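import Mathlib
import Cfsg.Agent.Lib.Helper74_BLGroup

/-!
# The counting inequality for the trivial intersection set of `p`-singular elements of `C_G(P)`
(helper74)
-/

set_option autoImplicit false
set_option linter.unusedSectionVars false
set_option linter.unusedVariables false

namespace Cfsg.Agent.Lib.Helper74_BLCount

open Cfsg Cfsg.Agent.Lib.Helper74_BLGroup

variable {G : Type*} [Group G] {p : ℕ} [Fintype G] [hp : Fact p.Prime] (P : Sylow p G)

/-- the counting inequality: a nonnegative conjugation invariant function summed over the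
`p`-singular elements of `C`, times `|G : N|`, is at most its sum over the nonidentity elements
of `G` -/
theorem counting (h : Unif P) (φ : G → ℝ) (hφ0 : ∀ g, 0 ≤ φ g)
    (hφ : ∀ x g : G, φ (x * g * x⁻¹) = φ g) [DecidablePred (fun a : G => a ∈ CC P ∧ p ∣ orderOf a)] :
    (Nat.card G : ℝ) * ∑ a ∈ Finset.univ.filter (fun a : G => a ∈ CC P ∧ p ∣ orderOf a), φ a
      + (Nat.card (NN P) : ℝ) * φ 1 ≤ (Nat.card (NN P) : ℝ) * ∑ g : G, φ g := by
  classical
  set A : Finset G := Finset.univ.filter (fun a : G => a ∈ CC P ∧ p ∣ orderOf a) with hA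
  have hmemA : ∀ a : G, a ∈ A ↔ a ∈ CC P ∧ p ∣ orderOf a := by
    intro a
    rw [hA, Finset.mem_filter]
    simp
  -- step 1
  have h1 : ∑ x : G, ∑ a ∈ A, φ (x * a * x⁻¹) = (Nat.card G : ℝ) * ∑ a ∈ A, φ a := by
    simp_rw [hφ]
    rw [Finset.sum_const, Finset.card_univ, nsmul_eq_mul, Nat.card_eq_fintype_card]
  -- step 2
  have h2 : ∀ x : G, ∑ a ∈ A, φ (x * a * x⁻¹) =
      ∑ g : G, if x⁻¹ * g * x ∈ A then φ g else 0 := by
    intro x
    rw [← Finset.sum_filter]
    apply Finset.sum_nbij' (fun a => x * a * x⁻¹) (fun g => x⁻¹ * g * x)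
    · intro a ha
      rw [Finset.mem_filter]
      refine ⟨Finset.mem_univ _, ?_⟩
      have : x⁻¹ * (x * a * x⁻¹) * x = a := by group
      rw [this]; exact ha
    · intro g hg
      exact (Finset.mem_filter.mp hg).2
    · intro a _
      group
    · intro g _
      group
    · intro a _
      rfl
  have h3 : ∑ x : G, ∑ a ∈ A, φ (x * a * x⁻¹) =
      ∑ g : G, ((Finset.univ.filter (fun x : G => x⁻¹ * g * x ∈ A)).card : ℝ) * φ g := by
    simp_rw [h2]
    rw [Finset.sum_comm]
    apply Finset.sum_congr rfl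
    intro g _
    rw [← Finset.sum_filter, Finset.sum_const, nsmul_eq_mul]
  -- step 3: bound the number of conjugators
  have hK1 : (Finset.univ.filter (fun x : G => x⁻¹ * (1 : G) * x ∈ A)).card = 0 := by
    rw [Finset.card_eq_zero, Finset.filter_eq_empty_iff]
    intro x _ hx
    have : x⁻¹ * (1 : G) * x = 1 := by group
    rw [this, hmemA, orderOf_one] at hx
    exact hp.out.one_lt.ne' (Nat.dvd_one.mp hx.2)
  have hK : ∀ g : G, (Finset.univ.filter (fun x : G => x⁻¹ * g * x ∈ A)).card ≤
      Nat.card (NN P) := by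
    intro g
    by_cases hne : (Finset.univ.filter (fun x : G => x⁻¹ * g * x ∈ A)).Nonempty
    · obtain ⟨x₀, hx₀⟩ := hne
      have hx₀' := (hmemA _).mp (Finset.mem_filter.mp hx₀).2
      have hNcard : Nat.card (NN P) = (Finset.univ.filter (fun y : G => y ∈ NN P)).card := by
        rw [Nat.card_eq_fintype_card, Fintype.card_subtype]
      rw [hNcard]
      apply Finset.card_le_card_of_injOn (fun x => x₀⁻¹ * x)
      · intro x hx
        have hx' := (hmemA _).mp (Finset.mem_filter.mp hx).2
        simp only [Finset.coe_filter, Finset.mem_univ, true_and, Set.mem_setOf_eq]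
        have hy : x⁻¹ * x₀ ∈ NN P := by
          apply mem_NN_of_singular P h hx₀'.1 hx₀'.2
          have : x⁻¹ * x₀ * (x₀⁻¹ * g * x₀) * (x⁻¹ * x₀)⁻¹ = x⁻¹ * g * x := by group
          rw [this]
          exact hx'.1
        have := (NN P).inv_mem hy
        have h5 : (x⁻¹ * x₀)⁻¹ = x₀⁻¹ * x := by group
        rwa [h5] at this
      · intro x _ y _ hxy
        exact mul_left_cancel hxy
    · rw [Finset.not_nonempty_iff_eq_empty] at hne
      rw [hne, Finset.card_empty]
      exact Nat.zero_le _
  have h4 : ∑ g : G, ((Finset.univ.filter (fun x : G => x⁻¹ * g * x ∈ A)).card : ℝ) * φ g ≤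
      (Nat.card (NN P) : ℝ) * ∑ g : G, φ g - (Nat.card (NN P) : ℝ) * φ 1 := by
    rw [Finset.mul_sum, ← Finset.sum_erase_add _ _ (Finset.mem_univ (1 : G)),
      ← Finset.sum_erase_add (f := fun g => (Nat.card (NN P) : ℝ) * φ g) _ (Finset.mem_univ (1 : G)),
      hK1]
    simp only [Nat.cast_zero, zero_mul, add_zero, add_sub_cancel_right]
    apply Finset.sum_le_sum
    intro g _
    apply mul_le_mul_of_nonneg_right _ (hφ0 g)
    exact_mod_cast hK g
  rw [← h1, h3]
  linarith

end Cfsg.Agent.Lib.Helper74_BLCount
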