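import Mathlib
import Cfsg.Prelude.Def_Characters
import Cfsg.Agent.Lib.Helper3_CharColumn
import Cfsg.Agent.Lib.Helper75_IndChar
import Cfsg.Agent.Lib.Helper80_CharInd
import Cfsg.Agent.Lib.Helper15_IndFun

/-!
# Taketa's theorem: M-groups are solvable (helper3)
-/

set_option autoImplicit false
set_option linter.unusedSectionVars false

namespace Cfsg.Agent.Lib.Helper3_Taketa

open scoped ComplexConjugate
open Cfsg.Agent.Lib.Helper3_CharBridge Cfsg.Agent.Lib.Helper3_CharOrtho
  Cfsg.Agent.Lib.Helper3_CharComplete Cfsg.Agent.Lib.Helper3_CharColumn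
open Cfsg.Agent.Lib.Helper75_Induced Cfsg.Agent.Lib.Helper75_CharArith
  Cfsg.Agent.Lib.Helper75_IndChar

variable {G : Type*} [Group G] [Fintype G]

/-- If a normal subgroup `N ≤ H` lies in the kernel of `θ`, it lies in the kernel of `θ^G`. -/
theorem indFun_eq_of_normal_le_ker (H : Subgroup G) (θ : H → ℂ) (N : Subgroup G) [hN : N.Normal]
    (hNH : N ≤ H) (hθ : ∀ n : G, ∀ hn : n ∈ N, θ ⟨n, hNH hn⟩ = θ 1) {n : G} (hn : n ∈ N) :
    Cfsg.indFun H θ n = Cfsg.indFun H θ 1 := by
  rw [indFun_apply, indFun_apply]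
  congr 1
  apply Finset.sum_congr rfl
  intro x _
  have h1 : x⁻¹ * n * x ∈ N := by
    have := hN.conj_mem n hn x⁻¹
    rwa [inv_inv] at this
  rw [extendByZero_of_mem H θ (hNH h1), hθ _ h1]
  have h2 : x⁻¹ * 1 * x = ((1 : H) : G) := by simp
  rw [h2, extendByZero_coe]

/-- If the permutation character `(1_H)^G` takes the same value at `g` and `1`, then `g ∈ H`. -/
theorem mem_of_indFun_one_eq (H : Subgroup G) {g : G}
    (hg : Cfsg.indFun H (fun _ => (1 : ℂ)) g = Cfsg.indFun H (fun _ => (1 : ℂ)) 1) : g ∈ H := by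
  classical
  rw [Cfsg.Agent.Lib.Helper15_IndFun.indFun_one_apply,
    Cfsg.Agent.Lib.Helper15_IndFun.indFun_one_apply] at hg
  have hH : (Nat.card H : ℂ) ≠ 0 := by exact_mod_cast Nat.card_pos.ne'
  have h1 := mul_left_cancel₀ (inv_ne_zero hH) hg
  have h2 : Nat.card {x : G // x⁻¹ * g * x ∈ H} = Nat.card {x : G // x⁻¹ * 1 * x ∈ H} := by
    exact_mod_cast h1
  have h3 : Nat.card {x : G // x⁻¹ * 1 * x ∈ H} = Nat.card G := by
    apply Nat.card_congr
    refine (Equiv.subtypeUnivEquiv ?_)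
    intro x
    simp
  rw [h3] at h2
  by_contra hgH
  have h4 : Nat.card {x : G // x⁻¹ * g * x ∈ H} < Nat.card G := by
    rw [Nat.card_eq_fintype_card, Nat.card_eq_fintype_card]
    apply Fintype.card_subtype_lt (x := (1 : G))
    simpa using hgH
  omega

/-- **Taketa's theorem**. -/
theorem taketa
    (hM : ∀ χ : G → ℂ, Cfsg.IsIrrCharacter G χ → ∃ (H : Subgroup G) (lam : H →* ℂˣ),
      χ = Cfsg.indFun H (fun h => (lam h : ℂ))) : Group.IsSolvable G := by
  classical
  -- main claim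
  have key : ∀ d : ℕ, ∀ χ : G → ℂ, Cfsg.IsIrrCharacter G χ → χ 1 = (d : ℂ) →
      ∀ n ∈ derivedSeries G d, χ n = χ 1 := by
    intro d
    induction d using Nat.strong_induction_on with
    | _ d ih =>
    intro χ hχ hd n hn
    obtain ⟨H, lam, hχH⟩ := hM χ hχ
    have : Fintype H := Fintype.ofFinite H
    set Φ : G → ℂ := Cfsg.indFun H (fun _ => (1 : ℂ)) with hΦdef
    have hΦ1 : Φ 1 = (d : ℂ) := by
      rw [hΦdef, Cfsg.Agent.Lib.Helper80_CharInd.indFun_one, mul_one, ← hd, hχH,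
        Cfsg.Agent.Lib.Helper80_CharInd.indFun_one]
      simp
    have hone : Cfsg.IsIrrCharacter G (fun _ => (1 : ℂ)) :=
      Cfsg.Agent.Lib.Helper80_CharBasic.isIrrCharacter_one G
    have honeH : Cfsg.IsCharacter H (fun _ => (1 : ℂ)) :=
      isCharacter_of_isIrrCharacter (Cfsg.Agent.Lib.Helper80_CharBasic.isIrrCharacter_one H)
    have hΦchar : Cfsg.IsCharacter G Φ := isCharacter_indFun H honeH
    obtain ⟨m, hm, hΦsum⟩ := exists_multiplicities hΦchar
    -- multiplicity of the trivial character is one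
    have hm1 : m ⟨_, hone⟩ = 1 := by
      have h1 := hm ⟨_, hone⟩
      rw [hΦdef, frobenius_reciprocity H _ _ (isClassFunction_of_isIrrCharacter hone)] at h1
      have h2 : Cfsg.classInner (fun _ : H => (1 : ℂ)) (fun _ : H => (1 : ℂ)) = 1 :=
        classInner_self_of_isIrrCharacter (Cfsg.Agent.Lib.Helper80_CharBasic.isIrrCharacter_one H)
      rw [h2] at h1
      exact_mod_cast h1.symm
    -- degrees
    choose deg hdegpos hdeg using fun ψ : Cfsg.IrrCharacter G => irr_one_eq_natCast ψ.2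
    have hsumdeg : d = ∑ ψ : Cfsg.IrrCharacter G, m ψ * deg ψ := by
      have h1 : Φ 1 = ∑ ψ : Cfsg.IrrCharacter G, (m ψ : ℂ) * (ψ : G → ℂ) 1 := by
        conv_lhs => rw [hΦsum]
        simp [Finset.sum_apply]
      rw [hΦ1] at h1
      simp_rw [hdeg] at h1
      exact_mod_cast h1
    have hdpos : 0 < d := by
      rw [hsumdeg]
      have : m ⟨_, hone⟩ * deg ⟨_, hone⟩ ≤ ∑ ψ : Cfsg.IrrCharacter G, m ψ * deg ψ :=
        Finset.single_le_sum (f := fun ψ => m ψ * deg ψ) (fun _ _ => Nat.zero_le _)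
          (Finset.mem_univ _)
      rw [hm1, one_mul] at this
      exact lt_of_lt_of_le (hdegpos _) this
    have hdeglt : ∀ ψ : Cfsg.IrrCharacter G, ψ ≠ ⟨_, hone⟩ → m ψ ≠ 0 → deg ψ < d := by
      intro ψ hψ hmψ
      have h1 : m ⟨_, hone⟩ * deg ⟨_, hone⟩ + m ψ * deg ψ ≤
          ∑ ψ : Cfsg.IrrCharacter G, m ψ * deg ψ := by
        have := Finset.sum_le_sum_of_subset (f := fun ψ => m ψ * deg ψ)
          (Finset.subset_univ ({⟨_, hone⟩, ψ} : Finset (Cfsg.IrrCharacter G)))
        rw [Finset.sum_pair hψ.symm] at this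
        exact this
      rw [hm1, one_mul, ← hsumdeg] at h1
      have h2 := hdegpos ⟨_, hone⟩
      have h3 : deg ψ ≤ m ψ * deg ψ := Nat.le_mul_of_pos_left _ (Nat.pos_of_ne_zero hmψ)
      omega
    -- `G^(d-1) ≤ H`
    have hle : derivedSeries G (d - 1) ≤ H := by
      intro x hx
      apply mem_of_indFun_one_eq
      show Φ x = Φ 1
      rw [hΦsum]
      simp only [Finset.sum_apply, Pi.smul_apply, smul_eq_mul]
      apply Finset.sum_congr rfl
      intro ψ _
      by_cases hmψ : m ψ = 0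
      · rw [hmψ, Nat.cast_zero, zero_mul, zero_mul]
      congr 1
      by_cases hψ : ψ = ⟨_, hone⟩
      · rw [hψ]
      · have h1 := hdeglt ψ hψ hmψ
        apply ih (deg ψ) h1 _ ψ.2 (hdeg ψ)
        exact derivedSeries_antitone G (by omega : deg ψ ≤ d - 1) hx
    -- `G^(d) ≤ ker lam`
    have hd' : d = (d - 1) + 1 := by omega
    have hle2 : derivedSeries G d ≤ (lam.ker).map H.subtype := by
      rw [hd', derivedSeries_succ, Subgroup.commutator_le]
      intro a ha b hb
      set a' : H := ⟨a, hle ha⟩ with ha'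
      set b' : H := ⟨b, hle hb⟩ with hb'
      refine ⟨a' * b' * a'⁻¹ * b'⁻¹, ?_, ?_⟩
      · show a' * b' * a'⁻¹ * b'⁻¹ ∈ lam.ker
        rw [MonoidHom.mem_ker, map_mul, map_mul, map_mul, map_inv, map_inv,
          mul_comm (lam a') (lam b'), mul_inv_cancel_right, mul_inv_cancel]
      · rw [commutatorElement_def]
        rfl
    have hle3 : derivedSeries G d ≤ H := hle2.trans (Subgroup.map_subtype_le _)
    have : (derivedSeries G d).Normal := derivedSeries_normal G d
    rw [hχH]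
    apply indFun_eq_of_normal_le_ker H _ (derivedSeries G d) hle3 _ hn
    intro x hx
    obtain ⟨y, hy, hyx⟩ := hle2 hx
    have hy' : y = ⟨x, hle3 hx⟩ := Subtype.ext hyx
    rw [← hy', MonoidHom.mem_ker.mp hy, map_one]
  -- conclusion
  choose deg hdegpos hdeg using fun ψ : Cfsg.IrrCharacter G => irr_one_eq_natCast ψ.2
  have : Fintype (Cfsg.IrrCharacter G) := Fintype.ofFinite _
  set D : ℕ := Finset.univ.sup deg with hD
  rw [Group.isSolvable_def]
  refine ⟨D, ?_⟩
  rw [eq_bot_iff]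
  intro g hg
  rw [Subgroup.mem_bot]
  have h1 : IsConj g 1 := by
    rw [isConj_iff_forall_irr]
    intro ψ
    apply key (deg ψ) ψ ψ.2 (hdeg ψ)
    exact derivedSeries_antitone G (Finset.le_sup (f := deg) (Finset.mem_univ ψ)) hg
  exact isConj_one_left.mp h1

end Cfsg.Agent.Lib.Helper3_Taketa
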