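import Mathlib
import Cfsg.Prelude.Def_Characters
import Cfsg.Agent.Lib.Helper3_Taketa
import Cfsg.Agent.Lib.Helper3_NilpMono
import Cfsg.Agent.Lib.Helper74_LinAct

/-!
# Two character degrees, nilpotent (more generally monomial) case (helper74)

If every irreducible character of `G` is induced from a linear character of a subgroup and has
degree `1` or `m`, then `G'` is abelian (Taketa's argument).
-/

set_option autoImplicit false
set_option linter.unusedSectionVars false

namespace Cfsg.Agent.Lib.Helper74_TwoDegA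

open scoped ComplexConjugate commutatorElement
open Cfsg
open Cfsg.Agent.Lib.Helper3_CharBridge Cfsg.Agent.Lib.Helper3_CharOrtho
  Cfsg.Agent.Lib.Helper3_CharComplete Cfsg.Agent.Lib.Helper3_CharColumn
open Cfsg.Agent.Lib.Helper75_Induced Cfsg.Agent.Lib.Helper75_CharArith
  Cfsg.Agent.Lib.Helper75_IndChar Cfsg.Agent.Lib.Helper3_Taketa
open Cfsg.Agent.Lib.Helper74_LinAct

universe u

variable {G : Type u} [Group G] [Fintype G]

/-- a linear character is trivial on the commutator subgroup -/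
theorem irr_eq_one_of_mem_commutator (χ : IrrCharacter G) (h1 : (χ : G → ℂ) 1 = 1) {x : G}
    (hx : x ∈ commutator G) : (χ : G → ℂ) x = 1 := by
  obtain ⟨f, rfl⟩ := exists_lin_of_one h1
  have := Abelianization.commutator_subset_ker f hx
  rw [MonoidHom.mem_ker] at this
  rw [lin_apply, this, Units.val_one]

/-- Taketa's argument for two degrees -/
theorem irr_eq_of_mem_derived_two
    (hM : ∀ χ : G → ℂ, Cfsg.IsIrrCharacter G χ → ∃ (H : Subgroup G) (lam : H →* ℂˣ),
      χ = Cfsg.indFun H (fun h => (lam h : ℂ)))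
    (m : ℕ) (hcd : ∀ χ : IrrCharacter G, (χ : G → ℂ) 1 = 1 ∨ (χ : G → ℂ) 1 = m)
    (χ : IrrCharacter G) {n : G} (hn : n ∈ ⁅commutator G, commutator G⁆) :
    (χ : G → ℂ) n = (χ : G → ℂ) 1 := by
  classical
  have hnc : n ∈ commutator G := by
    have : ⁅commutator G, commutator G⁆ ≤ commutator G := Subgroup.commutator_le_left _ _
    exact this hn
  rcases hcd χ with h1 | hd
  · rw [irr_eq_one_of_mem_commutator χ h1 hnc, h1]
  by_cases hm1 : m = 1
  · have h1 : (χ : G → ℂ) 1 = 1 := by rw [hd, hm1]; simp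
    rw [irr_eq_one_of_mem_commutator χ h1 hnc, h1]
  set d := m with hdm
  obtain ⟨χ, hχ⟩ := χ
  change χ 1 = (d : ℂ) at hd
  show χ n = χ 1
  obtain ⟨H, lam, hχH⟩ := hM χ hχ
  have : Fintype H := Fintype.ofFinite H
  set Φ : G → ℂ := Cfsg.indFun H (fun _ => (1 : ℂ)) with hΦdef
  have hΦ1 : Φ 1 = (d : ℂ) := by
    rw [hΦdef, Cfsg.Agent.Lib.Helper80_CharInd.indFun_one, mul_one, ← hd, hχH,
      Cfsg.Agent.Lib.Helper80_CharInd.indFun_one]
    simp
  have hone : Cfsg.IsIrrCharacter G (fun _ => (1 : ℂ)) :=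
    Cfsg.Agent.Lib.Helper80_CharBasic.isIrrCharacter_one G
  have honeH : Cfsg.IsCharacter H (fun _ => (1 : ℂ)) :=
    isCharacter_of_isIrrCharacter (Cfsg.Agent.Lib.Helper80_CharBasic.isIrrCharacter_one H)
  have hΦchar : Cfsg.IsCharacter G Φ := isCharacter_indFun H honeH
  obtain ⟨mu, hmu, hΦsum⟩ := exists_multiplicities hΦchar
  have hm1' : mu ⟨_, hone⟩ = 1 := by
    have h1 := hmu ⟨_, hone⟩
    rw [hΦdef, frobenius_reciprocity H _ _ (isClassFunction_of_isIrrCharacter hone)] at h1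
    have h2 : Cfsg.classInner (fun _ : H => (1 : ℂ)) (fun _ : H => (1 : ℂ)) = 1 :=
      classInner_self_of_isIrrCharacter (Cfsg.Agent.Lib.Helper80_CharBasic.isIrrCharacter_one H)
    rw [h2] at h1
    exact_mod_cast h1.symm
  choose deg hdegpos hdeg using fun ψ : Cfsg.IrrCharacter G => irr_one_eq_natCast ψ.2
  have hsumdeg : d = ∑ ψ : Cfsg.IrrCharacter G, mu ψ * deg ψ := by
    have h1 : Φ 1 = ∑ ψ : Cfsg.IrrCharacter G, (mu ψ : ℂ) * (ψ : G → ℂ) 1 := by
      conv_lhs => rw [hΦsum]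
      simp [Finset.sum_apply]
    rw [hΦ1] at h1
    simp_rw [hdeg] at h1
    exact_mod_cast h1
  have hdeglt : ∀ ψ : Cfsg.IrrCharacter G, ψ ≠ ⟨_, hone⟩ → mu ψ ≠ 0 → deg ψ < d := by
    intro ψ hψ hmψ
    have h1 : mu ⟨_, hone⟩ * deg ⟨_, hone⟩ + mu ψ * deg ψ ≤
        ∑ ψ : Cfsg.IrrCharacter G, mu ψ * deg ψ := by
      have := Finset.sum_le_sum_of_subset (f := fun ψ => mu ψ * deg ψ)
        (Finset.subset_univ ({⟨_, hone⟩, ψ} : Finset (Cfsg.IrrCharacter G)))
      rw [Finset.sum_pair hψ.symm] at this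
      exact this
    rw [hm1', one_mul, ← hsumdeg] at h1
    have h2 := hdegpos ⟨_, hone⟩
    have h3 : deg ψ ≤ mu ψ * deg ψ := Nat.le_mul_of_pos_left _ (Nat.pos_of_ne_zero hmψ)
    omega
  -- `G' ≤ H`
  have hle : commutator G ≤ H := by
    intro x hx
    apply mem_of_indFun_one_eq
    show Φ x = Φ 1
    rw [hΦsum]
    simp only [Finset.sum_apply, Pi.smul_apply, smul_eq_mul]
    apply Finset.sum_congr rfl
    intro ψ _
    by_cases hmψ : mu ψ = 0
    · rw [hmψ, Nat.cast_zero, zero_mul, zero_mul]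
    congr 1
    by_cases hψ : ψ = ⟨_, hone⟩
    · rw [hψ]
    · have h1 := hdeglt ψ hψ hmψ
      have h2 : (ψ : G → ℂ) 1 = 1 := by
        rcases hcd ψ with h | h
        · exact h
        · exfalso
          rw [hdeg ψ] at h
          have : deg ψ = d := by exact_mod_cast h
          omega
      rw [irr_eq_one_of_mem_commutator ψ h2 hx, h2]
  have hle2 : ⁅commutator G, commutator G⁆ ≤ (lam.ker).map H.subtype := by
    rw [Subgroup.commutator_le]
    intro a ha b hb
    set a' : H := ⟨a, hle ha⟩ with ha'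
    set b' : H := ⟨b, hle hb⟩ with hb'
    refine ⟨a' * b' * a'⁻¹ * b'⁻¹, ?_, ?_⟩
    · show a' * b' * a'⁻¹ * b'⁻¹ ∈ lam.ker
      rw [MonoidHom.mem_ker, map_mul, map_mul, map_mul, map_inv, map_inv,
        mul_comm (lam a') (lam b'), mul_inv_cancel_right, mul_inv_cancel]
    · rw [commutatorElement_def]
      rfl
  have hle3 : ⁅commutator G, commutator G⁆ ≤ H := hle2.trans (Subgroup.map_subtype_le _)
  have hnorm : (⁅commutator G, commutator G⁆ : Subgroup G).Normal := by
    have h1 : (commutator G).Normal := by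
      rw [commutator_def]
      infer_instance
    exact Subgroup.commutator_normal _ _
  rw [hχH]
  apply indFun_eq_of_normal_le_ker H _ ⁅commutator G, commutator G⁆ hle3 _ hn
  intro x hx
  obtain ⟨y, hy, hyx⟩ := hle2 hx
  have hy' : y = ⟨x, hle3 hx⟩ := Subtype.ext hyx
  rw [← hy', MonoidHom.mem_ker.mp hy, map_one]

/-- monomial group with two character degrees: `G'` is abelian -/
theorem commutator_comm_of_monomial
    (hM : ∀ χ : G → ℂ, Cfsg.IsIrrCharacter G χ → ∃ (H : Subgroup G) (lam : H →* ℂˣ),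
      χ = Cfsg.indFun H (fun h => (lam h : ℂ)))
    (m : ℕ) (hcd : ∀ χ : IrrCharacter G, (χ : G → ℂ) 1 = 1 ∨ (χ : G → ℂ) 1 = m) :
    ∀ a ∈ commutator G, ∀ b ∈ commutator G, a * b = b * a := by
  intro a ha b hb
  have hmem : ⁅a, b⁆ ∈ ⁅commutator G, commutator G⁆ := Subgroup.commutator_mem_commutator ha hb
  have h1 : IsConj ⁅a, b⁆ 1 := by
    rw [isConj_iff_forall_irr]
    intro ψ
    exact irr_eq_of_mem_derived_two hM m hcd ψ hmem
  have h2 : ⁅a, b⁆ = 1 := isConj_one_left.mp h1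
  rw [commutatorElement_eq_one_iff_mul_comm] at h2
  exact h2

theorem commutator_comm_of_nilpotent [Group.IsNilpotent G]
    (m : ℕ) (hcd : ∀ χ : IrrCharacter G, (χ : G → ℂ) 1 = 1 ∨ (χ : G → ℂ) 1 = m) :
    ∀ a ∈ commutator G, ∀ b ∈ commutator G, a * b = b * a :=
  commutator_comm_of_monomial
    (fun χ hχ => Cfsg.Agent.Lib.Helper3_NilpMono.monomial_of_nilpotent χ hχ) m hcd

end Cfsg.Agent.Lib.Helper74_TwoDegA
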