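import Mathlib
import Cfsg.Prelude.Def_Characters
import Cfsg.Agent.Lib.Helper3_CharCenter
import Cfsg.Agent.Lib.Helper3_CharEigen
import Cfsg.Agent.Lib.Helper3_CharColumn
import Cfsg.Agent.Lib.Helper80_CharBasic
import Cfsg.Agent.Lib.Helper80_CharInd
import Cfsg.Agent.Lib.Helper59_CliffordDeg
import Cfsg.Agent.Lib.Helper75_CharArith
import Cfsg.Agent.Lib.Helper74_TwoDegA
import Cfsg.Agent.S4835
import Cfsg.Agent.S0015

/-!
# Character tools for groups with character degrees `1` and `p` (helper74)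

Central elements act by scalars (character form), characters vanish on elements that are central
modulo a central subgroup of prime order not in the kernel, separation of elements by characters
that are nontrivial on a given central subgroup (nilpotent groups), restriction of a character of
prime degree to a normal subgroup.
-/

set_option autoImplicit false

namespace Cfsg.Agent.Lib.Helper74_DegPChar

open Cfsg
open scoped ComplexConjugate

universe u

variable {G : Type u} [Group G]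

/-- central elements act by scalars: character form -/
theorem central_mul [Finite G] (χ : IrrCharacter G) {z : G} (hz : z ∈ Subgroup.center G) (g : G) :
    (χ : G → ℂ) (z * g) * (χ : G → ℂ) 1 = (χ : G → ℂ) z * (χ : G → ℂ) g := by
  have : Fintype G := Fintype.ofFinite G
  obtain ⟨n, ρ, hirr, hρ⟩ := χ.2
  have := hirr
  obtain ⟨c, hc⟩ := Cfsg.Agent.Lib.Helper3_CharCenter.exists_scalar_of_mem_center ρ hz
  rw [← hρ]
  have h1 : ρ.character (z * g) = c * ρ.character g := by
    rw [Representation.character, Representation.character, map_mul, hc]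
    rw [show (c • (LinearMap.id : (Fin n → ℂ) →ₗ[ℂ] (Fin n → ℂ))) * ρ g = c • ρ g from by
      ext v; simp]
    rw [map_smul, smul_eq_mul]
  have h2 : ρ.character z = c * ρ.character 1 := by
    rw [Representation.character, Representation.character, hc, map_one, map_smul, smul_eq_mul]
    rfl
  rw [h1, h2]
  ring

/-- central elements have character values of maximal norm -/
theorem central_norm [Finite G] (χ : IrrCharacter G) {z : G} (hz : z ∈ Subgroup.center G) :
    ‖(χ : G → ℂ) z‖ = ‖(χ : G → ℂ) 1‖ := by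
  have : Fintype G := Fintype.ofFinite G
  obtain ⟨n, ρ, hirr, hρ⟩ := χ.2
  have := hirr
  obtain ⟨c, hc⟩ := Cfsg.Agent.Lib.Helper3_CharCenter.exists_scalar_of_mem_center ρ hz
  rw [← hρ]
  have h1 := (Cfsg.Agent.Lib.Helper3_CharEigen.norm_char_eq_iff ρ z).mpr ⟨c, hc⟩
  rw [h1, Representation.char_one]
  simp

theorem sum_norm_sq [Fintype G] (χ : IrrCharacter G) :
    ∑ g : G, ‖(χ : G → ℂ) g‖ ^ 2 = (Nat.card G : ℝ) := by
  have h := Cfsg.Agent.Lib.Helper80_CharComplete.irr_norm_conj χ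
  have h2 : ∀ g : G, (χ : G → ℂ) g * conj ((χ : G → ℂ) g) =
      ((‖(χ : G → ℂ) g‖ ^ 2 : ℝ) : ℂ) := by
    intro g
    rw [Complex.mul_conj, Complex.normSq_eq_norm_sq]
  simp_rw [h2] at h
  exact_mod_cast h

/-- `|Z| χ(1)² ≤ |G|` for a central subgroup `Z` -/
theorem card_mul_sq_le [Fintype G] (χ : IrrCharacter G) (Z : Subgroup G)
    (hZ : Z ≤ Subgroup.center G) (d : ℕ) (hd : (χ : G → ℂ) 1 = d) :
    Nat.card Z * d ^ 2 ≤ Nat.card G := by
  classical
  have h1 := sum_norm_sq χ
  have h2 : ∑ g ∈ Finset.univ.filter (fun g : G => g ∈ Z), ‖(χ : G → ℂ) g‖ ^ 2 ≤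
      ∑ g : G, ‖(χ : G → ℂ) g‖ ^ 2 :=
    Finset.sum_le_univ_sum_of_nonneg (fun g => by positivity)
  have h3 : ∑ g ∈ Finset.univ.filter (fun g : G => g ∈ Z), ‖(χ : G → ℂ) g‖ ^ 2 =
      (Nat.card Z : ℝ) * (d : ℝ) ^ 2 := by
    have h4 : ∀ g ∈ Finset.univ.filter (fun g : G => g ∈ Z), ‖(χ : G → ℂ) g‖ ^ 2 = (d : ℝ) ^ 2 := by
      intro g hg
      rw [central_norm χ (hZ (Finset.mem_filter.mp hg).2), hd]
      simp
    rw [Finset.sum_congr rfl h4, Finset.sum_const, nsmul_eq_mul, Nat.card_eq_fintype_card,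
      Fintype.card_subtype]
  rw [h3, h1] at h2
  exact_mod_cast h2

/-- equality when `χ` vanishes off `Z` -/
theorem card_mul_sq_eq [Fintype G] (χ : IrrCharacter G) (Z : Subgroup G)
    (hZ : Z ≤ Subgroup.center G) (d : ℕ) (hd : (χ : G → ℂ) 1 = d)
    (hvan : ∀ g : G, g ∉ Z → (χ : G → ℂ) g = 0) :
    Nat.card Z * d ^ 2 = Nat.card G := by
  classical
  have h1 := sum_norm_sq χ
  have h2 : ∑ g ∈ Finset.univ.filter (fun g : G => g ∈ Z), ‖(χ : G → ℂ) g‖ ^ 2 =
      ∑ g : G, ‖(χ : G → ℂ) g‖ ^ 2 := by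
    apply Finset.sum_subset (Finset.filter_subset _ _)
    intro g _ hg
    have hgZ : g ∉ Z := fun h => hg (Finset.mem_filter.mpr ⟨Finset.mem_univ g, h⟩)
    rw [hvan g hgZ]
    simp
  have h3 : ∑ g ∈ Finset.univ.filter (fun g : G => g ∈ Z), ‖(χ : G → ℂ) g‖ ^ 2 =
      (Nat.card Z : ℝ) * (d : ℝ) ^ 2 := by
    have h4 : ∀ g ∈ Finset.univ.filter (fun g : G => g ∈ Z), ‖(χ : G → ℂ) g‖ ^ 2 = (d : ℝ) ^ 2 := by
      intro g hg
      rw [central_norm χ (hZ (Finset.mem_filter.mp hg).2), hd]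
      simp
    rw [Finset.sum_congr rfl h4, Finset.sum_const, nsmul_eq_mul, Nat.card_eq_fintype_card,
      Fintype.card_subtype]
  rw [h3, h1] at h2
  exact_mod_cast h2

/-- a character vanishes at `z` if some conjugate of `z` is `c * z` with `c` central, not in
the kernel -/
theorem vanish_of_conj [Finite G] (χ : IrrCharacter G) {z g c : G}
    (hc : c ∈ Subgroup.center G) (hcz : g⁻¹ * z * g = c * z)
    (hχc : (χ : G → ℂ) c ≠ (χ : G → ℂ) 1) : (χ : G → ℂ) z = 0 := by
  have h1 : (χ : G → ℂ) (g⁻¹ * z * g) = (χ : G → ℂ) z := by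
    have := Cfsg.Agent.Lib.Helper80_CharBasic.irr_conj χ z g⁻¹
    rwa [inv_inv] at this
  rw [hcz] at h1
  have h2 := central_mul χ hc z
  rw [h1] at h2
  have h3 : (χ : G → ℂ) z * ((χ : G → ℂ) 1 - (χ : G → ℂ) c) = 0 := by
    rw [mul_sub, h2]
    ring
  rcases mul_eq_zero.mp h3 with h | h
  · exact h
  · exact absurd (sub_eq_zero.mp h).symm hχc

theorem irr_one_ne_zero (χ : IrrCharacter G) : (χ : G → ℂ) 1 ≠ 0 := by
  obtain ⟨d, hdpos, hd⟩ := Cfsg.Agent.Lib.Helper80_CharBasic.irr_apply_one χ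
  rw [hd]
  exact_mod_cast hdpos.ne'

theorem irr_one_conj (χ : IrrCharacter G) : conj ((χ : G → ℂ) 1) = (χ : G → ℂ) 1 := by
  obtain ⟨d, hdpos, hd⟩ := Cfsg.Agent.Lib.Helper80_CharBasic.irr_apply_one χ
  rw [hd]
  simp

/-- two central nonidentity elements are simultaneously outside the kernel of some irreducible
character -/
theorem exists_irr_sep_central [Fintype G] {k x : G} (hk : k ∈ Subgroup.center G)
    (hx : x ∈ Subgroup.center G) (hk1 : k ≠ 1) (hx1 : x ≠ 1) :
    ∃ χ : IrrCharacter G, (χ : G → ℂ) k ≠ (χ : G → ℂ) 1 ∧ (χ : G → ℂ) x ≠ (χ : G → ℂ) 1 := by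
  classical
  by_contra hcon
  push Not at hcon
  have hE : ∀ χ : IrrCharacter G, (χ : G → ℂ) 1 - (χ : G → ℂ) k⁻¹ - (χ : G → ℂ) x +
      (χ : G → ℂ) (x * k⁻¹) = 0 := by
    intro χ
    have h0 := irr_one_ne_zero χ
    by_cases h : (χ : G → ℂ) k = (χ : G → ℂ) 1
    · have h1 : (χ : G → ℂ) k⁻¹ = (χ : G → ℂ) 1 := by
        rw [Cfsg.Agent.Lib.Helper80_CharBasic.irr_inv, h, irr_one_conj]
      have h2 := central_mul χ (Subgroup.inv_mem _ hk) x
      rw [h1] at h2
      have h3 : (χ : G → ℂ) (k⁻¹ * x) = (χ : G → ℂ) x := by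
        apply mul_right_cancel₀ h0
        rw [h2, mul_comm]
      have h4 : x * k⁻¹ = k⁻¹ * x := (Subgroup.mem_center_iff.mp hx k⁻¹).symm
      rw [h4, h3, h1]
      ring
    · have h1 := hcon χ h
      have h2 := central_mul χ hx k⁻¹
      rw [h1] at h2
      have h3 : (χ : G → ℂ) (x * k⁻¹) = (χ : G → ℂ) k⁻¹ := by
        apply mul_right_cancel₀ h0
        rw [h2, mul_comm]
      rw [h3, h1]
      ring
  have hsum : ∑ χ : IrrCharacter G, ((χ : G → ℂ) 1 - (χ : G → ℂ) k⁻¹ - (χ : G → ℂ) x +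
      (χ : G → ℂ) (x * k⁻¹)) * conj ((χ : G → ℂ) 1) = 0 := by
    apply Finset.sum_eq_zero
    intro χ _
    rw [hE χ, zero_mul]
  simp only [add_mul, sub_mul] at hsum
  rw [Finset.sum_add_distrib, Finset.sum_sub_distrib, Finset.sum_sub_distrib] at hsum
  rw [Cfsg.Agent.Lib.Helper3_CharColumn.column_orthogonality (1 : G) 1,
    Cfsg.Agent.Lib.Helper3_CharColumn.column_orthogonality k⁻¹ 1,
    Cfsg.Agent.Lib.Helper3_CharColumn.column_orthogonality x 1,
    Cfsg.Agent.Lib.Helper3_CharColumn.column_orthogonality (x * k⁻¹) 1] at hsum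
  rw [if_pos (IsConj.refl 1), if_neg (fun h => hk1 (inv_eq_one.mp (isConj_one_left.mp h))),
    if_neg (fun h => hx1 (isConj_one_left.mp h)), sub_zero, sub_zero] at hsum
  have hpos : 0 < Nat.card (Subgroup.centralizer ({(1 : G)} : Set G)) := Nat.card_pos
  split_ifs at hsum with h
  · have : (0 : ℕ) < Nat.card (Subgroup.centralizer ({(1 : G)} : Set G)) +
        Nat.card (Subgroup.centralizer ({x * k⁻¹} : Set G)) := by omega
    have h5 : ((Nat.card (Subgroup.centralizer ({(1 : G)} : Set G)) +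
        Nat.card (Subgroup.centralizer ({x * k⁻¹} : Set G)) : ℕ) : ℂ) = 0 := by
      push_cast
      exact hsum
    have h6 : Nat.card (Subgroup.centralizer ({(1 : G)} : Set G)) +
        Nat.card (Subgroup.centralizer ({x * k⁻¹} : Set G)) = 0 := by exact_mod_cast h5
    omega
  · rw [add_zero] at hsum
    have h6 : Nat.card (Subgroup.centralizer ({(1 : G)} : Set G)) = 0 := by exact_mod_cast hsum
    omega

/-- in a nilpotent group: a central nonidentity element and an arbitrary nonidentity element are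
simultaneously outside the kernel of some irreducible character -/
theorem exists_irr_sep [Fintype G] [Group.IsNilpotent G] {k c : G}
    (hk : k ∈ Subgroup.center G) (hk1 : k ≠ 1) (hc1 : c ≠ 1) :
    ∃ χ : IrrCharacter G, (χ : G → ℂ) k ≠ (χ : G → ℂ) 1 ∧ (χ : G → ℂ) c ≠ (χ : G → ℂ) 1 := by
  have hL : Subgroup.normalClosure ({c} : Set G) ≠ ⊥ := by
    intro h
    apply hc1
    have : c ∈ Subgroup.normalClosure ({c} : Set G) :=
      Subgroup.subset_normalClosure (Set.mem_singleton c)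
    rw [h] at this
    exact Subgroup.mem_bot.mp this
  obtain ⟨x, hxL, hx1, hxZ⟩ := Cfsg.Agent.S0015.exists_ne_one_mem_center _ hL
  obtain ⟨χ, hχk, hχx⟩ := exists_irr_sep_central hk hxZ hk1 hx1
  refine ⟨χ, hχk, ?_⟩
  intro h
  apply hχx
  have h1 : c ∈ Cfsg.Agent.S4835.irrKer χ := h
  have h2 : Subgroup.normalClosure ({c} : Set G) ≤ Cfsg.Agent.S4835.irrKer χ :=
    Subgroup.normalClosure_le_normal (Set.singleton_subset_iff.mpr h1)
  exact h2 hxL

/-- restriction of a character of prime degree to a normal subgroup: irreducible, or the derived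
subgroup of the normal subgroup lies in the kernel -/
theorem res_irr_or_comm [Fintype G] (M : Subgroup G) [hM : M.Normal] (χ : IrrCharacter G)
    (p : ℕ) (hp : p.Prime) (hχ : (χ : G → ℂ) 1 = p) :
    IsIrrCharacter M (fun m : M => (χ : G → ℂ) m) ∨
      ∀ x y : M, (χ : G → ℂ) ((x * y * x⁻¹ * y⁻¹ : M) : G) = (χ : G → ℂ) 1 := by
  classical
  have : Fintype M := Fintype.ofFinite M
  set φ : M → ℂ := fun m : M => (χ : G → ℂ) m with hφ
  have hφc : IsCharacter M φ :=
    Cfsg.Agent.Lib.Helper75_CharArith.isCharacter_restrict M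
      (Cfsg.Agent.Lib.Helper3_CharBridge.isCharacter_of_isIrrCharacter χ.2)
  obtain ⟨mu, hmu, hsum⟩ := Cfsg.Agent.Lib.Helper75_CharArith.exists_multiplicities hφc
  by_cases h : ∃ θ : IrrCharacter M, mu θ ≠ 0 ∧ (θ : M → ℂ) 1 ≠ 1
  · left
    obtain ⟨θ, hθm, hθ1⟩ := h
    obtain ⟨d, hdpos, hd⟩ := Cfsg.Agent.Lib.Helper80_CharBasic.irr_apply_one θ
    have hne : classInner φ (θ : M → ℂ) ≠ 0 := by
      rw [hmu θ]
      exact_mod_cast hθm
    have hdvd : d ∣ p :=
      Cfsg.Agent.Lib.Helper59_CliffordDeg.degree_dvd_of_clifford M hM χ.2 θ.2 hne p d hχ hd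
    have hdp : d = p := by
      rcases (Nat.dvd_prime hp).mp hdvd with h1 | h1
      · exfalso
        apply hθ1
        rw [hd, h1]
        simp
      · exact h1
    have heq := Cfsg.Agent.Lib.Helper80_CharInd.eq_of_constituent_of_degree_le φ hφc θ hne p d
      hχ hd hdp.ge
    rw [heq]
    exact θ.2
  · right
    push Not at h
    intro x y
    have hc : x * y * x⁻¹ * y⁻¹ ∈ commutator M := by
      rw [commutator_def, ← commutatorElement_def]
      exact Subgroup.commutator_mem_commutator (Subgroup.mem_top x) (Subgroup.mem_top y)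
    show φ (x * y * x⁻¹ * y⁻¹) = φ 1
    rw [hsum]
    simp only [Finset.sum_apply, Pi.smul_apply, smul_eq_mul]
    apply Finset.sum_congr rfl
    intro θ _
    by_cases hθ : mu θ = 0
    · rw [hθ, Nat.cast_zero, zero_mul, zero_mul]
    · have h1 := h θ hθ
      rw [Cfsg.Agent.Lib.Helper74_TwoDegA.irr_eq_one_of_mem_commutator θ h1 hc, h1]

end Cfsg.Agent.Lib.Helper74_DegPChar
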