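import Mathlib
import Cfsg.Prelude.Def_Characters
import Cfsg.Agent.Lib.Helper74_LinAct
import Cfsg.Agent.Lib.Helper74_GoingUp
import Cfsg.Agent.Lib.Helper74_DegPChar
import Cfsg.Agent.Lib.Helper75_CharArith
import Cfsg.Agent.Lib.Helper17_CohSys

/-!
# Isotypic components of a function with respect to a central abelian subgroup (helper74)

`ι : Z →* Γ` has central image and `Z` is abelian.  For `lam : Z →* ℂˣ` and `θ : Γ → ℂ`,
`comp ι lam θ` is the `lam`-isotypic component of `θ`.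
-/

set_option autoImplicit false
set_option linter.unusedSectionVars false
set_option linter.unusedVariables false

namespace Cfsg.Agent.Lib.Helper74_BLIso

open Cfsg Cfsg.Agent.Lib.Helper74_LinAct Cfsg.Agent.Lib.Helper74_GoingUp
open scoped ComplexConjugate

variable {Γ Z : Type*} [Group Γ] [Group Z] [Fintype Γ] [Fintype Z] (ι : Z →* Γ)

/-- the `lam`-isotypic component -/
noncomputable def comp (lam : Z →* ℂˣ) (θ : Γ → ℂ) : Γ → ℂ :=
  fun c => (Nat.card Z : ℂ)⁻¹ * ∑ z : Z, conj ((lam z : ℂˣ) : ℂ) * θ (ι z * c)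

theorem comp_apply (lam : Z →* ℂˣ) (θ : Γ → ℂ) (c : Γ) :
    comp ι lam θ c = (Nat.card Z : ℂ)⁻¹ * ∑ z : Z, conj ((lam z : ℂˣ) : ℂ) * θ (ι z * c) := rfl

theorem card_ne_zero : (Nat.card Z : ℂ) ≠ 0 := by
  rw [Nat.cast_ne_zero]; exact Nat.card_pos.ne'

theorem comp_add (lam : Z →* ℂˣ) (θ θ' : Γ → ℂ) :
    comp ι lam (θ + θ') = comp ι lam θ + comp ι lam θ' := by
  funext c
  simp only [comp_apply, Pi.add_apply, mul_add, Finset.sum_add_distrib]

theorem comp_smul (lam : Z →* ℂˣ) (a : ℂ) (θ : Γ → ℂ) :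
    comp ι lam (a • θ) = a • comp ι lam θ := by
  funext c
  simp only [comp_apply, Pi.smul_apply, smul_eq_mul, Finset.mul_sum]
  apply Finset.sum_congr rfl
  intro z _
  ring

theorem comp_zero (lam : Z →* ℂˣ) : comp ι lam (0 : Γ → ℂ) = 0 := by
  funext c
  simp [comp_apply]

theorem comp_sum {κ : Type*} (s : Finset κ) (lam : Z →* ℂˣ) (θ : κ → Γ → ℂ) :
    comp ι lam (∑ i ∈ s, θ i) = ∑ i ∈ s, comp ι lam (θ i) := by
  classical
  induction s using Finset.induction_on with
  | empty => simp [comp_zero]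
  | insert a s ha ih => rw [Finset.sum_insert ha, Finset.sum_insert ha, comp_add, ih]

/-- the transformation rule of an isotypic component -/
theorem comp_mul (lam : Z →* ℂˣ) (θ : Γ → ℂ) (z₀ : Z) (c : Γ) :
    comp ι lam θ (ι z₀ * c) = ((lam z₀ : ℂˣ) : ℂ) * comp ι lam θ c := by
  rw [comp_apply, comp_apply]
  have h1 : ∑ z : Z, conj ((lam z : ℂˣ) : ℂ) * θ (ι z * (ι z₀ * c)) =
      ∑ z : Z, conj ((lam (z * z₀⁻¹) : ℂˣ) : ℂ) * θ (ι z * c) := by
    apply Fintype.sum_equiv (Equiv.mulRight z₀)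
    intro z
    simp only [Equiv.coe_mulRight]
    rw [mul_inv_cancel_right, map_mul, mul_assoc]
  rw [h1]
  have h2 : ∀ z : Z, conj ((lam (z * z₀⁻¹) : ℂˣ) : ℂ) =
      ((lam z₀ : ℂˣ) : ℂ) * conj ((lam z : ℂˣ) : ℂ) := by
    intro z
    rw [map_mul, Units.val_mul, map_mul, map_inv, ← MonoidHom.inv_apply, ← conj_hom,
      Complex.conj_conj, mul_comm]
  simp_rw [h2, mul_assoc]
  rw [← Finset.mul_sum]
  ring

/-- the isotypic components add up to the function -/
theorem sum_comp (hcomm : ∀ a b : Z, a * b = b * a) [Fintype (Z →* ℂˣ)] (θ : Γ → ℂ) (c : Γ) :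
    ∑ lam : Z →* ℂˣ, comp ι lam θ c = θ c := by
  classical
  simp only [comp_apply]
  rw [← Finset.mul_sum, Finset.sum_comm]
  have h1 : ∀ z : Z, ∑ lam : Z →* ℂˣ, conj ((lam z : ℂˣ) : ℂ) * θ (ι z * c) =
      (if z = 1 then (Nat.card Z : ℂ) else 0) * θ (ι z * c) := by
    intro z
    rw [← Finset.sum_mul]
    congr 1
    have h2 := sum_dual_apply hcomm z⁻¹
    have h3 : ∀ lam : Z →* ℂˣ, conj ((lam z : ℂˣ) : ℂ) = ((lam z⁻¹ : ℂˣ) : ℂ) := by
      intro lam
      rw [conj_hom, MonoidHom.inv_apply, map_inv]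
    simp_rw [h3]
    rw [h2]
    simp only [inv_eq_one]
  simp_rw [h1]
  rw [Finset.sum_eq_single (1 : Z)]
  · rw [if_pos rfl, map_one, one_mul, ← mul_assoc, inv_mul_cancel₀ card_ne_zero, one_mul]
  · intro z _ hz
    rw [if_neg hz, zero_mul]
  · intro h
    exact absurd (Finset.mem_univ _) h

/-- orthogonality of different isotypic components -/
theorem sum_comp_mul_conj_eq_zero {lam lam' : Z →* ℂˣ} (hne : lam ≠ lam') (θ θ' : Γ → ℂ) :
    ∑ c : Γ, comp ι lam θ c * conj (comp ι lam' θ' c) = 0 := by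
  obtain ⟨z₀, hz₀⟩ : ∃ z₀ : Z, lam z₀ ≠ lam' z₀ := by
    by_contra hcon
    push Not at hcon
    exact hne (MonoidHom.ext hcon)
  set S := ∑ c : Γ, comp ι lam θ c * conj (comp ι lam' θ' c) with hS
  have h1 : S = ∑ c : Γ, comp ι lam θ (ι z₀ * c) * conj (comp ι lam' θ' (ι z₀ * c)) := by
    rw [hS]
    symm
    apply Fintype.sum_equiv (Equiv.mulLeft (ι z₀))
    intro c
    rfl
  simp_rw [comp_mul] at h1
  have h2 : ∀ c : Γ, ((lam z₀ : ℂˣ) : ℂ) * comp ι lam θ c *
      conj (((lam' z₀ : ℂˣ) : ℂ) * comp ι lam' θ' c) =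
      (((lam z₀ : ℂˣ) : ℂ) * conj ((lam' z₀ : ℂˣ) : ℂ)) *
        (comp ι lam θ c * conj (comp ι lam' θ' c)) := by
    intro c
    rw [map_mul]; ring
  simp_rw [h2] at h1
  rw [← Finset.mul_sum] at h1
  have h3 : ((lam z₀ : ℂˣ) : ℂ) * conj ((lam' z₀ : ℂˣ) : ℂ) ≠ 1 := by
    intro h4
    apply hz₀
    have h5 := mul_conj_hom lam' z₀
    have hne' : conj ((lam' z₀ : ℂˣ) : ℂ) ≠ 0 := by
      intro h6
      rw [h6, mul_zero] at h5
      exact zero_ne_one h5
    have h7 : ((lam z₀ : ℂˣ) : ℂ) = ((lam' z₀ : ℂˣ) : ℂ) := by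
      apply mul_right_cancel₀ hne'
      rw [h4, h5]
    exact Units.ext h7
  have h4 : (1 - ((lam z₀ : ℂˣ) : ℂ) * conj ((lam' z₀ : ℂˣ) : ℂ)) * S = 0 := by
    rw [sub_mul, one_mul, ← h1, sub_self]
  rcases mul_eq_zero.mp h4 with h5 | h5
  · exact absurd (sub_eq_zero.mp h5).symm h3
  · exact h5

/-- Parseval for the isotypic decomposition -/
theorem sum_mul_conj_eq (hcomm : ∀ a b : Z, a * b = b * a) [Fintype (Z →* ℂˣ)] (θ : Γ → ℂ) :
    ∑ c : Γ, θ c * conj (θ c) =
      ∑ lam : Z →* ℂˣ, ∑ c : Γ, comp ι lam θ c * conj (comp ι lam θ c) := by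
  classical
  have h1 : ∀ c : Γ, θ c * conj (θ c) =
      ∑ lam : Z →* ℂˣ, ∑ lam' : Z →* ℂˣ, comp ι lam θ c * conj (comp ι lam' θ c) := by
    intro c
    conv_lhs => rw [← sum_comp ι hcomm θ c]
    rw [map_sum, Finset.sum_mul_sum]
  simp_rw [h1]
  rw [Finset.sum_comm]
  apply Finset.sum_congr rfl
  intro lam _
  rw [Finset.sum_comm]
  rw [Finset.sum_eq_single lam]
  · intro lam' _ hne
    exact sum_comp_mul_conj_eq_zero ι (Ne.symm hne) θ θ
  · intro h
    exact absurd (Finset.mem_univ _) h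

/-- orthogonality of linear characters -/
theorem sum_hom_mul_conj' (lam lam' : Z →* ℂˣ) :
    ∑ u : Z, ((lam u : ℂˣ) : ℂ) * conj ((lam' u : ℂˣ) : ℂ) =
      if lam = lam' then (Nat.card Z : ℂ) else 0 := by
  by_cases hl : lam = lam'
  · rw [if_pos hl, hl]
    simp_rw [mul_conj_hom]
    rw [Finset.sum_const, Finset.card_univ, nsmul_eq_mul, mul_one, Nat.card_eq_fintype_card]
  · rw [if_neg hl]
    have hne : (Units.coeHom ℂ).comp (lam * lam'⁻¹) ≠ 1 := by
      intro h2
      apply hl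
      apply MonoidHom.ext
      intro z
      have h3 := congrArg (fun F : Z →* ℂ => F z) h2
      simp only [MonoidHom.comp_apply, MonoidHom.mul_apply, MonoidHom.inv_apply,
        Units.coeHom_apply, MonoidHom.one_apply] at h3
      have h4 : lam z * (lam' z)⁻¹ = 1 := Units.ext h3
      exact mul_inv_eq_one.mp h4
    have h5 := sum_hom_units_eq_zero _ hne
    rw [← h5]
    apply Finset.sum_congr rfl
    intro z _
    rw [conj_hom]
    simp only [MonoidHom.comp_apply, MonoidHom.mul_apply, MonoidHom.inv_apply,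
      Units.coeHom_apply, Units.val_mul]

/-- Parseval along a coset of the central subgroup -/
theorem sum_translate_mul_conj (hcomm : ∀ a b : Z, a * b = b * a) [Fintype (Z →* ℂˣ)]
    (θ : Γ → ℂ) (c : Γ) :
    ∑ z : Z, θ (ι z * c) * conj (θ (ι z * c)) =
      (Nat.card Z : ℂ) * ∑ lam : Z →* ℂˣ, comp ι lam θ c * conj (comp ι lam θ c) := by
  classical
  have h1 : ∀ z : Z, θ (ι z * c) = ∑ lam : Z →* ℂˣ, ((lam z : ℂˣ) : ℂ) * comp ι lam θ c := by
    intro z
    conv_lhs => rw [← sum_comp ι hcomm θ (ι z * c)]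
    simp_rw [comp_mul]
  simp_rw [h1, map_sum, Finset.sum_mul_sum]
  rw [Finset.sum_comm]
  simp_rw [Finset.sum_comm (s := (Finset.univ : Finset Z))]
  have h3 : ∀ (lam lam' : Z →* ℂˣ),
      ∑ u : Z, ((lam u : ℂˣ) : ℂ) * comp ι lam θ c *
        conj (((lam' u : ℂˣ) : ℂ) * comp ι lam' θ c) =
      comp ι lam θ c * conj (comp ι lam' θ c) *
        (if lam = lam' then (Nat.card Z : ℂ) else 0) := by
    intro lam lam'
    rw [← sum_hom_mul_conj' lam lam', Finset.mul_sum]
    apply Finset.sum_congr rfl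
    intro u _
    rw [map_mul]
    ring
  simp_rw [h3]
  rw [Finset.mul_sum]
  apply Finset.sum_congr rfl
  intro lam _
  rw [Finset.sum_eq_single lam]
  · rw [if_pos rfl]; ring
  · intro lam' _ hne
    rw [if_neg (Ne.symm hne), mul_zero]
  · intro h4
    exact absurd (Finset.mem_univ _) h4

section Characters

variable (hι : ∀ z, ι z ∈ Subgroup.center Γ)
include hι

/-- the central character of an irreducible character, as a homomorphism -/
theorem exists_centralHom (ξ : IrrCharacter Γ) :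
    ∃ ω : Z →* ℂˣ, ∀ (z : Z) (c : Γ),
      (ξ : Γ → ℂ) (ι z * c) = ((ω z : ℂˣ) : ℂ) * (ξ : Γ → ℂ) c := by
  have h1 := Cfsg.Agent.Lib.Helper74_DegPChar.irr_one_ne_zero ξ
  have hne : ∀ z : Z, (ξ : Γ → ℂ) (ι z) / (ξ : Γ → ℂ) 1 ≠ 0 := by
    intro z
    apply div_ne_zero _ h1
    intro h0
    have := Cfsg.Agent.Lib.Helper74_DegPChar.central_norm ξ (hι z)
    rw [h0, norm_zero] at this
    exact h1 (norm_eq_zero.mp this.symm)
  have hmul : ∀ (z : Z) (c : Γ), (ξ : Γ → ℂ) (ι z * c) =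
      ((ξ : Γ → ℂ) (ι z) / (ξ : Γ → ℂ) 1) * (ξ : Γ → ℂ) c := by
    intro z c
    have := Cfsg.Agent.Lib.Helper74_DegPChar.central_mul ξ (hι z) c
    field_simp
    exact this
  refine ⟨MonoidHom.mk' (fun z => Units.mk0 _ (hne z)) ?_, ?_⟩
  · intro a b
    apply Units.ext
    simp only [Units.val_mk0, Units.val_mul]
    rw [map_mul, hmul a (ι b)]
    field_simp
  · intro z c
    simp only [MonoidHom.mk'_apply, Units.val_mk0]
    exact hmul z c

/-- an isotypic component of an irreducible character is the character itself or zero -/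
theorem comp_irr (ξ : IrrCharacter Γ) (lam : Z →* ℂˣ) :
    comp ι lam (ξ : Γ → ℂ) = (ξ : Γ → ℂ) ∨ comp ι lam (ξ : Γ → ℂ) = 0 := by
  obtain ⟨ω, hω⟩ := exists_centralHom ι hι ξ
  by_cases hωl : ω = lam
  · left
    funext c
    rw [comp_apply]
    simp_rw [hω, ← mul_assoc]
    rw [← Finset.sum_mul, hωl]
    have : ∀ z : Z, conj ((lam z : ℂˣ) : ℂ) * ((lam z : ℂˣ) : ℂ) = 1 := by
      intro z
      rw [mul_comm]; exact mul_conj_hom lam z
    simp_rw [this]
    rw [Finset.sum_const, Finset.card_univ, nsmul_eq_mul, mul_one, ← Nat.card_eq_fintype_card,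
      ← mul_assoc, inv_mul_cancel₀ card_ne_zero, one_mul]
  · right
    funext c
    rw [comp_apply]
    simp_rw [hω, ← mul_assoc]
    rw [← Finset.sum_mul]
    have h1 : ∑ z : Z, conj ((lam z : ℂˣ) : ℂ) * ((ω z : ℂˣ) : ℂ) = 0 := by
      have hne : (Units.coeHom ℂ).comp (ω * lam⁻¹) ≠ 1 := by
        intro h2
        apply hωl
        apply MonoidHom.ext
        intro z
        have h3 := congrArg (fun F : Z →* ℂ => F z) h2
        simp only [MonoidHom.comp_apply, MonoidHom.mul_apply, MonoidHom.inv_apply,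
          Units.coeHom_apply, MonoidHom.one_apply] at h3
        have h4 : ω z * (lam z)⁻¹ = 1 := Units.ext h3
        exact mul_inv_eq_one.mp h4
      have h5 := sum_hom_units_eq_zero _ hne
      rw [← h5]
      apply Finset.sum_congr rfl
      intro z _
      rw [conj_hom]
      simp only [MonoidHom.comp_apply, MonoidHom.mul_apply, MonoidHom.inv_apply,
        Units.coeHom_apply, Units.val_mul]
      ring
    rw [h1, zero_mul, mul_zero]
    rfl

/-- an isotypic component of a character is a character -/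
theorem isCharacter_comp {θ : Γ → ℂ} (hθ : IsCharacter Γ θ) (lam : Z →* ℂˣ) :
    IsCharacter Γ (comp ι lam θ) := by
  classical
  have : Fintype (IrrCharacter Γ) := Fintype.ofFinite _
  obtain ⟨m, -, hm⟩ := Cfsg.Agent.Lib.Helper75_CharArith.exists_multiplicities hθ
  rw [hm, comp_sum]
  apply Cfsg.Agent.Lib.Helper75_CharArith.isCharacter_sum
  intro ξ _
  rw [comp_smul]
  rcases comp_irr ι hι ξ lam with h | h
  · rw [h]
    have := Cfsg.Agent.Lib.Helper75_CharArith.isCharacter_nsmul (m ξ)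
      (Cfsg.Agent.Lib.Helper3_CharBridge.isCharacter_of_isIrrCharacter ξ.2)
    convert this using 1
    funext c
    simp [nsmul_eq_mul]
  · rw [h, smul_zero]
    exact Cfsg.Agent.Lib.Helper75_CharArith.isCharacter_zero

end Characters

end Cfsg.Agent.Lib.Helper74_BLIso
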