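import Mathlib
import Cfsg.Agent.Lib.Helper74_BLGroup
import Cfsg.Agent.Lib.Helper74_BLCount
import Cfsg.Agent.Lib.Helper74_BLIso

/-!
# Norm inequalities on `C_G(P)` (helper74)
-/

set_option autoImplicit false
set_option linter.unusedSectionVars false
set_option linter.unusedVariables false

namespace Cfsg.Agent.Lib.Helper74_BLNorm

open Cfsg Cfsg.Agent.Lib.Helper74_BLGroup Cfsg.Agent.Lib.Helper74_BLCount
  Cfsg.Agent.Lib.Helper74_BLIso
open scoped ComplexConjugate Classical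

variable {G : Type*} [Group G] [Fintype G] {p : ℕ} [hp : Fact p.Prime] (P : Sylow p G)

/-- the inclusion of `P` into its centralizer -/
noncomputable def incl (h : Unif P) : (P : Subgroup G) →* CC P := Subgroup.inclusion (le_CC P h)

@[simp] theorem incl_coe (h : Unif P) (u : (P : Subgroup G)) : ((incl P h u : CC P) : G) = u := rfl

theorem incl_central (h : Unif P) (u : (P : Subgroup G)) :
    incl P h u ∈ Subgroup.center (CC P) := by
  rw [Subgroup.mem_center_iff]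
  intro c
  apply Subtype.ext
  have := c.2
  rw [Subgroup.mem_centralizer_iff] at this
  have h2 := this u u.2
  simp only [Subgroup.coe_mul, incl_coe]
  exact h2.symm

theorem comm_P (h : Unif P) (a b : (P : Subgroup G)) : a * b = b * a := by
  apply Subtype.ext
  exact comm_of_mem P h a.2 b.2

/-- the singular part of a sum over `G` is a sum over `C` -/
theorem sum_filter_CC [Fintype (CC P)] (φ : G → ℝ) :
    ∑ a ∈ Finset.univ.filter (fun a : G => a ∈ CC P ∧ p ∣ orderOf a), φ a =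
      ∑ c ∈ Finset.univ.filter (fun c : CC P => p ∣ orderOf c), φ c := by
  symm
  apply Finset.sum_bij (fun (c : CC P) _ => (c : G))
  · intro c hc
    rw [Finset.mem_filter] at hc ⊢
    refine ⟨Finset.mem_univ _, c.2, ?_⟩
    rw [Subgroup.orderOf_coe]; exact hc.2
  · intro c _ c' _ hcc
    exact Subtype.ext hcc
  · intro a ha
    rw [Finset.mem_filter] at ha
    refine ⟨⟨a, ha.2.1⟩, ?_, rfl⟩
    rw [Finset.mem_filter]
    refine ⟨Finset.mem_univ _, ?_⟩
    rw [← Subgroup.orderOf_coe]; exact ha.2.2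
  · intro c _
    rfl

/-- the counting inequality for a class function, on `C` -/
theorem TA_le (h : Unif P) [Fintype (CC P)] (F : G → ℂ) (hF : IsClassFunction G F) :
    (Nat.card G : ℝ) * ∑ c ∈ Finset.univ.filter (fun c : CC P => p ∣ orderOf c), ‖F c‖ ^ 2
      + (Nat.card (NN P) : ℝ) * ‖F 1‖ ^ 2 ≤ (Nat.card (NN P) : ℝ) * ∑ g : G, ‖F g‖ ^ 2 := by
  have := counting P h (fun g => ‖F g‖ ^ 2) (fun g => by positivity)
    (fun x g => by rw [hF g x])
  rw [sum_filter_CC P (fun g => ‖F g‖ ^ 2)] at this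
  exact this

/-- splitting a sum over `C` into singular and regular part -/
theorem sum_split [Fintype (CC P)] (φ : CC P → ℝ) :
    ∑ c : CC P, φ c = ∑ c ∈ Finset.univ.filter (fun c : CC P => p ∣ orderOf c), φ c +
      ∑ c ∈ Finset.univ.filter (fun c : CC P => ¬ p ∣ orderOf c), φ c := by
  rw [Finset.sum_filter_add_sum_filter_not]

/-- the regular part of the norm of an isotypic component -/
theorem NV_eq (h : Unif P) [Fintype (CC P)] [Fintype (P : Subgroup G)]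
    (lam : (P : Subgroup G) →* ℂˣ) (θ : CC P → ℂ) :
    (Nat.card (P : Subgroup G) : ℝ) *
      ∑ v ∈ Finset.univ.filter (fun c : CC P => ¬ p ∣ orderOf c), ‖comp (incl P h) lam θ v‖ ^ 2 =
      ∑ c : CC P, ‖comp (incl P h) lam θ c‖ ^ 2 := by
  rw [sum_CC_eq P h (fun c => ‖comp (incl P h) lam θ c‖ ^ 2), Finset.mul_sum]
  apply Finset.sum_congr rfl
  intro v _
  have : ∀ u : (P : Subgroup G), ‖comp (incl P h) lam θ (Subgroup.inclusion (le_CC P h) u * v)‖ ^ 2 =
      ‖comp (incl P h) lam θ v‖ ^ 2 := by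
    intro u
    have h1 := comp_mul (incl P h) lam θ u v
    show ‖comp (incl P h) lam θ (incl P h u * v)‖ ^ 2 = _
    rw [h1, norm_mul, Cfsg.Agent.Lib.Helper74_LinAct.norm_hom, one_mul]
  simp_rw [this]
  rw [Finset.sum_const, Finset.card_univ, nsmul_eq_mul, Nat.card_eq_fintype_card]

/-- the number of regular elements of `C` -/
theorem card_V (h : Unif P) [Fintype (CC P)] [Fintype (P : Subgroup G)] :
    Nat.card (P : Subgroup G) *
      (Finset.univ.filter (fun c : CC P => ¬ p ∣ orderOf c)).card = Nat.card (CC P) := by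
  have := sum_CC_eq P h (fun _ : CC P => (1 : ℕ))
  simp only [Finset.sum_const, Finset.card_univ, smul_eq_mul, mul_one] at this
  rw [Nat.card_eq_fintype_card, Nat.card_eq_fintype_card, this, mul_comm]

theorem ee_mul_card (h : Unif P) : ee P * Nat.card (CC P) = Nat.card (NN P) := by
  have hle : CC P ≤ NN P := Subgroup.centralizer_le_normalizer _
  have h1 := Subgroup.card_mul_index ((CC P).subgroupOf (NN P))
  have h2 : Nat.card ((CC P).subgroupOf (NN P)) = Nat.card (CC P) :=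
    Nat.card_congr (Subgroup.subgroupOfEquivOfLe hle).toEquiv
  rw [h2] at h1
  rw [ee, Subgroup.relIndex, mul_comm]; exact h1

/-- an elementary inequality -/
theorem pointwise_ineq (a b : ℂ) (α : ℝ) (hα : 0 < α) :
    α * ‖a + b‖ ^ 2 ≤ α * (1 + α) * ‖a‖ ^ 2 + (1 + α) * ‖b‖ ^ 2 := by
  have h1 : ‖a + b‖ ≤ ‖a‖ + ‖b‖ := norm_add_le a b
  have h2 : ‖a + b‖ ^ 2 ≤ (‖a‖ + ‖b‖) ^ 2 := by
    apply pow_le_pow_left₀ (norm_nonneg _) h1
  have h3 : α * (‖a‖ + ‖b‖) ^ 2 ≤ α * (1 + α) * ‖a‖ ^ 2 + (1 + α) * ‖b‖ ^ 2 := by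
    nlinarith [sq_nonneg (α * ‖a‖ - ‖b‖)]
  calc α * ‖a + b‖ ^ 2 ≤ α * (‖a‖ + ‖b‖) ^ 2 := by
        apply mul_le_mul_of_nonneg_left h2 hα.le
    _ ≤ _ := h3

theorem norm_sum_sq_le {κ : Type*} (S : Finset κ) (b : κ → ℂ) :
    ‖∑ i ∈ S, b i‖ ^ 2 ≤ (S.card : ℝ) * ∑ i ∈ S, ‖b i‖ ^ 2 := by
  have h1 : ‖∑ i ∈ S, b i‖ ≤ ∑ i ∈ S, ‖b i‖ := norm_sum_le S b
  have h2 : ‖∑ i ∈ S, b i‖ ^ 2 ≤ (∑ i ∈ S, ‖b i‖) ^ 2 :=
    pow_le_pow_left₀ (norm_nonneg _) h1 2
  exact h2.trans sq_sum_le_card_mul_sum_sq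

/-- Parseval in real form -/
theorem TC_eq (h : Unif P) [Fintype (CC P)] [Fintype (P : Subgroup G)]
    [Fintype ((P : Subgroup G) →* ℂˣ)] (θ : CC P → ℂ) :
    ∑ c : CC P, ‖θ c‖ ^ 2 =
      ∑ lam : (P : Subgroup G) →* ℂˣ, ∑ c : CC P, ‖comp (incl P h) lam θ c‖ ^ 2 := by
  have h1 := sum_mul_conj_eq (incl P h) (comm_P P h) θ
  have h2 : ∀ z : ℂ, z * conj z = ((‖z‖ ^ 2 : ℝ) : ℂ) := by
    intro z
    rw [Complex.mul_conj, Complex.normSq_eq_norm_sq]
  simp_rw [h2] at h1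
  have h3 : ((∑ c : CC P, ‖θ c‖ ^ 2 : ℝ) : ℂ) =
      ((∑ lam : (P : Subgroup G) →* ℂˣ, ∑ c : CC P, ‖comp (incl P h) lam θ c‖ ^ 2 : ℝ) : ℂ) := by
    push_cast
    push_cast at h1
    exact h1
  exact_mod_cast h3

/-- the main norm inequality, in real form.  `F` is a class function of `G`, `S` a set of
nontrivial linear characters of `P` containing all those with nonzero component. -/
theorem main_ineq (h : Unif P) [Fintype (CC P)] [Fintype (P : Subgroup G)]
    [Fintype ((P : Subgroup G) →* ℂˣ)] (F : G → ℂ) (hF : IsClassFunction G F)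
    (hF1 : F 1 ≠ 0)
    (S : Finset ((P : Subgroup G) →* ℂˣ)) (h1S : (1 : (P : Subgroup G) →* ℂˣ) ∉ S)
    (hS : ∀ lam : (P : Subgroup G) →* ℂˣ, lam ∉ S → lam ≠ 1 →
      comp (incl P h) lam (fun c : CC P => F c) = 0)
    (α : ℝ) (hα : 0 < α) :
    (Nat.card G : ℝ) * (α * (Nat.card (P : Subgroup G) : ℝ) *
      ((∑ c : CC P, ‖comp (incl P h) 1 (fun c : CC P => F c) c‖ ^ 2) +
        ∑ lam ∈ S, ∑ c : CC P, ‖comp (incl P h) lam (fun c : CC P => F c) c‖ ^ 2)) <
      α * (Nat.card (P : Subgroup G) : ℝ) * ((Nat.card (NN P) : ℝ) * ∑ g : G, ‖F g‖ ^ 2) +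
      (Nat.card G : ℝ) * (α * (1 + α) *
        (∑ c : CC P, ‖comp (incl P h) 1 (fun c : CC P => F c) c‖ ^ 2) +
        (1 + α) * (S.card : ℝ) *
          ∑ lam ∈ S, ∑ c : CC P, ‖comp (incl P h) lam (fun c : CC P => F c) c‖ ^ 2) := by
  set θ : CC P → ℂ := fun c : CC P => F c with hθ
  set Nl : ((P : Subgroup G) →* ℂˣ) → ℝ := fun lam => ∑ c : CC P, ‖comp (incl P h) lam θ c‖ ^ 2
    with hNl
  set q : ℝ := (Nat.card (P : Subgroup G) : ℝ) with hq
  have hqpos : 0 < q := by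
    rw [hq]; exact_mod_cast Nat.card_pos
  have hGpos : (0 : ℝ) < (Nat.card G : ℝ) := by exact_mod_cast Nat.card_pos
  have hNpos : (0 : ℝ) < (Nat.card (NN P) : ℝ) := by exact_mod_cast Nat.card_pos
  -- vanishing components
  have hvan : ∀ lam : (P : Subgroup G) →* ℂˣ, lam ∉ S → lam ≠ 1 → Nl lam = 0 := by
    intro lam h1 h2
    rw [hNl]
    simp only
    rw [hS lam h1 h2]
    simp
  -- T_C
  have hTC : ∑ c : CC P, ‖θ c‖ ^ 2 = Nl 1 + ∑ lam ∈ S, Nl lam := by
    rw [TC_eq P h θ]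
    rw [← Finset.sum_erase_add _ _ (Finset.mem_univ (1 : (P : Subgroup G) →* ℂˣ)), add_comm]
    congr 1
    symm
    apply Finset.sum_subset
    · intro lam hl
      rw [Finset.mem_erase]
      exact ⟨fun h0 => h1S (h0 ▸ hl), Finset.mem_univ _⟩
    · intro lam hl hlS
      rw [Finset.mem_erase] at hl
      exact hvan lam hlS hl.1
  -- counting
  have hcount := TA_le P h F hF
  have hsplit := sum_split P (fun c : CC P => ‖θ c‖ ^ 2)
  set TA : ℝ := ∑ c ∈ Finset.univ.filter (fun c : CC P => p ∣ orderOf c), ‖θ c‖ ^ 2 with hTA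
  set TV : ℝ := ∑ c ∈ Finset.univ.filter (fun c : CC P => ¬ p ∣ orderOf c), ‖θ c‖ ^ 2 with hTV
  have hF1' : 0 < ‖F 1‖ ^ 2 := by
    have : 0 < ‖F 1‖ := norm_pos_iff.mpr hF1
    positivity
  have hTAlt : (Nat.card G : ℝ) * TA < (Nat.card (NN P) : ℝ) * ∑ g : G, ‖F g‖ ^ 2 := by
    have : 0 < (Nat.card (NN P) : ℝ) * ‖F 1‖ ^ 2 := mul_pos hNpos hF1'
    have h5 : (Nat.card G : ℝ) * TA + (Nat.card (NN P) : ℝ) * ‖F 1‖ ^ 2 ≤
        (Nat.card (NN P) : ℝ) * ∑ g : G, ‖F g‖ ^ 2 := hcount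
    linarith
  -- the regular part
  have hTVle : α * q * TV ≤ α * (1 + α) * Nl 1 + (1 + α) * (S.card : ℝ) * ∑ lam ∈ S, Nl lam := by
    have hpt : ∀ v : CC P, α * ‖θ v‖ ^ 2 ≤
        α * (1 + α) * ‖comp (incl P h) 1 θ v‖ ^ 2 +
          (1 + α) * ((S.card : ℝ) * ∑ lam ∈ S, ‖comp (incl P h) lam θ v‖ ^ 2) := by
      intro v
      have hdec : θ v = comp (incl P h) 1 θ v + ∑ lam ∈ S, comp (incl P h) lam θ v := by
        conv_lhs => rw [← sum_comp (incl P h) (comm_P P h) θ v]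
        rw [← Finset.sum_erase_add _ _ (Finset.mem_univ (1 : (P : Subgroup G) →* ℂˣ)), add_comm]
        congr 1
        symm
        apply Finset.sum_subset
        · intro lam hl
          rw [Finset.mem_erase]
          exact ⟨fun h0 => h1S (h0 ▸ hl), Finset.mem_univ _⟩
        · intro lam hl hlS
          rw [Finset.mem_erase] at hl
          rw [hS lam hlS hl.1]
          rfl
      rw [hdec]
      have h6 := pointwise_ineq (comp (incl P h) 1 θ v) (∑ lam ∈ S, comp (incl P h) lam θ v) α hα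
      have h7 := norm_sum_sq_le S (fun lam => comp (incl P h) lam θ v)
      have h8 : (1 + α) * ‖∑ lam ∈ S, comp (incl P h) lam θ v‖ ^ 2 ≤
          (1 + α) * ((S.card : ℝ) * ∑ lam ∈ S, ‖comp (incl P h) lam θ v‖ ^ 2) :=
        mul_le_mul_of_nonneg_left h7 (by linarith)
      linarith
    have hsum : α * TV ≤
        α * (1 + α) * ∑ v ∈ Finset.univ.filter (fun c : CC P => ¬ p ∣ orderOf c),
          ‖comp (incl P h) 1 θ v‖ ^ 2 +
        (1 + α) * ((S.card : ℝ) * ∑ lam ∈ S,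
          ∑ v ∈ Finset.univ.filter (fun c : CC P => ¬ p ∣ orderOf c),
            ‖comp (incl P h) lam θ v‖ ^ 2) := by
      rw [hTV, Finset.mul_sum, Finset.mul_sum]
      rw [Finset.sum_comm (s := S)]
      rw [Finset.mul_sum (a := (S.card : ℝ)), Finset.mul_sum (a := (1 + α))]
      rw [← Finset.sum_add_distrib]
      apply Finset.sum_le_sum
      intro v _
      have := hpt v
      linarith
    have hNV : ∀ lam : (P : Subgroup G) →* ℂˣ,
        q * ∑ v ∈ Finset.univ.filter (fun c : CC P => ¬ p ∣ orderOf c),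
          ‖comp (incl P h) lam θ v‖ ^ 2 = Nl lam := fun lam => NV_eq P h lam θ
    have h9 : q * ∑ lam ∈ S, ∑ v ∈ Finset.univ.filter (fun c : CC P => ¬ p ∣ orderOf c),
        ‖comp (incl P h) lam θ v‖ ^ 2 = ∑ lam ∈ S, Nl lam := by
      rw [Finset.mul_sum]
      exact Finset.sum_congr rfl (fun lam _ => hNV lam)
    have h10 := hNV 1
    calc α * q * TV = q * (α * TV) := by ring
      _ ≤ q * (α * (1 + α) * ∑ v ∈ Finset.univ.filter (fun c : CC P => ¬ p ∣ orderOf c),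
          ‖comp (incl P h) 1 θ v‖ ^ 2 +
        (1 + α) * ((S.card : ℝ) * ∑ lam ∈ S,
          ∑ v ∈ Finset.univ.filter (fun c : CC P => ¬ p ∣ orderOf c),
            ‖comp (incl P h) lam θ v‖ ^ 2)) := mul_le_mul_of_nonneg_left hsum hqpos.le
      _ = α * (1 + α) * (q * ∑ v ∈ Finset.univ.filter (fun c : CC P => ¬ p ∣ orderOf c),
          ‖comp (incl P h) 1 θ v‖ ^ 2) +
        (1 + α) * (S.card : ℝ) * (q * ∑ lam ∈ S,
          ∑ v ∈ Finset.univ.filter (fun c : CC P => ¬ p ∣ orderOf c),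
            ‖comp (incl P h) lam θ v‖ ^ 2) := by ring
      _ = _ := by rw [h10, h9]
  -- conclusion
  have hTCsplit : Nl 1 + ∑ lam ∈ S, Nl lam = TA + TV := by
    rw [← hTC]; exact hsplit
  show (Nat.card G : ℝ) * (α * q * (Nl 1 + ∑ lam ∈ S, Nl lam)) <
    α * q * ((Nat.card (NN P) : ℝ) * ∑ g : G, ‖F g‖ ^ 2) +
    (Nat.card G : ℝ) * (α * (1 + α) * Nl 1 + (1 + α) * (S.card : ℝ) * ∑ lam ∈ S, Nl lam)
  rw [hTCsplit]
  have hαq : 0 < α * q := mul_pos hα hqpos
  have h11 : (Nat.card G : ℝ) * (α * q * TV) ≤ (Nat.card G : ℝ) *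
      (α * (1 + α) * Nl 1 + (1 + α) * (S.card : ℝ) * ∑ lam ∈ S, Nl lam) :=
    mul_le_mul_of_nonneg_left hTVle hGpos.le
  have h12 : α * q * ((Nat.card G : ℝ) * TA) <
      α * q * ((Nat.card (NN P) : ℝ) * ∑ g : G, ‖F g‖ ^ 2) :=
    mul_lt_mul_of_pos_left hTAlt hαq
  nlinarith

end Cfsg.Agent.Lib.Helper74_BLNorm
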