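import Mathlib
import Cfsg.Agent.Lib.Helper74_BLNorm

/-!
# Integer data attached to a character restricted to `C_G(P)` (helper74)
-/

set_option autoImplicit false
set_option linter.unusedSectionVars false
set_option linter.unusedVariables false

namespace Cfsg.Agent.Lib.Helper74_BLData

open Cfsg Cfsg.Agent.Lib.Helper74_BLGroup Cfsg.Agent.Lib.Helper74_BLCount
  Cfsg.Agent.Lib.Helper74_BLIso Cfsg.Agent.Lib.Helper74_BLNorm
open scoped ComplexConjugate Classical

section General

variable {Γ : Type*} [Group Γ] [Fintype Γ]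

/-- the degree of a character is a natural number -/
theorem exists_degree {χ : Γ → ℂ} (hχ : IsCharacter Γ χ) : ∃ d : ℕ, χ 1 = d := by
  obtain ⟨n, ρ, rfl⟩ := hχ
  exact ⟨n, by simp [Representation.character]⟩

/-- the norm of a character is a natural number -/
theorem exists_norm {χ : Γ → ℂ} (hχ : IsCharacter Γ χ) :
    ∃ n : ℕ, ∑ c : Γ, ‖χ c‖ ^ 2 = (Nat.card Γ : ℝ) * n := by
  obtain ⟨n, hn⟩ := Cfsg.Agent.Lib.Helper75_CharArith.classInner_isCharacter_nat hχ hχ
  refine ⟨n, ?_⟩
  unfold classInner at hn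
  have hne : (Nat.card Γ : ℂ) ≠ 0 := by
    rw [Nat.cast_ne_zero]; exact Nat.card_pos.ne'
  have h1 : ∑ c : Γ, χ c * conj (χ c) = (Nat.card Γ : ℂ) * n := by
    rw [← hn, ← mul_assoc, mul_inv_cancel₀ hne, one_mul]
  have h2 : ∀ z : ℂ, z * conj z = ((‖z‖ ^ 2 : ℝ) : ℂ) := by
    intro z
    rw [Complex.mul_conj, Complex.normSq_eq_norm_sq]
  simp_rw [h2] at h1
  have h3 : ((∑ c : Γ, ‖χ c‖ ^ 2 : ℝ) : ℂ) = (((Nat.card Γ : ℝ) * n : ℝ) : ℂ) := by
    push_cast
    push_cast at h1
    exact h1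
  exact_mod_cast h3

theorem eq_zero_of_norm {χ : Γ → ℂ} (h : ∑ c : Γ, ‖χ c‖ ^ 2 = 0) : χ = 0 := by
  funext c
  have h1 := (Finset.sum_eq_zero_iff_of_nonneg (fun c _ => by positivity)).mp h c
    (Finset.mem_univ c)
  have h2 : ‖χ c‖ = 0 := by
    have := pow_eq_zero_iff (two_ne_zero) |>.mp h1
    exact this
  exact norm_eq_zero.mp h2

end General

section Data

variable {G : Type*} [Group G] [Fintype G] {p : ℕ} [hp : Fact p.Prime] (P : Sylow p G)

theorem conjP_bijective {s : G} (hs : s ∈ NN P) : Function.Bijective (conjP P hs) := by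
  have : Finite (P : Subgroup G) := inferInstance
  apply Function.Injective.bijective_of_finite
  intro u v huv
  have := congrArg Subtype.val huv
  simp only [conjP_coe] at this
  apply Subtype.ext
  have h2 : (u : G) = s⁻¹ * (s * u * s⁻¹) * s := by group
  rw [h2, this]; group

/-- the restriction of a function on `G` to `C` -/
def resC (F : G → ℂ) : CC P → ℂ := fun c => F c

theorem comp_resC_one (h : Unif P) [Fintype (P : Subgroup G)] (F : G → ℂ)
    (lam : (P : Subgroup G) →* ℂˣ) :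
    comp (incl P h) lam (resC P F) 1 =
      (Nat.card (P : Subgroup G) : ℂ)⁻¹ * ∑ u : (P : Subgroup G), conj ((lam u : ℂˣ) : ℂ) * F u := by
  rw [comp_apply]
  congr 1
  apply Finset.sum_congr rfl
  intro u _
  simp [resC]

/-- the multiplicity function is invariant under the normalizer -/
theorem comp_resC_one_conj (h : Unif P) [Fintype (P : Subgroup G)] (F : G → ℂ)
    (hF : IsClassFunction G F) (lam : (P : Subgroup G) →* ℂˣ) {s : G} (hs : s ∈ NN P) :
    comp (incl P h) (lam.comp (conjP P hs)) (resC P F) 1 = comp (incl P h) lam (resC P F) 1 := by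
  rw [comp_resC_one, comp_resC_one]
  congr 1
  have h1 : ∀ u : (P : Subgroup G), conj (((lam.comp (conjP P hs)) u : ℂˣ) : ℂ) * F u =
      conj ((lam (conjP P hs u) : ℂˣ) : ℂ) * F ((conjP P hs u : (P : Subgroup G)) : G) := by
    intro u
    rw [MonoidHom.comp_apply, conjP_coe, hF]
  simp_rw [h1]
  exact Fintype.sum_bijective (conjP P hs) (conjP_bijective P hs) _ _ (fun u => rfl)

/-- the values of a function on `P` in terms of the multiplicity function -/
theorem apply_eq_sum (h : Unif P) [Fintype (P : Subgroup G)] [Fintype ((P : Subgroup G) →* ℂˣ)]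
    (F : G → ℂ) (u : (P : Subgroup G)) :
    F u = ∑ lam : (P : Subgroup G) →* ℂˣ,
      ((lam u : ℂˣ) : ℂ) * comp (incl P h) lam (resC P F) 1 := by
  have h1 := sum_comp (incl P h) (comm_P P h) (resC P F) (incl P h u * 1)
  simp_rw [comp_mul] at h1
  rw [h1]
  simp [resC]

/-- orthogonality of linear characters of `P` -/
theorem sum_hom_mul_conj [Fintype (P : Subgroup G)] (lam lam' : (P : Subgroup G) →* ℂˣ) :
    ∑ u : (P : Subgroup G), ((lam u : ℂˣ) : ℂ) * conj ((lam' u : ℂˣ) : ℂ) =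
      if lam = lam' then (Nat.card (P : Subgroup G) : ℂ) else 0 := by
  by_cases hl : lam = lam'
  · rw [if_pos hl, hl]
    simp_rw [Cfsg.Agent.Lib.Helper74_LinAct.mul_conj_hom]
    rw [Finset.sum_const, Finset.card_univ, nsmul_eq_mul, mul_one, Nat.card_eq_fintype_card]
  · rw [if_neg hl]
    have hne : (Units.coeHom ℂ).comp (lam * lam'⁻¹) ≠ 1 := by
      intro h2
      apply hl
      apply MonoidHom.ext
      intro z
      have h3 := congrArg (fun F : (P : Subgroup G) →* ℂ => F z) h2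
      simp only [MonoidHom.comp_apply, MonoidHom.mul_apply, MonoidHom.inv_apply,
        Units.coeHom_apply, MonoidHom.one_apply] at h3
      have h4 : lam z * (lam' z)⁻¹ = 1 := Units.ext h3
      exact mul_inv_eq_one.mp h4
    have h5 := sum_hom_units_eq_zero _ hne
    rw [← h5]
    apply Finset.sum_congr rfl
    intro z _
    rw [Cfsg.Agent.Lib.Helper74_LinAct.conj_hom]
    simp only [MonoidHom.comp_apply, MonoidHom.mul_apply, MonoidHom.inv_apply,
      Units.coeHom_apply, Units.val_mul]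

theorem isCharacter_resC {F : G → ℂ} (hF : IsCharacter G F) : IsCharacter (CC P) (resC P F) :=
  Cfsg.Agent.Lib.Helper75_CharArith.isCharacter_restrict (CC P) hF

/-- the integer data attached to a character of `G` -/
theorem exists_data (h : Unif P) [Fintype (CC P)] [Fintype (P : Subgroup G)]
    [Fintype ((P : Subgroup G) →* ℂˣ)] {F : G → ℂ} (hF : IsCharacter G F) :
    ∃ d n : ((P : Subgroup G) →* ℂˣ) → ℕ,
      (∀ lam, comp (incl P h) lam (resC P F) 1 = d lam) ∧
      (∀ lam, ∑ c : CC P, ‖comp (incl P h) lam (resC P F) c‖ ^ 2 =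
        (Nat.card (CC P) : ℝ) * n lam) ∧
      (∀ lam, d lam = 0 → comp (incl P h) lam (resC P F) = 0) ∧
      (∀ lam, n lam = 0 → d lam = 0) ∧
      (∑ lam, (d lam : ℂ) = F 1) ∧
      (∀ (s : G) (hs : s ∈ NN P) lam, d (lam.comp (conjP P hs)) = d lam) ∧
      (∑ u : (P : Subgroup G), ‖F u‖ ^ 2 =
        (Nat.card (P : Subgroup G) : ℝ) * ∑ lam, ((d lam : ℝ)) ^ 2) := by
  have hχ : ∀ lam, IsCharacter (CC P) (comp (incl P h) lam (resC P F)) := fun lam =>
    isCharacter_comp (incl P h) (incl_central P h) (isCharacter_resC P hF) lam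
  choose d hd using fun lam => exists_degree (hχ lam)
  choose n hn using fun lam => exists_norm (hχ lam)
  have hcl : IsClassFunction G F := Cfsg.Agent.Lib.Helper3_CharBridge.isClassFunction_of_isCharacter hF
  refine ⟨d, n, hd, hn, ?_, ?_, ?_, ?_, ?_⟩
  · intro lam h0
    apply Cfsg.Agent.Lib.Helper17_CohSys.char_eq_zero_of_apply_one (hχ lam)
    rw [hd, h0, Nat.cast_zero]
  · intro lam h0
    have h1 := hn lam
    rw [h0, Nat.cast_zero, mul_zero] at h1
    have h2 := eq_zero_of_norm h1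
    have h3 := hd lam
    rw [h2] at h3
    have h4 : (d lam : ℂ) = 0 := by rw [← h3]; rfl
    exact_mod_cast h4
  · simp_rw [← hd]
    rw [sum_comp (incl P h) (comm_P P h)]
    simp [resC]
  · intro s hs lam
    have h1 := comp_resC_one_conj P h F hcl lam hs
    rw [hd, hd] at h1
    exact_mod_cast h1
  · have h1 : ∀ u : (P : Subgroup G), F u = ∑ lam : (P : Subgroup G) →* ℂˣ,
        ((lam u : ℂˣ) : ℂ) * (d lam : ℂ) := by
      intro u
      rw [apply_eq_sum P h F u]
      simp_rw [hd]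
    have h2 : ∑ u : (P : Subgroup G), F u * conj (F u) =
        (Nat.card (P : Subgroup G) : ℂ) * ∑ lam, ((d lam : ℂ)) ^ 2 := by
      simp_rw [h1, map_sum, Finset.sum_mul_sum]
      rw [Finset.sum_comm]
      simp_rw [Finset.sum_comm (s := (Finset.univ : Finset (P : Subgroup G)))]
      have h3 : ∀ (lam lam' : (P : Subgroup G) →* ℂˣ),
          ∑ u : (P : Subgroup G), ((lam u : ℂˣ) : ℂ) * (d lam : ℂ) *
            conj (((lam' u : ℂˣ) : ℂ) * (d lam' : ℂ)) =
          (d lam : ℂ) * (d lam' : ℂ) *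
            (if lam = lam' then (Nat.card (P : Subgroup G) : ℂ) else 0) := by
        intro lam lam'
        rw [← sum_hom_mul_conj P lam lam', Finset.mul_sum]
        apply Finset.sum_congr rfl
        intro u _
        rw [map_mul, Complex.conj_natCast]
        ring
      simp_rw [h3]
      rw [Finset.mul_sum]
      apply Finset.sum_congr rfl
      intro lam _
      rw [Finset.sum_eq_single lam]
      · rw [if_pos rfl]; ring
      · intro lam' _ hne
        rw [if_neg (Ne.symm hne), mul_zero]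
      · intro h4
        exact absurd (Finset.mem_univ _) h4
    have h5 : ∀ z : ℂ, z * conj z = ((‖z‖ ^ 2 : ℝ) : ℂ) := by
      intro z
      rw [Complex.mul_conj, Complex.normSq_eq_norm_sq]
    simp_rw [h5] at h2
    have h6 : ((∑ u : (P : Subgroup G), ‖F u‖ ^ 2 : ℝ) : ℂ) =
        (((Nat.card (P : Subgroup G) : ℝ) * ∑ lam, ((d lam : ℝ)) ^ 2 : ℝ) : ℂ) := by
      push_cast
      push_cast at h2
      exact h2
    exact_mod_cast h6

/-- the support of the multiplicity function away from the trivial character -/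
noncomputable def supp [Fintype ((P : Subgroup G) →* ℂˣ)] (d : ((P : Subgroup G) →* ℂˣ) → ℕ) :
    Finset ((P : Subgroup G) →* ℂˣ) :=
  Finset.univ.filter (fun lam => lam ≠ 1 ∧ d lam ≠ 0)

theorem mem_supp [Fintype ((P : Subgroup G) →* ℂˣ)] (d : ((P : Subgroup G) →* ℂˣ) → ℕ)
    (lam : (P : Subgroup G) →* ℂˣ) : lam ∈ supp P d ↔ lam ≠ 1 ∧ d lam ≠ 0 := by
  simp [supp]

/-- the main inequality for an irreducible character, in terms of the integer data -/
theorem nat_ineq (h : Unif P) [Fintype (CC P)] [Fintype (P : Subgroup G)]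
    [Fintype ((P : Subgroup G) →* ℂˣ)] (Ψ : IrrCharacter G)
    (d n : ((P : Subgroup G) →* ℂˣ) → ℕ)
    (hn : ∀ lam, ∑ c : CC P, ‖comp (incl P h) lam (resC P (Ψ : G → ℂ)) c‖ ^ 2 =
        (Nat.card (CC P) : ℝ) * n lam)
    (hd0 : ∀ lam, d lam = 0 → comp (incl P h) lam (resC P (Ψ : G → ℂ)) = 0)
    (α : ℝ) (hα : 0 < α) :
    α * (Nat.card (P : Subgroup G) : ℝ) * ((n 1 : ℝ) + ∑ lam ∈ supp P d, (n lam : ℝ)) <
      α * (Nat.card (P : Subgroup G) : ℝ) * (ee P : ℝ) + α * (1 + α) * (n 1 : ℝ) +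
        (1 + α) * ((supp P d).card : ℝ) * ∑ lam ∈ supp P d, (n lam : ℝ) := by
  have hcl : IsClassFunction G (Ψ : G → ℂ) :=
    Cfsg.Agent.Lib.Helper3_CharBridge.isClassFunction_of_isIrrCharacter Ψ.2
  have hΨ1 : (Ψ : G → ℂ) 1 ≠ 0 := Cfsg.Agent.Lib.Helper74_DegPChar.irr_one_ne_zero Ψ
  have h1S : (1 : (P : Subgroup G) →* ℂˣ) ∉ supp P d := by
    rw [mem_supp]; exact fun h0 => h0.1 rfl
  have hS : ∀ lam : (P : Subgroup G) →* ℂˣ, lam ∉ supp P d → lam ≠ 1 →
      comp (incl P h) lam (fun c : CC P => (Ψ : G → ℂ) c) = 0 := by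
    intro lam hl hl1
    apply hd0
    rw [mem_supp] at hl
    by_contra h0
    exact hl ⟨hl1, h0⟩
  have key := main_ineq P h (Ψ : G → ℂ) hcl hΨ1 (supp P d) h1S hS α hα
  have hsum := Cfsg.Agent.Lib.Helper74_DegPChar.sum_norm_sq Ψ
  rw [hsum] at key
  have hn' : ∀ lam, ∑ c : CC P, ‖comp (incl P h) lam (fun c : CC P => (Ψ : G → ℂ) c) c‖ ^ 2 =
      (Nat.card (CC P) : ℝ) * n lam := hn
  simp_rw [hn'] at key
  rw [← Finset.mul_sum] at key
  have hNC : (Nat.card (NN P) : ℝ) = (ee P : ℝ) * (Nat.card (CC P) : ℝ) := by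
    rw [← ee_mul_card P h]; push_cast; ring
  rw [hNC] at key
  have hGpos : (0 : ℝ) < (Nat.card G : ℝ) := by exact_mod_cast Nat.card_pos
  have hCpos : (0 : ℝ) < (Nat.card (CC P) : ℝ) := by exact_mod_cast Nat.card_pos
  have hpos : (0 : ℝ) < (Nat.card G : ℝ) * (Nat.card (CC P) : ℝ) := mul_pos hGpos hCpos
  by_contra hcon
  push Not at hcon
  have := mul_le_mul_of_nonneg_left hcon hpos.le
  nlinarith

end Data

end Cfsg.Agent.Lib.Helper74_BLData
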