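import Mathlib
import Cfsg.Agent.Lib.Helper74_BLData
import Cfsg.Agent.Lib.Helper74_BLArith

/-!
# The core estimate for irreducible characters of small degree (helper74)
-/

set_option autoImplicit false
set_option linter.unusedSectionVars false
set_option linter.unusedVariables false

namespace Cfsg.Agent.Lib.Helper74_BLCore

open Cfsg Cfsg.Agent.Lib.Helper74_BLGroup Cfsg.Agent.Lib.Helper74_BLCount
  Cfsg.Agent.Lib.Helper74_BLIso Cfsg.Agent.Lib.Helper74_BLNorm Cfsg.Agent.Lib.Helper74_BLData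
open scoped ComplexConjugate Classical

variable {G : Type*} [Group G] [Fintype G] {p : ℕ} [hp : Fact p.Prime] (P : Sylow p G)

theorem ee_pos : 1 ≤ ee P := by
  have : ee P ≠ 0 := by
    unfold ee Subgroup.relIndex
    exact Subgroup.index_ne_zero_of_finite
  omega

/-- `e` divides `q - 1` -/
theorem ee_dvd_pred (h : Unif P) : ee P ∣ Nat.card (P : Subgroup G) - 1 := by
  have hfin : Finite ((P : Subgroup G) →* ℂˣ) := Cfsg.Agent.Lib.Helper74_GoingUp.finite_dual (comm_P P h)
  have : Fintype ((P : Subgroup G) →* ℂˣ) := Fintype.ofFinite _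
  have key := ee_dvd_card P h (Finset.univ.filter (fun lam : (P : Subgroup G) →* ℂˣ => lam ≠ 1))
    (by simp)
    (by
      intro s hs lam hl
      rw [Finset.mem_filter] at hl ⊢
      refine ⟨Finset.mem_univ _, ?_⟩
      intro h0
      apply hl.2
      apply MonoidHom.ext
      intro u
      obtain ⟨v, rfl⟩ := (conjP_bijective P hs).2 u
      have := congrArg (fun f : (P : Subgroup G) →* ℂˣ => f v) h0
      simpa using this)
  have hcard : (Finset.univ.filter (fun lam : (P : Subgroup G) →* ℂˣ => lam ≠ 1)).card =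
      Nat.card (P : Subgroup G) - 1 := by
    rw [Finset.filter_ne' Finset.univ (1 : (P : Subgroup G) →* ℂˣ),
      Finset.card_erase_of_mem (Finset.mem_univ _), Finset.card_univ,
      ← Nat.card_eq_fintype_card, Cfsg.Agent.Lib.Helper74_GoingUp.card_dual (comm_P P h)]
  rwa [hcard] at key

/-- `e` divides the size of the support of an invariant multiplicity function -/
theorem ee_dvd_supp (h : Unif P) [Fintype ((P : Subgroup G) →* ℂˣ)]
    (d : ((P : Subgroup G) →* ℂˣ) → ℕ)
    (hinv : ∀ (s : G) (hs : s ∈ NN P) lam, d (lam.comp (conjP P hs)) = d lam) :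
    ee P ∣ (supp P d).card := by
  apply ee_dvd_card P h
  · rw [mem_supp]; exact fun h0 => h0.1 rfl
  · intro s hs lam hl
    rw [mem_supp] at hl ⊢
    refine ⟨?_, by rw [hinv]; exact hl.2⟩
    intro h0
    apply hl.1
    apply MonoidHom.ext
    intro u
    obtain ⟨v, rfl⟩ := (conjP_bijective P hs).2 u
    have := congrArg (fun f : (P : Subgroup G) →* ℂˣ => f v) h0
    simpa using this

/-- if `P` is not in the kernel then the support is nonempty -/
theorem supp_nonempty (h : Unif P) [Fintype (P : Subgroup G)] [Fintype ((P : Subgroup G) →* ℂˣ)]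
    (F : G → ℂ) (d : ((P : Subgroup G) →* ℂˣ) → ℕ)
    (hd : ∀ lam, comp (incl P h) lam (resC P F) 1 = d lam)
    (hsum : ∑ lam, (d lam : ℂ) = F 1)
    (hker : ∃ u ∈ (P : Subgroup G), F u ≠ F 1) : 1 ≤ (supp P d).card := by
  by_contra hcon
  have hemp : supp P d = ∅ := by
    rw [← Finset.card_eq_zero]; omega
  obtain ⟨u, hu, hne⟩ := hker
  apply hne
  have h0 : ∀ lam : (P : Subgroup G) →* ℂˣ, lam ≠ 1 → d lam = 0 := by
    intro lam hl
    by_contra h1
    have : lam ∈ supp P d := by rw [mem_supp]; exact ⟨hl, h1⟩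
    rw [hemp] at this
    exact absurd this (Finset.notMem_empty _)
  have h1 := apply_eq_sum P h F ⟨u, hu⟩
  simp_rw [hd] at h1
  rw [Finset.sum_eq_single (1 : (P : Subgroup G) →* ℂˣ)] at h1
  · rw [Finset.sum_eq_single (1 : (P : Subgroup G) →* ℂˣ)] at hsum
    · simp only [MonoidHom.one_apply, Units.val_one, one_mul] at h1
      rw [← hsum]
      exact h1
    · intro lam _ hl
      rw [h0 lam hl, Nat.cast_zero]
    · intro h2
      exact absurd (Finset.mem_univ _) h2
  · intro lam _ hl
    rw [h0 lam hl, Nat.cast_zero, mul_zero]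
  · intro h2
    exact absurd (Finset.mem_univ _) h2

/-- the sum of a function over `P` in terms of the multiplicity of the trivial character -/
theorem sum_P_eq (h : Unif P) [Fintype (P : Subgroup G)] (F : G → ℂ) (t : ℕ)
    (ht : comp (incl P h) 1 (resC P F) 1 = t) :
    ∑ u : (P : Subgroup G), F u = (Nat.card (P : Subgroup G) : ℂ) * t := by
  rw [comp_resC_one] at ht
  simp only [MonoidHom.one_apply, Units.val_one, map_one, one_mul] at ht
  rw [← ht, ← mul_assoc, mul_inv_cancel₀ card_ne_zero, one_mul]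

/-- general facts on the support of the multiplicity function of a character -/
theorem supp_facts (h : Unif P) [Fintype ((P : Subgroup G) →* ℂˣ)]
    (d n : ((P : Subgroup G) →* ℂˣ) → ℕ) (y : ℕ)
    (hnd : ∀ lam, n lam = 0 → d lam = 0) (hsum : ∑ lam, d lam = y) :
    (supp P d).card ≤ ∑ lam ∈ supp P d, n lam ∧ (supp P d).card + d 1 ≤ y ∧
      (supp P d).card + (d 1) ^ 2 ≤ ∑ lam, (d lam) ^ 2 := by
  have h1S : (1 : (P : Subgroup G) →* ℂˣ) ∉ supp P d := by
    rw [mem_supp]; exact fun h0 => h0.1 rfl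
  refine ⟨?_, ?_, ?_⟩
  · rw [Finset.card_eq_sum_ones]
    apply Finset.sum_le_sum
    intro lam hl
    rw [mem_supp] at hl
    have : n lam ≠ 0 := fun h0 => hl.2 (hnd lam h0)
    omega
  · rw [← hsum]
    have h2 : ∑ lam ∈ insert (1 : (P : Subgroup G) →* ℂˣ) (supp P d), d lam ≤ ∑ lam, d lam :=
      Finset.sum_le_sum_of_subset (Finset.subset_univ _)
    rw [Finset.sum_insert h1S] at h2
    have h3 : (supp P d).card ≤ ∑ lam ∈ supp P d, d lam := by
      rw [Finset.card_eq_sum_ones]
      apply Finset.sum_le_sum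
      intro lam hl
      rw [mem_supp] at hl
      omega
    omega
  · have h2 : ∑ lam ∈ insert (1 : (P : Subgroup G) →* ℂˣ) (supp P d), (d lam) ^ 2 ≤
        ∑ lam, (d lam) ^ 2 :=
      Finset.sum_le_sum_of_subset (Finset.subset_univ _)
    rw [Finset.sum_insert h1S] at h2
    have h3 : (supp P d).card ≤ ∑ lam ∈ supp P d, (d lam) ^ 2 := by
      rw [Finset.card_eq_sum_ones]
      apply Finset.sum_le_sum
      intro lam hl
      rw [mem_supp] at hl
      have : 1 ≤ d lam := by omega
      nlinarith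
    omega

/-- the core estimate: a nonprincipal irreducible character of small degree which is nontrivial
on `P` has no `P`-fixed vectors, or its degree is close to `|P|` -/
theorem core_char (h : Unif P) (Ψ : IrrCharacter G) (y : ℕ) (hy : (Ψ : G → ℂ) 1 = y)
    (hker : ∃ u ∈ (P : Subgroup G), (Ψ : G → ℂ) u ≠ (Ψ : G → ℂ) 1)
    (hyq : y + 3 ≤ Nat.card (P : Subgroup G))
    (hq : (ee P + 1) ^ 2 ≤ Nat.card (P : Subgroup G)) :
    ∃ t : ℕ, ∑ u : (P : Subgroup G), (Ψ : G → ℂ) u = (Nat.card (P : Subgroup G) : ℂ) * t ∧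
      (t = 0 ∨ t + Nat.card (P : Subgroup G) ≤ y + 1 + ee P) := by
  have hfin : Finite ((P : Subgroup G) →* ℂˣ) :=
    Cfsg.Agent.Lib.Helper74_GoingUp.finite_dual (comm_P P h)
  have : Fintype ((P : Subgroup G) →* ℂˣ) := Fintype.ofFinite _
  have hΨ : IsCharacter G (Ψ : G → ℂ) :=
    Cfsg.Agent.Lib.Helper3_CharBridge.isCharacter_of_isIrrCharacter Ψ.2
  obtain ⟨d, n, hd, hn, hd0, hnd, hsum, hinv, -⟩ := exists_data P h hΨ
  refine ⟨d 1, sum_P_eq P h _ _ (hd 1), ?_⟩
  have hsum' : ∑ lam, d lam = y := by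
    rw [hy] at hsum
    exact_mod_cast hsum
  obtain ⟨hf1, hf2, -⟩ := supp_facts P h d n y hnd hsum'
  apply Cfsg.Agent.Lib.Helper74_BLArith.core (Nat.card (P : Subgroup G)) (ee P)
    (supp P d).card (∑ lam ∈ supp P d, n lam) (n 1) (d 1) y (ee_pos P)
    (ee_dvd_supp P h d hinv) (ee_dvd_pred P h)
    (supp_nonempty P h _ d hd hsum hker) hf1 hf2 hyq (hnd 1) _ hq
  intro α hα
  have := nat_ineq P h Ψ d n hn hd0 α hα
  push_cast
  exact this

end Cfsg.Agent.Lib.Helper74_BLCore
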