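import Mathlib
import Cfsg.Agent.Lib.Helper74_BLCore
import Cfsg.Agent.Lib.Helper75_CharProd
import Cfsg.Agent.Lib.Helper80_CharBasic

/-!
# The Brauer--Leonard degree bound: main case (helper74)
-/

set_option autoImplicit false
set_option linter.unusedSectionVars false
set_option linter.unusedVariables false

namespace Cfsg.Agent.Lib.Helper74_BLMain

open Cfsg Cfsg.Agent.Lib.Helper74_BLGroup Cfsg.Agent.Lib.Helper74_BLCount
  Cfsg.Agent.Lib.Helper74_BLIso Cfsg.Agent.Lib.Helper74_BLNorm Cfsg.Agent.Lib.Helper74_BLData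
  Cfsg.Agent.Lib.Helper74_BLCore Cfsg.Agent.Lib.Helper80_CharBasic
open scoped ComplexConjugate Classical

variable {G : Type*} [Group G] [Fintype G] {p : ℕ} [hp : Fact p.Prime] (P : Sylow p G)

/-- basic numerical invariants of an irreducible character with respect to `P` -/
theorem exists_ty (h : Unif P) (Ψ : IrrCharacter G) :
    ∃ t y : ℕ, ∑ u : (P : Subgroup G), (Ψ : G → ℂ) u = (Nat.card (P : Subgroup G) : ℂ) * t ∧
      (Ψ : G → ℂ) 1 = y ∧ t ≤ y := by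
  have hfin : Finite ((P : Subgroup G) →* ℂˣ) :=
    Cfsg.Agent.Lib.Helper74_GoingUp.finite_dual (comm_P P h)
  have : Fintype ((P : Subgroup G) →* ℂˣ) := Fintype.ofFinite _
  have hΨ : IsCharacter G (Ψ : G → ℂ) :=
    Cfsg.Agent.Lib.Helper3_CharBridge.isCharacter_of_isIrrCharacter Ψ.2
  obtain ⟨d, n, hd, hn, hd0, hnd, hsum, hinv, -⟩ := exists_data P h hΨ
  obtain ⟨y, -, hy⟩ := irr_apply_one Ψ
  have hsum' : ∑ lam, d lam = y := by
    rw [hy] at hsum
    exact_mod_cast hsum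
  obtain ⟨-, hf2, -⟩ := supp_facts P h d n y hnd hsum'
  exact ⟨d 1, y, sum_P_eq P h _ _ (hd 1), hy, by omega⟩

/-- the data of `ψ` itself: the norm of its restriction to `P` -/
theorem exists_D (h : Unif P) (ψ : IrrCharacter G) (x : ℕ) (hx : (ψ : G → ℂ) 1 = x)
    (hker : ∃ u ∈ (P : Subgroup G), (ψ : G → ℂ) u ≠ (ψ : G → ℂ) 1) :
    ∃ D : ℕ, ∑ u : (P : Subgroup G), ‖(ψ : G → ℂ) u‖ ^ 2 = (Nat.card (P : Subgroup G) : ℝ) * D ∧
      ee P ≤ D ∧ (D = 1 → x = 1) ∧ x ≤ D ∧ ee P ≤ x := by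
  have hfin : Finite ((P : Subgroup G) →* ℂˣ) :=
    Cfsg.Agent.Lib.Helper74_GoingUp.finite_dual (comm_P P h)
  have : Fintype ((P : Subgroup G) →* ℂˣ) := Fintype.ofFinite _
  have hψ : IsCharacter G (ψ : G → ℂ) :=
    Cfsg.Agent.Lib.Helper3_CharBridge.isCharacter_of_isIrrCharacter ψ.2
  obtain ⟨d, n, hd, hn, hd0, hnd, hsum, hinv, hpars⟩ := exists_data P h hψ
  have hsum' : ∑ lam, d lam = x := by
    rw [hx] at hsum
    exact_mod_cast hsum
  obtain ⟨-, hf2, hf3⟩ := supp_facts P h d n x hnd hsum'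
  have hne := supp_nonempty P h _ d hd hsum hker
  have hdvd := ee_dvd_supp P h d hinv
  have hle : ee P ≤ (supp P d).card := Nat.le_of_dvd (by omega) hdvd
  have hxD : x ≤ ∑ lam, (d lam) ^ 2 := by
    rw [← hsum']
    apply Finset.sum_le_sum
    intro lam _
    nlinarith [Nat.zero_le (d lam)]
  refine ⟨∑ lam, (d lam) ^ 2, ?_, by omega, ?_, hxD, by omega⟩
  · rw [hpars]; push_cast; rfl
  · intro hD
    obtain ⟨x', hx'pos, hx'⟩ := irr_apply_one ψ
    have : x = x' := by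
      rw [hx] at hx'
      exact_mod_cast hx'
    omega

/-- decomposition of `ψ ψ̄`: multiplicities, `P`-fixed points and degrees -/
theorem exists_decomp_sq (h : Unif P) (ψ : IrrCharacter G) (x D : ℕ) (hx : (ψ : G → ℂ) 1 = x)
    (hD : ∑ u : (P : Subgroup G), ‖(ψ : G → ℂ) u‖ ^ 2 = (Nat.card (P : Subgroup G) : ℝ) * D)
    (t y : IrrCharacter G → ℕ)
    (ht : ∀ Ψ : IrrCharacter G, ∑ u : (P : Subgroup G), (Ψ : G → ℂ) u =
      (Nat.card (P : Subgroup G) : ℂ) * t Ψ)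
    (hy : ∀ Ψ : IrrCharacter G, (Ψ : G → ℂ) 1 = y Ψ) :
    ∃ m : IrrCharacter G → ℕ, m (oneIrr G) = 1 ∧ ∑ Ψ, m Ψ * t Ψ = D ∧ ∑ Ψ, m Ψ * y Ψ = x ^ 2 ∧
      ((fun g => (ψ : G → ℂ) g * conj ((ψ : G → ℂ) g)) =
        ∑ Ψ : IrrCharacter G, (m Ψ : ℂ) • (Ψ : G → ℂ)) := by
  have hψ : IsCharacter G (ψ : G → ℂ) :=
    Cfsg.Agent.Lib.Helper3_CharBridge.isCharacter_of_isIrrCharacter ψ.2
  have hΘ : IsCharacter G ((ψ : G → ℂ) * fun g => conj ((ψ : G → ℂ) g)) :=
    Cfsg.Agent.Lib.Helper75_CharProd.isCharacter_mul hψ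
      (Cfsg.Agent.Lib.Helper75_CharProd.isCharacter_conj hψ)
  obtain ⟨m, hm, hsumΘ⟩ := Cfsg.Agent.Lib.Helper75_CharArith.exists_multiplicities hΘ
  have hΘfun : ((ψ : G → ℂ) * fun g => conj ((ψ : G → ℂ) g)) =
      fun g => (ψ : G → ℂ) g * conj ((ψ : G → ℂ) g) := rfl
  have hqne : (Nat.card (P : Subgroup G) : ℂ) ≠ 0 := by
    rw [Nat.cast_ne_zero]; exact Nat.card_pos.ne'
  refine ⟨m, ?_, ?_, ?_, ?_⟩
  · have h1 := hm (oneIrr G)
    have h2 : Cfsg.classInner ((ψ : G → ℂ) * fun g => conj ((ψ : G → ℂ) g))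
        ((oneIrr G : IrrCharacter G) : G → ℂ) = Cfsg.classInner (ψ : G → ℂ) (ψ : G → ℂ) := by
      unfold Cfsg.classInner
      congr 1
      apply Finset.sum_congr rfl
      intro g _
      simp [oneIrr]
    rw [h2, Cfsg.Agent.Lib.Helper3_CharOrtho.classInner_self_of_isIrrCharacter ψ.2] at h1
    exact_mod_cast h1.symm
  · -- sum over P
    have h1 : ∑ u : (P : Subgroup G), ((ψ : G → ℂ) u * conj ((ψ : G → ℂ) u)) =
        (Nat.card (P : Subgroup G) : ℂ) * ∑ Ψ, ((m Ψ * t Ψ : ℕ) : ℂ) := by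
      have h2 : ∀ u : (P : Subgroup G), (ψ : G → ℂ) u * conj ((ψ : G → ℂ) u) =
          ∑ Ψ : IrrCharacter G, (m Ψ : ℂ) * (Ψ : G → ℂ) u := by
        intro u
        have := congrFun hsumΘ (u : G)
        simp only [Pi.mul_apply, Finset.sum_apply, Pi.smul_apply, smul_eq_mul] at this
        exact this
      simp_rw [h2]
      rw [Finset.sum_comm, Finset.mul_sum]
      apply Finset.sum_congr rfl
      intro Ψ _
      rw [← Finset.mul_sum, ht]
      push_cast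
      ring
    have h3 : ∀ z : ℂ, z * conj z = ((‖z‖ ^ 2 : ℝ) : ℂ) := by
      intro z
      rw [Complex.mul_conj, Complex.normSq_eq_norm_sq]
    simp_rw [h3] at h1
    have h4 : ((∑ u : (P : Subgroup G), ‖(ψ : G → ℂ) u‖ ^ 2 : ℝ) : ℂ) =
        (Nat.card (P : Subgroup G) : ℂ) * ∑ Ψ, ((m Ψ * t Ψ : ℕ) : ℂ) := by
      push_cast
      push_cast at h1
      exact h1
    rw [hD] at h4
    push_cast at h4
    have h5 := mul_left_cancel₀ hqne h4
    have h6 : ((D : ℕ) : ℂ) = ((∑ Ψ, m Ψ * t Ψ : ℕ) : ℂ) := by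
      push_cast
      exact h5
    exact_mod_cast h6.symm
  · have h1 := congrFun hsumΘ 1
    simp only [Pi.mul_apply, Finset.sum_apply, Pi.smul_apply, smul_eq_mul] at h1
    rw [hx] at h1
    simp only [hy] at h1
    have h2 : conj ((x : ℕ) : ℂ) = (x : ℂ) := Complex.conj_natCast x
    rw [h2] at h1
    have h3 : ((x ^ 2 : ℕ) : ℂ) = ((∑ Ψ, m Ψ * y Ψ : ℕ) : ℂ) := by
      push_cast
      rw [← h1]; ring
    exact_mod_cast h3.symm
  · rw [← hΘfun]; exact hsumΘ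

/-- **Main case** of the Brauer--Leonard degree bound. -/
theorem main_case (h : Unif P) (ψ : IrrCharacter G) (x : ℕ) (hx : (ψ : G → ℂ) 1 = x)
    (hdeg : x ^ 2 + 1 < Nat.card (P : Subgroup G))
    (hdag : ∀ Ψ : IrrCharacter G, Ψ ≠ oneIrr G →
      ∃ u ∈ (P : Subgroup G), (Ψ : G → ℂ) u ≠ (Ψ : G → ℂ) 1)
    (hψ1 : ψ ≠ oneIrr G) (hq : (ee P + 1) ^ 2 ≤ Nat.card (P : Subgroup G)) : x = 1 := by
  obtain ⟨D, hD, heD, hD1, -⟩ := exists_D P h ψ x hx (hdag ψ hψ1)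
  choose t y ht hy hty using exists_ty P h
  obtain ⟨m, hm1, hmt, hmy, -⟩ := exists_decomp_sq P h ψ x D hx hD t y ht hy
  have hqne : (Nat.card (P : Subgroup G) : ℂ) ≠ 0 := by
    rw [Nat.cast_ne_zero]; exact Nat.card_pos.ne'
  -- the trivial character
  have ht1 : t (oneIrr G) = 1 := by
    have h1 := ht (oneIrr G)
    simp only [oneIrr, Finset.sum_const, Finset.card_univ, nsmul_eq_mul, mul_one] at h1
    rw [← Nat.card_eq_fintype_card] at h1
    have h2 : (Nat.card (P : Subgroup G) : ℂ) * 1 = (Nat.card (P : Subgroup G) : ℂ) * t (oneIrr G) := by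
      rw [mul_one]; exact h1
    have h3 := mul_left_cancel₀ hqne h2
    exact_mod_cast h3.symm
  have hy1 : y (oneIrr G) = 1 := by
    have h1 := hy (oneIrr G)
    simp only [oneIrr] at h1
    exact_mod_cast h1.symm
  apply hD1
  -- every nonprincipal constituent has no fixed points
  have hkey : ∀ Ψ : IrrCharacter G, Ψ ≠ oneIrr G → m Ψ = 0 ∨ t Ψ = 0 := by
    intro Ψ₀ hΨ₀
    by_contra hcon
    push Not at hcon
    obtain ⟨hm0, ht0⟩ := hcon
    -- degree bound for Ψ₀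
    have hdeg0 : 1 + y Ψ₀ ≤ x ^ 2 := by
      rw [← hmy]
      have h1 : ∑ Ψ ∈ ({oneIrr G, Ψ₀} : Finset (IrrCharacter G)), m Ψ * y Ψ ≤ ∑ Ψ, m Ψ * y Ψ :=
        Finset.sum_le_sum_of_subset (Finset.subset_univ _)
      rw [Finset.sum_pair (Ne.symm hΨ₀), hm1, hy1] at h1
      have h2 : y Ψ₀ ≤ m Ψ₀ * y Ψ₀ := Nat.le_mul_of_pos_left _ (Nat.pos_of_ne_zero hm0)
      omega
    obtain ⟨t', ht', hdich⟩ := core_char P h Ψ₀ (y Ψ₀) (hy Ψ₀) (hdag Ψ₀ hΨ₀) (by omega) hq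
    have htt : t' = t Ψ₀ := by
      have h1 := ht Ψ₀
      rw [ht'] at h1
      have h3 := mul_left_cancel₀ hqne h1
      exact_mod_cast h3
    rw [htt] at hdich
    have hbig : t Ψ₀ + Nat.card (P : Subgroup G) ≤ y Ψ₀ + 1 + ee P := by
      rcases hdich with h0 | h0
      · exact absurd h0 ht0
      · exact h0
    -- summation
    have hq' : ee P + 1 ≤ Nat.card (P : Subgroup G) := by nlinarith [ee_pos P]
    have hpt : ∀ Ψ : IrrCharacter G, m Ψ * t Ψ +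
        (if Ψ = Ψ₀ then (Nat.card (P : Subgroup G) - 1 - ee P) else 0) ≤ m Ψ * y Ψ := by
      intro Ψ
      split_ifs with hΨ
      · subst hΨ
        have h1 : 1 ≤ m Ψ := Nat.pos_of_ne_zero hm0
        have h2 : t Ψ + (Nat.card (P : Subgroup G) - 1 - ee P) ≤ y Ψ := by omega
        calc m Ψ * t Ψ + (Nat.card (P : Subgroup G) - 1 - ee P)
            ≤ m Ψ * t Ψ + m Ψ * (Nat.card (P : Subgroup G) - 1 - ee P) := by
              have := Nat.le_mul_of_pos_left (Nat.card (P : Subgroup G) - 1 - ee P) h1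
              omega
          _ = m Ψ * (t Ψ + (Nat.card (P : Subgroup G) - 1 - ee P)) := by ring
          _ ≤ m Ψ * y Ψ := Nat.mul_le_mul_left _ h2
      · rw [add_zero]
        exact Nat.mul_le_mul_left _ (hty Ψ)
    have hsum := Finset.sum_le_sum (fun Ψ (_ : Ψ ∈ (Finset.univ : Finset (IrrCharacter G))) => hpt Ψ)
    rw [Finset.sum_add_distrib, hmt, hmy, Finset.sum_ite_eq' Finset.univ Ψ₀] at hsum
    simp only [Finset.mem_univ, if_true] at hsum
    omega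
  -- conclusion: D = 1
  rw [← hmt]
  rw [Finset.sum_eq_single (oneIrr G)]
  · rw [hm1, ht1]
  · intro Ψ _ hΨ
    rcases hkey Ψ hΨ with h0 | h0
    · rw [h0, zero_mul]
    · rw [h0, mul_zero]
  · intro h0
    exact absurd (Finset.mem_univ _) h0

end Cfsg.Agent.Lib.Helper74_BLMain
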