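import Mathlib
import Cfsg.Agent.Lib.Helper74_BLMain
import Cfsg.Agent.Lib.Helper3_CharEigen

/-!
# The Brauer--Leonard degree bound: the edge case `|P| = e² + e + 1` (helper74)
-/

set_option autoImplicit false
set_option linter.unusedSectionVars false
set_option linter.unusedVariables false

namespace Cfsg.Agent.Lib.Helper74_BLEdge

open Cfsg Cfsg.Agent.Lib.Helper74_BLGroup Cfsg.Agent.Lib.Helper74_BLCount
  Cfsg.Agent.Lib.Helper74_BLIso Cfsg.Agent.Lib.Helper74_BLNorm Cfsg.Agent.Lib.Helper74_BLData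
  Cfsg.Agent.Lib.Helper74_BLCore Cfsg.Agent.Lib.Helper74_BLMain
  Cfsg.Agent.Lib.Helper80_CharBasic
open scoped ComplexConjugate Classical

section General

variable {Γ : Type*} [Group Γ] [Fintype Γ]

/-- character values are bounded by the degree -/
theorem norm_le_degree {χ : Γ → ℂ} (hχ : IsCharacter Γ χ) (d : ℕ) (hd : χ 1 = d) (c : Γ) :
    ‖χ c‖ ≤ d := by
  obtain ⟨n, ρ, rfl⟩ := hχ
  have h1 := Cfsg.Agent.Lib.Helper3_CharEigen.norm_char_le ρ c
  have h2 : ρ.character 1 = (n : ℂ) := by simp [Representation.character]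
  rw [h2] at hd
  have h3 : n = d := by exact_mod_cast hd
  rw [Module.finrank_fin_fun] at h1
  rw [← h3]
  exact h1

/-- a character of degree one has values of norm one -/
theorem norm_eq_one_of_degree_one {χ : Γ → ℂ} (hχ : IsCharacter Γ χ) (hd : χ 1 = 1) (c : Γ) :
    ‖χ c‖ = 1 := by
  obtain ⟨n, ρ, rfl⟩ := hχ
  have h2 : ρ.character 1 = (n : ℂ) := by simp [Representation.character]
  rw [h2] at hd
  have h3 : n = 1 := by exact_mod_cast hd
  subst h3
  have hirr : IsIrrCharacter Γ ρ.character :=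
    ⟨1, ρ, isIrreducible_of_finrank_eq_one ρ (by simp), rfl⟩
  obtain ⟨f, hf⟩ := Cfsg.Agent.Lib.Helper74_LinAct.exists_lin_of_one
    (χ := ⟨ρ.character, hirr⟩) (by simpa using h2)
  have h4 : ρ.character c = ((f c : ℂˣ) : ℂ) := by
    have := congrArg (fun χ : IrrCharacter Γ => (χ : Γ → ℂ) c) hf
    simpa using this
  rw [h4]
  exact Cfsg.Agent.Lib.Helper74_LinAct.norm_hom f c

theorem eq_of_re_eq {z : ℂ} {t : ℝ} (h1 : ‖z‖ ≤ t) (h2 : z.re = t) : z = (t : ℂ) := by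
  have h3 : ‖z‖ ^ 2 = z.re ^ 2 + z.im ^ 2 := by
    rw [← Complex.normSq_eq_norm_sq, Complex.normSq_apply]; ring
  have h4 : ‖z‖ ^ 2 ≤ t ^ 2 := pow_le_pow_left₀ (norm_nonneg _) h1 2
  have h5 : z.im = 0 := by
    rw [h2] at h3
    have : z.im ^ 2 ≤ 0 := by linarith
    have h6 : z.im ^ 2 = 0 := le_antisymm this (sq_nonneg _)
    exact pow_eq_zero_iff (two_ne_zero) |>.mp h6
  apply Complex.ext
  · simpa using h2
  · simpa using h5

end General

section Const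

variable {Γ Z : Type*} [Group Γ] [Group Z] [Fintype Γ] [Fintype Z] (ι : Z →* Γ)

/-- isotypic components of a constant function -/
theorem comp_const (lam : Z →* ℂˣ) (a : ℂ) :
    comp ι lam (fun _ : Γ => a) = if lam = 1 then (fun _ : Γ => a) else 0 := by
  funext c
  rw [comp_apply, ← Finset.sum_mul]
  have h1 : ∑ z : Z, conj ((lam z : ℂˣ) : ℂ) = if lam = 1 then (Nat.card Z : ℂ) else 0 := by
    have h2 := sum_hom_mul_conj' (1 : Z →* ℂˣ) lam
    simp only [MonoidHom.one_apply, Units.val_one, one_mul] at h2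
    rw [h2]
    by_cases hl : lam = 1
    · rw [if_pos hl, if_pos hl.symm]
    · rw [if_neg hl, if_neg (Ne.symm hl)]
  rw [h1]
  by_cases hl : lam = 1
  · rw [if_pos hl, if_pos hl, ← mul_assoc, inv_mul_cancel₀ card_ne_zero, one_mul]
  · rw [if_neg hl, if_neg hl, zero_mul, mul_zero]
    rfl

end Const

section Edge

variable {G : Type*} [Group G] [Fintype G] {p : ℕ} [hp : Fact p.Prime] (P : Sylow p G)

/-- structure of the multiplicity function of a character of degree `e` -/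
theorem supp_of_degree_ee (h : Unif P) [Fintype ((P : Subgroup G) →* ℂˣ)]
    (d n : ((P : Subgroup G) →* ℂˣ) → ℕ)
    (hnd : ∀ lam, n lam = 0 → d lam = 0) (hsum : ∑ lam, d lam = ee P)
    (hle : ee P ≤ (supp P d).card) :
    (supp P d).card = ee P ∧ d 1 = 0 ∧ ∀ lam ∈ supp P d, d lam = 1 := by
  obtain ⟨-, hf2, -⟩ := supp_facts P h d n (ee P) hnd hsum
  have hcard : (supp P d).card = ee P := by omega
  have hd1 : d 1 = 0 := by omega
  refine ⟨hcard, hd1, ?_⟩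
  have h1S : (1 : (P : Subgroup G) →* ℂˣ) ∉ supp P d := by
    rw [mem_supp]; exact fun h0 => h0.1 rfl
  have h2 : ∑ lam ∈ supp P d, d lam ≤ ∑ lam, d lam :=
    Finset.sum_le_sum_of_subset (Finset.subset_univ _)
  have h3 : ∑ lam ∈ supp P d, 1 ≤ ∑ lam ∈ supp P d, d lam := by
    apply Finset.sum_le_sum
    intro lam hl
    rw [mem_supp] at hl
    omega
  have h4 : ∑ lam ∈ supp P d, d lam = ∑ lam ∈ supp P d, 1 := by
    rw [Finset.sum_const, smul_eq_mul, mul_one] at h3 ⊢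
    omega
  have h5 := (Finset.sum_eq_sum_iff_of_le (s := supp P d) (f := fun _ => 1) (g := d)
    (fun lam hl => by
      rw [mem_supp] at hl
      omega)).mp h4.symm
  intro lam hl
  exact (h5 lam hl).symm

/-- the `P`-trivial part of `ψ ψ̄` on `C` when `ψ` has degree `e` -/
theorem comp_one_sq (h : Unif P) (ψ : IrrCharacter G) (hx : (ψ : G → ℂ) 1 = (ee P : ℕ))
    (hker : ∃ u ∈ (P : Subgroup G), (ψ : G → ℂ) u ≠ (ψ : G → ℂ) 1) (c : CC P) :
    comp (incl P h) 1 (resC P (fun g => (ψ : G → ℂ) g * conj ((ψ : G → ℂ) g))) c = (ee P : ℂ) := by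
  have hfin : Finite ((P : Subgroup G) →* ℂˣ) :=
    Cfsg.Agent.Lib.Helper74_GoingUp.finite_dual (comm_P P h)
  have : Fintype ((P : Subgroup G) →* ℂˣ) := Fintype.ofFinite _
  have hψ : IsCharacter G (ψ : G → ℂ) :=
    Cfsg.Agent.Lib.Helper3_CharBridge.isCharacter_of_isIrrCharacter ψ.2
  obtain ⟨d, n, hd, hn, hd0, hnd, hsum, hinv, -⟩ := exists_data P h hψ
  have hsum' : ∑ lam, d lam = ee P := by
    rw [hx] at hsum
    exact_mod_cast hsum
  have hne := supp_nonempty P h _ d hd hsum hker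
  have hdvd := ee_dvd_supp P h d hinv
  have hle : ee P ≤ (supp P d).card := Nat.le_of_dvd (by omega) hdvd
  obtain ⟨hcard, hd1, hone⟩ := supp_of_degree_ee P h d n hnd hsum' hle
  have hχ : ∀ lam, IsCharacter (CC P) (comp (incl P h) lam (resC P (ψ : G → ℂ))) := fun lam =>
    isCharacter_comp (incl P h) (incl_central P h) (isCharacter_resC P hψ) lam
  rw [comp_apply]
  have h1 : ∀ u : (P : Subgroup G), conj (((1 : (P : Subgroup G) →* ℂˣ) u : ℂˣ) : ℂ) *
      resC P (fun g => (ψ : G → ℂ) g * conj ((ψ : G → ℂ) g)) (incl P h u * c) =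
      resC P (ψ : G → ℂ) (incl P h u * c) * conj (resC P (ψ : G → ℂ) (incl P h u * c)) := by
    intro u
    simp [resC]
  simp_rw [h1]
  rw [sum_translate_mul_conj (incl P h) (comm_P P h), ← mul_assoc, inv_mul_cancel₀ card_ne_zero,
    one_mul]
  have h2 : ∀ lam : (P : Subgroup G) →* ℂˣ,
      comp (incl P h) lam (resC P (ψ : G → ℂ)) c *
        conj (comp (incl P h) lam (resC P (ψ : G → ℂ)) c) =
      if lam ∈ supp P d then 1 else 0 := by
    intro lam
    by_cases hl : lam ∈ supp P d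
    · rw [if_pos hl, Complex.mul_conj, Complex.normSq_eq_norm_sq]
      have h3 : comp (incl P h) lam (resC P (ψ : G → ℂ)) 1 = 1 := by
        rw [hd, hone lam hl, Nat.cast_one]
      rw [norm_eq_one_of_degree_one (hχ lam) h3 c]
      simp
    · rw [if_neg hl]
      have h3 : d lam = 0 := by
        rw [mem_supp] at hl
        by_cases hl1 : lam = 1
        · rw [hl1]; exact hd1
        · by_contra h4
          exact hl ⟨hl1, h4⟩
      rw [hd0 lam h3]
      simp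
  simp_rw [h2]
  rw [Finset.sum_ite_mem, Finset.univ_inter, Finset.sum_const, nsmul_eq_mul, mul_one, hcard]

/-- a nonprincipal irreducible character sums to zero -/
theorem sum_irr_eq_zero (Ψ : IrrCharacter G) (hΨ1 : Ψ ≠ oneIrr G) : ∑ g : G, (Ψ : G → ℂ) g = 0 := by
  have h1 := Cfsg.Agent.Lib.Helper3_CharOrtho.classInner_irr Ψ.2 (oneIrr G).2
  have hne : (Ψ : G → ℂ) ≠ ((oneIrr G : IrrCharacter G) : G → ℂ) := fun h0 => hΨ1 (Subtype.ext h0)
  rw [if_neg hne] at h1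
  unfold classInner at h1
  have hcard : (Nat.card G : ℂ)⁻¹ ≠ 0 := by
    apply inv_ne_zero
    rw [Nat.cast_ne_zero]; exact Nat.card_pos.ne'
  have h2 := (mul_eq_zero.mp h1).resolve_left hcard
  rw [← h2]
  apply Finset.sum_congr rfl
  intro g _
  simp [oneIrr]

/-- the norm of `e Ψ + 1` -/
theorem sum_norm_sq_add_one (Ψ : IrrCharacter G) (hΨ1 : Ψ ≠ oneIrr G) (e : ℕ) :
    ∑ g : G, ‖(e : ℂ) * (Ψ : G → ℂ) g + 1‖ ^ 2 = (Nat.card G : ℝ) * ((e : ℝ) ^ 2 + 1) := by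
  have h1 : ∀ g : G, ‖(e : ℂ) * (Ψ : G → ℂ) g + 1‖ ^ 2 =
      (e : ℝ) ^ 2 * ‖(Ψ : G → ℂ) g‖ ^ 2 + 2 * (e : ℝ) * ((Ψ : G → ℂ) g).re + 1 := by
    intro g
    rw [← Complex.normSq_eq_norm_sq, ← Complex.normSq_eq_norm_sq, Complex.normSq_apply,
      Complex.normSq_apply]
    simp only [Complex.add_re, Complex.mul_re, Complex.natCast_re, Complex.natCast_im, zero_mul,
      sub_zero, Complex.one_re, Complex.add_im, Complex.mul_im, add_zero, Complex.one_im]
    ring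
  simp_rw [h1]
  rw [Finset.sum_add_distrib, Finset.sum_add_distrib, ← Finset.mul_sum, ← Finset.mul_sum,
    Cfsg.Agent.Lib.Helper74_DegPChar.sum_norm_sq Ψ]
  have h2 : ∑ g : G, ((Ψ : G → ℂ) g).re = 0 := by
    have := congrArg Complex.re (sum_irr_eq_zero Ψ hΨ1)
    rw [Complex.re_sum] at this
    simpa using this
  rw [h2, Finset.sum_const, Finset.card_univ, nsmul_eq_mul, mul_one, ← Nat.card_eq_fintype_card]
  ring

/-- the contradiction in the edge case: a nonprincipal irreducible character whose restriction to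
`C` is `1 +` a sum of `e` linear characters nontrivial on `P` cannot exist when `|P| = e² + e + 1` -/
theorem no_special (h : Unif P) (Ψ : IrrCharacter G) (hΨ1 : Ψ ≠ oneIrr G)
    [Fintype ((P : Subgroup G) →* ℂˣ)] (d n : ((P : Subgroup G) →* ℂˣ) → ℕ)
    (hn : ∀ lam, ∑ c : CC P, ‖comp (incl P h) lam (resC P (Ψ : G → ℂ)) c‖ ^ 2 =
        (Nat.card (CC P) : ℝ) * n lam)
    (hd0 : ∀ lam, d lam = 0 → comp (incl P h) lam (resC P (Ψ : G → ℂ)) = 0)
    (hcard : (supp P d).card = ee P) (hsumn : ∑ lam ∈ supp P d, n lam = ee P)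
    (hone : ∀ c : CC P, comp (incl P h) 1 (resC P (Ψ : G → ℂ)) c = 1)
    (hq : Nat.card (P : Subgroup G) = (ee P) ^ 2 + ee P + 1) : False := by
  set e := ee P with he
  set F : G → ℂ := fun g => (e : ℂ) * (Ψ : G → ℂ) g + 1 with hF
  have hcl : IsClassFunction G F := by
    intro g x
    simp only [hF]
    rw [Cfsg.Agent.Lib.Helper80_CharBasic.irr_conj Ψ g x]
  have hF1 : F 1 ≠ 0 := by
    obtain ⟨y, -, hy⟩ := irr_apply_one Ψ
    simp only [hF]
    rw [hy]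
    have : ((e * y + 1 : ℕ) : ℂ) ≠ 0 := by
      rw [Nat.cast_ne_zero]; omega
    push_cast at this
    exact this
  have h1S : (1 : (P : Subgroup G) →* ℂˣ) ∉ supp P d := by
    rw [mem_supp]; exact fun h0 => h0.1 rfl
  have hFres : (fun c : CC P => F c) =
      (e : ℂ) • resC P (Ψ : G → ℂ) + (fun _ : CC P => (1 : ℂ)) := by
    funext c
    simp [hF, resC]
  have hcompF : ∀ lam : (P : Subgroup G) →* ℂˣ, comp (incl P h) lam (fun c : CC P => F c) =
      (e : ℂ) • comp (incl P h) lam (resC P (Ψ : G → ℂ)) +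
        (if lam = 1 then (fun _ : CC P => (1 : ℂ)) else 0) := by
    intro lam
    rw [hFres, comp_add, comp_smul, comp_const]
  have hS : ∀ lam : (P : Subgroup G) →* ℂˣ, lam ∉ supp P d → lam ≠ 1 →
      comp (incl P h) lam (fun c : CC P => F c) = 0 := by
    intro lam hl hl1
    rw [hcompF, if_neg hl1, add_zero]
    have : d lam = 0 := by
      rw [mem_supp] at hl
      by_contra h0
      exact hl ⟨hl1, h0⟩
    rw [hd0 lam this, smul_zero]
  have hepos : (0 : ℝ) < (e : ℝ) + 1 := by positivity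
  have he1 : 1 ≤ e := ee_pos P
  set α : ℝ := (e : ℝ) ^ 2 / ((e : ℝ) + 1) with hα
  have hαpos : 0 < α := by
    rw [hα]
    apply div_pos _ hepos
    have : (1 : ℝ) ≤ (e : ℝ) := by exact_mod_cast he1
    positivity
  have hαe : α * ((e : ℝ) + 1) = (e : ℝ) ^ 2 := by
    rw [hα]; field_simp
  have key := main_ineq P h F hcl hF1 (supp P d) h1S hS α hαpos
  -- evaluate the terms
  have hT1 : ∑ c : CC P, ‖comp (incl P h) 1 (fun c : CC P => F c) c‖ ^ 2 =
      (Nat.card (CC P) : ℝ) * ((e : ℝ) + 1) ^ 2 := by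
    have : ∀ c : CC P, ‖comp (incl P h) 1 (fun c : CC P => F c) c‖ ^ 2 = ((e : ℝ) + 1) ^ 2 := by
      intro c
      rw [hcompF, if_pos rfl]
      simp only [Pi.add_apply, Pi.smul_apply, smul_eq_mul, hone, mul_one]
      have : ((e : ℂ) + 1) = (((e : ℝ) + 1 : ℝ) : ℂ) := by push_cast; rfl
      rw [this, Complex.norm_real, Real.norm_eq_abs, abs_of_pos hepos]
    simp_rw [this]
    rw [Finset.sum_const, Finset.card_univ, nsmul_eq_mul, Nat.card_eq_fintype_card]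
  have hT2 : ∑ lam ∈ supp P d, ∑ c : CC P, ‖comp (incl P h) lam (fun c : CC P => F c) c‖ ^ 2 =
      (Nat.card (CC P) : ℝ) * ((e : ℝ) ^ 2 * (e : ℝ)) := by
    have h5 : ∀ lam ∈ supp P d, ∑ c : CC P, ‖comp (incl P h) lam (fun c : CC P => F c) c‖ ^ 2 =
        (e : ℝ) ^ 2 * ((Nat.card (CC P) : ℝ) * n lam) := by
      intro lam hl
      have hl1 : lam ≠ 1 := fun h0 => h1S (h0 ▸ hl)
      rw [← hn lam, Finset.mul_sum]
      apply Finset.sum_congr rfl
      intro c _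
      rw [hcompF, if_neg hl1, add_zero]
      simp only [Pi.smul_apply, smul_eq_mul, norm_mul, Complex.norm_natCast]
      ring
    rw [Finset.sum_congr rfl h5, ← Finset.mul_sum, ← Finset.mul_sum]
    have h6 : ∑ lam ∈ supp P d, (n lam : ℝ) = (e : ℝ) := by exact_mod_cast hsumn
    rw [h6]; ring
  rw [hT1, hT2, sum_norm_sq_add_one Ψ hΨ1 e, hcard] at key
  have hNC : (Nat.card (NN P) : ℝ) = (e : ℝ) * (Nat.card (CC P) : ℝ) := by
    rw [← ee_mul_card P h]; push_cast; rfl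
  rw [hNC] at key
  have hqr : (Nat.card (P : Subgroup G) : ℝ) = (e : ℝ) ^ 2 + (e : ℝ) + 1 := by
    rw [hq]; push_cast; rfl
  rw [hqr] at key
  have hGpos : (0 : ℝ) < (Nat.card G : ℝ) := by exact_mod_cast Nat.card_pos
  have hCpos : (0 : ℝ) < (Nat.card (CC P) : ℝ) := by exact_mod_cast Nat.card_pos
  have hpos : (0 : ℝ) < (Nat.card G : ℝ) * (Nat.card (CC P) : ℝ) := mul_pos hGpos hCpos
  -- both sides are equal
  have hident : (Nat.card G : ℝ) * (α * ((e : ℝ) ^ 2 + (e : ℝ) + 1) *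
      ((Nat.card (CC P) : ℝ) * ((e : ℝ) + 1) ^ 2 + (Nat.card (CC P) : ℝ) * ((e : ℝ) ^ 2 * (e : ℝ)))) =
      α * ((e : ℝ) ^ 2 + (e : ℝ) + 1) * ((e : ℝ) * (Nat.card (CC P) : ℝ) *
        ((Nat.card G : ℝ) * ((e : ℝ) ^ 2 + 1))) +
      (Nat.card G : ℝ) * (α * (1 + α) * ((Nat.card (CC P) : ℝ) * ((e : ℝ) + 1) ^ 2) +
        (1 + α) * (e : ℝ) * ((Nat.card (CC P) : ℝ) * ((e : ℝ) ^ 2 * (e : ℝ)))) := by
    have h7 : α * (1 + α) * ((e : ℝ) + 1) ^ 2 + (1 + α) * (e : ℝ) * ((e : ℝ) ^ 2 * (e : ℝ)) -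
        α * ((e : ℝ) ^ 2 + (e : ℝ) + 1) * (((e : ℝ) + 1) ^ 2 + (e : ℝ) ^ 2 * (e : ℝ) -
          (e : ℝ) * ((e : ℝ) ^ 2 + 1)) = (α * ((e : ℝ) + 1) - (e : ℝ) ^ 2) ^ 2 := by ring
    rw [hαe, sub_self] at h7
    have h8 : α * (1 + α) * ((e : ℝ) + 1) ^ 2 + (1 + α) * (e : ℝ) * ((e : ℝ) ^ 2 * (e : ℝ)) =
        α * ((e : ℝ) ^ 2 + (e : ℝ) + 1) * (((e : ℝ) + 1) ^ 2 + (e : ℝ) ^ 2 * (e : ℝ) -
          (e : ℝ) * ((e : ℝ) ^ 2 + 1)) := by
      have : (0 : ℝ) ^ 2 = 0 := by norm_num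
      rw [this] at h7
      linarith
    calc (Nat.card G : ℝ) * (α * ((e : ℝ) ^ 2 + (e : ℝ) + 1) *
      ((Nat.card (CC P) : ℝ) * ((e : ℝ) + 1) ^ 2 + (Nat.card (CC P) : ℝ) * ((e : ℝ) ^ 2 * (e : ℝ))))
        = (Nat.card G : ℝ) * (Nat.card (CC P) : ℝ) * (α * ((e : ℝ) ^ 2 + (e : ℝ) + 1) *
            (e : ℝ) * ((e : ℝ) ^ 2 + 1) + α * ((e : ℝ) ^ 2 + (e : ℝ) + 1) *
            (((e : ℝ) + 1) ^ 2 + (e : ℝ) ^ 2 * (e : ℝ) - (e : ℝ) * ((e : ℝ) ^ 2 + 1))) := by ring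
      _ = (Nat.card G : ℝ) * (Nat.card (CC P) : ℝ) * (α * ((e : ℝ) ^ 2 + (e : ℝ) + 1) *
            (e : ℝ) * ((e : ℝ) ^ 2 + 1) + (α * (1 + α) * ((e : ℝ) + 1) ^ 2 +
            (1 + α) * (e : ℝ) * ((e : ℝ) ^ 2 * (e : ℝ)))) := by rw [h8]
      _ = _ := by ring
  rw [hident] at key
  exact lt_irrefl _ key

end Edge

end Cfsg.Agent.Lib.Helper74_BLEdge
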