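/-
  S0983 market (architect helper16), TOOL package BRINV: Brauer data for `|P| = p` together with the
  (rational integer) values at an involution of `C(P)`.
-/
import Mathlib
import Cfsg.Prelude.Def_Blocks
import Cfsg.Agent.Lib.Helper80_CharBasic
import Cfsg.Agent.Lib.Helper16_SO_Brauer
import Cfsg.Agent.Lib.Helper10_F5040_INVVAL
import Cfsg.Agent.Lib.Helper74_CharTools
import Cfsg.Agent.Lib.Helper74_BLEdge
import Cfsg.Agent.Lib.Helper77_BlockBasics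
import Cfsg.Agent.Lib.Helper3_CharBridge

set_option autoImplicit false
open Cfsg Cfsg.Agent.Lib.Helper80_CharBasic

namespace Cfsg.Agent.Lib.Helper78_SO_BRINV

/-- an involution in a subgroup of even order. -/
theorem exists_involution_mem {G : Type*} [Group G] [Finite G] (H : Subgroup G)
    (h2 : 2 ∣ Nat.card H) : ∃ u ∈ H, orderOf u = 2 := by
  haveI : Fact (Nat.Prime 2) := ⟨Nat.prime_two⟩
  obtain ⟨u, hu⟩ := exists_prime_orderOf_dvd_card' 2 h2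
  refine ⟨(u : G), u.2, ?_⟩
  rw [Subgroup.orderOf_coe]
  exact hu

/-- a generator of a group of prime order. -/
theorem exists_generator_of_card_prime {G : Type*} [Group G] {p : ℕ} [hp : Fact p.Prime]
    (P : Subgroup G) (hP : Nat.card P = p) : ∃ x ∈ P, orderOf x = p := by
  haveI : Finite P := Nat.finite_of_card_ne_zero (by rw [hP]; exact hp.out.ne_zero)
  have h1 : 1 < Nat.card P := by rw [hP]; exact hp.out.one_lt
  haveI : Nontrivial P := Finite.one_lt_card_iff_nontrivial.mp h1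
  obtain ⟨x, hx⟩ := exists_ne (1 : P)
  refine ⟨(x : G), x.2, ?_⟩
  rw [Subgroup.orderOf_coe]
  have hdvd : orderOf x ∣ p := by
    rw [← hP]
    exact orderOf_dvd_natCard x
  rcases (Nat.dvd_prime hp.out).mp hdvd with h | h
  · exact absurd (orderOf_eq_one_iff.mp h) hx
  · exact h

theorem brauer_inv_data {G : Type*} [Group G] [Finite G] [IsSimpleGroup G]
    (hG : ¬ IsMulCommutative G) {p : ℕ} [Fact p.Prime] (hp2 : p ≠ 2)
    (P : Sylow p G) (hP : Nat.card P = p) (e : ℕ)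
    (he : (Subgroup.centralizer ((P : Subgroup G) : Set G)).relIndex
      (Subgroup.normalizer ((P : Subgroup G) : Set G)) = e) (he1 : e ≠ 1)
    (heven : 2 ∣ Nat.card (Subgroup.centralizer ((P : Subgroup G) : Set G))) :
    ∃ (X : Finset (Cfsg.IrrCharacter G)) (εX : Cfsg.IrrCharacter G → ℤ)
      (θ : Cfsg.IrrCharacter G) (ε : ℤ) (a : Cfsg.IrrCharacter G → ℤ),
      X.card = e ∧ θ ∉ X ∧
      ((oneIrr G ∈ X ∧ εX (oneIrr G) = 1) ∨ (θ = oneIrr G ∧ ε = -1 ∧ e = p - 1)) ∧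
      (∀ χ ∈ X, (εX χ = 1 ∨ εX χ = -1) ∧
        ((Cfsg.charDegree (χ : G → ℂ) : ℤ) ≡ εX χ [ZMOD p])) ∧
      (ε = 1 ∨ ε = -1) ∧
      ((Cfsg.charDegree (θ : G → ℂ) : ℤ) ≡ ε * (e : ℤ) [ZMOD p]) ∧
      ε * (Cfsg.charDegree (θ : G → ℂ) : ℤ) =
        ∑ χ ∈ X, εX χ * (Cfsg.charDegree (χ : G → ℂ) : ℤ) ∧
      ∑ χ ∈ X, Cfsg.charDegree (χ : G → ℂ) ^ 2 +
        ((p - 1) / e) * Cfsg.charDegree (θ : G → ℂ) ^ 2 ≤ Nat.card G ∧
      a (oneIrr G) = 1 ∧
      (∀ χ : Cfsg.IrrCharacter G, χ ≠ oneIrr G →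
        |a χ| < (Cfsg.charDegree (χ : G → ℂ) : ℤ)) ∧
      (∀ χ ∈ X, χ ≠ oneIrr G → ∃ m : ℕ, 1 ≤ m ∧
        a χ = (Cfsg.charDegree (χ : G → ℂ) : ℤ) - 4 * (p : ℤ) * (m : ℤ)) ∧
      ε * a θ = ∑ χ ∈ X, εX χ * a χ := by
  classical
  let _ : Fintype G := Fintype.ofFinite G
  have hp : p.Prime := Fact.out
  have hna : ¬ ∀ a b : G, a * b = b * a := fun h => hG ⟨⟨h⟩⟩
  have hperf := Cfsg.Agent.Lib.Helper10_F5040_INVVAL.commutator_eq_top_of_simple hna
  obtain ⟨X, εX, θ, ε, hXcard, hθX, hone, hX, hε, hθdeg, hrel, hreg, hsq, -⟩ :=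
    Cfsg.Agent.Lib.Helper16_SO_Brauer.brauer_data hp2 P hP e he he1
  -- the involution and the generator
  obtain ⟨u, huC, hu⟩ := exists_involution_mem _ heven
  obtain ⟨x, hxP, hx⟩ := exists_generator_of_card_prime (P : Subgroup G) hP
  have hxu : Commute x u := by
    rw [Subgroup.mem_centralizer_iff] at huC
    exact huC x hxP
  have hu1 : u ≠ 1 := by
    rintro rfl
    rw [orderOf_one] at hu
    norm_num at hu
  have hpu : ¬ p ∣ orderOf u := by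
    rw [hu]
    intro h
    exact hp2 ((Nat.prime_dvd_prime_iff_eq hp Nat.prime_two).mp h)
  have hp1 : ¬ p ∣ orderOf (1 : G) := by
    rw [orderOf_one]
    exact hp.one_lt.ne' ∘ Nat.dvd_one.mp
  -- the integer values
  have hval : ∀ χ : Cfsg.IrrCharacter G, ∃ a : ℤ, (χ : G → ℂ) u = (a : ℂ) := by
    intro χ
    obtain ⟨j, hj⟩ := Cfsg.Agent.Lib.Helper10_F5040_INVVAL.invol_parity4 hperf χ u hu
    refine ⟨(Cfsg.charDegree (χ : G → ℂ) : ℤ) - 4 * (j : ℤ), ?_⟩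
    rw [hj]
    push_cast
    rfl
  choose a ha using hval
  refine ⟨X, εX, θ, ε, a, hXcard, hθX, hone, fun χ hχ => ⟨(hX χ hχ).1, (hX χ hχ).2.1⟩, hε, hθdeg,
    hrel, hsq, ?_, ?_, ?_, ?_⟩
  · -- `a 1 = 1`
    have h1 : ((a (oneIrr G) : ℤ) : ℂ) = 1 := by
      rw [← ha]
      rfl
    exact_mod_cast h1
  · -- `|a χ| < χ(1)`
    intro χ hχ
    have hle : ‖(χ : G → ℂ) u‖ ≤ (Cfsg.charDegree (χ : G → ℂ) : ℝ) :=
      Cfsg.Agent.Lib.Helper74_BLEdge.norm_le_degree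
        (Cfsg.Agent.Lib.Helper3_CharBridge.isCharacter_of_isIrrCharacter χ.2) _
        (Cfsg.Agent.Lib.Helper77_BlockBasics.apply_one_eq_charDegree χ) u
    have hne := Cfsg.Agent.Lib.Helper74_CharTools.not_norm_eq hna χ hχ u hu1
    have hlt : ‖(χ : G → ℂ) u‖ < (Cfsg.charDegree (χ : G → ℂ) : ℝ) := lt_of_le_of_ne hle hne
    rw [ha χ, Complex.norm_intCast] at hlt
    have : ((|a χ| : ℤ) : ℝ) < ((Cfsg.charDegree (χ : G → ℂ) : ℤ) : ℝ) := by
      push_cast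
      exact hlt
    exact_mod_cast this
  · -- `a χ = χ(1) - 4 p m`
    intro χ hχ hχ1
    have hcl := (hX χ hχ).2.2
    have hxk : ∀ k : ℕ, ¬ p ∣ k → x ^ k ∈ (P : Subgroup G) ∧ x ^ k ≠ 1 := by
      intro k hk
      refine ⟨Subgroup.pow_mem _ hxP k, ?_⟩
      intro h
      apply hk
      rw [← hx]
      exact orderOf_dvd_of_pow_eq_one h
    have h1 : ∀ k : ℕ, ¬ p ∣ k → (χ : G → ℂ) (x ^ k) = (εX χ : ℂ) := by
      intro k hk
      have := hcl (x ^ k) (hxk k hk).1 (hxk k hk).2 1 (Subgroup.one_mem _) hp1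
      rwa [mul_one] at this
    have h2 : ∀ k : ℕ, ¬ p ∣ k → (χ : G → ℂ) (x ^ k * u) = (εX χ : ℂ) := by
      intro k hk
      exact hcl (x ^ k) (hxk k hk).1 (hxk k hk).2 u huC hpu
    obtain ⟨m, hm1, hm⟩ := Cfsg.Agent.Lib.Helper10_F5040_INVVAL.invol_value hna χ hχ1 p hp hp2
      x u hx hu hxu (εX χ) h1 h2
    refine ⟨m, hm1, ?_⟩
    rw [ha χ] at hm
    have : ((a χ : ℤ) : ℂ) =
        (((Cfsg.charDegree (χ : G → ℂ) : ℤ) - 4 * (p : ℤ) * (m : ℤ) : ℤ) : ℂ) := by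
      rw [hm]
      push_cast
      rfl
    exact_mod_cast this
  · -- the `p`-regular relation at `u`
    have h := hreg u hpu
    rw [ha θ] at h
    have h' : ((ε * a θ : ℤ) : ℂ) = ((∑ χ ∈ X, εX χ * a χ : ℤ) : ℂ) := by
      push_cast
      rw [h]
      refine Finset.sum_congr rfl (fun χ _ => ?_)
      rw [ha χ]
    exact_mod_cast h'

end Cfsg.Agent.Lib.Helper78_SO_BRINV
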