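import Mathlib
import Cfsg.Prelude.Def_Blocks
import Cfsg.Agent.Lib.Helper80_CharBasic
import Cfsg.Agent.Lib.Helper16_SO_Brauer
import Cfsg.Agent.Lib.Helper78_SO_BRINV
import Cfsg.Agent.Lib.Helper78_SO_KLEIN
import Cfsg.Agent.Lib.Helper75_SM_Base
import Cfsg.Agent.Lib.Helper77_BlockBasics

/-!
# S0983 package N5460 (architect helper16): no simple group of order 5460

`no_simple_5460_aux` takes the output of the KLEIN tool (`klein_data` for `g₀ = 1365`, only the
degree congruences, the degree relation and the square bound are used) as a hypothesis.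
-/

set_option autoImplicit false
open Cfsg Cfsg.Agent.Lib.Helper80_CharBasic

namespace Cfsg.Agent.Lib.Helper5_SO_N5460

open Cfsg.Agent.Lib.Helper17_Sylow Cfsg.Agent.Lib.Helper75_SM_Base Subgroup

/-- the possible odd degrees -/
theorem deg_cases (x : ℕ) (h1 : x ∣ 5460) (h2 : x * x ≤ 5460) (h3 : x % 2 = 1)
    (h4 : x % 13 = 0 ∨ x % 13 = 1 ∨ x % 13 = 12 ∨ x % 13 = 4 ∨ x % 13 = 9) :
    x = 1 ∨ x = 13 ∨ x = 35 ∨ x = 39 ∨ x = 65 := by
  have hx : x ≤ 73 := by nlinarith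
  interval_cases x <;> omega

/-- the arithmetic of the Klein four relations -/
theorem klein_arith (x₂ x₃ x₄ : ℕ) (ε : ℤ) (hε : ε = 1 ∨ ε = -1)
    (h2 : x₂ = 1 ∨ x₂ = 13 ∨ x₂ = 35 ∨ x₂ = 39 ∨ x₂ = 65)
    (h3 : x₃ = 1 ∨ x₃ = 13 ∨ x₃ = 35 ∨ x₃ = 39 ∨ x₃ = 65)
    (h4 : x₄ = 1 ∨ x₄ = 13 ∨ x₄ = 35 ∨ x₄ = 39 ∨ x₄ = 65)
    (c2 : (4 : ℤ) ∣ (x₂ : ℤ) - 1) (c4 : (4 : ℤ) ∣ (x₄ : ℤ) + 1)
    (hrel : 1 + (x₂ : ℤ) + ε * (x₃ : ℤ) - (x₄ : ℤ) = 0) : False := by
  rcases hε with rfl | rfl <;> rcases h2 with rfl | rfl | rfl | rfl | rfl <;>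
    rcases h3 with rfl | rfl | rfl | rfl | rfl <;> rcases h4 with rfl | rfl | rfl | rfl | rfl <;>
    omega

/-- the statement with the Klein four data as a hypothesis -/
theorem no_simple_5460_aux {G : Type*} [Group G] [Finite G] [IsSimpleGroup G]
    (hK : ¬ IsMulCommutative G → Nat.card G = 4 * 1365 →
      ∃ (ζ₂ ζ₃ ζ₄ : Cfsg.IrrCharacter G) (ε : ℤ), (ε = 1 ∨ ε = -1) ∧
        (4 : ℤ) ∣ (Cfsg.charDegree (ζ₂ : G → ℂ) : ℤ) - 1 ∧
        (4 : ℤ) ∣ (Cfsg.charDegree (ζ₃ : G → ℂ) : ℤ) - ε ∧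
        (4 : ℤ) ∣ (Cfsg.charDegree (ζ₄ : G → ℂ) : ℤ) + 1 ∧
        1 + (Cfsg.charDegree (ζ₂ : G → ℂ) : ℤ) + ε * (Cfsg.charDegree (ζ₃ : G → ℂ) : ℤ) -
          (Cfsg.charDegree (ζ₄ : G → ℂ) : ℤ) = 0 ∧
        1 + Cfsg.charDegree (ζ₂ : G → ℂ) ^ 2 + Cfsg.charDegree (ζ₃ : G → ℂ) ^ 2 +
          Cfsg.charDegree (ζ₄ : G → ℂ) ^ 2 ≤ Nat.card G) :
    Nat.card G ≠ 5460 := by
  intro hcard
  classical
  have hG : ¬ IsMulCommutative G :=
    not_isMulCommutative_of_not_prime (by rw [hcard]; norm_num)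
  haveI : Fact (Nat.Prime 13) := ⟨by norm_num⟩
  have hc : Nat.card G = 13 ^ 1 * 420 := by rw [hcard]; norm_num
  have hm : ¬ 13 ∣ 420 := by norm_num
  have hmem := card_sylow_mem_candidates hc hm
  have hcand : sylowCandidates 13 420 = [1, 14, 105] := by decide
  rw [hcand] at hmem
  simp only [List.mem_cons, List.not_mem_nil, or_false] at hmem
  have hlt := one_lt_card_sylow_of_card hc hm (by norm_num) (by norm_num)
  rcases hmem with hd | hd | hd
  · omega
  · exact perm_kill hG (by norm_num) hc hm hd 390 (by rw [hcard]) (by norm_num)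
  -- `n_13 = 105`
  obtain ⟨P⟩ : Nonempty (Sylow 13 G) := inferInstance
  have hP : Nat.card (P : Subgroup G) = 13 := by
    have := card_sylow_eq_pow hc hm P
    rwa [pow_one] at this
  have hN : Nat.card (normalizer ((P : Subgroup G) : Set G)) = 52 := by
    have := card_normalizer_mul_card_sylow P
    rw [hd, hcard] at this
    omega
  have hle : centralizer ((P : Subgroup G) : Set G) ≤ normalizer ((P : Subgroup G) : Set G) :=
    Subgroup.centralizer_le_normalizer _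
  set e := (centralizer ((P : Subgroup G) : Set G)).relIndex
    (normalizer ((P : Subgroup G) : Set G)) with he
  have hCe : Nat.card (centralizer ((P : Subgroup G) : Set G)) * e = 52 := by
    rw [← hN]; exact card_mul_relIndex_of_le hle
  have hedvd : e ∣ 12 := relIndex_centralizer_normalizer_dvd_pred (P : Subgroup G) hP
  have hcyc : IsCyclic (P : Subgroup G) := isCyclic_of_prime_card hP
  have hPC : (P : Subgroup G) ≤ centralizer ((P : Subgroup G) : Set G) :=
    le_centralizer_of_isCyclic (P : Subgroup G)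
  have h13C : 13 ∣ Nat.card (centralizer ((P : Subgroup G) : Set G)) := by
    have := Subgroup.card_dvd_of_le hPC
    rwa [hP] at this
  have he1 : e ≠ 1 := by
    intro h1
    have hNC : normalizer ((P : Subgroup G) : Set G) ≤ centralizer ((P : Subgroup G) : Set G) := by
      have : (centralizer ((P : Subgroup G) : Set G)).relIndex
          (normalizer ((P : Subgroup G) : Set G)) = 1 := by rw [← he]; exact h1
      exact Subgroup.relIndex_eq_one.1 this
    rcases sylow_eq_bot_or_top_of_normalizer_le_centralizer P hNC with h | h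
    · have := hP; rw [h] at this; simp at this
    · have := hP; rw [h, Subgroup.card_top, hcard] at this; omega
  have hcases : (e = 2 ∧ Nat.card (centralizer ((P : Subgroup G) : Set G)) = 26) ∨
      (e = 4 ∧ Nat.card (centralizer ((P : Subgroup G) : Set G)) = 13) := by
    obtain ⟨t, ht⟩ := h13C
    rw [ht] at hCe ⊢
    have hte : t * e = 4 := by
      have : 13 * (t * e) = 13 * 4 := by rw [← mul_assoc]; omega
      omega
    have he4 : e ∣ 4 := ⟨t, by rw [← hte]; ring⟩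
    have hele : e ≤ 4 := Nat.le_of_dvd (by norm_num) he4
    interval_cases e
    · omega
    · omega
    · left; exact ⟨rfl, by omega⟩
    · omega
    · right; exact ⟨rfl, by omega⟩
  rcases hcases with ⟨he2, hC⟩ | ⟨he4, hC⟩
  · -- `e = 2`: an involution in `C(P)`
    obtain ⟨X, εX, θ, ε, a, hXc, hθX, hone, hX, hε, hθdeg, hrel, hsq, ha1, habs, hval, -⟩ :=
      Cfsg.Agent.Lib.Helper78_SO_BRINV.brauer_inv_data hG (by norm_num) P hP e he.symm he1
        (by rw [hC]; norm_num)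
    have h1X : oneIrr G ∈ X := by
      rcases hone with h | ⟨-, -, h⟩
      · exact h.1
      · omega
    have hXe : (X.erase (oneIrr G)).card = 1 := by
      rw [Finset.card_erase_of_mem h1X, hXc, he2]
    obtain ⟨χ, hχ⟩ := Finset.card_eq_one.mp hXe
    have hχmem : χ ∈ X.erase (oneIrr G) := by rw [hχ]; exact Finset.mem_singleton_self χ
    have hχne : χ ≠ oneIrr G := (Finset.mem_erase.mp hχmem).1
    have hχX : χ ∈ X := (Finset.mem_erase.mp hχmem).2
    set d := Cfsg.charDegree (χ : G → ℂ) with hd'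
    obtain ⟨m, hm1, hm⟩ := hval χ hχX hχne
    have hab := abs_lt.1 (habs χ hχne)
    rw [hm] at hab
    have hd27 : 27 ≤ d := by
      have h1 := hab.1
      push_cast at h1
      have : (52 : ℤ) * (m : ℤ) < 2 * (d : ℤ) := by linarith
      have hm' : (1 : ℤ) ≤ (m : ℤ) := by exact_mod_cast hm1
      have : (52 : ℤ) < 2 * (d : ℤ) := by linarith
      omega
    have hdsq : d * d ≤ 5460 := by
      have h1 : d ^ 2 ≤ ∑ χ ∈ X, Cfsg.charDegree (χ : G → ℂ) ^ 2 :=
        Finset.single_le_sum (f := fun χ : Cfsg.IrrCharacter G => Cfsg.charDegree (χ : G → ℂ) ^ 2)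
          (fun i _ => Nat.zero_le _) hχX
      rw [hcard] at hsq
      have : d ^ 2 ≤ 5460 := le_trans h1 (le_trans (Nat.le_add_right _ _) hsq)
      rwa [sq] at this
    have hd73 : d ≤ 73 := by nlinarith
    have hddvd : d ∣ 5460 := by
      rw [← hcard]; exact Cfsg.Agent.Lib.Helper77_BlockBasics.charDegree_dvd_card χ
    obtain ⟨hεχ, hmod⟩ := hX χ hχX
    have hmod' : d % 13 = 1 ∨ d % 13 = 12 := by
      unfold Int.ModEq at hmod
      rcases hεχ with h | h <;> rw [h] at hmod <;> omega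
    interval_cases d <;> omega
  · -- `e = 4`: `C(P) = P`
    have hCP : centralizer ((P : Subgroup G) : Set G) = (P : Subgroup G) := by
      symm
      apply Subgroup.eq_of_le_of_card_ge hPC
      rw [hC, hP]
    obtain ⟨X, εX, θ, ε, hXc, hθX, hone, hX, hε, hθdeg, hrel, hreg, hsq, hlast⟩ :=
      Cfsg.Agent.Lib.Helper16_SO_Brauer.brauer_data (by norm_num) P hP e he.symm he1
    have hdegmod : ∀ χ : Cfsg.IrrCharacter G,
        Cfsg.charDegree (χ : G → ℂ) % 13 = 0 ∨ Cfsg.charDegree (χ : G → ℂ) % 13 = 1 ∨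
        Cfsg.charDegree (χ : G → ℂ) % 13 = 12 ∨ Cfsg.charDegree (χ : G → ℂ) % 13 = 4 ∨
        Cfsg.charDegree (χ : G → ℂ) % 13 = 9 := by
      intro χ
      by_cases h13 : 13 ∣ Cfsg.charDegree (χ : G → ℂ)
      · left; omega
      · rcases hlast hCP χ h13 with hχX | hχθ
        · obtain ⟨hεχ, hmod, -⟩ := hX χ hχX
          unfold Int.ModEq at hmod
          rcases hεχ with h | h <;> rw [h] at hmod <;> omega
        · rw [hχθ]
          unfold Int.ModEq at hθdeg
          rw [he4] at hθdeg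
          rcases hε with h | h <;> rw [h] at hθdeg <;> omega
    obtain ⟨ζ₂, ζ₃, ζ₄, ε', hε', c2, c3, c4, hrel', hsq'⟩ := hK hG (by rw [hcard])
    rw [hcard] at hsq'
    have hdvd : ∀ χ : Cfsg.IrrCharacter G, Cfsg.charDegree (χ : G → ℂ) ∣ 5460 := by
      intro χ; rw [← hcard]; exact Cfsg.Agent.Lib.Helper77_BlockBasics.charDegree_dvd_card χ
    set x₂ := Cfsg.charDegree (ζ₂ : G → ℂ) with hx₂
    set x₃ := Cfsg.charDegree (ζ₃ : G → ℂ) with hx₃
    set x₄ := Cfsg.charDegree (ζ₄ : G → ℂ) with hx₄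
    have hs2 : x₂ * x₂ ≤ 5460 := by nlinarith
    have hs3 : x₃ * x₃ ≤ 5460 := by nlinarith
    have hs4 : x₄ * x₄ ≤ 5460 := by nlinarith
    have ho2 : x₂ % 2 = 1 := by omega
    have ho4 : x₄ % 2 = 1 := by omega
    have ho3 : x₃ % 2 = 1 := by
      rcases hε' with h | h <;> rw [h] at c3 <;> omega
    exact klein_arith x₂ x₃ x₄ ε' hε'
      (deg_cases x₂ (hdvd ζ₂) hs2 ho2 (hdegmod ζ₂))
      (deg_cases x₃ (hdvd ζ₃) hs3 ho3 (hdegmod ζ₃))
      (deg_cases x₄ (hdvd ζ₄) hs4 ho4 (hdegmod ζ₄)) c2 c4 hrel'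

/-- **N5460**: no simple group of order 5460. -/
theorem no_simple_5460 {G : Type*} [Group G] [Finite G] [IsSimpleGroup G] : Nat.card G ≠ 5460 := by
  apply no_simple_5460_aux
  intro hG hcard
  obtain ⟨ζ₂, ζ₃, ζ₄, ε, cP, cJ, hε, -, -, -, -, -, -, c2, c3, c4, hrel, hsq, -⟩ :=
    Cfsg.Agent.Lib.Helper78_SO_KLEIN.klein_data hG 1365 (by decide) hcard
  exact ⟨ζ₂, ζ₃, ζ₄, ε, hε, c2, c3, c4, hrel, hsq⟩

end Cfsg.Agent.Lib.Helper5_SO_N5460
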