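import Mathlib

/-!
# Class sizes: basic toolkit (helper66)

`cs g = (centralizer {g}).index` is the size of the conjugacy class of `g`.  This file collects
elementary lemmas used for "class size" theorems (Bertram–Herzog–Mann / Bianchi–Gillio–Casolo
type arguments): coprime index factorisation, `π`/`π'`-decomposition of elements with respect to
the prime divisors of a number `m`, centralisers of products of commuting elements of coprime
order, normal subgroups of order coprime to an index, etc.
-/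

set_option autoImplicit false

namespace Cfsg.Agent.Lib.Helper66_ClassSize

open Subgroup

variable {G : Type*} [Group G]

/-- centraliser of an element -/
abbrev C (g : G) : Subgroup G := Subgroup.centralizer ({g} : Set G)

/-- class size of an element -/
noncomputable abbrev cs (g : G) : ℕ := (Subgroup.centralizer ({g} : Set G)).index

theorem mem_C {g k : G} : k ∈ C g ↔ k * g = g * k := mem_centralizer_singleton_iff

theorem self_mem_C (g : G) : g ∈ C g := mem_C.2 rfl

theorem center_le_C (g : G) : center G ≤ C g := fun _ hz =>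
  mem_C.2 ((mem_center_iff.1 hz g).symm)

theorem C_le_C_of_mem_zpowers {g a : G} (ha : a ∈ zpowers g) : C g ≤ C a := by
  intro k hk
  rw [mem_C] at hk ⊢
  obtain ⟨i, rfl⟩ := mem_zpowers_iff.1 ha
  exact ((Commute.zpow_right (show Commute k g from hk) i)).eq

theorem C_conj (t g : G) : C (t * g * t⁻¹) = (C g).map (MulAut.conj t).toMonoidHom := by
  ext k
  simp only [mem_C, mem_map, MulEquiv.coe_toMonoidHom, MulAut.conj_apply]
  constructor
  · intro h
    refine ⟨t⁻¹ * k * t, ?_, by group⟩
    have h2 : t⁻¹ * (k * (t * g * t⁻¹)) * t = t⁻¹ * (t * g * t⁻¹ * k) * t := by rw [h]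
    calc t⁻¹ * k * t * g = t⁻¹ * (k * (t * g * t⁻¹)) * t := by group
      _ = t⁻¹ * (t * g * t⁻¹ * k) * t := h2
      _ = g * (t⁻¹ * k * t) := by group
  · rintro ⟨c, hc, rfl⟩
    calc t * c * t⁻¹ * (t * g * t⁻¹) = t * (c * g) * t⁻¹ := by group
      _ = t * (g * c) * t⁻¹ := by rw [hc]
      _ = t * g * t⁻¹ * (t * c * t⁻¹) := by group

theorem cs_conj (t g : G) : cs (t * g * t⁻¹) = cs g := by
  unfold cs
  rw [show Subgroup.centralizer ({t * g * t⁻¹} : Set G) = C (t * g * t⁻¹) from rfl, C_conj]
  exact index_map_equiv (C g) (MulAut.conj t)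

theorem cs_eq_of_isConj {g h : G} (hgh : IsConj g h) : cs h = cs g := by
  obtain ⟨c, rfl⟩ := isConj_iff.1 hgh
  exact cs_conj c g

theorem cs_eq_one_iff {g : G} : cs g = 1 ↔ g ∈ center G := by
  unfold cs
  rw [index_eq_one, eq_top_iff, mem_center_iff]
  constructor
  · intro h k
    exact mem_C.1 (h (mem_top k))
  · intro h k _
    exact mem_C.2 (h k)

theorem cs_dvd_of_C_le {a b : G} (h : C a ≤ C b) : cs b ∣ cs a := index_dvd_of_le h

/-- The size of a conjugacy class is the index of the centraliser. -/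
theorem ncard_isConj_eq_cs (x : G) : {y : G | IsConj x y}.ncard = cs x := by
  have horb : {h : G | IsConj x h} = MulAction.orbit (ConjAct G) x := by
    ext h
    rw [ConjAct.mem_orbit_conjAct, isConj_comm]
    rfl
  unfold cs
  rw [horb, ← MulAction.index_stabilizer, Subgroup.centralizer_eq_comap_stabilizer]
  exact (Subgroup.index_comap_of_surjective _ (ConjAct.toConjAct (G := G)).surjective).symm

section Finite

variable [Finite G]

theorem cs_pos (g : G) : 0 < cs g := Nat.pos_of_ne_zero index_ne_zero_of_finite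

/-- A subgroup containing another one with at most its index is equal to it. -/
theorem le_of_le_of_index_le {A B : Subgroup G} (h : A ≤ B) (hi : A.index ≤ B.index) : B ≤ A := by
  have h1 := relIndex_mul_index h
  have hB : 0 < B.index := Nat.pos_of_ne_zero index_ne_zero_of_finite
  have h2 : A.relIndex B = 1 := by
    have h3 : A.relIndex B * B.index ≤ 1 * B.index := by rw [h1, one_mul]; exact hi
    have h4 := Nat.le_of_mul_le_mul_right h3 hB
    have h5 : 0 < A.relIndex B := by
      rcases Nat.eq_zero_or_pos (A.relIndex B) with h0 | h0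
      · rw [h0, zero_mul] at h1
        exact absurd h1.symm index_ne_zero_of_finite
      · exact h0
    omega
  exact relIndex_eq_one.1 h2

/-- Coprime indices: the index of the intersection is the product. -/
theorem index_inf_of_coprime (A B : Subgroup G) (h : A.index.Coprime B.index) :
    (A ⊓ B).index = A.index * B.index := by
  have h1 : A.index ∣ (A ⊓ B).index := index_dvd_of_le inf_le_left
  have h2 : B.index ∣ (A ⊓ B).index := index_dvd_of_le inf_le_right
  have h3 : A.index * B.index ∣ (A ⊓ B).index := h.mul_dvd_of_dvd_of_dvd h1 h2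
  have h4 : (A ⊓ B).index ≤ A.index * B.index := index_inf_le
  have h5 : 0 < (A ⊓ B).index := Nat.pos_of_ne_zero index_ne_zero_of_finite
  exact le_antisymm h4 (Nat.le_of_dvd h5 h3)

/-- Coprime indices: `|A : A ∩ B| = |G : B|`. -/
theorem relIndex_of_coprime (A B : Subgroup G) (h : A.index.Coprime B.index) :
    B.relIndex A = B.index := by
  have h1 := index_inf_of_coprime A B h
  have h2 : (A ⊓ B).relIndex A * A.index = (A ⊓ B).index := relIndex_mul_index inf_le_left
  rw [inf_comm, inf_relIndex_right] at h2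
  rw [inf_comm] at h2
  rw [h1, mul_comm] at h2
  exact Nat.eq_of_mul_eq_mul_left (Nat.pos_of_ne_zero index_ne_zero_of_finite) h2

/-- Coprime indices: `G = A B`. -/
theorem exists_mul_of_coprime_index (A B : Subgroup G) (h : A.index.Coprime B.index) (t : G) :
    ∃ a ∈ A, ∃ b ∈ B, t = a * b := by
  -- the map `A / (A ∩ B) → G / B` is injective between sets of the same size
  let f : A ⧸ B.subgroupOf A → G ⧸ B :=
    Quotient.map' (fun a : A => (a : G)) (fun a b hab => by
      rw [QuotientGroup.leftRel_apply] at hab ⊢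
      exact hab)
  have hf : Function.Injective f := by
    intro q₁ q₂
    induction q₁ using Quotient.inductionOn' with | _ a₁ => ?_
    induction q₂ using Quotient.inductionOn' with | _ a₂ => ?_
    intro h12
    simp only [f, Quotient.map'_mk''] at h12
    apply Quotient.sound'
    rw [QuotientGroup.leftRel_apply]
    have := Quotient.exact' h12
    rw [QuotientGroup.leftRel_apply] at this
    exact this
  have hcard : Nat.card (A ⧸ B.subgroupOf A) = Nat.card (G ⧸ B) := by
    rw [← index_eq_card, ← index_eq_card]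
    exact relIndex_of_coprime A B h
  have hbij : Function.Bijective f := by
    rw [Nat.bijective_iff_injective_and_card]
    exact ⟨hf, hcard⟩
  obtain ⟨q, hq⟩ := hbij.2 (QuotientGroup.mk t)
  induction q using Quotient.inductionOn' with | _ a => ?_
  simp only [f, Quotient.map'_mk''] at hq
  have h3 := Quotient.exact' hq
  rw [QuotientGroup.leftRel_apply] at h3
  exact ⟨a, a.2, (a : G)⁻¹ * t, h3, by group⟩

/-- A normal subgroup whose order is coprime to the index of `H` is contained in `H`. -/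
theorem le_of_normal_of_coprime (N H : Subgroup G) [N.Normal]
    (h : (Nat.card N).Coprime H.index) : N ≤ H := by
  have h1 : Nat.card N * N.relIndex (H ⊔ N) = Nat.card (H ⊔ N : Subgroup G) := by
    rw [← relIndex_bot_left, ← relIndex_bot_left, relIndex_mul_relIndex _ _ _ bot_le le_sup_right]
  rw [relIndex_sup_right] at h1
  have h2 : Nat.card H * H.relIndex (H ⊔ N) = Nat.card (H ⊔ N : Subgroup G) := by
    rw [← relIndex_bot_left, ← relIndex_bot_left, relIndex_mul_relIndex _ _ _ bot_le le_sup_left]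
  have h3 : Nat.card (H ⊓ N : Subgroup G) * N.relIndex H = Nat.card H := by
    rw [← relIndex_bot_left, ← relIndex_bot_left, ← inf_relIndex_right (H := N) (K := H),
      inf_comm N H, relIndex_mul_relIndex _ _ _ bot_le inf_le_left]
  have h4 : H.relIndex (H ⊔ N) ∣ Nat.card N := by
    have h5 : N.relIndex H * (Nat.card (H ⊓ N : Subgroup G) * H.relIndex (H ⊔ N)) =
        N.relIndex H * Nat.card N := by
      calc N.relIndex H * (Nat.card (H ⊓ N : Subgroup G) * H.relIndex (H ⊔ N))
          = (Nat.card (H ⊓ N : Subgroup G) * N.relIndex H) * H.relIndex (H ⊔ N) := by ring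
        _ = Nat.card (H ⊔ N : Subgroup G) := by rw [h3, h2]
        _ = N.relIndex H * Nat.card N := by rw [← h1]; ring
    have h6 : 0 < N.relIndex H := by
      rcases Nat.eq_zero_or_pos (N.relIndex H) with h0 | h0
      · rw [h0, mul_zero] at h3
        exact absurd h3.symm Nat.card_pos.ne'
      · exact h0
    exact ⟨_, (Nat.eq_of_mul_eq_mul_left h6 h5).symm.trans (mul_comm _ _)⟩
  have h7 : H.relIndex (H ⊔ N) ∣ H.index := relIndex_dvd_index_of_le le_sup_left
  have h8 : H.relIndex (H ⊔ N) = 1 := Nat.eq_one_of_dvd_coprimes h h4 h7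
  exact le_sup_right.trans (relIndex_eq_one.1 h8)

/-- A central element of `H` whose order is coprime to `|H : H ∩ L|` lies in `L`. -/
theorem mem_of_central_of_coprime (H L : Subgroup G) (a : G) (haH : a ∈ H)
    (hcomm : ∀ h ∈ H, Commute a h) (hcop : (orderOf a).Coprime (L.relIndex H)) : a ∈ L := by
  set S := H ⊓ L with hS
  set K' := zpowers a ⊔ S with hK'
  have hSK : S ≤ K' := le_sup_right
  have hKH : K' ≤ H := sup_le (zpowers_le.2 haH) inf_le_left
  have h1 : S.relIndex K' ∣ L.relIndex H := by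
    have e : S.relIndex H = L.relIndex H := by rw [hS, inf_comm, inf_relIndex_right]
    have := relIndex_mul_relIndex S K' H hSK hKH
    rw [e] at this
    exact ⟨_, this.symm⟩
  have hcomm' : ∀ (u : zpowers a) (s : S), Commute ((zpowers a).subtype u) (S.subtype s) := by
    rintro ⟨u, hu⟩ ⟨s, hs⟩
    obtain ⟨i, rfl⟩ := mem_zpowers_iff.1 hu
    exact Commute.zpow_left (hcomm s hs.1) i
  have h2 : Nat.card K' ∣ orderOf a * Nat.card S := by
    have h3 := card_range_dvd (MonoidHom.noncommCoprod (zpowers a).subtype S.subtype hcomm')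
    rw [MonoidHom.noncommCoprod_range, Subgroup.range_subtype, Subgroup.range_subtype,
      Nat.card_prod, Nat.card_zpowers] at h3
    exact h3
  have h4 : Nat.card S * S.relIndex K' = Nat.card K' := by
    rw [← relIndex_bot_left, ← relIndex_bot_left, relIndex_mul_relIndex _ _ _ bot_le hSK]
  have h5 : S.relIndex K' ∣ orderOf a := by
    rw [← h4, mul_comm (orderOf a)] at h2
    exact Nat.dvd_of_mul_dvd_mul_left Nat.card_pos h2
  have h6 : S.relIndex K' = 1 := Nat.eq_one_of_dvd_coprimes hcop h5 h1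
  have h7 : K' ≤ S := relIndex_eq_one.1 h6
  exact (h7 (mem_sup_left (mem_zpowers a))).2

end Finite


/-! ### `π`-elements and `π'`-elements with respect to the primes dividing `m` -/

/-- `a` is a `π(m)`-element: every prime dividing its order divides `m`. -/
def PiEl (m : ℕ) (a : G) : Prop := ∀ p : ℕ, p.Prime → p ∣ orderOf a → p ∣ m

/-- `b` is a `π(m)'`-element: its order is coprime to `m`. -/
def PiPr (m : ℕ) (b : G) : Prop := (orderOf b).Coprime m

theorem PiEl.one (m : ℕ) : PiEl m (1 : G) := by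
  intro p hp h
  rw [orderOf_one] at h
  exact absurd (Nat.dvd_one.1 h) hp.ne_one

theorem PiPr.one (m : ℕ) : PiPr m (1 : G) := by
  unfold PiPr
  rw [orderOf_one]
  exact Nat.coprime_one_left m

theorem PiEl.of_orderOf_dvd {m : ℕ} {a : G} (h : orderOf a ∣ m) : PiEl m a :=
  fun _ _ hpa => hpa.trans h

theorem PiEl.of_pow_eq_one {m : ℕ} {a : G} (h : a ^ m = 1) : PiEl m a :=
  PiEl.of_orderOf_dvd (orderOf_dvd_of_pow_eq_one h)

theorem PiEl.of_mem_zpowers {m : ℕ} {g a : G} (hg : PiEl m g) (ha : a ∈ zpowers g) : PiEl m a :=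
  fun p hp hpa => hg p hp (hpa.trans (orderOf_dvd_of_mem_zpowers ha))

theorem PiPr.of_mem_zpowers {m : ℕ} {g b : G} (hg : PiPr m g) (hb : b ∈ zpowers g) : PiPr m b :=
  Nat.Coprime.coprime_dvd_left (orderOf_dvd_of_mem_zpowers hb) hg

theorem PiEl.coprime_orderOf {m : ℕ} {a b : G} (ha : PiEl m a) (hb : PiPr m b) :
    (orderOf a).Coprime (orderOf b) := by
  apply Nat.Coprime.symm
  apply Nat.coprime_of_dvd
  intro p hp hpb hpa
  have h1 : p ∣ m := ha p hp hpa
  have h2 : p ∣ Nat.gcd (orderOf b) m := Nat.dvd_gcd hpb h1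
  rw [hb] at h2
  exact hp.ne_one (Nat.dvd_one.1 h2)

theorem PiEl.coprime_of_coprime {m n : ℕ} {a : G} (ha : PiEl m a) (hmn : m.Coprime n) :
    (orderOf a).Coprime n := by
  apply Nat.Coprime.symm
  apply Nat.coprime_of_dvd
  intro p hp hpn hpa
  have h1 : p ∣ m := ha p hp hpa
  have h2 : p ∣ Nat.gcd m n := Nat.dvd_gcd h1 hpn
  rw [hmn] at h2
  exact hp.ne_one (Nat.dvd_one.1 h2)

theorem eq_one_of_PiEl_of_PiPr {m : ℕ} {a : G} (ha : PiEl m a) (hb : PiPr m a) : a = 1 := by
  have := PiEl.coprime_orderOf ha hb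
  rw [Nat.coprime_self] at this
  exact orderOf_eq_one_iff.1 this

theorem PiEl.conj {m : ℕ} {a : G} (ha : PiEl m a) (t : G) : PiEl m (t * a * t⁻¹) := by
  intro p hp h
  rw [show t * a * t⁻¹ = MulAut.conj t a from rfl, MulEquiv.orderOf_eq] at h
  exact ha p hp h

theorem PiPr.conj {m : ℕ} {a : G} (ha : PiPr m a) (t : G) : PiPr m (t * a * t⁻¹) := by
  unfold PiPr
  rw [show t * a * t⁻¹ = MulAut.conj t a from rfl, MulEquiv.orderOf_eq]
  exact ha

theorem PiEl.mul {m : ℕ} {a b : G} (ha : PiEl m a) (hb : PiEl m b) (hab : Commute a b) :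
    PiEl m (a * b) := by
  intro p hp h
  have h1 : orderOf (a * b) ∣ orderOf a * orderOf b := hab.orderOf_mul_dvd_mul_orderOf
  rcases (hp.dvd_mul).1 (h.trans h1) with h2 | h2
  · exact ha p hp h2
  · exact hb p hp h2

theorem PiPr.mul {m : ℕ} {a b : G} (ha : PiPr m a) (hb : PiPr m b) (hab : Commute a b) :
    PiPr m (a * b) := by
  unfold PiPr at *
  exact Nat.Coprime.coprime_dvd_left hab.orderOf_mul_dvd_mul_orderOf (Nat.Coprime.mul_left ha hb)

/-- An element whose order is coprime to `k` is a power of its `k`-th power. -/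
theorem mem_zpowers_pow_of_coprime {b : G} {k : ℕ} (h : (orderOf b).Coprime k) :
    b ∈ zpowers (b ^ k) := by
  obtain ⟨j, hj⟩ := exists_pow_eq_self_of_coprime (x := b) h.symm
  have h2 : (b ^ k) ^ j ∈ zpowers (b ^ k) := Subgroup.pow_mem _ (mem_zpowers _) j
  rwa [hj] at h2

theorem mem_of_pow_mem_of_PiPr {m : ℕ} {b : G} (hb : PiPr m b) (S : Subgroup G) (h : b ^ m ∈ S) :
    b ∈ S :=
  (zpowers_le.2 h) (mem_zpowers_pow_of_coprime hb)

/-- Primary decomposition with respect to one prime. -/
theorem exists_decomp_prime (p : ℕ) (hp : p.Prime) (g : G) (hg : IsOfFinOrder g) :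
    ∃ u y : G, u ∈ zpowers g ∧ y ∈ zpowers g ∧ g = u * y ∧
      (∃ k : ℕ, u ^ (p ^ k) = 1) ∧ (orderOf y).Coprime p := by
  have hn : orderOf g ≠ 0 := (orderOf_pos_iff.mpr hg).ne'
  obtain ⟨k, m, hm, hnm⟩ := Nat.exists_eq_pow_mul_and_not_dvd hn p hp.ne_one
  have hcop : Nat.Coprime (p ^ k) m :=
    Nat.Coprime.pow_left _ ((Nat.Prime.coprime_iff_not_dvd hp).mpr hm)
  have hb : (Nat.gcd (p ^ k) m : ℤ) = (p ^ k : ℕ) * Nat.gcdA (p ^ k) m + m * Nat.gcdB (p ^ k) m :=
    Nat.gcd_eq_gcd_ab _ _
  rw [hcop] at hb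
  set s := Nat.gcdA (p ^ k) m
  set t := Nat.gcdB (p ^ k) m
  refine ⟨g ^ ((m : ℤ) * t), g ^ (((p ^ k : ℕ) : ℤ) * s), zpow_mem (mem_zpowers g) _,
    zpow_mem (mem_zpowers g) _, ?_, ⟨k, ?_⟩, ?_⟩
  · rw [← zpow_add, add_comm, ← hb]; simp
  · rw [← zpow_natCast, ← zpow_mul]
    have : (m : ℤ) * t * ((p ^ k : ℕ) : ℤ) = ((orderOf g : ℕ) : ℤ) * t := by
      rw [hnm]; push_cast; ring
    rw [this, zpow_mul, zpow_natCast, pow_orderOf_eq_one, one_zpow]
  · have h1 : (g ^ (((p ^ k : ℕ) : ℤ) * s)) ^ m = 1 := by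
      rw [← zpow_natCast, ← zpow_mul]
      have : ((p ^ k : ℕ) : ℤ) * s * (m : ℤ) = ((orderOf g : ℕ) : ℤ) * s := by
        rw [hnm]; push_cast; ring
      rw [this, zpow_mul, zpow_natCast, pow_orderOf_eq_one, one_zpow]
    have h2 : orderOf (g ^ (((p ^ k : ℕ) : ℤ) * s)) ∣ m := orderOf_dvd_of_pow_eq_one h1
    exact Nat.Coprime.coprime_dvd_left h2 ((Nat.Prime.coprime_iff_not_dvd hp).mpr hm).symm

/-- `π(m)`/`π(m)'`-decomposition of an element of finite order. -/
theorem exists_decomp (m : ℕ) (g : G) (hg : IsOfFinOrder g) :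
    ∃ a b : G, a ∈ zpowers g ∧ b ∈ zpowers g ∧ g = a * b ∧ PiEl m a ∧ PiPr m b := by
  induction' hk : orderOf g using Nat.strong_induction_on with k ih generalizing g
  by_cases hc : (orderOf g).Coprime m
  · exact ⟨1, g, one_mem _, mem_zpowers g, (one_mul g).symm, PiEl.one m, hc⟩
  · obtain ⟨p, hp, hpg, hpm⟩ := Nat.Prime.not_coprime_iff_dvd.1 hc
    obtain ⟨u, y, hu, hy, hguy, ⟨j, hj⟩, hyp⟩ := exists_decomp_prime p hp g hg
    have hyo : orderOf y ∣ orderOf g := orderOf_dvd_of_mem_zpowers hy
    have hylt : orderOf y < k := by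
      rw [← hk]
      refine lt_of_le_of_ne (Nat.le_of_dvd (orderOf_pos_iff.mpr hg) hyo) ?_
      intro heq
      rw [← heq] at hpg
      have h2 : p ∣ Nat.gcd (orderOf y) p := Nat.dvd_gcd hpg dvd_rfl
      rw [hyp] at h2
      exact hp.ne_one (Nat.dvd_one.1 h2)
    have hyfin : IsOfFinOrder y := by
      obtain ⟨i, rfl⟩ := mem_zpowers_iff.1 hy
      exact hg.zpow
    obtain ⟨a', b', ha', hb', hy', hPa, hPb⟩ := ih (orderOf y) hylt y hyfin rfl
    have hle : zpowers y ≤ zpowers g := zpowers_le.2 hy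
    have hcomm : Commute u a' := by
      obtain ⟨i, rfl⟩ := mem_zpowers_iff.1 hu
      obtain ⟨i', hi'⟩ := mem_zpowers_iff.1 (hle ha')
      rw [← hi']
      exact (Commute.refl g).zpow_zpow i i'
    have hPu : PiEl m u := by
      intro q hq hqu
      have h1 : orderOf u ∣ p ^ j := orderOf_dvd_of_pow_eq_one hj
      have h2 : q ∣ p ^ j := hqu.trans h1
      have h3 : q ∣ p := hq.dvd_of_dvd_pow h2
      rw [(Nat.prime_dvd_prime_iff_eq hq hp).1 h3]
      exact hpm
    refine ⟨u * a', b', mul_mem hu (hle ha'), hle hb', ?_, PiEl.mul hPu hPa hcomm, hPb⟩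
    rw [hguy, hy', mul_assoc]

/-- Centraliser of a product `a * b` of commuting elements where some power `a ^ k` with `k`
coprime to the order of `b` is central. -/
theorem C_mul_of_pow_mem_center {a b : G} (hab : Commute a b) (k : ℕ) (hk : a ^ k ∈ center G)
    (hcop : (orderOf b).Coprime k) : C (a * b) = C a ⊓ C b := by
  apply le_antisymm
  · intro t ht
    rw [mem_C] at ht
    have h1 : Commute t ((a * b) ^ k) := (show Commute t (a * b) from ht).pow_right k
    rw [hab.mul_pow] at h1
    have h2 : Commute t (a ^ k) := mem_center_iff.1 hk t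
    have h3 : Commute t (b ^ k) := by
      have h4 : b ^ k = (a ^ k)⁻¹ * (a ^ k * b ^ k) := by group
      rw [h4]
      exact (h2.inv_right).mul_right h1
    have h5 : Commute t b := by
      obtain ⟨i, hi⟩ := mem_zpowers_iff.1 (mem_zpowers_pow_of_coprime hcop)
      rw [← hi]
      exact h3.zpow_right i
    have h6 : Commute t a := by
      have h7 : a = a * b * b⁻¹ := by group
      rw [h7]
      exact (show Commute t (a * b) from ht).mul_right h5.inv_right
    exact ⟨mem_C.2 h6.eq, mem_C.2 h5.eq⟩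
  · rintro t ⟨h1, h2⟩
    have h1' : t * a = a * t := mem_C.1 h1
    have h2' : t * b = b * t := mem_C.1 h2
    exact mem_C.2 ((show Commute t a from h1').mul_right (show Commute t b from h2')).eq

theorem C_mul_of_coprime {a b : G} (hab : Commute a b) (hcop : (orderOf a).Coprime (orderOf b)) :
    C (a * b) = C a ⊓ C b :=
  C_mul_of_pow_mem_center hab (orderOf a) (by rw [pow_orderOf_eq_one]; exact one_mem _) hcop.symm

theorem C_mul_of_mem_center_right {a b : G} (hb : b ∈ center G) : C (a * b) = C a := by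
  ext t
  rw [mem_C, mem_C]
  have hb' : ∀ s : G, s * b = b * s := fun s => mem_center_iff.1 hb s
  constructor
  · intro h
    have h1 : t * a * b = a * t * b := by
      calc t * a * b = t * (a * b) := by group
        _ = a * b * t := h
        _ = a * (b * t) := by group
        _ = a * (t * b) := by rw [hb' t]
        _ = a * t * b := by group
    exact mul_right_cancel h1
  · intro h
    calc t * (a * b) = t * a * b := by group
      _ = a * t * b := by rw [h]
      _ = a * (t * b) := by group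
      _ = a * (b * t) := by rw [hb' t]
      _ = a * b * t := by group

section Finite2

variable [Finite G]

/-- a subgroup of `p'`-index contains a Sylow `p`-subgroup -/
theorem exists_sylow_le (p : ℕ) [hp : Fact p.Prime] (D : Subgroup G) (hD : ¬ p ∣ D.index) :
    ∃ S₁ : Sylow p G, (S₁ : Subgroup G) ≤ D := by
  obtain ⟨T⟩ : Nonempty (Sylow p D) := inferInstance
  have hcard : Nat.card ((T : Subgroup D).map D.subtype) = p ^ (Nat.card G).factorization p := by
    rw [Subgroup.card_map_of_injective D.subtype_injective, Sylow.card_eq_multiplicity,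
      ← D.card_mul_index, Nat.factorization_mul Nat.card_pos.ne' Subgroup.index_ne_zero_of_finite]
    simp [Nat.factorization_eq_zero_of_not_dvd hD]
  exact ⟨Sylow.ofCard _ hcard, Subgroup.map_subtype_le _⟩

/-- If every `p`-element of `D` (a subgroup of `p'`-index) lies in `H`, then `p ∤ |G : H|`. -/
theorem not_dvd_index_of_forall_mem (p : ℕ) [hp : Fact p.Prime] (D H : Subgroup G)
    (hD : ¬ p ∣ D.index) (h : ∀ c ∈ D, (∃ k : ℕ, c ^ (p ^ k) = 1) → c ∈ H) : ¬ p ∣ H.index := by
  obtain ⟨P, hP⟩ := exists_sylow_le p D hD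
  have hPH : (P : Subgroup G) ≤ H := by
    intro c hc
    refine h c (hP hc) ?_
    obtain ⟨k, hk⟩ := (IsPGroup.iff_orderOf.1 P.2) ⟨c, hc⟩
    refine ⟨k, ?_⟩
    have h1 : (⟨c, hc⟩ : (P : Subgroup G)) ^ (p ^ k) = 1 := by
      rw [← hk]; exact pow_orderOf_eq_one _
    exact congrArg Subtype.val h1
  intro hdvd
  exact P.not_dvd_index (hdvd.trans (index_dvd_of_le hPH))

/-- The number of `F`-conjugates of `a` is `|F : C_F(a)|`; in particular if all of them lie in a
finite set `X` not containing ..., we get a bound. -/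
theorem relIndex_C_le_ncard (F : Subgroup G) (a : G) (X : Set G)
    (hX : ∀ f ∈ F, f * a * f⁻¹ ∈ X) : (C a).relIndex F ≤ X.ncard := by
  let φ : F ⧸ (C a).subgroupOf F → X :=
    Quotient.lift (fun f : F => (⟨(f : G) * a * (f : G)⁻¹, hX f f.2⟩ : X)) (by
      intro f₁ f₂ h12
      have h12' : (f₁⁻¹ * f₂ : F) ∈ (C a).subgroupOf F := QuotientGroup.leftRel_apply.1 h12
      rw [mem_subgroupOf, mem_C] at h12'
      apply Subtype.ext
      simp only [Subgroup.coe_mul, Subgroup.coe_inv] at h12'
      show (f₁ : G) * a * (f₁ : G)⁻¹ = (f₂ : G) * a * (f₂ : G)⁻¹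
      have : a = ((f₁ : G)⁻¹ * f₂) * a * ((f₁ : G)⁻¹ * f₂)⁻¹ := by
        rw [h12']; group
      calc (f₁ : G) * a * (f₁ : G)⁻¹
          = (f₁ : G) * (((f₁ : G)⁻¹ * f₂) * a * ((f₁ : G)⁻¹ * f₂)⁻¹) * (f₁ : G)⁻¹ := by rw [← this]
        _ = (f₂ : G) * a * (f₂ : G)⁻¹ := by group)
  have hφ : Function.Injective φ := by
    intro q₁ q₂
    induction q₁ using Quotient.inductionOn' with | _ f₁ => ?_
    induction q₂ using Quotient.inductionOn' with | _ f₂ => ?_
    intro h12
    have h3 : (f₁ : G) * a * (f₁ : G)⁻¹ = (f₂ : G) * a * (f₂ : G)⁻¹ := congrArg Subtype.val h12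
    apply Quotient.sound'
    rw [QuotientGroup.leftRel_apply, mem_subgroupOf, mem_C]
    simp only [Subgroup.coe_mul, Subgroup.coe_inv]
    calc (f₁ : G)⁻¹ * f₂ * a = (f₁ : G)⁻¹ * ((f₂ : G) * a * (f₂ : G)⁻¹) * f₂ := by group
      _ = (f₁ : G)⁻¹ * ((f₁ : G) * a * (f₁ : G)⁻¹) * f₂ := by rw [h3]
      _ = a * ((f₁ : G)⁻¹ * f₂) := by group
  have h1 : Nat.card (F ⧸ (C a).subgroupOf F) ≤ Nat.card X :=
    Nat.card_le_card_of_injective φ hφ
  rw [Nat.card_coe_set_eq] at h1
  exact h1

end Finite2

end Cfsg.Agent.Lib.Helper66_ClassSize
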