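import Mathlib
import Cfsg.Agent.S1019
import Cfsg.Agent.Lib.Helper66_ClassSize
import Cfsg.Agent.Lib.Helper17_Sylow

/-!
S0983-N5400B (helper16's market): in a simple group of order 5400 with 36 Sylow 5-subgroups, an element `x` of
order 5 with `|C(x)| = 300` and `N(⟨x⟩) = C(x)` fixes exactly 13 of the 18 cosets of `C(x)`.
Proof: S1019 turns the fixed-point count into `|x^G ∩ C(x)|`; two double counts (`18 m = 36 a`,
`|x^G ∩ C(x)| - 1 = m (a - 1)`, `m` = number of Sylow 5-subgroups through `x`, `a = |x^G ∩ Q|`) and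
`m ≡ 36 (mod 5)` (fixed points of `⟨x⟩` on the Sylow 5-subgroups) give `a = 3`, `m = 6`.
-/

set_option autoImplicit false
set_option linter.deprecated false

namespace Cfsg.Agent.Lib.Helper61_SO_N5400B

open Subgroup
open scoped Pointwise

/-- uniform double counting -/
theorem double_count {α β : Type*} [Finite α] [Finite β] (r : α → β → Prop) (m a : ℕ)
    (h1 : ∀ y : α, Nat.card {Q : β // r y Q} = m) (h2 : ∀ Q : β, Nat.card {y : α // r y Q} = a) :
    Nat.card α * m = Nat.card β * a := by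
  classical
  have := Fintype.ofFinite α
  have := Fintype.ofFinite β
  have e1 : {p : α × β // r p.1 p.2} ≃ Σ y : α, {Q : β // r y Q} :=
    Equiv.subtypeProdEquivSigmaSubtype r
  have e2 : {p : α × β // r p.1 p.2} ≃ Σ Q : β, {y : α // r y Q} :=
    ((Equiv.prodComm α β).subtypeEquiv (fun p => Iff.rfl)).trans
      (Equiv.subtypeProdEquivSigmaSubtype (fun Q y => r y Q))
  have c1 := Nat.card_congr e1
  have c2 := Nat.card_congr e2
  rw [Nat.card_sigma] at c1 c2
  simp only [h1, h2, Finset.sum_const, Finset.card_univ, smul_eq_mul] at c1 c2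
  rw [Nat.card_eq_fintype_card, Nat.card_eq_fintype_card, ← c1, ← c2]

theorem mem_smul_sylow {G : Type*} [Group G] {p : ℕ} (g y : G) (Q : Sylow p G) :
    y ∈ g • Q ↔ g⁻¹ * y * g ∈ Q := by
  have h1 : y ∈ g • Q ↔ y ∈ MulAut.conj g • (Q : Subgroup G) := Iff.rfl
  rw [h1, Subgroup.mem_pointwise_smul_iff_inv_smul_mem, MulAut.smul_def, MulAut.conj_inv_apply]
  rfl

theorem isConj_conj_iff {G : Type*} [Group G] (x y g : G) :
    IsConj x (g * y * g⁻¹) ↔ IsConj x y := by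
  have h : IsConj y (g * y * g⁻¹) := isConj_iff.mpr ⟨g, rfl⟩
  exact ⟨fun h1 => h1.trans h.symm, fun h1 => h1.trans h⟩

theorem card_sylow_mem_conj {G : Type*} [Group G] [Finite G] {p : ℕ} (x g : G) :
    Nat.card {Q : Sylow p G // g * x * g⁻¹ ∈ Q} = Nat.card {Q : Sylow p G // x ∈ Q} := by
  apply Nat.card_congr
  refine (MulAction.toPerm g⁻¹ : Equiv.Perm (Sylow p G)).subtypeEquiv (fun Q => ?_)
  rw [MulAction.toPerm_apply, mem_smul_sylow, inv_inv]

theorem card_conj_mem_smul {G : Type*} [Group G] [Finite G] {p : ℕ} (x g : G) (Q : Sylow p G) :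
    Nat.card {y : G // IsConj x y ∧ y ∈ g • Q} = Nat.card {y : G // IsConj x y ∧ y ∈ Q} := by
  apply Nat.card_congr
  refine (MulAut.conj g⁻¹).toEquiv.subtypeEquiv (fun y => ?_)
  rw [mem_smul_sylow]
  have h1 : (MulAut.conj g⁻¹).toEquiv y = g⁻¹ * y * g := by
    simp
  rw [h1]
  have h2 := isConj_conj_iff x y g⁻¹
  rw [inv_inv] at h2
  rw [h2]

theorem card_sylow_modEq_card_mem {G : Type*} [Group G] [Finite G] {p : ℕ} [Fact p.Prime] (x : G)
    (hx : IsPGroup p (zpowers x)) :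
    Nat.card (Sylow p G) ≡ Nat.card {Q : Sylow p G // x ∈ Q} [MOD p] := by
  have h := hx.card_modEq_card_fixedPoints (Sylow p G)
  have e : MulAction.fixedPoints (↥(zpowers x)) (Sylow p G) = {Q | x ∈ Q} := by
    ext Q
    rw [hx.sylow_mem_fixedPoints_iff, Set.mem_ofPred_eq]
    constructor
    · intro hQ
      exact hQ (mem_zpowers x)
    · intro hQ
      rw [zpowers_le]
      exact hQ
  rw [e] at h
  exact h

theorem exists_sylow_of_commute {G : Type*} [Group G] [Finite G] {p : ℕ} [Fact p.Prime] (x y : G)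
    (hxy : Commute x y) (hx : IsPGroup p (zpowers x)) (hy : IsPGroup p (zpowers y)) :
    ∃ Q : Sylow p G, x ∈ Q ∧ y ∈ Q := by
  have hcomm : ∀ (a : ↥(zpowers x)) (b : ↥(zpowers y)),
      Commute ((zpowers x).subtype a) ((zpowers y).subtype b) := by
    rintro ⟨a, ha⟩ ⟨b, hb⟩
    obtain ⟨i, rfl⟩ := mem_zpowers_iff.mp ha
    obtain ⟨j, rfl⟩ := mem_zpowers_iff.mp hb
    exact (hxy.zpow_zpow i j)
  set φ := MonoidHom.noncommCoprod (zpowers x).subtype (zpowers y).subtype hcomm with hφ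
  have hR : IsPGroup p φ.range := by
    rintro ⟨g, hg⟩
    obtain ⟨⟨a, b⟩, rfl⟩ := MonoidHom.mem_range.mp hg
    obtain ⟨k1, hk1⟩ := hx a
    obtain ⟨k2, hk2⟩ := hy b
    refine ⟨k1 + k2, ?_⟩
    apply Subtype.ext
    rw [Subgroup.coe_pow, Subgroup.coe_one]
    have h0 : φ (a, b) = (zpowers x).subtype a * (zpowers y).subtype b := by
      rw [hφ, MonoidHom.noncommCoprod_apply]
    change (φ (a, b)) ^ p ^ (k1 + k2) = 1
    rw [h0, (hcomm a b).mul_pow]
    have h1 : ((zpowers x).subtype a) ^ p ^ (k1 + k2) = 1 := by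
      rw [← map_pow, pow_add, pow_mul, hk1, one_pow, map_one]
    have h2 : ((zpowers y).subtype b) ^ p ^ (k1 + k2) = 1 := by
      rw [← map_pow, pow_add, mul_comm, pow_mul, hk2, one_pow, map_one]
    rw [h1, h2, one_mul]
  obtain ⟨Q, hQ⟩ := hR.exists_le_sylow
  refine ⟨Q, hQ ?_, hQ ?_⟩
  · refine MonoidHom.mem_range.mpr ⟨(⟨x, mem_zpowers x⟩, 1), ?_⟩
    rw [hφ, MonoidHom.noncommCoprod_apply]
    simp
  · refine MonoidHom.mem_range.mpr ⟨(1, ⟨y, mem_zpowers y⟩), ?_⟩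
    rw [hφ, MonoidHom.noncommCoprod_apply]
    simp

theorem sylow_unique_of_mem {G : Type*} [Group G] [Finite G] [Fact (Nat.Prime 5)]
    (hc : ∀ Q : Sylow 5 G, Nat.card (Q : Subgroup G) = 5 ^ 2) (Q₁ Q₂ : Sylow 5 G) (x y : G)
    (hx : orderOf x = 5) (hx1 : x ∈ Q₁) (hx2 : x ∈ Q₂) (hy1 : y ∈ Q₁) (hy2 : y ∈ Q₂)
    (hy : y ∉ zpowers x) : Q₁ = Q₂ := by
  set K : Subgroup G := (Q₁ : Subgroup G) ⊓ (Q₂ : Subgroup G) with hK
  have hxK : zpowers x ≤ K := by
    rw [zpowers_le]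
    exact ⟨hx1, hx2⟩
  have hyK : y ∈ K := ⟨hy1, hy2⟩
  have hK1 : Nat.card K ∣ 5 ^ 2 := by
    rw [← hc Q₁]
    exact Subgroup.card_dvd_of_le inf_le_left
  have hK5 : 5 ∣ Nat.card K := by
    have := Subgroup.card_dvd_of_le hxK
    rwa [Nat.card_zpowers, hx] at this
  obtain ⟨k, hk2, hk⟩ := (Nat.dvd_prime_pow (Fact.out : Nat.Prime 5)).mp hK1
  have hk' : Nat.card K = 5 ^ 2 := by
    interval_cases k
    · rw [hk] at hK5; norm_num at hK5
    · exfalso
      apply hy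
      have h1 : zpowers x = K := by
        apply Subgroup.eq_of_le_of_card_ge hxK
        rw [Nat.card_zpowers, hx, hk, pow_one]
      rw [h1]
      exact hyK
    · exact hk
  have h1 : K = (Q₁ : Subgroup G) := by
    apply Subgroup.eq_of_le_of_card_ge inf_le_left
    rw [hk', hc Q₁]
  have h2 : K = (Q₂ : Subgroup G) := by
    apply Subgroup.eq_of_le_of_card_ge inf_le_right
    rw [hk', hc Q₂]
  apply Sylow.ext
  rw [← h1, ← h2]

theorem fix_5400 {G : Type*} [Group G] [Finite G] [IsSimpleGroup G] (hcard : Nat.card G = 5400)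
    (h36 : Nat.card (Sylow 5 G) = 36) (x : G) (hx : orderOf x = 5)
    (hC : Nat.card (Subgroup.centralizer ({x} : Set G)) = 300)
    (hN : ∀ g : G, g * x * g⁻¹ ∈ Subgroup.zpowers x → g * x * g⁻¹ = x) :
    Nat.card (MulAction.fixedBy (G ⧸ Subgroup.centralizer ({x} : Set G)) x) = 13 := by
  classical
  have : Fact (Nat.Prime 5) := ⟨by norm_num⟩
  set H := Subgroup.centralizer ({x} : Set G) with hH
  have hmemH : ∀ y : G, y ∈ H ↔ y * x = x * y := fun y => mem_centralizer_singleton_iff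
  have hxH : x ∈ H := (hmemH x).mpr rfl
  have hidx : H.index = 18 := by
    have := H.card_mul_index
    rw [hC, hcard] at this
    omega
  have hcls : Nat.card {y : G // IsConj x y} = 18 := by
    have h1 := Cfsg.Agent.Lib.Helper66_ClassSize.ncard_isConj_eq_cs x
    rw [← hidx]
    exact (Nat.card_coe_set_eq _).trans h1
  have hS := Cfsg.Agent.S1019.result H x hxH
  rw [hcls, hidx] at hS
  have hfix : Nat.card (MulAction.fixedBy (G ⧸ H) x) = Nat.card {g : G // IsConj x g ∧ g ∈ H} := by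
    omega
  rw [hfix]
  -- Sylow facts
  have hQcard : ∀ Q : Sylow 5 G, Nat.card (Q : Subgroup G) = 5 ^ 2 := fun Q =>
    Cfsg.Agent.Lib.Helper17_Sylow.card_sylow_eq_pow (k := 2) (m := 216) (by rw [hcard]; norm_num) (by norm_num) Q
  have hQcomm : ∀ Q : Sylow 5 G, ∀ a ∈ Q, ∀ b ∈ Q, a * b = b * a := by
    intro Q a ha b hb
    have h1 := IsPGroup.commutative_of_card_eq_prime_sq (hQcard Q) ⟨a, ha⟩ ⟨b, hb⟩
    exact congrArg Subtype.val h1
  have hxP : IsPGroup 5 (zpowers x) := IsPGroup.of_card (n := 1) (by rw [Nat.card_zpowers, hx, pow_one])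
  have hconjP : ∀ y : G, IsConj x y → IsPGroup 5 (zpowers y) := by
    intro y hy
    obtain ⟨g, rfl⟩ := isConj_iff.mp hy
    have h1 : orderOf (g * x * g⁻¹) = 5 := by
      rw [← hx]
      exact (MulAut.conj g).orderOf_eq x
    exact IsPGroup.of_card (n := 1) (by rw [Nat.card_zpowers, h1, pow_one])
  -- m, a
  obtain ⟨Q₀⟩ : Nonempty (Sylow 5 G) := inferInstance
  set m := Nat.card {Q : Sylow 5 G // x ∈ Q} with hm
  set a := Nat.card {y : G // IsConj x y ∧ y ∈ Q₀} with ha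
  have haQ : ∀ Q : Sylow 5 G, Nat.card {y : G // IsConj x y ∧ y ∈ Q} = a := by
    intro Q
    obtain ⟨g, rfl⟩ := MulAction.exists_smul_eq G Q₀ Q
    exact card_conj_mem_smul x g Q₀
  -- (1)
  have h1 : 18 * m = 36 * a := by
    have := double_count (α := {y : G // IsConj x y}) (β := Sylow 5 G) (fun y Q => y.1 ∈ Q) m a ?_ ?_
    · rwa [hcls, h36] at this
    · rintro ⟨y, hy⟩
      obtain ⟨g, rfl⟩ := isConj_iff.mp hy
      exact card_sylow_mem_conj x g
    · intro Q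
      rw [← haQ Q]
      exact Nat.card_congr (Equiv.subtypeSubtypeEquivSubtypeInter _ _)
  -- (3)
  have h3 : 36 ≡ m [MOD 5] := by
    have := card_sylow_modEq_card_mem x hxP
    rwa [h36] at this
  -- (2)
  have h2 : Nat.card {y : G // (IsConj x y ∧ y ∈ H) ∧ y ≠ x} * 1 = m * (a - 1) := by
    refine double_count (α := {y : G // (IsConj x y ∧ y ∈ H) ∧ y ≠ x})
      (β := {Q : Sylow 5 G // x ∈ Q}) (fun y Q => y.1 ∈ Q.1) 1 (a - 1) ?_ ?_
    · rintro ⟨y, ⟨hy1, hy2⟩, hy3⟩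
      have hynot : y ∉ zpowers x := by
        intro hcon
        obtain ⟨g, rfl⟩ := isConj_iff.mp hy1
        exact hy3 (hN g hcon)
      rw [Nat.card_eq_one_iff_unique]
      constructor
      · constructor
        rintro ⟨⟨Q₁, hQ₁⟩, hyQ₁⟩ ⟨⟨Q₂, hQ₂⟩, hyQ₂⟩
        have := sylow_unique_of_mem hQcard Q₁ Q₂ x y hx hQ₁ hQ₂ hyQ₁ hyQ₂ hynot
        subst this
        rfl
      · have hxy : Commute x y := ((hmemH y).mp hy2).symm
        obtain ⟨Q, hxQ, hyQ⟩ := exists_sylow_of_commute x y hxy hxP (hconjP y hy1)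
        exact ⟨⟨⟨Q, hxQ⟩, hyQ⟩⟩
    · rintro ⟨Q, hxQ⟩
      have e1 := Nat.card_congr (Equiv.subtypeSubtypeEquivSubtypeInter
        (fun y : G => (IsConj x y ∧ y ∈ H) ∧ y ≠ x) (fun y => y ∈ Q))
      have e2 : {y : G // ((IsConj x y ∧ y ∈ H) ∧ y ≠ x) ∧ y ∈ Q} ≃
          ↥({y : G | IsConj x y ∧ y ∈ Q} \ {x}) := by
        refine Equiv.subtypeEquivRight (fun y => ?_)
        rw [Set.mem_sdiff, Set.mem_singleton_iff]
        constructor
        · rintro ⟨⟨⟨h1, _⟩, h3⟩, h4⟩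
          exact ⟨⟨h1, h4⟩, h3⟩
        · rintro ⟨⟨h1, h4⟩, h3⟩
          refine ⟨⟨⟨h1, ?_⟩, h3⟩, h4⟩
          rw [hmemH]
          exact hQcomm Q y h4 x hxQ
      have hxS : x ∈ {y : G | IsConj x y ∧ y ∈ Q} := ⟨IsConj.refl x, hxQ⟩
      have e3 : Nat.card {y : G // IsConj x y ∧ y ∈ Q} = ({y : G | IsConj x y ∧ y ∈ Q}).ncard :=
        Nat.card_coe_set_eq _
      change Nat.card {y : {y : G // (IsConj x y ∧ y ∈ H) ∧ y ≠ x} // y.1 ∈ Q} = a - 1
      rw [e1, Nat.card_congr e2, Nat.card_coe_set_eq, Set.ncard_sdiff_singleton_of_mem hxS, ← e3,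
        haQ Q]
  -- |Y| = |Y'| + 1
  have h4 : Nat.card {y : G // IsConj x y ∧ y ∈ H} =
      Nat.card {y : G // (IsConj x y ∧ y ∈ H) ∧ y ≠ x} + 1 := by
    have hxS : x ∈ {y : G | IsConj x y ∧ y ∈ H} := ⟨IsConj.refl x, hxH⟩
    have e1 : Nat.card {y : G // IsConj x y ∧ y ∈ H} = ({y : G | IsConj x y ∧ y ∈ H}).ncard :=
      Nat.card_coe_set_eq _
    have e2 : {y : G // (IsConj x y ∧ y ∈ H) ∧ y ≠ x} ≃ ↥({y : G | IsConj x y ∧ y ∈ H} \ {x}) := by
      refine Equiv.subtypeEquivRight (fun y => ?_)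
      rw [Set.mem_sdiff, Set.mem_singleton_iff]
      rfl
    rw [e1, Nat.card_congr e2, Nat.card_coe_set_eq, Set.ncard_sdiff_singleton_of_mem hxS]
    have : 0 < ({y : G | IsConj x y ∧ y ∈ H}).ncard := by
      rw [Set.ncard_pos]
      exact ⟨x, hxS⟩
    omega
  -- |Y| ≤ 18
  have h5 : Nat.card {y : G // IsConj x y ∧ y ∈ H} ≤ 18 := by
    rw [← hcls]
    refine Nat.card_le_card_of_injective
      (fun y : {y : G // IsConj x y ∧ y ∈ H} => (⟨y.1, y.2.1⟩ : {y : G // IsConj x y})) ?_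
    intro y y' h
    apply Subtype.ext
    have h' := congrArg Subtype.val h
    exact h'
  -- arithmetic
  have hm2 : m = 2 * a := by omega
  rw [mul_one] at h2
  rw [h4, h2] at h5 ⊢
  have ha3 : a ≤ 3 := by
    by_contra hcon
    push Not at hcon
    have : 8 * 3 ≤ m * (a - 1) := Nat.mul_le_mul (by omega) (by omega)
    omega
  unfold Nat.ModEq at h3
  interval_cases a <;> omega

end Cfsg.Agent.Lib.Helper61_SO_N5400B
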