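import Mathlib
import Cfsg.Prelude.Def_Blocks
import Cfsg.Agent.Lib.Helper80_CharBasic
import Cfsg.Agent.Lib.Helper16_SO_Brauer
import Cfsg.Agent.Lib.Helper17_Sylow
import Cfsg.Agent.Lib.Helper74_CharTools
import Cfsg.Agent.Lib.Helper77_BlockBasics

/-!
# S0983 market (architect helper16): tools for the packages BRA1 / BRA2 (helper74)

* `e_facts`: for `p ∥ |G|`, `G` simple: `e = |N(P) : C(P)|` divides `p - 1`, is not `1`
  (Burnside), and `p * e * n_p ∣ |G|`.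
* `brauer_e2`: `e = 2`, `p ≥ 5`: a nontrivial character degree `d` with `d ≡ ±1 (p)` such that
  `d + 1` resp. `d - 1` is a character degree as well (hence divides `|G|`).
* `brauer_e3`: the same for `e = 3`, `p ≥ 5`, `p ≠ 4`: two degrees `d₂`, `d₃` with signs.
-/

set_option autoImplicit false
open Cfsg Cfsg.Agent.Lib.Helper80_CharBasic

namespace Cfsg.Agent.Lib.Helper74_SO_BRTools

open Cfsg.Agent.Lib.Helper17_Sylow Subgroup

/-- Facts on `e = |N(P) : C(P)|` for a Sylow subgroup of prime order in a simple group. -/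
theorem e_facts {G : Type*} [Group G] [Finite G] [IsSimpleGroup G] {p m : ℕ} [hp : Fact p.Prime]
    (hc : Nat.card G = p ^ 1 * m) (hm : ¬ p ∣ m) (hm1 : 1 < m) (P : Sylow p G) :
    Nat.card P = p ∧
    (centralizer ((P : Subgroup G) : Set G)).relIndex (normalizer ((P : Subgroup G) : Set G))
      ∣ p - 1 ∧
    (centralizer ((P : Subgroup G) : Set G)).relIndex (normalizer ((P : Subgroup G) : Set G))
      ≠ 1 ∧
    p * (centralizer ((P : Subgroup G) : Set G)).relIndex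
      (normalizer ((P : Subgroup G) : Set G)) * Nat.card (Sylow p G) ∣ Nat.card G := by
  have hP : Nat.card (P : Subgroup G) = p := by
    have := card_sylow_eq_pow hc hm P
    rwa [pow_one] at this
  refine ⟨hP, relIndex_centralizer_normalizer_dvd_pred (P : Subgroup G) hP, ?_, ?_⟩
  · intro h1
    have hle : normalizer ((P : Subgroup G) : Set G) ≤ centralizer ((P : Subgroup G) : Set G) :=
      Subgroup.relIndex_eq_one.mp h1
    rcases sylow_eq_bot_or_top_of_normalizer_le_centralizer P hle with h | h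
    · rw [h, Subgroup.card_bot] at hP
      have := hp.out.one_lt
      omega
    · rw [h, Subgroup.card_top, hc, pow_one] at hP
      have := hp.out.pos
      nlinarith
  · have h2 := card_mul_relIndex_of_le
      (Subgroup.centralizer_le_normalizer ((P : Subgroup G) : Set G))
    have h3 := card_normalizer_mul_card_sylow P
    have hcyc : IsCyclic (P : Subgroup G) := isCyclic_of_prime_card hP
    have hle : (P : Subgroup G) ≤ centralizer ((P : Subgroup G) : Set G) :=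
      le_centralizer_of_isCyclic (P : Subgroup G)
    have h4 : p ∣ Nat.card (centralizer ((P : Subgroup G) : Set G)) := by
      have := Subgroup.card_dvd_of_le hle
      rwa [hP] at this
    rw [← h3, ← h2]
    exact Nat.mul_dvd_mul (Nat.mul_dvd_mul h4 (dvd_refl _)) (dvd_refl _)

/-- Brauer, `e = 2`: `X = {1, χ}`, `d = χ(1) ≡ s = ±1 (p)`, and `|1 + s d|` is the degree of `θ`. -/
theorem brauer_e2 {G : Type*} [Group G] [Finite G] [IsSimpleGroup G]
    (hG : ¬ IsMulCommutative G) {p : ℕ} [Fact p.Prime] (hp5 : 5 ≤ p)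
    (P : Sylow p G) (hP : Nat.card P = p)
    (he : (centralizer ((P : Subgroup G) : Set G)).relIndex
      (normalizer ((P : Subgroup G) : Set G)) = 2) :
    ∃ d D : ℕ, 1 < d ∧ d ∣ Nat.card G ∧ d ^ 2 ≤ Nat.card G ∧ D ∣ Nat.card G ∧
      ((d ≡ 1 [MOD p] ∧ D = d + 1) ∨ (d + 1 ≡ 0 [MOD p] ∧ D + 1 = d)) := by
  classical
  have hp : p.Prime := Fact.out
  have hna := Cfsg.Agent.Lib.Helper16_SO_Brauer.not_comm_of_not_isMulCommutative hG
  obtain ⟨X, εX, θ, ε, hXc, hθX, halt, hX, hε, -, hrel, -, -, -⟩ :=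
    Cfsg.Agent.Lib.Helper16_SO_Brauer.brauer_data (by omega) P hP 2 he (by norm_num)
  have h1X : oneIrr G ∈ X ∧ εX (oneIrr G) = 1 := by
    rcases halt with h | ⟨-, -, h⟩
    · exact h
    · omega
  have hcard : (X.erase (oneIrr G)).card = 1 := by
    rw [Finset.card_erase_of_mem h1X.1, hXc]
  obtain ⟨χ, hχ⟩ := Finset.card_eq_one.mp hcard
  have hχmem : χ ∈ X.erase (oneIrr G) := by rw [hχ]; exact Finset.mem_singleton_self χ
  have hχ1 : χ ≠ oneIrr G := (Finset.mem_erase.mp hχmem).1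
  have hχX : χ ∈ X := (Finset.mem_erase.mp hχmem).2
  rw [← Finset.add_sum_erase X _ h1X.1, hχ, Finset.sum_singleton, h1X.2,
    Cfsg.Agent.Lib.Helper16_SO_Brauer.charDegree_oneIrr] at hrel
  obtain ⟨hs, hmod, -⟩ := hX χ hχX
  have hd1 : charDegree (χ : G → ℂ) ≠ 1 := fun h =>
    hχ1 (Cfsg.Agent.Lib.Helper74_CharTools.eq_oneIrr_of_degree_one hna χ h)
  have hd0 := Cfsg.Agent.Lib.Helper77_BlockBasics.charDegree_pos χ
  have hD0 := Cfsg.Agent.Lib.Helper77_BlockBasics.charDegree_pos θ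
  refine ⟨charDegree (χ : G → ℂ), charDegree (θ : G → ℂ), by omega,
    Cfsg.Agent.Lib.Helper77_BlockBasics.charDegree_dvd_card χ,
    Cfsg.Agent.Lib.Helper74_CharTools.charDegree_sq_le χ,
    Cfsg.Agent.Lib.Helper77_BlockBasics.charDegree_dvd_card θ, ?_⟩
  rcases hs with hs | hs
  · left
    rw [hs] at hmod hrel
    refine ⟨?_, ?_⟩
    · have : ((charDegree (χ : G → ℂ) : ℕ) : ℤ) ≡ ((1 : ℕ) : ℤ) [ZMOD (p : ℤ)] := by
        simpa using hmod
      exact Int.natCast_modEq_iff.mp this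
    · rcases hε with h | h <;> rw [h] at hrel <;> push_cast at hrel <;> omega
  · right
    rw [hs] at hmod hrel
    refine ⟨?_, ?_⟩
    · have h1 : ((charDegree (χ : G → ℂ) + 1 : ℕ) : ℤ) ≡ ((0 : ℕ) : ℤ) [ZMOD (p : ℤ)] := by
        have := hmod.add_right 1
        simpa using this
      exact Int.natCast_modEq_iff.mp h1
    · rcases hε with h | h <;> rw [h] at hrel <;> push_cast at hrel <;> omega

/-- Brauer, `e = 3`: `X = {1, χ₂, χ₃}` with degrees `dᵢ ≡ sᵢ = ±1 (p)`, and `|1 + s₂d₂ + s₃d₃|`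
is the degree of `θ`. -/
theorem brauer_e3 {G : Type*} [Group G] [Finite G] [IsSimpleGroup G]
    (hG : ¬ IsMulCommutative G) {p : ℕ} [Fact p.Prime] (hp5 : 5 ≤ p)
    (P : Sylow p G) (hP : Nat.card P = p)
    (he : (centralizer ((P : Subgroup G) : Set G)).relIndex
      (normalizer ((P : Subgroup G) : Set G)) = 3) :
    ∃ (d₂ d₃ D : ℕ) (s₂ s₃ ε : ℤ), 1 < d₂ ∧ d₂ ∣ Nat.card G ∧ d₂ ^ 2 ≤ Nat.card G ∧
      1 < d₃ ∧ d₃ ∣ Nat.card G ∧ d₃ ^ 2 ≤ Nat.card G ∧ D ∣ Nat.card G ∧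
      ((s₂ = 1 ∧ d₂ ≡ 1 [MOD p]) ∨ (s₂ = -1 ∧ d₂ + 1 ≡ 0 [MOD p])) ∧
      ((s₃ = 1 ∧ d₃ ≡ 1 [MOD p]) ∨ (s₃ = -1 ∧ d₃ + 1 ≡ 0 [MOD p])) ∧
      (ε = 1 ∨ ε = -1) ∧ ε * (D : ℤ) = 1 + s₂ * d₂ + s₃ * d₃ := by
  classical
  have hp : p.Prime := Fact.out
  have hna := Cfsg.Agent.Lib.Helper16_SO_Brauer.not_comm_of_not_isMulCommutative hG
  obtain ⟨X, εX, θ, ε, hXc, hθX, halt, hX, hε, -, hrel, -, -, -⟩ :=
    Cfsg.Agent.Lib.Helper16_SO_Brauer.brauer_data (by omega) P hP 3 he (by norm_num)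
  have h1X : oneIrr G ∈ X ∧ εX (oneIrr G) = 1 := by
    rcases halt with h | ⟨-, -, h⟩
    · exact h
    · omega
  have hcard : (X.erase (oneIrr G)).card = 2 := by
    rw [Finset.card_erase_of_mem h1X.1, hXc]
  obtain ⟨χ₂, χ₃, hne, hχ⟩ := Finset.card_eq_two.mp hcard
  have hmem : ∀ χ, χ = χ₂ ∨ χ = χ₃ → χ ≠ oneIrr G ∧ χ ∈ X := by
    intro χ h
    have : χ ∈ X.erase (oneIrr G) := by
      rw [hχ]; simpa using h
    exact Finset.mem_erase.mp this
  rw [← Finset.add_sum_erase X _ h1X.1, hχ, Finset.sum_pair hne, h1X.2,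
    Cfsg.Agent.Lib.Helper16_SO_Brauer.charDegree_oneIrr] at hrel
  have key : ∀ χ : IrrCharacter G, χ ≠ oneIrr G → χ ∈ X →
      1 < charDegree (χ : G → ℂ) ∧ charDegree (χ : G → ℂ) ∣ Nat.card G ∧
      charDegree (χ : G → ℂ) ^ 2 ≤ Nat.card G ∧
      ((εX χ = 1 ∧ charDegree (χ : G → ℂ) ≡ 1 [MOD p]) ∨
        (εX χ = -1 ∧ charDegree (χ : G → ℂ) + 1 ≡ 0 [MOD p])) := by
    intro χ hχ1 hχX
    obtain ⟨hs, hmod, -⟩ := hX χ hχX
    have hd1 : charDegree (χ : G → ℂ) ≠ 1 := fun h =>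
      hχ1 (Cfsg.Agent.Lib.Helper74_CharTools.eq_oneIrr_of_degree_one hna χ h)
    have hd0 := Cfsg.Agent.Lib.Helper77_BlockBasics.charDegree_pos χ
    refine ⟨by omega, Cfsg.Agent.Lib.Helper77_BlockBasics.charDegree_dvd_card χ,
      Cfsg.Agent.Lib.Helper74_CharTools.charDegree_sq_le χ, ?_⟩
    rcases hs with hs | hs
    · left
      rw [hs] at hmod
      refine ⟨hs, ?_⟩
      have : ((charDegree (χ : G → ℂ) : ℕ) : ℤ) ≡ ((1 : ℕ) : ℤ) [ZMOD (p : ℤ)] := by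
        simpa using hmod
      exact Int.natCast_modEq_iff.mp this
    · right
      rw [hs] at hmod
      refine ⟨hs, ?_⟩
      have h1 : ((charDegree (χ : G → ℂ) + 1 : ℕ) : ℤ) ≡ ((0 : ℕ) : ℤ) [ZMOD (p : ℤ)] := by
        have := hmod.add_right 1
        simpa using this
      exact Int.natCast_modEq_iff.mp h1
  obtain ⟨h21, h2X⟩ := hmem χ₂ (Or.inl rfl)
  obtain ⟨h31, h3X⟩ := hmem χ₃ (Or.inr rfl)
  obtain ⟨a1, a2, a3, a4⟩ := key χ₂ h21 h2X
  obtain ⟨b1, b2, b3, b4⟩ := key χ₃ h31 h3X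
  refine ⟨charDegree (χ₂ : G → ℂ), charDegree (χ₃ : G → ℂ), charDegree (θ : G → ℂ),
    εX χ₂, εX χ₃, ε, a1, a2, a3, b1, b2, b3,
    Cfsg.Agent.Lib.Helper77_BlockBasics.charDegree_dvd_card θ, a4, b4, hε, ?_⟩
  rw [hrel]; ring

end Cfsg.Agent.Lib.Helper74_SO_BRTools
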