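import Mathlib
import Cfsg.Prelude.Def_Blocks
import Cfsg.Agent.Lib.Helper80_CharBasic
import Cfsg.Agent.Lib.Helper16_SO_Brauer
import Cfsg.Agent.Lib.Helper75_SM_Base
import Cfsg.Agent.Lib.Helper74_SO_BRTools

/-!
# S0983 market (architect helper16): package BRA1 (helper74)

No simple group of order `3696 = 2⁴·3·7·11` (`p = 11`, `e = 2`) or `4680 = 2³·3²·5·13`
(`p = 13`, `e = 3`): Brauer degrees alone.
-/

set_option autoImplicit false
open Cfsg Cfsg.Agent.Lib.Helper80_CharBasic

namespace Cfsg.Agent.Lib.Helper74_SO_BRA1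

open Cfsg.Agent.Lib.Helper17_Sylow Cfsg.Agent.Lib.Helper75_SM_Base
  Cfsg.Agent.Lib.Helper74_SO_BRTools Subgroup

set_option maxRecDepth 100000 in
theorem arith_3696 : ∀ d : ℕ, d ≤ 60 → 1 < d → d ∣ 3696 →
    (d % 11 = 1 % 11 → ¬ (d + 1) ∣ 3696) ∧ ((d + 1) % 11 = 0 % 11 → ¬ (d - 1) ∣ 3696) := by
  decide

set_option maxRecDepth 100000 in
theorem arith_4680 : ∀ d : ℕ, d ≤ 68 → 1 < d → d ∣ 4680 →
    (d % 13 = 1 % 13 → d = 40) ∧ ((d + 1) % 13 = 0 % 13 → d = 12) := by
  decide

theorem no_simple_3696 {G : Type*} [Group G] [Finite G] [IsSimpleGroup G] : Nat.card G ≠ 3696 := by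
  intro h
  have : Fact (Nat.Prime 11) := ⟨by norm_num⟩
  have hG : ¬ IsMulCommutative G :=
    not_isMulCommutative_of_not_prime (by rw [h]; norm_num)
  have hc : Nat.card G = 11 ^ 1 * 336 := by rw [h]; norm_num
  have hm : ¬ 11 ∣ 336 := by norm_num
  have hmem := card_sylow_mem_candidates hc hm
  have hcand : sylowCandidates 11 336 = [1, 12, 56] := by decide
  rw [hcand] at hmem
  simp only [List.mem_cons, List.not_mem_nil, or_false] at hmem
  have hlt := one_lt_card_sylow_of_card hc hm (by norm_num) (by norm_num)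
  rcases hmem with hd | hd | hd
  · omega
  · exact perm_kill hG (p := 11) (by norm_num) hc hm hd 308 (by rw [h]) (by norm_num)
  · obtain ⟨P⟩ : Nonempty (Sylow 11 G) := inferInstance
    obtain ⟨hP, he1, he2, he3⟩ := e_facts hc hm (by norm_num) P
    rw [hd, h] at he3
    set e := (centralizer ((P : Subgroup G) : Set G)).relIndex
      (normalizer ((P : Subgroup G) : Set G)) with he
    have hele : e ≤ 10 := Nat.le_of_dvd (by norm_num) he1
    have he' : e = 2 := by
      interval_cases e <;> first | rfl | omega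
    obtain ⟨d, D, hd1, hdd, hdsq, hDd, hcase⟩ := brauer_e2 hG (by norm_num) P hP he'
    rw [h] at hdd hdsq hDd
    have hle : d ≤ 60 := by
      by_contra hh
      have : 61 ≤ d := by omega
      nlinarith
    have := arith_3696 d hle hd1 hdd
    rcases hcase with ⟨hm1, hD⟩ | ⟨hm1, hD⟩
    · rw [hD] at hDd
      exact this.1 hm1 hDd
    · have hD' : D = d - 1 := by omega
      rw [hD'] at hDd
      exact this.2 hm1 hDd

theorem no_simple_4680 {G : Type*} [Group G] [Finite G] [IsSimpleGroup G] : Nat.card G ≠ 4680 := by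
  intro h
  have : Fact (Nat.Prime 13) := ⟨by norm_num⟩
  have hG : ¬ IsMulCommutative G :=
    not_isMulCommutative_of_not_prime (by rw [h]; norm_num)
  have hc : Nat.card G = 13 ^ 1 * 360 := by rw [h]; norm_num
  have hm : ¬ 13 ∣ 360 := by norm_num
  have hmem := card_sylow_mem_candidates hc hm
  have hcand : sylowCandidates 13 360 = [1, 40] := by decide
  rw [hcand] at hmem
  simp only [List.mem_cons, List.not_mem_nil, or_false] at hmem
  have hlt := one_lt_card_sylow_of_card hc hm (by norm_num) (by norm_num)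
  rcases hmem with hd | hd
  · omega
  · obtain ⟨P⟩ : Nonempty (Sylow 13 G) := inferInstance
    obtain ⟨hP, he1, he2, he3⟩ := e_facts hc hm (by norm_num) P
    rw [hd, h] at he3
    set e := (centralizer ((P : Subgroup G) : Set G)).relIndex
      (normalizer ((P : Subgroup G) : Set G)) with he
    have hele : e ≤ 12 := Nat.le_of_dvd (by norm_num) he1
    have he' : e = 3 := by
      interval_cases e <;> first | rfl | omega
    obtain ⟨d₂, d₃, D, s₂, s₃, ε, a1, a2, a3, b1, b2, b3, hDd, hc2, hc3, hε, hrel⟩ :=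
      brauer_e3 hG (by norm_num) P hP he'
    rw [h] at a2 a3 b2 b3 hDd
    have hle2 : d₂ ≤ 68 := by
      by_contra hh
      have : 69 ≤ d₂ := by omega
      nlinarith
    have hle3 : d₃ ≤ 68 := by
      by_contra hh
      have : 69 ≤ d₃ := by omega
      nlinarith
    have A := arith_4680 d₂ hle2 a1 a2
    have B := arith_4680 d₃ hle3 b1 b2
    have key : D = 81 ∨ D = 29 ∨ D = 23 := by
      rcases hc2 with ⟨hs2, hm2⟩ | ⟨hs2, hm2⟩ <;> rcases hc3 with ⟨hs3, hm3⟩ | ⟨hs3, hm3⟩
      · have h2 := A.1 hm2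
        have h3 := B.1 hm3
        rw [hs2, hs3, h2, h3] at hrel
        rcases hε with hε | hε <;> rw [hε] at hrel <;> push_cast at hrel <;> omega
      · have h2 := A.1 hm2
        have h3 := B.2 hm3
        rw [hs2, hs3, h2, h3] at hrel
        rcases hε with hε | hε <;> rw [hε] at hrel <;> push_cast at hrel <;> omega
      · have h2 := A.2 hm2
        have h3 := B.1 hm3
        rw [hs2, hs3, h2, h3] at hrel
        rcases hε with hε | hε <;> rw [hε] at hrel <;> push_cast at hrel <;> omega
      · have h2 := A.2 hm2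
        have h3 := B.2 hm3
        rw [hs2, hs3, h2, h3] at hrel
        rcases hε with hε | hε <;> rw [hε] at hrel <;> push_cast at hrel <;> omega
    rcases key with k | k | k <;> rw [k] at hDd <;> norm_num at hDd

end Cfsg.Agent.Lib.Helper74_SO_BRA1
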