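import Mathlib
import Cfsg.Prelude.Def_Blocks
import Cfsg.Agent.Lib.Helper80_CharBasic
import Cfsg.Agent.Lib.Helper16_SO_Brauer
import Cfsg.Agent.Lib.Helper75_SM_Base
import Cfsg.Agent.Lib.Helper74_SO_BRTools

/-!
# S0983 market (architect helper16): package BRA2 (helper74)

No simple group of order `5200 = 2⁴·5²·13` (`p = 13`), `5600 = 2⁵·5²·7` (`p = 7`) or
`6160 = 2⁴·5·7·11` (`p = 7`): always `e = 2`, Brauer degrees alone.
-/

set_option autoImplicit false
open Cfsg Cfsg.Agent.Lib.Helper80_CharBasic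

namespace Cfsg.Agent.Lib.Helper74_SO_BRA2

open Cfsg.Agent.Lib.Helper17_Sylow Cfsg.Agent.Lib.Helper75_SM_Base
  Cfsg.Agent.Lib.Helper74_SO_BRTools Subgroup

set_option maxRecDepth 100000 in
theorem arith_5200 : ∀ d : ℕ, d ≤ 72 → 1 < d → d ∣ 5200 →
    (d % 13 = 1 % 13 → ¬ (d + 1) ∣ 5200) ∧ ((d + 1) % 13 = 0 % 13 → ¬ (d - 1) ∣ 5200) := by
  decide

set_option maxRecDepth 100000 in
theorem arith_5600 : ∀ d : ℕ, d ≤ 74 → 1 < d → d ∣ 5600 →
    (d % 7 = 1 % 7 → ¬ (d + 1) ∣ 5600) ∧ ((d + 1) % 7 = 0 % 7 → ¬ (d - 1) ∣ 5600) := by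
  decide

set_option maxRecDepth 100000 in
theorem arith_6160 : ∀ d : ℕ, d ≤ 78 → 1 < d → d ∣ 6160 →
    (d % 7 = 1 % 7 → ¬ (d + 1) ∣ 6160) ∧ ((d + 1) % 7 = 0 % 7 → ¬ (d - 1) ∣ 6160) := by
  decide

/-- The common endgame: `e = 2` and the arithmetic table give a contradiction. -/
theorem e2_kill {G : Type*} [Group G] [Finite G] [IsSimpleGroup G]
    (hG : ¬ IsMulCommutative G) {p : ℕ} [Fact p.Prime] (hp5 : 5 ≤ p)
    (P : Sylow p G) (hP : Nat.card P = p)
    (he : (centralizer ((P : Subgroup G) : Set G)).relIndex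
      (normalizer ((P : Subgroup G) : Set G)) = 2) (N b : ℕ) (h : Nat.card G = N)
    (hb : N < (b + 1) ^ 2)
    (harith : ∀ d : ℕ, d ≤ b → 1 < d → d ∣ N →
      (d % p = 1 % p → ¬ (d + 1) ∣ N) ∧ ((d + 1) % p = 0 % p → ¬ (d - 1) ∣ N)) : False := by
  obtain ⟨d, D, hd1, hdd, hdsq, hDd, hcase⟩ := brauer_e2 hG hp5 P hP he
  rw [h] at hdd hdsq hDd
  have hle : d ≤ b := by
    by_contra hh
    have : b + 1 ≤ d := by omega
    nlinarith
  have := harith d hle hd1 hdd
  rcases hcase with ⟨hm1, hD⟩ | ⟨hm1, hD⟩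
  · rw [hD] at hDd
    exact this.1 hm1 hDd
  · have hD' : D = d - 1 := by omega
    rw [hD'] at hDd
    exact this.2 hm1 hDd

theorem no_simple_5200 {G : Type*} [Group G] [Finite G] [IsSimpleGroup G] : Nat.card G ≠ 5200 := by
  intro h
  have : Fact (Nat.Prime 13) := ⟨by norm_num⟩
  have hG : ¬ IsMulCommutative G :=
    not_isMulCommutative_of_not_prime (by rw [h]; norm_num)
  have hc : Nat.card G = 13 ^ 1 * 400 := by rw [h]; norm_num
  have hm : ¬ 13 ∣ 400 := by norm_num
  have hmem := card_sylow_mem_candidates hc hm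
  have hcand : sylowCandidates 13 400 = [1, 40] := by decide
  rw [hcand] at hmem
  simp only [List.mem_cons, List.not_mem_nil, or_false] at hmem
  have hlt := one_lt_card_sylow_of_card hc hm (by norm_num) (by norm_num)
  rcases hmem with hd | hd
  · omega
  · obtain ⟨P⟩ : Nonempty (Sylow 13 G) := inferInstance
    obtain ⟨hP, he1, he2, he3⟩ := e_facts hc hm (by norm_num) P
    rw [hd, h] at he3
    set e := (centralizer ((P : Subgroup G) : Set G)).relIndex
      (normalizer ((P : Subgroup G) : Set G)) with he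
    have hele : e ≤ 12 := Nat.le_of_dvd (by norm_num) he1
    have he' : e = 2 := by
      interval_cases e <;> first | rfl | omega
    exact e2_kill hG (by norm_num) P hP he' 5200 72 h (by norm_num) arith_5200

theorem no_simple_5600 {G : Type*} [Group G] [Finite G] [IsSimpleGroup G] : Nat.card G ≠ 5600 := by
  intro h
  have : Fact (Nat.Prime 7) := ⟨by norm_num⟩
  have hG : ¬ IsMulCommutative G :=
    not_isMulCommutative_of_not_prime (by rw [h]; norm_num)
  have hc : Nat.card G = 7 ^ 1 * 800 := by rw [h]; norm_num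
  have hm : ¬ 7 ∣ 800 := by norm_num
  have hmem := card_sylow_mem_candidates hc hm
  have hcand : sylowCandidates 7 800 = [1, 8, 50, 400] := by decide
  rw [hcand] at hmem
  simp only [List.mem_cons, List.not_mem_nil, or_false] at hmem
  have hlt := one_lt_card_sylow_of_card hc hm (by norm_num) (by norm_num)
  obtain ⟨P⟩ : Nonempty (Sylow 7 G) := inferInstance
  obtain ⟨hP, he1, he2, he3⟩ := e_facts hc hm (by norm_num) P
  rw [h] at he3
  set e := (centralizer ((P : Subgroup G) : Set G)).relIndex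
    (normalizer ((P : Subgroup G) : Set G)) with he
  have hele : e ≤ 6 := Nat.le_of_dvd (by norm_num) he1
  rcases hmem with hd | hd | hd | hd
  · omega
  · exact fact_kill hG (p := 7) 8 hd (by norm_num) (by rw [h]; decide)
  · rw [hd] at he3
    have he' : e = 2 := by
      interval_cases e <;> first | rfl | omega
    exact e2_kill hG (by norm_num) P hP he' 5600 74 h (by norm_num) arith_5600
  · rw [hd] at he3
    have he' : e = 2 := by
      interval_cases e <;> first | rfl | omega
    exact e2_kill hG (by norm_num) P hP he' 5600 74 h (by norm_num) arith_5600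

theorem no_simple_6160 {G : Type*} [Group G] [Finite G] [IsSimpleGroup G] : Nat.card G ≠ 6160 := by
  intro h
  have : Fact (Nat.Prime 7) := ⟨by norm_num⟩
  have hG : ¬ IsMulCommutative G :=
    not_isMulCommutative_of_not_prime (by rw [h]; norm_num)
  have hc : Nat.card G = 7 ^ 1 * 880 := by rw [h]; norm_num
  have hm : ¬ 7 ∣ 880 := by norm_num
  have hmem := card_sylow_mem_candidates hc hm
  have hcand : sylowCandidates 7 880 = [1, 8, 22, 176] := by decide
  rw [hcand] at hmem
  simp only [List.mem_cons, List.not_mem_nil, or_false] at hmem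
  have hlt := one_lt_card_sylow_of_card hc hm (by norm_num) (by norm_num)
  obtain ⟨P⟩ : Nonempty (Sylow 7 G) := inferInstance
  obtain ⟨hP, he1, he2, he3⟩ := e_facts hc hm (by norm_num) P
  rw [h] at he3
  set e := (centralizer ((P : Subgroup G) : Set G)).relIndex
    (normalizer ((P : Subgroup G) : Set G)) with he
  have hele : e ≤ 6 := Nat.le_of_dvd (by norm_num) he1
  rcases hmem with hd | hd | hd | hd
  · omega
  · exact fact_kill hG (p := 7) 8 hd (by norm_num) (by rw [h]; decide)
  · rw [hd] at he3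
    have he' : e = 2 := by
      interval_cases e <;> first | rfl | omega
    exact e2_kill hG (by norm_num) P hP he' 6160 78 h (by norm_num) arith_6160
  · exact burn_kill hc hm (by norm_num) 176 hd (by norm_num)

end Cfsg.Agent.Lib.Helper74_SO_BRA2
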