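import Mathlib
import Cfsg.Prelude.Def_Blocks
import Cfsg.Agent.Lib.Helper80_CharBasic
import Cfsg.Agent.Lib.Helper16_SO_Brauer
import Cfsg.Agent.Lib.Helper17_Sylow
import Cfsg.Agent.Lib.Helper75_SM_Base
import Cfsg.Agent.Lib.Helper74_CharTools
import Cfsg.Agent.Lib.Helper77_BlockBasics
import Cfsg.Agent.Lib.Helper78_SO_BRINV

/-!
# S0983 package N3960 (architect helper16; formalized by helper80)

No simple group of order `3960 = 2³·3²·5·11`.  `p = 11`: `n₁₁ ∈ {1, 12, 45}`; `12` dies by `perm_kill`;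
`45` gives `|N| = 88`, `e = 2`, `|C| = 44` even, and then `BRINV(11, 2)` forces a character degree
`d > 22` with `d ∣ 3960`, `d² ≤ 3960`, `d ≡ ±1 (11)`: `d = 45`, `D = 46 ∤ 3960`.

Also the generic lemmas `relIndex_eq_two` and `brinv_two` used by N5940.
-/

set_option autoImplicit false
open Cfsg Cfsg.Agent.Lib.Helper80_CharBasic

namespace Cfsg.Agent.Lib.Helper80_SO_N3960

open Cfsg.Agent.Lib.Helper17_Sylow Cfsg.Agent.Lib.Helper75_SM_Base

/-- Data of a Sylow `p`-subgroup of order `p` with `n_p = d` in a simple group: `|N(P)| = c`,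
`e = |N(P) : C(P)|` divides `p - 1`, `|C(P)| · e = c`, `e ≠ 1`. -/
theorem normalizer_data {G : Type*} [Group G] [Finite G] [IsSimpleGroup G] {p m : ℕ}
    [hp : Fact p.Prime] (hc : Nat.card G = p ^ 1 * m) (hm : ¬ p ∣ m) (hm1 : 1 < m) (d c : ℕ)
    (hd : Nat.card (Sylow p G) = d) (hcd : c * d = Nat.card G) (hd0 : 0 < d) (P : Sylow p G) :
    Nat.card P = p ∧
    Nat.card (Subgroup.normalizer ((P : Subgroup G) : Set G)) = c ∧
    (Subgroup.centralizer ((P : Subgroup G) : Set G)).relIndex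
      (Subgroup.normalizer ((P : Subgroup G) : Set G)) ∣ p - 1 ∧
    Nat.card (Subgroup.centralizer ((P : Subgroup G) : Set G)) *
      (Subgroup.centralizer ((P : Subgroup G) : Set G)).relIndex
        (Subgroup.normalizer ((P : Subgroup G) : Set G)) = c ∧
    (Subgroup.centralizer ((P : Subgroup G) : Set G)).relIndex
      (Subgroup.normalizer ((P : Subgroup G) : Set G)) ≠ 1 := by
  have hP : Nat.card (P : Subgroup G) = p := by
    have := card_sylow_eq_pow hc hm P
    rwa [pow_one] at this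
  have hN := card_normalizer_mul_card_sylow P
  rw [hd, ← hcd] at hN
  have hN' : Nat.card (Subgroup.normalizer ((P : Subgroup G) : Set G)) = c :=
    Nat.eq_of_mul_eq_mul_right hd0 hN
  have h1 := relIndex_centralizer_normalizer_dvd_pred (p := p) (P : Subgroup G) hP
  have h2 := card_mul_relIndex_of_le
    (Subgroup.centralizer_le_normalizer ((P : Subgroup G) : Set G))
  rw [hN'] at h2
  refine ⟨hP, hN', h1, h2, ?_⟩
  intro h
  have hle : Subgroup.normalizer ((P : Subgroup G) : Set G) ≤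
      Subgroup.centralizer ((P : Subgroup G) : Set G) := Subgroup.relIndex_eq_one.mp h
  rcases sylow_eq_bot_or_top_of_normalizer_le_centralizer P hle with h3 | h3
  · rw [h3, Subgroup.card_bot] at hP
    have := hp.out.one_lt
    omega
  · rw [h3, Subgroup.card_top, hc, pow_one] at hP
    have hp0 : 0 < p := hp.out.pos
    have : p * m = p * 1 := by rw [mul_one]; exact hP
    have := Nat.eq_of_mul_eq_mul_left hp0 this
    omega

/-- `BRINV` with `e = 2`, `p > 3`: a nontrivial character of degree `d > 2p`, `d ≡ s = ±1 (p)`, and the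
exceptional degree `D` with `ε D = 1 + s d`. -/
theorem brinv_two {G : Type*} [Group G] [Finite G] [IsSimpleGroup G]
    (hG : ¬ IsMulCommutative G) {p : ℕ} [hp : Fact p.Prime] (hp3 : 3 < p)
    (P : Sylow p G) (hP : Nat.card P = p)
    (he : (Subgroup.centralizer ((P : Subgroup G) : Set G)).relIndex
      (Subgroup.normalizer ((P : Subgroup G) : Set G)) = 2)
    (heven : 2 ∣ Nat.card (Subgroup.centralizer ((P : Subgroup G) : Set G))) :
    ∃ (d D : ℕ) (s ε : ℤ), (s = 1 ∨ s = -1) ∧ (ε = 1 ∨ ε = -1) ∧ ((d : ℤ) ≡ s [ZMOD p]) ∧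
      2 * p < d ∧ d ∣ Nat.card G ∧ d ^ 2 ≤ Nat.card G ∧ D ∣ Nat.card G ∧ 0 < D ∧
      ε * (D : ℤ) = 1 + s * (d : ℤ) := by
  classical
  obtain ⟨X, εX, θ, ε, a, hXc, hθX, halt, hX, hε, -, hrel, -, -, habs, hval, -⟩ :=
    Cfsg.Agent.Lib.Helper78_SO_BRINV.brauer_inv_data hG (p := p) (by omega) P hP 2 he (by norm_num)
      heven
  have h1X : oneIrr G ∈ X ∧ εX (oneIrr G) = 1 := by
    rcases halt with h | ⟨-, -, h⟩
    · exact h
    · omega
  obtain ⟨x, y, hxy, hXeq⟩ := Finset.card_eq_two.mp hXc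
  -- the nontrivial member
  obtain ⟨χ, hχ1, hXeq'⟩ : ∃ χ : IrrCharacter G, χ ≠ oneIrr G ∧ X = {oneIrr G, χ} := by
    have h1 := h1X.1
    rw [hXeq] at h1
    simp only [Finset.mem_insert, Finset.mem_singleton] at h1
    rcases h1 with h1 | h1
    · exact ⟨y, fun h => hxy (h1.symm ▸ h.symm), by rw [hXeq, h1]⟩
    · refine ⟨x, fun h => hxy (h.trans h1), ?_⟩
      rw [hXeq, h1]
      exact Finset.pair_comm x y
  have hχX : χ ∈ X := by rw [hXeq']; simp
  obtain ⟨hs, hmod⟩ := hX χ hχX
  obtain ⟨m, hm1, hm⟩ := hval χ hχX hχ1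
  have hab := habs χ hχ1
  have hdeg1 := Cfsg.Agent.Lib.Helper16_SO_Brauer.charDegree_oneIrr G
  rw [hXeq', Finset.sum_pair (Ne.symm hχ1), h1X.2, hdeg1] at hrel
  refine ⟨charDegree (χ : G → ℂ), charDegree (θ : G → ℂ), εX χ, ε, hs, hε, hmod, ?_,
    Cfsg.Agent.Lib.Helper77_BlockBasics.charDegree_dvd_card χ,
    Cfsg.Agent.Lib.Helper74_CharTools.charDegree_sq_le χ,
    Cfsg.Agent.Lib.Helper77_BlockBasics.charDegree_dvd_card θ,
    Cfsg.Agent.Lib.Helper77_BlockBasics.charDegree_pos θ, ?_⟩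
  · rw [abs_lt] at hab
    have h1 := hab.1
    rw [hm] at h1
    have hp0 : (0 : ℤ) < p := by exact_mod_cast hp.out.pos
    have hm1' : (1 : ℤ) ≤ m := by exact_mod_cast hm1
    have : (4 : ℤ) * p * m ≥ 4 * p := by nlinarith
    have h2 : (2 : ℤ) * p < (charDegree (χ : G → ℂ) : ℤ) := by linarith
    exact_mod_cast h2
  · rw [hrel]; push_cast; ring

theorem no_simple_3960 {G : Type*} [Group G] [Finite G] [IsSimpleGroup G] : Nat.card G ≠ 3960 := by
  intro h
  have hG : ¬ IsMulCommutative G :=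
    not_isMulCommutative_of_not_prime (by rw [h]; norm_num)
  have : Fact (Nat.Prime 11) := ⟨by norm_num⟩
  have hc : Nat.card G = 11 ^ 1 * 360 := by rw [h]; norm_num
  have hm : ¬ 11 ∣ 360 := by norm_num
  have hmem := card_sylow_mem_candidates hc hm
  have hcand : sylowCandidates 11 360 = [1, 12, 45] := by decide
  rw [hcand] at hmem
  simp only [List.mem_cons, List.not_mem_nil, or_false] at hmem
  have hlt := one_lt_card_sylow_of_card hc hm (by norm_num) (by norm_num)
  rcases hmem with hd | hd | hd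
  · omega
  · exact perm_kill hG (p := 11) (by norm_num) hc hm hd 330 (by rw [h]) (by norm_num)
  · obtain ⟨P⟩ : Nonempty (Sylow 11 G) := inferInstance
    obtain ⟨hP, hN, hdvd, hCe, he1⟩ :=
      normalizer_data hc hm (by norm_num) 45 88 hd (by rw [h]) (by norm_num) P
    set e := (Subgroup.centralizer ((P : Subgroup G) : Set G)).relIndex
      (Subgroup.normalizer ((P : Subgroup G) : Set G)) with he
    have he88 : e ∣ 88 := Dvd.intro_left _ hCe
    have he2 : e = 2 := by
      have h2 : e ∣ Nat.gcd 88 (11 - 1) := Nat.dvd_gcd he88 hdvd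
      have h3 : Nat.gcd 88 (11 - 1) = 2 := by norm_num
      rw [h3] at h2
      have := (Nat.dvd_prime Nat.prime_two).mp h2
      omega
    have hC : Nat.card (Subgroup.centralizer ((P : Subgroup G) : Set G)) = 44 := by
      rw [he2] at hCe; omega
    obtain ⟨d, D, s, ε, hs, hε, hmod, hlow, hdvdd, hsq, hDdvd, hD0, hrel⟩ :=
      brinv_two hG (p := 11) (by norm_num) P hP he2 (by rw [hC]; norm_num)
    rw [h] at hdvdd hsq hDdvd
    have hle : d ≤ 62 := by
      by_contra hcon
      have : 63 ≤ d := by omega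
      nlinarith
    have hd45 : d = 45 ∧ s = 1 := by
      unfold Int.ModEq at hmod
      rcases hs with hs | hs <;> rw [hs] at hmod <;> push_cast at hmod
      · have hm' : d % 11 = 1 := by omega
        refine ⟨?_, hs⟩
        interval_cases d <;> omega
      · exfalso
        have hm' : d % 11 = 10 := by omega
        interval_cases d <;> omega
    obtain ⟨rfl, rfl⟩ := hd45
    have hD46 : D = 46 := by
      rcases hε with hε | hε <;> rw [hε] at hrel <;> push_cast at hrel <;> omega
    rw [hD46] at hDdvd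
    norm_num at hDdvd

end Cfsg.Agent.Lib.Helper80_SO_N3960
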