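import Mathlib
import Cfsg.Agent.Lib.Helper80_SO_N3960

/-!
# S0983 package N5940 (architect helper16; formalized by helper80)

No simple group of order `5940 = 2²·3³·5·11`.  `p = 11`: `n₁₁ ∈ {1, 12, 45, 540}`; `12`: `perm_kill`;
`540`: `burn_kill`; `45`: `|N| = 132`, `e = 2`, `|C| = 66` even, and `BRINV(11, 2)` forces a degree `d > 22`,
`d ∣ 5940`, `d ≤ 77`, `d ≡ ±1 (11)`: `d = 45` (`D = 46`) or `d = 54` (`D = 53`); neither `D` divides `5940`.
-/

set_option autoImplicit false
open Cfsg Cfsg.Agent.Lib.Helper80_CharBasic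

namespace Cfsg.Agent.Lib.Helper80_SO_N5940

open Cfsg.Agent.Lib.Helper17_Sylow Cfsg.Agent.Lib.Helper75_SM_Base
  Cfsg.Agent.Lib.Helper80_SO_N3960

theorem no_simple_5940 {G : Type*} [Group G] [Finite G] [IsSimpleGroup G] : Nat.card G ≠ 5940 := by
  intro h
  have hG : ¬ IsMulCommutative G :=
    not_isMulCommutative_of_not_prime (by rw [h]; norm_num)
  have : Fact (Nat.Prime 11) := ⟨by norm_num⟩
  have hc : Nat.card G = 11 ^ 1 * 540 := by rw [h]; norm_num
  have hm : ¬ 11 ∣ 540 := by norm_num
  have hmem := card_sylow_mem_candidates hc hm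
  have hcand : sylowCandidates 11 540 = [1, 12, 45, 540] := by decide
  rw [hcand] at hmem
  simp only [List.mem_cons, List.not_mem_nil, or_false] at hmem
  have hlt := one_lt_card_sylow_of_card hc hm (by norm_num) (by norm_num)
  rcases hmem with hd | hd | hd | hd
  · omega
  · exact perm_kill hG (p := 11) (by norm_num) hc hm hd 495 (by rw [h]) (by norm_num)
  · obtain ⟨P⟩ : Nonempty (Sylow 11 G) := inferInstance
    obtain ⟨hP, hN, hdvd, hCe, he1⟩ :=
      normalizer_data hc hm (by norm_num) 45 132 hd (by rw [h]) (by norm_num) P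
    set e := (Subgroup.centralizer ((P : Subgroup G) : Set G)).relIndex
      (Subgroup.normalizer ((P : Subgroup G) : Set G)) with he
    have he132 : e ∣ 132 := Dvd.intro_left _ hCe
    have he2 : e = 2 := by
      have h2 : e ∣ Nat.gcd 132 (11 - 1) := Nat.dvd_gcd he132 hdvd
      have h3 : Nat.gcd 132 (11 - 1) = 2 := by norm_num
      rw [h3] at h2
      have := (Nat.dvd_prime Nat.prime_two).mp h2
      omega
    have hC : Nat.card (Subgroup.centralizer ((P : Subgroup G) : Set G)) = 66 := by
      rw [he2] at hCe; omega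
    obtain ⟨d, D, s, ε, hs, hε, hmod, hlow, hdvdd, hsq, hDdvd, hD0, hrel⟩ :=
      brinv_two hG (p := 11) (by norm_num) P hP he2 (by rw [hC]; norm_num)
    rw [h] at hdvdd hsq hDdvd
    have hle : d ≤ 77 := by
      by_contra hcon
      have : 78 ≤ d := by omega
      nlinarith
    have hcases : (d = 45 ∧ s = 1) ∨ (d = 54 ∧ s = -1) := by
      unfold Int.ModEq at hmod
      rcases hs with hs | hs <;> rw [hs] at hmod <;> push_cast at hmod
      · have hm' : d % 11 = 1 := by omega
        left
        refine ⟨?_, hs⟩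
        interval_cases d <;> omega
      · have hm' : d % 11 = 10 := by omega
        right
        refine ⟨?_, hs⟩
        interval_cases d <;> omega
    rcases hcases with ⟨rfl, rfl⟩ | ⟨rfl, rfl⟩
    · have hD46 : D = 46 := by
        rcases hε with hε | hε <;> rw [hε] at hrel <;> push_cast at hrel <;> omega
      rw [hD46] at hDdvd
      norm_num at hDdvd
    · have hD53 : D = 53 := by
        rcases hε with hε | hε <;> rw [hε] at hrel <;> push_cast at hrel <;> omega
      rw [hD53] at hDdvd
      norm_num at hDdvd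
  · exact burn_kill (p := 11) hc hm (by norm_num) 540 hd (by norm_num)

end Cfsg.Agent.Lib.Helper80_SO_N5940
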