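import Mathlib
import Cfsg.Prelude.Def_Blocks
import Cfsg.Agent.Lib.Helper80_CharBasic
import Cfsg.Agent.Lib.Helper17_Sylow
import Cfsg.Agent.Lib.Helper75_SM_Base
import Cfsg.Agent.Lib.Helper74_CharTools
import Cfsg.Agent.Lib.Helper77_BlockBasics
import Cfsg.Agent.Lib.Helper78_SO_BRINV

/-!
# S0983 package N4200 (architect helper16): there is no simple group of order 4200

`p = 7`: `n₇ ∈ {15, 50}` after the engine kills; `e = |N(P) : C(P)| ∈ {2, 3, 6}` and `|C(P)|` is even.
BRINV: a nontrivial `χ ∈ X` has `(d, s) ∈ {(15,+), (50,+), (20,-)}`; `a θ ≡ θ(1) (mod 28)` forces `θ(1) > 14`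
when `θ ≠ 1`; the degree equation then has no solution.
-/

set_option autoImplicit false
set_option linter.unusedVariables false
set_option linter.unusedSimpArgs false

open Cfsg Cfsg.Agent.Lib.Helper80_CharBasic

namespace Cfsg.Agent.Lib.Helper82_SO_N4200

open Cfsg.Agent.Lib.Helper17_Sylow Cfsg.Agent.Lib.Helper75_SM_Base Subgroup

/-- fiberwise evaluation of a sum over a finset whose members have one of three "degrees" -/
theorem sum_three {α M : Type*} [DecidableEq α] [AddCommMonoid M] (S : Finset α) (d : α → ℕ)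
    (F : α → M) (φ : ℕ → M) (hd : ∀ x ∈ S, d x = 15 ∨ d x = 50 ∨ d x = 20)
    (hF : ∀ x ∈ S, F x = φ (d x)) :
    ∑ x ∈ S, F x = (S.filter (fun x => d x = 15)).card • φ 15 +
      (S.filter (fun x => d x = 50)).card • φ 50 + (S.filter (fun x => d x = 20)).card • φ 20 := by
  have hmaps : ∀ x ∈ S, d x ∈ ({15, 50, 20} : Finset ℕ) := by
    intro x hx
    rcases hd x hx with h | h | h <;> simp [h]
  rw [← Finset.sum_fiberwise_of_maps_to hmaps F]
  have hin : ∀ y : ℕ, ∑ x ∈ S.filter (fun x => d x = y), F x =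
      (S.filter (fun x => d x = y)).card • φ y := by
    intro y
    rw [← Finset.sum_const]
    apply Finset.sum_congr rfl
    intro x hx
    rw [Finset.mem_filter] at hx
    rw [hF x hx.1, hx.2]
  simp only [hin]
  rw [Finset.sum_insert (by decide), Finset.sum_insert (by decide), Finset.sum_singleton]
  abel

theorem card_three {α : Type*} [DecidableEq α] (S : Finset α) (d : α → ℕ)
    (hd : ∀ x ∈ S, d x = 15 ∨ d x = 50 ∨ d x = 20) :
    (S.filter (fun x => d x = 15)).card + (S.filter (fun x => d x = 50)).card +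
      (S.filter (fun x => d x = 20)).card = S.card := by
  have := sum_three S d (fun _ => (1 : ℕ)) (fun _ => 1) hd (fun _ _ => rfl)
  simp only [Finset.sum_const, smul_eq_mul, mul_one] at this
  omega

/-- the final arithmetic -/
theorem arith (n15 n50 n20 D : ℕ) (ε : ℤ) (hε : ε = 1 ∨ ε = -1) (e : ℕ)
    (he : e = 2 ∨ e = 3 ∨ e = 6) (hn : n15 + n50 + n20 + 1 = e)
    (hD : ε * (D : ℤ) = 1 + 15 * (n15 : ℤ) + 50 * (n50 : ℤ) - 20 * (n20 : ℤ))
    (h14 : 14 < D) (hdvd : D ∣ 4200)
    (hsq : 1 + 225 * n15 + 2500 * n50 + 400 * n20 + D ^ 2 ≤ 4200) : False := by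
  have hD64 : D ≤ 64 := by nlinarith
  rcases hε with rfl | rfl <;> rcases he with rfl | rfl | rfl <;> interval_cases D <;> omega

/-- the possible degrees and signs of a nontrivial member of `X` -/
theorem deg_list (d : ℕ) (s a : ℤ) (m : ℕ) (hs : s = 1 ∨ s = -1) (hmod : (d : ℤ) ≡ s [ZMOD 7])
    (hdvd : d ∣ 4200) (hsq : d ^ 2 ≤ 4200) (hm : 1 ≤ m) (ha : a = (d : ℤ) - 28 * (m : ℤ))
    (habs : |a| < (d : ℤ)) : (d = 15 ∧ s = 1) ∨ (d = 50 ∧ s = 1) ∨ (d = 20 ∧ s = -1) := by
  have hd64 : d ≤ 64 := by nlinarith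
  rw [abs_lt] at habs
  have hd14 : 14 < d := by omega
  unfold Int.ModEq at hmod
  rcases hs with rfl | rfl <;> interval_cases d <;> omega

theorem charDegree_oneIrr {G : Type*} [Group G] [Finite G] :
    charDegree ((oneIrr G : IrrCharacter G) : G → ℂ) = 1 := by
  show ⌊((1 : ℂ)).re⌋₊ = 1
  simp

/-- the Brauer analysis: a Sylow `7`-normaliser of order `280` or `84` is impossible -/
theorem main_case {G : Type*} [Group G] [Finite G] [IsSimpleGroup G] [Fact (Nat.Prime 7)]
    (h : Nat.card G = 4200) (hG : ¬ IsMulCommutative G) (P : Sylow 7 G)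
    (hP : Nat.card (P : Subgroup G) = 7)
    (hN : Nat.card (normalizer ((P : Subgroup G) : Set G)) = 280 ∨
      Nat.card (normalizer ((P : Subgroup G) : Set G)) = 84) : False := by
  classical
  obtain ⟨e, he⟩ : ∃ e, (centralizer ((P : Subgroup G) : Set G)).relIndex
      (normalizer ((P : Subgroup G) : Set G)) = e := ⟨_, rfl⟩
  have he6 : e ∣ 6 := by
    have := relIndex_centralizer_normalizer_dvd_pred (P : Subgroup G) hP
    rwa [he] at this
  have hCN := card_mul_relIndex_of_le (centralizer_le_normalizer ((P : Subgroup G) : Set G))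
  rw [he] at hCN
  have he1 : e ≠ 1 := by
    intro h1
    have hNC : normalizer ((P : Subgroup G) : Set G) ≤ centralizer ((P : Subgroup G) : Set G) :=
      Subgroup.relIndex_eq_one.mp (he.trans h1)
    rcases sylow_eq_bot_or_top_of_normalizer_le_centralizer P hNC with hb | ht
    · rw [hb, Subgroup.card_bot] at hP
      omega
    · rw [ht, Subgroup.card_top, h] at hP
      omega
  have he' : e = 2 ∨ e = 3 ∨ e = 6 := by
    have h6 : e ≤ 6 := Nat.le_of_dvd (by norm_num) he6
    interval_cases e <;> omega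
  have heven : 2 ∣ Nat.card (centralizer ((P : Subgroup G) : Set G)) := by
    rcases hN with hN | hN <;> rw [hN] at hCN <;> rcases he' with rfl | rfl | rfl <;> omega
  obtain ⟨X, εX, θ, ε, a, hXc, hθX, halt, hX, hε, hθmod, hrel, hsq, ha1, habs, hav, harel⟩ :=
    Cfsg.Agent.Lib.Helper78_SO_BRINV.brauer_inv_data hG (by norm_num) P hP e he he1 heven
  -- the type of a nontrivial member of `X`
  have htype : ∀ χ ∈ X, χ ≠ oneIrr G →
      (charDegree (χ : G → ℂ) = 15 ∧ εX χ = 1) ∨ (charDegree (χ : G → ℂ) = 50 ∧ εX χ = 1) ∨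
        (charDegree (χ : G → ℂ) = 20 ∧ εX χ = -1) := by
    intro χ hχ hne
    obtain ⟨hs, hmod⟩ := hX χ hχ
    obtain ⟨m, hm, ham⟩ := hav χ hχ hne
    have hdvd : charDegree (χ : G → ℂ) ∣ 4200 := by
      rw [← h]; exact Cfsg.Agent.Lib.Helper77_BlockBasics.charDegree_dvd_card χ
    have hsq' : charDegree (χ : G → ℂ) ^ 2 ≤ 4200 := by
      rw [← h]; exact Cfsg.Agent.Lib.Helper74_CharTools.charDegree_sq_le χ
    refine deg_list _ _ (a χ) m hs (by exact_mod_cast hmod) hdvd hsq' hm ?_ (habs χ hne)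
    rw [ham]; push_cast; ring
  -- `a χ ≡ χ(1) (mod 28)` on `X`
  have hcong : ∀ χ ∈ X, (28 : ℤ) ∣ εX χ * a χ - εX χ * (charDegree (χ : G → ℂ) : ℤ) := by
    intro χ hχ
    by_cases hne : χ = oneIrr G
    · rw [hne, ha1, charDegree_oneIrr]; simp
    · obtain ⟨m, hm, ham⟩ := hav χ hχ hne
      rw [ham]
      refine ⟨-(εX χ * m), ?_⟩
      push_cast; ring
  have h28 : (28 : ℤ) ∣ ε * a θ - ε * (charDegree (θ : G → ℂ) : ℤ) := by
    rw [harel, hrel, ← Finset.sum_sub_distrib]
    exact Finset.dvd_sum hcong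
  have hDdvd : charDegree (θ : G → ℂ) ∣ 4200 := by
    rw [← h]; exact Cfsg.Agent.Lib.Helper77_BlockBasics.charDegree_dvd_card θ
  rcases halt with ⟨h1X, hε1⟩ | ⟨hθ1, hεm, he6'⟩
  · -- the principal character lies in `X`
    have hθne : θ ≠ oneIrr G := fun hh => hθX (hh ▸ h1X)
    have hθabs := habs θ hθne
    have hD14 : 14 < charDegree (θ : G → ℂ) := by
      rw [abs_lt] at hθabs
      obtain ⟨k, hk⟩ := h28
      rcases hε with rfl | rfl <;> omega
    obtain ⟨S, hS⟩ : ∃ S, S = X.erase (oneIrr G) := ⟨_, rfl⟩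
    have hSc : S.card + 1 = e := by
      rw [hS, Finset.card_erase_of_mem h1X, hXc]
      have : 0 < X.card := Finset.card_pos.mpr ⟨_, h1X⟩
      omega
    have hSt : ∀ χ ∈ S, charDegree (χ : G → ℂ) = 15 ∨ charDegree (χ : G → ℂ) = 50 ∨
        charDegree (χ : G → ℂ) = 20 := by
      intro χ hχ
      rw [hS, Finset.mem_erase] at hχ
      rcases htype χ hχ.2 hχ.1 with hh | hh | hh
      · exact Or.inl hh.1
      · exact Or.inr (Or.inl hh.1)
      · exact Or.inr (Or.inr hh.1)
    have hsum1 := sum_three S (fun χ => charDegree (χ : G → ℂ))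
      (fun χ => εX χ * (charDegree (χ : G → ℂ) : ℤ)) (fun k => if k = 20 then -20 else (k : ℤ)) hSt
      (by
        intro χ hχ
        rw [hS, Finset.mem_erase] at hχ
        rcases htype χ hχ.2 hχ.1 with hh | hh | hh <;> simp [hh.1, hh.2])
    have hsum2 := sum_three S (fun χ => charDegree (χ : G → ℂ))
      (fun χ => charDegree (χ : G → ℂ) ^ 2) (fun k => k ^ 2) hSt (fun _ _ => rfl)
    have hcard := card_three S (fun χ => charDegree (χ : G → ℂ)) hSt
    have hrel' : ε * (charDegree (θ : G → ℂ) : ℤ) = 1 + ∑ χ ∈ S, εX χ * (charDegree (χ : G → ℂ) : ℤ) := by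
      rw [hrel, hS, ← Finset.add_sum_erase X _ h1X, hε1, charDegree_oneIrr]
      simp
    have hsq' : 1 + ∑ χ ∈ S, charDegree (χ : G → ℂ) ^ 2 + charDegree (θ : G → ℂ) ^ 2 ≤ 4200 := by
      have h1 : ∑ χ ∈ X, charDegree (χ : G → ℂ) ^ 2 =
          1 + ∑ χ ∈ S, charDegree (χ : G → ℂ) ^ 2 := by
        rw [hS, ← Finset.add_sum_erase X _ h1X, charDegree_oneIrr]
        simp
      have h2 : 1 ≤ (7 - 1) / e := by
        rcases he' with rfl | rfl | rfl <;> norm_num
      rw [h, h1] at hsq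
      nlinarith
    rw [hsum1] at hrel'
    rw [hsum2] at hsq'
    simp only [smul_eq_mul, nsmul_eq_mul] at hrel' hsq'
    norm_num at hrel' hsq'
    exact arith _ _ _ _ ε hε e he' (by rw [hcard]; exact hSc) (by rw [hrel']; ring) hD14 hDdvd
      (by omega)
  · -- `θ = 1`
    have hall : ∀ χ ∈ X, (5 : ℤ) ∣ εX χ * (charDegree (χ : G → ℂ) : ℤ) := by
      intro χ hχ
      have hne : χ ≠ oneIrr G := fun hh => hθX (by rw [hθ1, ← hh]; exact hχ)
      rcases htype χ hχ hne with hh | hh | hh <;> rw [hh.1, hh.2] <;> norm_num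
    have h5 := Finset.dvd_sum hall
    rw [← hrel, hθ1, charDegree_oneIrr, hεm] at h5
    norm_num at h5

/-- **N4200**. -/
theorem no_simple_4200 {G : Type*} [Group G] [Finite G] [IsSimpleGroup G] : Nat.card G ≠ 4200 := by
  intro h
  have hG : ¬ IsMulCommutative G :=
    not_isMulCommutative_of_not_prime (by rw [h]; norm_num)
  have : Fact (Nat.Prime 7) := ⟨by norm_num⟩
  have hc : Nat.card G = 7 ^ 1 * 600 := by rw [h]; norm_num
  have hm : ¬ 7 ∣ 600 := by norm_num
  have hmem := card_sylow_mem_candidates hc hm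
  have hcand : sylowCandidates 7 600 = [1, 8, 15, 50, 120] := by decide
  rw [hcand] at hmem
  simp only [List.mem_cons, List.not_mem_nil, or_false] at hmem
  have hlt := one_lt_card_sylow_of_card hc hm (by norm_num) (by norm_num)
  obtain ⟨P⟩ : Nonempty (Sylow 7 G) := inferInstance
  have hP : Nat.card (P : Subgroup G) = 7 := by
    have := card_sylow_eq_pow hc hm P
    rwa [pow_one] at this
  have hNn := card_normalizer_mul_card_sylow P
  rw [h] at hNn
  rcases hmem with hd | hd | hd | hd | hd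
  · omega
  · exact fact_kill hG 8 hd (by norm_num) (by rw [h]; decide)
  · exact main_case h hG P hP (Or.inl (by rw [hd] at hNn; omega))
  · exact main_case h hG P hP (Or.inr (by rw [hd] at hNn; omega))
  · exact burn_kill hc hm (by norm_num) 120 hd (by decide)

end Cfsg.Agent.Lib.Helper82_SO_N4200
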