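import Cfsg.Agent.Lib.Helper17_TIPrime
import Cfsg.Agent.Lib.Helper17_Sylow

/-!
# Applying the theory of exceptional characters to simple groups (helper17)

Corollaries of `Helper17_TIPrime.exceptional_of_prime` for `e = 2` and `e = 3`, and the
auxiliary facts needed to exclude simple groups of a given order: degrees of nontrivial
irreducible characters of a nonabelian simple group are at least `2`, the squares of the degrees
sum to the group order, and a Sylow subgroup of prime order whose normalizer has order `e p`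
with `e` prime is self-centralizing.
-/

set_option autoImplicit false
open scoped ComplexConjugate

namespace Cfsg.Agent.Lib.Helper17_ExcApply

open Cfsg.Agent.Lib.Helper17_TIPrime Cfsg.Agent.Lib.Helper80_CharBasic
  Cfsg.Agent.Lib.Helper17_Sylow Cfsg.Agent.Lib.Helper3_CharComplete
  Cfsg.Agent.Lib.Helper3_CharBridge

variable {G : Type*} [Group G]

/-- Abbreviation: the degree of an irreducible character as a natural number. -/
noncomputable def deg (χ : Cfsg.IrrCharacter G) : ℕ := Cfsg.charDegree (χ : G → ℂ)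

theorem deg_oneIrr [Finite G] : deg (oneIrr G) = 1 := by
  have h := Cfsg.Agent.Lib.Helper77_BlockBasics.apply_one_eq_charDegree (oneIrr G)
  have h1 : (oneIrr G : G → ℂ) 1 = 1 := rfl
  rw [h1] at h
  unfold deg
  exact_mod_cast h.symm

theorem deg_pos [Finite G] (χ : Cfsg.IrrCharacter G) : 0 < deg χ :=
  Cfsg.Agent.Lib.Helper77_BlockBasics.charDegree_pos χ

theorem deg_dvd_card [Finite G] (χ : Cfsg.IrrCharacter G) : deg χ ∣ Nat.card G :=
  Cfsg.Agent.Lib.Helper77_BlockBasics.charDegree_dvd_card χ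

/-- The squares of the degrees of the irreducible characters sum to the group order. -/
theorem sum_sq_deg [Fintype G] : ∑ χ : Cfsg.IrrCharacter G, deg χ ^ 2 = Nat.card G := by
  have h := Cfsg.Agent.Lib.Helper81_CharOrth2.second_orthogonality (G := G) 1 1
  have h2 : ∀ χ : Cfsg.IrrCharacter G, (χ : G → ℂ) 1 * (χ : G → ℂ) 1⁻¹ = ((deg χ ^ 2 : ℕ) : ℂ) := by
    intro χ
    rw [inv_one, Cfsg.Agent.Lib.Helper77_BlockBasics.apply_one_eq_charDegree]
    unfold deg
    push_cast
    ring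
  rw [Finset.sum_congr rfl (fun χ _ => h2 χ)] at h
  have h3 : Nat.card {c : G // c * 1 * c⁻¹ = 1} = Nat.card G := by
    apply Nat.card_congr
    exact Equiv.subtypeUnivEquiv (fun c => by simp)
  rw [h3] at h
  exact_mod_cast h

/-- Two distinct irreducible characters different from the principal one. -/
theorem one_add_sq_add_sq_le [Fintype G] (ψ ψ' : Cfsg.IrrCharacter G) (h1 : ψ ≠ oneIrr G)
    (h2 : ψ' ≠ oneIrr G) (h3 : ψ ≠ ψ') : 1 + deg ψ ^ 2 + deg ψ' ^ 2 ≤ Nat.card G := by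
  classical
  rw [← sum_sq_deg]
  have hsub : ({oneIrr G, ψ, ψ'} : Finset (Cfsg.IrrCharacter G)) ⊆ Finset.univ :=
    Finset.subset_univ _
  have := Finset.sum_le_sum_of_subset (f := fun χ : Cfsg.IrrCharacter G => deg χ ^ 2) hsub
  rw [Finset.sum_insert (by simp [Ne.symm h1, Ne.symm h2]), Finset.sum_insert (by simp [h3]),
    Finset.sum_singleton, deg_oneIrr] at this
  linarith

theorem one_add_sq_le [Fintype G] (ψ : Cfsg.IrrCharacter G) (h1 : ψ ≠ oneIrr G) :
    1 + deg ψ ^ 2 ≤ Nat.card G := by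
  classical
  rw [← sum_sq_deg]
  have hsub : ({oneIrr G, ψ} : Finset (Cfsg.IrrCharacter G)) ⊆ Finset.univ :=
    Finset.subset_univ _
  have := Finset.sum_le_sum_of_subset (f := fun χ : Cfsg.IrrCharacter G => deg χ ^ 2) hsub
  rw [Finset.sum_insert (by simp [Ne.symm h1]), Finset.sum_singleton, deg_oneIrr] at this
  linarith

/-- A nonabelian simple group has no nontrivial linear character. -/
theorem two_le_deg_of_simple [Finite G] [IsSimpleGroup G] (hG : ¬ IsMulCommutative G)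
    (ψ : Cfsg.IrrCharacter G) (h1 : ψ ≠ oneIrr G) : 2 ≤ deg ψ := by
  by_contra hlt
  have hpos := deg_pos ψ
  have hd : deg ψ = 1 := by omega
  have hψ1 : (ψ : G → ℂ) 1 = 1 := by
    rw [Cfsg.Agent.Lib.Helper77_BlockBasics.apply_one_eq_charDegree]
    have : Cfsg.charDegree (ψ : G → ℂ) = 1 := hd
    rw [this]; simp
  have hchar : Cfsg.IsCharacter G (ψ : G → ℂ) := isCharacter_of_isIrrCharacter ψ.2
  let f := Cfsg.Agent.Lib.Helper15_Linear.linearHom (ψ : G → ℂ) hchar hψ1
  rcases (MonoidHom.normal_ker f).eq_bot_or_eq_top with hk | hk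
  · apply hG
    refine ⟨⟨fun a b => ?_⟩⟩
    have h2 : f (a * b) = f (b * a) := by rw [map_mul, map_mul, mul_comm]
    have h3 : (a * b) * (b * a)⁻¹ ∈ MonoidHom.ker f := by
      rw [MonoidHom.mem_ker, map_mul, h2, ← map_mul, mul_inv_cancel, map_one]
    rw [hk, Subgroup.mem_bot] at h3
    exact mul_inv_eq_one.mp h3
  · apply h1
    apply Subtype.ext
    funext g
    have : g ∈ MonoidHom.ker f := by rw [hk]; trivial
    rw [MonoidHom.mem_ker] at this
    exact this

/-- A Sylow subgroup `P` of prime order `p` of a simple group whose normalizer has order `e p`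
with `e` prime is self-centralizing. -/
theorem centralizer_le_of_card_normalizer [Finite G] [IsSimpleGroup G] {p : ℕ} [hp : Fact p.Prime]
    (P : Sylow p G) (hP : Nat.card (P : Subgroup G) = p) (e : ℕ) (he : e.Prime)
    (hN : Nat.card (Subgroup.normalizer ((P : Subgroup G) : Set G)) = e * p)
    (hlt : p < Nat.card G) :
    Subgroup.centralizer ((P : Subgroup G) : Set G) ≤ (P : Subgroup G) := by
  have hcyc : IsCyclic (P : Subgroup G) := isCyclic_of_prime_card hP
  have hPC : (P : Subgroup G) ≤ Subgroup.centralizer ((P : Subgroup G) : Set G) :=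
    le_centralizer_of_isCyclic (P : Subgroup G)
  have hCN : Subgroup.centralizer ((P : Subgroup G) : Set G) ≤
      Subgroup.normalizer ((P : Subgroup G) : Set G) := Subgroup.centralizer_le_normalizer _
  have h1 := Subgroup.card_dvd_of_le hPC
  have h2 := Subgroup.card_dvd_of_le hCN
  rw [hP] at h1
  rw [hN] at h2
  obtain ⟨k, hk⟩ := h1
  rw [hk, mul_comm e p] at h2
  have h3 : k ∣ e := Nat.dvd_of_mul_dvd_mul_left hp.out.pos h2
  rcases (Nat.dvd_prime he).mp h3 with h4 | h4
  · rw [h4, mul_one] at hk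
    have := Subgroup.eq_of_le_of_card_ge hPC (by rw [hk, hP])
    exact this.symm.le
  · exfalso
    have h5 : Subgroup.centralizer ((P : Subgroup G) : Set G) =
        Subgroup.normalizer ((P : Subgroup G) : Set G) :=
      Subgroup.eq_of_le_of_card_ge hCN (by rw [hN, hk, h4, mul_comm])
    rcases sylow_eq_bot_or_top_of_normalizer_le_centralizer P (by rw [h5]) with h6 | h6
    · rw [h6, Subgroup.card_bot] at hP
      exact hp.out.one_lt.ne hP
    · rw [h6, Subgroup.card_top] at hP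
      omega

/-- Exceptional characters, case `|N_G(R) : R| = 2`: there are a nonprincipal irreducible
character `ψ` with `ψ(1) ≡ δ (mod p)` and an irreducible character `χ` with
`1 + δ ψ(1) = ε χ(1)`. -/
theorem exceptional_two [Fintype G] (R : Subgroup G) {p : ℕ} [hp : Fact p.Prime]
    (hR : Nat.card R = p) (hC : Subgroup.centralizer (R : Set G) ≤ R)
    (hN : Nat.card (Subgroup.normalizer (R : Set G)) = 2 * p) (hp9 : 9 ≤ p) :
    ∃ (ψ χ : Cfsg.IrrCharacter G) (δ ε : ℤ), ψ ≠ oneIrr G ∧ (δ = 1 ∨ δ = -1) ∧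
      (ε = 1 ∨ ε = -1) ∧ ((deg ψ : ℤ) ≡ δ [ZMOD p]) ∧ 1 + δ * deg ψ = ε * deg χ := by
  classical
  obtain ⟨Δ, ε, χ, hε, hΔ1, hsq, hχ, hsum, hcong⟩ :=
    exceptional_of_prime R hR hC 2 hN (by omega) (by norm_num)
  obtain ⟨ψ, hψ1, hψ, hshape⟩ := Cfsg.Agent.Lib.Helper17_Coherence.shape_two (oneIrr G) Δ hΔ1
    (by exact_mod_cast hsq)
  refine ⟨ψ, χ, Δ ψ, ε, hψ1, hψ, hε, ?_, ?_⟩
  · apply hcong ψ
    rcases hψ with h | h <;> rw [h] <;> norm_num
  · have h1 := hshape (fun i => (Cfsg.charDegree (i : G → ℂ) : ℤ))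
    rw [hsum] at h1
    have h2 : (Cfsg.charDegree ((oneIrr G : Cfsg.IrrCharacter G) : G → ℂ) : ℤ) = 1 := by
      exact_mod_cast deg_oneIrr (G := G)
    simp only [h2] at h1
    unfold deg
    linarith

/-- Exceptional characters, case `|N_G(R) : R| = 3`. -/
theorem exceptional_three [Fintype G] (R : Subgroup G) {p : ℕ} [hp : Fact p.Prime]
    (hR : Nat.card R = p) (hC : Subgroup.centralizer (R : Set G) ≤ R)
    (hN : Nat.card (Subgroup.normalizer (R : Set G)) = 3 * p) (hp16 : 16 ≤ p) :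
    ∃ (ψ ψ' χ : Cfsg.IrrCharacter G) (δ δ' ε : ℤ), ψ ≠ oneIrr G ∧ ψ' ≠ oneIrr G ∧ ψ ≠ ψ' ∧
      (δ = 1 ∨ δ = -1) ∧ (δ' = 1 ∨ δ' = -1) ∧ (ε = 1 ∨ ε = -1) ∧
      ((deg ψ : ℤ) ≡ δ [ZMOD p]) ∧ ((deg ψ' : ℤ) ≡ δ' [ZMOD p]) ∧
      1 + δ * deg ψ + δ' * deg ψ' = ε * deg χ := by
  classical
  obtain ⟨Δ, ε, χ, hε, hΔ1, hsq, hχ, hsum, hcong⟩ :=
    exceptional_of_prime R hR hC 3 hN (by omega) (by norm_num)
  obtain ⟨ψ, ψ', hψ1, hψ'1, hne, hψ, hψ', hshape⟩ :=
    Cfsg.Agent.Lib.Helper17_Coherence.shape_three (oneIrr G) Δ hΔ1 (by exact_mod_cast hsq)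
  refine ⟨ψ, ψ', χ, Δ ψ, Δ ψ', ε, hψ1, hψ'1, hne, hψ, hψ', hε, ?_, ?_, ?_⟩
  · apply hcong ψ
    rcases hψ with h | h <;> rw [h] <;> norm_num
  · apply hcong ψ'
    rcases hψ' with h | h <;> rw [h] <;> norm_num
  · have h1 := hshape (fun i => (Cfsg.charDegree (i : G → ℂ) : ℤ))
    rw [hsum] at h1
    have h2 : (Cfsg.charDegree ((oneIrr G : Cfsg.IrrCharacter G) : G → ℂ) : ℤ) = 1 := by
      exact_mod_cast deg_oneIrr (G := G)
    simp only [h2] at h1
    unfold deg
    linarith

end Cfsg.Agent.Lib.Helper17_ExcApply
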