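import Mathlib
import Cfsg.Agent.Lib.Helper17_Sylow
import Cfsg.Agent.S1001

/-!
helper25: common set-up for the rows S0976 / S0980 (architect helper62): a simple group of order
`p * 3^a * 2^b` with `|N(P)| = 2p`.
-/

set_option autoImplicit false

namespace Cfsg.Agent.Lib.Helper25_INV_Common

open Subgroup Cfsg.Agent.Lib.Helper17_Sylow

variable {G : Type*} [Group G] [Finite G] [IsSimpleGroup G]

/-- a simple group of non-prime order is perfect -/
theorem perfect_of_not_prime (h : ¬ (Nat.card G).Prime) : commutator G = ⊤ := by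
  have hna := not_isMulCommutative_of_not_prime h
  rcases (inferInstance : (commutator G).Normal).eq_bot_or_eq_top with hb | ht
  · exfalso
    apply hna
    refine ⟨⟨fun a b => ?_⟩⟩
    have h1 : a * b * a⁻¹ * b⁻¹ ∈ commutator G := by
      rw [_root_.commutator_def]
      exact Subgroup.commutator_mem_commutator (Subgroup.mem_top a) (Subgroup.mem_top b)
    rw [hb, Subgroup.mem_bot] at h1
    calc a * b = a * b * a⁻¹ * b⁻¹ * b * a := by group
      _ = b * a := by rw [h1]; group
  · exact ht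

/-- the Sylow `p`-subgroup is self-centralizing, of order `p` -/
theorem sylow_self_centralizing (p a b : ℕ) [hp : Fact p.Prime]
    (hG : Nat.card G = p * 3 ^ a * 2 ^ b) (hm : ¬ p ∣ 3 ^ a * 2 ^ b) (P : Sylow p G) :
    Nat.card (P : Subgroup G) = p ∧
      centralizer ((P : Subgroup G) : Set G) = (P : Subgroup G) := by
  have hG' : Nat.card G = p ^ 1 * (3 ^ a * 2 ^ b) := by rw [hG]; ring
  have hP : Nat.card (P : Subgroup G) = p := by
    have := card_sylow_eq_pow hG' hm P
    rwa [pow_one] at this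
  refine ⟨hP, ?_⟩
  have hnt : Nontrivial (P : Subgroup G) := by
    rw [← Finite.one_lt_card_iff_nontrivial, hP]
    exact hp.out.one_lt
  obtain ⟨x', hx'⟩ := exists_ne (1 : (P : Subgroup G))
  have hx1 : (x' : G) ≠ 1 := fun h => hx' (Subtype.ext h)
  have hord : orderOf (x' : G) = p := by
    have h1 : orderOf (x' : G) ∣ p := by
      have h0 := orderOf_dvd_natCard x'
      rw [hP] at h0
      rwa [Subgroup.orderOf_coe]
    rcases (Nat.dvd_prime hp.out).1 h1 with h | h
    · exact absurd (orderOf_eq_one_iff.1 h) hx1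
    · exact h
  have hz : zpowers (x' : G) = (P : Subgroup G) := by
    apply Subgroup.eq_of_le_of_card_ge
    · rw [zpowers_le]; exact x'.2
    · rw [Nat.card_zpowers, hord, hP]
  have h1 := Cfsg.Agent.S1001.result p a b hp.out hG (x' : G) hord
  rw [← hz, zpowers_eq_closure, centralizer_closure, h1, zpowers_eq_closure]

/-- `|N(P)| = p * k` with `k ∣ p - 1` and `p * k * n_p = |G|` -/
theorem normalizer_data {p : ℕ} [hp : Fact p.Prime] (P : Sylow p G)
    (hP : Nat.card (P : Subgroup G) = p)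
    (hC : centralizer ((P : Subgroup G) : Set G) = (P : Subgroup G)) :
    ∃ k : ℕ, k ∣ p - 1 ∧ Nat.card (normalizer ((P : Subgroup G) : Set G)) = p * k ∧
      p * k * Nat.card (Sylow p G) = Nat.card G ∧ Nat.card (Sylow p G) % p = 1 := by
  have hk := relIndex_centralizer_normalizer_dvd_pred (P : Subgroup G) hP
  rw [hC] at hk
  have h1 := card_mul_relIndex_of_le (le_normalizer (H := (P : Subgroup G)))
  rw [hP] at h1
  have h2 := card_normalizer_mul_card_sylow P
  rw [← h1] at h2
  refine ⟨_, hk, h1.symm, h2, ?_⟩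
  have := card_sylow_modEq_one p G
  rw [Nat.ModEq] at this
  rw [this]
  exact Nat.mod_eq_of_lt hp.out.one_lt

omit [IsSimpleGroup G] [Finite G] in
/-- divisors of `p^A * q^B * r^C` -/
theorem exists_of_dvd {p q r : ℕ} (hp : p.Prime) (hq : q.Prime) (hr : r.Prime) (A B C d : ℕ)
    (h : d ∣ p ^ A * q ^ B * r ^ C) :
    ∃ a ≤ A, ∃ b ≤ B, ∃ c ≤ C, d = p ^ a * q ^ b * r ^ c := by
  obtain ⟨yz, w, hyz, hw, rfl⟩ := (Nat.dvd_mul).1 h
  obtain ⟨y, z, hy, hz, rfl⟩ := (Nat.dvd_mul).1 hyz
  obtain ⟨a, ha, rfl⟩ := (Nat.dvd_prime_pow hp).1 hy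
  obtain ⟨b, hb, rfl⟩ := (Nat.dvd_prime_pow hq).1 hz
  obtain ⟨c, hc, rfl⟩ := (Nat.dvd_prime_pow hr).1 hw
  exact ⟨a, ha, b, hb, c, hc, rfl⟩

end Cfsg.Agent.Lib.Helper25_INV_Common
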