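import Mathlib
import Cfsg.Prelude.Def_Blocks
import Cfsg.Agent.S4441
import Cfsg.Agent.Lib.Helper62_InvCount_Defs
import Cfsg.Agent.Lib.Helper23_ZStarB
import Cfsg.Agent.Lib.Helper30_KleinBlock
import Cfsg.Agent.Lib.Helper30_ThreePQ
import Cfsg.Agent.Lib.Helper16_SelfCent
import Cfsg.Agent.Lib.Helper74_CharTools
import Cfsg.Agent.Lib.Helper77_BlockBasics
import Cfsg.Agent.Lib.Helper80_CharBasic
import Cfsg.Agent.Lib.Helper80_CharComplete

/-!
# INV-BR2 (package of S0976 / S0980, architect helper62; formalized by helper5)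

`P` a self-centralizing Sylow `p`-subgroup of order `p ≥ 5` with `|N_G(P)| = 2p` in a perfect
group `G`, `1 ≠ x ∈ P`. Brauer's theorem (S4441, `e = 2`) gives the principal block
`{1, χ} ∪ Y`; with `d = χ(1) ≡ η = ±1 (mod p)` the members of `Y` have degree `d + η`, and for
every involution `z`: `invSum(z,x) · d (d + η) = (d − χ(z))²`.
-/

set_option autoImplicit false
open Cfsg Cfsg.Agent.Lib.Helper62_InvCount_Defs
open scoped ComplexConjugate

namespace Cfsg.Agent.Lib.Helper5_INV_BR2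

open Cfsg.Agent.Lib.Helper80_CharBasic

/-- the final algebra -/
theorem final_algebra (d a b S : ℂ) (η : ℂ) (hη : η = 1 ∨ η = -1) (hd : d ≠ 0)
    (hdη : d + η ≠ 0) (hb : η * b = 1 + η * a) (hS : S = 1 + η * (a * a / d) + (b * b / (d + η)) * (-η)) :
    S * (d * (d + η)) = (d - a) ^ 2 := by
  rcases hη with rfl | rfl
  · have hb' : b = 1 + a := by linear_combination hb
    rw [hS, hb']
    field_simp
    ring
  · have hb' : b = a - 1 := by linear_combination -hb
    rw [hS, hb']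
    field_simp
    ring

theorem brauer_e2 {G : Type*} [Group G] [Finite G] {p : ℕ} [Fact p.Prime] (hp5 : 5 ≤ p)
    (P : Sylow p G) (hP : Nat.card P = p)
    (hC : Subgroup.centralizer ((P : Subgroup G) : Set G) = (P : Subgroup G))
    (hN : Nat.card (Subgroup.normalizer ((P : Subgroup G) : Set G)) = 2 * p)
    (hperf : commutator G = ⊤)
    (x : G) (hx : x ∈ (P : Subgroup G)) (hx1 : x ≠ 1) :
    ∃ (χ : Cfsg.IrrCharacter G) (η : ℤ),
      (η = 1 ∨ η = -1) ∧ 2 ≤ Cfsg.charDegree (χ : G → ℂ) ∧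
      ((Cfsg.charDegree (χ : G → ℂ) : ℤ) ≡ η [ZMOD p]) ∧
      Cfsg.charDegree (χ : G → ℂ) ∣ Nat.card G ∧
      ((Cfsg.charDegree (χ : G → ℂ) : ℤ) + η).natAbs ∣ Nat.card G ∧
      ∀ z : G, orderOf z = 2 →
        invSum G z x * ((Cfsg.charDegree (χ : G → ℂ) : ℂ) *
            ((Cfsg.charDegree (χ : G → ℂ) : ℂ) + (η : ℂ))) =
          ((Cfsg.charDegree (χ : G → ℂ) : ℂ) - (χ : G → ℂ) z) ^ 2 := by
  classical
  have hp : p.Prime := Fact.out
  let _ : Fintype G := Fintype.ofFinite G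
  obtain ⟨M, hM⟩ := Cfsg.Agent.Lib.Helper23_ZStarB.exists_pModular p hp
  -- `e = 2`
  have he : (Subgroup.centralizer ((P : Subgroup G) : Set G)).relIndex
      (Subgroup.normalizer ((P : Subgroup G) : Set G)) = 2 := by
    rw [hC]
    have hle : (P : Subgroup G) ≤ Subgroup.normalizer ((P : Subgroup G) : Set G) :=
      Subgroup.le_normalizer
    have h1 := Subgroup.card_mul_index
      ((P : Subgroup G).subgroupOf (Subgroup.normalizer ((P : Subgroup G) : Set G)))
    have h2 : Nat.card ((P : Subgroup G).subgroupOf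
        (Subgroup.normalizer ((P : Subgroup G) : Set G))) = Nat.card (P : Subgroup G) :=
      Nat.card_congr (Subgroup.subgroupOfEquivOfLe hle).toEquiv
    rw [h2, hP, hN] at h1
    have h3 : ((P : Subgroup G).subgroupOf
        (Subgroup.normalizer ((P : Subgroup G) : Set G))).index = 2 := by
      have hp0 : 0 < p := hp.pos
      nlinarith
    exact h3
  obtain ⟨X, Y, hB, hdisj, hcX, hcY, εX, ε, hX, hε, hYdeg, hYagree, hrel⟩ :=
    Cfsg.Agent.S4441.result p M hM (by omega) P hP 2 he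
  have hone : ∀ g : G, ((oneIrr G : IrrCharacter G) : G → ℂ) g = 1 := fun g => rfl
  have hdeg1 : charDegree ((oneIrr G : IrrCharacter G) : G → ℂ) = 1 := by
    show ⌊((1 : ℂ)).re⌋₊ = 1
    simp
  have h1B : oneIrr G ∈ X ∪ Y := by
    rw [← hB]
    exact Cfsg.Agent.Lib.Helper30_KleinBlock.oneIrr_mem hM
  have hp5' : (5 : ℤ) ≤ (p : ℤ) := by exact_mod_cast hp5
  -- the principal character lies in `X`
  have h1X : oneIrr G ∈ X := by
    rcases h1B with h | h
    · exact h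
    · exfalso
      have h2 := hYdeg _ h
      rw [hdeg1] at h2
      have h3 := (Int.modEq_iff_dvd.mp h2)
      rcases hε with rfl | rfl
      · have h4 : (p : ℤ) ∣ 1 := by
          have : ((1 : ℤ) * ((2 : ℕ) : ℤ) - ((1 : ℕ) : ℤ)) = 1 := by norm_num
          rwa [this] at h3
        have := Int.le_of_dvd (by norm_num) h4
        omega
      · have h4 : (p : ℤ) ∣ 3 := by
          have : ((-1 : ℤ) * ((2 : ℕ) : ℤ) - ((1 : ℕ) : ℤ)) = -3 := by norm_num
          rw [this] at h3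
          exact (dvd_neg.mp h3)
        have := Int.le_of_dvd (by norm_num) h4
        omega
  have hε1 : εX (oneIrr G) = 1 := by
    obtain ⟨h2, h3, -⟩ := hX _ h1X
    rw [hdeg1] at h3
    rcases h2 with h2 | h2
    · exact h2
    · exfalso
      rw [h2] at h3
      have h4 := (Int.modEq_iff_dvd.mp h3)
      have h5 : (p : ℤ) ∣ 2 := by
        have : ((-1 : ℤ) - ((1 : ℕ) : ℤ)) = -2 := by norm_num
        rw [this] at h4
        exact (dvd_neg.mp h4)
      have := Int.le_of_dvd (by norm_num) h5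
      omega
  -- the second member of `X`
  obtain ⟨y, hy, hyu⟩ := (Nat.card_eq_two_iff' (⟨oneIrr G, h1X⟩ : X)).mp hcX
  obtain ⟨χ, hχdef⟩ : ∃ χ : IrrCharacter G, χ = y.1 := ⟨_, rfl⟩
  have hχX : χ ∈ X := by rw [hχdef]; exact y.2
  have hχne : χ ≠ oneIrr G := by
    intro h
    apply hy
    apply Subtype.ext
    rw [← hχdef]; exact h
  have hXeq : X = {oneIrr G, χ} := by
    ext ψ
    constructor
    · intro hψ
      by_cases h : ψ = oneIrr G
      · left; exact h
      · right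
        have := hyu ⟨ψ, hψ⟩ (fun h' => h (congrArg Subtype.val h'))
        rw [Set.mem_singleton_iff, hχdef]
        exact congrArg Subtype.val this
    · rintro (h | h)
      · rw [h]; exact h1X
      · rw [Set.mem_singleton_iff] at h
        rw [h]; exact hχX
  -- a member of `Y`
  have hYne : Nonempty Y := by
    have : 0 < Nat.card Y := by
      rw [hcY]
      apply Nat.div_pos <;> omega
    exact (Nat.card_pos_iff.mp this).1
  obtain ⟨⟨θ, hθ⟩⟩ := hYne
  have hreg1 : ¬ p ∣ orderOf (1 : G) := by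
    rw [orderOf_one]
    intro h
    have := Nat.le_of_dvd (by norm_num) h
    omega
  have hrel1 := hrel θ hθ 1 hreg1
  rw [hXeq, finsum_mem_pair hχne.symm, hε1] at hrel1
  obtain ⟨hεχ, hχdeg, hχval⟩ := hX χ hχX
  have hθdeg := hYdeg θ hθ
  obtain ⟨η, hηdef⟩ : ∃ η : ℤ, η = εX χ := ⟨_, rfl⟩
  rw [← hηdef] at hεχ hχdeg hχval hrel1
  obtain ⟨d, hd⟩ : ∃ d : ℕ, d = charDegree (χ : G → ℂ) := ⟨_, rfl⟩
  obtain ⟨m, hm⟩ : ∃ m : ℕ, m = charDegree (θ : G → ℂ) := ⟨_, rfl⟩
  have hd1 : (χ : G → ℂ) 1 = (d : ℂ) := by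
    rw [hd]; exact Cfsg.Agent.Lib.Helper77_BlockBasics.apply_one_eq_charDegree χ
  have hm1 : (θ : G → ℂ) 1 = (m : ℂ) := by
    rw [hm]; exact Cfsg.Agent.Lib.Helper77_BlockBasics.apply_one_eq_charDegree θ
  have hdd : d ∣ Nat.card G := by
    rw [hd]; exact Cfsg.Agent.Lib.Helper77_BlockBasics.charDegree_dvd_card χ
  have hmd : m ∣ Nat.card G := by
    rw [hm]; exact Cfsg.Agent.Lib.Helper77_BlockBasics.charDegree_dvd_card θ
  have hd0 : 0 < d := Nat.pos_of_dvd_of_pos hdd Nat.card_pos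
  have hm0 : 0 < m := Nat.pos_of_dvd_of_pos hmd Nat.card_pos
  have hrelZ : ε * (m : ℤ) = 1 + η * (d : ℤ) := by
    rw [hd1, hm1, hone] at hrel1
    have : ((ε * (m : ℤ) : ℤ) : ℂ) = ((1 + η * (d : ℤ) : ℤ) : ℂ) := by
      push_cast
      rw [hrel1]
      ring
    exact_mod_cast this
  -- `d ≥ 2`
  have hd2 : 2 ≤ d := by
    by_contra hlt
    have hd1' : d = 1 := by omega
    apply hχne
    apply Cfsg.Agent.Lib.Helper30_ThreePQ.eq_one_of_linear hperf
    rw [hd1, hd1']
    norm_num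
  -- `ε = η`, `m = d + η`
  have hkey : ε = η ∧ (m : ℤ) = (d : ℤ) + η := by
    have hd2' : (2 : ℤ) ≤ (d : ℤ) := by exact_mod_cast hd2
    have hm0' : (1 : ℤ) ≤ (m : ℤ) := by exact_mod_cast hm0
    rcases hε with hε' | hε' <;> rcases hεχ with hη' | hη'
    · rw [hε', hη'] at hrelZ ⊢
      exact ⟨rfl, by omega⟩
    · exfalso
      rw [hε', hη'] at hrelZ
      omega
    · exfalso
      rw [hε', hη'] at hrelZ
      omega
    · rw [hε', hη'] at hrelZ ⊢
      exact ⟨rfl, by omega⟩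
  obtain ⟨hεη, hmdη⟩ := hkey
  refine ⟨χ, η, hεχ, by rw [← hd]; exact hd2, hχdeg,
    by rw [← hd]; exact hdd, ?_, ?_⟩
  · rw [← hd, ← hmdη, Int.natAbs_natCast]
    exact hmd
  -- the character sum
  intro z hz
  rw [← hd]
  have hregz : ¬ p ∣ orderOf z := by
    rw [hz]
    intro h
    have := Nat.le_of_dvd (by norm_num) h
    omega
  -- order of `x`
  have hxord : orderOf x = p := by
    have h1 : orderOf x ∣ p := by
      have h2 : (⟨x, hx⟩ : (P : Subgroup G)) ^ Nat.card (P : Subgroup G) = 1 := pow_card_eq_one'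
      rw [hP] at h2
      have h3 : x ^ p = 1 := by simpa using congrArg Subtype.val h2
      exact orderOf_dvd_of_pow_eq_one h3
    rcases (Nat.dvd_prime hp).mp h1 with h | h
    · exfalso
      exact hx1 (orderOf_eq_one_iff.mp h)
    · exact h
  -- `p ∥ |G|`
  have hpG : p ^ 1 ∣ Nat.card G := by
    rw [pow_one]
    have := Subgroup.card_subgroup_dvd_card (P : Subgroup G)
    rwa [hP] at this
  have hp2G : ¬ p ^ (1 + 1) ∣ Nat.card G := by
    have h1 := Sylow.card_eq_multiplicity P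
    rw [hP] at h1
    have h2 : (Nat.card G).factorization p = 1 := by
      have h3 : p ^ 1 = p ^ (Nat.card G).factorization p := by rw [pow_one]; exact h1
      exact (Nat.pow_right_injective hp.two_le h3).symm
    intro h
    have h4 := (hp.pow_dvd_iff_le_factorization Nat.card_pos.ne').mp h
    omega
  -- characters outside the principal block vanish at `x`
  have hvan : ∀ ψ : IrrCharacter G, ψ ∉ X ∪ Y → (ψ : G → ℂ) x = 0 := by
    intro ψ hψ
    rw [← hB] at hψ
    have h1 : p ∣ charDegree (ψ : G → ℂ) := by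
      by_contra h
      exact hψ ((Cfsg.Agent.Lib.Helper16_SelfCent.mem_principalBlock_iff hM hP hC ψ).mpr h)
    exact Cfsg.Agent.Lib.Helper74_CharTools.irr_vanish_of_defect_zero ψ p 1 hp hpG hp2G
      (by rw [pow_one]; exact h1) x (by rw [hxord])
  -- values at `x` on `X`
  have hχx : (χ : G → ℂ) x = (η : ℂ) := by
    have := hχval x hx hx1 1 (Subgroup.one_mem _) hreg1
    rwa [mul_one] at this
  -- the expansion of a sum against the column of `x`
  have hexp : ∀ W : IrrCharacter G → ℂ,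
      ∑ᶠ ψ : IrrCharacter G, W ψ * conj ((ψ : G → ℂ) x) =
        W (oneIrr G) + (η : ℂ) * W χ + ∑ᶠ ψ ∈ Y, W ψ * conj ((ψ : G → ℂ) x) := by
    intro W
    rw [← finsum_mem_univ]
    have h1 : ∑ᶠ ψ ∈ (Set.univ : Set (IrrCharacter G)), W ψ * conj ((ψ : G → ℂ) x) =
        ∑ᶠ ψ ∈ X ∪ Y, W ψ * conj ((ψ : G → ℂ) x) := by
      apply finsum_mem_inter_support_eq'
      intro ψ hψ
      constructor
      · intro _
        by_contra h
        apply hψ
        show W ψ * conj ((ψ : G → ℂ) x) = 0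
        rw [hvan ψ h, map_zero, mul_zero]
      · intro _; exact Set.mem_univ _
    rw [h1, finsum_mem_union hdisj (Set.toFinite X) (Set.toFinite Y), hXeq,
      finsum_mem_pair hχne.symm, hone, hχx, map_one, map_intCast]
    ring
  -- the sum over `Y` of the values at `x`
  obtain ⟨SY, hSY⟩ : ∃ SY : ℂ, SY = ∑ᶠ ψ ∈ Y, conj ((ψ : G → ℂ) x) := ⟨_, rfl⟩
  have hYsum : ∀ (W : IrrCharacter G → ℂ) (w : ℂ), (∀ ψ ∈ Y, W ψ = w) →
      ∑ᶠ ψ ∈ Y, W ψ * conj ((ψ : G → ℂ) x) = w * SY := by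
    intro W w hW
    rw [hSY, mul_finsum_mem]
    exact finsum_mem_congr rfl (fun ψ hψ => by rw [hW ψ hψ])
  have hm0c : (m : ℂ) ≠ 0 := by exact_mod_cast hm0.ne'
  have hd0c : (d : ℂ) ≠ 0 := by exact_mod_cast hd0.ne'
  have hmdηc : (m : ℂ) = (d : ℂ) + (η : ℂ) := by exact_mod_cast hmdη
  have hSYval : SY = -(η : ℂ) := by
    have hnc : ¬ IsConj (1 : G) x := by
      intro h
      exact hx1 (isConj_one_right.mp h)
    have h1 := (Cfsg.Agent.Lib.Helper80_CharComplete.second_orthogonality (1 : G) x).2 hnc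
    rw [hexp (fun ψ => (ψ : G → ℂ) 1),
      hYsum (fun ψ => (ψ : G → ℂ) 1) (m : ℂ) (fun ψ hψ => by
        show (ψ : G → ℂ) 1 = (m : ℂ)
        rw [hYagree ψ hψ θ hθ 1 hreg1, hm1]), hone, hd1] at h1
    have h2 : (1 : ℂ) + (η : ℂ) * (d : ℂ) = (η : ℂ) * (m : ℂ) := by
      have : ((1 + η * (d : ℤ) : ℤ) : ℂ) = ((ε * (m : ℤ) : ℤ) : ℂ) := by rw [hrelZ]
      rw [hεη] at this
      push_cast at this
      exact this
    have h3 : (m : ℂ) * (SY + (η : ℂ)) = 0 := by
      linear_combination h1 - h2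
    rcases mul_eq_zero.mp h3 with h4 | h4
    · exact absurd h4 hm0c
    · linear_combination h4
  -- the relation at `z`
  have hrelz := hrel θ hθ z hregz
  rw [hXeq, finsum_mem_pair hχne.symm, hε1, ← hηdef, hone, hεη] at hrelz
  -- the value of `invSum`
  have hinv : invSum G z x = 1 + (η : ℂ) * ((χ : G → ℂ) z * (χ : G → ℂ) z / (d : ℂ)) +
      ((θ : G → ℂ) z * (θ : G → ℂ) z / ((d : ℂ) + (η : ℂ))) * (-(η : ℂ)) := by
    have h1 : invSum G z x = ∑ᶠ ψ : IrrCharacter G,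
        ((ψ : G → ℂ) z * (ψ : G → ℂ) z / (ψ : G → ℂ) 1) * conj ((ψ : G → ℂ) x) := by
      unfold invSum
      apply finsum_congr
      intro ψ
      ring
    rw [h1, hexp (fun ψ => (ψ : G → ℂ) z * (ψ : G → ℂ) z / (ψ : G → ℂ) 1),
      hYsum (fun ψ => (ψ : G → ℂ) z * (ψ : G → ℂ) z / (ψ : G → ℂ) 1)
        ((θ : G → ℂ) z * (θ : G → ℂ) z / ((d : ℂ) + (η : ℂ))) (fun ψ hψ => by
        show (ψ : G → ℂ) z * (ψ : G → ℂ) z / (ψ : G → ℂ) 1 = _
        rw [hYagree ψ hψ θ hθ z hregz, hYagree ψ hψ θ hθ 1 hreg1, hm1, hmdηc]),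
      hone, hone, hd1, hSYval]
    ring
  have hηc : (η : ℂ) = 1 ∨ (η : ℂ) = -1 := by
    rcases hεχ with h | h
    · left; rw [h]; norm_num
    · right; rw [h]; norm_num
  have hdηc : (d : ℂ) + (η : ℂ) ≠ 0 := by rw [← hmdηc]; exact hm0c
  have hb : (η : ℂ) * (θ : G → ℂ) z = 1 + (η : ℂ) * (χ : G → ℂ) z := by
    rw [hrelz]; ring
  exact final_algebra (d : ℂ) ((χ : G → ℂ) z) ((θ : G → ℂ) z) (invSum G z x) (η : ℂ) hηc hd0c
    hdηc hb hinv

end Cfsg.Agent.Lib.Helper5_INV_BR2
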