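import Mathlib
import Cfsg.Prelude.Def_Blocks
import Cfsg.Agent.Lib.Helper62_InvCount_Defs
import Cfsg.Agent.Lib.Helper74_CharTools
import Cfsg.Agent.Lib.Helper3_CharEigen
import Cfsg.Agent.Lib.Helper77_BlockBasics
import Cfsg.Agent.Lib.Helper5_INV_CORE
import Cfsg.Agent.Lib.Helper5_INV_BR2

/-!
helper25: INV-E2 (architect helper62): glue of INV-CORE and INV-BR2.
-/

set_option autoImplicit false
open Cfsg Cfsg.Agent.Lib.Helper62_InvCount_Defs
open scoped ComplexConjugate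

namespace Cfsg.Agent.Lib.Helper25_INV_E2

/-- `‖χ(g)‖ ≤ χ(1)` for an irreducible character. -/
theorem norm_irr_le' {G : Type*} [Group G] [Finite G] (χ : IrrCharacter G) (g : G) :
    ‖(χ : G → ℂ) g‖ ≤ (charDegree (χ : G → ℂ) : ℝ) := by
  have : Fintype G := Fintype.ofFinite G
  obtain ⟨n, ρ, _, hρ⟩ := χ.2
  have h1 := Cfsg.Agent.Lib.Helper3_CharEigen.norm_char_le ρ g
  rw [Module.finrank_fin_fun] at h1
  have h2 : (χ : G → ℂ) 1 = n := by
    rw [← hρ, Representation.char_one]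
    simp
  have h3 : charDegree (χ : G → ℂ) = n := by
    have := Cfsg.Agent.Lib.Helper77_BlockBasics.apply_one_eq_charDegree χ
    rw [h2] at this
    exact_mod_cast this.symm
  rw [h3, ← hρ]
  exact h1

/-- INV-E2. -/
theorem E2 {G : Type*} [Group G] [Finite G] {p : ℕ} [Fact p.Prime] (hp5 : 5 ≤ p)
    (P : Sylow p G) (hP : Nat.card P = p)
    (hC : Subgroup.centralizer ((P : Subgroup G) : Set G) = (P : Subgroup G))
    (hN : Nat.card (Subgroup.normalizer ((P : Subgroup G) : Set G)) = 2 * p)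
    (hperf : commutator G = ⊤) :
    ∃ (χ : Cfsg.IrrCharacter G) (η : ℤ) (t : G) (j : ℕ),
      (η = 1 ∨ η = -1) ∧ 2 ≤ Cfsg.charDegree (χ : G → ℂ) ∧
      ((Cfsg.charDegree (χ : G → ℂ) : ℤ) ≡ η [ZMOD p]) ∧
      Cfsg.charDegree (χ : G → ℂ) ∣ Nat.card G ∧
      ((Cfsg.charDegree (χ : G → ℂ) : ℤ) + η).natAbs ∣ Nat.card G ∧
      orderOf t = 2 ∧ j ≤ Cfsg.charDegree (χ : G → ℂ) ∧
      (p : ℤ) * (Nat.card (Subgroup.centralizer ({t} : Set G)) : ℤ) ^ 2 *
          (Cfsg.charDegree (χ : G → ℂ) : ℤ) * ((Cfsg.charDegree (χ : G → ℂ) : ℤ) + η) =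
        (Nat.card G : ℤ) * (4 * (j : ℤ) ^ 2) ∧
      ∀ z : G, orderOf z = 2 → ¬ IsConj t z → (χ : G → ℂ) z = (χ : G → ℂ) 1 := by
  have hp2 : p ≠ 2 := by omega
  -- a nontrivial element of `P`
  have hcard1 : 1 < Nat.card (P : Subgroup G) := by rw [hP]; omega
  have hnt : Nontrivial (P : Subgroup G) := (Finite.one_lt_card_iff_nontrivial).1 hcard1
  obtain ⟨x', hx'⟩ := exists_ne (1 : (P : Subgroup G))
  have hx : (x' : G) ∈ (P : Subgroup G) := x'.2
  have hx1 : (x' : G) ≠ 1 := fun h => hx' (Subtype.ext h)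
  have heven : 2 ∣ Nat.card (Subgroup.normalizer ((P : Subgroup G) : Set G)) := by
    rw [hN]; exact dvd_mul_right 2 p
  obtain ⟨t, ht, -, hcore, hzero⟩ :=
    Cfsg.Agent.Lib.Helper5_INV_CORE.invol_core hp2 P hP hC heven (x' : G) hx hx1
  obtain ⟨χ, η, hη, hd2, hcong, hdvd, hdvd', hbr⟩ :=
    Cfsg.Agent.Lib.Helper5_INV_BR2.brauer_e2 hp5 P hP hC hN hperf (x' : G) hx hx1
  obtain ⟨j, hj⟩ := Cfsg.Agent.Lib.Helper74_CharTools.involution_parity χ t ht
  set d := Cfsg.charDegree (χ : G → ℂ) with hd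
  have hjd : j ≤ d := by
    have h1 := norm_irr_le' χ t
    rw [hj] at h1
    have h2 : ((d : ℂ) - 2 * (j : ℂ)) = (((d : ℝ) - 2 * (j : ℝ) : ℝ) : ℂ) := by
      push_cast; ring
    rw [h2, Complex.norm_real, Real.norm_eq_abs] at h1
    have h3 := (abs_le.1 h1).1
    have h4 : (j : ℝ) ≤ (d : ℝ) := by linarith
    exact_mod_cast h4
  refine ⟨χ, η, t, j, hη, hd2, hcong, hdvd, hdvd', ht, hjd, ?_, ?_⟩
  · have h1 := hbr t ht
    rw [hj] at h1
    have h2 : (p : ℂ) * (Nat.card (Subgroup.centralizer ({t} : Set G)) : ℂ) ^ 2 *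
        (d : ℂ) * ((d : ℂ) + (η : ℂ)) = (Nat.card G : ℂ) * (4 * (j : ℂ) ^ 2) := by
      calc (p : ℂ) * (Nat.card (Subgroup.centralizer ({t} : Set G)) : ℂ) ^ 2 *
          (d : ℂ) * ((d : ℂ) + (η : ℂ))
          = ((p : ℂ) * (Nat.card (Subgroup.centralizer ({t} : Set G)) : ℂ) ^ 2) *
            ((d : ℂ) * ((d : ℂ) + (η : ℂ))) := by ring
        _ = (Nat.card G : ℂ) * (invSum G t (x' : G) * ((d : ℂ) * ((d : ℂ) + (η : ℂ)))) := by
            rw [hcore]; ring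
        _ = (Nat.card G : ℂ) * (((d : ℂ) - ((d : ℂ) - 2 * (j : ℂ))) ^ 2) := by rw [h1]
        _ = (Nat.card G : ℂ) * (4 * (j : ℂ) ^ 2) := by ring
    exact_mod_cast h2
  · intro z hz hnc
    have h1 := hbr z hz
    rw [hzero z hz hnc, zero_mul] at h1
    have h2 : (d : ℂ) - (χ : G → ℂ) z = 0 := by
      have := pow_eq_zero_iff (n := 2) (by norm_num) |>.1 h1.symm
      exact this
    rw [Cfsg.Agent.Lib.Helper77_BlockBasics.apply_one_eq_charDegree χ]
    have h3 : (χ : G → ℂ) z = (d : ℂ) := by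
      linear_combination -h2
    exact h3

end Cfsg.Agent.Lib.Helper25_INV_E2
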