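import Mathlib

/-!
# Helper20_F5040_SYLFIX: package F5040-SYLFIX (architect helper62, S0978)

Fixed points of an element on the set of Sylow `p`-subgroups:
* `card_fixed_sylow_modEq_one`: `c ∈ C_G(P)` ⇒ `#{Q : c ∈ N_G(Q)} ≡ 1 (mod p)`;
* `card_sylow_modEq_card_fixed`: `c` of prime order `r` ⇒ `n_p ≡ #{Q : c ∈ N_G(Q)} (mod r)`;
* `eq_one_of_forall_mem_normalizer`: `G` simple, `n_p > 1`, `c ∈ N_G(Q)` for all `Q` ⇒ `c = 1`.
-/

set_option autoImplicit false

namespace Cfsg.Agent.Lib.Helper20_F5040_SYLFIX

open MulAction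

/-- the set of Sylow subgroups normalised by `c`, as a sub-action of a subgroup centralising `c` -/
def fixSub {G : Type*} [Group G] {p : ℕ} (H : Subgroup G) (c : G)
    (hc : ∀ x ∈ H, x * c = c * x) : SubMulAction ↥H (Sylow p G) where
  carrier := {Q | c ∈ Subgroup.normalizer ((Q : Subgroup G) : Set G)}
  smul_mem' := by
    intro x Q hQ
    have hQ' : c • Q = Q := Sylow.smul_eq_iff_mem_normalizer.2 hQ
    show c ∈ Subgroup.normalizer (((x • Q : Sylow p G) : Subgroup G) : Set G)
    apply Sylow.smul_eq_iff_mem_normalizer.1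
    show c • ((x : G) • Q) = (x : G) • Q
    rw [← mul_smul, ← hc x x.2, mul_smul, hQ']

theorem card_fixed_sylow_modEq_one {G : Type*} [Group G] [Finite G] {p : ℕ} [Fact p.Prime]
    (P : Sylow p G) (c : G) (hc : c ∈ Subgroup.centralizer ((P : Subgroup G) : Set G)) :
    Nat.card {Q : Sylow p G // c ∈ Subgroup.normalizer ((Q : Subgroup G) : Set G)} ≡ 1 [MOD p] := by
  have hcomm : ∀ x ∈ (P : Subgroup G), x * c = c * x := by
    intro x hx
    exact hc x hx
  let S := fixSub (p := p) (P : Subgroup G) c hcomm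
  have hcard : Nat.card {Q : Sylow p G // c ∈ Subgroup.normalizer ((Q : Subgroup G) : Set G)} =
      Nat.card ↥S := rfl
  rw [hcard]
  have h1 := (P.isPGroup').card_modEq_card_fixedPoints (α := ↥S)
  have hPmem : P ∈ S := by
    show c ∈ Subgroup.normalizer ((P : Subgroup G) : Set G)
    exact Subgroup.centralizer_le_normalizer _ hc
  have h2 : Nat.card (fixedPoints ↥(P : Subgroup G) ↥S) = 1 := by
    rw [Nat.card_eq_one_iff_unique]
    constructor
    · constructor
      rintro ⟨Q, hQ⟩ ⟨Q', hQ'⟩
      have key : ∀ (R : ↥S), R ∈ fixedPoints ↥(P : Subgroup G) ↥S → (R : Sylow p G) = P := by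
        intro R hR
        have hR' : (R : Sylow p G) ∈ fixedPoints ↥(P : Subgroup G) (Sylow p G) := by
          intro x
          have := congrArg Subtype.val (hR x)
          exact this
        have hle := (P.isPGroup').sylow_mem_fixedPoints_iff.1 hR'
        exact Sylow.ext (P.is_maximal' (R : Sylow p G).isPGroup' hle)
      apply Subtype.ext
      apply Subtype.ext
      rw [key Q hQ, key Q' hQ']
    · refine ⟨⟨⟨P, hPmem⟩, ?_⟩⟩
      intro x
      apply Subtype.ext
      show (x : G) • P = P
      exact Sylow.smul_eq_iff_mem_normalizer.2 (Subgroup.le_normalizer x.2)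
  rw [h2] at h1
  exact h1

theorem card_sylow_modEq_card_fixed {G : Type*} [Group G] [Finite G] {p : ℕ} [Fact p.Prime]
    (c : G) (r : ℕ) (hr : r.Prime) (hc : orderOf c = r) :
    Nat.card (Sylow p G) ≡
      Nat.card {Q : Sylow p G // c ∈ Subgroup.normalizer ((Q : Subgroup G) : Set G)} [MOD r] := by
  haveI : Fact r.Prime := ⟨hr⟩
  have hpg : IsPGroup r ↥(Subgroup.zpowers c) := by
    apply IsPGroup.of_card (n := 1)
    rw [Nat.card_zpowers, hc, pow_one]
  have h1 := hpg.card_modEq_card_fixedPoints (α := Sylow p G)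
  have h2 : Nat.card (fixedPoints ↥(Subgroup.zpowers c) (Sylow p G)) =
      Nat.card {Q : Sylow p G // c ∈ Subgroup.normalizer ((Q : Subgroup G) : Set G)} := by
    apply Nat.card_congr
    apply Equiv.subtypeEquivRight
    intro Q
    constructor
    · intro hQ
      have := hQ ⟨c, Subgroup.mem_zpowers c⟩
      exact Sylow.smul_eq_iff_mem_normalizer.1 this
    · intro hQ x
      show (x : G) • Q = Q
      apply Sylow.smul_eq_iff_mem_normalizer.2
      have hle : Subgroup.zpowers c ≤ Subgroup.normalizer ((Q : Subgroup G) : Set G) := by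
        rw [Subgroup.zpowers_le]
        exact hQ
      exact hle x.2
  rw [h2] at h1
  exact h1

theorem eq_one_of_forall_mem_normalizer {G : Type*} [Group G] [Finite G] [IsSimpleGroup G]
    {p : ℕ} [Fact p.Prime] (h1 : 1 < Nat.card (Sylow p G)) (c : G)
    (hc : ∀ Q : Sylow p G, c ∈ Subgroup.normalizer ((Q : Subgroup G) : Set G)) : c = 1 := by
  set K : Subgroup G := (MulAction.toPermHom G (Sylow p G)).ker with hK
  have hcK : c ∈ K := by
    rw [hK, MonoidHom.mem_ker]
    apply Equiv.ext
    intro Q
    show c • Q = Q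
    exact Sylow.smul_eq_iff_mem_normalizer.2 (hc Q)
  rcases (MonoidHom.normal_ker (MulAction.toPermHom G (Sylow p G))).eq_bot_or_eq_top with h | h
  · rw [← hK] at h
    rw [h, Subgroup.mem_bot] at hcK
    exact hcK
  · exfalso
    rw [← hK] at h
    have hall : ∀ (g : G) (Q : Sylow p G), g • Q = Q := by
      intro g Q
      have hg : g ∈ K := by rw [h]; exact Subgroup.mem_top g
      rw [hK, MonoidHom.mem_ker] at hg
      have := congrArg (fun σ : Equiv.Perm (Sylow p G) => σ Q) hg
      exact this
    have hsub : Subsingleton (Sylow p G) := by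
      constructor
      intro Q Q'
      obtain ⟨g, hg⟩ := MulAction.exists_smul_eq G Q Q'
      rw [← hg, hall]
    have := Finite.card_le_one_iff_subsingleton.2 hsub
    omega

end Cfsg.Agent.Lib.Helper20_F5040_SYLFIX
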