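import Mathlib
import Cfsg.Agent.Lib.Helper17_Sylow
import Cfsg.Agent.Lib.Helper20_F5040_SYLFIX

/-!
# Helper20_F5040_CASE8: package F5040-CASE8 (architect helper62, S0978)

A simple group of order 5040 has no Sylow 7-normaliser of order 630.
-/

set_option autoImplicit false

namespace Cfsg.Agent.Lib.Helper20_F5040_CASE8

open Cfsg.Agent.Lib.Helper17_Sylow Cfsg.Agent.Lib.Helper20_F5040_SYLFIX

/-- an element of prime order `r` in `C_G(P)`, `|P| = 7`, when `6 r` divides `|N_G(P)|` -/
theorem exists_central_prime {G : Type*} [Group G] [Finite G] [Fact (Nat.Prime 7)]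
    (P : Sylow 7 G) (hP : Nat.card P = 7) (r : ℕ) (hr : r.Prime)
    (hdvd : r * 6 ∣ Nat.card (Subgroup.normalizer ((P : Subgroup G) : Set G))) :
    ∃ c : G, c ∈ Subgroup.centralizer ((P : Subgroup G) : Set G) ∧ orderOf c = r := by
  have h1 := relIndex_centralizer_normalizer_dvd_pred (p := 7) (P : Subgroup G) hP
  have h2 := card_mul_relIndex_of_le
    (Subgroup.centralizer_le_normalizer ((P : Subgroup G) : Set G))
  set e := (Subgroup.centralizer ((P : Subgroup G) : Set G)).relIndex
    (Subgroup.normalizer ((P : Subgroup G) : Set G)) with he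
  obtain ⟨e', he'⟩ := h1
  have he0 : 0 < e := by
    rcases Nat.eq_zero_or_pos e with h | h
    · rw [h] at he'; omega
    · exact h
  rw [← h2] at hdvd
  have h3 : r * e' * e ∣ Nat.card (Subgroup.centralizer ((P : Subgroup G) : Set G)) * e := by
    have : r * e' * e = r * 6 := by
      have : (6 : ℕ) = e * e' := by omega
      rw [this]; ring
    rw [this]
    exact hdvd
  have h4 := Nat.dvd_of_mul_dvd_mul_right he0 h3
  have h5 : r ∣ Nat.card (Subgroup.centralizer ((P : Subgroup G) : Set G)) :=
    (Dvd.intro _ rfl).trans h4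
  haveI : Fact r.Prime := ⟨hr⟩
  obtain ⟨c, hc⟩ := exists_prime_orderOf_dvd_card' r h5
  exact ⟨(c : G), c.2, by rw [Subgroup.orderOf_coe]; exact hc⟩

theorem not_comm_5040 {G : Type*} [Group G] [Finite G] [IsSimpleGroup G]
    (hG : Nat.card G = 5040) : ¬ ∀ a b : G, a * b = b * a := by
  intro h
  apply not_isMulCommutative_of_not_prime (G := G) (by rw [hG]; norm_num)
  exact ⟨⟨h⟩⟩

theorem case_8 {G : Type*} [Group G] [Finite G] [IsSimpleGroup G] [Fact (Nat.Prime 7)]
    (hG : Nat.card G = 5040) (P : Sylow 7 G) (hP : Nat.card P = 7)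
    (hN : Nat.card (Subgroup.normalizer ((P : Subgroup G) : Set G)) = 630) : False := by
  have hn := card_normalizer_mul_card_sylow P
  rw [hN, hG] at hn
  have hn8 : Nat.card (Sylow 7 G) = 8 := by omega
  obtain ⟨c, hcC, hc5⟩ := exists_central_prime P hP 5 (by norm_num) (by rw [hN]; norm_num)
  have h1 := card_fixed_sylow_modEq_one P c hcC
  have h2 := card_sylow_modEq_card_fixed (p := 7) c 5 (by norm_num) hc5
  have h3 := Finite.card_subtype_le
    (fun Q : Sylow 7 G => c ∈ Subgroup.normalizer ((Q : Subgroup G) : Set G))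
  rw [hn8] at h2 h3
  have h4 : Nat.card {Q : Sylow 7 G // c ∈ Subgroup.normalizer ((Q : Subgroup G) : Set G)} = 8 := by
    unfold Nat.ModEq at h1 h2
    omega
  have hall : ∀ Q : Sylow 7 G, c ∈ Subgroup.normalizer ((Q : Subgroup G) : Set G) := by
    intro Q
    by_contra hQ
    have := Finite.card_subtype_lt (p := fun Q : Sylow 7 G =>
      c ∈ Subgroup.normalizer ((Q : Subgroup G) : Set G)) hQ
    rw [hn8, h4] at this
    exact lt_irrefl _ this
  have hc1 := eq_one_of_forall_mem_normalizer (p := 7) (by rw [hn8]; norm_num) c hall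
  rw [hc1, orderOf_one] at hc5
  norm_num at hc5

end Cfsg.Agent.Lib.Helper20_F5040_CASE8
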