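import Mathlib

/-!
# Helper20_F5040_PERMPAR: package F5040-PERMPAR (architect helper62, S0978)

In a non-abelian simple group an involution induces an even permutation of the Sylow
`p`-subgroups, so `4 ∣ n_p - #{Q : u ∈ N_G(Q)}`.
-/

set_option autoImplicit false

namespace Cfsg.Agent.Lib.Helper20_F5040_PERMPAR

/-- a homomorphism from a non-abelian simple group to a commutative group is trivial -/
theorem hom_comm_trivial {G A : Type*} [Group G] [IsSimpleGroup G] [CommGroup A]
    (hna : ¬ ∀ a b : G, a * b = b * a) (φ : G →* A) (g : G) : φ g = 1 := by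
  rcases (MonoidHom.normal_ker φ).eq_bot_or_eq_top with h | h
  · exfalso
    apply hna
    intro a b
    have hinj : Function.Injective φ := (MonoidHom.ker_eq_bot_iff φ).1 h
    apply hinj
    rw [map_mul, map_mul, mul_comm]
  · have : g ∈ φ.ker := by rw [h]; exact Subgroup.mem_top g
    exact MonoidHom.mem_ker.1 this

/-- an even involution moves a multiple of four points -/
theorem four_dvd_sum_cycleType {α : Type*} [Fintype α] [DecidableEq α] (σ : Equiv.Perm α)
    (h2 : σ ^ 2 = 1) (hs : Equiv.Perm.sign σ = 1) : 4 ∣ σ.cycleType.sum := by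
  have hrep : σ.cycleType = Multiset.replicate (Multiset.card σ.cycleType) 2 := by
    rw [Multiset.eq_replicate]
    refine ⟨rfl, ?_⟩
    intro b hb
    have h1 : b ∣ 2 := (Equiv.Perm.dvd_of_mem_cycleType hb).trans (orderOf_dvd_of_pow_eq_one h2)
    have h3 : 2 ≤ b := Equiv.Perm.two_le_of_mem_cycleType hb
    have h4 : b ≤ 2 := Nat.le_of_dvd (by norm_num) h1
    omega
  set m := Multiset.card σ.cycleType with hm
  have hsum : σ.cycleType.sum = 2 * m := by
    rw [hrep, Multiset.sum_replicate, smul_eq_mul, mul_comm]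
  rw [Equiv.Perm.sign_of_cycleType, hsum, ← hm] at hs
  have heven : Even (2 * m + m) := by
    by_contra hodd
    rw [Nat.not_even_iff_odd] at hodd
    rw [hodd.neg_one_pow] at hs
    exact absurd hs (by decide)
  have hm2 : Even m := by
    rcases heven with ⟨k, hk⟩
    exact ⟨k - m, by omega⟩
  rcases hm2 with ⟨k, hk⟩
  rw [hsum]
  exact ⟨k, by omega⟩

theorem four_dvd_card_sub_fixed {G : Type*} [Group G] [Finite G] [IsSimpleGroup G]
    (hna : ¬ ∀ a b : G, a * b = b * a) {p : ℕ} [Fact p.Prime] (u : G) (hu : orderOf u = 2) :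
    4 ∣ Nat.card (Sylow p G) -
      Nat.card {Q : Sylow p G // u ∈ Subgroup.normalizer ((Q : Subgroup G) : Set G)} := by
  classical
  haveI : Fintype (Sylow p G) := Fintype.ofFinite _
  set σ : Equiv.Perm (Sylow p G) := MulAction.toPermHom G (Sylow p G) u with hσ
  have h2 : σ ^ 2 = 1 := by
    rw [hσ, ← map_pow, ← hu, pow_orderOf_eq_one, map_one]
  have hs : Equiv.Perm.sign σ = 1 :=
    hom_comm_trivial hna (Equiv.Perm.sign.comp (MulAction.toPermHom G (Sylow p G))) u
  have h4 := four_dvd_sum_cycleType σ h2 hs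
  have hfix : Nat.card {Q : Sylow p G // u ∈ Subgroup.normalizer ((Q : Subgroup G) : Set G)} =
      Fintype.card (Function.fixedPoints σ) := by
    rw [← Nat.card_eq_fintype_card]
    apply Nat.card_congr
    apply Equiv.subtypeEquivRight
    intro Q
    rw [Function.mem_fixedPoints, Function.IsFixedPt]
    show _ ↔ u • Q = Q
    exact Sylow.smul_eq_iff_mem_normalizer.symm
  rw [hfix, Equiv.Perm.card_fixedPoints, Nat.card_eq_fintype_card]
  have hle := Equiv.Perm.sum_cycleType_le σ
  have : Fintype.card (Sylow p G) - (Fintype.card (Sylow p G) - σ.cycleType.sum) =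
      σ.cycleType.sum := by omega
  rw [this]
  exact h4

end Cfsg.Agent.Lib.Helper20_F5040_PERMPAR
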