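import Mathlib
import Cfsg.Agent.Lib.Helper17_Sylow
import Cfsg.Agent.Lib.Helper20_F5040_SYLFIX
import Cfsg.Agent.Lib.Helper20_F5040_PERMPAR
import Cfsg.Agent.Lib.Helper20_F5040_CASE8

/-!
# Helper20_F5040_CASE15: package F5040-CASE15 (architect helper62, S0978)

A simple group of order 5040 has no Sylow 7-normaliser of order 336.
-/

set_option autoImplicit false

namespace Cfsg.Agent.Lib.Helper20_F5040_CASE15

open Cfsg.Agent.Lib.Helper17_Sylow Cfsg.Agent.Lib.Helper20_F5040_SYLFIX
  Cfsg.Agent.Lib.Helper20_F5040_PERMPAR Cfsg.Agent.Lib.Helper20_F5040_CASE8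

theorem case_15 {G : Type*} [Group G] [Finite G] [IsSimpleGroup G] [Fact (Nat.Prime 7)]
    (hG : Nat.card G = 5040) (P : Sylow 7 G) (hP : Nat.card P = 7)
    (hN : Nat.card (Subgroup.normalizer ((P : Subgroup G) : Set G)) = 336) : False := by
  have hn := card_normalizer_mul_card_sylow P
  rw [hN, hG] at hn
  have hn15 : Nat.card (Sylow 7 G) = 15 := by omega
  obtain ⟨u, huC, hu2⟩ := exists_central_prime P hP 2 (by norm_num) (by rw [hN]; norm_num)
  have h1 := card_fixed_sylow_modEq_one P u huC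
  have h2 := card_sylow_modEq_card_fixed (p := 7) u 2 (by norm_num) hu2
  have h3 := Finite.card_subtype_le
    (fun Q : Sylow 7 G => u ∈ Subgroup.normalizer ((Q : Subgroup G) : Set G))
  have h5 := four_dvd_card_sub_fixed (not_comm_5040 hG) (p := 7) u hu2
  rw [hn15] at h2 h3 h5
  have h4 : Nat.card {Q : Sylow 7 G // u ∈ Subgroup.normalizer ((Q : Subgroup G) : Set G)} = 15 := by
    unfold Nat.ModEq at h1 h2
    omega
  have hall : ∀ Q : Sylow 7 G, u ∈ Subgroup.normalizer ((Q : Subgroup G) : Set G) := by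
    intro Q
    by_contra hQ
    have := Finite.card_subtype_lt (p := fun Q : Sylow 7 G =>
      u ∈ Subgroup.normalizer ((Q : Subgroup G) : Set G)) hQ
    rw [hn15, h4] at this
    exact lt_irrefl _ this
  have hu1 := eq_one_of_forall_mem_normalizer (p := 7) (by rw [hn15]; norm_num) u hall
  rw [hu1, orderOf_one] at hu2
  norm_num at hu2

end Cfsg.Agent.Lib.Helper20_F5040_CASE15
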