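import Mathlib
import Cfsg.Prelude.Def_Blocks
import Cfsg.Agent.Lib.Helper62_InvCount_Defs
import Cfsg.Agent.Lib.Helper5_INV_CORE
import Cfsg.Agent.Lib.Helper5_INV_BR2
import Cfsg.Agent.Lib.Helper74_CharTools

/-!
# INV-E2: the involution-count equation for `|N_G(P) : P| = 2` (helper62)
-/

set_option autoImplicit false
open Cfsg Cfsg.Agent.Lib.Helper62_InvCount_Defs
open scoped ComplexConjugate

namespace Cfsg.Agent.Lib.Helper62_INV_E2

/-- `‖χ(g)‖ ≤ χ(1)` for an irreducible character. -/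
theorem irr_norm_le' {G : Type*} [Group G] [Finite G] (χ : Cfsg.IrrCharacter G) (g : G) :
    ‖(χ : G → ℂ) g‖ ≤ (Cfsg.charDegree (χ : G → ℂ) : ℝ) := by
  obtain ⟨m, σ, hσ, hσχ⟩ := χ.2
  have h1 : (χ : G → ℂ) 1 = (m : ℂ) := by
    rw [← hσχ, Representation.char_one]; simp
  have h3 : charDegree (χ : G → ℂ) = m := by
    have := Cfsg.Agent.Lib.Helper77_BlockBasics.apply_one_eq_charDegree χ
    rw [h1] at this
    exact_mod_cast this.symm
  rw [h3, ← hσχ]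
  have := Cfsg.Agent.Lib.Helper3_CharEigen.norm_char_le σ g
  simpa using this

theorem E2 {G : Type*} [Group G] [Finite G] {p : ℕ} [Fact p.Prime] (hp5 : 5 ≤ p)
    (P : Sylow p G) (hP : Nat.card P = p)
    (hC : Subgroup.centralizer ((P : Subgroup G) : Set G) = (P : Subgroup G))
    (hN : Nat.card (Subgroup.normalizer ((P : Subgroup G) : Set G)) = 2 * p)
    (hperf : commutator G = ⊤) :
    ∃ (χ : Cfsg.IrrCharacter G) (η : ℤ) (t : G) (j : ℕ),
      (η = 1 ∨ η = -1) ∧ 2 ≤ Cfsg.charDegree (χ : G → ℂ) ∧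
      ((Cfsg.charDegree (χ : G → ℂ) : ℤ) ≡ η [ZMOD p]) ∧
      Cfsg.charDegree (χ : G → ℂ) ∣ Nat.card G ∧
      ((Cfsg.charDegree (χ : G → ℂ) : ℤ) + η).natAbs ∣ Nat.card G ∧
      orderOf t = 2 ∧ j ≤ Cfsg.charDegree (χ : G → ℂ) ∧
      (p : ℤ) * (Nat.card (Subgroup.centralizer ({t} : Set G)) : ℤ) ^ 2 *
          (Cfsg.charDegree (χ : G → ℂ) : ℤ) * ((Cfsg.charDegree (χ : G → ℂ) : ℤ) + η) =
        (Nat.card G : ℤ) * (4 * (j : ℤ) ^ 2) ∧
      ∀ z : G, orderOf z = 2 → ¬ IsConj t z → (χ : G → ℂ) z = (χ : G → ℂ) 1 := by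
  have hpp : p.Prime := Fact.out
  -- a nontrivial element of `P`
  have hPnt : Nontrivial (P : Subgroup G) := by
    have : 1 < Nat.card (P : Subgroup G) := by
      have : Nat.card (P : Subgroup G) = p := hP
      omega
    exact Finite.one_lt_card_iff_nontrivial.mp this
  obtain ⟨⟨x, hx⟩, hx1'⟩ := exists_ne (1 : (P : Subgroup G))
  have hx1 : x ≠ 1 := by
    intro h
    apply hx1'
    exact Subtype.ext h
  obtain ⟨t, ht2, -, hcnt, hzero⟩ :=
    Cfsg.Agent.Lib.Helper5_INV_CORE.invol_core (by omega) P hP hC (by rw [hN]; exact dvd_mul_right 2 p)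
      x hx hx1
  obtain ⟨χ, η, hη, hd2, hcong, hdvd, hdvd', hinv⟩ :=
    Cfsg.Agent.Lib.Helper5_INV_BR2.brauer_e2 hp5 P hP hC hN hperf x hx hx1
  obtain ⟨j, hj⟩ := Cfsg.Agent.Lib.Helper74_CharTools.involution_parity χ t ht2
  set d := Cfsg.charDegree (χ : G → ℂ) with hd
  -- `j ≤ d`
  have hjd : j ≤ d := by
    have hn := irr_norm_le' χ t
    rw [hj] at hn
    have h2 : ((d : ℂ) - 2 * (j : ℂ)) = (((d : ℝ) - 2 * (j : ℝ) : ℝ) : ℂ) := by
      push_cast; ring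
    rw [h2, Complex.norm_real, Real.norm_eq_abs] at hn
    have h3 := neg_abs_le ((d : ℝ) - 2 * (j : ℝ))
    have h4 : (j : ℝ) ≤ (d : ℝ) := by linarith
    exact_mod_cast h4
  refine ⟨χ, η, t, j, hη, hd2, hcong, hdvd, hdvd', ht2, hjd, ?_, ?_⟩
  · have h1 := hinv t ht2
    rw [hj] at h1
    have h2 : ((p : ℂ) * (Nat.card (Subgroup.centralizer ({t} : Set G)) : ℂ) ^ 2) *
        ((d : ℂ) * ((d : ℂ) + (η : ℂ))) = (Nat.card G : ℂ) * (4 * (j : ℂ) ^ 2) := by
      rw [hcnt, mul_assoc, h1]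
      ring
    have h3 : (((p : ℤ) * (Nat.card (Subgroup.centralizer ({t} : Set G)) : ℤ) ^ 2 *
          (d : ℤ) * ((d : ℤ) + η) : ℤ) : ℂ) =
        (((Nat.card G : ℤ) * (4 * (j : ℤ) ^ 2) : ℤ) : ℂ) := by
      push_cast
      rw [← h2]
      ring
    exact_mod_cast h3
  · intro z hz hnc
    have h0 := hzero z hz hnc
    have h1 := hinv z hz
    rw [h0, zero_mul] at h1
    have h2 : (d : ℂ) - (χ : G → ℂ) z = 0 := by
      have := h1.symm
      exact pow_eq_zero_iff (two_ne_zero) |>.mp this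
    rw [Cfsg.Agent.Lib.Helper77_BlockBasics.apply_one_eq_charDegree χ]
    linear_combination -h2

end Cfsg.Agent.Lib.Helper62_INV_E2
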