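import Mathlib
import Cfsg.Prelude.Def_Blocks
import Cfsg.Agent.Lib.Helper80_CharBasic
import Cfsg.Agent.Lib.Helper62_InvCount_Defs
import Cfsg.Agent.Lib.Helper62_INV_E2
import Cfsg.Agent.Lib.Helper74_CharTools
import Cfsg.Agent.Lib.Helper77_BlockBasics
import Cfsg.Agent.Lib.Helper16_F5040_BRX7
import Cfsg.Agent.Lib.Helper10_F5040_INVVAL

/-!
# S0978, package F5040-CASE120A (for helper62)

`G` simple of order `5040`, `P ∈ Syl_7(G)`, `|N_G(P)| = 42`, `|C_G(P)| = 14` is impossible: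
Brauer (`brauer_X7`, `e = 3`) + the involution `u ∈ C_G(P)` (`invol_value`, defect zero, `|χ(u)| ≤ χ(1)`)
force `θ(1) = 4` and `θ(u) = 4`, so `u ∈ ker θ`.
-/

set_option autoImplicit false
open Cfsg Cfsg.Agent.Lib.Helper80_CharBasic Cfsg.Agent.Lib.Helper62_InvCount_Defs

namespace Cfsg.Agent.Lib.Helper24_F5040_CASE120A

/-- the possible (degree, sign, value at `u`) of a nontrivial member of `X` -/
theorem triple_cases (d : ℕ) (δ a : ℤ) (m : ℕ) (hm : 1 ≤ m)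
    (hdeg : ((d = 8 ∨ d = 15 ∨ d = 36) ∧ δ = 1) ∨ ((d = 6 ∨ d = 20 ∨ d = 48) ∧ δ = -1))
    (ha : a = (d : ℤ) - 4 * 7 * (m : ℤ)) (hbound : |a| ≤ (d : ℤ)) (h48 : d = 48 → a = 0) :
    (d = 15 ∧ δ = 1 ∧ a = -13) ∨ (d = 20 ∧ δ = -1 ∧ a = -8) ∨
      (d = 36 ∧ δ = 1 ∧ (a = 8 ∨ a = -20)) := by
  rw [abs_le] at hbound
  obtain ⟨hb1, hb2⟩ := hbound
  rcases hdeg with ⟨h | h | h, hδ⟩ | ⟨h | h | h, hδ⟩
  · subst h; omega
  · subst h; left; refine ⟨rfl, hδ, ?_⟩; omega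
  · subst h; right; right; refine ⟨rfl, hδ, ?_⟩; omega
  · subst h; omega
  · subst h; right; left; refine ⟨rfl, hδ, ?_⟩; omega
  · have := h48 h; subst h; omega

/-- the arithmetic of the degree equation -/
theorem degree_arith (D : ℕ) (ε : ℤ) (hε : ε = 1 ∨ ε = -1) (hD : D ∣ 5040)
    (d₂ d₃ : ℕ) (δ₂ δ₃ a₂ a₃ : ℤ)
    (h₂ : (d₂ = 15 ∧ δ₂ = 1 ∧ a₂ = -13) ∨ (d₂ = 20 ∧ δ₂ = -1 ∧ a₂ = -8) ∨
      (d₂ = 36 ∧ δ₂ = 1 ∧ (a₂ = 8 ∨ a₂ = -20)))
    (h₃ : (d₃ = 15 ∧ δ₃ = 1 ∧ a₃ = -13) ∨ (d₃ = 20 ∧ δ₃ = -1 ∧ a₃ = -8) ∨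
      (d₃ = 36 ∧ δ₃ = 1 ∧ (a₃ = 8 ∨ a₃ = -20)))
    (hsum : ε * (D : ℤ) = 1 + δ₂ * (d₂ : ℤ) + δ₃ * (d₃ : ℤ)) :
    ε = -1 ∧ D = 4 ∧ 1 + δ₂ * a₂ + δ₃ * a₃ = -4 := by
  have hDle : D ≤ 5040 := Nat.le_of_dvd (by norm_num) hD
  have key : ∀ n : ℕ, n ∣ 5040 → n ≠ 31 ∧ n ≠ 52 ∧ n ≠ 39 ∧ n ≠ 17 ∧ n ≠ 73 := by
    intro n hn
    refine ⟨?_, ?_, ?_, ?_, ?_⟩ <;> (rintro rfl; revert hn; decide)
  obtain ⟨k1, k2, k3, k4, k5⟩ := key D hD
  rcases h₂ with ⟨rfl, rfl, rfl⟩ | ⟨rfl, rfl, rfl⟩ | ⟨rfl, rfl, h2a⟩ <;>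
  rcases h₃ with ⟨rfl, rfl, rfl⟩ | ⟨rfl, rfl, rfl⟩ | ⟨rfl, rfl, h3a⟩ <;>
  rcases hε with rfl | rfl <;> (try omega)

set_option maxHeartbeats 1000000 in
/-- **F5040-CASE120A** -/
theorem case_120_14 {G : Type*} [Group G] [Finite G] [IsSimpleGroup G] [Fact (Nat.Prime 7)]
    (hG : Nat.card G = 5040) (P : Sylow 7 G) (hP : Nat.card P = 7)
    (hN : Nat.card (Subgroup.normalizer ((P : Subgroup G) : Set G)) = 42)
    (hC : Nat.card (Subgroup.centralizer ((P : Subgroup G) : Set G)) = 14) : False := by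
  classical
  have h2f : Fact (Nat.Prime 2) := ⟨Nat.prime_two⟩
  -- `G` is not abelian
  have hna : ¬ ∀ a b : G, a * b = b * a := by
    intro hab
    have htop : Subgroup.normalizer ((P : Subgroup G) : Set G) = ⊤ := by
      rw [eq_top_iff]
      intro g _
      rw [Subgroup.mem_normalizer_iff]
      intro h
      have : g * h * g⁻¹ = h := by rw [hab g h]; group
      rw [this]
    rw [htop, Subgroup.card_top, hG] at hN
    omega
  -- `e = 3`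
  have hCN : Subgroup.centralizer ((P : Subgroup G) : Set G) ≤
      Subgroup.normalizer ((P : Subgroup G) : Set G) := Subgroup.centralizer_le_normalizer _
  have he : (Subgroup.centralizer ((P : Subgroup G) : Set G)).relIndex
      (Subgroup.normalizer ((P : Subgroup G) : Set G)) = 3 := by
    have h1 := Subgroup.card_mul_index ((Subgroup.centralizer ((P : Subgroup G) : Set G)).subgroupOf
      (Subgroup.normalizer ((P : Subgroup G) : Set G)))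
    have h2 : Nat.card ↥((Subgroup.centralizer ((P : Subgroup G) : Set G)).subgroupOf
        (Subgroup.normalizer ((P : Subgroup G) : Set G))) = 14 := by
      rw [← hC]
      exact Nat.card_congr (Subgroup.subgroupOfEquivOfLe hCN).toEquiv
    rw [h2, hN] at h1
    show ((Subgroup.centralizer ((P : Subgroup G) : Set G)).subgroupOf
      (Subgroup.normalizer ((P : Subgroup G) : Set G))).index = 3
    omega
  obtain ⟨X, εX, θ, ε, h1X, hXcard, hε1, hθX, hdeg, hloc, hθdvd, hε, hsum, hrel⟩ :=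
    Cfsg.Agent.Lib.Helper16_F5040_BRX7.brauer_X7 hG P hP 3 he (Or.inr rfl)
  -- `x ∈ P` of order 7, `u ∈ C` of order 2
  obtain ⟨x, hx⟩ := exists_prime_orderOf_dvd_card' (G := ↥(P : Subgroup G)) 7 (by rw [hP])
  have hx7 : orderOf (x : G) = 7 := by rw [Subgroup.orderOf_coe]; exact hx
  obtain ⟨u, hu⟩ := exists_prime_orderOf_dvd_card'
    (G := ↥(Subgroup.centralizer ((P : Subgroup G) : Set G))) 2 (by rw [hC]; norm_num)
  have hu2 : orderOf (u : G) = 2 := by rw [Subgroup.orderOf_coe]; exact hu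
  have hxu : Commute (x : G) (u : G) :=
    Subgroup.mem_centralizer_iff.1 u.2 (x : G) x.2
  have hu1 : (u : G) ≠ 1 := by
    intro h; rw [h, orderOf_one] at hu2; omega
  -- the value of a nontrivial member of `X` at `u`
  have hval : ∀ χ ∈ X, χ ≠ oneIrr G → ∃ a : ℤ, (χ : G → ℂ) (u : G) = (a : ℂ) ∧
      ((charDegree (χ : G → ℂ) = 15 ∧ εX χ = 1 ∧ a = -13) ∨
        (charDegree (χ : G → ℂ) = 20 ∧ εX χ = -1 ∧ a = -8) ∨
        (charDegree (χ : G → ℂ) = 36 ∧ εX χ = 1 ∧ (a = 8 ∨ a = -20))) := by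
    intro χ hχ hχ1
    have hxk : ∀ k : ℕ, ¬ 7 ∣ k → (x : G) ^ k ≠ 1 := by
      intro k hk h
      apply hk
      rw [← hx7]
      exact orderOf_dvd_of_pow_eq_one h
    have h1 : ∀ k : ℕ, ¬ 7 ∣ k → (χ : G → ℂ) ((x : G) ^ k) = (εX χ : ℂ) := by
      intro k hk
      have := hloc χ hχ ((x : G) ^ k) (Subgroup.pow_mem _ x.2 k) (hxk k hk) 1
        (Subgroup.one_mem _) (by rw [orderOf_one]; norm_num)
      rwa [mul_one] at this
    have h2 : ∀ k : ℕ, ¬ 7 ∣ k → (χ : G → ℂ) ((x : G) ^ k * (u : G)) = (εX χ : ℂ) := by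
      intro k hk
      exact hloc χ hχ ((x : G) ^ k) (Subgroup.pow_mem _ x.2 k) (hxk k hk) (u : G) u.2
        (by rw [hu2]; norm_num)
    obtain ⟨m, hm1, hm⟩ := Cfsg.Agent.Lib.Helper10_F5040_INVVAL.invol_value hna χ hχ1 7
      (by norm_num) (by norm_num) (x : G) (u : G) hx7 hu2 hxu (εX χ) h1 h2
    refine ⟨(charDegree (χ : G → ℂ) : ℤ) - 4 * 7 * (m : ℤ), ?_, ?_⟩
    · rw [hm]; push_cast; ring
    · have hcast : (χ : G → ℂ) (u : G) =
          (((charDegree (χ : G → ℂ) : ℤ) - 4 * 7 * (m : ℤ) : ℤ) : ℂ) := by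
        rw [hm]; push_cast; ring
      apply triple_cases _ _ _ m hm1 (hdeg χ hχ hχ1) rfl
      · -- the norm bound
        have hnorm := Cfsg.Agent.Lib.Helper62_INV_E2.irr_norm_le' χ (u : G)
        rw [hcast, Complex.norm_intCast] at hnorm
        have h3 : |(((charDegree (χ : G → ℂ) : ℤ) - 4 * 7 * (m : ℤ) : ℤ) : ℝ)| ≤
            (((charDegree (χ : G → ℂ) : ℕ) : ℤ) : ℝ) := by
          simpa using hnorm
        exact_mod_cast h3
      · -- defect zero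
        intro h48
        have hvan := Cfsg.Agent.Lib.Helper74_CharTools.irr_vanish_of_defect_zero χ 2 4
          Nat.prime_two (by rw [hG]; norm_num) (by rw [hG]; norm_num) (by rw [h48]; norm_num)
          (u : G) (by rw [hu2])
        rw [hcast] at hvan
        exact_mod_cast hvan
  -- `X = {1, χ₂, χ₃}`
  have hXe : (X.erase (oneIrr G)).card = 2 := by
    rw [Finset.card_erase_of_mem h1X, hXcard]
  obtain ⟨χ₂, χ₃, h23, hX23⟩ := Finset.card_eq_two.1 hXe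
  have hχ₂ : χ₂ ∈ X.erase (oneIrr G) := by rw [hX23]; simp
  have hχ₃ : χ₃ ∈ X.erase (oneIrr G) := by rw [hX23]; simp
  obtain ⟨hχ₂1, hχ₂X⟩ := Finset.mem_erase.1 hχ₂
  obtain ⟨hχ₃1, hχ₃X⟩ := Finset.mem_erase.1 hχ₃
  have hsplit : ∀ f : IrrCharacter G → ℂ, ∑ χ ∈ X, f χ = f (oneIrr G) + f χ₂ + f χ₃ := by
    intro f
    rw [← Finset.add_sum_erase X f h1X, hX23, Finset.sum_pair h23, add_assoc]
  have hsplitZ : ∀ f : IrrCharacter G → ℤ, ∑ χ ∈ X, f χ = f (oneIrr G) + f χ₂ + f χ₃ := by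
    intro f
    rw [← Finset.add_sum_erase X f h1X, hX23, Finset.sum_pair h23, add_assoc]
  have hdeg1 : charDegree ((oneIrr G : IrrCharacter G) : G → ℂ) = 1 := by
    show ⌊((1 : ℂ)).re⌋₊ = 1
    simp
  obtain ⟨a₂, ha₂, hc₂⟩ := hval χ₂ hχ₂X hχ₂1
  obtain ⟨a₃, ha₃, hc₃⟩ := hval χ₃ hχ₃X hχ₃1
  rw [hsplitZ, hε1, hdeg1] at hsum
  have hsum' : ε * (charDegree (θ : G → ℂ) : ℤ) =
      1 + εX χ₂ * (charDegree (χ₂ : G → ℂ) : ℤ) + εX χ₃ * (charDegree (χ₃ : G → ℂ) : ℤ) := by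
    rw [hsum]; push_cast; ring
  obtain ⟨hεm, hθ4, hvals⟩ := degree_arith _ ε hε hθdvd _ _ _ _ a₂ a₃ hc₂ hc₃ hsum'
  -- the value of `θ` at `u`
  have hru := hrel (u : G) (by rw [hu2]; norm_num)
  rw [hsplit, hε1, ha₂, ha₃, hεm] at hru
  have h1u : ((oneIrr G : IrrCharacter G) : G → ℂ) (u : G) = 1 := rfl
  rw [h1u] at hru
  have hθu : (θ : G → ℂ) (u : G) = 4 := by
    have h5 : ((1 : ℤ) : ℂ) * 1 + (εX χ₂ : ℂ) * (a₂ : ℂ) + (εX χ₃ : ℂ) * (a₃ : ℂ) = ((-4 : ℤ) : ℂ) := by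
      rw [← hvals]; push_cast; ring
    rw [h5] at hru
    have h6 : -((θ : G → ℂ) (u : G)) = -4 := by
      have : ((-1 : ℤ) : ℂ) * (θ : G → ℂ) (u : G) = -((θ : G → ℂ) (u : G)) := by
        push_cast; ring
      rw [← this, hru]; push_cast; ring
    exact neg_injective h6
  have hθ1 : (θ : G → ℂ) 1 = 4 := by
    rw [Cfsg.Agent.Lib.Helper77_BlockBasics.apply_one_eq_charDegree θ, hθ4]; norm_num
  have hθne : θ ≠ oneIrr G := by
    intro h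
    exact hθX (h ▸ h1X)
  exact hu1 (Cfsg.Agent.Lib.Helper74_CharTools.eq_one_of_apply_eq θ hθne (u : G)
    (by rw [hθu, hθ1]))

end Cfsg.Agent.Lib.Helper24_F5040_CASE120A
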