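import Mathlib
import Cfsg.Prelude.Def_Blocks
import Cfsg.Agent.Lib.Helper80_CharBasic
import Cfsg.Agent.Lib.Helper62_InvCount_Defs
import Cfsg.Agent.Lib.Helper74_CharTools
import Cfsg.Agent.Lib.Helper17_Sylow
import Cfsg.Agent.Lib.Helper25_INV_E2
import Cfsg.Agent.Lib.Helper10_F5040_INVVAL
import Cfsg.Agent.Lib.Helper16_F5040_BRX7

/-!
helper25: F5040-CASE36 (architect helper62): the case `|N_G(P)| = 140`, `|C_G(P)| = 70` of
"no simple group of order 5040".
-/

set_option autoImplicit false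
open Cfsg Cfsg.Agent.Lib.Helper80_CharBasic Cfsg.Agent.Lib.Helper62_InvCount_Defs

namespace Cfsg.Agent.Lib.Helper25_F5040_CASE36

/-- F5040-CASE36. -/
theorem case_36 {G : Type*} [Group G] [Finite G] [IsSimpleGroup G] [Fact (Nat.Prime 7)]
    (hG : Nat.card G = 5040) (P : Sylow 7 G) (hP : Nat.card P = 7)
    (hN : Nat.card (Subgroup.normalizer ((P : Subgroup G) : Set G)) = 140)
    (hC : Nat.card (Subgroup.centralizer ((P : Subgroup G) : Set G)) = 70) : False := by
  classical
  -- `G` is not abelian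
  have hna : ¬ ∀ a b : G, a * b = b * a := by
    intro h
    have hnp : ¬ (Nat.card G).Prime := by rw [hG]; norm_num
    exact Cfsg.Agent.Lib.Helper17_Sylow.not_isMulCommutative_of_not_prime hnp ⟨⟨h⟩⟩
  -- `e = 2`
  have hle : Subgroup.centralizer ((P : Subgroup G) : Set G) ≤
      Subgroup.normalizer ((P : Subgroup G) : Set G) := Subgroup.centralizer_le_normalizer _
  have he : (Subgroup.centralizer ((P : Subgroup G) : Set G)).relIndex
      (Subgroup.normalizer ((P : Subgroup G) : Set G)) = 2 := by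
    have h := Cfsg.Agent.Lib.Helper17_Sylow.card_mul_relIndex_of_le hle
    rw [hC, hN] at h
    omega
  obtain ⟨X, εX, θ, ε, h1X, hXc, hε1, hθX, hdeg, hval, hθdvd, hε, hdegsum, hsum⟩ :=
    Cfsg.Agent.Lib.Helper16_F5040_BRX7.brauer_X7 hG P hP 2 he (Or.inl rfl)
  -- `X = {1, χ}`
  have hXe : (X.erase (oneIrr G)).card = 1 := by
    rw [Finset.card_erase_of_mem h1X, hXc]
  obtain ⟨χ, hχ⟩ := Finset.card_eq_one.mp hXe
  have hχmem : χ ∈ X.erase (oneIrr G) := by rw [hχ]; exact Finset.mem_singleton_self χ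
  have hχne : χ ≠ oneIrr G := (Finset.mem_erase.mp hχmem).1
  have hχX : χ ∈ X := (Finset.mem_erase.mp hχmem).2
  have hXeq : X = insert (oneIrr G) {χ} := by
    rw [← hχ, Finset.insert_erase h1X]
  have hnotin : oneIrr G ∉ ({χ} : Finset (Cfsg.IrrCharacter G)) := by
    rw [Finset.mem_singleton]; exact fun h => hχne h.symm
  have hdeg1 : Cfsg.charDegree ((oneIrr G : Cfsg.IrrCharacter G) : G → ℂ) = 1 := by
    simp [Cfsg.charDegree, oneIrr]
  set d := Cfsg.charDegree (χ : G → ℂ) with hd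
  set δ := εX χ with hδ
  rw [hXeq, Finset.sum_insert hnotin, Finset.sum_singleton, hε1, hdeg1] at hdegsum
  -- an element of order 7 in `P`
  have hcard1 : 1 < Nat.card (P : Subgroup G) := by rw [hP]; omega
  have hnt : Nontrivial (P : Subgroup G) := (Finite.one_lt_card_iff_nontrivial).1 hcard1
  obtain ⟨x', hx'⟩ := exists_ne (1 : (P : Subgroup G))
  have hxP : (x' : G) ∈ (P : Subgroup G) := x'.2
  have hx1 : (x' : G) ≠ 1 := fun h => hx' (Subtype.ext h)
  have hox : orderOf (x' : G) = 7 := by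
    have h1 : orderOf x' ∣ 7 := by
      have := orderOf_dvd_natCard x'
      rwa [hP] at this
    rw [Subgroup.orderOf_coe]
    rcases (Nat.dvd_prime (by norm_num : Nat.Prime 7)).mp h1 with h | h
    · exact absurd (orderOf_eq_one_iff.mp h) hx'
    · exact h
  -- an involution in `C`
  have h2C : 2 ∣ Nat.card (Subgroup.centralizer ((P : Subgroup G) : Set G)) := by
    rw [hC]; norm_num
  have : Fact (Nat.Prime 2) := ⟨Nat.prime_two⟩
  obtain ⟨u', hu'⟩ := exists_prime_orderOf_dvd_card' 2 h2C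
  have huC : (u' : G) ∈ Subgroup.centralizer ((P : Subgroup G) : Set G) := u'.2
  have hou : orderOf (u' : G) = 2 := by rw [Subgroup.orderOf_coe]; exact hu'
  set x : G := (x' : G) with hxdef
  set u : G := (u' : G) with hudef
  have hxu : Commute x u := (Subgroup.mem_centralizer_iff.mp huC) x hxP
  have hpow : ∀ k : ℕ, ¬ 7 ∣ k → x ^ k ∈ (P : Subgroup G) ∧ x ^ k ≠ 1 := by
    intro k hk
    refine ⟨(P : Subgroup G).pow_mem hxP k, fun h => hk ?_⟩
    rw [← hox]; exact orderOf_dvd_of_pow_eq_one h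
  have h1C : (1 : G) ∈ Subgroup.centralizer ((P : Subgroup G) : Set G) := Subgroup.one_mem _
  have hv1 : ∀ k : ℕ, ¬ 7 ∣ k → (χ : G → ℂ) (x ^ k) = (δ : ℂ) := by
    intro k hk
    have := hval χ hχX (x ^ k) (hpow k hk).1 (hpow k hk).2 1 h1C (by rw [orderOf_one]; norm_num)
    rwa [mul_one] at this
  have hv2 : ∀ k : ℕ, ¬ 7 ∣ k → (χ : G → ℂ) (x ^ k * u) = (δ : ℂ) := by
    intro k hk
    exact hval χ hχX (x ^ k) (hpow k hk).1 (hpow k hk).2 u huC (by rw [hou]; norm_num)
  obtain ⟨m, hm1, hχu⟩ := Cfsg.Agent.Lib.Helper10_F5040_INVVAL.invol_value hna χ hχne 7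
    (by norm_num) (by norm_num) x u hox hou hxu δ hv1 hv2
  -- the bound `|χ(u)| ≤ d`
  have hmd : 14 * m ≤ d := by
    have h1 := Cfsg.Agent.Lib.Helper25_INV_E2.norm_irr_le' χ u
    rw [hχu] at h1
    have h2 : ((d : ℂ) - 4 * ((7 : ℕ) : ℂ) * (m : ℂ)) = (((d : ℝ) - 28 * (m : ℝ) : ℝ) : ℂ) := by
      push_cast; ring
    rw [h2, Complex.norm_real, Real.norm_eq_abs] at h1
    have h3 := (abs_le.1 h1).1
    have h4 : (14 : ℝ) * (m : ℝ) ≤ (d : ℝ) := by linarith
    exact_mod_cast h4
  have hd14 : 14 ≤ d := by omega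
  -- the degree of `θ`
  set t := Cfsg.charDegree (θ : G → ℂ) with ht
  have htpos : 0 < t := Nat.pos_of_dvd_of_pos hθdvd (by norm_num)
  have hcase := hdeg χ hχX hχne
  have hd15 : d = 15 ∧ δ = 1 ∧ t = 16 ∧ ε = 1 := by
    rcases hcase with ⟨h | h | h, hδ'⟩ | ⟨h | h | h, hδ'⟩
    · omega
    · rw [hδ', h] at hdegsum
      rcases hε with hε' | hε'
      · rw [hε'] at hdegsum
        refine ⟨h, hδ', ?_, hε'⟩
        omega
      · rw [hε'] at hdegsum
        omega
    · exfalso
      rw [hδ', h] at hdegsum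
      rcases hε with hε' | hε'
      · rw [hε'] at hdegsum
        have : t = 37 := by omega
        rw [this] at hθdvd
        norm_num at hθdvd
      · rw [hε'] at hdegsum
        omega
    · omega
    · exfalso
      rw [hδ', h] at hdegsum
      rcases hε with hε' | hε'
      · rw [hε'] at hdegsum
        omega
      · rw [hε'] at hdegsum
        have : t = 19 := by omega
        rw [this] at hθdvd
        norm_num at hθdvd
    · exfalso
      rw [hδ', h] at hdegsum
      rcases hε with hε' | hε'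
      · rw [hε'] at hdegsum
        omega
      · rw [hε'] at hdegsum
        have : t = 47 := by omega
        rw [this] at hθdvd
        norm_num at hθdvd
  obtain ⟨hd15', hδ1, ht16, hε1'⟩ := hd15
  have hm : m = 1 := by omega
  -- `θ(u) = 0`
  have hθu : (θ : G → ℂ) u = 0 := by
    apply Cfsg.Agent.Lib.Helper74_CharTools.irr_vanish_of_defect_zero θ 2 4 Nat.prime_two
    · rw [hG]; norm_num
    · rw [hG]; norm_num
    · rw [← ht, ht16]; norm_num
    · rw [hou]
  have hs := hsum u (by rw [hou]; norm_num)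
  rw [hXeq, Finset.sum_insert hnotin, Finset.sum_singleton, hθu, mul_zero, hε1, ← hδ, hδ1,
    hχu, ← hd, hd15', hm] at hs
  have h1u : ((oneIrr G : Cfsg.IrrCharacter G) : G → ℂ) u = 1 := rfl
  rw [h1u] at hs
  norm_num at hs

end Cfsg.Agent.Lib.Helper25_F5040_CASE36
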