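import Mathlib

set_option autoImplicit false

/-!
# F5040-AR (S0978, architect helper62): the abstract arithmetic `AR5040`

The six non-trivial characters are enumerated in increasing order of the key `1000 * d + a`; all
sums become explicit six-term sums and the finite search over sorted degree and value tuples is done
by kernel evaluation of a boolean checker (`chkD_true`).
-/

namespace Cfsg.Agent.Lib.Helper5_F5040_AR

/-- the possible degrees -/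
def Ds : List ℤ := [6, 8, 15, 20, 36, 48]

/-- the sign attached to a degree -/
def sg (d : ℤ) : ℤ := if d = 8 then 1 else if d = 15 then 1 else if d = 36 then 1 else -1

/-- the coefficient `sign * 720 / degree` -/
def cf (d : ℤ) : ℤ :=
  if d = 8 then 90 else if d = 15 then 48 else if d = 36 then 20 else if d = 6 then -120
  else if d = 20 then -36 else -15

/-- the possible values at the involution -/
def vals (d : ℤ) : List ℤ :=
  if d = 15 then [-9, -5, -1, 3, 7] else if d = 6 then [-6, -2, 2]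
  else if d = 8 then [-8, -4, 0, 4] else [-8, -4, 0, 4, 8]

/-- the divisors of 5040 up to 96 -/
def Cs : List ℤ :=
  [1, 2, 3, 4, 5, 6, 7, 8, 9, 10, 12, 14, 15, 16, 18, 20, 21, 24, 28, 30, 35, 36, 40, 42, 45, 48,
    56, 60, 63, 70, 72, 80, 84, 90]

/-- the final conclusion on explicit data -/
def Concl (d0 d1 d2 d3 d4 d5 a0 a1 a2 a3 a4 a5 c : ℤ) : Prop :=
  c = 48 ∧ 1 + a0 * a0 + a1 * a1 + a2 * a2 + a3 * a3 + a4 * a4 + a5 * a5 = 48 ∧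
    ((d0 = 6 ∧ a0 = 2) ∨ (d1 = 6 ∧ a1 = 2) ∨ (d2 = 6 ∧ a2 = 2) ∨ (d3 = 6 ∧ a3 = 2) ∨
      (d4 = 6 ∧ a4 = 2) ∨ (d5 = 6 ∧ a5 = 2)) ∧
    (a0 < 0 → d0 = 15 ∧ a0 = -5) ∧ (a1 < 0 → d1 = 15 ∧ a1 = -5) ∧
    (a2 < 0 → d2 = 15 ∧ a2 = -5) ∧ (a3 < 0 → d3 = 15 ∧ a3 = -5) ∧
    (a4 < 0 → d4 = 15 ∧ a4 = -5) ∧ (a5 < 0 → d5 = 15 ∧ a5 = -5)

instance instDecidableConcl (d0 d1 d2 d3 d4 d5 a0 a1 a2 a3 a4 a5 c : ℤ) :
    Decidable (Concl d0 d1 d2 d3 d4 d5 a0 a1 a2 a3 a4 a5 c) := by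
  unfold Concl; infer_instance

/-- the inner search, over the values -/
def chkA (d0 d1 d2 d3 d4 d5 : ℤ) : Bool :=
  (vals d0).all fun a0 => (vals d1).all fun a1 => if (d0 = d1 → a0 ≤ a1) then
  (vals d2).all fun a2 => if (d1 = d2 → a1 ≤ a2) then
  (vals d3).all fun a3 => if (d2 = d3 → a2 ≤ a3) then
  (vals d4).all fun a4 => if (d3 = d4 → a3 ≤ a4) then
  (vals d5).all fun a5 => if (d4 = d5 → a4 ≤ a5) then
  if 1 + sg d0 * a0 + sg d1 * a1 + sg d2 * a2 + sg d3 * a3 + sg d4 * a4 + sg d5 * a5 = 0 then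
  Cs.all fun c =>
  if c * c = 720 + cf d0 * (a0 * a0) + cf d1 * (a1 * a1) + cf d2 * (a2 * a2) + cf d3 * (a3 * a3) +
      cf d4 * (a4 * a4) + cf d5 * (a5 * a5) then
  if 1 + a0 * a0 + a1 * a1 + a2 * a2 + a3 * a3 + a4 * a4 + a5 * a5 ≤ c then
  decide (Concl d0 d1 d2 d3 d4 d5 a0 a1 a2 a3 a4 a5 c)
  else true else true else true else true else true else true else true else true

/-- the outer search, over the degrees -/
def chkD : Bool :=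
  Ds.all fun d0 => Ds.all fun d1 => if d0 ≤ d1 then
  Ds.all fun d2 => if d1 ≤ d2 then
  Ds.all fun d3 => if d2 ≤ d3 then
  Ds.all fun d4 => if d3 ≤ d4 then
  Ds.all fun d5 => if d4 ≤ d5 then
  if 1 + sg d0 * d0 + sg d1 * d1 + sg d2 * d2 + sg d3 * d3 + sg d4 * d4 + sg d5 * d5 = 0 then
  if 1 + d0 * d0 + d1 * d1 + d2 * d2 + d3 * d3 + d4 * d4 + d5 * d5 ≤ 5040 then
  chkA d0 d1 d2 d3 d4 d5
  else true else true else true else true else true else true else true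

set_option maxRecDepth 100000 in
theorem chkD_true : chkD = true := by
  decide +kernel

theorem imp_bool {p : Prop} [Decidable p] {b : Bool} :
    (if p then b else true) = true ↔ (p → b = true) := by
  by_cases hp : p <;> simp [hp]

/-- the finite search, as a statement on explicit integers -/
theorem search (d0 d1 d2 d3 d4 d5 a0 a1 a2 a3 a4 a5 c : ℤ)
    (hd0 : d0 ∈ Ds) (hd1 : d1 ∈ Ds) (hd2 : d2 ∈ Ds) (hd3 : d3 ∈ Ds) (hd4 : d4 ∈ Ds) (hd5 : d5 ∈ Ds)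
    (h01 : d0 ≤ d1) (h12 : d1 ≤ d2) (h23 : d2 ≤ d3) (h34 : d3 ≤ d4) (h45 : d4 ≤ d5)
    (hsd : 1 + sg d0 * d0 + sg d1 * d1 + sg d2 * d2 + sg d3 * d3 + sg d4 * d4 + sg d5 * d5 = 0)
    (hsq : 1 + d0 * d0 + d1 * d1 + d2 * d2 + d3 * d3 + d4 * d4 + d5 * d5 ≤ 5040)
    (ha0 : a0 ∈ vals d0) (ha1 : a1 ∈ vals d1) (ha2 : a2 ∈ vals d2) (ha3 : a3 ∈ vals d3)
    (ha4 : a4 ∈ vals d4) (ha5 : a5 ∈ vals d5)
    (k01 : d0 = d1 → a0 ≤ a1) (k12 : d1 = d2 → a1 ≤ a2) (k23 : d2 = d3 → a2 ≤ a3)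
    (k34 : d3 = d4 → a3 ≤ a4) (k45 : d4 = d5 → a4 ≤ a5)
    (hsa : 1 + sg d0 * a0 + sg d1 * a1 + sg d2 * a2 + sg d3 * a3 + sg d4 * a4 + sg d5 * a5 = 0)
    (hc : c ∈ Cs)
    (heq : c * c = 720 + cf d0 * (a0 * a0) + cf d1 * (a1 * a1) + cf d2 * (a2 * a2) +
      cf d3 * (a3 * a3) + cf d4 * (a4 * a4) + cf d5 * (a5 * a5))
    (hcol : 1 + a0 * a0 + a1 * a1 + a2 * a2 + a3 * a3 + a4 * a4 + a5 * a5 ≤ c) :
    Concl d0 d1 d2 d3 d4 d5 a0 a1 a2 a3 a4 a5 c := by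
  have h := chkD_true
  simp only [chkD, List.all_eq_true, imp_bool] at h
  have h' := h d0 hd0 d1 hd1 h01 d2 hd2 h12 d3 hd3 h23 d4 hd4 h34 d5 hd5 h45 hsd hsq
  simp only [chkA, List.all_eq_true, imp_bool, decide_eq_true_eq] at h'
  exact h' a0 ha0 a1 ha1 k01 a2 ha2 k12 a3 ha3 k23 a4 ha4 k34 a5 ha5 k45 hsa c hc heq hcol

/-- a sorted enumeration of a six-element finset -/
theorem exists_sorted6 {ι : Type*} (s : Finset ι) (h6 : s.card = 6) (key : ι → ℤ) :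
    ∃ x : Fin 6 → ι, (∀ i, x i ∈ s) ∧ (∀ χ ∈ s, ∃ i, x i = χ) ∧ Monotone (key ∘ x) ∧
      (∀ {M : Type} [AddCommMonoid M] (F : ι → M), ∑ χ ∈ s, F χ = ∑ i, F (x i)) := by
  classical
  let e : Fin 6 ≃ s := (Finset.equivFinOfCardEq h6).symm
  let f : Fin 6 → ℤ := fun i => key (e i)
  let σ := Tuple.sort f
  refine ⟨fun i => (e (σ i) : ι), fun i => (e (σ i)).2, ?_, ?_, ?_⟩
  · intro χ hχ
    refine ⟨σ.symm (e.symm ⟨χ, hχ⟩), by simp⟩
  · exact Tuple.monotone_sort f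
  · intro M _ F
    rw [← Finset.sum_coe_sort s F]
    exact ((σ.trans e).sum_comp (fun y : s => F y)).symm

/-- F5040-AR (L, Mathlib only; brute-force checked). -/
theorem AR5040 {ι : Type*} (B : Finset ι) (one : ι) (d : ι → ℕ) (δ a : ι → ℤ) (c : ℕ)
    (h1 : one ∈ B) (hcard : B.card = 7) (hδ1 : δ one = 1) (hd1 : d one = 1) (ha1 : a one = 1)
    (hdeg : ∀ χ ∈ B, χ ≠ one →
      ((d χ = 8 ∨ d χ = 15 ∨ d χ = 36) ∧ δ χ = 1) ∨ ((d χ = 6 ∨ d χ = 20 ∨ d χ = 48) ∧ δ χ = -1))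
    (hsumd : ∑ χ ∈ B, δ χ * (d χ : ℤ) = 0)
    (hsq : ∑ χ ∈ B, (d χ) ^ 2 ≤ 5040)
    (hval : ∀ χ ∈ B, χ ≠ one → ∃ j : ℕ, 1 ≤ j ∧ a χ = (d χ : ℤ) - 4 * (j : ℤ))
    (hbound : ∀ χ ∈ B, |a χ| ≤ (d χ : ℤ))
    (hsuma : ∑ χ ∈ B, δ χ * a χ = 0)
    (hc : c ∣ 5040) (hcol : ∑ χ ∈ B, (a χ) ^ 2 ≤ (c : ℤ))
    (heq : (c : ℚ) ^ 2 = 720 * ∑ χ ∈ B, (δ χ : ℚ) * (a χ : ℚ) ^ 2 / (d χ : ℚ)) :
    c = 48 ∧ ∑ χ ∈ B, (a χ) ^ 2 = 48 ∧ (∃ ψ ∈ B, d ψ = 6 ∧ a ψ = 2) ∧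
      ∀ χ ∈ B, a χ < 0 → d χ = 15 ∧ a χ = -5 := by
  classical
  set B' := B.erase one with hB'
  have hB'card : B'.card = 6 := by rw [hB', Finset.card_erase_of_mem h1, hcard]
  have hmem' : ∀ χ ∈ B', χ ∈ B ∧ χ ≠ one := fun χ hχ =>
    ⟨Finset.mem_of_mem_erase hχ, Finset.ne_of_mem_erase hχ⟩
  -- degree facts
  have hD : ∀ χ ∈ B', ((d χ : ℤ) ∈ Ds) ∧ δ χ = sg (d χ) ∧
      (δ χ : ℚ) * (a χ : ℚ) ^ 2 / (d χ : ℚ) =
        ((cf (d χ) * (a χ * a χ) : ℤ) : ℚ) / 720 ∧ cf (d χ) ≤ 90 := by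
    intro χ hχ
    obtain ⟨hχB, hχ1⟩ := hmem' χ hχ
    rcases hdeg χ hχB hχ1 with ⟨h | h | h, hδ⟩ | ⟨h | h | h, hδ⟩ <;>
      refine ⟨by simp [Ds, h], by simp [sg, h, hδ], ?_, by simp [cf, h]⟩ <;>
      · simp only [h, hδ, cf]
        push_cast
        norm_num
        ring
  -- splitting off `one`
  have hsplit : ∀ {M : Type} [AddCommMonoid M] (F : ι → M),
      ∑ χ ∈ B, F χ = F one + ∑ χ ∈ B', F χ := fun F => (Finset.add_sum_erase B F h1).symm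
  have hsumd' : 1 + ∑ χ ∈ B', δ χ * (d χ : ℤ) = 0 := by
    rw [hsplit, hδ1, hd1] at hsumd
    simpa using hsumd
  have hsq' : 1 + ∑ χ ∈ B', (d χ : ℤ) * (d χ : ℤ) ≤ 5040 := by
    rw [hsplit, hd1] at hsq
    have h3 : ((1 ^ 2 + ∑ χ ∈ B', (d χ) ^ 2 : ℕ) : ℤ) ≤ 5040 := by exact_mod_cast hsq
    push_cast at h3
    simpa [sq] using h3
  have hsuma' : 1 + ∑ χ ∈ B', δ χ * a χ = 0 := by
    rw [hsplit, hδ1, ha1] at hsuma
    simpa using hsuma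
  have hcolsplit : ∑ χ ∈ B, (a χ) ^ 2 = 1 + ∑ χ ∈ B', a χ * a χ := by
    rw [hsplit, ha1]
    simp [sq]
  have hcol' : 1 + ∑ χ ∈ B', a χ * a χ ≤ (c : ℤ) := by rw [← hcolsplit]; exact hcol
  have heq' : (c : ℤ) * (c : ℤ) = 720 + ∑ χ ∈ B', cf (d χ) * (a χ * a χ) := by
    rw [hsplit, hδ1, ha1, hd1] at heq
    have h2 : ∑ χ ∈ B', (δ χ : ℚ) * (a χ : ℚ) ^ 2 / (d χ : ℚ) =
        ((∑ χ ∈ B', cf (d χ) * (a χ * a χ) : ℤ) : ℚ) / 720 := by
      rw [Int.cast_sum, Finset.sum_div]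
      exact Finset.sum_congr rfl fun χ hχ => (hD χ hχ).2.2.1
    rw [h2] at heq
    have h3 : ((c : ℤ) : ℚ) * ((c : ℤ) : ℚ) =
        ((720 + ∑ χ ∈ B', cf (d χ) * (a χ * a χ) : ℤ) : ℚ) := by
      push_cast
      push_cast at heq
      rw [← sq, heq]
      ring
    exact_mod_cast h3
  -- the bound `c ≤ 96`
  have hsum_le : ∑ χ ∈ B', cf (d χ) * (a χ * a χ) ≤ 90 * ∑ χ ∈ B', a χ * a χ := by
    rw [Finset.mul_sum]
    refine Finset.sum_le_sum fun χ hχ => ?_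
    exact mul_le_mul_of_nonneg_right (hD χ hχ).2.2.2 (mul_self_nonneg _)
  have hc96 : (c : ℤ) ≤ 96 := by
    by_contra hcon
    have h97 : (97 : ℤ) ≤ c := by omega
    nlinarith
  -- values
  have hA : ∀ χ ∈ B', a χ ∈ vals (d χ) := by
    intro χ hχ
    obtain ⟨hχB, hχ1⟩ := hmem' χ hχ
    have hle : a χ * a χ ≤ 95 := by
      have : a χ * a χ ≤ ∑ χ ∈ B', a χ * a χ :=
        Finset.single_le_sum (f := fun χ => a χ * a χ) (fun i _ => mul_self_nonneg _) hχ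
      omega
    have h9 : -9 ≤ a χ ∧ a χ ≤ 9 := by
      constructor <;> nlinarith
    obtain ⟨j, hj1, hj⟩ := hval χ hχB hχ1
    have hb := abs_le.1 (hbound χ hχB)
    rcases hdeg χ hχB hχ1 with ⟨h | h | h, hδ⟩ | ⟨h | h | h, hδ⟩ <;>
      · simp only [h, vals] at hb hj ⊢
        push_cast at hb hj
        simp
        omega
  -- the sorted enumeration
  obtain ⟨x, hxmem, hxsurj, hmono, hsum⟩ :=
    exists_sorted6 B' hB'card (fun χ => 1000 * (d χ : ℤ) + a χ)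
  have hkey : ∀ i j : Fin 6, i ≤ j →
      (d (x i) : ℤ) ≤ d (x j) ∧ ((d (x i) : ℤ) = d (x j) → a (x i) ≤ a (x j)) := by
    intro i j hij
    have hm : 1000 * (d (x i) : ℤ) + a (x i) ≤ 1000 * (d (x j) : ℤ) + a (x j) := hmono hij
    have hi := hA (x i) (hxmem i)
    have hj := hA (x j) (hxmem j)
    have hbi : -9 ≤ a (x i) ∧ a (x i) ≤ 9 := by
      have hle : a (x i) * a (x i) ≤ 95 := by
        have : a (x i) * a (x i) ≤ ∑ χ ∈ B', a χ * a χ :=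
          Finset.single_le_sum (f := fun χ => a χ * a χ) (fun i _ => mul_self_nonneg _) (hxmem i)
        omega
      constructor <;> nlinarith
    have hbj : -9 ≤ a (x j) ∧ a (x j) ≤ 9 := by
      have hle : a (x j) * a (x j) ≤ 95 := by
        have : a (x j) * a (x j) ≤ ∑ χ ∈ B', a χ * a χ :=
          Finset.single_le_sum (f := fun χ => a χ * a χ) (fun i _ => mul_self_nonneg _) (hxmem j)
        omega
      constructor <;> nlinarith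
    constructor
    · omega
    · intro h; omega
  -- rewrite the sums
  rw [hsum, Fin.sum_univ_six] at hsumd' hsq' hsuma' hcol' heq'
  have hcC : (c : ℤ) ∈ Cs := by
    have hc0 : 0 < c := Nat.pos_of_dvd_of_pos hc (by norm_num)
    have hc96' : c ≤ 96 := by exact_mod_cast hc96
    have : c ∈ [1, 2, 3, 4, 5, 6, 7, 8, 9, 10, 12, 14, 15, 16, 18, 20, 21, 24, 28, 30, 35, 36, 40,
        42, 45, 48, 56, 60, 63, 70, 72, 80, 84, 90] := by
      interval_cases c <;> first | (exfalso; revert hc; decide) | decide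
    simp only [Cs, List.mem_cons, List.not_mem_nil, or_false] at this ⊢
    exact_mod_cast this
  have hres := search (d (x 0)) (d (x 1)) (d (x 2)) (d (x 3)) (d (x 4)) (d (x 5))
    (a (x 0)) (a (x 1)) (a (x 2)) (a (x 3)) (a (x 4)) (a (x 5)) c
    (hD _ (hxmem 0)).1 (hD _ (hxmem 1)).1 (hD _ (hxmem 2)).1 (hD _ (hxmem 3)).1
    (hD _ (hxmem 4)).1 (hD _ (hxmem 5)).1
    (hkey 0 1 (by decide)).1 (hkey 1 2 (by decide)).1 (hkey 2 3 (by decide)).1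
    (hkey 3 4 (by decide)).1 (hkey 4 5 (by decide)).1
    (by
      rw [← (hD _ (hxmem 0)).2.1, ← (hD _ (hxmem 1)).2.1, ← (hD _ (hxmem 2)).2.1,
        ← (hD _ (hxmem 3)).2.1, ← (hD _ (hxmem 4)).2.1, ← (hD _ (hxmem 5)).2.1]
      linarith)
    (by linarith)
    (hA _ (hxmem 0)) (hA _ (hxmem 1)) (hA _ (hxmem 2)) (hA _ (hxmem 3)) (hA _ (hxmem 4))
    (hA _ (hxmem 5))
    (hkey 0 1 (by decide)).2 (hkey 1 2 (by decide)).2 (hkey 2 3 (by decide)).2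
    (hkey 3 4 (by decide)).2 (hkey 4 5 (by decide)).2
    (by
      rw [← (hD _ (hxmem 0)).2.1, ← (hD _ (hxmem 1)).2.1, ← (hD _ (hxmem 2)).2.1,
        ← (hD _ (hxmem 3)).2.1, ← (hD _ (hxmem 4)).2.1, ← (hD _ (hxmem 5)).2.1]
      linarith)
    hcC (by linarith) (by linarith)
  obtain ⟨hc48, hS48, hpsi, hn0, hn1, hn2, hn3, hn4, hn5⟩ := hres
  refine ⟨by exact_mod_cast hc48, ?_, ?_, ?_⟩
  · rw [hcolsplit, hsum, Fin.sum_univ_six]; linarith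
  · have hB'B : ∀ i, x i ∈ B := fun i => (hmem' _ (hxmem i)).1
    rcases hpsi with h | h | h | h | h | h
    · exact ⟨x 0, hB'B 0, by exact_mod_cast h.1, h.2⟩
    · exact ⟨x 1, hB'B 1, by exact_mod_cast h.1, h.2⟩
    · exact ⟨x 2, hB'B 2, by exact_mod_cast h.1, h.2⟩
    · exact ⟨x 3, hB'B 3, by exact_mod_cast h.1, h.2⟩
    · exact ⟨x 4, hB'B 4, by exact_mod_cast h.1, h.2⟩
    · exact ⟨x 5, hB'B 5, by exact_mod_cast h.1, h.2⟩
  · intro χ hχ hneg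
    by_cases hχ1 : χ = one
    · subst hχ1; rw [ha1] at hneg; omega
    · have hχ' : χ ∈ B' := Finset.mem_erase.2 ⟨hχ1, hχ⟩
      obtain ⟨i, rfl⟩ := hxsurj χ hχ'
      fin_cases i
      · have := hn0 hneg; exact ⟨by exact_mod_cast this.1, this.2⟩
      · have := hn1 hneg; exact ⟨by exact_mod_cast this.1, this.2⟩
      · have := hn2 hneg; exact ⟨by exact_mod_cast this.1, this.2⟩
      · have := hn3 hneg; exact ⟨by exact_mod_cast this.1, this.2⟩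
      · have := hn4 hneg; exact ⟨by exact_mod_cast this.1, this.2⟩
      · have := hn5 hneg; exact ⟨by exact_mod_cast this.1, this.2⟩

end Cfsg.Agent.Lib.Helper5_F5040_AR
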