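import Mathlib
import Cfsg.Prelude.Def_Characters

/-!
# Frobenius–Schur indicator: basic matrix facts (helper74)

Everything lives in `Cfsg.Agent.Lib.Helper74_FS`.
-/

set_option autoImplicit false

namespace Cfsg.Agent.Lib.Helper74_FS

open scoped ComplexConjugate Matrix ComplexOrder

variable {G : Type*} [Group G]

/-- The matrix of `ρ g` in the standard basis. -/
noncomputable def mat {n : ℕ} (ρ : Representation ℂ G (Fin n → ℂ)) (g : G) :
    Matrix (Fin n) (Fin n) ℂ :=
  LinearMap.toMatrix' (ρ g)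

theorem mat_mul {n : ℕ} (ρ : Representation ℂ G (Fin n → ℂ)) (g h : G) :
    mat ρ (g * h) = mat ρ g * mat ρ h := by
  simp [mat, LinearMap.toMatrix'_mul]

theorem mat_one {n : ℕ} (ρ : Representation ℂ G (Fin n → ℂ)) : mat ρ 1 = 1 := by
  simp [mat]

theorem mat_inv_mul {n : ℕ} (ρ : Representation ℂ G (Fin n → ℂ)) (g : G) :
    mat ρ g⁻¹ * mat ρ g = 1 := by
  rw [← mat_mul, inv_mul_cancel, mat_one]

theorem mat_mul_inv {n : ℕ} (ρ : Representation ℂ G (Fin n → ℂ)) (g : G) :
    mat ρ g * mat ρ g⁻¹ = 1 := by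
  rw [← mat_mul, mul_inv_cancel, mat_one]

theorem character_eq_trace {n : ℕ} (ρ : Representation ℂ G (Fin n → ℂ)) (g : G) :
    ρ.character g = (mat ρ g).trace := by
  unfold Representation.character mat
  rw [LinearMap.trace_eq_matrix_trace ℂ (Pi.basisFun ℂ (Fin n)), LinearMap.toMatrix_eq_toMatrix']

/-- The invariant Hermitian form `∑ g, X(g)ᴴ X(g)`. -/
noncomputable def hermForm [Fintype G] {n : ℕ} (ρ : Representation ℂ G (Fin n → ℂ)) :
    Matrix (Fin n) (Fin n) ℂ :=
  ∑ g : G, (mat ρ g)ᴴ * mat ρ g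

theorem hermForm_posDef [Fintype G] {n : ℕ} (ρ : Representation ℂ G (Fin n → ℂ)) :
    (hermForm ρ).PosDef := by
  classical
  unfold hermForm
  rw [← Finset.add_sum_erase _ _ (Finset.mem_univ (1 : G))]
  apply Matrix.PosDef.add_posSemidef
  · rw [mat_one]
    simpa using Matrix.PosDef.one
  · apply Matrix.posSemidef_sum
    intro g _
    exact Matrix.posSemidef_conjTranspose_mul_self _

theorem hermForm_invariant [Fintype G] {n : ℕ} (ρ : Representation ℂ G (Fin n → ℂ)) (g : G) :
    (mat ρ g)ᴴ * hermForm ρ * mat ρ g = hermForm ρ := by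
  unfold hermForm
  rw [Finset.mul_sum, Finset.sum_mul]
  refine Fintype.sum_equiv (Equiv.mulRight g) _ _ ?_
  intro h
  simp only [Equiv.coe_mulRight, mat_mul, Matrix.conjTranspose_mul, Matrix.mul_assoc]

/-- `χ(g⁻¹) = conj χ(g)` for a representation of a finite group on `Fin n → ℂ`. -/
theorem character_inv [Fintype G] {n : ℕ} (ρ : Representation ℂ G (Fin n → ℂ)) (g : G) :
    ρ.character g⁻¹ = conj (ρ.character g) := by
  have hH := hermForm_posDef ρ
  have hdet : IsUnit (hermForm ρ).det := by
    have := hH.det_pos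
    exact isUnit_iff_ne_zero.mpr (fun h => by rw [h] at this; exact lt_irrefl _ this)
  have hinv : mat ρ g⁻¹ = (hermForm ρ)⁻¹ * (mat ρ g)ᴴ * hermForm ρ := by
    have h1 := hermForm_invariant ρ g
    calc mat ρ g⁻¹ = (hermForm ρ)⁻¹ * hermForm ρ * mat ρ g⁻¹ := by
          rw [Matrix.nonsing_inv_mul _ hdet, Matrix.one_mul]
      _ = (hermForm ρ)⁻¹ * ((mat ρ g)ᴴ * hermForm ρ * mat ρ g) * mat ρ g⁻¹ := by rw [h1]
      _ = (hermForm ρ)⁻¹ * (mat ρ g)ᴴ * hermForm ρ * (mat ρ g * mat ρ g⁻¹) := by
          simp only [Matrix.mul_assoc]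
      _ = _ := by rw [mat_mul_inv, Matrix.mul_one]
  rw [character_eq_trace, character_eq_trace, hinv, Matrix.trace_mul_cycle,
    Matrix.mul_nonsing_inv _ hdet, Matrix.one_mul, Matrix.trace_conjTranspose]
  rfl

/-- A basis of the matrix space with computable coordinates. -/
noncomputable def matBasis (m : Type*) [Fintype m] [DecidableEq m] :
    Module.Basis (m × m) ℂ (Matrix m m ℂ) :=
  Module.Basis.ofEquivFun ((Matrix.ofLinearEquiv ℂ).symm.trans (LinearEquiv.curry ℂ ℂ m m).symm)

theorem trace_matrix_endo {m : Type*} [Fintype m] [DecidableEq m]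
    (f : Matrix m m ℂ →ₗ[ℂ] Matrix m m ℂ) :
    LinearMap.trace ℂ _ f = ∑ i, ∑ j, f (Matrix.single i j 1) i j := by
  rw [LinearMap.trace_eq_matrix_trace ℂ (matBasis m), Matrix.trace, Fintype.sum_prod_type]
  refine Finset.sum_congr rfl fun i _ => Finset.sum_congr rfl fun j _ => ?_
  simp only [Matrix.diag_apply, LinearMap.toMatrix_apply]
  have h1 : (matBasis m) (i, j) = Matrix.single i j 1 := by
    ext a b
    rw [matBasis, Module.Basis.coe_ofEquivFun]
    show (Pi.single (i,j) (1:ℂ) : m × m → ℂ) (a,b) = _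
    simp only [Matrix.single_apply, Pi.single_apply, Prod.mk.injEq]
    simp only [eq_comm]
  rw [h1]
  rfl

/-- trace of `M ↦ B * M * A`. -/
theorem trace_mul_mul {m : Type*} [Fintype m] [DecidableEq m] (A B : Matrix m m ℂ) :
    LinearMap.trace ℂ _ ((LinearMap.mulLeft ℂ B).comp (LinearMap.mulRight ℂ A)) =
      B.trace * A.trace := by
  rw [trace_matrix_endo]
  simp only [LinearMap.coe_comp, Function.comp_apply, LinearMap.mulRight_apply,
    LinearMap.mulLeft_apply, Matrix.trace, Matrix.diag_apply, Finset.sum_mul_sum]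
  refine Finset.sum_congr rfl fun i _ => Finset.sum_congr rfl fun j _ => ?_
  simp [Matrix.mul_apply, Matrix.single_apply, ite_and, Finset.sum_ite_eq]

/-- The transposition as a linear endomorphism of the matrix space. -/
noncomputable def transposeLin (m : Type*) [Fintype m] [DecidableEq m] :
    Matrix m m ℂ →ₗ[ℂ] Matrix m m ℂ :=
  (Matrix.transposeLinearEquiv m m ℂ ℂ).toLinearMap

@[simp] theorem transposeLin_apply {m : Type*} [Fintype m] [DecidableEq m] (M : Matrix m m ℂ) :
    transposeLin m M = Mᵀ := rfl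

/-- trace of `M ↦ (B * M * A)ᵀ`. -/
theorem trace_transpose_mul_mul {m : Type*} [Fintype m] [DecidableEq m] (A B : Matrix m m ℂ) :
    LinearMap.trace ℂ _ ((transposeLin m).comp
      ((LinearMap.mulLeft ℂ B).comp (LinearMap.mulRight ℂ A))) = (B * Aᵀ).trace := by
  rw [trace_matrix_endo]
  simp only [LinearMap.coe_comp, Function.comp_apply, LinearMap.mulRight_apply,
    LinearMap.mulLeft_apply, Matrix.trace, Matrix.diag_apply, transposeLin_apply,
    Matrix.transpose_apply]
  rw [Finset.sum_comm]
  refine Finset.sum_congr rfl fun i _ => ?_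
  simp [Matrix.mul_apply, Matrix.single_apply, ite_and, Finset.sum_ite_eq]


section FormRep

variable {n : ℕ} (ρ : Representation ℂ G (Fin n → ℂ))

/-- The representation of `G` on bilinear forms (as matrices): `g • M = X(g⁻¹)ᵀ M X(g⁻¹)`. -/
noncomputable def formRep : Representation ℂ G (Matrix (Fin n) (Fin n) ℂ) where
  toFun g := (LinearMap.mulLeft ℂ (mat ρ g⁻¹)ᵀ).comp (LinearMap.mulRight ℂ (mat ρ g⁻¹))
  map_one' := by
    ext M
    simp [mat_one]
  map_mul' g h := by
    ext M
    simp [mul_inv_rev, mat_mul, Matrix.transpose_mul, Matrix.mul_assoc]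

theorem formRep_apply (g : G) (M : Matrix (Fin n) (Fin n) ℂ) :
    formRep ρ g M = (mat ρ g⁻¹)ᵀ * M * mat ρ g⁻¹ := by
  simp [formRep, Matrix.mul_assoc]

theorem formRep_character (g : G) :
    (formRep ρ).character g = ρ.character g⁻¹ * ρ.character g⁻¹ := by
  rw [character_eq_trace]
  show LinearMap.trace ℂ _ ((LinearMap.mulLeft ℂ (mat ρ g⁻¹)ᵀ).comp
    (LinearMap.mulRight ℂ (mat ρ g⁻¹))) = _
  rw [trace_mul_mul, Matrix.trace_transpose]

theorem mem_invariants_formRep (M : Matrix (Fin n) (Fin n) ℂ) :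
    M ∈ (formRep ρ).invariants ↔ ∀ g : G, (mat ρ g)ᵀ * M * mat ρ g = M := by
  rw [Representation.mem_invariants]
  constructor
  · intro h g
    have := h g⁻¹
    rwa [formRep_apply, inv_inv] at this
  · intro h g
    rw [formRep_apply]
    exact h g⁻¹

theorem trace_transpose_formRep (g : G) :
    LinearMap.trace ℂ _ ((transposeLin (Fin n)).comp (formRep ρ g)) = ρ.character (g⁻¹ * g⁻¹) := by
  show LinearMap.trace ℂ _ ((transposeLin (Fin n)).comp ((LinearMap.mulLeft ℂ (mat ρ g⁻¹)ᵀ).comp
    (LinearMap.mulRight ℂ (mat ρ g⁻¹)))) = _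
  rw [trace_transpose_mul_mul, character_eq_trace, mat_mul, ← Matrix.transpose_mul,
    Matrix.trace_transpose]

end FormRep


section Main

variable [Fintype G] {n : ℕ} (ρ : Representation ℂ G (Fin n → ℂ))

/-- The Frobenius–Schur indicator of a function. -/
noncomputable def fsInd (χ : G → ℂ) : ℂ := (Nat.card G : ℂ)⁻¹ * ∑ s : G, χ (s * s)

theorem card_ne_zero : (Nat.card G : ℂ) ≠ 0 := by
  rw [Nat.card_eq_fintype_card]
  exact Nat.cast_ne_zero.mpr Fintype.card_ne_zero

/-- dimension of the space of invariant forms. -/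
theorem finrank_invariants_formRep :
    (Module.finrank ℂ (formRep ρ).invariants : ℂ) =
      (Nat.card G : ℂ)⁻¹ * ∑ g : G, ρ.character g * ρ.character g := by
  have : Invertible (Nat.card G : ℂ) := invertibleOfNonzero card_ne_zero
  rw [← Representation.card_inv_mul_sum_char_eq_finrank]
  congr 1
  refine Fintype.sum_equiv (Equiv.inv G) _ _ ?_
  intro g
  rw [formRep_character]
  rfl

theorem sum_character_sq_of_real [ρ.IsIrreducible] (hreal : ∀ g : G, (ρ.character g).im = 0) :
    (Nat.card G : ℂ)⁻¹ * ∑ g : G, ρ.character g * ρ.character g = 1 := by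
  have : Invertible (Nat.card G : ℂ) := invertibleOfNonzero card_ne_zero
  have h := Representation.char_orthonormal ρ ρ
  rw [if_pos ⟨Representation.Equiv.refl ρ⟩] at h
  rw [← h]
  congr 1
  refine Finset.sum_congr rfl fun g _ => ?_
  rw [character_inv, Complex.conj_eq_iff_im.mpr (hreal g)]

theorem finrank_invariants_formRep_of_real [ρ.IsIrreducible]
    (hreal : ∀ g : G, (ρ.character g).im = 0) :
    Module.finrank ℂ (formRep ρ).invariants = 1 := by
  have h := finrank_invariants_formRep ρ
  rw [sum_character_sq_of_real ρ hreal] at h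
  exact_mod_cast h

/-- trace of transposition composed with the averaging projection is the FS indicator -/
theorem trace_transpose_average :
    LinearMap.trace ℂ _ ((transposeLin (Fin n)).comp
      ((Nat.card G : ℂ)⁻¹ • ∑ g : G, formRep ρ g)) = fsInd ρ.character := by
  rw [← Module.End.mul_eq_comp, mul_smul_comm, Finset.mul_sum, map_smul, map_sum, smul_eq_mul]
  unfold fsInd
  congr 1
  refine Fintype.sum_equiv (Equiv.inv G) _ _ ?_
  intro g
  rw [Module.End.mul_eq_comp, trace_transpose_formRep]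
  rfl

theorem averageMap_formRep_eq [Invertible (Fintype.card G : ℂ)] :
    (formRep ρ).averageMap = (Nat.card G : ℂ)⁻¹ • ∑ g : G, formRep ρ g := by
  simp [Representation.averageMap, GroupAlgebra.average, map_sum, Nat.card_eq_fintype_card]

omit [Fintype G] in
theorem transpose_mem_invariants (M : Matrix (Fin n) (Fin n) ℂ)
    (hM : M ∈ (formRep ρ).invariants) : Mᵀ ∈ (formRep ρ).invariants := by
  rw [mem_invariants_formRep] at hM ⊢
  intro g
  have := congrArg Matrix.transpose (hM g)
  rw [Matrix.transpose_mul, Matrix.transpose_mul, Matrix.transpose_transpose,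
    ← Matrix.mul_assoc] at this
  exact this

/-- **Frobenius–Schur**: for an irreducible representation with real-valued character, every
invariant bilinear form `M` satisfies `Mᵀ = ν • M`. -/
theorem transpose_eq_fsInd_smul [ρ.IsIrreducible] (hreal : ∀ g : G, (ρ.character g).im = 0)
    (M : Matrix (Fin n) (Fin n) ℂ) (hM : M ∈ (formRep ρ).invariants) :
    Mᵀ = fsInd ρ.character • M := by
  have hfr := finrank_invariants_formRep_of_real ρ hreal
  obtain ⟨⟨M₀, hM₀I⟩, hM₀ne, hspan⟩ := finrank_eq_one_iff'.mp hfr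
  -- transposition acts on `M₀` by a scalar `c`
  obtain ⟨c, hc⟩ := hspan ⟨M₀ᵀ, transpose_mem_invariants ρ M₀ hM₀I⟩
  have hc' : M₀ᵀ = c • M₀ := by
    have := congrArg Subtype.val hc
    simpa using this.symm
  have hall : ∀ w ∈ (formRep ρ).invariants, wᵀ = c • w := by
    intro w hw
    obtain ⟨a, ha⟩ := hspan ⟨w, hw⟩
    have ha' : w = a • M₀ := by
      have := congrArg Subtype.val ha
      simpa using this.symm
    rw [ha', Matrix.transpose_smul, hc', smul_comm]
  -- compare traces
  have : Invertible (Fintype.card G : ℂ) :=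
    invertibleOfNonzero (Nat.cast_ne_zero.mpr Fintype.card_ne_zero)
  have hproj := (formRep ρ).isProj_averageMap
  have hcomp : (transposeLin (Fin n)).comp (formRep ρ).averageMap = c • (formRep ρ).averageMap := by
    ext1 w
    simp only [LinearMap.coe_comp, Function.comp_apply, transposeLin_apply, LinearMap.smul_apply]
    exact hall _ (hproj.map_mem w)
  have htr := trace_transpose_average ρ
  rw [← averageMap_formRep_eq, hcomp, map_smul, hproj.trace, hfr] at htr
  have hcν : c = fsInd ρ.character := by simpa using htr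
  rw [← hcν]
  exact hall M hM

theorem exists_invariant_form_ne_zero [ρ.IsIrreducible] (hreal : ∀ g : G, (ρ.character g).im = 0) :
    ∃ M : Matrix (Fin n) (Fin n) ℂ, M ≠ 0 ∧ M ∈ (formRep ρ).invariants := by
  have hfr := finrank_invariants_formRep_of_real ρ hreal
  obtain ⟨⟨M₀, hM₀I⟩, hM₀ne, -⟩ := finrank_eq_one_iff'.mp hfr
  refine ⟨M₀, ?_, hM₀I⟩
  intro h
  apply hM₀ne
  ext1
  exact h

end Main

end Cfsg.Agent.Lib.Helper74_FS
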