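import Mathlib
import Cfsg.Prelude.Def_Characters
import Cfsg.Agent.Lib.Helper74_FS
import Cfsg.Agent.Lib.Helper75_CharProd
import Cfsg.Agent.Lib.Helper3_CharBridge

/-!
# S0978 package F5040-ALTSQ (architect helper62, formalizer helper68)

The alternating square of a character is a character: `g ↦ (χ(g)² - χ(g²))/2`.

Construction: `Helper74_FS.formRep ρ` acts on `n × n` matrices by `M ↦ X(g⁻¹)ᵀ M X(g⁻¹)`; the
antisymmetric matrices form an invariant subspace `W`, `P = (1 - τ)/2` (`τ` the transposition) is a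
projection onto `W`, so the trace of `formRep ρ g` on `W` is `tr (formRep ρ g ∘ P)`
`= (χ(g⁻¹)² - χ(g⁻²))/2`; conjugate at the end.
-/

set_option autoImplicit false

namespace Cfsg.Agent.Lib.Helper68_F5040_ALTSQ

open scoped ComplexConjugate Matrix
open Cfsg.Agent.Lib.Helper74_FS

variable {G : Type*} [Group G] {n : ℕ} (ρ : Representation ℂ G (Fin n → ℂ))

/-- the antisymmetric matrices -/
def altSub (n : ℕ) : Submodule ℂ (Matrix (Fin n) (Fin n) ℂ) where
  carrier := {M | Mᵀ = -M}
  zero_mem' := by simp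
  add_mem' := by
    intro a b ha hb
    change aᵀ = -a at ha; change bᵀ = -b at hb; change (a + b)ᵀ = -(a + b)
    rw [Matrix.transpose_add, ha, hb, neg_add]
  smul_mem' := by
    intro c a ha
    change aᵀ = -a at ha; change (c • a)ᵀ = -(c • a)
    rw [Matrix.transpose_smul, ha, smul_neg]

theorem mem_altSub {M : Matrix (Fin n) (Fin n) ℂ} : M ∈ altSub n ↔ Mᵀ = -M := Iff.rfl

theorem formRep_mem (g : G) {M : Matrix (Fin n) (Fin n) ℂ} (hM : M ∈ altSub n) :
    formRep ρ g M ∈ altSub n := by
  rw [mem_altSub] at hM ⊢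
  rw [formRep_apply, Matrix.transpose_mul, Matrix.transpose_mul, Matrix.transpose_transpose, hM]
  simp [Matrix.mul_assoc]

/-- the projection `(1 - τ)/2` -/
noncomputable def proj (n : ℕ) : Matrix (Fin n) (Fin n) ℂ →ₗ[ℂ] Matrix (Fin n) (Fin n) ℂ :=
  (2 : ℂ)⁻¹ • (LinearMap.id - transposeLin (Fin n))

theorem proj_apply (M : Matrix (Fin n) (Fin n) ℂ) : proj n M = (2 : ℂ)⁻¹ • (M - Mᵀ) := rfl

theorem proj_mem (M : Matrix (Fin n) (Fin n) ℂ) : proj n M ∈ altSub n := by
  rw [mem_altSub, proj_apply, Matrix.transpose_smul, Matrix.transpose_sub,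
    Matrix.transpose_transpose, ← smul_neg, neg_sub]

theorem proj_of_mem {M : Matrix (Fin n) (Fin n) ℂ} (hM : M ∈ altSub n) : proj n M = M := by
  rw [mem_altSub] at hM
  rw [proj_apply, hM, sub_neg_eq_add, ← two_smul ℂ M, smul_smul]
  norm_num

/-- the subrepresentation on antisymmetric matrices -/
noncomputable def altRep : Representation ℂ G (altSub n) where
  toFun g := (formRep ρ g).restrict (fun _ hM => formRep_mem ρ g hM)
  map_one' := by
    ext M
    simp
  map_mul' g h := by
    ext M
    simp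

theorem altRep_eq (g : G) :
    altRep ρ g = ((proj n).codRestrict (altSub n) proj_mem).comp
      ((formRep ρ g).comp (altSub n).subtype) := by
  apply LinearMap.ext
  intro M
  apply Subtype.ext
  show formRep ρ g M = proj n (formRep ρ g M)
  rw [proj_of_mem (formRep_mem ρ g M.2)]

theorem altRep_character (g : G) :
    (altRep ρ).character g =
      (ρ.character g⁻¹ * ρ.character g⁻¹ - ρ.character (g⁻¹ * g⁻¹)) / 2 := by
  rw [show (altRep ρ).character g = LinearMap.trace ℂ _ (altRep ρ g) from rfl]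
  rw [altRep_eq, LinearMap.trace_comp_comm']
  have h1 : ((formRep ρ g).comp (altSub n).subtype).comp
      ((proj n).codRestrict (altSub n) proj_mem) = (formRep ρ g).comp (proj n) := by
    apply LinearMap.ext
    intro M
    rfl
  rw [h1]
  have h2 : (formRep ρ g).comp (proj n) =
      (2 : ℂ)⁻¹ • (formRep ρ g - (formRep ρ g).comp (transposeLin (Fin n))) := by
    apply LinearMap.ext
    intro M
    simp [proj_apply, map_sub]
  rw [h2, map_smul, map_sub, LinearMap.trace_comp_comm', trace_transpose_formRep]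
  have h3 : LinearMap.trace ℂ _ (formRep ρ g) = ρ.character g⁻¹ * ρ.character g⁻¹ :=
    formRep_character ρ g
  rw [h3, smul_eq_mul]
  ring

theorem isCharacter_altSq {G : Type*} [Group G] [Finite G] (χ : G → ℂ)
    (hχ : Cfsg.IsCharacter G χ) :
    Cfsg.IsCharacter G (fun g => (χ g ^ 2 - χ (g * g)) / 2) := by
  obtain ⟨n, ρ, rfl⟩ := hχ
  have hfin : Fintype G := Fintype.ofFinite G
  have h := Cfsg.Agent.Lib.Helper75_CharProd.isCharacter_conj
    (Cfsg.Agent.Lib.Helper3_CharBridge.isCharacter_of_rep (altRep ρ))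
  convert h using 1
  funext g
  rw [altRep_character, map_div₀, map_sub, map_mul, ← character_inv, ← character_inv, inv_inv,
    mul_inv_rev, inv_inv, map_ofNat, pow_two]

end Cfsg.Agent.Lib.Helper68_F5040_ALTSQ
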