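import Mathlib
import Cfsg.Prelude.Def_Blocks
import Cfsg.Agent.Lib.Helper17_Sylow
import Cfsg.Agent.Lib.Helper30_FourPQ
import Cfsg.Agent.Lib.Helper3_CharColumn
import Cfsg.Agent.Lib.Helper3_CharComplete
import Cfsg.Agent.Lib.Helper74_CharTools
import Cfsg.Agent.Lib.Helper75_CharArith
import Cfsg.Agent.Lib.Helper5_INV_CORE
import Cfsg.Agent.Lib.Helper62_INV_E2
import Cfsg.Agent.Lib.Helper10_F5040_INVVAL
import Cfsg.Agent.Lib.Helper68_F5040_ALTSQ
import Cfsg.Agent.Lib.Helper16_F5040_BR6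
import Cfsg.Agent.Lib.Helper5_F5040_AR

/-!
# F5040-HARD: order 5040, the case `N_G(P_7) = 7:6` (helper62)
-/

set_option autoImplicit false
set_option maxHeartbeats 1000000
open Cfsg Cfsg.Agent.Lib.Helper80_CharBasic Cfsg.Agent.Lib.Helper62_InvCount_Defs
open scoped ComplexConjugate

namespace Cfsg.Agent.Lib.Helper62_F5040_HARD

/-- divisors of `5040` that are `≡ 1 (mod 7)` with square `≤ 5040`. -/
theorem deg_plus (d : ℕ) (hd : d ∣ 5040) (h7 : (d : ℤ) ≡ 1 [ZMOD 7]) (hsq : d ^ 2 ≤ 5040) :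
    d = 1 ∨ d = 8 ∨ d = 15 ∨ d = 36 := by
  have hle : d ≤ 70 := by nlinarith
  have h7' : d % 7 = 1 := by
    have := h7.eq
    omega
  interval_cases d <;> omega

/-- divisors of `5040` that are `≡ -1 (mod 7)` with square `≤ 5040`. -/
theorem deg_minus (d : ℕ) (hd : d ∣ 5040) (h7 : (d : ℤ) ≡ -1 [ZMOD 7]) (hsq : d ^ 2 ≤ 5040) :
    d = 6 ∨ d = 20 ∨ d = 48 := by
  have hle : d ≤ 70 := by nlinarith
  have h7' : d % 7 = 6 := by
    have := h7.eq
    omega
  interval_cases d <;> omega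

theorem case_120_7 {G : Type*} [Group G] [Finite G] [IsSimpleGroup G] [Fact (Nat.Prime 7)]
    (hG : Nat.card G = 5040) (P : Sylow 7 G) (hP : Nat.card P = 7)
    (hN : Nat.card (Subgroup.normalizer ((P : Subgroup G) : Set G)) = 42)
    (hC : Subgroup.centralizer ((P : Subgroup G) : Set G) = (P : Subgroup G)) : False := by
  classical
  let _ : Fintype G := Fintype.ofFinite G
  let _ : Fintype (Cfsg.IrrCharacter G) := Fintype.ofFinite _
  -- `G` is perfect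
  have hnp : ¬ (Nat.card G).Prime := by rw [hG]; norm_num
  have hna : ∃ a b : G, a * b ≠ b * a := by
    by_contra h
    push Not at h
    exact Cfsg.Agent.Lib.Helper17_Sylow.not_isMulCommutative_of_not_prime hnp ⟨⟨h⟩⟩
  have hna' : ¬ ∀ a b : G, a * b = b * a := by
    obtain ⟨a, b, hab⟩ := hna
    exact fun h => hab (h a b)
  have hperf : commutator G = ⊤ := Cfsg.Agent.Lib.Helper30_FourPQ.perfect hna
  -- a nontrivial element of `P`
  have hPnt : Nontrivial (P : Subgroup G) := by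
    have : 1 < Nat.card (P : Subgroup G) := by
      have : Nat.card (P : Subgroup G) = 7 := hP
      omega
    exact Finite.one_lt_card_iff_nontrivial.mp this
  obtain ⟨⟨x, hx⟩, hx1'⟩ := exists_ne (1 : (P : Subgroup G))
  have hx1 : x ≠ 1 := fun h => hx1' (Subtype.ext h)
  obtain ⟨t, ht2, -, hcnt, -⟩ :=
    Cfsg.Agent.Lib.Helper5_INV_CORE.invol_core (p := 7) (by norm_num) P hP hC
      (by rw [hN]; norm_num) x hx hx1
  obtain ⟨B, δ, h1B, hBcard, hδ1, hBprop, hBout, hBrel, hBinv⟩ :=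
    Cfsg.Agent.Lib.Helper16_F5040_BR6.brauer_e6 (p := 7) (by norm_num) P hP hC
      (by rw [hN]) x hx hx1
  have ht1 : t ≠ 1 := by
    intro h
    rw [h, orderOf_one] at ht2
    omega
  have ht7 : ¬ 7 ∣ orderOf t := by rw [ht2]; norm_num
  have h17 : ¬ 7 ∣ orderOf (1 : G) := by rw [orderOf_one]; norm_num
  -- degrees and values at `t`
  set d : Cfsg.IrrCharacter G → ℕ := fun χ => Cfsg.charDegree (χ : G → ℂ) with hd
  have hχ1 : ∀ χ : Cfsg.IrrCharacter G, (χ : G → ℂ) 1 = (d χ : ℂ) := fun χ =>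
    Cfsg.Agent.Lib.Helper77_BlockBasics.apply_one_eq_charDegree χ
  choose jf hjf using fun χ : Cfsg.IrrCharacter G =>
    Cfsg.Agent.Lib.Helper10_F5040_INVVAL.invol_parity4 hperf χ t ht2
  set a : Cfsg.IrrCharacter G → ℤ := fun χ => (d χ : ℤ) - 4 * (jf χ : ℤ) with ha
  have hat : ∀ χ : Cfsg.IrrCharacter G, (χ : G → ℂ) t = (a χ : ℂ) := by
    intro χ
    rw [hjf χ]
    simp only [ha, hd]
    push_cast
    ring
  have hone1 : ((oneIrr G : Cfsg.IrrCharacter G) : G → ℂ) 1 = 1 := rfl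
  have honet : ((oneIrr G : Cfsg.IrrCharacter G) : G → ℂ) t = 1 := rfl
  have hd1 : d (oneIrr G) = 1 := by
    have h1 := hχ1 (oneIrr G)
    rw [hone1] at h1
    exact_mod_cast h1.symm
  have ha1 : a (oneIrr G) = 1 := by
    have h1 := hat (oneIrr G)
    rw [honet] at h1
    exact_mod_cast h1.symm
  -- degrees of the members of `B`
  have hdeg : ∀ χ ∈ B, χ ≠ oneIrr G →
      ((d χ = 8 ∨ d χ = 15 ∨ d χ = 36) ∧ δ χ = 1) ∨
        ((d χ = 6 ∨ d χ = 20 ∨ d χ = 48) ∧ δ χ = -1) := by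
    intro χ hχ hne
    obtain ⟨hδ, hcong, -⟩ := hBprop χ hχ
    have hdvd : d χ ∣ 5040 := by
      have := Cfsg.Agent.Lib.Helper77_BlockBasics.charDegree_dvd_card χ
      rwa [hG] at this
    have hsq : d χ ^ 2 ≤ 5040 := by
      have := Cfsg.Agent.Lib.Helper74_CharTools.charDegree_sq_le χ
      rwa [hG] at this
    have hne1 : d χ ≠ 1 := fun h =>
      hne (Cfsg.Agent.Lib.Helper74_CharTools.eq_oneIrr_of_degree_one hna' χ h)
    rcases hδ with h | h
    · rw [h] at hcong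
      rcases deg_plus (d χ) hdvd (by exact_mod_cast hcong) hsq with h' | h' | h' | h'
      · exact absurd h' hne1
      · exact Or.inl ⟨Or.inl h', h⟩
      · exact Or.inl ⟨Or.inr (Or.inl h'), h⟩
      · exact Or.inl ⟨Or.inr (Or.inr h'), h⟩
    · rw [h] at hcong
      rcases deg_minus (d χ) hdvd (by exact_mod_cast hcong) hsq with h' | h' | h'
      · exact Or.inr ⟨Or.inl h', h⟩
      · exact Or.inr ⟨Or.inr (Or.inl h'), h⟩
      · exact Or.inr ⟨Or.inr (Or.inr h'), h⟩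
  -- the two linear relations
  have hsumd : ∑ χ ∈ B, δ χ * (d χ : ℤ) = 0 := by
    have h := hBrel 1 h17
    have h2 : ((∑ χ ∈ B, δ χ * (d χ : ℤ) : ℤ) : ℂ) = 0 := by
      push_cast
      rw [← h]
      refine Finset.sum_congr rfl fun χ _ => ?_
      rw [hχ1 χ]
    exact_mod_cast h2
  have hsuma : ∑ χ ∈ B, δ χ * a χ = 0 := by
    have h := hBrel t ht7
    have h2 : ((∑ χ ∈ B, δ χ * a χ : ℤ) : ℂ) = 0 := by
      push_cast
      rw [← h]
      refine Finset.sum_congr rfl fun χ _ => ?_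
      rw [hat χ]
    exact_mod_cast h2
  -- sum of squares of degrees
  have hsq : ∑ χ ∈ B, (d χ) ^ 2 ≤ 5040 := by
    have h := Cfsg.Agent.Lib.Helper74_CharTools.sum_sq_charDegree (G := G)
    rw [hG] at h
    rw [← h]
    exact Finset.sum_le_sum_of_subset_of_nonneg (Finset.subset_univ _) (fun _ _ _ => Nat.zero_le _)
  -- values
  have hval : ∀ χ ∈ B, χ ≠ oneIrr G → ∃ j : ℕ, 1 ≤ j ∧ a χ = (d χ : ℤ) - 4 * (j : ℤ) := by
    intro χ _ hne
    refine ⟨jf χ, ?_, rfl⟩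
    by_contra hj
    have hj0 : jf χ = 0 := by omega
    have h1 : (χ : G → ℂ) t = (χ : G → ℂ) 1 := by
      rw [hjf χ, hχ1 χ, hj0]
      simp [hd]
    exact ht1 (Cfsg.Agent.Lib.Helper74_CharTools.eq_one_of_apply_eq χ hne t h1)
  have hbound : ∀ χ ∈ B, |a χ| ≤ (d χ : ℤ) := by
    intro χ _
    have hn := Cfsg.Agent.Lib.Helper62_INV_E2.irr_norm_le' χ t
    rw [hat χ] at hn
    have h2 : ((a χ : ℤ) : ℂ) = (((a χ : ℤ) : ℝ) : ℂ) := by push_cast; rfl
    rw [h2, Complex.norm_real, Real.norm_eq_abs] at hn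
    have h3 : ((|a χ| : ℤ) : ℝ) ≤ ((d χ : ℤ) : ℝ) := by
      push_cast
      exact hn
    exact_mod_cast h3
  -- the centralizer of `t`
  set c := Nat.card (Subgroup.centralizer ({t} : Set G)) with hcdef
  have hc : c ∣ 5040 := by
    have := Subgroup.card_subgroup_dvd_card (Subgroup.centralizer ({t} : Set G))
    rwa [hG] at this
  have hcolC := Cfsg.Agent.Lib.Helper3_CharColumn.column_orthogonality_self t
  have hcolZ : ∑ χ : Cfsg.IrrCharacter G, (a χ) ^ 2 = (c : ℤ) := by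
    have h2 : ((∑ χ : Cfsg.IrrCharacter G, (a χ) ^ 2 : ℤ) : ℂ) = ((c : ℤ) : ℂ) := by
      push_cast
      rw [← hcolC]
      refine Finset.sum_congr rfl fun χ _ => ?_
      rw [hat χ]
      have : conj ((a χ : ℤ) : ℂ) = ((a χ : ℤ) : ℂ) := by
        rw [← Complex.ofReal_intCast, Complex.conj_ofReal]
      rw [this]
      ring
    exact_mod_cast h2
  have hcol : ∑ χ ∈ B, (a χ) ^ 2 ≤ (c : ℤ) := by
    rw [← hcolZ]
    exact Finset.sum_le_sum_of_subset_of_nonneg (Finset.subset_univ _)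
      (fun _ _ _ => by positivity)
  -- the class multiplication equation
  have heq : (c : ℚ) ^ 2 = 720 * ∑ χ ∈ B, (δ χ : ℚ) * (a χ : ℚ) ^ 2 / (d χ : ℚ) := by
    have h1 := hBinv t
    rw [h1] at hcnt
    have h2 : ((c : ℚ) ^ 2 : ℚ) = ((720 * ∑ χ ∈ B, (δ χ : ℚ) * (a χ : ℚ) ^ 2 / (d χ : ℚ) : ℚ)) := by
      have h3 : (((c : ℚ) ^ 2 : ℚ) : ℂ) =
          ((720 * ∑ χ ∈ B, (δ χ : ℚ) * (a χ : ℚ) ^ 2 / (d χ : ℚ) : ℚ) : ℂ) := by
        push_cast
        have h4 : (7 : ℂ) * (c : ℂ) ^ 2 = (5040 : ℂ) *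
            ∑ χ ∈ B, (δ χ : ℂ) * ((a χ : ℤ) : ℂ) ^ 2 / (d χ : ℂ) := by
          have := hcnt
          rw [hG] at this
          push_cast at this
          rw [this]
          congr 1
          refine Finset.sum_congr rfl fun χ _ => ?_
          rw [hat χ]
        linear_combination (1 / 7 : ℂ) * h4
      exact_mod_cast h3
    exact h2
  obtain ⟨hc48, hsum48, ⟨ψ, hψB, hψd, hψa⟩, hneg⟩ :=
    Cfsg.Agent.Lib.Helper5_F5040_AR.AR5040 B (oneIrr G) d δ a c h1B hBcard hδ1 hd1 ha1 hdeg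
      hsumd hsq hval hbound hsuma hc hcol heq
  -- characters outside `B` vanish at `t`
  have hout : ∀ χ : Cfsg.IrrCharacter G, χ ∉ B → a χ = 0 := by
    intro χ hχ
    have hsplit : ∑ χ ∈ Finset.univ \ B, (a χ) ^ 2 + ∑ χ ∈ B, (a χ) ^ 2 =
        ∑ χ : Cfsg.IrrCharacter G, (a χ) ^ 2 :=
      Finset.sum_sdiff (Finset.subset_univ B)
    rw [hcolZ, hsum48, hc48] at hsplit
    have hzero : ∑ χ ∈ Finset.univ \ B, (a χ) ^ 2 = 0 := by
      push_cast at hsplit
      linarith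
    have := (Finset.sum_eq_zero_iff_of_nonneg (fun _ _ => by positivity)).mp hzero χ
      (Finset.mem_sdiff.mpr ⟨Finset.mem_univ _, hχ⟩)
    exact pow_eq_zero_iff (two_ne_zero) |>.mp this
  -- the alternating square of `ψ`
  have hψchar : Cfsg.IsCharacter G (ψ : G → ℂ) :=
    Cfsg.Agent.Lib.Helper3_CharBridge.isCharacter_of_isIrrCharacter ψ.2
  have hΛ := Cfsg.Agent.Lib.Helper68_F5040_ALTSQ.isCharacter_altSq (ψ : G → ℂ) hψchar
  set Λ : G → ℂ := fun g => ((ψ : G → ℂ) g ^ 2 - (ψ : G → ℂ) (g * g)) / 2 with hΛdef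
  have hΛ1 : Λ 1 = 15 := by
    simp only [hΛdef, mul_one]
    rw [hχ1 ψ, hψd]
    norm_num
  have htt : t * t = 1 := by
    rw [← pow_two, ← ht2, pow_orderOf_eq_one]
  have hΛt : Λ t = -1 := by
    simp only [hΛdef, htt]
    rw [hχ1 ψ, hat ψ, hψa, hψd]
    norm_num
  choose m hm using fun χ : Cfsg.IrrCharacter G =>
    Cfsg.Agent.Lib.Helper75_CharArith.classInner_isCharacter_nat hΛ
      (Cfsg.Agent.Lib.Helper3_CharBridge.isCharacter_of_isIrrCharacter χ.2)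
  have hΛcf : Cfsg.IsClassFunction G Λ :=
    Cfsg.Agent.Lib.Helper3_CharBridge.isClassFunction_of_isCharacter hΛ
  have hexp := Cfsg.Agent.Lib.Helper3_CharComplete.classFunction_eq_sum Λ hΛcf
  have hev : ∀ g : G, Λ g = ∑ χ : Cfsg.IrrCharacter G, (m χ : ℂ) * (χ : G → ℂ) g := by
    intro g
    have := congrFun hexp g
    rw [Finset.sum_apply] at this
    rw [this]
    refine Finset.sum_congr rfl fun χ _ => ?_
    rw [Pi.smul_apply, smul_eq_mul, hm χ]
  have h15 : ∑ χ : Cfsg.IrrCharacter G, (m χ : ℤ) * (d χ : ℤ) = 15 := by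
    have h := hev 1
    rw [hΛ1] at h
    have h2 : ((∑ χ : Cfsg.IrrCharacter G, (m χ : ℤ) * (d χ : ℤ) : ℤ) : ℂ) = ((15 : ℤ) : ℂ) := by
      push_cast
      rw [h]
      refine Finset.sum_congr rfl fun χ _ => ?_
      rw [hχ1 χ]
    exact_mod_cast h2
  have hm1 : ∑ χ : Cfsg.IrrCharacter G, (m χ : ℤ) * a χ = -1 := by
    have h := hev t
    rw [hΛt] at h
    have h2 : ((∑ χ : Cfsg.IrrCharacter G, (m χ : ℤ) * a χ : ℤ) : ℂ) = ((-1 : ℤ) : ℂ) := by
      push_cast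
      rw [h]
      refine Finset.sum_congr rfl fun χ _ => ?_
      rw [hat χ]
    exact_mod_cast h2
  -- a constituent negative at `t`
  have hex : ∃ χ₀ : Cfsg.IrrCharacter G, a χ₀ < 0 ∧ 1 ≤ m χ₀ := by
    by_contra hno
    push Not at hno
    have : 0 ≤ ∑ χ : Cfsg.IrrCharacter G, (m χ : ℤ) * a χ := by
      refine Finset.sum_nonneg fun χ _ => ?_
      by_cases hneg' : a χ < 0
      · have := hno χ hneg'
        have h0 : m χ = 0 := by omega
        rw [h0]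
        simp
      · push Not at hneg'
        positivity
    omega
  obtain ⟨χ₀, hχ₀neg, hχ₀m⟩ := hex
  have hχ₀B : χ₀ ∈ B := by
    by_contra h
    have := hout χ₀ h
    omega
  obtain ⟨hχ₀d, hχ₀a⟩ := hneg χ₀ hχ₀B hχ₀neg
  -- all other multiplicities vanish
  have hdpos : ∀ χ : Cfsg.IrrCharacter G, 1 ≤ d χ := by
    intro χ
    have hdv := Cfsg.Agent.Lib.Helper77_BlockBasics.charDegree_dvd_card χ
    rw [hG] at hdv
    exact Nat.pos_of_dvd_of_pos hdv (by norm_num)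
  have hothers : ∀ χ : Cfsg.IrrCharacter G, χ ≠ χ₀ → m χ = 0 := by
    intro χ hne
    by_contra hmne
    have hm1' : 1 ≤ m χ := by omega
    have h2 : (m χ₀ : ℤ) * (d χ₀ : ℤ) + (m χ : ℤ) * (d χ : ℤ) ≤
        ∑ χ : Cfsg.IrrCharacter G, (m χ : ℤ) * (d χ : ℤ) := by
      have hsub : ({χ₀, χ} : Finset (Cfsg.IrrCharacter G)) ⊆ Finset.univ := Finset.subset_univ _
      have := Finset.sum_le_sum_of_subset_of_nonneg hsub
        (f := fun χ : Cfsg.IrrCharacter G => (m χ : ℤ) * (d χ : ℤ)) (fun _ _ _ => by positivity)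
      rwa [Finset.sum_pair (fun h => hne h.symm)] at this
    rw [h15, hχ₀d] at h2
    have h3 : (1 : ℤ) ≤ (m χ : ℤ) * (d χ : ℤ) := by
      have := hdpos χ
      have h4 : (1 : ℤ) ≤ (m χ : ℤ) := by exact_mod_cast hm1'
      have h5 : (1 : ℤ) ≤ (d χ : ℤ) := by exact_mod_cast this
      nlinarith
    have h6 : (1 : ℤ) ≤ (m χ₀ : ℤ) := by exact_mod_cast hχ₀m
    push_cast at h2
    nlinarith
  have hmχ₀ : m χ₀ = 1 := by
    have h2 : (m χ₀ : ℤ) * (d χ₀ : ℤ) ≤ ∑ χ : Cfsg.IrrCharacter G, (m χ : ℤ) * (d χ : ℤ) :=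
      Finset.single_le_sum (f := fun χ : Cfsg.IrrCharacter G => (m χ : ℤ) * (d χ : ℤ))
        (fun _ _ => by positivity) (Finset.mem_univ χ₀)
    rw [h15, hχ₀d] at h2
    push_cast at h2
    have h6 : (1 : ℤ) ≤ (m χ₀ : ℤ) := by exact_mod_cast hχ₀m
    have : (m χ₀ : ℤ) ≤ 1 := by nlinarith
    omega
  have hfinal : ∑ χ : Cfsg.IrrCharacter G, (m χ : ℤ) * a χ = (m χ₀ : ℤ) * a χ₀ := by
    refine Finset.sum_eq_single χ₀ (fun χ _ hne => ?_) (fun h => absurd (Finset.mem_univ _) h)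
    rw [hothers χ hne]
    simp
  rw [hm1, hmχ₀, hχ₀a] at hfinal
  norm_num at hfinal

end Cfsg.Agent.Lib.Helper62_F5040_HARD
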