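import Mathlib
import Cfsg.Agent.Lib.Helper17_Sylow

/-!
F5040-CASE120B (helper62's S0978 market): no simple group of order 5040 has a Sylow 7-subgroup `P` with
`|N_G(P)| = 42` and `|C_G(P)| = 21`.  Elementary: `w ∈ C_G(P)` of order 3, `M = C_G(w)` contains `P` and a Sylow
3-subgroup, so `63 ∣ |M|`; Sylow counting in `M` leaves `|M| = 630` (index 8: impossible, no commuting elements of
orders 7 and 3 act faithfully on 8 points) and `|M| = 315` (Burnside transfer gives a normal subgroup of order 5
centralised by `P`).  helper63.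
-/

set_option autoImplicit false

namespace Cfsg.Agent.Lib.Helper63_F5040_CASE120B

open Subgroup


/-- membership in the fixed points of a cyclic subgroup -/
theorem mem_fixedPoints_zpowers {G α : Type*} [Group G] [MulAction G α] (g : G) (a : α) :
    a ∈ MulAction.fixedPoints (zpowers g) α ↔ g • a = a := by
  constructor
  · intro h
    exact h ⟨g, mem_zpowers g⟩
  · intro h c
    have h1 : zpowers g ≤ MulAction.stabilizer G a := by
      rw [zpowers_le]; exact h
    exact h1 c.2

/-- A simple group with a subgroup of index 8 has no commuting elements of orders 7 and 3. -/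
theorem no_index_eight {G : Type*} [Group G] [Finite G] [IsSimpleGroup G] (M : Subgroup G)
    (hM : M.index = 8) (x w : G) (hx : orderOf x = 7) (hw : orderOf w = 3) (hxw : Commute x w) :
    False := by
  have : Fact (Nat.Prime 7) := ⟨by norm_num⟩
  have : Fact (Nat.Prime 3) := ⟨by norm_num⟩
  have hMtop : M ≠ ⊤ := by
    rintro rfl
    simp at hM
  have hinj := Cfsg.Agent.Lib.Helper17_Sylow.toPermHom_injective_of_ne_top M hMtop
  have hcard : Nat.card (G ⧸ M) = 8 := hM
  have hX : IsPGroup 7 (zpowers x) :=
    IsPGroup.of_card (n := 1) (by rw [Nat.card_zpowers, hx]; norm_num)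
  have hW : IsPGroup 3 (zpowers w) :=
    IsPGroup.of_card (n := 1) (by rw [Nat.card_zpowers, hw]; norm_num)
  -- a nontrivial element moves a point
  have hlt : ∀ g : G, g ≠ 1 → Nat.card (MulAction.fixedPoints (zpowers g) (G ⧸ M)) < 8 := by
    intro g hg
    have hex : ∃ a : G ⧸ M, g • a ≠ a := by
      by_contra hcon
      push Not at hcon
      apply hg
      apply hinj
      ext a
      simp [MulAction.toPermHom_apply, hcon a]
    obtain ⟨a, ha⟩ := hex
    have hss : MulAction.fixedPoints (zpowers g) (G ⧸ M) ⊂ Set.univ := by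
      rw [Set.ssubset_univ_iff]
      intro h
      apply ha
      have : a ∈ MulAction.fixedPoints (zpowers g) (G ⧸ M) := by rw [h]; trivial
      exact (mem_fixedPoints_zpowers g a).1 this
    have := Set.ncard_lt_ncard hss (Set.toFinite _)
    rw [Set.ncard_univ, hcard] at this
    rwa [Nat.card_coe_set_eq]
  have hx1 : x ≠ 1 := by
    rintro rfl
    simp at hx
  have hw1 : w ≠ 1 := by
    rintro rfl
    simp at hw
  have h1 := hX.card_modEq_card_fixedPoints (G ⧸ M)
  have h2 := hW.card_modEq_card_fixedPoints (G ⧸ M)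
  rw [hcard] at h1 h2
  have hFx : Nat.card (MulAction.fixedPoints (zpowers x) (G ⧸ M)) = 1 := by
    have := hlt x hx1
    unfold Nat.ModEq at h1
    omega
  have hFw : Nat.card (MulAction.fixedPoints (zpowers w) (G ⧸ M)) = 2 ∨
      Nat.card (MulAction.fixedPoints (zpowers w) (G ⧸ M)) = 5 := by
    have := hlt w hw1
    unfold Nat.ModEq at h2
    omega
  -- sub-action of ⟨x⟩ on the fixed points of w
  let S : SubMulAction (zpowers x) (G ⧸ M) :=
    { carrier := MulAction.fixedPoints (zpowers w) (G ⧸ M)
      smul_mem' := by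
        rintro ⟨c, hc⟩ a ha
        have ha' : w • a = a := (mem_fixedPoints_zpowers w a).1 ha
        apply (mem_fixedPoints_zpowers w _).2
        obtain ⟨k, rfl⟩ := mem_zpowers_iff.1 hc
        have hcomm : Commute (x ^ k) w := hxw.zpow_left k
        show w • ((x ^ k) • a) = (x ^ k) • a
        rw [smul_smul, ← hcomm.eq, ← smul_smul, ha'] }
  have h3 := hX.card_modEq_card_fixedPoints (↥S)
  have hS : Nat.card ↥S = Nat.card (MulAction.fixedPoints (zpowers w) (G ⧸ M)) := rfl
  have hle : Nat.card (MulAction.fixedPoints (zpowers x) ↥S) ≤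
      Nat.card (MulAction.fixedPoints (zpowers x) (G ⧸ M)) := by
    apply Nat.card_le_card_of_injective
      (fun a : MulAction.fixedPoints (zpowers x) ↥S =>
        (⟨a.1.1, fun c => congrArg Subtype.val (a.2 c)⟩ :
          MulAction.fixedPoints (zpowers x) (G ⧸ M)))
    intro a b hab
    apply Subtype.ext
    apply Subtype.ext
    have := congrArg Subtype.val hab
    exact this
  rw [hS] at h3
  unfold Nat.ModEq at h3
  have hle2 : Nat.card (MulAction.fixedPoints (zpowers x) ↥S) ≤
      Nat.card (MulAction.fixedPoints (zpowers w) (G ⧸ M)) := by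
    rw [← hS]
    exact Nat.card_le_card_of_injective (fun a => a.1) Subtype.val_injective
  omega



/-- In a group of order 315 whose Sylow 7-subgroup `Q` satisfies `N(Q) ≤ C(Q)`, some element of order 5
centralises `Q` (Burnside's transfer theorem). -/
theorem exists_five_central {H : Type*} [Group H] [Finite H] (hH : Nat.card H = 315) (Q : Sylow 7 H)
    (hQ : normalizer ((Q : Subgroup H) : Set H) ≤ centralizer ((Q : Subgroup H) : Set H)) :
    ∃ r : H, orderOf r = 5 ∧ ∀ y ∈ (Q : Subgroup H), r * y = y * r := by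
  have : Fact (Nat.Prime 7) := ⟨by norm_num⟩
  have : Fact (Nat.Prime 5) := ⟨by norm_num⟩
  have hQc : Nat.card (Q : Subgroup H) = 7 := by
    have := Cfsg.Agent.Lib.Helper17_Sylow.card_sylow_eq_pow (p := 7) (k := 1) (m := 45)
      (by rw [hH]; norm_num) (by norm_num) Q
    simpa using this
  have hcompl := MonoidHom.ker_transferSylow_isComplement' Q hQ
  have hLcard : Nat.card (MonoidHom.transferSylow Q hQ).ker = 45 := by
    have := hcompl.card_mul_card
    rw [hQc, hH] at this
    omega
  have hn5 : Nat.card (Sylow 5 (MonoidHom.transferSylow Q hQ).ker) = 1 := by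
    have h1 := Cfsg.Agent.Lib.Helper17_Sylow.card_sylow_dvd
      (G := (MonoidHom.transferSylow Q hQ).ker) (p := 5) (k := 1) (m := 9)
      (by rw [hLcard]; norm_num) (by norm_num)
    have h2 := card_sylow_modEq_one 5 (MonoidHom.transferSylow Q hQ).ker
    have h3 : Nat.card (Sylow 5 (MonoidHom.transferSylow Q hQ).ker) ≤ 9 :=
      Nat.le_of_dvd (by norm_num) h1
    unfold Nat.ModEq at h2
    generalize Nat.card (Sylow 5 (MonoidHom.transferSylow Q hQ).ker) = n at h1 h2 h3 ⊢
    interval_cases n <;> simp_all
  have hsub : Subsingleton (Sylow 5 (MonoidHom.transferSylow Q hQ).ker) :=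
    (Nat.card_eq_one_iff_unique.1 hn5).1
  obtain ⟨R⟩ : Nonempty (Sylow 5 (MonoidHom.transferSylow Q hQ).ker) := Sylow.nonempty
  have hRchar : (R : Subgroup (MonoidHom.transferSylow Q hQ).ker).Characteristic :=
    Sylow.characteristic_of_subsingleton R
  have hRn : ((R : Subgroup (MonoidHom.transferSylow Q hQ).ker).map
      (MonoidHom.transferSylow Q hQ).ker.subtype).Normal :=
    ConjAct.normal_of_characteristic_of_normal
  have hRcard : Nat.card ((R : Subgroup (MonoidHom.transferSylow Q hQ).ker).map
      (MonoidHom.transferSylow Q hQ).ker.subtype) = 5 := by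
    rw [Subgroup.card_map_of_injective (Subgroup.subtype_injective _)]
    have := Cfsg.Agent.Lib.Helper17_Sylow.card_sylow_eq_pow
      (G := (MonoidHom.transferSylow Q hQ).ker) (p := 5) (k := 1) (m := 9)
      (by rw [hLcard]; norm_num) (by norm_num) R
    simpa using this
  generalize ((R : Subgroup (MonoidHom.transferSylow Q hQ).ker).map
      (MonoidHom.transferSylow Q hQ).ker.subtype) = R' at hRn hRcard
  have hdvd := Cfsg.Agent.Lib.Helper17_Sylow.relIndex_centralizer_normalizer_dvd_pred (p := 5) R' hRcard
  rw [Subgroup.normalizer_eq_top, Subgroup.relIndex_top_right] at hdvd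
  have hdvd2 : (centralizer (R' : Set H)).index ∣ 315 := hH ▸ Subgroup.index_dvd_card _
  have hidx : (centralizer (R' : Set H)).index = 1 := by
    have := Nat.dvd_gcd hdvd hdvd2
    simpa using this
  have hcent : centralizer (R' : Set H) = ⊤ := Subgroup.index_eq_one.1 hidx
  obtain ⟨r, hr⟩ := exists_prime_orderOf_dvd_card' (G := R') 5 (by rw [hRcard])
  refine ⟨(r : H), by rw [Subgroup.orderOf_coe]; exact hr, fun y _ => ?_⟩
  have hy : y ∈ centralizer (R' : Set H) := by rw [hcent]; trivial
  exact (Subgroup.mem_centralizer_iff.1 hy (r : H) r.2)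


/-- The arithmetic of the Sylow 7-count in `M = C_G(w)`. -/
theorem numerics (m c n idx : ℕ) (hc : c = 21 ∨ c = 42) (hcn : c * n = m) (hn : n % 7 = 1)
    (h63 : 63 ∣ m) (hidx : idx * m = 5040) (h8 : 8 ≤ idx) :
    (m = 315 ∧ c = 21 ∧ idx = 16) ∨ (m = 630 ∧ c = 42 ∧ idx = 8) := by
  obtain ⟨k, rfl⟩ := h63
  have hk : idx * k = 80 := by nlinarith
  have hk10 : k ≤ 10 := by nlinarith
  have hk0 : 0 < k := by
    rcases Nat.eq_zero_or_pos k with h | h
    · subst h; omega
    · exact h
  interval_cases k <;> rcases hc with rfl | rfl <;> omega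

/-- F5040-CASE120B. -/
theorem case_120_21 {G : Type*} [Group G] [Finite G] [IsSimpleGroup G] [Fact (Nat.Prime 7)]
    (hG : Nat.card G = 5040) (P : Sylow 7 G) (hP : Nat.card P = 7)
    (hN : Nat.card (Subgroup.normalizer ((P : Subgroup G) : Set G)) = 42)
    (hC : Nat.card (Subgroup.centralizer ((P : Subgroup G) : Set G)) = 21) : False := by
  have : Fact (Nat.Prime 3) := ⟨by norm_num⟩
  obtain ⟨w', hw'⟩ := exists_prime_orderOf_dvd_card'
    (G := Subgroup.centralizer ((P : Subgroup G) : Set G)) 3 (by rw [hC]; norm_num)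
  obtain ⟨x', hx'⟩ := exists_prime_orderOf_dvd_card' (G := (P : Subgroup G)) 7 (by rw [hP])
  have hw : orderOf (w' : G) = 3 := by rw [Subgroup.orderOf_coe]; exact hw'
  have hx : orderOf (x' : G) = 7 := by rw [Subgroup.orderOf_coe]; exact hx'
  have hwC : (w' : G) ∈ Subgroup.centralizer ((P : Subgroup G) : Set G) := w'.2
  have hxP : (x' : G) ∈ (P : Subgroup G) := x'.2
  generalize (w' : G) = w at hw hwC
  generalize (x' : G) = x at hx hxP
  have hxw : Commute x w := Subgroup.mem_centralizer_iff.1 hwC x hxP
  -- M = C_G(w)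
  have hPM : (P : Subgroup G) ≤ Subgroup.centralizer ({w} : Set G) := by
    intro y hy
    rw [Subgroup.mem_centralizer_iff]
    intro h hh
    rw [Set.mem_singleton_iff] at hh
    rw [hh]
    exact (Subgroup.mem_centralizer_iff.1 hwC y hy).symm
  have hwM : w ∈ Subgroup.centralizer ({w} : Set G) := by
    rw [Subgroup.mem_centralizer_iff]
    intro h hh
    rw [Set.mem_singleton_iff] at hh
    rw [hh]
  have hWM : Subgroup.zpowers w ≤ Subgroup.centralizer ({w} : Set G) :=
    (Subgroup.zpowers_le).2 hwM
  have hCN : Subgroup.centralizer ((P : Subgroup G) : Set G) ≤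
      Subgroup.normalizer ((P : Subgroup G) : Set G) := Subgroup.centralizer_le_normalizer _
  have hcyc : IsCyclic (P : Subgroup G) := isCyclic_of_prime_card hP
  have hPC : (P : Subgroup G) ≤ Subgroup.centralizer ((P : Subgroup G) : Set G) :=
    Cfsg.Agent.Lib.Helper17_Sylow.le_centralizer_of_isCyclic _
  have hWC : Subgroup.zpowers w ≤ Subgroup.centralizer ((P : Subgroup G) : Set G) :=
    (Subgroup.zpowers_le).2 hwC
  have hCM : Subgroup.centralizer ((P : Subgroup G) : Set G) ≤
      Subgroup.centralizer ({w} : Set G) := by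
    have h1 : (P : Subgroup G) ⊔ Subgroup.zpowers w ≤
        Subgroup.centralizer ((P : Subgroup G) : Set G) := sup_le hPC hWC
    have h2 : 21 ≤ Nat.card ((P : Subgroup G) ⊔ Subgroup.zpowers w : Subgroup G) := by
      have a : 7 ∣ Nat.card ((P : Subgroup G) ⊔ Subgroup.zpowers w : Subgroup G) := by
        have := Subgroup.card_dvd_of_le
          (le_sup_left : (P : Subgroup G) ≤ (P : Subgroup G) ⊔ Subgroup.zpowers w)
        rwa [hP] at this
      have b : 3 ∣ Nat.card ((P : Subgroup G) ⊔ Subgroup.zpowers w : Subgroup G) := by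
        have := Subgroup.card_dvd_of_le
          (le_sup_right : Subgroup.zpowers w ≤ (P : Subgroup G) ⊔ Subgroup.zpowers w)
        rwa [Nat.card_zpowers, hw] at this
      have c : 7 * 3 ∣ Nat.card ((P : Subgroup G) ⊔ Subgroup.zpowers w : Subgroup G) :=
        Nat.Coprime.mul_dvd_of_dvd_of_dvd (by norm_num) a b
      exact Nat.le_of_dvd Nat.card_pos c
    have h3 : (P : Subgroup G) ⊔ Subgroup.zpowers w =
        Subgroup.centralizer ((P : Subgroup G) : Set G) :=
      Subgroup.eq_of_le_of_card_ge h1 (by rw [hC]; exact h2)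
    rw [← h3]
    exact sup_le hPM hWM
  -- a Sylow 3-subgroup containing w lies in M
  obtain ⟨S, hS⟩ := (IsPGroup.of_card (n := 1) (by rw [Nat.card_zpowers, hw]; norm_num) :
    IsPGroup 3 (Subgroup.zpowers w)).exists_le_sylow
  have hScard : Nat.card (S : Subgroup G) = 9 := by
    have := Cfsg.Agent.Lib.Helper17_Sylow.card_sylow_eq_pow (p := 3) (k := 2) (m := 560)
      (by rw [hG]; norm_num) (by norm_num) S
    simpa using this
  have hSM : (S : Subgroup G) ≤ Subgroup.centralizer ({w} : Set G) := by
    intro y hy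
    rw [Subgroup.mem_centralizer_iff]
    intro h hh
    rw [Set.mem_singleton_iff] at hh
    rw [hh]
    have hcomm := (IsPGroup.isMulCommutative_of_card_eq_prime_sq (p := 3) (G := (S : Subgroup G))
      (by rw [hScard]; norm_num)).is_comm.comm ⟨w, hS (Subgroup.mem_zpowers w)⟩ ⟨y, hy⟩
    exact congrArg Subtype.val hcomm
  have h9 : 9 ∣ Nat.card (Subgroup.centralizer ({w} : Set G)) := by
    have := Subgroup.card_dvd_of_le hSM
    rwa [hScard] at this
  have h7 : 7 ∣ Nat.card (Subgroup.centralizer ({w} : Set G)) := by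
    have := Subgroup.card_dvd_of_le hPM
    rwa [hP] at this
  have h63 : 63 ∣ Nat.card (Subgroup.centralizer ({w} : Set G)) := by
    have : 9 * 7 ∣ Nat.card (Subgroup.centralizer ({w} : Set G)) :=
      Nat.Coprime.mul_dvd_of_dvd_of_dvd (by norm_num) h9 h7
    simpa using this
  -- M is proper of index at least 8
  have hnc : ¬ IsMulCommutative G :=
    Cfsg.Agent.Lib.Helper17_Sylow.not_isMulCommutative_of_not_prime (by rw [hG]; norm_num)
  have hw1 : w ≠ 1 := by
    rintro rfl
    simp at hw
  have hMtop : Subgroup.centralizer ({w} : Set G) ≠ ⊤ := by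
    intro hM
    have hwz : w ∈ Subgroup.center G := by
      rw [Subgroup.mem_center_iff]
      intro g
      have hg : g ∈ Subgroup.centralizer ({w} : Set G) := by rw [hM]; trivial
      exact (Subgroup.mem_centralizer_iff.1 hg w rfl).symm
    rcases IsSimpleGroup.eq_bot_or_eq_top_of_normal (Subgroup.center G) inferInstance with h | h
    · rw [h, Subgroup.mem_bot] at hwz
      exact hw1 hwz
    · apply hnc
      refine ⟨⟨fun a b => ?_⟩⟩
      have ha : a ∈ Subgroup.center G := by rw [h]; trivial
      exact ((Subgroup.mem_center_iff.1 ha) b).symm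
  have hidx := Subgroup.index_mul_card (Subgroup.centralizer ({w} : Set G))
  have h8 : 8 ≤ (Subgroup.centralizer ({w} : Set G)).index := by
    by_contra hlt
    push Not at hlt
    have h1 := Cfsg.Agent.Lib.Helper17_Sylow.two_mul_card_dvd_factorial_index hnc _ hMtop
    have h2 : ((Subgroup.centralizer ({w} : Set G)).index).factorial ∣ (7).factorial :=
      Nat.factorial_dvd_factorial (by omega)
    have h3 := h1.trans h2
    rw [hG] at h3
    norm_num [Nat.factorial] at h3
  -- Sylow 7-subgroups of M
  have hnorm : Nat.card (Subgroup.normalizer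
      (((P.subtype hPM : Sylow 7 (Subgroup.centralizer ({w} : Set G))) :
        Subgroup (Subgroup.centralizer ({w} : Set G))) : Set (Subgroup.centralizer ({w} : Set G)))) =
      Nat.card (Subgroup.normalizer ((P : Subgroup G) : Set G) ⊓
        Subgroup.centralizer ({w} : Set G) : Subgroup G) := by
    rw [Sylow.coe_subtype, ← Subgroup.subgroupOf_normalizer_eq hPM,
      ← Subgroup.inf_subgroupOf_right]
    exact Nat.card_congr (Subgroup.subgroupOfEquivOfLe inf_le_right).toEquiv
  have hmul := Cfsg.Agent.Lib.Helper17_Sylow.card_normalizer_mul_card_sylow (P.subtype hPM)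
  have hmod := card_sylow_modEq_one 7 (Subgroup.centralizer ({w} : Set G))
  have hc : Nat.card (Subgroup.normalizer ((P : Subgroup G) : Set G) ⊓
        Subgroup.centralizer ({w} : Set G) : Subgroup G) = 21 ∨
      Nat.card (Subgroup.normalizer ((P : Subgroup G) : Set G) ⊓
        Subgroup.centralizer ({w} : Set G) : Subgroup G) = 42 := by
    have a : Nat.card (Subgroup.normalizer ((P : Subgroup G) : Set G) ⊓
        Subgroup.centralizer ({w} : Set G) : Subgroup G) ∣ 42 := by
      have := Subgroup.card_dvd_of_le (inf_le_left :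
        Subgroup.normalizer ((P : Subgroup G) : Set G) ⊓ Subgroup.centralizer ({w} : Set G) ≤
          Subgroup.normalizer ((P : Subgroup G) : Set G))
      rwa [hN] at this
    have b : 21 ∣ Nat.card (Subgroup.normalizer ((P : Subgroup G) : Set G) ⊓
        Subgroup.centralizer ({w} : Set G) : Subgroup G) := by
      have := Subgroup.card_dvd_of_le (le_inf hCN hCM)
      rwa [hC] at this
    obtain ⟨t, ht⟩ := b
    rw [ht] at a ⊢
    have ht2 : t ∣ 2 := by
      have : 21 * t ∣ 21 * 2 := by simpa using a
      exact (Nat.mul_dvd_mul_iff_left (by norm_num : 0 < 21)).1 this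
    have ht3 : t ≤ 2 := Nat.le_of_dvd (by norm_num) ht2
    interval_cases t <;> simp_all
  rcases numerics _ _ _ _ hc (by rw [← hnorm]; exact hmul) hmod h63 (by rw [hidx, hG]) h8 with
    ⟨hm, hc21, -⟩ | ⟨-, -, hi8⟩
  · -- |M| = 315
    have hNM : Subgroup.centralizer ((P : Subgroup G) : Set G) =
        Subgroup.normalizer ((P : Subgroup G) : Set G) ⊓ Subgroup.centralizer ({w} : Set G) :=
      Subgroup.eq_of_le_of_card_ge (le_inf hCN hCM) (by rw [hC, hc21])
    have hP' : Subgroup.normalizer
        (((P.subtype hPM : Sylow 7 (Subgroup.centralizer ({w} : Set G))) :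
          Subgroup (Subgroup.centralizer ({w} : Set G))) :
            Set (Subgroup.centralizer ({w} : Set G))) ≤
        Subgroup.centralizer
        (((P.subtype hPM : Sylow 7 (Subgroup.centralizer ({w} : Set G))) :
          Subgroup (Subgroup.centralizer ({w} : Set G))) :
            Set (Subgroup.centralizer ({w} : Set G))) := by
      intro y hy
      rw [Sylow.coe_subtype, ← Subgroup.subgroupOf_normalizer_eq hPM,
        Subgroup.mem_subgroupOf] at hy
      have hyC : (y : G) ∈ Subgroup.centralizer ((P : Subgroup G) : Set G) := by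
        rw [hNM]; exact ⟨hy, y.2⟩
      rw [Subgroup.mem_centralizer_iff]
      intro z hz
      rw [SetLike.mem_coe, Sylow.coe_subtype, Subgroup.mem_subgroupOf] at hz
      apply Subtype.ext
      exact Subgroup.mem_centralizer_iff.1 hyC z hz
    obtain ⟨r, hr5, hrc⟩ := exists_five_central hm (P.subtype hPM) hP'
    have hrC : (r : G) ∈ Subgroup.centralizer ((P : Subgroup G) : Set G) := by
      rw [Subgroup.mem_centralizer_iff]
      intro g hg
      have := hrc ⟨g, hPM hg⟩ (by rw [Sylow.coe_subtype, Subgroup.mem_subgroupOf]; exact hg)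
      exact (congrArg Subtype.val this).symm
    have h5 : 5 ∣ 21 := by
      have := Subgroup.orderOf_dvd_natCard _ hrC
      rwa [Subgroup.orderOf_coe, hr5, hC] at this
    norm_num at h5
  · exact no_index_eight _ hi8 x w hx hw hxw

end Cfsg.Agent.Lib.Helper63_F5040_CASE120B
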