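import Mathlib
import Cfsg.Agent.Lib.Helper16_SO_E00
import Cfsg.Agent.Lib.Helper16_SO_E01
import Cfsg.Agent.Lib.Helper16_SO_E02
import Cfsg.Agent.Lib.Helper16_SO_E03
import Cfsg.Agent.Lib.Helper16_SO_E04
import Cfsg.Agent.Lib.Helper16_SO_E05
import Cfsg.Agent.Lib.Helper16_SO_E06
import Cfsg.Agent.Lib.Helper16_SO_E07
import Cfsg.Agent.Lib.Helper16_SO_E08
import Cfsg.Agent.Lib.Helper16_SO_E09
import Cfsg.Agent.Lib.Helper16_SO_E10
import Cfsg.Agent.Lib.Helper16_SO_E11
import Cfsg.Agent.Lib.Helper16_SO_E12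
import Cfsg.Agent.Lib.Helper16_SO_E13
import Cfsg.Agent.Lib.Helper16_SO_E14
import Cfsg.Agent.Lib.Helper16_SO_E15
import Cfsg.Agent.Lib.Helper16_SO_E16
import Cfsg.Agent.Lib.Helper16_SO_E17
import Cfsg.Agent.Lib.Helper16_SO_E18
import Cfsg.Agent.Lib.Helper16_SO_E19
import Cfsg.Agent.Lib.Helper16_SO_E20
import Cfsg.Agent.Lib.Helper16_SO_E21
import Cfsg.Agent.Lib.Helper16_SO_E22
import Cfsg.Agent.Lib.Helper16_SO_E23
import Cfsg.Agent.Lib.Helper16_SO_E24
import Cfsg.Agent.Lib.Helper16_SO_E25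
import Cfsg.Agent.Lib.Helper16_SO_E26
import Cfsg.Agent.Lib.Helper16_SO_Easy
import Cfsg.Agent.S0974
import Cfsg.Agent.S0975
import Cfsg.Agent.S0976
import Cfsg.Agent.S0977
import Cfsg.Agent.S0978
import Cfsg.Agent.S0979
import Cfsg.Agent.S0980
import Cfsg.Agent.Lib.Helper74_SO_BRA1
import Cfsg.Agent.Lib.Helper74_SO_BRA2
import Cfsg.Agent.Lib.Helper80_SO_N3960
import Cfsg.Agent.Lib.Helper80_SO_N5940
import Cfsg.Agent.Lib.Helper82_SO_N4200
import Cfsg.Agent.Lib.Helper20_SO_N4620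
import Cfsg.Agent.Lib.Helper5_SO_N5460
import Cfsg.Agent.Lib.Helper53_SO_KL3780
import Cfsg.Agent.Lib.Helper53_SO_KL4500
import Cfsg.Agent.Lib.Helper53_SO_KL5148
import Cfsg.Agent.Lib.Helper17_SO_N4800
import Cfsg.Agent.Lib.Helper20_SO_N5400A
import Cfsg.Agent.Lib.Helper61_SO_N5400B
import Cfsg.Agent.Lib.Helper12_SO_N5400C

/-!
# S0983: a non-abelian simple group with `3640 < |G| ≤ 6232` has order 4080, 5616, 6048 or 6072
(assembly; architect helper16).  Engine `Helper16_SO_E00 .. E26` + the special orders (landed rows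
S0974-S0980, `Helper16_SO_Easy`, and the 17 packages of the `s0983_packages` market).
-/

set_option autoImplicit false

namespace Cfsg.Agent.Lib.Helper16_SO_Main

/-- order 5400: `loc_5400` + `fix_5400` + `jordan_5400` -/
theorem no_simple_5400 {G : Type*} [Group G] [Finite G] [IsSimpleGroup G] : Nat.card G ≠ 5400 := by
  intro hcard
  obtain ⟨h36, x, hx, hC, hN⟩ := Cfsg.Agent.Lib.Helper20_SO_N5400A.loc_5400 hcard
  have hfix := Cfsg.Agent.Lib.Helper61_SO_N5400B.fix_5400 hcard h36 x hx hC hN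
  have hidx : (Subgroup.centralizer ({x} : Set G)).index = 18 := by
    have h1 := Subgroup.card_mul_index (Subgroup.centralizer ({x} : Set G))
    rw [hC, hcard] at h1
    omega
  exact Cfsg.Agent.Lib.Helper12_SO_N5400C.jordan_5400 hcard _ hidx x hx hfix

theorem main {G : Type*} [Group G] [Finite G] [IsSimpleGroup G]
    (hG : ¬ IsMulCommutative G) (h1 : 3640 < Nat.card G) (h2 : Nat.card G ≤ 6232) :
    Nat.card G = 4080 ∨ Nat.card G = 5616 ∨ Nat.card G = 6048 ∨ Nat.card G = 6072 := by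
  obtain ⟨n, hn⟩ : ∃ n, Nat.card G = n := ⟨_, rfl⟩
  rw [hn] at h1 h2 ⊢
  by_cases c0 : n ≤ 3700
  · have hc := Cfsg.Agent.Lib.Helper16_SO_E00.chunk hG n hn (by omega) c0
    rcases hc with hc | hc
    · exact absurd (hn.trans hc) Cfsg.Agent.S0974.result
    · exact absurd (hn.trans hc) Cfsg.Agent.Lib.Helper74_SO_BRA1.no_simple_3696
  by_cases c1 : n ≤ 3800
  · have hc := Cfsg.Agent.Lib.Helper16_SO_E01.chunk hG n hn (by omega) c1
    rcases hc with hc | hc
    · exact absurd (hn.trans hc) Cfsg.Agent.S0975.result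
    · exact absurd (hn.trans hc) Cfsg.Agent.Lib.Helper53_SO_KL3780.no_simple_3780
  by_cases c2 : n ≤ 3900
  · have hc := Cfsg.Agent.Lib.Helper16_SO_E02.chunk hG n hn (by omega) c2
    exact (Cfsg.Agent.Lib.Helper16_SO_Easy.no_3840 hG (hn.trans hc)).elim
  by_cases c3 : n ≤ 4000
  · have hc := Cfsg.Agent.Lib.Helper16_SO_E03.chunk hG n hn (by omega) c3
    exact absurd (hn.trans hc) Cfsg.Agent.Lib.Helper80_SO_N3960.no_simple_3960
  by_cases c4 : n ≤ 4100
  · have hc := Cfsg.Agent.Lib.Helper16_SO_E04.chunk hG n hn (by omega) c4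
    rcases hc with hc | hc
    · exact absurd (hn.trans hc) Cfsg.Agent.S0976.result
    · omega
  by_cases c5 : n ≤ 4200
  · have hc := Cfsg.Agent.Lib.Helper16_SO_E05.chunk hG n hn (by omega) c5
    rcases hc with hc | hc
    · exact (Cfsg.Agent.Lib.Helper16_SO_Easy.no_4160 hG (hn.trans hc)).elim
    · exact absurd (hn.trans hc) Cfsg.Agent.Lib.Helper82_SO_N4200.no_simple_4200
  by_cases c6 : n ≤ 4300
  · have hc := Cfsg.Agent.Lib.Helper16_SO_E06.chunk hG n hn (by omega) c6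
    exact (Cfsg.Agent.Lib.Helper16_SO_Easy.no_4212 hG (hn.trans hc)).elim
  by_cases c7 : n ≤ 4400
  · have hc := Cfsg.Agent.Lib.Helper16_SO_E07.chunk hG n hn (by omega) c7
    rcases hc with hc | hc
    · exact absurd (hn.trans hc) Cfsg.Agent.S0977.result
    · exact (Cfsg.Agent.Lib.Helper16_SO_Easy.no_4400 hG (hn.trans hc)).elim
  by_cases c8 : n ≤ 4500
  · have hc := Cfsg.Agent.Lib.Helper16_SO_E08.chunk hG n hn (by omega) c8
    rcases hc with hc | hc
    · exact (Cfsg.Agent.Lib.Helper16_SO_Easy.no_4480 hG (hn.trans hc)).elim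
    · exact absurd (hn.trans hc) Cfsg.Agent.Lib.Helper53_SO_KL4500.no_simple_4500
  by_cases c9 : n ≤ 4600
  · have hc := Cfsg.Agent.Lib.Helper16_SO_E09.chunk hG n hn (by omega) c9
    exact (Cfsg.Agent.Lib.Helper16_SO_Easy.no_4536 hG (hn.trans hc)).elim
  by_cases c10 : n ≤ 4700
  · have hc := Cfsg.Agent.Lib.Helper16_SO_E10.chunk hG n hn (by omega) c10
    rcases hc with hc | hc
    · exact absurd (hn.trans hc) Cfsg.Agent.Lib.Helper20_SO_N4620.no_simple_4620
    · exact absurd (hn.trans hc) Cfsg.Agent.Lib.Helper74_SO_BRA1.no_simple_4680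
  by_cases c11 : n ≤ 4800
  · have hc := Cfsg.Agent.Lib.Helper16_SO_E11.chunk hG n hn (by omega) c11
    rcases hc with hc | hc | hc
    · exact (Cfsg.Agent.Lib.Helper16_SO_Easy.no_4725 hG (hn.trans hc)).elim
    · exact (Cfsg.Agent.Lib.Helper16_SO_Easy.no_4760 hG (hn.trans hc)).elim
    · exact absurd (hn.trans hc) Cfsg.Agent.Lib.Helper17_SO_N4800.no_simple_4800
  by_cases c12 : n ≤ 4900
  · have hc := Cfsg.Agent.Lib.Helper16_SO_E12.chunk hG n hn (by omega) c12
    exact hc.elim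
  by_cases c13 : n ≤ 5000
  · have hc := Cfsg.Agent.Lib.Helper16_SO_E13.chunk hG n hn (by omega) c13
    rcases hc with hc | hc
    · exact (Cfsg.Agent.Lib.Helper16_SO_Easy.no_4928 hG (hn.trans hc)).elim
    · exact (Cfsg.Agent.Lib.Helper16_SO_Easy.no_4960 hG (hn.trans hc)).elim
  by_cases c14 : n ≤ 5100
  · have hc := Cfsg.Agent.Lib.Helper16_SO_E14.chunk hG n hn (by omega) c14
    exact absurd (hn.trans hc) Cfsg.Agent.S0978.result
  by_cases c15 : n ≤ 5200
  · have hc := Cfsg.Agent.Lib.Helper16_SO_E15.chunk hG n hn (by omega) c15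
    rcases hc with hc | hc | hc
    · exact (Cfsg.Agent.Lib.Helper16_SO_Easy.no_5104 hG (hn.trans hc)).elim
    · exact absurd (hn.trans hc) Cfsg.Agent.Lib.Helper53_SO_KL5148.no_simple_5148
    · exact absurd (hn.trans hc) Cfsg.Agent.Lib.Helper74_SO_BRA2.no_simple_5200
  by_cases c16 : n ≤ 5300
  · have hc := Cfsg.Agent.Lib.Helper16_SO_E16.chunk hG n hn (by omega) c16
    exact (Cfsg.Agent.Lib.Helper16_SO_Easy.no_5292 hG (hn.trans hc)).elim
  by_cases c17 : n ≤ 5400
  · have hc := Cfsg.Agent.Lib.Helper16_SO_E17.chunk hG n hn (by omega) c17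
    rcases hc with hc | hc
    · exact (Cfsg.Agent.Lib.Helper16_SO_Easy.no_5376 hG (hn.trans hc)).elim
    · exact absurd (hn.trans hc) no_simple_5400
  by_cases c18 : n ≤ 5500
  · have hc := Cfsg.Agent.Lib.Helper16_SO_E18.chunk hG n hn (by omega) c18
    rcases hc with hc | hc
    · exact absurd (hn.trans hc) Cfsg.Agent.Lib.Helper5_SO_N5460.no_simple_5460
    · exact absurd (hn.trans hc) Cfsg.Agent.S0979.result
  by_cases c19 : n ≤ 5600
  · have hc := Cfsg.Agent.Lib.Helper16_SO_E19.chunk hG n hn (by omega) c19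
    exact absurd (hn.trans hc) Cfsg.Agent.Lib.Helper74_SO_BRA2.no_simple_5600
  by_cases c20 : n ≤ 5700
  · have hc := Cfsg.Agent.Lib.Helper16_SO_E20.chunk hG n hn (by omega) c20
    omega
  by_cases c21 : n ≤ 5800
  · have hc := Cfsg.Agent.Lib.Helper16_SO_E21.chunk hG n hn (by omega) c21
    rcases hc with hc | hc
    · exact (Cfsg.Agent.Lib.Helper16_SO_Easy.no_5724 hG (hn.trans hc)).elim
    · exact absurd (hn.trans hc) Cfsg.Agent.S0980.result
  by_cases c22 : n ≤ 5900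
  · have hc := Cfsg.Agent.Lib.Helper16_SO_E22.chunk hG n hn (by omega) c22
    exact (Cfsg.Agent.Lib.Helper16_SO_Easy.no_5880 hG (hn.trans hc)).elim
  by_cases c23 : n ≤ 6000
  · have hc := Cfsg.Agent.Lib.Helper16_SO_E23.chunk hG n hn (by omega) c23
    rcases hc with hc | hc
    · exact absurd (hn.trans hc) Cfsg.Agent.Lib.Helper80_SO_N5940.no_simple_5940
    · exact (Cfsg.Agent.Lib.Helper16_SO_Easy.no_6000 hG (hn.trans hc)).elim
  by_cases c24 : n ≤ 6100
  · have hc := Cfsg.Agent.Lib.Helper16_SO_E24.chunk hG n hn (by omega) c24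
    rcases hc with hc | hc
    · omega
    · omega
  by_cases c25 : n ≤ 6200
  · have hc := Cfsg.Agent.Lib.Helper16_SO_E25.chunk hG n hn (by omega) c25
    exact absurd (hn.trans hc) Cfsg.Agent.Lib.Helper74_SO_BRA2.no_simple_6160
  by_cases c26 : n ≤ 6232
  · have hc := Cfsg.Agent.Lib.Helper16_SO_E26.chunk hG n hn (by omega) c26
    exact hc.elim
  omega

end Cfsg.Agent.Lib.Helper16_SO_Main
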