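import Mathlib
import Cfsg.Prelude.Def_AxialAlgebras

/-!
# S5544 (Sakuma's theorem, Majorana form): shared definitions (helper16, market `sak_packages`)

Two Majorana involutions `μ₀, μ₁` with unit axes `a₀, a₁` generate a dihedral family of axes
`ax : ℤ → V` (`ax 0 = a₀`, `ax 1 = a₁`, `τ_i (ax j) = ax (2 i - j)`).  The theorem is
`∃ n ∈ [1, 6], (μ₀ μ₁)^n = 1`, equivalently `ax n = ax 0`, equivalently `B (ax 0) (ax n) = 1`.

* `sig mul a b`      : the σ-vector `a·b - (a + b)/32`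
* `u0`, `v4`         : the `0`- and `1/4`-eigenvector parts of `b` with respect to the axis `a`
                       (`b' = τ_a b`)
* `UAxis mul B μ a`  : Majorana ambient + Majorana pair `(μ, a)` + `B a a = 1`
* `Fam mul B ax tau` : a dihedral family of unit axes
* `Basic mul B ax s se sf l1 l2` : the purely algebraic interface used by the computational half
  (no Majorana definitions inside)
* `rho`, `axF`, `tauF` : the concrete family built from `μ₀, μ₁, a₀, a₁`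
-/

set_option autoImplicit false

namespace Cfsg.Agent.Lib.Helper16_SakDefs

open Cfsg.Axial

variable {V : Type*} [AddCommGroup V] [Module ℝ V]

/-- the σ-vector `a·b - (a + b)/32` -/
noncomputable def sig (mul : V →ₗ[ℝ] V →ₗ[ℝ] V) (a b : V) : V := mul a b - (1 / 32 : ℝ) • (a + b)

/-- the `0`-eigenvector part of `b` for the axis `a` (`b'` the mirror image of `b`) -/
noncomputable def u0 (mul : V →ₗ[ℝ] V →ₗ[ℝ] V) (B : LinearMap.BilinForm ℝ V) (a b b' : V) : V :=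
  (-4 : ℝ) • sig mul a b + (3 * B a b - 1 / 8) • a + (7 / 16 : ℝ) • (b + b')

/-- the `1/4`-eigenvector part of `b` for the axis `a` (`b'` the mirror image of `b`) -/
noncomputable def v4 (mul : V →ₗ[ℝ] V →ₗ[ℝ] V) (B : LinearMap.BilinForm ℝ V) (a b b' : V) : V :=
  (4 : ℝ) • sig mul a b + (1 / 8 - 4 * B a b) • a + (1 / 16 : ℝ) • (b + b')

/-- a unit Majorana axis with its Majorana involution, in a Majorana ambient -/
structure UAxis (mul : V →ₗ[ℝ] V →ₗ[ℝ] V) (B : LinearMap.BilinForm ℝ V) (μ : V ≃ₗ[ℝ] V) (a : V) :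
    Prop where
  amb : IsMajoranaAmbient mul B
  pair : IsMajoranaPair mul B μ a
  unit : B a a = 1

/-- a dihedral family of unit Majorana axes -/
structure Fam (mul : V →ₗ[ℝ] V →ₗ[ℝ] V) (B : LinearMap.BilinForm ℝ V) (ax : ℤ → V)
    (tau : ℤ → (V ≃ₗ[ℝ] V)) : Prop where
  axis : ∀ i, UAxis mul B (tau i) (ax i)
  refl : ∀ i j, tau i (ax j) = ax (2 * i - j)

/-- the algebraic interface: everything the computation needs from a dihedral family.
Indices are free variables tied by equations, so that instances are obtained by `by norm_num`. -/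
structure Basic (mul : V →ₗ[ℝ] V →ₗ[ℝ] V) (B : LinearMap.BilinForm ℝ V) (ax : ℤ → V)
    (s se sf : V) (l1 l2 : ℝ) : Prop where
  comm : ∀ x y : V, mul x y = mul y x
  symm : ∀ x y : V, B x y = B y x
  assoc : ∀ x y z : V, B x (mul y z) = B (mul x y) z
  idem : ∀ i, mul (ax i) (ax i) = ax i
  unit : ∀ i, B (ax i) (ax i) = 1
  k2 : ∀ i j, j = i + 1 → mul (ax i) (ax j) = s + (1 / 32 : ℝ) • (ax i + ax j)
  k3e : ∀ i j, i % 2 = 0 → j = i + 2 → mul (ax i) (ax j) = se + (1 / 32 : ℝ) • (ax i + ax j)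
  k3f : ∀ i j, i % 2 = 1 → j = i + 2 → mul (ax i) (ax j) = sf + (1 / 32 : ℝ) • (ax i + ax j)
  ip1 : ∀ i j, j = i + 1 → B (ax i) (ax j) = l1
  ip2 : ∀ i j, j = i + 2 → B (ax i) (ax j) = l2
  ipd : ∀ i j i' j' k, i' = 2 * k - i → j' = 2 * k - j → B (ax i') (ax j') = B (ax i) (ax j)
  e0 : ∀ i j j', j + j' = 2 * i → mul (ax i) (u0 mul B (ax i) (ax j) (ax j')) = 0
  e4 : ∀ i j j', j + j' = 2 * i → mul (ax i) (v4 mul B (ax i) (ax j) (ax j')) =
    (1 / 4 : ℝ) • v4 mul B (ax i) (ax j) (ax j')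
  e32 : ∀ i j j', j + j' = 2 * i → mul (ax i) (ax j - ax j') = (1 / 32 : ℝ) • (ax j - ax j')
  fus00 : ∀ i (p p' : V), mul (ax i) p = 0 → mul (ax i) p' = 0 → mul (ax i) (mul p p') = 0
  fus04 : ∀ i (p q : V), mul (ax i) p = 0 → mul (ax i) q = (1 / 4 : ℝ) • q →
    mul (ax i) (mul p q) = (1 / 4 : ℝ) • mul p q
  fus44 : ∀ i (q q' : V), mul (ax i) q = (1 / 4 : ℝ) • q → mul (ax i) q' = (1 / 4 : ℝ) • q' →
    mul (ax i) (mul q q') = (B (ax i) (mul q q')) • ax i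

/-- the rotation `μ₁ μ₀` (it shifts the family by `+2`) -/
noncomputable def rho (μ₀ μ₁ : V ≃ₗ[ℝ] V) : V ≃ₗ[ℝ] V := μ₁ * μ₀

/-- the dihedral family of axes generated by `(μ₀, a₀)`, `(μ₁, a₁)` -/
noncomputable def axF (μ₀ μ₁ : V ≃ₗ[ℝ] V) (a₀ a₁ : V) (i : ℤ) : V :=
  if i % 2 = 0 then (rho μ₀ μ₁ ^ (i / 2)) a₀ else (rho μ₀ μ₁ ^ (i / 2)) a₁

/-- the Majorana involutions of the family `axF` -/
noncomputable def tauF (μ₀ μ₁ : V ≃ₗ[ℝ] V) (i : ℤ) : V ≃ₗ[ℝ] V :=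
  if i % 2 = 0 then rho μ₀ μ₁ ^ (i / 2) * μ₀ * (rho μ₀ μ₁ ^ (i / 2))⁻¹
  else rho μ₀ μ₁ ^ (i / 2) * μ₁ * (rho μ₀ μ₁ ^ (i / 2))⁻¹

end Cfsg.Agent.Lib.Helper16_SakDefs
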