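import Mathlib
import Cfsg.Agent.Lib.Helper16_SakDefs

/-!
# S5544 (Sakuma): first consequences of the interface `Basic` (helper16)

Symmetric variants of the product rules, the products `a_i · s`, `a_i · se`, `a_i · sf`
(same parity), the inner products of the axes with `s, se, sf`, and the shifted / mirrored
interfaces.
-/

set_option autoImplicit false
set_option linter.unusedSimpArgs false
set_option linter.unusedVariables false

namespace Cfsg.Agent.Lib.Helper16_SakBasic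

open Cfsg.Agent.Lib.Helper16_SakDefs

variable {V : Type*} [AddCommGroup V] [Module ℝ V]
  {mul : V →ₗ[ℝ] V →ₗ[ℝ] V} {B : LinearMap.BilinForm ℝ V} {ax : ℤ → V} {s se sf : V} {l1 l2 : ℝ}

theorem k2' (hb : Basic mul B ax s se sf l1 l2) (i j : ℤ) (h : i = j + 1) :
    mul (ax i) (ax j) = s + (1 / 32 : ℝ) • (ax i + ax j) := by
  rw [hb.comm, hb.k2 j i h, add_comm (ax j)]

theorem k3e' (hb : Basic mul B ax s se sf l1 l2) (i j : ℤ) (hi : i % 2 = 0) (h : i = j + 2) :
    mul (ax i) (ax j) = se + (1 / 32 : ℝ) • (ax i + ax j) := by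
  have hj : j % 2 = 0 := by omega
  rw [hb.comm, hb.k3e j i hj h, add_comm (ax j)]

theorem k3f' (hb : Basic mul B ax s se sf l1 l2) (i j : ℤ) (hi : i % 2 = 1) (h : i = j + 2) :
    mul (ax i) (ax j) = sf + (1 / 32 : ℝ) • (ax i + ax j) := by
  have hj : j % 2 = 1 := by omega
  rw [hb.comm, hb.k3f j i hj h, add_comm (ax j)]

theorem ip1' (hb : Basic mul B ax s se sf l1 l2) (i j : ℤ) (h : i = j + 1) :
    B (ax i) (ax j) = l1 := by
  rw [hb.symm, hb.ip1 j i h]

theorem ip2' (hb : Basic mul B ax s se sf l1 l2) (i j : ℤ) (h : i = j + 2) :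
    B (ax i) (ax j) = l2 := by
  rw [hb.symm, hb.ip2 j i h]

theorem sig1 (hb : Basic mul B ax s se sf l1 l2) (i j : ℤ) (h : j = i + 1) :
    sig mul (ax i) (ax j) = s := by
  unfold sig
  rw [hb.k2 i j h]
  module

theorem sig2e (hb : Basic mul B ax s se sf l1 l2) (i j : ℤ) (hi : i % 2 = 0) (h : j = i + 2) :
    sig mul (ax i) (ax j) = se := by
  unfold sig
  rw [hb.k3e i j hi h]
  module

theorem sig2f (hb : Basic mul B ax s se sf l1 l2) (i j : ℤ) (hi : i % 2 = 1) (h : j = i + 2) :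
    sig mul (ax i) (ax j) = sf := by
  unfold sig
  rw [hb.k3f i j hi h]
  module

/-- `a_i · s` -/
theorem k4 (hb : Basic mul B ax s se sf l1 l2) (i j j' : ℤ) (hj : j = i + 1) (hj' : j' = i - 1) :
    mul (ax i) s = (3 * l1 / 4 - 25 / 1024 : ℝ) • ax i + (7 / 2048 : ℝ) • (ax j + ax j') +
      (7 / 32 : ℝ) • s := by
  have h4 := hb.e4 i j j' (by omega)
  unfold v4 at h4
  rw [sig1 hb i j hj, hb.ip1 i j hj] at h4
  have hij := hb.k2 i j hj
  have hij' := k2' hb i j' (by omega)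
  simp only [map_add, map_smul, hij, hij', hb.idem] at h4
  linear_combination (norm := module) (1 / 4 : ℝ) • h4

theorem k4' (hb : Basic mul B ax s se sf l1 l2) (i j j' : ℤ) (hj : j = i + 1) (hj' : j' = i - 1) :
    mul s (ax i) = (3 * l1 / 4 - 25 / 1024 : ℝ) • ax i + (7 / 2048 : ℝ) • (ax j + ax j') +
      (7 / 32 : ℝ) • s := by
  rw [hb.comm]; exact k4 hb i j j' hj hj'

/-- `a_i · se` for even `i` -/
theorem k5e (hb : Basic mul B ax s se sf l1 l2) (i j j' : ℤ) (hi : i % 2 = 0) (hj : j = i + 2)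
    (hj' : j' = i - 2) :
    mul (ax i) se = (3 * l2 / 4 - 25 / 1024 : ℝ) • ax i + (7 / 2048 : ℝ) • (ax j + ax j') +
      (7 / 32 : ℝ) • se := by
  have h4 := hb.e4 i j j' (by omega)
  unfold v4 at h4
  rw [sig2e hb i j hi hj, hb.ip2 i j hj] at h4
  have hij := hb.k3e i j hi hj
  have hij' := k3e' hb i j' hi (by omega)
  simp only [map_add, map_smul, hij, hij', hb.idem] at h4
  linear_combination (norm := module) (1 / 4 : ℝ) • h4

/-- `a_i · sf` for odd `i` -/
theorem k5f (hb : Basic mul B ax s se sf l1 l2) (i j j' : ℤ) (hi : i % 2 = 1) (hj : j = i + 2)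
    (hj' : j' = i - 2) :
    mul (ax i) sf = (3 * l2 / 4 - 25 / 1024 : ℝ) • ax i + (7 / 2048 : ℝ) • (ax j + ax j') +
      (7 / 32 : ℝ) • sf := by
  have h4 := hb.e4 i j j' (by omega)
  unfold v4 at h4
  rw [sig2f hb i j hi hj, hb.ip2 i j hj] at h4
  have hij := hb.k3f i j hi hj
  have hij' := k3f' hb i j' hi (by omega)
  simp only [map_add, map_smul, hij, hij', hb.idem] at h4
  linear_combination (norm := module) (1 / 4 : ℝ) • h4

/-- `(a_i, s)` -/
theorem ips (hb : Basic mul B ax s se sf l1 l2) (i : ℤ) : B (ax i) s = (31 * l1 - 1) / 32 := by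
  have h := sig1 hb i (i + 1) rfl
  rw [← h]
  unfold sig
  have h1 : B (ax i) (mul (ax i) (ax (i + 1))) = l1 := by
    rw [hb.assoc, hb.idem, hb.ip1 i (i + 1) rfl]
  simp only [map_sub, map_smul, map_add, h1, hb.unit, hb.ip1 i (i + 1) rfl, smul_eq_mul]
  ring

/-- `(a_i, σ(a_j, a_k))` in general -/
theorem ip_sig (hb : Basic mul B ax s se sf l1 l2) (i j k : ℤ) :
    B (ax i) (sig mul (ax j) (ax k)) =
      B (mul (ax i) (ax j)) (ax k) - (1 / 32 : ℝ) * (B (ax i) (ax j) + B (ax i) (ax k)) := by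
  unfold sig
  simp only [map_sub, map_smul, map_add, smul_eq_mul, hb.assoc]

theorem ipe_even (hb : Basic mul B ax s se sf l1 l2) (i : ℤ) (hi : i % 2 = 0) :
    B (ax i) se = (31 * l2 - 1) / 32 := by
  rw [← sig2e hb i (i + 2) hi rfl, ip_sig hb, hb.idem, hb.unit, hb.ip2 i (i + 2) rfl]
  ring

theorem ipf_odd (hb : Basic mul B ax s se sf l1 l2) (i : ℤ) (hi : i % 2 = 1) :
    B (ax i) sf = (31 * l2 - 1) / 32 := by
  rw [← sig2f hb i (i + 2) hi rfl, ip_sig hb, hb.idem, hb.unit, hb.ip2 i (i + 2) rfl]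
  ring

/-- `(a_i, se)` for odd `i`: `se = σ(a_{i-1}, a_{i+1})` -/
theorem ipe_odd (hb : Basic mul B ax s se sf l1 l2) (i : ℤ) (hi : i % 2 = 1) :
    B (ax i) se = (30 * l1 + l2 - 1) / 32 := by
  rw [← sig2e hb (i - 1) (i + 1) (by omega) (by omega), ip_sig hb, k2' hb i (i - 1) (by omega)]
  simp only [map_add, map_smul, LinearMap.add_apply, LinearMap.smul_apply, smul_eq_mul]
  rw [hb.symm s, ips hb, hb.ip2 (i - 1) (i + 1) (by omega), ip1' hb i (i - 1) (by omega),
    hb.ip1 i (i + 1) rfl]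
  ring

theorem ipf_even (hb : Basic mul B ax s se sf l1 l2) (i : ℤ) (hi : i % 2 = 0) :
    B (ax i) sf = (30 * l1 + l2 - 1) / 32 := by
  rw [← sig2f hb (i - 1) (i + 1) (by omega) (by omega), ip_sig hb, k2' hb i (i - 1) (by omega)]
  simp only [map_add, map_smul, LinearMap.add_apply, LinearMap.smul_apply, smul_eq_mul]
  rw [hb.symm s, ips hb, hb.ip2 (i - 1) (i + 1) (by omega), ip1' hb i (i - 1) (by omega),
    hb.ip1 i (i + 1) rfl]
  ring

/-- the value of `(a_i, v·v)` for the `1/4`-part `v` of `a_{i+1}` -/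
theorem kappa (hb : Basic mul B ax s se sf l1 l2) (i j j' : ℤ) (hj : j = i + 1) (hj' : j' = i - 1) :
    B (ax i) (mul ((4 : ℝ) • s + (1 / 8 - 4 * l1) • ax i + (1 / 16 : ℝ) • (ax j + ax j'))
      ((4 : ℝ) • s + (1 / 8 - 4 * l1) • ax i + (1 / 16 : ℝ) • (ax j + ax j'))) =
      l1 - l1 ^ 2 - (1 - l2) / 64 := by
  have h4 := hb.e4 i j j' (by omega)
  unfold v4 at h4
  rw [sig1 hb i j hj, hb.ip1 i j hj] at h4
  set v := (4 : ℝ) • s + (1 / 8 - 4 * l1) • ax i + (1 / 16 : ℝ) • (ax j + ax j') with hv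
  -- (a, v) = 0
  have hav : B (ax i) v = 0 := by
    have h := hb.assoc (ax i) (ax i) v
    rw [hb.idem, h4, map_smul, smul_eq_mul] at h
    linarith
  have hva : B v (ax i) = 0 := by rw [hb.symm]; exact hav
  have hsj : B s (ax j) = (31 * l1 - 1) / 32 := by rw [hb.symm]; exact ips hb j
  have hsj' : B s (ax j') = (31 * l1 - 1) / 32 := by rw [hb.symm]; exact ips hb j'
  have hvj : B v (ax j) = 4 * l1 - 4 * l1 ^ 2 - (1 - l2) / 16 := by
    rw [hv]
    simp only [map_add, map_smul, LinearMap.add_apply, LinearMap.smul_apply, smul_eq_mul, hsj,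
      hb.ip1 i j hj, hb.unit, hb.ip2 j' j (by omega)]
    ring
  have hvj' : B v (ax j') = 4 * l1 - 4 * l1 ^ 2 - (1 - l2) / 16 := by
    rw [hv]
    simp only [map_add, map_smul, LinearMap.add_apply, LinearMap.smul_apply, smul_eq_mul, hsj',
      ip1' hb i j' (by omega), hb.unit, ip2' hb j j' (by omega)]
    ring
  have hvm : B v (mul (ax i) (ax j)) = (1 / 4 : ℝ) * B v (ax j) := by
    rw [hb.assoc, hb.comm v, h4, map_smul, LinearMap.smul_apply, smul_eq_mul]
  have hvs : B v s = (7 / 32 : ℝ) * B v (ax j) := by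
    rw [← sig1 hb i j hj]
    unfold sig
    simp only [map_sub, map_smul, map_add, smul_eq_mul, hvm, hva]
    ring
  have hvv : B v v = 4 * l1 - 4 * l1 ^ 2 - (1 - l2) / 16 := by
    have h1 : B v v = B v ((4 : ℝ) • s + (1 / 8 - 4 * l1) • ax i + (1 / 16 : ℝ) • (ax j + ax j')) := by
      rw [← hv]
    rw [h1]
    simp only [map_add, map_smul, smul_eq_mul, hvs, hva, hvj, hvj']
    ring
  rw [hb.assoc, h4, map_smul, LinearMap.smul_apply, smul_eq_mul, hvv]
  ring

/-- the interface shifted by one step (`se` and `sf` swap) -/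
theorem shift1 (hb : Basic mul B ax s se sf l1 l2) :
    Basic mul B (fun j => ax (j + 1)) s sf se l1 l2 where
  comm := hb.comm
  symm := hb.symm
  assoc := hb.assoc
  idem := fun i => hb.idem (i + 1)
  unit := fun i => hb.unit (i + 1)
  k2 := fun i j h => hb.k2 (i + 1) (j + 1) (by omega)
  k3e := fun i j hi h => hb.k3f (i + 1) (j + 1) (by omega) (by omega)
  k3f := fun i j hi h => hb.k3e (i + 1) (j + 1) (by omega) (by omega)
  ip1 := fun i j h => hb.ip1 (i + 1) (j + 1) (by omega)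
  ip2 := fun i j h => hb.ip2 (i + 1) (j + 1) (by omega)
  ipd := fun i j i' j' k h h' => hb.ipd (i + 1) (j + 1) (i' + 1) (j' + 1) (k + 1) (by omega) (by omega)
  e0 := fun i j j' h => hb.e0 (i + 1) (j + 1) (j' + 1) (by omega)
  e4 := fun i j j' h => hb.e4 (i + 1) (j + 1) (j' + 1) (by omega)
  e32 := fun i j j' h => hb.e32 (i + 1) (j + 1) (j' + 1) (by omega)
  fus00 := fun i => hb.fus00 (i + 1)
  fus04 := fun i => hb.fus04 (i + 1)
  fus44 := fun i => hb.fus44 (i + 1)

/-- the mirrored interface -/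
theorem neg (hb : Basic mul B ax s se sf l1 l2) :
    Basic mul B (fun j => ax (-j)) s se sf l1 l2 where
  comm := hb.comm
  symm := hb.symm
  assoc := hb.assoc
  idem := fun i => hb.idem (-i)
  unit := fun i => hb.unit (-i)
  k2 := fun i j h => k2' hb (-i) (-j) (by omega)
  k3e := fun i j hi h => k3e' hb (-i) (-j) (by omega) (by omega)
  k3f := fun i j hi h => k3f' hb (-i) (-j) (by omega) (by omega)
  ip1 := fun i j h => ip1' hb (-i) (-j) (by omega)
  ip2 := fun i j h => ip2' hb (-i) (-j) (by omega)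
  ipd := fun i j i' j' k h h' => hb.ipd (-i) (-j) (-i') (-j') (-k) (by omega) (by omega)
  e0 := fun i j j' h => hb.e0 (-i) (-j) (-j') (by omega)
  e4 := fun i j j' h => hb.e4 (-i) (-j) (-j') (by omega)
  e32 := fun i j j' h => hb.e32 (-i) (-j) (-j') (by omega)
  fus00 := fun i => hb.fus00 (-i)
  fus04 := fun i => hb.fus04 (-i)
  fus44 := fun i => hb.fus44 (-i)

end Cfsg.Agent.Lib.Helper16_SakBasic
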