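import Mathlib
import Cfsg.Agent.Lib.Helper16_SakDefs
import Cfsg.Agent.Lib.Helper16_SakBasic

/-!
# S5544 (Sakuma): the products `s · s` and `a_0 · sf` (helper16)

From the fusion rules `0 × 0 → 0`, `0 × 1/4 → 1/4`, `1/4 × 1/4 → 1 + 0` applied to the parts
`u, v` of `a_1` with respect to `a_0`.
-/

set_option autoImplicit false
set_option linter.unusedSimpArgs false
set_option linter.unusedVariables false

namespace Cfsg.Agent.Lib.Helper16_SakXY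

open Cfsg.Agent.Lib.Helper16_SakDefs Cfsg.Agent.Lib.Helper16_SakBasic

variable {V : Type*} [AddCommGroup V] [Module ℝ V]

theorem xy_core (mul : V →ₗ[ℝ] V →ₗ[ℝ] V) (hc : ∀ x y : V, mul x y = mul y x)
    (a0 a1 am1 a2 am2 s se sf : V) (l1 l2 : ℝ)
    (h00 : mul a0 a0 = a0) (h11 : mul a1 a1 = a1) (hmm : mul am1 am1 = am1)
    (h01 : mul a0 a1 = s + (1 / 32 : ℝ) • (a0 + a1))
    (h0m : mul a0 am1 = s + (1 / 32 : ℝ) • (a0 + am1))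
    (h1m : mul a1 am1 = sf + (1 / 32 : ℝ) • (a1 + am1))
    (h02 : mul a0 a2 = se + (1 / 32 : ℝ) • (a0 + a2))
    (h0m2 : mul a0 am2 = se + (1 / 32 : ℝ) • (a0 + am2))
    (h0s : mul a0 s = (3 * l1 / 4 - 25 / 1024 : ℝ) • a0 + (7 / 2048 : ℝ) • (a1 + am1) + (7 / 32 : ℝ) • s)
    (h1s : mul a1 s = (3 * l1 / 4 - 25 / 1024 : ℝ) • a1 + (7 / 2048 : ℝ) • (a2 + a0) + (7 / 32 : ℝ) • s)
    (hms : mul am1 s = (3 * l1 / 4 - 25 / 1024 : ℝ) • am1 + (7 / 2048 : ℝ) • (a0 + am2) + (7 / 32 : ℝ) • s)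
    (F1 : mul a0 (mul ((-4 : ℝ) • s + (3 * l1 - 1 / 8 : ℝ) • a0 + (7 / 16 : ℝ) • (a1 + am1))
        ((-4 : ℝ) • s + (3 * l1 - 1 / 8 : ℝ) • a0 + (7 / 16 : ℝ) • (a1 + am1))) = 0)
    (F2 : mul a0 (mul ((-4 : ℝ) • s + (3 * l1 - 1 / 8 : ℝ) • a0 + (7 / 16 : ℝ) • (a1 + am1))
        ((4 : ℝ) • s + (1 / 8 - 4 * l1 : ℝ) • a0 + (1 / 16 : ℝ) • (a1 + am1))) =
      (1 / 4 : ℝ) • mul ((-4 : ℝ) • s + (3 * l1 - 1 / 8 : ℝ) • a0 + (7 / 16 : ℝ) • (a1 + am1))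
        ((4 : ℝ) • s + (1 / 8 - 4 * l1 : ℝ) • a0 + (1 / 16 : ℝ) • (a1 + am1)))
    (F3 : mul a0 (mul ((4 : ℝ) • s + (1 / 8 - 4 * l1 : ℝ) • a0 + (1 / 16 : ℝ) • (a1 + am1))
        ((4 : ℝ) • s + (1 / 8 - 4 * l1 : ℝ) • a0 + (1 / 16 : ℝ) • (a1 + am1))) =
      (l1 - l1 ^ 2 - (1 - l2) / 64 : ℝ) • a0) :
    mul s s = (7 / 6 * l1 ^ 2 - 7 / 384 * l1 + 7 / 1536 * l2 - 7 / 98304 : ℝ) • a0 + (49 / 768 * l1 - 245 / 196608 : ℝ) • a1 + (49 / 768 * l1 - 245 / 196608 : ℝ) • am1 + (49 / 196608 : ℝ) • a2 + (49 / 196608 : ℝ) • am2 + (-5 / 12 * l1 - 13 / 1536 : ℝ) • s + (-7 / 1536 : ℝ) • se + (7 / 2048 : ℝ) • sf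
    ∧ mul a0 sf = (-32 / 3 * l1 ^ 2 + 5 / 3 * l1 - 1 / 24 * l2 - 127 / 3072 : ℝ) • a0 + (1 / 6 * l1 - 19 / 3072 : ℝ) • a1 + (1 / 6 * l1 - 19 / 3072 : ℝ) • am1 + (7 / 6144 : ℝ) • a2 + (7 / 6144 : ℝ) • am2 + (32 / 3 * l1 - 19 / 48 : ℝ) • s + (7 / 96 : ℝ) • se := by
  have h10 : mul a1 a0 = s + (1 / 32 : ℝ) • (a0 + a1) := by rw [hc]; exact h01
  have hm0 : mul am1 a0 = s + (1 / 32 : ℝ) • (a0 + am1) := by rw [hc]; exact h0m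
  have hm1 : mul am1 a1 = sf + (1 / 32 : ℝ) • (a1 + am1) := by rw [hc]; exact h1m
  have hs0 := h0s; rw [hc] at hs0
  have hs1 := h1s; rw [hc] at hs1
  have hsm := hms; rw [hc] at hsm
  simp only [map_add, map_smul, map_neg, LinearMap.add_apply, LinearMap.smul_apply,
    LinearMap.neg_apply, h00, h11, hmm, h01, h0m, h1m, h10, hm0, hm1, h0s, h1s, hms, hs0, hs1, hsm,
    h02, h0m2, smul_add, smul_smul] at F1 F2 F3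
  constructor
  · linear_combination (norm := module) (-1 / 24 : ℝ) • F1 + (1 / 4 : ℝ) • F2 + (7 / 24 : ℝ) • F3
  · linear_combination (norm := module) (8 / 3 : ℝ) • F1 - (8 / 3 : ℝ) • F3

variable {mul : V →ₗ[ℝ] V →ₗ[ℝ] V} {B : LinearMap.BilinForm ℝ V} {ax : ℤ → V} {s se sf : V} {l1 l2 : ℝ}

/-- `s · s` and `a_0 · sf` at the centre `0` -/
theorem xy0 (hb : Basic mul B ax s se sf l1 l2) :
    mul s s = (7 / 6 * l1 ^ 2 - 7 / 384 * l1 + 7 / 1536 * l2 - 7 / 98304 : ℝ) • ax 0 + (49 / 768 * l1 - 245 / 196608 : ℝ) • ax 1 + (49 / 768 * l1 - 245 / 196608 : ℝ) • ax (-1) + (49 / 196608 : ℝ) • ax 2 + (49 / 196608 : ℝ) • ax (-2) + (-5 / 12 * l1 - 13 / 1536 : ℝ) • s + (-7 / 1536 : ℝ) • se + (7 / 2048 : ℝ) • sf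
    ∧ mul (ax 0) sf = (-32 / 3 * l1 ^ 2 + 5 / 3 * l1 - 1 / 24 * l2 - 127 / 3072 : ℝ) • ax 0 + (1 / 6 * l1 - 19 / 3072 : ℝ) • ax 1 + (1 / 6 * l1 - 19 / 3072 : ℝ) • ax (-1) + (7 / 6144 : ℝ) • ax 2 + (7 / 6144 : ℝ) • ax (-2) + (32 / 3 * l1 - 19 / 48 : ℝ) • s + (7 / 96 : ℝ) • se := by
  have hu := hb.e0 0 1 (-1) (by norm_num)
  have hv := hb.e4 0 1 (-1) (by norm_num)
  unfold u0 at hu
  unfold v4 at hv
  rw [sig1 hb 0 1 (by norm_num), hb.ip1 0 1 (by norm_num)] at hu hv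
  have F1 := hb.fus00 0 _ _ hu hu
  have F2 := hb.fus04 0 _ _ hu hv
  have F3 := hb.fus44 0 _ _ hv hv
  rw [kappa hb 0 1 (-1) (by norm_num) (by norm_num)] at F3
  exact xy_core mul hb.comm (ax 0) (ax 1) (ax (-1)) (ax 2) (ax (-2)) s se sf l1 l2
    (hb.idem 0) (hb.idem 1) (hb.idem (-1))
    (hb.k2 0 1 (by norm_num)) (k2' hb 0 (-1) (by norm_num))
    (k3f' hb 1 (-1) (by norm_num) (by norm_num))
    (hb.k3e 0 2 (by norm_num) (by norm_num)) (k3e' hb 0 (-2) (by norm_num) (by norm_num))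
    (k4 hb 0 1 (-1) (by norm_num) (by norm_num)) (k4 hb 1 2 0 (by norm_num) (by norm_num))
    (k4 hb (-1) 0 (-2) (by norm_num) (by norm_num)) F1 F2 F3

end Cfsg.Agent.Lib.Helper16_SakXY
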