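import Mathlib
import Cfsg.Agent.Lib.Helper16_SakDefs
import Cfsg.Agent.Lib.Helper16_SakBasic
import Cfsg.Agent.Lib.Helper16_SakXY

/-!
# S5544 (Sakuma): parity-uniform versions at an arbitrary centre (helper16)

`Par se sf c sa sb`: `sa` is the σ-vector of `(a_c, a_{c±2})` and `sb` the one of
`(a_{c-1}, a_{c+1})`.  All product rules around the centre `c`, the products `s · s`, `a_c · sb`
(`xy`), and the relation `star` expressing `a_{c+3}`.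
-/

set_option autoImplicit false
set_option linter.unusedSimpArgs false
set_option linter.unusedVariables false
set_option linter.unusedSectionVars false

namespace Cfsg.Agent.Lib.Helper16_SakPar

open Cfsg.Agent.Lib.Helper16_SakDefs Cfsg.Agent.Lib.Helper16_SakBasic Cfsg.Agent.Lib.Helper16_SakXY

variable {V : Type*} [AddCommGroup V] [Module ℝ V]
  {mul : V →ₗ[ℝ] V →ₗ[ℝ] V} {B : LinearMap.BilinForm ℝ V} {ax : ℤ → V} {s se sf : V} {l1 l2 : ℝ}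

/-- parity bookkeeping for the two distance-two σ-vectors -/
def Par (se sf : V) (c : ℤ) (sa sb : V) : Prop :=
  (c % 2 = 0 ∧ sa = se ∧ sb = sf) ∨ (c % 2 = 1 ∧ sa = sf ∧ sb = se)

theorem par_even (se sf : V) (c : ℤ) (hc : c % 2 = 0) : Par se sf c se sf := Or.inl ⟨hc, rfl, rfl⟩

theorem par_odd (se sf : V) (c : ℤ) (hc : c % 2 = 1) : Par se sf c sf se := Or.inr ⟨hc, rfl, rfl⟩

theorem Par.step {se sf : V} {c : ℤ} {sa sb : V} (h : Par se sf c sa sb) (c' : ℤ)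
    (hc' : c' = c + 1 ∨ c' = c - 1) : Par se sf c' sb sa := by
  rcases h with ⟨h1, rfl, rfl⟩ | ⟨h1, rfl, rfl⟩
  · exact Or.inr ⟨by omega, rfl, rfl⟩
  · exact Or.inl ⟨by omega, rfl, rfl⟩

/-- `a_c · a_{c+2}` -/
theorem k3 (hb : Basic mul B ax s se sf l1 l2) {c : ℤ} {sa sb : V} (hp : Par se sf c sa sb)
    (j : ℤ) (hj : j = c + 2 ∨ j = c - 2) :
    mul (ax c) (ax j) = sa + (1 / 32 : ℝ) • (ax c + ax j) := by
  rcases hp with ⟨h1, rfl, rfl⟩ | ⟨h1, rfl, rfl⟩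
  · rcases hj with hj | hj
    · exact hb.k3e c j h1 hj
    · exact k3e' hb c j h1 (by omega)
  · rcases hj with hj | hj
    · exact hb.k3f c j h1 hj
    · exact k3f' hb c j h1 (by omega)

/-- `a_{c+1} · a_{c-1}` -/
theorem k3n (hb : Basic mul B ax s se sf l1 l2) {c : ℤ} {sa sb : V} (hp : Par se sf c sa sb)
    (j j' : ℤ) (hj : j = c + 1) (hj' : j' = c - 1) :
    mul (ax j) (ax j') = sb + (1 / 32 : ℝ) • (ax j + ax j') :=
  k3 hb (hp.step j (Or.inl hj)) j' (Or.inr (by omega))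

/-- `a_c · a_{c±1}` -/
theorem k2n (hb : Basic mul B ax s se sf l1 l2) (c j : ℤ) (hj : j = c + 1 ∨ j = c - 1) :
    mul (ax c) (ax j) = s + (1 / 32 : ℝ) • (ax c + ax j) := by
  rcases hj with hj | hj
  · exact hb.k2 c j hj
  · exact k2' hb c j (by omega)

/-- `a_c · sa` -/
theorem k5 (hb : Basic mul B ax s se sf l1 l2) {c : ℤ} {sa sb : V} (hp : Par se sf c sa sb)
    (j j' : ℤ) (hj : j = c + 2) (hj' : j' = c - 2) :
    mul (ax c) sa = (3 * l2 / 4 - 25 / 1024 : ℝ) • ax c + (7 / 2048 : ℝ) • (ax j + ax j') +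
      (7 / 32 : ℝ) • sa := by
  rcases hp with ⟨h1, rfl, rfl⟩ | ⟨h1, rfl, rfl⟩
  · exact k5e hb c j j' h1 hj hj'
  · exact k5f hb c j j' h1 hj hj'

theorem ipa (hb : Basic mul B ax s se sf l1 l2) {c : ℤ} {sa sb : V} (hp : Par se sf c sa sb) :
    B (ax c) sa = (31 * l2 - 1) / 32 := by
  rcases hp with ⟨h1, rfl, rfl⟩ | ⟨h1, rfl, rfl⟩
  · exact ipe_even hb c h1
  · exact ipf_odd hb c h1

theorem ipb (hb : Basic mul B ax s se sf l1 l2) {c : ℤ} {sa sb : V} (hp : Par se sf c sa sb) :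
    B (ax c) sb = (30 * l1 + l2 - 1) / 32 := by
  rcases hp with ⟨h1, rfl, rfl⟩ | ⟨h1, rfl, rfl⟩
  · exact ipf_even hb c h1
  · exact ipe_odd hb c h1

/-- `s · s` and `a_c · sb` at an arbitrary centre `c` (neighbours `c1 = c+1`, `d1 = c-1`, …) -/
theorem xy (hb : Basic mul B ax s se sf l1 l2) {c : ℤ} {sa sb : V} (hp : Par se sf c sa sb)
    (c1 d1 c2 d2 : ℤ) (h1 : c1 = c + 1) (g1 : d1 = c - 1) (h2 : c2 = c + 2) (g2 : d2 = c - 2) :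
    mul s s = (7 / 6 * l1 ^ 2 - 7 / 384 * l1 + 7 / 1536 * l2 - 7 / 98304 : ℝ) • ax c + (49 / 768 * l1 - 245 / 196608 : ℝ) • ax c1 + (49 / 768 * l1 - 245 / 196608 : ℝ) • ax d1 + (49 / 196608 : ℝ) • ax c2 + (49 / 196608 : ℝ) • ax d2 + (-5 / 12 * l1 - 13 / 1536 : ℝ) • s + (-7 / 1536 : ℝ) • sa + (7 / 2048 : ℝ) • sb
    ∧ mul (ax c) sb = (-32 / 3 * l1 ^ 2 + 5 / 3 * l1 - 1 / 24 * l2 - 127 / 3072 : ℝ) • ax c + (1 / 6 * l1 - 19 / 3072 : ℝ) • ax c1 + (1 / 6 * l1 - 19 / 3072 : ℝ) • ax d1 + (7 / 6144 : ℝ) • ax c2 + (7 / 6144 : ℝ) • ax d2 + (32 / 3 * l1 - 19 / 48 : ℝ) • s + (7 / 96 : ℝ) • sa := by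
  have hu := hb.e0 c c1 d1 (by omega)
  have hv := hb.e4 c c1 d1 (by omega)
  unfold u0 at hu
  unfold v4 at hv
  rw [sig1 hb c c1 h1, hb.ip1 c c1 h1] at hu hv
  have F1 := hb.fus00 c _ _ hu hu
  have F2 := hb.fus04 c _ _ hu hv
  have F3 := hb.fus44 c _ _ hv hv
  rw [kappa hb c c1 d1 h1 g1] at F3
  exact xy_core mul hb.comm (ax c) (ax c1) (ax d1) (ax c2) (ax d2) s sa sb l1 l2
    (hb.idem c) (hb.idem c1) (hb.idem d1)
    (k2n hb c c1 (Or.inl h1)) (k2n hb c d1 (Or.inr g1))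
    (k3n hb hp c1 d1 h1 g1)
    (k3 hb hp c2 (Or.inl h2)) (k3 hb hp d2 (Or.inr g2))
    (k4 hb c c1 d1 h1 g1) (k4 hb c1 c2 c (by omega) (by omega))
    (k4 hb d1 c d2 (by omega) (by omega)) F1 F2 F3

/-- the relation `(★)`: `a_{c+3}` in terms of `a_{c-2}, …, a_{c+2}, sa, sb` -/
theorem star_up (hb : Basic mul B ax s se sf l1 l2) {c : ℤ} {sa sb : V} (hp : Par se sf c sa sb)
    (c1 d1 c2 d2 c3 : ℤ) (h1 : c1 = c + 1) (g1 : d1 = c - 1) (h2 : c2 = c + 2) (g2 : d2 = c - 2)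
    (h3 : c3 = c + 3) :
    ax c3 = (32768 / 7 * l1 ^ 2 - 2304 / 7 * l1 + 128 / 7 * l2 + 33 / 7 : ℝ) • ax c + (-32768 / 7 * l1 ^ 2 + 2304 / 7 * l1 - 128 / 7 * l2 - 33 / 7 : ℝ) • ax c1 + (256 * l1 - 6 : ℝ) • ax d1 + (-256 * l1 + 6 : ℝ) • ax c2 + (1 : ℝ) • ax d2 + (-32 : ℝ) • sa + (32 : ℝ) • sb := by
  have hX0 := (xy hb hp c1 d1 c2 d2 h1 g1 h2 g2).1
  have hX1 := (xy hb (hp.step c1 (Or.inl h1)) c2 c c3 d1 (by omega) (by omega) (by omega)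
    (by omega)).1
  linear_combination (norm := module) (196608 / 49 : ℝ) • hX0 - (196608 / 49 : ℝ) • hX1

/-- the mirrored relation: `a_{c-3}` -/
theorem star_down (hb : Basic mul B ax s se sf l1 l2) {c : ℤ} {sa sb : V} (hp : Par se sf c sa sb)
    (c1 d1 c2 d2 d3 : ℤ) (h1 : c1 = c + 1) (g1 : d1 = c - 1) (h2 : c2 = c + 2) (g2 : d2 = c - 2)
    (g3 : d3 = c - 3) :
    ax d3 = (32768 / 7 * l1 ^ 2 - 2304 / 7 * l1 + 128 / 7 * l2 + 33 / 7 : ℝ) • ax c + (-32768 / 7 * l1 ^ 2 + 2304 / 7 * l1 - 128 / 7 * l2 - 33 / 7 : ℝ) • ax d1 + (256 * l1 - 6 : ℝ) • ax c1 + (-256 * l1 + 6 : ℝ) • ax d2 + (1 : ℝ) • ax c2 + (-32 : ℝ) • sa + (32 : ℝ) • sb := by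
  have hX0 := (xy hb hp c1 d1 c2 d2 h1 g1 h2 g2).1
  have hX1 := (xy hb (hp.step d1 (Or.inr g1)) c d2 c1 d3 (by omega) (by omega) (by omega)
    (by omega)).1
  linear_combination (norm := module) (196608 / 49 : ℝ) • hX0 - (196608 / 49 : ℝ) • hX1

end Cfsg.Agent.Lib.Helper16_SakPar
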