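import Mathlib
import Cfsg.Agent.Lib.Helper16_SakDefs
import Cfsg.Agent.Lib.Helper16_SakBasic
import Cfsg.Agent.Lib.Helper16_SakPar

/-!
# S5544 (Sakuma): the products `a_c · a_{c±3}` (helper16)
-/

set_option autoImplicit false
set_option linter.unusedSimpArgs false
set_option linter.unusedVariables false
set_option linter.unusedSectionVars false

namespace Cfsg.Agent.Lib.Helper16_SakA3

open Cfsg.Agent.Lib.Helper16_SakDefs Cfsg.Agent.Lib.Helper16_SakBasic Cfsg.Agent.Lib.Helper16_SakPar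

variable {V : Type*} [AddCommGroup V] [Module ℝ V]
  {mul : V →ₗ[ℝ] V →ₗ[ℝ] V} {B : LinearMap.BilinForm ℝ V} {ax : ℤ → V} {s se sf : V} {l1 l2 : ℝ}

/-- `a_c · a_{c+3}` -/
theorem a3_up (hb : Basic mul B ax s se sf l1 l2) {c : ℤ} {sa sb : V} (hp : Par se sf c sa sb)
    (c1 d1 c2 d2 c3 : ℤ) (h1 : c1 = c + 1) (g1 : d1 = c - 1) (h2 : c2 = c + 2) (g2 : d2 = c - 2)
    (h3 : c3 = c + 3) :
    mul (ax c) (ax c3) = (88064 / 21 * l1 ^ 2 - 5576 / 21 * l1 - 160 / 21 * l2 + 1363 / 336 : ℝ) • ax c + (-1024 / 7 * l1 ^ 2 + 328 / 21 * l1 - 4 / 7 * l2 - 29 / 84 : ℝ) • ax c1 + (40 / 3 * l1 - 37 / 96 : ℝ) • ax d1 + (-8 * l1 + 11 / 96 : ℝ) • ax c2 + (-1 / 24 : ℝ) • ax d2 + (-32768 / 7 * l1 ^ 2 + 19456 / 21 * l1 - 128 / 7 * l2 - 491 / 21 : ℝ) • s + (-256 * l1 + 7 / 3 : ℝ) • sa := by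
  rw [star_up hb hp c1 d1 c2 d2 c3 h1 g1 h2 g2 h3]
  simp only [map_add, map_smul, hb.idem, k2n hb c c1 (Or.inl h1), k2n hb c d1 (Or.inr g1),
    k3 hb hp c2 (Or.inl h2), k3 hb hp d2 (Or.inr g2), k5 hb hp c2 d2 h2 g2,
    (xy hb hp c1 d1 c2 d2 h1 g1 h2 g2).2]
  module

/-- `a_c · a_{c-3}` -/
theorem a3_down (hb : Basic mul B ax s se sf l1 l2) {c : ℤ} {sa sb : V} (hp : Par se sf c sa sb)
    (c1 d1 c2 d2 d3 : ℤ) (h1 : c1 = c + 1) (g1 : d1 = c - 1) (h2 : c2 = c + 2) (g2 : d2 = c - 2)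
    (g3 : d3 = c - 3) :
    mul (ax c) (ax d3) = (88064 / 21 * l1 ^ 2 - 5576 / 21 * l1 - 160 / 21 * l2 + 1363 / 336 : ℝ) • ax c + (-1024 / 7 * l1 ^ 2 + 328 / 21 * l1 - 4 / 7 * l2 - 29 / 84 : ℝ) • ax d1 + (40 / 3 * l1 - 37 / 96 : ℝ) • ax c1 + (-8 * l1 + 11 / 96 : ℝ) • ax d2 + (-1 / 24 : ℝ) • ax c2 + (-32768 / 7 * l1 ^ 2 + 19456 / 21 * l1 - 128 / 7 * l2 - 491 / 21 : ℝ) • s + (-256 * l1 + 7 / 3 : ℝ) • sa := by
  rw [star_down hb hp c1 d1 c2 d2 d3 h1 g1 h2 g2 g3]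
  simp only [map_add, map_smul, hb.idem, k2n hb c c1 (Or.inl h1), k2n hb c d1 (Or.inr g1),
    k3 hb hp c2 (Or.inl h2), k3 hb hp d2 (Or.inr g2), k5 hb hp c2 d2 h2 g2,
    (xy hb hp c1 d1 c2 d2 h1 g1 h2 g2).2]
  module

end Cfsg.Agent.Lib.Helper16_SakA3
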