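import Mathlib
import Cfsg.Agent.Lib.Helper16_SakDefs
import Cfsg.Agent.Lib.Helper16_SakBasic
import Cfsg.Agent.Lib.Helper16_SakPar

/-!
# S5544 (Sakuma): the inner products `(a_0, a_n)`, `n = 3, 4, 5, 6`, as polynomials in `λ₁, λ₂` (helper16)
-/

set_option autoImplicit false
set_option linter.unusedSimpArgs false
set_option linter.unusedVariables false
set_option linter.unusedSectionVars false

namespace Cfsg.Agent.Lib.Helper16_SakLam

open Cfsg.Agent.Lib.Helper16_SakDefs Cfsg.Agent.Lib.Helper16_SakBasic Cfsg.Agent.Lib.Helper16_SakPar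

variable {V : Type*} [AddCommGroup V] [Module ℝ V]
  {mul : V →ₗ[ℝ] V →ₗ[ℝ] V} {B : LinearMap.BilinForm ℝ V} {ax : ℤ → V} {s se sf : V} {l1 l2 : ℝ}

/-- `λ₃` -/
noncomputable def L3 (l1 l2 : ℝ) : ℝ :=
  -32768 / 7 * l1 ^ 3 + 36864 / 7 * l1 ^ 2 - 1920 / 7 * l1 * l2 - 2169 / 7 * l1 - 33 / 7 * l2 + 33 / 7

/-- `λ₄` -/
noncomputable def L4 (l1 l2 : ℝ) : ℝ :=
  8388608 / 7 * l1 ^ 4 - 9601024 / 7 * l1 ^ 3 + 65536 * l1 ^ 2 * l2 + 110592 * l1 ^ 2 - 640 / 7 * l1 * l2 - 128 / 7 * l2 ^ 2 - 19840 / 7 * l1 - 3 * l2 + 156 / 7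

/-- `λ₅` -/
noncomputable def L5 (l1 l2 : ℝ) : ℝ :=
  -13958643712 / 49 * l1 ^ 5 + 16273899520 / 49 * l1 ^ 4 - 754974720 / 49 * l1 ^ 3 * l2 - 1633419264 / 49 * l1 ^ 3 + 12582912 / 49 * l1 ^ 2 * l2 + 475136 / 49 * l1 * l2 ^ 2 + 8683520 / 7 * l1 ^ 2 + 259584 / 49 * l1 * l2 - 256 / 49 * l2 ^ 2 - 137721 / 7 * l1 - 5256 / 49 * l2 + 5512 / 49

/-- `λ₆` -/
noncomputable def L6 (l1 l2 : ℝ) : ℝ :=
  3298534883328 / 49 * l1 ^ 6 - 3917010173952 / 49 * l1 ^ 5 + 177167400960 / 49 * l1 ^ 4 * l2 + 469317451776 / 49 * l1 ^ 4 - 5511315456 / 49 * l1 ^ 3 * l2 - 25165824 / 7 * l1 ^ 2 * l2 ^ 2 - 22767894528 / 49 * l1 ^ 3 - 97910784 / 49 * l1 ^ 2 * l2 + 2457600 / 49 * l1 * l2 ^ 2 + 16384 / 49 * l2 ^ 3 + 542429184 / 49 * l1 ^ 2 + 5162880 / 49 * l1 * l2 + 1152 / 49 * l2 ^ 2 - 904320 / 7 * l1 - 46500 / 49 * l2 + 29013 / 49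

theorem lam3 (hb : Basic mul B ax s se sf l1 l2) : B (ax 0) (ax 3) = L3 l1 l2 := by
  have h := star_up hb (par_even se sf 0 (by norm_num)) 1 (-1) 2 (-2) 3 (by norm_num) (by norm_num)
    (by norm_num) (by norm_num) (by norm_num)
  have h' := congrArg (B (ax 0)) h
  simp only [map_add, map_smul, smul_eq_mul, hb.unit, hb.ip1 0 1 (by norm_num),
    ip1' hb 0 (-1) (by norm_num), hb.ip2 0 2 (by norm_num), ip2' hb 0 (-2) (by norm_num),
    ipe_even hb 0 (by norm_num), ipf_even hb 0 (by norm_num)] at h'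
  rw [h']
  unfold L3
  ring

theorem lam4 (hb : Basic mul B ax s se sf l1 l2) : B (ax 0) (ax 4) = L4 l1 l2 := by
  have h := star_up hb (par_odd se sf 1 (by norm_num)) 2 0 3 (-1) 4 (by norm_num) (by norm_num)
    (by norm_num) (by norm_num) (by norm_num)
  have h' := congrArg (B (ax 0)) h
  simp only [map_add, map_smul, smul_eq_mul, hb.unit, hb.ip1 0 1 (by norm_num),
    ip1' hb 0 (-1) (by norm_num), hb.ip2 0 2 (by norm_num), lam3 hb,
    ipe_even hb 0 (by norm_num), ipf_even hb 0 (by norm_num)] at h'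
  rw [h']
  unfold L3 L4
  ring

theorem lam5 (hb : Basic mul B ax s se sf l1 l2) : B (ax 0) (ax 5) = L5 l1 l2 := by
  have h := star_up hb (par_even se sf 2 (by norm_num)) 3 1 4 0 5 (by norm_num) (by norm_num)
    (by norm_num) (by norm_num) (by norm_num)
  have h' := congrArg (B (ax 0)) h
  simp only [map_add, map_smul, smul_eq_mul, hb.unit, hb.ip1 0 1 (by norm_num),
    hb.ip2 0 2 (by norm_num), lam3 hb, lam4 hb,
    ipe_even hb 0 (by norm_num), ipf_even hb 0 (by norm_num)] at h'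
  rw [h']
  unfold L3 L4 L5
  ring

theorem lam6 (hb : Basic mul B ax s se sf l1 l2) : B (ax 0) (ax 6) = L6 l1 l2 := by
  have h := star_up hb (par_odd se sf 3 (by norm_num)) 4 2 5 1 6 (by norm_num) (by norm_num)
    (by norm_num) (by norm_num) (by norm_num)
  have h' := congrArg (B (ax 0)) h
  simp only [map_add, map_smul, smul_eq_mul, hb.unit, hb.ip1 0 1 (by norm_num),
    hb.ip2 0 2 (by norm_num), lam3 hb, lam4 hb, lam5 hb,
    ipe_even hb 0 (by norm_num), ipf_even hb 0 (by norm_num)] at h'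
  rw [h']
  unfold L3 L4 L5 L6
  ring

end Cfsg.Agent.Lib.Helper16_SakLam
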