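import Mathlib
import Cfsg.Agent.Lib.Helper16_SakDefs
import Cfsg.Agent.Lib.Helper16_SakBasic
import Cfsg.Agent.Lib.Helper16_SakPar
import Cfsg.Agent.Lib.Helper16_SakA3

/-!
# S5544 (Sakuma): the constraint `ζ` (helper16)

Fusion `0 × 0 → 0` for `u · u₂` and `1/4 × 1/4 → 1 + 0` for `v · v₂` (parts of `a_1` and of `a_2`
with respect to `a_0`): the unknown product `s · se` cancels in `a_0 · (v·v₂ - u·u₂)`.
-/

set_option autoImplicit false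
set_option linter.unusedSimpArgs false
set_option linter.unusedVariables false
set_option linter.unusedSectionVars false
set_option maxHeartbeats 1600000

namespace Cfsg.Agent.Lib.Helper16_SakZeta

open Cfsg.Agent.Lib.Helper16_SakDefs Cfsg.Agent.Lib.Helper16_SakBasic Cfsg.Agent.Lib.Helper16_SakPar
  Cfsg.Agent.Lib.Helper16_SakA3

variable {V : Type*} [AddCommGroup V] [Module ℝ V]
  {mul : V →ₗ[ℝ] V →ₗ[ℝ] V} {B : LinearMap.BilinForm ℝ V} {ax : ℤ → V} {s se sf : V} {l1 l2 : ℝ}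

theorem zeta (hb : Basic mul B ax s se sf l1 l2) :
    ∃ t : ℝ, (-40 / 7 * l1 ^ 2 + 13 / 28 * l1 + 9 / 224 * l2 - 1 / 112 : ℝ) •
        (ax 1 + ax (-1) + (64 : ℝ) • s) +
      (-1 / 16 * l1 + 5 / 4096 : ℝ) • (ax 2 + ax (-2) + (64 : ℝ) • se) = t • ax 0 := by
  have hp0 := par_even se sf 0 (by norm_num)
  have hp1 := par_odd se sf 1 (by norm_num)
  have hpm1 := par_odd se sf (-1) (by norm_num)
  have h3 := star_up hb hp0 1 (-1) 2 (-2) 3 (by norm_num) (by norm_num) (by norm_num) (by norm_num)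
    (by norm_num)
  have hm3 := star_down hb hp0 1 (-1) 2 (-2) (-3) (by norm_num) (by norm_num) (by norm_num)
    (by norm_num) (by norm_num)
  -- product facts
  have P00 := hb.idem 0
  have P01 := k2n hb 0 1 (Or.inl (by norm_num))
  have P0m1 := k2n hb 0 (-1) (Or.inr (by norm_num))
  have P10 := k2n hb 1 0 (Or.inr (by norm_num))
  have Pm10 := k2n hb (-1) 0 (Or.inl (by norm_num))
  have P02 := k3 hb hp0 2 (Or.inl (by norm_num))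
  have P0m2 := k3 hb hp0 (-2) (Or.inr (by norm_num))
  have P12 := k2n hb 1 2 (Or.inl (by norm_num))
  have Pm1m2 := k2n hb (-1) (-2) (Or.inr (by norm_num))
  have P0s := k4 hb 0 1 (-1) (by norm_num) (by norm_num)
  have Ps0 := k4' hb 0 1 (-1) (by norm_num) (by norm_num)
  have P0e := k5 hb hp0 2 (-2) (by norm_num) (by norm_num)
  have P0f := (xy hb hp0 1 (-1) 2 (-2) (by norm_num) (by norm_num) (by norm_num) (by norm_num)).2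
  have Ps2 : mul s (ax 2) = (16 * l1 ^ 2 - 9 / 8 * l1 + 1 / 16 * l2 + 33 / 2048 : ℝ) • ax 0 + (-16 * l1 ^ 2 + 9 / 8 * l1 - 1 / 16 * l2 - 13 / 1024 : ℝ) • ax 1 + (7 / 8 * l1 - 21 / 1024 : ℝ) • ax (-1) + (-1 / 8 * l1 - 1 / 256 : ℝ) • ax 2 + (7 / 2048 : ℝ) • ax (-2) + (7 / 32 : ℝ) • s + (-7 / 64 : ℝ) • se + (7 / 64 : ℝ) • sf := by
    rw [k4' hb 2 3 1 (by norm_num) (by norm_num), h3]; module
  have Psm2 : mul s (ax (-2)) = (16 * l1 ^ 2 - 9 / 8 * l1 + 1 / 16 * l2 + 33 / 2048 : ℝ) • ax 0 + (7 / 8 * l1 - 21 / 1024 : ℝ) • ax 1 + (-16 * l1 ^ 2 + 9 / 8 * l1 - 1 / 16 * l2 - 13 / 1024 : ℝ) • ax (-1) + (7 / 2048 : ℝ) • ax 2 + (-1 / 8 * l1 - 1 / 256 : ℝ) • ax (-2) + (7 / 32 : ℝ) • s + (-7 / 64 : ℝ) • se + (7 / 64 : ℝ) • sf := by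
    rw [k4' hb (-2) (-1) (-3) (by norm_num) (by norm_num), hm3]; module
  have P1e : mul (ax 1) se = (16 / 3 * l1 ^ 2 - 5 / 24 * l1 + 1 / 48 * l2 - 5 / 6144 : ℝ) • ax 0 + (-16 * l1 ^ 2 + 49 / 24 * l1 - 1 / 16 * l2 - 287 / 6144 : ℝ) • ax 1 + (7 / 24 * l1 - 35 / 6144 : ℝ) • ax (-1) + (-1 / 8 * l1 + 1 / 1536 : ℝ) • ax 2 + (7 / 6144 : ℝ) • ax (-2) + (32 / 3 * l1 - 19 / 48 : ℝ) • s + (-7 / 192 : ℝ) • se + (7 / 64 : ℝ) • sf := by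
    rw [(xy hb hp1 2 0 3 (-1) (by norm_num) (by norm_num) (by norm_num) (by norm_num)).2, h3]; module
  have Pm1e : mul (ax (-1)) se = (16 / 3 * l1 ^ 2 - 5 / 24 * l1 + 1 / 48 * l2 - 5 / 6144 : ℝ) • ax 0 + (7 / 24 * l1 - 35 / 6144 : ℝ) • ax 1 + (-16 * l1 ^ 2 + 49 / 24 * l1 - 1 / 16 * l2 - 287 / 6144 : ℝ) • ax (-1) + (7 / 6144 : ℝ) • ax 2 + (-1 / 8 * l1 + 1 / 1536 : ℝ) • ax (-2) + (32 / 3 * l1 - 19 / 48 : ℝ) • s + (-7 / 192 : ℝ) • se + (7 / 64 : ℝ) • sf := by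
    rw [(xy hb hpm1 0 (-2) 1 (-3) (by norm_num) (by norm_num) (by norm_num) (by norm_num)).2, hm3]; module
  have P1m2 : mul (ax 1) (ax (-2)) = (-1024 / 3 * l1 ^ 2 + 88 / 3 * l1 - 4 / 3 * l2 - 13 / 24 : ℝ) • ax 0 + (30720 / 7 * l1 ^ 2 - 5864 / 21 * l1 - 48 / 7 * l2 + 1429 / 336 : ℝ) • ax 1 + (-56 / 3 * l1 + 35 / 96 : ℝ) • ax (-1) + (24 * l1 - 61 / 96 : ℝ) • ax 2 + (-1 / 24 : ℝ) • ax (-2) + (-32768 / 7 * l1 ^ 2 + 19456 / 21 * l1 - 128 / 7 * l2 - 491 / 21 : ℝ) • s + (4 / 3 : ℝ) • se + (-256 * l1 + 1 : ℝ) • sf := by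
    rw [a3_down hb hp1 2 0 3 (-1) (-2) (by norm_num) (by norm_num) (by norm_num) (by norm_num)
      (by norm_num), h3]; module
  have Pm12 : mul (ax (-1)) (ax 2) = (-1024 / 3 * l1 ^ 2 + 88 / 3 * l1 - 4 / 3 * l2 - 13 / 24 : ℝ) • ax 0 + (-56 / 3 * l1 + 35 / 96 : ℝ) • ax 1 + (30720 / 7 * l1 ^ 2 - 5864 / 21 * l1 - 48 / 7 * l2 + 1429 / 336 : ℝ) • ax (-1) + (-1 / 24 : ℝ) • ax 2 + (24 * l1 - 61 / 96 : ℝ) • ax (-2) + (-32768 / 7 * l1 ^ 2 + 19456 / 21 * l1 - 128 / 7 * l2 - 491 / 21 : ℝ) • s + (4 / 3 : ℝ) • se + (-256 * l1 + 1 : ℝ) • sf := by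
    rw [a3_up hb hpm1 0 (-2) 1 (-3) 2 (by norm_num) (by norm_num) (by norm_num) (by norm_num)
      (by norm_num), hm3]; module
  -- eigenvectors
  have hu := hb.e0 0 1 (-1) (by norm_num)
  have hv := hb.e4 0 1 (-1) (by norm_num)
  have hu2 := hb.e0 0 2 (-2) (by norm_num)
  have hv2 := hb.e4 0 2 (-2) (by norm_num)
  unfold u0 at hu hu2
  unfold v4 at hv hv2
  rw [sig1 hb 0 1 (by norm_num), hb.ip1 0 1 (by norm_num)] at hu hv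
  rw [sig2e hb 0 2 (by norm_num) (by norm_num), hb.ip2 0 2 (by norm_num)] at hu2 hv2
  have F00 := hb.fus00 0 _ _ hu hu2
  obtain ⟨κ, F44⟩ : ∃ κ : ℝ, mul (ax 0) (mul ((4 : ℝ) • s + (1 / 8 - 4 * l1) • ax 0 +
      (1 / 16 : ℝ) • (ax 1 + ax (-1))) ((4 : ℝ) • se + (1 / 8 - 4 * l2) • ax 0 +
      (1 / 16 : ℝ) • (ax 2 + ax (-2)))) = κ • ax 0 := ⟨_, hb.fus44 0 _ _ hv hv2⟩
  simp only [map_add, map_smul, map_neg, LinearMap.add_apply, LinearMap.smul_apply,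
    LinearMap.neg_apply, P00, P01, P0m1, P10, Pm10, P02, P0m2, P12, Pm1m2, P0s, Ps0, P0e, P0f,
    Ps2, Psm2, P1e, Pm1e, P1m2, Pm12, smul_add, smul_smul] at F00 F44
  refine ⟨κ - (2048 / 7 * l1 ^ 3 + 288 / 7 * l1 ^ 2 - 27 / 7 * l1 * l2 - 139 / 56 * l1 - 9 / 224 * l2 + 387 / 14336), ?_⟩
  linear_combination (norm := module) F44 - F00

end Cfsg.Agent.Lib.Helper16_SakZeta
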