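import Mathlib
import Cfsg.Agent.Lib.Helper16_SakDefs
import Cfsg.Agent.Lib.Helper16_SakBasic
import Cfsg.Agent.Lib.Helper16_SakPar
import Cfsg.Agent.Lib.Helper16_SakLam
import Cfsg.Agent.Lib.Helper16_SakZeta

/-!
# S5544 (Sakuma): the polynomial equations for `(λ₁, λ₂)`, their solution, and the computational
main theorem `sakuma_comp` (helper16)

`P1 = P2 = 0` come from the inner products of the constraint `ζ` with `a_0, a_1, a_2`.
`Res_{λ₂}(P1, P2) = C · λ₁ (λ₁ - 1/8)(λ₁ - 1/64)² (λ₁ - 13/256)(λ₁ - 1/32)(λ₁ - 3/128)(λ₁ - 5/256)(λ₁ - 1)`;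
the common zeros are the nine Norton–Sakuma pairs, and in each case some `λ_n = 1`, `n ≤ 6`.
-/

set_option autoImplicit false
set_option linter.unusedSimpArgs false
set_option linter.unusedVariables false
set_option linter.unusedSectionVars false
set_option maxHeartbeats 1600000

namespace Cfsg.Agent.Lib.Helper16_SakSolve

open Cfsg.Agent.Lib.Helper16_SakDefs Cfsg.Agent.Lib.Helper16_SakBasic Cfsg.Agent.Lib.Helper16_SakPar
  Cfsg.Agent.Lib.Helper16_SakLam Cfsg.Agent.Lib.Helper16_SakZeta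

variable {V : Type*} [AddCommGroup V] [Module ℝ V]
  {mul : V →ₗ[ℝ] V →ₗ[ℝ] V} {B : LinearMap.BilinForm ℝ V} {ax : ℤ → V} {s se sf : V} {l1 l2 : ℝ}

/-- first polynomial equation -/
noncomputable def P1 (l1 l2 : ℝ) : ℝ :=
  4608 / 7 * l1 ^ 4 - 5112 / 7 * l1 ^ 3 + 90 / 7 * l1 ^ 2 * l2 + 405 / 7 * l1 ^ 2 + 1251 / 448 * l1 * l2 + 9 / 224 * l2 ^ 2 - 675 / 448 * l1 - 1503 / 28672 * l2 + 351 / 28672

/-- second polynomial equation -/
noncomputable def P2 (l1 l2 : ℝ) : ℝ :=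
  -2359296 / 49 * l1 ^ 5 + 2691072 / 49 * l1 ^ 4 - 115200 / 49 * l1 ^ 3 * l2 - 229752 / 49 * l1 ^ 3 + 7632 / 49 * l1 ^ 2 * l2 - 414 / 49 * l1 * l2 ^ 2 + 135 * l1 ^ 2 - 18945 / 1568 * l1 * l2 - 657 / 3136 * l2 ^ 2 - 297 / 224 * l1 + 41697 / 200704 * l2 + 351 / 200704

theorem p12 (hb : Basic mul B ax s se sf l1 l2) : P1 l1 l2 = 0 ∧ P2 l1 l2 = 0 := by
  obtain ⟨t, hz⟩ := zeta hb
  have i13 : B (ax 1) (ax (-2)) = L3 l1 l2 := by
    rw [hb.symm, hb.ipd 0 (-3) (-2) 1 (-1) (by norm_num) (by norm_num),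
      hb.ipd 0 3 0 (-3) 0 (by norm_num) (by norm_num), lam3 hb]
  have i23 : B (ax 2) (ax (-1)) = L3 l1 l2 := by
    rw [hb.ipd 0 3 2 (-1) 1 (by norm_num) (by norm_num), lam3 hb]
  have i24 : B (ax 2) (ax (-2)) = L4 l1 l2 := by
    rw [hb.ipd 0 4 2 (-2) 1 (by norm_num) (by norm_num), lam4 hb]
  have e0 := congrArg (B (ax 0)) hz
  have e1 := congrArg (B (ax 1)) hz
  have e2 := congrArg (B (ax 2)) hz
  simp only [map_add, map_smul, smul_eq_mul, hb.unit, hb.ip1 0 1 (by norm_num),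
    ip1' hb 0 (-1) (by norm_num), hb.ip2 0 2 (by norm_num), ip2' hb 0 (-2) (by norm_num),
    ips hb, ipe_even hb 0 (by norm_num)] at e0
  simp only [map_add, map_smul, smul_eq_mul, hb.unit, ip1' hb 1 0 (by norm_num),
    ip2' hb 1 (-1) (by norm_num), hb.ip1 1 2 (by norm_num), i13,
    ips hb, ipe_odd hb 1 (by norm_num)] at e1
  simp only [map_add, map_smul, smul_eq_mul, hb.unit, ip2' hb 2 0 (by norm_num),
    ip1' hb 2 1 (by norm_num), i23, i24,
    ips hb, ipe_even hb 2 (by norm_num)] at e2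
  unfold L3 at e1 e2
  unfold L4 at e2
  constructor
  · unfold P1
    linear_combination e1 - l1 * e0
  · unfold P2
    linear_combination e2 - l2 * e0

/-- the solutions of `P1 = P2 = 0` -/
theorem solve {l1 l2 : ℝ} (h1 : P1 l1 l2 = 0) (h2 : P2 l1 l2 = 0) :
    (l1 = 0 ∧ l2 = 1) ∨ (l1 = 1 / 8 ∧ l2 = 1) ∨ (l1 = 1 / 64 ∧ l2 = 1 / 64) ∨
    (l1 = 1 / 64 ∧ l2 = 1 / 8) ∨ (l1 = 13 / 256 ∧ l2 = 13 / 256) ∨ (l1 = 1 / 32 ∧ l2 = 0) ∨
    (l1 = 3 / 128 ∧ l2 = 3 / 128) ∨ (l1 = 5 / 256 ∧ l2 = 13 / 256) ∨ (l1 = 1 ∧ l2 = 1) := by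
  unfold P1 at h1
  unfold P2 at h2
  have hD : (-4860 / 343 * l1 ^ 3 - 3645 / 112 * l1 ^ 2 + 482355 / 1404928 * l1 + 236925 / 89915392) * l2 +
      (-1244160 / 343 * l1 ^ 5 + 1312200 / 343 * l1 ^ 4 - 404595 / 2744 * l1 ^ 3 - 105705 / 21952 * l1 ^ 2 + 373005 / 1404928 * l1 - 236925 / 89915392) = 0 := by
    linear_combination (-414 / 49 * l1 - 657 / 3136) * h1 - (9 / 224) * h2
  have hR : l1 * (l1 - 1 / 8) * ((l1 - 1 / 64) * (l1 - 1 / 64)) * (l1 - 13 / 256) * (l1 - 1 / 32) *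
      (l1 - 3 / 128) * (l1 - 5 / 256) * (l1 - 1) = 0 := by
    linear_combination (-16807 / 27209779200 : ℝ) *
      ((-4860 / 343 * l1 ^ 3 - 3645 / 112 * l1 ^ 2 + 482355 / 1404928 * l1 + 236925 / 89915392) ^ 2 * h1 -
        ((9 / 224) * ((-4860 / 343 * l1 ^ 3 - 3645 / 112 * l1 ^ 2 + 482355 / 1404928 * l1 + 236925 / 89915392) * l2 -
          (-1244160 / 343 * l1 ^ 5 + 1312200 / 343 * l1 ^ 4 - 404595 / 2744 * l1 ^ 3 - 105705 / 21952 * l1 ^ 2 + 373005 / 1404928 * l1 - 236925 / 89915392)) +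
          (90 / 7 * l1 ^ 2 + 1251 / 448 * l1 - 1503 / 28672) *
            (-4860 / 343 * l1 ^ 3 - 3645 / 112 * l1 ^ 2 + 482355 / 1404928 * l1 + 236925 / 89915392)) * hD)
  simp only [mul_eq_zero, sub_eq_zero] at hR
  rcases hR with (((((((h | h) | (h | h)) | h) | h) | h) | h) | h)
  · subst h
    left
    refine ⟨rfl, ?_⟩
    norm_num at hD
    linarith
  · subst h
    right; left
    refine ⟨rfl, ?_⟩
    norm_num at hD
    linarith
  · subst h
    have h3 : (l2 - 1 / 8) * (l2 - 1 / 64) = 0 := by linear_combination (224 / 9 : ℝ) * h1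
    rcases mul_eq_zero.mp h3 with h4 | h4
    · right; right; right; left
      exact ⟨rfl, by linarith⟩
    · right; right; left
      exact ⟨rfl, by linarith⟩
  · subst h
    have h3 : (l2 - 1 / 8) * (l2 - 1 / 64) = 0 := by linear_combination (224 / 9 : ℝ) * h1
    rcases mul_eq_zero.mp h3 with h4 | h4
    · right; right; right; left
      exact ⟨rfl, by linarith⟩
    · right; right; left
      exact ⟨rfl, by linarith⟩
  · subst h
    right; right; right; right; left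
    refine ⟨rfl, ?_⟩
    norm_num at hD
    linarith
  · subst h
    right; right; right; right; right; left
    refine ⟨rfl, ?_⟩
    norm_num at hD
    linarith
  · subst h
    right; right; right; right; right; right; left
    refine ⟨rfl, ?_⟩
    norm_num at hD
    linarith
  · subst h
    right; right; right; right; right; right; right; left
    refine ⟨rfl, ?_⟩
    norm_num at hD
    linarith
  · subst h
    right; right; right; right; right; right; right; right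
    refine ⟨rfl, ?_⟩
    norm_num at hD
    linarith

/-- **The computational main theorem.** -/
theorem sakuma_comp (hb : Basic mul B ax s se sf l1 l2) :
    ∃ n : ℕ, 1 ≤ n ∧ n ≤ 6 ∧ B (ax 0) (ax (n : ℤ)) = 1 := by
  obtain ⟨hP1, hP2⟩ := p12 hb
  have c1 : ((1 : ℕ) : ℤ) = 0 + 1 := by norm_num
  have c2 : ((2 : ℕ) : ℤ) = 0 + 2 := by norm_num
  have c3 : ((3 : ℕ) : ℤ) = 3 := by norm_num
  have c4 : ((4 : ℕ) : ℤ) = 4 := by norm_num
  have c5 : ((5 : ℕ) : ℤ) = 5 := by norm_num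
  have c6 : ((6 : ℕ) : ℤ) = 6 := by norm_num
  rcases solve hP1 hP2 with ⟨h1, h2⟩ | ⟨h1, h2⟩ | ⟨h1, h2⟩ | ⟨h1, h2⟩ | ⟨h1, h2⟩ | ⟨h1, h2⟩ |
    ⟨h1, h2⟩ | ⟨h1, h2⟩ | ⟨h1, h2⟩
  · exact ⟨2, by norm_num, by norm_num, by rw [hb.ip2 0 _ c2, h2]⟩
  · exact ⟨2, by norm_num, by norm_num, by rw [hb.ip2 0 _ c2, h2]⟩
  · refine ⟨3, by norm_num, by norm_num, ?_⟩
    rw [c3, lam3 hb, h1, h2]; unfold L3; norm_num
  · refine ⟨4, by norm_num, by norm_num, ?_⟩
    rw [c4, lam4 hb, h1, h2]; unfold L4; norm_num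
  · refine ⟨3, by norm_num, by norm_num, ?_⟩
    rw [c3, lam3 hb, h1, h2]; unfold L3; norm_num
  · refine ⟨4, by norm_num, by norm_num, ?_⟩
    rw [c4, lam4 hb, h1, h2]; unfold L4; norm_num
  · refine ⟨5, by norm_num, by norm_num, ?_⟩
    rw [c5, lam5 hb, h1, h2]; unfold L5; norm_num
  · refine ⟨6, by norm_num, by norm_num, ?_⟩
    rw [c6, lam6 hb, h1, h2]; unfold L6; norm_num
  · exact ⟨1, by norm_num, by norm_num, by rw [hb.ip1 0 _ c1, h1]⟩

end Cfsg.Agent.Lib.Helper16_SakSolve
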