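import Mathlib
import Cfsg.Prelude.Def_AxialAlgebras
import Cfsg.Agent.Lib.Helper16_SakDefs

/-!
# S5544 (Sakuma), market `sak_packages` (architect helper16), package DIH-ORD, auxiliary form

`pow_eq_one_of_axF_of`: if `axF n = axF 0` then `(μ₀ μ₁)^n = 1`, with the statements of AX-MU (`mu_mu`, `mu_unique`) and
DIH-FAM (`fam_axF`) as explicit hypotheses.  helper21.
-/

set_option autoImplicit false

namespace Cfsg.Agent.Lib.Helper21_SAK_DIHORDaux

open Cfsg.Axial Cfsg.Agent.Lib.Helper16_SakDefs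

section grp

variable {G : Type*} [Group G]

theorem h21_inv_of_sq {s : G} (hs : s * s = 1) : s⁻¹ = s := inv_eq_of_mul_eq_one_right hs

/-- `s t = (t s)⁻¹` for involutions -/
theorem h21_st {s t : G} (hs : s * s = 1) (ht : t * t = 1) : s * t = (t * s)⁻¹ := by
  apply eq_inv_of_mul_eq_one_right
  calc t * s * (s * t) = t * (s * s) * t := by group
    _ = 1 := by rw [hs, mul_one, ht]

theorem h21_conj_s {s t : G} (hs : s * s = 1) (ht : t * t = 1) (k : ℕ) :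
    s * (t * s) ^ k * s = ((t * s) ^ k)⁻¹ := by
  have h1 : s * (t * s) ^ k * s = (s * (t * s) * s⁻¹) ^ k := by
    rw [conj_pow, h21_inv_of_sq hs]
  rw [h1, h21_inv_of_sq hs]
  have h2 : s * (t * s) * s = s * t := by
    calc s * (t * s) * s = s * t * (s * s) := by group
      _ = s * t := by rw [hs, mul_one]
  rw [h2, h21_st hs ht, inv_pow]

theorem h21_conj_t {s t : G} (hs : s * s = 1) (ht : t * t = 1) (k : ℕ) :
    t * (t * s) ^ k * t = ((t * s) ^ k)⁻¹ := by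
  have h1 : t * (t * s) ^ k * t = (t * (t * s) * t⁻¹) ^ k := by
    rw [conj_pow, h21_inv_of_sq ht]
  rw [h1, h21_inv_of_sq ht]
  have h2 : t * (t * s) * t = s * t := by
    calc t * (t * s) * t = (t * t) * s * t := by group
      _ = s * t := by rw [ht, one_mul]
  rw [h2, h21_st hs ht, inv_pow]

theorem h21_dih_even {s t : G} (hs : s * s = 1) (ht : t * t = 1) (k : ℕ)
    (h : (t * s) ^ k * s * ((t * s) ^ k)⁻¹ = s) : (s * t) ^ (k + k) = 1 := by
  have hc : (t * s) ^ k * s = s * (t * s) ^ k := mul_inv_eq_iff_eq_mul.mp h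
  have h1 : s * (t * s) ^ k * s = (t * s) ^ k := by
    rw [← hc, mul_assoc, hs, mul_one]
  have h2 : (t * s) ^ k = ((t * s) ^ k)⁻¹ := by
    rw [← h21_conj_s hs ht k, h1]
  have h3 : (t * s) ^ (k + k) = 1 := by
    rw [pow_add]
    nth_rewrite 2 [h2]
    exact mul_inv_cancel _
  rw [h21_st hs ht, inv_pow, h3, inv_one]

theorem h21_dih_odd {s t : G} (hs : s * s = 1) (ht : t * t = 1) (k : ℕ)
    (h : (t * s) ^ k * t * ((t * s) ^ k)⁻¹ = s) : (s * t) ^ (k + k + 1) = 1 := by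
  have h1 : t * ((t * s) ^ k)⁻¹ = (t * s) ^ k * t := by
    rw [← h21_conj_t hs ht k]
    calc t * (t * (t * s) ^ k * t) = (t * t) * (t * s) ^ k * t := by group
      _ = (t * s) ^ k * t := by rw [ht, one_mul]
  have h2 : (t * s) ^ k * (t * s) ^ k * t = s := by
    rw [mul_assoc, ← h1, ← mul_assoc]
    exact h
  have h3 : (t * s) ^ k * (t * s) ^ k = s * t := by
    have : (t * s) ^ k * (t * s) ^ k = s * t⁻¹ := eq_mul_inv_of_mul_eq h2
    rw [this, h21_inv_of_sq ht]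
  have h4 : (t * s) ^ (k + k + 1) = 1 := by
    rw [pow_succ, pow_add, h3, h21_st hs ht]
    exact inv_mul_cancel _
  rw [h21_st hs ht, inv_pow, h4, inv_one]

end grp

variable {V : Type*} [AddCommGroup V] [Module ℝ V]
  {mul : V →ₗ[ℝ] V →ₗ[ℝ] V} {B : LinearMap.BilinForm ℝ V}

/-- DIH-ORD with the statements of AX-MU and DIH-FAM as hypotheses -/
theorem pow_eq_one_of_axF_of {μ₀ μ₁ : V ≃ₗ[ℝ] V} {a₀ a₁ : V}
    (hF : Fam mul B (axF μ₀ μ₁ a₀ a₁) (tauF μ₀ μ₁))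
    (huniq : ∀ {μ μ' : V ≃ₗ[ℝ] V} {a : V}, UAxis mul B μ a → UAxis mul B μ' a → μ = μ')
    (hm0 : ∀ x, μ₀ (μ₀ x) = x) (hm1 : ∀ x, μ₁ (μ₁ x) = x) (n : ℕ)
    (hn : axF μ₀ μ₁ a₀ a₁ (n : ℤ) = axF μ₀ μ₁ a₀ a₁ 0) : (μ₀ * μ₁) ^ n = 1 := by
  have h00 : μ₀ * μ₀ = 1 := LinearEquiv.ext hm0
  have h11 : μ₁ * μ₁ = 1 := LinearEquiv.ext hm1
  have hax := hF.axis (n : ℤ)
  rw [hn] at hax
  have htau : tauF μ₀ μ₁ (n : ℤ) = tauF μ₀ μ₁ 0 := huniq hax (hF.axis 0)
  have ht0 : tauF μ₀ μ₁ 0 = μ₀ := by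
    unfold tauF
    rw [if_pos (by norm_num)]
    simp
  rw [ht0] at htau
  rcases Nat.even_or_odd' n with ⟨k, hk | hk⟩
  · -- `n = 2 k`
    have hk' : n = k + k := by omega
    have e1 : (n : ℤ) % 2 = 0 := by omega
    have e2 : (n : ℤ) / 2 = (k : ℤ) := by omega
    unfold tauF at htau
    rw [if_pos e1, e2, zpow_natCast] at htau
    rw [hk']
    exact h21_dih_even h00 h11 k htau
  · -- `n = 2 k + 1`
    have hk' : n = k + k + 1 := by omega
    have e1 : ¬ (n : ℤ) % 2 = 0 := by omega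
    have e2 : (n : ℤ) / 2 = (k : ℤ) := by omega
    unfold tauF at htau
    rw [if_neg e1, e2, zpow_natCast] at htau
    rw [hk']
    exact h21_dih_odd h00 h11 k htau

end Cfsg.Agent.Lib.Helper21_SAK_DIHORDaux
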