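import Mathlib
import Cfsg.Prelude.Def_AxialAlgebras
import Cfsg.Agent.Lib.Helper16_SakDefs

/-!
# sak_packages AX-DEC (helper16 market, S5544)

Decomposition of an arbitrary vector into eigenvectors of a unit Majorana axis, with the
coefficient of `a` and the action of `μ`.
-/

set_option autoImplicit false

namespace Cfsg.Agent.Lib.Helper24_SAK_AXDEC

open Cfsg.Axial Cfsg.Agent.Lib.Helper16_SakDefs

variable {V : Type*} [AddCommGroup V] [Module ℝ V]
  {mul : V →ₗ[ℝ] V →ₗ[ℝ] V} {B : LinearMap.BilinForm ℝ V}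

theorem h24_mem_eigen_iff (mul : V →ₗ[ℝ] V →ₗ[ℝ] V) (a v : V) (c : ℝ) :
    v ∈ eigen mul a c ↔ mul a v = c • v := by
  unfold eigen
  exact Module.End.mem_eigenspace_iff

/-- an eigenvector of the axis for an eigenvalue `c ≠ 1` is `B`-orthogonal to the axis -/
theorem h24_B_axis_eigen {μ : V ≃ₗ[ℝ] V} {a : V} (h : UAxis mul B μ a) {c : ℝ} (hc : c ≠ 1)
    {v : V} (hv : mul a v = c • v) : B a v = 0 := by
  obtain ⟨-, -, -, hassoc, -⟩ := h.amb
  obtain ⟨-, -, ⟨⟨-, hidem, -, -⟩, -⟩, -, -⟩ := h.pair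
  have h1 := hassoc a a v
  rw [hv, hidem, map_smul, smul_eq_mul] at h1
  have h2 : (c - 1) * B a v = 0 := by linarith
  rcases mul_eq_zero.mp h2 with h3 | h3
  · exact absurd (by linarith) hc
  · exact h3

theorem decomp {μ : V ≃ₗ[ℝ] V} {a : V} (h : UAxis mul B μ a) (x : V) :
    ∃ x0 x4 x32 : V, x = (B a x) • a + x0 + x4 + x32 ∧ mul a x0 = 0 ∧
      mul a x4 = (1 / 4 : ℝ) • x4 ∧ mul a x32 = (1 / 32 : ℝ) • x32 ∧
      μ x = (B a x) • a + x0 + x4 - x32 := by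
  have hpair := h.pair
  have hn := h.unit
  obtain ⟨hμmul, hμB, ⟨⟨hne, hidem, htop, hfus⟩, hprim⟩, hmiy1, hmiy2⟩ := hpair
  have hbtop : x ∈ eigenSum mul a majoranaSpectrum := by rw [htop]; trivial
  unfold eigenSum majoranaSpectrum at hbtop
  rw [iSup_insert, iSup_insert, iSup_insert, iSup_singleton] at hbtop
  obtain ⟨b1, hb1, t1, ht1, rfl⟩ := Submodule.mem_sup.mp hbtop
  obtain ⟨b0, hb0, t2, ht2, rfl⟩ := Submodule.mem_sup.mp ht1
  obtain ⟨bq, hbq, br, hbr, rfl⟩ := Submodule.mem_sup.mp ht2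
  have hS1 : eigen mul a 1 ≤ eigenSum mul a ({1, 0, 1 / 4} : Set ℝ) := by
    unfold eigenSum
    exact le_iSup₂_of_le (1 : ℝ) (by simp) le_rfl
  have hS0 : eigen mul a 0 ≤ eigenSum mul a ({1, 0, 1 / 4} : Set ℝ) := by
    unfold eigenSum
    exact le_iSup₂_of_le (0 : ℝ) (by simp) le_rfl
  have hSq : eigen mul a (1 / 4) ≤ eigenSum mul a ({1, 0, 1 / 4} : Set ℝ) := by
    unfold eigenSum
    exact le_iSup₂_of_le (1 / 4 : ℝ) (by simp) le_rfl
  have m1 : μ b1 = b1 := hmiy1 b1 (hS1 hb1)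
  have m0 : μ b0 = b0 := hmiy1 b0 (hS0 hb0)
  have mq : μ bq = bq := hmiy1 bq (hSq hbq)
  have mr : μ br = -br := hmiy2 br hbr
  rw [hprim] at hb1
  obtain ⟨l, rfl⟩ := Submodule.mem_span_singleton.mp hb1
  rw [h24_mem_eigen_iff] at hb0 hbq hbr
  rw [zero_smul] at hb0
  have hB0 : B a b0 = 0 :=
    h24_B_axis_eigen h (c := 0) (by norm_num) (by rw [zero_smul]; exact hb0)
  have hBq : B a bq = 0 := h24_B_axis_eigen h (c := 1 / 4) (by norm_num) hbq
  have hBr : B a br = 0 := h24_B_axis_eigen h (c := 1 / 32) (by norm_num) hbr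
  have hl : B a (l • a + (b0 + (bq + br))) = l := by
    rw [map_add, map_add, map_add, map_smul, hn, hB0, hBq, hBr]
    simp
  rw [hl]
  refine ⟨b0, bq, br, by module, hb0, hbq, hbr, ?_⟩
  rw [map_add, map_add, map_add, m1, m0, mq, mr]
  module

end Cfsg.Agent.Lib.Helper24_SAK_AXDEC
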