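import Mathlib
import Cfsg.Prelude.Def_AxialAlgebras
import Cfsg.Agent.Lib.Helper16_SakDefs
import Cfsg.Agent.Lib.Helper24_SAK_AXDEC

/-!
# sak_packages AX-FUS (helper16 market, S5544)

The three fusion rules `0·0`, `0·1/4`, `1/4·1/4` of a unit Majorana axis, in eigen-equation form.
-/

set_option autoImplicit false

namespace Cfsg.Agent.Lib.Helper24_SAK_AXFUS

open Cfsg.Axial Cfsg.Agent.Lib.Helper16_SakDefs Cfsg.Agent.Lib.Helper24_SAK_AXDEC

variable {V : Type*} [AddCommGroup V] [Module ℝ V]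
  {mul : V →ₗ[ℝ] V →ₗ[ℝ] V} {B : LinearMap.BilinForm ℝ V}

theorem fus00 {μ : V ≃ₗ[ℝ] V} {a : V} (h : UAxis mul B μ a) {p p' : V} (hp : mul a p = 0)
    (hp' : mul a p' = 0) : mul a (mul p p') = 0 := by
  obtain ⟨-, -, ⟨⟨-, -, -, hfus⟩, -⟩, -, -⟩ := h.pair
  have h0 : (0 : ℝ) ∈ majoranaSpectrum := by unfold majoranaSpectrum; simp
  have e0 : p ∈ eigen mul a 0 := by rw [h24_mem_eigen_iff, zero_smul]; exact hp
  have e0' : p' ∈ eigen mul a 0 := by rw [h24_mem_eigen_iff, zero_smul]; exact hp'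
  have f00 := hfus 0 h0 0 h0 p e0 p' e0'
  have l00 : monsterLaw (1 / 4 : ℝ) (1 / 32) 0 0 = ({0} : Set ℝ) := by
    unfold monsterLaw; norm_num
  rw [l00] at f00
  unfold eigenSum at f00
  rw [iSup_singleton, h24_mem_eigen_iff, zero_smul] at f00
  exact f00

theorem fus04 {μ : V ≃ₗ[ℝ] V} {a : V} (h : UAxis mul B μ a) {p q : V} (hp : mul a p = 0)
    (hq : mul a q = (1 / 4 : ℝ) • q) : mul a (mul p q) = (1 / 4 : ℝ) • mul p q := by
  obtain ⟨-, -, ⟨⟨-, -, -, hfus⟩, -⟩, -, -⟩ := h.pair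
  have h0 : (0 : ℝ) ∈ majoranaSpectrum := by unfold majoranaSpectrum; simp
  have h4 : (1 / 4 : ℝ) ∈ majoranaSpectrum := by unfold majoranaSpectrum; simp
  have e0 : p ∈ eigen mul a 0 := by rw [h24_mem_eigen_iff, zero_smul]; exact hp
  have e4 : q ∈ eigen mul a (1 / 4) := by rw [h24_mem_eigen_iff]; exact hq
  have f04 := hfus 0 h0 (1 / 4) h4 p e0 q e4
  have l04 : monsterLaw (1 / 4 : ℝ) (1 / 32) 0 (1 / 4) = ({1 / 4} : Set ℝ) := by
    unfold monsterLaw; norm_num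
  rw [l04] at f04
  unfold eigenSum at f04
  rw [iSup_singleton, h24_mem_eigen_iff] at f04
  exact f04

theorem fus44 {μ : V ≃ₗ[ℝ] V} {a : V} (h : UAxis mul B μ a) {q q' : V}
    (hq : mul a q = (1 / 4 : ℝ) • q) (hq' : mul a q' = (1 / 4 : ℝ) • q') :
    mul a (mul q q') = (B a (mul q q')) • a := by
  have hn := h.unit
  obtain ⟨-, -, ⟨⟨-, hidem, -, hfus⟩, hprim⟩, -, -⟩ := h.pair
  have h4 : (1 / 4 : ℝ) ∈ majoranaSpectrum := by unfold majoranaSpectrum; simp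
  have e4 : q ∈ eigen mul a (1 / 4) := by rw [h24_mem_eigen_iff]; exact hq
  have e4' : q' ∈ eigen mul a (1 / 4) := by rw [h24_mem_eigen_iff]; exact hq'
  have f44 := hfus (1 / 4) h4 (1 / 4) h4 q e4 q' e4'
  have l44 : monsterLaw (1 / 4 : ℝ) (1 / 32) (1 / 4) (1 / 4) = ({1, 0} : Set ℝ) := by
    unfold monsterLaw; norm_num
  rw [l44] at f44
  unfold eigenSum at f44
  rw [iSup_insert, iSup_singleton] at f44
  obtain ⟨w1, hw1, w0, hw0, hsum⟩ := Submodule.mem_sup.mp f44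
  rw [hprim] at hw1
  obtain ⟨c, rfl⟩ := Submodule.mem_span_singleton.mp hw1
  rw [h24_mem_eigen_iff, zero_smul] at hw0
  have hB0 : B a w0 = 0 :=
    h24_B_axis_eigen h (c := 0) (by norm_num) (by rw [zero_smul]; exact hw0)
  rw [← hsum, map_add, map_smul, hidem, hw0, add_zero, map_add, map_smul, hn, hB0]
  simp

end Cfsg.Agent.Lib.Helper24_SAK_AXFUS
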