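import Mathlib
import Cfsg.Prelude.Def_AxialAlgebras
import Cfsg.Agent.Lib.Helper16_SakDefs

/-!
S5544 (Sakuma's theorem, Majorana form; architect helper16, market `sak_packages`), package FINAL, `_of` form: from the
computational theorem `hcomp` to the statement of S5544, with the statements of DIH-FAM (`fam_axF`), FAM-BASIC
(`basic_of_fam`) and DIH-ORD (`pow_eq_one_of_axF`) as hypotheses.
-/

set_option autoImplicit false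
set_option linter.unusedVariables false
set_option linter.unusedSectionVars false

namespace Cfsg.Agent.Lib.Helper2_SAK_FINAL

open Cfsg.Axial Cfsg.Agent.Lib.Helper16_SakDefs

variable {V : Type*} [AddCommGroup V] [Module ℝ V]
  {mul : V →ₗ[ℝ] V →ₗ[ℝ] V} {B : LinearMap.BilinForm ℝ V}

/-- two unit vectors with inner product `1` in a positive definite space are equal -/
theorem eq_of_unit_of_ip_one (hV : Cfsg.Axial.IsMajoranaAmbient mul B) {x y : V} (hx : B x x = 1)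
    (hy : B y y = 1) (hxy : B x y = 1) : y = x := by
  by_contra hne
  have hne' : y - x ≠ 0 := sub_ne_zero.mpr hne
  have hpos := hV.2.2.1 (y - x) hne'
  have hyx : B y x = 1 := by rw [hV.2.1 y x]; exact hxy
  have : B (y - x) (y - x) = 0 := by
    simp only [map_sub, LinearMap.sub_apply, hx, hy, hxy, hyx]
    norm_num
  rw [this] at hpos
  exact lt_irrefl _ hpos

/-- FINAL with the three structural packages as hypotheses -/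
theorem sakuma_final_of [FiniteDimensional ℝ V]
    (hfam : ∀ {μ₀ μ₁ : V ≃ₗ[ℝ] V} {a₀ a₁ : V}, UAxis mul B μ₀ a₀ → UAxis mul B μ₁ a₁ →
      Fam mul B (axF μ₀ μ₁ a₀ a₁) (tauF μ₀ μ₁))
    (hbasic : ∀ {ax : ℤ → V} {tau : ℤ → (V ≃ₗ[ℝ] V)}, Fam mul B ax tau →
      Basic mul B ax (sig mul (ax 0) (ax 1)) (sig mul (ax 0) (ax 2)) (sig mul (ax (-1)) (ax 1))
        (B (ax 0) (ax 1)) (B (ax 0) (ax 2)))
    (hord : ∀ {μ₀ μ₁ : V ≃ₗ[ℝ] V} {a₀ a₁ : V}, UAxis mul B μ₀ a₀ → UAxis mul B μ₁ a₁ → ∀ n : ℕ,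
      axF μ₀ μ₁ a₀ a₁ (n : ℤ) = axF μ₀ μ₁ a₀ a₁ 0 → (μ₀ * μ₁) ^ n = 1)
    (hcomp : ∀ (ax : ℤ → V) (s se sf : V) (l1 l2 : ℝ), Basic mul B ax s se sf l1 l2 →
      ∃ n : ℕ, 1 ≤ n ∧ n ≤ 6 ∧ B (ax 0) (ax (n : ℤ)) = 1)
    (hV : Cfsg.Axial.IsMajoranaAmbient mul B) (μ₀ μ₁ : V ≃ₗ[ℝ] V) (a₀ a₁ : V)
    (h₀ : Cfsg.Axial.IsMajoranaPair mul B μ₀ a₀) (h₁ : Cfsg.Axial.IsMajoranaPair mul B μ₁ a₁)
    (hn₀ : B a₀ a₀ = 1) (hn₁ : B a₁ a₁ = 1) : ∃ n : ℕ, 1 ≤ n ∧ n ≤ 6 ∧ (μ₀ * μ₁) ^ n = 1 := by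
  have u₀ : UAxis mul B μ₀ a₀ := ⟨hV, h₀, hn₀⟩
  have u₁ : UAxis mul B μ₁ a₁ := ⟨hV, h₁, hn₁⟩
  have F := hfam u₀ u₁
  obtain ⟨n, h1, h6, hB⟩ := hcomp _ _ _ _ _ _ (hbasic F)
  refine ⟨n, h1, h6, hord u₀ u₁ n ?_⟩
  exact eq_of_unit_of_ip_one hV (F.axis 0).unit (F.axis (n : ℤ)).unit hB

end Cfsg.Agent.Lib.Helper2_SAK_FINAL
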