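import Mathlib
import Cfsg.Prelude.Def_AxialAlgebras
import Cfsg.Agent.Lib.Helper16_SakDefs

set_option autoImplicit false

/-!
# S5544 (Sakuma), market `sak_packages`, package FAM-SIG (architect helper16; formalised by helper53)

`sig_refl`, `sig_one`, `sig_two_even`, `sig_two_odd`: the σ-vectors of a dihedral family of unit
Majorana axes only depend on the distance (and the parity class for distance two).
Self-contained: `h53_sig_mu` (= `sig_mu` of package PAIR) is proved here directly from the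
eigen-decomposition.
-/

namespace Cfsg.Agent.Lib.Helper53_SAK_FAMSIG

open Cfsg.Axial Cfsg.Agent.Lib.Helper16_SakDefs

variable {V : Type*} [AddCommGroup V] [Module ℝ V]
  {mul : V →ₗ[ℝ] V →ₗ[ℝ] V} {B : LinearMap.BilinForm ℝ V}

theorem h53_mem_eigen_iff (mul : V →ₗ[ℝ] V →ₗ[ℝ] V) (a v : V) (c : ℝ) :
    v ∈ eigen mul a c ↔ mul a v = c • v := by
  unfold eigen
  exact Module.End.mem_eigenspace_iff

/-- the σ-vector does not change when `b` is replaced by its mirror image `μ b` -/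
theorem h53_sig_mu {μ : V ≃ₗ[ℝ] V} {a : V} (h : UAxis mul B μ a) (b : V) :
    sig mul a (μ b) = sig mul a b := by
  obtain ⟨hμmul, hμB, ⟨⟨hne, hidem, htop, hfus⟩, hprim⟩, hmiy1, hmiy2⟩ := h.pair
  have hbtop : b ∈ eigenSum mul a majoranaSpectrum := by rw [htop]; trivial
  unfold eigenSum majoranaSpectrum at hbtop
  rw [iSup_insert, iSup_insert, iSup_insert, iSup_singleton] at hbtop
  obtain ⟨b1, hb1, t1, ht1, rfl⟩ := Submodule.mem_sup.mp hbtop
  obtain ⟨b0, hb0, t2, ht2, rfl⟩ := Submodule.mem_sup.mp ht1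
  obtain ⟨bq, hbq, br, hbr, rfl⟩ := Submodule.mem_sup.mp ht2
  have hS1 : eigen mul a 1 ≤ eigenSum mul a ({1, 0, 1 / 4} : Set ℝ) := by
    unfold eigenSum
    exact le_iSup₂_of_le (1 : ℝ) (by simp) le_rfl
  have hS0 : eigen mul a 0 ≤ eigenSum mul a ({1, 0, 1 / 4} : Set ℝ) := by
    unfold eigenSum
    exact le_iSup₂_of_le (0 : ℝ) (by simp) le_rfl
  have hSq : eigen mul a (1 / 4) ≤ eigenSum mul a ({1, 0, 1 / 4} : Set ℝ) := by
    unfold eigenSum
    exact le_iSup₂_of_le (1 / 4 : ℝ) (by simp) le_rfl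
  have m1 : μ b1 = b1 := hmiy1 b1 (hS1 hb1)
  have m0 : μ b0 = b0 := hmiy1 b0 (hS0 hb0)
  have mq : μ bq = bq := hmiy1 bq (hSq hbq)
  have mr : μ br = -br := hmiy2 br hbr
  rw [h53_mem_eigen_iff] at hb1 hb0 hbq hbr
  unfold sig
  simp only [map_add, m1, m0, mq, mr, map_neg, hb1, hb0, hbq, hbr]
  module

/-- the σ-vector is symmetric -/
theorem h53_sig_symm {μ : V ≃ₗ[ℝ] V} {a : V} (h : UAxis mul B μ a) (x y : V) :
    sig mul x y = sig mul y x := by
  unfold sig
  rw [h.amb.1 x y, add_comm x y]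

/-- FAM-SIG -/
theorem sig_refl {ax : ℤ → V} {tau : ℤ → (V ≃ₗ[ℝ] V)} (F : Fam mul B ax tau) (i j : ℤ) :
    sig mul (ax i) (ax (2 * i - j)) = sig mul (ax i) (ax j) := by
  rw [← F.refl i j]
  exact h53_sig_mu (F.axis i) (ax j)

/-- the σ-vector at distance `d` is `d`-periodic -/
theorem h53_sig_periodic {ax : ℤ → V} {tau : ℤ → (V ≃ₗ[ℝ] V)} (F : Fam mul B ax tau) (d : ℤ) :
    Function.Periodic (fun m : ℤ => sig mul (ax m) (ax (m + d))) d := by
  intro m
  change sig mul (ax (m + d)) (ax (m + d + d)) = sig mul (ax m) (ax (m + d))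
  have h1 : m + d + d = 2 * (m + d) - m := by ring
  rw [h1, sig_refl F (m + d) m]
  exact h53_sig_symm (F.axis 0) _ _

theorem sig_one {ax : ℤ → V} {tau : ℤ → (V ≃ₗ[ℝ] V)} (F : Fam mul B ax tau) (i : ℤ) :
    sig mul (ax i) (ax (i + 1)) = sig mul (ax 0) (ax 1) := by
  have h := (h53_sig_periodic F 1).int_mul i 0
  simp only [zero_add, mul_one, Int.cast_id] at h
  exact h

theorem sig_two_even {ax : ℤ → V} {tau : ℤ → (V ≃ₗ[ℝ] V)} (F : Fam mul B ax tau) (k : ℤ) :
    sig mul (ax (2 * k)) (ax (2 * k + 2)) = sig mul (ax 0) (ax 2) := by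
  have h := (h53_sig_periodic F 2).int_mul k 0
  simp only [zero_add, Int.cast_id] at h
  rw [mul_comm k 2] at h
  exact h

theorem sig_two_odd {ax : ℤ → V} {tau : ℤ → (V ≃ₗ[ℝ] V)} (F : Fam mul B ax tau) (k : ℤ) :
    sig mul (ax (2 * k + 1)) (ax (2 * k + 3)) = sig mul (ax (-1)) (ax 1) := by
  have h := (h53_sig_periodic F 2).int_mul (k + 1) (-1)
  simp only [Int.cast_id] at h
  have e1 : (-1 : ℤ) + (k + 1) * 2 = 2 * k + 1 := by ring
  have e2 : (2 * k + 1 + 2 : ℤ) = 2 * k + 3 := by ring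
  have e3 : (-1 : ℤ) + 2 = 1 := by norm_num
  simp only [e1, e3] at h
  rw [e2] at h
  exact h

end Cfsg.Agent.Lib.Helper53_SAK_FAMSIG
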