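import Mathlib
import Cfsg.Prelude.Def_AxialAlgebras
import Cfsg.Agent.Lib.Helper16_SakDefs

/-!
# sak_packages AX-MU (helper88): `μ` fixes `a`, is an involution, and is determined by `a`
-/

set_option autoImplicit false

namespace Cfsg.Agent.Lib.Helper88_SAK_AXMU

open Cfsg.Axial Cfsg.Agent.Lib.Helper16_SakDefs

variable {V : Type*} [AddCommGroup V] [Module ℝ V]
  {mul : V →ₗ[ℝ] V →ₗ[ℝ] V} {B : LinearMap.BilinForm ℝ V}

/-- every vector is the sum of a vector of the `{1, 0, 1/4}`-part and a `1/32`-eigenvector -/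
theorem split {μ : V ≃ₗ[ℝ] V} {a : V} (h : UAxis mul B μ a) (x : V) :
    ∃ y ∈ eigenSum mul a ({1, 0, 1 / 4} : Set ℝ), ∃ z ∈ eigen mul a (1 / 32 : ℝ), x = y + z := by
  obtain ⟨-, -, ⟨⟨-, -, htop, -⟩, -⟩, -, -⟩ := h.pair
  have hle : eigenSum mul a majoranaSpectrum ≤
      eigenSum mul a ({1, 0, 1 / 4} : Set ℝ) ⊔ eigen mul a (1 / 32 : ℝ) := by
    unfold eigenSum
    apply iSup₂_le
    intro c hc
    unfold majoranaSpectrum at hc
    rcases hc with rfl | rfl | rfl | hc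
    · exact le_sup_of_le_left (le_iSup₂_of_le (1 : ℝ) (by simp) le_rfl)
    · exact le_sup_of_le_left (le_iSup₂_of_le (0 : ℝ) (by simp) le_rfl)
    · exact le_sup_of_le_left (le_iSup₂_of_le (1 / 4 : ℝ) (by simp) le_rfl)
    · rw [Set.mem_singleton_iff] at hc
      subst hc
      exact le_sup_right
  have hx : x ∈ eigenSum mul a ({1, 0, 1 / 4} : Set ℝ) ⊔ eigen mul a (1 / 32 : ℝ) := by
    apply hle
    rw [htop]
    exact Submodule.mem_top
  obtain ⟨y, hy, z, hz, hyz⟩ := Submodule.mem_sup.mp hx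
  exact ⟨y, hy, z, hz, hyz.symm⟩

theorem mu_plus {μ : V ≃ₗ[ℝ] V} {a : V} (h : UAxis mul B μ a) {y : V}
    (hy : y ∈ eigenSum mul a ({1, 0, 1 / 4} : Set ℝ)) : μ y = y := by
  obtain ⟨-, -, -, hm1, -⟩ := h.pair
  exact hm1 y hy

theorem mu_minus {μ : V ≃ₗ[ℝ] V} {a : V} (h : UAxis mul B μ a) {z : V}
    (hz : z ∈ eigen mul a (1 / 32 : ℝ)) : μ z = -z := by
  obtain ⟨-, -, -, -, hm2⟩ := h.pair
  exact hm2 z hz

/-! ### AX-MU (M).  `μ` fixes `a`, is an involution, and is determined by `a`. -/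
theorem mu_axis {μ : V ≃ₗ[ℝ] V} {a : V} (h : UAxis mul B μ a) : μ a = a := by
  apply mu_plus h
  obtain ⟨-, -, ⟨⟨-, hidem, -, -⟩, -⟩, -, -⟩ := h.pair
  have ha : a ∈ eigen mul a (1 : ℝ) := by
    unfold eigen
    rw [Module.End.mem_eigenspace_iff, one_smul]
    exact hidem
  unfold eigenSum
  exact (le_iSup₂_of_le (1 : ℝ) (by simp) le_rfl : eigen mul a (1 : ℝ) ≤ _) ha

theorem mu_mu {μ : V ≃ₗ[ℝ] V} {a : V} (h : UAxis mul B μ a) (x : V) : μ (μ x) = x := by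
  obtain ⟨y, hy, z, hz, rfl⟩ := split h x
  rw [map_add, map_add, mu_plus h hy, mu_minus h hz, map_neg, mu_plus h hy, mu_minus h hz, neg_neg]

theorem mu_unique {μ μ' : V ≃ₗ[ℝ] V} {a : V} (h : UAxis mul B μ a) (h' : UAxis mul B μ' a) :
    μ = μ' := by
  ext x
  obtain ⟨y, hy, z, hz, rfl⟩ := split h x
  rw [map_add, map_add, mu_plus h hy, mu_minus h hz, mu_plus h' hy, mu_minus h' hz]

end Cfsg.Agent.Lib.Helper88_SAK_AXMU
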