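import Mathlib
import Cfsg.Prelude.Def_AxialAlgebras
import Cfsg.Agent.Lib.Helper16_SakDefs

/-!
# sak_packages AX-CONJ (helper88): transport of a unit axis along an automorphism
-/

set_option autoImplicit false

namespace Cfsg.Agent.Lib.Helper88_SAK_AXCONJ

open Cfsg.Axial Cfsg.Agent.Lib.Helper16_SakDefs

variable {V : Type*} [AddCommGroup V] [Module ℝ V]
  {mul : V →ₗ[ℝ] V →ₗ[ℝ] V} {B : LinearMap.BilinForm ℝ V}

theorem mem_eigen_iff' (mul : V →ₗ[ℝ] V →ₗ[ℝ] V) (a v : V) (c : ℝ) :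
    v ∈ eigen mul a c ↔ mul a v = c • v := by
  unfold eigen
  exact Module.End.mem_eigenspace_iff

/-- eigenspaces are transported by automorphisms of the product. -/
theorem eigen_map' (mul : V →ₗ[ℝ] V →ₗ[ℝ] V) (φ : V ≃ₗ[ℝ] V)
    (hφ : ∀ u v, φ (mul u v) = mul (φ u) (φ v)) (a : V) (c : ℝ) :
    eigen mul (φ a) c = (eigen mul a c).map (φ : V →ₗ[ℝ] V) := by
  ext v
  rw [mem_eigen_iff', Submodule.mem_map]
  constructor
  · intro h
    refine ⟨φ.symm v, ?_, by simp⟩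
    rw [mem_eigen_iff']
    apply φ.injective
    rw [hφ, map_smul]
    simp [h]
  · rintro ⟨w, hw, rfl⟩
    rw [mem_eigen_iff'] at hw
    show mul (φ a) (φ w) = c • φ w
    rw [← hφ, hw, map_smul]

theorem eigenSum_map' (mul : V →ₗ[ℝ] V →ₗ[ℝ] V) (φ : V ≃ₗ[ℝ] V)
    (hφ : ∀ u v, φ (mul u v) = mul (φ u) (φ v)) (a : V) (S : Set ℝ) :
    eigenSum mul (φ a) S = (eigenSum mul a S).map (φ : V →ₗ[ℝ] V) := by
  unfold eigenSum
  simp only [Submodule.map_iSup, eigen_map' mul φ hφ]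

theorem conj_apply (φ μ : V ≃ₗ[ℝ] V) (x : V) : (φ * μ * φ⁻¹) x = φ (μ (φ.symm x)) := rfl

theorem symm_mul (φ : V ≃ₗ[ℝ] V) (hm : ∀ x y : V, φ (mul x y) = mul (φ x) (φ y)) (x y : V) :
    φ.symm (mul x y) = mul (φ.symm x) (φ.symm y) := by
  apply φ.injective
  rw [hm, LinearEquiv.apply_symm_apply, LinearEquiv.apply_symm_apply, LinearEquiv.apply_symm_apply]

/-! ### AX-CONJ (M).  Transport of a unit axis along an automorphism. -/
theorem conj {μ : V ≃ₗ[ℝ] V} {a : V} (h : UAxis mul B μ a) (φ : V ≃ₗ[ℝ] V)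
    (hm : ∀ x y : V, φ (mul x y) = mul (φ x) (φ y)) (hB : ∀ x y : V, B (φ x) (φ y) = B x y) :
    UAxis mul B (φ * μ * φ⁻¹) (φ a) := by
  obtain ⟨hμmul, hμB, ⟨⟨hne, hidem, htop, hfus⟩, hprim⟩, hmiy1, hmiy2⟩ := h.pair
  refine ⟨h.amb, ⟨?_, ?_, ⟨⟨?_, ?_, ?_, ?_⟩, ?_⟩, ?_, ?_⟩, ?_⟩
  · intro u v
    rw [conj_apply, conj_apply, conj_apply, symm_mul φ hm, hμmul, hm]
  · intro u v
    rw [conj_apply, conj_apply, hB, hμB]
    conv_rhs => rw [← φ.apply_symm_apply u, ← φ.apply_symm_apply v, hB]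
  · intro h0
    apply hne
    exact φ.map_eq_zero_iff.mp h0
  · rw [← hm, hidem]
  · rw [eigenSum_map' mul φ hm, htop]
    exact Submodule.map_top _ |>.trans (LinearMap.range_eq_top.mpr φ.surjective)
  · intro c hc d hd u hu v hv
    rw [eigen_map' mul φ hm] at hu hv
    obtain ⟨u', hu', rfl⟩ := hu
    obtain ⟨v', hv', rfl⟩ := hv
    rw [eigenSum_map' mul φ hm]
    refine ⟨mul u' v', hfus c hc d hd u' hu' v' hv', ?_⟩
    show φ (mul u' v') = mul (φ u') (φ v')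
    exact hm u' v'
  · rw [eigen_map' mul φ hm, hprim, Submodule.map_span]
    simp
  · intro v hv
    rw [eigenSum_map' mul φ hm] at hv
    obtain ⟨w, hw, rfl⟩ := hv
    show (φ * μ * φ⁻¹) (φ w) = φ w
    rw [conj_apply, LinearEquiv.symm_apply_apply]
    have := hmiy1 w hw
    exact congrArg φ this
  · intro v hv
    rw [eigen_map' mul φ hm] at hv
    obtain ⟨w, hw, rfl⟩ := hv
    show (φ * μ * φ⁻¹) (φ w) = -(φ w)
    rw [conj_apply, LinearEquiv.symm_apply_apply]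
    have h2 : μ w = -w := hmiy2 w hw
    rw [h2, map_neg]
  · rw [hB]
    exact h.unit

end Cfsg.Agent.Lib.Helper88_SAK_AXCONJ
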