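import Mathlib
import Cfsg.Prelude.Def_AxialAlgebras
import Cfsg.Agent.Lib.Helper16_SakDefs
import Cfsg.Agent.Lib.Helper88_SAK_AXMU
import Cfsg.Agent.Lib.Helper88_SAK_AXCONJ

/-!
# sak_packages DIH-FAM (helper91): the dihedral family `axF`, `tauF` of two unit Majorana axes

`axF_zero`, `axF_one`, `fam_axF` (verbatim from `pending/helper16/SAK_packages.lean.txt`, Part C).
-/

set_option autoImplicit false

namespace Cfsg.Agent.Lib.Helper91_SAK_DIHFAM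

open Cfsg.Axial Cfsg.Agent.Lib.Helper16_SakDefs

section grp

variable {G : Type*} [Group G]

/-- an involution inverting `r` inverts all its integer powers -/
theorem h91_inv_zpow (s r : G) (hs : s * s = 1) (h : s * r * s = r⁻¹) (k : ℤ) :
    s * r ^ k = r ^ (-k) * s := by
  have hs' : s⁻¹ = s := inv_eq_of_mul_eq_one_left hs
  have h1 : s * r ^ k * s⁻¹ = r ^ (-k) := by
    rw [← conj_zpow, hs', h, inv_zpow']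
  rw [hs'] at h1
  calc s * r ^ k = s * r ^ k * (s * s) := by rw [hs, mul_one]
    _ = (s * r ^ k * s) * s := by group
    _ = r ^ (-k) * s := by rw [h1]

/-- the conjugate of an inverting element by `r ^ p`, times `r ^ q` -/
theorem h91_key (r u : G) (hu : ∀ k : ℤ, u * r ^ k = r ^ (-k) * u) (p q : ℤ) :
    r ^ p * u * (r ^ p)⁻¹ * r ^ q = r ^ (2 * p - q) * u := by
  calc r ^ p * u * (r ^ p)⁻¹ * r ^ q = r ^ p * (u * r ^ (q - p)) := by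
        rw [zpow_sub]; group
    _ = r ^ p * (r ^ (-(q - p)) * u) := by rw [hu]
    _ = r ^ (2 * p - q) * u := by
        rw [← mul_assoc, ← zpow_add]
        congr 2
        ring

end grp

variable {V : Type*} [AddCommGroup V] [Module ℝ V]
  {mul : V →ₗ[ℝ] V →ₗ[ℝ] V} {B : LinearMap.BilinForm ℝ V}

theorem h91_axF_even (μ₀ μ₁ : V ≃ₗ[ℝ] V) (a₀ a₁ : V) (q : ℤ) :
    axF μ₀ μ₁ a₀ a₁ (2 * q) = (rho μ₀ μ₁ ^ q) a₀ := by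
  unfold axF
  have h1 : (2 * q) % 2 = 0 := by omega
  have h2 : (2 * q) / 2 = q := by omega
  rw [h2, if_pos h1]

theorem h91_axF_odd (μ₀ μ₁ : V ≃ₗ[ℝ] V) (a₀ a₁ : V) (q : ℤ) :
    axF μ₀ μ₁ a₀ a₁ (2 * q + 1) = (rho μ₀ μ₁ ^ q) a₁ := by
  unfold axF
  have h1 : ¬ (2 * q + 1) % 2 = 0 := by omega
  have h2 : (2 * q + 1) / 2 = q := by omega
  rw [h2, if_neg h1]

theorem h91_tauF_even (μ₀ μ₁ : V ≃ₗ[ℝ] V) (p : ℤ) :
    tauF μ₀ μ₁ (2 * p) = rho μ₀ μ₁ ^ p * μ₀ * (rho μ₀ μ₁ ^ p)⁻¹ := by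
  unfold tauF
  have h1 : (2 * p) % 2 = 0 := by omega
  have h2 : (2 * p) / 2 = p := by omega
  rw [h2, if_pos h1]

theorem h91_tauF_odd (μ₀ μ₁ : V ≃ₗ[ℝ] V) (p : ℤ) :
    tauF μ₀ μ₁ (2 * p + 1) = rho μ₀ μ₁ ^ p * μ₁ * (rho μ₀ μ₁ ^ p)⁻¹ := by
  unfold tauF
  have h1 : ¬ (2 * p + 1) % 2 = 0 := by omega
  have h2 : (2 * p + 1) / 2 = p := by omega
  rw [h2, if_neg h1]

/-- the automorphisms of `(V, mul, B)` -/
def h91_aut (mul : V →ₗ[ℝ] V →ₗ[ℝ] V) (B : LinearMap.BilinForm ℝ V) : Subgroup (V ≃ₗ[ℝ] V) where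
  carrier := {φ | (∀ x y : V, φ (mul x y) = mul (φ x) (φ y)) ∧ ∀ x y : V, B (φ x) (φ y) = B x y}
  mul_mem' := by
    rintro φ ψ ⟨h1, h2⟩ ⟨h3, h4⟩
    refine ⟨fun x y => ?_, fun x y => ?_⟩
    · show φ (ψ (mul x y)) = mul (φ (ψ x)) (φ (ψ y))
      rw [h3, h1]
    · show B (φ (ψ x)) (φ (ψ y)) = B x y
      rw [h2, h4]
  one_mem' := ⟨fun _ _ => rfl, fun _ _ => rfl⟩
  inv_mem' := by
    rintro φ ⟨h1, h2⟩
    refine ⟨fun x y => ?_, fun x y => ?_⟩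
    · show φ.symm (mul x y) = mul (φ.symm x) (φ.symm y)
      apply φ.injective
      rw [h1, φ.apply_symm_apply, φ.apply_symm_apply, φ.apply_symm_apply]
    · show B (φ.symm x) (φ.symm y) = B x y
      rw [← h2 (φ.symm x) (φ.symm y), φ.apply_symm_apply, φ.apply_symm_apply]

theorem h91_mem_aut {μ : V ≃ₗ[ℝ] V} {a : V} (h : UAxis mul B μ a) : μ ∈ h91_aut mul B :=
  ⟨h.pair.1, h.pair.2.1⟩

theorem axF_zero (μ₀ μ₁ : V ≃ₗ[ℝ] V) (a₀ a₁ : V) : axF μ₀ μ₁ a₀ a₁ 0 = a₀ := by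
  have := h91_axF_even μ₀ μ₁ a₀ a₁ 0
  simpa using this

theorem axF_one (μ₀ μ₁ : V ≃ₗ[ℝ] V) (a₀ a₁ : V) : axF μ₀ μ₁ a₀ a₁ 1 = a₁ := by
  have := h91_axF_odd μ₀ μ₁ a₀ a₁ 0
  simpa using this

theorem fam_axF {μ₀ μ₁ : V ≃ₗ[ℝ] V} {a₀ a₁ : V} (h₀ : UAxis mul B μ₀ a₀) (h₁ : UAxis mul B μ₁ a₁) :
    Fam mul B (axF μ₀ μ₁ a₀ a₁) (tauF μ₀ μ₁) := by
  have hs : μ₀ * μ₀ = 1 := LinearEquiv.ext fun x => Helper88_SAK_AXMU.mu_mu h₀ x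
  have ht : μ₁ * μ₁ = 1 := LinearEquiv.ext fun x => Helper88_SAK_AXMU.mu_mu h₁ x
  have hsa : μ₀ a₀ = a₀ := Helper88_SAK_AXMU.mu_axis h₀
  have hta : μ₁ a₁ = a₁ := Helper88_SAK_AXMU.mu_axis h₁
  have hs' : μ₀⁻¹ = μ₀ := inv_eq_of_mul_eq_one_left hs
  have ht' : μ₁⁻¹ = μ₁ := inv_eq_of_mul_eq_one_left ht
  have hrinv : (rho μ₀ μ₁)⁻¹ = μ₀ * μ₁ := by
    unfold rho
    rw [mul_inv_rev, hs', ht']
  have hsr : μ₀ * rho μ₀ μ₁ * μ₀ = (rho μ₀ μ₁)⁻¹ := by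
    rw [hrinv]; unfold rho
    calc μ₀ * (μ₁ * μ₀) * μ₀ = μ₀ * μ₁ * (μ₀ * μ₀) := by group
      _ = μ₀ * μ₁ := by rw [hs, mul_one]
  have htr : μ₁ * rho μ₀ μ₁ * μ₁ = (rho μ₀ μ₁)⁻¹ := by
    rw [hrinv]; unfold rho
    calc μ₁ * (μ₁ * μ₀) * μ₁ = (μ₁ * μ₁) * μ₀ * μ₁ := by group
      _ = μ₀ * μ₁ := by rw [ht, one_mul]
  have hks := h91_inv_zpow μ₀ (rho μ₀ μ₁) hs hsr
  have hkt := h91_inv_zpow μ₁ (rho μ₀ μ₁) ht htr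
  -- the two mixed images
  have hsa1 : μ₀ a₁ = ((rho μ₀ μ₁)⁻¹) a₁ := by
    rw [hrinv]
    show μ₀ a₁ = μ₀ (μ₁ a₁)
    rw [hta]
  have hta0 : μ₁ a₀ = (rho μ₀ μ₁) a₀ := by
    show μ₁ a₀ = μ₁ (μ₀ a₀)
    rw [hsa]
  have hrho : rho μ₀ μ₁ ∈ h91_aut mul B :=
    (h91_aut mul B).mul_mem (h91_mem_aut h₁) (h91_mem_aut h₀)
  have hpow : ∀ p : ℤ, rho μ₀ μ₁ ^ p ∈ h91_aut mul B := fun p => (h91_aut mul B).zpow_mem hrho p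
  refine ⟨fun i => ?_, fun i j => ?_⟩
  · rcases Int.even_or_odd' i with ⟨p, rfl | rfl⟩
    · rw [h91_tauF_even, h91_axF_even]
      exact Helper88_SAK_AXCONJ.conj h₀ _ (hpow p).1 (hpow p).2
    · rw [h91_tauF_odd, h91_axF_odd]
      exact Helper88_SAK_AXCONJ.conj h₁ _ (hpow p).1 (hpow p).2
  · rcases Int.even_or_odd' i with ⟨p, rfl | rfl⟩ <;> rcases Int.even_or_odd' j with ⟨q, rfl | rfl⟩
    · rw [h91_tauF_even, h91_axF_even, show 2 * (2 * p) - 2 * q = 2 * (2 * p - q) by ring,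
        h91_axF_even]
      have hk := h91_key (rho μ₀ μ₁) μ₀ hks p q
      have : (rho μ₀ μ₁ ^ p * μ₀ * (rho μ₀ μ₁ ^ p)⁻¹) ((rho μ₀ μ₁ ^ q) a₀) =
          (rho μ₀ μ₁ ^ (2 * p - q)) (μ₀ a₀) := LinearEquiv.congr_fun hk a₀
      rw [this, hsa]
    · rw [h91_tauF_even, h91_axF_odd,
        show 2 * (2 * p) - (2 * q + 1) = 2 * (2 * p - q - 1) + 1 by ring, h91_axF_odd]
      have hk := h91_key (rho μ₀ μ₁) μ₀ hks p q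
      have : (rho μ₀ μ₁ ^ p * μ₀ * (rho μ₀ μ₁ ^ p)⁻¹) ((rho μ₀ μ₁ ^ q) a₁) =
          (rho μ₀ μ₁ ^ (2 * p - q)) (μ₀ a₁) := LinearEquiv.congr_fun hk a₁
      rw [this, hsa1, ← LinearEquiv.mul_apply, ← zpow_sub_one]
    · rw [h91_tauF_odd, h91_axF_even,
        show 2 * (2 * p + 1) - 2 * q = 2 * (2 * p - q + 1) by ring, h91_axF_even]
      have hk := h91_key (rho μ₀ μ₁) μ₁ hkt p q
      have : (rho μ₀ μ₁ ^ p * μ₁ * (rho μ₀ μ₁ ^ p)⁻¹) ((rho μ₀ μ₁ ^ q) a₀) =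
          (rho μ₀ μ₁ ^ (2 * p - q)) (μ₁ a₀) := LinearEquiv.congr_fun hk a₀
      rw [this, hta0, ← LinearEquiv.mul_apply, ← zpow_add_one]
    · rw [h91_tauF_odd, h91_axF_odd,
        show 2 * (2 * p + 1) - (2 * q + 1) = 2 * (2 * p - q) + 1 by ring, h91_axF_odd]
      have hk := h91_key (rho μ₀ μ₁) μ₁ hkt p q
      have : (rho μ₀ μ₁ ^ p * μ₁ * (rho μ₀ μ₁ ^ p)⁻¹) ((rho μ₀ μ₁ ^ q) a₁) =
          (rho μ₀ μ₁ ^ (2 * p - q)) (μ₁ a₁) := LinearEquiv.congr_fun hk a₁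
      rw [this, hta]

end Cfsg.Agent.Lib.Helper91_SAK_DIHFAM
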