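import Mathlib
import Cfsg.Prelude.Def_AxialAlgebras
import Cfsg.Agent.Lib.Helper16_SakDefs

/-!
# S5544 market (architect helper16), package PAIR, core (helper95)

The parts of an arbitrary vector `b` with respect to a unit Majorana axis `a`, with the statement of `decomp` (AX-DEC) as a
hypothesis: `sig a (μ b) = sig a b`, `b - μ b` is a `1/32`-eigenvector, `v4 a b (μ b)` is a `1/4`-eigenvector and
`u0 a b (μ b)` is a `0`-eigenvector.
-/

set_option autoImplicit false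
set_option linter.unusedSimpArgs false

namespace Cfsg.Agent.Lib.Helper95_SAK_PAIRaux

open Cfsg.Axial Cfsg.Agent.Lib.Helper16_SakDefs

variable {V : Type*} [AddCommGroup V] [Module ℝ V]
  {mul : V →ₗ[ℝ] V →ₗ[ℝ] V} {B : LinearMap.BilinForm ℝ V}

/-- the statement of `decomp` (package AX-DEC) for a given axis -/
def DecStmt (mul : V →ₗ[ℝ] V →ₗ[ℝ] V) (B : LinearMap.BilinForm ℝ V) (μ : V ≃ₗ[ℝ] V) (a : V) : Prop :=
  ∀ x : V, ∃ x0 x4 x32 : V, x = (B a x) • a + x0 + x4 + x32 ∧ mul a x0 = 0 ∧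
      mul a x4 = (1 / 4 : ℝ) • x4 ∧ mul a x32 = (1 / 32 : ℝ) • x32 ∧
      μ x = (B a x) • a + x0 + x4 - x32

theorem mul_self {μ : V ≃ₗ[ℝ] V} {a : V} (h : UAxis mul B μ a) : mul a a = a :=
  h.pair.2.2.1.1.2.1

/-- the parts of `b`: everything needed for the four statements -/
theorem parts {μ : V ≃ₗ[ℝ] V} {a : V} (h : UAxis mul B μ a) (hdec : DecStmt mul B μ a) (b : V) :
    ∃ b0 b4 b32 : V, mul a b0 = 0 ∧ mul a b4 = (1 / 4 : ℝ) • b4 ∧ mul a b32 = (1 / 32 : ℝ) • b32 ∧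
      sig mul a (μ b) = sig mul a b ∧ b - μ b = (2 : ℝ) • b32 ∧ v4 mul B a b (μ b) = b4 ∧
      u0 mul B a b (μ b) = b0 := by
  obtain ⟨b0, b4, b32, hb, h0, h4, h32, hμ⟩ := hdec b
  have haa := mul_self h
  refine ⟨b0, b4, b32, h0, h4, h32, ?_, ?_, ?_, ?_⟩
  · unfold sig
    rw [hμ]
    generalize B a b = l at hb hμ ⊢
    subst hb
    simp only [map_add, map_sub, map_smul, haa, h0, h4, h32]
    module
  · rw [hμ]
    generalize B a b = l at hb hμ ⊢
    subst hb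
    module
  · unfold v4 sig
    rw [hμ]
    generalize B a b = l at hb hμ ⊢
    subst hb
    simp only [map_add, map_sub, map_smul, haa, h0, h4, h32]
    module
  · unfold u0 sig
    rw [hμ]
    generalize B a b = l at hb hμ ⊢
    subst hb
    simp only [map_add, map_sub, map_smul, haa, h0, h4, h32]
    module

theorem sig_mu_of {μ : V ≃ₗ[ℝ] V} {a : V} (h : UAxis mul B μ a) (hdec : DecStmt mul B μ a) (b : V) :
    sig mul a (μ b) = sig mul a b := by
  obtain ⟨b0, b4, b32, -, -, -, hs, -, -, -⟩ := parts h hdec b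
  exact hs

theorem eig32_of {μ : V ≃ₗ[ℝ] V} {a : V} (h : UAxis mul B μ a) (hdec : DecStmt mul B μ a) (b : V) :
    mul a (b - μ b) = (1 / 32 : ℝ) • (b - μ b) := by
  obtain ⟨b0, b4, b32, -, -, h32, -, hd, -, -⟩ := parts h hdec b
  rw [hd, map_smul, h32, smul_comm]

theorem eig4_of {μ : V ≃ₗ[ℝ] V} {a : V} (h : UAxis mul B μ a) (hdec : DecStmt mul B μ a) (b : V) :
    mul a (v4 mul B a b (μ b)) = (1 / 4 : ℝ) • v4 mul B a b (μ b) := by
  obtain ⟨b0, b4, b32, -, h4, -, -, -, hv, -⟩ := parts h hdec b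
  rw [hv, h4]

theorem eig0_of {μ : V ≃ₗ[ℝ] V} {a : V} (h : UAxis mul B μ a) (hdec : DecStmt mul B μ a) (b : V) :
    mul a (u0 mul B a b (μ b)) = 0 := by
  obtain ⟨b0, b4, b32, h0, -, -, -, -, -, hu⟩ := parts h hdec b
  rw [hu, h0]

end Cfsg.Agent.Lib.Helper95_SAK_PAIRaux
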