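import Mathlib
import Cfsg.Prelude.Def_AxialAlgebras
import Cfsg.Agent.Lib.Helper16_SakDefs

/-!
# sak_packages FAM-BASIC, auxiliary form (helper98)

`basic_of_fam_of`: the interface `Basic` from a `Fam`, with the statements of the packages FAM-SIG, FAM-IP, PAIR and
AX-FUS (specialised to the family) as explicit hypotheses.
-/

set_option autoImplicit false

namespace Cfsg.Agent.Lib.Helper98_SAK_FAM_BASICaux

open Cfsg.Axial Cfsg.Agent.Lib.Helper16_SakDefs

variable {V : Type*} [AddCommGroup V] [Module ℝ V]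
  {mul : V →ₗ[ℝ] V →ₗ[ℝ] V} {B : LinearMap.BilinForm ℝ V}

theorem basic_of_fam_of {ax : ℤ → V} {tau : ℤ → (V ≃ₗ[ℝ] V)} (F : Fam mul B ax tau)
    (hsig1 : ∀ i : ℤ, sig mul (ax i) (ax (i + 1)) = sig mul (ax 0) (ax 1))
    (hsig2e : ∀ k : ℤ, sig mul (ax (2 * k)) (ax (2 * k + 2)) = sig mul (ax 0) (ax 2))
    (hsig2o : ∀ k : ℤ, sig mul (ax (2 * k + 1)) (ax (2 * k + 3)) = sig mul (ax (-1)) (ax 1))
    (hipr : ∀ i j k : ℤ, B (ax (2 * k - i)) (ax (2 * k - j)) = B (ax i) (ax j))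
    (hip1 : ∀ i : ℤ, B (ax i) (ax (i + 1)) = B (ax 0) (ax 1))
    (hip2 : ∀ i : ℤ, B (ax i) (ax (i + 2)) = B (ax 0) (ax 2))
    (he32 : ∀ (i : ℤ) (b : V), mul (ax i) (b - tau i b) = (1 / 32 : ℝ) • (b - tau i b))
    (he4 : ∀ (i : ℤ) (b : V), mul (ax i) (v4 mul B (ax i) b (tau i b)) =
      (1 / 4 : ℝ) • v4 mul B (ax i) b (tau i b))
    (he0 : ∀ (i : ℤ) (b : V), mul (ax i) (u0 mul B (ax i) b (tau i b)) = 0)
    (hf00 : ∀ (i : ℤ) (p p' : V), mul (ax i) p = 0 → mul (ax i) p' = 0 → mul (ax i) (mul p p') = 0)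
    (hf04 : ∀ (i : ℤ) (p q : V), mul (ax i) p = 0 → mul (ax i) q = (1 / 4 : ℝ) • q →
      mul (ax i) (mul p q) = (1 / 4 : ℝ) • mul p q)
    (hf44 : ∀ (i : ℤ) (q q' : V), mul (ax i) q = (1 / 4 : ℝ) • q → mul (ax i) q' = (1 / 4 : ℝ) • q' →
      mul (ax i) (mul q q') = (B (ax i) (mul q q')) • ax i) :
    Basic mul B ax (sig mul (ax 0) (ax 1)) (sig mul (ax 0) (ax 2)) (sig mul (ax (-1)) (ax 1))
      (B (ax 0) (ax 1)) (B (ax 0) (ax 2)) := by
  have hamb := (F.axis 0).amb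
  have hrefl : ∀ i j j' : ℤ, j + j' = 2 * i → tau i (ax j) = ax j' := by
    intro i j j' h
    rw [F.refl]
    congr 1
    omega
  have hsig : ∀ a b s : V, sig mul a b = s → mul a b = s + (1 / 32 : ℝ) • (a + b) := by
    intro a b s h
    rw [← h]
    unfold sig
    abel
  refine
    { comm := hamb.1
      symm := hamb.2.1
      assoc := hamb.2.2.2.1
      idem := fun i => (F.axis i).pair.2.2.1.1.2.1
      unit := fun i => (F.axis i).unit
      k2 := ?_
      k3e := ?_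
      k3f := ?_
      ip1 := ?_
      ip2 := ?_
      ipd := ?_
      e0 := ?_
      e4 := ?_
      e32 := ?_
      fus00 := hf00
      fus04 := hf04
      fus44 := hf44 }
  · intro i j hj
    subst hj
    exact hsig _ _ _ (hsig1 i)
  · intro i j hi hj
    subst hj
    obtain ⟨k, rfl⟩ : ∃ k, i = 2 * k := ⟨i / 2, by omega⟩
    exact hsig _ _ _ (hsig2e k)
  · intro i j hi hj
    subst hj
    obtain ⟨k, rfl⟩ : ∃ k, i = 2 * k + 1 := ⟨i / 2, by omega⟩
    have h := hsig2o k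
    have e : 2 * k + 1 + 2 = 2 * k + 3 := by ring
    rw [e]
    exact hsig _ _ _ h
  · intro i j hj
    subst hj
    exact hip1 i
  · intro i j hj
    subst hj
    exact hip2 i
  · intro i j i' j' k hi hj
    subst hi hj
    exact hipr i j k
  · intro i j j' h
    have := he0 i (ax j)
    rwa [hrefl i j j' h] at this
  · intro i j j' h
    have := he4 i (ax j)
    rwa [hrefl i j j' h] at this
  · intro i j j' h
    have := he32 i (ax j)
    rwa [hrefl i j j' h] at this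

end Cfsg.Agent.Lib.Helper98_SAK_FAM_BASICaux
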