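import Mathlib
import Cfsg.Prelude.Def_AxialAlgebras
import Cfsg.Agent.Lib.Helper16_SakDefs
import Cfsg.Agent.Lib.Helper16_SakSolve
import Cfsg.Agent.Lib.Helper2_SAK_FINAL
import Cfsg.Agent.Lib.Helper98_SAK_FAM_BASICaux
import Cfsg.Agent.Lib.Helper21_SAK_DIHORDaux
import Cfsg.Agent.Lib.Helper95_SAK_PAIRaux
import Cfsg.Agent.Lib.Helper91_SAK_DIHFAM
import Cfsg.Agent.Lib.Helper53_SAK_FAMSIG
import Cfsg.Agent.Lib.Helper63_SAK_FAMIP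
import Cfsg.Agent.Lib.Helper24_SAK_AXFUS
import Cfsg.Agent.Lib.Helper24_SAK_AXDEC
import Cfsg.Agent.Lib.Helper88_SAK_AXMU

/-!
# S5544 (Sakuma's theorem, Majorana form): the wiring (helper16, architect)

Assembles the structural packages of the market `sak_packages` (in their landed `_of` forms) with the
computational theorem `Helper16_SakSolve.sakuma_comp` into the statement of S5544 (without the two
uniqueness hypotheses, which are not needed).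
-/

set_option autoImplicit false

namespace Cfsg.Agent.Lib.Helper16_SakWire

open Cfsg.Axial Cfsg.Agent.Lib.Helper16_SakDefs

variable {V : Type*} [AddCommGroup V] [Module ℝ V]
  {mul : V →ₗ[ℝ] V →ₗ[ℝ] V} {B : LinearMap.BilinForm ℝ V}

/-- FAM-BASIC, wired: a dihedral family of unit Majorana axes satisfies the algebraic interface. -/
theorem wire_basic_of_fam {ax : ℤ → V} {tau : ℤ → (V ≃ₗ[ℝ] V)} (F : Fam mul B ax tau) :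
    Basic mul B ax (sig mul (ax 0) (ax 1)) (sig mul (ax 0) (ax 2)) (sig mul (ax (-1)) (ax 1))
      (B (ax 0) (ax 1)) (B (ax 0) (ax 2)) :=
  Cfsg.Agent.Lib.Helper98_SAK_FAM_BASICaux.basic_of_fam_of F
    (Cfsg.Agent.Lib.Helper53_SAK_FAMSIG.sig_one F)
    (Cfsg.Agent.Lib.Helper53_SAK_FAMSIG.sig_two_even F)
    (Cfsg.Agent.Lib.Helper53_SAK_FAMSIG.sig_two_odd F)
    (Cfsg.Agent.Lib.Helper63_SAK_FAMIP.ip_refl F)
    (Cfsg.Agent.Lib.Helper63_SAK_FAMIP.ip_one F)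
    (Cfsg.Agent.Lib.Helper63_SAK_FAMIP.ip_two F)
    (fun i b => Cfsg.Agent.Lib.Helper95_SAK_PAIRaux.eig32_of (F.axis i)
      (fun x => Cfsg.Agent.Lib.Helper24_SAK_AXDEC.decomp (F.axis i) x) b)
    (fun i b => Cfsg.Agent.Lib.Helper95_SAK_PAIRaux.eig4_of (F.axis i)
      (fun x => Cfsg.Agent.Lib.Helper24_SAK_AXDEC.decomp (F.axis i) x) b)
    (fun i b => Cfsg.Agent.Lib.Helper95_SAK_PAIRaux.eig0_of (F.axis i)
      (fun x => Cfsg.Agent.Lib.Helper24_SAK_AXDEC.decomp (F.axis i) x) b)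
    (fun i _ _ hp hp' => Cfsg.Agent.Lib.Helper24_SAK_AXFUS.fus00 (F.axis i) hp hp')
    (fun i _ _ hp hq => Cfsg.Agent.Lib.Helper24_SAK_AXFUS.fus04 (F.axis i) hp hq)
    (fun i _ _ hq hq' => Cfsg.Agent.Lib.Helper24_SAK_AXFUS.fus44 (F.axis i) hq hq')

/-- DIH-ORD, wired. -/
theorem wire_pow_eq_one_of_axF {μ₀ μ₁ : V ≃ₗ[ℝ] V} {a₀ a₁ : V}
    (h₀ : UAxis mul B μ₀ a₀) (h₁ : UAxis mul B μ₁ a₁) (n : ℕ)
    (hn : axF μ₀ μ₁ a₀ a₁ (n : ℤ) = axF μ₀ μ₁ a₀ a₁ 0) : (μ₀ * μ₁) ^ n = 1 :=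
  Cfsg.Agent.Lib.Helper21_SAK_DIHORDaux.pow_eq_one_of_axF_of
    (Cfsg.Agent.Lib.Helper91_SAK_DIHFAM.fam_axF h₀ h₁)
    (fun h h' => Cfsg.Agent.Lib.Helper88_SAK_AXMU.mu_unique h h')
    (Cfsg.Agent.Lib.Helper88_SAK_AXMU.mu_mu h₀) (Cfsg.Agent.Lib.Helper88_SAK_AXMU.mu_mu h₁) n hn

/-- Sakuma's theorem in the Majorana form of S5544 (the uniqueness hypotheses are not needed). -/
theorem wire_sakuma [FiniteDimensional ℝ V]
    (hV : Cfsg.Axial.IsMajoranaAmbient mul B) (μ₀ μ₁ : V ≃ₗ[ℝ] V) (a₀ a₁ : V)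
    (h₀ : Cfsg.Axial.IsMajoranaPair mul B μ₀ a₀) (h₁ : Cfsg.Axial.IsMajoranaPair mul B μ₁ a₁)
    (hn₀ : B a₀ a₀ = 1) (hn₁ : B a₁ a₁ = 1) : ∃ n : ℕ, 1 ≤ n ∧ n ≤ 6 ∧ (μ₀ * μ₁) ^ n = 1 :=
  Cfsg.Agent.Lib.Helper2_SAK_FINAL.sakuma_final_of
    (fun u₀ u₁ => Cfsg.Agent.Lib.Helper91_SAK_DIHFAM.fam_axF u₀ u₁)
    (fun F => wire_basic_of_fam F)
    (fun u₀ u₁ n hn => wire_pow_eq_one_of_axF u₀ u₁ n hn)
    (fun _ _ _ _ _ _ hb => Cfsg.Agent.Lib.Helper16_SakSolve.sakuma_comp hb)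
    hV μ₀ μ₁ a₀ a₁ h₀ h₁ hn₀ hn₁

end Cfsg.Agent.Lib.Helper16_SakWire
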