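import Mathlib
import Cfsg.Prelude.Def_Characters
import Cfsg.Prelude.Def_OddOrderChar
import Cfsg.Prelude.Def_OddOrderLocal
import Cfsg.Agent.Lib.Helper17_CohSys
import Cfsg.Agent.Lib.Helper17_CohExt
import Cfsg.Agent.Lib.Helper16_CohBasic
import Cfsg.Agent.Lib.Helper16_CohCount
import Cfsg.Agent.Lib.Helper16_CohIrr
import Cfsg.Agent.Lib.Helper25_VirtNorm
import Cfsg.Agent.Lib.Helper79_TISylowCongr
import Cfsg.Agent.Lib.Helper80_CharComplete
import Cfsg.Agent.Lib.Helper75_Induced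
import Cfsg.Agent.Lib.Helper75_CharArith
import Cfsg.Agent.Lib.Helper57_FrobNorm
import Cfsg.Agent.S1515

/-!
# The divisibility behind Sibley's theorem (helper16)

Let `P` be a TI Sylow `p`-subgroup of `G` with normalizer `N` of odd order, `Z ≠ 1` a normal
subgroup of `N` central in `P`, and suppose the set `X` of the characters of `N` induced from
irreducible characters of `P` not trivial on `Z` consists of irreducible characters and is coherent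
via `τ₁`.  By Peterfalvi (6.7) (statement S1523) every irreducible character `χ` of `G` orthogonal
to `τ₁ X` is constant on `Z ∖ 1`, with `|P|` dividing `χ(1) - χ(z)`.  We deduce that the
multiplicity of `Ind θ ∈ X` in the restriction of `χ` to `N` is divisible by `θ(1)`.

* `res_diff`: a character of `N` whose multiplicities on the characters non-trivial on `Z` are
  proportional to the degrees satisfies `ζ(1) (Φ(1) - Φ(z)) = m_ζ |N|` on `Z ∖ 1`;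
* `mult_prop`: the proportionality, for a class function orthogonal to `τ₁ X`;
* `div_of_orth`: the divisibility.
-/

set_option autoImplicit false

namespace Cfsg.Agent.Lib.Helper16_SibleyDiv

open scoped ComplexConjugate
open Cfsg.Agent.Lib.Helper3_CharOrtho Cfsg.Agent.Lib.Helper75_CharArith
  Cfsg.Agent.Lib.Helper17_CohSys Cfsg.Agent.Lib.Helper17_CohExt
  Cfsg.Agent.Lib.Helper75_Induced Cfsg.Agent.Lib.Helper3_CharBridge
  Cfsg.Agent.Lib.Helper3_CharComplete Cfsg.Agent.Lib.Helper16_CohBasic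
  Cfsg.Agent.Lib.Helper16_CohCount Cfsg.Agent.Lib.Helper16_CohIrr

section Res

variable {N : Type*} [Group N] [Fintype N]

omit [Fintype N] in
theorem conj_irr_one (ξ : Cfsg.IrrCharacter N) : conj ((ξ : N → ℂ) 1) = (ξ : N → ℂ) 1 := by
  obtain ⟨n, hn⟩ := char_apply_one_nat (isCharacter_of_isIrrCharacter ξ.2)
  rw [hn, Complex.conj_natCast]

/-- If the multiplicities of a function on the irreducible characters non-trivial on `Z` are
proportional to the degrees, then `ζ(1) (Φ(1) - Φ(z)) = m_ζ |N|` for `1 ≠ z ∈ Z`. -/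
theorem res_diff (Z : Subgroup N) (res : N → ℂ) (m : Cfsg.IrrCharacter N → ℂ)
    (hres : ∀ g, res g = ∑ ξ : Cfsg.IrrCharacter N, m ξ * (ξ : N → ℂ) g)
    (ζ : Cfsg.IrrCharacter N)
    (hprop : ∀ ξ : Cfsg.IrrCharacter N, (¬ ∀ n ∈ Z, (ξ : N → ℂ) n = (ξ : N → ℂ) 1) →
      m ξ * (ζ : N → ℂ) 1 = m ζ * (ξ : N → ℂ) 1)
    {z : N} (hz : z ∈ Z) (hz1 : z ≠ 1) :
    (ζ : N → ℂ) 1 * (res 1 - res z) = m ζ * (Nat.card N : ℂ) := by
  classical
  rw [hres 1, hres z, ← Finset.sum_sub_distrib, Finset.mul_sum]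
  have hterm : ∀ ξ : Cfsg.IrrCharacter N,
      (ζ : N → ℂ) 1 * (m ξ * (ξ : N → ℂ) 1 - m ξ * (ξ : N → ℂ) z) =
        m ζ * ((ξ : N → ℂ) 1 * conj ((ξ : N → ℂ) 1) - (ξ : N → ℂ) z * conj ((ξ : N → ℂ) 1)) := by
    intro ξ
    rw [conj_irr_one]
    by_cases h : ∀ n ∈ Z, (ξ : N → ℂ) n = (ξ : N → ℂ) 1
    · rw [h z hz]
      ring
    · have := hprop ξ h
      linear_combination ((ξ : N → ℂ) 1 - (ξ : N → ℂ) z) * this
  rw [Finset.sum_congr rfl (fun ξ _ => hterm ξ), ← Finset.mul_sum, Finset.sum_sub_distrib,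
    Cfsg.Agent.Lib.Helper80_CharComplete.second_orthogonality_sum (1 : N) 1,
    Cfsg.Agent.Lib.Helper80_CharComplete.second_orthogonality_sum z 1, if_pos (IsConj.refl 1),
    if_neg (fun h => hz1 (isConj_one_left.mp h)), sub_zero]
  congr 2
  have : Subgroup.centralizer ({(1 : N)} : Set N) = ⊤ := by
    ext g
    simp [Subgroup.mem_centralizer_iff]
  rw [this, Subgroup.card_top]

end Res

section MultProp

variable {G : Type*} [Group G] [Fintype G] (N : Subgroup G) [Fintype N]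

/-- The multiplicities, in the restriction to `N` of a class function orthogonal to `τ₁ X`, of the
members of a coherent set `X` (for induction) are proportional to the degrees. -/
theorem mult_prop {X : Set (N → ℂ)} {τ₁ : (N → ℂ) → (G → ℂ)}
    (hτ₁ : Cfsg.IsLinearIsometryOn (Cfsg.zspan X) τ₁)
    (hag : ∀ α ∈ Cfsg.zspanOn X ({1}ᶜ : Set N), τ₁ α = Cfsg.indFun N α)
    {χ : G → ℂ} (hχ : Cfsg.IsClassFunction G χ) (horth : ∀ ξ ∈ X, Cfsg.classInner (τ₁ ξ) χ = 0)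
    {ξ ξ' : N → ℂ} (hξ : ξ ∈ X) (hξ' : ξ' ∈ X) {k k' : ℕ} (hk : ξ 1 = k) (hk' : ξ' 1 = k') :
    (k' : ℂ) * Cfsg.classInner ξ (fun x : N => χ x) =
      (k : ℂ) * Cfsg.classInner ξ' (fun x : N => χ x) := by
  set α : N → ℂ := (k' : ℤ) • ξ - (k : ℤ) • ξ' with hα
  have hmξ : ξ ∈ Submodule.span ℤ X := Submodule.subset_span hξ
  have hmξ' : ξ' ∈ Submodule.span ℤ X := Submodule.subset_span hξ'
  have hαmem : α ∈ Cfsg.zspanOn X ({1}ᶜ : Set N) := by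
    refine ⟨Submodule.sub_mem _ (Submodule.smul_mem _ _ hmξ) (Submodule.smul_mem _ _ hmξ'), ?_⟩
    intro x hx
    have hx' : x = 1 := by simpa using hx
    rw [hx', hα, Pi.sub_apply, Pi.smul_apply, Pi.smul_apply, hk, hk']
    simp
    ring
  have h1 : τ₁ α = (k' : ℤ) • τ₁ ξ - (k : ℤ) • τ₁ ξ' := by
    rw [hα, map_sub_of (M := Submodule.span ℤ X) hτ₁ (Submodule.smul_mem _ _ hmξ)
      (Submodule.smul_mem _ _ hmξ'), hτ₁.2.1 _ hmξ, hτ₁.2.1 _ hmξ']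
  have h2 : Cfsg.classInner (τ₁ α) χ = 0 := by
    rw [h1, classInner_sub_left, classInner_zsmul_left, classInner_zsmul_left, horth ξ hξ,
      horth ξ' hξ']
    simp
  rw [hag α hαmem, frobenius_reciprocity N α χ hχ, hα, classInner_sub_left,
    classInner_zsmul_left, classInner_zsmul_left] at h2
  push_cast at h2
  linear_combination h2

end MultProp

section Div

variable {G : Type*} [Group G] [Fintype G] (p : ℕ) [Fact p.Prime] (P : Sylow p G)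
  (N : Subgroup G) [Fintype ↥N] (K : Subgroup ↥N)

/-- The divisibility for an irreducible character orthogonal to `τ₁ X`. -/
theorem div_irr (hN : Subgroup.normalizer ((P : Subgroup G) : Set G) = N)
    (hK : (P : Subgroup G).subgroupOf N = K)
    (hTI : Cfsg.IsTISubset ((P : Subgroup G) : Set G))
    (hodd : Odd (Nat.card ↥N))
    (Z : Subgroup ↥N) [Z.Normal] (hZ1 : Z ≠ ⊥)
    (hZK : Z ≤ K)
    (hZc : ∀ z ∈ Z, ∀ k ∈ K, z * k = k * z)
    (hirr : ∀ χ ∈ Cfsg.inducedIrrAbove K ⊥ \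
      Cfsg.inducedIrrAbove K Z,
      Cfsg.IsIrrCharacter ↥N χ)
    {τ₁ : (↥N → ℂ) → (G → ℂ)}
    (hτ₁ : Cfsg.IsLinearIsometryOn (Cfsg.zspan (Cfsg.inducedIrrAbove K ⊥ \
      Cfsg.inducedIrrAbove K Z)) τ₁)
    (hag : ∀ α ∈ Cfsg.zspanOn (Cfsg.inducedIrrAbove K ⊥ \
      Cfsg.inducedIrrAbove K Z) ({1}ᶜ : Set _),
      τ₁ α = Cfsg.indFun N α)
    {χ : G → ℂ} (hχ : Cfsg.IsIrrCharacter G χ)
    (horth : ∀ ξ ∈ Cfsg.inducedIrrAbove K ⊥ \
      Cfsg.inducedIrrAbove K Z, Cfsg.classInner (τ₁ ξ) χ = 0)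
    {θ : ↥K → ℂ}
    (hθ : Cfsg.IsIrrCharacter _ θ)
    (hθX : Cfsg.indFun K θ ∈
      Cfsg.inducedIrrAbove K ⊥ \
      Cfsg.inducedIrrAbove K Z)
    {a : ℕ} (ha : θ 1 = a) :
    ∃ m : ℤ, Cfsg.classInner
      (fun x : ↥N => χ x)
      (Cfsg.indFun K θ) = (a : ℂ) * m := by
  classical
  set X : Set (↥N → ℂ) := Cfsg.inducedIrrAbove K ⊥ \ Cfsg.inducedIrrAbove K Z with hX
  have hXeq : X = {χ | Cfsg.IsIrrCharacter ↥N χ ∧ ∃ z ∈ Z, χ z ≠ χ 1} := diff_eq_irr K Z hZK hirr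
  have hχc := isCharacter_of_isIrrCharacter hχ
  have hχcf := isClassFunction_of_isIrrCharacter hχ
  set res : ↥N → ℂ := fun x => χ x with hres
  have hresc : Cfsg.IsCharacter ↥N res := isCharacter_restrict N hχc
  obtain ⟨m, hm, hsum⟩ := exists_multiplicities hresc
  set ζ : Cfsg.IrrCharacter ↥N := ⟨Cfsg.indFun K θ, hirr _ hθX⟩ with hζ
  have hresg : ∀ g, res g = ∑ ξ : Cfsg.IrrCharacter ↥N, (m ξ : ℂ) * (ξ : ↥N → ℂ) g := by
    intro g
    conv_lhs => rw [hsum]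
    rw [Finset.sum_apply]
    rfl
  have hmult : ∀ ξ : Cfsg.IrrCharacter ↥N, Cfsg.classInner (ξ : ↥N → ℂ) res = (m ξ : ℂ) := by
    intro ξ
    rw [← classInner_conj_symm, hm]
    simp
  have hprop : ∀ ξ : Cfsg.IrrCharacter ↥N,
      (¬ ∀ n ∈ Z, (ξ : ↥N → ℂ) n = (ξ : ↥N → ℂ) 1) →
      (m ξ : ℂ) * (ζ : ↥N → ℂ) 1 = (m ζ : ℂ) * (ξ : ↥N → ℂ) 1 := by
    intro ξ hξ
    have hξX : (ξ : ↥N → ℂ) ∈ X := by
      rw [hXeq]
      refine ⟨ξ.2, ?_⟩
      push Not at hξ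
      exact hξ
    obtain ⟨k, hk⟩ := char_apply_one_nat (isCharacter_of_isIrrCharacter ξ.2)
    obtain ⟨k', hk'⟩ := char_apply_one_nat (isCharacter_of_isIrrCharacter ζ.2)
    have h1 := mult_prop N hτ₁ hag hχcf horth hξX hθX hk hk'
    have h2 := hmult ξ
    have h3 := hmult ζ
    rw [hζ] at h3
    simp only at h3
    rw [h2, h3] at h1
    rw [hk]
    have hk'' : (ζ : ↥N → ℂ) 1 = (k' : ℂ) := hk'
    rw [hk'']
    linear_combination h1
  have key : ∀ z ∈ Z, z ≠ 1 →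
      (ζ : ↥N → ℂ) 1 * (res 1 - res z) = (m ζ : ℂ) * (Nat.card ↥N : ℂ) :=
    fun z hz hz1 => res_diff Z res (fun ξ => (m ξ : ℂ)) hresg ζ hprop hz hz1
  -- the degree of `ζ`
  have hζ1 : (ζ : ↥N → ℂ) 1 = ((K.index * a : ℕ) : ℂ) := by
    have : (ζ : ↥N → ℂ) 1 = Cfsg.indFun K θ 1 := rfl
    rw [this, indFun_one_index, ha]
    push_cast
    rfl
  have ha0 : a ≠ 0 := by
    rintro rfl
    have := Cfsg.Agent.Lib.Helper75_Clifford.irr_one_ne_zero hθ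
    rw [ha] at this
    simp at this
  have hidx0 : K.index ≠ 0 := Subgroup.index_ne_zero_of_finite
  have hζ10 : (ζ : ↥N → ℂ) 1 ≠ 0 := by
    rw [hζ1]
    exact_mod_cast Nat.mul_ne_zero hidx0 ha0
  -- constancy on `Z ∖ 1`
  have hconstN : ∀ z ∈ Z, ∀ z' ∈ Z, z ≠ 1 → z' ≠ 1 → res z = res z' := by
    intro z hz z' hz' hz1 hz'1
    have h1 := key z hz hz1
    have h2 := key z' hz' hz'1
    have h3 : (ζ : ↥N → ℂ) 1 * (res z - res z') = 0 := by linear_combination h2 - h1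
    have h4 := (mul_eq_zero.1 h3).resolve_left hζ10
    exact sub_eq_zero.1 h4
  -- the subgroup `Z` inside `G`
  set Z' : Subgroup G := Z.map N.subtype with hZ'
  have hZ'mem : ∀ g : G, g ∈ Z' ↔ ∃ h : g ∈ N, (⟨g, h⟩ : ↥N) ∈ Z := by
    intro g
    constructor
    · rintro ⟨w, hw, rfl⟩
      exact ⟨w.2, hw⟩
    · rintro ⟨h, hw⟩
      exact ⟨⟨g, h⟩, hw, rfl⟩
  have hZ'P : Z' ≤ (P : Subgroup G) := by
    intro g hg
    obtain ⟨h, hw⟩ := (hZ'mem g).1 hg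
    have h1 : (⟨g, h⟩ : ↥N) ∈ (P : Subgroup G).subgroupOf N := hK ▸ hZK hw
    exact h1
  have hZ'n : ∀ x ∈ N, ∀ z ∈ Z', x * z * x⁻¹ ∈ Z' := by
    intro x hx z hz
    obtain ⟨h, hw⟩ := (hZ'mem z).1 hz
    have hn : Z.Normal := inferInstance
    have := hn.conj_mem ⟨z, h⟩ hw ⟨x, hx⟩
    exact (hZ'mem _).2 ⟨N.mul_mem (N.mul_mem hx h) (N.inv_mem hx), this⟩
  have hPN : (P : Subgroup G) ≤ N := hN ▸ Subgroup.le_normalizer
  have hZ'c : ∀ z ∈ Z', ∀ y ∈ (P : Subgroup G), z * y = y * z := by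
    intro z hz y hy
    obtain ⟨h, hw⟩ := (hZ'mem z).1 hz
    have hyK : (⟨y, hPN hy⟩ : ↥N) ∈ K := by
      rw [← hK]
      exact hy
    have := hZc ⟨z, h⟩ hw ⟨y, hPN hy⟩ hyK
    exact congrArg Subtype.val this
  have hconstG : ∀ z ∈ Z', ∀ z' ∈ Z', z ≠ 1 → z' ≠ 1 → χ z = χ z' := by
    intro z hz z' hz' hz1 hz'1
    obtain ⟨h, hw⟩ := (hZ'mem z).1 hz
    obtain ⟨h', hw'⟩ := (hZ'mem z').1 hz'
    exact hconstN ⟨z, h⟩ hw ⟨z', h'⟩ hw' (fun e => hz1 (congrArg Subtype.val e))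
      (fun e => hz'1 (congrArg Subtype.val e))
  obtain ⟨z₀, hz₀⟩ := (Subgroup.ne_bot_iff_exists_ne_one).1 hZ1
  have hz₀1 : (z₀ : ↥N) ≠ 1 := fun e => hz₀ (Subtype.ext e)
  have hz₀G : ((z₀ : ↥N) : G) ∈ Z' := (hZ'mem _).2 ⟨(z₀ : ↥N).2, z₀.2⟩
  have hz₀G1 : ((z₀ : ↥N) : G) ≠ 1 := fun e => hz₀1 (Subtype.ext e)
  obtain ⟨n, dχ, hn, hdχ, hdvd⟩ := Cfsg.Agent.Lib.Helper79_TISylowCongr.ti_sylow_congr p P
    (fun g hg x hx hgx => hTI g hg x hx hgx) Z' hZ'P (by rw [hN]; exact hZ'n) hZ'c χ hχ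
    (by rw [hN]; exact hodd) hconstG _ hz₀G hz₀G1
  obtain ⟨t, ht⟩ := hdvd
  -- orders
  have hcardK : Nat.card ↥K = Nat.card ↥(P : Subgroup G) := by
    rw [← hK]
    exact Nat.card_congr (Subgroup.subgroupOfEquivOfLe hPN).toEquiv
  have hcardN : Nat.card ↥N = K.index * Nat.card ↥(P : Subgroup G) := by
    rw [← hcardK, mul_comm]
    exact (Subgroup.card_mul_index K).symm
  have hk := key (z₀ : ↥N) z₀.2 hz₀1
  have hres1 : res 1 = (dχ : ℂ) := hdχ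
  have hresz : res (z₀ : ↥N) = (n : ℂ) := hn
  rw [hres1, hresz, hζ1, hcardN] at hk
  have hP0 : Nat.card ↥(P : Subgroup G) ≠ 0 := Nat.card_pos.ne'
  have h5 : ((K.index * a : ℕ) : ℤ) * (dχ - n) = (m ζ : ℤ) * ((K.index * Nat.card ↥(P : Subgroup G) : ℕ) : ℤ) := by
    have : ((((K.index * a : ℕ) : ℤ) * (dχ - n) : ℤ) : ℂ) =
        (((m ζ : ℤ) * ((K.index * Nat.card ↥(P : Subgroup G) : ℕ) : ℤ) : ℤ) : ℂ) := by
      push_cast
      push_cast at hk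
      exact hk
    exact_mod_cast this
  rw [ht] at h5
  refine ⟨t, ?_⟩
  have h6 : (m ζ : ℤ) = (a : ℤ) * t := by
    have hc0 : ((K.index : ℤ) * (Nat.card ↥(P : Subgroup G) : ℤ)) ≠ 0 := by
      apply mul_ne_zero
      · exact_mod_cast hidx0
      · exact_mod_cast hP0
    have h7 : ((K.index : ℤ) * (Nat.card ↥(P : Subgroup G) : ℤ)) * ((m ζ : ℤ) - (a : ℤ) * t) = 0 := by
      push_cast at h5
      linear_combination -h5
    have h8 := (mul_eq_zero.1 h7).resolve_left hc0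
    omega
  have h9 : Cfsg.classInner res (Cfsg.indFun K θ) = (m ζ : ℂ) := hm ζ
  rw [h9]
  have : ((m ζ : ℤ) : ℂ) = (((a : ℤ) * t : ℤ) : ℂ) := by rw [h6]
  push_cast at this
  exact this

omit [Fintype G] in
theorem gen_restrict {β : G → ℂ} (hβ : Cfsg.IsGeneralizedCharacter G β) :
    Cfsg.IsGeneralizedCharacter ↥N (fun x : ↥N => β x) := by
  obtain ⟨χ₁, χ₂, h₁, h₂, rfl⟩ := hβ
  exact ⟨fun x : ↥N => χ₁ x, fun x : ↥N => χ₂ x, isCharacter_restrict N h₁,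
    isCharacter_restrict N h₂, rfl⟩

/-- **The divisibility.** For a virtual character `β` of norm one orthogonal to `τ₁ X`, the inner
product of `Ind (Ind θ - a ψ)` with `β` is divisible by `a = θ(1)`. -/
theorem div_ind (hN : Subgroup.normalizer ((P : Subgroup G) : Set G) = N)
    (hK : (P : Subgroup G).subgroupOf N = K)
    (hTI : Cfsg.IsTISubset ((P : Subgroup G) : Set G))
    (hodd : Odd (Nat.card ↥N))
    (Z : Subgroup ↥N) [Z.Normal] (hZ1 : Z ≠ ⊥) (hZK : Z ≤ K)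
    (hZc : ∀ z ∈ Z, ∀ k ∈ K, z * k = k * z)
    (hirr : ∀ χ ∈ Cfsg.inducedIrrAbove K ⊥ \ Cfsg.inducedIrrAbove K Z, Cfsg.IsIrrCharacter ↥N χ)
    {τ₁ : (↥N → ℂ) → (G → ℂ)}
    (hτ₁ : Cfsg.IsLinearIsometryOn
      (Cfsg.zspan (Cfsg.inducedIrrAbove K ⊥ \ Cfsg.inducedIrrAbove K Z)) τ₁)
    (hag : ∀ α ∈ Cfsg.zspanOn (Cfsg.inducedIrrAbove K ⊥ \ Cfsg.inducedIrrAbove K Z)
      ({1}ᶜ : Set _), τ₁ α = Cfsg.indFun N α)
    {β : G → ℂ} (hβg : Cfsg.IsGeneralizedCharacter G β) (hβ1 : Cfsg.classInner β β = 1)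
    (horth : ∀ ξ ∈ Cfsg.inducedIrrAbove K ⊥ \ Cfsg.inducedIrrAbove K Z,
      Cfsg.classInner (τ₁ ξ) β = 0)
    {θ : ↥K → ℂ} (hθ : Cfsg.IsIrrCharacter _ θ)
    (hθX : Cfsg.indFun K θ ∈ Cfsg.inducedIrrAbove K ⊥ \ Cfsg.inducedIrrAbove K Z)
    {a : ℕ} (ha : θ 1 = a) {ψ : ↥N → ℂ} (hψ : Cfsg.IsCharacter ↥N ψ) :
    ∃ g : ℤ, Cfsg.classInner (Cfsg.indFun N (Cfsg.indFun K θ - (a : ℤ) • ψ)) β = (a : ℂ) * g := by
  classical
  have hβcf : Cfsg.IsClassFunction G β :=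
    Cfsg.Agent.Lib.Helper57_FrobNorm.isClassFunction_of_isGeneralizedCharacter hβg
  -- the multiplicity of `Ind θ` in the restriction of `β`
  obtain ⟨m, hm⟩ : ∃ m : ℤ, Cfsg.classInner (fun x : ↥N => β x) (Cfsg.indFun K θ) =
      (a : ℂ) * m := by
    rcases Cfsg.Agent.Lib.Helper25_VirtNorm.norm_one β hβg hβ1 with hχ | hχ
    · exact div_irr p P N K hN hK hTI hodd Z hZ1 hZK hZc hirr hτ₁ hag hχ horth hθ hθX ha
    · obtain ⟨m, hm⟩ := div_irr p P N K hN hK hTI hodd Z hZ1 hZK hZc hirr hτ₁ hag hχ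
        (fun ξ hξ => by rw [classInner_neg_right, horth ξ hξ, neg_zero]) hθ hθX ha
      refine ⟨-m, ?_⟩
      have h1 : (fun x : ↥N => (-β) x) = -(fun x : ↥N => β x) := rfl
      rw [h1, classInner_neg_left] at hm
      push_cast
      linear_combination -hm
  obtain ⟨k, hk⟩ := Cfsg.Agent.S1515.inner_int (gen_of_char hψ) (gen_restrict N hβg)
  refine ⟨m - k, ?_⟩
  rw [frobenius_reciprocity N _ β hβcf, classInner_sub_left, classInner_zsmul_left, hk,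
    ← classInner_conj_symm, hm]
  push_cast
  simp
  ring

end Div

end Cfsg.Agent.Lib.Helper16_SibleyDiv
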