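import Mathlib
import Cfsg.Agent.Lib.Helper32_PGroup

/-!
# Frobenius groups given by a fixed-point-free complement (helper25)

* `exists_mul_of_mem_sup`: elements of `H ⊔ W` are products `h * w` when `W` normalizes `H`.
* `mem_of_commute_of_fpf`: if `L = H W`, `W` normalizes `H` and every non-identity element of `W`
  acts without fixed points on the finite group `H`, then `C_L(k) ≤ H` for `1 ≠ k ∈ H`
  (conversion from the complement form to the kernel form of the Frobenius hypothesis).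
* `exists_sylow_eq`: a `p`-subgroup `H ≠ 1` with `C_{N_G(H)}(k) ≤ H` for `1 ≠ k ∈ H` is a Sylow
  `p`-subgroup of `G`.
-/

set_option autoImplicit false

namespace Cfsg.Agent.Lib.Helper25_FrobSemi

variable {G : Type*} [Group G]

theorem exists_mul_of_mem_sup (H W : Subgroup G)
    (hWn : ∀ w ∈ W, ∀ h ∈ H, w * h * w⁻¹ ∈ H) {x : G} (hx : x ∈ H ⊔ W) :
    ∃ h ∈ H, ∃ w ∈ W, x = h * w := by
  rw [Subgroup.sup_eq_closure] at hx
  refine Subgroup.closure_induction (p := fun x _ => ∃ h ∈ H, ∃ w ∈ W, x = h * w)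
    ?_ ?_ ?_ ?_ hx
  · intro y hy
    rcases hy with hy | hy
    · exact ⟨y, hy, 1, W.one_mem, (mul_one y).symm⟩
    · exact ⟨1, H.one_mem, y, hy, (one_mul y).symm⟩
  · exact ⟨1, H.one_mem, 1, W.one_mem, (mul_one 1).symm⟩
  · rintro a b _ _ ⟨h, hh, w, hw, rfl⟩ ⟨h', hh', w', hw', rfl⟩
    refine ⟨h * (w * h' * w⁻¹), H.mul_mem hh (hWn w hw h' hh'), w * w', W.mul_mem hw hw', ?_⟩
    group
  · rintro a _ ⟨h, hh, w, hw, rfl⟩
    refine ⟨w⁻¹ * h⁻¹ * w⁻¹⁻¹, hWn w⁻¹ (W.inv_mem hw) h⁻¹ (H.inv_mem hh), w⁻¹, W.inv_mem hw, ?_⟩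
    group

/-- From a fixed-point-free complement to the centralizer condition. -/
theorem mem_of_commute_of_fpf (H W : Subgroup G) [Finite H]
    (hWn : ∀ w ∈ W, ∀ h ∈ H, w * h * w⁻¹ ∈ H)
    (hfpf : ∀ w ∈ W, w ≠ 1 → ∀ h ∈ H, w * h = h * w → h = 1) :
    ∀ k ∈ H, k ≠ 1 → ∀ x ∈ H ⊔ W, x * k = k * x → x ∈ H := by
  intro k hk hk1 x hx hc
  obtain ⟨h, hh, w, hw, rfl⟩ := exists_mul_of_mem_sup H W hWn hx
  by_cases hw1 : w = 1
  · rw [hw1, mul_one]; exact hh
  exfalso
  -- every element of the coset `H w` is an `H`-conjugate of `w`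
  let f : H → H := fun u => ⟨u * (w * (u : G)⁻¹ * w⁻¹), H.mul_mem u.2 (hWn w hw _ (H.inv_mem u.2))⟩
  have hf : Function.Injective f := by
    intro u u' huu
    have h1 : (u : G) * (w * (u : G)⁻¹ * w⁻¹) = u' * (w * (u' : G)⁻¹ * w⁻¹) :=
      congrArg Subtype.val huu
    have h2 : w * ((u' : G)⁻¹ * u) = ((u' : G)⁻¹ * u) * w := by
      have h3 : (u : G) * w * (u : G)⁻¹ = u' * w * (u' : G)⁻¹ := by
        have := congrArg (· * w) h1
        simpa [mul_assoc] using this
      calc w * ((u' : G)⁻¹ * u) = (u' : G)⁻¹ * (u' * w * (u' : G)⁻¹) * u := by group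
        _ = (u' : G)⁻¹ * (u * w * (u : G)⁻¹) * u := by rw [h3]
        _ = ((u' : G)⁻¹ * u) * w := by group
    have h4 := hfpf w hw hw1 _ (H.mul_mem (H.inv_mem u'.2) u.2) h2
    rw [inv_mul_eq_one] at h4
    exact Subtype.ext h4.symm
  obtain ⟨u, hu⟩ := Finite.surjective_of_injective hf ⟨h, hh⟩
  have hu' : (u : G) * (w * (u : G)⁻¹ * w⁻¹) = h := congrArg Subtype.val hu
  have hconj : h * w = u * w * (u : G)⁻¹ := by
    rw [← hu']; group
  rw [hconj] at hc
  have h5 : w * ((u : G)⁻¹ * k * u) = ((u : G)⁻¹ * k * u) * w := by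
    calc w * ((u : G)⁻¹ * k * u) = (u : G)⁻¹ * ((u : G) * w * (u : G)⁻¹ * k) * u := by group
      _ = (u : G)⁻¹ * (k * ((u : G) * w * (u : G)⁻¹)) * u := by rw [hc]
      _ = ((u : G)⁻¹ * k * u) * w := by group
  have h6 := hfpf w hw hw1 _ (H.mul_mem (H.mul_mem (H.inv_mem u.2) hk) u.2) h5
  apply hk1
  calc k = (u : G) * ((u : G)⁻¹ * k * u) * (u : G)⁻¹ := by group
    _ = 1 := by rw [h6]; group

/-- A `p`-subgroup whose normalizer is of Frobenius type with kernel `H` is a Sylow subgroup. -/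
theorem exists_sylow_eq [Finite G] (p : ℕ) [Fact p.Prime] (H : Subgroup G) (hp : IsPGroup p H)
    (hH1 : H ≠ ⊥)
    (hC : ∀ k ∈ H, k ≠ 1 → ∀ x ∈ Subgroup.normalizer (H : Set G), x * k = k * x → x ∈ H) :
    ∃ P : Sylow p G, (P : Subgroup G) = H := by
  obtain ⟨P, hHP⟩ := hp.exists_le_sylow
  refine ⟨P, ?_⟩
  by_contra hne
  have hlt : H.subgroupOf (P : Subgroup G) < ⊤ := by
    rw [lt_top_iff_ne_top]
    intro h
    apply hne
    apply le_antisymm _ hHP
    intro x hx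
    have : (⟨x, hx⟩ : (P : Subgroup G)) ∈ H.subgroupOf (P : Subgroup G) := by rw [h]; trivial
    exact Subgroup.mem_subgroupOf.mp this
  have : Group.IsNilpotent (P : Subgroup G) := P.isPGroup'.isNilpotent
  have hnc := Group.normalizerCondition_of_isNilpotent (G := (P : Subgroup G)) _ hlt
  obtain ⟨y, hyN, hyH⟩ := SetLike.exists_of_lt hnc
  -- the normalizer of `H` in `P`, a `p`-group in which `H` is normal
  set M : Subgroup (P : Subgroup G) :=
    Subgroup.normalizer ((H.subgroupOf (P : Subgroup G) : Subgroup (P : Subgroup G)) :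
      Set (P : Subgroup G)) with hM
  have hMp : IsPGroup p M := P.isPGroup'.to_subgroup M
  set H' : Subgroup M := (H.subgroupOf (P : Subgroup G)).subgroupOf M with hH'
  have : H'.Normal := Subgroup.normal_in_normalizer
  have hH'1 : H' ≠ ⊥ := by
    obtain ⟨k, hk1⟩ := (Subgroup.ne_bot_iff_exists_ne_one).mp hH1
    intro h
    apply hk1
    have hkP : (k : G) ∈ (P : Subgroup G) := hHP k.2
    have hkH : (⟨k, hkP⟩ : (P : Subgroup G)) ∈ H.subgroupOf (P : Subgroup G) :=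
      Subgroup.mem_subgroupOf.mpr k.2
    have hkM : (⟨k, hkP⟩ : (P : Subgroup G)) ∈ M := Subgroup.le_normalizer hkH
    have hmem : (⟨⟨k, hkP⟩, hkM⟩ : M) ∈ H' := Subgroup.mem_subgroupOf.mpr hkH
    rw [h, Subgroup.mem_bot] at hmem
    have h2 := congrArg (fun z : M => ((z : (P : Subgroup G)) : G)) hmem
    exact Subtype.ext h2
  obtain ⟨z, hzH', hzc, hz1⟩ :=
    Cfsg.Agent.Lib.Helper32_PGroup.exists_mem_center_of_normal hMp H' hH'1
  -- `y` commutes with `z`
  have hyz : (⟨y, hyN⟩ : M) * z = z * ⟨y, hyN⟩ := Subgroup.mem_center_iff.mp hzc ⟨y, hyN⟩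
  have hyz' : ((y : (P : Subgroup G)) : G) * ((z : (P : Subgroup G)) : G) =
      ((z : (P : Subgroup G)) : G) * ((y : (P : Subgroup G)) : G) :=
    congrArg (fun w : M => ((w : (P : Subgroup G)) : G)) hyz
  have hzH : ((z : (P : Subgroup G)) : G) ∈ H :=
    Subgroup.mem_subgroupOf.mp (Subgroup.mem_subgroupOf.mp hzH')
  have hz1' : ((z : (P : Subgroup G)) : G) ≠ 1 := by
    intro h
    apply hz1
    apply Subtype.ext
    apply Subtype.ext
    exact h
  -- `y` normalizes `H` in `G`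
  have hyNG : ((y : (P : Subgroup G)) : G) ∈ Subgroup.normalizer (H : Set G) := by
    rw [Subgroup.mem_normalizer_iff]
    have hy' := Subgroup.mem_normalizer_iff.mp hyN
    intro g
    constructor
    · intro hg
      have := (hy' ⟨g, hHP hg⟩).mp (Subgroup.mem_subgroupOf.mpr hg)
      exact Subgroup.mem_subgroupOf.mp this
    · intro hg
      have hgP : g ∈ (P : Subgroup G) := by
        have h1 : (y : G)⁻¹ * ((y : G) * g * (y : G)⁻¹) * (y : G) ∈ (P : Subgroup G) :=
          (P : Subgroup G).mul_mem ((P : Subgroup G).mul_mem ((P : Subgroup G).inv_mem y.2)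
            (hHP hg)) y.2
        have h2 : (y : G)⁻¹ * ((y : G) * g * (y : G)⁻¹) * (y : G) = g := by group
        rwa [h2] at h1
      have := (hy' ⟨g, hgP⟩).mpr (Subgroup.mem_subgroupOf.mpr hg)
      exact Subgroup.mem_subgroupOf.mp this
  exact hyH (Subgroup.mem_subgroupOf.mpr (hC _ hzH hz1' _ hyNG hyz'))

end Cfsg.Agent.Lib.Helper25_FrobSemi
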