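import Mathlib
import Cfsg.Prelude.Def_Blocks
import Cfsg.Agent.Lib.Helper75_Clifford
import Cfsg.Agent.Lib.Helper75_CharProd
import Cfsg.Agent.Lib.Helper75_LinChar
import Cfsg.Agent.Lib.Helper75_DetChar
import Cfsg.Agent.Lib.Helper75_CanonExt
import Cfsg.Agent.Lib.Helper57_FrobNorm
import Cfsg.Agent.Lib.Helper59_CliffordDeg
import Cfsg.Agent.Lib.Helper82_ItoMichler
import Cfsg.Agent.Lib.Helper80_CharInd
import Cfsg.Agent.Lib.Helper80_CharBasic
import Cfsg.Agent.Lib.Helper80_CharComplete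
import Cfsg.Agent.Lib.Helper69_PComplement
import Cfsg.Agent.Lib.Helper32_PSolvable
import Cfsg.Agent.S4713

/-!
# Derived length of a Sylow subgroup and characters of degree divisible by `p` (helper79)

Tools for S4768: a relative version of Ito-Michler (via determinants, Gallagher and the
Clifford correspondence), and two lemmas on derived series along homomorphisms.
-/

set_option autoImplicit false

namespace Cfsg.Agent.Lib.Helper79_SingularDL

open scoped ComplexConjugate
open Cfsg.Agent.Lib.Helper75_Clifford Cfsg.Agent.Lib.Helper75_LinChar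
  Cfsg.Agent.Lib.Helper3_CharBridge

section derived

variable {Q R : Type*} [Group Q] [Group R]

theorem derivedSeries_le_ker (f : Q →* R) (k : ℕ) (hR : derivedSeries R k = ⊥) :
    derivedSeries Q k ≤ f.ker := by
  intro x hx
  have h1 : f x ∈ (derivedSeries Q k).map f := Subgroup.mem_map_of_mem f hx
  have h2 := map_derivedSeries_le_derivedSeries f k h1
  rw [hR, Subgroup.mem_bot] at h2
  exact h2

theorem derivedSeries_eq_bot_of_injective (f : Q →* R) (hf : Function.Injective f) (k : ℕ)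
    (hR : derivedSeries R k = ⊥) : derivedSeries Q k = ⊥ := by
  rw [eq_bot_iff]
  intro x hx
  have h := derivedSeries_le_ker f k hR hx
  rw [MonoidHom.mem_ker] at h
  rw [Subgroup.mem_bot]
  exact hf (by rw [h, map_one])

theorem derivedSeries_succ_eq_bot_of_hom (f : Q →* R) (k : ℕ) (hR : derivedSeries R k = ⊥)
    (hker : ∀ a b : Q, f a = 1 → f b = 1 → a * b = b * a) : derivedSeries Q (k + 1) = ⊥ := by
  rw [derivedSeries_succ, Subgroup.commutator_eq_bot_iff_le_centralizer]
  intro x hx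
  rw [Subgroup.mem_centralizer_iff]
  intro y hy
  have h1 := derivedSeries_le_ker f k hR hx
  have h2 := derivedSeries_le_ker f k hR hy
  rw [MonoidHom.mem_ker] at h1 h2
  exact hker y x h2 h1

end derived

section lemmaA

variable {H : Type*} [Group H] [Fintype H]

theorem charDegree_congr {K L : Type*} [Group K] [Group L] {χ : K → ℂ} {ψ : L → ℂ}
    (h : χ 1 = ψ 1) :
    Cfsg.charDegree χ = Cfsg.charDegree ψ := by
  unfold Cfsg.charDegree
  rw [h]

/-- If `lam` has values of `m`-th roots of unity and `d` is coprime to `m`, some power of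
`lam ^ d` is `lam`. -/
theorem exists_pow_inverse (m d : ℕ) (hm : 0 < m) (hcop : Nat.Coprime d m) :
    ∃ a : ℕ, ∀ z : ℂ, z ^ m = 1 → (z ^ d) ^ a = z := by
  by_cases h1 : m = 1
  · refine ⟨0, fun z hz => ?_⟩
    rw [h1, pow_one] at hz
    rw [hz]
    simp
  · have hm1 : 1 < m := by omega
    obtain ⟨a, -, ha⟩ := Nat.exists_mul_mod_eq_one_of_coprime hcop hm1
    refine ⟨a, fun z hz => ?_⟩
    have h2 : d * a = m * (d * a / m) + 1 := by
      have := Nat.div_add_mod (d * a) m
      omega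
    rw [← pow_mul, h2, pow_succ, pow_mul, hz, one_pow, one_mul]

/-- **Relative Ito-Michler, invariant case (degrees).**  Let `M ⊴ H` be a `p`-group and `lam` an
`H`-invariant linear character of `M` such that all irreducible characters of `H` over `lam` have
degree prime to `p`.  Then all irreducible characters of `H ⧸ M` have degree prime to `p`. -/
theorem degrees_quotient_of_over (p : ℕ) [Fact p.Prime] (M : Subgroup H) [hM : M.Normal]
    [Fintype M] (hMp : IsPGroup p M) (lam : M → ℂ) (hlam : IsLin M lam)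
    (hinv : ∀ g : H, Helper75_Clifford.conjFun M hM lam g = lam)
    (hdeg : ∀ ψ : H → ℂ, Cfsg.IsIrrCharacter H ψ → Cfsg.classInner (res M ψ) lam ≠ 0 →
      ¬ p ∣ Cfsg.charDegree ψ)
    (β : Cfsg.IrrCharacter (H ⧸ M)) : ¬ p ∣ Cfsg.charDegree (β : H ⧸ M → ℂ) := by
  classical
  have hp : p.Prime := Fact.out
  have hlamirr : Cfsg.IsIrrCharacter M lam := hlam.irr
  obtain ⟨ψ₀, hψ₀, hover⟩ := Cfsg.Agent.Lib.Helper59_CliffordDeg.exists_irr_over M hlamirr
  have hres := Cfsg.Agent.Lib.Helper75_CharProd.res_eq_smul_of_invariant M hM hψ₀ hlamirr hinv hover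
  obtain ⟨d, hd0, hd⟩ := Cfsg.Agent.Lib.Helper3_CharColumn.irr_one_eq_natCast hψ₀
  have hc : Cfsg.classInner (res M ψ₀) lam = d := by
    have h1 := congrFun hres 1
    simp only [Pi.smul_apply, smul_eq_mul, res_apply] at h1
    rw [hlam.2, mul_one] at h1
    rw [← h1]
    exact hd
  have hpd : ¬ p ∣ d := by
    have := hdeg ψ₀ hψ₀ hover
    rwa [Cfsg.Agent.Lib.Helper82_ItoMichler.charDegree_eq ψ₀ d hd] at this
  -- the determinant
  have hψ₀c : Cfsg.IsCharacter H ψ₀ := isCharacter_of_isIrrCharacter hψ₀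
  have hδ : IsLin H (Cfsg.detChar ψ₀) := Cfsg.Agent.Lib.Helper75_DetChar.isCharacter_detChar hψ₀c
  have hδM : ∀ n : M, Cfsg.detChar ψ₀ n = lam n ^ d := by
    intro n
    have h1 := Cfsg.Agent.Lib.Helper75_DetChar.detChar_res M hψ₀c
    have h2 : (fun n : M => ψ₀ n) = d • lam := by
      have : (fun n : M => ψ₀ n) = res M ψ₀ := rfl
      rw [this, hres, hc]
      funext n
      simp
    rw [h2, Cfsg.Agent.Lib.Helper75_CanonExt.detChar_nsmul hlam.1,
      Cfsg.Agent.Lib.Helper75_DetChar.detChar_linear hlam.1 hlam.2] at h1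
    have h3 := congrFun h1 n
    simp only [Pi.pow_apply] at h3
    exact h3.symm
  obtain ⟨k, hk⟩ := IsPGroup.iff_card.1 hMp
  have hcop : Nat.Coprime d (Nat.card M) := by
    rw [hk]
    apply Nat.Coprime.pow_right
    exact ((Nat.Prime.coprime_iff_not_dvd hp).2 hpd).symm
  obtain ⟨a, ha⟩ := exists_pow_inverse (Nat.card M) d Nat.card_pos hcop
  have hμ : IsLin H (Cfsg.detChar ψ₀ ^ a) := hδ.pow a
  have hμM : ∀ n : M, (Cfsg.detChar ψ₀ ^ a) n = lam n := by
    intro n
    rw [Pi.pow_apply, hδM n]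
    exact ha (lam n) (hlam.pow_card_eq_one n)
  -- Gallagher
  have hβ' : Cfsg.IsIrrCharacter H (fun x => (β : H ⧸ M → ℂ) (QuotientGroup.mk' M x)) :=
    Cfsg.Agent.Lib.Helper57_FrobNorm.isIrrCharacter_comp_surjective (QuotientGroup.mk' M)
      (QuotientGroup.mk'_surjective M) β.2
  have hψ := hμ.mul_irr hβ'
  have hψ1 : (Cfsg.detChar ψ₀ ^ a * fun x => (β : H ⧸ M → ℂ) (QuotientGroup.mk' M x)) 1 =
      (β : H ⧸ M → ℂ) 1 := by
    rw [Pi.mul_apply, hμ.2, one_mul, map_one]
  have hresψ : res M (Cfsg.detChar ψ₀ ^ a * fun x => (β : H ⧸ M → ℂ) (QuotientGroup.mk' M x)) =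
      (β : H ⧸ M → ℂ) 1 • lam := by
    funext n
    rw [res_apply, Pi.mul_apply, hμM n, Pi.smul_apply, smul_eq_mul, mul_comm]
    congr 1
    have : (QuotientGroup.mk' M (n : H)) = 1 := by
      rw [QuotientGroup.mk'_apply, QuotientGroup.eq_one_iff]
      exact n.2
    rw [this]
  have hover' : Cfsg.classInner
      (res M (Cfsg.detChar ψ₀ ^ a * fun x => (β : H ⧸ M → ℂ) (QuotientGroup.mk' M x))) lam ≠ 0 := by
    rw [hresψ, Cfsg.Agent.Lib.Helper3_CharOrtho.classInner_smul_left,
      Cfsg.Agent.Lib.Helper3_CharOrtho.classInner_self_of_isIrrCharacter hlamirr, mul_one]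
    exact irr_one_ne_zero β.2
  have := hdeg _ hψ hover'
  rwa [charDegree_congr hψ1] at this

end lemmaA

section lemmaB

variable {G : Type*} [Group G] [Fintype G]

/-- **Clifford correspondence and degrees.**  If all irreducible characters of `G` over the linear
character `lam` of `N ⊴ G` have degree prime to `p`, the same holds for the irreducible characters
of the inertia group `T` of `lam` over `lam`. -/
theorem over_of_inertia (p : ℕ) (N T : Subgroup G) [hN : N.Normal] [Fintype N]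
    [Fintype T] [Fintype (N.subgroupOf T)] (hNT : N ≤ T) (lam : N → ℂ) (hlam : IsLin N lam)
    (hT : ∀ g : G, g ∈ T ↔ Helper75_Clifford.conjFun N hN lam g = lam)
    (hdeg : ∀ χ : G → ℂ, Cfsg.IsIrrCharacter G χ → Cfsg.classInner (res N χ) lam ≠ 0 →
      ¬ p ∣ Cfsg.charDegree χ)
    (ψ : T → ℂ) (hψ : Cfsg.IsIrrCharacter T ψ)
    (hover : Cfsg.classInner (res (N.subgroupOf T) ψ)
      (Cfsg.Agent.Lib.Helper75_Induced.resSubgroupOf N T lam) ≠ 0) :
    ¬ p ∣ Cfsg.charDegree ψ := by
  classical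
  have hlamirr : Cfsg.IsIrrCharacter N lam := hlam.irr
  have hψc : Cfsg.IsClassFunction T ψ := isClassFunction_of_isIrrCharacter hψ
  -- `ψ` is a constituent of the induced character
  have hψ' : Cfsg.classInner (Cfsg.indFun (N.subgroupOf T)
      (Cfsg.Agent.Lib.Helper75_Induced.resSubgroupOf N T lam)) ψ ≠ 0 := by
    rw [Cfsg.Agent.Lib.Helper75_Induced.frobenius_reciprocity (N.subgroupOf T) _ ψ hψc,
      ← Cfsg.Agent.Lib.Helper3_CharOrtho.classInner_conj_symm]
    exact (map_ne_zero _).mpr hover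
  have core := corr_core N T hN hNT hlamirr hT ⟨ψ, hψ⟩ hψ'
  have hχ : Cfsg.IsIrrCharacter G (Cfsg.indFun T ψ) :=
    Cfsg.Agent.Lib.Helper75_CharArith.isIrrCharacter_of_classInner_self
      (Cfsg.Agent.Lib.Helper75_IndChar.isCharacter_indFun T (isCharacter_of_isIrrCharacter hψ))
      core.1
  obtain ⟨m, hm, hΦ⟩ := exists_mult_decomp N T hNT hlamirr
  have hmψ : m ⟨ψ, hψ⟩ ≠ 0 := by
    intro h0
    apply hψ'
    have := hm ⟨ψ, hψ⟩
    rw [h0, Nat.cast_zero] at this
    exact this
  have h4 : Cfsg.classInner (Cfsg.indFun N lam) (Cfsg.indFun T ψ) = (m ⟨ψ, hψ⟩ : ℂ) := by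
    rw [hΦ, Cfsg.Agent.Lib.Helper3_CharOrtho.classInner_sum_left,
      Finset.sum_eq_single (⟨ψ, hψ⟩ : Cfsg.IrrCharacter T)]
    · rw [Cfsg.Agent.Lib.Helper3_CharOrtho.classInner_smul_left]
      have := core.1
      simp only at this
      rw [this, mul_one]
    · intro ξ _ hne
      rw [Cfsg.Agent.Lib.Helper3_CharOrtho.classInner_smul_left]
      by_cases h0 : m ξ = 0
      · rw [h0, Nat.cast_zero, zero_mul]
      · have hξ : Cfsg.classInner (Cfsg.indFun (N.subgroupOf T)
            (Cfsg.Agent.Lib.Helper75_Induced.resSubgroupOf N T lam)) ξ ≠ 0 := by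
          rw [hm ξ]
          exact_mod_cast h0
        have h5 := core.2 ξ hne hξ
        simp only at h5
        rw [← Cfsg.Agent.Lib.Helper3_CharOrtho.classInner_conj_symm, h5, map_zero, mul_zero]
    · intro h
      exact absurd (Finset.mem_univ _) h
  have hoverG : Cfsg.classInner (res N (Cfsg.indFun T ψ)) lam ≠ 0 := by
    have h5 := Cfsg.Agent.Lib.Helper75_Induced.frobenius_reciprocity N lam (Cfsg.indFun T ψ)
      (isClassFunction_of_isIrrCharacter hχ)
    rw [h4] at h5
    have h6 : Cfsg.classInner lam (res N (Cfsg.indFun T ψ)) ≠ 0 := by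
      have : (fun h : N => Cfsg.indFun T ψ h) = res N (Cfsg.indFun T ψ) := rfl
      rw [← this, ← h5]
      exact_mod_cast hmψ
    rw [← Cfsg.Agent.Lib.Helper3_CharOrtho.classInner_conj_symm]
    exact (map_ne_zero _).mpr h6
  have h7 := hdeg _ hχ hoverG
  obtain ⟨d, hd0, hd⟩ := Cfsg.Agent.Lib.Helper3_CharColumn.irr_one_eq_natCast hψ
  have h8 : Cfsg.indFun T ψ 1 = ((T.index * d : ℕ) : ℂ) := by
    rw [Cfsg.Agent.Lib.Helper80_CharInd.indFun_one, hd]
    push_cast
    ring
  rw [Cfsg.Agent.Lib.Helper82_ItoMichler.charDegree_eq _ _ h8] at h7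
  rw [Cfsg.Agent.Lib.Helper82_ItoMichler.charDegree_eq _ _ hd]
  exact fun h => h7 (Dvd.dvd.mul_left h _)

end lemmaB

section lemmaC

universe u

variable {G : Type u} [Group G] [Finite G]

/-- A nontrivial commutative finite group has a nontrivial linear character. -/
theorem exists_isLin_ne_one {A : Type*} [Group A] [Finite A] (hA : ∀ a b : A, a * b = b * a)
    (hne : Nontrivial A) : ∃ lam : A → ℂ, IsLin A lam ∧ lam ≠ fun _ => 1 := by
  classical
  have h1 := Cfsg.Agent.Lib.Helper80_CharComplete.card_irr_eq_card_conjClasses (G := A)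
  have h2 : Nontrivial (ConjClasses A) := by
    obtain ⟨a, ha⟩ := exists_ne (1 : A)
    refine ⟨⟨ConjClasses.mk a, ConjClasses.mk 1, ?_⟩⟩
    intro h
    rw [ConjClasses.mk_eq_mk_iff_isConj, isConj_one_left] at h
    exact ha h
  haveI : Finite (Cfsg.IrrCharacter A) := Cfsg.Agent.Lib.Helper81_CharOrth.finite_irrCharacter
  have h3 : Nontrivial (Cfsg.IrrCharacter A) := by
    rw [← Finite.one_lt_card_iff_nontrivial, h1, Finite.one_lt_card_iff_nontrivial]
    exact h2
  obtain ⟨θ, hθ⟩ := exists_ne (Cfsg.Agent.Lib.Helper80_CharBasic.oneIrr A)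
  refine ⟨θ, Cfsg.Agent.Lib.Helper75_CanonExt.isLin_of_comm hA θ.2, ?_⟩
  intro h
  apply hθ
  apply Subtype.ext
  rw [h]
  rfl

/-- **Case (c).**  `G` is `p`-solvable, `N ⊴ G` a nontrivial commutative `p`-subgroup such that all
irreducible characters of `G` whose kernel does not contain `N` have degree prime to `p`.  Then the
Sylow `p`-subgroups of `G` have derived length at most two. -/
theorem derivedSeries_two_of_over (p : ℕ) [Fact p.Prime] (hG : Cfsg.IsPSolvable p G)
    (N : Subgroup G) [hN : N.Normal] (hNp : IsPGroup p N)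
    (hNc : ∀ a ∈ N, ∀ b ∈ N, a * b = b * a) (hNne : N ≠ ⊥)
    (hdeg : ∀ χ : Cfsg.IrrCharacter G, (∃ n ∈ N, (χ : G → ℂ) n ≠ (χ : G → ℂ) 1) →
      ¬ p ∣ Cfsg.charDegree (χ : G → ℂ))
    (P : Sylow p G) : derivedSeries P 2 = ⊥ := by
  classical
  have hp : p.Prime := Fact.out
  haveI : Fintype G := Fintype.ofFinite G
  haveI : Fintype N := Fintype.ofFinite N
  have hcommN : ∀ a b : N, a * b = b * a := fun a b => Subtype.ext (hNc a a.2 b b.2)
  have hNnt : Nontrivial N := (Subgroup.nontrivial_iff_ne_bot N).2 hNne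
  obtain ⟨lam, hlam, hlamne⟩ := exists_isLin_ne_one hcommN hNnt
  have hlamirr : Cfsg.IsIrrCharacter N lam := hlam.irr
  -- characters over `lam` have degree prime to `p`
  have hdeg' : ∀ χ : G → ℂ, Cfsg.IsIrrCharacter G χ → Cfsg.classInner (res N χ) lam ≠ 0 →
      ¬ p ∣ Cfsg.charDegree χ := by
    intro χ hχ hover
    apply hdeg ⟨χ, hχ⟩
    by_contra hall
    push Not at hall
    apply hover
    have h1 : res N χ = χ 1 • (fun _ : N => (1 : ℂ)) := by
      funext n
      rw [res_apply, Pi.smul_apply, smul_eq_mul, mul_one]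
      exact hall n n.2
    rw [h1, Cfsg.Agent.Lib.Helper3_CharOrtho.classInner_smul_left,
      Cfsg.Agent.Lib.Helper3_CharOrtho.classInner_of_isIrrCharacter_of_ne
        (Cfsg.Agent.Lib.Helper80_CharBasic.isIrrCharacter_one N) hlamirr (Ne.symm hlamne), mul_zero]
  -- the inertia group
  set T := Cfsg.Agent.Lib.Helper82_ItoMichler.stab N lam with hTdef
  have hT : ∀ g : G, g ∈ T ↔ Helper75_Clifford.conjFun N hN lam g = lam :=
    Cfsg.Agent.Lib.Helper82_ItoMichler.mem_stab N lam
  have hNT : N ≤ T := Cfsg.Agent.Lib.Helper82_ItoMichler.le_stab N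
    (isClassFunction_of_isIrrCharacter hlamirr)
  have hTidx : ¬ p ∣ T.index := by
    obtain ⟨χ, hχ, hover⟩ := Cfsg.Agent.Lib.Helper59_CliffordDeg.exists_irr_over N hlamirr
    obtain ⟨d, hd0, hd⟩ := Cfsg.Agent.Lib.Helper3_CharColumn.irr_one_eq_natCast hχ
    obtain ⟨e, he⟩ := Cfsg.Agent.Lib.Helper82_ItoMichler.clifford_degree N hχ hlamirr hover d 1 hd
      (by rw [hlam.2, Nat.cast_one])
    have h1 := hdeg' χ hχ hover
    rw [Cfsg.Agent.Lib.Helper82_ItoMichler.charDegree_eq χ d hd, he] at h1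
    intro h
    apply h1
    rw [mul_one]
    exact Dvd.dvd.mul_left h e
  haveI : Fintype T := Fintype.ofFinite T
  haveI : Fintype (N.subgroupOf T) := Fintype.ofFinite _
  have hM : (N.subgroupOf T).Normal := inferInstance
  have hMp : IsPGroup p (N.subgroupOf T) :=
    hNp.of_equiv (Subgroup.subgroupOfEquivOfLe hNT).symm
  have hlam' : IsLin (N.subgroupOf T) (Cfsg.Agent.Lib.Helper75_Induced.resSubgroupOf N T lam) := by
    refine ⟨isCharacter_of_isIrrCharacter (isIrrCharacter_resSubgroupOf N T hNT hlamirr), ?_⟩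
    have : Cfsg.Agent.Lib.Helper75_Induced.resSubgroupOf N T lam 1 = lam 1 := by
      unfold Cfsg.Agent.Lib.Helper75_Induced.resSubgroupOf
      congr 1
    rw [this, hlam.2]
  have hdegT := degrees_quotient_of_over p (N.subgroupOf T) hMp _ hlam'
    (fun t => conjFun_resSubgroupOf N T hN hM lam hT t)
    (fun ψ hψ hover => over_of_inertia p N T hNT lam hlam hT hdeg' ψ hψ hover)
  -- Ito-Michler in the quotient
  have hsolv : Cfsg.IsPSolvable p (T ⧸ N.subgroupOf T) :=
    Cfsg.Agent.Lib.Helper32_PSolvable.isPSolvable_quotient _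
      (Cfsg.Agent.Lib.Helper69_PComplement.isPSolvable_subgroup p hG T)
  obtain ⟨P₁⟩ := (inferInstance : Nonempty (Sylow p T))
  have hcomm := ((Cfsg.Agent.S4713.result p hsolv
    (P₁.mapSurjective (QuotientGroup.mk'_surjective (N.subgroupOf T)))).2 hdegT).2
  have hD1 : derivedSeries ↥((P₁ : Subgroup T).map (QuotientGroup.mk' (N.subgroupOf T))) 1 = ⊥ := by
    have h0 : derivedSeries Unit 0 = ⊥ := Subsingleton.elim _ _
    refine derivedSeries_succ_eq_bot_of_hom
      (1 : ↥((P₁ : Subgroup T).map (QuotientGroup.mk' (N.subgroupOf T))) →* Unit) 0 h0 ?_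
    intro a b _ _
    exact hcomm.is_comm.comm a b
  have hD2 : derivedSeries ↥(P₁ : Subgroup T) 2 = ⊥ := by
    refine derivedSeries_succ_eq_bot_of_hom
      ((QuotientGroup.mk' (N.subgroupOf T)).subgroupMap (P₁ : Subgroup T)) 1 hD1 ?_
    intro a b ha hb
    have ha' : ((a : T) : G) ∈ N := by
      have := congrArg Subtype.val ha
      simp only [MonoidHom.subgroupMap_apply_coe, OneMemClass.coe_one, QuotientGroup.mk'_apply,
        QuotientGroup.eq_one_iff] at this
      exact Subgroup.mem_subgroupOf.1 this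
    have hb' : ((b : T) : G) ∈ N := by
      have := congrArg Subtype.val hb
      simp only [MonoidHom.subgroupMap_apply_coe, OneMemClass.coe_one, QuotientGroup.mk'_apply,
        QuotientGroup.eq_one_iff] at this
      exact Subgroup.mem_subgroupOf.1 this
    apply Subtype.ext
    apply Subtype.ext
    exact hNc _ ha' _ hb'
  -- transfer to `P`
  have hQp : IsPGroup p ((P₁ : Subgroup T).map T.subtype) := P₁.2.map _
  have hQidx : ¬ p ∣ ((P₁ : Subgroup T).map T.subtype).index := by
    rw [Subgroup.index_map_subtype]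
    exact Nat.Prime.not_dvd_mul hp P₁.not_dvd_index hTidx
  let e1 : P ≃* (hQp.toSylow hQidx) := Sylow.equiv P (hQp.toSylow hQidx)
  let e2 : ↥(P₁ : Subgroup T) ≃* ↥((P₁ : Subgroup T).map T.subtype) :=
    Subgroup.equivMapOfInjective (P₁ : Subgroup T) T.subtype T.subtype_injective
  have hD3 : derivedSeries ↥((P₁ : Subgroup T).map T.subtype) 2 = ⊥ :=
    derivedSeries_eq_bot_of_injective e2.symm.toMonoidHom e2.symm.injective 2 hD2
  exact derivedSeries_eq_bot_of_injective e1.toMonoidHom e1.injective 2 hD3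

end lemmaC

end Cfsg.Agent.Lib.Helper79_SingularDL
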