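import Mathlib
import Cfsg.Prelude.Def_Blocks
import Cfsg.Agent.Lib.Helper79_SingularDL
import Cfsg.Agent.Lib.Helper80_RelDegree
import Cfsg.Agent.Lib.Helper39_CharTools
import Cfsg.Agent.Lib.Helper75_Gallagher
import Cfsg.Agent.Lib.Helper17_TIPrime
import Cfsg.Agent.Lib.Helper15_Linear
import Cfsg.Agent.Lib.Helper77_BlockBasics
import Cfsg.Agent.S0856
import Cfsg.Agent.S0857
import Cfsg.Agent.Lib.Helper79_RealOdd

/-!
# Groups with a normal `p`-complement and a unique irreducible character of degree divisible by `p`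
(helper79): the character-theoretic part of S4763.
-/

set_option autoImplicit false

namespace Cfsg.Agent.Lib.Helper79_UniqueSingular

open scoped ComplexConjugate
open Cfsg.Agent.Lib.Helper75_Clifford Cfsg.Agent.Lib.Helper75_LinChar
  Cfsg.Agent.Lib.Helper3_CharBridge Cfsg.Agent.Lib.Helper79_SingularDL

section basics

variable {G : Type*} [Group G]

/-- inflation of a function on `G ⧸ N` -/
def infl (N : Subgroup G) [N.Normal] (β : G ⧸ N → ℂ) : G → ℂ :=
  fun g => β (QuotientGroup.mk' N g)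

theorem infl_apply (N : Subgroup G) [N.Normal] (β : G ⧸ N → ℂ) (g : G) :
    infl N β g = β (QuotientGroup.mk' N g) := rfl

theorem infl_mem (N : Subgroup G) [N.Normal] (β : G ⧸ N → ℂ) {n : G} (hn : n ∈ N) :
    infl N β n = β 1 := by
  rw [infl_apply]
  congr 1
  rw [QuotientGroup.mk'_apply, QuotientGroup.eq_one_iff]
  exact hn

theorem infl_one (N : Subgroup G) [N.Normal] (β : G ⧸ N → ℂ) : infl N β 1 = β 1 :=
  infl_mem N β N.one_mem

theorem infl_irr (N : Subgroup G) [N.Normal] (β : Cfsg.IrrCharacter (G ⧸ N)) :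
    Cfsg.IsIrrCharacter G (infl N (β : G ⧸ N → ℂ)) :=
  Cfsg.Agent.Lib.Helper57_FrobNorm.isIrrCharacter_comp_surjective (QuotientGroup.mk' N)
    (QuotientGroup.mk'_surjective N) β.2

theorem infl_injective (N : Subgroup G) [N.Normal] {β γ : G ⧸ N → ℂ}
    (h : infl N β = infl N γ) : β = γ := by
  funext y
  obtain ⟨x, rfl⟩ := QuotientGroup.mk'_surjective N y
  exact congrFun h x

/-- A nontrivial finite group has an irreducible character different from the trivial one. -/
theorem exists_irr_ne_one {A : Type*} [Group A] [Finite A] (hne : Nontrivial A) :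
    ∃ θ : A → ℂ, Cfsg.IsIrrCharacter A θ ∧ θ ≠ fun _ => 1 := by
  classical
  have h1 := Cfsg.Agent.Lib.Helper80_CharComplete.card_irr_eq_card_conjClasses (G := A)
  have h2 : Nontrivial (ConjClasses A) := by
    obtain ⟨a, ha⟩ := exists_ne (1 : A)
    refine ⟨⟨ConjClasses.mk a, ConjClasses.mk 1, ?_⟩⟩
    intro h
    rw [ConjClasses.mk_eq_mk_iff_isConj, isConj_one_left] at h
    exact ha h
  have : Finite (Cfsg.IrrCharacter A) := Cfsg.Agent.Lib.Helper81_CharOrth.finite_irrCharacter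
  have h3 : Nontrivial (Cfsg.IrrCharacter A) := by
    rw [← Finite.one_lt_card_iff_nontrivial, h1, Finite.one_lt_card_iff_nontrivial]
    exact h2
  obtain ⟨θ, hθ⟩ := exists_ne (Cfsg.Agent.Lib.Helper80_CharBasic.oneIrr A)
  refine ⟨θ, θ.2, ?_⟩
  intro h
  apply hθ
  apply Subtype.ext
  rw [h]
  rfl

/-- deflation of a linear character trivial on `N` -/
theorem exists_deflation [Finite G] (N : Subgroup G) [N.Normal] {β : G → ℂ} (hβ : IsLin G β)
    (hN : ∀ n : N, β n = 1) :
    ∃ γ : Cfsg.IrrCharacter (G ⧸ N), infl N (γ : G ⧸ N → ℂ) = β := by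
  classical
  let f : G →* ℂ := Cfsg.Agent.Lib.Helper15_Linear.linearHom β hβ.1 hβ.2
  have hker : N ≤ f.ker := by
    intro n hn
    rw [MonoidHom.mem_ker]
    exact hN ⟨n, hn⟩
  let fbar : G ⧸ N →* ℂ := QuotientGroup.lift N f hker
  have hlin : IsLin (G ⧸ N) (fun y => fbar y) := isLin_of_hom fbar
  have : Fintype (G ⧸ N) := Fintype.ofFinite _
  refine ⟨⟨fun y => fbar y, hlin.irr⟩, ?_⟩
  funext g
  rfl

end basics

section main

variable {G : Type*} [Group G] [Fintype G] (p : ℕ) [hpF : Fact p.Prime] (N : Subgroup G)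
  [hN : N.Normal] [Fintype N]

omit hpF in
theorem res_invariant {χ : G → ℂ} (hχ : Cfsg.IsClassFunction G χ) (g : G) (n : N) :
    res N χ ⟨g * n * g⁻¹, hN.conj_mem (n : G) n.2 g⟩ = res N χ n := by
  rw [res_apply, res_apply]
  exact hχ n g

/-- **L1**: an irreducible character of degree prime to `p` restricts irreducibly to a normal
subgroup of `p`-power index. -/
theorem res_irr_of_not_dvd (k : ℕ) (hidx : N.index = p ^ k) {χ : G → ℂ}
    (hχ : Cfsg.IsIrrCharacter G χ) (hdeg : ¬ p ∣ Cfsg.charDegree χ) :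
    Cfsg.IsIrrCharacter N (res N χ) := by
  classical
  have hp : p.Prime := hpF.out
  obtain ⟨c, hc0, hc⟩ := Cfsg.Agent.Lib.Helper3_CharColumn.irr_one_eq_natCast hχ
  have hχc : Cfsg.IsCharacter G χ := isCharacter_of_isIrrCharacter hχ
  have hresc : Cfsg.IsCharacter N (res N χ) := isCharacter_res N hχc
  have h1 : res N χ 1 ≠ 0 := by
    rw [res_apply]
    simp only [OneMemClass.coe_one]
    rw [hc]
    exact_mod_cast hc0.ne'
  obtain ⟨θ, hθ, hover⟩ := Cfsg.Agent.S0857.exists_constituent hresc h1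
  obtain ⟨d, hd0, hd⟩ := Cfsg.Agent.Lib.Helper3_CharColumn.irr_one_eq_natCast hθ
  obtain ⟨e, he, hediv⟩ := Cfsg.Agent.Lib.Helper80_RelDegree.rel_degree_dvd N χ hχ θ hθ hover c d hc hd
  rw [Cfsg.Agent.Lib.Helper82_ItoMichler.charDegree_eq χ c hc] at hdeg
  have he1 : e = 1 := by
    rw [hidx] at hediv
    obtain ⟨j, -, rfl⟩ := (Nat.dvd_prime_pow hp).1 hediv
    rcases Nat.eq_zero_or_pos j with rfl | hj
    · rfl
    · exfalso
      apply hdeg
      rw [he]
      exact Dvd.dvd.mul_right (dvd_pow_self p hj.ne') d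
  rw [he1, one_mul] at he
  have h2 : Cfsg.IsCharacter N (res N χ - θ) :=
    Cfsg.Agent.Lib.Helper39_CharTools.isCharacter_sub_irr hresc hθ hover
  have h3 : (res N χ - θ) 1 = 0 := by
    rw [Pi.sub_apply, res_apply]
    simp only [OneMemClass.coe_one]
    rw [hc, hd, he, sub_self]
  have h4 := Cfsg.Agent.Lib.Helper39_CharTools.eq_zero_of_isCharacter_of_one_eq_zero h2 h3
  have h5 : res N χ = θ := sub_eq_zero.1 h4
  rw [h5]
  exact hθ

omit hpF in
/-- the inflated characters lie over the trivial character of `N` -/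
theorem infl_over_one (β : Cfsg.IrrCharacter (G ⧸ N)) :
    Cfsg.classInner (Cfsg.indFun N (fun _ : N => (1 : ℂ))) (infl N (β : G ⧸ N → ℂ)) ≠ 0 := by
  classical
  have hirr := infl_irr N β
  rw [Cfsg.Agent.Lib.Helper75_Induced.frobenius_reciprocity N _ _
    (isClassFunction_of_isIrrCharacter hirr)]
  have h1 : (fun h : N => infl N (β : G ⧸ N → ℂ) h) = (β : G ⧸ N → ℂ) 1 • fun _ : N => (1 : ℂ) := by
    funext n
    rw [infl_mem N _ n.2]
    simp
  rw [h1, ← Cfsg.Agent.Lib.Helper3_CharOrtho.classInner_conj_symm,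
    Cfsg.Agent.Lib.Helper3_CharOrtho.classInner_smul_left,
    Cfsg.Agent.Lib.Helper3_CharOrtho.classInner_self_of_isIrrCharacter
      (Cfsg.Agent.Lib.Helper80_CharBasic.isIrrCharacter_one N), mul_one]
  exact (map_ne_zero _).mpr (irr_one_ne_zero β.2)

omit hpF in
/-- Gallagher's bijection for a character restricting irreducibly to `N`. -/
theorem gallagher {χ : G → ℂ} (hχ : Cfsg.IsIrrCharacter G χ)
    (hres : Cfsg.IsIrrCharacter N (res N χ)) :
    Set.BijOn (fun β : G → ℂ => β * χ)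
      {β : G → ℂ | Cfsg.IsIrrCharacter G β ∧
        Cfsg.classInner (Cfsg.indFun N (fun _ : N => (1 : ℂ))) β ≠ 0}
      {ψ : G → ℂ | Cfsg.IsIrrCharacter G ψ ∧
        Cfsg.classInner (Cfsg.indFun N ((fun _ : N => (1 : ℂ)) * res N χ)) ψ ≠ 0} := by
  have hone : Cfsg.IsIrrCharacter N (fun _ : N => (1 : ℂ)) :=
    Cfsg.Agent.Lib.Helper80_CharBasic.isIrrCharacter_one N
  have hprodeq : (fun _ : N => (1 : ℂ)) * res N χ = res N χ := by
    funext n; simp
  exact Cfsg.Agent.S0856.result N (fun _ => 1) (res N χ) hone hres (fun _ _ => rfl)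
    (fun g n => res_invariant N (isClassFunction_of_isIrrCharacter hχ) g n)
    (by rw [hprodeq]; exact hres) χ hχ (fun _ => rfl)

omit hpF in
/-- **L2**: the linear characters of `G ⧸ N` act freely on the characters restricting irreducibly
to `N`. -/
theorem infl_eq_of_mul_eq {χ : G → ℂ} (hχ : Cfsg.IsIrrCharacter G χ)
    (hres : Cfsg.IsIrrCharacter N (res N χ)) (β γ : Cfsg.IrrCharacter (G ⧸ N))
    (h : infl N (β : G ⧸ N → ℂ) * χ = infl N (γ : G ⧸ N → ℂ) * χ) : β = γ := by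
  have hbij := gallagher N hχ hres
  have h1 := hbij.injOn ⟨infl_irr N β, infl_over_one N β⟩ ⟨infl_irr N γ, infl_over_one N γ⟩ h
  exact Subtype.ext (infl_injective N h1)

end main

section unique

variable {G : Type*} [Group G] [Fintype G] (p : ℕ) [hpF : Fact p.Prime] (N : Subgroup G)
  [hN : N.Normal] [Fintype N]

/-- In a finite group all of whose irreducible characters are linear, a non-identity element is
not in the kernel of all of them. -/
theorem exists_irr_apply_ne_one {A : Type*} [Group A] [Finite A]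
    (h : ∀ β : Cfsg.IrrCharacter A, (β : A → ℂ) 1 = 1) {a : A} (ha : a ≠ 1) :
    ∃ β : Cfsg.IrrCharacter A, (β : A → ℂ) a ≠ 1 := by
  classical
  have : Fintype A := Fintype.ofFinite A
  have : Finite (Cfsg.IrrCharacter A) := Cfsg.Agent.Lib.Helper81_CharOrth.finite_irrCharacter
  have : Fintype (Cfsg.IrrCharacter A) := Fintype.ofFinite _
  by_contra hcon
  push Not at hcon
  have h1 := Cfsg.Agent.Lib.Helper80_CharComplete.second_orthogonality_sum a (1 : A)
  rw [if_neg (by rw [isConj_one_left]; exact ha)] at h1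
  have h2 : ∀ β : Cfsg.IrrCharacter A,
      (β : A → ℂ) a * (starRingEnd ℂ) ((β : A → ℂ) 1) = 1 := by
    intro β
    rw [hcon β, h β]
    simp
  rw [Finset.sum_congr rfl (fun β _ => h2 β), Finset.sum_const, Finset.card_univ] at h1
  have h3 : (Fintype.card (Cfsg.IrrCharacter A) : ℂ) = 0 := by simpa using h1
  have h4 : Fintype.card (Cfsg.IrrCharacter A) = 0 := by exact_mod_cast h3
  exact (Fintype.card_eq_zero_iff.1 h4).false (Cfsg.Agent.Lib.Helper80_CharBasic.oneIrr A)

variable (k : ℕ) (hidx : N.index = p ^ k) (χ₀ : Cfsg.IrrCharacter G)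
  (h₀ : p ∣ Cfsg.charDegree (χ₀ : G → ℂ))
  (huniq : ∀ χ : Cfsg.IrrCharacter G, p ∣ Cfsg.charDegree (χ : G → ℂ) → χ = χ₀)

include hidx h₀ huniq in
/-- **L3**: all irreducible characters of `G ⧸ N` are linear. -/
theorem quotient_linear (hNnt : Nontrivial N) (β : Cfsg.IrrCharacter (G ⧸ N)) :
    (β : G ⧸ N → ℂ) 1 = 1 := by
  classical
  have hp : p.Prime := hpF.out
  by_contra hβ1
  have hd := Cfsg.Agent.Lib.Helper77_BlockBasics.apply_one_eq_charDegree β
  have hdvd := Cfsg.Agent.Lib.Helper77_BlockBasics.charDegree_dvd_card β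
  rw [← Subgroup.index_eq_card, hidx] at hdvd
  obtain ⟨j, -, hj⟩ := (Nat.dvd_prime_pow hp).1 hdvd
  have hpd : p ∣ Cfsg.charDegree (β : G ⧸ N → ℂ) := by
    rw [hj]
    apply dvd_pow_self
    rintro rfl
    apply hβ1
    rw [hd, hj, pow_zero, Nat.cast_one]
  have hβ0 : (β : G ⧸ N → ℂ) 1 ≠ 0 := irr_one_ne_zero β.2
  -- `χ₀` is inflated from `β`
  have hχ₀ : χ₀ = ⟨infl N (β : G ⧸ N → ℂ), infl_irr N β⟩ := by
    symm
    apply huniq
    rw [charDegree_congr (infl_one N (β : G ⧸ N → ℂ))]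
    exact hpd
  obtain ⟨θ, hθ, hθne⟩ := exists_irr_ne_one hNnt
  have horth : Cfsg.classInner (fun _ : N => (1 : ℂ)) θ = 0 :=
    Cfsg.Agent.Lib.Helper3_CharOrtho.classInner_of_isIrrCharacter_of_ne
      (Cfsg.Agent.Lib.Helper80_CharBasic.isIrrCharacter_one N) hθ (Ne.symm hθne)
  obtain ⟨χ, hχ, hover⟩ := Cfsg.Agent.Lib.Helper59_CliffordDeg.exists_irr_over N hθ
  have hne : (⟨χ, hχ⟩ : Cfsg.IrrCharacter G) ≠ χ₀ := by
    intro h
    apply hover
    have h1 : χ = infl N (β : G ⧸ N → ℂ) := by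
      have := congrArg Subtype.val (h.trans hχ₀)
      exact this
    have h2 : res N χ = (β : G ⧸ N → ℂ) 1 • fun _ : N => (1 : ℂ) := by
      funext n
      rw [res_apply, h1, infl_mem N _ n.2]
      simp
    rw [h2, Cfsg.Agent.Lib.Helper3_CharOrtho.classInner_smul_left, horth, mul_zero]
  have hdeg : ¬ p ∣ Cfsg.charDegree χ := fun h => hne (huniq ⟨χ, hχ⟩ h)
  have hres := res_irr_of_not_dvd p N k hidx hχ hdeg
  have hmul : Cfsg.IsIrrCharacter G (infl N (β : G ⧸ N → ℂ) * χ) :=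
    ((gallagher N hχ hres).mapsTo ⟨infl_irr N β, infl_over_one N β⟩).1
  obtain ⟨c, hc0, hc⟩ := Cfsg.Agent.Lib.Helper3_CharColumn.irr_one_eq_natCast hχ
  have h3 : (infl N (β : G ⧸ N → ℂ) * χ) 1 =
      ((Cfsg.charDegree (β : G ⧸ N → ℂ) * c : ℕ) : ℂ) := by
    rw [Pi.mul_apply, infl_one, hd, hc]
    push_cast
    ring
  have h4 : (⟨infl N (β : G ⧸ N → ℂ) * χ, hmul⟩ : Cfsg.IrrCharacter G) = χ₀ := by
    apply huniq
    rw [Cfsg.Agent.Lib.Helper82_ItoMichler.charDegree_eq _ _ h3]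
    exact Dvd.dvd.mul_right hpd c
  have h5 : infl N (β : G ⧸ N → ℂ) * χ = infl N (β : G ⧸ N → ℂ) := by
    have := congrArg Subtype.val (h4.trans hχ₀)
    exact this
  have h6 : res N χ = fun _ : N => (1 : ℂ) := by
    funext n
    have h7 := congrFun h5 (n : G)
    rw [Pi.mul_apply, infl_mem N _ n.2] at h7
    rw [res_apply]
    have h8 : (β : G ⧸ N → ℂ) 1 * (χ n - 1) = 0 := by
      rw [mul_sub, h7, mul_one, sub_self]
    rcases mul_eq_zero.1 h8 with h9 | h9
    · exact absurd h9 hβ0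
    · exact sub_eq_zero.1 h9
  apply hover
  rw [h6]
  exact horth

include hidx h₀ huniq in
/-- **L4**: `G ⧸ N` is commutative. -/
theorem quotient_comm (hNnt : Nontrivial N) (a b : G ⧸ N) : a * b = b * a :=
  Cfsg.Agent.Lib.Helper59_CliffordDeg.commute_of_all_linear
    (quotient_linear p N k hidx χ₀ h₀ huniq hNnt) a b

include hidx h₀ huniq in
/-- multiplication by an inflated character fixes `χ₀` -/
theorem infl_mul_chi0 (hNnt : Nontrivial N) (β : Cfsg.IrrCharacter (G ⧸ N)) :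
    infl N (β : G ⧸ N → ℂ) * (χ₀ : G → ℂ) = (χ₀ : G → ℂ) := by
  have hβ1 := quotient_linear p N k hidx χ₀ h₀ huniq hNnt β
  have hlin : IsLin G (infl N (β : G ⧸ N → ℂ)) :=
    ⟨isCharacter_of_isIrrCharacter (infl_irr N β), by rw [infl_one, hβ1]⟩
  have hirr := hlin.mul_irr χ₀.2
  have h1 : (infl N (β : G ⧸ N → ℂ) * (χ₀ : G → ℂ)) 1 = (χ₀ : G → ℂ) 1 := by
    rw [Pi.mul_apply, hlin.2, one_mul]
  have h2 : (⟨_, hirr⟩ : Cfsg.IrrCharacter G) = χ₀ := by
    apply huniq
    rw [charDegree_congr h1]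
    exact h₀
  exact congrArg Subtype.val h2

include hidx h₀ huniq in
/-- **L5**: `χ₀` vanishes outside `N`. -/
theorem chi0_vanish (hNnt : Nontrivial N) {g : G} (hg : g ∉ N) : (χ₀ : G → ℂ) g = 0 := by
  have hlinear := quotient_linear p N k hidx χ₀ h₀ huniq hNnt
  have hne : (QuotientGroup.mk' N g) ≠ 1 := by
    rw [QuotientGroup.mk'_apply, Ne, QuotientGroup.eq_one_iff]
    exact hg
  obtain ⟨β, hβ⟩ := exists_irr_apply_ne_one hlinear hne
  have h1 := congrFun (infl_mul_chi0 p N k hidx χ₀ h₀ huniq hNnt β) g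
  rw [Pi.mul_apply, infl_apply] at h1
  have h2 : ((β : G ⧸ N → ℂ) (QuotientGroup.mk' N g) - 1) * (χ₀ : G → ℂ) g = 0 := by
    rw [sub_mul, h1, one_mul, sub_self]
  rcases mul_eq_zero.1 h2 with h3 | h3
  · exact absurd (sub_eq_zero.1 h3) hβ
  · exact h3

end unique

section divis

variable {G : Type*} [Group G] [Fintype G] (p : ℕ) [hpF : Fact p.Prime] (N : Subgroup G)
  [hN : N.Normal] [Fintype N]
  (k : ℕ) (hidx : N.index = p ^ k) (χ₀ : Cfsg.IrrCharacter G)
  (h₀ : p ∣ Cfsg.charDegree (χ₀ : G → ℂ))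
  (huniq : ∀ χ : Cfsg.IrrCharacter G, p ∣ Cfsg.charDegree (χ : G → ℂ) → χ = χ₀)

include hidx h₀ huniq in
/-- twisting a character different from `χ₀` by an inflated character -/
theorem twist_spec (hNnt : Nontrivial N) (a : Cfsg.IrrCharacter G) (ha : a ≠ χ₀)
    (β : Cfsg.IrrCharacter (G ⧸ N)) :
    ∃ b : Cfsg.IrrCharacter G, (b : G → ℂ) = infl N (β : G ⧸ N → ℂ) * (a : G → ℂ) ∧ b ≠ χ₀ ∧
      res N (b : G → ℂ) = res N (a : G → ℂ) ∧
      ∀ g : G, (b : G → ℂ) g * conj ((b : G → ℂ) g) = (a : G → ℂ) g * conj ((a : G → ℂ) g) := by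
  have hβ1 := quotient_linear p N k hidx χ₀ h₀ huniq hNnt β
  have hlin : IsLin G (infl N (β : G ⧸ N → ℂ)) :=
    ⟨isCharacter_of_isIrrCharacter (infl_irr N β), by rw [infl_one, hβ1]⟩
  have hirr := hlin.mul_irr a.2
  refine ⟨⟨_, hirr⟩, rfl, ?_, ?_, ?_⟩
  · intro h
    apply ha
    apply huniq
    have h1 : (infl N (β : G ⧸ N → ℂ) * (a : G → ℂ)) 1 = (a : G → ℂ) 1 := by
      rw [Pi.mul_apply, hlin.2, one_mul]
    rw [← charDegree_congr h1]
    have := h₀
    rw [← h] at this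
    exact this
  · funext n
    rw [res_apply, res_apply]
    show (infl N (β : G ⧸ N → ℂ) * (a : G → ℂ)) n = _
    rw [Pi.mul_apply, infl_mem N _ n.2, hβ1, one_mul]
  · intro g
    show (infl N (β : G ⧸ N → ℂ) * (a : G → ℂ)) g *
      conj ((infl N (β : G ⧸ N → ℂ) * (a : G → ℂ)) g) = _
    rw [Pi.mul_apply, map_mul]
    have := hlin.mul_conj g
    calc infl N (β : G ⧸ N → ℂ) g * (a : G → ℂ) g *
          (conj (infl N (β : G ⧸ N → ℂ) g) * conj ((a : G → ℂ) g))
        = (infl N (β : G ⧸ N → ℂ) g * conj (infl N (β : G ⧸ N → ℂ) g)) *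
          ((a : G → ℂ) g * conj ((a : G → ℂ) g)) := by ring
      _ = _ := by rw [this, one_mul]

include hidx h₀ huniq in
/-- the sum of `|χ(g)|²` over the fibre of restriction to `N` through `a ≠ χ₀` -/
theorem fibre_sum [Fintype (Cfsg.IrrCharacter G)] [DecidableEq (Cfsg.IrrCharacter G)]
    [DecidableEq (N → ℂ)] (hNnt : Nontrivial N) (a : Cfsg.IrrCharacter G) (ha : a ≠ χ₀) (g : G) :
    ∑ χ ∈ (Finset.univ.filter (fun χ : Cfsg.IrrCharacter G => χ ≠ χ₀)).filter
        (fun χ : Cfsg.IrrCharacter G => res N (χ : G → ℂ) = res N (a : G → ℂ)),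
      (χ : G → ℂ) g * conj ((χ : G → ℂ) g) =
    (p : ℂ) ^ k * ((a : G → ℂ) g * conj ((a : G → ℂ) g)) := by
  classical
  have : Fintype (G ⧸ N) := Fintype.ofFinite _
  choose Φ hΦ using twist_spec p N k hidx χ₀ h₀ huniq hNnt a ha
  have hadeg : ¬ p ∣ Cfsg.charDegree (a : G → ℂ) := fun h => ha (huniq a h)
  have hares := res_irr_of_not_dvd p N k hidx a.2 hadeg
  have hinj : Function.Injective Φ := by
    intro β γ h
    apply infl_eq_of_mul_eq N a.2 hares β γ
    rw [← (hΦ β).1, ← (hΦ γ).1, h]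
  have himg : (Finset.univ.filter (fun χ : Cfsg.IrrCharacter G => χ ≠ χ₀)).filter
        (fun χ : Cfsg.IrrCharacter G => res N (χ : G → ℂ) = res N (a : G → ℂ)) = Finset.univ.image Φ := by
    ext χ
    simp only [Finset.mem_filter, Finset.mem_univ, true_and, Finset.mem_image]
    constructor
    · rintro ⟨hχne, hχres⟩
      obtain ⟨β', hβ'lin, hβ'N, hβ'eq⟩ :=
        Cfsg.Agent.Lib.Helper75_Gallagher.exists_lin_of_extensions N a.2 χ.2 hares
          (fun n => congrFun hχres n)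
      obtain ⟨γ, hγ⟩ := exists_deflation N hβ'lin hβ'N
      refine ⟨γ, ?_⟩
      apply Subtype.ext
      rw [(hΦ γ).1, hγ, hβ'eq]
    · rintro ⟨β, rfl⟩
      exact ⟨(hΦ β).2.1, (hΦ β).2.2.1⟩
  rw [himg, Finset.sum_image (fun β _ γ _ h => hinj h)]
  rw [Finset.sum_congr rfl (fun β _ => (hΦ β).2.2.2 g), Finset.sum_const, Finset.card_univ,
    nsmul_eq_mul]
  congr 1
  have hcomm := quotient_comm p N k hidx χ₀ h₀ huniq hNnt
  rw [Cfsg.Agent.Lib.Helper17_TIPrime.card_irr_of_comm hcomm, ← Subgroup.index_eq_card, hidx]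
  push_cast
  rfl

include hidx h₀ huniq in
/-- **L6**: for `g ∉ N`, `p ^ k` divides the order of the centralizer of `g`. -/
theorem pow_dvd_card_centralizer (hNnt : Nontrivial N) {g : G} (hg : g ∉ N) :
    p ^ k ∣ Nat.card (Subgroup.centralizer ({g} : Set G)) := by
  classical
  have : Finite (Cfsg.IrrCharacter G) := Cfsg.Agent.Lib.Helper81_CharOrth.finite_irrCharacter
  have : Fintype (Cfsg.IrrCharacter G) := Fintype.ofFinite _
  have hp : p.Prime := hpF.out
  have h1 := Cfsg.Agent.Lib.Helper80_CharComplete.second_orthogonality_sum g g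
  rw [if_pos (IsConj.refl g)] at h1
  set F : Cfsg.IrrCharacter G → ℂ := fun χ => (χ : G → ℂ) g * conj ((χ : G → ℂ) g) with hF
  have hFint : ∀ χ, IsIntegral ℤ (F χ) := by
    intro χ
    apply IsIntegral.mul (Cfsg.Agent.Lib.Helper79_RealOdd.irr_isIntegral χ g)
    have := Cfsg.Agent.Lib.Helper79_RealOdd.irr_isIntegral χ g
    exact this.map (Complex.conjAe.toAlgHom.restrictScalars ℤ)
  set s := Finset.univ.filter (fun χ : Cfsg.IrrCharacter G => χ ≠ χ₀) with hs
  have h2 : ∑ χ : Cfsg.IrrCharacter G, F χ = ∑ χ ∈ s, F χ := by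
    rw [hs, Finset.sum_filter]
    apply Finset.sum_congr rfl
    intro χ _
    by_cases h : χ = χ₀
    · rw [if_neg (not_not.2 h), h, hF]
      simp only
      rw [chi0_vanish p N k hidx χ₀ h₀ huniq hNnt hg, zero_mul]
    · rw [if_pos h]
  have h3 := Finset.sum_fiberwise_of_maps_to
    (s := s) (t := s.image (fun χ : Cfsg.IrrCharacter G => res N (χ : G → ℂ)))
    (g := fun χ : Cfsg.IrrCharacter G => res N (χ : G → ℂ))
    (fun χ hχ => Finset.mem_image_of_mem _ hχ) F
  -- choose representatives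
  have hrep : ∀ y ∈ s.image (fun χ : Cfsg.IrrCharacter G => res N (χ : G → ℂ)),
      ∃ z : ℂ, IsIntegral ℤ z ∧
        ∑ χ ∈ s.filter (fun χ : Cfsg.IrrCharacter G => res N (χ : G → ℂ) = y), F χ = (p : ℂ) ^ k * z := by
    intro y hy
    obtain ⟨a, has, rfl⟩ := Finset.mem_image.1 hy
    have ha : a ≠ χ₀ := (Finset.mem_filter.1 has).2
    exact ⟨F a, hFint a, fibre_sum p N k hidx χ₀ h₀ huniq hNnt a ha g⟩
  have hsum : ∃ z : ℂ, IsIntegral ℤ z ∧
      ∑ y ∈ s.image (fun χ : Cfsg.IrrCharacter G => res N (χ : G → ℂ)),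
        ∑ χ ∈ s.filter (fun χ : Cfsg.IrrCharacter G => res N (χ : G → ℂ) = y), F χ = (p : ℂ) ^ k * z := by
    generalize s.image (fun χ : Cfsg.IrrCharacter G => res N (χ : G → ℂ)) = t at hrep
    induction t using Finset.induction_on with
    | empty => exact ⟨0, isIntegral_zero, by simp⟩
    | insert y t hyt ih =>
      obtain ⟨z1, hz1, he1⟩ := hrep y (Finset.mem_insert_self y t)
      obtain ⟨z2, hz2, he2⟩ := ih (fun y' hy' => hrep y' (Finset.mem_insert_of_mem hy'))
      refine ⟨z1 + z2, hz1.add hz2, ?_⟩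
      rw [Finset.sum_insert hyt, he1, he2, mul_add]
  obtain ⟨z, hz, hez⟩ := hsum
  rw [h3, ← h2, h1] at hez
  -- `z` is rational, hence an integer
  have hpk : ((p : ℂ) ^ k) ≠ 0 := pow_ne_zero _ (Nat.cast_ne_zero.2 hp.ne_zero)
  have hzq : z = ((Nat.card (Subgroup.centralizer ({g} : Set G)) : ℚ) / (p ^ k : ℚ) : ℚ) := by
    push_cast
    rw [hez]
    field_simp
  have hzq' : IsIntegral ℤ ((Nat.card (Subgroup.centralizer ({g} : Set G)) : ℚ) / (p ^ k : ℚ)) := by
    rw [hzq] at hz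
    exact (isIntegral_algebraMap_iff (algebraMap ℚ ℂ).injective).1 hz
  obtain ⟨m, hm⟩ := IsIntegrallyClosed.isIntegral_iff.1 hzq'
  have hpkq : ((p : ℚ) ^ k) ≠ 0 := pow_ne_zero _ (Nat.cast_ne_zero.2 hp.ne_zero)
  have h4 : (Nat.card (Subgroup.centralizer ({g} : Set G)) : ℚ) = (p ^ k : ℚ) * (m : ℚ) := by
    have : (algebraMap ℤ ℚ m : ℚ) = (m : ℚ) := rfl
    rw [this] at hm
    rw [hm]
    field_simp
  have h5 : (Nat.card (Subgroup.centralizer ({g} : Set G)) : ℤ) = (p ^ k : ℤ) * m := by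
    exact_mod_cast h4
  have h6 : ((p ^ k : ℕ) : ℤ) ∣ (Nat.card (Subgroup.centralizer ({g} : Set G)) : ℤ) :=
    ⟨m, by rw [h5]; push_cast; ring⟩
  exact Int.natCast_dvd_natCast.1 h6

end divis

section fourier

variable {G : Type*} [Group G] [Fintype G] (p : ℕ) [hpF : Fact p.Prime] (N : Subgroup G)
  [hN : N.Normal] [Fintype N]
  (k : ℕ) (hidx : N.index = p ^ k) (χ₀ : Cfsg.IrrCharacter G)
  (h₀ : p ∣ Cfsg.charDegree (χ₀ : G → ℂ))
  (huniq : ∀ χ : Cfsg.IrrCharacter G, p ∣ Cfsg.charDegree (χ : G → ℂ) → χ = χ₀)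

/-- the order of the centralizer, as a complex number -/
noncomputable def cent (g : G) : ℂ := (Nat.card (Subgroup.centralizer ({g} : Set G)) : ℂ)

/-- the sum of the centralizer orders over a coset of `N` -/
noncomputable def cosetSum (q : G ⧸ N) : ℂ :=
  haveI := Classical.decEq (G ⧸ N)
  ∑ g : G, if QuotientGroup.mk' N g = q then cent g else 0

include hidx h₀ huniq in
/-- **K1/K2**: the twisted sum of centralizer orders. -/
theorem twisted_sum [Fintype (Cfsg.IrrCharacter G)]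
    [DecidableEq (Cfsg.IrrCharacter (G ⧸ N))] (hNnt : Nontrivial N)
    (β : Cfsg.IrrCharacter (G ⧸ N)) :
    ∑ g : G, (β : G ⧸ N → ℂ) (QuotientGroup.mk' N g) * cent g =
      (Nat.card G : ℂ) * (if β = Cfsg.Agent.Lib.Helper80_CharBasic.oneIrr (G ⧸ N)
        then (Fintype.card (Cfsg.IrrCharacter G) : ℂ) else 1) := by
  classical
  have hcard : (Nat.card G : ℂ) ≠ 0 := by exact_mod_cast Nat.card_pos.ne'
  have hβ1 := quotient_linear p N k hidx χ₀ h₀ huniq hNnt β
  have hlin : IsLin G (infl N (β : G ⧸ N → ℂ)) :=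
    ⟨isCharacter_of_isIrrCharacter (infl_irr N β), by rw [infl_one, hβ1]⟩
  have h1 : ∀ g : G, cent g = ∑ χ : Cfsg.IrrCharacter G, (χ : G → ℂ) g * conj ((χ : G → ℂ) g) := by
    intro g
    rw [Cfsg.Agent.Lib.Helper80_CharComplete.second_orthogonality_sum g g,
      if_pos (IsConj.refl g)]
    rfl
  have h2 : ∀ χ : Cfsg.IrrCharacter G,
      ∑ g : G, (infl N (β : G ⧸ N → ℂ) * (χ : G → ℂ)) g * conj ((χ : G → ℂ) g) =
        (Nat.card G : ℂ) * (if infl N (β : G ⧸ N → ℂ) * (χ : G → ℂ) = (χ : G → ℂ) then 1 else 0) := by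
    intro χ
    have hirr := hlin.mul_irr χ.2
    have h3 : Cfsg.classInner (infl N (β : G ⧸ N → ℂ) * (χ : G → ℂ)) (χ : G → ℂ) =
        if infl N (β : G ⧸ N → ℂ) * (χ : G → ℂ) = (χ : G → ℂ) then 1 else 0 := by
      by_cases h : infl N (β : G ⧸ N → ℂ) * (χ : G → ℂ) = (χ : G → ℂ)
      · rw [if_pos h, h, Cfsg.Agent.Lib.Helper3_CharOrtho.classInner_self_of_isIrrCharacter χ.2]
      · rw [if_neg h, Cfsg.Agent.Lib.Helper3_CharOrtho.classInner_of_isIrrCharacter_of_ne hirr χ.2 h]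
    rw [← h3]
    unfold Cfsg.classInner
    rw [← mul_assoc, mul_inv_cancel₀ hcard, one_mul]
  calc ∑ g : G, (β : G ⧸ N → ℂ) (QuotientGroup.mk' N g) * cent g
      = ∑ g : G, ∑ χ : Cfsg.IrrCharacter G,
          (infl N (β : G ⧸ N → ℂ) * (χ : G → ℂ)) g * conj ((χ : G → ℂ) g) := by
        apply Finset.sum_congr rfl
        intro g _
        rw [h1 g, Finset.mul_sum]
        apply Finset.sum_congr rfl
        intro χ _
        rw [Pi.mul_apply, infl_apply, mul_assoc]
    _ = ∑ χ : Cfsg.IrrCharacter G, (Nat.card G : ℂ) *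
          (if infl N (β : G ⧸ N → ℂ) * (χ : G → ℂ) = (χ : G → ℂ) then 1 else 0) := by
        rw [Finset.sum_comm]
        exact Finset.sum_congr rfl (fun χ _ => h2 χ)
    _ = _ := by
        rw [← Finset.mul_sum]
        congr 1
        by_cases hβ : β = Cfsg.Agent.Lib.Helper80_CharBasic.oneIrr (G ⧸ N)
        · rw [if_pos hβ]
          have : ∀ χ : Cfsg.IrrCharacter G, infl N (β : G ⧸ N → ℂ) * (χ : G → ℂ) = (χ : G → ℂ) := by
            intro χ
            funext g
            rw [Pi.mul_apply, infl_apply, hβ]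
            show (1 : ℂ) * _ = _
            rw [one_mul]
          rw [Finset.sum_congr rfl (fun χ _ => if_pos (this χ))]
          simp
        · rw [if_neg hβ]
          have hfix : ∀ χ : Cfsg.IrrCharacter G,
              infl N (β : G ⧸ N → ℂ) * (χ : G → ℂ) = (χ : G → ℂ) ↔ χ = χ₀ := by
            intro χ
            constructor
            · intro h
              by_contra hne
              have hdeg : ¬ p ∣ Cfsg.charDegree (χ : G → ℂ) := fun hd => hne (huniq χ hd)
              have hres := res_irr_of_not_dvd p N k hidx χ.2 hdeg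
              apply hβ
              apply infl_eq_of_mul_eq N χ.2 hres
              rw [h]
              funext g
              rw [Pi.mul_apply, infl_apply]
              show _ = (1 : ℂ) * _
              rw [one_mul]
            · rintro rfl
              exact infl_mul_chi0 p N k hidx χ h₀ huniq hNnt β
          rw [Finset.sum_congr rfl (fun χ _ => if_congr (hfix χ) rfl rfl)]
          simp

/-- column orthogonality in a commutative finite group -/
theorem col_orth_comm {Q : Type*} [Group Q] [Fintype Q] [DecidableEq Q]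
    (hcomm : ∀ a b : Q, a * b = b * a) (a b : Q) :
    ∑ β : Cfsg.IrrCharacter Q, (β : Q → ℂ) a * conj ((β : Q → ℂ) b) =
      if a = b then (Nat.card Q : ℂ) else 0 := by
  classical
  rw [Cfsg.Agent.Lib.Helper80_CharComplete.second_orthogonality_sum a b]
  have h1 : IsConj a b ↔ a = b := by
    constructor
    · intro h
      obtain ⟨c, hc⟩ := isConj_iff.1 h
      rw [← hc, hcomm c a, mul_assoc, mul_inv_cancel, mul_one]
    · rintro rfl
      exact IsConj.refl a
  have h2 : Subgroup.centralizer ({a} : Set Q) = ⊤ := by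
    rw [eq_top_iff]
    intro c _
    rw [Subgroup.mem_centralizer_iff]
    intro y hy
    rw [Set.mem_singleton_iff] at hy
    rw [hy]
    exact hcomm a c
  by_cases h : a = b
  · rw [if_pos h, if_pos (h1.2 h), h2, Subgroup.card_top]
  · rw [if_neg h, if_neg (fun h' => h (h1.1 h'))]

include hidx h₀ huniq in
/-- **L7**: the sum of the centralizer orders over `N` exceeds the sum over any other coset by
`|G|`. -/
theorem cosetSum_one (hNnt : Nontrivial N) {x : G} (hx : x ∉ N) :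
    cosetSum N (1 : G ⧸ N) = cosetSum N (QuotientGroup.mk' N x) + (Nat.card G : ℂ) := by
  classical
  have : Finite (Cfsg.IrrCharacter G) := Cfsg.Agent.Lib.Helper81_CharOrth.finite_irrCharacter
  have : Fintype (Cfsg.IrrCharacter G) := Fintype.ofFinite _
  have : Fintype (G ⧸ N) := Fintype.ofFinite _
  have hcomm := quotient_comm p N k hidx χ₀ h₀ huniq hNnt
  have hlinear := quotient_linear p N k hidx χ₀ h₀ huniq hNnt
  have hQ : (Nat.card (G ⧸ N) : ℂ) ≠ 0 := by exact_mod_cast Nat.card_pos.ne'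
  set kG : ℂ := (Fintype.card (Cfsg.IrrCharacter G) : ℂ) with hkG
  -- the inversion formula
  have key : ∀ q₀ : G ⧸ N, (Nat.card (G ⧸ N) : ℂ) * cosetSum N q₀ =
      (Nat.card G : ℂ) * (if (1 : G ⧸ N) = q₀ then (Nat.card (G ⧸ N) : ℂ) else 0) +
        (Nat.card G : ℂ) * (kG - 1) := by
    intro q₀
    have h1 : ∑ β : Cfsg.IrrCharacter (G ⧸ N), conj ((β : G ⧸ N → ℂ) q₀) *
        ∑ g : G, (β : G ⧸ N → ℂ) (QuotientGroup.mk' N g) * cent g =
        (Nat.card (G ⧸ N) : ℂ) * cosetSum N q₀ := by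
      simp_rw [Finset.mul_sum]
      rw [Finset.sum_comm]
      unfold cosetSum
      rw [Finset.mul_sum]
      apply Finset.sum_congr rfl
      intro g _
      have h2 := col_orth_comm hcomm (QuotientGroup.mk' N g) q₀
      have h3 : ∑ β : Cfsg.IrrCharacter (G ⧸ N), conj ((β : G ⧸ N → ℂ) q₀) *
          ((β : G ⧸ N → ℂ) (QuotientGroup.mk' N g) * cent g) =
          (∑ β : Cfsg.IrrCharacter (G ⧸ N), (β : G ⧸ N → ℂ) (QuotientGroup.mk' N g) *
            conj ((β : G ⧸ N → ℂ) q₀)) * cent g := by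
        rw [Finset.sum_mul]
        apply Finset.sum_congr rfl
        intro β _
        ring
      rw [h3, h2]
      by_cases h : QuotientGroup.mk' N g = q₀
      · rw [if_pos h, if_pos h]
      · rw [if_neg h, if_neg h, zero_mul, mul_zero]
    rw [← h1]
    simp_rw [twisted_sum p N k hidx χ₀ h₀ huniq hNnt]
    have h4 : ∀ β : Cfsg.IrrCharacter (G ⧸ N),
        conj ((β : G ⧸ N → ℂ) q₀) * ((Nat.card G : ℂ) *
          (if β = Cfsg.Agent.Lib.Helper80_CharBasic.oneIrr (G ⧸ N) then kG else 1)) =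
        (Nat.card G : ℂ) * ((β : G ⧸ N → ℂ) 1 * conj ((β : G ⧸ N → ℂ) q₀)) +
          (if β = Cfsg.Agent.Lib.Helper80_CharBasic.oneIrr (G ⧸ N) then
            (Nat.card G : ℂ) * (kG - 1) else 0) := by
      intro β
      rw [hlinear β, one_mul]
      by_cases h : β = Cfsg.Agent.Lib.Helper80_CharBasic.oneIrr (G ⧸ N)
      · rw [if_pos h, if_pos h]
        have : (β : G ⧸ N → ℂ) q₀ = 1 := by rw [h]; rfl
        rw [this, map_one]
        ring
      · rw [if_neg h, if_neg h]
        ring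
    rw [Finset.sum_congr rfl (fun β _ => h4 β), Finset.sum_add_distrib, ← Finset.mul_sum,
      col_orth_comm hcomm (1 : G ⧸ N) q₀, Finset.sum_ite_eq' Finset.univ, if_pos (Finset.mem_univ _)]
  have hne : (1 : G ⧸ N) ≠ QuotientGroup.mk' N x := by
    intro h
    apply hx
    rw [← QuotientGroup.eq_one_iff]
    exact h.symm
  have k1 := key 1
  have k2 := key (QuotientGroup.mk' N x)
  rw [if_pos rfl] at k1
  rw [if_neg hne, mul_zero, zero_add] at k2
  have h5 : (Nat.card (G ⧸ N) : ℂ) * cosetSum N (1 : G ⧸ N) =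
      (Nat.card (G ⧸ N) : ℂ) * (cosetSum N (QuotientGroup.mk' N x) + (Nat.card G : ℂ)) := by
    rw [k1, mul_add, k2]
    ring
  exact mul_left_cancel₀ hQ h5

end fourier

end Cfsg.Agent.Lib.Helper79_UniqueSingular
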