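import Mathlib
import Cfsg.Prelude.Def_Characters
import Cfsg.Prelude.Def_OddOrderChar
import Cfsg.Prelude.Def_OddOrderLocal
import Cfsg.Agent.Lib.Helper17_CohSys
import Cfsg.Agent.Lib.Helper17_CohExt
import Cfsg.Agent.Lib.Helper16_CohBasic
import Cfsg.Agent.Lib.Helper16_CohCount
import Cfsg.Agent.Lib.Helper16_CohDescent
import Cfsg.Agent.Lib.Helper16_CohExtend
import Cfsg.Agent.Lib.Helper16_CohExtend2
import Cfsg.Agent.Lib.Helper16_CohSub
import Cfsg.Agent.Lib.Helper16_CohIrr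
import Cfsg.Agent.Lib.Helper16_CohPGroup
import Cfsg.Agent.Lib.Helper16_CohSmall
import Cfsg.Agent.Lib.Helper16_SibleyDiv
import Cfsg.Agent.Lib.Helper16_FrobGroup
import Cfsg.Agent.Lib.Helper25_FrobTI
import Cfsg.Agent.Lib.Helper25_FrobSemi
import Cfsg.Agent.Lib.Helper79_UniqueSingular
import Cfsg.Agent.Lib.Helper3_CharBridge
import Cfsg.Agent.Lib.Helper32_PGroup
import Cfsg.Agent.S1514
import Cfsg.Agent.S1521
import Cfsg.Agent.S1522

/-!
# Sibley's coherence theorem, Frobenius case (helper16)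

Peterfalvi (6.8) for a TI subgroup whose normalizer is a Frobenius group of odd order with the
subgroup as kernel.

* `sibley_pgroup`: the case of a non-abelian `p`-group `P` (a Sylow subgroup of `G`);
* `sibley_frobenius`: the general nilpotent case.
-/

set_option autoImplicit false

namespace Cfsg.Agent.Lib.Helper16_SibleyMain

open scoped ComplexConjugate
open Cfsg.Agent.Lib.Helper3_CharOrtho Cfsg.Agent.Lib.Helper75_CharArith
  Cfsg.Agent.Lib.Helper17_CohSys Cfsg.Agent.Lib.Helper17_CohExt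
  Cfsg.Agent.Lib.Helper75_Induced Cfsg.Agent.Lib.Helper3_CharBridge
  Cfsg.Agent.Lib.Helper3_CharComplete Cfsg.Agent.Lib.Helper16_CohBasic
  Cfsg.Agent.Lib.Helper16_CohCount Cfsg.Agent.Lib.Helper16_CohDescent
  Cfsg.Agent.Lib.Helper16_CohExtend Cfsg.Agent.Lib.Helper16_CohExtend2
  Cfsg.Agent.Lib.Helper16_CohSub Cfsg.Agent.Lib.Helper16_CohIrr
  Cfsg.Agent.Lib.Helper16_CohPGroup Cfsg.Agent.Lib.Helper16_CohSmall
  Cfsg.Agent.Lib.Helper16_SibleyDiv Cfsg.Agent.Lib.Helper16_FrobGroup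

section PGroup

variable {G : Type*} [Group G] [Fintype G] (p : ℕ) [hp : Fact p.Prime] (P : Sylow p G)
  (N : Subgroup G) [Fintype ↥N] (K : Subgroup ↥N) [hKn : K.Normal]

/-- **Sibley's theorem** for a non-abelian TI Sylow subgroup with a Frobenius normalizer of odd
order. -/
theorem sibley_pgroup (hN : Subgroup.normalizer ((P : Subgroup G) : Set G) = N)
    (hK : (P : Subgroup G).subgroupOf N = K)
    (hTI : Cfsg.IsTISubset ((P : Subgroup G) : Set G)) (hodd : Odd (Nat.card ↥N))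
    (hfrob : ∀ k ∈ K, k ≠ 1 → ∀ x : ↥N, x * k = k * x → x ∈ K) (hKtop : K ≠ ⊤)
    (hnab : ⁅K, K⁆ ≠ ⊥) (R : (↥N → ℂ) → Finset (G → ℂ))
    (hS : Cfsg.IsCoherenceSystem (Cfsg.inducedIrrAbove K ⊥) (fun α : ↥N → ℂ => Cfsg.indFun N α) R)
    (hirrS : ∀ χ ∈ Cfsg.inducedIrrAbove K ⊥, Cfsg.IsIrrCharacter ↥N χ) :
    Cfsg.IsCoherent (Cfsg.inducedIrrAbove K ⊥) {1}ᶜ (fun α : ↥N → ℂ => Cfsg.indFun N α) := by
  classical
  set τ : (↥N → ℂ) → (G → ℂ) := fun α => Cfsg.indFun N α with hτ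
  -- group facts
  have hPN : (P : Subgroup G) ≤ N := hN ▸ Subgroup.le_normalizer
  have hcardK : Nat.card ↥K = Nat.card ↥(P : Subgroup G) := by
    rw [← hK]
    exact Nat.card_congr (Subgroup.subgroupOfEquivOfLe hPN).toEquiv
  obtain ⟨m, hm⟩ := IsPGroup.iff_card.1 P.isPGroup'
  have hKcard : Nat.card ↥K = p ^ m := hcardK.trans hm
  have hKp : IsPGroup p ↥K := IsPGroup.of_card hKcard
  have hnilK : Group.IsNilpotent ↥K := hKp.isNilpotent
  have hsolvK : Group.IsSolvable ↥K := inferInstance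
  have hidx0 : K.index ≠ 0 := Subgroup.index_ne_zero_of_finite
  have hcommn : (⁅K, K⁆ : Subgroup ↥N).Normal := Subgroup.commutator_normal K K
  have hH₁K : ⁅K, K⁆ < K := by
    refine lt_of_le_of_ne (Subgroup.commutator_le_left K K) ?_
    intro heq
    have hKne : Nontrivial ↥K := by
      refine (Subgroup.nontrivial_iff_ne_bot K).2 ?_
      intro h
      apply hnab
      exact heq.trans h
    have h1 : (_root_.commutator ↥K).map K.subtype = (⊤ : Subgroup ↥K).map K.subtype := by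
      rw [Subgroup.map_subtype_commutator, heq, ← MonoidHom.range_eq_map, Subgroup.range_subtype]
    have h2 := Subgroup.map_injective K.subtype_injective h1
    have h3 := Group.IsSolvable.commutator_lt_top_of_nontrivial ↥K
    rw [h2] at h3
    exact lt_irrefl _ h3
  have hKL : K < ⊤ := lt_top_iff_ne_top.2 hKtop
  have hfrob' : ∀ k ∈ K, k ∉ ⁅K, K⁆ → ∀ x : ↥N, x * k * x⁻¹ * k⁻¹ ∈ ⁅K, K⁆ → x ∈ K :=
    fun k hk hk' x hx => Cfsg.Agent.Lib.Helper25_FrobTI.mem_of_commutator K hfrob hk hk' x hx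
  -- the central subgroup `Z`
  set Z : Subgroup ↥N := (Subgroup.center ↥K).map K.subtype ⊓ ⁅K, K⁆ with hZ
  have hZn : Z.Normal := inferInstance
  have hZK : Z ≤ K := by
    intro z hz
    obtain ⟨w, -, rfl⟩ := hz.1
    exact w.2
  have hZcomm : Z ≤ ⁅K, K⁆ := inf_le_right
  have hZc : ∀ z ∈ Z, ∀ k ∈ K, z * k = k * z := by
    intro z hz k hk
    obtain ⟨w, hw, rfl⟩ := hz.1
    have := Subgroup.mem_center_iff.1 hw ⟨k, hk⟩
    exact (congrArg Subtype.val this).symm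
  have hZ1 : Z ≠ ⊥ := by
    have hc : _root_.commutator ↥K ≠ ⊥ := by
      intro h
      apply hnab
      rw [← Subgroup.map_subtype_commutator, h, Subgroup.map_bot]
    have h1 := Cfsg.Agent.Lib.Helper32_PGroup.normal_inf_center_ne_bot hKp (_root_.commutator ↥K) hc
    obtain ⟨w, hw1⟩ := (Subgroup.ne_bot_iff_exists_ne_one).1 h1
    intro hbot
    apply hw1
    have hwZ : ((w : ↥K) : ↥N) ∈ Z := by
      refine ⟨⟨(w : ↥K), w.2.2, rfl⟩, ?_⟩
      rw [← Subgroup.map_subtype_commutator]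
      exact ⟨(w : ↥K), w.2.1, rfl⟩
    rw [hbot, Subgroup.mem_bot] at hwZ
    apply Subtype.ext
    apply Subtype.ext
    exact hwZ
  have hirrX : ∀ χ ∈ Cfsg.inducedIrrAbove K ⊥ \ Cfsg.inducedIrrAbove K Z,
      Cfsg.IsIrrCharacter ↥N χ := fun χ hχ => hirrS χ hχ.1
  have hcohX := (Cfsg.Agent.S1522.result K hsolvK τ R hS hodd hnilK hH₁K hKL hfrob' Z hZ1 hZK hZc
    hirrX).2
  obtain ⟨d, n, hd, hn, hnpos⟩ := cs_exists_deg_norm hS
  obtain ⟨Xf, hXf, hXsum⟩ := exists_finset_diff K Z hZK hirrX d hd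
  have hmemXf : ∀ ξ, ξ ∈ Xf ↔ ξ ∈ Cfsg.inducedIrrAbove K ⊥ \ Cfsg.inducedIrrAbove K Z := by
    intro ξ
    rw [← hXf]
    rfl
  have hXfS : (↑Xf : Set (↥N → ℂ)) ⊆ Cfsg.inducedIrrAbove K ⊥ := by
    rw [hXf]
    exact Set.sdiff_subset
  have hXfc : ∀ φ ∈ Xf, Cfsg.conjFun φ ∈ Xf := by
    intro φ hφ
    have hφ' := (hmemXf φ).1 hφ
    refine (hmemXf _).2 ⟨hS.conj_mem φ hφ'.1, fun h => hφ'.2 ?_⟩
    have := conj_mem_inducedIrrAbove K Z h
    rwa [conjFun_conjFun] at this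
  have hXf1 : ∀ ξ ∈ Xf, Cfsg.classInner ξ ξ = 1 := fun ξ hξ =>
    classInner_self_of_isIrrCharacter (hirrS ξ (hXfS hξ))
  have hcohXf : Cfsg.IsCoherent (↑Xf : Set (↥N → ℂ)) {1}ᶜ τ := by
    rw [hXf]
    exact hcohX
  have hXfne : Xf.Nonempty := by
    obtain ⟨χ, hχ⟩ := diff_nonempty K hS Z hZ1 hZK hirrX
    exact ⟨χ, (hmemXf χ).2 hχ⟩
  obtain ⟨φ, hφXf, hφmin⟩ := Finset.exists_min_image Xf d hXfne
  -- the member `ψ` of degree `|N : K|`
  have hnotle : ¬ K ≤ ⁅K, K⁆ := not_le_of_gt hH₁K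
  obtain ⟨lam, hlam, hlam1, hψmem⟩ := exists_linear_mem K ⁅K, K⁆ hsolvK hnotle
  set ψ : ↥N → ℂ := Cfsg.indFun K lam with hψdef
  have hψS : ψ ∈ Cfsg.inducedIrrAbove K ⊥ := inducedIrrAbove_mono K bot_le hψmem
  have hψZ : ψ ∈ Cfsg.inducedIrrAbove K Z := inducedIrrAbove_mono K hZcomm hψmem
  have hψX : ψ ∉ Xf := fun h => ((hmemXf ψ).1 h).2 hψZ
  have hcψZ : Cfsg.conjFun ψ ∈ Cfsg.inducedIrrAbove K Z := conj_mem_inducedIrrAbove K Z hψZ
  have hψcX : Cfsg.conjFun ψ ∉ Xf := fun h => ((hmemXf _).1 h).2 hcψZ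
  have hψ1 : Cfsg.classInner ψ ψ = 1 := classInner_self_of_isIrrCharacter (hirrS ψ hψS)
  have hdψ : d ψ = K.index := by
    have h1 := deg_eq_index_of_commutator_le K ⁅K, K⁆ le_rfl hψmem
    have h2 := hd ψ hψS
    rw [h1] at h2
    exact_mod_cast h2.symm
  -- degrees in `X`
  have hdegX : ∀ ξ ∈ Xf, ∃ j, d ξ = K.index * p ^ j := by
    intro ξ hξ
    obtain ⟨j, hj, -⟩ := deg_form K Z hZc hp.out hKcard (hXfS hξ)
    refine ⟨j, ?_⟩
    have := hd ξ (hXfS hξ)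
    rw [hj] at this
    exact_mod_cast this.symm
  obtain ⟨j₀, hj₀⟩ := hdegX φ hφXf
  have hdvd : ∀ ξ ∈ Xf, d φ ∣ d ξ := by
    intro ξ hξ
    obtain ⟨j, hj⟩ := hdegX ξ hξ
    have hle := hφmin ξ hξ
    rw [hj₀, hj] at hle ⊢
    have h1 : p ^ j₀ ≤ p ^ j := Nat.le_of_mul_le_mul_left hle (Nat.pos_of_ne_zero hidx0)
    have h2 : j₀ ≤ j := (Nat.pow_le_pow_iff_right hp.out.one_lt).1 h1
    exact Nat.mul_dvd_mul_left _ (pow_dvd_pow p h2)
  have ha : d φ = p ^ j₀ * d ψ := by rw [hj₀, hdψ, mul_comm]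
  obtain ⟨θ, mθ, hθ, -, hφeq, hθ1, hφ1⟩ := deg_of_mem (hXfS hφXf)
  have hmθ : mθ = p ^ j₀ := by
    have h1 := hd φ (hXfS hφXf)
    rw [hφ1, hj₀] at h1
    have h2 : K.index * mθ = K.index * p ^ j₀ := by exact_mod_cast h1
    exact Nat.eq_of_mul_eq_mul_left (Nat.pos_of_ne_zero hidx0) h2
  have hψchar : Cfsg.IsCharacter ↥N ψ := hS.isCharacter ψ hψS
  -- the divisibility hypothesis
  have hdiv : ∀ τ₁ : (↥N → ℂ) → (G → ℂ),
      Cfsg.IsLinearIsometryOn (Cfsg.zspan (↑Xf : Set (↥N → ℂ))) τ₁ →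
      (∀ α ∈ Cfsg.zspanOn (↑Xf : Set (↥N → ℂ)) ({1}ᶜ : Set ↥N), τ₁ α = τ α) →
      ∀ β ∈ R ψ, ∃ g : ℤ, Cfsg.classInner (τ (φ - ((p ^ j₀ : ℕ) : ℤ) • ψ)) β =
        ((p ^ j₀ : ℕ) : ℂ) * g := by
    intro τ₁ hτ₁ hag β hβ
    have hβg := hS.virtual ψ hψS β hβ
    have hβ1 : Cfsg.classInner β β = 1 := by
      rw [hS.orthonormal ψ hψS β hβ β hβ, if_pos rfl]
    have horth : ∀ ξ ∈ Cfsg.inducedIrrAbove K ⊥ \ Cfsg.inducedIrrAbove K Z,
        Cfsg.classInner (τ₁ ξ) β = 0 := fun ξ hξ =>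
      (image_orth_R hS hXfS hXfc hτ₁ hag ((hmemXf ξ).2 hξ) hψS hψX hψcX hβ).1
    rw [hXf] at hτ₁ hag
    have hθX : Cfsg.indFun K θ ∈ Cfsg.inducedIrrAbove K ⊥ \ Cfsg.inducedIrrAbove K Z := by
      rw [← hφeq]
      exact (hmemXf φ).1 hφXf
    have hθ1' : θ 1 = ((p ^ j₀ : ℕ) : ℂ) := by rw [hθ1, hmθ]
    have := div_ind p P N K hN hK hTI hodd Z hZ1 hZK hZc hirrX hτ₁ hag hβg hβ1 horth hθ hθX hθ1'
      hψchar
    rw [← hφeq] at this
    exact this
  have hcohT₀ := small_extension hS d hd Xf hXfS hXfc hXf1 hcohXf hψS hψX hψcX hψ1 hφXf ha hdvd hdiv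
  -- the loop
  set T₀ : Set (↥N → ℂ) := (↑Xf : Set (↥N → ℂ)) ∪ {ψ, Cfsg.conjFun ψ} with hT₀
  have hcψS : Cfsg.conjFun ψ ∈ Cfsg.inducedIrrAbove K ⊥ := hS.conj_mem ψ hψS
  have hT₀S : T₀ ⊆ Cfsg.inducedIrrAbove K ⊥ := by
    intro x hx
    rcases hx with hx | hx | hx
    · exact hXfS hx
    · rw [hx]; exact hψS
    · rw [Set.mem_singleton_iff.1 hx]; exact hcψS
  have hT₀c : ∀ φ ∈ T₀, Cfsg.conjFun φ ∈ T₀ := by
    intro x hx
    rcases hx with hx | hx | hx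
    · exact Or.inl (hXfc x hx)
    · rw [hx]; exact Or.inr (Or.inr rfl)
    · rw [Set.mem_singleton_iff.1 hx, conjFun_conjFun]; exact Or.inr (Or.inl rfl)
  have hψT₀ : ψ ∈ T₀ := Or.inr (Or.inl rfl)
  -- numerical facts
  have hZidx : Z.index = Z.relIndex K * K.index := (Subgroup.relIndex_mul_index hZK).symm
  have hNcard : Nat.card ↥N = Nat.card ↥Z * (Z.relIndex K * K.index) := by
    rw [← hZidx]
    exact (Subgroup.card_mul_index Z).symm
  have heZ : K.index ∣ Nat.card ↥Z - 1 := index_dvd_card_sub_one K Z hZK hfrob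
  have hZcard2 : 2 ≤ Nat.card ↥Z := by
    have h1 : Nat.card ↥Z ≠ 1 := fun h => hZ1 (Subgroup.card_eq_one.1 h)
    have h2 : 0 < Nat.card ↥Z := Nat.card_pos
    omega
  have hZodd : Odd (Nat.card ↥Z) := hodd.of_dvd_nat (Subgroup.card_subgroup_dvd_card Z)
  have heodd : Odd K.index := hodd.of_dvd_nat (Subgroup.index_dvd_card K)
  have h2e : 2 * K.index ≤ Nat.card ↥Z - 1 := by
    have heven : 2 ∣ Nat.card ↥Z - 1 := by
      obtain ⟨t, ht⟩ := hZodd
      exact ⟨t, by omega⟩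
    have hcop2 : Nat.Coprime 2 K.index := (Nat.coprime_two_left).2 heodd
    have h1 := Nat.Coprime.mul_dvd_of_dvd_of_dvd hcop2 heven heZ
    exact Nat.le_of_dvd (by omega) h1
  have hr2 : 2 ≤ Z.relIndex K := by
    have h0 : Z.relIndex K ≠ 0 := Subgroup.index_ne_zero_of_finite (H := Z.subgroupOf K)
    have h1 : Z.relIndex K ≠ 1 := by
      intro h
      have hKZ : K ≤ Z := Subgroup.relIndex_eq_one.mp h
      exact hnotle (hKZ.trans hZcomm)
    omega
  obtain ⟨Y, -, -, hSY, -, hYcoh⟩ := exists_coherent_superset' hS d n hd hn T₀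
    (Cfsg.inducedIrrAbove K ⊥) hT₀S subset_rfl hT₀c hcohT₀ (by
      intro Y hYS hT₀Y hYc hYcoh hnot
      obtain ⟨φ', hφ'S, hφ'Y⟩ := Set.not_subset.1 hnot
      refine ⟨φ', hφ'S, hφ'Y, ψ, hT₀Y hψT₀, ?_, ?_⟩
      · obtain ⟨θ', m', -, -, -, -, hφ'1⟩ := deg_of_mem hφ'S
        have h1 := hd φ' hφ'S
        rw [hφ'1] at h1
        have h2 : K.index * m' = d φ' := by exact_mod_cast h1
        rw [hdψ, ← h2]
        exact Dvd.intro _ rfl
      · obtain ⟨j, hj1, hj2⟩ := deg_form K Z hZc hp.out hKcard hφ'S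
        have hdφ' : d φ' = K.index * p ^ j := by
          have h1 := hd φ' hφ'S
          rw [hj1] at h1
          exact_mod_cast h1.symm
        have hXfY : Xf ⊆ Y := by
          intro ξ hξ
          exact hT₀Y (Or.inl hξ)
        have h1 : ∑ ξ ∈ Xf, ((d ξ : ℝ) ^ 2 / (n ξ : ℝ)) ≤ ∑ ξ ∈ Y, ((d ξ : ℝ) ^ 2 / (n ξ : ℝ)) :=
          Finset.sum_le_sum_of_subset_of_nonneg hXfY (fun ξ _ _ => by positivity)
        have h2 : ∑ ξ ∈ Xf, ((d ξ : ℝ) ^ 2 / (n ξ : ℝ)) = ((∑ ξ ∈ Xf, (d ξ) ^ 2 : ℕ) : ℝ) := by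
          push_cast
          refine Finset.sum_congr rfl (fun ξ hξ => ?_)
          have h3 := hn ξ (hXfS hξ)
          rw [hXf1 ξ hξ] at h3
          have h4 : n ξ = 1 := by exact_mod_cast h3.symm
          rw [h4]
          simp
        -- the arithmetic
        set e := K.index with he
        set r := Z.relIndex K with hr
        set z := Nat.card ↥Z with hz
        set q := p ^ j with hq
        have hqr : q < r := by
          by_contra hge
          push Not at hge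
          have : r * r ≤ q * q := Nat.mul_le_mul hge hge
          nlinarith
        have hepos : 0 < e := Nat.pos_of_ne_zero hidx0
        have hsumN : ∑ ξ ∈ Xf, (d ξ) ^ 2 = e * r * (z - 1) := by
          have h5 : ∑ ξ ∈ Xf, (d ξ) ^ 2 + r * e = z * (r * e) := by
            rw [← hNcard, ← hZidx]
            exact hXsum
          obtain ⟨k, hk⟩ : ∃ k, z = k + 1 := ⟨z - 1, by omega⟩
          rw [hk] at h5 ⊢
          simp only [Nat.add_sub_cancel]
          nlinarith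
        have hkey : 2 * d φ' * d ψ < ∑ ξ ∈ Xf, (d ξ) ^ 2 := by
          rw [hsumN, hdφ', hdψ]
          have h6 : 2 * e * q < r * (z - 1) := by
            have h7 : 2 * e * q ≤ (z - 1) * q := Nat.mul_le_mul_right q h2e
            have h8 : (z - 1) * q < (z - 1) * r :=
              Nat.mul_lt_mul_of_pos_left hqr (by omega)
            calc 2 * e * q ≤ (z - 1) * q := h7
              _ < (z - 1) * r := h8
              _ = r * (z - 1) := mul_comm _ _
          calc 2 * (e * q) * e = e * (2 * e * q) := by ring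
            _ < e * (r * (z - 1)) := Nat.mul_lt_mul_of_pos_left h6 hepos
            _ = e * r * (z - 1) := by ring
        have hkeyR : ((2 * d φ' * d ψ : ℕ) : ℝ) < ((∑ ξ ∈ Xf, (d ξ) ^ 2 : ℕ) : ℝ) := by
          exact_mod_cast hkey
        rw [← h2] at hkeyR
        have h9 : (2 * (d φ' : ℝ) * (d ψ : ℝ)) = ((2 * d φ' * d ψ : ℕ) : ℝ) := by
          push_cast; ring
        rw [h9]
        linarith)
  refine isCoherent_of_subset hSY hYcoh ⟨ψ - Cfsg.conjFun ψ, cs_sub_conj_mem hS hψS, ?_⟩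
  intro h
  exact hS.conj_ne ψ hψS (sub_eq_zero.1 h).symm

end PGroup

section Frob

variable {G : Type*} [Group G] [Fintype G] (H : Subgroup G)
  [Fintype ↥(Subgroup.normalizer (H : Set G))]

/-- **Sibley's theorem**, Frobenius case: a nilpotent TI subgroup `H` whose normalizer has odd
order and is a Frobenius group with kernel `H`. -/
theorem sibley_frobenius (hodd : Odd (Nat.card ↥(Subgroup.normalizer (H : Set G))))
    (hnil : Group.IsNilpotent ↥H) (hH1 : H ≠ ⊥) (hlt : H < Subgroup.normalizer (H : Set G))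
    (hC : ∀ k ∈ H, k ≠ 1 → ∀ x ∈ Subgroup.normalizer (H : Set G), x * k = k * x → x ∈ H)
    (hTI : Cfsg.IsTISubset (H : Set G)) :
    Cfsg.IsCoherent (Cfsg.inducedIrrAbove (H.subgroupOf (Subgroup.normalizer (H : Set G))) ⊥) {1}ᶜ
      (fun α : ↥(Subgroup.normalizer (H : Set G)) → ℂ =>
        Cfsg.indFun (Subgroup.normalizer (H : Set G)) α) := by
  classical
  have hHN : H ≤ Subgroup.normalizer (H : Set G) := Subgroup.le_normalizer
  let K : Subgroup ↥(Subgroup.normalizer (H : Set G)) :=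
    H.subgroupOf (Subgroup.normalizer (H : Set G))
  have hKn : K.Normal := Subgroup.normal_in_normalizer
  have hmemK : ∀ x : ↥(Subgroup.normalizer (H : Set G)), x ∈ K ↔ (x : G) ∈ H :=
    fun x => Subgroup.mem_subgroupOf
  have hfrob : ∀ k ∈ K, k ≠ 1 → ∀ x : ↥(Subgroup.normalizer (H : Set G)),
      x * k = k * x → x ∈ K := by
    intro k hk hk1 x hx
    rw [hmemK] at hk ⊢
    have hk1' : (k : G) ≠ 1 := fun h => hk1 (Subtype.ext h)
    exact hC (k : G) hk hk1' (x : G) x.2 (congrArg Subtype.val hx)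
  have hcop : (Nat.card K).Coprime K.index := coprime_card_index K hfrob
  have hnilK : Group.IsNilpotent ↥K :=
    (Group.isNilpotent_congr (Subgroup.subgroupOfEquivOfLe hHN)).2 hnil
  have hsolv : Group.IsSolvable ↥K := inferInstance
  have hirrS : ∀ χ ∈ Cfsg.inducedIrrAbove K ⊥,
      Cfsg.IsIrrCharacter ↥(Subgroup.normalizer (H : Set G)) χ := by
    rintro χ ⟨θ, hθ, hne, -, rfl⟩
    exact Cfsg.Agent.Lib.Helper25_FrobTI.isIrrCharacter_indFun K hfrob hcop hθ hne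
  have hK1 : Nontrivial ↥K := by
    obtain ⟨k, hk1⟩ := (Subgroup.ne_bot_iff_exists_ne_one).mp hH1
    refine ⟨⟨⟨⟨(k : G), hHN k.2⟩, (hmemK _).2 k.2⟩, 1, ?_⟩⟩
    intro h
    apply hk1
    apply Subtype.ext
    have h2 := congrArg (fun z : ↥K => ((z : ↥(Subgroup.normalizer (H : Set G))) : G)) h
    exact h2
  obtain ⟨x₀, hx₀N, hx₀P⟩ := SetLike.exists_of_lt hlt
  have hx₀K : (⟨x₀, hx₀N⟩ : ↥(Subgroup.normalizer (H : Set G))) ∉ K := by
    rw [hmemK]; exact hx₀P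
  have hSne : (Cfsg.inducedIrrAbove K ⊥).Nonempty := by
    obtain ⟨θ, hθ, hne⟩ := Cfsg.Agent.Lib.Helper79_UniqueSingular.exists_irr_ne_one hK1
    refine ⟨Cfsg.indFun K θ, θ, hθ, hne, fun a ha => ?_, rfl⟩
    have ha1 : a = 1 := Subtype.ext (Subgroup.mem_bot.mp ha)
    rw [ha1]
  have hvanS : ∀ χ ∈ Cfsg.inducedIrrAbove K ⊥,
      ∀ x : ↥(Subgroup.normalizer (H : Set G)), (x : G) ∉ H → χ x = 0 := by
    rintro χ ⟨θ, hθ, hne, -, rfl⟩ x hx
    exact indFun_eq_zero_of_not_mem K θ (fun h => hx ((hmemK x).mp h))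
  have hconj : ∀ χ ∈ Cfsg.inducedIrrAbove K ⊥,
      Cfsg.conjFun χ ∈ Cfsg.inducedIrrAbove K ⊥ ∧ Cfsg.conjFun χ ≠ χ := by
    intro χ hχ
    refine ⟨conj_mem_inducedIrrAbove K ⊥ hχ, fun h => ?_⟩
    have h1 := Cfsg.Agent.Lib.Helper25_FrobTI.eq_one_of_real hodd (hirrS χ hχ) h
    have h2 := hvanS χ hχ ⟨x₀, hx₀N⟩ hx₀P
    rw [h1] at h2
    exact one_ne_zero h2
  obtain ⟨hτ, hτ1⟩ := Cfsg.Agent.Lib.Helper25_FrobTI.isometry_of_TI H hTI
    (Cfsg.inducedIrrAbove K ⊥)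
    (fun χ hχ => isCharacter_of_isIrrCharacter (hirrS χ hχ)) hvanS
  obtain ⟨R, hR⟩ := Cfsg.Agent.S1514.result (Cfsg.inducedIrrAbove K ⊥) hSne hirrS hconj
    (fun α => Cfsg.indFun (Subgroup.normalizer (H : Set G)) α) hτ hτ1
  have hKtop : K ≠ ⊤ := by
    intro h
    apply hx₀K
    rw [h]
    trivial
  have hKL : K < ⊤ := lt_top_iff_ne_top.2 hKtop
  have hfrob' : ∀ k ∈ K, k ∉ ⁅K, K⁆ → ∀ x : ↥(Subgroup.normalizer (H : Set G)),
      x * k * x⁻¹ * k⁻¹ ∈ ⁅K, K⁆ → x ∈ K :=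
    fun k hk hk' x hx => Cfsg.Agent.Lib.Helper25_FrobTI.mem_of_commutator K hfrob hk hk' x hx
  have hder : ⁅K, K⁆ < K := by
    refine lt_of_le_of_ne (Subgroup.commutator_le_left K K) (fun heq => ?_)
    have h1 : (_root_.commutator ↥K).map K.subtype = (⊤ : Subgroup ↥K).map K.subtype := by
      rw [Subgroup.map_subtype_commutator, heq, ← MonoidHom.range_eq_map, Subgroup.range_subtype]
    have h2 := Subgroup.map_injective K.subtype_injective h1
    have h3 := Group.IsSolvable.commutator_lt_top_of_nontrivial ↥K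
    rw [h2] at h3
    exact lt_irrefl _ h3
  have hnilq : Group.IsNilpotent
      (↥K ⧸ (⊥ : Subgroup ↥(Subgroup.normalizer (H : Set G))).subgroupOf K) := inferInstance
  by_cases hpp : ∃ p m : ℕ, p.Prime ∧ Nat.card ↥K = p ^ m
  · by_cases hab : ⁅K, K⁆ = ⊥
    · exact Cfsg.Agent.S1521.result K hsolv
        (fun α => Cfsg.indFun (Subgroup.normalizer (H : Set G)) α) R hR hodd ⊥ bot_le hnilq ⁅K, K⁆
        (sup_bot_eq _).symm hder hKL hfrob' (Or.inr (Or.inr (Or.inr (Or.inl hab.le))))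
    · obtain ⟨p, m, hp, hpm⟩ := hpp
      have hpf : Fact p.Prime := ⟨hp⟩
      have hcardK : Nat.card ↥K = Nat.card ↥H :=
        Nat.card_congr (Subgroup.subgroupOfEquivOfLe hHN).toEquiv
      have hHp : IsPGroup p ↥H := IsPGroup.of_card (hcardK.symm.trans hpm)
      obtain ⟨P, hPH⟩ := Cfsg.Agent.Lib.Helper25_FrobSemi.exists_sylow_eq p H hHp hH1 hC
      have hN' : Subgroup.normalizer ((P : Subgroup G) : Set G) =
          Subgroup.normalizer (H : Set G) := by rw [hPH]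
      have hK' : (P : Subgroup G).subgroupOf (Subgroup.normalizer (H : Set G)) = K := by
        rw [hPH]
      have hTI' : Cfsg.IsTISubset ((P : Subgroup G) : Set G) := by
        rw [hPH]
        exact hTI
      exact sibley_pgroup p P (Subgroup.normalizer (H : Set G)) K hN' hK' hTI' hodd hfrob hKtop
        hab R hR hirrS
  · exact Cfsg.Agent.S1521.result K hsolv
      (fun α => Cfsg.indFun (Subgroup.normalizer (H : Set G)) α) R hR hodd ⊥ bot_le hnilq ⁅K, K⁆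
      (sup_bot_eq _).symm hder hKL hfrob' (Or.inr (Or.inr (Or.inl (by
        rw [Subgroup.relIndex_bot_left]
        exact hpp))))

end Frob

end Cfsg.Agent.Lib.Helper16_SibleyMain
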