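import Mathlib
import Cfsg.Agent.Lib.Helper94_UDDefs
import Cfsg.Agent.Lib.Helper44_HermOrtho

/-!
# S5655 (market UD, architect helper94), package UD-PROJ (helper16)

`U` nondegenerate of dimension `≥ 2`, `u` not orthogonal to `U`, `ν ≠ 0` fixed by `σ`: there is `a ∈ U`
with `B u a = ν = B a a`.

Proof (no Riesz): `a₁ = c • z` with `B u a₁ = ν`; correct the norm by a vector of the hyperplane
`W = U ⊓ u^⊥` (nonzero as `dim U ≥ 2`): by a multiple of an anisotropic `w ∈ W` (norm equation), or, if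
`W` is totally isotropic, by a multiple of some `w ∈ W` with `B a₁ w ≠ 0` (trace equation); if there is
no such `w` then `W` lies in the radical of `U`.
-/

set_option autoImplicit false
set_option linter.unusedVariables false
set_option linter.unusedSectionVars false

namespace Cfsg.Agent.Lib.Helper16_UD_PROJ

open Module Cfsg.Agent.Lib.Helper94_Symp Cfsg.Agent.Lib.Helper94_Herm
  Cfsg.Agent.Lib.Helper13_PSUSimple Cfsg.Agent.Lib.Helper27_UQDefs
  Cfsg.Agent.Lib.Helper94_FrmDefs Cfsg.Agent.Lib.Helper94_UDDefs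

variable {F V : Type*} [Field F] [AddCommGroup V] [Module F V] [Finite F] [FiniteDimensional F V]
variable {σ : F →+* F} {B : V →ₗ[F] V →ₛₗ[σ] F}
variable {t k : ℕ} {D : Fin t → Submodule F V} {S M : Subgroup (V ≃ₗ[F] V)}

/-- A subspace of dimension `≥ 2` has a nonzero vector orthogonal (on the right) to `u`. -/
theorem exists_orth (hσ : Invol σ) {U : Submodule F V} (h2 : 2 ≤ finrank F U) {u z : V}
    (hzU : z ∈ U) (hz : B u z ≠ 0) : ∃ w ∈ U, w ≠ 0 ∧ B u w = 0 := by
  -- some `x ∈ U` outside the line `⟨z⟩`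
  have hex : ∃ x ∈ U, x ∉ Submodule.span F {z} := by
    by_contra hc
    push Not at hc
    have hle : U ≤ Submodule.span F {z} := fun x hx => hc x hx
    have h1 := Submodule.finrank_mono hle
    have h3 : finrank F (Submodule.span F {z}) ≤ 1 := by
      have := finrank_span_le_card (R := F) ({z} : Set V)
      simpa using this
    omega
  obtain ⟨x, hxU, hx⟩ := hex
  refine ⟨x - σ (B u x / B u z) • z, U.sub_mem hxU (U.smul_mem _ hzU), ?_, ?_⟩
  · intro h0
    apply hx
    rw [sub_eq_zero] at h0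
    rw [h0]
    exact Submodule.smul_mem _ _ (Submodule.mem_span_singleton_self z)
  · rw [map_sub, map_smulₛₗ, smul_eq_mul, hσ.invol]
    field_simp
    ring

/-- UD-PROJ. -/
theorem PROJ (hσ : Invol σ) (hB : IsHerm B) (hN : NondegOn B ⊤) {U : Submodule F V}
    (hU : NondegOn B U) (h2 : 2 ≤ finrank F U) {u : V} (hu : ∃ z ∈ U, B u z ≠ 0) {ν : F}
    (hν : σ ν = ν) (hν0 : ν ≠ 0) : ∃ a ∈ U, B u a = ν ∧ B a a = ν := by
  obtain ⟨z, hzU, hz⟩ := hu
  obtain ⟨w₀, hw₀U, hw₀0, huw₀⟩ := exists_orth hσ h2 hzU hz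
  obtain ⟨c₀, hc₀⟩ : ∃ c₀ : F, c₀ = σ (ν / B u z) := ⟨_, rfl⟩
  have hc₀0 : c₀ ≠ 0 := by
    rw [hc₀]
    exact (map_ne_zero σ).mpr (div_ne_zero hν0 hz)
  obtain ⟨a₁, ha₁⟩ : ∃ a₁ : V, a₁ = c₀ • z := ⟨_, rfl⟩
  have ha₁U : a₁ ∈ U := by rw [ha₁]; exact U.smul_mem _ hzU
  have hua₁ : B u a₁ = ν := by
    rw [ha₁, map_smulₛₗ, smul_eq_mul, hc₀, hσ.invol]
    field_simp
  have hγ : σ (B a₁ a₁ - ν) = B a₁ a₁ - ν := by
    rw [map_sub, herm_self hB, hν]
  by_cases hcase : ∃ w ∈ U, B u w = 0 ∧ B w w ≠ 0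
  · -- an anisotropic vector of the hyperplane: a norm equation
    obtain ⟨w, hwU, huw, hww⟩ := hcase
    obtain ⟨n, hn⟩ : ∃ n : F, n = B w w := ⟨_, rfl⟩
    have hn0 : n ≠ 0 := by rw [hn]; exact hww
    have hσn : σ n = n := by rw [hn]; exact herm_self hB w
    obtain ⟨β, hβ⟩ : ∃ β : F, β = B a₁ w := ⟨_, rfl⟩
    obtain ⟨γ, hγdef⟩ : ∃ γ : F, γ = B a₁ a₁ - ν := ⟨_, rfl⟩
    rw [← hγdef] at hγ
    have hτ : σ ((β * σ β / n - γ) / n) = (β * σ β / n - γ) / n := by
      rw [map_div₀, map_sub, map_div₀, map_mul, hσ.invol, hσn, hγ]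
      ring
    obtain ⟨m, hm⟩ := norm_surj hσ _ hτ
    obtain ⟨l, hl⟩ : ∃ l : F, l = m - β / n := ⟨_, rfl⟩
    refine ⟨a₁ + l • w, U.add_mem ha₁U (U.smul_mem _ hwU), ?_, ?_⟩
    · rw [map_add, map_smulₛₗ, huw, smul_zero, add_zero, hua₁]
    · rw [self_add hB, self_smul, map_smulₛₗ, smul_eq_mul, map_mul, hσ.invol, ← hn, ← hβ]
      have hσl : σ l = σ m - σ β / n := by
        rw [hl, map_sub, map_div₀, hσn]
      rw [hσl, hl]
      have hm' : m * σ m * n = β * σ β / n - γ := by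
        rw [hm]
        field_simp
      have e1 : B a₁ a₁ = γ + ν := by rw [hγdef]; ring
      rw [e1]
      field_simp
      field_simp at hm'
      linear_combination hm'
  · push Not at hcase
    by_cases hcase2 : ∃ w ∈ U, B u w = 0 ∧ B a₁ w ≠ 0
    · -- a trace equation
      obtain ⟨w, hwU, huw, haw⟩ := hcase2
      have hww : B w w = 0 := hcase w hwU huw
      obtain ⟨β, hβ⟩ : ∃ β : F, β = B a₁ w := ⟨_, rfl⟩
      have hβ0 : β ≠ 0 := by rw [hβ]; exact haw
      have hσβ : σ β ≠ 0 := (map_ne_zero σ).mpr hβ0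
      obtain ⟨x, hx⟩ := tr_surj hσ (ν - B a₁ a₁) (by rw [map_sub, hν, herm_self hB])
      obtain ⟨l, hl⟩ : ∃ l : F, l = σ x / σ β := ⟨_, rfl⟩
      refine ⟨a₁ + l • w, U.add_mem ha₁U (U.smul_mem _ hwU), ?_, ?_⟩
      · rw [map_add, map_smulₛₗ, huw, smul_zero, add_zero, hua₁]
      · rw [self_add hB, self_smul, hww, mul_zero, add_zero, map_smulₛₗ, smul_eq_mul, map_mul,
          hσ.invol, ← hβ, hl, map_div₀, hσ.invol, hσ.invol]
        have e1 : x / β * β = x := by field_simp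
        have e2 : σ x / σ β * σ β = σ x := by field_simp
        rw [e1, e2]
        linear_combination hx
    · -- the hyperplane lies in the radical: impossible
      exfalso
      push Not at hcase2
      obtain ⟨y, hyU, hy⟩ := hU w₀ hw₀U hw₀0
      apply hy
      -- decompose `y`
      obtain ⟨c, hc⟩ : ∃ c : F, c = σ (B u y / B u z) := ⟨_, rfl⟩
      obtain ⟨w, hw⟩ : ∃ w : V, w = y - c • z := ⟨_, rfl⟩
      have hwU : w ∈ U := by rw [hw]; exact U.sub_mem hyU (U.smul_mem _ hzU)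
      have huw : B u w = 0 := by
        rw [hw, map_sub, map_smulₛₗ, smul_eq_mul, hc, hσ.invol]
        field_simp
        ring
      -- `B w₀ w = 0`
      have h1 : B w₀ w = 0 := by
        apply eq_zero_of_tr hσ
        intro l
        have hmem : w₀ + l • w ∈ U := U.add_mem hw₀U (U.smul_mem _ hwU)
        have hu0 : B u (w₀ + l • w) = 0 := by
          rw [map_add, map_smulₛₗ, huw₀, huw, smul_zero, add_zero]
        have h3 := hcase _ hmem hu0
        rw [self_add hB, self_smul, hcase w₀ hw₀U huw₀, hcase w hwU huw, map_smulₛₗ, smul_eq_mul,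
          map_mul, hσ.invol] at h3
        linear_combination h3
      -- `B w₀ z = 0`
      have h2' : B w₀ a₁ = 0 := herm_eq_zero hB (hcase2 w₀ hw₀U huw₀)
      have h3 : B w₀ z = 0 := by
        rw [ha₁, map_smulₛₗ, smul_eq_mul] at h2'
        rcases mul_eq_zero.mp h2' with h | h
        · exact absurd ((map_eq_zero σ).mp h) hc₀0
        · exact h
      have hy' : y = w + c • z := by rw [hw]; abel
      rw [hy', map_add, map_smulₛₗ, h1, h3, smul_zero, add_zero]

end Cfsg.Agent.Lib.Helper16_UD_PROJ
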