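import Mathlib
import Cfsg.Agent.Lib.Helper94_UDDefs
import Cfsg.Agent.Lib.Helper44_HermOrtho

/-!
# S5655 (market UD, architect helper94), package UD-REP2 (helper16)

`U` nondegenerate of dimension `k ≥ 2`, `(k, |F|) ≠ (2, 4)`, `b ∈ U` nonzero isotropic, `ν` fixed by `σ`,
`s` any scalar: there is `b1 ∈ U` with `N b1 = ν`, `B b1 b` skew and `≠ s`.

Also exported (used by UD-REP): `exists_two_skew`, `exists_norm`, `exists_pair_orth`, `exists_orth`,
`hyp_vec` (the vector `γ • b + δ • f` with prescribed trace).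
-/

set_option autoImplicit false
set_option linter.unusedVariables false
set_option linter.unusedSectionVars false

namespace Cfsg.Agent.Lib.Helper16_UD_REP2

open Module Cfsg.Agent.Lib.Helper94_Symp Cfsg.Agent.Lib.Helper94_Herm
  Cfsg.Agent.Lib.Helper13_PSUSimple Cfsg.Agent.Lib.Helper27_UQDefs
  Cfsg.Agent.Lib.Helper94_FrmDefs Cfsg.Agent.Lib.Helper94_UDDefs

variable {F V : Type*} [Field F] [AddCommGroup V] [Module F V] [Finite F] [FiniteDimensional F V]
variable {σ : F →+* F} {B : V →ₗ[F] V →ₛₗ[σ] F}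
variable {t k : ℕ} {D : Fin t → Submodule F V} {S M : Subgroup (V ≃ₗ[F] V)}

omit [FiniteDimensional F V] in
/-- If the fixed field is `{0, 1}` then `|F| ≤ 4`. -/
theorem card_le_four (hσ : Invol σ) (h : ∀ c : F, σ c = c → c = 0 ∨ c = 1) : Nat.card F ≤ 4 := by
  classical
  have := Fintype.ofFinite F
  obtain ⟨ω, hω⟩ := hσ.ne_id
  have hsub : (Finset.univ : Finset F) ⊆ {0, 1, ω, 1 + ω} := by
    intro x _
    obtain ⟨r, s, hr, hs, hx⟩ := decomp hσ hω x
    simp only [Finset.mem_insert, Finset.mem_singleton]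
    rcases h r hr with rfl | rfl <;> rcases h s hs with rfl | rfl
    · left; rw [hx]; ring
    · right; right; left; rw [hx]; ring
    · right; left; rw [hx]; ring
    · right; right; right; rw [hx]; ring
  have h1 := Finset.card_le_card hsub
  rw [Finset.card_univ, ← Nat.card_eq_fintype_card] at h1
  have h2 : ({0, 1, ω, 1 + ω} : Finset F).card ≤ 4 := Finset.card_le_four
  omega

omit [FiniteDimensional F V] in
/-- Two distinct nonzero skew elements when `|F| > 4`. -/
theorem exists_two_skew (hσ : Invol σ) (h4 : 4 < Nat.card F) :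
    ∃ δ₁ δ₂ : F, δ₁ ≠ 0 ∧ δ₂ ≠ 0 ∧ δ₁ ≠ δ₂ ∧ σ δ₁ = -δ₁ ∧ σ δ₂ = -δ₂ := by
  obtain ⟨ζ, hζ0, hζ⟩ := exists_skew hσ
  have hex : ∃ c : F, σ c = c ∧ c ≠ 0 ∧ c ≠ 1 := by
    by_contra hc
    push Not at hc
    have := card_le_four hσ (fun c hcc => by
      by_cases h0 : c = 0
      · exact Or.inl h0
      · exact Or.inr (hc c hcc h0))
    omega
  obtain ⟨c, hc, hc0, hc1⟩ := hex
  refine ⟨ζ, c * ζ, hζ0, mul_ne_zero hc0 hζ0, ?_, hζ, ?_⟩
  · intro h
    apply hc1
    have : (c - 1) * ζ = 0 := by linear_combination -h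
    rcases mul_eq_zero.mp this with h' | h'
    · exact sub_eq_zero.mp h'
    · exact absurd h' hζ0
  · rw [map_mul, hc, hζ]
    ring

omit [FiniteDimensional F V] in
/-- Every element of the fixed field is a norm of a vector of a nonzero nondegenerate subspace. -/
theorem exists_norm (hσ : Invol σ) (hB : IsHerm B) {W : Submodule F V} (hW : NondegOn B W) {x : V}
    (hx : x ∈ W) (hx0 : x ≠ 0) {μ : F} (hμ : σ μ = μ) : ∃ d ∈ W, B d d = μ := by
  obtain ⟨d₀, hd₀W, hd₀⟩ := exists_aniso hσ hB hW hx hx0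
  obtain ⟨l, hl⟩ := norm_surj hσ (μ / B d₀ d₀) (by rw [map_div₀, hμ, herm_self hB])
  refine ⟨l • d₀, W.smul_mem _ hd₀W, ?_⟩
  rw [self_smul, hl]
  field_simp

/-- In a subspace of dimension `≥ 3` there is a nonzero vector orthogonal to a hyperbolic pair. -/
theorem exists_pair_orth (hB : IsHerm B) {U : Submodule F V} (h3 : 3 ≤ finrank F U) {b f : V}
    (hb : b ∈ U) (hf : f ∈ U) (hbb : B b b = 0) (hff : B f f = 0) (hbf : B b f = 1) :
    ∃ x ∈ U ⊓ orthV B b ⊓ orthV B f, x ≠ 0 := by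
  classical
  have hfb : B f b = 1 := by rw [hB b f, hbf, map_one]
  have hex : ∃ x ∈ U, x ∉ Submodule.span F (({b, f} : Finset V) : Set V) := by
    by_contra hc
    push Not at hc
    have hle : U ≤ Submodule.span F (({b, f} : Finset V) : Set V) := fun x hx => hc x hx
    have h1 := Submodule.finrank_mono hle
    have h2 : finrank F (Submodule.span F (({b, f} : Finset V) : Set V)) ≤
        ({b, f} : Finset V).card := finrank_span_finset_le_card (R := F) ({b, f} : Finset V)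
    have h4 : ({b, f} : Finset V).card ≤ 2 := Finset.card_le_two
    omega
  obtain ⟨x, hxU, hx⟩ := hex
  have hbS : b ∈ Submodule.span F (({b, f} : Finset V) : Set V) :=
    Submodule.subset_span (by simp)
  have hfS : f ∈ Submodule.span F (({b, f} : Finset V) : Set V) :=
    Submodule.subset_span (by simp)
  refine ⟨x - B x f • b - B x b • f, Submodule.mem_inf.mpr ⟨Submodule.mem_inf.mpr
      ⟨U.sub_mem (U.sub_mem hxU (U.smul_mem _ hb)) (U.smul_mem _ hf), mem_orthV.mpr ?_⟩,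
      mem_orthV.mpr ?_⟩, ?_⟩
  · simp only [map_sub, map_smul, LinearMap.sub_apply, LinearMap.smul_apply, smul_eq_mul, hbb, hfb]
    ring
  · simp only [map_sub, map_smul, LinearMap.sub_apply, LinearMap.smul_apply, smul_eq_mul, hff, hbf]
    ring
  · intro h0
    apply hx
    have hxe : x = B x f • b + B x b • f := by
      have h1 := h0
      rw [sub_sub, sub_eq_zero] at h1
      exact h1
    have hmem : B x f • b + B x b • f ∈ Submodule.span F (({b, f} : Finset V) : Set V) :=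
      Submodule.add_mem _ (Submodule.smul_mem _ _ hbS) (Submodule.smul_mem _ _ hfS)
    rw [← hxe] at hmem
    exact hmem

/-- In a subspace of dimension `≥ 2` there is a nonzero vector orthogonal to an anisotropic one. -/
theorem exists_orth (hB : IsHerm B) {U : Submodule F V} (h2 : 2 ≤ finrank F U) {b : V}
    (hb : b ∈ U) (hbb : B b b ≠ 0) : ∃ x ∈ U ⊓ orthV B b, x ≠ 0 := by
  have hex : ∃ x ∈ U, x ∉ Submodule.span F {b} := by
    by_contra hc
    push Not at hc
    have hle : U ≤ Submodule.span F {b} := fun x hx => hc x hx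
    have h1 := Submodule.finrank_mono hle
    have h3 : finrank F (Submodule.span F {b}) ≤ 1 := by
      have := finrank_span_le_card (R := F) ({b} : Set V)
      simpa using this
    omega
  obtain ⟨x, hxU, hx⟩ := hex
  refine ⟨x - (B x b / B b b) • b, Submodule.mem_inf.mpr
    ⟨U.sub_mem hxU (U.smul_mem _ hb), mem_orthV.mpr ?_⟩, ?_⟩
  · rw [map_sub, map_smul, LinearMap.sub_apply, LinearMap.smul_apply, smul_eq_mul]
    field_simp
    ring
  · intro h0
    apply hx
    rw [sub_eq_zero.mp h0]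
    exact Submodule.smul_mem _ _ (Submodule.mem_span_singleton_self b)

omit [Finite F] [FiniteDimensional F V] in
/-- The vector `γ • b + δ • f` of a hyperbolic plane with `B (·) b = δ` and prescribed norm. -/
theorem hyp_vec (hσ : Invol σ) (hB : IsHerm B) {U : Submodule F V} {b f : V}
    (hb : b ∈ U) (hf : f ∈ U) (hbb : B b b = 0) (hff : B f f = 0) (hbf : B b f = 1)
    {δ : F} (hδ : δ ≠ 0) {μ : F} (hμ : σ μ = μ) :
    ∃ d ∈ U, B d b = δ ∧ B b d = σ δ ∧ B d d = μ := by
  have hfb : B f b = 1 := by rw [hB b f, hbf, map_one]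
  have hσδ : σ δ ≠ 0 := (map_ne_zero σ).mpr hδ
  obtain ⟨x, hx⟩ := tr_surj hσ μ hμ
  obtain ⟨γ, hγ⟩ : ∃ γ : F, γ = x / σ δ := ⟨_, rfl⟩
  have hγδ : γ * σ δ = x := by rw [hγ]; field_simp
  refine ⟨γ • b + δ • f, U.add_mem (U.smul_mem _ hb) (U.smul_mem _ hf), ?_, ?_, ?_⟩
  · simp only [map_add, map_smul, LinearMap.add_apply, LinearMap.smul_apply, smul_eq_mul, hbb, hfb]
    ring
  · simp only [map_add, map_smulₛₗ, smul_eq_mul, hbb, hbf]
    ring
  · rw [self_add hB, self_smul, self_smul, hbb, hff, mul_zero, mul_zero, add_zero, zero_add]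
    simp only [map_smul, map_smulₛₗ, LinearMap.smul_apply, smul_eq_mul, hbf, mul_one, map_mul,
      hσ.invol]
    have e1 : σ δ * γ = x := by rw [mul_comm]; exact hγδ
    have e2 : δ * σ γ = σ x := by rw [← hγδ, map_mul, hσ.invol]; ring
    rw [e1, e2]
    exact hx

/-- UD-REP2. -/
theorem REP2 (hσ : Invol σ) (hB : IsHerm B) {U : Submodule F V} (hU : NondegOn B U) (k : ℕ)
    (hk : finrank F U = k) (h2 : 2 ≤ k) (hex : k = 2 → 4 < Nat.card F) {b : V} (hb : b ∈ U)
    (hb0 : b ≠ 0) (hbb : B b b = 0) {ν : F} (hν : σ ν = ν) (s : F) :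
    ∃ b1 ∈ U, B b1 b1 = ν ∧ σ (B b1 b) = -(B b1 b) ∧ B b1 b ≠ s := by
  obtain ⟨f, hfU, hff, hbf⟩ := exists_partner hσ hB hU hb hb0 hbb
  -- the construction for a nonzero skew `δ ≠ s`
  have hA : ∀ δ : F, δ ≠ 0 → σ δ = -δ → δ ≠ s →
      ∃ b1 ∈ U, B b1 b1 = ν ∧ σ (B b1 b) = -(B b1 b) ∧ B b1 b ≠ s := by
    intro δ hδ0 hδ hδs
    obtain ⟨d, hdU, h1, -, h3⟩ := hyp_vec hσ hB hb hfU hbb hff hbf hδ0 hν
    exact ⟨d, hdU, h3, by rw [h1, hδ], by rw [h1]; exact hδs⟩
  by_cases h4 : 4 < Nat.card F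
  · obtain ⟨δ₁, δ₂, h10, h20, h12, hs1, hs2⟩ := exists_two_skew hσ h4
    by_cases hs : δ₁ = s
    · exact hA δ₂ h20 hs2 (fun h => h12 (hs.trans h.symm))
    · exact hA δ₁ h10 hs1 hs
  · have hk3 : 3 ≤ k := by
      by_contra hc
      have : k = 2 := by omega
      exact h4 (hex this)
    by_cases hs : s = 0
    · obtain ⟨ζ, hζ0, hζ⟩ := exists_skew hσ
      exact hA ζ hζ0 hζ (by rw [hs]; exact hζ0)
    · obtain ⟨x, hx, hx0⟩ := exists_pair_orth hB (by rw [hk]; exact hk3) hb hfU hbb hff hbf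
      obtain ⟨d, hd, hdd⟩ :=
        exists_norm hσ hB (nondegOn_pair hB hU hb hfU hbb hff hbf) hx hx0 hν
      have hdb : B d b = 0 := mem_orthV.mp (Submodule.mem_inf.mp hd).1.2
      refine ⟨d, (Submodule.mem_inf.mp hd).1.1, hdd, ?_, ?_⟩
      · rw [hdb, map_zero, neg_zero]
      · rw [hdb]
        exact fun h => hs h.symm

end Cfsg.Agent.Lib.Helper16_UD_REP2
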