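import Mathlib
import Cfsg.Agent.Lib.Helper94_UDDefs
import Cfsg.Agent.Lib.Helper44_HermOrtho
import Cfsg.Agent.Lib.Helper16_UD_REP2

/-!
# S5655 (market UD, architect helper94), package UD-REP (helper16)

`U` nondegenerate of dimension `k ≥ 2`, `(k, |F|) ≠ (2, 4)`, `b ∈ U` nonzero, `ν` fixed by `σ`: there are
`d ∈ U` and a nonzero skew `ζ` with `B b d = -ν + ζ` and `N d = -ν`.
-/

set_option autoImplicit false
set_option linter.unusedVariables false
set_option linter.unusedSectionVars false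

namespace Cfsg.Agent.Lib.Helper16_UD_REP

open Module Cfsg.Agent.Lib.Helper94_Symp Cfsg.Agent.Lib.Helper94_Herm
  Cfsg.Agent.Lib.Helper13_PSUSimple Cfsg.Agent.Lib.Helper27_UQDefs
  Cfsg.Agent.Lib.Helper94_FrmDefs Cfsg.Agent.Lib.Helper94_UDDefs
  Cfsg.Agent.Lib.Helper16_UD_REP2

variable {F V : Type*} [Field F] [AddCommGroup V] [Module F V] [Finite F] [FiniteDimensional F V]
variable {σ : F →+* F} {B : V →ₗ[F] V →ₛₗ[σ] F}
variable {t k : ℕ} {D : Fin t → Submodule F V} {S M : Subgroup (V ≃ₗ[F] V)}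

/-- UD-REP. -/
theorem REP (hσ : Invol σ) (hB : IsHerm B) {U : Submodule F V} (hU : NondegOn B U) (k : ℕ)
    (hk : finrank F U = k) (h2 : 2 ≤ k) (hex : k = 2 → 4 < Nat.card F) {b : V} (hb : b ∈ U)
    (hb0 : b ≠ 0) {ν : F} (hν : σ ν = ν) :
    ∃ d ∈ U, ∃ ζ : F, ζ ≠ 0 ∧ σ ζ = -ζ ∧ B b d = -ν + ζ ∧ B d d = -ν := by
  have hν' : σ (-ν) = -ν := by rw [map_neg, hν]
  by_cases hbb : B b b = 0
  · -- `b` isotropic
    obtain ⟨f, hfU, hff, hbf⟩ := exists_partner hσ hB hU hb hb0 hbb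
    -- the construction for a nonzero skew `ζ ≠ ν`
    have hA : ∀ ζ : F, ζ ≠ 0 → σ ζ = -ζ → ζ ≠ ν →
        ∃ d ∈ U, ∃ ζ : F, ζ ≠ 0 ∧ σ ζ = -ζ ∧ B b d = -ν + ζ ∧ B d d = -ν := by
      intro ζ hζ0 hζ hζν
      have hδ0 : -ν - ζ ≠ 0 := by
        intro h
        -- `ζ = -ν` is fixed and skew, so `ζ = ν`
        have h1 : ζ = -ν := by linear_combination -h
        have h2' : σ ζ = ζ := by rw [h1, hν']
        rw [hζ] at h2'
        -- `-ζ = ζ`
        apply hζν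
        rw [h1]
        have h3 : -(-ν) = -ν := by rw [← h1]; exact h2'
        linear_combination -h3
      obtain ⟨d, hdU, -, h2', h3⟩ := hyp_vec hσ hB hb hfU hbb hff hbf hδ0 hν'
      refine ⟨d, hdU, ζ, hζ0, hζ, ?_, h3⟩
      rw [h2', map_sub, map_neg, hν, hζ]
      ring
    by_cases h4 : 4 < Nat.card F
    · obtain ⟨δ₁, δ₂, h10, h20, h12, hs1, hs2⟩ := exists_two_skew hσ h4
      by_cases hs : δ₁ = ν
      · exact hA δ₂ h20 hs2 (fun h => h12 (hs.trans h.symm))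
      · exact hA δ₁ h10 hs1 hs
    · have hk3 : 3 ≤ k := by
        by_contra hc
        have : k = 2 := by omega
        exact h4 (hex this)
      obtain ⟨ζ, hζ0, hζ⟩ := exists_skew hσ
      by_cases hs : ζ = ν
      · obtain ⟨x, hx, hx0⟩ := exists_pair_orth hB (by rw [hk]; exact hk3) hb hfU hbb hff hbf
        obtain ⟨d, hd, hdd⟩ :=
          exists_norm hσ hB (nondegOn_pair hB hU hb hfU hbb hff hbf) hx hx0 hν'
        have hdb : B d b = 0 := mem_orthV.mp (Submodule.mem_inf.mp hd).1.2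
        have hbd : B b d = 0 := herm_eq_zero hB hdb
        refine ⟨d, (Submodule.mem_inf.mp hd).1.1, ζ, hζ0, hζ, ?_, hdd⟩
        rw [hbd, hs]
        ring
      · exact hA ζ hζ0 hζ hs
  · -- `b` anisotropic
    obtain ⟨ζ, hζ0, hζ⟩ := exists_skew hσ
    obtain ⟨n, hn⟩ : ∃ n : F, n = B b b := ⟨_, rfl⟩
    have hn0 : n ≠ 0 := by rw [hn]; exact hbb
    have hσn : σ n = n := by rw [hn]; exact herm_self hB b
    obtain ⟨γ, hγ⟩ : ∃ γ : F, γ = σ ((-ν + ζ) / n) := ⟨_, rfl⟩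
    have hσγ : σ γ = (-ν + ζ) / n := by rw [hγ, hσ.invol]
    obtain ⟨x, hx, hx0⟩ := exists_orth hB (by rw [hk]; exact h2) hb hbb
    have hμ : σ (-ν - γ * σ γ * n) = -ν - γ * σ γ * n := by
      rw [map_sub, map_mul, map_mul, hσ.invol, hσn, hν']
      ring
    obtain ⟨d'', hd'', hdd⟩ := exists_norm hσ hB (nondegOn_orthV hB hU hb hbb) hx hx0 hμ
    have hd''U : d'' ∈ U := (Submodule.mem_inf.mp hd'').1
    have hd''b : B d'' b = 0 := mem_orthV.mp (Submodule.mem_inf.mp hd'').2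
    have hbd'' : B b d'' = 0 := herm_eq_zero hB hd''b
    refine ⟨γ • b + d'', U.add_mem (U.smul_mem _ hb) hd''U, ζ, hζ0, hζ, ?_, ?_⟩
    · rw [map_add, map_smulₛₗ, smul_eq_mul, hbd'', add_zero, hσγ, ← hn]
      field_simp
    · rw [self_add hB, self_smul, hdd, ← hn]
      simp only [map_smul, LinearMap.smul_apply, smul_eq_mul, hbd'', mul_zero, map_zero, add_zero]
      ring

end Cfsg.Agent.Lib.Helper16_UD_REP
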