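import Mathlib
import Cfsg.Prelude.Def_Solvable
import Cfsg.Prelude.Def_Blocks
import Cfsg.Agent.Lib.Helper16_Homocyclic
import Cfsg.Agent.Lib.Helper4_KleinSylow
import Cfsg.Agent.Lib.Helper1_Cores
import Cfsg.Agent.S4145

/-!
# Group theory for an abelian Sylow `p`-subgroup with a cyclic free inertial quotient (helper17)

The data `AD p P σ m`: `P` is an abelian `p`-subgroup, `σ ∈ N_G(P)` has order `m` modulo `C_G(P)`,
its non-trivial powers act freely on `P`, the powers of `σ` control the fusion in `P`, every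
element of `N_G(P)` is a power of `σ` times an element of `C_G(P)`, and the centralizers of the
non-identity elements of `P` have normal `p`-complements.
-/

set_option autoImplicit false

namespace Cfsg.Agent.Lib.Helper17_AbSylowGroup

open Cfsg Cfsg.Agent.Lib.Helper16_Homocyclic

variable {G : Type*} [Group G]

/-- The standing data. -/
structure AD (p : ℕ) (P : Subgroup G) (σ : G) (m : ℕ) : Prop where
  ppow : IsPGroup p P
  comm : ∀ a ∈ P, ∀ b ∈ P, a * b = b * a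
  norm : σ ∈ Subgroup.normalizer (P : Set G)
  pow : ∀ w ∈ P, σ ^ m * w * (σ ^ m)⁻¹ = w
  free : ∀ k : ℕ, 0 < k → k < m → ∀ w ∈ P, w ≠ 1 → σ ^ k * w * (σ ^ k)⁻¹ ≠ w
  dec : ∀ n ∈ Subgroup.normalizer (P : Set G), ∃ k : ℕ, k < m ∧
    (σ ^ k)⁻¹ * n ∈ Subgroup.centralizer (P : Set G)
  fusion : ∀ w ∈ P, ∀ w' ∈ P, IsConj w w' → ∃ k : ℕ, k < m ∧ w' = σ ^ k * w * (σ ^ k)⁻¹
  npc : ∀ w ∈ P, w ≠ 1 →
    (∃ k : ℕ, (pPrimeCore p (Subgroup.centralizer ({w} : Set G))).index = p ^ k) ∧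
      p ^ (Nat.card (Subgroup.centralizer ({w} : Set G))).factorization p = Nat.card P

section Consequences

variable {p : ℕ} {P : Subgroup G} {σ : G} {m : ℕ}

theorem AD.pow_mem (hd : AD p P σ m) (k : ℕ) : σ ^ k ∈ Subgroup.normalizer (P : Set G) :=
  Subgroup.pow_mem _ hd.norm k

theorem AD.conj_mem (hd : AD p P σ m) (k : ℕ) {w : G} (hw : w ∈ P) :
    σ ^ k * w * (σ ^ k)⁻¹ ∈ P :=
  (Subgroup.mem_normalizer_iff.mp (hd.pow_mem k) w).mp hw

/-- Conjugation by an element of the normalizer is conjugation by a power of `σ`. -/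
theorem AD.conj_eq (hd : AD p P σ m) {n : G} (hn : n ∈ Subgroup.normalizer (P : Set G)) :
    ∃ k : ℕ, k < m ∧ ∀ w ∈ P, n * w * n⁻¹ = σ ^ k * w * (σ ^ k)⁻¹ := by
  obtain ⟨k, hkm, hk⟩ := hd.dec n hn
  refine ⟨k, hkm, ?_⟩
  intro w hw
  have hcw := Subgroup.mem_centralizer_iff.mp hk w hw
  have : n = σ ^ k * ((σ ^ k)⁻¹ * n) := by group
  rw [this]
  calc σ ^ k * ((σ ^ k)⁻¹ * n) * w * (σ ^ k * ((σ ^ k)⁻¹ * n))⁻¹
      = σ ^ k * (((σ ^ k)⁻¹ * n) * w) * ((σ ^ k)⁻¹ * n)⁻¹ * (σ ^ k)⁻¹ := by group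
    _ = σ ^ k * (w * ((σ ^ k)⁻¹ * n)) * ((σ ^ k)⁻¹ * n)⁻¹ * (σ ^ k)⁻¹ := by rw [hcw]
    _ = σ ^ k * w * (σ ^ k)⁻¹ := by group

/-- An element of `P` whose square is not `1` is not conjugate to its inverse when `m` is odd. -/
theorem AD.not_isConj_inv (hd : AD p P σ m) (hm : Odd m) {v : G} (hv : v ∈ P)
    (hv2 : v ^ 2 ≠ 1) : ¬ IsConj v v⁻¹ := by
  intro hc
  obtain ⟨k, hkm, hk⟩ := hd.fusion v hv v⁻¹ (P.inv_mem hv) hc
  -- conjugation by `σ ^ (2 k)` fixes `v`
  have h2 : σ ^ (2 * k) * v * (σ ^ (2 * k))⁻¹ = v := by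
    have e : σ ^ (2 * k) = σ ^ k * σ ^ k := by rw [two_mul, pow_add]
    rw [e]
    calc σ ^ k * σ ^ k * v * (σ ^ k * σ ^ k)⁻¹
        = σ ^ k * (σ ^ k * v * (σ ^ k)⁻¹) * (σ ^ k)⁻¹ := by group
      _ = σ ^ k * v⁻¹ * (σ ^ k)⁻¹ := by rw [← hk]
      _ = (σ ^ k * v * (σ ^ k)⁻¹)⁻¹ := by group
      _ = (v⁻¹)⁻¹ := by rw [← hk]
      _ = v := inv_inv v
  have hv1 : v ≠ 1 := by
    intro h
    apply hv2
    rw [h, one_pow]
  -- reduce `2 k` modulo `m`
  have hmpos : 0 < m := by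
    rcases hm with ⟨j, hj⟩
    omega
  have hfix : ∀ j : ℕ, σ ^ (m * j) * v * (σ ^ (m * j))⁻¹ = v := by
    intro j
    induction j with
    | zero => simp
    | succ j ih =>
      have e : σ ^ (m * (j + 1)) = σ ^ m * σ ^ (m * j) := by
        rw [mul_add, mul_one, pow_add, ← pow_add, add_comm, pow_add]
      rw [e]
      calc σ ^ m * σ ^ (m * j) * v * (σ ^ m * σ ^ (m * j))⁻¹
          = σ ^ m * (σ ^ (m * j) * v * (σ ^ (m * j))⁻¹) * (σ ^ m)⁻¹ := by group
        _ = σ ^ m * v * (σ ^ m)⁻¹ := by rw [ih]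
        _ = v := hd.pow v hv
  have hmod : σ ^ (2 * k % m) * v * (σ ^ (2 * k % m))⁻¹ = v := by
    have e : σ ^ (2 * k) = σ ^ (2 * k % m) * σ ^ (m * (2 * k / m)) := by
      rw [← pow_add, Nat.mod_add_div]
    rw [e] at h2
    have : σ ^ (2 * k % m) * σ ^ (m * (2 * k / m)) * v *
        (σ ^ (2 * k % m) * σ ^ (m * (2 * k / m)))⁻¹ =
        σ ^ (2 * k % m) * (σ ^ (m * (2 * k / m)) * v * (σ ^ (m * (2 * k / m)))⁻¹) *
          (σ ^ (2 * k % m))⁻¹ := by group
    rw [this, hfix] at h2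
    exact h2
  by_cases h0 : 2 * k % m = 0
  · -- then `m ∣ 2 k`, so `m ∣ k`, so `k = 0`
    have hdvd : m ∣ 2 * k := Nat.dvd_of_mod_eq_zero h0
    have hcop : Nat.Coprime m 2 := Nat.coprime_two_right.mpr hm
    have hmk : m ∣ k := hcop.dvd_of_dvd_mul_left hdvd
    have hk0 : k = 0 := Nat.eq_zero_of_dvd_of_lt hmk hkm
    rw [hk0, pow_zero, one_mul, inv_one, mul_one] at hk
    apply hv2
    have hk' : v⁻¹ = v := hk
    calc v ^ 2 = v * v := pow_two v
      _ = v⁻¹ * v := by rw [hk']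
      _ = 1 := inv_mul_cancel v
  · exact hd.free (2 * k % m) (Nat.pos_of_ne_zero h0) (Nat.mod_lt _ hmpos) v hv hv1 hmod

end Consequences

section Construction

variable [Finite G]

/-- The centralizer of a non-identity element of `P` has a normal `p`-complement. -/
theorem centralizer_npc {p : ℕ} [Fact p.Prime] (P : Sylow p G)
    (hcomm : ∀ a ∈ (P : Subgroup G), ∀ b ∈ (P : Subgroup G), a * b = b * a)
    (hfrob : ∀ y : G, y ∈ (P : Subgroup G) → y ≠ 1 →
      Subgroup.centralizer ({y} : Set G) ⊓ Subgroup.normalizer ((P : Subgroup G) : Set G) =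
        Subgroup.centralizer ((P : Subgroup G) : Set G))
    (w : G) (hw : w ∈ (P : Subgroup G)) (hw1 : w ≠ 1) :
    (∃ k : ℕ, (pPrimeCore p (Subgroup.centralizer ({w} : Set G))).index = p ^ k) ∧
      p ^ (Nat.card (Subgroup.centralizer ({w} : Set G))).factorization p =
        Nat.card (P : Subgroup G) := by
  have hp : p.Prime := Fact.out
  have hPH : (P : Subgroup G) ≤ Subgroup.centralizer ({w} : Set G) := by
    intro a ha
    rw [Subgroup.mem_centralizer_iff]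
    intro k hk
    rw [Set.mem_singleton_iff] at hk
    rw [hk]
    exact hcomm w hw a ha
  set H := Subgroup.centralizer ({w} : Set G) with hH
  let Q : Sylow p H := P.subtype hPH
  have hQcoe : (Q : Subgroup H) = (P : Subgroup G).subgroupOf H := Sylow.coe_subtype P hPH
  have hQcard : Nat.card (Q : Subgroup H) = Nat.card (P : Subgroup G) := by
    rw [hQcoe, Nat.card_congr (Subgroup.subgroupOfEquivOfLe hPH).toEquiv]
  have hNC : Subgroup.normalizer ((Q : Subgroup H) : Set H) ≤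
      Subgroup.centralizer ((Q : Subgroup H) : Set H) := by
    intro n hn
    rw [hQcoe, ← Subgroup.subgroupOf_normalizer_eq hPH, Subgroup.mem_subgroupOf] at hn
    rw [Subgroup.mem_centralizer_iff]
    intro q hq
    rw [hQcoe] at hq
    have hqP : (q : G) ∈ (P : Subgroup G) := Subgroup.mem_subgroupOf.mp hq
    have hnC : (n : G) ∈ Subgroup.centralizer ((P : Subgroup G) : Set G) := by
      rw [← hfrob w hw hw1]
      exact ⟨n.2, hn⟩
    have := Subgroup.mem_centralizer_iff.mp hnC (q : G) hqP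
    apply Subtype.ext
    push_cast
    exact this
  obtain ⟨K, hKn, hKc, hKcop, -, -⟩ := Cfsg.Agent.S4145.exists_normal_pcomplement Q hNC
  have hPcard := P.card_eq_multiplicity
  constructor
  · have hKle : K ≤ pPrimeCore p H := Cfsg.Agent.Lib.Helper1_Cores.le_pPrimeCore hKn hKcop
    have hdvd : (pPrimeCore p H).index ∣ K.index := Subgroup.index_dvd_of_le hKle
    have hKidx : K.index = p ^ (Nat.card G).factorization p := by
      rw [hKc.symm.index_eq_card, hQcard, hPcard]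
    rw [hKidx] at hdvd
    obtain ⟨k, -, hk⟩ := (Nat.dvd_prime_pow hp).mp hdvd
    exact ⟨k, hk⟩
  · have h1 := Q.card_eq_multiplicity
    rw [← h1, hQcard]

/-- The data exist under the hypotheses of Brauer's theorem. -/
theorem exists_AD {p : ℕ} [Fact p.Prime] (P : Sylow p G)
    (hcomm : ∀ a ∈ (P : Subgroup G), ∀ b ∈ (P : Subgroup G), a * b = b * a)
    (m : ℕ) (hm : 0 < m)
    (hCN : (Subgroup.centralizer ((P : Subgroup G) : Set G)).relIndex
      (Subgroup.normalizer ((P : Subgroup G) : Set G)) = m)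
    (hcyc : ∃ g : G, g ∈ Subgroup.normalizer ((P : Subgroup G) : Set G) ∧
      Subgroup.centralizer ((P : Subgroup G) : Set G) ⊔ Subgroup.zpowers g =
        Subgroup.normalizer ((P : Subgroup G) : Set G))
    (hfrob : ∀ y : G, y ∈ (P : Subgroup G) → y ≠ 1 →
      Subgroup.centralizer ({y} : Set G) ⊓ Subgroup.normalizer ((P : Subgroup G) : Set G) =
        Subgroup.centralizer ((P : Subgroup G) : Set G)) :
    ∃ σ : G, AD p (P : Subgroup G) σ m := by
  obtain ⟨σ, hσN, hsup⟩ := hcyc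
  set N := Subgroup.normalizer ((P : Subgroup G) : Set G) with hN
  set C := Subgroup.centralizer ((P : Subgroup G) : Set G) with hC
  have hCN' : C ≤ N := Subgroup.centralizer_le_normalizer _
  have hnorm : (C.subgroupOf N).Normal := by
    rw [hC, hN, ← Subgroup.normalizerMonoidHom_ker]; infer_instance
  have hcard : Nat.card (N ⧸ C.subgroupOf N) = m := hCN
  set σ' : N := ⟨σ, hσN⟩ with hσ'
  -- the quotient is generated by the image of `σ`
  have htop : Subgroup.zpowers (σ' : N ⧸ C.subgroupOf N) = ⊤ := by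
    have h1 : C.subgroupOf N ⊔ (Subgroup.zpowers σ).subgroupOf N = ⊤ := by
      rw [← Subgroup.subgroupOf_sup hCN' (by rw [Subgroup.zpowers_le]; exact hσN), hsup]
      exact Subgroup.subgroupOf_self N
    have h2 : (Subgroup.zpowers σ).subgroupOf N = Subgroup.zpowers σ' := by
      ext x
      rw [Subgroup.mem_subgroupOf, Subgroup.mem_zpowers_iff, Subgroup.mem_zpowers_iff]
      constructor
      · rintro ⟨k, hk⟩
        refine ⟨k, Subtype.ext ?_⟩
        rw [Subgroup.coe_zpow]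
        exact hk
      · rintro ⟨k, hk⟩
        refine ⟨k, ?_⟩
        rw [← hk, Subgroup.coe_zpow]
    rw [h2] at h1
    have h3 := congrArg (Subgroup.map (QuotientGroup.mk' (C.subgroupOf N))) h1
    rw [Subgroup.map_sup, Subgroup.map_top_of_surjective _ (QuotientGroup.mk'_surjective _),
      MonoidHom.map_zpowers] at h3
    rw [QuotientGroup.map_mk'_self, bot_sup_eq] at h3
    exact h3
  have hmemz : ∀ q : N ⧸ C.subgroupOf N, q ∈ Subgroup.zpowers (σ' : N ⧸ C.subgroupOf N) := by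
    intro q
    rw [htop]; trivial
  have hord : orderOf (σ' : N ⧸ C.subgroupOf N) = m := by
    rw [orderOf_eq_card_of_forall_mem_zpowers hmemz, hcard]
  have hσm : σ ^ m ∈ C := by
    have := pow_relIndex_mem_centralizer (P := (P : Subgroup G)) hσN
    rwa [hCN] at this
  have hpow : ∀ w ∈ (P : Subgroup G), σ ^ m * w * (σ ^ m)⁻¹ = w := by
    intro w hw
    have := Subgroup.mem_centralizer_iff.mp hσm w hw
    rw [← this, mul_inv_cancel_right]
  have hnotC : ∀ k : ℕ, 0 < k → k < m → σ ^ k ∉ C := by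
    intro k hk0 hkm hkC
    have h1 : ((σ' ^ k : N) : N ⧸ C.subgroupOf N) = 1 := by
      rw [QuotientGroup.eq_one_iff, Subgroup.mem_subgroupOf]
      exact hkC
    rw [QuotientGroup.mk_pow] at h1
    have h2 := orderOf_dvd_of_pow_eq_one h1
    rw [hord] at h2
    have := Nat.le_of_dvd hk0 h2
    omega
  have hfree : ∀ k : ℕ, 0 < k → k < m → ∀ w ∈ (P : Subgroup G), w ≠ 1 →
      σ ^ k * w * (σ ^ k)⁻¹ ≠ w := by
    intro k hk0 hkm w hw hw1 hfix
    apply hnotC k hk0 hkm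
    rw [← hfrob w hw hw1]
    refine Subgroup.mem_inf.mpr ⟨?_, Subgroup.pow_mem _ hσN k⟩
    rw [Subgroup.mem_centralizer_singleton_iff]
    calc σ ^ k * w = (σ ^ k * w * (σ ^ k)⁻¹) * σ ^ k := by group
      _ = w * σ ^ k := by rw [hfix]
  have hdec : ∀ n ∈ N, ∃ k : ℕ, k < m ∧ (σ ^ k)⁻¹ * n ∈ C := by
    intro n hn
    set n' : N := ⟨n, hn⟩ with hn'
    obtain ⟨j, hj⟩ := hmemz (n' : N ⧸ C.subgroupOf N)
    have hj3 := zpow_mod_natCard (σ' : N ⧸ C.subgroupOf N) j
    rw [hcard] at hj3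
    obtain ⟨k, hk⟩ : ∃ k : ℕ, (k : ℤ) = j % ((m : ℕ) : ℤ) :=
      ⟨(j % ((m : ℕ) : ℤ)).toNat, Int.toNat_of_nonneg (Int.emod_nonneg _ (by exact_mod_cast hm.ne'))⟩
    have hk3 : k < m := by
      have := Int.emod_lt_of_pos j (show (0 : ℤ) < ((m : ℕ) : ℤ) by exact_mod_cast hm)
      omega
    refine ⟨k, hk3, ?_⟩
    have hq : ((σ' ^ k : N) : N ⧸ C.subgroupOf N) = (n' : N ⧸ C.subgroupOf N) := by
      rw [QuotientGroup.mk_pow, ← zpow_natCast, hk, hj3]
      exact hj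
    have hq' := QuotientGroup.eq.mp hq
    rw [Subgroup.mem_subgroupOf] at hq'
    simpa using hq'
  refine ⟨σ, ⟨P.2, hcomm, hσN, hpow, hfree, hdec, ?_, ?_⟩⟩
  · -- fusion
    intro w hw w' hw' hc
    obtain ⟨g, hg⟩ := isConj_iff.mp hc
    obtain ⟨n, hnN, hn⟩ := Cfsg.Agent.Lib.Helper4_KleinSylow.burnside_fusion P hcomm w g hw
      (by rw [hg]; exact hw')
    rw [hg] at hn
    obtain ⟨k, hk3, hk⟩ := hdec n hnN
    have hcw := Subgroup.mem_centralizer_iff.mp hk w hw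
    have hnw : n * w * n⁻¹ = σ ^ k * w * (σ ^ k)⁻¹ := by
      have : n = σ ^ k * ((σ ^ k)⁻¹ * n) := by group
      rw [this]
      calc σ ^ k * ((σ ^ k)⁻¹ * n) * w * (σ ^ k * ((σ ^ k)⁻¹ * n))⁻¹
          = σ ^ k * (((σ ^ k)⁻¹ * n) * w) * ((σ ^ k)⁻¹ * n)⁻¹ * (σ ^ k)⁻¹ := by group
        _ = σ ^ k * (w * ((σ ^ k)⁻¹ * n)) * ((σ ^ k)⁻¹ * n)⁻¹ * (σ ^ k)⁻¹ := by rw [hcw]
        _ = σ ^ k * w * (σ ^ k)⁻¹ := by group
    rw [hnw] at hn
    exact ⟨k, hk3, hn.symm⟩
  · intro w hw hw1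
    exact centralizer_npc P hcomm hfrob w hw hw1

end Construction

end Cfsg.Agent.Lib.Helper17_AbSylowGroup
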