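import Mathlib
import Cfsg.Agent.Lib.Helper17_Coherence

/-!
# Coherence combinatorics, full form (helper17)

The same argument as `Helper17_Coherence.exceptional_abstract`, but exposing the map `c` from
the index set of the family to the exceptional coordinates together with all its properties.
-/

set_option autoImplicit false

namespace Cfsg.Agent.Lib.Helper17_CoherenceFull

open Finset Cfsg.Agent.Lib.Helper17_Coherence

variable {I : Type*} [Fintype I] [DecidableEq I]

/-- The abstract theory of exceptional characters, with the full description of the family: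
`a t = Δ - ε e_{c t}`, `c s = c t ↔ rel s t`, `Δ (c t) = 0`, `Δ i0 = 1`, `‖Δ‖² = e`,
`∑ Δ d = ε d (c t)` and `d i ≡ Δ i (mod p)` on the support of `Δ`. -/
theorem exceptional_abstract_full {L : Type*} [Fintype L] [DecidableEq L]
    (i0 : I) (a : L → I → ℤ) (d m : I → ℤ) (p e : ℕ) (rel : L → L → Prop) [DecidableRel rel]
    (hd : ∀ i, 0 < d i)
    (hrefl : ∀ s, rel s s)
    (hgram : ∀ s t, ∑ i, a s i * a t i = (e : ℤ) + if rel s t then 1 else 0)
    (hdeg : ∀ s, ∑ i, a s i * d i = 0)
    (hi0 : ∀ s, a s i0 = 1)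
    (hcong : ∀ i, d i = (p : ℤ) * m i - ∑ s, a s i)
    (hcard : Fintype.card L + 1 = p)
    (hcls : ∀ s, (Finset.univ.filter (fun t => rel s t)).card ≤ e)
    (hbig : e * (e + 2) + 1 ≤ p) (he : 1 ≤ e) :
    ∃ (Δ : I → ℤ) (ε : ℤ) (c : L → I), (ε = 1 ∨ ε = -1) ∧ Δ i0 = 1 ∧ ∑ i, Δ i ^ 2 = e ∧
      (∀ t, Δ (c t) = 0) ∧ (∀ s t, rel s t ↔ c s = c t) ∧
      (∀ t i, a t i = Δ i - ε * ei (c t) i) ∧
      (∀ t, ∑ i, Δ i * d i = ε * d (c t)) ∧
      ∀ i, Δ i ≠ 0 → (d i ≡ Δ i [ZMOD p]) := by
  classical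
  have : Nonempty I := ⟨i0⟩
  -- Step 1: pairwise structure
  have hsq : ∀ s t, ∑ i, (a s i - a t i) ^ 2 =
      (∑ i, a s i * a s i) - 2 * (∑ i, a s i * a t i) + ∑ i, a t i * a t i := by
    intro s t
    rw [Finset.mul_sum, ← Finset.sum_sub_distrib, ← Finset.sum_add_distrib]
    apply Finset.sum_congr rfl
    intro i _
    ring
  have hpair : ∀ s t, a s = a t ∨ ∃ X Y : I, X ≠ Y ∧ ∀ i, a s i = a t i + ei X i - ei Y i := by
    intro s t
    by_cases hst : rel s t
    · left
      have h0 : ∑ i, (a s i - a t i) ^ 2 = 0 := by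
        rw [hsq, hgram s s, hgram s t, hgram t t, if_pos (hrefl s), if_pos hst, if_pos (hrefl t)]
        ring
      have h1 := (Finset.sum_eq_zero_iff_of_nonneg (fun i _ => sq_nonneg (a s i - a t i))).mp h0
      funext i
      have := h1 i (Finset.mem_univ i)
      have := pow_eq_zero_iff (two_ne_zero) |>.mp this
      omega
    · right
      have h2 : ∑ i, (a s i - a t i) ^ 2 = 2 := by
        rw [hsq, hgram s s, hgram s t, hgram t t, if_pos (hrefl s), if_neg hst, if_pos (hrefl t)]
        ring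
      have h0 : ∑ i, (a s i - a t i) * d i = 0 := by
        have : ∀ i, (a s i - a t i) * d i = a s i * d i - a t i * d i := fun i => by ring
        rw [Finset.sum_congr rfl (fun i _ => this i), Finset.sum_sub_distrib, hdeg s, hdeg t]
        ring
      obtain ⟨X, Y, hXY, hδ⟩ := root_of_norm_two (fun i => a s i - a t i) d hd h2 h0
      refine ⟨X, Y, hXY, ?_⟩
      intro i
      have := hδ i
      omega
  -- Step 2: coherence
  obtain ⟨Δ, ε, c, hε, hform⟩ := coherent a hpair
  have hε0 : ε ≠ 0 := by rcases hε with h | h <;> rw [h] <;> norm_num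
  have hεsq : ε * ε = 1 := by rcases hε with h | h <;> rw [h] <;> norm_num
  -- Step 3a
  have hrel_iff : ∀ s t, rel s t ↔ c s = c t := by
    intro s t
    constructor
    · intro hst
      have heq : a s = a t := by
        rcases hpair s t with h1 | ⟨X, Y, hXY, h1⟩
        · exact h1
        · exfalso
          have h2 : ∑ i, (a s i - a t i) ^ 2 = 0 := by
            rw [hsq, hgram s s, hgram s t, hgram t t, if_pos (hrefl s), if_pos hst,
              if_pos (hrefl t)]
            ring
          have h3 := (Finset.sum_eq_zero_iff_of_nonneg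
            (fun i _ => sq_nonneg (a s i - a t i))).mp h2 X (Finset.mem_univ X)
          have h4 := pow_eq_zero_iff (two_ne_zero) |>.mp h3
          have h5 := h1 X
          rw [ei_self, ei_ne hXY] at h5
          omega
      have h1 := congrFun heq (c s)
      rw [hform s, hform t, ei_self] at h1
      have h2 : ε * (ei (c t) (c s) - 1) = 0 := by linarith
      rcases mul_eq_zero.mp h2 with h3 | h3
      · exact absurd h3 hε0
      · exact (ei_eq_one_iff (c t) (c s)).mp (by omega)
    · intro hc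
      by_contra hst
      have heq : a s = a t := by
        funext i
        rw [hform s, hform t, hc]
      have h1 := hgram s t
      rw [heq, hgram t t, if_pos (hrefl t), if_neg hst] at h1
      omega
  -- Step 3b
  have hex : ∀ s, ∃ t, ¬ rel s t := by
    intro s
    by_contra hcon
    push Not at hcon
    have h1 : Finset.univ.filter (fun t => rel s t) = Finset.univ := by
      apply Finset.filter_true_of_mem
      intro t _
      exact hcon t
    have h2 := hcls s
    rw [h1, Finset.card_univ] at h2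
    nlinarith
  have hL : Nonempty L := by
    by_contra hcon
    rw [not_nonempty_iff] at hcon
    rw [Fintype.card_eq_zero] at hcard
    nlinarith
  obtain ⟨t0⟩ := hL
  -- Step 3c
  have hci0 : ∀ t, c t ≠ i0 := by
    intro t hct
    obtain ⟨s, hs⟩ := hex t
    have hcs : c s ≠ c t := fun h => hs ((hrel_iff t s).mpr h.symm)
    have h1 := hi0 s
    rw [hform s, ei_ne (by rw [← hct]; exact Ne.symm hcs)] at h1
    have h2 := hi0 t
    rw [hform t, hct, ei_self] at h2
    have : ε = 0 := by linarith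
    exact hε0 this
  have hΔ0 : Δ i0 = 1 := by
    have h1 := hi0 t0
    rw [hform t0, ei_ne (Ne.symm (hci0 t0))] at h1
    linarith
  -- Step 3d
  have hnorm : ∀ t, ∑ i, Δ i ^ 2 = e + 2 * ε * Δ (c t) := by
    intro t
    have h1 := hgram t t
    rw [if_pos (hrefl t)] at h1
    have h2 : ∑ i, a t i * a t i =
        ∑ i, Δ i ^ 2 - 2 * ε * (∑ i, ei (c t) i * Δ i) + (ε * ε) * ∑ i, ei (c t) i ^ 2 := by
      rw [Finset.mul_sum, Finset.mul_sum, ← Finset.sum_sub_distrib, ← Finset.sum_add_distrib]
      apply Finset.sum_congr rfl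
      intro i _
      rw [hform t i]
      ring
    rw [h2, sum_ei_mul, sum_ei_sq, hεsq] at h1
    linarith
  have hx : ∀ t, Δ (c t) = Δ (c t0) := by
    intro t
    have h1 := hnorm t
    have h2 := hnorm t0
    have h3 : ε * (Δ (c t) - Δ (c t0)) = 0 := by linarith
    rcases mul_eq_zero.mp h3 with h4 | h4
    · exact absurd h4 hε0
    · linarith
  -- Step 3f
  have hcardL : Fintype.card L ≤ e * (Finset.univ.image c).card := by
    rw [← Finset.card_univ]
    apply Finset.card_le_mul_card_image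
    intro b hb
    rw [Finset.mem_image] at hb
    obtain ⟨t, _, rfl⟩ := hb
    have : Finset.univ.filter (fun s => c s = c t) = Finset.univ.filter (fun s => rel t s) := by
      apply Finset.filter_congr
      intro s _
      rw [hrel_iff t s]
      exact eq_comm
    rw [this]
    exact hcls t
  have hk : e + 2 ≤ (Finset.univ.image c).card := by
    have h1 : e * (e + 2) ≤ e * (Finset.univ.image c).card := by omega
    exact Nat.le_of_mul_le_mul_left h1 (by omega)
  have hlower : 1 + ((Finset.univ.image c).card : ℤ) * Δ (c t0) ^ 2 ≤ ∑ i, Δ i ^ 2 := by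
    have h1 : ∑ i ∈ insert i0 (Finset.univ.image c), Δ i ^ 2 ≤ ∑ i, Δ i ^ 2 :=
      Finset.sum_le_sum_of_subset_of_nonneg (Finset.subset_univ _) (fun i _ _ => sq_nonneg _)
    have hnot : i0 ∉ Finset.univ.image c := by
      rw [Finset.mem_image]
      rintro ⟨t, _, ht⟩
      exact hci0 t ht
    rw [Finset.sum_insert hnot, hΔ0] at h1
    have h2 : ∑ i ∈ Finset.univ.image c, Δ i ^ 2 =
        ((Finset.univ.image c).card : ℤ) * Δ (c t0) ^ 2 := by
      rw [← nsmul_eq_mul, ← Finset.sum_const]
      apply Finset.sum_congr rfl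
      intro i hi
      rw [Finset.mem_image] at hi
      obtain ⟨t, _, rfl⟩ := hi
      rw [hx t]
    rw [h2] at h1
    linarith
  have hx0 : Δ (c t0) = 0 := by
    by_contra hne
    have h1 := hnorm t0
    rw [h1] at hlower
    set x := Δ (c t0) with hxdef
    have hk' : ((e : ℤ) + 2) ≤ ((Finset.univ.image c).card : ℤ) := by exact_mod_cast hk
    have hx1 : 1 ≤ x ^ 2 := by
      have : 0 < x ^ 2 := by positivity
      omega
    have h2 : 2 * ε * x ≤ x ^ 2 + 1 := by
      rcases hε with h | h <;> rw [h] <;> nlinarith [sq_nonneg (x - 1), sq_nonneg (x + 1)]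
    have h3 : ((e : ℤ) + 2) * x ^ 2 ≤ ((Finset.univ.image c).card : ℤ) * x ^ 2 :=
      mul_le_mul_of_nonneg_right hk' (sq_nonneg x)
    nlinarith
  -- conclusion
  refine ⟨Δ, ε, c, hε, hΔ0, ?_, fun t => by rw [hx t, hx0], hrel_iff, hform, ?_, ?_⟩
  · rw [hnorm t0, hx0]; ring
  · intro t
    have h1 := hdeg t
    have h2 : ∑ i, a t i * d i = ∑ i, Δ i * d i - ε * ∑ i, ei (c t) i * d i := by
      rw [Finset.mul_sum, ← Finset.sum_sub_distrib]
      apply Finset.sum_congr rfl
      intro i _
      rw [hform t i]; ring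
    rw [h2, sum_ei_mul] at h1
    linarith
  · intro i hi
    have hnotc : ∀ t, c t ≠ i := by
      intro t hct
      apply hi
      rw [← hct, hx t, hx0]
    have h1 : ∑ s, a s i = (Fintype.card L : ℤ) * Δ i := by
      rw [← Finset.card_univ, ← nsmul_eq_mul, ← Finset.sum_const]
      apply Finset.sum_congr rfl
      intro s _
      rw [hform s i, ei_ne (Ne.symm (hnotc s))]; ring
    have h2 := hcong i
    rw [h1] at h2
    have h3 : (Fintype.card L : ℤ) = p - 1 := by
      have : (Fintype.card L : ℤ) + 1 = p := by exact_mod_cast hcard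
      linarith
    rw [h3] at h2
    rw [Int.modEq_iff_dvd]
    refine ⟨Δ i - m i, ?_⟩
    rw [h2]; ring

/-- An integer vector of norm `3` with a coordinate equal to `1` is supported on three
coordinates, with values `±1`. -/
theorem shape_three_supp (i0 : I) (Δ : I → ℤ) (h0 : Δ i0 = 1) (h : ∑ i, Δ i ^ 2 = 3) :
    ∃ ψ ψ', ψ ≠ i0 ∧ ψ' ≠ i0 ∧ ψ ≠ ψ' ∧ (Δ ψ = 1 ∨ Δ ψ = -1) ∧ (Δ ψ' = 1 ∨ Δ ψ' = -1) ∧
      ∀ i, i ≠ i0 → i ≠ ψ → i ≠ ψ' → Δ i = 0 := by
  have h1 := Finset.add_sum_erase Finset.univ (fun i => Δ i ^ 2) (Finset.mem_univ i0)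
  rw [h0, h] at h1
  have h2 : ∑ i ∈ Finset.univ.erase i0, Δ i ^ 2 = 2 := by omega
  obtain ⟨ψ, hψS, ψ', hψ'S, hψψ', hψ, hψ', hrest⟩ := sum_sq_eq_two _ Δ h2
  have hne : ψ ≠ i0 := Finset.ne_of_mem_erase hψS
  have hne' : ψ' ≠ i0 := Finset.ne_of_mem_erase hψ'S
  refine ⟨ψ, ψ', hne, hne', hψψ', hψ, hψ', ?_⟩
  intro i hi0 hi1 hi2
  exact hrest i (Finset.mem_erase.mpr ⟨hi0, Finset.mem_univ i⟩) hi1 hi2

/-- The arithmetic at the end of Brauer's argument: if `a ≡ b ≡ 1 (mod 16)` are nonzero
integers with `(ab + a + b)(1 + a + b) = 9ab` then `a = b = 1`. -/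
theorem arith_final (a b : ℤ) (ha : (16 : ℤ) ∣ a - 1) (hb : (16 : ℤ) ∣ b - 1)
    (h : (a * b + a + b) * (1 + a + b) = 9 * (a * b)) : a = 1 ∧ b = 1 := by
  obtain ⟨u, hu⟩ := ha
  obtain ⟨v, hv⟩ := hb
  have ha' : a = 16 * u + 1 := by linarith
  have hb' : b = 16 * v + 1 := by linarith
  -- `(s - 8) (q + s + 9) = -72` with `s = a + b`, `q = a b`
  have key : (a + b - 8) * (a * b + (a + b) + 9) = -72 := by nlinarith
  have hdvd : (a + b - 8) ∣ 72 := by
    refine ⟨-(a * b + (a + b) + 9), ?_⟩
    linarith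
  have hs : a + b - 8 = 16 * (u + v) - 6 := by rw [ha', hb']; ring
  rw [hs] at hdvd
  have hne : (16 * (u + v) - 6 : ℤ) ≠ 0 := by omega
  have hle := Int.le_of_dvd (by norm_num) hdvd
  have hle' : -(16 * (u + v) - 6) ≤ 72 := by
    apply Int.le_of_dvd (by norm_num)
    exact (Int.neg_dvd).mpr hdvd
  have huv : u + v = 0 := by
    set k := u + v with hk
    have h1 : -4 ≤ k := by omega
    have h2 : k ≤ 4 := by omega
    interval_cases k <;> first | rfl | (exfalso; revert hdvd; norm_num)
  have hs2 : a + b = 2 := by rw [ha', hb']; linarith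
  have hq : a * b = 1 := by
    have : a + b - 8 = -6 := by linarith
    rw [this, hs2] at key
    linarith
  have hsq : (a - 1) ^ 2 = 0 := by linear_combination a * hs2 - hq
  have ha1 : a = 1 := by
    have := pow_eq_zero_iff (two_ne_zero) |>.mp hsq
    linarith
  exact ⟨ha1, by linarith⟩

end Cfsg.Agent.Lib.Helper17_CoherenceFull
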