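import Mathlib
import Cfsg.Prelude.Def_Solvable
import Cfsg.Prelude.Def_Blocks
import Cfsg.Agent.Lib.Helper16_Homocyclic
import Cfsg.Agent.Lib.Helper4_KleinSylow
import Cfsg.Agent.Lib.Helper1_Cores
import Cfsg.Agent.S4145

/-!
# Group theory for a homocyclic Sylow `2`-subgroup `Z/2^m × Z/2^m` (helper17)

The data `HD P σ t z` used by the character-theoretic part of Brauer's theorem: `P` is an abelian
Sylow `2`-subgroup, `σ` an element of `N_G(P)` of order `3` modulo `C_G(P)` acting freely on `P`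
and controlling the fusion in `P`, `t` an involution of `P`, `z` an element of `P` with `z² ≠ 1`,
and the centralizers of the non-identity elements of `P` have normal `2`-complements.
-/

set_option autoImplicit false

namespace Cfsg.Agent.Lib.Helper17_HomoGroup

open Cfsg Cfsg.Agent.Lib.Helper16_Homocyclic

variable {G : Type*} [Group G]

/-- The standing data. -/
structure HD (P : Subgroup G) (σ t z : G) : Prop where
  two : IsPGroup 2 P
  comm : ∀ a ∈ P, ∀ b ∈ P, a * b = b * a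
  norm : σ ∈ Subgroup.normalizer (P : Set G)
  cube : ∀ w ∈ P, σ ^ 3 * w * (σ ^ 3)⁻¹ = w
  free : ∀ w ∈ P, w ≠ 1 → σ * w * σ⁻¹ ≠ w
  fusion : ∀ w ∈ P, ∀ w' ∈ P, IsConj w w' →
    w' = w ∨ w' = σ * w * σ⁻¹ ∨ w' = σ * (σ * w * σ⁻¹) * σ⁻¹
  npc : ∀ w ∈ P, w ≠ 1 →
    (∃ k : ℕ, (pPrimeCore 2 (Subgroup.centralizer ({w} : Set G))).index = 2 ^ k) ∧
      2 ^ (Nat.card (Subgroup.centralizer ({w} : Set G))).factorization 2 = Nat.card P
  big : 16 ∣ Nat.card P
  tmem : t ∈ P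
  tsq : t ^ 2 = 1
  tne : t ≠ 1
  tprod : σ * (σ * t * σ⁻¹) * σ⁻¹ = t * (σ * t * σ⁻¹)
  zmem : z ∈ P
  zsq : z ^ 2 ≠ 1

section Consequences

variable {P : Subgroup G} {σ t z : G}

theorem HD.conj_mem (hd : HD P σ t z) {w : G} (hw : w ∈ P) : σ * w * σ⁻¹ ∈ P :=
  (Subgroup.mem_normalizer_iff.mp hd.norm w).mp hw

theorem HD.conj_conj_conj (hd : HD P σ t z) {w : G} (hw : w ∈ P) :
    σ * (σ * (σ * w * σ⁻¹) * σ⁻¹) * σ⁻¹ = w := by
  have e3 : σ ^ 3 = σ * σ * σ := by rw [pow_succ, pow_succ, pow_one]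
  calc σ * (σ * (σ * w * σ⁻¹) * σ⁻¹) * σ⁻¹ = σ ^ 3 * w * (σ ^ 3)⁻¹ := by
        rw [e3]; simp only [mul_inv_rev, mul_assoc]
    _ = w := hd.cube w hw

theorem HD.conj_ne_one {w : G} (hw1 : w ≠ 1) : σ * w * σ⁻¹ ≠ 1 := by
  intro h
  apply hw1
  have : w = σ⁻¹ * (σ * w * σ⁻¹) * σ := by group
  rw [this, h]; group

theorem HD.conj2_ne (hd : HD P σ t z) {w : G} (hw : w ∈ P) (hw1 : w ≠ 1) :
    σ * (σ * w * σ⁻¹) * σ⁻¹ ≠ w := by
  intro h
  have h3 := hd.conj_conj_conj hw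
  rw [h] at h3
  exact hd.free w hw hw1 h3

theorem HD.conj2_ne_conj (hd : HD P σ t z) {w : G} (hw : w ∈ P) (hw1 : w ≠ 1) :
    σ * (σ * w * σ⁻¹) * σ⁻¹ ≠ σ * w * σ⁻¹ :=
  hd.free _ (hd.conj_mem hw) (HD.conj_ne_one hw1)

/-- An element of `P` which is not an involution is not conjugate to its inverse. -/
theorem HD.not_isConj_inv (hd : HD P σ t z) {v : G} (hv : v ∈ P) (hv2 : v ^ 2 ≠ 1) :
    ¬ IsConj v v⁻¹ := by
  intro hc
  have hv1 : v ≠ 1 := by
    intro h
    apply hv2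
    rw [h, one_pow]
  have hinv : ∀ a : G, σ * a⁻¹ * σ⁻¹ = (σ * a * σ⁻¹)⁻¹ := fun a => by group
  rcases hd.fusion v hv v⁻¹ (P.inv_mem hv) hc with h | h | h
  · apply hv2
    rw [pow_two]
    nth_rewrite 1 [← inv_inv v]
    rw [h, inv_mul_cancel]
  · -- `σ v σ⁻¹ = v⁻¹`, so `σ² v σ⁻² = v`
    apply hd.conj2_ne hv hv1
    rw [← h, hinv, ← h, inv_inv]
  · -- `σ² v σ⁻² = v⁻¹`, so `σ⁴ v σ⁻⁴ = v`, i.e. `σ v σ⁻¹ = v`
    apply hd.free v hv hv1
    have h3 := hd.conj_conj_conj hv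
    have e1 : σ * (σ * v⁻¹ * σ⁻¹) * σ⁻¹ = v := by
      rw [hinv, hinv, ← h, inv_inv]
    have e2 : σ * (σ * v⁻¹ * σ⁻¹) * σ⁻¹ = σ * v * σ⁻¹ := by
      conv_lhs => rw [h]
      rw [h3]
    rw [← e2, e1]

/-- A product of two involutions never lies in the `2`-section of an element of `P` which is not an
involution. -/
theorem HD.no_pairs (hd : HD P σ t z) (g z' : G) (hgz : Cfsg.IsPPart 2 g z') {v : G} (hv : v ∈ P)
    (hv2 : v ^ 2 ≠ 1) (hz : IsConj v z') (x y : G) (hx : x ^ 2 = 1) (hy : y ^ 2 = 1) :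
    x * y ≠ g := by
  intro hxy
  obtain ⟨y', hzy, hcomm, -, hodd⟩ := hgz
  obtain ⟨c, hc⟩ := isConj_iff.mp hz
  set m := orderOf y' with hm
  have hmodd : Odd m := by
    rw [← Nat.not_even_iff_odd, even_iff_two_dvd]; exact hodd
  have hgm : g ^ m = z' ^ m := by
    rw [← hzy, hcomm.mul_pow, hm, pow_orderOf_eq_one, mul_one]
  have hxinv : x⁻¹ = x := by
    rw [inv_eq_iff_mul_eq_one, ← pow_two, hx]
  have hyinv : y⁻¹ = y := by
    rw [inv_eq_iff_mul_eq_one, ← pow_two, hy]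
  have hginv : x * g * x⁻¹ = g⁻¹ := by
    rw [← hxy, mul_inv_rev, hxinv, hyinv]
    have : x * (x * y) * x = (x * x) * y * x := by group
    rw [this, ← pow_two, hx, one_mul]
  -- `v ^ m` is conjugate to its inverse
  have hvm : v ^ m ∈ P := P.pow_mem hv m
  have hvm2 : (v ^ m) ^ 2 ≠ 1 := by
    intro h
    obtain ⟨k, hk⟩ := (IsPGroup.iff_orderOf.mp hd.two) ⟨v, hv⟩
    have hk' : orderOf v = 2 ^ k := by
      rw [← hk]; exact (Subgroup.orderOf_mk v hv).symm
    have h1 : orderOf v ∣ m * 2 := by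
      apply orderOf_dvd_of_pow_eq_one
      rw [pow_mul]; exact h
    have hcop : Nat.Coprime (orderOf v) m := by
      rw [hk']
      apply Nat.Coprime.pow_left
      exact Nat.coprime_two_left.mpr hmodd
    have h2 : orderOf v ∣ 2 := hcop.dvd_of_dvd_mul_left h1
    apply hv2
    exact orderOf_dvd_iff_pow_eq_one.mp h2
  apply hd.not_isConj_inv hvm hvm2
  rw [isConj_iff]
  refine ⟨c⁻¹ * x * c, ?_⟩
  have h1 : c * v ^ m * c⁻¹ = z' ^ m := by rw [← hc, conj_pow]
  have h2 : x * z' ^ m * x⁻¹ = (z' ^ m)⁻¹ := by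
    rw [← hgm, ← conj_pow, hginv, inv_pow]
  calc c⁻¹ * x * c * v ^ m * (c⁻¹ * x * c)⁻¹
      = c⁻¹ * (x * (c * v ^ m * c⁻¹) * x⁻¹) * c := by group
    _ = c⁻¹ * (c * v ^ m * c⁻¹)⁻¹ * c := by rw [h1, h2]
    _ = (v ^ m)⁻¹ := by group

end Consequences

section Construction

variable [Finite G]

omit [Finite G] in
/-- Every element of `N_G(P)` is a power of `σ` times an element of `C_G(P)`. -/
theorem exists_pow_mul_mem {P : Subgroup G}
    (h3 : (Subgroup.centralizer (P : Set G)).relIndex (Subgroup.normalizer (P : Set G)) = 3)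
    {σ : G} (hσ : σ ∈ Subgroup.normalizer (P : Set G))
    (hσC : σ ∉ Subgroup.centralizer (P : Set G)) {n : G}
    (hn : n ∈ Subgroup.normalizer (P : Set G)) :
    ∃ k : ℕ, k < 3 ∧ (σ ^ k)⁻¹ * n ∈ Subgroup.centralizer (P : Set G) := by
  have hnorm : ((Subgroup.centralizer (P : Set G)).subgroupOf
      (Subgroup.normalizer (P : Set G))).Normal := by
    rw [← Subgroup.normalizerMonoidHom_ker]; infer_instance
  have hcard : Nat.card (Subgroup.normalizer (P : Set G) ⧸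
      (Subgroup.centralizer (P : Set G)).subgroupOf (Subgroup.normalizer (P : Set G))) = 3 := h3
  have : Fact (Nat.Prime 3) := ⟨by norm_num⟩
  set σ' : Subgroup.normalizer (P : Set G) := ⟨σ, hσ⟩ with hσ'
  set n' : Subgroup.normalizer (P : Set G) := ⟨n, hn⟩ with hn'
  have hσ1 : (σ' : Subgroup.normalizer (P : Set G) ⧸
      (Subgroup.centralizer (P : Set G)).subgroupOf (Subgroup.normalizer (P : Set G))) ≠ 1 := by
    rw [Ne, QuotientGroup.eq_one_iff, Subgroup.mem_subgroupOf]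
    exact hσC
  have htop := zpowers_eq_top_of_prime_card hcard hσ1
  have hmem : (n' : Subgroup.normalizer (P : Set G) ⧸
      (Subgroup.centralizer (P : Set G)).subgroupOf (Subgroup.normalizer (P : Set G))) ∈
      Subgroup.zpowers (σ' : Subgroup.normalizer (P : Set G) ⧸
      (Subgroup.centralizer (P : Set G)).subgroupOf (Subgroup.normalizer (P : Set G))) := by
    rw [htop]; trivial
  obtain ⟨j, hj⟩ := hmem
  have hj3 := zpow_mod_natCard (σ' : Subgroup.normalizer (P : Set G) ⧸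
      (Subgroup.centralizer (P : Set G)).subgroupOf (Subgroup.normalizer (P : Set G))) j
  rw [hcard] at hj3
  obtain ⟨k, hk⟩ : ∃ k : ℕ, (k : ℤ) = j % ((3 : ℕ) : ℤ) :=
    ⟨(j % ((3 : ℕ) : ℤ)).toNat, Int.toNat_of_nonneg (Int.emod_nonneg _ (by norm_num))⟩
  have hk3 : k < 3 := by
    have := Int.emod_lt_of_pos j (show (0 : ℤ) < ((3 : ℕ) : ℤ) by norm_num)
    omega
  refine ⟨k, hk3, ?_⟩
  have hq : ((σ' ^ k : Subgroup.normalizer (P : Set G)) : Subgroup.normalizer (P : Set G) ⧸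
      (Subgroup.centralizer (P : Set G)).subgroupOf (Subgroup.normalizer (P : Set G))) =
      (n' : Subgroup.normalizer (P : Set G) ⧸
      (Subgroup.centralizer (P : Set G)).subgroupOf (Subgroup.normalizer (P : Set G))) := by
    rw [QuotientGroup.mk_pow, ← zpow_natCast, hk, hj3]
    exact hj
  have hq' := QuotientGroup.eq.mp hq
  rw [Subgroup.mem_subgroupOf] at hq'
  simpa using hq'

/-- The centralizer of a non-identity element of `P` has a normal `2`-complement. -/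
theorem centralizer_npc (P : Sylow 2 G) (h : Hyp (P : Subgroup G)) (w : G)
    (hw : w ∈ (P : Subgroup G)) (hw1 : w ≠ 1) :
    (∃ k : ℕ, (pPrimeCore 2 (Subgroup.centralizer ({w} : Set G))).index = 2 ^ k) ∧
      2 ^ (Nat.card (Subgroup.centralizer ({w} : Set G))).factorization 2 =
        Nat.card (P : Subgroup G) := by
  have : Fact (Nat.Prime 2) := ⟨Nat.prime_two⟩
  have hPH : (P : Subgroup G) ≤ Subgroup.centralizer ({w} : Set G) := by
    intro a ha
    rw [Subgroup.mem_centralizer_iff]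
    intro k hk
    rw [Set.mem_singleton_iff] at hk
    rw [hk]
    exact h.comm w hw a ha
  set H := Subgroup.centralizer ({w} : Set G) with hH
  let Q : Sylow 2 H := P.subtype hPH
  have hQcoe : (Q : Subgroup H) = (P : Subgroup G).subgroupOf H := Sylow.coe_subtype P hPH
  have hQcard : Nat.card (Q : Subgroup H) = Nat.card (P : Subgroup G) := by
    rw [hQcoe, Nat.card_congr (Subgroup.subgroupOfEquivOfLe hPH).toEquiv]
  have hNC : Subgroup.normalizer ((Q : Subgroup H) : Set H) ≤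
      Subgroup.centralizer ((Q : Subgroup H) : Set H) := by
    intro n hn
    rw [hQcoe, ← Subgroup.subgroupOf_normalizer_eq hPH, Subgroup.mem_subgroupOf] at hn
    rw [Subgroup.mem_centralizer_iff]
    intro q hq
    rw [hQcoe] at hq
    have hqP : (q : G) ∈ (P : Subgroup G) := Subgroup.mem_subgroupOf.mp hq
    have hnC : (n : G) ∈ Subgroup.centralizer ((P : Subgroup G) : Set G) := by
      rw [← h.centralizer_inf_normalizer hw hw1]
      exact ⟨n.2, hn⟩
    have := Subgroup.mem_centralizer_iff.mp hnC (q : G) hqP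
    apply Subtype.ext
    push_cast
    exact this
  obtain ⟨K, hKn, hKc, hKcop, -, -⟩ := Cfsg.Agent.S4145.exists_normal_pcomplement Q hNC
  have hPcard := P.card_eq_multiplicity
  constructor
  · have hKle : K ≤ pPrimeCore 2 H := Cfsg.Agent.Lib.Helper1_Cores.le_pPrimeCore hKn hKcop
    have hdvd : (pPrimeCore 2 H).index ∣ K.index := Subgroup.index_dvd_of_le hKle
    have hKidx : K.index = 2 ^ (Nat.card G).factorization 2 := by
      rw [hKc.symm.index_eq_card, hQcard, hPcard]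
    rw [hKidx] at hdvd
    obtain ⟨k, -, hk⟩ := (Nat.dvd_prime_pow Nat.prime_two).mp hdvd
    exact ⟨k, hk⟩
  · have h1 := Q.card_eq_multiplicity
    rw [← h1, hQcard]

/-- The data exist for a homocyclic Sylow `2`-subgroup `Z/2^m × Z/2^m`, `m ≥ 2`, whose
normalizer induces a group of order `3` of automorphisms. -/
theorem exists_HD (P : Sylow 2 G) (m : ℕ) (hm : 2 ≤ m)
    (e : (P : Subgroup G) ≃* Multiplicative (ZMod (2 ^ m) × ZMod (2 ^ m)))
    (h3 : (Subgroup.centralizer ((P : Subgroup G) : Set G)).relIndex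
      (Subgroup.normalizer ((P : Subgroup G) : Set G)) = 3) :
    ∃ σ t z : G, HD (P : Subgroup G) σ t z := by
  have : Fact (Nat.Prime 2) := ⟨Nat.prime_two⟩
  have h := hyp_of_equiv P m (by omega) e
  -- `σ`
  have hnle : ¬ Subgroup.normalizer ((P : Subgroup G) : Set G) ≤
      Subgroup.centralizer ((P : Subgroup G) : Set G) := by
    intro hle
    have := Subgroup.relIndex_eq_one.mpr hle
    omega
  obtain ⟨σ, hσN, hσC⟩ := SetLike.not_le_iff_exists.mp hnle
  have hσ3 : σ ^ 3 ∈ Subgroup.centralizer ((P : Subgroup G) : Set G) := by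
    have := pow_relIndex_mem_centralizer (P := (P : Subgroup G)) hσN
    rwa [h3] at this
  have hfree : ∀ w ∈ (P : Subgroup G), w ≠ 1 → σ * w * σ⁻¹ ≠ w := by
    intro w hw hw1 hfix
    apply hσC
    rw [← h.centralizer_inf_normalizer hw hw1]
    refine Subgroup.mem_inf.mpr ⟨?_, hσN⟩
    rw [Subgroup.mem_centralizer_singleton_iff]
    calc σ * w = (σ * w * σ⁻¹) * σ := by group
      _ = w * σ := by rw [hfix]
  have hconj : ∀ w ∈ (P : Subgroup G), σ * w * σ⁻¹ ∈ (P : Subgroup G) := fun w hw =>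
    (Subgroup.mem_normalizer_iff.mp hσN w).mp hw
  have hcube : ∀ w ∈ (P : Subgroup G), σ ^ 3 * w * (σ ^ 3)⁻¹ = w := by
    intro w hw
    have := Subgroup.mem_centralizer_iff.mp hσ3 w hw
    rw [← this, mul_inv_cancel_right]
  -- cardinality
  have hcard : Nat.card (P : Subgroup G) = 2 ^ m * 2 ^ m := by
    rw [Nat.card_congr e.toEquiv]
    have : NeZero (2 ^ m) := ⟨by positivity⟩
    rw [show Nat.card (Multiplicative (ZMod (2 ^ m) × ZMod (2 ^ m))) =
      Nat.card (ZMod (2 ^ m) × ZMod (2 ^ m)) from rfl, Nat.card_prod, Nat.card_zmod]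
  have hbig : 16 ∣ Nat.card (P : Subgroup G) := by
    rw [hcard]
    obtain ⟨j, rfl⟩ : ∃ j, m = j + 2 := ⟨m - 2, by omega⟩
    refine ⟨2 ^ j * 2 ^ j, ?_⟩
    ring
  -- an involution
  have h2dvd : 2 ∣ Nat.card (P : Subgroup G) := dvd_trans (by norm_num) hbig
  obtain ⟨t0, ht0⟩ := exists_prime_orderOf_dvd_card' 2 h2dvd
  set t : G := (t0 : G) with ht
  have htmem : t ∈ (P : Subgroup G) := t0.2
  have hot : orderOf t = 2 := by rw [ht, Subgroup.orderOf_coe]; exact ht0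
  have htsq : t ^ 2 = 1 := by rw [← hot]; exact pow_orderOf_eq_one t
  have htne : t ≠ 1 := by
    intro h1
    rw [h1, orderOf_one] at hot
    omega
  -- the three involutions
  have hcp : ∀ a : G, a ^ 2 = 1 → (σ * a * σ⁻¹) ^ 2 = 1 := by
    intro a ha
    rw [conj_pow, ha, mul_one, mul_inv_cancel]
  have hne1 : ∀ a : G, a ≠ 1 → σ * a * σ⁻¹ ≠ 1 := fun a ha => HD.conj_ne_one ha
  have hccc : ∀ w ∈ (P : Subgroup G), σ * (σ * (σ * w * σ⁻¹) * σ⁻¹) * σ⁻¹ = w := by
    intro w hw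
    have e3 : σ ^ 3 = σ * σ * σ := by rw [pow_succ, pow_succ, pow_one]
    calc σ * (σ * (σ * w * σ⁻¹) * σ⁻¹) * σ⁻¹ = σ ^ 3 * w * (σ ^ 3)⁻¹ := by
          rw [e3]; simp only [mul_inv_rev, mul_assoc]
      _ = w := hcube w hw
  have htprod : σ * (σ * t * σ⁻¹) * σ⁻¹ = t * (σ * t * σ⁻¹) := by
    have h1 : σ * t * σ⁻¹ ≠ t := hfree t htmem htne
    have h2 : σ * (σ * t * σ⁻¹) * σ⁻¹ ≠ σ * t * σ⁻¹ :=
      hfree _ (hconj t htmem) (hne1 t htne)
    have h3' : σ * (σ * t * σ⁻¹) * σ⁻¹ ≠ t := by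
      intro h'
      have := hccc t htmem
      rw [h'] at this
      exact h1 this
    rcases h.omega t htmem (σ * t * σ⁻¹) (hconj t htmem) (σ * (σ * t * σ⁻¹) * σ⁻¹)
      (hconj _ (hconj t htmem)) htsq (hcp t htsq) (hcp _ (hcp t htsq)) htne (hne1 t htne)
      (Ne.symm h1) with h' | h' | h' | h'
    · exact absurd h' (hne1 _ (hne1 t htne))
    · exact absurd h' h3'
    · exact absurd h' h2
    · exact h'
  -- an element of order at least four
  set z : G := ((e.symm (Multiplicative.ofAdd ((1 : ZMod (2 ^ m)), (0 : ZMod (2 ^ m)))) :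
    (P : Subgroup G)) : G) with hz
  have hzmem : z ∈ (P : Subgroup G) := (e.symm _).2
  have hzsq : z ^ 2 ≠ 1 := by
    intro hz2
    have h1 : (e.symm (Multiplicative.ofAdd ((1 : ZMod (2 ^ m)), (0 : ZMod (2 ^ m)))) :
        (P : Subgroup G)) ^ 2 = 1 := by
      apply Subtype.ext
      rw [Subgroup.coe_pow]
      exact hz2
    rw [← map_pow, map_eq_one_iff _ e.symm.injective] at h1
    have h2 := congrArg Multiplicative.toAdd h1
    rw [toAdd_pow, toAdd_ofAdd, toAdd_one, Prod.smul_mk, Prod.mk_eq_zero] at h2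
    have h4 : ((2 : ℕ) : ZMod (2 ^ m)) = 0 := by
      have := h2.1
      simpa using this
    rw [ZMod.natCast_eq_zero_iff] at h4
    have : 2 ^ 2 ≤ 2 ^ m := Nat.pow_le_pow_right (by norm_num) hm
    have := Nat.le_of_dvd (by norm_num) h4
    omega
  refine ⟨σ, t, z, ⟨P.2, h.comm, hσN, hcube, hfree, ?_, ?_, hbig, htmem, htsq, htne, htprod,
    hzmem, hzsq⟩⟩
  · -- fusion
    intro w hw w' hw' hc
    obtain ⟨g, hg⟩ := isConj_iff.mp hc
    obtain ⟨n, hnN, hn⟩ := Cfsg.Agent.Lib.Helper4_KleinSylow.burnside_fusion P h.comm w g hw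
      (by rw [hg]; exact hw')
    rw [hg] at hn
    obtain ⟨k, hk3, hk⟩ := exists_pow_mul_mem h3 hσN hσC hnN
    have hcw := Subgroup.mem_centralizer_iff.mp hk w hw
    have hnw : n * w * n⁻¹ = σ ^ k * w * (σ ^ k)⁻¹ := by
      have : n = σ ^ k * ((σ ^ k)⁻¹ * n) := by group
      rw [this]
      calc σ ^ k * ((σ ^ k)⁻¹ * n) * w * (σ ^ k * ((σ ^ k)⁻¹ * n))⁻¹
          = σ ^ k * (((σ ^ k)⁻¹ * n) * w) * ((σ ^ k)⁻¹ * n)⁻¹ * (σ ^ k)⁻¹ := by group
        _ = σ ^ k * (w * ((σ ^ k)⁻¹ * n)) * ((σ ^ k)⁻¹ * n)⁻¹ * (σ ^ k)⁻¹ := by rw [hcw]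
        _ = σ ^ k * w * (σ ^ k)⁻¹ := by group
    rw [hnw] at hn
    interval_cases k
    · left
      rw [← hn]; simp
    · right; left
      rw [← hn]; simp
    · right; right
      rw [← hn]
      simp only [pow_succ, pow_zero, one_mul, mul_inv_rev, mul_assoc]
  · intro w hw hw1
    exact centralizer_npc P h w hw hw1

end Construction

end Cfsg.Agent.Lib.Helper17_HomoGroup
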