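import Mathlib
import Cfsg.Prelude.Def_Blocks
import Cfsg.Prelude.Def_Characters
import Cfsg.Agent.Lib.Helper78_LocalRing
import Cfsg.Agent.Lib.Helper78_CharFacts
import Cfsg.Agent.Lib.Helper80_CharBasic
import Cfsg.Agent.Lib.Helper16_Char
import Cfsg.Agent.Lib.Helper16_BlockOrth
import Cfsg.Agent.Lib.Helper16_SectionNorm
import Cfsg.Agent.Lib.Helper77_WeakOrth
import Cfsg.Agent.Lib.Helper77_BlockBasics
import Cfsg.Agent.Lib.Helper81_CharOrth2
import Cfsg.Agent.Lib.Helper15_Linear
import Cfsg.Agent.Lib.Helper17_TIPrime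
import Cfsg.Agent.Lib.Helper17_BSQ8Char
import Cfsg.Agent.Lib.Helper17_CoherenceFull
import Cfsg.Agent.Lib.Helper17_HomoGroup
import Cfsg.Agent.S0165

/-!
# The principal `2`-block of a group with Sylow `2`-subgroup `Z/2^m × Z/2^m` (helper17)

Character-theoretic part of Brauer's theorem: under the data `HD P σ t z` the group `G` has a
non-principal linear character with `P` in its kernel.
-/

set_option autoImplicit false
set_option linter.unusedSectionVars false

namespace Cfsg.Agent.Lib.Helper17_HomoChar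

open Cfsg Cfsg.Agent.Lib.Helper78_LocalRing Cfsg.Agent.Lib.Helper78_CharFacts
  Cfsg.Agent.Lib.Helper16_Char Cfsg.Agent.Lib.Helper17_TIPrime
  Cfsg.Agent.Lib.Helper17_HomoGroup Cfsg.Agent.Lib.Helper80_CharBasic
  Cfsg.Agent.Lib.Helper75_CharArith Cfsg.Agent.Lib.Helper3_CharOrtho
  Cfsg.Agent.Lib.Helper3_CharComplete Cfsg.Agent.Lib.Helper3_CharBridge

open scoped ComplexConjugate

section Abelian

variable {A : Type*} [Group A] [Fintype A]

/-- Column orthogonality against the identity in a commutative group. -/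
theorem sum_irr_apply (hA : ∀ a b : A, a * b = b * a) (a : A) (ha : a ≠ 1) :
    ∑ lam : IrrCharacter A, (lam : A → ℂ) a = 0 := by
  have h := Cfsg.Agent.Lib.Helper81_CharOrth2.second_orthogonality (G := A) a 1
  have h2 : ∀ χ : IrrCharacter A, (χ : A → ℂ) a * (χ : A → ℂ) 1⁻¹ = (χ : A → ℂ) a := by
    intro χ
    rw [inv_one, irr_apply_one_of_comm hA χ, mul_one]
  rw [Finset.sum_congr rfl (fun χ _ => h2 χ)] at h
  rw [h]
  have : IsEmpty {c : A // c * a * c⁻¹ = 1} := by
    constructor
    rintro ⟨c, hc⟩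
    apply ha
    have : a = c⁻¹ * (c * a * c⁻¹) * c := by group
    rw [this, hc]; group
  rw [Nat.card_of_isEmpty]
  simp

/-- Sums over the non-principal characters. -/
theorem sum_L {β : Type*} [AddCommMonoid β] (f : IrrCharacter A → β) (h1 : f (oneIrr A) = 0) :
    ∑ l : {lam : IrrCharacter A // lam ≠ oneIrr A}, f l.1 = ∑ lam : IrrCharacter A, f lam := by
  classical
  rw [← Finset.sum_subtype (Finset.univ.filter (fun lam : IrrCharacter A => lam ≠ oneIrr A))
    (by simp) f]
  apply Finset.sum_filter_of_ne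
  intro x _ hx hx1
  apply hx
  rw [hx1, h1]

end Abelian

section Restrict

variable {G : Type*} [Group G] [Fintype G] (R : Subgroup G) [Fintype R]

/-- The restriction of `χ` to a commutative subgroup in terms of the multiplicities. -/
theorem apply_eq_sum_mult (χ : IrrCharacter G) (r : R) :
    (χ : G → ℂ) r = ∑ lam : IrrCharacter R, (mult R χ lam : ℂ) * (lam : R → ℂ) r := by
  obtain ⟨m, hm, hsum⟩ := exists_multiplicities
    (isCharacter_restrict R (isCharacter_of_isIrrCharacter χ.2))
  have h1 := congrFun hsum r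
  rw [Finset.sum_apply] at h1
  have h1' : (χ : G → ℂ) r = ∑ c : IrrCharacter R, ((m c : ℂ) • (c : R → ℂ)) r := h1
  rw [h1']
  refine Finset.sum_congr rfl fun lam _ => ?_
  rw [Pi.smul_apply, smul_eq_mul]
  have := (hm lam).symm.trans (mult_spec R χ lam)
  rw [this]

theorem avec_self (χ : IrrCharacter G) : avec R (oneIrr R) χ = 0 := by
  unfold avec
  ring

/-- The values of `χ` on the non-identity elements of a commutative subgroup. -/
theorem apply_eq_neg_sum_avec (hcomm : ∀ a b : R, a * b = b * a) (χ : IrrCharacter G) (r : R)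
    (hr : r ≠ 1) :
    (χ : G → ℂ) r = -∑ lam : IrrCharacter R, (avec R lam χ : ℂ) * (lam : R → ℂ) r := by
  rw [apply_eq_sum_mult R χ r]
  have h0 := sum_irr_apply hcomm r hr
  have h1 : ∀ lam : IrrCharacter R, (mult R χ lam : ℂ) * (lam : R → ℂ) r =
      (mult R χ (oneIrr R) : ℂ) * (lam : R → ℂ) r - (avec R lam χ : ℂ) * (lam : R → ℂ) r := by
    intro lam
    unfold avec
    push_cast
    ring
  rw [Finset.sum_congr rfl (fun lam _ => h1 lam), Finset.sum_sub_distrib, ← Finset.mul_sum, h0,
    mul_zero, zero_sub]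

/-- `avec` as an inner product. -/
theorem avec_eq_sum (lam : IrrCharacter R) (χ : IrrCharacter G) :
    (avec R lam χ : ℂ) = (Nat.card R : ℂ)⁻¹ *
      ∑ w : R, (χ : G → ℂ) w * conj (theta R lam w) := by
  have h1 := mult_spec R χ (oneIrr R)
  have h2 := mult_spec R χ lam
  unfold avec
  push_cast
  rw [← h1, ← h2]
  unfold Cfsg.classInner
  rw [← mul_sub, ← Finset.sum_sub_distrib]
  congr 1
  refine Finset.sum_congr rfl fun w _ => ?_
  rw [theta_apply, map_sub, map_one]
  have : (oneIrr R : R → ℂ) w = 1 := rfl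
  rw [this, map_one]
  ring

/-- `avec` as an inner product, conjugate form. -/
theorem avec_eq_sum' (lam : IrrCharacter R) (χ : IrrCharacter G) :
    (avec R lam χ : ℂ) = (Nat.card R : ℂ)⁻¹ *
      ∑ w : R, conj ((χ : G → ℂ) w) * theta R lam w := by
  have h := congrArg conj (avec_eq_sum R lam χ)
  rw [map_intCast, map_mul, map_inv₀, Complex.conj_natCast, map_sum] at h
  rw [h]
  congr 1
  refine Finset.sum_congr rfl fun w _ => ?_
  rw [map_mul, Complex.conj_conj]

/-- The degree in terms of the multiplicity of the trivial character and the `avec`s. -/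
theorem charDegree_eq (hcomm : ∀ a b : R, a * b = b * a) (χ : IrrCharacter G) :
    (charDegree (χ : G → ℂ) : ℤ) = (Nat.card R : ℤ) * (mult R χ (oneIrr R) : ℤ) -
      ∑ lam : IrrCharacter R, avec R lam χ := by
  have : Finite R := Finite.of_fintype R
  rw [charDegree_eq_sum_mult R hcomm χ]
  have h1 : ∀ lam : IrrCharacter R, avec R lam χ =
      (mult R χ (oneIrr R) : ℤ) - (mult R χ lam : ℤ) := fun lam => rfl
  rw [Finset.sum_congr rfl (fun lam _ => h1 lam), Finset.sum_sub_distrib, Finset.sum_const,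
    Finset.card_univ, card_irr_of_comm hcomm]
  push_cast
  rw [nsmul_eq_mul]
  ring

end Restrict

section Kernel

variable {G : Type*} [Group G] [Fintype G] (R : Subgroup G) [Fintype R]
  [DecidableEq (IrrCharacter R)] [DecidableEq R]

theorem sum_ite_three {X : Type*} [Fintype X] [DecidableEq X] (f : X → ℂ) (a b c : X)
    (hab : a ≠ b) (hac : a ≠ c) (hbc : b ≠ c) :
    ∑ x : X, (if x = a ∨ x = b ∨ x = c then f x else 0) = f a + f b + f c := by
  have h1 : ∀ x : X, (if x = a ∨ x = b ∨ x = c then f x else 0) =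
      (if x = a then f x else 0) + (if x = b then f x else 0) + (if x = c then f x else 0) := by
    intro x
    by_cases ha : x = a
    · subst ha
      simp [hab, hac]
    · by_cases hb : x = b
      · subst hb
        simp [ha, hbc]
      · by_cases hc : x = c
        · subst hc
          simp [ha, hb]
        · simp [ha, hb, hc]
  rw [Finset.sum_congr rfl (fun x _ => h1 x), Finset.sum_add_distrib, Finset.sum_add_distrib,
    Finset.sum_ite_eq', Finset.sum_ite_eq', Finset.sum_ite_eq']
  simp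

theorem theta_one (hcomm : ∀ a b : R, a * b = b * a) (nu : IrrCharacter R) :
    theta R nu 1 = 0 := by
  have : Finite R := Finite.of_fintype R
  rw [theta_apply, irr_apply_one_of_comm hcomm nu, sub_self]

/-- The Gram matrix of the vectors `avec` over a set of characters whose columns on `R` satisfy the
orthogonality relations of an orbit structure of size three. -/
theorem gram_of_kernel (hcomm : ∀ a b : R, a * b = b * a)
    (n : Subgroup.normalizer (R : Set G)) (S : Finset (IrrCharacter G))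
    (hfree : ∀ w : R, w ≠ 1 → R.normalizerMonoidHom n w ≠ w)
    (hcube : ∀ w : R, R.normalizerMonoidHom n (R.normalizerMonoidHom n
      (R.normalizerMonoidHom n w)) = w)
    (hK : ∀ w w' : R, w ≠ 1 → w' ≠ 1 →
      ∑ χ ∈ S, (χ : G → ℂ) w * conj ((χ : G → ℂ) w') =
        if (w' = w ∨ w' = R.normalizerMonoidHom n w ∨
          w' = R.normalizerMonoidHom n (R.normalizerMonoidHom n w)) then (Nat.card R : ℂ) else 0)
    (lam mu : IrrCharacter R) (hlam : lam ≠ oneIrr R) (hmu : mu ≠ oneIrr R) :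
    ∑ χ ∈ S, (avec R lam χ : ℂ) * (avec R mu χ : ℂ) =
      3 + ((if lam = mu then 1 else 0) + (if lam = tw R n mu then 1 else 0) +
        (if lam = tw R n (tw R n mu) then 1 else 0)) := by
  have hR0 : (Nat.card R : ℂ) ≠ 0 := by
    rw [Nat.cast_ne_zero]; exact Nat.card_pos.ne'
  set φ := R.normalizerMonoidHom n with hφ
  have hθ1 := theta_one R hcomm
  have h1 : ∀ χ : IrrCharacter G, (avec R lam χ : ℂ) * (avec R mu χ : ℂ) =
      (Nat.card R : ℂ)⁻¹ ^ 2 * ∑ w : R, ∑ w' : R,
        conj (theta R lam w) * theta R mu w' * ((χ : G → ℂ) w * conj ((χ : G → ℂ) w')) := by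
    intro χ
    rw [avec_eq_sum R lam χ, avec_eq_sum' R mu χ, mul_mul_mul_comm, ← sq, Finset.sum_mul_sum]
    congr 1
    refine Finset.sum_congr rfl fun w _ => Finset.sum_congr rfl fun w' _ => ?_
    ring
  rw [Finset.sum_congr rfl (fun χ _ => h1 χ), ← Finset.mul_sum, Finset.sum_comm]
  have h2 : ∀ w : R, ∑ χ ∈ S, ∑ w' : R,
      conj (theta R lam w) * theta R mu w' * ((χ : G → ℂ) w * conj ((χ : G → ℂ) w')) =
      conj (theta R lam w) * ((Nat.card R : ℂ) *
        (theta R mu w + theta R mu (φ w) + theta R mu (φ (φ w)))) := by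
    intro w
    by_cases hw : w = 1
    · rw [hw, hθ1, map_zero, zero_mul]
      apply Finset.sum_eq_zero
      intro χ _
      apply Finset.sum_eq_zero
      intro w' _
      rw [zero_mul, zero_mul]
    rw [Finset.sum_comm]
    have hφ1 : ∀ v : R, φ v = 1 → v = 1 := by
      intro v hv
      have := (φ.injective (hv.trans (map_one φ).symm))
      exact this
    have h3 : ∀ w' : R, ∑ χ ∈ S,
        conj (theta R lam w) * theta R mu w' * ((χ : G → ℂ) w * conj ((χ : G → ℂ) w')) =
        conj (theta R lam w) * (Nat.card R : ℂ) *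
          (if w' = w ∨ w' = φ w ∨ w' = φ (φ w) then theta R mu w' else 0) := by
      intro w'
      rw [← Finset.mul_sum]
      by_cases hw' : w' = 1
      · rw [hw', hθ1, mul_zero, zero_mul]
        simp
      · rw [hK w w' hw hw']
        split_ifs <;> ring
    rw [Finset.sum_congr rfl (fun w' _ => h3 w'), ← Finset.mul_sum,
      sum_ite_three (theta R mu) w (φ w) (φ (φ w)) (Ne.symm (hfree w hw)) ?_ ?_]
    · ring
    · intro h
      have := hcube w
      rw [← h] at this
      exact hfree w hw this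
    · intro h
      exact hfree w hw (φ.injective h).symm
  rw [Finset.sum_congr rfl (fun w _ => h2 w)]
  have h4 : (Nat.card R : ℂ)⁻¹ ^ 2 * ∑ w : R, conj (theta R lam w) * ((Nat.card R : ℂ) *
        (theta R mu w + theta R mu (φ w) + theta R mu (φ (φ w)))) =
      Cfsg.classInner (theta R mu) (theta R lam) +
        Cfsg.classInner (theta R (tw R n mu)) (theta R lam) +
        Cfsg.classInner (theta R (tw R n (tw R n mu))) (theta R lam) := by
    unfold Cfsg.classInner
    rw [← mul_add, ← mul_add, ← Finset.sum_add_distrib, ← Finset.sum_add_distrib,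
      Finset.mul_sum, Finset.mul_sum]
    refine Finset.sum_congr rfl fun w _ => ?_
    have e1 : theta R (tw R n mu) w = theta R mu (φ w) := rfl
    have e2 : theta R (tw R n (tw R n mu)) w = theta R mu (φ (φ w)) := rfl
    rw [e1, e2]
    field_simp
  rw [h4, classInner_theta R mu lam hmu hlam,
    classInner_theta R (tw R n mu) lam (tw_ne_oneIrr R n mu hmu) hlam,
    classInner_theta R (tw R n (tw R n mu)) lam
      (tw_ne_oneIrr R n _ (tw_ne_oneIrr R n mu hmu)) hlam]
  have e1 : (if mu = lam then (1 : ℂ) else 0) = if lam = mu then 1 else 0 := by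
    by_cases h : lam = mu
    · rw [if_pos h, if_pos h.symm]
    · rw [if_neg h, if_neg (fun h' => h h'.symm)]
  have e2 : (if tw R n mu = lam then (1 : ℂ) else 0) = if lam = tw R n mu then 1 else 0 := by
    by_cases h : lam = tw R n mu
    · rw [if_pos h, if_pos h.symm]
    · rw [if_neg h, if_neg (fun h' => h h'.symm)]
  have e3 : (if tw R n (tw R n mu) = lam then (1 : ℂ) else 0) =
      if lam = tw R n (tw R n mu) then 1 else 0 := by
    by_cases h : lam = tw R n (tw R n mu)
    · rw [if_pos h, if_pos h.symm]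
    · rw [if_neg h, if_neg (fun h' => h h'.symm)]
  rw [e1, e2, e3]
  ring

/-- The vectors `avec` are orthogonal to the degree vector. -/
theorem degree_of_kernel (hcomm : ∀ a b : R, a * b = b * a) (S : Finset (IrrCharacter G))
    (hK1 : ∀ w : R, w ≠ 1 → ∑ χ ∈ S, (χ : G → ℂ) 1 * conj ((χ : G → ℂ) w) = 0)
    (lam : IrrCharacter R) :
    ∑ χ ∈ S, (avec R lam χ : ℂ) * (χ : G → ℂ) 1 = 0 := by
  have h1 : ∀ χ : IrrCharacter G, (avec R lam χ : ℂ) * (χ : G → ℂ) 1 =
      (Nat.card R : ℂ)⁻¹ * ∑ w : R, theta R lam w *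
        ((χ : G → ℂ) 1 * conj ((χ : G → ℂ) w)) := by
    intro χ
    rw [avec_eq_sum' R lam χ, mul_assoc, Finset.sum_mul]
    congr 1
    refine Finset.sum_congr rfl fun w _ => ?_
    ring
  rw [Finset.sum_congr rfl (fun χ _ => h1 χ), ← Finset.mul_sum, Finset.sum_comm]
  have h2 : ∀ w : R, ∑ χ ∈ S, theta R lam w * ((χ : G → ℂ) 1 * conj ((χ : G → ℂ) w)) = 0 := by
    intro w
    rw [← Finset.mul_sum]
    by_cases hw : w = 1
    · rw [hw, theta_one R hcomm, zero_mul]
    · rw [hK1 w hw, mul_zero]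
  rw [Finset.sum_congr rfl (fun w _ => h2 w), Finset.sum_const_zero, mul_zero]

end Kernel

section Abstract

/-- The abstract form of the computation with the involution-product class function. -/
theorem r2_abstract {I : Type*} [Fintype I] (Δ : I → ℤ) (ε : ℤ) (hε : ε = 1 ∨ ε = -1)
    (d : I → ℤ) (x : ℤ) (T Z : I → ℂ)
    (hΔ : ∑ i, Δ i ^ 2 = 3)
    (hD0 : ∀ i, Δ i ≠ 0 → T i = 0 ∧ Z i = 0)
    (hZ1 : ∑ i, Z i = -1)
    (hF1 : ∑ i, ((Δ i : ℂ) + ε * T i) * ((Δ i : ℂ) + ε * Z i) = 0)
    (hT3 : ∀ i, T i ^ 2 * Z i = (3 + 2 * T i) * Z i)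
    (hDX : ∀ i, Z i ≠ 0 → d i = x)
    (hR2 : ∑ i, ((Δ i : ℂ) + ε * T i) ^ 2 * ((Δ i : ℂ) + ε * Z i) / (d i : ℂ) = 0) :
    ∑ i, (Δ i : ℂ) ^ 3 / (d i : ℂ) = 9 * (ε : ℂ) / (x : ℂ) := by
  have hεsq : (ε : ℂ) ^ 2 = 1 := by
    rcases hε with h | h <;> rw [h] <;> norm_num
  have hΔc : ∑ i, (Δ i : ℂ) ^ 2 = 3 := by
    have : ((∑ i, Δ i ^ 2 : ℤ) : ℂ) = 3 := by rw [hΔ]; norm_num
    rw [← this]
    push_cast
    rfl
  have p1 : ∀ i, ((Δ i : ℂ) + ε * T i) * ((Δ i : ℂ) + ε * Z i) = (Δ i : ℂ) ^ 2 + T i * Z i := by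
    intro i
    by_cases h : Δ i = 0
    · rw [h]
      push_cast
      linear_combination (T i * Z i) * hεsq
    · obtain ⟨hT, hZ⟩ := hD0 i h
      rw [hT, hZ]
      ring
  rw [Finset.sum_congr rfl (fun i _ => p1 i), Finset.sum_add_distrib, hΔc] at hF1
  have hTZ : ∑ i, T i * Z i = -3 := by linear_combination hF1
  have p2 : ∀ i, ((Δ i : ℂ) + ε * T i) ^ 2 * ((Δ i : ℂ) + ε * Z i) / (d i : ℂ) =
      (Δ i : ℂ) ^ 3 / (d i : ℂ) + (ε : ℂ) / (x : ℂ) * (3 * Z i + 2 * (T i * Z i)) := by
    intro i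
    by_cases h : Δ i = 0
    · rw [h]
      by_cases hZ : Z i = 0
      · rw [hZ]
        simp
      · rw [hDX i hZ]
        have h3 := hT3 i
        have e1 : ((0 : ℤ) : ℂ) + ε * T i = ε * T i := by push_cast; ring
        have e2 : ((0 : ℤ) : ℂ) + ε * Z i = ε * Z i := by push_cast; ring
        rw [e1, e2]
        have e3 : ((ε : ℂ) * T i) ^ 2 * ((ε : ℂ) * Z i) = (ε : ℂ) * (T i ^ 2 * Z i) := by
          linear_combination ((ε : ℂ) * T i ^ 2 * Z i) * hεsq
        rw [e3, h3]
        push_cast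
        ring
    · obtain ⟨hT, hZ⟩ := hD0 i h
      rw [hT, hZ]
      ring
  rw [Finset.sum_congr rfl (fun i _ => p2 i), Finset.sum_add_distrib, ← Finset.mul_sum,
    Finset.sum_add_distrib, ← Finset.mul_sum, ← Finset.mul_sum, hZ1, hTZ] at hR2
  linear_combination hR2

end Abstract

section Free

variable {G : Type*} [Group G] [Fintype G] (R : Subgroup G) [Fintype R]

/-- A normalizing element acting freely on a commutative subgroup acts freely on its
non-principal irreducible characters. -/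
theorem tw_ne_self (hcomm : ∀ a b : R, a * b = b * a)
    (n : Subgroup.normalizer (R : Set G))
    (hfree : ∀ w : R, w ≠ 1 → R.normalizerMonoidHom n w ≠ w)
    (lam : IrrCharacter R) (hlam : lam ≠ oneIrr R) : tw R n lam ≠ lam := by
  have : Finite R := Finite.of_fintype R
  intro h
  apply hlam
  set φ := R.normalizerMonoidHom n with hφ
  have hlin := Cfsg.Agent.Lib.Helper15_Linear.linear_mul (lam : R → ℂ)
    (isCharacter_of_isIrrCharacter lam.2) (irr_apply_one_of_comm hcomm lam)
  have hinv := Cfsg.Agent.Lib.Helper15_Linear.linear_inv (lam : R → ℂ)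
    (isCharacter_of_isIrrCharacter lam.2) (irr_apply_one_of_comm hcomm lam)
  have hne := Cfsg.Agent.Lib.Helper15_Linear.linear_ne_zero (lam : R → ℂ)
    (isCharacter_of_isIrrCharacter lam.2) (irr_apply_one_of_comm hcomm lam)
  have hfix : ∀ w : R, (lam : R → ℂ) (φ w) = (lam : R → ℂ) w := by
    intro w
    have := congrArg (fun c : IrrCharacter R => (c : R → ℂ) w) h
    simpa [tw_apply] using this
  let ψ : R → R := fun w => φ w * w⁻¹
  have hψinj : Function.Injective ψ := by
    intro a b hab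
    have h1 : φ a * a⁻¹ = φ b * b⁻¹ := hab
    have h2 : φ (b⁻¹ * a) = b⁻¹ * a := by
      rw [map_mul, map_inv]
      have e1 : (φ b)⁻¹ * φ a = (φ b)⁻¹ * (φ a * a⁻¹) * a := by group
      rw [e1, h1]
      have e2 : (φ b)⁻¹ * (φ b * b⁻¹) * a = b⁻¹ * a := by group
      rw [e2]
    by_contra hne'
    have h3 : b⁻¹ * a ≠ 1 := by
      intro h4
      apply hne'
      have : a = b * (b⁻¹ * a) := by group
      rw [this, h4, mul_one]
    exact hfree _ h3 h2
  have hψsurj : Function.Surjective ψ := Finite.injective_iff_surjective.mp hψinj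
  apply Subtype.ext
  funext v
  obtain ⟨w, rfl⟩ := hψsurj v
  show (lam : R → ℂ) (φ w * w⁻¹) = 1
  rw [hlin, hfix, hinv, mul_inv_cancel₀ (hne w)]

end Free

section Structure

open Cfsg.Agent.Lib.Helper17_Coherence Cfsg.Agent.Lib.Helper17_CoherenceFull

variable {G : Type*} [Group G] [Fintype G] (R : Subgroup G) [Fintype R]

/-- Sums over the non-principal characters, general form. -/
theorem sum_L' {A : Type*} [Group A] [Fintype A] {β : Type*} [AddCommGroup β]
    (f : IrrCharacter A → β) :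
    ∑ l : {lam : IrrCharacter A // lam ≠ oneIrr A}, f l.1 =
      ∑ lam : IrrCharacter A, f lam - f (oneIrr A) := by
  classical
  rw [← Finset.sum_subtype (Finset.univ.erase (oneIrr A)) (by simp) f,
    Finset.sum_erase_eq_sub (Finset.mem_univ _)]

/-- The twist on the non-principal characters. -/
noncomputable def twL (n : Subgroup.normalizer (R : Set G))
    (l : {lam : IrrCharacter R // lam ≠ oneIrr R}) : {lam : IrrCharacter R // lam ≠ oneIrr R} :=
  ⟨tw R n l.1, tw_ne_oneIrr R n l.1 l.2⟩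

theorem twL_coe (n : Subgroup.normalizer (R : Set G))
    (l : {lam : IrrCharacter R // lam ≠ oneIrr R}) : (twL R n l).1 = tw R n l.1 := rfl

/-- The structure of a set `S` of irreducible characters of `G` whose columns on the commutative
subgroup `R` satisfy the orthogonality relations of a free action of order three. -/
theorem exc_structure [DecidableEq R] (hcomm : ∀ a b : R, a * b = b * a)
    (n : Subgroup.normalizer (R : Set G)) (S : Finset (IrrCharacter G))
    (h1S : oneIrr G ∈ S)
    (hfree : ∀ w : R, w ≠ 1 → R.normalizerMonoidHom n w ≠ w)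
    (hcube : ∀ w : R, R.normalizerMonoidHom n (R.normalizerMonoidHom n
      (R.normalizerMonoidHom n w)) = w)
    (hK : ∀ w w' : R, w ≠ 1 → w' ≠ 1 →
      ∑ χ ∈ S, (χ : G → ℂ) w * conj ((χ : G → ℂ) w') =
        if (w' = w ∨ w' = R.normalizerMonoidHom n w ∨
          w' = R.normalizerMonoidHom n (R.normalizerMonoidHom n w)) then (Nat.card R : ℂ) else 0)
    (hK1 : ∀ w : R, w ≠ 1 → ∑ χ ∈ S, (χ : G → ℂ) 1 * conj ((χ : G → ℂ) w) = 0)
    (hbig : 16 ≤ Nat.card R) :
    ∃ (Δ : S → ℤ) (ε : ℤ) (c : {lam : IrrCharacter R // lam ≠ oneIrr R} → S) (x : ℤ),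
      (ε = 1 ∨ ε = -1) ∧ Δ ⟨oneIrr G, h1S⟩ = 1 ∧ ∑ i, Δ i ^ 2 = 3 ∧ (∀ l, Δ (c l) = 0) ∧
      (∀ l, (charDegree ((c l).1 : G → ℂ) : ℤ) = x) ∧
      (∑ i : S, Δ i * (charDegree (i.1 : G → ℂ) : ℤ) = ε * x) ∧
      (∀ i : S, Δ i ≠ 0 → ((charDegree (i.1 : G → ℂ) : ℤ) ≡ Δ i [ZMOD (Nat.card R : ℤ)])) ∧
      (∀ (i : S) (w : R), w ≠ 1 → (i.1 : G → ℂ) w = (Δ i : ℂ) +
        (ε : ℂ) * ∑ l : {lam : IrrCharacter R // lam ≠ oneIrr R},
          if c l = i then (l.1 : R → ℂ) w else 0) ∧
      (∀ (l : {lam : IrrCharacter R // lam ≠ oneIrr R})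
        (f : {lam : IrrCharacter R // lam ≠ oneIrr R} → ℂ),
        ∑ l' : {lam : IrrCharacter R // lam ≠ oneIrr R}, (if c l' = c l then f l' else 0) =
          f l + f (twL R n l) + f (twL R n (twL R n l))) := by
  classical
  have hfinR : Finite R := Finite.of_fintype R
  have hfinG : Finite G := Finite.of_fintype G
  set φ := R.normalizerMonoidHom n with hφ
  -- the twist
  have htw3' : ∀ lam : IrrCharacter R, tw R n (tw R n (tw R n lam)) = lam := by
    intro lam
    apply Subtype.ext
    funext r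
    show (lam : R → ℂ) (φ (φ (φ r))) = (lam : R → ℂ) r
    rw [hcube]
  have htw3 : ∀ l : {lam : IrrCharacter R // lam ≠ oneIrr R},
      twL R n (twL R n (twL R n l)) = l := fun l => Subtype.ext (htw3' l.1)
  have htw1 : ∀ l : {lam : IrrCharacter R // lam ≠ oneIrr R}, twL R n l ≠ l := fun l h =>
    tw_ne_self R hcomm n hfree l.1 l.2 (congrArg Subtype.val h)
  have htw2 : ∀ l : {lam : IrrCharacter R // lam ≠ oneIrr R}, twL R n (twL R n l) ≠ l := by
    intro l h
    have := htw3 l
    rw [h] at this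
    exact htw1 l this
  have htw12 : ∀ l : {lam : IrrCharacter R // lam ≠ oneIrr R},
      twL R n (twL R n l) ≠ twL R n l := fun l => htw1 (twL R n l)
  let rel : {lam : IrrCharacter R // lam ≠ oneIrr R} →
      {lam : IrrCharacter R // lam ≠ oneIrr R} → Prop :=
    fun s t' => s = t' ∨ s = twL R n t' ∨ s = twL R n (twL R n t')
  -- data
  let i0 : S := ⟨oneIrr G, h1S⟩
  let a : {lam : IrrCharacter R // lam ≠ oneIrr R} → S → ℤ := fun l i => avec R l.1 i.1
  let d : S → ℤ := fun i => (charDegree (i.1 : G → ℂ) : ℤ)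
  let m : S → ℤ := fun i => (mult R i.1 (oneIrr R) : ℤ)
  have hd : ∀ i, 0 < d i := fun i => by
    have := Cfsg.Agent.Lib.Helper77_BlockBasics.charDegree_pos i.1
    show (0 : ℤ) < (charDegree (i.1 : G → ℂ) : ℤ)
    exact_mod_cast this
  have hrefl : ∀ s, rel s s := fun s => Or.inl rfl
  have hgram : ∀ s t', ∑ i, a s i * a t' i = ((3 : ℕ) : ℤ) + if rel s t' then 1 else 0 := by
    intro s t'
    have h := gram_of_kernel R hcomm n S hfree hcube hK s.1 t'.1 s.2 t'.2
    have h2 : ((∑ i : S, a s i * a t' i : ℤ) : ℂ) =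
        ∑ χ ∈ S, (avec R s.1 χ : ℂ) * (avec R t'.1 χ : ℂ) := by
      push_cast
      exact Finset.sum_coe_sort S (fun χ => (avec R s.1 χ : ℂ) * (avec R t'.1 χ : ℂ))
    have h3 : ((if s.1 = t'.1 then 1 else 0) + (if s.1 = tw R n t'.1 then 1 else 0) +
        (if s.1 = tw R n (tw R n t'.1) then 1 else 0) : ℂ) = if rel s t' then 1 else 0 := by
      by_cases h1 : s = t'
      · subst h1
        have e2 : s.1 ≠ tw R n s.1 := fun h => htw1 s (Subtype.ext h.symm)
        have e3 : s.1 ≠ tw R n (tw R n s.1) := fun h => htw2 s (Subtype.ext h.symm)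
        rw [if_pos rfl, if_neg e2, if_neg e3, if_pos (Or.inl rfl)]
        norm_num
      · have e1 : s.1 ≠ t'.1 := fun h => h1 (Subtype.ext h)
        by_cases h2' : s = twL R n t'
        · have e2 : s.1 = tw R n t'.1 := congrArg Subtype.val h2'
          have e3 : s.1 ≠ tw R n (tw R n t'.1) := by
            rw [e2]
            exact fun h => htw12 t' (Subtype.ext h.symm)
          rw [if_neg e1, if_pos e2, if_neg e3, if_pos (Or.inr (Or.inl h2'))]
          norm_num
        · have e2 : s.1 ≠ tw R n t'.1 := fun h => h2' (Subtype.ext h)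
          by_cases h3' : s = twL R n (twL R n t')
          · have e3 : s.1 = tw R n (tw R n t'.1) := congrArg Subtype.val h3'
            rw [if_neg e1, if_neg e2, if_pos e3, if_pos (Or.inr (Or.inr h3'))]
            norm_num
          · have e3 : s.1 ≠ tw R n (tw R n t'.1) := fun h => h3' (Subtype.ext h)
            have hnr : ¬ rel s t' := by
              rintro (h | h | h)
              · exact h1 h
              · exact h2' h
              · exact h3' h
            rw [if_neg e1, if_neg e2, if_neg e3, if_neg hnr]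
            norm_num
    have h4 : ((∑ i : S, a s i * a t' i : ℤ) : ℂ) =
        (((3 : ℕ) : ℤ) + (if rel s t' then 1 else 0 : ℤ) : ℤ) := by
      rw [h2, h, h3]
      push_cast
      split_ifs <;> norm_num
    exact_mod_cast h4
  have hdeg : ∀ s, ∑ i, a s i * d i = 0 := by
    intro s
    have h := degree_of_kernel R hcomm S hK1 s.1
    have h2 : ((∑ i : S, a s i * d i : ℤ) : ℂ) =
        ∑ χ ∈ S, (avec R s.1 χ : ℂ) * (χ : G → ℂ) 1 := by
      push_cast
      rw [← Finset.sum_coe_sort S (fun χ => (avec R s.1 χ : ℂ) * (χ : G → ℂ) 1)]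
      refine Finset.sum_congr rfl fun i _ => ?_
      rw [Cfsg.Agent.Lib.Helper77_BlockBasics.apply_one_eq_charDegree]
      show ((avec R s.1 i.1 : ℤ) : ℂ) * (((charDegree (i.1 : G → ℂ) : ℕ) : ℤ) : ℂ) = _
      push_cast
      rfl
    rw [h] at h2
    exact_mod_cast h2
  have hi0 : ∀ s, a s i0 = 1 := fun s => avec_oneIrr R s.1 s.2
  have hcong : ∀ i, d i = ((Nat.card R : ℕ) : ℤ) * m i - ∑ s, a s i := by
    intro i
    have h := charDegree_eq R hcomm i.1
    have h2 := sum_L' (fun lam : IrrCharacter R => avec R lam i.1)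
    rw [avec_self, sub_zero] at h2
    show (charDegree (i.1 : G → ℂ) : ℤ) = _
    rw [h, ← h2]
  have hcard : Fintype.card {lam : IrrCharacter R // lam ≠ oneIrr R} + 1 = Nat.card R := by
    have h1 := card_irr_of_comm hcomm
    have h2 : Fintype.card {lam : IrrCharacter R // lam ≠ oneIrr R} =
        Fintype.card (IrrCharacter R) - 1 := by
      rw [Fintype.card_subtype_compl, Fintype.card_subtype_eq]
    have hpos : 0 < Fintype.card (IrrCharacter R) := Fintype.card_pos_iff.mpr ⟨oneIrr R⟩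
    omega
  have hcls : ∀ s, (Finset.univ.filter (fun t' => rel s t')).card ≤ 3 := by
    intro s
    have hsub : Finset.univ.filter (fun t' => rel s t') ⊆
        {s, twL R n (twL R n s), twL R n s} := by
      intro t' ht'
      rw [Finset.mem_filter] at ht'
      rcases ht'.2 with h | h | h
      · rw [h]; simp
      · have : twL R n (twL R n s) = t' := by rw [h, htw3]
        rw [← this]; simp
      · have : twL R n s = t' := by rw [h, htw3]
        rw [← this]; simp
    exact le_trans (Finset.card_le_card hsub) Finset.card_le_three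
  obtain ⟨Δ, ε, c, hε, hΔ0, hnorm, hΔc, hrel, hform, hdegc, hcongr⟩ :=
    exceptional_abstract_full i0 a d m (Nat.card R) 3 rel hd hrefl hgram hdeg hi0 hcong hcard
      hcls (by omega) (by norm_num)
  have hεsq : ε * ε = 1 := by rcases hε with h | h <;> rw [h] <;> norm_num
  refine ⟨Δ, ε, c, ε * ∑ i, Δ i * d i, hε, hΔ0, by exact_mod_cast hnorm, hΔc, ?_, ?_, hcongr,
    ?_, ?_⟩
  · intro l
    have := hdegc l
    show d (c l) = _
    rw [this, ← mul_assoc, hεsq, one_mul]
  · show ∑ i, Δ i * d i = _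
    rw [← mul_assoc, hεsq, one_mul]
  · intro i w hw
    rw [apply_eq_neg_sum_avec R hcomm i.1 w hw]
    have h1 := sum_L' (fun lam : IrrCharacter R => (avec R lam i.1 : ℂ) * (lam : R → ℂ) w)
    rw [avec_self] at h1
    simp only [Int.cast_zero, zero_mul, sub_zero] at h1
    rw [← h1]
    have h2 : ∀ l : {lam : IrrCharacter R // lam ≠ oneIrr R},
        (avec R l.1 i.1 : ℂ) * (l.1 : R → ℂ) w =
          (Δ i : ℂ) * (l.1 : R → ℂ) w -
            (ε : ℂ) * (if c l = i then (l.1 : R → ℂ) w else 0) := by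
      intro l
      have := hform l i
      have e : (avec R l.1 i.1 : ℤ) = Δ i - ε * ei (c l) i := this
      rw [e]
      unfold ei
      by_cases hci : i = c l
      · rw [if_pos hci, if_pos hci.symm]
        push_cast
        ring
      · rw [if_neg hci, if_neg (fun h => hci h.symm)]
        push_cast
        ring
    rw [Finset.sum_congr rfl (fun l _ => h2 l), Finset.sum_sub_distrib, ← Finset.mul_sum,
      ← Finset.mul_sum]
    have h3 := sum_L' (fun lam : IrrCharacter R => (lam : R → ℂ) w)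
    rw [sum_irr_apply hcomm w hw] at h3
    have h4 : (oneIrr R : R → ℂ) w = 1 := rfl
    rw [h4] at h3
    rw [h3]
    ring
  · intro l f
    have h1 : ∀ l' : {lam : IrrCharacter R // lam ≠ oneIrr R},
        (if c l' = c l then f l' else 0) =
        (if l' = l ∨ l' = twL R n l ∨ l' = twL R n (twL R n l) then f l' else 0) := by
      intro l'
      have : (c l' = c l) ↔ rel l' l := (hrel l' l).symm
      by_cases h : c l' = c l
      · rw [if_pos h, if_pos (this.mp h)]
      · rw [if_neg h, if_neg (fun h' => h (this.mpr h'))]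
    rw [Finset.sum_congr rfl (fun l' _ => h1 l')]
    exact sum_ite_three f l (twL R n l) (twL R n (twL R n l)) (Ne.symm (htw1 l))
      (Ne.symm (htw2 l)) (Ne.symm (htw12 l))

end Structure

section Block

variable {G : Type*} [Group G] [Finite G] (P : Sylow 2 G) {σ t z : G}

theorem orderOf_eq_two_pow (hd : HD (P : Subgroup G) σ t z) {w : G}
    (hw : w ∈ (P : Subgroup G)) : ∃ k : ℕ, orderOf w = 2 ^ k := by
  obtain ⟨k, hk⟩ := (IsPGroup.iff_orderOf.mp hd.two) ⟨w, hw⟩
  exact ⟨k, by rw [← hk]; exact (Subgroup.orderOf_mk w hw).symm⟩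

theorem isPPart_self (hd : HD (P : Subgroup G) σ t z) {w : G}
    (hw : w ∈ (P : Subgroup G)) : IsPPart 2 w w :=
  ⟨1, mul_one w, Commute.one_right w, orderOf_eq_two_pow P hd hw, by
    rw [orderOf_one]; norm_num⟩

theorem two_dvd_orderOf (hd : HD (P : Subgroup G) σ t z) {w : G}
    (hw : w ∈ (P : Subgroup G)) (hw1 : w ≠ 1) : 2 ∣ orderOf w := by
  obtain ⟨k, hk⟩ := orderOf_eq_two_pow P hd hw
  rw [hk]
  cases k with
  | zero =>
    exfalso
    rw [pow_zero, orderOf_eq_one_iff] at hk
    exact hw1 hk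
  | succ k => exact dvd_pow_self 2 (Nat.succ_ne_zero k)

theorem kernel_conj (hd : HD (P : Subgroup G) σ t z) {M : Ideal AlgInt} (hM : IsPModular 2 M)
    {w w' : G} (hw : w ∈ (P : Subgroup G)) (hw1 : w ≠ 1) (hc : IsConj w w') :
    ∑ᶠ χ ∈ principalBlock M G, (χ : G → ℂ) w * conj ((χ : G → ℂ) w') =
      (Nat.card (P : Subgroup G) : ℂ) := by
  have : Fact (Nat.Prime 2) := ⟨Nat.prime_two⟩
  obtain ⟨g, rfl⟩ := isConj_iff.mp hc
  obtain ⟨hnc, hfac⟩ := hd.npc w hw hw1
  have hw2 := orderOf_eq_two_pow P hd hw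
  have hy1 : ¬ 2 ∣ orderOf (1 : Subgroup.centralizer ({w} : Set G)) := by
    rw [orderOf_one]; norm_num
  have hnorm := Cfsg.Agent.Lib.Helper16_SectionNorm.principal_section_norm_complex hM w hw2 1 hy1
  rw [Cfsg.Agent.Lib.Helper16_SectionNorm.principal_norm_of_normal_complement hM hnc 1 hy1,
    hfac] at hnorm
  simp only [OneMemClass.coe_one, mul_one] at hnorm
  rw [← hnorm]
  refine finsum_congr fun χ => finsum_congr fun _ => ?_
  rw [Cfsg.Agent.Lib.Helper78_CentralChar.isIrrCharacter_isClassFunction χ.2 w g]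

theorem kernel_not_conj (hd : HD (P : Subgroup G) σ t z) {M : Ideal AlgInt}
    (hM : IsPModular 2 M) {w w' : G} (hw : w ∈ (P : Subgroup G)) (hw' : w' ∈ (P : Subgroup G))
    (hc : ¬ IsConj w w') :
    ∑ᶠ χ ∈ principalBlock M G, (χ : G → ℂ) w * conj ((χ : G → ℂ) w') = 0 :=
  Cfsg.Agent.Lib.Helper16_BlockOrth.block_orthogonality hM ⟨oneIrr G, rfl⟩
    (isPPart_self P hd hw) (isPPart_self P hd hw') hc

theorem kernel_one (hd : HD (P : Subgroup G) σ t z) {M : Ideal AlgInt} (hM : IsPModular 2 M)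
    {w : G} (hw : w ∈ (P : Subgroup G)) (hw1 : w ≠ 1) :
    ∑ᶠ χ ∈ principalBlock M G, (χ : G → ℂ) 1 * conj ((χ : G → ℂ) w) = 0 :=
  Cfsg.Agent.Lib.Helper77_WeakOrth.weak_orthogonality_block hM ⟨oneIrr G, rfl⟩ 1 w
    (by rw [orderOf_one]; norm_num) (two_dvd_orderOf P hd hw hw1)

end Block

end Cfsg.Agent.Lib.Helper17_HomoChar
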