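import Mathlib
import Cfsg.Prelude.Def_Blocks
import Cfsg.Prelude.Def_Local
import Cfsg.Agent.Lib.Helper17_HomoChar
import Cfsg.Agent.Lib.Helper17_AbSylowGroup
import Cfsg.Agent.Lib.Helper16_PrincipalSection
import Cfsg.Agent.Lib.Helper67_Basic
import Cfsg.Agent.S0914

/-!
# The principal `p`-block and an abelian Sylow `p`-subgroup with free inertial quotient (helper17)

Under the data `AD p P σ m` for a Sylow `p`-subgroup `P`: the column orthogonality relations of
the principal block on `P`, the values on the `p`-sections of the elements of `P`, and the fact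
that no member of the principal block vanishes on `P ∖ 1`.
-/

set_option autoImplicit false
set_option linter.unusedSectionVars false

namespace Cfsg.Agent.Lib.Helper17_AbSylowBlock

open Cfsg Cfsg.Agent.Lib.Helper78_LocalRing Cfsg.Agent.Lib.Helper78_CharFacts
  Cfsg.Agent.Lib.Helper17_AbSylowGroup Cfsg.Agent.Lib.Helper80_CharBasic
  Cfsg.Agent.Lib.Helper3_CharBridge

open scoped ComplexConjugate

variable {G : Type*} [Group G] [Finite G] {p : ℕ} [Fact p.Prime] (P : Sylow p G) {σ : G} {m : ℕ}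

theorem orderOf_eq_pow (hd : AD p (P : Subgroup G) σ m) {w : G}
    (hw : w ∈ (P : Subgroup G)) : ∃ k : ℕ, orderOf w = p ^ k := by
  obtain ⟨k, hk⟩ := (IsPGroup.iff_orderOf.mp hd.ppow) ⟨w, hw⟩
  exact ⟨k, by rw [← hk]; exact (Subgroup.orderOf_mk w hw).symm⟩

theorem not_dvd_one : ¬ p ∣ 1 := fun h =>
  (Fact.out : p.Prime).one_lt.ne' (Nat.dvd_one.mp h)

theorem isPPart_self (hd : AD p (P : Subgroup G) σ m) {w : G}
    (hw : w ∈ (P : Subgroup G)) : IsPPart p w w :=
  ⟨1, mul_one w, Commute.one_right w, orderOf_eq_pow P hd hw, by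
    rw [orderOf_one]; exact not_dvd_one⟩

theorem isPPart_one_of_reg {g : G} (hg : ¬ p ∣ orderOf g) : IsPPart p g 1 :=
  ⟨g, one_mul g, Commute.one_left g, ⟨0, by rw [orderOf_one, pow_zero]⟩, hg⟩

theorem p_dvd_orderOf (hd : AD p (P : Subgroup G) σ m) {w : G}
    (hw : w ∈ (P : Subgroup G)) (hw1 : w ≠ 1) : p ∣ orderOf w := by
  obtain ⟨k, hk⟩ := orderOf_eq_pow P hd hw
  rw [hk]
  cases k with
  | zero =>
    exfalso
    rw [pow_zero, orderOf_eq_one_iff] at hk
    exact hw1 hk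
  | succ k => exact dvd_pow_self p (Nat.succ_ne_zero k)

theorem kernel_conj (hd : AD p (P : Subgroup G) σ m) {M : Ideal AlgInt} (hM : IsPModular p M)
    {w w' : G} (hw : w ∈ (P : Subgroup G)) (hw1 : w ≠ 1) (hc : IsConj w w') :
    ∑ᶠ χ ∈ principalBlock M G, (χ : G → ℂ) w * conj ((χ : G → ℂ) w') =
      (Nat.card (P : Subgroup G) : ℂ) := by
  obtain ⟨g, rfl⟩ := isConj_iff.mp hc
  obtain ⟨hnc, hfac⟩ := hd.npc w hw hw1
  have hw2 := orderOf_eq_pow P hd hw
  have hy1 : ¬ p ∣ orderOf (1 : Subgroup.centralizer ({w} : Set G)) := by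
    rw [orderOf_one]; exact not_dvd_one
  have hnorm := Cfsg.Agent.Lib.Helper16_SectionNorm.principal_section_norm_complex hM w hw2 1 hy1
  rw [Cfsg.Agent.Lib.Helper16_SectionNorm.principal_norm_of_normal_complement hM hnc 1 hy1,
    hfac] at hnorm
  simp only [OneMemClass.coe_one, mul_one] at hnorm
  rw [← hnorm]
  refine finsum_congr fun χ => finsum_congr fun _ => ?_
  rw [Cfsg.Agent.Lib.Helper78_CentralChar.isIrrCharacter_isClassFunction χ.2 w g]

theorem kernel_not_conj (hd : AD p (P : Subgroup G) σ m) {M : Ideal AlgInt}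
    (hM : IsPModular p M) {w w' : G} (hw : w ∈ (P : Subgroup G)) (hw' : w' ∈ (P : Subgroup G))
    (hc : ¬ IsConj w w') :
    ∑ᶠ χ ∈ principalBlock M G, (χ : G → ℂ) w * conj ((χ : G → ℂ) w') = 0 :=
  Cfsg.Agent.Lib.Helper16_BlockOrth.block_orthogonality hM ⟨oneIrr G, rfl⟩
    (isPPart_self P hd hw) (isPPart_self P hd hw') hc

theorem kernel_one (hd : AD p (P : Subgroup G) σ m) {M : Ideal AlgInt} (hM : IsPModular p M)
    {w : G} (hw : w ∈ (P : Subgroup G)) (hw1 : w ≠ 1) :
    ∑ᶠ χ ∈ principalBlock M G, (χ : G → ℂ) 1 * conj ((χ : G → ℂ) w) = 0 :=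
  Cfsg.Agent.Lib.Helper77_WeakOrth.weak_orthogonality_block hM ⟨oneIrr G, rfl⟩ 1 w
    (by rw [orderOf_one]; exact not_dvd_one) (p_dvd_orderOf P hd hw hw1)

/-- Orthogonality of a `p`-regular column and the column of a non-identity element of `P`. -/
theorem preg_orth (hd : AD p (P : Subgroup G) σ m) {M : Ideal AlgInt} (hM : IsPModular p M)
    {w g : G} (hw : w ∈ (P : Subgroup G)) (hw1 : w ≠ 1) (hg : ¬ p ∣ orderOf g) :
    ∑ᶠ χ ∈ principalBlock M G, (χ : G → ℂ) g * conj ((χ : G → ℂ) w) = 0 :=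
  Cfsg.Agent.Lib.Helper77_WeakOrth.weak_orthogonality_block hM ⟨oneIrr G, rfl⟩ g w
    hg (p_dvd_orderOf P hd hw hw1)

/-- The values of the members of the principal block on the `p`-section of an element
of `P ∖ 1`. -/
theorem section_value (hd : AD p (P : Subgroup G) σ m) {M : Ideal AlgInt} (hM : IsPModular p M)
    {χ : IrrCharacter G} (hχ : χ ∈ principalBlock M G) {z y : G} (hzy : IsPPart p z y)
    (hy : y ∈ (P : Subgroup G)) (hy1 : y ≠ 1) : (χ : G → ℂ) z = (χ : G → ℂ) y := by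
  have hp : p.Prime := Fact.out
  obtain ⟨y', hyy', hcomm, hord, hreg⟩ := hzy
  obtain ⟨⟨k, hk⟩, -⟩ := hd.npc y hy hy1
  have hmem : y' ∈ Subgroup.centralizer ({y} : Set G) := by
    rw [Subgroup.mem_centralizer_singleton_iff]
    exact hcomm.eq.symm
  set y'' : Subgroup.centralizer ({y} : Set G) := ⟨y', hmem⟩ with hy''
  have hreg' : ¬ p ∣ orderOf y'' := by
    rw [hy'', Subgroup.orderOf_mk]
    exact hreg
  have hcore : y'' ∈ pPrimeCore p (Subgroup.centralizer ({y} : Set G)) :=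
    Cfsg.Agent.Lib.Helper16_SectionNorm.mem_of_index_pow hp _ hk y'' hreg'
  have hv : y' ∈ centralizerPPrimeCore p y := ⟨y'', hcore, rfl⟩
  rw [← hyy']
  exact Cfsg.Agent.Lib.Helper16_PrincipalSection.principal_mul_centralizerPPrimeCore hM y hord
    y' hv χ hχ

omit [Finite G] [Fact p.Prime] in
theorem isPPart_conj {z y : G} (h : IsPPart p z y) (g : G) :
    IsPPart p (g * z * g⁻¹) (g * y * g⁻¹) := by
  obtain ⟨y', hyy', hcomm, ⟨k, hk⟩, hreg⟩ := h
  refine ⟨g * y' * g⁻¹, ?_, ?_, ⟨k, ?_⟩, ?_⟩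
  · rw [← hyy']; group
  · show g * y * g⁻¹ * (g * y' * g⁻¹) = g * y' * g⁻¹ * (g * y * g⁻¹)
    calc g * y * g⁻¹ * (g * y' * g⁻¹) = g * (y * y') * g⁻¹ := by group
      _ = g * (y' * y) * g⁻¹ := by rw [hcomm.eq]
      _ = g * y' * g⁻¹ * (g * y * g⁻¹) := by group
  · rw [← hk]
    exact (MulAut.conj g).orderOf_eq y
  · have : orderOf (g * y' * g⁻¹) = orderOf y' := (MulAut.conj g).orderOf_eq y'
    rw [this]
    exact hreg

/-- A member of the principal block does not vanish on `P ∖ 1`. -/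
theorem exists_ne_zero (hd : AD p (P : Subgroup G) σ m) {M : Ideal AlgInt}
    (hM : IsPModular p M) (hP1 : Nat.card (P : Subgroup G) ≠ 1)
    {χ : IrrCharacter G} (hχ : χ ∈ principalBlock M G) :
    ∃ w ∈ (P : Subgroup G), w ≠ 1 ∧ (χ : G → ℂ) w ≠ 0 := by
  by_contra hcon
  push Not at hcon
  have hp : p.Prime := Fact.out
  have hMp := isPrime_of_isPModular hM
  -- `χ` vanishes at all `p`-singular elements
  have hvan : ∀ z : G, p ∣ orderOf z → (χ : G → ℂ) z = 0 := by
    intro z hz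
    obtain ⟨y, hzy⟩ := Cfsg.Agent.Lib.Helper16_BlockOrth.exists_isPPart hp z
    have hy1 : y ≠ 1 := by
      intro h
      obtain ⟨y', hyy', -, -, hreg⟩ := hzy
      rw [h, one_mul] at hyy'
      rw [hyy'] at hreg
      exact hreg hz
    obtain ⟨k, hk⟩ : ∃ k : ℕ, orderOf y = p ^ k := by
      obtain ⟨y', -, -, h, -⟩ := hzy
      exact h
    have hpg : IsPGroup p (Subgroup.zpowers y) := by
      apply IsPGroup.of_card (n := k)
      rw [Nat.card_zpowers, hk]
    obtain ⟨c, hc⟩ := Cfsg.Agent.Lib.Helper67_Basic.exists_conj_mem_sylow P hpg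
    have hcy : c * y * c⁻¹ ∈ (P : Subgroup G) := hc y (Subgroup.mem_zpowers y)
    have hcy1 : c * y * c⁻¹ ≠ 1 := by
      intro h
      apply hy1
      have : y = c⁻¹ * (c * y * c⁻¹) * c := by group
      rw [this, h]; group
    have h1 := section_value P hd hM hχ (isPPart_conj hzy c) hcy hcy1
    rw [Cfsg.Agent.Lib.Helper78_CentralChar.isIrrCharacter_isClassFunction χ.2 z c] at h1
    rw [h1]
    exact hcon _ hcy hcy1
  -- so the full power of `p` divides the degree
  have hdvd := Cfsg.Agent.Lib.Helper77_BlockBasics.pow_dvd_of_vanish hp (χ : G → ℂ)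
    (isCharacter_of_isIrrCharacter χ.2) (charDegree (χ : G → ℂ))
    (Cfsg.Agent.Lib.Helper77_BlockBasics.apply_one_eq_charDegree χ) hvan
  have hdG := Cfsg.Agent.Lib.Helper77_BlockBasics.charDegree_dvd_card χ
  have hdpos := Cfsg.Agent.Lib.Helper77_BlockBasics.charDegree_pos χ
  have hnd : ¬ p ∣ Nat.card G / charDegree (χ : G → ℂ) := by
    intro h
    obtain ⟨e, he⟩ : ∃ e : ℕ, e = (Nat.card G).factorization p := ⟨_, rfl⟩
    rw [← he] at hdvd
    have hle : ∀ j : ℕ, p ^ j ∣ Nat.card G → j ≤ e := by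
      intro j hj
      rw [he]
      exact (Nat.Prime.pow_dvd_iff_le_factorization hp Nat.card_pos.ne').mp hj
    obtain ⟨q, hq⟩ := hdG
    obtain ⟨u, hu⟩ := hdvd
    have h' : p ∣ q := by
      rw [hq, Nat.mul_div_cancel_left _ hdpos] at h
      exact h
    obtain ⟨v, hv⟩ := h'
    have h2 : p ^ (e + 1) ∣ Nat.card G := by
      refine ⟨u * v, ?_⟩
      rw [hq, hv]
      conv_lhs => rw [hu]
      rw [pow_succ]
      ring
    have := hle _ h2
    omega
  have hblock := (Cfsg.Agent.S0914.result p M hM χ).mp hnd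
  have hB : principalBlock M G = blockOf M (χ : G → ℂ) :=
    isPBlock_eq_blockOf hMp ⟨oneIrr G, rfl⟩ hχ
  have h1 : oneIrr G ∈ principalBlock M G := sameBlock_refl hMp _
  rw [hB, hblock, Set.mem_singleton_iff] at h1
  -- but the principal character does not vanish
  have hcard : 1 < Nat.card (P : Subgroup G) := by
    have := Nat.card_pos (α := (P : Subgroup G))
    omega
  have hnt : Nontrivial (P : Subgroup G) := (Finite.one_lt_card_iff_nontrivial).mp hcard
  obtain ⟨w, hw⟩ := exists_ne (1 : (P : Subgroup G))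
  have h0 := hcon (w : G) w.2 (fun h => hw (Subtype.ext h))
  rw [← h1] at h0
  have h3 : (oneIrr G : G → ℂ) (w : G) = 1 := rfl
  rw [h3] at h0
  exact one_ne_zero h0

end Cfsg.Agent.Lib.Helper17_AbSylowBlock
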