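import Mathlib
import Cfsg.Agent.Lib.Helper17_Coherence

/-!
# Coherence combinatorics without a size hypothesis (helper17)

`exceptional_abstract_gen`: a family of integer vectors with Gram matrix `e + [rel]`, orthogonal
to a positive vector and with a common coordinate `1`, has the form `a t = Δ - ε e_{c t}` with
`Δ (c t) = x` constant and `‖Δ‖² = e + 2 ε x`.  `sum_ite_orbit`: sums over an orbit.
-/

set_option autoImplicit false

namespace Cfsg.Agent.Lib.Helper17_AbSylowCoh

open Finset Cfsg.Agent.Lib.Helper17_Coherence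

variable {I : Type*} [Fintype I] [DecidableEq I]

/-- The abstract theory of exceptional characters, general form (no hypothesis on the number of
classes beyond the existence of two of them). -/
theorem exceptional_abstract_gen {L : Type*} [Fintype L] [DecidableEq L] [Nonempty L]
    (i0 : I) (a : L → I → ℤ) (d : I → ℤ) (e : ℕ) (rel : L → L → Prop) [DecidableRel rel]
    (hd : ∀ i, 0 < d i)
    (hrefl : ∀ s, rel s s)
    (hgram : ∀ s t, ∑ i, a s i * a t i = (e : ℤ) + if rel s t then 1 else 0)
    (hdeg : ∀ s, ∑ i, a s i * d i = 0)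
    (hi0 : ∀ s, a s i0 = 1)
    (hex : ∀ s, ∃ t, ¬ rel s t) :
    ∃ (Δ : I → ℤ) (ε : ℤ) (c : L → I) (x : ℤ), (ε = 1 ∨ ε = -1) ∧ Δ i0 = 1 ∧
      (∀ t, c t ≠ i0) ∧ (∀ t, Δ (c t) = x) ∧ ∑ i, Δ i ^ 2 = e + 2 * ε * x ∧
      (∀ s t, rel s t ↔ c s = c t) ∧
      (∀ t i, a t i = Δ i - ε * ei (c t) i) ∧
      (∀ t, ∑ i, Δ i * d i = ε * d (c t)) := by
  classical
  have : Nonempty I := ⟨i0⟩
  -- Step 1: pairwise structure
  have hsq : ∀ s t, ∑ i, (a s i - a t i) ^ 2 =
      (∑ i, a s i * a s i) - 2 * (∑ i, a s i * a t i) + ∑ i, a t i * a t i := by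
    intro s t
    rw [Finset.mul_sum, ← Finset.sum_sub_distrib, ← Finset.sum_add_distrib]
    apply Finset.sum_congr rfl
    intro i _
    ring
  have hpair : ∀ s t, a s = a t ∨ ∃ X Y : I, X ≠ Y ∧ ∀ i, a s i = a t i + ei X i - ei Y i := by
    intro s t
    by_cases hst : rel s t
    · left
      have h0 : ∑ i, (a s i - a t i) ^ 2 = 0 := by
        rw [hsq, hgram s s, hgram s t, hgram t t, if_pos (hrefl s), if_pos hst, if_pos (hrefl t)]
        ring
      have h1 := (Finset.sum_eq_zero_iff_of_nonneg (fun i _ => sq_nonneg (a s i - a t i))).mp h0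
      funext i
      have := h1 i (Finset.mem_univ i)
      have := pow_eq_zero_iff (two_ne_zero) |>.mp this
      omega
    · right
      have h2 : ∑ i, (a s i - a t i) ^ 2 = 2 := by
        rw [hsq, hgram s s, hgram s t, hgram t t, if_pos (hrefl s), if_neg hst, if_pos (hrefl t)]
        ring
      have h0 : ∑ i, (a s i - a t i) * d i = 0 := by
        have : ∀ i, (a s i - a t i) * d i = a s i * d i - a t i * d i := fun i => by ring
        rw [Finset.sum_congr rfl (fun i _ => this i), Finset.sum_sub_distrib, hdeg s, hdeg t]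
        ring
      obtain ⟨X, Y, hXY, hδ⟩ := root_of_norm_two (fun i => a s i - a t i) d hd h2 h0
      refine ⟨X, Y, hXY, ?_⟩
      intro i
      have := hδ i
      omega
  -- Step 2: coherence
  obtain ⟨Δ, ε, c, hε, hform⟩ := coherent a hpair
  have hε0 : ε ≠ 0 := by rcases hε with h | h <;> rw [h] <;> norm_num
  have hεsq : ε * ε = 1 := by rcases hε with h | h <;> rw [h] <;> norm_num
  -- Step 3a
  have hrel_iff : ∀ s t, rel s t ↔ c s = c t := by
    intro s t
    constructor
    · intro hst
      have heq : a s = a t := by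
        rcases hpair s t with h1 | ⟨X, Y, hXY, h1⟩
        · exact h1
        · exfalso
          have h2 : ∑ i, (a s i - a t i) ^ 2 = 0 := by
            rw [hsq, hgram s s, hgram s t, hgram t t, if_pos (hrefl s), if_pos hst,
              if_pos (hrefl t)]
            ring
          have h3 := (Finset.sum_eq_zero_iff_of_nonneg
            (fun i _ => sq_nonneg (a s i - a t i))).mp h2 X (Finset.mem_univ X)
          have h4 := pow_eq_zero_iff (two_ne_zero) |>.mp h3
          have h5 := h1 X
          rw [ei_self, ei_ne hXY] at h5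
          omega
      have h1 := congrFun heq (c s)
      rw [hform s, hform t, ei_self] at h1
      have h2 : ε * (ei (c t) (c s) - 1) = 0 := by linarith
      rcases mul_eq_zero.mp h2 with h3 | h3
      · exact absurd h3 hε0
      · exact (ei_eq_one_iff (c t) (c s)).mp (by omega)
    · intro hc
      by_contra hst
      have heq : a s = a t := by
        funext i
        rw [hform s, hform t, hc]
      have h1 := hgram s t
      rw [heq, hgram t t, if_pos (hrefl t), if_neg hst] at h1
      omega
  obtain ⟨t0⟩ := ‹Nonempty L›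
  -- Step 3c
  have hci0 : ∀ t, c t ≠ i0 := by
    intro t hct
    obtain ⟨s, hs⟩ := hex t
    have hcs : c s ≠ c t := fun h => hs ((hrel_iff t s).mpr h.symm)
    have h1 := hi0 s
    rw [hform s, ei_ne (by rw [← hct]; exact Ne.symm hcs)] at h1
    have h2 := hi0 t
    rw [hform t, hct, ei_self] at h2
    have : ε = 0 := by linarith
    exact hε0 this
  have hΔ0 : Δ i0 = 1 := by
    have h1 := hi0 t0
    rw [hform t0, ei_ne (Ne.symm (hci0 t0))] at h1
    linarith
  -- Step 3d
  have hnorm : ∀ t, ∑ i, Δ i ^ 2 = e + 2 * ε * Δ (c t) := by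
    intro t
    have h1 := hgram t t
    rw [if_pos (hrefl t)] at h1
    have h2 : ∑ i, a t i * a t i =
        ∑ i, Δ i ^ 2 - 2 * ε * (∑ i, ei (c t) i * Δ i) + (ε * ε) * ∑ i, ei (c t) i ^ 2 := by
      rw [Finset.mul_sum, Finset.mul_sum, ← Finset.sum_sub_distrib, ← Finset.sum_add_distrib]
      apply Finset.sum_congr rfl
      intro i _
      rw [hform t i]
      ring
    rw [h2, sum_ei_mul, sum_ei_sq, hεsq] at h1
    linarith
  have hx : ∀ t, Δ (c t) = Δ (c t0) := by
    intro t
    have h1 := hnorm t
    have h2 := hnorm t0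
    have h3 : ε * (Δ (c t) - Δ (c t0)) = 0 := by linarith
    rcases mul_eq_zero.mp h3 with h4 | h4
    · exact absurd h4 hε0
    · linarith
  -- conclusion
  refine ⟨Δ, ε, c, Δ (c t0), hε, hΔ0, hci0, hx, ?_, hrel_iff, hform, ?_⟩
  · exact hnorm t0
  · intro t
    have h1 := hdeg t
    have h2 : ∑ i, a t i * d i = ∑ i, Δ i * d i - ε * ∑ i, ei (c t) i * d i := by
      rw [Finset.mul_sum, ← Finset.sum_sub_distrib]
      apply Finset.sum_congr rfl
      intro i _
      rw [hform t i]; ring
    rw [h2, sum_ei_mul] at h1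
    linarith

/-- Sums over an orbit enumerated injectively by `k < m`. -/
theorem sum_ite_orbit {X : Type*} [Fintype X] [DecidableEq X] {β : Type*} [AddCommMonoid β]
    (f : X → β) (m : ℕ) (o : ℕ → X)
    (hinj : ∀ j k, j < m → k < m → o j = o k → j = k) :
    ∑ x : X, (if ∃ k, k < m ∧ x = o k then f x else 0) = ∑ k ∈ Finset.range m, f (o k) := by
  have h1 : ∑ k ∈ Finset.range m, f (o k) = ∑ x ∈ (Finset.range m).image o, f x := by
    rw [Finset.sum_image]
    intro j hj k hk hjk
    exact hinj j k (Finset.mem_range.mp hj) (Finset.mem_range.mp hk) hjk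
  rw [h1, ← Finset.sum_filter]
  apply Finset.sum_congr _ (fun _ _ => rfl)
  ext x
  simp only [Finset.mem_filter, Finset.mem_univ, true_and, Finset.mem_image, Finset.mem_range]
  constructor
  · rintro ⟨k, hk, rfl⟩
    exact ⟨k, hk, rfl⟩
  · rintro ⟨k, hk, rfl⟩
    exact ⟨k, hk, rfl⟩

end Cfsg.Agent.Lib.Helper17_AbSylowCoh
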