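import Mathlib
import Cfsg.Agent.Lib.Helper17_HomoChar
import Cfsg.Agent.Lib.Helper17_AbSylowCoh

/-!
# Exceptional characters for an abelian subgroup with a free cyclic action (helper17)

`exc_structure_gen`: the structure of a set `S` of irreducible characters of `G` whose columns on
the commutative subgroup `R` satisfy the orthogonality relations of a free action of a cyclic
group of order `m` generated by `n ∈ N_G(R)`.  `preg_abstract`: the values of the exceptional
characters at elements whose column is orthogonal to the columns of `R ∖ 1`.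
-/

set_option autoImplicit false
set_option linter.unusedSectionVars false

namespace Cfsg.Agent.Lib.Helper17_AbSylowChar

open Cfsg Cfsg.Agent.Lib.Helper78_LocalRing Cfsg.Agent.Lib.Helper78_CharFacts
  Cfsg.Agent.Lib.Helper16_Char Cfsg.Agent.Lib.Helper17_TIPrime
  Cfsg.Agent.Lib.Helper80_CharBasic
  Cfsg.Agent.Lib.Helper75_CharArith Cfsg.Agent.Lib.Helper3_CharOrtho
  Cfsg.Agent.Lib.Helper3_CharComplete Cfsg.Agent.Lib.Helper3_CharBridge
  Cfsg.Agent.Lib.Helper17_HomoChar Cfsg.Agent.Lib.Helper17_AbSylowCoh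

open scoped ComplexConjugate

section Orbit

variable {G : Type*} [Group G] [Fintype G] (R : Subgroup G) [Fintype R]

theorem ph_add (n : Subgroup.normalizer (R : Set G)) (j k : ℕ) (w : R) :
    R.normalizerMonoidHom (n ^ (j + k)) w =
      R.normalizerMonoidHom (n ^ j) (R.normalizerMonoidHom (n ^ k) w) := by
  rw [pow_add, map_mul]
  rfl

theorem ph_zero (n : Subgroup.normalizer (R : Set G)) (w : R) :
    R.normalizerMonoidHom (n ^ 0) w = w := by
  rw [pow_zero, map_one]
  rfl

theorem ph_ne_one (n : Subgroup.normalizer (R : Set G)) (k : ℕ) (w : R) (hw : w ≠ 1) :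
    R.normalizerMonoidHom (n ^ k) w ≠ 1 := by
  intro h
  apply hw
  have := (R.normalizerMonoidHom (n ^ k)).injective (h.trans (map_one _).symm)
  exact this

/-- The orbit of a non-identity element is enumerated injectively. -/
theorem ph_inj (n : Subgroup.normalizer (R : Set G)) (m : ℕ)
    (hfree : ∀ k : ℕ, 0 < k → k < m → ∀ w : R, w ≠ 1 → R.normalizerMonoidHom (n ^ k) w ≠ w)
    (w : R) (hw : w ≠ 1) (j k : ℕ) (hj : j < m) (hk : k < m)
    (h : R.normalizerMonoidHom (n ^ j) w = R.normalizerMonoidHom (n ^ k) w) : j = k := by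
  have key : ∀ j k : ℕ, j < k → k < m →
      R.normalizerMonoidHom (n ^ j) w ≠ R.normalizerMonoidHom (n ^ k) w := by
    intro j k hjk hk h
    have e : k = j + (k - j) := by omega
    rw [e, ph_add] at h
    have h2 := (R.normalizerMonoidHom (n ^ j)).injective h
    exact hfree (k - j) (by omega) (by omega) w hw h2.symm
  rcases lt_trichotomy j k with h1 | h1 | h1
  · exact absurd h (key j k h1 hk)
  · exact h1
  · exact absurd h.symm (key k j h1 hj)

theorem tw_add (n : Subgroup.normalizer (R : Set G)) (j k : ℕ) (lam : IrrCharacter R) :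
    tw R (n ^ (j + k)) lam = tw R (n ^ k) (tw R (n ^ j) lam) := by
  rw [pow_add, tw_mul]

theorem tw_zero (n : Subgroup.normalizer (R : Set G)) (lam : IrrCharacter R) :
    tw R (n ^ 0) lam = lam := by
  rw [pow_zero, tw_one]

theorem tw_pow_of_fix (n : Subgroup.normalizer (R : Set G)) (m : ℕ)
    (hpow : ∀ w : R, R.normalizerMonoidHom (n ^ m) w = w) (lam : IrrCharacter R) :
    tw R (n ^ m) lam = lam := by
  apply Subtype.ext
  funext r
  rw [tw_apply, hpow]

/-- The orbit of a non-principal character is enumerated injectively. -/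
theorem tw_inj (hcomm : ∀ a b : R, a * b = b * a) (n : Subgroup.normalizer (R : Set G)) (m : ℕ)
    (hfree : ∀ k : ℕ, 0 < k → k < m → ∀ w : R, w ≠ 1 → R.normalizerMonoidHom (n ^ k) w ≠ w)
    (lam : IrrCharacter R) (hlam : lam ≠ oneIrr R) (j k : ℕ) (hj : j < m) (hk : k < m)
    (h : tw R (n ^ j) lam = tw R (n ^ k) lam) : j = k := by
  have key : ∀ j k : ℕ, j < k → k < m → tw R (n ^ j) lam ≠ tw R (n ^ k) lam := by
    intro j k hjk hk h
    have e : k = j + (k - j) := by omega
    rw [e, tw_add] at h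
    exact tw_ne_self R hcomm (n ^ (k - j)) (hfree (k - j) (by omega) (by omega))
      (tw R (n ^ j) lam) (tw_ne_oneIrr R _ lam hlam) h.symm
  rcases lt_trichotomy j k with h1 | h1 | h1
  · exact absurd h (key j k h1 hk)
  · exact h1
  · exact absurd h.symm (key k j h1 hj)

/-- Counting the members of an injectively enumerated orbit equal to a given point. -/
theorem sum_range_ite_eq {X : Type*} [DecidableEq X] (m : ℕ) (o : ℕ → X)
    (hinj : ∀ j k, j < m → k < m → o j = o k → j = k) (x : X) :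
    ∑ k ∈ Finset.range m, (if o k = x then (1 : ℂ) else 0) =
      if ∃ k, k < m ∧ x = o k then 1 else 0 := by
  by_cases h : ∃ k, k < m ∧ x = o k
  · rw [if_pos h]
    obtain ⟨k0, hk0, rfl⟩ := h
    rw [Finset.sum_eq_single k0]
    · rw [if_pos rfl]
    · intro b hb hbk
      rw [if_neg]
      intro hob
      exact hbk (hinj b k0 (Finset.mem_range.mp hb) hk0 hob)
    · intro hk
      exact absurd (Finset.mem_range.mpr hk0) hk
  · rw [if_neg h]
    apply Finset.sum_eq_zero
    intro k hk
    rw [if_neg]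
    intro hok
    exact h ⟨k, Finset.mem_range.mp hk, hok.symm⟩

end Orbit

section Kernel

variable {G : Type*} [Group G] [Fintype G] (R : Subgroup G) [Fintype R]
  [DecidableEq (IrrCharacter R)] [DecidableEq R]

/-- The Gram matrix of the vectors `avec` over a set of characters whose columns on `R` satisfy the
orthogonality relations of a free orbit structure of size `m`. -/
theorem gram_of_kernel_gen (hcomm : ∀ a b : R, a * b = b * a)
    (n : Subgroup.normalizer (R : Set G)) (m : ℕ) (S : Finset (IrrCharacter G))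
    (hfree : ∀ k : ℕ, 0 < k → k < m → ∀ w : R, w ≠ 1 → R.normalizerMonoidHom (n ^ k) w ≠ w)
    (hK : ∀ w w' : R, w ≠ 1 → w' ≠ 1 →
      ∑ χ ∈ S, (χ : G → ℂ) w * conj ((χ : G → ℂ) w') =
        if (∃ k : ℕ, k < m ∧ w' = R.normalizerMonoidHom (n ^ k) w) then (Nat.card R : ℂ) else 0)
    (lam mu : IrrCharacter R) (hlam : lam ≠ oneIrr R) (hmu : mu ≠ oneIrr R) :
    ∑ χ ∈ S, (avec R lam χ : ℂ) * (avec R mu χ : ℂ) =
      (m : ℂ) + (if ∃ k : ℕ, k < m ∧ lam = tw R (n ^ k) mu then 1 else 0) := by
  have hR0 : (Nat.card R : ℂ) ≠ 0 := by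
    rw [Nat.cast_ne_zero]; exact Nat.card_pos.ne'
  have hθ1 := theta_one R hcomm
  have h1 : ∀ χ : IrrCharacter G, (avec R lam χ : ℂ) * (avec R mu χ : ℂ) =
      (Nat.card R : ℂ)⁻¹ ^ 2 * ∑ w : R, ∑ w' : R,
        conj (theta R lam w) * theta R mu w' * ((χ : G → ℂ) w * conj ((χ : G → ℂ) w')) := by
    intro χ
    rw [avec_eq_sum R lam χ, avec_eq_sum' R mu χ, mul_mul_mul_comm, ← sq, Finset.sum_mul_sum]
    congr 1
    refine Finset.sum_congr rfl fun w _ => Finset.sum_congr rfl fun w' _ => ?_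
    ring
  rw [Finset.sum_congr rfl (fun χ _ => h1 χ), ← Finset.mul_sum, Finset.sum_comm]
  have h2 : ∀ w : R, ∑ χ ∈ S, ∑ w' : R,
      conj (theta R lam w) * theta R mu w' * ((χ : G → ℂ) w * conj ((χ : G → ℂ) w')) =
      conj (theta R lam w) * ((Nat.card R : ℂ) *
        ∑ k ∈ Finset.range m, theta R mu (R.normalizerMonoidHom (n ^ k) w)) := by
    intro w
    by_cases hw : w = 1
    · rw [hw, hθ1, map_zero, zero_mul]
      apply Finset.sum_eq_zero
      intro χ _
      apply Finset.sum_eq_zero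
      intro w' _
      rw [zero_mul, zero_mul]
    rw [Finset.sum_comm]
    have h3 : ∀ w' : R, ∑ χ ∈ S,
        conj (theta R lam w) * theta R mu w' * ((χ : G → ℂ) w * conj ((χ : G → ℂ) w')) =
        conj (theta R lam w) * (Nat.card R : ℂ) *
          (if ∃ k : ℕ, k < m ∧ w' = R.normalizerMonoidHom (n ^ k) w then theta R mu w'
            else 0) := by
      intro w'
      rw [← Finset.mul_sum]
      by_cases hw' : w' = 1
      · rw [hw', hθ1, mul_zero, zero_mul]
        simp
      · rw [hK w w' hw hw']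
        split_ifs <;> ring
    rw [Finset.sum_congr rfl (fun w' _ => h3 w'), ← Finset.mul_sum,
      sum_ite_orbit (theta R mu) m (fun k => R.normalizerMonoidHom (n ^ k) w)
        (ph_inj R n m hfree w hw)]
    ring
  rw [Finset.sum_congr rfl (fun w _ => h2 w)]
  have h4 : (Nat.card R : ℂ)⁻¹ ^ 2 * ∑ w : R, conj (theta R lam w) * ((Nat.card R : ℂ) *
        ∑ k ∈ Finset.range m, theta R mu (R.normalizerMonoidHom (n ^ k) w)) =
      ∑ k ∈ Finset.range m, Cfsg.classInner (theta R (tw R (n ^ k) mu)) (theta R lam) := by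
    unfold Cfsg.classInner
    rw [← Finset.mul_sum, Finset.sum_comm, Finset.mul_sum, Finset.mul_sum]
    refine Finset.sum_congr rfl fun w _ => ?_
    have e2 : ∑ k ∈ Finset.range m, theta R (tw R (n ^ k) mu) w * conj (theta R lam w) =
        (∑ k ∈ Finset.range m, theta R mu (R.normalizerMonoidHom (n ^ k) w)) *
          conj (theta R lam w) := by
      rw [Finset.sum_mul]
      rfl
    rw [e2]
    field_simp
  rw [h4]
  have h5 : ∀ k ∈ Finset.range m,
      Cfsg.classInner (theta R (tw R (n ^ k) mu)) (theta R lam) =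
        1 + (if tw R (n ^ k) mu = lam then (1 : ℂ) else 0) := by
    intro k _
    exact classInner_theta R (tw R (n ^ k) mu) lam (tw_ne_oneIrr R _ mu hmu) hlam
  rw [Finset.sum_congr rfl h5, Finset.sum_add_distrib, Finset.sum_const, Finset.card_range,
    nsmul_eq_mul, mul_one,
    sum_range_ite_eq m (fun k => tw R (n ^ k) mu) (tw_inj R hcomm n m hfree mu hmu) lam]

end Kernel

section Structure

open Cfsg.Agent.Lib.Helper17_Coherence

variable {G : Type*} [Group G] [Fintype G] (R : Subgroup G) [Fintype R]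

theorem twL_add (n : Subgroup.normalizer (R : Set G)) (j k : ℕ)
    (l : {lam : IrrCharacter R // lam ≠ oneIrr R}) :
    twL R (n ^ (j + k)) l = twL R (n ^ k) (twL R (n ^ j) l) :=
  Subtype.ext (tw_add R n j k l.1)

theorem twL_zero (n : Subgroup.normalizer (R : Set G))
    (l : {lam : IrrCharacter R // lam ≠ oneIrr R}) : twL R (n ^ 0) l = l :=
  Subtype.ext (tw_zero R n l.1)

/-- The orbit relation on the non-principal characters is symmetric. -/
theorem rel_symm (n : Subgroup.normalizer (R : Set G)) (m : ℕ)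
    (hpow : ∀ w : R, R.normalizerMonoidHom (n ^ m) w = w)
    {s t : {lam : IrrCharacter R // lam ≠ oneIrr R}}
    (h : ∃ k : ℕ, k < m ∧ s = twL R (n ^ k) t) : ∃ k : ℕ, k < m ∧ t = twL R (n ^ k) s := by
  obtain ⟨k, hk, rfl⟩ := h
  by_cases hk0 : k = 0
  · refine ⟨0, by omega, ?_⟩
    rw [hk0, twL_zero, twL_zero]
  · refine ⟨m - k, by omega, ?_⟩
    rw [← twL_add, show k + (m - k) = m by omega]
    exact (Subtype.ext (tw_pow_of_fix R n m hpow t.1)).symm

/-- The structure of a set `S` of irreducible characters of `G` whose columns on the commutative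
subgroup `R` satisfy the orthogonality relations of a free action of a cyclic group of
order `m`. -/
theorem exc_structure_gen [DecidableEq R] (hcomm : ∀ a b : R, a * b = b * a)
    (n : Subgroup.normalizer (R : Set G)) (m : ℕ) (S : Finset (IrrCharacter G))
    (h1S : oneIrr G ∈ S)
    (hfree : ∀ k : ℕ, 0 < k → k < m → ∀ w : R, w ≠ 1 → R.normalizerMonoidHom (n ^ k) w ≠ w)
    (hpow : ∀ w : R, R.normalizerMonoidHom (n ^ m) w = w)
    (hK : ∀ w w' : R, w ≠ 1 → w' ≠ 1 →
      ∑ χ ∈ S, (χ : G → ℂ) w * conj ((χ : G → ℂ) w') =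
        if (∃ k : ℕ, k < m ∧ w' = R.normalizerMonoidHom (n ^ k) w) then (Nat.card R : ℂ) else 0)
    (hK1 : ∀ w : R, w ≠ 1 → ∑ χ ∈ S, (χ : G → ℂ) 1 * conj ((χ : G → ℂ) w) = 0)
    (hm : 0 < m) (hbig : m + 1 < Nat.card R) :
    ∃ (Δ : IrrCharacter G → ℤ) (ε : ℤ)
      (c : {lam : IrrCharacter R // lam ≠ oneIrr R} → IrrCharacter G) (x : ℤ),
      (ε = 1 ∨ ε = -1) ∧ Δ (oneIrr G) = 1 ∧ (∀ l, c l ∈ S) ∧ (∀ l, c l ≠ oneIrr G) ∧
      (∀ l, Δ (c l) = x) ∧ (∑ χ ∈ S, Δ χ ^ 2 = (m : ℤ) + 2 * ε * x) ∧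
      (∀ l l', c l = c l' ↔ ∃ k : ℕ, k < m ∧ l = twL R (n ^ k) l') ∧
      (∀ l, ∑ χ ∈ S, Δ χ * (charDegree (χ : G → ℂ) : ℤ) =
        ε * (charDegree (c l : G → ℂ) : ℤ)) ∧
      (∀ χ ∈ S, ∀ w : R, w ≠ 1 → (χ : G → ℂ) w = (Δ χ : ℂ) +
        (ε : ℂ) * ∑ l : {lam : IrrCharacter R // lam ≠ oneIrr R},
          if c l = χ then (l.1 : R → ℂ) w else 0) ∧
      (∀ (l : {lam : IrrCharacter R // lam ≠ oneIrr R})
        (f : {lam : IrrCharacter R // lam ≠ oneIrr R} → ℂ),
        ∑ l' : {lam : IrrCharacter R // lam ≠ oneIrr R}, (if c l' = c l then f l' else 0) =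
          ∑ k ∈ Finset.range m, f (twL R (n ^ k) l)) := by
  classical
  have hfinR : Finite R := Finite.of_fintype R
  have hfinG : Finite G := Finite.of_fintype G
  let rel : {lam : IrrCharacter R // lam ≠ oneIrr R} →
      {lam : IrrCharacter R // lam ≠ oneIrr R} → Prop :=
    fun s t' => ∃ k : ℕ, k < m ∧ s = twL R (n ^ k) t'
  -- data
  let i0 : S := ⟨oneIrr G, h1S⟩
  let a : {lam : IrrCharacter R // lam ≠ oneIrr R} → S → ℤ := fun l i => avec R l.1 i.1
  let d : S → ℤ := fun i => (charDegree (i.1 : G → ℂ) : ℤ)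
  have hd : ∀ i, 0 < d i := fun i => by
    have := Cfsg.Agent.Lib.Helper77_BlockBasics.charDegree_pos i.1
    show (0 : ℤ) < (charDegree (i.1 : G → ℂ) : ℤ)
    exact_mod_cast this
  have hrefl : ∀ s, rel s s := fun s => ⟨0, hm, (twL_zero R n s).symm⟩
  have hgram : ∀ s t', ∑ i, a s i * a t' i = ((m : ℕ) : ℤ) + if rel s t' then 1 else 0 := by
    intro s t'
    have h := gram_of_kernel_gen R hcomm n m S hfree hK s.1 t'.1 s.2 t'.2
    have h2 : ((∑ i : S, a s i * a t' i : ℤ) : ℂ) =
        ∑ χ ∈ S, (avec R s.1 χ : ℂ) * (avec R t'.1 χ : ℂ) := by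
      push_cast
      exact Finset.sum_coe_sort S (fun χ => (avec R s.1 χ : ℂ) * (avec R t'.1 χ : ℂ))
    have h3 : (if ∃ k : ℕ, k < m ∧ s.1 = tw R (n ^ k) t'.1 then (1 : ℂ) else 0) =
        if rel s t' then 1 else 0 := by
      have hiff : (∃ k : ℕ, k < m ∧ s.1 = tw R (n ^ k) t'.1) ↔ rel s t' := by
        constructor
        · rintro ⟨k, hk, hs⟩
          exact ⟨k, hk, Subtype.ext hs⟩
        · rintro ⟨k, hk, hs⟩
          exact ⟨k, hk, congrArg Subtype.val hs⟩
      by_cases hr : rel s t'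
      · rw [if_pos hr, if_pos (hiff.mpr hr)]
      · rw [if_neg hr, if_neg (fun h' => hr (hiff.mp h'))]
    have h4 : ((∑ i : S, a s i * a t' i : ℤ) : ℂ) =
        ((((m : ℕ) : ℤ) + (if rel s t' then 1 else 0 : ℤ) : ℤ) : ℂ) := by
      rw [h2, h, h3]
      push_cast
      split_ifs <;> norm_num
    exact_mod_cast h4
  have hdeg : ∀ s, ∑ i, a s i * d i = 0 := by
    intro s
    have h := degree_of_kernel R hcomm S hK1 s.1
    have h2 : ((∑ i : S, a s i * d i : ℤ) : ℂ) =
        ∑ χ ∈ S, (avec R s.1 χ : ℂ) * (χ : G → ℂ) 1 := by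
      push_cast
      rw [← Finset.sum_coe_sort S (fun χ => (avec R s.1 χ : ℂ) * (χ : G → ℂ) 1)]
      refine Finset.sum_congr rfl fun i _ => ?_
      rw [Cfsg.Agent.Lib.Helper77_BlockBasics.apply_one_eq_charDegree]
      show ((avec R s.1 i.1 : ℤ) : ℂ) * (((charDegree (i.1 : G → ℂ) : ℕ) : ℤ) : ℂ) = _
      push_cast
      rfl
    rw [h] at h2
    exact_mod_cast h2
  have hi0 : ∀ s, a s i0 = 1 := fun s => avec_oneIrr R s.1 s.2
  have hcard : Fintype.card {lam : IrrCharacter R // lam ≠ oneIrr R} + 1 = Nat.card R := by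
    have h1 := card_irr_of_comm hcomm
    have h2 : Fintype.card {lam : IrrCharacter R // lam ≠ oneIrr R} =
        Fintype.card (IrrCharacter R) - 1 := by
      rw [Fintype.card_subtype_compl, Fintype.card_subtype_eq]
    have hpos : 0 < Fintype.card (IrrCharacter R) := Fintype.card_pos_iff.mpr ⟨oneIrr R⟩
    omega
  have hne : Nonempty {lam : IrrCharacter R // lam ≠ oneIrr R} := by
    rw [← Fintype.card_pos_iff]
    omega
  have hex : ∀ s, ∃ t', ¬ rel s t' := by
    intro s
    by_contra hall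
    push Not at hall
    have hsub : (Finset.univ : Finset {lam : IrrCharacter R // lam ≠ oneIrr R}) ⊆
        (Finset.range m).image (fun k => twL R (n ^ k) s) := by
      intro t' _
      obtain ⟨k, hk, hk'⟩ := rel_symm R n m hpow (hall t')
      exact Finset.mem_image.mpr ⟨k, Finset.mem_range.mpr hk, hk'.symm⟩
    have h1 := Finset.card_le_card hsub
    have h2 := Finset.card_image_le (s := Finset.range m) (f := fun k => twL R (n ^ k) s)
    rw [Finset.card_range] at h2
    rw [Finset.card_univ] at h1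
    omega
  obtain ⟨Δ', ε, c', x, hε, hΔ0, hci0, hΔc, hnorm, hrel, hform, hdegc⟩ :=
    exceptional_abstract_gen i0 a d m rel hd hrefl hgram hdeg hi0 hex
  have hεsq : ε * ε = 1 := by rcases hε with h | h <;> rw [h] <;> norm_num
  -- conversion to functions on all characters
  let Δ : IrrCharacter G → ℤ := fun χ => if h : χ ∈ S then Δ' ⟨χ, h⟩ else 0
  let c : {lam : IrrCharacter R // lam ≠ oneIrr R} → IrrCharacter G := fun l => (c' l).1
  have hΔS : ∀ i : S, Δ i.1 = Δ' i := by
    intro i
    show (if h : i.1 ∈ S then Δ' ⟨i.1, h⟩ else 0) = Δ' i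
    rw [dif_pos i.2]
  have hcc : ∀ l l', c l = c l' ↔ c' l = c' l' := by
    intro l l'
    constructor
    · intro h
      exact Subtype.ext h
    · intro h
      exact congrArg Subtype.val h
  have hsumS : ∀ f : IrrCharacter G → ℤ, ∑ χ ∈ S, f χ = ∑ i : S, f i.1 := fun f =>
    (Finset.sum_coe_sort S f).symm
  refine ⟨Δ, ε, c, x, hε, ?_, fun l => (c' l).2, ?_, ?_, ?_, ?_, ?_, ?_, ?_⟩
  · exact (hΔS i0).trans hΔ0
  · intro l h
    exact hci0 l (Subtype.ext h)
  · intro l
    exact (hΔS (c' l)).trans (hΔc l)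
  · rw [hsumS (fun χ => Δ χ ^ 2), ← hnorm]
    refine Finset.sum_congr rfl fun i _ => ?_
    rw [hΔS]
  · intro l l'
    rw [hcc, ← hrel]
  · intro l
    rw [hsumS (fun χ => Δ χ * (charDegree (χ : G → ℂ) : ℤ))]
    have := hdegc l
    rw [← this]
    refine Finset.sum_congr rfl fun i _ => ?_
    rw [hΔS]
  · intro χ hχ w hw
    set i : S := ⟨χ, hχ⟩ with hi
    have hχi : χ = i.1 := rfl
    rw [apply_eq_neg_sum_avec R hcomm χ w hw]
    have h1 := sum_L' (fun lam : IrrCharacter R => (avec R lam χ : ℂ) * (lam : R → ℂ) w)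
    rw [avec_self] at h1
    simp only [Int.cast_zero, zero_mul, sub_zero] at h1
    rw [← h1]
    have h2 : ∀ l : {lam : IrrCharacter R // lam ≠ oneIrr R},
        (avec R l.1 χ : ℂ) * (l.1 : R → ℂ) w =
          (Δ χ : ℂ) * (l.1 : R → ℂ) w -
            (ε : ℂ) * (if c l = χ then (l.1 : R → ℂ) w else 0) := by
      intro l
      have e : (avec R l.1 χ : ℤ) = Δ' i - ε * ei (c' l) i := hform l i
      have e' : Δ χ = Δ' i := hΔS i
      rw [e, e']
      unfold ei
      by_cases hci : i = c' l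
      · have hc1 : c l = χ := by rw [hχi, hci]
        rw [if_pos hci, if_pos hc1]
        push_cast
        ring
      · have hc1 : ¬ c l = χ := fun h => hci (Subtype.ext h.symm)
        rw [if_neg hci, if_neg hc1]
        push_cast
        ring
    rw [Finset.sum_congr rfl (fun l _ => h2 l), Finset.sum_sub_distrib, ← Finset.mul_sum,
      ← Finset.mul_sum]
    have h3 := sum_L' (fun lam : IrrCharacter R => (lam : R → ℂ) w)
    rw [sum_irr_apply hcomm w hw] at h3
    have h4 : (oneIrr R : R → ℂ) w = 1 := rfl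
    rw [h4] at h3
    rw [h3]
    ring
  · intro l f
    have h1 : ∀ l' : {lam : IrrCharacter R // lam ≠ oneIrr R},
        (if c l' = c l then f l' else 0) =
        (if ∃ k : ℕ, k < m ∧ l' = twL R (n ^ k) l then f l' else 0) := by
      intro l'
      have : (c l' = c l) ↔ rel l' l := by rw [hcc, ← hrel]
      by_cases h : c l' = c l
      · rw [if_pos h, if_pos (this.mp h)]
      · rw [if_neg h, if_neg (fun h' => h (this.mpr h'))]
    rw [Finset.sum_congr rfl (fun l' _ => h1 l')]
    apply sum_ite_orbit f m (fun k => twL R (n ^ k) l)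
    intro j k hj hk hjk
    exact tw_inj R hcomm n m hfree l.1 l.2 j k hj hk (congrArg Subtype.val hjk)

end Structure

section PReg

variable {G : Type*} [Group G] [Fintype G] (R : Subgroup G) [Fintype R]

/-- Row orthogonality for the irreducible characters of `R`. -/
theorem sum_mul_conj_irr [DecidableEq (IrrCharacter R)] (l l' : IrrCharacter R) :
    ∑ w : R, (l : R → ℂ) w * conj ((l' : R → ℂ) w) = if l = l' then (Nat.card R : ℂ) else 0 := by
  have hR0 : (Nat.card R : ℂ) ≠ 0 := by
    rw [Nat.cast_ne_zero]; exact Nat.card_pos.ne'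
  by_cases h : l = l'
  · rw [if_pos h]
    have h1 := classInner_self_of_isIrrCharacter l.2
    unfold Cfsg.classInner at h1
    rw [← h]
    field_simp at h1
    exact h1
  · rw [if_neg h]
    have h1 := classInner_of_isIrrCharacter_of_ne l.2 l'.2 (fun h' => h (Subtype.ext h'))
    unfold Cfsg.classInner at h1
    rcases mul_eq_zero.mp h1 with h2 | h2
    · exact absurd (inv_eq_zero.mp h2) hR0
    · exact h2

/-- The values of the exceptional characters at an element whose column is orthogonal to the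
columns of the non-identity elements of `R`. -/
theorem preg_abstract [DecidableEq (IrrCharacter G)] (hcomm : ∀ a b : R, a * b = b * a)
    (S : Finset (IrrCharacter G)) (Δ : IrrCharacter G → ℤ) (ε : ℤ) (hε : ε = 1 ∨ ε = -1)
    (c : {lam : IrrCharacter R // lam ≠ oneIrr R} → IrrCharacter G) (hcS : ∀ l, c l ∈ S)
    (hval : ∀ χ ∈ S, ∀ w : R, w ≠ 1 → (χ : G → ℂ) w = (Δ χ : ℂ) +
      (ε : ℂ) * ∑ l : {lam : IrrCharacter R // lam ≠ oneIrr R},
        if c l = χ then (l.1 : R → ℂ) w else 0)
    (g : G) (horth : ∀ w : R, w ≠ 1 → ∑ χ ∈ S, (χ : G → ℂ) g * conj ((χ : G → ℂ) w) = 0)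
    (l : {lam : IrrCharacter R // lam ≠ oneIrr R}) :
    (c l : G → ℂ) g = (ε : ℂ) * ∑ χ ∈ S, (Δ χ : ℂ) * (χ : G → ℂ) g := by
  classical
  have hfinR : Finite R := Finite.of_fintype R
  have hεsq : (ε : ℂ) * (ε : ℂ) = 1 := by
    rcases hε with h | h <;> rw [h] <;> norm_num
  have hR0 : (Nat.card R : ℂ) ≠ 0 := by
    rw [Nat.cast_ne_zero]; exact Nat.card_pos.ne'
  set A : ℂ := ∑ χ ∈ S, (Δ χ : ℂ) * (χ : G → ℂ) g with hA
  set F : {lam : IrrCharacter R // lam ≠ oneIrr R} → ℂ := fun l => (c l : G → ℂ) g with hF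
  set T : R → ℂ := fun w => ∑ l : {lam : IrrCharacter R // lam ≠ oneIrr R},
    F l * conj ((l.1 : R → ℂ) w) with hT
  -- Step 1
  have h1 : ∀ w : R, w ≠ 1 → A + (ε : ℂ) * T w = 0 := by
    intro w hw
    rw [← horth w hw]
    have e1 : ∀ χ ∈ S, (χ : G → ℂ) g * conj ((χ : G → ℂ) w) =
        (Δ χ : ℂ) * (χ : G → ℂ) g + (ε : ℂ) *
          ∑ l : {lam : IrrCharacter R // lam ≠ oneIrr R},
            (if c l = χ then (χ : G → ℂ) g * conj ((l.1 : R → ℂ) w) else 0) := by
      intro χ hχ
      rw [hval χ hχ w hw, map_add, map_mul, map_intCast, map_intCast, map_sum, mul_add,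
        Finset.mul_sum, Finset.mul_sum, Finset.mul_sum]
      congr 1
      · ring
      · refine Finset.sum_congr rfl fun l _ => ?_
        split_ifs
        · ring
        · rw [map_zero]; ring
    rw [Finset.sum_congr rfl e1, Finset.sum_add_distrib, ← Finset.mul_sum, Finset.sum_comm]
    congr 2
    refine Finset.sum_congr rfl fun l _ => ?_
    rw [Finset.sum_ite_eq S (c l), if_pos (hcS l)]
  -- Step 2
  have h2 : ∀ mu : {lam : IrrCharacter R // lam ≠ oneIrr R},
      ∑ w : R, (mu.1 : R → ℂ) w * T w = (Nat.card R : ℂ) * F mu := by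
    intro mu
    have e1 : ∀ w : R, (mu.1 : R → ℂ) w * T w =
        ∑ l : {lam : IrrCharacter R // lam ≠ oneIrr R},
          F l * ((mu.1 : R → ℂ) w * conj ((l.1 : R → ℂ) w)) := by
      intro w
      rw [hT]
      simp only
      rw [Finset.mul_sum]
      refine Finset.sum_congr rfl fun l _ => ?_
      ring
    rw [Finset.sum_congr rfl (fun w _ => e1 w), Finset.sum_comm]
    have e2 : ∀ l : {lam : IrrCharacter R // lam ≠ oneIrr R},
        ∑ w : R, F l * ((mu.1 : R → ℂ) w * conj ((l.1 : R → ℂ) w)) =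
          if mu = l then (Nat.card R : ℂ) * F l else 0 := by
      intro l
      rw [← Finset.mul_sum, sum_mul_conj_irr R mu.1 l.1]
      by_cases h : mu = l
      · rw [if_pos h, if_pos (congrArg Subtype.val h)]
        ring
      · rw [if_neg h, if_neg (fun h' => h (Subtype.ext h'))]
        ring
    rw [Finset.sum_congr rfl (fun l _ => e2 l), Finset.sum_ite_eq Finset.univ mu,
      if_pos (Finset.mem_univ _)]
  -- Step 3
  have h3 : ∀ mu : {lam : IrrCharacter R // lam ≠ oneIrr R},
      (Nat.card R : ℂ) * F mu = T 1 + (ε : ℂ) * A := by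
    intro mu
    have hsum0 : ∑ w : R, (mu.1 : R → ℂ) w = 0 := by
      have := sum_mul_conj_irr R mu.1 (oneIrr R)
      rw [if_neg mu.2] at this
      rw [← this]
      refine Finset.sum_congr rfl fun w _ => ?_
      have : (oneIrr R : R → ℂ) w = 1 := rfl
      rw [this, map_one, mul_one]
    have e1 : ∑ w : R, (mu.1 : R → ℂ) w * (T w + (ε : ℂ) * A) = (Nat.card R : ℂ) * F mu := by
      have : ∀ w : R, (mu.1 : R → ℂ) w * (T w + (ε : ℂ) * A) =
          (mu.1 : R → ℂ) w * T w + (mu.1 : R → ℂ) w * ((ε : ℂ) * A) := fun w => by ring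
      rw [Finset.sum_congr rfl (fun w _ => this w), Finset.sum_add_distrib, ← Finset.sum_mul,
        hsum0, zero_mul, add_zero, h2]
    rw [← e1, Finset.sum_eq_single (1 : R)]
    · rw [irr_apply_one_of_comm hcomm mu.1, one_mul]
    · intro w _ hw
      have := h1 w hw
      have e : T w + (ε : ℂ) * A = 0 := by
        linear_combination (ε : ℂ) * this - T w * hεsq
      rw [e, mul_zero]
    · intro h
      exact absurd (Finset.mem_univ _) h
  -- Step 4
  have h4 : ∀ mu : {lam : IrrCharacter R // lam ≠ oneIrr R}, F mu = F l := by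
    intro mu
    have := (h3 mu).trans (h3 l).symm
    exact mul_left_cancel₀ hR0 this
  have hcard : (Fintype.card {lam : IrrCharacter R // lam ≠ oneIrr R} : ℂ) + 1 =
      (Nat.card R : ℂ) := by
    have h1' := card_irr_of_comm hcomm
    have h2' : Fintype.card {lam : IrrCharacter R // lam ≠ oneIrr R} =
        Fintype.card (IrrCharacter R) - 1 := by
      rw [Fintype.card_subtype_compl, Fintype.card_subtype_eq]
    have hpos : 0 < Fintype.card (IrrCharacter R) := Fintype.card_pos_iff.mpr ⟨oneIrr R⟩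
    have : Fintype.card {lam : IrrCharacter R // lam ≠ oneIrr R} + 1 = Nat.card R := by omega
    exact_mod_cast this
  have hT1 : T 1 = (Fintype.card {lam : IrrCharacter R // lam ≠ oneIrr R} : ℂ) * F l := by
    rw [hT]
    simp only
    have : ∀ l' : {lam : IrrCharacter R // lam ≠ oneIrr R},
        F l' * conj ((l'.1 : R → ℂ) 1) = F l := by
      intro l'
      rw [irr_apply_one_of_comm hcomm l'.1, map_one, mul_one, h4 l']
    rw [Finset.sum_congr rfl (fun l' _ => this l'), Finset.sum_const, Finset.card_univ,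
      nsmul_eq_mul]
  have h5 := h3 l
  rw [hT1, ← hcard] at h5
  show F l = (ε : ℂ) * A
  linear_combination h5

end PReg

end Cfsg.Agent.Lib.Helper17_AbSylowChar
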