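import Mathlib
import Cfsg.Prelude.Def_Blocks
import Cfsg.Agent.Lib.Helper3_CharEigen
import Cfsg.Agent.Lib.Helper3_CharOrtho
import Cfsg.Agent.Lib.Helper17_BSQ8Char
import Cfsg.Agent.Lib.Helper17_AbSylowGroup
import Cfsg.Agent.Lib.Helper16_BlockOrth
import Cfsg.Agent.Lib.Helper67_Basic
import Cfsg.Agent.Lib.Helper77_BlockBasics
import Cfsg.Agent.S4835

/-!
# Involutions and the principal block for an abelian Sylow subgroup, odd `p` (helper17)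

Tools for the last clause of Brauer's theorem for inertial index three: values at involutions
are integers, an involution lying in no proper normal subgroup lies in no kernel, the number of
ways of writing a `p`-singular element as a product of two involutions is zero, and the
arithmetic of the three relations.
-/

set_option autoImplicit false
set_option linter.unusedSectionVars false

namespace Cfsg.Agent.Lib.Helper17_AbSylowInv

open Cfsg Cfsg.Agent.Lib.Helper17_AbSylowGroup Cfsg.Agent.Lib.Helper80_CharBasic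
  Cfsg.Agent.Lib.Helper3_CharOrtho Cfsg.Agent.Lib.Helper3_CharEigen
  Cfsg.Agent.Lib.Helper17_BSQ8Char

open scoped ComplexConjugate

section Values

variable {G : Type*} [Group G] [Finite G]

/-- The value of an irreducible character at an involution is an integer. -/
theorem involution_int (χ : IrrCharacter G) {t : G} (ht : t ^ 2 = 1) :
    ∃ k : ℤ, (χ : G → ℂ) t = (k : ℂ) := by
  classical
  obtain ⟨n, ρ, -, hρ⟩ := χ.2
  rw [← hρ, char_eq_sum ρ t]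
  have hμ : ∀ μ ∈ eigSet (ρ t), μ = 1 ∨ μ = -1 := by
    intro μ hμ
    have h1 : (ρ t) ^ 2 = 1 := by
      rw [← map_pow, ht, map_one]
    have h2 := eigenvalue_pow_eq_one h1 (mem_eigSet.mp hμ)
    have h3 : (μ - 1) * (μ + 1) = 0 := by linear_combination h2
    rcases mul_eq_zero.mp h3 with h | h
    · left; linear_combination h
    · right; linear_combination h
  refine ⟨∑ μ ∈ eigSet (ρ t), (Module.finrank ℂ (Module.End.eigenspace (ρ t) μ) : ℤ) *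
    (if μ = 1 then 1 else -1), ?_⟩
  push_cast
  refine Finset.sum_congr rfl fun μ hμ' => ?_
  rcases hμ μ hμ' with h | h
  · rw [h, if_pos rfl]
  · rw [h, if_neg (by norm_num)]

/-- An element lying in no proper normal subgroup lies in the kernel of no non-principal
irreducible character. -/
theorem apply_ne_of_no_normal {t : G} (ht : ∀ K : Subgroup G, K.Normal → t ∈ K → K = ⊤)
    (χ : IrrCharacter G) (hχ : χ ≠ oneIrr G) : (χ : G → ℂ) t ≠ (χ : G → ℂ) 1 := by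
  classical
  let _ : Fintype G := Fintype.ofFinite G
  intro h
  have htop := ht (Cfsg.Agent.S4835.irrKer χ) (Cfsg.Agent.S4835.irrKer_normal χ)
    ((Cfsg.Agent.S4835.mem_irrKer χ t).mpr h)
  have hall : ∀ g : G, (χ : G → ℂ) g = (χ : G → ℂ) 1 := by
    intro g
    have : g ∈ Cfsg.Agent.S4835.irrKer χ := by rw [htop]; trivial
    exact (Cfsg.Agent.S4835.mem_irrKer χ g).mp this
  have h0 := classInner_of_isIrrCharacter_of_ne χ.2 (oneIrr G).2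
    (fun h' => hχ (Subtype.ext h'))
  unfold Cfsg.classInner at h0
  have h1 : ∑ g : G, (χ : G → ℂ) g * conj ((oneIrr G : G → ℂ) g) =
      (Nat.card G : ℂ) * (χ : G → ℂ) 1 := by
    have : ∀ g : G, (χ : G → ℂ) g * conj ((oneIrr G : G → ℂ) g) = (χ : G → ℂ) 1 := by
      intro g
      have e : (oneIrr G : G → ℂ) g = 1 := rfl
      rw [e, map_one, mul_one, hall g]
    rw [Finset.sum_congr rfl (fun g _ => this g), Finset.sum_const, Finset.card_univ,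
      nsmul_eq_mul, Nat.card_eq_fintype_card]
  rw [h1] at h0
  have hG : (Nat.card G : ℂ) ≠ 0 := by
    rw [Nat.cast_ne_zero]; exact Nat.card_pos.ne'
  have hdeg : (χ : G → ℂ) 1 ≠ 0 := by
    rw [Cfsg.Agent.Lib.Helper77_BlockBasics.apply_one_eq_charDegree, Nat.cast_ne_zero]
    exact (Cfsg.Agent.Lib.Helper77_BlockBasics.charDegree_pos χ).ne'
  rcases mul_eq_zero.mp h0 with h2 | h2
  · exact (inv_ne_zero hG) h2
  · rcases mul_eq_zero.mp h2 with h3 | h3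
    · exact hG h3
    · exact hdeg h3

end Values

section Pairs

variable {G : Type*} [Group G] [Finite G] {p : ℕ} [Fact p.Prime] (P : Sylow p G) {σ : G} {m : ℕ}

/-- For odd `p` and odd `m`, a `p`-singular element is not a product of two involutions. -/
theorem no_pairs_odd (hd : AD p (P : Subgroup G) σ m) (hm : Odd m) (hp2 : p ≠ 2)
    {g : G} (hg : p ∣ orderOf g) (x y : G) (hx : x ^ 2 = 1) (hy : y ^ 2 = 1) : x * y ≠ g := by
  intro hxy
  have hp : p.Prime := Fact.out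
  obtain ⟨v, hgv⟩ := Cfsg.Agent.Lib.Helper16_BlockOrth.exists_isPPart hp g
  have hv1 : v ≠ 1 := by
    intro h
    obtain ⟨y', hyy', -, -, hreg⟩ := hgv
    rw [h, one_mul] at hyy'
    rw [hyy'] at hreg
    exact hreg hg
  obtain ⟨y', hzy, hcomm, ⟨k, hk⟩, hreg⟩ := hgv
  have hpg : IsPGroup p (Subgroup.zpowers v) := by
    apply IsPGroup.of_card (n := k)
    rw [Nat.card_zpowers, hk]
  obtain ⟨c, hc⟩ := Cfsg.Agent.Lib.Helper67_Basic.exists_conj_mem_sylow P hpg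
  have hw : c * v * c⁻¹ ∈ (P : Subgroup G) := hc v (Subgroup.mem_zpowers v)
  set w := c * v * c⁻¹ with hwdef
  set m' := orderOf y' with hm'
  have hgm : g ^ m' = v ^ m' := by
    rw [← hzy, hcomm.mul_pow, hm', pow_orderOf_eq_one, mul_one]
  have hxinv : x⁻¹ = x := by
    rw [inv_eq_iff_mul_eq_one, ← pow_two, hx]
  have hyinv : y⁻¹ = y := by
    rw [inv_eq_iff_mul_eq_one, ← pow_two, hy]
  have hginv : x * g * x⁻¹ = g⁻¹ := by
    rw [← hxy, mul_inv_rev, hxinv, hyinv]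
    have : x * (x * y) * x = (x * x) * y * x := by group
    rw [this, ← pow_two, hx, one_mul]
  have hwm : w ^ m' ∈ (P : Subgroup G) := (P : Subgroup G).pow_mem hw m'
  have hordw : orderOf w = p ^ k := by
    rw [hwdef, ← hk]
    exact (MulAut.conj c).orderOf_eq v
  have hk0 : k ≠ 0 := by
    intro h
    rw [h, pow_zero, orderOf_eq_one_iff] at hk
    exact hv1 hk
  have hwm2 : (w ^ m') ^ 2 ≠ 1 := by
    intro h
    have h1 : orderOf w ∣ m' * 2 := by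
      apply orderOf_dvd_of_pow_eq_one
      rw [pow_mul]; exact h
    rw [hordw] at h1
    have h2 : p ∣ m' * 2 := dvd_trans (dvd_pow_self p hk0) h1
    rcases (Nat.Prime.dvd_mul hp).mp h2 with h3 | h3
    · exact hreg h3
    · exact hp2 ((Nat.prime_dvd_prime_iff_eq hp Nat.prime_two).mp h3)
  apply hd.not_isConj_inv hm hwm hwm2
  rw [isConj_iff]
  refine ⟨c * x * c⁻¹, ?_⟩
  have h1 : w ^ m' = c * v ^ m' * c⁻¹ := by rw [hwdef, conj_pow]
  have h2 : x * v ^ m' * x⁻¹ = (v ^ m')⁻¹ := by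
    rw [← hgm, ← conj_pow, hginv, inv_pow]
  rw [h1]
  calc c * x * c⁻¹ * (c * v ^ m' * c⁻¹) * (c * x * c⁻¹)⁻¹
      = c * (x * v ^ m' * x⁻¹) * c⁻¹ := by group
    _ = c * (v ^ m')⁻¹ * c⁻¹ := by rw [h2]
    _ = (c * v ^ m' * c⁻¹)⁻¹ := by group

/-- For odd `p` and odd `m`, the number of ways of writing a `p`-singular element as a product of
two conjugates of an involution is zero. -/
theorem theta_eq_zero_odd [Fintype G] [DecidableEq G] (hd : AD p (P : Subgroup G) σ m)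
    (hm : Odd m) (hp2 : p ≠ 2) {t : G} (ht : t ^ 2 = 1) {g : G} (hg : p ∣ orderOf g) :
    theta t g = 0 := by
  unfold theta
  apply Finset.sum_eq_zero
  intro x' _
  apply Finset.sum_eq_zero
  intro y' _
  rw [if_neg]
  rintro ⟨hx', hy', hxy⟩
  obtain ⟨a, ha⟩ := isConj_iff.mp hx'
  obtain ⟨b, hb⟩ := isConj_iff.mp hy'
  have hx2 : x' ^ 2 = 1 := by rw [← ha, conj_pow, ht]; group
  have hy2 : y' ^ 2 = 1 := by rw [← hb, conj_pow, ht]; group
  exact no_pairs_odd P hd hm hp2 hg x' y' hx2 hy2 hxy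

end Pairs

section Relation

variable {G : Type*} [Group G] [Fintype G] [DecidableEq G]

/-- The relation obtained by pairing `theta t` with a combination of four irreducible characters
vanishing wherever `theta t` does not. -/
theorem third_relation4 (t : G) (ζ₁ ζ₂ ζ₃ ζ₄ : IrrCharacter G) (b₁ b₂ b₃ b₄ : ℤ)
    (h : ∀ g : G, theta t g = 0 ∨ (b₁ : ℂ) * (ζ₁ : G → ℂ) g + (b₂ : ℂ) * (ζ₂ : G → ℂ) g +
      (b₃ : ℂ) * (ζ₃ : G → ℂ) g + (b₄ : ℂ) * (ζ₄ : G → ℂ) g = 0) :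
    (b₁ : ℂ) * ((ζ₁ : G → ℂ) t ^ 2 / (ζ₁ : G → ℂ) 1) +
      (b₂ : ℂ) * ((ζ₂ : G → ℂ) t ^ 2 / (ζ₂ : G → ℂ) 1) +
      (b₃ : ℂ) * ((ζ₃ : G → ℂ) t ^ 2 / (ζ₃ : G → ℂ) 1) +
      (b₄ : ℂ) * ((ζ₄ : G → ℂ) t ^ 2 / (ζ₄ : G → ℂ) 1) = 0 := by
  have hG : (Nat.card G : ℂ) ≠ 0 := by
    rw [Nat.cast_ne_zero]; exact Nat.card_pos.ne'
  have hidx : ((Subgroup.centralizer ({t} : Set G)).index : ℂ) ≠ 0 := by
    rw [Nat.cast_ne_zero]; exact Subgroup.index_ne_zero_of_finite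
  have h0 : ∑ g : G, theta t g * conj ((b₁ : ℂ) * (ζ₁ : G → ℂ) g + (b₂ : ℂ) * (ζ₂ : G → ℂ) g +
      (b₃ : ℂ) * (ζ₃ : G → ℂ) g + (b₄ : ℂ) * (ζ₄ : G → ℂ) g) = 0 := by
    apply Finset.sum_eq_zero
    intro g _
    rcases h g with h1 | h1
    · rw [h1, zero_mul]
    · rw [h1, map_zero, mul_zero]
  have hci : ∀ ζ : IrrCharacter G, ∑ g : G, theta t g * conj ((ζ : G → ℂ) g) =
      conj (((Subgroup.centralizer ({t} : Set G)).index : ℂ) ^ 2 * (ζ : G → ℂ) t ^ 2 /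
        (ζ : G → ℂ) 1) := by
    intro ζ
    have := classInner_theta ζ t
    unfold classInner at this
    have h2 := congrArg (fun z => (Nat.card G : ℂ) * z) this
    rw [← mul_assoc, ← mul_assoc, mul_inv_cancel₀ hG, one_mul, one_mul] at h2
    exact h2
  have h1 : ∑ g : G, theta t g * conj ((b₁ : ℂ) * (ζ₁ : G → ℂ) g + (b₂ : ℂ) * (ζ₂ : G → ℂ) g +
      (b₃ : ℂ) * (ζ₃ : G → ℂ) g + (b₄ : ℂ) * (ζ₄ : G → ℂ) g) =
      (b₁ : ℂ) * ∑ g : G, theta t g * conj ((ζ₁ : G → ℂ) g) +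
      (b₂ : ℂ) * ∑ g : G, theta t g * conj ((ζ₂ : G → ℂ) g) +
      (b₃ : ℂ) * ∑ g : G, theta t g * conj ((ζ₃ : G → ℂ) g) +
      (b₄ : ℂ) * ∑ g : G, theta t g * conj ((ζ₄ : G → ℂ) g) := by
    rw [Finset.mul_sum, Finset.mul_sum, Finset.mul_sum, Finset.mul_sum,
      ← Finset.sum_add_distrib, ← Finset.sum_add_distrib, ← Finset.sum_add_distrib]
    refine Finset.sum_congr rfl fun g _ => ?_
    simp only [map_add, map_mul, map_intCast]
    ring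
  rw [h1, hci, hci, hci, hci] at h0
  have h2 := congrArg conj h0
  simp only [map_add, map_mul, map_intCast, Complex.conj_conj, map_zero] at h2
  have hidx2 : ((Subgroup.centralizer ({t} : Set G)).index : ℂ) ^ 2 ≠ 0 := pow_ne_zero 2 hidx
  apply mul_left_cancel₀ hidx2
  rw [mul_zero, ← h2]
  ring

end Relation

section Arith

/-- The arithmetic of the three relations. -/
theorem arith_three (a₂ a₃ e : ℤ) (ha₂ : a₂ = 1 ∨ a₂ = -1) (ha₃ : a₃ = 1 ∨ a₃ = -1)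
    (he : e = 1 ∨ e = -1) (f₂ f₃ f₄ : ℕ) (hf₂ : 0 < f₂) (hf₃ : 0 < f₃) (hf₄ : 0 < f₄)
    (c₂ c₃ c₄ : ℤ) (hc₂ : c₂ ≠ f₂) (hc₃ : c₃ ≠ f₃) (hc₄ : c₄ ≠ f₄)
    (R1 : 1 + a₂ * f₂ + a₃ * f₃ + e * f₄ = 0)
    (R2 : 1 + a₂ * c₂ + a₃ * c₃ + e * c₄ = 0)
    (R3 : (1 : ℚ) + a₂ * ((c₂ : ℚ) ^ 2 / f₂) + a₃ * ((c₃ : ℚ) ^ 2 / f₃) +
      e * ((c₄ : ℚ) ^ 2 / f₄) = 0) :
    a₂ * a₃ * e = 1 ∧ IsSquare (f₂ * f₃ * f₄) := by
  have hf₂' : (f₂ : ℚ) ≠ 0 := by exact_mod_cast hf₂.ne'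
  have hf₃' : (f₃ : ℚ) ≠ 0 := by exact_mod_cast hf₃.ne'
  have hf₄' : (f₄ : ℚ) ≠ 0 := by exact_mod_cast hf₄.ne'
  have ha₂' : (a₂ : ℚ) ≠ 0 := by rcases ha₂ with h | h <;> rw [h] <;> norm_num
  have ha₃' : (a₃ : ℚ) ≠ 0 := by rcases ha₃ with h | h <;> rw [h] <;> norm_num
  have he' : (e : ℚ) ≠ 0 := by rcases he with h | h <;> rw [h] <;> norm_num
  set s₂ : ℚ := (c₂ : ℚ) / f₂ - 1 with hs₂
  set s₃ : ℚ := (c₃ : ℚ) / f₃ - 1 with hs₃
  set s₄ : ℚ := (c₄ : ℚ) / f₄ - 1 with hs₄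
  set u₂ : ℚ := (a₂ : ℚ) * f₂ with hu₂
  set u₃ : ℚ := (a₃ : ℚ) * f₃ with hu₃
  set u₄ : ℚ := (e : ℚ) * f₄ with hu₄
  have hs₂0 : s₂ ≠ 0 := by
    rw [hs₂, sub_ne_zero, Ne, div_eq_one_iff_eq hf₂']
    exact_mod_cast hc₂
  have hs₃0 : s₃ ≠ 0 := by
    rw [hs₃, sub_ne_zero, Ne, div_eq_one_iff_eq hf₃']
    exact_mod_cast hc₃
  have hs₄0 : s₄ ≠ 0 := by
    rw [hs₄, sub_ne_zero, Ne, div_eq_one_iff_eq hf₄']
    exact_mod_cast hc₄
  have hu₂0 : u₂ ≠ 0 := mul_ne_zero ha₂' hf₂'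
  have hu₃0 : u₃ ≠ 0 := mul_ne_zero ha₃' hf₃'
  have hu₄0 : u₄ ≠ 0 := mul_ne_zero he' hf₄'
  have R1q : (1 : ℚ) + a₂ * f₂ + a₃ * f₃ + e * f₄ = 0 := by exact_mod_cast R1
  have R2q : (1 : ℚ) + a₂ * c₂ + a₃ * c₃ + e * c₄ = 0 := by exact_mod_cast R2
  have h1 : u₂ + u₃ + u₄ = -1 := by
    rw [hu₂, hu₃, hu₄]; linear_combination R1q
  have e2 : ∀ (a : ℚ) (cc ff : ℚ), ff ≠ 0 → a * ff * (cc / ff - 1) = a * cc - a * ff := by
    intro a cc ff hff
    field_simp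
  have e3 : ∀ (a : ℚ) (cc ff : ℚ), ff ≠ 0 →
      a * ff * (cc / ff - 1) ^ 2 = a * (cc ^ 2 / ff) - 2 * (a * cc) + a * ff := by
    intro a cc ff hff
    field_simp
    ring
  have h2 : u₂ * s₂ + u₃ * s₃ + u₄ * s₄ = 0 := by
    rw [hu₂, hu₃, hu₄, hs₂, hs₃, hs₄, e2 _ _ _ hf₂', e2 _ _ _ hf₃', e2 _ _ _ hf₄']
    linear_combination R2q - R1q
  have h3 : u₂ * s₂ ^ 2 + u₃ * s₃ ^ 2 + u₄ * s₄ ^ 2 = 0 := by
    rw [hu₂, hu₃, hu₄, hs₂, hs₃, hs₄, e3 _ _ _ hf₂', e3 _ _ _ hf₃', e3 _ _ _ hf₄']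
    linear_combination R3 - 2 * R2q + R1q
  have L2 : u₂ * (s₂ - s₃) * (s₂ - s₄) = -(s₃ * s₄) := by
    linear_combination h3 - (s₃ + s₄) * h2 + s₃ * s₄ * h1
  have L3 : u₃ * (s₃ - s₂) * (s₃ - s₄) = -(s₂ * s₄) := by
    linear_combination h3 - (s₂ + s₄) * h2 + s₂ * s₄ * h1
  have L4 : u₄ * (s₄ - s₂) * (s₄ - s₃) = -(s₂ * s₃) := by
    linear_combination h3 - (s₂ + s₃) * h2 + s₂ * s₃ * h1
  have h23 : s₂ - s₃ ≠ 0 := by
    intro h
    rw [h, mul_zero, zero_mul] at L2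
    exact (mul_ne_zero hs₃0 hs₄0) (neg_eq_zero.mp L2.symm)
  have h24 : s₂ - s₄ ≠ 0 := by
    intro h
    rw [h, mul_zero] at L2
    exact (mul_ne_zero hs₃0 hs₄0) (neg_eq_zero.mp L2.symm)
  have h34 : s₃ - s₄ ≠ 0 := by
    intro h
    rw [h, mul_zero] at L3
    exact (mul_ne_zero hs₂0 hs₄0) (neg_eq_zero.mp L3.symm)
  set D : ℚ := (s₂ - s₃) * (s₂ - s₄) * (s₃ - s₄) with hD
  have hD0 : D ≠ 0 := mul_ne_zero (mul_ne_zero h23 h24) h34
  have hprod : (u₂ * (s₂ - s₃) * (s₂ - s₄)) * (u₃ * (s₃ - s₂) * (s₃ - s₄)) *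
      (u₄ * (s₄ - s₂) * (s₄ - s₃)) = (-(s₃ * s₄)) * (-(s₂ * s₄)) * (-(s₂ * s₃)) := by
    rw [L2, L3, L4]
  have hsq : u₂ * u₃ * u₄ = (s₂ * s₃ * s₄ / D) ^ 2 := by
    rw [div_pow, eq_div_iff (pow_ne_zero 2 hD0), hD]
    linear_combination (-1 : ℚ) * hprod
  have hpos : 0 < u₂ * u₃ * u₄ := by
    rw [hsq]
    have : s₂ * s₃ * s₄ / D ≠ 0 :=
      div_ne_zero (mul_ne_zero (mul_ne_zero hs₂0 hs₃0) hs₄0) hD0
    positivity
  have hfpos : (0 : ℚ) < (f₂ : ℚ) * f₃ * f₄ := by positivity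
  have hu : u₂ * u₃ * u₄ = ((a₂ * a₃ * e : ℤ) : ℚ) * ((f₂ : ℚ) * f₃ * f₄) := by
    rw [hu₂, hu₃, hu₄]
    push_cast
    ring
  have hsign : a₂ * a₃ * e = 1 := by
    have hcases : a₂ * a₃ * e = 1 ∨ a₂ * a₃ * e = -1 := by
      rcases ha₂ with h | h <;> rcases ha₃ with h' | h' <;> rcases he with h'' | h'' <;>
        rw [h, h', h''] <;> norm_num
    rcases hcases with h | h
    · exact h
    · exfalso
      rw [hu, h] at hpos
      push_cast at hpos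
      linarith
  refine ⟨hsign, ?_⟩
  rw [hu, hsign] at hsq
  push_cast at hsq
  rw [one_mul] at hsq
  have hsqQ : IsSquare (((f₂ * f₃ * f₄ : ℕ) : ℚ)) := by
    refine ⟨s₂ * s₃ * s₄ / D, ?_⟩
    push_cast
    rw [hsq]
    ring
  exact Rat.isSquare_natCast_iff.mp hsqQ

end Arith

end Cfsg.Agent.Lib.Helper17_AbSylowInv
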