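import Mathlib
import Cfsg.Prelude.Def_Blocks
import Cfsg.Agent.Lib.Helper17_AbSylowChar
import Cfsg.Agent.Lib.Helper17_AbSylowBlock
import Cfsg.Agent.Lib.Helper74_LinAct

/-!
# Brauer's theorem on the principal block for an abelian Sylow subgroup with a cyclic free
inertial quotient (helper17)

`Core`: the decomposition data of the principal block; `core`: their existence under the group
theoretic data `AD`.
-/

set_option autoImplicit false
set_option linter.unusedSectionVars false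

namespace Cfsg.Agent.Lib.Helper17_AbSylowMain

open Cfsg Cfsg.Agent.Lib.Helper78_LocalRing Cfsg.Agent.Lib.Helper78_CharFacts
  Cfsg.Agent.Lib.Helper16_Char Cfsg.Agent.Lib.Helper17_TIPrime
  Cfsg.Agent.Lib.Helper80_CharBasic
  Cfsg.Agent.Lib.Helper75_CharArith Cfsg.Agent.Lib.Helper3_CharOrtho
  Cfsg.Agent.Lib.Helper3_CharComplete Cfsg.Agent.Lib.Helper3_CharBridge
  Cfsg.Agent.Lib.Helper17_HomoChar Cfsg.Agent.Lib.Helper17_AbSylowCoh
  Cfsg.Agent.Lib.Helper17_AbSylowChar Cfsg.Agent.Lib.Helper17_AbSylowGroup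
  Cfsg.Agent.Lib.Helper17_AbSylowBlock

open scoped ComplexConjugate

section Sums

/-- A `finsum` over a set of a finite type as a `Finset` sum. -/
theorem fs_mem {α β : Type*} [Fintype α] [AddCommMonoid β] (B : Set α) [DecidablePred (· ∈ B)]
    (f : α → β) : ∑ᶠ a ∈ B, f a = ∑ a ∈ Finset.univ.filter (· ∈ B), f a := by
  have : B = ((Finset.univ.filter (· ∈ B) : Finset α) : Set α) := by
    ext a
    simp
  conv_lhs => rw [this]
  exact finsum_mem_coe_finset _ _

/-- A conditional `finsum` over a finite type as a `Finset` sum. -/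
theorem fs_cond {α β : Type*} [Fintype α] [AddCommMonoid β] (q : α → Prop) [DecidablePred q]
    (f : α → β) : ∑ᶠ (a) (_ : q a), f a = ∑ a, if q a then f a else 0 := by
  have h := fs_mem {a | q a} f
  rw [Finset.sum_filter] at h
  exact h

end Sums

variable {G : Type*} [Group G] [Finite G] {p : ℕ} [Fact p.Prime]

/-- The non-principal irreducible characters of a subgroup. -/
abbrev NP (R : Subgroup G) : Type _ := {lam : IrrCharacter R // lam ≠ oneIrr R}

/-- The decomposition data of the principal block: `Δ` the constant parts, `ε` the sign,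
`c` the exceptional characters, `x` the constant part of the exceptional characters. -/
structure Core (P : Sylow p G) (n : Subgroup.normalizer ((P : Subgroup G) : Set G)) (m : ℕ)
    (M : Ideal AlgInt) (Δ : IrrCharacter G → ℤ) (ε : ℤ)
    (c : NP (P : Subgroup G) → IrrCharacter G) (x : ℤ) : Prop where
  eps : ε = 1 ∨ ε = -1
  one : Δ (oneIrr G) = 1
  mem : ∀ l, c l ∈ principalBlock M G
  ne_one : ∀ l, c l ≠ oneIrr G
  dx : ∀ l, Δ (c l) = x
  norm : ∑ᶠ χ ∈ principalBlock M G, Δ χ ^ 2 = (m : ℤ) + 2 * ε * x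
  rel : ∀ l l', c l = c l' ↔ ∃ k : ℕ, k < m ∧ l.1 = tw (P : Subgroup G) (n ^ k) l'.1
  val : ∀ χ ∈ principalBlock M G, ∀ (z : G) (y : (P : Subgroup G)), IsPPart p z (y : G) →
    (y : G) ≠ 1 → (χ : G → ℂ) z = (Δ χ : ℂ) +
      (ε : ℂ) * ∑ᶠ (l : NP (P : Subgroup G)) (_ : c l = χ), l.1.1 y
  fib : ∀ (l : NP (P : Subgroup G)) (f : NP (P : Subgroup G) → ℂ),
    ∑ᶠ (l' : NP (P : Subgroup G)) (_ : c l' = c l), f l' =
      ∑ k ∈ Finset.range m, f ⟨tw (P : Subgroup G) (n ^ k) l.1, tw_ne_oneIrr _ _ l.1 l.2⟩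
  ne_zero : ∀ χ ∈ principalBlock M G, (∀ l, c l ≠ χ) → Δ χ ≠ 0
  preg : ∀ l (g : G), ¬ p ∣ orderOf g →
    (c l : G → ℂ) g = (ε : ℂ) * ∑ᶠ χ ∈ principalBlock M G, (Δ χ : ℂ) * (χ : G → ℂ) g

/-- **Existence of the decomposition data.** -/
theorem core (P : Sylow p G) {σ : G} {m : ℕ} (hd : AD p (P : Subgroup G) σ m)
    {M : Ideal AlgInt} (hM : IsPModular p M) (hP1 : Nat.card (P : Subgroup G) ≠ 1)
    (hm : 0 < m) (hbig : m + 1 < Nat.card (P : Subgroup G)) :
    ∃ (Δ : IrrCharacter G → ℤ) (ε : ℤ) (c : NP (P : Subgroup G) → IrrCharacter G) (x : ℤ),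
      Core P ⟨σ, hd.norm⟩ m M Δ ε c x := by
  classical
  have hMp := isPrime_of_isPModular hM
  let _ : Fintype G := Fintype.ofFinite G
  let _ : Fintype (P : Subgroup G) := Fintype.ofFinite _
  set BF : Finset (IrrCharacter G) :=
    Finset.univ.filter (fun χ => χ ∈ principalBlock M G) with hBF
  have hS : ∀ f : IrrCharacter G → ℂ,
      ∑ᶠ χ ∈ principalBlock M G, f χ = ∑ χ ∈ BF, f χ := fun f => fs_mem _ f
  have hSZ : ∀ f : IrrCharacter G → ℤ,
      ∑ᶠ χ ∈ principalBlock M G, f χ = ∑ χ ∈ BF, f χ := fun f => fs_mem _ f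
  have hmemBF : ∀ χ, χ ∈ BF ↔ χ ∈ principalBlock M G := by
    intro χ
    rw [hBF, Finset.mem_filter]
    simp
  set R : Subgroup G := (P : Subgroup G) with hRdef
  have hcomm : ∀ a b : R, a * b = b * a := fun a b => Subtype.ext (hd.comm a a.2 b b.2)
  set n : Subgroup.normalizer (R : Set G) := ⟨σ, hd.norm⟩ with hn
  have hφcoe : ∀ (k : ℕ) (w : R),
      ((R.normalizerMonoidHom (n ^ k) w : R) : G) = σ ^ k * w * (σ ^ k)⁻¹ := fun k w => rfl
  have hne1 : ∀ w : R, w ≠ 1 → (w : G) ≠ 1 := fun w hw h => hw (Subtype.ext h)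
  have hfree : ∀ k : ℕ, 0 < k → k < m → ∀ w : R, w ≠ 1 →
      R.normalizerMonoidHom (n ^ k) w ≠ w := by
    intro k hk0 hkm w hw h
    have := congrArg Subtype.val h
    rw [hφcoe] at this
    exact hd.free k hk0 hkm w w.2 (hne1 w hw) this
  have hpow : ∀ w : R, R.normalizerMonoidHom (n ^ m) w = w := by
    intro w
    apply Subtype.ext
    rw [hφcoe]
    exact hd.pow w w.2
  have hconj_iff : ∀ w w' : R, IsConj (w : G) (w' : G) ↔
      ∃ k : ℕ, k < m ∧ w' = R.normalizerMonoidHom (n ^ k) w := by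
    intro w w'
    constructor
    · intro hc
      obtain ⟨k, hk, h⟩ := hd.fusion w w.2 w' w'.2 hc
      exact ⟨k, hk, Subtype.ext (by rw [hφcoe]; exact h)⟩
    · rintro ⟨k, -, h⟩
      rw [h, hφcoe]
      exact isConj_iff.mpr ⟨σ ^ k, rfl⟩
  have hK : ∀ w w' : R, w ≠ 1 → w' ≠ 1 →
      ∑ χ ∈ BF, (χ : G → ℂ) w * conj ((χ : G → ℂ) w') =
        if (∃ k : ℕ, k < m ∧ w' = R.normalizerMonoidHom (n ^ k) w) then (Nat.card R : ℂ)
        else 0 := by
    intro w w' hw hw'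
    rw [← hS]
    by_cases hc : IsConj (w : G) (w' : G)
    · rw [if_pos ((hconj_iff w w').mp hc)]
      exact kernel_conj P hd hM w.2 (hne1 w hw) hc
    · rw [if_neg (fun h => hc ((hconj_iff w w').mpr h))]
      exact kernel_not_conj P hd hM w.2 w'.2 hc
  have hK1 : ∀ w : R, w ≠ 1 → ∑ χ ∈ BF, (χ : G → ℂ) 1 * conj ((χ : G → ℂ) w) = 0 := by
    intro w hw
    rw [← hS]
    exact kernel_one P hd hM w.2 (hne1 w hw)
  have h1S : oneIrr G ∈ BF := (hmemBF _).mpr (sameBlock_refl hMp _)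
  obtain ⟨Δ, ε, c, x, hε, hΔ0, hcS, hc1, hΔc, hnorm, hrel, hdeg, hval, hfib⟩ :=
    exc_structure_gen R hcomm n m BF h1S hfree hpow hK hK1 hm hbig
  refine ⟨Δ, ε, c, x, ⟨hε, hΔ0, fun l => (hmemBF _).mp (hcS l), hc1, hΔc, ?_, ?_, ?_, ?_, ?_, ?_⟩⟩
  · rw [hSZ]
    exact hnorm
  · intro l l'
    rw [hrel]
    constructor
    · rintro ⟨k, hk, h⟩
      exact ⟨k, hk, congrArg Subtype.val h⟩
    · rintro ⟨k, hk, h⟩
      exact ⟨k, hk, Subtype.ext h⟩
  · intro χ hχ z y hzy hy1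
    rw [section_value P hd hM hχ hzy y.2 hy1,
      hval χ ((hmemBF χ).mpr hχ) y (fun h => hy1 (congrArg Subtype.val h)), fs_cond]
  · intro l f
    rw [fs_cond]
    exact hfib l f
  · intro χ hχ hne h0
    obtain ⟨w, hw, hw1, hne0⟩ := exists_ne_zero P hd hM hP1 hχ
    apply hne0
    have := hval χ ((hmemBF χ).mpr hχ) ⟨w, hw⟩ (fun h => hw1 (congrArg Subtype.val h))
    rw [show ((⟨w, hw⟩ : R) : G) = w from rfl] at this
    rw [this, h0]
    have h2 : ∑ l : NP R, (if c l = χ then (l.1 : R → ℂ) ⟨w, hw⟩ else 0) = 0 := by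
      apply Finset.sum_eq_zero
      intro l _
      rw [if_neg (hne l)]
    rw [h2]
    simp
  · intro l g hg
    rw [hS]
    apply preg_abstract R hcomm BF Δ ε hε c hcS hval g
    intro w hw
    rw [← hS]
    exact preg_orth P hd hM w.2 (hne1 w hw) hg

end Cfsg.Agent.Lib.Helper17_AbSylowMain
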