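import Mathlib
import Cfsg.Agent.Lib.Helper17_AbSylowMain

/-!
# Packaging the decomposition data of the principal block (helper17)

From `Core` to the clauses of Brauer's theorem: the sets `XX` (non-exceptional) and `Set.range c`
(exceptional), the map `zeta` from the linear characters of `P`.
-/

set_option autoImplicit false
set_option linter.unusedSectionVars false

namespace Cfsg.Agent.Lib.Helper17_AbSylowPack

open Cfsg Cfsg.Agent.Lib.Helper78_LocalRing Cfsg.Agent.Lib.Helper78_CharFacts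
  Cfsg.Agent.Lib.Helper16_Char Cfsg.Agent.Lib.Helper17_TIPrime
  Cfsg.Agent.Lib.Helper80_CharBasic
  Cfsg.Agent.Lib.Helper75_CharArith Cfsg.Agent.Lib.Helper3_CharOrtho
  Cfsg.Agent.Lib.Helper3_CharComplete Cfsg.Agent.Lib.Helper3_CharBridge
  Cfsg.Agent.Lib.Helper17_HomoChar Cfsg.Agent.Lib.Helper17_AbSylowCoh
  Cfsg.Agent.Lib.Helper17_AbSylowChar Cfsg.Agent.Lib.Helper17_AbSylowGroup
  Cfsg.Agent.Lib.Helper17_AbSylowBlock Cfsg.Agent.Lib.Helper17_AbSylowMain
  Cfsg.Agent.Lib.Helper74_LinAct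

open scoped ComplexConjugate

variable {G : Type*} [Group G] [Finite G] {p : ℕ} [Fact p.Prime]

/-- The non-exceptional members of the principal block. -/
def XX (P : Sylow p G) (M : Ideal AlgInt) (c : NP (P : Subgroup G) → IrrCharacter G) :
    Set (IrrCharacter G) :=
  {χ | χ ∈ principalBlock M G ∧ ∀ l, c l ≠ χ}

open Classical in
/-- The exceptional character attached to a linear character of `P`. -/
noncomputable def zeta (P : Sylow p G) (c : NP (P : Subgroup G) → IrrCharacter G)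
    (ψ : ↥(P : Subgroup G) →* ℂˣ) : IrrCharacter G :=
  if h : lin ψ ≠ oneIrr (P : Subgroup G) then c ⟨lin ψ, h⟩ else oneIrr G

omit [Finite G] [Fact p.Prime] in
theorem lin_one (R : Subgroup G) : lin (1 : R →* ℂˣ) = oneIrr R := by
  apply Subtype.ext
  funext w
  simp [oneIrr]

omit [Finite G] [Fact p.Prime] in
theorem lin_ne_one (R : Subgroup G) {ψ : R →* ℂˣ} (hψ : ψ ≠ 1) : lin ψ ≠ oneIrr R := by
  intro h
  apply hψ
  rw [← lin_one] at h
  exact lin_injective h

omit [Fact p.Prime] in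
theorem zeta_of_ne (P : Sylow p G) (c : NP (P : Subgroup G) → IrrCharacter G)
    {ψ : ↥(P : Subgroup G) →* ℂˣ} (hψ : ψ ≠ 1) :
    zeta P c ψ = c ⟨lin ψ, lin_ne_one _ hψ⟩ := by
  unfold zeta
  rw [dif_pos (lin_ne_one _ hψ)]

variable {P : Sylow p G} {n : Subgroup.normalizer ((P : Subgroup G) : Set G)} {m : ℕ}
  {M : Ideal AlgInt} {Δ : IrrCharacter G → ℤ} {ε : ℤ}
  {c : NP (P : Subgroup G) → IrrCharacter G} {x : ℤ}

theorem block_eq (hc : Core P n m M Δ ε c x) :
    principalBlock M G = XX P M c ∪ Set.range c := by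
  classical
  ext χ
  constructor
  · intro hχ
    by_cases h : ∃ l, c l = χ
    · right
      exact h
    · left
      push Not at h
      exact ⟨hχ, h⟩
  · rintro (h | ⟨l, rfl⟩)
    · exact h.1
    · exact hc.mem l

omit [Finite G] [Fact p.Prime] in
theorem disj (P : Sylow p G) (M : Ideal AlgInt) (c : NP (P : Subgroup G) → IrrCharacter G) :
    Disjoint (XX P M c) (Set.range c) := by
  rw [Set.disjoint_left]
  rintro χ hχ ⟨l, hl⟩
  exact hχ.2 l hl

theorem one_mem (hc : Core P n m M Δ ε c x) (hM : M.IsPrime) : oneIrr G ∈ XX P M c :=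
  ⟨sameBlock_refl hM _, fun l => hc.ne_one l⟩

/-- The values of the non-exceptional characters. -/
theorem val_X (hc : Core P n m M Δ ε c x) {χ : IrrCharacter G} (hχ : χ ∈ XX P M c) :
    Δ χ ≠ 0 ∧ ∀ z y : G, IsPPart p z y → y ∈ (P : Subgroup G) → y ≠ 1 →
      (χ : G → ℂ) z = (Δ χ : ℂ) := by
  refine ⟨hc.ne_zero χ hχ.1 hχ.2, ?_⟩
  intro z y hzy hy hy1
  have h := hc.val χ hχ.1 z ⟨y, hy⟩ hzy hy1
  rw [h]
  have h0 : ∑ᶠ (l : NP (P : Subgroup G)) (_ : c l = χ), l.1.1 (⟨y, hy⟩ : (P : Subgroup G)) =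
      0 := by
    show ∑ᶠ l ∈ {l : NP (P : Subgroup G) | c l = χ},
      l.1.1 (⟨y, hy⟩ : (P : Subgroup G)) = 0
    apply finsum_mem_of_eqOn_zero
    intro l hl
    exact absurd hl (hχ.2 l)
  rw [h0, mul_zero, add_zero]

/-- The number of non-principal irreducible characters of a commutative group. -/
theorem card_NP {R : Subgroup G} [Fintype R] (hcomm : ∀ a b : R, a * b = b * a)
    [Fintype (NP R)] : Fintype.card (NP R) + 1 = Nat.card R := by
  classical
  have h1 := card_irr_of_comm hcomm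
  have h2 : Fintype.card (NP R) = Fintype.card (IrrCharacter R) - 1 := by
    rw [← Fintype.card_subtype_eq (oneIrr R), ← Fintype.card_subtype_compl]
  have hpos : 0 < Fintype.card (IrrCharacter R) := Fintype.card_pos_iff.mpr ⟨oneIrr R⟩
  omega

/-- The number of exceptional characters. -/
theorem card_range (hc : Core P n m M Δ ε c x)
    (hcomm : ∀ a b : (P : Subgroup G), a * b = b * a) :
    m * Nat.card (Set.range c) + 1 = Nat.card (P : Subgroup G) := by
  classical
  let _ : Fintype G := Fintype.ofFinite G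
  let _ : Fintype (P : Subgroup G) := Fintype.ofFinite _
  have hcard := card_NP hcomm
  have hrange : Set.range c = ((Finset.univ.image c : Finset (IrrCharacter G)) : Set _) := by
    ext χ
    simp
  have hYcard : Nat.card (Set.range c) = (Finset.univ.image c).card := by
    rw [Nat.card_coe_set_eq, hrange, Set.ncard_coe_finset]
  have hfiber : ∀ b ∈ Finset.univ.image c,
      (Finset.univ.filter (fun l : NP (P : Subgroup G) => c l = b)).card = m := by
    intro b hb
    obtain ⟨l0, -, rfl⟩ := Finset.mem_image.mp hb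
    have h := hc.fib l0 (fun _ => (1 : ℂ))
    rw [fs_cond, Finset.sum_boole, Finset.sum_const, Finset.card_range] at h
    simp only [nsmul_eq_mul, mul_one] at h
    exact_mod_cast h
  have htot : (Finset.univ : Finset (NP (P : Subgroup G))).card = ∑ b ∈ Finset.univ.image c,
      (Finset.univ.filter (fun l : NP (P : Subgroup G) => c l = b)).card := by
    apply Finset.card_eq_sum_card_fiberwise
    intro l _
    exact Finset.mem_coe.mpr (Finset.mem_image_of_mem c (Finset.mem_univ l))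
  rw [Finset.sum_congr rfl hfiber, Finset.sum_const, Finset.card_univ, smul_eq_mul] at htot
  rw [hYcard, ← hcard, htot]
  ring

section Zeta

theorem zeta_mem (c : NP (P : Subgroup G) → IrrCharacter G)
    {ψ : ↥(P : Subgroup G) →* ℂˣ} (hψ : ψ ≠ 1) : zeta P c ψ ∈ Set.range c := by
  rw [zeta_of_ne P c hψ]
  exact ⟨_, rfl⟩

theorem zeta_surj (c : NP (P : Subgroup G) → IrrCharacter G)
    (hcomm : ∀ a b : (P : Subgroup G), a * b = b * a) {η : IrrCharacter G}
    (hη : η ∈ Set.range c) : ∃ ψ : ↥(P : Subgroup G) →* ℂˣ, ψ ≠ 1 ∧ zeta P c ψ = η := by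
  obtain ⟨l, rfl⟩ := hη
  obtain ⟨ψ, hψ⟩ := exists_lin_of_one (irr_apply_one_of_comm hcomm l.1)
  have hψ1 : ψ ≠ 1 := by
    intro h
    apply l.2
    rw [hψ, h, lin_one]
  refine ⟨ψ, hψ1, ?_⟩
  rw [zeta_of_ne P c hψ1]
  congr 1
  exact Subtype.ext hψ.symm

variable {σ : G}

/-- The exceptional character is constant on the orbits of the normalizer. -/
theorem zeta_orbit (hd : AD p (P : Subgroup G) σ m)
    (hc : Core P ⟨σ, hd.norm⟩ m M Δ ε c x) {ψ ψ' : ↥(P : Subgroup G) →* ℂˣ} (hψ : ψ ≠ 1)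
    (h : ∃ n' : G, n' ∈ Subgroup.normalizer ((P : Subgroup G) : Set G) ∧
      ∀ w w' : ↥(P : Subgroup G), (w' : G) = n' * w * n'⁻¹ → ψ' w' = ψ w) :
    zeta P c ψ' = zeta P c ψ := by
  obtain ⟨n', hn', hn'ψ⟩ := h
  obtain ⟨k, hkm, hk⟩ := hd.conj_eq hn'
  set n : Subgroup.normalizer ((P : Subgroup G) : Set G) := ⟨σ, hd.norm⟩ with hn
  have hφ : ∀ w : (P : Subgroup G),
      ψ' ((P : Subgroup G).normalizerMonoidHom (n ^ k) w) = ψ w := by
    intro w
    apply hn'ψ
    rw [hk w w.2]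
    rfl
  have hψ'1 : ψ' ≠ 1 := by
    intro h1
    apply hψ
    ext w
    rw [← hφ w, h1]
    rfl
  rw [zeta_of_ne P c hψ, zeta_of_ne P c hψ'1]
  symm
  rw [hc.rel]
  refine ⟨k, hkm, ?_⟩
  apply Subtype.ext
  funext w
  show ((ψ w : ℂˣ) : ℂ) = ((ψ' ((P : Subgroup G).normalizerMonoidHom (n ^ k) w) : ℂˣ) : ℂ)
  rw [hφ w]

/-- The orbit sum of a linear character. -/
theorem orbit_sum (hd : AD p (P : Subgroup G) σ m) (hm : 0 < m)
    (hcomm : ∀ a b : (P : Subgroup G), a * b = b * a)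
    {ψ : ↥(P : Subgroup G) →* ℂˣ} (hψ : ψ ≠ 1) (y : (P : Subgroup G)) :
    ∑ᶠ ψ' ∈ {ψ' : ↥(P : Subgroup G) →* ℂˣ | ∃ n' : G,
        n' ∈ Subgroup.normalizer ((P : Subgroup G) : Set G) ∧
          ∀ w w' : ↥(P : Subgroup G), (w' : G) = n' * w * n'⁻¹ → ψ' w' = ψ w},
        ((ψ' y : ℂˣ) : ℂ) =
      ∑ k ∈ Finset.range m, (tw (P : Subgroup G)
        ((⟨σ, hd.norm⟩ : Subgroup.normalizer ((P : Subgroup G) : Set G)) ^ k) (lin ψ)).1 y := by
  classical
  let _ : Fintype G := Fintype.ofFinite G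
  let _ : Fintype (P : Subgroup G) := Fintype.ofFinite _
  set n : Subgroup.normalizer ((P : Subgroup G) : Set G) := ⟨σ, hd.norm⟩ with hn
  have hφcoe : ∀ (k : ℕ) (w : (P : Subgroup G)),
      (((P : Subgroup G).normalizerMonoidHom (n ^ k) w : (P : Subgroup G)) : G) =
        σ ^ k * w * (σ ^ k)⁻¹ := fun k w => rfl
  have hne1 : ∀ w : (P : Subgroup G), w ≠ 1 → (w : G) ≠ 1 := fun w hw h => hw (Subtype.ext h)
  have hfree : ∀ k : ℕ, 0 < k → k < m → ∀ w : (P : Subgroup G), w ≠ 1 →
      (P : Subgroup G).normalizerMonoidHom (n ^ k) w ≠ w := by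
    intro k hk0 hkm w hw h
    have := congrArg Subtype.val h
    rw [hφcoe] at this
    exact hd.free k hk0 hkm w w.2 (hne1 w hw) this
  have hpow : ∀ w : (P : Subgroup G), (P : Subgroup G).normalizerMonoidHom (n ^ m) w = w := by
    intro w
    apply Subtype.ext
    rw [hφcoe]
    exact hd.pow w w.2
  -- the orbit
  let e : ℕ → (↥(P : Subgroup G) →* ℂˣ) := fun k =>
    ψ.comp ((P : Subgroup G).normalizerMonoidHom (n ^ k) : ↥(P : Subgroup G) ≃* _).toMonoidHom
  have he : ∀ k w, e k w = ψ ((P : Subgroup G).normalizerMonoidHom (n ^ k) w) := fun k w => rfl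
  have hlin : ∀ k, lin (e k) = tw (P : Subgroup G) (n ^ k) (lin ψ) := by
    intro k
    apply Subtype.ext
    funext w
    rfl
  have hinj : ∀ j ∈ Finset.range m, ∀ k ∈ Finset.range m, e j = e k → j = k := by
    intro j hj k hk hjk
    apply tw_inj (P : Subgroup G) hcomm n m hfree (lin ψ) (lin_ne_one _ hψ) j k
      (Finset.mem_range.mp hj) (Finset.mem_range.mp hk)
    rw [← hlin, ← hlin, hjk]
  have hset : {ψ' : ↥(P : Subgroup G) →* ℂˣ | ∃ n' : G,
        n' ∈ Subgroup.normalizer ((P : Subgroup G) : Set G) ∧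
          ∀ w w' : ↥(P : Subgroup G), (w' : G) = n' * w * n'⁻¹ → ψ' w' = ψ w} =
      (((Finset.range m).image e : Finset _) : Set (↥(P : Subgroup G) →* ℂˣ)) := by
    ext ψ'
    simp only [Set.mem_ofPred_eq, Finset.coe_image, Finset.coe_range, Set.mem_image, Set.mem_Iio]
    constructor
    · rintro ⟨n', hn', hn'ψ⟩
      obtain ⟨k, hkm, hk⟩ := hd.conj_eq hn'
      have hφ : ∀ w : (P : Subgroup G),
          ψ' ((P : Subgroup G).normalizerMonoidHom (n ^ k) w) = ψ w := by
        intro w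
        apply hn'ψ
        rw [hk w w.2]
        rfl
      by_cases hk0 : k = 0
      · refine ⟨0, hm, ?_⟩
        ext w
        rw [he, ph_zero, ← hφ w, hk0, ph_zero]
      · refine ⟨m - k, by omega, ?_⟩
        ext w
        rw [he, ← hφ, ← ph_add, show k + (m - k) = m by omega, hpow]
    · rintro ⟨j, hjm, rfl⟩
      refine ⟨σ ^ (m - j), hd.pow_mem _, ?_⟩
      intro w w' hww'
      have hw' : w' = (P : Subgroup G).normalizerMonoidHom (n ^ (m - j)) w :=
        Subtype.ext (by rw [hφcoe]; exact hww')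
      rw [he, hw', ← ph_add, show j + (m - j) = m by omega, hpow]
  rw [hset, finsum_mem_coe_finset, Finset.sum_image hinj]
  refine Finset.sum_congr rfl fun k _ => ?_
  rfl

/-- The values of the exceptional characters. -/
theorem zeta_val (hd : AD p (P : Subgroup G) σ m) (hm : 0 < m)
    (hc : Core P ⟨σ, hd.norm⟩ m M Δ ε c x)
    (hcomm : ∀ a b : (P : Subgroup G), a * b = b * a)
    {ψ : ↥(P : Subgroup G) →* ℂˣ} (hψ : ψ ≠ 1) (z : G) (y : ↥(P : Subgroup G))
    (hzy : IsPPart p z (y : G)) (hy1 : (y : G) ≠ 1) :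
    (zeta P c ψ : G → ℂ) z = (x : ℂ) + (ε : ℂ) *
      ∑ᶠ ψ' ∈ {ψ' : ↥(P : Subgroup G) →* ℂˣ | ∃ n' : G,
        n' ∈ Subgroup.normalizer ((P : Subgroup G) : Set G) ∧
          ∀ w w' : ↥(P : Subgroup G), (w' : G) = n' * w * n'⁻¹ → ψ' w' = ψ w},
        ((ψ' y : ℂˣ) : ℂ) := by
  rw [zeta_of_ne P c hψ, orbit_sum hd hm hcomm hψ y,
    hc.val _ (hc.mem _) z y hzy hy1, hc.dx, hc.fib _ (fun l' => l'.1.1 y)]

end Zeta

section Relations

/-- Splitting a sum over the principal block. -/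
theorem sum_block_split {β : Type*} [AddCommMonoid β] (hc : Core P n m M Δ ε c x)
    (f : IrrCharacter G → β) :
    ∑ᶠ χ ∈ principalBlock M G, f χ =
      ∑ᶠ χ ∈ XX P M c, f χ + ∑ᶠ χ ∈ Set.range c, f χ := by
  have hfin : Finite (IrrCharacter G) := by
    let _ : Fintype G := Fintype.ofFinite G
    exact charFacts.finite
  rw [block_eq hc]
  exact finsum_mem_union (disj P M c) (Set.toFinite _) (Set.toFinite _)

/-- A sum of a constant over the exceptional characters. -/
theorem sum_range_const {β : Type*} [AddCommMonoid β]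
    (c : NP (P : Subgroup G) → IrrCharacter G) (f : IrrCharacter G → β) (b : β)
    (hf : ∀ l, f (c l) = b) :
    ∑ᶠ χ ∈ Set.range c, f χ = Nat.card (Set.range c) • b := by
  classical
  let _ : Fintype G := Fintype.ofFinite G
  let _ : Fintype (P : Subgroup G) := Fintype.ofFinite _
  have hrange : Set.range c = ((Finset.univ.image c : Finset (IrrCharacter G)) : Set _) := by
    ext χ
    simp
  have hYcard : Nat.card (Set.range c) = (Finset.univ.image c).card := by
    rw [Nat.card_coe_set_eq, hrange, Set.ncard_coe_finset]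
  rw [hYcard, hrange, finsum_mem_coe_finset, ← Finset.sum_const]
  refine Finset.sum_congr rfl fun χ hχ => ?_
  obtain ⟨l, -, rfl⟩ := Finset.mem_image.mp hχ
  exact hf l

/-- The norm identity. -/
theorem norm_id (hc : Core P n m M Δ ε c x) (hm : 0 < m)
    (hcomm : ∀ a b : (P : Subgroup G), a * b = b * a) :
    (x - ε) ^ 2 + ((Nat.card (P : Subgroup G) - 1) / m - 1 : ℤ) * x ^ 2 +
      ∑ᶠ χ ∈ XX P M c, Δ χ ^ 2 = (m : ℤ) + 1 := by
  have h1 := hc.norm
  rw [sum_block_split hc, sum_range_const c (fun χ => Δ χ ^ 2) (x ^ 2)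
    (fun l => by rw [hc.dx])] at h1
  have hcard := card_range hc hcomm
  have hr : ((Nat.card (P : Subgroup G) : ℤ) - 1) / (m : ℤ) =
      (Nat.card (Set.range c) : ℤ) := by
    have : ((Nat.card (P : Subgroup G) : ℤ) - 1) = (m : ℤ) * (Nat.card (Set.range c) : ℤ) := by
      rw [← hcard]
      push_cast
      ring
    rw [this, Int.mul_ediv_cancel_left _ (by exact_mod_cast hm.ne')]
  rw [hr]
  have hεsq : ε * ε = 1 := by rcases hc.eps with h | h <;> rw [h] <;> norm_num
  rw [nsmul_eq_mul] at h1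
  linear_combination h1 + hεsq

/-- The exceptional characters agree at the `p`-regular elements. -/
theorem preg_eq (hc : Core P n m M Δ ε c x) {η η' : IrrCharacter G} (hη : η ∈ Set.range c)
    (hη' : η' ∈ Set.range c) (g : G) (hg : ¬ p ∣ orderOf g) :
    (η : G → ℂ) g = (η' : G → ℂ) g := by
  obtain ⟨l, rfl⟩ := hη
  obtain ⟨l', rfl⟩ := hη'
  rw [hc.preg l g hg, hc.preg l' g hg]

/-- The relation at the `p`-regular elements. -/
theorem preg_rel (hc : Core P n m M Δ ε c x) (hm : 0 < m)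
    (hcomm : ∀ a b : (P : Subgroup G), a * b = b * a) {η : IrrCharacter G}
    (hη : η ∈ Set.range c) (g : G) (hg : ¬ p ∣ orderOf g) :
    ((((Nat.card (P : Subgroup G) - 1) / m : ℕ) : ℂ) * x - ε) * (η : G → ℂ) g +
      ∑ᶠ χ ∈ XX P M c, (Δ χ : ℂ) * (χ : G → ℂ) g = 0 := by
  obtain ⟨l, rfl⟩ := hη
  have h1 := hc.preg l g hg
  rw [sum_block_split hc, sum_range_const c (fun χ => (Δ χ : ℂ) * (χ : G → ℂ) g)
    ((x : ℂ) * (c l : G → ℂ) g)
    (fun l' => by rw [hc.dx, preg_eq hc ⟨l', rfl⟩ ⟨l, rfl⟩ g hg])] at h1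
  have hcard := card_range hc hcomm
  have hr : (Nat.card (P : Subgroup G) - 1) / m = Nat.card (Set.range c) := by
    rw [← hcard, Nat.add_sub_cancel, Nat.mul_div_cancel_left _ hm]
  rw [hr]
  have hεsq : (ε : ℂ) * (ε : ℂ) = 1 := by
    rcases hc.eps with h | h <;> rw [h] <;> norm_num
  rw [nsmul_eq_mul] at h1
  linear_combination (-(ε : ℂ)) * h1 - ((Nat.card (Set.range c) : ℂ) * x * (c l : G → ℂ) g +
    ∑ᶠ χ ∈ XX P M c, (Δ χ : ℂ) * (χ : G → ℂ) g) * hεsq

/-- The number of non-exceptional characters is at most `m`. -/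
theorem card_X_le (hc : Core P n m M Δ ε c x) (hm : 0 < m)
    (hcomm : ∀ a b : (P : Subgroup G), a * b = b * a)
    (hbig : m + 1 < Nat.card (P : Subgroup G)) : Nat.card (XX P M c) ≤ m := by
  classical
  let _ : Fintype G := Fintype.ofFinite G
  have hid := norm_id hc hm hcomm
  have hcard := card_range hc hcomm
  have hr : ((Nat.card (P : Subgroup G) : ℤ) - 1) / (m : ℤ) =
      (Nat.card (Set.range c) : ℤ) := by
    have : ((Nat.card (P : Subgroup G) : ℤ) - 1) = (m : ℤ) * (Nat.card (Set.range c) : ℤ) := by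
      rw [← hcard]
      push_cast
      ring
    rw [this, Int.mul_ediv_cancel_left _ (by exact_mod_cast hm.ne')]
  rw [hr] at hid
  have hr2 : 2 ≤ Nat.card (Set.range c) := by
    by_contra hlt
    have h1 : Nat.card (Set.range c) ≤ 1 := by omega
    have h2 : m * Nat.card (Set.range c) ≤ m * 1 := Nat.mul_le_mul_left m h1
    omega
  -- the sum over `X` dominates the cardinality
  have hX : XX P M c = ((Finset.univ.filter (· ∈ XX P M c) : Finset (IrrCharacter G)) :
      Set _) := by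
    ext χ
    simp
  have hXcard : Nat.card (XX P M c) = (Finset.univ.filter (· ∈ XX P M c)).card := by
    rw [Nat.card_coe_set_eq]
    conv_lhs => rw [hX]
    rw [Set.ncard_coe_finset]
  have hsum : ((Finset.univ.filter (· ∈ XX P M c)).card : ℤ) ≤ ∑ᶠ χ ∈ XX P M c, Δ χ ^ 2 := by
    rw [fs_mem, Finset.card_eq_sum_ones]
    push_cast
    apply Finset.sum_le_sum
    intro χ hχ
    have hχX : χ ∈ XX P M c := (Finset.mem_filter.mp hχ).2
    have h0 := (val_X hc hχX).1
    have : 0 < Δ χ ^ 2 := by positivity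
    omega
  have hge : 1 ≤ (x - ε) ^ 2 + ((Nat.card (Set.range c) : ℤ) - 1) * x ^ 2 := by
    by_cases hxe : x = ε
    · have hεsq : ε * ε = 1 := by rcases hc.eps with h | h <;> rw [h] <;> norm_num
      rw [hxe, sub_self]
      have : ((Nat.card (Set.range c) : ℤ) - 1) * ε ^ 2 = (Nat.card (Set.range c) : ℤ) - 1 := by
        rw [pow_two, hεsq, mul_one]
      rw [this]
      have : (2 : ℤ) ≤ (Nat.card (Set.range c) : ℤ) := by exact_mod_cast hr2
      omega
    · have h1 : 0 < (x - ε) ^ 2 := by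
        have : x - ε ≠ 0 := sub_ne_zero.mpr hxe
        positivity
      have h2 : 0 ≤ ((Nat.card (Set.range c) : ℤ) - 1) * x ^ 2 := by
        apply mul_nonneg
        · have : (2 : ℤ) ≤ (Nat.card (Set.range c) : ℤ) := by exact_mod_cast hr2
          omega
        · positivity
      omega
  rw [hXcard]
  have : ((Finset.univ.filter (· ∈ XX P M c)).card : ℤ) ≤ (m : ℤ) := by linarith
  exact_mod_cast this

end Relations

end Cfsg.Agent.Lib.Helper17_AbSylowPack
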