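import Mathlib
import Cfsg.Agent.Lib.Helper17_AbSylowPack

/-!
# Normalizing the decomposition data when there are two exceptional characters (helper17)

If there are exactly two exceptional characters and their constant part is `ε`, then exchanging
the two exceptional characters gives decomposition data with constant part `0` and sign `-ε`.
-/

set_option autoImplicit false
set_option linter.unusedSectionVars false

namespace Cfsg.Agent.Lib.Helper17_AbSylowSwap

open Cfsg Cfsg.Agent.Lib.Helper78_LocalRing Cfsg.Agent.Lib.Helper78_CharFacts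
  Cfsg.Agent.Lib.Helper16_Char Cfsg.Agent.Lib.Helper17_TIPrime
  Cfsg.Agent.Lib.Helper80_CharBasic
  Cfsg.Agent.Lib.Helper75_CharArith Cfsg.Agent.Lib.Helper3_CharOrtho
  Cfsg.Agent.Lib.Helper3_CharComplete Cfsg.Agent.Lib.Helper3_CharBridge
  Cfsg.Agent.Lib.Helper17_HomoChar Cfsg.Agent.Lib.Helper17_AbSylowCoh
  Cfsg.Agent.Lib.Helper17_AbSylowChar Cfsg.Agent.Lib.Helper17_AbSylowGroup
  Cfsg.Agent.Lib.Helper17_AbSylowBlock Cfsg.Agent.Lib.Helper17_AbSylowMain
  Cfsg.Agent.Lib.Helper17_AbSylowPack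

open scoped ComplexConjugate

variable {G : Type*} [Group G] [Finite G] {p : ℕ} [Fact p.Prime]
  {P : Sylow p G} {n : Subgroup.normalizer ((P : Subgroup G) : Set G)} {m : ℕ}
  {M : Ideal AlgInt} {Δ : IrrCharacter G → ℤ} {ε : ℤ}
  {c : NP (P : Subgroup G) → IrrCharacter G}

/-- The sum of the non-principal characters of a commutative group at a non-identity element. -/
theorem sum_NP {R : Subgroup G} [Fintype R] [Fintype (NP R)]
    (hcomm : ∀ a b : R, a * b = b * a) (y : R) (hy : y ≠ 1) :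
    ∑ l : NP R, l.1.1 y = -1 := by
  classical
  have h3 := sum_L' (fun lam : IrrCharacter R => (lam : R → ℂ) y)
  rw [sum_irr_apply hcomm y hy] at h3
  have h4 : (oneIrr R : R → ℂ) y = 1 := rfl
  rw [h4] at h3
  rw [show (-1 : ℂ) = 0 - 1 by ring, ← h3]
  refine Finset.sum_congr ?_ fun l _ => rfl
  ext l
  simp

/-- **Exchange of the two exceptional characters.** -/
theorem swap_core (hc : Core P n m M Δ ε c ε) (hm : 0 < m)
    (hcomm : ∀ a b : (P : Subgroup G), a * b = b * a)
    (hr : Nat.card (Set.range c) = 2) :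
    ∃ (Δ' : IrrCharacter G → ℤ) (c' : NP (P : Subgroup G) → IrrCharacter G),
      Core P n m M Δ' (-ε) c' 0 := by
  classical
  let _ : Fintype G := Fintype.ofFinite G
  let _ : Fintype (P : Subgroup G) := Fintype.ofFinite _
  have hεsq : ε * ε = 1 := by rcases hc.eps with h | h <;> rw [h] <;> norm_num
  have hεsqC : (ε : ℂ) * (ε : ℂ) = 1 := by exact_mod_cast hεsq
  rw [Nat.card_coe_set_eq, Set.ncard_eq_two] at hr
  obtain ⟨y₁, y₂, hne, hrange⟩ := hr
  have hy₁ : y₁ ∈ Set.range c := by rw [hrange]; simp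
  have hy₂ : y₂ ∈ Set.range c := by rw [hrange]; simp
  obtain ⟨l₁, hl₁⟩ := hy₁
  obtain ⟨l₂, hl₂⟩ := hy₂
  have hcl : ∀ l, c l = y₁ ∨ c l = y₂ := by
    intro l
    have : c l ∈ Set.range c := ⟨l, rfl⟩
    rw [hrange] at this
    simpa using this
  let c' : NP (P : Subgroup G) → IrrCharacter G := fun l => if c l = y₁ then y₂ else y₁
  let Δ' : IrrCharacter G → ℤ := fun χ => if χ = y₁ ∨ χ = y₂ then 0 else Δ χ
  have hc'1 : ∀ l, c' l = y₁ ↔ c l = y₂ := by
    intro l
    show (if c l = y₁ then y₂ else y₁) = y₁ ↔ _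
    rcases hcl l with h | h
    · rw [if_pos h, h]
      exact ⟨fun h' => absurd h'.symm hne, fun h' => absurd h' hne⟩
    · rw [if_neg (by rw [h]; exact Ne.symm hne)]
      exact ⟨fun _ => h, fun _ => rfl⟩
  have hc'2 : ∀ l, c' l = y₂ ↔ c l = y₁ := by
    intro l
    show (if c l = y₁ then y₂ else y₁) = y₂ ↔ _
    rcases hcl l with h | h
    · rw [if_pos h]
      exact ⟨fun _ => h, fun _ => rfl⟩
    · rw [if_neg (by rw [h]; exact Ne.symm hne), h]
      exact ⟨fun h' => absurd h' hne, fun h' => absurd h'.symm hne⟩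
  have hc'l : ∀ l, c' l = y₁ ∨ c' l = y₂ := by
    intro l
    rcases hcl l with h | h
    · right; exact (hc'2 l).mpr h
    · left; exact (hc'1 l).mpr h
  have hc'eq : ∀ l l', c' l = c' l' ↔ c l = c l' := by
    intro l l'
    rcases hcl l' with h | h
    · rw [(hc'2 l').mpr h, h, hc'2]
    · rw [(hc'1 l').mpr h, h, hc'1]
  have hΔ'out : ∀ χ, χ ≠ y₁ → χ ≠ y₂ → Δ' χ = Δ χ := by
    intro χ h1 h2
    show (if χ = y₁ ∨ χ = y₂ then 0 else Δ χ) = Δ χ
    rw [if_neg (by rintro (h | h); exact h1 h; exact h2 h)]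
  have hΔ'in : ∀ χ, (χ = y₁ ∨ χ = y₂) → Δ' χ = 0 := by
    intro χ h
    show (if χ = y₁ ∨ χ = y₂ then 0 else Δ χ) = 0
    rw [if_pos h]
  have hXne : ∀ χ ∈ XX P M c, χ ≠ y₁ ∧ χ ≠ y₂ := by
    intro χ hχ
    exact ⟨fun h => hχ.2 l₁ (hl₁.trans h.symm), fun h => hχ.2 l₂ (hl₂.trans h.symm)⟩
  have hcard := card_range hc hcomm
  have hrcard : Nat.card (Set.range c) = 2 := by
    rw [Nat.card_coe_set_eq, Set.ncard_eq_two]
    exact ⟨y₁, y₂, hne, hrange⟩
  refine ⟨Δ', c', ⟨?_, ?_, ?_, ?_, ?_, ?_, ?_, ?_, ?_, ?_, ?_⟩⟩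
  · -- eps
    rcases hc.eps with h | h
    · right; rw [h]
    · left; rw [h]; norm_num
  · -- one
    rw [hΔ'out _ (fun h => hc.ne_one l₁ (hl₁.trans h.symm))
      (fun h => hc.ne_one l₂ (hl₂.trans h.symm))]
    exact hc.one
  · -- mem
    intro l
    rcases hc'l l with h | h
    · rw [h, ← hl₁]; exact hc.mem l₁
    · rw [h, ← hl₂]; exact hc.mem l₂
  · -- ne_one
    intro l
    rcases hc'l l with h | h
    · rw [h, ← hl₁]; exact hc.ne_one l₁
    · rw [h, ← hl₂]; exact hc.ne_one l₂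
  · -- dx
    intro l
    exact hΔ'in _ (hc'l l)
  · -- norm
    rw [sum_block_split hc, sum_range_const c (fun χ => Δ' χ ^ 2) 0
      (fun l => by rw [hΔ'in _ (hcl l)]; norm_num), smul_zero, add_zero]
    have h1 : ∑ᶠ χ ∈ XX P M c, Δ' χ ^ 2 = ∑ᶠ χ ∈ XX P M c, Δ χ ^ 2 := by
      apply finsum_mem_congr rfl
      intro χ hχ
      rw [hΔ'out χ (hXne χ hχ).1 (hXne χ hχ).2]
    rw [h1]
    have hid := norm_id hc hm hcomm
    have hr2 : ((Nat.card (P : Subgroup G) : ℤ) - 1) / (m : ℤ) = 2 := by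
      have : ((Nat.card (P : Subgroup G) : ℤ) - 1) = (m : ℤ) * 2 := by
        rw [← hcard, hrcard]
        push_cast
        ring
      rw [this, Int.mul_ediv_cancel_left _ (by exact_mod_cast hm.ne')]
    rw [hr2] at hid
    linear_combination hid - hεsq
  · -- rel
    intro l l'
    rw [hc'eq, hc.rel]
  · -- val
    intro χ hχ z y hzy hy1
    have hy1' : y ≠ 1 := fun h => hy1 (by rw [h]; rfl)
    have hold := hc.val χ hχ z y hzy hy1
    have hS : ∑ᶠ (l : NP (P : Subgroup G)) (_ : c l = y₁), l.1.1 y +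
        ∑ᶠ (l : NP (P : Subgroup G)) (_ : c l = y₂), l.1.1 y = -1 := by
      rw [fs_cond, fs_cond, ← Finset.sum_add_distrib, ← sum_NP hcomm y hy1']
      refine Finset.sum_congr rfl fun l _ => ?_
      rcases hcl l with h | h
      · rw [if_pos h, if_neg (by rw [h]; exact hne), add_zero]
      · rw [if_neg (by rw [h]; exact Ne.symm hne), if_pos h, zero_add]
    by_cases h1 : χ = y₁
    · rw [hΔ'in χ (Or.inl h1)]
      have e1 : ∑ᶠ (l : NP (P : Subgroup G)) (_ : c' l = χ), l.1.1 y =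
          ∑ᶠ (l : NP (P : Subgroup G)) (_ : c l = y₂), l.1.1 y := by
        apply finsum_congr
        intro l
        rw [h1]
        exact finsum_congr_Prop (propext (hc'1 l)) (fun _ => rfl)
      rw [e1, hold, h1, ← hl₁, hc.dx, hl₁]
      push_cast
      linear_combination (ε : ℂ) * hS
    · by_cases h2 : χ = y₂
      · rw [hΔ'in χ (Or.inr h2)]
        have e1 : ∑ᶠ (l : NP (P : Subgroup G)) (_ : c' l = χ), l.1.1 y =
            ∑ᶠ (l : NP (P : Subgroup G)) (_ : c l = y₁), l.1.1 y := by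
          apply finsum_congr
          intro l
          rw [h2]
          exact finsum_congr_Prop (propext (hc'2 l)) (fun _ => rfl)
        rw [e1, hold, h2, ← hl₂, hc.dx, hl₂]
        push_cast
        linear_combination (ε : ℂ) * hS
      · rw [hΔ'out χ h1 h2, hold]
        have e1 : ∑ᶠ (l : NP (P : Subgroup G)) (_ : c' l = χ), l.1.1 y = 0 := by
          show ∑ᶠ l ∈ {l : NP (P : Subgroup G) | c' l = χ}, l.1.1 y = 0
          apply finsum_mem_of_eqOn_zero
          intro l hl
          exfalso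
          rcases hc'l l with h | h
          · exact h1 (hl.symm.trans h)
          · exact h2 (hl.symm.trans h)
        have e2 : ∑ᶠ (l : NP (P : Subgroup G)) (_ : c l = χ), l.1.1 y = 0 := by
          show ∑ᶠ l ∈ {l : NP (P : Subgroup G) | c l = χ}, l.1.1 y = 0
          apply finsum_mem_of_eqOn_zero
          intro l hl
          exfalso
          rcases hcl l with h | h
          · exact h1 (hl.symm.trans h)
          · exact h2 (hl.symm.trans h)
        rw [e1, e2]
        ring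
  · -- fib
    intro l f
    rw [← hc.fib l f]
    apply finsum_congr
    intro l'
    exact finsum_congr_Prop (propext (hc'eq l' l)) (fun _ => rfl)
  · -- ne_zero
    intro χ hχ hne'
    have h1 : χ ≠ y₁ := fun h => hne' l₂ (((hc'1 l₂).mpr hl₂).trans h.symm)
    have h2 : χ ≠ y₂ := fun h => hne' l₁ (((hc'2 l₁).mpr hl₁).trans h.symm)
    rw [hΔ'out χ h1 h2]
    apply hc.ne_zero χ hχ
    intro l hl
    rcases hcl l with h | h
    · exact h1 (hl.symm.trans h)
    · exact h2 (hl.symm.trans h)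
  · -- preg
    intro l g hg
    have hmem : c' l ∈ Set.range c := by
      rcases hc'l l with h | h
      · rw [h]; exact ⟨l₁, hl₁⟩
      · rw [h]; exact ⟨l₂, hl₂⟩
    have hrel := preg_rel hc hm hcomm hmem g hg
    have hr2 : (Nat.card (P : Subgroup G) - 1) / m = 2 := by
      rw [← hcard, hrcard, Nat.add_sub_cancel, Nat.mul_div_cancel_left _ hm]
    rw [hr2] at hrel
    rw [sum_block_split hc, sum_range_const c (fun χ => (Δ' χ : ℂ) * (χ : G → ℂ) g) 0
      (fun l => by rw [hΔ'in _ (hcl l)]; simp), smul_zero, add_zero]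
    have h1 : ∑ᶠ χ ∈ XX P M c, (Δ' χ : ℂ) * (χ : G → ℂ) g =
        ∑ᶠ χ ∈ XX P M c, (Δ χ : ℂ) * (χ : G → ℂ) g := by
      apply finsum_mem_congr rfl
      intro χ hχ
      rw [hΔ'out χ (hXne χ hχ).1 (hXne χ hχ).2]
    rw [h1]
    push_cast at hrel ⊢
    linear_combination (ε : ℂ) * hrel - ((c' l : G → ℂ) g) * hεsqC

end Cfsg.Agent.Lib.Helper17_AbSylowSwap
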