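import Mathlib
import Cfsg.Agent.Lib.Helper17_AbSylowSwap

/-!
# Inertial index three: normalized decomposition data (helper17)

For `m = 3` the constant part of the exceptional characters can be taken to be `0`, and there are
exactly three non-exceptional characters, with constant parts `±1`.
-/

set_option autoImplicit false
set_option linter.unusedSectionVars false

namespace Cfsg.Agent.Lib.Helper17_AbSylowThree

open Cfsg Cfsg.Agent.Lib.Helper78_LocalRing Cfsg.Agent.Lib.Helper78_CharFacts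
  Cfsg.Agent.Lib.Helper16_Char Cfsg.Agent.Lib.Helper17_TIPrime
  Cfsg.Agent.Lib.Helper80_CharBasic
  Cfsg.Agent.Lib.Helper75_CharArith Cfsg.Agent.Lib.Helper3_CharOrtho
  Cfsg.Agent.Lib.Helper3_CharComplete Cfsg.Agent.Lib.Helper3_CharBridge
  Cfsg.Agent.Lib.Helper17_HomoChar Cfsg.Agent.Lib.Helper17_AbSylowCoh
  Cfsg.Agent.Lib.Helper17_AbSylowChar Cfsg.Agent.Lib.Helper17_AbSylowGroup
  Cfsg.Agent.Lib.Helper17_AbSylowBlock Cfsg.Agent.Lib.Helper17_AbSylowMain
  Cfsg.Agent.Lib.Helper17_AbSylowPack Cfsg.Agent.Lib.Helper17_AbSylowSwap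

open scoped ComplexConjugate

variable {G : Type*} [Group G] [Finite G] {p : ℕ} [Fact p.Prime]
  {P : Sylow p G} {n : Subgroup.normalizer ((P : Subgroup G) : Set G)} {m : ℕ}
  {M : Ideal AlgInt} {Δ : IrrCharacter G → ℤ} {ε : ℤ}
  {c : NP (P : Subgroup G) → IrrCharacter G} {x : ℤ}

/-- The set of non-exceptional characters as a finset. -/
theorem XX_eq_coe [Fintype (IrrCharacter G)] [DecidablePred (· ∈ XX P M c)] :
    XX P M c = ((Finset.univ.filter (· ∈ XX P M c) : Finset (IrrCharacter G)) : Set _) := by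
  ext χ
  simp

/-- Lower bound for the sum of squares over the non-exceptional characters. -/
theorem sum_sq_ge (hc : Core P n m M Δ ε c x) (S : Finset (IrrCharacter G))
    (hS : ∀ χ ∈ S, χ ∈ XX P M c) : (S.card : ℤ) ≤ ∑ᶠ χ ∈ XX P M c, Δ χ ^ 2 := by
  classical
  let _ : Fintype G := Fintype.ofFinite G
  rw [fs_mem]
  have hsub : S ⊆ Finset.univ.filter (· ∈ XX P M c) := by
    intro χ hχ
    rw [Finset.mem_filter]
    exact ⟨Finset.mem_univ _, hS χ hχ⟩
  calc (S.card : ℤ) = ∑ χ ∈ S, (1 : ℤ) := by simp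
    _ ≤ ∑ χ ∈ S, Δ χ ^ 2 := by
        apply Finset.sum_le_sum
        intro χ hχ
        have h0 := (val_X hc (hS χ hχ)).1
        have : 0 < Δ χ ^ 2 := by positivity
        omega
    _ ≤ ∑ χ ∈ Finset.univ.filter (· ∈ XX P M c), Δ χ ^ 2 := by
        apply Finset.sum_le_sum_of_subset_of_nonneg hsub
        intro χ _ _
        positivity

/-- If the sum of squares is `1`, the principal character is the only non-exceptional one. -/
theorem XX_eq_singleton (hc : Core P n m M Δ ε c x) (hM : M.IsPrime)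
    (h1 : ∑ᶠ χ ∈ XX P M c, Δ χ ^ 2 = 1) : XX P M c = {oneIrr G} := by
  classical
  rw [Set.eq_singleton_iff_unique_mem]
  refine ⟨one_mem hc hM, ?_⟩
  intro χ hχ
  by_contra hne
  have := sum_sq_ge hc {oneIrr G, χ} (by
    intro ψ hψ
    rw [Finset.mem_insert, Finset.mem_singleton] at hψ
    rcases hψ with rfl | rfl
    · exact one_mem hc hM
    · exact hχ)
  rw [h1, Finset.card_pair (Ne.symm hne)] at this
  norm_num at this

/-- The three cases for `m = 3`. -/
theorem three_cases (hc : Core P n 3 M Δ ε c x) (hM : M.IsPrime)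
    (hcomm : ∀ a b : (P : Subgroup G), a * b = b * a)
    (hbig : 3 + 1 < Nat.card (P : Subgroup G)) :
    x = 0 ∨ (x = ε ∧ Nat.card (Set.range c) = 2) := by
  classical
  have hp : p.Prime := Fact.out
  have hid := norm_id hc (by norm_num) hcomm
  have hcard := card_range hc hcomm
  have hr : ((Nat.card (P : Subgroup G) : ℤ) - 1) / ((3 : ℕ) : ℤ) =
      (Nat.card (Set.range c) : ℤ) := by
    have : ((Nat.card (P : Subgroup G) : ℤ) - 1) =
        ((3 : ℕ) : ℤ) * (Nat.card (Set.range c) : ℤ) := by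
      rw [← hcard]
      push_cast
      ring
    rw [this, Int.mul_ediv_cancel_left _ (by norm_num)]
  rw [hr] at hid
  set r : ℕ := Nat.card (Set.range c) with hrdef
  have hr2 : 2 ≤ r := by omega
  have hr2' : (2 : ℤ) ≤ (r : ℤ) := by exact_mod_cast hr2
  have hSX1 : (1 : ℤ) ≤ ∑ᶠ χ ∈ XX P M c, Δ χ ^ 2 := by
    have := sum_sq_ge hc {oneIrr G} (by
      intro ψ hψ
      rw [Finset.mem_singleton] at hψ
      rw [hψ]
      exact one_mem hc hM)
    simpa using this
  set SX : ℤ := ∑ᶠ χ ∈ XX P M c, Δ χ ^ 2 with hSX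
  by_cases hx0 : x = 0
  · left; exact hx0
  right
  have hxsq : 1 ≤ x ^ 2 := by
    have : 0 < x ^ 2 := by positivity
    omega
  push_cast at hid
  -- bound
  have hbound : (x - ε) ^ 2 + ((r : ℤ) - 1) * x ^ 2 ≤ 3 := by linarith
  have hxε : x = ε := by
    have h1 : (x - ε) ^ 2 + x ^ 2 ≤ 3 := by nlinarith
    rcases hc.eps with h | h
    · rw [h] at h1 ⊢
      have : x ≤ 2 := by nlinarith
      have : 0 ≤ x := by nlinarith
      interval_cases x <;> simp_all
    · rw [h] at h1 ⊢
      have : -2 ≤ x := by nlinarith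
      have : x ≤ 0 := by nlinarith
      interval_cases x <;> simp_all
  refine ⟨hxε, ?_⟩
  have hεsq : ε ^ 2 = 1 := by rcases hc.eps with h | h <;> rw [h] <;> norm_num
  rw [hxε, sub_self, hεsq] at hid
  have hr4 : r ≤ 4 := by
    have : (r : ℤ) ≤ 4 := by linarith
    exact_mod_cast this
  have hrcases : r = 2 ∨ r = 3 ∨ r = 4 := by omega
  rcases hrcases with h2 | h3 | h4
  · exact h2
  · -- `|P| = 10` is not a prime power
    exfalso
    have h10 : Nat.card (P : Subgroup G) = 10 := by rw [← hcard, h3]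
    have hpow := P.card_eq_multiplicity
    rw [h10] at hpow
    set k := (Nat.card G).factorization p with hk
    have hk0 : k ≠ 0 := by
      intro h
      rw [h, pow_zero] at hpow
      norm_num at hpow
    have hdvd : p ∣ 10 := by
      rw [hpow]
      exact dvd_pow_self p hk0
    have hp2 := hp.two_le
    have hklt : k < 4 := by
      by_contra hge
      push Not at hge
      have : 2 ^ 4 ≤ p ^ k := by
        calc 2 ^ 4 ≤ 2 ^ k := Nat.pow_le_pow_right (by norm_num) hge
          _ ≤ p ^ k := Nat.pow_le_pow_left hp2 k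
      omega
    have hp25 : p = 2 ∨ p = 5 := by
      have h10' : (10 : ℕ) = 2 * 5 := by norm_num
      rw [h10'] at hdvd
      rcases (Nat.Prime.dvd_mul hp).mp hdvd with h | h
      · left; exact (Nat.prime_dvd_prime_iff_eq hp Nat.prime_two).mp h
      · right; exact (Nat.prime_dvd_prime_iff_eq hp (by norm_num)).mp h
    obtain ⟨q, hq⟩ : ∃ q : ℕ, q = p := ⟨p, rfl⟩
    rw [← hq] at hpow hp25
    rcases hp25 with h | h <;> rw [h] at hpow <;> interval_cases k <;> omega
  · -- `|P| = 13`: degree contradiction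
    exfalso
    have hSX1' : SX = 1 := by
      rw [h4] at hid
      push_cast at hid
      linarith
    have hXX := XX_eq_singleton hc hM hSX1'
    obtain ⟨l⟩ : Nonempty (NP (P : Subgroup G)) := by
      by_contra hemp
      rw [not_nonempty_iff] at hemp
      have : Set.range c = ∅ := Set.range_eq_empty c
      rw [hrdef, this] at h4
      simp at h4
    have hrel := preg_rel hc (by norm_num) hcomm ⟨l, rfl⟩ 1 (by
      rw [orderOf_one]; exact Cfsg.Agent.Lib.Helper17_AbSylowBlock.not_dvd_one)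
    have hr4' : (Nat.card (P : Subgroup G) - 1) / 3 = 4 := by
      rw [← hcard, h4]
    rw [hr4', hXX, finsum_mem_singleton, hc.one, hxε,
      Cfsg.Agent.Lib.Helper77_BlockBasics.apply_one_eq_charDegree,
      Cfsg.Agent.Lib.Helper77_BlockBasics.apply_one_eq_charDegree] at hrel
    have hone : charDegree ((oneIrr G : IrrCharacter G) : G → ℂ) = 1 := by
      have h1 := Cfsg.Agent.Lib.Helper77_BlockBasics.apply_one_eq_charDegree (oneIrr G)
      have h2 : (oneIrr G : G → ℂ) 1 = 1 := rfl
      rw [h2] at h1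
      exact_mod_cast h1.symm
    rw [hone] at hrel
    have hZ : ((4 : ℤ) * ε - ε) * (charDegree (c l : G → ℂ) : ℤ) + 1 * 1 = 0 := by
      have : ((((4 : ℤ) * ε - ε) * (charDegree (c l : G → ℂ) : ℤ) + 1 * 1 : ℤ) : ℂ) = 0 := by
        push_cast
        push_cast at hrel
        linear_combination hrel
      exact_mod_cast this
    rcases hc.eps with h | h <;> rw [h] at hZ <;> omega

/-- **Normalized decomposition data for inertial index three.** -/
theorem core_three (P : Sylow p G) {σ : G} (hd : AD p (P : Subgroup G) σ 3)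
    {M : Ideal AlgInt} (hM : IsPModular p M) (hP1 : Nat.card (P : Subgroup G) ≠ 1)
    (hcomm : ∀ a b : (P : Subgroup G), a * b = b * a)
    (hbig : 3 + 1 < Nat.card (P : Subgroup G)) :
    ∃ (Δ : IrrCharacter G → ℤ) (ε : ℤ) (c : NP (P : Subgroup G) → IrrCharacter G),
      Core P ⟨σ, hd.norm⟩ 3 M Δ ε c 0 := by
  have hMp := isPrime_of_isPModular hM
  obtain ⟨Δ, ε, c, x, hc⟩ := core P hd hM hP1 (by norm_num) hbig
  rcases three_cases hc hMp hcomm hbig with h0 | ⟨hxε, hr⟩
  · rw [h0] at hc
    exact ⟨Δ, ε, c, hc⟩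
  · rw [hxε] at hc
    obtain ⟨Δ', c', hc'⟩ := swap_core hc (by norm_num) hcomm hr
    exact ⟨Δ', -ε, c', hc'⟩

end Cfsg.Agent.Lib.Helper17_AbSylowThree
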