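import Mathlib
import Cfsg.Prelude.Def_Blocks
import Cfsg.Agent.Lib.Helper17_AbSylowGroup
import Cfsg.Agent.Lib.Helper17_AbSylowBlock
import Cfsg.Agent.Lib.Helper67_Basic

/-!
# Products of two involutions for an abelian Sylow `2`-subgroup with inertial index three
(helper17)

Under `AD 2 P σ 3`: the three conjugates of an involution `t ∈ P` under `σ` multiply to `1`, and an
element of the `2`-section of `z ∈ P`, `z` outside the orbit of `t`, is not a product of two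
conjugates of `t`.
-/

set_option autoImplicit false
set_option linter.unusedSectionVars false

namespace Cfsg.Agent.Lib.Helper17_AbSylowTwoGroup

open Cfsg Cfsg.Agent.Lib.Helper17_AbSylowGroup Cfsg.Agent.Lib.Helper17_AbSylowBlock

variable {G : Type*} [Group G] [Finite G] (P : Sylow 2 G) {σ : G}

omit [Finite G] in
/-- The third conjugate of an involution is the product of the other two. -/
theorem orbit_prod (hd : AD 2 (P : Subgroup G) σ 3) {t : G} (ht : t ∈ (P : Subgroup G))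
    (ht2 : t ^ 2 = 1) :
    σ ^ 2 * t * (σ ^ 2)⁻¹ = t * (σ ^ 1 * t * (σ ^ 1)⁻¹) := by
  set t₁ := σ ^ 1 * t * (σ ^ 1)⁻¹ with ht₁
  set t₂ := σ ^ 2 * t * (σ ^ 2)⁻¹ with ht₂
  have hm1 : t₁ ∈ (P : Subgroup G) := hd.conj_mem 1 ht
  have hm2 : t₂ ∈ (P : Subgroup G) := hd.conj_mem 2 ht
  have h1sq : t₁ ^ 2 = 1 := by rw [ht₁, conj_pow, ht2]; group
  have hw : t * t₁ * t₂ ∈ (P : Subgroup G) :=
    (P : Subgroup G).mul_mem ((P : Subgroup G).mul_mem ht hm1) hm2
  have hfix : σ ^ 1 * (t * t₁ * t₂) * (σ ^ 1)⁻¹ = t * t₁ * t₂ := by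
    have e1 : σ ^ 1 * t₁ * (σ ^ 1)⁻¹ = t₂ := by
      rw [ht₁, ht₂, pow_one, pow_two]; group
    have e2 : σ ^ 1 * t₂ * (σ ^ 1)⁻¹ = t := by
      have := hd.pow t ht
      rw [ht₂]
      calc σ ^ 1 * (σ ^ 2 * t * (σ ^ 2)⁻¹) * (σ ^ 1)⁻¹ = σ ^ 3 * t * (σ ^ 3)⁻¹ := by
            rw [pow_one, pow_two, pow_succ, pow_two]; group
        _ = t := this
    calc σ ^ 1 * (t * t₁ * t₂) * (σ ^ 1)⁻¹
        = (σ ^ 1 * t * (σ ^ 1)⁻¹) * (σ ^ 1 * t₁ * (σ ^ 1)⁻¹) * (σ ^ 1 * t₂ * (σ ^ 1)⁻¹) := by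
          group
      _ = t₁ * t₂ * t := by rw [e1, e2]
      _ = t * (t₁ * t₂) := hd.comm _ ((P : Subgroup G).mul_mem hm1 hm2) _ ht
      _ = t * t₁ * t₂ := by group
  have hone : t * t₁ * t₂ = 1 := by
    by_contra hne
    exact hd.free 1 (by norm_num) (by norm_num) _ hw hne hfix
  have htinv : t⁻¹ = t := by rw [inv_eq_iff_mul_eq_one, ← pow_two, ht2]
  have h1inv : t₁⁻¹ = t₁ := by rw [inv_eq_iff_mul_eq_one, ← pow_two, h1sq]
  calc t₂ = (t * t₁)⁻¹ * (t * t₁ * t₂) := by group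
    _ = (t * t₁)⁻¹ := by rw [hone, mul_one]
    _ = t₁⁻¹ * t⁻¹ := mul_inv_rev t t₁
    _ = t₁ * t := by rw [htinv, h1inv]
    _ = t * t₁ := hd.comm _ hm1 _ ht

omit [Finite G] in
/-- The product of two members of the orbit of an involution is `1` or a member of the orbit. -/
theorem orbit_mul (hd : AD 2 (P : Subgroup G) σ 3) {t : G} (ht : t ∈ (P : Subgroup G))
    (ht2 : t ^ 2 = 1) (i j : ℕ) (hi : i < 3) (hj : j < 3) :
    (σ ^ i * t * (σ ^ i)⁻¹) * (σ ^ j * t * (σ ^ j)⁻¹) = 1 ∨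
      ∃ k : ℕ, k < 3 ∧ (σ ^ i * t * (σ ^ i)⁻¹) * (σ ^ j * t * (σ ^ j)⁻¹) =
        σ ^ k * t * (σ ^ k)⁻¹ := by
  have hp := orbit_prod P hd ht ht2
  set t₁ := σ ^ 1 * t * (σ ^ 1)⁻¹ with ht₁
  set t₂ := σ ^ 2 * t * (σ ^ 2)⁻¹ with ht₂
  have h0 : σ ^ 0 * t * (σ ^ 0)⁻¹ = t := by simp
  have hm1 : t₁ ∈ (P : Subgroup G) := hd.conj_mem 1 ht
  have h1sq : t₁ ^ 2 = 1 := by rw [ht₁, conj_pow, ht2]; group
  have htt : t * t = 1 := by rw [← pow_two, ht2]
  have h11 : t₁ * t₁ = 1 := by rw [← pow_two, h1sq]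
  have hc01 : t₁ * t = t * t₁ := hd.comm _ hm1 _ ht
  interval_cases i <;> interval_cases j
  · left; rw [h0]; exact htt
  · right; exact ⟨2, by norm_num, by rw [h0]; exact hp.symm⟩
  · right
    refine ⟨1, by norm_num, ?_⟩
    rw [h0]
    show t * t₂ = t₁
    rw [hp, ← mul_assoc, htt, one_mul]
  · right; exact ⟨2, by norm_num, by rw [h0]; show t₁ * t = t₂; rw [hp, hc01]⟩
  · left; exact h11
  · right
    refine ⟨0, by norm_num, ?_⟩
    rw [h0]
    show t₁ * t₂ = t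
    rw [hp, ← mul_assoc, hc01, mul_assoc, h11, mul_one]
  · right
    refine ⟨1, by norm_num, ?_⟩
    rw [h0]
    show t₂ * t = t₁
    rw [hp, mul_assoc, hc01, ← mul_assoc, htt, one_mul]
  · right
    refine ⟨0, by norm_num, ?_⟩
    rw [h0]
    show t₂ * t₁ = t
    rw [hp, mul_assoc, h11, mul_one]
  · left
    show t₂ * t₂ = 1
    rw [hp]
    calc t * t₁ * (t * t₁) = t * (t₁ * t) * t₁ := by group
      _ = t * (t * t₁) * t₁ := by rw [hc01]
      _ = (t * t) * (t₁ * t₁) := by group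
      _ = 1 := by rw [htt, h11, one_mul]

/-- No element with `2`-part `z ∈ P`, `z` outside the orbit of the involution `t ∈ P`, is a product
of two conjugates of `t`. -/
theorem no_pairs_two_aux (hd : AD 2 (P : Subgroup G) σ 3) {t z : G}
    (ht : t ∈ (P : Subgroup G)) (ht2 : t ^ 2 = 1) (ht1 : t ≠ 1)
    (hz : z ∈ (P : Subgroup G)) (hz1 : z ≠ 1)
    (hzt : ∀ k : ℕ, k < 3 → z ≠ σ ^ k * t * (σ ^ k)⁻¹)
    (u : G) (huz : IsPPart 2 u z) (x y : G) (hx : IsConj t x) (hy : IsConj t y) :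
    x * y ≠ u := by
  intro hxy
  have : Fact (Nat.Prime 2) := ⟨Nat.prime_two⟩
  obtain ⟨y', hzy, hcomm, -, hodd⟩ := huz
  set n := orderOf y' with hn
  have hnodd : Odd n := by
    rw [← Nat.not_even_iff_odd, even_iff_two_dvd]; exact hodd
  obtain ⟨a, ha⟩ := isConj_iff.mp hx
  obtain ⟨b, hb⟩ := isConj_iff.mp hy
  have hx2 : x ^ 2 = 1 := by rw [← ha, conj_pow, ht2]; group
  have hy2 : y ^ 2 = 1 := by rw [← hb, conj_pow, ht2]; group
  have hx1 : x ≠ 1 := by
    intro h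
    apply ht1
    have : t = a⁻¹ * (a * t * a⁻¹) * a := by group
    rw [this, ha, h]; group
  have hxinv : x⁻¹ = x := by rw [inv_eq_iff_mul_eq_one, ← pow_two, hx2]
  have hyinv : y⁻¹ = y := by rw [inv_eq_iff_mul_eq_one, ← pow_two, hy2]
  have hginv : x * u * x⁻¹ = u⁻¹ := by
    rw [← hxy, mul_inv_rev, hxinv, hyinv]
    have : x * (x * y) * x = (x * x) * y * x := by group
    rw [this, ← pow_two, hx2, one_mul]
  have hun : u ^ n = z ^ n := by
    rw [← hzy, hcomm.mul_pow, hn, pow_orderOf_eq_one, mul_one]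
  have hxzn : x * z ^ n * x⁻¹ = (z ^ n)⁻¹ := by
    rw [← hun, ← conj_pow, hginv, inv_pow]
  by_cases hz2 : z ^ 2 = 1
  · -- `z` is an involution
    have hzn : z ^ n = z := by
      obtain ⟨j, hj⟩ := hnodd
      rw [hj, pow_succ, pow_mul, hz2, one_pow, one_mul]
    have hzinv : z⁻¹ = z := by rw [inv_eq_iff_mul_eq_one, ← pow_two, hz2]
    rw [hzn, hzinv] at hxzn
    rw [hzn] at hun
    have hxC : x ∈ Subgroup.centralizer ({z} : Set G) := by
      rw [Subgroup.mem_centralizer_singleton_iff]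
      calc x * z = (x * z * x⁻¹) * x := by group
        _ = z * x := by rw [hxzn]
    have hPC : (P : Subgroup G) ≤ Subgroup.centralizer ({z} : Set G) := by
      intro q hq
      rw [Subgroup.mem_centralizer_singleton_iff]
      exact hd.comm q hq z hz
    set C := Subgroup.centralizer ({z} : Set G) with hC
    let Q : Sylow 2 C := P.subtype hPC
    have hQcoe : (Q : Subgroup C) = (P : Subgroup G).subgroupOf C := Sylow.coe_subtype P hPC
    set x'' : C := ⟨x, hxC⟩ with hx''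
    have hpg : IsPGroup 2 (Subgroup.zpowers x'') := by
      apply IsPGroup.of_card (n := 1)
      rw [Nat.card_zpowers, hx'', Subgroup.orderOf_mk, pow_one]
      exact orderOf_eq_prime hx2 hx1
    obtain ⟨e, he⟩ := Cfsg.Agent.Lib.Helper67_Basic.exists_conj_mem_sylow Q hpg
    have hwQ := he x'' (Subgroup.mem_zpowers x'')
    rw [hQcoe] at hwQ
    have hwP : (e : G) * x * (e : G)⁻¹ ∈ (P : Subgroup G) := Subgroup.mem_subgroupOf.mp hwQ
    set w := (e : G) * x * (e : G)⁻¹ with hw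
    have hez : (e : G) * z = z * (e : G) :=
      Subgroup.mem_centralizer_singleton_iff.mp e.2
    have hw2 : w * w = 1 := by
      rw [hw]
      calc (e : G) * x * (e : G)⁻¹ * ((e : G) * x * (e : G)⁻¹)
          = (e : G) * (x * x) * (e : G)⁻¹ := by group
        _ = 1 := by rw [← pow_two, hx2]; group
    have htw : IsConj t w := by
      rw [isConj_iff]
      refine ⟨(e : G) * a, ?_⟩
      rw [hw, ← ha]; group
    obtain ⟨j, hj3, hj⟩ := hd.fusion t ht w hwP htw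
    -- `x z` is conjugate to `y`
    have hux : ∀ i : ℕ, u ^ i * x = x * (u ^ i)⁻¹ := by
      intro i
      have h1 : x * u ^ i * x⁻¹ = (u ^ i)⁻¹ := by rw [← conj_pow, hginv, inv_pow]
      calc u ^ i * x = x * (x⁻¹ * u ^ i * x) := by group
        _ = x * (x * u ^ i * x⁻¹) := by rw [hxinv]
        _ = x * (u ^ i)⁻¹ := by rw [h1]
    have hxzy : IsConj (x * z) y := by
      obtain ⟨i, hi⟩ := hnodd
      rw [isConj_iff]
      refine ⟨u ^ i, ?_⟩
      have huz : u ^ i * z = z * u ^ i := by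
        rw [← hun, ← pow_add, ← pow_add, add_comm]
      have hUz' : (u ^ i)⁻¹ * z = z * (u ^ i)⁻¹ := by
        calc (u ^ i)⁻¹ * z = (u ^ i)⁻¹ * (z * u ^ i) * (u ^ i)⁻¹ := by group
          _ = (u ^ i)⁻¹ * (u ^ i * z) * (u ^ i)⁻¹ := by rw [huz]
          _ = z * (u ^ i)⁻¹ := by group
      have hpw : u ^ n * (u ^ i)⁻¹ * (u ^ i)⁻¹ = u := by
        rw [hi, pow_succ, two_mul, pow_add]
        group
      calc u ^ i * (x * z) * (u ^ i)⁻¹ = (u ^ i * x) * z * (u ^ i)⁻¹ := by group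
        _ = x * (u ^ i)⁻¹ * z * (u ^ i)⁻¹ := by rw [hux]
        _ = x * ((u ^ i)⁻¹ * z) * (u ^ i)⁻¹ := by group
        _ = x * (z * (u ^ i)⁻¹) * (u ^ i)⁻¹ := by rw [hUz']
        _ = x * (u ^ n * (u ^ i)⁻¹ * (u ^ i)⁻¹) := by rw [← hun]; group
        _ = x * u := by rw [hpw]
        _ = y := by rw [← hxy, ← mul_assoc, ← pow_two, hx2, one_mul]
    have hwz : w * z = (e : G) * (x * z) * (e : G)⁻¹ := by
      rw [hw]
      calc (e : G) * x * (e : G)⁻¹ * z = (e : G) * x * ((e : G)⁻¹ * z) := by group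
        _ = (e : G) * x * (z * (e : G)⁻¹) := by
            congr 1
            calc (e : G)⁻¹ * z = (e : G)⁻¹ * (z * (e : G)) * (e : G)⁻¹ := by group
              _ = (e : G)⁻¹ * ((e : G) * z) * (e : G)⁻¹ := by rw [hez]
              _ = z * (e : G)⁻¹ := by group
        _ = (e : G) * (x * z) * (e : G)⁻¹ := by group
    have hwzP : w * z ∈ (P : Subgroup G) := (P : Subgroup G).mul_mem hwP hz
    have htwz : IsConj t (w * z) := by
      have h1 : IsConj (x * z) (w * z) := by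
        rw [isConj_iff]
        exact ⟨(e : G), hwz.symm⟩
      exact hy.trans (hxzy.symm.trans h1)
    obtain ⟨i, hi3, hi⟩ := hd.fusion t ht (w * z) hwzP htwz
    have hzeq : z = (σ ^ j * t * (σ ^ j)⁻¹) * (σ ^ i * t * (σ ^ i)⁻¹) := by
      rw [← hj, ← hi, ← mul_assoc, hw2, one_mul]
    rcases orbit_mul P hd ht ht2 j i hj3 hi3 with h | ⟨k, hk3, hk⟩
    · exact hz1 (hzeq.trans h)
    · exact hzt k hk3 (hzeq.trans hk)
  · -- `z` is not an involution
    have hzn : z ^ n ∈ (P : Subgroup G) := (P : Subgroup G).pow_mem hz n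
    have hzn2 : (z ^ n) ^ 2 ≠ 1 := by
      intro h
      obtain ⟨k, hk⟩ := orderOf_eq_pow P hd hz
      have h1 : orderOf z ∣ n * 2 := by
        apply orderOf_dvd_of_pow_eq_one
        rw [pow_mul]; exact h
      have hcop : Nat.Coprime (orderOf z) n := by
        rw [hk]
        apply Nat.Coprime.pow_left
        exact Nat.coprime_two_left.mpr hnodd
      have h2 : orderOf z ∣ 2 := hcop.dvd_of_dvd_mul_left h1
      exact hz2 (orderOf_dvd_iff_pow_eq_one.mp h2)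
    apply hd.not_isConj_inv (by decide) hzn hzn2
    rw [isConj_iff]
    exact ⟨x, hxzn⟩

/-- General form: the `2`-part is conjugate to `z`. -/
theorem no_pairs_two (hd : AD 2 (P : Subgroup G) σ 3) {t z : G}
    (ht : t ∈ (P : Subgroup G)) (ht2 : t ^ 2 = 1) (ht1 : t ≠ 1)
    (hz : z ∈ (P : Subgroup G)) (hz1 : z ≠ 1)
    (hzt : ∀ k : ℕ, k < 3 → z ≠ σ ^ k * t * (σ ^ k)⁻¹)
    (u v : G) (huv : IsPPart 2 u v) (hzv : IsConj z v) (x y : G) (hx : IsConj t x)
    (hy : IsConj t y) : x * y ≠ u := by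
  intro hxy
  obtain ⟨g, hg⟩ := isConj_iff.mp hzv
  have h1 := isPPart_conj huv g⁻¹
  have h2 : g⁻¹ * v * g⁻¹⁻¹ = z := by rw [← hg]; group
  rw [h2] at h1
  have hx' : IsConj t (g⁻¹ * x * g⁻¹⁻¹) := hx.trans (isConj_iff.mpr ⟨g⁻¹, rfl⟩)
  have hy' : IsConj t (g⁻¹ * y * g⁻¹⁻¹) := hy.trans (isConj_iff.mpr ⟨g⁻¹, rfl⟩)
  apply no_pairs_two_aux P hd ht ht2 ht1 hz hz1 hzt _ h1 _ _ hx' hy'
  rw [← hxy]
  group

end Cfsg.Agent.Lib.Helper17_AbSylowTwoGroup
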