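import Mathlib
import Cfsg.Agent.Lib.Helper17_AbSylowThree
import Cfsg.Agent.Lib.Helper17_AbSylowTwoGroup
import Cfsg.Agent.Lib.Helper17_HomoChar
import Cfsg.Agent.Lib.Helper17_BSQ8Char

/-!
# Brauer's theorem for an abelian Sylow `2`-subgroup with inertial index three (helper17)

Under `AD 2 P σ 3` with `|P| > 4` the group has a non-principal linear character with `P` in its
kernel.
-/

set_option autoImplicit false
set_option linter.unusedSectionVars false

namespace Cfsg.Agent.Lib.Helper17_AbSylowTwo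

open Cfsg Cfsg.Agent.Lib.Helper78_LocalRing Cfsg.Agent.Lib.Helper78_CharFacts
  Cfsg.Agent.Lib.Helper16_Char Cfsg.Agent.Lib.Helper17_TIPrime
  Cfsg.Agent.Lib.Helper80_CharBasic
  Cfsg.Agent.Lib.Helper75_CharArith Cfsg.Agent.Lib.Helper3_CharOrtho
  Cfsg.Agent.Lib.Helper3_CharComplete Cfsg.Agent.Lib.Helper3_CharBridge
  Cfsg.Agent.Lib.Helper17_HomoChar Cfsg.Agent.Lib.Helper17_AbSylowCoh
  Cfsg.Agent.Lib.Helper17_AbSylowChar Cfsg.Agent.Lib.Helper17_AbSylowGroup
  Cfsg.Agent.Lib.Helper17_AbSylowBlock Cfsg.Agent.Lib.Helper17_AbSylowMain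
  Cfsg.Agent.Lib.Helper17_AbSylowPack Cfsg.Agent.Lib.Helper17_AbSylowSwap
  Cfsg.Agent.Lib.Helper17_AbSylowThree Cfsg.Agent.Lib.Helper17_AbSylowTwoGroup
  Cfsg.Agent.Lib.Helper17_CoherenceFull

open scoped ComplexConjugate

variable {G : Type*} [Group G] [Finite G]

/-- A power of two exceeding `4` and congruent to `1` modulo `3` is divisible by `16`. -/
theorem sixteen_dvd {N r k : ℕ} (hN : N = 2 ^ k) (hr : 3 * r + 1 = N) (h4 : 3 + 1 < N) :
    16 ∣ N := by
  have hk3 : 3 ≤ k := by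
    by_contra hlt
    push Not at hlt
    have : 2 ^ k ≤ 2 ^ 2 := Nat.pow_le_pow_right (by norm_num) (by omega)
    omega
  have hk4 : 4 ≤ k := by
    by_contra hlt
    have hk : k = 3 := by omega
    rw [hk] at hN
    omega
  rw [hN]
  exact pow_dvd_pow 2 hk4

/-- **The linear character for `p = 2`.** -/
theorem exists_linear_two (P : Sylow 2 G) {σ : G} (hd : AD 2 (P : Subgroup G) σ 3)
    {M : Ideal AlgInt} (hM : IsPModular 2 M)
    (hcomm : ∀ a b : (P : Subgroup G), a * b = b * a)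
    (hbig : 3 + 1 < Nat.card (P : Subgroup G))
    {Δ : IrrCharacter G → ℤ} {ε : ℤ} {c : NP (P : Subgroup G) → IrrCharacter G}
    (hc : Core P ⟨σ, hd.norm⟩ 3 M Δ ε c 0) :
    ∃ χ : IrrCharacter G, χ ≠ oneIrr G ∧ (χ : G → ℂ) 1 = 1 ∧
      ∀ w ∈ (P : Subgroup G), (χ : G → ℂ) w = 1 := by
  classical
  have hF2 : Fact (Nat.Prime 2) := ⟨Nat.prime_two⟩
  have hMp := isPrime_of_isPModular hM
  let _ : Fintype G := Fintype.ofFinite G
  let _ : Fintype (P : Subgroup G) := Fintype.ofFinite _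
  have hB : IsPBlock M (principalBlock M G) := ⟨oneIrr G, rfl⟩
  set BF : Finset (IrrCharacter G) :=
    Finset.univ.filter (fun χ => χ ∈ principalBlock M G) with hBF
  have hS : ∀ f : IrrCharacter G → ℂ,
      ∑ᶠ χ ∈ principalBlock M G, f χ = ∑ χ ∈ BF, f χ := fun f => fs_mem _ f
  have hSZ : ∀ f : IrrCharacter G → ℤ,
      ∑ᶠ χ ∈ principalBlock M G, f χ = ∑ χ ∈ BF, f χ := fun f => fs_mem _ f
  have hmemBF : ∀ χ, χ ∈ BF ↔ χ ∈ principalBlock M G := by
    intro χ
    rw [hBF, Finset.mem_filter]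
    simp
  have hsum_sub : ∀ f : IrrCharacter G → ℂ, ∑ i : BF, f i.1 = ∑ χ ∈ BF, f χ := fun f =>
    Finset.sum_coe_sort BF f
  have hsum_subZ : ∀ f : IrrCharacter G → ℤ, ∑ i : BF, f i.1 = ∑ χ ∈ BF, f χ := fun f =>
    Finset.sum_coe_sort BF f
  set n : Subgroup.normalizer (((P : Subgroup G)) : Set G) := ⟨σ, hd.norm⟩ with hn
  have hφcoe : ∀ (k : ℕ) (w : (P : Subgroup G)),
      (((P : Subgroup G).normalizerMonoidHom (n ^ k) w : (P : Subgroup G)) : G) =
        σ ^ k * w * (σ ^ k)⁻¹ := fun k w => rfl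
  have hne1 : ∀ w : (P : Subgroup G), w ≠ 1 → (w : G) ≠ 1 := fun w hw h => hw (Subtype.ext h)
  have h1S : oneIrr G ∈ BF := (hmemBF _).mpr (sameBlock_refl hMp _)
  -- the order of `P`
  have hcard := card_range hc hcomm
  have h16 : 16 ∣ Nat.card (P : Subgroup G) :=
    sixteen_dvd P.card_eq_multiplicity hcard hbig
  -- an involution
  have h2dvd : 2 ∣ Nat.card (P : Subgroup G) := dvd_trans (by norm_num) h16
  obtain ⟨t', ht'⟩ := exists_prime_orderOf_dvd_card' 2 h2dvd
  set t : G := (t' : G) with ht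
  have htmem : t ∈ (P : Subgroup G) := t'.2
  have hot : orderOf t = 2 := by rw [ht, Subgroup.orderOf_coe]; exact ht'
  have htsq : t ^ 2 = 1 := by rw [← hot]; exact pow_orderOf_eq_one t
  have htne : t ≠ 1 := by
    intro h1
    rw [h1, orderOf_one] at hot
    omega
  have ht'1 : t' ≠ 1 := fun h => htne (by rw [ht, h]; rfl)
  -- an element outside the orbit
  obtain ⟨z', hz'⟩ : ∃ z' : (P : Subgroup G), z' ∉ ({1, t',
      (P : Subgroup G).normalizerMonoidHom (n ^ 1) t',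
      (P : Subgroup G).normalizerMonoidHom (n ^ 2) t'} : Finset (P : Subgroup G)) := by
    by_contra hall
    push Not at hall
    have hsub : (Finset.univ : Finset (P : Subgroup G)) ⊆ {1, t',
      (P : Subgroup G).normalizerMonoidHom (n ^ 1) t',
      (P : Subgroup G).normalizerMonoidHom (n ^ 2) t'} := fun w _ => hall w
    have h1 := Finset.card_le_card hsub
    have h2 : ({1, t', (P : Subgroup G).normalizerMonoidHom (n ^ 1) t',
      (P : Subgroup G).normalizerMonoidHom (n ^ 2) t'} : Finset (P : Subgroup G)).card ≤ 4 :=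
      Finset.card_le_four
    rw [Finset.card_univ, ← Nat.card_eq_fintype_card] at h1
    omega
  simp only [Finset.mem_insert, Finset.mem_singleton, not_or] at hz'
  obtain ⟨hz'1, hz't0, hz't1, hz't2⟩ := hz'
  set z : G := (z' : G) with hz
  have hzmem : z ∈ (P : Subgroup G) := z'.2
  have hz1 : z ≠ 1 := hne1 z' hz'1
  have hzt : ∀ k : ℕ, k < 3 → z ≠ σ ^ k * t * (σ ^ k)⁻¹ := by
    intro k hk h
    interval_cases k
    · apply hz't0
      apply Subtype.ext
      rw [← hz, h]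
      simp [ht]
    · apply hz't1
      apply Subtype.ext
      rw [hφcoe, ← hz, h]
    · apply hz't2
      apply Subtype.ext
      rw [hφcoe, ← hz, h]
  have hntz : ¬ IsConj t z := by
    intro h
    obtain ⟨k, hk3, hk⟩ := hd.fusion t htmem z hzmem h
    exact hzt k hk3 hk
  -- the shape of `Δ`
  let Δ' : BF → ℤ := fun i => Δ i.1
  have hnorm : ∑ i : BF, Δ' i ^ 2 = 3 := by
    have := hc.norm
    rw [hSZ, ← hsum_subZ (fun χ => Δ χ ^ 2)] at this
    rw [this]
    norm_num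
  set i0 : BF := ⟨oneIrr G, h1S⟩ with hi0
  obtain ⟨ψ, ψ', hψ0, hψ'0, hψψ', hΔψ, hΔψ', hrest⟩ :=
    shape_three_supp i0 Δ' hc.one hnorm
  have hεsq : (ε : ℂ) ^ 2 = 1 := by
    rcases hc.eps with h | h <;> rw [h] <;> norm_num
  have hiB : ∀ i : BF, i.1 ∈ principalBlock M G := fun i => (hmemBF _).mp i.2
  -- the functions `T` and `Z`
  set T : BF → ℂ := fun i => ∑ l : NP (P : Subgroup G),
    if c l = i.1 then l.1.1 t' else 0 with hT
  set Z : BF → ℂ := fun i => ∑ l : NP (P : Subgroup G),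
    if c l = i.1 then conj (l.1.1 z') else 0 with hZ
  have hVt : ∀ i : BF, (i.1 : G → ℂ) t = (Δ' i : ℂ) + (ε : ℂ) * T i := by
    intro i
    have := hc.val i.1 (hiB i) t t' (isPPart_self P hd htmem) htne
    rw [fs_cond] at this
    exact this
  have hVz : ∀ i : BF, conj ((i.1 : G → ℂ) z) = (Δ' i : ℂ) + (ε : ℂ) * Z i := by
    intro i
    have := hc.val i.1 (hiB i) z z' (isPPart_self P hd hzmem) hz1
    rw [fs_cond] at this
    have h := congrArg conj this
    rw [map_add, map_mul, map_intCast, map_intCast, map_sum] at h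
    rw [h]
    congr 2
    refine Finset.sum_congr rfl fun l _ => ?_
    split_ifs
    · rfl
    · exact map_zero _
  have hD0 : ∀ i, Δ' i ≠ 0 → T i = 0 ∧ Z i = 0 := by
    intro i hi
    constructor
    · apply Finset.sum_eq_zero
      intro l _
      rw [if_neg]
      intro hcl
      apply hi
      show Δ i.1 = 0
      rw [← hcl]; exact hc.dx l
    · apply Finset.sum_eq_zero
      intro l _
      rw [if_neg]
      intro hcl
      apply hi
      show Δ i.1 = 0
      rw [← hcl]; exact hc.dx l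
  have hZ1 : ∑ i, Z i = -1 := by
    rw [hZ]
    simp only
    rw [Finset.sum_comm]
    have : ∀ l : NP (P : Subgroup G),
        ∑ i : BF, (if c l = i.1 then conj (l.1.1 z') else 0) = conj (l.1.1 z') := by
      intro l
      rw [Finset.sum_eq_single (⟨c l, (hmemBF _).mpr (hc.mem l)⟩ : BF)]
      · rw [if_pos rfl]
      · intro b _ hb
        rw [if_neg]
        intro h
        apply hb
        exact Subtype.ext h.symm
      · intro h
        exact absurd (Finset.mem_univ _) h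
    rw [Finset.sum_congr rfl (fun l _ => this l), ← map_sum, sum_NP hcomm z' hz'1]
    simp
  have hF1 : ∑ i, ((Δ' i : ℂ) + ε * T i) * ((Δ' i : ℂ) + ε * Z i) = 0 := by
    have h1 : ∀ i : BF, ((Δ' i : ℂ) + ε * T i) * ((Δ' i : ℂ) + ε * Z i) =
        (i.1 : G → ℂ) t * conj ((i.1 : G → ℂ) z) := fun i => by rw [hVt, hVz]
    rw [Finset.sum_congr rfl (fun i _ => h1 i),
      hsum_sub (fun χ => (χ : G → ℂ) t * conj ((χ : G → ℂ) z)), ← hS]
    exact kernel_not_conj P hd hM htmem hzmem hntz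
  -- the values of the linear characters at the involutions
  have hlin : ∀ (l : NP (P : Subgroup G)) (u v : (P : Subgroup G)),
      l.1.1 (u * v) = l.1.1 u * l.1.1 v := fun l =>
    Cfsg.Agent.Lib.Helper15_Linear.linear_mul l.1.1
      (isCharacter_of_isIrrCharacter l.1.2) (irr_apply_one_of_comm hcomm l.1)
  have hZzero : ∀ i : BF, (¬ ∃ l, c l = i.1) → Z i = 0 := by
    intro i hi
    apply Finset.sum_eq_zero
    intro l _
    rw [if_neg]
    intro hcl
    exact hi ⟨l, hcl⟩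
  have hT3 : ∀ i, T i ^ 2 * Z i = (3 + 2 * T i) * Z i := by
    intro i
    by_cases hi : ∃ l, c l = i.1
    · obtain ⟨l, hl⟩ := hi
      have hTl : T i = l.1.1 t' + l.1.1 ((P : Subgroup G).normalizerMonoidHom (n ^ 1) t') +
          l.1.1 ((P : Subgroup G).normalizerMonoidHom (n ^ 2) t') := by
        have := hc.fib l (fun l' => l'.1.1 t')
        rw [fs_cond] at this
        rw [hT]
        simp only
        rw [← hl, this, Finset.sum_range_succ, Finset.sum_range_succ, Finset.sum_range_one]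
        congr 2
        show l.1.1 ((P : Subgroup G).normalizerMonoidHom (n ^ 0) t') = l.1.1 t'
        rw [ph_zero]
      have hprod : (P : Subgroup G).normalizerMonoidHom (n ^ 2) t' =
          t' * (P : Subgroup G).normalizerMonoidHom (n ^ 1) t' := by
        apply Subtype.ext
        rw [hφcoe, Subgroup.coe_mul, hφcoe]
        exact orbit_prod P hd htmem htsq
      have ht'sq : t' * t' = 1 := by
        apply Subtype.ext
        rw [Subgroup.coe_mul, Subgroup.coe_one, ← pow_two]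
        exact htsq
      have ha2 : l.1.1 t' * l.1.1 t' = 1 := by
        rw [← hlin, ht'sq, irr_apply_one_of_comm hcomm l.1]
      have hb2 : l.1.1 ((P : Subgroup G).normalizerMonoidHom (n ^ 1) t') *
          l.1.1 ((P : Subgroup G).normalizerMonoidHom (n ^ 1) t') = 1 := by
        rw [← hlin, ← map_mul, ht'sq, map_one, irr_apply_one_of_comm hcomm l.1]
      rw [hTl, hprod, hlin]
      set a := l.1.1 t'
      set b := l.1.1 ((P : Subgroup G).normalizerMonoidHom (n ^ 1) t')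
      linear_combination ((1 + b) ^ 2 * Z i) * ha2 + ((2 + 2 * a) * Z i) * hb2
    · rw [hZzero i hi, mul_zero, mul_zero]
  -- the common degree of the exceptional characters
  obtain ⟨l₀⟩ : Nonempty (NP (P : Subgroup G)) := by
    rw [← Fintype.card_pos_iff]
    have := card_NP hcomm
    omega
  set X₀ : ℤ := (charDegree (c l₀ : G → ℂ) : ℤ) with hX₀
  have hdegc : ∀ l, (charDegree (c l : G → ℂ) : ℤ) = X₀ := by
    intro l
    have h1 := preg_eq hc ⟨l, rfl⟩ ⟨l₀, rfl⟩ 1 (by rw [orderOf_one]; exact not_dvd_one)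
    rw [Cfsg.Agent.Lib.Helper77_BlockBasics.apply_one_eq_charDegree,
      Cfsg.Agent.Lib.Helper77_BlockBasics.apply_one_eq_charDegree] at h1
    rw [hX₀]
    exact_mod_cast h1
  have hDX : ∀ i : BF, Z i ≠ 0 → (charDegree (i.1 : G → ℂ) : ℤ) = X₀ := by
    intro i hi
    by_cases hex : ∃ l, c l = i.1
    · obtain ⟨l, hl⟩ := hex
      rw [← hl]
      exact hdegc l
    · exact absurd (hZzero i hex) hi
  -- the involution-product class function
  have hθ : ∀ u v : G, IsPPart 2 u v → IsConj z v →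
      Cfsg.Agent.Lib.Helper17_BSQ8Char.theta t u = 0 := by
    intro u v huv hzv
    unfold Cfsg.Agent.Lib.Helper17_BSQ8Char.theta
    apply Finset.sum_eq_zero
    intro x' _
    apply Finset.sum_eq_zero
    intro y' _
    rw [if_neg]
    rintro ⟨hx', hy', hxy⟩
    exact no_pairs_two P hd htmem htsq htne hzmem hz1 hzt u v huv hzv x' y' hx' hy' hxy
  have hR2 : ∑ i : BF, ((Δ' i : ℂ) + ε * T i) ^ 2 * ((Δ' i : ℂ) + ε * Z i) /
      ((charDegree (i.1 : G → ℂ) : ℤ) : ℂ) = 0 := by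
    have h0 := Cfsg.Agent.Lib.Helper16_BlockOrth.blockPart_eq_zero hM hB
      (Cfsg.Agent.Lib.Helper17_BSQ8Char.theta t) z hθ z z
      (isPPart_self P hd hzmem) (IsConj.refl z)
    unfold blockPart at h0
    rw [hS] at h0
    have hKne : ((Subgroup.centralizer ({t} : Set G)).index : ℂ) ≠ 0 := by
      rw [Nat.cast_ne_zero]; exact Subgroup.index_ne_zero_of_finite
    have hGne : (Nat.card G : ℂ) ≠ 0 := by
      rw [Nat.cast_ne_zero]; exact Nat.card_pos.ne'
    have h1 : ∑ χ ∈ BF, classInner (Cfsg.Agent.Lib.Helper17_BSQ8Char.theta t) (χ : G → ℂ) *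
        (χ : G → ℂ) z =
        conj (((Nat.card G : ℂ)⁻¹ * ((Subgroup.centralizer ({t} : Set G)).index : ℂ) ^ 2) *
          ∑ i : BF, ((Δ' i : ℂ) + ε * T i) ^ 2 * ((Δ' i : ℂ) + ε * Z i) /
            ((charDegree (i.1 : G → ℂ) : ℤ) : ℂ)) := by
      rw [Finset.mul_sum, map_sum, ← hsum_sub]
      refine Finset.sum_congr rfl fun i _ => ?_
      rw [Cfsg.Agent.Lib.Helper17_BSQ8Char.classInner_theta, ← hVt, ← hVz,
        Cfsg.Agent.Lib.Helper77_BlockBasics.apply_one_eq_charDegree]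
      simp only [map_div₀, map_mul, map_pow, map_natCast, map_intCast, map_inv₀,
        Complex.conj_conj]
      push_cast
      ring
    rw [h1] at h0
    have h2 := (map_eq_zero (starRingEnd ℂ)).mp h0
    rcases mul_eq_zero.mp h2 with h | h
    · exfalso
      exact (mul_ne_zero (inv_ne_zero hGne) (pow_ne_zero 2 hKne)) h
    · exact h
  have hmain := r2_abstract Δ' ε hc.eps (fun i => (charDegree (i.1 : G → ℂ) : ℤ)) X₀ T Z hnorm
    hD0 hZ1 hF1 hT3 hDX hR2
  -- the sum over the support of `Δ`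
  have hd0 : (charDegree ((i0 : BF).1 : G → ℂ) : ℤ) = 1 := by
    have h1 := Cfsg.Agent.Lib.Helper77_BlockBasics.apply_one_eq_charDegree (oneIrr G)
    have h2 : (oneIrr G : G → ℂ) 1 = 1 := rfl
    rw [h2] at h1
    have : (charDegree ((oneIrr G : IrrCharacter G) : G → ℂ) : ℂ) = ((1 : ℕ) : ℂ) := by
      rw [← h1]; norm_num
    have h3 : charDegree ((oneIrr G : IrrCharacter G) : G → ℂ) = 1 := by exact_mod_cast this
    show (charDegree ((oneIrr G : IrrCharacter G) : G → ℂ) : ℤ) = 1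
    rw [h3]; norm_num
  have hsupp : ∀ f : BF → ℂ, (∀ i, Δ' i = 0 → f i = 0) →
      ∑ i, f i = f i0 + f ψ + f ψ' := by
    intro f hf
    have h3 : ∑ i, f i = ∑ i ∈ ({i0, ψ, ψ'} : Finset BF), f i := by
      symm
      apply Finset.sum_subset (Finset.subset_univ _)
      intro i _ hi
      simp only [Finset.mem_insert, Finset.mem_singleton, not_or] at hi
      exact hf i (hrest i hi.1 hi.2.1 hi.2.2)
    rw [h3, Finset.sum_insert (by simp [Ne.symm hψ0, Ne.symm hψ'0]), Finset.sum_pair hψψ',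
      add_assoc]
  set dψ : ℤ := (charDegree (ψ.1 : G → ℂ) : ℤ) with hdψ
  set dψ' : ℤ := (charDegree (ψ'.1 : G → ℂ) : ℤ) with hdψ'
  have hdψpos : 0 < dψ := by
    have := Cfsg.Agent.Lib.Helper77_BlockBasics.charDegree_pos ψ.1
    rw [hdψ]; exact_mod_cast this
  have hdψ'pos : 0 < dψ' := by
    have := Cfsg.Agent.Lib.Helper77_BlockBasics.charDegree_pos ψ'.1
    rw [hdψ']; exact_mod_cast this
  -- relation 1
  have hsumd : ∑ i : BF, Δ' i * (charDegree (i.1 : G → ℂ) : ℤ) = ε * X₀ := by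
    have h1 := hc.preg l₀ 1 (by rw [orderOf_one]; exact not_dvd_one)
    rw [hS, ← hsum_sub (fun χ => (Δ χ : ℂ) * (χ : G → ℂ) 1),
      Cfsg.Agent.Lib.Helper77_BlockBasics.apply_one_eq_charDegree] at h1
    have h2 : ((X₀ : ℤ) : ℂ) = (ε : ℂ) *
        ((∑ i : BF, Δ' i * (charDegree (i.1 : G → ℂ) : ℤ) : ℤ) : ℂ) := by
      rw [hX₀]
      push_cast
      rw [h1]
      congr 1
      refine Finset.sum_congr rfl fun i _ => ?_
      rw [Cfsg.Agent.Lib.Helper77_BlockBasics.apply_one_eq_charDegree]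
    have h3 : X₀ = ε * ∑ i : BF, Δ' i * (charDegree (i.1 : G → ℂ) : ℤ) := by exact_mod_cast h2
    have hεsqZ : ε * ε = 1 := by rcases hc.eps with h | h <;> rw [h] <;> norm_num
    rw [h3, ← mul_assoc, hεsqZ, one_mul]
  have hR1 : 1 + Δ' ψ * dψ + Δ' ψ' * dψ' = ε * X₀ := by
    have h1 : ∑ i : BF, Δ' i * (charDegree (i.1 : G → ℂ) : ℤ) =
        Δ' i0 * (charDegree (i0.1 : G → ℂ) : ℤ) + Δ' ψ * dψ + Δ' ψ' * dψ' := by
      have h3 : ∑ i : BF, Δ' i * (charDegree (i.1 : G → ℂ) : ℤ) =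
          ∑ i ∈ ({i0, ψ, ψ'} : Finset BF), Δ' i * (charDegree (i.1 : G → ℂ) : ℤ) := by
        symm
        apply Finset.sum_subset (Finset.subset_univ _)
        intro i _ hi
        simp only [Finset.mem_insert, Finset.mem_singleton, not_or] at hi
        rw [hrest i hi.1 hi.2.1 hi.2.2, zero_mul]
      rw [h3, Finset.sum_insert (by simp [Ne.symm hψ0, Ne.symm hψ'0]), Finset.sum_pair hψψ',
        add_assoc]
    have hΔi0 : Δ' i0 = 1 := hc.one
    rw [h1, hΔi0, hd0] at hsumd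
    linarith
  -- relation 2
  have hR2' : (1 : ℂ) + (Δ' ψ : ℂ) ^ 3 / (dψ : ℂ) + (Δ' ψ' : ℂ) ^ 3 / (dψ' : ℂ) =
      9 * (ε : ℂ) / (X₀ : ℂ) := by
    have hΔi0 : Δ' i0 = 1 := hc.one
    rw [← hmain, hsupp (fun i => (Δ' i : ℂ) ^ 3 / ((charDegree (i.1 : G → ℂ) : ℤ) : ℂ))
      (fun i hi => by simp [hi]), hΔi0, hd0]
    simp only [Int.cast_one, one_pow, div_one]
    rfl
  -- congruences
  have hcongr : ∀ i : BF, Δ' i ≠ 0 →
      ((Nat.card (P : Subgroup G) : ℕ) : ℤ) ∣ Δ' i - (charDegree (i.1 : G → ℂ) : ℤ) := by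
    intro i hi
    have hX : i.1 ∈ XX P M c := by
      refine ⟨hiB i, ?_⟩
      intro l hl
      apply hi
      show Δ i.1 = 0
      rw [← hl]; exact hc.dx l
    obtain ⟨a, ha⟩ := Cfsg.Agent.Lib.Helper17_BSQ8Char.sum_subgroup_nat i.1 (P : Subgroup G)
    have hval : ∀ w : (P : Subgroup G), w ≠ 1 → (i.1 : G → ℂ) (w : G) = (Δ' i : ℂ) := by
      intro w hw
      exact (val_X hc hX).2 w w (isPPart_self P hd w.2) w.2 (hne1 w hw)
    have h1 := Finset.add_sum_erase Finset.univ (fun w : (P : Subgroup G) => (i.1 : G → ℂ) w)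
      (Finset.mem_univ (1 : (P : Subgroup G)))
    have h2 : ∑ w ∈ Finset.univ.erase (1 : (P : Subgroup G)), (i.1 : G → ℂ) (w : G) =
        ((Nat.card (P : Subgroup G) : ℂ) - 1) * (Δ' i : ℂ) := by
      rw [Finset.sum_congr rfl (fun w hw => hval w (Finset.ne_of_mem_erase hw)),
        Finset.sum_const, Finset.card_erase_of_mem (Finset.mem_univ _), Finset.card_univ,
        nsmul_eq_mul, ← Nat.card_eq_fintype_card]
      have hpos : 0 < Nat.card (P : Subgroup G) := Nat.card_pos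
      rw [Nat.cast_sub hpos]
      simp
    rw [h2, ha, Subgroup.coe_one,
      Cfsg.Agent.Lib.Helper77_BlockBasics.apply_one_eq_charDegree] at h1
    refine ⟨Δ' i - (a : ℤ), ?_⟩
    have h3 : (((Δ' i - (charDegree (i.1 : G → ℂ) : ℤ) : ℤ)) : ℂ) =
        ((((Nat.card (P : Subgroup G) : ℕ) : ℤ) * (Δ' i - (a : ℤ)) : ℤ) : ℂ) := by
      push_cast
      linear_combination (-1 : ℂ) * h1
    exact_mod_cast h3
  -- the arithmetic
  set a : ℤ := Δ' ψ * dψ with ha
  set b : ℤ := Δ' ψ' * dψ' with hb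
  have hsq1 : Δ' ψ * Δ' ψ = 1 := by rcases hΔψ with h | h <;> rw [h] <;> norm_num
  have hsq2 : Δ' ψ' * Δ' ψ' = 1 := by rcases hΔψ' with h | h <;> rw [h] <;> norm_num
  have h16' : ((16 : ℕ) : ℤ) ∣ ((Nat.card (P : Subgroup G) : ℕ) : ℤ) := by exact_mod_cast h16
  have hca : (16 : ℤ) ∣ a - 1 := by
    have h2 := hcongr ψ (by rcases hΔψ with h | h <;> rw [h] <;> norm_num)
    have h3 : (16 : ℤ) ∣ Δ' ψ - dψ := dvd_trans (by exact_mod_cast h16') h2
    have h4 : a - 1 = -(Δ' ψ * (Δ' ψ - dψ)) := by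
      rw [ha]; linear_combination hsq1
    rw [h4]
    exact (dvd_neg).mpr (dvd_mul_of_dvd_right h3 _)
  have hcb : (16 : ℤ) ∣ b - 1 := by
    have h2 := hcongr ψ' (by rcases hΔψ' with h | h <;> rw [h] <;> norm_num)
    have h3 : (16 : ℤ) ∣ Δ' ψ' - dψ' := dvd_trans (by exact_mod_cast h16') h2
    have h4 : b - 1 = -(Δ' ψ' * (Δ' ψ' - dψ')) := by
      rw [hb]; linear_combination hsq2
    rw [h4]
    exact (dvd_neg).mpr (dvd_mul_of_dvd_right h3 _)
  have hane : a ≠ 0 := by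
    rw [ha]
    exact mul_ne_zero (by rcases hΔψ with h | h <;> rw [h] <;> norm_num) hdψpos.ne'
  have hbne : b ≠ 0 := by
    rw [hb]
    exact mul_ne_zero (by rcases hΔψ' with h | h <;> rw [h] <;> norm_num) hdψ'pos.ne'
  have hsne : 1 + a + b ≠ 0 := by
    obtain ⟨u, hu⟩ := hca
    obtain ⟨v, hv⟩ := hcb
    omega
  have hxne : X₀ ≠ 0 := by
    intro h
    rw [h, mul_zero] at hR1
    exact hsne hR1
  have e1 : (Δ' ψ : ℂ) ^ 3 / (dψ : ℂ) = 1 / (a : ℂ) := by
    have hdne : (dψ : ℂ) ≠ 0 := by exact_mod_cast hdψpos.ne'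
    rw [ha]
    rcases hΔψ with h | h <;> rw [h] <;> push_cast <;> field_simp
  have e2 : (Δ' ψ' : ℂ) ^ 3 / (dψ' : ℂ) = 1 / (b : ℂ) := by
    have hdne : (dψ' : ℂ) ≠ 0 := by exact_mod_cast hdψ'pos.ne'
    rw [hb]
    rcases hΔψ' with h | h <;> rw [h] <;> push_cast <;> field_simp
  have e3 : 9 * (ε : ℂ) / (X₀ : ℂ) = 9 / ((1 + a + b : ℤ) : ℂ) := by
    have hxc : (X₀ : ℂ) ≠ 0 := by exact_mod_cast hxne
    have hR1c : ((1 + a + b : ℤ) : ℂ) = (ε : ℂ) * (X₀ : ℂ) := by
      rw [hR1]; push_cast; ring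
    rw [hR1c]
    have hεne : (ε : ℂ) ≠ 0 := by
      intro h
      rw [h] at hεsq
      norm_num at hεsq
    field_simp
    linear_combination hεsq
  have harith : (a * b + a + b) * (1 + a + b) = 9 * (a * b) := by
    rw [e1, e2, e3] at hR2'
    have hac : (a : ℂ) ≠ 0 := by exact_mod_cast hane
    have hbc : (b : ℂ) ≠ 0 := by exact_mod_cast hbne
    have hsc : ((1 + a + b : ℤ) : ℂ) ≠ 0 := by exact_mod_cast hsne
    have h5 : (((a * b + a + b) * (1 + a + b) : ℤ) : ℂ) = ((9 * (a * b) : ℤ) : ℂ) := by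
      field_simp at hR2'
      push_cast at hR2' ⊢
      linear_combination hR2'
    exact_mod_cast h5
  obtain ⟨ha1, -⟩ := arith_final a b hca hcb harith
  have hΔψ1 : Δ' ψ = 1 ∧ dψ = 1 := by
    rcases Int.mul_eq_one_iff_eq_one_or_neg_one.mp ha1 with h | h
    · exact h
    · omega
  -- the character
  have hψX : ψ.1 ∈ XX P M c := by
    refine ⟨hiB ψ, ?_⟩
    intro l hl
    have h1 : Δ ψ.1 = 0 := by rw [← hl]; exact hc.dx l
    have h2 : Δ' ψ = 1 := hΔψ1.1
    have h3 : Δ' ψ = Δ ψ.1 := rfl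
    omega
  refine ⟨ψ.1, ?_, ?_, ?_⟩
  · intro h
    apply hψ0
    apply Subtype.ext
    exact h
  · rw [Cfsg.Agent.Lib.Helper77_BlockBasics.apply_one_eq_charDegree]
    have : (charDegree (ψ.1 : G → ℂ) : ℤ) = 1 := hΔψ1.2
    have h3 : charDegree (ψ.1 : G → ℂ) = 1 := by exact_mod_cast this
    rw [h3]; norm_num
  · intro w hw
    by_cases hw1 : w = 1
    · rw [hw1, Cfsg.Agent.Lib.Helper77_BlockBasics.apply_one_eq_charDegree]
      have : (charDegree (ψ.1 : G → ℂ) : ℤ) = 1 := hΔψ1.2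
      have h3 : charDegree (ψ.1 : G → ℂ) = 1 := by exact_mod_cast this
      rw [h3]; norm_num
    · have h1 := (val_X hc hψX).2 w w (isPPart_self P hd hw) hw hw1
      rw [h1]
      have h2 : Δ ψ.1 = 1 := hΔψ1.1
      rw [h2]
      norm_num

end Cfsg.Agent.Lib.Helper17_AbSylowTwo
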