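import Mathlib
import Cfsg.Agent.Lib.Helper17_AbSylowThree
import Cfsg.Agent.Lib.Helper17_AbSylowInv
import Cfsg.Agent.Lib.Helper17_AbSylowTwo

/-!
# Inertial index three: the non-exceptional characters and the involution clause (helper17)
-/

set_option autoImplicit false
set_option linter.unusedSectionVars false

namespace Cfsg.Agent.Lib.Helper17_AbSylowFinal

open Cfsg Cfsg.Agent.Lib.Helper78_LocalRing Cfsg.Agent.Lib.Helper78_CharFacts
  Cfsg.Agent.Lib.Helper16_Char Cfsg.Agent.Lib.Helper17_TIPrime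
  Cfsg.Agent.Lib.Helper80_CharBasic
  Cfsg.Agent.Lib.Helper75_CharArith Cfsg.Agent.Lib.Helper3_CharOrtho
  Cfsg.Agent.Lib.Helper3_CharComplete Cfsg.Agent.Lib.Helper3_CharBridge
  Cfsg.Agent.Lib.Helper17_AbSylowGroup
  Cfsg.Agent.Lib.Helper17_AbSylowBlock Cfsg.Agent.Lib.Helper17_AbSylowMain
  Cfsg.Agent.Lib.Helper17_AbSylowPack Cfsg.Agent.Lib.Helper17_AbSylowThree
  Cfsg.Agent.Lib.Helper17_AbSylowInv Cfsg.Agent.Lib.Helper17_AbSylowTwo

open scoped ComplexConjugate

variable {G : Type*} [Group G] [Finite G] {p : ℕ} [Fact p.Prime]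
  {P : Sylow p G} {n : Subgroup.normalizer ((P : Subgroup G) : Set G)}
  {M : Ideal AlgInt} {Δ : IrrCharacter G → ℤ} {ε : ℤ}
  {c : NP (P : Subgroup G) → IrrCharacter G}

/-- For inertial index three and constant part `0`, there are exactly three non-exceptional
characters and their constant parts are `±1`. -/
theorem three_X (hc : Core P n 3 M Δ ε c 0)
    (hcomm : ∀ a b : (P : Subgroup G), a * b = b * a) :
    Nat.card (XX P M c) = 3 ∧ ∀ χ ∈ XX P M c, Δ χ = 1 ∨ Δ χ = -1 := by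
  classical
  let _ : Fintype G := Fintype.ofFinite G
  have hid := norm_id hc (by norm_num) hcomm
  have hεsq : ε ^ 2 = 1 := by rcases hc.eps with h | h <;> rw [h] <;> norm_num
  have hSX : ∑ᶠ χ ∈ XX P M c, Δ χ ^ 2 = 3 := by
    rw [zero_sub, neg_sq, hεsq] at hid
    push_cast at hid
    linarith
  have hpm : ∀ χ ∈ XX P M c, Δ χ = 1 ∨ Δ χ = -1 := by
    intro χ hχ
    have h0 := (val_X hc hχ).1
    have hle : Δ χ ^ 2 ≤ 3 := by
      rw [← hSX, fs_mem]
      exact Finset.single_le_sum (f := fun χ => Δ χ ^ 2) (fun i _ => sq_nonneg (Δ i))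
        (Finset.mem_filter.mpr ⟨Finset.mem_univ χ, hχ⟩)
    have h1 : Δ χ ≤ 1 := by nlinarith
    have h2 : -1 ≤ Δ χ := by nlinarith
    omega
  refine ⟨?_, hpm⟩
  have hXcard : Nat.card (XX P M c) = (Finset.univ.filter (· ∈ XX P M c)).card := by
    rw [Nat.card_coe_set_eq]
    conv_lhs => rw [XX_eq_coe (P := P) (M := M) (c := c)]
    rw [Set.ncard_coe_finset]
  rw [hXcard]
  have h3 : ((Finset.univ.filter (· ∈ XX P M c)).card : ℤ) = 3 := by
    rw [← hSX, fs_mem, Finset.card_eq_sum_ones]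
    push_cast
    refine Finset.sum_congr rfl fun χ hχ => ?_
    have hχX : χ ∈ XX P M c := (Finset.mem_filter.mp hχ).2
    rcases hpm χ hχX with h | h <;> rw [h] <;> norm_num
  exact_mod_cast h3

variable {σ : G}

/-- **The involution clause for odd `p`.** -/
theorem final_odd (hd : AD p (P : Subgroup G) σ 3)
    (hcomm : ∀ a b : (P : Subgroup G), a * b = b * a)
    (hc : Core P ⟨σ, hd.norm⟩ 3 M Δ ε c 0) (hM : M.IsPrime) (hp2 : p ≠ 2)
    (hbig : 3 + 1 < Nat.card (P : Subgroup G))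
    {t : G} (ht : orderOf t = 2) (htn : ∀ K : Subgroup G, K.Normal → t ∈ K → K = ⊤) :
    Nat.card {χ : IrrCharacter G // χ ∈ XX P M c ∧ (χ : G → ℂ) ≠ (fun _ => 1) ∧ Δ χ = -1} +
        (if ε = 1 then 1 else 0) = 2 ∧
      ∀ η ∈ Set.range c, IsSquare (charDegree (η : G → ℂ) *
        ∏ᶠ χ ∈ {χ : IrrCharacter G | χ ∈ XX P M c ∧ (χ : G → ℂ) ≠ fun _ => 1},
          charDegree (χ : G → ℂ)) := by
  classical
  have hp : p.Prime := Fact.out
  let _ : Fintype G := Fintype.ofFinite G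
  let _ : Fintype (P : Subgroup G) := Fintype.ofFinite _
  obtain ⟨hX3, hΔX⟩ := three_X hc hcomm
  have ht2 : t ^ 2 = 1 := by rw [← ht]; exact pow_orderOf_eq_one t
  have htreg : ¬ p ∣ orderOf t := by
    rw [ht]
    intro h
    exact hp2 ((Nat.prime_dvd_prime_iff_eq hp Nat.prime_two).mp h)
  have h1reg : ¬ p ∣ orderOf (1 : G) := by rw [orderOf_one]; exact not_dvd_one
  -- the three non-exceptional characters
  set XF : Finset (IrrCharacter G) := Finset.univ.filter (· ∈ XX P M c) with hXF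
  have hXFmem : ∀ χ, χ ∈ XF ↔ χ ∈ XX P M c := by
    intro χ
    rw [hXF, Finset.mem_filter]
    simp
  have hXFcard : XF.card = 3 := by
    rw [← hX3, Nat.card_coe_set_eq]
    conv_rhs => rw [XX_eq_coe (P := P) (M := M) (c := c)]
    rw [Set.ncard_coe_finset]
  have h1X : oneIrr G ∈ XF := (hXFmem _).mpr (one_mem hc hM)
  have herase : (XF.erase (oneIrr G)).card = 2 := by
    rw [Finset.card_erase_of_mem h1X, hXFcard]
  obtain ⟨χ₂, χ₃, h23, hpair⟩ := Finset.card_eq_two.mp herase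
  have hχ₂ : χ₂ ∈ XF.erase (oneIrr G) := by rw [hpair]; simp
  have hχ₃ : χ₃ ∈ XF.erase (oneIrr G) := by rw [hpair]; simp
  have hχ₂1 : χ₂ ≠ oneIrr G := Finset.ne_of_mem_erase hχ₂
  have hχ₃1 : χ₃ ≠ oneIrr G := Finset.ne_of_mem_erase hχ₃
  have hχ₂X : χ₂ ∈ XX P M c := (hXFmem _).mp (Finset.mem_of_mem_erase hχ₂)
  have hχ₃X : χ₃ ∈ XX P M c := (hXFmem _).mp (Finset.mem_of_mem_erase hχ₃)
  have hXXeq : XX P M c = {oneIrr G, χ₂, χ₃} := by
    ext χ
    rw [← hXFmem]
    simp only [Set.mem_insert_iff, Set.mem_singleton_iff]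
    constructor
    · intro hχ
      by_cases h1 : χ = oneIrr G
      · left; exact h1
      · right
        have : χ ∈ XF.erase (oneIrr G) := Finset.mem_erase.mpr ⟨h1, hχ⟩
        rw [hpair] at this
        simpa using this
    · rintro (h | h | h)
      · rw [h]; exact h1X
      · rw [h]; exact Finset.mem_of_mem_erase hχ₂
      · rw [h]; exact Finset.mem_of_mem_erase hχ₃
  have hsumX : ∀ f : IrrCharacter G → ℂ, ∑ᶠ χ ∈ XX P M c, f χ =
      f (oneIrr G) + f χ₂ + f χ₃ := by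
    intro f
    rw [hXXeq, finsum_mem_insert _ (by
      simp only [Set.mem_insert_iff, Set.mem_singleton_iff, not_or]
      exact ⟨Ne.symm hχ₂1, Ne.symm hχ₃1⟩) (Set.toFinite _), finsum_mem_pair h23, add_assoc]
  have hfun : ∀ χ : IrrCharacter G, (χ : G → ℂ) ≠ (fun _ => 1) ↔ χ ≠ oneIrr G := by
    intro χ
    constructor
    · intro h h'
      apply h
      rw [h']
      rfl
    · intro h h'
      apply h
      exact Subtype.ext h'
  have hS' : {χ : IrrCharacter G | χ ∈ XX P M c ∧ (χ : G → ℂ) ≠ fun _ => 1} = {χ₂, χ₃} := by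
    ext χ
    simp only [Set.mem_ofPred_eq, Set.mem_insert_iff, Set.mem_singleton_iff]
    rw [hfun, hXXeq]
    simp only [Set.mem_insert_iff, Set.mem_singleton_iff]
    constructor
    · rintro ⟨h | h | h, h1⟩
      · exact absurd h h1
      · left; exact h
      · right; exact h
    · rintro (h | h)
      · exact ⟨Or.inr (Or.inl h), by rw [h]; exact hχ₂1⟩
      · exact ⟨Or.inr (Or.inr h), by rw [h]; exact hχ₃1⟩
  set a₂ := Δ χ₂ with ha₂
  set a₃ := Δ χ₃ with ha₃
  have ha₂' : a₂ = 1 ∨ a₂ = -1 := hΔX χ₂ hχ₂X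
  have ha₃' : a₃ = 1 ∨ a₃ = -1 := hΔX χ₃ hχ₃X
  -- the arithmetic for each exceptional character
  have hkey : ∀ η ∈ Set.range c, a₂ * a₃ * (-ε) = 1 ∧
      IsSquare (charDegree (χ₂ : G → ℂ) * charDegree (χ₃ : G → ℂ) * charDegree (η : G → ℂ)) ∧
      (1 : ℤ) + a₂ * (charDegree (χ₂ : G → ℂ) : ℤ) + a₃ * (charDegree (χ₃ : G → ℂ) : ℤ) +
        (-ε) * (charDegree (η : G → ℂ) : ℤ) = 0 := by
    intro η hη
    have hηne : η ≠ oneIrr G := by
      obtain ⟨l, rfl⟩ := hη
      exact hc.ne_one l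
    -- the relation at the `p`-regular elements
    have hrel : ∀ g : G, ¬ p ∣ orderOf g →
        ((1 : ℤ) : ℂ) * (oneIrr G : G → ℂ) g + (a₂ : ℂ) * (χ₂ : G → ℂ) g +
          (a₃ : ℂ) * (χ₃ : G → ℂ) g + ((-ε : ℤ) : ℂ) * (η : G → ℂ) g = 0 := by
      intro g hg
      have h := preg_rel hc (by norm_num) hcomm hη g hg
      rw [hsumX (fun χ => (Δ χ : ℂ) * (χ : G → ℂ) g), hc.one] at h
      push_cast at h ⊢
      linear_combination h
    obtain ⟨c₂, hc₂⟩ := involution_int χ₂ ht2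
    obtain ⟨c₃, hc₃⟩ := involution_int χ₃ ht2
    obtain ⟨c₄, hc₄⟩ := involution_int η ht2
    have hone : ∀ g : G, (oneIrr G : G → ℂ) g = 1 := fun g => rfl
    have hd₂ := Cfsg.Agent.Lib.Helper77_BlockBasics.apply_one_eq_charDegree χ₂
    have hd₃ := Cfsg.Agent.Lib.Helper77_BlockBasics.apply_one_eq_charDegree χ₃
    have hd₄ := Cfsg.Agent.Lib.Helper77_BlockBasics.apply_one_eq_charDegree η
    set f₂ := charDegree (χ₂ : G → ℂ) with hf₂
    set f₃ := charDegree (χ₃ : G → ℂ) with hf₃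
    set f₄ := charDegree (η : G → ℂ) with hf₄
    have hf₂pos : 0 < f₂ := Cfsg.Agent.Lib.Helper77_BlockBasics.charDegree_pos χ₂
    have hf₃pos : 0 < f₃ := Cfsg.Agent.Lib.Helper77_BlockBasics.charDegree_pos χ₃
    have hf₄pos : 0 < f₄ := Cfsg.Agent.Lib.Helper77_BlockBasics.charDegree_pos η
    have R1 : (1 : ℤ) + a₂ * (f₂ : ℤ) + a₃ * (f₃ : ℤ) + (-ε) * (f₄ : ℤ) = 0 := by
      have h := hrel 1 h1reg
      rw [hone, hd₂, hd₃, hd₄] at h
      have h' : (((1 : ℤ) + a₂ * (f₂ : ℤ) + a₃ * (f₃ : ℤ) + (-ε) * (f₄ : ℤ) : ℤ) : ℂ) = 0 := by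
        push_cast at h ⊢
        linear_combination h
      exact_mod_cast h'
    have R2 : (1 : ℤ) + a₂ * c₂ + a₃ * c₃ + (-ε) * c₄ = 0 := by
      have h := hrel t htreg
      rw [hone, hc₂, hc₃, hc₄] at h
      have h' : (((1 : ℤ) + a₂ * c₂ + a₃ * c₃ + (-ε) * c₄ : ℤ) : ℂ) = 0 := by
        push_cast at h ⊢
        linear_combination h
      exact_mod_cast h'
    have R3 : (1 : ℚ) + a₂ * ((c₂ : ℚ) ^ 2 / f₂) + a₃ * ((c₃ : ℚ) ^ 2 / f₃) +
        ((-ε : ℤ) : ℚ) * ((c₄ : ℚ) ^ 2 / f₄) = 0 := by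
      have h := third_relation4 t (oneIrr G) χ₂ χ₃ η 1 a₂ a₃ (-ε) (by
        intro g
        by_cases hg : p ∣ orderOf g
        · left
          exact theta_eq_zero_odd P hd (by decide) hp2 ht2 hg
        · right
          exact hrel g hg)
      rw [hone, hone, hd₂, hd₃, hd₄, hc₂, hc₃, hc₄] at h
      have h' : (((1 : ℚ) + a₂ * ((c₂ : ℚ) ^ 2 / f₂) + a₃ * ((c₃ : ℚ) ^ 2 / f₃) +
          ((-ε : ℤ) : ℚ) * ((c₄ : ℚ) ^ 2 / f₄) : ℚ) : ℂ) = 0 := by
        push_cast at h ⊢
        linear_combination h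
      exact_mod_cast h'
    have hne₂ : c₂ ≠ (f₂ : ℤ) := by
      intro h
      apply apply_ne_of_no_normal htn χ₂ hχ₂1
      rw [hc₂, hd₂, h]
      push_cast
      rfl
    have hne₃ : c₃ ≠ (f₃ : ℤ) := by
      intro h
      apply apply_ne_of_no_normal htn χ₃ hχ₃1
      rw [hc₃, hd₃, h]
      push_cast
      rfl
    have hne₄ : c₄ ≠ (f₄ : ℤ) := by
      intro h
      apply apply_ne_of_no_normal htn η hηne
      rw [hc₄, hd₄, h]
      push_cast
      rfl
    have hε' : -ε = 1 ∨ -ε = -1 := by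
      rcases hc.eps with h | h
      · right; rw [h]
      · left; rw [h]; norm_num
    obtain ⟨hsign, hsq⟩ := arith_three a₂ a₃ (-ε) ha₂' ha₃' hε' f₂ f₃ f₄ hf₂pos hf₃pos hf₄pos
      c₂ c₃ c₄ hne₂ hne₃ hne₄ R1 R2 R3
    exact ⟨hsign, hsq, R1⟩
  obtain ⟨l₀⟩ : Nonempty (NP (P : Subgroup G)) := by
    rw [← Fintype.card_pos_iff]
    have h2 := Cfsg.Agent.Lib.Helper17_AbSylowPack.card_NP hcomm
    omega
  constructor
  · -- the count
    obtain ⟨hsign, -, R1⟩ := hkey (c l₀) ⟨l₀, rfl⟩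
    have hf₂pos : 0 < charDegree (χ₂ : G → ℂ) :=
      Cfsg.Agent.Lib.Helper77_BlockBasics.charDegree_pos χ₂
    have hf₃pos : 0 < charDegree (χ₃ : G → ℂ) :=
      Cfsg.Agent.Lib.Helper77_BlockBasics.charDegree_pos χ₃
    have hf₄pos : 0 < charDegree (c l₀ : G → ℂ) :=
      Cfsg.Agent.Lib.Helper77_BlockBasics.charDegree_pos (c l₀)
    have hcardset : Nat.card {χ : IrrCharacter G // χ ∈ XX P M c ∧
        (χ : G → ℂ) ≠ (fun _ => 1) ∧ Δ χ = -1} =
        Set.ncard {χ : IrrCharacter G | χ ∈ ({χ₂, χ₃} : Set (IrrCharacter G)) ∧ Δ χ = -1} := by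
      rw [← Nat.card_coe_set_eq]
      apply Nat.card_congr
      apply Equiv.subtypeEquivRight
      intro χ
      have := Set.ext_iff.mp hS' χ
      simp only [Set.mem_ofPred_eq] at this
      constructor
      · rintro ⟨h1, h2, h3⟩
        exact ⟨this.mp ⟨h1, h2⟩, h3⟩
      · rintro ⟨h1, h3⟩
        obtain ⟨h1', h2'⟩ := this.mpr h1
        exact ⟨h1', h2', h3⟩
    rw [hcardset]
    rcases ha₂' with h2 | h2 <;> rcases ha₃' with h3 | h3 <;> rcases hc.eps with he | he
    · -- (1, 1, 1): product is -1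
      exfalso
      rw [h2, h3, he] at hsign
      norm_num at hsign
    · -- (1, 1, -1): impossible by the degree relation
      exfalso
      rw [h2, h3, he] at R1
      push_cast at R1
      omega
    · -- (1, -1, 1)
      have : {χ : IrrCharacter G | χ ∈ ({χ₂, χ₃} : Set (IrrCharacter G)) ∧ Δ χ = -1} = {χ₃} := by
        ext χ
        simp only [Set.mem_ofPred_eq, Set.mem_insert_iff, Set.mem_singleton_iff]
        constructor
        · rintro ⟨h | h, h'⟩
          · rw [h] at h'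
            have h'' : a₂ = -1 := h'
            rw [h2] at h''
            norm_num at h''
          · exact h
        · intro h
          exact ⟨Or.inr h, by rw [h]; exact h3⟩
      rw [this, Set.ncard_singleton, he, if_pos rfl]
    · exfalso
      rw [h2, h3, he] at hsign
      norm_num at hsign
    · -- (-1, 1, 1)
      have : {χ : IrrCharacter G | χ ∈ ({χ₂, χ₃} : Set (IrrCharacter G)) ∧ Δ χ = -1} = {χ₂} := by
        ext χ
        simp only [Set.mem_ofPred_eq, Set.mem_insert_iff, Set.mem_singleton_iff]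
        constructor
        · rintro ⟨h | h, h'⟩
          · exact h
          · rw [h] at h'
            have h'' : a₃ = -1 := h'
            rw [h3] at h''
            norm_num at h''
        · intro h
          exact ⟨Or.inl h, by rw [h]; exact h2⟩
      rw [this, Set.ncard_singleton, he, if_pos rfl]
    · exfalso
      rw [h2, h3, he] at hsign
      norm_num at hsign
    · exfalso
      rw [h2, h3, he] at hsign
      norm_num at hsign
    · -- (-1, -1, -1)
      have : {χ : IrrCharacter G | χ ∈ ({χ₂, χ₃} : Set (IrrCharacter G)) ∧ Δ χ = -1} =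
          {χ₂, χ₃} := by
        ext χ
        simp only [Set.mem_ofPred_eq, Set.mem_insert_iff, Set.mem_singleton_iff]
        constructor
        · rintro ⟨h, -⟩
          exact h
        · rintro (h | h)
          · exact ⟨Or.inl h, by rw [h]; exact h2⟩
          · exact ⟨Or.inr h, by rw [h]; exact h3⟩
      rw [this, Set.ncard_pair h23, he, if_neg (by norm_num)]
  · intro η hη
    obtain ⟨-, hsq, -⟩ := hkey η hη
    rw [hS', finprod_mem_pair h23]
    have : charDegree (η : G → ℂ) * (charDegree (χ₂ : G → ℂ) * charDegree (χ₃ : G → ℂ)) =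
        charDegree (χ₂ : G → ℂ) * charDegree (χ₃ : G → ℂ) * charDegree (η : G → ℂ) := by ring
    rw [this]
    exact hsq

end Cfsg.Agent.Lib.Helper17_AbSylowFinal
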