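import Cfsg.Prelude.Def_OddOrderLocal

/-!
Shared hypothesis Props for the reconstruction of Bender-Glauberman section 13 / Theorem 14.2.

* `H1428 G` : the statement of the frozen row S1428 (B-G 13.4, cent_tau1Elem_Msigma), as a Prop.
* `F1 G`    : B-G Theorem 13.7 (tau12_regular) in the contrapositive form used for 14.2:
              a nonregular tau1-element of prime order has no fixed point on the normal E_{p^2}
              of a complement, p in tau2(M).
* `F2 G`    : B-G 13.11/13.13 (tau13_nonregular): if some tau3-subgroup of prime order of a complement E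
              is nonregular on M_sigma then E acts in a prime manner on M_sigma and every
              subgroup of prime order of E is normal in E.
-/

set_option autoImplicit false

namespace Cfsg.Agent.Lib.Helper23_BG13Hyp

open Subgroup

universe u

/-- The frozen statement S1428 as a hypothesis. -/
def H1428 (G : Type u) [Group G] [Finite G] : Prop :=
  ∀ (M : Subgroup G), IsCoatom M → ∀ (E : Subgroup G), Cfsg.IsComplIn E (Cfsg.sigmaCore M) M →
  ∀ (p : ℕ), p ∈ Cfsg.tau1 M → ∀ (P : Subgroup G), P ≤ E → Nat.card P = p →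
  ∀ (R : Subgroup G), R ≤ E ⊓ Subgroup.centralizer (P : Set G) → (Nat.card R).Prime →
    Cfsg.sigmaCore M ⊓ Subgroup.centralizer (P : Set G) ≤ Cfsg.sigmaCore M ⊓ Subgroup.centralizer (R : Set G)

/-- B-G 13.7: a nonregular subgroup Y of order q in tau1(M) of a complement E acts fixed-point-freely
on every elementary abelian subgroup A of order p ^ 2 of E, p in tau2(M). -/
def F1 (G : Type u) [Group G] [Finite G] : Prop :=
  ∀ (M : Subgroup G), IsCoatom M → ∀ (E : Subgroup G), Cfsg.IsComplIn E (Cfsg.sigmaCore M) M →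
  ∀ (q : ℕ), q ∈ Cfsg.tau1 M → ∀ (Y : Subgroup G), Y ≤ E → Nat.card Y = q →
    Cfsg.sigmaCore M ⊓ Subgroup.centralizer (Y : Set G) ≠ ⊥ →
  ∀ (p : ℕ), p ∈ Cfsg.tau2 M → ∀ (A : Subgroup G), A ≤ E → Cfsg.IsElementaryAbelian p A → Nat.card A = p ^ 2 →
    A ⊓ Subgroup.centralizer (Y : Set G) = ⊥

/-- B-G 13.11/13.13: if a subgroup R of prime order r in tau3(M) of a complement E centralizes a
non-identity element of M_sigma, then every non-identity element of E has the same centralizer in
M_sigma (namely C_{M_sigma}(E)), and every subgroup of prime order of E is normal in E. -/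
def F2 (G : Type u) [Group G] [Finite G] : Prop :=
  ∀ (M : Subgroup G), IsCoatom M → ∀ (E : Subgroup G), Cfsg.IsComplIn E (Cfsg.sigmaCore M) M →
  ∀ (r : ℕ), r ∈ Cfsg.tau3 M → ∀ (R : Subgroup G), R ≤ E → Nat.card R = r →
    Cfsg.sigmaCore M ⊓ Subgroup.centralizer (R : Set G) ≠ ⊥ →
    (∀ x ∈ E, x ≠ 1 → Cfsg.sigmaCore M ⊓ Subgroup.centralizer ({x} : Set G) =
        Cfsg.sigmaCore M ⊓ Subgroup.centralizer (E : Set G)) ∧
    (∀ X : Subgroup G, X ≤ E → (Nat.card X).Prime → E ≤ Subgroup.normalizer (X : Set G))

end Cfsg.Agent.Lib.Helper23_BG13Hyp
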