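import Cfsg.Agent.Lib.Helper34_BG16a
import Cfsg.Agent.Lib.Helper52_FrobFormula

/-!
# A Hall `κ(M)`-subgroup has prime order when `M` is not of type `P₁` (helper34)

`card_prime_of_frobenius` : a Frobenius group `U K` (kernel `U`, complement `K`) acting coprimely on a
solvable group `H`, `K` acting in a prime manner on `H` (`C_H(k) = C_H(K)` for `k ∈ K#`) and `U` not
centralizing `H`: then `|K|` is prime.  (From the fixed point formula `Helper52_FrobFormula`.)

`card_kappaHall_prime` : `M` maximal, `K ≠ 1` a Hall `κ(M)`-subgroup (NOT assumed cyclic), some prime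
divisor of `|M|` outside `σ(M) ∪ κ(M)`: then `|K|` is prime.  From the frozen S1350 (part 1) and S1430
as hypotheses.
-/

set_option autoImplicit false
set_option linter.unusedSectionVars false

namespace Cfsg.Agent.Lib.Helper34_BG16b

open Subgroup Cfsg Cfsg.Agent.Lib.Helper24_CoprimeHall Cfsg.Agent.Lib.Helper24_CoprimeAction
  Cfsg.Agent.Lib.Helper34_BG16a

variable {G : Type*} [Group G]

theorem mem_centralizer_sup_iff {A B : Subgroup G} {x : G} :
    x ∈ centralizer ((A ⊔ B : Subgroup G) : Set G) ↔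
      x ∈ centralizer (A : Set G) ∧ x ∈ centralizer (B : Set G) := by
  rw [Subgroup.sup_eq_closure, Subgroup.centralizer_closure]
  simp only [Subgroup.mem_centralizer_iff, Set.mem_union, SetLike.mem_coe]
  constructor
  · intro h
    exact ⟨fun y hy => h y (Or.inl hy), fun y hy => h y (Or.inr hy)⟩
  · rintro ⟨h1, h2⟩ y (hy | hy)
    · exact h1 y hy
    · exact h2 y hy

variable [Finite G]

/-- a Frobenius group `U K` acting coprimely on a solvable group `H` with `K` acting in a prime manner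
and `U` acting nontrivially: `|K|` is prime -/
theorem card_prime_of_frobenius {U K H : Subgroup G} (hK1 : K ≠ ⊥)
    (hKU : K ≤ normalizer (U : Set G))
    (hfpf : ∀ k ∈ K, k ≠ 1 → U ⊓ centralizer ({k} : Set G) = ⊥)
    (hHn : U ⊔ K ≤ normalizer (H : Set G)) (hsolv : Group.IsSolvable ↥H)
    (hcop : (Nat.card ↥(U ⊔ K)).Coprime (Nat.card H))
    (hprime : ∀ k ∈ K, k ≠ 1 → H ⊓ centralizer ({k} : Set G) = H ⊓ centralizer (K : Set G))
    (hnc : ¬ H ≤ centralizer (U : Set G)) : (Nat.card K).Prime := by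
  -- the data for a subgroup `E ≤ K`
  have hUn : ∀ E : Subgroup G, E ≤ K → ∀ e ∈ E, ∀ u ∈ U, e * u * e⁻¹ ∈ U := by
    intro E hE e he u hu
    exact (Subgroup.mem_normalizer_iff.mp (hKU (hE he)) u).mp hu
  have hfp : ∀ E : Subgroup G, E ≤ K → ∀ e ∈ E, e ≠ 1 → ∀ u ∈ U, e * u = u * e → u = 1 := by
    intro E hE e he he1 u hu hc
    have : u ∈ U ⊓ centralizer ({e} : Set G) :=
      ⟨hu, Subgroup.mem_centralizer_singleton_iff.mpr hc.symm⟩
    rw [hfpf e (hE he) he1] at this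
    exact Subgroup.mem_bot.mp this
  have hEn : ∀ E : Subgroup G, E ≤ K → U ⊔ E ≤ normalizer (H : Set G) := fun E hE =>
    (sup_le_sup_left hE U).trans hHn
  have hEc : ∀ E : Subgroup G, E ≤ K → (Nat.card ↥(U ⊔ E)).Coprime (Nat.card H) := fun E hE =>
    Nat.Coprime.coprime_dvd_left (Subgroup.card_dvd_of_le (sup_le_sup_left hE U)) hcop
  have hform : ∀ E : Subgroup G, E ≤ K → E ≠ ⊥ →
      Nat.card ↥(H ⊓ centralizer ((U ⊔ E : Subgroup G) : Set G)) ^ Nat.card E * Nat.card H =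
        Nat.card ↥(H ⊓ centralizer (E : Set G)) ^ Nat.card E *
          Nat.card ↥(H ⊓ centralizer (U : Set G)) := fun E hE hE1 =>
    Cfsg.Agent.Lib.Helper52_FrobFormula.frobenius_formula U E H hE1 (hUn E hE) (hfp E hE)
      (hEn E hE) hsolv (hEc E hE)
  -- prime action for subgroups
  have hCE : ∀ E : Subgroup G, E ≤ K → E ≠ ⊥ →
      H ⊓ centralizer (E : Set G) = H ⊓ centralizer (K : Set G) := by
    intro E hE hE1
    apply le_antisymm
    · obtain ⟨e, he, he1⟩ := (Subgroup.ne_bot_iff_exists_ne_one.mp hE1 : ∃ a : E, a ≠ 1) |> fun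
        ⟨a, h⟩ => (⟨(a : G), a.2, fun h' => h (Subtype.ext h')⟩ : ∃ e : G, e ∈ E ∧ e ≠ 1)
      rw [← hprime e (hE he) he1]
      refine inf_le_inf_left H ?_
      exact Subgroup.centralizer_le (Set.singleton_subset_iff.mpr he)
    · exact inf_le_inf_left H (Subgroup.centralizer_le hE)
  have hDE : ∀ E : Subgroup G, E ≤ K → E ≠ ⊥ →
      H ⊓ centralizer ((U ⊔ E : Subgroup G) : Set G) =
        H ⊓ centralizer ((U ⊔ K : Subgroup G) : Set G) := by
    intro E hE hE1
    ext x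
    simp only [Subgroup.mem_inf, mem_centralizer_sup_iff]
    have h1 : x ∈ H ⊓ centralizer (E : Set G) ↔ x ∈ H ⊓ centralizer (K : Set G) := by
      rw [hCE E hE hE1]
    simp only [Subgroup.mem_inf] at h1
    constructor
    · rintro ⟨hx, hxU, hxE⟩
      exact ⟨hx, hxU, (h1.mp ⟨hx, hxE⟩).2⟩
    · rintro ⟨hx, hxU, hxK⟩
      exact ⟨hx, hxU, (h1.mpr ⟨hx, hxK⟩).2⟩
  -- a subgroup of prime order
  have hcard : Nat.card K ≠ 1 := fun h1 => hK1 (Subgroup.card_eq_one.mp h1)
  obtain ⟨q, hq, hqd⟩ := Nat.exists_prime_and_dvd hcard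
  have : Fact q.Prime := ⟨hq⟩
  obtain ⟨k, hk⟩ := exists_prime_orderOf_dvd_card' q hqd
  have hEK : zpowers (k : G) ≤ K := by
    rw [Subgroup.zpowers_le]; exact k.2
  have hEcard : Nat.card (zpowers (k : G)) = q := by
    rw [Nat.card_zpowers, Subgroup.orderOf_coe, hk]
  have hE1 : zpowers (k : G) ≠ ⊥ := by
    intro h0
    rw [h0, Subgroup.card_bot] at hEcard
    exact hq.one_lt.ne' hEcard.symm
  have hK := hform K le_rfl hK1
  have hEf := hform _ hEK hE1
  rw [hDE _ hEK hE1, hCE _ hEK hE1, hEcard] at hEf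
  have hdc : Nat.card ↥(H ⊓ centralizer ((U ⊔ K : Subgroup G) : Set G)) ≤
      Nat.card ↥(H ⊓ centralizer (K : Set G)) := by
    apply Subgroup.card_le_of_le
    refine inf_le_inf_left H (Subgroup.centralizer_le ?_)
    exact (le_sup_right : K ≤ U ⊔ K)
  have hu5 : Nat.card H = Nat.card ↥(H ⊓ centralizer (U : Set G)) →
      H ⊓ centralizer (U : Set G) = H := fun h4 =>
    Subgroup.eq_of_le_of_card_ge inf_le_left (by rw [h4])
  -- numbers
  obtain ⟨d, hd⟩ : ∃ d, d = Nat.card ↥(H ⊓ centralizer ((U ⊔ K : Subgroup G) : Set G)) := ⟨_, rfl⟩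
  obtain ⟨c, hc⟩ : ∃ c, c = Nat.card ↥(H ⊓ centralizer (K : Set G)) := ⟨_, rfl⟩
  obtain ⟨h, hh⟩ : ∃ h, h = Nat.card H := ⟨_, rfl⟩
  obtain ⟨u, hu⟩ : ∃ u, u = Nat.card ↥(H ⊓ centralizer (U : Set G)) := ⟨_, rfl⟩
  obtain ⟨a, ha⟩ : ∃ a, a = Nat.card K := ⟨_, rfl⟩
  rw [← hd, ← hc, ← hh, ← hu, ← ha] at hK
  rw [← hd, ← hc, ← hh, ← hu] at hEf
  rw [← hd, ← hc] at hdc
  rw [← hh, ← hu] at hu5
  rw [← ha] at hqd ⊢
  have hdpos : 0 < d := by rw [hd]; exact Nat.card_pos
  have hcpos : 0 < c := by rw [hc]; exact Nat.card_pos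
  have hhpos : 0 < h := by rw [hh]; exact Nat.card_pos
  have hupos : 0 < u := by rw [hu]; exact Nat.card_pos
  have hapos : 0 < a := by rw [ha]; exact Nat.card_pos
  -- `q = |K|`
  by_contra hnp
  have hqK : q ≤ a := Nat.le_of_dvd hapos hqd
  have hlt : q < a := by
    rcases Nat.lt_or_ge q a with h1 | h1
    · exact h1
    · exact absurd (le_antisymm h1 hqK ▸ hq) hnp
  have h1 : d ^ a * c ^ q = c ^ a * d ^ q := by
    have e1 : d ^ a * h * (c ^ q * u) = c ^ a * u * (d ^ q * h) := by rw [hK, hEf]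
    have e2 : (d ^ a * c ^ q) * (h * u) = (c ^ a * d ^ q) * (h * u) := by
      calc (d ^ a * c ^ q) * (h * u) = d ^ a * h * (c ^ q * u) := by ring
        _ = c ^ a * u * (d ^ q * h) := e1
        _ = (c ^ a * d ^ q) * (h * u) := by ring
    exact Nat.eq_of_mul_eq_mul_right (Nat.mul_pos hhpos hupos) e2
  have h2 : d ^ (a - q) = c ^ (a - q) := by
    have e3 : a = (a - q) + q := by omega
    have e4 : d ^ (a - q) * (d ^ q * c ^ q) = c ^ (a - q) * (d ^ q * c ^ q) := by
      calc d ^ (a - q) * (d ^ q * c ^ q) = d ^ ((a - q) + q) * c ^ q := by rw [pow_add]; ring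
        _ = d ^ a * c ^ q := by rw [← e3]
        _ = c ^ a * d ^ q := h1
        _ = c ^ ((a - q) + q) * d ^ q := by rw [← e3]
        _ = c ^ (a - q) * (d ^ q * c ^ q) := by rw [pow_add]; ring
    exact Nat.eq_of_mul_eq_mul_right (Nat.mul_pos (Nat.pow_pos hdpos) (Nat.pow_pos hcpos)) e4
  have h3 : d = c := Nat.pow_left_injective (n := a - q) (by omega) h2
  have h4 : h = u := by
    rw [h3] at hK
    exact Nat.eq_of_mul_eq_mul_left (Nat.pow_pos hcpos) hK
  apply hnc
  rw [← hu5 h4]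
  exact inf_le_right


/-- `Ω₁` (for the prime `t`) of an abelian subgroup -/
def omg (t : ℕ) (U : Subgroup G) (hU : IsMulCommutative ↥U) : Subgroup G where
  carrier := {a | a ∈ U ∧ a ^ t = 1}
  one_mem' := ⟨one_mem _, one_pow _⟩
  mul_mem' := by
    rintro a b ⟨ha, ha'⟩ ⟨hb, hb'⟩
    refine ⟨mul_mem ha hb, ?_⟩
    have hc : Commute a b := by
      have := hU.is_comm.comm (⟨a, ha⟩ : ↥U) ⟨b, hb⟩
      exact congrArg Subtype.val this
    rw [hc.mul_pow, ha', hb', one_mul]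
  inv_mem' := by
    rintro a ⟨ha, ha'⟩
    exact ⟨inv_mem ha, by rw [inv_pow, ha', inv_one]⟩

omit [Finite G] in
theorem mem_omg {t : ℕ} {U : Subgroup G} {hU : IsMulCommutative ↥U} {a : G} :
    a ∈ omg t U hU ↔ a ∈ U ∧ a ^ t = 1 := Iff.rfl

theorem mem_normalizer_of_forall_conj_mem {T : Subgroup G} {n : G}
    (h : ∀ a ∈ T, n * a * n⁻¹ ∈ T) : n ∈ normalizer (T : Set G) := by
  rw [Subgroup.mem_normalizer_iff_map_conj_eq]
  refine Subgroup.eq_of_le_of_card_ge ?_ ?_
  · rintro _ ⟨a, ha, rfl⟩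
    exact h a ha
  · rw [Subgroup.card_map_of_injective (MulAut.conj n).injective]

/-- if the abelian Hall subgroup `U` (for primes outside `σ(M)`) is normal in `M` then it is trivial -/
theorem eq_bot_of_normal_abelian_hall (hG : IsMinSimpleOddOrder G) {M U : Subgroup G}
    (hM : IsCoatom M) {π : Set ℕ} (hU : PiHall π U M) (hπ : ∀ p ∈ π, p ∉ sigma M)
    (hUab : IsMulCommutative ↥U) (hMU : M ≤ normalizer (U : Set G)) : U = ⊥ := by
  by_contra hU1
  have hcard : Nat.card U ≠ 1 := fun h => hU1 (Subgroup.card_eq_one.mp h)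
  obtain ⟨t, ht, htU⟩ := Nat.exists_prime_and_dvd hcard
  have : Fact t.Prime := ⟨ht⟩
  have htπ : t ∈ π := hU.2.1 t ht htU
  have htM : t ∣ Nat.card M := htU.trans (Subgroup.card_dvd_of_le hU.1)
  -- `T = Ω₁(O_t(U))`
  set T := omg t U hUab with hT
  have hTU : T ≤ U := fun a ha => ha.1
  have hT1 : T ≠ ⊥ := by
    obtain ⟨x, hx⟩ := exists_prime_orderOf_dvd_card' t htU
    intro h0
    have hxT : (x : G) ∈ T := by
      refine ⟨x.2, ?_⟩
      have h1 : x ^ t = 1 := by rw [← hx]; exact pow_orderOf_eq_one x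
      have := congrArg (fun z : U => (z : G)) h1
      simpa using this
    rw [h0, Subgroup.mem_bot] at hxT
    have hx1 : x = 1 := Subtype.ext hxT
    rw [hx1, orderOf_one] at hx
    exact ht.one_lt.ne hx
  have hTp : IsPGroup t T := by
    intro g
    refine ⟨1, ?_⟩
    apply Subtype.ext
    have := g.2.2
    simpa using this
  have hconj : ∀ n : G, (∀ a ∈ U, n * a * n⁻¹ ∈ U) → ∀ a ∈ T, n * a * n⁻¹ ∈ T := by
    intro n hn a ha
    refine ⟨hn a ha.1, ?_⟩
    rw [conj_pow, ha.2]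
    group
  have hMT : M ≤ normalizer (T : Set G) := by
    intro m hm
    apply mem_normalizer_of_forall_conj_mem
    apply hconj
    intro a ha
    exact (Subgroup.mem_normalizer_iff.mp (hMU hm) a).mp ha
  have hNT : normalizer (T : Set G) ≤ M := by
    rcases eq_or_lt_of_le hMT with h | h
    · rw [← h]
    · exact absurd (hM.2 _ h)
        (Cfsg.Agent.Lib.Helper31_ThreeStepMain.normalizer_ne_top hG hTp hT1)
  -- a Sylow subgroup containing `T`
  have hTM : T ≤ M := hTU.trans hU.1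
  have hTp' : IsPGroup t (T.subgroupOf M) := by
    intro g
    obtain ⟨k, hk⟩ := hTp ⟨(g : M), g.2⟩
    refine ⟨k, ?_⟩
    apply Subtype.ext
    apply Subtype.ext
    have := congrArg (fun z : T => (z : G)) hk
    simpa using this
  obtain ⟨Q, hQ⟩ := hTp'.exists_le_sylow
  set PG : Subgroup G := (Q : Subgroup M).map M.subtype with hPG
  have hPGM : PG ≤ M := Subgroup.map_subtype_le _
  have hTPG : T ≤ PG := by
    intro a ha
    exact ⟨⟨a, hTM ha⟩, hQ (Subgroup.mem_subgroupOf.mpr ha), rfl⟩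
  have hPGp : IsPGroup t PG := Q.isPGroup'.map M.subtype
  have hPGU : PG ≤ U := by
    refine le_of_coprime_relIndex hPGM hU.1 hMU ?_
    obtain ⟨k, hk⟩ := IsPGroup.iff_card.mp hPGp
    rw [hk]
    apply Nat.Coprime.pow_left
    rw [Nat.Prime.coprime_iff_not_dvd ht]
    exact hU.2.2 t ht htπ
  have hNP : normalizer (PG : Set G) ≤ M := by
    intro n hn
    apply hNT
    apply mem_normalizer_of_forall_conj_mem
    intro a ha
    have h1 : n * a * n⁻¹ ∈ PG := (Subgroup.mem_normalizer_iff.mp hn a).mp (hTPG ha)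
    refine ⟨hPGU h1, ?_⟩
    rw [conj_pow, ha.2]
    group
  exact hπ t htπ ⟨ht, htM, Q, hNP⟩

/-- `M` not of type `P₁`: a nontrivial Hall `κ(M)`-subgroup has prime order -/
theorem card_kappaHall_prime (hG : IsMinSimpleOddOrder G) (hσ : HσHall G) (h30 : H1430 G)
    {M K : Subgroup G} (hM : IsCoatom M) (hK : IsPiHallOf (kappa M) K M) (hK1 : K ≠ ⊥)
    (hP2 : ∃ p : ℕ, p.Prime ∧ p ∣ Nat.card M ∧ p ∉ sigma M ∧ p ∉ kappa M) :
    (Nat.card K).Prime := by
  obtain ⟨hprime, ⟨U, hUab, hU', hKU, hfree⟩, -⟩ := h30 M hM K hK hK1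
  have hU : PiHall (rest M) U M := (isPiHallOf_iff _ _ _).mp hU'
  have hks := ks_of hσ hM hK
  by_contra hnp
  have hHn : U ⊔ K ≤ normalizer ((sigmaCore M : Subgroup G) : Set G) :=
    _root_.sup_le (hU.1.trans (sC_normal M)) (hK.1.trans (sC_normal M))
  have hsolv : Group.IsSolvable ↥(sigmaCore M) :=
    Cfsg.Agent.Lib.Helper24_CoprimeAction.isSolvable_of_le (sC_le M) (solv hG hM)
  have hUK : U ⊓ K = ⊥ := by
    refine (Subgroup.disjoint_of_coprime_natCard ?_).eq_bot
    exact Nat.coprime_of_dvd fun p hp hpU hpK => (hU.2.1 p hp hpU).2.1 (hks.hK.2.1 p hp hpK)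
  have hcop : (Nat.card ↥(U ⊔ K)).Coprime (Nat.card (sigmaCore M)) := by
    rw [card_sup_of_disjoint' K U hKU hUK]
    refine Nat.coprime_of_dvd fun p hp hpd hpS => ?_
    have hpσ := sC_primes M p hp hpS
    rcases (Nat.Prime.dvd_mul hp).mp hpd with h1 | h1
    · exact (hU.2.1 p hp h1).2.2 hpσ
    · exact not_sigma_of_kappa (hks.hK.2.1 p hp h1) hpσ
  have hcent : sigmaCore M ≤ centralizer (U : Set G) := by
    by_contra hnc
    exact hnp (card_prime_of_frobenius hK1 hKU hfree hHn hsolv hcop hprime hnc)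
  -- then `U` is normal in `M`
  have hMU : M ≤ normalizer (U : Set G) := by
    intro m hm
    obtain ⟨a, ha, b, hb, rfl⟩ := (hks.isComplIn_rest hU).2.2.2 m hm
    have h2 : K ⊔ sigmaCore M ≤ normalizer (U : Set G) :=
      _root_.sup_le hKU (hcent.trans (Subgroup.centralizer_le_normalizer _))
    exact mul_mem (Subgroup.le_normalizer ha) (h2 hb)
  have hUbot : U = ⊥ :=
    eq_bot_of_normal_abelian_hall hG hM hU (fun p hp => hp.2.2) hUab hMU
  obtain ⟨p, hp, hpM, hpσ, hpκ⟩ := hP2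
  have h1 := hU.card_mul
  rw [hUbot, Subgroup.card_bot, one_mul] at h1
  have h2 := hU.2.2 p hp ⟨hp, hpκ, hpσ⟩
  rw [hUbot, Subgroup.card_bot] at h2
  rw [Nat.div_one] at h2
  exact h2 hpM

end Cfsg.Agent.Lib.Helper34_BG16b
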