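import Mathlib
import Cfsg.Agent.Lib.Helper70_BG1012
import Cfsg.Agent.Lib.Helper73_BG12
import Cfsg.Agent.Lib.Helper24_CoprimeHall
import Cfsg.Agent.Lib.Helper24_CoprimeAction

/-!
# Bender–Glauberman, Corollary 12.14 (d), (e) and Lemma 12.15: general lemmas (helper47)

Relative Frattini argument, Hall-subgroup transport, and the first case (`q ∈ σ(M*)`).
-/

set_option autoImplicit false

namespace Cfsg.Agent.Lib.Helper47_BG1214a

open Subgroup Cfsg Cfsg.Agent.Lib.Helper22_BGTrans Cfsg.Agent.Lib.Helper22_Radical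
  Cfsg.Agent.Lib.Helper84_RelSylow Cfsg.Agent.Lib.Helper49_Sigma Cfsg.Agent.Lib.Helper24_CoprimeHall
  Cfsg.Agent.Lib.Helper49_Alpha Cfsg.Agent.Lib.Helper70_BG106 Cfsg.Agent.Lib.Helper70_BG1212
  Cfsg.Agent.Lib.Helper70_BG108 Cfsg.Agent.Lib.Helper70_BG1012

universe u

variable {G : Type u} [Group G]

/-- relative Frattini argument: if `t` normalizes `K` and `T` is a Sylow `p`-subgroup of `K`, then
`k * t` normalizes `T` for some `k ∈ K` -/
theorem frattini_isSylowIn [Finite G] {p : ℕ} [Fact p.Prime] {T K : Subgroup G}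
    (hT : IsSylowIn p T K) {t : G} (ht : t ∈ normalizer (K : Set G)) :
    ∃ k ∈ K, k * t ∈ normalizer (T : Set G) := by
  have h1 : IsSylowIn p (cj t T) K := by
    have h := hT.conj t
    have e : K.map (MulAut.conj t).toMonoidHom = K := cj_eq_of_mem_normalizer ht
    rwa [e] at h
  obtain ⟨k, hk, hkT⟩ := hT.exists_conj_le h1.le h1.isPGroup
  refine ⟨k, hk, ?_⟩
  apply Cfsg.Agent.Lib.Helper22_BGTransUp.mem_normalizer_of_cj_eq
  rw [cj_mul]
  apply Subgroup.eq_of_le_of_card_ge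
  · rintro _ ⟨x, hx, rfl⟩
    exact hkT x hx
  · rw [card_cj, card_cj]

/-- Hall's theorem: a `π`-subgroup of a solvable subgroup `M` is conjugate under `M` into a given
Hall `π`-subgroup of `M` -/
theorem exists_cj_le_of_piHall [Finite G] {π : Set ℕ} {M D Y : Subgroup G}
    (hsolv : Group.IsSolvable M) (hD : PiHall π D M) (hYM : Y ≤ M)
    (hY : ∀ p : ℕ, p.Prime → p ∣ Nat.card Y → p ∈ π) : ∃ m ∈ M, cj m Y ≤ D := by
  obtain ⟨H, hH, hYH⟩ := exists_piHall_ge hsolv hYM hY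
  obtain ⟨g, hg, hgH⟩ := piHall_conj hsolv hH hD
  exact ⟨g, hg, by rw [← hgH]; exact cj_mono hYH⟩

/-- a `σ(M)`-subgroup of `M` lies in `M_σ` -/
theorem le_sigmaCore_of_le [Finite G] (hG : IsMinSimpleOddOrder G) (hU : UniqHyp G) (h44 : H1444.{u})
    {M : Subgroup G} (hM : IsCoatom M) {Y : Subgroup G} (hYM : Y ≤ M)
    (hY : ∀ p : ℕ, p.Prime → p ∣ Nat.card Y → p ∈ sigma M) : Y ≤ sigmaCore M := by
  have h1 : Y.subgroupOf M ≤ piCore (sigma M) ↥M := by
    apply le_of_coprime_index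
    rw [Cfsg.Agent.Lib.Helper1_Transport.card_subgroupOf hYM]
    apply Nat.coprime_of_dvd
    intro q hq hd hd'
    exact not_dvd_index_piCore_sigma hG hU h44 M hM (hY q hq hd) hd'
  rw [← Subgroup.map_subgroupOf_eq_of_le hYM]
  exact Subgroup.map_mono h1

/-- nilpotency is invariant under conjugation -/
theorem isNilpotent_cj {H : Subgroup G} (h : Group.IsNilpotent H) (g : G) :
    Group.IsNilpotent ↥(cj g H) :=
  Group.nilpotent_of_mulEquiv (H.equivMapOfInjective (MulAut.conj g).toMonoidHom (MulAut.conj g).injective)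

/-- a Sylow subgroup of a nilpotent subgroup is normal in it -/
theorem le_normalizer_of_isSylowIn_of_isNilpotent [Finite G] {p : ℕ} [Fact p.Prime] {S H : Subgroup G}
    (hS : IsSylowIn p S H) (hnil : Group.IsNilpotent H) : H ≤ normalizer (S : Set G) := by
  intro m hm
  have hS' : IsSylowIn p (cj m S) H := by
    have h1 := hS.conj m
    have h2 : cj m H = H := cj_eq_of_mem_normalizer (le_normalizer hm)
    change IsSylowIn p (cj m S) (cj m H) at h1
    rwa [h2] at h1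
  have hn : ((hS.toSylow : Sylow p ↥H) : Subgroup ↥H).Normal := inferInstance
  have hU' := Sylow.unique_of_normal hS.toSylow hn
  have heq : hS'.toSylow = hS.toSylow := Subsingleton.elim _ _
  have heq' : (cj m S).subgroupOf H = S.subgroupOf H := by
    rw [← hS'.coe_toSylow, ← hS.coe_toSylow, heq]
  have heq'' : cj m S = S := by
    have e1 := Subgroup.map_subgroupOf_eq_of_le hS'.1
    have e2 := Subgroup.map_subgroupOf_eq_of_le hS.1
    rw [← e1, heq', e2]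
  exact Cfsg.Agent.Lib.Helper22_BGTransUp.mem_normalizer_of_cj_eq heq''

theorem le_normalizer_sigmaCore (M : Subgroup G) : M ≤ normalizer ((sigmaCore M : Subgroup G) : Set G) :=
  le_normalizer_piCoreOf (sigma M) M

theorem sigmaCore_le (M : Subgroup G) : sigmaCore M ≤ M := Subgroup.map_subtype_le _

theorem beta_subset_sigma [Finite G] (hG : IsMinSimpleOddOrder G) (hU : UniqHyp G) {M : Subgroup G}
    (hM : IsCoatom M) {q : ℕ} (hq : q ∈ beta M) : q ∈ sigma M :=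
  mem_sigma_of_mem_alpha hG hU hM hq.1

theorem betaCore_le_sigmaCore [Finite G] (hG : IsMinSimpleOddOrder G) (hU : UniqHyp G) {M : Subgroup G}
    (hM : IsCoatom M) : piCoreOf (beta M) M ≤ sigmaCore M := by
  apply Subgroup.map_mono
  apply Cfsg.Agent.Lib.Helper32_Cores.le_piCore inferInstance
  intro q hq hd
  exact beta_subset_sigma hG hU hM (Cfsg.Agent.Lib.Helper32_Cores.card_piCore (beta M) q hq hd)

theorem nonconj_symm {M Ms : Subgroup G} (hnc : ∀ g : G, Ms ≠ cj g M) : ∀ g : G, M ≠ cj g Ms := by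
  intro g h
  apply hnc g⁻¹
  rw [h, cj_inv_cj]

theorem prime_eq_of_dvd_card_pgroup [Finite G] {p q : ℕ} [hp : Fact p.Prime] {S : Subgroup G}
    (hS : IsPGroup p S) (hq : q.Prime) (hd : q ∣ Nat.card S) : q = p := by
  obtain ⟨k, hk⟩ := IsPGroup.iff_card.mp hS
  rw [hk] at hd
  exact (Nat.prime_dvd_prime_iff_eq hq hp.out).mp (hq.dvd_of_dvd_pow hd)

section CaseSigma

variable [Finite G]

/-- **Bender–Glauberman, Corollary 12.14(d1)**: `M* = M*_β (M ∩ M*)` when a Sylow `p`-subgroup `S` of `M*`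
has `N_G(S) ≤ M` and `p ∈ σ(M) ∩ σ(M*)` -/
theorem case_sigma (hG : IsMinSimpleOddOrder G) (hU : UniqHyp G) (h44 : H1444.{u})
    {M Ms : Subgroup G} (hM : IsCoatom M) (hMs : IsCoatom Ms) (hnc : ∀ g : G, Ms ≠ cj g M)
    {p : ℕ} [Fact p.Prime] (hpM : p ∈ sigma M) (hpMs : p ∈ sigma Ms) {S : Subgroup G}
    (hS : IsSylowIn p S Ms) (hNS : normalizer (S : Set G) ≤ M) :
    Ms ≤ piCoreOf (beta Ms) Ms ⊔ (M ⊓ Ms) := by
  have hpp : p.Prime := Fact.out
  obtain ⟨hB, -, -, ⟨H, hH, hHnil⟩, -⟩ := beta_statement hG hU h44 Ms hMs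
  have hnc' := nonconj_symm hnc
  have hpβ : p ∉ beta Ms := fun h => (sigma_disjoint_alpha hG hU hMs hM hnc').1 p h.1 hpM
  have hSsg : S ≤ sigmaCore Ms := le_sigmaCore_of_le hG hU h44 hMs hS.le (by
    intro q hq hd
    rw [prime_eq_of_dvd_card_pgroup hS.isPGroup hq hd]
    exact hpMs)
  have hsgMs : sigmaCore Ms ≤ Ms := sigmaCore_le Ms
  have hMssg := le_normalizer_sigmaCore Ms
  have hsolvsg : Group.IsSolvable ↥(sigmaCore Ms) := hG.2.2.2 _ (ne_top_of_le_ne_top hMs.1 hsgMs)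
  have hH' := (isPiHallOf_iff _ H (sigmaCore Ms)).mp hH
  obtain ⟨H₁, hH₁, hSH₁⟩ := exists_piHall_ge hsolvsg hSsg (π := {q | q.Prime ∧ q ∉ beta Ms}) (by
    intro q hq hd
    rw [prime_eq_of_dvd_card_pgroup hS.isPGroup hq hd]
    exact ⟨hpp, hpβ⟩)
  obtain ⟨g, -, hgH⟩ := piHall_conj hsolvsg hH' hH₁
  have hH₁nil : Group.IsNilpotent ↥H₁ := by
    rw [← hgH]
    exact isNilpotent_cj hHnil g
  have hSH : IsSylowIn p S H₁ := hS.mono hSH₁ (hH₁.1.trans hsgMs)
  have hH₁N : H₁ ≤ normalizer (S : Set G) := le_normalizer_of_isSylowIn_of_isNilpotent hSH hH₁nil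
  have hBsg : piCoreOf (beta Ms) Ms ≤ sigmaCore Ms := betaCore_le_sigmaCore hG hU hMs
  have hBMs : piCoreOf (beta Ms) Ms ≤ Ms := piCoreOf_le _ _
  have hH₁' := (isPiHallOf_iff _ H₁ (sigmaCore Ms)).mpr hH₁
  have hsgle : sigmaCore Ms ≤ piCoreOf (beta Ms) Ms ⊔ H₁ := by
    rw [← relIndex_eq_one]
    by_contra hne
    obtain ⟨r, hr, hrd⟩ := Nat.exists_prime_and_dvd hne
    by_cases hrβ : r ∈ beta Ms
    · apply hB.2.2 r hr hrβ
      have h1 : (piCoreOf (beta Ms) Ms ⊔ H₁).relIndex (sigmaCore Ms) ∣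
          (piCoreOf (beta Ms) Ms).relIndex (sigmaCore Ms) := relIndex_dvd_of_le_left _ le_sup_left
      have h2 : (piCoreOf (beta Ms) Ms).relIndex (sigmaCore Ms) ∣ (piCoreOf (beta Ms) Ms).relIndex Ms :=
        Dvd.intro _ (relIndex_mul_relIndex _ _ _ hBsg hsgMs)
      exact hrd.trans (h1.trans h2)
    · apply hH₁'.2.2 r hr ⟨hr, hrβ⟩
      have h1 : (piCoreOf (beta Ms) Ms ⊔ H₁).relIndex (sigmaCore Ms) ∣ H₁.relIndex (sigmaCore Ms) :=
        relIndex_dvd_of_le_left _ le_sup_right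
      exact hrd.trans h1
  intro m hm
  have hSsg' : IsSylowIn p S (sigmaCore Ms) := hS.mono hSsg hsgMs
  obtain ⟨k, hk, hkm⟩ := frattini_isSylowIn hSsg' (hMssg hm)
  have hH₁B : H₁ ≤ normalizer ((piCoreOf (beta Ms) Ms : Subgroup G) : Set G) :=
    (hH₁.1.trans hsgMs).trans (le_normalizer_piCoreOf _ _)
  obtain ⟨b, hb, h, hh, e⟩ := Cfsg.Agent.Lib.Helper24_CoprimeAction.exists_mul_of_mem_sup H₁
    (piCoreOf (beta Ms) Ms) hH₁B (hsgle (inv_mem hk))
  have hbm : b⁻¹ * m ∈ normalizer (S : Set G) := by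
    have e2 : b⁻¹ * m = h * (k * m) := by
      have e3 : k = h⁻¹ * b⁻¹ := by
        rw [← inv_inv k, e]
        group
      rw [e3]
      group
    rw [e2]
    exact mul_mem (hH₁N hh) hkm
  have e4 : m = b * (b⁻¹ * m) := by group
  rw [e4]
  exact mul_mem (mem_sup_left hb)
    (mem_sup_right (Subgroup.mem_inf.mpr ⟨hNS hbm, mul_mem (inv_mem (hBMs hb)) hm⟩))

/-- if `M* = B (M ∩ M*)` with `B` a normal `π`-subgroup of `M*`, then `M ∩ M*` contains a Hall
`π'`-subgroup of `M*` -/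
theorem exists_piHall_le_of_le_sup (hG : IsMinSimpleOddOrder G) {M Ms : Subgroup G} (hM : IsCoatom M)
    (π : Set ℕ) (h : Ms ≤ piCoreOf π Ms ⊔ (M ⊓ Ms)) :
    ∃ D, D ≤ M ⊓ Ms ∧ PiHall {q | q.Prime ∧ q ∉ π} D Ms := by
  have hsolvN : Group.IsSolvable ↥(M ⊓ Ms) := hG.2.2.2 _ (ne_top_of_le_ne_top hM.1 inf_le_left)
  obtain ⟨D, hD⟩ := exists_piHall {q | q.Prime ∧ q ∉ π} (M ⊓ Ms) hsolvN
  refine ⟨D, hD.1, hD.1.trans inf_le_right, hD.2.1, ?_⟩
  intro r hr hrπ hrd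
  -- `|M*|` divides `|B| |M ∩ M*|`
  have hdvd : Nat.card ↥Ms ∣ Nat.card ↥(M ⊓ Ms) * Nat.card ↥(piCoreOf π Ms) := by
    have h1 := Cfsg.Agent.Lib.Helper32_Cores.card_sup_dvd ((M ⊓ Ms).subgroupOf Ms) (piCore π ↥Ms)
    have h2 : (M ⊓ Ms).subgroupOf Ms ⊔ piCore π ↥Ms = ⊤ := by
      rw [eq_top_iff]
      intro x _
      obtain ⟨b, hb, n, hn, e⟩ := Cfsg.Agent.Lib.Helper24_CoprimeAction.exists_mul_of_mem_sup (M ⊓ Ms)
        (piCoreOf π Ms) (inf_le_right.trans (le_normalizer_piCoreOf _ _)) (h x.2)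
      obtain ⟨b', hb', rfl⟩ := hb
      have e' : x = b' * ⟨n, (Subgroup.mem_inf.mp hn).2⟩ := Subtype.ext e
      rw [e']
      exact mul_mem (mem_sup_right hb') (mem_sup_left (mem_subgroupOf.mpr hn))
    rw [h2, Subgroup.card_top, Cfsg.Agent.Lib.Helper1_Transport.card_subgroupOf inf_le_right] at h1
    have h3 : Nat.card ↥(piCoreOf π Ms) = Nat.card ↥(piCore π ↥Ms) :=
      Subgroup.card_map_of_injective Ms.subtype_injective
    rw [h3]
    exact h1
  have hDc : Nat.card ↥D ∣ Nat.card ↥(M ⊓ Ms) := Subgroup.card_dvd_of_le hD.1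
  have hDMs : Nat.card ↥D ∣ Nat.card ↥Ms := Subgroup.card_dvd_of_le (hD.1.trans inf_le_right)
  obtain ⟨c, hc⟩ := hDc
  obtain ⟨n, hn⟩ := hDMs
  have hD0 : 0 < Nat.card ↥D := Nat.card_pos
  have hrn : r ∣ n := by
    rw [hn, Nat.mul_div_cancel_left _ hD0] at hrd
    exact hrd
  have hnc : n ∣ c * Nat.card ↥(piCoreOf π Ms) := by
    rw [hn, hc, mul_assoc] at hdvd
    exact Nat.dvd_of_mul_dvd_mul_left hD0 hdvd
  rcases (Nat.Prime.dvd_mul hr).mp (hrn.trans hnc) with h5 | h5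
  · apply hD.2.2 r hr hrπ
    rw [hc, Nat.mul_div_cancel_left _ hD0]
    exact h5
  · exact hrπ.2 (piCoreOf_primes π Ms r hr h5)

/-- in the situation of `case_sigma`, every `σ(M)`-subgroup of `M*` is conjugate under `M*` into `M` -/
theorem case_sigma_conj (hG : IsMinSimpleOddOrder G) (hU : UniqHyp G) (h44 : H1444.{u})
    {M Ms : Subgroup G} (hM : IsCoatom M) (hMs : IsCoatom Ms) (hnc : ∀ g : G, Ms ≠ cj g M)
    {p : ℕ} [Fact p.Prime] (hpM : p ∈ sigma M) (hpMs : p ∈ sigma Ms) {S : Subgroup G}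
    (hS : IsSylowIn p S Ms) (hNS : normalizer (S : Set G) ≤ M) {Y : Subgroup G} (hYMs : Y ≤ Ms)
    (hY : ∀ q : ℕ, q.Prime → q ∣ Nat.card Y → q ∈ sigma M) : ∃ m ∈ Ms, cj m Y ≤ M := by
  have hd1 := case_sigma hG hU h44 hM hMs hnc hpM hpMs hS hNS
  obtain ⟨D, hDle, hD⟩ := exists_piHall_le_of_le_sup hG hM (beta Ms) hd1
  have hsolv : Group.IsSolvable ↥Ms := hG.2.2.2 Ms hMs.1
  have hnc' := nonconj_symm hnc
  obtain ⟨m, hm, hmY⟩ := exists_cj_le_of_piHall hsolv hD hYMs (by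
    intro q hq hd
    exact ⟨hq, fun hβ => (sigma_disjoint_alpha hG hU hMs hM hnc').1 q hβ.1 (hY q hq hd)⟩)
  exact ⟨m, hm, hmY.trans (hDle.trans inf_le_left)⟩

end CaseSigma

end Cfsg.Agent.Lib.Helper47_BG1214a
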