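import Mathlib
import Cfsg.Agent.Lib.Helper47_BG1214a
import Cfsg.Agent.Lib.Helper29_BG12a

/-!
# Bender–Glauberman, Corollary 12.14 (e): the case `q ∉ σ(M*)` (helper47)

`M` a maximal subgroup, `p ∈ σ(M)`, `X ≠ 1` a `p`-subgroup of `M`, `M* ≠ M` maximal with `N_G(X) ≤ M*`,
`S` a Sylow `p`-subgroup of `M ∩ M*` containing `X` (so `S` is Sylow in `M*` and `N_G(S) ≤ M` by S1424).
If `p ∉ σ(M*)` then `p ∈ τ₂(M*)` and `M ∩ M*` contains a complement `E` of `M*_σ` in `M*`.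
The needed parts of S1417 (Theorem 12.5) and S1416 are explicit hypotheses.
-/

set_option autoImplicit false

namespace Cfsg.Agent.Lib.Helper47_BG1214b

open Subgroup Cfsg Cfsg.Agent.Lib.Helper22_BGTrans Cfsg.Agent.Lib.Helper22_Radical
  Cfsg.Agent.Lib.Helper84_RelSylow Cfsg.Agent.Lib.Helper49_Sigma Cfsg.Agent.Lib.Helper24_CoprimeHall
  Cfsg.Agent.Lib.Helper49_Alpha Cfsg.Agent.Lib.Helper70_BG106 Cfsg.Agent.Lib.Helper70_BG1212
  Cfsg.Agent.Lib.Helper70_BG108 Cfsg.Agent.Lib.Helper70_BG1012 Cfsg.Agent.Lib.Helper73_BG12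
  Cfsg.Agent.Lib.Helper47_BG1214a Cfsg.Agent.Lib.Helper49_Alpha2 Cfsg.Agent.Lib.Helper49_Alpha3

universe u

variable {G : Type u} [Group G]

/-- the parts of S1417 (Bender–Glauberman, Theorem 12.5) that are used, as a hypothesis -/
def Tau2Hyp (G : Type*) [Group G] : Prop :=
  ∀ (M : Subgroup G), IsCoatom M → ∀ (p : ℕ) [Fact p.Prime], p ∈ tau2 M → ∀ A : Subgroup G,
    A ≤ M → IsElementaryAbelian p A → Nat.card A = p ^ 2 →
      Group.IsNilpotent ↥(sigmaCore M) ∧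
      (∀ P : Sylow p ↥M, IsMulCommutative ↥(P : Subgroup ↥M)) ∧
      M ≤ normalizer ((sigmaCore M ⊔ A : Subgroup G) : Set G) ∧
      sigmaCore M ⊓ centralizer (A : Set G) = ⊥ ∧
      (∀ Mstar : Subgroup G, IsCoatom Mstar → Mstar ≠ M → A ≤ Mstar → sigmaCore M ⊓ Mstar = ⊥)

section Finite

variable [Finite G]

/-- **Bender–Glauberman, Lemma 12.2(a) / Corollary 12.14(e1)** -/
theorem mem_tau2 (hG : IsMinSimpleOddOrder G) (hU : UniqHyp G) {Ms : Subgroup G} (hMs : IsCoatom Ms)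
    {p : ℕ} [Fact p.Prime] (hp2 : p ≠ 2) (hpMs : p ∉ sigma Ms) {X S : Subgroup G} (hX1 : X ≠ ⊥)
    (hNX : normalizer (X : Set G) ≤ Ms) (hS : IsSylowIn p S Ms) (hXS : X ≤ S) : p ∈ tau2 Ms := by
  have hpp : p.Prime := Fact.out
  refine ⟨hpp, hpMs, ?_, ?_⟩
  · by_contra h
    exact hpMs (mem_sigma_of_mem_alpha hG hU hMs ⟨hpp, h⟩)
  · intro h1
    have hS1 : PRankLE p 1 ↥S :=
      Cfsg.Agent.Lib.Helper2_PRank.pRankLE_of_injective' p 1 (Subgroup.inclusion hS.le)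
        (Subgroup.inclusion_injective hS.le) h1
    have hcyc : IsCyclic ↥S :=
      Cfsg.Agent.Lib.Helper29_BG12a.isCyclic_of_pRankLE_one hp2 hS.isPGroup hS1
    have hN : normalizer (S : Set G) ≤ normalizer (X : Set G) :=
      normalizer_le_normalizer_of_isCyclic hcyc hXS
    have hSne : S ≠ ⊥ := fun h => hX1 (le_bot_iff.mp (h ▸ hXS))
    exact hpMs (mem_sigma_of_normalizer_le hS hSne (hN.trans hNX))

/-- **Bender–Glauberman, Corollary 12.14(e3)** (existence of a complement of `M*_σ` inside `M ∩ M*`) -/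
theorem case_tau2 (hG : IsMinSimpleOddOrder G) (hU : UniqHyp G) (h44 : H1444.{u}) (hC : CentHyp G)
    (h17 : Tau2Hyp G) {M Ms : Subgroup G} (hM : IsCoatom M) (hMs : IsCoatom Ms)
    (hnc : ∀ g : G, Ms ≠ cj g M) {p : ℕ} [Fact p.Prime] (hpM : p ∈ sigma M) (hpMs : p ∉ sigma Ms)
    {X S : Subgroup G} (hX1 : X ≠ ⊥) (hNX : normalizer (X : Set G) ≤ Ms) (hS : IsSylowIn p S Ms)
    (hXS : X ≤ S) (hSM : S ≤ M) (hNS : normalizer (S : Set G) ≤ M) :
    p ∈ tau2 Ms ∧ Group.IsNilpotent ↥(sigmaCore Ms) ∧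
      ∃ E : Subgroup G, E ≤ M ⊓ Ms ∧ PiHall {q | q.Prime ∧ q ∉ sigma Ms} E Ms ∧
        sigmaCore Ms ⊓ E = ⊥ ∧ Ms ≤ sigmaCore Ms ⊔ E := by
  have hpp : p.Prime := Fact.out
  have hp2 : p ≠ 2 := ne_two_of_mem_sigma hG hpM
  have hτ := mem_tau2 hG hU hMs hp2 hpMs hX1 hNX hS hXS
  obtain ⟨A₀, hA₀Ms, hA₀e, hA₀c⟩ := exists_elemAb_sq hτ.2.2.1 hτ.2.2.2
  have hA₀p : IsPGroup p ↥A₀ := isPGroup_of_exp hA₀e.2
  obtain ⟨g, -, hgA⟩ := hS.exists_conj_le hA₀Ms hA₀p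
  have hAS : cj g A₀ ≤ S := by
    rintro _ ⟨x, hx, rfl⟩
    exact hgA x hx
  have hAp : IsPGroup p ↥(cj g A₀) := hA₀p.map _
  have hA₀comm := comm_of_isElementaryAbelian hA₀e
  have hAe : IsElementaryAbelian p (cj g A₀) := by
    apply isElementaryAbelian_of
    · rintro _ ⟨x, hx, rfl⟩ _ ⟨y, hy, rfl⟩
      simp only [MulEquiv.coe_toMonoidHom, ← map_mul, hA₀comm x hx y hy]
    · rintro _ ⟨x, hx, rfl⟩
      simp only [MulEquiv.coe_toMonoidHom, ← map_pow, hA₀e.2 x hx, map_one]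
  have hAc : Nat.card ↥(cj g A₀) = p ^ 2 := by rw [card_cj]; exact hA₀c
  generalize cj g A₀ = A at hAS hAp hAe hAc
  have hAMs : A ≤ Ms := hAS.trans hS.le
  have hAM : A ≤ M := hAS.trans hSM
  obtain ⟨hnil, hab, hnorm, hcent, hdisj⟩ := h17 Ms hMs p hτ A hAMs hAe hAc
  have hne : M ≠ Ms := fun h => hnc 1 (by rw [cj_one']; exact h.symm)
  -- `S` is abelian
  have hSab : ∀ a ∈ S, ∀ b ∈ S, a * b = b * a := by
    intro a ha b hb
    have h1 := hab hS.toSylow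
    have h2 := h1.is_comm.comm
      (⟨⟨a, hS.le ha⟩, (hS.mem_toSylow _).mpr ha⟩ : ↥(hS.toSylow : Subgroup ↥Ms))
      ⟨⟨b, hS.le hb⟩, (hS.mem_toSylow _).mpr hb⟩
    exact congrArg (fun z : ↥(hS.toSylow : Subgroup ↥Ms) => ((z : ↥Ms) : G)) h2
  have hSCA : S ≤ centralizer (A : Set G) := by
    intro s hs
    rw [mem_centralizer_iff]
    intro a ha
    exact hSab a (hAS ha) s hs
  have hSE : S ≤ Ms ⊓ normalizer (A : Set G) :=
    le_inf hS.le (hSCA.trans (centralizer_le_normalizer _))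
  have hCAM : centralizer (A : Set G) ≤ M := hC M hM p A hAM hAe hAc
  have hpsg : ¬ p ∣ Nat.card ↥(sigmaCore Ms) := fun h => hpMs (card_sigmaCore_mem Ms p hpp h)
  -- `M*_σ ∩ A = 1`
  have hsgA : sigmaCore Ms ⊓ A = ⊥ := by
    apply disjoint_iff.mp
    apply Subgroup.disjoint_of_coprime_natCard
    rw [hAc]
    exact (Nat.Coprime.pow_right 2 ((Nat.Prime.coprime_iff_not_dvd hpp).mpr hpsg).symm)
  -- `M*_σ ∩ N(A) = 1`
  have hsgE : sigmaCore Ms ⊓ (Ms ⊓ normalizer (A : Set G)) = ⊥ := by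
    rw [eq_bot_iff]
    intro u hu
    obtain ⟨hu1, hu2⟩ := Subgroup.mem_inf.mp hu
    have huN := (Subgroup.mem_inf.mp hu2).2
    have huC : u ∈ centralizer (A : Set G) := by
      rw [mem_centralizer_iff]
      intro a ha
      have h1 : u * a * u⁻¹ * a⁻¹ ∈ A := mul_mem ((mem_normalizer_iff.mp huN a).mp ha) (inv_mem ha)
      have h2 : u * a * u⁻¹ * a⁻¹ ∈ sigmaCore Ms := by
        have h3 : a * u⁻¹ * a⁻¹ ∈ sigmaCore Ms :=
          (mem_normalizer_iff.mp (le_normalizer_sigmaCore Ms (hAMs ha)) u⁻¹).mp (inv_mem hu1)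
        have h4 := mul_mem hu1 h3
        have e : u * a * u⁻¹ * a⁻¹ = u * (a * u⁻¹ * a⁻¹) := by group
        rw [e]
        exact h4
      have h3 : u * a * u⁻¹ * a⁻¹ ∈ sigmaCore Ms ⊓ A := Subgroup.mem_inf.mpr ⟨h2, h1⟩
      rw [hsgA, Subgroup.mem_bot] at h3
      calc a * u = (u * a * u⁻¹ * a⁻¹)⁻¹ * (u * a) := by group
        _ = u * a := by rw [h3]; group
    have h5 : u ∈ sigmaCore Ms ⊓ centralizer (A : Set G) := Subgroup.mem_inf.mpr ⟨hu1, huC⟩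
    rwa [hcent] at h5
  -- Frattini argument: `M* = M*_σ N_{M*}(A)`
  have hAsg : A ≤ normalizer ((sigmaCore Ms : Subgroup G) : Set G) :=
    hAMs.trans (le_normalizer_sigmaCore Ms)
  have hfr : Ms ≤ sigmaCore Ms ⊔ (Ms ⊓ normalizer (A : Set G)) := by
    intro m hm
    have hcard := card_sup_of_disjoint' A (sigmaCore Ms) hAsg hsgA
    have hAK : IsSylowIn p A (sigmaCore Ms ⊔ A) := by
      refine ⟨le_sup_right, hAp, ?_⟩
      rw [relIndex_eq_div le_sup_right, hcard, Nat.mul_div_cancel _ Nat.card_pos]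
      exact hpsg
    obtain ⟨k, hk, hkm⟩ := frattini_isSylowIn hAK (hnorm hm)
    obtain ⟨v, hv, a, ha, e⟩ := Cfsg.Agent.Lib.Helper24_CoprimeAction.exists_mul_of_mem_sup A
      (sigmaCore Ms) hAsg (inv_mem hk)
    have hkMs : k ∈ Ms := (sup_le (sigmaCore_le Ms) hAMs) hk
    have e2 : m = v * (a * (k * m)) := by
      calc m = k⁻¹ * (k * m) := by group
        _ = v * a * (k * m) := by rw [e]
        _ = v * (a * (k * m)) := by group
    rw [e2]
    refine mul_mem (mem_sup_left hv) (mem_sup_right (Subgroup.mem_inf.mpr ⟨?_, ?_⟩))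
    · exact mul_mem (hAMs ha) (mul_mem hkMs hm)
    · exact mul_mem (le_normalizer ha) hkm
  -- `N_{M*}(A) ≤ M`
  have hEM : Ms ⊓ normalizer (A : Set G) ≤ M := by
    intro e he
    have hK : IsSylowIn p S ((Ms ⊓ normalizer (A : Set G)) ⊓ centralizer (A : Set G)) :=
      hS.mono (le_inf hSE hSCA) (inf_le_left.trans inf_le_left)
    have hen : e ∈ normalizer ((((Ms ⊓ normalizer (A : Set G)) ⊓ centralizer (A : Set G) :
        Subgroup G)) : Set G) := by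
      have h1 : Ms ⊓ normalizer (A : Set G) ≤ normalizer
          ((((Ms ⊓ normalizer (A : Set G)) ⊓ centralizer (A : Set G) : Subgroup G)) : Set G) :=
        le_normalizer_inf' le_normalizer
          (inf_le_right.trans (Cfsg.Agent.Lib.Helper22_BGTransUp.normalizer_le_normalizer_centralizer A))
      exact h1 he
    obtain ⟨k, hk, hke⟩ := frattini_isSylowIn hK hen
    have hkM : k ∈ M := hCAM (Subgroup.mem_inf.mp hk).2
    have h2 : k * e ∈ M := hNS hke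
    have e3 : e = k⁻¹ * (k * e) := by group
    rw [e3]
    exact mul_mem (inv_mem hkM) h2
  refine ⟨hτ, hnil, Ms ⊓ normalizer (A : Set G), le_inf hEM inf_le_left, ?_, hsgE, hfr⟩
  -- the Hall property
  have hcardE := card_sup_of_disjoint' (Ms ⊓ normalizer (A : Set G)) (sigmaCore Ms)
    (inf_le_left.trans (le_normalizer_sigmaCore Ms)) hsgE
  have hsup : sigmaCore Ms ⊔ (Ms ⊓ normalizer (A : Set G)) = Ms :=
    le_antisymm (sup_le (sigmaCore_le Ms) inf_le_left) hfr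
  rw [hsup] at hcardE
  refine ⟨inf_le_left, ?_, ?_⟩
  · intro r hr hrd
    refine ⟨hr, fun hrσ => ?_⟩
    apply not_dvd_index_piCore_sigma hG hU h44 Ms hMs hrσ
    have h1 : (piCore (sigma Ms) ↥Ms).index * Nat.card ↥(piCore (sigma Ms) ↥Ms) = Nat.card ↥Ms :=
      Subgroup.index_mul_card _
    have h2 : Nat.card ↥(sigmaCore Ms) = Nat.card ↥(piCore (sigma Ms) ↥Ms) :=
      Subgroup.card_map_of_injective Ms.subtype_injective
    rw [← h2, hcardE, mul_comm] at h1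
    have h3 : (piCore (sigma Ms) ↥Ms).index = Nat.card ↥(Ms ⊓ normalizer (A : Set G)) :=
      Nat.eq_of_mul_eq_mul_left Nat.card_pos h1
    rw [h3]
    exact hrd
  · intro r hr hrπ hrd
    rw [hcardE, Nat.mul_div_cancel _ Nat.card_pos] at hrd
    exact hrπ.2 (card_sigmaCore_mem Ms r hr hrd)

/-- in the situation of `case_tau2`, every `σ(M)`-subgroup of `M*` is conjugate under `M*` into `M` -/
theorem case_tau2_conj (hG : IsMinSimpleOddOrder G) (hU : UniqHyp G) (h44 : H1444.{u}) (hC : CentHyp G)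
    (h17 : Tau2Hyp G) {M Ms : Subgroup G} (hM : IsCoatom M) (hMs : IsCoatom Ms)
    (hnc : ∀ g : G, Ms ≠ cj g M) {p : ℕ} [Fact p.Prime] (hpM : p ∈ sigma M) (hpMs : p ∉ sigma Ms)
    {X S : Subgroup G} (hX1 : X ≠ ⊥) (hNX : normalizer (X : Set G) ≤ Ms) (hS : IsSylowIn p S Ms)
    (hXS : X ≤ S) (hSM : S ≤ M) (hNS : normalizer (S : Set G) ≤ M) {Y : Subgroup G} (hYMs : Y ≤ Ms)
    (hY : ∀ q : ℕ, q.Prime → q ∣ Nat.card Y → q ∈ sigma M) : ∃ m ∈ Ms, cj m Y ≤ M := by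
  obtain ⟨-, hnil, E, hEle, hE, -, -⟩ :=
    case_tau2 hG hU h44 hC h17 hM hMs hnc hpM hpMs hX1 hNX hS hXS hSM hNS
  have hsolv : Group.IsSolvable ↥Ms := hG.2.2.2 Ms hMs.1
  have hdis := (sigma_disjoint_nil hG hU h44 hMs hM (nonconj_symm hnc) hnil).1
  obtain ⟨m, hm, hmY⟩ := exists_cj_le_of_piHall hsolv hE hYMs (by
    intro q hq hd
    exact ⟨hq, fun hσ => hdis q hσ (hY q hq hd)⟩)
  exact ⟨m, hm, hmY.trans (hEle.trans inf_le_left)⟩

end Finite

end Cfsg.Agent.Lib.Helper47_BG1214b
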