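import Cfsg.Agent.Lib.Helper73_BG12

/-!
# Bender–Glauberman, Corollary 12.6 (statement S1418) (helper73)

From the first assertion of S1416 (`CentHyp`) and the statement S1417 (`Hyp1417Full`) as explicit hypotheses.
-/

set_option autoImplicit false

namespace Cfsg.Agent.Lib.Helper73_BG126

open Subgroup Cfsg Cfsg.Agent.Lib.Helper22_BGTrans Cfsg.Agent.Lib.Helper22_Radical
  Cfsg.Agent.Lib.Helper84_RelSylow Cfsg.Agent.Lib.Helper49_Sigma Cfsg.Agent.Lib.Helper73_BG12
  Cfsg.Agent.Lib.Helper22_BGTransUp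

variable {G : Type*} [Group G]

/-- the statement S1417, as a hypothesis -/
def Hyp1417Full (G : Type*) [Group G] : Prop :=
  ∀ (M : Subgroup G), IsCoatom M → ∀ (p : ℕ) [Fact p.Prime], p ∈ Cfsg.tau2 M → ∀ (A : Subgroup G),
    (A ≤ M ∧ Cfsg.IsElementaryAbelian p A ∧ Nat.card A = p ^ 2) →
    Group.IsNilpotent (Cfsg.sigmaCore M) ∧
      (∀ P : Sylow p M, IsMulCommutative (P : Subgroup M) ∧
        (A ≤ (P : Subgroup M).map M.subtype →
          (∀ x ∈ (P : Subgroup M).map M.subtype, x ^ p = 1 ↔ x ∈ A) ∧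
          ¬ Subgroup.normalizer ((((P : Subgroup M).map M.subtype : Subgroup G)) : Set G) ≤ M)) ∧
      M ≤ Subgroup.normalizer ((Cfsg.sigmaCore M ⊔ A : Subgroup G) : Set G) ∧
      Cfsg.sigmaCore M ⊓ Subgroup.centralizer (A : Set G) = ⊥ ∧
      (∀ Mstar : Subgroup G, IsCoatom Mstar → Mstar ≠ M → A ≤ Mstar → Cfsg.sigmaCore M ⊓ Mstar = ⊥) ∧
      ∃ A₁ : Subgroup G, A₁ ≤ A ∧ Nat.card A₁ = p ∧
        Cfsg.sigmaCore M ⊓ Subgroup.centralizer (A₁ : Set G) = ⊥

variable [Finite G] {p : ℕ} [hp : Fact p.Prime]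

/-- **Bender–Glauberman, Corollary 12.6** (statement S1418). -/
theorem statement_S1418 (hG : IsMinSimpleOddOrder G) (hC : CentHyp G) (h17 : Hyp1417Full G)
    (M : Subgroup G) (hM : IsCoatom M) (E : Subgroup G) (hE : Cfsg.IsComplIn E (Cfsg.sigmaCore M) M)
    (hpτ : p ∈ Cfsg.tau2 M) (A : Subgroup G)
    (hA : (A ≤ E ∧ Cfsg.IsElementaryAbelian p A ∧ Nat.card A = p ^ 2)) :
    (E ≤ Subgroup.normalizer (A : Set G) ∧ ∀ X : Subgroup G, X ≤ E → Nat.card X = p → X ≤ A) ∧
      (Subgroup.centralizer (A : Set G) ≤ M ⊓ Subgroup.normalizer (A : Set G) ∧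
        M ⊓ Subgroup.normalizer (A : Set G) = E ∧
        ¬ Subgroup.normalizer (A : Set G) ≤ M) ∧
      ∀ X : Subgroup G, X ≤ A → Nat.card X = p →
        Cfsg.sigmaCore M ⊓ Subgroup.centralizer (X : Set G) ≠ ⊥ →
        (Subgroup.centralizer (X : Set G) ≤ M ∧
          ∀ L : Subgroup G, IsCoatom L → Subgroup.centralizer (X : Set G) ≤ L → L = M) := by
  have hpp := hp.out
  obtain ⟨hAE, hAe, hA2⟩ := hA
  obtain ⟨hEM, hσM, hdisj, hprod⟩ := hE
  have hAM : A ≤ M := hAE.trans hEM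
  obtain ⟨-, h17b, h17c, h17d, h17e, -⟩ := h17 M hM p hpτ A ⟨hAM, hAe, hA2⟩
  set W : Subgroup G := sigmaCore M ⊔ A with hW
  have hMσn : M ≤ normalizer ((sigmaCore M : Subgroup G) : Set G) := le_normalizer_piCoreOf (sigma M) M
  have hAp : IsPGroup p ↥A := IsPGroup.of_card hA2
  -- `E ∩ M_σ A = A`
  have hEW : E ⊓ W ≤ A := by
    intro x hx
    obtain ⟨hxE, hxW⟩ := Subgroup.mem_inf.mp hx
    have hmem : x ∈ ((sigmaCore M ⊔ A : Subgroup G) : Set G) := hxW
    rw [Subgroup.coe_mul_of_right_le_normalizer_left (sigmaCore M) A (hAM.trans hMσn)] at hmem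
    obtain ⟨s, hs, a, ha, hsa⟩ := hmem
    replace hsa : s * a = x := hsa
    have hsE : s ∈ E := by
      have : s = x * a⁻¹ := by rw [← hsa]; group
      rw [this]
      exact mul_mem hxE (inv_mem (hAE ha))
    have : s ∈ E ⊓ sigmaCore M := Subgroup.mem_inf.mpr ⟨hsE, hs⟩
    rw [hdisj, Subgroup.mem_bot] at this
    rw [← hsa, this, one_mul]
    exact ha
  have hAW : A ≤ W := le_sup_right
  -- a Sylow `p`-subgroup of `M` containing `A`
  obtain ⟨T, hAT, hT⟩ := exists_isSylowIn_ge (H := M) hAM hAp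
  have hTmap : ((hT.toSylow : Sylow p ↥M) : Subgroup ↥M).map M.subtype = T := by
    rw [hT.coe_toSylow, Subgroup.map_subgroupOf_eq_of_le hT.le]
  obtain ⟨-, hTb⟩ := h17b hT.toSylow
  rw [hTmap] at hTb
  obtain ⟨hΩ, hNT⟩ := hTb hAT
  -- `E` normalizes `A`
  have hEN : E ≤ normalizer (A : Set G) := by
    apply le_normalizer_of_conj_mem
    intro e he x hx
    apply hEW
    refine Subgroup.mem_inf.mpr ⟨mul_mem (mul_mem he (hAE hx)) (inv_mem he), ?_⟩
    exact (Subgroup.mem_normalizer_iff.mp (h17c (hEM he)) x).mp (hAW hx)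
  refine ⟨⟨hEN, ?_⟩, ⟨?_, ?_, ?_⟩, ?_⟩
  · -- subgroups of order `p` of `E`
    intro X hXE hX x hx
    have hXp : IsPGroup p ↥X := IsPGroup.of_card (n := 1) (by rw [hX, pow_one])
    obtain ⟨m, hm, hmX⟩ := hT.exists_conj_le (hXE.trans hEM) hXp
    have hxp : x ^ p = 1 := by
      have : (⟨x, hx⟩ : ↥X) ^ Nat.card X = 1 := pow_card_eq_one'
      rw [hX] at this
      exact congrArg Subtype.val this
    have h1 : m * x * m⁻¹ ∈ A := by
      rw [← hΩ _ (hmX x hx), conj_pow, hxp]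
      group
    apply hEW
    refine Subgroup.mem_inf.mpr ⟨hXE hx, ?_⟩
    have h2 : m⁻¹ * (m * x * m⁻¹) * m⁻¹⁻¹ ∈ W :=
      (Subgroup.mem_normalizer_iff.mp (h17c (inv_mem hm)) _).mp (hAW h1)
    have e : m⁻¹ * (m * x * m⁻¹) * m⁻¹⁻¹ = x := by group
    rwa [e] at h2
  · exact le_inf (hC M hM p A hAM hAe hA2) (Subgroup.centralizer_le_normalizer _)
  · apply le_antisymm
    · intro m hm
      obtain ⟨hmM, hmN⟩ := Subgroup.mem_inf.mp hm
      obtain ⟨e, he, s, hs, rfl⟩ := hprod m hmM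
      have hsN : s ∈ normalizer (A : Set G) := by
        have : s = e⁻¹ * (e * s) := by group
        rw [this]
        exact mul_mem (inv_mem (hEN he)) hmN
      have hsC : s ∈ centralizer (A : Set G) := by
        rw [Subgroup.mem_centralizer_iff]
        intro a ha
        have h1 : s * a * s⁻¹ ∈ A := (Subgroup.mem_normalizer_iff.mp hsN a).mp ha
        have h2 : s * a * s⁻¹ * a⁻¹ ∈ A := mul_mem h1 (inv_mem ha)
        have h3 : s * a * s⁻¹ * a⁻¹ ∈ sigmaCore M := by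
          have h4 : a * s⁻¹ * a⁻¹ ∈ sigmaCore M :=
            (Subgroup.mem_normalizer_iff.mp (hMσn (hAM ha)) _).mp (inv_mem hs)
          have : s * a * s⁻¹ * a⁻¹ = s * (a * s⁻¹ * a⁻¹) := by group
          rw [this]
          exact mul_mem hs h4
        have h5 : s * a * s⁻¹ * a⁻¹ ∈ E ⊓ sigmaCore M := Subgroup.mem_inf.mpr ⟨hAE h2, h3⟩
        rw [hdisj, Subgroup.mem_bot] at h5
        have h6 : s * a = a * s := by
          have := mul_inv_eq_one.mp h5
          calc s * a = (s * a * s⁻¹) * s := by group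
            _ = a * s := by rw [this]
        exact h6.symm
      have : s ∈ sigmaCore M ⊓ centralizer (A : Set G) := Subgroup.mem_inf.mpr ⟨hs, hsC⟩
      rw [h17d, Subgroup.mem_bot] at this
      rw [this, mul_one]
      exact he
    · exact le_inf hEM hEN
  · intro hNA
    apply hNT
    refine le_trans ?_ hNA
    apply le_normalizer_of_conj_mem
    intro g hg a ha
    have h1 : g * a * g⁻¹ ∈ T := (Subgroup.mem_normalizer_iff.mp hg a).mp (hAT ha)
    rw [← hΩ _ h1, conj_pow, hAe.2 a ha]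
    group
  · intro X hXA hX hne
    have hX1 : X ≠ ⊥ := by
      rintro rfl
      rw [Subgroup.card_bot] at hX
      exact hpp.one_lt.ne hX
    have hAX : A ≤ centralizer (X : Set G) := by
      intro a ha
      rw [Subgroup.mem_centralizer_iff]
      intro x hx
      exact congrArg Subtype.val (hAe.1.is_comm.comm (⟨x, hXA hx⟩ : ↥A) ⟨a, ha⟩)
    have key : ∀ L : Subgroup G, IsCoatom L → centralizer (X : Set G) ≤ L → L = M := by
      intro L hL hCL
      by_contra hLM
      apply hne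
      rw [eq_bot_iff, ← h17e L hL hLM (hAX.trans hCL)]
      exact inf_le_inf_left _ hCL
    refine ⟨?_, key⟩
    have hCtop := centralizer_ne_top hG hX1
    obtain ⟨L, hL, hCL⟩ := (eq_top_or_exists_le_coatom _).resolve_left hCtop
    rw [← key L hL hCL]
    exact hCL

end Cfsg.Agent.Lib.Helper73_BG126
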