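import Cfsg.Agent.Lib.Helper49_Alpha
import Cfsg.Agent.Lib.Helper20_PGroupOdd
import Cfsg.Agent.S1399
import Cfsg.Agent.S0025

/-!
# Centralizers of `α(M)'`-subgroups in `M_α` (helper49)

Bender–Glauberman, Lemma 10.3, in a minimal simple group of odd order, with the Uniqueness Theorem as an
explicit hypothesis `UniqHyp G`.

The main step is `exists_uniq_in_fixed`: if `P` is a `p`-subgroup of rank at least three, `X` a `p'`-subgroup
normalizing `P` and `A ≤ C_P(X)` elementary abelian of rank at least two, then `C_P(X)` contains a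
uniqueness subgroup.
-/

set_option autoImplicit false

namespace Cfsg.Agent.Lib.Helper49_Alpha2

open Subgroup Cfsg Cfsg.Agent.Lib.Helper49_Sigma Cfsg.Agent.Lib.Helper22_BGTrans
  Cfsg.Agent.Lib.Helper22_Radical Cfsg.Agent.Lib.Helper84_RelSylow Cfsg.Agent.Lib.Helper22_Uniq

variable {G : Type*} [Group G]

/-- a proper overgroup of a uniqueness subgroup is a uniqueness subgroup -/
theorem inUniqueMaximal_mono [Finite G] {E K : Subgroup G} (hEK : E ≤ K)
    (hK : K ≠ ⊤) (hE : InUniqueMaximal E) : InUniqueMaximal K := by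
  obtain ⟨M, hM, hKM⟩ := (eq_top_or_exists_le_coatom K).resolve_left hK
  obtain ⟨M₀, -, huniq⟩ := hE
  refine ⟨M, ⟨hM, hKM⟩, ?_⟩
  rintro M' ⟨hM', hKM'⟩
  rw [huniq M' ⟨hM', hEK.trans hKM'⟩, huniq M ⟨hM, hEK.trans hKM⟩]

/-- the join of two elementwise commuting elementary abelian subgroups is elementary abelian -/
theorem elemAb_sup {p : ℕ} {A B : Subgroup G} (hAc : ∀ a ∈ A, ∀ b ∈ A, a * b = b * a)
    (hAe : ∀ a ∈ A, a ^ p = 1) (hBc : ∀ a ∈ B, ∀ b ∈ B, a * b = b * a) (hBe : ∀ a ∈ B, a ^ p = 1)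
    (hAB : ∀ a ∈ A, ∀ b ∈ B, a * b = b * a) :
    (∀ x ∈ A ⊔ B, ∀ y ∈ A ⊔ B, x * y = y * x) ∧ ∀ x ∈ A ⊔ B, x ^ p = 1 := by
  have hBN : B ≤ normalizer (A : Set G) := by
    refine le_trans ?_ (centralizer_le_normalizer _)
    intro b hb
    rw [Subgroup.mem_centralizer_iff]
    intro a ha
    exact hAB a ha b hb
  have key : ∀ t ∈ A ⊔ B, ∃ a ∈ A, ∃ b ∈ B, t = a * b := fun t ht =>
    Cfsg.Agent.Lib.Helper24_CoprimeAction.exists_mul_of_mem_sup B A hBN ht
  constructor
  · intro x hx y hy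
    obtain ⟨a, ha, b, hb, rfl⟩ := key x hx
    obtain ⟨a', ha', b', hb', rfl⟩ := key y hy
    have h1 : Commute a a' := hAc a ha a' ha'
    have h2 : Commute a b' := hAB a ha b' hb'
    have h3 : Commute b a' := (hAB a' ha' b hb).symm
    have h4 : Commute b b' := hBc b hb b' hb'
    exact ((h1.mul_right h2).mul_left (h3.mul_right h4)).eq
  · intro x hx
    obtain ⟨a, ha, b, hb, rfl⟩ := key x hx
    have h1 : Commute a b := hAB a ha b hb
    rw [h1.mul_pow, hAe a ha, hBe b hb, one_mul]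

theorem elemAb_zpowers {p : ℕ} {d : G} (hd : d ^ p = 1) :
    (∀ a ∈ zpowers d, ∀ b ∈ zpowers d, a * b = b * a) ∧ ∀ a ∈ zpowers d, a ^ p = 1 := by
  constructor
  · intro a ha b hb
    obtain ⟨i, rfl⟩ := mem_zpowers_iff.mp ha
    obtain ⟨j, rfl⟩ := mem_zpowers_iff.mp hb
    exact ((Commute.refl d).zpow_zpow i j).eq
  · intro a ha
    obtain ⟨i, rfl⟩ := mem_zpowers_iff.mp ha
    rw [← zpow_natCast, ← zpow_mul, mul_comm, zpow_mul, zpow_natCast, hd, one_zpow]

theorem isPGroup_of_exp {p : ℕ} {A : Subgroup G} (hAe : ∀ a ∈ A, a ^ p = 1) : IsPGroup p ↥A := fun x =>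
  ⟨1, by
    apply Subtype.ext
    rw [pow_one, Subgroup.coe_pow]
    exact hAe x.1 x.2⟩

theorem sq_le_card_of_lt [Finite G] {p : ℕ} [Fact p.Prime] {Q : Subgroup G} (hQ : IsPGroup p ↥Q)
    (h : p < Nat.card ↥Q) : p ^ 2 ≤ Nat.card ↥Q := by
  have hpp : p.Prime := Fact.out
  obtain ⟨k, hk⟩ := IsPGroup.iff_card.mp hQ
  rw [hk] at h ⊢
  have : 2 ≤ k := by
    by_contra hlt
    have hk1 : k ≤ 1 := by omega
    have : p ^ k ≤ p ^ 1 := Nat.pow_le_pow_right hpp.pos hk1
    rw [pow_one] at this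
    omega
  exact Nat.pow_le_pow_right hpp.pos this

section Uniq

variable [Finite G] {p : ℕ} [Fact p.Prime]

/-- an elementary abelian subgroup of rank at least three is a uniqueness subgroup -/
theorem inUniqueMaximal_of_elemAb_three (hG : IsMinSimpleOddOrder G) (hU : UniqHyp G) {T : Subgroup G}
    (hTc : ∀ a ∈ T, ∀ b ∈ T, a * b = b * a) (hTe : ∀ a ∈ T, a ^ p = 1) (hT3 : p ^ 2 < Nat.card ↥T) :
    InUniqueMaximal T := by
  have hpp : p.Prime := Fact.out
  have hpp2 : p < p ^ 2 := by nlinarith [hpp.one_lt]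
  apply hU T (ne_top_of_isPGroup hG hpp (isPGroup_of_exp hTe))
  · apply not_rankLE_of_elemAb hpp (E := T) le_rfl hTc hTe
    rw [pow_one]; omega
  · left
    exact not_rankLE_of_elemAb hpp (E := T) le_rfl hTc hTe hT3

/-- a subgroup of rank at least two of an abelian uniqueness subgroup is a uniqueness subgroup -/
theorem inUniqueMaximal_of_le_abelian (hG : IsMinSimpleOddOrder G) {A T : Subgroup G} (hAT : A ≤ T)
    (hTc : ∀ a ∈ T, ∀ b ∈ T, a * b = b * a) (hTU : InUniqueMaximal T) (hA : ¬ RankLE 1 ↥A) :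
    InUniqueMaximal A := by
  apply Cfsg.Agent.S1399.result hG T A hTU _ hA
  intro a ha
  rw [Subgroup.mem_centralizer_iff]
  intro t ht
  exact hTc t ht a (hAT ha)

/-- enlarging an elementary abelian subgroup `A` of rank at least two by a commuting element of order `p`
outside `A` makes `A` a uniqueness subgroup -/
theorem inUniqueMaximal_of_extra (hG : IsMinSimpleOddOrder G) (hU : UniqHyp G) {A : Subgroup G}
    (hAc : ∀ a ∈ A, ∀ b ∈ A, a * b = b * a) (hAe : ∀ a ∈ A, a ^ p = 1) (hA2 : p < Nat.card ↥A)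
    {d : G} (hdA : ∀ a ∈ A, a * d = d * a) (hd : d ^ p = 1) (hdn : d ∉ A) : InUniqueMaximal A := by
  have hpp : p.Prime := Fact.out
  obtain ⟨hdc, hde⟩ := elemAb_zpowers hd
  have hAd : ∀ a ∈ A, ∀ b ∈ zpowers d, a * b = b * a := by
    intro a ha b hb
    obtain ⟨i, rfl⟩ := mem_zpowers_iff.mp hb
    exact ((show Commute a d from hdA a ha).zpow_right i).eq
  obtain ⟨hTc, hTe⟩ := elemAb_sup hAc hAe hdc hde hAd
  have hlt : A < A ⊔ zpowers d := by
    refine lt_of_le_of_ne le_sup_left ?_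
    intro h
    apply hdn
    rw [h]
    exact mem_sup_right (mem_zpowers d)
  have hcard : Nat.card ↥A < Nat.card ↥(A ⊔ zpowers d) := by
    apply card_lt_card_of_lt hlt.le
    exact fun h => absurd (le_antisymm hlt.le h) hlt.ne
  have h2 := sq_le_card_of_lt (isPGroup_of_exp hAe) hA2
  have hTU : InUniqueMaximal (A ⊔ zpowers d) :=
    inUniqueMaximal_of_elemAb_three hG hU hTc hTe (by omega)
  apply inUniqueMaximal_of_le_abelian hG le_sup_left hTc hTU
  apply not_rankLE_of_elemAb hpp (E := A) le_rfl hAc hAe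
  rw [pow_one]; exact hA2

end Uniq

/-! ### Good pairs -/

/-- a good pair in the `p`-subgroup `P`: `z` central of order `p`, `h` of order `p` outside `⟨z⟩` with all
commutators `[g, h]`, `g ∈ P`, in `⟨z⟩` -/
structure GoodIn (p : ℕ) (P : Subgroup G) (z h : G) : Prop where
  zP : z ∈ P
  hP : h ∈ P
  zc : ∀ g ∈ P, g * z = z * g
  zp : z ^ p = 1
  hp : h ^ p = 1
  comm : ∀ g ∈ P, g * h * g⁻¹ * h⁻¹ ∈ zpowers z
  card : p < Nat.card ↥(zpowers z ⊔ zpowers h)

namespace GoodIn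

variable {p : ℕ} {P : Subgroup G} {z h : G}

theorem central (hg : GoodIn p P z h) {w : G} (hw : w ∈ zpowers z) : ∀ g ∈ P, g * w = w * g := by
  intro g hgP
  obtain ⟨i, rfl⟩ := mem_zpowers_iff.mp hw
  exact ((show Commute g z from hg.zc g hgP).zpow_right i).eq

theorem pow_eq_one (hg : GoodIn p P z h) {w : G} (hw : w ∈ zpowers z) : w ^ p = 1 :=
  (elemAb_zpowers hg.zp).2 w hw

theorem mem_P (hg : GoodIn p P z h) {w : G} (hw : w ∈ zpowers z) : w ∈ P :=
  (zpowers_le.mpr hg.zP) hw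

/-- `E = ⟨z, h⟩` is elementary abelian -/
theorem elemAb (hg : GoodIn p P z h) :
    (∀ x ∈ zpowers z ⊔ zpowers h, ∀ y ∈ zpowers z ⊔ zpowers h, x * y = y * x) ∧
      ∀ x ∈ zpowers z ⊔ zpowers h, x ^ p = 1 := by
  obtain ⟨h1, h2⟩ := elemAb_zpowers hg.zp
  obtain ⟨h3, h4⟩ := elemAb_zpowers hg.hp
  apply elemAb_sup h1 h2 h3 h4
  intro a ha b hb
  obtain ⟨j, rfl⟩ := mem_zpowers_iff.mp hb
  have : Commute h a := hg.central ha h hg.hP
  exact (this.symm.zpow_right j).eq

theorem le_P (hg : GoodIn p P z h) : zpowers z ⊔ zpowers h ≤ P :=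
  sup_le (zpowers_le.mpr hg.zP) (zpowers_le.mpr hg.hP)

/-- the commutator map `g ↦ [g, h]` from `P` to `⟨z⟩` -/
noncomputable def commHom (hg : GoodIn p P z h) : ↥P →* ↥(zpowers z) :=
  MonoidHom.mk' (fun g => ⟨(g : G) * h * (g : G)⁻¹ * h⁻¹, hg.comm g g.2⟩) (by
    intro a b
    apply Subtype.ext
    simp only [Subgroup.coe_mul]
    have hw := hg.comm b b.2
    have h1 : (a : G) * ((b : G) * h * (b : G)⁻¹ * h⁻¹) = ((b : G) * h * (b : G)⁻¹ * h⁻¹) * a :=
      hg.central hw a a.2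
    have h2 : ((a : G) * h * (a : G)⁻¹ * h⁻¹) * ((b : G) * h * (b : G)⁻¹ * h⁻¹) =
        ((b : G) * h * (b : G)⁻¹ * h⁻¹) * ((a : G) * h * (a : G)⁻¹ * h⁻¹) :=
      hg.central hw _ (hg.mem_P (hg.comm a a.2))
    calc (a : G) * b * h * ((a : G) * b)⁻¹ * h⁻¹
        = ((a : G) * ((b : G) * h * (b : G)⁻¹ * h⁻¹)) * h * (a : G)⁻¹ * h⁻¹ := by group
      _ = (((b : G) * h * (b : G)⁻¹ * h⁻¹) * a) * h * (a : G)⁻¹ * h⁻¹ := by rw [h1]
      _ = ((b : G) * h * (b : G)⁻¹ * h⁻¹) * ((a : G) * h * (a : G)⁻¹ * h⁻¹) := by group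
      _ = ((a : G) * h * (a : G)⁻¹ * h⁻¹) * ((b : G) * h * (b : G)⁻¹ * h⁻¹) := h2.symm)

theorem commHom_apply (hg : GoodIn p P z h) (g : ↥P) :
    ((hg.commHom g : ↥(zpowers z)) : G) = (g : G) * h * (g : G)⁻¹ * h⁻¹ := rfl

/-- the centralizer of `h` in a subgroup `B` of `P` has index at most `p` -/
theorem exists_centralizing [Finite G] [Fact p.Prime] (hg : GoodIn p P z h) {B : Subgroup G} (hBP : B ≤ P) :
    ∃ C : Subgroup G, C ≤ B ∧ (∀ c ∈ C, c * h = h * c) ∧ Nat.card ↥B ≤ p * Nat.card ↥C := by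
  have hpp : p.Prime := Fact.out
  set ψ : ↥B →* ↥(zpowers z) := hg.commHom.comp (Subgroup.inclusion hBP) with hψ
  refine ⟨ψ.ker.map B.subtype, Subgroup.map_subtype_le _, ?_, ?_⟩
  · rintro _ ⟨c, hc, rfl⟩
    have h1 : ψ c = 1 := hc
    have h2 : ((ψ c : ↥(zpowers z)) : G) = 1 := by rw [h1]; rfl
    have h3 : (c : G) * h * (c : G)⁻¹ * h⁻¹ = 1 := h2
    calc (B.subtype c) * h = ((c : G) * h * (c : G)⁻¹ * h⁻¹) * h * c := by
          simp only [Subgroup.coe_subtype]; group
      _ = h * B.subtype c := by rw [h3, one_mul]; rfl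
  · rw [Subgroup.card_map_of_injective B.subtype_injective,
      Subgroup.card_eq_card_quotient_mul_card_subgroup ψ.ker]
    apply Nat.mul_le_mul_right
    rw [Nat.card_congr (QuotientGroup.quotientKerEquivRange ψ).toEquiv]
    refine (Subgroup.card_le_card_group ψ.range).trans ?_
    rw [Nat.card_zpowers]
    exact Nat.le_of_dvd hpp.pos (orderOf_dvd_of_pow_eq_one hg.zp)

/-- `E = ⟨z, h⟩` is a uniqueness subgroup if `P` has rank at least three -/
theorem inUniqueMaximal [Finite G] [Fact p.Prime] (hG : IsMinSimpleOddOrder G) (hU : UniqHyp G)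
    (hg : GoodIn p P z h) (hP3 : ¬ PRankLE p 2 ↥P) : InUniqueMaximal (zpowers z ⊔ zpowers h) := by
  have hpp : p.Prime := Fact.out
  obtain ⟨hEc, hEe⟩ := hg.elemAb
  have hE1 : ¬ RankLE 1 ↥(zpowers z ⊔ zpowers h) := by
    apply not_rankLE_of_elemAb hpp (E := zpowers z ⊔ zpowers h) le_rfl hEc hEe
    rw [pow_one]; exact hg.card
  obtain ⟨B, hBP, hBc, hBe, hB3⟩ := exists_elemAb_of_not_pRankLE hP3
  by_cases hhB : h ∈ B
  · -- `B ⟨z⟩` is elementary abelian and contains `E`
    obtain ⟨hzc, hze⟩ := elemAb_zpowers hg.zp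
    have hBz : ∀ a ∈ B, ∀ b ∈ zpowers z, a * b = b * a := fun a ha b hb => hg.central hb a (hBP ha)
    obtain ⟨hTc, hTe⟩ := elemAb_sup hBc hBe hzc hze hBz
    have hcard : Nat.card ↥B ≤ Nat.card ↥(B ⊔ zpowers z) := Subgroup.card_le_of_le le_sup_left
    have hTU := inUniqueMaximal_of_elemAb_three hG hU hTc hTe (by omega)
    refine inUniqueMaximal_of_le_abelian hG ?_ hTc hTU hE1
    exact sup_le le_sup_right ((zpowers_le.mpr hhB).trans le_sup_left)
  · obtain ⟨C, hCB, hCh, hCcard⟩ := hg.exists_centralizing hBP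
    have hCc : ∀ a ∈ C, ∀ b ∈ C, a * b = b * a := fun a ha b hb => hBc a (hCB ha) b (hCB hb)
    have hCe : ∀ a ∈ C, a ^ p = 1 := fun a ha => hBe a (hCB ha)
    have hCE : ∀ a ∈ C, ∀ b ∈ zpowers z ⊔ zpowers h, a * b = b * a := by
      intro a ha b hb
      have h1 : zpowers z ⊔ zpowers h ≤ centralizer ({a} : Set G) := by
        apply sup_le
        · rw [zpowers_le, Subgroup.mem_centralizer_iff]
          intro x hx
          rw [Set.mem_singleton_iff] at hx
          rw [hx]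
          exact hg.zc a (hBP (hCB ha))
        · rw [zpowers_le, Subgroup.mem_centralizer_iff]
          intro x hx
          rw [Set.mem_singleton_iff] at hx
          rw [hx]
          exact hCh a ha
      exact Subgroup.mem_centralizer_iff.mp (h1 hb) a rfl
    obtain ⟨hTc, hTe⟩ := elemAb_sup hCc hCe hEc hEe hCE
    have hCp : p < Nat.card ↥C := by
      by_contra hle
      have : p * Nat.card ↥C ≤ p * p := Nat.mul_le_mul_left p (by omega)
      have hsq : p ^ 2 = p * p := by ring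
      omega
    have hC2 := sq_le_card_of_lt (isPGroup_of_exp hCe) hCp
    have hlt : C < C ⊔ (zpowers z ⊔ zpowers h) := by
      refine lt_of_le_of_ne le_sup_left ?_
      intro heq
      apply hhB
      apply hCB
      rw [heq]
      exact mem_sup_right (mem_sup_right (mem_zpowers h))
    have hcard : Nat.card ↥C < Nat.card ↥(C ⊔ (zpowers z ⊔ zpowers h)) := by
      apply card_lt_card_of_lt hlt.le
      exact fun h' => absurd (le_antisymm hlt.le h') hlt.ne
    have hTU := inUniqueMaximal_of_elemAb_three hG hU hTc hTe (by omega)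
    exact inUniqueMaximal_of_le_abelian hG le_sup_right hTc hTU hE1

end GoodIn

/-- good pairs exist in `p`-subgroups of rank at least three, `p` odd -/
theorem exists_goodIn [Finite G] {p : ℕ} [Fact p.Prime] (hp2 : p ≠ 2) {P : Subgroup G} (hPp : IsPGroup p ↥P)
    (hP3 : ¬ PRankLE p 2 ↥P) : ∃ z h : G, GoodIn p P z h := by
  have hpp : p.Prime := Fact.out
  have hpp2 : p < p ^ 2 := by nlinarith [hpp.one_lt]
  have hnc : ¬ IsCyclic ↥(⊤ : Subgroup ↥P) := by
    intro hc
    apply hP3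
    have hcP : IsCyclic ↥P := by
      have e : ↥(⊤ : Subgroup ↥P) ≃* ↥P := Subgroup.topEquiv
      exact isCyclic_of_surjective e e.surjective
    intro B _ hBe
    have hcB : IsCyclic ↥B := inferInstance
    have h1 : Nat.card ↥B ≤ p := card_le_of_isCyclic hcB (fun x => by
      apply Subtype.ext
      rw [Subgroup.coe_pow]
      exact hBe x.1 x.2)
    omega
  obtain ⟨z, h, hgd⟩ := Cfsg.Agent.Lib.Helper20_PGroupOdd.exists_good hp2 hPp ⊤ hnc
  refine ⟨(z : G), (h : G), ⟨z.2, h.2, ?_, ?_, ?_, ?_, ?_⟩⟩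
  · intro g hgP
    have := Subgroup.mem_center_iff.mp hgd.2.2.1 ⟨g, hgP⟩
    exact congrArg Subtype.val this
  · have := hgd.z_pow
    have h2 := congrArg Subtype.val this
    simpa using h2
  · have := hgd.2.2.2.2.1
    have h2 := congrArg Subtype.val this
    simpa using h2
  · intro g hgP
    obtain ⟨i, hi⟩ := mem_zpowers_iff.mp (hgd.2.2.2.2.2.2 ⟨g, hgP⟩)
    rw [mem_zpowers_iff]
    refine ⟨i, ?_⟩
    have h2 := congrArg Subtype.val hi
    simpa using h2
  · have h1 : hgd.B.map P.subtype = zpowers (z : G) ⊔ zpowers (h : G) := by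
      unfold Cfsg.Agent.Lib.Helper20_PGroupOdd.Good.B
      rw [Subgroup.map_sup, MonoidHom.map_zpowers, MonoidHom.map_zpowers]
      rfl
    rw [← h1, Subgroup.card_map_of_injective P.subtype_injective, hgd.card_B]
    exact hpp2

section Main

variable [Finite G] {p : ℕ} [Fact p.Prime]

/-- **Main step.** If `P` is a `p`-subgroup of rank at least three, `X` a `p'`-subgroup normalizing `P` and
`A ≤ C_P(X)` is elementary abelian of rank at least two, then `C_P(X)` contains a uniqueness subgroup. -/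
theorem exists_uniq_in_fixed (hG : IsMinSimpleOddOrder G) (hU : UniqHyp G) {P X A : Subgroup G}
    (hPp : IsPGroup p ↥P) (hP3 : ¬ PRankLE p 2 ↥P) (hXP : X ≤ normalizer (P : Set G))
    (hXp : (Nat.card ↥X).Coprime p) (hAP : A ≤ P) (hAX : A ≤ centralizer (X : Set G))
    (hAc : ∀ a ∈ A, ∀ b ∈ A, a * b = b * a) (hAe : ∀ a ∈ A, a ^ p = 1) (hA2 : p < Nat.card ↥A) :
    ∃ A' : Subgroup G, A' ≤ P ⊓ centralizer (X : Set G) ∧ InUniqueMaximal A' := by
  have hpp : p.Prime := Fact.out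
  have hA1 : A ≠ ⊥ := by
    rintro rfl
    rw [Subgroup.card_bot] at hA2
    have := hpp.one_lt
    omega
  have hp2 : p ≠ 2 := two_ne_of_dvd_card hG (dvd_card_of_ne_bot (isPGroup_of_exp hAe) hA1)
  obtain ⟨z, h, hg⟩ := exists_goodIn hp2 hPp hP3
  have hEU := hg.inUniqueMaximal hG hU hP3
  -- `z ∈ A`, or `A` is a uniqueness subgroup
  by_cases hzA : z ∈ A
  swap
  · exact ⟨A, le_inf hAP hAX, inUniqueMaximal_of_extra hG hU hAc hAe hA2
      (fun a ha => hg.zc a (hAP ha)) hg.zp hzA⟩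
  have hXz : ∀ x ∈ X, x * z = z * x := fun x hx =>
    (Subgroup.mem_centralizer_iff.mp (hAX hzA) x hx)
  -- the elements `d x = h⁻¹ (x h x⁻¹)`
  have hxh : ∀ x ∈ X, x * h * x⁻¹ ∈ P := by
    intro x hx
    exact (mem_normalizer_iff.mp (hXP hx) h).mp hg.hP
  have hdA : ∀ x ∈ X, ∀ a ∈ A, a * (h⁻¹ * (x * h * x⁻¹)) = (h⁻¹ * (x * h * x⁻¹)) * a := by
    intro x hx a ha
    have hax : x * a = a * x := (Subgroup.mem_centralizer_iff.mp (hAX ha) x hx)
    have hw := hg.comm a (hAP ha)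
    have hwx : x * (a * h * a⁻¹ * h⁻¹) = (a * h * a⁻¹ * h⁻¹) * x := by
      obtain ⟨i, hi⟩ := mem_zpowers_iff.mp hw
      rw [← hi]
      exact ((show Commute x z from hXz x hx).zpow_right i).eq
    have hwh : h * (a * h * a⁻¹ * h⁻¹) = (a * h * a⁻¹ * h⁻¹) * h := hg.central hw h hg.hP
    have hwh' : (x * h * x⁻¹) * (a * h * a⁻¹ * h⁻¹) = (a * h * a⁻¹ * h⁻¹) * (x * h * x⁻¹) :=
      hg.central hw _ (hxh x hx)
    -- `a h a⁻¹ = w h` and `a (x h x⁻¹) a⁻¹ = w (x h x⁻¹)`
    have e1 : a * h⁻¹ = h⁻¹ * (a * h * a⁻¹ * h⁻¹)⁻¹ * a := by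
      have : a * h⁻¹ = (a * h * a⁻¹ * h⁻¹ * h)⁻¹ * a := by group
      rw [this, mul_inv_rev]
    have e2 : a * (x * h * x⁻¹) = (a * h * a⁻¹ * h⁻¹) * (x * h * x⁻¹) * a := by
      have h1 : a * (x * h * x⁻¹) = x * (a * h * a⁻¹ * h⁻¹) * h * x⁻¹ * a := by
        have hax' : a * x = x * a := hax.symm
        have hax'' : x⁻¹ * a = a * x⁻¹ := by
          have := congrArg (fun t => x⁻¹ * t * x⁻¹) hax
          beta_reduce at this
          rw [show x⁻¹ * (x * a) * x⁻¹ = a * x⁻¹ by group, show x⁻¹ * (a * x) * x⁻¹ = x⁻¹ * a by group] at this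
          exact this.symm
        calc a * (x * h * x⁻¹) = (a * x) * h * x⁻¹ := by group
          _ = (x * a) * h * x⁻¹ := by rw [hax']
          _ = x * (a * h * a⁻¹ * h⁻¹) * h * (a * x⁻¹) := by group
          _ = x * (a * h * a⁻¹ * h⁻¹) * h * (x⁻¹ * a) := by rw [hax'']
          _ = x * (a * h * a⁻¹ * h⁻¹) * h * x⁻¹ * a := by group
      rw [h1, hwx]
      group
    calc a * (h⁻¹ * (x * h * x⁻¹)) = (a * h⁻¹) * (x * h * x⁻¹) := by group
      _ = h⁻¹ * (a * h * a⁻¹ * h⁻¹)⁻¹ * (a * (x * h * x⁻¹)) := by rw [e1]; group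
      _ = h⁻¹ * (a * h * a⁻¹ * h⁻¹)⁻¹ * ((a * h * a⁻¹ * h⁻¹) * (x * h * x⁻¹) * a) := by rw [e2]
      _ = (h⁻¹ * (x * h * x⁻¹)) * a := by group
  have hdp : ∀ x ∈ X, (h⁻¹ * (x * h * x⁻¹)) ^ p = 1 := by
    intro x hx
    have hw := hg.comm _ (hxh x hx)
    set h' := x * h * x⁻¹ with hh'
    set w := h' * h * h'⁻¹ * h⁻¹ with hw'
    have hwh : h * w = w * h := hg.central hw h hg.hP
    have hwh' : h' * w = w * h' := hg.central hw _ (hxh x hx)
    have hwinv : w⁻¹ ∈ zpowers z := inv_mem hw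
    have hc : h' * h⁻¹ = w⁻¹ * h⁻¹ * h' := by
      have e : h' * h⁻¹ = h⁻¹ * w⁻¹ * h' := by rw [hw']; group
      have e3 : h⁻¹ * w⁻¹ = w⁻¹ * h⁻¹ := by
        have := congrArg (fun t => t⁻¹) hwh
        simp only [mul_inv_rev] at this
        exact this.symm
      rw [e, e3]
    have hcx : Commute w⁻¹ h⁻¹ := by
      have : Commute h w := hwh
      exact (this.symm.inv_left.inv_right)
    have hcy : Commute w⁻¹ h' := by
      have : Commute h' w := hwh'
      exact this.symm.inv_left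
    have := Cfsg.Agent.Lib.Helper20_PGroupOdd.mul_pow_prime_of_comm hpp hp2 hc hcx hcy
      (hg.pow_eq_one hwinv)
    rw [this, inv_pow, hg.hp, inv_one, one_mul, hh', conj_pow, hg.hp]
    group
  by_cases hex : ∃ x ∈ X, h⁻¹ * (x * h * x⁻¹) ∉ A
  · obtain ⟨x, hx, hdn⟩ := hex
    exact ⟨A, le_inf hAP hAX, inUniqueMaximal_of_extra hG hU hAc hAe hA2 (hdA x hx) (hdp x hx) hdn⟩
  · push Not at hex
    -- `X` centralizes `h`
    have hXh : ∀ x ∈ X, x * h = h * x := by
      intro x hx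
      set d := h⁻¹ * (x * h * x⁻¹) with hd
      have hdA' : d ∈ A := hex x hx
      have hxd : x * d = d * x := (Subgroup.mem_centralizer_iff.mp (hAX hdA') x hx)
      have hconj : x * h * x⁻¹ = h * d := by rw [hd]; group
      have hpow : ∀ n : ℕ, x ^ n * h * (x ^ n)⁻¹ = h * d ^ n := by
        intro n
        induction n with
        | zero => simp
        | succ n ih =>
          have hxdn : x * d ^ n = d ^ n * x := ((show Commute x d from hxd).pow_right n).eq
          calc x ^ (n + 1) * h * (x ^ (n + 1))⁻¹ = x * (x ^ n * h * (x ^ n)⁻¹) * x⁻¹ := by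
                rw [pow_succ']; group
            _ = x * (h * d ^ n) * x⁻¹ := by rw [ih]
            _ = (x * h * x⁻¹) * (x * d ^ n) * x⁻¹ := by group
            _ = (h * d) * (d ^ n * x) * x⁻¹ := by rw [hconj, hxdn]
            _ = h * d ^ (n + 1) := by rw [pow_succ']; group
      have h1 := hpow (orderOf x)
      rw [pow_orderOf_eq_one, one_mul, inv_one, mul_one] at h1
      have hdn : d ^ orderOf x = 1 := by
        have := congrArg (fun t => h⁻¹ * t) h1
        beta_reduce at this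
        rw [inv_mul_cancel, inv_mul_cancel_left] at this
        exact this.symm
      have ho1 : orderOf d ∣ orderOf x := orderOf_dvd_of_pow_eq_one hdn
      have ho2 : orderOf d ∣ p := orderOf_dvd_of_pow_eq_one (hdp x hx)
      have ho3 : orderOf x ∣ Nat.card ↥X := by
        have := orderOf_dvd_natCard (⟨x, hx⟩ : ↥X)
        rwa [Subgroup.orderOf_mk] at this
      have hd1 : d = 1 := by
        rw [← orderOf_eq_one_iff]
        exact Nat.eq_one_of_dvd_coprimes hXp (ho1.trans ho3) ho2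
      rw [hd1, mul_one] at hconj
      calc x * h = (x * h * x⁻¹) * x := by group
        _ = h * x := by rw [hconj]
    refine ⟨zpowers z ⊔ zpowers h, le_inf hg.le_P ?_, hEU⟩
    apply sup_le
    · rw [zpowers_le, Subgroup.mem_centralizer_iff]
      intro x hx
      exact hXz x hx
    · rw [zpowers_le, Subgroup.mem_centralizer_iff]
      intro x hx
      exact hXh x hx

end Main

section Statement

variable [Finite G]

/-- **Bender–Glauberman, Lemma 10.3** (with the Uniqueness Theorem as a hypothesis). -/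
theorem centralizer_statement (hG : IsMinSimpleOddOrder G) (hU : UniqHyp G) (M : Subgroup G)
    (hM : IsCoatom M) (X : Subgroup G) (hXM : X ≤ M)
    (hXα : ∀ p : ℕ, p.Prime → p ∣ Nat.card ↥X → p ∉ alpha M)
    (hr : ¬ RankLE 1 ↥(alphaCore M ⊓ centralizer (X : Set G))) :
    InUniqueMaximal (M ⊓ centralizer (X : Set G)) := by
  unfold RankLE at hr
  push Not at hr
  obtain ⟨q, hqq, hq1⟩ := hr
  have : Fact q.Prime := ⟨hqq⟩
  obtain ⟨A, hAKC, hAc, hAe, hA2⟩ := exists_elemAb_of_not_pRankLE hq1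
  rw [pow_one] at hA2
  have hAK : A ≤ alphaCore M := hAKC.trans inf_le_left
  have hAX : A ≤ centralizer (X : Set G) := hAKC.trans inf_le_right
  have hAq : IsPGroup q ↥A := isPGroup_of_exp hAe
  have hA1 : A ≠ ⊥ := by
    rintro rfl
    rw [Subgroup.card_bot] at hA2
    have := hqq.one_lt
    omega
  obtain ⟨hH1, hH2, -, -, -⟩ := Cfsg.Agent.Lib.Helper49_Alpha.alpha_statement hG hU M hM
  have hKM : alphaCore M ≤ M := hH1.1
  -- `q ∈ α(M)`
  have hqK : q ∣ Nat.card ↥(alphaCore M) := by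
    have h1 : q ∣ Nat.card ↥A := by
      obtain ⟨k, hk⟩ := IsPGroup.iff_card.mp hAq
      have hk0 : k ≠ 0 := by
        rintro rfl
        rw [pow_zero] at hk
        have := hqq.one_lt
        omega
      rw [hk]
      exact dvd_pow_self q hk0
    exact h1.trans (Subgroup.card_dvd_of_le hAK)
  have hqα : q ∈ alpha M := hH1.2.1 q hqq hqK
  -- coprime action of `X` on `M_α`
  have hXK : X ≤ normalizer ((alphaCore M : Subgroup G) : Set G) :=
    hXM.trans (le_normalizer_piCoreOf (alpha M) M)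
  have hcop : (Nat.card ↥X).Coprime (Nat.card ↥(alphaCore M)) := by
    by_contra hnc
    obtain ⟨r, hr, hrX, hrK⟩ := Nat.Prime.not_coprime_iff_dvd.mp hnc
    exact hXα r hr hrX (hH1.2.1 r hr hrK)
  have hsolv : Group.IsSolvable ↥(alphaCore M) :=
    Cfsg.Agent.Lib.Helper24_CoprimeAction.isSolvable_of_le hKM (hG.2.2.2 M hM.1)
  have hXA : X ≤ normalizer (A : Set G) := by
    refine le_trans ?_ (centralizer_le_normalizer _)
    intro x hx
    rw [Subgroup.mem_centralizer_iff]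
    intro a ha
    exact (Subgroup.mem_centralizer_iff.mp (hAX ha) x hx).symm
  obtain ⟨P, hAP, hXP⟩ := Cfsg.Agent.S0025.result X (alphaCore M) hXK hcop (Or.inr hsolv) q A hAK hAq hXA
  set PG : Subgroup G := (P : Subgroup ↥(alphaCore M)).map (alphaCore M).subtype with hPG
  have hPGp : IsPGroup q ↥PG := P.isPGroup'.map _
  have hPGK : PG ≤ alphaCore M := Subgroup.map_subtype_le _
  have hPGM : PG ≤ M := hPGK.trans hKM
  -- `PG` is a Sylow subgroup of `M`, of rank at least three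
  have hidx : ¬ q ∣ PG.index := by
    rw [hPG, Subgroup.index_map_subtype]
    intro hdvd
    rcases (Nat.Prime.dvd_mul hqq).mp hdvd with h | h
    · exact P.not_dvd_index h
    · exact hH2.2 q hqq hqα h
  have hSyl : IsSylowIn q PG M := by
    refine ⟨hPGM, hPGp, ?_⟩
    intro hdvd
    apply hidx
    rw [← Subgroup.relIndex_mul_index hPGM]
    exact hdvd.mul_right _
  have hP3 : ¬ PRankLE q 2 ↥PG := fun h => hqα.2 (pRankLE_of_sylow hSyl h)
  have hXq : (Nat.card ↥X).Coprime q := by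
    rw [Nat.coprime_comm]
    apply (Nat.Prime.coprime_iff_not_dvd hqq).mpr
    intro hdvd
    exact hXα q hqq hdvd hqα
  obtain ⟨A', hA', hA'U⟩ := exists_uniq_in_fixed hG hU hPGp hP3 hXP hXq hAP hAX hAc hAe hA2
  refine inUniqueMaximal_mono (E := A') ?_ ?_ hA'U
  · exact le_inf (hA'.trans (inf_le_left.trans hPGM)) (hA'.trans inf_le_right)
  · exact ne_top_of_le_ne_top hM.1 inf_le_left

end Statement

end Cfsg.Agent.Lib.Helper49_Alpha2
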