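import Mathlib
import Cfsg.Agent.Lib.Helper47_BG1214b
import Cfsg.Agent.Lib.Helper73_BG126
import Cfsg.Agent.Lib.Helper52_BG12d
import Cfsg.Agent.S1411
import Cfsg.Agent.S1405
import Cfsg.Agent.S1406

/-!
# Bender–Glauberman, Lemma 12.9-type facts (helper47): `p ∈ τ₂(M)` with abelian Sylow `p`-subgroups

`M` a maximal subgroup, `E` a complement of `M_σ`, `p ∈ τ₂(M)`, `A ≤ E` elementary abelian of order
`p ^ 2`, Sylow `p`-subgroups of `G` abelian.  Then the Sylow `p`-subgroup `P` of `E` is a Sylow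
`p`-subgroup of `G` and is normal in `N_G(A)`.
The statements S1416 (first clause) and S1417 are explicit hypotheses.
-/

set_option autoImplicit false

namespace Cfsg.Agent.Lib.Helper47_BG1211a

open Subgroup Cfsg Cfsg.Agent.Lib.Helper22_BGTrans Cfsg.Agent.Lib.Helper22_Radical
  Cfsg.Agent.Lib.Helper84_RelSylow Cfsg.Agent.Lib.Helper49_Sigma Cfsg.Agent.Lib.Helper24_CoprimeHall
  Cfsg.Agent.Lib.Helper49_Alpha Cfsg.Agent.Lib.Helper70_BG106 Cfsg.Agent.Lib.Helper70_BG1212
  Cfsg.Agent.Lib.Helper70_BG108 Cfsg.Agent.Lib.Helper70_BG1012 Cfsg.Agent.Lib.Helper73_BG12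
  Cfsg.Agent.Lib.Helper47_BG1214a Cfsg.Agent.Lib.Helper49_Alpha2 Cfsg.Agent.Lib.Helper49_Alpha3
  Cfsg.Agent.Lib.Helper73_BG126

open scoped commutatorElement

section General

/-- abstract: if `D.map (mk' K)` is nilpotent (`K, D` normal) and `P ≤ D` is a Sylow `p`-subgroup of
`X` with `p ∤ |K|`, then `P ⊔ K` is normal. -/
theorem sup_normal_of_nilpotent_quotient {X : Type*} [Group X] [Finite X] (K D : Subgroup X)
    [K.Normal] [D.Normal] (hnil : Group.IsNilpotent ↥(D.map (QuotientGroup.mk' K)))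
    {p : ℕ} [Fact p.Prime] (P : Sylow p X) (hPD : (P : Subgroup X) ≤ D)
    (hK : ¬ p ∣ Nat.card K) : ((P : Subgroup X) ⊔ K).Normal := by
  classical
  set π := QuotientGroup.mk' K with hπ
  have hπs : Function.Surjective π := QuotientGroup.mk'_surjective K
  set Db : Subgroup (X ⧸ K) := D.map π with hDb
  have hDbn : Db.Normal := Subgroup.Normal.map inferInstance π hπs
  have := hnil
  -- the Sylow `p`-subgroup of `Db`
  obtain ⟨S⟩ : Nonempty (Sylow p Db) := inferInstance
  have hSn : (S : Subgroup Db).Normal := inferInstance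
  have hSc : (S : Subgroup Db).Characteristic := Sylow.characteristic_of_normal S hSn
  set R : Subgroup (X ⧸ K) := (S : Subgroup Db).map Db.subtype with hR
  have hRn : R.Normal := ConjAct.normal_of_characteristic_of_normal
  set T : Subgroup X := R.comap π with hT
  have hTn : T.Normal := Subgroup.Normal.comap hRn π
  have hKT : K ≤ T := by
    intro k hk
    rw [hT, Subgroup.mem_comap]
    have : π k = 1 := by rw [hπ]; exact (QuotientGroup.eq_one_iff k).mpr hk
    rw [this]
    exact R.one_mem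
  have hPT : (P : Subgroup X) ≤ T := by
    -- the image of `P` in `Db` is a `p`-subgroup, hence in the unique Sylow
    have hPb : ((P : Subgroup X).map π) ≤ Db := Subgroup.map_mono hPD
    have hp1 : IsPGroup p (((P : Subgroup X).map π).subgroupOf Db) :=
      (P.isPGroup'.map π).comap_of_injective Db.subtype Db.subtype_injective
    obtain ⟨S', hS'⟩ := hp1.exists_le_sylow
    have := Sylow.unique_of_normal S hSn
    have hSS : S' = S := Subsingleton.elim _ _
    intro x hx
    rw [hT, Subgroup.mem_comap, hR]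
    have h1 : π x ∈ (P : Subgroup X).map π := Subgroup.mem_map_of_mem _ hx
    have h2 : (⟨π x, hPb h1⟩ : Db) ∈ ((P : Subgroup X).map π).subgroupOf Db := by
      rw [Subgroup.mem_subgroupOf]; exact h1
    have h3 := hS' h2
    rw [hSS] at h3
    exact ⟨⟨π x, hPb h1⟩, h3, rfl⟩
  have hle : (P : Subgroup X) ⊔ K ≤ T := sup_le hPT hKT
  -- cardinalities
  have hTeq : (P : Subgroup X) ⊔ K = T := by
    apply Subgroup.eq_of_le_of_card_ge hle
    -- `|T| = |R| * |K|`
    have hTc : Nat.card T = Nat.card R * Nat.card K := by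
      have h1 := Subgroup.card_eq_card_quotient_mul_card_subgroup (K.subgroupOf T)
      have h2 : Nat.card (K.subgroupOf T) = Nat.card K :=
        Nat.card_congr (Subgroup.subgroupOfEquivOfLe hKT).toEquiv
      have h3 : Nat.card (↥T ⧸ K.subgroupOf T) = Nat.card R := by
        -- `T / K ≃ R`
        have hmap : T.map π = R := Subgroup.map_comap_eq_self_of_surjective hπs R
        let f : T →* R := (π.comp T.subtype).codRestrict R (fun t => by
          rw [← hmap]; exact Subgroup.mem_map_of_mem _ t.2)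
        have hfv : ∀ t : T, ((f t : R) : X ⧸ K) = π (t : X) := fun t => rfl
        have hf : Function.Surjective f := by
          rintro ⟨r, hr⟩
          have hr' := hr
          rw [← hmap] at hr'
          obtain ⟨t, ht, rfl⟩ := hr'
          exact ⟨⟨t, ht⟩, Subtype.ext (hfv _)⟩
        have hker : f.ker = K.subgroupOf T := by
          ext t
          rw [MonoidHom.mem_ker, Subgroup.mem_subgroupOf]
          constructor
          · intro h
            have : π (t : X) = 1 := by rw [← hfv, h]; rfl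
            exact (QuotientGroup.eq_one_iff _).mp this
          · intro h
            apply Subtype.ext
            rw [hfv]
            exact (QuotientGroup.eq_one_iff _).mpr h
        have e := QuotientGroup.quotientKerEquivOfSurjective f hf
        rw [← hker]
        exact Nat.card_congr e.toEquiv
      rw [h1, h2, h3]
    -- `|R|` is a power of `p` dividing `|X| / |K|`
    have hRp : IsPGroup p R := S.isPGroup'.map _
    obtain ⟨n, hn⟩ := IsPGroup.iff_card.mp hRp
    have hpp : p.Prime := Fact.out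
    have hPK : Nat.card P * Nat.card K ≤ Nat.card ↥((P : Subgroup X) ⊔ K) := by
      have hcop : (Nat.card (P : Subgroup X)).Coprime (Nat.card K) := by
        obtain ⟨m, hm⟩ := IsPGroup.iff_card.mp P.isPGroup'
        rw [hm]
        exact Nat.Coprime.pow_left _ ((Nat.Prime.coprime_iff_not_dvd hpp).mpr hK)
      apply Nat.le_of_dvd Nat.card_pos
      exact Nat.Coprime.mul_dvd_of_dvd_of_dvd hcop (Subgroup.card_dvd_of_le le_sup_left)
        (Subgroup.card_dvd_of_le le_sup_right)
    rw [hTc]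
    refine le_trans (Nat.mul_le_mul_right _ ?_) hPK
    -- `|R| ≤ |P|`
    have hdvd : Nat.card R ∣ Nat.card X :=
      (Subgroup.card_subgroup_dvd_card R).trans (Subgroup.card_dvd_of_surjective π hπs)
    rw [hn] at hdvd ⊢
    rw [Sylow.card_eq_multiplicity]
    apply Nat.pow_le_pow_right hpp.pos
    exact (Nat.Prime.pow_dvd_iff_le_factorization hpp Nat.card_pos.ne').mp hdvd
  rw [hTeq]
  exact hTn

theorem commutator_normalizer_le_centralizer_of_isCyclic {X : Type*} [Group X] (Y : Subgroup X)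
    [hY : IsCyclic Y] :
    ⁅normalizer (Y : Set X), normalizer (Y : Set X)⁆ ≤ centralizer (Y : Set X) := by
  let _ := (hY.mulAutMulEquiv _).toMonoidHom.commGroupOfInjective (hY.mulAutMulEquiv _).injective
  have h := Abelianization.commutator_subset_ker Y.normalizerMonoidHom
  rw [Subgroup.normalizerMonoidHom_ker] at h
  rw [← Subgroup.map_subtype_commutator]
  intro x hx
  obtain ⟨y, hy, rfl⟩ := hx
  have := h hy
  rw [Subgroup.mem_subgroupOf] at this
  exact this

theorem commutator_le_centralizer_of_isCyclic_normal {X : Type*} [Group X] (Y : Subgroup X)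
    [hY : IsCyclic Y] [hn : Y.Normal] : commutator X ≤ centralizer (Y : Set X) := by
  have h := commutator_normalizer_le_centralizer_of_isCyclic Y
  rw [Subgroup.normalizer_eq_top] at h
  exact h

/-- a commutator element of order prime to `|C|` centralizes the normal `Z`-subgroup `C` -/
theorem mem_centralizer_of_mem_commutator_of_isZGroup {X : Type*} [Group X] [Finite X]
    (C : Subgroup X) [hCn : C.Normal] [hZ : IsZGroup C] {x : X} (hx : x ∈ commutator X)
    (hcop : (orderOf x).Coprime (Nat.card C)) : x ∈ centralizer (C : Set X) := by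
  set Y : Subgroup X := ⁅C, C⁆ with hYdef
  have hYC : Y ≤ C := Subgroup.commutator_le_self C
  have hYcyc : IsCyclic Y := by
    have e : commutator C ≃* Y := by
      have h1 : (commutator C).map C.subtype = Y := Subgroup.map_subtype_commutator C
      exact ((commutator C).equivMapOfInjective C.subtype C.subtype_injective).trans
        (MulEquiv.subgroupCongr h1)
    have : IsCyclic (commutator C) := IsZGroup.isCyclic_commutator C
    exact isCyclic_of_surjective e e.surjective
  have hYn : Y.Normal := Subgroup.commutator_normal C C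
  have hA : commutator X ≤ centralizer (Y : Set X) := commutator_le_centralizer_of_isCyclic_normal Y
  -- the quotient
  set π := QuotientGroup.mk' Y with hπ
  have hπs : Function.Surjective π := QuotientGroup.mk'_surjective Y
  set Cb : Subgroup (X ⧸ Y) := C.map π with hCb
  have hCbn : Cb.Normal := Subgroup.Normal.map hCn π hπs
  have hCbcyc : IsCyclic Cb := by
    let g : C →* Cb := (π.comp C.subtype).codRestrict Cb (fun c => Subgroup.mem_map_of_mem _ c.2)
    have hgv : ∀ c : C, ((g c : Cb) : X ⧸ Y) = π (c : X) := fun c => rfl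
    have hgs : Function.Surjective g := by
      rintro ⟨y, hy⟩
      have hy' := hy
      obtain ⟨c, hc, rfl⟩ := hy'
      exact ⟨⟨c, hc⟩, Subtype.ext (hgv _)⟩
    have hker : commutator C ≤ g.ker := by
      intro c hc
      rw [MonoidHom.mem_ker]
      apply Subtype.ext
      rw [hgv]
      have h1 : (c : X) ∈ Y := by
        rw [hYdef, ← Subgroup.map_subtype_commutator]
        exact Subgroup.mem_map_of_mem _ hc
      show π (c : X) = 1
      exact (QuotientGroup.eq_one_iff _).mpr h1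
    let f : Abelianization C →* Cb := QuotientGroup.lift (commutator C) g hker
    have hfs : Function.Surjective f := by
      intro y
      obtain ⟨c, rfl⟩ := hgs y
      exact ⟨QuotientGroup.mk c, rfl⟩
    exact isCyclic_of_surjective f hfs
  have hB : commutator (X ⧸ Y) ≤ centralizer (Cb : Set (X ⧸ Y)) :=
    commutator_le_centralizer_of_isCyclic_normal Cb
  have hπx : π x ∈ commutator (X ⧸ Y) := by
    have h1 : (commutator X).map π ≤ commutator (X ⧸ Y) := by
      rw [_root_.commutator_def, _root_.commutator_def, Subgroup.map_commutator]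
      exact Subgroup.commutator_mono le_top le_top
    exact h1 (Subgroup.mem_map_of_mem _ hx)
  rw [Subgroup.mem_centralizer_iff]
  intro c hc
  -- `d = x c x⁻¹ c⁻¹ ∈ Y`
  have hd : x * c * x⁻¹ * c⁻¹ ∈ Y := by
    have h1 := hB hπx
    rw [Subgroup.mem_centralizer_iff] at h1
    have h2 := h1 (π c) (Subgroup.mem_map_of_mem _ hc)
    have h3 : π (x * c * x⁻¹ * c⁻¹) = 1 := by
      rw [map_mul, map_mul, map_mul, map_inv, map_inv, ← h2]
      group
    exact (QuotientGroup.eq_one_iff _).mp h3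
  set d := x * c * x⁻¹ * c⁻¹ with hddef
  have hxd : x * d = d * x := by
    have := hA hx
    rw [Subgroup.mem_centralizer_iff] at this
    exact (this d hd).symm
  have hpow : ∀ k : ℕ, x ^ k * c * (x ^ k)⁻¹ = d ^ k * c := by
    intro k
    induction k with
    | zero => simp
    | succ k ih =>
      have hxdk : x * d ^ k = d ^ k * x := by
        have : Commute x d := hxd
        exact (this.pow_right k).eq
      calc x ^ (k + 1) * c * (x ^ (k + 1))⁻¹ = x * (x ^ k * c * (x ^ k)⁻¹) * x⁻¹ := by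
            rw [pow_succ']; group
        _ = x * (d ^ k * c) * x⁻¹ := by rw [ih]
        _ = (x * d ^ k) * (c * x⁻¹) := by group
        _ = d ^ k * x * (c * x⁻¹) := by rw [hxdk]
        _ = d ^ k * (x * c * x⁻¹ * c⁻¹) * c := by group
        _ = d ^ (k + 1) * c := by rw [← hddef, pow_succ]
  have h1 := hpow (orderOf x)
  rw [pow_orderOf_eq_one, one_mul, inv_one, mul_one] at h1
  have hdk : d ^ orderOf x = 1 := by
    have : d ^ orderOf x * c = 1 * c := by rw [one_mul, ← h1]
    exact mul_right_cancel this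
  have hdC : d ^ Nat.card C = 1 := by
    have : (⟨d, hYC hd⟩ : C) ^ Nat.card C = 1 := pow_card_eq_one'
    exact congrArg Subtype.val this
  have hd1 : d = 1 := by
    have h2 : orderOf d ∣ orderOf x := orderOf_dvd_of_pow_eq_one hdk
    have h3 : orderOf d ∣ Nat.card C := orderOf_dvd_of_pow_eq_one hdC
    have h4 : orderOf d = 1 := Nat.eq_one_of_dvd_coprimes hcop h2 h3
    exact orderOf_eq_one_iff.mp h4
  have : x * c * x⁻¹ * c⁻¹ = 1 := hd1
  calc c * x = (x * c * x⁻¹ * c⁻¹)⁻¹ * (x * c) := by group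
    _ = x * c := by rw [this]; simp

end General

universe u

variable {G : Type u} [Group G] [Finite G]

/-- the Sylow `p`-subgroup of `E` over `A` is an abelian Sylow `p`-subgroup of `G` with `Ω₁ = A` -/
theorem sylow_data (hG : IsMinSimpleOddOrder G) (hC : CentHyp G) (h17 : Hyp1417Full G)
    {M : Subgroup G} (hM : IsCoatom M) {E : Subgroup G} (hE : IsComplIn E (sigmaCore M) M)
    {p : ℕ} [Fact p.Prime] (hp : p ∈ tau2 M) {A : Subgroup G} (hAE : A ≤ E)
    (hAe : IsElementaryAbelian p A) (hA2 : Nat.card A = p ^ 2)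
    (hab : ∀ S : Sylow p G, IsMulCommutative (S : Subgroup G)) :
    ∃ P : Subgroup G, A ≤ P ∧ P ≤ E ∧ IsSylowIn p P ⊤ ∧ (∀ a ∈ P, ∀ b ∈ P, a * b = b * a) ∧
      (∀ x ∈ P, x ^ p = 1 ↔ x ∈ A) ∧ ¬ normalizer (P : Set G) ≤ M := by
  have hpp : p.Prime := Fact.out
  have hAM : A ≤ M := hAE.trans hE.1
  have hAp : IsPGroup p A := isPGroup_of_exp hAe.2
  obtain ⟨P₀, hAP₀⟩ := Cfsg.Agent.Lib.Helper52_BG12d.exists_sylow_map_ge hAM hAp
  obtain ⟨-, hb, -, -, -, -⟩ := h17 M hM p hp A ⟨hAM, hAe, hA2⟩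
  obtain ⟨hP₀c, hP₀⟩ := hb P₀
  obtain ⟨hΩ, hN⟩ := hP₀ hAP₀
  set P : Subgroup G := (P₀ : Subgroup M).map M.subtype with hPdef
  have hPM : P ≤ M := Subgroup.map_subtype_le _
  have hPp : IsPGroup p P := P₀.isPGroup'.map _
  -- a Sylow `p`-subgroup `S` of `G` over `P`
  obtain ⟨S, hPS⟩ := hPp.exists_le_sylow
  have hSc := hab S
  have hSA : (S : Subgroup G) ≤ centralizer (A : Set G) := by
    intro s hs
    rw [Subgroup.mem_centralizer_iff]
    intro a ha
    have h1 : a ∈ (S : Subgroup G) := hPS (hAP₀ ha)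
    have := hSc.is_comm.comm ⟨a, h1⟩ ⟨s, hs⟩
    exact congrArg Subtype.val this
  have hCM : centralizer (A : Set G) ≤ M := hC M hM p A hAM hAe hA2
  have hSM : (S : Subgroup G) ≤ M := hSA.trans hCM
  have hSP : (S : Subgroup G) = P := by
    have h1 : (S : Subgroup G).subgroupOf M = (P₀ : Subgroup M) := by
      apply P₀.is_maximal' (S.isPGroup'.comap_of_injective M.subtype M.subtype_injective)
      intro x hx
      show (x : G) ∈ (S : Subgroup G)
      exact hPS (Subgroup.mem_map_of_mem _ hx)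
    rw [hPdef, ← h1, Subgroup.map_subgroupOf_eq_of_le hSM]
  have s18 := statement_S1418 hG hC h17 M hM E hE hp A ⟨hAE, hAe, hA2⟩
  obtain ⟨-, ⟨hCA, hMN, -⟩, -⟩ := s18
  refine ⟨P, hAP₀, ?_, ?_, ?_, hΩ, hN⟩
  · rw [← hSP, ← hMN]
    exact hSA.trans hCA
  · refine ⟨le_top, hPp, ?_⟩
    rw [Subgroup.relIndex_top_right, ← hSP]
    exact S.not_dvd_index
  · intro a ha b hb
    have := hP₀c.is_comm.comm
    obtain ⟨a', ha', rfl⟩ := ha
    obtain ⟨b', hb', rfl⟩ := hb
    have h2 := this ⟨a', ha'⟩ ⟨b', hb'⟩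
    have h3 := congrArg (fun z : (P₀ : Subgroup M) => ((z : M) : G)) h2
    simpa using h3

/-- if `P` is a Sylow `p`-subgroup of `G` whose elements of order dividing `p` form a subgroup `A` of
order `p ^ 2`, then `G` has `p`-rank at most 2 -/
theorem pRankLE_two_of_omega {p : ℕ} [Fact p.Prime] {A P : Subgroup G} (hPS : IsSylowIn p P ⊤)
    (hΩ : ∀ x ∈ P, x ^ p = 1 ↔ x ∈ A) (hA2 : Nat.card A = p ^ 2) : PRankLE p 2 G := by
  intro B _ hBp
  have hBpg : IsPGroup p B := isPGroup_of_exp hBp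
  obtain ⟨g, -, hg⟩ := hPS.exists_conj_le (K := B) le_top hBpg
  have hle : cj g B ≤ A := by
    rintro _ ⟨b, hb, rfl⟩
    have h1 : g * b * g⁻¹ ∈ P := hg b hb
    apply (hΩ _ h1).mp
    show (g * b * g⁻¹) ^ p = 1
    rw [conj_pow, hBp b hb, mul_one, mul_inv_cancel]
  calc Nat.card B = Nat.card (cj g B) := (card_cj g B).symm
    _ ≤ Nat.card A := Nat.le_of_dvd Nat.card_pos (Subgroup.card_dvd_of_le hle)
    _ = p ^ 2 := hA2

/-- a Sylow subgroup of a minimal simple group of odd order lies in the derived group of its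
normalizer (from S1411) -/
theorem sylow_le_commutator_normalizer (hG : IsMinSimpleOddOrder G) {p : ℕ} [Fact p.Prime]
    {T : Subgroup G} (hT : IsSylowIn p T ⊤) :
    T ≤ ⁅normalizer (T : Set G), normalizer (T : Set G)⁆ := by
  have hpp : p.Prime := Fact.out
  have hTp : IsPGroup p T := hT.isPGroup
  have hTn : (T.subgroupOf (normalizer (T : Set G))).Normal := Subgroup.normal_in_normalizer
  have hSN : IsSylowIn p T (normalizer (T : Set G)) := hT.mono le_normalizer le_top
  have hcop : (Nat.card ↥(T.subgroupOf (normalizer (T : Set G)))).Coprime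
      (T.subgroupOf (normalizer (T : Set G))).index := by
    obtain ⟨k', hk'⟩ := IsPGroup.iff_card.mp
      (hTp.comap_of_injective (normalizer (T : Set G)).subtype (normalizer (T : Set G)).subtype_injective)
    have hk'' : Nat.card ↥(T.subgroupOf (normalizer (T : Set G))) = p ^ k' := hk'
    rw [hk'']
    apply Nat.Coprime.pow_left
    rw [Nat.Prime.coprime_iff_not_dvd hpp]
    exact hSN.2.2
  obtain ⟨V₀, hV₀⟩ := Subgroup.exists_right_complement'_of_coprime hcop
  have hV : IsComplIn T (V₀.map (normalizer (T : Set G)).subtype) (normalizer (T : Set G)) := by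
    refine ⟨le_normalizer, Subgroup.map_subtype_le _, ?_, ?_⟩
    · rw [eq_bot_iff]
      rintro x ⟨hxT, ⟨y, hy, rfl⟩⟩
      have h1 : y ∈ T.subgroupOf (normalizer (T : Set G)) ⊓ V₀ :=
        Subgroup.mem_inf.mpr ⟨Subgroup.mem_subgroupOf.mpr hxT, hy⟩
      rw [hV₀.disjoint.eq_bot, Subgroup.mem_bot] at h1
      rw [h1]
      exact Subgroup.mem_bot.mpr rfl
    · intro m hm
      obtain ⟨⟨⟨a, ha⟩, ⟨b, hb⟩⟩, hab, -⟩ := hV₀.existsUnique ⟨m, hm⟩
      refine ⟨a.1, Subgroup.mem_subgroupOf.mp ha, b.1, ⟨b, hb, rfl⟩, ?_⟩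
      have := congrArg Subtype.val hab
      simpa using this.symm
  -- `T` as a Sylow subgroup
  let S : Sylow p G := IsPGroup.toSylow hTp (by
    have := hT.2.2
    rwa [Subgroup.relIndex_top_right] at this)
  have hST : (S : Subgroup G) = T := IsPGroup.toSylow_coe _ _
  have := (Cfsg.Agent.S1411.result hG p S (V₀.map (normalizer (T : Set G)).subtype) (by rw [hST]; exact hV)).2
  rw [hST] at this
  exact this


/-- if every element is a product `d * n` with `d ∈ K` (normal), `n ∈ N`, then `|X : N|` divides `|K|` -/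
theorem index_dvd_card_of_forall_mul {X : Type*} [Group X] [Finite X] (K N : Subgroup X) [K.Normal]
    (h : ∀ t : X, ∃ d ∈ K, ∃ n ∈ N, t = d * n) : N.index ∣ Nat.card K := by
  set f : N →* X ⧸ K := (QuotientGroup.mk' K).comp N.subtype with hf
  have hfs : Function.Surjective f := by
    intro q
    obtain ⟨t, rfl⟩ := QuotientGroup.mk'_surjective K q
    obtain ⟨d, hd, n, hn, rfl⟩ := h t
    refine ⟨⟨n, hn⟩, ?_⟩
    show QuotientGroup.mk' K n = QuotientGroup.mk' K (d * n)
    have hd' : QuotientGroup.mk' K d = 1 := (QuotientGroup.eq_one_iff d).mpr hd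
    rw [map_mul, hd', one_mul]
  have h1 : Nat.card (X ⧸ K) ∣ Nat.card N := Subgroup.card_dvd_of_surjective f hfs
  have h2 : Nat.card X = Nat.card (X ⧸ K) * Nat.card K :=
    Subgroup.card_eq_card_quotient_mul_card_subgroup K
  have h3 : Nat.card N * N.index = Nat.card X := Subgroup.card_mul_index N
  obtain ⟨m, hm⟩ := h1
  have hpos : 0 < Nat.card (X ⧸ K) := Nat.card_pos
  have h4 : Nat.card (X ⧸ K) * (m * N.index) = Nat.card (X ⧸ K) * Nat.card K := by
    rw [← h2, ← h3, hm, mul_assoc]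
  have h5 := Nat.eq_of_mul_eq_mul_left hpos h4
  exact Dvd.intro_left m h5

/-- **B-G Lemma 12.9-type structure**: `N_G(A)` normalizes the Sylow `p`-subgroup `P` with `Ω₁(P) = A`,
lies in a maximal subgroup `L` with `p ∈ σ(L)`, and `|L : N_G(A)|` is a `σ(L)`-number. -/
theorem normalizer_structure (hG : IsMinSimpleOddOrder G) (hU : UniqHyp G) (h44 : H1444.{u})
    (hC : CentHyp G) (h17 : Hyp1417Full G) {M : Subgroup G} (hM : IsCoatom M) {E : Subgroup G}
    (hE : IsComplIn E (sigmaCore M) M) {p : ℕ} [Fact p.Prime] (hp : p ∈ tau2 M) {A : Subgroup G}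
    (hAE : A ≤ E) (hAe : IsElementaryAbelian p A) (hA2 : Nat.card A = p ^ 2)
    {P : Subgroup G} (hAP : A ≤ P) (hPS : IsSylowIn p P ⊤)
    (hΩ : ∀ x ∈ P, x ^ p = 1 ↔ x ∈ A) :
    normalizer (A : Set G) ≤ normalizer (P : Set G) ∧
    ∃ L : Subgroup G, IsCoatom L ∧ normalizer (A : Set G) ≤ L ∧ p ∈ sigma L ∧
      (∀ r : ℕ, r.Prime → r ∉ sigma L → ¬ r ∣ (normalizer (A : Set G)).relIndex L) := by
  have hpp : p.Prime := Fact.out
  have hAM : A ≤ M := hAE.trans hE.1
  have hPp : IsPGroup p P := hPS.isPGroup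
  set N := normalizer (A : Set G) with hN
  have hNPN : normalizer (P : Set G) ≤ N :=
    Cfsg.Agent.Lib.Helper52_BG12d.normalizer_le_normalizer_of_omega hAP hΩ
  have hPN : P ≤ N := le_normalizer.trans hNPN
  have s18 := statement_S1418 hG hC h17 M hM E hE hp A ⟨hAE, hAe, hA2⟩
  obtain ⟨-, ⟨hCA, hMN, hNM⟩, -⟩ := s18
  have hCM : centralizer (A : Set G) ≤ M := hCA.trans inf_le_left
  have hA1 : A ≠ ⊥ := by
    intro h
    rw [h, Subgroup.card_bot] at hA2
    have : 1 < p ^ 2 := Nat.one_lt_pow (by norm_num) hpp.one_lt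
    omega
  have hAtop : A ≠ ⊤ := ne_top_of_le_ne_top hM.1 hAM
  have hNtop : N ≠ ⊤ := normalizer_ne_top hG hA1 hAtop
  obtain ⟨L, hL, hNL⟩ := Cfsg.Agent.Lib.Helper22_Uniq.exists_isCoatom_ge hNtop
  have hLM : L ≠ M := fun h => hNM (h ▸ hNL)
  have hPL : P ≤ L := hPN.trans hNL
  have hAL : A ≤ L := hAP.trans hPL
  have hP1 : P ≠ ⊥ := fun h => hA1 (le_bot_iff.mp (h ▸ hAP))
  have hPSL : IsSylowIn p P L := hPS.mono hPL le_top
  have hpL : p ∈ sigma L := mem_sigma_of_normalizer_le hPSL hP1 (hNPN.trans hNL)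
  have hr2 : PRankLE p 2 G := pRankLE_two_of_omega hPS hΩ hA2
  have hr2L : PRankLE p 2 ↥L :=
    Cfsg.Agent.Lib.Helper2_PRank.pRankLE_of_injective' p 2 L.subtype L.subtype_injective hr2
  have hpα : p ∉ alpha L := fun h => h.2 hr2L
  have hPσ : P ≤ sigmaCore L :=
    Cfsg.Agent.Lib.Helper52_BG12a.le_sigmaCore_of_isPGroup hG hU h44 hL hpL hPp hPL
  -- inside `↥L`
  set K : Subgroup ↥L := piCore (alpha L) ↥L with hK
  have hPcomm : P.subgroupOf L ≤ commutator ↥L := by
    have h1 : P.subgroupOf L ≤ piCore (sigma L) ↥L := by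
      intro x hx
      obtain ⟨y, hy, hyx⟩ := hPσ (Subgroup.mem_subgroupOf.mp hx)
      have : y = x := Subtype.ext hyx
      rwa [← this]
    exact h1.trans (piCore_sigma_le_commutator hG hU L hL)
  have hnil := (Cfsg.Agent.S1405.result hG L hL).2.2.2.2
  have hpK : ¬ p ∣ Nat.card K := fun h => hpα (Cfsg.Agent.Lib.Helper32_Cores.card_piCore (alpha L) p hpp h)
  have hQ := sup_normal_of_nilpotent_quotient K (commutator ↥L) hnil hPSL.toSylow
    (by rw [IsSylowIn.coe_toSylow]; exact hPcomm) hpK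
  rw [IsSylowIn.coe_toSylow] at hQ
  set Lα := alphaCore L with hLα
  have hLαL : Lα ≤ L := Cfsg.Agent.Lib.Helper52_BG12a.alphaCore_le L
  have hLn' : L ≤ normalizer (Lα : Set G) := Cfsg.Agent.Lib.Helper52_BG12a.le_normalizer_alphaCore L
  have hLn : L ≤ normalizer ((P ⊔ Lα : Subgroup G) : Set G) := by
    have h1 := Cfsg.Agent.Lib.Helper52_BG12a.le_normalizer_map_subtype L (P.subgroupOf L ⊔ K)
    rw [Subgroup.map_sup, Subgroup.map_subgroupOf_eq_of_le hPL] at h1
    exact h1
  have hcardLα : Nat.card Lα = Nat.card K :=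
    Nat.card_congr (K.equivMapOfInjective L.subtype L.subtype_injective).symm.toEquiv
  have hLαα : ∀ q : ℕ, q.Prime → q ∣ Nat.card Lα → q ∈ alpha L := by
    intro q hq hd
    rw [hcardLα] at hd
    exact Cfsg.Agent.Lib.Helper32_Cores.card_piCore (alpha L) q hq hd
  have hpLα : ¬ p ∣ Nat.card Lα := fun h => hpα (hLαα p hpp h)
  have hcopP : (Nat.card P).Coprime (Nat.card Lα) := by
    obtain ⟨k, hk⟩ := IsPGroup.iff_card.mp hPp
    rw [hk]
    exact Nat.Coprime.pow_left _ ((Nat.Prime.coprime_iff_not_dvd hpp).mpr hpLα)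
  -- `C_α`
  set Cα : Subgroup G := N ⊓ Lα with hCα
  have hcopC : (Nat.card P).Coprime (Nat.card Cα) :=
    Nat.Coprime.coprime_dvd_right (Subgroup.card_dvd_of_le inf_le_right) hcopP
  have hCαA : Cα ≤ centralizer (A : Set G) := by
    intro c hc
    rw [Subgroup.mem_centralizer_iff]
    intro a ha
    have h1 : c * a * c⁻¹ ∈ A := (Subgroup.mem_normalizer_iff.mp hc.1 a).mp ha
    have h2 : a * c * a⁻¹ ∈ Lα := (Subgroup.mem_normalizer_iff.mp (hLn' (hAL ha)) c).mp hc.2
    have h3 : c * a * c⁻¹ * a⁻¹ ∈ A ⊓ Lα := by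
      refine ⟨A.mul_mem h1 (A.inv_mem ha), ?_⟩
      have h4 : a * c⁻¹ * a⁻¹ ∈ Lα := by
        have := Lα.inv_mem h2
        have e : (a * c * a⁻¹)⁻¹ = a * c⁻¹ * a⁻¹ := by group
        rwa [e] at this
      have h5 := Lα.mul_mem hc.2 h4
      have e : c * (a * c⁻¹ * a⁻¹) = c * a * c⁻¹ * a⁻¹ := by group
      rwa [e] at h5
    have h6 : A ⊓ Lα = ⊥ := by
      exact (Subgroup.disjoint_of_coprime_natCard
        (Nat.Coprime.coprime_dvd_left (Subgroup.card_dvd_of_le hAP) hcopP)).eq_bot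
    rw [h6, Subgroup.mem_bot] at h3
    calc a * c = (c * a * c⁻¹ * a⁻¹)⁻¹ * (c * a) := by group
      _ = c * a := by rw [h3]; simp
  have hZ : IsZGroup ↥Cα := by
    by_contra hZ
    have hCeq : Cα = Lα ⊓ centralizer (A : Set G) :=
      le_antisymm (le_inf inf_le_right hCαA)
        (le_inf (inf_le_right.trans (Subgroup.centralizer_le_normalizer _)) inf_le_left)
    have h1 := not_rankLE_one_of_not_isZGroup hG hZ
    rw [hCeq] at h1
    have h2 := Cfsg.Agent.S1406.result hG L hL A hAL (fun q hq hqA hqα => by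
      rw [hA2] at hqA
      have := (Nat.prime_dvd_prime_iff_eq hq hpp).mp (hq.dvd_of_dvd_pow hqA)
      exact hpα (this ▸ hqα)) h1
    obtain ⟨M₀, -, huniq⟩ := h2
    have e1 : L = M₀ := huniq L ⟨hL, inf_le_left⟩
    have e2 : M = M₀ := huniq M ⟨hM, inf_le_right.trans hCM⟩
    exact hLM (e1.trans e2.symm)
  -- `P` centralizes `C_α`
  have hPcen : P ≤ centralizer (Cα : Set G) := by
    intro x hx
    have h1 : x ∈ ⁅N, N⁆ :=
      Subgroup.commutator_mono hNPN hNPN (sylow_le_commutator_normalizer hG hPS hx)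
    have h2 : (⟨x, hPN hx⟩ : ↥N) ∈ commutator ↥N := by
      rw [← Subgroup.map_subtype_commutator N] at h1
      obtain ⟨y, hy, hyx⟩ := h1
      have : y = ⟨x, hPN hx⟩ := Subtype.ext hyx
      rwa [← this]
    set C' : Subgroup ↥N := Cα.subgroupOf N with hC'
    have hCαN : Cα ≤ N := inf_le_left
    have hC'n : C'.Normal := by
      rw [hC', Subgroup.normal_subgroupOf_iff_le_normalizer hCαN]
      exact (le_inf le_normalizer (hNL.trans hLn')).trans Subgroup.inf_normalizer_le_normalizer_inf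
    have hC'Z : IsZGroup ↥C' :=
      IsZGroup.of_injective (f := (Subgroup.subgroupOfEquivOfLe hCαN).toMonoidHom)
        (Subgroup.subgroupOfEquivOfLe hCαN).injective
    have hcop : (orderOf (⟨x, hPN hx⟩ : ↥N)).Coprime (Nat.card C') := by
      have e1 : Nat.card C' = Nat.card Cα := Nat.card_congr (Subgroup.subgroupOfEquivOfLe hCαN).toEquiv
      have e2 : orderOf (⟨x, hPN hx⟩ : ↥N) = orderOf x := Subgroup.orderOf_mk x (hPN hx)
      rw [e1, e2]
      have h3 : orderOf x ∣ Nat.card P := by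
        have := orderOf_dvd_natCard (⟨x, hx⟩ : ↥P)
        rwa [Subgroup.orderOf_mk] at this
      exact Nat.Coprime.coprime_dvd_left h3 hcopC
    have h3 := mem_centralizer_of_mem_commutator_of_isZGroup C' h2 hcop
    rw [Subgroup.mem_centralizer_iff] at h3 ⊢
    intro c hc
    have := h3 ⟨c, hc.1⟩ (Subgroup.mem_subgroupOf.mpr hc)
    exact congrArg Subtype.val this
  -- `N` normalizes `P`
  have hkey : ∀ n ∈ N, ∀ x ∈ P, n * x * n⁻¹ ∈ P := by
    intro n hn x hx
    have h1 : n * x * n⁻¹ ∈ P ⊔ Lα :=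
      (Subgroup.mem_normalizer_iff.mp (hLn (hNL hn)) x).mp (Subgroup.mem_sup_left hx)
    obtain ⟨a, ha, d, hd, hxad⟩ :=
      Cfsg.Agent.Lib.Helper1_CRBasic.exists_mul_of_mem_sup (hPL.trans hLn') h1
    have hdN : d ∈ N := by
      have : d = a⁻¹ * (n * x * n⁻¹) := by rw [hxad]; group
      rw [this]
      exact N.mul_mem (N.inv_mem (hPN ha)) (N.mul_mem (N.mul_mem hn (hPN hx)) (N.inv_mem hn))
    have hdC : d ∈ Cα := ⟨hdN, hd⟩
    have hcomm : Commute a d := by
      have := hPcen ha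
      rw [Subgroup.mem_centralizer_iff] at this
      exact (this d hdC).symm
    have hxP : x ^ Nat.card P = 1 := by
      have : (⟨x, hx⟩ : ↥P) ^ Nat.card P = 1 := pow_card_eq_one'
      exact congrArg Subtype.val this
    have haP : a ^ Nat.card P = 1 := by
      have : (⟨a, ha⟩ : ↥P) ^ Nat.card P = 1 := pow_card_eq_one'
      exact congrArg Subtype.val this
    have h2 : (n * x * n⁻¹) ^ Nat.card P = 1 := by
      rw [conj_pow, hxP, mul_one, mul_inv_cancel]
    have h4 : d ^ Nat.card P = 1 := by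
      have := hcomm.mul_pow (Nat.card P)
      rw [← hxad, h2, haP, one_mul] at this
      exact this.symm
    have h5 : d ^ Nat.card Cα = 1 := by
      have : (⟨d, hdC⟩ : ↥Cα) ^ Nat.card Cα = 1 := pow_card_eq_one'
      exact congrArg Subtype.val this
    have hd1 : d = 1 := by
      have h6 : orderOf d ∣ Nat.card P := orderOf_dvd_of_pow_eq_one h4
      have h7 : orderOf d ∣ Nat.card Cα := orderOf_dvd_of_pow_eq_one h5
      exact orderOf_eq_one_iff.mp (Nat.eq_one_of_dvd_coprimes hcopC h6 h7)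
    rw [hxad, hd1, mul_one]
    exact ha
  have hNP : N ≤ normalizer (P : Set G) := by
    intro n hn
    rw [Subgroup.mem_normalizer_iff]
    intro x
    refine ⟨hkey n hn x, fun h => ?_⟩
    have := hkey n⁻¹ (N.inv_mem hn) _ h
    have e : n⁻¹ * (n * x * n⁻¹) * n⁻¹⁻¹ = x := by group
    rwa [e] at this
  refine ⟨hNP, L, hL, hNL, hpL, ?_⟩
  intro r hr hrσ hdvd
  have h1 : (N.subgroupOf L).index ∣ Nat.card K := by
    apply index_dvd_card_of_forall_mul
    intro t
    have hPSK : IsSylowIn p P (P ⊔ Lα) := hPS.mono le_sup_left le_top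
    obtain ⟨k, hk, hkt⟩ := frattini_isSylowIn hPSK (hLn t.2)
    obtain ⟨a, ha, d, hd, hkad⟩ :=
      Cfsg.Agent.Lib.Helper1_CRBasic.exists_mul_of_mem_sup (hPL.trans hLn') hk
    have hdK : (⟨d⁻¹, hLαL (Lα.inv_mem hd)⟩ : ↥L) ∈ K := by
      obtain ⟨y, hy, hyd⟩ := Lα.inv_mem hd
      have : y = ⟨d⁻¹, hLαL (Lα.inv_mem hd)⟩ := Subtype.ext hyd
      rwa [← this]
    have hn : a⁻¹ * (k * (t : G)) ∈ N := N.mul_mem (N.inv_mem (hPN ha)) (hNPN hkt)
    refine ⟨⟨d⁻¹, hLαL (Lα.inv_mem hd)⟩, hdK, ⟨a⁻¹ * (k * (t : G)), hNL hn⟩,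
      Subgroup.mem_subgroupOf.mpr hn, ?_⟩
    apply Subtype.ext
    show (t : G) = d⁻¹ * (a⁻¹ * (k * (t : G)))
    rw [hkad]
    group
  have h2 : r ∣ Nat.card K := hdvd.trans h1
  exact hrσ (mem_sigma_of_mem_alpha hG hU hL (Cfsg.Agent.Lib.Helper32_Cores.card_piCore (alpha L) r hr h2))

/-- **P3** (without the clause `N_G(A)' ≤ C_G(A)`, which is `Helper13_BG1211b`) -/
theorem abelian_case_structure (hG : IsMinSimpleOddOrder G) (hU : UniqHyp G) (h44 : H1444.{u})
    (hC : CentHyp G) (h17 : Hyp1417Full G) {M : Subgroup G} (hM : IsCoatom M) {E : Subgroup G}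
    (hE : IsComplIn E (sigmaCore M) M) {p : ℕ} [Fact p.Prime] (hp : p ∈ tau2 M) {A : Subgroup G}
    (hAE : A ≤ E) (hAe : IsElementaryAbelian p A) (hA2 : Nat.card A = p ^ 2)
    (hab : ∀ S : Sylow p G, IsMulCommutative (S : Subgroup G)) :
    ∃ P L : Subgroup G, A ≤ P ∧ P ≤ E ∧ IsSylowIn p P ⊤ ∧ IsMulCommutative P ∧
      (∀ x ∈ P, x ^ p = 1 ↔ x ∈ A) ∧ ¬ normalizer (P : Set G) ≤ M ∧
      normalizer (A : Set G) ≤ normalizer (P : Set G) ∧
      IsCoatom L ∧ normalizer (A : Set G) ≤ L ∧ p ∈ sigma L ∧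
      (∀ r : ℕ, r.Prime → r ∉ sigma L → ¬ r ∣ (normalizer (A : Set G)).relIndex L) := by
  obtain ⟨P, hAP, hPE, hPS, hPc, hΩ, hNPM⟩ := sylow_data hG hC h17 hM hE hp hAE hAe hA2 hab
  obtain ⟨hNP, L, hL, hNL, hpL, hidx⟩ :=
    normalizer_structure hG hU h44 hC h17 hM hE hp hAE hAe hA2 hAP hPS hΩ
  refine ⟨P, L, hAP, hPE, hPS, ⟨⟨fun a b => ?_⟩⟩, hΩ, hNPM, hNP, hL, hNL, hpL, hidx⟩
  exact Subtype.ext (hPc a.1 a.2 b.1 b.2)

end Cfsg.Agent.Lib.Helper47_BG1211a
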