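import Mathlib
import Cfsg.Prelude.Def_Transfer

/-!
Conjugate subgroups `cj g H = g H g⁻¹` (as `H.map (MulAut.conj g).toMonoidHom`, the form used in the
statements), with basic API, and Sylow conjugacy inside a subgroup.
-/

set_option autoImplicit false

namespace Cfsg.Agent.Lib.Helper53_Conj

variable {G : Type*} [Group G]

/-- conjugate subgroup `g H g⁻¹` -/
abbrev cj (g : G) (H : Subgroup G) : Subgroup G := H.map (MulAut.conj g).toMonoidHom

theorem mem_cj {g x : G} {H : Subgroup G} : x ∈ cj g H ↔ g⁻¹ * x * g ∈ H := by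
  constructor
  · rintro ⟨a, ha, rfl⟩
    have : g⁻¹ * (g * a * g⁻¹) * g = a := by group
    simpa [this] using ha
  · intro h
    refine ⟨g⁻¹ * x * g, h, ?_⟩
    show g * (g⁻¹ * x * g) * g⁻¹ = x
    group

theorem conj_mem_cj {g a : G} {H : Subgroup G} (ha : a ∈ H) : g * a * g⁻¹ ∈ cj g H :=
  ⟨a, ha, rfl⟩

theorem cj_le_iff {g : G} {H K : Subgroup G} : cj g H ≤ K ↔ ∀ a ∈ H, g * a * g⁻¹ ∈ K := by
  constructor
  · intro h a ha
    exact h (conj_mem_cj ha)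
  · rintro h _ ⟨a, ha, rfl⟩
    exact h a ha

theorem cj_mul (g h : G) (H : Subgroup G) : cj (g * h) H = cj g (cj h H) := by
  ext x
  simp only [mem_cj]
  have : (g * h)⁻¹ * x * (g * h) = h⁻¹ * (g⁻¹ * x * g) * h := by group
  rw [this]

theorem cj_one (H : Subgroup G) : cj 1 H = H := by
  ext x
  simp

theorem cj_inv_cj (g : G) (H : Subgroup G) : cj g⁻¹ (cj g H) = H := by
  rw [← cj_mul, inv_mul_cancel, cj_one]

theorem cj_cj_inv (g : G) (H : Subgroup G) : cj g (cj g⁻¹ H) = H := by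
  rw [← cj_mul, mul_inv_cancel, cj_one]

theorem cj_mono {g : G} {H K : Subgroup G} (h : H ≤ K) : cj g H ≤ cj g K :=
  Subgroup.map_mono h

theorem cj_le_cj_iff {g : G} {H K : Subgroup G} : cj g H ≤ cj g K ↔ H ≤ K := by
  constructor
  · intro h
    have := cj_mono (g := g⁻¹) h
    rwa [cj_inv_cj, cj_inv_cj] at this
  · exact cj_mono

theorem cj_le_iff_le_cj_inv {g : G} {H K : Subgroup G} : cj g H ≤ K ↔ H ≤ cj g⁻¹ K := by
  rw [← cj_le_cj_iff (g := g⁻¹), cj_inv_cj]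

theorem cj_injective (g : G) : Function.Injective (cj g : Subgroup G → Subgroup G) := by
  intro H K h
  have := congrArg (cj g⁻¹) h
  rwa [cj_inv_cj, cj_inv_cj] at this

/-- the isomorphism `H ≃* g H g⁻¹` -/
noncomputable def cjEquiv (g : G) (H : Subgroup G) : ↥H ≃* ↥(cj g H) :=
  H.equivMapOfInjective (MulAut.conj g).toMonoidHom (MulAut.conj g).injective

theorem cjEquiv_apply (g : G) (H : Subgroup G) (a : ↥H) :
    ((cjEquiv g H a : ↥(cj g H)) : G) = g * a * g⁻¹ := rfl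

theorem card_cj (g : G) (H : Subgroup G) : Nat.card ↥(cj g H) = Nat.card ↥H :=
  (Nat.card_congr (cjEquiv g H).toEquiv).symm

theorem cj_eq_self_iff {g : G} {H : Subgroup G} :
    cj g H = H ↔ g ∈ Subgroup.normalizer (H : Set G) :=
  Subgroup.mem_normalizer_iff_map_conj_eq.symm

theorem cj_eq_of_mem {g : G} {H : Subgroup G} (hg : g ∈ H) : cj g H = H :=
  cj_eq_self_iff.mpr (Subgroup.le_normalizer hg)

theorem isPGroup_cj {p : ℕ} {g : G} {H : Subgroup G} (h : IsPGroup p ↥H) : IsPGroup p ↥(cj g H) :=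
  h.map _

theorem eq_of_le_of_card_le [Finite G] {H K : Subgroup G} (h : H ≤ K)
    (hc : Nat.card ↥K ≤ Nat.card ↥H) : H = K :=
  Subgroup.eq_of_le_of_card_ge h hc

theorem cj_eq_of_cj_le [Finite G] {g : G} {H : Subgroup G} (h : cj g H ≤ H) : cj g H = H :=
  eq_of_le_of_card_le h (card_cj g H).ge

theorem isElementaryAbelian_cj {p : ℕ} {g : G} {H : Subgroup G}
    (h : Cfsg.IsElementaryAbelian p H) : Cfsg.IsElementaryAbelian p (cj g H) := by
  obtain ⟨hc, he⟩ := h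
  refine ⟨⟨⟨?_⟩⟩, ?_⟩
  · rintro ⟨_, a, ha, rfl⟩ ⟨_, b, hb, rfl⟩
    have hab : a * b = b * a := by
      have := hc.is_comm.comm (⟨a, ha⟩ : ↥H) ⟨b, hb⟩
      exact congrArg Subtype.val this
    ext
    show (MulAut.conj g) a * (MulAut.conj g) b = (MulAut.conj g) b * (MulAut.conj g) a
    rw [← map_mul, ← map_mul, hab]
  · rintro _ ⟨a, ha, rfl⟩
    show ((MulAut.conj g) a) ^ p = 1
    rw [← map_pow, he a ha, map_one]

theorem isElementaryAbelian_of_le {p : ℕ} {H K : Subgroup G}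
    (h : Cfsg.IsElementaryAbelian p K) (hle : H ≤ K) : Cfsg.IsElementaryAbelian p H := by
  obtain ⟨hc, he⟩ := h
  refine ⟨⟨⟨?_⟩⟩, fun a ha => he a (hle ha)⟩
  rintro ⟨a, ha⟩ ⟨b, hb⟩
  have h1 := hc.is_comm.comm (⟨a, hle ha⟩ : ↥K) ⟨b, hle hb⟩
  have h2 : a * b = b * a := congrArg Subtype.val h1
  ext
  exact h2

/-- Sylow conjugacy inside a subgroup `N`: a `p`-subgroup `Q ≤ N` lies in an `N`-conjugate of a
Sylow `p`-subgroup `P` of `G` contained in `N`. -/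
theorem exists_mem_le_cj_sylow [Finite G] {p : ℕ} [Fact p.Prime] (P : Sylow p G)
    (N Q : Subgroup G) (hPN : (P : Subgroup G) ≤ N) (hQN : Q ≤ N) (hQ : IsPGroup p ↥Q) :
    ∃ n ∈ N, Q ≤ cj n (P : Subgroup G) := by
  classical
  let P' : Sylow p ↥N := P.subtype hPN
  obtain ⟨R, hR⟩ := (hQ.comap_subtype (K := N)).exists_le_sylow
  obtain ⟨n, hn⟩ := MulAction.exists_smul_eq ↥N R P'
  refine ⟨(n : G)⁻¹, N.inv_mem n.2, ?_⟩
  intro q hq
  rw [mem_cj]
  have h1 : (⟨q, hQN hq⟩ : ↥N) ∈ (R : Subgroup ↥N) := hR hq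
  have h2 : n * (⟨q, hQN hq⟩ : ↥N) * n⁻¹ ∈ (P' : Subgroup ↥N) := by
    rw [← hn, Sylow.smul_def]
    exact Subgroup.smul_mem_pointwise_smul _ _ _ h1
  have h3 : ((n * (⟨q, hQN hq⟩ : ↥N) * n⁻¹ : ↥N) : G) ∈ (P : Subgroup G) := h2
  simpa using h3

/-- Two Sylow `p`-subgroups of `G` contained in `N` are conjugate by an element of `N`. -/
theorem exists_mem_cj_sylow_eq [Finite G] {p : ℕ} [Fact p.Prime] (P : Sylow p G)
    (N : Subgroup G) (g : G) (hPN : (P : Subgroup G) ≤ N) (hQN : cj g (P : Subgroup G) ≤ N) :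
    ∃ n ∈ N, cj g (P : Subgroup G) = cj n (P : Subgroup G) := by
  obtain ⟨n, hn, hle⟩ := exists_mem_le_cj_sylow P N (cj g (P : Subgroup G)) hPN hQN
    (isPGroup_cj P.isPGroup')
  refine ⟨n, hn, eq_of_le_of_card_le hle ?_⟩
  rw [card_cj, card_cj]

open scoped Pointwise in
theorem coe_smul_sylow {p : ℕ} (g : G) (P : Sylow p G) :
    ((g • P : Sylow p G) : Subgroup G) = cj g (P : Subgroup G) := by
  ext x
  rw [Sylow.smul_def]
  show x ∈ MulAut.conj g • (P : Subgroup G) ↔ _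
  rw [Subgroup.mem_pointwise_smul_iff_inv_smul_mem, mem_cj]
  simp [MulAut.smul_def]

/-- Sylow conjugacy inside `N`, for the Sylow subgroup `g P g⁻¹ ≤ N`. -/
theorem exists_mem_le_cj_cj_sylow [Finite G] {p : ℕ} [Fact p.Prime] (P : Sylow p G) (g : G)
    (N Q : Subgroup G) (hPN : cj g (P : Subgroup G) ≤ N) (hQN : Q ≤ N) (hQ : IsPGroup p ↥Q) :
    ∃ n ∈ N, Q ≤ cj (n * g) (P : Subgroup G) := by
  obtain ⟨n, hn, hle⟩ := exists_mem_le_cj_sylow (g • P) N Q (by rw [coe_smul_sylow]; exact hPN) hQN hQ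
  refine ⟨n, hn, ?_⟩
  rwa [coe_smul_sylow, ← cj_mul] at hle

end Cfsg.Agent.Lib.Helper53_Conj
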