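import Mathlib
import Cfsg.Prelude.Def_OddOrderLocal
import Cfsg.Agent.Lib.Helper49_SigmaDisjoint
import Cfsg.Agent.Lib.Helper24_CoprimeHall

/-!
# Bender-Glauberman Theorem 14.7 / Theorem I(f)-(g) assembly (helper72)

Rows S1368, S1370, S1371: for a maximal subgroup `M = K U M_σ` of "type P" (`K ≠ 1`), with
`K* = C_{M_σ}(K)` and `Z = K × K*`, `Ẑ = Z - (K ∪ K*)`:
`M ∩ M* = Z` is cyclic, `Ẑ` is a TI-subset with normalizer `Z`, and the `M`-conjugates of `Ẑ` are exactly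
`A₀(M) - A(M)`, again a TI-subset.  The earlier frozen statements used are taken as explicit hypotheses.
-/

set_option autoImplicit false
set_option linter.unusedVariables false

namespace Cfsg.Agent.Lib.Helper72_BG16

open Subgroup Cfsg

/-- the frozen statement S1351, as a hypothesis -/
def H1351 (G : Type*) [Group G] [Finite G] : Prop :=
  ∀ (M : Subgroup G) (hM : IsCoatom M),
    (∃ K : Subgroup G, Cfsg.IsPiHallOf (Cfsg.kappa M) K M) ∧
      ∀ K : Subgroup G, Cfsg.IsPiHallOf (Cfsg.kappa M) K M → IsCyclic K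

/-- the frozen statement S1352, as a hypothesis -/
def H1352 (G : Type*) [Group G] [Finite G] : Prop :=
  ∀ (M : Subgroup G) (hM : IsCoatom M) (K : Subgroup G) (hKc : IsCyclic K) (hK : Cfsg.IsPiHallOf (Cfsg.kappa M) K M),
    (∃ U : Subgroup G, Cfsg.IsSigmaDecomposition M K U) ∧
      ∀ U : Subgroup G, Cfsg.IsSigmaDecomposition M K U → M ≤ Subgroup.normalizer ((U ⊔ Cfsg.sigmaCore M : Subgroup G) : Set G)

/-- the frozen statement S1354, as a hypothesis -/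
def H1354 (G : Type*) [Group G] [Finite G] : Prop :=
  ∀ (M : Subgroup G) (hM : IsCoatom M) (K : Subgroup G) (hKc : IsCyclic K) (hK : Cfsg.IsPiHallOf (Cfsg.kappa M) K M),
    Cfsg.sigmaCore M ⊓ Subgroup.centralizer (K : Set G) ≠ ⊥ ∧
      (K ≠ ⊥ → ∀ k ∈ K, k ≠ 1 →
        M ⊓ Subgroup.centralizer ({k} : Set G) = K ⊔ (Cfsg.sigmaCore M ⊓ Subgroup.centralizer (K : Set G)))

/-- the frozen statement S1366, as a hypothesis -/
def H1366 (G : Type*) [Group G] [Finite G] : Prop :=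
  ∀ (M : Subgroup G) (hM : IsCoatom M) (K U : Subgroup G) (hKU : Cfsg.IsSigmaDecomposition M K U) (hK1 : K ≠ ⊥),
    ∃! Mstar : Subgroup G, IsCoatom Mstar ∧ K = Cfsg.sigmaCore Mstar ⊓ Subgroup.centralizer ((Cfsg.sigmaCore M ⊓ Subgroup.centralizer (K : Set G)) : Set G) ∧
        Cfsg.IsPiHallOf (Cfsg.kappa Mstar) (Cfsg.sigmaCore M ⊓ Subgroup.centralizer (K : Set G)) Mstar

/-- the frozen statement S1430, as a hypothesis -/
def H1430 (G : Type*) [Group G] [Finite G] : Prop :=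
  ∀ (M : Subgroup G) (hM : IsCoatom M) (K : Subgroup G) (hK : Cfsg.IsPiHallOf (Cfsg.kappa M) K M) (hK1 : K ≠ ⊥),
    (∀ k ∈ K, k ≠ 1 → Cfsg.sigmaCore M ⊓ Subgroup.centralizer ({k} : Set G) = (Cfsg.sigmaCore M ⊓ Subgroup.centralizer (K : Set G))) ∧
      (∃ U : Subgroup G, IsMulCommutative U ∧ Cfsg.IsPiHallOf {q | q.Prime ∧ q ∉ Cfsg.kappa M ∧ q ∉ Cfsg.sigma M} U M ∧
        K ≤ Subgroup.normalizer (U : Set G) ∧ ∀ k ∈ K, k ≠ 1 → U ⊓ Subgroup.centralizer ({k} : Set G) = ⊥) ∧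
      ∀ X : Subgroup G, X ≤ K → (Nat.card X).Prime →
        M ⊓ Subgroup.normalizer (X : Set G) = K ⊔ (Cfsg.sigmaCore M ⊓ Subgroup.centralizer (K : Set G)) ∧ M ⊓ Subgroup.normalizer (K : Set G) = K ⊔ (Cfsg.sigmaCore M ⊓ Subgroup.centralizer (K : Set G)) ∧
        ∀ Mstar : Subgroup G, IsCoatom Mstar → Subgroup.normalizer (X : Set G) ≤ Mstar → X ≤ Cfsg.sigmaCore Mstar

/-- the frozen statement S1431, as a hypothesis -/
def H1431 (G : Type*) [Group G] [Finite G] : Prop :=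
  ∀ (M : Subgroup G) (hM : IsCoatom M) (K : Subgroup G) (hK : Cfsg.IsPiHallOf (Cfsg.kappa M) K M) (hK1 : K ≠ ⊥),
    (∀ g : G, g ∉ M → (Cfsg.sigmaCore M ⊓ Subgroup.centralizer (K : Set G)) ⊓ M.map (MulAut.conj g).toMonoidHom = ⊥) ∧
      (∀ g ∈ M, g ∉ K ⊔ (Cfsg.sigmaCore M ⊓ Subgroup.centralizer (K : Set G)) → K ⊓ K.map (MulAut.conj g).toMonoidHom = ⊥) ∧
      (∀ (p : ℕ), p.Prime → p ∣ Nat.card ↥(Cfsg.sigmaCore M ⊓ Subgroup.centralizer (K : Set G)) → ∀ S : Sylow p ↥(Cfsg.sigmaCore M),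
        Cfsg.InUniqueMaximal ((S : Subgroup ↥(Cfsg.sigmaCore M)).map (Cfsg.sigmaCore M).subtype) ∧
        (S : Subgroup ↥(Cfsg.sigmaCore M)).map (Cfsg.sigmaCore M).subtype ≤ M ∧
        ¬ (S : Subgroup ↥(Cfsg.sigmaCore M)).map (Cfsg.sigmaCore M).subtype ≤ (Cfsg.sigmaCore M ⊓ Subgroup.centralizer (K : Set G))) ∧
      ∀ Y : Subgroup G, (∀ p : ℕ, p.Prime → p ∣ Nat.card Y → p ∈ Cfsg.sigma M) → Y ⊓ (Cfsg.sigmaCore M ⊓ Subgroup.centralizer (K : Set G)) ≠ ⊥ → Y ≤ Cfsg.sigmaCore M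

/-- the frozen statement S1434, as a hypothesis -/
def H1434 (G : Type*) [Group G] [Finite G] : Prop :=
  ∀ (M : Subgroup G) (hM : IsCoatom M) (K U : Subgroup G) (hKU : Cfsg.IsSigmaDecomposition M K U) (hK1 : K ≠ ⊥) (Mstar : Subgroup G) (hMstar : IsCoatom Mstar) (hKst : K = Cfsg.sigmaCore Mstar ⊓ Subgroup.centralizer ((Cfsg.sigmaCore M ⊓ Subgroup.centralizer (K : Set G)) : Set G)) (hKstH : Cfsg.IsPiHallOf (Cfsg.kappa Mstar) (Cfsg.sigmaCore M ⊓ Subgroup.centralizer (K : Set G)) Mstar),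
    Cfsg.kappa M = Cfsg.tau1 M ∧ Cfsg.IsPiHallOf (Cfsg.sigma M) (Cfsg.sigmaCore M ⊓ Subgroup.centralizer (K : Set G)) Mstar ∧
      (∀ x ∈ K, x ≠ 1 → ∀ y ∈ (Cfsg.sigmaCore M ⊓ Subgroup.centralizer (K : Set G)), y ≠ 1 →
        M ⊓ Subgroup.centralizer ({x} : Set G) = K ⊔ (Cfsg.sigmaCore M ⊓ Subgroup.centralizer (K : Set G)) ∧ Mstar ⊓ Subgroup.centralizer ({y} : Set G) = K ⊔ (Cfsg.sigmaCore M ⊓ Subgroup.centralizer (K : Set G)) ∧
        Subgroup.centralizer ({x * y} : Set G) = K ⊔ (Cfsg.sigmaCore M ⊓ Subgroup.centralizer (K : Set G))) ∧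
      (∀ g : G, g ∉ M → ∀ z ∈ ((↑(K ⊔ (Cfsg.sigmaCore M ⊓ Subgroup.centralizer (K : Set G))) : Set G) \ ((K : Set G) ∪ ↑(Cfsg.sigmaCore M ⊓ Subgroup.centralizer (K : Set G)))), z ∉ M.map (MulAut.conj g).toMonoidHom) ∧
      Nat.card K * Nat.card ↥(Cfsg.sigmaCore M ⊓ Subgroup.centralizer (K : Set G)) * Set.ncard {a : G | ∃ g : G, ∃ z ∈ ((↑(K ⊔ (Cfsg.sigmaCore M ⊓ Subgroup.centralizer (K : Set G))) : Set G) \ ((K : Set G) ∪ ↑(Cfsg.sigmaCore M ⊓ Subgroup.centralizer (K : Set G)))), a = g * z * g⁻¹} =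
        (Nat.card K * Nat.card ↥(Cfsg.sigmaCore M ⊓ Subgroup.centralizer (K : Set G)) - Nat.card K - Nat.card ↥(Cfsg.sigmaCore M ⊓ Subgroup.centralizer (K : Set G)) + 1) * Nat.card G ∧
      Nat.card G < 2 * Set.ncard {a : G | ∃ g : G, ∃ z ∈ ((↑(K ⊔ (Cfsg.sigmaCore M ⊓ Subgroup.centralizer (K : Set G))) : Set G) \ ((K : Set G) ∪ ↑(Cfsg.sigmaCore M ⊓ Subgroup.centralizer (K : Set G)))), a = g * z * g⁻¹}



variable {G : Type*} [Group G] [Finite G]

/-- `K* = C_{M_σ}(K)` -/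
abbrev kst (M K : Subgroup G) : Subgroup G := sigmaCore M ⊓ centralizer (K : Set G)

/-- `Ẑ = K K* - (K ∪ K*)` -/
abbrev zhat (M K : Subgroup G) : Set G :=
  (↑(K ⊔ kst M K) : Set G) \ ((K : Set G) ∪ ↑(kst M K))

omit [Finite G] in
theorem sigmaCore_le (M : Subgroup G) : sigmaCore M ≤ M := Subgroup.map_subtype_le _

omit [Finite G] in
theorem le_normalizer_sigmaCore (M : Subgroup G) : M ≤ normalizer (sigmaCore M : Set G) := by
  intro m hm
  rw [mem_normalizer_iff]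
  intro h
  have hN : (piCore (sigma M) M).Normal := inferInstance
  constructor
  · rintro ⟨x, hx, rfl⟩
    refine ⟨(⟨m, hm⟩ : M) * x * (⟨m, hm⟩ : M)⁻¹, hN.conj_mem x hx _, ?_⟩
    simp
  · rintro ⟨x, hx, hxe⟩
    refine ⟨(⟨m, hm⟩ : M)⁻¹ * x * (⟨m, hm⟩ : M), ?_, ?_⟩
    · have := hN.conj_mem x hx (⟨m, hm⟩ : M)⁻¹
      simpa using this
    · simp only [Subgroup.subtype_apply, Subgroup.coe_mul, Subgroup.coe_inv] at hxe ⊢
      rw [hxe]; group

omit [Finite G] in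
theorem conj_mem_sigmaCore {M : Subgroup G} {m y : G} (hm : m ∈ M) (hy : y ∈ sigmaCore M) :
    m * y * m⁻¹ ∈ sigmaCore M :=
  (mem_normalizer_iff.mp (le_normalizer_sigmaCore M hm) y).mp hy

section basics

variable {M K : Subgroup G}

omit [Finite G] in
theorem kst_le_sigmaCore : kst M K ≤ sigmaCore M := inf_le_left

omit [Finite G] in
theorem kst_le : kst M K ≤ M := inf_le_left.trans (sigmaCore_le M)

omit [Finite G] in
theorem comm_of_mem {x y : G} (hx : x ∈ K) (hy : y ∈ kst M K) : x * y = y * x :=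
  (mem_centralizer_iff.mp hy.2 x hx)

theorem kst_primes {p : ℕ} (hp : p.Prime) (h : p ∣ Nat.card ↥(kst M K)) : p ∈ sigma M :=
  Cfsg.Agent.Lib.Helper49_SigmaDisjoint.mem_sigma_of_dvd_card_sigmaCore M hp
    (h.trans (Subgroup.card_dvd_of_le kst_le_sigmaCore))

omit [Finite G] in
theorem not_sigma_of_kappa {p : ℕ} (h : p ∈ kappa M) : p ∉ sigma M := h.2.2.1

theorem coprime_K_sigmaCore (hK : IsPiHallOf (kappa M) K M) :
    (Nat.card K).Coprime (Nat.card ↥(sigmaCore M)) :=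
  Nat.coprime_of_dvd fun p hp h1 h2 => not_sigma_of_kappa (hK.2.1 p hp h1)
    (Cfsg.Agent.Lib.Helper49_SigmaDisjoint.mem_sigma_of_dvd_card_sigmaCore M hp h2)

theorem coprime_K_kst (hK : IsPiHallOf (kappa M) K M) :
    (Nat.card K).Coprime (Nat.card ↥(kst M K)) :=
  Nat.Coprime.coprime_dvd_right (Subgroup.card_dvd_of_le kst_le_sigmaCore) (coprime_K_sigmaCore hK)

theorem K_inf_sigmaCore (hK : IsPiHallOf (kappa M) K M) : K ⊓ sigmaCore M = ⊥ :=
  (Subgroup.disjoint_of_coprime_natCard (coprime_K_sigmaCore hK)).eq_bot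

theorem K_inf_kst (hK : IsPiHallOf (kappa M) K M) : K ⊓ kst M K = ⊥ :=
  (Subgroup.disjoint_of_coprime_natCard (coprime_K_kst hK)).eq_bot

omit [Finite G] in
theorem K_le_normalizer_kst : K ≤ normalizer (kst M K : Set G) := by
  intro x hx
  rw [mem_normalizer_iff]
  intro y
  constructor
  · intro hy
    have : x * y * x⁻¹ = y := by rw [comm_of_mem hx hy]; group
    rw [this]; exact hy
  · intro hy
    have h1 : x⁻¹ * (x * y * x⁻¹) = (x * y * x⁻¹) * x⁻¹ := comm_of_mem (inv_mem hx) hy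
    have : y = x * y * x⁻¹ := by
      have h2 : x⁻¹ * (x * y * x⁻¹) * x = (x * y * x⁻¹) * x⁻¹ * x := by rw [h1]
      have h3 : x⁻¹ * (x * y * x⁻¹) * x = y := by group
      have h4 : (x * y * x⁻¹) * x⁻¹ * x = x * y * x⁻¹ := by group
      rw [h3, h4] at h2; exact h2
    rw [this]; exact hy

omit [Finite G] in
/-- elements of `Z = K K*` are products -/
theorem mem_Z_iff {z : G} : z ∈ K ⊔ kst M K ↔ ∃ x ∈ K, ∃ y ∈ kst M K, z = x * y := by
  rw [← SetLike.mem_coe, coe_mul_of_left_le_normalizer_right K (kst M K) K_le_normalizer_kst,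
    Set.mem_mul]
  constructor
  · rintro ⟨x, hx, y, hy, rfl⟩; exact ⟨x, hx, y, hy, rfl⟩
  · rintro ⟨x, hx, y, hy, rfl⟩; exact ⟨x, hx, y, hy, rfl⟩

theorem card_Z (hK : IsPiHallOf (kappa M) K M) :
    Nat.card ↥(K ⊔ kst M K) = Nat.card K * Nat.card ↥(kst M K) := by
  rw [sup_comm, Cfsg.Agent.Lib.Helper24_CoprimeHall.card_sup_of_disjoint' K (kst M K)
    K_le_normalizer_kst (by rw [inf_comm]; exact K_inf_kst hK), mul_comm]

/-- elements of `Ẑ` are products of nontrivial elements -/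
theorem mem_zhat_iff (hK : IsPiHallOf (kappa M) K M) {z : G} :
    z ∈ zhat M K ↔ ∃ x ∈ K, x ≠ 1 ∧ ∃ y ∈ kst M K, y ≠ 1 ∧ z = x * y := by
  constructor
  · rintro ⟨hz, hz2⟩
    obtain ⟨x, hx, y, hy, rfl⟩ := mem_Z_iff.mp hz
    refine ⟨x, hx, ?_, y, hy, ?_, rfl⟩
    · rintro rfl
      exact hz2 (Or.inr (by simpa using hy))
    · rintro rfl
      exact hz2 (Or.inl (by simpa using hx))
  · rintro ⟨x, hx, hx1, y, hy, hy1, rfl⟩
    refine ⟨mem_Z_iff.mpr ⟨x, hx, y, hy, rfl⟩, ?_⟩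
    rintro (h | h)
    · have hyK : y ∈ K := by
        have := K.mul_mem (K.inv_mem hx) h
        simpa using this
      have : y ∈ K ⊓ kst M K := ⟨hyK, hy⟩
      rw [K_inf_kst hK] at this
      exact hy1 (Subgroup.mem_bot.mp this)
    · have hxK : x ∈ kst M K := by
        have := (kst M K).mul_mem h ((kst M K).inv_mem hy)
        simpa using this
      have : x ∈ K ⊓ kst M K := ⟨hx, hxK⟩
      rw [K_inf_kst hK] at this
      exact hx1 (Subgroup.mem_bot.mp this)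

end basics

section s1368

omit [Finite G] in
theorem comm_centralizer_normalizes {A B : Subgroup G} (hcomm : ∀ a ∈ A, ∀ b ∈ B, a * b = b * a) :
    A ≤ normalizer (B : Set G) := by
  intro x hx
  rw [mem_normalizer_iff]
  intro y
  constructor
  · intro hy
    have : x * y * x⁻¹ = y := by rw [hcomm x hx y hy]; group
    rw [this]; exact hy
  · intro hy
    have h1 : x⁻¹ * (x * y * x⁻¹) = (x * y * x⁻¹) * x⁻¹ := hcomm _ (inv_mem hx) _ hy
    have : y = x * y * x⁻¹ := by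
      have h2 : x⁻¹ * (x * y * x⁻¹) * x = (x * y * x⁻¹) * x⁻¹ * x := by rw [h1]
      have h3 : x⁻¹ * (x * y * x⁻¹) * x = y := by group
      have h4 : (x * y * x⁻¹) * x⁻¹ * x = x * y * x⁻¹ := by group
      rw [h3, h4] at h2; exact h2
    rw [this]; exact hy

/-- a nontrivial subgroup contains a subgroup of prime order -/
theorem exists_prime_subgroup {H : Subgroup G} (hH : H ≠ ⊥) :
    ∃ X : Subgroup G, X ≤ H ∧ (Nat.card X).Prime := by
  have hcard : Nat.card H ≠ 1 := fun h => hH (Subgroup.card_eq_one.mp h)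
  obtain ⟨p, hp, hdvd⟩ := Nat.exists_prime_and_dvd hcard
  have := Fact.mk hp
  obtain ⟨x, hx⟩ := exists_prime_orderOf_dvd_card' p hdvd
  refine ⟨zpowers (x : G), ?_, ?_⟩
  · rw [zpowers_le]; exact x.2
  · rw [Nat.card_zpowers, Subgroup.orderOf_coe, hx]; exact hp

/-- the product of two commuting cyclic subgroups of coprime orders is cyclic -/
theorem isCyclic_sup_of_coprime {A B : Subgroup G} (hA : IsCyclic A) (hB : IsCyclic B)
    (hcomm : ∀ a ∈ A, ∀ b ∈ B, a * b = b * a)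
    (hcop : (Nat.card A).Coprime (Nat.card B)) : IsCyclic ↥(A ⊔ B) := by
  obtain ⟨a, ha⟩ := hA.exists_generator
  obtain ⟨b, hb⟩ := hB.exists_generator
  have hoa : orderOf (a : G) = Nat.card A := by
    rw [Subgroup.orderOf_coe]; exact orderOf_eq_card_of_forall_mem_zpowers ha
  have hob : orderOf (b : G) = Nat.card B := by
    rw [Subgroup.orderOf_coe]; exact orderOf_eq_card_of_forall_mem_zpowers hb
  have hc : Commute (a : G) (b : G) := hcomm _ a.2 _ b.2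
  have hog : orderOf ((a : G) * (b : G)) = Nat.card A * Nat.card B := by
    rw [hc.orderOf_mul_eq_mul_orderOf_of_coprime (by rw [hoa, hob]; exact hcop), hoa, hob]
  have hmem : (a : G) * (b : G) ∈ A ⊔ B :=
    mul_mem (le_sup_left (a := A) a.2) (le_sup_right (b := B) b.2)
  have hcard : Nat.card ↥(A ⊔ B) = Nat.card A * Nat.card B := by
    rw [sup_comm, Cfsg.Agent.Lib.Helper24_CoprimeHall.card_sup_of_disjoint' A B
      (comm_centralizer_normalizes hcomm)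
      (by rw [inf_comm]; exact (Subgroup.disjoint_of_coprime_natCard hcop).eq_bot), mul_comm]
  refine isCyclic_of_orderOf_eq_card (⟨(a : G) * (b : G), hmem⟩ : ↥(A ⊔ B)) ?_
  rw [Subgroup.orderOf_mk, hog, hcard]

variable {M K Mstar : Subgroup G}

/-- if `K*` is a Hall `σ(M)`-subgroup of `M*` then `M_σ ∩ M* = K*` -/
theorem sigmaCore_inf_eq (hH : IsPiHallOf (sigma M) (kst M K) Mstar) :
    sigmaCore M ⊓ Mstar = kst M K := by
  have h1 : kst M K ≤ sigmaCore M ⊓ Mstar := le_inf kst_le_sigmaCore hH.1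
  have hP := (Cfsg.Agent.Lib.Helper24_CoprimeHall.isPiHallOf_iff _ _ _).mp hH
  have hdvd : Nat.card ↥(sigmaCore M ⊓ Mstar) ∣ Nat.card ↥(kst M K) :=
    hP.card_dvd inf_le_right (fun p hp h =>
      Cfsg.Agent.Lib.Helper49_SigmaDisjoint.mem_sigma_of_dvd_card_sigmaCore M hp
        (h.trans (Subgroup.card_dvd_of_le inf_le_left)))
  exact (Subgroup.eq_of_le_of_card_ge h1 (Nat.le_of_dvd Nat.card_pos hdvd)).symm

/-- **S1368**, with the earlier frozen statements as hypotheses -/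
theorem inter_partner (h51 : H1351 G) (h54 : H1354 G) (h30 : H1430 G) (h34 : H1434 G)
    (M : Subgroup G) (hM : IsCoatom M) (K U : Subgroup G) (hKU : Cfsg.IsSigmaDecomposition M K U)
    (hK1 : K ≠ ⊥) (Mstar : Subgroup G) (hMstar : IsCoatom Mstar)
    (hKst : K = Cfsg.sigmaCore Mstar ⊓
      Subgroup.centralizer ((Cfsg.sigmaCore M ⊓ Subgroup.centralizer (K : Set G)) : Set G))
    (hKstH : Cfsg.IsPiHallOf (Cfsg.kappa Mstar)
      (Cfsg.sigmaCore M ⊓ Subgroup.centralizer (K : Set G)) Mstar) :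
    M ⊓ Mstar = K ⊔ (Cfsg.sigmaCore M ⊓ Subgroup.centralizer (K : Set G)) ∧
      IsCyclic ↥(K ⊔ (Cfsg.sigmaCore M ⊓ Subgroup.centralizer (K : Set G))) := by
  have hKne : kst M K ≠ ⊥ := (h54 M hM K hKU.cyclic hKU.hall).1
  have hKMst : K ≤ Mstar := by
    rw [hKst]; exact inf_le_left.trans (sigmaCore_le Mstar)
  refine ⟨?_, ?_⟩
  · obtain ⟨X, hX, hXp⟩ := exists_prime_subgroup hKne
    have h := ((h30 Mstar hMstar (kst M K) hKstH hKne).2.2 X hX hXp).2.1
    have hKst' : K = sigmaCore Mstar ⊓ centralizer ((kst M K : Subgroup G) : Set G) := hKst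
    rw [← hKst'] at h
    have hHall := (h34 M hM K U hKU hK1 Mstar hMstar hKst hKstH).2.1
    have hD := sigmaCore_inf_eq hHall
    apply le_antisymm
    · intro d hd
      have hdn : d ∈ Mstar ⊓ normalizer (kst M K : Set G) := by
        refine ⟨hd.2, ?_⟩
        show d ∈ normalizer (kst M K : Set G)
        rw [mem_normalizer_iff]
        intro y
        rw [← hD]
        have h1 := mem_normalizer_iff.mp (le_normalizer_sigmaCore M hd.1) y
        constructor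
        · rintro ⟨hy1, hy2⟩
          exact ⟨h1.mp hy1, Mstar.mul_mem (Mstar.mul_mem hd.2 hy2) (Mstar.inv_mem hd.2)⟩
        · rintro ⟨hy1, hy2⟩
          refine ⟨h1.mpr hy1, ?_⟩
          have := Mstar.mul_mem (Mstar.mul_mem (Mstar.inv_mem hd.2) hy2) hd.2
          simpa [mul_assoc] using this
      rw [h, sup_comm] at hdn
      exact hdn
    · exact sup_le (le_inf hKU.hall.1 hKMst) (le_inf kst_le hKstH.1)
  · exact isCyclic_sup_of_coprime hKU.cyclic ((h51 Mstar hMstar).2 _ hKstH)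
      (fun a ha b hb => comm_of_mem ha hb) (coprime_K_kst hKU.hall)

end s1368

section s1370

omit [Finite G] in
theorem eq_one_of_pow_coprime {x : G} {m n : ℕ} (hc : m.Coprime n) (h1 : x ^ m = 1)
    (h2 : x ^ n = 1) : x = 1 := by
  have := pow_gcd_eq_one.mpr ⟨h1, h2⟩
  rwa [Nat.Coprime.gcd_eq_one hc, pow_one] at this

omit [Finite G] in
theorem pow_card_of_mem {H : Subgroup G} {x : G} (hx : x ∈ H) : x ^ Nat.card H = 1 :=
  orderOf_dvd_iff_pow_eq_one.mp (H.orderOf_dvd_natCard hx)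

omit [Finite G] in
theorem exists_ne_one_of_ne_bot {H : Subgroup G} (hH : H ≠ ⊥) : ∃ x ∈ H, x ≠ 1 := by
  obtain ⟨x, hx⟩ := (Subgroup.ne_bot_iff_exists_ne_one).mp hH
  exact ⟨x, x.2, fun h => hx (Subtype.ext h)⟩

variable {M K : Subgroup G}

/-- `K* = {z ∈ Z | z ^ |K*| = 1}` -/
theorem mem_kst_iff_pow (hK : IsPiHallOf (kappa M) K M) {z : G} (hz : z ∈ K ⊔ kst M K) :
    z ∈ kst M K ↔ z ^ Nat.card ↥(kst M K) = 1 := by
  constructor
  · exact pow_card_of_mem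
  · intro h
    obtain ⟨x, hx, y, hy, rfl⟩ := mem_Z_iff.mp hz
    have hc : Commute x y := comm_of_mem hx hy
    rw [hc.mul_pow, pow_card_of_mem hy, mul_one] at h
    have hx1 : x = 1 := eq_one_of_pow_coprime (coprime_K_kst hK) (pow_card_of_mem hx) h
    rw [hx1, one_mul]; exact hy

/-- `K = {z ∈ Z | z ^ |K| = 1}` -/
theorem mem_K_iff_pow (hK : IsPiHallOf (kappa M) K M) {z : G} (hz : z ∈ K ⊔ kst M K) :
    z ∈ K ↔ z ^ Nat.card K = 1 := by
  constructor
  · exact pow_card_of_mem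
  · intro h
    obtain ⟨x, hx, y, hy, rfl⟩ := mem_Z_iff.mp hz
    have hc : Commute x y := comm_of_mem hx hy
    rw [hc.mul_pow, pow_card_of_mem hx, one_mul] at h
    have hy1 : y = 1 := eq_one_of_pow_coprime (coprime_K_kst hK) h (pow_card_of_mem hy)
    rw [hy1, mul_one]; exact hx

theorem zhat_nonempty (hK : IsPiHallOf (kappa M) K M) (hK1 : K ≠ ⊥) (hKne : kst M K ≠ ⊥) :
    ∃ z, z ∈ zhat M K := by
  obtain ⟨x, hx, hx1⟩ := exists_ne_one_of_ne_bot hK1
  obtain ⟨y, hy, hy1⟩ := exists_ne_one_of_ne_bot hKne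
  exact ⟨x * y, (mem_zhat_iff hK).mpr ⟨x, hx, hx1, y, hy, hy1, rfl⟩⟩

/-- conjugation transporting one element of `Ẑ` to another stabilizes `K` and `K*` -/
theorem conj_stab (hK : IsPiHallOf (kappa M) K M)
    (hcz : ∀ z ∈ zhat M K, centralizer ({z} : Set G) = K ⊔ kst M K)
    {g z : G} (hz : z ∈ zhat M K) (hgz : g * z * g⁻¹ ∈ zhat M K) :
    (∀ x ∈ K, g * x * g⁻¹ ∈ K) ∧ ∀ y ∈ kst M K, g * y * g⁻¹ ∈ kst M K := by
  have hZg : ∀ w ∈ K ⊔ kst M K, g * w * g⁻¹ ∈ K ⊔ kst M K := by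
    intro w hw
    rw [← hcz z hz] at hw
    rw [← hcz _ hgz]
    rw [mem_centralizer_iff] at hw ⊢
    intro h hh
    rw [Set.mem_singleton_iff] at hh
    have h1 := hw z (Set.mem_singleton z)
    rw [hh]
    calc g * z * g⁻¹ * (g * w * g⁻¹) = g * (z * w) * g⁻¹ := by group
      _ = g * (w * z) * g⁻¹ := by rw [h1]
      _ = g * w * g⁻¹ * (g * z * g⁻¹) := by group
  constructor
  · intro x hx
    rw [mem_K_iff_pow hK (hZg x (le_sup_left (a := K) hx)), conj_pow, pow_card_of_mem hx]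
    group
  · intro y hy
    rw [mem_kst_iff_pow hK (hZg y (le_sup_right (b := kst M K) hy)), conj_pow, pow_card_of_mem hy]
    group

/-- **S1370**, with the earlier frozen statements as hypotheses -/
theorem zhat_ti (h54 : H1354 G) (h66 : H1366 G) (h30 : H1430 G) (h31 : H1431 G) (h34 : H1434 G)
    (M : Subgroup G) (hM : IsCoatom M) (K U : Subgroup G) (hKU : Cfsg.IsSigmaDecomposition M K U)
    (hK1 : K ≠ ⊥) :
    Cfsg.IsTISubset ((↑(K ⊔ (Cfsg.sigmaCore M ⊓ Subgroup.centralizer (K : Set G))) : Set G) \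
        ((K : Set G) ∪ ↑(Cfsg.sigmaCore M ⊓ Subgroup.centralizer (K : Set G)))) ∧
      Subgroup.normalizer ((↑(K ⊔ (Cfsg.sigmaCore M ⊓ Subgroup.centralizer (K : Set G))) : Set G) \
        ((K : Set G) ∪ ↑(Cfsg.sigmaCore M ⊓ Subgroup.centralizer (K : Set G)))) =
      K ⊔ (Cfsg.sigmaCore M ⊓ Subgroup.centralizer (K : Set G)) := by
  have hK := hKU.hall
  have hKne : kst M K ≠ ⊥ := (h54 M hM K hKU.cyclic hKU.hall).1
  obtain ⟨Mstar, ⟨hMstar, hKst, hKstH⟩, -⟩ := h66 M hM K U hKU hK1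
  have hcent := (h34 M hM K U hKU hK1 Mstar hMstar hKst hKstH).2.2.1
  have hcz : ∀ z ∈ zhat M K, centralizer ({z} : Set G) = K ⊔ kst M K := by
    intro z hz
    obtain ⟨x, hx, hx1, y, hy, hy1, rfl⟩ := (mem_zhat_iff hK).mp hz
    exact (hcent x hx hx1 y hy hy1).2.2
  -- the key step
  have key : ∀ g z : G, z ∈ zhat M K → g * z * g⁻¹ ∈ zhat M K → g ∈ K ⊔ kst M K := by
    intro g z hz hgz
    obtain ⟨hKg, hKstg⟩ := conj_stab hK hcz hz hgz
    have hz' : g⁻¹ * (g * z * g⁻¹) * g⁻¹⁻¹ ∈ zhat M K := by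
      have : g⁻¹ * (g * z * g⁻¹) * g⁻¹⁻¹ = z := by group
      rw [this]; exact hz
    obtain ⟨hKg', -⟩ := conj_stab hK hcz hgz hz'
    have hgM : g ∈ M := by
      by_contra hgM
      have h := (h31 M hM K hK hK1).1 g hgM
      obtain ⟨y, hy, hy1⟩ := exists_ne_one_of_ne_bot hKne
      have hmem : g * y * g⁻¹ ∈ kst M K ⊓ M.map (MulAut.conj g).toMonoidHom :=
        ⟨hKstg y hy, ⟨y, kst_le hy, by simp⟩⟩
      rw [h, Subgroup.mem_bot] at hmem
      apply hy1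
      have : y = g⁻¹ * (g * y * g⁻¹) * g := by group
      rw [this, hmem]; group
    have hgN : g ∈ M ⊓ normalizer (K : Set G) := by
      refine ⟨hgM, ?_⟩
      show g ∈ normalizer (K : Set G)
      rw [mem_normalizer_iff]
      intro x
      constructor
      · exact hKg x
      · intro hx
        have := hKg' _ hx
        have h2 : g⁻¹ * (g * x * g⁻¹) * g⁻¹⁻¹ = x := by group
        rwa [h2] at this
    obtain ⟨X, hX, hXp⟩ := exists_prime_subgroup hK1
    rw [((h30 M hM K hK hK1).2.2 X hX hXp).2.1] at hgN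
    exact hgN
  have hZN : K ⊔ kst M K ≤ normalizer (zhat M K) := by
    intro g hg
    rw [mem_set_normalizer_iff]
    have hfix : ∀ w ∈ zhat M K, g * w * g⁻¹ = w := by
      intro w hw
      rw [← hcz w hw, mem_centralizer_iff] at hg
      have := hg w (Set.mem_singleton w)
      rw [← this]; group
    intro h
    constructor
    · intro hh; rw [hfix h hh]; exact hh
    · intro hh
      have h1 := hfix _ hh
      have h2 : h = g * h * g⁻¹ := by
        have h3 : g⁻¹ * (g * (g * h * g⁻¹) * g⁻¹) * g = g⁻¹ * (g * h * g⁻¹) * g := by rw [h1]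
        have h4 : g⁻¹ * (g * (g * h * g⁻¹) * g⁻¹) * g = g * h * g⁻¹ := by group
        have h5 : g⁻¹ * (g * h * g⁻¹) * g = h := by group
        rw [h4, h5] at h3; exact h3.symm
      rw [h2]; exact hh
  have hNZ : normalizer (zhat M K) ≤ K ⊔ kst M K := by
    intro g hg
    obtain ⟨z, hz⟩ := zhat_nonempty hK hK1 hKne
    exact key g z hz ((mem_set_normalizer_iff.mp hg z).mp hz)
  refine ⟨?_, le_antisymm hNZ hZN⟩
  intro g hg x hx hgx
  exact absurd (hZN (key g x hx hgx)) hg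

end s1370

section s1371

omit [Finite G] in
theorem normalizer_inf_le_normalizer_sup (A B : Subgroup G) :
    normalizer (A : Set G) ⊓ normalizer (B : Set G) ≤ normalizer ((A ⊔ B : Subgroup G) : Set G) := by
  rintro x ⟨hA, hB⟩
  have hA' : x ∈ normalizer (A : Set G) := hA
  have hB' : x ∈ normalizer (B : Set G) := hB
  rw [mem_normalizer_iff_map_conj_eq] at hA' hB' ⊢
  rw [Subgroup.map_sup, hA', hB']

variable {M K U : Subgroup G}

omit [Finite G] in
/-- `N = U M_σ` is normal in `M` -/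
theorem le_normalizer_N (hKU : IsSigmaDecomposition M K U) :
    M ≤ normalizer ((U ⊔ sigmaCore M : Subgroup G) : Set G) := by
  have hUM : U ≤ M := hKU.compl.1
  have hKM : K ≤ M := hKU.hall.1
  have hKN : K ≤ normalizer ((U ⊔ sigmaCore M : Subgroup G) : Set G) :=
    (le_inf hKU.normal (hKM.trans (le_normalizer_sigmaCore M))).trans
      (normalizer_inf_le_normalizer_sup U (sigmaCore M))
  have hNN : U ⊔ sigmaCore M ≤ normalizer ((U ⊔ sigmaCore M : Subgroup G) : Set G) :=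
    Subgroup.le_normalizer
  intro m hm
  obtain ⟨u, hu, b, hb, rfl⟩ := hKU.compl.2.2.2 m hm
  refine mul_mem (hNN (le_sup_left (a := U) hu)) ?_
  exact (sup_le hKN ((le_sup_right (a := U)).trans hNN)) hb

omit [Finite G] in
theorem conj_mem_N (hKU : IsSigmaDecomposition M K U) {m a : G} (hm : m ∈ M)
    (ha : a ∈ U ⊔ sigmaCore M) : m * a * m⁻¹ ∈ U ⊔ sigmaCore M :=
  (mem_normalizer_iff.mp (le_normalizer_N hKU hm) a).mp ha

/-- `K ∩ U M_σ = 1` -/
theorem K_inf_N (hKU : IsSigmaDecomposition M K U) : K ⊓ (U ⊔ sigmaCore M) = ⊥ := by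
  rw [eq_bot_iff]
  rintro k ⟨hk, hkN⟩
  have hUn : U ≤ normalizer (sigmaCore M : Set G) := hKU.compl.1.trans (le_normalizer_sigmaCore M)
  have hkN' : k ∈ (↑(U ⊔ sigmaCore M) : Set G) := hkN
  rw [coe_mul_of_left_le_normalizer_right U (sigmaCore M) hUn, Set.mem_mul] at hkN'
  obtain ⟨u, hu, s, hs, hus⟩ := hkN'
  have hu' : u ∈ U ⊓ (K ⊔ sigmaCore M) := by
    refine ⟨hu, ?_⟩
    have : u = k * s⁻¹ := by rw [← hus]; group
    rw [this]
    exact mul_mem (le_sup_left (a := K) hk) (le_sup_right (a := K) (inv_mem hs))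
  rw [hKU.compl.2.2.1, Subgroup.mem_bot] at hu'
  rw [hu', one_mul] at hus
  have : k ∈ K ⊓ sigmaCore M := ⟨hk, hus ▸ hs⟩
  rw [K_inf_sigmaCore hKU.hall] at this
  exact this

omit [Finite G] in
theorem N_sup_K (hKU : IsSigmaDecomposition M K U) : (U ⊔ sigmaCore M) ⊔ K = M := by
  apply le_antisymm
  · exact sup_le (sup_le hKU.compl.1 (sigmaCore_le M)) hKU.hall.1
  · intro m hm
    obtain ⟨u, hu, b, hb, rfl⟩ := hKU.compl.2.2.2 m hm
    refine mul_mem (le_sup_left (a := U ⊔ sigmaCore M) (le_sup_left (a := U) hu)) ?_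
    exact (sup_le le_sup_right ((le_sup_right (a := U)).trans le_sup_left)) hb

theorem card_M (hKU : IsSigmaDecomposition M K U) :
    Nat.card M = Nat.card ↥(U ⊔ sigmaCore M) * Nat.card K := by
  have h := Cfsg.Agent.Lib.Helper24_CoprimeHall.card_sup_of_disjoint' K (U ⊔ sigmaCore M)
    (hKU.hall.1.trans (le_normalizer_N hKU)) (by rw [inf_comm]; exact K_inf_N hKU)
  rw [N_sup_K hKU] at h
  exact h

theorem coprime_N_K (hKU : IsSigmaDecomposition M K U) :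
    (Nat.card ↥(U ⊔ sigmaCore M)).Coprime (Nat.card K) := by
  have hP := (Cfsg.Agent.Lib.Helper24_CoprimeHall.isPiHallOf_iff _ _ _).mp hKU.hall
  have h := hP.coprime
  rw [card_M hKU, Nat.mul_div_cancel _ Nat.card_pos] at h
  exact h.symm

/-- `a ^ |K| ∈ U M_σ` for `a ∈ M` -/
theorem pow_card_K_mem_N (hKU : IsSigmaDecomposition M K U) {a : G} (ha : a ∈ M) :
    a ^ Nat.card K ∈ U ⊔ sigmaCore M := by
  have hNM : U ⊔ sigmaCore M ≤ M := sup_le hKU.compl.1 (sigmaCore_le M)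
  have : ((U ⊔ sigmaCore M).subgroupOf M).Normal :=
    (normal_subgroupOf_iff_le_normalizer hNM).mpr (le_normalizer_N hKU)
  have hidx : ((U ⊔ sigmaCore M).subgroupOf M).index = Nat.card K := by
    have h1 : ((U ⊔ sigmaCore M).subgroupOf M).index = (U ⊔ sigmaCore M).relIndex M := rfl
    rw [h1, Cfsg.Agent.Lib.Helper24_CoprimeHall.relIndex_eq_div hNM, card_M hKU,
      Nat.mul_div_cancel_left _ Nat.card_pos]
  have := Subgroup.pow_index_mem ((U ⊔ sigmaCore M).subgroupOf M) (⟨a, ha⟩ : M)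
  rw [hidx, mem_subgroupOf] at this
  simpa using this

/-- the set of `M`-conjugates of `Ẑ` -/
abbrev zhatConj (M K : Subgroup G) : Set G :=
  {a : G | ∃ m ∈ M, ∃ z ∈ zhat M K, a = m * z * m⁻¹}

omit [Finite G] in
theorem le_normalizer_zhatConj : M ≤ normalizer (zhatConj M K) := by
  intro m₀ hm₀
  rw [mem_set_normalizer_iff]
  intro h
  constructor
  · rintro ⟨m, hm, z, hz, rfl⟩
    exact ⟨m₀ * m, mul_mem hm₀ hm, z, hz, by group⟩
  · rintro ⟨m, hm, z, hz, he⟩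
    refine ⟨m₀⁻¹ * m, mul_mem (inv_mem hm₀) hm, z, hz, ?_⟩
    have : h = m₀⁻¹ * (m₀ * h * m₀⁻¹) * m₀ := by group
    rw [this, he]; group

/-- the `M`-conjugates of `Ẑ` lie in `A₀(M) - A(M)` -/
theorem zhatConj_subset (hKU : IsSigmaDecomposition M K U) :
    zhatConj M K ⊆ sigmaA0 M K \ sigmaA M U := by
  have hK := hKU.hall
  rintro a ⟨m, hm, z, hz, rfl⟩
  have hzZ : z ∈ K ⊔ kst M K := hz.1
  obtain ⟨x, hx, hx1, y, hy, hy1, hzxy⟩ := (mem_zhat_iff hK).mp hz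
  have hzM : z ∈ M := (sup_le hK.1 kst_le) hzZ
  have hc : x * y = y * x := comm_of_mem hx hy
  refine ⟨⟨⟨mul_mem (mul_mem hm hzM) (inv_mem hm), m * y * m⁻¹,
    conj_mem_sigmaCore hm (kst_le_sigmaCore hy), ?_, ?_⟩, ?_⟩, ?_⟩
  · intro h
    apply hy1
    have : y = m⁻¹ * (m * y * m⁻¹) * m := by group
    rw [this, h]; group
  · rw [hzxy]
    calc m * (x * y) * m⁻¹ * (m * y * m⁻¹) = m * (x * y * y) * m⁻¹ := by group
      _ = m * (y * (x * y)) * m⁻¹ := by
        have h3 : x * y * y = y * (x * y) := by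
          calc x * y * y = y * x * y := by rw [hc]
            _ = y * (x * y) := mul_assoc _ _ _
        rw [h3]
      _ = m * y * m⁻¹ * (m * (x * y) * m⁻¹) := by group
  · rintro ⟨k, hk, -, m', -, he⟩
    have h1 : (m * z * m⁻¹) ^ Nat.card K = 1 := by
      rw [he, conj_pow, pow_card_of_mem hk]; group
    rw [conj_pow] at h1
    have h2 : z ^ Nat.card K = 1 := by
      have : z ^ Nat.card K = m⁻¹ * (m * z ^ Nat.card K * m⁻¹) * m := by group
      rw [this, h1]; group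
    exact hz.2 (Or.inl ((mem_K_iff_pow hK hzZ).mpr h2))
  · rintro ⟨-, haN⟩
    have hzN : z ∈ U ⊔ sigmaCore M := by
      have := conj_mem_N hKU (inv_mem hm) haN
      have h2 : m⁻¹ * (m * z * m⁻¹) * m⁻¹⁻¹ = z := by group
      rwa [h2] at this
    have hxN : x ∈ U ⊔ sigmaCore M := by
      have : x = z * y⁻¹ := by rw [hzxy]; group
      rw [this]
      exact mul_mem hzN (le_sup_right (a := U) (inv_mem (kst_le_sigmaCore hy)))
    have : x ∈ K ⊓ (U ⊔ sigmaCore M) := ⟨hx, hxN⟩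
    rw [K_inf_N hKU] at this
    exact hx1 (Subgroup.mem_bot.mp this)

/-- `A₀(M) - A(M)` consists of `M`-conjugates of elements of `Ẑ` -/
theorem subset_zhatConj (hG : Cfsg.IsMinSimpleOddOrder G) (h54 : H1354 G)
    (hM : IsCoatom M) (hKU : IsSigmaDecomposition M K U) (hK1 : K ≠ ⊥) :
    sigmaA0 M K \ sigmaA M U ⊆ zhatConj M K := by
  have hK := hKU.hall
  have hsolv : Group.IsSolvable M := hG.2.2.2 M hM.1
  rintro a ⟨⟨haH, hanc⟩, hnA⟩
  have haM : a ∈ M := haH.1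
  have haN : a ∉ U ⊔ sigmaCore M := fun h => hnA ⟨haH, h⟩
  -- Bezout
  have hcop := coprime_N_K hKU
  set n := Nat.card ↥(U ⊔ sigmaCore M) with hn
  set k := Nat.card K with hk
  have hbez : (1 : ℤ) = n * Nat.gcdA n k + k * Nat.gcdB n k := by
    have := Nat.gcd_eq_gcd_ab n k
    rw [Nat.Coprime.gcd_eq_one hcop] at this
    exact_mod_cast this
  set i := Nat.gcdA n k with hi
  set j := Nat.gcdB n k with hj
  -- the kappa-part
  have hakN : a ^ ((k : ℤ) * j) ∈ U ⊔ sigmaCore M := by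
    rw [zpow_mul, zpow_natCast]
    exact zpow_mem (pow_card_K_mem_N hKU haM) j
  have ha1N : a ^ ((n : ℤ) * i) ∉ U ⊔ sigmaCore M := by
    intro h
    apply haN
    have : a = a ^ ((n : ℤ) * i) * a ^ ((k : ℤ) * j) := by
      rw [← zpow_add, ← hbez, zpow_one]
    rw [this]; exact mul_mem h hakN
  have ha1k : (a ^ ((n : ℤ) * i)) ^ k = 1 := by
    rw [← zpow_natCast, ← zpow_mul]
    have : (n : ℤ) * i * (k : ℤ) = ((n * k : ℕ) : ℤ) * i := by push_cast; ring
    rw [this, zpow_mul, zpow_natCast, ← card_M hKU, pow_card_of_mem haM, one_zpow]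
  have ha1M : a ^ ((n : ℤ) * i) ∈ M := zpow_mem haM _
  -- Hall dominance and conjugacy
  have hA1 : zpowers (a ^ ((n : ℤ) * i)) ≤ M := by rw [zpowers_le]; exact ha1M
  have hA1k : ∀ p : ℕ, p.Prime → p ∣ Nat.card ↥(zpowers (a ^ ((n : ℤ) * i))) → p ∈ kappa M := by
    intro p hp hdvd
    rw [Nat.card_zpowers] at hdvd
    exact hK.2.1 p hp (hdvd.trans (orderOf_dvd_of_pow_eq_one ha1k))
  obtain ⟨K₁, hK₁, hA1K₁⟩ := Cfsg.Agent.Lib.Helper24_CoprimeHall.exists_piHall_ge hsolv hA1 hA1k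
  obtain ⟨g, hgM, hgK⟩ := Cfsg.Agent.Lib.Helper24_CoprimeHall.piHall_conj hsolv hK₁
    ((Cfsg.Agent.Lib.Helper24_CoprimeHall.isPiHallOf_iff _ _ _).mp hK)
  have hb1K : g * a ^ ((n : ℤ) * i) * g⁻¹ ∈ K := by
    rw [← hgK]
    exact ⟨_, hA1K₁ (mem_zpowers _), by simp⟩
  have hb11 : g * a ^ ((n : ℤ) * i) * g⁻¹ ≠ 1 := by
    intro h
    apply ha1N
    have : a ^ ((n : ℤ) * i) = g⁻¹ * (g * a ^ ((n : ℤ) * i) * g⁻¹) * g := by group
    rw [this, h]; simp
  have hbM : g * a * g⁻¹ ∈ M := mul_mem (mul_mem hgM haM) (inv_mem hgM)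
  have hbc : g * a * g⁻¹ ∈ M ⊓ centralizer ({g * a ^ ((n : ℤ) * i) * g⁻¹} : Set G) := by
    refine ⟨hbM, ?_⟩
    show g * a * g⁻¹ ∈ centralizer ({g * a ^ ((n : ℤ) * i) * g⁻¹} : Set G)
    rw [mem_centralizer_iff]
    intro h hh
    rw [Set.mem_singleton_iff] at hh
    rw [hh]
    have hcomm : a ^ ((n : ℤ) * i) * a = a * a ^ ((n : ℤ) * i) := by
      rw [← zpow_add_one, ← zpow_one_add]; congr 1; ring
    calc g * a ^ ((n : ℤ) * i) * g⁻¹ * (g * a * g⁻¹) = g * (a ^ ((n : ℤ) * i) * a) * g⁻¹ := by group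
      _ = g * (a * a ^ ((n : ℤ) * i)) * g⁻¹ := by rw [hcomm]
      _ = g * a * g⁻¹ * (g * a ^ ((n : ℤ) * i) * g⁻¹) := by group
  rw [(h54 M hM K hKU.cyclic hK).2 hK1 _ hb1K hb11] at hbc
  have haconj : a = g⁻¹ * (g * a * g⁻¹) * g⁻¹⁻¹ := by group
  refine ⟨g⁻¹, inv_mem hgM, g * a * g⁻¹, ⟨hbc, ?_⟩, haconj⟩
  rintro (hbK | hbKst)
  · apply hanc
    refine ⟨g * a * g⁻¹, hbK, ?_, g⁻¹, inv_mem hgM, haconj⟩
    intro h
    apply haN
    have : a = 1 := by rw [haconj, h]; group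
    rw [this]; exact one_mem _
  · apply haN
    have h1 : g * a * g⁻¹ ∈ U ⊔ sigmaCore M := le_sup_right (a := U) (kst_le_sigmaCore hbKst)
    have := conj_mem_N hKU (inv_mem hgM) h1
    rwa [← haconj] at this

/-- **S1371**, with the earlier frozen statements as hypotheses -/
theorem zhatConj_eq (hG : Cfsg.IsMinSimpleOddOrder G) (h54 : H1354 G) (h66 : H1366 G) (h34 : H1434 G)
    (M : Subgroup G) (hM : IsCoatom M) (K U : Subgroup G) (hKU : Cfsg.IsSigmaDecomposition M K U)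
    (hK1 : K ≠ ⊥) :
    {a : G | ∃ m ∈ M, ∃ z ∈ ((↑(K ⊔ (Cfsg.sigmaCore M ⊓ Subgroup.centralizer (K : Set G))) : Set G) \
        ((K : Set G) ∪ ↑(Cfsg.sigmaCore M ⊓ Subgroup.centralizer (K : Set G)))), a = m * z * m⁻¹} =
      Cfsg.sigmaA0 M K \ Cfsg.sigmaA M U ∧
      Cfsg.IsTISubset (Cfsg.sigmaA0 M K \ Cfsg.sigmaA M U) := by
  have heq : zhatConj M K = sigmaA0 M K \ sigmaA M U :=
    Set.Subset.antisymm (zhatConj_subset hKU) (subset_zhatConj hG h54 hM hKU hK1)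
  refine ⟨heq, ?_⟩
  rw [← heq]
  obtain ⟨Mstar, ⟨hMstar, hKst, hKstH⟩, -⟩ := h66 M hM K U hKU hK1
  have hdisj := (h34 M hM K U hKU hK1 Mstar hMstar hKst hKstH).2.2.2.1
  intro g hg a ha hga
  exfalso
  apply hg
  apply le_normalizer_zhatConj
  by_contra hgM
  obtain ⟨m, hm, z, hz, rfl⟩ := ha
  obtain ⟨m', hm', z', hz', he⟩ := hga
  have hzM : z ∈ M := (sup_le hKU.hall.1 kst_le) hz.1
  have hh : m'⁻¹ * g * m ∉ M := by
    intro h
    apply hgM
    have : g = m' * (m'⁻¹ * g * m) * m⁻¹ := by group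
    rw [this]
    exact mul_mem (mul_mem hm' h) (inv_mem hm)
  apply hdisj _ hh z' hz'
  refine ⟨z, hzM, ?_⟩
  have : z' = m'⁻¹ * (m' * z' * m'⁻¹) * m' := by group
  rw [this, ← he]
  simp only [MulEquiv.coe_toMonoidHom, MulAut.conj_apply]
  group

end s1371

end Cfsg.Agent.Lib.Helper72_BG16
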