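import Mathlib
import Cfsg.Prelude.Def_OddOrderLocal
import Cfsg.Agent.S1404
import Cfsg.Agent.Lib.Helper35_BG11a
import Cfsg.Agent.Lib.Helper72_BG16
import Cfsg.Agent.Lib.Helper79_BG141
import Cfsg.Agent.Lib.Helper53_BG16b
import Cfsg.Agent.Lib.Helper23_SigmaHall
import Cfsg.Agent.Lib.Helper22_Uniq6
import Cfsg.Agent.Lib.Helper53_Conj
import Cfsg.Agent.Lib.Helper49_Alpha3

/-!
# Bender-Glauberman, Theorem 14.2(c) (helper59)

`N` a maximal subgroup of a minimal simple group of odd order, `K_N` a nontrivial Hall `κ(N)`-subgroup of `N`,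
`X` a subgroup of prime order of `C_{N_σ}(K_N)`.  Then `C_G(X) ≤ N` and `N` is the only maximal subgroup of `G`
containing `C_G(X)`.

The frozen statements S1417, S1419, S1431 are explicit hypotheses (`Hyp1417`, `H1419`, `H1431`); S1404 is landed
and cited; the Uniqueness Theorem and S1444 enter through `UniqHyp`, `H1444` (helper49/helper70 convention).
This gives both halves of S1367.
-/

set_option autoImplicit false
set_option linter.unusedVariables false

namespace Cfsg.Agent.Lib.Helper59_BG142c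

open Subgroup Cfsg Cfsg.Agent.Lib.Helper84_RelSylow Cfsg.Agent.Lib.Helper22_BGTrans
  Cfsg.Agent.Lib.Helper49_Sigma Cfsg.Agent.Lib.Helper70_BG106 Cfsg.Agent.Lib.Helper72_BG16
  Cfsg.Agent.Lib.Helper79_BG141

universe u

/-- the frozen statement S1419, as a hypothesis on `G` -/
def H1419 (G : Type u) [Group G] [Finite G] : Prop :=
  ∀ (M : Subgroup G) (hM : IsCoatom M) (E : Subgroup G) (hE : Cfsg.IsComplIn E (Cfsg.sigmaCore M) M) (p : ℕ) [Fact p.Prime] (hp : p ∈ Cfsg.tau2 M) (hS : ∀ S : Sylow p G, ¬ IsMulCommutative (S : Subgroup G))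
    (A : Subgroup G) (hA : (A ≤ E ∧ Cfsg.IsElementaryAbelian p A ∧ Nat.card A = p ^ 2)),
    Cfsg.tau2 M = {p} ∧
      (Nat.card ↥(A ⊓ Subgroup.centralizer (Cfsg.sigmaCore M : Set G)) = p ∧
        Cfsg.fittingOf M = Cfsg.sigmaCore M ⊔ (A ⊓ Subgroup.centralizer (Cfsg.sigmaCore M : Set G))) ∧
      ∀ X : Subgroup G, X ≤ E → Nat.card X = p → X ≠ A ⊓ Subgroup.centralizer (Cfsg.sigmaCore M : Set G) →
        Cfsg.sigmaCore M ⊓ Subgroup.centralizer (X : Set G) = ⊥ ∧ ¬ Subgroup.centralizer (X : Set G) ≤ M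

variable {G : Type u} [Group G] [Finite G]

omit [Finite G] in
/-- conjugation by `g` written out -/
theorem mem_map_conj_iff {H : Subgroup G} {g x : G} :
    x ∈ H.map (MulAut.conj g).toMonoidHom ↔ g⁻¹ * x * g ∈ H := by
  rw [Subgroup.mem_map]
  constructor
  · rintro ⟨y, hy, rfl⟩
    have : g⁻¹ * ((MulAut.conj g).toMonoidHom y) * g = y := by
      simp [MulAut.conj_apply]
      group
    rw [this]; exact hy
  · intro h
    refine ⟨g⁻¹ * x * g, h, ?_⟩
    simp [MulAut.conj_apply]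
    group

/-- `N_G(X) ≤ N` for nontrivial `X ≤ K* = C_{N_σ}(K_N)` (from S1431, first conjunct) -/
theorem normalizer_le_of_le_kst (h31 : H1431 G) {N KN X : Subgroup G} (hN : IsCoatom N)
    (hK : IsPiHallOf (kappa N) KN N) (hK1 : KN ≠ ⊥) (hX : X ≤ kst N KN) (hX1 : X ≠ ⊥) :
    normalizer (X : Set G) ≤ N := by
  intro g hg
  by_contra hgN
  have h := (h31 N hN KN hK hK1).1 g hgN
  apply hX1
  rw [eq_bot_iff, ← h]
  intro x hx
  refine mem_inf.mpr ⟨hX hx, ?_⟩
  rw [mem_map_conj_iff]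
  have hg' : g⁻¹ ∈ normalizer (X : Set G) := inv_mem hg
  have h2 := (mem_normalizer_iff.mp hg' x).mp hx
  rw [inv_inv] at h2
  exact kst_le (hX h2)

omit [Finite G] in
/-- conjugating a complement of `M_σ` in `M` by an element of `M` -/
theorem isComplIn_conj {M E : Subgroup G} (hE : IsComplIn E (sigmaCore M) M) {g : G} (hg : g ∈ M) :
    IsComplIn (E.map (MulAut.conj g).toMonoidHom) (sigmaCore M) M := by
  obtain ⟨hEM, hσM, hinf, hprod⟩ := hE
  have hgi : g⁻¹ ∈ M := inv_mem hg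
  refine ⟨?_, hσM, ?_, ?_⟩
  · intro x hx
    rw [mem_map_conj_iff] at hx
    have h1 := M.mul_mem (M.mul_mem hg (hEM hx)) hgi
    have h2 : g * (g⁻¹ * x * g) * g⁻¹ = x := by group
    rwa [h2] at h1
  · rw [eq_bot_iff]
    intro x hx
    obtain ⟨hx1, hx2⟩ := mem_inf.mp hx
    rw [mem_map_conj_iff] at hx1
    have h3 : g⁻¹ * x * g ∈ sigmaCore M := by
      have := conj_mem_sigmaCore hgi hx2
      rwa [inv_inv] at this
    have h4 : g⁻¹ * x * g ∈ E ⊓ sigmaCore M := mem_inf.mpr ⟨hx1, h3⟩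
    rw [hinf, mem_bot] at h4
    rw [mem_bot]
    have h5 : x = g * (g⁻¹ * x * g) * g⁻¹ := by group
    rw [h5, h4]; group
  · intro m hm
    have hm' : g⁻¹ * m * g ∈ M := M.mul_mem (M.mul_mem hgi hm) hg
    obtain ⟨a, ha, b, hb, hab⟩ := hprod _ hm'
    refine ⟨g * a * g⁻¹, ?_, g * b * g⁻¹, conj_mem_sigmaCore hg hb, ?_⟩
    · rw [mem_map_conj_iff]
      have : g⁻¹ * (g * a * g⁻¹) * g = a := by group
      rw [this]; exact ha
    · have : m = g * (g⁻¹ * m * g) * g⁻¹ := by group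
      rw [this, hab]; group

/-- a complement of `M_σ` in `M` containing a given `q`-subgroup, `q ∉ σ(M)` -/
theorem exists_compl_ge {M R : Subgroup G} (hHall : IsPiHallOf (sigma M) (sigmaCore M) M)
    {q : ℕ} [hq : Fact q.Prime] (hqσ : q ∉ sigma M) (hRM : R ≤ M) (hRq : IsPGroup q R) :
    ∃ E : Subgroup G, IsComplIn E (sigmaCore M) M ∧ R ≤ E := by
  have hqq : q.Prime := hq.out
  obtain ⟨E₀, hE₀⟩ := Cfsg.Agent.Lib.Helper53_BG16b.exists_compl_sigmaCore hHall
  obtain ⟨T₀, -, hT₀⟩ := exists_isSylowIn_ge (p := q) (K := (⊥ : Subgroup G)) (H := E₀) bot_le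
    (IsPGroup.of_bot)
  have hcard := Cfsg.Agent.Lib.Helper53_BG16.card_of_isComplIn hE₀
  have hE₀M : E₀ ≤ M := hE₀.1
  -- `T₀` is a Sylow `q`-subgroup of `M`
  have hT₀M : IsSylowIn q T₀ M := by
    refine ⟨hT₀.le.trans hE₀M, hT₀.isPGroup, ?_⟩
    rw [← Subgroup.relIndex_mul_relIndex T₀ E₀ M hT₀.le hE₀M]
    intro hd
    rcases (Nat.Prime.dvd_mul hqq).mp hd with h | h
    · exact hT₀.not_dvd h
    · have h1 := Cfsg.Agent.Lib.Helper53_BG16.card_mul_relIndex hE₀M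
      have h2 : E₀.relIndex M = Nat.card ↥(sigmaCore M) := by
        have hpos : 0 < Nat.card E₀ := Nat.card_pos
        have : Nat.card E₀ * E₀.relIndex M = Nat.card E₀ * Nat.card ↥(sigmaCore M) := by
          rw [h1, hcard]
        exact Nat.eq_of_mul_eq_mul_left hpos this
      rw [h2] at h
      exact hqσ (Cfsg.Agent.Lib.Helper49_SigmaDisjoint.mem_sigma_of_dvd_card_sigmaCore M hqq h)
  obtain ⟨g, hgM, hg⟩ := hT₀M.exists_conj_le hRM hRq
  refine ⟨E₀.map (MulAut.conj g⁻¹).toMonoidHom, isComplIn_conj hE₀ (inv_mem hgM), ?_⟩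
  intro x hx
  rw [mem_map_conj_iff, inv_inv]
  exact hT₀.le (hg x hx)

/-- **Bender-Glauberman 14.2(c)**: for `X` of prime order in `K* = C_{N_σ}(K_N)`, `K_N ≠ 1` a Hall
`κ(N)`-subgroup of the maximal subgroup `N`, the centralizer `C_G(X)` lies in `N` and in no other maximal subgroup. -/
theorem unique_of_le_kst (hG : IsMinSimpleOddOrder G) (hU : UniqHyp G) (h44 : H1444.{u})
    (h17 : Hyp1417 G) (h19 : H1419 G) (h31 : H1431 G)
    {N KN X : Subgroup G} (hN : IsCoatom N) (hK : IsPiHallOf (kappa N) KN N) (hK1 : KN ≠ ⊥)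
    (hX : X ≤ kst N KN) (hXp : (Nat.card X).Prime) :
    centralizer (X : Set G) ≤ N ∧
      ∀ L : Subgroup G, IsCoatom L → centralizer (X : Set G) ≤ L → L = N := by
  obtain ⟨q, hq⟩ : ∃ q, q = Nat.card X := ⟨_, rfl⟩
  rw [← hq] at hXp
  have hqf : Fact q.Prime := ⟨hXp⟩
  have hX1 : X ≠ ⊥ := by
    rintro rfl
    rw [Subgroup.card_bot] at hq
    exact hXp.one_lt.ne' hq
  have hNX := normalizer_le_of_le_kst h31 hN hK hK1 hX hX1
  have hCX : centralizer (X : Set G) ≤ N := (Subgroup.centralizer_le_normalizer _).trans hNX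
  refine ⟨hCX, ?_⟩
  intro L hL hCL
  by_contra hne
  have hXσ : X ≤ sigmaCore N := hX.trans inf_le_left
  have hXN : X ≤ N := hXσ.trans (sigmaCore_le N)
  have hXL : X ≤ L := by
    refine le_trans ?_ hCL
    -- `X` is abelian (prime order)
    intro x hx
    rw [mem_centralizer_iff]
    intro y hy
    have hc : IsCyclic X := isCyclic_of_prime_card (p := q) hq.symm
    have := hc.isMulCommutative.is_comm.comm (⟨y, hy⟩ : X) ⟨x, hx⟩
    exact congrArg Subtype.val this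
  have hXq : IsPGroup q X := IsPGroup.of_card (n := 1) (by rw [pow_one, hq])
  have hqX : q ∣ Nat.card X := by rw [hq]
  have hqσ : q ∈ sigma N :=
    Cfsg.Agent.Lib.Helper49_SigmaDisjoint.mem_sigma_of_dvd_card_sigmaCore N hXp
      (hqX.trans (Subgroup.card_dvd_of_le hXσ))
  have hqk : q ∣ Nat.card ↥(kst N KN) := hqX.trans (Subgroup.card_dvd_of_le hX)
  -- uniqueness subgroups: the Sylow `q`-subgroups of `N`
  have huniq : ∀ S₁ : Subgroup G, IsSylowIn q S₁ N → S₁ ≤ L → False := by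
    intro S₁ hS₁ hS₁L
    have hS₁σ : S₁ ≤ sigmaCore N :=
      Cfsg.Agent.Lib.Helper35_BG11a.le_sigmaCore_of_isPGroup hG hU h44 hN hqσ hS₁.isPGroup hS₁.le
    have hS₁' : IsSylowIn q S₁ (sigmaCore N) := hS₁.mono hS₁σ (sigmaCore_le N)
    obtain ⟨hu, hle, -⟩ := (h31 N hN KN hK hK1).2.2.1 q hXp hqk hS₁'.toSylow
    rw [hS₁'.coe_toSylow, Subgroup.map_subgroupOf_eq_of_le hS₁σ] at hu hle
    exact hne (hu.unique ⟨hL, hS₁L⟩ ⟨hN, hle⟩)
  -- a Sylow `q`-subgroup `R` of `L ∩ N` containing `X`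
  obtain ⟨R, hXR, hR⟩ := exists_isSylowIn_ge (p := q) (H := L ⊓ N) (le_inf hXL hXN) hXq
  have hRL : R ≤ L := hR.le.trans inf_le_left
  have hRN : R ≤ N := hR.le.trans inf_le_right
  have hR1 : R ≠ ⊥ := fun h => hX1 (eq_bot_iff.mpr (h ▸ hXR))
  -- `N_G(R) ≤ N`
  have hNR : normalizer (R : Set G) ≤ N := by
    have h04 := (Cfsg.Agent.S1404.result hG N hN q hqσ R hR.isPGroup hR1 hRN).2
    rw [h04]
    refine sup_le inf_le_left ?_
    exact (Subgroup.centralizer_le (by exact_mod_cast hXR)).trans hCX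
  -- `R` is a Sylow `q`-subgroup of `L`
  have hRsL : IsSylowIn q R L := by
    obtain ⟨R₁, hRR₁, hR₁⟩ := exists_isSylowIn_ge (p := q) (H := L) hRL hR.isPGroup
    have : R₁ = R := by
      by_contra hne'
      have hnle : ¬ R₁ ≤ R := fun hle => hne' (le_antisymm hle hRR₁)
      apply normalizer_growth hXp hR₁.isPGroup hRR₁ hnle
      -- `N_{R₁}(R)` is a `q`-subgroup of `L ∩ N` containing `R`
      set T := normalizer (R : Set G) ⊓ R₁ with hT
      have hTle : T ≤ L ⊓ N := le_inf (inf_le_right.trans hR₁.le) (inf_le_left.trans hNR)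
      have hTq : IsPGroup q T := hR₁.isPGroup.to_le inf_le_right
      have hRT : R ≤ T := le_inf Subgroup.le_normalizer hRR₁
      exact (hR.eq_of_le hRT hTle hTq).le
    rw [← this]; exact hR₁
  -- a Sylow `q`-subgroup `S₁` of `N` containing `R`
  obtain ⟨S₁, hRS₁, hS₁⟩ := exists_isSylowIn_ge (p := q) (H := N) hRN hR.isPGroup
  have hS₁L : ¬ S₁ ≤ L := huniq S₁ hS₁
  -- `S₁ ∩ L = R`
  have hS₁R : S₁ ⊓ L ≤ R :=
    (hR.eq_of_le (le_inf hRS₁ hRL) (le_inf inf_le_right (inf_le_left.trans hS₁.le))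
      (hS₁.isPGroup.to_le inf_le_left)).le
  have hCS₁ : S₁ ⊓ centralizer (X : Set G) ≤ R :=
    (inf_le_inf_left S₁ hCL).trans hS₁R
  -- `S₁` is not abelian
  have hS₁na : ¬ IsMulCommutative ↥S₁ := by
    intro hc
    apply hS₁L
    refine le_trans ?_ hCL
    intro s hs
    rw [mem_centralizer_iff]
    intro x hx
    have := hc.is_comm.comm (⟨x, hRS₁ (hXR hx)⟩ : S₁) ⟨s, hs⟩
    exact congrArg Subtype.val this
  have hS : ∀ S : Sylow q G, ¬ IsMulCommutative ((S : Subgroup G)) := by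
    intro S hc
    apply hS₁na
    obtain ⟨g, hg⟩ := exists_conj_le_sylow S hS₁.isPGroup
    refine ⟨⟨fun a b => ?_⟩⟩
    have := hc.is_comm.comm (⟨g * a * g⁻¹, hg a a.2⟩ : (S : Subgroup G)) ⟨g * b * g⁻¹, hg b b.2⟩
    have h2 : g * (a : G) * g⁻¹ * (g * b * g⁻¹) = g * b * g⁻¹ * (g * a * g⁻¹) :=
      congrArg Subtype.val this
    apply Subtype.ext
    have h3 : (a : G) * b = g⁻¹ * (g * (a : G) * g⁻¹ * (g * b * g⁻¹)) * g := by group
    have h4 : (b : G) * a = g⁻¹ * (g * (b : G) * g⁻¹ * (g * a * g⁻¹)) * g := by group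
    show (a : G) * b = b * a
    rw [h3, h4, h2]
  -- `q ∉ σ(L)`
  have hqL : q ∉ sigma L := by
    intro hqσL
    obtain ⟨P, hP⟩ := exists_sylM_of_mem_sigma hqσL
    have hPL : IsSylowIn q P L := hP.1.mono hP.2.1 le_top
    have h1 : Nat.card R = Nat.card P := by
      rw [Cfsg.Agent.Lib.Helper22_Uniq.card_eq_of_isSylowIn hRsL,
        Cfsg.Agent.Lib.Helper22_Uniq.card_eq_of_isSylowIn hPL]
    have h2 : Nat.card S₁ ≤ Nat.card R := by
      rw [h1, Cfsg.Agent.Lib.Helper22_Uniq.card_eq_of_isSylowIn hP.1]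
      exact Cfsg.Agent.Lib.Helper22_Uniq.card_le_of_isPGroup le_top hS₁.isPGroup
    have h3 : R = S₁ := Subgroup.eq_of_le_of_card_ge hRS₁ h2
    exact hS₁L (h3 ▸ hRL)
  -- the `q`-rank of `L` is two
  have hr2 : PRankLE q 2 ↥L :=
    Cfsg.Agent.Lib.Helper23_SigmaHall.pRankLE_of_not_mem_sigma hG hU hL hXp hqL
  have hr1 : ¬ PRankLE q 1 ↥L := by
    intro hr1
    -- a subgroup `X₁` of order `q` in `Z(S₁)`
    have hS₁1 : S₁ ≠ ⊥ := fun h => hR1 (eq_bot_iff.mpr (h ▸ hRS₁))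
    have hnt : Nontrivial ↥S₁ := (Subgroup.nontrivial_iff_ne_bot S₁).mpr hS₁1
    have hcnt : Nontrivial ↥(Subgroup.center ↥S₁) := hS₁.isPGroup.center_nontrivial
    have hZq : IsPGroup q ↥(Subgroup.center ↥S₁) := hS₁.isPGroup.to_subgroup _
    obtain ⟨k, hk⟩ := IsPGroup.iff_card.mp hZq
    have hk0 : k ≠ 0 := by
      rintro rfl
      rw [pow_zero] at hk
      exact (Finite.one_lt_card_iff_nontrivial.mpr hcnt).ne' hk
    have hqd : q ∣ Nat.card ↥(Subgroup.center ↥S₁) := by rw [hk]; exact dvd_pow_self q hk0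
    obtain ⟨z, hz⟩ := exists_prime_orderOf_dvd_card' q hqd
    -- the element `z₀` of `G`
    obtain ⟨z₀, hz₀⟩ : ∃ z₀ : G, z₀ = ((z : ↥S₁) : G) := ⟨_, rfl⟩
    have hz₀S : z₀ ∈ S₁ := by rw [hz₀]; exact (z : ↥S₁).2
    have hz₀c : ∀ s ∈ S₁, s * z₀ = z₀ * s := by
      intro s hs
      have := Subgroup.mem_center_iff.mp z.2 ⟨s, hs⟩
      rw [hz₀]
      exact congrArg Subtype.val this
    have hz₀o : orderOf z₀ = q := by
      rw [hz₀, Subgroup.orderOf_coe, Subgroup.orderOf_coe, hz]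
    have hz₀q : z₀ ^ q = 1 := by rw [← hz₀o]; exact pow_orderOf_eq_one z₀
    have hz₀1 : z₀ ≠ 1 := by
      intro h
      rw [h, orderOf_one] at hz₀o
      exact hXp.one_lt.ne hz₀o
    have hz₀R : z₀ ∈ R := by
      apply hCS₁
      refine mem_inf.mpr ⟨hz₀S, ?_⟩
      rw [mem_centralizer_iff]
      intro x hx
      exact hz₀c x (hRS₁ (hXR hx))
    have hXc : ∀ a ∈ X, ∀ b ∈ X, a * b = b * a := by
      intro a ha b hb
      have hc : IsCyclic X := isCyclic_of_prime_card (p := q) hq.symm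
      have := hc.isMulCommutative.is_comm.comm (⟨a, ha⟩ : X) ⟨b, hb⟩
      exact congrArg Subtype.val this
    have hXe : ∀ a ∈ X, a ^ q = 1 := by
      intro a ha
      have := pow_card_eq_one' (G := X) (x := ⟨a, ha⟩)
      rw [← hq] at this
      exact congrArg Subtype.val this
    obtain ⟨hZc, hZe⟩ := Cfsg.Agent.Lib.Helper49_Alpha2.elemAb_zpowers hz₀q
    have hXZ : ∀ a ∈ X, ∀ b ∈ zpowers z₀, a * b = b * a := by
      intro a ha b hb
      obtain ⟨i, rfl⟩ := mem_zpowers_iff.mp hb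
      have h1 : Commute a z₀ := hz₀c a (hRS₁ (hXR ha))
      exact (h1.zpow_right i).eq
    obtain ⟨hEc, hEe⟩ := Cfsg.Agent.Lib.Helper49_Alpha2.elemAb_sup hXc hXe hZc hZe hXZ
    have hEL : X ⊔ zpowers z₀ ≤ L :=
      sup_le hXL ((zpowers_le.mpr hz₀R).trans hRL)
    by_cases hzX : z₀ ∈ X
    · -- then `X = ⟨z₀⟩` is central in `S₁`
      apply hS₁L
      refine le_trans ?_ hCL
      have hXz : X ≤ zpowers z₀ := by
        have hle : zpowers z₀ ≤ X := zpowers_le.mpr hzX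
        have hcard : Nat.card X ≤ Nat.card (zpowers z₀) := by
          rw [Nat.card_zpowers, hz₀o, hq]
        exact (Subgroup.eq_of_le_of_card_ge hle hcard).ge
      intro s hs
      rw [mem_centralizer_iff]
      intro x hx
      obtain ⟨i, rfl⟩ := mem_zpowers_iff.mp (hXz hx)
      have h1 : Commute s z₀ := hz₀c s hs
      exact (h1.zpow_right i).eq.symm
    · -- then `X ⟨z₀⟩` is elementary abelian of order `> q` in `L`
      apply Cfsg.Agent.Lib.Helper22_Uniq.not_pRankLE_of_elemAb hEL hEc hEe ?_ hr1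
      rw [pow_one, hq]
      apply Cfsg.Agent.Lib.Helper22_BGTrans.card_lt_card_of_lt le_sup_left
      intro hle
      exact hzX (hle (mem_sup_right (mem_zpowers z₀)))
  -- `q ∈ τ₂(L)`
  have hτ2 : q ∈ tau2 L := ⟨hXp, hqL, hr2, hr1⟩
  obtain ⟨A₀, hA₀L, hA₀e, hA₀c⟩ := Cfsg.Agent.Lib.Helper49_Alpha3.exists_elemAb_sq hr2 hr1
  obtain ⟨g, hgL, hg⟩ := hRsL.exists_conj_le hA₀L
    (Cfsg.Agent.Lib.Helper22_Uniq.isPGroup_of_isElementaryAbelian hA₀e)
  obtain ⟨A, hA⟩ : ∃ A : Subgroup G, A = A₀.map (MulAut.conj g).toMonoidHom := ⟨_, rfl⟩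
  have hAR : A ≤ R := by
    rw [hA]
    rintro _ ⟨a, ha, rfl⟩
    exact hg a ha
  have hAe : IsElementaryAbelian q A := by
    rw [hA]; exact Cfsg.Agent.Lib.Helper53_Conj.isElementaryAbelian_cj hA₀e
  have hAc : Nat.card A = q ^ 2 := by
    rw [hA, Subgroup.card_map_of_injective (MulAut.conj g).injective]; exact hA₀c
  have hHallL := (Cfsg.Agent.Lib.Helper23_SigmaHall.sigma_statement hG hU L hL).1
  obtain ⟨E, hE, hRE⟩ := exists_compl_ge hHallL hqL hRL hR.isPGroup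
  have h17L := h17 L hL q hτ2 A ⟨hAR.trans hRL, hAe, hAc⟩
  have hσN : sigmaCore L ⊓ N = ⊥ := h17L.2.2.2.2.1 N hN (Ne.symm hne) (hAR.trans hRN)
  have h19L := (h19 L hL E hE q hτ2 hS A ⟨hAR.trans hRE, hAe, hAc⟩).2.2 X (hXR.trans hRE) hq.symm
  by_cases hXA : X = A ⊓ centralizer (sigmaCore L : Set G)
  · have h1 : sigmaCore L ≤ centralizer (X : Set G) := by
      intro y hy
      rw [mem_centralizer_iff]
      intro x hx
      have hx' : x ∈ centralizer (sigmaCore L : Set G) := by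
        rw [hXA] at hx; exact (mem_inf.mp hx).2
      exact (mem_centralizer_iff.mp hx' y hy).symm
    have h2 : sigmaCore L = ⊥ := by
      rw [eq_bot_iff, ← hσN]; exact le_inf le_rfl (h1.trans hCX)
    have h3 : A ≤ X := by
      rw [hXA]
      refine le_inf le_rfl ?_
      rw [h2]
      intro a _
      rw [mem_centralizer_iff]
      intro y hy
      have : y = 1 := by simpa using hy
      rw [this]; simp
    have h4 := Subgroup.card_le_of_le h3
    rw [hAc, ← hq] at h4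
    nlinarith [hXp.two_le]
  · exact (h19L hXA).2 hCL

/-- the frozen statement S1367 (B&G Theorem 14.7 (b), both halves), from the frozen statements S1354, S1417, S1419,
S1431, S1444 and the uniqueness hypothesis as explicit hypotheses -/
theorem s1367_of_hyps (hG : IsMinSimpleOddOrder G) (hU : UniqHyp G) (h44 : H1444.{u})
    (h17 : Hyp1417 G) (h19 : H1419 G) (h31 : H1431 G) (h54 : H1354 G)
    (M : Subgroup G) (hM : IsCoatom M) (K U : Subgroup G) (hKU : Cfsg.IsSigmaDecomposition M K U) (hK1 : K ≠ ⊥)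
    (Mstar : Subgroup G) (hMstar : IsCoatom Mstar)
    (hKst : K = Cfsg.sigmaCore Mstar ⊓ Subgroup.centralizer ((Cfsg.sigmaCore M ⊓ Subgroup.centralizer (K : Set G)) : Set G))
    (hKstH : Cfsg.IsPiHallOf (Cfsg.kappa Mstar) (Cfsg.sigmaCore M ⊓ Subgroup.centralizer (K : Set G)) Mstar) :
    (∀ X : Subgroup G, X ≤ (Cfsg.sigmaCore M ⊓ Subgroup.centralizer (K : Set G)) → (Nat.card X).Prime →
        Subgroup.centralizer (X : Set G) ≤ M ∧ ∀ L : Subgroup G, IsCoatom L → Subgroup.centralizer (X : Set G) ≤ L → L = M) ∧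
      (∀ Y : Subgroup G, Y ≤ K → (Nat.card Y).Prime →
        Subgroup.centralizer (Y : Set G) ≤ Mstar ∧ ∀ L : Subgroup G, IsCoatom L → Subgroup.centralizer (Y : Set G) ≤ L → L = Mstar) := by
  refine ⟨fun X hX hXp => ?_, fun Y hY hYp => ?_⟩
  · exact unique_of_le_kst hG hU h44 h17 h19 h31 hM hKU.hall hK1 hX hXp
  · have hKst1 : Cfsg.sigmaCore M ⊓ Subgroup.centralizer (K : Set G) ≠ ⊥ := (h54 M hM K hKU.cyclic hKU.hall).1
    refine unique_of_le_kst hG hU h44 h17 h19 h31 hMstar hKstH hKst1 ?_ hYp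
    exact hY.trans hKst.le

end Cfsg.Agent.Lib.Helper59_BG142c
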