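import Mathlib

/-!
Maschke-type lemmas for a `p'`-group `X` of automorphisms of a finite abelian `p`-group `A`
(helper63): relative complements, averaging, complements of pure subgroups.
-/

set_option autoImplicit false

namespace Cfsg.Agent.Lib.Helper63_Maschke

variable {A : Type*} [CommGroup A]

/-- `B` is invariant under all elements of `X` (elementwise form). -/
def Inv (X : Subgroup (MulAut A)) (B : Subgroup A) : Prop := ∀ x ∈ X, ∀ b ∈ B, x b ∈ B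

theorem inv_iff_map (X : Subgroup (MulAut A)) (B : Subgroup A) :
    Inv X B ↔ ∀ x ∈ X, B.map x.toMonoidHom = B := by
  constructor
  · intro h x hx
    apply le_antisymm
    · rintro _ ⟨b, hb, rfl⟩
      exact h x hx b hb
    · intro b hb
      refine ⟨x⁻¹ b, h _ (X.inv_mem hx) b hb, ?_⟩
      exact MulAut.apply_inv_self A x b
  · intro h x hx b hb
    have : x b ∈ B.map x.toMonoidHom := ⟨b, hb, rfl⟩
    rwa [h x hx] at this

theorem Inv.inf {X : Subgroup (MulAut A)} {B C : Subgroup A} (hB : Inv X B) (hC : Inv X C) :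
    Inv X (B ⊓ C) := fun x hx b hb => ⟨hB x hx b hb.1, hC x hx b hb.2⟩

theorem Inv.sup {X : Subgroup (MulAut A)} {B C : Subgroup A} (hB : Inv X B) (hC : Inv X C) :
    Inv X (B ⊔ C) := by
  intro x hx b hb
  obtain ⟨y, hy, z, hz, rfl⟩ := Subgroup.mem_sup.1 hb
  rw [map_mul]
  exact Subgroup.mem_sup.2 ⟨_, hB x hx y hy, _, hC x hx z hz, rfl⟩

theorem inv_bot (X : Subgroup (MulAut A)) : Inv X ⊥ := by
  intro x _ b hb
  rw [Subgroup.mem_bot] at hb ⊢
  rw [hb, map_one]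

theorem inv_top (X : Subgroup (MulAut A)) : Inv X ⊤ := fun _ _ _ _ => Subgroup.mem_top _

/-- the image of an invariant subgroup under a power map is invariant -/
theorem Inv.map_powHom {X : Subgroup (MulAut A)} {B : Subgroup A} (hB : Inv X B) (n : ℕ) :
    Inv X (B.map (powMonoidHom n)) := by
  rintro x hx _ ⟨b, hb, rfl⟩
  refine ⟨x b, hB x hx b hb, ?_⟩
  simp only [powMonoidHom_apply, _root_.map_pow]

/-- the kernel of a power map is invariant -/
theorem inv_ker_pow (X : Subgroup (MulAut A)) (n : ℕ) :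
    Inv X (powMonoidHom n : A →* A).ker := by
  intro x _ b hb
  rw [MonoidHom.mem_ker, powMonoidHom_apply] at hb ⊢
  rw [← _root_.map_pow, hb, map_one]

/-- the preimage of an invariant subgroup under a power map is invariant -/
theorem Inv.comap_powHom {X : Subgroup (MulAut A)} {B : Subgroup A} (hB : Inv X B) (n : ℕ) :
    Inv X (B.comap (powMonoidHom n)) := by
  intro x hx b hb
  rw [Subgroup.mem_comap, powMonoidHom_apply] at hb ⊢
  rw [← _root_.map_pow]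
  exact hB x hx _ hb

/-- Extending `K` by an element `a` with `a ^ p ∈ K`, `a ∉ K ⊔ C` keeps the intersection with
`C` inside `Y`. -/
theorem ext_inf_le {p : ℕ} (hp : p.Prime) {K C Y : Subgroup A} (hKC : K ⊓ C ≤ Y)
    {a : A} (hap : a ^ p ∈ K) (ha : a ∉ K ⊔ C) : (K ⊔ Subgroup.zpowers a) ⊓ C ≤ Y := by
  rintro x ⟨hx1, hx2⟩
  obtain ⟨k, hk, z, hz, rfl⟩ := Subgroup.mem_sup.1 hx1
  obtain ⟨i, rfl⟩ := Subgroup.mem_zpowers_iff.1 hz
  by_cases hpi : (p : ℤ) ∣ i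
  · obtain ⟨i', rfl⟩ := hpi
    have h1 : a ^ ((p : ℤ) * i') ∈ K := by
      rw [zpow_mul, zpow_natCast]
      exact K.zpow_mem hap i'
    exact hKC ⟨K.mul_mem hk h1, hx2⟩
  · exfalso
    apply ha
    have hcop : Int.gcd (p : ℤ) i = 1 := by
      have h1 : ¬ p ∣ i.natAbs := fun h => hpi (Int.natCast_dvd.2 h)
      have h2 := (Nat.Prime.coprime_iff_not_dvd hp).2 h1
      simpa [Int.gcd] using h2
    have hbez := Int.gcd_eq_gcd_ab (p : ℤ) i
    rw [hcop] at hbez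
    have hai : a ^ i ∈ K ⊔ C := by
      have h1 : a ^ i = k⁻¹ * (k * a ^ i) := by rw [inv_mul_cancel_left]
      rw [h1]
      exact Subgroup.mem_sup.2 ⟨k⁻¹, K.inv_mem hk, _, hx2, rfl⟩
    have hap' : a ^ (p : ℤ) ∈ K ⊔ C := by
      rw [zpow_natCast]
      exact (le_sup_left : K ≤ K ⊔ C) hap
    have h3 : a = (a ^ (p : ℤ)) ^ (Int.gcdA (p : ℤ) i) * (a ^ i) ^ (Int.gcdB (p : ℤ) i) := by
      rw [← zpow_mul, ← zpow_mul, ← zpow_add, ← hbez]
      simp
    rw [h3]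
    exact (K ⊔ C).mul_mem ((K ⊔ C).zpow_mem hap' _) ((K ⊔ C).zpow_mem hai _)

/-- abstract relative complements in an elementary abelian section -/
theorem exists_rel_compl [Finite A] {p : ℕ} (hp : p.Prime) {Y N M : Subgroup A} (hYM : Y ≤ M)
    (hpow : ∀ m ∈ M, m ^ p ∈ Y) :
    ∃ L : Subgroup A, Y ≤ L ∧ L ≤ M ∧ L ⊓ N ≤ Y ∧ M ≤ L ⊔ N := by
  obtain ⟨L, -, hL⟩ := Finite.exists_le_maximal
    (p := fun L : Subgroup A => Y ≤ L ∧ L ≤ M ∧ L ⊓ N ≤ Y) (a := Y)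
    ⟨le_rfl, hYM, inf_le_left⟩
  obtain ⟨hYL, hLM, hLN⟩ := hL.prop
  refine ⟨L, hYL, hLM, hLN, ?_⟩
  intro m hm
  by_contra hmn
  have hext := ext_inf_le hp hLN (hYL (hpow m hm)) hmn
  have hle : L ≤ L ⊔ Subgroup.zpowers m := le_sup_left
  have hP : Y ≤ L ⊔ Subgroup.zpowers m ∧ L ⊔ Subgroup.zpowers m ≤ M ∧
      (L ⊔ Subgroup.zpowers m) ⊓ N ≤ Y :=
    ⟨hYL.trans hle, sup_le hLM ((Subgroup.zpowers_le).2 hm), hext⟩
  have h1 := hL.le_of_ge hP hle
  apply hmn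
  exact (le_sup_left : L ≤ L ⊔ N) (h1 ((le_sup_right : Subgroup.zpowers m ≤ _)
    (Subgroup.mem_zpowers m)))

/-- A subgroup `C` that is "pure of top exponent" (`c ^ p ^ E = 1 → c ∈ C ^ p`, where `A` has
exponent dividing `p ^ (E + 1)`) has a complement. -/
theorem exists_compl_of_pure [Finite A] {p : ℕ} (hp : p.Prime) (E : ℕ)
    (hE : ∀ a : A, a ^ p ^ (E + 1) = 1) (C : Subgroup A)
    (hpure : ∀ c ∈ C, c ^ p ^ E = 1 → ∃ c' ∈ C, c' ^ p = c) :
    ∃ K : Subgroup A, K ⊓ C = ⊥ ∧ K ⊔ C = ⊤ := by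
  obtain ⟨K, -, hK⟩ := Finite.exists_le_maximal
    (p := fun K : Subgroup A => K ⊓ C ≤ ⊥) (a := ⊥) inf_le_left
  have hKC : K ⊓ C ≤ ⊥ := hK.prop
  refine ⟨K, le_bot_iff.1 hKC, ?_⟩
  rw [eq_top_iff]
  intro a _
  by_contra ha
  have hex : ∃ j : ℕ, a ^ p ^ j ∈ K ⊔ C := ⟨E + 1, by rw [hE]; exact Subgroup.one_mem _⟩
  classical
  set j := Nat.find hex with hj
  have hjspec : a ^ p ^ j ∈ K ⊔ C := Nat.find_spec hex
  have hj0 : j ≠ 0 := by
    intro h0
    rw [h0, pow_zero, pow_one] at hjspec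
    exact ha hjspec
  obtain ⟨j', hj'⟩ := Nat.exists_eq_succ_of_ne_zero hj0
  have ha1 : a ^ p ^ j' ∉ K ⊔ C := Nat.find_min hex (by rw [← hj, hj']; exact Nat.lt_succ_self j')
  set a₁ := a ^ p ^ j' with ha₁
  have ha1p : a₁ ^ p ∈ K ⊔ C := by
    rw [ha₁, ← pow_mul, ← pow_succ, ← Nat.succ_eq_add_one, ← hj']
    exact hjspec
  obtain ⟨k, hk, c, hc, hkc⟩ := Subgroup.mem_sup.1 ha1p
  have h1 : k ^ p ^ E * c ^ p ^ E = 1 := by
    rw [← mul_pow, hkc, ← pow_mul, ← pow_succ']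
    exact hE a₁
  have h2 : c ^ p ^ E = 1 := by
    have h3 : c ^ p ^ E ∈ K ⊓ C := by
      refine ⟨?_, C.pow_mem hc _⟩
      have : c ^ p ^ E = (k ^ p ^ E)⁻¹ := eq_inv_of_mul_eq_one_right h1
      rw [this]
      exact K.inv_mem (K.pow_mem hk _)
    exact (Subgroup.mem_bot).1 (hKC h3)
  obtain ⟨c', hc', hc'p⟩ := hpure c hc h2
  set a₂ := a₁ / c' with ha₂
  have ha2p : a₂ ^ p ∈ K := by
    rw [ha₂, div_pow, hc'p, ← hkc, mul_div_cancel_right]
    exact hk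
  have ha2 : a₂ ∉ K ⊔ C := by
    intro h
    apply ha1
    have : a₁ = a₂ * c' := by rw [ha₂, div_mul_cancel]
    rw [this]
    exact (K ⊔ C).mul_mem h ((le_sup_right : C ≤ K ⊔ C) hc')
  have hext := ext_inf_le hp hKC ha2p ha2
  have hle : K ≤ K ⊔ Subgroup.zpowers a₂ := le_sup_left
  have h4 := hK.le_of_ge hext hle
  apply ha2
  exact (le_sup_left : K ≤ K ⊔ C) (h4 ((le_sup_right : Subgroup.zpowers a₂ ≤ _)
    (Subgroup.mem_zpowers a₂)))

/-- In a `p`-group, `n`-th powers (`n` prime to `p`) are bijective on every subgroup. -/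
theorem exists_pow_eq {p : ℕ} (hA : IsPGroup p A) {n : ℕ} (hn : p.Coprime n) (H : Subgroup A)
    {h : A} (hh : h ∈ H) : ∃ h' ∈ H, h' ^ n = h := by
  have hH : IsPGroup p H := hA.to_subgroup H
  obtain ⟨h', hh'⟩ := (hH.powEquiv hn).surjective ⟨h, hh⟩
  refine ⟨h', h'.2, ?_⟩
  have := congrArg (fun z : H => (z : A)) hh'
  simpa using this

theorem pow_injective {p : ℕ} (hA : IsPGroup p A) {n : ℕ} (hn : p.Coprime n) {a b : A}
    (h : a ^ n = b ^ n) : a = b :=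
  (hA.powEquiv hn).injective h

/-- **Relative Maschke**: an abstract relative complement `L₀` of `N` in `M` over `Y`
(all of `Y ≤ N ≤ M` invariant) can be replaced by an invariant one. -/
theorem exists_inv_rel_compl [Finite A] {p : ℕ} (hA : IsPGroup p A)
    (X : Subgroup (MulAut A)) (hX : (Nat.card X).Coprime p) {Y N M L₀ : Subgroup A}
    (hY : Inv X Y) (hN : Inv X N) (hM : Inv X M) (hYN : Y ≤ N) (hNM : N ≤ M)
    (hLN : L₀ ⊓ N ≤ Y) (hsup : M ≤ L₀ ⊔ N) :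
    ∃ L : Subgroup A, Inv X L ∧ Y ≤ L ∧ L ≤ M ∧ L ⊓ N ≤ Y ∧ M ≤ L ⊔ N := by
  classical
  have : Fintype X := Fintype.ofFinite X
  have hcard : p.Coprime (Fintype.card X) := by
    rw [← Nat.card_eq_fintype_card]; exact hX.symm
  -- the `N`-component
  have hdec : ∀ a : A, ∃ n : A, a ∈ M → (n ∈ N ∧ a / n ∈ L₀) := by
    intro a
    by_cases ha : a ∈ M
    · obtain ⟨l, hl, n, hn, rfl⟩ := Subgroup.mem_sup.1 (hsup ha)
      exact ⟨n, fun _ => ⟨hn, by rw [mul_div_cancel_right]; exact hl⟩⟩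
    · exact ⟨1, fun h => absurd h ha⟩
  choose ν hν using hdec
  have hνN : ∀ a ∈ M, ν a ∈ N := fun a ha => (hν a ha).1
  have hνL : ∀ a ∈ M, a / ν a ∈ L₀ := fun a ha => (hν a ha).2
  have huniq : ∀ a n n' : A, n ∈ N → n' ∈ N → a / n ∈ L₀ → a / n' ∈ L₀ → n / n' ∈ Y := by
    intro a n n' hn hn' h1 h2
    apply hLN
    refine ⟨?_, N.div_mem hn hn'⟩
    have : n / n' = (a / n') / (a / n) := (div_div_div_cancel_left _ _ _).symm
    rw [this]
    exact L₀.div_mem h2 h1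
  have hνmul : ∀ a ∈ M, ∀ b ∈ M, ν (a * b) / (ν a * ν b) ∈ Y := by
    intro a ha b hb
    apply huniq (a * b) _ _ (hνN _ (M.mul_mem ha hb)) (N.mul_mem (hνN a ha) (hνN b hb))
      (hνL _ (M.mul_mem ha hb))
    rw [mul_div_mul_comm]
    exact L₀.mul_mem (hνL a ha) (hνL b hb)
  have hνid : ∀ n ∈ N, ν n / n ∈ Y := fun n hn =>
    huniq n _ _ (hνN n (hNM hn)) hn (hνL n (hNM hn)) (by rw [div_self']; exact L₀.one_mem)
  -- the averaged map
  let Θ : A → A := fun a => ∏ x : X, (x : MulAut A) (ν ((x : MulAut A)⁻¹ a))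
  have hΘdef : ∀ a, Θ a = ∏ x : X, (x : MulAut A) (ν ((x : MulAut A)⁻¹ a)) := fun a => rfl
  have hxM : ∀ (x : X) (a : A), a ∈ M → (x : MulAut A)⁻¹ a ∈ M :=
    fun x a ha => hM _ (X.inv_mem x.2) a ha
  have hxN : ∀ (x : X) (a : A), a ∈ N → (x : MulAut A)⁻¹ a ∈ N :=
    fun x a ha => hN _ (X.inv_mem x.2) a ha
  have hΘN : ∀ a ∈ M, Θ a ∈ N := fun a ha =>
    Subgroup.prod_mem _ (fun x _ => hN _ x.2 _ (hνN _ (hxM x a ha)))
  have hΘmul : ∀ a ∈ M, ∀ b ∈ M, Θ (a * b) / (Θ a * Θ b) ∈ Y := by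
    intro a ha b hb
    rw [hΘdef, hΘdef, hΘdef, ← Finset.prod_mul_distrib, ← Finset.prod_div_distrib]
    apply Subgroup.prod_mem
    intro x _
    have h1 : (x : MulAut A) (ν ((x : MulAut A)⁻¹ (a * b))) /
        ((x : MulAut A) (ν ((x : MulAut A)⁻¹ a)) * (x : MulAut A) (ν ((x : MulAut A)⁻¹ b))) =
        (x : MulAut A) (ν ((x : MulAut A)⁻¹ a * (x : MulAut A)⁻¹ b) /
          (ν ((x : MulAut A)⁻¹ a) * ν ((x : MulAut A)⁻¹ b))) := by
      rw [map_div, map_mul, map_mul]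
    rw [h1]
    exact hY _ x.2 _ (hνmul _ (hxM x a ha) _ (hxM x b hb))
  have hΘeq : ∀ x₀ ∈ X, ∀ a, Θ (x₀ a) = x₀ (Θ a) := by
    intro x₀ hx₀ a
    rw [hΘdef, hΘdef, map_prod]
    rw [← Fintype.prod_equiv (Equiv.mulLeft (⟨x₀, hx₀⟩ : X))
      (fun x : X => x₀ ((x : MulAut A) (ν ((x : MulAut A)⁻¹ a))))
      (fun x : X => (x : MulAut A) (ν ((x : MulAut A)⁻¹ (x₀ a))))]
    intro x
    simp only [Equiv.coe_mulLeft, Subgroup.coe_mul, mul_inv_rev, MulAut.mul_apply,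
      MulAut.inv_apply_self]
  have hΘid : ∀ n ∈ N, Θ n / n ^ Fintype.card X ∈ Y := by
    intro n hn
    have h1 : n ^ Fintype.card X = ∏ _x : X, n := by
      rw [Finset.prod_const, Finset.card_univ]
    rw [hΘdef, h1, ← Finset.prod_div_distrib]
    apply Subgroup.prod_mem
    intro x _
    have h2 : (x : MulAut A) (ν ((x : MulAut A)⁻¹ n)) / n =
        (x : MulAut A) (ν ((x : MulAut A)⁻¹ n) / (x : MulAut A)⁻¹ n) := by
      rw [map_div, MulAut.apply_inv_self]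
    rw [h2]
    exact hY _ x.2 _ (hνid _ (hxN x n hn))
  have hΘ1 : Θ 1 ∈ Y := by
    have := hΘid 1 N.one_mem
    rwa [one_pow, div_one] at this
  have hΘmul' : ∀ a ∈ M, ∀ b ∈ M, (Θ (a * b) ∈ Y ↔ Θ a * Θ b ∈ Y) := by
    intro a ha b hb
    have h := hΘmul a ha b hb
    constructor
    · intro h1
      have : Θ a * Θ b = Θ (a * b) / (Θ (a * b) / (Θ a * Θ b)) := by rw [div_div_cancel]
      rw [this]
      exact Y.div_mem h1 h
    · intro h1
      have : Θ (a * b) = Θ (a * b) / (Θ a * Θ b) * (Θ a * Θ b) := by rw [div_mul_cancel]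
      rw [this]
      exact Y.mul_mem h h1
  let L : Subgroup A :=
    { carrier := {a | a ∈ M ∧ Θ a ∈ Y}
      one_mem' := ⟨M.one_mem, hΘ1⟩
      mul_mem' := by
        rintro a b ⟨ha, ha'⟩ ⟨hb, hb'⟩
        exact ⟨M.mul_mem ha hb, (hΘmul' a ha b hb).2 (Y.mul_mem ha' hb')⟩
      inv_mem' := by
        rintro a ⟨ha, ha'⟩
        refine ⟨M.inv_mem ha, ?_⟩
        have h1 : Θ (a⁻¹ * a) ∈ Y := by rw [inv_mul_cancel]; exact hΘ1
        have h2 := (hΘmul' a⁻¹ (M.inv_mem ha) a ha).1 h1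
        exact (Subgroup.mul_mem_cancel_right Y ha').1 h2 }
  have hmemL : ∀ a, a ∈ L ↔ a ∈ M ∧ Θ a ∈ Y := fun a => Iff.rfl
  have hYΘ : ∀ n ∈ N, (Θ n ∈ Y ↔ n ∈ Y) := by
    intro n hn
    have h := hΘid n hn
    constructor
    · intro h1
      have h2 : n ^ Fintype.card X ∈ Y := by
        have : n ^ Fintype.card X = Θ n / (Θ n / n ^ Fintype.card X) := by rw [div_div_cancel]
        rw [this]
        exact Y.div_mem h1 h
      obtain ⟨y, hy, hy'⟩ := exists_pow_eq hA hcard Y h2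
      have : y = n := pow_injective hA hcard hy'
      rwa [← this]
    · intro h1
      have : Θ n = Θ n / n ^ Fintype.card X * n ^ Fintype.card X := by rw [div_mul_cancel]
      rw [this]
      exact Y.mul_mem h (Y.pow_mem h1 _)
  refine ⟨L, ?_, ?_, ?_, ?_, ?_⟩
  · intro x hx a ha
    rw [hmemL] at ha ⊢
    refine ⟨hM x hx a ha.1, ?_⟩
    rw [hΘeq x hx]
    exact hY x hx _ ha.2
  · intro y hy
    rw [hmemL]
    exact ⟨hNM (hYN hy), (hYΘ y (hYN hy)).2 hy⟩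
  · intro a ha
    exact ((hmemL a).1 ha).1
  · rintro a ⟨ha1, ha2⟩
    exact (hYΘ a ha2).1 ((hmemL a).1 ha1).2
  · intro a ha
    obtain ⟨n, hn, hn'⟩ := exists_pow_eq hA hcard N (hΘN a ha)
    have hnM : n ∈ M := hNM hn
    have h1 : a / n ∈ L := by
      rw [hmemL]
      refine ⟨M.div_mem ha hnM, ?_⟩
      have h2 : Θ (a / n * n) / (Θ (a / n) * Θ n) ∈ Y :=
        hΘmul (a / n) (M.div_mem ha hnM) n hnM
      rw [div_mul_cancel] at h2
      -- Θ a / Θ n ∈ Y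
      have h3 : Θ a / Θ n ∈ Y := by
        have h4 := hΘid n hn
        rw [hn'] at h4
        have : Θ a / Θ n = (Θ n / Θ a)⁻¹ := by rw [inv_div]
        rw [this]
        exact Y.inv_mem h4
      have h5 : Θ (a / n) = (Θ a / Θ n) / (Θ a / (Θ (a / n) * Θ n)) := by
        rw [div_div_div_cancel_left, mul_div_cancel_right]
      rw [h5]
      exact Y.div_mem h3 h2
    have : a = a / n * n := by rw [div_mul_cancel]
    rw [this]
    exact Subgroup.mem_sup.2 ⟨_, h1, _, hn, rfl⟩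

end Cfsg.Agent.Lib.Helper63_Maschke
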