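import Cfsg.Agent.Lib.Helper97_BG127c
import Cfsg.Agent.Lib.Helper59_BG142c
import Cfsg.Agent.Lib.Helper63_Maschke
import Cfsg.Agent.Lib.Helper29_Gaschutz

/-!
# Bender–Glauberman 12.11, the nonabelian case (piece P6 of helper47's plan for S1421) (helper97)

`M` maximal, `E` a complement of `M_σ`, `p ∈ τ₂(M)` with nonabelian Sylow `p`-subgroups in `G`, `A ≤ E` elementary
abelian of order `p ^ 2`, and hypothesis (H): every `τ₁ ∪ τ₃`-element of `E#` acts freely on `M_σ`.  Then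
`A₀ = C_A(M_σ)` is an abelian normal subgroup of `E` containing `C_E(x)` for all `x ∈ M_σ#`, and `A₀` has a
complement `E₀` in `E`, of the same exponent as `E`, acting freely on `M_σ`.
-/

set_option autoImplicit false

namespace Cfsg.Agent.Lib.Helper97_BG1211f

open Subgroup Cfsg Cfsg.Agent.Lib.Helper22_BGTrans Cfsg.Agent.Lib.Helper22_Radical
  Cfsg.Agent.Lib.Helper84_RelSylow Cfsg.Agent.Lib.Helper49_Sigma Cfsg.Agent.Lib.Helper73_BG12
  Cfsg.Agent.Lib.Helper22_BGTransUp Cfsg.Agent.Lib.Helper73_BG126 Cfsg.Agent.Lib.Helper70_BG106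
  Cfsg.Agent.Lib.Helper97_BG127c Cfsg.Agent.Lib.Helper59_BG142c

universe u

section General

variable {G : Type*} [Group G]

/-- modulo a subgroup `N` normalized by `y`, `(a y) ^ m = y ^ m` for `a ∈ N` -/
theorem mul_pow_mul_inv_mem {N : Subgroup G} {a y : G} (ha : a ∈ N)
    (hy : y ∈ normalizer (N : Set G)) (m : ℕ) : (a * y) ^ m * (y ^ m)⁻¹ ∈ N := by
  induction m with
  | zero => simp
  | succ m ih =>
    have h1 : y ^ m * a * (y ^ m)⁻¹ ∈ N :=
      (Subgroup.mem_normalizer_iff.mp (Subgroup.pow_mem _ hy m) a).mp ha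
    have h2 : (a * y) ^ (m + 1) * (y ^ (m + 1))⁻¹
        = ((a * y) ^ m * (y ^ m)⁻¹) * (y ^ m * a * (y ^ m)⁻¹) := by
      rw [pow_succ, pow_succ]
      group
    rw [h2]
    exact N.mul_mem ih h1

/-- a subgroup `A₀` of an abelian subgroup `P` meeting the `p`-th powers of `P` trivially has a complement in `P` -/
theorem exists_compl_of_pow [Finite G] {p : ℕ} (hp : p.Prime) {P A₀ : Subgroup G} (hA₀P : A₀ ≤ P)
    (hPc : ∀ a ∈ P, ∀ b ∈ P, a * b = b * a) (hK : ∀ d ∈ P, d ^ p ∈ A₀ → d ^ p = 1) :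
    ∃ L : Subgroup G, L ≤ P ∧ L ⊓ A₀ = ⊥ ∧ L ⊔ A₀ = P := by
  let _ : CommGroup ↥P :=
    { (inferInstance : Group ↥P) with
      mul_comm := fun a b => Subtype.ext (hPc a a.2 b b.2) }
  obtain ⟨L, hYL, -, hLN, hsup⟩ := Cfsg.Agent.Lib.Helper63_Maschke.exists_rel_compl hp
    (Y := (powMonoidHom p : ↥P →* ↥P).range) (N := A₀.subgroupOf P) (M := ⊤) le_top
    (fun m _ => ⟨m, rfl⟩)
  refine ⟨L.map P.subtype, Subgroup.map_subtype_le L, ?_, ?_⟩
  · rw [eq_bot_iff]
    rintro x ⟨⟨y, hyL, rfl⟩, hxA⟩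
    have h1 : y ∈ L ⊓ A₀.subgroupOf P := ⟨hyL, Subgroup.mem_subgroupOf.mpr hxA⟩
    obtain ⟨d, hd⟩ := hLN h1
    have h2 : (d : G) ^ p = (y : G) := by
      have := congrArg Subtype.val hd
      simpa using this
    have h3 := hK d d.2 (by rw [h2]; exact hxA)
    rw [Subgroup.mem_bot]
    show (y : G) = 1
    rw [← h2, h3]
  · apply le_antisymm (sup_le (Subgroup.map_subtype_le L) hA₀P)
    intro x hx
    have h1 : (⟨x, hx⟩ : ↥P) ∈ L ⊔ A₀.subgroupOf P := hsup (Subgroup.mem_top _)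
    obtain ⟨l, hl, a, ha, hla⟩ := Subgroup.mem_sup.mp h1
    have h2 : x = (l : G) * (a : G) := by
      have := congrArg Subtype.val hla
      simpa using this.symm
    rw [h2]
    exact Subgroup.mul_mem _ (Subgroup.mem_sup_left ⟨l, hl, rfl⟩)
      (Subgroup.mem_sup_right (Subgroup.mem_subgroupOf.mp ha))

/-- **Gaschütz** in subgroup form: an abelian subgroup `A₀` normalized by `E`, with a complement `L` in a subgroup
`P ≤ E` of index prime to `|A₀|`, has a complement in `E` -/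
theorem exists_compl_gaschutz [Finite G] {E P A₀ L : Subgroup G} (hPE : P ≤ E) (hA₀P : A₀ ≤ P)
    (hEN : E ≤ normalizer (A₀ : Set G)) (hA₀c : ∀ a ∈ A₀, ∀ b ∈ A₀, a * b = b * a)
    (hLP : L ≤ P) (hLA : L ⊓ A₀ = ⊥) (hsup : L ⊔ A₀ = P)
    (hcop : (Nat.card A₀).Coprime (P.relIndex E)) :
    ∃ E₀ : Subgroup G, E₀ ≤ E ∧ E₀ ⊓ A₀ = ⊥ ∧ (∀ e ∈ E, ∃ a ∈ A₀, ∃ y ∈ E₀, e = a * y) ∧
      Nat.card E = Nat.card A₀ * Nat.card E₀ := by
  have hA₀E : A₀ ≤ E := hA₀P.trans hPE
  have : (A₀.subgroupOf E).Normal := (Subgroup.normal_subgroupOf_iff_le_normalizer hA₀E).mpr hEN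
  have : IsMulCommutative ↥(A₀.subgroupOf E) :=
    ⟨⟨fun a b => Subtype.ext (Subtype.ext (hA₀c a.1 a.2 b.1 b.2))⟩⟩
  have h1 : L.subgroupOf E ⊓ A₀.subgroupOf E = ⊥ := by
    rw [eq_bot_iff]
    intro x hx
    have h0 : (x : G) ∈ L ⊓ A₀ :=
      ⟨Subgroup.mem_subgroupOf.mp hx.1, Subgroup.mem_subgroupOf.mp hx.2⟩
    rw [hLA, Subgroup.mem_bot] at h0
    rw [Subgroup.mem_bot]
    exact Subtype.ext h0
  have h2 : L.subgroupOf E ⊔ A₀.subgroupOf E = P.subgroupOf E := by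
    rw [← Subgroup.subgroupOf_sup (hLP.trans hPE) hA₀E, hsup]
  have hcard : Nat.card ↥(A₀.subgroupOf E) = Nat.card A₀ :=
    Nat.card_congr (Subgroup.subgroupOfEquivOfLe hA₀E).toEquiv
  obtain ⟨H, hH⟩ := Cfsg.Agent.Lib.Helper29_Gaschutz.exists_complement (A₀.subgroupOf E)
    (L.subgroupOf E) h1 (by rw [h2, hcard]; exact hcop)
  refine ⟨H.map E.subtype, Subgroup.map_subtype_le H, ?_, ?_, ?_⟩
  · rw [eq_bot_iff]
    rintro x ⟨⟨y, hyH, rfl⟩, hxA⟩
    have h3 : y ∈ A₀.subgroupOf E ⊓ H := ⟨Subgroup.mem_subgroupOf.mpr hxA, hyH⟩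
    rw [hH.disjoint.eq_bot, Subgroup.mem_bot] at h3
    rw [Subgroup.mem_bot, h3]
    rfl
  · intro e he
    have h3 : (⟨e, he⟩ : ↥E) ∈ A₀.subgroupOf E ⊔ H := by
      rw [hH.sup_eq_top]; exact Subgroup.mem_top _
    obtain ⟨a, ha, y, hy, hay⟩ := Subgroup.mem_sup_of_normal_left.mp h3
    refine ⟨a, Subgroup.mem_subgroupOf.mp ha, y, ⟨y, hy, rfl⟩, ?_⟩
    have := congrArg Subtype.val hay
    simpa using this.symm
  · have h3 := hH.card_mul_card
    rw [hcard] at h3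
    rw [← h3, Subgroup.card_map_of_injective E.subtype_injective]

end General

section Main

variable {G : Type u} [Group G] [Finite G] {p : ℕ} [hp : Fact p.Prime] {M E A : Subgroup G}

/-- `|M : E| = |M_σ|` -/
theorem relIndex_compl (hE : IsComplIn E (sigmaCore M) M) :
    E.relIndex M = Nat.card (sigmaCore M) := by
  have h1 := Subgroup.relIndex_mul_relIndex ⊥ E M bot_le hE.1
  rw [Subgroup.relIndex_bot_left, Subgroup.relIndex_bot_left,
    Cfsg.Agent.Lib.Helper53_BG16.card_of_isComplIn hE] at h1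
  exact Nat.eq_of_mul_eq_mul_left Nat.card_pos h1

/-- a Sylow `p`-subgroup of `E` is a Sylow `p`-subgroup of `M` -/
theorem isSylowIn_of_compl (hE : IsComplIn E (sigmaCore M) M) (hpτ : p ∈ tau2 M) {P : Subgroup G}
    (hP : IsSylowIn p P E) : IsSylowIn p P M := by
  refine ⟨hP.le.trans hE.1, hP.isPGroup, ?_⟩
  rw [← Subgroup.relIndex_mul_relIndex P E M hP.le hE.1]
  intro hdvd
  rcases (Nat.Prime.dvd_mul hp.out).mp hdvd with h | h
  · exact hP.not_dvd h
  · rw [relIndex_compl hE] at h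
    exact not_dvd_card_sigmaCore hpτ h

omit [Finite G] in
/-- a Sylow `p`-subgroup `P ≥ A` of `M` is abelian with `Ω₁(P) = A` -/
theorem sylow_facts (h17 : Hyp1417Full G) (hM : IsCoatom M) (hpτ : p ∈ tau2 M) (hAM : A ≤ M)
    (hAe : IsElementaryAbelian p A) (hA2 : Nat.card A = p ^ 2) {P : Subgroup G}
    (hP : IsSylowIn p P M) (hAP : A ≤ P) :
    (∀ a ∈ P, ∀ b ∈ P, a * b = b * a) ∧ ∀ x ∈ P, x ^ p = 1 ↔ x ∈ A := by
  obtain ⟨-, h17b, -, -, -, -⟩ := h17 M hM p hpτ A ⟨hAM, hAe, hA2⟩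
  have hPmap : ((hP.toSylow : Sylow p ↥M) : Subgroup ↥M).map M.subtype = P := by
    rw [hP.coe_toSylow, Subgroup.map_subgroupOf_eq_of_le hP.le]
  obtain ⟨hPc, hPb⟩ := h17b hP.toSylow
  rw [hPmap] at hPb
  obtain ⟨hΩ, -⟩ := hPb hAP
  refine ⟨?_, hΩ⟩
  intro a ha b hb
  have ha' : (⟨a, hP.le ha⟩ : ↥M) ∈ (hP.toSylow : Subgroup ↥M) := (hP.mem_toSylow _).mpr ha
  have hb' : (⟨b, hP.le hb⟩ : ↥M) ∈ (hP.toSylow : Subgroup ↥M) := (hP.mem_toSylow _).mpr hb
  have h2 := hPc.is_comm.comm ⟨_, ha'⟩ ⟨_, hb'⟩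
  have h3 := congrArg (fun z : ↥(hP.toSylow : Subgroup ↥M) => ((z : ↥M) : G)) h2
  simpa using h3

/-- **Claim K**: no nonidentity element of `A₀` is a `p ^ k`-th power (`k ≥ 1`) in `P` -/
theorem claimK (hG : IsMinSimpleOddOrder G) (hU : UniqHyp G) (h44 : H1444.{u}) (hC : CentHyp G)
    (h17 : Hyp1417Full G) (hM : IsCoatom M) (hE : IsComplIn E (sigmaCore M) M) (hpτ : p ∈ tau2 M)
    (hAE : A ≤ E) (hAe : IsElementaryAbelian p A) (hA2 : Nat.card A = p ^ 2)
    (hna : ∀ S : Sylow p G, ¬ IsMulCommutative (S : Subgroup G)) {P : Subgroup G}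
    (hP : IsSylowIn p P M) (hAP : A ≤ P) {d : G} (hd : d ∈ P) {k : ℕ} (hk : 1 ≤ k)
    (hw : d ^ p ^ k ∈ A ⊓ centralizer ((sigmaCore M : Subgroup G) : Set G)) : d ^ p ^ k = 1 := by
  have hpp := hp.out
  have hAM : A ≤ M := hAE.trans hE.1
  obtain ⟨hA₀card, hA₀C, -⟩ := part_bc hG hU h44 hC h17 hM hE hpτ ⟨hAE, hAe, hA2⟩ hna
  obtain ⟨hPcomm, hΩ⟩ := sylow_facts h17 hM hpτ hAM hAe hA2 hP hAP
  by_contra hw1
  obtain ⟨S0, hPS⟩ := hP.isPGroup.exists_le_sylow
  have hSp : IsPGroup p ↥(S0 : Subgroup G) := S0.2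
  have hSM : ∀ s ∈ (S0 : Subgroup G), s ∈ M → s ∈ P := by
    have hK : (S0 : Subgroup G) ⊓ M = P :=
      hP.eq_of_le (le_inf hPS hP.le) inf_le_right (hSp.to_le inf_le_left)
    intro s hs hsM
    rw [← hK]; exact ⟨hs, hsM⟩
  have hA1 : A ≠ ⊥ := by
    intro h
    rw [h, Subgroup.card_bot] at hA2
    exact (Nat.one_lt_pow two_ne_zero hpp.one_lt).ne hA2
  have hp2 : p ≠ 2 :=
    Cfsg.Agent.Lib.Helper52_BG12a.ne_two_of_isPGroup hG (IsPGroup.of_card hA2) hA1
  have hAmax := maximal_of_tau2 hG hM hpτ hAM hAe hA2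
  apply hna S0
  obtain ⟨j, rfl⟩ : ∃ j, k = j + 1 := ⟨k - 1, by omega⟩
  refine Cfsg.Agent.Lib.Helper97_BG127b.comm_of_forall_mem p hp2 (S0 : Subgroup G) hSp
    (fun hr => Cfsg.Agent.S1412.result hG p S0 hr) A (hAP.trans hPS) hAe hA2
    (fun B _ hB hAB => hAmax B hB hAB) (d ^ p ^ j) (Subgroup.pow_mem _ (hPS hd) _) ?_
  intro u hu hup hcomm
  rw [← pow_mul, ← pow_succ] at hcomm
  apply (hΩ u ?_).mp hup
  apply hSM u hu
  apply hA₀C
  -- `A₀` is generated by `w`
  have hzp : zpowers (d ^ p ^ (j + 1)) = A ⊓ centralizer ((sigmaCore M : Subgroup G) : Set G) := by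
    apply Subgroup.eq_of_le_of_card_ge (Subgroup.zpowers_le.mpr hw)
    rw [hA₀card, Nat.card_zpowers]
    have h1 : orderOf (d ^ p ^ (j + 1)) ∣ p := by
      apply orderOf_dvd_of_pow_eq_one
      exact hAe.2 _ hw.1
    rcases (Nat.dvd_prime hpp).mp h1 with h | h
    · exact absurd (orderOf_eq_one_iff.mp h) hw1
    · exact h.ge
  rw [← hzp, Subgroup.mem_centralizer_iff]
  intro y hy
  obtain ⟨n, rfl⟩ := Subgroup.mem_zpowers_iff.mp hy
  exact ((show Commute u (d ^ p ^ (j + 1)) from hcomm).zpow_right n).eq.symm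

/-- `|M : M_σ| = |E|` -/
theorem relIndex_sigmaCore_eq (hE : IsComplIn E (sigmaCore M) M) :
    (sigmaCore M).relIndex M = Nat.card E := by
  have h1 := Subgroup.relIndex_mul_relIndex ⊥ (sigmaCore M) M bot_le hE.2.1
  rw [Subgroup.relIndex_bot_left, Subgroup.relIndex_bot_left,
    Cfsg.Agent.Lib.Helper53_BG16.card_of_isComplIn hE, mul_comm (Nat.card E)] at h1
  exact Nat.eq_of_mul_eq_mul_left Nat.card_pos h1

/-- the primes dividing `|E|` lie in `τ₁(M) ∪ τ₃(M)` or in `τ₂(M)` -/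
theorem mem_tau_of_dvd_card (hG : IsMinSimpleOddOrder G) (hU : UniqHyp G) (hM : IsCoatom M)
    (hE : IsComplIn E (sigmaCore M) M) {r : ℕ} (hr : r.Prime) (hdvd : r ∣ Nat.card E) :
    r ∈ tau1 M ∪ tau3 M ∨ r ∈ tau2 M := by
  have hrσ : r ∉ sigma M := by
    intro h
    apply Cfsg.Agent.Lib.Helper23_SigmaHall.not_dvd_index_sigma hG hU hM hr h
    rw [← Cfsg.Agent.Lib.Helper23_SigmaHall.relIndex_sigmaCore, relIndex_sigmaCore_eq hE]
    exact hdvd
  have hrM : r ∣ Nat.card M := by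
    rw [Cfsg.Agent.Lib.Helper53_BG16.card_of_isComplIn hE]
    exact hdvd.mul_right _
  by_cases h1 : PRankLE r 1 ↥M
  · left
    by_cases h2 : r ∣ Nat.card ↥⁅M, M⁆
    · exact Or.inr ⟨hr, hrσ, h2, h1⟩
    · exact Or.inl ⟨hr, hrσ, hrM, h2, h1⟩
  · right
    exact ⟨hr, hrσ, Cfsg.Agent.Lib.Helper23_SigmaHall.pRankLE_of_not_mem_sigma hG hU hM hr hrσ, h1⟩

/-- **B-G 12.11, nonabelian case, first part**: `C_E(x) ≤ A₀` for `x ∈ M_σ#` -/
theorem centralizer_le (hG : IsMinSimpleOddOrder G) (hU : UniqHyp G) (h44 : H1444.{u}) (hC : CentHyp G)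
    (h17 : Hyp1417Full G) (hM : IsCoatom M) (hE : IsComplIn E (sigmaCore M) M)
    (hH : ∀ e ∈ E, e ≠ 1 → (∀ q : ℕ, q.Prime → q ∣ orderOf e → q ∈ tau1 M ∪ tau3 M) →
      sigmaCore M ⊓ centralizer ({e} : Set G) = ⊥)
    (hpτ : p ∈ tau2 M)
    (hAE : A ≤ E) (hAe : IsElementaryAbelian p A) (hA2 : Nat.card A = p ^ 2)
    (hna : ∀ S : Sylow p G, ¬ IsMulCommutative (S : Subgroup G)) {P : Subgroup G}
    (hP : IsSylowIn p P E) (hAP : A ≤ P) {x : G} (hx : x ∈ sigmaCore M) (hx1 : x ≠ 1) :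
    E ⊓ centralizer ({x} : Set G) ≤ A ⊓ centralizer ((sigmaCore M : Subgroup G) : Set G) := by
  have hpp := hp.out
  have hAM : A ≤ M := hAE.trans hE.1
  obtain ⟨hA₀card, -, h3⟩ := part_bc hG hU h44 hC h17 hM hE hpτ ⟨hAE, hAe, hA2⟩ hna
  have hτ := part_a hG hU h44 hC h17 hM hE hpτ ⟨hAE, hAe, hA2⟩ hna
  have hPM := isSylowIn_of_compl hE hpτ hP
  have hEN : E ≤ normalizer
      ((A ⊓ centralizer ((sigmaCore M : Subgroup G) : Set G) : Subgroup G) : Set G) :=
    hE.1.trans (le_normalizer_inf_centralizer h17 hM hpτ hAM hAe hA2)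
  -- an element of `E` commuting with `x` has order a power of `p`
  have hcomm : ∀ e ∈ E, e * x = x * e → e ≠ 1 → ∀ r : ℕ, r.Prime → r ∣ orderOf e → r = p := by
    intro e heE hex he1 r hr hrd
    have hr' : r ∣ Nat.card E := hrd.trans (Subgroup.orderOf_dvd_natCard E heE)
    have ho : orderOf (e ^ (orderOf e / r)) = r :=
      orderOf_pow_orderOf_div (orderOf_pos e).ne' hrd
    rcases mem_tau_of_dvd_card hG hU hM hE hr hr' with h | h
    · exfalso
      have h4 := hH (e ^ (orderOf e / r)) (Subgroup.pow_mem _ heE _)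
        (by intro h5; rw [h5, orderOf_one] at ho; exact hr.one_lt.ne ho)
        (by
          intro q hq hqd
          rw [ho] at hqd
          rw [(Nat.prime_dvd_prime_iff_eq hq hr).mp hqd]
          exact h)
      apply hx1
      have h5 : x ∈ sigmaCore M ⊓ centralizer ({e ^ (orderOf e / r)} : Set G) := by
        refine Subgroup.mem_inf.mpr ⟨hx, ?_⟩
        rw [Subgroup.mem_centralizer_iff]
        intro y hy
        rw [Set.mem_singleton_iff] at hy
        rw [hy]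
        exact ((show Commute e x from hex).pow_left _).eq
      rw [h4, Subgroup.mem_bot] at h5
      exact h5
    · rw [hτ] at h
      exact h
  intro e he
  obtain ⟨heE, hex⟩ := Subgroup.mem_inf.mp he
  have hex' : e * x = x * e := by
    rw [Subgroup.mem_centralizer_iff] at hex
    exact (hex x rfl).symm
  by_cases he1 : e = 1
  · rw [he1]; exact Subgroup.one_mem _
  obtain ⟨j, hj⟩ : ∃ j, orderOf e = p ^ j :=
    ⟨_, Nat.eq_prime_pow_of_unique_prime_dvd (orderOf_pos e).ne'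
      (fun {r} hr hrd => hcomm e heE hex' he1 r hr hrd)⟩
  obtain ⟨i, rfl⟩ : ∃ i, j = i + 1 := by
    refine ⟨j - 1, ?_⟩
    have : j ≠ 0 := by
      intro h0
      rw [h0, pow_zero] at hj
      exact he1 (orderOf_eq_one_iff.mp hj)
    omega
  -- `e₁ = e ^ (p ^ i)` has order `p`, and generates `A₀`
  have ho1 : orderOf (e ^ p ^ i) = p := by
    rw [orderOf_pow_of_dvd (pow_pos hpp.pos i).ne' (by rw [hj]; exact pow_dvd_pow p (Nat.le_succ i)),
      hj, pow_succ, Nat.mul_div_cancel_left _ (pow_pos hpp.pos i)]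
  have hX : zpowers (e ^ p ^ i) = A ⊓ centralizer ((sigmaCore M : Subgroup G) : Set G) := by
    by_contra hne
    have h4 := (h3 (zpowers (e ^ p ^ i)) (Subgroup.zpowers_le.mpr (Subgroup.pow_mem _ heE _))
      (by rw [Nat.card_zpowers, ho1]) hne).1
    apply hx1
    have h5 : x ∈ sigmaCore M ⊓ centralizer ((zpowers (e ^ p ^ i) : Subgroup G) : Set G) := by
      refine Subgroup.mem_inf.mpr ⟨hx, ?_⟩
      rw [Subgroup.mem_centralizer_iff]
      intro y hy
      obtain ⟨n, rfl⟩ := Subgroup.mem_zpowers_iff.mp hy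
      exact (((show Commute e x from hex').pow_left _).zpow_left n).eq
    rw [h4, Subgroup.mem_bot] at h5
    exact h5
  rcases Nat.eq_zero_or_pos i with hi | hi
  · rw [← hX]
    have : e ^ p ^ i = e := by rw [hi, pow_zero, pow_one]
    rw [this]
    exact Subgroup.mem_zpowers e
  · exfalso
    have hep : IsPGroup p ↥(zpowers e) := IsPGroup.of_card (by rw [Nat.card_zpowers, hj])
    obtain ⟨g, hgE, hg⟩ := hP.exists_conj_le (Subgroup.zpowers_le.mpr heE) hep
    have hd : g * e * g⁻¹ ∈ P := hg e (Subgroup.mem_zpowers e)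
    have hw : (g * e * g⁻¹) ^ p ^ i ∈ A ⊓ centralizer ((sigmaCore M : Subgroup G) : Set G) := by
      rw [conj_pow]
      apply (Subgroup.mem_normalizer_iff.mp (hEN hgE) _).mp
      rw [← hX]
      exact Subgroup.mem_zpowers _
    have h6 := claimK hG hU h44 hC h17 hM hE hpτ hAE hAe hA2 hna hPM hAP hd hi hw
    rw [conj_pow] at h6
    have h7 : e ^ p ^ i = 1 := by
      have : e ^ p ^ i = g⁻¹ * (g * e ^ p ^ i * g⁻¹) * g := by group
      rw [this, h6]; group
    rw [h7, orderOf_one] at ho1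
    exact hpp.one_lt.ne ho1

set_option linter.unusedVariables false in
/-- **B-G 12.11, nonabelian case** (piece P6 of the plan for S1421; `FreeHyp M E` is written out as `hH`;
`h19` is kept for compatibility with the announced statement and is not used) -/
theorem nonabelian_case (hG : IsMinSimpleOddOrder G) (hU : UniqHyp G) (h44 : H1444.{u})
    (hC : CentHyp G) (h17 : Hyp1417Full G) (h19 : H1419 G) {M : Subgroup G} (hM : IsCoatom M)
    {E : Subgroup G} (hE : IsComplIn E (sigmaCore M) M)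
    (hH : ∀ e ∈ E, e ≠ 1 → (∀ q : ℕ, q.Prime → q ∣ orderOf e → q ∈ tau1 M ∪ tau3 M) →
      sigmaCore M ⊓ centralizer ({e} : Set G) = ⊥)
    {p : ℕ} [Fact p.Prime] (hp : p ∈ tau2 M) {A : Subgroup G}
    (hAE : A ≤ E) (hAe : IsElementaryAbelian p A) (hA2 : Nat.card A = p ^ 2)
    (hna : ∀ S : Sylow p G, ¬ IsMulCommutative (S : Subgroup G)) :
    (∃ A₀ : Subgroup G, A₀ ≤ E ∧ E ≤ normalizer (A₀ : Set G) ∧ IsMulCommutative A₀ ∧
        ∀ x ∈ sigmaCore M, x ≠ 1 → E ⊓ centralizer ({x} : Set G) ≤ A₀) ∧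
      ∃ E₀ : Subgroup G, E₀ ≤ E ∧ Monoid.exponent E₀ = Monoid.exponent E ∧
        ∀ e ∈ E₀, e ≠ 1 → sigmaCore M ⊓ centralizer ({e} : Set G) = ⊥ := by
  have hpp : p.Prime := Fact.out
  have hAM : A ≤ M := hAE.trans hE.1
  have hAp : IsPGroup p ↥A := IsPGroup.of_card hA2
  obtain ⟨hA₀card, -, -⟩ := part_bc hG hU h44 hC h17 hM hE hp ⟨hAE, hAe, hA2⟩ hna
  have hEN : E ≤ normalizer
      ((A ⊓ centralizer ((sigmaCore M : Subgroup G) : Set G) : Subgroup G) : Set G) :=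
    hE.1.trans (le_normalizer_inf_centralizer h17 hM hp hAM hAe hA2)
  obtain ⟨P, hAP, hP⟩ := exists_isSylowIn_ge (H := E) hAE hAp
  have hPM := isSylowIn_of_compl hE hp hP
  obtain ⟨hPcomm, -⟩ := sylow_facts h17 hM hp hAM hAe hA2 hPM hAP
  set A₀ : Subgroup G := A ⊓ centralizer ((sigmaCore M : Subgroup G) : Set G) with hA₀
  have hA₀A : A₀ ≤ A := inf_le_left
  have hA₀E : A₀ ≤ E := hA₀A.trans hAE
  have hAc := Cfsg.Agent.Lib.Helper62_EStarCent.comm_of_isElementaryAbelian hAe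
  have hA₀c : ∀ a ∈ A₀, ∀ b ∈ A₀, a * b = b * a := fun a ha b hb => hAc a (hA₀A ha) b (hA₀A hb)
  have hpart1 : ∀ x ∈ sigmaCore M, x ≠ 1 → E ⊓ centralizer ({x} : Set G) ≤ A₀ :=
    fun x hx hx1 => centralizer_le hG hU h44 hC h17 hM hE hH hp hAE hAe hA2 hna hP hAP hx hx1
  have hK : ∀ d ∈ P, ∀ k : ℕ, 1 ≤ k → d ^ p ^ k ∈ A₀ → d ^ p ^ k = 1 :=
    fun d hd k hk hw => claimK hG hU h44 hC h17 hM hE hp hAE hAe hA2 hna hPM hAP hd hk hw
  refine ⟨⟨A₀, hA₀E, hEN, ⟨⟨fun a b => Subtype.ext (hA₀c a a.2 b b.2)⟩⟩, hpart1⟩, ?_⟩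
  -- a complement of `A₀` in `P`, then in `E`
  obtain ⟨L, hLP, hLA, hLsup⟩ := exists_compl_of_pow hpp (hA₀A.trans hAP) hPcomm
    (fun d hd hw => by
      have := hK d hd 1 le_rfl (by rw [pow_one]; exact hw)
      rwa [pow_one] at this)
  obtain ⟨E₀, hE₀E, hE₀A, hprod, hcard⟩ := exists_compl_gaschutz hP.le (hA₀A.trans hAP) hEN hA₀c
    hLP hLA hLsup (by rw [hA₀card]; exact (Nat.Prime.coprime_iff_not_dvd hpp).mpr hP.not_dvd)
  refine ⟨E₀, hE₀E, ?_, ?_⟩
  · -- the exponents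
    apply Nat.dvd_antisymm
    · apply Monoid.exponent_dvd_of_forall_pow_eq_one
      intro y
      have := Monoid.pow_exponent_eq_one (⟨(y : G), hE₀E y.2⟩ : ↥E)
      apply Subtype.ext
      simpa using congrArg Subtype.val this
    · -- `p` divides the exponent of `E₀`
      have hpE₀ : p ∣ Monoid.exponent ↥E₀ := by
        have h1 : p ∣ Nat.card ↥E₀ := by
          have h2 : p ^ 2 ∣ Nat.card E := hA2 ▸ Subgroup.card_dvd_of_le hAE
          rw [hcard, hA₀card, pow_two] at h2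
          exact Nat.dvd_of_mul_dvd_mul_left hpp.pos h2
        obtain ⟨y, hy⟩ := exists_prime_orderOf_dvd_card' p h1
        rw [← hy]
        exact Monoid.order_dvd_exponent y
      rw [Monoid.exponent_dvd]
      intro x
      rw [Nat.dvd_iff_prime_pow_dvd_dvd]
      intro q k hq hqk
      rcases Nat.eq_zero_or_pos k with hk0 | hk0
      · rw [hk0, pow_zero]; exact one_dvd _
      -- `z` of order `q ^ k`
      have hoz : orderOf (x ^ (orderOf x / q ^ k)) = q ^ k :=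
        orderOf_pow_orderOf_div (orderOf_pos x).ne' hqk
      set z : ↥E := x ^ (orderOf x / q ^ k) with hz
      have hozG : orderOf (z : G) = q ^ k := by rw [← hoz]; exact Subgroup.orderOf_coe z
      obtain ⟨a, ha, y, hy, hzay⟩ := hprod (z : G) z.2
      have hyN : y ∈ normalizer ((A₀ : Subgroup G) : Set G) := hEN (hE₀E hy)
      have hmod : ∀ m : ℕ, (z : G) ^ m * (y ^ m)⁻¹ ∈ A₀ := by
        intro m
        rw [hzay]
        exact mul_pow_mul_inv_mem ha hyN m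
      -- `y ^ (q ^ k) = 1`
      have hyq : y ^ q ^ k = 1 := by
        have h1 := hmod (q ^ k)
        rw [← hozG, pow_orderOf_eq_one, one_mul] at h1
        have h2 : y ^ orderOf (z : G) ∈ E₀ ⊓ A₀ :=
          Subgroup.mem_inf.mpr ⟨Subgroup.pow_mem _ hy _, by simpa using A₀.inv_mem h1⟩
        rw [hE₀A, Subgroup.mem_bot] at h2
        rw [← hozG]; exact h2
      obtain ⟨j, hjk, hj⟩ := (Nat.dvd_prime_pow hq).mp (orderOf_dvd_of_pow_eq_one hyq)
      have hyE₀ : orderOf (⟨y, hy⟩ : ↥E₀) = q ^ j := by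
        rw [← hj]; exact (Subgroup.orderOf_coe (⟨y, hy⟩ : ↥E₀)).symm
      rcases Nat.lt_or_ge j k with hlt | hge
      · -- `w = z ^ (q ^ j) ∈ A₀#`
        have hw : (z : G) ^ q ^ j ∈ A₀ := by
          have h1 := hmod (q ^ j)
          rw [← hj, pow_orderOf_eq_one, inv_one, mul_one] at h1
          rw [← hj]; exact h1
        have hw1 : (z : G) ^ q ^ j ≠ 1 := by
          intro h
          have h1 := orderOf_dvd_of_pow_eq_one h
          rw [hozG] at h1
          have := (Nat.pow_dvd_pow_iff_le_right hq.one_lt).mp h1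
          omega
        have how : orderOf ((z : G) ^ q ^ j) = p := by
          have h1 : orderOf ((z : G) ^ q ^ j) ∣ p := by
            apply orderOf_dvd_of_pow_eq_one
            exact hAe.2 _ (hA₀A hw)
          rcases (Nat.dvd_prime hpp).mp h1 with h | h
          · exact absurd (orderOf_eq_one_iff.mp h) hw1
          · exact h
        have how' : orderOf ((z : G) ^ q ^ j) = q ^ (k - j) := by
          rw [orderOf_pow_of_dvd (pow_pos hq.pos j).ne' (by rw [hozG]; exact pow_dvd_pow q hjk),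
            hozG, Nat.pow_div hjk hq.pos]
        have hqp : q = p := by
          have h1 : q ∣ p := by
            rw [← how, how']
            exact dvd_pow_self q (by omega)
          exact (Nat.prime_dvd_prime_iff_eq hq hpp).mp h1
        subst hqp
        have hkj : k - j = 1 := by
          have h1 : q ^ (k - j) = q ^ 1 := by rw [← how', how, pow_one]
          exact Nat.pow_right_injective hq.two_le h1
        rcases Nat.eq_zero_or_pos j with hj0 | hj0
        · have : k = 1 := by omega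
          rw [this, pow_one]
          exact hpE₀
        · exfalso
          have hzp : IsPGroup q ↥(zpowers (z : G)) :=
            IsPGroup.of_card (by rw [Nat.card_zpowers, hozG])
          obtain ⟨g, hgE, hg⟩ := hP.exists_conj_le (Subgroup.zpowers_le.mpr z.2) hzp
          have hd : g * (z : G) * g⁻¹ ∈ P := hg _ (Subgroup.mem_zpowers _)
          have hwd : (g * (z : G) * g⁻¹) ^ q ^ j ∈ A₀ := by
            rw [conj_pow]
            exact (Subgroup.mem_normalizer_iff.mp (hEN hgE) _).mp hw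
          have h6 := hK _ hd j hj0 hwd
          rw [conj_pow] at h6
          apply hw1
          have : (z : G) ^ q ^ j = g⁻¹ * (g * (z : G) ^ q ^ j * g⁻¹) * g := by group
          rw [this, h6]; group
      · have hjk' : j = k := le_antisymm hjk hge
        rw [← hjk', ← hyE₀]
        exact Monoid.order_dvd_exponent _
  · -- freeness
    intro e he he1
    rw [eq_bot_iff]
    intro x hx
    obtain ⟨hxσ, hxe⟩ := Subgroup.mem_inf.mp hx
    rw [Subgroup.mem_bot]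
    by_contra hx1
    have h1 : e ∈ E ⊓ centralizer ({x} : Set G) := by
      refine Subgroup.mem_inf.mpr ⟨hE₀E he, ?_⟩
      rw [Subgroup.mem_centralizer_iff]
      intro y hy
      rw [Set.mem_singleton_iff] at hy
      rw [hy]
      rw [Subgroup.mem_centralizer_iff] at hxe
      exact (hxe e rfl).symm
    have h2 : e ∈ E₀ ⊓ A₀ := Subgroup.mem_inf.mpr ⟨he, hpart1 x hxσ hx1 h1⟩
    rw [hE₀A, Subgroup.mem_bot] at h2
    exact he1 h2

end Main

end Cfsg.Agent.Lib.Helper97_BG1211f
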