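import Cfsg.Agent.Lib.Helper73_BG12b
import Cfsg.Agent.Lib.Helper29_BG12b
import Cfsg.Agent.Lib.Helper23_SigmaHall
import Cfsg.Agent.Lib.Helper49_Alpha3

/-!
# Bender–Glauberman, Corollary 12.10 (a), (b), (c) (parts of statement S1420) (helper73)

From S1403 (`UniqHyp`), the first assertion of S1416 (`CentHyp`), the used part of S1417 (`Hyp1417`) and the first
assertion of S1415 as explicit hypotheses.
-/

set_option autoImplicit false

namespace Cfsg.Agent.Lib.Helper73_BG1210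

open Subgroup Cfsg Cfsg.Agent.Lib.Helper22_BGTrans Cfsg.Agent.Lib.Helper22_Radical
  Cfsg.Agent.Lib.Helper84_RelSylow Cfsg.Agent.Lib.Helper49_Sigma Cfsg.Agent.Lib.Helper73_BG12
  Cfsg.Agent.Lib.Helper73_BG12b

/-- a finite nilpotent group all of whose Sylow subgroups are abelian is abelian -/
theorem comm_of_nilpotent_of_sylow {N : Type*} [Group N] [Finite N] [Group.IsNilpotent N]
    (h : ∀ (q : ℕ) [Fact q.Prime] (Q : Sylow q N), q ∣ Nat.card N →
      ∀ a ∈ (Q : Subgroup N), ∀ b ∈ (Q : Subgroup N), a * b = b * a) :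
    ∀ a b : N, a * b = b * a := by
  let e := Sylow.directProductOfNormal (G := N)
    (fun {p} _ P => Sylow.normal_of_normalizerCondition Group.normalizerCondition_of_isNilpotent P)
  intro a b
  have key : e.symm a * e.symm b = e.symm b * e.symm a := by
    funext p P
    have : Fact (p : ℕ).Prime := ⟨Nat.prime_of_mem_primeFactors p.2⟩
    apply Subtype.ext
    exact h p P (Nat.dvd_of_mem_primeFactors p.2) _ (e.symm a p P).2 _ (e.symm b p P).2
  have := congrArg e key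
  simpa using this

variable {G : Type*} [Group G] [Finite G]

/-- **BG 12.10(a)**: nilpotent `σ(M)'`-subgroups of `M` are abelian -/
theorem comm_of_nilpotent_sigma' (hG : IsMinSimpleOddOrder G) (hU : UniqHyp G) (h17 : Hyp1417 G)
    {M : Subgroup G} (hM : IsCoatom M) (N : Subgroup G) (hNM : N ≤ M) (hN : Group.IsNilpotent ↥N)
    (hσ : ∀ p : ℕ, p.Prime → p ∣ Nat.card N → p ∉ sigma M) : IsMulCommutative ↥N := by
  refine ⟨⟨?_⟩⟩
  apply comm_of_nilpotent_of_sylow
  intro q _ Q hqN a ha b hb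
  have hqp : q.Prime := Fact.out
  have hqσ : q ∉ sigma M := hσ q hqp hqN
  have hq2 : q ≠ 2 := Cfsg.Agent.Lib.Helper29_BG12b.ne_two_of_dvd hG.1 hqN
  by_cases hr1 : PRankLE q 1 ↥M
  · have hcyc : IsCyclic ↥(Q : Subgroup ↥N) :=
      Cfsg.Agent.Lib.Helper29_BG12b.isCyclic_of_rank_one hNM hq2 hr1 _ Q.2
    have hc : IsMulCommutative ↥(Q : Subgroup ↥N) := IsCyclic.isMulCommutative
    exact congrArg Subtype.val (hc.is_comm.comm (⟨a, ha⟩ : ↥(Q : Subgroup ↥N)) ⟨b, hb⟩)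
  · have hr2 : PRankLE q 2 ↥M :=
      Cfsg.Agent.Lib.Helper23_SigmaHall.pRankLE_of_not_mem_sigma hG hU hM hqp hqσ
    have hτ : q ∈ tau2 M := ⟨hqp, hqσ, hr2, hr1⟩
    obtain ⟨A, hAM, hAe, hA2⟩ := Cfsg.Agent.Lib.Helper49_Alpha3.exists_elemAb_sq hr2 hr1
    have h1 := h17 M hM q hτ A hAM hAe hA2
    -- move `Q` into a Sylow `q`-subgroup of `M`
    set Q' : Subgroup G := ((Q : Subgroup ↥N).map N.subtype) with hQ'
    have hQ'M : Q' ≤ M := (Subgroup.map_subtype_le _).trans hNM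
    have hQ'p : IsPGroup q ↥(Q'.subgroupOf M) :=
      (Q.2.map N.subtype).comap_of_injective M.subtype M.subtype_injective
    obtain ⟨R, hR⟩ := hQ'p.exists_le_sylow
    have ha' : (⟨(a : G), hNM a.2⟩ : ↥M) ∈ (R : Subgroup ↥M) :=
      hR (Subgroup.mem_subgroupOf.mpr ⟨a, ha, rfl⟩)
    have hb' : (⟨(b : G), hNM b.2⟩ : ↥M) ∈ (R : Subgroup ↥M) :=
      hR (Subgroup.mem_subgroupOf.mpr ⟨b, hb, rfl⟩)
    have h2 := (h1 R).is_comm.comm ⟨_, ha'⟩ ⟨_, hb'⟩
    have h3 := congrArg (fun z : ↥(R : Subgroup ↥M) => ((z : ↥M) : G)) h2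
    apply Subtype.ext
    simpa using h3

/-- no prime of `σ(M)` divides the order of a complement of `M_σ` -/
theorem not_dvd_card_compl (hG : IsMinSimpleOddOrder G) (hU : UniqHyp G) {M : Subgroup G}
    (hM : IsCoatom M) {E : Subgroup G} (hE : IsComplIn E (sigmaCore M) M) {p : ℕ} (hp : p.Prime)
    (hpσ : p ∈ sigma M) : ¬ p ∣ Nat.card E := by
  have h1 : Nat.card E = (piCore (sigma M) ↥M).index := by
    rw [Subgroup.index_eq_card]
    exact Nat.card_congr (Equiv.ofBijective _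
      ⟨Cfsg.Agent.Lib.Helper29_BG12b.toQuot_injective hE,
        Cfsg.Agent.Lib.Helper29_BG12b.toQuot_surjective hE⟩)
  rw [h1]
  exact Cfsg.Agent.Lib.Helper23_SigmaHall.not_dvd_index_sigma hG hU hM hp hpσ

/-- **BG 12.10(a), (b), (c)** -/
theorem statement_S1420_abc (hG : IsMinSimpleOddOrder G) (hU : UniqHyp G) (hC : CentHyp G)
    (h17 : Hyp1417 G) (M : Subgroup G) (hM : IsCoatom M) (E : Subgroup G)
    (hE : Cfsg.IsComplIn E (Cfsg.sigmaCore M) M) (hEnil : Group.IsNilpotent ↥⁅E, E⁆) :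
    (∀ N : Subgroup G, N ≤ M → Group.IsNilpotent N →
        (∀ p : ℕ, p.Prime → p ∣ Nat.card N → p ∉ Cfsg.sigma M) → IsMulCommutative N) ∧
      IsMulCommutative ↥⁅E, E⁆ ∧
      (∀ (p : ℕ) (P : Subgroup G), p ∈ Cfsg.sigma M → IsPGroup p P → P ≤ M → ¬ IsCyclic P →
        Subgroup.normalizer (P : Set G) ≤ M) := by
  refine ⟨fun N hNM hN hσ => comm_of_nilpotent_sigma' hG hU h17 hM N hNM hN hσ, ?_, ?_⟩
  · apply comm_of_nilpotent_sigma' hG hU h17 hM _ ((Subgroup.commutator_le_self E).trans hE.1) hEnil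
    intro p hp hd hpσ
    exact not_dvd_card_compl hG hU hM hE hp hpσ
      (hd.trans (Subgroup.card_dvd_of_le (Subgroup.commutator_le_self E)))
  · intro p P hpσ hP hPM hnc
    have : Fact p.Prime := ⟨hpσ.1⟩
    exact normalizer_le_of_not_isCyclic hG hU hC hM hpσ hP hPM hnc

end Cfsg.Agent.Lib.Helper73_BG1210
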