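import Mathlib
import Cfsg.Agent.S1408
import Cfsg.Agent.Lib.Helper73_BG126
import Cfsg.Agent.Lib.Helper73_BG1210
import Cfsg.Agent.Lib.Helper70_KeySig
import Cfsg.Agent.Lib.Helper24_CoprimeHall

/-!
helper70: BG section 12 helpers over helper73 hypothesis shapes (`CentHyp`, `Hyp1417Full`).
Main: `exists_sylow_le_centralizer` (core of BG 12.7(a) = S1419(a)), `le_centralizer_of_isPGroup`,
`statement_S1420_d` (an independent proof of S1420(d); helper52 also has one in Helper52_BG12d).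
-/

set_option autoImplicit false

namespace Cfsg.Agent.Lib.Helper70_BG127

open Subgroup Cfsg Cfsg.Agent.Lib.Helper22_BGTrans Cfsg.Agent.Lib.Helper22_Radical
  Cfsg.Agent.Lib.Helper84_RelSylow Cfsg.Agent.Lib.Helper49_Sigma Cfsg.Agent.Lib.Helper73_BG12
  Cfsg.Agent.Lib.Helper73_BG126 Cfsg.Agent.Lib.Helper70_KeySig

universe u

variable {G : Type u} [Group G]

/-- two subgroups of coprime orders normalizing each other commute elementwise -/
theorem comm_of_coprime_normalizing [Finite G] {A B : Subgroup G} (hAB : A ≤ normalizer (B : Set G))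
    (hBA : B ≤ normalizer (A : Set G)) (hcop : (Nat.card A).Coprime (Nat.card B)) :
    ∀ a ∈ A, ∀ b ∈ B, a * b = b * a := by
  intro a ha b hb
  have h1 : a * b * a⁻¹ * b⁻¹ ∈ A := by
    have : b * a⁻¹ * b⁻¹ ∈ A := (mem_normalizer_iff.mp (hBA hb) _).mp (inv_mem ha)
    have e : a * b * a⁻¹ * b⁻¹ = a * (b * a⁻¹ * b⁻¹) := by group
    rw [e]; exact mul_mem ha this
  have h2 : a * b * a⁻¹ * b⁻¹ ∈ B := by
    have : a * b * a⁻¹ ∈ B := (mem_normalizer_iff.mp (hAB ha) _).mp hb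
    exact mul_mem this (inv_mem hb)
  have h3 : a * b * a⁻¹ * b⁻¹ ∈ A ⊓ B := mem_inf.mpr ⟨h1, h2⟩
  rw [(Subgroup.disjoint_of_coprime_natCard hcop).eq_bot, mem_bot] at h3
  have h4 : a * b * a⁻¹ = b := mul_inv_eq_one.mp h3
  calc a * b = (a * b * a⁻¹) * a := by group
    _ = b * a := by rw [h4]

variable [Finite G]

/-- **General fact.** If `p ≠ q` both lie in `τ₂(M)` and `A`, `B` are the elementary abelian subgroups of
order `p²`, `q²` of a complement `E` of `M_σ`, then some Sylow `p`-subgroup of `G` contains `A`, lies in `E`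
and centralizes `B`. -/
theorem exists_sylow_le_centralizer (hG : IsMinSimpleOddOrder G) (hC : CentHyp G) (h17 : Hyp1417Full G)
    (M : Subgroup G) (hM : IsCoatom M) (E : Subgroup G) (hE : IsComplIn E (sigmaCore M) M)
    {p q : ℕ} [Fact p.Prime] [Fact q.Prime] (hpq : p ≠ q) (hp : p ∈ tau2 M) (hq : q ∈ tau2 M)
    (A : Subgroup G) (hA : A ≤ E ∧ IsElementaryAbelian p A ∧ Nat.card A = p ^ 2)
    (B : Subgroup G) (hB : B ≤ E ∧ IsElementaryAbelian q B ∧ Nat.card B = q ^ 2) :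
    ∃ S : Sylow p G, A ≤ (S : Subgroup G) ∧ (S : Subgroup G) ≤ E ∧
      (S : Subgroup G) ≤ centralizer (B : Set G) := by
  have hpP : p.Prime := Fact.out
  have hqP : q.Prime := Fact.out
  have hEM : E ≤ M := hE.1
  obtain ⟨⟨hEA, -⟩, -, -⟩ := statement_S1418 hG hC h17 M hM E hE hp A hA
  obtain ⟨⟨hEB, -⟩, ⟨hCB, hMB, -⟩, -⟩ := statement_S1418 hG hC h17 M hM E hE hq B hB
  have hcop : (Nat.card A).Coprime (Nat.card B) := by
    rw [hA.2.2, hB.2.2]
    exact Nat.Coprime.pow _ _ ((Nat.coprime_primes hpP hqP).mpr hpq)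
  have hcomm := comm_of_coprime_normalizing (hA.1.trans hEB) (hB.1.trans hEA) hcop
  -- `A` and `B` are maximal elementary abelian subgroups of `G`
  have hAmax := (Cfsg.Agent.S1408.result hG M hM p hp.2.1 hp.2.2.1 hp.2.2.2).2 A (hA.1.trans hEM) hA.2.1 hA.2.2
  have hBmax := (Cfsg.Agent.S1408.result hG M hM q hq.2.1 hq.2.2.1 hq.2.2.2).2 B (hB.1.trans hEM) hB.2.1 hB.2.2
  have hBq : IsPGroup q B := IsPGroup.of_card hB.2.2
  have hBle : B ≤ centralizer (A : Set G) := by
    intro b hb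
    rw [mem_centralizer_iff]
    intro a ha
    exact hcomm a ha b hb
  have hqC : q ∣ Nat.card (centralizer (A : Set G)) := by
    have h1 : Nat.card B ∣ Nat.card (centralizer (A : Set G)) := Subgroup.card_dvd_of_le hBle
    rw [hB.2.2] at h1
    exact (dvd_pow_self q (by norm_num)).trans h1
  have hAB : A ≤ normalizer (B : Set G) := hA.1.trans hEB
  obtain ⟨Q, hQ, hBQ⟩ := exists_max_ge (A := A) hqP hBq hAB
  have hQq : IsPGroup q Q := ((mem_invSubgroups_top hqP).mp hQ.1).1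
  have hq2 : q ≠ 2 := by
    rintro rfl
    have h6 : 2 ∣ Nat.card G := hqC.trans (Subgroup.card_subgroup_dvd_card _)
    exact (Nat.not_even_iff_odd.mpr hG.1) (even_iff_two_dvd.mpr h6)
  have hQn : IsNarrow q ↥Q := isNarrow_of_maxEA_le hq2 Q hQq B hBQ hB.2.1 hB.2.2 hBmax
  obtain ⟨S, hAS, hSQ⟩ := key_signalizer hG p q hpq A hA.2.1 hA.2.2 hAmax hqC Q hQ hQn
  have hSB : (S : Subgroup G) ≤ centralizer (B : Set G) := hSQ.trans (centralizer_le hBQ)
  refine ⟨S, hAS, ?_, hSB⟩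
  have h1 : (S : Subgroup G) ≤ M ⊓ normalizer (B : Set G) := hSB.trans hCB
  rwa [hMB] at h1

/-- Under the hypotheses of `exists_sylow_le_centralizer`, every `p`-subgroup of `E` centralizes `B`. -/
theorem le_centralizer_of_isPGroup (hG : IsMinSimpleOddOrder G) (hC : CentHyp G) (h17 : Hyp1417Full G)
    (M : Subgroup G) (hM : IsCoatom M) (E : Subgroup G) (hE : IsComplIn E (sigmaCore M) M)
    {p q : ℕ} [Fact p.Prime] [Fact q.Prime] (hpq : p ≠ q) (hp : p ∈ tau2 M) (hq : q ∈ tau2 M)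
    (A : Subgroup G) (hA : A ≤ E ∧ IsElementaryAbelian p A ∧ Nat.card A = p ^ 2)
    (B : Subgroup G) (hB : B ≤ E ∧ IsElementaryAbelian q B ∧ Nat.card B = q ^ 2)
    (R : Subgroup G) (hRE : R ≤ E) (hR : IsPGroup p R) : R ≤ centralizer (B : Set G) := by
  obtain ⟨S, -, hSE, hSB⟩ := exists_sylow_le_centralizer hG hC h17 M hM E hE hpq hp hq A hA B hB
  obtain ⟨⟨hEB, -⟩, -, -⟩ := statement_S1418 hG hC h17 M hM E hE hq B hB
  have hSyl : IsSylowIn p (S : Subgroup G) E := isSylowIn_of_sylow_le S hSE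
  obtain ⟨g, hg, hgR⟩ := hSyl.exists_conj_le hRE hR
  intro r hr
  rw [mem_centralizer_iff]
  intro b hb
  -- `g r g⁻¹ ∈ S` centralizes `g b g⁻¹ ∈ B`
  have h1 : g * b * g⁻¹ ∈ B := (mem_normalizer_iff.mp (hEB hg) b).mp hb
  have h2 := mem_centralizer_iff.mp (hSB (hgR r hr)) (g * b * g⁻¹) h1
  have h3 : g * (b * r) * g⁻¹ = g * (r * b) * g⁻¹ := by
    calc g * (b * r) * g⁻¹ = (g * b * g⁻¹) * (g * r * g⁻¹) := by group
      _ = (g * r * g⁻¹) * (g * b * g⁻¹) := h2
      _ = g * (r * b) * g⁻¹ := by group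
  exact mul_left_cancel (mul_right_cancel h3)


/-- an element lies in a subgroup as soon as all its primary parts do -/
theorem mem_of_primary_parts_mem {G : Type*} [Group G] [Finite G] {x : G} (H : Subgroup G)
    (h : ∀ q : ℕ, q.Prime → q ∣ orderOf x → x ^ (orderOf x / q ^ (orderOf x).factorization q) ∈ H) :
    x ∈ H := by
  set n := orderOf x with hn
  have hn0 : n ≠ 0 := (orderOf_pos x).ne'
  set K : Subgroup G := H ⊓ zpowers x with hK
  have hdvd : n ∣ Nat.card K := by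
    rw [Nat.dvd_iff_prime_pow_dvd_dvd]
    intro q k hq hqk
    by_cases hk : k = 0
    · rw [hk, pow_zero]; exact one_dvd _
    have hqn : q ∣ n := (dvd_pow_self q hk).trans hqk
    set v := n.factorization q with hv
    have hkv : k ≤ v := (hq.pow_dvd_iff_le_factorization hn0).mp hqk
    have hvn : q ^ v ∣ n := Nat.ordProj_dvd n q
    set y := x ^ (n / q ^ v) with hy
    have hyK : y ∈ K := mem_inf.mpr ⟨h q hq hqn, Subgroup.pow_mem _ (mem_zpowers x) _⟩
    have hyo : orderOf y = q ^ v := by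
      have h1 : n / q ^ v ∣ n := Nat.div_dvd_of_dvd hvn
      have h2 : n / q ^ v ≠ 0 := by
        intro h0
        have := Nat.div_mul_cancel hvn
        rw [h0, zero_mul] at this
        exact hn0 this.symm
      rw [hy, orderOf_pow_of_dvd h2 h1, Nat.div_div_self hvn hn0]
    have h3 : orderOf (⟨y, hyK⟩ : K) ∣ Nat.card K := orderOf_dvd_natCard _
    rw [Subgroup.orderOf_mk, hyo] at h3
    exact (pow_dvd_pow q hkv).trans h3
  have hle : K ≤ zpowers x := inf_le_right
  have hcard : Nat.card (zpowers x) = n := Nat.card_zpowers x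
  have hKeq : K = zpowers x := by
    apply Subgroup.eq_of_le_of_card_ge hle
    rw [hcard]
    exact Nat.le_of_dvd Nat.card_pos hdvd
  have : x ∈ K := by rw [hKeq]; exact mem_zpowers x
  exact (mem_inf.mp this).1

/-- a complement of `M_σ` is a Hall `σ(M)'`-subgroup of `M` -/
theorem piHall_compl (hG : IsMinSimpleOddOrder G) (hU : UniqHyp G) {M : Subgroup G} (hM : IsCoatom M)
    {E : Subgroup G} (hE : IsComplIn E (sigmaCore M) M) :
    Cfsg.Agent.Lib.Helper24_CoprimeHall.PiHall {q | q.Prime ∧ q ∉ sigma M} E M := by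
  refine ⟨hE.1, ?_, ?_⟩
  · intro p hp hpd
    exact ⟨hp, fun hσ => Cfsg.Agent.Lib.Helper73_BG1210.not_dvd_card_compl hG hU hM hE hp hσ hpd⟩
  · intro p hp hpπ hpd
    have h1 : Nat.card E = (piCore (sigma M) ↥M).index := by
      rw [Subgroup.index_eq_card]
      exact Nat.card_congr (Equiv.ofBijective _
        ⟨Cfsg.Agent.Lib.Helper29_BG12b.toQuot_injective hE,
          Cfsg.Agent.Lib.Helper29_BG12b.toQuot_surjective hE⟩)
    have h2 : Nat.card ↥M = Nat.card ↥(piCore (sigma M) ↥M) * (piCore (sigma M) ↥M).index :=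
      (Subgroup.card_mul_index _).symm
    have h3 : Nat.card ↥M / Nat.card ↥E = Nat.card ↥(piCore (sigma M) ↥M) := by
      rw [h1, h2]
      exact Nat.mul_div_cancel _ (Nat.pos_of_ne_zero Subgroup.index_ne_zero_of_finite)
    rw [h3] at hpd
    exact hpπ.2 (Cfsg.Agent.Lib.Helper32_Cores.card_piCore _ p hp hpd)

/-- an element of `M` whose order involves no prime of `σ(M)` is `M`-conjugate into `E` -/
theorem conj_into_compl (hG : IsMinSimpleOddOrder G) (hU : UniqHyp G) {M : Subgroup G} (hM : IsCoatom M)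
    {E : Subgroup G} (hE : IsComplIn E (sigmaCore M) M) {x : G} (hx : x ∈ M)
    (hprimes : ∀ q : ℕ, q.Prime → q ∣ orderOf x → q ∉ sigma M) : ∃ m ∈ M, m * x * m⁻¹ ∈ E := by
  have hsolv : Group.IsSolvable ↥M := hG.2.2.2 M hM.1
  have hZ : zpowers x ≤ M := zpowers_le.mpr hx
  have hZp : ∀ q : ℕ, q.Prime → q ∣ Nat.card (zpowers x) → q ∈ {q | q.Prime ∧ q ∉ sigma M} := by
    intro q hq hqd
    rw [Nat.card_zpowers] at hqd
    exact ⟨hq, hprimes q hq hqd⟩
  obtain ⟨H, hH, hZH⟩ := Cfsg.Agent.Lib.Helper24_CoprimeHall.exists_piHall_ge hsolv hZ hZp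
  obtain ⟨m, hm, hmU⟩ := Cfsg.Agent.Lib.Helper24_CoprimeHall.piHall_conj hsolv hH (piHall_compl hG hU hM hE)
  refine ⟨m, hm, ?_⟩
  rw [← hmU]
  exact ⟨x, hZH (mem_zpowers x), rfl⟩

/-- a complement `E` of `M_σ` contains an elementary abelian subgroup of order `p²` for `p ∈ τ₂(M)` -/
theorem exists_elemAb_sq_le_compl (hG : IsMinSimpleOddOrder G) (hU : UniqHyp G) {M : Subgroup G}
    (hM : IsCoatom M) {E : Subgroup G} (hE : IsComplIn E (sigmaCore M) M) {p : ℕ} [Fact p.Prime]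
    (hp : p ∈ tau2 M) : ∃ A : Subgroup G, A ≤ E ∧ IsElementaryAbelian p A ∧ Nat.card A = p ^ 2 := by
  have hpP : p.Prime := Fact.out
  have hsolv : Group.IsSolvable ↥M := hG.2.2.2 M hM.1
  obtain ⟨A, hAM, hAe, hA2⟩ := Cfsg.Agent.Lib.Helper49_Alpha3.exists_elemAb_sq hp.2.2.1 hp.2.2.2
  have hAp : ∀ q : ℕ, q.Prime → q ∣ Nat.card A → q ∈ {q | q.Prime ∧ q ∉ sigma M} := by
    intro q hq hqd
    rw [hA2] at hqd
    have : q = p := (Nat.prime_dvd_prime_iff_eq hq hpP).mp (hq.dvd_of_dvd_pow hqd)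
    rw [this]
    exact ⟨hpP, hp.2.1⟩
  obtain ⟨H, hH, hAH⟩ := Cfsg.Agent.Lib.Helper24_CoprimeHall.exists_piHall_ge hsolv hAM hAp
  obtain ⟨m, hm, hmU⟩ := Cfsg.Agent.Lib.Helper24_CoprimeHall.piHall_conj hsolv hH (piHall_compl hG hU hM hE)
  refine ⟨cj m A, ?_, ?_, ?_⟩
  · rw [← hmU]; exact cj_mono hAH
  · exact (Cfsg.Agent.Lib.Helper10_Thompson.isElementaryAbelian_map_iff_of_injective _
      (MulAut.conj m).injective).mpr hAe
  · rw [card_cj, hA2]

/-- **BG 12.10(d), for elements of `E`.** -/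
theorem centralizer_le_of_mem_compl (hG : IsMinSimpleOddOrder G) (hU : UniqHyp G) (hC : CentHyp G)
    (h17 : Hyp1417Full G) (M : Subgroup G) (hM : IsCoatom M) (E : Subgroup G)
    (hE : IsComplIn E (sigmaCore M) M) (x : G) (hxE : x ∈ E) (hx1 : x ≠ 1)
    (hτ : ∀ p : ℕ, p.Prime → p ∣ orderOf x → p ∈ tau2 M)
    (y : G) (hy : y ∈ sigmaCore M) (hy1 : y ≠ 1) (hxy : x * y = y * x) :
    centralizer ({x} : Set G) ≤ M ∧
      ∀ L : Subgroup G, IsCoatom L → centralizer ({x} : Set G) ≤ L → L = M := by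
  have hEM : E ≤ M := hE.1
  -- a prime `p` dividing the order of `x`
  have hn1 : orderOf x ≠ 1 := fun h => hx1 (orderOf_eq_one_iff.mp h)
  obtain ⟨p, hpP, hpx⟩ := Nat.exists_prime_and_dvd hn1
  have : Fact p.Prime := ⟨hpP⟩
  have hp : p ∈ tau2 M := hτ p hpP hpx
  obtain ⟨A, hA⟩ := exists_elemAb_sq_le_compl hG hU hM hE hp
  obtain ⟨hAE, hAe, hA2⟩ := hA
  have hAM : A ≤ M := hAE.trans hEM
  obtain ⟨⟨hEA, hXA⟩, -, h18c⟩ := statement_S1418 hG hC h17 M hM E hE hp A ⟨hAE, hAe, hA2⟩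
  obtain ⟨-, h17b, -, -, h17e, -⟩ := h17 M hM p hp A ⟨hAM, hAe, hA2⟩
  have hAp : IsPGroup p ↥A := IsPGroup.of_card hA2
  -- `A` centralizes `x`
  have hxA : x ∈ centralizer (A : Set G) := by
    apply mem_of_primary_parts_mem
    intro q hq hqx
    have : Fact q.Prime := ⟨hq⟩
    set n := orderOf x with hn
    have hn0 : n ≠ 0 := (orderOf_pos x).ne'
    set v := n.factorization q with hv
    have hvn : q ^ v ∣ n := Nat.ordProj_dvd n q
    set z := x ^ (n / q ^ v) with hz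
    have hzE : z ∈ E := Subgroup.pow_mem _ hxE _
    have hzo : orderOf z = q ^ v := by
      have h1 : n / q ^ v ∣ n := Nat.div_dvd_of_dvd hvn
      have h2 : n / q ^ v ≠ 0 := by
        intro h0
        have := Nat.div_mul_cancel hvn
        rw [h0, zero_mul] at this
        exact hn0 this.symm
      rw [hz, orderOf_pow_of_dvd h2 h1, Nat.div_div_self hvn hn0]
    have hZq : IsPGroup q ↥(zpowers z) := by
      apply IsPGroup.of_card (n := v)
      rw [Nat.card_zpowers, hzo]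
    have hZE : zpowers z ≤ E := zpowers_le.mpr hzE
    by_cases hqp : q = p
    · subst hqp
      -- `⟨z⟩ A` is a `q`-subgroup of `M`, inside an abelian Sylow subgroup
      have hZN : zpowers z ≤ normalizer (A : Set G) := hZE.trans hEA
      have hJ : IsPGroup q ↥(zpowers z ⊔ A : Subgroup G) := IsPGroup.to_sup_of_normal_right' hZq hAp hZN
      obtain ⟨T, hJT, hT⟩ := exists_isSylowIn_ge (H := M) (sup_le (hZE.trans hEM) hAM) hJ
      have hTmap : ((hT.toSylow : Sylow q ↥M) : Subgroup ↥M).map M.subtype = T := by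
        rw [hT.coe_toSylow, Subgroup.map_subgroupOf_eq_of_le hT.le]
      obtain ⟨hTc, -⟩ := h17b hT.toSylow
      rw [mem_centralizer_iff]
      intro a ha
      have hzT : z ∈ T := hJT (le_sup_left (a := zpowers z) (mem_zpowers z))
      have haT : a ∈ T := hJT (le_sup_right (a := zpowers z) ha)
      have hzT' : (⟨z, hT.le hzT⟩ : ↥M) ∈ (hT.toSylow : Subgroup ↥M) := (hT.mem_toSylow _).mpr hzT
      have haT' : (⟨a, hT.le haT⟩ : ↥M) ∈ (hT.toSylow : Subgroup ↥M) := (hT.mem_toSylow _).mpr haT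
      have h2 := hTc.is_comm.comm (⟨_, haT'⟩ : ↥(hT.toSylow : Subgroup ↥M)) ⟨_, hzT'⟩
      have h3 := congrArg (fun w : ↥(hT.toSylow : Subgroup ↥M) => ((w : ↥M) : G)) h2
      simpa using h3
    · have hq : q ∈ tau2 M := hτ q ‹q.Prime› hqx
      obtain ⟨B, hB⟩ := exists_elemAb_sq_le_compl hG hU hM hE hq
      have := le_centralizer_of_isPGroup hG hC h17 M hM E hE hqp hq hp B hB A ⟨hAE, hAe, hA2⟩
        (zpowers z) hZE hZq
      exact this (mem_zpowers z)
  have hAx : A ≤ centralizer ({x} : Set G) := by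
    intro a ha
    rw [mem_centralizer_singleton_iff]
    exact ((mem_centralizer_iff.mp hxA) a ha)
  -- the subgroup `X` of order `p` of `⟨x⟩`
  set n := orderOf x with hn
  have hn0 : n ≠ 0 := (orderOf_pos x).ne'
  set w := x ^ (n / p) with hw
  have hwo : orderOf w = p := by
    have h2 : n / p ≠ 0 := by
      intro h0
      have := Nat.div_mul_cancel hpx
      rw [h0, zero_mul] at this
      exact hn0 this.symm
    rw [hw, orderOf_pow_of_dvd h2 (Nat.div_dvd_of_dvd hpx), Nat.div_div_self hpx hn0]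
  set X : Subgroup G := zpowers w with hX
  have hXcard : Nat.card X = p := by rw [hX, Nat.card_zpowers, hwo]
  have hXE : X ≤ E := zpowers_le.mpr (Subgroup.pow_mem _ hxE _)
  have hXleA : X ≤ A := hXA X hXE hXcard
  have hyX : y ∈ centralizer (X : Set G) := by
    rw [mem_centralizer_iff]
    intro t ht
    obtain ⟨k, rfl⟩ := mem_zpowers_iff.mp ht
    have h1 : Commute x y := hxy
    exact (((h1.pow_left (n / p)).zpow_left k).eq)
  have hne : sigmaCore M ⊓ centralizer (X : Set G) ≠ ⊥ := by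
    intro h
    have : y ∈ sigmaCore M ⊓ centralizer (X : Set G) := mem_inf.mpr ⟨hy, hyX⟩
    rw [h, mem_bot] at this
    exact hy1 this
  obtain ⟨hCXM, -⟩ := h18c X hXleA hXcard hne
  have hCx : centralizer ({x} : Set G) ≤ centralizer (X : Set G) := by
    intro g hg
    rw [mem_centralizer_singleton_iff] at hg
    rw [mem_centralizer_iff]
    intro t ht
    obtain ⟨k, rfl⟩ := mem_zpowers_iff.mp ht
    have h1 : Commute g x := hg
    exact (((h1.pow_right (n / p)).zpow_right k).eq).symm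
  refine ⟨hCx.trans hCXM, ?_⟩
  intro L hL hCL
  by_contra hLM
  have h1 := h17e L hL hLM (hAx.trans hCL)
  have hyL : y ∈ L := hCL (by rw [mem_centralizer_singleton_iff]; exact hxy.symm)
  have : y ∈ sigmaCore M ⊓ L := mem_inf.mpr ⟨hy, hyL⟩
  rw [h1, mem_bot] at this
  exact hy1 this

/-- **BG 12.10(d)** = the fourth clause of statement S1420. -/
theorem statement_S1420_d (hG : IsMinSimpleOddOrder G) (hU : UniqHyp G) (hC : CentHyp G)
    (h17 : Hyp1417Full G) (M : Subgroup G) (hM : IsCoatom M) (E : Subgroup G)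
    (hE : IsComplIn E (sigmaCore M) M) :
    ∀ x ∈ M, x ≠ 1 → (∀ p : ℕ, p.Prime → p ∣ orderOf x → p ∈ tau2 M) → x ∈ sigmaHat M →
      centralizer ({x} : Set G) ≤ M ∧
        ∀ L : Subgroup G, IsCoatom L → centralizer ({x} : Set G) ≤ L → L = M := by
  intro x hxM hx1 hτ hxhat
  obtain ⟨-, y, hy, hy1, hxy⟩ := hxhat
  obtain ⟨m, hm, hmE⟩ := conj_into_compl hG hU hM hE hxM (fun q hq hqx => (hτ q hq hqx).2.1)
  have hord : orderOf (m * x * m⁻¹) = orderOf x := by
    have := MulEquiv.orderOf_eq (MulAut.conj m) x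
    rwa [MulAut.conj_apply] at this
  have hMσn : M ≤ normalizer ((sigmaCore M : Subgroup G) : Set G) := le_normalizer_piCoreOf (sigma M) M
  have hy' : m * y * m⁻¹ ∈ sigmaCore M := (mem_normalizer_iff.mp (hMσn hm) y).mp hy
  have hy1' : m * y * m⁻¹ ≠ 1 := by
    intro h
    apply hy1
    have : y = m⁻¹ * (m * y * m⁻¹) * m := by group
    rw [this, h]; group
  have hxy' : (m * x * m⁻¹) * (m * y * m⁻¹) = (m * y * m⁻¹) * (m * x * m⁻¹) := by
    calc (m * x * m⁻¹) * (m * y * m⁻¹) = m * (x * y) * m⁻¹ := by group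
      _ = m * (y * x) * m⁻¹ := by rw [hxy]
      _ = (m * y * m⁻¹) * (m * x * m⁻¹) := by group
  have hx1' : m * x * m⁻¹ ≠ 1 := by
    intro h
    apply hx1
    have : x = m⁻¹ * (m * x * m⁻¹) * m := by group
    rw [this, h]; group
  obtain ⟨h1, h2⟩ := centralizer_le_of_mem_compl hG hU hC h17 M hM E hE (m * x * m⁻¹) hmE hx1'
    (fun p hp hpx => hτ p hp (hord ▸ hpx)) (m * y * m⁻¹) hy' hy1' hxy'
  -- transfer back
  have hconj : ∀ g, g ∈ centralizer ({x} : Set G) → m * g * m⁻¹ ∈ centralizer ({m * x * m⁻¹} : Set G) := by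
    intro g hg
    rw [mem_centralizer_singleton_iff] at hg ⊢
    calc (m * g * m⁻¹) * (m * x * m⁻¹) = m * (g * x) * m⁻¹ := by group
      _ = m * (x * g) * m⁻¹ := by rw [hg]
      _ = (m * x * m⁻¹) * (m * g * m⁻¹) := by group
  have hconj' : ∀ g, g ∈ centralizer ({m * x * m⁻¹} : Set G) → m⁻¹ * g * m ∈ centralizer ({x} : Set G) := by
    intro g hg
    rw [mem_centralizer_singleton_iff] at hg ⊢
    have e : x = m⁻¹ * (m * x * m⁻¹) * m := by group
    calc (m⁻¹ * g * m) * x = m⁻¹ * (g * (m * x * m⁻¹)) * m := by group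
      _ = m⁻¹ * ((m * x * m⁻¹) * g) * m := by rw [hg]
      _ = x * (m⁻¹ * g * m) := by group
  refine ⟨?_, ?_⟩
  · intro g hg
    have h3 : m * g * m⁻¹ ∈ M := h1 (hconj g hg)
    have : g = m⁻¹ * (m * g * m⁻¹) * m := by group
    rw [this]
    exact mul_mem (mul_mem (inv_mem hm) h3) hm
  · intro L hL hCL
    have hL' : IsCoatom (cj m L) := Cfsg.Agent.Lib.Helper22_Uniq.isCoatom_cj hL m
    have h4 : centralizer ({m * x * m⁻¹} : Set G) ≤ cj m L := by
      intro g hg
      rw [mem_cj]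
      exact hCL (hconj' g hg)
    have h5 : cj m L = M := h2 _ hL' h4
    have h6 : cj m M = M := cj_eq_of_mem_normalizer (le_normalizer hm)
    rw [← h6] at h5
    have := congrArg (cj m⁻¹) h5
    rwa [cj_inv_cj, cj_inv_cj] at this

end Cfsg.Agent.Lib.Helper70_BG127
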