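import Cfsg.Agent.Lib.Helper97_BG127b
import Cfsg.Agent.Lib.Helper73_BG126
import Cfsg.Agent.Lib.Helper52_BG12a
import Cfsg.Agent.Lib.Helper70_KeySig
import Cfsg.Agent.Lib.Helper97_BG15Y
import Cfsg.Agent.Lib.Helper23_SigmaHall
import Cfsg.Agent.Lib.Helper53_BG16
import Cfsg.Agent.Lib.Helper70_BG127
import Cfsg.Agent.Lib.Helper52_BG12d
import Cfsg.Agent.S1412
import Cfsg.Agent.S1408

/-!
# Bender–Glauberman, Theorem 12.7 (statement S1419) (helper97)

From S1403 (`UniqHyp`), S1444 (`H1444`), the first assertion of S1416 (`CentHyp`) and the statement S1417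
(`Hyp1417Full`) as explicit hypotheses.

`M` maximal, `E` a complement of `M_σ`, `p ∈ τ₂(M)`, `A ≤ E` elementary abelian of order `p ^ 2`, the Sylow
`p`-subgroups of `G` nonabelian.  Then `τ₂(M) = {p}`, `A₀ = C_A(M_σ)` has order `p`, `F(M) = M_σ × A₀`, and every
other subgroup `X` of order `p` of `E` has `C_{M_σ}(X) = 1` and `C_G(X) ≰ M`.
-/

set_option autoImplicit false

namespace Cfsg.Agent.Lib.Helper97_BG127c

open Subgroup Cfsg Cfsg.Agent.Lib.Helper22_BGTrans Cfsg.Agent.Lib.Helper22_Radical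
  Cfsg.Agent.Lib.Helper84_RelSylow Cfsg.Agent.Lib.Helper49_Sigma Cfsg.Agent.Lib.Helper73_BG12
  Cfsg.Agent.Lib.Helper22_BGTransUp Cfsg.Agent.Lib.Helper73_BG126 Cfsg.Agent.Lib.Helper70_BG106
  Cfsg.Agent.Lib.Helper97_BG127a Cfsg.Agent.Lib.Helper97_BG127b

universe u

variable {G : Type u} [Group G] [Finite G] {p : ℕ} [hp : Fact p.Prime]

/-- the configuration of a nonabelian Sylow `p`-subgroup `S` of `G` over a Sylow `p`-subgroup `P` of `M` over `A` -/
structure Data (M A P S : Subgroup G) (p : ℕ) (z t : G) : Prop where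
  sylP : IsSylowIn p P M
  AP : A ≤ P
  Pcomm : ∀ a ∈ P, ∀ b ∈ P, a * b = b * a
  omega : ∀ x ∈ P, x ^ p = 1 ↔ x ∈ A
  pS : IsPGroup p S
  sylS : ∃ S0 : Sylow p G, (S0 : Subgroup G) = S
  PS : P ≤ S
  SM : ∀ s ∈ S, s ∈ M → s ∈ P
  zS : z ∈ S
  zc : ∀ s ∈ S, s * z = z * s
  z1 : z ≠ 1
  zA : z ∈ A
  tS : t ∈ S
  tA : t ∈ normalizer (A : Set G)
  tM : t ∉ M

/-- maximality of `A` among the elementary abelian `p`-subgroups of `G` (S1408) -/
theorem maximal_of_tau2 (hG : IsMinSimpleOddOrder G) {M : Subgroup G} (hM : IsCoatom M)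
    (hpτ : p ∈ tau2 M) {A : Subgroup G} (hAM : A ≤ M) (hAe : IsElementaryAbelian p A)
    (hA2 : Nat.card A = p ^ 2) :
    ∀ B : Subgroup G, IsElementaryAbelian p B → A ≤ B → B = A :=
  (Cfsg.Agent.S1408.result hG M hM p hpτ.2.1 hpτ.2.2.1 hpτ.2.2.2).2 A hAM hAe hA2

theorem exists_data (hG : IsMinSimpleOddOrder G) (h17 : Hyp1417Full G)
    {M : Subgroup G} (hM : IsCoatom M) (hpτ : p ∈ tau2 M) {A : Subgroup G} (hAM : A ≤ M)
    (hAe : IsElementaryAbelian p A) (hA2 : Nat.card A = p ^ 2)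
    (hS : ∀ S : Sylow p G, ¬ IsMulCommutative (S : Subgroup G)) :
    ∃ (P S : Subgroup G) (z t : G), Data M A P S p z t := by
  have hpp := hp.out
  have hAp : IsPGroup p ↥A := IsPGroup.of_card hA2
  obtain ⟨-, h17b, -, -, -, -⟩ := h17 M hM p hpτ A ⟨hAM, hAe, hA2⟩
  obtain ⟨P, hAP, hP⟩ := exists_isSylowIn_ge (H := M) hAM hAp
  have hPmap : ((hP.toSylow : Sylow p ↥M) : Subgroup ↥M).map M.subtype = P := by
    rw [hP.coe_toSylow, Subgroup.map_subgroupOf_eq_of_le hP.le]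
  obtain ⟨hPc, hPb⟩ := h17b hP.toSylow
  rw [hPmap] at hPb
  obtain ⟨hΩ, -⟩ := hPb hAP
  have hPcomm : ∀ a ∈ P, ∀ b ∈ P, a * b = b * a := by
    intro a ha b hb
    have ha' : (⟨a, hP.le ha⟩ : ↥M) ∈ (hP.toSylow : Subgroup ↥M) := (hP.mem_toSylow _).mpr ha
    have hb' : (⟨b, hP.le hb⟩ : ↥M) ∈ (hP.toSylow : Subgroup ↥M) := (hP.mem_toSylow _).mpr hb
    have h2 := hPc.is_comm.comm ⟨_, ha'⟩ ⟨_, hb'⟩
    have h3 := congrArg (fun z : ↥(hP.toSylow : Subgroup ↥M) => ((z : ↥M) : G)) h2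
    simpa using h3
  obtain ⟨S0, hPS⟩ := hP.isPGroup.exists_le_sylow
  set S : Subgroup G := (S0 : Subgroup G) with hSdef
  have hSp : IsPGroup p ↥S := S0.2
  have hSM : ∀ s ∈ S, s ∈ M → s ∈ P := by
    have hK : S ⊓ M = P :=
      hP.eq_of_le (le_inf hPS hP.le) inf_le_right (hSp.to_le inf_le_left)
    intro s hs hsM
    rw [← hK]; exact ⟨hs, hsM⟩
  have hPltS : P < S := by
    refine lt_of_le_of_ne hPS ?_
    intro h
    apply hS S0
    refine ⟨⟨fun a b => ?_⟩⟩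
    apply Subtype.ext
    have ha : (a : G) ∈ P := by rw [h]; exact a.2
    have hb : (b : G) ∈ P := by rw [h]; exact b.2
    exact hPcomm a ha b hb
  have hS1 : S ≠ ⊥ := by
    intro h
    have : A ≤ ⊥ := h ▸ (hAP.trans hPS)
    have h1 : Nat.card A = 1 := by rw [le_bot_iff.mp this, Subgroup.card_bot]
    rw [hA2] at h1
    exact (Nat.one_lt_pow two_ne_zero hpp.one_lt).ne' h1
  obtain ⟨z, hzS, hzc, hzo⟩ := Cfsg.Agent.Lib.Helper49_Alpha3.exists_central_of_ne_bot hSp hS1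
  have hz1 : z ≠ 1 := by
    rintro rfl
    rw [orderOf_one] at hzo
    exact hpp.one_lt.ne hzo
  have hzp : z ^ p = 1 := by rw [← hzo]; exact pow_orderOf_eq_one z
  have hAmax := maximal_of_tau2 hG hM hpτ hAM hAe hA2
  have hzA : z ∈ A :=
    Cfsg.Agent.Lib.Helper62_EStarCent.mem_of_pow_eq_one_of_centralizes hAe hAmax hzp
      (fun x hx => hzc x (hPS (hAP hx)))
  obtain ⟨t, htS, htN, htP⟩ :=
    Cfsg.Agent.Lib.Helper48_SPE.exists_mem_normalizer_not_mem hSp hPltS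
  have hNA : S ⊓ normalizer (P : Set G) ≤ normalizer (A : Set G) := by
    apply le_normalizer_of_conj_mem
    intro e he a ha
    have h1 : e * a * e⁻¹ ∈ P := (Subgroup.mem_normalizer_iff.mp he.2 a).mp (hAP ha)
    rw [← hΩ _ h1, conj_pow, hAe.2 a ha]
    group
  exact ⟨P, S, z, t, ⟨hP, hAP, hPcomm, hΩ, hSp, ⟨S0, rfl⟩, hPS, hSM, hzS, hzc, hz1, hzA, htS,
    hNA ⟨htS, htN⟩, fun h => htP (hSM t htS h)⟩⟩

section Lines

variable {M A P S : Subgroup G} {z t : G}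

omit [Finite G] hp in
/-- `S ≤ C_G(Z)` for `Z = ⟨z⟩` -/
theorem Data.le_centralizer_zpowers (hD : Data M A P S p z t) :
    S ≤ centralizer ((zpowers z : Subgroup G) : Set G) := by
  intro s hs
  rw [Subgroup.mem_centralizer_iff]
  intro y hy
  obtain ⟨n, rfl⟩ := Subgroup.mem_zpowers_iff.mp hy
  exact ((show Commute s z from hD.zc s hs).zpow_right n).eq.symm

omit [Finite G] in
theorem Data.card_zpowers (hD : Data M A P S p z t) (hAe : IsElementaryAbelian p A) :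
    Nat.card (zpowers z) = p := by
  rw [Nat.card_zpowers]
  exact orderOf_eq_prime (hAe.2 z hD.zA) hD.z1

/-- the line `Z = ⟨z⟩`: `C_{M_σ}(Z) = 1` and `C_G(Z) ≰ M` -/
theorem Data.line_z (hG : IsMinSimpleOddOrder G) (h17 : Hyp1417Full G) (hM : IsCoatom M)
    (hpτ : p ∈ tau2 M) (hAM : A ≤ M) (hAe : IsElementaryAbelian p A) (hA2 : Nat.card A = p ^ 2)
    (hD : Data M A P S p z t) :
    sigmaCore M ⊓ centralizer ((zpowers z : Subgroup G) : Set G) = ⊥ ∧
      ¬ centralizer ((zpowers z : Subgroup G) : Set G) ≤ M := by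
  have hpp := hp.out
  obtain ⟨-, -, -, -, h17e, -⟩ := h17 M hM p hpτ A ⟨hAM, hAe, hA2⟩
  have hZcard := hD.card_zpowers hAe
  have hZ1 : (zpowers z : Subgroup G) ≠ ⊥ := by
    intro h
    rw [h, Subgroup.card_bot] at hZcard
    exact hpp.one_lt.ne hZcard
  have hZtop : (zpowers z : Subgroup G) ≠ ⊤ := by
    intro h
    have : (⊤ : Subgroup G) ≤ M := h ▸ ((Subgroup.zpowers_le.mpr hD.zA).trans hAM)
    exact hM.1 (top_le_iff.mp this)
  have hN := normalizer_ne_top hG hZ1 hZtop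
  obtain ⟨L, hL, hNL⟩ := (eq_top_or_exists_le_coatom _).resolve_left hN
  have hCL : centralizer ((zpowers z : Subgroup G) : Set G) ≤ L :=
    (Subgroup.centralizer_le_normalizer _).trans hNL
  have hSL : S ≤ L := hD.le_centralizer_zpowers.trans hCL
  have hLM : L ≠ M := fun h => hD.tM (h ▸ hSL hD.tS)
  have h1 := h17e L hL hLM ((hD.AP.trans hD.PS).trans hSL)
  refine ⟨?_, fun h => hD.tM (h (hD.le_centralizer_zpowers hD.tS))⟩
  rw [eq_bot_iff, ← h1]
  exact inf_le_inf_left _ hCL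

/-- `p` does not divide `|M_σ|` -/
theorem not_dvd_card_sigmaCore (hpτ : p ∈ tau2 M) : ¬ p ∣ Nat.card (sigmaCore M) := fun h =>
  hpτ.2.1 (Cfsg.Agent.Lib.Helper70_BG1012.card_sigmaCore_mem M p hp.out h)

omit [Finite G] in
theorem le_normalizer_sigmaCore' (M : Subgroup G) :
    M ≤ normalizer ((sigmaCore M : Subgroup G) : Set G) := le_normalizer_piCoreOf (sigma M) M

/-- some line of `A` has a nontrivial centralizer in `M_σ` -/
theorem exists_line (hG : IsMinSimpleOddOrder G) (hU : UniqHyp G) (h44 : H1444.{u})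
    (h17 : Hyp1417Full G) (hM : IsCoatom M)
    (hpτ : p ∈ tau2 M) (hAM : A ≤ M) (hAe : IsElementaryAbelian p A) (hA2 : Nat.card A = p ^ 2) :
    ∃ X : Subgroup G, X ≤ A ∧ Nat.card X = p ∧ sigmaCore M ⊓ centralizer (X : Set G) ≠ ⊥ := by
  by_contra hcon
  push Not at hcon
  obtain ⟨-, -, -, h17d, -, -⟩ := h17 M hM p hpτ A ⟨hAM, hAe, hA2⟩
  have hne := Cfsg.Agent.Lib.Helper52_BG12a.sigmaCore_ne_bot hG hU h44 hM
  apply hne
  rw [eq_bot_iff]
  refine le_trans (Cfsg.Agent.Lib.Helper22_Hyperplane.le_iSup_centralizer_hyperplanes p A (sigmaCore M)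
    (Cfsg.Agent.Lib.Helper62_EStarCent.comm_of_isElementaryAbelian hAe) hAe.2
    (not_dvd_card_sigmaCore hpτ) (hAM.trans (le_normalizer_sigmaCore' M))) ?_
  apply iSup_le
  rintro ⟨B, hBA, hidx⟩
  rcases Cfsg.Agent.Lib.Helper52_BG12a.card_eq_of_relIndex_le hA2 hBA hidx with rfl | hB
  · exact h17d.le
  · exact (hcon B hBA hB).le

omit [Finite G] in
/-- a conjugate `gMg⁻¹` with `g ∈ N_G(A) - M` is a maximal subgroup containing `A`, different from `M` -/
theorem cj_facts (hG : IsMinSimpleOddOrder G) (hM : IsCoatom M) (hAM : A ≤ M) (hA1 : A ≠ ⊥) {g : G}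
    (hgA : g ∈ normalizer (A : Set G)) (hgM : g ∉ M) :
    IsCoatom (cj g M) ∧ cj g M ≠ M ∧ A ≤ cj g M := by
  have hM1 : M ≠ ⊥ := fun h => hA1 (le_bot_iff.mp (h ▸ hAM))
  refine ⟨Cfsg.Agent.Lib.Helper22_Uniq.isCoatom_cj hM g, ?_, ?_⟩
  · intro h
    have h4 := mem_normalizer_of_cj_eq h
    rw [Cfsg.Agent.Lib.Helper49_Alpha3.normalizer_coatom hG hM hM1] at h4
    exact hgM h4
  · have := cj_mono (k := g) hAM
    rwa [cj_eq_of_mem_normalizer hgA] at this

/-- a line `Y ≠ X` of `A`, where `C_{M_σ}(X) ≠ 1` and `C_G(X) ≤ M`: `C_{M_σ}(Y) = 1` and `C_G(Y) ≰ M` -/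
theorem Data.line_other (hG : IsMinSimpleOddOrder G) (hC : CentHyp G) (h17 : Hyp1417Full G)
    (hM : IsCoatom M) (hpτ : p ∈ tau2 M) (hAM : A ≤ M) (hAe : IsElementaryAbelian p A)
    (hA2 : Nat.card A = p ^ 2) (hD : Data M A P S p z t) {X : Subgroup G} (hXA : X ≤ A)
    (hX : Nat.card X = p) (hXne : sigmaCore M ⊓ centralizer (X : Set G) ≠ ⊥)
    (hXC : centralizer (X : Set G) ≤ M) {Y : Subgroup G} (hYA : Y ≤ A) (hY : Nat.card Y = p)
    (hYX : Y ≠ X) :
    sigmaCore M ⊓ centralizer (Y : Set G) = ⊥ ∧ ¬ centralizer (Y : Set G) ≤ M := by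
  have hpp := hp.out
  have hZ := hD.line_z hG h17 hM hpτ hAM hAe hA2
  by_cases hYZ : Y = zpowers z
  · rw [hYZ]; exact hZ
  have hXZ : X ≠ zpowers z := fun h => hXne (h ▸ hZ.1)
  obtain ⟨-, -, -, -, h17e, -⟩ := h17 M hM p hpτ A ⟨hAM, hAe, hA2⟩
  have hAc := Cfsg.Agent.Lib.Helper62_EStarCent.comm_of_isElementaryAbelian hAe
  have hA1 : A ≠ ⊥ := by
    intro h
    rw [h, Subgroup.card_bot] at hA2
    exact (Nat.one_lt_pow two_ne_zero hpp.one_lt).ne hA2
  have htC : t ∉ centralizer (A : Set G) := fun h => hD.tM (hC M hM p A hAM hAe hA2 h)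
  have htZ : ∀ z' ∈ zpowers z, t * z' = z' * t := fun z' hz' =>
    (Subgroup.mem_centralizer_iff.mp (hD.le_centralizer_zpowers hD.tS) z' hz').symm
  have htp : ∃ k : ℕ, t ^ (p ^ k) = 1 := by
    obtain ⟨k, hk⟩ := hD.pS ⟨t, hD.tS⟩
    exact ⟨k, by simpa using congrArg Subtype.val hk⟩
  obtain ⟨i, hi⟩ := exists_pow_cj_line hAc hAe.2 hA2 (Subgroup.zpowers_le.mpr hD.zA)
    (hD.card_zpowers hAe) hXA hX hYA hY hXZ hYZ hD.tA htZ htp htC
  set g := t ^ i with hg
  have hgS : g ∈ S := Subgroup.pow_mem _ hD.tS i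
  have hgA : g ∈ normalizer (A : Set G) := Subgroup.pow_mem _ hD.tA i
  have hgM : g ∉ M := by
    intro h
    have hgP : g ∈ P := hD.SM g hgS h
    apply hYX
    rw [← hi]
    apply cj_eq_of_mem_normalizer
    apply Subgroup.centralizer_le_normalizer
    rw [Subgroup.mem_centralizer_iff]
    intro x hx
    exact hD.Pcomm x (hD.AP (hXA hx)) g hgP
  have hgiA : g⁻¹ ∈ normalizer (A : Set G) := Subgroup.inv_mem _ hgA
  have hgiM : g⁻¹ ∉ M := fun h => hgM (by simpa using M.inv_mem h)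
  obtain ⟨hco, hne, hAle⟩ := cj_facts hG hM hAM hA1 hgA hgM
  obtain ⟨hco', hne', hAle'⟩ := cj_facts hG hM hAM hA1 hgiA hgiM
  -- elements of `Y` are the conjugates of the elements of `X`
  have hconjX : ∀ x ∈ X, g * x * g⁻¹ ∈ Y := by
    intro x hx
    rw [← hi, mem_cj]
    have : g⁻¹ * (g * x * g⁻¹) * g = x := by group
    rw [this]; exact hx
  have hconjY : ∀ y ∈ Y, g⁻¹ * y * g ∈ X := by
    intro y hy
    rw [← hi, mem_cj] at hy
    exact hy
  refine ⟨?_, ?_⟩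
  · rw [eq_bot_iff, ← h17e (cj g M) hco hne hAle]
    refine inf_le_inf_left _ ?_
    intro c hc
    rw [mem_cj]
    apply hXC
    rw [Subgroup.mem_centralizer_iff]
    intro x hx
    have h1 := Subgroup.mem_centralizer_iff.mp hc _ (hconjX x hx)
    calc x * (g⁻¹ * c * g) = g⁻¹ * ((g * x * g⁻¹) * c) * g := by group
      _ = g⁻¹ * (c * (g * x * g⁻¹)) * g := by rw [h1]
      _ = g⁻¹ * c * g * x := by group
  · intro hYM
    apply hXne
    rw [eq_bot_iff, ← h17e (cj g⁻¹ M) hco' hne' hAle']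
    intro d hd
    refine ⟨hd.1, ?_⟩
    show d ∈ cj g⁻¹ M
    rw [mem_cj, inv_inv]
    apply hYM
    rw [Subgroup.mem_centralizer_iff]
    intro y hy
    have h1 := Subgroup.mem_centralizer_iff.mp hd.2 _ (hconjY y hy)
    calc y * (g * d * g⁻¹) = g * ((g⁻¹ * y * g) * d) * g⁻¹ := by group
      _ = g * (d * (g⁻¹ * y * g)) * g⁻¹ := by rw [h1]
      _ = g * d * g⁻¹ * y := by group

end Lines

section Main

variable {M E A : Subgroup G}

/-- **BG 12.7 (b1), (c)** together with the facts on `A₀ = C_A(M_σ)` used for the other parts -/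
theorem part_bc (hG : IsMinSimpleOddOrder G) (hU : UniqHyp G) (h44 : H1444.{u}) (hC : CentHyp G)
    (h17 : Hyp1417Full G) (hM : IsCoatom M) (hE : IsComplIn E (sigmaCore M) M) (hpτ : p ∈ tau2 M)
    (hA : A ≤ E ∧ IsElementaryAbelian p A ∧ Nat.card A = p ^ 2)
    (hS : ∀ S : Sylow p G, ¬ IsMulCommutative (S : Subgroup G)) :
    Nat.card ↥(A ⊓ centralizer ((sigmaCore M : Subgroup G) : Set G)) = p ∧
      centralizer ((A ⊓ centralizer ((sigmaCore M : Subgroup G) : Set G) : Subgroup G) : Set G) ≤ M ∧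
      ∀ X : Subgroup G, X ≤ E → Nat.card X = p →
        X ≠ A ⊓ centralizer ((sigmaCore M : Subgroup G) : Set G) →
        sigmaCore M ⊓ centralizer (X : Set G) = ⊥ ∧ ¬ centralizer (X : Set G) ≤ M := by
  have hpp := hp.out
  obtain ⟨hAE, hAe, hA2⟩ := hA
  have hAM : A ≤ M := hAE.trans hE.1
  obtain ⟨P, S, z, t, hD⟩ := exists_data hG h17 hM hpτ hAM hAe hA2 hS
  obtain ⟨X, hXA, hX, hXne⟩ := exists_line hG hU h44 h17 hM hpτ hAM hAe hA2
  obtain ⟨⟨-, h18a⟩, -, h18c⟩ := statement_S1418 hG hC h17 M hM E hE hpτ A ⟨hAE, hAe, hA2⟩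
  obtain ⟨-, -, -, h17d, -, -⟩ := h17 M hM p hpτ A ⟨hAM, hAe, hA2⟩
  have hXC : centralizer (X : Set G) ≤ M := (h18c X hXA hX hXne).1
  have hother : ∀ Y : Subgroup G, Y ≤ A → Nat.card Y = p → Y ≠ X →
      sigmaCore M ⊓ centralizer (Y : Set G) = ⊥ ∧ ¬ centralizer (Y : Set G) ≤ M :=
    fun Y hYA hY hYX => hD.line_other hG hC h17 hM hpτ hAM hAe hA2 hXA hX hXne hXC hYA hY hYX
  -- `M_σ ≤ C_G(X)`
  have hσX : sigmaCore M ≤ centralizer (X : Set G) := by
    refine le_trans (Cfsg.Agent.Lib.Helper22_Hyperplane.le_iSup_centralizer_hyperplanes p A (sigmaCore M)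
      (Cfsg.Agent.Lib.Helper62_EStarCent.comm_of_isElementaryAbelian hAe) hAe.2
      (not_dvd_card_sigmaCore hpτ) (hAM.trans (le_normalizer_sigmaCore' M))) ?_
    apply iSup_le
    rintro ⟨B, hBA, hidx⟩
    rcases Cfsg.Agent.Lib.Helper52_BG12a.card_eq_of_relIndex_le hA2 hBA hidx with rfl | hB
    · exact h17d.le.trans bot_le
    · by_cases hBX : B = X
      · subst hBX; exact inf_le_right
      · exact (hother B hBA hB hBX).1.le.trans bot_le
  set X0 : Subgroup G := A ⊓ centralizer ((sigmaCore M : Subgroup G) : Set G) with hX0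
  have hXX0 : X ≤ X0 := by
    refine le_inf hXA ?_
    intro x hx
    rw [Subgroup.mem_centralizer_iff]
    intro s hs
    exact (Subgroup.mem_centralizer_iff.mp (hσX hs) x hx).symm
  have hne := Cfsg.Agent.Lib.Helper52_BG12a.sigmaCore_ne_bot hG hU h44 hM
  have hAX0 : ¬ A ≤ X0 := by
    intro h
    apply hne
    rw [eq_bot_iff, ← h17d]
    refine le_inf le_rfl ?_
    intro s hs
    rw [Subgroup.mem_centralizer_iff]
    intro a ha
    exact (Subgroup.mem_centralizer_iff.mp (h ha).2 s hs).symm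
  have hcard : Nat.card X0 ≤ p :=
    Cfsg.Agent.Lib.Helper62_EStarCent.card_le_of_lt_of_card_sq hpp inf_le_left hAX0 hA2
  have hXeq : X = X0 := Subgroup.eq_of_le_of_card_ge hXX0 (by rw [hX]; exact hcard)
  refine ⟨by rw [← hXeq]; exact hX, by rw [← hXeq]; exact hXC, ?_⟩
  intro Y hYE hY hYX0
  exact hother Y (h18a Y hYE hY) hY (by rw [hXeq]; exact hYX0)

/-- a Sylow `p`-subgroup of `G` contained in `M` is abelian, `p ∈ τ₂(M)` -/
theorem comm_of_sylow_le (h17 : Hyp1417Full G) (hM : IsCoatom M) (hpτ : p ∈ tau2 M)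
    (hAM : A ≤ M) (hAe : IsElementaryAbelian p A) (hA2 : Nat.card A = p ^ 2) (S : Sylow p G)
    (hSM : (S : Subgroup G) ≤ M) : IsMulCommutative (S : Subgroup G) := by
  obtain ⟨-, h17b, -, -, -, -⟩ := h17 M hM p hpτ A ⟨hAM, hAe, hA2⟩
  have hS : IsSylowIn p (S : Subgroup G) M := isSylowIn_of_sylow_le S hSM
  have hc := (h17b hS.toSylow).1
  refine ⟨⟨fun a b => ?_⟩⟩
  have ha' : (⟨(a : G), hSM a.2⟩ : ↥M) ∈ (hS.toSylow : Subgroup ↥M) := (hS.mem_toSylow _).mpr a.2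
  have hb' : (⟨(b : G), hSM b.2⟩ : ↥M) ∈ (hS.toSylow : Subgroup ↥M) := (hS.mem_toSylow _).mpr b.2
  have h2 := hc.is_comm.comm ⟨_, ha'⟩ ⟨_, hb'⟩
  have h3 := congrArg (fun z : ↥(hS.toSylow : Subgroup ↥M) => ((z : ↥M) : G)) h2
  apply Subtype.ext
  simpa using h3

/-- **BG 12.7 (a)**: `τ₂(M) = {p}` -/
theorem part_a (hG : IsMinSimpleOddOrder G) (hU : UniqHyp G) (h44 : H1444.{u}) (hC : CentHyp G)
    (h17 : Hyp1417Full G) (hM : IsCoatom M) (hE : IsComplIn E (sigmaCore M) M) (hpτ : p ∈ tau2 M)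
    (hA : A ≤ E ∧ IsElementaryAbelian p A ∧ Nat.card A = p ^ 2)
    (hS : ∀ S : Sylow p G, ¬ IsMulCommutative (S : Subgroup G)) : tau2 M = {p} := by
  refine Set.eq_singleton_iff_unique_mem.mpr ⟨hpτ, ?_⟩
  intro q hq
  by_contra hqp
  have : Fact q.Prime := ⟨hq.1⟩
  obtain ⟨B, hBE, hBe, hB2⟩ :=
    Cfsg.Agent.Lib.Helper52_BG12d.exists_elemAb_sq_le_compl hG hU h44 hM hE hq
  obtain ⟨S', -, hS'E, -⟩ := Cfsg.Agent.Lib.Helper70_BG127.exists_sylow_le_centralizer hG hC h17 M hM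
    E hE (Ne.symm hqp) hpτ hq A hA B ⟨hBE, hBe, hB2⟩
  exact hS S' (comm_of_sylow_le h17 hM hpτ (hA.1.trans hE.1) hA.2.1 hA.2.2 S' (hS'E.trans hE.1))

/-- `A₀ = C_A(M_σ)` is normal in `M` -/
theorem le_normalizer_inf_centralizer (h17 : Hyp1417Full G) (hM : IsCoatom M) (hpτ : p ∈ tau2 M)
    (hAM : A ≤ M) (hAe : IsElementaryAbelian p A) (hA2 : Nat.card A = p ^ 2) :
    M ≤ normalizer ((A ⊓ centralizer ((sigmaCore M : Subgroup G) : Set G) : Subgroup G) : Set G) := by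
  have hpp := hp.out
  obtain ⟨-, -, h17c, -, -, -⟩ := h17 M hM p hpτ A ⟨hAM, hAe, hA2⟩
  have hMσn := le_normalizer_sigmaCore' M
  apply le_normalizer_of_conj_mem
  intro m hm x hx
  obtain ⟨hxA, hxC⟩ := Subgroup.mem_inf.mp hx
  -- `m x m⁻¹` centralizes `M_σ`
  have hC' : m * x * m⁻¹ ∈ centralizer ((sigmaCore M : Subgroup G) : Set G) := by
    rw [Subgroup.mem_centralizer_iff]
    intro y hy
    have h1 : m⁻¹ * y * m⁻¹⁻¹ ∈ sigmaCore M :=
      (Subgroup.mem_normalizer_iff.mp (hMσn (M.inv_mem hm)) y).mp hy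
    have h2 := Subgroup.mem_centralizer_iff.mp hxC _ h1
    calc y * (m * x * m⁻¹) = m * ((m⁻¹ * y * m⁻¹⁻¹) * x) * m⁻¹ := by group
      _ = m * (x * (m⁻¹ * y * m⁻¹⁻¹)) * m⁻¹ := by rw [h2]
      _ = m * x * m⁻¹ * y := by group
  refine Subgroup.mem_inf.mpr ⟨?_, hC'⟩
  -- `m x m⁻¹ = s a`
  have hW : m * x * m⁻¹ ∈ ((sigmaCore M ⊔ A : Subgroup G) : Set G) :=
    (Subgroup.mem_normalizer_iff.mp (h17c hm) x).mp ((le_sup_right : A ≤ sigmaCore M ⊔ A) hxA)
  rw [Subgroup.coe_mul_of_right_le_normalizer_left (sigmaCore M) A (hAM.trans hMσn)] at hW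
  obtain ⟨s, hs, a, ha, hsa⟩ := hW
  replace hsa : s * a = m * x * m⁻¹ := hsa
  have hsx : s * (m * x * m⁻¹) = (m * x * m⁻¹) * s := Subgroup.mem_centralizer_iff.mp hC' s hs
  have hcomm : Commute s a := by
    rw [← hsa] at hsx
    have : s * (s * a) = s * (a * s) := by rw [hsx]; group
    exact mul_left_cancel this
  have hpow : (m * x * m⁻¹) ^ p = 1 := by rw [conj_pow, hAe.2 x hxA]; group
  have hsp : s ^ p = 1 := by
    rw [← hsa, hcomm.mul_pow, hAe.2 a ha, mul_one] at hpow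
    exact hpow
  have hs1 : s = 1 := by
    have h1 : orderOf s ∣ p := orderOf_dvd_of_pow_eq_one hsp
    have h2 : orderOf s ∣ Nat.card (sigmaCore M) := Subgroup.orderOf_dvd_natCard _ hs
    rcases (Nat.dvd_prime hpp).mp h1 with h | h
    · exact orderOf_eq_one_iff.mp h
    · exact absurd (h ▸ h2) (not_dvd_card_sigmaCore hpτ)
  rw [← hsa, hs1, one_mul]
  exact ha

/-- **BG 12.7 (b2)**: `F(M) = M_σ × C_A(M_σ)` -/
theorem part_b2 (hG : IsMinSimpleOddOrder G) (hU : UniqHyp G) (h44 : H1444.{u}) (hC : CentHyp G)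
    (h17 : Hyp1417Full G) (hM : IsCoatom M) (hE : IsComplIn E (sigmaCore M) M) (hpτ : p ∈ tau2 M)
    (hA : A ≤ E ∧ IsElementaryAbelian p A ∧ Nat.card A = p ^ 2)
    (hS : ∀ S : Sylow p G, ¬ IsMulCommutative (S : Subgroup G)) :
    fittingOf M = sigmaCore M ⊔ (A ⊓ centralizer ((sigmaCore M : Subgroup G) : Set G)) := by
  have hpp := hp.out
  have hτ := part_a hG hU h44 hC h17 hM hE hpτ hA hS
  obtain ⟨hX0card, hX0C, -⟩ := part_bc hG hU h44 hC h17 hM hE hpτ hA hS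
  obtain ⟨hAE, hAe, hA2⟩ := hA
  have hAM : A ≤ M := hAE.trans hE.1
  obtain ⟨P, S, z, t, hD⟩ := exists_data hG h17 hM hpτ hAM hAe hA2 hS
  obtain ⟨h17a, -, -, -, -, -⟩ := h17 M hM p hpτ A ⟨hAM, hAe, hA2⟩
  set X0 : Subgroup G := A ⊓ centralizer ((sigmaCore M : Subgroup G) : Set G) with hX0
  have hMσn := le_normalizer_sigmaCore' M
  have hσM : sigmaCore M ≤ M := Subgroup.map_subtype_le _
  have hMX0 : M ≤ normalizer (X0 : Set G) := le_normalizer_inf_centralizer h17 hM hpτ hAM hAe hA2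
  have hX0p : IsPGroup p ↥X0 := IsPGroup.of_card (n := 1) (by rw [hX0card, pow_one])
  apply le_antisymm
  · -- `F(M)` is the join of the `O_q(M)`
    have h1 : fittingOf M = ⨆ q : Nat.Primes, (pCore (q : ℕ) ↥M).map M.subtype := by
      unfold fittingOf
      rw [Cfsg.Agent.Lib.Helper1_Cores.fittingSubgroup_eq_iSup_pCore, Subgroup.map_iSup]
    rw [h1]
    refine iSup_le (fun q => ?_)
    have : Fact (q : ℕ).Prime := ⟨q.2⟩
    set T : Subgroup G := (pCore (q : ℕ) ↥M).map M.subtype with hTdef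
    have hTM : T ≤ M := Subgroup.map_subtype_le _
    have hTp : IsPGroup (q : ℕ) ↥T := (Cfsg.Agent.Lib.Helper1_Cores.pCore_isPGroup (q : ℕ)).map _
    have hMT : M ≤ normalizer (T : Set G) :=
      Cfsg.Agent.Lib.Helper22_CoreCentralizer.le_normalizer_map_subtype (pCore (q : ℕ) ↥M)
    by_cases hqσ : (q : ℕ) ∈ sigma M
    · refine le_trans ?_ le_sup_left
      apply Cfsg.Agent.Lib.Helper23_SigmaHall.le_sigmaCore hTM hMT
      intro r hr hrd
      obtain ⟨n, hn⟩ := IsPGroup.iff_card.mp hTp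
      rw [hn] at hrd
      rw [(Nat.prime_dvd_prime_iff_eq hr q.2).mp (hr.dvd_of_dvd_pow hrd)]
      exact hqσ
    · by_cases hT1 : T = ⊥
      · rw [hT1]; exact bot_le
      refine le_trans ?_ le_sup_right
      have hT : Cfsg.Agent.Lib.Helper97_BG15Y.Tau2Hyp G :=
        fun M hM p _ hp A hAM hAe hA2 P hAP => ((h17 M hM p hp A ⟨hAM, hAe, hA2⟩).2.1 P).2 hAP
      obtain ⟨hqτ, -⟩ := Cfsg.Agent.Lib.Helper97_BG15Y.key hG hT hM hqσ hTp hTM hMT hT1
      have hqp : (q : ℕ) = p := by rw [hτ] at hqτ; exact hqτ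
      rw [hqp] at hTp
      -- `T` centralizes `M_σ`
      have hdisj : T ⊓ sigmaCore M = ⊥ := by
        apply Disjoint.eq_bot
        apply Subgroup.disjoint_of_coprime_natCard
        obtain ⟨n, hn⟩ := IsPGroup.iff_card.mp hTp
        rw [hn]
        apply Nat.Coprime.pow_left
        rw [Nat.Prime.coprime_iff_not_dvd hpp]
        exact not_dvd_card_sigmaCore hpτ
      have hTC : T ≤ centralizer ((sigmaCore M : Subgroup G) : Set G) := by
        intro y hy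
        rw [Subgroup.mem_centralizer_iff]
        intro s hs
        have h2 : y * s * y⁻¹ * s⁻¹ ∈ T ⊓ sigmaCore M := by
          refine ⟨?_, ?_⟩
          · have h3 : s * y⁻¹ * s⁻¹ ∈ T :=
              (Subgroup.mem_normalizer_iff.mp (hMT (hσM hs)) _).mp (T.inv_mem hy)
            have : y * s * y⁻¹ * s⁻¹ = y * (s * y⁻¹ * s⁻¹) := by group
            rw [this]; exact T.mul_mem hy h3
          · have h3 : y * s * y⁻¹ ∈ sigmaCore M :=
              (Subgroup.mem_normalizer_iff.mp (hMσn (hTM hy)) _).mp hs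
            exact (sigmaCore M).mul_mem h3 ((sigmaCore M).inv_mem hs)
        rw [hdisj, Subgroup.mem_bot] at h2
        have h4 : y * s * y⁻¹ = s := by
          have := mul_inv_eq_one.mp h2
          exact this
        calc s * y = (y * s * y⁻¹) * y := by rw [h4]
          _ = y * s := by group
      -- `T ≤ P`
      have hTP : T ≤ P := by
        obtain ⟨m, hm, hmT⟩ := hD.sylP.exists_conj_le hTM hTp
        intro y hy
        have h3 : m⁻¹ * y * m⁻¹⁻¹ ∈ T := (Subgroup.mem_normalizer_iff.mp (hMT (M.inv_mem hm)) y).mp hy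
        have h4 := hmT _ h3
        have e : m * (m⁻¹ * y * m⁻¹⁻¹) * m⁻¹ = y := by group
        rwa [e] at h4
      -- elements of `T` have order dividing `p`
      have hexp : ∀ y ∈ T, y ^ p = 1 := by
        intro y hy
        by_contra hyp
        obtain ⟨S0, hS0⟩ := hD.sylS
        apply hS S0
        rw [hS0]
        have hp2 : p ≠ 2 := Cfsg.Agent.Lib.Helper73_BG12b.ne_two_of_isPGroup hG hTp hT1
        have hAmax := maximal_of_tau2 hG hM hpτ hAM hAe hA2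
        refine comm_of_forall_mem p hp2 S hD.pS
          (fun hr => by
            have := Cfsg.Agent.S1412.result hG p S0 (hS0 ▸ hr)
            rwa [hS0] at this)
          A (hD.AP.trans hD.PS) hAe hA2 (fun B _ hB hAB => hAmax B hB hAB) y
          (hD.PS (hTP hy)) ?_
        intro u huS hup hucomm
        -- an element `x` of order `p` in `⟨y ^ p⟩`
        have hZp : IsPGroup p ↥(zpowers (y ^ p)) :=
          hTp.to_le (Subgroup.zpowers_le.mpr (T.pow_mem hy p))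
        have hZ1 : (zpowers (y ^ p) : Subgroup G) ≠ ⊥ := by
          intro h
          exact hyp (Subgroup.zpowers_eq_bot.mp h)
        obtain ⟨x, hxZ, -, hxo⟩ :=
          Cfsg.Agent.Lib.Helper49_Alpha3.exists_central_of_ne_bot hZp hZ1
        have hxT : x ∈ T := (Subgroup.zpowers_le.mpr (T.pow_mem hy p)) hxZ
        have hx1 : x ≠ 1 := by
          rintro rfl
          rw [orderOf_one] at hxo
          exact hpp.one_lt.ne hxo
        have hxp : x ^ p = 1 := by rw [← hxo]; exact pow_orderOf_eq_one x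
        have hxX0 : x ∈ X0 := ⟨(hD.omega x (hTP hxT)).mp hxp, hTC hxT⟩
        have hX0x : zpowers x = X0 :=
          Cfsg.Agent.Lib.Helper88_SmallEssential.zpowers_eq_of_card_prime hpp hX0card hxX0 hx1
        -- `u` centralizes `X0`
        have hux : Commute u x := by
          obtain ⟨n, rfl⟩ := Subgroup.mem_zpowers_iff.mp hxZ
          exact (show Commute u (y ^ p) from hucomm).zpow_right n
        have huC : u ∈ centralizer (X0 : Set G) := by
          rw [Subgroup.mem_centralizer_iff]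
          intro w hw
          rw [← hX0x] at hw
          obtain ⟨n, rfl⟩ := Subgroup.mem_zpowers_iff.mp hw
          exact (hux.zpow_right n).eq.symm
        exact (hD.omega u (hD.SM u huS (hX0C huC))).mp hup
      intro y hy
      exact ⟨(hD.omega y (hTP hy)).mp (hexp y hy), hTC hy⟩
  · refine sup_le ?_ ?_
    · exact Cfsg.Agent.Lib.Helper97_BG15Y.le_fittingOf hσM hMσn h17a
    · exact Cfsg.Agent.Lib.Helper97_BG15Y.le_fittingOf (inf_le_left.trans hAM) hMX0 hX0p.isNilpotent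

/-- **Bender–Glauberman, Theorem 12.7** (statement S1419). -/
theorem statement_S1419 (hG : IsMinSimpleOddOrder G) (hU : UniqHyp G) (h44 : H1444.{u})
    (hC : CentHyp G) (h17 : Hyp1417Full G) (M : Subgroup G) (hM : IsCoatom M) (E : Subgroup G)
    (hE : Cfsg.IsComplIn E (Cfsg.sigmaCore M) M) (hpτ : p ∈ Cfsg.tau2 M)
    (hS : ∀ S : Sylow p G, ¬ IsMulCommutative (S : Subgroup G)) (A : Subgroup G)
    (hA : (A ≤ E ∧ Cfsg.IsElementaryAbelian p A ∧ Nat.card A = p ^ 2)) :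
    Cfsg.tau2 M = {p} ∧
      (Nat.card ↥(A ⊓ Subgroup.centralizer (Cfsg.sigmaCore M : Set G)) = p ∧
        Cfsg.fittingOf M =
          Cfsg.sigmaCore M ⊔ (A ⊓ Subgroup.centralizer (Cfsg.sigmaCore M : Set G))) ∧
      ∀ X : Subgroup G, X ≤ E → Nat.card X = p →
        X ≠ A ⊓ Subgroup.centralizer (Cfsg.sigmaCore M : Set G) →
        Cfsg.sigmaCore M ⊓ Subgroup.centralizer (X : Set G) = ⊥ ∧
          ¬ Subgroup.centralizer (X : Set G) ≤ M := by
  obtain ⟨h1, -, h3⟩ := part_bc hG hU h44 hC h17 hM hE hpτ hA hS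
  exact ⟨part_a hG hU h44 hC h17 hM hE hpτ hA hS,
    ⟨h1, part_b2 hG hU h44 hC h17 hM hE hpτ hA hS⟩, h3⟩

end Main

end Cfsg.Agent.Lib.Helper97_BG127c
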