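import Cfsg.Agent.Lib.Helper76_BG13b

/-!
# Bender–Glauberman Lemma 13.2 (helper76)

`M` maximal, `E` a complement of `M_σ`, `S` a nontrivial cyclic Sylow subgroup of `E`: then
`C_{M_σ}(x) = C_{M_σ}(S)` for every `x ∈ S ∖ 1`.

Proved from the landed statements S1350, S1403, S1405, S1408, S1414 and, as explicit hypotheses, the
frozen statements S1416 (first clause, `CentHyp`), S1417 (`Hyp1417`) and S1418 (first clause,
`Hyp1418a`).
-/

set_option autoImplicit false

namespace Cfsg.Agent.Lib.Helper76_BG13c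

open Subgroup Cfsg Cfsg.Agent.Lib.Helper22_Radical Cfsg.Agent.Lib.Helper22_BGTrans
  Cfsg.Agent.Lib.Helper84_RelSylow Cfsg.Agent.Lib.Helper49_Sigma
  Cfsg.Agent.Lib.Helper24_CoprimeHall Cfsg.Agent.Lib.Helper24_CoprimeAction
  Cfsg.Agent.Lib.Helper76_BG13a Cfsg.Agent.Lib.Helper76_BG13b
  Cfsg.Agent.Lib.Helper73_BG12 Cfsg.Agent.Lib.Helper79_BG141

universe u

variable {G : Type u} [Group G] [Finite G]

/-- the first assertion of the frozen statement S1418, as a hypothesis -/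
def Hyp1418a (G : Type u) [Group G] : Prop :=
  ∀ (M : Subgroup G), IsCoatom M → ∀ E : Subgroup G, IsComplIn E (sigmaCore M) M →
    ∀ (p : ℕ) [Fact p.Prime], p ∈ tau2 M → ∀ A : Subgroup G, A ≤ E → IsElementaryAbelian p A →
      Nat.card A = p ^ 2 → E ≤ normalizer (A : Set G)

omit [Finite G] in
theorem isPGroup_of_elemAb {p : ℕ} {A : Subgroup G} (hAe : IsElementaryAbelian p A) : IsPGroup p A := by
  rintro ⟨a, ha⟩
  refine ⟨1, ?_⟩
  apply Subtype.ext
  rw [pow_one, Subgroup.coe_pow]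
  exact hAe.2 a ha

omit [Finite G] in
/-- the prime divisors of a group of order `p ^ 2` -/
theorem prime_eq_of_dvd_card_sq {p : ℕ} (hp : p.Prime) {A : Subgroup G} (hA2 : Nat.card A = p ^ 2)
    {q : ℕ} (hq : q.Prime) (hd : q ∣ Nat.card A) : q = p := by
  rw [hA2] at hd
  exact (Nat.prime_dvd_prime_iff_eq hq hp).1 (hq.dvd_of_dvd_pow hd)

/-- for `p ∈ τ₂(H)` every complement of `H_σ` in `H` contains an elementary abelian subgroup of
order `p ^ 2` -/
theorem exists_elemAb_le_compl (hG : IsMinSimpleOddOrder G) {H E : Subgroup G} (hH : IsCoatom H)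
    (hE : IsComplIn E (sigmaCore H) H) {p : ℕ} [Fact p.Prime] (hp : p ∈ tau2 H) :
    ∃ A : Subgroup G, A ≤ E ∧ IsElementaryAbelian p A ∧ Nat.card A = p ^ 2 := by
  obtain ⟨hpp, hpσ, hr2, hr1⟩ := hp
  have hsolv := isSolvable_of_isCoatom hG hH
  obtain ⟨A₀, hA₀H, hA₀e, hA₀2⟩ := Cfsg.Agent.Lib.Helper49_Alpha3.exists_elemAb_sq hr2 hr1
  have hA₀σ : ∀ q : ℕ, q.Prime → q ∣ Nat.card A₀ → q ∉ sigma H := by
    intro q hq hd
    rw [prime_eq_of_dvd_card_sq hpp hA₀2 hq hd]
    exact hpσ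
  obtain ⟨g, -, hgA⟩ := exists_cj_le_compl hsolv (sigma_hall hG hH) hE hA₀H hA₀σ
  exact ⟨cj g A₀, hgA, isElementaryAbelian_cj hA₀e g, by rw [card_cj]; exact hA₀2⟩

/-- for `p ∈ τ₂(H)`, a `p`-subgroup of `H` normalizing an elementary abelian subgroup `A` of order
`p ^ 2` of `H` centralizes it (Sylow `p`-subgroups of `H` are abelian) -/
theorem le_centralizer_of_tau2 (h17 : Hyp1417 G) {H : Subgroup G} (hH : IsCoatom H) {p : ℕ}
    [Fact p.Prime] (hp : p ∈ tau2 H) {A P : Subgroup G} (hAH : A ≤ H)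
    (hAe : IsElementaryAbelian p A) (hA2 : Nat.card A = p ^ 2) (hPH : P ≤ H) (hPp : IsPGroup p P)
    (hPA : P ≤ normalizer (A : Set G)) : P ≤ centralizer (A : Set G) := by
  have h1 : IsPGroup p (P ⊔ A : Subgroup G) :=
    IsPGroup.to_sup_of_normal_right' hPp (isPGroup_of_elemAb hAe) hPA
  obtain ⟨T, hle, hT⟩ := exists_isSylowIn_ge (H := H) (sup_le hPH hAH) h1
  have hcomm := ((h17 H hH p hp A ⟨hAH, hAe, hA2⟩).2.1 hT.toSylow).1
  intro s hs
  rw [mem_centralizer_iff]
  intro a ha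
  have hsT : s ∈ T := hle ((le_sup_left : P ≤ P ⊔ A) hs)
  have haT : a ∈ T := hle ((le_sup_right : A ≤ P ⊔ A) ha)
  have := hcomm.is_comm.comm
    (⟨⟨a, hT.le haT⟩, (hT.mem_toSylow _).2 haT⟩ : (hT.toSylow : Subgroup H))
    ⟨⟨s, hT.le hsT⟩, (hT.mem_toSylow _).2 hsT⟩
  exact congrArg (fun x : (hT.toSylow : Subgroup H) => ((x : H) : G)) this

/-- Let `p, q ∈ σ(L)`, `p ∉ β(L)`, `S` a Sylow `q`-subgroup of `L` with `N_G(S) ≤ M`.  Then every
`p`-subgroup of `L` is conjugate into `M` (a Sylow `p`-subgroup of `L_σ` normalizes a Sylow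
`q`-subgroup of the normal `p`-complement of `L_σ`). -/
theorem exists_cj_le_of_normal_pcompl (hG : IsMinSimpleOddOrder G) {L M : Subgroup G} (hL : IsCoatom L)
    {p q : ℕ} [Fact p.Prime] [Fact q.Prime] (hpq : p ≠ q) (hpL : p ∈ sigma L) (hpβ : p ∉ beta L)
    (hqL : q ∈ sigma L) {S : Subgroup G} (hS : IsSylowIn q S L)
    (hNS : normalizer (S : Set G) ≤ M) {A : Subgroup G} (hAL : A ≤ L) (hAp : IsPGroup p A) :
    ∃ g : G, cj g A ≤ M := by
  have hpp : p.Prime := Fact.out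
  have hqq : q.Prime := Fact.out
  obtain ⟨-, -, -, -, h5⟩ := Cfsg.Agent.S1414.result hG L hL
  obtain ⟨-, ⟨P', N, hNn, hc⟩, -⟩ := h5 p hpp hpL.2.1 hpβ
  obtain ⟨K, hK⟩ : ∃ K : Subgroup G, K = N.map (sigmaCore L).subtype := ⟨_, rfl⟩
  obtain ⟨R, hR⟩ : ∃ R : Subgroup G, R = (P' : Subgroup ↥(sigmaCore L)).map (sigmaCore L).subtype := ⟨_, rfl⟩
  have hXL : (sigmaCore L) ≤ L := Cfsg.Agent.Lib.Helper23_SigmaHall.sigmaCore_le L
  have hRsyl : IsSylowIn p R (sigmaCore L) := hR ▸ isSylowIn_of_sylow P'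
  have hKX : K ≤ (sigmaCore L) := hK ▸ Subgroup.map_subtype_le _
  have hRX : R ≤ (sigmaCore L) := hR ▸ Subgroup.map_subtype_le _
  have hcardK : Nat.card K = Nat.card N := hK ▸ Subgroup.card_map_of_injective (sigmaCore L).subtype_injective
  have hcardR : Nat.card R = Nat.card (P' : Subgroup ↥(sigmaCore L)) :=
    hR ▸ Subgroup.card_map_of_injective (sigmaCore L).subtype_injective
  have hmul : Nat.card K * Nat.card R = Nat.card (sigmaCore L) := by
    rw [hcardK, hcardR]; exact hc.card_mul_card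
  have hpK : ¬ p ∣ Nat.card K := by
    rw [hcardK, ← hc.index_eq_card]
    exact P'.not_dvd_index
  have hXK : (sigmaCore L) ≤ normalizer (K : Set G) := by
    have h1 := Subgroup.le_normalizer_map (H := N) (sigmaCore L).subtype
    rw [← hK] at h1
    rw [Subgroup.normalizer_eq_top_iff.mpr hNn, ← MonoidHom.range_eq_map,
      Subgroup.range_subtype] at h1
    exact h1
  have hKhall : IsPiHallOf {r | r ≠ p} K (sigmaCore L) := by
    refine ⟨hKX, ?_, ?_⟩
    · intro r _ hd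
      show r ≠ p
      rintro rfl
      exact hpK hd
    · intro r hr hrp hd
      have h1 := relIndex_mul_card' hKX
      have h2 : K.relIndex (sigmaCore L) = Nat.card R := by
        apply Nat.eq_of_mul_eq_mul_right (Nat.card_pos (α := K))
        rw [h1, ← hmul, mul_comm]
      rw [h2] at hd
      have := primes_of_isPGroup hpp hRsyl.isPGroup r hr hd
      exact hrp this
  have hSq : IsPGroup q S := hS.isPGroup
  have hSX : S ≤ (sigmaCore L) := le_sigmaCore_of_isPGroup' hG hL hqL hSq hS.le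
  have hSK : S ≤ K := by
    apply le_of_normal_hall hKhall hXK hSX
    intro r hr hd
    have := primes_of_isPGroup hqq hSq r hr hd
    rw [Set.mem_singleton_iff] at this
    show r ≠ p
    rw [this]; exact hpq.symm
  have hSKhall : PiHall {q} S K := by
    refine ⟨hSK, primes_of_isPGroup hqq hSq, ?_⟩
    intro r hr hrq hd
    rw [Set.mem_singleton_iff] at hrq
    subst hrq
    apply hS.not_dvd
    rw [relIndex_eq_div hS.le]
    obtain ⟨m, hm⟩ := Subgroup.card_dvd_of_le hSK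
    obtain ⟨n, hn⟩ := Subgroup.card_dvd_of_le (hKX.trans hXL)
    rw [hm, Nat.mul_div_cancel_left _ Nat.card_pos] at hd
    rw [hn, hm, mul_assoc, Nat.mul_div_cancel_left _ Nat.card_pos]
    exact Dvd.dvd.mul_right hd n
  have hRK : R ≤ normalizer (K : Set G) := hRX.trans hXK
  have hcop : (Nat.card R).Coprime (Nat.card K) := by
    obtain ⟨j, hj⟩ := IsPGroup.iff_card.mp hRsyl.isPGroup
    rw [hj]
    apply Nat.Coprime.pow_left
    exact (Nat.Prime.coprime_iff_not_dvd hpp).2 hpK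
  have hsolvK : Group.IsSolvable ↥K := isSolvable_of_le hG hL (hKX.trans hXL)
  obtain ⟨Q₁, hQ₁, hRQ₁⟩ := exists_invariant_piHall R K hRK hcop hsolvK {q}
  obtain ⟨k, -, hk⟩ := piHall_conj hsolvK hSKhall hQ₁
  have hRM : R ≤ cj k M := by
    refine hRQ₁.trans ?_
    rw [← hk]
    show normalizer ((cj k S : Subgroup G) : Set G) ≤ cj k M
    rw [normalizer_cj]
    exact cj_mono hNS
  have hAX : A ≤ (sigmaCore L) := le_sigmaCore_of_isPGroup' hG hL hpL hAp hAL
  obtain ⟨g, -, hg⟩ := hRsyl.exists_conj_le hAX hAp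
  refine ⟨k⁻¹ * g, ?_⟩
  rw [cj_mul]
  have h1 : cj g A ≤ cj k M := by
    rintro _ ⟨a, ha, rfl⟩
    apply hRM
    have := hg a ha
    simpa [MulAut.conj_apply] using this
  have h2 := cj_mono (k := k⁻¹) h1
  rwa [cj_inv_cj] at h2

/-- Let `q ∈ σ(M) ∩ τ₂(L)`, `L ≠ M`, and let `M` contain a Sylow `q`-subgroup of `L`.  Then
`L_σ ∩ M = 1` and every `σ(L)'`-subgroup of `L` is conjugate into `M` (a complement of `L_σ` lies
in `M`). -/
theorem cj_le_of_tau2_other (hG : IsMinSimpleOddOrder G) (hC : CentHyp G) (h17 : Hyp1417 G)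
    (h18 : Hyp1418a G) {M L : Subgroup G} (hM : IsCoatom M) (hL : IsCoatom L) (hLM : L ≠ M)
    {q : ℕ} [Fact q.Prime] (hqM : q ∈ sigma M) (hqL : q ∈ tau2 L) {S : Subgroup G}
    (hS : IsSylowIn q S L) (hSM : S ≤ M) :
    sigmaCore L ⊓ M = ⊥ ∧ ∀ A : Subgroup G, A ≤ L →
      (∀ r : ℕ, r.Prime → r ∣ Nat.card A → r ∉ sigma L) → ∃ g : G, cj g A ≤ M := by
  have hqq : q.Prime := Fact.out
  have hU := Cfsg.Agent.Lib.Helper49_SigmaDisjoint.uniqHyp hG
  have hsolv := isSolvable_of_isCoatom hG hL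
  obtain ⟨A₀, hA₀L, hA₀e, hA₀2⟩ := Cfsg.Agent.Lib.Helper49_Alpha3.exists_elemAb_sq hqL.2.2.1 hqL.2.2.2
  obtain ⟨l, -, hl⟩ := hS.exists_conj_le hA₀L (isPGroup_of_elemAb hA₀e)
  have hAqS : cj l A₀ ≤ S := by
    rintro _ ⟨a, ha, rfl⟩
    have := hl a ha
    simpa [MulAut.conj_apply] using this
  have hAqe : IsElementaryAbelian q (cj l A₀) := isElementaryAbelian_cj hA₀e l
  have hAq2 : Nat.card (cj l A₀) = q ^ 2 := by rw [card_cj]; exact hA₀2
  have hAqL : cj l A₀ ≤ L := hAqS.trans hS.le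
  have hAqM : cj l A₀ ≤ M := hAqS.trans hSM
  have h1 := (h17 L hL q hqL (cj l A₀) ⟨hAqL, hAqe, hAq2⟩).2.2.2.2.1 M hM hLM.symm hAqM
  refine ⟨h1, ?_⟩
  intro A hAL hAσ
  have hAqσ : ∀ r : ℕ, r.Prime → r ∣ Nat.card (cj l A₀) → r ∉ sigma L := by
    intro r hr hd
    rw [prime_eq_of_dvd_card_sq hqq hAq2 hr hd]
    exact hqL.2.1
  obtain ⟨E, hE, hAqE⟩ := exists_compl_ge hsolv (sigma_hall hG hL) hAqL hAqσ
  have hEN : E ≤ normalizer ((cj l A₀ : Subgroup G) : Set G) := h18 L hL E hE q hqL _ hAqE hAqe hAq2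
  have hNM : normalizer ((cj l A₀ : Subgroup G) : Set G) ≤ M :=
    normalizer_le_of_not_isCyclic hG hU hC hM hqM (isPGroup_of_elemAb hAqe) hAqM
      (not_isCyclic_of_elemAb hqq hAqe hAq2)
  obtain ⟨g, -, hg⟩ := exists_cj_le_compl hsolv (sigma_hall hG hL) hE hAL hAσ
  exact ⟨g, hg.trans (hEN.trans hNM)⟩

/-- an element `≠ 1` of a finite group has a power of prime order -/
theorem exists_prime_order_mem_zpowers {z : G} (hz1 : z ≠ 1) :
    ∃ q : ℕ, q.Prime ∧ ∃ w ∈ zpowers z, orderOf w = q := by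
  have h1 : orderOf z ≠ 1 := fun h => hz1 (orderOf_eq_one_iff.mp h)
  obtain ⟨q, hq, hd⟩ := Nat.exists_prime_and_dvd h1
  exact ⟨q, hq, z ^ (orderOf z / q), Subgroup.npow_mem_zpowers z _,
    orderOf_pow_orderOf_div (orderOf_pos z).ne' hd⟩

omit [Finite G] in
theorem centralizer_singleton_le_centralizer_zpowers {z w : G} (hw : w ∈ zpowers z) :
    centralizer ({z} : Set G) ≤ centralizer ((zpowers w : Subgroup G) : Set G) := by
  rw [← Subgroup.centralizer_closure ({z} : Set G), ← Subgroup.zpowers_eq_closure]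
  apply Subgroup.centralizer_le
  exact (zpowers_le.mpr hw : zpowers w ≤ zpowers z)

/-- **The final contradiction in Lemma 13.2.**  `M` has cyclic Sylow `p`-subgroups, `p ∉ σ(M)` is not
an ideal prime, `x ≠ 1` a `p`-element of `M` centralizing `z ∈ M_σ ∖ 1`, and `z` centralizes an
elementary abelian group of order `p ^ 2`: impossible. -/
theorem final_contra (hG : IsMinSimpleOddOrder G) (hC : CentHyp G) (h17 : Hyp1417 G)
    (h18 : Hyp1418a G) {M : Subgroup G} (hM : IsCoatom M) {p : ℕ} [Fact p.Prime]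
    (hpM : p ∉ sigma M) (hr1 : PRankLE p 1 ↥M) (hni : ¬ IsIdealPrime p G) {x z : G} (hxM : x ∈ M)
    (hx1 : x ≠ 1) (hxp : ∃ k : ℕ, x ^ p ^ k = 1) (hz : z ∈ sigmaCore M) (hz1 : z ≠ 1)
    (hxz : x * z = z * x) {A : Subgroup G} (hAe : IsElementaryAbelian p A)
    (hA2 : Nat.card A = p ^ 2) (hAz : A ≤ centralizer ({z} : Set G)) : False := by
  have hpp : p.Prime := Fact.out
  have hU := Cfsg.Agent.Lib.Helper49_SigmaDisjoint.uniqHyp hG
  have hAp : IsPGroup p A := isPGroup_of_elemAb hAe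
  have hnoA : ∀ g : G, ¬ cj g A ≤ M := fun g h =>
    not_pRankLE_one_of_elemAb hpp h (isElementaryAbelian_cj hAe g) (by rw [card_cj]; exact hA2) hr1
  obtain ⟨q, hqq, w, hwz, hwq⟩ := exists_prime_order_mem_zpowers hz1
  have : Fact q.Prime := ⟨hqq⟩
  have hXσ : zpowers w ≤ sigmaCore M := by
    rw [zpowers_le]
    exact (zpowers_le.mpr hz : zpowers z ≤ sigmaCore M) hwz
  have hXcard : Nat.card (zpowers w) = q := by rw [Nat.card_zpowers, hwq]
  have hXq : IsPGroup q (zpowers w) := IsPGroup.of_card (n := 1) (by rw [hXcard, pow_one])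
  have hX1 : zpowers w ≠ ⊥ := by
    intro h
    rw [h, Subgroup.card_bot] at hXcard
    exact hqq.one_lt.ne hXcard
  have hqM : q ∈ sigma M := mem_sigma_of_dvd_card_le_sigmaCore hXσ hqq (by rw [hXcard])
  have hpq : p ≠ q := by
    rintro rfl
    exact hpM hqM
  have hXM : zpowers w ≤ M := hXσ.trans (Cfsg.Agent.Lib.Helper23_SigmaHall.sigmaCore_le M)
  have hXtop : zpowers w ≠ ⊤ := by
    intro h
    apply hM.1
    rw [eq_top_iff, ← h]
    exact hXM
  obtain ⟨L, hL, hNX⟩ := (eq_top_or_exists_le_coatom _).resolve_left (normalizer_ne_top hG hX1 hXtop)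
  have hCL : centralizer ({z} : Set G) ≤ L :=
    (centralizer_singleton_le_centralizer_zpowers hwz).trans
      ((Subgroup.centralizer_le_normalizer _).trans hNX)
  have hAL : A ≤ L := hAz.trans hCL
  have hxL : x ∈ L := by
    apply hCL
    rw [mem_centralizer_iff]
    intro y hy
    rw [Set.mem_singleton_iff] at hy
    rw [hy]; exact hxz.symm
  have hLM : L ≠ M := by
    rintro rfl
    apply hnoA 1
    rw [cj_one']
    exact hAL
  obtain ⟨S, hXS, hS⟩ := exists_isSylowIn_ge (H := M ⊓ L) (le_inf hXM (le_normalizer.trans hNX)) hXq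
  obtain ⟨hncL, hNS, hSL⟩ := sigma_other_maximal hG hU hC hM hqM hX1 hLM hNX hS hXS
  have hSylL : IsSylowIn q S L := ⟨hS.le.trans inf_le_right, hS.isPGroup, hSL⟩
  by_cases hqL : q ∈ sigma L
  · by_cases hpL : p ∈ sigma L
    · obtain ⟨g, hg⟩ := exists_cj_le_of_normal_pcompl hG hL hpq hpL (fun hβ => hni hβ.2) hqL hSylL
        hNS hAL hAp
      exact hnoA g hg
    · have hpτ : p ∈ tau2 L :=
        ⟨hpp, hpL, Cfsg.Agent.Lib.Helper23_SigmaHall.pRankLE_of_not_mem_sigma hG hU hL hpp hpL,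
          not_pRankLE_one_of_elemAb hpp hAL hAe hA2⟩
      have hnil := (h17 L hL p hpτ A ⟨hAL, hAe, hA2⟩).1
      have hnc : ∀ g : G, M ≠ cj g L := by
        intro g hg
        apply hncL g⁻¹
        rw [hg, cj_inv_cj]
      exact Cfsg.Agent.Lib.Helper49_SigmaDisjoint.sigma_inter_sigma hG hL hM hnc hnil
        (sigma_hall hG hL) hqL hqM
  · have hqτ : q ∈ tau2 L := (mem_sigma_or_tau2 hG hL hXq hX1 hNX).resolve_left hqL
    obtain ⟨hLσM, hconj⟩ := cj_le_of_tau2_other hG hC h17 h18 hM hL hLM hqM hqτ hSylL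
      (hS.le.trans inf_le_left)
    have hpL : p ∉ sigma L := by
      intro hpL
      have h1 : x ∈ sigmaCore L ⊓ M :=
        ⟨le_sigmaCore_of_isPGroup' hG hL hpL (isPGroup_zpowers hxp) (zpowers_le.mpr hxL)
          (mem_zpowers x), hxM⟩
      rw [hLσM, mem_bot] at h1
      exact hx1 h1
    obtain ⟨g, hg⟩ := hconj A hAL (fun r hr hd => by
      rw [prime_eq_of_dvd_card_sq hpp hA2 hr hd]; exact hpL)
    exact hnoA g hg

/-- **Bender–Glauberman, Lemma 13.2** (statement S1427), from S1416 (first clause), S1417, S1418 (first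
clause) as hypotheses. -/
theorem bg13_2 (hG : IsMinSimpleOddOrder G) (hC : CentHyp G) (h17 : Hyp1417 G) (h18 : Hyp1418a G)
    (M : Subgroup G) (hM : IsCoatom M) (E : Subgroup G) (hE : IsComplIn E (sigmaCore M) M) (p : ℕ)
    [Fact p.Prime] (S : Sylow p E) (hS1 : (S : Subgroup E) ≠ ⊥) (hSc : IsCyclic (S : Subgroup E)) :
    ∀ x ∈ (S : Subgroup E).map E.subtype, x ≠ 1 →
      sigmaCore M ⊓ centralizer ({x} : Set G) =
        sigmaCore M ⊓ centralizer (((S : Subgroup E).map E.subtype : Subgroup G) : Set G) := by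
  have hpp : p.Prime := Fact.out
  have hU := Cfsg.Agent.Lib.Helper49_SigmaDisjoint.uniqHyp hG
  obtain ⟨P, hP⟩ : ∃ P : Subgroup G, P = (S : Subgroup E).map E.subtype := ⟨_, rfl⟩
  rw [← hP]
  have hPE : P ≤ E := hP ▸ Subgroup.map_subtype_le _
  have hPM : P ≤ M := hPE.trans hE.1
  have hPp : IsPGroup p P := hP ▸ S.2.map _
  have hPc : IsCyclic ↥P := by
    rw [hP]
    exact isCyclic_of_surjective
      ((S : Subgroup E).equivMapOfInjective E.subtype E.subtype_injective)
      ((S : Subgroup E).equivMapOfInjective E.subtype E.subtype_injective).surjective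
  have hcardP : Nat.card P = Nat.card (S : Subgroup E) :=
    hP ▸ Subgroup.card_map_of_injective E.subtype_injective
  have hP1 : P ≠ ⊥ := by
    rw [hP]
    intro h
    exact hS1 ((Subgroup.map_eq_bot_iff_of_injective _ E.subtype_injective).1 h)
  have hpP : p ∣ Nat.card P := dvd_card_of_isPGroup hPp hP1
  have hcardM : Nat.card E * Nat.card (sigmaCore M) = Nat.card M := card_mul_of_isComplIn hE
  have hσM : sigmaCore M ≤ M := Cfsg.Agent.Lib.Helper23_SigmaHall.sigmaCore_le M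
  have hpσ : p ∉ sigma M := by
    intro h
    apply (sigma_hall hG hM).2.2 p hpp h
    have h1 := relIndex_mul_card' hσM
    have h2 : (sigmaCore M).relIndex M = Nat.card E :=
      Nat.eq_of_mul_eq_mul_right Nat.card_pos (h1.trans hcardM.symm)
    rw [h2]
    exact hpP.trans (Subgroup.card_dvd_of_le hPE)
  have hpMσ : ¬ p ∣ Nat.card (sigmaCore M) :=
    fun hd => hpσ (mem_sigma_of_dvd_card_le_sigmaCore le_rfl hpp hd)
  have hPsyl : IsSylowIn p P M := by
    refine ⟨hPM, hPp, ?_⟩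
    intro hd
    have h1 := relIndex_mul_card' hPM
    have h2 : (S : Subgroup E).index * Nat.card (S : Subgroup E) = Nat.card E :=
      Subgroup.index_mul_card _
    have h3 : P.relIndex M = (S : Subgroup E).index * Nat.card (sigmaCore M) := by
      apply Nat.eq_of_mul_eq_mul_right (Nat.card_pos (α := P))
      rw [h1, ← hcardM, ← h2, hcardP]
      ring
    rw [h3] at hd
    rcases (Nat.Prime.dvd_mul hpp).1 hd with h | h
    · exact S.not_dvd_index h
    · exact hpMσ h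
  have hr1 : PRankLE p 1 ↥M :=
    Cfsg.Agent.Lib.Helper22_Uniq.pRankLE_of_sylow hPsyl (pRankLE_one_of_isCyclic p hPc)
  have hPcomm : ∀ a ∈ P, ∀ b ∈ P, a * b = b * a := by
    intro a ha b hb
    have hc : IsMulCommutative ↥P := IsCyclic.isMulCommutative
    have := hc.is_comm.comm (⟨a, ha⟩ : P) ⟨b, hb⟩
    exact congrArg Subtype.val this
  intro x hxP hx1
  apply le_antisymm
  · intro c hc
    have hcσ : c ∈ sigmaCore M := hc.1
    have hcx : c ∈ centralizer ({x} : Set G) := hc.2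
    refine ⟨hcσ, ?_⟩
    show c ∈ centralizer (P : Set G)
    rw [mem_centralizer_iff]
    intro s hs
    by_contra hne
    have hxs : x * s = s * x := hPcomm x hxP s hs
    have hxc : x * c = c * x := mem_centralizer_iff.mp hcx x rfl
    have hsp : ∃ k : ℕ, s ^ p ^ k = 1 := by
      obtain ⟨k, hk⟩ := hPp ⟨s, hs⟩
      exact ⟨k, congrArg Subtype.val hk⟩
    have hxp : ∃ k : ℕ, x ^ p ^ k = 1 := by
      obtain ⟨k, hk⟩ := hPp ⟨x, hxP⟩
      exact ⟨k, congrArg Subtype.val hk⟩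
    have hz1 : s * c * s⁻¹ * c⁻¹ ≠ 1 := by
      intro h
      apply hne
      calc s * c = (s * c * s⁻¹ * c⁻¹) * (c * s) := by group
        _ = c * s := by rw [h, one_mul]
    have hzσ : s * c * s⁻¹ * c⁻¹ ∈ sigmaCore M :=
      mul_mem (conj_mem_of_mem_normalizer (le_normalizer_sigmaCore' M (hPM hs)) hcσ) (inv_mem hcσ)
    have hxz : x * (s * c * s⁻¹ * c⁻¹) = (s * c * s⁻¹ * c⁻¹) * x := by
      have e1 : x * s⁻¹ = s⁻¹ * x := by
        calc x * s⁻¹ = s⁻¹ * (s * x) * s⁻¹ := by group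
          _ = s⁻¹ * (x * s) * s⁻¹ := by rw [hxs]
          _ = s⁻¹ * x := by group
      have e2 : x * c⁻¹ = c⁻¹ * x := by
        calc x * c⁻¹ = c⁻¹ * (c * x) * c⁻¹ := by group
          _ = c⁻¹ * (x * c) * c⁻¹ := by rw [hxc]
          _ = c⁻¹ * x := by group
      calc x * (s * c * s⁻¹ * c⁻¹) = (x * s) * c * s⁻¹ * c⁻¹ := by group
        _ = s * (x * c) * s⁻¹ * c⁻¹ := by rw [hxs]; group
        _ = s * c * (x * s⁻¹) * c⁻¹ := by rw [hxc]; group
        _ = s * c * s⁻¹ * (x * c⁻¹) := by rw [e1]; group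
        _ = (s * c * s⁻¹ * c⁻¹) * x := by rw [e2]; group
    have hXp : IsPGroup p (zpowers x) := isPGroup_zpowers hxp
    have hX1 : zpowers x ≠ ⊥ := by
      intro h
      exact hx1 (Subgroup.zpowers_eq_bot.mp h)
    have hXM : zpowers x ≤ M := zpowers_le.mpr (hPM hxP)
    have hXtop : zpowers x ≠ ⊤ := by
      intro h
      apply hM.1
      rw [eq_top_iff, ← h]
      exact hXM
    obtain ⟨H, hH, hNX⟩ :=
      (eq_top_or_exists_le_coatom _).resolve_left (normalizer_ne_top hG hX1 hXtop)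
    have hCH : centralizer ({x} : Set G) ≤ H :=
      (centralizer_singleton_le_centralizer_zpowers (mem_zpowers x)).trans
        ((Subgroup.centralizer_le_normalizer _).trans hNX)
    have hPH : P ≤ H := by
      intro t ht
      apply hCH
      rw [mem_centralizer_iff]
      intro y hy
      rw [Set.mem_singleton_iff] at hy
      rw [hy]
      exact hPcomm x hxP t ht
    have hsH : s ∈ H := hPH hs
    have hcH : c ∈ H := hCH hcx
    rcases mem_sigma_or_tau2 hG hH hXp hX1 hNX with hσ | hτ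
    · exact hne (commute_of_mem_sigma hG hM hH hσ hpσ (hPM hs) hsH hsp hcσ hcH)
    · have hnc : ∀ g : G, M ≠ cj g H := by
        intro g hg
        apply hτ.2.2.2
        apply pRankLE_of_cj g
        rw [← hg]
        exact hr1
      obtain ⟨A₀, hA₀H, hA₀e, hA₀2⟩ :=
        Cfsg.Agent.Lib.Helper49_Alpha3.exists_elemAb_sq hτ.2.2.1 hτ.2.2.2
      have hnilH := (h17 H hH p hτ A₀ ⟨hA₀H, hA₀e, hA₀2⟩).1
      have hsolvH := isSolvable_of_isCoatom hG hH
      have hPN : P ≤ normalizer ((sigmaCore M ⊓ H : Subgroup G) : Set G) := by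
        intro t ht
        exact inf_normalizer_le_normalizer_inf
          ⟨le_normalizer_sigmaCore' M (hPM ht), le_normalizer (hPH ht)⟩
      have hcopNP : (Nat.card ↥(sigmaCore M ⊓ H)).Coprime (Nat.card P) := by
        obtain ⟨j, hj⟩ := IsPGroup.iff_card.mp hPp
        rw [hj]
        apply Nat.Coprime.pow_right
        rw [Nat.coprime_comm, Nat.Prime.coprime_iff_not_dvd hpp]
        exact fun hd => hpMσ (hd.trans (Subgroup.card_dvd_of_le inf_le_left))
      have hdisj : (sigmaCore M ⊓ H) ⊓ P = ⊥ :=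
        (Subgroup.disjoint_of_coprime_natCard hcopNP).eq_bot
      have hTH : (sigmaCore M ⊓ H) ⊔ P ≤ H := sup_le inf_le_right hPH
      have hTσ : ∀ q : ℕ, q.Prime → q ∣ Nat.card ↥((sigmaCore M ⊓ H) ⊔ P) → q ∉ sigma H := by
        intro q hq hd hqH
        rcases prime_dvd_card_sup hPN hdisj hq hd with h1 | h1
        · have hqM : q ∈ sigma M := mem_sigma_of_dvd_card_le_sigmaCore inf_le_left hq h1
          exact Cfsg.Agent.Lib.Helper49_SigmaDisjoint.sigma_inter_sigma hG hH hM hnc hnilH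
            (sigma_hall hG hH) hqH hqM
        · have := primes_of_isPGroup hpp hPp q hq h1
          rw [Set.mem_singleton_iff] at this
          rw [this] at hqH
          exact hτ.2.1 hqH
      obtain ⟨EH, hEH, hTE⟩ := exists_compl_ge hsolvH (sigma_hall hG hH) hTH hTσ
      obtain ⟨A, hAE, hAe, hA2⟩ := exists_elemAb_le_compl hG hH hEH hτ
      have hEN : EH ≤ normalizer (A : Set G) := h18 H hH EH hEH p hτ A hAE hAe hA2
      have hPA : P ≤ normalizer (A : Set G) :=
        ((le_sup_right : P ≤ (sigmaCore M ⊓ H) ⊔ P).trans hTE).trans hEN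
      have hPC : P ≤ centralizer (A : Set G) :=
        le_centralizer_of_tau2 h17 hH hτ (hAE.trans hEH.1) hAe hA2 hPH hPp hPA
      have hcN : c ∈ normalizer (A : Set G) :=
        hEN (hTE ((le_sup_left : sigmaCore M ⊓ H ≤ (sigmaCore M ⊓ H) ⊔ P) ⟨hcσ, hcH⟩))
      have hzA : s * c * s⁻¹ * c⁻¹ ∈ centralizer (A : Set G) :=
        commutator_mem_centralizer (hPC hs) hcN
      have hAz : A ≤ centralizer ({s * c * s⁻¹ * c⁻¹} : Set G) := by
        intro a ha
        rw [mem_centralizer_iff]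
        intro y hy
        rw [Set.mem_singleton_iff] at hy
        rw [hy]
        exact (mem_centralizer_iff.mp hzA a ha).symm
      have hni : ¬ IsIdealPrime p G :=
        (Cfsg.Agent.S1408.result hG H hH p hτ.2.1 hτ.2.2.1 hτ.2.2.2).1
      exact final_contra hG hC h17 h18 hM hpσ hr1 hni (hPM hxP) hx1 hxp hzσ hz1 hxz hAe hA2 hAz
  · exact inf_le_inf_left _ (Subgroup.centralizer_le (Set.singleton_subset_iff.mpr hxP))

end Cfsg.Agent.Lib.Helper76_BG13c
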