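import Mathlib
import Cfsg.Agent.Lib.Helper23_BG13Hyp
import Cfsg.Agent.S1403
import Cfsg.Agent.S1415
import Cfsg.Agent.S1417
import Cfsg.Agent.S1418
import Cfsg.Agent.S1419
import Cfsg.Agent.S1427
import Cfsg.Agent.Lib.Helper34_BG16b
import Cfsg.Agent.Lib.Helper2_Coprime
import Cfsg.Agent.Lib.Helper24_CoprimeHall
import Cfsg.Agent.Lib.Helper84_RelSylow
import Cfsg.Agent.Lib.Helper97_BG1211f
import Cfsg.Agent.Lib.Helper47_BG1211a
import Cfsg.Agent.Lib.Helper52_BG12a
import Cfsg.Agent.Lib.Helper23_SigmaHall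
import Cfsg.Agent.Lib.Helper49_Sigma
import Cfsg.Agent.Lib.Helper73_BG126

/-!
# Bender-Glauberman 13.7, steps (e) and (f) (helper17)

`M` maximal, `E` a complement of `M_σ`, `q ∈ τ₁(M)`, `Y ≤ E` of order `q` with `C_{M_σ}(Y) ≠ 1`, `p ∈ τ₂(M)`,
`A ≤ E` elementary abelian of order `p ^ 2` with `X = C_A(Y)` of order `p`, the Sylow `p`-subgroups of `G`
nonabelian, and `h28 : H1428 G` (the frozen S1428 as a hypothesis).  Then

* `fix_eq` : `X = A ∩ C_G(M_σ)` (from S1419 + h28);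
* `hall_tau1_eq` : a Hall `τ₁(M)`-subgroup `E₁ ≥ Y` of `E` equals `Y` (the Frobenius group `[A,Y] E₁` acts on
  `M_σ`, `E₁` in a prime manner by S1427 + h28, so `|E₁|` is prime by `Helper34_BG16b.card_prime_of_frobenius`);
* `le_centralizer_fix` : `M ≤ C_G(X)` (for each prime `r` dividing `|E|` a subgroup of `E ∩ C_G(X)` of index
  prime to `r`: `Y` for `τ₁`, a Hall `τ₃`-subgroup `≤ E' ≤ C(X)` for `τ₃`, an abelian Sylow `p`-subgroup for `τ₂ = {p}`).
-/

set_option autoImplicit false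

namespace Cfsg.Agent.Lib.Helper17_BG137ef

open Subgroup Cfsg Cfsg.Agent.Lib.Helper23_BG13Hyp Cfsg.Agent.Lib.Helper84_RelSylow

section Generic

variable {G : Type*} [Group G]

/-- if no prime divides `|E : E ∩ N|` then `E ≤ N` -/
theorem le_of_forall_prime_not_dvd_relIndex {N E : Subgroup G}
    (h : ∀ r : ℕ, r.Prime → ¬ r ∣ N.relIndex E) : E ≤ N := by
  rw [← Subgroup.relIndex_eq_one]
  exact Nat.eq_one_iff_not_exists_prime_dvd.mpr h

/-- a subgroup `H ≤ N` of `E` of index prime to `r` witnesses `r ∤ |E : E ∩ N|` -/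
theorem not_dvd_relIndex_of_le {N E H : Subgroup G} {r : ℕ} (hHN : H ≤ N)
    (h : ¬ r ∣ H.relIndex E) : ¬ r ∣ N.relIndex E :=
  fun hd => h (hd.trans (Subgroup.relIndex_dvd_of_le_left E hHN))

theorem le_centralizer_symm {H K : Subgroup G} (h : H ≤ centralizer (K : Set G)) :
    K ≤ centralizer (H : Set G) := Subgroup.le_centralizer_iff.mp h

/-- an element normalizing `A` and `Y` normalizes `⁅A, Y⁆` -/
theorem mem_normalizer_commutator {A Y : Subgroup G} {g : G} (hA : g ∈ normalizer (A : Set G))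
    (hY : g ∈ normalizer (Y : Set G)) : g ∈ normalizer ((⁅A, Y⁆ : Subgroup G) : Set G) := by
  have h1 : ∀ (B : Subgroup G), g ∈ normalizer (B : Set G) →
      B.map (MulAut.conj g).toMonoidHom = B := by
    intro B hB
    ext x
    constructor
    · rintro ⟨b, hb, rfl⟩
      exact (Subgroup.mem_normalizer_iff.mp hB b).mp hb
    · intro hx
      refine ⟨g⁻¹ * x * g, ?_, ?_⟩
      · have := (Subgroup.mem_normalizer_iff.mp (Subgroup.inv_mem _ hB) x).mp hx
        simpa using this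
      · simp [mul_assoc]
  have h2 : (⁅A, Y⁆).map (MulAut.conj g).toMonoidHom = ⁅A, Y⁆ := by
    rw [Subgroup.map_commutator, h1 A hA, h1 Y hY]
  rw [Subgroup.mem_normalizer_iff]
  intro x
  constructor
  · intro hx
    rw [← h2]
    exact ⟨x, hx, rfl⟩
  · intro hx
    rw [← h2] at hx
    obtain ⟨y, hy, hxy⟩ := hx
    have : y = x := by
      have h3 : g * y * g⁻¹ = g * x * g⁻¹ := hxy
      have h4 := congrArg (fun t => g⁻¹ * t * g) h3
      simpa [mul_assoc] using h4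
    rw [← this]; exact hy

/-- a nonidentity element has a power of prime order -/
theorem exists_pow_prime_order [Finite G] {k : G} (hk : k ≠ 1) :
    ∃ n : ℕ, (orderOf (k ^ n)).Prime := by
  have h0 : orderOf k ≠ 0 := (orderOf_pos k).ne'
  have h1 : orderOf k ≠ 1 := fun h => hk (orderOf_eq_one_iff.mp h)
  refine ⟨orderOf k / (orderOf k).minFac, ?_⟩
  rw [orderOf_pow_orderOf_div h0 (Nat.minFac_dvd _)]
  exact Nat.minFac_prime h1

theorem centralizer_singleton_le {k : G} {R : Subgroup G} (hR : R ≤ zpowers k) :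
    centralizer ({k} : Set G) ≤ centralizer (R : Set G) := by
  intro x hx
  rw [Subgroup.mem_centralizer_iff] at hx ⊢
  intro y hy
  obtain ⟨n, rfl⟩ := Subgroup.mem_zpowers_iff.mp (hR hy)
  have h1 : Commute k x := hx k rfl
  exact (h1.zpow_left n).eq

theorem centralizer_zpowers_eq (k : G) :
    centralizer ((zpowers k : Subgroup G) : Set G) = centralizer ({k} : Set G) :=
  le_antisymm (Subgroup.centralizer_le (by
    intro x hx
    rw [Set.mem_singleton_iff] at hx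
    rw [hx]
    exact Subgroup.mem_zpowers k)) (centralizer_singleton_le le_rfl)

/-- a subgroup of a group of prime order is trivial or everything -/
theorem eq_bot_or_eq_of_le_prime [Finite G] {H L : Subgroup G} (hHL : H ≤ L)
    (hL : (Nat.card L).Prime) : H = ⊥ ∨ H = L := by
  have h1 : Nat.card H ∣ Nat.card L := Subgroup.card_dvd_of_le hHL
  rcases (Nat.dvd_prime hL).mp h1 with h | h
  · left; exact Subgroup.card_eq_one.mp h
  · right; exact Subgroup.eq_of_le_of_card_ge hHL h.ge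

end Generic

section Main

universe u
variable {G : Type u} [Group G] [Finite G]

theorem uniqHyp (hG : IsMinSimpleOddOrder G) : Cfsg.Agent.Lib.Helper49_Sigma.UniqHyp G :=
  fun K hK h1 h3 => Cfsg.Agent.S1403.result hG K hK h1 h3

theorem hyp1417 (hG : IsMinSimpleOddOrder G) : Cfsg.Agent.Lib.Helper73_BG126.Hyp1417Full G :=
  fun M hM q _ hq A hA => Cfsg.Agent.S1417.result hG M hM q hq A hA

/-- `|E|` is coprime to `|M_σ|` -/
theorem coprime_card_compl (hG : IsMinSimpleOddOrder G) {M E : Subgroup G} (hM : IsCoatom M)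
    (hE : IsComplIn E (sigmaCore M) M) : (Nat.card E).Coprime (Nat.card (sigmaCore M)) := by
  apply Nat.coprime_of_dvd
  intro r hr hrE hrS
  have hσ := Cfsg.Agent.Lib.Helper23_SigmaHall.prime_mem_sigma_of_dvd_card_sigmaCore M hr hrS
  apply Cfsg.Agent.Lib.Helper23_SigmaHall.not_dvd_index_sigma hG (uniqHyp hG) hM hr hσ
  rw [← Cfsg.Agent.Lib.Helper23_SigmaHall.relIndex_sigmaCore,
    Cfsg.Agent.Lib.Helper97_BG1211f.relIndex_sigmaCore_eq hE]
  exact hrE

omit [Finite G] in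
theorem solvable_of_le_coatom (hG : IsMinSimpleOddOrder G) {M H : Subgroup G} (hM : IsCoatom M)
    (hHM : H ≤ M) : Group.IsSolvable ↥H := by
  apply hG.2.2.2 H
  intro h
  apply hM.1
  rw [eq_top_iff, ← h]
  exact hHM

variable {M E Y A : Subgroup G} {p q : ℕ}

/-- Step (d): `C_A(Y) = A ∩ C_G(M_σ)`. -/
theorem fix_eq (hG : IsMinSimpleOddOrder G) (h28 : H1428 G)
    (hM : IsCoatom M) (hE : IsComplIn E (sigmaCore M) M)
    (hq : q ∈ tau1 M) (hYE : Y ≤ E) (hY : Nat.card Y = q)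
    (hD : sigmaCore M ⊓ centralizer (Y : Set G) ≠ ⊥)
    [Fact p.Prime] (hp : p ∈ tau2 M) (hAE : A ≤ E) (hAe : IsElementaryAbelian p A)
    (hA2 : Nat.card A = p ^ 2)
    (hX : Nat.card ↥(A ⊓ centralizer (Y : Set G)) = p)
    (hS : ∀ S : Sylow p G, ¬ IsMulCommutative (S : Subgroup G)) :
    A ⊓ centralizer (Y : Set G) = A ⊓ centralizer ((sigmaCore M : Subgroup G) : Set G) := by
  have hpp : p.Prime := Fact.out
  have hXE : A ⊓ centralizer (Y : Set G) ≤ E ⊓ centralizer (Y : Set G) := inf_le_inf_right _ hAE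
  have h1 := h28 M hM E hE q hq Y hYE hY (A ⊓ centralizer (Y : Set G)) hXE (by rw [hX]; exact hpp)
  obtain ⟨-, -, h3⟩ := Cfsg.Agent.S1419.result hG M hM E hE p hp hS A ⟨hAE, hAe, hA2⟩
  by_contra hne
  have h4 := (h3 _ (inf_le_left.trans hAE) hX hne).1
  rw [h4] at h1
  exact hD (le_bot_iff.mp h1)

/-- In a commutative Hall `τ₁(M)`-subgroup `E₁ ≥ Y` of `E`, every subgroup of prime order has the same
centralizer in `M_σ` as `Y`. -/
theorem cent_eq_of_prime (h28 : H1428 G) (hM : IsCoatom M) (hE : IsComplIn E (sigmaCore M) M)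
    (hq : q ∈ tau1 M) (hY : Nat.card Y = q) {E₁ R : Subgroup G}
    (hE₁ : IsPiHallOf (tau1 M) E₁ E) (hYE₁ : Y ≤ E₁)
    (hc : ∀ a ∈ E₁, ∀ b ∈ E₁, a * b = b * a) (hR : R ≤ E₁) (hRp : (Nat.card R).Prime) :
    sigmaCore M ⊓ centralizer (R : Set G) = sigmaCore M ⊓ centralizer (Y : Set G) := by
  have hqp : q.Prime := hq.1
  have hRY : R ≤ centralizer (Y : Set G) := fun r hr =>
    Subgroup.mem_centralizer_iff.mpr (fun y hy => hc y (hYE₁ hy) r (hR hr))
  have hYR : Y ≤ centralizer (R : Set G) := le_centralizer_symm hRY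
  have hr1 : Nat.card R ∈ tau1 M := hE₁.2.1 _ hRp (Subgroup.card_dvd_of_le hR)
  apply le_antisymm
  · exact h28 M hM E hE (Nat.card R) hr1 R (hR.trans hE₁.1) rfl Y
      (le_inf (hYE₁.trans hE₁.1) hYR) (by rw [hY]; exact hqp)
  · exact h28 M hM E hE q hq Y (hYE₁.trans hE₁.1) hY R (le_inf (hR.trans hE₁.1) hRY) hRp

/-- Every nonidentity element of `E₁` acts fixed-point-freely on a regular line `L` of `E`. -/
theorem fpf_line (h28 : H1428 G) (hM : IsCoatom M) (hE : IsComplIn E (sigmaCore M) M)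
    (hq : q ∈ tau1 M) (hY : Nat.card Y = q)
    (hD : sigmaCore M ⊓ centralizer (Y : Set G) ≠ ⊥) {E₁ L : Subgroup G}
    (hE₁ : IsPiHallOf (tau1 M) E₁ E) (hYE₁ : Y ≤ E₁)
    (hc : ∀ a ∈ E₁, ∀ b ∈ E₁, a * b = b * a) (hLE : L ≤ E) (hLp : (Nat.card L).Prime)
    (hLreg : sigmaCore M ⊓ centralizer (L : Set G) = ⊥) {k : G} (hk : k ∈ E₁) (hk1 : k ≠ 1) :
    L ⊓ centralizer ({k} : Set G) = ⊥ := by
  rcases eq_bot_or_eq_of_le_prime (inf_le_left : L ⊓ centralizer ({k} : Set G) ≤ L) hLp with h | h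
  · exact h
  · exfalso
    have hLk : L ≤ centralizer ({k} : Set G) := by
      rw [← h]; exact inf_le_right
    obtain ⟨n, hn⟩ := exists_pow_prime_order hk1
    have hRk : zpowers (k ^ n) ≤ zpowers k :=
      Subgroup.zpowers_le.mpr (Subgroup.pow_mem _ (Subgroup.mem_zpowers k) n)
    have hRE₁ : zpowers (k ^ n) ≤ E₁ := hRk.trans (Subgroup.zpowers_le.mpr hk)
    have hRp : (Nat.card (zpowers (k ^ n))).Prime := by rw [Nat.card_zpowers]; exact hn
    have hLR : L ≤ centralizer ((zpowers (k ^ n) : Subgroup G) : Set G) :=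
      hLk.trans (centralizer_singleton_le hRk)
    have hr1 : Nat.card (zpowers (k ^ n)) ∈ tau1 M :=
      hE₁.2.1 _ hRp (Subgroup.card_dvd_of_le hRE₁)
    have h1 := h28 M hM E hE (Nat.card (zpowers (k ^ n))) hr1 (zpowers (k ^ n))
      (hRE₁.trans hE₁.1) rfl L (le_inf hLE hLR) hLp
    rw [hLreg, cent_eq_of_prime h28 hM hE hq hY hE₁ hYE₁ hc hRE₁ hRp] at h1
    exact hD (le_bot_iff.mp h1)

/-- `C_{M_σ}(Y)` centralizes the cyclic Hall `τ₁(M)`-subgroup `E₁ ≥ Y` of `E`. -/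
theorem cent_le_hall (hG : IsMinSimpleOddOrder G) (h28 : H1428 G) (hM : IsCoatom M)
    (hE : IsComplIn E (sigmaCore M) M)
    (hq : q ∈ tau1 M) (hY : Nat.card Y = q) {E₁ : Subgroup G}
    (hE₁ : IsPiHallOf (tau1 M) E₁ E) (hYE₁ : Y ≤ E₁) (hcyc : IsCyclic ↥E₁)
    (hc : ∀ a ∈ E₁, ∀ b ∈ E₁, a * b = b * a) :
    sigmaCore M ⊓ centralizer (Y : Set G) ≤ centralizer (E₁ : Set G) := by
  apply le_centralizer_symm
  apply le_of_forall_prime_not_dvd_relIndex
  intro r hr
  by_cases hdvd : r ∣ Nat.card E₁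
  · have : Fact r.Prime := ⟨hr⟩
    have hrτ : r ∈ tau1 M := hE₁.2.1 r hr hdvd
    obtain ⟨S₀, -, hS₀⟩ := exists_isSylowIn_ge (p := r) (H := E₁) (K := ⊥) bot_le IsPGroup.of_bot
    refine not_dvd_relIndex_of_le (H := S₀) ?_ hS₀.not_dvd
    -- `S₀` is nontrivial
    have hS₀1 : S₀ ≠ ⊥ := by
      intro h
      apply hS₀.not_dvd
      rw [h, Subgroup.relIndex_bot_left]
      exact hdvd
    -- `S₀` is a Sylow subgroup of `E`
    have hS₀E : IsSylowIn r S₀ E := by
      refine ⟨hS₀.le.trans hE₁.1, hS₀.isPGroup, ?_⟩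
      rw [← Subgroup.relIndex_mul_relIndex S₀ E₁ E hS₀.le hE₁.1]
      intro hd
      rcases (Nat.Prime.dvd_mul hr).mp hd with h | h
      · exact hS₀.not_dvd h
      · exact hE₁.2.2 r hr hrτ h
    have hmap : ((hS₀E.toSylow : Sylow r ↥E) : Subgroup ↥E).map E.subtype = S₀ := by
      rw [hS₀E.coe_toSylow, Subgroup.map_subgroupOf_eq_of_le hS₀E.le]
    have hS1 : ((hS₀E.toSylow : Sylow r ↥E) : Subgroup ↥E) ≠ ⊥ := by
      intro h
      apply hS₀1
      rw [← hmap, h, Subgroup.map_bot]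
    have hSc : IsCyclic ↥((hS₀E.toSylow : Sylow r ↥E) : Subgroup ↥E) := by
      rw [hS₀E.coe_toSylow]
      have h1 : IsCyclic ↥(S₀.subgroupOf E₁) := inferInstance
      have e1 : ↥(S₀.subgroupOf E₁) ≃* ↥S₀ := Subgroup.subgroupOfEquivOfLe hS₀.le
      have e2 : ↥(S₀.subgroupOf E) ≃* ↥S₀ := Subgroup.subgroupOfEquivOfLe hS₀E.le
      exact isCyclic_of_surjective (e1.trans e2.symm) (e1.trans e2.symm).surjective
    have h27 := Cfsg.Agent.S1427.result hG M hM E hE r hS₀E.toSylow hS1 hSc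
    rw [hmap] at h27
    -- an element of prime order of `S₀`
    obtain ⟨⟨x, hx⟩, hx1⟩ := (Subgroup.ne_bot_iff_exists_ne_one).mp hS₀1
    have hx1' : x ≠ 1 := fun h => hx1 (Subtype.ext h)
    obtain ⟨n, hn⟩ := exists_pow_prime_order hx1'
    have hx'S : x ^ n ∈ S₀ := Subgroup.pow_mem _ hx n
    have hx'1 : x ^ n ≠ 1 := by
      intro h
      rw [h, orderOf_one] at hn
      exact Nat.not_prime_one hn
    have hRE₁ : zpowers (x ^ n) ≤ E₁ := Subgroup.zpowers_le.mpr (hS₀.le hx'S)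
    have hRp : (Nat.card (zpowers (x ^ n))).Prime := by rw [Nat.card_zpowers]; exact hn
    have h5 := cent_eq_of_prime h28 hM hE hq hY hE₁ hYE₁ hc hRE₁ hRp
    rw [centralizer_zpowers_eq, h27 (x ^ n) hx'S hx'1] at h5
    apply le_centralizer_symm
    rw [← h5]
    exact inf_le_right
  · intro h
    exact hdvd (h.trans (Subgroup.relIndex_dvd_card _ _))

/-- Step (e): a Hall `τ₁(M)`-subgroup of `E` containing `Y` is `Y`. -/
theorem hall_tau1_eq (hG : IsMinSimpleOddOrder G) (h28 : H1428 G)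
    (hM : IsCoatom M) (hE : IsComplIn E (sigmaCore M) M)
    (hq : q ∈ tau1 M) (hYE : Y ≤ E) (hY : Nat.card Y = q)
    (hD : sigmaCore M ⊓ centralizer (Y : Set G) ≠ ⊥)
    [Fact p.Prime] (hp : p ∈ tau2 M) (hAE : A ≤ E) (hAe : IsElementaryAbelian p A)
    (hA2 : Nat.card A = p ^ 2)
    (hX : Nat.card ↥(A ⊓ centralizer (Y : Set G)) = p)
    (hS : ∀ S : Sylow p G, ¬ IsMulCommutative (S : Subgroup G))
    {E₁ : Subgroup G} (hE₁ : IsPiHallOf (tau1 M) E₁ E) (hYE₁ : Y ≤ E₁) : E₁ = Y := by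
  have hpp : p.Prime := Fact.out
  have hqp : q.Prime := hq.1
  have hcyc : IsCyclic ↥E₁ := (Cfsg.Agent.S1415.result hG M hM E hE).2.1 E₁ hE₁
  have hc : ∀ a ∈ E₁, ∀ b ∈ E₁, a * b = b * a := by
    intro a ha b hb
    have := (IsCyclic.commGroup (α := ↥E₁)).mul_comm ⟨a, ha⟩ ⟨b, hb⟩
    exact congrArg Subtype.val this
  obtain ⟨⟨hEA, -⟩, -, -⟩ := Cfsg.Agent.S1418.result hG M hM E hE p hp A ⟨hAE, hAe, hA2⟩
  obtain ⟨-, -, h3⟩ := Cfsg.Agent.S1419.result hG M hM E hE p hp hS A ⟨hAE, hAe, hA2⟩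
  have hfix := fix_eq hG h28 hM hE hq hYE hY hD hp hAE hAe hA2 hX hS
  have hpq : p ≠ q := by
    rintro rfl
    exact hp.2.2.2 hq.2.2.2.2
  -- the line `L₀ = [A, Y]`
  have : IsMulCommutative ↥A := hAe.1
  have hYA : Y ≤ normalizer (A : Set G) := hYE.trans hEA
  have hcop : (Nat.card Y).Coprime (Nat.card A) := by
    rw [hY, hA2]
    exact Nat.Coprime.pow_right 2 ((Nat.coprime_primes hqp hpp).mpr (Ne.symm hpq))
  have hL1 := Cfsg.Agent.Lib.Helper2_Coprime.commutator_inf_centralizer_eq_bot A Y hYA hcop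
  have hL2 := Cfsg.Agent.Lib.Helper2_Coprime.commutator_sup_centralizer_eq A Y hYA hcop
  have hLA := Cfsg.Agent.Lib.Helper2_Coprime.commutator_le_of_le_normalizer A Y hYA
  -- `|L₀| = p`
  have hLcard : Nat.card ↥(⁅A, Y⁆ : Subgroup G) = p := by
    have hn : A ⊓ centralizer (Y : Set G) ≤ normalizer ((⁅A, Y⁆ : Subgroup G) : Set G) := by
      intro a ha
      rw [Subgroup.mem_normalizer_iff]
      have hcm : ∀ l ∈ A, a * l * a⁻¹ = l := by
        intro l hl
        have := hAe.1.is_comm.comm ⟨a, ha.1⟩ ⟨l, hl⟩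
        have h2 : a * l = l * a := congrArg Subtype.val this
        rw [h2, mul_inv_cancel_right]
      intro l
      constructor
      · intro hl
        rw [hcm l (hLA hl)]; exact hl
      · intro hl
        have hlA : l ∈ A := by
          have h6 : a⁻¹ * (a * l * a⁻¹) * a ∈ A :=
            A.mul_mem (A.mul_mem (A.inv_mem ha.1) (hLA hl)) ha.1
          have h7 : a⁻¹ * (a * l * a⁻¹) * a = l := by group
          rwa [h7] at h6
        rw [hcm l hlA] at hl; exact hl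
    have h1 := Cfsg.Agent.Lib.Helper24_CoprimeHall.card_sup_of_disjoint'
      (A ⊓ centralizer (Y : Set G)) (⁅A, Y⁆ : Subgroup G) hn hL1
    rw [hL2, hA2, hX, pow_two] at h1
    exact (Nat.eq_of_mul_eq_mul_right hpp.pos h1).symm
  -- `L₀ ≠ X`
  have hLX : (⁅A, Y⁆ : Subgroup G) ≠ A ⊓ centralizer (Y : Set G) := by
    intro h
    have h2 : (⁅A, Y⁆ : Subgroup G) ≤ ⁅A, Y⁆ ⊓ (A ⊓ centralizer (Y : Set G)) := le_inf le_rfl h.le
    rw [hL1] at h2
    rw [le_bot_iff.mp h2, Subgroup.card_bot] at hLcard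
    exact hpp.one_lt.ne hLcard
  have hLE : (⁅A, Y⁆ : Subgroup G) ≤ E := hLA.trans hAE
  have hLreg : sigmaCore M ⊓ centralizer ((⁅A, Y⁆ : Subgroup G) : Set G) = ⊥ :=
    (h3 _ hLE hLcard (by rw [← hfix]; exact hLX)).1
  -- `E₁` normalizes `L₀`
  have hE₁L : E₁ ≤ normalizer ((⁅A, Y⁆ : Subgroup G) : Set G) := by
    intro e he
    apply mem_normalizer_commutator (hEA (hE₁.1 he))
    rw [Subgroup.mem_normalizer_iff]
    intro y
    constructor
    · intro hy
      have h5 : e * y * e⁻¹ = y := by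
        rw [hc e he y (hYE₁ hy), mul_inv_cancel_right]
      rw [h5]; exact hy
    · intro hy
      have h5 := hc e⁻¹ (E₁.inv_mem he) _ (hYE₁ hy)
      have h6 : e⁻¹ * (e * y * e⁻¹) = y * e⁻¹ := by group
      rw [h6] at h5
      have h7 : y = e * y * e⁻¹ := mul_right_cancel h5
      rw [h7]; exact hy
  have hE₁1 : E₁ ≠ ⊥ := by
    intro h
    rw [h] at hYE₁
    rw [le_bot_iff.mp hYE₁, Subgroup.card_bot] at hY
    exact hqp.one_lt.ne hY
  have hMn : M ≤ normalizer ((sigmaCore M : Subgroup G) : Set G) :=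
    Cfsg.Agent.Lib.Helper52_BG12a.le_normalizer_sigmaCore M
  have hprime : (Nat.card E₁).Prime := by
    refine Cfsg.Agent.Lib.Helper34_BG16b.card_prime_of_frobenius (U := (⁅A, Y⁆ : Subgroup G))
      (K := E₁) (H := sigmaCore M) hE₁1 hE₁L
      (fun k hk hk1 => fpf_line h28 hM hE hq hY hD hE₁ hYE₁ hc hLE (by rw [hLcard]; exact hpp)
        hLreg hk hk1)
      ((sup_le hLE hE₁.1).trans (hE.1.trans hMn))
      (solvable_of_le_coatom hG hM hE.2.1)
      (Nat.Coprime.coprime_dvd_left (Subgroup.card_dvd_of_le (sup_le hLE hE₁.1))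
        (coprime_card_compl hG hM hE))
      (fun k hk hk1 => ?_) ?_
    · apply le_antisymm
      · obtain ⟨n, hn⟩ := exists_pow_prime_order hk1
        have hRk : zpowers (k ^ n) ≤ zpowers k :=
          Subgroup.zpowers_le.mpr (Subgroup.pow_mem _ (Subgroup.mem_zpowers k) n)
        have hRE₁ : zpowers (k ^ n) ≤ E₁ := hRk.trans (Subgroup.zpowers_le.mpr hk)
        have hRp : (Nat.card (zpowers (k ^ n))).Prime := by rw [Nat.card_zpowers]; exact hn
        have h5 := cent_eq_of_prime h28 hM hE hq hY hE₁ hYE₁ hc hRE₁ hRp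
        refine le_inf inf_le_left ?_
        calc sigmaCore M ⊓ centralizer ({k} : Set G)
            ≤ sigmaCore M ⊓ centralizer ((zpowers (k ^ n) : Subgroup G) : Set G) :=
              inf_le_inf_left _ (centralizer_singleton_le hRk)
          _ = sigmaCore M ⊓ centralizer (Y : Set G) := h5
          _ ≤ centralizer (E₁ : Set G) := cent_le_hall hG h28 hM hE hq hY hE₁ hYE₁ hcyc hc
      · apply inf_le_inf_left
        apply Subgroup.centralizer_le
        intro x hx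
        rw [Set.mem_singleton_iff] at hx
        rw [hx]; exact hk
    · intro h
      apply hD
      have h8 : sigmaCore M ⊓ centralizer ((⁅A, Y⁆ : Subgroup G) : Set G) = sigmaCore M :=
        inf_eq_left.mpr h
      rw [hLreg] at h8
      rw [← h8]
      exact bot_inf_eq _
  -- `Y ≤ E₁`, `|E₁|` prime
  refine (Subgroup.eq_of_le_of_card_ge hYE₁ ?_).symm
  have h1 : Nat.card Y ∣ Nat.card E₁ := Subgroup.card_dvd_of_le hYE₁
  rw [hY] at h1 ⊢
  rcases (Nat.dvd_prime hprime).mp h1 with h | h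
  · exact absurd h hqp.one_lt.ne'
  · exact h.ge

/-- Steps (e), (f) of B-G 13.7: `M ≤ C_G(C_A(Y))`. -/
theorem le_centralizer_fix (hG : IsMinSimpleOddOrder G) (h28 : H1428 G)
    (hM : IsCoatom M) (hE : IsComplIn E (sigmaCore M) M)
    (hq : q ∈ tau1 M) (hYE : Y ≤ E) (hY : Nat.card Y = q)
    (hD : sigmaCore M ⊓ centralizer (Y : Set G) ≠ ⊥)
    [Fact p.Prime] (hp : p ∈ tau2 M) (hAE : A ≤ E) (hAe : IsElementaryAbelian p A)
    (hA2 : Nat.card A = p ^ 2)
    (hX : Nat.card ↥(A ⊓ centralizer (Y : Set G)) = p)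
    (hS : ∀ S : Sylow p G, ¬ IsMulCommutative (S : Subgroup G)) :
    M ≤ centralizer ((A ⊓ centralizer (Y : Set G) : Subgroup G) : Set G) := by
  have hpp : p.Prime := Fact.out
  have hqp : q.Prime := hq.1
  have hfix := fix_eq hG h28 hM hE hq hYE hY hD hp hAE hAe hA2 hX hS
  obtain ⟨⟨hEA, -⟩, -, -⟩ := Cfsg.Agent.S1418.result hG M hM E hE p hp A ⟨hAE, hAe, hA2⟩
  obtain ⟨hτ2, -, -⟩ := Cfsg.Agent.S1419.result hG M hM E hE p hp hS A ⟨hAE, hAe, hA2⟩
  have hsolvE : Group.IsSolvable ↥E := solvable_of_le_coatom hG hM hE.1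
  have hMn : M ≤ normalizer ((sigmaCore M : Subgroup G) : Set G) :=
    Cfsg.Agent.Lib.Helper52_BG12a.le_normalizer_sigmaCore M
  -- `M_σ ≤ C(X)`
  have hMσX : sigmaCore M ≤ centralizer ((A ⊓ centralizer (Y : Set G) : Subgroup G) : Set G) := by
    apply le_centralizer_symm
    rw [hfix]; exact inf_le_right
  -- `E ≤ N(X)`
  have hEX : E ≤ normalizer ((A ⊓ centralizer (Y : Set G) : Subgroup G) : Set G) := by
    intro e he
    rw [hfix]
    have h1 : e ∈ normalizer (A : Set G) := hEA he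
    have h2 : e ∈ normalizer
        ((centralizer ((sigmaCore M : Subgroup G) : Set G) : Subgroup G) : Set G) :=
      Cfsg.Agent.Lib.Helper24_CoprimeHall.normalizer_le_normalizer_centralizer _ (hMn (hE.1 he))
    rw [Subgroup.mem_normalizer_iff] at h1 h2 ⊢
    intro x
    rw [Subgroup.mem_inf, Subgroup.mem_inf, ← h1 x, ← h2 x]
  have hXcyc : IsCyclic ↥(A ⊓ centralizer (Y : Set G) : Subgroup G) :=
    isCyclic_of_prime_card (p := p) hX
  -- `[E, E] ≤ C(X)`
  have hE'X : ⁅E, E⁆ ≤ centralizer ((A ⊓ centralizer (Y : Set G) : Subgroup G) : Set G) :=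
    (Subgroup.commutator_mono hEX hEX).trans
      (Cfsg.Agent.Lib.Helper47_BG1211a.commutator_normalizer_le_centralizer_of_isCyclic _)
  -- the Hall `τ₁`-subgroup is `Y`
  obtain ⟨E₁, hE₁', hYE₁⟩ := Cfsg.Agent.Lib.Helper24_CoprimeHall.exists_piHall_ge (π := tau1 M)
    hsolvE hYE (by
      intro r hr hrY
      rw [hY] at hrY
      rw [(Nat.prime_dvd_prime_iff_eq hr hqp).mp hrY]
      exact hq)
  have hE₁ : IsPiHallOf (tau1 M) E₁ E :=
    (Cfsg.Agent.Lib.Helper24_CoprimeHall.isPiHallOf_iff _ _ _).mpr hE₁'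
  have hE₁Y : E₁ = Y := hall_tau1_eq hG h28 hM hE hq hYE hY hD hp hAE hAe hA2 hX hS hE₁ hYE₁
  -- `E ≤ C(X)`
  have hEC : E ≤ centralizer ((A ⊓ centralizer (Y : Set G) : Subgroup G) : Set G) := by
    apply le_of_forall_prime_not_dvd_relIndex
    intro r hr
    by_cases hdvd : r ∣ Nat.card E
    · rcases Cfsg.Agent.Lib.Helper97_BG1211f.mem_tau_of_dvd_card hG (uniqHyp hG) hM hE hr hdvd
        with (h | h) | h
      · refine not_dvd_relIndex_of_le (H := Y) ?_ ?_
        · exact le_centralizer_symm inf_le_right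
        · rw [← hE₁Y]; exact hE₁.2.2 r hr h
      · obtain ⟨E₃, hE₃'⟩ := Cfsg.Agent.Lib.Helper24_CoprimeHall.exists_piHall (tau3 M) E hsolvE
        have hE₃ : IsPiHallOf (tau3 M) E₃ E :=
          (Cfsg.Agent.Lib.Helper24_CoprimeHall.isPiHallOf_iff _ _ _).mpr hE₃'
        have h15 := ((Cfsg.Agent.S1415.result hG M hM E hE).2.2 E₃ hE₃).2.1
        exact not_dvd_relIndex_of_le (H := E₃) (h15.trans hE'X) (hE₃.2.2 r hr h)
      · rw [hτ2, Set.mem_singleton_iff] at h
        rw [h]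
        obtain ⟨P, hAP, hP⟩ := exists_isSylowIn_ge (p := p) (H := E) hAE (IsPGroup.of_card hA2)
        have hPM := Cfsg.Agent.Lib.Helper97_BG1211f.isSylowIn_of_compl hE hp hP
        obtain ⟨hPc, -⟩ := Cfsg.Agent.Lib.Helper97_BG1211f.sylow_facts (hyp1417 hG) hM hp
          (hAE.trans hE.1) hAe hA2 hPM hAP
        refine not_dvd_relIndex_of_le (H := P) ?_ hP.not_dvd
        intro x hx
        rw [Subgroup.mem_centralizer_iff]
        intro y hy
        exact hPc y (hAP hy.1) x hx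
    · intro h
      exact hdvd (h.trans (Subgroup.relIndex_dvd_card _ _))
  -- `M = E M_σ`
  intro m hm
  obtain ⟨a, ha, b, hb, rfl⟩ := hE.2.2.2 m hm
  exact Subgroup.mul_mem _ (hEC ha) (hMσX hb)

end Main

end Cfsg.Agent.Lib.Helper17_BG137ef
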