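import Mathlib
import Cfsg.Prelude.Def_Solvable
import Cfsg.Prelude.Def_Blocks
import Cfsg.Agent.S4145
import Cfsg.Agent.S0950
import Cfsg.Agent.Lib.Helper1_Cores

/-!
# Group theory for the Brauer–Suzuki theorem with quaternion Sylow subgroups of order 8 (helper17)
-/

set_option autoImplicit false

namespace Cfsg.Agent.Lib.Helper17_BSQ8Group

open QuaternionGroup

/-! ### Facts about the quaternion group of order `8` -/

theorem q_sq_one : ∀ x : QuaternionGroup 2, x ^ 2 = 1 → x = 1 ∨ x = a 2 := by decide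
theorem q_cases : ∀ x : QuaternionGroup 2, x = 1 ∨ x = a 2 ∨ x ^ 2 = a 2 := by decide
theorem q_comm : ∀ x y : QuaternionGroup 2, x ^ 2 = a 2 → x * y = y * x →
    ∃ k : Fin 4, y = x ^ (k : ℕ) := by decide
theorem q_inv_conj : ∀ x : QuaternionGroup 2, x ^ 2 = a 2 → ∃ y, y * x * y⁻¹ = x⁻¹ := by decide
theorem q_center : ∀ x : QuaternionGroup 2, (∀ y, x * y = y * x) → x = 1 ∨ x = a 2 := by decide
theorem q_a2_central : ∀ y : QuaternionGroup 2, a 2 * y = y * a 2 := by decide
theorem q_a1_sq : (a 1 : QuaternionGroup 2) ^ 2 = a 2 := by decide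
theorem q_a2_ne : (a 2 : QuaternionGroup 2) ≠ 1 := by decide
theorem q_a2_sq : (a 2 : QuaternionGroup 2) ^ 2 = 1 := by decide
theorem q_univ : (Finset.univ : Finset (QuaternionGroup 2)) =
    {a 0, a 1, a 2, a 3, xa 0, xa 1, xa 2, xa 3} := by decide

/-! ### Transport to a subgroup isomorphic to `Q₈` -/

section Transport

variable {G : Type*} [Group G] (S : Subgroup G) (e : S ≃* QuaternionGroup 2)

/-- The involution of `S`. -/
noncomputable def tt : G := ((e.symm (a 2) : S) : G)

/-- An element of order `4` of `S`. -/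
noncomputable def uu : G := ((e.symm (a 1) : S) : G)

theorem tt_mem : tt S e ∈ S := (e.symm (a 2)).2

theorem uu_mem : uu S e ∈ S := (e.symm (a 1)).2

theorem uu_sq : uu S e ^ 2 = tt S e := by
  unfold uu tt
  rw [← Subgroup.coe_pow, ← map_pow, q_a1_sq]

theorem tt_sq : tt S e ^ 2 = 1 := by
  unfold tt
  rw [← Subgroup.coe_pow, ← map_pow, q_a2_sq, map_one, Subgroup.coe_one]

theorem tt_ne_one : tt S e ≠ 1 := by
  unfold tt
  intro h
  have h1 : e.symm (a 2) = 1 := Subtype.ext h
  have h2 : (a 2 : QuaternionGroup 2) = 1 := by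
    have := congrArg e h1
    rwa [MulEquiv.apply_symm_apply, map_one] at this
  exact q_a2_ne h2

theorem orderOf_tt : orderOf (tt S e) = 2 :=
  orderOf_eq_prime (tt_sq S e) (tt_ne_one S e)

theorem orderOf_uu : orderOf (uu S e) = 4 := by
  have h1 : ¬ uu S e ^ 2 ^ 1 = 1 := by
    rw [pow_one, uu_sq]
    exact tt_ne_one S e
  have h2 : uu S e ^ 2 ^ (1 + 1) = 1 := by
    have : uu S e ^ 2 ^ (1 + 1) = (uu S e ^ 2) ^ 2 := by rw [← pow_mul]; norm_num
    rw [this, uu_sq, tt_sq]
  have := orderOf_eq_prime_pow h1 h2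
  rw [this]
  norm_num

/-- Transport principle. -/
theorem coe_symm_apply_self (s : G) (hs : s ∈ S) : ((e.symm (e ⟨s, hs⟩) : S) : G) = s := by
  rw [MulEquiv.symm_apply_apply]

theorem mem_cases (s : G) (hs : s ∈ S) : s = 1 ∨ s = tt S e ∨ s ^ 2 = tt S e := by
  rcases q_cases (e ⟨s, hs⟩) with h | h | h
  · left
    have : (⟨s, hs⟩ : S) = 1 := by
      have := congrArg e.symm h
      rwa [MulEquiv.symm_apply_apply, map_one] at this
    exact congrArg Subtype.val this
  · right; left
    have : (⟨s, hs⟩ : S) = e.symm (a 2) := by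
      have := congrArg e.symm h
      rwa [MulEquiv.symm_apply_apply] at this
    exact congrArg Subtype.val this
  · right; right
    have : (⟨s, hs⟩ : S) ^ 2 = e.symm (a 2) := by
      have := congrArg e.symm h
      rwa [map_pow, MulEquiv.symm_apply_apply] at this
    exact congrArg Subtype.val this

theorem sq_one (s : G) (hs : s ∈ S) (h : s ^ 2 = 1) : s = 1 ∨ s = tt S e := by
  rcases mem_cases S e s hs with h1 | h1 | h1
  · exact Or.inl h1
  · exact Or.inr h1
  · rw [h] at h1
    exact absurd h1.symm (tt_ne_one S e)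

theorem comm_mem_zpowers (s : G) (hs : s ∈ S) (h : s ^ 2 = tt S e) (y : G) (hy : y ∈ S)
    (hc : s * y = y * s) : y ∈ Subgroup.zpowers s := by
  have h1 : (e ⟨s, hs⟩) ^ 2 = a 2 := by
    rw [← map_pow]
    have : (⟨s, hs⟩ : S) ^ 2 = e.symm (a 2) := Subtype.ext h
    rw [this, MulEquiv.apply_symm_apply]
  have h2 : e ⟨s, hs⟩ * e ⟨y, hy⟩ = e ⟨y, hy⟩ * e ⟨s, hs⟩ := by
    rw [← map_mul, ← map_mul]
    congr 1
    exact Subtype.ext hc
  obtain ⟨k, hk⟩ := q_comm _ _ h1 h2
  have h3 : (⟨y, hy⟩ : S) = ⟨s, hs⟩ ^ (k : ℕ) := by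
    apply e.injective
    rw [map_pow]
    exact hk
  have h4 : y = s ^ (k : ℕ) := congrArg Subtype.val h3
  rw [h4]
  exact Subgroup.pow_mem _ (Subgroup.mem_zpowers s) _

theorem inv_conj (s : G) (hs : s ∈ S) (h : s ^ 2 = tt S e) : ∃ y ∈ S, y * s * y⁻¹ = s⁻¹ := by
  have h1 : (e ⟨s, hs⟩) ^ 2 = a 2 := by
    rw [← map_pow]
    have : (⟨s, hs⟩ : S) ^ 2 = e.symm (a 2) := Subtype.ext h
    rw [this, MulEquiv.apply_symm_apply]
  obtain ⟨y, hy⟩ := q_inv_conj _ h1
  refine ⟨(e.symm y : S), (e.symm y).2, ?_⟩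
  have h3 : e.symm y * ⟨s, hs⟩ * (e.symm y)⁻¹ = (⟨s, hs⟩ : S)⁻¹ := by
    apply e.injective
    rw [map_mul, map_mul, map_inv, map_inv, MulEquiv.apply_symm_apply]
    exact hy
  exact congrArg Subtype.val h3

theorem center_cases (z : G) (hz : z ∈ S) (hc : ∀ y ∈ S, z * y = y * z) :
    z = 1 ∨ z = tt S e := by
  have h1 : ∀ y : QuaternionGroup 2, e ⟨z, hz⟩ * y = y * e ⟨z, hz⟩ := by
    intro y
    have h2 := hc (e.symm y : S) (e.symm y).2
    have h3 : (⟨z, hz⟩ : S) * e.symm y = e.symm y * ⟨z, hz⟩ := Subtype.ext h2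
    have := congrArg e h3
    rwa [map_mul, map_mul, MulEquiv.apply_symm_apply] at this
  rcases q_center _ h1 with h | h
  · left
    have : (⟨z, hz⟩ : S) = 1 := by
      have := congrArg e.symm h
      rwa [MulEquiv.symm_apply_apply, map_one] at this
    exact congrArg Subtype.val this
  · right
    have : (⟨z, hz⟩ : S) = e.symm (a 2) := by
      have := congrArg e.symm h
      rwa [MulEquiv.symm_apply_apply] at this
    exact congrArg Subtype.val this

theorem tt_comm (y : G) (hy : y ∈ S) : tt S e * y = y * tt S e := by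
  have h1 := q_a2_central (e ⟨y, hy⟩)
  have h2 : e.symm (a 2) * ⟨y, hy⟩ = (⟨y, hy⟩ : S) * e.symm (a 2) := by
    apply e.injective
    rw [map_mul, map_mul, MulEquiv.apply_symm_apply]
    exact h1
  exact congrArg Subtype.val h2

/-- A sum over `S` of a function taking the value `c` at every element of order `4`. -/
theorem sum_S [Fintype S] {A : Type*} [AddCommMonoid A] (f : G → A) (c : A)
    (hf : ∀ s ∈ S, s ^ 2 = tt S e → f s = c) :
    ∑ s : S, f (s : G) = f 1 + f (tt S e) + 6 • c := by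
  have h1 : ∑ s : S, f (s : G) = ∑ x : QuaternionGroup 2, f ((e.symm x : S) : G) := by
    rw [← Equiv.sum_comp e.symm.toEquiv]
    rfl
  rw [h1]
  have hval : ∀ x : QuaternionGroup 2, x ^ 2 = a 2 → f ((e.symm x : S) : G) = c := by
    intro x hx
    apply hf _ (e.symm x).2
    rw [← Subgroup.coe_pow, ← map_pow, hx]
    rfl
  have h0 : f ((e.symm (a 0) : S) : G) = f 1 := by
    have : (a 0 : QuaternionGroup 2) = 1 := rfl
    rw [this, map_one, Subgroup.coe_one]
  rw [q_univ]
  rw [Finset.sum_insert (by decide), Finset.sum_insert (by decide), Finset.sum_insert (by decide),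
    Finset.sum_insert (by decide), Finset.sum_insert (by decide), Finset.sum_insert (by decide),
    Finset.sum_insert (by decide), Finset.sum_singleton]
  rw [h0, hval (a 1) (by decide), hval (a 3) (by decide), hval (xa 0) (by decide),
    hval (xa 1) (by decide), hval (xa 2) (by decide), hval (xa 3) (by decide)]
  show f 1 + (c + (f (tt S e) + (c + (c + (c + (c + c)))))) = f 1 + f (tt S e) + 6 • c
  have : (6 : ℕ) • c = c + (c + (c + (c + (c + c)))) := by
    simp only [succ_nsmul, zero_nsmul, zero_add]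
    abel
  rw [this]
  abel

end Transport

/-! ### Sylow arguments -/

section Sylow

variable {G : Type*} [Group G] [Finite G] (S : Sylow 2 G)
  (e : (S : Subgroup G) ≃* QuaternionGroup 2)

/-- Every `2`-subgroup can be conjugated into `S`. -/
theorem exists_conj_mem (P : Subgroup G) (hP : IsPGroup 2 P) :
    ∃ g : G, ∀ x ∈ P, g⁻¹ * x * g ∈ (S : Subgroup G) := by
  obtain ⟨Q, hQ⟩ := hP.exists_le_sylow
  obtain ⟨g, hg⟩ := MulAction.exists_smul_eq G S Q
  refine ⟨g, fun x hx => ?_⟩
  have h1 : x ∈ ((g • S : Sylow 2 G) : Subgroup G) := by rw [hg]; exact hQ hx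
  rw [Sylow.coe_subgroup_smul, Subgroup.mem_pointwise_smul_iff_inv_smul_mem] at h1
  simpa [MulAut.smul_def, MulAut.conj_inv_apply] using h1

omit [Finite G] in
theorem conj_pow' (g x : G) (k : ℕ) : (g⁻¹ * x * g) ^ k = g⁻¹ * x ^ k * g := by
  have := conj_pow (a := g⁻¹) (b := x) (i := k)
  rwa [inv_inv] at this

include e in
/-- `2`-rank one: commuting involutions are equal. -/
theorem involution_unique (x w : G) (hx : x ^ 2 = 1) (hw : w ^ 2 = 1) (hx1 : x ≠ 1) (hw1 : w ≠ 1)
    (hc : Commute x w) : x = w := by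
  have hPx : IsPGroup 2 (Subgroup.zpowers x) := by
    apply IsPGroup.of_card (n := 1)
    rw [Nat.card_zpowers, orderOf_eq_prime hx hx1, pow_one]
  have hPw : IsPGroup 2 (Subgroup.zpowers w) := by
    apply IsPGroup.of_card (n := 1)
    rw [Nat.card_zpowers, orderOf_eq_prime hw hw1, pow_one]
  have hle : Subgroup.zpowers x ≤ Subgroup.normalizer ((Subgroup.zpowers w : Subgroup G) : Set G) := by
    rw [Subgroup.zpowers_le]
    rw [Subgroup.mem_normalizer_iff]
    intro h
    have hcomm : ∀ h ∈ Subgroup.zpowers w, x * h * x⁻¹ = h := by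
      intro h hh
      obtain ⟨k, rfl⟩ := Subgroup.mem_zpowers_iff.mp hh
      have : Commute x (w ^ k) := hc.zpow_right k
      rw [this.eq, mul_inv_cancel_right]
    constructor
    · intro hh
      rw [hcomm h hh]; exact hh
    · intro hh
      have h2 : x⁻¹ * (x * h * x⁻¹) * x ∈ Subgroup.zpowers w := by
        have h3 := hcomm _ hh
        have h4 : x⁻¹ * (x * h * x⁻¹) * x = x⁻¹ * (x * (x * h * x⁻¹) * x⁻¹) * x := by
          rw [h3]
        rw [h4]
        have : x⁻¹ * (x * (x * h * x⁻¹) * x⁻¹) * x = x * h * x⁻¹ := by group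
        rw [this]; exact hh
      have : x⁻¹ * (x * h * x⁻¹) * x = h := by group
      rwa [this] at h2
  have hP := IsPGroup.to_sup_of_normal_right' hPx hPw hle
  obtain ⟨g, hg⟩ := exists_conj_mem S _ hP
  have hxS := hg x (Subgroup.mem_sup_left (Subgroup.mem_zpowers x))
  have hwS := hg w (Subgroup.mem_sup_right (Subgroup.mem_zpowers w))
  have hx2 : (g⁻¹ * x * g) ^ 2 = 1 := by
    rw [conj_pow', hx]; group
  have hw2 : (g⁻¹ * w * g) ^ 2 = 1 := by
    rw [conj_pow', hw]; group
  have hx1' : g⁻¹ * x * g ≠ 1 := by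
    intro h
    apply hx1
    have : x = g * (g⁻¹ * x * g) * g⁻¹ := by group
    rw [this, h]; group
  have hw1' : g⁻¹ * w * g ≠ 1 := by
    intro h
    apply hw1
    have : w = g * (g⁻¹ * w * g) * g⁻¹ := by group
    rw [this, h]; group
  have h1 := (sq_one (S : Subgroup G) e _ hxS hx2).resolve_left hx1'
  have h2 := (sq_one (S : Subgroup G) e _ hwS hw2).resolve_left hw1'
  have h3 : g⁻¹ * x * g = g⁻¹ * w * g := by rw [h1, h2]
  have : x = g * (g⁻¹ * x * g) * g⁻¹ := by group
  rw [this, h3]; group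

/-- Elements of order `4` of `S` are conjugate to `u` when `S` has no normal complement. -/
theorem isConj_uu (hnc : ∀ N : Subgroup G, N.Normal → ¬ Subgroup.IsComplement' N (S : Subgroup G))
    (s : G) (hs : s ∈ (S : Subgroup G)) (h : s ^ 2 = tt (S : Subgroup G) e) :
    IsConj (uu (S : Subgroup G) e) s := by
  set u := uu (S : Subgroup G) e with hu
  have hos : orderOf s = 4 := by
    have h1 : ¬ s ^ 2 ^ 1 = 1 := by
      rw [pow_one, h]; exact tt_ne_one _ e
    have h2 : s ^ 2 ^ (1 + 1) = 1 := by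
      have : s ^ 2 ^ (1 + 1) = (s ^ 2) ^ 2 := by rw [← pow_mul]; norm_num
      rw [this, h, tt_sq]
    rw [orderOf_eq_prime_pow h1 h2]; norm_num
  obtain ⟨n, -, hn⟩ := Cfsg.Agent.S0950.result S e hnc (Subgroup.zpowers u) (Subgroup.zpowers s)
    (by rw [Subgroup.zpowers_le]; exact uu_mem _ e) (by rw [Subgroup.zpowers_le]; exact hs)
    (by rw [Nat.card_zpowers, hu, orderOf_uu]) (by rw [Nat.card_zpowers, hos])
  have h1 : n * u * n⁻¹ ∈ Subgroup.zpowers s := by
    rw [hn]
    exact ⟨u, Subgroup.mem_zpowers u, rfl⟩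
  -- `n u n⁻¹` has order `4` in `⟨s⟩`
  have h2 : (n * u * n⁻¹) ^ 2 = tt (S : Subgroup G) e := by
    have h3 : (n * u * n⁻¹) ^ 2 ∈ Subgroup.zpowers s := Subgroup.pow_mem _ h1 2
    have h4 : (n * u * n⁻¹) ^ 2 ∈ (S : Subgroup G) :=
      (Subgroup.zpowers_le.mpr hs) h3
    have h5 : ((n * u * n⁻¹) ^ 2) ^ 2 = 1 := by
      rw [conj_pow, conj_pow, hu, uu_sq, tt_sq]; group
    have h6 : (n * u * n⁻¹) ^ 2 ≠ 1 := by
      intro h7
      rw [conj_pow, hu, uu_sq] at h7
      apply tt_ne_one (S : Subgroup G) e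
      have : tt (S : Subgroup G) e = n⁻¹ * (n * tt (S : Subgroup G) e * n⁻¹) * n := by group
      rw [this, h7]; group
    exact (sq_one (S : Subgroup G) e _ h4 h5).resolve_left h6
  -- so it is `s` or `s⁻¹`
  obtain ⟨k, hk⟩ := Subgroup.mem_zpowers_iff.mp h1
  have hcomm : s * (n * u * n⁻¹) = (n * u * n⁻¹) * s := by
    rw [← hk]
    exact ((Commute.refl s).zpow_right k).eq
  -- `s` lies in `⟨n u n⁻¹⟩`
  have hnS : n * u * n⁻¹ ∈ (S : Subgroup G) := (Subgroup.zpowers_le.mpr hs) h1
  have h3 := comm_mem_zpowers (S : Subgroup G) e _ hnS h2 s hs hcomm.symm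
  obtain ⟨j, hj⟩ := Subgroup.mem_zpowers_iff.mp h3
  -- reduce `j` modulo `4`
  have ho : orderOf (n * u * n⁻¹) = 4 := by
    have h1' : ¬ (n * u * n⁻¹) ^ 2 ^ 1 = 1 := by
      rw [pow_one, h2]; exact tt_ne_one _ e
    have h2' : (n * u * n⁻¹) ^ 2 ^ (1 + 1) = 1 := by
      have : (n * u * n⁻¹) ^ 2 ^ (1 + 1) = ((n * u * n⁻¹) ^ 2) ^ 2 := by rw [← pow_mul]; norm_num
      rw [this, h2, tt_sq]
    rw [orderOf_eq_prime_pow h1' h2']; norm_num
  set w := n * u * n⁻¹ with hw
  have hconj : IsConj u w := isConj_iff.mpr ⟨n, rfl⟩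
  have hw4 : w ^ (4 : ℤ) = 1 := by
    have := pow_orderOf_eq_one w
    rw [ho] at this
    exact_mod_cast this
  have hjmod : s = w ^ (j % 4) := by
    rw [← hj]
    conv_lhs => rw [← Int.emod_add_mul_ediv j 4]
    rw [zpow_add, zpow_mul, hw4, one_zpow, mul_one]
  have hj4 : j % 4 = 0 ∨ j % 4 = 1 ∨ j % 4 = 2 ∨ j % 4 = 3 := by omega
  rcases hj4 with h0 | h0 | h0 | h0
  · rw [h0, zpow_zero] at hjmod
    rw [hjmod, one_pow] at h
    exact absurd h.symm (tt_ne_one _ e)
  · rw [h0, zpow_one] at hjmod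
    rw [hjmod]; exact hconj
  · rw [h0] at hjmod
    have : s ^ 2 = 1 := by
      rw [hjmod]
      have : (w ^ (2 : ℤ)) ^ 2 = w ^ (4 : ℤ) := by rw [← zpow_natCast, ← zpow_mul]; norm_num
      rw [this, hw4]
    rw [h] at this
    exact absurd this (tt_ne_one _ e)
  · rw [h0] at hjmod
    have hsw : s = w⁻¹ := by
      rw [hjmod]
      have : w ^ (3 : ℤ) = w ^ (4 : ℤ) * w⁻¹ := by
        rw [← zpow_neg_one, ← zpow_add]; norm_num
      rw [this, hw4, one_mul]
    obtain ⟨y, -, hy⟩ := inv_conj (S : Subgroup G) e w hnS h2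
    have : IsConj w s := by
      rw [hsw, ← hy]
      exact isConj_iff.mpr ⟨y, rfl⟩
    exact hconj.trans this

include e in
/-- A product of two involutions never lies in the `2`-section of `u`. -/
theorem no_pairs (g z : G) (hgz : Cfsg.IsPPart 2 g z) (hz : IsConj (uu (S : Subgroup G) e) z)
    (x y : G) (hx : x ^ 2 = 1) (hx1 : x ≠ 1) (hy : y ^ 2 = 1) : x * y ≠ g := by
  intro hxy
  obtain ⟨y', hzy, hcomm, -, hodd⟩ := hgz
  obtain ⟨c, hc⟩ := isConj_iff.mp hz
  -- `w = z ^ 2` is an involution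
  have hw2 : (z ^ 2) ^ 2 = 1 := by
    rw [← hc, conj_pow, conj_pow, uu_sq, tt_sq]; group
  have hw1 : z ^ 2 ≠ 1 := by
    intro h
    rw [← hc, conj_pow, uu_sq] at h
    apply tt_ne_one (S : Subgroup G) e
    have : tt (S : Subgroup G) e = c⁻¹ * (c * tt (S : Subgroup G) e * c⁻¹) * c := by group
    rw [this, h]; group
  set m := orderOf y' with hm
  have hmodd : Odd m := by
    rw [← Nat.not_even_iff_odd, even_iff_two_dvd]; exact hodd
  -- `w = g ^ (2 m)`
  have hgm : g ^ m = z ^ m := by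
    rw [← hzy, hcomm.mul_pow, hm, pow_orderOf_eq_one, mul_one]
  have hwg : z ^ 2 = g ^ (2 * m) := by
    obtain ⟨j, hj⟩ := hmodd
    have h1 : g ^ (2 * m) = (z ^ 2) ^ m := by
      rw [mul_comm, pow_mul, hgm, ← pow_mul, ← pow_mul, mul_comm]
    have hW : ∀ W : G, W ^ 2 = 1 → W ^ (2 * j + 1) = W := fun W hW => by
      rw [pow_succ, pow_mul, hW, one_pow, one_mul]
    rw [h1, hj, hW _ hw2]
  -- `x` inverts `g`
  have hxinv : x⁻¹ = x := by
    rw [inv_eq_iff_mul_eq_one, ← pow_two, hx]
  have hyinv : y⁻¹ = y := by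
    rw [inv_eq_iff_mul_eq_one, ← pow_two, hy]
  have hginv : x * g * x⁻¹ = g⁻¹ := by
    rw [← hxy, mul_inv_rev, hxinv, hyinv]
    have : x * (x * y) * x = (x * x) * y * x := by group
    rw [this, ← pow_two, hx, one_mul]
  have hxw : x * z ^ 2 * x⁻¹ = z ^ 2 := by
    rw [hwg, ← conj_pow, hginv, inv_pow, ← hwg]
    rw [inv_eq_iff_mul_eq_one, ← pow_two, hw2]
  have hcxw : Commute x (z ^ 2) := by
    show x * z ^ 2 = z ^ 2 * x
    calc x * z ^ 2 = (x * z ^ 2 * x⁻¹) * x := by group
      _ = z ^ 2 * x := by rw [hxw]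
  have hxeq := involution_unique S e x (z ^ 2) hx hw2 hx1 hw1 hcxw
  -- then `x` commutes with `g`
  have hxg : x * g * x⁻¹ = g := by
    rw [hxeq, hwg]
    have : Commute (g ^ (2 * m)) g := (Commute.refl g).pow_left _
    rw [this.eq, mul_inv_cancel_right]
  have hg2 : g ^ 2 = 1 := by
    rw [hginv] at hxg
    have : g * g = g * g⁻¹ := by rw [hxg]
    rw [pow_two, this, mul_inv_cancel]
  apply hw1
  rw [hwg, pow_mul, hg2, one_pow]

/-- The centralizer of `u` has a normal `2`-complement and the `2`-part of its order is `4`. -/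
theorem centralizer_uu :
    (∃ k : ℕ, (Cfsg.pPrimeCore 2
        (Subgroup.centralizer ({uu (S : Subgroup G) e} : Set G))).index = 2 ^ k) ∧
      (Nat.card (Subgroup.centralizer ({uu (S : Subgroup G) e} : Set G))).factorization 2 = 2 := by
  set u := uu (S : Subgroup G) e with hu
  set H := Subgroup.centralizer ({u} : Set G) with hH
  have hcommH : ∀ h ∈ H, h * u = u * h := by
    intro h hh
    exact (Subgroup.mem_centralizer_iff.mp hh u (Set.mem_singleton u)).symm
  have hzH : Subgroup.zpowers u ≤ H := by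
    rw [Subgroup.zpowers_le, hH, Subgroup.mem_centralizer_iff]
    intro k hk
    rw [Set.mem_singleton_iff] at hk
    rw [hk]
  set P₀ : Subgroup H := (Subgroup.zpowers u).subgroupOf H with hP₀
  have hP₀card : Nat.card P₀ = 4 := by
    rw [hP₀, Nat.card_congr (Subgroup.subgroupOfEquivOfLe hzH).toEquiv, Nat.card_zpowers, hu,
      orderOf_uu]
  have hP₀p : IsPGroup 2 P₀ := by
    apply IsPGroup.of_card (n := 2)
    rw [hP₀card]; norm_num
  obtain ⟨Q, hQ⟩ := hP₀p.exists_le_sylow
  have huQ : (⟨u, hzH (Subgroup.mem_zpowers u)⟩ : H) ∈ (Q : Subgroup H) := by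
    apply hQ
    rw [hP₀, Subgroup.mem_subgroupOf]
    exact Subgroup.mem_zpowers u
  -- every element of `Q` is a power of `u`
  have hQle : (Q : Subgroup H) ≤ P₀ := by
    intro q hq
    rw [hP₀, Subgroup.mem_subgroupOf]
    have hQ' : IsPGroup 2 ((Q : Subgroup H).map H.subtype) := Q.isPGroup'.map _
    obtain ⟨g, hg⟩ := exists_conj_mem S _ hQ'
    have huS := hg u ⟨⟨u, hzH (Subgroup.mem_zpowers u)⟩, huQ, rfl⟩
    have hqS := hg (q : G) ⟨q, hq, rfl⟩
    have hs2 : (g⁻¹ * u * g) ^ 2 = tt (S : Subgroup G) e := by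
      have h4 : (g⁻¹ * u * g) ^ 2 ∈ (S : Subgroup G) := Subgroup.pow_mem _ huS 2
      have h5 : ((g⁻¹ * u * g) ^ 2) ^ 2 = 1 := by
        rw [conj_pow', conj_pow', hu, uu_sq, tt_sq]; group
      have h6 : (g⁻¹ * u * g) ^ 2 ≠ 1 := by
        intro h7
        rw [conj_pow', hu, uu_sq] at h7
        apply tt_ne_one (S : Subgroup G) e
        have : tt (S : Subgroup G) e = g * (g⁻¹ * tt (S : Subgroup G) e * g) * g⁻¹ := by group
        rw [this, h7]; group
      exact (sq_one (S : Subgroup G) e _ h4 h5).resolve_left h6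
    have hcq : (q : G) * u = u * (q : G) := hcommH _ q.2
    have hcomm : (g⁻¹ * u * g) * (g⁻¹ * (q : G) * g) = (g⁻¹ * (q : G) * g) * (g⁻¹ * u * g) := by
      have h1 : (g⁻¹ * u * g) * (g⁻¹ * (q : G) * g) = g⁻¹ * (u * (q : G)) * g := by group
      have h2 : (g⁻¹ * (q : G) * g) * (g⁻¹ * u * g) = g⁻¹ * ((q : G) * u) * g := by group
      rw [h1, h2, hcq]
    have h3 := comm_mem_zpowers (S : Subgroup G) e _ huS hs2 _ hqS hcomm
    obtain ⟨k, hk⟩ := Subgroup.mem_zpowers_iff.mp h3
    rw [Subgroup.mem_zpowers_iff]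
    refine ⟨k, ?_⟩
    have h4 : (g⁻¹ * u * g) ^ k = g⁻¹ * u ^ k * g := by
      have := conj_zpow (a := g⁻¹) (b := u) (i := k)
      rwa [inv_inv] at this
    rw [h4] at hk
    have : (q : G) = g * (g⁻¹ * (q : G) * g) * g⁻¹ := by group
    rw [this, ← hk]; group
  have hQeq : (Q : Subgroup H) = P₀ := le_antisymm hQle hQ
  have hQcard : Nat.card (Q : Subgroup H) = 4 := by rw [hQeq, hP₀card]
  have hNC : Subgroup.normalizer ((Q : Subgroup H) : Set H) ≤
      Subgroup.centralizer ((Q : Subgroup H) : Set H) := by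
    intro t _
    rw [Subgroup.mem_centralizer_iff]
    intro q hq
    have hq' : q ∈ P₀ := by rw [← hQeq]; exact hq
    rw [hP₀, Subgroup.mem_subgroupOf] at hq'
    obtain ⟨k, hk⟩ := Subgroup.mem_zpowers_iff.mp hq'
    apply Subtype.ext
    push_cast
    rw [← hk]
    have : Commute (t : G) u := hcommH _ t.2
    exact (this.zpow_right k).eq.symm
  obtain ⟨K, hKn, hKc, hKcop, -, -⟩ := Cfsg.Agent.S4145.exists_normal_pcomplement Q hNC
  constructor
  · have hKle : K ≤ Cfsg.pPrimeCore 2 H := Cfsg.Agent.Lib.Helper1_Cores.le_pPrimeCore hKn hKcop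
    have hdvd : (Cfsg.pPrimeCore 2 H).index ∣ K.index := Subgroup.index_dvd_of_le hKle
    have hKidx : K.index = 2 ^ 2 := by
      rw [hKc.symm.index_eq_card, hQcard]; norm_num
    rw [hKidx] at hdvd
    obtain ⟨k, -, hk⟩ := (Nat.dvd_prime_pow Nat.prime_two).mp hdvd
    exact ⟨k, hk⟩
  · have h1 := Q.card_eq_multiplicity
    rw [hQcard] at h1
    have h4 : (2 : ℕ) ^ 2 = 2 ^ (Nat.card H).factorization 2 := by
      rw [← h1]; norm_num
    exact (Nat.pow_right_injective (le_refl 2) h4).symm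

omit [Finite G] in
theorem mem_zpowers_involution (t x : G) (ht : t ^ 2 = 1) (hx : x ∈ Subgroup.zpowers t) :
    x = 1 ∨ x = t := by
  obtain ⟨k, rfl⟩ := Subgroup.mem_zpowers_iff.mp hx
  have ht2 : t ^ (2 : ℤ) = 1 := by exact_mod_cast ht
  have hk : t ^ k = t ^ (k % 2) := by
    conv_lhs => rw [← Int.emod_add_mul_ediv k 2]
    rw [zpow_add, zpow_mul, ht2, one_zpow, mul_one]
  rcases Int.emod_two_eq_zero_or_one k with h | h
  · left; rw [hk, h, zpow_zero]
  · right; rw [hk, h, zpow_one]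

/-- If a normal subgroup `M` contains the involution `t` of `S` but no element of order `4` of
`S`, and `G` has no nontrivial normal subgroup of odd order, then `t` is central. -/
theorem tt_mem_center_of_normal
    (hO : ∀ N : Subgroup G, N.Normal → Odd (Nat.card N) → N = ⊥)
    (M : Subgroup G) [hMn : M.Normal] (htM : tt (S : Subgroup G) e ∈ M)
    (hno : ∀ s ∈ (S : Subgroup G), s ^ 2 = tt (S : Subgroup G) e → s ∉ M) :
    tt (S : Subgroup G) e ∈ Subgroup.center G := by
  set t := tt (S : Subgroup G) e with ht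
  have ht2 : t ^ 2 = 1 := tt_sq _ e
  have ht1 : t ≠ 1 := tt_ne_one _ e
  have hzM : Subgroup.zpowers t ≤ M := by rw [Subgroup.zpowers_le]; exact htM
  set T₀ : Subgroup M := (Subgroup.zpowers t).subgroupOf M with hT₀
  have hT₀card : Nat.card T₀ = 2 := by
    rw [hT₀, Nat.card_congr (Subgroup.subgroupOfEquivOfLe hzM).toEquiv, Nat.card_zpowers, ht,
      orderOf_tt]
  have hT₀p : IsPGroup 2 T₀ := by
    apply IsPGroup.of_card (n := 1)
    rw [hT₀card]; norm_num
  obtain ⟨Q, hQ⟩ := hT₀p.exists_le_sylow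
  have htQ : (⟨t, htM⟩ : M) ∈ (Q : Subgroup M) := by
    apply hQ
    rw [hT₀, Subgroup.mem_subgroupOf]
    exact Subgroup.mem_zpowers t
  have hQle : (Q : Subgroup M) ≤ T₀ := by
    intro q hq
    rw [hT₀, Subgroup.mem_subgroupOf]
    have hQ' : IsPGroup 2 ((Q : Subgroup M).map M.subtype) := Q.isPGroup'.map _
    obtain ⟨g, hg⟩ := exists_conj_mem S _ hQ'
    have htS := hg t ⟨⟨t, htM⟩, htQ, rfl⟩
    have hqS := hg (q : G) ⟨q, hq, rfl⟩
    -- `g⁻¹ t g = t`
    have htg : g⁻¹ * t * g = t := by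
      have h5 : (g⁻¹ * t * g) ^ 2 = 1 := by rw [conj_pow', ht2]; group
      have h6 : g⁻¹ * t * g ≠ 1 := by
        intro h7
        apply ht1
        have : t = g * (g⁻¹ * t * g) * g⁻¹ := by group
        rw [this, h7]; group
      exact (sq_one (S : Subgroup G) e _ htS h5).resolve_left h6
    have hqM : g⁻¹ * (q : G) * g ∈ M := by
      have := hMn.conj_mem (q : G) q.2 g⁻¹
      rwa [inv_inv] at this
    have hcases : g⁻¹ * (q : G) * g = 1 ∨ g⁻¹ * (q : G) * g = t := by
      rcases mem_cases (S : Subgroup G) e _ hqS with h | h | h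
      · exact Or.inl h
      · exact Or.inr h
      · exact absurd hqM (hno _ hqS h)
    rcases hcases with h | h
    · have : (q : G) = g * (g⁻¹ * (q : G) * g) * g⁻¹ := by group
      rw [this, h]
      have : g * 1 * g⁻¹ = 1 := by group
      rw [this]; exact Subgroup.one_mem _
    · have h8 : (q : G) = g * (g⁻¹ * (q : G) * g) * g⁻¹ := by group
      have h9 : g * t * g⁻¹ = t := by
        calc g * t * g⁻¹ = g * (g⁻¹ * t * g) * g⁻¹ := by rw [htg]
          _ = t := by group
      rw [h8, h, h9]; exact Subgroup.mem_zpowers t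
  have hQeq : (Q : Subgroup M) = T₀ := le_antisymm hQle hQ
  have hQcard : Nat.card (Q : Subgroup M) = 2 := by rw [hQeq, hT₀card]
  have hmemQ : ∀ q : M, q ∈ (Q : Subgroup M) → (q : G) = 1 ∨ (q : G) = t := by
    intro q hq
    rw [hQeq, hT₀, Subgroup.mem_subgroupOf] at hq
    exact mem_zpowers_involution t _ ht2 hq
  have hNC : Subgroup.normalizer ((Q : Subgroup M) : Set M) ≤
      Subgroup.centralizer ((Q : Subgroup M) : Set M) := by
    intro n hn
    rw [Subgroup.mem_centralizer_iff]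
    intro q hq
    have hq' : n * q * n⁻¹ ∈ (Q : Subgroup M) := (Subgroup.mem_normalizer_iff.mp hn q).mp hq
    rcases hmemQ q hq with h | h
    · have : q = 1 := Subtype.ext h
      rw [this, mul_one, one_mul]
    · rcases hmemQ _ hq' with h' | h'
      · exfalso
        have h1 : n * q * n⁻¹ = 1 := Subtype.ext h'
        have h2 : q = 1 := by
          have : q = n⁻¹ * (n * q * n⁻¹) * n := by group
          rw [this, h1]; group
        rw [h2] at h
        exact ht1 h.symm
      · have h1 : n * q * n⁻¹ = q := Subtype.ext (by rw [h', h])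
        calc q * n = (n * q * n⁻¹) * n := by rw [h1]
          _ = n * q := by group
  obtain ⟨K, hKn, hKc, hKcop, hKodd, -⟩ := Cfsg.Agent.S4145.exists_normal_pcomplement Q hNC
  -- `K` is normal in `G`
  have hKG : (K.map M.subtype).Normal := by
    constructor
    intro x hx g
    obtain ⟨k, hk, rfl⟩ := hx
    have hkM : g * (k : G) * g⁻¹ ∈ M := hMn.conj_mem (k : G) k.2 g
    refine ⟨⟨g * (k : G) * g⁻¹, hkM⟩, ?_, rfl⟩
    apply hKodd
    have h1 : orderOf (⟨g * (k : G) * g⁻¹, hkM⟩ : M) = orderOf k := by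
      rw [← Subgroup.orderOf_coe, ← Subgroup.orderOf_coe]
      have hsc : SemiconjBy g (k : G) (g * (k : G) * g⁻¹) := by
        show g * (k : G) = g * (k : G) * g⁻¹ * g
        group
      exact (hsc.orderOf_eq g).symm
    rw [h1]
    have h2 : orderOf k ∣ Nat.card K := by
      have := orderOf_dvd_natCard (⟨k, hk⟩ : K)
      rwa [Subgroup.orderOf_mk] at this
    exact Nat.Coprime.coprime_dvd_left h2 hKcop
  have hKodd' : Odd (Nat.card (K.map M.subtype)) := by
    rw [Nat.card_congr (K.equivMapOfInjective M.subtype M.subtype_injective).symm.toEquiv]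
    rw [← Nat.not_even_iff_odd, even_iff_two_dvd]
    intro h2
    have := Nat.Coprime.eq_one_of_dvd hKcop.symm h2
    omega
  have hKbot := hO _ hKG hKodd'
  have hK1 : Nat.card K = 1 := by
    rw [Nat.card_congr (K.equivMapOfInjective M.subtype M.subtype_injective).toEquiv, hKbot,
      Subgroup.card_bot]
  have hMcard : Nat.card M = 2 := by
    rw [← hKc.card_mul_card, hK1, hQcard]
  -- so `M = ⟨t⟩`
  have hMeq : Subgroup.zpowers t = M := by
    apply Subgroup.eq_of_le_of_card_ge hzM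
    rw [hMcard, Nat.card_zpowers, ht, orderOf_tt]
  rw [Subgroup.mem_center_iff]
  intro g
  have h1 : g * t * g⁻¹ ∈ Subgroup.zpowers t := by
    rw [hMeq]; exact hMn.conj_mem t htM g
  rcases mem_zpowers_involution t _ ht2 h1 with h | h
  · exfalso
    apply ht1
    have : t = g⁻¹ * (g * t * g⁻¹) * g := by group
    rw [this, h]; group
  · calc g * t = (g * t * g⁻¹) * g := by group
      _ = t * g := by rw [h]

omit [Finite G] in
/-- If `S` has a normal complement of odd order which is trivial, `t` is central. -/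
theorem tt_mem_center_of_top (hS : (S : Subgroup G) = ⊤) :
    tt (S : Subgroup G) e ∈ Subgroup.center G := by
  rw [Subgroup.mem_center_iff]
  intro g
  have hg : g ∈ (S : Subgroup G) := by rw [hS]; exact Subgroup.mem_top g
  exact (tt_comm (S : Subgroup G) e g hg).symm

/-- The case of a normal complement. -/
theorem tt_mem_center_of_complement
    (hO : ∀ N : Subgroup G, N.Normal → Odd (Nat.card N) → N = ⊥)
    (N : Subgroup G) (hN : N.Normal) (hc : Subgroup.IsComplement' N (S : Subgroup G)) :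
    tt (S : Subgroup G) e ∈ Subgroup.center G := by
  have hodd : Odd (Nat.card N) := by
    rw [← Nat.not_even_iff_odd, even_iff_two_dvd]
    intro h2
    have h1 : Nat.card N = (S : Subgroup G).index := hc.index_eq_card.symm
    rw [h1] at h2
    exact S.not_dvd_index h2
  have hbot := hO N hN hodd
  rw [hbot] at hc
  exact tt_mem_center_of_top S e (Subgroup.isComplement'_bot_left.mp hc)

/-- **Conclusion**: if `t` is central and `G` has no nontrivial normal subgroup of odd order,
the centre has order `2`. -/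
theorem card_center_eq_two
    (hO : ∀ N : Subgroup G, N.Normal → Odd (Nat.card N) → N = ⊥)
    (ht : tt (S : Subgroup G) e ∈ Subgroup.center G) : Nat.card (Subgroup.center G) = 2 := by
  -- the centre is a `2`-group
  have hZp : IsPGroup 2 (Subgroup.center G) := by
    intro z
    obtain ⟨k, m, hm, hkm⟩ := Nat.exists_eq_two_pow_mul_odd (orderOf_pos (z : G)).ne'
    refine ⟨k, ?_⟩
    set z' : G := (z : G) ^ 2 ^ k with hz'
    have hz'c : z' ∈ Subgroup.center G := Subgroup.pow_mem _ z.2 _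
    have hNn : (Subgroup.zpowers z').Normal := by
      constructor
      intro n hn g
      have hnc : n ∈ Subgroup.center G :=
        (Subgroup.zpowers_le.mpr hz'c) hn
      have : g * n * g⁻¹ = n := by
        rw [Subgroup.mem_center_iff] at hnc
        rw [hnc g, mul_inv_cancel_right]
      rwa [this]
    have hNodd : Odd (Nat.card (Subgroup.zpowers z')) := by
      rw [Nat.card_zpowers]
      apply Odd.of_dvd_nat hm
      apply orderOf_dvd_of_pow_eq_one
      rw [hz', ← pow_mul, ← hkm, pow_orderOf_eq_one]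
    have hbot := hO _ hNn hNodd
    have h1 : z' = 1 := by
      have : z' ∈ Subgroup.zpowers z' := Subgroup.mem_zpowers z'
      rw [hbot] at this
      exact Subgroup.mem_bot.mp this
    apply Subtype.ext
    rw [Subgroup.coe_pow, Subgroup.coe_one]
    exact h1
  have hZS : Subgroup.center G ≤ (S : Subgroup G) := hZp.le_sylow_of_normal S
  have hcases : ∀ z : Subgroup.center G, z = 1 ∨ z = ⟨_, ht⟩ := by
    intro z
    have h1 := center_cases (S : Subgroup G) e (z : G) (hZS z.2) (fun y _ => by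
      have := Subgroup.mem_center_iff.mp z.2 y
      exact this.symm)
    rcases h1 with h | h
    · left; exact Subtype.ext h
    · right; exact Subtype.ext h
  rw [Nat.card_eq_two_iff]
  refine ⟨1, ⟨_, ht⟩, ?_, ?_⟩
  · intro h
    have := congrArg Subtype.val h
    exact tt_ne_one (S : Subgroup G) e this.symm
  · ext z
    simp only [Set.mem_insert_iff, Set.mem_singleton_iff, Set.mem_univ, iff_true]
    exact hcases z

end Sylow

end Cfsg.Agent.Lib.Helper17_BSQ8Group
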