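import Mathlib

/-!
Coordinates on a subgroup `P` of a group `G` that is isomorphic to a dihedral group
`DihedralGroup m`: the elements `R e i`, `SR e i` of `G` and their multiplication table (helper55).
-/

set_option autoImplicit false

namespace Cfsg.Agent.Lib.Helper55_DihedralCoord

open Subgroup DihedralGroup

variable {G : Type*} [Group G] {P : Subgroup G} {m : ℕ} (e : ↥P ≃* DihedralGroup m)

/-- the rotation with coordinate `i` -/
def R (i : ZMod m) : G := ((e.symm (r i) : ↥P) : G)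

/-- the reflection with coordinate `i` -/
def SR (i : ZMod m) : G := ((e.symm (sr i) : ↥P) : G)

theorem R_mem (i : ZMod m) : R e i ∈ P := (e.symm (r i)).2

theorem SR_mem (i : ZMod m) : SR e i ∈ P := (e.symm (sr i)).2

theorem R_mul_R (i j : ZMod m) : R e i * R e j = R e (i + j) := by
  unfold R
  rw [← Subgroup.coe_mul, ← map_mul, r_mul_r]

theorem R_mul_SR (i j : ZMod m) : R e i * SR e j = SR e (j - i) := by
  unfold R SR
  rw [← Subgroup.coe_mul, ← map_mul, r_mul_sr]

theorem SR_mul_R (i j : ZMod m) : SR e i * R e j = SR e (i + j) := by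
  unfold R SR
  rw [← Subgroup.coe_mul, ← map_mul, sr_mul_r]

theorem SR_mul_SR (i j : ZMod m) : SR e i * SR e j = R e (j - i) := by
  unfold R SR
  rw [← Subgroup.coe_mul, ← map_mul, sr_mul_sr]

theorem R_zero : R e 0 = 1 := by
  unfold R
  rw [r_zero, map_one, Subgroup.coe_one]

theorem R_inv (i : ZMod m) : (R e i)⁻¹ = R e (-i) := by
  rw [inv_eq_iff_mul_eq_one, R_mul_R, add_neg_cancel, R_zero]

theorem SR_inv (i : ZMod m) : (SR e i)⁻¹ = SR e i := by
  rw [inv_eq_iff_mul_eq_one, SR_mul_SR, sub_self, R_zero]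

theorem SR_mul_self (i : ZMod m) : SR e i * SR e i = 1 := by
  rw [SR_mul_SR, sub_self, R_zero]

theorem R_injective : Function.Injective (R e) := by
  intro i j h
  have h1 : e.symm (r i) = e.symm (r j) := Subtype.ext h
  have h2 := e.symm.injective h1
  injection h2

theorem SR_injective : Function.Injective (SR e) := by
  intro i j h
  have h1 : e.symm (sr i) = e.symm (sr j) := Subtype.ext h
  have h2 := e.symm.injective h1
  injection h2

theorem R_ne_SR (i j : ZMod m) : R e i ≠ SR e j := by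
  intro h
  have h1 : e.symm (r i) = e.symm (sr j) := Subtype.ext h
  have h2 := e.symm.injective h1
  cases h2

theorem cases_mem {x : G} (hx : x ∈ P) : (∃ i, x = R e i) ∨ ∃ i, x = SR e i := by
  have h : e.symm (e ⟨x, hx⟩) = ⟨x, hx⟩ := e.symm_apply_apply _
  cases hd : e ⟨x, hx⟩ with
  | r i =>
    left
    refine ⟨i, ?_⟩
    rw [hd] at h
    exact (congrArg Subtype.val h).symm
  | sr i =>
    right
    refine ⟨i, ?_⟩
    rw [hd] at h
    exact (congrArg Subtype.val h).symm

theorem R_one_zpow (k : ℤ) : (R e 1) ^ k = R e (k : ZMod m) := by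
  unfold R
  rw [← Subgroup.coe_zpow, ← map_zpow, r_one_zpow]

theorem R_eq_zpow (i : ZMod m) : R e i = (R e 1) ^ (ZMod.cast i : ℤ) := by
  rw [R_one_zpow, ZMod.intCast_zmod_cast]

theorem mem_zpowers_iff (x : G) : x ∈ zpowers (R e 1) ↔ ∃ i, x = R e i := by
  constructor
  · rintro ⟨k, rfl⟩
    exact ⟨_, R_one_zpow e k⟩
  · rintro ⟨i, rfl⟩
    exact ⟨_, (R_eq_zpow e i).symm⟩

theorem SR_not_mem_zpowers (i : ZMod m) : SR e i ∉ zpowers (R e 1) := by
  rw [mem_zpowers_iff]
  rintro ⟨j, hj⟩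
  exact R_ne_SR e j i hj.symm

theorem orderOf_R_one : orderOf (R e 1) = m := by
  unfold R
  rw [Subgroup.orderOf_coe, MulEquiv.orderOf_eq, orderOf_r_one]

theorem orderOf_SR (i : ZMod m) : orderOf (SR e i) = 2 := by
  unfold SR
  rw [Subgroup.orderOf_coe, MulEquiv.orderOf_eq, orderOf_sr]

include e in
theorem card_eq : Nat.card P = 2 * m := by
  rw [Nat.card_congr e.toEquiv, nat_card]

theorem zpowers_le : zpowers (R e 1) ≤ P := Subgroup.zpowers_le.mpr (R_mem e 1)

theorem relIndex_zpowers [NeZero m] : (zpowers (R e 1)).relIndex P = 2 := by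
  have h := Subgroup.relIndex_mul_relIndex ⊥ (zpowers (R e 1)) P bot_le (zpowers_le e)
  rw [Subgroup.relIndex_bot_left, Subgroup.relIndex_bot_left, Nat.card_zpowers, orderOf_R_one,
    card_eq e, mul_comm] at h
  exact Nat.eq_of_mul_eq_mul_right (Nat.pos_of_ne_zero (NeZero.ne m)) h

/-- conjugating a reflection by a rotation -/
theorem R_conj_SR (i j : ZMod m) : R e j * SR e i * (R e j)⁻¹ = SR e (i - j - j) := by
  rw [R_inv, R_mul_SR, SR_mul_R]
  congr 1
  ring

/-- conjugating a rotation by a reflection -/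
theorem SR_conj_R (i j : ZMod m) : SR e i * R e j * (SR e i)⁻¹ = (R e j)⁻¹ := by
  rw [SR_inv, SR_mul_R, SR_mul_SR, R_inv]
  congr 1
  ring

/-- every reflection is conjugate (by a rotation) to `SR 0` or to `SR 1` -/
theorem SR_isConj [NeZero m] (i : ZMod m) : IsConj (SR e i) (SR e 0) ∨ IsConj (SR e i) (SR e 1) := by
  have hi : ((i.val : ℕ) : ZMod m) = i := ZMod.natCast_zmod_val i
  rcases Nat.even_or_odd' i.val with ⟨q, hq | hq⟩
  · left
    rw [isConj_iff]
    refine ⟨R e (q : ZMod m), ?_⟩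
    rw [R_conj_SR]
    congr 1
    rw [← hi, hq]
    push_cast
    ring
  · right
    rw [isConj_iff]
    refine ⟨R e (q : ZMod m), ?_⟩
    rw [R_conj_SR]
    congr 1
    rw [← hi, hq]
    push_cast
    ring

/-- `P = ⟨ρ⟩ ∪ σ⁻¹⟨ρ⟩` for any reflection `σ` -/
theorem mem_or_SR_mul_mem (j : ZMod m) {x : G} (hx : x ∈ P) :
    x ∈ zpowers (R e 1) ∨ SR e j * x ∈ zpowers (R e 1) := by
  rcases cases_mem e hx with ⟨i, rfl⟩ | ⟨i, rfl⟩
  · left; exact (mem_zpowers_iff e _).mpr ⟨i, rfl⟩
  · right; rw [SR_mul_SR]; exact (mem_zpowers_iff e _).mpr ⟨_, rfl⟩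

end Cfsg.Agent.Lib.Helper55_DihedralCoord
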