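import Mathlib
import Cfsg.Agent.Lib.Helper55_DihedralCoord
import Cfsg.Agent.Lib.Helper17_Sylow

/-!
Group theory for a group with a dihedral Sylow `2`-subgroup `P`: the cyclic maximal subgroup
`Q = ⟨σ⟩`, centralizers of its elements, fusion in `Q` (helper17).
-/

set_option autoImplicit false

namespace Cfsg.Agent.Lib.Helper17_DihGroup

open Subgroup DihedralGroup Cfsg.Agent.Lib.Helper55_DihedralCoord

variable {G : Type*} [Group G] {m : ℕ} {P : Subgroup G} (e : ↥P ≃* DihedralGroup m)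

/-- an element of `P` that is not an involution is a rotation -/
theorem rot_of_sq_ne_one {x : G} (hx : x ∈ P) (hx2 : x ^ 2 ≠ 1) : ∃ i, x = R e i := by
  rcases cases_mem e hx with h | ⟨i, rfl⟩
  · exact h
  · exfalso
    apply hx2
    rw [pow_two, SR_mul_self]

/-- an element of `P` commuting with a rotation that is not an involution is a rotation -/
theorem rot_of_commute {x : G} (hx : x ∈ P) {j : ZMod m} (hj : (R e j) ^ 2 ≠ 1)
    (hc : Commute x (R e j)) : ∃ i, x = R e i := by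
  rcases cases_mem e hx with h | ⟨i, rfl⟩
  · exact h
  · exfalso
    apply hj
    have h1 := SR_conj_R e i j
    have h2 : SR e i * R e j * (SR e i)⁻¹ = R e j := by
      rw [hc.eq, mul_assoc, mul_inv_cancel, mul_one]
    rw [h2] at h1
    rw [pow_two]
    nth_rewrite 1 [h1]
    rw [inv_mul_cancel]

/-- conjugation by an element of `P` fixes or inverts each rotation -/
theorem conj_rot {x : G} (hx : x ∈ P) (j : ZMod m) :
    x * R e j * x⁻¹ = R e j ∨ x * R e j * x⁻¹ = (R e j)⁻¹ := by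
  rcases cases_mem e hx with ⟨i, rfl⟩ | ⟨i, rfl⟩
  · left
    rw [R_inv, R_mul_R, R_mul_R]
    congr 1
    ring
  · right
    exact SR_conj_R e i j

section sigma

variable {σ : G} (hσP : σ ∈ P) (hσo : orderOf σ = m) (hm : 3 ≤ m)

include e hσP hσo hm

theorem sigma_rot : ∃ i, σ = R e i := by
  apply rot_of_sq_ne_one e hσP
  intro h
  have := orderOf_dvd_of_pow_eq_one h
  rw [hσo] at this
  have := Nat.le_of_dvd (by norm_num) this
  omega

theorem zpowers_sigma : zpowers σ = zpowers (R e 1) := by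
  have : NeZero m := ⟨by omega⟩
  obtain ⟨i, hi⟩ := sigma_rot e hσP hσo hm
  have hle : zpowers σ ≤ zpowers (R e 1) := by
    rw [Subgroup.zpowers_le, Helper55_DihedralCoord.mem_zpowers_iff]
    exact ⟨i, hi⟩
  have : Finite (zpowers (R e 1)) :=
    Nat.finite_of_card_ne_zero (by rw [Nat.card_zpowers, orderOf_R_one]; omega)
  apply Subgroup.eq_of_le_of_card_ge hle
  rw [Nat.card_zpowers, Nat.card_zpowers, hσo, orderOf_R_one]

theorem mem_zpowers_sigma_iff (x : G) : x ∈ zpowers σ ↔ ∃ i, x = R e i := by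
  rw [zpowers_sigma e hσP hσo hm, Helper55_DihedralCoord.mem_zpowers_iff]

omit e hσo hm in
theorem zpowers_sigma_le : zpowers σ ≤ P := Subgroup.zpowers_le.2 hσP

/-- conjugation by an element of `P` fixes or inverts each element of `Q` -/
theorem conj_mem_zpowers {x y : G} (hx : x ∈ P) (hy : y ∈ zpowers σ) :
    x * y * x⁻¹ = y ∨ x * y * x⁻¹ = y⁻¹ := by
  obtain ⟨j, rfl⟩ := (mem_zpowers_sigma_iff e hσP hσo hm y).1 hy
  exact conj_rot e hx j

/-- an element of `P` inverting `Q` -/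
theorem exists_inverting : ∃ τ ∈ P, ∀ y ∈ zpowers σ, τ * y * τ⁻¹ = y⁻¹ := by
  refine ⟨SR e 0, SR_mem e 0, ?_⟩
  intro y hy
  obtain ⟨j, rfl⟩ := (mem_zpowers_sigma_iff e hσP hσo hm y).1 hy
  exact SR_conj_R e 0 j

/-- an element of `P` commuting with a non-involution of `Q` lies in `Q` -/
theorem mem_of_commute {x y : G} (hx : x ∈ P) (hy : y ∈ zpowers σ) (hy2 : y ^ 2 ≠ 1)
    (hc : Commute x y) : x ∈ zpowers σ := by
  obtain ⟨j, rfl⟩ := (mem_zpowers_sigma_iff e hσP hσo hm y).1 hy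
  rw [mem_zpowers_sigma_iff e hσP hσo hm]
  exact rot_of_commute e hx hy2 hc

end sigma


section sylow

open Cfsg.Agent.Lib.Helper17_Sylow

variable [Finite G] (S₂ : Sylow 2 G) (e₂ : ↥(S₂ : Subgroup G) ≃* DihedralGroup m) {σ : G}
  (hσP : σ ∈ (S₂ : Subgroup G)) (hσo : orderOf σ = m) (hm : 3 ≤ m)

theorem commute_of_mem_zpowers {x y : G} (hx : x ∈ zpowers σ) (hy : y ∈ zpowers σ) :
    Commute x y := by
  obtain ⟨a, rfl⟩ := Subgroup.mem_zpowers_iff.1 hx
  obtain ⟨b, rfl⟩ := Subgroup.mem_zpowers_iff.1 hy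
  exact Commute.zpow_zpow_self σ a b

theorem zpowers_le_centralizer {y : G} (hy : y ∈ zpowers σ) :
    zpowers σ ≤ centralizer ({y} : Set G) := by
  intro x hx
  rw [mem_centralizer_singleton_iff]
  exact (commute_of_mem_zpowers hx hy).eq

include e₂ hσP hσo hm

/-- a `2`-subgroup centralizing a non-involution `y ∈ Q` and containing it has order at most `m` -/
theorem card_le_of_centralizes {S : Subgroup G} (hS : IsPGroup 2 S) {y : G} (hy : y ∈ zpowers σ)
    (hy2 : y ^ 2 ≠ 1) (hyS : y ∈ S) (hSC : S ≤ centralizer ({y} : Set G)) : Nat.card S ≤ m := by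
  have : Fact (Nat.Prime 2) := ⟨Nat.prime_two⟩
  have : NeZero m := ⟨by omega⟩
  obtain ⟨P', hSP'⟩ := hS.exists_le_sylow
  obtain ⟨g, hg⟩ := MulAction.exists_smul_eq G S₂ P'
  have hconj : ∀ s ∈ S, g⁻¹ * s * g ∈ (S₂ : Subgroup G) := fun s hs =>
    (mem_smul_sylow g s S₂).1 (hg ▸ hSP' hs)
  have hy₀P := hconj y hyS
  have hy₀2 : (g⁻¹ * y * g) ^ 2 ≠ 1 := by
    intro h
    apply hy2
    have h1 : (g⁻¹ * y * g) ^ 2 = g⁻¹ * y ^ 2 * g := by
      rw [pow_two, pow_two]; group
    rw [h1] at h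
    have h2 : y ^ 2 = g * (g⁻¹ * y ^ 2 * g) * g⁻¹ := by group
    rw [h2, h]; group
  obtain ⟨j, hj⟩ := rot_of_sq_ne_one e₂ hy₀P hy₀2
  have hmap : S.map (MulAut.conj g⁻¹).toMonoidHom ≤ zpowers (R e₂ 1) := by
    rintro _ ⟨s, hs, rfl⟩
    have hsc : Commute s y := by
      have := hSC hs
      rw [mem_centralizer_singleton_iff] at this
      exact this
    have hc : Commute (g⁻¹ * s * g) (R e₂ j) := by
      rw [← hj]
      show g⁻¹ * s * g * (g⁻¹ * y * g) = g⁻¹ * y * g * (g⁻¹ * s * g)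
      have h1 : g⁻¹ * s * g * (g⁻¹ * y * g) = g⁻¹ * (s * y) * g := by group
      have h2 : g⁻¹ * y * g * (g⁻¹ * s * g) = g⁻¹ * (y * s) * g := by group
      rw [h1, h2, hsc.eq]
    rw [hj] at hy₀2
    obtain ⟨i, hi⟩ := rot_of_commute e₂ (hconj s hs) hy₀2 hc
    rw [Helper55_DihedralCoord.mem_zpowers_iff]
    refine ⟨i, ?_⟩
    rw [← hi]
    simp
  have h1 : Nat.card (S.map (MulAut.conj g⁻¹).toMonoidHom) = Nat.card S :=
    Subgroup.card_map_of_injective (MulAut.conj g⁻¹).injective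
  rw [← h1]
  have h2 := Subgroup.card_le_of_le hmap
  rwa [Nat.card_zpowers, orderOf_R_one] at h2

/-- the `2`-part of the order of the centralizer of a non-involution of `Q` -/
theorem card_sylow_centralizer {k : ℕ} (hmk : m = 2 ^ k) {y : G} (hy : y ∈ zpowers σ)
    (hy2 : y ^ 2 ≠ 1) (S₀ : Sylow 2 (centralizer ({y} : Set G))) : Nat.card S₀ = m := by
  have : Fact (Nat.Prime 2) := ⟨Nat.prime_two⟩
  have hQC := zpowers_le_centralizer (σ := σ) hy
  have hQp : IsPGroup 2 (zpowers σ) := IsPGroup.of_card (n := k) (by rw [Nat.card_zpowers, hσo, hmk])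
  have hQCp : IsPGroup 2 ((zpowers σ).subgroupOf (centralizer ({y} : Set G))) :=
    hQp.comap_subtype
  obtain ⟨S₁, hS₁⟩ := hQCp.exists_le_sylow
  have hcard : Nat.card S₁ = m := by
    apply le_antisymm
    · have hS : IsPGroup 2 ((S₁ : Subgroup (centralizer ({y} : Set G))).map
          (centralizer ({y} : Set G)).subtype) := S₁.2.map _
      have hyS : y ∈ (S₁ : Subgroup (centralizer ({y} : Set G))).map
          (centralizer ({y} : Set G)).subtype := by
        refine ⟨⟨y, hQC hy⟩, hS₁ ?_, rfl⟩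
        rw [mem_subgroupOf]
        exact hy
      have hle := card_le_of_centralizes S₂ e₂ hσP hσo hm hS hy hy2 hyS (map_subtype_le _)
      rwa [Subgroup.card_map_of_injective (Subgroup.subtype_injective _)] at hle
    · have h1 := Subgroup.card_le_of_le hS₁
      rwa [Nat.card_congr (Subgroup.subgroupOfEquivOfLe hQC).toEquiv, Nat.card_zpowers, hσo] at h1
  rw [Sylow.card_eq_multiplicity] at hcard ⊢
  exact hcard

/-- `P` normalizes `Q` -/
theorem sylow_le_normalizer : (S₂ : Subgroup G) ≤ normalizer ((zpowers σ : Subgroup G) : Set G) := by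
  intro x hx
  rw [mem_normalizer_iff]
  intro w
  constructor
  · intro hw
    rcases conj_mem_zpowers e₂ hσP hσo hm hx hw with h | h
    · rw [h]; exact hw
    · rw [h]; exact inv_mem hw
  · intro hw
    have hx' : x⁻¹ ∈ (S₂ : Subgroup G) := inv_mem hx
    have : w = x⁻¹ * (x * w * x⁻¹) * x⁻¹⁻¹ := by group
    rw [this]
    rcases conj_mem_zpowers e₂ hσP hσo hm hx' hw with h | h
    · rw [h]; exact hw
    · rw [h]; exact inv_mem hw

/-- the normalizer of `Q` acts on `Q` like `P` does -/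
theorem normalizer_zpowers {k : ℕ} (hmk : m = 2 ^ k) {h : G}
    (hh : h ∈ normalizer ((zpowers σ : Subgroup G) : Set G)) :
    ∃ x ∈ (S₂ : Subgroup G), ∀ w ∈ zpowers σ, h * w * h⁻¹ = x * w * x⁻¹ := by
  have : Fact (Nat.Prime 2) := ⟨Nat.prime_two⟩
  set Q : Subgroup G := zpowers σ with hQ
  have hk1 : 1 ≤ k := by
    rcases Nat.eq_zero_or_pos k with h0 | h0
    · rw [h0, pow_zero] at hmk; omega
    · exact h0
  -- the index of `C(Q)` in `N(Q)` is a power of two
  have key := Subgroup.card_dvd_of_injective _ (QuotientGroup.kerLift_injective Q.normalizerMonoidHom)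
  rw [normalizerMonoidHom_ker, ← index, ← relIndex] at key
  have hcyc : IsCyclic Q := by rw [hQ]; infer_instance
  rw [hcyc.card_mulAut, hQ, Nat.card_zpowers, hσo, hmk, Nat.totient_prime_pow Nat.prime_two hk1] at key
  have key' : (centralizer (Q : Set G)).relIndex (normalizer (Q : Set G)) ∣ 2 ^ (k - 1) := by
    simpa using key
  -- `L = P C(Q)`
  have hKN : centralizer (Q : Set G) ≤ normalizer (Q : Set G) := centralizer_le_normalizer _
  have hPN := sylow_le_normalizer S₂ e₂ hσP hσo hm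
  have hLN : (S₂ : Subgroup G) ⊔ centralizer (Q : Set G) ≤ normalizer (Q : Set G) :=
    sup_le hPN hKN
  have h1 : ((S₂ : Subgroup G) ⊔ centralizer (Q : Set G)).relIndex (normalizer (Q : Set G)) ∣
      2 ^ (k - 1) :=
    dvd_trans (Subgroup.relIndex_dvd_of_le_left _ le_sup_right) key'
  have h2 : ((S₂ : Subgroup G) ⊔ centralizer (Q : Set G)).relIndex (normalizer (Q : Set G)) ∣
      (S₂ : Subgroup G).index :=
    dvd_trans (Subgroup.relIndex_dvd_index_of_le hLN) (Subgroup.index_dvd_of_le le_sup_left)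
  have h3 : ((S₂ : Subgroup G) ⊔ centralizer (Q : Set G)).relIndex (normalizer (Q : Set G)) = 1 := by
    obtain ⟨j, -, hj⟩ := (Nat.dvd_prime_pow Nat.prime_two).1 h1
    rcases Nat.eq_zero_or_pos j with h0 | h0
    · rw [hj, h0, pow_zero]
    · exfalso
      apply S₂.not_dvd_index
      refine dvd_trans ?_ h2
      rw [hj]
      exact dvd_pow_self 2 h0.ne'
  have hNL : normalizer (Q : Set G) ≤ (S₂ : Subgroup G) ⊔ centralizer (Q : Set G) :=
    Subgroup.relIndex_eq_one.1 h3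
  -- decompose
  have hnorm : (S₂ : Subgroup G) ≤ normalizer ((centralizer (Q : Set G) : Subgroup G) : Set G) := by
    intro x hx
    have hxN := hPN hx
    rw [mem_normalizer_iff]
    intro z
    have hxQ : ∀ w, w ∈ Q ↔ x * w * x⁻¹ ∈ Q := mem_normalizer_iff.1 hxN
    constructor
    · intro hz
      rw [mem_centralizer_iff] at hz ⊢
      intro w hw
      have hw' : x⁻¹ * w * x ∈ Q := by
        rw [hxQ]
        have : x * (x⁻¹ * w * x) * x⁻¹ = w := by group
        rw [this]; exact hw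
      have := hz _ hw'
      calc w * (x * z * x⁻¹) = x * ((x⁻¹ * w * x) * z) * x⁻¹ := by group
        _ = x * (z * (x⁻¹ * w * x)) * x⁻¹ := by rw [this]
        _ = x * z * x⁻¹ * w := by group
    · intro hz
      rw [mem_centralizer_iff] at hz ⊢
      intro w hw
      have hw' : x * w * x⁻¹ ∈ Q := (hxQ w).1 hw
      have := hz _ hw'
      calc w * z = x⁻¹ * ((x * w * x⁻¹) * (x * z * x⁻¹)) * x := by group
        _ = x⁻¹ * ((x * z * x⁻¹) * (x * w * x⁻¹)) * x := by rw [this]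
        _ = z * w := by group
  have hmem : h ∈ ((S₂ : Subgroup G) ⊔ centralizer (Q : Set G) : Subgroup G) := hNL hh
  rw [← SetLike.mem_coe, Subgroup.coe_mul_of_left_le_normalizer_right _ _ hnorm] at hmem
  obtain ⟨x, hx, z, hz, rfl⟩ := hmem
  refine ⟨x, hx, ?_⟩
  intro w hw
  have hzw : z * w = w * z := ((mem_centralizer_iff.1 hz) w hw).symm
  calc x * z * w * (x * z)⁻¹ = x * (z * w) * z⁻¹ * x⁻¹ := by group
    _ = x * (w * z) * z⁻¹ * x⁻¹ := by rw [hzw]
    _ = x * w * x⁻¹ := by group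

/-- **Fusion in `Q`**: a `G`-conjugate in `Q` of a non-involution `y ∈ Q` is `y` or `y⁻¹`. -/
theorem fusion_zpowers {k : ℕ} (hmk : m = 2 ^ k) {y : G} (hy : y ∈ zpowers σ) (hy2 : y ^ 2 ≠ 1)
    {g : G} (hgy : g * y * g⁻¹ ∈ zpowers σ) : g * y * g⁻¹ = y ∨ g * y * g⁻¹ = y⁻¹ := by
  have : Fact (Nat.Prime 2) := ⟨Nat.prime_two⟩
  set y' : G := g * y * g⁻¹ with hy'
  have hy'2 : y' ^ 2 ≠ 1 := by
    intro h
    apply hy2
    have h1 : y' ^ 2 = g * y ^ 2 * g⁻¹ := by
      rw [hy', pow_two, pow_two]; group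
    rw [h1] at h
    have h2 : y ^ 2 = g⁻¹ * (g * y ^ 2 * g⁻¹) * g := by group
    rw [h2, h]; group
  set Q : Subgroup G := zpowers σ with hQ
  set C : Subgroup G := centralizer ({y'} : Set G) with hC
  have hQC : Q ≤ C := zpowers_le_centralizer hgy
  have hQgC : Q.map (MulAut.conj g).toMonoidHom ≤ C := by
    rintro _ ⟨w, hw, rfl⟩
    rw [hC, mem_centralizer_singleton_iff]
    have hwy : w * y = y * w := (commute_of_mem_zpowers hw hy).eq
    show g * w * g⁻¹ * (g * y * g⁻¹) = g * y * g⁻¹ * (g * w * g⁻¹)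
    calc g * w * g⁻¹ * (g * y * g⁻¹) = g * (w * y) * g⁻¹ := by group
      _ = g * (y * w) * g⁻¹ := by rw [hwy]
      _ = g * y * g⁻¹ * (g * w * g⁻¹) := by group
  -- both are Sylow in `C`
  have hfact : 2 ^ (Nat.card C).factorization 2 = m := by
    obtain ⟨S₀⟩ := (inferInstance : Nonempty (Sylow 2 C))
    rw [← Sylow.card_eq_multiplicity S₀]
    exact card_sylow_centralizer S₂ e₂ hσP hσo hm hmk hgy hy'2 S₀
  have hc1 : Nat.card (Q.subgroupOf C) = 2 ^ (Nat.card C).factorization 2 := by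
    rw [hfact, Nat.card_congr (Subgroup.subgroupOfEquivOfLe hQC).toEquiv, hQ, Nat.card_zpowers, hσo]
  have hc2 : Nat.card ((Q.map (MulAut.conj g).toMonoidHom).subgroupOf C) =
      2 ^ (Nat.card C).factorization 2 := by
    rw [hfact, Nat.card_congr (Subgroup.subgroupOfEquivOfLe hQgC).toEquiv,
      Subgroup.card_map_of_injective (MulAut.conj g).injective, hQ, Nat.card_zpowers, hσo]
  obtain ⟨c, hc⟩ := MulAction.exists_smul_eq C (Sylow.ofCard _ hc2) (Sylow.ofCard _ hc1)
  -- `c g` normalizes `Q`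
  have hcg : ∀ w ∈ Q, (c : G) * g * w * ((c : G) * g)⁻¹ ∈ Q := by
    intro w hw
    have hwC : g * w * g⁻¹ ∈ C := hQgC ⟨w, hw, rfl⟩
    have h1 : (⟨g * w * g⁻¹, hwC⟩ : C) ∈ (Sylow.ofCard _ hc2 : Subgroup C) := by
      rw [Sylow.coe_ofCard, mem_subgroupOf]
      exact ⟨w, hw, rfl⟩
    have h2 : c * ⟨g * w * g⁻¹, hwC⟩ * c⁻¹ ∈ ((c • Sylow.ofCard _ hc2 : Sylow 2 C) : Subgroup C) := by
      rw [mem_smul_sylow]
      have : c⁻¹ * (c * ⟨g * w * g⁻¹, hwC⟩ * c⁻¹) * c = ⟨g * w * g⁻¹, hwC⟩ := by group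
      rw [this]
      exact h1
    rw [hc, Sylow.coe_ofCard, mem_subgroupOf] at h2
    have : (c : G) * g * w * ((c : G) * g)⁻¹ = (c : G) * (g * w * g⁻¹) * (c : G)⁻¹ := by group
    rw [this]
    exact h2
  have hnorm : (c : G) * g ∈ normalizer ((Q : Subgroup G) : Set G) :=
    mem_normalizer_fintype hcg
  obtain ⟨x, hx, hxw⟩ := normalizer_zpowers S₂ e₂ hσP hσo hm hmk hnorm
  have h3 := hxw y hy
  have h4 : (c : G) * g * y * ((c : G) * g)⁻¹ = y' := by
    have hcy : (c : G) * y' = y' * (c : G) := by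
      have h5 : (c : G) ∈ centralizer ({y'} : Set G) := c.2
      rw [mem_centralizer_singleton_iff] at h5
      exact h5
    calc (c : G) * g * y * ((c : G) * g)⁻¹ = (c : G) * y' * (c : G)⁻¹ := by rw [hy']; group
      _ = y' * (c : G) * (c : G)⁻¹ := by rw [hcy]
      _ = y' := by group
  rw [h4] at h3
  rw [h3]
  exact conj_mem_zpowers e₂ hσP hσo hm hx hy

omit e₂ hσP hm in
/-- the involution of `Q` is a power of every nontrivial element of `Q` -/
theorem exists_pow_eq_invol {k : ℕ} (hmk : m = 2 ^ k) {l : ℕ} (hl : ¬ m ∣ l) :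
    ∃ j : ℕ, (σ ^ l) ^ j = σ ^ (m / 2) := by
  have hl0 : l ≠ 0 := fun h => hl (h ▸ dvd_zero m)
  obtain ⟨t, l', hodd, hl'⟩ := Nat.exists_eq_two_pow_mul_odd hl0
  have htk : t < k := by
    by_contra hcon
    push Not at hcon
    apply hl
    rw [hl', hmk]
    exact Dvd.dvd.mul_right (pow_dvd_pow 2 hcon) l'
  obtain ⟨q, hq⟩ := hodd
  refine ⟨2 ^ (k - 1 - t), ?_⟩
  have hm2 : m / 2 = 2 ^ (k - 1) := by
    rw [hmk]
    have : k = (k - 1) + 1 := by omega
    conv_lhs => rw [this, pow_succ]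
    rw [Nat.mul_div_cancel _ (by norm_num : 0 < 2)]
  have hσm : σ ^ m = 1 := by rw [← hσo]; exact pow_orderOf_eq_one σ
  rw [← pow_mul, hm2, hl', hq]
  have h1 : 2 ^ t * (2 * q + 1) * 2 ^ (k - 1 - t) = m * q + 2 ^ (k - 1) := by
    have e1 : 2 ^ t * 2 ^ (k - 1 - t) = 2 ^ (k - 1) := by
      rw [← pow_add]; congr 1; omega
    have e2 : m = 2 * 2 ^ (k - 1) := by
      rw [hmk]
      have : k = (k - 1) + 1 := by omega
      conv_lhs => rw [this, pow_succ]
      ring
    calc 2 ^ t * (2 * q + 1) * 2 ^ (k - 1 - t) = (2 ^ t * 2 ^ (k - 1 - t)) * (2 * q + 1) := by ring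
      _ = 2 ^ (k - 1) * (2 * q + 1) := by rw [e1]
      _ = m * q + 2 ^ (k - 1) := by rw [e2]; ring
  rw [h1, pow_add, pow_mul, hσm, one_pow, one_mul]

omit e₂ hσP hm in
theorem centralizer_le_centralizer_invol {k : ℕ} (hmk : m = 2 ^ k) {l : ℕ} (hl : ¬ m ∣ l) :
    centralizer ({σ ^ l} : Set G) ≤ centralizer ({σ ^ (m / 2)} : Set G) := by
  obtain ⟨j, hj⟩ := exists_pow_eq_invol hσo hmk hl
  intro x hx
  rw [mem_centralizer_singleton_iff] at hx ⊢
  rw [← hj]
  have hc : Commute x (σ ^ l) := hx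
  exact (hc.pow_right j).eq

/-- the involution of `Q` is central in `P` -/
theorem sylow_le_centralizer_invol (hmeven : 2 ∣ m) :
    (S₂ : Subgroup G) ≤ centralizer ({σ ^ (m / 2)} : Set G) := by
  intro x hx
  rw [mem_centralizer_singleton_iff]
  have hJ : σ ^ (m / 2) ∈ zpowers σ := Subgroup.npow_mem_zpowers σ _
  have hJ2 : (σ ^ (m / 2)) * (σ ^ (m / 2)) = 1 := by
    rw [← pow_add]
    have : m / 2 + m / 2 = m := by omega
    rw [this, ← hσo, pow_orderOf_eq_one]
  have hJinv : (σ ^ (m / 2))⁻¹ = σ ^ (m / 2) := inv_eq_of_mul_eq_one_right hJ2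
  have h1 : x * σ ^ (m / 2) * x⁻¹ = σ ^ (m / 2) := by
    rcases conj_mem_zpowers e₂ hσP hσo hm hx hJ with h | h
    · exact h
    · rw [h, hJinv]
  calc x * σ ^ (m / 2) = (x * σ ^ (m / 2) * x⁻¹) * x := by group
    _ = σ ^ (m / 2) * x := by rw [h1]

/-- the `2`-adic valuation of the centralizer of the involution of `Q` -/
theorem factorization_centralizer_invol {k : ℕ} (hmk : m = 2 ^ k) (hk : 1 ≤ k) :
    (Nat.card (centralizer ({σ ^ (m / 2)} : Set G))).factorization 2 = k + 1 := by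
  have : Fact (Nat.Prime 2) := ⟨Nat.prime_two⟩
  have hmeven : 2 ∣ m := by rw [hmk]; exact dvd_pow_self 2 (by omega)
  have hPC := sylow_le_centralizer_invol S₂ e₂ hσP hσo hm hmeven
  have hcardP : Nat.card (S₂ : Subgroup G) = 2 ^ (k + 1) := by
    rw [Helper55_DihedralCoord.card_eq e₂, hmk, pow_succ]; ring
  have hG : (Nat.card G).factorization 2 = k + 1 := by
    have := Sylow.card_eq_multiplicity S₂
    rw [hcardP] at this
    exact (Nat.pow_right_injective (le_refl 2) this).symm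
  apply le_antisymm
  · rw [← hG]
    have hdvd : Nat.card (centralizer ({σ ^ (m / 2)} : Set G)) ∣ Nat.card G :=
      Subgroup.card_subgroup_dvd_card _
    exact (Nat.factorization_le_iff_dvd Nat.card_pos.ne' Nat.card_pos.ne').2 hdvd 2
  · have hdvd : 2 ^ (k + 1) ∣ Nat.card (centralizer ({σ ^ (m / 2)} : Set G)) := by
      rw [← hcardP]
      exact Subgroup.card_dvd_of_le hPC
    exact (Nat.Prime.pow_dvd_iff_le_factorization Nat.prime_two Nat.card_pos.ne').1 hdvd

/-- the `2`-adic valuation of the centralizer of a non-involution of `Q` -/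
theorem factorization_centralizer {k : ℕ} (hmk : m = 2 ^ k) {y : G} (hy : y ∈ zpowers σ)
    (hy2 : y ^ 2 ≠ 1) : (Nat.card (centralizer ({y} : Set G))).factorization 2 = k := by
  have : Fact (Nat.Prime 2) := ⟨Nat.prime_two⟩
  obtain ⟨S₀⟩ := (inferInstance : Nonempty (Sylow 2 (centralizer ({y} : Set G))))
  have h1 := card_sylow_centralizer S₂ e₂ hσP hσo hm hmk hy hy2 S₀
  rw [Sylow.card_eq_multiplicity, hmk] at h1
  exact Nat.pow_right_injective (le_refl 2) h1

end sylow

end Cfsg.Agent.Lib.Helper17_DihGroup
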