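import Mathlib
import Cfsg.Prelude.Def_Blocks
import Cfsg.Agent.S0514
import Cfsg.Agent.Lib.Helper34_NPC
import Cfsg.Agent.Lib.Helper35_FrobeniusNPC
import Cfsg.Agent.Lib.Helper1_Cores
import Cfsg.Agent.Lib.Helper16_SectionNorm
import Cfsg.Agent.Lib.Helper16_BlockOrth
import Cfsg.Agent.Lib.Helper16_KleinBlock
import Cfsg.Agent.Lib.Helper30_SectionNorm
import Cfsg.Agent.Lib.Helper17_DihGroup

/-!
Block-theoretic relations for the powers of `σ` in a group with a dihedral Sylow `2`-subgroup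
(helper17).
-/

set_option autoImplicit false

namespace Cfsg.Agent.Lib.Helper17_DihBlock

open Cfsg Subgroup Cfsg.Agent.Lib.Helper35_FrobeniusNPC Cfsg.Agent.Lib.Helper17_DihGroup

open scoped ComplexConjugate

/-! ### powers indexed by `ZMod m` -/

section pw

variable {G : Type*} [Group G] {m : ℕ} [NeZero m] {σ : G} (hσo : orderOf σ = m)

/-- `σ ^ l` for `l : ZMod m` -/
def pw (σ : G) (l : ZMod m) : G := σ ^ l.val

omit [NeZero m] in
theorem pw_zero : pw σ (0 : ZMod m) = 1 := by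
  unfold pw
  rw [ZMod.val_zero, pow_zero]

include hσo

theorem pw_add (a b : ZMod m) : pw σ (a + b) = pw σ a * pw σ b := by
  unfold pw
  have h := pow_mod_orderOf σ (a.val + b.val)
  rw [hσo] at h
  rw [ZMod.val_add, h, pow_add]

theorem pw_neg (a : ZMod m) : pw σ (-a) = (pw σ a)⁻¹ := by
  apply eq_inv_of_mul_eq_one_left
  rw [← pw_add hσo, neg_add_cancel, pw_zero]

theorem pw_natCast (k : ℕ) : pw σ ((k : ℕ) : ZMod m) = σ ^ k := by
  unfold pw
  have h := pow_mod_orderOf σ k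
  rw [hσo] at h
  rw [ZMod.val_natCast, h]

theorem pw_eq_one_iff (a : ZMod m) : pw σ a = 1 ↔ a = 0 := by
  constructor
  · intro h
    unfold pw at h
    have h1 := orderOf_dvd_of_pow_eq_one h
    rw [hσo] at h1
    have h2 := Nat.eq_zero_of_dvd_of_lt h1 (ZMod.val_lt a)
    exact (ZMod.val_eq_zero a).1 h2
  · intro h
    rw [h, pw_zero]

theorem pw_injective : Function.Injective (pw σ : ZMod m → G) := by
  intro a b hab
  have h1 : pw σ (a - b) = 1 := by
    rw [sub_eq_add_neg, pw_add hσo, pw_neg hσo, hab, mul_inv_cancel]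
  exact sub_eq_zero.1 ((pw_eq_one_iff hσo _).1 h1)

omit hσo in
theorem pw_mem (a : ZMod m) : pw σ a ∈ zpowers σ := Subgroup.npow_mem_zpowers σ _

theorem pw_sq_eq_one_iff (a : ZMod m) : (pw σ a) ^ 2 = 1 ↔ a = -a := by
  rw [pow_two, ← pw_add hσo, pw_eq_one_iff hσo]
  constructor
  · intro h; exact eq_neg_of_add_eq_zero_left h
  · intro h
    nth_rewrite 1 [h]
    exact neg_add_cancel a

theorem mem_zpowers_iff_pw (y : G) : y ∈ zpowers σ ↔ ∃ a : ZMod m, y = pw σ a := by
  constructor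
  · intro hy
    obtain ⟨k, hk⟩ := Subgroup.mem_zpowers_iff.1 hy
    refine ⟨(k : ZMod m), ?_⟩
    unfold pw
    rw [← hk, ← zpow_natCast, ZMod.val_intCast, ← hσo, zpow_mod_orderOf]
  · rintro ⟨a, rfl⟩
    exact pw_mem a

end pw

/-! ### normal complements -/

theorem pPrimeCore_index_of_hasNPC {H : Type*} [Group H] [Finite H] (h : HasNPC 2 H) :
    ∃ k : ℕ, (pPrimeCore 2 H).index = 2 ^ k := by
  obtain ⟨K, hKn, hKc, a, hKi⟩ := h
  have hKN : K ≤ pPrimeCore 2 H := Helper1_Cores.le_pPrimeCore hKn hKc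
  have h1 : (pPrimeCore 2 H).index ∣ K.index := Subgroup.index_dvd_of_le hKN
  rw [hKi] at h1
  obtain ⟨b, _, hb⟩ := (Nat.dvd_prime_pow Nat.prime_two).mp h1
  exact ⟨b, hb⟩

variable {G : Type*} [Group G] [Finite G] {M : Ideal AlgInt}

/-- the norm of the column of a `2`-element with `2`-nilpotent centralizer -/
theorem col_norm (hM : IsPModular 2 M) (y : G) (hy : ∃ k : ℕ, orderOf y = 2 ^ k)
    (hnpc : HasNPC 2 (centralizer ({y} : Set G))) :
    ∑ᶠ χ ∈ principalBlock M G, (χ : G → ℂ) y * conj ((χ : G → ℂ) y) =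
      ((2 ^ (Nat.card (centralizer ({y} : Set G))).factorization 2 : ℕ) : ℂ) := by
  have : Fact (Nat.Prime 2) := ⟨Nat.prime_two⟩
  have hy1 : ¬ 2 ∣ orderOf (1 : centralizer ({y} : Set G)) := by
    rw [orderOf_one]; norm_num
  have h1 := Cfsg.Agent.Lib.Helper16_SectionNorm.principal_section_norm_complex hM y hy 1 hy1
  rw [Cfsg.Agent.Lib.Helper16_SectionNorm.principal_norm_of_normal_complement hM
    (pPrimeCore_index_of_hasNPC hnpc) 1 hy1] at h1
  simpa using h1

/-- orthogonality of the columns of non-conjugate `2`-elements -/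
theorem col_orth (hM : IsPModular 2 M) (y y' : G) (hy : ∃ k : ℕ, orderOf y = 2 ^ k)
    (hy' : ∃ k : ℕ, orderOf y' = 2 ^ k) (hnc : ¬ IsConj y y') :
    ∑ᶠ χ ∈ principalBlock M G, (χ : G → ℂ) y * conj ((χ : G → ℂ) y') = 0 := by
  have : Fact (Nat.Prime 2) := ⟨Nat.prime_two⟩
  exact Cfsg.Agent.Lib.Helper16_BlockOrth.block_orthogonality hM
    (Cfsg.Agent.Lib.Helper30_SectionNorm.isPBlock_principalBlock G)
    (Cfsg.Agent.Lib.Helper30_SectionNorm.isPPart_self hy)
    (Cfsg.Agent.Lib.Helper30_SectionNorm.isPPart_self hy') hnc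

/-- orthogonality of the column of a nontrivial `2`-element and that of an element of odd order -/
theorem col_orth_odd (hM : IsPModular 2 M) (y ρ : G) (hy : ∃ k : ℕ, orderOf y = 2 ^ k)
    (hy1 : y ≠ 1) (hρ : Odd (orderOf ρ)) :
    ∑ᶠ χ ∈ principalBlock M G, (χ : G → ℂ) y * conj ((χ : G → ℂ) ρ) = 0 := by
  have : Fact (Nat.Prime 2) := ⟨Nat.prime_two⟩
  have hρ' : IsPPart 2 ρ 1 := by
    refine ⟨ρ, one_mul ρ, Commute.one_left ρ, ⟨0, by rw [orderOf_one, pow_zero]⟩, ?_⟩
    intro h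
    exact (Nat.not_even_iff_odd.2 hρ) (even_iff_two_dvd.2 h)
  refine Cfsg.Agent.Lib.Helper16_BlockOrth.block_orthogonality hM
    (Cfsg.Agent.Lib.Helper30_SectionNorm.isPBlock_principalBlock G)
    (Cfsg.Agent.Lib.Helper30_SectionNorm.isPPart_self hy) hρ' ?_
  intro hc
  exact hy1 (isConj_one_left.1 hc)


section dihedral

variable (hM : IsPModular 2 M) {k : ℕ} (hk : 2 ≤ k) (P : Sylow 2 G)
  (e : ↥(P : Subgroup G) ≃* DihedralGroup (2 ^ k)) {σ : G} (hσP : σ ∈ (P : Subgroup G))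
  (hσo : orderOf σ = 2 ^ k)

omit [Finite G] in
theorem three_le_pow (hk : 2 ≤ k) : 3 ≤ 2 ^ k := by
  have : 2 ^ 2 ≤ 2 ^ k := Nat.pow_le_pow_right (by norm_num) hk
  omega

omit [Finite G] in
/-- the value of the middle residue -/
theorem val_of_eq_neg {l : ZMod (2 ^ k)} (hl : l ≠ 0) (h : l = -l) : l.val = 2 ^ k / 2 := by
  have h1 : l + l = 0 := by
    nth_rewrite 1 [h]
    exact neg_add_cancel l
  have h2 : ((l.val + l.val : ℕ) : ZMod (2 ^ k)) = 0 := by
    push_cast
    rw [ZMod.natCast_zmod_val, h1]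
  rw [ZMod.natCast_eq_zero_iff] at h2
  have h3 := ZMod.val_lt l
  have h4 : 0 < l.val := Nat.pos_of_ne_zero (fun h0 => hl ((ZMod.val_eq_zero l).1 h0))
  obtain ⟨c, hc⟩ := h2
  have hc1 : c = 1 := by
    rcases c with _ | _ | c
    · omega
    · rfl
    · exfalso
      have : 2 ^ k * (c + 1 + 1) = 2 ^ k * c + 2 ^ k + 2 ^ k := by ring
      omega
  rw [hc1, mul_one] at hc
  omega

include hk e hσP hσo

/-- centralizers of nontrivial elements of `Q` have normal `2`-complements -/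
theorem hasNPC_centralizer_pw (l : ZMod (2 ^ k)) (hl : l ≠ 0) :
    HasNPC 2 (centralizer ({pw σ l} : Set G)) := by
  have : Fact (Nat.Prime 2) := ⟨Nat.prime_two⟩
  have hm3 := three_le_pow (k := k) hk
  have hpos : 0 < 2 ^ k / 2 := by
    have : 2 ≤ 2 ^ k := by omega
    omega
  have hlt : 2 ^ k / 2 < 2 ^ k := by omega
  have heven : 2 ^ k / 2 * 2 = 2 ^ k := by
    have : 2 ∣ 2 ^ k := dvd_pow_self 2 (by omega)
    omega
  have hJ2 : orderOf (σ ^ (2 ^ k / 2)) = 2 := by
    apply orderOf_eq_prime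
    · rw [← pow_mul, heven, ← hσo, pow_orderOf_eq_one]
    · apply pow_ne_one_of_lt_orderOf hpos.ne'
      rw [hσo]; exact hlt
  obtain ⟨N, hN, hodd, j, hidx⟩ := Cfsg.Agent.S0514.result P (2 ^ k) (by omega) ⟨e⟩ _ hJ2
  have hJ : HasNPC 2 (centralizer ({σ ^ (2 ^ k / 2)} : Set G)) :=
    ⟨N, hN, hodd.coprime_two_right, j, hidx⟩
  have hnd : ¬ 2 ^ k ∣ l.val := by
    intro hd
    have h3 := ZMod.val_lt l
    have h4 : 0 < l.val := Nat.pos_of_ne_zero (fun h0 => hl ((ZMod.val_eq_zero l).1 h0))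
    have := Nat.le_of_dvd h4 hd
    omega
  exact Cfsg.Agent.Lib.Helper34_NPC.hasNPC_of_le
    (centralizer_le_centralizer_invol hσo rfl hnd) hJ

theorem pw_pow_two (l : ZMod (2 ^ k)) : ∃ j : ℕ, orderOf (pw σ l) = 2 ^ j := by
  have h1 : orderOf (pw σ l) ∣ 2 ^ k := by
    have h0 : orderOf (σ ^ l.val) ∣ orderOf σ := orderOf_pow_dvd _
    rw [hσo] at h0
    exact h0
  obtain ⟨j, -, hj⟩ := (Nat.dvd_prime_pow Nat.prime_two).1 h1
  exact ⟨j, hj⟩

include hM

/-- **the orthogonality relations of the columns of the powers of `σ`** -/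
theorem colrel (l l' : ZMod (2 ^ k)) (hl : l ≠ 0) (hl' : l' ≠ 0) :
    ∑ᶠ χ ∈ principalBlock M G, (χ : G → ℂ) (pw σ l) * conj ((χ : G → ℂ) (pw σ l')) =
      ((2 ^ k : ℕ) : ℂ) * ((if l = l' then 1 else 0) + (if l = -l' then 1 else 0)) := by
  have hm3 := three_le_pow (k := k) hk
  have hk1 : 1 ≤ k := by omega
  -- the norm of a column
  have hnorm : ∀ l : ZMod (2 ^ k), l ≠ 0 →
      ∑ᶠ χ ∈ principalBlock M G, (χ : G → ℂ) (pw σ l) * conj ((χ : G → ℂ) (pw σ l)) =
        ((2 ^ k : ℕ) : ℂ) * (1 + (if l = -l then 1 else 0)) := by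
    intro l hl
    rw [col_norm hM _ (pw_pow_two hk P e hσP hσo l) (hasNPC_centralizer_pw hk P e hσP hσo l hl)]
    by_cases h2 : l = -l
    · rw [if_pos h2]
      have hv := val_of_eq_neg hl h2
      have : pw σ l = σ ^ (2 ^ k / 2) := by unfold pw; rw [hv]
      rw [this, factorization_centralizer_invol P e hσP hσo hm3 rfl hk1]
      push_cast
      ring
    · rw [if_neg h2]
      have hy2 : (pw σ l) ^ 2 ≠ 1 := fun h => h2 ((pw_sq_eq_one_iff hσo l).1 h)
      rw [factorization_centralizer P e hσP hσo hm3 rfl (pw_mem l) hy2]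
      push_cast
      ring
  by_cases h1 : l = l'
  · rw [← h1, if_pos rfl, hnorm l hl]
  · rw [if_neg h1]
    by_cases h2 : l = -l'
    · rw [if_pos h2]
      obtain ⟨τ, -, hτ⟩ := exists_inverting e hσP hσo hm3
      have hl'eq : l' = -l := by rw [h2, neg_neg]
      have hval : ∀ χ : IrrCharacter G, (χ : G → ℂ) (pw σ l') = (χ : G → ℂ) (pw σ l) := by
        intro χ
        rw [hl'eq, pw_neg hσo, ← hτ _ (pw_mem l)]
        exact Cfsg.Agent.Lib.Helper78_CentralChar.isIrrCharacter_isClassFunction χ.2 _ _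
      simp only [hval]
      rw [hnorm l hl, if_neg]
      · ring
      · intro h3
        apply h1
        rw [hl'eq, ← h3]
    · rw [if_neg h2, add_zero, mul_zero]
      apply col_orth hM _ _ (pw_pow_two hk P e hσP hσo l) (pw_pow_two hk P e hσP hσo l')
      intro hc
      obtain ⟨g, hg⟩ := isConj_iff.1 hc
      by_cases h3 : (pw σ l) ^ 2 = 1
      · have h4 : (pw σ l') ^ 2 = 1 := by
          rw [← hg]
          have : (g * pw σ l * g⁻¹) ^ 2 = g * (pw σ l) ^ 2 * g⁻¹ := by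
            rw [pow_two, pow_two]; group
          rw [this, h3]; group
        have e1 := val_of_eq_neg hl ((pw_sq_eq_one_iff hσo l).1 h3)
        have e2 := val_of_eq_neg hl' ((pw_sq_eq_one_iff hσo l').1 h4)
        exact h1 (ZMod.val_injective _ (e1.trans e2.symm))
      · have hgy : g * pw σ l * g⁻¹ ∈ zpowers σ := by rw [hg]; exact pw_mem l'
        rcases fusion_zpowers P e hσP hσo hm3 rfl (pw_mem l) h3 hgy with h5 | h5
        · rw [hg] at h5
          exact h1 (pw_injective hσo h5).symm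
        · rw [hg, ← pw_neg hσo] at h5
          apply h2
          rw [pw_injective hσo h5, neg_neg]

end dihedral

end Cfsg.Agent.Lib.Helper17_DihBlock
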