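import Mathlib

/-!
Counting involutions in a group `O ⋊ P` with `O` of odd order and `P` a `2`-group (helper17):
orbits under conjugation by `O`, unique decomposition, involutions are conjugate to their
`P`-component, `2`-elements of a coset `O σ` are `O`-conjugate to `σ`.
-/

set_option autoImplicit false

namespace Cfsg.Agent.Lib.Helper17_DihCount

open Subgroup

variable {G : Type*} [Group G]

/-- a counting lemma of orbit-stabilizer type -/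
theorem card_range_mul {H X : Type*} [Group H] (C : Subgroup H) (f : H → X)
    (hf : ∀ μ ν, f μ = f ν ↔ μ⁻¹ * ν ∈ C) :
    Nat.card (Set.range f) * Nat.card C = Nat.card H := by
  rw [Subgroup.card_eq_card_quotient_mul_card_subgroup C]
  congr 1
  apply Nat.card_congr
  symm
  refine Equiv.ofBijective (Quotient.lift (s := QuotientGroup.leftRel C)
    (fun μ => (⟨f μ, μ, rfl⟩ : Set.range f)) ?_) ⟨?_, ?_⟩
  · intro μ ν h
    have h' : μ⁻¹ * ν ∈ C := QuotientGroup.leftRel_apply.1 h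
    exact Subtype.ext ((hf μ ν).2 h')
  · intro q q'
    refine Quotient.inductionOn₂' q q' ?_
    intro μ ν h
    apply Quotient.sound'
    rw [QuotientGroup.leftRel_apply]
    exact (hf μ ν).1 (congrArg Subtype.val h)
  · rintro ⟨_, μ, rfl⟩
    exact ⟨Quotient.mk'' μ, rfl⟩

/-- the orbit of `a` under conjugation by `O` -/
def orb (O : Subgroup G) (a : G) : Set G := {u | ∃ μ ∈ O, u = μ * a * μ⁻¹}

theorem mem_orb {O : Subgroup G} {a u : G} : u ∈ orb O a ↔ ∃ μ ∈ O, u = μ * a * μ⁻¹ := Iff.rfl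

theorem self_mem_orb (O : Subgroup G) (a : G) : a ∈ orb O a :=
  ⟨1, O.one_mem, by simp⟩

theorem orb_mono {O O' : Subgroup G} (h : O ≤ O') (a : G) : orb O a ⊆ orb O' a := by
  rintro u ⟨μ, hμ, rfl⟩
  exact ⟨μ, h hμ, rfl⟩

/-- orbit-stabilizer for the conjugation action of `O` -/
theorem card_orb (O : Subgroup G) (a : G) :
    Nat.card (orb O a) * Nat.card ↥(O ⊓ centralizer ({a} : Set G)) = Nat.card O := by
  set C : Subgroup O := (O ⊓ centralizer ({a} : Set G)).subgroupOf O with hC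
  have h1 : Nat.card C = Nat.card ↥(O ⊓ centralizer ({a} : Set G)) :=
    Nat.card_congr (Subgroup.subgroupOfEquivOfLe inf_le_left).toEquiv
  have h2 := card_range_mul C (fun μ : O => (μ : G) * a * (μ : G)⁻¹) (by
    intro μ ν
    rw [hC, Subgroup.mem_subgroupOf, Subgroup.mem_inf, Subgroup.mem_centralizer_singleton_iff]
    constructor
    · intro h
      refine ⟨(μ⁻¹ * ν).2, ?_⟩
      have h3 : ((μ⁻¹ * ν : O) : G) = (μ : G)⁻¹ * (ν : G) := rfl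
      rw [h3]
      calc (μ : G)⁻¹ * (ν : G) * a = (μ : G)⁻¹ * ((ν : G) * a * (ν : G)⁻¹) * (ν : G) := by group
        _ = (μ : G)⁻¹ * ((μ : G) * a * (μ : G)⁻¹) * (ν : G) := by rw [← h]
        _ = a * ((μ : G)⁻¹ * (ν : G)) := by group
    · rintro ⟨-, h⟩
      have h3 : ((μ⁻¹ * ν : O) : G) = (μ : G)⁻¹ * (ν : G) := rfl
      rw [h3] at h
      calc (μ : G) * a * (μ : G)⁻¹ = (μ : G) * (a * ((μ : G)⁻¹ * (ν : G))) * (ν : G)⁻¹ := by group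
        _ = (μ : G) * ((μ : G)⁻¹ * (ν : G) * a) * (ν : G)⁻¹ := by rw [h]
        _ = (ν : G) * a * (ν : G)⁻¹ := by group)
  rw [h1] at h2
  rw [← h2]
  congr 1
  apply Nat.card_congr
  apply Equiv.setCongr
  ext u
  constructor
  · rintro ⟨μ, hμ, rfl⟩
    exact ⟨⟨μ, hμ⟩, rfl⟩
  · rintro ⟨μ, rfl⟩
    exact ⟨μ.1, μ.2, rfl⟩

/-- `O` of odd order, normalized by the `2`-group `P` -/
structure Frame (O P : Subgroup G) : Prop where
  hodd : Odd (Nat.card O)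
  hP : ∀ p ∈ P, ∃ j : ℕ, p ^ (2 ^ j) = 1
  hnorm : ∀ p ∈ P, ∀ ρ ∈ O, p * ρ * p⁻¹ ∈ O

namespace Frame

variable {O P : Subgroup G} (F : Frame O P)

include F

theorem finite : Finite O := by
  apply Nat.finite_of_card_ne_zero
  intro h
  have := F.hodd
  rw [h] at this
  exact absurd this (by decide)

theorem orderOf_dvd {ρ : G} (hρ : ρ ∈ O) : orderOf ρ ∣ Nat.card O := by
  have := F.finite
  have h := orderOf_dvd_natCard (⟨ρ, hρ⟩ : O)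
  rwa [Subgroup.orderOf_mk] at h

theorem orderOf_odd {ρ : G} (hρ : ρ ∈ O) : Odd (orderOf ρ) :=
  Odd.of_dvd_nat F.hodd (F.orderOf_dvd hρ)

theorem pow_card {ρ : G} (hρ : ρ ∈ O) : ρ ^ Nat.card O = 1 :=
  orderOf_dvd_iff_pow_eq_one.1 (F.orderOf_dvd hρ)

theorem eq_one {x : G} (hO : x ∈ O) (hP : x ∈ P) : x = 1 := by
  obtain ⟨j, hj⟩ := F.hP x hP
  have h1 : orderOf x ∣ 2 ^ j := orderOf_dvd_of_pow_eq_one hj
  have h2 : orderOf x ∣ Nat.card O := F.orderOf_dvd hO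
  have h3 : Nat.Coprime (2 ^ j) (Nat.card O) :=
    Nat.Coprime.pow_left j (Nat.coprime_two_left.2 F.hodd)
  exact orderOf_eq_one_iff.1 (Nat.eq_one_of_dvd_coprimes h3 h1 h2)

theorem unique {ρ ρ' p p' : G} (hρ : ρ ∈ O) (hρ' : ρ' ∈ O) (hp : p ∈ P) (hp' : p' ∈ P)
    (h : ρ * p = ρ' * p') : ρ = ρ' ∧ p = p' := by
  have h1 : ρ'⁻¹ * ρ = p' * p⁻¹ := by
    calc ρ'⁻¹ * ρ = ρ'⁻¹ * (ρ * p) * p⁻¹ := by group
      _ = ρ'⁻¹ * (ρ' * p') * p⁻¹ := by rw [h]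
      _ = p' * p⁻¹ := by group
  have h2 : ρ'⁻¹ * ρ = 1 := by
    apply F.eq_one (O.mul_mem (O.inv_mem hρ') hρ)
    rw [h1]
    exact P.mul_mem hp' (P.inv_mem hp)
  have h3 : ρ = ρ' := (inv_mul_eq_one.1 h2).symm
  refine ⟨h3, ?_⟩
  rw [h3] at h
  exact mul_left_cancel h

theorem eq_one_of_mul_mem {ρ q : G} (hρ : ρ ∈ O) (hq : q ∈ P) (h : ρ * q ∈ O) : q = 1 := by
  apply F.eq_one _ hq
  have : q = ρ⁻¹ * (ρ * q) := by group
  rw [this]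
  exact O.mul_mem (O.inv_mem hρ) h

theorem conj_mem' {p ρ : G} (hp : p ∈ P) (hρ : ρ ∈ O) : p⁻¹ * ρ * p ∈ O := by
  have := F.hnorm p⁻¹ (P.inv_mem hp) ρ hρ
  rwa [inv_inv] at this

/-- an element of `O` inverted by `s` gives a conjugate of `s` -/
theorem conj_of_inverted {ρ s : G} (hρ : ρ ∈ O) (h : s * ρ * s⁻¹ = ρ⁻¹) :
    ∃ μ ∈ O, ρ * s = μ * s * μ⁻¹ := by
  obtain ⟨t, ht⟩ := F.orderOf_odd hρ
  refine ⟨ρ ^ (t + 1), O.pow_mem hρ _, ?_⟩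
  have h5 : s * ρ ^ (t + 1) * s⁻¹ = (ρ ^ (t + 1))⁻¹ := by
    rw [← inv_pow, ← h, conj_pow]
  have h6 : ρ ^ (t + 1) * ρ ^ (t + 1) = ρ := by
    rw [← pow_add]
    have : t + 1 + (t + 1) = orderOf ρ + 1 := by omega
    rw [this, pow_succ, pow_orderOf_eq_one, one_mul]
  calc ρ * s = ρ ^ (t + 1) * ρ ^ (t + 1) * s := by rw [h6]
    _ = ρ ^ (t + 1) * (s * ρ ^ (t + 1) * s⁻¹)⁻¹ * s := by rw [h5, inv_inv]
    _ = ρ ^ (t + 1) * s * (ρ ^ (t + 1))⁻¹ := by group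

/-- an involution of `O P` is `O`-conjugate to its `P`-component -/
theorem invol {ρ a : G} (hρ : ρ ∈ O) (ha : a ∈ P) (h : (ρ * a) * (ρ * a) = 1) :
    a * a = 1 ∧ ρ * a ∈ orb O a := by
  have h1 : (ρ * (a * ρ * a⁻¹)) * (a * a) = 1 * 1 := by
    rw [one_mul, ← h]; group
  obtain ⟨h2, h3⟩ := F.unique (O.mul_mem hρ (F.hnorm a ha ρ hρ)) O.one_mem (P.mul_mem ha ha)
    P.one_mem h1
  refine ⟨h3, ?_⟩
  have h4 : a * ρ * a⁻¹ = ρ⁻¹ := eq_inv_of_mul_eq_one_right h2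
  exact F.conj_of_inverted hρ h4

theorem orb_mul_inv {u a : G} (ha : a ∈ P) (hu : u ∈ orb O a) : u * a⁻¹ ∈ O := by
  obtain ⟨μ, hμ, rfl⟩ := hu
  have h1 : μ * a * μ⁻¹ * a⁻¹ = μ * (a * μ⁻¹ * a⁻¹) := by group
  rw [h1]
  exact O.mul_mem hμ (F.hnorm a ha _ (O.inv_mem hμ))

/-- the product of two elements in terms of the components -/
theorem prod_mem_iff {u v a b y : G} (ha : a ∈ P) (hb : b ∈ P) (hy : y ∈ P) (hu : u * a⁻¹ ∈ O)
    (hv : v * b⁻¹ ∈ O) : u * v * y⁻¹ ∈ O ↔ a * b = y := by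
  have hρ : u * a⁻¹ * (a * (v * b⁻¹) * a⁻¹) ∈ O := O.mul_mem hu (F.hnorm a ha _ hv)
  have h1 : u * v * y⁻¹ = u * a⁻¹ * (a * (v * b⁻¹) * a⁻¹) * (a * b * y⁻¹) := by group
  have hq : a * b * y⁻¹ ∈ P := P.mul_mem (P.mul_mem ha hb) (P.inv_mem hy)
  constructor
  · intro h
    rw [h1] at h
    have := F.eq_one_of_mul_mem hρ hq h
    exact mul_inv_eq_one.1 this
  · intro h
    rw [h1, h, mul_inv_cancel, mul_one]
    exact hρ

theorem pow_decomp {ρ p : G} (hρ : ρ ∈ O) (hp : p ∈ P) (n : ℕ) :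
    (ρ * p) ^ n * (p ^ n)⁻¹ ∈ O := by
  induction n with
  | zero => simp
  | succ n ih =>
    have h1 : (ρ * p) ^ (n + 1) * (p ^ (n + 1))⁻¹ =
        ((ρ * p) ^ n * (p ^ n)⁻¹) * (p ^ n * ρ * (p ^ n)⁻¹) := by
      rw [pow_succ, pow_succ]; group
    rw [h1]
    exact O.mul_mem ih (F.hnorm _ (P.pow_mem hp n) ρ hρ)

/-- `2`-elements of the coset `O σ` are `O`-conjugate to `σ` -/
theorem conj_two_elt (k : ℕ) : ∀ σ w : G, σ ∈ P → σ ^ (2 ^ k) = 1 → w * σ⁻¹ ∈ O →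
    w ^ (2 ^ k) = 1 → ∃ g ∈ O, w = g * σ * g⁻¹ := by
  induction k with
  | zero =>
    intro σ w _ h1 _ h2
    rw [pow_zero, pow_one] at h1 h2
    exact ⟨1, O.one_mem, by rw [h1, h2]; simp⟩
  | succ k ih =>
    intro σ w hσ h1 h2 h3
    have e1 : 2 ^ (k + 1) = 2 * 2 ^ k := by rw [pow_succ]; ring
    have h4 : (σ ^ 2) ^ (2 ^ k) = 1 := by rw [← pow_mul, ← e1, h1]
    have h5 : (w ^ 2) ^ (2 ^ k) = 1 := by rw [← pow_mul, ← e1, h3]
    have h6 : w ^ 2 * (σ ^ 2)⁻¹ ∈ O := by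
      have := F.pow_decomp h2 hσ 2
      rwa [inv_mul_cancel_right] at this
    obtain ⟨g, hg, hw2⟩ := ih (σ ^ 2) (w ^ 2) (P.pow_mem hσ 2) h4 h6 h5
    -- the element `w' = g⁻¹ w g`
    have hρ : g⁻¹ * w * g * σ⁻¹ ∈ O := by
      have : g⁻¹ * w * g * σ⁻¹ = g⁻¹ * (w * σ⁻¹) * (σ * g * σ⁻¹) := by group
      rw [this]
      exact O.mul_mem (O.mul_mem (O.inv_mem hg) h2) (F.hnorm σ hσ g hg)
    have hsq : (g⁻¹ * w * g) * (g⁻¹ * w * g) = σ * σ := by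
      have : (g⁻¹ * w * g) * (g⁻¹ * w * g) = g⁻¹ * w ^ 2 * g := by rw [pow_two]; group
      rw [this, hw2, pow_two]; group
    -- `σ` inverts `ρ`
    have hinv : σ * (g⁻¹ * w * g * σ⁻¹) * σ⁻¹ = (g⁻¹ * w * g * σ⁻¹)⁻¹ := by
      apply eq_inv_of_mul_eq_one_right
      calc g⁻¹ * w * g * σ⁻¹ * (σ * (g⁻¹ * w * g * σ⁻¹) * σ⁻¹)
          = (g⁻¹ * w * g) * (g⁻¹ * w * g) * σ⁻¹ * σ⁻¹ := by group
        _ = 1 := by rw [hsq]; group
    obtain ⟨μ, hμ, hμe⟩ := F.conj_of_inverted hρ hinv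
    rw [inv_mul_cancel_right] at hμe
    refine ⟨g * μ, O.mul_mem hg hμ, ?_⟩
    calc w = g * (g⁻¹ * w * g) * g⁻¹ := by group
      _ = g * (μ * σ * μ⁻¹) * g⁻¹ := by rw [hμe]
      _ = g * μ * σ * (g * μ)⁻¹ := by group

/-- an exponent congruent to `1` modulo `2 ^ k` and divisible by the order of `O` -/
theorem exists_exponent (k : ℕ) : ∃ N : ℕ, N ≡ 1 [MOD 2 ^ k] ∧ Nat.card O ∣ N := by
  have h3 : Nat.Coprime (2 ^ k) (Nat.card O) :=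
    Nat.Coprime.pow_left k (Nat.coprime_two_left.2 F.hodd)
  obtain ⟨N, h1, h2⟩ := Nat.chineseRemainder h3 1 0
  exact ⟨N, h1, (Nat.modEq_zero_iff_dvd).1 h2⟩

end Frame

theorem pow_eq_self_of_modEq {x : G} {k N : ℕ} (hx : x ^ (2 ^ k) = 1) (hN : N ≡ 1 [MOD 2 ^ k]) :
    x ^ N = x := by
  have h1 : orderOf x ∣ 2 ^ k := orderOf_dvd_of_pow_eq_one hx
  have h2 : N ≡ 1 [MOD orderOf x] := hN.of_dvd h1
  have := pow_eq_pow_iff_modEq.2 h2
  rwa [pow_one] at this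

namespace Frame

variable {O P : Subgroup G} (F : Frame O P)

include F

/-- conjugating the base point by an element of `P` does not change the size of the orbit -/
theorem card_orb_conj {p : G} (hp : p ∈ P) (a : G) :
    Nat.card (orb O (p * a * p⁻¹)) = Nat.card (orb O a) := by
  apply Nat.card_congr
  refine ⟨fun u => ⟨p⁻¹ * u.1 * p, ?_⟩, fun u => ⟨p * u.1 * p⁻¹, ?_⟩, ?_, ?_⟩
  · obtain ⟨μ, hμ, hu⟩ := u.2
    refine ⟨p⁻¹ * μ * p, F.conj_mem' hp hμ, ?_⟩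
    rw [hu]; group
  · obtain ⟨μ, hμ, hu⟩ := u.2
    refine ⟨p * μ * p⁻¹, F.hnorm p hp μ hμ, ?_⟩
    rw [hu]; group
  · intro u
    apply Subtype.ext
    show p * (p⁻¹ * u.1 * p) * p⁻¹ = u.1
    group
  · intro u
    apply Subtype.ext
    show p⁻¹ * (p * u.1 * p⁻¹) * p = u.1
    group

omit F in
/-- translating the base point by an element centralizing `O` does not change the size of the
orbit -/
theorem card_orb_mul {c : G} (hc : ∀ μ ∈ O, μ * c = c * μ) (a : G) :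
    Nat.card (orb O (c * a)) = Nat.card (orb O a) := by
  apply Nat.card_congr
  refine ⟨fun u => ⟨c⁻¹ * u.1, ?_⟩, fun u => ⟨c * u.1, ?_⟩, ?_, ?_⟩
  · obtain ⟨μ, hμ, hu⟩ := u.2
    refine ⟨μ, hμ, ?_⟩
    rw [hu]
    calc c⁻¹ * (μ * (c * a) * μ⁻¹) = c⁻¹ * (μ * c) * a * μ⁻¹ := by group
      _ = c⁻¹ * (c * μ) * a * μ⁻¹ := by rw [hc μ hμ]
      _ = μ * a * μ⁻¹ := by group
  · obtain ⟨μ, hμ, hu⟩ := u.2
    refine ⟨μ, hμ, ?_⟩
    rw [hu]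
    calc c * (μ * a * μ⁻¹) = (c * μ) * a * μ⁻¹ := by group
      _ = (μ * c) * a * μ⁻¹ := by rw [hc μ hμ]
      _ = μ * (c * a) * μ⁻¹ := by group
  · intro u
    apply Subtype.ext
    show c * (c⁻¹ * u.1) = u.1
    group
  · intro u
    apply Subtype.ext
    show c⁻¹ * (c * u.1) = u.1
    group

/-- the elements of `O` conjugating `z ∈ O σ` into `C_O(σ) σ` form a coset of `C_O(σ)` -/
theorem exists_coset {σ z : G} {k : ℕ} (hσ : σ ∈ P) (hσk : σ ^ (2 ^ k) = 1) (hz : z * σ⁻¹ ∈ O) :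
    ∃ g₀ ∈ O, ∀ g ∈ O, (g⁻¹ * z * g * σ⁻¹ ∈ O ⊓ centralizer ({σ} : Set G) ↔
      g₀⁻¹ * g ∈ O ⊓ centralizer ({σ} : Set G)) := by
  obtain ⟨N, hN1, hN2⟩ := F.exists_exponent k
  obtain ⟨q, hq⟩ := hN2
  have hσN : σ ^ N = σ := pow_eq_self_of_modEq hσk hN1
  have hzρ : z = z * σ⁻¹ * σ := by group
  -- `w = z ^ N` is a `2`-element of `O σ`
  have hw1 : z ^ N * σ⁻¹ ∈ O := by
    have := F.pow_decomp hz hσ N
    rwa [← hzρ, hσN] at this
  have hw2 : (z ^ N) ^ (2 ^ k) = 1 := by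
    have h1 : z ^ (2 ^ k) ∈ O := by
      have := F.pow_decomp hz hσ (2 ^ k)
      rwa [← hzρ, hσk, inv_one, mul_one] at this
    rw [← pow_mul, mul_comm, pow_mul, hq, pow_mul, F.pow_card h1, one_pow]
  obtain ⟨g₀, hg₀, hw⟩ := F.conj_two_elt k σ (z ^ N) hσ hσk hw1 hw2
  refine ⟨g₀, hg₀, ?_⟩
  intro g hg
  rw [Subgroup.mem_inf, Subgroup.mem_inf, Subgroup.mem_centralizer_singleton_iff,
    Subgroup.mem_centralizer_singleton_iff]
  constructor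
  · rintro ⟨h1, h2⟩
    refine ⟨O.mul_mem (O.inv_mem hg₀) hg, ?_⟩
    -- `(g⁻¹ z g) ^ N = σ`
    have h3 : (g⁻¹ * z * g) ^ N = σ := by
      have e1 : g⁻¹ * z * g = (g⁻¹ * z * g * σ⁻¹) * σ := by group
      have hc : Commute (g⁻¹ * z * g * σ⁻¹) σ := h2
      rw [e1, hc.mul_pow, hσN, hq, pow_mul, F.pow_card h1, one_pow, one_mul]
    have h4 : (g⁻¹ * z * g) ^ N = g⁻¹ * z ^ N * g := by
      have := conj_pow (a := g⁻¹) (b := z) (i := N)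
      rw [inv_inv] at this
      exact this
    rw [h4, hw] at h3
    -- `g⁻¹ g₀` commutes with `σ`
    calc g₀⁻¹ * g * σ = g₀⁻¹ * g * (g⁻¹ * (g₀ * σ * g₀⁻¹) * g) := by rw [h3]
      _ = σ * (g₀⁻¹ * g) := by group
  · rintro ⟨h1, h2⟩
    -- `z₀ = g₀⁻¹ z g₀`
    have h3 : (g₀⁻¹ * z * g₀) ^ N = σ := by
      have := conj_pow (a := g₀⁻¹) (b := z) (i := N)
      rw [inv_inv] at this
      rw [this, hw]; group
    have h4 : Commute (g₀⁻¹ * z * g₀) σ := by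
      have : Commute (g₀⁻¹ * z * g₀) ((g₀⁻¹ * z * g₀) ^ N) := Commute.pow_right (Commute.refl _) N
      rwa [h3] at this
    have h5 : g₀⁻¹ * z * g₀ * σ⁻¹ ∈ O := by
      have : g₀⁻¹ * z * g₀ * σ⁻¹ = g₀⁻¹ * (z * σ⁻¹) * (σ * g₀ * σ⁻¹) := by group
      rw [this]
      exact O.mul_mem (O.mul_mem (O.inv_mem hg₀) hz) (F.hnorm σ hσ g₀ hg₀)
    have h6 : g⁻¹ * z * g * σ⁻¹ =
        (g₀⁻¹ * g)⁻¹ * (g₀⁻¹ * z * g₀ * σ⁻¹) * (σ * (g₀⁻¹ * g) * σ⁻¹) := by group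
    have h7 : σ * (g₀⁻¹ * g) * σ⁻¹ = g₀⁻¹ * g := by
      rw [← h2]; group
    rw [h7] at h6
    refine ⟨?_, ?_⟩
    · rw [h6]
      exact O.mul_mem (O.mul_mem (O.inv_mem h1) h5) h1
    · rw [h6]
      have hc1 : Commute (g₀⁻¹ * g) σ := h2
      have hc2 : Commute (g₀⁻¹ * z * g₀ * σ⁻¹) σ := h4.mul_left (Commute.refl σ).inv_left
      exact ((hc1.inv_left.mul_left hc2).mul_left hc1).eq

end Frame

end Cfsg.Agent.Lib.Helper17_DihCount
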