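import Mathlib
import Cfsg.Agent.Lib.Helper17_DihFourier

/-!
From the orthogonality relations of the columns of the powers of `σ` to the Gram relations of the
multiplicity vectors (helper17).
-/

set_option autoImplicit false

namespace Cfsg.Agent.Lib.Helper17_DihGram

open scoped ComplexConjugate
open Cfsg.Agent.Lib.Helper17_DihFourier

variable {ι : Type*} [Fintype ι] {m : ℕ} [NeZero m] {ζ : ℂ}

/-- the model Gram matrix -/
noncomputable def G0 (r s : ZMod m) : ℂ :=
  (if r = 0 then 0 else 1) * (if s = 0 then 0 else 1) *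
    ((if r = s then 1 else 0) + (if r = -s then 1 else 0) + 2)

theorem G0_transform (hζ : IsPrimitiveRoot ζ m) {l l' : ZMod m} (hl : l ≠ 0) (hl' : l' ≠ 0) :
    ∑ r : ZMod m, ∑ s : ZMod m, G0 r s * ee ζ (r * l) * ee ζ (-(s * l')) =
      (m : ℂ) * ((if l = l' then 1 else 0) + (if l = -l' then 1 else 0)) := by
  have h1 := hζ.pow_eq_one
  set nz : ZMod m → ℂ := fun r => if r = 0 then 0 else 1 with hnz
  have hnzsq : ∀ r : ZMod m, nz r * nz r = nz r := by
    intro r; simp only [hnz]; split_ifs <;> norm_num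
  have hnzneg : ∀ r : ZMod m, nz (-r) = nz r := by
    intro r; simp only [hnz, neg_eq_zero]
  -- the three pieces
  have hsplit : ∀ r s : ZMod m, G0 r s * ee ζ (r * l) * ee ζ (-(s * l')) =
      (if s = r then nz r * nz s * ee ζ (r * l) * ee ζ (-(s * l')) else 0) +
      (if s = -r then nz r * nz s * ee ζ (r * l) * ee ζ (-(s * l')) else 0) +
      2 * ((nz r * ee ζ (r * l)) * (nz s * ee ζ (-(s * l')))) := by
    intro r s
    unfold G0
    have e1 : (if r = s then (1 : ℂ) else 0) = if s = r then 1 else 0 := by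
      by_cases h : r = s
      · rw [if_pos h, if_pos h.symm]
      · rw [if_neg h, if_neg (fun h' => h h'.symm)]
    have e2 : (if r = -s then (1 : ℂ) else 0) = if s = -r then 1 else 0 := by
      by_cases h : r = -s
      · rw [if_pos h, if_pos (by rw [h, neg_neg])]
      · rw [if_neg h, if_neg (fun h' => h (by rw [h', neg_neg]))]
    rw [e1, e2]
    simp only [hnz]
    split_ifs <;> ring
  simp only [hsplit, Finset.sum_add_distrib]
  -- first piece
  have hA : ∑ r : ZMod m, ∑ s : ZMod m,
      (if s = r then nz r * nz s * ee ζ (r * l) * ee ζ (-(s * l')) else 0) =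
      (m : ℂ) * (if l = l' then 1 else 0) - 1 := by
    have : ∀ r : ZMod m, ∑ s : ZMod m,
        (if s = r then nz r * nz s * ee ζ (r * l) * ee ζ (-(s * l')) else 0) =
        ee ζ (r * (l - l')) - (if r = 0 then 1 else 0) := by
      intro r
      rw [Finset.sum_ite_eq' Finset.univ r, if_pos (Finset.mem_univ _), hnzsq, mul_assoc,
        ← ee_add h1]
      have e : r * l + -(r * l') = r * (l - l') := by ring
      rw [e]
      simp only [hnz]
      split_ifs with hr
      · rw [hr, zero_mul, zero_mul, ee_zero]; ring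
      · ring
    simp only [this]
    rw [Finset.sum_sub_distrib, sum_ee_mul' hζ, Finset.sum_ite_eq' Finset.univ (0 : ZMod m),
      if_pos (Finset.mem_univ _)]
    by_cases hll : l = l'
    · rw [if_pos hll, if_pos (sub_eq_zero.2 hll)]; ring
    · rw [if_neg hll, if_neg (fun h => hll (sub_eq_zero.1 h))]; ring
  have hB : ∑ r : ZMod m, ∑ s : ZMod m,
      (if s = -r then nz r * nz s * ee ζ (r * l) * ee ζ (-(s * l')) else 0) =
      (m : ℂ) * (if l = -l' then 1 else 0) - 1 := by
    have : ∀ r : ZMod m, ∑ s : ZMod m,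
        (if s = -r then nz r * nz s * ee ζ (r * l) * ee ζ (-(s * l')) else 0) =
        ee ζ (r * (l + l')) - (if r = 0 then 1 else 0) := by
      intro r
      rw [Finset.sum_ite_eq' Finset.univ (-r), if_pos (Finset.mem_univ _), hnzneg, hnzsq, mul_assoc,
        ← ee_add h1]
      have e : r * l + -(-r * l') = r * (l + l') := by ring
      rw [e]
      simp only [hnz]
      split_ifs with hr
      · rw [hr, zero_mul, zero_mul, ee_zero]; ring
      · ring
    simp only [this]
    rw [Finset.sum_sub_distrib, sum_ee_mul' hζ, Finset.sum_ite_eq' Finset.univ (0 : ZMod m),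
      if_pos (Finset.mem_univ _)]
    by_cases hll : l = -l'
    · rw [if_pos hll, if_pos (by rw [hll, neg_add_cancel])]; ring
    · rw [if_neg hll, if_neg (fun h => hll (eq_neg_of_add_eq_zero_left h))]; ring
  have hC : ∑ r : ZMod m, ∑ s : ZMod m,
      2 * ((nz r * ee ζ (r * l)) * (nz s * ee ζ (-(s * l')))) = 2 := by
    simp only [← Finset.mul_sum, ← Finset.sum_mul]
    have e1 : ∑ r : ZMod m, nz r * ee ζ (r * l) = -1 := by
      rw [← sum_ee_ne_zero hζ hl]
      refine Finset.sum_congr rfl fun r _ => ?_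
      simp only [hnz]; split_ifs <;> ring
    have e2 : ∑ s : ZMod m, nz s * ee ζ (-(s * l')) = -1 := by
      rw [← sum_ee_ne_zero hζ (neg_ne_zero.2 hl')]
      refine Finset.sum_congr rfl fun r _ => ?_
      have : -(r * l') = r * -l' := by ring
      rw [this]
      simp only [hnz]; split_ifs <;> ring
    rw [e1, e2]; ring
  rw [hA, hB, hC]; ring

/-- **The Gram relations.** -/
theorem gram (hζ : IsPrimitiveRoot ζ m) (u : ι → ZMod m → ℤ) (hu0 : ∀ χ, u χ 0 = 0)
    (val : ι → ZMod m → ℂ)
    (hval : ∀ χ l, l ≠ 0 → val χ l = ∑ r : ZMod m, (u χ r : ℂ) * ee ζ (r * l))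
    (H1 : ∀ l l' : ZMod m, l ≠ 0 → l' ≠ 0 → ∑ χ, val χ l * conj (val χ l') =
      (m : ℂ) * ((if l = l' then 1 else 0) + (if l = -l' then 1 else 0)))
    (r s : ZMod m) (hr : r ≠ 0) (hs : s ≠ 0) :
    ∑ χ, u χ r * u χ s = (if r = s then 1 else 0) + (if r = -s then 1 else 0) + 2 := by
  have h1 := hζ.pow_eq_one
  set f : ZMod m → ZMod m → ℂ := fun r s => (∑ χ, (u χ r : ℂ) * (u χ s : ℂ)) - G0 r s with hf
  have hf0 : ∀ r s, f r s = 0 := by
    apply eq_zero_of_transform₂ hζ f
    · intro s
      simp only [hf, hu0, Int.cast_zero, zero_mul, Finset.sum_const_zero, G0, if_true, sub_zero]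
    · intro r
      simp only [hf, hu0, Int.cast_zero, mul_zero, Finset.sum_const_zero, G0, if_true, zero_mul,
        sub_zero]
    · intro l l' hl hl'
      simp only [hf, sub_mul, Finset.sum_sub_distrib]
      rw [G0_transform hζ hl hl', ← H1 l l' hl hl', sub_eq_zero]
      simp only [Finset.sum_mul]
      rw [Finset.sum_comm]
      conv_lhs =>
        arg 2; ext s
        rw [Finset.sum_comm]
      rw [Finset.sum_comm]
      refine Finset.sum_congr rfl fun χ _ => ?_
      rw [hval χ l hl, hval χ l' hl', map_sum, Finset.sum_mul_sum]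
      rw [Finset.sum_comm]
      refine Finset.sum_congr rfl fun r _ => Finset.sum_congr rfl fun s _ => ?_
      rw [map_mul, map_intCast, conj_ee h1]
      ring
  have h2 := hf0 r s
  simp only [hf, G0, if_neg hr, if_neg hs, one_mul, sub_eq_zero] at h2
  have h3 : ((∑ χ, u χ r * u χ s : ℤ) : ℂ) =
      (((if r = s then 1 else 0) + (if r = -s then 1 else 0) + 2 : ℤ) : ℂ) := by
    push_cast
    rw [h2]
  exact_mod_cast h3

/-- the degree relations -/
theorem degree_rel (hζ : IsPrimitiveRoot ζ m) (u : ι → ZMod m → ℤ) (hu0 : ∀ χ, u χ 0 = 0)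
    (val : ι → ZMod m → ℂ)
    (hval : ∀ χ l, l ≠ 0 → val χ l = ∑ r : ZMod m, (u χ r : ℂ) * ee ζ (r * l))
    (w : ι → ℂ) (H2 : ∀ l : ZMod m, l ≠ 0 → ∑ χ, w χ * val χ l = 0) (r : ZMod m) :
    ∑ χ, w χ * (u χ r : ℂ) = 0 := by
  apply eq_zero_of_transform hζ (fun r => ∑ χ, w χ * (u χ r : ℂ))
  · simp only [hu0, Int.cast_zero, mul_zero, Finset.sum_const_zero]
  · intro l hl
    rw [← H2 l hl]
    simp only [Finset.sum_mul]
    rw [Finset.sum_comm]
    refine Finset.sum_congr rfl fun χ _ => ?_
    rw [hval χ l hl, Finset.mul_sum]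
    refine Finset.sum_congr rfl fun s _ => ?_
    ring

end Cfsg.Agent.Lib.Helper17_DihGram
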