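import Mathlib

/-!
The integer lattice argument for the principal `2`-block of a group with dihedral Sylow
`2`-subgroups (helper17): supports of small-norm integer vectors.
-/

set_option autoImplicit false

namespace Cfsg.Agent.Lib.Helper17_DihLattice

variable {ι : Type*} [DecidableEq ι]

/-- peel off one coordinate of a small-norm integer vector -/
theorem peel (f : ι → ℤ) (S : Finset ι) (k : ℤ) (hk0 : 0 ≤ k) (hk : k ≤ 2)
    (h : ∑ χ ∈ S, f χ ^ 2 = k + 1) :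
    ∃ p ∈ S, (f p = 1 ∨ f p = -1) ∧ ∑ χ ∈ S.erase p, f χ ^ 2 = k := by
  have hex : ∃ p ∈ S, f p ≠ 0 := by
    by_contra hcon
    push Not at hcon
    have : ∑ χ ∈ S, f χ ^ 2 = 0 := Finset.sum_eq_zero fun χ hχ => by rw [hcon χ hχ]; ring
    omega
  obtain ⟨p, hpS, hp⟩ := hex
  have hsplit : f p ^ 2 + ∑ χ ∈ S.erase p, f χ ^ 2 = ∑ χ ∈ S, f χ ^ 2 :=
    Finset.add_sum_erase S (fun χ => f χ ^ 2) hpS
  have hnn : 0 ≤ ∑ χ ∈ S.erase p, f χ ^ 2 := Finset.sum_nonneg fun χ _ => sq_nonneg (f χ)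
  have hle : f p ^ 2 ≤ 3 := by omega
  have hb : -1 ≤ f p ∧ f p ≤ 1 := by
    constructor <;> nlinarith
  have hval : f p = 1 ∨ f p = -1 := by omega
  refine ⟨p, hpS, hval, ?_⟩
  have hsq : f p ^ 2 = 1 := by
    rcases hval with h1 | h1 <;> rw [h1] <;> norm_num
  omega

theorem eq_zero_of_sum_sq_zero (f : ι → ℤ) (S : Finset ι) (h : ∑ χ ∈ S, f χ ^ 2 = 0) :
    ∀ χ ∈ S, f χ = 0 := by
  intro χ hχ
  have h1 := (Finset.sum_eq_zero_iff_of_nonneg (fun i _ => sq_nonneg (f i))).1 h χ hχ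
  exact pow_eq_zero_iff (two_ne_zero) |>.1 h1

variable [Fintype ι]

/-- a vector of norm `2` pairing to `1` with a positive vector -/
theorem two_support (f x : ι → ℤ) (hx : ∀ χ, 0 < x χ) (h2 : ∑ χ, f χ ^ 2 = 2)
    (h1 : ∑ χ, x χ * f χ = 1) :
    ∃ p q : ι, p ≠ q ∧ (∀ χ, f χ = (if χ = p then 1 else 0) - (if χ = q then 1 else 0)) ∧
      x p = x q + 1 := by
  obtain ⟨p, -, hp, hrest⟩ := peel f Finset.univ 1 (by norm_num) (by norm_num) (by rw [h2]; norm_num)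
  obtain ⟨q, hqS, hq, hrest2⟩ := peel f (Finset.univ.erase p) 0 (by norm_num) (by norm_num)
    (by rw [hrest]; norm_num)
  have hqp : q ≠ p := (Finset.mem_erase.1 hqS).1
  have hzero : ∀ χ, χ ≠ p → χ ≠ q → f χ = 0 := by
    intro χ h1 h2
    apply eq_zero_of_sum_sq_zero f _ hrest2
    rw [Finset.mem_erase, Finset.mem_erase]
    exact ⟨h2, h1, Finset.mem_univ _⟩
  have hsum : ∑ χ, x χ * f χ = x p * f p + x q * f q := by
    rw [← Finset.add_sum_erase Finset.univ _ (Finset.mem_univ p),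
      ← Finset.add_sum_erase (Finset.univ.erase p) _ hqS]
    have : ∑ χ ∈ (Finset.univ.erase p).erase q, x χ * f χ = 0 := by
      refine Finset.sum_eq_zero fun χ hχ => ?_
      rw [Finset.mem_erase, Finset.mem_erase] at hχ
      rw [hzero χ hχ.2.1 hχ.1, mul_zero]
    rw [this, add_zero]
  rw [hsum] at h1
  have hxp := hx p
  have hxq := hx q
  rcases hp with hp | hp <;> rcases hq with hq | hq
  · rw [hp, hq] at h1; omega
  · refine ⟨p, q, hqp.symm, ?_, ?_⟩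
    · intro χ
      by_cases h3 : χ = p
      · rw [h3, if_pos rfl, if_neg hqp.symm, hp]; norm_num
      · by_cases h4 : χ = q
        · rw [h4, if_neg hqp, if_pos rfl, hq]; norm_num
        · rw [if_neg h3, if_neg h4, hzero χ h3 h4]; norm_num
    · rw [hp, hq] at h1; omega
  · refine ⟨q, p, hqp, ?_, ?_⟩
    · intro χ
      by_cases h3 : χ = p
      · rw [h3, if_pos rfl, if_neg hqp.symm, hp]; norm_num
      · by_cases h4 : χ = q
        · rw [h4, if_neg hqp, if_pos rfl, hq]; norm_num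
        · rw [if_neg h3, if_neg h4, hzero χ h3 h4]; norm_num
    · rw [hp, hq] at h1; omega
  · rw [hp, hq] at h1; omega

/-- a vector of norm `3` -/
theorem three_support (f : ι → ℤ) (h3 : ∑ χ, f χ ^ 2 = 3) :
    ∃ p q t : ι, p ≠ q ∧ p ≠ t ∧ q ≠ t ∧ (f p = 1 ∨ f p = -1) ∧ (f q = 1 ∨ f q = -1) ∧
      (f t = 1 ∨ f t = -1) ∧ ∀ χ, χ ≠ p → χ ≠ q → χ ≠ t → f χ = 0 := by
  obtain ⟨p, -, hp, hrest⟩ := peel f Finset.univ 2 (by norm_num) (by norm_num) (by rw [h3]; norm_num)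
  obtain ⟨q, hqS, hq, hrest2⟩ := peel f (Finset.univ.erase p) 1 (by norm_num) (by norm_num)
    (by rw [hrest]; norm_num)
  obtain ⟨t, htS, ht, hrest3⟩ := peel f ((Finset.univ.erase p).erase q) 0 (by norm_num)
    (by norm_num) (by rw [hrest2]; norm_num)
  have hqp : q ≠ p := (Finset.mem_erase.1 hqS).1
  have htq : t ≠ q := (Finset.mem_erase.1 htS).1
  have htp : t ≠ p := (Finset.mem_erase.1 (Finset.mem_erase.1 htS).2).1
  refine ⟨p, q, t, hqp.symm, htp.symm, htq.symm, hp, hq, ht, ?_⟩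
  intro χ h1 h2 h4
  apply eq_zero_of_sum_sq_zero f _ hrest3
  rw [Finset.mem_erase, Finset.mem_erase, Finset.mem_erase]
  exact ⟨h4, h2, h1, Finset.mem_univ _⟩


/-- a vector of norm `3`, closed form -/
theorem three_support' (f : ι → ℤ) (h3 : ∑ χ, f χ ^ 2 = 3) :
    ∃ (p q t : ι) (ε₁ ε₂ ε₃ : ℤ), p ≠ q ∧ p ≠ t ∧ q ≠ t ∧ (ε₁ = 1 ∨ ε₁ = -1) ∧ (ε₂ = 1 ∨ ε₂ = -1) ∧
      (ε₃ = 1 ∨ ε₃ = -1) ∧ ∀ χ, f χ = ε₁ * (if χ = p then 1 else 0) + ε₂ * (if χ = q then 1 else 0) +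
        ε₃ * (if χ = t then 1 else 0) := by
  obtain ⟨p, q, t, hpq, hpt, hqt, hp, hq, ht, hz⟩ := three_support f h3
  refine ⟨p, q, t, f p, f q, f t, hpq, hpt, hqt, hp, hq, ht, ?_⟩
  intro χ
  by_cases h1 : χ = p
  · rw [h1, if_pos rfl, if_neg hpq, if_neg hpt]; ring
  · by_cases h2 : χ = q
    · rw [h2, if_neg hpq.symm, if_pos rfl, if_neg hqt]; ring
    · by_cases h4 : χ = t
      · rw [h4, if_neg hpt.symm, if_neg hqt.symm, if_pos rfl]; ring
      · rw [if_neg h1, if_neg h2, if_neg h4, hz χ h1 h2 h4]; ring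

theorem sum_mul_ind (g : ι → ℤ) (p : ι) : ∑ χ, g χ * (if χ = p then 1 else 0) = g p := by
  simp only [mul_ite, mul_one, mul_zero]
  rw [Finset.sum_ite_eq' Finset.univ p, if_pos (Finset.mem_univ _)]

theorem sum_ind_mul (g : ι → ℤ) (p : ι) : ∑ χ, (if χ = p then 1 else 0) * g χ = g p := by
  simp only [ite_mul, one_mul, zero_mul]
  rw [Finset.sum_ite_eq' Finset.univ p, if_pos (Finset.mem_univ _)]

/-- pigeonhole for three -/
theorem pigeon3 {y₁ y₂ y₃ t₁ t₂ t₃ : ι} (h12 : y₁ ≠ y₂) (h13 : y₁ ≠ y₃) (h23 : y₂ ≠ y₃)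
    (h1 : y₁ = t₁ ∨ y₁ = t₂ ∨ y₁ = t₃) (h2 : y₂ = t₁ ∨ y₂ = t₂ ∨ y₂ = t₃)
    (h3 : y₃ = t₁ ∨ y₃ = t₂ ∨ y₃ = t₃) (P : ι → Prop) (hP : P y₁ ∧ P y₂ ∧ P y₃) :
    P t₁ ∧ P t₂ ∧ P t₃ := by
  obtain ⟨hP1, hP2, hP3⟩ := hP
  rcases h1 with h1 | h1 | h1 <;> rcases h2 with h2 | h2 | h2 <;> rcases h3 with h3 | h3 | h3 <;>
    first
    | exact absurd (h1.trans h2.symm) h12
    | exact absurd (h1.trans h3.symm) h13
    | exact absurd (h2.trans h3.symm) h23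
    | (subst h1; subst h2; subst h3; exact ⟨hP1, hP2, hP3⟩)
    | (subst h1; subst h2; subst h3; exact ⟨hP1, hP3, hP2⟩)
    | (subst h1; subst h2; subst h3; exact ⟨hP2, hP1, hP3⟩)
    | (subst h1; subst h2; subst h3; exact ⟨hP2, hP3, hP1⟩)
    | (subst h1; subst h2; subst h3; exact ⟨hP3, hP1, hP2⟩)
    | (subst h1; subst h2; subst h3; exact ⟨hP3, hP2, hP1⟩)

end Cfsg.Agent.Lib.Helper17_DihLattice
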