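import Mathlib
import Cfsg.Agent.Lib.Helper17_DihLattice

/-!
The shape of the principal `2`-block of a group with dihedral Sylow `2`-subgroups, abstractly
(helper17): from the Gram relations of the multiplicity vectors to the list of characters.
-/

set_option autoImplicit false

namespace Cfsg.Agent.Lib.Helper17_DihShape

open Cfsg.Agent.Lib.Helper17_DihLattice

variable {ι : Type*} [DecidableEq ι] [Fintype ι] {m : ℕ}

/-- the hypotheses -/
structure Hyp (u : ι → ZMod m → ℤ) (x : ι → ℤ) (o : ι) (h : ZMod m) : Prop where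
  hh0 : h ≠ 0
  hhneg : -h = h
  hhuniq : ∀ r : ZMod m, r ≠ 0 → -r = r → r = h
  hu0 : ∀ χ, u χ 0 = 0
  husymm : ∀ χ r, u χ (-r) = u χ r
  hxpos : ∀ χ, 0 < x χ
  huo : ∀ r, r ≠ 0 → u o r = -1
  hxo : x o = 1
  F1 : ∀ r s, r ≠ 0 → s ≠ 0 →
    ∑ χ, u χ r * u χ s = (if r = s then 1 else 0) + (if r = -s then 1 else 0) + 2
  F2 : ∀ r, ∑ χ, x χ * u χ r = 0
  H4 : ∀ χ, ∃ r, u χ r ≠ 0

variable {u : ι → ZMod m → ℤ} {x : ι → ℤ} {o : ι} {h : ZMod m}

theorem Hyp.ne_neg (H : Hyp u x o h) {r : ZMod m} (hr0 : r ≠ 0) (hrh : r ≠ h) : r ≠ -r := by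
  intro hc
  exact hrh (H.hhuniq r hr0 hc.symm)

theorem Hyp.neg_ne_zero (_H : Hyp u x o h) {r : ZMod m} (hr0 : r ≠ 0) : -r ≠ 0 :=
  _root_.neg_ne_zero.2 hr0

theorem Hyp.neg_ne_h (H : Hyp u x o h) {r : ZMod m} (hrh : r ≠ h) : -r ≠ h := by
  intro hc
  apply hrh
  rw [← neg_neg r, hc, H.hhneg]

/-- the column of a generic residue -/
theorem Hyp.col (H : Hyp u x o h) {r : ZMod m} (hr0 : r ≠ 0) (hrh : r ≠ h) :
    ∃ p q : ι, p ≠ q ∧ p ≠ o ∧ q ≠ o ∧ x p = x q + 1 ∧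
      ∀ χ, u χ r = (if χ = p then 1 else 0) - (if χ = q then 1 else 0) -
        (if χ = o then 1 else 0) := by
  set f : ι → ℤ := fun χ => if χ = o then 0 else u χ r with hf
  have hfsq : ∀ χ, f χ ^ 2 = u χ r ^ 2 - (if χ = o then 1 else 0) := by
    intro χ
    by_cases hχ : χ = o
    · simp only [hf, if_pos hχ]
      rw [hχ, H.huo r hr0]; norm_num
    · simp only [hf, if_neg hχ]; ring
  have h2 : ∑ χ, f χ ^ 2 = 2 := by
    simp only [hfsq]
    rw [Finset.sum_sub_distrib, Finset.sum_ite_eq' Finset.univ o, if_pos (Finset.mem_univ _)]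
    have := H.F1 r r hr0 hr0
    rw [if_pos rfl, if_neg (H.ne_neg hr0 hrh)] at this
    have h3 : ∑ χ, u χ r ^ 2 = ∑ χ, u χ r * u χ r :=
      Finset.sum_congr rfl fun χ _ => by ring
    rw [h3, this]; norm_num
  have hfx : ∀ χ, x χ * f χ = x χ * u χ r + (if χ = o then 1 else 0) := by
    intro χ
    by_cases hχ : χ = o
    · simp only [hf, if_pos hχ]
      rw [hχ, H.huo r hr0, H.hxo]; norm_num
    · simp only [hf, if_neg hχ]; ring
  have h1 : ∑ χ, x χ * f χ = 1 := by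
    simp only [hfx]
    rw [Finset.sum_add_distrib, Finset.sum_ite_eq' Finset.univ o, if_pos (Finset.mem_univ _),
      H.F2 r]; norm_num
  obtain ⟨p, q, hpq, hform, hxpq⟩ := two_support f x H.hxpos h2 h1
  have hfo : f o = 0 := by simp only [hf, if_pos rfl]
  have hpo : p ≠ o := by
    intro hc
    have := hform o
    rw [hfo, hc, if_pos rfl] at this
    by_cases hq : o = q
    · exact hpq (hc.trans hq)
    · rw [if_neg hq] at this; omega
  have hqo : q ≠ o := by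
    intro hc
    have := hform o
    rw [hfo, hc, if_pos rfl] at this
    by_cases hp : o = p
    · exact hpq (hp.symm.trans hc.symm)
    · rw [if_neg hp] at this; omega
  refine ⟨p, q, hpq, hpo, hqo, hxpq, ?_⟩
  intro χ
  have := hform χ
  by_cases hχ : χ = o
  · rw [hχ, if_neg hpo.symm, if_neg hqo.symm, if_pos rfl, H.huo r hr0]; norm_num
  · simp only [hf, if_neg hχ] at this
    rw [this, if_neg hχ]; ring

/-- the column of the middle residue -/
theorem Hyp.colh (H : Hyp u x o h) :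
    ∃ (t₁ t₂ t₃ : ι) (ε₁ ε₂ ε₃ : ℤ), t₁ ≠ t₂ ∧ t₁ ≠ t₃ ∧ t₂ ≠ t₃ ∧ t₁ ≠ o ∧ t₂ ≠ o ∧ t₃ ≠ o ∧
      (ε₁ = 1 ∨ ε₁ = -1) ∧ (ε₂ = 1 ∨ ε₂ = -1) ∧ (ε₃ = 1 ∨ ε₃ = -1) ∧
      (∀ χ, u χ h = ε₁ * (if χ = t₁ then 1 else 0) + ε₂ * (if χ = t₂ then 1 else 0) +
        ε₃ * (if χ = t₃ then 1 else 0) - (if χ = o then 1 else 0)) ∧
      ε₁ * x t₁ + ε₂ * x t₂ + ε₃ * x t₃ = 1 := by
  set f : ι → ℤ := fun χ => if χ = o then 0 else u χ h with hf
  have hfsq : ∀ χ, f χ ^ 2 = u χ h ^ 2 - (if χ = o then 1 else 0) := by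
    intro χ
    by_cases hχ : χ = o
    · simp only [hf, if_pos hχ]
      rw [hχ, H.huo h H.hh0]; norm_num
    · simp only [hf, if_neg hχ]; ring
  have h3 : ∑ χ, f χ ^ 2 = 3 := by
    simp only [hfsq]
    rw [Finset.sum_sub_distrib, Finset.sum_ite_eq' Finset.univ o, if_pos (Finset.mem_univ _)]
    have := H.F1 h h H.hh0 H.hh0
    rw [if_pos rfl, if_pos H.hhneg.symm] at this
    have h4 : ∑ χ, u χ h ^ 2 = ∑ χ, u χ h * u χ h :=
      Finset.sum_congr rfl fun χ _ => by ring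
    rw [h4, this]; norm_num
  obtain ⟨t₁, t₂, t₃, ε₁, ε₂, ε₃, h12, h13, h23, he1, he2, he3, hform⟩ := three_support' f h3
  have hfo : f o = 0 := by simp only [hf, if_pos rfl]
  have hne : ∀ t ε, (ε = 1 ∨ ε = -1) → f t = ε → t ≠ o := by
    intro t ε hε hft hc
    rw [hc, hfo] at hft
    rcases hε with h | h <;> omega
  have hft1 : f t₁ = ε₁ := by
    rw [hform t₁, if_pos rfl, if_neg h12, if_neg h13]; ring
  have hft2 : f t₂ = ε₂ := by
    rw [hform t₂, if_neg h12.symm, if_pos rfl, if_neg h23]; ring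
  have hft3 : f t₃ = ε₃ := by
    rw [hform t₃, if_neg h13.symm, if_neg h23.symm, if_pos rfl]; ring
  have h1o := hne t₁ ε₁ he1 hft1
  have h2o := hne t₂ ε₂ he2 hft2
  have h3o := hne t₃ ε₃ he3 hft3
  have hu : ∀ χ, u χ h = ε₁ * (if χ = t₁ then 1 else 0) + ε₂ * (if χ = t₂ then 1 else 0) +
      ε₃ * (if χ = t₃ then 1 else 0) - (if χ = o then 1 else 0) := by
    intro χ
    have := hform χ
    by_cases hχ : χ = o
    · rw [hχ, if_neg h1o.symm, if_neg h2o.symm, if_neg h3o.symm, if_pos rfl, H.huo h H.hh0]; ring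
    · simp only [hf, if_neg hχ] at this
      rw [this, if_neg hχ]; ring
  refine ⟨t₁, t₂, t₃, ε₁, ε₂, ε₃, h12, h13, h23, h1o, h2o, h3o, he1, he2, he3, hu, ?_⟩
  have hF2 := H.F2 h
  simp only [hu] at hF2
  have hexp : ∀ χ, x χ * (ε₁ * (if χ = t₁ then 1 else 0) + ε₂ * (if χ = t₂ then 1 else 0) +
      ε₃ * (if χ = t₃ then 1 else 0) - (if χ = o then 1 else 0)) =
      ε₁ * (x χ * (if χ = t₁ then 1 else 0)) + ε₂ * (x χ * (if χ = t₂ then 1 else 0)) +
      ε₃ * (x χ * (if χ = t₃ then 1 else 0)) - x χ * (if χ = o then 1 else 0) := fun χ => by ring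
  simp only [hexp] at hF2
  rw [Finset.sum_sub_distrib, Finset.sum_add_distrib, Finset.sum_add_distrib, ← Finset.mul_sum,
    ← Finset.mul_sum, ← Finset.mul_sum, sum_mul_ind, sum_mul_ind, sum_mul_ind, sum_mul_ind,
    H.hxo] at hF2
  omega

/-- pairing a generic column against anything -/
theorem sum_col_mul {v : ι → ℤ} {p q o : ι}
    (hv : ∀ χ, v χ = (if χ = p then 1 else 0) - (if χ = q then 1 else 0) -
      (if χ = o then 1 else 0)) (g : ι → ℤ) : ∑ χ, v χ * g χ = g p - g q - g o := by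
  simp only [hv, sub_mul]
  rw [Finset.sum_sub_distrib, Finset.sum_sub_distrib, sum_ind_mul, sum_ind_mul, sum_ind_mul]


/-- `p, q` describe the column of `r` -/
structure IsCol (u : ι → ZMod m → ℤ) (x : ι → ℤ) (o : ι) (r : ZMod m) (p q : ι) : Prop where
  hpq : p ≠ q
  hpo : p ≠ o
  hqo : q ≠ o
  hx : x p = x q + 1
  hform : ∀ χ, u χ r = (if χ = p then 1 else 0) - (if χ = q then 1 else 0) -
    (if χ = o then 1 else 0)

theorem Hyp.isCol (H : Hyp u x o h) {r : ZMod m} (hr0 : r ≠ 0) (hrh : r ≠ h) :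
    ∃ p q : ι, IsCol u x o r p q := by
  obtain ⟨p, q, h1, h2, h3, h4, h5⟩ := H.col hr0 hrh
  exact ⟨p, q, ⟨h1, h2, h3, h4, h5⟩⟩

theorem IsCol.apply_p {r : ZMod m} {p q : ι} (C : IsCol u x o r p q) : u p r = 1 := by
  rw [C.hform p, if_pos rfl, if_neg C.hpq, if_neg C.hpo]; norm_num

theorem IsCol.apply_q {r : ZMod m} {p q : ι} (C : IsCol u x o r p q) : u q r = -1 := by
  rw [C.hform q, if_neg C.hpq.symm, if_pos rfl, if_neg C.hqo]; norm_num

theorem IsCol.eq_p {r : ZMod m} {p q : ι} (C : IsCol u x o r p q) {χ : ι} (hχ : u χ r = 1) :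
    χ = p := by
  by_contra hne
  rw [C.hform χ, if_neg hne] at hχ
  by_cases h1 : χ = q <;> by_cases h2 : χ = o
  · rw [if_pos h1, if_pos h2] at hχ; omega
  · rw [if_pos h1, if_neg h2] at hχ; omega
  · rw [if_neg h1, if_pos h2] at hχ; omega
  · rw [if_neg h1, if_neg h2] at hχ; omega

theorem IsCol.eq_q {r : ZMod m} {p q : ι} (C : IsCol u x o r p q) {χ : ι} (hχ : u χ r = -1)
    (hχo : χ ≠ o) : χ = q := by
  by_contra hne
  rw [C.hform χ, if_neg hne, if_neg hχo] at hχ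
  by_cases h1 : χ = p
  · rw [if_pos h1] at hχ; omega
  · rw [if_neg h1] at hχ; omega

theorem IsCol.eq_zero {r : ZMod m} {p q : ι} (C : IsCol u x o r p q) {χ : ι} (h1 : χ ≠ p)
    (h2 : χ ≠ q) (h3 : χ ≠ o) : u χ r = 0 := by
  rw [C.hform χ, if_neg h1, if_neg h2, if_neg h3]; norm_num

/-- columns of `r` and `-r`, or the same `r`, coincide -/
theorem IsCol.congr {r s : ZMod m} {p q p' q' : ι} (C : IsCol u x o r p q)
    (C' : IsCol u x o s p' q') (hus : ∀ χ, u χ s = u χ r) : p' = p ∧ q' = q := by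
  constructor
  · apply C.eq_p
    rw [← hus, C'.apply_p]
  · apply C.eq_q _ C'.hqo
    rw [← hus, C'.apply_q]

/-- two generic columns share exactly one of their two members -/
theorem Hyp.pair_rel (H : Hyp u x o h) {r s : ZMod m} (hr0 : r ≠ 0) (hs0 : s ≠ 0)
    (hrs : r ≠ s) (hrs' : r ≠ -s) {p q p' q' : ι} (C : IsCol u x o r p q)
    (C' : IsCol u x o s p' q') : (p = p' ∧ q ≠ q') ∨ (p ≠ p' ∧ q = q') := by
  have h1 := H.F1 r s hr0 hs0
  rw [if_neg hrs, if_neg hrs', sum_col_mul C.hform (fun χ => u χ s), H.huo s hs0] at h1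
  rw [C'.hform p, C'.hform q, if_neg C.hpo, if_neg C.hqo] at h1
  have hxC := C.hx
  have hxC' := C'.hx
  split_ifs at h1 <;>
    first
    | omega
    | exact Or.inl ⟨‹p = p'›, ‹¬ q = q'›⟩
    | exact Or.inr ⟨‹¬ p = p'›, ‹q = q'›⟩
    | (exfalso; exact C'.hpq ((‹p = p'›).symm.trans ‹p = q'›))
    | (exfalso; exact C.hpq ((‹p = p'›).trans (‹q = p'›).symm))


/-- values of the middle column lie in `{-1, 0, 1}` -/
theorem Hyp.h_range (H : Hyp u x o h) (χ : ι) : -1 ≤ u χ h ∧ u χ h ≤ 1 := by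
  obtain ⟨t₁, t₂, t₃, ε₁, ε₂, ε₃, h12, h13, h23, h1o, h2o, h3o, he1, he2, he3, hu, -⟩ := H.colh
  rw [hu χ]
  by_cases c1 : χ = t₁
  · rw [c1, if_pos rfl, if_neg h12, if_neg h13, if_neg h1o]
    rcases he1 with e | e <;> rw [e] <;> norm_num
  · by_cases c2 : χ = t₂
    · rw [c2, if_neg h12.symm, if_pos rfl, if_neg h23, if_neg h2o]
      rcases he2 with e | e <;> rw [e] <;> norm_num
    · by_cases c3 : χ = t₃
      · rw [c3, if_neg h13.symm, if_neg h23.symm, if_pos rfl, if_neg h3o]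
        rcases he3 with e | e <;> rw [e] <;> norm_num
      · rw [if_neg c1, if_neg c2, if_neg c3]
        by_cases c4 : χ = o
        · rw [if_pos c4]; norm_num
        · rw [if_neg c4]; norm_num

/-- a generic column against the middle column -/
theorem Hyp.col_h (H : Hyp u x o h) {r : ZMod m} (hr0 : r ≠ 0) (hrh : r ≠ h) {p q : ι}
    (C : IsCol u x o r p q) : u p h - u q h = 1 := by
  have h1 := H.F1 r h hr0 H.hh0
  have hne : r ≠ -h := by rw [H.hhneg]; exact hrh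
  rw [if_neg hrh, if_neg hne, sum_col_mul C.hform (fun χ => u χ h), H.huo h H.hh0] at h1
  omega

/-- three members of the support of the middle column with the same value exhaust it -/
theorem Hyp.three_same (H : Hyp u x o h) {y₁ y₂ y₃ : ι} (h12 : y₁ ≠ y₂) (h13 : y₁ ≠ y₃)
    (h23 : y₂ ≠ y₃) (h1o : y₁ ≠ o) (h2o : y₂ ≠ o) (h3o : y₃ ≠ o) {ε : ℤ} (hε : ε = 1 ∨ ε = -1)
    (hy1 : u y₁ h = ε) (hy2 : u y₂ h = ε) (hy3 : u y₃ h = ε) :
    ε * (x y₁ + x y₂ + x y₃) = 1 := by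
  obtain ⟨t₁, t₂, t₃, ε₁, ε₂, ε₃, g12, g13, g23, g1o, g2o, g3o, he1, he2, he3, hu, hrel⟩ := H.colh
  have hmem : ∀ y, y ≠ o → u y h = ε → y = t₁ ∨ y = t₂ ∨ y = t₃ := by
    intro y hyo hy
    by_contra hcon
    push Not at hcon
    rw [hu y, if_neg hcon.1, if_neg hcon.2.1, if_neg hcon.2.2, if_neg hyo] at hy
    rcases hε with e | e <;> omega
  have hut1 : u t₁ h = ε₁ := by
    rw [hu t₁, if_pos rfl, if_neg g12, if_neg g13, if_neg g1o]; ring
  have hut2 : u t₂ h = ε₂ := by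
    rw [hu t₂, if_neg g12.symm, if_pos rfl, if_neg g23, if_neg g2o]; ring
  have hut3 : u t₃ h = ε₃ := by
    rw [hu t₃, if_neg g13.symm, if_neg g23.symm, if_pos rfl, if_neg g3o]; ring
  -- the `t`s are among the `y`s
  have hP := pigeon3 h12 h13 h23 (hmem y₁ h1o hy1) (hmem y₂ h2o hy2) (hmem y₃ h3o hy3)
    (fun χ => u χ h = ε) ⟨hy1, hy2, hy3⟩
  have hQ := pigeon3 h12 h13 h23 (hmem y₁ h1o hy1) (hmem y₂ h2o hy2) (hmem y₃ h3o hy3)
    (fun χ => χ = y₁ ∨ χ = y₂ ∨ χ = y₃) ⟨Or.inl rfl, Or.inr (Or.inl rfl), Or.inr (Or.inr rfl)⟩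
  obtain ⟨hP1, hP2, hP3⟩ := hP
  rw [hut1] at hP1
  rw [hut2] at hP2
  rw [hut3] at hP3
  rw [hP1, hP2, hP3] at hrel
  -- the sum of the degrees
  have hsum : x t₁ + x t₂ + x t₃ = x y₁ + x y₂ + x y₃ := by
    obtain ⟨q1, q2, q3⟩ := hQ
    rcases q1 with q1 | q1 | q1 <;> rcases q2 with q2 | q2 | q2 <;> rcases q3 with q3 | q3 | q3 <;>
      first
      | exact absurd (q1.trans q2.symm) g12
      | exact absurd (q1.trans q3.symm) g13
      | exact absurd (q2.trans q3.symm) g23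
      | (rw [q1, q2, q3]; try ring)
  rw [← hsum]
  linarith


/-- the intermediate description: a centre `a` with sign `η` -/
structure Mid (u : ι → ZMod m → ℤ) (x : ι → ℤ) (o : ι) (h : ZMod m) where
  a : ι
  η : ℤ
  b : ZMod m → ι
  hη : η = 1 ∨ η = -1
  hao : a ≠ o
  hbo : ∀ r, r ≠ 0 → r ≠ h → b r ≠ o
  hba : ∀ r, r ≠ 0 → r ≠ h → b r ≠ a
  hxb : ∀ r, r ≠ 0 → r ≠ h → x (b r) = x a - η
  hform : ∀ r, r ≠ 0 → r ≠ h → ∀ χ, u χ r =
    η * ((if χ = a then 1 else 0) - (if χ = b r then 1 else 0)) - (if χ = o then 1 else 0)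
  hbinj : ∀ r s, r ≠ 0 → r ≠ h → s ≠ 0 → s ≠ h → b r = b s → r = s ∨ r = -s
  hbneg : ∀ r, r ≠ 0 → r ≠ h → b (-r) = b r
  hah : u a h = η
  hbh : ∀ r, r ≠ 0 → r ≠ h → u (b r) h = 0

section cols

variable (H : Hyp u x o h) (p q : ZMod m → ι)
  (hC : ∀ r, r ≠ 0 → r ≠ h → IsCol u x o r (p r) (q r))

include H hC

theorem same_class {r s : ZMod m} (hr0 : r ≠ 0) (hrh : r ≠ h) (hs : s = r ∨ s = -r) :
    p s = p r ∧ q s = q r := by
  rcases hs with hs | hs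
  · rw [hs]; exact ⟨rfl, rfl⟩
  · have hs0 : s ≠ 0 := by rw [hs]; exact H.neg_ne_zero hr0
    have hsh : s ≠ h := by rw [hs]; exact H.neg_ne_h hrh
    exact (hC r hr0 hrh).congr (hC s hs0 hsh) (fun χ => by rw [hs, H.husymm])

theorem mid_of_p (a : ι) (hpa : ∀ r, r ≠ 0 → r ≠ h → p r = a) (hah : u a h = 1)
    (hR : ∃ r : ZMod m, r ≠ 0 ∧ r ≠ h) : Nonempty (Mid u x o h) := by
  obtain ⟨r₀, hr₀, hr₀h⟩ := hR
  refine ⟨⟨a, 1, q, Or.inl rfl, ?_, ?_, ?_, ?_, ?_, ?_, ?_, hah, ?_⟩⟩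
  · rw [← hpa r₀ hr₀ hr₀h]; exact (hC r₀ hr₀ hr₀h).hpo
  · intro r hr0 hrh; exact (hC r hr0 hrh).hqo
  · intro r hr0 hrh
    rw [← hpa r hr0 hrh]; exact (hC r hr0 hrh).hpq.symm
  · intro r hr0 hrh
    have := (hC r hr0 hrh).hx
    rw [hpa r hr0 hrh] at this
    omega
  · intro r hr0 hrh χ
    rw [(hC r hr0 hrh).hform χ, hpa r hr0 hrh]; ring
  · intro r s hr0 hrh hs0 hsh hqq
    by_contra hcon
    push Not at hcon
    rcases H.pair_rel hr0 hs0 hcon.1 hcon.2 (hC r hr0 hrh) (hC s hs0 hsh) with h1 | h1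
    · exact h1.2 hqq
    · exact h1.1 ((hpa r hr0 hrh).trans (hpa s hs0 hsh).symm)
  · intro r hr0 hrh
    exact (same_class H p q hC hr0 hrh (Or.inr rfl)).2
  · intro r hr0 hrh
    have := H.col_h hr0 hrh (hC r hr0 hrh)
    rw [hpa r hr0 hrh, hah] at this
    omega

theorem mid_of_q (a : ι) (hqa : ∀ r, r ≠ 0 → r ≠ h → q r = a) (hah : u a h = -1)
    (hR : ∃ r : ZMod m, r ≠ 0 ∧ r ≠ h) : Nonempty (Mid u x o h) := by
  obtain ⟨r₀, hr₀, hr₀h⟩ := hR
  refine ⟨⟨a, -1, p, Or.inr rfl, ?_, ?_, ?_, ?_, ?_, ?_, ?_, hah, ?_⟩⟩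
  · rw [← hqa r₀ hr₀ hr₀h]; exact (hC r₀ hr₀ hr₀h).hqo
  · intro r hr0 hrh; exact (hC r hr0 hrh).hpo
  · intro r hr0 hrh
    rw [← hqa r hr0 hrh]; exact (hC r hr0 hrh).hpq
  · intro r hr0 hrh
    have := (hC r hr0 hrh).hx
    rw [hqa r hr0 hrh] at this
    omega
  · intro r hr0 hrh χ
    rw [(hC r hr0 hrh).hform χ, hqa r hr0 hrh]; ring
  · intro r s hr0 hrh hs0 hsh hpp
    by_contra hcon
    push Not at hcon
    rcases H.pair_rel hr0 hs0 hcon.1 hcon.2 (hC r hr0 hrh) (hC s hs0 hsh) with h1 | h1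
    · exact h1.2 ((hqa r hr0 hrh).trans (hqa s hs0 hsh).symm)
    · exact h1.1 hpp
  · intro r hr0 hrh
    exact (same_class H p q hC hr0 hrh (Or.inr rfl)).1
  · intro r hr0 hrh
    have := H.col_h hr0 hrh (hC r hr0 hrh)
    rw [hqa r hr0 hrh, hah] at this
    omega

/-- all generic columns share their positive member, or all share their negative member -/
theorem sunflower : (∀ r s, r ≠ 0 → r ≠ h → s ≠ 0 → s ≠ h → p r = p s) ∨
    (∀ r s, r ≠ 0 → r ≠ h → s ≠ 0 → s ≠ h → q r = q s) := by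
  by_cases hP : ∀ r s, r ≠ 0 → r ≠ h → s ≠ 0 → s ≠ h → p r = p s
  · exact Or.inl hP
  · right
    push Not at hP
    obtain ⟨r₁, r₂, h10, h1h, h20, h2h, hne⟩ := hP
    have h12 : r₁ ≠ r₂ := fun hc => hne (by rw [hc])
    have h12' : r₁ ≠ -r₂ := fun hc =>
      hne (same_class H p q hC h20 h2h (Or.inr hc)).1
    have hq12 : q r₁ = q r₂ := by
      rcases H.pair_rel h10 h20 h12 h12' (hC r₁ h10 h1h) (hC r₂ h20 h2h) with h1 | h1
      · exact absurd h1.1 hne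
      · exact h1.2
    have key : ∀ s, s ≠ 0 → s ≠ h → q s = q r₁ := by
      intro s hs0 hsh
      by_cases e1 : s = r₁
      · rw [e1]
      by_cases e2 : s = -r₁
      · exact (same_class H p q hC h10 h1h (Or.inr e2)).2
      rcases H.pair_rel hs0 h10 e1 e2 (hC s hs0 hsh) (hC r₁ h10 h1h) with h1 | h1
      · exfalso
        by_cases e3 : s = r₂
        · apply hne; rw [← h1.1, e3]
        by_cases e4 : s = -r₂
        · apply hne
          rw [← h1.1]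
          exact (same_class H p q hC h20 h2h (Or.inr e4)).1
        rcases H.pair_rel hs0 h20 e3 e4 (hC s hs0 hsh) (hC r₂ h20 h2h) with h2 | h2
        · exact hne (h1.1.symm.trans h2.1)
        · exact h1.2 (h2.2.trans hq12.symm)
      · exact h1.2
    intro r s hr0 hrh hs0 hsh
    rw [key r hr0 hrh, key s hs0 hsh]

end cols


/-- the hypothesis on the residues: one class up to sign, or at least three -/
def ResHyp (h : ZMod m) : Prop :=
  (∃ r₀ : ZMod m, r₀ ≠ 0 ∧ r₀ ≠ h ∧ ∀ r, r ≠ 0 → r ≠ h → r = r₀ ∨ r = -r₀) ∨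
  (∃ r₁ r₂ r₃ : ZMod m, (r₁ ≠ 0 ∧ r₁ ≠ h) ∧ (r₂ ≠ 0 ∧ r₂ ≠ h) ∧ (r₃ ≠ 0 ∧ r₃ ≠ h) ∧
    r₁ ≠ r₂ ∧ r₁ ≠ -r₂ ∧ r₁ ≠ r₃ ∧ r₁ ≠ -r₃ ∧ r₂ ≠ r₃ ∧ r₂ ≠ -r₃)

theorem Hyp.mid (H : Hyp u x o h) (hR : ResHyp h) : Nonempty (Mid u x o h) := by
  have hcols : ∀ r : ZMod m, ∃ p q : ι, r ≠ 0 → r ≠ h → IsCol u x o r p q := by
    intro r
    by_cases hr0 : r = 0
    · exact ⟨o, o, fun h1 => absurd hr0 h1⟩
    by_cases hrh : r = h
    · exact ⟨o, o, fun _ h1 => absurd hrh h1⟩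
    obtain ⟨p, q, hpq⟩ := H.isCol hr0 hrh
    exact ⟨p, q, fun _ _ => hpq⟩
  choose p q hC using hcols
  rcases hR with ⟨r₀, h00, h0h, hall⟩ | ⟨r₁, r₂, r₃, ⟨h10, h1h⟩, ⟨h20, h2h⟩, ⟨h30, h3h⟩, h12, h12',
    h13, h13', h23, h23'⟩
  · -- one class
    have hp : ∀ r, r ≠ 0 → r ≠ h → p r = p r₀ := fun r hr0 hrh =>
      (same_class H p q hC h00 h0h (hall r hr0 hrh)).1
    have hq : ∀ r, r ≠ 0 → r ≠ h → q r = q r₀ := fun r hr0 hrh =>
      (same_class H p q hC h00 h0h (hall r hr0 hrh)).2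
    have h1 := H.col_h h00 h0h (hC r₀ h00 h0h)
    have h2 := H.h_range (p r₀)
    have h3 := H.h_range (q r₀)
    by_cases h4 : u (p r₀) h = 1
    · exact mid_of_p H p q hC (p r₀) hp h4 ⟨r₀, h00, h0h⟩
    · have h5 : u (q r₀) h = -1 := by omega
      exact mid_of_q H p q hC (q r₀) hq h5 ⟨r₀, h00, h0h⟩
  · -- at least three classes
    rcases sunflower H p q hC with hP | hQ
    · have hp : ∀ r, r ≠ 0 → r ≠ h → p r = p r₁ := fun r hr0 hrh => hP r r₁ hr0 hrh h10 h1h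
      have hcol : ∀ r, r ≠ 0 → r ≠ h → u (p r₁) h - u (q r) h = 1 := by
        intro r hr0 hrh
        have := H.col_h hr0 hrh (hC r hr0 hrh)
        rwa [hp r hr0 hrh] at this
      have h2 := H.h_range (p r₁)
      have h3 := H.h_range (q r₁)
      have h1 := hcol r₁ h10 h1h
      by_cases h4 : u (p r₁) h = 1
      · exact mid_of_p H p q hC (p r₁) hp h4 ⟨r₁, h10, h1h⟩
      · exfalso
        have h5 : u (p r₁) h = 0 := by omega
        have hq1 : u (q r₁) h = -1 := by have := hcol r₁ h10 h1h; omega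
        have hq2 : u (q r₂) h = -1 := by have := hcol r₂ h20 h2h; omega
        have hq3 : u (q r₃) h = -1 := by have := hcol r₃ h30 h3h; omega
        have hne : ∀ r s, r ≠ 0 → r ≠ h → s ≠ 0 → s ≠ h → r ≠ s → r ≠ -s → q r ≠ q s := by
          intro r s hr0 hrh hs0 hsh hrs hrs'
          rcases H.pair_rel hr0 hs0 hrs hrs' (hC r hr0 hrh) (hC s hs0 hsh) with h6 | h6
          · exact h6.2
          · exact absurd (hP r s hr0 hrh hs0 hsh) h6.1
        have := H.three_same (hne r₁ r₂ h10 h1h h20 h2h h12 h12')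
          (hne r₁ r₃ h10 h1h h30 h3h h13 h13') (hne r₂ r₃ h20 h2h h30 h3h h23 h23')
          (hC r₁ h10 h1h).hqo (hC r₂ h20 h2h).hqo (hC r₃ h30 h3h).hqo (Or.inr rfl) hq1 hq2 hq3
        have g1 := H.hxpos (q r₁)
        have g2 := H.hxpos (q r₂)
        have g3 := H.hxpos (q r₃)
        omega
    · have hq : ∀ r, r ≠ 0 → r ≠ h → q r = q r₁ := fun r hr0 hrh => hQ r r₁ hr0 hrh h10 h1h
      have hcol : ∀ r, r ≠ 0 → r ≠ h → u (p r) h - u (q r₁) h = 1 := by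
        intro r hr0 hrh
        have := H.col_h hr0 hrh (hC r hr0 hrh)
        rwa [hq r hr0 hrh] at this
      have h2 := H.h_range (p r₁)
      have h3 := H.h_range (q r₁)
      have h1 := hcol r₁ h10 h1h
      by_cases h4 : u (q r₁) h = -1
      · exact mid_of_q H p q hC (q r₁) hq h4 ⟨r₁, h10, h1h⟩
      · exfalso
        have h5 : u (q r₁) h = 0 := by omega
        have hp1 : u (p r₁) h = 1 := by have := hcol r₁ h10 h1h; omega
        have hp2 : u (p r₂) h = 1 := by have := hcol r₂ h20 h2h; omega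
        have hp3 : u (p r₃) h = 1 := by have := hcol r₃ h30 h3h; omega
        have hne : ∀ r s, r ≠ 0 → r ≠ h → s ≠ 0 → s ≠ h → r ≠ s → r ≠ -s → p r ≠ p s := by
          intro r s hr0 hrh hs0 hsh hrs hrs'
          rcases H.pair_rel hr0 hs0 hrs hrs' (hC r hr0 hrh) (hC s hs0 hsh) with h6 | h6
          · exact absurd (hQ r s hr0 hrh hs0 hsh) h6.2
          · exact h6.1
        have := H.three_same (hne r₁ r₂ h10 h1h h20 h2h h12 h12')
          (hne r₁ r₃ h10 h1h h30 h3h h13 h13') (hne r₂ r₃ h20 h2h h30 h3h h23 h23')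
          (hC r₁ h10 h1h).hpo (hC r₂ h20 h2h).hpo (hC r₃ h30 h3h).hpo (Or.inl rfl) hp1 hp2 hp3
        have g1 := H.hxpos (p r₁)
        have g2 := H.hxpos (p r₂)
        have g3 := H.hxpos (p r₃)
        omega


/-- the final description of the block -/
structure Shape (u : ι → ZMod m → ℤ) (x : ι → ℤ) (o : ι) (h : ZMod m) where
  a : ι
  c : ι
  d : ι
  b : ZMod m → ι
  η : ℤ
  ηc : ℤ
  ηd : ℤ
  hη : η = 1 ∨ η = -1
  hηc : ηc = 1 ∨ ηc = -1
  hηd : ηd = 1 ∨ ηd = -1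
  hao : a ≠ o
  hco : c ≠ o
  hdo : d ≠ o
  hac : a ≠ c
  had : a ≠ d
  hcd : c ≠ d
  hbo : ∀ r, r ≠ 0 → r ≠ h → b r ≠ o ∧ b r ≠ a ∧ b r ≠ c ∧ b r ≠ d
  hbneg : ∀ r, r ≠ 0 → r ≠ h → b (-r) = b r
  hbinj : ∀ r s, r ≠ 0 → r ≠ h → s ≠ 0 → s ≠ h → b r = b s → r = s ∨ r = -s
  hall : ∀ χ, χ = o ∨ χ = a ∨ χ = c ∨ χ = d ∨ ∃ r, r ≠ 0 ∧ r ≠ h ∧ χ = b r
  ua : ∀ r, r ≠ 0 → u a r = η
  uc : ∀ r, r ≠ 0 → u c r = if r = h then ηc else 0
  ud : ∀ r, r ≠ 0 → u d r = if r = h then ηd else 0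
  ub : ∀ r, r ≠ 0 → r ≠ h → ∀ s, s ≠ 0 → u (b r) s = if s = r ∨ s = -r then -η else 0
  xb : ∀ r, r ≠ 0 → r ≠ h → x (b r) = x a - η
  xrel : η * x a + ηc * x c + ηd * x d = 1
  formR : ∀ r, r ≠ 0 → r ≠ h → ∀ χ, u χ r =
    η * ((if χ = a then 1 else 0) - (if χ = b r then 1 else 0)) - (if χ = o then 1 else 0)
  formh : ∀ χ, u χ h = η * (if χ = a then 1 else 0) + ηc * (if χ = c then 1 else 0) +
    ηd * (if χ = d then 1 else 0) - (if χ = o then 1 else 0)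

/-- finishing: the centre is the first member of the support of the middle column -/
theorem Hyp.finish (H : Hyp u x o h) (Md : Mid u x o h) (c d : ι) (ηc ηd : ℤ)
    (hac : Md.a ≠ c) (had : Md.a ≠ d) (hcd : c ≠ d) (hco : c ≠ o) (hdo : d ≠ o)
    (hηc : ηc = 1 ∨ ηc = -1) (hηd : ηd = 1 ∨ ηd = -1)
    (hu : ∀ χ, u χ h = Md.η * (if χ = Md.a then 1 else 0) + ηc * (if χ = c then 1 else 0) +
        ηd * (if χ = d then 1 else 0) - (if χ = o then 1 else 0))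
    (hrel : Md.η * x Md.a + ηc * x c + ηd * x d = 1) : Nonempty (Shape u x o h) := by
  have huc : u c h = ηc := by
    rw [hu c, if_neg hac.symm, if_pos rfl, if_neg hcd, if_neg hco]; ring
  have hud : u d h = ηd := by
    rw [hu d, if_neg had.symm, if_neg hcd.symm, if_pos rfl, if_neg hdo]; ring
  have hbc : ∀ r, r ≠ 0 → r ≠ h → Md.b r ≠ c := by
    intro r hr0 hrh hc
    have := Md.hbh r hr0 hrh
    rw [hc, huc] at this
    rcases hηc with e | e <;> omega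
  have hbd : ∀ r, r ≠ 0 → r ≠ h → Md.b r ≠ d := by
    intro r hr0 hrh hc
    have := Md.hbh r hr0 hrh
    rw [hc, hud] at this
    rcases hηd with e | e <;> omega
  refine ⟨⟨Md.a, c, d, Md.b, Md.η, ηc, ηd, Md.hη, hηc, hηd, Md.hao, hco, hdo, hac, had, hcd,
    fun r hr0 hrh => ⟨Md.hbo r hr0 hrh, Md.hba r hr0 hrh, hbc r hr0 hrh, hbd r hr0 hrh⟩,
    Md.hbneg, Md.hbinj, ?_, ?_, ?_, ?_, ?_, Md.hxb, hrel, Md.hform, hu⟩⟩
  · -- all characters are listed
    intro χ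
    by_contra hcon
    push Not at hcon
    obtain ⟨h1, h2, h3, h4, h5⟩ := hcon
    obtain ⟨r, hr⟩ := H.H4 χ
    by_cases hr0 : r = 0
    · rw [hr0, H.hu0] at hr; exact hr rfl
    by_cases hrh : r = h
    · rw [hrh, hu χ, if_neg h2, if_neg h3, if_neg h4, if_neg h1] at hr
      exact hr (by ring)
    · have hb := h5 r hr0 hrh
      rw [Md.hform r hr0 hrh χ, if_neg h2, if_neg hb, if_neg h1] at hr
      exact hr (by ring)
  · intro r hr0
    by_cases hrh : r = h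
    · rw [hrh]; exact Md.hah
    · rw [Md.hform r hr0 hrh Md.a, if_pos rfl, if_neg (Md.hba r hr0 hrh).symm, if_neg Md.hao]
      ring
  · intro r hr0
    by_cases hrh : r = h
    · rw [if_pos hrh, hrh]; exact huc
    · rw [if_neg hrh, Md.hform r hr0 hrh c, if_neg hac.symm, if_neg (hbc r hr0 hrh).symm,
        if_neg hco]
      ring
  · intro r hr0
    by_cases hrh : r = h
    · rw [if_pos hrh, hrh]; exact hud
    · rw [if_neg hrh, Md.hform r hr0 hrh d, if_neg had.symm, if_neg (hbd r hr0 hrh).symm,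
        if_neg hdo]
      ring
  · intro r hr0 hrh s hs0
    by_cases hsh : s = h
    · have hn1 : ¬ (s = r ∨ s = -r) := by
        rintro (e | e)
        · exact hrh (e.symm.trans hsh)
        · apply H.neg_ne_h hrh
          rw [← e, hsh]
      rw [if_neg hn1, hsh]
      exact Md.hbh r hr0 hrh
    · rw [Md.hform s hs0 hsh (Md.b r), if_neg (Md.hba r hr0 hrh), if_neg (Md.hbo r hr0 hrh)]
      by_cases hrs : s = r ∨ s = -r
      · rw [if_pos hrs]
        have : Md.b r = Md.b s := by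
          rcases hrs with e | e
          · rw [e]
          · rw [e, Md.hbneg r hr0 hrh]
        rw [if_pos this]; ring
      · rw [if_neg hrs]
        have : Md.b r ≠ Md.b s := by
          intro hc
          rcases Md.hbinj r s hr0 hrh hs0 hsh hc with e | e
          · exact hrs (Or.inl e.symm)
          · apply hrs
            right
            rw [e, neg_neg]
        rw [if_neg this]; ring

theorem Hyp.shape (H : Hyp u x o h) (hR : ResHyp h) : Nonempty (Shape u x o h) := by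
  obtain ⟨Md⟩ := H.mid hR
  obtain ⟨t₁, t₂, t₃, ε₁, ε₂, ε₃, h12, h13, h23, h1o, h2o, h3o, he1, he2, he3, hu, hrel⟩ := H.colh
  have hut1 : u t₁ h = ε₁ := by
    rw [hu t₁, if_pos rfl, if_neg h12, if_neg h13, if_neg h1o]; ring
  have hut2 : u t₂ h = ε₂ := by
    rw [hu t₂, if_neg h12.symm, if_pos rfl, if_neg h23, if_neg h2o]; ring
  have hut3 : u t₃ h = ε₃ := by
    rw [hu t₃, if_neg h13.symm, if_neg h23.symm, if_pos rfl, if_neg h3o]; ring
  have hmem : Md.a = t₁ ∨ Md.a = t₂ ∨ Md.a = t₃ := by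
    by_contra hcon
    push Not at hcon
    have := Md.hah
    rw [hu Md.a, if_neg hcon.1, if_neg hcon.2.1, if_neg hcon.2.2, if_neg Md.hao] at this
    rcases Md.hη with e | e <;> omega
  rcases hmem with e | e | e
  · have hη : ε₁ = Md.η := by rw [← hut1, ← e, Md.hah]
    refine H.finish Md t₂ t₃ ε₂ ε₃ (e ▸ h12) (e ▸ h13) h23 h2o h3o he2 he3 ?_ ?_
    · intro χ; rw [hu χ, e, hη]
    · rw [e, ← hη]; exact hrel
  · have hη : ε₂ = Md.η := by rw [← hut2, ← e, Md.hah]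
    refine H.finish Md t₁ t₃ ε₁ ε₃ (e ▸ h12.symm) (e ▸ h23) h13 h1o h3o he1 he3 ?_ ?_
    · intro χ; rw [hu χ, e, hη]; ring
    · rw [e, ← hη]; linarith
  · have hη : ε₃ = Md.η := by rw [← hut3, ← e, Md.hah]
    refine H.finish Md t₁ t₂ ε₁ ε₂ (e ▸ h13.symm) (e ▸ h23.symm) h12 h1o h2o he1 he2 ?_ ?_
    · intro χ; rw [hu χ, e, hη]; ring
    · rw [e, ← hη]; linarith

end Cfsg.Agent.Lib.Helper17_DihShape
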