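import Mathlib
import Cfsg.Prelude.Def_Blocks
import Cfsg.Agent.Lib.Helper81_CharOrth
import Cfsg.Agent.Lib.Helper80_CharBasic
import Cfsg.Agent.Lib.Helper78_CentralChar
import Cfsg.Agent.Lib.Helper16_KleinBlock
import Cfsg.Agent.Lib.Helper30_KleinBlock
import Cfsg.Agent.Lib.Helper17_DihFourier
import Cfsg.Agent.Lib.Helper17_DihShape
import Cfsg.Agent.Lib.Helper17_DihGram
import Cfsg.Agent.Lib.Helper17_DihGroup
import Cfsg.Agent.Lib.Helper17_DihChar
import Cfsg.Agent.Lib.Helper17_DihBlock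

/-!
The principal `2`-block of a group with dihedral Sylow `2`-subgroups: assembling the hypotheses of
the abstract lattice argument (helper17).
-/

set_option autoImplicit false
set_option maxHeartbeats 800000

namespace Cfsg.Agent.Lib.Helper17_DihMain

open Cfsg Subgroup Cfsg.Agent.Lib.Helper17_DihFourier Cfsg.Agent.Lib.Helper17_DihShape
  Cfsg.Agent.Lib.Helper17_DihGram Cfsg.Agent.Lib.Helper17_DihGroup
  Cfsg.Agent.Lib.Helper17_DihChar Cfsg.Agent.Lib.Helper17_DihBlock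

open scoped ComplexConjugate

variable {G : Type*} [Group G] [Finite G] {M : Ideal AlgInt}

/-- the block as a type -/
abbrev Blk (M : Ideal AlgInt) (G : Type*) [Group G] : Type _ :=
  {χ : IrrCharacter G // χ ∈ principalBlock M G}

theorem finsum_block [Fintype (Blk M G)] (f : IrrCharacter G → ℂ) :
    ∑ᶠ χ ∈ principalBlock M G, f χ = ∑ χ : Blk M G, f χ.1 := by
  rw [← finsum_set_coe_eq_finsum_mem, finsum_eq_sum_of_fintype]

/-- the middle residue -/
def hh (k : ℕ) : ZMod (2 ^ k) := ((2 ^ (k - 1) : ℕ) : ZMod (2 ^ k))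

theorem hh_val {k : ℕ} (hk : 1 ≤ k) : (hh k).val = 2 ^ (k - 1) := by
  unfold hh
  apply ZMod.val_natCast_of_lt
  exact Nat.pow_lt_pow_right (by norm_num) (by omega)

theorem hh_ne_zero {k : ℕ} (hk : 1 ≤ k) : hh k ≠ 0 := by
  intro h
  have := hh_val hk
  rw [h, ZMod.val_zero] at this
  exact (pow_pos (by norm_num : 0 < 2) (k - 1)).ne this

theorem two_pow_pred {k : ℕ} (hk : 1 ≤ k) : 2 ^ (k - 1) + 2 ^ (k - 1) = 2 ^ k := by
  have : k = (k - 1) + 1 := by omega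
  conv_rhs => rw [this, pow_succ]
  ring

theorem hh_neg {k : ℕ} (hk : 1 ≤ k) : -hh k = hh k := by
  have h1 : hh k + hh k = 0 := by
    unfold hh
    rw [← Nat.cast_add, two_pow_pred hk]
    exact ZMod.natCast_self _
  exact neg_eq_of_add_eq_zero_left h1

theorem hh_uniq {k : ℕ} (hk : 1 ≤ k) (r : ZMod (2 ^ k)) (hr : r ≠ 0) (hneg : -r = r) :
    r = hh k := by
  have h1 := val_of_eq_neg hr hneg.symm
  apply ZMod.val_injective
  rw [h1, hh_val hk]
  have := two_pow_pred hk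
  omega

theorem half_eq {k : ℕ} (hk : 1 ≤ k) : 2 ^ k / 2 = 2 ^ (k - 1) := by
  have := two_pow_pred hk
  omega

/-- the hypothesis on residues -/
theorem resHyp {k : ℕ} (hk : 2 ≤ k) : ResHyp (hh k) := by
  have hk1 : 1 ≤ k := by omega
  have hne : ∀ a : ℕ, 0 < a → a < 2 ^ k → ((a : ℕ) : ZMod (2 ^ k)) ≠ 0 := by
    intro a ha hlt h
    rw [ZMod.natCast_eq_zero_iff] at h
    have := Nat.le_of_dvd ha h
    omega
  rcases Nat.lt_or_ge k 3 with hk3 | hk3
  · -- `k = 2`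
    have hk2 : k = 2 := by omega
    subst hk2
    left
    refine ⟨1, by decide, by decide, ?_⟩
    decide
  · right
    have h8 : 8 ≤ 2 ^ k := by
      have : 2 ^ 3 ≤ 2 ^ k := Nat.pow_le_pow_right (by norm_num) hk3
      omega
    have h4 : 4 ≤ 2 ^ (k - 1) := by
      have : 2 ^ 2 ≤ 2 ^ (k - 1) := Nat.pow_le_pow_right (by norm_num) (by omega)
      omega
    have hval : ∀ a : ℕ, a < 2 ^ k → (((a : ℕ) : ZMod (2 ^ k))).val = a := fun a ha =>
      ZMod.val_natCast_of_lt ha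
    have hneh : ∀ a : ℕ, a < 4 → ((a : ℕ) : ZMod (2 ^ k)) ≠ hh k := by
      intro a ha h
      have h1 := congrArg ZMod.val h
      rw [hval a (by omega), hh_val hk1] at h1
      omega
    have hsum : ∀ a b : ℕ, 0 < a + b → a + b < 8 →
        ((a : ℕ) : ZMod (2 ^ k)) ≠ -((b : ℕ) : ZMod (2 ^ k)) := by
      intro a b hpos hlt h
      have h1 : (((a + b : ℕ)) : ZMod (2 ^ k)) = 0 := by
        push_cast
        rw [h, neg_add_cancel]
      exact hne (a + b) hpos (by omega) h1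
    have hdiff : ∀ a b : ℕ, a < b → b < 8 →
        ((a : ℕ) : ZMod (2 ^ k)) ≠ ((b : ℕ) : ZMod (2 ^ k)) := by
      intro a b hab hb h
      have h1 := congrArg ZMod.val h
      rw [hval a (by omega), hval b (by omega)] at h1
      omega
    refine ⟨((1 : ℕ) : ZMod (2 ^ k)), ((2 : ℕ) : ZMod (2 ^ k)), ((3 : ℕ) : ZMod (2 ^ k)),
      ⟨hne 1 (by norm_num) (by omega), hneh 1 (by norm_num)⟩,
      ⟨hne 2 (by norm_num) (by omega), hneh 2 (by norm_num)⟩,
      ⟨hne 3 (by norm_num) (by omega), hneh 3 (by norm_num)⟩,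
      hdiff 1 2 (by norm_num) (by norm_num), hsum 1 2 (by norm_num) (by norm_num),
      hdiff 1 3 (by norm_num) (by norm_num), hsum 1 3 (by norm_num) (by norm_num),
      hdiff 2 3 (by norm_num) (by norm_num), hsum 2 3 (by norm_num) (by norm_num)⟩


theorem one_mem (hM : IsPModular 2 M) :
    Cfsg.Agent.Lib.Helper80_CharBasic.oneIrr G ∈ principalBlock M G :=
  Cfsg.Agent.Lib.Helper30_KleinBlock.oneIrr_mem hM

section data

variable (hM : IsPModular 2 M) {k : ℕ} (hk : 2 ≤ k) (P : Sylow 2 G)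
  (e : ↥(P : Subgroup G) ≃* DihedralGroup (2 ^ k)) {σ : G} (hσP : σ ∈ (P : Subgroup G))
  (hσo : orderOf σ = 2 ^ k) {ζ : ℂ} (hζ : IsPrimitiveRoot ζ (2 ^ k))

include hM hk e hσP hσo hζ

theorem exists_data [Fintype (Blk M G)] [DecidableEq (Blk M G)] :
    ∃ (u : Blk M G → ZMod (2 ^ k) → ℤ) (x : Blk M G → ℤ),
      (∀ χ : Blk M G, ∀ l : ZMod (2 ^ k), l ≠ 0 →
        (χ.1 : G → ℂ) (pw σ l) = ∑ r : ZMod (2 ^ k), (u χ r : ℂ) * ee ζ (r * l)) ∧
      (∀ χ : Blk M G, (χ.1 : G → ℂ) 1 = (x χ : ℂ)) ∧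
      Hyp u x ⟨Cfsg.Agent.Lib.Helper80_CharBasic.oneIrr G, one_mem hM⟩ (hh k) := by
  have hζ1 := hζ.pow_eq_one
  have hk1 : 1 ≤ k := by omega
  have hm3 := three_le_pow (k := k) hk
  have hmult : ∀ χ : Blk M G, ∃ c : ZMod (2 ^ k) → ℕ, ∀ j : ℕ,
      (χ.1 : G → ℂ) (σ ^ j) = ∑ r : ZMod (2 ^ k), (c r : ℂ) * (ee ζ r) ^ j := by
    intro χ
    apply exists_mult hζ σ hσo
    obtain ⟨n, ρ, -, h⟩ := χ.1.2
    exact ⟨n, ρ, h⟩
  choose c hc using hmult
  -- values as Fourier sums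
  have hvalc : ∀ χ : Blk M G, ∀ l : ZMod (2 ^ k),
      (χ.1 : G → ℂ) (pw σ l) = ∑ r : ZMod (2 ^ k), (c χ r : ℂ) * ee ζ (r * l) := by
    intro χ l
    unfold pw
    rw [hc χ l.val]
    refine Finset.sum_congr rfl fun r _ => ?_
    rw [ee_mul hζ1]
  set u : Blk M G → ZMod (2 ^ k) → ℤ := fun χ r => (c χ r : ℤ) - (c χ 0 : ℤ) with hu
  set x : Blk M G → ℤ := fun χ => ∑ r : ZMod (2 ^ k), (c χ r : ℤ) with hx
  have hvalu : ∀ χ : Blk M G, ∀ l : ZMod (2 ^ k), l ≠ 0 →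
      (χ.1 : G → ℂ) (pw σ l) = ∑ r : ZMod (2 ^ k), (u χ r : ℂ) * ee ζ (r * l) := by
    intro χ l hl
    rw [hvalc χ l]
    have h1 : ∀ r : ZMod (2 ^ k), ((u χ r : ℤ) : ℂ) * ee ζ (r * l) =
        (c χ r : ℂ) * ee ζ (r * l) - (c χ 0 : ℂ) * ee ζ (r * l) := by
      intro r
      simp only [hu]
      push_cast
      ring
    simp only [h1]
    rw [Finset.sum_sub_distrib, ← Finset.mul_sum, sum_ee_mul' hζ l, if_neg hl, mul_zero, sub_zero]
  have hx1 : ∀ χ : Blk M G, (χ.1 : G → ℂ) 1 = (x χ : ℂ) := by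
    intro χ
    have := hc χ 0
    rw [pow_zero] at this
    rw [this]
    simp only [hx, pow_zero, mul_one]
    push_cast
    rfl
  refine ⟨u, x, hvalu, hx1, ?_⟩
  set o : Blk M G := ⟨Cfsg.Agent.Lib.Helper80_CharBasic.oneIrr G, one_mem hM⟩ with ho
  have hoval : ∀ g : G, (o.1 : G → ℂ) g = 1 := fun g => rfl
  have hu0 : ∀ χ, u χ 0 = 0 := fun χ => by simp only [hu, sub_self]
  -- the inverting element
  obtain ⟨τ, -, hτ⟩ := exists_inverting e hσP hσo hm3
  have hvalneg : ∀ χ : Blk M G, ∀ l : ZMod (2 ^ k),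
      (χ.1 : G → ℂ) (pw σ (-l)) = (χ.1 : G → ℂ) (pw σ l) := by
    intro χ l
    rw [pw_neg hσo, ← hτ _ (pw_mem l)]
    exact Cfsg.Agent.Lib.Helper78_CentralChar.isIrrCharacter_isClassFunction χ.1.2 _ _
  -- the relations
  have H1 : ∀ l l' : ZMod (2 ^ k), l ≠ 0 → l' ≠ 0 →
      ∑ χ : Blk M G, (χ.1 : G → ℂ) (pw σ l) * conj ((χ.1 : G → ℂ) (pw σ l')) =
        ((2 ^ k : ℕ) : ℂ) * ((if l = l' then 1 else 0) + (if l = -l' then 1 else 0)) := by
    intro l l' hl hl'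
    rw [← colrel hM hk P e hσP hσo l l' hl hl', finsum_block]
  have H2 : ∀ l : ZMod (2 ^ k), l ≠ 0 →
      ∑ χ : Blk M G, (x χ : ℂ) * (χ.1 : G → ℂ) (pw σ l) = 0 := by
    intro l hl
    have h1 : ¬ IsConj (pw σ l) (1 : G) := by
      intro hc
      exact hl ((pw_eq_one_iff hσo l).1 (isConj_one_left.1 hc))
    have h2 := col_orth hM (pw σ l) 1 (pw_pow_two hk P e hσP hσo l)
      ⟨0, by rw [orderOf_one, pow_zero]⟩ h1
    rw [finsum_block] at h2
    rw [← h2]
    refine Finset.sum_congr rfl fun χ _ => ?_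
    rw [hx1 χ, map_intCast, mul_comm]
  have F1 := gram hζ u hu0 (fun χ l => (χ.1 : G → ℂ) (pw σ l)) hvalu H1
  have F2 : ∀ r : ZMod (2 ^ k), ∑ χ : Blk M G, x χ * u χ r = 0 := by
    intro r
    have h1 := degree_rel hζ u hu0 (fun χ l => (χ.1 : G → ℂ) (pw σ l)) hvalu
      (fun χ => (x χ : ℂ)) H2 r
    have h2 : ((∑ χ : Blk M G, x χ * u χ r : ℤ) : ℂ) = ((0 : ℤ) : ℂ) := by
      push_cast
      exact h1
    exact_mod_cast h2
  -- symmetry
  have husymm : ∀ (χ : Blk M G) (r : ZMod (2 ^ k)), u χ (-r) = u χ r := by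
    intro χ r
    have h1 := eq_zero_of_transform hζ (fun r => ((u χ (-r) : ℤ) : ℂ) - (u χ r : ℂ))
      (by simp only [neg_zero, sub_self]) ?_ r
    · have h2 : ((u χ (-r) : ℤ) : ℂ) = ((u χ r : ℤ) : ℂ) := sub_eq_zero.1 h1
      exact_mod_cast h2
    · intro l hl
      simp only [sub_mul]
      rw [Finset.sum_sub_distrib, ← hvalu χ l hl, sub_eq_zero, ← hvalneg χ l,
        hvalu χ (-l) (neg_ne_zero.2 hl)]
      rw [← Equiv.sum_comp (Equiv.neg (ZMod (2 ^ k)))]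
      refine Finset.sum_congr rfl fun s _ => ?_
      rw [Equiv.neg_apply, neg_neg]
      congr 2
      ring
  -- the trivial character
  have huo : ∀ r : ZMod (2 ^ k), r ≠ 0 → u o r = -1 := by
    intro r hr
    have h1 := eq_zero_of_transform hζ
      (fun r => ((u o r : ℤ) : ℂ) + (if r = 0 then 0 else 1)) (by simp only [hu0, if_true]; simp) ?_ r
    · simp only [if_neg hr] at h1
      have h2 : ((u o r : ℤ) : ℂ) = ((-1 : ℤ) : ℂ) := by
        push_cast
        exact eq_neg_of_add_eq_zero_left h1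
      exact_mod_cast h2
    · intro l hl
      simp only [add_mul]
      rw [Finset.sum_add_distrib, ← hvalu o l hl, hoval]
      have h3 := sum_ee_ne_zero hζ hl
      have h4 : ∑ s : ZMod (2 ^ k), (if s = 0 then (0 : ℂ) else 1) * ee ζ (s * l) = -1 := by
        rw [← h3]
        refine Finset.sum_congr rfl fun s _ => ?_
        split_ifs <;> ring
      rw [h4]
      ring
  have hxo : x o = 1 := by
    have h1 := hx1 o
    rw [hoval] at h1
    have h2 : ((x o : ℤ) : ℂ) = ((1 : ℤ) : ℂ) := by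
      push_cast
      exact h1.symm
    exact_mod_cast h2
  have hxpos : ∀ χ : Blk M G, 0 < x χ := by
    intro χ
    obtain ⟨d, hd, hd1⟩ := Cfsg.Agent.Lib.Helper78_CentralChar.isIrrCharacter_one_eq_natCast χ.1.2
    rw [hx1 χ] at hd1
    have h2 : ((x χ : ℤ) : ℂ) = (((d : ℕ) : ℤ) : ℂ) := by
      push_cast
      exact hd1
    have h3 : x χ = (d : ℤ) := by exact_mod_cast h2
    rw [h3]
    exact_mod_cast hd
  have H4 : ∀ χ : Blk M G, ∃ r, u χ r ≠ 0 := by
    intro χ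
    by_contra hcon
    push Not at hcon
    have h1 := hvalu χ (hh k) (hh_ne_zero hk1)
    simp only [hcon, Int.cast_zero, zero_mul, Finset.sum_const_zero] at h1
    have hmeven : 2 ∣ 2 ^ k := dvd_pow_self 2 (by omega)
    have hPC := sylow_le_centralizer_invol P e hσP hσo hm3 hmeven
    have h2 : pw σ (hh k) = σ ^ (2 ^ k / 2) := by
      unfold pw
      rw [hh_val hk1, half_eq hk1]
    rw [h2] at h1
    exact Cfsg.Agent.Lib.Helper16_KleinBlock.irr_ne_zero_of_principal hM P _ hPC χ.1 χ.2 h1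
  exact ⟨hh_ne_zero hk1, hh_neg hk1, hh_uniq hk1, hu0, husymm, hxpos, huo, hxo, F1, F2, H4⟩

end data


/-! ### the indexing of the characters of height one -/

/-- the residue attached to an index -/
def jr (k : ℕ) (j : Fin (2 ^ (k - 1) - 1)) : ZMod (2 ^ k) := ((j.val + 1 : ℕ) : ZMod (2 ^ k))

theorem jr_val {k : ℕ} (hk : 1 ≤ k) (j : Fin (2 ^ (k - 1) - 1)) : (jr k j).val = j.val + 1 := by
  unfold jr
  apply ZMod.val_natCast_of_lt
  have := two_pow_pred hk
  have := j.2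
  omega

theorem jr_ne_zero {k : ℕ} (hk : 1 ≤ k) (j : Fin (2 ^ (k - 1) - 1)) : jr k j ≠ 0 := by
  intro h
  have := jr_val hk j
  rw [h, ZMod.val_zero] at this
  omega

theorem jr_ne_hh {k : ℕ} (hk : 1 ≤ k) (j : Fin (2 ^ (k - 1) - 1)) : jr k j ≠ hh k := by
  intro h
  have h1 := jr_val hk j
  rw [h, hh_val hk] at h1
  have := j.2
  omega

theorem jr_injective {k : ℕ} (hk : 1 ≤ k) : Function.Injective (jr k) := by
  intro j j' h
  have h1 := jr_val hk j
  rw [h, jr_val hk j'] at h1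
  exact Fin.ext (by omega)

theorem jr_ne_neg {k : ℕ} (hk : 1 ≤ k) (j j' : Fin (2 ^ (k - 1) - 1)) : jr k j ≠ -jr k j' := by
  intro h
  have h1 : ((j.val + 1 + (j'.val + 1) : ℕ) : ZMod (2 ^ k)) = 0 := by
    have : jr k j + jr k j' = 0 := by rw [h, neg_add_cancel]
    unfold jr at this
    push_cast at this ⊢
    exact this
  rw [ZMod.natCast_eq_zero_iff] at h1
  have h2 := two_pow_pred hk
  have h3 := j.2
  have h4 := j'.2
  have := Nat.le_of_dvd (by omega) h1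
  omega

/-- every generic residue is `± jr j` -/
theorem exists_jr {k : ℕ} (hk : 1 ≤ k) {r : ZMod (2 ^ k)} (hr0 : r ≠ 0) (hrh : r ≠ hh k) :
    ∃ j : Fin (2 ^ (k - 1) - 1), r = jr k j ∨ -r = jr k j := by
  have h2 := two_pow_pred hk
  have hpos : 0 < r.val := Nat.pos_of_ne_zero (fun h0 => hr0 ((ZMod.val_eq_zero r).1 h0))
  have hlt := ZMod.val_lt r
  have hne : r.val ≠ 2 ^ (k - 1) := by
    intro h
    apply hrh
    apply ZMod.val_injective
    rw [h, hh_val hk]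
  rcases Nat.lt_or_gt_of_ne hne with h | h
  · refine ⟨⟨r.val - 1, by omega⟩, Or.inl ?_⟩
    apply ZMod.val_injective
    rw [jr_val hk]
    show r.val = r.val - 1 + 1
    omega
  · have hneg : (-r).val = 2 ^ k - r.val := by
      rw [ZMod.neg_val]
      rw [if_neg hr0]
    refine ⟨⟨(-r).val - 1, by omega⟩, Or.inr ?_⟩
    apply ZMod.val_injective
    rw [jr_val hk]
    show (-r).val = (-r).val - 1 + 1
    omega

theorem neg_one_pow_half {k : ℕ} (hk : 1 ≤ k) {ζ : ℂ} (hζ : IsPrimitiveRoot ζ (2 ^ k)) :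
    ee ζ (hh k) = -1 := by
  unfold ee
  rw [hh_val hk]
  have h1 : ζ ^ 2 ^ (k - 1) * ζ ^ 2 ^ (k - 1) = 1 := by
    rw [← pow_add, two_pow_pred hk, hζ.pow_eq_one]
  rcases mul_self_eq_one_iff.1 h1 with h | h
  · exfalso
    have h2 := two_pow_pred hk
    have h3 : 0 < 2 ^ (k - 1) := pow_pos (by norm_num) _
    exact hζ.pow_ne_one_of_pos_of_lt h3.ne' (by omega) h
  · exact h

end Cfsg.Agent.Lib.Helper17_DihMain
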