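import Mathlib
import Cfsg.Agent.Lib.Helper16_Char
import Cfsg.Agent.Lib.Helper17_DihCount
import Cfsg.Agent.Lib.Helper17_DihMain

/-!
Pairs of involutions with product in a coset `O y`, for a dihedral `2`-group `P = ⟨σ, τ⟩`
normalizing the group `O` of odd order (helper17).
-/

set_option autoImplicit false
set_option linter.unusedSectionVars false

namespace Cfsg.Agent.Lib.Helper17_DihPairs

open Subgroup Cfsg.Agent.Lib.Helper17_DihCount Cfsg.Agent.Lib.Helper17_DihBlock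
  Cfsg.Agent.Lib.Helper17_DihMain

variable {G : Type*} [Group G]

/-- the dihedral group `P = ⟨σ, τ⟩` of order `2 ^ (k + 1)` -/
structure Dih (P : Subgroup G) (σ τ : G) (k : ℕ) : Prop where
  hk : 2 ≤ k
  hσP : σ ∈ P
  hτP : τ ∈ P
  hσo : orderOf σ = 2 ^ k
  hτ2 : τ * τ = 1
  hinv : τ * σ * τ⁻¹ = σ⁻¹
  hall : ∀ p ∈ P, ∃ i : ZMod (2 ^ k), p = pw σ i ∨ p = pw σ i * τ

namespace Dih

variable {P : Subgroup G} {σ τ : G} {k : ℕ} (D : Dih P σ τ k)

include D

theorem hk1 : 1 ≤ k := le_trans (by norm_num) D.hk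

theorem tau_inv : τ⁻¹ = τ := inv_eq_of_mul_eq_one_left D.hτ2

theorem conj_pw (i : ZMod (2 ^ k)) : τ * pw σ i * τ⁻¹ = pw σ (-i) := by
  rw [pw_neg D.hσo]
  unfold pw
  rw [← conj_pow, D.hinv, inv_pow]

theorem pw_mul_tau (i : ZMod (2 ^ k)) : pw σ i * τ = τ * pw σ (-i) := by
  have := D.conj_pw (-i)
  rw [neg_neg] at this
  rw [← this]
  group

theorem tau_mul_pw (i : ZMod (2 ^ k)) : τ * pw σ i = pw σ (-i) * τ := by
  rw [D.pw_mul_tau (-i), neg_neg]

theorem rf_mul_rf (i j : ZMod (2 ^ k)) : (pw σ i * τ) * (pw σ j * τ) = pw σ (i - j) := by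
  have h1 : (pw σ i * τ) * (pw σ j * τ) = pw σ i * (τ * pw σ j * τ⁻¹) * (τ * τ) := by group
  rw [h1, D.conj_pw, D.hτ2, mul_one, ← pw_add D.hσo, sub_eq_add_neg]

theorem rf_sq (i : ZMod (2 ^ k)) : (pw σ i * τ) * (pw σ i * τ) = 1 := by
  rw [D.rf_mul_rf, sub_self, pw_zero]

theorem rf_inv (i : ZMod (2 ^ k)) : (pw σ i * τ)⁻¹ = pw σ i * τ :=
  inv_eq_of_mul_eq_one_left (D.rf_sq i)

theorem rf_mul_pw (i j : ZMod (2 ^ k)) : (pw σ i * τ) * pw σ j = pw σ (i - j) * τ := by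
  rw [mul_assoc, D.tau_mul_pw, ← mul_assoc, ← pw_add D.hσo, sub_eq_add_neg]

theorem pw_mul_rf (i j : ZMod (2 ^ k)) : pw σ j * (pw σ i * τ) = pw σ (j + i) * τ := by
  rw [← mul_assoc, ← pw_add D.hσo]

theorem pw_memP (i : ZMod (2 ^ k)) : pw σ i ∈ P := P.pow_mem D.hσP _

theorem rf_memP (i : ZMod (2 ^ k)) : pw σ i * τ ∈ P := P.mul_mem (D.pw_memP i) D.hτP

theorem sigma_sq_ne_one : σ * σ ≠ 1 := by
  intro h
  have h1 : orderOf σ ∣ 2 := orderOf_dvd_of_pow_eq_one (by rw [pow_two]; exact h)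
  rw [D.hσo] at h1
  have h2 := Nat.le_of_dvd (by norm_num) h1
  have h3 : 2 ^ 2 ≤ 2 ^ k := Nat.pow_le_pow_right (by norm_num) D.hk
  omega

theorem rf_ne_pw (i j : ZMod (2 ^ k)) : pw σ i * τ ≠ pw σ j := by
  intro h
  have h1 : τ = pw σ (j - i) := by
    rw [sub_eq_add_neg, add_comm, pw_add D.hσo, pw_neg D.hσo, ← h]
    group
  have h2 : τ * σ * τ⁻¹ = σ := by
    rw [h1]
    unfold pw
    rw [← pow_succ, pow_succ', mul_inv_cancel_right]
  rw [D.hinv] at h2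
  apply D.sigma_sq_ne_one
  nth_rewrite 1 [← h2]
  exact inv_mul_cancel σ

theorem rf_injective {i j : ZMod (2 ^ k)} (h : pw σ i * τ = pw σ j * τ) : i = j :=
  pw_injective D.hσo (mul_right_cancel h)

/-- the involutions of `P` -/
theorem invol_P {p : G} (hp : p ∈ P) (h2 : p * p = 1) (h1 : p ≠ 1) :
    p = pw σ (hh k) ∨ ∃ i : ZMod (2 ^ k), p = pw σ i * τ := by
  obtain ⟨i, hi | hi⟩ := D.hall p hp
  · left
    rw [hi]
    congr 1
    apply hh_uniq D.hk1
    · intro h0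
      apply h1
      rw [hi, h0, pw_zero]
    · have := (pw_sq_eq_one_iff D.hσo i).1 (by rw [pow_two, ← hi]; exact h2)
      exact this.symm
  · exact Or.inr ⟨i, hi⟩

theorem two_group : ∀ p ∈ P, ∃ j : ℕ, p ^ (2 ^ j) = 1 := by
  intro p hp
  obtain ⟨i, hi | hi⟩ := D.hall p hp
  · refine ⟨k, ?_⟩
    have h : σ ^ (2 ^ k) = 1 := by rw [← D.hσo]; exact pow_orderOf_eq_one σ
    rw [hi]
    unfold pw
    rw [← pow_mul, mul_comm, pow_mul, h, one_pow]
  · refine ⟨1, ?_⟩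
    rw [hi, pow_one, pow_two, D.rf_sq]

theorem pw_pow (i : ZMod (2 ^ k)) : (pw σ i) ^ (2 ^ k) = 1 := by
  have h : σ ^ (2 ^ k) = 1 := by rw [← D.hσo]; exact pow_orderOf_eq_one σ
  unfold pw
  rw [← pow_mul, mul_comm, pow_mul, h, one_pow]

/-- conjugating a reflection by a rotation -/
theorem pw_conj_rf (i j : ZMod (2 ^ k)) :
    pw σ j * (pw σ i * τ) * (pw σ j)⁻¹ = pw σ (i + 2 * j) * τ := by
  rw [← pw_neg D.hσo, D.pw_mul_rf, D.rf_mul_pw]
  congr 2
  ring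

theorem conj_sigma {p : G} (hp : p ∈ P) : p * σ * p⁻¹ = σ ∨ p * σ * p⁻¹ = σ⁻¹ := by
  obtain ⟨i, hi | hi⟩ := D.hall p hp
  · left
    rw [hi]
    unfold pw
    rw [← pow_succ, pow_succ', mul_inv_cancel_right]
  · right
    rw [hi]
    have h1 : pw σ i * τ * σ * (pw σ i * τ)⁻¹ = pw σ i * (τ * σ * τ⁻¹) * (pw σ i)⁻¹ := by group
    rw [h1, D.hinv]
    unfold pw
    have hc : Commute (σ ^ i.val) σ⁻¹ := Commute.pow_left (Commute.inv_right (Commute.refl σ)) _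
    rw [hc.eq, mul_inv_cancel_right]

end Dih

section pairs

variable {O P : Subgroup G} {σ τ : G} {k : ℕ} (F : Frame O P) (D : Dih P σ τ k)
  {l : ZMod (2 ^ k)} (hl : l ≠ 0) (hOy : ∀ ρ ∈ O, ρ * pw σ l = pw σ l * ρ)
  (hcov : ∀ g : G, g * pw σ l * g⁻¹ = (pw σ l)⁻¹ → ∃ ρ ∈ O, ∃ p ∈ P, g = ρ * p)

include F D

/-- the orbits of distinct reflections are disjoint -/
theorem orb_disjoint {u : G} {i i' : ZMod (2 ^ k)} (h : u ∈ orb O (pw σ i * τ))
    (h' : u ∈ orb O (pw σ i' * τ)) : i = i' := by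
  have h1 := F.orb_mul_inv (D.rf_memP i) h
  have h2 := F.orb_mul_inv (D.rf_memP i') h'
  have h3 : (pw σ i' * τ) * (pw σ i * τ)⁻¹ = 1 := by
    apply F.eq_one _ (P.mul_mem (D.rf_memP i') (P.inv_mem (D.rf_memP i)))
    have : (pw σ i' * τ) * (pw σ i * τ)⁻¹ = (u * (pw σ i' * τ)⁻¹)⁻¹ * (u * (pw σ i * τ)⁻¹) := by
      group
    rw [this]
    exact O.mul_mem (O.inv_mem h2) h1
  exact (D.rf_injective (mul_inv_eq_one.1 h3)).symm

theorem ne_one_of_mem_orb {u : G} {i : ZMod (2 ^ k)} (h : u ∈ orb O (pw σ i * τ)) : u ≠ 1 := by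
  obtain ⟨μ, -, rfl⟩ := h
  intro h1
  have h2 : pw σ i * τ = 1 := by
    have : pw σ i * τ = μ⁻¹ * (μ * (pw σ i * τ) * μ⁻¹) * μ := by group
    rw [this, h1]; group
  have := D.rf_ne_pw i 0
  rw [pw_zero] at this
  exact this h2

theorem sq_of_mem_orb {u : G} {i : ZMod (2 ^ k)} (h : u ∈ orb O (pw σ i * τ)) : u * u = 1 := by
  obtain ⟨μ, -, rfl⟩ := h
  have : μ * (pw σ i * τ) * μ⁻¹ * (μ * (pw σ i * τ) * μ⁻¹) =
      μ * ((pw σ i * τ) * (pw σ i * τ)) * μ⁻¹ := by group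
  rw [this, D.rf_sq]; group

include hl hOy hcov

/-- **pairs of involutions whose product lies in `O y`** -/
theorem pair_iff {u v : G} (hu : u * u = 1) (hu1 : u ≠ 1) (hv : v * v = 1) (hv1 : v ≠ 1) :
    u * v * (pw σ l)⁻¹ ∈ O ↔
      ∃ i : ZMod (2 ^ k), u ∈ orb O (pw σ i * τ) ∧ v ∈ orb O (pw σ (i - l) * τ) := by
  have hyP : pw σ l ∈ P := D.pw_memP l
  constructor
  · intro h
    have huinv : u⁻¹ = u := inv_eq_of_mul_eq_one_left hu
    have hvinv : v⁻¹ = v := inv_eq_of_mul_eq_one_left hv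
    -- `u` and `v` invert `y`
    obtain ⟨N, hN1, hN2⟩ := F.exists_exponent k
    have hzN : (u * v) ^ N = pw σ l := by
      have h1 : u * v = (u * v * (pw σ l)⁻¹) * pw σ l := by group
      have hc : Commute (u * v * (pw σ l)⁻¹) (pw σ l) := hOy _ h
      rw [h1, hc.mul_pow, pow_eq_self_of_modEq (D.pw_pow l) hN1]
      obtain ⟨q, hq⟩ := hN2
      rw [hq, pow_mul, F.pow_card h, one_pow, one_mul]
    have hu_inv : u * pw σ l * u⁻¹ = (pw σ l)⁻¹ := by
      rw [← hzN, ← conj_pow, ← inv_pow]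
      congr 1
      rw [mul_inv_rev, huinv, hvinv]
      calc u * (u * v) * u = (u * u) * v * u := by group
        _ = v * u := by rw [hu, one_mul]
    have hv_inv : v * pw σ l * v⁻¹ = (pw σ l)⁻¹ := by
      rw [← hzN, ← conj_pow, ← inv_pow]
      congr 1
      rw [mul_inv_rev, huinv, hvinv]
      calc v * (u * v) * v = v * u * (v * v) := by group
        _ = v * u := by rw [hv, mul_one]
    obtain ⟨ρ₁, hρ₁, a, ha, rfl⟩ := hcov u hu_inv
    obtain ⟨ρ₂, hρ₂, b, hb, rfl⟩ := hcov v hv_inv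
    obtain ⟨ha2, hua⟩ := F.invol hρ₁ ha hu
    obtain ⟨hb2, hvb⟩ := F.invol hρ₂ hb hv
    have ha1 : a ≠ 1 := by
      intro h1
      rw [h1] at hua
      obtain ⟨μ, -, hμ⟩ := hua
      apply hu1
      rw [h1, hμ]; group
    have hb1 : b ≠ 1 := by
      intro h1
      rw [h1] at hvb
      obtain ⟨μ, -, hμ⟩ := hvb
      apply hv1
      rw [h1, hμ]; group
    have hab : a * b = pw σ l :=
      (F.prod_mem_iff ha hb hyP (by rw [mul_inv_cancel_right]; exact hρ₁)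
        (by rw [mul_inv_cancel_right]; exact hρ₂)).1 h
    have hainv : a⁻¹ = a := inv_eq_of_mul_eq_one_left ha2
    have hb' : b = a * pw σ l := by
      rw [← hab, ← mul_assoc, ha2, one_mul]
    rcases D.invol_P ha ha2 ha1 with h1 | ⟨i, h1⟩
    · exfalso
      rw [h1, ← pw_add D.hσo] at hb'
      have h2 : hh k + l = -(hh k + l) :=
        (pw_sq_eq_one_iff D.hσo _).1 (by rw [pow_two, ← hb']; exact hb2)
      have h3 : hh k + l ≠ 0 := by
        intro h0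
        apply hb1
        rw [hb', h0, pw_zero]
      have h4 := hh_uniq D.hk1 _ h3 h2.symm
      apply hl
      have : l = (hh k + l) - hh k := by ring
      rw [this, h4, sub_self]
    · refine ⟨i, ?_, ?_⟩
      · rw [← h1]; exact hua
      · rw [← D.rf_mul_pw, ← h1, ← hb']; exact hvb
  · rintro ⟨i, h1, h2⟩
    have h3 := F.orb_mul_inv (D.rf_memP i) h1
    have h4 := F.orb_mul_inv (D.rf_memP (i - l)) h2
    refine (F.prod_mem_iff (D.rf_memP i) (D.rf_memP (i - l)) hyP h3 h4).2 ?_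
    rw [D.rf_mul_rf]
    congr 1
    ring

end pairs

section count

variable {O P : Subgroup G} {σ τ : G} {k : ℕ} (F : Frame O P) (D : Dih P σ τ k)
  {l : ZMod (2 ^ k)} (hl : l ≠ 0) (hOy : ∀ ρ ∈ O, ρ * pw σ l = pw σ l * ρ)
  (hcov : ∀ g : G, g * pw σ l * g⁻¹ = (pw σ l)⁻¹ → ∃ ρ ∈ O, ∃ p ∈ P, g = ρ * p)

open Classical in
/-- the number of `g` conjugating `J` into a set of conjugates of `J` -/
theorem count_into [Fintype G] {J : G} (X : Set G) (hX : ∀ x ∈ X, IsConj J x) :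
    (∑ g : G, if g⁻¹ * J * g ∈ X then 1 else 0) =
      Nat.card (centralizer ({J} : Set G)) * Nat.card X := by
  have h := Cfsg.Agent.Lib.Helper16_Char.sum_conj_eq J (fun x : G => if x ∈ X then (1 : ℕ) else 0)
  rw [h, smul_eq_mul]
  congr 1
  have h2 : ∀ x : G, (if IsConj J x then (if x ∈ X then (1 : ℕ) else 0) else 0) =
      if x ∈ X then 1 else 0 := by
    intro x
    by_cases hx : x ∈ X
    · rw [if_pos hx, if_pos (hX x hx)]
    · rw [if_neg hx]; simp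
  simp only [h2]
  rw [← Finset.card_filter, Nat.card_eq_fintype_card, Fintype.card_subtype]

include F D hl hOy hcov

open Classical in
/-- **the number of pairs of conjugates of `J` with product in `O y`** -/
theorem count_pairs [Fintype G] {J : G} (hJ2 : J * J = 1) (hJ1 : J ≠ 1)
    (hconj : ∀ i : ZMod (2 ^ k), IsConj J (pw σ i * τ)) :
    (∑ h : G, ∑ g : G, if (g⁻¹ * J * g) * (h⁻¹ * J * h) * (pw σ l)⁻¹ ∈ O then 1 else 0) =
      Nat.card (centralizer ({J} : Set G)) ^ 2 *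
        ∑ i : ZMod (2 ^ k),
          Nat.card (orb O (pw σ i * τ)) * Nat.card (orb O (pw σ (i - l) * τ)) := by
  have hsq : ∀ g : G, (g⁻¹ * J * g) * (g⁻¹ * J * g) = 1 := by
    intro g
    have : (g⁻¹ * J * g) * (g⁻¹ * J * g) = g⁻¹ * (J * J) * g := by group
    rw [this, hJ2]; group
  have hne : ∀ g : G, g⁻¹ * J * g ≠ 1 := by
    intro g h
    apply hJ1
    have : J = g * (g⁻¹ * J * g) * g⁻¹ := by group
    rw [this, h]; group
  have hind : ∀ h g : G,
      (if (g⁻¹ * J * g) * (h⁻¹ * J * h) * (pw σ l)⁻¹ ∈ O then 1 else 0) =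
      ∑ i : ZMod (2 ^ k), (if g⁻¹ * J * g ∈ orb O (pw σ i * τ) then 1 else 0) *
        (if h⁻¹ * J * h ∈ orb O (pw σ (i - l) * τ) then 1 else 0) := by
    intro h g
    have hiff := pair_iff F D hl hOy hcov (hsq g) (hne g) (hsq h) (hne h)
    by_cases hmem : (g⁻¹ * J * g) * (h⁻¹ * J * h) * (pw σ l)⁻¹ ∈ O
    · obtain ⟨i, hi1, hi2⟩ := hiff.1 hmem
      rw [if_pos hmem, Finset.sum_eq_single i]
      · rw [if_pos hi1, if_pos hi2]
      · intro i' _ hi'
        have : g⁻¹ * J * g ∉ orb O (pw σ i' * τ) := fun hc => hi' (orb_disjoint F D hc hi1)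
        rw [if_neg this, zero_mul]
      · intro hc
        exact absurd (Finset.mem_univ i) hc
    · rw [if_neg hmem]
      symm
      apply Finset.sum_eq_zero
      intro i _
      by_cases h1 : g⁻¹ * J * g ∈ orb O (pw σ i * τ)
      · by_cases h2 : h⁻¹ * J * h ∈ orb O (pw σ (i - l) * τ)
        · exact absurd (hiff.2 ⟨i, h1, h2⟩) hmem
        · rw [if_neg h2, mul_zero]
      · rw [if_neg h1, zero_mul]
  simp only [hind]
  have hswap : (∑ h : G, ∑ g : G, ∑ i : ZMod (2 ^ k),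
      (if g⁻¹ * J * g ∈ orb O (pw σ i * τ) then 1 else 0) *
        (if h⁻¹ * J * h ∈ orb O (pw σ (i - l) * τ) then 1 else 0)) =
      ∑ i : ZMod (2 ^ k), (∑ g : G, if g⁻¹ * J * g ∈ orb O (pw σ i * τ) then 1 else 0) *
        (∑ h : G, if h⁻¹ * J * h ∈ orb O (pw σ (i - l) * τ) then 1 else 0) := by
    have h1 : ∀ h : G, (∑ g : G, ∑ i : ZMod (2 ^ k),
        (if g⁻¹ * J * g ∈ orb O (pw σ i * τ) then 1 else 0) *
          (if h⁻¹ * J * h ∈ orb O (pw σ (i - l) * τ) then 1 else 0)) =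
        ∑ i : ZMod (2 ^ k), ∑ g : G,
        (if g⁻¹ * J * g ∈ orb O (pw σ i * τ) then 1 else 0) *
          (if h⁻¹ * J * h ∈ orb O (pw σ (i - l) * τ) then 1 else 0) := fun h => Finset.sum_comm
    simp only [h1]
    rw [Finset.sum_comm]
    refine Finset.sum_congr rfl fun i _ => ?_
    rw [Finset.sum_mul_sum, Finset.sum_comm]
  rw [hswap]
  have hX : ∀ i : ZMod (2 ^ k), ∀ x ∈ orb O (pw σ i * τ), IsConj J x := by
    rintro i x ⟨μ, -, rfl⟩
    refine (hconj i).trans ?_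
    exact isConj_iff.2 ⟨μ, rfl⟩
  have hcnt : ∀ i : ZMod (2 ^ k), (∑ g : G, if g⁻¹ * J * g ∈ orb O (pw σ i * τ) then 1 else 0) =
      Nat.card (centralizer ({J} : Set G)) * Nat.card (orb O (pw σ i * τ)) :=
    fun i => count_into _ (hX i)
  simp only [hcnt]
  rw [Finset.mul_sum]
  refine Finset.sum_congr rfl fun i _ => ?_
  ring

end count

section bw

open Classical in
theorem sum_ite_mem [Fintype G] (X : Set G) (c : ℕ) :
    (∑ g : G, if g ∈ X then c else 0) = Nat.card X * c := by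
  rw [← Finset.sum_filter, Finset.sum_const, smul_eq_mul, Nat.card_eq_fintype_card,
    Fintype.card_subtype]

open Classical in
theorem sum_ite_mem₂ [Fintype G] (X Y : Set G) (c : ℕ) :
    (∑ u : G, ∑ v : G, if u ∈ X ∧ v ∈ Y then c else 0) = Nat.card X * Nat.card Y * c := by
  have h1 : ∀ u : G, (∑ v : G, if u ∈ X ∧ v ∈ Y then c else 0) =
      if u ∈ X then Nat.card Y * c else 0 := by
    intro u
    by_cases hu : u ∈ X
    · simp only [hu, true_and, if_true]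
      exact sum_ite_mem Y c
    · simp only [hu, false_and, if_false, Finset.sum_const_zero]
  simp only [h1]
  rw [sum_ite_mem, mul_assoc]

theorem orb_conj_mem {O : Subgroup G} {g u a : G} (hg : g ∈ O) :
    g * u * g⁻¹ ∈ orb O a ↔ u ∈ orb O a := by
  constructor
  · rintro ⟨μ, hμ, h⟩
    refine ⟨g⁻¹ * μ, O.mul_mem (O.inv_mem hg) hμ, ?_⟩
    calc u = g⁻¹ * (g * u * g⁻¹) * g := by group
      _ = g⁻¹ * (μ * a * μ⁻¹) * g := by rw [h]
      _ = g⁻¹ * μ * a * (g⁻¹ * μ)⁻¹ := by group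
  · rintro ⟨μ, hμ, h⟩
    refine ⟨g * μ, O.mul_mem hg hμ, ?_⟩
    rw [h]; group

variable {O P : Subgroup G} {σ τ : G} {k : ℕ} (F : Frame O P) (D : Dih P σ τ k)

include D in
theorem pw_one' : pw σ (1 : ZMod (2 ^ k)) = σ := by
  unfold pw
  have h1 : (2 : ℕ) ^ k ≠ 1 := by
    have : 2 ^ 2 ≤ 2 ^ k := Nat.pow_le_pow_right (by norm_num) D.hk
    omega
  rw [ZMod.val_one'' h1, pow_one]

include D in
theorem one_ne_zero' : (1 : ZMod (2 ^ k)) ≠ 0 := by
  intro h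
  have h1 := pw_one' D
  rw [h, pw_zero] at h1
  apply D.sigma_sq_ne_one
  rw [← h1, one_mul]

include F D

/-- the frame of `C_O(σ)` -/
theorem frame_cent : Frame (O ⊓ centralizer ({σ} : Set G)) P := by
  refine ⟨?_, F.hP, ?_⟩
  · have := F.finite
    exact Odd.of_dvd_nat F.hodd (Subgroup.card_dvd_of_le inf_le_left)
  · intro p hp ρ hρ
    rw [Subgroup.mem_inf, Subgroup.mem_centralizer_singleton_iff] at hρ ⊢
    refine ⟨F.hnorm p hp ρ hρ.1, ?_⟩
    have hc : Commute ρ σ := hρ.2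
    have h1 : p⁻¹ * σ * p = σ ∨ p⁻¹ * σ * p = σ⁻¹ := by
      have := D.conj_sigma (P.inv_mem hp)
      rwa [inv_inv] at this
    have h2 : Commute ρ (p⁻¹ * σ * p) := by
      rcases h1 with h | h
      · rw [h]; exact hc
      · rw [h]; exact hc.inv_right
    calc p * ρ * p⁻¹ * σ = p * (ρ * (p⁻¹ * σ * p)) * p⁻¹ := by group
      _ = p * ((p⁻¹ * σ * p) * ρ) * p⁻¹ := by rw [h2.eq]
      _ = σ * (p * ρ * p⁻¹) := by group

open Classical in
/-- **the generalized Brauer-Wielandt formula** -/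
theorem bw [Fintype G]
    (hcov' : ∀ g : G, g * pw σ (1 : ZMod (2 ^ k)) * g⁻¹ = (pw σ (1 : ZMod (2 ^ k)))⁻¹ →
      ∃ ρ ∈ O ⊓ centralizer ({σ} : Set G), ∃ p ∈ P, g = ρ * p) :
    Nat.card (orb O (pw σ (1 : ZMod (2 ^ k)) * τ)) * Nat.card (orb O (pw σ (0 : ZMod (2 ^ k)) * τ)) *
        Nat.card ↥(O ⊓ centralizer ({σ} : Set G)) =
      Nat.card O * (Nat.card (orb (O ⊓ centralizer ({σ} : Set G)) (pw σ (1 : ZMod (2 ^ k)) * τ)) *
        Nat.card (orb (O ⊓ centralizer ({σ} : Set G)) (pw σ (0 : ZMod (2 ^ k)) * τ))) := by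
  have F' := frame_cent F D
  have h10 := one_ne_zero' D
  have hp1 := pw_one' D
  have hσk : σ ^ (2 ^ k) = 1 := by rw [← D.hσo]; exact pow_orderOf_eq_one σ
  have hOy' : ∀ ρ ∈ O ⊓ centralizer ({σ} : Set G),
      ρ * pw σ (1 : ZMod (2 ^ k)) = pw σ (1 : ZMod (2 ^ k)) * ρ := by
    intro ρ hρ
    rw [hp1]
    exact (Subgroup.mem_centralizer_singleton_iff.1 (Subgroup.mem_inf.1 hρ).2)
  have hle : O ⊓ centralizer ({σ} : Set G) ≤ O := inf_le_left
  -- pointwise identification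
  have hA : ∀ u v : G, (u ∈ orb O (pw σ (1 : ZMod (2 ^ k)) * τ) ∧
      v ∈ orb O (pw σ (0 : ZMod (2 ^ k)) * τ) ∧ u * v * σ⁻¹ ∈ O ⊓ centralizer ({σ} : Set G)) ↔
      (u ∈ orb (O ⊓ centralizer ({σ} : Set G)) (pw σ (1 : ZMod (2 ^ k)) * τ) ∧
        v ∈ orb (O ⊓ centralizer ({σ} : Set G)) (pw σ (0 : ZMod (2 ^ k)) * τ)) := by
    intro u v
    constructor
    · rintro ⟨hu, hv, huv⟩
      have h1 := (pair_iff F' D h10 hOy' hcov' (sq_of_mem_orb F D hu) (ne_one_of_mem_orb F D hu)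
        (sq_of_mem_orb F D hv) (ne_one_of_mem_orb F D hv)).1 (by rw [hp1]; exact huv)
      obtain ⟨i, hi1, hi2⟩ := h1
      have hi : i = 1 := orb_disjoint F D (orb_mono hle _ hi1) hu
      rw [hi] at hi1 hi2
      rw [sub_self] at hi2
      exact ⟨hi1, hi2⟩
    · rintro ⟨hu, hv⟩
      refine ⟨orb_mono hle _ hu, orb_mono hle _ hv, ?_⟩
      have := (pair_iff F' D h10 hOy' hcov' (sq_of_mem_orb F' D hu) (ne_one_of_mem_orb F' D hu)
        (sq_of_mem_orb F' D hv) (ne_one_of_mem_orb F' D hv)).2 ⟨1, hu, by rw [sub_self]; exact hv⟩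
      rwa [hp1] at this
  -- the triple sum, first way
  have hS1 : ∀ u v : G, (∑ g : G, if u ∈ orb O (pw σ (1 : ZMod (2 ^ k)) * τ) ∧
      v ∈ orb O (pw σ (0 : ZMod (2 ^ k)) * τ) ∧ g ∈ O ∧
        g⁻¹ * (u * v) * g * σ⁻¹ ∈ O ⊓ centralizer ({σ} : Set G) then 1 else 0) =
      if u ∈ orb O (pw σ (1 : ZMod (2 ^ k)) * τ) ∧ v ∈ orb O (pw σ (0 : ZMod (2 ^ k)) * τ) then
        Nat.card ↥(O ⊓ centralizer ({σ} : Set G)) else 0 := by
    intro u v
    by_cases huv : u ∈ orb O (pw σ (1 : ZMod (2 ^ k)) * τ) ∧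
        v ∈ orb O (pw σ (0 : ZMod (2 ^ k)) * τ)
    · rw [if_pos huv]
      have hz : u * v * σ⁻¹ ∈ O := by
        have := (F.prod_mem_iff (D.rf_memP 1) (D.rf_memP 0) (D.pw_memP 1)
          (F.orb_mul_inv (D.rf_memP 1) huv.1) (F.orb_mul_inv (D.rf_memP 0) huv.2)).2
          (by rw [D.rf_mul_rf, sub_zero])
        rwa [hp1] at this
      obtain ⟨g₀, hg₀, hg⟩ := F.exists_coset D.hσP hσk hz
      have h1 : ∀ g : G, (u ∈ orb O (pw σ (1 : ZMod (2 ^ k)) * τ) ∧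
          v ∈ orb O (pw σ (0 : ZMod (2 ^ k)) * τ) ∧ g ∈ O ∧
          g⁻¹ * (u * v) * g * σ⁻¹ ∈ O ⊓ centralizer ({σ} : Set G)) ↔
          g₀⁻¹ * g ∈ ((O ⊓ centralizer ({σ} : Set G) : Subgroup G) : Set G) := by
        intro g
        constructor
        · rintro ⟨-, -, hgO, hc⟩
          exact (hg g hgO).1 hc
        · intro hc
          have hgO : g ∈ O := by
            have : g = g₀ * (g₀⁻¹ * g) := by group
            rw [this]
            exact O.mul_mem hg₀ (hle hc)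
          exact ⟨huv.1, huv.2, hgO, (hg g hgO).2 hc⟩
      simp only [h1]
      rw [← Equiv.sum_comp (Equiv.mulLeft g₀)]
      simp only [Equiv.coe_mulLeft, inv_mul_cancel_left]
      rw [sum_ite_mem, mul_one]
      rfl
    · rw [if_neg huv]
      apply Finset.sum_eq_zero
      intro g _
      rw [if_neg]
      rintro ⟨h1, h2, -⟩
      exact huv ⟨h1, h2⟩
  -- second way
  have hS2 : ∀ g : G, (∑ u : G, ∑ v : G, if u ∈ orb O (pw σ (1 : ZMod (2 ^ k)) * τ) ∧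
      v ∈ orb O (pw σ (0 : ZMod (2 ^ k)) * τ) ∧ g ∈ O ∧
        g⁻¹ * (u * v) * g * σ⁻¹ ∈ O ⊓ centralizer ({σ} : Set G) then 1 else 0) =
      if g ∈ O then
        Nat.card (orb (O ⊓ centralizer ({σ} : Set G)) (pw σ (1 : ZMod (2 ^ k)) * τ)) *
          Nat.card (orb (O ⊓ centralizer ({σ} : Set G)) (pw σ (0 : ZMod (2 ^ k)) * τ)) else 0 := by
    intro g
    by_cases hg : g ∈ O
    · rw [if_pos hg]
      rw [← Equiv.sum_comp (MulAut.conj g).toEquiv]
      have h1 : ∀ u : G, (∑ v : G, if (MulAut.conj g).toEquiv u ∈ orb O (pw σ (1 : ZMod (2 ^ k)) * τ) ∧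
          v ∈ orb O (pw σ (0 : ZMod (2 ^ k)) * τ) ∧ g ∈ O ∧
          g⁻¹ * ((MulAut.conj g).toEquiv u * v) * g * σ⁻¹ ∈ O ⊓ centralizer ({σ} : Set G)
            then 1 else 0) =
          ∑ v : G, if u ∈ orb (O ⊓ centralizer ({σ} : Set G)) (pw σ (1 : ZMod (2 ^ k)) * τ) ∧
            v ∈ orb (O ⊓ centralizer ({σ} : Set G)) (pw σ (0 : ZMod (2 ^ k)) * τ) then 1 else 0 := by
        intro u
        rw [← Equiv.sum_comp (MulAut.conj g).toEquiv]
        refine Finset.sum_congr rfl fun v _ => ?_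
        refine if_congr ?_ rfl rfl
        rw [← hA u v]
        simp only [MulEquiv.toEquiv_eq_coe, MulEquiv.coe_toEquiv, MulAut.conj_apply]
        rw [orb_conj_mem hg, orb_conj_mem hg]
        have e1 : g⁻¹ * (g * u * g⁻¹ * (g * v * g⁻¹)) * g * σ⁻¹ = u * v * σ⁻¹ := by group
        rw [e1]
        constructor
        · rintro ⟨h1, h2, -, h3⟩
          exact ⟨h1, h2, h3⟩
        · rintro ⟨h1, h2, h3⟩
          exact ⟨h1, h2, hg, h3⟩
      simp only [h1]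
      rw [sum_ite_mem₂, mul_one]
    · rw [if_neg hg]
      apply Finset.sum_eq_zero
      intro u _
      apply Finset.sum_eq_zero
      intro v _
      rw [if_neg]
      rintro ⟨-, -, h, -⟩
      exact hg h
  have hT1 : (∑ u : G, ∑ v : G, ∑ g : G, if u ∈ orb O (pw σ (1 : ZMod (2 ^ k)) * τ) ∧
      v ∈ orb O (pw σ (0 : ZMod (2 ^ k)) * τ) ∧ g ∈ O ∧
        g⁻¹ * (u * v) * g * σ⁻¹ ∈ O ⊓ centralizer ({σ} : Set G) then 1 else 0) =
      Nat.card (orb O (pw σ (1 : ZMod (2 ^ k)) * τ)) *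
        Nat.card (orb O (pw σ (0 : ZMod (2 ^ k)) * τ)) *
        Nat.card ↥(O ⊓ centralizer ({σ} : Set G)) := by
    simp only [hS1]
    exact sum_ite_mem₂ _ _ _
  have hT2 : (∑ u : G, ∑ v : G, ∑ g : G, if u ∈ orb O (pw σ (1 : ZMod (2 ^ k)) * τ) ∧
      v ∈ orb O (pw σ (0 : ZMod (2 ^ k)) * τ) ∧ g ∈ O ∧
        g⁻¹ * (u * v) * g * σ⁻¹ ∈ O ⊓ centralizer ({σ} : Set G) then 1 else 0) =
      Nat.card O * (Nat.card (orb (O ⊓ centralizer ({σ} : Set G)) (pw σ (1 : ZMod (2 ^ k)) * τ)) *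
        Nat.card (orb (O ⊓ centralizer ({σ} : Set G)) (pw σ (0 : ZMod (2 ^ k)) * τ))) := by
    have h1 : ∀ u : G, (∑ v : G, ∑ g : G, if u ∈ orb O (pw σ (1 : ZMod (2 ^ k)) * τ) ∧
        v ∈ orb O (pw σ (0 : ZMod (2 ^ k)) * τ) ∧ g ∈ O ∧
          g⁻¹ * (u * v) * g * σ⁻¹ ∈ O ⊓ centralizer ({σ} : Set G) then 1 else 0) =
        ∑ g : G, ∑ v : G, if u ∈ orb O (pw σ (1 : ZMod (2 ^ k)) * τ) ∧
        v ∈ orb O (pw σ (0 : ZMod (2 ^ k)) * τ) ∧ g ∈ O ∧
          g⁻¹ * (u * v) * g * σ⁻¹ ∈ O ⊓ centralizer ({σ} : Set G) then 1 else 0 :=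
      fun u => Finset.sum_comm
    simp only [h1]
    rw [Finset.sum_comm]
    simp only [hS2]
    exact sum_ite_mem _ _
  rw [← hT1, hT2]

end bw

section sums

theorem sum_zmod_eq_sum_range {M : Type*} [AddCommMonoid M] (m : ℕ) [NeZero m] (f : ZMod m → M) :
    ∑ i : ZMod m, f i = ∑ t ∈ Finset.range m, f (t : ZMod m) := by
  symm
  refine Finset.sum_bij (fun t _ => (t : ZMod m)) (fun _ _ => Finset.mem_univ _) ?_ ?_
    (fun _ _ => rfl)
  · intro t ht t' ht' h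
    rw [Finset.mem_range] at ht ht'
    have := (ZMod.natCast_eq_natCast_iff' t t' m).1 h
    rwa [Nat.mod_eq_of_lt ht, Nat.mod_eq_of_lt ht'] at this
  · intro i _
    exact ⟨i.val, Finset.mem_range.2 (ZMod.val_lt i), ZMod.natCast_zmod_val i⟩

theorem sum_range_double {M : Type*} [AddCommMonoid M] (g : ℕ → M) (n : ℕ) :
    ∑ t ∈ Finset.range (2 * n), g t = ∑ s ∈ Finset.range n, (g (2 * s) + g (2 * s + 1)) := by
  induction n with
  | zero => simp
  | succ n ih =>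
    have : 2 * (n + 1) = 2 * n + 1 + 1 := by ring
    rw [this, Finset.sum_range_succ, Finset.sum_range_succ, ih, Finset.sum_range_succ, add_assoc]

/-- sums of functions of period two -/
theorem sum_period_two {k : ℕ} (hk : 1 ≤ k) (f : ZMod (2 ^ k) → ℕ) (hf : ∀ i, f (i + 2) = f i) :
    ∑ i : ZMod (2 ^ k), f i = 2 ^ (k - 1) * (f 0 + f 1) := by
  have h2 : 2 ^ k = 2 * 2 ^ (k - 1) := by
    have := two_pow_pred hk
    omega
  have h0 : ∀ s : ℕ, f ((2 * s : ℕ) : ZMod (2 ^ k)) = f 0 := by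
    intro s
    induction s with
    | zero => simp
    | succ s ih =>
      have : ((2 * (s + 1) : ℕ) : ZMod (2 ^ k)) = ((2 * s : ℕ) : ZMod (2 ^ k)) + 2 := by
        push_cast; ring
      rw [this, hf, ih]
  have h1 : ∀ s : ℕ, f ((2 * s + 1 : ℕ) : ZMod (2 ^ k)) = f 1 := by
    intro s
    induction s with
    | zero => simp
    | succ s ih =>
      have : ((2 * (s + 1) + 1 : ℕ) : ZMod (2 ^ k)) = ((2 * s + 1 : ℕ) : ZMod (2 ^ k)) + 2 := by
        push_cast; ring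
      rw [this, hf, ih]
  rw [sum_zmod_eq_sum_range]
  have h3 := sum_range_double (fun t : ℕ => f (t : ZMod (2 ^ k))) (2 ^ (k - 1))
  rw [← h2] at h3
  rw [h3]
  simp only [h0, h1, Finset.sum_const, Finset.card_range, smul_eq_mul]

end sums

section evaluate

variable {O P : Subgroup G} {σ τ : G} {k : ℕ} (F : Frame O P) (D : Dih P σ τ k)

include F D

theorem card_orb_shift (i : ZMod (2 ^ k)) :
    Nat.card (orb O (pw σ (i + 2) * τ)) = Nat.card (orb O (pw σ i * τ)) := by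
  have h := D.pw_conj_rf i 1
  rw [mul_one] at h
  rw [← h]
  exact F.card_orb_conj (D.pw_memP 1) _

theorem card_orb_add_hh (i : ZMod (2 ^ k)) :
    Nat.card (orb O (pw σ (i - hh k) * τ)) = Nat.card (orb O (pw σ i * τ)) := by
  -- `hh k = 2 * j` with `j = 2 ^ (k - 2)`
  have hk := D.hk
  have h1 : hh k = 2 * ((2 ^ (k - 2) : ℕ) : ZMod (2 ^ k)) := by
    unfold hh
    have : 2 ^ (k - 1) = 2 * 2 ^ (k - 2) := by
      have : k - 1 = (k - 2) + 1 := by omega
      rw [this, pow_succ]; ring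
    rw [this]
    push_cast
    ring
  have h := D.pw_conj_rf (i - hh k) ((2 ^ (k - 2) : ℕ) : ZMod (2 ^ k))
  rw [← h1, sub_add_cancel] at h
  rw [← h]
  exact (F.card_orb_conj (D.pw_memP _) _).symm

/-- the sum for the central involution -/
theorem sum_orb_hh :
    ∑ i : ZMod (2 ^ k), Nat.card (orb O (pw σ i * τ)) * Nat.card (orb O (pw σ (i - hh k) * τ)) =
      2 ^ (k - 1) * (Nat.card (orb O (pw σ (0 : ZMod (2 ^ k)) * τ)) ^ 2 +
        Nat.card (orb O (pw σ (1 : ZMod (2 ^ k)) * τ)) ^ 2) := by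
  have h1 : ∀ i : ZMod (2 ^ k),
      Nat.card (orb O (pw σ i * τ)) * Nat.card (orb O (pw σ (i - hh k) * τ)) =
      Nat.card (orb O (pw σ i * τ)) ^ 2 := by
    intro i
    rw [card_orb_add_hh F D, pow_two]
  simp only [h1]
  exact sum_period_two D.hk1 (fun i => Nat.card (orb O (pw σ i * τ)) ^ 2)
    (fun i => by simp only [card_orb_shift F D])

end evaluate

section evaluate_cent

variable {O P : Subgroup G} {σ τ : G} {k : ℕ} (D : Dih P σ τ k)

include D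

theorem card_orb_cent (i : ZMod (2 ^ k)) :
    Nat.card (orb (O ⊓ centralizer ({σ} : Set G)) (pw σ i * τ)) =
      Nat.card (orb (O ⊓ centralizer ({σ} : Set G)) τ) := by
  apply Frame.card_orb_mul
  intro μ hμ
  have hc : Commute μ σ := Subgroup.mem_centralizer_singleton_iff.1 (Subgroup.mem_inf.1 hμ).2
  exact (hc.pow_right _).eq

/-- the sum for `σ` -/
theorem sum_orb_one :
    ∑ i : ZMod (2 ^ k), Nat.card (orb (O ⊓ centralizer ({σ} : Set G)) (pw σ i * τ)) *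
        Nat.card (orb (O ⊓ centralizer ({σ} : Set G)) (pw σ (i - 1) * τ)) =
      2 ^ k * (Nat.card (orb (O ⊓ centralizer ({σ} : Set G)) (pw σ (1 : ZMod (2 ^ k)) * τ)) *
        Nat.card (orb (O ⊓ centralizer ({σ} : Set G)) (pw σ (0 : ZMod (2 ^ k)) * τ))) := by
  simp only [card_orb_cent D]
  rw [Finset.sum_const, Finset.card_univ, ZMod.card, smul_eq_mul]

end evaluate_cent

end Cfsg.Agent.Lib.Helper17_DihPairs
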