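import Mathlib
import Cfsg.Agent.Lib.Helper17_DihPairs

/-!
The centralizer of the central involution of a dihedral Sylow `2`-subgroup: the normal
`2`-complement `O`, the frames `(O, P)` and `(C_O(σ), P)`, and the orders of centralizers
(helper17).
-/

set_option autoImplicit false
set_option linter.unusedSectionVars false

namespace Cfsg.Agent.Lib.Helper17_DihCent

open Subgroup Cfsg.Agent.Lib.Helper17_DihCount Cfsg.Agent.Lib.Helper17_DihBlock
  Cfsg.Agent.Lib.Helper17_DihMain Cfsg.Agent.Lib.Helper17_DihPairs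
  Cfsg.Agent.Lib.Helper35_FrobeniusNPC

variable {G : Type*} [Group G]

/-- the normal `2`-complement of `C(J)` as a subgroup of `G` -/
structure CData (P : Subgroup G) (σ : G) (k : ℕ) (O : Subgroup G) : Prop where
  F : Frame O P
  hOle : O ≤ centralizer ({pw σ (hh k)} : Set G)
  hOn : ∀ g ∈ centralizer ({pw σ (hh k)} : Set G), ∀ ρ ∈ O, g * ρ * g⁻¹ ∈ O
  hcov : ∀ g ∈ centralizer ({pw σ (hh k)} : Set G), ∃ ρ ∈ O, ∃ p ∈ P, g = ρ * p

section dih

variable {P : Subgroup G} {σ τ : G} {k : ℕ} (D : Dih P σ τ k)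

include D

theorem J_sq : pw σ (hh k) * pw σ (hh k) = 1 := by
  rw [← pw_add D.hσo]
  have : hh k + hh k = 0 := by
    have := hh_neg D.hk1
    exact neg_add_cancel (hh k) ▸ (by rw [this])
  rw [this, pw_zero]

theorem J_ne_one : pw σ (hh k) ≠ 1 := by
  intro h
  exact hh_ne_zero D.hk1 ((pw_eq_one_iff D.hσo _).1 h)

theorem J_inv : (pw σ (hh k))⁻¹ = pw σ (hh k) := inv_eq_of_mul_eq_one_left (J_sq D)

/-- `P` centralizes `J` -/
theorem P_le_cent : P ≤ centralizer ({pw σ (hh k)} : Set G) := by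
  intro p hp
  rw [Subgroup.mem_centralizer_singleton_iff]
  obtain ⟨i, hi | hi⟩ := D.hall p hp
  · rw [hi, ← pw_add D.hσo, ← pw_add D.hσo, add_comm]
  · rw [hi, D.rf_mul_pw, D.pw_mul_rf]
    congr 2
    rw [sub_eq_add_neg, hh_neg D.hk1, add_comm]

theorem cent_sigma_le : centralizer ({σ} : Set G) ≤ centralizer ({pw σ (hh k)} : Set G) := by
  intro g hg
  rw [Subgroup.mem_centralizer_singleton_iff] at hg ⊢
  have hc : Commute g σ := hg
  exact (hc.pow_right _).eq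

end dih

section construct

variable [Finite G] {σ τ : G} {k : ℕ} (S₂ : Sylow 2 G) (D : Dih (S₂ : Subgroup G) σ τ k)

include D

/-- the construction of the data from a normal `2`-complement of `C(J)` -/
theorem exists_cdata (hcard : Nat.card (S₂ : Subgroup G) = 2 ^ (k + 1))
    (hnpc : HasNPC 2 (centralizer ({pw σ (hh k)} : Set G))) :
    ∃ O : Subgroup G, CData (S₂ : Subgroup G) σ k O := by
  have : Fact (Nat.Prime 2) := ⟨Nat.prime_two⟩
  obtain ⟨K, hKn, hKc, n', hKi⟩ := hnpc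
  have hPC := P_le_cent D
  set P' : Subgroup (centralizer ({pw σ (hh k)} : Set G)) :=
    (S₂ : Subgroup G).subgroupOf (centralizer ({pw σ (hh k)} : Set G)) with hP'
  have hP'card : Nat.card P' = 2 ^ (k + 1) := by
    rw [← hcard]
    exact Nat.card_congr (Subgroup.subgroupOfEquivOfLe hPC).toEquiv
  have hCcard : Nat.card (centralizer ({pw σ (hh k)} : Set G)) = Nat.card K * 2 ^ n' := by
    rw [← hKi, Subgroup.card_mul_index]
  have hKodd : Nat.Coprime (Nat.card K) (2 ^ (k + 1)) := Nat.Coprime.pow_right _ hKc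
  -- `n' = k + 1`
  have hn' : n' = k + 1 := by
    apply le_antisymm
    · have h1 : 2 ^ n' ∣ Nat.card G := by
        have h2 : Nat.card (centralizer ({pw σ (hh k)} : Set G)) ∣ Nat.card G :=
          Subgroup.card_subgroup_dvd_card _
        exact dvd_trans (Dvd.intro_left _ hCcard.symm) h2
      have h3 := Sylow.card_eq_multiplicity S₂
      rw [hcard] at h3
      have h4 : (Nat.card G).factorization 2 = k + 1 :=
        (Nat.pow_right_injective (le_refl 2) h3).symm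
      rw [← h4]
      exact (Nat.Prime.pow_dvd_iff_le_factorization Nat.prime_two Nat.card_pos.ne').1 h1
    · have h1 : 2 ^ (k + 1) ∣ Nat.card K * 2 ^ n' := by
        rw [← hCcard, ← hP'card]
        exact Subgroup.card_subgroup_dvd_card _
      have h2 : 2 ^ (k + 1) ∣ 2 ^ n' := (hKodd.symm).dvd_of_dvd_mul_left h1
      exact (Nat.pow_dvd_pow_iff_le_right (by norm_num)).1 h2
  have hcompl : IsComplement' K P' := by
    apply Subgroup.isComplement'_of_coprime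
    · rw [hP'card, hCcard, hn']
    · rw [hP'card]; exact hKodd
  refine ⟨K.map (centralizer ({pw σ (hh k)} : Set G)).subtype, ⟨⟨?_, D.two_group, ?_⟩, ?_, ?_, ?_⟩⟩
  · -- odd order
    have h1 : Nat.card (K.map (centralizer ({pw σ (hh k)} : Set G)).subtype) = Nat.card K :=
      Nat.card_congr (K.equivMapOfInjective _ (Subgroup.subtype_injective _)).toEquiv.symm
    rw [h1]
    exact Nat.coprime_two_left.1 hKc.symm
  · intro p hp ρ hρ
    obtain ⟨κ, hκ, rfl⟩ := Subgroup.mem_map.1 hρ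
    refine Subgroup.mem_map.2 ⟨⟨p, hPC hp⟩ * κ * ⟨p, hPC hp⟩⁻¹, hKn.conj_mem κ hκ _, rfl⟩
  · intro ρ hρ
    obtain ⟨κ, -, rfl⟩ := Subgroup.mem_map.1 hρ
    exact κ.2
  · intro g hg ρ hρ
    obtain ⟨κ, hκ, rfl⟩ := Subgroup.mem_map.1 hρ
    refine Subgroup.mem_map.2 ⟨⟨g, hg⟩ * κ * ⟨g, hg⟩⁻¹, hKn.conj_mem κ hκ _, rfl⟩
  · intro g hg
    obtain ⟨x, hx, -⟩ := (Subgroup.isComplement_iff_existsUnique.1 hcompl) ⟨g, hg⟩
    refine ⟨x.1.1, Subgroup.mem_map.2 ⟨x.1.1, x.1.2, rfl⟩, x.2.1, ?_, ?_⟩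
    · exact Subgroup.mem_subgroupOf.1 x.2.2
    · have := congrArg Subtype.val hx
      exact this.symm

end construct

section consequences

variable {P O : Subgroup G} {σ τ : G} {k : ℕ} (D : Dih P σ τ k) (C : CData P σ k O)

include D C

/-- the elements of odd order of `C(J)` lie in `O` -/
theorem hreg_J : ∀ g ∈ centralizer ({pw σ (hh k)} : Set G), Odd (orderOf g) → g ∈ O := by
  intro g hg hodd
  obtain ⟨ρ, hρ, p, hp, rfl⟩ := C.hcov g hg
  have h1 := C.F.pow_decomp hρ hp (orderOf (ρ * p))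
  rw [pow_orderOf_eq_one, one_mul] at h1
  have h2 : p ^ orderOf (ρ * p) = 1 := by
    apply C.F.eq_one _ (P.pow_mem hp _)
    have := O.inv_mem h1
    rwa [inv_inv] at this
  obtain ⟨j, hj⟩ := C.F.hP p hp
  have h3 : orderOf p ∣ orderOf (ρ * p) := orderOf_dvd_of_pow_eq_one h2
  have h4 : orderOf p ∣ 2 ^ j := orderOf_dvd_of_pow_eq_one hj
  have h5 : Nat.Coprime (orderOf (ρ * p)) (2 ^ j) :=
    Nat.Coprime.pow_right j (Nat.coprime_two_right.2 hodd)
  have h6 : p = 1 := orderOf_eq_one_iff.1 (Nat.eq_one_of_dvd_coprimes h5 h3 h4)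
  rw [h6, mul_one]
  exact hρ

theorem cov_J : ∀ g : G, g * pw σ (hh k) * g⁻¹ = (pw σ (hh k))⁻¹ →
    ∃ ρ ∈ O, ∃ p ∈ P, g = ρ * p := by
  intro g hg
  apply C.hcov
  rw [Subgroup.mem_centralizer_singleton_iff]
  rw [J_inv D] at hg
  calc g * pw σ (hh k) = (g * pw σ (hh k) * g⁻¹) * g := by group
    _ = pw σ (hh k) * g := by rw [hg]

theorem hOy_J : ∀ ρ ∈ O, ρ * pw σ (hh k) = pw σ (hh k) * ρ := by
  intro ρ hρ
  exact Subgroup.mem_centralizer_singleton_iff.1 (C.hOle hρ)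

theorem cov_sigma : ∀ g : G, g * pw σ (1 : ZMod (2 ^ k)) * g⁻¹ = (pw σ (1 : ZMod (2 ^ k)))⁻¹ →
    ∃ ρ ∈ O ⊓ centralizer ({σ} : Set G), ∃ p ∈ P, g = ρ * p := by
  intro g hg
  rw [pw_one' D] at hg
  have hgJ : g ∈ centralizer ({pw σ (hh k)} : Set G) := by
    rw [Subgroup.mem_centralizer_singleton_iff]
    have h1 : g * pw σ (hh k) * g⁻¹ = pw σ (hh k) := by
      conv_rhs => rw [← J_inv D]
      unfold pw
      rw [← conj_pow, hg, inv_pow]
    calc g * pw σ (hh k) = (g * pw σ (hh k) * g⁻¹) * g := by group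
      _ = pw σ (hh k) * g := by rw [h1]
  obtain ⟨ρ, hρ, p, hp, rfl⟩ := C.hcov g hgJ
  refine ⟨ρ, ?_, p, hp, rfl⟩
  rw [Subgroup.mem_inf, Subgroup.mem_centralizer_singleton_iff]
  refine ⟨hρ, ?_⟩
  have hs : p * σ * p⁻¹ ∈ P := P.mul_mem (P.mul_mem hp D.hσP) (P.inv_mem hp)
  have h1 : ρ * (p * σ * p⁻¹) * ρ⁻¹ = σ⁻¹ := by
    rw [← hg]; group
  have h2 : ρ * ((p * σ * p⁻¹) * ρ⁻¹ * (p * σ * p⁻¹)⁻¹) = σ⁻¹ * (p * σ * p⁻¹)⁻¹ := by
    rw [← h1]; group
  have h3 : σ⁻¹ * (p * σ * p⁻¹)⁻¹ = 1 := by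
    apply C.F.eq_one _ (P.mul_mem (P.inv_mem D.hσP) (P.inv_mem hs))
    rw [← h2]
    exact O.mul_mem hρ (C.F.hnorm _ hs _ (O.inv_mem hρ))
  have h4 : p * σ * p⁻¹ = σ⁻¹ := by
    have := mul_eq_one_iff_eq_inv.1 h3
    rw [inv_inv] at this
    exact this.symm
  rw [h4] at h1
  -- `ρ` commutes with `σ⁻¹`
  have h5 : Commute ρ σ⁻¹ := by
    show ρ * σ⁻¹ = σ⁻¹ * ρ
    calc ρ * σ⁻¹ = (ρ * σ⁻¹ * ρ⁻¹) * ρ := by group
      _ = σ⁻¹ * ρ := by rw [h1]
  have h6 := h5.inv_right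
  rw [inv_inv] at h6
  exact h6.eq

theorem hreg_sigma : ∀ g ∈ centralizer ({σ} : Set G), Odd (orderOf g) →
    g ∈ O ⊓ centralizer ({σ} : Set G) := by
  intro g hg hodd
  exact Subgroup.mem_inf.2 ⟨hreg_J D C g (cent_sigma_le D hg) hodd, hg⟩

theorem norm_sigma : ∀ g ∈ centralizer ({σ} : Set G), ∀ ρ ∈ O ⊓ centralizer ({σ} : Set G),
    g * ρ * g⁻¹ ∈ O ⊓ centralizer ({σ} : Set G) := by
  intro g hg ρ hρ
  rw [Subgroup.mem_inf] at hρ ⊢
  refine ⟨C.hOn g (cent_sigma_le D hg) ρ hρ.1, ?_⟩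
  exact (centralizer ({σ} : Set G)).mul_mem ((centralizer ({σ} : Set G)).mul_mem hg hρ.2)
    ((centralizer ({σ} : Set G)).inv_mem hg)

/-- the order of `C(J)` -/
theorem card_cent_J :
    Nat.card (centralizer ({pw σ (hh k)} : Set G)) = Nat.card O * Nat.card P := by
  rw [← Nat.card_prod]
  symm
  apply Nat.card_congr
  refine Equiv.ofBijective (fun x : O × P => ⟨x.1.1 * x.2.1,
    (centralizer ({pw σ (hh k)} : Set G)).mul_mem (C.hOle x.1.2) (P_le_cent D x.2.2)⟩) ⟨?_, ?_⟩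
  · rintro ⟨⟨ρ, hρ⟩, ⟨p, hp⟩⟩ ⟨⟨ρ', hρ'⟩, ⟨p', hp'⟩⟩ h
    have h1 : ρ * p = ρ' * p' := congrArg Subtype.val h
    obtain ⟨h2, h3⟩ := C.F.unique hρ hρ' hp hp' h1
    subst h2 h3
    rfl
  · rintro ⟨g, hg⟩
    obtain ⟨ρ, hρ, p, hp, rfl⟩ := C.hcov g hg
    exact ⟨⟨⟨ρ, hρ⟩, ⟨p, hp⟩⟩, rfl⟩

/-- the order of `C(J, a)` for an element `a` of `P` -/
theorem card_cent_pair {a : G} (ha : a ∈ P) :
    Nat.card (centralizer ({pw σ (hh k), a} : Set G)) =
      Nat.card ↥(O ⊓ centralizer ({a} : Set G)) * Nat.card ↥(P ⊓ centralizer ({a} : Set G)) := by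
  rw [← Nat.card_prod]
  symm
  apply Nat.card_congr
  have hmem : ∀ g : G, g ∈ centralizer ({pw σ (hh k), a} : Set G) ↔
      g ∈ centralizer ({pw σ (hh k)} : Set G) ∧ g ∈ centralizer ({a} : Set G) := by
    intro g
    rw [Subgroup.mem_centralizer_iff, Subgroup.mem_centralizer_singleton_iff,
      Subgroup.mem_centralizer_singleton_iff]
    constructor
    · intro h
      exact ⟨(h _ (Set.mem_insert _ _)).symm, (h _ (Set.mem_insert_of_mem _ rfl)).symm⟩
    · rintro ⟨h1, h2⟩ x hx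
      rcases hx with rfl | hx
      · exact h1.symm
      · rw [Set.mem_singleton_iff] at hx
        rw [hx]; exact h2.symm
  refine Equiv.ofBijective (fun x : ↥(O ⊓ centralizer ({a} : Set G)) ×
      ↥(P ⊓ centralizer ({a} : Set G)) => ⟨x.1.1 * x.2.1, ?_⟩) ⟨?_, ?_⟩
  · rw [hmem]
    have h1 := Subgroup.mem_inf.1 x.1.2
    have h2 := Subgroup.mem_inf.1 x.2.2
    exact ⟨Subgroup.mul_mem _ (C.hOle h1.1) (P_le_cent D h2.1), Subgroup.mul_mem _ h1.2 h2.2⟩
  · rintro ⟨⟨ρ, hρ⟩, ⟨p, hp⟩⟩ ⟨⟨ρ', hρ'⟩, ⟨p', hp'⟩⟩ h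
    have h1 : ρ * p = ρ' * p' := congrArg Subtype.val h
    obtain ⟨h2, h3⟩ := C.F.unique (Subgroup.mem_inf.1 hρ).1 (Subgroup.mem_inf.1 hρ').1
      (Subgroup.mem_inf.1 hp).1 (Subgroup.mem_inf.1 hp').1 h1
    subst h2 h3
    rfl
  · rintro ⟨g, hg⟩
    rw [hmem] at hg
    obtain ⟨ρ, hρ, p, hp, rfl⟩ := C.hcov g hg.1
    have hga : ρ * p * a * (ρ * p)⁻¹ = a := by
      have := Subgroup.mem_centralizer_singleton_iff.1 hg.2
      rw [this]; group
    have hs : p * a * p⁻¹ ∈ P := P.mul_mem (P.mul_mem hp ha) (P.inv_mem hp)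
    have h1 : ρ * (p * a * p⁻¹) * ρ⁻¹ = a := by
      calc ρ * (p * a * p⁻¹) * ρ⁻¹ = ρ * p * a * (ρ * p)⁻¹ := by group
        _ = a := hga
    have h2 : ρ * ((p * a * p⁻¹) * ρ⁻¹ * (p * a * p⁻¹)⁻¹) = a * (p * a * p⁻¹)⁻¹ := by
      calc ρ * ((p * a * p⁻¹) * ρ⁻¹ * (p * a * p⁻¹)⁻¹)
          = (ρ * (p * a * p⁻¹) * ρ⁻¹) * (p * a * p⁻¹)⁻¹ := by group
        _ = a * (p * a * p⁻¹)⁻¹ := by rw [h1]
    have h3 : a * (p * a * p⁻¹)⁻¹ = 1 := by
      apply C.F.eq_one _ (P.mul_mem ha (P.inv_mem hs))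
      rw [← h2]
      exact O.mul_mem hρ (C.F.hnorm _ hs _ (O.inv_mem hρ))
    have h4 : p * a * p⁻¹ = a := (mul_inv_eq_one.1 h3).symm
    rw [h4] at h1
    have hρa : ρ ∈ centralizer ({a} : Set G) := by
      rw [Subgroup.mem_centralizer_singleton_iff]
      calc ρ * a = (ρ * a * ρ⁻¹) * ρ := by group
        _ = a * ρ := by rw [h1]
    have hpa : p ∈ centralizer ({a} : Set G) := by
      rw [Subgroup.mem_centralizer_singleton_iff]
      calc p * a = (p * a * p⁻¹) * p := by group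
        _ = a * p := by rw [h4]
    exact ⟨⟨⟨ρ, Subgroup.mem_inf.2 ⟨hρ, hρa⟩⟩, ⟨p, Subgroup.mem_inf.2 ⟨hp, hpa⟩⟩⟩, rfl⟩

end consequences

section four

variable {P : Subgroup G} {σ τ : G} {k : ℕ} (D : Dih P σ τ k)

include D

theorem eq_zero_or_hh {j : ZMod (2 ^ k)} (h : j = -j) : j = 0 ∨ j = hh k := by
  by_cases h0 : j = 0
  · exact Or.inl h0
  · exact Or.inr (hh_uniq D.hk1 j h0 h.symm)

/-- the centralizer of a reflection in `P` has order four -/
theorem card_cent_rf (i : ZMod (2 ^ k)) :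
    Nat.card ↥(P ⊓ centralizer ({pw σ i * τ} : Set G)) = 4 := by
  have hk1 := D.hk1
  have hhh : hh k + hh k = 0 := by
    nth_rewrite 1 [← hh_neg hk1]
    exact neg_add_cancel _
  have hset : ((P ⊓ centralizer ({pw σ i * τ} : Set G) : Subgroup G) : Set G) =
      {pw σ (0 : ZMod (2 ^ k)), pw σ (hh k), pw σ i * τ, pw σ (i + hh k) * τ} := by
    ext p
    rw [SetLike.mem_coe, Subgroup.mem_inf, Subgroup.mem_centralizer_singleton_iff]
    simp only [Set.mem_insert_iff, Set.mem_singleton_iff]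
    constructor
    · rintro ⟨hp, hc⟩
      obtain ⟨j, hj | hj⟩ := D.hall p hp
      · rw [hj, D.pw_mul_rf, D.rf_mul_pw] at hc
        have h1 := D.rf_injective hc
        have h2 : j = -j := by linear_combination h1
        rcases eq_zero_or_hh D h2 with h | h
        · left; rw [hj, h]
        · right; left; rw [hj, h]
      · rw [hj, D.rf_mul_rf, D.rf_mul_rf] at hc
        have h1 := pw_injective D.hσo hc
        have h2 : j - i = -(j - i) := by linear_combination h1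
        rcases eq_zero_or_hh D h2 with h | h
        · right; right; left
          rw [hj, sub_eq_zero.1 h]
        · right; right; right
          rw [hj]
          congr 2
          rw [← h]; ring
    · rintro (h | h | h | h)
      · rw [h, pw_zero]
        exact ⟨P.one_mem, by rw [one_mul, mul_one]⟩
      · rw [h]
        refine ⟨D.pw_memP _, ?_⟩
        rw [D.pw_mul_rf, D.rf_mul_pw]
        congr 2
        rw [sub_eq_add_neg, hh_neg hk1, add_comm]
      · rw [h]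
        exact ⟨D.rf_memP _, rfl⟩
      · rw [h]
        refine ⟨D.rf_memP _, ?_⟩
        rw [D.rf_mul_rf, D.rf_mul_rf]
        congr 1
        have : i + hh k - i = hh k := by ring
        rw [this]
        have : i - (i + hh k) = -hh k := by ring
        rw [this, hh_neg hk1]
  have hne1 : pw σ (0 : ZMod (2 ^ k)) ≠ pw σ (hh k) := by
    intro h
    exact hh_ne_zero hk1 (pw_injective D.hσo h).symm
  have hne2 : pw σ i * τ ≠ pw σ (i + hh k) * τ := by
    intro h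
    have := D.rf_injective h
    apply hh_ne_zero hk1
    have h2 : hh k = (i + hh k) - i := by ring
    rw [h2, ← this, sub_self]
  have : Nat.card ↥(P ⊓ centralizer ({pw σ i * τ} : Set G)) =
      Set.ncard ((P ⊓ centralizer ({pw σ i * τ} : Set G) : Subgroup G) : Set G) :=
    (Nat.card_coe_set_eq _)
  rw [this, hset, Set.ncard_insert_of_notMem _ (Set.toFinite _),
    Set.ncard_insert_of_notMem _ (Set.toFinite _), Set.ncard_pair hne2]
  · simp only [Set.mem_insert_iff, Set.mem_singleton_iff, not_or]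
    exact ⟨fun h => D.rf_ne_pw _ _ h.symm, fun h => D.rf_ne_pw _ _ h.symm⟩
  · simp only [Set.mem_insert_iff, Set.mem_singleton_iff, not_or]
    exact ⟨hne1, fun h => D.rf_ne_pw _ _ h.symm, fun h => D.rf_ne_pw _ _ h.symm⟩

end four

end Cfsg.Agent.Lib.Helper17_DihCent
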