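import Mathlib
import Cfsg.Agent.Lib.Helper17_DihMain

/-!
The principal `2`-block of a group with dihedral Sylow `2`-subgroups (Brauer): the main theorem in
terms of `k` with `|P| = 2 ^ (k + 1)` (helper17).
-/

set_option autoImplicit false
set_option maxHeartbeats 1000000
set_option linter.unusedSectionVars false

namespace Cfsg.Agent.Lib.Helper17_DihFinal

open Cfsg Subgroup Cfsg.Agent.Lib.Helper17_DihFourier Cfsg.Agent.Lib.Helper17_DihShape
  Cfsg.Agent.Lib.Helper17_DihGram Cfsg.Agent.Lib.Helper17_DihGroup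
  Cfsg.Agent.Lib.Helper17_DihChar Cfsg.Agent.Lib.Helper17_DihBlock
  Cfsg.Agent.Lib.Helper17_DihMain

open scoped ComplexConjugate

theorem sum_mul_indC {ι : Type*} [Fintype ι] [DecidableEq ι] (w : ι → ℂ) (p : ι) :
    ∑ χ, w χ * (((if χ = p then 1 else 0 : ℤ)) : ℂ) = w p := by
  have : ∀ χ, w χ * (((if χ = p then 1 else 0 : ℤ)) : ℂ) = if χ = p then w χ else 0 := by
    intro χ
    split_ifs <;> simp
  simp only [this]
  rw [Finset.sum_ite_eq' Finset.univ p, if_pos (Finset.mem_univ _)]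

variable {G : Type*} [Group G] [Finite G] {M : Ideal AlgInt}

section out

variable {k : ℕ} {σ : G} {ζ : ℂ} [Fintype (Blk M G)] [DecidableEq (Blk M G)]
  {u : Blk M G → ZMod (2 ^ k) → ℤ} {x : Blk M G → ℤ} {o : Blk M G}
  (hvalu : ∀ χ : Blk M G, ∀ l : ZMod (2 ^ k), l ≠ 0 →
    (χ.1 : G → ℂ) (pw σ l) = ∑ r : ZMod (2 ^ k), (u χ r : ℂ) * ee ζ (r * l))
  (H : Hyp u x o (hh k)) (S : Shape u x o (hh k))
  (hk : 2 ≤ k) (hσo : orderOf σ = 2 ^ k) (hζ : IsPrimitiveRoot ζ (2 ^ k))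

include hvalu H hk hσo hζ

/-- the value of `χ₁` -/
theorem val_a (l : ℕ) (hl0 : 0 < l) (hl : l < 2 ^ k) :
    (S.a.1 : G → ℂ) (σ ^ l) = ((-S.η : ℤ) : ℂ) := by
  have hL : ((l : ℕ) : ZMod (2 ^ k)) ≠ 0 := by
    intro h
    rw [ZMod.natCast_eq_zero_iff] at h
    have := Nat.le_of_dvd hl0 h
    omega
  rw [← pw_natCast hσo l, hvalu _ _ hL]
  have h1 : ∀ r : ZMod (2 ^ k), ((u S.a r : ℤ) : ℂ) * ee ζ (r * (l : ZMod (2 ^ k))) =
      (S.η : ℂ) * (if r = 0 then 0 else ee ζ (r * (l : ZMod (2 ^ k)))) := by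
    intro r
    by_cases hr : r = 0
    · rw [if_pos hr, hr, H.hu0]; simp
    · rw [if_neg hr, S.ua r hr]
  simp only [h1]
  rw [← Finset.mul_sum, sum_ee_ne_zero hζ hL]
  push_cast
  ring

/-- the values of `χ₂` and `χ₃` -/
theorem val_cd (l : ℕ) (hl0 : 0 < l) (hl : l < 2 ^ k) :
    (S.c.1 : G → ℂ) (σ ^ l) = ((-S.ηc : ℤ) : ℂ) * (-1) ^ (l + 1) ∧
    (S.d.1 : G → ℂ) (σ ^ l) = ((-S.ηd : ℤ) : ℂ) * (-1) ^ (l + 1) := by
  have hk1 : 1 ≤ k := by omega
  have hζ1 := hζ.pow_eq_one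
  have hL : ((l : ℕ) : ZMod (2 ^ k)) ≠ 0 := by
    intro h
    rw [ZMod.natCast_eq_zero_iff] at h
    have := Nat.le_of_dvd hl0 h
    omega
  have key : ∀ (t : Blk M G) (ε : ℤ),
      (∀ r : ZMod (2 ^ k), r ≠ 0 → u t r = if r = hh k then ε else 0) →
      (t.1 : G → ℂ) (σ ^ l) = ((-ε : ℤ) : ℂ) * (-1) ^ (l + 1) := by
    intro t ε ht
    rw [← pw_natCast hσo l, hvalu _ _ hL]
    have h1 : ∀ r : ZMod (2 ^ k), ((u t r : ℤ) : ℂ) * ee ζ (r * (l : ZMod (2 ^ k))) =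
        if r = hh k then (ε : ℂ) * ee ζ (hh k * (l : ZMod (2 ^ k))) else 0 := by
      intro r
      by_cases hr : r = 0
      · rw [hr, H.hu0, if_neg (hh_ne_zero hk1).symm]; simp
      · rw [ht r hr]
        by_cases hrh : r = hh k
        · rw [if_pos hrh, if_pos hrh, hrh]
        · rw [if_neg hrh, if_neg hrh]; simp
    simp only [h1]
    rw [Finset.sum_ite_eq' Finset.univ (hh k), if_pos (Finset.mem_univ _), ee_mul_natCast hζ1,
      neg_one_pow_half hk1 hζ, pow_succ]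
    push_cast
    ring
  exact ⟨key S.c S.ηc S.uc, key S.d S.ηd S.ud⟩

/-- the values of the characters of height one -/
theorem val_b (j : Fin (2 ^ (k - 1) - 1)) (l : ℕ) (hl0 : 0 < l) (hl : l < 2 ^ k) :
    ((S.b (jr k j)).1 : G → ℂ) (σ ^ l) =
      ((-S.η : ℤ) : ℂ) * (ζ ^ ((j.val + 1) * l) + (ζ ^ ((j.val + 1) * l))⁻¹) := by
  have hk1 : 1 ≤ k := by omega
  have hζ1 := hζ.pow_eq_one
  have hL : ((l : ℕ) : ZMod (2 ^ k)) ≠ 0 := by
    intro h
    rw [ZMod.natCast_eq_zero_iff] at h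
    have := Nat.le_of_dvd hl0 h
    omega
  have hr0 := jr_ne_zero hk1 j
  have hrh := jr_ne_hh hk1 j
  have hrneg : jr k j ≠ -jr k j := jr_ne_neg hk1 j j
  rw [← pw_natCast hσo l, hvalu _ _ hL]
  have h1 : ∀ s : ZMod (2 ^ k), ((u (S.b (jr k j)) s : ℤ) : ℂ) * ee ζ (s * (l : ZMod (2 ^ k))) =
      (if s = jr k j then ((-S.η : ℤ) : ℂ) * ee ζ (jr k j * (l : ZMod (2 ^ k))) else 0) +
      (if s = -jr k j then ((-S.η : ℤ) : ℂ) * ee ζ (-jr k j * (l : ZMod (2 ^ k))) else 0) := by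
    intro s
    by_cases hs : s = 0
    · rw [hs, H.hu0, if_neg hr0.symm, if_neg (fun h => hr0 (neg_eq_zero.1 h.symm))]; simp
    · rw [S.ub _ hr0 hrh s hs]
      by_cases h2 : s = jr k j
      · rw [if_pos (Or.inl h2), if_pos h2, if_neg (fun h => hrneg (h2.symm.trans h)), h2, add_zero]
      · by_cases h3 : s = -jr k j
        · rw [if_pos (Or.inr h3), if_neg h2, if_pos h3, h3, zero_add]
        · rw [if_neg (fun h => h.elim h2 h3), if_neg h2, if_neg h3]; simp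
  simp only [h1]
  rw [Finset.sum_add_distrib, Finset.sum_ite_eq' Finset.univ (jr k j),
    Finset.sum_ite_eq' Finset.univ (-jr k j), if_pos (Finset.mem_univ _),
    if_pos (Finset.mem_univ _)]
  have h2 : ee ζ (jr k j * (l : ZMod (2 ^ k))) = ζ ^ ((j.val + 1) * l) := by
    unfold jr
    rw [← Nat.cast_mul, ee_natCast hζ1]
  have h3 : ee ζ (-jr k j * (l : ZMod (2 ^ k))) = (ζ ^ ((j.val + 1) * l))⁻¹ := by
    rw [neg_mul, ee_neg_eq_inv hζ1, h2]
  rw [h2, h3]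
  ring

/-- the relations on elements of odd order -/
theorem rel_odd (w : Blk M G → ℂ)
    (hw : ∀ l : ZMod (2 ^ k), l ≠ 0 → ∑ χ : Blk M G, w χ * (χ.1 : G → ℂ) (pw σ l) = 0)
    (j : Fin (2 ^ (k - 1) - 1)) :
    w o + ((-S.η : ℤ) : ℂ) * w S.a = -((-S.ηc : ℤ) : ℂ) * w S.c - ((-S.ηd : ℤ) : ℂ) * w S.d ∧
    w o + ((-S.η : ℤ) : ℂ) * w S.a = ((-S.η : ℤ) : ℂ) * w (S.b (jr k j)) := by
  have hk1 : 1 ≤ k := by omega
  have hr0 := jr_ne_zero hk1 j
  have hrh := jr_ne_hh hk1 j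
  have hD := degree_rel hζ u H.hu0 (fun χ l => (χ.1 : G → ℂ) (pw σ l)) hvalu w hw
  constructor
  · have h1 := hD (hh k)
    have h2 : ∀ χ : Blk M G, w χ * ((u χ (hh k) : ℤ) : ℂ) =
        (S.η : ℂ) * (w χ * (((if χ = S.a then 1 else 0 : ℤ)) : ℂ)) +
        (S.ηc : ℂ) * (w χ * (((if χ = S.c then 1 else 0 : ℤ)) : ℂ)) +
        (S.ηd : ℂ) * (w χ * (((if χ = S.d then 1 else 0 : ℤ)) : ℂ)) -
        w χ * (((if χ = o then 1 else 0 : ℤ)) : ℂ) := by
      intro χ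
      rw [S.formh χ]
      push_cast
      ring
    simp only [h2, Finset.sum_sub_distrib, Finset.sum_add_distrib, ← Finset.mul_sum,
      sum_mul_indC] at h1
    push_cast
    linear_combination -h1
  · have h1 := hD (jr k j)
    have h2 : ∀ χ : Blk M G, w χ * ((u χ (jr k j) : ℤ) : ℂ) =
        (S.η : ℂ) * (w χ * (((if χ = S.a then 1 else 0 : ℤ)) : ℂ)) -
        (S.η : ℂ) * (w χ * (((if χ = S.b (jr k j) then 1 else 0 : ℤ)) : ℂ)) -
        w χ * (((if χ = o then 1 else 0 : ℤ)) : ℂ) := by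
      intro χ
      rw [S.formR _ hr0 hrh χ]
      push_cast
      ring
    simp only [h2, Finset.sum_sub_distrib, ← Finset.mul_sum, sum_mul_indC] at h1
    push_cast
    linear_combination -h1

/-- the labelling is injective -/
theorem b_jr_injective : Function.Injective (fun j : Fin (2 ^ (k - 1) - 1) => S.b (jr k j)) := by
  have hk1 : 1 ≤ k := by omega
  intro j j' h
  rcases S.hbinj _ _ (jr_ne_zero hk1 j) (jr_ne_hh hk1 j) (jr_ne_zero hk1 j') (jr_ne_hh hk1 j') h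
    with h1 | h1
  · exact jr_injective hk1 h1
  · exact absurd h1 (jr_ne_neg hk1 j j')

/-- every member of the block is listed -/
theorem all_listed (χ : Blk M G) :
    χ = o ∨ χ = S.a ∨ χ = S.c ∨ χ = S.d ∨ ∃ j : Fin (2 ^ (k - 1) - 1), χ = S.b (jr k j) := by
  have hk1 : 1 ≤ k := by omega
  rcases S.hall χ with h | h | h | h | ⟨r, hr0, hrh, h⟩
  · exact Or.inl h
  · exact Or.inr (Or.inl h)
  · exact Or.inr (Or.inr (Or.inl h))
  · exact Or.inr (Or.inr (Or.inr (Or.inl h)))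
  · refine Or.inr (Or.inr (Or.inr (Or.inr ?_)))
    obtain ⟨j, hj | hj⟩ := exists_jr hk1 hr0 hrh
    · exact ⟨j, by rw [h, hj]⟩
    · exact ⟨j, by rw [h, ← hj, S.hbneg r hr0 hrh]⟩

include S in
/-- the number of characters in the block -/
theorem card_blk : Fintype.card (Blk M G) = 3 + 2 ^ (k - 1) := by
  have hk1 : 1 ≤ k := by omega
  have hbo := fun j : Fin (2 ^ (k - 1) - 1) => S.hbo _ (jr_ne_zero hk1 j) (jr_ne_hh hk1 j)
  have huniv : (Finset.univ : Finset (Blk M G)) = insert o (insert S.a (insert S.c (insert S.d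
      (Finset.univ.image (fun j : Fin (2 ^ (k - 1) - 1) => S.b (jr k j)))))) := by
    ext χ
    simp only [Finset.mem_univ, true_iff, Finset.mem_insert, Finset.mem_image, true_and]
    rcases all_listed hvalu H S hk hσo hζ χ with h | h | h | h | ⟨j, h⟩
    · exact Or.inl h
    · exact Or.inr (Or.inl h)
    · exact Or.inr (Or.inr (Or.inl h))
    · exact Or.inr (Or.inr (Or.inr (Or.inl h)))
    · exact Or.inr (Or.inr (Or.inr (Or.inr ⟨j, h.symm⟩)))
  have hpos : 0 < 2 ^ (k - 1) := pow_pos (by norm_num) _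
  rw [← Finset.card_univ, huniv, Finset.card_insert_of_notMem, Finset.card_insert_of_notMem,
    Finset.card_insert_of_notMem, Finset.card_insert_of_notMem,
    Finset.card_image_of_injective _ (b_jr_injective hvalu H S hk hσo hζ), Finset.card_univ,
    Fintype.card_fin]
  · omega
  · simp only [Finset.mem_image, Finset.mem_univ, true_and, not_exists]
    intro j hj
    exact (hbo j).2.2.2 hj
  · simp only [Finset.mem_insert, Finset.mem_image, Finset.mem_univ, true_and, not_or, not_exists]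
    exact ⟨S.hcd, fun j hj => (hbo j).2.2.1 hj⟩
  · simp only [Finset.mem_insert, Finset.mem_image, Finset.mem_univ, true_and, not_or, not_exists]
    exact ⟨S.hac, S.had, fun j hj => (hbo j).2.1 hj⟩
  · simp only [Finset.mem_insert, Finset.mem_image, Finset.mem_univ, true_and, not_or, not_exists]
    exact ⟨S.hao.symm, S.hco.symm, S.hdo.symm, fun j hj => (hbo j).1 hj⟩

end out

/-- **Brauer: the principal `2`-block of a group with dihedral Sylow `2`-subgroups** (in terms of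
`k` with `|P| = 2 ^ (k + 1)`) -/
theorem main (hM : IsPModular 2 M) {k k' : ℕ} (hk : 2 ≤ k) (hk' : k' = k - 1) (P : Sylow 2 G)
    (e : ↥(P : Subgroup G) ≃* DihedralGroup (2 ^ k)) {σ : G} (hσP : σ ∈ (P : Subgroup G))
    (hσo : orderOf σ = 2 ^ k) {ζ : ℂ} (hζ : IsPrimitiveRoot ζ (2 ^ k)) :
    Nat.card (principalBlock M G) = 3 + 2 ^ k' ∧
    ∃ (χ₁ χ₂ χ₃ : IrrCharacter G) (χ' : Fin (2 ^ k' - 1) → IrrCharacter G) (δ₁ δ₂ δ₃ : ℤ),
      (δ₁ = 1 ∨ δ₁ = -1) ∧ (δ₂ = 1 ∨ δ₂ = -1) ∧ (δ₃ = 1 ∨ δ₃ = -1) ∧ Function.Injective χ' ∧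
      (χ₁ : G → ℂ) ≠ (fun _ => 1) ∧ (χ₂ : G → ℂ) ≠ (fun _ => 1) ∧ (χ₃ : G → ℂ) ≠ (fun _ => 1) ∧
      χ₁ ≠ χ₂ ∧ χ₁ ≠ χ₃ ∧ χ₂ ≠ χ₃ ∧
      (∀ j, χ' j ≠ χ₁ ∧ χ' j ≠ χ₂ ∧ χ' j ≠ χ₃ ∧ (χ' j : G → ℂ) ≠ (fun _ => 1)) ∧
      principalBlock M G = {χ : IrrCharacter G | (χ : G → ℂ) = (fun _ => 1) ∨ χ = χ₁ ∨ χ = χ₂ ∨
        χ = χ₃ ∨ ∃ j, χ = χ' j} ∧
      (∀ l : ℕ, 0 < l → l < 2 ^ k → (χ₁ : G → ℂ) (σ ^ l) = δ₁ ∧
        (χ₂ : G → ℂ) (σ ^ l) = δ₂ * (-1) ^ (l + 1) ∧ (χ₃ : G → ℂ) (σ ^ l) = δ₃ * (-1) ^ (l + 1) ∧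
        ∀ j : Fin (2 ^ k' - 1), (χ' j : G → ℂ) (σ ^ l) =
          δ₁ * (ζ ^ (((j : ℕ) + 1) * l) + (ζ ^ (((j : ℕ) + 1) * l))⁻¹)) ∧
      ∀ ρ : G, Odd (orderOf ρ) → ∀ j : Fin (2 ^ k' - 1),
        1 + δ₁ * (χ₁ : G → ℂ) ρ = -δ₂ * (χ₂ : G → ℂ) ρ - δ₃ * (χ₃ : G → ℂ) ρ ∧
        1 + δ₁ * (χ₁ : G → ℂ) ρ = δ₁ * (χ' j : G → ℂ) ρ := by
  subst hk'
  classical
  haveI : Fintype (Blk M G) := Fintype.ofFinite _
  obtain ⟨u, x, hvalu, hx1, H⟩ := exists_data hM hk P e hσP hσo hζ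
  obtain ⟨S⟩ := H.shape (resHyp hk)
  have hk1 : 1 ≤ k := by omega
  have hbo := fun j : Fin (2 ^ (k - 1) - 1) => S.hbo _ (jr_ne_zero hk1 j) (jr_ne_hh hk1 j)
  have hone : ∀ t : Blk M G, (t.1 : G → ℂ) = (fun _ => 1) →
      t = ⟨Cfsg.Agent.Lib.Helper80_CharBasic.oneIrr G, one_mem hM⟩ := by
    intro t ht
    exact Subtype.ext (Subtype.ext ht)
  have hsub : ∀ t t' : Blk M G, t.1 = t'.1 → t = t' := fun t t' h => Subtype.ext h
  refine ⟨?_, S.a.1, S.c.1, S.d.1, fun j => (S.b (jr k j)).1, -S.η, -S.ηc, -S.ηd, ?_, ?_, ?_,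
    ?_, ?_, ?_, ?_, ?_, ?_, ?_, ?_, ?_, ?_, ?_⟩
  · -- the cardinality
    have h1 : Nat.card (principalBlock M G) = Nat.card (Blk M G) := rfl
    rw [h1, Nat.card_eq_fintype_card]
    exact card_blk hvalu H S hk hσo hζ
  · rcases S.hη with h | h <;> omega
  · rcases S.hηc with h | h <;> omega
  · rcases S.hηd with h | h <;> omega
  · intro j j' h
    exact b_jr_injective hvalu H S hk hσo hζ (hsub _ _ h)
  · exact fun h => S.hao (hone _ h)
  · exact fun h => S.hco (hone _ h)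
  · exact fun h => S.hdo (hone _ h)
  · exact fun h => S.hac (hsub _ _ h)
  · exact fun h => S.had (hsub _ _ h)
  · exact fun h => S.hcd (hsub _ _ h)
  · intro j
    exact ⟨fun h => (hbo j).2.1 (hsub _ _ h), fun h => (hbo j).2.2.1 (hsub _ _ h),
      fun h => (hbo j).2.2.2 (hsub _ _ h), fun h => (hbo j).1 (hone _ h)⟩
  · -- the block as a set
    ext χ
    simp only [Set.mem_setOf_eq]
    constructor
    · intro hχ
      rcases all_listed hvalu H S hk hσo hζ ⟨χ, hχ⟩ with h | h | h | h | ⟨j, h⟩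
      · left
        have := congrArg (fun t : Blk M G => (t.1 : G → ℂ)) h
        exact this
      · exact Or.inr (Or.inl (congrArg Subtype.val h))
      · exact Or.inr (Or.inr (Or.inl (congrArg Subtype.val h)))
      · exact Or.inr (Or.inr (Or.inr (Or.inl (congrArg Subtype.val h))))
      · exact Or.inr (Or.inr (Or.inr (Or.inr ⟨j, congrArg Subtype.val h⟩)))
    · rintro (h | h | h | h | ⟨j, h⟩)
      · have : χ = Cfsg.Agent.Lib.Helper80_CharBasic.oneIrr G := Subtype.ext h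
        rw [this]
        exact one_mem hM
      · rw [h]; exact S.a.2
      · rw [h]; exact S.c.2
      · rw [h]; exact S.d.2
      · rw [h]; exact (S.b (jr k j)).2
  · -- the values on the powers of `σ`
    intro l hl0 hl
    refine ⟨?_, ?_, ?_, ?_⟩
    · exact val_a hvalu H S hk hσo hζ l hl0 hl
    · exact (val_cd hvalu H S hk hσo hζ l hl0 hl).1
    · exact (val_cd hvalu H S hk hσo hζ l hl0 hl).2
    · intro j
      exact val_b hvalu H S hk hσo hζ j l hl0 hl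
  · -- the relations on the elements of odd order
    intro ρ hρ j
    have hw : ∀ l : ZMod (2 ^ k), l ≠ 0 →
        ∑ χ : Blk M G, conj ((χ.1 : G → ℂ) ρ) * (χ.1 : G → ℂ) (pw σ l) = 0 := by
      intro l hl
      have h2 : ∃ j : ℕ, orderOf (pw σ l) = 2 ^ j := by
        have h1 : orderOf (pw σ l) ∣ 2 ^ k := by
          have h0 : orderOf (σ ^ l.val) ∣ orderOf σ := orderOf_pow_dvd _
          rw [hσo] at h0
          exact h0
        obtain ⟨j, -, hj⟩ := (Nat.dvd_prime_pow Nat.prime_two).1 h1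
        exact ⟨j, hj⟩
      have h3 : pw σ l ≠ 1 := fun h => hl ((pw_eq_one_iff hσo l).1 h)
      have h4 := col_orth_odd hM (pw σ l) ρ h2 h3 hρ
      rw [finsum_block] at h4
      rw [← h4]
      exact Finset.sum_congr rfl fun χ _ => mul_comm _ _
    obtain ⟨h1, h2⟩ := rel_odd hvalu H S hk hσo hζ (fun χ => conj ((χ.1 : G → ℂ) ρ)) hw j
    have h1' := congrArg conj h1
    have h2' := congrArg conj h2
    have hone' : ((⟨Cfsg.Agent.Lib.Helper80_CharBasic.oneIrr G, one_mem hM⟩ : Blk M G).1 : G → ℂ) ρ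
        = 1 := rfl
    simp only [map_add, map_mul, map_sub, map_neg, Complex.conj_conj, map_intCast, hone',
      map_one] at h1' h2'
    exact ⟨h1', h2'⟩

end Cfsg.Agent.Lib.Helper17_DihFinal
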