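import Mathlib
import Cfsg.Agent.S4479
import Cfsg.Agent.Lib.Helper30_SectionNorm
import Cfsg.Agent.Lib.Helper30_KleinBlock
import Cfsg.Agent.Lib.Helper30_KleinFour
import Cfsg.Agent.Lib.Helper17_DihFinal

/-!
The class multiplication count for the principal `2`-block at a `2`-element with `2`-nilpotent
centralizer, and the character side of Brauer's order formula for dihedral Sylow `2`-subgroups
(helper17).
-/

set_option autoImplicit false
set_option maxHeartbeats 1000000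
set_option linter.unusedSectionVars false

namespace Cfsg.Agent.Lib.Helper17_DihTsum

open Cfsg Subgroup
open scoped ComplexConjugate

universe u

open Classical in
/-- the class multiplication count at a `2`-element `y` whose centralizer has the normal
`2`-complement `O` -/
theorem gen_count {G : Type u} [Group G] [Fintype G] (M : Ideal AlgInt) (hM : IsPModular 2 M)
    {J y : G} (hJ : orderOf J = 2) (hy : ∃ k : ℕ, orderOf y = 2 ^ k) (O : Subgroup G)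
    (hOle : O ≤ centralizer ({y} : Set G))
    (hOn : ∀ g ∈ centralizer ({y} : Set G), ∀ ρ ∈ O, g * ρ * g⁻¹ ∈ O)
    (hOodd : Odd (Nat.card O))
    (hreg : ∀ g ∈ centralizer ({y} : Set G), Odd (orderOf g) → g ∈ O) :
    ∑ᶠ χ ∈ principalBlock M G, (χ : G → ℂ) J ^ 2 / (χ : G → ℂ) 1 * (χ : G → ℂ) y =
      ((Nat.card G : ℂ) * (Nat.card O : ℂ))⁻¹ *
        ((∑ h : G, ∑ g : G,
          if (g⁻¹ * J * g) * (h⁻¹ * J * h) * y⁻¹ ∈ O then 1 else 0 : ℕ) : ℂ) := by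
  have : Fact (Nat.Prime 2) := ⟨Nat.prime_two⟩
  have : Fintype (IrrCharacter G) := Fintype.ofFinite _
  have : Fintype (centralizer ({y} : Set G)) := Fintype.ofFinite _
  have hJinv := Cfsg.Agent.Lib.Helper30_KleinFour.inv_eq_self_of_order_two hJ
  -- the complement inside the centralizer
  obtain ⟨K, hK⟩ : ∃ K : Subgroup (centralizer ({y} : Set G)),
      K = O.subgroupOf (centralizer ({y} : Set G)) := ⟨_, rfl⟩
  have hKmem : ∀ k : centralizer ({y} : Set G), k ∈ K ↔ (k : G) ∈ O := by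
    intro k
    rw [hK, Subgroup.mem_subgroupOf]
  have hKn : K.Normal := by
    constructor
    intro κ hκ g
    rw [hKmem] at hκ ⊢
    exact hOn g.1 g.2 κ.1 hκ
  have hKcard : Nat.card K = Nat.card O := by
    rw [hK]
    exact Nat.card_congr (Subgroup.subgroupOfEquivOfLe hOle).toEquiv
  have hKmap : K.map (centralizer ({y} : Set G)).subtype = O := by
    rw [hK, Subgroup.subgroupOf_map_subtype]
    exact inf_eq_left.2 hOle
  have hA : ∑ᶠ χ ∈ principalBlock M G, (χ : G → ℂ) J ^ 2 / (χ : G → ℂ) 1 * (χ : G → ℂ) y =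
      ∑ χ : IrrCharacter G, (χ : G → ℂ) J ^ 2 / (χ : G → ℂ) 1 *
        ∑ k : centralizer ({y} : Set G),
          blockCoeff (principalBlock M (centralizer ({y} : Set G))) k *
            (χ : G → ℂ) ((k : G) * y) := by
    rw [finsum_mem_def, finsum_eq_sum_of_fintype]
    refine Finset.sum_congr rfl fun χ _ => ?_
    by_cases hχ : χ ∈ principalBlock M G
    · rw [Set.indicator_of_mem hχ]
      have h1 := Cfsg.Agent.Lib.Helper30_SectionNorm.fact_two hM hy χ hχ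
      rw [finsum_eq_sum_of_fintype] at h1
      rw [h1]
    · rw [Set.indicator_of_notMem hχ]
      have h1 := Cfsg.Agent.Lib.Helper30_SectionNorm.fact_one hM hy χ hχ
      rw [finsum_eq_sum_of_fintype] at h1
      rw [h1, mul_zero]
  rw [hA]
  have hOnd : ¬ 2 ∣ Nat.card K := by
    rw [hKcard]
    exact fun h => (Nat.not_even_iff_odd.2 hOodd) (even_iff_two_dvd.2 h)
  have hreg' : ∀ k : centralizer ({y} : Set G), ¬ 2 ∣ orderOf k → k ∈ K := by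
    intro k hk
    rw [hKmem]
    apply hreg k.1 k.2
    rw [← Subgroup.orderOf_coe] at hk
    exact Nat.not_even_iff_odd.1 (fun h => hk (even_iff_two_dvd.1 h))
  have he : ∀ k : centralizer ({y} : Set G),
      blockCoeff (principalBlock M (centralizer ({y} : Set G))) k =
        if k ∈ K then (Nat.card K : ℂ)⁻¹ else 0 :=
    fun k => Cfsg.Agent.Lib.Helper30_KleinBlock.blockCoeff_principal_of_npc hM K hOnd hreg' k
  simp only [he]
  have hterm : ∀ χ : IrrCharacter G, (χ : G → ℂ) J ^ 2 / (χ : G → ℂ) 1 *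
      ∑ k : centralizer ({y} : Set G),
        (if k ∈ K then (Nat.card K : ℂ)⁻¹ else 0) * (χ : G → ℂ) ((k : G) * y) =
      (Nat.card G : ℂ)⁻¹ * ∑ g : G, ∑ k : centralizer ({y} : Set G),
        (if k ∈ K then (Nat.card K : ℂ)⁻¹ else 0) *
          ((χ : G → ℂ) (J * (g * J * g⁻¹)) * (χ : G → ℂ) ((k : G) * y)) := by
    intro χ
    rw [Cfsg.Agent.S4479.sq_div_eq_sum, mul_assoc, Finset.sum_mul_sum]
    congr 1
    refine Finset.sum_congr rfl fun g _ => Finset.sum_congr rfl fun k _ => ?_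
    ring
  simp only [hterm]
  rw [← Finset.mul_sum, Finset.sum_comm]
  have h2 : ∀ g : G, ∑ χ : IrrCharacter G, ∑ k : centralizer ({y} : Set G),
        (if k ∈ K then (Nat.card K : ℂ)⁻¹ else 0) *
          ((χ : G → ℂ) (J * (g * J * g⁻¹)) * (χ : G → ℂ) ((k : G) * y)) =
      ∑ h : G, if (h⁻¹ * (J * (g * J * g⁻¹)) * h)⁻¹ * y⁻¹ ∈
        K.map (centralizer ({y} : Set G)).subtype then (Nat.card K : ℂ)⁻¹ else 0 := by
    intro g
    rw [Finset.sum_comm]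
    simp only [← Finset.mul_sum, Cfsg.Agent.S4479.sum_irr_mul_irr]
    simp only [Finset.mul_sum]
    rw [Finset.sum_comm]
    refine Finset.sum_congr rfl fun h _ => ?_
    exact Cfsg.Agent.S4479.sum_coset_indicator (centralizer ({y} : Set G)) K y _
      (h⁻¹ * (J * (g * J * g⁻¹)) * h)
  simp only [h2]
  have hcond : ∀ g h : G, (h⁻¹ * (J * (g * J * g⁻¹)) * h)⁻¹ * y⁻¹ =
      ((g⁻¹ * h)⁻¹ * J * (g⁻¹ * h)) * (h⁻¹ * J * h) * y⁻¹ := by
    intro g h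
    calc (h⁻¹ * (J * (g * J * g⁻¹)) * h)⁻¹ * y⁻¹
        = h⁻¹ * g * J⁻¹ * g⁻¹ * J⁻¹ * h * y⁻¹ := by group
      _ = h⁻¹ * g * J * g⁻¹ * J * h * y⁻¹ := by rw [hJinv]
      _ = ((g⁻¹ * h)⁻¹ * J * (g⁻¹ * h)) * (h⁻¹ * J * h) * y⁻¹ := by group
  simp only [hcond, hKmap]
  rw [Finset.sum_comm]
  have h3 : ∀ h : G, (∑ g : G, if ((g⁻¹ * h)⁻¹ * J * (g⁻¹ * h)) * (h⁻¹ * J * h) * y⁻¹ ∈ O
        then (Nat.card K : ℂ)⁻¹ else 0) =
      ∑ g : G, if (g⁻¹ * J * g) * (h⁻¹ * J * h) * y⁻¹ ∈ O then (Nat.card K : ℂ)⁻¹ else 0 := by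
    intro h
    exact Fintype.sum_equiv ((Equiv.inv G).trans (Equiv.mulRight h)) _ _ (fun g => rfl)
  simp only [h3]
  push_cast
  have h4 : ∀ h g : G, (if (g⁻¹ * J * g) * (h⁻¹ * J * h) * y⁻¹ ∈ O
        then (Nat.card K : ℂ)⁻¹ else 0) =
      (Nat.card K : ℂ)⁻¹ * (if (g⁻¹ * J * g) * (h⁻¹ * J * h) * y⁻¹ ∈ O then 1 else 0) := by
    intro h g
    split_ifs
    · rw [mul_one]
    · rw [mul_zero]
  simp only [h4, ← Finset.mul_sum]
  rw [mul_inv, hKcard]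
  ring

open Cfsg.Agent.Lib.Helper17_DihFourier Cfsg.Agent.Lib.Helper17_DihShape
  Cfsg.Agent.Lib.Helper17_DihGram Cfsg.Agent.Lib.Helper17_DihGroup
  Cfsg.Agent.Lib.Helper17_DihChar Cfsg.Agent.Lib.Helper17_DihBlock
  Cfsg.Agent.Lib.Helper17_DihMain Cfsg.Agent.Lib.Helper17_DihFinal

section abstract

variable {G : Type*} [Group G] [Finite G] {M : Ideal AlgInt}
  {k : ℕ} {σ : G} {ζ : ℂ} [Fintype (Blk M G)] [DecidableEq (Blk M G)]
  {u : Blk M G → ZMod (2 ^ k) → ℤ} {x : Blk M G → ℤ} {o : Blk M G}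
  (hvalu : ∀ χ : Blk M G, ∀ l : ZMod (2 ^ k), l ≠ 0 →
    (χ.1 : G → ℂ) (pw σ l) = ∑ r : ZMod (2 ^ k), (u χ r : ℂ) * ee ζ (r * l))
  (H : Hyp u x o (hh k)) (S : Shape u x o (hh k))
  (hk : 2 ≤ k) (hσo : orderOf σ = 2 ^ k) (hζ : IsPrimitiveRoot ζ (2 ^ k))

include hvalu H hk hσo hζ

/-- the value of `χ₁` -/
theorem val_a' {l : ZMod (2 ^ k)} (hL : l ≠ 0) :
    (S.a.1 : G → ℂ) (pw σ l) = ((-S.η : ℤ) : ℂ) := by
  rw [hvalu _ _ hL]
  have h1 : ∀ r : ZMod (2 ^ k), ((u S.a r : ℤ) : ℂ) * ee ζ (r * l) =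
      (S.η : ℂ) * (if r = 0 then 0 else ee ζ (r * l)) := by
    intro r
    by_cases hr : r = 0
    · rw [if_pos hr, hr, H.hu0]; simp
    · rw [if_neg hr, S.ua r hr]
  simp only [h1]
  rw [← Finset.mul_sum, sum_ee_ne_zero hζ hL]
  push_cast
  ring

/-- the values of `χ₂` and `χ₃` -/
theorem val_cd' {l : ZMod (2 ^ k)} (hL : l ≠ 0) :
    (S.c.1 : G → ℂ) (pw σ l) = (S.ηc : ℂ) * ee ζ (hh k * l) ∧
    (S.d.1 : G → ℂ) (pw σ l) = (S.ηd : ℂ) * ee ζ (hh k * l) := by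
  have hk1 : 1 ≤ k := by omega
  have key : ∀ (t : Blk M G) (ε : ℤ),
      (∀ r : ZMod (2 ^ k), r ≠ 0 → u t r = if r = hh k then ε else 0) →
      (t.1 : G → ℂ) (pw σ l) = (ε : ℂ) * ee ζ (hh k * l) := by
    intro t ε ht
    rw [hvalu _ _ hL]
    have h1 : ∀ r : ZMod (2 ^ k), ((u t r : ℤ) : ℂ) * ee ζ (r * l) =
        if r = hh k then (ε : ℂ) * ee ζ (hh k * l) else 0 := by
      intro r
      by_cases hr : r = 0
      · rw [hr, H.hu0, if_neg (hh_ne_zero hk1).symm]; simp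
      · rw [ht r hr]
        by_cases hrh : r = hh k
        · rw [if_pos hrh, if_pos hrh, hrh]
        · rw [if_neg hrh, if_neg hrh]; simp
    simp only [h1]
    rw [Finset.sum_ite_eq' Finset.univ (hh k), if_pos (Finset.mem_univ _)]
  exact ⟨key S.c S.ηc S.uc, key S.d S.ηd S.ud⟩

/-- the values of the characters of height one -/
theorem val_b' {r : ZMod (2 ^ k)} (hr0 : r ≠ 0) (hrh : r ≠ hh k) {l : ZMod (2 ^ k)}
    (hL : l ≠ 0) :
    ((S.b r).1 : G → ℂ) (pw σ l) = ((-S.η : ℤ) : ℂ) * (ee ζ (r * l) + ee ζ (-r * l)) := by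
  have hrneg : r ≠ -r := H.ne_neg hr0 hrh
  rw [hvalu _ _ hL]
  have h1 : ∀ s : ZMod (2 ^ k), ((u (S.b r) s : ℤ) : ℂ) * ee ζ (s * l) =
      (if s = r then ((-S.η : ℤ) : ℂ) * ee ζ (r * l) else 0) +
      (if s = -r then ((-S.η : ℤ) : ℂ) * ee ζ (-r * l) else 0) := by
    intro s
    by_cases hs : s = 0
    · rw [hs, H.hu0, if_neg hr0.symm, if_neg (fun h => hr0 (neg_eq_zero.1 h.symm))]; simp
    · rw [S.ub _ hr0 hrh s hs]
      by_cases h2 : s = r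
      · rw [if_pos (Or.inl h2), if_pos h2, if_neg (fun h => hrneg (h2.symm.trans h)), h2, add_zero]
      · by_cases h3 : s = -r
        · rw [if_pos (Or.inr h3), if_neg h2, if_pos h3, h3, zero_add]
        · rw [if_neg (fun h => h.elim h2 h3), if_neg h2, if_neg h3]; simp
  simp only [h1]
  rw [Finset.sum_add_distrib, Finset.sum_ite_eq' Finset.univ r,
    Finset.sum_ite_eq' Finset.univ (-r), if_pos (Finset.mem_univ _),
    if_pos (Finset.mem_univ _)]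
  ring

omit hvalu H hσo in
theorem ee_hh_mul_hh : ee ζ (hh k * hh k) = 1 := by
  have hk1 : 1 ≤ k := by omega
  rw [ee_mul hζ.pow_eq_one, neg_one_pow_half hk1 hζ, hh_val hk1]
  have : 2 ^ (k - 1) = 2 * 2 ^ (k - 2) := by
    have : k - 1 = (k - 2) + 1 := by omega
    rw [this, pow_succ]; ring
  rw [this, pow_mul]
  norm_num

omit hvalu H hσo in
theorem ee_mul_hh_sq (r : ZMod (2 ^ k)) : ee ζ (r * hh k) * ee ζ (r * hh k) = 1 := by
  have hk1 : 1 ≤ k := by omega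
  rw [← ee_add hζ.pow_eq_one, ← mul_add]
  have : hh k + hh k = 0 := by
    nth_rewrite 1 [← hh_neg hk1]
    exact neg_add_cancel _
  rw [this, mul_zero, ee_zero]

/-- the square of the value of a character of height one at the central involution -/
theorem val_b_sq {r : ZMod (2 ^ k)} (hr0 : r ≠ 0) (hrh : r ≠ hh k) :
    (((S.b r).1 : G → ℂ) (pw σ (hh k))) ^ 2 = 4 := by
  have hk1 : 1 ≤ k := by omega
  rw [val_b' hvalu H S hk hσo hζ hr0 hrh (hh_ne_zero hk1)]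
  have h1 : ee ζ (-r * hh k) = ee ζ (r * hh k) := by
    rw [neg_mul, ← mul_neg, hh_neg hk1]
  rw [h1]
  have h2 := ee_mul_hh_sq hk hζ r
  have h3 : ((-S.η : ℤ) : ℂ) ^ 2 = 1 := by
    rcases S.hη with h | h <;> rw [h] <;> norm_num
  calc (((-S.η : ℤ) : ℂ) * (ee ζ (r * hh k) + ee ζ (r * hh k))) ^ 2
      = ((-S.η : ℤ) : ℂ) ^ 2 * (4 * (ee ζ (r * hh k) * ee ζ (r * hh k))) := by ring
    _ = 4 := by rw [h2, h3]; ring

/-- the transform of a weighted sum over the block -/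
theorem T_eq (w : Blk M G → ℂ) (Wg Wh : ℂ)
    (hWg : ∀ r : ZMod (2 ^ k), r ≠ 0 → r ≠ hh k → ∑ χ : Blk M G, w χ * (u χ r : ℂ) = Wg)
    (hWh : ∑ χ : Blk M G, w χ * (u χ (hh k) : ℂ) = Wh) {l : ZMod (2 ^ k)} (hL : l ≠ 0) :
    ∑ χ : Blk M G, w χ * (χ.1 : G → ℂ) (pw σ l) = -Wg + (Wh - Wg) * ee ζ (hh k * l) := by
  have hk1 : 1 ≤ k := by omega
  have h1 : ∀ χ : Blk M G, w χ * (χ.1 : G → ℂ) (pw σ l) =
      ∑ r : ZMod (2 ^ k), w χ * (u χ r : ℂ) * ee ζ (r * l) := by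
    intro χ
    rw [hvalu χ l hL, Finset.mul_sum]
    refine Finset.sum_congr rfl fun r _ => ?_
    ring
  simp only [h1]
  rw [Finset.sum_comm]
  have h2 : ∀ r : ZMod (2 ^ k), ∑ χ : Blk M G, w χ * (u χ r : ℂ) * ee ζ (r * l) =
      Wg * (if r = 0 then 0 else ee ζ (r * l)) +
        (if r = hh k then (Wh - Wg) * ee ζ (hh k * l) else 0) := by
    intro r
    rw [← Finset.sum_mul]
    by_cases hr0 : r = 0
    · rw [if_pos hr0, if_neg (fun h : r = hh k => hh_ne_zero hk1 (h.symm.trans hr0)), hr0]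
      simp only [H.hu0, Int.cast_zero, mul_zero, Finset.sum_const_zero, zero_mul, add_zero]
    · rw [if_neg hr0]
      by_cases hrh : r = hh k
      · rw [if_pos hrh, hrh, hWh]; ring
      · rw [if_neg hrh, hWg r hr0 hrh, add_zero]
  simp only [h2]
  rw [Finset.sum_add_distrib, ← Finset.mul_sum, sum_ee_ne_zero hζ hL,
    Finset.sum_ite_eq' Finset.univ (hh k), if_pos (Finset.mem_univ _)]
  ring

end abstract

section concrete

variable {G : Type*} [Group G] [Finite G] {M : Ideal AlgInt}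

theorem one_ne_hh {k : ℕ} (hk : 2 ≤ k) : (1 : ZMod (2 ^ k)) ≠ hh k := by
  intro h
  have h1 := hh_val (k := k) (by omega)
  rw [← h] at h1
  have h2 : (2 : ℕ) ^ k ≠ 1 := by
    have : 2 ^ 2 ≤ 2 ^ k := Nat.pow_le_pow_right (by norm_num) hk
    omega
  rw [ZMod.val_one'' h2] at h1
  have : 2 ^ 1 ≤ 2 ^ (k - 1) := Nat.pow_le_pow_right (by norm_num) (by omega)
  omega

theorem one_ne_zero'' {k : ℕ} (hk : 2 ≤ k) : (1 : ZMod (2 ^ k)) ≠ 0 := by
  intro h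
  have h2 : (2 : ℕ) ^ k ≠ 1 := by
    have : 2 ^ 2 ≤ 2 ^ k := Nat.pow_le_pow_right (by norm_num) hk
    omega
  have h1 := ZMod.val_one'' h2
  rw [h, ZMod.val_zero] at h1
  omega

/-- **the character side of Brauer's order formula** -/
theorem char_side (hM : IsPModular 2 M) {k : ℕ} (hk : 2 ≤ k) (P : Sylow 2 G)
    (e : ↥(P : Subgroup G) ≃* DihedralGroup (2 ^ k)) {σ : G} (hσP : σ ∈ (P : Subgroup G))
    (hσo : orderOf σ = 2 ^ k) (χ₁ : IrrCharacter G) (hχ₁ : χ₁ ∈ principalBlock M G)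
    (h1 : (χ₁ : G → ℂ) ≠ fun _ => 1) (δ₁ : ℤ) (hδ₁ : δ₁ = 1 ∨ δ₁ = -1)
    (hval : ∀ l : ZMod (2 ^ k), l ≠ 0 → (χ₁ : G → ℂ) (pw σ l) = δ₁) :
    ∃ x₁ : ℤ, 0 < x₁ ∧ 0 < x₁ + δ₁ ∧ (χ₁ : G → ℂ) 1 = x₁ ∧
      (∑ᶠ χ ∈ principalBlock M G, (χ : G → ℂ) (pw σ (hh k)) ^ 2 / (χ : G → ℂ) 1 *
        (χ : G → ℂ) (pw σ (1 : ZMod (2 ^ k)))) +
      (∑ᶠ χ ∈ principalBlock M G, (χ : G → ℂ) (pw σ (hh k)) ^ 2 / (χ : G → ℂ) 1 *
        (χ : G → ℂ) (pw σ (hh k))) = 2 + 2 * (δ₁ : ℂ) / x₁ - 8 * (δ₁ : ℂ) / (x₁ + δ₁) := by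
  classical
  have hk1 : 1 ≤ k := by omega
  have hζ : IsPrimitiveRoot (Complex.exp (2 * Real.pi * Complex.I / ((2 ^ k : ℕ) : ℂ))) (2 ^ k) :=
    Complex.isPrimitiveRoot_exp (2 ^ k) (by positivity)
  set ζ := Complex.exp (2 * Real.pi * Complex.I / ((2 ^ k : ℕ) : ℂ)) with hζdef
  have : Fintype (Blk M G) := Fintype.ofFinite _
  obtain ⟨u, x, hvalu, hx1, H⟩ := exists_data hM hk P e hσP hσo hζ
  obtain ⟨o, ho⟩ : ∃ o : Blk M G, o = ⟨Cfsg.Agent.Lib.Helper80_CharBasic.oneIrr G, one_mem hM⟩ :=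
    ⟨_, rfl⟩
  rw [← ho] at H
  obtain ⟨S⟩ := H.shape (resHyp hk)
  have h10 := one_ne_zero'' hk
  have h1h := one_ne_hh hk
  have hh0 := hh_ne_zero hk1
  have heh : ee ζ (hh k * 1) = -1 := by rw [mul_one]; exact neg_one_pow_half hk1 hζ
  have hehh : ee ζ (hh k * hh k) = 1 := ee_hh_mul_hh hk hζ
  have hηc : (S.ηc : ℂ) ≠ 0 := by
    rcases S.hηc with h | h <;> rw [h] <;> norm_num
  have hηd : (S.ηd : ℂ) ≠ 0 := by
    rcases S.hηd with h | h <;> rw [h] <;> norm_num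
  have hδsq : (δ₁ : ℂ) ^ 2 = 1 := by
    rcases hδ₁ with h | h <;> rw [h] <;> norm_num
  -- identification of `χ₁`
  have hid : (⟨χ₁, hχ₁⟩ : Blk M G) = S.a := by
    rcases S.hall ⟨χ₁, hχ₁⟩ with h | h | h | h | ⟨r, hr0, hrh, h⟩
    · exfalso
      apply h1
      have := congrArg (fun t : Blk M G => (t.1 : G → ℂ)) h
      rw [ho] at this
      exact this
    · exact h
    · exfalso
      have e1 := (val_cd' hvalu H S hk hσo hζ h10).1
      have e2 := (val_cd' hvalu H S hk hσo hζ hh0).1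
      rw [← h, heh] at e1
      rw [← h, hehh] at e2
      have e3 : (χ₁ : G → ℂ) (pw σ (1 : ZMod (2 ^ k))) = δ₁ := hval 1 h10
      have e4 : (χ₁ : G → ℂ) (pw σ (hh k)) = δ₁ := hval _ hh0
      have e1' : (χ₁ : G → ℂ) (pw σ (1 : ZMod (2 ^ k))) = (S.ηc : ℂ) * -1 := e1
      have e2' : (χ₁ : G → ℂ) (pw σ (hh k)) = (S.ηc : ℂ) * 1 := e2
      rw [e3] at e1'
      rw [e4] at e2'
      apply hηc
      linear_combination (1 / 2 : ℂ) * e1' - (1 / 2 : ℂ) * e2'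
    · exfalso
      have e1 := (val_cd' hvalu H S hk hσo hζ h10).2
      have e2 := (val_cd' hvalu H S hk hσo hζ hh0).2
      rw [← h, heh] at e1
      rw [← h, hehh] at e2
      have e3 : (χ₁ : G → ℂ) (pw σ (1 : ZMod (2 ^ k))) = δ₁ := hval 1 h10
      have e4 : (χ₁ : G → ℂ) (pw σ (hh k)) = δ₁ := hval _ hh0
      have e1' : (χ₁ : G → ℂ) (pw σ (1 : ZMod (2 ^ k))) = (S.ηd : ℂ) * -1 := e1
      have e2' : (χ₁ : G → ℂ) (pw σ (hh k)) = (S.ηd : ℂ) * 1 := e2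
      rw [e3] at e1'
      rw [e4] at e2'
      apply hηd
      linear_combination (1 / 2 : ℂ) * e1' - (1 / 2 : ℂ) * e2'
    · exfalso
      have e1 := val_b_sq hvalu H S hk hσo hζ hr0 hrh
      rw [← h] at e1
      have e4 : (χ₁ : G → ℂ) (pw σ (hh k)) = δ₁ := hval _ hh0
      have e1' : ((χ₁ : G → ℂ) (pw σ (hh k))) ^ 2 = 4 := e1
      rw [e4, hδsq] at e1'
      norm_num at e1'
  have hχa : S.a.1 = χ₁ := by rw [← hid]
  have hδη : δ₁ = -S.η := by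
    have e1 := val_a' hvalu H S hk hσo hζ h10
    rw [hχa, hval 1 h10] at e1
    exact_mod_cast e1
  have hη : S.η = -δ₁ := by rw [hδη, neg_neg]
  have hxa : (χ₁ : G → ℂ) 1 = (x S.a : ℂ) := by rw [← hχa]; exact hx1 S.a
  have hxb : x (S.b 1) = x S.a + δ₁ := by rw [S.xb 1 h10 h1h, hη]; ring
  have hpos1 : 0 < x S.a := H.hxpos S.a
  have hpos2 : 0 < x S.a + δ₁ := by rw [← hxb]; exact H.hxpos _
  refine ⟨x S.a, hpos1, hpos2, hxa, ?_⟩
  -- the weights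
  set w : Blk M G → ℂ := fun χ => (χ.1 : G → ℂ) (pw σ (hh k)) ^ 2 / (χ.1 : G → ℂ) 1 with hw
  have hwo : w o = 1 := by
    have h2 : ∀ g : G, (o.1 : G → ℂ) g = 1 := fun g => by rw [ho]; rfl
    simp only [hw, h2]
    norm_num
  have hwa : w S.a = 1 / (x S.a : ℂ) := by
    simp only [hw]
    rw [val_a' hvalu H S hk hσo hζ hh0, hx1 S.a]
    have : ((-S.η : ℤ) : ℂ) ^ 2 = 1 := by
      rcases S.hη with h | h <;> rw [h] <;> norm_num
    rw [this]
  have hwb : ∀ r : ZMod (2 ^ k), r ≠ 0 → r ≠ hh k →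
      w (S.b r) = 4 / ((x S.a : ℂ) + δ₁) := by
    intro r hr0 hrh
    simp only [hw]
    rw [val_b_sq hvalu H S hk hσo hζ hr0 hrh, hx1 (S.b r), S.xb r hr0 hrh, hη]
    push_cast
    congr 1
    ring
  obtain ⟨Wg, hWgdef⟩ : ∃ Wg : ℂ,
      Wg = (S.η : ℂ) * (1 / (x S.a : ℂ) - 4 / ((x S.a : ℂ) + δ₁)) - 1 := ⟨_, rfl⟩
  have hWg : ∀ r : ZMod (2 ^ k), r ≠ 0 → r ≠ hh k →
      ∑ χ : Blk M G, w χ * (u χ r : ℂ) = Wg := by
    intro r hr0 hrh
    have h2 : ∀ χ : Blk M G, w χ * ((u χ r : ℤ) : ℂ) =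
        (S.η : ℂ) * (w χ * (((if χ = S.a then 1 else 0 : ℤ)) : ℂ)) -
        (S.η : ℂ) * (w χ * (((if χ = S.b r then 1 else 0 : ℤ)) : ℂ)) -
        w χ * (((if χ = o then 1 else 0 : ℤ)) : ℂ) := by
      intro χ
      rw [S.formR _ hr0 hrh χ]
      push_cast
      ring
    simp only [h2, Finset.sum_sub_distrib, ← Finset.mul_sum, sum_mul_indC]
    rw [hwa, hwb r hr0 hrh, hwo, hWgdef]
    ring
  have hT1 := T_eq hvalu H hk hσo hζ w Wg _ hWg rfl h10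
  have hT2 := T_eq hvalu H hk hσo hζ w Wg _ hWg rfl hh0
  rw [heh] at hT1
  rw [hehh] at hT2
  rw [finsum_block, finsum_block]
  have e1 : (∑ χ : Blk M G, (χ.1 : G → ℂ) (pw σ (hh k)) ^ 2 / (χ.1 : G → ℂ) 1 *
      (χ.1 : G → ℂ) (pw σ (1 : ZMod (2 ^ k)))) =
      ∑ χ : Blk M G, w χ * (χ.1 : G → ℂ) (pw σ (1 : ZMod (2 ^ k))) := rfl
  have e2 : (∑ χ : Blk M G, (χ.1 : G → ℂ) (pw σ (hh k)) ^ 2 / (χ.1 : G → ℂ) 1 *
      (χ.1 : G → ℂ) (pw σ (hh k))) =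
      ∑ χ : Blk M G, w χ * (χ.1 : G → ℂ) (pw σ (hh k)) := rfl
  rw [e1, e2, hT1, hT2, hWgdef, hη]
  push_cast
  ring

end concrete

end Cfsg.Agent.Lib.Helper17_DihTsum
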