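import Mathlib
import Cfsg.Agent.Lib.Helper17_DihCent
import Cfsg.Agent.Lib.Helper17_DihTsum
import Cfsg.Agent.Lib.Helper4_DihedralIso

/-!
Brauer's order formula for groups with dihedral Sylow `2`-subgroups and one class of involutions:
the group side (helper17).
-/

set_option autoImplicit false
set_option maxHeartbeats 1000000
set_option linter.unusedSectionVars false

namespace Cfsg.Agent.Lib.Helper17_DihOrder

open Cfsg Subgroup Cfsg.Agent.Lib.Helper17_DihCount Cfsg.Agent.Lib.Helper17_DihBlock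
  Cfsg.Agent.Lib.Helper17_DihMain Cfsg.Agent.Lib.Helper17_DihPairs
  Cfsg.Agent.Lib.Helper17_DihCent Cfsg.Agent.Lib.Helper17_DihTsum

universe u

variable {G : Type u} [Group G] [Fintype G] {M : Ideal AlgInt}

/-- **the group side of the order formula** -/
theorem group_side (hM : IsPModular 2 M) {σ τ : G} {k : ℕ} {P O : Subgroup G} (D : Dih P σ τ k)
    (C : CData P σ k O)
    (hconj : ∀ i : ZMod (2 ^ k), IsConj (pw σ (hh k)) (pw σ i * τ)) :
    (∑ᶠ χ ∈ principalBlock M G, (χ : G → ℂ) (pw σ (hh k)) ^ 2 / (χ : G → ℂ) 1 *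
        (χ : G → ℂ) (pw σ (1 : ZMod (2 ^ k)))) +
      (∑ᶠ χ ∈ principalBlock M G, (χ : G → ℂ) (pw σ (hh k)) ^ 2 / (χ : G → ℂ) 1 *
        (χ : G → ℂ) (pw σ (hh k))) =
      (Nat.card (centralizer ({pw σ (hh k)} : Set G)) : ℂ) ^ 2 * (2 : ℂ) ^ (k - 1) *
        ((Nat.card (orb O (pw σ (0 : ZMod (2 ^ k)) * τ)) : ℂ) +
          (Nat.card (orb O (pw σ (1 : ZMod (2 ^ k)) * τ)) : ℂ)) ^ 2 /
        ((Nat.card G : ℂ) * (Nat.card O : ℂ)) := by
  classical
  have hk1 := D.hk1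
  have hJ2 : orderOf (pw σ (hh k)) = 2 := by
    apply orderOf_eq_prime
    · rw [pow_two]; exact J_sq D
    · exact J_ne_one D
  have hyJ : ∃ j : ℕ, orderOf (pw σ (hh k)) = 2 ^ j := ⟨1, by rw [hJ2, pow_one]⟩
  have hyσ : ∃ j : ℕ, orderOf σ = 2 ^ j := ⟨k, D.hσo⟩
  have F' := frame_cent C.F D
  have hp1 := pw_one' D
  -- the two counts
  have TJ := gen_count M hM hJ2 hyJ O C.hOle C.hOn C.F.hodd (hreg_J D C)
  have Tσ : ∑ᶠ χ ∈ principalBlock M G, (χ : G → ℂ) (pw σ (hh k)) ^ 2 / (χ : G → ℂ) 1 *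
        (χ : G → ℂ) (pw σ (1 : ZMod (2 ^ k))) =
      ((Nat.card G : ℂ) * (Nat.card ↥(O ⊓ centralizer ({σ} : Set G)) : ℂ))⁻¹ *
        ((∑ h : G, ∑ g : G,
          if (g⁻¹ * pw σ (hh k) * g) * (h⁻¹ * pw σ (hh k) * h) * (pw σ (1 : ZMod (2 ^ k)))⁻¹ ∈
            O ⊓ centralizer ({σ} : Set G) then 1 else 0 : ℕ) : ℂ) := by
    rw [hp1]
    exact gen_count M hM hJ2 hyσ (O ⊓ centralizer ({σ} : Set G)) inf_le_right
      (norm_sigma D C) F'.hodd (hreg_sigma D C)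
  have NJ := count_pairs C.F D (hh_ne_zero hk1) (hOy_J D C) (cov_J D C) (J_sq D) (J_ne_one D)
    hconj
  rw [sum_orb_hh C.F D] at NJ
  have hOy' : ∀ ρ ∈ O ⊓ centralizer ({σ} : Set G),
      ρ * pw σ (1 : ZMod (2 ^ k)) = pw σ (1 : ZMod (2 ^ k)) * ρ := by
    intro ρ hρ
    rw [hp1]
    exact (Subgroup.mem_centralizer_singleton_iff.1 (Subgroup.mem_inf.1 hρ).2)
  have Nσ := count_pairs F' D (one_ne_zero' D) hOy' (cov_sigma D C) (J_sq D) (J_ne_one D) hconj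
  rw [sum_orb_one D] at Nσ
  have BW := bw C.F D (cov_sigma D C)
  rw [TJ, Tσ, NJ, Nσ]
  have hO : (Nat.card O : ℂ) ≠ 0 := by
    have := C.F.finite
    exact_mod_cast (Nat.card_pos (α := O)).ne'
  have hO' : (Nat.card ↥(O ⊓ centralizer ({σ} : Set G)) : ℂ) ≠ 0 := by
    have := F'.finite
    exact_mod_cast (Nat.card_pos (α := ↥(O ⊓ centralizer ({σ} : Set G)))).ne'
  have hG : (Nat.card G : ℂ) ≠ 0 := by
    exact_mod_cast (Nat.card_pos (α := G)).ne'
  have BW' : (Nat.card (orb O (pw σ (1 : ZMod (2 ^ k)) * τ)) : ℂ) *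
      (Nat.card (orb O (pw σ (0 : ZMod (2 ^ k)) * τ)) : ℂ) *
        (Nat.card ↥(O ⊓ centralizer ({σ} : Set G)) : ℂ) =
      (Nat.card O : ℂ) *
        ((Nat.card (orb (O ⊓ centralizer ({σ} : Set G)) (pw σ (1 : ZMod (2 ^ k)) * τ)) : ℂ) *
        (Nat.card (orb (O ⊓ centralizer ({σ} : Set G)) (pw σ (0 : ZMod (2 ^ k)) * τ)) : ℂ)) := by
    exact_mod_cast BW
  have h2k : (2 : ℂ) ^ k = 2 * (2 : ℂ) ^ (k - 1) := by
    have : k = (k - 1) + 1 := by omega
    conv_lhs => rw [this, pow_succ]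
    ring
  push_cast
  rw [h2k]
  field_simp
  linear_combination (-2 : ℂ) * BW'

section setup

variable {H : Type*} [Group H]

/-- the dihedral structure from generators and relations -/
theorem dih_of_closure {P : Subgroup H} {σ τ : H} {k : ℕ} (hk : 2 ≤ k) (hσP : σ ∈ P)
    (hτP : τ ∈ P) (hσo : orderOf σ = 2 ^ k) (hτ2 : τ * τ = 1) (hinv : τ * σ * τ⁻¹ = σ⁻¹)
    (hgen : Subgroup.closure ({σ, τ} : Set H) = P) : Dih P σ τ k := by
  refine ⟨hk, hσP, hτP, hσo, hτ2, hinv, ?_⟩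
  have h2k : (2 : ℕ) ^ k ≠ 1 := by
    have : 2 ^ 2 ≤ 2 ^ k := Nat.pow_le_pow_right (by norm_num) hk
    omega
  have hp1 : pw σ (1 : ZMod (2 ^ k)) = σ := by
    unfold pw
    rw [ZMod.val_one'' h2k, pow_one]
  have htinv : τ⁻¹ = τ := inv_eq_of_mul_eq_one_left hτ2
  have hcj : ∀ i : ZMod (2 ^ k), τ * pw σ i * τ⁻¹ = pw σ (-i) := by
    intro i
    rw [pw_neg hσo]
    unfold pw
    rw [← conj_pow, hinv, inv_pow]
  have htp : ∀ i : ZMod (2 ^ k), τ * pw σ i = pw σ (-i) * τ := by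
    intro i
    rw [← hcj i]; group
  intro p hp
  rw [← hgen] at hp
  induction hp using Subgroup.closure_induction with
  | mem x hx =>
    rcases hx with rfl | hx
    · exact ⟨1, Or.inl hp1.symm⟩
    · rw [Set.mem_singleton_iff] at hx
      exact ⟨0, Or.inr (by rw [hx, pw_zero, one_mul])⟩
  | one => exact ⟨0, Or.inl pw_zero.symm⟩
  | mul x y _ _ hx hy =>
    obtain ⟨i, hi | hi⟩ := hx <;> obtain ⟨j, hj | hj⟩ := hy
    · exact ⟨i + j, Or.inl (by rw [hi, hj, pw_add hσo])⟩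
    · exact ⟨i + j, Or.inr (by rw [hi, hj, pw_add hσo, mul_assoc])⟩
    · refine ⟨i - j, Or.inr ?_⟩
      rw [hi, hj, mul_assoc, htp, ← mul_assoc, ← pw_add hσo, sub_eq_add_neg]
    · refine ⟨i - j, Or.inl ?_⟩
      rw [hi, hj]
      calc pw σ i * τ * (pw σ j * τ) = pw σ i * (τ * pw σ j) * τ := by group
        _ = pw σ i * (pw σ (-j) * τ) * τ := by rw [htp]
        _ = pw σ i * pw σ (-j) * (τ * τ) := by group
        _ = pw σ (i - j) := by rw [hτ2, mul_one, ← pw_add hσo, sub_eq_add_neg]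
  | inv x _ hx =>
    obtain ⟨i, hi | hi⟩ := hx
    · exact ⟨-i, Or.inl (by rw [hi, pw_neg hσo])⟩
    · refine ⟨i, Or.inr ?_⟩
      rw [hi, mul_inv_rev, htinv, ← pw_neg hσo, htp, neg_neg]

theorem dihedral_congr {a b : ℕ} (h : a = b) : Nonempty (DihedralGroup a ≃* DihedralGroup b) := by
  subst h
  exact ⟨MulEquiv.refl _⟩

/-- the isomorphism with the dihedral group -/
theorem iso_of_closure {P : Subgroup H} {σ τ : H} {k : ℕ} (hk : 2 ≤ k)
    (hσo : orderOf σ = 2 ^ k) (hτ2 : τ * τ = 1) (hτ1 : τ ≠ 1) (hinv : τ * σ * τ⁻¹ = σ⁻¹)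
    (hgen : Subgroup.closure ({σ, τ} : Set H) = P) :
    Nonempty (↥P ≃* DihedralGroup (2 ^ k)) := by
  have htinv : τ⁻¹ = τ := inv_eq_of_mul_eq_one_left hτ2
  have hy : (τ * σ) * (τ * σ) = 1 := by
    calc (τ * σ) * (τ * σ) = (τ * σ * τ⁻¹) * (τ * τ) * σ := by group
      _ = 1 := by rw [hinv, hτ2]; group
  have hy1 : τ * σ ≠ 1 := by
    intro h
    have h1 : σ = τ := by
      have : σ = τ⁻¹ * (τ * σ) := by group
      rw [this, h, mul_one, htinv]
    have h2 : orderOf σ ∣ 2 := by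
      apply orderOf_dvd_of_pow_eq_one
      rw [pow_two, h1, hτ2]
    rw [hσo] at h2
    have h3 := Nat.le_of_dvd (by norm_num) h2
    have : 2 ^ 2 ≤ 2 ^ k := Nat.pow_le_pow_right (by norm_num) hk
    omega
  have hxy : τ * (τ * σ) = σ := by rw [← mul_assoc, hτ2, one_mul]
  have hord : orderOf (τ * (τ * σ)) = 2 ^ k := by rw [hxy, hσo]
  have hcl : Subgroup.closure ({τ, τ * σ} : Set H) = P := by
    rw [← hgen]
    apply le_antisymm
    · rw [Subgroup.closure_le]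
      rintro z (rfl | hz)
      · exact Subgroup.subset_closure (Set.mem_insert_of_mem _ rfl)
      · rw [Set.mem_singleton_iff] at hz
        rw [hz]
        exact Subgroup.mul_mem _ (Subgroup.subset_closure (Set.mem_insert_of_mem _ rfl))
          (Subgroup.subset_closure (Set.mem_insert _ _))
    · rw [Subgroup.closure_le]
      rintro z (hz | hz)
      · have h := Subgroup.mul_mem (Subgroup.closure ({τ, τ * σ} : Set H))
          (Subgroup.subset_closure (Set.mem_insert _ _))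
          (Subgroup.subset_closure (Set.mem_insert_of_mem _ rfl))
        rw [hxy] at h
        rw [hz]
        exact h
      · rw [Set.mem_singleton_iff] at hz
        rw [hz]
        exact Subgroup.subset_closure (Set.mem_insert _ _)
  obtain ⟨e'⟩ := dihedral_congr hord
  exact ⟨(MulEquiv.subgroupCongr hcl.symm).trans
    ((Cfsg.Agent.Lib.Helper4_DihedralIso.dihedralEquiv hτ2 hy hτ1 hy1).symm.trans e')⟩

end setup


theorem final_algebra' (g cJ c₀ c₁ o n₀ n₁ q x δ : ℚ) (hg : 0 < g) (ho : 0 < o) (hn₀ : 0 < n₀)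
    (hn₁ : 0 < n₁) (hq : 0 < q) (hx : 0 < x) (hxδ : 0 < x + δ) (hδ : δ = 1 ∨ δ = -1)
    (hcJ : cJ = o * (4 * q)) (hc₀ : c₀ * n₀ = 4 * o) (hc₁ : c₁ * n₁ = 4 * o)
    (hA : 2 + 2 * δ / x - 8 * δ / (x + δ) = cJ ^ 2 * q * (n₀ + n₁) ^ 2 / (g * o)) :
    x ≠ δ ∧ g * (x - δ) ^ 2 = 2 * x * (x + δ) * cJ ^ 3 * (1 / c₀ + 1 / c₁) ^ 2 := by
  have hδ2 : δ ^ 2 = 1 := by rcases hδ with h | h <;> rw [h] <;> norm_num
  have hx0 : x ≠ 0 := hx.ne'
  have hxδ0 : x + δ ≠ 0 := hxδ.ne'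
  have hL : 2 + 2 * δ / x - 8 * δ / (x + δ) = 2 * (x - δ) ^ 2 / (x * (x + δ)) := by
    field_simp
    ring
  rw [hL, hcJ] at hA
  have h2 : g * (x - δ) ^ 2 = 8 * x * (x + δ) * q ^ 3 * o * (n₀ + n₁) ^ 2 := by
    field_simp at hA
    linear_combination (1 / 2 : ℚ) * hA
  constructor
  · intro h
    rw [h, sub_self] at h2
    have : 0 < 8 * δ * (δ + δ) * q ^ 3 * o * (n₀ + n₁) ^ 2 := by
      rw [h] at hx hxδ
      positivity
    have h3 : g * 0 ^ 2 = 0 := by ring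
    rw [h3] at h2
    linarith
  · have e0 : 1 / c₀ = n₀ / (4 * o) := by
      have hc : c₀ ≠ 0 := by
        intro h
        rw [h, zero_mul] at hc₀
        linarith
      field_simp
      linarith
    have e1 : 1 / c₁ = n₁ / (4 * o) := by
      have hc : c₁ ≠ 0 := by
        intro h
        rw [h, zero_mul] at hc₁
        linarith
      field_simp
      linarith
    rw [e0, e1, h2, hcJ]
    field_simp
    ring

/-- **Brauer's order formula** for groups with dihedral Sylow `2`-subgroups and one class of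
involutions -/
theorem order_formula {G : Type u} [Group G] [Finite G] (M : Ideal AlgInt) (hM : IsPModular 2 M)
    {k k' : ℕ} (hk : 2 ≤ k) (hk' : k' = k - 1) (P : Sylow 2 G) (σ τ : G)
    (hσ : σ ∈ (P : Subgroup G)) (hτ : τ ∈ (P : Subgroup G)) (hσo : orderOf σ = 2 ^ k)
    (hτo : orderOf τ = 2) (hrel : τ * σ * τ⁻¹ = σ⁻¹)
    (hgen : Subgroup.closure ({σ, τ} : Set G) = (P : Subgroup G))
    (hconj : IsConj (σ ^ (2 ^ k')) τ ∧ IsConj (σ ^ (2 ^ k')) (σ * τ))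
    (χ₁ : IrrCharacter G) (hχ₁ : χ₁ ∈ principalBlock M G)
    (h1 : (χ₁ : G → ℂ) ≠ (fun _ => 1)) (δ₁ : ℤ) (hδ₁ : δ₁ = 1 ∨ δ₁ = -1)
    (hval : ∀ l : ℕ, 0 < l → l < 2 ^ k → (χ₁ : G → ℂ) (σ ^ l) = δ₁) :
    (charDegree (χ₁ : G → ℂ) : ℤ) ≠ δ₁ ∧
    (Nat.card G : ℚ) * ((charDegree (χ₁ : G → ℂ) : ℚ) - δ₁) ^ 2 =
      2 * (charDegree (χ₁ : G → ℂ) : ℚ) * ((charDegree (χ₁ : G → ℂ) : ℚ) + δ₁) *
        (Nat.card (centralizer ({σ ^ (2 ^ k')} : Set G)) : ℚ) ^ 3 *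
        (1 / (Nat.card (centralizer ({σ ^ (2 ^ k'), τ} : Set G)) : ℚ) +
          1 / (Nat.card (centralizer ({σ ^ (2 ^ k'), σ * τ} : Set G)) : ℚ)) ^ 2 := by
  classical
  subst hk'
  have := Fintype.ofFinite G
  have hk1 : 1 ≤ k := by omega
  have hτ2 : τ * τ = 1 := by
    have := pow_orderOf_eq_one τ
    rwa [hτo, pow_two] at this
  have hτ1 : τ ≠ 1 := by
    intro h
    rw [h, orderOf_one] at hτo
    omega
  have D : Dih (P : Subgroup G) σ τ k := dih_of_closure hk hσ hτ hσo hτ2 hrel hgen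
  obtain ⟨e⟩ := iso_of_closure hk hσo hτ2 hτ1 hrel hgen
  have hcard : Nat.card (P : Subgroup G) = 2 ^ (k + 1) := by
    rw [Nat.card_congr e.toEquiv, DihedralGroup.nat_card, pow_succ]
    ring
  have hnpc := hasNPC_centralizer_pw hk P e hσ hσo (hh k) (hh_ne_zero hk1)
  obtain ⟨O, C⟩ := exists_cdata P D hcard hnpc
  -- notation
  have hJ : pw σ (hh k) = σ ^ (2 ^ (k - 1)) := by
    unfold pw
    rw [hh_val hk1]
  have hp0 : pw σ (0 : ZMod (2 ^ k)) * τ = τ := by rw [pw_zero, one_mul]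
  have hp1 : pw σ (1 : ZMod (2 ^ k)) * τ = σ * τ := by rw [pw_one' D]
  -- all reflections are conjugate to `J`
  have hconj' : ∀ i : ZMod (2 ^ k), IsConj (pw σ (hh k)) (pw σ i * τ) := by
    intro i
    rw [hJ]
    have hi : ∃ j : ZMod (2 ^ k), i = 0 + 2 * j ∨ i = 1 + 2 * j := by
      obtain ⟨v, hv⟩ : ∃ v : ℕ, ((v : ℕ) : ZMod (2 ^ k)) = i := ⟨i.val, ZMod.natCast_zmod_val i⟩
      refine ⟨((v / 2 : ℕ) : ZMod (2 ^ k)), ?_⟩
      rcases Nat.mod_two_eq_zero_or_one v with h | h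
      · left
        have h3 : ((v : ℕ) : ZMod (2 ^ k)) = ((2 * (v / 2) : ℕ) : ZMod (2 ^ k)) :=
          congrArg _ (by omega)
        rw [← hv, h3]
        push_cast
        ring
      · right
        have h3 : ((v : ℕ) : ZMod (2 ^ k)) = ((1 + 2 * (v / 2) : ℕ) : ZMod (2 ^ k)) :=
          congrArg _ (by omega)
        rw [← hv, h3]
        push_cast
        ring
    obtain ⟨j, hj | hj⟩ := hi
    · rw [hj, ← D.pw_conj_rf 0 j, hp0]
      exact hconj.1.trans (isConj_iff.2 ⟨pw σ j, rfl⟩)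
    · rw [hj, ← D.pw_conj_rf 1 j, hp1]
      exact hconj.2.trans (isConj_iff.2 ⟨pw σ j, rfl⟩)
  -- the two sides
  have hval' : ∀ l : ZMod (2 ^ k), l ≠ 0 → (χ₁ : G → ℂ) (pw σ l) = δ₁ := by
    intro l hl
    unfold pw
    apply hval
    · exact Nat.pos_of_ne_zero (fun h0 => hl ((ZMod.val_eq_zero l).1 h0))
    · exact ZMod.val_lt l
  obtain ⟨x₁, hx₁pos, hx₁δ, hx₁, hchar⟩ := char_side hM hk P e hσ hσo χ₁ hχ₁ h1 δ₁ hδ₁ hval'
  have hgroup := group_side hM D C hconj'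
  rw [hchar] at hgroup
  -- the degree
  have hdeg : (x₁ : ℤ) = (charDegree (χ₁ : G → ℂ) : ℤ) := by
    have h2 := Cfsg.Agent.S4479.irr_one_eq_charDegree χ₁
    rw [hx₁] at h2
    exact_mod_cast h2
  -- orders of centralizers
  have hcJ := card_cent_J D C
  rw [hcard] at hcJ
  have hc0 := card_cent_pair D C (D.rf_memP 0)
  rw [card_cent_rf D 0] at hc0
  have hc1 := card_cent_pair D C (D.rf_memP 1)
  rw [card_cent_rf D 1] at hc1
  have hn0 := card_orb O (pw σ (0 : ZMod (2 ^ k)) * τ)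
  have hn1 := card_orb O (pw σ (1 : ZMod (2 ^ k)) * τ)
  rw [hp0] at hc0 hn0 hgroup
  rw [hp1] at hc1 hn1 hgroup
  rw [hJ] at hcJ hc0 hc1 hgroup
  have hOfin := C.F.finite
  have hOpos : 0 < Nat.card O := Nat.card_pos
  have hn0pos : 0 < Nat.card (orb O τ) := by
    rcases Nat.eq_zero_or_pos (Nat.card (orb O τ)) with h | h
    · rw [h, zero_mul] at hn0; omega
    · exact h
  have hn1pos : 0 < Nat.card (orb O (σ * τ)) := by
    rcases Nat.eq_zero_or_pos (Nat.card (orb O (σ * τ))) with h | h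
    · rw [h, zero_mul] at hn1; omega
    · exact h
  have hA : (2 : ℚ) + 2 * (δ₁ : ℚ) / (x₁ : ℚ) - 8 * (δ₁ : ℚ) / ((x₁ : ℚ) + δ₁) =
      (Nat.card (centralizer ({σ ^ (2 ^ (k - 1))} : Set G)) : ℚ) ^ 2 * (2 : ℚ) ^ (k - 1) *
        ((Nat.card (orb O τ) : ℚ) + (Nat.card (orb O (σ * τ)) : ℚ)) ^ 2 /
        ((Nat.card G : ℚ) * (Nat.card O : ℚ)) := by
    apply Rat.cast_injective (α := ℂ)
    push_cast
    exact hgroup
  have hfin := final_algebra' (Nat.card G : ℚ)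
    (Nat.card (centralizer ({σ ^ (2 ^ (k - 1))} : Set G)) : ℚ)
    (Nat.card (centralizer ({σ ^ (2 ^ (k - 1)), τ} : Set G)) : ℚ)
    (Nat.card (centralizer ({σ ^ (2 ^ (k - 1)), σ * τ} : Set G)) : ℚ)
    (Nat.card O : ℚ) (Nat.card (orb O τ) : ℚ) (Nat.card (orb O (σ * τ)) : ℚ)
    ((2 : ℚ) ^ (k - 1)) (x₁ : ℚ) (δ₁ : ℚ)
    (by exact_mod_cast (Nat.card_pos (α := G))) (by exact_mod_cast hOpos)
    (by exact_mod_cast hn0pos) (by exact_mod_cast hn1pos) (by positivity)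
    (by exact_mod_cast hx₁pos) (by exact_mod_cast hx₁δ)
    (by rcases hδ₁ with h | h <;> rw [h] <;> norm_num)
    (by
      rw [hcJ]
      have : k + 1 = (k - 1) + 2 := by omega
      rw [this, pow_add]
      push_cast
      ring)
    (by
      rw [hc0]
      have : ((Nat.card ↥(O ⊓ centralizer ({τ} : Set G)) * 4 : ℕ) : ℚ) *
          (Nat.card (orb O τ) : ℚ) = 4 * ((Nat.card (orb O τ) *
            Nat.card ↥(O ⊓ centralizer ({τ} : Set G)) : ℕ) : ℚ) := by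
        push_cast; ring
      rw [this, hn0])
    (by
      rw [hc1]
      have : ((Nat.card ↥(O ⊓ centralizer ({σ * τ} : Set G)) * 4 : ℕ) : ℚ) *
          (Nat.card (orb O (σ * τ)) : ℚ) = 4 * ((Nat.card (orb O (σ * τ)) *
            Nat.card ↥(O ⊓ centralizer ({σ * τ} : Set G)) : ℕ) : ℚ) := by
        push_cast; ring
      rw [this, hn1])
    hA
  have hxq : (x₁ : ℚ) = (charDegree (χ₁ : G → ℂ) : ℚ) := by
    have : ((x₁ : ℤ) : ℚ) = (((charDegree (χ₁ : G → ℂ) : ℕ) : ℤ) : ℚ) := by rw [hdeg]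
    simpa using this
  refine ⟨?_, ?_⟩
  · intro h
    apply hfin.1
    rw [← hdeg] at h
    exact_mod_cast h
  · rw [← hxq]
    exact hfin.2

end Cfsg.Agent.Lib.Helper17_DihOrder
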