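import Mathlib
import Cfsg.Agent.Lib.Helper6_FT3Defs
import Cfsg.Agent.Lib.Helper1_FPFAut
import Cfsg.Agent.Lib.Helper1_Thompson

/-!
# S3331 package SIG (helper17): structure of `X`-signalizers

`X` of order 3 with `C_G(X) = X`; a signalizer `A` is an `X`-invariant `3'`-subgroup.  Conjugation
by a generator `x` of `X` is a fixed-point-free automorphism of order 3 of `A`.
-/

set_option autoImplicit false

open Cfsg Cfsg.Agent.Lib.Helper6_FT3Defs

namespace Cfsg.Agent.Lib.Helper17_FT3_SIG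

universe u

variable {G : Type u} [Group G] [Finite G] {X : Subgroup G}

omit [Finite G] in
/-- An element commuting with a nontrivial element of `X` lies in `X`. -/
theorem mem_of_commute (h : Hyp G X) {x a : G} (hx : x ∈ X) (hx1 : x ≠ 1)
    (hc : x * a = a * x) : a ∈ X := by
  have : Fact (Nat.Prime 3) := ⟨Nat.prime_three⟩
  have hcent : a ∈ Subgroup.centralizer (X : Set G) := by
    rw [Subgroup.mem_centralizer_iff]
    intro y hy
    have hx1' : (⟨x, hx⟩ : X) ≠ 1 := by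
      intro h1
      exact hx1 (congrArg Subtype.val h1)
    have hmem : (⟨y, hy⟩ : X) ∈ Subgroup.zpowers (⟨x, hx⟩ : X) :=
      mem_zpowers_of_prime_card h.1 hx1'
    obtain ⟨n, hn⟩ := hmem
    have hy' : y = x ^ n := by
      have := congrArg Subtype.val hn
      simpa using this.symm
    rw [hy']
    have hcomm : Commute x a := hc
    exact (hcomm.zpow_left n).eq
  rw [h.2] at hcent
  exact hcent

omit [Finite G] in
theorem x_mul_mul (h : Hyp G X) {x : G} (hx : x ∈ X) : x * x * x = 1 := by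
  have h1 : orderOf x ∣ Nat.card X := Subgroup.orderOf_dvd_natCard X hx
  rw [h.1] at h1
  have h3 : x ^ 3 = 1 := orderOf_dvd_iff_pow_eq_one.mp h1
  rw [← h3, pow_succ, pow_two]

omit [Finite G] in
theorem x_sq (h : Hyp G X) {x : G} (hx : x ∈ X) : x * x = x⁻¹ :=
  eq_inv_of_mul_eq_one_left (x_mul_mul h hx)

omit [Finite G] in
theorem x_inv_sq (h : Hyp G X) {x : G} (hx : x ∈ X) : x⁻¹ * x⁻¹ = x := by
  have := x_mul_mul h hx
  calc x⁻¹ * x⁻¹ = x⁻¹ * x⁻¹ * (x * x * x) := by rw [this, mul_one]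
    _ = x := by group

/-- The package statement `sig_fpf`. -/
theorem sig_fpf (h : Hyp G X) {A : Subgroup G} (hA : IsSig X A) {x a : G} (hx : x ∈ X)
    (hx1 : x ≠ 1) (ha : a ∈ A) (hc : x * a = a * x) : a = 1 := by
  have haX : a ∈ X := mem_of_commute h hx hx1 hc
  have h1 : orderOf a ∣ 3 := by
    have := Subgroup.orderOf_dvd_natCard X haX
    rwa [h.1] at this
  have h2 : orderOf a ∣ Nat.card A := Subgroup.orderOf_dvd_natCard A ha
  have h3 : orderOf a = 1 := by
    rcases (Nat.dvd_prime Nat.prime_three).mp h1 with h4 | h4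
    · exact h4
    · exfalso
      rw [h4] at h2
      exact hA.2 h2
  exact orderOf_eq_one_iff.mp h3

/-- Conjugation by an element of `X` leaves a signalizer invariant. -/
theorem map_conj_eq {A : Subgroup G} (hA : IsSig X A) {x : G} (hx : x ∈ X) :
    A.map (MulAut.conj x).toMonoidHom = A := by
  apply Cfsg.Agent.Lib.Helper1_FPFAut.map_eq_of_forall_mem
  intro a ha
  have hn := hA.1 hx
  rw [Subgroup.mem_normalizer_iff] at hn
  simpa [MulAut.conj_apply] using (hn a).mp ha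

/-- Conjugation by `x ∈ X` as an automorphism of the signalizer `A`. -/
noncomputable def conjAut {A : Subgroup G} (hA : IsSig X A) {x : G} (hx : x ∈ X) : ↥A ≃* ↥A :=
  Cfsg.Agent.Lib.Helper1_FPFAut.restrictAut (MulAut.conj x) A (map_conj_eq hA hx)

theorem conjAut_coe {A : Subgroup G} (hA : IsSig X A) {x : G} (hx : x ∈ X) (a : A) :
    ((conjAut hA hx a : A) : G) = x * a * x⁻¹ := rfl

theorem conjAut_fpf (h : Hyp G X) {A : Subgroup G} (hA : IsSig X A) {x : G} (hx : x ∈ X)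
    (hx1 : x ≠ 1) : Cfsg.Agent.Lib.Helper1_FPFAut.FPF 3 (conjAut hA hx) where
  fpf := by
    intro a ha
    have h1 : x * (a : G) * x⁻¹ = a := by
      rw [← conjAut_coe hA hx a, ha]
    have h2 : x * (a : G) = a * x := by
      calc x * (a : G) = x * a * x⁻¹ * x := by group
        _ = a * x := by rw [h1]
    exact Subtype.ext (sig_fpf h hA hx hx1 a.2 h2)
  iter := by
    intro a
    apply Subtype.ext
    have h3 := x_mul_mul h hx
    have h4 : x⁻¹ * x⁻¹ * x⁻¹ = 1 := by
      have : x⁻¹ * x⁻¹ * x⁻¹ = (x * x * x)⁻¹ := by group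
      rw [this, h3, inv_one]
    simp only [Function.iterate_succ, Function.iterate_zero, Function.comp_apply, id_eq,
      conjAut_coe]
    calc x * (x * (x * (a : G) * x⁻¹) * x⁻¹) * x⁻¹
        = (x * x * x) * a * (x⁻¹ * x⁻¹ * x⁻¹) := by group
      _ = a := by rw [h3, h4, one_mul, mul_one]

/-- The package statement `sig_nilpotent`. -/
theorem sig_nilpotent (h : Hyp G X) {A : Subgroup G} (hA : IsSig X A) : Group.IsNilpotent A := by
  have hX3 : Nat.card X = 3 := h.1
  have : Fact (Nat.Prime 3) := ⟨Nat.prime_three⟩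
  obtain ⟨x, hx1⟩ : ∃ x : X, x ≠ 1 := by
    by_contra hcon
    push Not at hcon
    have : Subsingleton X := ⟨fun a b => by rw [hcon a, hcon b]⟩
    have := Nat.card_eq_one_iff_unique.mpr ⟨this, ⟨1⟩⟩
    omega
  have hx1' : (x : G) ≠ 1 := fun h1 => hx1 (Subtype.ext h1)
  exact Cfsg.Agent.Lib.Helper1_Thompson.thompson Nat.prime_three (conjAut hA x.2)
    (conjAut_fpf h hA x.2 hx1')

omit [Finite G] in
/-- There is a nontrivial element of `X`. -/
theorem exists_ne_one (h : Hyp G X) : ∃ x ∈ X, x ≠ 1 := by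
  have hX3 : Nat.card X = 3 := h.1
  obtain ⟨x, hx1⟩ : ∃ x : X, x ≠ 1 := by
    by_contra hcon
    push Not at hcon
    have : Subsingleton X := ⟨fun a b => by rw [hcon a, hcon b]⟩
    have := Nat.card_eq_one_iff_unique.mpr ⟨this, ⟨1⟩⟩
    omega
  exact ⟨x, x.2, fun h1 => hx1 (Subtype.ext h1)⟩

/-- The package statement `sig_card_mod`. -/
theorem sig_card_mod (h : Hyp G X) {A : Subgroup G} (hA : IsSig X A) : Nat.card A % 3 = 1 := by
  classical
  have : Fact (Nat.Prime 3) := ⟨Nat.prime_three⟩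
  obtain ⟨x, hx, hx1⟩ := exists_ne_one h
  have hF := conjAut_fpf h hA hx hx1
  have : Fintype A := Fintype.ofFinite A
  let f : Function.End A := (conjAut hA hx : A → A)
  have hf : f ^ 3 ^ 1 = 1 := by
    funext a
    have : (f ^ 3) a = (conjAut hA hx)^[3] a := by
      simp only [pow_succ, pow_zero, one_mul, Function.End.mul_def, Function.comp_apply,
        Function.iterate_succ, Function.iterate_zero, id_eq]
      rfl
    rw [pow_one, this, hF.iter a]
    rfl
  have hmod := Equiv.Perm.card_fixedPoints_modEq (p := 3) (n := 1) hf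
  have hfix : Fintype.card (Function.fixedPoints f) = 1 := by
    rw [Fintype.card_eq_one_iff]
    refine ⟨⟨1, ?_⟩, ?_⟩
    · show f 1 = 1
      exact map_one (conjAut hA hx)
    · rintro ⟨a, ha⟩
      apply Subtype.ext
      exact hF.fpf a ha
  rw [hfix, ← Nat.card_eq_fintype_card] at hmod
  exact hmod

/-- The package statement `sig_mul_conj`. -/
theorem sig_mul_conj (h : Hyp G X) {A : Subgroup G} (hA : IsSig X A) {x a : G} (hx : x ∈ X)
    (hx1 : x ≠ 1) (ha : a ∈ A) : a * (x * a * x⁻¹) * (x⁻¹ * a * x) = 1 := by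
  have hF := conjAut_fpf h hA hx hx1
  obtain ⟨w, hw⟩ := hF.exists_div_eq (⟨a, ha⟩ : A)
  have hw' : (w : G) * (x * w * x⁻¹)⁻¹ = a := by
    have := congrArg Subtype.val hw
    simpa [conjAut_coe] using this
  have hsq := x_sq h hx
  have hisq := x_inv_sq h hx
  rw [← hw']
  calc (w : G) * (x * w * x⁻¹)⁻¹ * (x * ((w : G) * (x * w * x⁻¹)⁻¹) * x⁻¹) *
        (x⁻¹ * ((w : G) * (x * w * x⁻¹)⁻¹) * x)
      = (w : G) * ((x * x) * (w : G)⁻¹ * (x⁻¹ * x⁻¹)) * (x⁻¹ * w * x) * (w : G)⁻¹ := by group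
    _ = (w : G) * (x⁻¹ * (w : G)⁻¹ * x) * (x⁻¹ * w * x) * (w : G)⁻¹ := by rw [hsq, hisq]
    _ = 1 := by group

omit [Finite G] in
theorem inv_mem_ne {x : G} (hx : x ∈ X) (hx1 : x ≠ 1) : x⁻¹ ∈ X ∧ x⁻¹ ≠ 1 :=
  ⟨X.inv_mem hx, fun h1 => hx1 (inv_eq_one.mp h1)⟩

/-- `φ(a)` and `φ⁻¹(a)` commute. -/
theorem commute_conj_conj_inv (h : Hyp G X) {A : Subgroup G} (hA : IsSig X A) {x a : G}
    (hx : x ∈ X) (hx1 : x ≠ 1) (ha : a ∈ A) : Commute (x * a * x⁻¹) (x⁻¹ * a * x) := by
  have h1 := sig_mul_conj h hA hx hx1 ha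
  obtain ⟨hxi, hxi1⟩ := inv_mem_ne hx hx1
  have h2 := sig_mul_conj h hA hxi hxi1 ha
  rw [inv_inv] at h2
  have e1 : (x * a * x⁻¹) * (x⁻¹ * a * x) = a⁻¹ := by
    have : a * ((x * a * x⁻¹) * (x⁻¹ * a * x)) = 1 := by rw [← mul_assoc]; exact h1
    exact eq_inv_of_mul_eq_one_right this
  have e2 : (x⁻¹ * a * x) * (x * a * x⁻¹) = a⁻¹ := by
    have : a * ((x⁻¹ * a * x) * (x * a * x⁻¹)) = 1 := by rw [← mul_assoc]; exact h2
    exact eq_inv_of_mul_eq_one_right this
  show (x * a * x⁻¹) * (x⁻¹ * a * x) = (x⁻¹ * a * x) * (x * a * x⁻¹)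
  rw [e1, e2]

/-- The package statement `sig_commute_conj`. -/
theorem sig_commute_conj (h : Hyp G X) {A : Subgroup G} (hA : IsSig X A) {x a : G} (hx : x ∈ X)
    (hx1 : x ≠ 1) (ha : a ∈ A) : Commute a (x * a * x⁻¹) := by
  -- apply the previous lemma to `b = x⁻¹ a x`
  have hb : x⁻¹ * a * x ∈ A := by
    have hn := hA.1 (X.inv_mem hx)
    rw [Subgroup.mem_normalizer_iff] at hn
    have := (hn a).mp ha
    rwa [inv_inv] at this
  have hc := commute_conj_conj_inv h hA hx hx1 hb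
  have hsq := x_sq h hx
  have hisq := x_inv_sq h hx
  have e1 : x * (x⁻¹ * a * x) * x⁻¹ = a := by group
  have e2 : x⁻¹ * (x⁻¹ * a * x) * x = x * a * x⁻¹ := by
    calc x⁻¹ * (x⁻¹ * a * x) * x = (x⁻¹ * x⁻¹) * a * (x * x) := by group
      _ = x * a * x⁻¹ := by rw [hsq, hisq]
  rw [e1, e2] at hc
  exact hc

/-- The package statement `sig_orderOf_mul`. -/
theorem sig_orderOf_mul (h : Hyp G X) {A : Subgroup G} (hA : IsSig X A) {x a : G} (hx : x ∈ X)
    (hx1 : x ≠ 1) (ha : a ∈ A) : orderOf (a * x) = 3 := by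
  have : Fact (Nat.Prime 3) := ⟨Nat.prime_three⟩
  have h1 := sig_mul_conj h hA hx hx1 ha
  have h3 := x_mul_mul h hx
  have hsq := x_sq h hx
  have hisq := x_inv_sq h hx
  apply orderOf_eq_prime
  · calc (a * x) ^ 3 = (a * x) * (a * x) * (a * x) := by rw [pow_succ, pow_two]
      _ = a * (x * a * x⁻¹) * ((x * x) * a * (x⁻¹ * x⁻¹)) * (x * x * x) := by group
      _ = a * (x * a * x⁻¹) * (x⁻¹ * a * x) * 1 := by rw [h3, hsq, hisq]
      _ = 1 := by rw [h1, mul_one]
  · intro hax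
    -- then `x = a⁻¹ ∈ A` has order 3, contradiction
    have hxA : x ∈ A := by
      have : x = a⁻¹ := eq_inv_of_mul_eq_one_right hax
      rw [this]; exact A.inv_mem ha
    have ho : orderOf x = 3 := by
      apply orderOf_eq_prime
      · rw [pow_succ, pow_two]; exact h3
      · exact hx1
    have := Subgroup.orderOf_dvd_natCard A hxA
    rw [ho] at this
    exact hA.2 this

end Cfsg.Agent.Lib.Helper17_FT3_SIG
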