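import Mathlib
import Cfsg.Agent.Lib.Helper6_FT3Defs

set_option autoImplicit false

open Cfsg Cfsg.Agent.Lib.Helper6_FT3Defs

/-!
# S3331-BASIC (architect helper6): elementary group theory under `Hyp G X`
(`X` of order 3 with `C_G(X) = X`).
-/

namespace Cfsg.Agent.Lib.Helper52_FT3_BASIC

universe u

variable {G : Type u} [Group G] [Finite G] {X : Subgroup G}

omit [Finite G] in
theorem centralizer_zpowers_eq (x : G) :
    Subgroup.centralizer (Subgroup.zpowers x : Set G) = Subgroup.centralizer ({x} : Set G) := by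
  rw [Subgroup.zpowers_eq_closure, Subgroup.centralizer_closure]

omit [Finite G] in
/-- a nontrivial element of a subgroup of order 3 generates it -/
theorem eq_zpowers_of_card_three {Y : Subgroup G} (hY : Nat.card Y = 3) {y : G} (hy : y ∈ Y)
    (hy1 : y ≠ 1) : orderOf y = 3 ∧ Y = Subgroup.zpowers y := by
  have : Finite Y := Nat.finite_of_card_ne_zero (by rw [hY]; norm_num)
  have h1 : orderOf y ∣ 3 := by
    rw [← hY]; exact Subgroup.orderOf_dvd_natCard Y hy
  have h2 : orderOf y = 3 := by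
    rcases (Nat.dvd_prime Nat.prime_three).mp h1 with h | h
    · exact absurd (orderOf_eq_one_iff.mp h) hy1
    · exact h
  refine ⟨h2, ?_⟩
  symm
  apply Subgroup.eq_of_le_of_card_ge
  · exact (Subgroup.zpowers_le).2 hy
  · rw [hY, Nat.card_zpowers, h2]

omit [Finite G] in
theorem exists_ne_one_of_card_three {Y : Subgroup G} (hY : Nat.card Y = 3) :
    ∃ y ∈ Y, y ≠ 1 := by
  rcases Y.bot_or_exists_ne_one with h | h
  · rw [h] at hY
    simp at hY
  · exact h

theorem hyp_iff_elt : Hyp G X ↔ ∃ x : G, orderOf x = 3 ∧ X = Subgroup.zpowers x ∧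
    Subgroup.centralizer ({x} : Set G) = Subgroup.zpowers x := by
  constructor
  · rintro ⟨h3, hC⟩
    obtain ⟨x, hx, hx1⟩ := exists_ne_one_of_card_three h3
    obtain ⟨h1, h2⟩ := eq_zpowers_of_card_three h3 hx hx1
    refine ⟨x, h1, h2, ?_⟩
    rw [← centralizer_zpowers_eq, ← h2, hC]
  · rintro ⟨x, hx3, rfl, hC⟩
    refine ⟨?_, ?_⟩
    · rw [Nat.card_zpowers, hx3]
    · rw [centralizer_zpowers_eq, hC]

/-- every `3`-subgroup containing `X` equals `X` -/
theorem le_of_isPGroup (h : Hyp G X) (Q : Subgroup G) (hQ : IsPGroup 3 Q) (hXQ : X ≤ Q) : Q ≤ X := by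
  have h3F : Fact (Nat.Prime 3) := ⟨Nat.prime_three⟩
  obtain ⟨x, hx3, rfl, hC⟩ := hyp_iff_elt.mp h
  have hxQ : x ∈ Q := hXQ (Subgroup.mem_zpowers x)
  have hx1 : x ≠ 1 := by
    intro h1; rw [h1, orderOf_one] at hx3; norm_num at hx3
  have : Nontrivial Q := ⟨⟨⟨x, hxQ⟩, 1, fun h => hx1 (congrArg Subtype.val h)⟩⟩
  have hcen := hQ.center_nontrivial
  obtain ⟨z, hz⟩ := exists_ne (1 : Subgroup.center Q)
  have hz1 : ((z : Q) : G) ≠ 1 := by
    intro h1
    apply hz
    apply Subtype.ext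
    apply Subtype.ext
    exact h1
  -- z commutes with x
  have hzx : ((z : Q) : G) ∈ Subgroup.centralizer ({x} : Set G) := by
    rw [Subgroup.mem_centralizer_singleton_iff]
    have := (Subgroup.mem_center_iff.mp z.2) ⟨x, hxQ⟩
    exact (congrArg Subtype.val this).symm
  rw [hC] at hzx
  have hcard : Nat.card (Subgroup.zpowers x) = 3 := by rw [Nat.card_zpowers, hx3]
  obtain ⟨hz3, hzeq⟩ := eq_zpowers_of_card_three hcard hzx hz1
  intro q hq
  have hqz : q ∈ Subgroup.centralizer ({((z : Q) : G)} : Set G) := by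
    rw [Subgroup.mem_centralizer_singleton_iff]
    have := (Subgroup.mem_center_iff.mp z.2) ⟨q, hq⟩
    exact (congrArg Subtype.val this)
  rw [← centralizer_zpowers_eq, ← hzeq, centralizer_zpowers_eq, hC] at hqz
  exact hqz

omit [Finite G] in
theorem isPGroup_of_card_three {Y : Subgroup G} (hY : Nat.card Y = 3) : IsPGroup 3 Y :=
  IsPGroup.of_card (n := 1) (by rw [hY, pow_one])

/-- a subgroup of order 3 is (the carrier of) a Sylow 3-subgroup -/
theorem exists_sylow_eq (h : Hyp G X) : ∃ Q : Sylow 3 G, (Q : Subgroup G) = X := by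
  have h3F : Fact (Nat.Prime 3) := ⟨Nat.prime_three⟩
  obtain ⟨Q, hQ⟩ := (isPGroup_of_card_three h.1).exists_le_sylow
  exact ⟨Q, le_antisymm (le_of_isPGroup h Q Q.isPGroup' hQ) hQ⟩

theorem card_sylow_three (h : Hyp G X) (P : Sylow 3 G) : Nat.card P = 3 := by
  have h3F : Fact (Nat.Prime 3) := ⟨Nat.prime_three⟩
  obtain ⟨Q, hQ⟩ := exists_sylow_eq h
  rw [Sylow.card_eq_multiplicity, ← Sylow.card_eq_multiplicity Q]
  show Nat.card (Q : Subgroup G) = 3
  rw [hQ]; exact h.1

theorem not_nine_dvd (h : Hyp G X) : ¬ 9 ∣ Nat.card G := by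
  have h3F : Fact (Nat.Prime 3) := ⟨Nat.prime_three⟩
  intro h9
  have P : Sylow 3 G := default
  have h1 := card_sylow_three h P
  rw [Sylow.card_eq_multiplicity] at h1
  have h2 : (3 : ℕ) ^ 2 ∣ Nat.card G := by norm_num; exact h9
  have h3 := (Nat.Prime.pow_dvd_iff_le_factorization Nat.prime_three Nat.card_pos.ne').mp h2
  have h4 : (3 : ℕ) ^ 2 ∣ 3 ^ (Nat.card G).factorization 3 := pow_dvd_pow 3 h3
  rw [h1] at h4
  norm_num at h4

/-- Sylow conjugacy. -/
theorem exists_conj_eq (h : Hyp G X) (Y : Subgroup G) (hY : Nat.card Y = 3) :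
    ∃ g : G, Y = cj g X := by
  have h3F : Fact (Nat.Prime 3) := ⟨Nat.prime_three⟩
  obtain ⟨Q, hQ⟩ := exists_sylow_eq h
  obtain ⟨Q', hQ'⟩ := (isPGroup_of_card_three hY).exists_le_sylow
  have hYQ' : Y = Q' := by
    apply Subgroup.eq_of_le_of_card_ge hQ'
    rw [hY]
    exact (card_sylow_three h Q').le
  obtain ⟨g, hg⟩ := MulAction.exists_smul_eq G Q Q'
  refine ⟨g, ?_⟩
  rw [hYQ', ← hg, ← hQ]
  rfl

omit [Finite G] in
theorem mem_cj_iff (g z : G) (A : Subgroup G) : z ∈ cj g A ↔ g⁻¹ * z * g ∈ A := by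
  constructor
  · rintro ⟨a, ha, rfl⟩
    have : g⁻¹ * ((MulAut.conj g).toMonoidHom a) * g = a := by
      simp [MulAut.conj_apply, mul_assoc]
    rw [this]; exact ha
  · intro hz
    refine ⟨g⁻¹ * z * g, hz, ?_⟩
    simp [MulAut.conj_apply, mul_assoc]

omit [Finite G] in
theorem mem_centralizer_cj_iff (g z : G) (A : Subgroup G) :
    z ∈ Subgroup.centralizer (cj g A : Set G) ↔ g⁻¹ * z * g ∈ Subgroup.centralizer (A : Set G) := by
  rw [Subgroup.mem_centralizer_iff, Subgroup.mem_centralizer_iff]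
  constructor
  · intro hz x hx
    have h1 : g * x * g⁻¹ ∈ cj g A := by
      rw [mem_cj_iff]
      have : g⁻¹ * (g * x * g⁻¹) * g = x := by group
      rw [this]; exact hx
    have h2 := hz _ h1
    calc x * (g⁻¹ * z * g) = g⁻¹ * ((g * x * g⁻¹) * z) * g := by group
      _ = g⁻¹ * (z * (g * x * g⁻¹)) * g := by rw [h2]
      _ = g⁻¹ * z * g * x := by group
  · intro hz y hy
    rw [SetLike.mem_coe, mem_cj_iff] at hy
    have h2 := hz _ hy
    calc y * z = g * ((g⁻¹ * y * g) * (g⁻¹ * z * g)) * g⁻¹ := by group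
      _ = g * ((g⁻¹ * z * g) * (g⁻¹ * y * g)) * g⁻¹ := by rw [h2]
      _ = z * y := by group

theorem hyp_of_card_three (h : Hyp G X) (Y : Subgroup G) (hY : Nat.card Y = 3) : Hyp G Y := by
  obtain ⟨g, rfl⟩ := exists_conj_eq h Y hY
  refine ⟨hY, ?_⟩
  ext z
  rw [mem_centralizer_cj_iff, h.2, mem_cj_iff]

theorem centralizer_of_orderOf_three (h : Hyp G X) (y : G) (hy : orderOf y = 3) :
    Subgroup.centralizer ({y} : Set G) = Subgroup.zpowers y := by
  have h1 : Hyp G (Subgroup.zpowers y) :=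
    hyp_of_card_three h _ (by rw [Nat.card_zpowers, hy])
  rw [← centralizer_zpowers_eq, h1.2]

/-- g centralizes g^(o/3) of order 3, so g ∈ ⟨g^(o/3)⟩. -/
theorem orderOf_eq_three_of_dvd (h : Hyp G X) (g : G) (hg : 3 ∣ orderOf g) : orderOf g = 3 := by
  obtain ⟨k, hk⟩ := hg
  have hpos : 0 < orderOf g := orderOf_pos g
  have hk0 : k ≠ 0 := by
    rintro rfl; rw [mul_zero] at hk; omega
  have h1 : orderOf (g ^ k) = 3 := by
    rw [orderOf_pow_of_dvd hk0 ⟨3, by rw [hk, mul_comm]⟩, hk, Nat.mul_div_cancel _ (Nat.pos_of_ne_zero hk0)]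
  have h2 := centralizer_of_orderOf_three h (g ^ k) h1
  have h3 : g ∈ Subgroup.centralizer ({g ^ k} : Set G) := by
    rw [Subgroup.mem_centralizer_singleton_iff]
    exact ((Commute.refl g).pow_right k).eq
  rw [h2] at h3
  have h4 : orderOf g ∣ 3 := by
    have := Subgroup.orderOf_dvd_natCard _ h3
    rwa [Nat.card_zpowers, h1] at this
  exact Nat.dvd_antisymm h4 ⟨k, hk⟩

/-- Cauchy: y ∈ C(g) of order 3 gives g ∈ C(y) = ⟨y⟩. -/
theorem not_three_dvd_card_centralizer (h : Hyp G X) (g : G) (hg1 : g ≠ 1) (hg : ¬ 3 ∣ orderOf g) :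
    ¬ 3 ∣ Nat.card (Subgroup.centralizer ({g} : Set G)) := by
  have h3F : Fact (Nat.Prime 3) := ⟨Nat.prime_three⟩
  intro hdvd
  obtain ⟨y, hy⟩ := exists_prime_orderOf_dvd_card' 3 hdvd
  have hy' : orderOf (y : G) = 3 := by rw [Subgroup.orderOf_coe]; exact hy
  have h2 := centralizer_of_orderOf_three h (y : G) hy'
  have h3 : g ∈ Subgroup.centralizer ({(y : G)} : Set G) := by
    rw [Subgroup.mem_centralizer_singleton_iff]
    have := y.2
    rw [Subgroup.mem_centralizer_singleton_iff] at this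
    exact this.symm
  rw [h2] at h3
  have h4 : orderOf g ∣ 3 := by
    have := Subgroup.orderOf_dvd_natCard _ h3
    rwa [Nat.card_zpowers, hy'] at this
  rcases (Nat.dvd_prime Nat.prime_three).mp h4 with h5 | h5
  · exact hg1 (orderOf_eq_one_iff.mp h5)
  · exact hg ⟨1, by rw [h5]⟩

/-- N(X)/C(X) embeds in Aut(X) of order 2. -/
theorem card_normalizer (h : Hyp G X) :
    Nat.card (Subgroup.normalizer (X : Set G)) = 3 ∨
      Nat.card (Subgroup.normalizer (X : Set G)) = 6 := by
  have h3F : Fact (Nat.Prime 3) := ⟨Nat.prime_three⟩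
  have hcyc : IsCyclic X := isCyclic_of_prime_card h.1
  have hker : X.normalizerMonoidHom.ker =
      (Subgroup.centralizer (X : Set G)).subgroupOf (Subgroup.normalizer (X : Set G)) :=
    Subgroup.normalizerMonoidHom_ker X
  have hkercard : Nat.card X.normalizerMonoidHom.ker = 3 := by
    rw [hker, h.2, Nat.card_congr (Subgroup.subgroupOfEquivOfLe Subgroup.le_normalizer).toEquiv]
    exact h.1
  have hrange : Nat.card X.normalizerMonoidHom.range ∣ 2 := by
    have := Subgroup.card_subgroup_dvd_card X.normalizerMonoidHom.range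
    rwa [IsCyclic.card_mulAut X, h.1, Nat.totient_prime Nat.prime_three] at this
  have hmul : Nat.card (Subgroup.normalizer (X : Set G)) =
      Nat.card X.normalizerMonoidHom.ker * Nat.card X.normalizerMonoidHom.range := by
    rw [← Subgroup.index_ker, mul_comm]
    exact (Subgroup.index_mul_card _).symm
  rw [hmul, hkercard]
  rcases (Nat.dvd_prime Nat.prime_two).mp hrange with h1 | h1
  · left; rw [h1]
  · right; rw [h1]

end Cfsg.Agent.Lib.Helper52_FT3_BASIC
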