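import Mathlib
import Cfsg.Agent.Lib.Helper6_FT3Defs
import Cfsg.Agent.Lib.Helper17_FT3_SIG
import Cfsg.Agent.Lib.Helper52_FT3_BASIC
import Cfsg.Agent.Lib.Helper32_Nilpotent

/-!
# S3331 package LIFTC (helper17): the core of the lifting arguments

`K ⊴ G` a `3'`-group with `G ⧸ K` simple, `K ≤ T` an `X`-invariant subgroup with `|T : K| = q ^ k`,
`q ≠ 3`.  Then every normal `p`-subgroup (`p ≠ q`) of `G` inside `K` is trivial.
-/

set_option autoImplicit false

open Cfsg Cfsg.Agent.Lib.Helper6_FT3Defs

namespace Cfsg.Agent.Lib.Helper17_FT3_LIFTC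

universe u

variable {G : Type u} [Group G] [Finite G] {X : Subgroup G}

/-- The package statement `lift_core`. -/
theorem lift_core (h : Hyp G X) (K : Subgroup G) [K.Normal] (hK3 : ¬ 3 ∣ Nat.card K)
    (hsimple : IsSimpleGroup (G ⧸ K)) (T : Subgroup G) (hKT : K ≤ T)
    (hXT : X ≤ Subgroup.normalizer (T : Set G)) (q k : ℕ) (hq : q.Prime) (hq3 : q ≠ 3) (hk : 1 ≤ k)
    (hT : Nat.card T = q ^ k * Nat.card K) (p : ℕ) (hp : p.Prime) (hpq : p ≠ q)
    (P : Subgroup G) [P.Normal] (hPK : P ≤ K) (hP : IsPGroup p P) : P = ⊥ := by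
  have : Fact q.Prime := ⟨hq⟩
  have : Fact (Nat.Prime 3) := ⟨Nat.prime_three⟩
  -- `T` is a signalizer
  have hT3 : ¬ 3 ∣ Nat.card T := by
    rw [hT]
    intro hdvd
    rcases (Nat.Prime.dvd_mul Nat.prime_three).mp hdvd with h1 | h1
    · have := Nat.Prime.dvd_of_dvd_pow Nat.prime_three h1
      exact hq3 ((Nat.prime_dvd_prime_iff_eq Nat.prime_three hq).mp this).symm
    · exact hK3 h1
  have hSig : IsSig X T := ⟨hXT, hT3⟩
  have hnil : Group.IsNilpotent T := Cfsg.Agent.Lib.Helper17_FT3_SIG.sig_nilpotent h hSig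
  -- a Sylow `q`-subgroup of `T`
  obtain ⟨S⟩ : Nonempty (Sylow q T) := inferInstance
  have hScard : Nat.card S = q ^ (Nat.card T).factorization q := S.card_eq_multiplicity
  -- an element of `S` outside `K`
  have hex : ∃ s : T, s ∈ S ∧ (s : G) ∉ K := by
    by_contra hcon
    push Not at hcon
    have hle : (S : Subgroup T).map T.subtype ≤ K := by
      rintro _ ⟨s, hs, rfl⟩
      exact hcon s hs
    have hdvd : Nat.card S ∣ Nat.card K := by
      rw [← Subgroup.card_subtype T S]
      exact Subgroup.card_dvd_of_le hle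
    have hK0 : Nat.card K ≠ 0 := Nat.card_pos.ne'
    rw [hScard, hT, Nat.factorization_mul (pow_ne_zero _ hq.ne_zero) hK0,
      hq.factorization_pow] at hdvd
    simp only [Finsupp.coe_add, Pi.add_apply, Finsupp.single_eq_same] at hdvd
    rw [hq.pow_dvd_iff_le_factorization hK0] at hdvd
    omega
  obtain ⟨s, hsS, hsK⟩ := hex
  -- `s` centralizes `P`
  have hsP : (s : G) ∈ Subgroup.centralizer (P : Set G) := by
    rw [Subgroup.mem_centralizer_iff]
    intro g hg
    have hgT : g ∈ T := hKT (hPK hg)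
    obtain ⟨m, hm⟩ := hP ⟨g, hg⟩
    have hm' : (⟨g, hgT⟩ : T) ^ p ^ m = 1 := by
      apply Subtype.ext
      have := congrArg Subtype.val hm
      simpa using this
    have hs' : s ^ (Nat.card S) = 1 := by
      have h1 : (⟨s, hsS⟩ : S) ^ Nat.card S = 1 := pow_card_eq_one'
      have := congrArg Subtype.val h1
      simpa using this
    rw [hScard] at hs'
    have hcop : (p ^ m).Coprime (q ^ (Nat.card T).factorization q) :=
      Nat.Coprime.pow _ _ ((Nat.coprime_primes hp hq).mpr hpq)
    have hcomm := Cfsg.Agent.Lib.Helper32_Nilpotent.commute_of_coprime_pow_eq_one T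
      ⟨g, hgT⟩ s _ _ hm' hs' hcop
    have := congrArg Subtype.val hcomm.eq
    simpa using this
  -- the centralizer of `P` is normal, not inside `K`, so covers `G ⧸ K`
  have hCn : (Subgroup.centralizer (P : Set G)).Normal := inferInstance
  have hCK : ¬ Subgroup.centralizer (P : Set G) ≤ K := fun hle => hsK (hle hsP)
  have hmap : (Subgroup.centralizer (P : Set G)).map (QuotientGroup.mk' K) = ⊤ := by
    have hn : ((Subgroup.centralizer (P : Set G)).map (QuotientGroup.mk' K)).Normal :=
      hCn.map _ (QuotientGroup.mk'_surjective K)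
    rcases hsimple.eq_bot_or_eq_top_of_normal _ hn with h1 | h1
    · exfalso
      rw [Subgroup.map_eq_bot_iff, QuotientGroup.ker_mk'] at h1
      exact hCK h1
    · exact h1
  have h3C : 3 ∣ Nat.card (Subgroup.centralizer (P : Set G)) := by
    have h1 : Nat.card (G ⧸ K) ∣ Nat.card (Subgroup.centralizer (P : Set G)) := by
      have := Subgroup.card_map_dvd (Subgroup.centralizer (P : Set G)) (QuotientGroup.mk' K)
      rw [hmap, Subgroup.card_top] at this
      exact this
    have h2 : 3 ∣ Nat.card (G ⧸ K) := by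
      have h3G : 3 ∣ Nat.card G := by
        rw [← h.1]; exact Subgroup.card_subgroup_dvd_card X
      rw [Subgroup.card_eq_card_quotient_mul_card_subgroup K] at h3G
      rcases (Nat.Prime.dvd_mul Nat.prime_three).mp h3G with h4 | h4
      · exact h4
      · exact absurd h4 hK3
    exact h2.trans h1
  obtain ⟨y, hy⟩ := exists_prime_orderOf_dvd_card' 3 h3C
  have hy' : orderOf (y : G) = 3 := by rw [Subgroup.orderOf_coe]; exact hy
  have hcent := Cfsg.Agent.Lib.Helper52_FT3_BASIC.centralizer_of_orderOf_three h (y : G) hy'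
  have hPle : P ≤ Subgroup.zpowers (y : G) := by
    rw [← hcent]
    intro g hg
    rw [Subgroup.mem_centralizer_iff]
    intro z hz
    rw [Set.mem_singleton_iff] at hz
    subst hz
    have hyc := y.2
    rw [Subgroup.mem_centralizer_iff] at hyc
    exact (hyc g hg).symm
  have hP3 : Nat.card P ∣ 3 := by
    have := Subgroup.card_dvd_of_le hPle
    rwa [Nat.card_zpowers, hy'] at this
  have hPK' : Nat.card P ∣ Nat.card K := Subgroup.card_dvd_of_le hPK
  have hP1 : Nat.card P = 1 := by
    rcases (Nat.dvd_prime Nat.prime_three).mp hP3 with h1 | h1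
    · exact h1
    · rw [h1] at hPK'; exact absurd hPK' hK3
  exact Subgroup.card_eq_one.mp hP1

end Cfsg.Agent.Lib.Helper17_FT3_LIFTC
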