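import Mathlib
import Cfsg.Agent.Lib.Helper6_FT3Defs
import Cfsg.Agent.Lib.Helper17_FT3_SIG
import Cfsg.Agent.Lib.Helper17_FT3_LIFTC

/-!
# S3331 (helper17): general form of the lifting argument, common to LIFT5 and LIFT7

`K ⊴ G` a `3'`-group with `G ⧸ K` simple and `V ≤ G ⧸ K` of prime power order `q ^ k`, `q ≠ 3`,
normalized by the image of `X`.  Then `|K|` is a power of `q`... more precisely no prime `p ≠ q`
divides `|K|`.
-/

set_option autoImplicit false

open Cfsg Cfsg.Agent.Lib.Helper6_FT3Defs

namespace Cfsg.Agent.Lib.Helper17_FT3_LiftGen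

universe u

variable {G : Type u} [Group G] [Finite G] {X : Subgroup G}

omit [Finite G] in
/-- A normal `3'`-subgroup is a signalizer. -/
theorem isSig_of_normal (K : Subgroup G) [K.Normal] (hK3 : ¬ 3 ∣ Nat.card K) : IsSig X K := by
  refine ⟨?_, hK3⟩
  rw [Subgroup.normalizer_eq_top]
  exact le_top

/-- Order of the full preimage of a subgroup of the quotient. -/
theorem card_comap_mk (K : Subgroup G) [K.Normal] (V : Subgroup (G ⧸ K)) :
    Nat.card (V.comap (QuotientGroup.mk' K)) = Nat.card V * Nat.card K := by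
  have h1 := Subgroup.card_mul_index (V.comap (QuotientGroup.mk' K))
  have h2 := Subgroup.card_mul_index V
  have h3 := Subgroup.index_comap_of_surjective V (QuotientGroup.mk'_surjective K)
  have h4 := Subgroup.card_eq_card_quotient_mul_card_subgroup K
  have hne : V.index ≠ 0 := Subgroup.index_ne_zero_of_finite
  rw [h3] at h1
  have : Nat.card (V.comap (QuotientGroup.mk' K)) * V.index
      = Nat.card V * Nat.card K * V.index := by
    rw [h1, h4, ← h2]; ring
  exact Nat.eq_of_mul_eq_mul_right (Nat.pos_of_ne_zero hne) this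

/-- The general lifting lemma. -/
theorem lift_gen (h : Hyp G X) (K : Subgroup G) [K.Normal] (hK3 : ¬ 3 ∣ Nat.card K)
    (hsimple : IsSimpleGroup (G ⧸ K)) (V : Subgroup (G ⧸ K))
    (hXV : X.map (QuotientGroup.mk' K) ≤ Subgroup.normalizer (V : Set (G ⧸ K)))
    (q k : ℕ) (hq : q.Prime) (hq3 : q ≠ 3) (hk : 1 ≤ k) (hV : Nat.card V = q ^ k)
    (p : ℕ) (hp : p.Prime) (hpq : p ≠ q) : ¬ p ∣ Nat.card K := by
  intro hpK
  have : Fact p.Prime := ⟨hp⟩
  have hKsig : IsSig X K := isSig_of_normal K hK3
  have hnil : Group.IsNilpotent K := Cfsg.Agent.Lib.Helper17_FT3_SIG.sig_nilpotent h hKsig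
  -- the preimage of `V`
  have hKT : K ≤ V.comap (QuotientGroup.mk' K) := by
    have := MonoidHom.ker_le_comap (QuotientGroup.mk' K) V
    rwa [QuotientGroup.ker_mk'] at this
  have hXT : X ≤ Subgroup.normalizer ((V.comap (QuotientGroup.mk' K) : Subgroup G) : Set G) := by
    intro x hx
    apply Subgroup.le_normalizer_comap (QuotientGroup.mk' K)
    rw [Subgroup.mem_comap]
    exact hXV ⟨x, hx, rfl⟩
  have hT : Nat.card (V.comap (QuotientGroup.mk' K)) = q ^ k * Nat.card K := by
    rw [card_comap_mk, hV]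
  -- the Sylow `p`-subgroup of `K`
  obtain ⟨Q⟩ : Nonempty (Sylow p K) := inferInstance
  have hQn : (Q : Subgroup K).Normal := by
    have htfae : Group.IsNilpotent K ↔
        ∀ (p : ℕ) (_hp : Fact p.Prime) (P : Sylow p K), (P : Subgroup K).Normal :=
      (Group.isNilpotent_of_finite_tfae (G := K)).out 0 3
    exact htfae.mp hnil p inferInstance Q
  have hQc : (Q : Subgroup K).Characteristic := Q.characteristic_of_normal hQn
  have hPn : ((Q : Subgroup K).map K.subtype).Normal :=
    ConjAct.normal_of_characteristic_of_normal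
  have hPK : (Q : Subgroup K).map K.subtype ≤ K := Subgroup.map_subtype_le _
  have hP : IsPGroup p ((Q : Subgroup K).map K.subtype) := Q.isPGroup'.map _
  have hbot := Cfsg.Agent.Lib.Helper17_FT3_LIFTC.lift_core h K hK3 hsimple
    (V.comap (QuotientGroup.mk' K)) hKT hXT q k hq hq3 hk hT p hp hpq
    ((Q : Subgroup K).map K.subtype) hPK hP
  have hQbot : (Q : Subgroup K) = ⊥ := by
    rw [Subgroup.map_eq_bot_iff, Subgroup.ker_subtype, le_bot_iff] at hbot
    exact hbot
  exact Q.ne_bot_of_dvd_card hpK hQbot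

/-- If every prime dividing `|K|` is `q`, then `K` is a `q`-group. -/
theorem isPGroup_of_forall_prime (K : Subgroup G) (q : ℕ)
    (hall : ∀ p : ℕ, p.Prime → p ≠ q → ¬ p ∣ Nat.card K) : IsPGroup q K := by
  have h0 : Nat.card K ≠ 0 := Nat.card_pos.ne'
  have := Nat.eq_prime_pow_of_unique_prime_dvd (p := q) h0
    (fun {d} hd hdvd => by
      by_contra hne
      exact hall d hd hne hdvd)
  exact IsPGroup.of_card this

omit [Finite G] in
/-- The image of `X` under a homomorphism whose kernel is a `3'`-group has order 3. -/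
theorem card_map_eq_three {H : Type*} [Group H] (h : Hyp G X) (f : G →* H)
    (hker : ¬ 3 ∣ Nat.card f.ker) : Nat.card (X.map f) = 3 := by
  have h1 : Nat.card (X.map f) ∣ 3 := by
    have := Subgroup.card_map_dvd X f
    rwa [h.1] at this
  rcases (Nat.dvd_prime Nat.prime_three).mp h1 with h2 | h2
  · exfalso
    have hbot : X.map f = ⊥ := Subgroup.card_eq_one.mp h2
    rw [Subgroup.map_eq_bot_iff] at hbot
    have := Subgroup.card_dvd_of_le hbot
    rw [h.1] at this
    exact hker this
  · exact h2

end Cfsg.Agent.Lib.Helper17_FT3_LiftGen
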