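import Mathlib

/-!
# S3331 package FT3-A5F: every subgroup of order 3 of `A5` normalizes an elementary four-group
-/

set_option autoImplicit false
set_option maxRecDepth 100000

namespace Cfsg.Agent.Lib.Helper54_FT3_A5F

open Equiv

/-- the 3-cycle `(0 1 2)` -/
def c3 : alternatingGroup (Fin 5) :=
  ⟨swap 0 1 * swap 1 2, Equiv.Perm.mem_alternatingGroup.2 (by decide)⟩

/-- `(0 1)(2 3)` -/
def va : alternatingGroup (Fin 5) :=
  ⟨swap 0 1 * swap 2 3, Equiv.Perm.mem_alternatingGroup.2 (by decide)⟩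

/-- `(0 2)(1 3)` -/
def vb : alternatingGroup (Fin 5) :=
  ⟨swap 0 2 * swap 1 3, Equiv.Perm.mem_alternatingGroup.2 (by decide)⟩

/-- the four elements -/
def S4 : Finset (alternatingGroup (Fin 5)) := {1, va, vb, va * vb}

/-- the four-group on `{0, 1, 2, 3}` -/
def V0 : Subgroup (alternatingGroup (Fin 5)) where
  carrier := (S4 : Set (alternatingGroup (Fin 5)))
  mul_mem' := by
    intro a b ha hb
    have h : ∀ a ∈ S4, ∀ b ∈ S4, a * b ∈ S4 := by decide
    exact h a ha b hb
  one_mem' := by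
    have h : (1 : alternatingGroup (Fin 5)) ∈ S4 := by decide
    exact h
  inv_mem' := by
    intro a ha
    have h : ∀ a ∈ S4, a⁻¹ ∈ S4 := by decide
    exact h a ha

theorem mem_V0 {v : alternatingGroup (Fin 5)} : v ∈ V0 ↔ v ∈ S4 := Iff.rfl

theorem card_V0 : Nat.card V0 = 4 := by
  have h1 : Nat.card V0 = Nat.card ((S4 : Set (alternatingGroup (Fin 5)))) := rfl
  rw [h1, Nat.card_coe_set_eq, Set.ncard_coe_finset]
  decide

theorem sq_V0 : ∀ v ∈ V0, v ^ 2 = 1 := by
  have h : ∀ v ∈ S4, v ^ 2 = 1 := by decide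
  exact fun v hv => h v hv

theorem c3_mem_normalizer : c3 ∈ Subgroup.normalizer (V0 : Set (alternatingGroup (Fin 5))) := by
  have h1 : ∀ v ∈ S4, c3 * v * c3⁻¹ ∈ S4 := by decide
  have h2 : ∀ v ∈ S4, c3⁻¹ * v * c3 ∈ S4 := by decide
  rw [Subgroup.mem_normalizer_iff]
  intro v
  constructor
  · exact fun hv => h1 v hv
  · intro hv
    have := h2 _ hv
    have e : c3⁻¹ * (c3 * v * c3⁻¹) * c3 = v := by group
    rw [e] at this
    exact this

theorem card_A5 : Nat.card (alternatingGroup (Fin 5)) = 60 := by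
  rw [Nat.card_eq_fintype_card]
  have h := two_mul_card_alternatingGroup (α := Fin 5)
  rw [Fintype.card_perm, Fintype.card_fin] at h
  have : (5 : ℕ).factorial = 120 := by decide
  omega

theorem orderOf_c3 : orderOf c3 = 3 := by
  have : Fact (Nat.Prime 3) := ⟨Nat.prime_three⟩
  exact orderOf_eq_prime (by decide) (by decide)

/-- a subgroup of order 3 is a Sylow 3-subgroup -/
theorem exists_sylow_eq (Y : Subgroup (alternatingGroup (Fin 5))) (hY : Nat.card Y = 3) :
    ∃ P : Sylow 3 (alternatingGroup (Fin 5)), (P : Subgroup (alternatingGroup (Fin 5))) = Y := by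
  have : Fact (Nat.Prime 3) := ⟨Nat.prime_three⟩
  have hp : IsPGroup 3 Y := IsPGroup.of_card (n := 1) (by rw [hY, pow_one])
  obtain ⟨P, hP⟩ := hp.exists_le_sylow
  refine ⟨P, ?_⟩
  obtain ⟨k, hk⟩ := (IsPGroup.iff_card).1 P.isPGroup'
  have hdvd : Nat.card (P : Subgroup (alternatingGroup (Fin 5))) ∣ 60 := by
    rw [← card_A5]
    exact Subgroup.card_subgroup_dvd_card _
  have hYP : Nat.card Y ∣ Nat.card (P : Subgroup (alternatingGroup (Fin 5))) :=
    Subgroup.card_dvd_of_le hP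
  have hk1 : k = 1 := by
    rw [hk] at hdvd hYP
    rw [hY] at hYP
    have hk2 : k < 2 := by
      by_contra hcon
      push Not at hcon
      have : 3 ^ 2 ∣ 60 := (pow_dvd_pow 3 hcon).trans hdvd
      omega
    have hk0 : k ≠ 0 := by
      rintro rfl
      rw [pow_zero] at hYP
      omega
    omega
  rw [hk1, pow_one] at hk
  exact (Subgroup.eq_of_le_of_card_ge hP (by rw [hk, hY])).symm

theorem exists_four_group (Y : Subgroup (alternatingGroup (Fin 5))) (hY : Nat.card Y = 3) :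
    ∃ V : Subgroup (alternatingGroup (Fin 5)), Nat.card V = 4 ∧ (∀ v ∈ V, v ^ 2 = 1) ∧
      Y ≤ Subgroup.normalizer (V : Set (alternatingGroup (Fin 5))) := by
  have : Fact (Nat.Prime 3) := ⟨Nat.prime_three⟩
  obtain ⟨P, hP⟩ := exists_sylow_eq Y hY
  obtain ⟨P0, hP0⟩ := exists_sylow_eq (Subgroup.zpowers c3)
    (by rw [Nat.card_zpowers, orderOf_c3])
  obtain ⟨g, hg⟩ := MulAction.exists_smul_eq (alternatingGroup (Fin 5)) P0 P
  have hYg : Y = (Subgroup.zpowers c3).map (MulAut.conj g).toMonoidHom := by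
    rw [← hP, ← hg, Sylow.coe_subgroup_smul, hP0]
    rfl
  refine ⟨V0.map (MulAut.conj g).toMonoidHom, ?_, ?_, ?_⟩
  · rw [Subgroup.card_map_of_injective (MulAut.conj g).injective, card_V0]
  · rintro v ⟨v0, hv0, rfl⟩
    rw [← map_pow, sq_V0 v0 hv0, map_one]
  · rw [hYg, ← Subgroup.map_normalizer_eq_of_bijective _ (MulAut.conj g).bijective]
    apply Subgroup.map_mono
    rw [Subgroup.zpowers_le]
    exact c3_mem_normalizer

end Cfsg.Agent.Lib.Helper54_FT3_A5F
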