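import Mathlib
import Cfsg.Agent.Lib.Helper6_FT3Defs
import Cfsg.Agent.Lib.Helper17_FT3_LiftGen
import Cfsg.Agent.Lib.Helper52_FT3_BASIC
import Cfsg.Agent.Lib.Helper54_FT3_A5F

/-!
# S3331 package LIFT5 (helper17): `G ⧸ N ≅ A5` forces `N` to be a 2-group
-/

set_option autoImplicit false

open Cfsg Cfsg.Agent.Lib.Helper6_FT3Defs

namespace Cfsg.Agent.Lib.Helper17_FT3_LIFT5

universe u

variable {G : Type u} [Group G] [Finite G] {X : Subgroup G}

/-- The package statement `lift_A5_two_group`. -/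
theorem lift_A5_two_group (h : Hyp G X) (N : Subgroup G) [N.Normal]
    (hN : Nonempty (G ⧸ N ≃* alternatingGroup (Fin 5))) : IsPGroup 2 N := by
  obtain ⟨e⟩ := hN
  have hcard : Nat.card G = 60 * Nat.card N := by
    rw [Subgroup.card_eq_card_quotient_mul_card_subgroup N, Nat.card_congr e.toEquiv,
      Cfsg.Agent.Lib.Helper54_FT3_A5F.card_A5]
  have hN3 : ¬ 3 ∣ Nat.card N := by
    intro h3
    apply Cfsg.Agent.Lib.Helper52_FT3_BASIC.not_nine_dvd h
    rw [hcard]
    obtain ⟨c, hc⟩ := h3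
    exact ⟨20 * c, by rw [hc]; ring⟩
  have hsimple : IsSimpleGroup (G ⧸ N) := by
    have : IsSimpleGroup (alternatingGroup (Fin 5)) := alternatingGroup.isSimpleGroup (by simp)
    exact e.isSimpleGroup
  -- the image of `X` in `A5`
  have hker : (e.toMonoidHom.comp (QuotientGroup.mk' N)).ker = N := by
    ext x
    rw [MonoidHom.mem_ker, MonoidHom.comp_apply]
    constructor
    · intro hx
      have : (QuotientGroup.mk' N) x = 1 := e.injective (by rw [map_one]; exact hx)
      rwa [← MonoidHom.mem_ker, QuotientGroup.ker_mk'] at this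
    · intro hx
      have : (QuotientGroup.mk' N) x = 1 := by
        rwa [← MonoidHom.mem_ker, QuotientGroup.ker_mk']
      rw [this]; exact map_one _
  have hY : Nat.card (X.map (e.toMonoidHom.comp (QuotientGroup.mk' N))) = 3 :=
    Cfsg.Agent.Lib.Helper17_FT3_LiftGen.card_map_eq_three h _ (by rw [hker]; exact hN3)
  obtain ⟨V, hV4, -, hYV⟩ := Cfsg.Agent.Lib.Helper54_FT3_A5F.exists_four_group _ hY
  -- transport to `G ⧸ N`
  have hV4' : Nat.card (V.comap e.toMonoidHom) = 2 ^ 2 := by
    have : V.comap e.toMonoidHom = V.map e.symm.toMonoidHom :=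
      Subgroup.comap_equiv_eq_map_symm e V
    rw [this, Subgroup.card_map_of_injective e.symm.injective, hV4]
    norm_num
  have hXV : X.map (QuotientGroup.mk' N) ≤
      Subgroup.normalizer ((V.comap e.toMonoidHom : Subgroup (G ⧸ N)) : Set (G ⧸ N)) := by
    rintro _ ⟨x, hx, rfl⟩
    apply Subgroup.le_normalizer_comap e.toMonoidHom
    rw [Subgroup.mem_comap]
    exact hYV ⟨x, hx, rfl⟩
  apply Cfsg.Agent.Lib.Helper17_FT3_LiftGen.isPGroup_of_forall_prime
  intro p hp hp2
  exact Cfsg.Agent.Lib.Helper17_FT3_LiftGen.lift_gen h N hN3 hsimple (V.comap e.toMonoidHom) hXV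
    2 2 Nat.prime_two (by norm_num) (by norm_num) hV4' p hp hp2

end Cfsg.Agent.Lib.Helper17_FT3_LIFT5
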