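import Mathlib
import Cfsg.Agent.Lib.Helper6_FT3Defs
import Cfsg.Agent.Lib.Helper1_FT3Defs
import Cfsg.Agent.Lib.Helper33_Order168
import Cfsg.Agent.S1007

/-!
# FT3-L27F (for helper6, S3331)

In a simple group of order 168 every subgroup of order 3 normalizes a subgroup of order 4 and a
subgroup of order 7.  From the landed S1003 / S1007 and conjugacy of the elements of order 3
(`Helper33_Order168.isConj_of_orderOf_three`).
-/

set_option autoImplicit false

open Cfsg Cfsg.Agent.Lib.Helper6_FT3Defs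
open scoped ComplexConjugate

universe u

namespace Cfsg.Agent.Lib.Helper55_FT3_L27F

/-- a subgroup `W` whose normalizer has order divisible by 3 has a conjugate normalized by `Y` -/
theorem exists_conj_normalized {H : Type u} [Group H] [Finite H] [IsSimpleGroup H]
    (hH : Nat.card H = 168) (Y : Subgroup H) (hY : Nat.card Y = 3) (W : Subgroup H)
    (hW : 3 ∣ Nat.card (Subgroup.normalizer (W : Set H))) :
    ∃ V : Subgroup H, Nat.card V = Nat.card W ∧ Y ≤ Subgroup.normalizer (V : Set H) := by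
  have : Fact (Nat.Prime 3) := ⟨Nat.prime_three⟩
  obtain ⟨z, hz⟩ := exists_prime_orderOf_dvd_card' 3 hW
  obtain ⟨y, hy⟩ := exists_prime_orderOf_dvd_card' (G := Y) 3 (by rw [hY])
  have hz' : orderOf (z : H) = 3 := by rw [Subgroup.orderOf_coe]; exact hz
  have hy' : orderOf (y : H) = 3 := by rw [Subgroup.orderOf_coe]; exact hy
  have hYz : Y = Subgroup.zpowers (y : H) := by
    symm
    apply Subgroup.eq_of_le_of_card_ge
    · rw [Subgroup.zpowers_le]; exact y.2
    · rw [Nat.card_zpowers, hy', hY]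
  obtain ⟨c, hc⟩ := isConj_iff.mp
    (Cfsg.Agent.Lib.Helper33_Order168.isConj_of_orderOf_three hH (z : H) (y : H) hz' hy')
  refine ⟨W.map (MulAut.conj c).toMonoidHom, ?_, ?_⟩
  · exact Subgroup.card_map_of_injective (MulAut.conj c).injective
  · rw [hYz, Subgroup.zpowers_le, ← Subgroup.map_equiv_normalizer_eq]
    refine ⟨(z : H), z.2, ?_⟩
    rw [← hc]
    rfl

/-- [S] landed S1007 (N(U) ≅ S4 for a Klein four U) + conjugacy of the subgroups of order 3 (Sylow). -/
theorem exists_four_group {H : Type u} [Group H] [Finite H] [IsSimpleGroup H]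
    (hH : Nat.card H = 168) (Y : Subgroup H) (hY : Nat.card Y = 3) :
    ∃ V : Subgroup H, Nat.card V = 4 ∧ Y ≤ Subgroup.normalizer (V : Set H) := by
  obtain ⟨h1, -, h3⟩ := Cfsg.Agent.S1007.result hH (default : Sylow 2 H)
  have hne : Nonempty {U : Subgroup H // U ≤ ((default : Sylow 2 H) : Subgroup H) ∧ IsKleinFour ↥U} := by
    have : 0 < Nat.card {U : Subgroup H // U ≤ ((default : Sylow 2 H) : Subgroup H) ∧ IsKleinFour ↥U} := by
      rw [h1]; norm_num
    exact (Nat.card_pos_iff.mp this).1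
  obtain ⟨⟨U, -, hU⟩⟩ := hne
  obtain ⟨e⟩ := h3 U hU
  have hN : Nat.card (Subgroup.normalizer (U : Set H)) = 24 := by
    rw [Nat.card_congr e.toEquiv, Nat.card_eq_fintype_card, Fintype.card_perm, Fintype.card_fin]
    rfl
  have hU4 : Nat.card U = 4 := hU.card_four
  obtain ⟨V, hV, hYV⟩ := exists_conj_normalized hH Y hY U (by rw [hN]; norm_num)
  exact ⟨V, by rw [hV, hU4], hYV⟩

/-- [S] landed S1003 (8 Sylow 7-subgroups, so |N(S)| = 21) + conjugacy of the subgroups of order 3. -/
theorem exists_seven {H : Type u} [Group H] [Finite H] [IsSimpleGroup H]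
    (hH : Nat.card H = 168) (Y : Subgroup H) (hY : Nat.card Y = 3) :
    ∃ S : Subgroup H, Nat.card S = 7 ∧ Y ≤ Subgroup.normalizer (S : Set H) := by
  have : Fact (Nat.Prime 7) := ⟨by norm_num⟩
  have hN := Cfsg.Agent.Lib.Helper33_Order168.card_normalizer_sylow7 hH (default : Sylow 7 H)
  have hS := Cfsg.Agent.Lib.Helper33_Order168.card_sylow7 hH (default : Sylow 7 H)
  obtain ⟨V, hV, hYV⟩ := exists_conj_normalized hH Y hY ((default : Sylow 7 H) : Subgroup H)
    (by rw [hN]; norm_num)
  exact ⟨V, by rw [hV, hS], hYV⟩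

end Cfsg.Agent.Lib.Helper55_FT3_L27F
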