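import Mathlib

set_option autoImplicit false

/-!
Sylow 2-subgroups of a finite group in which the centralizer of an involution `z` is
"dihedral-like": a subgroup `A` of index two all of whose outside elements are involutions.
(helper42; used for `PSL₂(q)`.)
-/

namespace Cfsg.Agent.Lib.Helper42_DihSyl

variable {Γ : Type*} [Group Γ]

/-- `A` is a "torus" of index 2 in the centralizer of the involution `z`: the elements of the
centralizer outside `A` are involutions, their pairwise products lie in `A`, and `z` is the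
only involution of `A`. -/
structure DihCent (z : Γ) (A : Subgroup Γ) : Prop where
  z_ne : z ≠ 1
  z_sq : z * z = 1
  comm : ∀ t ∈ A, t * z = z * t
  dich : ∀ x : Γ, x * z = z * x → x ∉ A → x * x = 1
  inv2 : ∀ t ∈ A, t * t = 1 → t = 1 ∨ t = z
  out : ∃ w : Γ, w * z = z * w ∧ w ∉ A
  mul : ∀ x y : Γ, x * z = z * x → y * z = z * y → x ∉ A → y ∉ A → x * y ∈ A

namespace DihCent

variable {z : Γ} {A : Subgroup Γ}

/-- outside elements invert `A` -/
theorem inverts (h : DihCent z A) {x : Γ} (hx : x * z = z * x) (hxA : x ∉ A) {t : Γ} (ht : t ∈ A) :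
    x * t * x⁻¹ = t⁻¹ := by
  have hxt : x * t ∉ A := fun hmem => hxA (by
    have := A.mul_mem hmem (A.inv_mem ht)
    simpa using this)
  have hc : (x * t) * z = z * (x * t) := by
    rw [mul_assoc, h.comm t ht, ← mul_assoc, hx, mul_assoc]
  have h1 := h.dich _ hc hxt
  have h2 := h.dich _ hx hxA
  have hxinv : x⁻¹ = x := inv_eq_of_mul_eq_one_left h2
  rw [hxinv]
  -- x t x t = 1
  have h3 : x * t * x * t = 1 := by simpa [mul_assoc] using h1
  exact eq_inv_of_mul_eq_one_left h3

theorem mem_of_two_elt [Finite Γ] (S : Sylow 2 Γ) {n : Γ}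
    (hn : n ∈ Subgroup.normalizer ((S : Subgroup Γ) : Set Γ)) (hk : ∃ k : ℕ, n ^ 2 ^ k = 1) : n ∈ S := by
  obtain ⟨k, hk⟩ := hk
  have hz : IsPGroup 2 (Subgroup.zpowers n) := by
    rintro ⟨g, hg⟩
    obtain ⟨j, rfl⟩ := Subgroup.mem_zpowers_iff.mp hg
    refine ⟨k, ?_⟩
    apply Subtype.ext
    rw [Subgroup.coe_pow, Subgroup.coe_one]
    show (n ^ j) ^ 2 ^ k = 1
    rw [← zpow_natCast, ← zpow_mul, mul_comm, zpow_mul, zpow_natCast, hk, one_zpow]
  have hle : Subgroup.zpowers n ≤ Subgroup.normalizer ((S : Subgroup Γ) : Set Γ) := Subgroup.zpowers_le.mpr hn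
  have hp := IsPGroup.to_sup_of_normal_right' hz S.2 hle
  have := S.is_maximal' hp le_sup_right
  have hmem : n ∈ Subgroup.zpowers n ⊔ (S : Subgroup Γ) :=
    (le_sup_left : Subgroup.zpowers n ≤ _) (Subgroup.mem_zpowers n)
  rw [this] at hmem
  exact hmem

variable [Finite Γ] (S : Sylow 2 Γ)

theorem exists_not_mem (h : DihCent z A) : ∃ s ∈ S, s ∉ A := by
  by_contra hcon
  push Not at hcon
  obtain ⟨w, hwz, hwA⟩ := h.out
  have hw2 := h.dich w hwz hwA
  have hwn : w ∈ Subgroup.normalizer ((S : Subgroup Γ) : Set Γ) := by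
    rw [Subgroup.mem_normalizer_iff]
    intro s
    have key : ∀ s ∈ S, w * s * w⁻¹ ∈ S := by
      intro s hs
      rw [h.inverts hwz hwA (hcon s hs)]
      exact (S : Subgroup Γ).inv_mem hs
    constructor
    · exact key s
    · intro hs
      have := key _ hs
      have hwinv : w⁻¹ = w := inv_eq_of_mul_eq_one_left hw2
      rw [hwinv] at this
      have e : w * (w * s * w) * w = s := by
        calc w * (w * s * w) * w = (w * w) * s * (w * w) := by group
          _ = s := by rw [hw2]; group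
      rwa [e] at this
  have hwS : w ∈ S := mem_of_two_elt S hwn ⟨1, by rw [pow_one, pow_two]; exact hw2⟩
  exact hwA (hcon w hwS)

theorem le_closure (h : DihCent z A) (hzc : ∀ s ∈ S, s * z = z * s) :
    (S : Subgroup Γ) ≤ Subgroup.closure {s : Γ | s ∈ S ∧ s ≠ 1 ∧ s * s = 1} := by
  obtain ⟨s₀, hs₀, hs₀A⟩ := h.exists_not_mem S
  have hgen : ∀ x ∈ S, x ∉ A → x ∈ Subgroup.closure {s : Γ | s ∈ S ∧ s ≠ 1 ∧ s * s = 1} := by
    intro x hx hxA
    apply Subgroup.subset_closure
    refine ⟨hx, ?_, h.dich x (hzc x hx) hxA⟩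
    rintro rfl
    exact hxA A.one_mem
  intro x hx
  by_cases hxA : x ∈ A
  · have hy : s₀⁻¹ * x ∈ S := (S : Subgroup Γ).mul_mem ((S : Subgroup Γ).inv_mem hs₀) hx
    have hyA : s₀⁻¹ * x ∉ A := by
      intro hmem
      apply hs₀A
      have := A.mul_mem hxA (A.inv_mem hmem)
      simpa using this
    have := Subgroup.mul_mem _ (hgen s₀ hs₀ hs₀A) (hgen _ hy hyA)
    simpa using this
  · exact hgen x hx hxA

/-- `z` is the only central involution of `S` -/
theorem unique_central (h : DihCent z A) (hzc : ∀ s ∈ S, s * z = z * s)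
    (h8 : 8 ≤ Nat.card S) {z' : Γ} (hz'S : z' ∈ S) (hz'c : ∀ s ∈ S, s * z' = z' * s)
    (hz'1 : z' ≠ 1) (hz'2 : z' * z' = 1) : z' = z := by
  by_cases hA : z' ∈ A
  · rcases h.inv2 z' hA hz'2 with h1 | h1
    · exact absurd h1 hz'1
    · exact h1
  exfalso
  obtain ⟨s₀, hs₀, hs₀A⟩ := h.exists_not_mem S
  -- some t ∈ S ∩ A with t * t ≠ 1
  have hex : ∃ t ∈ S, t ∈ A ∧ t * t ≠ 1 := by
    by_contra hcon
    push Not at hcon
    have hsub : ((S : Subgroup Γ) : Set Γ) ⊆ ({1, z, s₀, s₀ * z} : Set Γ) := by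
      intro x hx
      by_cases hxA : x ∈ A
      · rcases h.inv2 x hxA (hcon x hx hxA) with h1 | h1
        · left; exact h1
        · right; left; exact h1
      · have hy : s₀⁻¹ * x ∈ S := (S : Subgroup Γ).mul_mem ((S : Subgroup Γ).inv_mem hs₀) hx
        have hs₀inv : s₀⁻¹ * z = z * s₀⁻¹ := by
          have := hzc _ ((S : Subgroup Γ).inv_mem hs₀)
          exact this
        have hs₀invA : s₀⁻¹ ∉ A := fun hm => hs₀A (by simpa using A.inv_mem hm)
        have hyA : s₀⁻¹ * x ∈ A := h.mul _ _ hs₀inv (hzc x hx) hs₀invA hxA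
        rcases h.inv2 _ hyA (hcon _ hy hyA) with h1 | h1
        · right; right; left
          have : x = s₀ := by
            have := congrArg (fun y => s₀ * y) h1
            simpa using this
          exact this
        · right; right; right
          have : x = s₀ * z := by
            have := congrArg (fun y => s₀ * y) h1
            simpa using this
          exact this
    have hfin : ({1, z, s₀, s₀ * z} : Set Γ).Finite := Set.toFinite _
    have hc1 : Nat.card S ≤ ({1, z, s₀, s₀ * z} : Set Γ).ncard := by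
      have := Nat.card_mono hfin hsub
      rwa [Nat.card_coe_set_eq] at this
    have hc2 : ({1, z, s₀, s₀ * z} : Set Γ).ncard ≤ 4 := by
      classical
      have : ({1, z, s₀, s₀ * z} : Set Γ) = (({1, z, s₀, s₀ * z} : Finset Γ) : Set Γ) := by
        simp
      rw [this, Set.ncard_coe_finset]
      exact Finset.card_le_four
    omega
  obtain ⟨t, htS, htA, htt⟩ := hex
  have hz'z : z' * z = z * z' := hzc z' hz'S
  have hinv := h.inverts hz'z hA htA
  have hcomm := hz'c t htS
  -- z' t z'⁻¹ = t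
  have : z' * t * z'⁻¹ = t := by rw [← hcomm]; group
  rw [this] at hinv
  apply htt
  calc t * t = t * t⁻¹ := by rw [← hinv]
    _ = 1 := mul_inv_cancel t

theorem normalizer_le (h : DihCent z A) (hzS : z ∈ S) (hzc : ∀ s ∈ S, s * z = z * s)
    (h8 : 8 ≤ Nat.card S) {n : Γ} (hn : n ∈ Subgroup.normalizer ((S : Subgroup Γ) : Set Γ)) : n ∈ S := by
  have hnorm : ∀ s : Γ, s ∈ S ↔ n * s * n⁻¹ ∈ S := fun s => by
    have := (Subgroup.mem_normalizer_iff.mp hn) s
    exact this
  -- n centralizes z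
  have hz' : n * z * n⁻¹ = z := by
    apply h.unique_central S hzc h8 ((hnorm z).mp hzS)
    · intro s hs
      -- s = n s' n⁻¹ with s' = n⁻¹ s n ∈ S
      have hs' : n⁻¹ * s * n ∈ S := by
        rw [hnorm]
        have : n * (n⁻¹ * s * n) * n⁻¹ = s := by group
        rwa [this]
      have := hzc _ hs'
      calc s * (n * z * n⁻¹) = n * ((n⁻¹ * s * n) * z) * n⁻¹ := by group
        _ = n * (z * (n⁻¹ * s * n)) * n⁻¹ := by rw [this]
        _ = n * z * n⁻¹ * s := by group
    · intro h1
      apply h.z_ne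
      have : z = n⁻¹ * (n * z * n⁻¹) * n := by group
      rw [this, h1]; group
    · calc n * z * n⁻¹ * (n * z * n⁻¹) = n * (z * z) * n⁻¹ := by group
        _ = 1 := by rw [h.z_sq]; group
  have hnz : n * z = z * n := by
    calc n * z = (n * z * n⁻¹) * n := by group
      _ = z * n := by rw [hz']
  by_cases hnA : n ∈ A
  · obtain ⟨s₀, hs₀, hs₀A⟩ := h.exists_not_mem S
    have hinv := h.inverts (hzc s₀ hs₀) hs₀A hnA
    have h1 : n * s₀ * n⁻¹ ∈ S := (hnorm s₀).mp hs₀
    have h2 : n * s₀ * n⁻¹ = n * n * s₀ := by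
      have : s₀ * n⁻¹ = n * s₀ := by
        have e : s₀ * n = n⁻¹ * s₀ := by
          calc s₀ * n = (s₀ * n * s₀⁻¹) * s₀ := by group
            _ = n⁻¹ * s₀ := by rw [hinv]
        calc s₀ * n⁻¹ = n * (n⁻¹ * s₀) * n⁻¹ := by group
          _ = n * (s₀ * n) * n⁻¹ := by rw [e]
          _ = n * s₀ := by group
      calc n * s₀ * n⁻¹ = n * (s₀ * n⁻¹) := by group
        _ = n * (n * s₀) := by rw [this]
        _ = n * n * s₀ := by group
    rw [h2] at h1
    have h3 : n * n ∈ (S : Subgroup Γ) := by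
      have := (S : Subgroup Γ).mul_mem h1 ((S : Subgroup Γ).inv_mem hs₀)
      rwa [mul_inv_cancel_right] at this
    obtain ⟨k, hk⟩ := S.2 ⟨n * n, h3⟩
    have hk' : (n * n) ^ 2 ^ k = 1 := by
      have := congrArg Subtype.val hk
      simpa using this
    apply mem_of_two_elt S hn ⟨k + 1, ?_⟩
    rw [pow_succ, mul_comm, pow_mul, pow_two]
    exact hk'
  · have h2 := h.dich n hnz hnA
    exact mem_of_two_elt S hn ⟨1, by rw [pow_one, pow_two]; exact h2⟩

end DihCent

end Cfsg.Agent.Lib.Helper42_DihSyl
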