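import Mathlib
import Cfsg.Agent.Lib.Helper42_PSL2Klein
import Cfsg.Agent.Lib.Helper42_DihSyl
import Cfsg.Agent.Lib.Helper5_PSLCard

set_option autoImplicit false

/-!
Sylow 2-subgroups of `PSL₂(F)`, `F` a finite field of odd order with `16 ∣ q² - 1`:
they are generated by involutions, self-normalizing, and all involutions are conjugate.
(helper42)
-/

namespace Cfsg.Agent.Lib.Helper42_PSL2Syl2

open Matrix Cfsg.Agent.Lib.Helper42_SL2Class Cfsg.Agent.Lib.Helper42_PSL2Klein
  Cfsg.Agent.Lib.Helper42_DihSyl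

section basics

variable {F : Type*} [Field F]

/-- the image in `PSL₂` of the centralizer of `a` -/
def torus (a : SpecialLinearGroup (Fin 2) F) :
    Subgroup (ProjectiveSpecialLinearGroup (Fin 2) F) :=
  (Subgroup.centralizer ({a} : Set (SpecialLinearGroup (Fin 2) F))).map proj

theorem comm_cases (a u : SpecialLinearGroup (Fin 2) F)
    (h : proj u * proj a = proj a * proj u) : u * a = a * u ∨ a * u = negS (u * a) := by
  rw [← map_mul, ← map_mul, proj_eq_iff] at h
  rcases h with h | h
  · left; exact h.symm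
  · right; exact h

theorem negS_comm (a v : SpecialLinearGroup (Fin 2) F) (h : v * a = a * v) :
    negS v * a = a * negS v := by
  rw [negS_mul, mul_negS, h]

theorem mem_torus_iff (a u : SpecialLinearGroup (Fin 2) F) :
    proj u ∈ torus a ↔ u * a = a * u := by
  constructor
  · rintro ⟨v, hv, hvu⟩
    have hv' : v * a = a * v := Subgroup.mem_centralizer_singleton_iff.mp hv
    rcases (proj_eq_iff v u).mp hvu with h | h
    · rw [h]; exact hv'
    · rw [h]; exact negS_comm a v hv'
  · intro h
    exact ⟨u, Subgroup.mem_centralizer_singleton_iff.mpr h, rfl⟩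

theorem anti_symm' {a u : SpecialLinearGroup (Fin 2) F} (h : a * u = negS (u * a)) :
    u * a = negS (a * u) := by
  rw [h, negS_negS]

theorem anti_mul_anti {a u v : SpecialLinearGroup (Fin 2) F} (hu : a * u = negS (u * a))
    (hv : a * v = negS (v * a)) : (u * v) * a = a * (u * v) := by
  have hv' := anti_symm' hv
  calc u * v * a = u * (v * a) := mul_assoc _ _ _
    _ = u * negS (a * v) := by rw [hv']
    _ = negS (u * (a * v)) := mul_negS _ _
    _ = negS ((u * a) * v) := by rw [mul_assoc]
    _ = negS (negS (a * u) * v) := by rw [anti_symm' hu]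
    _ = negS (negS ((a * u) * v)) := by rw [negS_mul]
    _ = a * (u * v) := by rw [negS_negS, mul_assoc]

end basics

section finite

variable {F : Type*} [Field F] [Fintype F]

theorem two_ne_zero_of_odd (hodd : Fintype.card F % 2 = 1) : (2 : F) ≠ 0 := by
  intro h
  have h' : ((2 : ℕ) : F) = 0 := by exact_mod_cast h
  have := CharP.ringChar_of_prime_eq_zero Nat.prime_two h'
  have := FiniteField.even_card_of_char_two this
  omega

theorem dihCent (h2 : (2 : F) ≠ 0) (a : SpecialLinearGroup (Fin 2) F)
    (ha : Matrix.trace a.1 = 0) : DihCent (proj a) (torus a) := by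
  classical
  obtain ⟨hz1, hz2⟩ := (involution_iff h2 a).mpr ha
  refine ⟨hz1, hz2, ?_, ?_, ?_, ?_, ?_⟩
  · -- comm
    rintro t ⟨v, hv, rfl⟩
    have hv' : v * a = a * v := Subgroup.mem_centralizer_singleton_iff.mp hv
    rw [← map_mul, ← map_mul, hv']
  · -- dich
    intro x hx hxA
    obtain ⟨u, rfl⟩ := proj_surjective x
    rcases comm_cases a u hx with h | h
    · exact absurd ((mem_torus_iff a u).mpr h) hxA
    · exact ((involution_iff h2 u).mpr (trace_zero_of_anticomm h2 a u ha h)).2
  · -- inv2
    rintro t ⟨v, hv, rfl⟩ ht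
    have hv' : v * a = a * v := Subgroup.mem_centralizer_singleton_iff.mp hv
    by_cases h1 : proj v = 1
    · left; exact h1
    · right
      have hv0 := (involution_iff h2 v).mp ⟨h1, ht⟩
      rcases comm_of_trace_zero h2 a v ha hv0 hv'.symm with h | h
      · rw [h]
      · rw [h, proj_negS]
  · -- out
    obtain ⟨b, hb⟩ := exists_anti h2 a ha
    rw [← negS_eq_mul] at hb
    refine ⟨proj b, ?_, ?_⟩
    · rw [← map_mul, ← map_mul, hb, proj_negS]
    · intro hmem
      have := (mem_torus_iff a b).mp hmem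
      rw [this] at hb
      exact ne_negS h2 _ hb
  · -- mul
    intro x y hx hy hxA hyA
    obtain ⟨u, rfl⟩ := proj_surjective x
    obtain ⟨v, rfl⟩ := proj_surjective y
    have hu : a * u = negS (u * a) := by
      rcases comm_cases a u hx with h | h
      · exact absurd ((mem_torus_iff a u).mpr h) hxA
      · exact h
    have hv : a * v = negS (v * a) := by
      rcases comm_cases a v hy with h | h
      · exact absurd ((mem_torus_iff a v).mpr h) hyA
      · exact h
    rw [← map_mul]
    exact (mem_torus_iff a (u * v)).mpr (anti_mul_anti hu hv)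

/-- all involutions of `PSL₂(F)` are conjugate (odd characteristic) -/
theorem invol_conj (h2 : (2 : F) ≠ 0) {x y : ProjectiveSpecialLinearGroup (Fin 2) F}
    (hx1 : x ≠ 1) (hx2 : x * x = 1) (hy1 : y ≠ 1) (hy2 : y * y = 1) :
    ∃ g : ProjectiveSpecialLinearGroup (Fin 2) F, g * x * g⁻¹ = y := by
  classical
  obtain ⟨a, rfl⟩ := proj_surjective x
  obtain ⟨b, rfl⟩ := proj_surjective y
  have ha := (involution_iff h2 a).mp ⟨hx1, hx2⟩
  have hb := (involution_iff h2 b).mp ⟨hy1, hy2⟩
  have hconj : IsConj a b := by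
    rw [isConj_iff_trace _ _ (by rw [ha]; exact zero_sq_ne_four h2), ha, hb]
  obtain ⟨c, hc⟩ := isConj_iff.mp hconj
  refine ⟨proj c, ?_⟩
  rw [← map_inv, ← map_mul, ← map_mul, hc]

theorem eight_dvd_card (hodd : Fintype.card F % 2 = 1) (h16 : 16 ∣ Fintype.card F ^ 2 - 1) :
    8 ∣ Nat.card (ProjectiveSpecialLinearGroup (Fin 2) F) := by
  have h1 := Cfsg.Agent.Lib.Helper5_PSLCard.card_PSL_mul (F := F) 2 (by norm_num)
  rw [Cfsg.Agent.Lib.Helper5_PSLCard.card_SL_two] at h1
  have hg : Nat.gcd (Fintype.card F - 1) 2 = 2 := by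
    have hpos : 0 < Fintype.card F := Fintype.card_pos
    have : 2 ∣ Fintype.card F - 1 := by omega
    exact Nat.gcd_eq_right this
  rw [hg] at h1
  obtain ⟨k, hk⟩ := h16
  rw [hk] at h1
  refine ⟨Fintype.card F * k, ?_⟩
  have : Nat.card (ProjectiveSpecialLinearGroup (Fin 2) F) * 2 = (8 * (Fintype.card F * k)) * 2 := by
    rw [h1]; ring
  exact Nat.eq_of_mul_eq_mul_right (by norm_num) this

variable (hodd : Fintype.card F % 2 = 1) (h16 : 16 ∣ Fintype.card F ^ 2 - 1)
  (S : Sylow 2 (ProjectiveSpecialLinearGroup (Fin 2) F))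

include hodd h16

theorem eight_le_card : 8 ≤ Nat.card S := by
  have h8 := eight_dvd_card hodd h16
  have : (2 : ℕ) ^ 3 ∣ Nat.card S := S.pow_dvd_card_of_pow_dvd_card (by simpa using h8)
  have hpos : 0 < Nat.card S := Nat.card_pos
  exact Nat.le_of_dvd hpos (by simpa using this)

/-- a central involution of `S` -/
theorem exists_central_invol : ∃ z : ProjectiveSpecialLinearGroup (Fin 2) F, z ∈ S ∧
    (∀ s ∈ S, s * z = z * s) ∧ z ≠ 1 ∧ z * z = 1 := by
  have h8 := eight_le_card hodd h16 S
  have hnt : Nontrivial S := by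
    rw [← Finite.one_lt_card_iff_nontrivial]
    omega
  have hp : IsPGroup 2 S := S.2
  have hcnt : Nontrivial (Subgroup.center S) := hp.center_nontrivial
  have hpc : IsPGroup 2 (Subgroup.center S) := hp.to_subgroup _
  obtain ⟨n, hn0, hn⟩ := hpc.nontrivial_iff_card.mp hcnt
  have hdvd : 2 ∣ Nat.card (Subgroup.center S) := by
    rw [hn]; exact dvd_pow_self 2 (by omega)
  obtain ⟨c, hc⟩ := exists_prime_orderOf_dvd_card' 2 hdvd
  refine ⟨((c : S) : ProjectiveSpecialLinearGroup (Fin 2) F), (c : S).2, ?_, ?_, ?_⟩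
  · intro s hs
    have := Subgroup.mem_center_iff.mp c.2 ⟨s, hs⟩
    exact congrArg Subtype.val this
  · intro h1
    have : c = 1 := by
      apply Subtype.ext; apply Subtype.ext; exact h1
    rw [this, orderOf_one] at hc
    omega
  · have : c ^ 2 = 1 := by
      have := pow_orderOf_eq_one c
      rwa [hc] at this
    have h3 := congrArg (fun w : Subgroup.center S => ((w : S) : ProjectiveSpecialLinearGroup (Fin 2) F)) this
    simpa [pow_two] using h3

/-- `S` is generated by its involutions -/
theorem le_closure_invol :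
    (S : Subgroup (ProjectiveSpecialLinearGroup (Fin 2) F)) ≤
      Subgroup.closure {s | s ∈ S ∧ s ≠ 1 ∧ s * s = 1} := by
  have h2 := two_ne_zero_of_odd hodd
  obtain ⟨z, hzS, hzc, hz1, hz2⟩ := exists_central_invol hodd h16 S
  obtain ⟨a, rfl⟩ := proj_surjective z
  have ha := (involution_iff h2 a).mp ⟨hz1, hz2⟩
  exact (dihCent h2 a ha).le_closure S hzc

/-- `S` is self-normalizing -/
theorem normalizer_le {n : ProjectiveSpecialLinearGroup (Fin 2) F}
    (hn : n ∈ Subgroup.normalizer ((S : Subgroup (ProjectiveSpecialLinearGroup (Fin 2) F)) :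
      Set (ProjectiveSpecialLinearGroup (Fin 2) F))) : n ∈ S := by
  have h2 := two_ne_zero_of_odd hodd
  obtain ⟨z, hzS, hzc, hz1, hz2⟩ := exists_central_invol hodd h16 S
  obtain ⟨a, rfl⟩ := proj_surjective z
  have ha := (involution_iff h2 a).mp ⟨hz1, hz2⟩
  exact (dihCent h2 a ha).normalizer_le S hzS hzc (eight_le_card hodd h16 S) hn

end finite

end Cfsg.Agent.Lib.Helper42_PSL2Syl2
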