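import Mathlib
import Cfsg.Agent.Lib.Helper42_PSL2Syl2

/-!
# Abelian Sylow 2-subgroups of `PSL₂(q)`, `q` odd

`card_sylow_of_comm`: an abelian Sylow 2-subgroup of `PSL₂(F)`, `F` a finite field of odd order
at least five, has order four.
-/

set_option autoImplicit false

namespace Cfsg.Agent.Lib.Helper8_PSL2Sylow

open Matrix

variable {F : Type*} [Field F] [Fintype F]

/-- twice the order of `PSL₂(F)` for `F` of odd order -/
theorem two_mul_card_PSL2 (hodd : Fintype.card F % 2 = 1) :
    Nat.card (ProjectiveSpecialLinearGroup (Fin 2) F) * 2 =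
      Fintype.card F * (Fintype.card F ^ 2 - 1) := by
  have h1 := Cfsg.Agent.Lib.Helper5_PSLCard.card_PSL_mul (F := F) 2 (by norm_num)
  rw [Cfsg.Agent.Lib.Helper5_PSLCard.card_SL_two] at h1
  have hg : Nat.gcd (Fintype.card F - 1) 2 = 2 := by
    have hpos : 0 < Fintype.card F := Fintype.card_pos
    have : 2 ∣ Fintype.card F - 1 := by omega
    exact Nat.gcd_eq_right this
  rw [hg] at h1
  exact h1

/-- eight divides `q² - 1` for odd `q` -/
theorem eight_dvd_sq_sub_one (q : ℕ) (hodd : q % 2 = 1) : 8 ∣ q ^ 2 - 1 := by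
  obtain ⟨m, rfl⟩ : ∃ m, q = 2 * m + 1 := ⟨q / 2, by omega⟩
  have e : (2 * m + 1) ^ 2 - 1 = 4 * (m * (m + 1)) := by
    have : (2 * m + 1) ^ 2 = 4 * (m * (m + 1)) + 1 := by ring
    rw [this]; rfl
  rw [e]
  have h2 : 2 ∣ m * (m + 1) := (Nat.even_mul_succ_self m).two_dvd
  obtain ⟨k, hk⟩ := h2
  rw [hk]
  exact ⟨k, by ring⟩

/-- an abelian Sylow 2-subgroup of `PSL₂(F)`, `F` of odd order at least five, has order four -/
theorem card_sylow_of_comm (hodd : Fintype.card F % 2 = 1) (h5 : 5 ≤ Fintype.card F)
    (S : Sylow 2 (ProjectiveSpecialLinearGroup (Fin 2) F))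
    (hab : ∀ a ∈ (S : Subgroup (ProjectiveSpecialLinearGroup (Fin 2) F)),
      ∀ b ∈ (S : Subgroup (ProjectiveSpecialLinearGroup (Fin 2) F)), a * b = b * a) :
    Nat.card ↥(S : Subgroup (ProjectiveSpecialLinearGroup (Fin 2) F)) = 4 := by
  classical
  have : Fact (Nat.Prime 2) := ⟨Nat.prime_two⟩
  have hfinG : Finite (ProjectiveSpecialLinearGroup (Fin 2) F) := by
    apply Nat.finite_of_card_ne_zero
    intro h0
    have h := two_mul_card_PSL2 (F := F) hodd
    rw [h0, zero_mul] at h
    have hq : 0 < Fintype.card F := Fintype.card_pos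
    have h8 := eight_dvd_sq_sub_one (Fintype.card F) hodd
    have hq2 : Fintype.card F ^ 2 - 1 ≠ 0 := by
      have : 5 ^ 2 ≤ Fintype.card F ^ 2 := Nat.pow_le_pow_left h5 2
      omega
    have := Nat.mul_ne_zero (by omega : Fintype.card F ≠ 0) hq2
    exact this h.symm
  have hcard := two_mul_card_PSL2 (F := F) hodd
  have h8 := eight_dvd_sq_sub_one (Fintype.card F) hodd
  by_cases h16 : 16 ∣ Fintype.card F ^ 2 - 1
  · -- the Sylow subgroup is self-normalising, hence has a normal complement
    exfalso
    have hsimple : IsSimpleGroup (ProjectiveSpecialLinearGroup (Fin 2) F) :=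
      Matrix.ProjectiveSpecialLinearGroup.rank_two_simple
        (by rw [Nat.card_eq_fintype_card]; omega)
    have h8S := Cfsg.Agent.Lib.Helper42_PSL2Syl2.eight_le_card hodd h16 S
    have hNC : Subgroup.normalizer ((S : Subgroup (ProjectiveSpecialLinearGroup (Fin 2) F)) :
          Set (ProjectiveSpecialLinearGroup (Fin 2) F)) ≤
        Subgroup.centralizer ((S : Subgroup (ProjectiveSpecialLinearGroup (Fin 2) F)) :
          Set (ProjectiveSpecialLinearGroup (Fin 2) F)) := by
      intro n hn
      have hnS := Cfsg.Agent.Lib.Helper42_PSL2Syl2.normalizer_le hodd h16 S hn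
      rw [Subgroup.mem_centralizer_iff]
      intro h hh
      exact hab h hh n hnS
    have hcompl := MonoidHom.ker_transferSylow_isComplement' S hNC
    have hmul := hcompl.card_mul_card
    rcases (MonoidHom.normal_ker (MonoidHom.transferSylow S hNC)).eq_bot_or_eq_top with h | h
    · rw [h, Subgroup.card_bot, one_mul] at hmul
      -- the group is a 2-group
      obtain ⟨k, hk⟩ := (IsPGroup.iff_card.mp S.2)
      rw [← hmul, hk] at hcard
      have hdvd : Fintype.card F ∣ 2 ^ (k + 1) := ⟨Fintype.card F ^ 2 - 1, by rw [pow_succ, hcard]⟩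
      have hcop : Nat.Coprime (Fintype.card F) (2 ^ (k + 1)) := by
        apply Nat.Coprime.pow_right
        rw [Nat.coprime_two_right, Nat.odd_iff]
        exact hodd
      have := Nat.Coprime.eq_one_of_dvd hcop hdvd
      omega
    · rw [h, Subgroup.card_top] at hmul
      have hpos : 0 < Nat.card (ProjectiveSpecialLinearGroup (Fin 2) F) := Nat.card_pos
      have : Nat.card ↥(S : Subgroup (ProjectiveSpecialLinearGroup (Fin 2) F)) = 1 := by
        have h2 : Nat.card (ProjectiveSpecialLinearGroup (Fin 2) F) *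
            Nat.card ↥(S : Subgroup (ProjectiveSpecialLinearGroup (Fin 2) F)) =
            Nat.card (ProjectiveSpecialLinearGroup (Fin 2) F) * 1 := by rw [hmul, mul_one]
        exact Nat.eq_of_mul_eq_mul_left hpos h2
      omega
  · -- the 2-part of the order is four
    obtain ⟨m, hm⟩ := h8
    have hmodd : m % 2 = 1 := by
      by_contra hme
      apply h16
      obtain ⟨j, hj⟩ : ∃ j, m = 2 * j := ⟨m / 2, by omega⟩
      exact ⟨j, by rw [hm, hj]; ring⟩
    have hG : Nat.card (ProjectiveSpecialLinearGroup (Fin 2) F) = 4 * (Fintype.card F * m) := by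
      have : Nat.card (ProjectiveSpecialLinearGroup (Fin 2) F) * 2 =
          (4 * (Fintype.card F * m)) * 2 := by rw [hcard, hm]; ring
      exact Nat.eq_of_mul_eq_mul_right (by norm_num) this
    have hoddqm : (Fintype.card F * m) % 2 = 1 := by
      rw [Nat.mul_mod, hodd, hmodd]
    obtain ⟨k, hk⟩ := (IsPGroup.iff_card.mp S.2)
    have hidx := (S : Subgroup (ProjectiveSpecialLinearGroup (Fin 2) F)).card_mul_index
    have hnd : ¬ 2 ∣ (S : Subgroup (ProjectiveSpecialLinearGroup (Fin 2) F)).index :=
      S.not_dvd_index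
    rw [hk, hG] at hidx
    rw [hk]
    -- `2 ^ k * index = 4 * odd` with odd index
    have hk2 : k = 2 := by
      rcases Nat.lt_or_ge k 2 with hlt | hge
      · exfalso
        interval_cases k
        · rw [pow_zero, one_mul] at hidx
          apply hnd; rw [hidx]; exact ⟨2 * (Fintype.card F * m), by ring⟩
        · rw [pow_one] at hidx
          apply hnd
          have : (S : Subgroup (ProjectiveSpecialLinearGroup (Fin 2) F)).index =
              2 * (Fintype.card F * m) := by omega
          rw [this]; exact ⟨_, rfl⟩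
      · rcases Nat.eq_or_lt_of_le hge with heq | hgt
        · exact heq.symm
        · exfalso
          obtain ⟨j, hj⟩ : ∃ j, k = j + 3 := ⟨k - 3, by omega⟩
          rw [hj, pow_add] at hidx
          have : 2 ∣ Fintype.card F * m := by
            have h3 : 4 * (2 * (2 ^ j *
                (S : Subgroup (ProjectiveSpecialLinearGroup (Fin 2) F)).index)) =
                4 * (Fintype.card F * m) := by rw [← hidx]; ring
            have h4 := Nat.eq_of_mul_eq_mul_left (by norm_num : 0 < 4) h3
            exact ⟨_, h4.symm⟩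
          omega
    rw [hk2]; norm_num

/-- `PSL₂(F)` is not commutative, `F` of odd order at least five -/
theorem psl2_not_comm (hodd : Fintype.card F % 2 = 1) (h5 : 5 ≤ Fintype.card F) :
    ¬ ∀ a b : ProjectiveSpecialLinearGroup (Fin 2) F, a * b = b * a := by
  intro h
  have hsimple : IsSimpleGroup (ProjectiveSpecialLinearGroup (Fin 2) F) :=
    Matrix.ProjectiveSpecialLinearGroup.rank_two_simple
      (by rw [Nat.card_eq_fintype_card]; omega)
  have S : Sylow 2 (ProjectiveSpecialLinearGroup (Fin 2) F) := default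
  have h4 := card_sylow_of_comm hodd h5 S (fun a _ b _ => h a b)
  have hnorm : (S : Subgroup (ProjectiveSpecialLinearGroup (Fin 2) F)).Normal := by
    constructor
    intro n hn g
    rw [h g n, mul_inv_cancel_right]
    exact hn
  have hcard := two_mul_card_PSL2 (F := F) hodd
  rcases hnorm.eq_bot_or_eq_top with h0 | h0
  · rw [h0, Subgroup.card_bot] at h4; omega
  · rw [h0, Subgroup.card_top] at h4
    rw [h4] at hcard
    have h25 : 5 ^ 2 ≤ Fintype.card F ^ 2 := Nat.pow_le_pow_left h5 2
    have h24 : 24 ≤ Fintype.card F ^ 2 - 1 := by omega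
    have : 5 * 24 ≤ Fintype.card F * (Fintype.card F ^ 2 - 1) := Nat.mul_le_mul h5 h24
    omega

end Cfsg.Agent.Lib.Helper8_PSL2Sylow
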