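import Mathlib
import Cfsg.Agent.Lib.Helper6_FT3Defs
import Cfsg.Agent.Lib.Helper17_FT3_LiftGen
import Cfsg.Agent.Lib.Helper52_FT3_BASIC
import Cfsg.Agent.Lib.Helper55_FT3_L27F
import Cfsg.Agent.Lib.Helper8_PSL2Sylow

/-!
# S3331 package LIFT7 (helper17): `G ⧸ K ≅ PSL(2,7)` forces `K = ⊥`
-/

set_option autoImplicit false

open Cfsg Cfsg.Agent.Lib.Helper6_FT3Defs

namespace Cfsg.Agent.Lib.Helper17_FT3_LIFT7

universe u

variable {G : Type u} [Group G] [Finite G] {X : Subgroup G}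

theorem card_PSL27 : Nat.card (Matrix.ProjectiveSpecialLinearGroup (Fin 2) (ZMod 7)) = 168 := by
  have : Fact (Nat.Prime 7) := ⟨by norm_num⟩
  have hcardF : Fintype.card (ZMod 7) = 7 := ZMod.card 7
  have h2 := Cfsg.Agent.Lib.Helper8_PSL2Sylow.two_mul_card_PSL2 (F := ZMod 7)
    (by rw [hcardF])
  rw [hcardF] at h2
  omega

theorem simple_PSL27 : IsSimpleGroup (Matrix.ProjectiveSpecialLinearGroup (Fin 2) (ZMod 7)) := by
  have : Fact (Nat.Prime 7) := ⟨by norm_num⟩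
  apply Matrix.ProjectiveSpecialLinearGroup.rank_two_simple
  rw [Nat.card_eq_fintype_card, ZMod.card 7]
  norm_num

/-- The package statement `lift_L27`. -/
theorem lift_L27 (h : Hyp G X) (K : Subgroup G) [K.Normal]
    (hK : Nonempty (G ⧸ K ≃* Matrix.ProjectiveSpecialLinearGroup (Fin 2) (ZMod 7))) : K = ⊥ := by
  obtain ⟨e⟩ := hK
  have hcardQ : Nat.card (G ⧸ K) = 168 := by
    rw [Nat.card_congr e.toEquiv]; exact card_PSL27
  have hcard : Nat.card G = 168 * Nat.card K := by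
    rw [Subgroup.card_eq_card_quotient_mul_card_subgroup K, hcardQ]
  have hK3 : ¬ 3 ∣ Nat.card K := by
    intro h3
    apply Cfsg.Agent.Lib.Helper52_FT3_BASIC.not_nine_dvd h
    rw [hcard]
    obtain ⟨c, hc⟩ := h3
    exact ⟨56 * c, by rw [hc]; ring⟩
  have hsimple : IsSimpleGroup (G ⧸ K) := by
    have := simple_PSL27
    exact e.isSimpleGroup
  have hY : Nat.card (X.map (QuotientGroup.mk' K)) = 3 :=
    Cfsg.Agent.Lib.Helper17_FT3_LiftGen.card_map_eq_three h _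
      (by rw [QuotientGroup.ker_mk']; exact hK3)
  obtain ⟨V, hV4, hYV⟩ := Cfsg.Agent.Lib.Helper55_FT3_L27F.exists_four_group hcardQ _ hY
  obtain ⟨S, hS7, hYS⟩ := Cfsg.Agent.Lib.Helper55_FT3_L27F.exists_seven hcardQ _ hY
  have hall : ∀ p : ℕ, p.Prime → ¬ p ∣ Nat.card K := by
    intro p hp
    by_cases hp2 : p = 2
    · subst hp2
      exact Cfsg.Agent.Lib.Helper17_FT3_LiftGen.lift_gen h K hK3 hsimple S hYS
        7 1 (by norm_num) (by norm_num) le_rfl (by rw [hS7]; norm_num) 2 hp (by norm_num)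
    · exact Cfsg.Agent.Lib.Helper17_FT3_LiftGen.lift_gen h K hK3 hsimple V hYV
        2 2 Nat.prime_two (by norm_num) (by norm_num) (by rw [hV4]; norm_num) p hp hp2
  have h1 : Nat.card K = 1 := Nat.eq_one_iff_not_exists_prime_dvd.mpr hall
  exact Subgroup.card_eq_one.mp h1

end Cfsg.Agent.Lib.Helper17_FT3_LIFT7
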