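import Mathlib
import Cfsg.Agent.Lib.Helper95_FeitDefs
import Cfsg.Agent.Lib.Helper74_FS3
import Cfsg.Agent.Lib.Helper16_CohCount
import Cfsg.Agent.Lib.Helper25_FrobSet
import Cfsg.Agent.Lib.Helper31_FeitFrob
import Cfsg.Agent.Lib.Helper3_CharOrtho
import Cfsg.Agent.Lib.Helper81_CharOrth

/-!
# S0885 (Feit), round 2, package PE1 (helper17): the Frobenius–Schur count on `N`

If every member of `SS N H` has degree `e` and Frobenius–Schur indicator `1`, then the number of
solutions of `s * s = 1` in `N` is `|SS| e + 1 ≥ h`, but all of them lie in `H`, where there are at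
most `e + 1` of them: contradiction with `2 e < h - 1`.
-/

set_option autoImplicit false
set_option linter.unusedSectionVars false

namespace Cfsg.Agent.Lib.Helper17_Feit_PE1

open Cfsg MulAction Cfsg.Agent.Lib.Helper95_FeitDefs
open scoped ComplexConjugate

universe u

variable {G : Type u} [Group G] [Fintype G] {N H : Subgroup G} [Fintype N] {h e : ℕ}

/-- `K = H.subgroupOf N` is normal in `N`. -/
theorem normal_K (hD : ZData N H h e) : (H.subgroupOf N).Normal := by
  refine ⟨fun x hx n => ?_⟩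
  rw [Subgroup.mem_subgroupOf] at hx ⊢
  have := hD.H_normal n n.2 x hx
  simpa using this

theorem card_K (hD : ZData N H h e) : Nat.card (H.subgroupOf N) = h := by
  rw [← hD.card_H]
  exact Nat.card_congr (Subgroup.subgroupOfEquivOfLe hD.H_le).toEquiv

theorem h_pos (hD : ZData N H h e) : 0 < h := by
  rw [← hD.card_H]; exact Nat.card_pos

theorem index_K (hD : ZData N H h e) : (H.subgroupOf N).index = e := by
  have h1 := Subgroup.card_mul_index (H.subgroupOf N)
  rw [card_K hD, hD.card_N] at h1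
  exact Nat.eq_of_mul_eq_mul_left (h_pos hD) h1

/-- The Frobenius condition in the form used by `Helper25_FrobSet`. -/
theorem frob_K (hD : ZData N H h e) :
    ∀ k ∈ H.subgroupOf N, k ≠ 1 → ∀ x : N, x * k = k * x → x ∈ H.subgroupOf N := by
  intro k hk hk1 x hx
  rw [Subgroup.mem_subgroupOf] at hk ⊢
  refine hD.frob k hk (fun h1 => hk1 (Subtype.ext h1)) x x.2 ?_
  have := congrArg (Subtype.val) hx
  simpa using this

/-- An element of `N` whose square is `1` lies in `H`. -/
theorem mem_H_of_sq (hD : ZData N H h e) (s : N) (hs : s * s = 1) : (s : G) ∈ H := by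
  have hn := normal_K hD
  have h1 : s ^ (H.subgroupOf N).index ∈ H.subgroupOf N := Subgroup.pow_index_mem _ s
  rw [index_K hD] at h1
  obtain ⟨k, hk⟩ := hD.e_odd
  have h2 : s ^ e = s := by
    rw [hk, pow_succ, pow_mul, pow_two, hs, one_pow, one_mul]
  rw [h2, Subgroup.mem_subgroupOf] at h1
  exact h1


/-- The number of solutions of `s * s = 1` in `N` is at most `e + 1`. -/
theorem card_sq_le (hD : ZData N H h e) [DecidableEq N] :
    (Finset.univ.filter (fun s : N => s * s = 1)).card ≤ e + 1 := by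
  classical
  refine le_trans ?_ hD.invol_H
  have h1 : (Finset.univ.filter (fun s : N => s * s = 1)).card =
      Nat.card {s : N // s * s = 1} := by
    rw [Nat.card_eq_fintype_card, Fintype.card_subtype]
  rw [h1]
  refine Nat.card_le_card_of_injective
    (fun s : {s : N // s * s = 1} => (⟨(s.1 : G), mem_H_of_sq hD s.1 s.2, by
      have := congrArg Subtype.val s.2
      simpa using this⟩ : {z : G // z ∈ H ∧ z * z = 1})) ?_
  intro s t hst
  have h2 : (s.1 : G) = (t.1 : G) := congrArg (fun z => (z.1 : G)) hst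
  exact Subtype.ext (Subtype.ext h2)

/-- The Frobenius–Schur indicator of the trivial character. -/
theorem fsInd_one (L : Type*) [Group L] [Fintype L] :
    Cfsg.Agent.Lib.Helper74_FS.fsInd (fun _ : L => (1 : ℂ)) = 1 := by
  unfold Cfsg.Agent.Lib.Helper74_FS.fsInd
  rw [Finset.sum_const, Finset.card_univ, nsmul_eq_mul, mul_one, Nat.card_eq_fintype_card]
  have : (Fintype.card L : ℂ) ≠ 0 := by
    rw [Nat.cast_ne_zero]; exact Fintype.card_ne_zero
  field_simp


/-- **PE1**: the Frobenius–Schur count on `N`. -/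
theorem PE1 (hD : ZData N H h e) (hhe : 2 * e < h - 1)
    (hC0 : ∀ χ : N → ℂ, Cfsg.IsIrrCharacter N χ → (∀ x ∈ H.subgroupOf N, χ x = χ 1) →
      χ ≠ (fun _ => 1) → Cfsg.conjFun χ ≠ χ)
    (hall : ∀ ξ ∈ SS N H, ξ 1 = (e : ℂ) ∧ Cfsg.Agent.Lib.Helper74_FS.fsInd ξ = 1) : False := by
  classical
  have hKn : (H.subgroupOf N).Normal := normal_K hD
  have hfin : Finite (IrrCharacter N) := Cfsg.Agent.Lib.Helper81_CharOrth.finite_irrCharacter
  have hft : Fintype (IrrCharacter N) := Fintype.ofFinite _
  -- the members of `SS`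
  set S : Finset (IrrCharacter N) := Finset.univ.filter (fun χ => (χ : N → ℂ) ∈ SS N H) with hS
  set t : IrrCharacter N := Cfsg.Agent.Lib.Helper16_CohCount.trivIrr N with ht
  have htS : t ∉ S := by
    rw [hS, Finset.mem_filter]
    rintro ⟨-, -, x, -, hx⟩
    exact hx rfl
  -- the Frobenius–Schur count
  have hcount : Cfsg.Agent.Lib.Helper74_FS.sqrtCount (1 : N) = (S.card : ℂ) * e + 1 := by
    rw [Cfsg.Agent.Lib.Helper74_FS.sqrtCount_one_eq,
      ← Finset.sum_add_sum_compl S]
    congr 1
    · rw [Finset.sum_congr rfl (g := fun _ => (e : ℂ)), Finset.sum_const, nsmul_eq_mul]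
      intro χ hχ
      rw [hS, Finset.mem_filter] at hχ
      obtain ⟨h1, h2⟩ := hall _ hχ.2
      rw [h1, h2, one_mul]
    · rw [Finset.sum_eq_single_of_mem t (Finset.mem_compl.2 htS)]
      · change Cfsg.Agent.Lib.Helper74_FS.fsInd (fun _ : N => (1 : ℂ)) * 1 = 1
        rw [fsInd_one, one_mul]
      · intro χ hχ hχt
        rw [Finset.mem_compl, hS, Finset.mem_filter] at hχ
        have hnot : ¬ ((χ : N → ℂ) ∈ SS N H) := fun hh => hχ ⟨Finset.mem_univ _, hh⟩
        have hker : ∀ x ∈ H.subgroupOf N, (χ : N → ℂ) x = (χ : N → ℂ) 1 := by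
          intro x hx
          by_contra hne
          exact hnot ⟨χ.2, x, hx, hne⟩
        have hne1 : (χ : N → ℂ) ≠ (fun _ => 1) := by
          intro hh
          apply hχt
          exact Subtype.ext hh
        have hconj := hC0 _ χ.2 hker hne1
        rcases Cfsg.Agent.Lib.Helper74_FS.fsInd_irr χ.2 with h0 | ⟨hreal, -⟩
        · rw [h0, zero_mul]
        · exfalso
          apply hconj
          funext g
          change conj ((χ : N → ℂ) g) = (χ : N → ℂ) g
          rw [Complex.conj_eq_iff_im]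
          exact hreal g
  -- the lower bound from `sum_bound`
  set T : Finset (N → ℂ) := S.image Subtype.val with hT
  have hTcard : T.card = S.card := Finset.card_image_of_injective _ Subtype.val_injective
  have hmemT : ∀ φ ∈ T, φ ∈ SS N H := by
    intro φ hφ
    rw [hT, Finset.mem_image] at hφ
    obtain ⟨χ, hχ, rfl⟩ := hφ
    rw [hS, Finset.mem_filter] at hχ
    exact hχ.2
  have hcop : (Nat.card (H.subgroupOf N)).Coprime (H.subgroupOf N).index := by
    apply Cfsg.Agent.Lib.Helper31_FeitFrob.coprime_card_index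
    intro k hk hk1 x hx
    rw [Subgroup.mem_centralizer_singleton_iff] at hx
    exact frob_K hD k hk hk1 x hx
  have hsub : Cfsg.inducedIrrAbove (H.subgroupOf N) ⊥ ⊆ (↑T : Set (N → ℂ)) := by
    rw [← Cfsg.Agent.Lib.Helper25_FrobSet.setOf_irr_eq (H.subgroupOf N) (frob_K hD) hcop]
    intro φ hφ
    rw [hT, Finset.coe_image, Set.mem_image]
    refine ⟨⟨φ, hφ.1⟩, ?_, rfl⟩
    rw [hS, Finset.mem_coe, Finset.mem_filter]
    exact ⟨Finset.mem_univ _, hφ⟩
  have hbound := Cfsg.Agent.Lib.Helper16_CohCount.sum_bound (H.subgroupOf N) ⊥ T hsub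
    (fun _ => e) (fun _ => 1)
    (fun φ hφ => (hall φ (hmemT φ hφ)).1)
    (fun φ hφ => by
      rw [Cfsg.Agent.Lib.Helper3_CharOrtho.classInner_irr (hmemT φ hφ).1 (hmemT φ hφ).1,
        if_pos rfl, Nat.cast_one])
    (fun _ _ => Nat.one_pos)
  rw [index_K hD, Subgroup.relIndex_bot_left, card_K hD, Finset.sum_const, hTcard,
    nsmul_eq_mul] at hbound
  have he0 : (0 : ℝ) < e := by exact_mod_cast lt_trans Nat.zero_lt_one hD.one_lt_e
  have hb2 : ((h : ℝ) - 1) ≤ S.card * e := by
    have h3 : (e : ℝ) * ((h : ℝ) - 1) ≤ e * (S.card * e) := by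
      calc (e : ℝ) * ((h : ℝ) - 1) ≤ S.card * ((e : ℝ) ^ 2 / ((1 : ℕ) : ℝ)) := hbound
        _ = e * (S.card * e) := by rw [Nat.cast_one]; ring
    exact le_of_mul_le_mul_left h3 he0
  have hb3 : h ≤ S.card * e + 1 := by
    have : (h : ℝ) ≤ ((S.card * e + 1 : ℕ) : ℝ) := by push_cast; linarith
    exact_mod_cast this
  -- the upper bound
  have hup := card_sq_le hD (N := N) (H := H)
  have hcount' : (Finset.univ.filter (fun s : N => s * s = 1)).card = S.card * e + 1 := by
    have h4 : (((Finset.univ.filter (fun s : N => s * s = 1)).card : ℕ) : ℂ) =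
        ((S.card * e + 1 : ℕ) : ℂ) := by
      push_cast
      rw [← hcount]
      unfold Cfsg.Agent.Lib.Helper74_FS.sqrtCount
      congr!
    exact_mod_cast h4
  omega

end Cfsg.Agent.Lib.Helper17_Feit_PE1
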