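import Mathlib
import Cfsg.Prelude.Def_Characters
import Cfsg.Agent.Lib.Helper17_TIPrime
import Cfsg.Agent.Lib.Helper75_IndChar

/-!
# Characters of a Frobenius-type group with abelian kernel (helper17)

Let `A` be a normal abelian subgroup of the finite group `M` with `C_M(a) ≤ A` for every
`1 ≠ a ∈ A`.  Every irreducible character `χ` of `M` which is not constant on `A` is induced
from a nonprincipal linear character of `A`; hence it vanishes off `A` and has degree `|M : A|`.
-/

set_option autoImplicit false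
open scoped ComplexConjugate

namespace Cfsg.Agent.Lib.Helper17_FrobChar

open Cfsg.Agent.Lib.Helper75_Induced Cfsg.Agent.Lib.Helper75_CharArith
  Cfsg.Agent.Lib.Helper3_CharOrtho Cfsg.Agent.Lib.Helper3_CharComplete
  Cfsg.Agent.Lib.Helper3_CharBridge Cfsg.Agent.Lib.Helper80_CharBasic
  Cfsg.Agent.Lib.Helper17_TIPrime

variable {M : Type*} [Group M] (A : Subgroup M) [hA : A.Normal]

/-- The twist of an irreducible character of the normal subgroup `A` by `m : M`. -/
noncomputable def twN (m : M) (lam : Cfsg.IrrCharacter A) : Cfsg.IrrCharacter A :=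
  ⟨fun a => (lam : A → ℂ) (MulAut.conjNormal m a),
    Cfsg.Agent.Lib.Helper81_CharOrth2.isIrrCharacter_comp_mulEquiv (MulAut.conjNormal m) lam.2⟩

theorem twN_apply (m : M) (lam : Cfsg.IrrCharacter A) (a : A) :
    (twN A m lam : A → ℂ) a = (lam : A → ℂ) (MulAut.conjNormal m a) := rfl

/-- The value of an induced function on the normal subgroup `A`. -/
theorem indFun_apply_normal [Fintype M] (θ : A → ℂ) (a : A) :
    Cfsg.indFun A θ a = (Nat.card A : ℂ)⁻¹ * ∑ m : M, θ (MulAut.conjNormal m a) := by
  rw [indFun_apply]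
  congr 1
  apply Fintype.sum_equiv (Equiv.inv M)
  intro m
  have h2 : m⁻¹ * (a : M) * m = ((MulAut.conjNormal (m⁻¹) a : A) : M) := by
    rw [MulAut.conjNormal_apply, inv_inv]
  rw [h2, extendByZero_coe]
  rfl

/-- An induced function from a normal subgroup vanishes off it. -/
theorem indFun_eq_zero_of_not_mem [Fintype M] (θ : A → ℂ) (m : M) (hm : m ∉ A) :
    Cfsg.indFun A θ m = 0 := by
  rw [indFun_apply]
  apply mul_eq_zero_of_right
  apply Finset.sum_eq_zero
  intro x _
  apply extendByZero_of_not_mem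
  intro h
  apply hm
  have := hA.conj_mem _ h x
  simpa [mul_assoc] using this

/-- Inner product of two functions induced from a normal subgroup. -/
theorem classInner_indFun_normal [Fintype M] [Fintype A] (θ θ' : A → ℂ) :
    Cfsg.classInner (Cfsg.indFun A θ) (Cfsg.indFun A θ') = (Nat.card A : ℂ)⁻¹ *
      ∑ m : M, Cfsg.classInner θ (fun a => θ' (MulAut.conjNormal m a)) := by
  rw [frobenius_reciprocity A θ _ (isClassFunction_indFun A θ')]
  unfold Cfsg.classInner
  congr 1
  rw [← Finset.mul_sum, Finset.sum_comm, Finset.mul_sum]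
  apply Finset.sum_congr rfl
  intro a _
  show θ a * conj (Cfsg.indFun A θ' a) = _
  rw [indFun_apply_normal A θ' a, map_mul, map_inv₀, Complex.conj_natCast, map_sum,
    Finset.mul_sum, Finset.mul_sum, Finset.mul_sum]
  apply Finset.sum_congr rfl
  intro n _
  ring

section Frob

variable [Finite M] (hab : ∀ a b : A, a * b = b * a)
  (hC : ∀ a ∈ A, a ≠ 1 → ∀ m : M, m * a = a * m → m ∈ A)

include hab hC in
/-- The stabilizer of a nonprincipal irreducible character of `A` is `A`. -/
theorem mem_of_twN_eq (lam : Cfsg.IrrCharacter A) (hne : lam ≠ oneIrr A) (m : M)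
    (h : twN A m lam = lam) : m ∈ A := by
  by_contra hm
  have h1 : (lam : A → ℂ) 1 = 1 := irr_apply_one_of_comm hab lam
  have hchar : Cfsg.IsCharacter A (lam : A → ℂ) := isCharacter_of_isIrrCharacter lam.2
  let φ : A → A := fun a => MulAut.conjNormal m a * a⁻¹
  have hinj : Function.Injective φ := by
    intro a b hφ
    by_contra hne'
    have h2 : MulAut.conjNormal m (b⁻¹ * a) = b⁻¹ * a := by
      have h3 : MulAut.conjNormal m a * a⁻¹ = MulAut.conjNormal m b * b⁻¹ := hφ
      rw [map_mul, map_inv]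
      calc (MulAut.conjNormal m b)⁻¹ * MulAut.conjNormal m a
          = (MulAut.conjNormal m b)⁻¹ * (MulAut.conjNormal m a * a⁻¹) * a := by group
        _ = (MulAut.conjNormal m b)⁻¹ * (MulAut.conjNormal m b * b⁻¹) * a := by rw [h3]
        _ = b⁻¹ * a := by group
    have h4 : b⁻¹ * a ≠ 1 := by
      intro h5
      apply hne'
      have : a = b * (b⁻¹ * a) := by group
      rw [this, h5, mul_one]
    apply hm
    apply hC ((b⁻¹ * a : A) : M) (b⁻¹ * a).2 (fun h5 => h4 (Subtype.ext h5)) m
    have h6 := congrArg Subtype.val h2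
    rw [MulAut.conjNormal_apply] at h6
    calc m * ((b⁻¹ * a : A) : M) = m * ((b⁻¹ * a : A) : M) * m⁻¹ * m := by group
      _ = ((b⁻¹ * a : A) : M) * m := by rw [h6]
  have hsurj : Function.Surjective φ := Finite.injective_iff_surjective.mp hinj
  apply hne
  apply Subtype.ext
  funext a
  obtain ⟨b, rfl⟩ := hsurj a
  show (lam : A → ℂ) (MulAut.conjNormal m b * b⁻¹) = 1
  rw [Cfsg.Agent.Lib.Helper15_Linear.linear_mul _ hchar h1,
    Cfsg.Agent.Lib.Helper15_Linear.linear_inv _ hchar h1]
  have h7 := congrFun (congrArg Subtype.val h) b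
  rw [twN_apply] at h7
  rw [h7]
  exact mul_inv_cancel₀ (Cfsg.Agent.Lib.Helper15_Linear.linear_ne_zero _ hchar h1 b)

include hab in
theorem twN_of_mem (lam : Cfsg.IrrCharacter A) (m : M) (hm : m ∈ A) : twN A m lam = lam := by
  apply Subtype.ext
  funext a
  rw [twN_apply]
  have h1 : MulAut.conjNormal m a = a := by
    apply Subtype.ext
    rw [MulAut.conjNormal_apply]
    have := congrArg Subtype.val (hab ⟨m, hm⟩ a)
    simp only [Subgroup.coe_mul] at this
    rw [this]
    group
  rw [h1]

include hab hC in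
/-- A nonprincipal linear character of `A` induces irreducibly to `M`. -/
theorem isIrrCharacter_indFun [Fintype M] (lam : Cfsg.IrrCharacter A) (hne : lam ≠ oneIrr A) :
    Cfsg.IsIrrCharacter M (Cfsg.indFun A (lam : A → ℂ)) := by
  classical
  have : Fintype A := Fintype.ofFinite A
  apply isIrrCharacter_of_classInner_self
    (Cfsg.Agent.Lib.Helper75_IndChar.isCharacter_indFun A (isCharacter_of_isIrrCharacter lam.2))
  rw [classInner_indFun_normal]
  have h1 : ∀ m : M, Cfsg.classInner (lam : A → ℂ)
      (fun a => (lam : A → ℂ) (MulAut.conjNormal m a)) = if m ∈ A then 1 else 0 := by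
    intro m
    have h2 : (fun a => (lam : A → ℂ) (MulAut.conjNormal m a)) = (twN A m lam : A → ℂ) := rfl
    rw [h2]
    split_ifs with hm
    · rw [twN_of_mem A hab lam m hm]
      exact classInner_self_of_isIrrCharacter lam.2
    · apply classInner_of_isIrrCharacter_of_ne lam.2 (twN A m lam).2
      intro h3
      exact hm (mem_of_twN_eq A hab hC lam hne m (Subtype.ext h3.symm))
  rw [Finset.sum_congr rfl (fun m _ => h1 m), Finset.sum_boole]
  have h4 : ((Finset.univ.filter (fun m : M => m ∈ A)).card : ℂ) = (Nat.card A : ℂ) := by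
    rw [Nat.card_eq_fintype_card, Fintype.card_subtype]
  rw [h4]
  have : (Nat.card A : ℂ) ≠ 0 := by
    rw [Nat.cast_ne_zero]; exact Nat.card_pos.ne'
  field_simp

include hab hC in
/-- **Characters of a Frobenius-type group**: an irreducible character of `M` which is not
constant on `A` is induced from a nonprincipal linear character of `A`. -/
theorem exists_eq_indFun [Fintype M] (χ : Cfsg.IrrCharacter M)
    (hrel : ∃ a : M, a ∈ A ∧ (χ : M → ℂ) a ≠ (χ : M → ℂ) 1) :
    ∃ lam : Cfsg.IrrCharacter A, lam ≠ oneIrr A ∧ (χ : M → ℂ) = Cfsg.indFun A (lam : A → ℂ) := by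
  classical
  have : Fintype A := Fintype.ofFinite A
  obtain ⟨m, hm, hsum⟩ := exists_multiplicities
    (isCharacter_restrict A (isCharacter_of_isIrrCharacter χ.2))
  have hex : ∃ lam : Cfsg.IrrCharacter A, lam ≠ oneIrr A ∧ m lam ≠ 0 := by
    by_contra hcon
    push Not at hcon
    obtain ⟨a, haA, ha⟩ := hrel
    apply ha
    have h1 : ∀ b : A, (χ : M → ℂ) b = (m (oneIrr A) : ℂ) := by
      intro b
      have h2 := congrFun hsum b
      rw [Finset.sum_apply, Finset.sum_eq_single (oneIrr A)] at h2
      · rw [h2]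
        simp only [Pi.smul_apply, smul_eq_mul]
        show (m (oneIrr A) : ℂ) * 1 = _
        rw [mul_one]
      · intro lam _ hlam
        rw [hcon lam hlam]
        simp
      · intro h; exact absurd (Finset.mem_univ _) h
    rw [h1 ⟨a, haA⟩]
    exact (h1 1).symm
  obtain ⟨lam, hlam, hmlam⟩ := hex
  refine ⟨lam, hlam, ?_⟩
  have hirr := isIrrCharacter_indFun A hab hC lam hlam
  by_contra hne
  have h1 := classInner_of_isIrrCharacter_of_ne hirr χ.2 (fun h => hne h.symm)
  rw [frobenius_reciprocity A (lam : A → ℂ) _ (isClassFunction_of_isIrrCharacter χ.2),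
    ← classInner_conj_symm, hm lam] at h1
  simp only [map_natCast, Nat.cast_eq_zero] at h1
  exact hmlam h1

include hab hC in
/-- Relevant characters vanish off `A`. -/
theorem eq_zero_of_not_mem [Fintype M] (χ : Cfsg.IrrCharacter M)
    (hrel : ∃ a : M, a ∈ A ∧ (χ : M → ℂ) a ≠ (χ : M → ℂ) 1) (m : M) (hm : m ∉ A) :
    (χ : M → ℂ) m = 0 := by
  obtain ⟨lam, _, h⟩ := exists_eq_indFun A hab hC χ hrel
  rw [h]
  exact indFun_eq_zero_of_not_mem A _ m hm

include hab hC in
/-- Relevant characters have degree `|M : A|`. -/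
theorem apply_one_of_relevant [Fintype M] (χ : Cfsg.IrrCharacter M)
    (hrel : ∃ a : M, a ∈ A ∧ (χ : M → ℂ) a ≠ (χ : M → ℂ) 1) :
    (χ : M → ℂ) 1 = (Nat.card A : ℂ)⁻¹ * (Nat.card M : ℂ) := by
  obtain ⟨lam, _, h⟩ := exists_eq_indFun A hab hC χ hrel
  rw [h, indFun_one, irr_apply_one_of_comm hab lam, mul_one]

end Frob

end Cfsg.Agent.Lib.Helper17_FrobChar
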