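/-
helper40: abstract "Green data" of a finite group with a split (B, N)-pair given by root elements.
Used for: in such a group (irreducible type) a subgroup of `U` of the form `U ⊓ x U x⁻¹` with `x`
centralising it, all of whose conjugates inside `U` are again of this form, is `⊥` or `U`
(hence, by Green's theorem, defect groups of `p`-blocks are trivial or Sylow).  Definitions only.
-/
import Mathlib

set_option autoImplicit false

namespace Cfsg.Agent.Lib.Helper40_GreenDefs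

/-- The data: roots are natural numbers `< nroots`; `x r t` are the root elements; `IsAct m π` says that `m`
permutes the root subgroups as the (linear) map `π` of the roots. -/
structure GreenData (G : Type*) [Group G] (F : Type*) [Field F] where
  U : Subgroup G
  N : Subgroup G
  rank : ℕ
  nroots : ℕ
  pos : ℕ → Prop
  neg : ℕ → Prop
  simple : ℕ → ℕ
  refl : ℕ → ℕ → ℕ
  adj : ℕ → ℕ → Prop
  sub2 : ℕ → ℕ → ℕ → Prop
  x : ℕ → F → G
  IsAct : G → (ℕ → ℕ) → Prop
  pos_lt : ∀ r, pos r → r < nroots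
  pos_or_neg : ∀ r, r < nroots → pos r ∨ neg r
  not_pos_neg : ∀ r, pos r → ¬ neg r
  simple_pos : ∀ i, i < rank → pos (simple i)
  refl_pos : ∀ i, i < rank → ∀ r, pos r → r ≠ simple i → pos (refl i r) ∧ refl i r ≠ simple i
  refl_refl : ∀ i, i < rank → ∀ r, r < nroots → refl i (refl i r) = r
  refl_sub2 : ∀ i, i < rank → ∀ j, j < rank → sub2 i j (refl i (simple j))
  adj_ne : ∀ i, i < rank → ∀ j, j < rank → adj i j → simple i ≠ simple j
  conn : ∀ K : ℕ → Prop, (∃ k, k < rank ∧ K k) → (∃ k, k < rank ∧ ¬ K k) →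
    ∃ i, i < rank ∧ ∃ j, j < rank ∧ ¬ K i ∧ K j ∧ adj i j
  x_mem : ∀ r, pos r → ∀ t, x r t ∈ U
  U_le : U ≤ Subgroup.closure {g | ∃ r t, pos r ∧ g = x r t}
  bruhat : ∀ g : G, ∃ u ∈ U, ∃ n ∈ N, ∃ u' ∈ U, g = u * n * u'
  act_exists : ∀ m, m ∈ N → ∃ π, IsAct m π
  act_lt : ∀ m π, IsAct m π → ∀ r, r < nroots → π r < nroots
  act_conj : ∀ m π, IsAct m π → ∀ r, r < nroots →
    ∃ a : F, a ≠ 0 ∧ ∀ t, m * x r t * m⁻¹ = x (π r) (a * t)
  act_inter : ∀ m π, IsAct m π → ∀ g, g ∈ U → m * g * m⁻¹ ∈ U →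
    g ∈ Subgroup.closure {g | ∃ r t, pos r ∧ pos (π r) ∧ g = x r t}
  act_allpos : ∀ m π, IsAct m π → (∀ i, i < rank → pos (π (simple i))) → ∀ r, pos r → pos (π r)
  act_allneg : ∀ m π, IsAct m π → (∀ i, i < rank → neg (π (simple i))) → ∀ r, pos r → neg (π r)
  act_str : ∀ m π, IsAct m π → ∀ i, i < rank → ∀ j, j < rank → adj i j → π (simple j) = simple j →
    π (refl i (simple j)) = refl i (simple j) → π (simple i) = simple i
  act_rank2 : ∀ m π, IsAct m π → ∀ i, i < rank → ∀ j, j < rank → neg (π (simple i)) →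
    neg (π (simple j)) → ∀ r, pos r → sub2 i j r → neg (π r)
  refl_act : ∀ i, i < rank → ∃ g : G, IsAct g (refl i)
  rigid : ∀ u, u ∈ U → ∀ r s, pos r → pos s → ∀ t : F, u * x r 1 * u⁻¹ = x s t → r = s
  ua_normal : ∀ i, i < rank → ∀ u, u ∈ U →
    ∀ g, g ∈ Subgroup.closure {g | ∃ r t, pos r ∧ r ≠ simple i ∧ g = x r t} →
      u * g * u⁻¹ ∈ Subgroup.closure {g | ∃ r t, pos r ∧ r ≠ simple i ∧ g = x r t}
  ua_compl : ∀ i, i < rank → ∀ t, x (simple i) t ∈
    Subgroup.closure {g | ∃ r t, pos r ∧ r ≠ simple i ∧ g = x r t} → t = 0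
  uij_normal : ∀ i, i < rank → ∀ j, j < rank → ∀ u, u ∈ U →
    ∀ g, g ∈ Subgroup.closure {g | ∃ r t, pos r ∧ ¬ sub2 i j r ∧ g = x r t} →
      u * g * u⁻¹ ∈ Subgroup.closure {g | ∃ r t, pos r ∧ ¬ sub2 i j r ∧ g = x r t}
  uij_compl : ∀ i, i < rank → ∀ j, j < rank → ∀ r, pos r → sub2 i j r → ∀ t,
    x r t ∈ Subgroup.closure {g | ∃ r t, pos r ∧ ¬ sub2 i j r ∧ g = x r t} → t = 0

variable {G : Type*} [Group G] {F : Type*} [Field F]

/-- `U_π`: generated by the root elements of the positive roots that `π` keeps positive -/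
def GreenData.Upi (Gd : GreenData G F) (π : ℕ → ℕ) : Subgroup G :=
  Subgroup.closure {g | ∃ r t, Gd.pos r ∧ Gd.pos (π r) ∧ g = Gd.x r t}

/-- `U_i`: generated by the root elements of the positive roots other than the `i`-th fundamental root -/
def GreenData.Ua (Gd : GreenData G F) (i : ℕ) : Subgroup G :=
  Subgroup.closure {g | ∃ r t, Gd.pos r ∧ r ≠ Gd.simple i ∧ g = Gd.x r t}

/-- `U_{ij}`: generated by the root elements of the positive roots outside the rank 2 subsystem of `i, j` -/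
def GreenData.Uij (Gd : GreenData G F) (i j : ℕ) : Subgroup G :=
  Subgroup.closure {g | ∃ r t, Gd.pos r ∧ ¬ Gd.sub2 i j r ∧ g = Gd.x r t}

/-- the hypotheses on a family `𝒟` of subgroups of `U` ("defect groups inside `U`") -/
structure GreenFamily (Gd : GreenData G F) (𝒟 : Set (Subgroup G)) : Prop where
  le : ∀ E ∈ 𝒟, E ≤ Gd.U
  green : ∀ E ∈ 𝒟, ∃ x : G, (∀ e ∈ E, x * e = e * x) ∧
    Gd.U ⊓ Gd.U.map (MulAut.conj x).toMonoidHom = E
  conj : ∀ E ∈ 𝒟, ∀ g : G, E.map (MulAut.conj g).toMonoidHom ≤ Gd.U →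
    E.map (MulAut.conj g).toMonoidHom ∈ 𝒟

/-- normal form of a member of the family: `E₀ = U ⊓ m⁻¹ U m = U_π` with `π` fixing the positive roots it keeps
positive -/
def GreenData.IsNF (Gd : GreenData G F) (E : Subgroup G) (m : G) (π : ℕ → ℕ) : Prop :=
  Gd.IsAct m π ∧ E = Gd.Upi π ∧ ∀ r, Gd.pos r → Gd.pos (π r) → π r = r

end Cfsg.Agent.Lib.Helper40_GreenDefs
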