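import Mathlib
import Cfsg.Agent.Lib.Helper40_GreenDefs

set_option autoImplicit false

/-!
# Green market (helper40, `green_packages`, target S2441), package GA-EXT

`green_allpos` : if `π` keeps all fundamental roots positive then `E = U`;
`green_allneg` : if `π` makes all fundamental roots negative then `E = ⊥`.
-/

open Cfsg.Agent.Lib.Helper40_GreenDefs

namespace Cfsg.Agent.Lib.Helper17_GR_GAEXT

variable {G : Type*} [Group G] {F : Type*} [Field F]

theorem green_allpos (Gd : GreenData G F) (E : Subgroup G) (m : G) (π : ℕ → ℕ) (h : Gd.IsNF E m π)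
    (hall : ∀ i, i < Gd.rank → Gd.pos (π (Gd.simple i))) : E = Gd.U := by
  obtain ⟨hact, hE, -⟩ := h
  have hpos : ∀ r, Gd.pos r → Gd.pos (π r) := Gd.act_allpos m π hact hall
  rw [hE]
  apply le_antisymm
  · rw [GreenData.Upi, Subgroup.closure_le]
    rintro g ⟨r, t, hr, -, rfl⟩
    exact Gd.x_mem r hr t
  · refine le_trans Gd.U_le ?_
    rw [GreenData.Upi]
    apply Subgroup.closure_mono
    rintro g ⟨r, t, hr, rfl⟩
    exact ⟨r, t, hr, hpos r hr, rfl⟩

theorem green_allneg (Gd : GreenData G F) (E : Subgroup G) (m : G) (π : ℕ → ℕ) (h : Gd.IsNF E m π)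
    (hall : ∀ i, i < Gd.rank → ¬ Gd.pos (π (Gd.simple i))) : E = ⊥ := by
  obtain ⟨hact, hE, -⟩ := h
  have hneg0 : ∀ i, i < Gd.rank → Gd.neg (π (Gd.simple i)) := by
    intro i hi
    have hlt : π (Gd.simple i) < Gd.nroots :=
      Gd.act_lt m π hact _ (Gd.pos_lt _ (Gd.simple_pos i hi))
    rcases Gd.pos_or_neg _ hlt with hp | hn
    · exact absurd hp (hall i hi)
    · exact hn
  have hneg : ∀ r, Gd.pos r → Gd.neg (π r) := Gd.act_allneg m π hact hneg0
  rw [hE, GreenData.Upi, Subgroup.closure_eq_bot_iff]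
  rintro g ⟨r, t, hr, hpr, rfl⟩
  exact absurd (hneg r hr) (Gd.not_pos_neg _ hpr)

end Cfsg.Agent.Lib.Helper17_GR_GAEXT
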