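import Mathlib
import Cfsg.Prelude.Def_Characters
import Cfsg.Prelude.Def_TwoFusion
import Cfsg.Prelude.Def_Solvable
import Cfsg.Agent.Lib.Helper80_CharBasic
import Cfsg.Agent.Lib.Helper80_CharComplete
import Cfsg.Agent.Lib.Helper17_H27Defs
import Cfsg.Agent.Lib.Helper76_H648Defs

set_option autoImplicit false
set_option linter.unusedSectionVars false
open scoped ComplexConjugate

namespace Cfsg.Agent.Lib.Helper57_H648_TRIV

open Cfsg Cfsg.Agent.Lib.Helper80_CharBasic
  Cfsg.Agent.Lib.Helper76_H648Defs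
open Cfsg.Agent.Lib.Helper17_H27Defs (elt)

variable {G : Type*} [Group G] [Finite G]

theorem triv (a b c σ u v s : G) (j : Fin 9) :
    cvec a b c σ u v s (fun _ : G => (1 : ℂ)) j = (r0 j : ℂ) := by
  unfold cvec cform r0
  fin_cases j <;> simp <;> norm_num

end Cfsg.Agent.Lib.Helper57_H648_TRIV
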