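import Mathlib
import Cfsg.Prelude.Def_Characters
import Cfsg.Agent.Lib.Helper80_CharBasic
import Cfsg.Agent.Lib.Helper80_CharComplete
import Cfsg.Agent.Lib.Helper17_H27Defs
import Cfsg.Agent.Lib.Helper76_H648Defs

/-!
# S3702 market (architect helper76), package SQ: the degree of a nonprincipal irreducible character
is a positive natural number whose square is less than the group order.
-/

set_option autoImplicit false

namespace Cfsg.Agent.Lib.Helper58_H648_SQ

open Cfsg Cfsg.Agent.Lib.Helper80_CharBasic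
  Cfsg.Agent.Lib.Helper76_H648Defs
open Cfsg.Agent.Lib.Helper17_H27Defs (elt)

section grp
variable {G : Type*} [Group G] [Finite G]

/-- SQ, verbatim. -/
theorem sq (χ : IrrCharacter G) (hχ : χ ≠ oneIrr G) :
    ∃ f : ℕ, (χ : G → ℂ) 1 = f ∧ 0 < f ∧ f ^ 2 < Nat.card G := by
  classical
  have := Fintype.ofFinite (IrrCharacter G)
  obtain ⟨f, hf0, hf⟩ := irr_apply_one χ
  refine ⟨f, hf, hf0, ?_⟩
  choose d hd0 hd using fun ψ : IrrCharacter G => irr_apply_one ψ
  have hsum : ∑ ψ : IrrCharacter G, (d ψ) ^ 2 = Nat.card G := by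
    have h1 := Cfsg.Agent.Lib.Helper80_CharComplete.sum_sq_degrees (G := G)
    rw [finsum_eq_sum_of_fintype] at h1
    have h2 : ((∑ ψ : IrrCharacter G, (d ψ) ^ 2 : ℕ) : ℂ) = (Nat.card G : ℂ) := by
      rw [← h1]
      push_cast
      refine Finset.sum_congr rfl fun ψ _ => ?_
      rw [hd ψ]
    exact_mod_cast h2
  have hdχ : d χ = f := by
    have h1 := hd χ
    rw [hf] at h1
    exact_mod_cast h1.symm
  have hd1 : d (oneIrr G) = 1 := by
    have h1 : (1 : ℂ) = (d (oneIrr G) : ℂ) := hd (oneIrr G)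
    exact_mod_cast h1.symm
  have hle : ∑ ψ ∈ ({χ, oneIrr G} : Finset (IrrCharacter G)), (d ψ) ^ 2 ≤
      ∑ ψ : IrrCharacter G, (d ψ) ^ 2 :=
    Finset.sum_le_sum_of_subset (Finset.subset_univ _)
  rw [Finset.sum_pair hχ, hdχ, hd1, hsum, one_pow] at hle
  exact hle

end grp

end Cfsg.Agent.Lib.Helper58_H648_SQ
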