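import Mathlib
import Cfsg.Prelude.Def_Characters
import Cfsg.Agent.Lib.Helper80_CharBasic
import Cfsg.Agent.Lib.Helper17_H27Defs
import Cfsg.Agent.Lib.Helper76_H648Defs

/-!
# S3702 market (architect helper76), package VAL: the values of a class function at the classes
`A, B, D` (elements of `J` of weight `1, 2, 3`) from its nine integer coordinates.
-/

set_option autoImplicit false
set_option linter.unusedSectionVars false

namespace Cfsg.Agent.Lib.Helper58_H648_VAL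

open Cfsg Cfsg.Agent.Lib.Helper80_CharBasic
  Cfsg.Agent.Lib.Helper76_H648Defs
open Cfsg.Agent.Lib.Helper17_H27Defs (elt)

section grp
variable {G : Type*} [Group G] [Finite G]

omit [Finite G] in
/-- the values at `c`, `a b`, `a b c` as integer combinations of the nine coordinates -/
theorem val_aux (a b c σ u v s : G) (χ : G → ℂ) (n : Fin 9 → ℤ)
    (hn : ∀ j : Fin 9, cvec a b c σ u v s χ j = (n j : ℂ)) :
    χ c = (valA n : ℂ) ∧ χ (a * b) = (valB n : ℂ) ∧ χ (a * b * c) = (valD n : ℂ) := by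
  have h0 : s3 / 6 * (χ (c⁻¹ * s) - χ (c * s)) = (n 0 : ℂ) := hn 0
  have h1 : -χ c / 36 + χ (c * u) / 4 - s3 / 12 * (χ (c⁻¹ * s) - χ (c * s)) - χ (a * b) / 9
      - χ (a * b * c) / 9 = (n 1 : ℂ) := hn 1
  have h2 : (χ (a * σ) - χ (a⁻¹ * σ)) / 3 = (n 2 : ℂ) := hn 2
  have h3 : -χ c / 12 - χ (c * u) / 4 + s3 / 12 * (χ (c⁻¹ * s) - χ (c * s)) + χ (a⁻¹ * σ) / 3
      = (n 3 : ℂ) := hn 3
  have h4 : -χ c / 36 - χ (c * u) / 4 - (χ (c⁻¹ * s) + χ (c * s)) / 4 - χ (a * b) / 9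
      - χ (a * b * c) / 9 = (n 4 : ℂ) := hn 4
  have h5 : -χ c / 12 - χ (c * u) / 4 + s3 / 12 * (χ (c⁻¹ * s) - χ (c * s)) - χ (a * σ) / 3
      - χ (a⁻¹ * σ) / 3 = (n 5 : ℂ) := hn 5
  have h6 : χ (a * b * v) / 2 - χ (a⁻¹ * σ) / 3 - χ (a * b) / 6 = (n 6 : ℂ) := hn 6
  have h7 : -χ (a * b * v) / 2 - χ (a⁻¹ * σ) / 3 - χ (a * b) / 6 = (n 7 : ℂ) := hn 7
  have h8 : -χ c / 36 - χ (c * u) / 4 + (χ (c⁻¹ * s) + χ (c * s)) / 4 - χ (a * b) / 9
      - χ (a * b * c) / 9 = (n 8 : ℂ) := hn 8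
  refine ⟨?_, ?_, ?_⟩
  · simp only [valA]
    push_cast
    linear_combination (3 : ℂ) * h0 - 6 * h1 - 4 * h2 - 8 * h3 + 3 * h4 - 4 * h5 + 3 * h8
  · simp only [valB]
    push_cast
    linear_combination (2 : ℂ) * h2 - 2 * h3 + 2 * h5 - 3 * h6 - 3 * h7
  · simp only [valD]
    push_cast
    linear_combination (-3 : ℂ) * h0 - 3 * h1 - h2 + 4 * h3 - 3 * h4 - h5 + 3 * h6 + 3 * h7 - 3 * h8

/-- VAL, verbatim. -/
theorem val (a b c σ u v s : G) (χ : G → ℂ) (n : Fin 9 → ℤ)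
    (hn : ∀ j : Fin 9, cvec a b c σ u v s χ j = (n j : ℂ)) :
    χ c = (valA n : ℂ) ∧ χ (a * b) = (valB n : ℂ) ∧ χ (a * b * c) = (valD n : ℂ) :=
  val_aux a b c σ u v s χ n hn

end grp

end Cfsg.Agent.Lib.Helper58_H648_VAL
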