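import Mathlib
import Cfsg.Prelude.Def_Characters
import Cfsg.Prelude.Def_TwoFusion
import Cfsg.Prelude.Def_Solvable
import Cfsg.Agent.Lib.Helper80_CharBasic
import Cfsg.Agent.Lib.Helper80_CharComplete
import Cfsg.Agent.Lib.Helper17_H27Defs
import Cfsg.Agent.Lib.Helper76_H648Defs
import Cfsg.Agent.Lib.Helper57_H648_TRIV
import Cfsg.Agent.Lib.Helper58_H648_VAL
import Cfsg.Agent.Lib.Helper58_H648_SQ

/-!
# S3702 market (helper76, `h648_packages`), package GLUE, auxiliary form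

`glue_of` : the arithmetical configuration `PureCfg` from the conclusions of the packages
INT, GRAM, DEG, EQS, MULTJ, IDX (taken as hypotheses) and the landed TRIV, VAL, SQ.
-/

set_option autoImplicit false
open scoped ComplexConjugate

namespace Cfsg.Agent.Lib.Helper17_H648_GLUEaux

open Cfsg Cfsg.Agent.Lib.Helper80_CharBasic
  Cfsg.Agent.Lib.Helper76_H648Defs
open Cfsg.Agent.Lib.Helper17_H27Defs (elt)

/-- splitting one term off a `finsum` over a finite type -/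
theorem finsum_split {α : Type*} [Finite α] (a0 : α) (F : α → ℂ) :
    ∑ᶠ x, F x = F a0 + @Finset.sum {x : α // x ≠ a0} ℂ _
      (@Finset.univ _ (Fintype.ofFinite _)) (fun i => F i.1) := by
  classical
  let _ : Fintype α := Fintype.ofFinite α
  rw [finsum_eq_sum_of_fintype]
  rw [← Finset.add_sum_erase Finset.univ F (Finset.mem_univ a0)]
  congr 1
  exact Finset.sum_subtype (F := Fintype.ofFinite _) (p := fun x => x ≠ a0)
    (Finset.univ.erase a0) (by simp) F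

section grp
variable {G : Type*} [Group G] [Finite G]
variable {H J : Subgroup G} {a b c σ u v s : G}

theorem glue_of
    (hint : ∀ χ : IrrCharacter G, ∃ n : Fin 9 → ℤ, ∀ j : Fin 9,
      cvec a b c σ u v s (χ : G → ℂ) j = (n j : ℂ))
    (hgram : ∀ j k : Fin 9, ∑ᶠ χ : IrrCharacter G,
      cvec a b c σ u v s (χ : G → ℂ) j * cvec a b c σ u v s (χ : G → ℂ) k = (Gm j k : ℂ))
    (hdeg : ∀ j : Fin 9, ∑ᶠ χ : IrrCharacter G,
      cvec a b c σ u v s (χ : G → ℂ) j * (χ : G → ℂ) 1 = 0)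
    (heqs : ∀ e : Fin 7, (Nat.card G : ℂ) * ∑ᶠ χ : IrrCharacter G,
      (χ : G → ℂ) c ^ (mexp e).1 * (χ : G → ℂ) (a * b) ^ (mexp e).2.1 *
        (χ : G → ℂ) (a * b * c) ^ (mexp e).2.2 / (χ : G → ℂ) 1 = (Kc e : ℂ))
    (hmultJ : ∀ χ : IrrCharacter G, ∃ (m0 : ℕ) (n1 n2 n3 : ℤ),
      ((χ : G → ℂ) 1 + 6 * (χ : G → ℂ) c + 12 * (χ : G → ℂ) (a * b) +
        8 * (χ : G → ℂ) (a * b * c)) / 27 = m0 ∧
      -((χ : G → ℂ) c + 4 * (χ : G → ℂ) (a * b) + 4 * (χ : G → ℂ) (a * b * c)) / 9 = n1 ∧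
      -(2 * (χ : G → ℂ) c + 5 * (χ : G → ℂ) (a * b) + 2 * (χ : G → ℂ) (a * b * c)) / 9 = n2 ∧
      -((χ : G → ℂ) c + (χ : G → ℂ) (a * b) + (χ : G → ℂ) (a * b * c)) / 3 = n3)
    (hidx : ∃ t : ℕ, Nat.card G = 648 + 17496 * t) :
    ∃ (n : {χ : IrrCharacter G // χ ≠ oneIrr G} → Fin 9 → ℤ)
      (f : {χ : IrrCharacter G // χ ≠ oneIrr G} → ℤ),
      @PureCfg {χ : IrrCharacter G // χ ≠ oneIrr G} (Fintype.ofFinite _) (Nat.card G : ℤ) n f := by
  classical
  choose n hn using hint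
  choose f hf hfpos hfsq using
    (fun χ : {χ : IrrCharacter G // χ ≠ oneIrr G} => Cfsg.Agent.Lib.Helper58_H648_SQ.sq χ.1 χ.2)
  have hone : ((oneIrr G : IrrCharacter G) : G → ℂ) = fun _ : G => (1 : ℂ) := rfl
  have hval : ∀ χ : IrrCharacter G,
      (χ : G → ℂ) c = (valA (n χ) : ℂ) ∧ (χ : G → ℂ) (a * b) = (valB (n χ) : ℂ) ∧
        (χ : G → ℂ) (a * b * c) = (valD (n χ) : ℂ) := fun χ =>
    Cfsg.Agent.Lib.Helper58_H648_VAL.val a b c σ u v s (χ : G → ℂ) (n χ) (hn χ)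
  have htriv : ∀ j : Fin 9, cvec a b c σ u v s ((oneIrr G : IrrCharacter G) : G → ℂ) j =
      (r0 j : ℂ) := fun j => by
    rw [hone]; exact Cfsg.Agent.Lib.Helper57_H648_TRIV.triv a b c σ u v s j
  refine ⟨fun i => n i.1, fun i => (f i : ℤ), ?_⟩
  refine @PureCfg.mk _ (Fintype.ofFinite _) _ _ _ ?_ ?_ ?_ ?_ ?_ ?_ ?_
  · -- fpos
    intro i
    exact_mod_cast hfpos i
  · -- gram
    intro j k
    have h1 := hgram j k
    rw [finsum_split (oneIrr G)] at h1
    rw [htriv j, htriv k] at h1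
    have h2 : @Finset.sum {χ : IrrCharacter G // χ ≠ oneIrr G} ℂ _
        (@Finset.univ _ (Fintype.ofFinite _))
        (fun i => cvec a b c σ u v s (i.1 : G → ℂ) j * cvec a b c σ u v s (i.1 : G → ℂ) k) =
        ((@Finset.sum {χ : IrrCharacter G // χ ≠ oneIrr G} ℤ _
        (@Finset.univ _ (Fintype.ofFinite _)) (fun i => n i.1 j * n i.1 k) : ℤ) : ℂ) := by
      push_cast
      refine Finset.sum_congr rfl fun i _ => ?_
      rw [hn i.1 j, hn i.1 k]
    rw [h2] at h1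
    have h4 : r0 j * r0 k + @Finset.sum {χ : IrrCharacter G // χ ≠ oneIrr G} ℤ _
        (@Finset.univ _ (Fintype.ofFinite _)) (fun i => n i.1 j * n i.1 k) = Gm j k := by
      exact_mod_cast h1
    linarith
  · -- deg
    intro j
    have h1 := hdeg j
    rw [finsum_split (oneIrr G)] at h1
    rw [htriv j] at h1
    have h2 : @Finset.sum {χ : IrrCharacter G // χ ≠ oneIrr G} ℂ _
        (@Finset.univ _ (Fintype.ofFinite _))
        (fun i => cvec a b c σ u v s (i.1 : G → ℂ) j * (i.1 : G → ℂ) 1) =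
        ((@Finset.sum {χ : IrrCharacter G // χ ≠ oneIrr G} ℤ _
        (@Finset.univ _ (Fintype.ofFinite _)) (fun i => n i.1 j * (f i : ℤ)) : ℤ) : ℂ) := by
      push_cast
      refine Finset.sum_congr rfl fun i _ => ?_
      rw [hn i.1 j, hf i]
    rw [h2] at h1
    have h0 : ((oneIrr G : IrrCharacter G) : G → ℂ) 1 = 1 := rfl
    rw [h0] at h1
    have h4 : r0 j * 1 + @Finset.sum {χ : IrrCharacter G // χ ≠ oneIrr G} ℤ _
        (@Finset.univ _ (Fintype.ofFinite _)) (fun i => n i.1 j * (f i : ℤ)) = 0 := by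
      exact_mod_cast h1
    linarith
  · -- eqs
    intro e
    have h1 := heqs e
    rw [finsum_split (oneIrr G)] at h1
    have h0 : ∀ x : G, ((oneIrr G : IrrCharacter G) : G → ℂ) x = 1 := fun _ => rfl
    rw [h0, h0, h0, h0] at h1
    have h2 : @Finset.sum {χ : IrrCharacter G // χ ≠ oneIrr G} ℂ _
        (@Finset.univ _ (Fintype.ofFinite _))
        (fun i => (i.1 : G → ℂ) c ^ (mexp e).1 * (i.1 : G → ℂ) (a * b) ^ (mexp e).2.1 *
          (i.1 : G → ℂ) (a * b * c) ^ (mexp e).2.2 / (i.1 : G → ℂ) 1) =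
        ((@Finset.sum {χ : IrrCharacter G // χ ≠ oneIrr G} ℚ _
        (@Finset.univ _ (Fintype.ofFinite _))
        (fun i => ((valA (n i.1) : ℚ) ^ (mexp e).1 * (valB (n i.1) : ℚ) ^ (mexp e).2.1 *
          (valD (n i.1) : ℚ) ^ (mexp e).2.2) / ((f i : ℤ) : ℚ)) : ℚ) : ℂ) := by
      push_cast
      refine Finset.sum_congr rfl fun i _ => ?_
      rw [(hval i.1).1, (hval i.1).2.1, (hval i.1).2.2, hf i]
    rw [h2] at h1
    apply Rat.cast_injective (α := ℂ)
    push_cast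
    push_cast at h1
    rw [← h1]
    simp
  · -- m0
    intro i
    obtain ⟨m0, n1, n2, n3, hm, -, -, -⟩ := hmultJ i.1
    refine ⟨m0, ?_⟩
    rw [(hval i.1).1, (hval i.1).2.1, (hval i.1).2.2, hf i] at hm
    have h3 : (((f i : ℤ) + 6 * valA (n i.1) + 12 * valB (n i.1) + 8 * valD (n i.1) : ℤ) : ℂ) =
        ((27 * (m0 : ℤ) : ℤ) : ℂ) := by
      push_cast
      have h27 : (27 : ℂ) ≠ 0 := by norm_num
      field_simp at hm
      linear_combination hm
    exact Int.cast_injective h3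
  · -- sq
    intro i
    exact_mod_cast hfsq i
  · -- idx
    obtain ⟨t, ht⟩ := hidx
    exact ⟨t, by exact_mod_cast ht⟩

end grp

end Cfsg.Agent.Lib.Helper17_H648_GLUEaux
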