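import Mathlib
import Cfsg.Prelude.Def_Characters
import Cfsg.Agent.Lib.Helper80_CharBasic

/-!
# S3805 (a self-centralizing Sylow 3-subgroup `T ≅ 3²` with `N_G(T)/T ≅ 2²` and `C_G(t) ≤ N_G(T)` is normal):
shared definitions for helper17's package market `h9_packages`.

`Hyp G T x y i j` : the configuration after the local analysis: `T = ⟨x⟩ × ⟨y⟩` of order 9,
                    `N_G(T) = T ⟨i, j⟩ ≅ S₃ × S₃` of order 36 (`i` inverts `x` and centralizes `y`, `j` centralizes `x` and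
                    inverts `y`), and `C_G(t) ≤ N_G(T)` for all `t ∈ T ∖ 1`.
`Vals G x y f α β δ` : integer data of the character table: degrees `f`, and the values
                    `χ(x y) = δ`, `χ(x) = δ + 3 α`, `χ(y) = δ + 3 β`.
-/

set_option autoImplicit false

namespace Cfsg.Agent.Lib.Helper17_H9Defs

open Cfsg Cfsg.Agent.Lib.Helper80_CharBasic

/-- standing hypotheses (`N_G(T) ≅ S₃ × S₃`, strongly 3-embedded type) -/
structure Hyp (G : Type*) [Group G] (T : Subgroup G) (x y i j : G) : Prop where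
  card : Nat.card T = 9
  ox : orderOf x = 3
  oy : orderOf y = 3
  comm : x * y = y * x
  hne : y ≠ x
  hne' : y ≠ x⁻¹
  mem : ∀ t : G, t ∈ T ↔ (t = 1 ∨ t = x ∨ t = x⁻¹ ∨ t = y ∨ t = y⁻¹ ∨
    t = x * y ∨ t = x * y⁻¹ ∨ t = x⁻¹ * y ∨ t = x⁻¹ * y⁻¹)
  hi : i ∈ Subgroup.normalizer (T : Set G)
  hj : j ∈ Subgroup.normalizer (T : Set G)
  ix : i * x * i⁻¹ = x⁻¹
  iy : i * y * i⁻¹ = y
  jx : j * x * j⁻¹ = x
  jy : j * y * j⁻¹ = y⁻¹
  act : ∀ n ∈ Subgroup.normalizer (T : Set G),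
    (n * x * n⁻¹ = x ∨ n * x * n⁻¹ = x⁻¹) ∧ (n * y * n⁻¹ = y ∨ n * y * n⁻¹ = y⁻¹)
  cardN : Nat.card (Subgroup.normalizer (T : Set G)) = 36
  loc : ∀ t ∈ T, t ≠ 1 →
    Subgroup.centralizer ({t} : Set G) ≤ Subgroup.normalizer (T : Set G)

/-- integer data of the character table on the three classes of elements of `T ∖ 1` -/
structure Vals (G : Type*) [Group G] (x y : G) (f : IrrCharacter G → ℕ)
    (α β δ : IrrCharacter G → ℤ) : Prop where
  fpos : ∀ χ : IrrCharacter G, 0 < f χ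
  f1 : ∀ χ : IrrCharacter G, (χ : G → ℂ) 1 = (f χ : ℂ)
  vx : ∀ χ : IrrCharacter G, (χ : G → ℂ) x = (δ χ : ℂ) + 3 * (α χ : ℂ)
  vy : ∀ χ : IrrCharacter G, (χ : G → ℂ) y = (δ χ : ℂ) + 3 * (β χ : ℂ)
  vxy : ∀ χ : IrrCharacter G, (χ : G → ℂ) (x * y) = (δ χ : ℂ)

end Cfsg.Agent.Lib.Helper17_H9Defs
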