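import Mathlib
import Cfsg.Agent.Lib.Helper83_HP2Defs

set_option autoImplicit false
set_option linter.unusedSectionVars false
set_option linter.unusedVariables false

/-!
# HP2 market (helper83, row S5692), package HP2-STRICT:
the decomposition stabiliser is a proper subgroup of `Ω` (twin of Q2-STRICT, helper39).
`u := pe 0` is singular, `z := pe 1`; the Siegel element `sieg u z` maps `pf 0` to `pf 0 + pe 1`.
-/

namespace Cfsg.Agent.Lib.Helper17_HP2_STRICT

open Module Cfsg.Agent.Lib.Helper94_Symp Cfsg.Agent.Lib.Helper94_OrthSmall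
  Cfsg.Agent.Lib.Helper94_OrthSiegel Cfsg.Agent.Lib.Helper94_OrthNondeg
  Cfsg.Agent.Lib.Helper29_ODDefs Cfsg.Agent.Lib.Helper94_Q2Defs Cfsg.Agent.Lib.Helper83_HP2Defs

variable {F : Type*} [Field F] [Finite F] {t : ℕ} {S M L : Subgroup (PV F t ≃ₗ[F] PV F t)}

omit [Finite F] in
/-- `pQ` of a vector supported on one coordinate -/
theorem pQ_single (l : Fin t) (ζ : F × F) : pQ F t (Pi.single l ζ) = ζ.1 * ζ.2 := by
  classical
  rw [pQ_apply, Finset.sum_eq_single l]
  · rw [Pi.single_eq_same]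
  · intro j _ hj
    rw [Pi.single_eq_of_ne hj]
    simp
  · intro h
    exact absurd (Finset.mem_univ l) h

omit [Finite F] in
/-- `pB` against a vector supported on one coordinate -/
theorem pB_single (y : PV F t) (l : Fin t) (ζ : F × F) :
    pB F t y (Pi.single l ζ) = (y l).1 * ζ.2 + (y l).2 * ζ.1 := by
  classical
  rw [pB_apply, Finset.sum_eq_single l]
  · rw [Pi.single_eq_same]
  · intro j _ hj
    rw [Pi.single_eq_of_ne hj]
    simp
  · intro h
    exact absurd (Finset.mem_univ l) h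

/-- **HP2-STRICT** [M] (twin Q2-STRICT) u := pe 0 (singular), z := pe 1; sieg u z maps pf 0 to pf 0 + pe 1 (two nonzero coordinates). -/
theorem STRICT (hS : IsDStab (pD F t) S) (ht : 3 ≤ t)
    (hG2 : ∀ u z, pQ F t u = 0 → pB F t u z = 0 →
      sieg (pQ F t) (pB F t) u z ∈ pOm F t) :
    S ⊓ pOm F t < pOm F t := by
  classical
  let i0 : Fin t := ⟨0, by omega⟩
  let i1 : Fin t := ⟨1, by omega⟩
  have h01 : i0 ≠ i1 := by
    intro h; have := congrArg Fin.val h; simp [i0, i1] at this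
  have hQu : pQ F t (pe i0) = 0 := by
    rw [pe, pQ_single]; simp
  have hBuz : pB F t (pe i0) (pe i1) = 0 := by
    rw [pe, pe, pB_single, Pi.single_eq_of_ne h01.symm]; simp
  have hQz : pQ F t (pe i1) = 0 := by
    rw [pe, pQ_single]; simp
  have hBvu : pB F t (pf i0) (pe i0) = 1 := by
    rw [pf, pe, pB_single, Pi.single_eq_same]; simp
  have hBvz : pB F t (pf i0) (pe i1) = 0 := by
    rw [pf, pe, pB_single, Pi.single_eq_of_ne h01.symm]; simp
  have hgmem : sieg (pQ F t) (pB F t) (pe i0) (pe i1) ∈ pOm F t := hG2 _ _ hQu hBuz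
  have hgv : sieg (pQ F t) (pB F t) (pe i0) (pe i1) (pf i0) = pf i0 + pe i1 := by
    rw [sieg_apply (pQ F t) (pB F t) (pQs F t) (pQp F t) hQu hBuz (pf i0), hBvu, hBvz, hQz]
    simp
  have hvm : pf i0 ∈ pD F t i0 := by
    intro j hj
    rw [pf, Pi.single_eq_of_ne hj]
  have hc0 : (pf i0 + pe i1 : PV F t) i0 ≠ 0 := by
    rw [Pi.add_apply, pf, pe, Pi.single_eq_same, Pi.single_eq_of_ne h01, add_zero]
    intro h
    have := congrArg Prod.snd h
    simp at this
  have hc1 : (pf i0 + pe i1 : PV F t) i1 ≠ 0 := by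
    rw [Pi.add_apply, pf, pe, Pi.single_eq_same, Pi.single_eq_of_ne h01.symm, zero_add]
    intro h
    have := congrArg Prod.fst h
    simp at this
  have hnot : sieg (pQ F t) (pB F t) (pe i0) (pe i1) ∉ S := by
    intro hgS
    obtain ⟨σ, hσ⟩ := (hS _).mp hgS
    have hmem : sieg (pQ F t) (pB F t) (pe i0) (pe i1) (pf i0) ∈ pD F t (σ i0) := by
      rw [← hσ i0]
      exact ⟨pf i0, hvm, rfl⟩
    rw [hgv] at hmem
    by_cases hσ1 : σ i0 = i0
    · exact hc1 (hmem i1 (by rw [hσ1]; exact h01.symm))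
    · exact hc0 (hmem i0 (fun h => hσ1 h.symm))
  refine SetLike.lt_iff_le_and_exists.mpr ⟨inf_le_right, _, hgmem, fun h => hnot h.1⟩

end Cfsg.Agent.Lib.Helper17_HP2_STRICT
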