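import Mathlib
import Cfsg.Agent.Lib.Helper4_HTDefs

/-!
# S3371 package KEY (helper17): an invariant decomposition forces `s = 1`

Also two general lemmas on stabilizers of half-transitive groups, reused by package ODD.
-/

set_option autoImplicit false

namespace Cfsg.Agent.Lib.Helper17_HT_KEY

open Cfsg.Agent.Lib.Helper4_HTDefs

variable {q : ℕ} [Fact q.Prime] {V : Type*} [AddCommGroup V] [Module (ZMod q) V] [Finite V]
  {G : Type*} [Group G] [Finite G]

/-- If every element fixing `w + u` fixes `w` and `u`, then `stab w = stab u`. -/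
theorem stab_eq_of_add (ρ : G →* (V ≃ₗ[ZMod q] V)) (s : ℕ) (hs : HalfT ρ s) {w u : V}
    (hw : w ≠ 0) (hu : u ≠ 0) (hwu : w + u ≠ 0)
    (hsub : ∀ g : G, ρ g (w + u) = w + u → ρ g w = w ∧ ρ g u = u) : stab ρ w = stab ρ u := by
  have h1 : stab ρ (w + u) ≤ stab ρ w := fun g hg => (hsub g hg).1
  have h2 : stab ρ (w + u) ≤ stab ρ u := fun g hg => (hsub g hg).2
  have e1 : stab ρ (w + u) = stab ρ w :=
    Subgroup.eq_of_le_of_card_ge h1 (by rw [hs w hw, hs (w + u) hwu])
  have e2 : stab ρ (w + u) = stab ρ u :=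
    Subgroup.eq_of_le_of_card_ge h2 (by rw [hs u hu, hs (w + u) hwu])
  rw [← e1, e2]

/-- A stabilizer fixing every vector is trivial, so `s = 1`. -/
theorem eq_one_of_fixes_all (ρ : G →* (V ≃ₗ[ZMod q] V)) (hρ : Function.Injective ρ) (s : ℕ)
    (hs : HalfT ρ s) {w : V} (hw : w ≠ 0) (hall : ∀ g ∈ stab ρ w, ∀ v : V, ρ g v = v) : s = 1 := by
  have hbot : stab ρ w = ⊥ := by
    rw [eq_bot_iff]
    intro g hg
    rw [Subgroup.mem_bot]
    apply hρ
    rw [map_one]
    apply LinearEquiv.ext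
    intro v
    exact hall g hg v
  rw [← hs w hw, hbot, Subgroup.card_bot]

/-- The package statement **KEY**. -/
theorem key (ρ : G →* (V ≃ₗ[ZMod q] V)) (hρ : Function.Injective ρ) (s : ℕ) (hs : HalfT ρ s)
    (W₁ W₂ : Submodule (ZMod q) V) (h1 : Inv ρ W₁) (h2 : Inv ρ W₂) (hc : IsCompl W₁ W₂)
    (hn1 : W₁ ≠ ⊥) (hn2 : W₂ ≠ ⊥) : s = 1 := by
  have hdisj : ∀ x ∈ W₁, x ∈ W₂ → x = 0 := Submodule.disjoint_def.mp hc.disjoint
  -- the stabilizers of nonzero vectors of `W₁` and `W₂` coincide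
  have hstab : ∀ w ∈ W₁, ∀ u ∈ W₂, w ≠ 0 → u ≠ 0 → stab ρ w = stab ρ u := by
    intro w hw u hu hw0 hu0
    apply stab_eq_of_add ρ s hs hw0 hu0
    · intro h0
      have : w = -u := eq_neg_of_add_eq_zero_left h0
      apply hw0
      apply hdisj w hw
      rw [this]
      exact W₂.neg_mem hu
    · intro g hg
      rw [map_add] at hg
      have h3 : ρ g w - w = u - ρ g u := by
        rw [sub_eq_sub_iff_add_eq_add, hg, add_comm]
      have h4 : ρ g w - w ∈ W₁ := W₁.sub_mem (h1 g w hw) hw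
      have h5 : ρ g w - w ∈ W₂ := by
        rw [h3]; exact W₂.sub_mem hu (h2 g u hu)
      have h6 := hdisj _ h4 h5
      refine ⟨sub_eq_zero.mp h6, ?_⟩
      rw [h6] at h3
      exact (sub_eq_zero.mp h3.symm).symm
  obtain ⟨w0, hw0, hw00⟩ := Submodule.exists_mem_ne_zero_of_ne_bot hn1
  obtain ⟨u0, hu0, hu00⟩ := Submodule.exists_mem_ne_zero_of_ne_bot hn2
  apply eq_one_of_fixes_all ρ hρ s hs hw00
  intro g hg v
  have hv : v ∈ W₁ ⊔ W₂ := by rw [hc.sup_eq_top]; trivial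
  obtain ⟨y, hy, z, hz, rfl⟩ := Submodule.mem_sup.mp hv
  have hy' : ρ g y = y := by
    by_cases hy0 : y = 0
    · rw [hy0, map_zero]
    · have : stab ρ y = stab ρ w0 := by
        rw [hstab y hy u0 hu0 hy0 hu00, hstab w0 hw0 u0 hu0 hw00 hu00]
      have hg' : g ∈ stab ρ y := by rw [this]; exact hg
      exact hg'
  have hz' : ρ g z = z := by
    by_cases hz0 : z = 0
    · rw [hz0, map_zero]
    · have : stab ρ w0 = stab ρ z := hstab w0 hw0 z hz hw00 hz0
      have hg' : g ∈ stab ρ z := by rw [← this]; exact hg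
      exact hg'
  rw [map_add, hy', hz']

end Cfsg.Agent.Lib.Helper17_HT_KEY
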