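import Mathlib
import Cfsg.Agent.Lib.Helper4_HTDefs
import Cfsg.Agent.Lib.Helper17_HT_KEY

/-!
# S3371 package ODD (helper17): the imprimitive case for `p` odd gives `s = 1`
-/

set_option autoImplicit false

namespace Cfsg.Agent.Lib.Helper17_HT_ODD

open Cfsg.Agent.Lib.Helper4_HTDefs

variable {q : ℕ} [Fact q.Prime] {V : Type*} [AddCommGroup V] [Module (ZMod q) V] [Finite V]
  {G : Type*} [Group G] [Finite G]

/-- A permutation of `Fin p` of order `p` has no fixed point. -/
theorem no_fixed_of_order {p : ℕ} [Fact p.Prime] (σ : Equiv.Perm (Fin p)) (hσ : orderOf σ = p)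
    (i : Fin p) : σ i ≠ i := by
  have hp : p.Prime := Fact.out
  have hcyc : σ.IsCycle := Equiv.Perm.isCycle_of_prime_order' (by rw [hσ]; exact hp)
    (by rw [Fintype.card_fin, hσ]; have := hp.pos; omega)
  have hsupp : σ.support.card = p := by rw [← hcyc.orderOf, hσ]
  have huniv : σ.support = Finset.univ :=
    Finset.eq_univ_of_card _ (by rw [hsupp, Fintype.card_fin])
  have hi : i ∈ σ.support := by rw [huniv]; exact Finset.mem_univ i
  exact Equiv.Perm.mem_support.mp hi

/-- For `p` odd the square has no fixed point either. -/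
theorem no_fixed_sq {p : ℕ} [Fact p.Prime] (hp2 : p ≠ 2) (σ : Equiv.Perm (Fin p))
    (hσ : orderOf σ = p) (i : Fin p) : σ (σ i) ≠ i := by
  have hp : p.Prime := Fact.out
  have hcop : (orderOf σ).Coprime 2 := by
    rw [hσ]
    exact (Nat.coprime_primes hp Nat.prime_two).mpr hp2
  have h2 : orderOf (σ ^ 2) = p := by rw [hcop.orderOf_pow, hσ]
  have := no_fixed_of_order (σ ^ 2) h2 i
  rwa [pow_two, Equiv.Perm.mul_apply] at this

/-- A vector of `W k` which is a sum of three vectors from other blocks is zero. -/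
theorem eq_zero_of_indep {ι : Type*} (W : ι → Submodule (ZMod q) V) (hind : iSupIndep W) {k : ι}
    {x a b c : V} {i j l : ι} (hx : x ∈ W k) (ha : a ∈ W i) (hb : b ∈ W j) (hc : c ∈ W l)
    (hi : i ≠ k) (hj : j ≠ k) (hl : l ≠ k) (hxe : x = a + b - c) : x = 0 := by
  have hd := hind k
  have hmem : ∀ (m : ι) (y : V), m ≠ k → y ∈ W m → y ∈ ⨆ (j : ι) (_ : j ≠ k), W j := by
    intro m y hm hy
    exact Submodule.mem_iSup_of_mem m (Submodule.mem_iSup_of_mem hm hy)
  have hx2 : x ∈ ⨆ (j : ι) (_ : j ≠ k), W j := by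
    rw [hxe]
    exact Submodule.sub_mem _ (Submodule.add_mem _ (hmem i a hi ha) (hmem j b hj hb))
      (hmem l c hl hc)
  exact Submodule.disjoint_def.mp hd x hx hx2

/-- The package statement **ODD**. -/
theorem odd_case [Nontrivial V] (p : ℕ) [Fact p.Prime] (hp2 : p ≠ 2) (ρ : G →* (V ≃ₗ[ZMod q] V))
    (hρ : Function.Injective ρ) (s : ℕ) (hs : HalfT ρ s)
    (H : Subgroup G) (W : Fin p → Submodule (ZMod q) V) (himp : Imprim p ρ H W) : s = 1 := by
  obtain ⟨hidx, hsup, hind, hH, -, hσ⟩ := himp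
  have hp : p.Prime := Fact.out
  have hpair := hind.pairwiseDisjoint
  have hdisj : ∀ i j : Fin p, i ≠ j → ∀ x ∈ W i, x ∈ W j → x = 0 := by
    intro i j hij
    exact Submodule.disjoint_def.mp (hpair hij)
  -- the key claim: elements fixing `w + u` fix `w` and `u`
  have hkey : ∀ i j : Fin p, i ≠ j → ∀ w ∈ W i, ∀ u ∈ W j, w ≠ 0 → u ≠ 0 →
      ∀ g : G, ρ g (w + u) = w + u → ρ g w = w ∧ ρ g u = u := by
    intro i j hij w hw u hu hw0 hu0 g hg
    rw [map_add] at hg
    have hgH : g ∈ H := by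
      by_contra hgH
      obtain ⟨σ, hσo, hσW⟩ := hσ g hgH
      have hgw : ρ g w ∈ W (σ i) := by
        rw [← hσW i]; exact ⟨w, hw, rfl⟩
      have hgu : ρ g u ∈ W (σ j) := by
        rw [← hσW j]; exact ⟨u, hu, rfl⟩
      have hgw0 : ρ g w ≠ 0 := fun h0 => hw0 ((ρ g).map_eq_zero_iff.mp h0)
      have hgu0 : ρ g u ≠ 0 := fun h0 => hu0 ((ρ g).map_eq_zero_iff.mp h0)
      have hσij : σ j ≠ σ i := fun h0 => hij (σ.injective h0).symm
      have h1 : σ i = i ∨ σ i = j := by
        by_contra hcon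
        push Not at hcon
        apply hgw0
        apply eq_zero_of_indep W hind hgw hw hu hgu hcon.1.symm hcon.2.symm hσij
        rw [← hg]; abel
      have h2 : σ j = j ∨ σ j = i := by
        by_contra hcon
        push Not at hcon
        apply hgu0
        apply eq_zero_of_indep W hind hgu hu hw hgw hcon.1.symm hcon.2.symm hσij.symm
        rw [add_comm u w, ← hg]; abel
      have hi := no_fixed_of_order σ hσo i
      have hj := no_fixed_of_order σ hσo j
      have h3 : σ i = j := by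
        rcases h1 with h | h
        · exact absurd h hi
        · exact h
      have h4 : σ j = i := by
        rcases h2 with h | h
        · exact absurd h hj
        · exact h
      apply no_fixed_sq hp2 σ hσo i
      rw [h3, h4]
    have hgw : ρ g w ∈ W i := hH g hgH i w hw
    have hgu : ρ g u ∈ W j := hH g hgH j u hu
    have h3 : ρ g w - w = u - ρ g u := by
      rw [sub_eq_sub_iff_add_eq_add, hg, add_comm]
    have h4 : ρ g w - w ∈ W i := (W i).sub_mem hgw hw
    have h5 : ρ g w - w ∈ W j := by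
      rw [h3]; exact (W j).sub_mem hu hgu
    have h6 := hdisj i j hij _ h4 h5
    refine ⟨sub_eq_zero.mp h6, ?_⟩
    rw [h6] at h3
    exact (sub_eq_zero.mp h3.symm).symm
  have hstab : ∀ i j : Fin p, i ≠ j → ∀ w ∈ W i, ∀ u ∈ W j, w ≠ 0 → u ≠ 0 →
      stab ρ w = stab ρ u := by
    intro i j hij w hw u hu hw0 hu0
    apply Cfsg.Agent.Lib.Helper17_HT_KEY.stab_eq_of_add ρ s hs hw0 hu0
    · intro h0
      have : w = -u := eq_neg_of_add_eq_zero_left h0
      apply hw0
      apply hdisj i j hij w hw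
      rw [this]
      exact (W j).neg_mem hu
    · exact hkey i j hij w hw u hu hw0 hu0
  -- two nonzero blocks
  obtain ⟨i0, w0, hw0, hw00⟩ : ∃ i0 : Fin p, ∃ w0 ∈ W i0, w0 ≠ 0 := by
    by_contra hcon
    push Not at hcon
    obtain ⟨v, hv⟩ := exists_ne (0 : V)
    apply hv
    have hv' : v ∈ ⨆ i, W i := by rw [hsup]; trivial
    refine Submodule.iSup_induction W (motive := fun x => x = 0) hv' ?_ rfl ?_
    · intro i x hx
      exact hcon i x hx
    · intro x y hx hy
      rw [hx, hy, add_zero]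
  obtain ⟨g, hgH⟩ : ∃ g : G, g ∉ H := by
    by_contra hcon
    push Not at hcon
    have : H = ⊤ := (Subgroup.eq_top_iff' H).mpr hcon
    rw [← Subgroup.index_eq_one, hidx] at this
    exact hp.one_lt.ne' this
  obtain ⟨σ, hσo, hσW⟩ := hσ g hgH
  have hj0 : σ i0 ≠ i0 := no_fixed_of_order σ hσo i0
  have hu0 : ρ g w0 ∈ W (σ i0) := by
    rw [← hσW i0]; exact ⟨w0, hw0, rfl⟩
  have hu00 : ρ g w0 ≠ 0 := fun h0 => hw00 ((ρ g).map_eq_zero_iff.mp h0)
  -- all stabilizers of nonzero block vectors equal `stab w0`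
  have hall : ∀ k : Fin p, ∀ x ∈ W k, x ≠ 0 → stab ρ x = stab ρ w0 := by
    intro k x hx hx0
    by_cases hk : k = i0
    · subst hk
      rw [hstab k (σ k) hj0.symm x hx (ρ g w0) hu0 hx0 hu00,
        hstab k (σ k) hj0.symm w0 hw0 (ρ g w0) hu0 hw00 hu00]
    · exact (hstab i0 k (fun h => hk h.symm) w0 hw0 x hx hw00 hx0).symm
  apply Cfsg.Agent.Lib.Helper17_HT_KEY.eq_one_of_fixes_all ρ hρ s hs hw00
  intro a ha v
  have hv' : v ∈ ⨆ i, W i := by rw [hsup]; trivial
  refine Submodule.iSup_induction W (motive := fun x => ρ a x = x) hv' ?_ (map_zero _) ?_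
  · intro k x hx
    by_cases hx0 : x = 0
    · rw [hx0, map_zero]
    · have : a ∈ stab ρ x := by rw [hall k x hx hx0]; exact ha
      exact this
  · intro x y hx hy
    rw [map_add, hx, hy]

end Cfsg.Agent.Lib.Helper17_HT_ODD
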