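import Mathlib
import Cfsg.Agent.Lib.Helper17_HomoChar

/-!
# Brauer's theorem on homocyclic Sylow `2`-subgroups: the linear character (helper17)

Under the data `HD P σ t z` the group has a non-principal linear character with `P` in its kernel.
-/

set_option autoImplicit false
set_option linter.unusedSectionVars false

namespace Cfsg.Agent.Lib.Helper17_HomoMain

open Cfsg Cfsg.Agent.Lib.Helper78_LocalRing Cfsg.Agent.Lib.Helper78_CharFacts
  Cfsg.Agent.Lib.Helper16_Char Cfsg.Agent.Lib.Helper17_TIPrime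
  Cfsg.Agent.Lib.Helper17_HomoGroup Cfsg.Agent.Lib.Helper80_CharBasic
  Cfsg.Agent.Lib.Helper75_CharArith Cfsg.Agent.Lib.Helper3_CharOrtho
  Cfsg.Agent.Lib.Helper3_CharComplete Cfsg.Agent.Lib.Helper3_CharBridge
  Cfsg.Agent.Lib.Helper17_HomoChar Cfsg.Agent.Lib.Helper17_CoherenceFull

open scoped ComplexConjugate

variable {G : Type*} [Group G] [Finite G] (P : Sylow 2 G) {σ t z : G}

/-- **The linear character**: under `HD P σ t z` there is a non-principal linear character of `G`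
whose kernel contains `P`. -/
theorem exists_linear (hd : HD (P : Subgroup G) σ t z) :
    ∃ χ : IrrCharacter G, χ ≠ oneIrr G ∧ (χ : G → ℂ) 1 = 1 ∧
      ∀ w ∈ (P : Subgroup G), (χ : G → ℂ) w = 1 := by
  classical
  have hF2 : Fact (Nat.Prime 2) := ⟨Nat.prime_two⟩
  obtain ⟨M, hM⟩ := Cfsg.Agent.S0165.exists_isPModular 2 Nat.prime_two
  have hMp := isPrime_of_isPModular hM
  let _ : Fintype G := Fintype.ofFinite G
  let _ : Fintype (P : Subgroup G) := Fintype.ofFinite _
  have hB : IsPBlock M (principalBlock M G) := ⟨oneIrr G, rfl⟩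
  set BF : Finset (IrrCharacter G) :=
    Finset.univ.filter (fun χ => χ ∈ principalBlock M G) with hBF
  have hS : ∀ f : IrrCharacter G → ℂ,
      ∑ᶠ χ ∈ principalBlock M G, f χ = ∑ χ ∈ BF, f χ := by
    intro f
    have e' := finsum_mem_eq_sum_ite (fun χ => χ ∈ principalBlock M G) f
    rw [show (∑ᶠ χ ∈ principalBlock M G, f χ) = _ from e', hBF, Finset.sum_filter]
  set R : Subgroup G := (P : Subgroup G) with hRdef
  have hcomm : ∀ a b : R, a * b = b * a := fun a b => Subtype.ext (hd.comm a a.2 b b.2)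
  set n : Subgroup.normalizer (R : Set G) := ⟨σ, hd.norm⟩ with hn
  have hφcoe : ∀ w : R, ((R.normalizerMonoidHom n w : R) : G) = σ * w * σ⁻¹ := fun w => rfl
  have hne1 : ∀ w : R, w ≠ 1 → (w : G) ≠ 1 := fun w hw h => hw (Subtype.ext h)
  have hfree : ∀ w : R, w ≠ 1 → R.normalizerMonoidHom n w ≠ w := by
    intro w hw h
    have := congrArg Subtype.val h
    rw [hφcoe] at this
    exact hd.free w w.2 (hne1 w hw) this
  have hcube : ∀ w : R, R.normalizerMonoidHom n (R.normalizerMonoidHom n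
      (R.normalizerMonoidHom n w)) = w := by
    intro w
    apply Subtype.ext
    rw [hφcoe, hφcoe, hφcoe]
    exact hd.conj_conj_conj w.2
  have hconj_iff : ∀ w w' : R, IsConj (w : G) (w' : G) ↔
      (w' = w ∨ w' = R.normalizerMonoidHom n w ∨
        w' = R.normalizerMonoidHom n (R.normalizerMonoidHom n w)) := by
    intro w w'
    constructor
    · intro hc
      rcases hd.fusion w w.2 w' w'.2 hc with h | h | h
      · left; exact Subtype.ext h
      · right; left; apply Subtype.ext; rw [hφcoe]; exact h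
      · right; right; apply Subtype.ext; rw [hφcoe, hφcoe]; exact h
    · rintro (h | h | h)
      · rw [h]
      · rw [h, hφcoe]; exact isConj_iff.mpr ⟨σ, rfl⟩
      · rw [h, hφcoe, hφcoe]; exact isConj_iff.mpr ⟨σ * σ, by group⟩
  have hK : ∀ w w' : R, w ≠ 1 → w' ≠ 1 →
      ∑ χ ∈ BF, (χ : G → ℂ) w * conj ((χ : G → ℂ) w') =
        if (w' = w ∨ w' = R.normalizerMonoidHom n w ∨
          w' = R.normalizerMonoidHom n (R.normalizerMonoidHom n w)) then (Nat.card R : ℂ)
        else 0 := by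
    intro w w' hw hw'
    rw [← hS]
    by_cases hc : IsConj (w : G) (w' : G)
    · rw [if_pos ((hconj_iff w w').mp hc)]
      exact kernel_conj P hd hM w.2 (hne1 w hw) hc
    · rw [if_neg (fun h => hc ((hconj_iff w w').mpr h))]
      exact kernel_not_conj P hd hM w.2 w'.2 hc
  have hK1 : ∀ w : R, w ≠ 1 → ∑ χ ∈ BF, (χ : G → ℂ) 1 * conj ((χ : G → ℂ) w) = 0 := by
    intro w hw
    rw [← hS]
    exact kernel_one P hd hM w.2 (hne1 w hw)
  have h1S : oneIrr G ∈ BF := by
    rw [hBF, Finset.mem_filter]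
    exact ⟨Finset.mem_univ _, sameBlock_refl hMp _⟩
  have hbig : 16 ≤ Nat.card R := Nat.le_of_dvd Nat.card_pos hd.big
  obtain ⟨Δ, ε, c, x, hε, hΔ0, hnorm, hΔc, hdx, hsumd, hcongr, hval, hfib⟩ :=
    exc_structure R hcomm n BF h1S hfree hcube hK hK1 hbig
  have hεsq : (ε : ℂ) ^ 2 = 1 := by
    rcases hε with h | h <;> rw [h] <;> norm_num
  obtain ⟨ψ, ψ', hψ0, hψ'0, hψψ', hΔψ, hΔψ', hrest⟩ :=
    shape_three_supp ⟨oneIrr G, h1S⟩ Δ hΔ0 hnorm
  -- the elements `t` and `z` of `R`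
  set t' : R := ⟨t, hd.tmem⟩ with ht'
  set z' : R := ⟨z, hd.zmem⟩ with hz'
  have ht'1 : t' ≠ 1 := fun h => hd.tne (congrArg Subtype.val h)
  have hz1 : z ≠ 1 := by
    intro h
    apply hd.zsq
    rw [h, one_pow]
  have hz'1 : z' ≠ 1 := fun h => hz1 (congrArg Subtype.val h)
  -- the functions `T` and `Z`
  set T : BF → ℂ := fun i => ∑ l : {lam : IrrCharacter R // lam ≠ oneIrr R},
    if c l = i then (l.1 : R → ℂ) t' else 0 with hT
  set Z : BF → ℂ := fun i => ∑ l : {lam : IrrCharacter R // lam ≠ oneIrr R},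
    if c l = i then conj ((l.1 : R → ℂ) z') else 0 with hZ
  have hVt : ∀ i : BF, (i.1 : G → ℂ) t = (Δ i : ℂ) + (ε : ℂ) * T i := fun i => hval i t' ht'1
  have hVz : ∀ i : BF, conj ((i.1 : G → ℂ) z) = (Δ i : ℂ) + (ε : ℂ) * Z i := by
    intro i
    have h := congrArg conj (hval i z' hz'1)
    rw [map_add, map_mul, map_intCast, map_intCast, map_sum] at h
    rw [show ((z' : R) : G) = z from rfl] at h
    rw [h]
    congr 2
    refine Finset.sum_congr rfl fun l _ => ?_
    split_ifs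
    · rfl
    · exact map_zero _
  have hD0 : ∀ i, Δ i ≠ 0 → T i = 0 ∧ Z i = 0 := by
    intro i hi
    constructor
    · apply Finset.sum_eq_zero
      intro l _
      rw [if_neg]
      intro hcl
      apply hi
      rw [← hcl]; exact hΔc l
    · apply Finset.sum_eq_zero
      intro l _
      rw [if_neg]
      intro hcl
      apply hi
      rw [← hcl]; exact hΔc l
  have hsumLz : ∑ l : {lam : IrrCharacter R // lam ≠ oneIrr R}, (l.1 : R → ℂ) z' = -1 := by
    have h3 := sum_L' (fun lam : IrrCharacter R => (lam : R → ℂ) z')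
    rw [sum_irr_apply hcomm z' hz'1] at h3
    have h4 : (oneIrr R : R → ℂ) z' = 1 := rfl
    rw [h4] at h3
    rw [h3]; ring
  have hZ1 : ∑ i, Z i = -1 := by
    rw [hZ]
    simp only
    rw [Finset.sum_comm]
    have : ∀ l : {lam : IrrCharacter R // lam ≠ oneIrr R},
        ∑ i : BF, (if c l = i then conj ((l.1 : R → ℂ) z') else 0) =
          conj ((l.1 : R → ℂ) z') := by
      intro l
      rw [Finset.sum_ite_eq]
      simp
    rw [Finset.sum_congr rfl (fun l _ => this l), ← map_sum, hsumLz]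
    simp
  have hsum_sub : ∀ f : IrrCharacter G → ℂ, ∑ i : BF, f i.1 = ∑ χ ∈ BF, f χ := fun f =>
    Finset.sum_coe_sort BF f
  have hntz : ¬ IsConj (t : G) z := by
    intro h
    obtain ⟨g, hg⟩ := isConj_iff.mp h
    apply hd.zsq
    rw [← hg, conj_pow, hd.tsq]
    group
  have hF1 : ∑ i, ((Δ i : ℂ) + ε * T i) * ((Δ i : ℂ) + ε * Z i) = 0 := by
    have h1 : ∀ i : BF, ((Δ i : ℂ) + ε * T i) * ((Δ i : ℂ) + ε * Z i) =
        (i.1 : G → ℂ) t * conj ((i.1 : G → ℂ) z) := fun i => by rw [hVt, hVz]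
    rw [Finset.sum_congr rfl (fun i _ => h1 i),
      hsum_sub (fun χ => (χ : G → ℂ) t * conj ((χ : G → ℂ) z)), ← hS]
    exact kernel_not_conj P hd hM hd.tmem hd.zmem hntz
  -- the values of the linear characters at the involutions
  have hlin : ∀ (l : {lam : IrrCharacter R // lam ≠ oneIrr R}) (u v : R),
      (l.1 : R → ℂ) (u * v) = (l.1 : R → ℂ) u * (l.1 : R → ℂ) v := fun l =>
    Cfsg.Agent.Lib.Helper15_Linear.linear_mul (l.1 : R → ℂ)
      (isCharacter_of_isIrrCharacter l.1.2) (irr_apply_one_of_comm hcomm l.1)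
  have hZzero : ∀ i : BF, (¬ ∃ l, c l = i) → Z i = 0 := by
    intro i hi
    apply Finset.sum_eq_zero
    intro l _
    rw [if_neg]
    intro hcl
    exact hi ⟨l, hcl⟩
  have hT3 : ∀ i, T i ^ 2 * Z i = (3 + 2 * T i) * Z i := by
    intro i
    by_cases hi : ∃ l, c l = i
    · obtain ⟨l, rfl⟩ := hi
      have hTl : T (c l) = (l.1 : R → ℂ) t' + (l.1 : R → ℂ) (R.normalizerMonoidHom n t') +
          (l.1 : R → ℂ) (R.normalizerMonoidHom n (R.normalizerMonoidHom n t')) :=
        hfib l (fun l' => (l'.1 : R → ℂ) t')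
      have hprod : R.normalizerMonoidHom n (R.normalizerMonoidHom n t') =
          t' * R.normalizerMonoidHom n t' := by
        apply Subtype.ext
        rw [hφcoe, hφcoe, Subgroup.coe_mul, hφcoe]
        exact hd.tprod
      have ht'sq : t' * t' = 1 := by
        apply Subtype.ext
        rw [Subgroup.coe_mul, Subgroup.coe_one, ← pow_two]
        exact hd.tsq
      have ha2 : (l.1 : R → ℂ) t' * (l.1 : R → ℂ) t' = 1 := by
        rw [← hlin, ht'sq, irr_apply_one_of_comm hcomm l.1]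
      have hb2 : (l.1 : R → ℂ) (R.normalizerMonoidHom n t') *
          (l.1 : R → ℂ) (R.normalizerMonoidHom n t') = 1 := by
        rw [← hlin, ← map_mul, ht'sq, map_one, irr_apply_one_of_comm hcomm l.1]
      rw [hTl, hprod, hlin]
      set a := (l.1 : R → ℂ) t'
      set b := (l.1 : R → ℂ) (R.normalizerMonoidHom n t')
      linear_combination ((1 + b) ^ 2 * Z (c l)) * ha2 + ((2 + 2 * a) * Z (c l)) * hb2
    · rw [hZzero i hi, mul_zero, mul_zero]
  have hDX : ∀ i, Z i ≠ 0 → (charDegree (i.1 : G → ℂ) : ℤ) = x := by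
    intro i hi
    by_cases hex : ∃ l, c l = i
    · obtain ⟨l, rfl⟩ := hex
      exact hdx l
    · exact absurd (hZzero i hex) hi
  -- the involution-product class function
  have hθ : ∀ u v : G, IsPPart 2 u v → IsConj z v →
      Cfsg.Agent.Lib.Helper17_BSQ8Char.theta t u = 0 := by
    intro u v huv hzv
    unfold Cfsg.Agent.Lib.Helper17_BSQ8Char.theta
    apply Finset.sum_eq_zero
    intro x' _
    apply Finset.sum_eq_zero
    intro y' _
    rw [if_neg]
    rintro ⟨hx', hy', hxy⟩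
    obtain ⟨p, hp⟩ := isConj_iff.mp hx'
    obtain ⟨q, hq⟩ := isConj_iff.mp hy'
    have hx2 : x' ^ 2 = 1 := by rw [← hp, conj_pow, hd.tsq]; group
    have hy2 : y' ^ 2 = 1 := by rw [← hq, conj_pow, hd.tsq]; group
    exact hd.no_pairs u v huv hd.zmem hd.zsq hzv x' y' hx2 hy2 hxy
  have hR2 : ∑ i : BF, ((Δ i : ℂ) + ε * T i) ^ 2 * ((Δ i : ℂ) + ε * Z i) /
      ((charDegree (i.1 : G → ℂ) : ℤ) : ℂ) = 0 := by
    have h0 := Cfsg.Agent.Lib.Helper16_BlockOrth.blockPart_eq_zero hM hB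
      (Cfsg.Agent.Lib.Helper17_BSQ8Char.theta t) z hθ z z
      (isPPart_self P hd hd.zmem) (IsConj.refl z)
    unfold blockPart at h0
    rw [hS] at h0
    have hKne : ((Subgroup.centralizer ({t} : Set G)).index : ℂ) ≠ 0 := by
      rw [Nat.cast_ne_zero]; exact Subgroup.index_ne_zero_of_finite
    have hGne : (Nat.card G : ℂ) ≠ 0 := by
      rw [Nat.cast_ne_zero]; exact Nat.card_pos.ne'
    have h1 : ∑ χ ∈ BF, classInner (Cfsg.Agent.Lib.Helper17_BSQ8Char.theta t) (χ : G → ℂ) *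
        (χ : G → ℂ) z =
        conj (((Nat.card G : ℂ)⁻¹ * ((Subgroup.centralizer ({t} : Set G)).index : ℂ) ^ 2) *
          ∑ i : BF, ((Δ i : ℂ) + ε * T i) ^ 2 * ((Δ i : ℂ) + ε * Z i) /
            ((charDegree (i.1 : G → ℂ) : ℤ) : ℂ)) := by
      rw [Finset.mul_sum, map_sum, ← hsum_sub]
      refine Finset.sum_congr rfl fun i _ => ?_
      rw [Cfsg.Agent.Lib.Helper17_BSQ8Char.classInner_theta, ← hVt, ← hVz,
        Cfsg.Agent.Lib.Helper77_BlockBasics.apply_one_eq_charDegree]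
      simp only [map_div₀, map_mul, map_pow, map_natCast, map_intCast, map_inv₀,
        Complex.conj_conj]
      push_cast
      ring
    rw [h1] at h0
    have h2 := (map_eq_zero (starRingEnd ℂ)).mp h0
    rcases mul_eq_zero.mp h2 with h | h
    · exfalso
      exact (mul_ne_zero (inv_ne_zero hGne) (pow_ne_zero 2 hKne)) h
    · exact h
  have hmain := r2_abstract Δ ε hε (fun i => (charDegree (i.1 : G → ℂ) : ℤ)) x T Z hnorm hD0 hZ1
    hF1 hT3 hDX hR2
  -- the sum over the support of `Δ`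
  set i0 : BF := ⟨oneIrr G, h1S⟩ with hi0
  have hd0 : (charDegree ((i0 : BF).1 : G → ℂ) : ℤ) = 1 := by
    have h1 := Cfsg.Agent.Lib.Helper77_BlockBasics.apply_one_eq_charDegree (oneIrr G)
    have h2 : (oneIrr G : G → ℂ) 1 = 1 := rfl
    rw [h2] at h1
    have : (charDegree ((oneIrr G : IrrCharacter G) : G → ℂ) : ℂ) = ((1 : ℕ) : ℂ) := by
      rw [← h1]; norm_num
    have h3 : charDegree ((oneIrr G : IrrCharacter G) : G → ℂ) = 1 := by exact_mod_cast this
    show (charDegree ((oneIrr G : IrrCharacter G) : G → ℂ) : ℤ) = 1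
    rw [h3]; norm_num
  have hsupp : ∀ f : BF → ℂ, (∀ i, Δ i = 0 → f i = 0) →
      ∑ i, f i = f i0 + f ψ + f ψ' := by
    intro f hf
    have h3 : ∑ i, f i = ∑ i ∈ ({i0, ψ, ψ'} : Finset BF), f i := by
      symm
      apply Finset.sum_subset (Finset.subset_univ _)
      intro i _ hi
      simp only [Finset.mem_insert, Finset.mem_singleton, not_or] at hi
      exact hf i (hrest i hi.1 hi.2.1 hi.2.2)
    rw [h3, Finset.sum_insert (by simp [Ne.symm hψ0, Ne.symm hψ'0]), Finset.sum_pair hψψ',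
      add_assoc]
  set dψ : ℤ := (charDegree (ψ.1 : G → ℂ) : ℤ) with hdψ
  set dψ' : ℤ := (charDegree (ψ'.1 : G → ℂ) : ℤ) with hdψ'
  have hdψpos : 0 < dψ := by
    have := Cfsg.Agent.Lib.Helper77_BlockBasics.charDegree_pos ψ.1
    rw [hdψ]; exact_mod_cast this
  have hdψ'pos : 0 < dψ' := by
    have := Cfsg.Agent.Lib.Helper77_BlockBasics.charDegree_pos ψ'.1
    rw [hdψ']; exact_mod_cast this
  -- relation 1
  have hR1 : 1 + Δ ψ * dψ + Δ ψ' * dψ' = ε * x := by
    have h1 : ∑ i : BF, Δ i * (charDegree (i.1 : G → ℂ) : ℤ) =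
        Δ i0 * (charDegree (i0.1 : G → ℂ) : ℤ) + Δ ψ * dψ + Δ ψ' * dψ' := by
      have h3 : ∑ i : BF, Δ i * (charDegree (i.1 : G → ℂ) : ℤ) =
          ∑ i ∈ ({i0, ψ, ψ'} : Finset BF), Δ i * (charDegree (i.1 : G → ℂ) : ℤ) := by
        symm
        apply Finset.sum_subset (Finset.subset_univ _)
        intro i _ hi
        simp only [Finset.mem_insert, Finset.mem_singleton, not_or] at hi
        rw [hrest i hi.1 hi.2.1 hi.2.2, zero_mul]
      rw [h3, Finset.sum_insert (by simp [Ne.symm hψ0, Ne.symm hψ'0]), Finset.sum_pair hψψ',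
        add_assoc]
    rw [h1, hΔ0, hd0] at hsumd
    linarith
  -- relation 2
  have hR2' : (1 : ℂ) + (Δ ψ : ℂ) ^ 3 / (dψ : ℂ) + (Δ ψ' : ℂ) ^ 3 / (dψ' : ℂ) =
      9 * (ε : ℂ) / (x : ℂ) := by
    rw [← hmain, hsupp (fun i => (Δ i : ℂ) ^ 3 / ((charDegree (i.1 : G → ℂ) : ℤ) : ℂ))
      (fun i hi => by simp [hi]), hΔ0, hd0]
    simp only [Int.cast_one, one_pow, div_one]
    rfl
  -- the arithmetic
  set a : ℤ := Δ ψ * dψ with ha
  set b : ℤ := Δ ψ' * dψ' with hb
  have hsq1 : Δ ψ * Δ ψ = 1 := by rcases hΔψ with h | h <;> rw [h] <;> norm_num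
  have hsq2 : Δ ψ' * Δ ψ' = 1 := by rcases hΔψ' with h | h <;> rw [h] <;> norm_num
  have h16 : ((16 : ℕ) : ℤ) ∣ ((Nat.card R : ℕ) : ℤ) := by exact_mod_cast hd.big
  have hca : (16 : ℤ) ∣ a - 1 := by
    have h1 := hcongr ψ (by rcases hΔψ with h | h <;> rw [h] <;> norm_num)
    have h2 : ((Nat.card R : ℕ) : ℤ) ∣ Δ ψ - dψ := (Int.modEq_iff_dvd.mp h1)
    have h3 : (16 : ℤ) ∣ Δ ψ - dψ := dvd_trans (by exact_mod_cast h16) h2
    have h4 : a - 1 = -(Δ ψ * (Δ ψ - dψ)) := by
      rw [ha]; linear_combination hsq1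
    rw [h4]
    exact (dvd_neg).mpr (dvd_mul_of_dvd_right h3 _)
  have hcb : (16 : ℤ) ∣ b - 1 := by
    have h1 := hcongr ψ' (by rcases hΔψ' with h | h <;> rw [h] <;> norm_num)
    have h2 : ((Nat.card R : ℕ) : ℤ) ∣ Δ ψ' - dψ' := (Int.modEq_iff_dvd.mp h1)
    have h3 : (16 : ℤ) ∣ Δ ψ' - dψ' := dvd_trans (by exact_mod_cast h16) h2
    have h4 : b - 1 = -(Δ ψ' * (Δ ψ' - dψ')) := by
      rw [hb]; linear_combination hsq2
    rw [h4]
    exact (dvd_neg).mpr (dvd_mul_of_dvd_right h3 _)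
  have hane : a ≠ 0 := by
    rw [ha]
    exact mul_ne_zero (by rcases hΔψ with h | h <;> rw [h] <;> norm_num) hdψpos.ne'
  have hbne : b ≠ 0 := by
    rw [hb]
    exact mul_ne_zero (by rcases hΔψ' with h | h <;> rw [h] <;> norm_num) hdψ'pos.ne'
  have hsne : 1 + a + b ≠ 0 := by
    obtain ⟨u, hu⟩ := hca
    obtain ⟨v, hv⟩ := hcb
    omega
  have hxne : x ≠ 0 := by
    intro h
    rw [h, mul_zero] at hR1
    exact hsne hR1
  have e1 : (Δ ψ : ℂ) ^ 3 / (dψ : ℂ) = 1 / (a : ℂ) := by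
    have hdne : (dψ : ℂ) ≠ 0 := by exact_mod_cast hdψpos.ne'
    rw [ha]
    rcases hΔψ with h | h <;> rw [h] <;> push_cast <;> field_simp
  have e2 : (Δ ψ' : ℂ) ^ 3 / (dψ' : ℂ) = 1 / (b : ℂ) := by
    have hdne : (dψ' : ℂ) ≠ 0 := by exact_mod_cast hdψ'pos.ne'
    rw [hb]
    rcases hΔψ' with h | h <;> rw [h] <;> push_cast <;> field_simp
  have e3 : 9 * (ε : ℂ) / (x : ℂ) = 9 / ((1 + a + b : ℤ) : ℂ) := by
    have hxc : (x : ℂ) ≠ 0 := by exact_mod_cast hxne
    have hR1c : ((1 + a + b : ℤ) : ℂ) = (ε : ℂ) * (x : ℂ) := by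
      rw [hR1]; push_cast; ring
    rw [hR1c]
    have hεne : (ε : ℂ) ≠ 0 := by
      intro h
      rw [h] at hεsq
      norm_num at hεsq
    field_simp
    linear_combination hεsq
  have harith : (a * b + a + b) * (1 + a + b) = 9 * (a * b) := by
    rw [e1, e2, e3] at hR2'
    have hac : (a : ℂ) ≠ 0 := by exact_mod_cast hane
    have hbc : (b : ℂ) ≠ 0 := by exact_mod_cast hbne
    have hsc : ((1 + a + b : ℤ) : ℂ) ≠ 0 := by exact_mod_cast hsne
    have h5 : (((a * b + a + b) * (1 + a + b) : ℤ) : ℂ) = ((9 * (a * b) : ℤ) : ℂ) := by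
      field_simp at hR2'
      push_cast at hR2' ⊢
      linear_combination hR2'
    exact_mod_cast h5
  obtain ⟨ha1, -⟩ := arith_final a b hca hcb harith
  have hΔψ1 : Δ ψ = 1 ∧ dψ = 1 := by
    rcases Int.mul_eq_one_iff_eq_one_or_neg_one.mp ha1 with h | h
    · exact h
    · omega
  -- the character
  refine ⟨ψ.1, ?_, ?_, ?_⟩
  · intro h
    apply hψ0
    apply Subtype.ext
    exact h
  · rw [Cfsg.Agent.Lib.Helper77_BlockBasics.apply_one_eq_charDegree]
    have : (charDegree (ψ.1 : G → ℂ) : ℤ) = 1 := hΔψ1.2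
    have h3 : charDegree (ψ.1 : G → ℂ) = 1 := by exact_mod_cast this
    rw [h3]; norm_num
  · intro w hw
    by_cases hw1 : w = 1
    · rw [hw1, Cfsg.Agent.Lib.Helper77_BlockBasics.apply_one_eq_charDegree]
      have : (charDegree (ψ.1 : G → ℂ) : ℤ) = 1 := hΔψ1.2
      have h3 : charDegree (ψ.1 : G → ℂ) = 1 := by exact_mod_cast this
      rw [h3]; norm_num
    · have h1 := hval ψ ⟨w, hw⟩ (fun h => hw1 (congrArg Subtype.val h))
      have h2 : ∑ l : {lam : IrrCharacter R // lam ≠ oneIrr R},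
          (if c l = ψ then (l.1 : R → ℂ) ⟨w, hw⟩ else 0) = 0 := by
        apply Finset.sum_eq_zero
        intro l _
        rw [if_neg]
        intro hcl
        have := hΔc l
        rw [hcl, hΔψ1.1] at this
        omega
      rw [h2, mul_zero, add_zero, hΔψ1.1] at h1
      rw [show ((⟨w, hw⟩ : R) : G) = w from rfl] at h1
      rw [h1]; norm_num

end Cfsg.Agent.Lib.Helper17_HomoMain
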