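import Mathlib
import Cfsg.Prelude.Def_Characters
import Cfsg.Prelude.Def_Blocks
import Cfsg.Agent.Lib.Helper74_DegPChar
import Cfsg.Agent.Lib.Helper59_CliffordDeg
import Cfsg.Agent.Lib.Helper80_CharBasic
import Cfsg.Agent.Lib.Helper10_Isaacs1215_PA6

/-!
# S4463 (Isaacs–Passman `(b!)^2`), package A1a: a fully ramified character (helper17)

If `Q' ≠ 1` lies in every nontrivial normal subgroup of `Q` and `Q' ≤ Z(Q)`, then some
`β ∈ Irr(Q)` vanishes off `Z(Q)` and `β(1)² = |Q : Z(Q)|`.
-/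

set_option autoImplicit false
set_option linter.unusedSectionVars false
set_option linter.unusedVariables false

namespace Cfsg.Agent.Lib.Helper17_IP_A1a

open Cfsg
open Cfsg.Agent.Lib.Helper80_CharBasic Cfsg.Agent.Lib.Helper74_DegPChar
open scoped ComplexConjugate commutatorElement

universe u

theorem cd_eq {H : Type*} [Group H] {χ : H → ℂ} {n : ℕ} (h : χ 1 = n) :
    charDegree χ = n := by
  unfold charDegree
  rw [h, Complex.natCast_re, Nat.floor_natCast]

/-- **PKG-A1a** of S4463. -/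
theorem exists_fully_ramified {Q : Type u} [Group Q] [Finite Q]
    (hne : commutator Q ≠ ⊥)
    (hmin : ∀ N : Subgroup Q, N.Normal → N ≠ ⊥ → commutator Q ≤ N)
    (hcent : commutator Q ≤ Subgroup.center Q) :
    ∃ β : IrrCharacter Q, 2 ≤ charDegree (β : Q → ℂ) ∧
      (charDegree (β : Q → ℂ)) ^ 2 = (Subgroup.center Q).index ∧
      (∀ g : Q, g ∉ Subgroup.center Q → (β : Q → ℂ) g = 0) ∧
      (∀ z ∈ Subgroup.center Q, ‖(β : Q → ℂ) z‖ = (charDegree (β : Q → ℂ) : ℝ)) := by
  classical
  have : Fintype Q := Fintype.ofFinite Q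
  -- a nonlinear character
  have hex : ∃ β : IrrCharacter Q, (β : Q → ℂ) 1 ≠ 1 := by
    by_contra hcon
    push Not at hcon
    have hcomm := Cfsg.Agent.Lib.Helper59_CliffordDeg.commute_of_all_linear hcon
    apply hne
    rw [eq_bot_iff, commutator_eq_closure]
    rw [Subgroup.closure_le]
    rintro x ⟨a, b, rfl⟩
    rw [SetLike.mem_coe, Subgroup.mem_bot, commutatorElement_def, hcomm a b]
    group
  obtain ⟨β, hβ1⟩ := hex
  obtain ⟨n, hnpos, hn⟩ := irr_apply_one β
  have hn1 : n ≠ 1 := by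
    intro h1
    apply hβ1
    rw [hn, h1, Nat.cast_one]
  have hfaith : ∀ g : Q, (β : Q → ℂ) g = (β : Q → ℂ) 1 → g = 1 :=
    fun g hg => Cfsg.Agent.Lib.Helper10_Isaacs1215_PA6.PA6 hmin β hβ1 g hg
  have hvan : ∀ g : Q, g ∉ Subgroup.center Q → (β : Q → ℂ) g = 0 := by
    intro g hg
    rw [Subgroup.mem_center_iff] at hg
    push Not at hg
    obtain ⟨h, hh⟩ := hg
    have hc : ⁅h⁻¹, g⁆ ∈ Subgroup.center Q := by
      apply hcent
      rw [commutator_eq_closure]
      exact Subgroup.subset_closure ⟨h⁻¹, g, rfl⟩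
    have hcz : h⁻¹ * g * h = ⁅h⁻¹, g⁆ * g := by
      rw [commutatorElement_def]
      group
    have hc1 : ⁅h⁻¹, g⁆ ≠ 1 := by
      intro h1
      rw [h1, one_mul] at hcz
      apply hh
      calc h * g = h * (h⁻¹ * g * h) := by rw [hcz]
        _ = g * h := by group
    exact vanish_of_conj β hc hcz (fun heq => hc1 (hfaith _ heq))
  have hcard := card_mul_sq_eq β (Subgroup.center Q) le_rfl n hn hvan
  have hidx := (Subgroup.center Q).card_mul_index
  have hZpos : 0 < Nat.card (Subgroup.center Q) := Nat.card_pos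
  have hsq : n ^ 2 = (Subgroup.center Q).index := by
    have : Nat.card (Subgroup.center Q) * n ^ 2
        = Nat.card (Subgroup.center Q) * (Subgroup.center Q).index := by rw [hcard, hidx]
    exact Nat.eq_of_mul_eq_mul_left hZpos this
  refine ⟨β, ?_, ?_, hvan, ?_⟩
  · rw [cd_eq hn]; omega
  · rw [cd_eq hn]; exact hsq
  · intro z hz
    rw [cd_eq hn, central_norm β hz, hn, Complex.norm_natCast]

end Cfsg.Agent.Lib.Helper17_IP_A1a
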