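import Mathlib
import Cfsg.Prelude.Def_Characters
import Cfsg.Prelude.Def_Blocks
import Cfsg.Agent.Lib.Helper76_GalConj
import Cfsg.Agent.Lib.Helper80_CharBasic

/-!
# Isaacs–Passman `(b!)^2` (S4463): shared vocabulary (helper72)

`RB G b` : every irreducible character degree of `G` is at most `b` ("representation bound `b`").
`HasAb G n` : `G` has an abelian subgroup of index at most `n`.
-/

set_option autoImplicit false

namespace Cfsg.Agent.Lib.Helper72_IPDefs

universe u

/-- every irreducible character of `G` has degree at most `b` -/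
def RB (G : Type u) [Group G] (b : ℕ) : Prop :=
  ∀ χ : Cfsg.IrrCharacter G, Cfsg.charDegree (χ : G → ℂ) ≤ b

/-- `G` has an abelian subgroup of index at most `n` -/
def HasAb (G : Type u) [Group G] (n : ℕ) : Prop :=
  ∃ A : Subgroup G, (∀ x ∈ A, ∀ y ∈ A, x * y = y * x) ∧ A.index ≤ n

theorem RB.mono {G : Type u} [Group G] {b c : ℕ} (h : RB G b) (hbc : b ≤ c) : RB G c :=
  fun χ => (h χ).trans hbc

theorem HasAb.mono {G : Type u} [Group G] {m n : ℕ} (h : HasAb G m) (hmn : m ≤ n) : HasAb G n := by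
  obtain ⟨A, hA, hi⟩ := h
  exact ⟨A, hA, hi.trans hmn⟩

/-- the trivial character has degree one, so a representation bound is at least one -/
theorem RB.one_le {G : Type u} [Group G] {b : ℕ} (h : RB G b) : 1 ≤ b := by
  have h1 := h (Cfsg.Agent.Lib.Helper80_CharBasic.oneIrr G)
  have h2 : Cfsg.charDegree ((Cfsg.Agent.Lib.Helper80_CharBasic.oneIrr G : Cfsg.IrrCharacter G) :
      G → ℂ) = 1 := by
    unfold Cfsg.charDegree Cfsg.Agent.Lib.Helper80_CharBasic.oneIrr
    simp
  omega

/-- quotients inherit representation bounds -/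
theorem RB.quotient {G : Type u} [Group G] {b : ℕ} (h : RB G b) (K : Subgroup G) [K.Normal] :
    RB (G ⧸ K) b := by
  intro χ
  rw [← Cfsg.Agent.Lib.Helper76_GalConj.charDegree_infl K χ]
  exact h _

/-- an abelian subgroup of a subgroup gives an abelian subgroup of the group -/
theorem HasAb.of_subgroup {G : Type u} [Group G] (U : Subgroup G) {m n : ℕ}
    (hU : U.index ≤ m) (h : HasAb U n) : HasAb G (m * n) := by
  obtain ⟨A, hA, hi⟩ := h
  refine ⟨A.map U.subtype, ?_, ?_⟩
  · rintro x ⟨a, ha, rfl⟩ y ⟨c, hc, rfl⟩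
    have := hA a ha c hc
    exact congrArg Subtype.val this
  · rw [Subgroup.index_map_subtype]
    calc A.index * U.index = U.index * A.index := Nat.mul_comm _ _
      _ ≤ m * n := Nat.mul_le_mul hU hi

/-- an abelian group has an abelian subgroup of index one -/
theorem HasAb.of_comm {G : Type u} [Group G] (h : ∀ x y : G, x * y = y * x) {n : ℕ} (hn : 1 ≤ n) :
    HasAb G n :=
  ⟨⊤, fun x _ y _ => h x y, by rw [Subgroup.index_top]; exact hn⟩

/-- arithmetic for the `b - 1` step -/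
theorem arith_pred {b : ℕ} (hb : 1 ≤ b) : b ^ 2 * (Nat.factorial (b - 1)) ^ 2 = (Nat.factorial b) ^ 2 := by
  obtain ⟨c, rfl⟩ : ∃ c, b = c + 1 := ⟨b - 1, by omega⟩
  rw [Nat.add_sub_cancel, Nat.factorial_succ]
  ring

/-- arithmetic for the `b / 2` step -/
theorem arith_half {b : ℕ} (hb : 5 ≤ b) : b ^ 4 * (Nat.factorial (b / 2)) ^ 2 ≤ (Nat.factorial b) ^ 2 := by
  have key : b ^ 2 * Nat.factorial (b / 2) ≤ Nat.factorial b := by
    -- b! ≥ b (b-1) (b-2) (b-3)!  and (b-3)! ≥ (b/2)!
    obtain ⟨c, rfl⟩ : ∃ c, b = c + 5 := ⟨b - 5, by omega⟩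
    have h1 : Nat.factorial (c + 5) = (c + 5) * ((c + 4) * ((c + 3) * Nat.factorial (c + 2))) := by
      rw [Nat.factorial_succ, Nat.factorial_succ, Nat.factorial_succ]
    have h2 : Nat.factorial ((c + 5) / 2) ≤ Nat.factorial (c + 2) :=
      Nat.factorial_le (by omega)
    have h3 : (c + 5) ^ 2 ≤ (c + 5) * ((c + 4) * (c + 3)) := by nlinarith
    calc (c + 5) ^ 2 * Nat.factorial ((c + 5) / 2)
        ≤ ((c + 5) * ((c + 4) * (c + 3))) * Nat.factorial (c + 2) := Nat.mul_le_mul h3 h2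
      _ = Nat.factorial (c + 5) := by rw [h1]; ring
  calc b ^ 4 * (Nat.factorial (b / 2)) ^ 2 = (b ^ 2 * Nat.factorial (b / 2)) ^ 2 := by ring
    _ ≤ (Nat.factorial b) ^ 2 := Nat.pow_le_pow_left key 2

end Cfsg.Agent.Lib.Helper72_IPDefs
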