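import Mathlib
import Cfsg.Prelude.Def_Characters
import Cfsg.Prelude.Def_Blocks
import Cfsg.Agent.Lib.Helper72_IPDefs
import Cfsg.Agent.Lib.Helper74_GoingUp
import Cfsg.Agent.Lib.Helper80_CharBasic
import Cfsg.Agent.Lib.Helper80_CharInd
import Cfsg.Agent.Lib.Helper75_CharArith
import Cfsg.Agent.Lib.Helper75_CharProd
import Cfsg.Agent.Lib.Helper3_CharBridge
import Cfsg.Agent.Lib.Helper3_CharOrtho

/-!
# S4463 (Isaacs–Passman `(b!)^2`), package A1b: multiplying by a fully ramified character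
(helper17)
-/

set_option autoImplicit false
set_option linter.unusedSectionVars false
set_option linter.unusedVariables false

namespace Cfsg.Agent.Lib.Helper17_IP_A1b

open Cfsg Cfsg.Agent.Lib.Helper72_IPDefs
open Cfsg.Agent.Lib.Helper80_CharBasic
open scoped ComplexConjugate

universe u

theorem cd_eq {H : Type*} [Group H] {χ : H → ℂ} {n : ℕ} (h : χ 1 = n) :
    charDegree χ = n := by
  unfold charDegree
  rw [h, Complex.natCast_re, Nat.floor_natCast]

/-- **PKG-A1b** of S4463. -/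
theorem rb_pred_of_fully_ramified {G : Type u} [Group G] [Finite G] {b : ℕ} (h : RB G b)
    (Z : Subgroup G) (β : IrrCharacter G) (f : ℕ) (hf2 : 2 ≤ f) (hfZ : f ^ 2 = Z.index)
    (hvan : ∀ g : G, g ∉ Z → (β : G → ℂ) g = 0)
    (hnorm : ∀ z ∈ Z, ‖(β : G → ℂ) z‖ = (f : ℝ)) :
    RB Z (b - 1) := by
  classical
  have : Fintype G := Fintype.ofFinite G
  have : Fintype Z := Fintype.ofFinite Z
  have hb1 := h.one_le
  intro ψ
  by_contra hcon
  push Not at hcon
  obtain ⟨χ, hover⟩ := Cfsg.Agent.Lib.Helper74_GoingUp.exists_over Z ψ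
  obtain ⟨c, hcpos, hc⟩ := irr_apply_one χ
  have hcb : c ≤ b := by
    have := h χ
    rwa [cd_eq hc] at this
  obtain ⟨dψ, hdψpos, hdψ⟩ := irr_apply_one ψ
  have hdψb : b ≤ dψ := by
    rw [cd_eq hdψ] at hcon
    omega
  have hres : (fun k : Z => (χ : G → ℂ) k) = (ψ : Z → ℂ) :=
    Cfsg.Agent.Lib.Helper80_CharInd.eq_of_constituent_of_degree_le (fun k : Z => (χ : G → ℂ) k)
      (Cfsg.Agent.Lib.Helper75_CharArith.isCharacter_restrict Z
        (Cfsg.Agent.Lib.Helper3_CharBridge.isCharacter_of_isIrrCharacter χ.2)) ψ hover c dψ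
      (by simpa using hc) hdψ (hcb.trans hdψb)
  have hcd : c = dψ := by
    have h1 := congrFun hres 1
    simp only [OneMemClass.coe_one] at h1
    rw [hc, hdψ] at h1
    exact_mod_cast h1
  -- β 1 = f
  obtain ⟨dβ, hdβpos, hdβ⟩ := irr_apply_one β
  have hβf : dβ = f := by
    have h1 := hnorm 1 Z.one_mem
    rw [hdβ] at h1
    have h2 : ‖(dβ : ℂ)‖ = (dβ : ℝ) := by
      rw [Complex.norm_natCast]
    rw [h2] at h1
    exact_mod_cast h1
  -- the product
  have hchar : IsCharacter G ((χ : G → ℂ) * (β : G → ℂ)) :=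
    Cfsg.Agent.Lib.Helper75_CharProd.isCharacter_mul
      (Cfsg.Agent.Lib.Helper3_CharBridge.isCharacter_of_isIrrCharacter χ.2)
      (Cfsg.Agent.Lib.Helper3_CharBridge.isCharacter_of_isIrrCharacter β.2)
  have hββ : ∀ g : G, (β : G → ℂ) g * conj ((β : G → ℂ) g)
      = if g ∈ Z then ((f : ℂ) ^ 2) else 0 := by
    intro g
    split_ifs with hg
    · rw [Complex.mul_conj, Complex.normSq_eq_norm_sq, hnorm g hg]
      push_cast
      ring
    · rw [hvan g hg, zero_mul]
  have n2 := Cfsg.Agent.Lib.Helper3_CharOrtho.classInner_self_of_isIrrCharacter ψ.2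
  rw [← hres] at n2
  unfold classInner at n2
  have hZc : (Nat.card Z : ℂ) ≠ 0 := Cfsg.Agent.Lib.Helper3_CharOrtho.card_ne_zero_complex
  have hGc : (Nat.card G : ℂ) ≠ 0 := Cfsg.Agent.Lib.Helper3_CharOrtho.card_ne_zero_complex
  have e2 : (∑ y : Z, (χ : G → ℂ) y * conj ((χ : G → ℂ) y)) = (Nat.card Z : ℂ) := by
    field_simp at n2
    exact n2
  have hnorm1 : classInner ((χ : G → ℂ) * (β : G → ℂ)) ((χ : G → ℂ) * (β : G → ℂ)) = 1 := by
    unfold classInner
    have hterm : ∀ g : G, ((χ : G → ℂ) * (β : G → ℂ)) g * conj (((χ : G → ℂ) * (β : G → ℂ)) g)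
        = if g ∈ Z then ((f : ℂ) ^ 2) * ((χ : G → ℂ) g * conj ((χ : G → ℂ) g)) else 0 := by
      intro g
      rw [Pi.mul_apply, map_mul]
      have := hββ g
      split_ifs with hg
      · rw [if_pos hg] at this
        calc (χ : G → ℂ) g * (β : G → ℂ) g * (conj ((χ : G → ℂ) g) * conj ((β : G → ℂ) g))
            = ((β : G → ℂ) g * conj ((β : G → ℂ) g)) *
                ((χ : G → ℂ) g * conj ((χ : G → ℂ) g)) := by ring
          _ = _ := by rw [this]
      · rw [hvan g hg]; ring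
    have hsub : ∑ g ∈ Finset.univ.filter (fun x : G => x ∈ Z),
          ((f : ℂ) ^ 2) * ((χ : G → ℂ) g * conj ((χ : G → ℂ) g))
        = ∑ y : Z, ((f : ℂ) ^ 2) * ((χ : G → ℂ) y * conj ((χ : G → ℂ) y)) :=
      Finset.sum_subtype (p := fun x : G => x ∈ Z) (Finset.univ.filter (fun x : G => x ∈ Z))
        (fun x => by simp)
        (fun g : G => ((f : ℂ) ^ 2) * ((χ : G → ℂ) g * conj ((χ : G → ℂ) g)))
    rw [Finset.sum_congr rfl (fun g _ => hterm g), ← Finset.sum_filter, hsub,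
      ← Finset.mul_sum, e2]
    have h3 := Z.card_mul_index
    rw [← hfZ] at h3
    have h4 : (Nat.card G : ℂ) = (Nat.card Z : ℂ) * (f : ℂ) ^ 2 := by
      rw [← h3]; push_cast; ring
    rw [h4]
    have hf0 : (f : ℂ) ≠ 0 := by
      have : f ≠ 0 := by omega
      exact_mod_cast this
    field_simp
  have hirr := Cfsg.Agent.Lib.Helper75_CharArith.isIrrCharacter_of_classInner_self hchar hnorm1
  have hdeg := h ⟨_, hirr⟩
  have h1 : ((χ : G → ℂ) * (β : G → ℂ)) 1 = ((c * f : ℕ) : ℂ) := by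
    rw [Pi.mul_apply, hc, hdβ, hβf]
    push_cast
    ring
  rw [cd_eq h1] at hdeg
  nlinarith

end Cfsg.Agent.Lib.Helper17_IP_A1b
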