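import Mathlib
import Cfsg.Prelude.Def_Characters
import Cfsg.Prelude.Def_Blocks
import Cfsg.Agent.Lib.Helper72_IPDefs
import Cfsg.Agent.Lib.Helper76_GalConj
import Cfsg.Agent.Lib.Helper17_IP_A1a
import Cfsg.Agent.Lib.Helper17_IP_A1b

/-!
# S4463 (Isaacs–Passman `(b!)^2`), package A1: the central case (helper17)

Assembly of A1a (a fully ramified character of `G ⧸ K`) and A1b (multiplying by it).
-/

set_option autoImplicit false
set_option linter.unusedSectionVars false
set_option linter.unusedVariables false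

namespace Cfsg.Agent.Lib.Helper17_IP_A1

open Cfsg Cfsg.Agent.Lib.Helper72_IPDefs

universe u

/-- **PKG-A1** of S4463: the central case. -/
theorem central_case {G : Type u} [Group G] [Finite G] {b : ℕ} (h : RB G b)
    (K : Subgroup G) [K.Normal]
    (hne : commutator (G ⧸ K) ≠ ⊥)
    (hmin : ∀ N : Subgroup (G ⧸ K), N.Normal → N ≠ ⊥ → commutator (G ⧸ K) ≤ N)
    (hcent : commutator (G ⧸ K) ≤ Subgroup.center (G ⧸ K)) :
    ∃ H : Subgroup G, H ≠ ⊤ ∧ H.index ≤ b ^ 2 ∧ RB H (b - 1) := by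
  obtain ⟨β, hf2, hfsq, hvan, hnorm⟩ :=
    Cfsg.Agent.Lib.Helper17_IP_A1a.exists_fully_ramified hne hmin hcent
  set f := charDegree (β : G ⧸ K → ℂ) with hf
  have hfb : f ≤ b := by
    have := h (Cfsg.Agent.Lib.Helper76_GalConj.infl K β)
    rwa [Cfsg.Agent.Lib.Helper76_GalConj.charDegree_infl] at this
  have hidx : ((Subgroup.center (G ⧸ K)).comap (QuotientGroup.mk' K)).index
      = (Subgroup.center (G ⧸ K)).index :=
    Subgroup.index_comap_of_surjective _ (QuotientGroup.mk'_surjective K)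
  refine ⟨(Subgroup.center (G ⧸ K)).comap (QuotientGroup.mk' K), ?_, ?_, ?_⟩
  · intro htop
    rw [htop, Subgroup.index_top] at hidx
    rw [← hidx] at hfsq
    nlinarith
  · rw [hidx, ← hfsq]
    exact Nat.pow_le_pow_left hfb 2
  · apply Cfsg.Agent.Lib.Helper17_IP_A1b.rb_pred_of_fully_ramified h _
      (Cfsg.Agent.Lib.Helper76_GalConj.infl K β) f hf2 (by rw [hidx]; exact hfsq)
    · intro g hg
      rw [Cfsg.Agent.Lib.Helper76_GalConj.infl_apply]
      exact hvan _ (fun hc => hg (Subgroup.mem_comap.mpr hc))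
    · intro z hz
      rw [Cfsg.Agent.Lib.Helper76_GalConj.infl_apply]
      exact hnorm _ (Subgroup.mem_comap.mp hz)

end Cfsg.Agent.Lib.Helper17_IP_A1
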