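import Mathlib

/-!
# A counting lemma for "Frobenius-like" permutation actions (helper74)

If a finite group `Γ` acts on a finite nonempty set `S`, a subgroup `N₀` acts trivially, every
point is fixed by some element outside `N₀`, and every element outside `N₀` fixes at most one
point, then `Γ` is transitive on `S`; in particular `|S|` divides `[Γ : N₀]`.
-/

set_option autoImplicit false

namespace Cfsg.Agent.Lib.Helper74_TwoDegCount

open MulAction

variable {Γ S : Type*} [Group Γ] [MulAction Γ S]

theorem sum_fixedBy_eq_sum_stabilizer [Fintype Γ] [Fintype S] [DecidableEq S] :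
    ∑ g : Γ, (Finset.univ.filter (fun s : S => g • s = s)).card =
      ∑ s : S, (Finset.univ.filter (fun g : Γ => g • s = s)).card := by
  simp_rw [Finset.card_filter]
  exact Finset.sum_comm

/-- the counting lemma -/
theorem isPretransitive_of_frobenius_like [Finite Γ] [Finite S] [Nonempty S]
    (N₀ : Subgroup Γ) (htriv : ∀ n ∈ N₀, ∀ s : S, n • s = s)
    (hfix : ∀ s : S, ∃ g : Γ, g ∉ N₀ ∧ g • s = s)
    (hone : ∀ g : Γ, g ∉ N₀ → ∀ s t : S, g • s = s → g • t = t → s = t) :
    IsPretransitive Γ S := by
  classical
  have : Fintype Γ := Fintype.ofFinite Γ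
  have : Fintype S := Fintype.ofFinite S
  rw [MulAction.pretransitive_iff_subsingleton_quotient, ← Fintype.card_le_one_iff_subsingleton]
  set r := Fintype.card (orbitRel.Quotient Γ S) with hr
  have hB := sum_card_fixedBy_eq_card_orbits_mul_card_group Γ S
  have hB' : ∑ g : Γ, (Finset.univ.filter (fun s : S => g • s = s)).card = r * Fintype.card Γ := by
    rw [← hB]
    apply Finset.sum_congr rfl
    intro g _
    rw [← Fintype.card_subtype]
    rfl
  -- upper bound
  have hN0 : (Finset.univ.filter (fun g : Γ => g ∈ N₀)).card = Nat.card N₀ := by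
    rw [Nat.card_eq_fintype_card, Fintype.card_subtype]
  have hup : ∑ g : Γ, (Finset.univ.filter (fun s : S => g • s = s)).card ≤
      Nat.card N₀ * Fintype.card S + (Fintype.card Γ - Nat.card N₀) := by
    rw [← Finset.sum_filter_add_sum_filter_not Finset.univ (fun g : Γ => g ∈ N₀)]
    apply Nat.add_le_add
    · calc ∑ g ∈ Finset.univ.filter (fun g : Γ => g ∈ N₀),
            (Finset.univ.filter (fun s : S => g • s = s)).card
          ≤ ∑ g ∈ Finset.univ.filter (fun g : Γ => g ∈ N₀), Fintype.card S := by
            apply Finset.sum_le_sum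
            intro g _
            exact Finset.card_le_univ _
        _ = Nat.card N₀ * Fintype.card S := by
            rw [Finset.sum_const, hN0, smul_eq_mul]
    · calc ∑ g ∈ Finset.univ.filter (fun g : Γ => ¬ g ∈ N₀),
            (Finset.univ.filter (fun s : S => g • s = s)).card
          ≤ ∑ g ∈ Finset.univ.filter (fun g : Γ => ¬ g ∈ N₀), 1 := by
            apply Finset.sum_le_sum
            intro g hg
            rw [Finset.mem_filter] at hg
            rw [Finset.card_le_one]
            intro s hs t ht
            rw [Finset.mem_filter] at hs ht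
            exact hone g hg.2 s t hs.2 ht.2
        _ = Fintype.card Γ - Nat.card N₀ := by
            rw [Finset.sum_const, smul_eq_mul, mul_one, Finset.filter_not,
              Finset.card_sdiff_of_subset (Finset.filter_subset _ _), Finset.card_univ, hN0]
  -- lower bound
  have hlow : 2 * Nat.card N₀ * Fintype.card S ≤
      ∑ s : S, (Finset.univ.filter (fun g : Γ => g • s = s)).card := by
    have : ∀ s : S, 2 * Nat.card N₀ ≤ (Finset.univ.filter (fun g : Γ => g • s = s)).card := by
      intro s
      obtain ⟨g, hg, hgs⟩ := hfix s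
      have hle : N₀ ≤ stabilizer Γ s := fun n hn => htriv n hn s
      have hlt : N₀ < stabilizer Γ s := by
        refine lt_of_le_of_ne hle ?_
        intro h
        apply hg
        rw [h]
        exact hgs
      have hcard : (Finset.univ.filter (fun g : Γ => g • s = s)).card =
          Nat.card (stabilizer Γ s) := by
        rw [Nat.card_eq_fintype_card, Fintype.card_subtype]
        rfl
      rw [hcard]
      have hdvd : Nat.card N₀ ∣ Nat.card (stabilizer Γ s) := Subgroup.card_dvd_of_le hle
      obtain ⟨k, hk⟩ := hdvd
      have hne : Nat.card N₀ ≠ Nat.card (stabilizer Γ s) := by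
        intro h
        exact hlt.ne (Subgroup.eq_of_le_of_card_ge hle h.ge)
      have hpos : 0 < Nat.card (stabilizer Γ s) := Nat.card_pos
      rw [hk] at hne hpos ⊢
      have hk2 : 2 ≤ k := by
        rcases k with _ | _ | k
        · simp at hpos
        · simp at hne
        · omega
      calc 2 * Nat.card N₀ = Nat.card N₀ * 2 := by ring
        _ ≤ Nat.card N₀ * k := Nat.mul_le_mul_left _ hk2
    calc 2 * Nat.card N₀ * Fintype.card S = ∑ _s : S, 2 * Nat.card N₀ := by
          rw [Finset.sum_const, Finset.card_univ, smul_eq_mul, mul_comm]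
      _ ≤ _ := Finset.sum_le_sum (fun s _ => this s)
  have hpairs := sum_fixedBy_eq_sum_stabilizer (Γ := Γ) (S := S)
  rw [← hpairs, hB'] at hlow
  rw [hB'] at hup
  have hN0pos : 0 < Nat.card N₀ := Nat.card_pos
  have hN0le : Nat.card N₀ ≤ Fintype.card Γ := by
    rw [← Nat.card_eq_fintype_card]
    exact Subgroup.card_le_card_group N₀
  have hΓpos : 0 < Fintype.card Γ := Fintype.card_pos
  by_contra hcon
  push Not at hcon
  have h2 : 2 * Fintype.card Γ ≤ r * Fintype.card Γ := Nat.mul_le_mul_right _ hcon
  rw [mul_assoc] at hlow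
  generalize r * Fintype.card Γ = X at *
  generalize Nat.card N₀ * Fintype.card S = Y at *
  omega

theorem card_dvd_of_frobenius_like [Finite Γ] [Finite S] [Nonempty S]
    (N₀ : Subgroup Γ) (htriv : ∀ n ∈ N₀, ∀ s : S, n • s = s)
    (hfix : ∀ s : S, ∃ g : Γ, g ∉ N₀ ∧ g • s = s)
    (hone : ∀ g : Γ, g ∉ N₀ → ∀ s t : S, g • s = s → g • t = t → s = t) :
    Nat.card S ∣ N₀.index := by
  have := isPretransitive_of_frobenius_like N₀ htriv hfix hone
  obtain ⟨s⟩ := (inferInstance : Nonempty S)
  rw [← MulAction.index_stabilizer_of_transitive Γ s]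
  exact Subgroup.index_dvd_of_le (fun n hn => htriv n hn s)

end Cfsg.Agent.Lib.Helper74_TwoDegCount
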