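import Mathlib
import Cfsg.Agent.Lib.Helper74_TwoDegCount

/-!
# An abstract fixed-point lemma behind Isaacs 12.4 (helper74)

`Γ` acts on a set `X` and (by automorphisms) on an abelian group `A` which also acts on `X`,
compatibly: `g • (f • x) = (g • f) • (g • x)`.  Let `Λ ≤ A` be a finite `Γ`-invariant subgroup,
`N₀ ⊴ Γ` acting trivially on `X` and `Λ`, of index coprime to `|Λ|`, such that every `g ∉ N₀`
has no nontrivial fixed point on `Λ`.  If every point of the `Λ`-orbit of `x₀` is fixed by some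
`g ∉ N₀`, then `Λ` fixes `x₀`.
-/

set_option autoImplicit false

namespace Cfsg.Agent.Lib.Helper74_TwoDegAct

open MulAction

variable {Γ A X : Type*} [Group Γ] [CommGroup A] [MulAction Γ X] [MulAction A X]
  [MulDistribMulAction Γ A]

/-- the norm argument: a `g` fixing `y` and `h • y` forces `h • y = y` -/
theorem fixed_of_both_fixed [Finite Γ]
    (hcompat : ∀ (g : Γ) (f : A) (x : X), g • (f • x) = (g • f) • (g • x))
    (Λ : Subgroup A) [Finite Λ] (hΛ : ∀ g : Γ, ∀ f ∈ Λ, g • f ∈ Λ)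
    (N₀ : Subgroup Γ) [N₀.Normal] (hN₀Λ : ∀ n ∈ N₀, ∀ f ∈ Λ, n • f = f)
    (hcop : (Nat.card Λ).Coprime N₀.index)
    (g : Γ) (hfpf : ∀ f ∈ Λ, g • f = f → f = 1)
    (y : X) (h : A) (hh : h ∈ Λ) (hy : g • y = y) (hhy : g • (h • y) = h • y) : h • y = y := by
  classical
  set Λy : Subgroup A := Λ ⊓ stabilizer A y with hΛy
  have hinv : ∀ f ∈ Λy, g • f ∈ Λy := by
    intro f hf
    rw [hΛy, Subgroup.mem_inf, mem_stabilizer_iff] at hf ⊢
    refine ⟨hΛ g f hf.1, ?_⟩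
    have := hcompat g f y
    rw [hf.2, hy] at this
    exact this.symm
  have hu : h⁻¹ * (g • h) ∈ Λy := by
    rw [hΛy, Subgroup.mem_inf, mem_stabilizer_iff]
    refine ⟨Λ.mul_mem (Λ.inv_mem hh) (hΛ g h hh), ?_⟩
    have := hcompat g h y
    rw [hy, hhy] at this
    rw [mul_smul, ← this, ← mul_smul, inv_mul_cancel, one_smul]
  set n := orderOf (QuotientGroup.mk g : Γ ⧸ N₀) with hn
  have hgn : g ^ n ∈ N₀ := by
    have : (QuotientGroup.mk g : Γ ⧸ N₀) ^ n = 1 := pow_orderOf_eq_one _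
    rw [← QuotientGroup.mk_pow, QuotientGroup.eq_one_iff] at this
    exact this
  have hpow : ∀ i : ℕ, ∃ v ∈ Λy, g ^ i • h = h * v := by
    intro i
    induction i with
    | zero => exact ⟨1, Λy.one_mem, by simp⟩
    | succ i ih =>
      obtain ⟨v, hv, hvi⟩ := ih
      refine ⟨(h⁻¹ * (g • h)) * (g • v), Λy.mul_mem hu (hinv v hv), ?_⟩
      rw [pow_succ', mul_smul, hvi, smul_mul']
      group
  set c : A := ∏ i ∈ Finset.range n, g ^ i • h with hc
  have hcmem : c ∈ Λ := by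
    apply Subgroup.prod_mem
    intro i _
    obtain ⟨v, hv, hvi⟩ := hpow i
    rw [hvi]
    exact Λ.mul_mem hh hv.1
  have hcfix : g • c = c := by
    rw [hc, Finset.smul_prod']
    have h1 : ∀ i ∈ Finset.range n, g • g ^ i • h = g ^ (i + 1) • h := by
      intro i _
      rw [pow_succ', mul_smul]
    rw [Finset.prod_congr rfl h1]
    have h2 := Finset.prod_range_succ' (fun i => g ^ i • h) n
    have h3 := Finset.prod_range_succ (fun i => g ^ i • h) n
    rw [h2] at h3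
    simp only [pow_zero, one_smul] at h3
    rw [hN₀Λ (g ^ n) hgn h hh] at h3
    exact mul_right_cancel h3
  have hc1 : c = 1 := hfpf c hcmem hcfix
  have hcoset : ∃ v ∈ Λy, c = h ^ n * v := by
    choose! v hv hvi using hpow
    refine ⟨∏ i ∈ Finset.range n, v i, Subgroup.prod_mem _ (fun i _ => hv i), ?_⟩
    rw [hc, Finset.prod_congr rfl (fun i _ => hvi i), Finset.prod_mul_distrib, Finset.prod_const,
      Finset.card_range]
  obtain ⟨v, hv, hcv⟩ := hcoset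
  have hhn : h ^ n ∈ Λy := by
    have : h ^ n = v⁻¹ := by
      rw [hc1] at hcv
      exact eq_inv_of_mul_eq_one_left hcv.symm
    rw [this]
    exact Λy.inv_mem hv
  have hcop' : n.Coprime (orderOf h) := by
    have h1 : n ∣ N₀.index := by
      rw [hn, Subgroup.index_eq_card]
      exact orderOf_dvd_natCard _
    have h2 : orderOf h ∣ Nat.card Λ := by
      have := orderOf_dvd_natCard (⟨h, hh⟩ : Λ)
      rwa [← Subgroup.orderOf_coe] at this
    exact (hcop.symm.coprime_dvd_left h1).coprime_dvd_right h2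
  obtain ⟨m, hm⟩ := exists_pow_eq_self_of_coprime hcop'
  have hmem : h ∈ Λy := by
    rw [← hm]
    exact Λy.pow_mem hhn m
  rw [hΛy, Subgroup.mem_inf, mem_stabilizer_iff] at hmem
  exact hmem.2

/-- the subgroup of `Γ` preserving the `Λ`-orbit of `x₀` -/
def orbitStab (hcompat : ∀ (g : Γ) (f : A) (x : X), g • (f • x) = (g • f) • (g • x))
    (Λ : Subgroup A) (hΛ : ∀ g : Γ, ∀ f ∈ Λ, g • f ∈ Λ) (x₀ : X) : Subgroup Γ where
  carrier := {g | g • x₀ ∈ orbit Λ x₀}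
  one_mem' := by
    show (1 : Γ) • x₀ ∈ orbit Λ x₀
    rw [one_smul]
    exact mem_orbit_self x₀
  mul_mem' := by
    rintro a b ⟨f, hf⟩ ⟨f', hf'⟩
    show (a * b) • x₀ ∈ orbit Λ x₀
    refine ⟨⟨(a • (f' : A)) * f, Λ.mul_mem (hΛ a _ f'.2) f.2⟩, ?_⟩
    show ((a • (f' : A)) * (f : A)) • x₀ = (a * b) • x₀
    have h1 : (f : A) • x₀ = a • x₀ := hf
    have h2 : (f' : A) • x₀ = b • x₀ := hf'
    rw [mul_smul, mul_smul, h1, ← h2, hcompat]
  inv_mem' := by
    rintro a ⟨f, hf⟩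
    show a⁻¹ • x₀ ∈ orbit Λ x₀
    refine ⟨⟨(a⁻¹ • (f : A))⁻¹, Λ.inv_mem (hΛ _ _ f.2)⟩, ?_⟩
    show (a⁻¹ • (f : A))⁻¹ • x₀ = a⁻¹ • x₀
    have h1 : (f : A) • x₀ = a • x₀ := hf
    have h2 : a⁻¹ • ((f : A) • x₀) = x₀ := by rw [h1, inv_smul_smul]
    rw [hcompat] at h2
    rw [inv_smul_eq_iff]
    exact h2.symm

theorem smul_mem_orbit_of_mem_orbitStab
    (hcompat : ∀ (g : Γ) (f : A) (x : X), g • (f • x) = (g • f) • (g • x))
    (Λ : Subgroup A) (hΛ : ∀ g : Γ, ∀ f ∈ Λ, g • f ∈ Λ) (x₀ : X) {g : Γ}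
    (hg : g ∈ orbitStab hcompat Λ hΛ x₀) {x : X} (hx : x ∈ orbit Λ x₀) :
    g • x ∈ orbit Λ x₀ := by
  obtain ⟨f, rfl⟩ := hx
  obtain ⟨f', hf'⟩ := hg
  refine ⟨⟨(g • (f : A)) * f', Λ.mul_mem (hΛ g _ f.2) f'.2⟩, ?_⟩
  show ((g • (f : A)) * (f' : A)) • x₀ = g • ((f : A) • x₀)
  have h1 : (f' : A) • x₀ = g • x₀ := hf'
  rw [mul_smul, h1, hcompat]

/-- the main abstract lemma -/
theorem fixed_of_frobenius_like [Finite Γ]
    (hcompat : ∀ (g : Γ) (f : A) (x : X), g • (f • x) = (g • f) • (g • x))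
    (Λ : Subgroup A) [Finite Λ] (hΛ : ∀ g : Γ, ∀ f ∈ Λ, g • f ∈ Λ)
    (N₀ : Subgroup Γ) [N₀.Normal] (hN₀X : ∀ n ∈ N₀, ∀ x : X, n • x = x)
    (hN₀Λ : ∀ n ∈ N₀, ∀ f ∈ Λ, n • f = f)
    (hfpf : ∀ g : Γ, g ∉ N₀ → ∀ f ∈ Λ, g • f = f → f = 1)
    (hcop : (Nat.card Λ).Coprime N₀.index)
    (x₀ : X) (hfix : ∀ f ∈ Λ, ∃ g : Γ, g ∉ N₀ ∧ g • (f • x₀) = f • x₀) :
    ∀ f ∈ Λ, f • x₀ = x₀ := by
  classical
  set T : Subgroup Γ := orbitStab hcompat Λ hΛ x₀ with hT
  let sub : SubMulAction T X :=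
    { carrier := orbit Λ x₀
      smul_mem' := fun t x hx => smul_mem_orbit_of_mem_orbitStab hcompat Λ hΛ x₀ t.2 hx }
  have hfin : Finite sub := by
    show Finite (orbit Λ x₀)
    exact (Set.finite_range (fun m : Λ => m • x₀)).to_subtype
  have hne : Nonempty sub := ⟨⟨x₀, mem_orbit_self x₀⟩⟩
  have hdvd1 : Nat.card sub ∣ (N₀.subgroupOf T).index := by
    apply Helper74_TwoDegCount.card_dvd_of_frobenius_like (N₀.subgroupOf T)
    · intro n hn s
      apply Subtype.ext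
      exact hN₀X (n : Γ) (Subgroup.mem_subgroupOf.mp hn) s.1
    · rintro ⟨s, f, rfl⟩
      obtain ⟨g, hg, hgs⟩ := hfix f f.2
      have hgT : g ∈ T := by
        show g • x₀ ∈ orbit Λ x₀
        refine ⟨⟨(g • (f : A))⁻¹ * f, Λ.mul_mem (Λ.inv_mem (hΛ g _ f.2)) f.2⟩, ?_⟩
        show ((g • (f : A))⁻¹ * (f : A)) • x₀ = g • x₀
        rw [hcompat] at hgs
        rw [mul_smul, ← hgs, ← mul_smul, inv_mul_cancel, one_smul]
      refine ⟨⟨g, hgT⟩, ?_, ?_⟩
      · intro h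
        exact hg (Subgroup.mem_subgroupOf.mp h)
      · apply Subtype.ext
        exact hgs
    · rintro ⟨g, hgT⟩ hg ⟨s, f, rfl⟩ ⟨t, f', rfl⟩ hs ht
      apply Subtype.ext
      have hg' : g ∉ N₀ := fun h => hg (Subgroup.mem_subgroupOf.mpr h)
      have hs' : g • ((f : A) • x₀) = (f : A) • x₀ := congrArg Subtype.val hs
      have ht' : g • ((f' : A) • x₀) = (f' : A) • x₀ := congrArg Subtype.val ht
      show (f : A) • x₀ = (f' : A) • x₀
      have key := fixed_of_both_fixed hcompat Λ hΛ N₀ hN₀Λ hcop g (hfpf g hg')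
        ((f : A) • x₀) ((f' : A) * (f : A)⁻¹) (Λ.mul_mem f'.2 (Λ.inv_mem f.2)) hs'
        (by rw [← mul_smul, inv_mul_cancel_right]; exact ht')
      rw [← mul_smul, inv_mul_cancel_right] at key
      exact key.symm
  have hdvd2 : Nat.card sub ∣ N₀.index :=
    hdvd1.trans (Subgroup.relIndex_dvd_index_of_normal N₀ T)
  have hdvd3 : Nat.card sub ∣ Nat.card Λ := by
    have h1 : Nat.card sub = (orbit Λ x₀).ncard := Nat.card_coe_set_eq (orbit Λ x₀)
    rw [h1, ← index_stabilizer]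
    exact Subgroup.index_dvd_card _
  have hone : Nat.card sub = 1 := Nat.eq_one_of_dvd_coprimes hcop hdvd3 hdvd2
  have hss : Subsingleton sub := (Nat.card_eq_one_iff_unique.mp hone).1
  intro f hf
  have := hss.elim ⟨f • x₀, ⟨⟨f, hf⟩, rfl⟩⟩ ⟨x₀, mem_orbit_self x₀⟩
  exact congrArg Subtype.val this

end Cfsg.Agent.Lib.Helper74_TwoDegAct
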