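import Mathlib
import Cfsg.Prelude.Def_Characters
import Cfsg.Agent.Lib.Helper74_LinAct
import Cfsg.Agent.Lib.Helper74_PQuot
import Cfsg.Agent.Lib.Helper74_GoingUp
import Cfsg.Agent.Lib.Helper74_TwoDegAct
import Cfsg.Agent.Lib.Helper75_Clifford
import Cfsg.Agent.Lib.Helper75_IndChar
import Cfsg.Agent.Lib.Helper75_CharArith
import Cfsg.Agent.Lib.Helper80_CharInd
import Cfsg.Agent.Lib.Helper80_CharBasic
import Cfsg.Agent.Lib.Helper59_CliffordDeg
import Cfsg.Agent.Lib.Helper3_CharBridge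
import Cfsg.Agent.Lib.Helper3_CharOrtho
import Cfsg.Agent.Lib.Helper3_CharComplete
import Cfsg.Agent.S0887
import Cfsg.Agent.S0857

/-!
# Isaacs 12.4 in the form needed for groups with two character degrees (helper74)

`K ≤ N` normal in `G`, `N/K` abelian, `[N:K]` coprime to `[G:N]`, every `g ∉ N` acts without
fixed points on `N/K`, and every irreducible character of `G` has degree `1` or `[G:N]`.
Then `N` is abelian (all its irreducible characters are linear).
-/

set_option autoImplicit false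

namespace Cfsg.Agent.Lib.Helper74_TwoDegC

open Cfsg
open Cfsg.Agent.Lib.Helper74_LinAct Cfsg.Agent.Lib.Helper74_PQuot Cfsg.Agent.Lib.Helper74_GoingUp
open scoped ComplexConjugate

universe u

variable {G : Type u} [Group G]

section Hom

variable (N : Subgroup G) [hN : N.Normal]

/-- conjugation action of `G` on the linear characters of a normal subgroup -/
def cjHom (g : G) (f : N →* ℂˣ) : N →* ℂˣ :=
  f.comp ((MulAut.conjNormal g⁻¹ : MulAut N) : N ≃* N).toMonoidHom

theorem cjHom_apply (g : G) (f : N →* ℂˣ) (n : N) :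
    cjHom N g f n = f ((MulAut.conjNormal g⁻¹ : MulAut N) n) := rfl

/-- the conjugation action on linear characters as a `MulDistribMulAction` -/
@[reducible] def cjHomAction : MulDistribMulAction G (N →* ℂˣ) where
  smul g f := cjHom N g f
  one_smul f := by
    ext n
    show ((cjHom N 1 f n : ℂˣ) : ℂ) = f n
    rw [cjHom_apply, inv_one, map_one, MulAut.one_apply]
  mul_smul a b f := by
    ext n
    show ((cjHom N (a * b) f n : ℂˣ) : ℂ) = cjHom N a (cjHom N b f) n
    rw [cjHom_apply, cjHom_apply, cjHom_apply, mul_inv_rev, map_mul, MulAut.mul_apply]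
  smul_mul g f f' := by
    ext n
    show ((cjHom N g (f * f') n : ℂˣ) : ℂ) = (cjHom N g f * cjHom N g f') n
    rw [MonoidHom.mul_apply, cjHom_apply, cjHom_apply, cjHom_apply, MonoidHom.mul_apply]
  smul_one g := by
    ext n
    show ((cjHom N g 1 n : ℂˣ) : ℂ) = (1 : N →* ℂˣ) n
    rw [cjHom_apply, MonoidHom.one_apply, MonoidHom.one_apply]

theorem conjNormal_inv_eq (g : G) (n : N) :
    (MulAut.conjNormal g⁻¹ : MulAut N) n = ⟨g⁻¹ * n * g⁻¹⁻¹, hN.conj_mem n n.2 g⁻¹⟩ := by
  apply Subtype.ext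
  rw [MulAut.conjNormal_apply]

/-- compatibility of the two actions on `Irr(N)` -/
theorem cjIrr_twist [Finite N] (g : G) (f : N →* ℂˣ) (ψ : IrrCharacter N) :
    cjIrr N g (twist f ψ) = twist (cjHom N g f) (cjIrr N g ψ) := by
  apply Subtype.ext
  funext n
  rw [cjIrr_apply, twist_apply, twist_apply, cjIrr_apply, cjHom_apply, conjNormal_inv_eq]

theorem cjIrr_of_mem [Finite N] {g : G} (hg : g ∈ N) (ψ : IrrCharacter N) :
    cjIrr N g ψ = ψ := by
  apply Subtype.ext
  funext n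
  rw [cjIrr_apply]
  have h := Helper80_CharBasic.irr_conj ψ n (⟨g, hg⟩ : N)⁻¹
  rw [← h]
  refine congrArg _ (Subtype.ext ?_)
  simp

theorem cjHom_of_mem {g : G} (hg : g ∈ N) (f : N →* ℂˣ) : cjHom N g f = f := by
  ext n
  rw [cjHom_apply]
  have h1 : (MulAut.conjNormal g⁻¹ : MulAut N) n = (⟨g, hg⟩ : N)⁻¹ * n * (⟨g, hg⟩ : N) := by
    apply Subtype.ext
    rw [MulAut.conjNormal_apply]
    simp
  rw [h1, map_mul, map_mul, map_inv, mul_comm, mul_inv_cancel_left]

theorem finite_hom [Finite N] : Finite (N →* ℂˣ) :=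
  Finite.of_injective lin lin_injective

end Hom

section Lam

variable (K N : Subgroup G) [hK : K.Normal] [hN : N.Normal]

/-- linear characters of `N` trivial on `K` -/
def Lam : Subgroup (N →* ℂˣ) where
  carrier := {f | ∀ x : N, (x : G) ∈ K → f x = 1}
  one_mem' := fun x _ => rfl
  mul_mem' := by
    intro a b ha hb x hx
    rw [MonoidHom.mul_apply, ha x hx, hb x hx, one_mul]
  inv_mem' := by
    intro a ha x hx
    rw [MonoidHom.inv_apply, ha x hx, inv_one]

theorem mem_Lam {f : N →* ℂˣ} : f ∈ Lam K N ↔ ∀ x : N, (x : G) ∈ K → f x = 1 := Iff.rfl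

theorem cjHom_mem_Lam (g : G) {f : N →* ℂˣ} (hf : f ∈ Lam K N) : cjHom N g f ∈ Lam K N := by
  intro x hx
  rw [cjHom_apply]
  apply hf
  rw [MulAut.conjNormal_apply]
  exact hK.conj_mem _ hx _

theorem pow_index_eq_one {f : N →* ℂˣ} (hf : f ∈ Lam K N) : f ^ (K.relIndex N) = 1 := by
  ext x
  rw [MonoidHom.pow_apply, ← map_pow, MonoidHom.one_apply]
  have h1 : x ^ (K.subgroupOf N).index ∈ K.subgroupOf N := Subgroup.pow_index_mem _ x
  have h2 := hf (x ^ (K.subgroupOf N).index) (Subgroup.mem_subgroupOf.mp h1)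
  rw [show K.relIndex N = (K.subgroupOf N).index from rfl, h2]

theorem card_Lam_coprime [Finite N] {m : ℕ} (hcop : (K.relIndex N).Coprime m) :
    (Nat.card (Lam K N)).Coprime m := by
  have := finite_hom N
  apply Nat.coprime_of_dvd
  intro r hr hrΛ hrm
  have : Fact r.Prime := ⟨hr⟩
  obtain ⟨f, hf⟩ := exists_prime_orderOf_dvd_card' r hrΛ
  have h1 : (f : N →* ℂˣ) ^ (K.relIndex N) = 1 := pow_index_eq_one K N f.2
  have h2 : orderOf (f : N →* ℂˣ) = r := by rw [Subgroup.orderOf_coe]; exact hf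
  have h3 : r ∣ K.relIndex N := by
    rw [← h2]
    exact orderOf_dvd_of_pow_eq_one h1
  have h4 : r ∣ Nat.gcd (K.relIndex N) m := Nat.dvd_gcd h3 hrm
  rw [hcop] at h4
  exact hr.one_lt.ne' (Nat.dvd_one.mp h4)

theorem quotient_comm (hab : ∀ x ∈ N, ∀ y ∈ N, x * y * x⁻¹ * y⁻¹ ∈ K) :
    ∀ a b : N ⧸ K.subgroupOf N, a * b = b * a := by
  intro a b
  induction a using QuotientGroup.induction_on with | _ a => ?_
  induction b using QuotientGroup.induction_on with | _ b => ?_
  rw [← QuotientGroup.mk_mul, ← QuotientGroup.mk_mul, QuotientGroup.eq]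
  rw [Subgroup.mem_subgroupOf]
  have := hab ((b⁻¹ : N) : G) (b⁻¹ : N).2 ((a⁻¹ : N) : G) (a⁻¹ : N).2
  convert this using 1
  simp [mul_assoc]

/-- the commutator map `x ↦ x⁻¹ x^g` modulo `K` -/
noncomputable def commHom (hab : ∀ x ∈ N, ∀ y ∈ N, x * y * x⁻¹ * y⁻¹ ∈ K) (g : G) :
    N →* N ⧸ K.subgroupOf N :=
  MonoidHom.mk' (fun x => QuotientGroup.mk (x⁻¹ * (MulAut.conjNormal g⁻¹ : MulAut N) x)) (by
    intro x y
    have hcomm : ∀ a b : N ⧸ K.subgroupOf N, a * b = b * a := by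
      intro a b
      induction a using QuotientGroup.induction_on with | _ a => ?_
      induction b using QuotientGroup.induction_on with | _ b => ?_
      rw [← QuotientGroup.mk_mul, ← QuotientGroup.mk_mul, QuotientGroup.eq]
      rw [Subgroup.mem_subgroupOf]
      have := hab ((b⁻¹ : N) : G) (b⁻¹ : N).2 ((a⁻¹ : N) : G) (a⁻¹ : N).2
      convert this using 1
      simp [mul_assoc]
    show (QuotientGroup.mk ((x * y)⁻¹ * (MulAut.conjNormal g⁻¹ : MulAut N) (x * y)) :
        N ⧸ K.subgroupOf N) =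
      QuotientGroup.mk (x⁻¹ * (MulAut.conjNormal g⁻¹ : MulAut N) x) *
        QuotientGroup.mk (y⁻¹ * (MulAut.conjNormal g⁻¹ : MulAut N) y)
    rw [map_mul, mul_inv_rev]
    simp only [QuotientGroup.mk_mul]
    generalize (QuotientGroup.mk x⁻¹ : N ⧸ K.subgroupOf N) = a
    generalize (QuotientGroup.mk y⁻¹ : N ⧸ K.subgroupOf N) = b
    generalize (QuotientGroup.mk ((MulAut.conjNormal g⁻¹ : MulAut N) x) :
      N ⧸ K.subgroupOf N) = c
    generalize (QuotientGroup.mk ((MulAut.conjNormal g⁻¹ : MulAut N) y) :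
      N ⧸ K.subgroupOf N) = d
    calc b * a * (c * d) = b * (a * c) * d := by group
      _ = (a * c) * b * d := by rw [hcomm b (a * c)]
      _ = a * c * (b * d) := by group)

theorem commHom_apply (hab : ∀ x ∈ N, ∀ y ∈ N, x * y * x⁻¹ * y⁻¹ ∈ K) (g : G) (x : N) :
    commHom K N hab g x =
      QuotientGroup.mk (x⁻¹ * (MulAut.conjNormal g⁻¹ : MulAut N) x) := rfl

theorem commHom_surjective [Finite N] (hab : ∀ x ∈ N, ∀ y ∈ N, x * y * x⁻¹ * y⁻¹ ∈ K)
    (g : G) (hfpf : ∀ x ∈ N, x⁻¹ * (g⁻¹ * x * g) ∈ K → x ∈ K) :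
    Function.Surjective (commHom K N hab g) := by
  have hker : (commHom K N hab g).ker = K.subgroupOf N := by
    ext x
    rw [MonoidHom.mem_ker, commHom_apply, QuotientGroup.eq_one_iff, Subgroup.mem_subgroupOf,
      Subgroup.mem_subgroupOf]
    have h1 : ((x⁻¹ * (MulAut.conjNormal g⁻¹ : MulAut N) x : N) : G) =
        (x : G)⁻¹ * (g⁻¹ * (x : G) * g) := by
      rw [Subgroup.coe_mul, MulAut.conjNormal_apply, inv_inv]
      rfl
    rw [h1]
    constructor
    · exact hfpf x x.2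
    · intro hx
      refine K.mul_mem (K.inv_mem hx) ?_
      have := hK.conj_mem _ hx g⁻¹
      rwa [inv_inv] at this
  rw [← MonoidHom.range_eq_top]
  apply Subgroup.eq_top_of_card_eq
  have h2 := Nat.card_congr (QuotientGroup.quotientKerEquivRange (commHom K N hab g)).toEquiv
  rw [← h2, hker]

/-- a `g`-fixed linear character trivial on `K` is trivial when `g` acts freely on `N/K` -/
theorem eq_one_of_cjHom_eq [Finite N] (hab : ∀ x ∈ N, ∀ y ∈ N, x * y * x⁻¹ * y⁻¹ ∈ K)
    (g : G) (hfpf : ∀ x ∈ N, x⁻¹ * (g⁻¹ * x * g) ∈ K → x ∈ K)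
    {f : N →* ℂˣ} (hf : f ∈ Lam K N) (hfix : cjHom N g f = f) : f = 1 := by
  ext y
  obtain ⟨x, hx⟩ := commHom_surjective K N hab g hfpf (QuotientGroup.mk y)
  rw [commHom_apply, QuotientGroup.eq] at hx
  have h1 := hf _ (Subgroup.mem_subgroupOf.mp hx)
  rw [map_mul, map_inv, map_mul, map_inv] at h1
  have h2 : f ((MulAut.conjNormal g⁻¹ : MulAut N) x) = f x := by
    rw [← cjHom_apply, hfix]
  rw [h2, inv_mul_cancel, inv_one, one_mul] at h1
  rw [h1, MonoidHom.one_apply]

end Lam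

section Main

variable [Fintype G] (K N : Subgroup G) [hK : K.Normal] [hN : N.Normal]

/-- a nonlinear irreducible character of `N` is fixed by some element outside `N` when all
irreducible characters of `G` have degree `1` or `[G:N]` -/
theorem exists_fix_of_twoDeg
    (hcd : ∀ χ : IrrCharacter G, (χ : G → ℂ) 1 = 1 ∨ (χ : G → ℂ) 1 = (N.index : ℂ))
    (ψ : IrrCharacter N) (hψ : (ψ : N → ℂ) 1 ≠ 1) : ∃ g : G, g ∉ N ∧ cjIrr N g ψ = ψ := by
  classical
  by_contra hcon
  push Not at hcon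
  have : Fintype N := Fintype.ofFinite N
  have hT : ∀ g : G, g ∈ N ↔ Helper75_Clifford.conjFun N hN (ψ : N → ℂ) g = ψ := by
    intro g
    constructor
    · intro hg
      exact Helper75_Clifford.conjFun_of_mem N hN
        (Helper3_CharBridge.isClassFunction_of_isIrrCharacter ψ.2) ⟨g, hg⟩
    · intro h
      by_contra hg
      have hg' : g⁻¹ ∉ N := fun h' => hg (by simpa using N.inv_mem h')
      apply hcon g⁻¹ hg'
      apply Subtype.ext
      show Helper75_Clifford.conjFun N hN (ψ : N → ℂ) g⁻¹⁻¹ = ψ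
      rw [inv_inv]
      exact h
  have hnorm := Helper75_Clifford.classInner_indFun_self N hN ψ.2 N hT
  have hN0 : (Nat.card N : ℂ) ≠ 0 := by exact_mod_cast Nat.card_pos.ne'
  rw [inv_mul_cancel₀ hN0] at hnorm
  have hchar := Helper75_IndChar.isCharacter_indFun N
    (Helper3_CharBridge.isCharacter_of_isIrrCharacter ψ.2)
  have hirr := Helper75_CharArith.isIrrCharacter_of_classInner_self hchar hnorm
  have h1 := Helper80_CharInd.indFun_one N (ψ : N → ℂ)
  obtain ⟨d, hdpos, hd⟩ := Helper80_CharBasic.irr_apply_one ψ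
  have hidx : 0 < N.index := Nat.pos_of_ne_zero Subgroup.index_ne_zero_of_finite
  have hd1 : d = 1 := by
    rcases hcd ⟨_, hirr⟩ with h | h
    · change indFun N (ψ : N → ℂ) 1 = 1 at h
      rw [h1, hd] at h
      have h2 : N.index * d = 1 := by exact_mod_cast h
      exact Nat.eq_one_of_mul_eq_one_left h2
    · change indFun N (ψ : N → ℂ) 1 = (N.index : ℂ) at h
      rw [h1, hd] at h
      have h2 : N.index * d = N.index * 1 := by
        rw [mul_one]
        exact_mod_cast h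
      exact Nat.eq_of_mul_eq_mul_left hidx h2
  apply hψ
  rw [hd, hd1]
  simp

theorem all_linear (hKN : K ≤ N) (hne : K ≠ N)
    (hab : ∀ x ∈ N, ∀ y ∈ N, x * y * x⁻¹ * y⁻¹ ∈ K)
    (hcop : (K.relIndex N).Coprime N.index)
    (hfpf : ∀ g : G, g ∉ N → ∀ x ∈ N, x⁻¹ * (g⁻¹ * x * g) ∈ K → x ∈ K)
    (hcd : ∀ χ : IrrCharacter G, (χ : G → ℂ) 1 = 1 ∨ (χ : G → ℂ) 1 = (N.index : ℂ)) :
    ∀ ψ : IrrCharacter N, (ψ : N → ℂ) 1 = 1 := by
  classical
  intro ψ
  by_contra hψ
  have hfinN : Finite (N →* ℂˣ) := finite_hom N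
  have : Fintype N := Fintype.ofFinite N
  have : Fintype (K.subgroupOf N) := Fintype.ofFinite _
  -- step 1: `Λ` fixes `ψ`
  have hΛfix : ∀ f ∈ Lam K N, twist f ψ = ψ := by
    refine @Helper74_TwoDegAct.fixed_of_frobenius_like G (N →* ℂˣ) (IrrCharacter N) _ _
      (cjAction N) twistAction (cjHomAction N) _
      (fun g f x => cjIrr_twist N g f x) (Lam K N) _ (fun g f hf => cjHom_mem_Lam K N g hf)
      N _ (fun n hn x => cjIrr_of_mem N hn x) (fun n hn f _ => cjHom_of_mem N hn f)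
      (fun g hg f hf hfix => eq_one_of_cjHom_eq K N hab g (hfpf g hg) hf hfix)
      (card_Lam_coprime K N hcop) ψ ?_
    intro f _
    exact exists_fix_of_twoDeg N hcd (twist f ψ) (by rw [twist_one_apply]; exact hψ)
  -- step 2: `ψ` vanishes off `K`
  have hvan : ∀ x : N, (x : G) ∉ K → (ψ : N → ℂ) x = 0 := by
    intro x hx
    have hcommQ := quotient_comm K N hab
    have hx1 : (QuotientGroup.mk x : N ⧸ K.subgroupOf N) ≠ 1 := by
      rw [Ne, QuotientGroup.eq_one_iff, Subgroup.mem_subgroupOf]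
      exact hx
    obtain ⟨c, hc⟩ := exists_dual_ne_one hcommQ hx1
    have hf : infl (K.subgroupOf N) c ∈ Lam K N := by
      intro y hy
      exact infl_of_mem _ c (Subgroup.mem_subgroupOf.mpr hy)
    have h1 := congrFun (congrArg Subtype.val (hΛfix _ hf)) x
    rw [twist_apply, infl_apply] at h1
    have h2 : (((c (QuotientGroup.mk x) : ℂˣ) : ℂ) - 1) * (ψ : N → ℂ) x = 0 := by
      rw [sub_mul, one_mul, h1, sub_self]
    rcases mul_eq_zero.mp h2 with h | h
    · exfalso
      apply hc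
      apply Units.ext
      rw [Units.val_one]
      exact sub_eq_zero.mp h
    · exact h
  -- step 3: degrees
  obtain ⟨d, hdpos, hd⟩ := Helper80_CharBasic.irr_apply_one ψ
  have hres : IsCharacter (K.subgroupOf N) (fun k : K.subgroupOf N => (ψ : N → ℂ) k) :=
    Helper75_CharArith.isCharacter_restrict (K.subgroupOf N)
      (Helper3_CharBridge.isCharacter_of_isIrrCharacter ψ.2)
  have hres1 : (fun k : K.subgroupOf N => (ψ : N → ℂ) k) 1 = (d : ℂ) := hd
  have hd0 : (d : ℂ) ≠ 0 := by exact_mod_cast hdpos.ne'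
  obtain ⟨φ, hφ, hφne⟩ := Cfsg.Agent.S0857.exists_constituent hres
    (by intro h; exact hd0 (hres1.symm.trans h))
  obtain ⟨d', hd'pos, hd'⟩ := Helper80_CharBasic.irr_apply_one (⟨φ, hφ⟩ : IrrCharacter _)
  have hdiv := Cfsg.Agent.S0887.result (K.subgroupOf N) (ψ : N → ℂ) ψ.2 φ hφ hφne d d' hd hd'
  -- `d ∣ [G:N]`
  have hdm : d ∣ N.index := by
    obtain ⟨χ, hχ, hχne⟩ := Helper59_CliffordDeg.exists_irr_over N ψ.2
    obtain ⟨D, hDpos, hD⟩ := Helper80_CharBasic.irr_apply_one (⟨χ, hχ⟩ : IrrCharacter G)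
    have h1 := Helper59_CliffordDeg.degree_dvd_of_clifford N hN hχ ψ.2 hχne D d hD hd
    rcases hcd ⟨χ, hχ⟩ with h | h
    · have hD1 : D = 1 := by
        have : (D : ℂ) = 1 := by rw [← hD]; exact h
        exact_mod_cast this
      rw [hD1] at h1
      exact h1.trans (one_dvd _)
    · have hD1 : D = N.index := by
        have : (D : ℂ) = (N.index : ℂ) := by rw [← hD]; exact h
        exact_mod_cast this
      rw [hD1] at h1
      exact h1
  have hq1 : d / d' = 1 := by
    have h1 : d / d' ∣ d := Nat.div_dvd_of_dvd hdiv.1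
    have h2 : d / d' ∣ K.relIndex N := hdiv.2
    exact Nat.eq_one_of_dvd_coprimes hcop h2 (h1.trans hdm)
  have hdd : d' = d := Nat.eq_of_dvd_of_div_eq_one hdiv.1 hq1
  have hresφ : (fun k : K.subgroupOf N => (ψ : N → ℂ) k) = φ :=
    Helper80_CharInd.eq_of_constituent_of_degree_le _ hres ⟨φ, hφ⟩ hφne d d' hres1 hd' hdd.ge
  have hn1 : classInner (fun k : K.subgroupOf N => (ψ : N → ℂ) k)
      (fun k : K.subgroupOf N => (ψ : N → ℂ) k) = 1 := by
    rw [hresφ]
    exact Helper3_CharOrtho.classInner_self_of_isIrrCharacter hφ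
  have hn2 : classInner (ψ : N → ℂ) (ψ : N → ℂ) = 1 :=
    Helper3_CharOrtho.classInner_self_of_isIrrCharacter ψ.2
  unfold classInner at hn1 hn2
  have hsum : ∑ x : N, (ψ : N → ℂ) x * conj ((ψ : N → ℂ) x) =
      ∑ k : K.subgroupOf N, (ψ : N → ℂ) k * conj ((ψ : N → ℂ) k) := by
    rw [← Finset.sum_filter_of_ne (p := fun x : N => x ∈ K.subgroupOf N)]
    · exact Finset.sum_subtype (Finset.univ.filter (fun x : N => x ∈ K.subgroupOf N))
        (by simp) (fun x : N => (ψ : N → ℂ) x * conj ((ψ : N → ℂ) x))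
    · intro x _ hx
      by_contra hxK
      apply hx
      rw [hvan x (fun h => hxK (Subgroup.mem_subgroupOf.mpr h)), zero_mul]
  have hcN : (Nat.card N : ℂ) ≠ 0 := by exact_mod_cast Nat.card_pos.ne'
  have hcK : (Nat.card (K.subgroupOf N) : ℂ) ≠ 0 := by exact_mod_cast Nat.card_pos.ne'
  have h3 : (Nat.card N : ℂ) = (Nat.card (K.subgroupOf N) : ℂ) := by
    have e1 : ∑ x : N, (ψ : N → ℂ) x * conj ((ψ : N → ℂ) x) = (Nat.card N : ℂ) := by
      field_simp at hn2
      exact hn2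
    have e2 : ∑ k : K.subgroupOf N, (ψ : N → ℂ) k * conj ((ψ : N → ℂ) k) =
        (Nat.card (K.subgroupOf N) : ℂ) := by
      field_simp at hn1
      exact hn1
    rw [← e1, hsum, e2]
  have h4 : Nat.card (K.subgroupOf N) = Nat.card N := by exact_mod_cast h3.symm
  have h5 : K.subgroupOf N = ⊤ := Subgroup.card_eq_iff_eq_top _ |>.mp h4
  apply hne
  apply le_antisymm hKN
  rw [← Subgroup.subgroupOf_eq_top]
  exact h5

end Main

end Cfsg.Agent.Lib.Helper74_TwoDegC
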