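import Mathlib
import Cfsg.Prelude.Def_Characters
import Cfsg.Agent.Lib.Helper74_TwoDegC

/-!
# Isaacs, Character Theory, Theorem 12.4, general form (helper51)

`K ≤ N` normal in `G`, `N/K` abelian, `[N:K]` coprime to `[G:N]`, every `g ∉ N` acts without
fixed points on `N/K` (i.e. `G/K` is a Frobenius group with kernel `N/K`).  Then for every
`ψ ∈ Irr(N)`: either some twist `λψ` (`λ` a linear character of `N/K`) induces irreducibly to `G`
(so `[G:N]·ψ(1)` is a character degree of `G`), or `ψ` vanishes off `K` and is fixed by all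
twists, and then (if `K ≠ N`) `ψ(1)` is not coprime to `[N:K]`.

Built on helper74's `Helper74_TwoDegC` (the two-degree special case).
-/

set_option autoImplicit false
set_option linter.unusedSectionVars false

namespace Cfsg.Agent.Lib.Helper51_Isaacs124

open Cfsg
open Cfsg.Agent.Lib.Helper74_LinAct Cfsg.Agent.Lib.Helper74_PQuot Cfsg.Agent.Lib.Helper74_GoingUp
open Cfsg.Agent.Lib.Helper74_TwoDegC
open scoped ComplexConjugate

universe u

variable {G : Type u} [Group G] [Fintype G] (K N : Subgroup G) [hK : K.Normal] [hN : N.Normal]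

/-- an irreducible character of `N` that is fixed by no element outside `N` induces
irreducibly to `G` -/
theorem isIrr_indFun_of_no_fix (ψ : IrrCharacter N)
    (hcon : ∀ g : G, g ∉ N → cjIrr N g ψ ≠ ψ) :
    IsIrrCharacter G (indFun N (ψ : N → ℂ)) := by
  classical
  have : Fintype N := Fintype.ofFinite N
  have hT : ∀ g : G, g ∈ N ↔ Helper75_Clifford.conjFun N hN (ψ : N → ℂ) g = ψ := by
    intro g
    constructor
    · intro hg
      exact Helper75_Clifford.conjFun_of_mem N hN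
        (Helper3_CharBridge.isClassFunction_of_isIrrCharacter ψ.2) ⟨g, hg⟩
    · intro h
      by_contra hg
      have hg' : g⁻¹ ∉ N := fun h' => hg (by simpa using N.inv_mem h')
      apply hcon g⁻¹ hg'
      apply Subtype.ext
      show Helper75_Clifford.conjFun N hN (ψ : N → ℂ) g⁻¹⁻¹ = ψ
      rw [inv_inv]
      exact h
  have hnorm := Helper75_Clifford.classInner_indFun_self N hN ψ.2 N hT
  have hN0 : (Nat.card N : ℂ) ≠ 0 := by exact_mod_cast Nat.card_pos.ne'
  rw [inv_mul_cancel₀ hN0] at hnorm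
  have hchar := Helper75_IndChar.isCharacter_indFun N
    (Helper3_CharBridge.isCharacter_of_isIrrCharacter ψ.2)
  exact Helper75_CharArith.isIrrCharacter_of_classInner_self hchar hnorm

/-- degree of the induced character -/
theorem indFun_degree (ψ : IrrCharacter N) :
    indFun N (ψ : N → ℂ) 1 = (N.index : ℂ) * (ψ : N → ℂ) 1 :=
  Helper80_CharInd.indFun_one N (ψ : N → ℂ)

/-- **Isaacs 12.4**, general form. -/
theorem isaacs_12_4
    (hab : ∀ x ∈ N, ∀ y ∈ N, x * y * x⁻¹ * y⁻¹ ∈ K)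
    (hcop : (K.relIndex N).Coprime N.index)
    (hfpf : ∀ g : G, g ∉ N → ∀ x ∈ N, x⁻¹ * (g⁻¹ * x * g) ∈ K → x ∈ K)
    (ψ : IrrCharacter N) :
    (∃ f ∈ Lam K N, IsIrrCharacter G (indFun N (twist f ψ : N → ℂ))) ∨
      ((∀ x : N, (x : G) ∉ K → (ψ : N → ℂ) x = 0) ∧ ∀ f ∈ Lam K N, twist f ψ = ψ) := by
  classical
  by_cases hex : ∃ f ∈ Lam K N, ∀ g : G, g ∉ N → cjIrr N g (twist f ψ) ≠ twist f ψ
  · left
    obtain ⟨f, hf, hno⟩ := hex
    exact ⟨f, hf, isIrr_indFun_of_no_fix N (twist f ψ) hno⟩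
  · right
    push Not at hex
    have hfinN : Finite (N →* ℂˣ) := finite_hom N
    have : Fintype N := Fintype.ofFinite N
    have hΛfix : ∀ f ∈ Lam K N, twist f ψ = ψ := by
      refine @Helper74_TwoDegAct.fixed_of_frobenius_like G (N →* ℂˣ) (IrrCharacter N) _ _
        (cjAction N) twistAction (cjHomAction N) _
        (fun g f x => cjIrr_twist N g f x) (Lam K N) _ (fun g f hf => cjHom_mem_Lam K N g hf)
        N _ (fun n hn x => cjIrr_of_mem N hn x) (fun n hn f _ => cjHom_of_mem N hn f)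
        (fun g hg f hf hfix => eq_one_of_cjHom_eq K N hab g (hfpf g hg) hf hfix)
        (card_Lam_coprime K N hcop) ψ ?_
      intro f hf
      exact hex f hf
    refine ⟨?_, hΛfix⟩
    intro x hx
    have hcommQ := quotient_comm K N hab
    have hx1 : (QuotientGroup.mk x : N ⧸ K.subgroupOf N) ≠ 1 := by
      rw [Ne, QuotientGroup.eq_one_iff, Subgroup.mem_subgroupOf]
      exact hx
    obtain ⟨c, hc⟩ := exists_dual_ne_one hcommQ hx1
    have hf : infl (K.subgroupOf N) c ∈ Lam K N := by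
      intro y hy
      exact infl_of_mem _ c (Subgroup.mem_subgroupOf.mpr hy)
    have h1 := congrFun (congrArg Subtype.val (hΛfix _ hf)) x
    rw [twist_apply, infl_apply] at h1
    have h2 : (((c (QuotientGroup.mk x) : ℂˣ) : ℂ) - 1) * (ψ : N → ℂ) x = 0 := by
      rw [sub_mul, one_mul, h1, sub_self]
    rcases mul_eq_zero.mp h2 with h | h
    · exfalso
      apply hc
      apply Units.ext
      rw [Units.val_one]
      exact sub_eq_zero.mp h
    · exact h

/-- a character of `N` vanishing off the proper normal subgroup `K` has degree not coprime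
to `[N:K]` -/
theorem not_coprime_of_vanish (hKN : K ≤ N) (hne : K ≠ N) (ψ : IrrCharacter N)
    (hvan : ∀ x : N, (x : G) ∉ K → (ψ : N → ℂ) x = 0) (d : ℕ) (hd : (ψ : N → ℂ) 1 = d) :
    ¬ d.Coprime (K.relIndex N) := by
  classical
  intro hcopd
  have : Fintype N := Fintype.ofFinite N
  have : Fintype (K.subgroupOf N) := Fintype.ofFinite _
  have hdpos : 0 < d := by
    obtain ⟨d', hd'pos, hd'⟩ := Helper80_CharBasic.irr_apply_one ψ
    have : (d : ℂ) = (d' : ℂ) := by rw [← hd, hd']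
    have h2 : d = d' := by exact_mod_cast this
    rw [h2]; exact hd'pos
  have hres : IsCharacter (K.subgroupOf N) (fun k : K.subgroupOf N => (ψ : N → ℂ) k) :=
    Helper75_CharArith.isCharacter_restrict (K.subgroupOf N)
      (Helper3_CharBridge.isCharacter_of_isIrrCharacter ψ.2)
  have hres1 : (fun k : K.subgroupOf N => (ψ : N → ℂ) k) 1 = (d : ℂ) := hd
  have hd0 : (d : ℂ) ≠ 0 := by exact_mod_cast hdpos.ne'
  obtain ⟨φ, hφ, hφne⟩ := Cfsg.Agent.S0857.exists_constituent hres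
    (by intro h; exact hd0 (hres1.symm.trans h))
  obtain ⟨d', hd'pos, hd'⟩ := Helper80_CharBasic.irr_apply_one (⟨φ, hφ⟩ : IrrCharacter _)
  have hdiv := Cfsg.Agent.S0887.result (K.subgroupOf N) (ψ : N → ℂ) ψ.2 φ hφ hφne d d' hd hd'
  have hq1 : d / d' = 1 := by
    have h1 : d / d' ∣ d := Nat.div_dvd_of_dvd hdiv.1
    have h2 : d / d' ∣ K.relIndex N := hdiv.2
    exact Nat.eq_one_of_dvd_coprimes hcopd h1 h2
  have hdd : d' = d := Nat.eq_of_dvd_of_div_eq_one hdiv.1 hq1
  have hresφ : (fun k : K.subgroupOf N => (ψ : N → ℂ) k) = φ :=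
    Helper80_CharInd.eq_of_constituent_of_degree_le _ hres ⟨φ, hφ⟩ hφne d d' hres1 hd' hdd.ge
  have hn1 : classInner (fun k : K.subgroupOf N => (ψ : N → ℂ) k)
      (fun k : K.subgroupOf N => (ψ : N → ℂ) k) = 1 := by
    rw [hresφ]
    exact Helper3_CharOrtho.classInner_self_of_isIrrCharacter hφ
  have hn2 : classInner (ψ : N → ℂ) (ψ : N → ℂ) = 1 :=
    Helper3_CharOrtho.classInner_self_of_isIrrCharacter ψ.2
  unfold classInner at hn1 hn2
  have hsum : ∑ x : N, (ψ : N → ℂ) x * conj ((ψ : N → ℂ) x) =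
      ∑ k : K.subgroupOf N, (ψ : N → ℂ) k * conj ((ψ : N → ℂ) k) := by
    rw [← Finset.sum_filter_of_ne (p := fun x : N => x ∈ K.subgroupOf N)]
    · exact Finset.sum_subtype (Finset.univ.filter (fun x : N => x ∈ K.subgroupOf N))
        (by simp) (fun x : N => (ψ : N → ℂ) x * conj ((ψ : N → ℂ) x))
    · intro x _ hx
      by_contra hxK
      apply hx
      rw [hvan x (fun h => hxK (Subgroup.mem_subgroupOf.mpr h)), zero_mul]
  have hcN : (Nat.card N : ℂ) ≠ 0 := by exact_mod_cast Nat.card_pos.ne'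
  have hcK : (Nat.card (K.subgroupOf N) : ℂ) ≠ 0 := by exact_mod_cast Nat.card_pos.ne'
  have h3 : (Nat.card N : ℂ) = (Nat.card (K.subgroupOf N) : ℂ) := by
    have e1 : ∑ x : N, (ψ : N → ℂ) x * conj ((ψ : N → ℂ) x) = (Nat.card N : ℂ) := by
      field_simp at hn2
      exact hn2
    have e2 : ∑ k : K.subgroupOf N, (ψ : N → ℂ) k * conj ((ψ : N → ℂ) k) =
        (Nat.card (K.subgroupOf N) : ℂ) := by
      field_simp at hn1
      exact hn1
    rw [← e1, hsum, e2]
  have h4 : Nat.card (K.subgroupOf N) = Nat.card N := by exact_mod_cast h3.symm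
  have h5 : K.subgroupOf N = ⊤ := Subgroup.card_eq_iff_eq_top _ |>.mp h4
  apply hne
  apply le_antisymm hKN
  rw [← Subgroup.subgroupOf_eq_top]
  exact h5

/-- `p`-group form: if `[N:K]` is a power of the prime `p` then `p ∣ ψ(1)` -/
theorem prime_dvd_of_vanish (hKN : K ≤ N) (hne : K ≠ N) (ψ : IrrCharacter N)
    (hvan : ∀ x : N, (x : G) ∉ K → (ψ : N → ℂ) x = 0) (d : ℕ) (hd : (ψ : N → ℂ) 1 = d)
    {p a : ℕ} (hp : p.Prime) (hpa : K.relIndex N = p ^ a) : p ∣ d := by
  have h := not_coprime_of_vanish K N hKN hne ψ hvan d hd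
  rw [hpa] at h
  by_contra hpd
  apply h
  exact Nat.Coprime.pow_right a ((Nat.Prime.coprime_iff_not_dvd hp).mpr hpd).symm

/-- **Isaacs 12.4**, degree form: either `[G:N]·ψ(1)` is the degree of an irreducible character
of `G` (induced from a twist of `ψ`), or `ψ` vanishes off `K` and `ψ(1)` is not coprime to
`[N:K]`. -/
theorem isaacs_12_4_degree (hKN : K ≤ N) (hne : K ≠ N)
    (hab : ∀ x ∈ N, ∀ y ∈ N, x * y * x⁻¹ * y⁻¹ ∈ K)
    (hcop : (K.relIndex N).Coprime N.index)
    (hfpf : ∀ g : G, g ∉ N → ∀ x ∈ N, x⁻¹ * (g⁻¹ * x * g) ∈ K → x ∈ K)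
    (ψ : IrrCharacter N) (d : ℕ) (hd : (ψ : N → ℂ) 1 = d) :
    (∃ χ : IrrCharacter G, (χ : G → ℂ) 1 = ((N.index * d : ℕ) : ℂ)) ∨
      ((∀ x : N, (x : G) ∉ K → (ψ : N → ℂ) x = 0) ∧ ¬ d.Coprime (K.relIndex N)) := by
  rcases isaacs_12_4 K N hab hcop hfpf ψ with ⟨f, _, hirr⟩ | ⟨hvan, _⟩
  · left
    refine ⟨⟨_, hirr⟩, ?_⟩
    show indFun N (twist f ψ : N → ℂ) 1 = _
    rw [indFun_degree, twist_one_apply, hd]
    push_cast
    rfl
  · right
    exact ⟨hvan, not_coprime_of_vanish K N hKN hne ψ hvan d hd⟩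

end Cfsg.Agent.Lib.Helper51_Isaacs124
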