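import Mathlib
import Cfsg.Prelude.Def_Characters
import Cfsg.Prelude.Def_Blocks
import Cfsg.Agent.Lib.Helper72_IPDefs
import Cfsg.Agent.Lib.Helper51_Isaacs124
import Cfsg.Agent.Lib.Helper59_CliffordDeg
import Cfsg.Agent.Lib.Helper74_GoingUp
import Cfsg.Agent.Lib.Helper80_CharBasic
import Cfsg.Agent.Lib.Helper80_CharInd
import Cfsg.Agent.Lib.Helper80_RelDegree
import Cfsg.Agent.Lib.Helper75_CharArith
import Cfsg.Agent.Lib.Helper3_CharBridge
import Cfsg.Agent.Lib.Helper3_CharOrtho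

/-!
# S4463 (Isaacs–Passman `(b!)^2`), package A2: the Frobenius case inside `G` (helper17)
-/

set_option autoImplicit false
set_option linter.unusedSectionVars false
set_option linter.unusedVariables false

namespace Cfsg.Agent.Lib.Helper17_IP_A2

open Cfsg Cfsg.Agent.Lib.Helper72_IPDefs
open Cfsg.Agent.Lib.Helper51_Isaacs124 Cfsg.Agent.Lib.Helper80_CharBasic
open scoped ComplexConjugate

universe u

theorem cd_eq {H : Type*} [Group H] {χ : H → ℂ} {n : ℕ} (h : χ 1 = n) :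
    charDegree χ = n := by
  unfold charDegree
  rw [h, Complex.natCast_re, Nat.floor_natCast]

/-- normal subgroups inherit representation bounds -/
theorem rb_normal {G : Type u} [Group G] [Fintype G] {b : ℕ} (h : RB G b) (N : Subgroup G)
    [N.Normal] : RB N b := by
  intro ψ
  have : Fintype N := Fintype.ofFinite N
  obtain ⟨d, hdpos, hd⟩ := irr_apply_one ψ
  obtain ⟨χ, hχ, hcon⟩ := Cfsg.Agent.Lib.Helper59_CliffordDeg.exists_irr_over N ψ.2
  obtain ⟨c, hcpos, hc⟩ := irr_apply_one (⟨χ, hχ⟩ : IrrCharacter G)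
  obtain ⟨e, hce, hef⟩ := Cfsg.Agent.Lib.Helper80_RelDegree.rel_degree_dvd N χ hχ
    (ψ : N → ℂ) ψ.2 hcon c d hc hd
  have h1 := h ⟨χ, hχ⟩
  rw [cd_eq hc] at h1
  rw [cd_eq hd]
  have he : 0 < e := by
    rcases Nat.eq_zero_or_pos e with h0 | h0
    · rw [h0, zero_mul] at hce; omega
    · exact h0
  nlinarith

/-- a subgroup of index `p` above a normal subgroup of index `p ^ a`, `a ≠ 0` -/
theorem exists_index_p {N : Type*} [Group N] [Finite N] (K' : Subgroup N) [K'.Normal] {p a : ℕ}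
    (hp : p.Prime) (ha : a ≠ 0) (hidx : K'.index = p ^ a) :
    ∃ M' : Subgroup N, K' ≤ M' ∧ M'.index = p := by
  have : Fact p.Prime := ⟨hp⟩
  have hcard : Nat.card (N ⧸ K') = p ^ a := by rw [← Subgroup.index_eq_card, hidx]
  obtain ⟨Mb, hMb⟩ := Sylow.exists_subgroup_card_pow_prime p (G := N ⧸ K') (n := a - 1)
    (by rw [hcard]; exact pow_dvd_pow p (Nat.sub_le a 1))
  refine ⟨Mb.comap (QuotientGroup.mk' K'), ?_, ?_⟩
  · intro x hx
    rw [Subgroup.mem_comap]
    have : (QuotientGroup.mk' K') x = 1 := (QuotientGroup.eq_one_iff x).mpr hx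
    rw [this]
    exact Mb.one_mem
  · rw [Subgroup.index_comap_of_surjective Mb (QuotientGroup.mk'_surjective K')]
    have h1 := Mb.card_mul_index
    rw [hMb, hcard] at h1
    have h2 : p ^ a = p ^ (a - 1) * p := by
      rw [← pow_succ]; congr 1; omega
    rw [h2] at h1
    exact Nat.eq_of_mul_eq_mul_left (pow_pos hp.pos _) h1

/-- representation bounds transport along isomorphisms -/
theorem rb_of_equiv {A B : Type u} [Group A] [Group B] [Finite A] [Finite B] (e : A ≃* B) {c : ℕ}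
    (h : RB A c) : RB B c := by
  intro χ
  have h1 := h ⟨fun k => (χ : B → ℂ) (e k), Cfsg.Agent.Lib.Helper74_GoingUp.isIrr_comp_equiv e χ.2⟩
  unfold charDegree at h1 ⊢
  simp only [map_one] at h1
  exact h1


section Frob

variable {G : Type u} [Group G] [Fintype G] {b : ℕ} (h : RB G b)
    (K N : Subgroup G) [K.Normal] [N.Normal]
    (hKN : K ≤ N) (hne : K ≠ N) (hNtop : N ≠ ⊤)
    (hab : ∀ x ∈ N, ∀ y ∈ N, x * y * x⁻¹ * y⁻¹ ∈ K)
    (hcop : (K.relIndex N).Coprime N.index)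
    (hfpf : ∀ g : G, g ∉ N → ∀ x ∈ N, x⁻¹ * (g⁻¹ * x * g) ∈ K → x ∈ K)

include h hKN hne hab hcop hfpf in
/-- `[G:N]` is a character degree, so it is at most `b` -/
theorem index_le : N.index ≤ b := by
  have h1 : (oneIrr N : N → ℂ) 1 = ((1 : ℕ) : ℂ) := by simp [oneIrr]
  rcases isaacs_12_4_degree K N hKN hne hab hcop hfpf (oneIrr N) 1 h1 with ⟨χ, hχ⟩ | ⟨_, hnc⟩
  · have h2 := h χ
    rw [cd_eq hχ, mul_one] at h2
    exact h2
  · exact absurd (Nat.coprime_one_left _) hnc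

include h hKN hne hNtop hab hcop hfpf in
/-- a character of `N` of degree `b` vanishes off `K`, and `p ∣ b` -/
theorem vanish {p a : ℕ} (hp : p.Prime) (hpa : K.relIndex N = p ^ a) (ψ : IrrCharacter N)
    (hψ : (ψ : N → ℂ) 1 = (b : ℂ)) :
    (∀ x : N, (x : G) ∉ K → (ψ : N → ℂ) x = 0) ∧ p ∣ b := by
  have hb1 := h.one_le
  rcases isaacs_12_4_degree K N hKN hne hab hcop hfpf ψ b hψ with ⟨χ, hχ⟩ | ⟨hvan, _⟩
  · exfalso
    have h2 := h χ
    rw [cd_eq hχ] at h2
    have hf0 : N.index ≠ 0 := Subgroup.index_ne_zero_of_finite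
    have hf1 : N.index ≠ 1 := fun h1 => hNtop (Subgroup.index_eq_one.mp h1)
    have hf2 : 2 ≤ N.index := by omega
    nlinarith
  · exact ⟨hvan, prime_dvd_of_vanish K N hKN hne ψ hvan b hψ hp hpa⟩

include h hKN hne hNtop hab hcop hfpf in
/-- a proper subgroup `M'` of `N` containing `K` has bound `b - 1` -/
theorem rb_M' {p a : ℕ} (hp : p.Prime) (hpa : K.relIndex N = p ^ a) (M' : Subgroup N)
    (hKM : K.subgroupOf N ≤ M') (hM' : M'.index = p) : RB M' (b - 1) := by
  classical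
  have : Fintype N := Fintype.ofFinite N
  have : Fintype M' := Fintype.ofFinite M'
  have hRBN : RB N b := rb_normal h N
  have hb1 := h.one_le
  intro φ
  by_contra hcon
  push Not at hcon
  obtain ⟨ψ', hover⟩ := Cfsg.Agent.Lib.Helper74_GoingUp.exists_over M' φ
  obtain ⟨d', hd'pos, hd'⟩ := irr_apply_one ψ'
  have hd'b : d' ≤ b := by
    have := hRBN ψ'
    rwa [cd_eq hd'] at this
  obtain ⟨dφ, hdφpos, hdφ⟩ := irr_apply_one φ
  have hdφb : b ≤ dφ := by
    rw [cd_eq hdφ] at hcon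
    omega
  have hres : (fun k : M' => (ψ' : N → ℂ) k) = (φ : M' → ℂ) :=
    Cfsg.Agent.Lib.Helper80_CharInd.eq_of_constituent_of_degree_le (fun k : M' => (ψ' : N → ℂ) k)
      (Cfsg.Agent.Lib.Helper75_CharArith.isCharacter_restrict M'
        (Cfsg.Agent.Lib.Helper3_CharBridge.isCharacter_of_isIrrCharacter ψ'.2)) φ hover d' dφ
      (by simpa using hd') hdφ (hd'b.trans hdφb)
  have hdd : d' = dφ := by
    have h1 := congrFun hres 1
    simp only [OneMemClass.coe_one] at h1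
    rw [hd', hdφ] at h1
    exact_mod_cast h1
  have hd'eq : d' = b := by omega
  rw [hd'eq] at hd'
  obtain ⟨hvan, -⟩ := vanish h K N hKN hne hNtop hab hcop hfpf hp hpa ψ' hd'
  have n1 := Cfsg.Agent.Lib.Helper3_CharOrtho.classInner_self_of_isIrrCharacter ψ'.2
  have n2 := Cfsg.Agent.Lib.Helper3_CharOrtho.classInner_self_of_isIrrCharacter φ.2
  rw [← hres] at n2
  unfold classInner at n1 n2
  have hsum : ∑ x : N, (ψ' : N → ℂ) x * conj ((ψ' : N → ℂ) x)
      = ∑ y : M', (ψ' : N → ℂ) y * conj ((ψ' : N → ℂ) y) := by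
    rw [← Finset.sum_subtype (Finset.univ.filter (fun x : N => x ∈ M')) (fun x => by simp)
      (fun x : N => (ψ' : N → ℂ) x * conj ((ψ' : N → ℂ) x))]
    symm
    apply Finset.sum_subset (Finset.subset_univ _)
    intro x _ hx
    have hxM : x ∉ M' := by simpa using hx
    have hxK : (x : G) ∉ K := fun hk => hxM (hKM (Subgroup.mem_subgroupOf.mpr hk))
    rw [hvan x hxK, zero_mul]
  rw [hsum] at n1
  have hS : (∑ y : M', (ψ' : N → ℂ) y * conj ((ψ' : N → ℂ) y)) ≠ 0 := by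
    intro h0
    rw [h0, mul_zero] at n1
    exact zero_ne_one n1
  have hNc : (Nat.card N : ℂ) ≠ 0 := Cfsg.Agent.Lib.Helper3_CharOrtho.card_ne_zero_complex
  have hMc : (Nat.card M' : ℂ) ≠ 0 := Cfsg.Agent.Lib.Helper3_CharOrtho.card_ne_zero_complex
  have hcards : (Nat.card N : ℂ) = (Nat.card M' : ℂ) := by
    have e1 : (∑ y : M', (ψ' : N → ℂ) y * conj ((ψ' : N → ℂ) y)) = (Nat.card N : ℂ) := by
      field_simp at n1
      exact n1
    have e2 : (∑ y : M', (ψ' : N → ℂ) y * conj ((ψ' : N → ℂ) y)) = (Nat.card M' : ℂ) := by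
      field_simp at n2
      exact n2
    rw [← e1, ← e2]
  have hcards' : Nat.card N = Nat.card M' := by exact_mod_cast hcards
  have h3 := M'.card_mul_index
  rw [hM', ← hcards'] at h3
  have hNpos : 0 < Nat.card N := Nat.card_pos
  have : p = 1 := by nlinarith
  exact hp.one_lt.ne' this

end Frob

/-- **PKG-A2** of S4463: the Frobenius case, inside `G`. -/
theorem frobenius_case {G : Type u} [Group G] [Finite G] {b : ℕ} (h : RB G b)
    (K N : Subgroup G) [K.Normal] [N.Normal]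
    (hKN : K ≤ N) (hne : K ≠ N) (hNtop : N ≠ ⊤)
    (hab : ∀ x ∈ N, ∀ y ∈ N, x * y * x⁻¹ * y⁻¹ ∈ K)
    (hcop : (K.relIndex N).Coprime N.index)
    (hfpf : ∀ g : G, g ∉ N → ∀ x ∈ N, x⁻¹ * (g⁻¹ * x * g) ∈ K → x ∈ K)
    {p a : ℕ} (hp : p.Prime) (hpa : K.relIndex N = p ^ a) :
    ∃ H : Subgroup G, H ≠ ⊤ ∧ H.index ≤ b ^ 2 ∧ RB H (b - 1) := by
  classical
  have : Fintype G := Fintype.ofFinite G
  have hb1 := h.one_le
  have hRBN : RB N b := rb_normal h N
  have hfb : N.index ≤ b := index_le h K N hKN hne hab hcop hfpf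
  by_cases hN1 : RB N (b - 1)
  · exact ⟨N, hNtop, hfb.trans (by nlinarith), hN1⟩
  · unfold RB at hN1
    push Not at hN1
    obtain ⟨ψ, hψ⟩ := hN1
    have hψb : charDegree (ψ : N → ℂ) = b := le_antisymm (hRBN ψ) (by omega)
    have hψ1 : (ψ : N → ℂ) 1 = (b : ℂ) := by
      obtain ⟨d, -, hd⟩ := Cfsg.Agent.Lib.Helper80_CharBasic.irr_apply_one ψ
      rw [cd_eq hd] at hψb
      rw [hd, hψb]
    obtain ⟨hvan, hpb⟩ := vanish h K N hKN hne hNtop hab hcop hfpf hp hpa ψ hψ1
    have ha : a ≠ 0 := by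
      intro h0
      rw [h0, pow_zero, Subgroup.relIndex_eq_one] at hpa
      exact hne (le_antisymm hKN hpa)
    obtain ⟨M', hKM, hM'⟩ := exists_index_p (K.subgroupOf N) hp ha hpa
    refine ⟨M'.map N.subtype, ?_, ?_, ?_⟩
    · intro htop
      apply hNtop
      rw [eq_top_iff, ← htop]
      exact Subgroup.map_subtype_le M'
    · rw [Subgroup.index_map_subtype, hM']
      have hpb' : p ≤ b := Nat.le_of_dvd (by omega) hpb
      nlinarith
    · exact rb_of_equiv (M'.equivMapOfInjective N.subtype (Subgroup.subtype_injective N))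
        (rb_M' h K N hKN hne hNtop hab hcop hfpf hp hpa M' hKM hM')

end Cfsg.Agent.Lib.Helper17_IP_A2
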