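import Mathlib
import Cfsg.Prelude.Def_Characters
import Cfsg.Agent.Lib.Helper3_CharBridge
import Cfsg.Agent.Lib.Helper3_CharOrtho
import Cfsg.Agent.Lib.Helper3_CharComplete
import Cfsg.Agent.Lib.Helper75_CharArith
import Cfsg.Agent.Lib.Helper75_CharProd
import Cfsg.Agent.Lib.Helper74_LinAct
import Cfsg.Agent.Lib.Helper80_CharBasic

/-!
# S4460 (Isaacs 12.15), part (A), package PA1b: the idempotent argument (helper17)

If `cd(G) ⊆ {1, m, n}`, products of two characters of degree `m` have no constituent of degree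
`n`, and some irreducible character of degree `m` is faithful, then there is no irreducible
character of degree `n`.
-/

set_option autoImplicit false
set_option linter.unusedSectionVars false
set_option linter.unusedVariables false

namespace Cfsg.Agent.Lib.Helper17_Isaacs1215_PA1b

open Cfsg
open scoped ComplexConjugate
open Cfsg.Agent.Lib.Helper3_CharBridge Cfsg.Agent.Lib.Helper3_CharOrtho
  Cfsg.Agent.Lib.Helper3_CharComplete Cfsg.Agent.Lib.Helper75_CharArith
  Cfsg.Agent.Lib.Helper75_CharProd Cfsg.Agent.Lib.Helper74_LinAct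
  Cfsg.Agent.Lib.Helper80_CharBasic

universe u

variable {G : Type u} [Group G] [Fintype G]

/-- moving a factor to the other side of the inner product -/
theorem classInner_mul_move (α β γ : G → ℂ) :
    classInner (fun g => α g * β g) γ = classInner β (fun g => conj (α g) * γ g) := by
  unfold classInner
  congr 1
  refine Finset.sum_congr rfl (fun g _ => ?_)
  rw [map_mul, Complex.conj_conj]
  ring

/-- a linear character times an irreducible character of degree `≠ n` has no constituent of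
degree `n` -/
theorem lin_case (n : ℕ) (ξ ξ' ψ : IrrCharacter G) (h1 : (ξ : G → ℂ) 1 = 1)
    (h2 : (ξ' : G → ℂ) 1 ≠ n) (h3 : (ψ : G → ℂ) 1 = n) :
    classInner (fun g => (ξ : G → ℂ) g * (ξ' : G → ℂ) g) (ψ : G → ℂ) = 0 := by
  obtain ⟨f, rfl⟩ := exists_lin_of_one h1
  have hirr : IsIrrCharacter G (fun g => ((f g : ℂˣ) : ℂ) * (ξ' : G → ℂ) g) := isIrr_twist f ξ'.2
  have hne : (fun g => ((f g : ℂˣ) : ℂ) * (ξ' : G → ℂ) g) ≠ (ψ : G → ℂ) := by
    intro heq
    have := congrFun heq 1
    simp only [map_one, Units.val_one, one_mul] at this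
    exact h2 (this.trans h3)
  exact classInner_of_isIrrCharacter_of_ne hirr ψ.2 hne

/-- the set of irreducible characters of degree `≠ n` is closed under products -/
theorem closure (m n : ℕ)
    (hcd : ∀ χ : IrrCharacter G, (χ : G → ℂ) 1 = 1 ∨ (χ : G → ℂ) 1 = m ∨ (χ : G → ℂ) 1 = n)
    (hmid : ∀ χ χ' ψ : IrrCharacter G, (χ : G → ℂ) 1 = m → (χ' : G → ℂ) 1 = m →
      (ψ : G → ℂ) 1 = n →
      classInner (fun g => (χ : G → ℂ) g * (χ' : G → ℂ) g) (ψ : G → ℂ) = 0)
    (ξ ξ' ψ : IrrCharacter G) (h1 : (ξ : G → ℂ) 1 ≠ n) (h2 : (ξ' : G → ℂ) 1 ≠ n)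
    (h3 : (ψ : G → ℂ) 1 = n) :
    classInner (fun g => (ξ : G → ℂ) g * (ξ' : G → ℂ) g) (ψ : G → ℂ) = 0 := by
  rcases hcd ξ with h | h | h
  · exact lin_case n ξ ξ' ψ h h2 h3
  · rcases hcd ξ' with h' | h' | h'
    · have : (fun g => (ξ : G → ℂ) g * (ξ' : G → ℂ) g)
          = (fun g => (ξ' : G → ℂ) g * (ξ : G → ℂ) g) := by
        funext g; ring
      rw [this]
      exact lin_case n ξ' ξ ψ h' h1 h3
    · exact hmid ξ ξ' ψ h h' h3
    · exact absurd h' h2
  · exact absurd h h1

open scoped Classical in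
/-- orthogonality against a weighted sum over a set of irreducible characters -/
theorem sum_inner (A : Finset (IrrCharacter G)) (c : IrrCharacter G → ℂ) (η : IrrCharacter G) :
    ∑ ξ ∈ A, c ξ * classInner (ξ : G → ℂ) (η : G → ℂ) = if η ∈ A then c η else 0 := by
  have h : ∀ ξ : IrrCharacter G, classInner (ξ : G → ℂ) (η : G → ℂ) = if ξ = η then 1 else 0 := by
    intro ξ
    rw [classInner_irr ξ.2 η.2]
    by_cases hξ : ξ = η
    · rw [if_pos hξ, if_pos (congrArg Subtype.val hξ)]
    · rw [if_neg hξ, if_neg (fun h => hξ (Subtype.ext h))]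
  simp_rw [h, mul_ite, mul_one, mul_zero]
  rw [Finset.sum_ite_eq' A η c]


/-- **PA1b** = Lemma A, step 4 (the idempotent argument) of S4460 part (A). -/
theorem PA1b {G : Type u} [Group G] [Fintype G] (m n : ℕ) (hm : 1 < m) (hmn : m < n)
    (hcd : ∀ χ : IrrCharacter G, (χ : G → ℂ) 1 = 1 ∨ (χ : G → ℂ) 1 = m ∨ (χ : G → ℂ) 1 = n)
    (hmid : ∀ χ χ' ψ : IrrCharacter G, (χ : G → ℂ) 1 = m → (χ' : G → ℂ) 1 = m →
      (ψ : G → ℂ) 1 = n →
      classInner (fun g => (χ : G → ℂ) g * (χ' : G → ℂ) g) (ψ : G → ℂ) = 0)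
    (χm : IrrCharacter G) (hχm : (χm : G → ℂ) 1 = m)
    (hfaith : ∀ g : G, (χm : G → ℂ) g = (χm : G → ℂ) 1 → g = 1)
    (χn : IrrCharacter G) (hχn : (χn : G → ℂ) 1 = n) : False := by
  classical
  obtain ⟨A, hA⟩ : ∃ A : Finset (IrrCharacter G), ∀ ξ, ξ ∈ A ↔ (ξ : G → ℂ) 1 ≠ n :=
    ⟨Finset.univ.filter (fun ξ => (ξ : G → ℂ) 1 ≠ n), fun ξ => by simp⟩
  obtain ⟨e, he⟩ : ∃ e : G → ℂ, e = ∑ ξ ∈ A, ((ξ : G → ℂ) 1) • (ξ : G → ℂ) := ⟨_, rfl⟩
  have he_apply : ∀ g, e g = ∑ ξ ∈ A, (ξ : G → ℂ) 1 * (ξ : G → ℂ) g := by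
    intro g
    rw [he, Finset.sum_apply]
    rfl
  have hmn' : (m : ℂ) ≠ n := by exact_mod_cast hmn.ne
  have hχmA : χm ∈ A := (hA χm).mpr (by rw [hχm]; exact hmn')
  have hχnA : χn ∉ A := fun h => (hA χn).mp h hχn
  have he_inner : ∀ η : IrrCharacter G,
      classInner e (η : G → ℂ) = if η ∈ A then (η : G → ℂ) 1 else 0 := by
    intro η
    rw [he, classInner_sum_left]
    simp_rw [classInner_smul_left]
    exact sum_inner A (fun ξ => (ξ : G → ℂ) 1) η
  obtain ⟨χc, hχc⟩ : ∃ χc : IrrCharacter G, ∀ g, (χc : G → ℂ) g = conj ((χm : G → ℂ) g) :=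
    ⟨⟨fun g => conj ((χm : G → ℂ) g), isIrrCharacter_conj χm.2⟩, fun _ => rfl⟩
  have hχc1 : (χc : G → ℂ) 1 = m := by rw [hχc, hχm, Complex.conj_natCast]
  have hD : (fun g => ((χm : G → ℂ) g - m) * e g) = 0 := by
    apply eq_zero_of_forall_classInner_irr_eq_zero
    · intro g h
      show ((χm : G → ℂ) (h * g * h⁻¹) - m) * e (h * g * h⁻¹) = ((χm : G → ℂ) g - m) * e g
      rw [irr_conj χm g h, he_apply, he_apply]
      congr 1
      refine Finset.sum_congr rfl (fun ξ _ => ?_)
      rw [irr_conj ξ g h]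
    · intro η0 hη0
      obtain ⟨η, rfl⟩ : ∃ η : IrrCharacter G, (η : G → ℂ) = η0 := ⟨⟨η0, hη0⟩, rfl⟩
      have hsplit : (fun g => ((χm : G → ℂ) g - m) * e g)
          = (∑ ξ ∈ A, ((ξ : G → ℂ) 1) • (fun g => (χm : G → ℂ) g * (ξ : G → ℂ) g))
            - (m : ℂ) • e := by
        funext g
        simp only [Pi.sub_apply, Finset.sum_apply, Pi.smul_apply, smul_eq_mul]
        rw [he_apply g, sub_mul, Finset.mul_sum]
        congr 1
        refine Finset.sum_congr rfl (fun ξ _ => ?_)
        ring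
      rw [hsplit, classInner_sub_left, classInner_sum_left, classInner_smul_left, he_inner η]
      simp_rw [classInner_smul_left]
      by_cases hηA : η ∈ A
      · rw [if_pos hηA]
        have hφ : IsCharacter G (fun g => conj ((χm : G → ℂ) g) * (η : G → ℂ) g) :=
          isCharacter_mul (isCharacter_conj (isCharacter_of_isIrrCharacter χm.2))
            (isCharacter_of_isIrrCharacter η.2)
        obtain ⟨b, hb, hexp⟩ := exists_multiplicities hφ
        have hbz : ∀ ξ : IrrCharacter G, ξ ∉ A → b ξ = 0 := by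
          intro ξ hξ
          have hξn : (ξ : G → ℂ) 1 = n := by
            by_contra h; exact hξ ((hA ξ).mpr h)
          have h1 := closure m n hcd hmid χc η ξ (by rw [hχc1]; exact hmn') ((hA η).mp hηA) hξn
          have h2 := hb ξ
          have h3 : (fun g => conj ((χm : G → ℂ) g) * (η : G → ℂ) g)
              = (fun g => (χc : G → ℂ) g * (η : G → ℂ) g) := by
            funext g; rw [hχc]
          rw [h3, h1] at h2
          exact_mod_cast h2.symm
        have hterm : ∀ ξ : IrrCharacter G,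
            classInner (fun g => (χm : G → ℂ) g * (ξ : G → ℂ) g) (η : G → ℂ) = b ξ := by
          intro ξ
          rw [classInner_mul_move, ← classInner_conj_symm, hb ξ, Complex.conj_natCast]
        simp_rw [hterm]
        have h1 := congrFun hexp 1
        simp only [Finset.sum_apply, Pi.smul_apply, smul_eq_mul] at h1
        rw [hχm, Complex.conj_natCast] at h1
        have h2 : ∑ χ : IrrCharacter G, (b χ : ℂ) * (χ : G → ℂ) 1
            = ∑ ξ ∈ A, (ξ : G → ℂ) 1 * (b ξ : ℂ) := by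
          rw [← Finset.sum_subset (Finset.subset_univ A)]
          · exact Finset.sum_congr rfl (fun ξ _ => mul_comm _ _)
          · intro ξ _ hξ
            rw [hbz ξ hξ]; simp
        rw [← h2, ← h1]
        ring
      · rw [if_neg hηA, mul_zero, sub_zero]
        have hηn : (η : G → ℂ) 1 = n := by
          by_contra h; exact hηA ((hA η).mpr h)
        apply Finset.sum_eq_zero
        intro ξ hξ
        rw [closure m n hcd hmid χm ξ η (by rw [hχm]; exact hmn') ((hA ξ).mp hξ) hηn, mul_zero]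
  have hvan : ∀ g : G, g ≠ 1 → e g = 0 := by
    intro g hg
    have h1 := congrFun hD g
    simp only [Pi.zero_apply] at h1
    rcases mul_eq_zero.mp h1 with h2 | h2
    · exfalso
      apply hg
      apply hfaith
      rw [hχm]
      exact sub_eq_zero.mp h2
    · exact h2
  have h0 := he_inner χn
  rw [if_neg hχnA] at h0
  unfold classInner at h0
  rw [Finset.sum_eq_single 1 (fun g _ hg => by rw [hvan g hg, zero_mul])
    (fun h => absurd (Finset.mem_univ _) h)] at h0
  rw [hχn, Complex.conj_natCast] at h0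
  have hn0 : (n : ℂ) ≠ 0 := by exact_mod_cast (by omega : n ≠ 0)
  have he1 : e 1 = 0 := by
    rcases mul_eq_zero.mp h0 with h | h
    · exact absurd (inv_eq_zero.mp h) card_ne_zero_complex
    · rcases mul_eq_zero.mp h with h | h
      · exact h
      · exact absurd h hn0
  choose d hdpos hd using fun ξ : IrrCharacter G => irr_apply_one ξ
  have he1' : e 1 = ((∑ ξ ∈ A, d ξ * d ξ : ℕ) : ℂ) := by
    rw [he_apply 1]
    push_cast
    exact Finset.sum_congr rfl (fun ξ _ => by rw [hd ξ])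
  rw [he1'] at he1
  have hz : (∑ ξ ∈ A, d ξ * d ξ : ℕ) = 0 := by exact_mod_cast he1
  have hle : d χm * d χm ≤ ∑ ξ ∈ A, d ξ * d ξ :=
    Finset.single_le_sum (f := fun ξ => d ξ * d ξ) (fun _ _ => Nat.zero_le _) hχmA
  have hpos := hdpos χm
  nlinarith

end Cfsg.Agent.Lib.Helper17_Isaacs1215_PA1b
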