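import Mathlib
import Cfsg.Prelude.Def_Characters
import Cfsg.Agent.Lib.Helper51_Isaacs124
import Cfsg.Agent.Lib.Helper59_CliffordDeg
import Cfsg.Agent.Lib.Helper80_CharBasic
import Cfsg.Agent.Lib.Helper80_RelDegree
import Cfsg.Agent.Lib.Helper75_Clifford

/-!
# S4460 (Isaacs 12.15), part (A), package PF: the Frobenius case inside `G` (helper17)

`K ≤ N` normal in `G`, `N/K` an abelian `p`-group of order coprime to `[G:N] ≠ 1`, elements
outside `N` act without fixed points on `N/K`, `cd(G) ⊆ {1, m, n}` with `gcd(m,n) = 1`.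
Then `N` has at most two character degrees.
-/

set_option autoImplicit false
set_option linter.unusedSectionVars false
set_option linter.unusedVariables false

namespace Cfsg.Agent.Lib.Helper17_Isaacs1215_PF

open Cfsg
open Cfsg.Agent.Lib.Helper51_Isaacs124 Cfsg.Agent.Lib.Helper80_CharBasic

universe u

theorem natCast_inj_C {a b : ℕ} (h : (a : ℂ) = (b : ℂ)) : a = b := by exact_mod_cast h

/-- the core: `f = [G:N]` and `g` the other degree -/
theorem core {G : Type u} [Group G] [Fintype G] (K N : Subgroup G) [K.Normal] [N.Normal]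
    (hKN : K ≤ N) (hne : K ≠ N)
    (hab : ∀ x ∈ N, ∀ y ∈ N, x * y * x⁻¹ * y⁻¹ ∈ K)
    (hcop : (K.relIndex N).Coprime N.index)
    (hfpf : ∀ g : G, g ∉ N → ∀ x ∈ N, x⁻¹ * (g⁻¹ * x * g) ∈ K → x ∈ K)
    (p a : ℕ) (hp : p.Prime) (hrel : K.relIndex N = p ^ a) (hidx : N.index ≠ 1)
    (g : ℕ) (hfg : (N.index).Coprime g)
    (hcd : ∀ χ : IrrCharacter G, (χ : G → ℂ) 1 = 1 ∨ (χ : G → ℂ) 1 = (N.index : ℕ) ∨
      (χ : G → ℂ) 1 = g)
    (ψ : IrrCharacter N) : (ψ : N → ℂ) 1 = 1 ∨ (ψ : N → ℂ) 1 = g := by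
  classical
  have hf0 : N.index ≠ 0 := Subgroup.index_ne_zero_of_finite
  have ha : a ≠ 0 := by
    intro h0
    rw [h0, pow_zero, Subgroup.relIndex_eq_one] at hrel
    exact hne (le_antisymm hKN hrel)
  have hpf : ¬ p ∣ N.index := by
    intro h
    have h1 : p ∣ K.relIndex N := by rw [hrel]; exact dvd_pow_self p ha
    have h2 := Nat.dvd_gcd h1 h
    rw [Nat.Coprime.gcd_eq_one hcop] at h2
    exact hp.one_lt.ne' (Nat.dvd_one.mp h2)
  obtain ⟨d, hdpos, hd⟩ := irr_apply_one ψ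
  rcases isaacs_12_4_degree K N hKN hne hab hcop hfpf ψ d hd with ⟨χ, hχ⟩ | ⟨hvan, _⟩
  · rcases hcd χ with h | h | h
    · rw [hχ] at h
      have h1 : N.index * d = 1 := by exact_mod_cast h
      exact absurd (Nat.eq_one_of_mul_eq_one_right h1) hidx
    · rw [hχ] at h
      have h1 : N.index * d = N.index := by exact_mod_cast h
      have h2 : d = 1 := by
        have := Nat.eq_of_mul_eq_mul_left (Nat.pos_of_ne_zero hf0) (h1.trans (mul_one _).symm)
        exact this
      left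
      rw [hd, h2, Nat.cast_one]
    · rw [hχ] at h
      have h1 : N.index * d = g := by exact_mod_cast h
      have h2 : N.index ∣ g := ⟨d, h1.symm⟩
      have h3 := Nat.dvd_gcd (dvd_refl _) h2
      rw [Nat.Coprime.gcd_eq_one hfg] at h3
      exact absurd (Nat.dvd_one.mp h3) hidx
  · have hpd : p ∣ d := prime_dvd_of_vanish K N hKN hne ψ hvan d hd hp hrel
    have : Fintype N := Fintype.ofFinite N
    obtain ⟨χ, hχ, hcon⟩ := Cfsg.Agent.Lib.Helper59_CliffordDeg.exists_irr_over N ψ.2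
    obtain ⟨c, hcpos, hc⟩ := irr_apply_one (⟨χ, hχ⟩ : IrrCharacter G)
    obtain ⟨e, hce, hef⟩ := Cfsg.Agent.Lib.Helper80_RelDegree.rel_degree_dvd N χ hχ
      (ψ : N → ℂ) ψ.2 hcon c d hc hd
    rcases hcd ⟨χ, hχ⟩ with h | h | h
    · exfalso
      have h1 : c = 1 := by
        have h2 : (c : ℂ) = 1 := hc.symm.trans h
        exact_mod_cast h2
      have h2 : d ∣ 1 := by rw [← h1, hce]; exact dvd_mul_left d e
      have h3 := dvd_trans hpd h2
      exact hp.one_lt.ne' (Nat.dvd_one.mp h3)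
    · exfalso
      have h1 : c = N.index := natCast_inj_C (hc.symm.trans h)
      apply hpf
      rw [← h1, hce]
      exact dvd_trans hpd (dvd_mul_left d e)
    · right
      have h1 : c = g := natCast_inj_C (hc.symm.trans h)
      have h2 : e ∣ g := by rw [← h1, hce]; exact dvd_mul_right e d
      have h3 := Nat.dvd_gcd hef h2
      rw [Nat.Coprime.gcd_eq_one hfg] at h3
      have h4 : e = 1 := Nat.dvd_one.mp h3
      rw [hd, ← h1, hce, h4, one_mul]

/-- **PF** = the Frobenius case (inside `G`) of S4460 part (A). -/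
theorem PF {G : Type u} [Group G] [Finite G] (K N : Subgroup G) [K.Normal] [N.Normal]
    (hKN : K ≤ N) (hne : K ≠ N)
    (hab : ∀ x ∈ N, ∀ y ∈ N, x * y * x⁻¹ * y⁻¹ ∈ K)
    (hcop : (K.relIndex N).Coprime N.index)
    (hfpf : ∀ g : G, g ∉ N → ∀ x ∈ N, x⁻¹ * (g⁻¹ * x * g) ∈ K → x ∈ K)
    (p a : ℕ) (hp : p.Prime) (hrel : K.relIndex N = p ^ a) (hidx : N.index ≠ 1)
    (m n : ℕ) (hmn : m.Coprime n)
    (hcd : ∀ χ : IrrCharacter G, (χ : G → ℂ) 1 = 1 ∨ (χ : G → ℂ) 1 = m ∨ (χ : G → ℂ) 1 = n) :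
    ∃ g : ℕ, ∀ ψ : IrrCharacter N, (ψ : N → ℂ) 1 = 1 ∨ (ψ : N → ℂ) 1 = g := by
  classical
  have : Fintype G := Fintype.ofFinite G
  -- `f = N.index` is a character degree of `G`
  have h1 : (oneIrr N : N → ℂ) 1 = ((1 : ℕ) : ℂ) := by simp [oneIrr]
  rcases isaacs_12_4_degree K N hKN hne hab hcop hfpf (oneIrr N) 1 h1 with ⟨χ, hχ⟩ | ⟨_, hnc⟩
  · rw [mul_one] at hχ
    rcases hcd χ with h | h | h
    · rw [hχ] at h
      have : N.index = 1 := by exact_mod_cast h
      exact absurd this hidx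
    · have hfm : N.index = m := natCast_inj_C (hχ.symm.trans h)
      refine ⟨n, fun ψ => core K N hKN hne hab hcop hfpf p a hp hrel hidx n (by rw [hfm]; exact hmn)
        (fun χ => by rw [hfm]; exact hcd χ) ψ⟩
    · have hfn : N.index = n := natCast_inj_C (hχ.symm.trans h)
      refine ⟨m, fun ψ => core K N hKN hne hab hcop hfpf p a hp hrel hidx m
        (by rw [hfn]; exact hmn.symm)
        (fun χ => by
          rw [hfn]
          rcases hcd χ with h | h | h
          · exact Or.inl h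
          · exact Or.inr (Or.inr h)
          · exact Or.inr (Or.inl h)) ψ⟩
  · exact absurd (Nat.coprime_one_left _) hnc

end Cfsg.Agent.Lib.Helper17_Isaacs1215_PF
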