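import Mathlib
import Cfsg.Prelude.Def_OddOrderLocal
import Cfsg.Agent.Lib.Helper17_Sylow
import Cfsg.Agent.Lib.Helper66_Basic
import Cfsg.Agent.Lib.Helper4_KleinSylow
import Cfsg.Agent.S0992

/-!
# A TI centralizer of an abelian Sylow `3`-subgroup (helper17)

Group-theoretic part of S4018: `P` an abelian Sylow `3`-subgroup with `|N(P)| = 4|P|`,
`|C(P)| = 2|P|`, `C(P)` a TI-subgroup, every proper subgroup of even order of order dividing
`4|P|`, and `G` simple.  Then the Sylow `2`-subgroups are Klein four groups, all involutions are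
conjugate, `|C(z)| = 4|P|`, `|C(S)| = 4` and the number of involutions is at most
`2|P|(2|P| - 1) + 1`.
-/

set_option autoImplicit false
set_option linter.unusedSectionVars false
set_option linter.unusedVariables false

namespace Cfsg.Agent.Lib.Helper17_KleinTI

open Subgroup

variable {G : Type*} [Group G] [Finite G]

/-- The hypotheses of S4018 (without simplicity). -/
structure Hyp (P : Sylow 3 G) : Prop where
  hab : ∀ a ∈ (P : Subgroup G), ∀ b ∈ (P : Subgroup G), a * b = b * a
  hN : Nat.card (normalizer ((P : Subgroup G) : Set G)) = 4 * Nat.card P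
  hC : Nat.card (centralizer ((P : Subgroup G) : Set G)) = 2 * Nat.card P
  hTI : Cfsg.IsTISubset (centralizer ((P : Subgroup G) : Set G) : Set G)
  heven : ∀ H : Subgroup G, H ≠ ⊤ → 2 ∣ Nat.card H → Nat.card H ∣ 4 * Nat.card P

variable {P : Sylow 3 G}

local notation "nP" => Nat.card (P : Subgroup G)
local notation "CP" => centralizer ((P : Subgroup G) : Set G)
local notation "NP" => normalizer ((P : Subgroup G) : Set G)

instance fact3 : Fact (Nat.Prime 3) := ⟨Nat.prime_three⟩

theorem card_P_eq_pow (P : Sylow 3 G) : ∃ a : ℕ, Nat.card (P : Subgroup G) = 3 ^ a :=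
  (P.2 : IsPGroup 3 (P : Subgroup G)).exists_card_eq

theorem card_P_pos (P : Sylow 3 G) : 0 < Nat.card (P : Subgroup G) := Nat.card_pos

theorem odd_card_P (P : Sylow 3 G) : Odd (Nat.card (P : Subgroup G)) := by
  obtain ⟨a, ha⟩ := card_P_eq_pow P
  rw [ha]
  exact Odd.pow (by decide)

theorem P_le_C (h : Hyp P) : (P : Subgroup G) ≤ CP := by
  intro x hx
  rw [mem_centralizer_iff]
  intro y hy
  exact h.hab y hy x hx

theorem C_le_N : CP ≤ NP := centralizer_le_normalizer _

/-- `N(P)` normalizes `C(P)`. -/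
theorem conj_mem_C {g c : G} (hg : g ∈ NP) (hc : c ∈ CP) : g * c * g⁻¹ ∈ CP := by
  rw [mem_centralizer_iff] at hc ⊢
  intro y hy
  have hy' : g⁻¹ * y * g ∈ (P : Subgroup G) := by
    have := ((mem_normalizer_iff.mp (inv_mem hg)) y).mp hy
    simpa using this
  have := hc (g⁻¹ * y * g) hy'
  calc y * (g * c * g⁻¹) = g * ((g⁻¹ * y * g) * c) * g⁻¹ := by group
    _ = g * (c * (g⁻¹ * y * g)) * g⁻¹ := by rw [this]
    _ = g * c * g⁻¹ * y := by group

theorem not_comm (h : Hyp P) : ¬ (∀ a b : G, a * b = b * a) := by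
  intro hc
  have h1 : CP = ⊤ := by
    rw [eq_top_iff]
    intro x _
    rw [mem_centralizer_iff]
    intro y _
    exact hc y x
  have h2 : NP = ⊤ := by
    rw [eq_top_iff, ← h1]
    exact C_le_N
  have h3 := h.hN
  have h4 := h.hC
  rw [h2] at h3
  rw [h1] at h4
  have := card_P_pos P
  omega


theorem exists_invol (h : Hyp P) : ∃ z ∈ CP, orderOf z = 2 := by
  have h2 : 2 ∣ Nat.card CP := by rw [h.hC]; exact dvd_mul_right 2 _
  have : Fact (Nat.Prime 2) := ⟨Nat.prime_two⟩
  obtain ⟨z, hz⟩ := exists_prime_orderOf_dvd_card' 2 h2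
  exact ⟨z.1, z.2, by rw [← hz]; exact Subgroup.orderOf_coe z⟩

theorem relIndex_P_C (h : Hyp P) : (P : Subgroup G).relIndex CP = 2 := by
  have h1 := Cfsg.Agent.Lib.Helper17_Sylow.card_mul_relIndex_of_le (P_le_C h)
  rw [h.hC] at h1
  have := card_P_pos P
  have h2 : Nat.card (P : Subgroup G) * (P : Subgroup G).relIndex CP =
      Nat.card (P : Subgroup G) * 2 := by rw [h1]; ring
  exact Nat.eq_of_mul_eq_mul_left this h2

theorem mul_mem_P_iff (h : Hyp P) {a b : G} (ha : a ∈ CP) (hb : b ∈ CP) :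
    a * b ∈ (P : Subgroup G) ↔ (a ∈ (P : Subgroup G) ↔ b ∈ (P : Subgroup G)) := by
  have hidx : ((P : Subgroup G).subgroupOf CP).index = 2 := relIndex_P_C h
  have := Subgroup.mul_mem_iff_of_index_two hidx (a := (⟨a, ha⟩ : CP)) (b := ⟨b, hb⟩)
  simpa [mem_subgroupOf] using this

theorem eq_one_of_mem_P_of_sq {y : G} (hy : y ∈ (P : Subgroup G)) (h2 : y * y = 1) : y = 1 := by
  obtain ⟨k, hk⟩ := (P.2 : IsPGroup 3 (P : Subgroup G)) ⟨y, hy⟩
  have hk' : y ^ 3 ^ k = 1 := by
    have := congrArg Subtype.val hk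
    simpa using this
  have h3 : orderOf y ∣ 3 ^ k := orderOf_dvd_of_pow_eq_one hk'
  have h4 : orderOf y ∣ 2 := orderOf_dvd_of_pow_eq_one (by rw [pow_two]; exact h2)
  have h5 : orderOf y ∣ Nat.gcd (3 ^ k) 2 := Nat.dvd_gcd h3 h4
  have h6 : Nat.gcd (3 ^ k) 2 = 1 := by
    apply Nat.Coprime.pow_left
    decide
  rw [h6] at h5
  exact orderOf_eq_one_iff.mp (Nat.dvd_one.mp h5)

theorem not_mem_P_of_invol {u : G} (hu : orderOf u = 2) : u ∉ (P : Subgroup G) := by
  intro hmem
  have h2 : u * u = 1 := by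
    have := pow_orderOf_eq_one u
    rwa [hu, pow_two] at this
  have := eq_one_of_mem_P_of_sq hmem h2
  rw [this, orderOf_one] at hu
  omega

theorem mul_self_of_invol {u : G} (hu : orderOf u = 2) : u * u = 1 := by
  have := pow_orderOf_eq_one u
  rwa [hu, pow_two] at this

theorem inv_of_invol {u : G} (hu : orderOf u = 2) : u⁻¹ = u :=
  inv_eq_of_mul_eq_one_left (mul_self_of_invol hu)

theorem ne_one_of_invol {u : G} (hu : orderOf u = 2) : u ≠ 1 := by
  rintro rfl
  rw [orderOf_one] at hu
  omega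

theorem invol_unique (h : Hyp P) {u z : G} (huC : u ∈ CP) (hu : orderOf u = 2) (hzC : z ∈ CP)
    (hz : orderOf z = 2) : u = z := by
  have hy : u * z ∈ (P : Subgroup G) := by
    rw [mul_mem_P_iff h huC hzC]
    exact ⟨fun h' => absurd h' (not_mem_P_of_invol hu), fun h' => absurd h' (not_mem_P_of_invol hz)⟩
  have hzy : z * (u * z) = (u * z) * z := by
    have := (mem_centralizer_iff.mp hzC) (u * z) hy
    exact this.symm
  have hsq : (u * z) * (u * z) = 1 := by
    have hz2 := mul_self_of_invol hz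
    have hu2 := mul_self_of_invol hu
    calc (u * z) * (u * z) = u * (z * (u * z)) := by group
      _ = u * ((u * z) * z) := by rw [hzy]
      _ = (u * u) * (z * z) := by group
      _ = 1 := by rw [hz2, hu2, one_mul]
  have h1 := eq_one_of_mem_P_of_sq hy hsq
  have : u = z⁻¹ := eq_inv_of_mul_eq_one_left h1
  rw [this, inv_of_invol hz]

theorem z_comm (h : Hyp P) {z : G} (hzC : z ∈ CP) (hz : orderOf z = 2) {x : G} (hx : x ∈ CP) :
    z * x = x * z := by
  by_cases hxP : x ∈ (P : Subgroup G)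
  · exact ((mem_centralizer_iff.mp hzC) x hxP).symm
  · have hy : x * z ∈ (P : Subgroup G) := by
      rw [mul_mem_P_iff h hx hzC]
      exact ⟨fun h' => absurd h' hxP, fun h' => absurd h' (not_mem_P_of_invol hz)⟩
    have hzy : (x * z) * z = z * (x * z) := (mem_centralizer_iff.mp hzC) (x * z) hy
    have hz2 := mul_self_of_invol hz
    calc z * x = z * (x * (z * z)) := by rw [hz2, mul_one]
      _ = (z * (x * z)) * z := by group
      _ = ((x * z) * z) * z := by rw [hzy]
      _ = x * z * (z * z) := by group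
      _ = x * z := by rw [hz2, mul_one]


section Simple

variable [IsSimpleGroup G]

theorem not_isMulCommutative (h : Hyp P) : ¬ IsMulCommutative G :=
  fun hc => not_comm h (fun a b => hc.is_comm.comm a b)

theorem centralizer_ne_top (h : Hyp P) {z : G} (hz : orderOf z = 2) :
    centralizer ({z} : Set G) ≠ ⊤ := by
  intro htop
  have hzc : z ∈ center G := by
    rw [mem_center_iff]
    intro g
    have hg : g ∈ centralizer ({z} : Set G) := htop ▸ mem_top g
    exact ((mem_centralizer_iff.mp hg) z rfl).symm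
  rcases (inferInstance : (center G).Normal).eq_bot_or_eq_top with hb | ht
  · rw [hb, mem_bot] at hzc
    exact ne_one_of_invol hz hzc
  · apply not_comm h
    intro a b
    have ha : a ∈ center G := ht ▸ mem_top a
    exact ((mem_center_iff.mp ha) b).symm

theorem N_le_centralizer (h : Hyp P) {z : G} (hzC : z ∈ CP) (hz : orderOf z = 2) :
    NP ≤ centralizer ({z} : Set G) := by
  intro g hg
  rw [mem_centralizer_iff]
  intro y hy
  rw [Set.mem_singleton_iff] at hy
  subst hy
  have h1 : g * y * g⁻¹ ∈ CP := conj_mem_C hg hzC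
  have h2 : orderOf (g * y * g⁻¹) = 2 := by
    rw [Cfsg.Agent.Lib.Helper17_Sylow.orderOf_conj', hz]
  have h3 := invol_unique h h1 h2 hzC hz
  calc y * g = (g * y * g⁻¹) * g := by rw [h3]
    _ = g * y := by group

theorem centralizer_z_eq (h : Hyp P) {z : G} (hzC : z ∈ CP) (hz : orderOf z = 2) :
    centralizer ({z} : Set G) = NP := by
  have hle := N_le_centralizer h hzC hz
  have h2 : 2 ∣ Nat.card (centralizer ({z} : Set G)) := by
    have hzmem : z ∈ centralizer ({z} : Set G) := by
      rw [mem_centralizer_iff]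
      intro y hy
      rw [Set.mem_singleton_iff] at hy
      rw [hy]
    have := orderOf_dvd_natCard (⟨z, hzmem⟩ : centralizer ({z} : Set G))
    rwa [← Subgroup.orderOf_coe, hz] at this
  have h3 := h.heven _ (centralizer_ne_top h hz) h2
  have h4 : Nat.card (centralizer ({z} : Set G)) ≤ Nat.card NP := by
    rw [h.hN]
    exact Nat.le_of_dvd (by have := card_P_pos P; omega) h3
  exact (Subgroup.eq_of_le_of_card_ge hle h4).symm

theorem four_dvd_card (h : Hyp P) : 4 ∣ Nat.card G := by
  have h1 : Nat.card NP ∣ Nat.card G := Subgroup.card_subgroup_dvd_card _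
  rw [h.hN] at h1
  exact dvd_trans (dvd_mul_right 4 _) h1

theorem card_sylow2 (h : Hyp P) (S : Sylow 2 G) : Nat.card (S : Subgroup G) = 4 := by
  have : Fact (Nat.Prime 2) := ⟨Nat.prime_two⟩
  have h4 : 2 ^ 2 ∣ Nat.card (S : Subgroup G) :=
    S.pow_dvd_card_of_pow_dvd_card (by norm_num; exact four_dvd_card h)
  have hne : (S : Subgroup G) ≠ ⊤ := by
    intro htop
    apply not_isMulCommutative h
    apply Cfsg.Agent.S0992.isMulCommutative_of_isPGroup (p := 2)
    have hS : IsPGroup 2 (S : Subgroup G) := S.2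
    rw [htop] at hS
    intro g
    obtain ⟨k, hk⟩ := hS ⟨g, mem_top g⟩
    exact ⟨k, by simpa using congrArg Subtype.val hk⟩
  have h2 : 2 ∣ Nat.card (S : Subgroup G) := dvd_trans (by norm_num) h4
  have h5 := h.heven _ hne h2
  obtain ⟨k, hk⟩ := (S.2 : IsPGroup 2 (S : Subgroup G)).exists_card_eq
  rw [hk] at h5 h4 ⊢
  have hcop : Nat.Coprime (2 ^ k) (Nat.card (P : Subgroup G)) := by
    apply Nat.Coprime.pow_left
    exact (Nat.coprime_two_left).mpr (odd_card_P P)
  have h6 : 2 ^ k ∣ 4 := hcop.dvd_of_dvd_mul_right h5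
  have h7 : 2 ^ k ≤ 4 := Nat.le_of_dvd (by norm_num) h6
  have h8 : 4 ≤ 2 ^ k := Nat.le_of_dvd (by positivity) (by simpa using h4)
  omega

theorem not_eight_dvd (h : Hyp P) : ¬ 8 ∣ Nat.card G := by
  have : Fact (Nat.Prime 2) := ⟨Nat.prime_two⟩
  intro h8
  have S : Sylow 2 G := default
  have h1 : 2 ^ 3 ∣ Nat.card (S : Subgroup G) :=
    S.pow_dvd_card_of_pow_dvd_card (by norm_num; exact h8)
  rw [card_sylow2 h S] at h1
  norm_num at h1

theorem even_card (h : Hyp P) : Even (Nat.card G) := by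
  rw [even_iff_two_dvd]
  exact dvd_trans (by norm_num) (four_dvd_card h)

theorem isKleinFour_sylow (h : Hyp P) (S : Sylow 2 G) : IsKleinFour (S : Subgroup G) :=
  (Cfsg.Agent.S0992.result (not_isMulCommutative h) (even_card h) (not_eight_dvd h) S).1

theorem one_class (h : Hyp P) : ∀ s t : G, orderOf s = 2 → orderOf t = 2 → IsConj s t := by
  have : Fact (Nat.Prime 2) := ⟨Nat.prime_two⟩
  have S : Sylow 2 G := default
  obtain ⟨hK, hrel⟩ :=
    Cfsg.Agent.S0992.result (not_isMulCommutative h) (even_card h) (not_eight_dvd h) S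
  have hnle : ¬ normalizer ((S : Subgroup G) : Set G) ≤ centralizer ((S : Subgroup G) : Set G) := by
    intro hle
    have := Subgroup.relIndex_eq_one.mpr hle
    omega
  rw [SetLike.not_le_iff_exists] at hnle
  obtain ⟨n, hnN, hnC⟩ := hnle
  rw [mem_centralizer_iff] at hnC
  push Not at hnC
  obtain ⟨a, haS, han⟩ := hnC
  have haS' : a ∈ (S : Subgroup G) := haS
  have ha1 : a ≠ 1 := by
    rintro rfl
    simp at han
  have hb : n * a * n⁻¹ ∈ (S : Subgroup G) := ((mem_normalizer_iff.mp hnN) a).mp haS'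
  have hab : a ≠ n * a * n⁻¹ := by
    intro heq
    apply han
    calc a * n = (n * a * n⁻¹) * n := by rw [← heq]
      _ = n * a := by group
  have hb1 : n * a * n⁻¹ ≠ 1 := by
    intro h1
    apply ha1
    have : a = n⁻¹ * (n * a * n⁻¹) * n := by group
    rw [this, h1]
    group
  have hconj : IsConj a (n * a * n⁻¹) := isConj_iff.mpr ⟨n, rfl⟩
  have hall := Cfsg.Agent.Lib.Helper4_KleinSylow.klein_all_conj S hK a (n * a * n⁻¹) haS' hb ha1 hb1
    hab hconj
  intro s t hs ht
  obtain ⟨y, hy, hy1, hys⟩ := Cfsg.Agent.Lib.Helper4_KleinSylow.exists_conj_mem S hK s hs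
  obtain ⟨y', hy', hy1', hyt⟩ := Cfsg.Agent.Lib.Helper4_KleinSylow.exists_conj_mem S hK t ht
  exact (hys.symm.trans (hall y hy hy1).symm).trans ((hall y' hy' hy1').trans hyt)


theorem z_mem_centralizer (z : G) : z ∈ centralizer ({z} : Set G) := by
  rw [mem_centralizer_iff]
  intro y hy
  rw [Set.mem_singleton_iff] at hy
  rw [hy]

theorem mem_centralizer_singleton {z g : G} : g ∈ centralizer ({z} : Set G) ↔ z * g = g * z := by
  rw [mem_centralizer_iff]
  constructor
  · intro hg
    exact hg z rfl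
  · intro hg y hy
    rw [Set.mem_singleton_iff] at hy
    rw [hy]
    exact hg

/-- The normalizer of `C(P)` is `N(P)`. -/
theorem normalizer_C_eq (h : Hyp P) : normalizer ((CP : Subgroup G) : Set G) = NP := by
  obtain ⟨z, hzC, hz⟩ := exists_invol h
  have hle : NP ≤ normalizer ((CP : Subgroup G) : Set G) := by
    intro g hg
    rw [mem_normalizer_iff]
    intro c
    constructor
    · intro hc
      exact conj_mem_C hg hc
    · intro hc
      have := conj_mem_C (inv_mem hg) hc
      have h2 : g⁻¹ * (g * c * g⁻¹) * g⁻¹⁻¹ = c := by group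
      rwa [h2] at this
  have hne : normalizer ((CP : Subgroup G) : Set G) ≠ ⊤ := by
    intro htop
    have hnorm : (CP : Subgroup G).Normal := normalizer_eq_top_iff.mp htop
    rcases hnorm.eq_bot_or_eq_top with hb | ht
    · rw [hb, mem_bot] at hzC
      exact ne_one_of_invol hz hzC
    · have h1 := h.hC
      have h2 := h.hN
      have h3 : Nat.card NP ≤ Nat.card CP := by
        rw [ht]
        exact Subgroup.card_le_card_group NP |>.trans (by rw [Subgroup.card_top])
      have := card_P_pos P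
      omega
  have h2 : 2 ∣ Nat.card (normalizer ((CP : Subgroup G) : Set G)) := by
    have h1 := Subgroup.card_dvd_of_le hle
    rw [h.hN] at h1
    exact dvd_trans (by norm_num) (dvd_trans (dvd_mul_right 4 _) h1)
  have h3 := h.heven _ hne h2
  have h4 : Nat.card (normalizer ((CP : Subgroup G) : Set G)) ≤ Nat.card NP := by
    rw [h.hN]
    exact Nat.le_of_dvd (by have := card_P_pos P; omega) h3
  exact (Subgroup.eq_of_le_of_card_ge hle h4).symm

/-- A nontrivial element of `C(P)` conjugated into `C(P)` forces the conjugating element into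
`N(P)`. -/
theorem mem_N_of_conj_mem (h : Hyp P) {g c : G} (hc : c ∈ CP) (hc1 : c ≠ 1)
    (hgc : g * c * g⁻¹ ∈ CP) : g ∈ NP := by
  rw [← normalizer_C_eq h]
  by_contra hg
  exact hc1 (h.hTI g hg c hc hgc)

theorem card_centralizer_sylow2 (h : Hyp P) {z : G} (hzC : z ∈ CP) (hz : orderOf z = 2)
    (S : Sylow 2 G) (hzS : z ∈ (S : Subgroup G)) :
    Nat.card (centralizer ((S : Subgroup G) : Set G)) = 4 := by
  have hK := isKleinFour_sylow h S
  have hS4 := card_sylow2 h S
  have hSle : (S : Subgroup G) ≤ centralizer ((S : Subgroup G) : Set G) := by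
    intro a ha
    rw [mem_centralizer_iff]
    intro b hb
    exact Cfsg.Agent.Lib.Helper4_KleinSylow.klein_comm S hK b hb a ha
  have hle : centralizer ((S : Subgroup G) : Set G) ≤ NP := by
    rw [← centralizer_z_eq h hzC hz]
    apply centralizer_le
    intro y hy
    rw [Set.mem_singleton_iff] at hy
    rw [hy]
    exact hzS
  -- an involution of `S` other than `z`
  have hex : ∃ s ∈ (S : Subgroup G), s ≠ 1 ∧ s ≠ z := by
    by_contra hno
    push Not at hno
    have hsub : ((S : Subgroup G) : Set G) ⊆ ({1, z} : Set G) := by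
      intro s hs
      by_cases h1 : s = 1
      · left; exact h1
      · right; exact hno s hs h1
    have h1 : Nat.card (S : Subgroup G) ≤ 2 := by
      have : Nat.card (S : Subgroup G) = ((S : Subgroup G) : Set G).ncard := rfl
      rw [this]
      calc ((S : Subgroup G) : Set G).ncard ≤ ({1, z} : Set G).ncard :=
            Set.ncard_le_ncard hsub (Set.toFinite _)
        _ ≤ ({z} : Set G).ncard + 1 := Set.ncard_insert_le 1 {z}
        _ = 2 := by rw [Set.ncard_singleton]
    omega
  obtain ⟨s, hsS, hs1, hsz⟩ := hex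
  have hs2 : orderOf s = 2 := Cfsg.Agent.Lib.Helper4_KleinSylow.klein_orderOf S hK s hsS hs1
  have hsC : s ∉ CP := fun hsC => hsz (invol_unique h hsC hs2 hzC hz)
  obtain ⟨g, hg⟩ := isConj_iff.mp (one_class h z s hz hs2)
  -- no element of order three
  have h3 : ¬ 3 ∣ Nat.card (centralizer ((S : Subgroup G) : Set G)) := by
    intro hdvd
    obtain ⟨x, hx⟩ := exists_prime_orderOf_dvd_card' 3 hdvd
    have hx3 : orderOf (x : G) = 3 := by rw [Subgroup.orderOf_coe]; exact hx
    have hxN : (x : G) ∈ NP := hle x.2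
    have hxP : (x : G) ∈ (P : Subgroup G) :=
      Cfsg.Agent.Lib.Helper17_Sylow.mem_sylow_of_mem_normalizer P x hx3 hxN
    have hxs : s * (x : G) = (x : G) * s := ((mem_centralizer_iff.mp x.2) s hsS)
    have hx'N : g⁻¹ * (x : G) * g ∈ NP := by
      rw [← centralizer_z_eq h hzC hz, mem_centralizer_singleton]
      have hz' : z = g⁻¹ * s * g := by rw [← hg]; group
      rw [hz']
      calc g⁻¹ * s * g * (g⁻¹ * (x : G) * g) = g⁻¹ * (s * (x : G)) * g := by group
        _ = g⁻¹ * ((x : G) * s) * g := by rw [hxs]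
        _ = g⁻¹ * (x : G) * g * (g⁻¹ * s * g) := by group
    have hx'3 : orderOf (g⁻¹ * (x : G) * g) = 3 := by
      have := Cfsg.Agent.Lib.Helper17_Sylow.orderOf_conj' (x : G) g⁻¹
      rw [inv_inv] at this
      rw [this, hx3]
    have hx'P : g⁻¹ * (x : G) * g ∈ (P : Subgroup G) :=
      Cfsg.Agent.Lib.Helper17_Sylow.mem_sylow_of_mem_normalizer P _ hx'3 hx'N
    have hx1 : (x : G) ≠ 1 := by
      intro h1
      rw [h1, orderOf_one] at hx3
      omega
    have hgN : g⁻¹ ∈ NP := by
      apply mem_N_of_conj_mem h (P_le_C h hxP) hx1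
      rw [inv_inv]
      exact P_le_C h hx'P
    have hgN' : g ∈ NP := by simpa using inv_mem hgN
    apply hsC
    rw [← hg]
    exact conj_mem_C hgN' hzC
  have hdvd : Nat.card (centralizer ((S : Subgroup G) : Set G)) ∣ 4 * Nat.card (P : Subgroup G) := by
    rw [← h.hN]
    exact Subgroup.card_dvd_of_le hle
  obtain ⟨a, ha⟩ := card_P_eq_pow P
  rw [ha] at hdvd
  have hcop : Nat.Coprime (Nat.card (centralizer ((S : Subgroup G) : Set G))) (3 ^ a) := by
    apply Nat.Coprime.pow_right
    rw [Nat.coprime_comm]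
    exact (Nat.Prime.coprime_iff_not_dvd Nat.prime_three).mpr h3
  have h4 : Nat.card (centralizer ((S : Subgroup G) : Set G)) ∣ 4 := hcop.dvd_of_dvd_mul_right hdvd
  have h5 : 4 ∣ Nat.card (centralizer ((S : Subgroup G) : Set G)) := by
    rw [← hS4]
    exact Subgroup.card_dvd_of_le hSle
  exact Nat.dvd_antisymm h4 h5


theorem isPGroup_zpowers_of_pow_card (w : G) (hw : w ^ Nat.card (P : Subgroup G) = 1) :
    IsPGroup 3 (zpowers w) := by
  obtain ⟨a, ha⟩ := card_P_eq_pow P
  rw [ha] at hw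
  have h1 : orderOf w ∣ 3 ^ a := orderOf_dvd_of_pow_eq_one hw
  obtain ⟨j, _, hj⟩ := (Nat.dvd_prime_pow Nat.prime_three).mp h1
  apply IsPGroup.of_card (n := j)
  rw [Nat.card_zpowers, hj]

theorem sq_eq_one_of_pow_four (h : Hyp P) (y : G) (hy : y ^ 4 = 1) : y * y = 1 := by
  have : Fact (Nat.Prime 2) := ⟨Nat.prime_two⟩
  have h1 : orderOf y ∣ 2 ^ 2 := orderOf_dvd_of_pow_eq_one (by norm_num; exact hy)
  obtain ⟨k, _, hk⟩ := (Nat.dvd_prime_pow Nat.prime_two).mp h1
  have hp : IsPGroup 2 (zpowers y) := by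
    apply IsPGroup.of_card (n := k)
    rw [Nat.card_zpowers, hk]
  obtain ⟨S, hS⟩ := hp.exists_le_sylow
  exact Cfsg.Agent.Lib.Helper4_KleinSylow.klein_mul_self S (isKleinFour_sylow h S) y
    (hS (mem_zpowers y))

/-- An element inverted by an involution has order dividing `2|P|`. -/
theorem pow_two_mul_card_eq_one (h : Hyp P) {z x : G} (hz : orderOf z = 2) (hx1 : x ≠ 1)
    (hinv : z * x * z⁻¹ = x⁻¹) : x ^ (2 * Nat.card (P : Subgroup G)) = 1 := by
  have hzi : z⁻¹ = z := inv_of_invol hz
  have hzN : z ∈ normalizer ((zpowers x : Subgroup G) : Set G) := by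
    rw [mem_normalizer_iff]
    intro y
    constructor
    · intro hy
      obtain ⟨k, rfl⟩ := mem_zpowers_iff.mp hy
      have : z * x ^ k * z⁻¹ = (x ^ k)⁻¹ := by
        rw [← conj_zpow, hinv, inv_zpow]
      rw [this]
      exact inv_mem (zpow_mem (mem_zpowers x) k)
    · intro hy
      obtain ⟨k, hk⟩ := mem_zpowers_iff.mp hy
      have h1 : y = z⁻¹ * (x ^ k) * z := by rw [hk]; group
      have h2 : z⁻¹ * x ^ k * z = (x ^ k)⁻¹ := by
        have : z⁻¹ * x ^ k * z = z * x ^ k * z⁻¹ := by rw [hzi]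
        rw [this, ← conj_zpow, hinv, inv_zpow]
      rw [h1, h2]
      exact inv_mem (zpow_mem (mem_zpowers x) k)
  have hne : normalizer ((zpowers x : Subgroup G) : Set G) ≠ ⊤ := by
    intro htop
    have hnorm : (zpowers x : Subgroup G).Normal := normalizer_eq_top_iff.mp htop
    rcases hnorm.eq_bot_or_eq_top with hb | ht
    · apply hx1
      have := mem_zpowers x
      rwa [hb, mem_bot] at this
    · apply not_comm h
      have hcyc : IsCyclic G := ⟨⟨x, fun y => by rw [← mem_zpowers_iff, ht]; exact mem_top y⟩⟩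
      intro a b
      exact (IsCyclic.commGroup (α := G)).mul_comm a b
  have h2 : 2 ∣ Nat.card (normalizer ((zpowers x : Subgroup G) : Set G)) := by
    have := orderOf_dvd_natCard (⟨z, hzN⟩ : normalizer ((zpowers x : Subgroup G) : Set G))
    rwa [← Subgroup.orderOf_coe, hz] at this
  have h3 := h.heven _ hne h2
  have h4 : orderOf x ∣ 4 * Nat.card (P : Subgroup G) := by
    rw [← Nat.card_zpowers]
    exact dvd_trans (Subgroup.card_dvd_of_le le_normalizer) h3
  have h5 : x ^ (4 * Nat.card (P : Subgroup G)) = 1 := orderOf_dvd_iff_pow_eq_one.mp h4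
  have h6 : (x ^ Nat.card (P : Subgroup G)) ^ 4 = 1 := by
    rw [← pow_mul, mul_comm]
    exact h5
  have h7 := sq_eq_one_of_pow_four h _ h6
  rw [two_mul, pow_add]
  exact h7

/-- An element of order dividing `2|P|` is conjugate into `C(P)`. -/
theorem exists_conj_mem_C (h : Hyp P) {z : G} (hzC : z ∈ CP) (hz : orderOf z = 2) {x : G}
    (hx : x ^ (2 * Nat.card (P : Subgroup G)) = 1) : ∃ g : G, g⁻¹ * x * g ∈ CP := by
  set n := Nat.card (P : Subgroup G) with hn
  obtain ⟨k, hk⟩ := odd_card_P P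
  have hyy : x ^ n * x ^ n = 1 := by rw [← pow_add, ← two_mul]; exact hx
  have htn : (x ^ (n + 1)) ^ n = 1 := by
    rw [← pow_mul]
    have : (n + 1) * n = (2 * n) * (k + 1) := by rw [← hn] at hk; rw [hk]; ring
    rw [this, pow_mul, hx, one_pow]
  have hxyt : x = x ^ n * x ^ (n + 1) := by
    rw [← pow_add]
    have : n + (n + 1) = 2 * n + 1 := by ring
    rw [this, pow_succ, hx, one_mul]
  by_cases hy1 : x ^ n = 1
  · have hp : IsPGroup 3 (zpowers x) := isPGroup_zpowers_of_pow_card (P := P) x hy1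
    obtain ⟨Q, hQ⟩ := hp.exists_le_sylow
    obtain ⟨g, hg⟩ := MulAction.exists_smul_eq G P Q
    refine ⟨g, P_le_C h ?_⟩
    rw [← Cfsg.Agent.Lib.Helper17_Sylow.mem_smul_sylow, hg]
    exact hQ (mem_zpowers x)
  · have hy2 : orderOf (x ^ n) = 2 := by
      apply orderOf_eq_prime
      · rw [pow_two]; exact hyy
      · exact hy1
    obtain ⟨g, hg⟩ := isConj_iff.mp (one_class h z (x ^ n) hz hy2)
    have hcomm : x ^ n * x ^ (n + 1) = x ^ (n + 1) * x ^ n :=
      ((Commute.refl x).pow_pow n (n + 1)).eq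
    have hz' : z = g⁻¹ * x ^ n * g := by rw [← hg]; group
    have ht'N : g⁻¹ * x ^ (n + 1) * g ∈ NP := by
      rw [← centralizer_z_eq h hzC hz, mem_centralizer_singleton, hz']
      calc g⁻¹ * x ^ n * g * (g⁻¹ * x ^ (n + 1) * g) = g⁻¹ * (x ^ n * x ^ (n + 1)) * g := by group
        _ = g⁻¹ * (x ^ (n + 1) * x ^ n) * g := by rw [hcomm]
        _ = g⁻¹ * x ^ (n + 1) * g * (g⁻¹ * x ^ n * g) := by group
    have ht'n : (g⁻¹ * x ^ (n + 1) * g) ^ n = 1 := by
      have : g⁻¹ * x ^ (n + 1) * g = g⁻¹ * x ^ (n + 1) * g⁻¹⁻¹ := by rw [inv_inv]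
      rw [this, conj_pow, htn]
      group
    have hp : IsPGroup 3 (zpowers (g⁻¹ * x ^ (n + 1) * g)) :=
      isPGroup_zpowers_of_pow_card (P := P) _ ht'n
    have ht'P : g⁻¹ * x ^ (n + 1) * g ∈ (P : Subgroup G) :=
      Cfsg.Agent.Lib.Helper17_Sylow.le_sylow_of_le_normalizer P _ hp
        (by rw [zpowers_le]; exact ht'N) (mem_zpowers _)
    refine ⟨g, ?_⟩
    have : g⁻¹ * x * g = z * (g⁻¹ * x ^ (n + 1) * g) := by
      rw [hz']
      calc g⁻¹ * x * g = g⁻¹ * (x ^ n * x ^ (n + 1)) * g := by rw [← hxyt]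
        _ = g⁻¹ * x ^ n * g * (g⁻¹ * x ^ (n + 1) * g) := by group
    rw [this]
    exact mul_mem hzC (P_le_C h ht'P)


/-- The number of involutions is at most `2|P|(2|P| - 1) + 1`. -/
theorem card_invol_le (h : Hyp P) :
    Nat.card {t : G // orderOf t = 2} ≤
      2 * Nat.card (P : Subgroup G) * (2 * Nat.card (P : Subgroup G) - 1) + 1 := by
  classical
  have : Fintype G := Fintype.ofFinite G
  obtain ⟨z, hzC, hz⟩ := exists_invol h
  set n := Nat.card (P : Subgroup G) with hn
  have hNz := centralizer_z_eq h hzC hz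
  have hzi : z⁻¹ = z := inv_of_invol hz
  have hzz : z * z = 1 := mul_self_of_invol hz
  let I : Finset G := Finset.univ.filter (fun t => orderOf t = 2)
  let W : Finset G := Finset.univ.filter (fun w => orderOf w = 2 ∧ w ∈ NP ∧ w ∉ CP)
  let gsel : G → G := fun w =>
    if hw : ∃ g : G, g * z * g⁻¹ = w then Classical.choose hw else 1
  let A : G → Finset G := fun w =>
    Finset.univ.filter (fun v => (gsel w)⁻¹ * (z * v) * gsel w ∈ CP ∧ z * v ≠ 1)
  let Nf : Finset G := Finset.univ.filter (fun g => g ∈ NP)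
  let Cf : Finset G := Finset.univ.filter (fun g => g ∈ CP)
  have hcardI : Nat.card {t : G // orderOf t = 2} = I.card := by
    rw [Nat.card_eq_fintype_card, Fintype.card_subtype]
  have hNf : Nf.card = 4 * n := by
    rw [← h.hN, Nat.card_eq_fintype_card, Fintype.card_subtype]
  have hCf : Cf.card = 2 * n := by
    rw [← h.hC, Nat.card_eq_fintype_card, Fintype.card_subtype]
  have hCN : Cf ⊆ Nf := by
    intro g hg
    simp only [Cf, Nf, Finset.mem_filter, Finset.mem_univ, true_and] at hg ⊢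
    exact C_le_N hg
  have hW : W.card ≤ 2 * n := by
    have hsub : W ⊆ Nf \ Cf := by
      intro w hw
      simp only [W, Nf, Cf, Finset.mem_filter, Finset.mem_univ, true_and, Finset.mem_sdiff] at hw ⊢
      exact ⟨hw.2.1, hw.2.2⟩
    have h1 := Finset.card_le_card hsub
    rw [Finset.card_sdiff_of_subset hCN, hNf, hCf] at h1
    omega
  have hA : ∀ w, (A w).card ≤ 2 * n - 1 := by
    intro w
    have h1 : (Cf.erase 1).card = 2 * n - 1 := by
      rw [Finset.card_erase_of_mem, hCf]
      simp only [Cf, Finset.mem_filter, Finset.mem_univ, true_and]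
      exact one_mem _
    rw [← h1]
    apply Finset.card_le_card_of_injOn (fun v => (gsel w)⁻¹ * (z * v) * gsel w)
    · intro v hv
      simp only [A, Finset.coe_filter, Finset.mem_univ, true_and, Set.mem_ofPred_eq] at hv
      simp only [Cf, Finset.coe_erase, Finset.coe_filter, Finset.mem_univ, true_and,
        Set.mem_sdiff, Set.mem_ofPred_eq, Set.mem_singleton_iff]
      refine ⟨hv.1, ?_⟩
      intro h1
      apply hv.2
      have : z * v = gsel w * ((gsel w)⁻¹ * (z * v) * gsel w) * (gsel w)⁻¹ := by group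
      rw [this, h1]
      group
    · intro v _ v' _ hvv
      simp only at hvv
      have h2 : z * v = z * v' := by
        have e1 : z * v = gsel w * ((gsel w)⁻¹ * (z * v) * gsel w) * (gsel w)⁻¹ := by group
        have e2 : z * v' = gsel w * ((gsel w)⁻¹ * (z * v') * gsel w) * (gsel w)⁻¹ := by group
        rw [e1, e2, hvv]
      exact mul_left_cancel h2
  have hcover : I.erase z ⊆ W.biUnion A := by
    intro v hv
    rw [Finset.mem_erase] at hv
    obtain ⟨hvz, hvI⟩ := hv
    have hv2 : orderOf v = 2 := by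
      simpa only [I, Finset.mem_filter, Finset.mem_univ, true_and] using hvI
    have hvi : v⁻¹ = v := inv_of_invol hv2
    have hx1 : z * v ≠ 1 := by
      intro h1
      apply hvz
      have : v = z⁻¹ := eq_inv_of_mul_eq_one_right h1
      rw [this, hzi]
    have hinv : z * (z * v) * z⁻¹ = (z * v)⁻¹ := by
      rw [mul_inv_rev, hvi, hzi]
      calc z * (z * v) * z = (z * z) * v * z := by group
        _ = v * z := by rw [hzz, one_mul]
    have hpow := pow_two_mul_card_eq_one h hz hx1 hinv
    obtain ⟨g, hg⟩ := exists_conj_mem_C h hzC hz hpow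
    have hc1 : g⁻¹ * (z * v) * g ≠ 1 := by
      intro h1
      apply hx1
      have : z * v = g * (g⁻¹ * (z * v) * g) * g⁻¹ := by group
      rw [this, h1]
      group
    have hconj : (g⁻¹ * z * g) * (g⁻¹ * (z * v) * g) * (g⁻¹ * z * g)⁻¹ =
        (g⁻¹ * (z * v) * g)⁻¹ := by
      calc (g⁻¹ * z * g) * (g⁻¹ * (z * v) * g) * (g⁻¹ * z * g)⁻¹
          = g⁻¹ * (z * (z * v) * z⁻¹) * g := by group
        _ = g⁻¹ * (z * v)⁻¹ * g := by rw [hinv]
        _ = (g⁻¹ * (z * v) * g)⁻¹ := by group
    have hz'N : g⁻¹ * z * g ∈ NP := by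
      apply mem_N_of_conj_mem h hg hc1
      rw [hconj]
      exact inv_mem hg
    have hz'z : z * (g⁻¹ * z * g) = (g⁻¹ * z * g) * z := by
      rw [← hNz, mem_centralizer_singleton] at hz'N
      exact hz'N
    have hw2 : orderOf (g * z * g⁻¹) = 2 := by
      rw [Cfsg.Agent.Lib.Helper17_Sylow.orderOf_conj', hz]
    have hwN : g * z * g⁻¹ ∈ NP := by
      rw [← hNz, mem_centralizer_singleton]
      calc z * (g * z * g⁻¹) = g * ((g⁻¹ * z * g) * z) * g⁻¹ := by group
        _ = g * (z * (g⁻¹ * z * g)) * g⁻¹ := by rw [hz'z]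
        _ = g * z * g⁻¹ * z := by group
    have hwC : g * z * g⁻¹ ∉ CP := by
      intro hwC
      have hwz : g * z * g⁻¹ = z := invol_unique h hwC hw2 hzC hz
      have hz'eq : g⁻¹ * z * g = z := by
        calc g⁻¹ * z * g = g⁻¹ * (g * z * g⁻¹) * g := by rw [hwz]
          _ = z := by group
      rw [hz'eq] at hconj
      have hcz : z * (g⁻¹ * (z * v) * g) = (g⁻¹ * (z * v) * g) * z := z_comm h hzC hz hg
      have hcc : (g⁻¹ * (z * v) * g) * (g⁻¹ * (z * v) * g) = 1 := by
        have e1 : z * (g⁻¹ * (z * v) * g) * z⁻¹ = g⁻¹ * (z * v) * g := by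
          rw [hcz]; group
        rw [e1] at hconj
        calc (g⁻¹ * (z * v) * g) * (g⁻¹ * (z * v) * g)
            = (g⁻¹ * (z * v) * g) * (g⁻¹ * (z * v) * g)⁻¹ := by rw [← hconj]
          _ = 1 := mul_inv_cancel _
      have hc2 : orderOf (g⁻¹ * (z * v) * g) = 2 := by
        apply orderOf_eq_prime
        · rw [pow_two]; exact hcc
        · exact hc1
      have hcz' : g⁻¹ * (z * v) * g = z := invol_unique h hg hc2 hzC hz
      have hxz : z * v = z := by
        calc z * v = g * (g⁻¹ * (z * v) * g) * g⁻¹ := by group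
          _ = g * z * g⁻¹ := by rw [hcz']
          _ = z := hwz
      have hv1 : v = 1 := by
        have := mul_left_cancel (a := z) (b := v) (c := 1) (by rw [hxz, mul_one])
        exact this
      exact ne_one_of_invol hv2 hv1
    rw [Finset.mem_biUnion]
    refine ⟨g * z * g⁻¹, ?_, ?_⟩
    · simp only [W, Finset.mem_filter, Finset.mem_univ, true_and]
      exact ⟨hw2, hwN, hwC⟩
    · simp only [A, Finset.mem_filter, Finset.mem_univ, true_and]
      refine ⟨?_, hx1⟩
      have hex : ∃ g' : G, g' * z * g'⁻¹ = g * z * g⁻¹ := ⟨g, rfl⟩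
      have hsel : gsel (g * z * g⁻¹) = Classical.choose hex := by
        simp only [gsel]
        rw [dif_pos hex]
      have hspec := Classical.choose_spec hex
      rw [hsel]
      set g' := Classical.choose hex with hg'
      have hmN : g⁻¹ * g' ∈ NP := by
        rw [← hNz, mem_centralizer_singleton]
        calc z * (g⁻¹ * g') = g⁻¹ * (g * z * g⁻¹) * g' := by group
          _ = g⁻¹ * (g' * z * g'⁻¹) * g' := by rw [hspec]
          _ = g⁻¹ * g' * z := by group
      have := conj_mem_C (inv_mem hmN) hg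
      have e : (g⁻¹ * g')⁻¹ * (g⁻¹ * (z * v) * g) * (g⁻¹ * g')⁻¹⁻¹ = g'⁻¹ * (z * v) * g' := by
        group
      rwa [e] at this
  rw [hcardI]
  have h1 : I.card - 1 ≤ (I.erase z).card := Finset.pred_card_le_card_erase
  have h2 : (I.erase z).card ≤ (W.biUnion A).card := Finset.card_le_card hcover
  have h3 : (W.biUnion A).card ≤ ∑ w ∈ W, (A w).card := Finset.card_biUnion_le
  have h4 : ∑ w ∈ W, (A w).card ≤ W.card • (2 * n - 1) :=
    Finset.sum_le_card_nsmul W _ _ (fun w _ => hA w)
  rw [smul_eq_mul] at h4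
  have h5 : W.card * (2 * n - 1) ≤ 2 * n * (2 * n - 1) := Nat.mul_le_mul_right _ hW
  omega

/-- `|G| = 4|P|` times the number of involutions. -/
theorem card_eq_mul_card_invol (h : Hyp P) :
    Nat.card G = 4 * Nat.card (P : Subgroup G) * Nat.card {t : G // orderOf t = 2} := by
  obtain ⟨z, hzC, hz⟩ := exists_invol h
  have h1 := Cfsg.Agent.Lib.Helper17_Sylow.card_centralizer_mul_card_conj z
  rw [centralizer_z_eq h hzC hz, h.hN] at h1
  rw [← h1]
  congr 1
  apply Nat.card_congr
  refine
    { toFun := fun y => ⟨y.1, ?_⟩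
      invFun := fun t => ⟨t.1, one_class h z t.1 hz t.2⟩
      left_inv := fun y => rfl
      right_inv := fun t => rfl }
  rw [Cfsg.Agent.Lib.Helper17_Sylow.orderOf_of_isConj y.2]
  exact hz

end Simple

end Cfsg.Agent.Lib.Helper17_KleinTI
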