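import Mathlib

/-!
# Simple groups of order 7920: shared vocabulary (helper53)

`M11Facts G` bundles what the first wave of the M11 cluster proves about a simple group of order
`7920` (Sylow 11- and 5-normalizers, number of conjugacy classes); `ClassData G R` says that `R`
is a set of representatives of the (at most six) classes of nonidentity `{2,3}`-elements, with the
class equation in the form `∑ 144 / |C(r)| = 89`.
-/

set_option autoImplicit false

namespace Cfsg.Agent.Lib.Helper53_M11Defs

/-- The facts about a simple group of order `7920` established by the first wave. -/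
structure M11Facts (G : Type*) [Group G] [Finite G] : Prop where
  simple : IsSimpleGroup G
  card : Nat.card G = 7920
  s11 : ∀ P : Sylow 11 G,
    Nat.card (Subgroup.normalizer ((P : Subgroup G) : Set G)) = 55 ∧
    Subgroup.centralizer ((P : Subgroup G) : Set G) = (P : Subgroup G)
  s5 : ∀ P : Sylow 5 G,
    Nat.card (Subgroup.normalizer ((P : Subgroup G) : Set G)) = 20 ∧
    Subgroup.centralizer ((P : Subgroup G) : Set G) = (P : Subgroup G)
  classes : Nat.card (ConjClasses G) = 10

/-- `R` is a set of representatives of the conjugacy classes of nonidentity elements `g` with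
`g ^ 144 = 1` (the `{2,3}`-elements), there are at most six of them, their centralizers have order
dividing `144`, and the class equation reads `∑ 144 / |C(r)| = 89`. -/
structure ClassData (G : Type*) [Group G] [Finite G] (R : Finset G) : Prop where
  card_le : R.card ≤ 6
  mem : ∀ r ∈ R, r ≠ 1 ∧ r ^ 144 = 1
  inj : ∀ r ∈ R, ∀ r' ∈ R, IsConj r r' → r = r'
  surj : ∀ g : G, g ≠ 1 → g ^ 144 = 1 → ∃ r ∈ R, IsConj g r
  dvd : ∀ g : G, g ≠ 1 → g ^ 144 = 1 →
    Nat.card (Subgroup.centralizer ({g} : Set G)) ∣ 144
  sum : ∑ r ∈ R, 144 / Nat.card (Subgroup.centralizer ({r} : Set G)) = 89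

end Cfsg.Agent.Lib.Helper53_M11Defs
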