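import Mathlib
import Cfsg.Agent.Lib.Helper53_M11Defs
import Cfsg.Agent.Lib.Helper17_Sylow

/-!
# M11 cluster (S0434/S0435), package T3a (helper17)

In a simple group of order `7920` (with the facts of the first wave and of T1, T2, N5S, INV8) no
involution centralizes a Sylow 3-subgroup.
-/

set_option autoImplicit false
set_option linter.unusedSectionVars false
set_option linter.unusedVariables false

namespace Cfsg.Agent.Lib.Helper17_M11_T3a

open Cfsg.Agent.Lib.Helper53_M11Defs Subgroup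

/-! ### general lemmas -/

section General

variable {G : Type*} [Group G]

theorem mem_cent {a g : G} : g ∈ centralizer ({a} : Set G) ↔ g * a = a * g :=
  Subgroup.mem_centralizer_singleton_iff

theorem card_centralizer_of_isConj {a b : G} (h : IsConj a b) :
    Nat.card (centralizer ({a} : Set G)) = Nat.card (centralizer ({b} : Set G)) := by
  obtain ⟨g, hg⟩ := isConj_iff.mp h
  have := Cfsg.Agent.Lib.Helper17_Sylow.card_centralizer_conj a g⁻¹
  rw [inv_inv] at this
  rw [← hg, this]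

/-- the only involution in a cyclic group of order four is the square of the generator -/
theorem eq_sq_of_mem_zpowers {u x : G} (hu : orderOf u = 4) (hx : x ∈ zpowers u)
    (hx2 : x * x = 1) (hx1 : x ≠ 1) : x = u ^ 2 := by
  obtain ⟨k, rfl⟩ := Subgroup.mem_zpowers_iff.mp hx
  have h1 : u ^ (k + k) = 1 := by rw [zpow_add]; exact hx2
  have h2 : ((orderOf u : ℕ) : ℤ) ∣ k + k := orderOf_dvd_iff_zpow_eq_one.mpr h1
  rw [hu] at h2
  have h3 : (2 : ℤ) ∣ k := by omega
  obtain ⟨j, rfl⟩ := h3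
  have hu4 : u ^ (4 : ℤ) = 1 := by
    have := pow_orderOf_eq_one u
    rw [hu] at this
    exact_mod_cast this
  rcases Int.emod_two_eq_zero_or_one j with hj | hj
  · exfalso
    apply hx1
    obtain ⟨i, rfl⟩ : (2 : ℤ) ∣ j := Int.dvd_of_emod_eq_zero hj
    rw [show (2 : ℤ) * (2 * i) = 4 * i by ring, zpow_mul, hu4, one_zpow]
  · obtain ⟨i, hi⟩ : ∃ i, j = 2 * i + 1 := ⟨j / 2, by omega⟩
    rw [hi, show (2 : ℤ) * (2 * i + 1) = 4 * i + 2 by ring, zpow_add, zpow_mul, hu4, one_zpow,
      one_mul]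
    exact_mod_cast rfl


/-! ### numerics of the class equation -/

theorem val_cases {c : ℕ} (h4 : 4 ∣ c) (h144 : c ∣ 144) :
    (c = 4 ∧ 144 / c = 36) ∨ (c = 8 ∧ 144 / c = 18) ∨
      (12 ≤ c ∧ 1 ≤ 144 / c ∧ 144 / c ≤ 12) := by
  obtain ⟨k, rfl⟩ := h4
  have hk : k ∣ 36 := by
    have : 4 * k ∣ 4 * 36 := h144
    exact Nat.dvd_of_mul_dvd_mul_left (by norm_num) this
  have hk36 : k ≤ 36 := Nat.le_of_dvd (by norm_num) hk
  interval_cases k <;> omega

theorem sum_two_terms {α : Type*} [DecidableEq α] (T : Finset α) (f : α → ℕ) (hcard : T.card ≤ 2)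
    (hf : ∀ r ∈ T, f r = 36 ∨ f r ≤ 18) (hsum : 60 ≤ ∑ r ∈ T, f r) : ∑ r ∈ T, f r = 72 := by
  have hc : T.card = 0 ∨ T.card = 1 ∨ T.card = 2 := by omega
  rcases hc with h0 | h1 | h2
  · rw [Finset.card_eq_zero] at h0
    rw [h0, Finset.sum_empty] at hsum
    omega
  · obtain ⟨a, ha⟩ := Finset.card_eq_one.mp h1
    rw [ha, Finset.sum_singleton] at hsum
    have := hf a (by rw [ha]; exact Finset.mem_singleton_self a)
    omega
  · obtain ⟨a, b, hab, hT⟩ := Finset.card_eq_two.mp h2
    rw [hT, Finset.sum_pair hab] at hsum ⊢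
    have h1 := hf a (by rw [hT]; simp)
    have h2 := hf b (by rw [hT]; simp)
    omega

theorem numerics {α : Type*} [DecidableEq α] (S : Finset α) (c : α → ℕ) (hcard : S.card ≤ 3)
    (hc : ∀ r ∈ S, 4 ∣ c r ∧ c r ∣ 144) (hsum : ∑ r ∈ S, 144 / c r = 72) :
    ∀ r ∈ S, c r = 4 ∨ c r = 8 := by
  intro r0 hr0
  rcases val_cases (hc r0 hr0).1 (hc r0 hr0).2 with h | h | h
  · exact Or.inl h.1
  · exact Or.inr h.1
  · exfalso
    have h1 := Finset.add_sum_erase S (fun r => 144 / c r) hr0
    have hcard' : (S.erase r0).card ≤ 2 := by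
      rw [Finset.card_erase_of_mem hr0]; omega
    have hrest : 60 ≤ ∑ r ∈ S.erase r0, 144 / c r := by
      have : 144 / c r0 + ∑ r ∈ S.erase r0, 144 / c r = 72 := by rw [← hsum]; exact h1
      omega
    have hterm : ∀ r ∈ S.erase r0, 144 / c r = 36 ∨ 144 / c r ≤ 18 := by
      intro r hr
      have hr' := Finset.mem_of_mem_erase hr
      rcases val_cases (hc r hr').1 (hc r hr').2 with h | h | h <;> omega
    have h72 := sum_two_terms (S.erase r0) (fun r => 144 / c r) hcard' hterm hrest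
    have : 144 / c r0 + ∑ r ∈ S.erase r0, 144 / c r = 72 := by rw [← hsum]; exact h1
    omega

/-- an involution inverting an element of order dividing 5 is conjugate to its product with it -/
theorem conj_of_inverts {G : Type*} [Group G] {t z : G} (hz : t * z * t⁻¹ = z⁻¹)
    (hz5 : z ^ 5 = 1) : IsConj t (t * z) := by
  rw [isConj_iff]
  refine ⟨z ^ 2, ?_⟩
  have h1 : t * z = z⁻¹ * t := by
    calc t * z = t * z * t⁻¹ * t := by group
      _ = z⁻¹ * t := by rw [hz]
  have h2 : t * z⁻¹ = z * t := by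
    have h3 : t * z⁻¹ * t⁻¹ = z := by
      have : t * z⁻¹ * t⁻¹ = (t * z * t⁻¹)⁻¹ := by group
      rw [this, hz, inv_inv]
    calc t * z⁻¹ = t * z⁻¹ * t⁻¹ * t := by group
      _ = z * t := by rw [h3]
  have h4 : z ^ 4 = z⁻¹ := by
    have : z ^ 4 = z ^ 5 * z⁻¹ := by group
    rw [this, hz5, one_mul]
  calc z ^ 2 * t * (z ^ 2)⁻¹ = z ^ 2 * (t * z⁻¹) * z⁻¹ := by group
    _ = z ^ 2 * (z * t) * z⁻¹ := by rw [h2]
    _ = z ^ 2 * z * (t * z⁻¹) := by group
    _ = z ^ 2 * z * (z * t) := by rw [h2]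
    _ = z ^ 4 * t := by group
    _ = z⁻¹ * t := by rw [h4]
    _ = t * z := h1.symm

/-- case (ii): an involution which is the square of an element of order four cannot have
centralizer of order eight when the Sylow 2-subgroups have order sixteen -/
theorem not_card_cent_eq_eight {G : Type*} [Group G] [Finite G]
    (h16 : ∀ S : Sylow 2 G, Nat.card (S : Subgroup G) = 16)
    {u : G} (hu : orderOf u = 4) (hC : Nat.card (centralizer ({u ^ 2} : Set G)) = 8) : False := by
  have hu4 : u ^ 4 = 1 := by rw [← hu]; exact pow_orderOf_eq_one u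
  have ht1 : u ^ 2 ≠ 1 := by
    intro h
    have := orderOf_dvd_of_pow_eq_one h
    rw [hu] at this
    omega
  have hpR : IsPGroup 2 (centralizer ({u ^ 2} : Set G)) :=
    IsPGroup.of_card (n := 3) (by rw [hC]; norm_num)
  obtain ⟨S, hRS⟩ := hpR.exists_le_sylow
  have huR : u ∈ centralizer ({u ^ 2} : Set G) := by rw [mem_cent]; group
  have hzR : zpowers u ≤ centralizer ({u ^ 2} : Set G) := by rwa [zpowers_le]
  have hidx1 : ((zpowers u).subgroupOf (centralizer ({u ^ 2} : Set G))).index = 2 := by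
    have h1 := Cfsg.Agent.Lib.Helper17_Sylow.card_mul_relIndex_of_le hzR
    rw [Nat.card_zpowers, hu, hC] at h1
    show (zpowers u).relIndex _ = 2
    omega
  have hidx2 : ((centralizer ({u ^ 2} : Set G)).subgroupOf (S : Subgroup G)).index = 2 := by
    have h1 := Cfsg.Agent.Lib.Helper17_Sylow.card_mul_relIndex_of_le hRS
    rw [hC, h16 S] at h1
    show (centralizer ({u ^ 2} : Set G)).relIndex _ = 2
    omega
  have hnorm : ((centralizer ({u ^ 2} : Set G)).subgroupOf (S : Subgroup G)).Normal :=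
    Subgroup.normal_of_index_eq_two hidx2
  have hS_le : (S : Subgroup G) ≤ centralizer ({u ^ 2} : Set G) := by
    intro s hs
    have hw : s * u * s⁻¹ ∈ centralizer ({u ^ 2} : Set G) := by
      have := hnorm.conj_mem ⟨u, hRS huR⟩ (by rw [Subgroup.mem_subgroupOf]; exact huR) ⟨s, hs⟩
      rw [Subgroup.mem_subgroupOf] at this
      exact this
    have hww := Subgroup.mul_self_mem_of_index_two hidx1 ⟨s * u * s⁻¹, hw⟩
    rw [Subgroup.mem_subgroupOf] at hww
    have hww' : s * u * s⁻¹ * (s * u * s⁻¹) ∈ zpowers u := hww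
    have e1 : s * u * s⁻¹ * (s * u * s⁻¹) = s * u ^ 2 * s⁻¹ := by
      rw [pow_two]; group
    rw [e1] at hww'
    have e2 : s * u ^ 2 * s⁻¹ * (s * u ^ 2 * s⁻¹) = 1 := by
      have : s * u ^ 2 * s⁻¹ * (s * u ^ 2 * s⁻¹) = s * u ^ 4 * s⁻¹ := by
        rw [show (4 : ℕ) = 2 + 2 from rfl, pow_add]; group
      rw [this, hu4]; group
    have e3 : s * u ^ 2 * s⁻¹ ≠ 1 := by
      intro h
      apply ht1
      have : u ^ 2 = s⁻¹ * (s * u ^ 2 * s⁻¹) * s := by group
      rw [this, h]; group
    have e4 := eq_sq_of_mem_zpowers hu hww' e2 e3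
    rw [mem_cent]
    calc s * u ^ 2 = s * u ^ 2 * s⁻¹ * s := by group
      _ = u ^ 2 * s := by rw [e4]
  have := Subgroup.card_le_of_le hS_le
  rw [h16 S, hC] at this
  omega

end General


/-! ### the group of order 7920 -/

section M11

variable {G : Type*} [Group G] [Finite G]

theorem card_syl3 (h : M11Facts G) (P : Sylow 3 G) : Nat.card (P : Subgroup G) = 9 := by
  have : Fact (Nat.Prime 3) := ⟨by norm_num⟩
  have := Cfsg.Agent.Lib.Helper17_Sylow.card_sylow_eq_pow (p := 3) (k := 2) (m := 880)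
    (by rw [h.card]; norm_num) (by norm_num) P
  simpa using this

theorem card_syl2 (h : M11Facts G) (P : Sylow 2 G) : Nat.card (P : Subgroup G) = 16 := by
  have : Fact (Nat.Prime 2) := ⟨by norm_num⟩
  have := Cfsg.Agent.Lib.Helper17_Sylow.card_sylow_eq_pow (p := 2) (k := 4) (m := 495)
    (by rw [h.card]; norm_num) (by norm_num) P
  simpa using this

theorem card_syl5 (h : M11Facts G) (P : Sylow 5 G) : Nat.card (P : Subgroup G) = 5 := by
  have : Fact (Nat.Prime 5) := ⟨by norm_num⟩
  have := Cfsg.Agent.Lib.Helper17_Sylow.card_sylow_eq_pow (p := 5) (k := 1) (m := 1584)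
    (by rw [h.card]; norm_num) (by norm_num) P
  simpa using this

/-- nonidentity elements of a Sylow 3-subgroup have order 3 -/
theorem orderOf_eq_three (h : M11Facts G) (h9 : ∀ g : G, orderOf g ≠ 9) (P : Sylow 3 G) {x : G}
    (hx : x ∈ (P : Subgroup G)) (hx1 : x ≠ 1) : orderOf x = 3 := by
  have h1 := Subgroup.orderOf_dvd_natCard (P : Subgroup G) hx
  rw [card_syl3 h P] at h1
  have h2 : orderOf x ≠ 1 := fun h => hx1 (orderOf_eq_one_iff.mp h)
  have h3 := h9 x
  have h4 : orderOf x ≤ 9 := Nat.le_of_dvd (by norm_num) h1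
  interval_cases (orderOf x) <;> simp_all

/-- a Sylow 3-subgroup is abelian -/
theorem syl3_comm (h : M11Facts G) (P : Sylow 3 G) {a b : G} (ha : a ∈ (P : Subgroup G))
    (hb : b ∈ (P : Subgroup G)) : a * b = b * a := by
  have : Fact (Nat.Prime 3) := ⟨by norm_num⟩
  have hc : Nat.card (P : Subgroup G) = 3 ^ 2 := by rw [card_syl3 h P]; norm_num
  have hcomm := IsPGroup.isMulCommutative_of_card_eq_prime_sq hc
  have := hcomm.is_comm.comm (⟨a, ha⟩ : (P : Subgroup G)) ⟨b, hb⟩
  exact congrArg Subtype.val this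

/-- structure of `C(y)` when an involution `q` centralizes the Sylow 3-subgroup `P ∋ y` -/
theorem cent_struct (h : M11Facts G)
    (h18 : ∀ y : G, orderOf y = 3 → Nat.card (Subgroup.centralizer ({y} : Set G)) = 18)
    (h9 : ∀ g : G, orderOf g ≠ 9)
    (P : Sylow 3 G) (q : G) (hq : orderOf q = 2)
    (hqP : q ∈ Subgroup.centralizer ((P : Subgroup G) : Set G))
    {y : G} (hy : y ∈ (P : Subgroup G)) (hy1 : y ≠ 1) :
    (P : Subgroup G) ≤ centralizer ({y} : Set G) ∧
    (∀ g ∈ centralizer ({y} : Set G), g * q = q * g) ∧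
    ((P : Subgroup G).subgroupOf (centralizer ({y} : Set G))).index = 2 ∧
    (∀ j ∈ centralizer ({y} : Set G), orderOf j = 2 → j = q) := by
  have hqc : ∀ x ∈ (P : Subgroup G), x * q = q * x := fun x hx =>
    (Subgroup.mem_centralizer_iff.mp hqP) x hx
  have hy3 : orderOf y = 3 := orderOf_eq_three h h9 P hy hy1
  have hPC : (P : Subgroup G) ≤ centralizer ({y} : Set G) := by
    intro x hx
    rw [mem_cent]
    exact syl3_comm h P hx hy
  have hqCy : q ∈ centralizer ({y} : Set G) := by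
    rw [mem_cent]; exact (hqc y hy).symm
  have hH1 : (P : Subgroup G) ⊔ zpowers q ≤ centralizer ({y} : Set G) :=
    sup_le hPC ((Subgroup.zpowers_le).mpr hqCy)
  have hH2 : (P : Subgroup G) ⊔ zpowers q ≤ centralizer ({q} : Set G) := by
    apply sup_le
    · intro x hx
      rw [mem_cent]
      exact hqc x hx
    · rw [Subgroup.zpowers_le, mem_cent]
  have hcard : Nat.card (centralizer ({y} : Set G)) = 18 := h18 y hy3
  have h9d : 9 ∣ Nat.card ((P : Subgroup G) ⊔ zpowers q : Subgroup G) := by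
    have := Subgroup.card_dvd_of_le (le_sup_left : (P : Subgroup G) ≤ (P : Subgroup G) ⊔ zpowers q)
    rwa [card_syl3 h P] at this
  have h2d : 2 ∣ Nat.card ((P : Subgroup G) ⊔ zpowers q : Subgroup G) := by
    have := Subgroup.card_dvd_of_le (le_sup_right : zpowers q ≤ (P : Subgroup G) ⊔ zpowers q)
    rwa [Nat.card_zpowers, hq] at this
  have h18d : 18 ∣ Nat.card ((P : Subgroup G) ⊔ zpowers q : Subgroup G) :=
    Nat.Coprime.mul_dvd_of_dvd_of_dvd (by norm_num : Nat.Coprime 9 2) h9d h2d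
  have hHeq : (P : Subgroup G) ⊔ zpowers q = centralizer ({y} : Set G) := by
    apply Subgroup.eq_of_le_of_card_ge hH1
    rw [hcard]
    exact Nat.le_of_dvd Nat.card_pos h18d
  have hCq : ∀ g ∈ centralizer ({y} : Set G), g * q = q * g := by
    intro g hg
    rw [← hHeq] at hg
    exact mem_cent.mp (hH2 hg)
  have hidx : ((P : Subgroup G).subgroupOf (centralizer ({y} : Set G))).index = 2 := by
    have h1 := Cfsg.Agent.Lib.Helper17_Sylow.card_mul_relIndex_of_le hPC
    rw [card_syl3 h P, hcard] at h1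
    have : (P : Subgroup G).relIndex (centralizer ({y} : Set G)) = 2 := by omega
    exact this
  refine ⟨hPC, hCq, hidx, ?_⟩
  intro j hj hj2
  have hnot : ∀ z : G, orderOf z = 2 → z ∉ (P : Subgroup G) := by
    intro z hz hzP
    have := Subgroup.orderOf_dvd_natCard (P : Subgroup G) hzP
    rw [card_syl3 h P, hz] at this
    omega
  have key := Subgroup.mul_mem_iff_of_index_two hidx
    (a := (⟨j, hj⟩ : centralizer ({y} : Set G))) (b := ⟨q, hqCy⟩)
  have hjq : j * q ∈ (P : Subgroup G) := by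
    have : (⟨j, hj⟩ : centralizer ({y} : Set G)) * ⟨q, hqCy⟩ ∈
        (P : Subgroup G).subgroupOf (centralizer ({y} : Set G)) := by
      rw [key]
      constructor
      · intro h1; exact absurd (Subgroup.mem_subgroupOf.mp h1) (hnot j hj2)
      · intro h1; exact absurd (Subgroup.mem_subgroupOf.mp h1) (hnot q hq)
    exact Subgroup.mem_subgroupOf.mp this
  have hjj : j * j = 1 := by
    have := pow_orderOf_eq_one j
    rwa [hj2, pow_two] at this
  have hqq : q * q = 1 := by
    have := pow_orderOf_eq_one q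
    rwa [hq, pow_two] at this
  have hsq : (j * q) ^ 2 = 1 := by
    rw [pow_two]
    calc j * q * (j * q) = j * (q * j) * q := by group
      _ = j * (j * q) * q := by rw [hCq j hj]
      _ = (j * j) * (q * q) := by group
      _ = 1 := by rw [hjj, hqq, one_mul]
  have ho2 : orderOf (j * q) ∣ 2 := orderOf_dvd_of_pow_eq_one hsq
  have ho9 : orderOf (j * q) ∣ 9 := by
    have := Subgroup.orderOf_dvd_natCard (P : Subgroup G) hjq
    rwa [card_syl3 h P] at this
  have ho1 : orderOf (j * q) = 1 := by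
    have h1 := Nat.dvd_gcd ho2 ho9
    have h2 : Nat.gcd 2 9 = 1 := by norm_num
    rw [h2] at h1
    exact Nat.dvd_one.mp h1
  have hjq1 : j * q = 1 := orderOf_eq_one_iff.mp ho1
  calc j = j * (q * q) := by rw [hqq, mul_one]
    _ = (j * q) * q := by group
    _ = q := by rw [hjq1, one_mul]


/-- the normalizer of `P` centralizes `q` -/
theorem normalizer_comm (h : M11Facts G)
    (h18 : ∀ y : G, orderOf y = 3 → Nat.card (Subgroup.centralizer ({y} : Set G)) = 18)
    (h9 : ∀ g : G, orderOf g ≠ 9)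
    (P : Sylow 3 G) (q : G) (hq : orderOf q = 2)
    (hqP : q ∈ Subgroup.centralizer ((P : Subgroup G) : Set G))
    {y : G} (hy : y ∈ (P : Subgroup G)) (hy1 : y ≠ 1)
    {n : G} (hn : n ∈ normalizer ((P : Subgroup G) : Set G)) : n * q = q * n := by
  obtain ⟨hPC, hCq, hidx, huniq⟩ := cent_struct h h18 h9 P q hq hqP hy hy1
  have hqc : ∀ x ∈ (P : Subgroup G), x * q = q * x := fun x hx =>
    (Subgroup.mem_centralizer_iff.mp hqP) x hx
  have hx : n⁻¹ * y * n ∈ (P : Subgroup G) := by
    have h1 := (Subgroup.mem_normalizer_iff.mp (inv_mem hn)) y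
    rw [inv_inv] at h1
    exact h1.mp hy
  have hj : n * q * n⁻¹ ∈ centralizer ({y} : Set G) := by
    rw [mem_cent]
    have h2 := hqc _ hx
    calc n * q * n⁻¹ * y = n * (q * (n⁻¹ * y * n)) * n⁻¹ := by group
      _ = n * ((n⁻¹ * y * n) * q) * n⁻¹ := by rw [h2]
      _ = y * (n * q * n⁻¹) := by group
  have hj2 : orderOf (n * q * n⁻¹) = 2 := by
    rw [Cfsg.Agent.Lib.Helper17_Sylow.orderOf_conj', hq]
  have := huniq _ hj hj2
  calc n * q = (n * q * n⁻¹) * n := by group
    _ = q * n := by rw [this]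

/-- `|C(q)| = 144` -/
theorem card_cent_q (h : M11Facts G) (R : Finset G) (hR : ClassData G R)
    (h18 : ∀ y : G, orderOf y = 3 → Nat.card (Subgroup.centralizer ({y} : Set G)) = 18)
    (h9 : ∀ g : G, orderOf g ≠ 9)
    (hN3 : ∀ P : Sylow 3 G, Nat.card (Subgroup.normalizer ((P : Subgroup G) : Set G)) = 144)
    (P : Sylow 3 G) (q : G) (hq : orderOf q = 2)
    (hqP : q ∈ Subgroup.centralizer ((P : Subgroup G) : Set G))
    {y : G} (hy : y ∈ (P : Subgroup G)) (hy1 : y ≠ 1) :
    Nat.card (centralizer ({q} : Set G)) = 144 := by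
  have hle : normalizer ((P : Subgroup G) : Set G) ≤ centralizer ({q} : Set G) := by
    intro n hn
    rw [mem_cent]
    exact normalizer_comm h h18 h9 P q hq hqP hy hy1 hn
  have h1 := Subgroup.card_dvd_of_le hle
  rw [hN3 P] at h1
  have hq1 : q ≠ 1 := by
    intro h0; rw [h0, orderOf_one] at hq; omega
  have hq144 : q ^ 144 = 1 := by
    have := pow_orderOf_eq_one q
    rw [hq] at this
    rw [show 144 = 2 * 72 by norm_num, pow_mul, this, one_pow]
  have h2 := hR.dvd q hq1 hq144
  exact Nat.dvd_antisymm h2 h1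

/-- `y q` has order 6 and `C(y q) = C(y)` -/
theorem yq_facts (h : M11Facts G)
    (h18 : ∀ y : G, orderOf y = 3 → Nat.card (Subgroup.centralizer ({y} : Set G)) = 18)
    (h9 : ∀ g : G, orderOf g ≠ 9)
    (P : Sylow 3 G) (q : G) (hq : orderOf q = 2)
    (hqP : q ∈ Subgroup.centralizer ((P : Subgroup G) : Set G))
    {y : G} (hy : y ∈ (P : Subgroup G)) (hy1 : y ≠ 1) :
    orderOf (y * q) = 6 ∧ Nat.card (centralizer ({y * q} : Set G)) = 18 := by
  obtain ⟨hPC, hCq, hidx, huniq⟩ := cent_struct h h18 h9 P q hq hqP hy hy1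
  have hy3 : orderOf y = 3 := orderOf_eq_three h h9 P hy hy1
  have hcomm : Commute y q := (Subgroup.mem_centralizer_iff.mp hqP) y hy
  have ho : orderOf (y * q) = 6 := by
    rw [hcomm.orderOf_mul_eq_mul_orderOf_of_coprime (by rw [hy3, hq]; norm_num), hy3, hq]
  refine ⟨ho, ?_⟩
  have hy3' : y ^ 3 = 1 := by rw [← hy3]; exact pow_orderOf_eq_one y
  have hq2' : q ^ 2 = 1 := by rw [← hq]; exact pow_orderOf_eq_one q
  have hpow : (y * q) ^ 4 = y := by
    rw [hcomm.mul_pow, show 4 = 3 + 1 by norm_num, pow_succ y 3, hy3',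
      show 3 + 1 = 2 * 2 by norm_num, pow_mul, hq2', one_pow, one_mul, mul_one]
  have heq : centralizer ({y * q} : Set G) = centralizer ({y} : Set G) := by
    apply le_antisymm
    · intro g hg
      rw [mem_cent] at hg ⊢
      have : Commute g (y * q) := hg
      have h4 := this.pow_right 4
      rw [hpow] at h4
      exact h4
    · intro g hg
      have h1 := hCq g hg
      rw [mem_cent] at hg ⊢
      calc g * (y * q) = (g * y) * q := by group
        _ = (y * g) * q := by rw [hg]
        _ = y * (g * q) := by group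
        _ = y * (q * g) := by rw [h1]
        _ = y * q * g := by group
  rw [heq]
  exact h18 y hy3


/-- an element of order divisible by `3` is conjugate to `y` or to `y q` -/
theorem class_three (h : M11Facts G)
    (h3 : (∀ y y' : G, orderOf y = 3 → orderOf y' = 3 → IsConj y y') ∧
      (∀ y : G, orderOf y = 3 → Nat.card (Subgroup.centralizer ({y} : Set G)) = 18) ∧
      (∀ g : G, orderOf g ≠ 9))
    (P : Sylow 3 G) (q : G) (hq : orderOf q = 2)
    (hqP : q ∈ Subgroup.centralizer ((P : Subgroup G) : Set G))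
    {y : G} (hy : y ∈ (P : Subgroup G)) (hy1 : y ≠ 1) (r : G) (hr : 3 ∣ orderOf r) :
    IsConj r y ∨ IsConj r (y * q) := by
  obtain ⟨h3c, h18, h9⟩ := h3
  obtain ⟨hPC, hCq, hidx, huniq⟩ := cent_struct h h18 h9 P q hq hqP hy hy1
  have hy3 : orderOf y = 3 := orderOf_eq_three h h9 P hy hy1
  have hopos : 0 < orderOf r := orderOf_pos r
  obtain ⟨k, hk⟩ := hr
  have hk0 : k ≠ 0 := by rintro rfl; omega
  -- `z = r ^ k` has order 3
  have hz3 : orderOf (r ^ k) = 3 := by
    rw [orderOf_pow_of_dvd hk0 ⟨3, by rw [hk]; ring⟩, hk]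
    exact Nat.mul_div_cancel 3 (Nat.pos_of_ne_zero hk0)
  obtain ⟨g, hg⟩ := isConj_iff.mp (h3c y (r ^ k) hy3 hz3)
  -- `r' = g⁻¹ r g` centralizes `y`
  have hr'C : g⁻¹ * r * g ∈ centralizer ({y} : Set G) := by
    rw [mem_cent]
    have hc : r * r ^ k = r ^ k * r := by rw [← pow_succ', ← pow_succ]
    rw [← hg] at hc
    calc g⁻¹ * r * g * y = g⁻¹ * (r * (g * y * g⁻¹)) * g := by group
      _ = g⁻¹ * ((g * y * g⁻¹) * r) * g := by rw [hc]
      _ = y * (g⁻¹ * r * g) := by group
  have hor' : orderOf (g⁻¹ * r * g) = orderOf r := by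
    have := Cfsg.Agent.Lib.Helper17_Sylow.orderOf_conj' r g⁻¹
    rwa [inv_inv] at this
  have hconj : IsConj r (g⁻¹ * r * g) := isConj_iff.mpr ⟨g⁻¹, by rw [inv_inv]⟩
  set r' := g⁻¹ * r * g with hr'
  have ho18 : orderOf r' ∣ 18 := by
    have := Subgroup.orderOf_dvd_natCard _ hr'C
    rwa [h18 y hy3] at this
  have ho3 : 3 ∣ orderOf r' := by rw [hor', hk]; exact dvd_mul_right 3 k
  have hcases : orderOf r' = 3 ∨ orderOf r' = 6 := by
    have hle : orderOf r' ≤ 18 := Nat.le_of_dvd (by norm_num) ho18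
    have h9' := h9 r'
    have h18' : orderOf r' ≠ 18 := by
      intro h18e
      have := orderOf_pow_of_dvd (x := r') (n := 2) (by norm_num) (by rw [h18e]; norm_num)
      rw [h18e] at this
      exact h9 (r' ^ 2) (by rw [this])
    clear_value r'
    generalize orderOf r' = o at *
    interval_cases o <;> omega
  rcases hcases with ho | ho
  · left
    exact h3c r y (by rw [← hor', ho]) hy3
  · right
    have hr6 : r' ^ 6 = 1 := by rw [← ho]; exact pow_orderOf_eq_one r'
    -- the involution `r'^3 = q`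
    have h3C : r' ^ 3 ∈ centralizer ({y} : Set G) := pow_mem hr'C 3
    have ho3' : orderOf (r' ^ 3) = 2 := by
      rw [orderOf_pow_of_dvd (by norm_num) (by rw [ho]; norm_num), ho]
    have hq3 : r' ^ 3 = q := huniq _ h3C ho3'
    -- `x = r'^4 ∈ P`
    have hxP : r' ^ 4 ∈ (P : Subgroup G) := by
      have := Subgroup.mul_self_mem_of_index_two hidx
        (⟨r' ^ 2, pow_mem hr'C 2⟩ : centralizer ({y} : Set G))
      have h2 := Subgroup.mem_subgroupOf.mp this
      have e : r' ^ 4 = r' ^ 2 * r' ^ 2 := by rw [← pow_add]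
      rw [e]
      exact h2
    have hx3 : orderOf (r' ^ 4) = 3 := by
      rw [orderOf_pow' r' (by norm_num), ho]
      decide
    have hr'eq : r' = r' ^ 4 * q := by
      rw [← hq3, ← pow_add]
      calc r' = r' ^ 6 * r' := by rw [hr6, one_mul]
        _ = r' ^ (4 + 3) := by rw [← pow_succ]
    -- fusion in `N(P)`
    have hPcent : ∀ x ∈ (P : Subgroup G), x ∈ centralizer ((P : Subgroup G) : Set G) := by
      intro x hx
      rw [Subgroup.mem_centralizer_iff]
      intro z hz
      exact syl3_comm h P hz hx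
    obtain ⟨g2, hg2⟩ := isConj_iff.mp (h3c y (r' ^ 4) hy3 hx3)
    have : Fact (Nat.Prime 3) := ⟨by norm_num⟩
    have hfus := Sylow.conj_eq_normalizer_conj_of_mem_centralizer P y g2⁻¹ (hPcent y hy)
      (by rw [inv_inv, hg2]; exact hPcent _ hxP)
    obtain ⟨n, hn, hn2⟩ := hfus
    rw [inv_inv, hg2] at hn2
    have hnq : n * q = q * n := normalizer_comm h h18 h9 P q hq hqP hy hy1 hn
    have hconj2 : IsConj (y * q) r' := by
      rw [isConj_iff]
      refine ⟨n⁻¹, ?_⟩
      rw [inv_inv, hr'eq, hn2]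
      calc n⁻¹ * (y * q) * n = n⁻¹ * y * (q * n) := by group
        _ = n⁻¹ * y * (n * q) := by rw [hnq]
        _ = n⁻¹ * y * n * q := by group
    exact hconj.trans hconj2.symm


/-- class arithmetic: an involution not conjugate to `q` has centralizer of order 8 -/
theorem card_cent_invol (h : M11Facts G) (R : Finset G) (hR : ClassData G R)
    (h3 : (∀ y y' : G, orderOf y = 3 → orderOf y' = 3 → IsConj y y') ∧
      (∀ y : G, orderOf y = 3 → Nat.card (Subgroup.centralizer ({y} : Set G)) = 18) ∧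
      (∀ g : G, orderOf g ≠ 9))
    (hN3 : ∀ P : Sylow 3 G, Nat.card (Subgroup.normalizer ((P : Subgroup G) : Set G)) = 144)
    (hinv8 : ∀ t : G, orderOf t = 2 → 8 ∣ Nat.card (Subgroup.centralizer ({t} : Set G)))
    (P : Sylow 3 G) (q : G) (hq : orderOf q = 2)
    (hqP : q ∈ Subgroup.centralizer ((P : Subgroup G) : Set G))
    {y : G} (hy : y ∈ (P : Subgroup G)) (hy1 : y ≠ 1)
    (t : G) (ht : orderOf t = 2) (htq : ¬ IsConj t q) :
    Nat.card (centralizer ({t} : Set G)) = 8 := by
  classical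
  have h3' := h3
  obtain ⟨h3c, h18, h9⟩ := h3
  have hy3 : orderOf y = 3 := orderOf_eq_three h h9 P hy hy1
  obtain ⟨hyq6, hyqC⟩ := yq_facts h h18 h9 P q hq hqP hy hy1
  have hCq := card_cent_q h R hR h18 h9 hN3 P q hq hqP hy hy1
  have pow144 : ∀ g : G, orderOf g ∣ 144 → g ^ 144 = 1 := fun g hg =>
    orderOf_dvd_iff_pow_eq_one.mp hg
  have ne1 : ∀ g : G, orderOf g ≠ 1 → g ≠ 1 := fun g hg h0 => hg (by rw [h0, orderOf_one])
  -- representatives
  obtain ⟨ry, hryR, hry⟩ := hR.surj y hy1 (pow144 y (by rw [hy3]; norm_num))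
  obtain ⟨rm, hrmR, hrm⟩ := hR.surj (y * q) (ne1 _ (by rw [hyq6]; norm_num))
    (pow144 _ (by rw [hyq6]; norm_num))
  obtain ⟨rq, hrqR, hrq⟩ := hR.surj q (ne1 _ (by rw [hq]; norm_num))
    (pow144 _ (by rw [hq]; norm_num))
  have ory : orderOf ry = 3 := by
    rw [Cfsg.Agent.Lib.Helper17_Sylow.orderOf_of_isConj hry, hy3]
  have orm : orderOf rm = 6 := by
    rw [Cfsg.Agent.Lib.Helper17_Sylow.orderOf_of_isConj hrm, hyq6]
  have orq : orderOf rq = 2 := by
    rw [Cfsg.Agent.Lib.Helper17_Sylow.orderOf_of_isConj hrq, hq]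
  have cry : Nat.card (centralizer ({ry} : Set G)) = 18 := h18 ry ory
  have crm : Nat.card (centralizer ({rm} : Set G)) = 18 := by
    rw [← card_centralizer_of_isConj hrm, hyqC]
  have crq : Nat.card (centralizer ({rq} : Set G)) = 144 := by
    rw [← card_centralizer_of_isConj hrq, hCq]
  have n1 : rm ≠ ry := fun e => by rw [e, ory] at orm; omega
  have n2 : rq ≠ ry := fun e => by rw [e, ory] at orq; omega
  have n3 : rq ≠ rm := fun e => by rw [e, orm] at orq; omega
  have hrm' : rm ∈ R.erase ry := Finset.mem_erase.mpr ⟨n1, hrmR⟩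
  have hrq' : rq ∈ (R.erase ry).erase rm :=
    Finset.mem_erase.mpr ⟨n3, Finset.mem_erase.mpr ⟨n2, hrqR⟩⟩
  have s1 := Finset.add_sum_erase R
    (fun r => 144 / Nat.card (centralizer ({r} : Set G))) hryR
  have s2 := Finset.add_sum_erase (R.erase ry)
    (fun r => 144 / Nat.card (centralizer ({r} : Set G))) hrm'
  have s3 := Finset.add_sum_erase ((R.erase ry).erase rm)
    (fun r => 144 / Nat.card (centralizer ({r} : Set G))) hrq'
  simp only [cry, crm, crq] at s1 s2 s3
  rw [hR.sum] at s1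
  have hsum : ∑ r ∈ ((R.erase ry).erase rm).erase rq,
      144 / Nat.card (centralizer ({r} : Set G)) = 72 := by omega
  have hcard : (((R.erase ry).erase rm).erase rq).card ≤ 3 := by
    rw [Finset.card_erase_of_mem hrq', Finset.card_erase_of_mem hrm',
      Finset.card_erase_of_mem hryR]
    have := hR.card_le
    omega
  have hmemR' : ∀ r, r ∈ ((R.erase ry).erase rm).erase rq ↔
      r ∈ R ∧ r ≠ ry ∧ r ≠ rm ∧ r ≠ rq := by
    intro r
    simp only [Finset.mem_erase]
    tauto
  have hc : ∀ r ∈ ((R.erase ry).erase rm).erase rq,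
      4 ∣ Nat.card (centralizer ({r} : Set G)) ∧ Nat.card (centralizer ({r} : Set G)) ∣ 144 := by
    intro r hr
    obtain ⟨hrR, hr1, hr2, hr3⟩ := (hmemR' r).mp hr
    obtain ⟨hrne, hr144⟩ := hR.mem r hrR
    refine ⟨?_, hR.dvd r hrne hr144⟩
    have hn3 : ¬ 3 ∣ orderOf r := by
      intro h3d
      rcases class_three h h3' P q hq hqP hy hy1 r h3d with hc | hc
      · exact hr1 (hR.inj r hrR ry hryR (hc.trans hry))
      · exact hr2 (hR.inj r hrR rm hrmR (hc.trans hrm))
    have ho144 : orderOf r ∣ 144 := orderOf_dvd_of_pow_eq_one hr144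
    have hcop : Nat.Coprime (orderOf r) 9 := by
      have : Nat.Coprime (orderOf r) 3 :=
        ((Nat.Prime.coprime_iff_not_dvd (by norm_num : Nat.Prime 3)).mpr hn3).symm
      exact Nat.Coprime.pow_right 2 this
    have ho16 : orderOf r ∣ 16 := by
      have : orderOf r ∣ 16 * 9 := by norm_num; exact ho144
      exact Nat.Coprime.dvd_of_dvd_mul_right hcop this
    have horC : orderOf r ∣ Nat.card (centralizer ({r} : Set G)) :=
      Subgroup.orderOf_dvd_natCard _ (by rw [mem_cent])
    have ho1 : orderOf r ≠ 1 := fun e => hrne (orderOf_eq_one_iff.mp e)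
    have hle : orderOf r ≤ 16 := Nat.le_of_dvd (by norm_num) ho16
    by_cases h2 : orderOf r = 2
    · exact dvd_trans (by norm_num) (hinv8 r h2)
    · have h4 : 4 ∣ orderOf r := by
        generalize orderOf r = o at *
        interval_cases o <;> omega
      exact dvd_trans h4 horC
  have hnum := numerics _ (fun r => Nat.card (centralizer ({r} : Set G))) hcard hc hsum
  -- the class of `t`
  obtain ⟨rt, hrtR, hrt⟩ := hR.surj t (ne1 _ (by rw [ht]; norm_num))
    (pow144 _ (by rw [ht]; norm_num))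
  have ort : orderOf rt = 2 := by
    rw [Cfsg.Agent.Lib.Helper17_Sylow.orderOf_of_isConj hrt, ht]
  have hrtR' : rt ∈ ((R.erase ry).erase rm).erase rq := by
    rw [hmemR']
    refine ⟨hrtR, ?_, ?_, ?_⟩
    · intro e; rw [e, ory] at ort; omega
    · intro e; rw [e, orm] at ort; omega
    · intro e
      rw [e] at hrt
      exact htq (hrt.trans hrq.symm)
  have h48 := hnum rt hrtR'
  rw [← card_centralizer_of_isConj hrt] at h48
  have h8 := hinv8 t ht
  rcases h48 with h4 | h8'
  · rw [h4] at h8; omega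
  · exact h8'

/-- case (i): the square of the element of order four in `N(A)`, `A` a Sylow 5-subgroup, cannot have
centralizer of order 144 (count the pairs `(c, x)`, `c ∈ C(t)`, `1 ≠ x ∈ A`) -/
theorem not_card_cent_eq_144 (h : M11Facts G) (A : Sylow 5 G) {u : G} (hu : orderOf u = 4)
    (hinv : ∀ x ∈ (A : Subgroup G), u ^ 2 * x * (u ^ 2)⁻¹ = x⁻¹)
    (hcent : ∀ g ∈ normalizer ((A : Subgroup G) : Set G), g * u ^ 2 = u ^ 2 * g → g ∈ zpowers u)
    (hC : Nat.card (centralizer ({u ^ 2} : Set G)) = 144) : False := by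
  classical
  have : Fintype G := Fintype.ofFinite G
  have : Fact (Nat.Prime 5) := ⟨by norm_num⟩
  have hA5 := card_syl5 h
  generalize ht : u ^ 2 = t at *
  have hconj : Nat.card {y : G // IsConj t y} = 55 := by
    have := Cfsg.Agent.Lib.Helper17_Sylow.card_centralizer_mul_card_conj t
    rw [hC, h.card] at this
    omega
  have hx5 : ∀ x ∈ (A : Subgroup G), x ^ 5 = 1 := by
    intro x hx
    have := Subgroup.orderOf_dvd_natCard _ hx
    rw [hA5 A] at this
    exact orderOf_dvd_iff_pow_eq_one.mp this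
  have hord5 : ∀ x ∈ (A : Subgroup G), x ≠ 1 → orderOf x = 5 := by
    intro x hx hx1
    have h1 := Subgroup.orderOf_dvd_natCard _ hx
    rw [hA5 A] at h1
    rcases (Nat.dvd_prime (by norm_num : Nat.Prime 5)).mp h1 with h | h
    · exact absurd (orderOf_eq_one_iff.mp h) hx1
    · exact h
  let C : Finset G := Finset.univ.filter (· ∈ centralizer ({t} : Set G))
  let X : Finset G := Finset.univ.filter (fun x => x ∈ (A : Subgroup G) ∧ x ≠ 1)
  let T : Finset G := Finset.univ.filter (fun y => IsConj t y)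
  let Z : Finset G := Finset.univ.filter (· ∈ zpowers u)
  have hCcard : C.card = 144 := by
    rw [← hC]; symm
    exact Nat.subtype_card C (fun x => by simp [C])
  have hXcard : X.card = 4 := by
    have h1 := Cfsg.Agent.Lib.Helper17_Sylow.card_mem_ne_one (A : Subgroup G)
    rw [hA5 A] at h1
    have h2 : Nat.card {g : G // g ∈ (A : Subgroup G) ∧ g ≠ 1} = X.card :=
      Nat.subtype_card X (fun x => by simp [X])
    omega
  have hTcard : T.card = 55 := by
    rw [← hconj]; symm
    exact Nat.subtype_card T (fun x => by simp [T])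
  have hZcard : Z.card = 4 := by
    have h1 : Nat.card (zpowers u) = Z.card :=
      Nat.subtype_card Z (fun x => by simp [Z])
    rw [Nat.card_zpowers, hu] at h1
    exact h1.symm
  have hmaps : ∀ p ∈ C ×ˢ X, t * (p.1 * p.2 * p.1⁻¹) ∈ T := by
    rintro ⟨c, x⟩ hp
    simp only [Finset.mem_product, C, X, Finset.mem_filter, Finset.mem_univ, true_and] at hp
    obtain ⟨hc, hxA, hx1⟩ := hp
    simp only [T, Finset.mem_filter, Finset.mem_univ, true_and]
    rw [mem_cent] at hc
    apply conj_of_inverts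
    · have e := hinv x hxA
      have hc' : c⁻¹ * t⁻¹ = t⁻¹ * c⁻¹ := by
        rw [← mul_inv_rev, ← mul_inv_rev, hc]
      calc t * (c * x * c⁻¹) * t⁻¹ = (t * c) * x * (c⁻¹ * t⁻¹) := by group
        _ = (c * t) * x * (t⁻¹ * c⁻¹) := by rw [hc, hc']
        _ = c * (t * x * t⁻¹) * c⁻¹ := by group
        _ = c * x⁻¹ * c⁻¹ := by rw [e]
        _ = (c * x * c⁻¹)⁻¹ := by group
    · have : (c * x * c⁻¹) ^ 5 = c * x ^ 5 * c⁻¹ := by
        rw [conj_pow]
      rw [this, hx5 x hxA]; group
  have hfib : ∀ y ∈ T, ((C ×ˢ X).filter (fun p => t * (p.1 * p.2 * p.1⁻¹) = y)).card ≤ 4 := by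
    intro y _
    by_cases hne : ((C ×ˢ X).filter (fun p => t * (p.1 * p.2 * p.1⁻¹) = y)).Nonempty
    · obtain ⟨⟨c0, x0⟩, hp0⟩ := hne
      simp only [Finset.mem_filter, Finset.mem_product, C, X, Finset.mem_univ, true_and] at hp0
      obtain ⟨⟨hc0, hx0A, hx01⟩, hy0⟩ := hp0
      rw [← hZcard]
      apply Finset.card_le_card_of_injOn (fun p => c0⁻¹ * p.1)
      · rintro ⟨c, x⟩ hp
        simp only [Finset.coe_filter, Finset.mem_product, C, X, Finset.mem_filter,
          Finset.mem_univ, true_and, Set.mem_ofPred_eq] at hp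
        obtain ⟨⟨hc, hxA, hx1⟩, hy⟩ := hp
        simp only [Z, Finset.coe_filter, Finset.mem_univ, true_and, Set.mem_ofPred_eq]
        have hconj : c * x * c⁻¹ = c0 * x0 * c0⁻¹ := by
          have := hy.trans hy0.symm
          exact mul_left_cancel this
        have hg : (c0⁻¹ * c) * x * (c0⁻¹ * c)⁻¹ = x0 := by
          calc (c0⁻¹ * c) * x * (c0⁻¹ * c)⁻¹ = c0⁻¹ * (c * x * c⁻¹) * c0 := by group
            _ = c0⁻¹ * (c0 * x0 * c0⁻¹) * c0 := by rw [hconj]
            _ = x0 := by group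
        rw [mem_cent] at hc hc0
        have hgt : (c0⁻¹ * c) * t = t * (c0⁻¹ * c) := by
          have hc0' : c0⁻¹ * t = t * c0⁻¹ := by
            calc c0⁻¹ * t = c0⁻¹ * (t * c0) * c0⁻¹ := by group
              _ = c0⁻¹ * (c0 * t) * c0⁻¹ := by rw [hc0]
              _ = t * c0⁻¹ := by group
          calc (c0⁻¹ * c) * t = c0⁻¹ * (c * t) := by group
            _ = c0⁻¹ * (t * c) := by rw [hc]
            _ = (c0⁻¹ * t) * c := by group
            _ = (t * c0⁻¹) * c := by rw [hc0']
            _ = t * (c0⁻¹ * c) := by group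
        apply hcent _ _ hgt
        rw [← Cfsg.Agent.Lib.Helper17_Sylow.smul_eq_iff_mem_normalizer']
        apply Sylow.ext
        have e1 : (A : Subgroup G) = zpowers x0 :=
          Cfsg.Agent.Lib.Helper17_Sylow.sylow_eq_zpowers A (hA5 A) x0 hx0A (hord5 x0 hx0A hx01)
        have e2 : (((c0⁻¹ * c) • A : Sylow 5 G) : Subgroup G) = zpowers x0 := by
          apply Cfsg.Agent.Lib.Helper17_Sylow.sylow_eq_zpowers _ (hA5 _) x0 _
            (hord5 x0 hx0A hx01)
          rw [Cfsg.Agent.Lib.Helper17_Sylow.mem_smul_sylow]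
          have : (c0⁻¹ * c)⁻¹ * x0 * (c0⁻¹ * c) = x := by
            rw [← hg]; group
          rw [this]; exact hxA
        rw [e2, e1]
      · rintro ⟨c, x⟩ hp ⟨c', x'⟩ hp' heq
        simp only [Finset.coe_filter, Finset.mem_product, C, X, Finset.mem_filter,
          Finset.mem_univ, true_and, Set.mem_ofPred_eq] at hp hp'
        obtain ⟨-, hy⟩ := hp
        obtain ⟨-, hy'⟩ := hp'
        have hcc : c = c' := mul_left_cancel heq
        subst hcc
        have h1 : c * x * c⁻¹ = c * x' * c⁻¹ := mul_left_cancel (hy.trans hy'.symm)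
        have h2 : x = x' := by
          have := mul_right_cancel h1
          exact mul_left_cancel this
        rw [h2]
    · rw [Finset.not_nonempty_iff_eq_empty] at hne
      rw [hne]; simp
  have := Finset.card_le_mul_card_image_of_maps_to hmaps 4 hfib
  rw [Finset.card_product, hCcard, hXcard, hTcard] at this
  omega

/-- **M11-T3a**: no involution centralizes a Sylow 3-subgroup. -/
theorem T3a (h : M11Facts G) (R : Finset G) (hR : ClassData G R)
    (h3 : (∀ y y' : G, orderOf y = 3 → orderOf y' = 3 → IsConj y y') ∧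
      (∀ y : G, orderOf y = 3 → Nat.card (Subgroup.centralizer ({y} : Set G)) = 18) ∧
      (∀ g : G, orderOf g ≠ 9))
    (hN3 : ∀ P : Sylow 3 G, Nat.card (Subgroup.normalizer ((P : Subgroup G) : Set G)) = 144)
    (hinv8 : ∀ t : G, orderOf t = 2 → 8 ∣ Nat.card (Subgroup.centralizer ({t} : Set G)))
    (hN5 : ∀ P : Sylow 5 G, ∃ u : G, orderOf u = 4 ∧
      u ∈ Subgroup.normalizer ((P : Subgroup G) : Set G) ∧
      (∀ x ∈ (P : Subgroup G), u ^ 2 * x * (u ^ 2)⁻¹ = x⁻¹) ∧
      (∀ g ∈ Subgroup.normalizer ((P : Subgroup G) : Set G), g * u ^ 2 = u ^ 2 * g →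
        g ∈ Subgroup.zpowers u))
    (P : Sylow 3 G) (q : G) (hq : orderOf q = 2) :
    q ∉ Subgroup.centralizer ((P : Subgroup G) : Set G) := by
  intro hqP
  have : Fact (Nat.Prime 3) := ⟨by norm_num⟩
  have : Fact (Nat.Prime 5) := ⟨by norm_num⟩
  have hP9 := card_syl3 h P
  obtain ⟨y, hy, hy1⟩ : ∃ y ∈ (P : Subgroup G), y ≠ 1 := by
    by_contra hcon
    push Not at hcon
    have : (P : Subgroup G) = ⊥ := (Subgroup.eq_bot_iff_forall _).mpr hcon
    rw [this, Subgroup.card_bot] at hP9
    omega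
  obtain ⟨A⟩ : Nonempty (Sylow 5 G) := inferInstance
  obtain ⟨u, hu4, huN, hinv, hcent⟩ := hN5 A
  have ht2 : orderOf (u ^ 2) = 2 := by
    rw [orderOf_pow_of_dvd (by norm_num) (by rw [hu4]; norm_num), hu4]
  by_cases hc : IsConj (u ^ 2) q
  · have h144 := card_centralizer_of_isConj hc
    rw [card_cent_q h R hR h3.2.1 h3.2.2 hN3 P q hq hqP hy hy1] at h144
    exact not_card_cent_eq_144 h A hu4 hinv hcent h144
  · have h8 := card_cent_invol h R hR h3 hN3 hinv8 P q hq hqP hy hy1 (u ^ 2) ht2 hc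
    exact not_card_cent_eq_eight (card_syl2 h) hu4 h8

end M11

end Cfsg.Agent.Lib.Helper17_M11_T3a
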