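import Mathlib
import Cfsg.Agent.Lib.helper19_CoxChain

/-!
The integral reflection representation of a Coxeter group on `Fin n`, given by a Cartan-type integer
matrix, and the resulting exact orders / faithfulness along a chain of parabolic subgroups.
By helper19.
-/

set_option autoImplicit false

namespace Cfsg.Agent.Lib.helper19_CoxRefl

open Cfsg.Agent.Lib.helper19_TC Cfsg.Agent.Lib.helper19_CoxChain Matrix

variable (n : ℕ) (C : List (List ℤ))

/-- entries of the Cartan-type matrix. -/
def cart (i j : ℕ) : ℤ := (C.getD i []).getD j 0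

/-- the matrix of the `i`-th reflection: `(r_i u)_j = u_j - u_i * C i j`. -/
def reflM (i : ℕ) : Matrix (Fin n) (Fin n) ℤ :=
  Matrix.of fun j t => (if j = t then 1 else 0) - (if (t : ℕ) = i then cart C i j else 0)

/-- the `i`-th reflection on vectors, by formula. -/
def reflV (i : ℕ) (u : Fin n → ℤ) : Fin n → ℤ :=
  fun j => u j - (if h : i < n then u ⟨i, h⟩ else 0) * cart C i j

lemma reflM_mulVec (i : ℕ) (u : Fin n → ℤ) : reflM n C i *ᵥ u = reflV n C i u := by
  ext j
  simp only [mulVec, dotProduct, reflM, of_apply, reflV, sub_mul, Finset.sum_sub_distrib]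
  congr 1
  · simp
  · by_cases h : i < n
    · simp only [h, dite_true]
      rw [Finset.sum_eq_single ⟨i, h⟩]
      · simp [mul_comm]
      · intro t _ ht
        have : (t : ℕ) ≠ i := fun h' => ht (Fin.ext h')
        simp [this]
      · intro h'; exact absurd (Finset.mem_univ _) h'
    · simp only [h, dite_false, zero_mul]
      apply Finset.sum_eq_zero
      intro t _
      have : (t : ℕ) ≠ i := fun h' => h (h' ▸ t.2)
      simp [this]

variable {n C}

/-- the reflections as units of the matrix ring. -/
def reflU (hsq : ∀ i < n, reflM n C i * reflM n C i = 1) (i : ℕ) : (Matrix (Fin n) (Fin n) ℤ)ˣ :=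
  if h : i < n then ⟨reflM n C i, reflM n C i, hsq i h, hsq i h⟩ else 1

lemma reflU_val (hsq : ∀ i < n, reflM n C i * reflM n C i = 1) {i : ℕ} (h : i < n) :
    ((reflU hsq i : (Matrix (Fin n) (Fin n) ℤ)ˣ) : Matrix (Fin n) (Fin n) ℤ) = reflM n C i := by
  simp [reflU, h]

/-- the subgroup generated by the first `k` reflections. -/
def G (hsq : ∀ i < n, reflM n C i * reflM n C i = 1) (k : ℕ) : Subgroup (Matrix (Fin n) (Fin n) ℤ)ˣ :=
  Subgroup.closure (reflU hsq '' {i | i < k})

section hom
variable (M : CoxeterMatrix (Fin n))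
  (hR : ∀ i j : Fin n, (reflM n C i * reflM n C j) ^ M i j = 1)

include hR in
lemma hsq_of_hR : ∀ i < n, reflM n C i * reflM n C i = 1 := by
  intro i hi
  have := hR ⟨i, hi⟩ ⟨i, hi⟩
  simpa using this

/-- the reflection representation of the Coxeter group on the first `k` nodes. -/
noncomputable def rho (k : ℕ) (hk : k ≤ n) :
    (truncTo M k hk).Group →* (Matrix (Fin n) (Fin n) ℤ)ˣ :=
  (truncTo M k hk).toCoxeterSystem.lift
    ⟨fun i => reflU (hsq_of_hR M hR) i.val, fun i j => by
      apply Units.ext
      rw [Units.val_pow_eq_pow_val, Units.val_mul, Units.val_one,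
        reflU_val _ (lt_of_lt_of_le i.2 hk), reflU_val _ (lt_of_lt_of_le j.2 hk)]
      exact hR (Fin.castLE hk i) (Fin.castLE hk j)⟩

lemma rho_simple (k : ℕ) (hk : k ≤ n) (i : Fin k) :
    rho M hR k hk ((truncTo M k hk).simple i) = reflU (hsq_of_hR M hR) i.val :=
  (truncTo M k hk).toCoxeterSystem.lift_apply_simple _ i

lemma range_rho (k : ℕ) (hk : k ≤ n) : (rho M hR k hk).range = G (hsq_of_hR M hR) k := by
  rw [MonoidHom.range_eq_map, ← closure_gen (truncTo M k hk), MonoidHom.map_closure, G]
  congr 1
  ext g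
  constructor
  · rintro ⟨_, ⟨i, hi, rfl⟩, rfl⟩
    refine ⟨i, hi, ?_⟩
    rw [gen_of_lt _ hi]
    exact (rho_simple M hR k hk ⟨i, hi⟩).symm
  · rintro ⟨i, hi, rfl⟩
    refine ⟨gen (truncTo M k hk) i, ⟨i, hi, rfl⟩, ?_⟩
    rw [gen_of_lt _ hi]
    exact rho_simple M hR k hk ⟨i, hi⟩

/-- from matching bounds: the exact order, and faithfulness of the reflection representation. -/
theorem card_eq_and_injective (k : ℕ) (hk : k ≤ n) (N : ℕ)
    (hub : Finite (truncTo M k hk).Group ∧ Nat.card (truncTo M k hk).Group ≤ N)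
    (hlb : N ≤ Nat.card (G (hsq_of_hR M hR) k)) :
    Nat.card (truncTo M k hk).Group = N ∧ Function.Injective (rho M hR k hk) := by
  obtain ⟨hfin, hle⟩ := hub
  have hsurj := (rho M hR k hk).rangeRestrict_surjective
  have h1 : Nat.card (rho M hR k hk).range ≤ Nat.card (truncTo M k hk).Group :=
    Nat.card_le_card_of_surjective _ hsurj
  rw [range_rho] at h1
  have h2 : Nat.card (truncTo M k hk).Group = N := le_antisymm hle (hlb.trans h1)
  refine ⟨h2, ?_⟩
  have h3 : Nat.card (truncTo M k hk).Group ≤ Nat.card (rho M hR k hk).range := by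
    rw [range_rho, h2]; exact hlb
  have hbij := hsurj.bijective_of_nat_card_le h3
  intro a b hab
  apply hbij.1
  exact Subtype.ext hab

/-- the order of the Coxeter element of the `k`-th parabolic subgroup, from a faithful reflection
representation. -/
theorem orderOf_coxeter (k : ℕ) (hk : k ≤ n) (hinj : Function.Injective (rho M hR k hk))
    (h : ℕ) (hh : 0 < h)
    (hpow : (((List.range k).map (reflM n C)).prod) ^ h = 1)
    (hd : ∀ p : ℕ, p.Prime → p ∣ h → (((List.range k).map (reflM n C)).prod) ^ (h / p) ≠ 1) :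
    orderOf ((List.finRange k).map (truncTo M k hk).simple).prod = h := by
  rw [← orderOf_injective (rho M hR k hk) hinj, ← orderOf_units]
  have key : ((rho M hR k hk ((List.finRange k).map (truncTo M k hk).simple).prod :
      (Matrix (Fin n) (Fin n) ℤ)ˣ) : Matrix (Fin n) (Fin n) ℤ) =
      ((List.range k).map (reflM n C)).prod := by
    rw [map_list_prod, List.map_map, ← Units.coeHom_apply, map_list_prod, List.map_map,
      ← List.map_coe_finRange_eq_range, List.map_map]
    congr 1
    apply List.map_congr_left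
    intro i _
    simp only [Function.comp_apply, rho_simple, Units.coeHom_apply]
    exact reflU_val _ (lt_of_lt_of_le i.2 hk)
  rw [key]
  exact orderOf_eq_of_pow_and_pow_div_prime hh hpow hd

lemma finite_G (k : ℕ) (hk : k ≤ n) (hfin : Finite (truncTo M k hk).Group) :
    Finite (G (hsq_of_hR M hR) k) := by
  rw [← range_rho M hR k hk]
  exact Finite.of_surjective _ (rho M hR k hk).rangeRestrict_surjective

end hom

section orbit

/-- decode a vector from a list of naturals (entries shifted by `8`). -/
def toVec (n : ℕ) (l : List ℕ) : Fin n → ℤ := fun j => (l.getD j 8 : ℤ) - 8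

/-- a hash of a vector, used only to certify distinctness. -/
def hashV (n : ℕ) (u : Fin n → ℤ) : ℤ := (List.ofFn u).foldr (fun a acc => a + 16 * acc) 0

/-- the orbit certificate at level `k + 1`: the points `pts`, decoded, start at a vector fixed by
the first `k` reflections, each further point is a reflection (among the first `k + 1`) of an earlier
one, and the points are pairwise distinct. -/
def OrbOK (n : ℕ) (C : List (List ℤ)) (k : ℕ) (pts : List (List ℕ)) (par : List (ℕ × ℕ)) : Prop :=
  (∀ i < k, reflV n C i (toVec n (pts.getD 0 [])) = toVec n (pts.getD 0 [])) ∧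
  (∀ t < pts.length, t = 0 ∨ ((par.getD t (0, 0)).1 < t ∧ (par.getD t (0, 0)).2 < k + 1 ∧
    toVec n (pts.getD t []) = reflV n C (par.getD t (0, 0)).2 (toVec n (pts.getD (par.getD t (0, 0)).1 [])))) ∧
  (pts.map fun l => hashV n (toVec n l)).Nodup

instance (n : ℕ) (C : List (List ℤ)) (k : ℕ) (pts : List (List ℕ)) (par : List (ℕ × ℕ)) :
    Decidable (OrbOK n C k pts par) := by
  unfold OrbOK; infer_instance

variable (hsq : ∀ i < n, reflM n C i * reflM n C i = 1)

/-- one step of the lower bound for the reflection groups. -/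
theorem lbG_step (k : ℕ) (hk : k + 1 ≤ n) (Nk : ℕ) (hlb : Nk ≤ Nat.card (G hsq k))
    (pts : List (List ℕ)) (par : List (ℕ × ℕ)) (hchk : OrbOK n C k pts par)
    (hfin : Finite (G hsq (k + 1))) :
    pts.length * Nk ≤ Nat.card (G hsq (k + 1)) := by
  obtain ⟨hfix, htree, hnd⟩ := hchk
  let act : (Matrix (Fin n) (Fin n) ℤ)ˣ → (Fin n → ℤ) → (Fin n → ℤ) := fun g u => (g : Matrix _ _ ℤ) *ᵥ u
  have h1v : ∀ v, act 1 v = v := fun v => by simp [act]
  have hm : ∀ g h v, act (g * h) v = act g (act h v) := fun g h v => by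
    simp [act, Matrix.mulVec_mulVec]
  have hactr : ∀ i < n, ∀ u, act (reflU hsq i) u = reflV n C i u := by
    intro i hi u
    simp only [act, reflU_val hsq hi, reflM_mulVec]
  set v := toVec n (pts.getD 0 []) with hv
  set P : List (Fin n → ℤ) := pts.map (toVec n) with hP
  have hPlen : P.length = pts.length := by simp [hP]
  have hPnd : P.Nodup := by
    apply List.Nodup.of_map (hashV n)
    rw [hP, List.map_map]
    exact hnd
  have hPget : ∀ t < pts.length, P.getD t v = toVec n (pts.getD t []) := by
    intro t ht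
    rw [hP, List.getD_eq_getElem _ _ (by simpa using ht), List.getElem_map,
      List.getD_eq_getElem _ _ ht]
  -- every point lies in the orbit
  have horb : ∀ t < pts.length, ∃ g ∈ G hsq (k + 1), act g v = toVec n (pts.getD t []) := by
    intro t
    induction t using Nat.strong_induction_on with
    | _ t ih =>
      intro ht
      rcases htree t ht with h0 | ⟨hp, hg, heq⟩
      · subst h0
        exact ⟨1, Subgroup.one_mem _, h1v v⟩
      · obtain ⟨g, hgG, hgv⟩ := ih _ hp (hp.trans ht)
        refine ⟨reflU hsq (par.getD t (0, 0)).2 * g, ?_, ?_⟩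
        · apply Subgroup.mul_mem _ _ hgG
          apply Subgroup.subset_closure
          exact ⟨_, hg, rfl⟩
        · rw [hm, hgv, hactr _ (lt_of_lt_of_le hg hk), heq]
  have horb' : ∀ u ∈ P, ∃ g ∈ Subgroup.closure (reflU hsq '' {i | i < k + 1}), act g v = u := by
    intro u hu
    rw [hP, List.mem_map] at hu
    obtain ⟨l, hl, rfl⟩ := hu
    obtain ⟨t, ht, rfl⟩ := List.getElem_of_mem hl
    have := horb t ht
    rwa [List.getD_eq_getElem _ _ ht] at this
  have hfix' : ∀ i < k, act (reflU hsq i) v = v := by
    intro i hi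
    rw [hactr i (lt_of_lt_of_le (Nat.lt_succ_of_lt hi) hk)]
    exact hfix i hi
  have key := lb_step act h1v hm (reflU hsq) k v hfix' P hPnd horb' hfin
  rw [hPlen] at key
  exact (Nat.mul_le_mul_left _ hlb).trans key

/-- the base of the lower bound. -/
theorem lbG_zero : 1 ≤ Nat.card (G hsq 0) := by
  have : G hsq 0 = ⊥ := by
    have h0 : (reflU hsq '' {i | i < 0}) = ∅ := by ext g; simp
    rw [G, h0, Subgroup.closure_empty]
  rw [this, Subgroup.card_bot]

end orbit

end Cfsg.Agent.Lib.helper19_CoxRefl
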