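import Mathlib
import Cfsg.Agent.Lib.helper19_CoxRefl

/-!
Certificates for the order of the Coxeter group of type E6 and of its parabolic subgroups on
the first `k` nodes (coset tables for the upper bounds, orbits of the integral reflection
representation for the lower bounds), generated by a script.  By helper19.
-/

set_option autoImplicit false
set_option maxRecDepth 1000000

namespace Cfsg.Agent.Lib.helper19_CoxE6

open Cfsg.Agent.Lib.helper19_TC Cfsg.Agent.Lib.helper19_CoxChain Cfsg.Agent.Lib.helper19_CoxRefl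

/-- the Coxeter matrix, as a list of rows. -/
def matL : List (List ℕ) := [[1, 2, 3, 2, 2, 2], [2, 1, 2, 3, 2, 2], [3, 2, 1, 3, 2, 2], [2, 3, 3, 1, 3, 2], [2, 2, 2, 3, 1, 3], [2, 2, 2, 2, 3, 1]]

/-- the entries of the Coxeter matrix, as a function on `ℕ`. -/
def matf (i j : ℕ) : ℕ := (matL.getD i []).getD j 0

/-- the Cartan matrix. -/
def cartL : List (List ℤ) := [[2, 0, -1, 0, 0, 0], [0, 2, 0, -1, 0, 0], [-1, 0, 2, -1, 0, 0], [0, -1, -1, 2, -1, 0], [0, 0, 0, -1, 2, -1], [0, 0, 0, 0, -1, 2]]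

theorem hmat : ∀ i j : Fin 6, CoxeterMatrix.E₆ i j = matf i j := by
  have h : ∀ p : Fin 6 × Fin 6, CoxeterMatrix.E₆ p.1 p.2 = matf p.1 p.2 := by decide +kernel
  exact fun i j => h (i, j)

theorem hR : ∀ i j : Fin 6, (reflM 6 cartL i * reflM 6 cartL j) ^ CoxeterMatrix.E₆ i j = 1 := by
  decide +kernel

/-! ### level 1: index 2, order 2 -/

def cert1 : Cert where
  k := 1
  N := 2
  tbl := [
    [1], [0]]
  words := [
    [], [0]]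
  rk := [
    [0], [1]]
  just := [
    [.tree], [.mirror]]

theorem hc1 : cert1.check matf (fun i => decide (i < 0)) = true := by decide +kernel

def pts1 : List (List ℕ) := [
    [9, 8, 8, 8, 8, 8], [7, 8, 9, 8, 8, 8]]

def par1 : List (ℕ × ℕ) := [
    (0, 0), (0, 0)]

theorem ho1 : OrbOK 6 cartL 0 pts1 par1 := by decide +kernel

theorem ub1 : Finite (truncTo CoxeterMatrix.E₆ 1 (by decide)).Group ∧
    Nat.card (truncTo CoxeterMatrix.E₆ 1 (by decide)).Group ≤ 2 :=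
  ub_step CoxeterMatrix.E₆ 0 (by decide) cert1 rfl matf hmat hc1 1 (ub_zero CoxeterMatrix.E₆)

theorem lb1 : 2 ≤ Nat.card (G (hsq_of_hR CoxeterMatrix.E₆ hR) 1) :=
  lbG_step (hsq_of_hR CoxeterMatrix.E₆ hR) 0 (by decide) 1 (lbG_zero (hsq_of_hR CoxeterMatrix.E₆ hR)) pts1 par1 ho1
    (finite_G CoxeterMatrix.E₆ hR 1 (by decide) ub1.1)

theorem card1 : Nat.card (truncTo CoxeterMatrix.E₆ 1 (by decide)).Group = 2 :=
  (card_eq_and_injective CoxeterMatrix.E₆ hR 1 (by decide) 2 ub1 lb1).1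

theorem inj1 : Function.Injective (rho CoxeterMatrix.E₆ hR 1 (by decide)) :=
  (card_eq_and_injective CoxeterMatrix.E₆ hR 1 (by decide) 2 ub1 lb1).2

/-! ### level 2: index 2, order 4 -/

def cert2 : Cert where
  k := 2
  N := 2
  tbl := [
    [0, 1], [1, 0]]
  words := [
    [], [1]]
  rk := [
    [0, 0], [2, 1]]
  just := [
    [.base, .tree], [(.scan 0 0 1 1), .mirror]]

theorem hc2 : cert2.check matf (fun i => decide (i < 1)) = true := by decide +kernel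

def pts2 : List (List ℕ) := [
    [8, 9, 8, 8, 8, 8], [8, 7, 8, 9, 8, 8]]

def par2 : List (ℕ × ℕ) := [
    (0, 0), (0, 1)]

theorem ho2 : OrbOK 6 cartL 1 pts2 par2 := by decide +kernel

theorem ub2 : Finite (truncTo CoxeterMatrix.E₆ 2 (by decide)).Group ∧
    Nat.card (truncTo CoxeterMatrix.E₆ 2 (by decide)).Group ≤ 4 :=
  ub_step CoxeterMatrix.E₆ 1 (by decide) cert2 rfl matf hmat hc2 2 ub1

theorem lb2 : 4 ≤ Nat.card (G (hsq_of_hR CoxeterMatrix.E₆ hR) 2) :=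
  lbG_step (hsq_of_hR CoxeterMatrix.E₆ hR) 1 (by decide) 2 lb1 pts2 par2 ho2
    (finite_G CoxeterMatrix.E₆ hR 2 (by decide) ub2.1)

theorem card2 : Nat.card (truncTo CoxeterMatrix.E₆ 2 (by decide)).Group = 4 :=
  (card_eq_and_injective CoxeterMatrix.E₆ hR 2 (by decide) 4 ub2 lb2).1

theorem inj2 : Function.Injective (rho CoxeterMatrix.E₆ hR 2 (by decide)) :=
  (card_eq_and_injective CoxeterMatrix.E₆ hR 2 (by decide) 4 ub2 lb2).2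

/-! ### level 3: index 3, order 12 -/

def cert3 : Cert where
  k := 3
  N := 3
  tbl := [
    [0, 0, 1], [2, 1, 0], [1, 2, 2]]
  words := [
    [], [2], [0, 2]]
  rk := [
    [0, 0, 0], [0, 2, 1], [1, 3, 2]]
  just := [
    [.base, .base, .tree], [.tree, (.scan 0 1 2 1), .mirror],
    [.mirror, (.scan 1 0 1 2), (.scan 0 0 2 2)]]

theorem hc3 : cert3.check matf (fun i => decide (i < 2)) = true := by decide +kernel

def pts3 : List (List ℕ) := [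
    [8, 8, 9, 8, 8, 8], [9, 8, 7, 9, 8, 8], [7, 8, 8, 9, 8, 8]]

def par3 : List (ℕ × ℕ) := [
    (0, 0), (0, 2), (1, 0)]

theorem ho3 : OrbOK 6 cartL 2 pts3 par3 := by decide +kernel

theorem ub3 : Finite (truncTo CoxeterMatrix.E₆ 3 (by decide)).Group ∧
    Nat.card (truncTo CoxeterMatrix.E₆ 3 (by decide)).Group ≤ 12 :=
  ub_step CoxeterMatrix.E₆ 2 (by decide) cert3 rfl matf hmat hc3 4 ub2

theorem lb3 : 12 ≤ Nat.card (G (hsq_of_hR CoxeterMatrix.E₆ hR) 3) :=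
  lbG_step (hsq_of_hR CoxeterMatrix.E₆ hR) 2 (by decide) 4 lb2 pts3 par3 ho3
    (finite_G CoxeterMatrix.E₆ hR 3 (by decide) ub3.1)

theorem card3 : Nat.card (truncTo CoxeterMatrix.E₆ 3 (by decide)).Group = 12 :=
  (card_eq_and_injective CoxeterMatrix.E₆ hR 3 (by decide) 12 ub3 lb3).1

theorem inj3 : Function.Injective (rho CoxeterMatrix.E₆ hR 3 (by decide)) :=
  (card_eq_and_injective CoxeterMatrix.E₆ hR 3 (by decide) 12 ub3 lb3).2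

/-! ### level 4: index 10, order 120 -/

def cert4 : Cert where
  k := 4
  N := 10
  tbl := [
    [0, 0, 0, 1], [1, 2, 3, 0], [2, 1, 4, 2], [5, 4, 1, 3], [6, 3, 2, 7], [3, 6, 5, 5], [4, 5, 6, 8], [8, 7, 7, 4],
    [7, 8, 9, 6], [9, 9, 8, 9]]
  words := [
    [], [3], [1, 3], [2, 3],
    [2, 1, 3], [0, 2, 3], [0, 2, 1, 3], [3, 2, 1, 3],
    [3, 0, 2, 1, 3], [2, 3, 0, 2, 1, 3]]
  rk := [
    [0, 0, 0, 0], [2, 0, 0, 1], [3, 1, 0, 2], [0, 2, 1, 2], [0, 3, 1, 0], [1, 4, 3, 3], [1, 3, 4, 0], [2, 4, 3, 1],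
    [3, 5, 0, 1], [4, 6, 1, 5]]
  just := [
    [.base, .base, .base, .tree], [(.scan 0 0 3 1), .tree, .tree, .mirror],
    [(.scan 1 0 1 1), .mirror, .tree, (.scan 0 1 3 2)], [.tree, (.scan 1 1 2 1), .mirror, (.scan 0 2 3 2)],
    [.tree, .mirror, .mirror, .tree], [.mirror, .mirror, (.scan 1 0 2 2), (.scan 3 0 3 2)],
    [.mirror, (.scan 3 0 1 2), (.scan 2 0 2 2), .tree], [(.scan 4 0 3 1), (.scan 3 1 3 3), (.scan 2 2 3 3), .mirror],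
    [.mirror, (.scan 5 1 3 3), .tree, .mirror], [(.scan 7 0 2 3), (.scan 8 1 2 1), .mirror, (.scan 6 2 3 2)]]

theorem hc4 : cert4.check matf (fun i => decide (i < 3)) = true := by decide +kernel

def pts4 : List (List ℕ) := [
    [8, 8, 8, 9, 8, 8], [8, 9, 9, 7, 9, 8], [8, 7, 9, 8, 9, 8], [9, 9, 7, 8, 9, 8], [9, 7, 7, 9, 9, 8], [7, 9, 8, 8, 9, 8], [7, 7, 8, 9, 9, 8], [9, 8, 8, 7, 10, 8],
    [7, 8, 9, 7, 10, 8], [8, 8, 7, 8, 10, 8]]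

def par4 : List (ℕ × ℕ) := [
    (0, 0), (0, 3), (1, 1), (1, 2), (2, 2), (3, 0), (4, 0), (4, 3), (6, 3), (8, 2)]

theorem ho4 : OrbOK 6 cartL 3 pts4 par4 := by decide +kernel

theorem ub4 : Finite (truncTo CoxeterMatrix.E₆ 4 (by decide)).Group ∧
    Nat.card (truncTo CoxeterMatrix.E₆ 4 (by decide)).Group ≤ 120 :=
  ub_step CoxeterMatrix.E₆ 3 (by decide) cert4 rfl matf hmat hc4 12 ub3

theorem lb4 : 120 ≤ Nat.card (G (hsq_of_hR CoxeterMatrix.E₆ hR) 4) :=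
  lbG_step (hsq_of_hR CoxeterMatrix.E₆ hR) 3 (by decide) 12 lb3 pts4 par4 ho4
    (finite_G CoxeterMatrix.E₆ hR 4 (by decide) ub4.1)

theorem card4 : Nat.card (truncTo CoxeterMatrix.E₆ 4 (by decide)).Group = 120 :=
  (card_eq_and_injective CoxeterMatrix.E₆ hR 4 (by decide) 120 ub4 lb4).1

theorem inj4 : Function.Injective (rho CoxeterMatrix.E₆ hR 4 (by decide)) :=
  (card_eq_and_injective CoxeterMatrix.E₆ hR 4 (by decide) 120 ub4 lb4).2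

/-! ### level 5: index 16, order 1920 -/

def cert5 : Cert where
  k := 5
  N := 16
  tbl := [
    [0, 0, 0, 0, 1], [1, 1, 1, 2, 0], [2, 3, 4, 1, 2], [3, 2, 5, 3, 3], [6, 5, 2, 4, 4], [7, 4, 3, 8, 5], [4, 7, 6, 6, 6], [5, 6, 7, 9, 7],
    [9, 8, 8, 5, 10], [8, 9, 11, 7, 12], [12, 10, 10, 10, 8], [11, 11, 9, 11, 13], [10, 12, 13, 12, 9], [13, 13, 12, 14, 11], [14, 15, 14, 13, 14], [15, 14, 15, 15, 15]]
  words := [
    [], [4], [3, 4], [1, 3, 4],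
    [2, 3, 4], [2, 1, 3, 4], [0, 2, 3, 4], [0, 2, 1, 3, 4],
    [3, 2, 1, 3, 4], [3, 0, 2, 1, 3, 4], [4, 3, 2, 1, 3, 4], [2, 3, 0, 2, 1, 3, 4],
    [4, 3, 0, 2, 1, 3, 4], [4, 2, 3, 0, 2, 1, 3, 4], [3, 4, 2, 3, 0, 2, 1, 3, 4], [1, 3, 4, 2, 3, 0, 2, 1, 3, 4]]
  rk := [
    [0, 0, 0, 0, 0], [2, 2, 2, 0, 1], [3, 0, 0, 1, 2], [4, 1, 0, 3, 3], [0, 2, 1, 3, 3], [0, 3, 1, 0, 4], [1, 4, 4, 4, 4], [1, 3, 5, 0, 5],
    [2, 4, 4, 1, 0], [3, 5, 0, 1, 0], [4, 5, 5, 5, 1], [5, 6, 1, 6, 0], [5, 6, 2, 6, 1], [6, 7, 3, 0, 1], [7, 0, 7, 1, 7], [8, 1, 8, 8, 8]]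
  just := [
    [.base, .base, .base, .base, .tree], [(.scan 0 0 4 1), (.scan 0 1 4 1), (.scan 0 2 4 1), .tree, .mirror],
    [(.scan 1 0 3 1), .tree, .tree, .mirror, (.scan 0 3 4 2)], [(.scan 2 0 1 1), .mirror, .tree, (.scan 1 1 3 2), (.scan 2 1 4 2)],
    [.tree, (.scan 2 1 2 1), .mirror, (.scan 1 2 3 2), (.scan 2 2 4 2)], [.tree, .mirror, .mirror, .tree, (.scan 3 2 4 2)],
    [.mirror, .mirror, (.scan 2 0 2 2), (.scan 4 0 3 2), (.scan 4 0 4 2)], [.mirror, (.scan 4 0 1 2), (.scan 3 0 2 2), .tree, (.scan 5 0 4 2)],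
    [(.scan 5 0 3 1), (.scan 4 1 3 3), (.scan 3 2 3 3), .mirror, .tree], [.mirror, (.scan 6 1 3 3), .tree, .mirror, .tree],
    [(.scan 8 0 4 1), (.scan 8 1 4 1), (.scan 8 2 4 1), (.scan 5 3 4 3), .mirror], [(.scan 8 0 2 3), (.scan 9 1 2 1), .mirror, (.scan 7 2 3 2), .tree],
    [.mirror, (.scan 9 1 4 1), (.scan 9 2 4 1), (.scan 7 3 4 3), .mirror], [(.scan 10 0 2 3), (.scan 11 1 4 1), .mirror, .tree, .mirror],
    [(.scan 13 0 3 1), .tree, (.scan 12 2 3 3), .mirror, (.scan 11 3 4 2)], [(.scan 14 0 1 1), .mirror, (.scan 14 1 2 2), (.scan 13 1 3 2), (.scan 14 1 4 2)]]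

theorem hc5 : cert5.check matf (fun i => decide (i < 4)) = true := by decide +kernel

def pts5 : List (List ℕ) := [
    [8, 8, 8, 8, 9, 8], [8, 8, 8, 9, 7, 9], [8, 9, 9, 7, 8, 9], [8, 7, 9, 8, 8, 9], [9, 9, 7, 8, 8, 9], [9, 7, 7, 9, 8, 9], [7, 9, 8, 8, 8, 9], [7, 7, 8, 9, 8, 9],
    [9, 8, 8, 7, 9, 9], [7, 8, 9, 7, 9, 9], [9, 8, 8, 8, 7, 10], [8, 8, 7, 8, 9, 9], [7, 8, 9, 8, 7, 10], [8, 8, 7, 9, 7, 10], [8, 9, 8, 7, 8, 10], [8, 7, 8, 8, 8, 10]]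

def par5 : List (ℕ × ℕ) := [
    (0, 0), (0, 4), (1, 3), (2, 1), (2, 2), (3, 2), (4, 0), (5, 0), (5, 3), (7, 3), (8, 4), (9, 2),
    (9, 4), (11, 4), (13, 3), (14, 1)]

theorem ho5 : OrbOK 6 cartL 4 pts5 par5 := by decide +kernel

theorem ub5 : Finite (truncTo CoxeterMatrix.E₆ 5 (by decide)).Group ∧
    Nat.card (truncTo CoxeterMatrix.E₆ 5 (by decide)).Group ≤ 1920 :=
  ub_step CoxeterMatrix.E₆ 4 (by decide) cert5 rfl matf hmat hc5 120 ub4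

theorem lb5 : 1920 ≤ Nat.card (G (hsq_of_hR CoxeterMatrix.E₆ hR) 5) :=
  lbG_step (hsq_of_hR CoxeterMatrix.E₆ hR) 4 (by decide) 120 lb4 pts5 par5 ho5
    (finite_G CoxeterMatrix.E₆ hR 5 (by decide) ub5.1)

theorem card5 : Nat.card (truncTo CoxeterMatrix.E₆ 5 (by decide)).Group = 1920 :=
  (card_eq_and_injective CoxeterMatrix.E₆ hR 5 (by decide) 1920 ub5 lb5).1

theorem inj5 : Function.Injective (rho CoxeterMatrix.E₆ hR 5 (by decide)) :=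
  (card_eq_and_injective CoxeterMatrix.E₆ hR 5 (by decide) 1920 ub5 lb5).2

/-! ### level 6: index 27, order 51840 -/

def cert6 : Cert where
  k := 6
  N := 27
  tbl := [
    [0, 0, 0, 0, 0, 1], [1, 1, 1, 1, 2, 0], [2, 2, 2, 3, 1, 2], [3, 4, 5, 2, 3, 3], [4, 3, 6, 4, 4, 4], [7, 6, 3, 5, 5, 5], [8, 5, 4, 9, 6, 6], [5, 8, 7, 7, 7, 7],
    [6, 7, 8, 10, 8, 8], [10, 9, 9, 6, 11, 9], [9, 10, 12, 8, 13, 10], [13, 11, 11, 11, 9, 14], [12, 12, 10, 12, 15, 12], [11, 13, 15, 13, 10, 16], [16, 14, 14, 14, 14, 11], [15, 15, 13, 17, 12, 18],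
    [14, 16, 18, 16, 16, 13], [17, 19, 17, 15, 17, 20], [18, 18, 16, 20, 18, 15], [19, 17, 19, 19, 19, 21], [20, 21, 20, 18, 22, 17], [21, 20, 21, 21, 23, 19], [22, 23, 22, 22, 20, 22], [23, 22, 23, 24, 21, 23],
    [24, 24, 25, 23, 24, 24], [26, 25, 24, 25, 25, 25], [25, 26, 26, 26, 26, 26]]
  words := [
    [], [5], [4, 5], [3, 4, 5],
    [1, 3, 4, 5], [2, 3, 4, 5], [2, 1, 3, 4, 5], [0, 2, 3, 4, 5],
    [0, 2, 1, 3, 4, 5], [3, 2, 1, 3, 4, 5], [3, 0, 2, 1, 3, 4, 5], [4, 3, 2, 1, 3, 4, 5],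
    [2, 3, 0, 2, 1, 3, 4, 5], [4, 3, 0, 2, 1, 3, 4, 5], [5, 4, 3, 2, 1, 3, 4, 5], [4, 2, 3, 0, 2, 1, 3, 4, 5],
    [5, 4, 3, 0, 2, 1, 3, 4, 5], [3, 4, 2, 3, 0, 2, 1, 3, 4, 5], [5, 4, 2, 3, 0, 2, 1, 3, 4, 5], [1, 3, 4, 2, 3, 0, 2, 1, 3, 4, 5],
    [5, 3, 4, 2, 3, 0, 2, 1, 3, 4, 5], [5, 1, 3, 4, 2, 3, 0, 2, 1, 3, 4, 5], [4, 5, 3, 4, 2, 3, 0, 2, 1, 3, 4, 5], [4, 5, 1, 3, 4, 2, 3, 0, 2, 1, 3, 4, 5],
    [3, 4, 5, 1, 3, 4, 2, 3, 0, 2, 1, 3, 4, 5], [2, 3, 4, 5, 1, 3, 4, 2, 3, 0, 2, 1, 3, 4, 5], [0, 2, 3, 4, 5, 1, 3, 4, 2, 3, 0, 2, 1, 3, 4, 5]]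
  rk := [
    [0, 0, 0, 0, 0, 0], [2, 2, 2, 2, 0, 1], [3, 3, 3, 0, 1, 2], [4, 0, 0, 1, 3, 3], [5, 1, 0, 4, 4, 4], [0, 2, 1, 4, 4, 4], [0, 3, 1, 0, 5, 5], [1, 4, 5, 5, 5, 5],
    [1, 3, 6, 0, 6, 6], [2, 5, 5, 1, 0, 6], [3, 6, 0, 1, 0, 7], [4, 6, 6, 6, 1, 0], [6, 7, 1, 7, 0, 8], [5, 7, 2, 7, 1, 0], [6, 7, 7, 7, 7, 1], [7, 8, 3, 0, 1, 0],
    [7, 8, 4, 8, 8, 1], [8, 0, 8, 1, 8, 0], [8, 9, 5, 2, 9, 1], [9, 1, 9, 9, 9, 0], [9, 2, 9, 3, 0, 1], [10, 3, 10, 10, 0, 1], [10, 4, 10, 10, 1, 9], [11, 5, 11, 0, 1, 10],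
    [12, 11, 0, 1, 11, 11], [0, 12, 1, 12, 12, 12], [1, 13, 13, 13, 13, 13]]
  just := [
    [.base, .base, .base, .base, .base, .tree], [(.scan 0 0 5 1), (.scan 0 1 5 1), (.scan 0 2 5 1), (.scan 0 3 5 1), .tree, .mirror],
    [(.scan 1 0 4 1), (.scan 1 1 4 1), (.scan 1 2 4 1), .tree, .mirror, (.scan 0 4 5 2)], [(.scan 2 0 3 1), .tree, .tree, .mirror, (.scan 1 3 4 2), (.scan 2 3 5 2)],
    [(.scan 3 0 1 1), .mirror, .tree, (.scan 2 1 3 2), (.scan 3 1 4 2), (.scan 3 1 5 2)], [.tree, (.scan 3 1 2 1), .mirror, (.scan 2 2 3 2), (.scan 3 2 4 2), (.scan 3 2 5 2)],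
    [.tree, .mirror, .mirror, .tree, (.scan 4 2 4 2), (.scan 4 2 5 2)], [.mirror, .mirror, (.scan 3 0 2 2), (.scan 5 0 3 2), (.scan 5 0 4 2), (.scan 5 0 5 2)],
    [.mirror, (.scan 5 0 1 2), (.scan 4 0 2 2), .tree, (.scan 6 0 4 2), (.scan 6 0 5 2)], [(.scan 6 0 3 1), (.scan 5 1 3 3), (.scan 4 2 3 3), .mirror, .tree, (.scan 6 3 5 2)],
    [.mirror, (.scan 7 1 3 3), .tree, .mirror, .tree, (.scan 8 3 5 2)], [(.scan 9 0 4 1), (.scan 9 1 4 1), (.scan 9 2 4 1), (.scan 6 3 4 3), .mirror, .tree],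
    [(.scan 9 0 2 3), (.scan 10 1 2 1), .mirror, (.scan 8 2 3 2), .tree, (.scan 10 2 5 2)], [.mirror, (.scan 10 1 4 1), (.scan 10 2 4 1), (.scan 8 3 4 3), .mirror, .tree],
    [(.scan 11 0 5 1), (.scan 11 1 5 1), (.scan 11 2 5 1), (.scan 11 3 5 1), (.scan 9 4 5 3), .mirror], [(.scan 11 0 2 3), (.scan 12 1 4 1), .mirror, .tree, .mirror, .tree],
    [.mirror, (.scan 13 1 5 1), (.scan 13 2 5 1), (.scan 13 3 5 1), (.scan 10 4 5 3), .mirror], [(.scan 15 0 3 1), .tree, (.scan 13 2 3 3), .mirror, (.scan 12 3 4 2), .tree],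
    [(.scan 14 0 2 3), (.scan 15 1 5 1), .mirror, (.scan 15 3 5 1), (.scan 12 4 5 3), .mirror], [(.scan 17 0 1 1), .mirror, (.scan 17 1 2 2), (.scan 15 1 3 2), (.scan 17 1 4 2), .tree],
    [(.scan 17 0 5 1), (.scan 17 1 5 1), (.scan 16 2 3 3), .mirror, .tree, .mirror], [(.scan 19 0 5 1), .mirror, (.scan 19 2 5 1), (.scan 18 1 3 2), .tree, .mirror],
    [(.scan 20 0 4 1), (.scan 20 1 4 1), (.scan 20 2 4 1), (.scan 18 3 4 3), .mirror, (.scan 17 4 5 2)], [(.scan 21 0 4 1), .mirror, (.scan 21 2 4 1), .tree, .mirror, (.scan 19 4 5 2)],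
    [(.scan 23 0 3 1), (.scan 22 1 3 3), .tree, .mirror, (.scan 21 3 4 2), (.scan 23 3 5 2)], [.tree, (.scan 24 1 2 1), .mirror, (.scan 23 2 3 2), (.scan 24 2 4 2), (.scan 24 2 5 2)],
    [.mirror, (.scan 25 0 1 2), (.scan 24 0 2 2), (.scan 25 0 3 2), (.scan 25 0 4 2), (.scan 25 0 5 2)]]

theorem hc6 : cert6.check matf (fun i => decide (i < 5)) = true := by decide +kernel

def pts6 : List (List ℕ) := [
    [8, 8, 8, 8, 8, 9], [8, 8, 8, 8, 9, 7], [8, 8, 8, 9, 7, 8], [8, 9, 9, 7, 8, 8], [8, 7, 9, 8, 8, 8], [9, 9, 7, 8, 8, 8], [9, 7, 7, 9, 8, 8], [7, 9, 8, 8, 8, 8],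
    [7, 7, 8, 9, 8, 8], [9, 8, 8, 7, 9, 8], [7, 8, 9, 7, 9, 8], [9, 8, 8, 8, 7, 9], [8, 8, 7, 8, 9, 8], [7, 8, 9, 8, 7, 9], [9, 8, 8, 8, 8, 7], [8, 8, 7, 9, 7, 9],
    [7, 8, 9, 8, 8, 7], [8, 9, 8, 7, 8, 9], [8, 8, 7, 9, 8, 7], [8, 7, 8, 8, 8, 9], [8, 9, 8, 7, 9, 7], [8, 7, 8, 8, 9, 7], [8, 9, 8, 8, 7, 8], [8, 7, 8, 9, 7, 8],
    [8, 8, 9, 7, 8, 8], [9, 8, 7, 8, 8, 8], [7, 8, 8, 8, 8, 8]]

def par6 : List (ℕ × ℕ) := [
    (0, 0), (0, 5), (1, 4), (2, 3), (3, 1), (3, 2), (4, 2), (5, 0), (6, 0), (6, 3), (8, 3), (9, 4),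
    (10, 2), (10, 4), (11, 5), (12, 4), (13, 5), (15, 3), (15, 5), (17, 1), (17, 5), (19, 5), (20, 4), (21, 4),
    (23, 3), (24, 2), (25, 0)]

theorem ho6 : OrbOK 6 cartL 5 pts6 par6 := by decide +kernel

theorem ub6 : Finite (truncTo CoxeterMatrix.E₆ 6 (by decide)).Group ∧
    Nat.card (truncTo CoxeterMatrix.E₆ 6 (by decide)).Group ≤ 51840 :=
  ub_step CoxeterMatrix.E₆ 5 (by decide) cert6 rfl matf hmat hc6 1920 ub5

theorem lb6 : 51840 ≤ Nat.card (G (hsq_of_hR CoxeterMatrix.E₆ hR) 6) :=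
  lbG_step (hsq_of_hR CoxeterMatrix.E₆ hR) 5 (by decide) 1920 lb5 pts6 par6 ho6
    (finite_G CoxeterMatrix.E₆ hR 6 (by decide) ub6.1)

theorem card6 : Nat.card (truncTo CoxeterMatrix.E₆ 6 (by decide)).Group = 51840 :=
  (card_eq_and_injective CoxeterMatrix.E₆ hR 6 (by decide) 51840 ub6 lb6).1

theorem inj6 : Function.Injective (rho CoxeterMatrix.E₆ hR 6 (by decide)) :=
  (card_eq_and_injective CoxeterMatrix.E₆ hR 6 (by decide) 51840 ub6 lb6).2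

theorem cpow6 : (((List.range 6).map (reflM 6 cartL)).prod) ^ 12 = 1 := by decide +kernel

theorem cne6_2 : (((List.range 6).map (reflM 6 cartL)).prod) ^ 6 ≠ 1 := by decide +kernel

theorem cne6_3 : (((List.range 6).map (reflM 6 cartL)).prod) ^ 4 ≠ 1 := by decide +kernel

theorem cox6 : orderOf ((List.finRange 6).map (truncTo CoxeterMatrix.E₆ 6 (by decide)).simple).prod = 12 := by
  refine orderOf_coxeter CoxeterMatrix.E₆ hR 6 (by decide) inj6 12 (by decide) cpow6 ?_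
  intro p hp hpd
  have hle : p ≤ 12 := Nat.le_of_dvd (by decide) hpd
  have hmem : p ∈ ([2, 3] : List ℕ) := by
    interval_cases p <;> first | (exfalso; revert hp; decide) | (exfalso; revert hpd; decide) | decide
  simp only [List.mem_cons, List.mem_nil_iff, or_false] at hmem
  rcases hmem with rfl | rfl
  · exact cne6_2
  · exact cne6_3

end Cfsg.Agent.Lib.helper19_CoxE6
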