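import Mathlib
import Cfsg.Agent.Lib.helper19_CoxE6
import Cfsg.Agent.Lib.helper19_M23Defs

/-!
# S2054 market (architect helper19), package E6W

In the Coxeter group `E₆` the reflection in the highest root (`uword`) braids with the simple reflection `1`.
Proof: the identity holds for the integer reflection matrices (`decide`), the reflection representation `rho` of
`(truncTo E₆ 6 _).Group` is faithful (`helper19_CoxE6.inj6`), and `(truncTo E₆ 6 _).Group` maps onto `E₆.Group`.
-/

set_option autoImplicit false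
set_option maxRecDepth 1000000

namespace Cfsg.Agent.Lib.Helper17_M23_E6W

open Cfsg Cfsg.Spor Cfsg.Agent.Lib.Helper66_S96 Cfsg.Agent.Lib.Helper66_S92
  Cfsg.Agent.Lib.Helper81_UceA
open Cfsg.Agent.Lib.helper19_M23
open Cfsg.Agent.Lib.helper19_TC Cfsg.Agent.Lib.helper19_CoxChain Cfsg.Agent.Lib.helper19_CoxRefl
  Cfsg.Agent.Lib.helper19_CoxE6

/-- the identity for the integer reflection matrices -/
theorem mat_braid :
    let r : ℕ → Matrix (Fin 6) (Fin 6) ℤ := reflM 6 cartL
    let w := r 1 * r 3 * r 4 * r 2 * r 3 * r 1 * r 5 * r 4 * r 0 * r 2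
    let w' := r 2 * r 0 * r 4 * r 5 * r 1 * r 3 * r 2 * r 4 * r 3 * r 1
    (w * r 3 * w') * r 1 * (w * r 3 * w') = r 1 * (w * r 3 * w') * r 1 := by
  decide +kernel

/-- the truncated Coxeter matrix (all six nodes) -/
noncomputable abbrev T6 : CoxeterMatrix (Fin 6) := truncTo CoxeterMatrix.E₆ 6 (by decide)

/-- the simple reflections of the truncated group as a family on `Fin 7` -/
noncomputable def t7 (i : Fin 7) : T6.Group := gen T6 i.val

theorem val_reflU {i : ℕ} (h : i < 6) :
    ((reflU (hsq_of_hR CoxeterMatrix.E₆ hR) i : (Matrix (Fin 6) (Fin 6) ℤ)ˣ) :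
      Matrix (Fin 6) (Fin 6) ℤ) = reflM 6 cartL i :=
  reflU_val _ h

theorem val_inv_reflU {i : ℕ} (h : i < 6) :
    (((reflU (hsq_of_hR CoxeterMatrix.E₆ hR) i)⁻¹ : (Matrix (Fin 6) (Fin 6) ℤ)ˣ) :
      Matrix (Fin 6) (Fin 6) ℤ) = reflM 6 cartL i := by
  simp [reflU, h]

theorem rho_t7 (i : Fin 7) (h : i.val < 6) :
    rho CoxeterMatrix.E₆ hR 6 (by decide) (t7 i) = reflU (hsq_of_hR CoxeterMatrix.E₆ hR) i.val := by
  unfold t7
  rw [gen_of_lt T6 h]
  exact rho_simple CoxeterMatrix.E₆ hR 6 (by decide) ⟨i.val, h⟩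

/-- the braid identity in the truncated group -/
theorem braid_trunc : uword t7 * t7 1 * uword t7 = t7 1 * uword t7 * t7 1 := by
  apply inj6
  have h0 := rho_t7 0 (by decide)
  have h1 := rho_t7 1 (by decide)
  have h2 := rho_t7 2 (by decide)
  have h3 := rho_t7 3 (by decide)
  have h4 := rho_t7 4 (by decide)
  have h5 := rho_t7 5 (by decide)
  unfold uword
  simp only [map_mul, map_inv, h0, h1, h2, h3, h4, h5, mul_inv_rev]
  apply Units.ext
  simp only [Units.val_mul]
  have e0 : ((0 : Fin 7) : ℕ) = 0 := rfl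
  have e1 : ((1 : Fin 7) : ℕ) = 1 := rfl
  have e2 : ((2 : Fin 7) : ℕ) = 2 := rfl
  have e3 : ((3 : Fin 7) : ℕ) = 3 := rfl
  have e4 : ((4 : Fin 7) : ℕ) = 4 := rfl
  have e5 : ((5 : Fin 7) : ℕ) = 5 := rfl
  simp only [e0, e1, e2, e3, e4, e5]
  rw [val_reflU (i := 0) (by decide), val_reflU (i := 1) (by decide), val_reflU (i := 2) (by decide),
    val_reflU (i := 3) (by decide), val_reflU (i := 4) (by decide), val_reflU (i := 5) (by decide),
    val_inv_reflU (i := 0) (by decide), val_inv_reflU (i := 1) (by decide),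
    val_inv_reflU (i := 2) (by decide), val_inv_reflU (i := 3) (by decide),
    val_inv_reflU (i := 4) (by decide), val_inv_reflU (i := 5) (by decide)]
  have := mat_braid
  simp only [mul_assoc] at this ⊢
  exact this

/-- the canonical map from the truncated group onto `E₆.Group` -/
noncomputable def chi : T6.Group →* CoxeterMatrix.E₆.Group :=
  T6.toCoxeterSystem.lift
    ⟨fun i => CoxeterMatrix.E₆.toCoxeterSystem.simple i, fun i j => by
      have := CoxeterMatrix.E₆.toCoxeterSystem.simple_mul_simple_pow i j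
      simpa [truncTo_apply] using this⟩

theorem chi_simple (i : Fin 6) : chi (T6.simple i) = CoxeterMatrix.E₆.toCoxeterSystem.simple i :=
  T6.toCoxeterSystem.lift_apply_simple _ i

theorem chi_t7 (s : Fin 7 → CoxeterMatrix.E₆.Group)
    (hs : ∀ i : Fin 6, s (Fin.castSucc i) = CoxeterMatrix.E₆.toCoxeterSystem.simple i)
    (i : Fin 6) : chi (t7 (Fin.castSucc i)) = s (Fin.castSucc i) := by
  unfold t7
  rw [gen_of_lt T6 (by simp), hs]
  exact chi_simple _

/-- **PKG E6W** (S).  In the Coxeter group `E₆` (Mathlib numbering) the reflection in the highest root braids with the simple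
reflection 1: via `helper19_CoxE6.inj6` (faithful integer matrices `rho`) and `decide` on 6 x 6 integer matrices. -/
theorem e6_braid (s : Fin 7 → CoxeterMatrix.E₆.Group)
    (hs : ∀ i : Fin 6, s (Fin.castSucc i) = CoxeterMatrix.E₆.toCoxeterSystem.simple i) :
    uword s * s 1 * uword s = s 1 * uword s * s 1 := by
  have h0 : chi (t7 0) = s 0 := chi_t7 s hs 0
  have h1 : chi (t7 1) = s 1 := chi_t7 s hs 1
  have h2 : chi (t7 2) = s 2 := chi_t7 s hs 2
  have h3 : chi (t7 3) = s 3 := chi_t7 s hs 3
  have h4 : chi (t7 4) = s 4 := chi_t7 s hs 4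
  have h5 : chi (t7 5) = s 5 := chi_t7 s hs 5
  have hu : chi (uword t7) = uword s := by
    unfold uword
    simp only [map_mul, map_inv, h0, h1, h2, h3, h4, h5]
  have := congrArg chi braid_trunc
  simp only [map_mul, hu, h1] at this
  exact this

end Cfsg.Agent.Lib.Helper17_M23_E6W
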