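import Mathlib
import Cfsg.Agent.Lib.Helper44_MI3Defs

set_option autoImplicit false

/-!
# MI3-SCNT (helper17): cardinalities in an `OddSetting`
-/

namespace Cfsg.Agent.Lib.Helper17_MI3_SCNT

open Module Cfsg.Agent.Lib.Helper14_OmegaSimple Cfsg.Agent.Lib.Helper22_MI2Defs
  Cfsg.Agent.Lib.Helper44_MI3Defs

variable {F V : Type*} [Field F] [AddCommGroup V] [Module F V]

theorem card_field {k : ℕ} (Q : QuadraticForm F V) (hS : OddSetting Q k) : Nat.card F = 3 := by
  have h01 : (0 : F) ≠ 1 := zero_ne_one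
  have h0m : (0 : F) ≠ -1 := by
    intro h
    have : (1 : F) = 0 := by linear_combination h
    exact one_ne_zero this
  have h1m : (1 : F) ≠ -1 := by
    intro h
    apply hS.two_ne
    linear_combination h
  have huniv : (Set.univ : Set F) = {0, 1, -1} := by
    ext c
    simp only [Set.mem_univ, Set.mem_insert_iff, Set.mem_singleton_iff, true_iff]
    exact hS.f3 c
  rw [← Set.ncard_univ, huniv]
  exact Set.ncard_eq_three.mpr ⟨0, 1, -1, h01, h0m, h1m, rfl⟩

/-- The package statement **MI3-SCNT**. -/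
theorem card_levels [Finite F] [FiniteDimensional F V] (Q : QuadraticForm F V) {k : ℕ}
    (hS : OddSetting Q k) :
    Nat.card F = 3 ∧ Nat.card V = 3 ^ (2 * k + 1) ∧
      Nat.card {x : V // x ≠ 0 ∧ Q x = 0} = 3 ^ (2 * k) - 1 ∧
      Nat.card {x : V // Q x = 1} = 3 ^ k * (3 ^ k + 1) := by
  have hF : Nat.card F = 3 := card_field Q hS
  have hVfin : Finite V := Module.finite_of_finite F
  have hV : Nat.card V = 3 ^ (2 * k + 1) := by
    rw [← hF, ← hS.dim]
    exact Module.natCard_eq_pow_finrank
  refine ⟨hF, hV, ?_, ?_⟩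
  · -- remove the zero vector
    have h0 : (0 : V) ∈ {x : V | Q x = 0} := by
      show Q 0 = 0
      exact QuadraticMap.map_zero Q
    have hset : {x : V | x ≠ 0 ∧ Q x = 0} = {x : V | Q x = 0} \ {0} := by
      ext x
      simp only [Set.mem_ofPred_eq, Set.mem_sdiff, Set.mem_singleton_iff]
      tauto
    have hn : {x : V | Q x = 0}.ncard = 3 ^ (2 * k) := by
      rw [← Nat.card_coe_set_eq]
      exact hS.nsing
    show Nat.card ↥{x : V | x ≠ 0 ∧ Q x = 0} = _
    rw [Nat.card_coe_set_eq, hset, Set.ncard_sdiff_singleton_of_mem h0, hn]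
  · -- the three level sets partition `V`
    have hn0 : {x : V | Q x = 0}.ncard = 3 ^ (2 * k) := by
      rw [← Nat.card_coe_set_eq]
      exact hS.nsing
    have hnm : {x : V | Q x = -1}.ncard = 3 ^ k * (3 ^ k - 1) := by
      rw [← Nat.card_coe_set_eq]
      exact hS.nminus
    have hne1 : (0 : F) ≠ 1 := zero_ne_one
    have h0m : (0 : F) ≠ -1 := by
      intro h
      have : (1 : F) = 0 := by linear_combination h
      exact one_ne_zero this
    have h1m : (1 : F) ≠ -1 := by
      intro h
      apply hS.two_ne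
      linear_combination h
    have huniv : (Set.univ : Set V) =
        ({x : V | Q x = 0} ∪ {x : V | Q x = 1}) ∪ {x : V | Q x = -1} := by
      ext x
      simp only [Set.mem_univ, Set.mem_union, Set.mem_ofPred_eq, true_iff]
      rcases hS.f3 (Q x) with h | h | h
      · exact Or.inl (Or.inl h)
      · exact Or.inl (Or.inr h)
      · exact Or.inr h
    have hd1 : Disjoint {x : V | Q x = 0} {x : V | Q x = 1} := by
      rw [Set.disjoint_left]
      intro x hx hx'
      exact hne1 (hx.symm.trans hx')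
    have hd2 : Disjoint ({x : V | Q x = 0} ∪ {x : V | Q x = 1}) {x : V | Q x = -1} := by
      rw [Set.disjoint_left]
      intro x hx hx'
      rcases hx with hx | hx
      · exact h0m (hx.symm.trans hx')
      · exact h1m (hx.symm.trans hx')
    have hcount : (Set.univ : Set V).ncard =
        {x : V | Q x = 0}.ncard + {x : V | Q x = 1}.ncard + {x : V | Q x = -1}.ncard := by
      rw [huniv, Set.ncard_union_eq hd2 (Set.toFinite _) (Set.toFinite _),
        Set.ncard_union_eq hd1 (Set.toFinite _) (Set.toFinite _)]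
    rw [Set.ncard_univ, hV, hn0, hnm] at hcount
    show Nat.card ↥{x : V | Q x = 1} = _
    rw [Nat.card_coe_set_eq]
    have ha : 1 ≤ 3 ^ k := Nat.one_le_pow _ _ (by norm_num)
    obtain ⟨b, hb⟩ : ∃ b, 3 ^ k = b + 1 := ⟨3 ^ k - 1, by omega⟩
    have e1 : 3 ^ (2 * k) = (b + 1) * (b + 1) := by
      rw [two_mul, pow_add, hb]
    have e2 : 3 ^ (2 * k + 1) = 3 * ((b + 1) * (b + 1)) := by
      rw [pow_succ, e1]; ring
    rw [e2, e1, hb, Nat.add_sub_cancel] at hcount
    rw [hb]
    nlinarith

end Cfsg.Agent.Lib.Helper17_MI3_SCNT
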