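import Mathlib
import Cfsg.Agent.Lib.Helper38_MIODefs

/-!
# S2143 package MIO-TRANSP (architect helper38): every root group `R_y` is a `T Q`-conjugate of `A = R_v`
-/

set_option autoImplicit false

namespace Cfsg.Agent.Lib.Helper55_MIO_TRANSP

open Module Cfsg.Agent.Lib.Helper94_OrthSmall Cfsg.Agent.Lib.Helper44_QuadClass
  Cfsg.Agent.Lib.Helper14_OmegaSimple Cfsg.Agent.Lib.Helper38_MIODefs

section basic

variable {F V : Type*} [Field F] [AddCommGroup V] [Module F V]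

theorem apply_inv_apply (g : V ≃ₗ[F] V) (w : V) : g (g⁻¹ w) = w := by
  rw [← LinearEquiv.mul_apply, mul_inv_cancel]; rfl

theorem inv_apply_apply (g : V ≃ₗ[F] V) (w : V) : g⁻¹ (g w) = w := by
  rw [← LinearEquiv.mul_apply, inv_mul_cancel]; rfl

theorem polar_inv_right (Q : QuadraticForm F V) {g : V ≃ₗ[F] V} (hg : g ∈ oG (⇑Q)) (x w : V) :
    QuadraticMap.polar (⇑Q) x (g⁻¹ w) = QuadraticMap.polar (⇑Q) (g x) w := by
  rw [← oG_polar Q hg x (g⁻¹ w), apply_inv_apply]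

/-- transfer of a Siegel element at `y` to one at `v` by conjugation -/
theorem transfer (Q : QuadraticForm F V) {g : V ≃ₗ[F] V} (hg : g ∈ oG (⇑Q)) {v y : V} {c : F}
    (hc : c ≠ 0) (hgv : g v = c • y) (hQv : Q v = 0) (hQy : Q y = 0) {u : V}
    (hyu : QuadraticMap.polar (⇑Q) y u = 0) :
    QuadraticMap.polar (⇑Q) v (c⁻¹ • g⁻¹ u) = 0 ∧
      E Q y u = g * E Q v (c⁻¹ • g⁻¹ u) * g⁻¹ := by
  have h1 : QuadraticMap.polar (⇑Q) v (c⁻¹ • g⁻¹ u) = 0 := by
    rw [QuadraticMap.polar_smul_right, polar_inv_right Q hg, hgv, QuadraticMap.polar_smul_left, hyu,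
      smul_zero, smul_zero]
  refine ⟨h1, ?_⟩
  rw [conj_E Q hg hQv h1, hgv, map_smul, apply_inv_apply]
  have h2 : QuadraticMap.polar (⇑Q) y (c⁻¹ • u) = 0 := by
    rw [QuadraticMap.polar_smul_right, hyu, smul_zero]
  rw [E_smul_left Q hQy h2, smul_smul, mul_inv_cancel₀ hc, one_smul]

/-- the other direction: conjugating a Siegel element at `v` -/
theorem conj_at (Q : QuadraticForm F V) {g : V ≃ₗ[F] V} (hg : g ∈ oG (⇑Q)) {v y : V} {c : F}
    (hc : c ≠ 0) (hgv : g v = c • y) (hQv : Q v = 0) (hQy : Q y = 0) {w : V}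
    (hvw : QuadraticMap.polar (⇑Q) v w = 0) :
    QuadraticMap.polar (⇑Q) y (g w) = 0 ∧ g * E Q v w * g⁻¹ = E Q y (c • g w) := by
  have h1 : QuadraticMap.polar (⇑Q) y (g w) = 0 := by
    have h := oG_polar Q hg v w
    rw [hgv, QuadraticMap.polar_smul_left, hvw, smul_eq_mul] at h
    rcases mul_eq_zero.mp h with h0 | h0
    · exact absurd h0 hc
    · exact h0
  refine ⟨h1, ?_⟩
  rw [conj_E Q hg hQv hvw, hgv, E_smul_left Q hQy h1]

end basic

section part2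

variable {F V : Type*} [Field F] [Fintype F] [AddCommGroup V] [Module F V] [FiniteDimensional F V]

theorem transp (Q : QuadraticForm F V) (hQ : (QuadraticMap.polarBilin Q).Nondegenerate)
    (hdim : 5 ≤ finrank F V) {v v' : V} (hv : Q v = 0) (hv' : Q v' = 0)
    (hvv' : QuadraticMap.polar (⇑Q) v v' = 1) {y : V} (hy0 : y ≠ 0) (hy : Q y = 0) :
    ∃ g ∈ T Q, ∃ c : F, c ≠ 0 ∧ g v = c • y ∧
      (∀ w : ↥(perp Q v v'), g * E Q v (w : V) * g⁻¹ = E Q y (c • g (w : V))) ∧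
      (∀ u : V, QuadraticMap.polar (⇑Q) y u = 0 → ∃ (w : ↥(perp Q v v')) (a : F),
        (w : V) = c⁻¹ • g⁻¹ u + a • v ∧ E Q y u = g * E Q v (w : V) * g⁻¹) := by
  have hv0 : v ≠ 0 := by
    rintro rfl
    have : QuadraticMap.polar (⇑Q) (0 : V) v' = 0 := by simp [QuadraticMap.polar]
    rw [this] at hvv'
    exact zero_ne_one hvv'
  obtain ⟨g, hgT, c, hc, hgv⟩ := exists_mem_T_map Q hQ hdim hv0 hv hy0 hy
  have hgO := T_le_oG Q hgT
  refine ⟨g, hgT, c, hc, hgv, ?_, ?_⟩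
  · intro w
    have hvw := ((mem_perp Q v v').mp w.2).1
    exact (conj_at Q hgO hc hgv hv hy hvw).2
  · intro u hyu
    obtain ⟨h1, h2⟩ := transfer Q hgO hc hgv hv hy hyu
    have hv'v : QuadraticMap.polar (⇑Q) v' v = 1 := by rw [QuadraticMap.polar_comm]; exact hvv'
    have hvv : QuadraticMap.polar (⇑Q) v v = 0 := by rw [polar_self', hv, mul_zero]
    obtain ⟨w₀, hw₀⟩ : ∃ w₀ : V, w₀ = c⁻¹ • g⁻¹ u := ⟨_, rfl⟩
    rw [← hw₀] at h1 h2
    have hmem : w₀ + (-QuadraticMap.polar (⇑Q) v' w₀) • v ∈ perp Q v v' := by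
      rw [mem_perp]
      constructor
      · rw [QuadraticMap.polar_add_right, QuadraticMap.polar_smul_right, h1, hvv, smul_zero,
          add_zero]
      · rw [QuadraticMap.polar_add_right, QuadraticMap.polar_smul_right, hv'v, smul_eq_mul,
          mul_one, add_neg_cancel]
    refine ⟨⟨_, hmem⟩, -QuadraticMap.polar (⇑Q) v' w₀, ?_, ?_⟩
    · show w₀ + (-QuadraticMap.polar (⇑Q) v' w₀) • v = c⁻¹ • g⁻¹ u + _
      rw [← hw₀]
    rw [h2]
    show g * E Q v w₀ * g⁻¹ = g * E Q v (w₀ + (-QuadraticMap.polar (⇑Q) v' w₀) • v) * g⁻¹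
    rw [E_add_smul Q hv h1]

end part2

end Cfsg.Agent.Lib.Helper55_MIO_TRANSP
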