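import Mathlib
import Cfsg.Agent.Lib.Helper38_MIODefs
import Cfsg.Agent.Lib.Helper55_MIO_TRANSP

set_option autoImplicit false

/-!
MIO-KR2 (helper38's market for S2143 / S2145 / S2147): outcome 3 (every member of the orbit family lies in an
`F`-line) forces the group `T Q` to act trivially.  Hypothesis form `kr2_of` (the statement of MIO-TRANSP as a hypothesis) and the package statement `kr2`.
-/

namespace Cfsg.Agent.Lib.Helper17_MIO_KR2

open Module Cfsg.Agent.Lib.Helper94_OrthSmall Cfsg.Agent.Lib.Helper44_QuadClass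
  Cfsg.Agent.Lib.Helper14_OmegaSimple Cfsg.Agent.Lib.Helper38_MIODefs
open scoped commutatorElement

variable {F V : Type*} [Field F] [Fintype F] [AddCommGroup V] [Module F V] [FiniteDimensional F V]

/-- the conclusion of MIO-TRANSP for the singular vector `y` -/
def Transp (Q : QuadraticForm F V) (v v' y : V) : Prop :=
  ∃ g ∈ T Q, ∃ c : F, c ≠ 0 ∧ g v = c • y ∧
    (∀ w : ↥(perp Q v v'), g * E Q v (w : V) * g⁻¹ = E Q y (c • g (w : V))) ∧
    (∀ u : V, QuadraticMap.polar (⇑Q) y u = 0 → ∃ (w : ↥(perp Q v v')) (a : F),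
      (w : V) = c⁻¹ • g⁻¹ u + a • v ∧ E Q y u = g * E Q v (w : V) * g⁻¹)

omit [Fintype F] [FiniteDimensional F V] in
/-- Step 1: under `Out3` every `x` is fixed by `E(v,w)` for all `w` in a hyperplane of `W'` -/
theorem fix_of_perp (Q : QuadraticForm F V) {v v' : V} {X : Type*} [MulAction ↥(T Q) X]
    {𝒪 : Type*} (D : FamData Q v v' X 𝒪) (h3 : Out3 F D.C) (x : X) :
    ∃ x₀ : ↥(perp Q v v'), ∀ w : ↥(perp Q v v'),
      QuadraticMap.polar (⇑Q) (w : V) (x₀ : V) = 0 → act Q (E Q v (w : V)) x = x := by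
  obtain ⟨x₀, hx₀⟩ := h3 (D.orb x)
  refine ⟨x₀, fun w hw => ?_⟩
  rw [D.stab x w, mem_ann]
  intro y hy
  obtain ⟨a, rfl⟩ := hx₀ y hy
  have : Bp Q v v' w (a • x₀) = 0 := by
    rw [map_smul, QuadraticMap.polarBilin_apply_apply, polar_comp_subtype, hw, smul_zero]
  rw [this, map_zero]

/-- Step 2: the same for every root group -/
theorem root_fix (Q : QuadraticForm F V) (hQ : (QuadraticMap.polarBilin Q).Nondegenerate)
    (hdim : 5 ≤ finrank F V) {v v' : V} (hv : Q v = 0) {X : Type*} [MulAction ↥(T Q) X]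
    {𝒪 : Type*} (D : FamData Q v v' X 𝒪) (h3 : Out3 F D.C) {y : V} (hT : Transp Q v v' y)
    (x : X) :
    ∃ y₀ : V, ∀ u : V, QuadraticMap.polar (⇑Q) y u = 0 → QuadraticMap.polar (⇑Q) u y₀ = 0 →
      act Q (E Q y u) x = x := by
  obtain ⟨g, hg, c, hc, hgv, -, h2⟩ := hT
  have hginv : g⁻¹ ∈ T Q := Subgroup.inv_mem _ hg
  obtain ⟨x₀, hx₀⟩ := fix_of_perp Q D h3 (act Q g⁻¹ x)
  refine ⟨g (x₀ : V), fun u hyu hu0 => ?_⟩
  obtain ⟨w, a, hw, hE⟩ := h2 u hyu
  have hwperp := (mem_perp Q v v').1 w.2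
  have hx₀perp := (mem_perp Q v v').1 x₀.2
  have hEw : E Q v (w : V) ∈ T Q := E_mem_T Q hQ hdim hv hwperp.1
  have hpol : QuadraticMap.polar (⇑Q) (w : V) (x₀ : V) = 0 := by
    rw [hw, QuadraticMap.polar_add_left, QuadraticMap.polar_smul_left,
      QuadraticMap.polar_smul_left, hx₀perp.1, smul_zero, add_zero]
    have : QuadraticMap.polar (⇑Q) (g⁻¹ u) (x₀ : V) = QuadraticMap.polar (⇑Q) u (g (x₀ : V)) := by
      rw [← oG_polar Q (T_le_oG Q hg) (g⁻¹ u) (x₀ : V)]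
      congr 1
      exact Cfsg.Agent.Lib.Helper94_Symp.apply_inv_apply' g u
    rw [this, hu0, smul_zero]
  have h1 := hx₀ w hpol
  rw [hE, act_mul Q (Subgroup.mul_mem _ hg hEw) hginv, act_mul Q hg hEw, h1, ← act_mul Q hg hginv,
    mul_inv_cancel, act_one]

omit [Fintype F] in
/-- Step 3a: two vectors in the prescribed codimension-3 subspaces which are not orthogonal -/
theorem exists_pair (Q : QuadraticForm F V) (hQ : (QuadraticMap.polarBilin Q).Nondegenerate)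
    (hdim : 7 ≤ finrank F V) (y₁ y₂ p₁ p₂ : V) :
    ∃ a b : V, (QuadraticMap.polar (⇑Q) y₁ a = 0 ∧ QuadraticMap.polar (⇑Q) y₂ a = 0 ∧
        QuadraticMap.polar (⇑Q) a p₁ = 0) ∧
      (QuadraticMap.polar (⇑Q) y₁ b = 0 ∧ QuadraticMap.polar (⇑Q) y₂ b = 0 ∧
        QuadraticMap.polar (⇑Q) b p₂ = 0) ∧ QuadraticMap.polar (⇑Q) a b ≠ 0 := by
  classical
  by_contra hcon
  push Not at hcon
  set B : LinearMap.BilinForm F V := QuadraticMap.polarBilin Q with hBdef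
  have hBa : ∀ x y, B x y = QuadraticMap.polar (⇑Q) x y := fun x y => rfl
  have hrefl : B.IsRefl := fun x y h => by
    rw [hBa] at h ⊢; rw [QuadraticMap.polar_comm]; exact h
  set S₁ : Submodule F V := Submodule.span F (({y₁, y₂, p₁} : Finset V) : Set V) with hS₁
  set S₂ : Submodule F V := Submodule.span F (({y₁, y₂, p₂} : Finset V) : Set V) with hS₂
  have hd1 : finrank F S₁ ≤ 3 :=
    (finrank_span_finset_le_card _).trans Finset.card_le_three
  have hd2 : finrank F S₂ ≤ 3 :=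
    (finrank_span_finset_le_card _).trans Finset.card_le_three
  have hle : B.orthogonal S₂ ≤ S₁ := by
    intro b hb
    rw [← LinearMap.BilinForm.orthogonal_orthogonal hQ hrefl S₁]
    rw [LinearMap.BilinForm.mem_orthogonal_iff]
    intro a ha
    rw [LinearMap.BilinForm.mem_orthogonal_iff] at ha hb
    have m1 : y₁ ∈ S₁ := Submodule.subset_span (by simp)
    have m2 : y₂ ∈ S₁ := Submodule.subset_span (by simp)
    have m3 : p₁ ∈ S₁ := Submodule.subset_span (by simp)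
    have n1 : y₁ ∈ S₂ := Submodule.subset_span (by simp)
    have n2 : y₂ ∈ S₂ := Submodule.subset_span (by simp)
    have n3 : p₂ ∈ S₂ := Submodule.subset_span (by simp)
    refine hcon a b ⟨ha y₁ m1, ha y₂ m2, ?_⟩ ⟨hb y₁ n1, hb y₂ n2, ?_⟩
    · rw [QuadraticMap.polar_comm]; exact ha p₁ m3
    · rw [QuadraticMap.polar_comm]; exact hb p₂ n3
  have h1 := Submodule.finrank_mono hle
  rw [LinearMap.BilinForm.finrank_orthogonal hQ] at h1
  omega

omit [Fintype F] [FiniteDimensional F V] in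
/-- Step 3b: the commutator formula `⁅E(y₂,b), E(y₁,a)⁆ = E(y₁, -B(a,b) y₂)` -/
theorem comm_E (Q : QuadraticForm F V) {y₁ y₂ a b : V} (h1 : Q y₁ = 0) (h2 : Q y₂ = 0)
    (h12 : QuadraticMap.polar (⇑Q) y₁ y₂ = 0) (h1a : QuadraticMap.polar (⇑Q) y₁ a = 0)
    (h2a : QuadraticMap.polar (⇑Q) y₂ a = 0) (h1b : QuadraticMap.polar (⇑Q) y₁ b = 0)
    (h2b : QuadraticMap.polar (⇑Q) y₂ b = 0) :
    E Q y₁ ((-QuadraticMap.polar (⇑Q) a b) • y₂) =
      E Q y₂ b * E Q y₁ a * (E Q y₂ b)⁻¹ * (E Q y₁ a)⁻¹ := by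
  have hg : E Q y₂ b ∈ oG (⇑Q) := E_mem_oG Q h2 h2b
  have e1 : E Q y₂ b y₁ = y₁ := by
    rw [E_apply Q h2 h2b, h12, h1b]
    simp
  have e2 : E Q y₂ b a = a - QuadraticMap.polar (⇑Q) a b • y₂ := by
    rw [E_apply Q h2 h2b, QuadraticMap.polar_comm (⇑Q) a y₂, h2a]
    simp
  have h1a' : QuadraticMap.polar (⇑Q) y₁ (a - QuadraticMap.polar (⇑Q) a b • y₂) = 0 := by
    rw [QuadraticMap.polar_sub_right, QuadraticMap.polar_smul_right, h1a, h12, smul_zero, sub_zero]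
  have h1na : QuadraticMap.polar (⇑Q) y₁ (-a) = 0 := by
    rw [QuadraticMap.polar_neg_right, h1a, neg_zero]
  rw [conj_E Q hg h1 h1a, e1, e2, E_inv Q h1 h1a, E_mul Q h1 h1a' h1na]
  congr 1
  module

/-- Step 3: every long root element acts trivially -/
theorem root_act (Q : QuadraticForm F V) (hQ : (QuadraticMap.polarBilin Q).Nondegenerate)
    (hdim : 7 ≤ finrank F V) {v v' : V} (hv : Q v = 0) {X : Type*} [MulAction ↥(T Q) X]
    {𝒪 : Type*} (D : FamData Q v v' X 𝒪) (h3 : Out3 F D.C)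
    (hT : ∀ y : V, y ≠ 0 → Q y = 0 → Transp Q v v' y) {u s : V} (hu : Q u = 0) (hs : Q s = 0)
    (hus : QuadraticMap.polar (⇑Q) u s = 0) (x : X) : act Q (E Q u s) x = x := by
  have hdim5 : 5 ≤ finrank F V := by omega
  by_cases hu0 : u = 0
  · rw [hu0, E_zero_left, act_one]
  by_cases hs0 : s = 0
  · rw [hs0, E_zero_right Q hu, act_one]
  obtain ⟨p₁, hp₁⟩ := root_fix Q hQ hdim5 hv D h3 (hT u hu0 hu) x
  obtain ⟨p₂, hp₂⟩ := root_fix Q hQ hdim5 hv D h3 (hT s hs0 hs) x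
  obtain ⟨a, b, ⟨ha1, ha2, ha3⟩, ⟨hb1, hb2, hb3⟩, hab⟩ := exists_pair Q hQ hdim u s p₁ p₂
  obtain ⟨t, ht⟩ : ∃ t : F, t = -(QuadraticMap.polar (⇑Q) a b)⁻¹ := ⟨_, rfl⟩
  have hta1 : QuadraticMap.polar (⇑Q) u (t • a) = 0 := by
    rw [QuadraticMap.polar_smul_right, ha1, smul_zero]
  have hta2 : QuadraticMap.polar (⇑Q) s (t • a) = 0 := by
    rw [QuadraticMap.polar_smul_right, ha2, smul_zero]
  have hta3 : QuadraticMap.polar (⇑Q) (t • a) p₁ = 0 := by
    rw [QuadraticMap.polar_smul_left, ha3, smul_zero]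
  have hfa : act Q (E Q u (t • a)) x = x := hp₁ (t • a) hta1 hta3
  have hfb : act Q (E Q s b) x = x := hp₂ b hb2 hb3
  have hEa : E Q u (t • a) ∈ T Q := E_mem_T Q hQ hdim5 hu hta1
  have hEb : E Q s b ∈ T Q := E_mem_T Q hQ hdim5 hs hb2
  have hEa' : (E Q u (t • a))⁻¹ ∈ T Q := Subgroup.inv_mem _ hEa
  have hEb' : (E Q s b)⁻¹ ∈ T Q := Subgroup.inv_mem _ hEb
  have hfa' : act Q (E Q u (t • a))⁻¹ x = x := by
    conv_lhs => rw [← hfa]
    rw [← act_mul Q hEa' hEa, inv_mul_cancel, act_one]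
  have hfb' : act Q (E Q s b)⁻¹ x = x := by
    conv_lhs => rw [← hfb]
    rw [← act_mul Q hEb' hEb, inv_mul_cancel, act_one]
  have hcoef : (-QuadraticMap.polar (⇑Q) (t • a) b) • s = s := by
    rw [QuadraticMap.polar_smul_left, ht, smul_eq_mul, neg_mul, neg_neg, inv_mul_cancel₀ hab,
      one_smul]
  have hc := comm_E Q hu hs hus hta1 hta2 hb1 hb2
  rw [hcoef] at hc
  rw [hc, act_mul Q (Subgroup.mul_mem _ (Subgroup.mul_mem _ hEb hEa) hEb') hEa', hfa',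
    act_mul Q (Subgroup.mul_mem _ hEb hEa) hEb', hfb', act_mul Q hEb hEa, hfa, hfb]

/-- MIO-KR2, with the statement of MIO-TRANSP as a hypothesis -/
theorem kr2_of (Q : QuadraticForm F V) (hQ : (QuadraticMap.polarBilin Q).Nondegenerate)
    (hdim : 7 ≤ finrank F V) {v v' : V} (hv : Q v = 0) {X : Type*} [MulAction ↥(T Q) X]
    {𝒪 : Type*} (D : FamData Q v v' X 𝒪) (h3 : Out3 F D.C)
    (hT : ∀ y : V, y ≠ 0 → Q y = 0 → Transp Q v v' y) :
    ∀ (g : ↥(T Q)) (x : X), g • x = x := by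
  rintro ⟨g, hg⟩ x
  revert x
  unfold T at hg
  induction hg using Subgroup.closure_induction with
  | mem g hg' =>
    intro x
    obtain ⟨u, s, hu, hs, hus, rfl⟩ := hg'
    have := root_act Q hQ hdim hv D h3 hT hu hs hus x
    rw [act_of_mem Q (root_mem_T Q hu hs hus)] at this
    exact this
  | one =>
    intro x
    exact one_smul _ x
  | mul a b ha hb iha ihb =>
    intro x
    have : (⟨a * b, Subgroup.mul_mem _ ha hb⟩ : ↥(T Q)) = ⟨a, ha⟩ * ⟨b, hb⟩ := rfl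
    rw [this, mul_smul, ihb x, iha x]
  | inv a ha iha =>
    intro x
    have : (⟨a⁻¹, Subgroup.inv_mem _ ha⟩ : ↥(T Q)) = (⟨a, ha⟩ : ↥(T Q))⁻¹ := rfl
    rw [this, inv_smul_eq_iff, iha x]

/-- MIO-KR2 -/
theorem kr2 (Q : QuadraticForm F V) (hQ : (QuadraticMap.polarBilin Q).Nondegenerate)
    (hdim : 7 ≤ finrank F V) {v v' : V} (hv : Q v = 0) (hv' : Q v' = 0)
    (hvv' : QuadraticMap.polar (⇑Q) v v' = 1) {X : Type*} [MulAction ↥(T Q) X] [Finite X]
    {𝒪 : Type*} (D : FamData Q v v' X 𝒪) (h3 : Out3 F D.C) :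
    ∀ (g : ↥(T Q)) (x : X), g • x = x :=
  kr2_of Q hQ hdim hv D h3 (fun _ hy0 hy =>
    Cfsg.Agent.Lib.Helper55_MIO_TRANSP.transp Q hQ (by omega) hv hv' hvv' hy0 hy)

end Cfsg.Agent.Lib.Helper17_MIO_KR2
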