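import Mathlib
import Cfsg.Agent.Lib.Helper66_MI_SpDefs

set_option autoImplicit false

/-!
# S2141 package E5, assembly (helper17): `Bbar = W` from E3 + E5b + E5c

`E5_of` takes the statements of the packages E3, E5b, E5c (at the given data) as hypotheses.
-/

namespace Cfsg.Agent.Lib.Helper17_MISp_E5

open Cfsg.Agent.Lib.Helper94_Symp Cfsg.Agent.Lib.Helper94_SympTI
  Cfsg.Agent.Lib.Helper94_SympPerfect Cfsg.Agent.Lib.Helper66_MI_SpDefs

variable {F V : Type*} [Field F] [AddCommGroup V] [Module F V]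
variable (B : LinearMap.BilinForm F V)

/-- E5 from (the conclusions of) E3, E5b, E5c. -/
theorem E5_of {m q : ℕ} (S : Setting B m q) {v v' : V} {H : Subgroup (V ≃ₗ[F] V)}
    (hE3 : KH B H v v' ≠ Kv B v v')
    (hE5b : KH B H v v' ≠ Kv B v v' → (∃ w ∈ Wsub B v v', w ∉ Bbar B S.alt H v v') →
      ∃ a ∈ Wsub B v v', a ≠ 0 ∧
        (∀ w, w ∈ Bbar B S.alt H v v' ↔ w ∈ Wsub B v v' ∧ B a w = 0) ∧
        (∀ k ∈ Kv B v v', (∃ c : F, k a = c • a) → k ∈ KH B H v v') ∧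
        Zv B S.alt H v = ⊥ ∧ Nat.card (T1 B H v v') = q - 1)
    (hE5c : ∀ a : V, a ∈ Wsub B v v' → a ≠ 0 →
      (∀ w, w ∈ Bbar B S.alt H v v' ↔ w ∈ Wsub B v v' ∧ B a w = 0) →
      (∀ k ∈ Kv B v v', (∃ c : F, k a = c • a) → k ∈ KH B H v v') →
      Zv B S.alt H v = ⊥ → Nat.card (T1 B H v v') = q - 1 → False) :
    ∀ w ∈ Wsub B v v', w ∈ Bbar B S.alt H v v' := by
  by_contra hcon
  push Not at hcon
  obtain ⟨w, hw, hwB⟩ := hcon
  obtain ⟨a, ha, ha0, h1, h2, h3, h4⟩ := hE5b hE3 ⟨w, hw, hwB⟩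
  exact hE5c a ha ha0 h1 h2 h3 h4

end Cfsg.Agent.Lib.Helper17_MISp_E5
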