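import Mathlib
import Cfsg.Agent.Lib.Helper66_MI_SpDefs

set_option autoImplicit false

/-!
# S2141 package EVEN, assembly (helper17): Case II for even `q` from E5 + E6

`caseII_even_of` takes the conclusions of the packages E5 (for all hyperbolic pairs) and E6 as
hypotheses.
-/

namespace Cfsg.Agent.Lib.Helper17_MISp_EVEN

open Cfsg.Agent.Lib.Helper94_Symp Cfsg.Agent.Lib.Helper94_SympTI
  Cfsg.Agent.Lib.Helper94_SympPerfect Cfsg.Agent.Lib.Helper66_MI_SpDefs

variable {F V : Type*} [Field F] [AddCommGroup V] [Module F V]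
variable (B : LinearMap.BilinForm F V) (hB : B.IsAlt)

/-- a hyperbolic partner exists -/
theorem exists_hyp' (hN : B.Nondegenerate) {v : V} (hv : v ≠ 0) : ∃ v' : V, B v v' = 1 := by
  have h1 : ¬ ∀ y, B v y = 0 := fun h => hv (hN.1 v h)
  push Not at h1
  obtain ⟨y, hy⟩ := h1
  refine ⟨(B v y)⁻¹ • y, ?_⟩
  rw [map_smul, smul_eq_mul, inv_mul_cancel₀ hy]

/-- in characteristic 2, `g_v(w + c v, t) = g_v(w, t)` -/
theorem gv_add_smul_char2 (h2 : (2 : F) = 0) {v w : V} (hw : B v w = 0) (c t : F) :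
    gv B hB v (w + c • v) t = gv B hB v w t := by
  have hw' : B v (w + c • v) = 0 := by
    rw [map_add, map_smul, hw, hB v, smul_zero, add_zero]
  ext x
  rw [gv_apply B hB hw', gv_apply B hB hw]
  simp only [map_add, map_smul, smul_eq_mul, smul_add, add_smul, smul_smul]
  have : (B x v * c) • v + (c * B x v) • v = ((2 : F) * (c * B x v)) • v := by
    rw [← add_smul]; congr 1; ring
  have e : x + ((B x) w • v + (c * (B x) v) • v) + ((B x) v • w + ((B x) v * c) • v) +
      (t * (B x) v) • v = x + (B x) w • v + (B x) v • w + (t * (B x) v) • v +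
        ((B x v * c) • v + (c * B x v) • v) := by abel
  rw [e, this, h2, zero_mul, zero_smul, add_zero]

/-- Case II for even `q` from (the conclusions of) E5 and E6. -/
theorem caseII_even_of {m q : ℕ} (S : Setting B m q) (h2 : (2 : F) = 0)
    {H : Subgroup (V ≃ₗ[F] V)} (hNR : NoRoot B S.alt H)
    (hE5 : ∀ v v' : V, B v v' = 1 → ∀ w ∈ Wsub B v v', w ∈ Bbar B S.alt H v v')
    (hE6 : (∀ v w : V, v ≠ 0 → B v w = 0 → ∃ t : F, gv B S.alt v w t ∈ H) →
      ∃ v : V, v ≠ 0 ∧ Xv B S.alt v ≤ H) : False := by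
  obtain ⟨v, hv0, hX⟩ := hE6 (by
    intro v w hv0 hvw
    obtain ⟨v', hvv⟩ := exists_hyp' B S.nondeg hv0
    have hwv : B w v = 0 := by rw [alt_swap B S.alt, hvw, neg_zero]
    have hw0 : w - B w v' • v ∈ Wsub B v v' := by
      refine ⟨?_, ?_⟩
      · show B (w - B w v' • v) v = 0
        rw [map_sub, map_smul, LinearMap.sub_apply, LinearMap.smul_apply, hwv, S.alt v, smul_zero,
          sub_zero]
      · show B (w - B w v' • v) v' = 0
        rw [map_sub, map_smul, LinearMap.sub_apply, LinearMap.smul_apply, hvv, smul_eq_mul,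
          mul_one, sub_self]
    obtain ⟨-, t, ht⟩ := hE5 v v' hvv _ hw0
    have hvw0 : B v (w - B w v' • v) = 0 := by
      rw [map_sub, map_smul, hvw, S.alt v, smul_zero, sub_zero]
    refine ⟨t, ?_⟩
    have := gv_add_smul_char2 B S.alt h2 hvw0 (B w v') t
    rw [sub_add_cancel] at this
    rw [this]
    exact ht)
  exact hNR v hv0 hX

end Cfsg.Agent.Lib.Helper17_MISp_EVEN
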