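import Mathlib
import Cfsg.Agent.Lib.Helper66_MI_SpDefs
import Cfsg.Agent.Lib.Helper10_MISp_KTRANS
import Cfsg.Agent.Lib.Helper32_MISp_L1
import Cfsg.Agent.Lib.Helper32_MISp_CONJ
import Cfsg.Agent.Lib.Helper70_MISp_O1
import Cfsg.Agent.Lib.Helper94_MI_SpDecomp

/-!
# S2141 package O2 (architect helper66): in Case II, `q` odd, `K_H = K` perfect is impossible
(involution trick)  (helper73)
-/

set_option autoImplicit false

namespace Cfsg.Agent.Lib.Helper73_MISp_O2

open Cfsg.Agent.Lib.Helper94_Symp Cfsg.Agent.Lib.Helper94_SympTI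
  Cfsg.Agent.Lib.Helper94_SympPerfect Cfsg.Agent.Lib.Helper66_MI_SpDefs

open scoped commutatorElement

section abs

variable {G : Type*} [Group G]

theorem comm_mul_left_of_comm (x k y : G) (h : k * y = y * k) : ⁅x * k, y⁆ = ⁅x, y⁆ := by
  rw [commutatorElement_def, commutatorElement_def, mul_inv_rev]
  have h1 : k * y * k⁻¹ = y := by rw [h, mul_inv_cancel_right]
  calc x * k * y * (k⁻¹ * x⁻¹) * y⁻¹ = x * (k * y * k⁻¹) * x⁻¹ * y⁻¹ := by group
    _ = x * y * x⁻¹ * y⁻¹ := by rw [h1]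

theorem comm_mul_right_of_comm (x y k : G) (h : k * x = x * k) : ⁅x, y * k⁆ = ⁅x, y⁆ := by
  rw [commutatorElement_def, commutatorElement_def, mul_inv_rev]
  have h1 : k * x⁻¹ * k⁻¹ = x⁻¹ := by
    have : k * x⁻¹ = x⁻¹ * k := by
      calc k * x⁻¹ = x⁻¹ * (x * k) * x⁻¹ := by group
        _ = x⁻¹ * (k * x) * x⁻¹ := by rw [h]
        _ = x⁻¹ * k := by group
    rw [this, mul_inv_cancel_right]
  calc x * (y * k) * x⁻¹ * (k⁻¹ * y⁻¹) = x * y * (k * x⁻¹ * k⁻¹) * y⁻¹ := by group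
    _ = x * y * x⁻¹ * y⁻¹ := by rw [h1]

end abs

variable {F V : Type*} [Field F] [AddCommGroup V] [Module F V]
variable (B : LinearMap.BilinForm F V) (hB : B.IsAlt)

include hB in
/-- a torus element with eigenvalue `-1` on `v`, `v'` is `x ↦ x - 2B(x,v')v + 2B(x,v)v'` -/
theorem torus_neg_apply {v v' : V} (hvv : B v v' = 1) {h : V ≃ₗ[F] V} (hT : h ∈ Tv B v v')
    (hv : h v = -v) (hv' : h v' = -v') (x : V) :
    h x = x - (2 * B x v') • v + (2 * B x v) • v' := by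
  have hw : x - B x v' • v + B x v • v' ∈ Wsub B v v' := Cfsg.Agent.Lib.Helper10_MISp_KTRANS.decomp_vec' B hB hvv x
  have h1 := hT.2 _ hw
  rw [map_add, map_sub, map_smul, map_smul, hv, hv'] at h1
  have e : h x = (h x - B x v' • -v + B x v • -v') - B x v' • v + B x v • v' := by module
  rw [e, h1]
  module

include hB in
/-- the involution `z0 = -1` on `W`, identity on `⟨v, v'⟩` -/
theorem exists_z0 {v v' : V} (hvv : B v v' = 1) :
    ∃ z0 ∈ Kv B v v', z0 * z0 = 1 ∧ (∀ w ∈ Wsub B v v', z0 w = -w) ∧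
      ∀ k ∈ Kv B v v', z0 * k = k * z0 := by
  obtain ⟨h, hT, hv, hv'⟩ := Cfsg.Agent.Lib.Helper94_MI_SpDecomp.exists_Tv B hB hvv (c := -1) (by simp)
  rw [neg_one_smul] at hv
  rw [inv_neg_one, neg_one_smul] at hv'
  have hiso : h ∈ isoGroup B := hT.1.1.1
  have happ := torus_neg_apply B hB hvv hT hv hv'
  refine ⟨LinearEquiv.neg F * h, ⟨?_, ?_, ?_⟩, ?_, ?_, ?_⟩
  · intro u w
    simp only [LinearEquiv.mul_apply, LinearEquiv.neg_apply, map_neg, LinearMap.neg_apply, neg_neg]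
    exact hiso u w
  · simp only [LinearEquiv.mul_apply, LinearEquiv.neg_apply, hv, neg_neg]
  · simp only [LinearEquiv.mul_apply, LinearEquiv.neg_apply, hv', neg_neg]
  · ext x
    simp only [LinearEquiv.mul_apply, LinearEquiv.neg_apply, map_neg, neg_neg, LinearEquiv.coe_one,
      id_eq]
    rw [happ (h x), happ x]
    simp only [map_add, map_sub, map_smul, LinearMap.add_apply, LinearMap.sub_apply,
      LinearMap.smul_apply, smul_eq_mul, hB v, hB v', hvv, alt_swap B hB v' v]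
    module
  · intro w hw
    simp only [LinearEquiv.mul_apply, LinearEquiv.neg_apply, hT.2 w hw]
  · intro k hk
    have hkh : h * k = k * h := Cfsg.Agent.Lib.Helper94_MI_SpDecomp.Tv_Kv_commute B hB hvv hT hk
    have hnk : LinearEquiv.neg F * k = k * LinearEquiv.neg F := by
      ext x
      simp only [LinearEquiv.mul_apply, LinearEquiv.neg_apply, map_neg]
    rw [mul_assoc, hkh, ← mul_assoc, hnk, mul_assoc]

/-- if `Bbar = 0` then `H ∩ Q_v ≤ X_v` -/
theorem inf_Qv_le_Xv {v v' : V} (hvv : B v v' = 1) {H : Subgroup (V ≃ₗ[F] V)}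
    (h0 : ∀ a ∈ Bbar B hB H v v', a = 0) {g : V ≃ₗ[F] V} (hgH : g ∈ H) (hgQ : g ∈ Qv B v) :
    ∃ t : F, g = stv B hB v t := by
  obtain ⟨w, hw, t, rfl⟩ := Cfsg.Agent.Lib.Helper94_MI_SpDecomp.Qv_param B hB hvv hgQ
  have : w = 0 := h0 w ⟨hw, t, hgH⟩
  subst this
  exact ⟨t, gv_zero B hB v t⟩

/-- `stv v t` commutes with every isometry fixing `v` -/
theorem stv_comm_of_fix {v : V} {k : V ≃ₗ[F] V} (hk : k ∈ isoGroup B) (hkv : k v = v) (t : F) :
    k * stv B hB v t = stv B hB v t * k := by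
  have := conj_stv B hB hk v t
  rw [hkv] at this
  calc k * stv B hB v t = (k * stv B hB v t * k⁻¹) * k := by group
    _ = stv B hB v t * k := by rw [this]

/-- if every element of the perfect group `K` has a lift `stv v t * k ∈ H'`, then `K ≤ H'` -/
theorem Kv_le_of_lifts {v v' : V} {H' : Subgroup (V ≃ₗ[F] V)} (hperf : KPerfect B v v')
    (hlift : ∀ k ∈ Kv B v v', ∃ t : F, stv B hB v t * k ∈ H') : Kv B v v' ≤ H' := by
  refine hperf.trans ?_
  rw [Subgroup.commutator_le]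
  intro k1 hk1 k2 hk2
  obtain ⟨t1, h1⟩ := hlift k1 hk1
  obtain ⟨t2, h2⟩ := hlift k2 hk2
  have c1 := fun (t : F) => stv_comm_of_fix B hB hk1.1 hk1.2.1 t
  have c2 := fun (t : F) => stv_comm_of_fix B hB hk2.1 hk2.2.1 t
  have hss : stv B hB v t1 * stv B hB v t2 = stv B hB v t2 * stv B hB v t1 := by
    rw [stv_mul, stv_mul, add_comm]
  have key : ⁅stv B hB v t1 * k1, stv B hB v t2 * k2⁆ = ⁅k1, k2⁆ := by
    have e1 : stv B hB v t1 * k1 = k1 * stv B hB v t1 := (c1 t1).symm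
    have e2 : stv B hB v t2 * k2 = k2 * stv B hB v t2 := (c2 t2).symm
    have e3 : stv B hB v t1 * (stv B hB v t2 * k2) = stv B hB v t2 * k2 * stv B hB v t1 := by
      rw [← mul_assoc, hss, mul_assoc, mul_assoc, (c2 t1)]
    rw [e1, comm_mul_left_of_comm _ _ _ e3, e2, comm_mul_right_of_comm _ _ _ (c1 t2).symm]
  have hmem : ⁅stv B hB v t1 * k1, stv B hB v t2 * k2⁆ ∈ H' := by
    rw [commutatorElement_def]
    exact H'.mul_mem (H'.mul_mem (H'.mul_mem h1 h2) (H'.inv_mem h1)) (H'.inv_mem h2)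
  rwa [key] at hmem

theorem O2 [Finite F] [FiniteDimensional F V] {m q : ℕ} (S : Setting B m q) (h2 : (2 : F) ≠ 0)
    (hm : 2 ≤ m) {v v' : V} (hvv : B v v' = 1) {H : Subgroup (V ≃ₗ[F] V)}
    (hNR : NoRoot B S.alt H) (hKH : KH B H v v' = Kv B v v') (hperf : KPerfect B v v') :
    False := by
  have hv : v ≠ 0 := by
    rintro rfl
    rw [map_zero, LinearMap.zero_apply] at hvv
    exact zero_ne_one hvv
  have hdim : 4 ≤ Module.finrank F V := by rw [S.dim]; omega
  obtain ⟨b, hbW, b', hb'W, hbb⟩ := Cfsg.Agent.Lib.Helper10_MISp_KTRANS.exists_Wsub_pair B S.alt S.nondeg hvv hdim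
  have hb0 : b ≠ 0 := by
    rintro rfl
    rw [map_zero, LinearMap.zero_apply] at hbb
    exact zero_ne_one hbb
  have hvW : ∀ w ∈ Wsub B v v', B v w = 0 := by
    intro w hw
    rw [alt_swap B S.alt, hw.1, neg_zero]
  -- Step 1: `Bbar = 0`
  have hBbar0 : ∀ a ∈ Bbar B S.alt H v v', a = 0 := by
    have hinv : ∀ k ∈ Kv B v v', ∀ a ∈ Bbar B S.alt H v v', k a ∈ Bbar B S.alt H v v' := by
      intro k hk a ha
      rw [← hKH] at hk
      exact Cfsg.Agent.Lib.Helper32_MISp_L1.KH_Bbar B S.alt hvv hk ha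
    rcases Cfsg.Agent.Lib.Helper10_MISp_KTRANS.Kv_invariant_addSubgroup B S.alt S.nondeg hvv (Bbar B S.alt H v v') hinv with
      h0 | hall
    · intro a ha
      exact h0 a ha ha.1
    · exfalso
      obtain ⟨-, hsq, -⟩ := Cfsg.Agent.Lib.Helper70_MISp_O1.O1 B S h2 hvv (Cfsg.Agent.Lib.Helper70_MISp_O1.Zv_ne_top B hNR hv)
      have hfinV : Finite V := Module.finite_of_finite F
      have hle : Nat.card (Wsub B v v') ≤ Nat.card (Bbar B S.alt H v v') := by
        refine Nat.card_le_card_of_injective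
          (fun w : Wsub B v v' => (⟨w.1, hall w.1 w.2⟩ : Bbar B S.alt H v v')) ?_
        intro a c h
        exact Subtype.ext (congrArg (fun x : Bbar B S.alt H v v' => (x : V)) h)
      have h1 : 1 < Nat.card (Wsub B v v') := by
        rw [Finite.one_lt_card_iff_nontrivial]
        exact ⟨⟨⟨b, hbW⟩, 0, fun h => hb0 (congrArg Subtype.val h)⟩⟩
      nlinarith
  -- Step 3: the involution `z0` and a lift
  obtain ⟨z0, hz0K, hz0sq, hz0W, hz0comm⟩ := exists_z0 B S.alt hvv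
  have hz0D : z0 ∈ Dbar B H v v' := by
    have : z0 ∈ KH B H v v' := by rw [hKH]; exact hz0K
    exact this.1
  obtain ⟨-, g, hgQ, hgH⟩ := hz0D
  obtain ⟨a, haW, s, rfl⟩ := Cfsg.Agent.Lib.Helper94_MI_SpDecomp.Qv_param B S.alt hvv hgQ
  have hva : B v a = 0 := hvW a haW
  have hhalfW : (2 : F)⁻¹ • a ∈ Wsub B v v' := (Wsub B v v').smul_mem _ haW
  have hva' : B v ((2 : F)⁻¹ • a) = 0 := hvW _ hhalfW
  have hxQ : gv B S.alt v ((2 : F)⁻¹ • a) 0 ∈ Qv B v := gv_mem_Qv B S.alt hva' 0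
  -- Step 4: `z' = x z0 x⁻¹ ∈ H`
  have hconj : gv B S.alt v ((2 : F)⁻¹ • a) 0 * z0 * (gv B S.alt v ((2 : F)⁻¹ • a) 0)⁻¹ =
      gv B S.alt v a 0 * z0 := by
    have h1 : z0 * (gv B S.alt v ((2 : F)⁻¹ • a) 0)⁻¹ * z0⁻¹ =
        gv B S.alt v ((2 : F)⁻¹ • a) 0 := by
      rw [gv_inv B S.alt hva' 0, conj_gv B S.alt hz0K.1, hz0K.2.1, map_neg, hz0W _ hhalfW,
        neg_neg, neg_zero]
    have h3 : (2 : F)⁻¹ • a + (2 : F)⁻¹ • a = a := by
      rw [← add_smul, ← two_mul, mul_inv_cancel₀ h2, one_smul]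
    calc gv B S.alt v ((2 : F)⁻¹ • a) 0 * z0 * (gv B S.alt v ((2 : F)⁻¹ • a) 0)⁻¹
        = gv B S.alt v ((2 : F)⁻¹ • a) 0 *
            (z0 * (gv B S.alt v ((2 : F)⁻¹ • a) 0)⁻¹ * z0⁻¹) * z0 := by group
      _ = gv B S.alt v a 0 * z0 := by
        rw [h1, gv_mul B S.alt hva' hva', h3, S.alt, add_zero, add_zero]
  have hsplit : gv B S.alt v a s = stv B S.alt v s * gv B S.alt v a 0 := by
    rw [← gv_zero, gv_mul B S.alt (by simp) hva]
    congr 1
    · rw [zero_add]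
    · simp
  set x := gv B S.alt v ((2 : F)⁻¹ • a) 0 with hx
  set z' := x * z0 * x⁻¹ with hz'
  have hτ : stv B S.alt v s * z' ∈ H := by
    rw [hconj, ← mul_assoc, ← hsplit]; exact hgH
  have hz'sq : z' * z' = 1 := by
    calc z' * z' = x * (z0 * z0) * x⁻¹ := by rw [hz']; group
      _ = 1 := by rw [hz0sq]; group
  have hxiso : x ∈ isoGroup B := Qv_le B v hxQ
  have hz'iso : z' ∈ isoGroup B :=
    (isoGroup B).mul_mem ((isoGroup B).mul_mem hxiso hz0K.1) ((isoGroup B).inv_mem hxiso)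
  have hxv : x v = v := hxQ.2.1
  have hxinvv : x⁻¹ v = v := by
    calc x⁻¹ v = x⁻¹ (x v) := by rw [hxv]
      _ = v := inv_apply_apply' x v
  have hz'v : z' v = v := by
    rw [hz', LinearEquiv.mul_apply, LinearEquiv.mul_apply, hxinvv, hz0K.2.1, hxv]
  have hcomm : z' * stv B S.alt v s = stv B S.alt v s * z' :=
    stv_comm_of_fix B S.alt hz'iso hz'v s
  have hsq : stv B S.alt v (s + s) ∈ H := by
    have h1 := H.mul_mem hτ hτ
    have e : stv B S.alt v s * z' * (stv B S.alt v s * z') = stv B S.alt v (s + s) := by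
      calc stv B S.alt v s * z' * (stv B S.alt v s * z')
          = stv B S.alt v s * (z' * stv B S.alt v s) * z' := by group
        _ = stv B S.alt v s * (stv B S.alt v s * z') * z' := by rw [hcomm]
        _ = (stv B S.alt v s * stv B S.alt v s) * (z' * z') := by group
        _ = stv B S.alt v (s + s) := by rw [hz'sq, mul_one, stv_mul]
    rwa [e] at h1
  have hsZ : s ∈ Zv B S.alt H v := by
    have h1 : s + s ∈ Zv B S.alt H v := hsq
    have hfin : Fintype F := Fintype.ofFinite F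
    have hrc : ringChar F ≠ 2 := by
      intro h
      apply h2
      have := CharP.cast_eq_zero F (ringChar F)
      rw [h] at this
      exact_mod_cast this
    have hodd : Fintype.card F % 2 = 1 := FiniteField.odd_card_of_char_ne_two hrc
    have hcast : ((Fintype.card F : ℕ) : F) = 0 := Nat.cast_card_eq_zero F
    have e : ((Fintype.card F + 1) / 2) • (s + s) = s := by
      rw [nsmul_eq_mul, ← two_mul, ← mul_assoc]
      have : (((Fintype.card F + 1) / 2 : ℕ) : F) * 2 = ((Fintype.card F + 1 : ℕ) : F) := by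
        have h3 : (Fintype.card F + 1) / 2 * 2 = Fintype.card F + 1 := by omega
        have h4 : (((Fintype.card F + 1) / 2 * 2 : ℕ) : F) = ((Fintype.card F + 1 : ℕ) : F) := by
          rw [h3]
        rw [Nat.cast_mul] at h4
        exact_mod_cast h4
      rw [this, Nat.cast_add, hcast, Nat.cast_one, zero_add, one_mul]
    rw [← e]
    exact AddSubgroup.nsmul_mem _ h1 _
  have hz'H : z' ∈ H := by
    have : z' = (stv B S.alt v s)⁻¹ * (stv B S.alt v s * z') := by group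
    rw [this]
    exact H.mul_mem (H.inv_mem hsZ) hτ
  -- Step 5: the conjugate `H'`
  have hxinvQ : x⁻¹ ∈ Qv B v := (Qv B v).inv_mem hxQ
  have hz0H' : z0 ∈ conjSub x⁻¹ H := by
    rw [mem_conjSub, inv_inv]; exact hz'H
  have hBbar' : Bbar B S.alt (conjSub x⁻¹ H) v v' = Bbar B S.alt H v v' :=
    Cfsg.Agent.Lib.Helper32_MISp_CONJ.Bbar_conjSub_Qv B S.alt hvv hxinvQ H
  have hDbar' : Dbar B (conjSub x⁻¹ H) v v' = Dbar B H v v' :=
    Cfsg.Agent.Lib.Helper32_MISp_CONJ.Dbar_conjSub_Qv B S.alt hvv hxinvQ H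
  have hNR' : NoRoot B S.alt (conjSub x⁻¹ H) :=
    Cfsg.Agent.Lib.Helper32_MISp_CONJ.noRoot_conjSub B S.alt (Qv_le B v hxinvQ) hNR
  -- Step 6: every `k ∈ K` has a lift `stv v t * k`
  have hlift : ∀ k ∈ Kv B v v', ∃ t : F, stv B S.alt v t * k ∈ conjSub x⁻¹ H := by
    intro k hk
    have hkD : k ∈ Dbar B (conjSub x⁻¹ H) v v' := by
      rw [hDbar']
      have : k ∈ KH B H v v' := by rw [hKH]; exact hk
      exact this.1
    obtain ⟨-, g, hgQ, hgk⟩ := hkD
    obtain ⟨w, hwW, t, rfl⟩ := Cfsg.Agent.Lib.Helper94_MI_SpDecomp.Qv_param B S.alt hvv hgQ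
    have hvw : B v w = 0 := hvW w hwW
    have hvw' : B v (-w) = 0 := hvW _ ((Wsub B v v').neg_mem hwW)
    have hc : z0 * (gv B S.alt v w t * k) * z0⁻¹ * (gv B S.alt v w t * k)⁻¹ ∈ conjSub x⁻¹ H :=
      Subgroup.mul_mem _ (Subgroup.mul_mem _ (Subgroup.mul_mem _ hz0H' hgk)
        (Subgroup.inv_mem _ hz0H')) (Subgroup.inv_mem _ hgk)
    have e : z0 * (gv B S.alt v w t * k) * z0⁻¹ * (gv B S.alt v w t * k)⁻¹ =
        gv B S.alt v (-w + -w) 0 := by
      have hzk : z0 * k * z0⁻¹ = k := by rw [hz0comm k hk]; group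
      calc z0 * (gv B S.alt v w t * k) * z0⁻¹ * (gv B S.alt v w t * k)⁻¹
          = (z0 * gv B S.alt v w t * z0⁻¹) * (z0 * k * z0⁻¹) * k⁻¹ * (gv B S.alt v w t)⁻¹ := by
            group
        _ = gv B S.alt v (-w) t * (gv B S.alt v w t)⁻¹ := by
            rw [hzk, conj_gv B S.alt hz0K.1, hz0K.2.1, hz0W w hwW]; group
        _ = gv B S.alt v (-w + -w) 0 := by
            rw [gv_inv B S.alt hvw, gv_mul B S.alt hvw' hvw', S.alt, add_neg_cancel, add_zero]
    rw [e] at hc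
    have hmem : -w + -w ∈ Bbar B S.alt (conjSub x⁻¹ H) v v' :=
      ⟨(Wsub B v v').add_mem ((Wsub B v v').neg_mem hwW) ((Wsub B v v').neg_mem hwW), 0, hc⟩
    rw [hBbar'] at hmem
    have h0 := hBbar0 _ hmem
    have hw0 : w = 0 := by
      have h1 : (2 : F) • w = 0 := by
        rw [two_smul]
        have : -(w + w) = 0 := by rw [neg_add]; exact h0
        exact neg_eq_zero.1 this
      exact (smul_eq_zero.1 h1).resolve_left h2
    subst hw0
    exact ⟨t, by rw [← gv_zero]; exact hgk⟩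
  -- Steps 7, 8
  have hKle : Kv B v v' ≤ conjSub x⁻¹ H := Kv_le_of_lifts B S.alt hperf hlift
  refine hNR' b hb0 ?_
  rintro _ ⟨c, rfl⟩
  exact hKle (Cfsg.Agent.Lib.Helper10_MISp_KTRANS.stv_mem_Kv B S.alt hbW c)

end Cfsg.Agent.Lib.Helper73_MISp_O2
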