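import Mathlib
import Cfsg.Agent.Lib.Helper66_MI_SpDefs
import Cfsg.Agent.Lib.Helper66_MISp_LOCAL
import Cfsg.Agent.Lib.Helper70_MISp_O1
import Cfsg.Agent.Lib.Helper73_MISp_O2

set_option autoImplicit false

/-!
# S2141 package O3 (helper17): Case II, `q` odd, `m ≥ 3`

`caseII_odd_ge3_of` takes the needed conclusions of the packages LOCAL (`L0'`, `card_T1_le`,
`card_Wsub`), O1 and O2 as hypotheses; the arithmetic is done here.
-/

namespace Cfsg.Agent.Lib.Helper17_MISp_O3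

open Cfsg.Agent.Lib.Helper94_Symp Cfsg.Agent.Lib.Helper94_SympTI
  Cfsg.Agent.Lib.Helper94_SympPerfect Cfsg.Agent.Lib.Helper66_MI_SpDefs

/-- `q^k ≤ (q^(k+1) - 1)/(q - 1)` -/
theorem pow_le_npts_aux (q k : ℕ) (hq : 2 ≤ q) : q ^ k ≤ (q ^ (k + 1) - 1) / (q - 1) := by
  rw [Nat.le_div_iff_mul_le (by omega)]
  have h1 : 1 ≤ q ^ k := Nat.one_le_pow _ _ (by omega)
  obtain ⟨Q, rfl⟩ : ∃ Q, q = Q + 1 := ⟨q - 1, by omega⟩
  rw [Nat.add_sub_cancel, pow_succ]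
  have : (Q + 1) ^ k * Q + 1 ≤ (Q + 1) ^ k * (Q + 1) := by nlinarith
  omega

/-- the numerical inequality behind O3 -/
theorem npts_le (q m : ℕ) (hq : 3 ≤ q) (hm : 3 ≤ m) :
    Npts m q ≤ 3 * q ^ (m - 1) * Nmin (m - 1) q := by
  obtain ⟨j, rfl⟩ : ∃ j, m = j + 3 := ⟨m - 3, by omega⟩
  have e1 : j + 3 - 1 = j + 2 := by omega
  rw [e1]
  by_cases hc : j + 2 = 2 ∧ q = 3
  · obtain ⟨hj, rfl⟩ := hc
    have hj0 : j = 0 := by omega
    subst hj0
    simp only [Nmin, Npts]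
    norm_num
  · have hN : Nmin (j + 2) q = Npts (j + 2) q := by
      unfold Nmin
      rw [if_neg hc]
    rw [hN]
    -- lower bound for `Npts (j+2) q`
    have hlow : q ^ (2 * j + 3) ≤ Npts (j + 2) q := by
      unfold Npts
      have : 2 * (j + 2) = (2 * j + 3) + 1 := by ring
      rw [this]
      exact pow_le_npts_aux q (2 * j + 3) (by omega)
    -- upper bound for `Npts (j+3) q`
    have hup : Npts (j + 3) q ≤ 3 * q ^ (j + 2) * q ^ (2 * j + 3) := by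
      unfold Npts
      rw [Nat.div_le_iff_le_mul_add_pred (by omega)]
      obtain ⟨Q, rfl⟩ : ∃ Q, q = Q + 1 := ⟨q - 1, by omega⟩
      rw [Nat.add_sub_cancel]
      have hQ : 2 ≤ Q := by omega
      have e2 : (Q + 1) ^ (2 * (j + 3)) = (Q + 1) * ((Q + 1) ^ (j + 2) * (Q + 1) ^ (j + 3)) := by
        ring
      have e3 : (Q + 1) ^ (2 * j + 3) = (Q + 1) ^ j * (Q + 1) ^ (j + 3) := by ring
      have hpos : 1 ≤ (Q + 1) ^ j := Nat.one_le_pow _ _ (by omega)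
      have hmain : (Q + 1) ^ (2 * (j + 3)) ≤
          Q * (3 * (Q + 1) ^ (j + 2) * (Q + 1) ^ (2 * j + 3)) := by
        rw [e2, e3]
        have hA : 0 ≤ (Q + 1) ^ (j + 2) * (Q + 1) ^ (j + 3) := Nat.zero_le _
        have h3 : Q + 1 ≤ 3 * Q := by omega
        calc (Q + 1) * ((Q + 1) ^ (j + 2) * (Q + 1) ^ (j + 3))
            ≤ 3 * Q * ((Q + 1) ^ (j + 2) * (Q + 1) ^ (j + 3)) := Nat.mul_le_mul_right _ h3
          _ = 3 * Q * ((Q + 1) ^ (j + 2) * (Q + 1) ^ (j + 3)) * 1 := by ring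
          _ ≤ 3 * Q * ((Q + 1) ^ (j + 2) * (Q + 1) ^ (j + 3)) * (Q + 1) ^ j :=
              Nat.mul_le_mul_left _ hpos
          _ = Q * (3 * (Q + 1) ^ (j + 2) * ((Q + 1) ^ j * (Q + 1) ^ (j + 3))) := by ring
      omega
    calc Npts (j + 3) q ≤ 3 * q ^ (j + 2) * q ^ (2 * j + 3) := hup
      _ ≤ 3 * q ^ (j + 2) * Npts (j + 2) q := Nat.mul_le_mul_left _ hlow

variable {F V : Type*} [Field F] [AddCommGroup V] [Module F V]
variable (B : LinearMap.BilinForm F V)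

/-- Case II, `q` odd, `m ≥ 3`, from (the conclusions of) LOCAL, O1, O2. -/
theorem caseII_odd_ge3_of {m q : ℕ} (S : Setting B m q) (hq : 3 ≤ q) (hm : 3 ≤ m)
    {H : Subgroup (V ≃ₗ[F] V)} (hH : Small B S.alt (Npts m q) H) {v v' : V}
    (hK : KMin B v v' (Nmin (m - 1) q))
    (hL0' : Nat.card (Wsub B v v') * Nat.card F *
        ((Nat.card F - 1) * (KH B H v v').relIndex (Kv B v v')) ≤
      H.relIndex (isoGroup B) *
        (Nat.card (Bbar B S.alt H v v') * Nat.card (Zv B S.alt H v) * Nat.card (T1 B H v v')))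
    (hT1 : Nat.card (T1 B H v v') ≤ Nat.card F - 1)
    (hW : Nat.card (Wsub B v v') = q ^ (2 * m - 2))
    (hO1b : Nat.card (Bbar B S.alt H v v') ^ 2 ≤ Nat.card (Wsub B v v'))
    (hO1c : 3 * Nat.card (Zv B S.alt H v) ≤ q)
    (hO2 : KH B H v v' = Kv B v v' → False) : False := by
  by_cases hKH : KH B H v v' = Kv B v v'
  · exact hO2 hKH
  have hr := hK (KH B H v v') (KH_le_Kv B H v v') hKH
  have hn := hH.idx
  have hnum := npts_le q m hq hm
  rw [S.card] at hL0' hT1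
  rw [hW] at hL0' hO1b
  set n := H.relIndex (isoGroup B) with hn_def
  set r := (KH B H v v').relIndex (Kv B v v') with hr_def
  set b := Nat.card (Bbar B S.alt H v v') with hb_def
  set z := Nat.card (Zv B S.alt H v) with hz_def
  set t := Nat.card (T1 B H v v') with ht_def
  -- `b ≤ q^(m-1)`
  have hb : b ≤ q ^ (m - 1) := by
    have e : q ^ (2 * m - 2) = (q ^ (m - 1)) ^ 2 := by
      rw [← pow_mul]; congr 1; omega
    rw [e] at hO1b
    exact (Nat.pow_le_pow_iff_left (by norm_num)).mp hO1b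
  obtain ⟨Q, rfl⟩ : ∃ Q, q = Q + 1 := ⟨q - 1, by omega⟩
  rw [Nat.add_sub_cancel] at hL0' hT1
  have hQ : 2 ≤ Q := by omega
  -- chain of inequalities
  have e1 : (Q + 1) ^ (2 * m - 2) = (Q + 1) ^ (m - 1) * (Q + 1) ^ (m - 1) := by
    rw [← pow_add]; congr 1; omega
  rw [e1] at hL0'
  set A := (Q + 1) ^ (m - 1) with hA_def
  have hApos : 1 ≤ A := Nat.one_le_pow _ _ (by omega)
  -- 3 * (A * A * (Q+1) * (Q * r)) ≤ n * (b * (3 z) * t) ≤ n * (A * (Q+1) * Q)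
  have h2 : b * (3 * z) * t ≤ A * (Q + 1) * Q :=
    Nat.mul_le_mul (Nat.mul_le_mul hb hO1c) hT1
  have h3 : 3 * (A * A * (Q + 1) * (Q * r)) ≤ n * (A * (Q + 1) * Q) := by
    calc 3 * (A * A * (Q + 1) * (Q * r)) ≤ 3 * (n * (b * z * t)) := Nat.mul_le_mul_left 3 hL0'
      _ = n * (b * (3 * z) * t) := by ring
      _ ≤ n * (A * (Q + 1) * Q) := Nat.mul_le_mul_left n h2
  have h4 : (3 * A * r) * (A * (Q + 1) * Q) ≤ n * (A * (Q + 1) * Q) := by
    calc (3 * A * r) * (A * (Q + 1) * Q) = 3 * (A * A * (Q + 1) * (Q * r)) := by ring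
      _ ≤ n * (A * (Q + 1) * Q) := h3
  have hpos : 0 < A * (Q + 1) * Q := by positivity
  have h5 : 3 * A * r ≤ n := Nat.le_of_mul_le_mul_right h4 hpos
  have h6 : 3 * A * Nmin (m - 1) (Q + 1) ≤ 3 * A * r := Nat.mul_le_mul_left _ hr
  omega

/-- Package O3 (statement of `S2141_packages.lean.txt`): Case II, `q` odd, `m ≥ 3`. -/
theorem caseII_odd_ge3 [Finite F] [FiniteDimensional F V] {m q : ℕ} (S : Setting B m q)
    (h2 : (2 : F) ≠ 0) (hq : 3 ≤ q) (hm : 3 ≤ m) {H : Subgroup (V ≃ₗ[F] V)}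
    (hH : Small B S.alt (Npts m q) H) {v v' : V} (hvv : B v v' = 1)
    (hK : KMin B v v' (Nmin (m - 1) q)) (hperf : KPerfect B v v') : False := by
  have hv : v ≠ 0 := Cfsg.Agent.Lib.Helper66_MISp_LOCAL.ne_zero_of_hyp B hvv
  have hZ : Zv B S.alt H v ≠ ⊤ := Cfsg.Agent.Lib.Helper70_MISp_O1.Zv_ne_top B hH.noRoot hv
  obtain ⟨-, hO1b, hO1c⟩ := Cfsg.Agent.Lib.Helper70_MISp_O1.O1 B S h2 hvv hZ
  exact caseII_odd_ge3_of B S hq hm hH hK
    (Cfsg.Agent.Lib.Helper66_MISp_LOCAL.L0' B S.alt hvv hH.le)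
    (Cfsg.Agent.Lib.Helper66_MISp_LOCAL.card_T1_le B H v v')
    (Cfsg.Agent.Lib.Helper66_MISp_LOCAL.card_Wsub B S.alt S hvv)
    hO1b hO1c
    (fun hKH => Cfsg.Agent.Lib.Helper73_MISp_O2.O2 B S h2 (by omega) hvv hH.noRoot hKH hperf)

end Cfsg.Agent.Lib.Helper17_MISp_O3
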