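import Mathlib
import Cfsg.Prelude.Def_LocalStructure
import Cfsg.Agent.Lib.Helper17_Sylow
import Cfsg.Agent.Lib.Helper5_PSLCard

/-!
# Minimal non-`p`-closed groups (helper17)

`MNPC p G`: the Sylow `p`-subgroups of `G` are not normal, but those of every proper subgroup and
of every proper quotient are.

* `MNPC.normal_pgroup_eq_bot` : `O_p(G) = 1`;
* `MNPC.not_dvd_card_of_normal` : a proper normal subgroup is a `p'`-group;
* `MNPC.exists_primePow_of_not_perfect` : if `G` is not perfect, `|G| ≥ p k` for a prime power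
  `k ≡ 1 (mod p)`.
-/

set_option autoImplicit false

namespace Cfsg.Agent.Lib.Helper17_MNPC

open Subgroup
open scoped commutatorElement

/-- `G` is a minimal non-`p`-closed group (w.r.t. subgroups and quotients). -/
structure MNPC (p : ℕ) (G : Type*) [Group G] : Prop where
  hnc : ¬ Cfsg.IsPClosed p G
  hsub : ∀ H : Subgroup G, H ≠ ⊤ → Cfsg.IsPClosed p ↥H
  hquo : ∀ (N : Subgroup G) [N.Normal], N ≠ ⊥ → Cfsg.IsPClosed p (G ⧸ N)

variable {G : Type*} [Group G] {p : ℕ}

theorem MNPC.exists_sylow (h : MNPC p G) : ∃ P : Sylow p G, ¬ (P : Subgroup G).Normal := by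
  have h1 := h.hnc
  unfold Cfsg.IsPClosed at h1
  push Not at h1
  exact h1

/-- A normal `p`-subgroup lies in every Sylow `p`-subgroup. -/
theorem le_sylow_of_normal_pgroup [Finite G] [hp : Fact p.Prime] (N : Subgroup G) [hN : N.Normal]
    (hNp : IsPGroup p N) (P : Sylow p G) : N ≤ (P : Subgroup G) := by
  obtain ⟨Q, hQ⟩ := hNp.exists_le_sylow
  obtain ⟨g, rfl⟩ := MulAction.exists_smul_eq G Q P
  intro n hn
  rw [Cfsg.Agent.Lib.Helper17_Sylow.mem_smul_sylow]
  apply hQ
  have := hN.conj_mem n hn g⁻¹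
  rwa [inv_inv] at this

/-- `O_p(G) = 1` in a minimal non-`p`-closed group. -/
theorem MNPC.normal_pgroup_eq_bot [Finite G] [hp : Fact p.Prime] (h : MNPC p G) (N : Subgroup G)
    [hN : N.Normal] (hNp : IsPGroup p N) : N = ⊥ := by
  by_contra hne
  obtain ⟨P, hP⟩ := h.exists_sylow
  have hcl := h.hquo N hne
  have hNP : N ≤ (P : Subgroup G) := le_sylow_of_normal_pgroup N hNp P
  have hsurj : Function.Surjective (QuotientGroup.mk' N) := QuotientGroup.mk'_surjective N
  have hn : ((P.mapSurjective hsurj : Sylow p (G ⧸ N)) : Subgroup (G ⧸ N)).Normal :=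
    hcl (P.mapSurjective hsurj)
  apply hP
  have h1 : (P : Subgroup G) = ((P : Subgroup G).map (QuotientGroup.mk' N)).comap
      (QuotientGroup.mk' N) := by
    rw [Subgroup.comap_map_eq, QuotientGroup.ker_mk', sup_eq_left.2 hNP]
  rw [h1]
  rw [Sylow.coe_mapSurjective] at hn
  exact hn.comap _

/-- A proper normal subgroup of a minimal non-`p`-closed group is a `p'`-group. -/
theorem MNPC.not_dvd_card_of_normal [Finite G] [hp : Fact p.Prime] (h : MNPC p G) (K : Subgroup G)
    [hK : K.Normal] (hKtop : K ≠ ⊤) : ¬ p ∣ Nat.card K := by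
  intro hdvd
  have hcl := h.hsub K hKtop
  let S : Sylow p K := default
  have hSn : (S : Subgroup K).Normal := hcl S
  have hSc : (S : Subgroup K).Characteristic := Sylow.characteristic_of_normal S hSn
  have hSG : ((S : Subgroup K).map K.subtype).Normal :=
    ConjAct.normal_of_characteristic_of_normal
  have hp' : IsPGroup p ((S : Subgroup K).map K.subtype) := S.2.map _
  have hbot := h.normal_pgroup_eq_bot _ hp'
  have hSbot : (S : Subgroup K) = ⊥ := by
    rw [← Subgroup.map_eq_bot_iff_of_injective _ K.subtype_injective]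
    exact hbot
  exact S.ne_bot_of_dvd_card hdvd hSbot

/-- A subgroup containing the commutator subgroup is normal. -/
theorem normal_of_commutator_le (K : Subgroup G) (hK : commutator G ≤ K) : K.Normal := by
  refine ⟨fun n hn g => ?_⟩
  have h1 : g * n * g⁻¹ = ⁅g, n⁆ * n := by
    rw [commutatorElement_def]; group
  rw [h1]
  apply K.mul_mem _ hn
  apply hK
  rw [_root_.commutator_def]
  exact Subgroup.commutator_mem_commutator (Subgroup.mem_top g) (Subgroup.mem_top n)

/-- A minimal non-`p`-closed group which is not perfect has order at least `p k` for some prime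
power `k ≡ 1 (mod p)` (in fact it is `Q ⋊ C_p` with `Q` a `q`-group). -/
theorem MNPC.exists_primePow_of_not_perfect [Finite G] [hp : Fact p.Prime] (h : MNPC p G)
    (hperf : commutator G ≠ ⊤) :
    ∃ k : ℕ, IsPrimePow k ∧ k % p = 1 ∧ p * k ≤ Nat.card G := by
  have hpp : p.Prime := hp.out
  set M : Subgroup G := commutator G with hM
  have hMn : M.Normal := by rw [hM]; infer_instance
  have hpM : ¬ p ∣ Nat.card M := h.not_dvd_card_of_normal M hperf
  obtain ⟨P, hP⟩ := h.exists_sylow
  -- an element of order p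
  have hPne : (P : Subgroup G) ≠ ⊥ := by
    intro hb
    apply hP
    rw [hb]
    infer_instance
  have hpP : p ∣ Nat.card (P : Subgroup G) := by
    rcases P.2.card_eq_or_dvd with h1 | h1
    · exact absurd (Subgroup.eq_bot_of_card_eq _ h1) hPne
    · exact h1
  obtain ⟨x, hx⟩ := exists_prime_orderOf_dvd_card' (G := ↥(P : Subgroup G)) p hpP
  have hx' : orderOf (x : G) = p := by rw [Subgroup.orderOf_coe, hx]
  -- `M ⊔ ⟨x⟩ = ⊤`
  have hKtop : M ⊔ zpowers (x : G) = ⊤ := by
    by_contra hne
    have hKn : (M ⊔ zpowers (x : G)).Normal := normal_of_commutator_le _ le_sup_left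
    apply h.not_dvd_card_of_normal (M ⊔ zpowers (x : G)) hne
    have hxK : (x : G) ∈ M ⊔ zpowers (x : G) :=
      (le_sup_right : zpowers (x : G) ≤ _) (mem_zpowers _)
    have := orderOf_dvd_natCard (⟨(x : G), hxK⟩ : ↥(M ⊔ zpowers (x : G)))
    rwa [← Subgroup.orderOf_coe, hx'] at this
  -- the index of `M` is `p`
  have hMidx : M.index = p := by
    have h1 : M.relIndex (zpowers (x : G) ⊔ M) = M.relIndex (zpowers (x : G)) :=
      Subgroup.relIndex_sup_right _ _
    rw [sup_comm, hKtop, Subgroup.relIndex_top_right] at h1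
    have h2 : M.index ∣ p := by
      rw [h1]
      have := Subgroup.relIndex_dvd_card M (zpowers (x : G))
      rwa [Nat.card_zpowers, hx'] at this
    rcases (Nat.dvd_prime hpp).1 h2 with h3 | h3
    · exact absurd (Subgroup.index_eq_one.1 h3) hperf
    · exact h3
  have hcardG : Nat.card G = Nat.card M * p := by
    rw [← hMidx]; exact (Subgroup.card_mul_index M).symm
  -- the number of Sylow subgroups
  set np := Nat.card (Sylow p G) with hnp
  have hnp1 : np ≠ 1 := by
    intro h1
    apply hP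
    have : Subsingleton (Sylow p G) := (Nat.card_eq_one_iff_unique.1 h1).1
    exact Sylow.normal_of_subsingleton P
  have hnpmod : np % p = 1 := by
    have := card_sylow_modEq_one p G
    unfold Nat.ModEq at this
    rw [this, Nat.mod_eq_of_lt hpp.one_lt]
  have hPcard : Nat.card (P : Subgroup G) = p := by
    have h1 := Sylow.card_eq_multiplicity P
    have h2 : (Nat.card G).factorization p = 1 := by
      rw [hcardG, Nat.factorization_mul (Nat.card_pos.ne') hpp.ne_zero, Finsupp.add_apply,
        Nat.factorization_eq_zero_of_not_dvd hpM, hpp.factorization_self]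
    rw [h1, h2, pow_one]
  have hPidx : (P : Subgroup G).index = Nat.card M := by
    have h1 := Subgroup.card_mul_index (P : Subgroup G)
    rw [hPcard, hcardG, mul_comm] at h1
    exact Nat.eq_of_mul_eq_mul_right hpp.pos h1
  have hnpM : np ∣ Nat.card M := by
    rw [← hPidx]; exact Sylow.card_dvd_index P
  -- a prime divisor `q` of `np`
  obtain ⟨q, hq, hqnp⟩ := Nat.exists_prime_and_dvd hnp1
  have hqp : q ≠ p := by
    rintro rfl
    have := Nat.mod_eq_zero_of_dvd hqnp
    omega
  have : Fact q.Prime := ⟨hq⟩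
  let Q₀ : Sylow q M := default
  set Q : Subgroup G := (Q₀ : Subgroup M).map M.subtype with hQ
  have hQM : Q ≤ M := Subgroup.map_subtype_le _
  have hfrat : normalizer (Q : Set G) ⊔ M = ⊤ := Sylow.normalizer_sup_eq_top Q₀
  have hQidx : Q.index = (Q₀ : Subgroup M).index * p := by
    rw [hQ, Subgroup.index_map_subtype, hMidx]
  have hqQidx : ¬ q ∣ Q.index := by
    rw [hQidx]
    intro hd
    rcases (Nat.Prime.dvd_mul hq).1 hd with h1 | h1
    · exact Q₀.not_dvd_index h1
    · exact hqp ((Nat.prime_dvd_prime_iff_eq hq hpp).1 h1)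
  -- an element of order `p` normalizing `Q`
  have hpN : p ∣ Nat.card (normalizer (Q : Set G)) := by
    have h1 : M.relIndex (normalizer (Q : Set G) ⊔ M) = M.relIndex (normalizer (Q : Set G)) :=
      Subgroup.relIndex_sup_right _ _
    rw [hfrat, Subgroup.relIndex_top_right, hMidx] at h1
    rw [h1]
    exact Subgroup.relIndex_dvd_card _ _
  obtain ⟨y, hy⟩ := exists_prime_orderOf_dvd_card' (G := ↥(normalizer (Q : Set G))) p hpN
  have hy' : orderOf (y : G) = p := by rw [Subgroup.orderOf_coe, hy]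
  set R : Subgroup G := zpowers (y : G) with hR
  have hRN : R ≤ normalizer (Q : Set G) := by
    rw [hR, zpowers_le]; exact y.2
  have hRcard : Nat.card R = p := by rw [hR, Nat.card_zpowers, hy']
  have hRp : IsPGroup p R := IsPGroup.of_card (n := 1) (by rw [hRcard, pow_one])
  have hRidx : R.index = Nat.card M := by
    have h1 := Subgroup.card_mul_index R
    rw [hRcard, hcardG, mul_comm] at h1
    exact Nat.eq_of_mul_eq_mul_right hpp.pos h1
  let R' : Sylow p G := hRp.toSylow (by rw [hRidx]; exact hpM)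
  have hR' : (R' : Subgroup G) = R := IsPGroup.toSylow_coe _ _
  -- `Q` does not normalize `R`
  have hQR : ¬ Q ≤ normalizer (R : Set G) := by
    intro hle
    apply hqQidx
    have h1 : (normalizer (R : Set G)).index ∣ Q.index := Subgroup.index_dvd_of_le hle
    have h2 : np = (normalizer (R : Set G)).index := by
      rw [hnp, Sylow.card_eq_index_normalizer R']
      exact congrArg (fun H : Subgroup G => (normalizer (H : Set G)).index) hR'
    rw [← h2] at h1
    exact hqnp.trans h1
  -- `Q ⊔ R = ⊤`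
  have hQRtop : Q ⊔ R = ⊤ := by
    by_contra hne
    have hcl := h.hsub (Q ⊔ R) hne
    apply hQR
    obtain ⟨S, hS⟩ := (hRp.comap_subtype (H := R) (K := Q ⊔ R) : IsPGroup p (R.subgroupOf (Q ⊔ R))).exists_le_sylow
    have hSn : (S : Subgroup ↥(Q ⊔ R)).Normal := hcl S
    have hSmap : (S : Subgroup ↥(Q ⊔ R)).map (Q ⊔ R).subtype = R := by
      have h1 : IsPGroup p ((S : Subgroup ↥(Q ⊔ R)).map (Q ⊔ R).subtype) := S.2.map _
      have h2 : (R' : Subgroup G) ≤ (S : Subgroup ↥(Q ⊔ R)).map (Q ⊔ R).subtype := by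
        rw [hR']
        intro r hr
        have hrK : r ∈ Q ⊔ R := (le_sup_right : R ≤ Q ⊔ R) hr
        refine ⟨⟨r, hrK⟩, hS ?_, rfl⟩
        exact hr
      rw [R'.3 h1 h2, hR']
    have hSeq : (S : Subgroup ↥(Q ⊔ R)) = R.subgroupOf (Q ⊔ R) := by
      have h3 : ((S : Subgroup ↥(Q ⊔ R)).map (Q ⊔ R).subtype).comap (Q ⊔ R).subtype =
          (S : Subgroup ↥(Q ⊔ R)) :=
        Subgroup.comap_map_eq_self_of_injective (Subgroup.subtype_injective _) _
      rw [← h3]
      exact congrArg (fun H : Subgroup G => H.comap (Q ⊔ R).subtype) hSmap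
    rw [hSeq] at hSn
    exact le_sup_left.trans (Subgroup.le_normalizer_of_normal_subgroupOf (hK := hSn) le_sup_right)
  -- so `Q` is normal in `G`
  have hQn : Q.Normal := by
    rw [← Subgroup.normalizer_eq_top_iff, eq_top_iff, ← hQRtop]
    exact sup_le Subgroup.le_normalizer hRN
  -- and `M = Q`
  have hQ₀idx : (Q₀ : Subgroup M).index = 1 := by
    have h1 : Q.relIndex (R ⊔ Q) = Q.relIndex R := Subgroup.relIndex_sup_right _ _
    rw [sup_comm, hQRtop, Subgroup.relIndex_top_right] at h1
    have h2 : Q.index ∣ p := by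
      rw [h1]
      have := Subgroup.relIndex_dvd_card Q R
      rwa [hRcard] at this
    rw [hQidx] at h2
    have h3 : (Q₀ : Subgroup M).index * p ∣ 1 * p := by rwa [one_mul]
    exact Nat.dvd_one.1 (Nat.dvd_of_mul_dvd_mul_right hpp.pos h3)
  have hMcard : Nat.card M = q ^ (Nat.card M).factorization q := by
    rw [← Sylow.card_eq_multiplicity Q₀]
    have := Subgroup.card_mul_index (Q₀ : Subgroup M)
    rw [hQ₀idx, mul_one] at this
    exact this.symm
  -- conclusion
  rw [hMcard] at hnpM
  obtain ⟨j, _, hj⟩ := (Nat.dvd_prime_pow hq).1 hnpM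
  have hj0 : j ≠ 0 := by
    rintro rfl
    rw [pow_zero] at hj
    exact hnp1 hj
  refine ⟨np, ?_, hnpmod, ?_⟩
  · rw [hj]
    exact (Nat.Prime.isPrimePow hq).pow hj0
  · rw [hcardG, mul_comm]
    apply Nat.mul_le_mul_right
    apply Nat.le_of_dvd Nat.card_pos
    rw [hMcard]
    exact hnpM

/-- A minimal non-`p`-closed group, `p` odd, has no normal subgroup of order `2`. -/
theorem MNPC.card_normal_ne_two [Finite G] [hp : Fact p.Prime] (hp2 : p ≠ 2) (h : MNPC p G)
    (Z : Subgroup G) (hZ : Z.Normal) : Nat.card Z ≠ 2 := by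
  intro hZ2
  have hpp : p.Prime := hp.out
  obtain ⟨P, hP⟩ := h.exists_sylow
  have hZne : Z ≠ ⊥ := by
    intro hb
    rw [hb, Subgroup.card_bot] at hZ2
    omega
  have hcl := h.hquo Z hZne
  have hsurj : Function.Surjective (QuotientGroup.mk' Z) := QuotientGroup.mk'_surjective Z
  have hn : ((P.mapSurjective hsurj : Sylow p (G ⧸ Z)) : Subgroup (G ⧸ Z)).Normal :=
    hcl (P.mapSurjective hsurj)
  rw [Sylow.coe_mapSurjective] at hn
  have hKn : ((P : Subgroup G) ⊔ Z).Normal := by
    have h1 : (P : Subgroup G) ⊔ Z = ((P : Subgroup G).map (QuotientGroup.mk' Z)).comap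
        (QuotientGroup.mk' Z) := by
      rw [Subgroup.comap_map_eq, QuotientGroup.ker_mk']
    rw [h1]
    exact hn.comap _
  have hPne : (P : Subgroup G) ≠ ⊥ := by
    intro hb
    apply hP
    rw [hb]
    infer_instance
  have hpP : p ∣ Nat.card (P : Subgroup G) := by
    rcases P.2.card_eq_or_dvd with h1 | h1
    · exact absurd (Subgroup.eq_bot_of_card_eq _ h1) hPne
    · exact h1
  have hKtop : (P : Subgroup G) ⊔ Z = ⊤ := by
    by_contra hne
    apply h.not_dvd_card_of_normal _ hne
    exact hpP.trans (Subgroup.card_dvd_of_le le_sup_left)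
  -- the index of `P` is at most `2`
  have hcop : Nat.Coprime (Nat.card (P : Subgroup G)) (Nat.card Z) := by
    rw [hZ2]
    obtain ⟨k, hk⟩ := (IsPGroup.iff_card.1 P.2)
    rw [hk]
    apply Nat.Coprime.pow_left
    rw [Nat.coprime_primes hpp Nat.prime_two]
    exact hp2
  have hinf : (P : Subgroup G) ⊓ Z = ⊥ :=
    disjoint_iff.1 (Subgroup.disjoint_of_coprime_natCard hcop)
  have h1 : Z.relIndex ((P : Subgroup G) ⊔ Z) = Z.relIndex (P : Subgroup G) :=
    Subgroup.relIndex_sup_right _ _
  rw [hKtop, Subgroup.relIndex_top_right] at h1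
  have h2 : Z.relIndex (P : Subgroup G) = Nat.card (P : Subgroup G) := by
    rw [← Subgroup.inf_relIndex_right, inf_comm, hinf, Subgroup.relIndex_bot_left]
  have h3 : Nat.card G = 2 * Nat.card (P : Subgroup G) := by
    rw [← Subgroup.card_mul_index Z, hZ2, h1, h2]
  have h4 : (P : Subgroup G).index = 2 := by
    have h5 := Subgroup.card_mul_index (P : Subgroup G)
    rw [h3, mul_comm] at h5
    exact Nat.eq_of_mul_eq_mul_right Nat.card_pos h5
  exact hP (Subgroup.normal_of_index_eq_two h4)

/-- A perfect minimal non-`p`-closed group (`p` odd) has order at least `p (p² - 1) / 2`, given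
the Brauer–Reynolds theorem for it. -/
theorem MNPC.le_card_of_perfect [Finite G] [hp : Fact p.Prime] (hp2 : p ≠ 2) (h : MNPC p G)
    (hBR : p ∣ Nat.card G → Nat.card G < p ^ 3 → ∀ P : Sylow p G, ¬ (P : Subgroup G).Normal →
      (∀ N : Subgroup G, N.Normal → Nat.card N ≠ 2) →
      (∃ (F : Type) (_ : Field F) (_ : Fintype F), Fintype.card F = p ∧ 3 < p ∧
        Nonempty (G ≃* Matrix.ProjectiveSpecialLinearGroup (Fin 2) F)) ∨
      (∃ (m : ℕ) (F : Type) (_ : Field F) (_ : Fintype F), Fintype.card F = 2 ^ m ∧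
        p = 2 ^ m + 1 ∧ 3 < p ∧ Nonempty (G ≃* Matrix.SpecialLinearGroup (Fin 2) F))) :
    p * (p ^ 2 - 1) / 2 ≤ Nat.card G := by
  have hpp : p.Prime := hp.out
  have hle3 : p * (p ^ 2 - 1) / 2 ≤ p ^ 3 := by
    apply (Nat.div_le_self _ _).trans
    have : p ^ 3 = p * p ^ 2 := by ring
    rw [this]
    exact Nat.mul_le_mul_left _ (Nat.sub_le _ _)
  by_cases hbig : Nat.card G < p ^ 3
  swap
  · exact hle3.trans (not_lt.1 hbig)
  obtain ⟨P, hP⟩ := h.exists_sylow
  have hPne : (P : Subgroup G) ≠ ⊥ := by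
    intro hb
    apply hP
    rw [hb]
    infer_instance
  have hpG : p ∣ Nat.card G := by
    rcases P.2.card_eq_or_dvd with h1 | h1
    · exact absurd (Subgroup.eq_bot_of_card_eq _ h1) hPne
    · exact h1.trans (Subgroup.card_subgroup_dvd_card _)
  rcases hBR hpG hbig P hP (fun N hN => h.card_normal_ne_two hp2 N hN) with
    ⟨F, _, _, hF, h3, ⟨e⟩⟩ | ⟨m, F, _, _, hF, hpm, h3, ⟨e⟩⟩
  · -- PSL(2, p)
    rw [Nat.card_congr e.toEquiv]
    have h1 := Cfsg.Agent.Lib.Helper5_PSLCard.card_PSL_mul (F := F) 2 (by norm_num)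
    rw [Cfsg.Agent.Lib.Helper5_PSLCard.card_SL_two, hF] at h1
    have hodd : p % 2 = 1 := by
      rcases hpp.eq_two_or_odd with h4 | h4
      · omega
      · exact h4
    have hgcd : Nat.gcd (p - 1) 2 = 2 := by
      have : 2 ∣ p - 1 := by omega
      exact Nat.gcd_eq_right this
    rw [hgcd] at h1
    rw [← h1, Nat.mul_div_cancel _ (by norm_num)]
  · -- SL(2, 2^m)
    rw [Nat.card_congr e.toEquiv, Cfsg.Agent.Lib.Helper5_PSLCard.card_SL_two, hF]
    have hq : 2 ^ m = p - 1 := by omega
    rw [hq]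
    apply Nat.div_le_of_le_mul
    have h5 : 5 ≤ p := by
      rcases hpp.eq_two_or_odd with h4 | h4
      · omega
      · omega
    obtain ⟨r, rfl⟩ : ∃ r, p = r + 5 := ⟨p - 5, by omega⟩
    have e1 : r + 5 - 1 = r + 4 := by omega
    rw [e1]
    have e2 : (r + 5) ^ 2 - 1 = (r + 4) * (r + 6) := by
      have : (r + 5) ^ 2 = (r + 4) * (r + 6) + 1 := by ring
      omega
    have e3 : (r + 4) ^ 2 - 1 = (r + 3) * (r + 5) := by
      have : (r + 4) ^ 2 = (r + 3) * (r + 5) + 1 := by ring
      omega
    rw [e2, e3]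
    nlinarith [Nat.zero_le r]

end Cfsg.Agent.Lib.Helper17_MNPC
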