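import Mathlib

set_option autoImplicit false
set_option linter.unusedSectionVars false
set_option linter.unusedVariables false

/-!
OTENS4 package SSQ (helper17): an additive subgroup of a vector space over a finite field closed under
multiplication by squares is closed under all scalars (every element of a finite field is a sum of two
squares).
-/

namespace Cfsg.Agent.Lib.Helper17_OT_SSQ

open Polynomial

variable {F : Type*} [Field F]

/-- every element of a finite field is a sum of two squares -/
theorem exists_sq_add_sq [Finite F] (r : F) : ∃ a b : F, a * a + b * b = r := by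
  classical
  have := Fintype.ofFinite F
  by_cases h2 : ringChar F = 2
  · obtain ⟨a, ha⟩ := FiniteField.isSquare_of_char_two h2 r
    exact ⟨a, 0, by rw [mul_zero, add_zero, ha]⟩
  · have hodd : Fintype.card F % 2 = 1 := FiniteField.odd_card_of_char_ne_two h2
    have hf : degree (X ^ 2 : F[X]) = 2 := degree_X_pow 2
    have hg : degree (X ^ 2 - C r : F[X]) = 2 := degree_X_pow_sub_C (by norm_num) r
    obtain ⟨a, b, hab⟩ := FiniteField.exists_root_sum_quadratic hf hg hodd
    refine ⟨a, b, ?_⟩
    simp only [eval_pow, eval_X, eval_sub, eval_C] at hab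
    linear_combination hab

theorem smul_mem_of_sq [Finite F] {W : Type*} [AddCommGroup W] [Module F W]
    (S : AddSubgroup W) (hS : ∀ w ∈ S, ∀ k : F, (k * k) • w ∈ S) {w : W} (hw : w ∈ S) (r : F) :
    r • w ∈ S := by
  obtain ⟨a, b, rfl⟩ := exists_sq_add_sq r
  rw [add_smul]
  exact S.add_mem (hS w hw a) (hS w hw b)

end Cfsg.Agent.Lib.Helper17_OT_SSQ
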