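import Cfsg.Agent.Lib.Helper47_SubAPI
import Cfsg.Agent.Lib.Helper32_Sylow
import Cfsg.Agent.S2802

set_option autoImplicit false

namespace Cfsg.Agent.Lib.Helper47_YL

open Cfsg
open Cfsg.Agent.Lib.Helper47_PLocal Cfsg.Agent.Lib.Helper47_PReduced Cfsg.Agent.Lib.Helper47_SubAPI
open scoped commutatorElement Pointwise

variable {G : Type*} [Group G] {p : ℕ}

/-! ### Intersection of a Sylow subgroup with a subgroup it normalizes -/

/-- If the Sylow `p`-subgroup `T` normalizes `C` then `|C : T ∩ C|` is prime to `p`. -/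
theorem not_dvd_relIndex_inf_of_le_normalizer [Finite G] [Fact p.Prime] (T : Sylow p G)
    (C : Subgroup G) (hTC : (T : Subgroup G) ≤ Subgroup.normalizer (C : Set G)) :
    ¬ p ∣ ((T : Subgroup G) ⊓ C).relIndex C := by
  set N : Subgroup G := Subgroup.normalizer (C : Set G) with hN
  have hCN : C ≤ N := Subgroup.le_normalizer
  have : (C.subgroupOf N).Normal := Subgroup.normal_in_normalizer
  have h := Cfsg.Agent.Lib.Helper32_Sylow.not_dvd_relIndex_inf_normal (T.subtype hTC) (C.subgroupOf N)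
  rw [Sylow.coe_subtype] at h
  have h2 : (T : Subgroup G).subgroupOf N ⊓ C.subgroupOf N = ((T : Subgroup G) ⊓ C).subgroupOf N := by
    ext x; simp [Subgroup.mem_subgroupOf]
  rw [h2, Subgroup.relIndex_subgroupOf hCN] at h
  exact h

/-- If the Sylow `p`-subgroup `T` normalizes `C` then `T ∩ C` is a Sylow `p`-subgroup of `C`. -/
theorem exists_sylow_eq_inf_subgroupOf [Finite G] [Fact p.Prime] (T : Sylow p G)
    (C : Subgroup G) (hTC : (T : Subgroup G) ≤ Subgroup.normalizer (C : Set G)) :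
    ∃ P : Sylow p ↥C, (P : Subgroup ↥C) = ((T : Subgroup G) ⊓ C).subgroupOf C := by
  have hp : IsPGroup p (((T : Subgroup G) ⊓ C).subgroupOf C) :=
    (T.isPGroup'.to_le inf_le_left).comap_subtype
  exact ⟨IsPGroup.toSylow hp (not_dvd_relIndex_inf_of_le_normalizer T C hTC), IsPGroup.toSylow_coe _ _⟩

/-! ### `Ω₁(Z(S))` -/

theorem omegaOne_center_le_centralizer (S : Subgroup G) :
    Cfsg.omegaOne p (S ⊓ Subgroup.centralizer (S : Set G)) ≤ Subgroup.centralizer (S : Set G) :=
  (omegaOne_le p _).trans inf_le_right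

theorem isElementaryAbelian_omegaOne_center (S : Subgroup G) :
    Cfsg.IsElementaryAbelian p (Cfsg.omegaOne p (S ⊓ Subgroup.centralizer (S : Set G))) := by
  unfold Cfsg.omegaOne
  apply isElementaryAbelian_closure
  · rintro a ⟨ha, -⟩ b ⟨hb, -⟩
    exact ((Subgroup.mem_centralizer_iff.mp ha.2) b hb.1).symm
  · rintro a ⟨-, ha⟩
    exact ha

/-- A subgroup `X` of `R` centralized by `R` is a `p`-reduced normal subgroup of `R`
as soon as it is elementary abelian. -/
theorem pRedIn_of_le_centralizer {R X : Subgroup G} (hXR : X ≤ R)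
    (hRC : R ≤ Subgroup.centralizer (X : Set G)) (hX : Cfsg.IsElementaryAbelian p X) :
    PRedIn p R X :=
  ⟨hXR, hRC.trans (Subgroup.centralizer_le_normalizer _), hX, fun _ hDR _ _ => hDR.trans hRC⟩

/-- In a subgroup `L` of characteristic `p`, `Ω₁(Z(S)) ≤ Y_L` for every Sylow `p`-subgroup `S`
of `L`. -/
theorem omegaOne_center_sylow_le_largestPReducedOf [Finite G] [Fact p.Prime] (L : Subgroup G)
    (hL : Subgroup.centralizer (Cfsg.pCore p ↥L : Set ↥L) ≤ Cfsg.pCore p ↥L) (S : Sylow p ↥L) :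
    Cfsg.omegaOne p (((S : Subgroup ↥L).map L.subtype) ⊓
      Subgroup.centralizer ((((S : Subgroup ↥L).map L.subtype : Subgroup G)) : Set G)) ≤
      Cfsg.largestPReducedOf p L := by
  set S' : Subgroup G := (S : Subgroup ↥L).map L.subtype with hS'
  set Ω : Subgroup G := Cfsg.omegaOne p (S' ⊓ Subgroup.centralizer (S' : Set G)) with hΩ
  have hS'L : S' ≤ L := Subgroup.map_subtype_le _
  have hΩS' : Ω ≤ S' := (omegaOne_le p _).trans inf_le_left
  have hΩC : Ω ≤ Subgroup.centralizer (S' : Set G) := omegaOne_center_le_centralizer S'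
  have hΩL : Ω ≤ L := hΩS'.trans hS'L
  have hel : Cfsg.IsElementaryAbelian p Ω := isElementaryAbelian_omegaOne_center S'
  -- inside `↥L`
  set Ω' : Subgroup ↥L := Ω.subgroupOf L with hΩ'
  have h1 : Ω' ≤ (S : Subgroup ↥L) := by
    intro x hx
    have hx' : (x : G) ∈ S' := hΩS' (Subgroup.mem_subgroupOf.mp hx)
    obtain ⟨s, hs, hsx⟩ := Subgroup.mem_map.mp hx'
    have : s = x := Subtype.ext hsx
    rwa [← this]
  have h2 : (S : Subgroup ↥L) ≤ Subgroup.centralizer (Ω' : Set ↥L) := by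
    intro s hs
    rw [Subgroup.mem_centralizer_iff]
    intro w hw
    have hw' : (w : G) ∈ Subgroup.centralizer (S' : Set G) := hΩC (Subgroup.mem_subgroupOf.mp hw)
    have hs' : (s : G) ∈ S' := Subgroup.mem_map_of_mem L.subtype hs
    apply Subtype.ext
    have := (Subgroup.mem_centralizer_iff.mp hw') _ hs'
    simpa using this.symm
  have h3 : Cfsg.IsElementaryAbelian p Ω' := by
    rw [← isElementaryAbelian_map_subtype_iff L Ω', hΩ', Subgroup.map_subgroupOf_eq_of_le hΩL]
    exact hel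
  have h4 : PRedIn p (S : Subgroup ↥L) Ω' := pRedIn_of_le_centralizer h1 h2 h3
  have h5 : Cfsg.IsPReducedNormal p (Ω'.subgroupOf (S : Subgroup ↥L)) := by
    rw [isPReducedNormal_iff_pRedIn, Subgroup.map_subgroupOf_eq_of_le h1]
    exact h4
  have h6 := Cfsg.Agent.S2802.result hL S (S : Subgroup ↥L) le_rfl _ h5
  rw [Subgroup.map_subgroupOf_eq_of_le h1] at h6
  have h7 : Ω' ≤ Cfsg.largestPReduced p ↥L :=
    Subgroup.le_normalClosure.trans (le_largestPReduced h6)
  have h8 := Subgroup.map_mono (f := L.subtype) h7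
  rw [hΩ', Subgroup.map_subgroupOf_eq_of_le hΩL] at h8
  exact h8

/-- `Z_L ≤ Y_L` for `L` of characteristic `p`. -/
theorem sylowCenterClosure_le_largestPReducedOf [Finite G] [Fact p.Prime] (L : Subgroup G)
    (hL : Subgroup.centralizer (Cfsg.pCore p ↥L : Set ↥L) ≤ Cfsg.pCore p ↥L) :
    Cfsg.sylowCenterClosure p L ≤ Cfsg.largestPReducedOf p L :=
  iSup_le fun S => omegaOne_center_sylow_le_largestPReducedOf L hL S

/-- `Ω₁(Z(T)) ≤ Z_L` when `T ≤ L` is a Sylow `p`-subgroup of the ambient group. -/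
theorem omegaOne_center_le_sylowCenterClosure (T : Sylow p G) (L : Subgroup G)
    (hTL : (T : Subgroup G) ≤ L) :
    Cfsg.omegaOne p ((T : Subgroup G) ⊓ Subgroup.centralizer ((T : Subgroup G) : Set G)) ≤
      Cfsg.sylowCenterClosure p L := by
  have h := le_iSup (fun S : Sylow p ↥L =>
    Cfsg.omegaOne p (((S : Subgroup ↥L).map L.subtype) ⊓
      Subgroup.centralizer ((((S : Subgroup ↥L).map L.subtype : Subgroup G)) : Set G))) (T.subtype hTL)
  simp only [Sylow.coe_subtype, Subgroup.map_subgroupOf_eq_of_le hTL] at h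
  exact h

/-- `Y_L ≤ Ω₁(Z(O_p(L)))`. -/
theorem largestPReducedOf_le_omegaOne_center_pCoreOf (L : Subgroup G) :
    Cfsg.largestPReducedOf p L ≤
      Cfsg.omegaOne p (Cfsg.pCoreOf p L ⊓ Subgroup.centralizer ((Cfsg.pCoreOf p L : Subgroup G) : Set G)) := by
  have hY := pRedIn_largestPReducedOf (G := G) p L
  intro y hy
  apply Subgroup.subset_closure
  refine ⟨⟨PRedIn.le_pCoreOf hY hy, ?_⟩, hY.2.2.1.2 y hy⟩
  show y ∈ Subgroup.centralizer ((Cfsg.pCoreOf p L : Subgroup G) : Set G)
  rw [Subgroup.mem_centralizer_iff]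
  intro q hq
  have := PRedIn.pCoreOf_le_centralizer hY hq
  exact ((Subgroup.mem_centralizer_iff.mp this) y hy).symm

end Cfsg.Agent.Lib.Helper47_YL
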