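import Cfsg.Agent.Lib.Helper50_PUDefs
import Cfsg.Agent.Lib.Helper47_YL

/-!
# `pu_packages` FRAT: the Frattini dichotomy from `E₂`  (helper17, for helper50's S2768 market)

If `S` lies in a unique maximal subgroup of `G` and `N ⊴ G`, then `N S = G` or `N ∩ S ≤ O_p(G)`.
-/

set_option autoImplicit false

namespace Cfsg.Agent.Lib.Helper17_PU_FRAT

open scoped commutatorElement
open Cfsg.Agent.Lib.Helper50_PUDefs Cfsg.Agent.Lib.Helper51_Offender Cfsg.Agent.Lib.Helper72_AbelianJ

variable {G : Type*} [Group G] [Finite G] {p : ℕ} [Fact p.Prime] (S : Sylow p G)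

/-- Frattini dichotomy. -/
theorem frattini_dich (hE₂ : ∃! M : Subgroup G, IsCoatom M ∧ (S : Subgroup G) ≤ M)
    (N : Subgroup G) (hN : N.Normal) :
    N ⊔ (S : Subgroup G) = ⊤ ∨ N ⊓ (S : Subgroup G) ≤ Cfsg.pCore p G := by
  by_cases h : N ⊔ (S : Subgroup G) = ⊤
  · exact Or.inl h
  refine Or.inr ?_
  obtain ⟨M, ⟨hM, hSM⟩, huniq⟩ := hE₂
  -- `N ⊔ S` lies in a coatom, which is `M`
  obtain ⟨M', hM', hNSM'⟩ := (eq_top_or_exists_le_coatom (N ⊔ (S : Subgroup G))).resolve_left h
  have hM'M : M' = M := huniq M' ⟨hM', le_sup_right.trans hNSM'⟩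
  subst hM'M
  have hNM : N ≤ M' := le_sup_left.trans hNSM'
  -- `N ⊓ S` is a Sylow `p`-subgroup of `N`
  have hSN : (S : Subgroup G) ≤ Subgroup.normalizer (N : Set G) := by
    rw [Subgroup.normalizer_eq_top]; exact le_top
  obtain ⟨P, hP⟩ := Cfsg.Agent.Lib.Helper47_YL.exists_sylow_eq_inf_subgroupOf S N hSN
  have hfr := Sylow.normalizer_sup_eq_top P
  have hmap : (P : Subgroup ↥N).map N.subtype = N ⊓ (S : Subgroup G) := by
    rw [hP, Subgroup.subgroupOf_map_subtype]
    apply le_antisymm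
    · exact le_inf inf_le_right (inf_le_left.trans inf_le_left)
    · exact le_inf (le_inf inf_le_right inf_le_left) inf_le_left
  rw [hmap] at hfr
  -- `S ≤ N_G(N ⊓ S)`
  have hSnorm : (S : Subgroup G) ≤ Subgroup.normalizer ((N ⊓ (S : Subgroup G) : Subgroup G) : Set G) := by
    intro s hs
    rw [Subgroup.mem_normalizer_iff]
    intro x
    constructor
    · rintro ⟨hxN, hxS⟩
      exact ⟨hN.conj_mem x hxN s, (S : Subgroup G).mul_mem ((S : Subgroup G).mul_mem hs hxS)
        ((S : Subgroup G).inv_mem hs)⟩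
    · rintro ⟨hxN, hxS⟩
      refine ⟨?_, ?_⟩
      · have := hN.conj_mem _ hxN s⁻¹
        simpa [mul_assoc] using this
      · have := (S : Subgroup G).mul_mem ((S : Subgroup G).mul_mem ((S : Subgroup G).inv_mem hs) hxS) hs
        have h2 : s⁻¹ * (s * x * s⁻¹) * s = x := by group
        rw [h2] at this
        exact this
  -- the normalizer is `⊤`
  have htop : Subgroup.normalizer ((N ⊓ (S : Subgroup G) : Subgroup G) : Set G) = ⊤ := by
    by_contra hne
    obtain ⟨M'', hM'', hle⟩ := (eq_top_or_exists_le_coatom _).resolve_left hne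
    have hM''M : M'' = M' := huniq M'' ⟨hM'', hSnorm.trans hle⟩
    subst hM''M
    have : (⊤ : Subgroup G) ≤ M'' := by
      rw [← hfr]; exact sup_le hle hNM
    exact hM''.1 (top_le_iff.mp this)
  have hnormal : (N ⊓ (S : Subgroup G)).Normal := Subgroup.normalizer_eq_top_iff.mp htop
  have hpg : IsPGroup p ↥(N ⊓ (S : Subgroup G)) := S.isPGroup'.to_le inf_le_right
  exact le_sSup ⟨hnormal, hpg⟩

end Cfsg.Agent.Lib.Helper17_PU_FRAT
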