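import Cfsg.Agent.Lib.Helper50_PUDefs

/-!
# `pu_packages` M2769: the main case of S2769  (helper17, for helper50's S2768 market)

`L := ⟨B^G⟩`; by the Frattini dichotomy either `L ∩ S ≤ Q` (then `B = Q₀` is normal) or `L S = G`
(then `[Y,S] ∩ Z(S)` is centralized by `L` and `S`, hence central, hence normal).
-/

set_option autoImplicit false

namespace Cfsg.Agent.Lib.Helper17_PU_M2769

open scoped commutatorElement
open Cfsg.Agent.Lib.Helper50_PUDefs Cfsg.Agent.Lib.Helper51_Offender Cfsg.Agent.Lib.Helper72_AbelianJ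

variable {G : Type*} [Group G] [Finite G] {p : ℕ} [Fact p.Prime] {S : Sylow p G}

local notation "Q" => Cfsg.pCore p G
local notation "V" => VS (S : Subgroup G)
local notation "Z" => ZS (S : Subgroup G)
local notation "J" => JS (S : Subgroup G)
local notation "Y" => YS (S : Subgroup G)
local notation "B" => BS (S : Subgroup G)
local notation "ZD" => YS (Cfsg.pCore p G)
local notation "LJ" => Subgroup.normalClosure ((JS (S : Subgroup G) : Subgroup G) : Set G)
local notation "Q₀" => Cfsg.pCore p G ⊓ Subgroup.centralizer ((YS (S : Subgroup G) : Subgroup G) : Set G)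

/-- A subgroup of the centre is normal. -/
theorem normal_of_le_center {G : Type*} [Group G] (H : Subgroup G) (hH : H ≤ Subgroup.center G) :
    H.Normal := by
  refine ⟨fun x hx g => ?_⟩
  have hc := hH hx
  rw [Subgroup.mem_center_iff] at hc
  have : g * x * g⁻¹ = x := by rw [hc g, mul_assoc, mul_inv_cancel, mul_one]
  rw [this]; exact hx

theorem main_2769 (h : MainCase p S) (hvb : VBasic p S)
    (hfr : ∀ N : Subgroup G, N.Normal →
      N ⊔ (S : Subgroup G) = ⊤ ∨ N ⊓ (S : Subgroup G) ≤ Cfsg.pCore p G)
    (hN : (⁅Y, (S : Subgroup G)⁆).Normal)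
    (hNY : ⁅Y, (S : Subgroup G)⁆ ≤ Y) (hQ₀ : (Q₀).Normal) :
    (⁅Y, (S : Subgroup G)⁆ ⊓ Z).Normal ∨ (B).Normal := by
  have hLn : (Subgroup.normalClosure ((B : Subgroup G) : Set G)).Normal :=
    Subgroup.normalClosure_normal
  have hBL : B ≤ Subgroup.normalClosure ((B : Subgroup G) : Set G) := Subgroup.le_normalClosure
  rcases hfr _ hLn with htop | hle
  · -- `L ⊔ S = ⊤`
    left
    -- `L ≤ C(N)`
    have hCn : (Subgroup.centralizer ((⁅Y, (S : Subgroup G)⁆ : Subgroup G) : Set G)).Normal :=
      Subgroup.normal_centralizer (H := ⁅Y, (S : Subgroup G)⁆)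
    have hBC : B ≤ Subgroup.centralizer ((⁅Y, (S : Subgroup G)⁆ : Subgroup G) : Set G) :=
      inf_le_right.trans (Subgroup.centralizer_le hNY)
    have hLC : Subgroup.normalClosure ((B : Subgroup G) : Set G) ≤
        Subgroup.centralizer ((⁅Y, (S : Subgroup G)⁆ : Subgroup G) : Set G) :=
      Subgroup.normalClosure_le_normal hBC
    have hSC : (S : Subgroup G) ≤ Subgroup.centralizer ((Z : Subgroup G) : Set G) := by
      intro s hs
      rw [Subgroup.mem_centralizer_iff]
      intro z hz
      have hz' : z ∈ Subgroup.centralizer (((S : Subgroup G) : Subgroup G) : Set G) := hz.2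
      rw [Subgroup.mem_centralizer_iff] at hz'
      exact (hz' s hs).symm
    have hcen : (⊤ : Subgroup G) ≤
        Subgroup.centralizer ((⁅Y, (S : Subgroup G)⁆ ⊓ Z : Subgroup G) : Set G) := by
      rw [← htop]
      refine sup_le ?_ ?_
      · exact hLC.trans (Subgroup.centralizer_le inf_le_left)
      · exact hSC.trans (Subgroup.centralizer_le inf_le_right)
    apply normal_of_le_center
    intro x hx
    rw [Subgroup.mem_center_iff]
    intro g
    have hg := hcen (Subgroup.mem_top g)
    rw [Subgroup.mem_centralizer_iff] at hg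
    exact (hg x hx).symm
  · -- `L ⊓ S ≤ Q`
    right
    have hBQ₀ : B = Q₀ := by
      apply le_antisymm
      · exact le_inf ((le_inf hBL inf_le_left).trans hle) inf_le_right
      · exact inf_le_inf_right _ hvb.core_le
    rw [hBQ₀]
    exact hQ₀

end Cfsg.Agent.Lib.Helper17_PU_M2769
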