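import Mathlib
import Cfsg.Prelude.Def_Blocks
import Cfsg.Agent.Lib.Helper17_BSQ8Group
import Cfsg.Agent.Lib.Helper17_BSQ8
import Cfsg.Agent.Lib.Helper16_KleinRank
import Cfsg.Agent.Lib.Helper16_BlockOrth
import Cfsg.Agent.Lib.Helper77_NormalDefect

/-!
# Groups with quaternion Sylow `2`-subgroups of order `8`: the quotient by the centre (helper17)

Let `S ≅ Q₈` be a Sylow `2`-subgroup of `G`, `O(G) = 1`, `G ≠ S`.  By Brauer–Suzuki the centre is
`{1, t}`.  The quotient `G ⧸ Z(G)` has Klein four Sylow `2`-subgroups and one class of involutions,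
and the `2`-part of every element of `G` is `1`, `t`, or conjugate to a fixed element `u` of
order `4`.
-/

set_option autoImplicit false
set_option linter.unusedSectionVars false

namespace Cfsg.Agent.Lib.Helper17_Q8Quot

open Cfsg Cfsg.Agent.Lib.Helper17_BSQ8Group

variable {G : Type*} [Group G] [Finite G] (S : Sylow 2 G)
  (e : (S : Subgroup G) ≃* QuaternionGroup 2)

/-- The central involution. -/
theorem tt_mem_center (hO : ∀ N : Subgroup G, N.Normal → Odd (Nat.card N) → N = ⊥) :
    tt (S : Subgroup G) e ∈ Subgroup.center G := by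
  have hcard := Cfsg.Agent.Lib.Helper17_BSQ8.card_center_of_Q8 S e hO
  have hZp : IsPGroup 2 (Subgroup.center G) := by
    apply IsPGroup.of_card (n := 1)
    rw [hcard, pow_one]
  have hZS : Subgroup.center G ≤ (S : Subgroup G) := hZp.le_sylow_of_normal S
  have hnt : Nontrivial (Subgroup.center G) := by
    rw [← Finite.one_lt_card_iff_nontrivial, hcard]
    norm_num
  obtain ⟨z, hz⟩ := exists_ne (1 : Subgroup.center G)
  have h1 := center_cases (S : Subgroup G) e (z : G) (hZS z.2) (fun y _ => by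
    have := Subgroup.mem_center_iff.mp z.2 y
    exact this.symm)
  rcases h1 with h | h
  · exact absurd (Subtype.ext h) hz
  · rw [← h]; exact z.2

/-- The centre is `{1, t}`. -/
theorem mem_center_iff_cases (hO : ∀ N : Subgroup G, N.Normal → Odd (Nat.card N) → N = ⊥)
    (x : G) : x ∈ Subgroup.center G ↔ x = 1 ∨ x = tt (S : Subgroup G) e := by
  constructor
  · intro hx
    have hcard := Cfsg.Agent.Lib.Helper17_BSQ8.card_center_of_Q8 S e hO
    have hZp : IsPGroup 2 (Subgroup.center G) := by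
      apply IsPGroup.of_card (n := 1)
      rw [hcard, pow_one]
    have hZS : Subgroup.center G ≤ (S : Subgroup G) := hZp.le_sylow_of_normal S
    exact center_cases (S : Subgroup G) e x (hZS hx) (fun y _ => by
      have := Subgroup.mem_center_iff.mp hx y
      exact this.symm)
  · rintro (h | h)
    · rw [h]; exact Subgroup.one_mem _
    · rw [h]; exact tt_mem_center S e hO

/-- If `G ≠ S` then `S` has no normal complement. -/
theorem no_complement (hO : ∀ N : Subgroup G, N.Normal → Odd (Nat.card N) → N = ⊥)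
    (hG : (S : Subgroup G) ≠ ⊤) :
    ∀ N : Subgroup G, N.Normal → ¬ Subgroup.IsComplement' N (S : Subgroup G) := by
  intro N hN hc
  have hodd : Odd (Nat.card N) := by
    rw [← Nat.not_even_iff_odd, even_iff_two_dvd]
    intro h2
    have h1 : Nat.card N = (S : Subgroup G).index := hc.index_eq_card.symm
    rw [h1] at h2
    exact S.not_dvd_index h2
  have hbot := hO N hN hodd
  rw [hbot] at hc
  exact hG (Subgroup.isComplement'_bot_left.mp hc)

/-- Conjugate elements have the same order. -/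
theorem orderOf_of_isConj {H : Type*} [Group H] {x y : H} (h : IsConj x y) :
    orderOf y = orderOf x := by
  obtain ⟨c, hc⟩ := isConj_iff.mp h
  have hsc : SemiconjBy c x y := by
    show c * x = y * c
    rw [← hc]; group
  exact (hsc.orderOf_eq c).symm

/-! ### The quotient by the centre -/

/-- The image of `S` in `G ⧸ Z(G)`. -/
noncomputable def Pbar : Sylow 2 (G ⧸ Subgroup.center G) :=
  S.mapSurjective (QuotientGroup.mk'_surjective (Subgroup.center G))

theorem mem_Pbar (q : G ⧸ Subgroup.center G) :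
    q ∈ Pbar S ↔ ∃ s ∈ (S : Subgroup G), (QuotientGroup.mk s : G ⧸ Subgroup.center G) = q := by
  show q ∈ ((Pbar S : Sylow 2 _) : Subgroup (G ⧸ Subgroup.center G)) ↔ _
  unfold Pbar
  rw [Sylow.coe_mapSurjective, Subgroup.mem_map]
  rfl

include e in
theorem card_S : Nat.card (S : Subgroup G) = 8 := by
  rw [Nat.card_congr e.toEquiv, Nat.card_eq_fintype_card, QuaternionGroup.card]

include e in
theorem card_Pbar (hO : ∀ N : Subgroup G, N.Normal → Odd (Nat.card N) → N = ⊥) :
    Nat.card (Pbar S) = 4 := by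
  have hcard := Cfsg.Agent.Lib.Helper17_BSQ8.card_center_of_Q8 S e hO
  have h1 : Nat.card (S : Subgroup G) = 2 ^ (Nat.card G).factorization 2 := S.card_eq_multiplicity
  rw [card_S S e] at h1
  have h2 : Nat.card (Pbar S) = 2 ^ (Nat.card (G ⧸ Subgroup.center G)).factorization 2 :=
    (Pbar S).card_eq_multiplicity
  have h3 : Nat.card G = Nat.card (G ⧸ Subgroup.center G) * 2 := by
    rw [← hcard]
    exact Subgroup.card_eq_card_quotient_mul_card_subgroup (Subgroup.center G)
  have h4 : (Nat.card G).factorization 2 = 3 := by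
    have : (2 : ℕ) ^ 3 = 2 ^ (Nat.card G).factorization 2 := by rw [← h1]; norm_num
    exact (Nat.pow_right_injective (le_refl 2) this).symm
  have hpos : Nat.card (G ⧸ Subgroup.center G) ≠ 0 := Nat.card_pos.ne'
  rw [h3, Nat.factorization_mul hpos (by norm_num), Finsupp.add_apply,
    Nat.Prime.factorization_self Nat.prime_two] at h4
  have h5 : (Nat.card (G ⧸ Subgroup.center G)).factorization 2 = 2 := by omega
  rw [h2, h5]
  norm_num

include e in
/-- The square of every element of `S` is central. -/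
theorem sq_mem_center (hO : ∀ N : Subgroup G, N.Normal → Odd (Nat.card N) → N = ⊥)
    (s : G) (hs : s ∈ (S : Subgroup G)) : s * s ∈ Subgroup.center G := by
  rw [← pow_two]
  rcases mem_cases (S : Subgroup G) e s hs with h | h | h
  · rw [h, one_pow]; exact Subgroup.one_mem _
  · rw [h, tt_sq]; exact Subgroup.one_mem _
  · rw [h]; exact tt_mem_center S e hO

include e in
theorem klein_Pbar (hO : ∀ N : Subgroup G, N.Normal → Odd (Nat.card N) → N = ⊥) :
    IsKleinFour ((Pbar S : Sylow 2 (G ⧸ Subgroup.center G)) :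
      Subgroup (G ⧸ Subgroup.center G)) := by
  apply Cfsg.Agent.Lib.Helper16_KleinRank.isKleinFour_of_card_of_exp (Pbar S) (card_Pbar S e hO)
  intro x
  obtain ⟨s, hs, hsx⟩ := (mem_Pbar S (x : G ⧸ Subgroup.center G)).mp x.2
  apply Subtype.ext
  rw [Subgroup.coe_mul, Subgroup.coe_one, ← hsx, ← QuotientGroup.mk_mul]
  exact (QuotientGroup.eq_one_iff _).mpr (sq_mem_center S e hO s hs)

/-- All involutions of `G ⧸ Z(G)` are conjugate to the image of `u`. -/
theorem isConj_mk_uu (hO : ∀ N : Subgroup G, N.Normal → Odd (Nat.card N) → N = ⊥)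
    (hG : (S : Subgroup G) ≠ ⊤) (a : G ⧸ Subgroup.center G) (ha : orderOf a = 2) :
    IsConj (QuotientGroup.mk (uu (S : Subgroup G) e) : G ⧸ Subgroup.center G) a := by
  have hP : IsPGroup 2 (Subgroup.zpowers a) := by
    apply IsPGroup.of_card (n := 1)
    rw [Nat.card_zpowers, ha, pow_one]
  obtain ⟨g, hg⟩ := exists_conj_mem (Pbar S) _ hP
  obtain ⟨s, hs, hsa⟩ := (mem_Pbar S _).mp (hg a (Subgroup.mem_zpowers a))
  have hsZ : s ∉ Subgroup.center G := by
    intro h
    have h1 : (QuotientGroup.mk s : G ⧸ Subgroup.center G) = 1 := (QuotientGroup.eq_one_iff s).mpr h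
    rw [h1] at hsa
    have h2 : a = 1 := by
      have : a = g * (g⁻¹ * a * g) * g⁻¹ := by group
      rw [this, ← hsa]; group
    rw [h2, orderOf_one] at ha
    omega
  have hs2 : s ^ 2 = tt (S : Subgroup G) e := by
    rcases mem_cases (S : Subgroup G) e s hs with h | h | h
    · exact absurd ((mem_center_iff_cases S e hO s).mpr (Or.inl h)) hsZ
    · exact absurd ((mem_center_iff_cases S e hO s).mpr (Or.inr h)) hsZ
    · exact h
  obtain ⟨c, hc⟩ := isConj_iff.mp (isConj_uu S e (no_complement S hO hG) s hs hs2)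
  rw [isConj_iff]
  refine ⟨g * QuotientGroup.mk c, ?_⟩
  have h1 : (QuotientGroup.mk s : G ⧸ Subgroup.center G) =
      QuotientGroup.mk c * QuotientGroup.mk (uu (S : Subgroup G) e) * (QuotientGroup.mk c)⁻¹ := by
    rw [← hc]
    simp only [QuotientGroup.mk_mul, QuotientGroup.mk_inv]
  have h2 : a = g * (g⁻¹ * a * g) * g⁻¹ := by group
  rw [h2, ← hsa, h1]
  group

include e in
theorem one_class (hO : ∀ N : Subgroup G, N.Normal → Odd (Nat.card N) → N = ⊥)
    (hG : (S : Subgroup G) ≠ ⊤) (a b : G ⧸ Subgroup.center G) (ha : orderOf a = 2)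
    (hb : orderOf b = 2) : IsConj a b :=
  (isConj_mk_uu S e hO hG a ha).symm.trans (isConj_mk_uu S e hO hG b hb)

/-- The `2`-part of an element is `1`, `t` or a conjugate of `u`. -/
theorem ppart_cases (hO : ∀ N : Subgroup G, N.Normal → Odd (Nat.card N) → N = ⊥)
    (hG : (S : Subgroup G) ≠ ⊤) (z : G) (hz : ∃ k : ℕ, orderOf z = 2 ^ k) :
    z = 1 ∨ z = tt (S : Subgroup G) e ∨ IsConj (uu (S : Subgroup G) e) z := by
  obtain ⟨k, hk⟩ := hz
  have hP : IsPGroup 2 (Subgroup.zpowers z) := by
    apply IsPGroup.of_card (n := k)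
    rw [Nat.card_zpowers, hk]
  obtain ⟨g, hg⟩ := exists_conj_mem S _ hP
  have hs := hg z (Subgroup.mem_zpowers z)
  have hz' : z = g * (g⁻¹ * z * g) * g⁻¹ := by group
  rcases mem_cases (S : Subgroup G) e _ hs with h | h | h
  · left
    rw [hz', h]; group
  · right; left
    rw [hz', h]
    have := Subgroup.mem_center_iff.mp (tt_mem_center S e hO) g
    rw [this]; group
  · right; right
    have h1 := isConj_uu S e (no_complement S hO hG) _ hs h
    refine h1.trans ?_
    rw [isConj_iff]
    exact ⟨g, hz'.symm⟩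

/-- The three kinds of elements. -/
theorem element_cases (hO : ∀ N : Subgroup G, N.Normal → Odd (Nat.card N) → N = ⊥)
    (hG : (S : Subgroup G) ≠ ⊤) (g : G) :
    (¬ 2 ∣ orderOf g) ∨ (¬ 2 ∣ orderOf (tt (S : Subgroup G) e * g)) ∨
      ∃ z : G, IsPPart 2 g z ∧ IsConj (uu (S : Subgroup G) e) z := by
  obtain ⟨z, hz⟩ := Cfsg.Agent.Lib.Helper16_BlockOrth.exists_isPPart Nat.prime_two g
  have hz' := hz
  obtain ⟨y, hzy, hcomm, hk, hy⟩ := hz'
  rcases ppart_cases S e hO hG z hk with h | h | h
  · left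
    rw [← hzy, h, one_mul]; exact hy
  · right; left
    rw [← hzy, h, ← mul_assoc, ← pow_two, tt_sq, one_mul]; exact hy
  · right; right
    exact ⟨z, hz, h⟩

/-- `g` and `t g` are not both `2`-regular. -/
theorem not_both_regular (hO : ∀ N : Subgroup G, N.Normal → Odd (Nat.card N) → N = ⊥)
    (g : G) (hg : ¬ 2 ∣ orderOf g) : 2 ∣ orderOf (tt (S : Subgroup G) e * g) := by
  have hc : Commute g (tt (S : Subgroup G) e) :=
    (Subgroup.mem_center_iff.mp (tt_mem_center S e hO) g)
  rw [← hc.eq]
  exact Cfsg.Agent.Lib.Helper77_NormalDefect.dvd_orderOf_mul_of_commute g _ hg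
    ⟨1, by rw [orderOf_tt, pow_one]⟩ (tt_ne_one _ e) hc

/-- An element whose `2`-part is conjugate to `u` has `2`-singular image in `G ⧸ Z(G)`. -/
theorem two_dvd_orderOf_mk (hO : ∀ N : Subgroup G, N.Normal → Odd (Nat.card N) → N = ⊥)
    (g z : G) (hz : IsPPart 2 g z) (hzu : IsConj (uu (S : Subgroup G) e) z) :
    2 ∣ orderOf (QuotientGroup.mk g : G ⧸ Subgroup.center G) := by
  obtain ⟨y, hzy, hcomm, -, hy⟩ := hz
  have hoz : orderOf z = 4 := by rw [orderOf_of_isConj hzu, orderOf_uu]
  have hzZ : z ∉ Subgroup.center G := by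
    intro h
    rcases (mem_center_iff_cases S e hO z).mp h with h1 | h1
    · rw [h1, orderOf_one] at hoz; omega
    · rw [h1, orderOf_tt] at hoz; omega
  have h1 : (QuotientGroup.mk z : G ⧸ Subgroup.center G) ≠ 1 := by
    intro h
    exact hzZ ((QuotientGroup.eq_one_iff z).mp h)
  have h2 : ∃ k : ℕ, orderOf (QuotientGroup.mk z : G ⧸ Subgroup.center G) = 2 ^ k := by
    have h3 : orderOf (QuotientGroup.mk z : G ⧸ Subgroup.center G) ∣ 2 ^ 2 := by
      have := orderOf_map_dvd (QuotientGroup.mk' (Subgroup.center G)) z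
      rw [hoz] at this
      exact this
    obtain ⟨k, -, hk⟩ := (Nat.dvd_prime_pow Nat.prime_two).mp h3
    exact ⟨k, hk⟩
  have h3 : ¬ 2 ∣ orderOf (QuotientGroup.mk y : G ⧸ Subgroup.center G) := by
    intro h
    exact hy (dvd_trans h (orderOf_map_dvd (QuotientGroup.mk' (Subgroup.center G)) y))
  have h4 : Commute (QuotientGroup.mk y : G ⧸ Subgroup.center G) (QuotientGroup.mk z) := by
    show (QuotientGroup.mk y : G ⧸ Subgroup.center G) * QuotientGroup.mk z =
      QuotientGroup.mk z * QuotientGroup.mk y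
    rw [← QuotientGroup.mk_mul, ← QuotientGroup.mk_mul, hcomm.eq]
  have h5 := Cfsg.Agent.Lib.Helper77_NormalDefect.dvd_orderOf_mul_of_commute
    (QuotientGroup.mk y : G ⧸ Subgroup.center G) (QuotientGroup.mk z) h3 h2 h1 h4
  rw [← QuotientGroup.mk_mul, ← hcomm.eq, hzy] at h5
  exact h5

/-- An element whose `2`-part is conjugate to `u` is conjugate to `u y` with `y` a `2`-regular
element of the centralizer of `u`. -/
theorem exists_conj_section (g z : G) (hz : IsPPart 2 g z)
    (hzu : IsConj (uu (S : Subgroup G) e) z) :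
    ∃ (c : G) (y : Subgroup.centralizer ({uu (S : Subgroup G) e} : Set G)),
      ¬ 2 ∣ orderOf y ∧ g = c * (uu (S : Subgroup G) e * (y : G)) * c⁻¹ := by
  obtain ⟨y, hzy, hcomm, -, hy⟩ := hz
  obtain ⟨c, hc⟩ := isConj_iff.mp hzu
  have hmem : c⁻¹ * y * c ∈ Subgroup.centralizer ({uu (S : Subgroup G) e} : Set G) := by
    rw [Subgroup.mem_centralizer_iff]
    intro k hk
    rw [Set.mem_singleton_iff] at hk
    rw [hk]
    have h1 : c * uu (S : Subgroup G) e * c⁻¹ * y = y * (c * uu (S : Subgroup G) e * c⁻¹) := by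
      rw [hc]; exact hcomm.eq
    calc uu (S : Subgroup G) e * (c⁻¹ * y * c)
        = c⁻¹ * (c * uu (S : Subgroup G) e * c⁻¹ * y) * c := by group
      _ = c⁻¹ * (y * (c * uu (S : Subgroup G) e * c⁻¹)) * c := by rw [h1]
      _ = c⁻¹ * y * c * uu (S : Subgroup G) e := by group
  refine ⟨c, ⟨c⁻¹ * y * c, hmem⟩, ?_, ?_⟩
  · rw [Subgroup.orderOf_mk]
    have h1 : IsConj y (c⁻¹ * y * c) := by
      rw [isConj_iff]
      exact ⟨c⁻¹, by group⟩
    rw [orderOf_of_isConj h1]
    exact hy
  · show g = c * (uu (S : Subgroup G) e * (c⁻¹ * y * c)) * c⁻¹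
    rw [← hzy, ← hc]
    group

end Cfsg.Agent.Lib.Helper17_Q8Quot
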