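import Mathlib
import Cfsg.Prelude.Def_Blocks
import Cfsg.Prelude.Def_BlockRank
import Cfsg.Agent.Lib.Helper78_LocalRing
import Cfsg.Agent.Lib.Helper78_CentralChar
import Cfsg.Agent.Lib.Helper78_CharFacts
import Cfsg.Agent.Lib.Helper80_CharBasic
import Cfsg.Agent.Lib.Helper81_CharOrth
import Cfsg.Agent.Lib.Helper16_Char
import Cfsg.Agent.Lib.Helper16_BlockOrth
import Cfsg.Agent.Lib.Helper16_SectionNorm
import Cfsg.Agent.Lib.Helper16_KleinBlock
import Cfsg.Agent.Lib.Helper16_KleinRank
import Cfsg.Agent.Lib.Helper77_QuotBlocks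
import Cfsg.Agent.Lib.Helper77_QuotRank
import Cfsg.Agent.Lib.Helper77_NormalDefect
import Cfsg.Agent.Lib.Helper3_CharCenter
import Cfsg.Agent.Lib.Helper17_BSQ8Group
import Cfsg.Agent.Lib.Helper17_BSQ8
import Cfsg.Agent.Lib.Helper17_Q8Quot
import Cfsg.Agent.Lib.Helper4_KleinSylow
import Cfsg.Agent.S4835

/-!
# The principal `2`-block of a group with quaternion Sylow `2`-subgroups of order `8` (helper17)

`S ≅ Q₈` Sylow, `O(G) = 1`, `G ≠ S`: the principal `2`-block has exactly `7` characters: the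
`4` inflated from the Klein four quotient `G ⧸ Z(G)` and `3` faithful on `Z(G)`.
-/

set_option autoImplicit false
set_option linter.unusedSectionVars false

namespace Cfsg.Agent.Lib.Helper17_Q8Block

open Cfsg Cfsg.Agent.Lib.Helper78_LocalRing Cfsg.Agent.Lib.Helper78_CentralChar
  Cfsg.Agent.Lib.Helper78_CharFacts Cfsg.Agent.Lib.Helper16_Char
  Cfsg.Agent.Lib.Helper17_BSQ8Group Cfsg.Agent.Lib.Helper17_Q8Quot
  Cfsg.Agent.Lib.Helper77_QuotRank Cfsg.Agent.Lib.Helper77_QuotBlocks

open scoped ComplexConjugate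

/-- A central involution acts on an irreducible character by a sign. -/
theorem central_sign {G : Type*} [Group G] [Finite G] (χ : IrrCharacter G) {z : G}
    (hz : z ∈ Subgroup.center G) (hz2 : z ^ 2 = 1) :
    (∀ g : G, (χ : G → ℂ) (z * g) = (χ : G → ℂ) g) ∨
      (∀ g : G, (χ : G → ℂ) (z * g) = -(χ : G → ℂ) g) := by
  classical
  have := Fintype.ofFinite G
  obtain ⟨d, hdpos, hd⟩ := isIrrCharacter_one_eq_natCast χ.2
  obtain ⟨χ, n, ρ, hirr, rfl⟩ := χ
  have : ρ.IsIrreducible := hirr
  obtain ⟨c, hc⟩ := Cfsg.Agent.Lib.Helper3_CharCenter.exists_scalar_of_mem_center ρ hz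
  have hmul : ∀ g, ρ.character (z * g) = c * ρ.character g := by
    intro g
    unfold Representation.character
    rw [map_mul, hc, smul_mul_assoc, map_smul, smul_eq_mul]
    rfl
  have hc2 : c ^ 2 = 1 := by
    have h1 := hmul (z * 1)
    rw [hmul 1, ← mul_assoc z z 1, ← pow_two, hz2, one_mul] at h1
    simp only at hd
    rw [hd] at h1
    have hd0 : (d : ℂ) ≠ 0 := by exact_mod_cast hdpos.ne'
    have h2 : (d : ℂ) * (c ^ 2 - 1) = 0 := by linear_combination -h1
    rcases mul_eq_zero.mp h2 with h | h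
    · exact absurd h hd0
    · linear_combination h
  have h3 : (c - 1) * (c + 1) = 0 := by linear_combination hc2
  rcases mul_eq_zero.mp h3 with h | h
  · left
    intro g
    show ρ.character (z * g) = ρ.character g
    rw [hmul g, show c = 1 by linear_combination h, one_mul]
  · right
    intro g
    show ρ.character (z * g) = -ρ.character g
    rw [hmul g, show c = -1 by linear_combination h]
    ring

/-- The principal `2`-block of a group with Klein four Sylow `2`-subgroups and one class of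
involutions has `4` members, and its column at a `2`-singular element has norm `4`. -/
theorem klein_card_and_norm {H : Type*} [Group H] [Finite H] {M : Ideal AlgInt}
    (hM : IsPModular 2 M) (P : Sylow 2 H) (hP : IsKleinFour (P : Subgroup H))
    (hone : ∀ s t : H, orderOf s = 2 → orderOf t = 2 → IsConj s t) :
    Nat.card (principalBlock M H) = 4 ∧ ∀ q : H, 2 ∣ orderOf q →
      ∑ᶠ χ ∈ principalBlock M H, (χ : H → ℂ) q * conj ((χ : H → ℂ) q) = 4 := by
  classical
  obtain ⟨ζ₂, ζ₃, ζ₄, ε, hε, h21, h31, h23, h24, h34, hB, hinv, -, -, -, -⟩ :=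
    Cfsg.Agent.Lib.Helper16_KleinBlock.klein_principal_block M hM P hP hone
  obtain ⟨z, hzP, hz1⟩ : ∃ z : H, z ∈ (P : Subgroup H) ∧ z ≠ 1 := by
    by_contra hcon
    push Not at hcon
    have hbot : (P : Subgroup H) = ⊥ := (Subgroup.eq_bot_iff_forall _).mpr hcon
    have h4 := hP.card_four
    rw [hbot, Subgroup.card_bot] at h4
    omega
  have hz2 : orderOf z = 2 := Cfsg.Agent.Lib.Helper4_KleinSylow.klein_orderOf P hP z hzP hz1
  obtain ⟨hv2, hv3, hv4⟩ := hinv z hz2
  set e₁ : IrrCharacter H := Cfsg.Agent.Lib.Helper80_CharBasic.oneIrr H with he₁def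
  have he₁val : ∀ g : H, (e₁ : H → ℂ) g = 1 := fun g => rfl
  have h12 : e₁ ≠ ζ₂ := by
    intro h
    apply h21
    rw [← h]
    rfl
  have h13 : e₁ ≠ ζ₃ := by
    intro h
    apply h31
    rw [← h]
    rfl
  have h14 : e₁ ≠ ζ₄ := by
    intro h
    rw [← h, he₁val] at hv4
    norm_num at hv4
  have hBset : principalBlock M H = ↑({e₁, ζ₂, ζ₃, ζ₄} : Finset (IrrCharacter H)) := by
    rw [hB]
    ext χ
    simp only [Set.mem_ofPred_eq, Finset.coe_insert, Finset.coe_singleton, Set.mem_insert_iff,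
      Set.mem_singleton_iff]
    constructor
    · rintro (h | h | h | h)
      · left; exact Subtype.ext h
      · right; left; exact h
      · right; right; left; exact h
      · right; right; right; exact h
    · rintro (h | h | h | h)
      · left; rw [h]; rfl
      · right; left; exact h
      · right; right; left; exact h
      · right; right; right; exact h
  have hn1 : e₁ ∉ ({ζ₂, ζ₃, ζ₄} : Finset (IrrCharacter H)) := by
    simp [h12, h13, h14]
  have hn2 : ζ₂ ∉ ({ζ₃, ζ₄} : Finset (IrrCharacter H)) := by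
    simp [h23, h24]
  have hn3 : ζ₃ ∉ ({ζ₄} : Finset (IrrCharacter H)) := by
    simp [h34]
  refine ⟨?_, ?_⟩
  · rw [hBset, Nat.card_coe_set_eq, Set.ncard_coe_finset, Finset.card_insert_of_notMem hn1,
      Finset.card_insert_of_notMem hn2, Finset.card_insert_of_notMem hn3, Finset.card_singleton]
  · intro q hq
    have hval : ∀ ζ : IrrCharacter H, ζ ∈ principalBlock M H →
        (ζ : H → ℂ) q = (ζ : H → ℂ) z := fun ζ hζ =>
      Cfsg.Agent.Lib.Helper16_KleinRank.singular_value hM P hP hone z hzP hz1 ζ hζ q hq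
    have hmem : ∀ ζ : IrrCharacter H, ζ ∈ ({e₁, ζ₂, ζ₃, ζ₄} : Finset (IrrCharacter H)) →
        ζ ∈ principalBlock M H := by
      intro ζ hζ
      rw [hBset]
      exact hζ
    have hεε : (ε : ℂ) * conj (ε : ℂ) = 1 := by
      rw [map_intCast (starRingEnd ℂ)]
      rcases hε with h | h
      · rw [h]; norm_num
      · rw [h]; norm_num
    rw [hBset, finsum_mem_coe_finset, Finset.sum_insert hn1, Finset.sum_insert hn2,
      Finset.sum_insert hn3, Finset.sum_singleton, hval e₁ (hmem _ (by simp)),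
      hval ζ₂ (hmem _ (by simp)), hval ζ₃ (hmem _ (by simp)), hval ζ₄ (hmem _ (by simp)),
      he₁val, hv2, hv3, hv4, hεε]
    simp only [map_one, map_neg]
    norm_num

section Main

variable {G : Type*} [Group G] [Finite G] {M : Ideal AlgInt} (hM : IsPModular 2 M)
  (S : Sylow 2 G) (e : (S : Subgroup G) ≃* QuaternionGroup 2)
  (hO : ∀ N : Subgroup G, N.Normal → Odd (Nat.card N) → N = ⊥)
  (hG : (S : Subgroup G) ≠ ⊤)

include e hO in
theorem isPGroup_center : IsPGroup 2 (Subgroup.center G) := by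
  have hcard := Cfsg.Agent.Lib.Helper17_BSQ8.card_center_of_Q8 S e hO
  apply IsPGroup.of_card (n := 1)
  rw [hcard, pow_one]

omit [Finite G] in
theorem hreg_center (y : G) (_hy : ¬ 2 ∣ orderOf y) (u : G) (hu : u ∈ Subgroup.center G) :
    y * u = u * y :=
  Subgroup.mem_center_iff.mp hu y

include hM e hO in
/-- The principal block of `G ⧸ Z(G)` consists of the characters whose inflation lies in the
principal block of `G`. -/
theorem link (χ : IrrCharacter (G ⧸ Subgroup.center G)) :
    χ ∈ principalBlock M (G ⧸ Subgroup.center G) ↔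
      infl (Subgroup.center G) χ ∈ principalBlock M G := by
  have hMp := isPrime_of_isPModular hM
  constructor
  · intro h
    exact sameBlock_comp_mk hMp (Subgroup.center G) h
  · intro h
    exact sameBlock_of_comp_mk hM (Subgroup.center G) (isPGroup_center S e hO) hreg_center
      (Cfsg.Agent.Lib.Helper80_CharBasic.oneIrr (G ⧸ Subgroup.center G)) χ h

include hM e hO hG in
/-- The `2`-regular rank of the principal block is `3`. -/
theorem blockRank_eq_three : blockRank 2 (principalBlock M G) = 3 := by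
  have hB : IsPBlock M (principalBlock M G) := ⟨Cfsg.Agent.Lib.Helper80_CharBasic.oneIrr G, rfl⟩
  have hBbar : IsPBlock M (principalBlock M (G ⧸ Subgroup.center G)) :=
    ⟨Cfsg.Agent.Lib.Helper80_CharBasic.oneIrr _, rfl⟩
  rw [blockRank_eq_of_quot hM (Subgroup.center G) (isPGroup_center S e hO) hreg_center hB hBbar
    (link hM S e hO)]
  exact Cfsg.Agent.Lib.Helper16_KleinRank.klein_blockRank hM (Pbar S) (klein_Pbar S e hO)
    (one_class S e hO hG)

include hM e hO in
/-- Inflation is a bijection from the principal block of `G ⧸ Z(G)` onto the characters of the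
principal block of `G` with `Z(G)` in the kernel. -/
theorem bijOn_infl : Set.BijOn (infl (Subgroup.center G))
    (principalBlock M (G ⧸ Subgroup.center G))
    {χ : IrrCharacter G | χ ∈ principalBlock M G ∧
      Subgroup.center G ≤ Cfsg.Agent.S4835.irrKer χ} := by
  refine ⟨?_, (infl_injective (Subgroup.center G)).injOn, ?_⟩
  · intro χ hχ
    exact ⟨(link hM S e hO χ).mp hχ,
      fun u hu => (Cfsg.Agent.S4835.mem_irrKer _ u).mpr (infl_ker (Subgroup.center G) χ u hu)⟩
  · rintro θ ⟨hθB, hθk⟩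
    obtain ⟨χ, hχ⟩ := exists_quot_char (Subgroup.center G) θ
      (fun u hu => (Cfsg.Agent.S4835.mem_irrKer θ u).mp (hθk hu))
    have hθ : infl (Subgroup.center G) χ = θ := Subtype.ext hχ.symm
    refine ⟨χ, (link hM S e hO χ).mpr ?_, hθ⟩
    rw [hθ]
    exact hθB

include hM e hO hG in
/-- A character of the principal block which is faithful on `Z(G)` vanishes at every element whose
`2`-part has order `4`. -/
theorem vanish (χ : IrrCharacter G) (hχ : χ ∈ principalBlock M G)
    (hk : ¬ Subgroup.center G ≤ Cfsg.Agent.S4835.irrKer χ) (g z : G) (hz : IsPPart 2 g z)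
    (hzu : IsConj (uu (S : Subgroup G) e) z) : (χ : G → ℂ) g = 0 := by
  classical
  let _ : Fintype G := Fintype.ofFinite G
  have hfin : Finite (IrrCharacter G) := charFacts.finite
  have := Fintype.ofFinite (IrrCharacter G)
  set u := uu (S : Subgroup G) e with hu
  -- the column norm of `g` over the whole block
  obtain ⟨c, y, hy, hgc⟩ := exists_conj_section S e g z hz hzu
  have hval : ∀ ζ : IrrCharacter G, (ζ : G → ℂ) (u * (y : G)) = (ζ : G → ℂ) g := by
    intro ζ
    rw [hgc]
    exact (isIrrCharacter_isClassFunction ζ.2 _ c).symm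
  obtain ⟨hncu, hfac⟩ := centralizer_uu S e
  have hu' : ∃ k : ℕ, orderOf u = 2 ^ k := ⟨2, by rw [hu, orderOf_uu]; norm_num⟩
  have hnorm := Cfsg.Agent.Lib.Helper16_SectionNorm.principal_section_norm_complex hM u hu' y hy
  rw [Cfsg.Agent.Lib.Helper16_SectionNorm.principal_norm_of_normal_complement hM hncu y hy,
    hfac] at hnorm
  simp_rw [hval] at hnorm
  -- the column norm over the inflated characters
  obtain ⟨-, hK⟩ := klein_card_and_norm hM (Pbar S) (klein_Pbar S e hO) (one_class S e hO hG)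
  have h2 := hK (QuotientGroup.mk g) (two_dvd_orderOf_mk S e hO g z hz hzu)
  have h3 : ∑ᶠ ζ ∈ {χ : IrrCharacter G | χ ∈ principalBlock M G ∧
        Subgroup.center G ≤ Cfsg.Agent.S4835.irrKer χ}, (ζ : G → ℂ) g * conj ((ζ : G → ℂ) g) =
      ∑ᶠ ζ ∈ principalBlock M (G ⧸ Subgroup.center G),
        (ζ : G ⧸ Subgroup.center G → ℂ) (QuotientGroup.mk g) *
          conj ((ζ : G ⧸ Subgroup.center G → ℂ) (QuotientGroup.mk g)) := by
    symm
    apply finsum_mem_eq_of_bijOn (infl (Subgroup.center G)) (bijOn_infl hM S e hO)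
    intro ζ _
    rfl
  rw [h2] at h3
  -- finsets
  set Bf : Finset (IrrCharacter G) := Finset.univ.filter (fun χ => χ ∈ principalBlock M G)
    with hBf
  have hS : ∀ f : IrrCharacter G → ℂ, ∑ᶠ χ ∈ principalBlock M G, f χ = ∑ χ ∈ Bf, f χ := by
    intro f
    have e' := finsum_mem_eq_sum_ite (fun χ => χ ∈ principalBlock M G) f
    rw [show (∑ᶠ χ ∈ principalBlock M G, f χ) = _ from e', hBf, Finset.sum_filter]
  have hSp : ∀ f : IrrCharacter G → ℂ, ∑ᶠ χ ∈ {χ : IrrCharacter G | χ ∈ principalBlock M G ∧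
        Subgroup.center G ≤ Cfsg.Agent.S4835.irrKer χ}, f χ =
      ∑ χ ∈ Bf.filter (fun χ => Subgroup.center G ≤ Cfsg.Agent.S4835.irrKer χ), f χ := by
    intro f
    have e' := finsum_mem_eq_sum_ite (fun χ : IrrCharacter G => χ ∈ principalBlock M G ∧
        Subgroup.center G ≤ Cfsg.Agent.S4835.irrKer χ) f
    rw [show (∑ᶠ χ ∈ {χ : IrrCharacter G | χ ∈ principalBlock M G ∧
        Subgroup.center G ≤ Cfsg.Agent.S4835.irrKer χ}, f χ) = _ from e', hBf,
      Finset.filter_filter, Finset.sum_filter]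
  rw [hS] at hnorm
  rw [hSp] at h3
  have hsplit := Finset.sum_filter_add_sum_filter_not Bf
    (fun χ => Subgroup.center G ≤ Cfsg.Agent.S4835.irrKer χ)
    (fun ζ : IrrCharacter G => (ζ : G → ℂ) g * conj ((ζ : G → ℂ) g))
  rw [hnorm, h3] at hsplit
  have h0 : ∑ ζ ∈ Bf.filter (fun χ => ¬ Subgroup.center G ≤ Cfsg.Agent.S4835.irrKer χ),
      (ζ : G → ℂ) g * conj ((ζ : G → ℂ) g) = 0 := by
    have : ((2 ^ 2 : ℕ) : ℂ) = 4 := by norm_num
    rw [this] at hsplit
    linear_combination hsplit
  simp_rw [Complex.mul_conj] at h0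
  have h0' : ∑ ζ ∈ Bf.filter (fun χ => ¬ Subgroup.center G ≤ Cfsg.Agent.S4835.irrKer χ),
      Complex.normSq ((ζ : G → ℂ) g) = 0 := by exact_mod_cast h0
  have hχmem : χ ∈ Bf.filter (fun χ => ¬ Subgroup.center G ≤ Cfsg.Agent.S4835.irrKer χ) := by
    rw [Finset.mem_filter, hBf, Finset.mem_filter]
    exact ⟨⟨Finset.mem_univ _, hχ⟩, hk⟩
  have h4 := (Finset.sum_eq_zero_iff_of_nonneg (fun _ _ => Complex.normSq_nonneg _)).mp h0' χ hχmem
  exact Complex.normSq_eq_zero.mp h4

include hM e hO hG in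
/-- A character of the principal block which is faithful on `Z(G)` has half of its norm on the
`2`-regular elements. -/
theorem half_norm [Fintype G] (χ : IrrCharacter G) (hχ : χ ∈ principalBlock M G)
    (hk : ¬ Subgroup.center G ≤ Cfsg.Agent.S4835.irrKer χ) :
    2 * ∑ x ∈ Finset.univ.filter (fun x : G => ¬ 2 ∣ orderOf x),
      (χ : G → ℂ) x * conj ((χ : G → ℂ) x) = (Nat.card G : ℂ) := by
  classical
  set t := tt (S : Subgroup G) e with ht
  have htZ : t ∈ Subgroup.center G := tt_mem_center S e hO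
  have hsign : ∀ g : G, (χ : G → ℂ) (t * g) = -(χ : G → ℂ) g := by
    rcases central_sign χ htZ (tt_sq _ e) with h | h
    · exfalso
      apply hk
      intro x hx
      rw [Cfsg.Agent.S4835.mem_irrKer]
      rcases (mem_center_iff_cases S e hO x).mp hx with h1 | h1
      · rw [h1]
      · rw [h1]
        have := h 1
        rwa [mul_one] at this
    · exact h
  set F : G → ℂ := fun g => (χ : G → ℂ) g * conj ((χ : G → ℂ) g) with hF
  have hFt : ∀ g : G, F (t * g) = F g := by
    intro g
    simp only [hF, hsign g, map_neg, neg_mul_neg]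
  have hdecomp : ∀ g : G, F g = (if ¬ 2 ∣ orderOf g then F g else 0) +
      (if ¬ 2 ∣ orderOf (t * g) then F g else 0) := by
    intro g
    rcases element_cases S e hO hG g with h1 | h1 | ⟨z, hz, hzu⟩
    · have h2 := not_both_regular S e hO g h1
      rw [if_pos h1, if_neg (not_not.mpr h2), add_zero]
    · have h2 : 2 ∣ orderOf g := by
        by_contra h3
        exact h1 (not_both_regular S e hO g h3)
      rw [if_neg (not_not.mpr h2), if_pos h1, zero_add]
    · have h0 : F g = 0 := by
        simp only [hF, vanish hM S e hO hG χ hχ hk g z hz hzu, zero_mul]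
      rw [h0]
      simp
  have htotal : ∑ g : G, F g = (Nat.card G : ℂ) := by
    rw [← Cfsg.Agent.Lib.Helper81_CharOrth.sum_irr_mul_self_inv χ.2]
    refine Finset.sum_congr rfl fun g _ => ?_
    rw [Cfsg.Agent.Lib.Helper80_CharBasic.irr_inv χ g]
  have hsecond : ∑ g : G, (if ¬ 2 ∣ orderOf (t * g) then F g else 0) =
      ∑ g : G, (if ¬ 2 ∣ orderOf g then F g else 0) := by
    have h1 : ∀ g : G, (if ¬ 2 ∣ orderOf (t * g) then F g else 0) =
        (fun g' : G => if ¬ 2 ∣ orderOf g' then F g' else 0) (Equiv.mulLeft t g) := by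
      intro g
      simp only [Equiv.coe_mulLeft, hFt g]
    rw [Finset.sum_congr rfl fun g _ => h1 g]
    exact Equiv.sum_comp (Equiv.mulLeft t) (fun g' : G => if ¬ 2 ∣ orderOf g' then F g' else 0)
  rw [Finset.sum_filter, ← htotal, Finset.sum_congr rfl fun g _ => hdecomp g,
    Finset.sum_add_distrib, hsecond]
  ring

include hM e hO hG in
/-- **The principal `2`-block has `7` characters.** -/
theorem card_principalBlock : Nat.card (principalBlock M G) = 7 := by
  classical
  let _ : Fintype G := Fintype.ofFinite G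
  have hfin : Finite (IrrCharacter G) := charFacts.finite
  have := Fintype.ofFinite (IrrCharacter G)
  have hB : IsPBlock M (principalBlock M G) := ⟨Cfsg.Agent.Lib.Helper80_CharBasic.oneIrr G, rfl⟩
  have hGne : (Nat.card G : ℂ) ≠ 0 := by exact_mod_cast (Nat.card_pos (α := G)).ne'
  -- finsets
  set Bf : Finset (IrrCharacter G) := Finset.univ.filter (fun χ => χ ∈ principalBlock M G)
    with hBf
  have hS : ∀ f : IrrCharacter G → ℂ, ∑ᶠ χ ∈ principalBlock M G, f χ = ∑ χ ∈ Bf, f χ := by
    intro f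
    have e' := finsum_mem_eq_sum_ite (fun χ => χ ∈ principalBlock M G) f
    rw [show (∑ᶠ χ ∈ principalBlock M G, f χ) = _ from e', hBf, Finset.sum_filter]
  set Bp : Finset (IrrCharacter G) :=
    Bf.filter (fun χ => Subgroup.center G ≤ Cfsg.Agent.S4835.irrKer χ) with hBp
  set Bm : Finset (IrrCharacter G) :=
    Bf.filter (fun χ => ¬ Subgroup.center G ≤ Cfsg.Agent.S4835.irrKer χ) with hBm
  have hSp : ∀ f : IrrCharacter G → ℂ, ∑ᶠ χ ∈ {χ : IrrCharacter G | χ ∈ principalBlock M G ∧
        Subgroup.center G ≤ Cfsg.Agent.S4835.irrKer χ}, f χ = ∑ χ ∈ Bp, f χ := by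
    intro f
    have e' := finsum_mem_eq_sum_ite (fun χ : IrrCharacter G => χ ∈ principalBlock M G ∧
        Subgroup.center G ≤ Cfsg.Agent.S4835.irrKer χ) f
    rw [show (∑ᶠ χ ∈ {χ : IrrCharacter G | χ ∈ principalBlock M G ∧
        Subgroup.center G ≤ Cfsg.Agent.S4835.irrKer χ}, f χ) = _ from e', hBp, hBf,
      Finset.filter_filter, Finset.sum_filter]
  have hsplit : ∀ f : IrrCharacter G → ℂ, ∑ χ ∈ Bp, f χ + ∑ χ ∈ Bm, f χ = ∑ χ ∈ Bf, f χ :=
    fun f => Finset.sum_filter_add_sum_filter_not Bf _ f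
  have hcardQ : (Nat.card (Subgroup.center G) : ℂ) = 2 := by
    rw [Cfsg.Agent.Lib.Helper17_BSQ8.card_center_of_Q8 S e hO]
    norm_num
  -- the rank formula
  have hrank := rank_formula hM hB
  rw [blockRank_eq_three hM S e hO hG] at hrank
  -- the Gram identity
  have hgram : ∀ x ∈ Finset.univ.filter (fun x : G => ¬ 2 ∣ orderOf x),
      ∑ᶠ χ ∈ principalBlock M G, (χ : G → ℂ) x * conj ((χ : G → ℂ) x) =
        2 * ∑ χ ∈ Bm, (χ : G → ℂ) x * conj ((χ : G → ℂ) x) := by
    intro x hx
    rw [Finset.mem_filter] at hx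
    have h1 := Cfsg.Agent.Lib.Helper77_NormalDefect.gram_normal hM hB (Subgroup.center G)
      (isPGroup_center S e hO) hreg_center x x hx.2 hx.2
    rw [hcardQ, hSp, hS] at h1
    have h2 := hsplit (fun χ => (χ : G → ℂ) x * conj ((χ : G → ℂ) x))
    rw [hS]
    linear_combination (-1) * h1 - 2 * h2
  rw [Finset.sum_congr rfl hgram, ← Finset.mul_sum, Finset.sum_comm, Finset.mul_sum] at hrank
  have hhalf : ∀ χ ∈ Bm, 2 * ∑ x ∈ Finset.univ.filter (fun x : G => ¬ 2 ∣ orderOf x),
      (χ : G → ℂ) x * conj ((χ : G → ℂ) x) = (Nat.card G : ℂ) := by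
    intro χ hχ
    rw [hBm, Finset.mem_filter, hBf, Finset.mem_filter] at hχ
    exact half_norm hM S e hO hG χ hχ.1.2 hχ.2
  rw [Finset.sum_congr rfl hhalf, Finset.sum_const, nsmul_eq_mul] at hrank
  have hBmcard : Bm.card = 3 := by
    have h1 : ((Bm.card : ℕ) : ℂ) = ((3 : ℕ) : ℂ) := by
      have h2 : (Nat.card G : ℂ) * ((3 : ℕ) : ℂ) = (Nat.card G : ℂ) * ((Bm.card : ℕ) : ℂ) := by
        rw [hrank]; ring
      exact (mul_left_cancel₀ hGne h2).symm
    exact_mod_cast h1
  -- the inflated characters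
  have hBpcard : Bp.card = 4 := by
    obtain ⟨h4, -⟩ := klein_card_and_norm hM (Pbar S) (klein_Pbar S e hO) (one_class S e hO hG)
    have h1 := Nat.card_congr (bijOn_infl hM S e hO).equiv
    rw [h4] at h1
    have h2 : {χ : IrrCharacter G | χ ∈ principalBlock M G ∧
        Subgroup.center G ≤ Cfsg.Agent.S4835.irrKer χ} = ↑Bp := by
      ext χ
      simp [hBp, hBf]
    rw [h2, Nat.card_coe_set_eq, Set.ncard_coe_finset] at h1
    exact h1.symm
  have hBfset : principalBlock M G = ↑Bf := by
    ext χ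
    simp [hBf]
  have hcard : Bp.card + Bm.card = Bf.card := Finset.card_filter_add_card_filter_not _
  rw [hBfset, Nat.card_coe_set_eq, Set.ncard_coe_finset, ← hcard, hBpcard, hBmcard]

end Main

end Cfsg.Agent.Lib.Helper17_Q8Block
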