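/-
Definitions for the (B, N)-pair of the symplectic group `Sp_{2m}(F)` (Mathlib's `Matrix.symplecticGroup (Fin m) F`):
heights of the indices (`e_1 < ... < e_m < f_m < ... < f_1`), the Borel subgroup of upper triangular elements,
the diagonal and monomial subgroups, the root elements and the representatives of the distinguished
generators of the Weyl group.
-/
import Mathlib
import Cfsg.Agent.Lib.Helper68_MatGrp
import Cfsg.Agent.Lib.Helper5_SpPerfect

set_option autoImplicit false
set_option linter.unusedSectionVars false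
set_option linter.unusedVariables false

namespace Cfsg.Agent.Lib.Helper68_StSpDefs

open Matrix Cfsg.Agent.Lib.Helper68_MatGrp Cfsg.Agent.Lib.Helper5_SpPerfect

variable (m : ℕ) (F : Type*) [Field F]

/-- the matrix of an element of the symplectic group -/
def φ : ↥(symplecticGroup (Fin m) F) →* Matrix (Fin m ⊕ Fin m) (Fin m ⊕ Fin m) F :=
  (symplecticGroup (Fin m) F).subtype

@[simp] theorem φ_apply (g : ↥(symplecticGroup (Fin m) F)) : φ m F g = g.1 := rfl

/-- the height of an index: `e_i ↦ i`, `f_i ↦ 2m - 1 - i` -/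
def ht : Fin m ⊕ Fin m → ℕ
  | Sum.inl i => i.val
  | Sum.inr i => 2 * m - 1 - i.val

@[simp] theorem ht_inl (i : Fin m) : ht m (Sum.inl i) = i.val := rfl
@[simp] theorem ht_inr (i : Fin m) : ht m (Sum.inr i) = 2 * m - 1 - i.val := rfl

theorem ht_injective : Function.Injective (ht m) := by
  rintro (i | i) (j | j) h
  · simp only [ht_inl] at h
    rw [Fin.ext h]
  · simp only [ht_inl, ht_inr] at h
    have := i.2; have := j.2
    omega
  · simp only [ht_inl, ht_inr] at h
    have := i.2; have := j.2
    omega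
  · simp only [ht_inr] at h
    have := i.2; have := j.2
    have : i.val = j.val := by omega
    rw [Fin.ext this]

theorem ht_swap (a : Fin m ⊕ Fin m) : ht m (Sum.swap a) = 2 * m - 1 - ht m a := by
  rcases a with i | i
  · rfl
  · simp only [Sum.swap_inr, ht_inl, ht_inr]
    have := i.2
    omega

theorem ht_lt (a : Fin m ⊕ Fin m) : ht m a < 2 * m := by
  rcases a with i | i
  · simp only [ht_inl]
    have := i.2
    omega
  · simp only [ht_inr]
    have := i.2
    omega

/-- the Borel subgroup: upper triangular elements -/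
def Bsp : Subgroup ↥(symplecticGroup (Fin m) F) := UT (φ m F) (ht m)

/-- the diagonal elements -/
def Tsp : Subgroup ↥(symplecticGroup (Fin m) F) := Diag (φ m F)

/-- the monomial elements -/
def Msp : Subgroup ↥(symplecticGroup (Fin m) F) := Mono (φ m F)

variable {m F}

theorem mem_Bsp {g : ↥(symplecticGroup (Fin m) F)} :
    g ∈ Bsp m F ↔ ∀ a b, ht m b < ht m a → g.1 a b = 0 := Iff.rfl

theorem mem_Tsp {g : ↥(symplecticGroup (Fin m) F)} :
    g ∈ Tsp m F ↔ ∀ a b, a ≠ b → g.1 a b = 0 := Iff.rfl

theorem mem_Msp {g : ↥(symplecticGroup (Fin m) F)} :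
    g ∈ Msp m F ↔ ∃ σ : Equiv.Perm (Fin m ⊕ Fin m), ∀ a b, a ≠ σ b → g.1 a b = 0 := Iff.rfl

/-! ### Root elements and Weyl group representatives -/

theorem single_mul_single_of_ne {i k : Fin m} (hik : i ≠ k) (s t : F) :
    (single i k s : Matrix (Fin m) (Fin m) F) * single i k t = 0 := by
  rw [Matrix.single_mul_single_of_ne _ _ _ _ (Ne.symm hik)]

theorem xL_aux {i k : Fin m} (hik : i ≠ k) (t : F) :
    (1 + single i k t : Matrix (Fin m) (Fin m) F) * (1 - single i k t) = 1 := by
  rw [Matrix.add_mul, Matrix.mul_sub, Matrix.mul_sub, Matrix.one_mul, Matrix.mul_one, Matrix.one_mul,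
    single_mul_single_of_ne hik]
  abel

/-- the root element `e_k ↦ e_k + t e_i`, `f_i ↦ f_i - t f_k` (`i ≠ k`) -/
def xL (i k : Fin m) (hik : i ≠ k) (t : F) : ↥(symplecticGroup (Fin m) F) :=
  Lg (1 + single i k t) (1 - single i k t) (xL_aux hik t)

/-- the long root element `f_i ↦ f_i + t e_i` -/
def xX (i : Fin m) (t : F) : ↥(symplecticGroup (Fin m) F) :=
  Xg (single i i t) (by rw [Matrix.transpose_single])

theorem yX_mem (i : Fin m) (t : F) :
    (fromBlocks 1 0 (single i i t) 1 : Matrix (Fin m ⊕ Fin m) (Fin m ⊕ Fin m) F) ∈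
      symplecticGroup (Fin m) F := by
  rw [SymplecticGroup.fromBlocks_mem_iff]
  refine ⟨?_, ?_, ?_⟩
  · rw [Matrix.transpose_one, Matrix.one_mul, Matrix.transpose_single, Matrix.mul_one]
  · simp
  · simp

/-- the opposite long root element `e_i ↦ e_i + t f_i` -/
def yX (i : Fin m) (t : F) : ↥(symplecticGroup (Fin m) F) :=
  ⟨fromBlocks 1 0 (single i i t) 1, yX_mem i t⟩

/-- the matrix of the transposition `(i k)` -/
def swapMat (i k : Fin m) : Matrix (Fin m) (Fin m) F :=
  Matrix.of fun a b => if a = Equiv.swap i k b then 1 else 0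

theorem swapMat_apply (i k a b : Fin m) :
    (swapMat i k : Matrix (Fin m) (Fin m) F) a b = if a = Equiv.swap i k b then 1 else 0 := rfl

theorem swapMat_mul_self (i k : Fin m) :
    (swapMat i k : Matrix (Fin m) (Fin m) F) * swapMat i k = 1 := by
  ext a b
  rw [Matrix.mul_apply, Finset.sum_eq_single (Equiv.swap i k b)]
  · rw [swapMat_apply, swapMat_apply, if_pos rfl, mul_one, Matrix.one_apply]
    by_cases h : a = b
    · rw [if_pos h, if_pos (by rw [h, Equiv.swap_apply_self])]
    · rw [if_neg h, if_neg]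
      intro h'
      apply h
      rw [h', Equiv.swap_apply_self]
  · intro c _ hc
    rw [swapMat_apply i k c b, if_neg hc, mul_zero]
  · intro h; exact absurd (Finset.mem_univ _) h

/-- the representative `e_i ↔ e_k`, `f_i ↔ f_k` of a reflection in a short root -/
def wL (i k : Fin m) : ↥(symplecticGroup (Fin m) F) :=
  Lg (swapMat i k) (swapMat i k) (swapMat_mul_self i k)

theorem wX_mem (i : Fin m) :
    (fromBlocks (1 - single i i 1) (-(single i i 1)) (single i i 1) (1 - single i i 1) :
      Matrix (Fin m ⊕ Fin m) (Fin m ⊕ Fin m) F) ∈ symplecticGroup (Fin m) F := by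
  have hE : (single i i (1 : F) : Matrix (Fin m) (Fin m) F) * single i i 1 = single i i 1 := by
    rw [Matrix.single_mul_single_same, mul_one]
  have hT : (single i i (1 : F) : Matrix (Fin m) (Fin m) F)ᵀ = single i i 1 := Matrix.transpose_single _ _ _
  rw [SymplecticGroup.fromBlocks_mem_iff]
  refine ⟨?_, ?_, ?_⟩
  · rw [Matrix.transpose_sub, Matrix.transpose_one, hT, Matrix.sub_mul, Matrix.mul_sub, Matrix.one_mul,
      Matrix.mul_one]
  · rw [Matrix.transpose_sub, Matrix.transpose_one, Matrix.transpose_neg, hT, Matrix.neg_mul, Matrix.mul_neg,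
      Matrix.sub_mul, Matrix.mul_sub, Matrix.one_mul, Matrix.mul_one]
  · rw [Matrix.transpose_sub, Matrix.transpose_one, hT, Matrix.sub_mul, Matrix.mul_sub, Matrix.mul_sub,
      Matrix.one_mul, Matrix.mul_one, Matrix.one_mul, Matrix.mul_neg, hE]
    abel

/-- the representative `e_i ↦ f_i`, `f_i ↦ -e_i` of the reflection in a long root -/
def wX (i : Fin m) : ↥(symplecticGroup (Fin m) F) :=
  ⟨fromBlocks (1 - single i i 1) (-(single i i 1)) (single i i 1) (1 - single i i 1), wX_mem i⟩

/-! ### the matrices -/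

theorem xL_val (i k : Fin m) (hik : i ≠ k) (t : F) :
    (xL i k hik t).1 = fromBlocks (1 + single i k t) 0 0 (1 - single k i t) := by
  show Lmat _ _ = _
  unfold Lmat
  rw [Matrix.transpose_sub, Matrix.transpose_one, Matrix.transpose_single]

theorem xX_val (i : Fin m) (t : F) : (xX i t).1 = fromBlocks 1 (single i i t) 0 1 := rfl

theorem yX_val (i : Fin m) (t : F) : (yX i t).1 = fromBlocks 1 0 (single i i t) 1 := rfl

theorem swapMat_transpose (i k : Fin m) :
    (swapMat i k : Matrix (Fin m) (Fin m) F)ᵀ = swapMat i k := by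
  ext a b
  rw [Matrix.transpose_apply, swapMat_apply, swapMat_apply]
  by_cases h : a = Equiv.swap i k b
  · rw [if_pos h, if_pos (by rw [h, Equiv.swap_apply_self])]
  · rw [if_neg h, if_neg]
    intro h'
    apply h
    rw [h', Equiv.swap_apply_self]

theorem wL_val (i k : Fin m) :
    (wL i k : ↥(symplecticGroup (Fin m) F)).1 = fromBlocks (swapMat i k) 0 0 (swapMat i k) := by
  show Lmat _ _ = _
  unfold Lmat
  rw [swapMat_transpose]

theorem wX_val (i : Fin m) :
    (wX i : ↥(symplecticGroup (Fin m) F)).1 =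
      fromBlocks (1 - single i i 1) (-(single i i 1)) (single i i 1) (1 - single i i 1) := rfl

/-! ### additivity of the root elements -/

theorem xL_mul (i k : Fin m) (hik : i ≠ k) (s t : F) :
    xL i k hik s * xL i k hik t = xL i k hik (s + t) := by
  apply Subtype.ext
  show (xL i k hik s).1 * (xL i k hik t).1 = (xL i k hik (s + t)).1
  rw [xL_val, xL_val, xL_val, Matrix.fromBlocks_multiply]
  congr 1
  · rw [Matrix.add_mul, Matrix.mul_add, Matrix.mul_add, Matrix.one_mul, Matrix.mul_one, Matrix.one_mul,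
      single_mul_single_of_ne hik, Matrix.zero_mul, Matrix.single_add]
    simp only [add_zero]
    abel
  · simp
  · simp
  · rw [Matrix.zero_mul, zero_add, Matrix.sub_mul, Matrix.mul_sub, Matrix.mul_sub, Matrix.one_mul,
      Matrix.mul_one, Matrix.one_mul, single_mul_single_of_ne (Ne.symm hik), Matrix.single_add]
    abel

theorem xL_zero (i k : Fin m) (hik : i ≠ k) : xL i k hik (0 : F) = 1 := by
  apply Subtype.ext
  show (xL i k hik (0 : F)).1 = 1
  rw [xL_val, Matrix.single_zero, Matrix.single_zero, add_zero, sub_zero, Matrix.fromBlocks_one]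

theorem xX_mul (i : Fin m) (s t : F) : xX i s * xX i t = xX i (s + t) := by
  apply Subtype.ext
  show (xX i s).1 * (xX i t).1 = (xX i (s + t)).1
  rw [xX_val, xX_val, xX_val, Matrix.fromBlocks_multiply]
  congr 1
  · simp
  · rw [Matrix.one_mul, Matrix.mul_one, Matrix.single_add, add_comm]
  · simp
  · simp

theorem xX_zero (i : Fin m) : xX i (0 : F) = 1 := by
  apply Subtype.ext
  show (xX i (0 : F)).1 = 1
  rw [xX_val, Matrix.single_zero, Matrix.fromBlocks_one]

/-! ### the simple roots -/

/-- the root elements of the `j`-th simple root: short (`e_j - e_{j+1}`) for `j + 1 < m`, long (`2 e_{m-1}`)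
for `j = m - 1` -/
def xs (j : Fin m) (t : F) : ↥(symplecticGroup (Fin m) F) :=
  if h : j.val + 1 < m then xL j ⟨j.val + 1, h⟩ (by intro e; have := congrArg Fin.val e; simp at this) t
  else xX j t

/-- the representative of the `j`-th distinguished generator of the Weyl group -/
def ss (j : Fin m) : ↥(symplecticGroup (Fin m) F) :=
  if h : j.val + 1 < m then wL j ⟨j.val + 1, h⟩ else wX j

theorem xs_mul (j : Fin m) (s t : F) : xs j s * xs j t = xs j (s + t) := by
  unfold xs
  split_ifs with h
  · exact xL_mul _ _ _ s t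
  · exact xX_mul j s t

theorem xs_zero (j : Fin m) : xs j (0 : F) = 1 := by
  unfold xs
  split_ifs with h
  · exact xL_zero _ _ _
  · exact xX_zero j

theorem xs_inv (j : Fin m) (t : F) : (xs j t)⁻¹ = xs j (-t) := by
  rw [inv_eq_iff_mul_eq_one, xs_mul, add_neg_cancel, xs_zero]

/-- the `j`-th simple root subgroup -/
def Us (j : Fin m) : Subgroup ↥(symplecticGroup (Fin m) F) where
  carrier := Set.range (xs (F := F) j)
  mul_mem' := by
    rintro _ _ ⟨s, rfl⟩ ⟨t, rfl⟩
    exact ⟨s + t, (xs_mul j s t).symm⟩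
  one_mem' := ⟨0, xs_zero j⟩
  inv_mem' := by
    rintro _ ⟨t, rfl⟩
    exact ⟨-t, (xs_inv j t).symm⟩

theorem mem_Us {j : Fin m} {g : ↥(symplecticGroup (Fin m) F)} : g ∈ Us j ↔ ∃ t : F, xs j t = g := Iff.rfl

variable (m F)

/-- the group `N`: generated by the representatives of the distinguished generators and the diagonal elements -/
def Nsp : Subgroup ↥(symplecticGroup (Fin m) F) :=
  Subgroup.closure (Set.range (ss (m := m) (F := F))) ⊔ Tsp m F

end Cfsg.Agent.Lib.Helper68_StSpDefs
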