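import Mathlib
import Cfsg.Agent.Lib.Helper68_StSpDefs
import Cfsg.Agent.Lib.Helper44_SpUT

/-!
# S2545 package CARDB (helper68's market `stsp_packages`): `|B| = |T| q^(m²)` for the Borel subgroup of
`Sp_{2m}(F)`, through `B = T ⋉ U` with `U = USp m F` (helper44).
-/

set_option autoImplicit false
set_option linter.unusedVariables false
set_option linter.unusedSectionVars false

namespace Cfsg.Agent.Lib.Helper2_StSp_CARDB

open Matrix Cfsg.Agent.Lib.Helper68_MatGrp Cfsg.Agent.Lib.Helper5_SpPerfect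
  Cfsg.Agent.Lib.Helper68_StSpDefs Cfsg.Agent.Lib.Helper13_SympTrans
  Cfsg.Agent.Lib.Helper44_SpUT Cfsg.Agent.Lib.Helper44_PSLnUT

variable {m : ℕ} {F : Type*} [Field F]

/-- the lower-left block of an element of `B` vanishes -/
theorem toBlocks21_of_mem_Bsp {b : ↥(symplecticGroup (Fin m) F)} (hb : b ∈ Bsp m F) :
    b.1.toBlocks₂₁ = 0 := by
  ext i j
  show b.1 (Sum.inr i) (Sum.inl j) = 0
  apply mem_Bsp.1 hb
  simp only [ht_inl, ht_inr]
  have := i.2
  have := j.2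
  omega

/-- the lower-right block of an element with vanishing lower-left block -/
theorem toBlocks22_eq {g : ↥(symplecticGroup (Fin m) F)} (h : g.1.toBlocks₂₁ = 0) :
    g.1.toBlocks₂₂ = ((g.1.toBlocks₁₁)⁻¹)ᵀ := by
  obtain ⟨h1, _⟩ := block_data h
  rw [Matrix.transpose_nonsing_inv]
  exact (Matrix.inv_eq_left_inv (mul_eq_one_comm.mp h1)).symm

theorem USp_le_Bsp : USp m F ≤ Bsp m F := by
  intro g hg
  obtain ⟨h21, hUT⟩ := hg
  rw [mem_Bsp]
  rintro (i | i) (j | j) hlt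
  · simp only [ht_inl] at hlt
    exact hUT.1 i j (Fin.lt_def.mpr hlt)
  · simp only [ht_inl, ht_inr] at hlt
    have := i.2
    have := j.2
    omega
  · show g.1.toBlocks₂₁ i j = 0
    rw [h21]; rfl
  · simp only [ht_inr] at hlt
    have hij : i < j := by
      rw [Fin.lt_def]
      have := i.2
      have := j.2
      omega
    show g.1.toBlocks₂₂ i j = 0
    rw [toBlocks22_eq h21, Matrix.transpose_apply]
    exact hUT.inv.1 j i hij

theorem Tsp_inf_USp : Tsp m F ⊓ USp m F = ⊥ := by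
  rw [eq_bot_iff]
  rintro g ⟨hT, hU⟩
  rw [Subgroup.mem_bot]
  apply Subtype.ext
  show g.1 = 1
  have hT' := mem_Tsp.1 hT
  obtain ⟨h21, hUT⟩ := hU
  ext a b
  by_cases hab : a = b
  · subst hab
    rw [Matrix.one_apply_eq]
    rcases a with i | i
    · exact hUT.2 i
    · show g.1.toBlocks₂₂ i i = 1
      rw [toBlocks22_eq h21, Matrix.transpose_apply]
      exact hUT.inv.2 i
  · rw [Matrix.one_apply_ne hab]
    exact hT' a b hab

/-- the diagonal part of an element of `B` -/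
theorem exists_Tsp_mul {b : ↥(symplecticGroup (Fin m) F)} (hb : b ∈ Bsp m F) :
    ∃ t ∈ Tsp m F, t⁻¹ * b ∈ USp m F := by
  classical
  have h21 := toBlocks21_of_mem_Bsp hb
  obtain ⟨hAD, _⟩ := block_data h21
  set A := b.1.toBlocks₁₁ with hA
  have hAup : ∀ i j : Fin m, j < i → A i j = 0 := by
    intro i j hji
    show b.1 (Sum.inl i) (Sum.inl j) = 0
    apply mem_Bsp.1 hb
    simp only [ht_inl]
    exact Fin.lt_def.mp hji
  have hdet : A.det ≠ 0 := by
    intro h0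
    have := congrArg Matrix.det hAD
    rw [Matrix.det_mul, Matrix.det_transpose, h0, zero_mul, Matrix.det_one] at this
    exact zero_ne_one this
  have hdiag : ∀ i, A i i ≠ 0 := by
    intro i h0
    apply hdet
    rw [Matrix.det_of_isUpperTriangular (M := A) (fun i j hij => hAup i j hij)]
    exact Finset.prod_eq_zero (Finset.mem_univ i) h0
  set Δ : Matrix (Fin m) (Fin m) F := Matrix.diagonal (fun i => A i i) with hΔ
  set Δ' : Matrix (Fin m) (Fin m) F := Matrix.diagonal (fun i => (A i i)⁻¹) with hΔ'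
  have h1 : Δ * Δ' = 1 := by
    rw [hΔ, hΔ', Matrix.diagonal_mul_diagonal]
    rw [← Matrix.diagonal_one]
    congr 1
    funext i
    exact mul_inv_cancel₀ (hdiag i)
  have h2 : Δ' * Δ = 1 := mul_eq_one_comm.mp h1
  have hinv : (Lg Δ Δ' h1)⁻¹ = Lg Δ' Δ h2 := by
    apply inv_eq_of_mul_eq_one_right
    apply Subtype.ext
    show Lmat Δ Δ' * Lmat Δ' Δ = 1
    unfold Lmat
    rw [Matrix.fromBlocks_multiply]
    simp only [Matrix.mul_zero, Matrix.zero_mul, add_zero, zero_add]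
    rw [h1, ← Matrix.transpose_mul, h1, Matrix.transpose_one, Matrix.fromBlocks_one]
  refine ⟨Lg Δ Δ' h1, ?_, ?_⟩
  · rw [mem_Tsp]
    intro a c hac
    show Lmat Δ Δ' a c = 0
    unfold Lmat
    rcases a with i | i <;> rcases c with j | j
    · rw [Matrix.fromBlocks_apply₁₁, hΔ]
      exact Matrix.diagonal_apply_ne _ (fun h => hac (by rw [h]))
    · rfl
    · rfl
    · rw [Matrix.fromBlocks_apply₂₂, Matrix.transpose_apply, hΔ']
      exact Matrix.diagonal_apply_ne _ (fun h => hac (by rw [h]))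
  · rw [hinv]
    have hmul : ((Lg Δ' Δ h2 * b : ↥(symplecticGroup (Fin m) F)) :
        Matrix (Fin m ⊕ Fin m) (Fin m ⊕ Fin m) F) =
        fromBlocks (Δ' * A) (Δ' * b.1.toBlocks₁₂) 0 (Δᵀ * b.1.toBlocks₂₂) := by
      show Lmat Δ' Δ * b.1 = _
      conv_lhs => rw [coe_eq_fromBlocks b, h21]
      unfold Lmat
      rw [Matrix.fromBlocks_multiply]
      simp only [Matrix.mul_zero, Matrix.zero_mul, add_zero, zero_add]
      rfl
    refine ⟨?_, ?_, ?_⟩
    · show ((Lg Δ' Δ h2 * b : ↥(symplecticGroup (Fin m) F)) :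
        Matrix (Fin m ⊕ Fin m) (Fin m ⊕ Fin m) F).toBlocks₂₁ = 0
      rw [hmul, Matrix.toBlocks_fromBlocks₂₁]
    · intro i j hji
      show ((Lg Δ' Δ h2 * b : ↥(symplecticGroup (Fin m) F)) :
        Matrix (Fin m ⊕ Fin m) (Fin m ⊕ Fin m) F).toBlocks₁₁ i j = 0
      rw [hmul, Matrix.toBlocks_fromBlocks₁₁, hΔ', Matrix.diagonal_mul, hAup i j hji, mul_zero]
    · intro i
      show ((Lg Δ' Δ h2 * b : ↥(symplecticGroup (Fin m) F)) :
        Matrix (Fin m ⊕ Fin m) (Fin m ⊕ Fin m) F).toBlocks₁₁ i i = 1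
      rw [hmul, Matrix.toBlocks_fromBlocks₁₁, hΔ', Matrix.diagonal_mul]
      exact inv_mul_cancel₀ (hdiag i)

theorem Tsp_le_Bsp : Tsp m F ≤ Bsp m F := Diag_le_UT (φ m F) (ht m)

/-- **CARDB**. -/
theorem card_Bsp [Fintype F] :
    Nat.card (Bsp m F) = Nat.card (Tsp m F) * Fintype.card F ^ (m ^ 2) := by
  rw [← card_USp (m := m) (F := F), ← Nat.card_prod]
  symm
  refine Nat.card_congr (Equiv.ofBijective
    (fun p : ↥(Tsp m F) × ↥(USp m F) =>
      (⟨p.1.1 * p.2.1, (Bsp m F).mul_mem (Tsp_le_Bsp p.1.2) (USp_le_Bsp p.2.2)⟩ : ↥(Bsp m F)))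
    ⟨?_, ?_⟩)
  · rintro ⟨⟨t, ht'⟩, ⟨u, hu⟩⟩ ⟨⟨t', ht''⟩, ⟨u', hu'⟩⟩ h
    have h0 : t * u = t' * u' := congrArg Subtype.val h
    have h1 : t'⁻¹ * t = u' * u⁻¹ := by
      calc t'⁻¹ * t = t'⁻¹ * (t * u) * u⁻¹ := by group
        _ = t'⁻¹ * (t' * u') * u⁻¹ := by rw [h0]
        _ = u' * u⁻¹ := by group
    have h2 : t'⁻¹ * t ∈ Tsp m F ⊓ USp m F :=
      ⟨(Tsp m F).mul_mem ((Tsp m F).inv_mem ht'') ht',
        by rw [h1]; exact (USp m F).mul_mem hu' ((USp m F).inv_mem hu)⟩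
    rw [Tsp_inf_USp, Subgroup.mem_bot] at h2
    have ht : t = t' := by
      calc t = t' * (t'⁻¹ * t) := by group
        _ = t' := by rw [h2, mul_one]
    subst ht
    have hu2 : u = u' := mul_left_cancel h0
    subst hu2
    rfl
  · rintro ⟨b, hb⟩
    obtain ⟨t, ht', hu⟩ := exists_Tsp_mul hb
    refine ⟨(⟨t, ht'⟩, ⟨t⁻¹ * b, hu⟩), ?_⟩
    apply Subtype.ext
    show t * (t⁻¹ * b) = b
    group

end Cfsg.Agent.Lib.Helper2_StSp_CARDB
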