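/-
S2545 (Steinberg character of `PSp_2m(q)`), package GENB (architect helper68):
every non-zero vector is `b (α e_a)` with `b` in the Borel subgroup `Bsp m F`.
-/
import Mathlib
import Cfsg.Agent.Lib.Helper68_StSpDefs
import Cfsg.Agent.Lib.Helper44_SpUT

set_option autoImplicit false

namespace Cfsg.Agent.Lib.Helper63_StSp_GENB

open Matrix Cfsg.Agent.Lib.Helper68_MatGrp Cfsg.Agent.Lib.Helper5_SpPerfect
  Cfsg.Agent.Lib.Helper68_StSpDefs Cfsg.Agent.Lib.Helper13_SympTrans

variable {m : ℕ} {F : Type*} [Field F]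

/-- every `Xg S` is upper triangular -/
theorem Xg_mem_Bsp (S : Matrix (Fin m) (Fin m) F) (hS : Sᵀ = S) : Xg S hS ∈ Bsp m F := by
  rw [mem_Bsp]
  intro a b hab
  show Xmat S a b = 0
  unfold Xmat
  rcases a with r | r <;> rcases b with s | s
  · simp only [ht_inl] at hab
    rw [fromBlocks_apply₁₁, Matrix.one_apply_ne (by intro e; subst e; omega)]
  · exfalso
    simp only [ht_inl, ht_inr] at hab
    have := r.2; have := s.2
    omega
  · rw [fromBlocks_apply₂₁]; rfl
  · simp only [ht_inr] at hab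
    rw [fromBlocks_apply₂₂, Matrix.one_apply_ne (by intro e; subst e; omega)]

/-- `Lg A A'` with `A`, `A'` upper triangular is upper triangular -/
theorem Lg_mem_Bsp (A A' : Matrix (Fin m) (Fin m) F) (h : A * A' = 1)
    (hA : ∀ r s : Fin m, s < r → A r s = 0) (hA' : ∀ r s : Fin m, s < r → A' r s = 0) :
    Lg A A' h ∈ Bsp m F := by
  rw [mem_Bsp]
  intro a b hab
  show Lmat A A' a b = 0
  unfold Lmat
  rcases a with r | r <;> rcases b with s | s
  · simp only [ht_inl] at hab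
    rw [fromBlocks_apply₁₁]
    exact hA r s hab
  · rw [fromBlocks_apply₁₂]; rfl
  · rw [fromBlocks_apply₂₁]; rfl
  · simp only [ht_inr] at hab
    rw [fromBlocks_apply₂₂, transpose_apply]
    refine hA' s r ?_
    have := r.2; have := s.2
    show r.val < s.val
    omega

theorem Lg_mulVec (A A' : Matrix (Fin m) (Fin m) F) (h : A * A' = 1) (x y : Fin m → F) :
    (Lg A A' h).1 *ᵥ Sum.elim x y = Sum.elim (A *ᵥ x) (A'ᵀ *ᵥ y) := by
  show Lmat A A' *ᵥ _ = _
  unfold Lmat
  rw [fromBlocks_mulVec, Sum.elim_comp_inl, Sum.elim_comp_inr, zero_mulVec, zero_mulVec, add_zero,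
    zero_add]

theorem Xg_mulVec (S : Matrix (Fin m) (Fin m) F) (hS : Sᵀ = S) (x y : Fin m → F) :
    (Xg S hS).1 *ᵥ Sum.elim x y = Sum.elim (x + S *ᵥ y) y := by
  show Xmat S *ᵥ _ = _
  unfold Xmat
  rw [fromBlocks_mulVec, Sum.elim_comp_inl, Sum.elim_comp_inr, zero_mulVec, one_mulVec, one_mulVec,
    zero_add]

theorem one_add_mul_one_sub {M : Matrix (Fin m) (Fin m) F} (hM : M * M = 0) :
    (1 + M) * (1 - M) = 1 := by
  rw [Matrix.add_mul, Matrix.mul_sub, Matrix.mul_sub, Matrix.one_mul, Matrix.mul_one, Matrix.one_mul,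
    hM]
  abel

theorem one_sub_mul_one_add {M : Matrix (Fin m) (Fin m) F} (hM : M * M = 0) :
    (1 - M) * (1 + M) = 1 := by
  rw [Matrix.sub_mul, Matrix.mul_add, Matrix.mul_add, Matrix.one_mul, Matrix.mul_one, Matrix.one_mul,
    hM]
  abel

/-- the case where the `f`-part of `w` vanishes -/
theorem genB_inl (w : Fin m ⊕ Fin m → F) (hy : ∀ k, w (Sum.inr k) = 0) (hw : w ≠ 0) :
    ∃ b ∈ Bsp m F, ∃ a : Fin m ⊕ Fin m, ∃ α : F, b.1 *ᵥ (Pi.single a α) = w := by
  classical
  have hex : ∃ i, w (Sum.inl i) ≠ 0 := by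
    by_contra hcon
    push Not at hcon
    apply hw
    funext a
    rcases a with i | i
    · exact hcon i
    · exact hy i
  obtain ⟨i, hi, hmax⟩ : ∃ i, w (Sum.inl i) ≠ 0 ∧ ∀ k, i < k → w (Sum.inl k) = 0 := by
    obtain ⟨i0, hi0⟩ := hex
    have hne : (Finset.univ.filter (fun i : Fin m => w (Sum.inl i) ≠ 0)).Nonempty :=
      ⟨i0, Finset.mem_filter.mpr ⟨Finset.mem_univ _, hi0⟩⟩
    obtain ⟨i, hi, hmx⟩ := Finset.exists_max_image _ (fun i : Fin m => i) hne
    refine ⟨i, (Finset.mem_filter.mp hi).2, fun k hk => ?_⟩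
    by_contra hk0
    have := hmx k (Finset.mem_filter.mpr ⟨Finset.mem_univ _, hk0⟩)
    exact absurd hk (not_lt.mpr this)
  set α : F := w (Sum.inl i) with hα
  let M : Matrix (Fin m) (Fin m) F :=
    Matrix.of fun r c => if c = i ∧ r < i then w (Sum.inl r) / α else 0
  have hMa : ∀ r c, M r c = if c = i ∧ r < i then w (Sum.inl r) / α else 0 := fun r c => rfl
  have hMM : M * M = 0 := by
    ext r c
    rw [Matrix.mul_apply, Matrix.zero_apply]
    apply Finset.sum_eq_zero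
    intro k _
    by_cases hk : k = i
    · rw [hMa k c, if_neg (by rintro ⟨_, h2⟩; rw [hk] at h2; exact lt_irrefl _ h2), mul_zero]
    · rw [hMa r k, if_neg (by rintro ⟨h1, _⟩; exact hk h1), zero_mul]
  have h : (1 + M) * (1 - M) = 1 := one_add_mul_one_sub hMM
  refine ⟨Lg (1 + M) (1 - M) h, Lg_mem_Bsp _ _ h ?_ ?_, Sum.inl i, α, ?_⟩
  · intro r s hsr
    rw [Matrix.add_apply, Matrix.one_apply_ne (ne_of_gt hsr), hMa, if_neg, add_zero]
    rintro ⟨h1, h2⟩
    rw [h1] at hsr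
    exact lt_asymm hsr h2
  · intro r s hsr
    rw [Matrix.sub_apply, Matrix.one_apply_ne (ne_of_gt hsr), hMa, if_neg, sub_zero]
    rintro ⟨h1, h2⟩
    rw [h1] at hsr
    exact lt_asymm hsr h2
  · rw [← Sum.elim_single_zero, Lg_mulVec]
    funext a
    rcases a with r | r
    · rw [Sum.elim_inl, mulVec_single]
      show (1 + M) r i * α = w (Sum.inl r)
      rw [Matrix.add_apply, hMa]
      rcases lt_trichotomy r i with hlt | heq | hgt
      · rw [Matrix.one_apply_ne (ne_of_lt hlt), if_pos ⟨rfl, hlt⟩, zero_add, div_mul_cancel₀ _ hi]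
      · rw [heq, Matrix.one_apply_eq, if_neg (by rintro ⟨_, h2⟩; exact lt_irrefl _ h2), add_zero,
          one_mul]
      · rw [Matrix.one_apply_ne (ne_of_gt hgt), if_neg (by rintro ⟨_, h2⟩; exact lt_asymm hgt h2),
          add_zero, zero_mul, hmax r hgt]
    · rw [Sum.elim_inr, mulVec_zero, hy r]
      rfl

/-- the case where the `f`-part of `w` does not vanish -/
theorem genB_inr (w : Fin m ⊕ Fin m → F) (hex : ∃ k, w (Sum.inr k) ≠ 0) :
    ∃ b ∈ Bsp m F, ∃ a : Fin m ⊕ Fin m, ∃ α : F, b.1 *ᵥ (Pi.single a α) = w := by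
  classical
  obtain ⟨i, hi, hmin⟩ : ∃ i, w (Sum.inr i) ≠ 0 ∧ ∀ k, k < i → w (Sum.inr k) = 0 := by
    obtain ⟨i0, hi0⟩ := hex
    have hne : (Finset.univ.filter (fun i : Fin m => w (Sum.inr i) ≠ 0)).Nonempty :=
      ⟨i0, Finset.mem_filter.mpr ⟨Finset.mem_univ _, hi0⟩⟩
    obtain ⟨i, hi, hmn⟩ := Finset.exists_min_image _ (fun i : Fin m => i) hne
    refine ⟨i, (Finset.mem_filter.mp hi).2, fun k hk => ?_⟩
    by_contra hk0
    have := hmn k (Finset.mem_filter.mpr ⟨Finset.mem_univ _, hk0⟩)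
    exact absurd hk (not_lt.mpr this)
  set α : F := w (Sum.inr i) with hα
  let N : Matrix (Fin m) (Fin m) F :=
    Matrix.of fun r c => if r = i ∧ i < c then w (Sum.inr c) / α else 0
  have hNa : ∀ r c, N r c = if r = i ∧ i < c then w (Sum.inr c) / α else 0 := fun r c => rfl
  have hNN : N * N = 0 := by
    ext r c
    rw [Matrix.mul_apply, Matrix.zero_apply]
    apply Finset.sum_eq_zero
    intro k _
    by_cases hk : k = i
    · rw [hNa r k, if_neg (by rintro ⟨_, h2⟩; rw [hk] at h2; exact lt_irrefl _ h2), zero_mul]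
    · rw [hNa k c, if_neg (by rintro ⟨h1, _⟩; exact hk h1), mul_zero]
  have h : (1 - N) * (1 + N) = 1 := one_sub_mul_one_add hNN
  let x' : Fin m → F := (1 + N) *ᵥ (w ∘ Sum.inl)
  let S : Matrix (Fin m) (Fin m) F :=
    Matrix.of fun r c => if c = i then x' r / α else if r = i then x' c / α else 0
  have hSa : ∀ r c, S r c = if c = i then x' r / α else if r = i then x' c / α else 0 :=
    fun r c => rfl
  have hS : Sᵀ = S := by
    ext r c
    rw [transpose_apply, hSa, hSa]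
    by_cases hr : r = i
    · by_cases hc : c = i
      · rw [hr, hc]
      · rw [if_pos hr, if_neg hc, if_pos hr]
    · by_cases hc : c = i
      · rw [if_neg hr, if_pos hc, if_pos hc]
      · rw [if_neg hr, if_neg hc, if_neg hc, if_neg hr]
  have hmul : (Lg (1 - N) (1 + N) h * Xg S hS).1 = (Lg (1 - N) (1 + N) h).1 * (Xg S hS).1 := rfl
  refine ⟨Lg (1 - N) (1 + N) h * Xg S hS,
    mul_mem (Lg_mem_Bsp _ _ h ?_ ?_) (Xg_mem_Bsp S hS), Sum.inr i, α, ?_⟩
  · intro r s hsr
    rw [Matrix.sub_apply, Matrix.one_apply_ne (ne_of_gt hsr), hNa, if_neg, sub_zero]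
    rintro ⟨h1, h2⟩
    rw [h1] at hsr
    exact lt_asymm hsr h2
  · intro r s hsr
    rw [Matrix.add_apply, Matrix.one_apply_ne (ne_of_gt hsr), hNa, if_neg, add_zero]
    rintro ⟨h1, h2⟩
    rw [h1] at hsr
    exact lt_asymm hsr h2
  · have hSx : S *ᵥ Pi.single i α = x' := by
      funext r
      rw [mulVec_single]
      show S r i * α = x' r
      rw [hSa, if_pos rfl, div_mul_cancel₀ _ hi]
    rw [hmul, ← mulVec_mulVec, ← Sum.elim_zero_single, Xg_mulVec, Lg_mulVec, zero_add, hSx]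
    funext a
    rcases a with r | r
    · rw [Sum.elim_inl]
      show ((1 - N) *ᵥ ((1 + N) *ᵥ (w ∘ Sum.inl))) r = w (Sum.inl r)
      rw [mulVec_mulVec, h, one_mulVec]
      rfl
    · rw [Sum.elim_inr, mulVec_single]
      show (1 + N)ᵀ r i * α = w (Sum.inr r)
      rw [transpose_apply, Matrix.add_apply, hNa]
      rcases lt_trichotomy r i with hlt | heq | hgt
      · rw [Matrix.one_apply_ne (ne_of_gt hlt), if_neg (by rintro ⟨_, h2⟩; exact lt_asymm hlt h2),
          add_zero, zero_mul, hmin r hlt]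
      · rw [heq, Matrix.one_apply_eq, if_neg (by rintro ⟨_, h2⟩; exact lt_irrefl _ h2), add_zero,
          one_mul]
      · rw [Matrix.one_apply_ne (ne_of_lt hgt), if_pos ⟨rfl, hgt⟩, zero_add, div_mul_cancel₀ _ hi]

/-- GENB: every non-zero vector is `b (α e_a)` with `b ∈ B`. -/
theorem genB (w : Fin m ⊕ Fin m → F) (hw : w ≠ 0) :
    ∃ b ∈ Bsp m F, ∃ a : Fin m ⊕ Fin m, ∃ α : F, b.1 *ᵥ (Pi.single a α) = w := by
  by_cases hex : ∃ k, w (Sum.inr k) ≠ 0
  · exact genB_inr w hex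
  · push Not at hex
    exact genB_inl w hex hw

end Cfsg.Agent.Lib.Helper63_StSp_GENB
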