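/-
Package R3S of helper68's S2545 market: the rank one relation for the short root elements of `Sp_{2m}(F)`,
`w x(t) w⁻¹ = x(t⁻¹) h w x(t⁻¹)`.
-/
import Mathlib
import Cfsg.Agent.Lib.Helper68_StSpDefs
import Cfsg.Agent.Lib.Helper44_SpUT

set_option autoImplicit false

namespace Cfsg.Agent.Lib.Helper64_StSp_R3S

open Matrix Cfsg.Agent.Lib.Helper68_MatGrp Cfsg.Agent.Lib.Helper5_SpPerfect
  Cfsg.Agent.Lib.Helper68_StSpDefs Cfsg.Agent.Lib.Helper13_SympTrans

variable {m : ℕ} {F : Type*} [Field F]

theorem swapMat_eq (i k : Fin m) (hik : i ≠ k) :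
    (swapMat i k : Matrix (Fin m) (Fin m) F) =
      1 - single i i 1 - single k k 1 + single i k 1 + single k i 1 := by
  ext a b
  rw [swapMat_apply]
  simp only [Matrix.add_apply, Matrix.sub_apply, Matrix.one_apply, Matrix.single_apply]
  by_cases hbi : b = i
  · subst hbi
    rw [Equiv.swap_apply_left]
    by_cases hak : a = k
    · subst hak
      simp [hik, Ne.symm hik]
    · by_cases hab : a = b
      · subst hab
        simp [hik, Ne.symm hik]
      · simp [hik, Ne.symm hik, hak, hab, Ne.symm hak, Ne.symm hab]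
  · by_cases hbk : b = k
    · subst hbk
      rw [Equiv.swap_apply_right]
      by_cases hai : a = i
      · subst hai
        simp [hik, Ne.symm hik]
      · by_cases hab : a = b
        · subst hab
          simp [hik, Ne.symm hik]
        · simp [hik, Ne.symm hik, hai, hab, Ne.symm hai, Ne.symm hab]
    · rw [Equiv.swap_apply_of_ne_of_ne hbi hbk]
      simp [hbi, hbk, Ne.symm hbi, Ne.symm hbk]

theorem wL_mul_self (i k : Fin m) : (wL i k : ↥(symplecticGroup (Fin m) F)) * wL i k = 1 := by
  apply Subtype.ext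
  show (wL i k : ↥(symplecticGroup (Fin m) F)).1 * (wL i k : ↥(symplecticGroup (Fin m) F)).1 = 1
  rw [wL_val, Matrix.fromBlocks_multiply]
  simp only [swapMat_mul_self, Matrix.mul_zero, Matrix.zero_mul, add_zero, zero_add, Matrix.fromBlocks_one]

theorem wL_inv (i k : Fin m) : (wL i k : ↥(symplecticGroup (Fin m) F))⁻¹ = wL i k :=
  inv_eq_of_mul_eq_one_right (wL_mul_self i k)

theorem diag_aux (i k : Fin m) (hik : i ≠ k) (t : F) (ht : t ≠ 0) :
    (1 + single i i (-t⁻¹ - 1) + single k k (t - 1) : Matrix (Fin m) (Fin m) F) *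
      (1 + single i i (-t - 1) + single k k (t⁻¹ - 1)) = 1 := by
  obtain ⟨Eii, hEii⟩ : ∃ E : Matrix (Fin m) (Fin m) F, ∀ c : F, single i i c = c • E :=
    ⟨single i i 1, fun c => by rw [Matrix.smul_single, smul_eq_mul, mul_one]⟩
  obtain ⟨Ekk, hEkk⟩ : ∃ E : Matrix (Fin m) (Fin m) F, ∀ c : F, single k k c = c • E :=
    ⟨single k k 1, fun c => by rw [Matrix.smul_single, smul_eq_mul, mul_one]⟩
  simp only [Matrix.mul_add, Matrix.add_mul, Matrix.mul_one, Matrix.one_mul,
    Matrix.single_mul_single_same, Matrix.single_mul_single_of_ne _ _ _ _ hik,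
    Matrix.single_mul_single_of_ne _ _ _ _ hik.symm, add_zero, zero_add]
  simp only [hEii, hEkk]
  match_scalars <;> field_simp <;> ring

theorem r3S (i k : Fin m) (hlt : i < k) (hik : i ≠ k) (t : F) (ht : t ≠ 0) :
    ∃ b ∈ Bsp m F, ∃ t' : F, wL i k * xL i k hik t * (wL i k)⁻¹ = b * wL i k * xL i k hik t' := by
  refine ⟨xL i k hik t⁻¹ * Lg (1 + single i i (-t⁻¹ - 1) + single k k (t - 1))
    (1 + single i i (-t - 1) + single k k (t⁻¹ - 1)) (diag_aux i k hik t ht), ?_, t⁻¹, ?_⟩
  · apply Subgroup.mul_mem
    · rw [mem_Bsp]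
      intro a b hab
      rw [xL_val]
      rcases a with a | a <;> rcases b with b | b
      · simp only [Matrix.fromBlocks_apply₁₁, Matrix.add_apply, Matrix.one_apply, Matrix.single_apply]
        simp only [ht_inl] at hab
        rw [if_neg, if_neg, add_zero]
        · rintro ⟨rfl, rfl⟩
          have : i.val < k.val := hlt
          omega
        · rintro rfl
          exact lt_irrefl _ hab
      · simp only [Matrix.fromBlocks_apply₁₂, Matrix.zero_apply]
      · simp only [Matrix.fromBlocks_apply₂₁, Matrix.zero_apply]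
      · simp only [Matrix.fromBlocks_apply₂₂, Matrix.sub_apply, Matrix.one_apply, Matrix.single_apply]
        simp only [ht_inr] at hab
        rw [if_neg, if_neg, sub_zero]
        · rintro ⟨rfl, rfl⟩
          have : i.val < k.val := hlt
          have := k.2
          omega
        · rintro rfl
          exact lt_irrefl _ hab
    · rw [mem_Bsp]
      intro a b hab
      show Lmat _ _ a b = 0
      unfold Lmat
      rcases a with a | a <;> rcases b with b | b
      · simp only [Matrix.fromBlocks_apply₁₁, Matrix.add_apply, Matrix.one_apply, Matrix.single_apply]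
        have hne : a ≠ b := by
          rintro rfl
          exact lt_irrefl _ hab
        rw [if_neg hne, if_neg, if_neg, add_zero, add_zero]
        · rintro ⟨rfl, rfl⟩
          exact hne rfl
        · rintro ⟨rfl, rfl⟩
          exact hne rfl
      · simp only [Matrix.fromBlocks_apply₁₂, Matrix.zero_apply]
      · simp only [Matrix.fromBlocks_apply₂₁, Matrix.zero_apply]
      · simp only [Matrix.fromBlocks_apply₂₂, Matrix.transpose_apply, Matrix.add_apply, Matrix.one_apply,
          Matrix.single_apply]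
        have hne : b ≠ a := by
          rintro rfl
          exact lt_irrefl _ hab
        rw [if_neg hne, if_neg, if_neg, add_zero, add_zero]
        · rintro ⟨rfl, rfl⟩
          exact hne rfl
        · rintro ⟨rfl, rfl⟩
          exact hne rfl
  · rw [wL_inv]
    apply Subtype.ext
    show (wL i k : ↥(symplecticGroup (Fin m) F)).1 * (xL i k hik t).1 *
        (wL i k : ↥(symplecticGroup (Fin m) F)).1 =
      (xL i k hik t⁻¹).1 * (Lmat (1 + single i i (-t⁻¹ - 1) + single k k (t - 1))
        (1 + single i i (-t - 1) + single k k (t⁻¹ - 1))) *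
        (wL i k : ↥(symplecticGroup (Fin m) F)).1 * (xL i k hik t⁻¹).1
    rw [wL_val, xL_val, xL_val, swapMat_eq i k hik]
    unfold Lmat
    simp only [Matrix.transpose_add, Matrix.transpose_one, Matrix.transpose_single]
    obtain ⟨Eii, hEii⟩ : ∃ E : Matrix (Fin m) (Fin m) F, ∀ c : F, single i i c = c • E :=
      ⟨single i i 1, fun c => by rw [Matrix.smul_single, smul_eq_mul, mul_one]⟩
    obtain ⟨Ekk, hEkk⟩ : ∃ E : Matrix (Fin m) (Fin m) F, ∀ c : F, single k k c = c • E :=
      ⟨single k k 1, fun c => by rw [Matrix.smul_single, smul_eq_mul, mul_one]⟩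
    obtain ⟨Eik, hEik⟩ : ∃ E : Matrix (Fin m) (Fin m) F, ∀ c : F, single i k c = c • E :=
      ⟨single i k 1, fun c => by rw [Matrix.smul_single, smul_eq_mul, mul_one]⟩
    obtain ⟨Eki, hEki⟩ : ∃ E : Matrix (Fin m) (Fin m) F, ∀ c : F, single k i c = c • E :=
      ⟨single k i 1, fun c => by rw [Matrix.smul_single, smul_eq_mul, mul_one]⟩
    simp only [Matrix.fromBlocks_multiply, Matrix.mul_zero, Matrix.zero_mul, add_zero, zero_add,
      Matrix.mul_add, Matrix.add_mul, Matrix.mul_sub, Matrix.sub_mul, Matrix.mul_one, Matrix.one_mul,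
      Matrix.single_mul_single_same, Matrix.single_mul_single_of_ne _ _ _ _ hik,
      Matrix.single_mul_single_of_ne _ _ _ _ hik.symm, sub_zero, zero_sub]
    simp only [hEii, hEkk, hEik, hEki]
    congr 1
    · match_scalars <;> field_simp <;> ring
    · match_scalars <;> field_simp <;> ring

end Cfsg.Agent.Lib.Helper64_StSp_R3S
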