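/-
Package R3X of helper68's S2545 market: the rank one relation for the long root elements of `Sp_{2m}(F)`,
`w x(t) w⁻¹ = x(-t⁻¹) h w x(-t⁻¹)`.
-/
import Mathlib
import Cfsg.Agent.Lib.Helper68_StSpDefs
import Cfsg.Agent.Lib.Helper44_SpUT

set_option autoImplicit false

namespace Cfsg.Agent.Lib.Helper64_StSp_R3X

open Matrix Cfsg.Agent.Lib.Helper68_MatGrp Cfsg.Agent.Lib.Helper5_SpPerfect
  Cfsg.Agent.Lib.Helper68_StSpDefs Cfsg.Agent.Lib.Helper13_SympTrans

variable {m : ℕ} {F : Type*} [Field F]

theorem diag_aux (i : Fin m) (t : F) (ht : t ≠ 0) :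
    (1 + single i i (-t⁻¹ - 1) : Matrix (Fin m) (Fin m) F) * (1 + single i i (-t - 1)) = 1 := by
  rw [Matrix.add_mul, Matrix.mul_add, Matrix.mul_add, Matrix.one_mul, Matrix.mul_one, Matrix.one_mul,
    Matrix.single_mul_single_same, add_assoc, ← Matrix.single_add, ← Matrix.single_add]
  have : (-t - 1 + (-t⁻¹ - 1 + (-t⁻¹ - 1) * (-t - 1)) : F) = 0 := by
    field_simp
    ring
  rw [this, Matrix.single_zero, add_zero]

theorem wX_inv_val (i : Fin m) :
    ((wX i : ↥(symplecticGroup (Fin m) F))⁻¹).1 =
      fromBlocks (1 - single i i 1) (single i i 1) (-(single i i 1)) (1 - single i i 1) := by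
  rw [Cfsg.Agent.Lib.Helper44_SpUT.coe_inv_blocks, wX_val]
  simp only [Matrix.toBlocks_fromBlocks₁₁, Matrix.toBlocks_fromBlocks₁₂, Matrix.toBlocks_fromBlocks₂₁,
    Matrix.toBlocks_fromBlocks₂₂, Matrix.transpose_sub, Matrix.transpose_one, Matrix.transpose_single,
    Matrix.transpose_neg, neg_neg]

theorem r3X (i : Fin m) (t : F) (ht : t ≠ 0) :
    ∃ b ∈ Bsp m F, ∃ t' : F, wX i * xX i t * (wX i)⁻¹ = b * wX i * xX i t' := by
  refine ⟨xX i (-t⁻¹) * Lg (1 + single i i (-t⁻¹ - 1)) (1 + single i i (-t - 1)) (diag_aux i t ht), ?_,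
    -t⁻¹, ?_⟩
  · apply Subgroup.mul_mem
    · rw [mem_Bsp]
      intro a b hab
      rw [xX_val]
      rcases a with a | a <;> rcases b with b | b
      · simp only [Matrix.fromBlocks_apply₁₁, Matrix.one_apply]
        rw [if_neg]
        rintro rfl
        exact lt_irrefl _ hab
      · simp only [Matrix.fromBlocks_apply₁₂, Matrix.single_apply]
        rw [if_neg]
        rintro ⟨rfl, rfl⟩
        simp only [ht_inl, ht_inr] at hab
        have := i.2
        omega
      · simp only [Matrix.fromBlocks_apply₂₁, Matrix.zero_apply]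
      · simp only [Matrix.fromBlocks_apply₂₂, Matrix.one_apply]
        rw [if_neg]
        rintro rfl
        exact lt_irrefl _ hab
    · rw [mem_Bsp]
      intro a b hab
      show Lmat _ _ a b = 0
      unfold Lmat
      rcases a with a | a <;> rcases b with b | b
      · simp only [Matrix.fromBlocks_apply₁₁, Matrix.add_apply, Matrix.one_apply, Matrix.single_apply]
        have hne : a ≠ b := by
          rintro rfl
          exact lt_irrefl _ hab
        rw [if_neg hne, if_neg, add_zero]
        rintro ⟨rfl, rfl⟩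
        exact hne rfl
      · simp only [Matrix.fromBlocks_apply₁₂, Matrix.zero_apply]
      · simp only [Matrix.fromBlocks_apply₂₁, Matrix.zero_apply]
      · simp only [Matrix.fromBlocks_apply₂₂, Matrix.transpose_apply, Matrix.add_apply, Matrix.one_apply,
          Matrix.single_apply]
        have hne : b ≠ a := by
          rintro rfl
          exact lt_irrefl _ hab
        rw [if_neg hne, if_neg, add_zero]
        rintro ⟨rfl, rfl⟩
        exact hne rfl
  · apply Subtype.ext
    show (wX i).1 * (xX i t).1 * ((wX i)⁻¹).1 =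
      (xX i (-t⁻¹)).1 * (Lmat (1 + single i i (-t⁻¹ - 1)) (1 + single i i (-t - 1))) * (wX i).1 *
        (xX i (-t⁻¹)).1
    rw [wX_inv_val, wX_val, xX_val, xX_val]
    unfold Lmat
    obtain ⟨E, hE, hEE⟩ : ∃ E : Matrix (Fin m) (Fin m) F, (∀ c : F, single i i c = c • E) ∧ E * E = E :=
      ⟨single i i 1, fun c => by rw [Matrix.smul_single, smul_eq_mul, mul_one], by
        rw [Matrix.single_mul_single_same, mul_one]⟩
    simp only [hE, Matrix.transpose_add, Matrix.transpose_one, Matrix.transpose_smul]
    have hET : Eᵀ = E := by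
      have := hE 1
      rw [one_smul] at this
      rw [← this, Matrix.transpose_single]
    rw [hET]
    simp only [Matrix.fromBlocks_multiply, Matrix.mul_zero, Matrix.zero_mul, add_zero, zero_add,
      Matrix.mul_one, Matrix.one_mul, Matrix.mul_add, Matrix.add_mul, Matrix.mul_sub, Matrix.sub_mul,
      Matrix.mul_neg, Matrix.neg_mul, Matrix.smul_mul, Matrix.mul_smul, hEE, smul_smul]
    have h1 : t * t⁻¹ = 1 := mul_inv_cancel₀ ht
    have h2 : t⁻¹ * t = 1 := inv_mul_cancel₀ ht
    congr 1
    · match_scalars <;> field_simp <;> ring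
    · match_scalars <;> field_simp <;> ring
    · match_scalars <;> field_simp <;> ring
    · match_scalars <;> field_simp <;> ring

end Cfsg.Agent.Lib.Helper64_StSp_R3X
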