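import Mathlib
import Cfsg.Agent.Lib.Helper68_StSpDefs

set_option autoImplicit false

namespace Cfsg.Agent.Lib.Helper68_StSp_MONOW

open Matrix Cfsg.Agent.Lib.Helper68_MatGrp Cfsg.Agent.Lib.Helper5_SpPerfect
  Cfsg.Agent.Lib.Helper68_StSpDefs

variable {m : ℕ} {F : Type*} [Field F]

theorem wL_isMono (i k : Fin m) :
    IsMono (φ m F) (wL i k) (Equiv.sumCongr (Equiv.swap i k) (Equiv.swap i k)) := by
  intro a b hab
  show (wL i k : ↥(symplecticGroup (Fin m) F)).1 a b = 0
  rw [wL_val]
  rcases a with a | a <;> rcases b with b | b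
  · have hab' : a ≠ Equiv.swap i k b := fun h => hab (by rw [h]; rfl)
    rw [Matrix.fromBlocks_apply₁₁, swapMat_apply, if_neg hab']
  · rfl
  · rfl
  · have hab' : a ≠ Equiv.swap i k b := fun h => hab (by rw [h]; rfl)
    rw [Matrix.fromBlocks_apply₂₂, swapMat_apply, if_neg hab']

theorem wX_isMono (i : Fin m) :
    IsMono (φ m F) (wX i) (Equiv.swap (Sum.inl i) (Sum.inr i)) := by
  intro a b hab
  show (wX i : ↥(symplecticGroup (Fin m) F)).1 a b = 0
  rw [wX_val]
  rcases a with a | a <;> rcases b with b | b
  · rw [Matrix.fromBlocks_apply₁₁, Matrix.sub_apply, Matrix.one_apply, Matrix.single_apply]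
    by_cases hbi : b = i
    · subst hbi
      by_cases hab' : a = b
      · subst hab'
        simp
      · have : ¬ (b = a ∧ b = b) := fun h => hab' h.1.symm
        rw [if_neg hab', if_neg this, sub_zero]
    · have hne : a ≠ b := by
        intro h
        apply hab
        rw [h, Equiv.swap_apply_of_ne_of_ne (by simpa using hbi) (by simp)]
      have : ¬ (i = a ∧ i = b) := fun h => hbi h.2.symm
      rw [if_neg hne, if_neg this, sub_zero]
  · rw [Matrix.fromBlocks_apply₁₂, Matrix.neg_apply, Matrix.single_apply]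
    have : ¬ (i = a ∧ i = b) := by
      rintro ⟨h1, h2⟩
      apply hab
      rw [← h1, ← h2, Equiv.swap_apply_right]
    rw [if_neg this, neg_zero]
  · rw [Matrix.fromBlocks_apply₂₁, Matrix.single_apply]
    have : ¬ (i = a ∧ i = b) := by
      rintro ⟨h1, h2⟩
      apply hab
      rw [← h1, ← h2, Equiv.swap_apply_left]
    rw [if_neg this]
  · rw [Matrix.fromBlocks_apply₂₂, Matrix.sub_apply, Matrix.one_apply, Matrix.single_apply]
    by_cases hbi : b = i
    · subst hbi
      by_cases hab' : a = b
      · subst hab'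
        simp
      · have : ¬ (b = a ∧ b = b) := fun h => hab' h.1.symm
        rw [if_neg hab', if_neg this, sub_zero]
    · have hne : a ≠ b := by
        intro h
        apply hab
        rw [h, Equiv.swap_apply_of_ne_of_ne (by simp) (by simpa using hbi)]
      have : ¬ (i = a ∧ i = b) := fun h => hbi h.2.symm
      rw [if_neg hne, if_neg this, sub_zero]

end Cfsg.Agent.Lib.Helper68_StSp_MONOW
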