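import Mathlib
import Cfsg.Agent.Lib.Helper68_StSpDefs
import Cfsg.Agent.Lib.Helper68_StSp_MONOW

set_option autoImplicit false

namespace Cfsg.Agent.Lib.Helper68_StSp_INJ

open Matrix Cfsg.Agent.Lib.Helper68_MatGrp Cfsg.Agent.Lib.Helper5_SpPerfect
  Cfsg.Agent.Lib.Helper68_StSpDefs

variable {m : ℕ} {F : Type*} [Field F]

/-- the permutation of the `j`-th simple reflection -/
noncomputable def σs (j : Fin m) : Equiv.Perm (Fin m ⊕ Fin m) :=
  if h : j.val + 1 < m then
    Equiv.sumCongr (Equiv.swap j ⟨j.val + 1, h⟩) (Equiv.swap j ⟨j.val + 1, h⟩)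
  else Equiv.swap (Sum.inl j) (Sum.inr j)

theorem ss_isMono (j : Fin m) : IsMono (φ m F) (ss j) (σs j) := by
  unfold ss σs
  split_ifs with h
  · exact Cfsg.Agent.Lib.Helper68_StSp_MONOW.wL_isMono _ _
  · exact Cfsg.Agent.Lib.Helper68_StSp_MONOW.wX_isMono _

theorem σs_ne (i j : Fin m) (hij : i ≠ j) : σs i (Sum.inl j) ≠ σs j (Sum.inl j) := by
  have hij' : i.val ≠ j.val := fun h => hij (Fin.ext h)
  unfold σs
  by_cases hi : i.val + 1 < m <;> by_cases hj : j.val + 1 < m
  · rw [dif_pos hi, dif_pos hj]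
    simp only [Equiv.sumCongr_apply, Sum.map_inl, Equiv.swap_apply_left]
    intro h
    have h' := Sum.inl.inj h
    rw [Equiv.swap_apply_def] at h'
    split_ifs at h' with h1 h2
    · exact hij h1.symm
    · have := congrArg Fin.val h'
      have h2' := congrArg Fin.val h2
      simp at this h2'
      omega
    · have := congrArg Fin.val h'; simp at this
  · rw [dif_pos hi, dif_neg hj]
    simp only [Equiv.sumCongr_apply, Sum.map_inl, Equiv.swap_apply_left]
    intro h
    cases h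
  · rw [dif_neg hi, dif_pos hj]
    simp only [Equiv.sumCongr_apply, Sum.map_inl, Equiv.swap_apply_left]
    rw [Equiv.swap_apply_of_ne_of_ne (by simpa using Ne.symm hij) (by simp)]
    intro h
    have h' := congrArg Fin.val (Sum.inl.inj h)
    simp at h'
  · exfalso
    have := i.isLt
    have := j.isLt
    omega

theorem ss_inj (i j : Fin m) (h : (ss i : ↥(symplecticGroup (Fin m) F))⁻¹ * ss j ∈ Bsp m F) : i = j := by
  by_contra hij
  have hmono : IsMono (φ m F) ((ss i : ↥(symplecticGroup (Fin m) F))⁻¹ * ss j) ((σs i)⁻¹ * σs j) :=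
    (ss_isMono i).inv.mul (ss_isMono j)
  have hd : (ss i : ↥(symplecticGroup (Fin m) F))⁻¹ * ss j ∈ Diag (φ m F) :=
    mem_Diag_of_mono_of_UT (φ m F) (ht m) (ht_injective m) ⟨_, hmono⟩ h
  have hfix : ∀ b, ((σs i)⁻¹ * σs j) b = b := by
    intro b
    by_contra hb
    exact hmono.ne_zero b (hd _ _ hb)
  have h1 := hfix (Sum.inl j)
  rw [Equiv.Perm.mul_apply, Equiv.Perm.inv_eq_iff_eq] at h1
  exact σs_ne i j hij h1.symm

end Cfsg.Agent.Lib.Helper68_StSp_INJ
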