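import Mathlib
import Cfsg.Agent.Lib.Helper68_StSpDefs

set_option autoImplicit false

namespace Cfsg.Agent.Lib.Helper68_StSp_JREV

open Matrix Cfsg.Agent.Lib.Helper68_MatGrp Cfsg.Agent.Lib.Helper5_SpPerfect
  Cfsg.Agent.Lib.Helper68_StSpDefs

variable {m : ℕ} {F : Type*} [Field F]

/-- `J` is monomial with permutation `Sum.swap` -/
theorem symJ_isMono : IsMono (φ m F) (SymplecticGroup.symJ (Fin m) F) (Equiv.sumComm (Fin m) (Fin m)) := by
  intro a b hab
  show (J (Fin m) F) a b = 0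
  unfold Matrix.J
  rcases a with a | a <;> rcases b with b | b
  · rfl
  · simp only [Equiv.sumComm_apply, Sum.swap_inr, ne_eq, Sum.inl.injEq] at hab
    rw [Matrix.fromBlocks_apply₁₂, Matrix.neg_apply, Matrix.one_apply_ne hab, neg_zero]
  · simp only [Equiv.sumComm_apply, Sum.swap_inl, ne_eq, Sum.inr.injEq] at hab
    rw [Matrix.fromBlocks_apply₂₁, Matrix.one_apply_ne hab]
  · rfl

end Cfsg.Agent.Lib.Helper68_StSp_JREV
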