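import Mathlib
import Cfsg.Agent.Lib.Helper68_StSpDefs

set_option autoImplicit false

namespace Cfsg.Agent.Lib.Helper68_StSp_SQ

open Matrix Cfsg.Agent.Lib.Helper68_MatGrp Cfsg.Agent.Lib.Helper5_SpPerfect
  Cfsg.Agent.Lib.Helper68_StSpDefs

variable {m : ℕ} {F : Type*} [Field F]

theorem wL_sq (i k : Fin m) : (wL i k : ↥(symplecticGroup (Fin m) F)) * wL i k = 1 := by
  apply Subtype.ext
  show (wL i k : ↥(symplecticGroup (Fin m) F)).1 * (wL i k : ↥(symplecticGroup (Fin m) F)).1 = 1
  rw [wL_val, Matrix.fromBlocks_multiply, swapMat_mul_self]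
  simp

theorem wX_sq_val (i : Fin m) :
    ((wX i : ↥(symplecticGroup (Fin m) F)) * wX i).1 =
      fromBlocks (1 - single i i 2) 0 0 (1 - single i i 2) := by
  have hE : (single i i (1 : F) : Matrix (Fin m) (Fin m) F) * single i i 1 = single i i 1 := by
    rw [Matrix.single_mul_single_same, mul_one]
  have h2 : (single i i (2 : F) : Matrix (Fin m) (Fin m) F) = single i i 1 + single i i 1 := by
    rw [← Matrix.single_add]; norm_num
  show (wX i : ↥(symplecticGroup (Fin m) F)).1 * (wX i : ↥(symplecticGroup (Fin m) F)).1 = _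
  rw [wX_val, Matrix.fromBlocks_multiply, h2]
  congr 1 <;>
  · simp only [Matrix.sub_mul, Matrix.mul_sub, Matrix.one_mul, Matrix.mul_one, Matrix.neg_mul,
      Matrix.mul_neg, hE]
    abel

theorem wX_sq (i : Fin m) : (wX i : ↥(symplecticGroup (Fin m) F)) * wX i ∈ Tsp m F := by
  intro a b hab
  show ((wX i : ↥(symplecticGroup (Fin m) F)) * wX i).1 a b = 0
  rw [wX_sq_val]
  rcases a with a | a <;> rcases b with b | b
  · have hab' : a ≠ b := fun h => hab (by rw [h])
    rw [Matrix.fromBlocks_apply₁₁, Matrix.sub_apply, Matrix.one_apply_ne hab', Matrix.single_apply]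
    split_ifs with h
    · exact absurd (h.1.symm.trans h.2) hab'
    · simp
  · rfl
  · rfl
  · have hab' : a ≠ b := fun h => hab (by rw [h])
    rw [Matrix.fromBlocks_apply₂₂, Matrix.sub_apply, Matrix.one_apply_ne hab', Matrix.single_apply]
    split_ifs with h
    · exact absurd (h.1.symm.trans h.2) hab'
    · simp

end Cfsg.Agent.Lib.Helper68_StSp_SQ
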