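import Mathlib
import Cfsg.Agent.Lib.Helper68_StSpDefs
import Cfsg.Agent.Lib.Helper68_StSp_SQ

set_option autoImplicit false

namespace Cfsg.Agent.Lib.Helper68_StSp_OPP

open Matrix Cfsg.Agent.Lib.Helper68_MatGrp Cfsg.Agent.Lib.Helper5_SpPerfect
  Cfsg.Agent.Lib.Helper68_StSpDefs

variable {m : ℕ} {F : Type*} [Field F]

theorem swapMat_mul_single (i k a b : Fin m) (t : F) :
    (swapMat i k : Matrix (Fin m) (Fin m) F) * single a b t = single (Equiv.swap i k a) b t := by
  ext c d
  rw [Matrix.mul_apply, Finset.sum_eq_single a]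
  · rw [swapMat_apply, Matrix.single_apply, Matrix.single_apply]
    by_cases hc : c = Equiv.swap i k a
    · subst hc
      by_cases hd : b = d
      · simp [hd]
      · simp [hd]
    · have h1 : ¬ (Equiv.swap i k a = c ∧ b = d) := fun h => hc h.1.symm
      rw [if_neg hc, if_neg h1, zero_mul]
  · intro e _ he
    rw [Matrix.single_apply, if_neg (fun h => he h.1.symm), mul_zero]
  · intro h; exact absurd (Finset.mem_univ _) h

theorem single_mul_swapMat (i k a b : Fin m) (t : F) :
    (single a b t : Matrix (Fin m) (Fin m) F) * swapMat i k = single a (Equiv.swap i k b) t := by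
  ext c d
  rw [Matrix.mul_apply, Finset.sum_eq_single b]
  · rw [swapMat_apply, Matrix.single_apply, Matrix.single_apply]
    by_cases hd : b = Equiv.swap i k d
    · have hd' : Equiv.swap i k b = d := by rw [hd, Equiv.swap_apply_self]
      by_cases hc : a = c
      · simp [hc, hd, hd']
      · simp [hc]
    · have h1 : ¬ (a = c ∧ Equiv.swap i k b = d) := by
        rintro ⟨-, h⟩
        apply hd
        rw [← h, Equiv.swap_apply_self]
      rw [if_neg hd, if_neg h1, mul_zero]
  · intro e _ he
    rw [Matrix.single_apply, if_neg (fun h => he h.2.symm), zero_mul]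
  · intro h; exact absurd (Finset.mem_univ _) h

theorem swapMat_conj_one_add (i k : Fin m) (t : F) :
    (swapMat i k : Matrix (Fin m) (Fin m) F) * (1 + single i k t) * swapMat i k = 1 + single k i t := by
  rw [Matrix.mul_add, Matrix.add_mul, Matrix.mul_one, swapMat_mul_self, swapMat_mul_single,
    single_mul_swapMat, Equiv.swap_apply_left, Equiv.swap_apply_right]

theorem swapMat_conj_one_sub (i k : Fin m) (t : F) :
    (swapMat i k : Matrix (Fin m) (Fin m) F) * (1 - single k i t) * swapMat i k = 1 - single i k t := by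
  rw [Matrix.mul_sub, Matrix.sub_mul, Matrix.mul_one, swapMat_mul_self, swapMat_mul_single,
    single_mul_swapMat, Equiv.swap_apply_left, Equiv.swap_apply_right]

theorem wL_inv (i k : Fin m) : (wL i k : ↥(symplecticGroup (Fin m) F))⁻¹ = wL i k :=
  inv_eq_of_mul_eq_one_right (Cfsg.Agent.Lib.Helper68_StSp_SQ.wL_sq i k)

theorem oppL' (i k : Fin m) (hik : i ≠ k) (t : F) :
    wL i k * xL i k hik t * (wL i k)⁻¹ = xL k i hik.symm t := by
  rw [wL_inv]
  apply Subtype.ext
  show (wL i k : ↥(symplecticGroup (Fin m) F)).1 * (xL i k hik t).1 *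
    (wL i k : ↥(symplecticGroup (Fin m) F)).1 = (xL k i hik.symm t).1
  rw [wL_val, xL_val, xL_val, Matrix.fromBlocks_multiply, Matrix.fromBlocks_multiply]
  simp only [Matrix.mul_zero, Matrix.zero_mul, add_zero, zero_add]
  rw [swapMat_conj_one_add, swapMat_conj_one_sub]

theorem oppL (i k : Fin m) (hik : i ≠ k) (t : F) :
    (wL i k)⁻¹ * xL i k hik t * wL i k = xL k i hik.symm t := by
  have h := oppL' i k hik t
  rw [wL_inv] at h ⊢
  exact h

/-- the inverse of `wX i` -/
theorem wX_inv_val (i : Fin m) :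
    ((wX i : ↥(symplecticGroup (Fin m) F))⁻¹).1 =
      fromBlocks (1 - single i i 1) (single i i 1) (-(single i i 1)) (1 - single i i 1) := by
  rw [SymplecticGroup.coe_inv, wX_val]
  have hT : (single i i (1 : F) : Matrix (Fin m) (Fin m) F)ᵀ = single i i 1 := Matrix.transpose_single _ _ _
  simp only [Matrix.J, Matrix.fromBlocks_transpose, Matrix.fromBlocks_neg, Matrix.fromBlocks_multiply,
    Matrix.transpose_sub, Matrix.transpose_one, Matrix.transpose_neg, hT]
  congr 1 <;> simp

theorem oppX_aux (i : Fin m) (t : F) :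
    (fromBlocks (1 - single i i 1) (single i i 1) (-(single i i 1)) (1 - single i i 1) :
      Matrix (Fin m ⊕ Fin m) (Fin m ⊕ Fin m) F) * fromBlocks 1 (single i i t) 0 1 *
      fromBlocks (1 - single i i 1) (-(single i i 1)) (single i i 1) (1 - single i i 1) =
      fromBlocks 1 0 (single i i (-t)) 1 := by
  have hE : ∀ a b : F, (single i i a : Matrix (Fin m) (Fin m) F) * single i i b = single i i (a * b) := by
    intro a b
    rw [Matrix.single_mul_single_same]
  rw [Matrix.fromBlocks_multiply, Matrix.fromBlocks_multiply]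
  congr 1
  · simp only [Matrix.sub_mul, Matrix.mul_sub, Matrix.one_mul, Matrix.mul_one, Matrix.mul_zero, add_zero,
      Matrix.neg_mul, Matrix.mul_neg, Matrix.add_mul, hE, mul_one, one_mul]
    abel
  · simp only [Matrix.sub_mul, Matrix.mul_sub, Matrix.one_mul, Matrix.mul_one, Matrix.mul_zero, add_zero,
      Matrix.neg_mul, Matrix.mul_neg, Matrix.add_mul, hE, mul_one, one_mul]
    abel
  · simp only [Matrix.sub_mul, Matrix.mul_sub, Matrix.one_mul, Matrix.mul_one, Matrix.mul_zero, add_zero,
      Matrix.neg_mul, Matrix.mul_neg, Matrix.add_mul, hE, mul_one, one_mul, Matrix.single_neg]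
    abel_nf
    simp
  · simp only [Matrix.sub_mul, Matrix.mul_sub, Matrix.one_mul, Matrix.mul_one, Matrix.mul_zero, add_zero,
      Matrix.neg_mul, Matrix.mul_neg, Matrix.add_mul, hE, mul_one, one_mul]
    abel

theorem oppX (i : Fin m) (t : F) : (wX i)⁻¹ * xX i t * wX i = yX i (-t) := by
  apply Subtype.ext
  show ((wX i : ↥(symplecticGroup (Fin m) F))⁻¹).1 * (xX i t).1 *
    (wX i : ↥(symplecticGroup (Fin m) F)).1 = (yX i (-t)).1
  rw [wX_inv_val, xX_val, wX_val, yX_val]
  exact oppX_aux i t

theorem oppX_aux' (i : Fin m) (t : F) :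
    (fromBlocks (1 - single i i 1) (-(single i i 1)) (single i i 1) (1 - single i i 1) :
      Matrix (Fin m ⊕ Fin m) (Fin m ⊕ Fin m) F) * fromBlocks 1 (single i i t) 0 1 *
      fromBlocks (1 - single i i 1) (single i i 1) (-(single i i 1)) (1 - single i i 1) =
      fromBlocks 1 0 (single i i (-t)) 1 := by
  have hE : ∀ a b : F, (single i i a : Matrix (Fin m) (Fin m) F) * single i i b = single i i (a * b) := by
    intro a b
    rw [Matrix.single_mul_single_same]
  rw [Matrix.fromBlocks_multiply, Matrix.fromBlocks_multiply]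
  congr 1
  · simp only [Matrix.sub_mul, Matrix.mul_sub, Matrix.one_mul, Matrix.mul_one, Matrix.mul_zero, add_zero,
      Matrix.neg_mul, Matrix.mul_neg, Matrix.add_mul, hE, mul_one, one_mul, Matrix.single_neg]
    abel_nf
    try simp
  · simp only [Matrix.sub_mul, Matrix.mul_sub, Matrix.one_mul, Matrix.mul_one, Matrix.mul_zero, add_zero,
      Matrix.neg_mul, Matrix.mul_neg, Matrix.add_mul, hE, mul_one, one_mul, Matrix.single_neg]
    abel_nf
    try simp
  · simp only [Matrix.sub_mul, Matrix.mul_sub, Matrix.one_mul, Matrix.mul_one, Matrix.mul_zero, add_zero,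
      Matrix.neg_mul, Matrix.mul_neg, Matrix.add_mul, hE, mul_one, one_mul, Matrix.single_neg]
    abel_nf
    try simp
  · simp only [Matrix.sub_mul, Matrix.mul_sub, Matrix.one_mul, Matrix.mul_one, Matrix.mul_zero, add_zero,
      Matrix.neg_mul, Matrix.mul_neg, Matrix.add_mul, hE, mul_one, one_mul, Matrix.single_neg]
    abel_nf
    try simp

theorem oppX' (i : Fin m) (t : F) : wX i * xX i t * (wX i)⁻¹ = yX i (-t) := by
  apply Subtype.ext
  show (wX i : ↥(symplecticGroup (Fin m) F)).1 * (xX i t).1 *
    ((wX i : ↥(symplecticGroup (Fin m) F))⁻¹).1 = (yX i (-t)).1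
  rw [wX_inv_val, xX_val, wX_val, yX_val]
  exact oppX_aux' i t

end Cfsg.Agent.Lib.Helper68_StSp_OPP
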