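import Mathlib
import Cfsg.Agent.Lib.Helper68_StSpDefs

set_option autoImplicit false

namespace Cfsg.Agent.Lib.Helper68_StSp_SWAP

open Matrix Cfsg.Agent.Lib.Helper68_MatGrp Cfsg.Agent.Lib.Helper5_SpPerfect
  Cfsg.Agent.Lib.Helper68_StSpDefs

variable {m : ℕ} {F : Type*} [Field F]

theorem J_apply_eq_zero {x y : Fin m ⊕ Fin m} (h : y ≠ Sum.swap x) : (J (Fin m) F) x y = 0 := by
  unfold Matrix.J
  rcases x with x | x <;> rcases y with y | y
  · rfl
  · have : x ≠ y := fun e => h (by rw [e]; rfl)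
    rw [Matrix.fromBlocks_apply₁₂, Matrix.neg_apply, Matrix.one_apply_ne this, neg_zero]
  · have : x ≠ y := fun e => h (by rw [e]; rfl)
    rw [Matrix.fromBlocks_apply₂₁, Matrix.one_apply_ne this]
  · rfl

theorem J_apply_swap_ne_zero (x : Fin m ⊕ Fin m) : (J (Fin m) F) x (Sum.swap x) ≠ 0 := by
  unfold Matrix.J
  rcases x with x | x
  · rw [Sum.swap_inl, Matrix.fromBlocks_apply₁₂, Matrix.neg_apply, Matrix.one_apply_eq]
    exact neg_ne_zero.mpr one_ne_zero
  · rw [Sum.swap_inr, Matrix.fromBlocks_apply₂₁, Matrix.one_apply_eq]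
    exact one_ne_zero

/-- the permutation of a monomial symplectic matrix commutes with `Sum.swap` -/
theorem mono_swap {n : ↥(symplecticGroup (Fin m) F)} {σ : Equiv.Perm (Fin m ⊕ Fin m)}
    (hn : IsMono (φ m F) n σ) (a : Fin m ⊕ Fin m) : σ (Sum.swap a) = Sum.swap (σ a) := by
  have hn' : ∀ x y, x ≠ σ y → n.1 x y = 0 := hn
  have h := n.2
  rw [SymplecticGroup.mem_iff'] at h
  have h1 := congrFun (congrFun h a) (Sum.swap a)
  rw [Matrix.mul_apply] at h1
  rw [Finset.sum_eq_single (σ (Sum.swap a))] at h1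
  · rw [Matrix.mul_apply, Finset.sum_eq_single (σ a)] at h1
    · by_contra hne
      rw [J_apply_eq_zero hne, mul_zero, zero_mul] at h1
      exact J_apply_swap_ne_zero a h1.symm
    · intro c _ hc
      rw [Matrix.transpose_apply, hn' c a hc, zero_mul]
    · intro h'; exact absurd (Finset.mem_univ _) h'
  · intro c _ hc
    rw [hn' c (Sum.swap a) hc, mul_zero]
  · intro h'; exact absurd (Finset.mem_univ _) h'

end Cfsg.Agent.Lib.Helper68_StSp_SWAP
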