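import Mathlib
import Cfsg.Agent.Lib.Helper68_StSpDefs

set_option autoImplicit false

namespace Cfsg.Agent.Lib.Helper68_StSp_XB

open Matrix Cfsg.Agent.Lib.Helper68_MatGrp Cfsg.Agent.Lib.Helper5_SpPerfect
  Cfsg.Agent.Lib.Helper68_StSpDefs

variable {m : ℕ} {F : Type*} [Field F]

theorem xL_mem_Bsp (i k : Fin m) (hlt : i < k) (hik : i ≠ k) (t : F) : xL i k hik t ∈ Bsp m F := by
  rw [mem_Bsp]
  intro a b hab
  rw [xL_val]
  have hlt' : i.val < k.val := hlt
  rcases a with a | a <;> rcases b with b | b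
  · simp only [ht_inl] at hab
    have hab' : a ≠ b := fun h => by rw [h] at hab; exact lt_irrefl _ hab
    rw [Matrix.fromBlocks_apply₁₁, Matrix.add_apply, Matrix.one_apply_ne hab', Matrix.single_apply]
    split_ifs with h
    · exfalso
      obtain ⟨h1, h2⟩ := h
      rw [← h1, ← h2] at hab
      omega
    · simp
  · rfl
  · rfl
  · simp only [ht_inr] at hab
    have ha := a.2
    have hb := b.2
    have hab' : a ≠ b := fun h => by rw [h] at hab; exact lt_irrefl _ hab
    rw [Matrix.fromBlocks_apply₂₂, Matrix.sub_apply, Matrix.one_apply_ne hab', Matrix.single_apply]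
    split_ifs with h
    · exfalso
      obtain ⟨h1, h2⟩ := h
      rw [← h1, ← h2] at hab
      omega
    · simp

theorem xX_mem_Bsp (i : Fin m) (t : F) : xX i t ∈ Bsp m F := by
  rw [mem_Bsp]
  intro a b hab
  rw [xX_val]
  rcases a with a | a <;> rcases b with b | b
  · simp only [ht_inl] at hab
    have hab' : a ≠ b := fun h => by rw [h] at hab; exact lt_irrefl _ hab
    rw [Matrix.fromBlocks_apply₁₁, Matrix.one_apply_ne hab']
  · exfalso
    simp only [ht_inl, ht_inr] at hab
    have ha := a.2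
    have hb := b.2
    omega
  · rfl
  · simp only [ht_inr] at hab
    have hab' : a ≠ b := fun h => by rw [h] at hab; exact lt_irrefl _ hab
    rw [Matrix.fromBlocks_apply₂₂, Matrix.one_apply_ne hab']

theorem xL_not_mem_Bsp (i k : Fin m) (hlt : i < k) (hik : i ≠ k) (t : F) (ht : t ≠ 0) :
    xL k i hik.symm t ∉ Bsp m F := by
  intro h
  rw [mem_Bsp] at h
  have h1 := h (Sum.inl k) (Sum.inl i) (by simpa using hlt)
  rw [xL_val, Matrix.fromBlocks_apply₁₁, Matrix.add_apply, Matrix.one_apply_ne hik.symm,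
    Matrix.single_apply_same, zero_add] at h1
  exact ht h1

theorem yX_not_mem_Bsp (i : Fin m) (t : F) (ht : t ≠ 0) : yX i t ∉ Bsp m F := by
  intro h
  rw [mem_Bsp] at h
  have h1 := h (Sum.inr i) (Sum.inl i) (by
    simp only [ht_inl, ht_inr]
    have := i.2
    omega)
  rw [yX_val, Matrix.fromBlocks_apply₂₁, Matrix.single_apply_same] at h1
  exact ht h1

end Cfsg.Agent.Lib.Helper68_StSp_XB
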