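import Mathlib
import Cfsg.Agent.Lib.Helper68_StSpDefs

set_option autoImplicit false

namespace Cfsg.Agent.Lib.Helper68_StSp_R2

open Matrix Cfsg.Agent.Lib.Helper68_MatGrp Cfsg.Agent.Lib.Helper5_SpPerfect
  Cfsg.Agent.Lib.Helper68_StSpDefs

variable {m : ℕ} {F : Type*} [Field F]

theorem xL_off (i k : Fin m) (hik : i ≠ k) (t : F) (c d : Fin m ⊕ Fin m) (hcd : c ≠ d)
    (h1 : ¬ (c = Sum.inl i ∧ d = Sum.inl k)) (h2 : ¬ (c = Sum.inr k ∧ d = Sum.inr i)) :
    (xL i k hik t).1 c d = 0 := by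
  rw [xL_val]
  rcases c with c | c <;> rcases d with d | d
  · have hcd' : c ≠ d := fun h => hcd (by rw [h])
    rw [Matrix.fromBlocks_apply₁₁, Matrix.add_apply, Matrix.one_apply_ne hcd', Matrix.single_apply]
    have : ¬ (i = c ∧ k = d) := by
      rintro ⟨rfl, rfl⟩
      exact h1 ⟨rfl, rfl⟩
    rw [if_neg this, add_zero]
  · rfl
  · rfl
  · have hcd' : c ≠ d := fun h => hcd (by rw [h])
    rw [Matrix.fromBlocks_apply₂₂, Matrix.sub_apply, Matrix.one_apply_ne hcd', Matrix.single_apply]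
    have : ¬ (k = c ∧ i = d) := by
      rintro ⟨rfl, rfl⟩
      exact h2 ⟨rfl, rfl⟩
    rw [if_neg this, sub_zero]

theorem xX_off (i : Fin m) (t : F) (c d : Fin m ⊕ Fin m) (hcd : c ≠ d)
    (h1 : ¬ (c = Sum.inl i ∧ d = Sum.inr i)) : (xX i t).1 c d = 0 := by
  rw [xX_val]
  rcases c with c | c <;> rcases d with d | d
  · have hcd' : c ≠ d := fun h => hcd (by rw [h])
    rw [Matrix.fromBlocks_apply₁₁, Matrix.one_apply_ne hcd']
  · rw [Matrix.fromBlocks_apply₁₂, Matrix.single_apply]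
    have : ¬ (i = c ∧ i = d) := by
      rintro ⟨rfl, rfl⟩
      exact h1 ⟨rfl, rfl⟩
    rw [if_neg this]
  · rfl
  · have hcd' : c ≠ d := fun h => hcd (by rw [h])
    rw [Matrix.fromBlocks_apply₂₂, Matrix.one_apply_ne hcd']

theorem yX_off (i : Fin m) (t : F) (c d : Fin m ⊕ Fin m) (hcd : c ≠ d)
    (h1 : ¬ (c = Sum.inr i ∧ d = Sum.inl i)) : (yX i t).1 c d = 0 := by
  rw [yX_val]
  rcases c with c | c <;> rcases d with d | d
  · have hcd' : c ≠ d := fun h => hcd (by rw [h])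
    rw [Matrix.fromBlocks_apply₁₁, Matrix.one_apply_ne hcd']
  · rfl
  · rw [Matrix.fromBlocks_apply₂₁, Matrix.single_apply]
    have : ¬ (i = c ∧ i = d) := by
      rintro ⟨rfl, rfl⟩
      exact h1 ⟨rfl, rfl⟩
    rw [if_neg this]
  · have hcd' : c ≠ d := fun h => hcd (by rw [h])
    rw [Matrix.fromBlocks_apply₂₂, Matrix.one_apply_ne hcd']

/-- conjugation by a monomial element into `B` -/
theorem conj_mem_Bsp {n : ↥(symplecticGroup (Fin m) F)} {σ : Equiv.Perm (Fin m ⊕ Fin m)}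
    (hn : IsMono (φ m F) n σ) (g : ↥(symplecticGroup (Fin m) F))
    (h : ∀ a b, ht m b < ht m a → g.1 (σ a) (σ b) = 0) : n⁻¹ * g * n ∈ Bsp m F := by
  rw [mem_Bsp]
  intro a b hab
  have := hn.conj_apply g a b
  simp only [φ_apply] at this
  rw [this, h a b hab, mul_zero, zero_mul]

theorem ht_swap_lt {a b : Fin m ⊕ Fin m} (h : ht m a < ht m b) :
    ht m (Sum.swap b) < ht m (Sum.swap a) := by
  rw [ht_swap, ht_swap]
  have := ht_lt m a
  have := ht_lt m b
  omega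

theorem r2S (i k : Fin m) (hik : i ≠ k) (n : ↥(symplecticGroup (Fin m) F))
    (σ : Equiv.Perm (Fin m ⊕ Fin m)) (hn : IsMono (φ m F) n σ)
    (hsw : ∀ a, σ (Sum.swap a) = Sum.swap (σ a)) :
    (∀ t : F, n⁻¹ * xL i k hik t * n ∈ Bsp m F) ∨ (∀ t : F, n⁻¹ * xL k i hik.symm t * n ∈ Bsp m F) := by
  set a₀ := σ⁻¹ (Sum.inl i) with ha₀
  set b₀ := σ⁻¹ (Sum.inl k) with hb₀
  have hσa : σ a₀ = Sum.inl i := by rw [ha₀]; simp
  have hσb : σ b₀ = Sum.inl k := by rw [hb₀]; simp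
  have hσa' : σ (Sum.swap a₀) = Sum.inr i := by rw [hsw, hσa]; rfl
  have hσb' : σ (Sum.swap b₀) = Sum.inr k := by rw [hsw, hσb]; rfl
  have hne : a₀ ≠ b₀ := by
    intro h
    have : (Sum.inl i : Fin m ⊕ Fin m) = Sum.inl k := by rw [← hσa, ← hσb, h]
    exact hik (Sum.inl_injective this)
  -- the general step
  have key : ∀ (i' k' : Fin m) (hik' : i' ≠ k') (a₁ b₁ : Fin m ⊕ Fin m), σ a₁ = Sum.inl i' →
      σ b₁ = Sum.inl k' → σ (Sum.swap a₁) = Sum.inr i' → σ (Sum.swap b₁) = Sum.inr k' →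
      ht m a₁ < ht m b₁ → ∀ t : F, n⁻¹ * xL i' k' hik' t * n ∈ Bsp m F := by
    intro i' k' hik' a₁ b₁ h1 h2 h3 h4 hlt t
    apply conj_mem_Bsp hn
    intro a b hab
    have hab' : σ a ≠ σ b := by
      intro h
      have := σ.injective h
      rw [this] at hab
      exact lt_irrefl _ hab
    apply xL_off _ _ _ _ _ _ hab'
    · rintro ⟨e1, e2⟩
      have ea : a = a₁ := σ.injective (e1.trans h1.symm)
      have eb : b = b₁ := σ.injective (e2.trans h2.symm)
      rw [ea, eb] at hab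
      omega
    · rintro ⟨e1, e2⟩
      have ea : a = Sum.swap b₁ := σ.injective (e1.trans h4.symm)
      have eb : b = Sum.swap a₁ := σ.injective (e2.trans h3.symm)
      rw [ea, eb] at hab
      have := ht_swap_lt hlt
      omega
  rcases lt_or_gt_of_ne (fun h => hne (ht_injective m h)) with hlt | hlt
  · left
    exact key i k hik a₀ b₀ hσa hσb hσa' hσb' hlt
  · right
    exact key k i hik.symm b₀ a₀ hσb hσa hσb' hσa' hlt

theorem r2X (i : Fin m) (n : ↥(symplecticGroup (Fin m) F))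
    (σ : Equiv.Perm (Fin m ⊕ Fin m)) (hn : IsMono (φ m F) n σ)
    (hsw : ∀ a, σ (Sum.swap a) = Sum.swap (σ a)) :
    (∀ t : F, n⁻¹ * xX i t * n ∈ Bsp m F) ∨ (∀ t : F, n⁻¹ * yX i t * n ∈ Bsp m F) := by
  set a₀ := σ⁻¹ (Sum.inl i) with ha₀
  have hσa : σ a₀ = Sum.inl i := by rw [ha₀]; simp
  have hσa' : σ (Sum.swap a₀) = Sum.inr i := by rw [hsw, hσa]; rfl
  have hne : a₀ ≠ Sum.swap a₀ := by
    rcases a₀ with x | x <;> simp
  rcases lt_or_gt_of_ne (fun h => hne (ht_injective m h)) with hlt | hlt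
  · left
    intro t
    apply conj_mem_Bsp hn
    intro a b hab
    have hab' : σ a ≠ σ b := by
      intro h
      have := σ.injective h
      rw [this] at hab
      exact lt_irrefl _ hab
    apply xX_off _ _ _ _ hab'
    rintro ⟨e1, e2⟩
    have ea : a = a₀ := σ.injective (e1.trans hσa.symm)
    have eb : b = Sum.swap a₀ := σ.injective (e2.trans hσa'.symm)
    rw [ea, eb] at hab
    omega
  · right
    intro t
    apply conj_mem_Bsp hn
    intro a b hab
    have hab' : σ a ≠ σ b := by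
      intro h
      have := σ.injective h
      rw [this] at hab
      exact lt_irrefl _ hab
    apply yX_off _ _ _ _ hab'
    rintro ⟨e1, e2⟩
    have ea : a = Sum.swap a₀ := σ.injective (e1.trans hσa'.symm)
    have eb : b = a₀ := σ.injective (e2.trans hσa.symm)
    rw [ea, eb] at hab
    omega

end Cfsg.Agent.Lib.Helper68_StSp_R2
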