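import Mathlib
import Cfsg.Agent.Lib.Helper68_StSpDefs
import Cfsg.Agent.Lib.Helper44_SpUT
import Cfsg.Agent.Lib.Helper68_StSp_R2
import Cfsg.Agent.Lib.Helper68_StSp_XB
import Cfsg.Agent.Lib.Helper68_StSp_MONOW
import Cfsg.Agent.Lib.Helper68_StSp_SQ

/-!
# S2545 (Steinberg character of `PSp_2m(q)`), package R1S (architect helper68)

`r1S` : (R1) for a short simple root.  By-products: `diag_ne_zero` (diagonal of an element of `Bsp`),
`conj_inv_mem_Bsp` (conjugation `n g n⁻¹` by a monomial element), `xL_inv`, `xX_inv`.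
-/

set_option autoImplicit false

namespace Cfsg.Agent.Lib.Helper93_StSp_R1S

open Matrix Cfsg.Agent.Lib.Helper68_MatGrp Cfsg.Agent.Lib.Helper5_SpPerfect
  Cfsg.Agent.Lib.Helper68_StSpDefs Cfsg.Agent.Lib.Helper13_SympTrans

variable {m : ℕ} {F : Type*} [Field F]

/-- the diagonal entries of an upper triangular element are non-zero -/
theorem diag_ne_zero {b : ↥(symplecticGroup (Fin m) F)} (hb : b ∈ Bsp m F) (a : Fin m ⊕ Fin m) :
    b.1 a a ≠ 0 := by
  have hb' : b⁻¹ ∈ Bsp m F := (Bsp m F).inv_mem hb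
  have h1 : (b * b⁻¹).1 a a = 1 := by
    rw [mul_inv_cancel]
    exact Matrix.one_apply_eq a
  have h2 : (b * b⁻¹).1 a a = b.1 a a * (b⁻¹).1 a a := by
    show (b.1 * (b⁻¹).1) a a = _
    rw [Matrix.mul_apply, Finset.sum_eq_single a]
    · intro d _ hd
      rcases lt_or_gt_of_ne (fun h => hd (ht_injective m h)) with h | h
      · rw [mem_Bsp.mp hb a d h, zero_mul]
      · rw [mem_Bsp.mp hb' d a h, mul_zero]
    · intro h; exact absurd (Finset.mem_univ _) h
  rw [h2] at h1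
  exact left_ne_zero_of_mul_eq_one h1

theorem xL_inv (i k : Fin m) (hik : i ≠ k) (t : F) : (xL i k hik t)⁻¹ = xL i k hik (-t) := by
  rw [inv_eq_iff_mul_eq_one, xL_mul, add_neg_cancel, xL_zero]

theorem xX_inv (i : Fin m) (t : F) : (xX i t)⁻¹ = xX i (-t) := by
  rw [inv_eq_iff_mul_eq_one, xX_mul, add_neg_cancel, xX_zero]

/-- conjugation `n g n⁻¹` by a monomial element into `B` -/
theorem conj_inv_mem_Bsp {n : ↥(symplecticGroup (Fin m) F)} {σ : Equiv.Perm (Fin m ⊕ Fin m)}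
    (hn : IsMono (φ m F) n σ) (g : ↥(symplecticGroup (Fin m) F))
    (h : ∀ a b, ht m b < ht m a → g.1 (σ⁻¹ a) (σ⁻¹ b) = 0) : n * g * n⁻¹ ∈ Bsp m F := by
  have := Cfsg.Agent.Lib.Helper68_StSp_R2.conj_mem_Bsp hn.inv g h
  rwa [inv_inv] at this

/-- the values of the transposition `(i k)` -/
theorem swap_cases (i k x : Fin m) :
    (x.val = i.val ∧ Equiv.swap i k x = k) ∨ (x.val = k.val ∧ Equiv.swap i k x = i) ∨
      (x.val ≠ i.val ∧ x.val ≠ k.val ∧ Equiv.swap i k x = x) := by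
  by_cases h1 : x = i
  · left
    exact ⟨by rw [h1], by rw [h1, Equiv.swap_apply_left]⟩
  · by_cases h2 : x = k
    · right; left
      exact ⟨by rw [h2], by rw [h2, Equiv.swap_apply_right]⟩
    · right; right
      exact ⟨fun h => h1 (Fin.ext h), fun h => h2 (Fin.ext h), Equiv.swap_apply_of_ne_of_ne h1 h2⟩

/-- the height combinatorics for a short simple root -/
theorem short_heights (i k : Fin m) (hk : i.val + 1 = k.val) {c : ↥(symplecticGroup (Fin m) F)}
    (hc : c ∈ Bsp m F) (h1 : c.1 (Sum.inl i) (Sum.inl k) = 0) (h2 : c.1 (Sum.inr k) (Sum.inr i) = 0)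
    (a b : Fin m ⊕ Fin m) (hab : ht m b < ht m a) :
    c.1 ((Equiv.sumCongr (Equiv.swap i k) (Equiv.swap i k)) a)
      ((Equiv.sumCongr (Equiv.swap i k) (Equiv.swap i k)) b) = 0 := by
  have hc' := mem_Bsp.mp hc
  have hi := i.2
  have hk' := k.2
  rcases a with x | x <;> rcases b with y | y <;>
    simp only [Equiv.sumCongr_apply, Sum.map_inl, Sum.map_inr, ht_inl, ht_inr] at hab ⊢ <;>
    have hx := x.2 <;> have hy := y.2 <;>
    rcases swap_cases i k x with ⟨hx1, hx2⟩ | ⟨hx1, hx2⟩ | ⟨hx1, hx1', hx2⟩ <;>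
    rcases swap_cases i k y with ⟨hy1, hy2⟩ | ⟨hy1, hy2⟩ | ⟨hy1, hy1', hy2⟩ <;>
    rw [hx2, hy2] <;>
    first
      | exact h1
      | exact h2
      | (exfalso; omega)
      | (apply hc'; simp only [ht_inl, ht_inr]; omega)

/-- **R1S** -/
theorem r1S (i k : Fin m) (hk : i.val + 1 = k.val) (hik : i ≠ k) (b : ↥(symplecticGroup (Fin m) F))
    (hb : b ∈ Bsp m F) : ∃ t : F, wL i k * (b * (xL i k hik t)⁻¹) * (wL i k)⁻¹ ∈ Bsp m F := by
  have hlt : i < k := by
    rw [Fin.lt_def]; omega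
  have hii : b.1 (Sum.inl i) (Sum.inl i) ≠ 0 := diag_ne_zero hb _
  set t : F := b.1 (Sum.inl i) (Sum.inl k) / b.1 (Sum.inl i) (Sum.inl i) with ht'
  refine ⟨t, ?_⟩
  rw [xL_inv]
  set c : ↥(symplecticGroup (Fin m) F) := b * xL i k hik (-t) with hcdef
  have hc : c ∈ Bsp m F :=
    (Bsp m F).mul_mem hb (Cfsg.Agent.Lib.Helper68_StSp_XB.xL_mem_Bsp i k hlt hik (-t))
  have hc' := mem_Bsp.mp hc
  -- the entry `(e_i, e_k)` of `c` vanishes
  have h1 : c.1 (Sum.inl i) (Sum.inl k) = 0 := by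
    show (b.1 * (xL i k hik (-t)).1) (Sum.inl i) (Sum.inl k) = 0
    rw [Matrix.mul_apply, Fintype.sum_eq_add (Sum.inl i) (Sum.inl k)
      (by intro h; exact hik (Sum.inl_injective h))]
    · rw [xL_val]
      simp only [Matrix.fromBlocks_apply₁₁, Matrix.add_apply, Matrix.one_apply_ne hik,
        Matrix.one_apply_eq, Matrix.single_apply_same, zero_add]
      rw [Matrix.single_apply_of_ne _ _ _ _ _ (by intro h; exact hik h.1), add_zero, ht']
      field_simp
      ring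
    · rintro d ⟨hd1, hd2⟩
      rw [Cfsg.Agent.Lib.Helper68_StSp_R2.xL_off i k hik (-t) d (Sum.inl k) hd2
        (fun h => hd1 h.1) (fun h => by simpa using h.2), mul_zero]
  -- the entry `(f_k, f_i)` of `c` vanishes
  have hcii : c.1 (Sum.inl i) (Sum.inl i) ≠ 0 := diag_ne_zero hc _
  have hcinv : c⁻¹ ∈ Bsp m F := (Bsp m F).inv_mem hc
  have hcinv' := mem_Bsp.mp hcinv
  have h3 : (c⁻¹).1 (Sum.inl i) (Sum.inl k) = 0 := by
    have e1 : (c * c⁻¹).1 (Sum.inl i) (Sum.inl k) = 0 := by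
      rw [mul_inv_cancel]
      exact Matrix.one_apply_ne (by intro h; exact hik (Sum.inl_injective h))
    have e2 : (c * c⁻¹).1 (Sum.inl i) (Sum.inl k) =
        c.1 (Sum.inl i) (Sum.inl i) * (c⁻¹).1 (Sum.inl i) (Sum.inl k) +
          c.1 (Sum.inl i) (Sum.inl k) * (c⁻¹).1 (Sum.inl k) (Sum.inl k) := by
      show (c.1 * (c⁻¹).1) (Sum.inl i) (Sum.inl k) = _
      rw [Matrix.mul_apply, Fintype.sum_eq_add (Sum.inl i) (Sum.inl k)
        (by intro h; exact hik (Sum.inl_injective h))]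
      rintro d ⟨hd1, hd2⟩
      by_cases hd : ht m d < ht m (Sum.inl i)
      · rw [hc' _ _ hd, zero_mul]
      · have hd' : ht m (Sum.inl k) < ht m d := by
          have hne1 : ht m d ≠ ht m (Sum.inl i) := fun h => hd1 (ht_injective m h)
          have hne2 : ht m d ≠ ht m (Sum.inl k) := fun h => hd2 (ht_injective m h)
          simp only [ht_inl] at hd hne1 hne2 ⊢
          omega
        rw [hcinv' _ _ hd', mul_zero]
    rw [e2, h1, zero_mul, add_zero] at e1
    exact (mul_eq_zero.mp e1).resolve_left hcii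
  have h2 : c.1 (Sum.inr k) (Sum.inr i) = 0 := by
    have := Cfsg.Agent.Lib.Helper44_SpUT.coe_inv_blocks c
    have e : (c⁻¹).1 (Sum.inl i) (Sum.inl k) = c.1 (Sum.inr k) (Sum.inr i) := by
      rw [this]
      rfl
    rw [← e, h3]
  -- conjugation by `wL i k`
  have hmono := Cfsg.Agent.Lib.Helper68_StSp_MONOW.wL_isMono (F := F) i k
  apply conj_inv_mem_Bsp hmono c
  intro a b' hab
  have hσ : (Equiv.sumCongr (Equiv.swap i k) (Equiv.swap i k))⁻¹ =
      Equiv.sumCongr (Equiv.swap i k) (Equiv.swap i k) := by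
    ext x
    rcases x with x | x <;> simp [Equiv.Perm.inv_def]
  rw [hσ]
  exact short_heights i k hk hc h1 h2 a b' hab

end Cfsg.Agent.Lib.Helper93_StSp_R1S
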