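import Mathlib
import Cfsg.Agent.Lib.Helper68_StSpDefs
import Cfsg.Agent.Lib.Helper44_SpUT
import Cfsg.Agent.Lib.Helper68_StSp_R2
import Cfsg.Agent.Lib.Helper68_StSp_XB
import Cfsg.Agent.Lib.Helper68_StSp_MONOW
import Cfsg.Agent.Lib.Helper93_StSp_R1S

/-!
# S2545 (Steinberg character of `PSp_2m(q)`), package R1X (architect helper68)

`r1X` : (R1) for the long simple root.
-/

set_option autoImplicit false

namespace Cfsg.Agent.Lib.Helper93_StSp_R1X

open Matrix Cfsg.Agent.Lib.Helper68_MatGrp Cfsg.Agent.Lib.Helper5_SpPerfect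
  Cfsg.Agent.Lib.Helper68_StSpDefs Cfsg.Agent.Lib.Helper13_SympTrans
  Cfsg.Agent.Lib.Helper93_StSp_R1S

variable {m : ℕ} {F : Type*} [Field F]

/-- the values of the transposition `(e_i f_i)` and the heights -/
theorem swapX_cases (i : Fin m) (hi : i.val + 1 = m) (x : Fin m ⊕ Fin m) :
    (Equiv.swap (Sum.inl i) (Sum.inr i) x = Sum.inr i ∧ ht m x + 1 = m) ∨
    (Equiv.swap (Sum.inl i) (Sum.inr i) x = Sum.inl i ∧ ht m x = m) ∨
    (Equiv.swap (Sum.inl i) (Sum.inr i) x = x ∧ ht m x + 1 ≠ m ∧ ht m x ≠ m) := by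
  have hi' := i.2
  by_cases h1 : x = Sum.inl i
  · left
    refine ⟨by rw [h1, Equiv.swap_apply_left], ?_⟩
    rw [h1, ht_inl]; exact hi
  · by_cases h2 : x = Sum.inr i
    · right; left
      refine ⟨by rw [h2, Equiv.swap_apply_right], ?_⟩
      rw [h2, ht_inr]; omega
    · right; right
      refine ⟨Equiv.swap_apply_of_ne_of_ne h1 h2, ?_, ?_⟩
      · intro h
        apply h1
        apply ht_injective m
        rw [ht_inl]; omega
      · intro h
        apply h2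
        apply ht_injective m
        rw [ht_inr]; omega

/-- the height combinatorics for the long simple root -/
theorem long_heights (i : Fin m) (hi : i.val + 1 = m) {c : ↥(symplecticGroup (Fin m) F)}
    (hc : c ∈ Bsp m F) (h1 : c.1 (Sum.inl i) (Sum.inr i) = 0)
    (a b : Fin m ⊕ Fin m) (hab : ht m b < ht m a) :
    c.1 (Equiv.swap (Sum.inl i) (Sum.inr i) a) (Equiv.swap (Sum.inl i) (Sum.inr i) b) = 0 := by
  have hc' := mem_Bsp.mp hc
  have hi' := i.2
  rcases swapX_cases i hi a with ⟨ha1, ha2⟩ | ⟨ha1, ha2⟩ | ⟨ha1, ha2, ha3⟩ <;>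
    rcases swapX_cases i hi b with ⟨hb1, hb2⟩ | ⟨hb1, hb2⟩ | ⟨hb1, hb2, hb3⟩ <;>
    rw [ha1, hb1] <;>
    first
      | exact h1
      | (exfalso; omega)
      | (apply hc'; (try simp only [ht_inl, ht_inr]); omega)

/-- **R1X** -/
theorem r1X (i : Fin m) (hi : i.val + 1 = m) (b : ↥(symplecticGroup (Fin m) F))
    (hb : b ∈ Bsp m F) : ∃ t : F, wX i * (b * (xX i t)⁻¹) * (wX i)⁻¹ ∈ Bsp m F := by
  have hii : b.1 (Sum.inl i) (Sum.inl i) ≠ 0 := diag_ne_zero hb _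
  set t : F := b.1 (Sum.inl i) (Sum.inr i) / b.1 (Sum.inl i) (Sum.inl i) with ht'
  refine ⟨t, ?_⟩
  rw [xX_inv]
  set c : ↥(symplecticGroup (Fin m) F) := b * xX i (-t) with hcdef
  have hc : c ∈ Bsp m F :=
    (Bsp m F).mul_mem hb (Cfsg.Agent.Lib.Helper68_StSp_XB.xX_mem_Bsp i (-t))
  have hne : (Sum.inl i : Fin m ⊕ Fin m) ≠ Sum.inr i := Sum.inl_ne_inr
  have h1 : c.1 (Sum.inl i) (Sum.inr i) = 0 := by
    show (b.1 * (xX i (-t)).1) (Sum.inl i) (Sum.inr i) = 0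
    rw [Matrix.mul_apply, Fintype.sum_eq_add (Sum.inl i) (Sum.inr i) hne]
    · rw [xX_val]
      simp only [Matrix.fromBlocks_apply₁₂, Matrix.fromBlocks_apply₂₂, Matrix.one_apply_eq,
        Matrix.single_apply_same, ht']
      field_simp
      ring
    · rintro d ⟨hd1, hd2⟩
      rw [Cfsg.Agent.Lib.Helper68_StSp_R2.xX_off i (-t) d (Sum.inr i) hd2 (fun h => hd1 h.1),
        mul_zero]
  have hmono := Cfsg.Agent.Lib.Helper68_StSp_MONOW.wX_isMono (F := F) i
  apply conj_inv_mem_Bsp hmono c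
  intro a b' hab
  have hσ : (Equiv.swap (Sum.inl i) (Sum.inr i) : Equiv.Perm (Fin m ⊕ Fin m))⁻¹ =
      Equiv.swap (Sum.inl i) (Sum.inr i) := Equiv.swap_inv _ _
  rw [hσ]
  exact long_heights i hi hc h1 a b' hab

end Cfsg.Agent.Lib.Helper93_StSp_R1X
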