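import Mathlib
import Cfsg.Prelude.Def_GeometricClasses
import Cfsg.Agent.Lib.Helper13_SympTrans
import Cfsg.Agent.Lib.Helper5_PSpSimple
import Cfsg.Agent.Lib.Helper30_AschMax

/-!
helper67: tools for the rows "maximal subgroups of `Sp_2m(F)` lie in the classes of the
structure theorem for subgroups of the symplectic group" (S5787, S5790, S5805, S5823, S5844, S5868).

* `tvSp`: symplectic transvections as elements of `spGL`; `exists_spGL_map`: transitivity on non-zero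
  vectors; `not_le_of_invariant_set`: a subgroup preserving a set of vectors containing a non-zero
  vector and missing a non-zero vector does not contain `spGL`.
* `eq_inf_of_le`: a maximal subgroup contained in `X ⊓ spGL` with `spGL ≰ X` equals `X ⊓ spGL`.
* `sup_scalars_ne`: the hypothesis `hproper` of the structure theorem follows from maximality.
* `spGL` is contained in no member of a geometric class.
-/

set_option autoImplicit false

namespace Cfsg.Agent.Lib.Helper67_SpAschMax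

open Matrix Cfsg.Geo
open Cfsg.Agent.Lib.Helper13_Symp Cfsg.Agent.Lib.Helper13_SympTrans
open scoped commutatorElement

variable {F : Type*} [Field F] {m : ℕ}

lemma mem_spGL_iff (g : GL (Fin m ⊕ Fin m) F) :
    g ∈ Cfsg.spGL m F ↔ ∀ u v, Cfsg.sympForm m F ((g : Matrix (Fin m ⊕ Fin m) (Fin m ⊕ Fin m) F) *ᵥ u)
      ((g : Matrix (Fin m ⊕ Fin m) (Fin m ⊕ Fin m) F) *ᵥ v) = Cfsg.sympForm m F u v := Iff.rfl

/-- a symplectic matrix as an element of `GL` -/
noncomputable def sympToGL (A : Matrix.symplecticGroup (Fin m) F) : GL (Fin m ⊕ Fin m) F :=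
  ((Cfsg.Agent.Lib.Helper5_PSpSimple.toSpGL m A : ↥(Cfsg.spGL m F)) : GL (Fin m ⊕ Fin m) F)

lemma sympToGL_val (A : Matrix.symplecticGroup (Fin m) F) :
    ((sympToGL A : GL (Fin m ⊕ Fin m) F) : Matrix (Fin m ⊕ Fin m) (Fin m ⊕ Fin m) F) = A.1 := rfl

lemma sympToGL_mem (A : Matrix.symplecticGroup (Fin m) F) : sympToGL A ∈ Cfsg.spGL m F :=
  (Cfsg.Agent.Lib.Helper5_PSpSimple.toSpGL m A).2

/-- the symplectic transvection `x ↦ x + c f(x, w) w` as an element of `GL` -/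
noncomputable def tvSp (w : Fin m ⊕ Fin m → F) (c : F) : GL (Fin m ⊕ Fin m) F :=
  sympToGL (transv m w c)

lemma tvSp_mem (w : Fin m ⊕ Fin m → F) (c : F) : tvSp w c ∈ Cfsg.spGL m F := sympToGL_mem _

lemma tvSp_mulVec (w : Fin m ⊕ Fin m → F) (c : F) (x : Fin m ⊕ Fin m → F) :
    ((tvSp w c : GL (Fin m ⊕ Fin m) F) : Matrix (Fin m ⊕ Fin m) (Fin m ⊕ Fin m) F) *ᵥ x =
      x + (c * Cfsg.sympForm m F x w) • w := by
  rw [tvSp, sympToGL_val]
  exact transv_mulVec m w c x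

/-- `spGL` is transitive on non-zero vectors -/
theorem exists_spGL_map (u u' : Fin m ⊕ Fin m → F) (hu : u ≠ 0) (hu' : u' ≠ 0) :
    ∃ g ∈ Cfsg.spGL m F, ((g : GL (Fin m ⊕ Fin m) F) : Matrix (Fin m ⊕ Fin m) (Fin m ⊕ Fin m) F) *ᵥ u = u' := by
  obtain ⟨A, -, hA⟩ := exists_transv_map m u u' hu hu'
  exact ⟨sympToGL A, sympToGL_mem A, hA⟩

/-- a subgroup preserving a set of vectors that contains a non-zero vector and misses a non-zero vector
does not contain the symplectic group -/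
theorem not_le_of_invariant_set {X : Subgroup (GL (Fin m ⊕ Fin m) F)} (S : Set (Fin m ⊕ Fin m → F))
    (hS : ∀ g ∈ X, ∀ v ∈ S, ((g : GL (Fin m ⊕ Fin m) F) : Matrix (Fin m ⊕ Fin m) (Fin m ⊕ Fin m) F) *ᵥ v ∈ S)
    {u u' : Fin m ⊕ Fin m → F} (hu : u ∈ S) (hu0 : u ≠ 0) (hu' : u' ∉ S) (hu'0 : u' ≠ 0) :
    ¬ Cfsg.spGL m F ≤ X := by
  intro hle
  obtain ⟨g, hg, hgu⟩ := exists_spGL_map u u' hu0 hu'0
  exact hu' (hgu ▸ hS g (hle hg) u hu)

/-! ### the glue -/

theorem eq_inf_of_le {H X : Subgroup (GL (Fin m ⊕ Fin m) F)}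
    (hH : IsMaximalIn (Cfsg.spGL m F) H) (hHX : H ≤ X)
    (hX : ¬ Cfsg.spGL m F ≤ X) : H = X ⊓ Cfsg.spGL m F := by
  rcases hH.2 (X ⊓ Cfsg.spGL m F) (le_inf hHX hH.1.le) inf_le_right with h | h
  · exact h.symm
  · exact absurd (h ▸ inf_le_left) hX

lemma spGL_eq_range :
    Cfsg.spGL m F = ((Cfsg.spGL m F).subtype.comp (Cfsg.Agent.Lib.Helper5_PSpSimple.toSpGL m)).range := by
  ext g
  constructor
  · intro hg
    refine ⟨Cfsg.Agent.Lib.Helper5_PSpSimple.fromSpGL m ⟨g, hg⟩, ?_⟩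
    rw [MonoidHom.comp_apply, Cfsg.Agent.Lib.Helper5_PSpSimple.toSpGL_fromSpGL]
    rfl
  · rintro ⟨A, rfl⟩
    exact (Cfsg.Agent.Lib.Helper5_PSpSimple.toSpGL m A).2

/-- the symplectic group is perfect -/
theorem commutator_spGL [Fintype F] (h : 3 ≤ m ∨ (m = 2 ∧ 3 ≤ Fintype.card F) ∨ 4 ≤ Fintype.card F) :
    ⁅Cfsg.spGL m F, Cfsg.spGL m F⁆ = Cfsg.spGL m F := by
  have hp := Cfsg.Agent.Lib.Helper5_SpPerfect.sp_perfect (F := F) m h
  rw [commutator_def] at hp
  conv_rhs => rw [spGL_eq_range, MonoidHom.range_eq_map, ← hp, Subgroup.map_commutator,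
    ← MonoidHom.range_eq_map, ← spGL_eq_range]

/-- the hypothesis `hproper` of the structure theorem follows from maximality -/
theorem sup_scalars_ne [Fintype F] (h : 3 ≤ m ∨ (m = 2 ∧ 3 ≤ Fintype.card F) ∨ 4 ≤ Fintype.card F)
    {H : Subgroup (GL (Fin m ⊕ Fin m) F)} (hH : IsMaximalIn (Cfsg.spGL m F) H) :
    H ⊔ (scalars (Fin m ⊕ Fin m) F ⊓ Cfsg.spGL m F) ≠ Cfsg.spGL m F := by
  intro heq
  have h1 : ⁅Cfsg.spGL m F, Cfsg.spGL m F⁆ ≤ H :=
    Cfsg.Agent.Lib.Helper30_AschMax.commutator_le_of_le_sup_central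
      (Z := scalars (Fin m ⊕ Fin m) F ⊓ Cfsg.spGL m F)
      (fun z hz g => by
        obtain ⟨c, hc⟩ := (mem_scalars_iff z).mp hz.1
        apply Units.ext
        rw [Units.val_mul, Units.val_mul, hc]
        simp) heq.ge
  rw [commutator_spGL h] at h1
  exact (not_le_of_gt hH.1) h1

/-! ### linear forms from the symplectic form -/

/-- `x ↦ f(x, u)` as a linear map -/
noncomputable def formLin (u : Fin m ⊕ Fin m → F) : (Fin m ⊕ Fin m → F) →ₗ[F] F where
  toFun x := Cfsg.sympForm m F x u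
  map_add' x y := sympForm_add_left m x y u
  map_smul' a x := by rw [sympForm_smul_left]; rfl

lemma formLin_apply (u x : Fin m ⊕ Fin m → F) : formLin u x = Cfsg.sympForm m F x u := rfl

lemma exists_form_eq_one {u : Fin m ⊕ Fin m → F} (hu : u ≠ 0) :
    ∃ x, Cfsg.sympForm m F x u = 1 := by
  obtain ⟨w, hw⟩ := exists_sympForm_ne_zero m hu
  have hw' : Cfsg.sympForm m F w u ≠ 0 := by
    rw [sympForm_swap]; exact neg_ne_zero.mpr hw
  refine ⟨(Cfsg.sympForm m F w u)⁻¹ • w, ?_⟩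
  rw [sympForm_smul_left, inv_mul_cancel₀ hw']

/-! ### class 1 -/

theorem not_le_subspaceStabilizer (W : Submodule F (Fin m ⊕ Fin m → F)) (hW0 : W ≠ ⊥) (hW1 : W ≠ ⊤) :
    ¬ Cfsg.spGL m F ≤ subspaceStabilizer W := by
  obtain ⟨w, hwW, hw0⟩ := Submodule.exists_mem_ne_zero_of_ne_bot hW0
  obtain ⟨y, -, hyW⟩ := SetLike.exists_of_lt (lt_top_iff_ne_top.mpr hW1)
  have hy0 : y ≠ 0 := by
    rintro rfl
    exact hyW W.zero_mem
  exact not_le_of_invariant_set (W : Set (Fin m ⊕ Fin m → F))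
    (fun g hg v hv => (hg v).mp hv) hwW hw0 hyW hy0

/-- a totally singular subspace is proper -/
lemma ne_top_of_totallySingular {W : Submodule F (Fin m ⊕ Fin m → F)} (hm : 0 < m)
    (hW : IsTotallySingularFor (Cfsg.sympForm m F) W) : W ≠ ⊤ := by
  rintro rfl
  have hu : (Pi.single (Sum.inl (⟨0, hm⟩ : Fin m)) 1 : Fin m ⊕ Fin m → F) ≠ 0 := by
    intro h
    have := congrFun h (Sum.inl ⟨0, hm⟩)
    simp at this
  obtain ⟨w, hw⟩ := exists_sympForm_ne_zero m hu
  exact hw (hW _ Submodule.mem_top _ Submodule.mem_top)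

/-! ### class 2 -/

theorem not_le_decompositionStabilizer {t k : ℕ} {D : Fin t → Submodule F (Fin m ⊕ Fin m → F)}
    (hD : IsMDecomposition k D) : ¬ Cfsg.spGL m F ≤ decompositionStabilizer D := by
  classical
  have ht := hD.two_le
  set i0 : Fin t := ⟨0, by omega⟩ with hi0
  set i1 : Fin t := ⟨1, by omega⟩ with hi1
  have h01 : i0 ≠ i1 := by
    intro h; have := congrArg Fin.val h; simp [hi0, hi1] at this
  have hne : ∀ i, ∃ d ∈ D i, d ≠ 0 := by
    intro i
    apply Submodule.exists_mem_ne_zero_of_ne_bot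
    intro h
    have := hD.finrank_eq i
    rw [h, finrank_bot] at this
    have := hD.pos
    omega
  obtain ⟨d0, hd0, hd00⟩ := hne i0
  obtain ⟨d1, hd1, hd10⟩ := hne i1
  -- a non-zero member of `D i` is in no other `D j`
  have hdisj : ∀ i j, i ≠ j → ∀ x, x ∈ D i → x ∈ D j → x = 0 := by
    intro i j hij x hxi hxj
    have h1 : x ∈ ⨆ l, ⨆ (_ : l ≠ i), D l :=
      (le_iSup₂ (f := fun l (_ : l ≠ i) => D l) j (Ne.symm hij)) hxj
    have := (hD.indep i).le_bot ⟨hxi, h1⟩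
    simpa using this
  have hsum : ∀ j, d0 + d1 ∉ D j := by
    intro j hj
    by_cases hj0 : j = i0
    · -- then `d1 ∈ D i0`
      subst hj0
      have : d1 ∈ D i0 := by
        have := (D i0).sub_mem hj hd0
        simpa using this
      exact hd10 (hdisj i1 i0 h01.symm d1 hd1 this)
    · by_cases hj1 : j = i1
      · subst hj1
        have : d0 ∈ D i1 := by
          have := (D i1).sub_mem hj hd1
          simpa using this
        exact hd00 (hdisj i0 i1 h01 d0 hd0 this)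
      · -- `d0 ∈ D j ⊔ D i1`, which is inside the span of the members other than `D i0`
        have h1 : d0 ∈ ⨆ l, ⨆ (_ : l ≠ i0), D l := by
          have e : d0 = (d0 + d1) - d1 := by abel
          rw [e]
          apply Submodule.sub_mem
          · exact (le_iSup₂ (f := fun l (_ : l ≠ i0) => D l) j hj0) hj
          · exact (le_iSup₂ (f := fun l (_ : l ≠ i0) => D l) i1 h01.symm) hd1
        have := (hD.indep i0).le_bot ⟨hd0, h1⟩
        exact hd00 (by simpa using this)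
  have hsum0 : d0 + d1 ≠ 0 := by
    intro h
    apply hsum i0
    rw [h]
    exact (D i0).zero_mem
  refine not_le_of_invariant_set {v | ∃ i, v ∈ D i} ?_ ⟨i0, hd0⟩ hd00 ?_ hsum0
  · rintro g ⟨σ, hσ⟩ v ⟨i, hv⟩
    refine ⟨σ i, ?_⟩
    rw [← hσ i]
    exact ⟨v, hv, by rw [Matrix.toLin'_apply]⟩
  · rintro ⟨j, hj⟩
    exact hsum j hj

/-! ### matrices commuting with all symplectic transvections are scalar -/

/-- a matrix for which every vector is an eigenvector is scalar -/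
lemma eq_smul_one_of_forall_eigen {κ : Type} [Fintype κ] [DecidableEq κ] [Nonempty κ]
    (k : Matrix κ κ F)
    (h : ∀ u : κ → F, ∃ a : F, k *ᵥ u = a • u) : ∃ c : F, k = c • (1 : Matrix κ κ F) := by
  classical
  choose a ha using h
  obtain ⟨i0⟩ := (inferInstance : Nonempty κ)
  have hcol : ∀ j i, k i j = a (Pi.single j 1) * (if i = j then 1 else 0) := by
    intro j i
    have := congrFun (ha (Pi.single j 1)) i
    rw [Matrix.mulVec_single_one] at this
    simp only [Matrix.col_apply, Pi.smul_apply, smul_eq_mul, Pi.single_apply] at this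
    exact this
  have hall : ∀ j, a (Pi.single j 1) = a (Pi.single i0 1) := by
    intro j
    by_cases hj : j = i0
    · rw [hj]
    · have h1 := ha (Pi.single j 1 + Pi.single i0 1)
      rw [Matrix.mulVec_add, ha, ha] at h1
      have e1 := congrFun h1 j
      have e2 := congrFun h1 i0
      simp [Pi.single_apply, hj, Ne.symm hj] at e1 e2
      rw [e1, e2]
  refine ⟨a (Pi.single i0 1), ?_⟩
  ext i j
  rw [hcol j i, hall j, Matrix.smul_apply, Matrix.one_apply, smul_eq_mul]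

/-- a matrix commuting with all symplectic transvections is scalar -/
theorem eq_smul_one_of_commute_tvSp (hm : 0 < m) (k : Matrix (Fin m ⊕ Fin m) (Fin m ⊕ Fin m) F)
    (h : ∀ u : Fin m ⊕ Fin m → F,
      ((tvSp u 1 : GL (Fin m ⊕ Fin m) F) : Matrix (Fin m ⊕ Fin m) (Fin m ⊕ Fin m) F) * k =
        k * ((tvSp u 1 : GL (Fin m ⊕ Fin m) F) : Matrix (Fin m ⊕ Fin m) (Fin m ⊕ Fin m) F)) :
    ∃ c : F, k = c • (1 : Matrix (Fin m ⊕ Fin m) (Fin m ⊕ Fin m) F) := by
  have : Nonempty (Fin m ⊕ Fin m) := ⟨Sum.inl ⟨0, hm⟩⟩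
  apply eq_smul_one_of_forall_eigen
  intro u
  by_cases hu : u = 0
  · exact ⟨0, by rw [hu, Matrix.mulVec_zero, smul_zero]⟩
  obtain ⟨x, hx⟩ := exists_form_eq_one hu
  have h1 := congrArg (fun M => M *ᵥ x) (h u)
  simp only [← Matrix.mulVec_mulVec] at h1
  rw [tvSp_mulVec, tvSp_mulVec, hx, one_mul, one_mul, one_smul, Matrix.mulVec_add] at h1
  refine ⟨Cfsg.sympForm m F (k *ᵥ x) u, ?_⟩
  exact (add_left_cancel h1).symm

/-! ### class 3 -/

lemma tvSp_inv (w : Fin m ⊕ Fin m → F) (c : F) : (tvSp w c)⁻¹ = tvSp w (-c) := by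
  unfold tvSp sympToGL
  rw [← Cfsg.Agent.Lib.Helper5_PSpSimple.transv_inv, map_inv]
  rfl

theorem not_le_subalgebraNormalizer (hm : 2 ≤ m) {r : ℕ} (hr : 1 < r)
    {K : Subalgebra F (Matrix (Fin m ⊕ Fin m) (Fin m ⊕ Fin m) F)} (hK : IsFieldSubalgebra r K) :
    ¬ Cfsg.spGL m F ≤ subalgebraNormalizer K := by
  classical
  intro hle
  have : Nonempty (Fin m ⊕ Fin m) := ⟨Sum.inl ⟨0, by omega⟩⟩
  -- a non-scalar element of `K`
  have hex : ∃ θ ∈ K, ¬ ∃ c : F, θ = c • (1 : Matrix (Fin m ⊕ Fin m) (Fin m ⊕ Fin m) F) := by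
    by_contra hcon
    push Not at hcon
    have hKbot : K = ⊥ := by
      rw [eq_bot_iff]
      intro x hx
      obtain ⟨c, hc⟩ := hcon x hx
      rw [Algebra.mem_bot]
      exact ⟨c, by rw [hc, Algebra.algebraMap_eq_smul_one]⟩
    have := hK.finrank_eq
    rw [hKbot, Subalgebra.finrank_bot] at this
    omega
  obtain ⟨θ, hθK, hθ⟩ := hex
  apply hθ
  apply eq_smul_one_of_commute_tvSp (by omega)
  intro u
  set T : GL (Fin m ⊕ Fin m) F := tvSp u 1 with hT
  have hTK : (T : Matrix (Fin m ⊕ Fin m) (Fin m ⊕ Fin m) F) * θ *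
      ((T⁻¹ : GL (Fin m ⊕ Fin m) F) : Matrix (Fin m ⊕ Fin m) (Fin m ⊕ Fin m) F) ∈ K :=
    ((hle (tvSp_mem u 1)) θ).mp hθK
  set θ' := (T : Matrix (Fin m ⊕ Fin m) (Fin m ⊕ Fin m) F) * θ *
      ((T⁻¹ : GL (Fin m ⊕ Fin m) F) : Matrix (Fin m ⊕ Fin m) (Fin m ⊕ Fin m) F) with hθ'
  -- a non-zero vector killed by both linear forms
  let φ : (Fin m ⊕ Fin m → F) →ₗ[F] (Fin 2 → F) :=
    LinearMap.pi ![formLin u, (formLin u).comp (Matrix.toLin' θ)]
  have hker : LinearMap.ker φ ≠ ⊥ := by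
    apply LinearMap.ker_ne_bot_of_finrank_lt
    rw [Module.finrank_fin_fun, Module.finrank_fintype_fun_eq_card, Fintype.card_sum, Fintype.card_fin]
    omega
  obtain ⟨x, hxk, hx0⟩ := Submodule.exists_mem_ne_zero_of_ne_bot hker
  rw [LinearMap.mem_ker] at hxk
  have hx1 : Cfsg.sympForm m F x u = 0 := by
    have := congrFun hxk 0
    simpa [φ, formLin_apply] using this
  have hx2 : Cfsg.sympForm m F (θ *ᵥ x) u = 0 := by
    have := congrFun hxk 1
    simpa [φ, formLin_apply] using this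
  have hTinv : ((tvSp u (-1) : GL (Fin m ⊕ Fin m) F) : Matrix (Fin m ⊕ Fin m) (Fin m ⊕ Fin m) F) *ᵥ x = x := by
    rw [tvSp_mulVec, hx1, mul_zero, zero_smul, add_zero]
  have hθ'x : θ' *ᵥ x = θ *ᵥ x := by
    rw [hθ', ← Matrix.mulVec_mulVec, ← Matrix.mulVec_mulVec, hT, tvSp_inv, hTinv, tvSp_mulVec, hx2, mul_zero,
      zero_smul, add_zero]
  have hsub : θ' - θ ∈ K := K.sub_mem hTK hθK
  have hzero : θ' - θ = 0 := by
    by_contra hne
    obtain ⟨y, -, hy⟩ := hK.inv _ hsub hne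
    have hy' : y * (θ' - θ) = 1 := mul_eq_one_comm.mp hy
    apply hx0
    have : (y * (θ' - θ)) *ᵥ x = 0 := by
      rw [← Matrix.mulVec_mulVec, Matrix.sub_mulVec, hθ'x, sub_self, Matrix.mulVec_zero]
    rwa [hy', Matrix.one_mulVec] at this
  have heq : θ' = θ := sub_eq_zero.mp hzero
  have : θ' * (T : Matrix (Fin m ⊕ Fin m) (Fin m ⊕ Fin m) F) =
      (T : Matrix (Fin m ⊕ Fin m) (Fin m ⊕ Fin m) F) * θ := by
    rw [hθ', mul_assoc, ← Units.val_mul, inv_mul_cancel, Units.val_one, mul_one]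
  rw [heq] at this
  exact this.symm

end Cfsg.Agent.Lib.Helper67_SpAschMax
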