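import Mathlib
import Cfsg.Agent.Lib.Helper68_StSpDefs
import Cfsg.Agent.Lib.Helper44_SpUT
import Cfsg.Agent.Lib.Helper67_SpAschMax

/-!
# S2545 package CENTER (architect helper68, proof helper9)

The centre of `Sp_{2m}(F)` consists of scalar matrices, hence lies in the Borel subgroup.
-/

set_option autoImplicit false

namespace Cfsg.Agent.Lib.Helper9_StSp_CENTER

open Matrix Cfsg.Agent.Lib.Helper68_MatGrp Cfsg.Agent.Lib.Helper5_SpPerfect
  Cfsg.Agent.Lib.Helper68_StSpDefs Cfsg.Agent.Lib.Helper13_SympTrans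

variable {m : ℕ} {F : Type*} [Field F]

/-- a central element is a scalar matrix -/
theorem center_scalar (hm : 0 < m) (z : ↥(symplecticGroup (Fin m) F))
    (hz : z ∈ Subgroup.center ↥(symplecticGroup (Fin m) F)) :
    ∃ c : F, z.1 = c • (1 : Matrix (Fin m ⊕ Fin m) (Fin m ⊕ Fin m) F) := by
  apply Cfsg.Agent.Lib.Helper67_SpAschMax.eq_smul_one_of_commute_tvSp hm z.1
  intro u
  have h1 := Subgroup.mem_center_iff.mp hz (transv m u 1)
  have h2 : (transv m u 1).1 * z.1 = z.1 * (transv m u 1).1 := congrArg Subtype.val h1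
  exact h2

theorem center_le_Bsp : Subgroup.center ↥(symplecticGroup (Fin m) F) ≤ Bsp m F := by
  intro z hz
  rw [mem_Bsp]
  intro a b hab
  rcases Nat.eq_zero_or_pos m with hm | hm
  · subst hm
    exact a.elim (fun i => i.elim0) (fun i => i.elim0)
  · obtain ⟨c, hc⟩ := center_scalar hm z hz
    have hne : a ≠ b := by
      rintro rfl
      exact lt_irrefl _ hab
    rw [hc, Matrix.smul_apply, Matrix.one_apply_ne hne, smul_zero]

end Cfsg.Agent.Lib.Helper9_StSp_CENTER
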