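/-
S2545: the Steinberg character of `PSp_{2m}(q)` - ASSEMBLY of the `stsp_packages` market
(architect helper68; packages by helper68, helper64, helper93, helper2, helper9, helper63).
-/
import Mathlib
import Cfsg.Agent.Lib.Helper68_StSpDefs
import Cfsg.Agent.Lib.Helper68_StAbs
import Cfsg.Agent.Lib.Helper44_SpUT
import Cfsg.Agent.Lib.Helper68_StSp_SWAP
import Cfsg.Agent.Lib.Helper68_StSp_MONOW
import Cfsg.Agent.Lib.Helper68_StSp_OPP
import Cfsg.Agent.Lib.Helper68_StSp_R2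
import Cfsg.Agent.Lib.Helper68_StSp_XB
import Cfsg.Agent.Lib.Helper68_StSp_SQ
import Cfsg.Agent.Lib.Helper68_StSp_INJ
import Cfsg.Agent.Lib.Helper68_StSp_JREV
import Cfsg.Agent.Lib.Helper93_StSp_R1S
import Cfsg.Agent.Lib.Helper93_StSp_R1X
import Cfsg.Agent.Lib.Helper64_StSp_R3S
import Cfsg.Agent.Lib.Helper64_StSp_R3X
import Cfsg.Agent.Lib.Helper63_StSp_GENB
import Cfsg.Agent.Lib.Helper2_StSp_CARDB
import Cfsg.Agent.Lib.Helper9_StSp_CENTER
import Cfsg.Agent.Lib.Helper9_StSp_GENA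

set_option autoImplicit false
set_option linter.unusedSectionVars false
set_option linter.unusedVariables false

namespace Cfsg.Agent.Lib.Helper68_StSp

open Matrix Cfsg.Agent.Lib.Helper68_MatGrp Cfsg.Agent.Lib.Helper5_SpPerfect
  Cfsg.Agent.Lib.Helper68_StSpDefs Cfsg.Agent.Lib.Helper13_SympTrans

variable {m : ℕ} {F : Type*} [Field F]

/-! ## PACKAGES (forwarded under local names) -/

theorem mono_swap {n : ↥(symplecticGroup (Fin m) F)} {σ : Equiv.Perm (Fin m ⊕ Fin m)}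
    (hn : IsMono (φ m F) n σ) (a : Fin m ⊕ Fin m) : σ (Sum.swap a) = Sum.swap (σ a) :=
  Cfsg.Agent.Lib.Helper68_StSp_SWAP.mono_swap hn a

theorem wL_isMono (i k : Fin m) :
    IsMono (φ m F) (wL i k) (Equiv.sumCongr (Equiv.swap i k) (Equiv.swap i k)) :=
  Cfsg.Agent.Lib.Helper68_StSp_MONOW.wL_isMono i k

theorem wX_isMono (i : Fin m) :
    IsMono (φ m F) (wX i) (Equiv.swap (Sum.inl i) (Sum.inr i)) :=
  Cfsg.Agent.Lib.Helper68_StSp_MONOW.wX_isMono i

theorem r1S (i k : Fin m) (hk : i.val + 1 = k.val) (hik : i ≠ k) (b : ↥(symplecticGroup (Fin m) F))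
    (hb : b ∈ Bsp m F) : ∃ t : F, wL i k * (b * (xL i k hik t)⁻¹) * (wL i k)⁻¹ ∈ Bsp m F :=
  Cfsg.Agent.Lib.Helper93_StSp_R1S.r1S i k hk hik b hb

theorem r1X (i : Fin m) (hi : i.val + 1 = m) (b : ↥(symplecticGroup (Fin m) F))
    (hb : b ∈ Bsp m F) : ∃ t : F, wX i * (b * (xX i t)⁻¹) * (wX i)⁻¹ ∈ Bsp m F :=
  Cfsg.Agent.Lib.Helper93_StSp_R1X.r1X i hi b hb

theorem oppL (i k : Fin m) (hik : i ≠ k) (t : F) :
    (wL i k)⁻¹ * xL i k hik t * wL i k = xL k i hik.symm t :=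
  Cfsg.Agent.Lib.Helper68_StSp_OPP.oppL i k hik t

theorem oppL' (i k : Fin m) (hik : i ≠ k) (t : F) :
    wL i k * xL i k hik t * (wL i k)⁻¹ = xL k i hik.symm t :=
  Cfsg.Agent.Lib.Helper68_StSp_OPP.oppL' i k hik t

theorem oppX (i : Fin m) (t : F) : (wX i)⁻¹ * xX i t * wX i = yX i (-t) :=
  Cfsg.Agent.Lib.Helper68_StSp_OPP.oppX i t

theorem oppX' (i : Fin m) (t : F) : wX i * xX i t * (wX i)⁻¹ = yX i (-t) :=
  Cfsg.Agent.Lib.Helper68_StSp_OPP.oppX' i t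

theorem r2S (i k : Fin m) (hik : i ≠ k) (n : ↥(symplecticGroup (Fin m) F))
    (σ : Equiv.Perm (Fin m ⊕ Fin m)) (hn : IsMono (φ m F) n σ)
    (hsw : ∀ a, σ (Sum.swap a) = Sum.swap (σ a)) :
    (∀ t : F, n⁻¹ * xL i k hik t * n ∈ Bsp m F) ∨ (∀ t : F, n⁻¹ * xL k i hik.symm t * n ∈ Bsp m F) :=
  Cfsg.Agent.Lib.Helper68_StSp_R2.r2S i k hik n σ hn hsw

theorem r2X (i : Fin m) (n : ↥(symplecticGroup (Fin m) F))
    (σ : Equiv.Perm (Fin m ⊕ Fin m)) (hn : IsMono (φ m F) n σ)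
    (hsw : ∀ a, σ (Sum.swap a) = Sum.swap (σ a)) :
    (∀ t : F, n⁻¹ * xX i t * n ∈ Bsp m F) ∨ (∀ t : F, n⁻¹ * yX i t * n ∈ Bsp m F) :=
  Cfsg.Agent.Lib.Helper68_StSp_R2.r2X i n σ hn hsw

theorem r3S (i k : Fin m) (hlt : i < k) (hik : i ≠ k) (t : F) (ht : t ≠ 0) :
    ∃ b ∈ Bsp m F, ∃ t' : F, wL i k * xL i k hik t * (wL i k)⁻¹ = b * wL i k * xL i k hik t' :=
  Cfsg.Agent.Lib.Helper64_StSp_R3S.r3S i k hlt hik t ht

theorem r3X (i : Fin m) (t : F) (ht : t ≠ 0) :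
    ∃ b ∈ Bsp m F, ∃ t' : F, wX i * xX i t * (wX i)⁻¹ = b * wX i * xX i t' :=
  Cfsg.Agent.Lib.Helper64_StSp_R3X.r3X i t ht

theorem xL_mem_Bsp (i k : Fin m) (hlt : i < k) (hik : i ≠ k) (t : F) : xL i k hik t ∈ Bsp m F :=
  Cfsg.Agent.Lib.Helper68_StSp_XB.xL_mem_Bsp i k hlt hik t

theorem xX_mem_Bsp (i : Fin m) (t : F) : xX i t ∈ Bsp m F :=
  Cfsg.Agent.Lib.Helper68_StSp_XB.xX_mem_Bsp i t

theorem xL_not_mem_Bsp (i k : Fin m) (hlt : i < k) (hik : i ≠ k) (t : F) (ht : t ≠ 0) :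
    xL k i hik.symm t ∉ Bsp m F :=
  Cfsg.Agent.Lib.Helper68_StSp_XB.xL_not_mem_Bsp i k hlt hik t ht

theorem yX_not_mem_Bsp (i : Fin m) (t : F) (ht : t ≠ 0) : yX i t ∉ Bsp m F :=
  Cfsg.Agent.Lib.Helper68_StSp_XB.yX_not_mem_Bsp i t ht

theorem wL_sq (i k : Fin m) : (wL i k : ↥(symplecticGroup (Fin m) F)) * wL i k = 1 :=
  Cfsg.Agent.Lib.Helper68_StSp_SQ.wL_sq i k

theorem wX_sq (i : Fin m) : (wX i : ↥(symplecticGroup (Fin m) F)) * wX i ∈ Tsp m F :=
  Cfsg.Agent.Lib.Helper68_StSp_SQ.wX_sq i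

theorem ss_inj (i j : Fin m) (h : (ss i : ↥(symplecticGroup (Fin m) F))⁻¹ * ss j ∈ Bsp m F) : i = j :=
  Cfsg.Agent.Lib.Helper68_StSp_INJ.ss_inj i j h

theorem symJ_isMono : IsMono (φ m F) (SymplecticGroup.symJ (Fin m) F) (Equiv.sumComm (Fin m) (Fin m)) :=
  Cfsg.Agent.Lib.Helper68_StSp_JREV.symJ_isMono

/-- GENA -/
theorem genA (hm : 0 < m) (a : Fin m ⊕ Fin m) :
    ∃ n ∈ Subgroup.closure (Set.range (ss (m := m) (F := F))), ∃ ε : F,
      n.1 *ᵥ (Pi.single (Sum.inl ⟨0, hm⟩) 1) = Pi.single a ε :=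
  Cfsg.Agent.Lib.Helper9_StSp_GENA.genA hm a

/-- GENB -/
theorem genB (w : Fin m ⊕ Fin m → F) (hw : w ≠ 0) :
    ∃ b ∈ Bsp m F, ∃ a : Fin m ⊕ Fin m, ∃ α : F, b.1 *ᵥ (Pi.single a α) = w :=
  Cfsg.Agent.Lib.Helper63_StSp_GENB.genB w hw

/-- CARDB -/
theorem card_Bsp [Fintype F] :
    Nat.card (Bsp m F) = Nat.card (Tsp m F) * Fintype.card F ^ (m ^ 2) :=
  Cfsg.Agent.Lib.Helper2_StSp_CARDB.card_Bsp

/-- CENTER -/
theorem center_le_Bsp : Subgroup.center ↥(symplecticGroup (Fin m) F) ≤ Bsp m F :=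
  Cfsg.Agent.Lib.Helper9_StSp_CENTER.center_le_Bsp

/-! ## ASSEMBLY -/

theorem succ_ne (j : Fin m) (h : j.val + 1 < m) : j ≠ ⟨j.val + 1, h⟩ := by
  intro e; have := congrArg Fin.val e; simp at this

theorem xs_of_lt (j : Fin m) (h : j.val + 1 < m) (t : F) :
    xs j t = xL j ⟨j.val + 1, h⟩ (succ_ne j h) t := by
  unfold xs; rw [dif_pos h]

theorem xs_of_not_lt (j : Fin m) (h : ¬ j.val + 1 < m) (t : F) : xs j t = xX j t := by
  unfold xs; rw [dif_neg h]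

theorem ss_of_lt (j : Fin m) (h : j.val + 1 < m) :
    (ss j : ↥(symplecticGroup (Fin m) F)) = wL j ⟨j.val + 1, h⟩ := by
  unfold ss; rw [dif_pos h]

theorem ss_of_not_lt (j : Fin m) (h : ¬ j.val + 1 < m) :
    (ss j : ↥(symplecticGroup (Fin m) F)) = wX j := by
  unfold ss; rw [dif_neg h]

theorem ss_mem_Msp (j : Fin m) : (ss j : ↥(symplecticGroup (Fin m) F)) ∈ Msp m F := by
  by_cases h : j.val + 1 < m
  · rw [ss_of_lt j h]
    exact ⟨_, wL_isMono _ _⟩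
  · rw [ss_of_not_lt j h]
    exact ⟨_, wX_isMono _⟩

theorem Nsp_le_Msp : Nsp m F ≤ Msp m F := by
  unfold Nsp
  apply sup_le
  · rw [Subgroup.closure_le]
    rintro _ ⟨j, rfl⟩
    exact ss_mem_Msp j
  · exact Diag_le_Mono _

theorem Bsp_inf_Nsp : Bsp m F ⊓ Nsp m F = Tsp m F := by
  apply le_antisymm
  · rintro g ⟨hB, hN⟩
    exact mem_Diag_of_mono_of_UT (φ m F) (ht m) (ht_injective m) (Nsp_le_Msp hN) hB
  · apply le_inf
    · exact Diag_le_UT _ _
    · exact le_sup_right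

theorem transv_mem_sup (hm : 0 < m) (w : Fin m ⊕ Fin m → F) (c : F) :
    transv m w c ∈ Bsp m F ⊔ Nsp m F := by
  by_cases hw : w = 0
  · subst hw
    have : transv m (0 : Fin m ⊕ Fin m → F) c = 1 := by
      apply Subtype.ext
      show Cfsg.sympTransvection m 0 c = 1
      simp [Cfsg.sympTransvection]
    rw [this]; exact one_mem _
  · obtain ⟨b, hb, a, α, hbα⟩ := genB w hw
    obtain ⟨n, hn, ε, hnε⟩ := genA (F := F) hm a
    have hB : b ∈ Bsp m F ⊔ Nsp m F := (le_sup_left : Bsp m F ≤ _) hb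
    have hN : n ∈ Bsp m F ⊔ Nsp m F :=
      (le_sup_right : Nsp m F ≤ _) ((le_sup_left : _ ≤ Nsp m F) hn)
    -- `w = b (α/ε) n e₀`
    have hε : ε ≠ 0 := by
      rintro rfl
      have h1 : n.1 *ᵥ (Pi.single (Sum.inl ⟨0, hm⟩) (1 : F)) = 0 := by
        rw [hnε]; simp
      have h2 := congrArg (fun v => (n⁻¹).1 *ᵥ v) h1
      simp only [Matrix.mulVec_mulVec, Matrix.mulVec_zero] at h2
      have h3 : (n⁻¹).1 * n.1 = 1 := by
        have := congrArg Subtype.val (inv_mul_cancel n)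
        exact this
      rw [h3, Matrix.one_mulVec] at h2
      have := congrFun h2 (Sum.inl ⟨0, hm⟩)
      simp at this
    have hw' : w = (b * n).1 *ᵥ ((α / ε) • (Pi.single (Sum.inl ⟨0, hm⟩) (1 : F))) := by
      rw [Submonoid.coe_mul, ← Matrix.mulVec_mulVec, Matrix.mulVec_smul, hnε, ← hbα]
      congr 1
      ext x
      simp only [Pi.smul_apply, Pi.single_apply, smul_eq_mul]
      split_ifs
      · field_simp
      · simp
    have hsm : transv m ((α / ε) • (Pi.single (Sum.inl ⟨0, hm⟩) (1 : F))) c ∈ Bsp m F ⊔ Nsp m F := by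
      have e : transv m ((α / ε) • (Pi.single (Sum.inl ⟨0, hm⟩) (1 : F))) c =
          transv m (Pi.single (Sum.inl ⟨0, hm⟩) (1 : F)) ((α / ε) ^ 2 * c) := by
        apply Subtype.ext
        show Cfsg.sympTransvection m _ c = Cfsg.sympTransvection m _ _
        unfold Cfsg.sympTransvection
        rw [Matrix.mulVec_smul, Matrix.vecMulVec_smul, Matrix.smul_vecMulVec, smul_smul, smul_smul]
        congr 2
        ring
      rw [e, transv_single]
      apply (le_sup_left : Bsp m F ≤ _)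
      exact xX_mem_Bsp _ _
    rw [hw', ← conj_transv]
    exact Subgroup.mul_mem _ (Subgroup.mul_mem _ (Subgroup.mul_mem _ hB hN) hsm)
      (Subgroup.inv_mem _ (Subgroup.mul_mem _ hB hN))

theorem sup_eq_top (hm : 0 < m) : Bsp m F ⊔ Nsp m F = ⊤ := by
  rw [eq_top_iff, ← Cfsg.Agent.S0765.result m, Subgroup.closure_le]
  rintro A ⟨w, c, hA⟩
  have : A = transv m w c := Subtype.ext hA
  rw [this]
  exact transv_mem_sup hm w c

theorem xs_mem_Bsp (j : Fin m) (t : F) : xs j t ∈ Bsp m F := by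
  by_cases h : j.val + 1 < m
  · rw [xs_of_lt j h]
    exact xL_mem_Bsp _ _ (by rw [Fin.lt_def]; simp) _ t
  · rw [xs_of_not_lt j h]
    exact xX_mem_Bsp j t

theorem xL_apply_inl (i k : Fin m) (hik : i ≠ k) (t : F) :
    (xL i k hik t).1 (Sum.inl i) (Sum.inl k) = t := by
  rw [xL_val, Matrix.fromBlocks_apply₁₁, Matrix.add_apply, Matrix.one_apply_ne hik,
    Matrix.single_apply_same, zero_add]

theorem xs_eq_one_iff (j : Fin m) (t : F) : xs j t = 1 ↔ t = 0 := by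
  constructor
  · intro h
    by_cases hj : j.val + 1 < m
    · rw [xs_of_lt j hj] at h
      have h1 := xL_apply_inl j ⟨j.val + 1, hj⟩ (succ_ne j hj) t
      rw [h] at h1
      have h2 : ((1 : ↥(symplecticGroup (Fin m) F)) : Matrix (Fin m ⊕ Fin m) (Fin m ⊕ Fin m) F)
          (Sum.inl j) (Sum.inl ⟨j.val + 1, hj⟩) = 0 := by
        rw [Submonoid.coe_one]
        exact Matrix.one_apply_ne (by
          intro e
          exact succ_ne j hj (Sum.inl_injective e))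
      rw [← h1, h2]
    · rw [xs_of_not_lt j hj] at h
      have h1 : (xX j t).1 (Sum.inl j) (Sum.inr j) = t := by
        rw [xX_val, Matrix.fromBlocks_apply₁₂, Matrix.single_apply_same]
      rw [h] at h1
      have h2 : ((1 : ↥(symplecticGroup (Fin m) F)) : Matrix (Fin m ⊕ Fin m) (Fin m ⊕ Fin m) F)
          (Sum.inl j) (Sum.inr j) = 0 := by
        rw [Submonoid.coe_one]
        exact Matrix.one_apply_ne (by simp)
      rw [← h1, h2]
  · rintro rfl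
    exact xs_zero j

/-- the root-subgroup data of `Sp_{2m}(F)` -/
noncomputable def spRDat (hm : 0 < m) : Cfsg.Agent.Lib.Helper68_StAbs.RDat ↥(symplecticGroup (Fin m) F) m where
  B := Bsp m F
  N := Nsp m F
  s := ss
  U := Us
  sup_eq_top := sup_eq_top hm
  conj_mem := by
    intro n hn t ht
    rw [Bsp_inf_Nsp] at ht
    exact Diag_le_UT _ _ (conj_mem_Diag (φ m F) (Nsp_le_Msp hn) ht)
  s_mem := fun j => (le_sup_left : _ ≤ Nsp m F) (Subgroup.subset_closure ⟨j, rfl⟩)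
  sq_mem := by
    intro j
    by_cases h : j.val + 1 < m
    · rw [ss_of_lt j h, wL_sq]; exact one_mem _
    · rw [ss_of_not_lt j h]
      exact Diag_le_UT _ _ (wX_sq j)
  inj := ss_inj
  closure_sup := by
    rw [Bsp_inf_Nsp]
    rfl
  U_le := by
    rintro j _ ⟨t, rfl⟩
    exact xs_mem_Bsp j t
  r1 := by
    intro j b hb
    by_cases h : j.val + 1 < m
    · obtain ⟨t, ht⟩ := r1S j ⟨j.val + 1, h⟩ rfl (succ_ne j h) b hb
      refine ⟨xs j t, ⟨t, rfl⟩, ?_⟩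
      rw [xs_of_lt j h, ss_of_lt j h]
      exact ht
    · obtain ⟨t, ht⟩ := r1X j (by have := j.2; omega) b hb
      refine ⟨xs j t, ⟨t, rfl⟩, ?_⟩
      rw [xs_of_not_lt j h, ss_of_not_lt j h]
      exact ht
  r2 := by
    intro j n hn
    obtain ⟨σ, hσ⟩ := Nsp_le_Msp hn
    have hsw := mono_swap hσ
    by_cases h : j.val + 1 < m
    · rcases r2S j ⟨j.val + 1, h⟩ (succ_ne j h) n σ hσ hsw with h1 | h1
      · left
        rintro _ ⟨t, rfl⟩
        rw [xs_of_lt j h]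
        exact h1 t
      · right
        rintro _ ⟨t, rfl⟩
        rw [xs_of_lt j h, ss_of_lt j h, oppL]
        exact h1 t
    · rcases r2X j n σ hσ hsw with h1 | h1
      · left
        rintro _ ⟨t, rfl⟩
        rw [xs_of_not_lt j h]
        exact h1 t
      · right
        rintro _ ⟨t, rfl⟩
        rw [xs_of_not_lt j h, ss_of_not_lt j h, oppX]
        exact h1 (-t)
  r3 := by
    rintro j _ ⟨t, rfl⟩ hu
    have ht : t ≠ 0 := fun h0 => hu ((xs_eq_one_iff j t).2 h0)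
    by_cases h : j.val + 1 < m
    · obtain ⟨b, hb, t', e⟩ := r3S j ⟨j.val + 1, h⟩ (by rw [Fin.lt_def]; simp) (succ_ne j h) t ht
      refine ⟨b, hb, xs j t', ⟨t', rfl⟩, ?_⟩
      rw [xs_of_lt j h, xs_of_lt j h, ss_of_lt j h]
      exact e
    · obtain ⟨b, hb, t', e⟩ := r3X j t ht
      refine ⟨b, hb, xs j t', ⟨t', rfl⟩, ?_⟩
      rw [xs_of_not_lt j h, xs_of_not_lt j h, ss_of_not_lt j h]
      exact e
  r4 := by
    intro j
    refine ⟨xs j 1, ⟨1, rfl⟩, ?_⟩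
    by_cases h : j.val + 1 < m
    · rw [xs_of_lt j h, ss_of_lt j h, oppL']
      exact xL_not_mem_Bsp j ⟨j.val + 1, h⟩ (by rw [Fin.lt_def]; simp) (succ_ne j h) 1 one_ne_zero
    · rw [xs_of_not_lt j h, ss_of_not_lt j h, oppX']
      exact yX_not_mem_Bsp j (-1) (by simp)

/-- **The Steinberg character of `PSp_{2m}(F)`.** -/
theorem exists_steinberg_psp [Fintype F] (p : ℕ) [Fact p.Prime] [CharP F p] (hm : 1 ≤ m) :
    ∃ χ : Cfsg.PSp m F → ℂ, Cfsg.IsIrrCharacter (Cfsg.PSp m F) χ ∧ ∀ P : Sylow p (Cfsg.PSp m F),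
      χ 1 = Nat.card P ∧ ∀ x : Cfsg.PSp m F, x ∈ P → x ≠ 1 → χ x = 0 := by
  classical
  have hp : p.Prime := Fact.out
  obtain ⟨f, -, hf⟩ := FiniteField.card F p
  have hfin : Finite ↥(symplecticGroup (Fin m) F) := Subtype.finite
  have hfact := Cfsg.Agent.Lib.Helper44_SpUT.factorization_card_sp (m := m) (F := F) hf
  refine Cfsg.Agent.Lib.Helper68_StAbs.exists_steinberg (spRDat (F := F) hm) p ((f : ℕ) * m ^ 2) ?_
    (SymplecticGroup.symJ (Fin m) F) ?_ ?_ (Subgroup.center _) le_rfl center_le_Bsp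
  · show Nat.card (Bsp m F) = Nat.card ↥(Bsp m F ⊓ Nsp m F) * _
    rw [Bsp_inf_Nsp, card_Bsp, hf, ← pow_mul]
  · intro b hb hc
    have hD : b ∈ Tsp m F := by
      apply mem_Diag_of_conj_rev (φ m F) (ht m) (ht_injective m) symJ_isMono _ hb hc
      intro a c hac
      show ht m (Sum.swap c) < ht m (Sum.swap a)
      rw [ht_swap, ht_swap]
      have := ht_lt m a
      have := ht_lt m c
      omega
    exact (le_sup_right : Tsp m F ≤ Nsp m F) hD
  · refine ⟨Nat.card ↥(symplecticGroup (Fin m) F) / p ^ ((f : ℕ) * m ^ 2), ?_, ?_⟩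
    · rw [← hfact]
      exact (Nat.ordProj_mul_ordCompl_eq_self _ p).symm
    · rw [← hfact]
      exact Nat.not_dvd_ordCompl hp Nat.card_pos.ne'

end Cfsg.Agent.Lib.Helper68_StSp
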