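import Mathlib
import Cfsg.Agent.Lib.Helper68_StSp

/-!
# S2316 (architect helper30): `Sp_{2m}(q)` has `q^(2m²)` elements of `p`-power order — definitions

Route: `Helper81_PCount.card_pElements` (Steinberg's count for a split (B, N)-pair) applied to the (B, N)-pair
`bnPair (spRDat hm)` of `Sp_{2m}(F)` (helper68).  Everything is done in matrices over `Fin m ⊕ Fin m` with the
heights `ht m` (`e_1 < … < e_m < f_m < … < f_1`) of `Helper68_StSpDefs`.

* `UU φ bl`: the elements `g` with `φ g a b = 1 a b` whenever `bl b ≤ bl a` (block unitriangular for the block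
  function `bl`); `UT φ bl` (helper68) is the block upper triangular group; `UT φ bl` normalizes `UU φ bl`.
* `gapRoot m g`: the simple root at the gap between the heights `g` and `g + 1`; `IsCut m J g`: that root is not
  in `J`; `blk m J a`: the number of cuts below the height of `a`.
* `PJ m F J = UT (φ m F) (blk m J)` contains the standard parabolic subgroup of `J`, `KJ m F J = UU (φ m F) (blk m J)`
  is its unipotent radical; `USp m F = UU (φ m F) (ht m)`.
-/

set_option autoImplicit false
set_option linter.unusedSectionVars false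
set_option linter.unusedVariables false

namespace Cfsg.Agent.Lib.Helper30_S2316

open Matrix Cfsg Cfsg.Agent.Lib.Helper68_MatGrp Cfsg.Agent.Lib.Helper5_SpPerfect
  Cfsg.Agent.Lib.Helper68_StSpDefs

section generic

variable {ι : Type*} [Fintype ι] [DecidableEq ι] {F : Type*} [Field F]
variable {G : Type*} [Group G] (φ : G →* Matrix ι ι F) (bl : ι → ℕ)

/-- strictly block upper triangular matrices -/
def Strict (bl : ι → ℕ) (N : Matrix ι ι F) : Prop := ∀ a b, bl b ≤ bl a → N a b = 0

theorem Strict.blockTriangular {N : Matrix ι ι F} (hN : Strict bl N) : N.BlockTriangular bl :=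
  fun a b hab => hN a b hab.le

theorem Strict.add {N N' : Matrix ι ι F} (hN : Strict bl N) (hN' : Strict bl N') :
    Strict bl (N + N') := fun a b hab => by
  rw [Matrix.add_apply, hN a b hab, hN' a b hab, add_zero]

theorem Strict.neg {N : Matrix ι ι F} (hN : Strict bl N) : Strict bl (-N) := fun a b hab => by
  rw [Matrix.neg_apply, hN a b hab, neg_zero]

theorem Strict.mul_left {A N : Matrix ι ι F} (hA : A.BlockTriangular bl) (hN : Strict bl N) :
    Strict bl (A * N) := fun a b hab => by
  rw [Matrix.mul_apply]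
  apply Finset.sum_eq_zero
  intro c _
  by_cases hc : bl c < bl a
  · rw [hA hc, zero_mul]
  · rw [hN c b (hab.trans (not_lt.mp hc)), mul_zero]

theorem Strict.mul_right {A N : Matrix ι ι F} (hN : Strict bl N) (hA : A.BlockTriangular bl) :
    Strict bl (N * A) := fun a b hab => by
  rw [Matrix.mul_apply]
  apply Finset.sum_eq_zero
  intro c _
  by_cases hc : bl c ≤ bl a
  · rw [hN a c hc, zero_mul]
  · rw [hA (lt_of_le_of_lt hab (not_le.mp hc)), mul_zero]

/-- the block unitriangular elements: `φ g a b = 1 a b` whenever `bl b ≤ bl a` -/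
def UU : Subgroup G where
  carrier := {g | Strict bl (φ g - 1)}
  mul_mem' := by
    intro g h hg hh
    show Strict bl (φ (g * h) - 1)
    have e : φ (g * h) - 1 = (φ g - 1) * (φ h - 1) + ((φ g - 1) + (φ h - 1)) := by
      rw [map_mul]; noncomm_ring
    rw [e]
    exact ((Strict.mul_left bl (Strict.blockTriangular bl hg) hh)).add bl (hg.add bl hh)
  one_mem' := by
    show Strict bl (φ 1 - 1)
    rw [map_one, sub_self]
    intro a b _
    rfl
  inv_mem' := by
    intro g hg
    show Strict bl (φ g⁻¹ - 1)
    have hgUT : g ∈ UT φ bl := by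
      show (φ g).BlockTriangular bl
      intro a b hab
      have := hg a b hab.le
      rw [Matrix.sub_apply, Matrix.one_apply_ne (fun h => by rw [h] at hab; exact lt_irrefl _ hab),
        sub_zero] at this
      exact this
    have hinv : (φ g⁻¹).BlockTriangular bl := (UT φ bl).inv_mem hgUT
    have e : φ g⁻¹ - 1 = -(φ g⁻¹ * (φ g - 1)) := by
      rw [Matrix.mul_sub, Cfsg.Agent.Lib.Helper68_MatGrp.map_inv_mul, Matrix.mul_one]; abel
    rw [e]
    exact (Strict.mul_left bl hinv hg).neg bl

theorem mem_UU {g : G} :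
    g ∈ UU φ bl ↔ ∀ a b, bl b ≤ bl a → φ g a b = (1 : Matrix ι ι F) a b := by
  constructor
  · intro h a b hab
    have := h a b hab
    rw [Matrix.sub_apply, sub_eq_zero] at this
    exact this
  · intro h a b hab
    rw [Matrix.sub_apply, h a b hab, sub_self]

theorem UU_le_UT : UU φ bl ≤ UT φ bl := by
  intro g hg
  rw [mem_UT]
  intro a b hab
  rw [(mem_UU φ bl).1 hg a b hab.le, Matrix.one_apply_ne]
  intro h
  rw [h] at hab
  exact lt_irrefl _ hab

/-- a finer block function gives a smaller group -/
theorem UU_le_UU {bl bl' : ι → ℕ} (h : ∀ a b, bl' b ≤ bl' a → bl b ≤ bl a) : UU φ bl ≤ UU φ bl' := by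
  intro g hg
  rw [mem_UU] at hg ⊢
  exact fun a b hab => hg a b (h a b hab)

/-- the block upper triangular group normalizes the block unitriangular group -/
theorem conj_mem_UU {g k : G} (hg : g ∈ UT φ bl) (hk : k ∈ UU φ bl) : g * k * g⁻¹ ∈ UU φ bl := by
  show Strict bl (φ (g * k * g⁻¹) - 1)
  have e : φ (g * k * g⁻¹) - 1 = φ g * (φ k - 1) * φ g⁻¹ := by
    rw [map_mul, map_mul, Matrix.mul_sub, Matrix.sub_mul, Matrix.mul_one,
      Cfsg.Agent.Lib.Helper68_MatGrp.map_mul_inv]
  rw [e]
  exact (Strict.mul_left bl hg hk).mul_right bl ((UT φ bl).inv_mem hg)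

end generic

/-! ### the blocks of a set `J` of simple roots of `Sp_{2m}` -/

/-- the simple root at the gap between the heights `g` and `g + 1` (`g ≤ 2m - 2`): `e_g - e_{g+1}` for
`g + 1 < m` and, symmetrically, for `g ≥ m`; the long root `2 e_m` (number `m - 1`) for `g = m - 1` -/
def gapRoot (m g : ℕ) : ℕ := min g (2 * m - 2 - g)

/-- the gap between the heights `g` and `g + 1` separates two blocks of `J` -/
def IsCut (m : ℕ) (J : Finset (Fin m)) (g : ℕ) : Prop := ∀ j ∈ J, (j : ℕ) ≠ gapRoot m g

instance (m : ℕ) (J : Finset (Fin m)) : DecidablePred (IsCut m J) := fun g => by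
  unfold IsCut
  infer_instance

/-- the number of the block of `J` containing the index `a` -/
def blk (m : ℕ) (J : Finset (Fin m)) (a : Fin m ⊕ Fin m) : ℕ :=
  ((Finset.range (ht m a)).filter (IsCut m J)).card

variable (m : ℕ) (F : Type*) [Field F]

/-- block upper triangular elements: contains the standard parabolic subgroup `P_J` -/
def PJ (J : Finset (Fin m)) : Subgroup ↥(symplecticGroup (Fin m) F) := UT (φ m F) (blk m J)

/-- the unipotent radical of `P_J` -/
def KJ (J : Finset (Fin m)) : Subgroup ↥(symplecticGroup (Fin m) F) := UU (φ m F) (blk m J)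

variable {m F}

theorem mem_PJ {J : Finset (Fin m)} {g : ↥(symplecticGroup (Fin m) F)} :
    g ∈ PJ m F J ↔ ∀ a b, blk m J b < blk m J a → g.1 a b = 0 := Iff.rfl

theorem mem_KJ {J : Finset (Fin m)} {g : ↥(symplecticGroup (Fin m) F)} :
    g ∈ KJ m F J ↔ ∀ a b, blk m J b ≤ blk m J a →
      g.1 a b = (1 : Matrix (Fin m ⊕ Fin m) (Fin m ⊕ Fin m) F) a b :=
  mem_UU (φ m F) (blk m J)

/-- `P_J` normalizes its unipotent radical -/
theorem conj_mem_KJ {J : Finset (Fin m)} {g k : ↥(symplecticGroup (Fin m) F)} (hg : g ∈ PJ m F J)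
    (hk : k ∈ KJ m F J) : g * k * g⁻¹ ∈ KJ m F J :=
  conj_mem_UU (φ m F) (blk m J) hg hk

end Cfsg.Agent.Lib.Helper30_S2316
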