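import Mathlib
import Cfsg.Agent.Lib.Helper30_S2316Defs
import Cfsg.Agent.Lib.Helper2_StSp_CARDB

/-!
# S2316 market (architect helper30), package SYL: `B = U T` in `Sp_{2m}(F)`

From `Helper2_StSp_CARDB.exists_Tsp_mul` applied to `b⁻¹`.
-/

set_option autoImplicit false
set_option linter.unusedSectionVars false
set_option linter.unusedVariables false

namespace Cfsg.Agent.Lib.Helper30_S2316

open Matrix Cfsg Cfsg.Agent.Lib.Helper68_MatGrp Cfsg.Agent.Lib.Helper5_SpPerfect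
  Cfsg.Agent.Lib.Helper68_StSpDefs Cfsg.Agent.Lib.Helper68_StSp Cfsg.Agent.Lib.Helper44_SpUT
  Cfsg.Agent.Lib.Helper68_StAbs Cfsg.Agent.Lib.Helper6_Word Cfsg.Agent.Lib.Helper6_BNPair
  Cfsg.Agent.Lib.Helper81_BNSteinberg Cfsg.Agent.Lib.Helper81_BNIndex Cfsg.Agent.Lib.Helper81_BNBorel

section sp

variable {m : ℕ} {F : Type*} [Field F]

/-! ## SYL (S): `B = U T` (from `Helper2_StSp_CARDB.exists_Tsp_mul` applied to `b⁻¹`) -/

theorem exists_USp_mul_Tsp {b : ↥(symplecticGroup (Fin m) F)} (hb : b ∈ Bsp m F) :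
    ∃ u ∈ USp m F, ∃ t ∈ Tsp m F, b = u * t := by
  obtain ⟨t, ht, hu⟩ := Cfsg.Agent.Lib.Helper2_StSp_CARDB.exists_Tsp_mul
    ((Bsp m F).inv_mem hb)
  refine ⟨(t⁻¹ * b⁻¹)⁻¹, (USp m F).inv_mem hu, t⁻¹, (Tsp m F).inv_mem ht, ?_⟩
  group

end sp

end Cfsg.Agent.Lib.Helper30_S2316
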