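import Mathlib

set_option autoImplicit false

/-!
# Orbits of quadratic forms under the general linear group (helper30, definitions for S2333)

`orb f` is the set of all `f ∘ g`, `g` a linear automorphism.  `hypSum h` is the form
`(x, y, z) ↦ x * y + h z` on `F × F × V'`.
-/

namespace Cfsg.Agent.Lib.Helper30_QFDefs

variable {F : Type*} [Field F] {V : Type*} [AddCommGroup V] [Module F V]

/-- the orbit of a quadratic form under the general linear group -/
def orb (f : QuadraticForm F V) : Set (QuadraticForm F V) :=
  Set.range fun g : V ≃ₗ[F] V => f.comp (g : V →ₗ[F] V)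

theorem mem_orb {f f' : QuadraticForm F V} :
    f' ∈ orb f ↔ ∃ g : V ≃ₗ[F] V, f.comp (g : V →ₗ[F] V) = f' := Iff.rfl

theorem self_mem_orb (f : QuadraticForm F V) : f ∈ orb f :=
  ⟨LinearEquiv.refl F V, by ext x; rfl⟩

/-- the form `(x, y, z) ↦ x * y + h z` -/
def hypSum {V' : Type*} [AddCommGroup V'] [Module F V'] (h : QuadraticForm F V') :
    QuadraticForm F (F × F × V') :=
  QuadraticMap.linMulLin (LinearMap.fst F F (F × V'))
      (LinearMap.fst F F V' ∘ₗ LinearMap.snd F F (F × V')) +
    h.comp (LinearMap.snd F F V' ∘ₗ LinearMap.snd F F (F × V'))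

theorem hypSum_apply {V' : Type*} [AddCommGroup V'] [Module F V'] (h : QuadraticForm F V')
    (x y : F) (z : V') : hypSum h (x, y, z) = x * y + h z := rfl

end Cfsg.Agent.Lib.Helper30_QFDefs
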