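import Mathlib
import Cfsg.Agent.Lib.Helper30_QFDefs

/-!
# S2333 package BINARY (helper17): orbit of a binary quadratic form with non-zero polar form, char 2

`dim V = 2`, `polar f ≠ 0`: `(q^2-1)(q^2-q) ≤ 2 (q+1) |orb f|`.
-/

set_option autoImplicit false

namespace Cfsg.Agent.Lib.Helper17_S2333_BINARY

open Cfsg.Agent.Lib.Helper30_QFDefs Module QuadraticMap

universe u

variable {F : Type u} [Field F] [Fintype F] {V : Type u} [AddCommGroup V] [Module F V]
  [Module.Finite F V]

omit [Fintype F] [Module.Finite F V] in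
theorem polar_self_zero (h2 : (2 : F) = 0) (f : QuadraticForm F V) (x : V) : polar f x x = 0 := by
  rw [polar_self, two_nsmul, ← two_mul, h2, zero_mul]

omit [Fintype F] in
/-- A pair with non-zero polar form spans a 2-dimensional space. -/
theorem span_pair_eq_top (h2 : (2 : F) = 0) (f : QuadraticForm F V) (hdim : finrank F V = 2)
    {u w : V} (huw : polar f u w ≠ 0) : Submodule.span F ({u, w} : Set V) = ⊤ := by
  have hli : LinearIndependent F ![u, w] := by
    rw [LinearIndependent.pair_iff]
    intro s t hst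
    have h1 : polar f (s • u + t • w) w = 0 := by
      rw [hst]; simp [polar]
    have h3 : polar f (s • u + t • w) u = 0 := by
      rw [hst]; simp [polar]
    rw [polar_add_left, polar_smul_left, polar_smul_left, polar_self_zero h2, smul_zero, add_zero,
      smul_eq_mul] at h1
    rw [polar_add_left, polar_smul_left, polar_smul_left, polar_self_zero h2, smul_zero, zero_add,
      smul_eq_mul, polar_comm] at h3
    refine ⟨?_, ?_⟩
    · rcases mul_eq_zero.mp h1 with h | h
      · exact h
      · exact absurd h huw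
    · rcases mul_eq_zero.mp h3 with h | h
      · exact h
      · exact absurd h huw
  have := hli.span_eq_top_of_card_eq_finrank' (by simp [hdim])
  rwa [Matrix.range_cons, Matrix.range_cons, Matrix.range_empty, Set.union_empty,
    Set.singleton_union] at this

omit [Fintype F] in
theorem exists_eq_smul_add (h2 : (2 : F) = 0) (f : QuadraticForm F V) (hdim : finrank F V = 2)
    {u w : V} (huw : polar f u w ≠ 0) (v : V) : ∃ x y : F, x • u + y • w = v := by
  have : v ∈ Submodule.span F ({u, w} : Set V) := by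
    rw [span_pair_eq_top h2 f hdim huw]; trivial
  exact Submodule.mem_span_pair.mp this

omit [Fintype F] [Module.Finite F V] in
/-- Normalisation of the pair: we may assume `f a ≠ 0`. -/
theorem exists_good_pair (h2 : (2 : F) = 0) (f : QuadraticForm F V)
    (hpol : ∃ a b, polar f a b ≠ 0) : ∃ a b, f a ≠ 0 ∧ polar f a b ≠ 0 := by
  obtain ⟨a', b', hc⟩ := hpol
  by_cases ha : f a' = 0
  · by_cases hb : f b' = 0
    · refine ⟨a' + b', b', ?_, ?_⟩
      · rw [QuadraticMap.map_add (⇑f) a' b', ha, hb, zero_add, zero_add]; exact hc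
      · rw [polar_add_left, polar_self_zero h2, add_zero]; exact hc
    · exact ⟨b', a', hb, by rwa [polar_comm]⟩
  · exact ⟨a', b', ha, hc⟩

/-- (i) a non-zero value is taken at most `q + 1` times. -/
theorem card_level_le (h2 : (2 : F) = 0) (f : QuadraticForm F V) (hdim : finrank F V = 2)
    {α : F} (hα : α ≠ 0) : Nat.card {u : V // f u = α} ≤ Fintype.card F + 1 := by
  have hfin : Finite V := Module.finite_of_finite F
  let Φ : Option (Fˣ × {u : V // f u = α}) → V := fun o =>
    match o with
    | none => 0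
    | some p => (p.1 : F) • (p.2 : V)
  have hval : ∀ p : Fˣ × {u : V // f u = α}, f ((p.1 : F) • (p.2 : V)) = (p.1 : F) * p.1 * α := by
    intro p
    rw [QuadraticMap.map_smul, p.2.2, smul_eq_mul]
  have hne : ∀ p : Fˣ × {u : V // f u = α}, (p.1 : F) * p.1 * α ≠ 0 := by
    intro p
    exact mul_ne_zero (mul_ne_zero p.1.ne_zero p.1.ne_zero) hα
  have hinj : Function.Injective Φ := by
    intro o o' hoo
    match o, o' with
    | none, none => rfl
    | none, some p =>
      exfalso
      have h1 : (0 : V) = (p.1 : F) • (p.2 : V) := hoo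
      have h3 := hval p
      rw [← h1, QuadraticMap.map_zero] at h3
      exact hne p h3.symm
    | some p, none =>
      exfalso
      have h1 : (p.1 : F) • (p.2 : V) = 0 := hoo
      have h3 := hval p
      rw [h1, QuadraticMap.map_zero] at h3
      exact hne p h3.symm
    | some p, some p' =>
      have h1 : (p.1 : F) • (p.2 : V) = (p'.1 : F) • (p'.2 : V) := hoo
      have h3 : (p.1 : F) * p.1 * α = (p'.1 : F) * p'.1 * α := by
        rw [← hval p, ← hval p', h1]
      have h4 : (p.1 : F) * p.1 = (p'.1 : F) * p'.1 := mul_right_cancel₀ hα h3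
      have h5 : (p.1 : F) = p'.1 := by
        have h6 : ((p.1 : F) - p'.1) * ((p.1 : F) + p'.1) = 0 := by
          have : ((p.1 : F) - p'.1) * ((p.1 : F) + p'.1) = (p.1 : F) * p.1 - (p'.1 : F) * p'.1 := by
            ring
          rw [this, h4, sub_self]
        rcases mul_eq_zero.mp h6 with h7 | h7
        · exact sub_eq_zero.mp h7
        · have h8 : (p.1 : F) = -(p'.1 : F) := eq_neg_of_add_eq_zero_left h7
          have h9 : -(p'.1 : F) = p'.1 := by
            have : (p'.1 : F) + p'.1 = 0 := by rw [← two_mul, h2, zero_mul]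
            exact neg_eq_of_add_eq_zero_left this
          rw [h8, h9]
      have h10 : p.1 = p'.1 := Units.ext h5
      have h11 : (p.2 : V) = p'.2 := by
        rw [h5] at h1
        exact smul_right_injective V p'.1.ne_zero h1
      congr 1
      exact Prod.ext h10 (Subtype.ext h11)
  have hcard := Nat.card_le_card_of_injective Φ hinj
  rw [Finite.card_option, Nat.card_prod, Nat.card_units, Nat.card_eq_fintype_card (α := F)] at hcard
  have hV : Nat.card V = Fintype.card F ^ 2 := by
    rw [← hdim, ← Nat.card_eq_fintype_card (α := F)]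
    exact Module.natCard_eq_pow_finrank
  rw [hV] at hcard
  have hq : 1 < Fintype.card F := Fintype.one_lt_card
  obtain ⟨r, hr⟩ : ∃ r, Fintype.card F = r + 1 := ⟨Fintype.card F - 1, by omega⟩
  rw [hr] at hcard ⊢
  rw [Nat.add_sub_cancel] at hcard
  have hr1 : 1 ≤ r := by omega
  by_contra hcon
  push Not at hcon
  nlinarith

omit [Fintype F] in
/-- (ii) given `u` with `f u = α ≠ 0`, at most two `w` have `polar f u w = c` and `f w = β`. -/
theorem exists_two (h2 : (2 : F) = 0) (f : QuadraticForm F V) (hdim : finrank F V = 2)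
    {u : V} {α c β : F} (hα : α ≠ 0) (hc : c ≠ 0) (hu : f u = α) :
    ∃ w0 w1 : V, ∀ w, polar f u w = c → f w = β → w = w0 ∨ w = w1 := by
  by_cases hex : ∃ w0, polar f u w0 = c ∧ f w0 = β
  · obtain ⟨w0, hw0c, hw0β⟩ := hex
    refine ⟨w0, (-(c / α)) • u + w0, ?_⟩
    intro w hwc hwβ
    have hne : polar f u w0 ≠ 0 := by rw [hw0c]; exact hc
    obtain ⟨x, y, rfl⟩ := exists_eq_smul_add h2 f hdim hne w
    -- `y = 1`
    have hy : y = 1 := by
      rw [polar_comm, polar_add_left, polar_smul_left, polar_smul_left, polar_self_zero h2,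
        smul_zero, zero_add, smul_eq_mul, polar_comm, hw0c] at hwc
      exact mul_right_cancel₀ hc (by rw [hwc, one_mul])
    subst hy
    rw [one_smul] at hwβ ⊢
    -- `x (x α + c) = 0`
    have hx : x * (x * α + c) = 0 := by
      rw [QuadraticMap.map_add (⇑f) (x • u) w0, QuadraticMap.map_smul, hu, hw0β, polar_smul_left,
        hw0c, smul_eq_mul, smul_eq_mul] at hwβ
      have : x * (x * α + c) = x * x * α + β + x * c - β := by ring
      rw [this, hwβ, sub_self]
    rcases mul_eq_zero.mp hx with h0 | h0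
    · left; rw [h0, zero_smul, zero_add]
    · right
      have : x = -(c / α) := by
        field_simp
        linear_combination h0
      rw [this]
  · refine ⟨0, 0, ?_⟩
    intro w hwc hwβ
    exact absurd ⟨w, hwc, hwβ⟩ hex

/-- The set of admissible images of the basis `(a, b)` has at most `2 (q + 1)` elements. -/
theorem card_pairs_le (h2 : (2 : F) = 0) (f : QuadraticForm F V) (hdim : finrank F V = 2)
    {α c β : F} (hα : α ≠ 0) (hc : c ≠ 0) :
    Nat.card {p : V × V // f p.1 = α ∧ polar f p.1 p.2 = c ∧ f p.2 = β} ≤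
      2 * (Fintype.card F + 1) := by
  classical
  have hfin : Finite V := Module.finite_of_finite F
  have hex : ∀ u : V, ∃ w0 w1 : V, f u = α → ∀ w, polar f u w = c → f w = β → w = w0 ∨ w = w1 := by
    intro u
    by_cases hu : f u = α
    · obtain ⟨w0, w1, h⟩ := exists_two h2 f hdim (β := β) hα hc hu
      exact ⟨w0, w1, fun _ => h⟩
    · exact ⟨0, 0, fun h => absurd h hu⟩
  choose w0 w1 hw using hex
  let Φ : {p : V × V // f p.1 = α ∧ polar f p.1 p.2 = c ∧ f p.2 = β} →
      {u : V // f u = α} × Bool := fun p => (⟨p.1.1, p.2.1⟩, decide (p.1.2 = w0 p.1.1))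
  have hinj : Function.Injective Φ := by
    rintro ⟨⟨u, w⟩, hp1, hp2, hp3⟩ ⟨⟨u', w'⟩, hp1', hp2', hp3'⟩ hpp
    have h1 : u = u' := congrArg (fun z => (z.1 : V)) hpp
    subst h1
    have h2' : decide (w = w0 u) = decide (w' = w0 u) := congrArg Prod.snd hpp
    have hw1 := hw u hp1 w hp2 hp3
    have hw2 := hw u hp1 w' hp2' hp3'
    have : w = w' := by
      by_cases h3 : w = w0 u
      · have h4 : w' = w0 u := by
          have : decide (w' = w0 u) = true := by rw [← h2']; exact decide_eq_true h3
          exact of_decide_eq_true this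
        rw [h3, h4]
      · have h4 : ¬ w' = w0 u := by
          intro h5
          have : decide (w = w0 u) = true := by rw [h2']; exact decide_eq_true h5
          exact h3 (of_decide_eq_true this)
        rcases hw1 with h5 | h5
        · exact absurd h5 h3
        · rcases hw2 with h6 | h6
          · exact absurd h6 h4
          · rw [h5, h6]
    subst this
    rfl
  have hcard := Nat.card_le_card_of_injective Φ hinj
  rw [Nat.card_prod] at hcard
  have hb : Nat.card Bool = 2 := by rw [Nat.card_eq_fintype_card, Fintype.card_bool]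
  rw [hb] at hcard
  have := card_level_le h2 f hdim hα
  calc Nat.card {p : V × V // f p.1 = α ∧ polar f p.1 p.2 = c ∧ f p.2 = β}
      ≤ Nat.card {u : V // f u = α} * 2 := hcard
    _ ≤ (Fintype.card F + 1) * 2 := Nat.mul_le_mul_right 2 this
    _ = 2 * (Fintype.card F + 1) := Nat.mul_comm _ _

/-- The order of `GL(V)`, `dim V = 2`. -/
theorem card_GL (hdim : finrank F V = 2) :
    Nat.card (V ≃ₗ[F] V) = (Fintype.card F ^ 2 - 1) * (Fintype.card F ^ 2 - Fintype.card F) := by
  classical
  let bs := Module.finBasisOfFinrankEq F V hdim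
  have e1 : (V ≃ₗ[F] V) ≃ (Module.End F V)ˣ :=
    (LinearMap.GeneralLinearGroup.generalLinearEquiv F V).symm.toEquiv
  have e2 : (Module.End F V)ˣ ≃ (Matrix (Fin 2) (Fin 2) F)ˣ :=
    (Units.mapEquiv (LinearMap.toMatrixAlgEquiv bs).toMulEquiv).toEquiv
  rw [Nat.card_congr (e1.trans e2)]
  have := Matrix.card_GL_field (𝔽 := F) 2
  rw [Fin.prod_univ_two] at this
  simpa using this

/-- The package statement **S2333-BINARY**. -/
theorem binary (h2 : (2 : F) = 0) (f : QuadraticForm F V) (hdim : finrank F V = 2)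
    (hpol : ∃ a b, polar f a b ≠ 0) :
    (Fintype.card F ^ 2 - 1) * (Fintype.card F ^ 2 - Fintype.card F) ≤
      2 * (Fintype.card F + 1) * (orb f).ncard := by
  classical
  have hfin : Finite V := Module.finite_of_finite F
  obtain ⟨a, b, hα, hc⟩ := exists_good_pair h2 f hpol
  have hspan := span_pair_eq_top h2 f hdim hc
  have hGLfin : Finite (V ≃ₗ[F] V) :=
    Finite.of_injective (fun g : V ≃ₗ[F] V => (g : V → V)) DFunLike.coe_injective
  have horbfin : (orb f).Finite := Set.finite_range _
  have : Finite (orb f) := horbfin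
  -- a chosen representative for every element of the orbit
  have hrep : ∀ f' : orb f, ∃ g0 : V ≃ₗ[F] V, f.comp (g0 : V →ₗ[F] V) = f'.1 := fun f' => f'.2
  choose g0 hg0 using hrep
  -- `f ∘ g = f ∘ g0` implies `f ∘ (g ∘ g0⁻¹) = f`
  have hkey : ∀ g : V ≃ₗ[F] V, ∀ x : V,
      f (g ((g0 ⟨f.comp (g : V →ₗ[F] V), g, rfl⟩).symm x)) = f x := by
    intro g x
    have h1 := hg0 ⟨f.comp (g : V →ₗ[F] V), g, rfl⟩
    have h3 := congrArg (fun Q : QuadraticForm F V =>
      Q ((g0 ⟨f.comp (g : V →ₗ[F] V), g, rfl⟩).symm x)) h1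
    simp only [QuadraticMap.comp_apply, LinearEquiv.coe_coe, LinearEquiv.apply_symm_apply] at h3
    exact h3.symm
  have hkeyp : ∀ g : V ≃ₗ[F] V, ∀ x y : V,
      polar f (g ((g0 ⟨f.comp (g : V →ₗ[F] V), g, rfl⟩).symm x))
        (g ((g0 ⟨f.comp (g : V →ₗ[F] V), g, rfl⟩).symm y)) = polar f x y := by
    intro g x y
    unfold polar
    rw [← map_add, ← map_add, hkey, hkey, hkey]
  let Ψ : (V ≃ₗ[F] V) → (orb f) × {p : V × V // f p.1 = f a ∧ polar f p.1 p.2 = polar f a b ∧
      f p.2 = f b} := fun g =>
    (⟨f.comp (g : V →ₗ[F] V), g, rfl⟩,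
      ⟨(g ((g0 ⟨f.comp (g : V →ₗ[F] V), g, rfl⟩).symm a),
        g ((g0 ⟨f.comp (g : V →ₗ[F] V), g, rfl⟩).symm b)), hkey g a, hkeyp g a b, hkey g b⟩)
  have hinj : Function.Injective Ψ := by
    intro g g' hgg
    have h1 : (⟨f.comp (g : V →ₗ[F] V), g, rfl⟩ : orb f) = ⟨f.comp (g' : V →ₗ[F] V), g', rfl⟩ :=
      congrArg Prod.fst hgg
    have h3 := congrArg (fun z => (z.2 : V × V)) hgg
    simp only [Ψ] at h3
    rw [← h1] at h3
    have h4 := congrArg Prod.fst h3
    have h5 := congrArg Prod.snd h3
    simp only at h4 h5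
    -- the two maps `g ∘ g0⁻¹` and `g' ∘ g0⁻¹` agree on `a`, `b`
    set k := g0 ⟨f.comp (g : V →ₗ[F] V), g, rfl⟩ with hk
    have h6 : ((k.symm.trans g : V ≃ₗ[F] V) : V →ₗ[F] V) = ((k.symm.trans g' : V ≃ₗ[F] V) : V →ₗ[F] V) := by
      apply LinearMap.ext_on hspan
      intro v hv
      rcases hv with rfl | hv
      · exact h4
      · rw [Set.mem_singleton_iff] at hv
        subst hv
        exact h5
    apply LinearEquiv.ext
    intro x
    have := congrArg (fun φ : V →ₗ[F] V => φ (k x)) h6
    simpa using this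
  have hcard := Nat.card_le_card_of_injective Ψ hinj
  rw [Nat.card_prod, card_GL hdim, Nat.card_coe_set_eq] at hcard
  have hP := card_pairs_le h2 f hdim (β := f b) hα hc
  calc (Fintype.card F ^ 2 - 1) * (Fintype.card F ^ 2 - Fintype.card F)
      ≤ (orb f).ncard * Nat.card {p : V × V // f p.1 = f a ∧ polar f p.1 p.2 = polar f a b ∧
          f p.2 = f b} := hcard
    _ ≤ (orb f).ncard * (2 * (Fintype.card F + 1)) := Nat.mul_le_mul_left _ hP
    _ = 2 * (Fintype.card F + 1) * (orb f).ncard := Nat.mul_comm _ _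

end Cfsg.Agent.Lib.Helper17_S2333_BINARY
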