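import Mathlib
import Cfsg.Prelude.Def_LocalStructure
import Cfsg.Prelude.Def_Solvable
import Cfsg.Agent.Lib.Helper17_MNPC
import Cfsg.Agent.Lib.Helper71_Frobenius
import Cfsg.Agent.Lib.Helper8_PSL2Sylow

/-!
# The least order of a non-`p`-closed group (helper17; for S3875)

* `exists_card_mul` : for a prime power `m ≡ 1 (mod p)` there is a non-`p`-closed group of order
  `p m` (`F_m ⋊ C_p`);
* `psl2_not_pClosed` : `PSL₂(p)`, `p ≥ 5`, is not `p`-closed and has order `p (p² - 1) / 2`;
* `lower_bound` : every non-`p`-closed group has order at least `min (p m) (p (p² - 1) / 2)`, given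
  the Brauer–Reynolds theorem (S4701) as a hypothesis.
-/

set_option autoImplicit false

namespace Cfsg.Agent.Lib.Helper17_S3875

open Subgroup Cfsg.Agent.Lib.Helper17_MNPC

/-- the Brauer–Reynolds statement (S4701), for groups in `Type` -/
def BRStatement (p : ℕ) : Prop :=
  ∀ (G : Type) [Group G] [Finite G], commutator G = ⊤ → p ∣ Nat.card G → Nat.card G < p ^ 3 →
    ∀ P : Sylow p G, ¬ (P : Subgroup G).Normal → (∀ N : Subgroup G, N.Normal → Nat.card N ≠ 2) →
    (∃ (F : Type) (_ : Field F) (_ : Fintype F), Fintype.card F = p ∧ 3 < p ∧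
      Nonempty (G ≃* Matrix.ProjectiveSpecialLinearGroup (Fin 2) F)) ∨
    (∃ (m : ℕ) (F : Type) (_ : Field F) (_ : Fintype F), Fintype.card F = 2 ^ m ∧
      p = 2 ^ m + 1 ∧ 3 < p ∧ Nonempty (G ≃* Matrix.SpecialLinearGroup (Fin 2) F))

/-- Every non-`p`-closed group has order at least `min (p m) (p (p² - 1) / 2)`. -/
theorem lower_bound (p : ℕ) [hp : Fact p.Prime] (hp2 : p ≠ 2) (m : ℕ)
    (hleast : ∀ k : ℕ, IsPrimePow k → k % p = 1 → m ≤ k) (hBR : BRStatement p) :
    ∀ (n : ℕ) (H : Type) [Group H] [Finite H], Nat.card H = n → ¬ Cfsg.IsPClosed p H →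
      min (p * m) (p * (p ^ 2 - 1) / 2) ≤ n := by
  intro n
  induction n using Nat.strong_induction_on with
  | _ n ih =>
    intro H _ _ hn hnc
    by_cases hsub : ∃ K : Subgroup H, K ≠ ⊤ ∧ ¬ Cfsg.IsPClosed p ↥K
    · obtain ⟨K, hK, hKnc⟩ := hsub
      have hlt : Nat.card K < n := by
        rw [← hn]
        have h1 := Subgroup.card_mul_index K
        have h2 : K.index ≠ 1 := fun h => hK (Subgroup.index_eq_one.1 h)
        have h3 : 0 < K.index := Nat.pos_of_ne_zero (Subgroup.index_ne_zero_of_finite)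
        have h4 : 0 < Nat.card K := Nat.card_pos
        rw [← h1]
        exact lt_mul_of_one_lt_right h4 (by omega)
      exact (ih _ hlt ↥K rfl hKnc).trans hlt.le
    by_cases hquo : ∃ (N : Subgroup H) (_ : N.Normal), N ≠ ⊥ ∧ ¬ Cfsg.IsPClosed p (H ⧸ N)
    · obtain ⟨N, hNn, hN, hNnc⟩ := hquo
      have hlt : Nat.card (H ⧸ N) < n := by
        rw [← hn]
        have h1 := Subgroup.card_mul_index N
        have h2 : Nat.card N ≠ 1 := fun h => hN (Subgroup.eq_bot_of_card_eq _ h)
        have h3 : 0 < Nat.card N := Nat.card_pos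
        have h4 : 0 < N.index := Nat.pos_of_ne_zero (Subgroup.index_ne_zero_of_finite)
        change N.index < Nat.card H
        rw [← h1]
        exact lt_mul_of_one_lt_left h4 (by omega)
      exact (ih _ hlt (H ⧸ N) rfl hNnc).trans hlt.le
    -- minimal non-p-closed
    have hM : MNPC p H := by
      refine ⟨hnc, ?_, ?_⟩
      · intro K hK
        by_contra h
        exact hsub ⟨K, hK, h⟩
      · intro N hNn hN
        by_contra h
        exact hquo ⟨N, hNn, hN, h⟩
    by_cases hperf : commutator H = ⊤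
    · have := hM.le_card_of_perfect hp2
        (fun hd hb P hP h2 => hBR H hperf hd hb P hP h2)
      rw [hn] at this
      exact (min_le_right _ _).trans this
    · obtain ⟨k, hk, hk1, hkn⟩ := hM.exists_primePow_of_not_perfect hperf
      rw [hn] at hkn
      exact (min_le_left _ _).trans ((Nat.mul_le_mul_left p (hleast k hk hk1)).trans hkn)

open SemidirectProduct in
/-- A non-`p`-closed group of order `p m`, `m ≡ 1 (mod p)` a prime power. -/
theorem exists_card_mul (p : ℕ) [hp : Fact p.Prime] (m : ℕ) (hm : IsPrimePow m)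
    (hm1 : m % p = 1) :
    ∃ (H : Type) (_ : Group H) (_ : Finite H), Nat.card H = p * m ∧ ¬ Cfsg.IsPClosed p H := by
  have hpp : p.Prime := hp.out
  obtain ⟨q, d, hq, hd, rfl⟩ := hm
  have hq' : q.Prime := Nat.prime_iff.2 hq
  have : Fact q.Prime := ⟨hq'⟩
  have hFcard : Nat.card (GaloisField q d) = q ^ d := GaloisField.card q d hd.ne'
  have hpos : 0 < q ^ d := pos_of_gt (Nat.one_lt_pow hd.ne' hq'.one_lt)
  have hpU : p ∣ Nat.card (GaloisField q d)ˣ := by
    rw [Nat.card_units, hFcard]
    exact (Nat.modEq_iff_dvd' (by omega)).1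
      (show 1 ≡ q ^ d [MOD p] by unfold Nat.ModEq; rw [hm1, Nat.mod_eq_of_lt hpp.one_lt])
  obtain ⟨u, hu⟩ := exists_prime_orderOf_dvd_card' p hpU
  let φ : ↥(zpowers u) →* MulAut (Multiplicative (GaloisField q d)) :=
    (MulAutMultiplicative (GaloisField q d)).symm.toMonoidHom.comp
      ((AddAut.mulLeft (R := GaloisField q d)).comp (zpowers u).subtype)
  have hCcard : Nat.card ↥(zpowers u) = p := by rw [Nat.card_zpowers, hu]
  have hfpf : ∀ c : ↥(zpowers u), c ≠ 1 → ∀ n : Multiplicative (GaloisField q d),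
      φ c n = n → n = 1 := by
    intro c hc n hn
    have h1 : ((c : (GaloisField q d)ˣ) : GaloisField q d) * Multiplicative.toAdd n =
        Multiplicative.toAdd n := congrArg Multiplicative.toAdd hn
    have h2 : (((c : (GaloisField q d)ˣ) : GaloisField q d) - 1) * Multiplicative.toAdd n = 0 := by
      rw [sub_mul, one_mul, h1, sub_self]
    rcases mul_eq_zero.1 h2 with h3 | h3
    · exfalso
      apply hc
      apply Subtype.ext
      apply Units.ext
      rw [sub_eq_zero] at h3
      exact h3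
    · exact Multiplicative.toAdd.injective h3
  have hNnt : Nontrivial (Multiplicative (GaloisField q d)) := inferInstance
  have hCnt : Nontrivial ↥(zpowers u) := by
    rw [← Finite.one_lt_card_iff_nontrivial, hCcard]
    exact hpp.one_lt
  have hfin : Finite (Multiplicative (GaloisField q d) ⋊[φ] ↥(zpowers u)) :=
    Finite.of_equiv _ (equivProd (φ := φ)).symm
  have hcard : Nat.card (Multiplicative (GaloisField q d) ⋊[φ] ↥(zpowers u)) = p * q ^ d := by
    rw [SemidirectProduct.card, hCcard, mul_comm]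
    congr 1
  refine ⟨Multiplicative (GaloisField q d) ⋊[φ] ↥(zpowers u), inferInstance, hfin, hcard, ?_⟩
  intro hcl
  have hfrob := Cfsg.Agent.Lib.Helper71_Frobenius.semidirect_isFrobeniusComplement φ hfpf
  obtain ⟨hRbot, hRtop, hRti⟩ := hfrob
  set R : Subgroup (Multiplicative (GaloisField q d) ⋊[φ] ↥(zpowers u)) :=
    (inr : ↥(zpowers u) →* _).range with hR
  have hRcard : Nat.card R = p := by
    rw [← hCcard]
    exact (Nat.card_congr (MonoidHom.ofInjective (inr_injective (φ := φ))).toEquiv).symm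
  have hRp : IsPGroup p R := IsPGroup.of_card (n := 1) (by rw [hRcard, pow_one])
  have hRidx : R.index = q ^ d := by
    have h1 := Subgroup.card_mul_index R
    rw [hRcard, hcard] at h1
    exact Nat.eq_of_mul_eq_mul_left hpp.pos h1
  have hnd : ¬ p ∣ R.index := by
    rw [hRidx]
    intro h
    have := Nat.mod_eq_zero_of_dvd h
    omega
  have hRn : R.Normal := by
    have := hcl (hRp.toSylow hnd)
    rwa [IsPGroup.toSylow_coe] at this
  obtain ⟨g, hg⟩ : ∃ g, g ∉ R := by
    by_contra hall
    push Not at hall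
    exact hRtop (eq_top_iff.2 fun x _ => hall x)
  have := hRti g hg
  rw [Subgroup.Normal.conj_smul_eq_self, inf_idem] at this
  exact hRbot this

/-- `PSL₂(p)`, `p ≥ 5`, has order `p (p² - 1) / 2` and is not `p`-closed. -/
theorem psl2_not_pClosed (p : ℕ) [hp : Fact p.Prime] (h5 : 5 ≤ p) :
    Nat.card (Matrix.ProjectiveSpecialLinearGroup (Fin 2) (ZMod p)) = p * (p ^ 2 - 1) / 2 ∧
      ¬ Cfsg.IsPClosed p (Matrix.ProjectiveSpecialLinearGroup (Fin 2) (ZMod p)) := by
  have hpp : p.Prime := hp.out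
  have hodd : p % 2 = 1 := by
    rcases hpp.eq_two_or_odd with h | h
    · omega
    · exact h
  have hcardF : Fintype.card (ZMod p) = p := ZMod.card p
  have h2 := Cfsg.Agent.Lib.Helper8_PSL2Sylow.two_mul_card_PSL2 (F := ZMod p) (by rw [hcardF]; exact hodd)
  rw [hcardF] at h2
  have hcard : Nat.card (Matrix.ProjectiveSpecialLinearGroup (Fin 2) (ZMod p)) =
      p * (p ^ 2 - 1) / 2 := by
    rw [← h2, Nat.mul_div_cancel _ (by norm_num)]
  refine ⟨hcard, ?_⟩
  intro hcl
  have hsimple : IsSimpleGroup (Matrix.ProjectiveSpecialLinearGroup (Fin 2) (ZMod p)) :=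
    Matrix.ProjectiveSpecialLinearGroup.rank_two_simple
      (by rw [Nat.card_eq_fintype_card, hcardF]; omega)
  have h8 := Cfsg.Agent.Lib.Helper8_PSL2Sylow.eight_dvd_sq_sub_one p hodd
  have hpdvd : p ∣ Nat.card (Matrix.ProjectiveSpecialLinearGroup (Fin 2) (ZMod p)) := by
    obtain ⟨c, hc⟩ := h8
    rw [hcard, hc]
    have : p * (8 * c) / 2 = p * (4 * c) := by
      rw [show p * (8 * c) = (p * (4 * c)) * 2 by ring, Nat.mul_div_cancel _ (by norm_num)]
    rw [this]
    exact Dvd.intro _ rfl
  have h2dvd : 2 ∣ Nat.card (Matrix.ProjectiveSpecialLinearGroup (Fin 2) (ZMod p)) := by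
    obtain ⟨c, hc⟩ := h8
    rw [hcard, hc]
    have : p * (8 * c) / 2 = 2 * (p * (2 * c)) := by
      rw [show p * (8 * c) = (2 * (p * (2 * c))) * 2 by ring, Nat.mul_div_cancel _ (by norm_num)]
    rw [this]
    exact Dvd.intro _ rfl
  let S : Sylow p (Matrix.ProjectiveSpecialLinearGroup (Fin 2) (ZMod p)) := default
  have hSn := hcl S
  rcases hSn.eq_bot_or_eq_top with h | h
  · exact S.ne_bot_of_dvd_card hpdvd h
  · have hpg : IsPGroup p (Matrix.ProjectiveSpecialLinearGroup (Fin 2) (ZMod p)) := by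
      have := S.2
      rw [h] at this
      exact IsPGroup.of_equiv this Subgroup.topEquiv
    obtain ⟨k, hk⟩ := IsPGroup.iff_card.1 hpg
    rw [hk] at h2dvd
    have := (Nat.prime_dvd_prime_iff_eq Nat.prime_two hpp).1 (Nat.Prime.dvd_of_dvd_pow Nat.prime_two h2dvd)
    omega

/-- S3875 modulo the Brauer–Reynolds theorem S4701. -/
theorem main (p : ℕ) [hp : Fact p.Prime] (hp2 : p ≠ 2) (m : ℕ) (hm : IsPrimePow m)
    (hm1 : m % p = 1) (hleast : ∀ k : ℕ, IsPrimePow k → k % p = 1 → m ≤ k)
    (hBR : BRStatement p) :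
    (∀ (H : Type) [Group H] [Finite H], ¬ Cfsg.IsPClosed p H →
        min (p * m) (p * (p ^ 2 - 1) / 2) ≤ Nat.card H) ∧
      ∃ (H : Type) (_ : Group H) (_ : Finite H),
        Nat.card H = min (p * m) (p * (p ^ 2 - 1) / 2) ∧ ¬ Cfsg.IsPClosed p H := by
  have hpp : p.Prime := hp.out
  refine ⟨fun H _ _ hnc => lower_bound p hp2 m hleast hBR _ H rfl hnc, ?_⟩
  by_cases hle : p * m ≤ p * (p ^ 2 - 1) / 2
  · rw [min_eq_left hle]
    exact exists_card_mul p m hm hm1
  · rw [min_eq_right (le_of_not_ge hle)]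
    have h5 : 5 ≤ p := by
      by_contra h
      have h3 : p = 3 := by
        have h2 := hpp.two_le
        interval_cases p
        · exact absurd rfl hp2
        · rfl
        · exact absurd hpp (by norm_num)
      subst h3
      have h4 : m ≤ 4 := hleast 4 ⟨2, 2, Nat.prime_iff.1 Nat.prime_two, by norm_num, by norm_num⟩
        (by norm_num)
      apply hle
      have : 3 * (3 ^ 2 - 1) / 2 = 12 := by norm_num
      rw [this]
      omega
    obtain ⟨hcard, hnc⟩ := psl2_not_pClosed p h5
    exact ⟨Matrix.ProjectiveSpecialLinearGroup (Fin 2) (ZMod p), inferInstance, inferInstance,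
      hcard, hnc⟩

end Cfsg.Agent.Lib.Helper17_S3875
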