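import Mathlib
import Cfsg.Agent.Lib.Helper68_StOoDefs

/-!
# S2547 market (architect helper68), package StOo TORUS (proof helper9)

The characteristic does not divide the order of the diagonal group of `Ω_{2m+1}(q)`.
-/

set_option autoImplicit false
set_option linter.unusedSectionVars false

namespace Cfsg.Agent.Lib.Helper9_StOo_TORUS

open Matrix Cfsg.Agent.Lib.Helper68_MatGrp Cfsg.Agent.Lib.Helper68_StOoDefs

section generic

variable {G : Type*} [Group G] {ι : Type*} [Fintype ι] [DecidableEq ι] {F : Type*} [Field F]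
  [Fintype F] (φ : G →* Matrix ι ι F)

/-- diagonal entries of a product of diagonal elements -/
theorem diag_mul_apply {g h : G} (hg : g ∈ Diag φ) (a : ι) :
    φ (g * h) a a = φ g a a * φ h a a := by
  rw [map_mul, Matrix.mul_apply, Finset.sum_eq_single a]
  · intro c _ hca
    rw [hg a c (Ne.symm hca), zero_mul]
  · intro h; exact absurd (Finset.mem_univ _) h

theorem diag_ne_zero {g : G} (hg : g ∈ Diag φ) (a : ι) : φ g a a ≠ 0 := by
  have h := diag_mul_apply φ (h := g⁻¹) hg a
  rw [mul_inv_cancel, map_one, Matrix.one_apply_eq] at h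
  exact left_ne_zero_of_mul_eq_one h.symm

theorem diag_pow_apply {g : G} (hg : g ∈ Diag φ) (a : ι) (k : ℕ) :
    φ (g ^ k) a a = (φ g a a) ^ k := by
  induction k with
  | zero => rw [pow_zero, pow_zero, map_one, Matrix.one_apply_eq]
  | succ k ih => rw [pow_succ', diag_mul_apply φ hg, ih, pow_succ']

theorem diag_pow_card_sub_one (hφ : Function.Injective φ) {g : G} (hg : g ∈ Diag φ) :
    g ^ (Fintype.card F - 1) = 1 := by
  apply hφ
  rw [map_one]
  ext a b
  by_cases hab : a = b
  · subst hab
    rw [diag_pow_apply φ hg, Matrix.one_apply_eq]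
    exact FiniteField.pow_card_sub_one_eq_one _ (diag_ne_zero φ hg a)
  · rw [Matrix.one_apply_ne hab]
    exact (Diag φ).pow_mem hg _ a b hab

theorem not_dvd_card_Diag (hφ : Function.Injective φ) (p : ℕ) [Fact p.Prime] [CharP F p] :
    ¬ p ∣ Nat.card (Diag φ) := by
  classical
  intro hdvd
  have hfinG : Finite G := Finite.of_injective φ hφ
  obtain ⟨t, ht⟩ := exists_prime_orderOf_dvd_card' p hdvd
  have hpow : t ^ (Fintype.card F - 1) = 1 := by
    apply Subtype.ext
    rw [Subgroup.coe_pow, Subgroup.coe_one]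
    exact diag_pow_card_sub_one φ hφ t.2
  have h1 : p ∣ Fintype.card F - 1 := by
    rw [← ht]
    exact orderOf_dvd_of_pow_eq_one hpow
  have h2 : p ∣ Fintype.card F := by
    obtain ⟨n, _, hn⟩ := FiniteField.card F p
    rw [hn]
    exact dvd_pow_self p n.ne_zero
  have hq1 : 1 ≤ Fintype.card F := Fintype.card_pos
  have h3 : p ∣ Fintype.card F - (Fintype.card F - 1) := Nat.dvd_sub h2 h1
  have h4 : Fintype.card F - (Fintype.card F - 1) = 1 := by omega
  rw [h4] at h3
  exact (Fact.out : p.Prime).one_lt.ne' (Nat.dvd_one.mp h3)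

end generic

variable {m : ℕ} {F : Type*} [Field F] [Fintype F] [NeZero (2 : F)]

/-- TORUS. -/
theorem not_dvd_card_Too (p : ℕ) [Fact p.Prime] [CharP F p] : ¬ p ∣ Nat.card (Too m F) :=
  not_dvd_card_Diag (φ m F) φ_injective p

end Cfsg.Agent.Lib.Helper9_StOo_TORUS
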