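import Mathlib
import Cfsg.Agent.Lib.Helper68_StOpDefs
import Cfsg.Agent.Lib.Helper44_OmegaAll
import Cfsg.Agent.Lib.Helper77_StOo_PGRP
import Cfsg.Agent.Lib.Helper9_StOo_TORUS

/-!
S2548 market (architect helper27), package DIAGMEM: the diagonal part of an element of the Borel subgroup of
`Ω⁺_{2m}(q)` lies in `Ω` (all characteristics; helper20).
-/

set_option autoImplicit false
set_option linter.unusedSectionVars false

namespace Cfsg.Agent.Lib.Helper20_StOp_DIAGMEM

open Matrix Cfsg.Agent.Lib.Helper68_MatGrp Cfsg.Agent.Lib.Helper68_StOpDefs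

variable {m : ℕ} {F : Type*} [Field F] [Fintype F]

/-- the product of the diagonal entries at `a` and `op a` of an upper triangular isometry is `1` -/
theorem diag_mul_op {b : OO m F} (hb : b ∈ BO m F) (a : I m) :
    φO m F b a a * φO m F b (op a) (op a) = 1 := by
  have h := UT_mul_apply_self (φO m F) (ht m) (ht_injective m) hb ((BO m F).inv_mem hb) a
  rw [mul_inv_cancel, map_one, Matrix.one_apply_eq, φO_inv_apply] at h
  exact h.symm

/-- an isometry of odd order lies in `Ω` -/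
theorem mem_omega_of_odd_pow (hm : 3 ≤ m) (g : OO m F) (n : ℕ) (hn : Odd n) (hg : g ^ n = 1) :
    g ∈ Cfsg.Omega F (⇑(QP m F)) := by
  obtain ⟨j, hj⟩ := hn
  rw [hj, pow_succ, pow_mul] at hg
  have h4 : g = ((g ^ 2) ^ j)⁻¹ := eq_inv_of_mul_eq_one_right hg
  rw [h4]
  apply Subgroup.inv_mem
  apply Subgroup.pow_mem
  rw [sq]
  exact Cfsg.Agent.Lib.Helper44_OmegaAll.mul_self_mem_omega (QP m F)
    (Cfsg.Agent.Lib.Helper14_POmegaSimple.nondegenerate_qfPlus m)
    (Or.inr (by rw [card_I]; omega)) g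

theorem exists_diag_Too (hm : 3 ≤ m) (b : GO m F) (hb : b ∈ Boo m F) :
    ∃ t ∈ Too m F, ∀ a, φ m F t a a = φ m F b a a := by
  have hbO : b.1 ∈ BO m F := hb
  have hd : ∀ a, (fun a => φO m F b.1 a a) a * (fun a => φO m F b.1 a a) (op a) = 1 :=
    fun a => diag_mul_op hbO a
  obtain ⟨t₀, ht₀⟩ : ∃ t₀ : OO m F, φO m F t₀ = Matrix.diagonal (fun a => φO m F b.1 a a) :=
    ⟨dgO (fun a => φO m F b.1 a a) hd, φO_dgO _ hd⟩
  have ht₀D : t₀ ∈ Diag (φO m F) := by
    intro a c hac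
    rw [ht₀, Matrix.diagonal_apply_ne _ hac]
  have hu : t₀⁻¹ * b.1 ∈ UO m F := by
    apply inv_mul_mem_UU (φO m F) (ht m) (ht_injective m) hbO ht₀D
    intro a
    rw [ht₀, Matrix.diagonal_apply_eq]
  have hmemΩ : t₀ ∈ Cfsg.Omega F (⇑(QP m F)) := by
    have hcp : CharP F (ringChar F) := ringChar.charP F
    have hpp : Fact (ringChar F).Prime := ⟨CharP.char_is_prime F (ringChar F)⟩
    by_cases hp2 : ringChar F = 2
    · -- characteristic two: the torus has odd order
      have hq : Fintype.card F % 2 = 0 := FiniteField.even_card_of_char_two hp2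
      have hq1 : 1 < Fintype.card F := Fintype.one_lt_card
      apply mem_omega_of_odd_pow hm t₀ (Fintype.card F - 1)
      · rw [Nat.odd_iff]; omega
      · exact Cfsg.Agent.Lib.Helper9_StOo_TORUS.diag_pow_card_sub_one (φO m F) φO_injective ht₀D
    · have hodd : Odd (ringChar F) := hpp.out.odd_of_ne_two hp2
      have hPG := Cfsg.Agent.Lib.Helper77_StOo_PGRP.isPGroup_UU (φO m F) φO_injective (ht m)
        (ht_injective m) (ringChar F)
      obtain ⟨k, hk⟩ := hPG ⟨t₀⁻¹ * b.1, hu⟩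
      have hk' : (t₀⁻¹ * b.1) ^ (ringChar F) ^ k = 1 := by
        have h3 := congrArg Subtype.val hk
        rwa [Subgroup.coe_pow] at h3
      have huΩ : t₀⁻¹ * b.1 ∈ Cfsg.Omega F (⇑(QP m F)) :=
        mem_omega_of_odd_pow hm _ ((ringChar F) ^ k) hodd.pow hk'
      have h5 : t₀ = b.1 * (t₀⁻¹ * b.1)⁻¹ := by group
      rw [h5]
      exact Subgroup.mul_mem _ b.2 (Subgroup.inv_mem _ huΩ)
  refine ⟨⟨t₀, hmemΩ⟩, ?_, ?_⟩
  · intro a c hac
    show φO m F t₀ a c = 0
    exact ht₀D a c hac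
  · intro a
    show φO m F t₀ a a = φO m F b.1 a a
    rw [ht₀, Matrix.diagonal_apply_eq]

end Cfsg.Agent.Lib.Helper20_StOp_DIAGMEM
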