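import Mathlib

/-!
# Abstract half of LOW22 (S2548, `PΩ⁺_4(2)`): the commutator subgroup of `(S × S) : 2`  (helper27)

`O` a finite group, `ρ : S × S →* O` injective with range of index 2, `τ ∈ O` swapping the two factors, `S / S'` of order 2
with `|S'|` odd.  Then `Ω = O'` has a surjection onto `S` with kernel of odd order, and `Ω / Z(Ω)` has a surjection onto
`S / Z(S)` whose kernel has order dividing `|ker| * |Z(S)|`.
-/

set_option autoImplicit false
set_option linter.unusedSectionVars false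

namespace Cfsg.Agent.Lib.Helper27_StOp_LOW22abs

open scoped commutatorElement

section lift

variable {G K : Type*} [Group G] [Group K]

/-- a surjection `G → K` induces a surjection `G / Z(G) → K / Z(K)` whose kernel has order dividing
`|ker| * |Z(K)|` -/
theorem exists_quot_hom [Finite G] (f₀ : G →* K) (hf : Function.Surjective f₀) :
    ∃ f : G ⧸ Subgroup.center G →* K ⧸ Subgroup.center K, Function.Surjective f ∧
      Nat.card f.ker ∣ Nat.card f₀.ker * Nat.card (Subgroup.center K) := by
  classical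
  have : Finite K := Finite.of_surjective f₀ hf
  set f₁ : G →* K ⧸ Subgroup.center K := (QuotientGroup.mk' (Subgroup.center K)).comp f₀ with hf₁
  have hf₁s : Function.Surjective f₁ := (QuotientGroup.mk'_surjective _).comp hf
  have hcen : Subgroup.center G ≤ f₁.ker := by
    intro z hz
    rw [MonoidHom.mem_ker, hf₁, MonoidHom.comp_apply, QuotientGroup.mk'_apply,
      QuotientGroup.eq_one_iff, Subgroup.mem_center_iff]
    intro k
    obtain ⟨g, rfl⟩ := hf k
    rw [← map_mul, ← map_mul, Subgroup.mem_center_iff.mp hz g]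
  refine ⟨QuotientGroup.lift (Subgroup.center G) f₁ hcen, ?_, ?_⟩
  · intro y
    obtain ⟨g, hg⟩ := hf₁s y
    exact ⟨QuotientGroup.mk g, by rw [QuotientGroup.lift_mk]; exact hg⟩
  · -- `|ker f₁| = |ker f₀| * |Z(K)|`
    have h1 : Nat.card G = Nat.card K * Nat.card f₀.ker := by
      rw [← Nat.card_congr (QuotientGroup.quotientKerEquivOfSurjective f₀ hf).toEquiv]
      exact Subgroup.card_eq_card_quotient_mul_card_subgroup f₀.ker
    have h2 : Nat.card G = Nat.card (K ⧸ Subgroup.center K) * Nat.card f₁.ker := by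
      rw [← Nat.card_congr (QuotientGroup.quotientKerEquivOfSurjective f₁ hf₁s).toEquiv]
      exact Subgroup.card_eq_card_quotient_mul_card_subgroup f₁.ker
    have h3 : Nat.card K = Nat.card (K ⧸ Subgroup.center K) * Nat.card (Subgroup.center K) :=
      Subgroup.card_eq_card_quotient_mul_card_subgroup (Subgroup.center K)
    have hpos : 0 < Nat.card (K ⧸ Subgroup.center K) := Nat.card_pos
    have h4 : Nat.card f₁.ker = Nat.card f₀.ker * Nat.card (Subgroup.center K) := by
      have : Nat.card (K ⧸ Subgroup.center K) * Nat.card f₁.ker =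
          Nat.card (K ⧸ Subgroup.center K) * (Nat.card f₀.ker * Nat.card (Subgroup.center K)) := by
        rw [← h2, h1, h3]
        ring
      exact Nat.eq_of_mul_eq_mul_left hpos this
    rw [← h4]
    -- the kernel of the lift is the image of `ker f₁`
    have hsurj : Function.Surjective
        (((QuotientGroup.mk' (Subgroup.center G)).comp f₁.ker.subtype).codRestrict
          (QuotientGroup.lift (Subgroup.center G) f₁ hcen).ker (fun x => by
            rw [MonoidHom.mem_ker, MonoidHom.comp_apply, QuotientGroup.mk'_apply,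
              QuotientGroup.lift_mk]
            exact x.2)) := by
      rintro ⟨y, hy⟩
      obtain ⟨g, rfl⟩ := QuotientGroup.mk_surjective y
      rw [MonoidHom.mem_ker, QuotientGroup.lift_mk] at hy
      exact ⟨⟨g, hy⟩, rfl⟩
    exact Subgroup.card_dvd_of_surjective _ hsurj

end lift

section main

variable {O S : Type*} [Group O] [Group S]

/-- the hom `(a, b) ↦ [a][b]` into the abelianization -/
noncomputable def θ (S : Type*) [Group S] : S × S →* Abelianization S :=
  (Abelianization.of.comp (MonoidHom.fst S S)) * (Abelianization.of.comp (MonoidHom.snd S S))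

theorem θ_apply (a b : S) : θ S (a, b) = Abelianization.of a * Abelianization.of b := rfl

theorem θ_swap (a b : S) : θ S (b, a) = θ S (a, b) := by
  rw [θ_apply, θ_apply, mul_comm]

theorem θ_surjective : Function.Surjective (θ S) := by
  intro y
  obtain ⟨a, rfl⟩ := QuotientGroup.mk'_surjective (commutator S) y
  exact ⟨(a, 1), by rw [θ_apply, map_one, mul_one]; rfl⟩

variable [Finite O] (ρ : S × S →* O) (hinj : Function.Injective ρ) (τ : O)
  (hidx : ρ.range.index = 2) (hτ : ∀ a b : S, τ * ρ (a, b) * τ⁻¹ = ρ (b, a))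
  (hS : (commutator S).index = 2)

include hinj hτ hS in
theorem tau_not_mem : τ ∉ ρ.range := by
  rintro ⟨⟨c, d⟩, hcd⟩
  have h1 : ∀ a : S, a = 1 := by
    intro a
    have h2 := hτ a 1
    rw [← hcd, ← map_inv, ← map_mul, ← map_mul] at h2
    have h3 := hinj h2
    simp only [Prod.mk_mul_mk, Prod.inv_mk, Prod.mk.injEq] at h3
    exact h3.2.symm ▸ (by simp)
  have h4 : commutator S = ⊤ := by
    rw [eq_top_iff]
    intro x _
    rw [h1 x]
    exact one_mem _
  rw [h4, Subgroup.index_top] at hS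
  omega

include hidx in
theorem omega_le_range : commutator O ≤ ρ.range := by
  have hn : ρ.range.Normal := Subgroup.normal_of_index_eq_two hidx
  have hcard : Nat.card (O ⧸ ρ.range) = 2 := by rw [← Subgroup.index_eq_card, hidx]
  have : Fact (Nat.Prime 2) := ⟨Nat.prime_two⟩
  have hcyc : IsCyclic (O ⧸ ρ.range) := isCyclic_of_prime_card hcard
  rw [commutator_def, Subgroup.commutator_le]
  intro g₁ _ g₂ _
  rw [← QuotientGroup.eq_one_iff, commutatorElement_def]
  have hc : ∀ a b : O ⧸ ρ.range, a * b = b * a := fun a b => by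
    obtain ⟨g, hg⟩ := hcyc.exists_generator
    obtain ⟨i, rfl⟩ := Subgroup.mem_zpowers_iff.mp (hg a)
    obtain ⟨j, rfl⟩ := Subgroup.mem_zpowers_iff.mp (hg b)
    rw [← zpow_add, ← zpow_add, add_comm]
  rw [QuotientGroup.mk_mul, QuotientGroup.mk_mul, QuotientGroup.mk_mul, QuotientGroup.mk_inv,
    QuotientGroup.mk_inv, hc (g₁ : O ⧸ ρ.range) g₂]
  group

/-- the subgroup `ρ {(a, b) | ab ∈ S'}` -/
noncomputable def NN : Subgroup O := (θ S).ker.map ρ

include hinj hidx hS in
theorem NN_index : (NN ρ).index = 4 := by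
  unfold NN
  rw [Subgroup.index_map, (MonoidHom.ker_eq_bot_iff ρ).mpr hinj, sup_bot_eq, hidx,
    Subgroup.index_ker, MonoidHom.range_eq_top.mpr θ_surjective, Subgroup.card_top]
  have : Nat.card (Abelianization S) = 2 := by
    rw [← hS, Subgroup.index_eq_card]
    rfl
  rw [this]

include hτ in
theorem tau_conj_mem {n : O} (hn : n ∈ NN ρ) : τ * n * τ⁻¹ ∈ NN ρ := by
  obtain ⟨⟨a, b⟩, hab, rfl⟩ := hn
  rw [hτ]
  refine ⟨(b, a), ?_, rfl⟩
  rw [SetLike.mem_coe, MonoidHom.mem_ker] at hab ⊢
  rw [θ_swap]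
  exact hab

theorem rho_conj_mem (y : S × S) {n : O} (hn : n ∈ NN ρ) : ρ y * n * (ρ y)⁻¹ ∈ NN ρ := by
  obtain ⟨x, hx, rfl⟩ := hn
  refine ⟨y * x * y⁻¹, ?_, by rw [map_mul, map_mul, map_inv]⟩
  exact (MonoidHom.normal_ker (θ S)).conj_mem x hx y

include hinj hidx hτ hS in
theorem NN_normal : (NN ρ).Normal := by
  constructor
  intro n hn g
  by_cases hg : g ∈ ρ.range
  · obtain ⟨y, rfl⟩ := hg
    exact rho_conj_mem ρ y hn
  · have hτ' : τ⁻¹ ∉ ρ.range := fun h => tau_not_mem ρ hinj τ hτ hS (by simpa using ρ.range.inv_mem h)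
    have h1 : g * τ⁻¹ ∈ ρ.range := by
      rw [Subgroup.mul_mem_iff_of_index_two hidx]
      exact ⟨fun h => absurd h hg, fun h => absurd h hτ'⟩
    obtain ⟨y, hy⟩ := h1
    have h2 : g = ρ y * τ := by rw [hy]; group
    rw [h2]
    have h3 := rho_conj_mem ρ y (tau_conj_mem ρ τ hτ hn)
    have h4 : ρ y * τ * n * (ρ y * τ)⁻¹ = ρ y * (τ * n * τ⁻¹) * (ρ y)⁻¹ := by group
    rw [h4]
    exact h3

include hinj hidx hτ hS in
theorem omega_le_NN : commutator O ≤ NN ρ := by
  have hn : (NN ρ).Normal := NN_normal ρ hinj τ hidx hτ hS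
  have hcard : Nat.card (O ⧸ NN ρ) = 2 ^ 2 := by
    rw [← Subgroup.index_eq_card, NN_index ρ hinj hidx hS]
    norm_num
  have : Fact (Nat.Prime 2) := ⟨Nat.prime_two⟩
  have hc : ∀ a b : O ⧸ NN ρ, a * b = b * a :=
    (IsPGroup.isMulCommutative_of_card_eq_prime_sq hcard).is_comm.comm
  rw [commutator_def, Subgroup.commutator_le]
  intro g₁ _ g₂ _
  rw [← QuotientGroup.eq_one_iff, commutatorElement_def]
  rw [QuotientGroup.mk_mul, QuotientGroup.mk_mul, QuotientGroup.mk_mul, QuotientGroup.mk_inv,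
    QuotientGroup.mk_inv, hc (g₁ : O ⧸ NN ρ) g₂]
  group

/-- the coordinates of an element of `Ω` -/
noncomputable def coord (hle : commutator O ≤ ρ.range) : ↥(commutator O) →* S × S :=
  (MonoidHom.ofInjective hinj).symm.toMonoidHom.comp (Subgroup.inclusion hle)

theorem rho_coord (hle : commutator O ≤ ρ.range) (ω : ↥(commutator O)) :
    ρ (coord ρ hinj hle ω) = ω.1 := by
  unfold coord
  rw [MonoidHom.comp_apply]
  exact MonoidHom.apply_ofInjective_symm hinj _

theorem coord_injective (hle : commutator O ≤ ρ.range) :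
    Function.Injective (coord ρ hinj hle) := by
  intro x y h
  apply Subtype.ext
  rw [← rho_coord ρ hinj hle x, ← rho_coord ρ hinj hle y, h]

include hτ in
theorem anti_mem (a : S) : ρ (a, a⁻¹) ∈ commutator O := by
  have h1 : ρ (a, a⁻¹) = ⁅ρ (a, 1), τ⁆ := by
    rw [commutatorElement_def]
    have h2 : τ * (ρ (a, 1))⁻¹ * τ⁻¹ = ρ (1, a⁻¹) := by
      rw [← map_inv, Prod.inv_mk, inv_one, hτ]
    have h3 : ρ (a, 1) * τ * (ρ (a, 1))⁻¹ * τ⁻¹ = ρ (a, 1) * (τ * (ρ (a, 1))⁻¹ * τ⁻¹) := by group
    rw [h3, h2, ← map_mul, Prod.mk_mul_mk, mul_one, one_mul]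
  rw [h1, commutator_def]
  exact Subgroup.commutator_mem_commutator (Subgroup.mem_top _) (Subgroup.mem_top _)

include hinj hidx hτ hS in
/-- **Abstract LOW22**: `Ω = O'` surjects onto `S` with a kernel of odd order. -/
theorem exists_hom (hodd : Odd (Nat.card (commutator S))) :
    ∃ f : ↥(commutator O) →* S, Function.Surjective f ∧ Odd (Nat.card f.ker) := by
  have hle := omega_le_range ρ hidx
  have hleN := omega_le_NN ρ hinj τ hidx hτ hS
  set c := coord ρ hinj hle with hc
  refine ⟨(MonoidHom.fst S S).comp c, ?_, ?_⟩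
  · intro a
    refine ⟨⟨ρ (a, a⁻¹), anti_mem ρ τ hτ a⟩, ?_⟩
    have h1 : c ⟨ρ (a, a⁻¹), anti_mem ρ τ hτ a⟩ = (a, a⁻¹) := by
      apply hinj
      rw [rho_coord]
    rw [MonoidHom.comp_apply, h1]
    rfl
  · -- the kernel embeds into `S'`
    have hmem : ∀ ω : ↥(((MonoidHom.fst S S).comp c).ker),
        ((MonoidHom.snd S S).comp c) ω.1 ∈ commutator S := by
      rintro ⟨ω, hω⟩
      obtain ⟨⟨a, b⟩, hab, hρ⟩ := hleN ω.2
      have h1 : c ω = (a, b) := by
        apply hinj
        rw [rho_coord, hρ]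
      rw [MonoidHom.mem_ker, MonoidHom.comp_apply, h1] at hω
      have ha : a = 1 := hω
      rw [SetLike.mem_coe, MonoidHom.mem_ker, θ_apply, ha, map_one, one_mul] at hab
      rw [MonoidHom.comp_apply, h1]
      show b ∈ commutator S
      rw [← Abelianization.ker_of S, MonoidHom.mem_ker]
      exact hab
    set k : ↥(((MonoidHom.fst S S).comp c).ker) →* ↥(commutator S) :=
      (((MonoidHom.snd S S).comp c).comp (Subgroup.subtype _)).codRestrict (commutator S) hmem
      with hk
    have hkinj : Function.Injective k := by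
      rintro ⟨x, hx⟩ ⟨y, hy⟩ hxy
      apply Subtype.ext
      apply coord_injective ρ hinj hle
      have h1 : (c x).2 = (c y).2 := congrArg Subtype.val hxy
      have h2 : (c x).1 = 1 := hx
      have h3 : (c y).1 = 1 := hy
      exact Prod.ext (h2.trans h3.symm) h1
    have hdvd : Nat.card ↥(((MonoidHom.fst S S).comp c).ker) ∣ Nat.card ↥(commutator S) :=
      Subgroup.card_dvd_of_injective k hkinj
    exact Odd.of_dvd_nat hodd hdvd

include hinj hidx hτ hS in
/-- **Abstract LOW22**, projective version. -/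
theorem exists_proj_hom (hodd : Odd (Nat.card (commutator S)))
    (hZ : Odd (Nat.card (Subgroup.center S))) :
    ∃ f : ↥(commutator O) ⧸ Subgroup.center ↥(commutator O) →* S ⧸ Subgroup.center S,
      Function.Surjective f ∧ Odd (Nat.card f.ker) := by
  obtain ⟨f₀, hf₀, hk⟩ := exists_hom ρ hinj τ hidx hτ hS hodd
  obtain ⟨f, hf, hd⟩ := exists_quot_hom f₀ hf₀
  exact ⟨f, hf, Odd.of_dvd_nat (hk.mul hZ) hd⟩

end main

end Cfsg.Agent.Lib.Helper27_StOp_LOW22abs
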