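import Mathlib
import Cfsg.Prelude.Def_Characters
import Cfsg.Agent.Lib.Helper57_FrobNorm

/-!
Transport of the "Steinberg conclusion" (an irreducible character of degree `|P|` vanishing on `P \ 1` for every
Sylow `p`-subgroup `P`) along a surjective homomorphism whose kernel has order prime to `p`.  (helper27)
-/

set_option autoImplicit false

namespace Cfsg.Agent.Lib.Helper27_StTransport

/-- a `p`-element in a subgroup of order prime to `p` is trivial -/
theorem eq_one_of_mem_of_coprime {G : Type*} [Group G] [Finite G] (p : ℕ) [Fact p.Prime]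
    (K : Subgroup G) (hK : (Nat.card K).Coprime p) (P : Subgroup G) (hP : IsPGroup p P)
    {x : G} (hxP : x ∈ P) (hxK : x ∈ K) : x = 1 := by
  obtain ⟨k, hk⟩ := hP ⟨x, hxP⟩
  have hk' : x ^ p ^ k = 1 := by
    have := congrArg Subtype.val hk
    simpa using this
  have h1 : orderOf x ∣ p ^ k := orderOf_dvd_of_pow_eq_one hk'
  have h2 : orderOf x ∣ Nat.card K := by
    have h3 : orderOf (⟨x, hxK⟩ : K) ∣ Nat.card K := orderOf_dvd_natCard _
    rwa [Subgroup.orderOf_mk] at h3
  have h4 : orderOf x ∣ Nat.gcd (Nat.card K) (p ^ k) := Nat.dvd_gcd h2 h1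
  have h5 : Nat.gcd (Nat.card K) (p ^ k) = 1 := Nat.Coprime.pow_right k hK
  rw [h5, Nat.dvd_one] at h4
  exact orderOf_eq_one_iff.mp h4

/-- Transport of the Steinberg conclusion along a surjection with `p'`-kernel. -/
theorem transport_steinberg_surj {G S : Type*} [Group G] [Group S] [Finite G] (f : G →* S)
    (hf : Function.Surjective f) (p : ℕ) [Fact p.Prime] (hker : (Nat.card f.ker).Coprime p)
    (h : ∃ χ : S → ℂ, Cfsg.IsIrrCharacter S χ ∧ ∀ Q : Sylow p S, χ 1 = Nat.card Q ∧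
      ∀ x : S, x ∈ Q → x ≠ 1 → χ x = 0) :
    ∃ χ : G → ℂ, Cfsg.IsIrrCharacter G χ ∧ ∀ P : Sylow p G, χ 1 = Nat.card P ∧
      ∀ x : G, x ∈ P → x ≠ 1 → χ x = 0 := by
  obtain ⟨χ, hχ, hQ⟩ := h
  refine ⟨fun x => χ (f x),
    Cfsg.Agent.Lib.Helper57_FrobNorm.isIrrCharacter_comp_surjective f hf hχ, fun P => ?_⟩
  have hinj : ∀ x ∈ P, f x = 1 → x = 1 := fun x hx hfx =>
    eq_one_of_mem_of_coprime p f.ker hker P P.isPGroup' hx (MonoidHom.mem_ker.mpr hfx)
  set Q : Sylow p S := P.mapSurjective hf with hQdef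
  have hQcoe : (Q : Subgroup S) = (P : Subgroup G).map f := Sylow.coe_mapSurjective hf P
  obtain ⟨h1, h2⟩ := hQ Q
  constructor
  · show χ (f 1) = _
    rw [map_one, h1]
    congr 1
    show Nat.card (Q : Subgroup S) = Nat.card (P : Subgroup G)
    rw [hQcoe]
    symm
    refine Nat.card_congr (Equiv.ofBijective
      (fun x : (P : Subgroup G) => (⟨f x.1, Subgroup.mem_map_of_mem f x.2⟩ : (P : Subgroup G).map f))
      ⟨?_, ?_⟩)
    · intro x y hxy
      have h3 : f x.1 = f y.1 := congrArg Subtype.val hxy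
      have h4 : f (x.1⁻¹ * y.1) = 1 := by rw [map_mul, map_inv, h3, inv_mul_cancel]
      have h5 := hinj _ ((P : Subgroup G).mul_mem ((P : Subgroup G).inv_mem x.2) y.2) h4
      apply Subtype.ext
      exact inv_mul_eq_one.mp h5
    · rintro ⟨y, x, hx, rfl⟩
      exact ⟨⟨x, hx⟩, rfl⟩
  · intro x hx hx1
    apply h2 (f x)
    · show f x ∈ (Q : Subgroup S)
      rw [hQcoe]
      exact Subgroup.mem_map_of_mem f hx
    · intro hfx
      exact hx1 (hinj x hx hfx)

end Cfsg.Agent.Lib.Helper27_StTransport
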