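import Mathlib
import Cfsg.Prelude.Def_Classical
import Cfsg.Agent.Lib.Helper44_Orth
import Cfsg.Agent.Lib.Helper44_StdForms
import Cfsg.Agent.Lib.Helper44_OmegaOdd
import Cfsg.Agent.Lib.Helper44_Levi
import Cfsg.Agent.Lib.Helper5_SLGen
import Cfsg.Agent.Lib.Helper5_SpPerfect

set_option autoImplicit false
set_option linter.unusedSectionVars false
set_option linter.unusedSimpArgs false

/-!
`SL₂(F) × SL₂(F)` acts on `M₂(F)` by `X ↦ g X h⁻¹`, preserving the determinant, which is the hyperbolic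
quadratic form `x₀y₀ + x₁y₁` (helper5).
-/

namespace Cfsg.Agent.Lib.Helper5_O4Plus

open Matrix Cfsg Cfsg.Agent.Lib.Helper44_Orth Cfsg.Agent.Lib.Helper44_StdForms

variable {F : Type*} [Field F]

/-- the index type of the 4-dimensional form -/
abbrev I4 : Type := Fin 2 ⊕ Fin 2

/-- vectors to matrices -/
def mat : (I4 → F) →ₗ[F] Matrix (Fin 2) (Fin 2) F where
  toFun v := !![v (Sum.inl 0), v (Sum.inl 1); - v (Sum.inr 1), v (Sum.inr 0)]
  map_add' v w := by
    ext i j
    fin_cases i <;> fin_cases j <;> simp <;> ring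
  map_smul' c v := by
    ext i j
    fin_cases i <;> fin_cases j <;> simp

lemma mat_apply (v : I4 → F) :
    mat v = !![v (Sum.inl 0), v (Sum.inl 1); - v (Sum.inr 1), v (Sum.inr 0)] := rfl

/-- matrices to vectors -/
def coords : Matrix (Fin 2) (Fin 2) F →ₗ[F] (I4 → F) where
  toFun X := Sum.elim ![X 0 0, X 0 1] ![X 1 1, - X 1 0]
  map_add' X Y := by
    ext i
    rcases i with i | i <;> fin_cases i <;> simp <;> ring
  map_smul' c X := by
    ext i
    rcases i with i | i <;> fin_cases i <;> simp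

lemma coords_mat (v : I4 → F) : coords (mat v) = v := by
  ext i
  rcases i with i | i <;> fin_cases i <;> simp [coords, mat]

lemma mat_coords (X : Matrix (Fin 2) (Fin 2) F) : mat (coords X) = X := by
  ext i j
  fin_cases i <;> fin_cases j <;> simp [coords, mat]

lemma det_mat (v : I4 → F) : (mat v).det = Cfsg.quadFormPlus 2 F v := by
  rw [mat_apply, Matrix.det_fin_two_of]
  simp [Cfsg.quadFormPlus, Fin.sum_univ_two]

/-- `X ↦ g X h⁻¹` -/
def act (p : SpecialLinearGroup (Fin 2) F × SpecialLinearGroup (Fin 2) F) :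
    Matrix (Fin 2) (Fin 2) F →ₗ[F] Matrix (Fin 2) (Fin 2) F where
  toFun X := (p.1 : Matrix (Fin 2) (Fin 2) F) * X * ((p.2⁻¹ : SpecialLinearGroup (Fin 2) F) : Matrix (Fin 2) (Fin 2) F)
  map_add' X Y := by rw [Matrix.mul_add, Matrix.add_mul]
  map_smul' c X := by simp

lemma act_apply (p : SpecialLinearGroup (Fin 2) F × SpecialLinearGroup (Fin 2) F) (X : Matrix (Fin 2) (Fin 2) F) :
    act p X = (p.1 : Matrix (Fin 2) (Fin 2) F) * X * ((p.2⁻¹ : SpecialLinearGroup (Fin 2) F) : Matrix (Fin 2) (Fin 2) F) := rfl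

lemma act_mul (p r : SpecialLinearGroup (Fin 2) F × SpecialLinearGroup (Fin 2) F) (X : Matrix (Fin 2) (Fin 2) F) :
    act (p * r) X = act p (act r X) := by
  rw [act_apply, act_apply, act_apply]
  show (p.1 * r.1).1 * X * ((p.2 * r.2)⁻¹).1 = p.1.1 * (r.1.1 * X * (r.2⁻¹).1) * (p.2⁻¹).1
  rw [_root_.mul_inv_rev]
  show (p.1.1 * r.1.1) * X * ((r.2⁻¹).1 * (p.2⁻¹).1) = _
  simp only [Matrix.mul_assoc]

lemma act_one (X : Matrix (Fin 2) (Fin 2) F) : act 1 X = X := by
  simp [act_apply]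

lemma det_act (p : SpecialLinearGroup (Fin 2) F × SpecialLinearGroup (Fin 2) F) (X : Matrix (Fin 2) (Fin 2) F) :
    (act p X).det = X.det := by
  rw [act_apply, Matrix.det_mul, Matrix.det_mul]
  show p.1.1.det * X.det * (p.2⁻¹).1.det = X.det
  rw [p.1.2, (p.2⁻¹).2, one_mul, mul_one]

/-- the action on vectors -/
def L (p : SpecialLinearGroup (Fin 2) F × SpecialLinearGroup (Fin 2) F) : (I4 → F) →ₗ[F] (I4 → F) :=
  coords ∘ₗ act p ∘ₗ mat

lemma L_apply' (p : SpecialLinearGroup (Fin 2) F × SpecialLinearGroup (Fin 2) F) (v : I4 → F) :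
    L p v = coords (act p (mat v)) := rfl

lemma mat_L (p : SpecialLinearGroup (Fin 2) F × SpecialLinearGroup (Fin 2) F) (v : I4 → F) :
    mat (L p v) = act p (mat v) := by
  rw [L_apply', mat_coords]

lemma L_mul' (p r : SpecialLinearGroup (Fin 2) F × SpecialLinearGroup (Fin 2) F) : L (p * r) = L p ∘ₗ L r := by
  refine LinearMap.ext fun v => ?_
  rw [LinearMap.comp_apply, L_apply', act_mul, ← mat_L r v, ← L_apply']

lemma L_one' : L (1 : SpecialLinearGroup (Fin 2) F × SpecialLinearGroup (Fin 2) F) = LinearMap.id := by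
  refine LinearMap.ext fun v => ?_
  rw [L_apply', act_one, coords_mat, LinearMap.id_apply]

lemma Q_L (p : SpecialLinearGroup (Fin 2) F × SpecialLinearGroup (Fin 2) F) (v : I4 → F) :
    Cfsg.quadFormPlus 2 F (L p v) = Cfsg.quadFormPlus 2 F v := by
  rw [← det_mat, mat_L, det_act, det_mat]

lemma toMatrix'_L_mul (p r : SpecialLinearGroup (Fin 2) F × SpecialLinearGroup (Fin 2) F) :
    LinearMap.toMatrix' (L p) * LinearMap.toMatrix' (L r) = LinearMap.toMatrix' (L (p * r)) := by
  rw [L_mul', LinearMap.toMatrix'_comp]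

/-- The representation of `SL₂ × SL₂` on the 4-dimensional hyperbolic space. -/
def rho4 : SpecialLinearGroup (Fin 2) F × SpecialLinearGroup (Fin 2) F →* ↥(Cfsg.isometryGroup F (⇑(qfPlus 2 F))) where
  toFun p := ⟨⟨LinearMap.toMatrix' (L p), LinearMap.toMatrix' (L p⁻¹),
      by rw [toMatrix'_L_mul, mul_inv_cancel, L_one', LinearMap.toMatrix'_id],
      by rw [toMatrix'_L_mul, inv_mul_cancel, L_one', LinearMap.toMatrix'_id]⟩, by
    rw [mem_isometryGroup_iff]
    intro u
    show qfPlus 2 F (LinearMap.toMatrix' (L p) *ᵥ u) = qfPlus 2 F u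
    rw [LinearMap.toMatrix'_mulVec, coe_qfPlus, Q_L]⟩
  map_one' := by
    apply Subtype.ext
    apply Units.ext
    show LinearMap.toMatrix' (L (1 : SpecialLinearGroup (Fin 2) F × SpecialLinearGroup (Fin 2) F)) = 1
    rw [L_one', LinearMap.toMatrix'_id]
  map_mul' p r := by
    apply Subtype.ext
    apply Units.ext
    show LinearMap.toMatrix' (L (p * r)) = LinearMap.toMatrix' (L p) * LinearMap.toMatrix' (L r)
    rw [toMatrix'_L_mul]

lemma rho4_coe (p : SpecialLinearGroup (Fin 2) F × SpecialLinearGroup (Fin 2) F) :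
    ((rho4 p : Matrix.GeneralLinearGroup I4 F) : Matrix I4 I4 F) = LinearMap.toMatrix' (L p) := rfl

lemma rho4_mulVec (p : SpecialLinearGroup (Fin 2) F × SpecialLinearGroup (Fin 2) F) (v : I4 → F) :
    ((rho4 p : Matrix.GeneralLinearGroup I4 F) : Matrix I4 I4 F) *ᵥ v = L p v := by
  rw [rho4_coe, LinearMap.toMatrix'_mulVec]

/-- If `(g,h)` acts as the scalar `ε`, then `g` and `h` are central. -/
theorem mem_center_of_L_scalar (p : SpecialLinearGroup (Fin 2) F × SpecialLinearGroup (Fin 2) F) (ε : F) (hε : ε ≠ 0)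
    (h : ∀ v, L p v = ε • v) :
    p.1.1 = ε • p.2.1 ∧ p.1 ∈ Subgroup.center (SpecialLinearGroup (Fin 2) F) ∧
      p.2 ∈ Subgroup.center (SpecialLinearGroup (Fin 2) F) := by
  have key : ∀ X : Matrix (Fin 2) (Fin 2) F, p.1.1 * X = ε • (X * p.2.1) := by
    intro X
    have h1 := mat_L p (coords X)
    rw [h, map_smul, mat_coords, act_apply] at h1
    have h2 : (p.2⁻¹).1 * p.2.1 = 1 :=
      congrArg (fun x : SpecialLinearGroup (Fin 2) F => x.1) (inv_mul_cancel p.2)
    have h3 : p.1.1 * X * (p.2⁻¹).1 = ε • X := h1.symm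
    calc p.1.1 * X = p.1.1 * X * ((p.2⁻¹).1 * p.2.1) := by rw [h2, Matrix.mul_one]
      _ = (p.1.1 * X * (p.2⁻¹).1) * p.2.1 := by simp only [Matrix.mul_assoc]
      _ = ε • (X * p.2.1) := by rw [h3, Matrix.smul_mul]
  have h1 : p.1.1 = ε • p.2.1 := by
    have := key 1
    rwa [Matrix.mul_one, Matrix.one_mul] at this
  have hc1 : ∀ k : SpecialLinearGroup (Fin 2) F, k.1 * p.1.1 = p.1.1 * k.1 := by
    intro k
    rw [key k.1]
    conv_lhs => rw [h1]
    rw [Matrix.mul_smul]
  refine ⟨h1, ?_, ?_⟩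
  · rw [Subgroup.mem_center_iff]
    intro k
    apply Subtype.ext
    exact hc1 k
  · rw [Subgroup.mem_center_iff]
    intro k
    apply Subtype.ext
    show k.1 * p.2.1 = p.2.1 * k.1
    have h2 : p.2.1 = ε⁻¹ • p.1.1 := by
      rw [h1, smul_smul, inv_mul_cancel₀ hε, one_smul]
    rw [h2, Matrix.mul_smul, Matrix.smul_mul, hc1 k]

lemma transvection_pow_char [Fintype F] (p : ℕ) [CharP F p] {i j : Fin 2} (hij : i ≠ j) (c : F) :
    (SpecialLinearGroup.transvection hij c : SpecialLinearGroup (Fin 2) F) ^ p = 1 := by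
  apply Matrix.SpecialLinearGroup.ext
  intro i' j'
  rw [Matrix.SpecialLinearGroup.coe_pow, Matrix.SpecialLinearGroup.coe_one]
  have : ((SpecialLinearGroup.transvection hij c : Matrix.SpecialLinearGroup (Fin 2) F) :
      Matrix (Fin 2) (Fin 2) F) = Matrix.transvection i j c := rfl
  rw [this, Cfsg.Agent.Lib.Helper44_Levi.transvection_pow 2 F i j hij c p, CharP.cast_eq_zero F p, zero_mul,
    Matrix.transvection_zero]

/-- The image of `rho4` lies in `Ω` as soon as `|F| ≥ 3`. -/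
theorem rho4_mem_omega [Fintype F] (hF : 3 ≤ Fintype.card F)
    (hQ : (QuadraticMap.polarBilin (qfPlus 2 F)).Nondegenerate)
    (p : SpecialLinearGroup (Fin 2) F × SpecialLinearGroup (Fin 2) F) :
    rho4 p ∈ Cfsg.Omega F (⇑(qfPlus 2 F)) := by
  have hp : p = (MonoidHom.inl _ _ p.1) * (MonoidHom.inr _ _ p.2) := by
    ext <;> simp
  rw [hp, map_mul]
  by_cases h2 : (2 : F) = 0
  · -- characteristic two: `SL₂` is perfect
    have h4 : 4 ≤ Fintype.card F := by
      have hc : ringChar F = 2 := CharP.ringChar_of_prime_eq_zero Nat.prime_two (by exact_mod_cast h2)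
      have := FiniteField.even_card_of_char_two hc
      omega
    obtain ⟨a, ha, hasq⟩ := Cfsg.Agent.Lib.Helper5_SpPerfect.exists_sq_ne_one (F := F) h4
    have hperf := Matrix.SL2.commutator_eq_top ha hasq
    have h1 : p.1 ∈ commutator (SpecialLinearGroup (Fin 2) F) := by rw [hperf]; trivial
    have h3 : p.2 ∈ commutator (SpecialLinearGroup (Fin 2) F) := by rw [hperf]; trivial
    exact Subgroup.mul_mem _
      (map_mem_commutator ((rho4 (F := F)).comp (MonoidHom.inl _ _)) h1)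
      (map_mem_commutator ((rho4 (F := F)).comp (MonoidHom.inr _ _)) h3)
  · obtain ⟨c, hc⟩ := CharP.exists F
    have hpp : c.Prime := CharP.char_is_prime F c
    have hpodd : Odd c := by
      rcases hpp.eq_two_or_odd' with h | h
      · exfalso
        apply h2
        have : ((c : ℕ) : F) = 0 := CharP.cast_eq_zero F c
        rw [h] at this
        exact_mod_cast this
      · exact h
    refine Subgroup.mul_mem _ ?_ ?_
    · refine Cfsg.Agent.Lib.Helper5_SLGen.transvection_induction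
        (fun A => rho4 (MonoidHom.inl _ (SpecialLinearGroup (Fin 2) F) A) ∈ Cfsg.Omega F (⇑(qfPlus 2 F))) ?_ ?_ p.1
      · intro i j hij t
        apply Cfsg.Agent.Lib.Helper44_OmegaOdd.mem_omega_of_pow_eq_one h2 (qfPlus 2 F) hQ _ hpodd
        rw [← map_pow, ← map_pow, transvection_pow_char c hij t, map_one, map_one]
      · intro A B hA hB
        show rho4 (MonoidHom.inl _ _ (A * B)) ∈ _
        rw [map_mul, map_mul]
        exact Subgroup.mul_mem _ hA hB
    · refine Cfsg.Agent.Lib.Helper5_SLGen.transvection_induction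
        (fun A => rho4 (MonoidHom.inr (SpecialLinearGroup (Fin 2) F) _ A) ∈ Cfsg.Omega F (⇑(qfPlus 2 F))) ?_ ?_ p.2
      · intro i j hij t
        apply Cfsg.Agent.Lib.Helper44_OmegaOdd.mem_omega_of_pow_eq_one h2 (qfPlus 2 F) hQ _ hpodd
        rw [← map_pow, ← map_pow, transvection_pow_char c hij t, map_one, map_one]
      · intro A B hA hB
        show rho4 (MonoidHom.inr _ _ (A * B)) ∈ _
        rw [map_mul, map_mul]
        exact Subgroup.mul_mem _ hA hB

/-- elements of the kernel are `(c, c)` with `c² = 1` -/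
lemma ker_rho4_scalar (p : SpecialLinearGroup (Fin 2) F × SpecialLinearGroup (Fin 2) F)
    (hp : p ∈ (rho4 (F := F)).ker) :
    ∃ r : F, r * r = 1 ∧ p.1.1 = r • (1 : Matrix (Fin 2) (Fin 2) F) ∧ p.2.1 = r • (1 : Matrix (Fin 2) (Fin 2) F) := by
  have hL : ∀ v, L p v = (1 : F) • v := by
    intro v
    rw [← rho4_mulVec, MonoidHom.mem_ker.mp hp, one_smul]
    show (1 : Matrix I4 I4 F) *ᵥ v = v
    rw [Matrix.one_mulVec]
  obtain ⟨h12, hc1, _⟩ := mem_center_of_L_scalar p 1 one_ne_zero hL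
  rw [one_smul] at h12
  rw [Matrix.SpecialLinearGroup.mem_center_iff] at hc1
  obtain ⟨r, hr, hr1⟩ := hc1
  have h1 : p.1.1 = r • (1 : Matrix (Fin 2) (Fin 2) F) := by
    rw [← hr1, Matrix.smul_one_eq_diagonal]
    rfl
  refine ⟨r, ?_, h1, by rw [← h12, h1]⟩
  simpa [pow_two] using hr

lemma card_ker_rho4_le_two [Fintype F] : Nat.card (rho4 (F := F)).ker ≤ 2 := by
  classical
  have hinj : Function.Injective
      (fun g : (rho4 (F := F)).ker => (⟨g.1.1.1 0 0, by
        obtain ⟨r, hr, hg, _⟩ := ker_rho4_scalar g.1 g.2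
        rw [hg]
        have h2 : (r - 1) * (r + 1) = 0 := by linear_combination hr
        rcases mul_eq_zero.mp h2 with h | h
        · simp [sub_eq_zero.mp h]
        · simp [eq_neg_of_add_eq_zero_left h]⟩ : ↥({1, -1} : Finset F))) := by
    intro g h hgh
    have h0 : g.1.1.1 0 0 = h.1.1.1 0 0 := congrArg Subtype.val hgh
    obtain ⟨r, _, hg1, hg2⟩ := ker_rho4_scalar g.1 g.2
    obtain ⟨r', _, hh1, hh2⟩ := ker_rho4_scalar h.1 h.2
    rw [hg1, hh1] at h0
    simp at h0
    apply Subtype.ext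
    apply Prod.ext
    · apply Subtype.ext
      rw [hg1, hh1, h0]
    · apply Subtype.ext
      rw [hg2, hh2, h0]
  calc Nat.card (rho4 (F := F)).ker ≤ Nat.card ↥({1, -1} : Finset F) := Nat.card_le_card_of_injective _ hinj
    _ = ({1, -1} : Finset F).card := by rw [Nat.card_eq_fintype_card, Fintype.card_coe]
    _ ≤ 2 := Finset.card_le_two

lemma ker_rho4_eq_bot_of_two (h2 : (2 : F) = 0) : (rho4 (F := F)).ker = ⊥ := by
  rw [eq_bot_iff]
  intro g hg
  rw [Subgroup.mem_bot]
  obtain ⟨r, hr, hg1, hg2⟩ := ker_rho4_scalar g hg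
  have h3 : (r - 1) * (r - 1) = 0 := by linear_combination hr + (1 - r) * h2
  have h4 : r = 1 := by
    rcases mul_eq_zero.mp h3 with h | h <;> exact sub_eq_zero.mp h
  rw [h4, one_smul] at hg1 hg2
  apply Prod.ext
  · apply Subtype.ext
    rw [hg1]; rfl
  · apply Subtype.ext
    rw [hg2]; rfl

end Cfsg.Agent.Lib.Helper5_O4Plus
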