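import Mathlib
import Cfsg.Agent.Lib.Helper5_O4Plus
import Cfsg.Agent.Lib.Helper5_PSLCard
import Cfsg.Agent.Lib.Helper44_StdForms
import Cfsg.Agent.Lib.Helper44_Orth
import Cfsg.Agent.S0287
import Cfsg.Agent.S2544
import Cfsg.Agent.Lib.Helper27_StTransport
import Cfsg.Agent.Lib.Helper27_StOp_LOW22abs

/-!
# S2548, package LOW22: the Steinberg character of `PΩ⁺_4(2)` (order 18)   (helper27)

`O⁺_4(F) ⊇ ρ(SL₂ × SL₂)` (helper5's `rho4`, `X ↦ a X b⁻¹` on `2 × 2` matrices with `Q = det`), of index 2 for `|F| = 2`;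
the isometry `τ : X ↦ adj X` swaps the two factors.  The abstract lemma `Helper27_StOp_LOW22abs.exists_proj_hom` gives a
surjection `PΩ⁺_4(F) → PSL₂(F)` with kernel of odd order, and the Steinberg character of `PSL₂(F)` (S2544) is transported.
-/

set_option autoImplicit false
set_option linter.unusedSectionVars false

namespace Cfsg.Agent.Lib.Helper27_StOp_LOW22

open scoped commutatorElement
open Matrix Cfsg Cfsg.Agent.Lib.Helper5_O4Plus Cfsg.Agent.Lib.Helper44_StdForms
  Cfsg.Agent.Lib.Helper44_Orth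

variable {F : Type*} [Field F]

/-- the swap `X ↦ adj X` in coordinates: `e₀ ↔ f₀`, `e₁ ↦ -e₁`, `f₁ ↦ -f₁` -/
def swapLin : (I4 → F) →ₗ[F] (I4 → F) where
  toFun v := Sum.elim ![v (Sum.inr 0), - v (Sum.inl 1)] ![v (Sum.inl 0), - v (Sum.inr 1)]
  map_add' v w := by
    ext i
    rcases i with i | i <;> fin_cases i <;> simp <;> ring
  map_smul' c v := by
    ext i
    rcases i with i | i <;> fin_cases i <;> simp

theorem mat_swapLin (v : I4 → F) : mat (swapLin v) = Matrix.adjugate (mat v) := by
  rw [mat_apply, mat_apply, Matrix.adjugate_fin_two_of]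
  simp [swapLin]

theorem swapLin_swapLin (v : I4 → F) : swapLin (swapLin v) = v := by
  ext i
  rcases i with i | i <;> fin_cases i <;> simp [swapLin]

theorem swapLin_comp : (swapLin : (I4 → F) →ₗ[F] (I4 → F)) ∘ₗ swapLin = LinearMap.id :=
  LinearMap.ext fun v => swapLin_swapLin v

theorem Q_swapLin (v : I4 → F) :
    Cfsg.quadFormPlus 2 F (swapLin v) = Cfsg.quadFormPlus 2 F v := by
  simp [Cfsg.quadFormPlus, Fin.sum_univ_two, swapLin]
  ring

theorem mat_injective : Function.Injective (mat : (I4 → F) → Matrix (Fin 2) (Fin 2) F) := by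
  intro v w h
  rw [← coords_mat v, ← coords_mat w, h]

/-- the swap commutes the two factors -/
theorem swapLin_L (a b : SpecialLinearGroup (Fin 2) F) (v : I4 → F) :
    swapLin (L (a, b) (swapLin v)) = L (b, a) v := by
  apply mat_injective
  rw [mat_swapLin, mat_L, mat_L, act_apply, act_apply, mat_swapLin, Matrix.adjugate_mul_distrib,
    Matrix.adjugate_mul_distrib, Matrix.adjugate_adjugate _ (by simp)]
  simp only [Fintype.card_fin, Nat.sub_self, pow_zero, one_smul]
  rw [Matrix.SpecialLinearGroup.coe_inv, Matrix.SpecialLinearGroup.coe_inv,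
    Matrix.adjugate_adjugate _ (by simp)]
  simp only [Fintype.card_fin, Nat.sub_self, pow_zero, one_smul, Matrix.mul_assoc]

/-- the swap as an isometry -/
def τ : ↥(Cfsg.isometryGroup F (⇑(qfPlus 2 F))) :=
  ⟨⟨LinearMap.toMatrix' (swapLin (F := F)), LinearMap.toMatrix' (swapLin (F := F)),
      by rw [← LinearMap.toMatrix'_comp, swapLin_comp, LinearMap.toMatrix'_id],
      by rw [← LinearMap.toMatrix'_comp, swapLin_comp, LinearMap.toMatrix'_id]⟩, by
    rw [mem_isometryGroup_iff]
    intro u
    show qfPlus 2 F (LinearMap.toMatrix' (swapLin (F := F)) *ᵥ u) = qfPlus 2 F u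
    rw [LinearMap.toMatrix'_mulVec, coe_qfPlus, Q_swapLin]⟩

theorem τ_coe : ((τ (F := F) : Matrix.GeneralLinearGroup I4 F) : Matrix I4 I4 F) =
    LinearMap.toMatrix' (swapLin (F := F)) := rfl

theorem τ_mul_τ : (τ (F := F)) * τ = 1 := by
  apply Subtype.ext
  apply Units.ext
  show LinearMap.toMatrix' (swapLin (F := F)) * LinearMap.toMatrix' (swapLin (F := F)) = 1
  rw [← LinearMap.toMatrix'_comp, swapLin_comp, LinearMap.toMatrix'_id]

theorem τ_inv : (τ (F := F))⁻¹ = τ := inv_eq_of_mul_eq_one_right τ_mul_τ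

theorem τ_conj (a b : SpecialLinearGroup (Fin 2) F) :
    τ * rho4 (a, b) * τ⁻¹ = rho4 (b, a) := by
  rw [τ_inv]
  apply Subtype.ext
  apply Units.ext
  show LinearMap.toMatrix' (swapLin (F := F)) * LinearMap.toMatrix' (L (a, b)) *
    LinearMap.toMatrix' (swapLin (F := F)) = LinearMap.toMatrix' (L (b, a))
  rw [← LinearMap.toMatrix'_comp, ← LinearMap.toMatrix'_comp]
  congr 1
  exact LinearMap.ext fun v => swapLin_L a b v

section finite

variable [Fintype F]

theorem two_eq_zero (hF : Fintype.card F = 2) : (2 : F) = 0 := by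
  have h := Nat.cast_card_eq_zero F
  rw [hF] at h
  exact_mod_cast h

theorem eq_one_of_ne_zero (hF : Fintype.card F = 2) {r : F} (hr : r ≠ 0) : r = 1 := by
  classical
  by_contra h1
  have hsub : ({0, 1, r} : Finset F) ⊆ Finset.univ := Finset.subset_univ _
  have hc : ({0, 1, r} : Finset F).card = 3 := by
    rw [Finset.card_insert_of_notMem, Finset.card_insert_of_notMem, Finset.card_singleton]
    · simp only [Finset.mem_singleton]
      exact fun e => h1 e.symm
    · simp only [Finset.mem_insert, Finset.mem_singleton, not_or]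
      exact ⟨zero_ne_one, fun e => hr e.symm⟩
  have := Finset.card_le_card hsub
  rw [hc, Finset.card_univ, hF] at this
  omega

theorem card_SL (hF : Fintype.card F = 2) : Nat.card (SpecialLinearGroup (Fin 2) F) = 6 := by
  rw [Cfsg.Agent.Lib.Helper5_PSLCard.card_SL_two, hF]
  norm_num

theorem rho4_injective (hF : Fintype.card F = 2) : Function.Injective (rho4 (F := F)) :=
  (MonoidHom.ker_eq_bot_iff _).mp (ker_rho4_eq_bot_of_two (two_eq_zero hF))

theorem card_O (hF : Fintype.card F = 2) :
    Nat.card ↥(Cfsg.isometryGroup F (⇑(qfPlus 2 F))) = 72 := by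
  have h := Cfsg.Agent.S0287.card_plus (F := F) 1
  rw [← coe_qfPlus 2 F] at h
  rw [h, hF]
  simp

theorem index_range (hF : Fintype.card F = 2) : (rho4 (F := F)).range.index = 2 := by
  have h1 := Subgroup.index_mul_card (rho4 (F := F)).range
  rw [card_O hF, ← Nat.card_congr (MonoidHom.ofInjective (rho4_injective hF)).toEquiv,
    Nat.card_prod, card_SL hF] at h1
  omega

/-- `SL₂(F)` is not commutative -/
theorem exists_not_comm : ∃ x y : SpecialLinearGroup (Fin 2) F, x * y ≠ y * x := by
  set x : SpecialLinearGroup (Fin 2) F := ⟨!![1, 1; 0, 1], by simp [Matrix.det_fin_two_of]⟩ with hx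
  set y : SpecialLinearGroup (Fin 2) F := ⟨!![1, 0; 1, 1], by simp [Matrix.det_fin_two_of]⟩ with hy
  refine ⟨x, y, fun h => ?_⟩
  have h1 : (x * y).1 1 1 = (y * x).1 1 1 := by rw [h]
  rw [Matrix.SpecialLinearGroup.coe_mul, Matrix.SpecialLinearGroup.coe_mul] at h1
  simp [hx, hy, Matrix.mul_apply, Fin.sum_univ_two] at h1

/-- a non-commutative group of order 6 has a commutator subgroup of order 3 -/
theorem card_commutator_of_card_six {S : Type*} [Group S] (h6 : Nat.card S = 6)
    (hnc : ∃ x y : S, x * y ≠ y * x) : Nat.card (commutator S) = 3 := by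
  classical
  have : Finite S := Nat.finite_of_card_ne_zero (by omega)
  have : Fact (Nat.Prime 3) := ⟨Nat.prime_three⟩
  have : Fact (Nat.Prime 2) := ⟨Nat.prime_two⟩
  -- a Sylow 3-subgroup
  obtain ⟨P, hP⟩ := Sylow.exists_subgroup_card_pow_prime (G := S) 3 (n := 1) (by rw [h6]; norm_num)
  rw [pow_one] at hP
  have hidx : P.index = 2 := by
    have := Subgroup.index_mul_card P
    rw [hP, h6] at this
    omega
  have hn : P.Normal := Subgroup.normal_of_index_eq_two hidx
  have hcard : Nat.card (S ⧸ P) = 2 := by rw [← Subgroup.index_eq_card, hidx]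
  have hcyc : IsCyclic (S ⧸ P) := isCyclic_of_prime_card hcard
  have hle : commutator S ≤ P := by
    rw [commutator_def, Subgroup.commutator_le]
    intro g₁ _ g₂ _
    rw [← QuotientGroup.eq_one_iff, commutatorElement_def]
    have hc : ∀ a b : S ⧸ P, a * b = b * a := fun a b => by
      obtain ⟨g, hg⟩ := hcyc.exists_generator
      obtain ⟨i, rfl⟩ := Subgroup.mem_zpowers_iff.mp (hg a)
      obtain ⟨j, rfl⟩ := Subgroup.mem_zpowers_iff.mp (hg b)
      rw [← _root_.zpow_add, ← _root_.zpow_add, add_comm]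
    rw [QuotientGroup.mk_mul, QuotientGroup.mk_mul, QuotientGroup.mk_mul, QuotientGroup.mk_inv,
      QuotientGroup.mk_inv, hc (g₁ : S ⧸ P) g₂]
    group
  have hdvd : Nat.card (commutator S) ∣ 3 := by
    rw [← hP]
    exact Subgroup.card_dvd_of_le hle
  rcases (Nat.dvd_prime Nat.prime_three).mp hdvd with h1 | h3
  · exfalso
    obtain ⟨x, y, hxy⟩ := hnc
    have hbot : commutator S = ⊥ := Subgroup.card_eq_one.mp h1
    have hmem : ⁅x, y⁆ ∈ commutator S := by
      rw [commutator_def]
      exact Subgroup.commutator_mem_commutator (Subgroup.mem_top _) (Subgroup.mem_top _)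
    rw [hbot, Subgroup.mem_bot, commutatorElement_eq_one_iff_mul_comm] at hmem
    exact hxy hmem
  · exact h3

theorem card_commutator_SL (hF : Fintype.card F = 2) :
    Nat.card (commutator (SpecialLinearGroup (Fin 2) F)) = 3 :=
  card_commutator_of_card_six (card_SL hF) exists_not_comm

theorem index_commutator_SL (hF : Fintype.card F = 2) :
    (commutator (SpecialLinearGroup (Fin 2) F)).index = 2 := by
  have h := Subgroup.index_mul_card (commutator (SpecialLinearGroup (Fin 2) F))
  rw [card_commutator_SL hF, card_SL hF] at h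
  omega

theorem center_SL (hF : Fintype.card F = 2) :
    Subgroup.center (SpecialLinearGroup (Fin 2) F) = ⊥ := by
  rw [eq_bot_iff]
  intro A hA
  rw [Matrix.SpecialLinearGroup.mem_center_iff] at hA
  obtain ⟨r, hr, hA⟩ := hA
  have hr0 : r ≠ 0 := by
    rintro rfl
    simp at hr
  rw [eq_one_of_ne_zero hF hr0] at hA
  rw [Subgroup.mem_bot]
  apply Subtype.ext
  rw [← hA]
  simp

/-- **LOW22** -/
theorem steinberg_low22 (p : ℕ) [Fact p.Prime] [CharP F p] (hF : Fintype.card F = 2) :
    ∃ χ : Cfsg.POmega F (Cfsg.quadFormPlus 2 F) → ℂ,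
      Cfsg.IsIrrCharacter (Cfsg.POmega F (Cfsg.quadFormPlus 2 F)) χ ∧
      ∀ P : Sylow p (Cfsg.POmega F (Cfsg.quadFormPlus 2 F)), χ 1 = Nat.card P ∧
        ∀ x : Cfsg.POmega F (Cfsg.quadFormPlus 2 F), x ∈ P → x ≠ 1 → χ x = 0 := by
  classical
  rw [← coe_qfPlus 2 F]
  have hodd : Odd (Nat.card (commutator (SpecialLinearGroup (Fin 2) F))) := by
    rw [card_commutator_SL hF]; decide
  have hZ : Odd (Nat.card (Subgroup.center (SpecialLinearGroup (Fin 2) F))) := by
    rw [center_SL hF, Subgroup.card_bot]; decide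
  have hfinO : Finite ↥(Cfsg.isometryGroup F (⇑(qfPlus 2 F))) :=
    Nat.finite_of_card_ne_zero (by rw [card_O hF]; norm_num)
  obtain ⟨f, hf, hk⟩ := Cfsg.Agent.Lib.Helper27_StOp_LOW22abs.exists_proj_hom (rho4 (F := F))
    (rho4_injective hF) τ (index_range hF) τ_conj (index_commutator_SL hF) hodd hZ
  have hfin : Finite (Cfsg.POmega F (⇑(qfPlus 2 F))) := inferInstance
  have hcop : (Nat.card f.ker).Coprime p := by
    have hp2 : p = 2 := by
      have h2 : ((2 : ℕ) : F) = 0 := by exact_mod_cast two_eq_zero hF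
      have hdvd := (CharP.cast_eq_zero_iff F p 2).mp h2
      exact (Nat.prime_dvd_prime_iff_eq Fact.out Nat.prime_two).mp hdvd
    rw [hp2]
    exact Nat.Coprime.symm (Nat.coprime_two_left.mpr hk)
  exact Cfsg.Agent.Lib.Helper27_StTransport.transport_steinberg_surj f hf p hcop
    (Cfsg.Agent.S2544.result (F := F) p 2 le_rfl)

end finite

end Cfsg.Agent.Lib.Helper27_StOp_LOW22
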