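/-
Abstract consequences of the (B, N)-pair axioms for root-subgroup data (helper68's `RDat`): `B` is self-normalizing,
the centre lies in `B`, and if `[B : B ∩ N] = p^k` with `p ∤ |B ∩ N|` then `p^k` is the `p`-part of `|G|`.
(package GENERIC of S2546, helper27)
-/
import Mathlib
import Cfsg.Agent.Lib.Helper68_StAbs

set_option autoImplicit false
set_option linter.unusedSectionVars false
set_option linter.unusedVariables false

namespace Cfsg.Agent.Lib.Helper27_StSU_GENERIC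

open Cfsg DoubleCoset Cfsg.Agent.Lib.Helper6_Word Cfsg.Agent.Lib.Helper6_BNPair
  Cfsg.Agent.Lib.Helper81_BNSteinberg Cfsg.Agent.Lib.Helper81_BNIndex Cfsg.Agent.Lib.Helper81_BNBorel
  Cfsg.Agent.Lib.Helper68_StAbs

section bn

variable {G : Type*} [Group G] (P : Cfsg.BNPair G)

/-- an element of `N` normalizing `B` into itself lies in `B` -/
theorem mem_B_of_conj_N (n : P.N) (h : ∀ b ∈ P.B, (n : G) * b * (n : G)⁻¹ ∈ P.B) : (n : G) ∈ P.B := by
  rw [← ℓ_eq_zero_iff P]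
  by_contra hne
  obtain ⟨k, hk⟩ := Nat.exists_eq_succ_of_ne_zero hne
  obtain ⟨s, hsS, hsk⟩ := exists_simple_mul_of_ℓ_succ P hk
  have hs : IsSimple P s := isSimple_of_mem P hsS
  -- `n = s⁻¹ (s n)` and `ℓ (s n) ≤ ℓ n`
  have hle : ℓ P (s * n) ≤ ℓ P (s⁻¹ * (s * n)) := by
    have e : s⁻¹ * (s * n) = n := by group
    rw [e, hk, hsk]
    omega
  -- `s⁻¹ B s ⊆ B`
  have hconj : ∀ b ∈ P.B, (s : G)⁻¹ * b * (s : G) ∈ P.B := by
    intro b hb
    have h1 := simple_mul_mem_of_le P hs.inv hle hb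
    have e1 : ((s⁻¹ : P.N) : G) * ((s * n : P.N) : G) = (n : G) := by
      simp only [Subgroup.coe_mul, Subgroup.coe_inv]
      group
    rw [e1] at h1
    obtain ⟨b₁, hb₁, b₂, hb₂, e⟩ := (mem_C P).1 h1
    -- `s⁻¹ b s n = b₁ n b₂ = b₁ (n b₂ n⁻¹) n`
    have e2 : (s : G)⁻¹ * b * (s : G) = b₁ * ((n : G) * b₂ * (n : G)⁻¹) := by
      have e3 : ((s⁻¹ : P.N) : G) * b * ((s * n : P.N) : G) = (s : G)⁻¹ * b * (s : G) * (n : G) := by
        simp only [Subgroup.coe_mul, Subgroup.coe_inv]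
        group
      rw [e3] at e
      have : (s : G)⁻¹ * b * (s : G) = (b₁ * (n : G) * b₂) * (n : G)⁻¹ := by
        rw [← e]; group
      rw [this]; group
    rw [e2]
    exact P.B.mul_mem hb₁ (h b₂ hb₂)
  obtain ⟨b, hb, hnot⟩ := exists_not_mem_B P hsS
  apply hnot
  have e : (s : G) * b * (s : G) = ((s : G) * (s : G)) * ((s : G)⁻¹ * b * (s : G)) := by group
  rw [e]
  exact P.B.mul_mem (P.sq_mem _ hsS) (hconj b hb)

/-- `B` is self-normalizing: an element conjugating `B` into itself lies in `B` -/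
theorem mem_B_of_conj (g : G) (h : ∀ b ∈ P.B, g * b * g⁻¹ ∈ P.B) : g ∈ P.B := by
  obtain ⟨n, hn⟩ := exists_mem_C P g
  obtain ⟨b₁, hb₁, b₂, hb₂, e⟩ := (mem_C P).1 hn
  have hnB : (n : G) ∈ P.B := by
    apply mem_B_of_conj_N P n
    intro b hb
    have h1 := h (b₂⁻¹ * b * b₂) (P.B.mul_mem (P.B.mul_mem (P.B.inv_mem hb₂) hb) hb₂)
    have e2 : (n : G) * b * (n : G)⁻¹ = b₁⁻¹ * (g * (b₂⁻¹ * b * b₂) * g⁻¹) * b₁ := by
      rw [e]; group
    rw [e2]
    exact P.B.mul_mem (P.B.mul_mem (P.B.inv_mem hb₁) h1) hb₁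
  rw [e]
  exact P.B.mul_mem (P.B.mul_mem hb₁ hnB) hb₂

theorem center_le_B' : Subgroup.center G ≤ P.B := by
  intro z hz
  apply mem_B_of_conj P z
  intro b hb
  have : z * b * z⁻¹ = b := by
    rw [Subgroup.mem_center_iff] at hz
    rw [← hz b]; group
  rw [this]
  exact hb

end bn

section count

variable {G : Type*} [Group G] [Finite G] (P : Cfsg.BNPair G)

theorem cell_one : cell P (1 : G) = 1 := by
  have h : (1 : G) ∈ C P (((1 : P.N) : G)) := by
    rw [Subgroup.coe_one]; exact mem_C_self P 1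
  rw [cell_eq P h, map_one]

/-- the cell of `1` consists of one coset -/
theorem cs_one : cs P 1 = 1 := by
  have h := cs_cell_mul_card_stab P (1 : G)
  rw [cell_one] at h
  have hstab : MulAction.stabilizer P.B (((1 : G)) : G ⧸ P.B) = ⊤ := by
    rw [eq_top_iff]
    intro b _
    rw [mem_stab_iff]
    have : (1 : G)⁻¹ * (b : G) * 1 = b := by group
    rw [this]
    exact b.2
  rw [hstab, Subgroup.card_top] at h
  have hpos : 0 < Nat.card P.B := Nat.card_pos
  exact Nat.eq_of_mul_eq_mul_right hpos (by rw [h, one_mul])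

/-- `B ∩ N` as a subgroup of the stabilizer of `n B` in `B` -/
theorem card_T_dvd_card_stab (n : P.N) :
    Nat.card ↥(P.B ⊓ P.N) ∣ Nat.card (MulAction.stabilizer P.B (((n : G)) : G ⧸ P.B)) := by
  have hle : (P.B ⊓ P.N).subgroupOf P.B ≤ MulAction.stabilizer P.B (((n : G)) : G ⧸ P.B) := by
    intro t ht
    rw [mem_stab_iff]
    have ht' : (t : G) ∈ P.B ⊓ P.N := ht
    have h1 := P.conj_mem ((n : G)⁻¹) (P.N.inv_mem n.2) t.1 ht'
    rwa [inv_inv] at h1
  have h1 := Subgroup.card_dvd_of_le hle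
  have h2 : Nat.card ↥((P.B ⊓ P.N).subgroupOf P.B) = Nat.card ↥(P.B ⊓ P.N) :=
    Nat.card_congr (Subgroup.subgroupOfEquivOfLe inf_le_left).toEquiv
  rwa [h2] at h1

/-- if `[B : B ∩ N] = p^k` then `p` divides the number of cosets in every cell except `B` -/
theorem dvd_cs (p : ℕ) [Fact p.Prime] (k : ℕ)
    (hBT : Nat.card P.B = Nat.card ↥(P.B ⊓ P.N) * p ^ k) (w : W P) (hw : w ≠ 1) : p ∣ cs P w := by
  have hp : p.Prime := Fact.out
  obtain ⟨n, rfl⟩ := π_surjective P w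
  have h := cs_cell_mul_card_stab P (n : G)
  rw [cell_eq P (mem_C_self P (n : G))] at h
  obtain ⟨m, hm⟩ := card_T_dvd_card_stab P n
  have hTpos : 0 < Nat.card ↥(P.B ⊓ P.N) := Nat.card_pos
  -- `cs * m = p^k`
  have h1 : cs P (π P n) * m = p ^ k := by
    have : Nat.card ↥(P.B ⊓ P.N) * (cs P (π P n) * m) = Nat.card ↥(P.B ⊓ P.N) * p ^ k := by
      rw [← hBT, ← h, hm]; ring
    exact Nat.eq_of_mul_eq_mul_left hTpos this
  have h2 : cs P (π P n) ∣ p ^ k := ⟨m, h1.symm⟩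
  obtain ⟨j, -, hj⟩ := (Nat.dvd_prime_pow hp).1 h2
  rcases Nat.eq_zero_or_pos j with hj0 | hjpos
  · exfalso
    rw [hj0, pow_zero] at hj
    -- the stabilizer is everything
    rw [hj, one_mul] at h
    have hstab : MulAction.stabilizer P.B (((n : G)) : G ⧸ P.B) = ⊤ :=
      Subgroup.eq_top_of_card_eq _ h
    apply hw
    rw [π_eq_one_iff]
    have hinv : ((n⁻¹ : P.N) : G) ∈ P.B := by
      apply mem_B_of_conj_N P n⁻¹
      intro b hb
      have hb' : (⟨b, hb⟩ : P.B) ∈ MulAction.stabilizer P.B (((n : G)) : G ⧸ P.B) := by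
        rw [hstab]; exact Subgroup.mem_top _
      rw [mem_stab_iff] at hb'
      simp only [Subgroup.coe_inv, inv_inv]
      exact hb'
    have := P.B.inv_mem hinv
    simpa using this
  · rw [hj]
    exact dvd_pow_self p hjpos.ne'

/-- the index of `B` is the sum of the cell sizes -/
theorem index_eq_sum [Fintype (W P)] : P.B.index = ∑ w : W P, cs P w := by
  classical
  have : Fintype (G ⧸ P.B) := Fintype.ofFinite _
  rw [Subgroup.index, Nat.card_eq_fintype_card]
  unfold cs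
  have e : (G ⧸ P.B) ≃ Σ w : W P, {y : G ⧸ P.B // cellB P y = w} :=
    (Equiv.sigmaFiberEquiv (cellB P)).symm
  rw [Fintype.card_congr e, Fintype.card_sigma]
  apply Finset.sum_congr rfl
  intro w _
  rw [Nat.card_eq_fintype_card]

theorem not_dvd_index (p : ℕ) [Fact p.Prime] (k : ℕ)
    (hBT : Nat.card P.B = Nat.card ↥(P.B ⊓ P.N) * p ^ k) : ¬ p ∣ P.B.index := by
  classical
  have hp : p.Prime := Fact.out
  have : Fintype (W P) := Fintype.ofFinite _
  rw [index_eq_sum P, ← Finset.add_sum_erase Finset.univ _ (Finset.mem_univ (1 : W P)), cs_one]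
  intro hdvd
  have h2 : p ∣ ∑ w ∈ Finset.univ.erase (1 : W P), cs P w := by
    apply Finset.dvd_sum
    intro w hw
    exact dvd_cs P p k hBT w (Finset.ne_of_mem_erase hw)
  have h3 : p ∣ 1 := (Nat.dvd_add_left h2).1 hdvd
  exact hp.one_lt.ne' (Nat.dvd_one.1 h3)

end count

section rdat

variable {G : Type*} [Group G] {r : ℕ} (D : RDat G r)

/-- the centre lies in `B` -/
theorem center_le_B : Subgroup.center G ≤ D.B := center_le_B' (bnPair D)

/-- `p^k = [B : B ∩ N]` is the `p`-part of `|G|` when `p ∤ |B ∩ N|` -/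
theorem hG_of_hBT [Finite G] (p : ℕ) [Fact p.Prime] (k : ℕ)
    (hBT : Nat.card D.B = Nat.card ↥(D.B ⊓ D.N) * p ^ k) (hT : ¬ p ∣ Nat.card ↥(D.B ⊓ D.N)) :
    ∃ r', Nat.card G = p ^ k * r' ∧ ¬ p ∣ r' := by
  have hp : p.Prime := Fact.out
  have h1 := not_dvd_index (bnPair D) p k hBT
  refine ⟨Nat.card ↥(D.B ⊓ D.N) * D.B.index, ?_, ?_⟩
  · rw [← D.B.card_mul_index, hBT]
    ring
  · intro h
    rcases (Nat.Prime.dvd_mul hp).1 h with h | h
    · exact hT h
    · exact h1 h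

end rdat

end Cfsg.Agent.Lib.Helper27_StSU_GENERIC
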