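import Mathlib
import Cfsg.Agent.Lib.Helper68_StOpDefs
import Cfsg.Agent.Lib.Helper68_StAbs

/-!
# S2548 package MID (architect helper27): the middle entry `(e_{m-1}, f_{m-1})` of an upper
triangular isometry of `Q⁺_{2m}` vanishes (all characteristics).
-/

set_option autoImplicit false
set_option linter.unusedSectionVars false

namespace Cfsg.Agent.Lib.Helper31_StOp_MID

open Matrix Cfsg.Agent.Lib.Helper68_MatGrp Cfsg.Agent.Lib.Helper68_StOpDefs

variable {m : ℕ} {F : Type*} [Field F] [Fintype F]

/-- the columns of an isometry are singular vectors -/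
theorem QP_col (b : OO m F) (a : I m) : QP m F (fun x => φO m F b x a) = 0 := by
  have h := (Cfsg.Agent.Lib.Helper44_Orth.mem_isometryGroup_iff _ b.1).mp b.2 (Pi.single a 1)
  rw [QP_single] at h
  have hcol : ((b.1 : Matrix.GeneralLinearGroup (I m) F) : Matrix (I m) (I m) F) *ᵥ Pi.single a 1
      = fun x => φO m F b x a := by
    ext x
    rw [Matrix.mulVec_single_one]
    rfl
  rw [hcol] at h
  exact h

/-- MID.  The middle entry `(e_{m-1}, f_{m-1})` of an upper triangular isometry vanishes. -/
theorem mid_zero (i : Fin m) (hi : i.val + 1 = m) (b : OO m F) (hb : b ∈ BO m F) :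
    φO m F b (ie i) (jf i) = 0 := by
  have h := QP_col b (jf i)
  rw [QP_apply, Finset.sum_eq_single i] at h
  · have hd : φO m F b (jf i) (jf i) ≠ 0 :=
      UT_diag_ne_zero (φO m F) (ht m) (ht_injective m) hb (jf i)
    rcases mul_eq_zero.mp h with h1 | h1
    · exact h1
    · exact absurd h1 hd
  · intro l _ hli
    have hlt : ht m (jf i) < ht m (jf l) := by
      have hl := l.2
      have hne : l.val ≠ i.val := fun e => hli (Fin.ext e)
      simp only [ht_jf]
      omega
    rw [mem_BO.mp hb (jf l) (jf i) hlt, mul_zero]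
  · intro h'; exact absurd (Finset.mem_univ _) h'

end Cfsg.Agent.Lib.Helper31_StOp_MID
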