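import Mathlib
import Cfsg.Agent.Lib.Helper68_StOpDefs
import Cfsg.Agent.Lib.Helper68_StAbs

/-!
# S2548 package SQ (architect helper27): squares of the Weyl representatives of `Ω⁺_{2m}(q)` are
diagonal (port of `Helper70_StOo_SQ`).
-/

set_option autoImplicit false
set_option linter.unusedSimpArgs false
set_option linter.unusedSectionVars false

namespace Cfsg.Agent.Lib.Helper31_StOp_SQ

open Matrix Cfsg.Agent.Lib.Helper68_MatGrp Cfsg.Agent.Lib.Helper68_StOpDefs

variable {m : ℕ} {F : Type*} [Field F] [Fintype F]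

theorem wlM_sq {a c : I m} (h : LxOK a c) :
    (wlM a c : Matrix (I m) (I m) F) * wlM a c =
      1 - single a a 2 - single c c 2 - single (op a) (op a) 2 - single (op c) (op c) 2 := by
  obtain ⟨hca, hca'⟩ := h
  have h1 : a ≠ op a := fun e => op_ne_self a e.symm
  have h2 : c ≠ op c := fun e => op_ne_self c e.symm
  have h3 : op a ≠ c := fun e => hca' e.symm
  have h4 : a ≠ c := fun e => hca e.symm
  have h5 : op c ≠ op a := fun e => hca (op_injective e)
  have h6 : op c ≠ a := fun e => hca' (by rw [← e, op_op])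
  unfold wlM
  simp only [Matrix.add_mul, Matrix.sub_mul, Matrix.mul_add, Matrix.mul_sub, Matrix.one_mul,
    Matrix.mul_one, Matrix.single_mul_single_same,
    Matrix.single_mul_single_of_ne _ _ _ _ h1, Matrix.single_mul_single_of_ne _ _ _ _ h1.symm,
    Matrix.single_mul_single_of_ne _ _ _ _ h2, Matrix.single_mul_single_of_ne _ _ _ _ h2.symm,
    Matrix.single_mul_single_of_ne _ _ _ _ h3, Matrix.single_mul_single_of_ne _ _ _ _ h3.symm,
    Matrix.single_mul_single_of_ne _ _ _ _ h4, Matrix.single_mul_single_of_ne _ _ _ _ h4.symm,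
    Matrix.single_mul_single_of_ne _ _ _ _ h5, Matrix.single_mul_single_of_ne _ _ _ _ h5.symm,
    Matrix.single_mul_single_of_ne _ _ _ _ h6, Matrix.single_mul_single_of_ne _ _ _ _ h6.symm,
    mul_one, mul_neg, neg_mul, ← Matrix.single_neg, neg_neg, Matrix.zero_mul, Matrix.mul_zero,
    Matrix.neg_mul, Matrix.mul_neg, sub_zero, add_zero, zero_add, zero_sub, neg_zero]
  obtain ⟨E, hE⟩ : ∃ E : I m → I m → Matrix (I m) (I m) F, ∀ i j (c : F), single i j c = c • E i j :=
    ⟨fun i j => single i j 1, fun i j c => by rw [Matrix.smul_single, smul_eq_mul, mul_one]⟩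
  simp only [hE]
  module

theorem single_diag_apply_ne (d x y : I m) (hxy : x ≠ y) (t : F) : single d d t x y = 0 := by
  rw [Matrix.single_apply, if_neg]
  rintro ⟨h1, h2⟩
  exact hxy (h1.symm.trans h2)

/-- SQ.  Squares of the Weyl representatives are diagonal. -/
theorem wl_sq (hm : 3 ≤ m) {a c : I m} (h : LxOK a c) : (wl a c : GO m F) * wl a c ∈ Too m F := by
  rw [mem_Too]
  intro x y hxy
  rw [map_mul, wl_val hm h, wlM_sq h]
  simp only [Matrix.sub_apply, Matrix.one_apply_ne hxy, single_diag_apply_ne _ _ _ hxy, sub_zero]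

end Cfsg.Agent.Lib.Helper31_StOp_SQ
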