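import Mathlib
import Cfsg.Agent.Lib.Helper68_StOpDefs
import Cfsg.Agent.Lib.Helper68_StAbs

/-!
# S2548 package XB (architect helper27): positive root elements of `Ω⁺_{2m}(q)` lie in `B`,
negative ones do not.
-/

set_option autoImplicit false
set_option linter.unusedSectionVars false

namespace Cfsg.Agent.Lib.Helper31_StOp_XB

open Matrix Cfsg.Agent.Lib.Helper68_MatGrp Cfsg.Agent.Lib.Helper68_StOpDefs

variable {m : ℕ} {F : Type*} [Field F] [Fintype F]

theorem lx_mem_Boo (hm : 3 ≤ m) {a c : I m} (h : LxOK a c) (hlt : ht m a < ht m c) (t : F) :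
    lx a c t ∈ Boo m F := by
  rw [mem_Boo]
  intro x y hxy
  rw [lx_val hm h]
  unfold lxM
  have hxy' : x ≠ y := fun e => by rw [e] at hxy; exact lt_irrefl _ hxy
  have ha := ht_lt (m := m) a
  have hc := ht_lt (m := m) c
  rw [Matrix.sub_apply, Matrix.add_apply, Matrix.one_apply_ne hxy', Matrix.single_apply,
    Matrix.single_apply, if_neg, if_neg]
  · simp
  · rintro ⟨h1, h2⟩
    rw [← h1, ← h2, ht_op, ht_op] at hxy
    omega
  · rintro ⟨h1, h2⟩
    rw [← h1, ← h2] at hxy
    omega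

theorem lx_not_mem_Boo (hm : 3 ≤ m) {a c : I m} (h : LxOK a c) (hlt : ht m a < ht m c) (t : F)
    (ht0 : t ≠ 0) : lx c a t ∉ Boo m F := by
  intro hmem
  rw [mem_Boo] at hmem
  have h1 := hmem c a hlt
  rw [lx_val hm h.symm] at h1
  unfold lxM at h1
  rw [Matrix.sub_apply, Matrix.add_apply, Matrix.one_apply_ne h.1, Matrix.single_apply_same,
    Matrix.single_apply, if_neg, zero_add, sub_zero] at h1
  · exact ht0 h1
  · rintro ⟨h2, _⟩
    exact h.2 h2.symm

end Cfsg.Agent.Lib.Helper31_StOp_XB
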