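import Mathlib

set_option autoImplicit false

/-!
# Block extension of a small matrix to a big index type

For an injective `f : κ → ι` and `M : Matrix κ κ R`, `blockExt f hf M : Matrix ι ι R` is the matrix which is
`M` on the rows/columns `f p`, and the identity elsewhere.  It is multiplicative: `blockExt_mul`, `blockExt_one`.
Entries: `blockExt_apply` (`(f p, f q) ↦ M p q`), `blockExt_apply_left_notin`, `blockExt_apply_right_notin`.
-/

namespace Cfsg.Agent.Lib.Helper69_BlockEmb

open Matrix

variable {ι κ : Type*} [Fintype ι] [DecidableEq ι] [Fintype κ] [DecidableEq κ]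
variable {R : Type*} [CommRing R]

/-- `ι` is `κ` plus the complement of the range of `f` -/
noncomputable def splitEquiv (f : κ → ι) (hf : Function.Injective f) :
    κ ⊕ ↥((Set.range f)ᶜ : Set ι) ≃ ι := by
  classical
  exact (Equiv.sumCongr (Equiv.ofInjective f hf) (Equiv.refl _)).trans
    (Equiv.Set.sumCompl (Set.range f))

theorem splitEquiv_inl (f : κ → ι) (hf : Function.Injective f) (p : κ) :
    splitEquiv f hf (Sum.inl p) = f p := by
  classical
  simp [splitEquiv]

theorem splitEquiv_inr (f : κ → ι) (hf : Function.Injective f) (r : ↥((Set.range f)ᶜ : Set ι)) :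
    splitEquiv f hf (Sum.inr r) = r.1 := by
  classical
  simp [splitEquiv]

theorem splitEquiv_symm_apply (f : κ → ι) (hf : Function.Injective f) (p : κ) :
    (splitEquiv f hf).symm (f p) = Sum.inl p := by
  rw [Equiv.symm_apply_eq, splitEquiv_inl]

theorem splitEquiv_symm_notin (f : κ → ι) (hf : Function.Injective f) (r : ι)
    (hr : r ∉ Set.range f) :
    (splitEquiv f hf).symm r = Sum.inr ⟨r, hr⟩ := by
  rw [Equiv.symm_apply_eq, splitEquiv_inr]

/-- the matrix which is `M` on the rows/columns in the range of `f` and the identity elsewhere -/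
noncomputable def blockExt (f : κ → ι) (hf : Function.Injective f) (M : Matrix κ κ R) :
    Matrix ι ι R := by
  classical
  exact Matrix.reindex (splitEquiv f hf) (splitEquiv f hf)
    (Matrix.fromBlocks M 0 0 (1 : Matrix ↥((Set.range f)ᶜ : Set ι) ↥((Set.range f)ᶜ : Set ι) R))

theorem blockExt_mul (f : κ → ι) (hf : Function.Injective f) (M N : Matrix κ κ R) :
    blockExt f hf M * blockExt f hf N = blockExt f hf (M * N) := by
  classical
  unfold blockExt
  rw [Matrix.reindex_apply, Matrix.reindex_apply, Matrix.reindex_apply,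
    Matrix.submatrix_mul_equiv, Matrix.fromBlocks_multiply]
  simp

theorem blockExt_one (f : κ → ι) (hf : Function.Injective f) :
    blockExt f hf (1 : Matrix κ κ R) = 1 := by
  classical
  unfold blockExt
  rw [Matrix.fromBlocks_one, Matrix.reindex_apply, Matrix.submatrix_one_equiv]

theorem blockExt_apply (f : κ → ι) (hf : Function.Injective f) (M : Matrix κ κ R) (p q : κ) :
    blockExt f hf M (f p) (f q) = M p q := by
  classical
  unfold blockExt
  rw [Matrix.reindex_apply, Matrix.submatrix_apply, splitEquiv_symm_apply, splitEquiv_symm_apply,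
    Matrix.fromBlocks_apply₁₁]

theorem blockExt_apply_left_notin (f : κ → ι) (hf : Function.Injective f) (M : Matrix κ κ R)
    (r s : ι) (hr : r ∉ Set.range f) : blockExt f hf M r s = if r = s then 1 else 0 := by
  classical
  unfold blockExt
  rw [Matrix.reindex_apply, Matrix.submatrix_apply, splitEquiv_symm_notin f hf r hr]
  by_cases hs : s ∈ Set.range f
  · obtain ⟨q, rfl⟩ := hs
    rw [splitEquiv_symm_apply, Matrix.fromBlocks_apply₂₁]
    have : r ≠ f q := fun h => hr ⟨q, h.symm⟩
    rw [if_neg this]
    rfl
  · rw [splitEquiv_symm_notin f hf s hs, Matrix.fromBlocks_apply₂₂, Matrix.one_apply]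
    simp only [Subtype.mk.injEq]

theorem blockExt_apply_right_notin (f : κ → ι) (hf : Function.Injective f) (M : Matrix κ κ R)
    (r s : ι) (hs : s ∉ Set.range f) : blockExt f hf M r s = if r = s then 1 else 0 := by
  classical
  unfold blockExt
  rw [Matrix.reindex_apply, Matrix.submatrix_apply, splitEquiv_symm_notin f hf s hs]
  by_cases hr : r ∈ Set.range f
  · obtain ⟨p, rfl⟩ := hr
    rw [splitEquiv_symm_apply, Matrix.fromBlocks_apply₁₂]
    have : f p ≠ s := fun h => hs ⟨p, h⟩
    rw [if_neg this]
    rfl
  · rw [splitEquiv_symm_notin f hf r hr, Matrix.fromBlocks_apply₂₂, Matrix.one_apply]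
    simp only [Subtype.mk.injEq]

/-- equality with a block extension can be checked on the block and off it -/
theorem eq_blockExt (f : κ → ι) (hf : Function.Injective f) (M : Matrix κ κ R) (A : Matrix ι ι R)
    (h1 : ∀ p q, A (f p) (f q) = M p q)
    (h2 : ∀ r s, r ∉ Set.range f → A r s = if r = s then 1 else 0)
    (h3 : ∀ r s, s ∉ Set.range f → A r s = if r = s then 1 else 0) :
    A = blockExt f hf M := by
  ext r s
  by_cases hr : r ∈ Set.range f
  · by_cases hs : s ∈ Set.range f
    · obtain ⟨p, rfl⟩ := hr
      obtain ⟨q, rfl⟩ := hs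
      rw [h1, blockExt_apply]
    · rw [h3 r s hs, blockExt_apply_right_notin f hf M r s hs]
  · rw [h2 r s hr, blockExt_apply_left_notin f hf M r s hr]

/-- a block extension of an upper triangular matrix along a strictly monotone map is upper triangular -/
theorem blockExt_upper [LinearOrder ι] [LinearOrder κ] (f : κ → ι) (hf : StrictMono f)
    (M : Matrix κ κ R) (hM : ∀ p q, q < p → M p q = 0) (r s : ι) (hsr : s < r) :
    blockExt f hf.injective M r s = 0 := by
  by_cases hr : r ∈ Set.range f
  · by_cases hs : s ∈ Set.range f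
    · obtain ⟨p, rfl⟩ := hr
      obtain ⟨q, rfl⟩ := hs
      rw [blockExt_apply]
      exact hM p q (hf.lt_iff_lt.mp hsr)
    · rw [blockExt_apply_right_notin f hf.injective M r s hs, if_neg hsr.ne']
  · rw [blockExt_apply_left_notin f hf.injective M r s hr, if_neg hsr.ne']

end Cfsg.Agent.Lib.Helper69_BlockEmb
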