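/-
S2548 market (architect helper27), package R3: the rank one relation for a positive root of `Ω⁺_{2m}(q)`.
Port of `Helper69_StOo_R3L` (block extensions of explicit 4x4 matrices on the indices `a, c, op c, op a`).
-/
import Mathlib
import Cfsg.Agent.Lib.Helper68_StOpDefs
import Cfsg.Agent.Lib.Helper69_BlockEmb

set_option autoImplicit false
set_option linter.unusedSectionVars false
set_option linter.unusedVariables false
set_option linter.unusedSimpArgs false

namespace Cfsg.Agent.Lib.Helper36_StOp_R3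

open Matrix Cfsg.Agent.Lib.Helper68_MatGrp Cfsg.Agent.Lib.Helper68_StOpDefs
  Cfsg.Agent.Lib.Helper69_BlockEmb

variable {m : ℕ} {F : Type*} [Field F] [Fintype F]

/-- a block extension is upper triangular (w.r.t. a height function) if the small matrix vanishes at the pairs
`(p, q)` with `ht (f q) < ht (f p)` -/
theorem blockExt_upperH {ι κ : Type*} [Fintype ι] [DecidableEq ι] [Fintype κ] [DecidableEq κ]
    (h : ι → ℕ) (f : κ → ι) (hf : Function.Injective f) (M : Matrix κ κ F)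
    (hM : ∀ p q, h (f q) < h (f p) → M p q = 0) (r s : ι) (hsr : h s < h r) :
    blockExt f hf M r s = 0 := by
  have hne : r ≠ s := fun e => by rw [e] at hsr; exact lt_irrefl _ hsr
  by_cases hr : r ∈ Set.range f
  · by_cases hs : s ∈ Set.range f
    · obtain ⟨p, rfl⟩ := hr
      obtain ⟨q, rfl⟩ := hs
      rw [blockExt_apply]
      exact hM p q hsr
    · rw [blockExt_apply_right_notin f hf M r s hs, if_neg hne]
  · rw [blockExt_apply_left_notin f hf M r s hr, if_neg hne]

/-- the four indices `a, c, op c, op a` -/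
def idx (a c : I m) : Fin 4 → I m := ![a, c, op c, op a]

/-- the six inequalities between the four indices of an admissible pair -/
theorem four_ne {a c : I m} (h : LxOK a c) :
    a ≠ c ∧ a ≠ op c ∧ a ≠ op a ∧ c ≠ op c ∧ c ≠ op a ∧ op c ≠ op a := by
  refine ⟨h.1.symm, ?_, (op_ne_self a).symm, (op_ne_self c).symm, h.2, ?_⟩
  · intro e
    apply h.2
    rw [e, op_op]
  · intro e
    exact h.1 (op_injective e)

theorem idx_injective {a c : I m} (h : LxOK a c) : Function.Injective (idx a c) := by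
  obtain ⟨h1, h2, h3, h4, h5, h6⟩ := four_ne h
  intro p q e
  fin_cases p <;> fin_cases q <;> first
    | rfl
    | (exfalso; revert e
       simp [idx, h1, h2, h3, h4, h5, h6, h1.symm, h2.symm, h3.symm, h4.symm, h5.symm, h6.symm])

theorem notin_range_idx {a c r : I m} (hr : r ∉ Set.range (idx a c)) :
    r ≠ a ∧ r ≠ c ∧ r ≠ op c ∧ r ≠ op a := by
  refine ⟨fun h => hr ⟨0, h.symm⟩, fun h => hr ⟨1, h.symm⟩, fun h => hr ⟨2, h.symm⟩,
    fun h => hr ⟨3, h.symm⟩⟩

theorem lxM_eq {a c : I m} (h : LxOK a c) (t : F) :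
    lxM a c t = blockExt (idx a c) (idx_injective h)
      !![1, t, 0, 0; 0, 1, 0, 0; 0, 0, 1, -t; 0, 0, 0, 1] := by
  obtain ⟨h1, h2, h3, h4, h5, h6⟩ := four_ne h
  apply eq_blockExt
  · intro p q
    fin_cases p <;> fin_cases q <;>
      simp [lxM, idx, Matrix.single_apply, Matrix.one_apply, h1, h2, h3, h4, h5, h6, h1.symm,
        h2.symm, h3.symm, h4.symm, h5.symm, h6.symm]
  · intro r s hr
    obtain ⟨e1, e2, e3, e4⟩ := notin_range_idx hr
    simp [lxM, Matrix.single_apply, Matrix.one_apply, e1.symm, e2.symm, e3.symm, e4.symm]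
  · intro r s hs
    obtain ⟨e1, e2, e3, e4⟩ := notin_range_idx hs
    simp [lxM, Matrix.single_apply, Matrix.one_apply, e1.symm, e2.symm, e3.symm, e4.symm]

theorem wlM_eq {a c : I m} (h : LxOK a c) :
    (wlM a c : Matrix (I m) (I m) F) = blockExt (idx a c) (idx_injective h)
      !![0, 1, 0, 0; -1, 0, 0, 0; 0, 0, 0, -1; 0, 0, 1, 0] := by
  obtain ⟨h1, h2, h3, h4, h5, h6⟩ := four_ne h
  apply eq_blockExt
  · intro p q
    fin_cases p <;> fin_cases q <;>
      simp [wlM, idx, Matrix.single_apply, Matrix.one_apply, h1, h2, h3, h4, h5, h6, h1.symm,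
        h2.symm, h3.symm, h4.symm, h5.symm, h6.symm]
  · intro r s hr
    obtain ⟨e1, e2, e3, e4⟩ := notin_range_idx hr
    simp [wlM, Matrix.single_apply, Matrix.one_apply, e1.symm, e2.symm, e3.symm, e4.symm]
  · intro r s hs
    obtain ⟨e1, e2, e3, e4⟩ := notin_range_idx hs
    simp [wlM, Matrix.single_apply, Matrix.one_apply, e1.symm, e2.symm, e3.symm, e4.symm]

/-- the 4x4 identity behind the rank one relation -/
theorem four_identity (t t' : F) (e1 : t * t' = -1) :
    (!![-t', -1, 0, 0; 0, t, 0, 0; 0, 0, -t', 1; 0, 0, 0, t] : Matrix (Fin 4) (Fin 4) F) *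
      ((!![0, 1, 0, 0; -1, 0, 0, 0; 0, 0, 0, -1; 0, 0, 1, 0] : Matrix (Fin 4) (Fin 4) F) *
        !![1, t', 0, 0; 0, 1, 0, 0; 0, 0, 1, -t'; 0, 0, 0, 1] *
        !![0, 1, 0, 0; -1, 0, 0, 0; 0, 0, 0, -1; 0, 0, 1, 0]) =
    (!![0, 1, 0, 0; -1, 0, 0, 0; 0, 0, 0, -1; 0, 0, 1, 0] : Matrix (Fin 4) (Fin 4) F) *
      !![1, t, 0, 0; 0, 1, 0, 0; 0, 0, 1, -t; 0, 0, 0, 1] := by
  ext p q
  fin_cases p <;> fin_cases q <;>
    simp [Matrix.mul_apply, Fin.sum_univ_four]
  all_goals first
    | linear_combination e1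
    | linear_combination -e1
    | ring

theorem ht_op_lt {a b : I m} (h : ht m a < ht m b) : ht m (op b) < ht m (op a) := by
  rw [ht_op, ht_op]
  have := ht_lt a
  have := ht_lt b
  omega

theorem r3 (hm : 3 ≤ m) {a c : I m} (h : LxOK a c) (hlt : ht m a < ht m c) (t : F) (ht0 : t ≠ 0) :
    ∃ b ∈ Boo m F, ∃ t' : F, wl a c * lx a c t * (wl a c)⁻¹ = b * wl a c * lx a c t' := by
  set w := wl a c (F := F) with hw
  set x := lx a c t with hx
  set x' := lx a c (-t⁻¹) with hx'
  have hwv : φ m F w = wlM a c := wl_val hm h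
  have hxv : φ m F x = lxM a c t := lx_val hm h t
  have hxv' : φ m F x' = lxM a c (-t⁻¹) := lx_val hm h _
  have heq : w * x * w⁻¹ = (w * x * w⁻¹) * (w * x')⁻¹ * w * x' := by group
  refine ⟨(w * x * w⁻¹) * (w * x')⁻¹, ?_, -t⁻¹, heq⟩
  have e1 : ((w * x * w⁻¹) * (w * x')⁻¹) * (w * x' * w) = w * x := by group
  have e2 : φ m F ((w * x * w⁻¹) * (w * x')⁻¹) *
      (wlM a c * lxM a c (-t⁻¹) * wlM a c) = wlM a c * lxM a c t := by
    have := congrArg (φ m F) e1
    rw [map_mul, map_mul (φ m F) (w * x') w, map_mul (φ m F) w x', map_mul (φ m F) w x, hwv, hxv,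
      hxv'] at this
    exact this
  have e3 : blockExt (idx a c) (idx_injective h)
        (!![t⁻¹, -1, 0, 0; 0, t, 0, 0; 0, 0, t⁻¹, 1; 0, 0, 0, t] : Matrix (Fin 4) (Fin 4) F) *
      (wlM a c * lxM a c (-t⁻¹) * wlM a c) = wlM a c * lxM a c t := by
    rw [wlM_eq h, lxM_eq h, lxM_eq h, blockExt_mul, blockExt_mul, blockExt_mul, blockExt_mul]
    congr 1
    have := four_identity t (-t⁻¹) (by field_simp)
    simpa using this
  have e4 : (wlM a c * lxM a c (-t⁻¹) * wlM a c) * φ m F (w * x' * w)⁻¹ = 1 := by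
    rw [← hwv, ← hxv', ← map_mul, ← map_mul, ← map_mul, mul_inv_cancel, map_one]
  have key : φ m F ((w * x * w⁻¹) * (w * x')⁻¹) = blockExt (idx a c) (idx_injective h)
        (!![t⁻¹, -1, 0, 0; 0, t, 0, 0; 0, 0, t⁻¹, 1; 0, 0, 0, t] : Matrix (Fin 4) (Fin 4) F) := by
    calc φ m F ((w * x * w⁻¹) * (w * x')⁻¹)
        = φ m F ((w * x * w⁻¹) * (w * x')⁻¹) *
            ((wlM a c * lxM a c (-t⁻¹) * wlM a c) * φ m F (w * x' * w)⁻¹) := by
          rw [e4, mul_one]
      _ = (wlM a c * lxM a c t) * φ m F (w * x' * w)⁻¹ := by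
          rw [← Matrix.mul_assoc, e2]
      _ = blockExt (idx a c) (idx_injective h)
            (!![t⁻¹, -1, 0, 0; 0, t, 0, 0; 0, 0, t⁻¹, 1; 0, 0, 0, t] : Matrix (Fin 4) (Fin 4) F) *
            ((wlM a c * lxM a c (-t⁻¹) * wlM a c) * φ m F (w * x' * w)⁻¹) := by
          rw [← Matrix.mul_assoc, e3]
      _ = _ := by rw [e4, mul_one]
  rw [mem_Boo]
  intro r s hsr
  rw [key]
  apply blockExt_upperH (Cfsg.Agent.Lib.Helper68_StOpDefs.ht m) (idx a c) (idx_injective h)
  · intro p q hqp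
    have hlt2 := ht_op_lt hlt
    fin_cases p <;> fin_cases q <;> first
      | rfl
      | (exfalso; simp [idx] at hqp; done)
      | (exfalso; simp [idx] at hqp; omega)
  · exact hsr

end Cfsg.Agent.Lib.Helper36_StOp_R3
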