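import Mathlib
import Cfsg.Agent.Lib.Helper68_StOpDefs
import Cfsg.Agent.Lib.Helper68_StAbs

/-!
# S2548 package MONOW (architect helper27): the Weyl representatives are monomial (type `D_m`)
-/

set_option autoImplicit false
set_option linter.unusedSimpArgs false

namespace Cfsg.Agent.Lib.Helper70_StOp_MONOW

open Matrix Cfsg.Agent.Lib.Helper68_MatGrp Cfsg.Agent.Lib.Helper68_StOpDefs

variable {m : ℕ} {F : Type*} [Field F] [Fintype F]

omit [Fintype F] in
/-- the entries of `wlM` -/
theorem wlM_apply (a c x y : I m) :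
    (wlM a c : Matrix (I m) (I m) F) x y =
      (if x = y then 1 else 0) - (if a = x ∧ a = y then 1 else 0) - (if c = x ∧ c = y then 1 else 0)
        - (if op a = x ∧ op a = y then 1 else 0) - (if op c = x ∧ op c = y then 1 else 0)
        + (if a = x ∧ c = y then 1 else 0) - (if c = x ∧ a = y then 1 else 0)
        + (if op a = x ∧ op c = y then 1 else 0) - (if op c = x ∧ op a = y then 1 else 0) := by
  unfold wlM
  simp only [Matrix.add_apply, Matrix.sub_apply, Matrix.one_apply, Matrix.single_apply]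

theorem wl_isMono (hm : 3 ≤ m) {a c : I m} (h : LxOK a c) :
    IsMono (φ m F) (wl a c) (Equiv.swap a c * Equiv.swap (op a) (op c)) := by
  have h0 := h
  obtain ⟨hca, hca'⟩ := h
  have h1 : a ≠ op a := fun e => op_ne_self a e.symm
  have h2 : c ≠ op c := fun e => op_ne_self c e.symm
  have h3 : op a ≠ c := fun e => hca' e.symm
  have h4 : a ≠ c := fun e => hca e.symm
  have h5 : op c ≠ op a := fun e => hca (op_injective e)
  have h6 : op c ≠ a := fun e => hca' (by rw [← e, op_op])
  intro x y hxy
  rw [wl_val hm h0, wlM_apply]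
  rw [Equiv.Perm.mul_apply] at hxy
  by_cases hya : y = a
  · subst hya
    rw [Equiv.swap_apply_of_ne_of_ne h1 h6.symm, Equiv.swap_apply_left] at hxy
    by_cases hxa : x = y
    · subst hxa
      simp [h1.symm, h4.symm, h6, h3]
    · simp [hxa, Ne.symm hxa, Ne.symm hxy, h1.symm, h4.symm, h6, h3]
  by_cases hyc : y = c
  · subst hyc
    rw [Equiv.swap_apply_of_ne_of_ne h3.symm h2, Equiv.swap_apply_right] at hxy
    by_cases hxc : x = y
    · subst hxc
      simp [h2.symm, h4, h3, h6]
    · simp [hxc, Ne.symm hxc, Ne.symm hxy, h2.symm, h4, h3, h6]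
  by_cases hya' : y = op a
  · subst hya'
    rw [Equiv.swap_apply_left, Equiv.swap_apply_of_ne_of_ne h6 h2.symm] at hxy
    by_cases hxa : x = op a
    · subst hxa
      simp [h1, h3.symm, h5]
    · simp [hxa, Ne.symm hxa, Ne.symm hxy, h1, h3.symm, h5]
  by_cases hyc' : y = op c
  · subst hyc'
    rw [Equiv.swap_apply_right, Equiv.swap_apply_of_ne_of_ne h1.symm h3] at hxy
    by_cases hxc : x = op c
    · subst hxc
      simp [h2, h6.symm, h5.symm]
    · simp [hxc, Ne.symm hxc, Ne.symm hxy, h2, h6.symm, h5.symm]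
  rw [Equiv.swap_apply_of_ne_of_ne hya' hyc', Equiv.swap_apply_of_ne_of_ne hya hyc] at hxy
  simp [hxy, Ne.symm hya, Ne.symm hyc, Ne.symm hya', Ne.symm hyc']

end Cfsg.Agent.Lib.Helper70_StOp_MONOW
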