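import Mathlib
import Cfsg.Agent.Lib.Helper68_StOpDefs
import Cfsg.Agent.Lib.Helper68_StAbs
import Cfsg.Agent.Lib.Helper70_StOp_MONOW

set_option autoImplicit false

/-!
# S2548 package INJ (architect helper27): distinct simple reflections are distinct mod `B` (type `D_m`)
-/

namespace Cfsg.Agent.Lib.Helper55_StOp_INJ

open Matrix Cfsg.Agent.Lib.Helper68_MatGrp Cfsg.Agent.Lib.Helper68_StOpDefs

variable {m : ℕ} {F : Type*} [Field F] [Fintype F]


/-- the permutation of the `j`-th simple reflection -/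
def sg (j : Fin m) : Equiv.Perm (I m) :=
  Equiv.swap (ra j) (rc j) * Equiv.swap (op (ra j)) (op (rc j))

theorem ss_isMono (hm : 3 ≤ m) (j : Fin m) : IsMono (φ m F) (ss j : GO m F) (sg j) :=
  Cfsg.Agent.Lib.Helper70_StOp_MONOW.wl_isMono hm (lxOK_simple (by omega) j)

/-- `σ_j` fixes `e_i` for `i < j`, except for `(i, j) = (m - 2, m - 1)` -/
theorem sg_ie_of_lt (i j : Fin m) (hij : i.val < j.val)
    (hex : ¬ (j.val + 1 = m ∧ i.val + 2 = m)) : sg j (ie i) = ie i := by
  unfold sg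
  by_cases h : j.val + 1 < m
  · rw [ra_of_lt j h, rc_of_lt j h, op_ie, op_ie]
    have h1 : ie i ≠ ie j := fun e => by
      have := congrArg Fin.val (ie_injective e); omega
    have h2 : ie i ≠ ie (⟨j.val + 1, h⟩ : Fin m) := fun e => by
      have := congrArg Fin.val (ie_injective e); simp only at this; omega
    rw [Equiv.Perm.mul_apply, Equiv.swap_apply_of_ne_of_ne (ie_ne_jf i j) (ie_ne_jf i _),
      Equiv.swap_apply_of_ne_of_ne h1 h2]
  · rw [ra_of_not_lt j h, rc_of_not_lt j h, op_ie, op_jf]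
    have hj := j.2
    have h1 : ie i ≠ ie (pred j) := fun e => by
      have := congrArg Fin.val (ie_injective e); simp only [pred] at this; omega
    have h2 : ie i ≠ ie j := fun e => by
      have := congrArg Fin.val (ie_injective e); omega
    rw [Equiv.Perm.mul_apply, Equiv.swap_apply_of_ne_of_ne (ie_ne_jf i _) h2,
      Equiv.swap_apply_of_ne_of_ne h1 (ie_ne_jf i j)]

/-- `σ_i⁻¹ e_i = e_{i+1}` -/
theorem sg_inv_ie (i : Fin m) (h : i.val + 1 < m) :
    (sg i)⁻¹ (ie i) = ie (⟨i.val + 1, h⟩ : Fin m) := by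
  rw [Equiv.Perm.inv_eq_iff_eq]
  unfold sg
  rw [ra_of_lt i h, rc_of_lt i h, op_ie, op_ie, Equiv.Perm.mul_apply,
    Equiv.swap_apply_of_ne_of_ne (ie_ne_jf _ i) (ie_ne_jf _ _), Equiv.swap_apply_right]

/-- `σ_{m-1} e_{m-2} = f_{m-1}` -/
theorem sg_last (i j : Fin m) (hj : j.val + 1 = m) (hi : i.val + 2 = m) :
    sg j (ie i) = jf j := by
  have h : ¬ j.val + 1 < m := by omega
  have hp : pred j = i := by
    apply Fin.ext; simp only [pred]; omega
  unfold sg
  rw [ra_of_not_lt j h, rc_of_not_lt j h, op_ie, op_jf, hp]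
  have h2 : ie i ≠ ie j := fun e => by
    have := congrArg Fin.val (ie_injective e); omega
  rw [Equiv.Perm.mul_apply, Equiv.swap_apply_of_ne_of_ne (ie_ne_jf i i) h2,
    Equiv.swap_apply_left]

/-- `σ_{m-2}⁻¹ f_{m-1} = f_{m-2}` -/
theorem sg_inv_jf (i j : Fin m) (hj : j.val + 1 = m) (hi : i.val + 2 = m) :
    (sg i)⁻¹ (jf j) = jf i := by
  have h : i.val + 1 < m := by omega
  have hs : (⟨i.val + 1, h⟩ : Fin m) = j := by
    apply Fin.ext; simp only; omega
  rw [Equiv.Perm.inv_eq_iff_eq]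
  unfold sg
  rw [ra_of_lt i h, rc_of_lt i h, op_ie, op_ie, hs, Equiv.Perm.mul_apply,
    Equiv.swap_apply_left,
    Equiv.swap_apply_of_ne_of_ne (Ne.symm (ie_ne_jf i j)) (Ne.symm (ie_ne_jf j j))]

theorem ss_not_mem_of_lt (hm : 3 ≤ m) (i j : Fin m) (hij : i < j) :
    (ss i : GO m F)⁻¹ * ss j ∉ Boo m F := by
  intro hB
  have hij' : i.val < j.val := hij
  have hg := ((ss_isMono (F := F) hm i).inv).mul (ss_isMono (F := F) hm j)
  have hne := hg.ne_zero (ie i)
  apply hne
  apply (mem_Boo).1 hB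
  rw [Equiv.Perm.mul_apply]
  by_cases hex : j.val + 1 = m ∧ i.val + 2 = m
  · rw [sg_last i j hex.1 hex.2, sg_inv_jf i j hex.1 hex.2]
    simp only [ht_ie, ht_jf]
    have := i.2
    omega
  · have hi : i.val + 1 < m := by have := j.2; omega
    rw [sg_ie_of_lt i j hij' hex, sg_inv_ie i hi]
    simp only [ht_ie]
    omega

theorem ss_inj (hm : 3 ≤ m) (i j : Fin m) (h : (ss i : GO m F)⁻¹ * ss j ∈ Boo m F) : i = j := by
  by_contra hne
  rcases lt_or_gt_of_ne hne with hlt | hgt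
  · exact ss_not_mem_of_lt hm i j hlt h
  · apply ss_not_mem_of_lt (F := F) hm j i hgt
    have := (Boo m F).inv_mem h
    rwa [_root_.mul_inv_rev, inv_inv] at this

end Cfsg.Agent.Lib.Helper55_StOp_INJ
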