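import Mathlib
import Cfsg.Agent.Lib.Helper68_StOpDefs
import Cfsg.Agent.Lib.Helper68_StAbs

/-!
# S2548 market StOp (architect helper27), package GENB

Every non-zero singular vector of the plus-type orthogonal space is `b (α e_a)` with `b` in the Borel subgroup `Boo` of
`Ω⁺_{2m}(F)`.  Port of `Helper88_StOo_GENB` (no short roots): `a` = the index of maximal height in the support; the other
coordinates outside `{a, op a}` are killed one at a time by upper triangular root elements `lx c a t`, the last one vanishes
because the vector is singular.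
-/

set_option autoImplicit false
set_option linter.unusedSectionVars false
set_option linter.unusedSimpArgs false

namespace Cfsg.Agent.Lib.Helper61_StOp_GENB

open Matrix Cfsg.Agent.Lib.Helper68_MatGrp Cfsg.Agent.Lib.Helper68_StOpDefs

variable {m : ℕ} {F : Type*} [Field F] [Fintype F]

/-- root elements `x_{ε_p - ε_r}` with `ht p < ht r` are upper triangular -/
theorem lx_mem_Boo_of_ht (hm : 3 ≤ m) {p r : I m} (h : LxOK p r) (hlt : ht m p < ht m r) (t : F) :
    lx p r t ∈ Boo m F := by
  rw [mem_Boo]
  intro a b hab
  rw [lx_val hm h]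
  unfold lxM
  have hab' : a ≠ b := fun h => by rw [h] at hab; exact lt_irrefl _ hab
  rw [Matrix.sub_apply, Matrix.add_apply, Matrix.one_apply_ne hab', Matrix.single_apply,
    Matrix.single_apply, if_neg, if_neg]
  · simp
  · rintro ⟨h1, h2⟩
    rw [← h1, ← h2, ht_op, ht_op] at hab
    have := ht_lt r
    have := ht_lt p
    omega
  · rintro ⟨h1, h2⟩
    rw [← h1, ← h2] at hab
    omega

theorem lxM_mulVec (p r : I m) (t : F) (w : I m → F) :
    (lxM p r t : Matrix (I m) (I m) F) *ᵥ w =
      w + Pi.single p (t * w r) - Pi.single (op r) (t * w (op p)) := by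
  unfold lxM
  rw [Matrix.sub_mulVec, Matrix.add_mulVec, Matrix.one_mulVec, Matrix.single_mulVec,
    Matrix.single_mulVec]
  rfl

/-- the target property -/
def P (w : I m → F) : Prop :=
  ∃ b ∈ Boo m F, ∃ a : I m, ∃ α : F, φ m F b *ᵥ (Pi.single a α) = w

theorem P_of_step (x : GO m F) (hx : x ∈ Boo m F) (w : I m → F) (h : P (φ m F x *ᵥ w)) : P w := by
  obtain ⟨b, hb, a, α, e⟩ := h
  refine ⟨x⁻¹ * b, mul_mem (inv_mem hx) hb, a, α, ?_⟩
  rw [map_mul, ← Matrix.mulVec_mulVec, e, Matrix.mulVec_mulVec, ← map_mul, inv_mul_cancel, map_one,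
    Matrix.one_mulVec]

theorem Q_step (x : GO m F) (w : I m → F) : QP m F (φ m F x *ᵥ w) = QP m F w :=
  (Cfsg.Agent.Lib.Helper44_Orth.mem_isometryGroup_iff _ x.1.1).mp x.1.2 w

/-- the quadratic form of a vector supported on `{a, op a}` -/
theorem Q_of_supp (a : I m) (w : I m → F) (hs : ∀ c, w c ≠ 0 → c = a ∨ c = op a) :
    QP m F w = w a * w (op a) := by
  have key : ∀ i : Fin m, (a = ie i ∨ a = jf i) → QP m F w = w (ie i) * w (jf i) := by
    intro i hi
    rw [QP_apply, Finset.sum_eq_single i]
    · intro k _ hk
      have : w (ie k) = 0 := by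
        by_contra h
        rcases hi with rfl | rfl
        · rcases hs _ h with e | e
          · exact hk (ie_injective e)
          · exact ie_ne_jf k i e
        · rcases hs _ h with e | e
          · exact ie_ne_jf k i e
          · exact hk (ie_injective e)
      rw [this, zero_mul]
    · intro h; exact absurd (Finset.mem_univ _) h
  rcases index_cases a with ⟨i, rfl⟩ | ⟨i, rfl⟩
  · rw [key i (Or.inl rfl), op_ie]
  · rw [key i (Or.inr rfl), op_jf, mul_comm]

/-- base case: support in `{a, op a}` -/
theorem base0 (a : I m) (w : I m → F) (hwa : w a ≠ 0)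
    (hQ : QP m F w = 0) (hs : ∀ c, w c ≠ 0 → c = a ∨ c = op a) : P w := by
  rw [Q_of_supp a w hs] at hQ
  have h0 : w (op a) = 0 := by
    rcases mul_eq_zero.mp hQ with h | h
    · exact absurd h hwa
    · exact h
  refine ⟨1, one_mem _, a, w a, ?_⟩
  rw [map_one, Matrix.one_mulVec]
  ext c
  rw [Pi.single_apply]
  split_ifs with h
  · rw [h]
  · by_contra hc
    rcases hs c (Ne.symm hc) with e | e
    · exact h e
    · rw [e] at hc; exact hc h0.symm

/-- the induction: kill the coordinates outside `{a, op a}` one at a time -/
theorem main (hm : 3 ≤ m) (a : I m) (s : Finset (I m)) :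
    ∀ w : I m → F, w a ≠ 0 → (∀ x, ht m a < ht m x → w x = 0) →
      QP m F w = 0 →
      (∀ c, w c ≠ 0 → c = a ∨ c = op a ∨ c ∈ s) → P w := by
  classical
  induction s using Finset.induction_on with
  | empty =>
    intro w hwa htop hQ hs
    refine base0 a w hwa hQ fun c hc => ?_
    rcases hs c hc with e | e | e
    · exact Or.inl e
    · exact Or.inr e
    · exact absurd e (Finset.notMem_empty c)
  | insert c s hcs ih =>
    intro w hwa htop hQ hs
    by_cases hc : c = a ∨ c = op a ∨ w c = 0
    · refine ih w hwa htop hQ fun c' hc' => ?_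
      rcases hs c' hc' with e | e | e
      · exact Or.inl e
      · exact Or.inr (Or.inl e)
      · rcases Finset.mem_insert.mp e with e | e
        · rw [e] at hc'
          rcases hc with h | h | h
          · exact Or.inl (e.trans h)
          · exact Or.inr (Or.inl (e.trans h))
          · exact absurd h hc'
        · exact Or.inr (Or.inr e)
    · push Not at hc
      obtain ⟨hca, hcoa, hwc⟩ := hc
      have hopa : op a ≠ a := op_ne_self a
      -- `ht c < ht a`
      have h1 : ¬ ht m a < ht m c := fun h => hwc (htop c h)
      have h2 : ht m c ≠ ht m a := fun h => hca (ht_injective m h)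
      have hlt : ht m c < ht m a := by omega
      have hok : LxOK c a := ⟨fun e => hca e.symm, fun e => hcoa (by rw [e, op_op])⟩
      set t : F := -(w c / w a) with htdef
      have hx : lx c a t ∈ Boo m F := lx_mem_Boo_of_ht hm hok hlt t
      apply P_of_step _ hx
      have hw' : φ m F (lx c a t) *ᵥ w =
          w + Pi.single c (t * w a) - Pi.single (op a) (t * w (op c)) := by
        rw [lx_val hm hok, lxM_mulVec]
      have hQ' := Q_step (lx c a t) w
      rw [hQ] at hQ'
      rw [hw'] at hQ' ⊢
      have hval : ∀ y, y ≠ op a →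
          (w + Pi.single c (t * w a) - Pi.single (op a) (t * w (op c)) : I m → F) y =
            if y = c then 0 else w y := by
        intro y hy
        simp only [Pi.add_apply, Pi.sub_apply, Pi.single_apply, if_neg hy, sub_zero]
        split_ifs with h
        · rw [h, htdef]; field_simp; ring
        · rw [add_zero]
      refine ih _ ?_ ?_ hQ' ?_
      · rw [hval a hopa.symm, if_neg (fun e => hca e.symm)]; exact hwa
      · intro y hy
        by_cases hyo : y = op a
        · -- then `w (op c) = 0`
          have h3 : w (op c) = 0 := by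
            apply htop
            rw [hyo, ht_op] at hy
            rw [ht_op]
            have := ht_lt a
            have := ht_lt c
            omega
          simp only [Pi.add_apply, Pi.sub_apply, Pi.single_apply, h3, mul_zero]
          rw [if_neg (fun e => hcoa (e.symm.trans hyo))]
          simp [htop y hy]
        · rw [hval y hyo]
          split_ifs
          · rfl
          · exact htop y hy
      · intro y hy
        by_cases hyo : y = op a
        · exact Or.inr (Or.inl hyo)
        · rw [hval y hyo] at hy
          split_ifs at hy with h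
          · exact absurd rfl hy
          · rcases hs y hy with e | e | e
            · exact Or.inl e
            · exact Or.inr (Or.inl e)
            · rcases Finset.mem_insert.mp e with e | e
              · exact absurd e h
              · exact Or.inr (Or.inr e)

/-- GENB. -/
theorem genB (hm : 3 ≤ m) (w : I m → F) (hw : w ≠ 0) (hQ : QP m F w = 0) :
    ∃ b ∈ Boo m F, ∃ a : I m, ∃ α : F, φ m F b *ᵥ (Pi.single a α) = w := by
  classical
  have hex : ∃ c, w c ≠ 0 := by
    by_contra h
    push Not at h
    exact hw (funext h)
  obtain ⟨a, hwa, htop⟩ : ∃ a, w a ≠ 0 ∧ ∀ x, ht m a < ht m x → w x = 0 := by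
    obtain ⟨c0, hc0⟩ := hex
    have hne : (Finset.univ.filter (fun c : I m => w c ≠ 0)).Nonempty :=
      ⟨c0, Finset.mem_filter.mpr ⟨Finset.mem_univ _, hc0⟩⟩
    obtain ⟨a, ha, hmx⟩ := Finset.exists_max_image _ (fun c : I m => ht m c) hne
    refine ⟨a, (Finset.mem_filter.mp ha).2, fun x hx => ?_⟩
    by_contra hx0
    have := hmx x (Finset.mem_filter.mpr ⟨Finset.mem_univ _, hx0⟩)
    omega
  exact main hm a Finset.univ w hwa htop hQ fun c _ => Or.inr (Or.inr (Finset.mem_univ c))

end Cfsg.Agent.Lib.Helper61_StOp_GENB
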