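import Mathlib
import Cfsg.Agent.Lib.Helper68_StOpDefs
import Cfsg.Agent.Lib.Helper68_StAbs
import Cfsg.Agent.Lib.Helper80_CharBasic

set_option autoImplicit false
set_option linter.unusedSectionVars false

/-!
S2548 (Steinberg character of `PΩ⁺_{2m}(q)`), market StOp (architect helper27), package LOW1: the case `m = 1`.
An isometry of `Q = x y` on `F²` is diagonal or antidiagonal; the map "antidiagonal ↦ -1" is a homomorphism to `ℤˣ`, so the
commutator subgroup `Ω` consists of diagonal matrices, is abelian, `PΩ = Ω / Z(Ω)` is trivial, and `χ = 1` works.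
-/

namespace Cfsg.Agent.Lib.Helper61_StOp_LOW1

open Matrix Cfsg.Agent.Lib.Helper68_MatGrp Cfsg.Agent.Lib.Helper68_StOpDefs

variable {m : ℕ} {F : Type*} [Field F] [Fintype F]

/-- the matrix of an isometry -/
def mat (g : ↥(Cfsg.isometryGroup F (Cfsg.quadFormPlus 1 F))) :
    Matrix (Fin 1 ⊕ Fin 1) (Fin 1 ⊕ Fin 1) F :=
  ((g : Matrix.GeneralLinearGroup (Fin 1 ⊕ Fin 1) F) : Matrix (Fin 1 ⊕ Fin 1) (Fin 1 ⊕ Fin 1) F)

theorem mat_mul (g h : ↥(Cfsg.isometryGroup F (Cfsg.quadFormPlus 1 F))) :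
    mat (g * h) = mat g * mat h := rfl

theorem mat_injective :
    Function.Injective (mat : ↥(Cfsg.isometryGroup F (Cfsg.quadFormPlus 1 F)) → _) := by
  intro g h hgh
  apply Subtype.ext
  apply Units.ext
  exact hgh

theorem mul2 (M N : Matrix (Fin 1 ⊕ Fin 1) (Fin 1 ⊕ Fin 1) F) (i j : Fin 1 ⊕ Fin 1) :
    (M * N) i j = M i (Sum.inl 0) * N (Sum.inl 0) j + M i (Sum.inr 0) * N (Sum.inr 0) j := by
  rw [Matrix.mul_apply, Fintype.sum_sum_type]
  simp

theorem q1_mulVec (M : Matrix (Fin 1 ⊕ Fin 1) (Fin 1 ⊕ Fin 1) F) (v : Fin 1 ⊕ Fin 1 → F) :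
    Cfsg.quadFormPlus 1 F (M *ᵥ v) =
      (M (Sum.inl 0) (Sum.inl 0) * v (Sum.inl 0) + M (Sum.inl 0) (Sum.inr 0) * v (Sum.inr 0)) *
        (M (Sum.inr 0) (Sum.inl 0) * v (Sum.inl 0) + M (Sum.inr 0) (Sum.inr 0) * v (Sum.inr 0)) := by
  unfold Cfsg.quadFormPlus
  simp [Matrix.mulVec, dotProduct, Fintype.sum_sum_type]

theorem q1_apply (v : Fin 1 ⊕ Fin 1 → F) :
    Cfsg.quadFormPlus 1 F v = v (Sum.inl 0) * v (Sum.inr 0) := by
  unfold Cfsg.quadFormPlus
  simp

/-- the three equations of an isometry of `x y` -/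
theorem iso_eqs (g : ↥(Cfsg.isometryGroup F (Cfsg.quadFormPlus 1 F))) :
    mat g (Sum.inl 0) (Sum.inl 0) * mat g (Sum.inr 0) (Sum.inl 0) = 0 ∧
    mat g (Sum.inl 0) (Sum.inr 0) * mat g (Sum.inr 0) (Sum.inr 0) = 0 ∧
    mat g (Sum.inl 0) (Sum.inl 0) * mat g (Sum.inr 0) (Sum.inr 0) +
      mat g (Sum.inl 0) (Sum.inr 0) * mat g (Sum.inr 0) (Sum.inl 0) = 1 := by
  have h := (Cfsg.Agent.Lib.Helper44_Orth.mem_isometryGroup_iff _ g.1).mp g.2
  have h1 := h (fun i => if i = Sum.inl 0 then 1 else 0)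
  have h2 := h (fun i => if i = Sum.inr 0 then 1 else 0)
  have h3 := h (fun _ => 1)
  rw [q1_mulVec, q1_apply] at h1 h2 h3
  simp only [reduceCtorEq, if_true, if_false, mul_one, mul_zero, add_zero, zero_add] at h1 h2 h3
  have h1' : mat g (Sum.inl 0) (Sum.inl 0) * mat g (Sum.inr 0) (Sum.inl 0) = 0 := h1
  have h2' : mat g (Sum.inl 0) (Sum.inr 0) * mat g (Sum.inr 0) (Sum.inr 0) = 0 := h2
  have h3' : (mat g (Sum.inl 0) (Sum.inl 0) + mat g (Sum.inl 0) (Sum.inr 0)) *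
      (mat g (Sum.inr 0) (Sum.inl 0) + mat g (Sum.inr 0) (Sum.inr 0)) = 1 := h3
  refine ⟨h1', h2', ?_⟩
  linear_combination h3' - h1' - h2'

/-- diagonal case -/
theorem diag_of_ne (g : ↥(Cfsg.isometryGroup F (Cfsg.quadFormPlus 1 F)))
    (h : mat g (Sum.inl 0) (Sum.inl 0) ≠ 0) :
    mat g (Sum.inl 0) (Sum.inr 0) = 0 ∧ mat g (Sum.inr 0) (Sum.inl 0) = 0 := by
  obtain ⟨h1, h2, h3⟩ := iso_eqs g
  have h4 : mat g (Sum.inr 0) (Sum.inl 0) = 0 := by
    rcases mul_eq_zero.1 h1 with h' | h'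
    · exact absurd h' h
    · exact h'
  rw [h4, mul_zero, add_zero] at h3
  have h5 : mat g (Sum.inr 0) (Sum.inr 0) ≠ 0 := by
    intro h'
    rw [h', mul_zero] at h3
    exact zero_ne_one h3
  refine ⟨?_, h4⟩
  rcases mul_eq_zero.1 h2 with h' | h'
  · exact h'
  · exact absurd h' h5

/-- antidiagonal case -/
theorem anti_of_eq (g : ↥(Cfsg.isometryGroup F (Cfsg.quadFormPlus 1 F)))
    (h : mat g (Sum.inl 0) (Sum.inl 0) = 0) :
    mat g (Sum.inl 0) (Sum.inr 0) ≠ 0 ∧ mat g (Sum.inr 0) (Sum.inl 0) ≠ 0 := by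
  obtain ⟨h1, h2, h3⟩ := iso_eqs g
  rw [h, zero_mul, zero_add] at h3
  constructor
  · intro h'
    rw [h', zero_mul] at h3
    exact zero_ne_one h3
  · intro h'
    rw [h', mul_zero] at h3
    exact zero_ne_one h3

/-- the sign of an isometry of the hyperbolic plane: `-1` on the antidiagonal ones -/
noncomputable def sgn1 : ↥(Cfsg.isometryGroup F (Cfsg.quadFormPlus 1 F)) →* ℤˣ where
  toFun g := open Classical in if mat g (Sum.inl 0) (Sum.inl 0) = 0 then -1 else 1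
  map_one' := by
    have : mat (1 : ↥(Cfsg.isometryGroup F (Cfsg.quadFormPlus 1 F))) (Sum.inl 0) (Sum.inl 0) = 1 := by
      show (1 : Matrix (Fin 1 ⊕ Fin 1) (Fin 1 ⊕ Fin 1) F) (Sum.inl 0) (Sum.inl 0) = 1
      simp
    rw [this, if_neg one_ne_zero]
  map_mul' := by
    intro g h
    have hgh : mat (g * h) (Sum.inl 0) (Sum.inl 0) =
        mat g (Sum.inl 0) (Sum.inl 0) * mat h (Sum.inl 0) (Sum.inl 0) +
          mat g (Sum.inl 0) (Sum.inr 0) * mat h (Sum.inr 0) (Sum.inl 0) := by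
      rw [mat_mul, mul2]
    by_cases hg : mat g (Sum.inl 0) (Sum.inl 0) = 0
    · by_cases hh : mat h (Sum.inl 0) (Sum.inl 0) = 0
      · have h1 := (anti_of_eq g hg).1
        have h2 := (anti_of_eq h hh).2
        have : mat (g * h) (Sum.inl 0) (Sum.inl 0) ≠ 0 := by
          rw [hgh, hg, zero_mul, zero_add]
          exact mul_ne_zero h1 h2
        rw [if_pos hg, if_pos hh, if_neg this]
        rfl
      · have h2 := (diag_of_ne h hh).2
        have : mat (g * h) (Sum.inl 0) (Sum.inl 0) = 0 := by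
          rw [hgh, hg, h2, zero_mul, mul_zero, add_zero]
        rw [if_pos hg, if_neg hh, if_pos this, mul_one]
    · by_cases hh : mat h (Sum.inl 0) (Sum.inl 0) = 0
      · have h1 := (diag_of_ne g hg).1
        have : mat (g * h) (Sum.inl 0) (Sum.inl 0) = 0 := by
          rw [hgh, hh, h1, zero_mul, mul_zero, add_zero]
        rw [if_neg hg, if_pos hh, if_pos this, one_mul]
      · have h1 := (diag_of_ne g hg).1
        have : mat (g * h) (Sum.inl 0) (Sum.inl 0) ≠ 0 := by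
          rw [hgh, h1, zero_mul, add_zero]
          exact mul_ne_zero hg hh
        rw [if_neg hg, if_neg hh, if_neg this, mul_one]

/-- the elements of `Ω` are diagonal -/
theorem omega_diag (x : ↥(Cfsg.Omega F (Cfsg.quadFormPlus 1 F))) :
    mat x.1 (Sum.inl 0) (Sum.inr 0) = 0 ∧ mat x.1 (Sum.inr 0) (Sum.inl 0) = 0 := by
  have h1 : x.1 ∈ (sgn1 (F := F)).ker := Abelianization.commutator_subset_ker _ x.2
  rw [MonoidHom.mem_ker] at h1
  apply diag_of_ne
  intro h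
  have : sgn1 (F := F) x.1 = -1 := by
    show (open Classical in if mat x.1 (Sum.inl 0) (Sum.inl 0) = 0 then (-1 : ℤˣ) else 1) = -1
    rw [if_pos h]
  rw [this] at h1
  exact absurd h1 (by decide)

/-- `Ω⁺_2(F)` is abelian -/
theorem omega_comm (x y : ↥(Cfsg.Omega F (Cfsg.quadFormPlus 1 F))) : x * y = y * x := by
  apply Subtype.ext
  apply mat_injective
  show mat (x.1 * y.1) = mat (y.1 * x.1)
  rw [mat_mul, mat_mul]
  obtain ⟨hx1, hx2⟩ := omega_diag x
  obtain ⟨hy1, hy2⟩ := omega_diag y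
  ext i j
  rw [mul2, mul2]
  rcases i with i | i <;> rcases j with j | j <;> fin_cases i <;> fin_cases j <;>
    simp only [Fin.zero_eta, hx1, hx2, hy1, hy2, mul_zero, zero_mul, add_zero, zero_add, mul_comm]

/-- `PΩ⁺_2(F)` is trivial -/
theorem pomega_eq_one (x : Cfsg.POmega F (Cfsg.quadFormPlus 1 F)) : x = 1 := by
  induction x using QuotientGroup.induction_on with
  | H g =>
    rw [QuotientGroup.eq_one_iff, Subgroup.mem_center_iff]
    intro h
    exact omega_comm h g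

/-- LOW1. -/
theorem steinberg_low1 (p : ℕ) [Fact p.Prime] [CharP F p] :
    ∃ χ : Cfsg.POmega F (Cfsg.quadFormPlus 1 F) → ℂ,
      Cfsg.IsIrrCharacter (Cfsg.POmega F (Cfsg.quadFormPlus 1 F)) χ ∧
      ∀ P : Sylow p (Cfsg.POmega F (Cfsg.quadFormPlus 1 F)), χ 1 = Nat.card P ∧
        ∀ x : Cfsg.POmega F (Cfsg.quadFormPlus 1 F), x ∈ P → x ≠ 1 → χ x = 0 := by
  have hsub : Subsingleton (Cfsg.POmega F (Cfsg.quadFormPlus 1 F)) :=
    ⟨fun a b => by rw [pomega_eq_one a, pomega_eq_one b]⟩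
  refine ⟨fun _ => 1, Cfsg.Agent.Lib.Helper80_CharBasic.isIrrCharacter_one _, fun P => ⟨?_, ?_⟩⟩
  · have : Nat.card (P : Subgroup (Cfsg.POmega F (Cfsg.quadFormPlus 1 F))) = 1 := by
      rw [Subgroup.card_eq_one]
      exact Subsingleton.elim _ _
    show (1 : ℂ) = ((Nat.card (P : Subgroup (Cfsg.POmega F (Cfsg.quadFormPlus 1 F))) : ℕ) : ℂ)
    rw [this, Nat.cast_one]
  · intro x _ hx
    exact absurd (pomega_eq_one x) hx

end Cfsg.Agent.Lib.Helper61_StOp_LOW1
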