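/- Helper68_StOp_GEN: S2548 market StOp (architect helper27), package GEN: Omega+_(2m) = <Boo, Noo> for m >= 3 from helper14's
   generation of Omega by Siegel transformations.  helper68. -/
import Mathlib
import Cfsg.Agent.Lib.Helper68_StOpDefs
import Cfsg.Agent.Lib.Helper68_StAbs
import Cfsg.Agent.Lib.Helper14_SiegelOmega2
import Cfsg.Agent.Lib.Helper14_POmegaSimple
import Cfsg.Agent.Lib.Helper44_StdForms

set_option autoImplicit false
set_option linter.unusedSectionVars false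
set_option linter.unusedVariables false

namespace Cfsg.Agent.Lib.Helper68_StOp_GEN

open Matrix Cfsg.Agent.Lib.Helper68_MatGrp Cfsg.Agent.Lib.Helper68_StOpDefs
  Cfsg.Agent.Lib.Helper14_Siegel Cfsg.Agent.Lib.Helper44_StdForms

variable {m : ℕ} {F : Type*} [Field F] [Fintype F]

/-- generation of `Ω` by Siegel transformations, for a function `Q'` equal to the coercion of a form -/
theorem key {ι : Type} [Fintype ι] [DecidableEq ι] (Q : QuadraticForm F (ι → F)) (Q' : (ι → F) → F)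
    (hQ' : ⇑Q = Q') (hnd : LinearMap.Nondegenerate (QuadraticMap.polarBilin Q))
    (hcard : 5 ≤ Fintype.card ι) (H : Subgroup ↥(Cfsg.Omega F Q'))
    (hstep : ∀ (g : ↥(Cfsg.Omega F Q')) (u v : ι → F) (c : F), Q' u = 0 → Q' v = 0 →
      QuadraticMap.polar Q' u v = 0 →
      ((g.1 : Matrix.GeneralLinearGroup ι F) : Matrix ι ι F) = Cfsg.siegelMatrix Q' u v c → g ∈ H) :
    H = ⊤ := by
  subst hQ'
  rw [eq_top_iff]
  intro g _
  have hg : g.1 ∈ siegelGroup Q := by
    rw [← Cfsg.Agent.Lib.Helper14_SiegelOmega2.omega_eq_siegelGroup Q hnd hcard]; exact g.2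
  have hle : siegelGroup Q ≤ Cfsg.Omega F (⇑Q) := by
    rw [Cfsg.Agent.Lib.Helper14_SiegelOmega2.omega_eq_siegelGroup Q hnd hcard]
  have : ∀ x ∈ siegelGroup Q, ∃ hx : x ∈ Cfsg.Omega F (⇑Q), (⟨x, hx⟩ : ↥(Cfsg.Omega F (⇑Q))) ∈ H := by
    intro x hx
    unfold siegelGroup at hx
    induction hx using Subgroup.closure_induction with
    | mem s hs =>
      obtain ⟨u, v, c, hu, hv, huv, hmat⟩ := hs
      have hsΩ : s ∈ Cfsg.Omega F (⇑Q) := hle (Subgroup.subset_closure ⟨u, v, c, hu, hv, huv, hmat⟩)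
      exact ⟨hsΩ, hstep ⟨s, hsΩ⟩ u v c hu hv huv hmat⟩
    | one => exact ⟨Subgroup.one_mem _, H.one_mem⟩
    | mul a b _ _ iha ihb =>
      obtain ⟨ha, ha'⟩ := iha
      obtain ⟨hb, hb'⟩ := ihb
      exact ⟨Subgroup.mul_mem _ ha hb, H.mul_mem ha' hb'⟩
    | inv a _ iha =>
      obtain ⟨ha, ha'⟩ := iha
      exact ⟨Subgroup.inv_mem _ ha, H.inv_mem ha'⟩
  obtain ⟨_, h⟩ := this g.1 hg
  exact h

/-- conjugation of a Siegel matrix, for a function `Q'` equal to the coercion of a form -/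
theorem conj' {ι : Type} [Fintype ι] [DecidableEq ι] (Q : QuadraticForm F (ι → F)) (Q' : (ι → F) → F)
    (hQ' : ⇑Q = Q') (h : ↥(Cfsg.isometryGroup F Q')) (u v : ι → F) (c : F) :
    (h : Matrix.GeneralLinearGroup ι F).1 * Cfsg.siegelMatrix Q' u v c
      * ((h⁻¹ : ↥(Cfsg.isometryGroup F Q')) : Matrix.GeneralLinearGroup ι F).1
      = Cfsg.siegelMatrix Q' ((h : Matrix.GeneralLinearGroup ι F).1 *ᵥ u)
          ((h : Matrix.GeneralLinearGroup ι F).1 *ᵥ v) c := by
  subst hQ'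
  exact conj_siegelMatrix Q h u v c

theorem siegelMatrix_zero_left {ι : Type} [Fintype ι] [DecidableEq ι] (Q' : (ι → F) → F)
    (hQ0 : ∀ v, QuadraticMap.polar Q' 0 v = 0) (v : ι → F) (c : F) :
    Cfsg.siegelMatrix Q' 0 v c = 1 := by
  unfold Cfsg.siegelMatrix
  have : Cfsg.polarVec Q' 0 = 0 := by
    funext i
    simp [Cfsg.polarVec, hQ0]
  rw [this]
  simp


theorem sup_eq_top_of_gen (hm : 3 ≤ m)
    (hA : ∀ a : I m, ∃ n ∈ Subgroup.closure (Set.range (ss (m := m) (F := F))), ∃ ε : F,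
      φ m F n *ᵥ (Pi.single (ie ⟨0, by omega⟩) 1) = Pi.single a ε)
    (hB : ∀ w : I m → F, w ≠ 0 → QP m F w = 0 →
      ∃ b ∈ Boo m F, ∃ a : I m, ∃ α : F, φ m F b *ᵥ (Pi.single a α) = w)
    (hX : ∀ g : GO m F, (∃ (v : I m → F) (β c : F), φ m F g =
      Cfsg.siegelMatrix (⇑(QP m F)) (Pi.single (ie ⟨0, by omega⟩) β) v c) → g ∈ Boo m F) :
    Boo m F ⊔ Noo m F = ⊤ := by
  have hcard : 5 ≤ Fintype.card (I m) := by
    rw [card_I]; omega
  have hm0 : 0 < m := by omega
  refine key (QP m F) (⇑(QP m F)) rfl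
    (Cfsg.Agent.Lib.Helper14_POmegaSimple.nondegenerate_qfPlus m) hcard _ ?_
  intro g u v c hu hv huv hmat
  have hφg : φ m F g = Cfsg.siegelMatrix (⇑(QP m F)) u v c := hmat
  by_cases hu0 : u = 0
  · subst hu0
    have hg1 : g = 1 := by
      apply φ_injective
      rw [hφg, map_one]
      apply siegelMatrix_zero_left
      intro w
      simp [QuadraticMap.polar]
    rw [hg1]; exact Subgroup.one_mem _
  · obtain ⟨b, hb, a, α, hbα⟩ := hB u hu0 hu
    obtain ⟨n, hn, ε, hnε⟩ := hA a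
    have hα : α ≠ 0 := by
      rintro rfl
      apply hu0
      rw [← hbα]
      simp
    have hε : ε ≠ 0 := by
      rintro rfl
      have h1 : φ m F n⁻¹ *ᵥ (φ m F n *ᵥ Pi.single (ie ⟨0, hm0⟩) 1) = Pi.single (ie ⟨0, hm0⟩) 1 := by
        rw [Matrix.mulVec_mulVec, ← map_mul, inv_mul_cancel, map_one, Matrix.one_mulVec]
      rw [hnε] at h1
      have h3 := congrFun h1 (ie ⟨0, hm0⟩)
      simp at h3
    set k : GO m F := b * n with hk_def
    have hk : k ∈ Boo m F ⊔ Noo m F :=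
      mul_mem (Subgroup.mem_sup_left hb) (Subgroup.mem_sup_right (Subgroup.mem_sup_left hn))
    have hke : φ m F k *ᵥ Pi.single (ie ⟨0, hm0⟩) 1 = (ε / α) • u := by
      rw [hk_def, map_mul, ← Matrix.mulVec_mulVec, hnε, ← hbα, ← Matrix.mulVec_smul]
      congr 1
      ext x
      simp only [Pi.single_apply, Pi.smul_apply, smul_eq_mul]
      split_ifs
      · field_simp
      · simp
    have hku : φ m F k⁻¹ *ᵥ u = Pi.single (ie ⟨0, hm0⟩) (α / ε) := by
      have hu' : u = (α / ε) • (φ m F k *ᵥ Pi.single (ie ⟨0, hm0⟩) 1) := by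
        rw [hke, smul_smul]
        have : α / ε * (ε / α) = 1 := by field_simp
        rw [this, one_smul]
      rw [hu', Matrix.mulVec_smul, Matrix.mulVec_mulVec, ← map_mul, inv_mul_cancel, map_one,
        Matrix.one_mulVec]
      ext x
      simp only [Pi.single_apply, Pi.smul_apply, smul_eq_mul]
      split_ifs <;> simp
    have hconj : k⁻¹ * g * k ∈ Boo m F := by
      apply hX
      refine ⟨φ m F k⁻¹ *ᵥ v, α / ε, c, ?_⟩
      rw [map_mul, map_mul, hφg, ← hku]
      have h4 := conj' (QP m F) _ rfl (k⁻¹).1 u v c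
      have h5 : (((k⁻¹ : GO m F).1)⁻¹ : OO m F) = k.1 := by simp
      rw [h5] at h4
      exact h4
    have hgk : g = k * (k⁻¹ * g * k) * k⁻¹ := by group
    rw [hgk]
    exact mul_mem (mul_mem hk (Subgroup.mem_sup_left hconj)) (inv_mem hk)

end Cfsg.Agent.Lib.Helper68_StOp_GEN
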