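import Mathlib
import Cfsg.Agent.Lib.Helper68_StOpDefs
import Cfsg.Agent.Lib.Helper68_StAbs
import Cfsg.Agent.Lib.Helper70_StOp_MONOW

/-!
# S2548 package JREV (architect helper27): a monomial element of `Ω` reversing the heights (type `D_m`)
-/

set_option autoImplicit false

namespace Cfsg.Agent.Lib.Helper70_StOp_JREV

open Matrix Cfsg.Agent.Lib.Helper68_MatGrp Cfsg.Agent.Lib.Helper68_StOpDefs

variable {m : ℕ} {F : Type*} [Field F] [Fintype F]

/-- the partial sign change: exchanges `e_i` and `f_i` for `i < K` -/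
def prev (K : ℕ) : I m → I m
  | Sum.inl i => if i.val < K then Sum.inr i else Sum.inl i
  | Sum.inr i => if i.val < K then Sum.inl i else Sum.inr i

theorem prev_ie (K : ℕ) (i : Fin m) : prev K (ie i) = if i.val < K then jf i else ie i := rfl

theorem prev_jf (K : ℕ) (i : Fin m) : prev K (jf i) = if i.val < K then ie i else jf i := rfl

/-- the permutation of `wl (ie i) (ie k) * wl (ie i) (jf k)` -/
def tau (i k : Fin m) : Equiv.Perm (I m) :=
  (Equiv.swap (ie i) (ie k) * Equiv.swap (op (ie i)) (op (ie k))) *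
    (Equiv.swap (ie i) (jf k) * Equiv.swap (op (ie i)) (op (jf k)))

theorem tau_ie_left (i k : Fin m) (hik : i ≠ k) : tau i k (ie i) = jf i := by
  have h1 : (ie i : I m) ≠ ie k := fun h => hik (ie_injective h)
  have h2 : (jf i : I m) ≠ jf k := fun h => hik (jf_injective h)
  unfold tau
  rw [op_ie, op_ie, op_jf, Equiv.Perm.mul_apply, Equiv.Perm.mul_apply, Equiv.Perm.mul_apply,
    Equiv.swap_apply_of_ne_of_ne (ie_ne_jf i i) h1, Equiv.swap_apply_left, Equiv.swap_apply_right,
    Equiv.swap_apply_of_ne_of_ne (ie_ne_jf i i).symm (ie_ne_jf k i).symm]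

theorem tau_jf_left (i k : Fin m) (hik : i ≠ k) : tau i k (jf i) = ie i := by
  have h1 : (ie i : I m) ≠ ie k := fun h => hik (ie_injective h)
  have h2 : (jf i : I m) ≠ jf k := fun h => hik (jf_injective h)
  unfold tau
  rw [op_ie, op_ie, op_jf, Equiv.Perm.mul_apply, Equiv.Perm.mul_apply, Equiv.Perm.mul_apply,
    Equiv.swap_apply_left, Equiv.swap_apply_of_ne_of_ne h1.symm (ie_ne_jf k k),
    Equiv.swap_apply_of_ne_of_ne (ie_ne_jf k i) (ie_ne_jf k k), Equiv.swap_apply_right]

theorem tau_ie_right (i k : Fin m) (hik : i ≠ k) : tau i k (ie k) = jf k := by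
  have h1 : (ie i : I m) ≠ ie k := fun h => hik (ie_injective h)
  have h2 : (jf i : I m) ≠ jf k := fun h => hik (jf_injective h)
  unfold tau
  rw [op_ie, op_ie, op_jf, Equiv.Perm.mul_apply, Equiv.Perm.mul_apply, Equiv.Perm.mul_apply,
    Equiv.swap_apply_right, Equiv.swap_apply_of_ne_of_ne (ie_ne_jf i i).symm h2,
    Equiv.swap_apply_left, Equiv.swap_apply_of_ne_of_ne (ie_ne_jf i k).symm (ie_ne_jf k k).symm]

theorem tau_jf_right (i k : Fin m) (hik : i ≠ k) : tau i k (jf k) = ie k := by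
  have h1 : (ie i : I m) ≠ ie k := fun h => hik (ie_injective h)
  have h2 : (jf i : I m) ≠ jf k := fun h => hik (jf_injective h)
  unfold tau
  rw [op_ie, op_ie, op_jf, Equiv.Perm.mul_apply, Equiv.Perm.mul_apply, Equiv.Perm.mul_apply,
    Equiv.swap_apply_of_ne_of_ne h2.symm (ie_ne_jf k k).symm, Equiv.swap_apply_right,
    Equiv.swap_apply_of_ne_of_ne (ie_ne_jf i i) (ie_ne_jf i k), Equiv.swap_apply_left]

theorem tau_other (i k : Fin m) (x : I m) (h1 : x ≠ ie i) (h2 : x ≠ jf i) (h3 : x ≠ ie k)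
    (h4 : x ≠ jf k) : tau i k x = x := by
  unfold tau
  rw [op_ie, op_ie, op_jf, Equiv.Perm.mul_apply, Equiv.Perm.mul_apply, Equiv.Perm.mul_apply,
    Equiv.swap_apply_of_ne_of_ne h2 h3, Equiv.swap_apply_of_ne_of_ne h1 h4,
    Equiv.swap_apply_of_ne_of_ne h2 h4, Equiv.swap_apply_of_ne_of_ne h1 h3]

theorem exists_partial (hm : 3 ≤ m) (l : ℕ) (hl : 2 * l ≤ m) :
    ∃ (n : GO m F) (π : Equiv.Perm (I m)), IsMono (φ m F) n π ∧ ∀ x, π x = prev (2 * l) x := by
  induction l with
  | zero =>
    refine ⟨1, 1, isMono_one, ?_⟩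
    intro x
    rcases index_cases x with ⟨i, rfl⟩ | ⟨i, rfl⟩
    · rw [prev_ie, if_neg (by omega)]; rfl
    · rw [prev_jf, if_neg (by omega)]; rfl
  | succ l ih =>
    obtain ⟨n, π, hn, hπ⟩ := ih (by omega)
    let i0 : Fin m := ⟨2 * l, by omega⟩
    let k0 : Fin m := ⟨2 * l + 1, by omega⟩
    have hik : i0 ≠ k0 := by
      intro h
      have := congrArg Fin.val h
      simp only [i0, k0] at this
      omega
    have hw1 := Cfsg.Agent.Lib.Helper70_StOp_MONOW.wl_isMono (F := F) hm (lxOK_ie hik)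
    have hw2 := Cfsg.Agent.Lib.Helper70_StOp_MONOW.wl_isMono (F := F) hm (lxOK_ie_jf hik)
    refine ⟨n * (wl (ie i0) (ie k0) * wl (ie i0) (jf k0)), π * tau i0 k0, hn.mul (hw1.mul hw2), ?_⟩
    intro x
    rw [Equiv.Perm.mul_apply]
    rcases index_cases x with ⟨i, rfl⟩ | ⟨i, rfl⟩
    · by_cases hi : i = i0
      · subst hi
        rw [tau_ie_left _ _ hik, hπ, prev_jf, prev_ie, if_neg (by simp only [i0]; omega),
          if_pos (by simp only [i0]; omega)]
      · by_cases hk : i = k0
        · subst hk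
          rw [tau_ie_right _ _ hik, hπ, prev_jf, prev_ie, if_neg (by simp only [k0]; omega),
            if_pos (by simp only [k0]; omega)]
        · rw [tau_other _ _ _ (fun h => hi (ie_injective h)) (ie_ne_jf _ _)
            (fun h => hk (ie_injective h)) (ie_ne_jf _ _), hπ, prev_ie, prev_ie]
          have h1 : i.val ≠ 2 * l := fun h => hi (Fin.ext h)
          have h2 : i.val ≠ 2 * l + 1 := fun h => hk (Fin.ext h)
          by_cases hlt : i.val < 2 * l
          · rw [if_pos hlt, if_pos (by omega)]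
          · rw [if_neg hlt, if_neg (by omega)]
    · by_cases hi : i = i0
      · subst hi
        rw [tau_jf_left _ _ hik, hπ, prev_jf, prev_ie, if_neg (by simp only [i0]; omega),
          if_pos (by simp only [i0]; omega)]
      · by_cases hk : i = k0
        · subst hk
          rw [tau_jf_right _ _ hik, hπ, prev_jf, prev_ie, if_neg (by simp only [k0]; omega),
            if_pos (by simp only [k0]; omega)]
        · rw [tau_other _ _ _ (ie_ne_jf _ _).symm (fun h => hi (jf_injective h))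
            (ie_ne_jf _ _).symm (fun h => hk (jf_injective h)), hπ, prev_jf, prev_jf]
          have h1 : i.val ≠ 2 * l := fun h => hi (Fin.ext h)
          have h2 : i.val ≠ 2 * l + 1 := fun h => hk (Fin.ext h)
          by_cases hlt : i.val < 2 * l
          · rw [if_pos hlt, if_pos (by omega)]
          · rw [if_neg hlt, if_neg (by omega)]

theorem exists_rev (hm : 3 ≤ m) : ∃ (n : GO m F) (σ : Equiv.Perm (I m)), IsMono (φ m F) n σ ∧
    ∀ a b, ht m a < ht m b →
      ht m (σ b) < ht m (σ a) ∨ ∃ i : Fin m, i.val + 1 = m ∧ σ a = ie i ∧ σ b = jf i := by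
  obtain ⟨n, σ, hn, hσ⟩ := exists_partial (F := F) hm (m / 2) (Nat.mul_div_le m 2)
  refine ⟨n, σ, hn, ?_⟩
  obtain ⟨K, hK⟩ : ∃ K, K = 2 * (m / 2) := ⟨_, rfl⟩
  rw [← hK] at hσ
  have hK1 : K ≤ m := by omega
  have hK2 : m ≤ K + 1 := by omega
  intro a b hab
  rw [hσ a, hσ b]
  rcases index_cases a with ⟨i, rfl⟩ | ⟨i, rfl⟩ <;> rcases index_cases b with ⟨j, rfl⟩ | ⟨j, rfl⟩
  · rw [ht_ie, ht_ie] at hab
    rw [prev_ie, prev_ie]
    have := i.2
    have := j.2
    by_cases h1 : i.val < K <;> by_cases h2 : j.val < K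
    · rw [if_pos h1, if_pos h2, ht_jf, ht_jf]; left; omega
    · rw [if_pos h1, if_neg h2, ht_jf, ht_ie]; left; omega
    · omega
    · omega
  · rw [prev_ie, prev_jf]
    have := i.2
    have := j.2
    by_cases h1 : i.val < K <;> by_cases h2 : j.val < K
    · rw [if_pos h1, if_pos h2, ht_jf, ht_ie]; left; omega
    · rw [if_pos h1, if_neg h2, ht_jf, ht_jf]; left; omega
    · rw [if_neg h1, if_pos h2, ht_ie, ht_ie]; left; omega
    · rw [if_neg h1, if_neg h2]
      right
      have hij : i = j := Fin.ext (by omega)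
      subst hij
      exact ⟨i, by omega, rfl, rfl⟩
  · rw [ht_jf, ht_ie] at hab
    have := i.2
    have := j.2
    omega
  · rw [ht_jf, ht_jf] at hab
    rw [prev_jf, prev_jf]
    have := i.2
    have := j.2
    by_cases h1 : i.val < K <;> by_cases h2 : j.val < K
    · rw [if_pos h1, if_pos h2, ht_ie, ht_ie]; left; omega
    · omega
    · rw [if_neg h1, if_pos h2, ht_jf, ht_ie]; left; omega
    · omega

end Cfsg.Agent.Lib.Helper70_StOp_JREV
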