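/-
StOp market (architect helper27, statement S2548), package CARDB (GENERIC): `|UT| = |Diag| |UU|` when every upper
triangular element has a diagonal part in the group, through the bijection `Diag × UU → UT`, `(t, u) ↦ t u`.
Port of `Helper54_StOo_CARDB.card_Boo`.
-/
import Mathlib
import Cfsg.Agent.Lib.Helper68_StOpDefs
import Cfsg.Agent.Lib.Helper68_StAbs

set_option autoImplicit false
set_option linter.unusedVariables false
set_option linter.unusedSectionVars false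

namespace Cfsg.Agent.Lib.Helper79_StOp_CARDB

open Matrix Cfsg.Agent.Lib.Helper68_MatGrp Cfsg.Agent.Lib.Helper68_StOpDefs

variable {m : ℕ} {F : Type*} [Field F] [Fintype F]

/-- **CARDB** (generic). -/
theorem card_UT {ι : Type*} [Fintype ι] [DecidableEq ι] {K : Type*} [Field K] {G : Type*} [Group G]
    (ψ : G →* Matrix ι ι K) (hψ : Function.Injective ψ) (h : ι → ℕ) (hh : Function.Injective h)
    (hD : ∀ b ∈ UT ψ h, ∃ t ∈ Diag ψ, ∀ a, ψ t a a = ψ b a a) :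
    Nat.card (UT ψ h) = Nat.card (Diag ψ) * Nat.card (UU ψ h hh) := by
  rw [← Nat.card_prod]
  symm
  refine Nat.card_congr (Equiv.ofBijective
    (fun p : ↥(Diag ψ) × ↥(UU ψ h hh) =>
      (⟨p.1.1 * p.2.1, (UT ψ h).mul_mem (Diag_le_UT ψ h p.1.2) (UU_le_UT ψ h hh p.2.2)⟩ : ↥(UT ψ h)))
    ⟨?_, ?_⟩)
  · rintro ⟨⟨t, ht'⟩, ⟨u, hu⟩⟩ ⟨⟨t', ht''⟩, ⟨u', hu'⟩⟩ h0'
    have h0 : t * u = t' * u' := congrArg Subtype.val h0'
    have h1 : t'⁻¹ * t = u' * u⁻¹ := by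
      calc t'⁻¹ * t = t'⁻¹ * (t * u) * u⁻¹ := by group
        _ = t'⁻¹ * (t' * u') * u⁻¹ := by rw [h0]
        _ = u' * u⁻¹ := by group
    have h2 : t'⁻¹ * t ∈ UU ψ h hh ⊓ Diag ψ :=
      ⟨by rw [h1]; exact Subgroup.mul_mem _ hu' (Subgroup.inv_mem _ hu),
        (Diag ψ).mul_mem ((Diag ψ).inv_mem ht'') ht'⟩
    rw [UU_inf_Diag ψ h hψ hh, Subgroup.mem_bot] at h2
    have htt : t = t' := by
      calc t = t' * (t'⁻¹ * t) := by group
        _ = t' := by rw [h2, mul_one]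
    subst htt
    have huu : u = u' := mul_left_cancel h0
    subst huu
    rfl
  · rintro ⟨b, hb⟩
    obtain ⟨t, ht', hd⟩ := hD b hb
    have hu : t⁻¹ * b ∈ UU ψ h hh := inv_mul_mem_UU ψ h hh hb ht' hd
    refine ⟨(⟨t, ht'⟩, ⟨t⁻¹ * b, hu⟩), ?_⟩
    apply Subtype.ext
    show t * (t⁻¹ * b) = b
    group

end Cfsg.Agent.Lib.Helper79_StOp_CARDB
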