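/-
StOp market (architect helper27, statement S2548), package SIEGB: Siegel transformations centred at `e_0` are upper
triangular.  Port of `Helper38_StOo_SIEGB`.
-/
import Mathlib
import Cfsg.Agent.Lib.Helper68_StOpDefs
import Cfsg.Agent.Lib.Helper68_StAbs

set_option autoImplicit false
set_option linter.unusedSectionVars false

namespace Cfsg.Agent.Lib.Helper79_StOp_SIEGB

open Matrix Cfsg.Agent.Lib.Helper68_MatGrp Cfsg.Agent.Lib.Helper68_StOpDefs

variable {m : ℕ} {F : Type*} [Field F] [Fintype F]

/-- the polar vector of `β e_a` is `β` times the indicator of `op a` -/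
theorem polarVec_single_smul (a : I m) (β : F) (b : I m) :
    Cfsg.polarVec (⇑(QP m F)) (Pi.single a β) b = if b = op a then β else 0 := by
  unfold Cfsg.polarVec
  rw [polar_single, mul_one]

theorem siegel_mem_Boo (hm : 0 < m) (g : GO m F) (v : I m → F) (β c : F)
    (hg : φ m F g = Cfsg.siegelMatrix (⇑(QP m F)) (Pi.single (ie ⟨0, hm⟩) β) v c) :
    g ∈ Boo m F := by
  rw [mem_Boo]
  intro a b hab
  have hne : a ≠ b := by
    rintro rfl
    exact lt_irrefl _ hab
  rw [hg, Cfsg.siegelMatrix]
  simp only [Matrix.add_apply, Matrix.smul_apply, Matrix.sub_apply, Matrix.vecMulVec_apply,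
    Matrix.one_apply, if_neg hne, smul_eq_mul, zero_add]
  rw [polarVec_single_smul]
  have hb : b ≠ op (ie ⟨0, hm⟩) := by
    rintro rfl
    have := ht_lt (m := m) a
    rw [op_ie, ht_jf] at hab
    simp only at hab
    omega
  have ha : a ≠ ie ⟨0, hm⟩ := by
    rintro rfl
    simp only [ht_ie] at hab
    omega
  rw [if_neg hb, Pi.single_apply, if_neg ha]
  ring

end Cfsg.Agent.Lib.Helper79_StOp_SIEGB
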