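/-
S2548 market (architect helper27), package R2: (R2) for a general root in `Ω⁺_{2m}(q)`
(port of Helper36_StOo_R2L to type D_m, general admissible pairs `(a, c)`).
-/
import Mathlib
import Cfsg.Agent.Lib.Helper68_StOpDefs
import Cfsg.Agent.Lib.Helper68_StAbs

set_option autoImplicit false
set_option linter.unusedSectionVars false

namespace Cfsg.Agent.Lib.Helper7_StOp_R2

open Matrix Cfsg.Agent.Lib.Helper68_MatGrp Cfsg.Agent.Lib.Helper68_StOpDefs

variable {m : ℕ} {F : Type*} [Field F] [Fintype F]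

/-- off-diagonal entries of `lxM` -/
theorem lxM_off (a c : I m) (t : F) (x y : I m) (hxy : x ≠ y)
    (h1 : ¬ (x = a ∧ y = c)) (h2 : ¬ (x = op c ∧ y = op a)) : lxM a c t x y = 0 := by
  unfold lxM
  rw [Matrix.sub_apply, Matrix.add_apply, Matrix.one_apply_ne hxy, Matrix.single_apply,
    Matrix.single_apply]
  have e1 : ¬ (a = x ∧ c = y) := fun e => h1 ⟨e.1.symm, e.2.symm⟩
  have e2 : ¬ (op c = x ∧ op a = y) := fun e => h2 ⟨e.1.symm, e.2.symm⟩
  rw [if_neg e1, if_neg e2, add_zero, sub_zero]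

/-- conjugation by a monomial element into `B` -/
theorem conj_mem_Boo {n : GO m F} {σ : Equiv.Perm (I m)} (hn : IsMono (φ m F) n σ) (g : GO m F)
    (h : ∀ a b, ht m b < ht m a → φ m F g (σ a) (σ b) = 0) : n⁻¹ * g * n ∈ Boo m F := by
  rw [mem_Boo]
  intro a b hab
  rw [hn.conj_apply g a b, h a b hab, mul_zero, zero_mul]

theorem ht_op_lt {a b : I m} (h : ht m a < ht m b) : ht m (op b) < ht m (op a) := by
  rw [ht_op, ht_op]
  have := ht_lt a
  have := ht_lt b
  omega

/-- the general step -/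
theorem r2_key (hm : 3 ≤ m) (n : GO m F) (σ : Equiv.Perm (I m)) (hn : IsMono (φ m F) n σ)
    (hsw : ∀ a, σ (op a) = op (σ a)) (x y : I m) (hxy : LxOK x y) (a₁ b₁ : I m)
    (h1 : σ a₁ = x) (h2 : σ b₁ = y) (hlt : ht m a₁ < ht m b₁) (t : F) :
    n⁻¹ * lx x y t * n ∈ Boo m F := by
  have h3 : σ (op a₁) = op x := by rw [hsw, h1]
  have h4 : σ (op b₁) = op y := by rw [hsw, h2]
  apply conj_mem_Boo hn
  intro a b hab
  have hab' : σ a ≠ σ b := by
    intro h
    have := σ.injective h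
    rw [this] at hab
    exact lt_irrefl _ hab
  rw [lx_val hm hxy]
  apply lxM_off _ _ _ _ _ hab'
  · rintro ⟨e1, e2⟩
    have ea : a = a₁ := σ.injective (e1.trans h1.symm)
    have eb : b = b₁ := σ.injective (e2.trans h2.symm)
    rw [ea, eb] at hab
    omega
  · rintro ⟨e1, e2⟩
    have ea : a = op b₁ := σ.injective (e1.trans h4.symm)
    have eb : b = op a₁ := σ.injective (e2.trans h3.symm)
    rw [ea, eb] at hab
    have := ht_op_lt hlt
    omega

theorem r2 (hm : 3 ≤ m) {a c : I m} (h : LxOK a c) (n : GO m F) (σ : Equiv.Perm (I m))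
    (hn : IsMono (φ m F) n σ) (hsw : ∀ a, σ (op a) = op (σ a)) :
    (∀ t : F, n⁻¹ * lx a c t * n ∈ Boo m F) ∨ (∀ t : F, n⁻¹ * lx c a t * n ∈ Boo m F) := by
  have hσa : σ (σ⁻¹ a) = a := by simp
  have hσb : σ (σ⁻¹ c) = c := by simp
  have hne : σ⁻¹ a ≠ σ⁻¹ c := by
    intro h'
    have : a = c := σ⁻¹.injective h'
    exact h.1 this.symm
  rcases lt_or_gt_of_ne (fun h' => hne (ht_injective m h')) with hlt | hlt
  · left
    exact r2_key hm n σ hn hsw _ _ h _ _ hσa hσb hlt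
  · right
    exact r2_key hm n σ hn hsw _ _ h.symm _ _ hσb hσa hlt

end Cfsg.Agent.Lib.Helper7_StOp_R2
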