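import Mathlib
import Cfsg.Agent.Lib.Helper68_StOpDefs
import Cfsg.Agent.Lib.Helper68_StAbs

/-!
stop package OPP (helper89, for helper27's S2548 market): conjugation of a root element by its Weyl
representative.  Port of `Helper89_StOo_OPPL`.
-/

set_option autoImplicit false
set_option linter.unusedSimpArgs false
set_option linter.unusedSectionVars false

namespace Cfsg.Agent.Lib.Helper89_StOp_OPP

open Matrix Cfsg.Agent.Lib.Helper68_MatGrp Cfsg.Agent.Lib.Helper68_StOpDefs

variable {m : ℕ} {F : Type*} [Field F] [Fintype F]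

/-- `x_α(t) w = w x_{-α}(-t)` at the level of matrices. -/
theorem lxM_mul_wlM {a c : I m} (h : LxOK a c) (t : F) :
    lxM a c t * wlM a c = wlM a c * lxM c a (-t) := by
  obtain ⟨hca, hca'⟩ := h
  have h1 : a ≠ op a := fun e => op_ne_self a e.symm
  have h2 : c ≠ op c := fun e => op_ne_self c e.symm
  have h3 : op a ≠ c := fun e => hca' e.symm
  have h4 : a ≠ c := fun e => hca e.symm
  have h5 : op c ≠ op a := fun e => hca (op_injective e)
  have h6 : op c ≠ a := fun e => hca' (by rw [← e, op_op])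
  unfold lxM wlM
  simp only [Matrix.add_mul, Matrix.sub_mul, Matrix.mul_add, Matrix.mul_sub, Matrix.one_mul,
    Matrix.mul_one, Matrix.single_mul_single_same,
    Matrix.single_mul_single_of_ne _ _ _ _ h1, Matrix.single_mul_single_of_ne _ _ _ _ h1.symm,
    Matrix.single_mul_single_of_ne _ _ _ _ h2, Matrix.single_mul_single_of_ne _ _ _ _ h2.symm,
    Matrix.single_mul_single_of_ne _ _ _ _ h3, Matrix.single_mul_single_of_ne _ _ _ _ h3.symm,
    Matrix.single_mul_single_of_ne _ _ _ _ h4, Matrix.single_mul_single_of_ne _ _ _ _ h4.symm,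
    Matrix.single_mul_single_of_ne _ _ _ _ h5, Matrix.single_mul_single_of_ne _ _ _ _ h5.symm,
    Matrix.single_mul_single_of_ne _ _ _ _ h6, Matrix.single_mul_single_of_ne _ _ _ _ h6.symm,
    mul_one, one_mul, sub_zero, add_zero, zero_add, zero_sub]
  obtain ⟨E, hE⟩ : ∃ E : I m → I m → Matrix (I m) (I m) F, ∀ i j (c : F), single i j c = c • E i j :=
    ⟨fun i j => single i j 1, fun i j c => by rw [Matrix.smul_single, smul_eq_mul, mul_one]⟩
  simp only [hE]
  module

/-- `w x_α(t) = x_{-α}(-t) w` at the level of matrices. -/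
theorem wlM_mul_lxM {a c : I m} (h : LxOK a c) (t : F) :
    wlM a c * lxM a c t = lxM c a (-t) * wlM a c := by
  obtain ⟨hca, hca'⟩ := h
  have h1 : a ≠ op a := fun e => op_ne_self a e.symm
  have h2 : c ≠ op c := fun e => op_ne_self c e.symm
  have h3 : op a ≠ c := fun e => hca' e.symm
  have h4 : a ≠ c := fun e => hca e.symm
  have h5 : op c ≠ op a := fun e => hca (op_injective e)
  have h6 : op c ≠ a := fun e => hca' (by rw [← e, op_op])
  unfold lxM wlM
  simp only [Matrix.add_mul, Matrix.sub_mul, Matrix.mul_add, Matrix.mul_sub, Matrix.one_mul,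
    Matrix.mul_one, Matrix.single_mul_single_same,
    Matrix.single_mul_single_of_ne _ _ _ _ h1, Matrix.single_mul_single_of_ne _ _ _ _ h1.symm,
    Matrix.single_mul_single_of_ne _ _ _ _ h2, Matrix.single_mul_single_of_ne _ _ _ _ h2.symm,
    Matrix.single_mul_single_of_ne _ _ _ _ h3, Matrix.single_mul_single_of_ne _ _ _ _ h3.symm,
    Matrix.single_mul_single_of_ne _ _ _ _ h4, Matrix.single_mul_single_of_ne _ _ _ _ h4.symm,
    Matrix.single_mul_single_of_ne _ _ _ _ h5, Matrix.single_mul_single_of_ne _ _ _ _ h5.symm,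
    Matrix.single_mul_single_of_ne _ _ _ _ h6, Matrix.single_mul_single_of_ne _ _ _ _ h6.symm,
    mul_one, one_mul, sub_zero, add_zero, zero_add, zero_sub]
  obtain ⟨E, hE⟩ : ∃ E : I m → I m → Matrix (I m) (I m) F, ∀ i j (c : F), single i j c = c • E i j :=
    ⟨fun i j => single i j 1, fun i j c => by rw [Matrix.smul_single, smul_eq_mul, mul_one]⟩
  simp only [hE]
  module

theorem oppL (hm : 3 ≤ m) {a c : I m} (h : LxOK a c) (t : F) :
    (wl a c)⁻¹ * lx a c t * wl a c = lx c a (-t) := by
  have key : lx a c t * wl a c = wl a c * lx c a (-t) := by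
    apply φ_injective
    rw [map_mul, map_mul, wl_val hm h, lx_val hm h, lx_val hm h.symm]
    exact lxM_mul_wlM h t
  rw [mul_assoc, key, ← mul_assoc, inv_mul_cancel, one_mul]

theorem oppL' (hm : 3 ≤ m) {a c : I m} (h : LxOK a c) (t : F) :
    wl a c * lx a c t * (wl a c)⁻¹ = lx c a (-t) := by
  have key : wl a c * lx a c t = lx c a (-t) * wl a c := by
    apply φ_injective
    rw [map_mul, map_mul, wl_val hm h, lx_val hm h, lx_val hm h.symm]
    exact wlM_mul_lxM h t
  rw [key, mul_assoc, mul_inv_cancel, mul_one]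

end Cfsg.Agent.Lib.Helper89_StOp_OPP
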