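/- Helper27_StOp_Asm: assembly of the Steinberg character of POmega+_(2m)(q) (S2548) from the packages of the market
   stop_packages (architect helper27): RDat for Omega+_(2m) (m >= 3) => BN-pair => Steinberg character; low cases m = 1, 2. -/
import Mathlib
import Cfsg.Agent.Lib.Helper68_StOpDefs
import Cfsg.Agent.Lib.Helper68_StAbs
import Cfsg.Agent.Lib.Helper27_StSU_GENERIC
import Cfsg.Agent.Lib.Helper77_StOo_PGRP
import Cfsg.Agent.Lib.Helper9_StOo_TORUS
import Cfsg.Agent.Lib.Helper27_StOp_R1D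
import Cfsg.Agent.Lib.Helper31_StOp_MID
import Cfsg.Agent.Lib.Helper31_StOp_SQ
import Cfsg.Agent.Lib.Helper31_StOp_SWAP
import Cfsg.Agent.Lib.Helper31_StOp_XB
import Cfsg.Agent.Lib.Helper36_StOp_R1A
import Cfsg.Agent.Lib.Helper36_StOp_R3
import Cfsg.Agent.Lib.Helper55_StOp_INJ
import Cfsg.Agent.Lib.Helper61_StOp_GENB
import Cfsg.Agent.Lib.Helper61_StOp_LOW1
import Cfsg.Agent.Lib.Helper63_StOp_GENA
import Cfsg.Agent.Lib.Helper68_StOp_GEN
import Cfsg.Agent.Lib.Helper68_StOp_LOW2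
import Cfsg.Agent.Lib.Helper70_StOp_JREV
import Cfsg.Agent.Lib.Helper70_StOp_MONOW
import Cfsg.Agent.Lib.Helper79_StOp_CARDB
import Cfsg.Agent.Lib.Helper79_StOp_SIEGB
import Cfsg.Agent.Lib.Helper7_StOp_R2
import Cfsg.Agent.Lib.Helper89_StOp_OPP
import Cfsg.Agent.Lib.Helper20_StOp_DIAGMEM
import Cfsg.Agent.Lib.Helper27_StOp_LOW22

set_option autoImplicit false
set_option linter.unusedSectionVars false
set_option linter.unusedVariables false

namespace Cfsg.Agent.Lib.Helper27_StOp_Asm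

open Matrix Cfsg.Agent.Lib.Helper68_MatGrp Cfsg.Agent.Lib.Helper68_StOpDefs
open Cfsg.Agent.Lib.Helper27_StOp_R1D (r1D)
open Cfsg.Agent.Lib.Helper31_StOp_MID (mid_zero)
open Cfsg.Agent.Lib.Helper31_StOp_SQ (wl_sq)
open Cfsg.Agent.Lib.Helper31_StOp_SWAP (mono_op)
open Cfsg.Agent.Lib.Helper31_StOp_XB (lx_mem_Boo lx_not_mem_Boo)
open Cfsg.Agent.Lib.Helper36_StOp_R1A (r1A)
open Cfsg.Agent.Lib.Helper36_StOp_R3 (r3)
open Cfsg.Agent.Lib.Helper55_StOp_INJ (ss_inj)
open Cfsg.Agent.Lib.Helper61_StOp_GENB (genB)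
open Cfsg.Agent.Lib.Helper61_StOp_LOW1 (steinberg_low1)
open Cfsg.Agent.Lib.Helper63_StOp_GENA (genA)
open Cfsg.Agent.Lib.Helper68_StOp_GEN (sup_eq_top_of_gen)
open Cfsg.Agent.Lib.Helper68_StOp_LOW2 (steinberg_low2)
open Cfsg.Agent.Lib.Helper70_StOp_JREV (exists_rev)
open Cfsg.Agent.Lib.Helper70_StOp_MONOW (wl_isMono)
open Cfsg.Agent.Lib.Helper79_StOp_CARDB (card_UT)
open Cfsg.Agent.Lib.Helper79_StOp_SIEGB (siegel_mem_Boo)
open Cfsg.Agent.Lib.Helper7_StOp_R2 (r2)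
open Cfsg.Agent.Lib.Helper89_StOp_OPP (oppL oppL')
open Cfsg.Agent.Lib.Helper20_StOp_DIAGMEM (exists_diag_Too)
open Cfsg.Agent.Lib.Helper27_StOp_LOW22 (steinberg_low22)

variable {m : ℕ} {F : Type*} [Field F] [Fintype F]

/-! ## ASSEMBLY -/

theorem ss_mem_Moo (hm : 3 ≤ m) (j : Fin m) : (ss j : GO m F) ∈ Moo m F :=
  ⟨_, wl_isMono hm (lxOK_simple (by omega) j)⟩

theorem Noo_le_Moo (hm : 3 ≤ m) : Noo m F ≤ Moo m F := by
  unfold Noo
  apply sup_le
  · rw [Subgroup.closure_le]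
    rintro _ ⟨j, rfl⟩
    exact ss_mem_Moo hm j
  · exact Diag_le_Mono _

theorem Boo_inf_Noo (hm : 3 ≤ m) : Boo m F ⊓ Noo m F = Too m F := by
  apply le_antisymm
  · rintro g ⟨hB, hN⟩
    exact mem_Diag_of_mono_of_UT (φ m F) (ht m) (ht_injective m) (Noo_le_Moo hm hN) hB
  · apply le_inf
    · exact Diag_le_UT _ _
    · exact le_sup_right

theorem sup_eq_top (hm : 3 ≤ m) : Boo m F ⊔ Noo m F = ⊤ :=
  sup_eq_top_of_gen hm (fun a => genA hm a) (genB hm)
    (fun g ⟨v, β, c, hg⟩ => siegel_mem_Boo (by omega) g v β c hg)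

theorem xs_mem_Boo (hm : 3 ≤ m) (j : Fin m) (t : F) : xs j t ∈ Boo m F :=
  lx_mem_Boo hm (lxOK_simple (by omega) j) (ht_simple (by omega) j) t

theorem lxM_apply_ne {a c : I m} (h : LxOK a c) (t : F) : lxM a c t a c = t := by
  unfold lxM
  have hac : a ≠ c := fun e => h.1 e.symm
  have h1 : ¬ (op c = a ∧ op a = c) := fun e => h.2 e.2.symm
  rw [Matrix.sub_apply, Matrix.add_apply, Matrix.one_apply_ne hac, Matrix.single_apply_same,
    Matrix.single_apply, if_neg h1, zero_add, sub_zero]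

theorem xs_eq_one_iff (hm : 3 ≤ m) (j : Fin m) (t : F) : xs j t = 1 ↔ t = 0 := by
  constructor
  · intro h
    have hok := lxOK_simple (m := m) (by omega) j
    have hne : ra j ≠ rc j := fun e => hok.1 e.symm
    have h1 := lxM_apply_ne hok t
    unfold xs at h
    rw [← lx_val (F := F) hm hok, h, map_one, Matrix.one_apply_ne hne] at h1
    exact h1.symm
  · rintro rfl
    exact xs_zero j

/-- variant of `mem_Diag_of_conj_rev` allowing exceptional pairs where the entry vanishes anyway -/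
theorem mem_Diag_of_conj_rev' {ι : Type*} [Fintype ι] [DecidableEq ι] {K : Type*} [Field K]
    {G : Type*} [Group G] (ψ : G →* Matrix ι ι K) (h : ι → ℕ) (hh : Function.Injective h)
    {n : G} {σ : Equiv.Perm ι} (hn : IsMono ψ n σ) {g : G}
    (hrev : ∀ a b, h a < h b → h (σ b) < h (σ a) ∨ ψ g (σ a) (σ b) = 0)
    (hg : g ∈ UT ψ h) (hc : n⁻¹ * g * n ∈ UT ψ h) : g ∈ Diag ψ := by
  rw [← UT_inf_LT ψ h hh]
  refine ⟨hg, ?_⟩
  intro a b hab
  have hab' : h a < h b := hab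
  have h1 := (mem_UT ψ h).1 hc (σ⁻¹ a) (σ⁻¹ b)
  by_cases hlt : h (σ⁻¹ b) < h (σ⁻¹ a)
  · have h2 := h1 hlt
    rw [hn.conj_apply g, perm_apply_inv, perm_apply_inv] at h2
    have hne1 := hn.ne_zero (σ⁻¹ a)
    have hne2 := hn.ne_zero (σ⁻¹ b)
    rw [perm_apply_inv] at hne1 hne2
    rcases mul_eq_zero.mp h2 with h3 | h3
    · rcases mul_eq_zero.mp h3 with h4 | h4
      · exact absurd (inv_eq_zero.mp h4) hne1
      · exact h4
    · exact absurd h3 hne2
  · push Not at hlt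
    rcases lt_or_eq_of_le hlt with h3 | h3
    · rcases hrev _ _ h3 with h4 | h4
      · rw [perm_apply_inv, perm_apply_inv] at h4
        omega
      · rw [perm_apply_inv, perm_apply_inv] at h4
        exact h4
    · have := hh h3
      have : a = b := σ⁻¹.injective this
      rw [this] at hab'
      exact absurd hab' (lt_irrefl _)

/-- the root-subgroup data of `Ω⁺_{2m}(F)`, `m ≥ 3` -/
noncomputable def opRDat (hm : 3 ≤ m) : Cfsg.Agent.Lib.Helper68_StAbs.RDat (GO m F) m where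
  B := Boo m F
  N := Noo m F
  s := ss
  U := Us
  sup_eq_top := sup_eq_top hm
  conj_mem := by
    intro n hn t ht
    rw [Boo_inf_Noo hm] at ht
    exact Diag_le_UT _ _ (conj_mem_Diag (φ m F) (Noo_le_Moo hm hn) ht)
  s_mem := fun j => (le_sup_left : _ ≤ Noo m F) (Subgroup.subset_closure ⟨j, rfl⟩)
  sq_mem := fun j => Diag_le_UT _ _ (wl_sq hm (lxOK_simple (by omega) j))
  inj := ss_inj hm
  closure_sup := by
    rw [Boo_inf_Noo hm]
    rfl
  U_le := by
    rintro j _ ⟨t, rfl⟩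
    exact xs_mem_Boo hm j t
  r1 := by
    intro j b hb
    by_cases h : j.val + 1 < m
    · obtain ⟨t, ht⟩ := r1A hm j ⟨j.val + 1, h⟩ rfl b hb
      refine ⟨xs j t, ⟨t, rfl⟩, ?_⟩
      unfold xs ss
      rw [ra_of_lt j h, rc_of_lt j h]
      exact ht
    · have hj := j.2
      obtain ⟨t, ht⟩ := r1D hm (pred j) j (by simp only [pred]; omega) (by omega) b hb
      refine ⟨xs j t, ⟨t, rfl⟩, ?_⟩
      unfold xs ss
      rw [ra_of_not_lt j h, rc_of_not_lt j h]
      exact ht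
  r2 := by
    intro j n hn
    obtain ⟨σ, hσ⟩ := Noo_le_Moo hm hn
    have hsw := mono_op hσ
    have hok := lxOK_simple (m := m) (by omega) j
    rcases r2 hm hok n σ hσ hsw with h1 | h1
    · left
      rintro _ ⟨t, rfl⟩
      exact h1 t
    · right
      rintro _ ⟨t, rfl⟩
      unfold xs ss
      rw [oppL hm hok]
      exact h1 (-t)
  r3 := by
    rintro j _ ⟨t, rfl⟩ hu
    have ht : t ≠ 0 := fun h0 => hu ((xs_eq_one_iff hm j t).2 h0)
    obtain ⟨b, hb, t', e⟩ := r3 hm (lxOK_simple (by omega) j) (ht_simple (by omega) j) t ht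
    exact ⟨b, hb, xs j t', ⟨t', rfl⟩, e⟩
  r4 := by
    intro j
    refine ⟨xs j 1, ⟨1, rfl⟩, ?_⟩
    unfold xs ss
    rw [oppL' hm (lxOK_simple (by omega) j)]
    exact lx_not_mem_Boo hm (lxOK_simple (by omega) j) (ht_simple (by omega) j) (-1) (by simp)

/-- **The Steinberg character of `PΩ⁺_{2m}(F)`**, `m ≥ 3`. -/
theorem exists_steinberg_high (p : ℕ) [Fact p.Prime] [CharP F p] (hm : 3 ≤ m) :
    ∃ χ : Cfsg.POmega F (⇑(QP m F)) → ℂ,
      Cfsg.IsIrrCharacter (Cfsg.POmega F (⇑(QP m F))) χ ∧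
      ∀ P : Sylow p (Cfsg.POmega F (⇑(QP m F))), χ 1 = Nat.card P ∧
        ∀ x : Cfsg.POmega F (⇑(QP m F)), x ∈ P → x ≠ 1 → χ x = 0 := by
  classical
  have hp : p.Prime := Fact.out
  have hfin : Finite (GO m F) := Subtype.finite
  obtain ⟨g₀, σ, hg₀, hrev⟩ := exists_rev (m := m) (F := F) hm
  obtain ⟨k, hk⟩ := (Cfsg.Agent.Lib.Helper77_StOo_PGRP.isPGroup_UU (φ m F) φ_injective (ht m)
    (ht_injective m) p).exists_card_eq
  have hBT : Nat.card ((opRDat (F := F) hm).B) =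
      Nat.card ↥((opRDat (F := F) hm).B ⊓ (opRDat (F := F) hm).N) * p ^ k := by
    show Nat.card (Boo m F) = Nat.card ↥(Boo m F ⊓ Noo m F) * _
    rw [Boo_inf_Noo hm, ← hk]
    exact card_UT (φ m F) φ_injective (ht m) (ht_injective m) (exists_diag_Too hm)
  have hT : ¬ p ∣ Nat.card ↥((opRDat (F := F) hm).B ⊓ (opRDat (F := F) hm).N) := by
    show ¬ p ∣ Nat.card ↥(Boo m F ⊓ Noo m F)
    rw [Boo_inf_Noo hm]
    exact Cfsg.Agent.Lib.Helper9_StOo_TORUS.not_dvd_card_Diag (φ m F) φ_injective p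
  refine Cfsg.Agent.Lib.Helper68_StAbs.exists_steinberg (opRDat (F := F) hm) p k hBT
    g₀ ?_ (Cfsg.Agent.Lib.Helper27_StSU_GENERIC.hG_of_hBT (opRDat (F := F) hm) p k hBT hT)
    (Subgroup.center _) le_rfl (Cfsg.Agent.Lib.Helper27_StSU_GENERIC.center_le_B (opRDat (F := F) hm))
  · intro b hb hc
    have hD : b ∈ Too m F := by
      apply mem_Diag_of_conj_rev' (φ m F) (ht m) (ht_injective m) hg₀ _ hb hc
      intro a c hac
      rcases hrev a c hac with h1 | ⟨i, hi, h1, h2⟩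
      · left; exact h1
      · right
        rw [h1, h2]
        exact mid_zero i hi b.1 hb
    exact (le_sup_right : Too m F ≤ Noo m F) hD

/-- **The Steinberg character of `PΩ⁺_{2m}(F)`** (S2548). -/
theorem exists_steinberg_pomega_plus (p : ℕ) [Fact p.Prime] [CharP F p] (hm : 1 ≤ m) :
    ∃ χ : Cfsg.POmega F (Cfsg.quadFormPlus m F) → ℂ,
      Cfsg.IsIrrCharacter (Cfsg.POmega F (Cfsg.quadFormPlus m F)) χ ∧
      ∀ P : Sylow p (Cfsg.POmega F (Cfsg.quadFormPlus m F)), χ 1 = Nat.card P ∧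
        ∀ x : Cfsg.POmega F (Cfsg.quadFormPlus m F), x ∈ P → x ≠ 1 → χ x = 0 := by
  by_cases h3 : 3 ≤ m
  · have h := exists_steinberg_high (F := F) p h3
    rw [Cfsg.Agent.Lib.Helper44_StdForms.coe_qfPlus] at h
    exact h
  · have h12 : m = 1 ∨ m = 2 := by omega
    rcases h12 with rfl | rfl
    · exact steinberg_low1 p
    · by_cases hF : 3 ≤ Fintype.card F
      · exact steinberg_low2 p hF
      · have h1 : 1 < Fintype.card F := Fintype.one_lt_card
        exact steinberg_low22 p (by omega)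

end Cfsg.Agent.Lib.Helper27_StOp_Asm
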