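/-
S4613 market (architect helper68), package POP: `AutUTrivial p (PΩ⁺_{2m}(F))`, `m ≥ 4` (proved for `m ≥ 3`).
Variant `autU_of_matgrp'` of `Helper68_AutU.autU_of_matgrp` (condition (r5) and the opposite element as direct
hypotheses: for type `D_m` the inversion set of the last simple reflection is not convex, and the
height-reversing monomial element has an exceptional middle pair), then the instantiation at
`Helper27_StOp_Asm.opRDat`.  (helper17)
-/
import Mathlib
import Cfsg.Agent.Lib.Helper68_AutUMat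
import Cfsg.Agent.Lib.Helper27_StOp_Asm

set_option autoImplicit false
set_option linter.unusedSectionVars false
set_option linter.unusedVariables false
set_option linter.unusedSimpArgs false

namespace Cfsg.Agent.Lib.Helper17_S4613_POP

open Cfsg Cfsg.Agent.Lib.Helper6_BNPair Cfsg.Agent.Lib.Helper68_MatGrp Cfsg.Agent.Lib.Helper68_StAbs
open Cfsg.Agent.Lib.Helper68_AutU
open Matrix

section main

variable {ι : Type*} [Fintype ι] [DecidableEq ι] {F : Type*} [Field F]
variable {G : Type*} [Group G] [Finite G] {p : ℕ} [Fact p.Prime] [CharP F p] {r : ℕ}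

/-- variant of `autU_of_matgrp`: condition (r5) and the opposite element are direct hypotheses -/
theorem autU_of_matgrp' (φ : G →* Matrix ι ι F) (hφ : Function.Injective φ) (ht : ι → ℕ)
    (hht : Function.Injective ht) (D : RDat G r)
    (hB : D.B = UT φ ht) (hT : D.B ⊓ D.N = Diag φ)
    (hdiag : ∀ b ∈ UT φ ht, ∃ t ∈ Diag φ, ∀ a, φ t a a = φ b a a)
    (T_p' : ¬ p ∣ Nat.card ↥(Diag φ))
    (X_le : ∀ i, D.U i ≤ UU φ ht hht)
    (r5 : ∀ i j, j ≠ i → ∀ u ∈ D.U i, ∀ x ∈ D.U j,
      D.s i * (u * x * u⁻¹) * (D.s i)⁻¹ ∈ UT φ ht)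
    (htorus : ∀ t ∈ Diag φ, (∀ u ∈ UU φ ht hht, t * u = u * t) → ∀ a b, φ t a a = φ t b b)
    (g₀ : G) (hopp : ∀ b ∈ UT φ ht, g₀⁻¹ * b * g₀ ∈ UT φ ht → b ∈ Diag φ) :
    AutUTrivial p (G ⧸ Subgroup.center G) := by
  have hUp : IsPGroup p (UU φ ht hht) :=
    Cfsg.Agent.Lib.Helper77_StOo_PGRP.isPGroup_UU φ hφ ht hht p
  have hUle : UU φ ht hht ≤ D.B := by rw [hB]; exact UU_le_UT φ ht hht
  have hUn : ∀ b ∈ D.B, ∀ u ∈ UU φ ht hht, b * u * b⁻¹ ∈ UU φ ht hht := by
    intro b hb u hu
    rw [hB] at hb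
    exact UT_conj_mem_UU φ ht hht hb hu
  have hBUT : ∀ b ∈ D.B, ∃ u ∈ UU φ ht hht, ∃ t ∈ D.B ⊓ D.N, b = u * t := by
    intro b hb
    rw [hB] at hb
    obtain ⟨t, htD, hd⟩ := hdiag b hb
    have h1 := inv_mul_mem_UU φ ht hht hb htD hd
    have htU : t ∈ UT φ ht := Diag_le_UT φ ht htD
    refine ⟨t * (t⁻¹ * b) * t⁻¹, UT_conj_mem_UU φ ht hht htU h1, t, by rw [hT]; exact htD, by group⟩
  have hTp : ¬ p ∣ Nat.card ↥(D.B ⊓ D.N) := by rw [hT]; exact T_p'
  have hidx : ¬ p ∣ (UU φ ht hht).index :=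
    index_of_BUT (bnPair D) (UU φ ht hht) hUle hUp hBUT hTp
  intro α hα Q hfix
  refine aut_eq_one_of_rdat D (UU φ ht hht) hUle hUn hUp hidx hBUT hTp X_le ?_ ?_ ?_
    (QuotientGroup.mk' (Subgroup.center G)) (QuotientGroup.mk'_surjective _)
    (QuotientGroup.ker_mk' _) α hα Q hfix
  · -- r5
    intro i j hji u hu x hx
    rw [hB]
    exact r5 i j hji u hu x hx
  · -- torus
    intro t ht' hcomm
    rw [hT] at ht'
    exact mem_center_of_const_diag φ hφ ht' (htorus t ht' hcomm)
  · -- centre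
    apply center_U_of_opp (bnPair D) (UU φ ht hht) hUp hUle hTp g₀
    intro b hb hc
    have hb' : b ∈ UT φ ht := by rw [← hB]; exact hb
    have hc' : g₀⁻¹ * b * g₀ ∈ UT φ ht := by rw [← hB]; exact hc
    have hD : b ∈ Diag φ := hopp b hb' hc'
    have : b ∈ D.B ⊓ D.N := by rw [hT]; exact hD
    exact this.2

end main

section comb

open Cfsg.Agent.Lib.Helper68_StOpDefs Cfsg.Agent.Lib.Helper27_StOp_Asm

variable {m : ℕ}

/-- the transposition of two natural numbers -/
def swapN (p q h : ℕ) : ℕ := if h = p then q else if h = q then p else h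

theorem swapN_cases (p q h : ℕ) :
    (h = p ∧ swapN p q h = q) ∨ (h ≠ p ∧ h = q ∧ swapN p q h = p) ∨
      (h ≠ p ∧ h ≠ q ∧ swapN p q h = h) := by
  unfold swapN
  by_cases h1 : h = p
  · left; exact ⟨h1, if_pos h1⟩
  · by_cases h2 : h = q
    · right; left; exact ⟨h1, h2, by rw [if_neg h1, if_pos h2]⟩
    · right; right; exact ⟨h1, h2, by rw [if_neg h1, if_neg h2]⟩

set_option maxHeartbeats 1600000 in
/-- a simple reflection of type `D_M` preserves the order of the matrix positions of the other simple roots -/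
theorem sw_lt (M p q b d : ℕ) (hM : 3 ≤ M)
    (hi : (q = p + 1 ∧ q < M) ∨ (p + 2 = M ∧ q = M))
    (hj : (d = b + 1 ∧ d < M) ∨ (b + 2 = M ∧ d = M) ∨ (d = b + 1 ∧ M ≤ b ∧ d < 2 * M) ∨
      (b + 1 = M ∧ d = M + 1))
    (hne1 : ¬ (b = p ∧ d = q)) (hne2 : ¬ (b = 2 * M - 1 - q ∧ d = 2 * M - 1 - p)) :
    swapN p q (swapN (2 * M - 1 - p) (2 * M - 1 - q) b) <
      swapN p q (swapN (2 * M - 1 - p) (2 * M - 1 - q) d) := by
  obtain h1 := swapN_cases (2 * M - 1 - p) (2 * M - 1 - q) b
  obtain h2 := swapN_cases (2 * M - 1 - p) (2 * M - 1 - q) d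
  generalize swapN (2 * M - 1 - p) (2 * M - 1 - q) b = y1 at *
  generalize swapN (2 * M - 1 - p) (2 * M - 1 - q) d = y2 at *
  obtain h3 := swapN_cases p q y1
  obtain h4 := swapN_cases p q y2
  generalize swapN p q y1 = z1 at *
  generalize swapN p q y2 = z2 at *
  rcases hi with hi | hi <;> rcases hj with hj | hj | hj | hj <;>
  rcases h1 with h1 | h1 | h1 <;> rcases h2 with h2 | h2 | h2 <;>
  rcases h3 with h3 | h3 | h3 <;> rcases h4 with h4 | h4 | h4 <;> omega

/-- a reflection in an adjacent pair moves every height by at most one -/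
theorem sw_adj (M p q h : ℕ) (hq : q = p + 1) (hqM : q < M) :
    swapN p q (swapN (2 * M - 1 - p) (2 * M - 1 - q) h) ≤ h + 1 ∧
      h ≤ swapN p q (swapN (2 * M - 1 - p) (2 * M - 1 - q) h) + 1 := by
  obtain h1 := swapN_cases (2 * M - 1 - p) (2 * M - 1 - q) h
  generalize swapN (2 * M - 1 - p) (2 * M - 1 - q) h = y1 at *
  obtain h3 := swapN_cases p q y1
  generalize swapN p q y1 = z1 at *
  rcases h1 with h1 | h1 | h1 <;> rcases h3 with h3 | h3 | h3 <;> omega

/-- the reversal of the middle block of four heights -/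
theorem sw_block (M h : ℕ) (hM : 2 ≤ M) :
    swapN (M - 2) (M + 1) (swapN (M - 1) M h) =
      if M - 2 ≤ h ∧ h ≤ M + 1 then 2 * M - 1 - h else h := by
  obtain h1 := swapN_cases (M - 1) M h
  generalize swapN (M - 1) M h = y1 at *
  obtain h3 := swapN_cases (M - 2) (M + 1) y1
  generalize swapN (M - 2) (M + 1) y1 = z1 at *
  split_ifs with hc
  · rcases h1 with h1 | h1 | h1 <;> rcases h3 with h3 | h3 | h3 <;> omega
  · rcases h1 with h1 | h1 | h1 <;> rcases h3 with h3 | h3 | h3 <;> omega

/-- the inversions of the last simple reflection lie in the middle block -/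
theorem sw_last (M a b : ℕ) (hM : 3 ≤ M) (hab : a < b)
    (h : swapN (M - 2) M (swapN (2 * M - 1 - (M - 2)) (2 * M - 1 - M) b) <
      swapN (M - 2) M (swapN (2 * M - 1 - (M - 2)) (2 * M - 1 - M) a)) :
    M - 2 ≤ a ∧ b ≤ M + 1 := by
  obtain h1 := swapN_cases (2 * M - 1 - (M - 2)) (2 * M - 1 - M) b
  obtain h2 := swapN_cases (2 * M - 1 - (M - 2)) (2 * M - 1 - M) a
  generalize swapN (2 * M - 1 - (M - 2)) (2 * M - 1 - M) b = y1 at *
  generalize swapN (2 * M - 1 - (M - 2)) (2 * M - 1 - M) a = y2 at *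
  obtain h3 := swapN_cases (M - 2) M y1
  obtain h4 := swapN_cases (M - 2) M y2
  generalize swapN (M - 2) M y1 = z1 at *
  generalize swapN (M - 2) M y2 = z2 at *
  rcases h1 with h1 | h1 | h1 <;> rcases h2 with h2 | h2 | h2 <;>
  rcases h3 with h3 | h3 | h3 <;> rcases h4 with h4 | h4 | h4 <;> omega

theorem ht_swap (a c x : I m) :
    ht m (Equiv.swap a c x) = swapN (ht m a) (ht m c) (ht m x) := by
  unfold swapN
  by_cases h1 : x = a
  · subst h1
    rw [Equiv.swap_apply_left, if_pos rfl]
  · by_cases h2 : x = c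
    · subst h2
      rw [Equiv.swap_apply_right, if_neg (fun e => h1 (ht_injective m e)), if_pos rfl]
    · rw [Equiv.swap_apply_of_ne_of_ne h1 h2, if_neg (fun e => h1 (ht_injective m e)),
        if_neg (fun e => h2 (ht_injective m e))]

/-- the permutation of the `j`-th simple reflection -/
def sg (j : Fin m) : Equiv.Perm (I m) :=
  Equiv.swap (ra j) (rc j) * Equiv.swap (op (ra j)) (op (rc j))

theorem ht_sg (j : Fin m) (x : I m) :
    ht m (sg j x) = swapN (ht m (ra j)) (ht m (rc j))
      (swapN (2 * m - 1 - ht m (ra j)) (2 * m - 1 - ht m (rc j)) (ht m x)) := by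
  unfold sg
  rw [Equiv.Perm.mul_apply, ht_swap, ht_swap, ht_op, ht_op]

/-- the heights of the simple roots -/
theorem ht_ra_rc (j : Fin m) :
    (j.val + 1 < m ∧ ht m (ra j) = j.val ∧ ht m (rc j) = j.val + 1) ∨
      (j.val + 1 = m ∧ ht m (ra j) = m - 2 ∧ ht m (rc j) = m) := by
  have hj := j.2
  by_cases h : j.val + 1 < m
  · left
    refine ⟨h, ?_, ?_⟩
    · rw [ra_of_lt j h, ht_ie]
    · rw [rc_of_lt j h, ht_ie]
  · right
    refine ⟨by omega, ?_, ?_⟩
    · rw [ra_of_not_lt j h, ht_ie]
      simp only [pred]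
      omega
    · rw [rc_of_not_lt j h, ht_jf]
      omega

/-- a simple reflection maps the other simple roots to positive roots (matrix positions) -/
theorem sg_pos (hm : 3 ≤ m) (i j : Fin m) (hji : j ≠ i) :
    ht m (sg i (ra j)) < ht m (sg i (rc j)) ∧
      ht m (sg i (op (rc j))) < ht m (sg i (op (ra j))) := by
  have hij : j.val ≠ i.val := fun e => hji (Fin.ext e)
  have hi := i.2
  have hj := j.2
  rw [ht_sg, ht_sg, ht_sg, ht_sg, ht_op, ht_op]
  have Hi := ht_ra_rc i
  have Hj := ht_ra_rc j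
  constructor
  · apply sw_lt m _ _ _ _ hm <;> omega
  · apply sw_lt m _ _ _ _ hm <;> omega

end comb

section inst

open Cfsg.Agent.Lib.Helper68_StOpDefs Cfsg.Agent.Lib.Helper27_StOp_Asm

variable {m : ℕ} {F : Type*} [Field F] [Fintype F]

theorem lxM_diag {a c : I m} (h : LxOK a c) (t : F) (x : I m) : lxM a c t x x = 1 := by
  unfold lxM
  have h1 : ¬ (a = x ∧ c = x) := fun e => h.1 (e.2.trans e.1.symm)
  have h2 : ¬ (op c = x ∧ op a = x) := fun e => h.1 (op_injective (e.1.trans e.2.symm))
  rw [Matrix.sub_apply, Matrix.add_apply, Matrix.one_apply_eq, Matrix.single_apply,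
    Matrix.single_apply, if_neg h1, if_neg h2, add_zero, sub_zero]

/-- positive root elements are unitriangular -/
theorem lx_mem_UU (hm : 3 ≤ m) {a c : I m} (h : LxOK a c) (hlt : ht m a < ht m c) (t : F) :
    lx a c t ∈ UU (φ m F) (ht m) (ht_injective m) := by
  refine ⟨Cfsg.Agent.Lib.Helper31_StOp_XB.lx_mem_Boo hm h hlt t, fun x => ?_⟩
  rw [lx_val hm h, lxM_diag h]

theorem xs_mem_UU (hm : 3 ≤ m) (j : Fin m) (t : F) :
    xs j t ∈ UU (φ m F) (ht m) (ht_injective m) :=
  lx_mem_UU hm (lxOK_simple (by omega) j) (ht_simple (by omega) j) t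

theorem xs_apply_eq_zero (hm : 3 ≤ m) (j : Fin m) (t : F) (a b : I m) (hab : a ≠ b)
    (h1 : ¬ (a = ra j ∧ b = rc j)) (h2 : ¬ (a = op (rc j) ∧ b = op (ra j))) :
    φ m F (xs j t) a b = 0 := by
  unfold xs
  rw [lx_val hm (lxOK_simple (by omega) j)]
  exact Cfsg.Agent.Lib.Helper7_StOp_R2.lxM_off _ _ _ _ _ hab h1 h2

theorem ss_isMono (hm : 3 ≤ m) (i : Fin m) : IsMono (φ m F) (ss i) (sg i) :=
  Cfsg.Agent.Lib.Helper70_StOp_MONOW.wl_isMono hm (lxOK_simple (by omega) i)

/-- the elements of the other simple root subgroups vanish on the inversions of `s_i` -/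
theorem xs_vanish (hm : 3 ≤ m) (i j : Fin m) (hji : j ≠ i) (t : F) (a b : I m)
    (hab : IsInv (ht m) (sg i) a b) : φ m F (xs j t) a b = 0 := by
  obtain ⟨h1, h2⟩ := hab
  obtain ⟨p1, p2⟩ := sg_pos hm i j hji
  apply xs_apply_eq_zero hm j t a b
  · intro e; rw [e] at h1; exact lt_irrefl _ h1
  · rintro ⟨rfl, rfl⟩
    omega
  · rintro ⟨rfl, rfl⟩
    omega

/-- two root elements `x_{ε_a - ε_c}`, `x_{ε_a + ε_c}` commute -/
theorem lxM_comm {a c : I m} (h : LxOK a c) (t t' : F) :
    lxM a c t * lxM a (op c) t' = lxM a (op c) t' * lxM a c t := by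
  obtain ⟨hca, hca'⟩ := h
  have h1 : a ≠ op a := fun e => op_ne_self a e.symm
  have h2 : c ≠ op c := fun e => op_ne_self c e.symm
  have h3 : op a ≠ c := fun e => hca' e.symm
  have h4 : a ≠ c := fun e => hca e.symm
  have h5 : op c ≠ op a := fun e => hca (op_injective e)
  have h6 : op c ≠ a := fun e => hca' (by rw [← e, op_op])
  unfold lxM
  simp only [op_op, Matrix.add_mul, Matrix.sub_mul, Matrix.mul_add, Matrix.mul_sub, Matrix.one_mul,
    Matrix.mul_one, Matrix.single_mul_single_same,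
    Matrix.single_mul_single_of_ne _ _ _ _ h1, Matrix.single_mul_single_of_ne _ _ _ _ h1.symm,
    Matrix.single_mul_single_of_ne _ _ _ _ h2, Matrix.single_mul_single_of_ne _ _ _ _ h2.symm,
    Matrix.single_mul_single_of_ne _ _ _ _ h3, Matrix.single_mul_single_of_ne _ _ _ _ h3.symm,
    Matrix.single_mul_single_of_ne _ _ _ _ h4, Matrix.single_mul_single_of_ne _ _ _ _ h4.symm,
    Matrix.single_mul_single_of_ne _ _ _ _ h5, Matrix.single_mul_single_of_ne _ _ _ _ h5.symm,
    Matrix.single_mul_single_of_ne _ _ _ _ h6, Matrix.single_mul_single_of_ne _ _ _ _ h6.symm,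
    sub_zero, zero_sub, add_zero, zero_add, mul_comm t t']
  abel

/-- the last two simple root elements commute -/
theorem xs_comm_last (hm : 3 ≤ m) (i j : Fin m) (hi : i.val + 1 = m) (hj : j.val + 2 = m) (t t' : F) :
    xs i t * xs j t' = xs j t' * xs i t := by
  have hi' : ¬ i.val + 1 < m := by omega
  have hj' : j.val + 1 < m := by omega
  have hpred : pred i = j := by
    apply Fin.ext
    simp only [pred]
    omega
  have hsucc : (⟨j.val + 1, hj'⟩ : Fin m) = i := by
    apply Fin.ext
    simp only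
    omega
  have hok : LxOK (ie j) (jf i) := by
    have := lxOK_simple (m := m) (by omega) i
    rw [ra_of_not_lt i hi', rc_of_not_lt i hi', hpred] at this
    exact this
  have hok' : LxOK (ie j) (ie i) := by
    have := lxOK_simple (m := m) (by omega) j
    rw [ra_of_lt j hj', rc_of_lt j hj', hsucc] at this
    exact this
  apply φ_injective
  unfold xs
  rw [map_mul, map_mul, ra_of_not_lt i hi', rc_of_not_lt i hi', ra_of_lt j hj', rc_of_lt j hj',
    hpred, hsucc, lx_val hm hok, lx_val hm hok']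
  have h := lxM_comm hok t t'
  rw [op_jf] at h
  exact h

/-- condition (r5) for `Ω⁺_{2m}` -/
theorem r5_op (hm : 3 ≤ m) (i j : Fin m) (hji : j ≠ i) (u : GO m F) (hu : u ∈ Us i)
    (x : GO m F) (hx : x ∈ Us j) :
    ss i * (u * x * u⁻¹) * (ss i)⁻¹ ∈ UT (φ m F) (ht m) := by
  obtain ⟨t, rfl⟩ := hu
  obtain ⟨t', rfl⟩ := hx
  have hσ := ss_isMono (F := F) hm i
  have huU := xs_mem_UU (F := F) hm i t
  have hxU := xs_mem_UU (F := F) hm j t'
  have hvan := xs_vanish (F := F) hm i j hji t'
  have hmem : xs i t * xs j t' * (xs i t)⁻¹ ∈ UT (φ m F) (ht m) :=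
    (UT _ _).mul_mem ((UT _ _).mul_mem huU.1 hxU.1) ((UT _ _).inv_mem huU.1)
  rcases ht_ra_rc i with ⟨hi1, hi2, hi3⟩ | ⟨hi1, hi2, hi3⟩
  · -- adjacent transposition: convex inversion set
    have hconv : InvConvex (ht m) (sg i) := by
      apply invConvex_of_adjacent (ht m) (ht_injective m)
      intro a
      rw [ht_sg, hi2, hi3]
      exact sw_adj m _ _ _ rfl hi1
    apply mono_conj_mem_UT (φ m F) (ht m) (ht_injective m) hσ hmem
    exact conj_vanish (φ m F) (ht m) (ht_injective m) huU.1 hxU (sg i) hconv hvan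
  · by_cases hj2 : j.val + 2 = m
    · -- the two last nodes: the root elements commute
      have hcomm := xs_comm_last (F := F) hm i j hi1 hj2 t t'
      have e : xs i t * xs j t' * (xs i t)⁻¹ = xs j t' := by
        rw [hcomm]; group
      rw [e]
      exact mono_conj_mem_UT (φ m F) (ht m) (ht_injective m) hσ hxU.1 hvan
    · -- the block reversal has a convex inversion set containing that of `s_i`
      have hij : j.val ≠ i.val := fun e => hji (Fin.ext e)
      have hjlt : j.val + 2 < m := by have := j.2; omega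
      let τ : Equiv.Perm (I m) := Equiv.swap (ie (pred i)) (jf (pred i)) * Equiv.swap (ie i) (jf i)
      have hτht : ∀ y, ht m (τ y) =
          if m - 2 ≤ ht m y ∧ ht m y ≤ m + 1 then 2 * m - 1 - ht m y else ht m y := by
        intro y
        show ht m ((Equiv.swap (ie (pred i)) (jf (pred i)) * Equiv.swap (ie i) (jf i)) y) = _
        rw [Equiv.Perm.mul_apply, ht_swap, ht_swap, ht_ie, ht_jf, ht_ie, ht_jf]
        have e1 : (pred i).val = m - 2 := by simp only [pred]; omega
        have e3 : i.val = m - 1 := by omega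
        have e2 : 2 * m - 1 - (m - 2) = m + 1 := by omega
        have e4 : 2 * m - 1 - (m - 1) = m := by omega
        rw [e1, e3, e2, e4]
        exact sw_block m _ (by omega)
      have hτ : ∀ a b, IsInv (ht m) τ a b ↔
          (m - 2 ≤ ht m a ∧ ht m a < ht m b ∧ ht m b ≤ m + 1) := by
        intro a b
        unfold IsInv
        rw [hτht a, hτht b]
        constructor
        · rintro ⟨h1, h2⟩
          split_ifs at h2 <;> omega
        · rintro ⟨h1, h2, h3⟩
          refine ⟨h2, ?_⟩
          rw [if_pos ⟨by omega, h3⟩, if_pos ⟨h1, by omega⟩]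
          omega
      have hconv : InvConvex (ht m) τ := by
        intro a b hab c d hac hcd hdb
        rw [hτ] at hab ⊢
        omega
      have hvanτ : ∀ a b, IsInv (ht m) τ a b → φ m F (xs j t') a b = 0 := by
        intro a b hab
        rw [hτ] at hab
        have hj1 : j.val + 1 < m := by omega
        apply xs_apply_eq_zero hm j t' a b
        · intro e; rw [e] at hab; omega
        · rintro ⟨rfl, rfl⟩
          rw [ra_of_lt j hj1, rc_of_lt j hj1, ht_ie, ht_ie] at hab
          simp only at hab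
          omega
        · rintro ⟨rfl, rfl⟩
          rw [ra_of_lt j hj1, rc_of_lt j hj1, op_ie, op_ie, ht_jf, ht_jf] at hab
          simp only at hab
          omega
      have h1 := conj_vanish (φ m F) (ht m) (ht_injective m) huU.1 hxU τ hconv hvanτ
      apply mono_conj_mem_UT (φ m F) (ht m) (ht_injective m) hσ hmem
      intro a b hab
      apply h1
      rw [hτ]
      obtain ⟨hab1, hab2⟩ := hab
      rw [ht_sg, ht_sg, hi2, hi3] at hab2
      have := sw_last m _ _ hm hab1 hab2
      omega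

/-- a diagonal element commuting with the unitriangular elements has constant diagonal -/
theorem torus_op (hm : 3 ≤ m) (t : GO m F) (ht' : t ∈ Diag (φ m F))
    (hcomm : ∀ u ∈ UU (φ m F) (ht m) (ht_injective m), t * u = u * t) (a b : I m) :
    φ m F t a a = φ m F t b b := by
  -- positive root elements
  have hroot : ∀ a c : I m, LxOK a c → ht m a < ht m c → φ m F t a a = φ m F t c c := by
    intro a c h hlt
    apply diag_eq_of_commute (φ m F) ht' (hcomm _ (lx_mem_UU hm h hlt 1)) a c
    rw [lx_val hm h, lxM_apply_ne h]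
    exact one_ne_zero
  have hok : ∀ a c : I m, LxOK a c → φ m F t a a = φ m F t c c := by
    intro a c h
    rcases lt_trichotomy (ht m a) (ht m c) with h1 | h1 | h1
    · exact hroot a c h h1
    · exact absurd (ht_injective m h1).symm h.1
    · exact (hroot c a h.symm h1).symm
  by_cases hab : b = a
  · rw [hab]
  by_cases hab' : b = op a
  · -- a third index
    obtain ⟨c, hc1, hc2⟩ : ∃ c : I m, c ≠ a ∧ c ≠ op a := by
      obtain ⟨k, hk⟩ : ∃ k : Fin m, ie k ≠ a ∧ jf k ≠ a := by
        rcases index_cases a with ⟨i, rfl⟩ | ⟨i, rfl⟩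
        · by_cases h0 : i.val = 0
          · refine ⟨⟨1, by omega⟩, ?_, fun e => ie_ne_jf _ _ e.symm⟩
            intro e
            have := congrArg Fin.val (ie_injective e)
            simp only at this
            omega
          · refine ⟨⟨0, by omega⟩, ?_, fun e => ie_ne_jf _ _ e.symm⟩
            intro e
            have := congrArg Fin.val (ie_injective e)
            simp only at this
            omega
        · by_cases h0 : i.val = 0
          · refine ⟨⟨1, by omega⟩, fun e => ie_ne_jf _ _ e, ?_⟩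
            intro e
            have := congrArg Fin.val (jf_injective e)
            simp only at this
            omega
          · refine ⟨⟨0, by omega⟩, fun e => ie_ne_jf _ _ e, ?_⟩
            intro e
            have := congrArg Fin.val (jf_injective e)
            simp only at this
            omega
      refine ⟨ie k, hk.1, ?_⟩
      intro e
      apply hk.2
      rw [← op_op a, ← e, op_ie]
    have h1 : LxOK a c := ⟨hc1, hc2⟩
    have h2 : LxOK (op a) c := ⟨hc2, by rw [op_op]; exact hc1⟩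
    rw [hab', hok a c h1, hok (op a) c h2]
  · exact hok a b ⟨hab, hab'⟩

/-- **POP**, on the model `Ω⁺_{2m}(F) / Z`, `m ≥ 3` -/
theorem autU_high {p : ℕ} [Fact p.Prime] [CharP F p] (hm : 3 ≤ m) :
    AutUTrivial p (Cfsg.POmega F (⇑(QP m F))) := by
  classical
  have hfin : Finite (GO m F) := Subtype.finite
  obtain ⟨g₀, σ, hg₀, hrev⟩ := Cfsg.Agent.Lib.Helper70_StOp_JREV.exists_rev (m := m) (F := F) hm
  refine autU_of_matgrp' (p := p) (φ m F) φ_injective (ht m) (ht_injective m) (opRDat (F := F) hm)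
    rfl (Boo_inf_Noo hm) (fun b hb => Cfsg.Agent.Lib.Helper20_StOp_DIAGMEM.exists_diag_Too hm b hb)
    (Cfsg.Agent.Lib.Helper9_StOo_TORUS.not_dvd_card_Diag (φ m F) φ_injective p)
    ?_ ?_ (fun t ht' hcomm a b => torus_op hm t ht' hcomm a b) g₀ ?_
  · rintro j _ ⟨t, rfl⟩
    exact xs_mem_UU hm j t
  · intro i j hji u hu x hx
    exact r5_op hm i j hji u hu x hx
  · intro b hb hc
    apply mem_Diag_of_conj_rev' (φ m F) (ht m) (ht_injective m) hg₀ _ hb hc
    intro a c hac
    rcases hrev a c hac with h1 | ⟨i, hi, h1, h2⟩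
    · left; exact h1
    · right
      rw [h1, h2]
      exact Cfsg.Agent.Lib.Helper31_StOp_MID.mid_zero i hi b.1 hb

end inst

/-- **POP** (verbatim statement of the S4613 package) -/
theorem autU_pomega_plus {F : Type} [Field F] [Fintype F] {p : ℕ} [Fact p.Prime] [CharP F p] (m : ℕ)
    (hm : 4 ≤ m) :
    AutUTrivial p (POmega F (quadFormPlus m F)) := by
  have h := autU_high (F := F) (p := p) (m := m) (by omega)
  rw [Cfsg.Agent.Lib.Helper44_StdForms.coe_qfPlus] at h
  exact h

end Cfsg.Agent.Lib.Helper17_S4613_POP
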