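import Mathlib

set_option autoImplicit false

/-!
Scaling the roots of polynomials: characteristic polynomial of a scalar multiple, the scaling
action of the `r`-th roots of unity on the monic polynomials all of whose irreducible factors
divide `X ^ r - 1`, and the number of its orbits (Burnside).
-/

namespace Cfsg.Agent.Lib.Helper40_ScalePoly

open Polynomial Matrix

universe v

variable {K : Type v} [Field K] {n : ℕ}

/-- the characteristic polynomial of a scalar multiple -/
theorem charpoly_smul (a : K) (ha : a ≠ 0) (A : Matrix (Fin n) (Fin n) K) :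
    (a • A).charpoly = A.charpoly.scaleRoots a := by
  have hq : (C a * X : K[X]).natDegree = 1 := natDegree_C_mul_X a ha
  have h1 : ((a • A).charpoly).comp (C a * X) = C (a ^ n) * A.charpoly := by
    unfold Matrix.charpoly
    have h2 : (charmatrix (a • A)).map (fun p => p.comp (C a * X)) = (C a) • charmatrix A := by
      apply Matrix.ext
      intro i j
      rw [Matrix.map_apply, Matrix.smul_apply, smul_eq_mul]
      by_cases hij : i = j
      · subst hij
        rw [charmatrix_apply_eq, charmatrix_apply_eq, sub_comp, X_comp, C_comp, Matrix.smul_apply,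
          smul_eq_mul, C_mul]
        ring
      · rw [charmatrix_apply_ne _ _ _ hij, charmatrix_apply_ne _ _ _ hij, neg_comp, C_comp,
          Matrix.smul_apply, smul_eq_mul, C_mul]
        ring
    have h3 := (RingHom.map_det (Polynomial.compRingHom (C a * X : K[X])) (charmatrix (a • A))).symm
    have h4 : (Polynomial.compRingHom (C a * X : K[X])).mapMatrix (charmatrix (a • A)) =
        (charmatrix (a • A)).map (fun p => p.comp (C a * X)) := rfl
    rw [h4, h2, Matrix.det_smul, Fintype.card_fin] at h3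
    rw [C_pow]
    exact h3.symm
  have h5 : (A.charpoly.scaleRoots a).comp (C a * X) = C (a ^ n) * A.charpoly := by
    have := scaleRoots_eval₂_mul (p := A.charpoly) (C : K →+* K[X]) X a
    rw [Matrix.charpoly_natDegree_eq_dim, Fintype.card_fin, eval₂_C_X, ← C_pow] at this
    exact this
  have h6 : ((a • A).charpoly - A.charpoly.scaleRoots a).comp (C a * X) = 0 := by
    rw [sub_comp, h1, h5, sub_self]
  rw [comp_eq_zero_iff] at h6
  rcases h6 with h | ⟨_, h⟩
  · exact sub_eq_zero.1 h
  · exfalso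
    have := congrArg natDegree h
    rw [hq, natDegree_C] at this
    exact one_ne_zero this

theorem scaleRoots_X_pow_sub_C (r : ℕ) (hr : 0 < r) (l a : K) :
    (X ^ r - C l : K[X]).scaleRoots a = X ^ r - C (l * a ^ r) := by
  have hdeg : (X ^ r - C l : K[X]).natDegree = r := natDegree_X_pow_sub_C
  ext i
  rw [coeff_scaleRoots, hdeg, coeff_sub, coeff_sub, coeff_X_pow, coeff_C, coeff_C]
  by_cases hi : i = r
  · subst hi
    rw [if_pos rfl, if_neg hr.ne', if_neg hr.ne', Nat.sub_self, pow_zero, sub_zero, mul_one]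
  · rw [if_neg hi]
    by_cases hi0 : i = 0
    · subst hi0
      rw [if_pos rfl, if_pos rfl, Nat.sub_zero]
      ring
    · rw [if_neg hi0, if_neg hi0, sub_zero, zero_mul]

theorem scaleRoots_X_pow_sub_one (r : ℕ) (hr : 0 < r) (a : K) (ha : a ^ r = 1) :
    ((X : K[X]) ^ r - 1).scaleRoots a = X ^ r - 1 := by
  have h := scaleRoots_X_pow_sub_C r hr (1 : K) a
  rw [ha, mul_one, map_one] at h
  exact h

theorem monic_X_pow_sub_one (r : ℕ) (hr : 0 < r) : ((X : K[X]) ^ r - 1).Monic := by
  have h := monic_X_pow_sub_C (1 : K) hr.ne'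
  rwa [map_one] at h

theorem natDegree_X_pow_sub_one (r : ℕ) : ((X : K[X]) ^ r - 1).natDegree = r := by
  have h := natDegree_X_pow_sub_C (R := K) (n := r) (r := 1)
  rwa [map_one] at h

/-- monic polynomials of degree `n` all of whose irreducible factors divide `X ^ r - 1` -/
def PolySet (K : Type v) [Field K] (r n : ℕ) : Set K[X] :=
  {c | c.Monic ∧ c.natDegree = n ∧ ∀ f, Irreducible f → f ∣ c → f ∣ X ^ r - 1}

theorem dvd_pow_of_forall_irreducible_dvd (P : K[X]) :
    ∀ (d : ℕ) (c : K[X]), c.Monic → c.natDegree = d →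
      (∀ f, Irreducible f → f ∣ c → f ∣ P) → c ∣ P ^ d := by
  intro d
  induction d using Nat.strong_induction_on with
  | _ d ih =>
  intro c hc hd hall
  rcases Nat.eq_zero_or_pos d with hd0 | hdpos
  · subst hd0
    rw [eq_one_of_monic_natDegree_zero hc hd]
    exact one_dvd _
  · have hnu : ¬ IsUnit c := by
      intro hu
      have := natDegree_eq_zero_of_isUnit hu
      omega
    obtain ⟨f, hfm, hfi, c', rfl⟩ := exists_monic_irreducible_factor c hnu
    have hfP : f ∣ P := hall f hfi (dvd_mul_right f c')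
    have hc'm : c'.Monic := hfm.of_mul_monic_left hc
    have hdeg : (f * c').natDegree = f.natDegree + c'.natDegree := hfm.natDegree_mul hc'm
    have hfpos : 0 < f.natDegree := hfi.natDegree_pos
    have h1 := ih c'.natDegree (by omega) c' hc'm rfl
      (fun g hg hgc => hall g hg (dvd_mul_of_dvd_right hgc f))
    have h2 : f * c' ∣ P * P ^ c'.natDegree := mul_dvd_mul hfP h1
    rw [← pow_succ'] at h2
    exact h2.trans (pow_dvd_pow P (by omega))

theorem mem_polySet_iff (r n : ℕ) (c : K[X]) :
    c ∈ PolySet K r n ↔ c.Monic ∧ c.natDegree = n ∧ c ∣ (X ^ r - 1) ^ n := by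
  constructor
  · rintro ⟨hm, hn, hf⟩
    exact ⟨hm, hn, dvd_pow_of_forall_irreducible_dvd _ n c hm hn hf⟩
  · rintro ⟨hm, hn, hd⟩
    exact ⟨hm, hn, fun f hf hfc => hf.prime.dvd_of_dvd_pow (hfc.trans hd)⟩

theorem scaleRoots_mem (r n : ℕ) (hr : 0 < r) (a : K) (ha : a ^ r = 1) (c : K[X])
    (hc : c ∈ PolySet K r n) : c.scaleRoots a ∈ PolySet K r n := by
  rw [mem_polySet_iff] at hc ⊢
  obtain ⟨hm, hn, hd⟩ := hc
  refine ⟨(monic_scaleRoots_iff a).2 hm, by rw [natDegree_scaleRoots, hn], ?_⟩
  have h1 := scaleRoots_dvd c _ (r := a) hd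
  rw [pow_scaleRoots_of_isReduced, scaleRoots_X_pow_sub_one r hr a ha] at h1
  exact h1

theorem X_pow_sub_one_pow_mem (r k : ℕ) (hr : 0 < r) :
    ((X : K[X]) ^ r - 1) ^ k ∈ PolySet K r (r * k) := by
  rw [mem_polySet_iff]
  have hm := monic_X_pow_sub_one (K := K) r hr
  refine ⟨hm.pow k, ?_, ?_⟩
  · rw [hm.natDegree_pow, natDegree_X_pow_sub_one, mul_comm]
  · exact pow_dvd_pow _ (Nat.le_mul_of_pos_left k hr)

/-- a polynomial in `PolySet K r n` fixed by the scaling by a primitive `r`-th root of unity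
is a power of `X ^ r - 1` -/
theorem eq_pow_of_scaleRoots_eq (r : ℕ) (hr : 0 < r) (ζ : K) (hζ : IsPrimitiveRoot ζ r) :
    ∀ (n : ℕ) (c : K[X]), c ∈ PolySet K r n → c.scaleRoots ζ = c →
      ∃ k, n = r * k ∧ c = (X ^ r - 1) ^ k := by
  classical
  have : NeZero r := ⟨hr.ne'⟩
  have hPm := monic_X_pow_sub_one (K := K) r hr
  intro n
  induction n using Nat.strong_induction_on with
  | _ n ih =>
  intro c hc hfix
  obtain ⟨hm, hn, hf⟩ := hc
  rcases Nat.eq_zero_or_pos n with hn0 | hnpos
  · subst hn0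
    exact ⟨0, by simp, by rw [pow_zero]; exact eq_one_of_monic_natDegree_zero hm hn⟩
  · have hnu : ¬ IsUnit c := by
      intro hu
      have := natDegree_eq_zero_of_isUnit hu
      omega
    obtain ⟨f, hfm, hfi, hfc⟩ := exists_monic_irreducible_factor c hnu
    have hfX : f ∣ X ^ r - 1 := hf f hfi hfc
    rw [X_pow_sub_one_eq_prod hr hζ] at hfX
    obtain ⟨η, hη, hfη⟩ := (hfi.prime.dvd_finsetProd_iff _).1 hfX
    have hηr : η ^ r = 1 := (mem_nthRootsFinset hr 1).1 hη
    have hroot : c.IsRoot η := by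
      have hassoc := hfi.associated_of_dvd (irreducible_X_sub_C η) hfη
      exact dvd_iff_isRoot.1 (hassoc.symm.dvd.trans hfc)
    have hcl : ∀ k : ℕ, c.IsRoot (ζ ^ k * η) := by
      intro k
      induction k with
      | zero => simpa using hroot
      | succ k ihk =>
        have h := scaleRoots_eval_mul c (ζ ^ k * η) ζ
        rw [hfix, ihk.eq_zero, mul_zero] at h
        rw [IsRoot.def, pow_succ', mul_assoc]
        exact h
    have hall : ∀ η' ∈ nthRootsFinset r (1 : K), X - C η' ∣ c := by
      intro η' hη'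
      have hη'r := (mem_nthRootsFinset hr 1).1 hη'
      obtain ⟨i, _, hi⟩ := hζ.eq_pow_of_pow_eq_one hη'r
      obtain ⟨j, _, hj⟩ := hζ.eq_pow_of_pow_eq_one hηr
      have h1 : ζ ^ (i + (r - 1) * j) * η = η' := by
        rw [← hj, ← pow_add, ← hi]
        have h2 : i + (r - 1) * j + j = i + r * j := by
          have h3 : (r - 1) * j + j = r * j := by
            calc (r - 1) * j + j = ((r - 1) + 1) * j := by ring
              _ = r * j := by rw [Nat.sub_add_cancel hr]
          omega
        rw [h2, pow_add, pow_mul, hζ.pow_eq_one, one_pow, mul_one]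
      rw [dvd_iff_isRoot, ← h1]
      exact hcl _
    have hdvd : X ^ r - 1 ∣ c := by
      rw [X_pow_sub_one_eq_prod hr hζ]
      apply Finset.prod_dvd_of_coprime _ hall
      intro a _ b _ hab
      exact pairwise_coprime_X_sub_C (s := fun x : K => x) Function.injective_id hab
    obtain ⟨c', rfl⟩ := hdvd
    have hc'm : c'.Monic := hPm.of_mul_monic_left hm
    have hdeg : ((X ^ r - 1) * c').natDegree = r + c'.natDegree := by
      rw [hPm.natDegree_mul hc'm, natDegree_X_pow_sub_one]
    have hfix' : c'.scaleRoots ζ = c' := by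
      have h1 : ((X ^ r - 1) * c').scaleRoots ζ = (X ^ r - 1) * c'.scaleRoots ζ := by
        rw [mul_scaleRoots_of_noZeroDivisors, scaleRoots_X_pow_sub_one r hr ζ hζ.pow_eq_one]
      rw [h1] at hfix
      exact mul_left_cancel₀ hPm.ne_zero hfix
    obtain ⟨k, hk, hck⟩ := ih c'.natDegree (by omega) c'
      ⟨hc'm, rfl, fun g hg hgc => hf g hg (dvd_mul_of_dvd_right hgc _)⟩ hfix'
    refine ⟨k + 1, ?_, by rw [hck, pow_succ']⟩
    rw [← hn, hdeg, hk]
    ring

/-- the scaling action of the `r`-th roots of unity on `PolySet K r n` -/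
@[reducible] noncomputable def scaleAction (K : Type v) [Field K] (r n : ℕ) (hr : 0 < r) :
    MulAction (rootsOfUnity r K) (PolySet K r n) where
  smul a c := ⟨c.1.scaleRoots ((a : Kˣ) : K), scaleRoots_mem r n hr _ (by
    have := (mem_rootsOfUnity r (a : Kˣ)).1 a.2
    rw [← Units.val_pow_eq_pow_val, this, Units.val_one]) c.1 c.2⟩
  one_smul c := Subtype.ext (by
    show c.1.scaleRoots (((1 : rootsOfUnity r K) : Kˣ) : K) = c.1
    rw [OneMemClass.coe_one, Units.val_one, scaleRoots_one])
  mul_smul a b c := Subtype.ext (by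
    show c.1.scaleRoots (((a * b : rootsOfUnity r K) : Kˣ) : K) =
      (c.1.scaleRoots ((b : Kˣ) : K)).scaleRoots ((a : Kˣ) : K)
    rw [← scaleRoots_mul, Subgroup.coe_mul, Units.val_mul, mul_comm])

theorem scaleAction_smul_val (r n : ℕ) (hr : 0 < r) (a : rootsOfUnity r K)
    (c : PolySet K r n) :
    letI := scaleAction K r n hr
    ((a • c : PolySet K r n) : K[X]) = c.1.scaleRoots ((a : Kˣ) : K) := rfl

/-- the orbit of a polynomial under the scaling by the `r`-th roots of unity, as a set -/
def orbSet (r : ℕ) (c : K[X]) : Set K[X] := {d | ∃ a : K, a ^ r = 1 ∧ d = c.scaleRoots a}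

theorem mem_orbSet_self (r : ℕ) (c : K[X]) : c ∈ orbSet r c :=
  ⟨1, one_pow r, (scaleRoots_one c).symm⟩

theorem orbSet_eq_of_mem (r : ℕ) (hr : 0 < r) (c d : K[X]) (hd : d ∈ orbSet r c) :
    orbSet r d = orbSet r c := by
  obtain ⟨a, ha, rfl⟩ := hd
  have ha0 : a ≠ 0 := by
    rintro rfl
    rw [zero_pow hr.ne'] at ha
    exact zero_ne_one ha
  apply Set.ext
  intro e
  constructor
  · rintro ⟨b, hb, rfl⟩
    exact ⟨a * b, by rw [mul_pow, ha, hb, one_mul], by rw [scaleRoots_mul]⟩
  · rintro ⟨b, hb, rfl⟩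
    refine ⟨a⁻¹ * b, by rw [mul_pow, inv_pow, ha, hb, inv_one, one_mul], ?_⟩
    rw [← scaleRoots_mul, ← mul_assoc, mul_inv_cancel₀ ha0, one_mul]

theorem orbSet_subset (r n : ℕ) (hr : 0 < r) (c : K[X]) (hc : c ∈ PolySet K r n) :
    orbSet r c ⊆ PolySet K r n := by
  rintro d ⟨a, ha, rfl⟩
  exact scaleRoots_mem r n hr a ha c hc

/-- Burnside count of the orbits of the scaling action -/
theorem card_orbits (r n : ℕ) (hr : r.Prime) (ζ : K) (hζ : IsPrimitiveRoot ζ r)
    [Finite (PolySet K r n)] :
    letI := scaleAction K r n hr.pos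
    Nat.card (Quotient (MulAction.orbitRel (rootsOfUnity r K) (PolySet K r n))) * r =
      Nat.card (PolySet K r n) + (r - 1) * (if r ∣ n then 1 else 0) := by
  classical
  let _ := scaleAction K r n hr.pos
  have : NeZero r := ⟨hr.pos.ne'⟩
  have : Fact r.Prime := ⟨hr⟩
  have : Fintype (PolySet K r n) := Fintype.ofFinite _
  have : Fintype (rootsOfUnity r K) := Fintype.ofFinite _
  have hB := MulAction.sum_card_fixedBy_eq_card_orbits_mul_card_group (rootsOfUnity r K)
    (PolySet K r n)
  have hH : Fintype.card (rootsOfUnity r K) = r := by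
    rw [← Nat.card_eq_fintype_card]
    exact hζ.card_rootsOfUnity
  rw [hH] at hB
  rw [Nat.card_eq_fintype_card, Nat.card_eq_fintype_card, ← hB,
    ← Finset.add_sum_erase Finset.univ _ (Finset.mem_univ (1 : rootsOfUnity r K))]
  have h1 : Fintype.card (MulAction.fixedBy (PolySet K r n) (1 : rootsOfUnity r K)) =
      Fintype.card (PolySet K r n) := by
    apply Fintype.card_congr
    exact Equiv.subtypeUnivEquiv (fun c => by
      rw [MulAction.mem_fixedBy, one_smul])
  have h2 : ∀ a ∈ Finset.univ.erase (1 : rootsOfUnity r K),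
      Fintype.card (MulAction.fixedBy (PolySet K r n) a) = if r ∣ n then 1 else 0 := by
    intro a ha
    have ha1 : a ≠ 1 := Finset.ne_of_mem_erase ha
    have har : a ^ r = 1 := by
      apply Subtype.ext
      rw [Subgroup.coe_pow]
      exact (mem_rootsOfUnity r (a : Kˣ)).1 a.2
    have hord : orderOf a = r := orderOf_eq_prime har ha1
    have hprim : IsPrimitiveRoot (((a : Kˣ)) : K) r := by
      rw [IsPrimitiveRoot.coe_units_iff, IsPrimitiveRoot.iff_orderOf, Subgroup.orderOf_coe, hord]
    have hfixed : ∀ y : PolySet K r n, y ∈ MulAction.fixedBy (PolySet K r n) a →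
        ∃ k, n = r * k ∧ (y : K[X]) = (X ^ r - 1) ^ k := by
      intro y hy
      rw [MulAction.mem_fixedBy] at hy
      have hy' : (y : K[X]).scaleRoots ((a : Kˣ) : K) = y := by
        have := congrArg Subtype.val hy
        exact this
      exact eq_pow_of_scaleRoots_eq r hr.pos _ hprim n y y.2 hy'
    by_cases hrn : r ∣ n
    · rw [if_pos hrn]
      obtain ⟨k, hk⟩ := hrn
      have hmem : ((X : K[X]) ^ r - 1) ^ k ∈ PolySet K r n := by
        rw [hk]
        exact X_pow_sub_one_pow_mem r k hr.pos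
      rw [Fintype.card_eq_one_iff]
      refine ⟨⟨⟨_, hmem⟩, ?_⟩, ?_⟩
      · rw [MulAction.mem_fixedBy]
        apply Subtype.ext
        show (((X : K[X]) ^ r - 1) ^ k).scaleRoots ((a : Kˣ) : K) = (X ^ r - 1) ^ k
        rw [pow_scaleRoots_of_isReduced, scaleRoots_X_pow_sub_one r hr.pos _ hprim.pow_eq_one]
      · rintro ⟨y, hy⟩
        obtain ⟨k', hk', hyk'⟩ := hfixed y hy
        have hkk : k' = k := by
          have : r * k' = r * k := by rw [← hk', hk]
          exact Nat.eq_of_mul_eq_mul_left hr.pos this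
        apply Subtype.ext
        apply Subtype.ext
        rw [hyk', hkk]
    · rw [if_neg hrn, Fintype.card_eq_zero_iff]
      constructor
      rintro ⟨y, hy⟩
      obtain ⟨k', hk', _⟩ := hfixed y hy
      exact hrn ⟨k', hk'⟩
  rw [h1, Finset.sum_congr rfl h2, Finset.sum_const, Finset.card_erase_of_mem (Finset.mem_univ _),
    Finset.card_univ, hH, smul_eq_mul]

/-- the number of orbits, as sets of polynomials -/
theorem card_orbSets (r n : ℕ) (hr : r.Prime) (ζ : K) (hζ : IsPrimitiveRoot ζ r)
    [Finite (PolySet K r n)] :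
    Nat.card {O : Set K[X] // ∃ c ∈ PolySet K r n, O = orbSet r c} * r =
      Nat.card (PolySet K r n) + (r - 1) * (if r ∣ n then 1 else 0) := by
  classical
  rw [← card_orbits r n hr ζ hζ]
  let _ := scaleAction K r n hr.pos
  congr 1
  symm
  let f : Quotient (MulAction.orbitRel (rootsOfUnity r K) (PolySet K r n)) →
      {O : Set K[X] // ∃ c ∈ PolySet K r n, O = orbSet r c} :=
    Quotient.lift (fun c => ⟨orbSet r c.1, c.1, c.2, rfl⟩) (by
      intro c d hcd
      apply Subtype.ext
      show orbSet r c.1 = orbSet r d.1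
      have h1 : c ∈ MulAction.orbit (rootsOfUnity r K) d := hcd
      obtain ⟨a, ha⟩ := MulAction.mem_orbit_iff.1 h1
      apply orbSet_eq_of_mem r hr.pos
      refine ⟨((a : Kˣ) : K), ?_, ?_⟩
      · have := (mem_rootsOfUnity r (a : Kˣ)).1 a.2
        rw [← Units.val_pow_eq_pow_val, this, Units.val_one]
      · rw [← ha]
        rfl)
  apply Nat.card_congr (Equiv.ofBijective f ⟨?_, ?_⟩)
  · intro x y
    induction x using Quotient.inductionOn with
    | _ c =>
    induction y using Quotient.inductionOn with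
    | _ d =>
    intro h
    have h1 : orbSet r c.1 = orbSet r d.1 := congrArg Subtype.val h
    have h2 : c.1 ∈ orbSet r d.1 := by
      rw [← h1]
      exact mem_orbSet_self r c.1
    obtain ⟨a, ha, hca⟩ := h2
    apply Quotient.sound
    show c ∈ MulAction.orbit (rootsOfUnity r K) d
    rw [MulAction.mem_orbit_iff]
    have ha0 : a ≠ 0 := by
      rintro rfl
      rw [zero_pow hr.pos.ne'] at ha
      exact zero_ne_one ha
    refine ⟨⟨Units.mk0 a ha0, ?_⟩, ?_⟩
    · rw [mem_rootsOfUnity]
      apply Units.ext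
      rw [Units.val_pow_eq_pow_val, Units.val_mk0, ha, Units.val_one]
    · apply Subtype.ext
      rw [hca]
      rfl
  · rintro ⟨O, c, hc, rfl⟩
    exact ⟨Quotient.mk _ ⟨c, hc⟩, rfl⟩

end Cfsg.Agent.Lib.Helper40_ScalePoly
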