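import Mathlib
import Cfsg.Agent.Lib.Helper40_Semisimple
import Cfsg.Agent.Lib.Helper40_SpBasic

set_option autoImplicit false

/-!
Isometries of finite order of hermitian forms `B : V →ₗ[K] V →ₛₗ[σ] K`: adjoints of polynomials,
invariant subspaces and their orthogonals.
-/

namespace Cfsg.Agent.Lib.Helper40_UBasic

open Polynomial Module Cfsg.Agent.Lib.Helper40_Semisimple Cfsg.Agent.Lib.Helper40_SpBasic

variable {K : Type*} [Field K] {σ : K →+* K} {V : Type*} [AddCommGroup V] [Module K V]

/-- An isometry `a` of the hermitian form `B` with `a ^ N = 1`. -/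
structure UData (B : V →ₗ[K] V →ₛₗ[σ] K) (a : Module.End K V) (N : ℕ) : Prop where
  invol : ∀ c, σ (σ c) = c
  herm : ∀ x y, B y x = σ (B x y)
  iso : ∀ x y, B (a x) (a y) = B x y
  pow : a ^ N = 1
  pos : 0 < N

/-- nondegeneracy of the form on a subspace -/
def UNDOn (B : V →ₗ[K] V →ₛₗ[σ] K) (Z : Submodule K V) : Prop :=
  ∀ x ∈ Z, (∀ y ∈ Z, B x y = 0) → x = 0

/-- total isotropy of a subspace -/
def UIsoOn (B : V →ₗ[K] V →ₛₗ[σ] K) (Z : Submodule K V) : Prop :=
  ∀ x ∈ Z, ∀ y ∈ Z, B x y = 0

/-- nondegeneracy of the form -/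
def UND (B : V →ₗ[K] V →ₛₗ[σ] K) : Prop := ∀ x, (∀ y, B x y = 0) → x = 0

/-- The orthogonal of a subspace. -/
def orth (B : V →ₗ[K] V →ₛₗ[σ] K) (Z : Submodule K V) : Submodule K V where
  carrier := {y | ∀ x ∈ Z, B x y = 0}
  zero_mem' := by intro x _; simp
  add_mem' := by
    intro a b ha hb x hx
    rw [map_add, ha x hx, hb x hx, add_zero]
  smul_mem' := by
    intro c a ha x hx
    rw [map_smulₛₗ, ha x hx, smul_zero]

theorem mem_orth {B : V →ₗ[K] V →ₛₗ[σ] K} {Z : Submodule K V} {y : V} :
    y ∈ orth B Z ↔ ∀ x ∈ Z, B x y = 0 := Iff.rfl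

/-- the `σ`-conjugate of a polynomial -/
noncomputable abbrev conj (σ : K →+* K) (p : K[X]) : K[X] := p.map σ

namespace UData

variable {B : V →ₗ[K] V →ₛₗ[σ] K} {a : Module.End K V} {N : ℕ}

theorem eq_zero (h : UData B a N) {x y : V} (hxy : B x y = 0) : B y x = 0 := by
  rw [h.herm, hxy, map_zero]

theorem apply_ad (h : UData B a N) (x : V) : a ((a ^ (N - 1)) x) = x := by
  rw [← Module.End.mul_apply, ← pow_succ', Nat.sub_add_cancel h.pos, h.pow, Module.End.one_apply]

theorem ad_apply (h : UData B a N) (x : V) : (a ^ (N - 1)) (a x) = x := by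
  rw [← Module.End.mul_apply, ← pow_succ, Nat.sub_add_cancel h.pos, h.pow, Module.End.one_apply]

theorem injective (h : UData B a N) : Function.Injective a := by
  intro x y hxy
  rw [← h.ad_apply x, ← h.ad_apply y, hxy]

/-- `a ^ (N - 1)` is again an isometry -/
theorem ad (h : UData B a N) : UData B (a ^ (N - 1)) N where
  invol := h.invol
  herm := h.herm
  iso := by
    intro x y
    rw [← h.iso ((a ^ (N - 1)) x) ((a ^ (N - 1)) y), h.apply_ad, h.apply_ad]
  pow := by rw [← pow_mul, mul_comm, pow_mul, h.pow, one_pow]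
  pos := h.pos

theorem adj1 (h : UData B a N) (x y : V) : B (a x) y = B x ((a ^ (N - 1)) y) := by
  rw [← h.iso x ((a ^ (N - 1)) y), h.apply_ad]

theorem adj1' (h : UData B a N) (x y : V) : B x (a y) = B ((a ^ (N - 1)) x) y := by
  rw [← h.iso ((a ^ (N - 1)) x) y, h.apply_ad]

theorem adj_pow (h : UData B a N) (k : ℕ) (x y : V) :
    B ((a ^ k) x) y = B x (((a ^ (N - 1)) ^ k) y) := by
  induction k generalizing x y with
  | zero => simp
  | succ k ih =>
    rw [pow_succ, Module.End.mul_apply, ih, h.adj1, pow_succ', Module.End.mul_apply]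

/-- the adjoint of a polynomial in `a` is the conjugate polynomial in `a ^ (N - 1)` -/
theorem adj (h : UData B a N) (p : K[X]) (x y : V) :
    B (aeval a p x) y = B x (aeval (a ^ (N - 1)) (conj σ p) y) := by
  induction p using Polynomial.induction_on' with
  | add p q hp hq =>
    rw [conj, Polynomial.map_add, map_add, map_add, LinearMap.add_apply, LinearMap.add_apply,
      map_add, LinearMap.add_apply, map_add, hp, hq]
  | monomial n c =>
    rw [conj, Polynomial.map_monomial, ← C_mul_X_pow_eq_monomial, ← C_mul_X_pow_eq_monomial,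
      map_mul, map_mul, aeval_C, aeval_C, map_pow, map_pow,
      aeval_X, aeval_X, Module.End.mul_apply, Module.End.mul_apply, Module.algebraMap_end_apply,
      Module.algebraMap_end_apply, map_smul, LinearMap.smul_apply, map_smulₛₗ, h.invol, h.adj_pow]

theorem adj' (h : UData B a N) (p : K[X]) (x y : V) :
    B x (aeval a p y) = B (aeval (a ^ (N - 1)) (conj σ p) x) y := by
  rw [h.herm, h.adj, h.herm, h.invol]

theorem conj_conj (h : UData B a N) (p : K[X]) : conj σ (conj σ p) = p := by
  rw [conj, conj, Polynomial.map_map]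
  have : σ.comp σ = RingHom.id K := RingHom.ext h.invol
  rw [this, Polynomial.map_id]

/-- `aeval (a ^ (N - 1)) p` as a polynomial in `a` -/
theorem aeval_ad (a : Module.End K V) (N : ℕ) (p : K[X]) :
    aeval (a ^ (N - 1)) p = aeval a (expand K (N - 1) p) := by
  rw [expand_aeval]

theorem inv_orth (h : UData B a N) {Z : Submodule K V} (hZ : Inv a Z) :
    Inv a (orth B Z) := by
  intro y hy
  rw [mem_orth] at hy ⊢
  intro z hz
  rw [h.adj1']
  exact hy _ (hZ.pow_mem (N - 1) hz)

/-- the restricted form -/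
noncomputable abbrev res (B : V →ₗ[K] V →ₛₗ[σ] K) (Z : Submodule K V) : Z →ₗ[K] Z →ₛₗ[σ] K :=
  B.domRestrict₁₂ Z Z

theorem res_apply (B : V →ₗ[K] V →ₛₗ[σ] K) (Z : Submodule K V) (x y : Z) :
    res B Z x y = B (x : V) (y : V) := rfl

theorem restrict (h : UData B a N) {Z : Submodule K V} (hZ : ∀ x ∈ Z, a x ∈ Z) :
    UData (res B Z) (a.restrict hZ) N where
  invol := h.invol
  herm := fun x y => h.herm x y
  iso := fun x y => h.iso x y
  pow := by
    apply LinearMap.ext
    intro z
    apply Subtype.ext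
    rw [Module.End.one_apply]
    have : ∀ k : ℕ, (((a.restrict hZ) ^ k) z : V) = (a ^ k) z := by
      intro k
      induction k with
      | zero => simp
      | succ k ih =>
        rw [pow_succ', pow_succ', Module.End.mul_apply, Module.End.mul_apply,
          LinearMap.coe_restrict_apply, ih]
    rw [this, h.pow, Module.End.one_apply]
  pos := h.pos

end UData

section FiniteDim

variable [Finite K] [FiniteDimensional K V] {B : V →ₗ[K] V →ₛₗ[σ] K} {a : Module.End K V} {N : ℕ}

/-- orthogonal projection onto a nondegenerate subspace (finite fields: counting) -/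
theorem exists_proj (h : UData B a N) {Z : Submodule K V} (hZ : UNDOn B Z) (v : V) :
    ∃ z₀ ∈ Z, ∀ z ∈ Z, B z (v - z₀) = 0 := by
  have : Finite Z := Module.finite_of_finite K
  have : Finite (Dual K Z) := Module.finite_of_finite K
  have hcard : Nat.card (Dual K Z) = Nat.card Z := by
    rw [Module.natCard_eq_pow_finrank (K := K), Module.natCard_eq_pow_finrank (K := K) (V := Z),
      Subspace.dual_finrank_eq]
  let ρ : Z → Dual K Z := fun z₀ => (B.flip (z₀ : V)).comp Z.subtype
  have hρ : ∀ z₀ z, ρ z₀ z = B (z : V) (z₀ : V) := fun z₀ z => rfl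
  have hinj : Function.Injective ρ := by
    intro z₁ z₂ h12
    have h1 : ∀ z : Z, B (z : V) ((z₁ : V) - (z₂ : V)) = 0 := by
      intro z
      have := congrArg (fun ψ : Dual K Z => ψ z) h12
      simp only [hρ] at this
      rw [map_sub, this, sub_self]
    have h2 : (z₁ : V) - (z₂ : V) = 0 := by
      apply hZ _ (Z.sub_mem z₁.2 z₂.2)
      intro y hy
      exact h.eq_zero (h1 ⟨y, hy⟩)
    exact Subtype.ext (sub_eq_zero.1 h2)
  have hbij := hinj.bijective_of_nat_card_le (le_of_eq hcard)
  obtain ⟨z₀, hz₀⟩ := hbij.2 ((B.flip v).comp Z.subtype)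
  refine ⟨z₀, z₀.2, fun z hz => ?_⟩
  have := congrArg (fun ψ : Dual K Z => ψ ⟨z, hz⟩) hz₀
  simp only [hρ, LinearMap.comp_apply, Submodule.subtype_apply, LinearMap.flip_apply] at this
  rw [map_sub, this, sub_self]

theorem isCompl_orth (h : UData B a N) {Z : Submodule K V} (hZ : UNDOn B Z) :
    IsCompl Z (orth B Z) := by
  constructor
  · rw [Submodule.disjoint_def]
    intro x hx hx'
    apply hZ x hx
    intro y hy
    exact h.eq_zero (hx' y hy)
  · rw [codisjoint_iff, eq_top_iff]
    intro v _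
    obtain ⟨z₀, hz₀, hz⟩ := exists_proj h hZ v
    have : v = z₀ + (v - z₀) := by abel
    rw [this]
    exact Submodule.add_mem_sup hz₀ hz

theorem undOn_orth (h : UData B a N) (hB : UND B) {Z : Submodule K V}
    (hZ : UNDOn B Z) : UNDOn B (orth B Z) := by
  intro x hx hxy
  apply hB x
  intro v
  have htop : v ∈ Z ⊔ orth B Z := by
    rw [(isCompl_orth h hZ).sup_eq_top]
    trivial
  obtain ⟨z, hz, c, hc, rfl⟩ := Submodule.mem_sup.1 htop
  rw [map_add, hxy c hc, add_zero]
  exact h.eq_zero (hx z hz)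

omit [Finite K] [FiniteDimensional K V] in
theorem und_res {Z : Submodule K V} (hZ : UNDOn B Z) : UND (UData.res B Z) := by
  intro x hx
  apply Subtype.ext
  apply hZ x x.2
  intro y hy
  exact hx ⟨y, hy⟩

end FiniteDim

end Cfsg.Agent.Lib.Helper40_UBasic
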