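import Mathlib
import Cfsg.Agent.Lib.Helper40_SpExist
import Cfsg.Agent.Lib.Helper40_UBasic

set_option autoImplicit false

/-!
Existence of nondegenerate hermitian spaces with a semisimple isometry of prescribed self-dual
characteristic polynomial.
-/

namespace Cfsg.Agent.Lib.Helper40_UExist

open Polynomial Module Cfsg.Agent.Lib.Helper40_SemisimpleExist
  Cfsg.Agent.Lib.Helper40_Palindromic Cfsg.Agent.Lib.Helper40_UBasic
  Cfsg.Agent.Lib.Helper40_SpExist

universe v

variable {K : Type v} [Field K] (σ : K →+* K)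

section Dual

/-- the dual polynomial: the monic reciprocal of the conjugate -/
noncomputable def udual (f : K[X]) : K[X] := recip (f.map σ)

theorem map_reverse' (f : K[X]) : (f.map σ).reverse = f.reverse.map σ := by
  unfold reverse
  rw [natDegree_map, reflect_map]

theorem map_recip (f : K[X]) : (recip f).map σ = recip (f.map σ) := by
  unfold recip
  rw [Polynomial.map_mul, map_C, map_inv₀, coeff_map, map_reverse']

theorem udual_mul (f g : K[X]) : udual σ (f * g) = udual σ f * udual σ g := by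
  unfold udual
  rw [Polynomial.map_mul, recip_mul]

theorem map_map_self (hinv : ∀ c, σ (σ c) = c) (f : K[X]) : (f.map σ).map σ = f := by
  rw [Polynomial.map_map]
  have : σ.comp σ = RingHom.id K := RingHom.ext hinv
  rw [this, Polynomial.map_id]

theorem udual_udual (hinv : ∀ c, σ (σ c) = c) (f : K[X]) (hf : f.Monic) (h0 : f.coeff 0 ≠ 0) :
    udual σ (udual σ f) = f := by
  unfold udual
  rw [map_recip, map_map_self σ hinv, recip_recip f hf h0]

theorem coeff_zero_map_ne (f : K[X]) (h0 : f.coeff 0 ≠ 0) : (f.map σ).coeff 0 ≠ 0 := by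
  rw [coeff_map]
  exact (map_ne_zero σ).2 h0

theorem udual_monic (f : K[X]) (h0 : f.coeff 0 ≠ 0) : (udual σ f).Monic :=
  recip_monic _ (coeff_zero_map_ne σ f h0)

theorem udual_natDegree (f : K[X]) (h0 : f.coeff 0 ≠ 0) :
    (udual σ f).natDegree = f.natDegree := by
  unfold udual
  rw [recip_natDegree _ (coeff_zero_map_ne σ f h0), natDegree_map]

theorem udual_coeff_zero (f : K[X]) (hf : f.Monic) :
    (udual σ f).coeff 0 = (σ (f.coeff 0))⁻¹ := by
  unfold udual
  rw [recip_coeff_zero _ (hf.map σ), coeff_map]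

theorem irreducible_map (hinv : ∀ c, σ (σ c) = c) (f : K[X]) (hf : Irreducible f) :
    Irreducible (f.map σ) := by
  let e : K ≃+* K := RingEquiv.ofRingHom σ σ (RingHom.ext hinv) (RingHom.ext hinv)
  have h1 : f.map σ = Polynomial.mapEquiv e f := rfl
  rw [h1]
  exact (MulEquiv.irreducible_iff (Polynomial.mapEquiv e).toMulEquiv).2 hf

theorem udual_irreducible (hinv : ∀ c, σ (σ c) = c) (f : K[X]) (hf : Irreducible f)
    (h0 : f.coeff 0 ≠ 0) : Irreducible (udual σ f) :=
  irreducible_recip _ (irreducible_map σ hinv f hf) (coeff_zero_map_ne σ f h0)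

theorem udual_dvd {f c : K[X]} (h : f ∣ c) : udual σ f ∣ udual σ c := by
  obtain ⟨g, rfl⟩ := h
  rw [udual_mul]
  exact dvd_mul_right _ _

/-- a self-dual polynomial is conjugate to its reciprocal -/
theorem map_eq_recip_of_udual_eq (f : K[X]) (hf : f.Monic) (h0 : f.coeff 0 ≠ 0)
    (h : udual σ f = f) : f.map σ = recip f := by
  unfold udual at h
  have h1 := recip_recip _ (hf.map σ) (coeff_zero_map_ne σ f h0)
  rw [h] at h1
  exact h1.symm

end Dual

section Model

/-- there is a nondegenerate hermitian space with an isometry of characteristic polynomial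
`c` which is killed by every polynomial divisible by all irreducible factors of `c` -/
def HasUModel (c : K[X]) : Prop :=
  ∃ (V : Type v) (_ : AddCommGroup V) (_ : Module K V) (_ : Module.Finite K V)
    (B : V →ₗ[K] V →ₛₗ[σ] K) (a : Module.End K V),
    UND B ∧ (∀ x y, B y x = σ (B x y)) ∧ (∀ x y, B (a x) (a y) = B x y) ∧ a.charpoly = c ∧
    ∀ r : K[X], (∀ g, Irreducible g → g ∣ c → g ∣ r) → aeval a r = 0

theorem hasUModel_one : HasUModel σ (1 : K[X]) := by
  refine ⟨PUnit.{v + 1}, inferInstance, inferInstance, inferInstance, 0, 0, ?_, ?_, ?_, ?_, ?_⟩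
  · intro x _
    exact Subsingleton.elim _ _
  · intro x y
    simp
  · intro x y
    rfl
  · have hm := LinearMap.charpoly_monic (0 : Module.End K PUnit.{v + 1})
    have hd := LinearMap.charpoly_natDegree (0 : Module.End K PUnit.{v + 1})
    rw [finrank_zero_of_subsingleton] at hd
    exact eq_one_of_monic_natDegree_zero hm hd
  · intro r _
    exact Subsingleton.elim _ _

variable {σ}

/-- orthogonal sums -/
theorem HasUModel.mul {c₁ c₂ : K[X]} (h₁ : HasUModel σ c₁) (h₂ : HasUModel σ c₂) :
    HasUModel σ (c₁ * c₂) := by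
  obtain ⟨V₁, _, _, _, B₁, a₁, hB₁, hh₁, hiso₁, hc₁, hk₁⟩ := h₁
  obtain ⟨V₂, _, _, _, B₂, a₂, hB₂, hh₂, hiso₂, hc₂, hk₂⟩ := h₂
  let B : (V₁ × V₂) →ₗ[K] (V₁ × V₂) →ₛₗ[σ] K :=
    LinearMap.mk₂'ₛₗ (RingHom.id K) σ (fun x y => B₁ x.1 y.1 + B₂ x.2 y.2)
      (by intro x x' y; simp only [Prod.fst_add, Prod.snd_add, map_add, LinearMap.add_apply]; abel)
      (by intro c x y; simp only [Prod.smul_fst, Prod.smul_snd, map_smul, LinearMap.smul_apply,
        smul_eq_mul, RingHom.id_apply]; ring)
      (by intro x y y'; simp only [Prod.fst_add, Prod.snd_add, map_add]; abel)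
      (by intro c x y; simp only [Prod.smul_fst, Prod.smul_snd, map_smulₛₗ, smul_eq_mul]; ring)
  have hBapp : ∀ x y, B x y = B₁ x.1 y.1 + B₂ x.2 y.2 := fun x y => rfl
  refine ⟨V₁ × V₂, inferInstance, inferInstance, inferInstance, B, a₁.prodMap a₂,
    ?_, ?_, ?_, ?_, ?_⟩
  · intro x hx
    have h1 : x.1 = 0 := by
      apply hB₁
      intro y
      have := hx (y, 0)
      rw [hBapp] at this
      simpa using this
    have h2 : x.2 = 0 := by
      apply hB₂
      intro y
      have := hx (0, y)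
      rw [hBapp] at this
      simpa using this
    exact Prod.ext h1 h2
  · intro x y
    rw [hBapp, hBapp, hh₁, hh₂, map_add]
  · intro x y
    rw [hBapp, hBapp]
    simp only [LinearMap.prodMap_apply]
    rw [hiso₁, hiso₂]
  · rw [LinearMap.charpoly_prodMap, hc₁, hc₂]
  · intro r hr
    rw [aeval_prodMap, hk₁ r (fun g hg hgc => hr g hg (dvd_mul_of_dvd_left hgc _)),
      hk₂ r (fun g hg hgc => hr g hg (dvd_mul_of_dvd_right hgc _))]
    exact LinearMap.prodMap_zero

end Model

section Fields

variable {σ}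

/-- the involution of `K[X]/(f)` for a self-dual `f`: conjugation on scalars, inversion of the
root -/
theorem exists_field_involution (hinv : ∀ c, σ (σ c) = c) (f : K[X]) [Fact (Irreducible f)]
    (hfm : f.Monic) (h0 : f.coeff 0 ≠ 0) (hd : udual σ f = f) :
    ∃ σL : AdjoinRoot f →+* AdjoinRoot f,
      (∀ c : K, σL (AdjoinRoot.of f c) = AdjoinRoot.of f (σ c)) ∧
      σL (AdjoinRoot.root f) = (AdjoinRoot.root f)⁻¹ ∧ ∀ x, σL (σL x) = x := by
  set ρ : AdjoinRoot f := AdjoinRoot.root f with hρ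
  have hρ0 : ρ ≠ 0 := root_ne_zero f h0
  have hσ0 : eval₂ ((algebraMap K (AdjoinRoot f)).comp σ) ρ⁻¹ f = 0 := by
    rw [← Polynomial.eval₂_map, map_eq_recip_of_udual_eq σ f hfm h0 hd, ← aeval_def]
    exact aeval_inv_root_recip f h0
  let σL : AdjoinRoot f →+* AdjoinRoot f :=
    AdjoinRoot.lift ((algebraMap K (AdjoinRoot f)).comp σ) ρ⁻¹ hσ0
  have hσρ : σL ρ = ρ⁻¹ := AdjoinRoot.lift_root hσ0
  have hσof : ∀ c : K, σL (AdjoinRoot.of f c) = AdjoinRoot.of f (σ c) := by
    intro c
    exact AdjoinRoot.lift_of hσ0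
  refine ⟨σL, hσof, hσρ, ?_⟩
  intro x
  induction x using AdjoinRoot.induction_on with
  | ih p =>
    induction p using Polynomial.induction_on' with
    | add p q hp hq => rw [map_add, map_add, map_add, hp, hq]
    | monomial n c =>
      rw [← C_mul_X_pow_eq_monomial, map_mul, map_pow, AdjoinRoot.mk_X, AdjoinRoot.mk_C,
        map_mul, map_mul, map_pow, map_pow, hσof, hσof, hinv, hσρ, map_inv₀, hσρ, inv_inv]

/-- the conjugate-linear isomorphism `K[X]/(σ f) → K[X]/(f)` -/
theorem exists_conj_hom (hinv : ∀ c, σ (σ c) = c) (f : K[X]) :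
    ∃ ψ : AdjoinRoot (f.map σ) →+* AdjoinRoot f,
      (∀ c : K, ψ (AdjoinRoot.of (f.map σ) c) = AdjoinRoot.of f (σ c)) ∧
      ψ (AdjoinRoot.root (f.map σ)) = AdjoinRoot.root f ∧ Function.Surjective ψ := by
  have hev : ∀ p : K[X], eval₂ ((AdjoinRoot.of f).comp σ) (AdjoinRoot.root f) (p.map σ) =
      AdjoinRoot.mk f p := by
    intro p
    rw [← Polynomial.eval₂_map, map_map_self σ hinv, ← AdjoinRoot.algebraMap_eq, ← aeval_def,
      AdjoinRoot.aeval_eq]
  have hψ0 : eval₂ ((AdjoinRoot.of f).comp σ) (AdjoinRoot.root f) (f.map σ) = 0 := by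
    rw [hev, AdjoinRoot.mk_self]
  let ψ : AdjoinRoot (f.map σ) →+* AdjoinRoot f :=
    AdjoinRoot.lift ((AdjoinRoot.of f).comp σ) (AdjoinRoot.root f) hψ0
  refine ⟨ψ, fun c => AdjoinRoot.lift_of hψ0, AdjoinRoot.lift_root hψ0, ?_⟩
  intro x
  obtain ⟨p, rfl⟩ := AdjoinRoot.mk_surjective x
  refine ⟨AdjoinRoot.mk (f.map σ) (p.map σ), ?_⟩
  rw [← hev]
  exact AdjoinRoot.lift_mk hψ0 _

/-- the self-dual piece -/
theorem hasUModel_selfdual (hinv : ∀ c, σ (σ c) = c) (hσne : ∃ θ, σ θ ≠ θ) (f : K[X])
    (hfm : f.Monic) (hfi : Irreducible f) (h0 : f.coeff 0 ≠ 0) (hd : udual σ f = f) :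
    HasUModel σ f := by
  have : Fact (Irreducible f) := ⟨hfi⟩
  have : Module.Finite K (AdjoinRoot f) := hfm.finite_adjoinRoot
  obtain ⟨σL, hσof, hσρ, hσσ⟩ := exists_field_involution hinv f hfm h0 hd
  set ρ := AdjoinRoot.root f with hρdef
  have hρ := root_ne_zero f h0
  have hσsmul : ∀ (c : K) (x : AdjoinRoot f), σL (c • x) = σ c • σL x := by
    intro c x
    rw [Algebra.smul_def, Algebra.smul_def, map_mul, AdjoinRoot.algebraMap_eq, hσof]
  -- a functional with nonzero hermitian trace
  obtain ⟨τ, hτ⟩ : ∃ τ : Module.Dual K (AdjoinRoot f), τ 1 + σ (τ 1) ≠ 0 := by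
    obtain ⟨τ₀, hτ₀⟩ := exists_dual_ne_zero f 1 one_ne_zero
    by_cases h1 : τ₀ 1 + σ (τ₀ 1) = 0
    · obtain ⟨θ, hθ⟩ := hσne
      refine ⟨θ • τ₀, ?_⟩
      rw [LinearMap.smul_apply, smul_eq_mul, map_mul]
      have h2 : σ (τ₀ 1) = - τ₀ 1 := by
        rw [eq_neg_iff_add_eq_zero, add_comm]
        exact h1
      rw [h2]
      intro h3
      have h4 : (θ - σ θ) * τ₀ 1 = 0 := by
        rw [sub_mul, sub_eq_add_neg, ← mul_neg]
        exact h3
      rcases mul_eq_zero.1 h4 with h5 | h5
      · exact hθ (sub_eq_zero.1 h5).symm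
      · exact hτ₀ h5
    · exact ⟨τ₀, h1⟩
  let B : AdjoinRoot f →ₗ[K] AdjoinRoot f →ₛₗ[σ] K :=
    LinearMap.mk₂'ₛₗ (RingHom.id K) σ (fun x y => τ (x * σL y) + σ (τ (y * σL x)))
      (by intro x x' y; simp only [add_mul, mul_add, map_add]; abel)
      (by
        intro c x y
        simp only [hσsmul, smul_mul_assoc, mul_smul_comm, map_smul, smul_eq_mul, map_mul, hinv,
          RingHom.id_apply]
        ring)
      (by intro x y y'; simp only [add_mul, mul_add, map_add]; abel)
      (by
        intro c x y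
        simp only [hσsmul, smul_mul_assoc, mul_smul_comm, map_smul, smul_eq_mul, map_mul]
        ring)
  have hBapp : ∀ x y, B x y = τ (x * σL y) + σ (τ (y * σL x)) := fun x y => rfl
  refine ⟨AdjoinRoot f, inferInstance, inferInstance, inferInstance, B,
    Algebra.lmul K (AdjoinRoot f) ρ, ?_, ?_, ?_, ?_, ?_⟩
  · intro x hx
    by_contra hx0
    have h1 := hx (σL x⁻¹)
    rw [hBapp, hσσ, mul_inv_cancel₀ hx0, ← map_mul, inv_mul_cancel₀ hx0, map_one σL] at h1
    exact hτ h1
  · intro x y
    rw [hBapp, hBapp, map_add, hinv, add_comm]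
  · intro x y
    rw [hBapp, hBapp]
    simp only [Algebra.coe_lmul_eq_mul, LinearMap.mul_apply']
    have h1 : ∀ s t : AdjoinRoot f, ρ * s * σL (ρ * t) = s * σL t := by
      intro s t
      rw [map_mul, hσρ]
      calc ρ * s * (ρ⁻¹ * σL t) = (ρ * ρ⁻¹) * (s * σL t) := by ring
        _ = s * σL t := by rw [mul_inv_cancel₀ hρ, one_mul]
    rw [h1, h1]
  · exact charpoly_lmul_root f hfm
  · intro r hr'
    exact aeval_lmul_root f r (hr' f hfi dvd_rfl)

/-- the hyperbolic piece -/
theorem hasUModel_hyp (hinv : ∀ c, σ (σ c) = c) (f : K[X]) (hfm : f.Monic)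
    (hfi : Irreducible f) (h0 : f.coeff 0 ≠ 0) : HasUModel σ (f * udual σ f) := by
  have : Fact (Irreducible f) := ⟨hfi⟩
  have : Fact (Irreducible (f.map σ)) := ⟨irreducible_map σ hinv f hfi⟩
  have hfm' : (f.map σ).Monic := hfm.map σ
  have h0' : (f.map σ).coeff 0 ≠ 0 := coeff_zero_map_ne σ f h0
  have : Module.Finite K (AdjoinRoot f) := hfm.finite_adjoinRoot
  have : Module.Finite K (AdjoinRoot (f.map σ)) := hfm'.finite_adjoinRoot
  obtain ⟨ψ, hψof, hψρ, hψsurj⟩ := exists_conj_hom hinv f
  set ρ := AdjoinRoot.root f with hρdef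
  set ρ' := AdjoinRoot.root (f.map σ) with hρ'def
  have hρ := root_ne_zero f h0
  have hρ' := root_ne_zero (f.map σ) h0'
  have hψsmul : ∀ (c : K) (x : AdjoinRoot (f.map σ)), ψ (c • x) = σ c • ψ x := by
    intro c x
    rw [Algebra.smul_def, Algebra.smul_def, map_mul, AdjoinRoot.algebraMap_eq, hψof,
      AdjoinRoot.algebraMap_eq]
  obtain ⟨τ, hτ⟩ := exists_dual_ne_zero f 1 one_ne_zero
  let B : (AdjoinRoot f × AdjoinRoot (f.map σ)) →ₗ[K]
      (AdjoinRoot f × AdjoinRoot (f.map σ)) →ₛₗ[σ] K :=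
    LinearMap.mk₂'ₛₗ (RingHom.id K) σ (fun x y => τ (x.1 * ψ y.2) + σ (τ (y.1 * ψ x.2)))
      (by
        intro x x' y
        simp only [Prod.fst_add, Prod.snd_add, add_mul, mul_add, map_add]
        abel)
      (by
        intro c x y
        simp only [Prod.smul_fst, Prod.smul_snd, hψsmul, smul_mul_assoc, mul_smul_comm, map_smul,
          smul_eq_mul, map_mul, hinv, RingHom.id_apply]
        ring)
      (by
        intro x y y'
        simp only [Prod.fst_add, Prod.snd_add, add_mul, mul_add, map_add]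
        abel)
      (by
        intro c x y
        simp only [Prod.smul_fst, Prod.smul_snd, hψsmul, smul_mul_assoc, mul_smul_comm, map_smul,
          smul_eq_mul, map_mul]
        ring)
  have hBapp : ∀ x y, B x y = τ (x.1 * ψ y.2) + σ (τ (y.1 * ψ x.2)) := fun x y => rfl
  refine ⟨AdjoinRoot f × AdjoinRoot (f.map σ), inferInstance, inferInstance, inferInstance, B,
    (Algebra.lmul K (AdjoinRoot f) ρ).prodMap (Algebra.lmul K (AdjoinRoot (f.map σ)) ρ'⁻¹),
    ?_, ?_, ?_, ?_, ?_⟩
  · intro x hx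
    by_contra hx0
    have : x.1 ≠ 0 ∨ x.2 ≠ 0 := by
      by_contra hcon
      rw [not_or, not_not, not_not] at hcon
      exact hx0 (Prod.ext hcon.1 hcon.2)
    rcases this with h1 | h2
    · obtain ⟨y', hy'⟩ := hψsurj (x.1⁻¹)
      have := hx (0, y')
      rw [hBapp] at this
      simp only [zero_mul, map_zero, add_zero, hy', mul_inv_cancel₀ h1] at this
      exact hτ this
    · have h3 : ψ x.2 ≠ 0 := (map_ne_zero ψ).2 h2
      have := hx ((ψ x.2)⁻¹, 0)
      rw [hBapp] at this
      simp only [map_zero, mul_zero, zero_add, inv_mul_cancel₀ h3] at this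
      apply hτ
      have h4 := congrArg σ this
      rwa [hinv, map_zero] at h4
  · intro x y
    rw [hBapp, hBapp, map_add, hinv, add_comm]
  · intro x y
    rw [hBapp, hBapp]
    simp only [LinearMap.prodMap_apply, Algebra.coe_lmul_eq_mul, LinearMap.mul_apply']
    have h1 : ∀ (s : AdjoinRoot f) (t : AdjoinRoot (f.map σ)),
        ρ * s * ψ (ρ'⁻¹ * t) = s * ψ t := by
      intro s t
      rw [map_mul, map_inv₀, hψρ]
      calc ρ * s * (ρ⁻¹ * ψ t) = (ρ * ρ⁻¹) * (s * ψ t) := by ring
        _ = s * ψ t := by rw [mul_inv_cancel₀ hρ, one_mul]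
    rw [h1, h1]
  · rw [LinearMap.charpoly_prodMap, charpoly_lmul_root f hfm,
      charpoly_lmul_inv_root (f.map σ) hfm' h0']
    rfl
  · intro r hr
    have hf1 : f ∣ r := hr f hfi (dvd_mul_right _ _)
    have hf2 : recip (f.map σ) ∣ r :=
      hr _ (udual_irreducible σ hinv f hfi h0) (dvd_mul_left _ _)
    rw [aeval_prodMap, aeval_lmul_root f r hf1]
    have h2 : aeval (Algebra.lmul K (AdjoinRoot (f.map σ)) ρ'⁻¹) r = 0 := by
      rw [aeval_algHom_apply]
      obtain ⟨k, rfl⟩ := hf2
      rw [map_mul, aeval_inv_root_recip (f.map σ) h0', zero_mul, map_zero]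
    rw [h2]
    exact LinearMap.prodMap_zero

end Fields

section Induction

variable {σ}

theorem coeff_zero_ne_of_udual_eq (c : K[X]) (hc : c.Monic) (hd : udual σ c = c) :
    c.coeff 0 ≠ 0 := by
  intro h0
  have h1 : udual σ c = 0 := by
    unfold udual recip
    rw [coeff_map, h0, map_zero, inv_zero, C_0, zero_mul]
  rw [hd] at h1
  exact hc.ne_zero h1

/-- every monic self-dual polynomial is the characteristic polynomial of a semisimple isometry
of a nondegenerate hermitian form -/
theorem exists_u_model (hinv : ∀ c, σ (σ c) = c) (hσne : ∃ θ, σ θ ≠ θ) (k : ℕ) :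
    ∀ c : K[X], c.Monic → c.natDegree = k → udual σ c = c → HasUModel σ c := by
  induction k using Nat.strong_induction_on with
  | _ k ih =>
  intro c hc hk hdual
  rcases Nat.eq_zero_or_pos k with hk0 | hkpos
  · subst hk0
    rw [eq_one_of_monic_natDegree_zero hc hk]
    exact hasUModel_one σ
  · have hnu : ¬ IsUnit c := by
      intro hu
      have := natDegree_eq_zero_of_isUnit hu
      omega
    have hc0 : c.coeff 0 ≠ 0 := coeff_zero_ne_of_udual_eq c hc hdual
    obtain ⟨f, hfm, hfi, c', hcc'⟩ := exists_monic_irreducible_factor c hnu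
    have hc'm : c'.Monic := by
      rw [hcc'] at hc
      exact hfm.of_mul_monic_left hc
    have hf0 : f.coeff 0 ≠ 0 := by
      intro h
      rw [hcc', mul_coeff_zero, h, zero_mul] at hc0
      exact hc0 rfl
    have hfpos : 0 < f.natDegree := hfi.natDegree_pos
    have hdeg : c.natDegree = f.natDegree + c'.natDegree := by
      rw [hcc']
      exact hfm.natDegree_mul hc'm
    have hdfm : (udual σ f).Monic := udual_monic σ f hf0
    have hdfi : Irreducible (udual σ f) := udual_irreducible σ hinv f hfi hf0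
    have hdfdeg : (udual σ f).natDegree = f.natDegree := udual_natDegree σ f hf0
    -- the common treatment of the hyperbolic cases
    have hyp : ∀ c'' : K[X], c = f * udual σ f * c'' → HasUModel σ c := by
      intro c'' hc''
      have hpm : (f * udual σ f).Monic := hfm.mul hdfm
      have hc''m : c''.Monic := by
        rw [hc''] at hc
        exact hpm.of_mul_monic_left hc
      have hdeg2 : c.natDegree = f.natDegree + f.natDegree + c''.natDegree := by
        rw [hc'', hpm.natDegree_mul hc''m, hfm.natDegree_mul hdfm, hdfdeg]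
      have hdual'' : udual σ c'' = c'' := by
        have h1 := hdual
        rw [hc'', udual_mul, udual_mul, udual_udual σ hinv f hfm hf0, mul_comm (udual σ f) f] at h1
        exact mul_left_cancel₀ hpm.ne_zero h1
      have h2 := ih (k - f.natDegree - f.natDegree) (by omega) c'' hc''m (by omega) hdual''
      rw [hc'']
      exact (hasUModel_hyp hinv f hfm hfi hf0).mul h2
    have hddvd : udual σ f ∣ c := by
      have := udual_dvd σ (show f ∣ c from ⟨c', hcc'⟩)
      rwa [hdual] at this
    by_cases hfr : udual σ f = f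
    · by_cases hsq : f * f ∣ c
      · obtain ⟨c'', hc''⟩ := hsq
        apply hyp c''
        rw [hfr, hc'']
      · have hdual' : udual σ c' = c' := by
          have h1 := hdual
          rw [hcc', udual_mul, hfr] at h1
          exact mul_left_cancel₀ hfm.ne_zero h1
        have h2 := ih (k - f.natDegree) (by omega) c' hc'm (by omega) hdual'
        rw [hcc']
        exact (hasUModel_selfdual hinv hσne f hfm hfi hf0 hfr).mul h2
    · have h1 : udual σ f ∣ f * c' := by rw [← hcc']; exact hddvd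
      rcases hdfi.prime.dvd_or_dvd h1 with h | h
      · exfalso
        apply hfr
        exact eq_of_monic_of_associated hdfm hfm (hdfi.associated_of_dvd hfi h)
      · obtain ⟨c'', hc''⟩ := h
        apply hyp c''
        rw [hcc', hc'', mul_assoc]

end Induction

end Cfsg.Agent.Lib.Helper40_UExist
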