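import Mathlib
import Cfsg.Agent.Lib.Helper40_UExist
import Cfsg.Agent.Lib.Helper40_MonicPoly

set_option autoImplicit false

/-!
Counting monic self-dual polynomials over the field with `q²` elements by Galois descent.
-/

namespace Cfsg.Agent.Lib.Helper40_UCount

open Polynomial Cfsg.Agent.Lib.Helper40_Palindromic Cfsg.Agent.Lib.Helper40_UExist
  Cfsg.Agent.Lib.Helper40_MonicPoly

section Descent

variable {K W : Type*} [Field K] [AddCommGroup W] [Module K W] (σ : K →+* K)

/-- Galois descent for a semilinear involution: the fixed points form a "real form". -/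
noncomputable def fixedEquiv (hinv : ∀ c, σ (σ c) = c) (θ : K) (hθ : σ θ ≠ θ) (τ : W → W)
    (hadd : ∀ x y, τ (x + y) = τ x + τ y) (hsmul : ∀ (c : K) (x : W), τ (c • x) = σ c • τ x)
    (hττ : ∀ x, τ (τ x) = x) :
    ({w : W // τ w = w} × {w : W // τ w = w}) ≃ W where
  toFun s := (s.1 : W) + θ • (s.2 : W)
  invFun w := (⟨w - θ • ((θ - σ θ)⁻¹ • (w - τ w)), by
      have hd : θ - σ θ ≠ 0 := fun h => hθ (sub_eq_zero.1 h).symm
      have hneg : ∀ x, τ (-x) = - τ x := by
        intro x
        have h1 := hadd x (-x)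
        have h0 : τ 0 = 0 := by
          have := hadd 0 0
          rw [add_zero] at this
          exact left_eq_add.1 this
        rw [add_neg_cancel, h0] at h1
        exact eq_neg_of_add_eq_zero_right h1.symm
      have hsub : ∀ x y, τ (x - y) = τ x - τ y := by
        intro x y
        rw [sub_eq_add_neg, hadd, hneg, ← sub_eq_add_neg]
      rw [hsub, hsmul, hsmul, hsub, hττ, map_inv₀, map_sub, hinv]
      have h2 : (σ θ - θ)⁻¹ • (τ w - w) = (θ - σ θ)⁻¹ • (w - τ w) := by
        rw [← neg_sub θ (σ θ), ← neg_sub w (τ w), inv_neg, neg_smul, smul_neg, neg_neg]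
      rw [h2]
      have h3 : ∀ c : K, c • (θ - σ θ)⁻¹ • (w - τ w) = (c * (θ - σ θ)⁻¹) • (w - τ w) :=
        fun c => smul_smul _ _ _
      rw [h3, h3, sub_eq_sub_iff_add_eq_add, ← sub_eq_iff_eq_add, add_sub_assoc, ← sub_smul,
        ← sub_mul, mul_inv_cancel₀ hd, one_smul]
      abel⟩,
    ⟨(θ - σ θ)⁻¹ • (w - τ w), by
      have hneg : ∀ x, τ (-x) = - τ x := by
        intro x
        have h1 := hadd x (-x)
        have h0 : τ 0 = 0 := by
          have := hadd 0 0
          rw [add_zero] at this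
          exact left_eq_add.1 this
        rw [add_neg_cancel, h0] at h1
        exact eq_neg_of_add_eq_zero_right h1.symm
      have hsub : ∀ x y, τ (x - y) = τ x - τ y := by
        intro x y
        rw [sub_eq_add_neg, hadd, hneg, ← sub_eq_add_neg]
      rw [hsmul, hsub, hττ, map_inv₀, map_sub, hinv,
        ← neg_sub θ (σ θ), ← neg_sub w (τ w), inv_neg, neg_smul, smul_neg, neg_neg]⟩)
  left_inv s := by
    have hd : θ - σ θ ≠ 0 := fun h => hθ (sub_eq_zero.1 h).symm
    have h1 : (s.1 : W) + θ • (s.2 : W) - τ ((s.1 : W) + θ • (s.2 : W)) =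
        (θ - σ θ) • (s.2 : W) := by
      rw [hadd, hsmul, s.1.2, s.2.2, sub_smul]
      abel
    apply Prod.ext
    · apply Subtype.ext
      show (s.1 : W) + θ • (s.2 : W) - θ • ((θ - σ θ)⁻¹ •
        ((s.1 : W) + θ • (s.2 : W) - τ ((s.1 : W) + θ • (s.2 : W)))) = s.1
      rw [h1, smul_smul (θ - σ θ)⁻¹, inv_mul_cancel₀ hd, one_smul, add_sub_cancel_right]
    · apply Subtype.ext
      show (θ - σ θ)⁻¹ • ((s.1 : W) + θ • (s.2 : W) - τ ((s.1 : W) + θ • (s.2 : W))) = s.2
      rw [h1, smul_smul, inv_mul_cancel₀ hd, one_smul]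
  right_inv w := by
    show w - θ • ((θ - σ θ)⁻¹ • (w - τ w)) + θ • ((θ - σ θ)⁻¹ • (w - τ w)) = w
    rw [sub_add_cancel]

theorem card_fixed_mul_self (hinv : ∀ c, σ (σ c) = c) (θ : K) (hθ : σ θ ≠ θ) (τ : W → W)
    (hadd : ∀ x y, τ (x + y) = τ x + τ y) (hsmul : ∀ (c : K) (x : W), τ (c • x) = σ c • τ x)
    (hττ : ∀ x, τ (τ x) = x) :
    Nat.card {w : W // τ w = w} * Nat.card {w : W // τ w = w} = Nat.card W := by
  rw [← Nat.card_prod]
  exact Nat.card_congr (fixedEquiv σ hinv θ hθ τ hadd hsmul hττ)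

end Descent

section Coeff

universe v

variable {K : Type v} [Field K] (σ : K →+* K)

theorem udual_coeff (c : K[X]) (i : ℕ) (hi : i ≤ c.natDegree) :
    (udual σ c).coeff i = (σ (c.coeff 0))⁻¹ * σ (c.coeff (c.natDegree - i)) := by
  unfold udual recip
  rw [coeff_C_mul, coeff_reverse, natDegree_map, revAt_le hi, coeff_map, coeff_map]

theorem udual_eq_iff (c : K[X]) (n : ℕ) (hn : c.natDegree = n) (ε : K) (hε : ε * ε = 1)
    (hσε : σ ε = ε) (h0 : c.coeff 0 = ε) :
    udual σ c = c ↔ ∀ i ≤ n, c.coeff i = ε * σ (c.coeff (n - i)) := by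
  have hεinv : ε⁻¹ = ε := inv_eq_of_mul_eq_one_right hε
  have hε0 : ε ≠ 0 := by
    rintro rfl
    rw [mul_zero] at hε
    exact zero_ne_one hε
  constructor
  · intro h i hi
    have h1 := udual_coeff σ c i (hn ▸ hi)
    rw [h, h0, hσε, hεinv, hn] at h1
    exact h1
  · intro h
    ext i
    by_cases hi : i ≤ n
    · rw [udual_coeff σ c i (hn ▸ hi), h0, hσε, hεinv, hn, ← h i hi]
    · have h1 : (udual σ c).natDegree = n := by
        rw [udual_natDegree σ c (by rw [h0]; exact hε0), hn]
      rw [coeff_eq_zero_of_natDegree_lt (by omega), coeff_eq_zero_of_natDegree_lt (by omega)]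

variable (ε : K) (m : ℕ)

/-- the semilinear involution on coefficient vectors -/
def tauMap (w : Fin m → K) : Fin m → K := fun j => ε * σ (w (Fin.rev j))

/-- self-dual monic polynomials of degree `m + 1` with constant coefficient `ε` correspond to
fixed points of the semilinear involution on the middle coefficients -/
noncomputable def selfDualEquiv (hε : ε * ε = 1) (hσε : σ ε = ε) :
    {c : K[X] // c.Monic ∧ c.natDegree = m + 1 ∧ c.coeff 0 = ε ∧ udual σ c = c} ≃
      {w : Fin m → K // tauMap σ ε m w = w} where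
  toFun c := ⟨fun j => c.1.coeff ((j : ℕ) + 1), by
    funext j
    have h1 := (udual_eq_iff σ c.1 (m + 1) c.2.2.1 ε hε hσε c.2.2.2.1).1 c.2.2.2.2
      ((j : ℕ) + 1) (by have := j.2; omega)
    unfold tauMap
    show ε * σ (c.1.coeff (((Fin.rev j : Fin m) : ℕ) + 1)) = c.1.coeff ((j : ℕ) + 1)
    rw [h1, Fin.val_rev]
    have h2 : m + 1 - ((j : ℕ) + 1) = m - ((j : ℕ) + 1) + 1 := by have := j.2; omega
    rw [h2]⟩
  invFun w := ⟨toPoly (m + 1) (Fin.cons ε w.1), toPoly_monic _ _, toPoly_natDegree _ _, by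
      have := toPoly_coeff (m + 1) (Fin.cons ε w.1 : Fin (m + 1) → K) 0
      rw [Fin.val_zero, Fin.cons_zero] at this
      exact this, by
      have hc0 : (toPoly (m + 1) (Fin.cons ε w.1 : Fin (m + 1) → K)).coeff 0 = ε := by
        have := toPoly_coeff (m + 1) (Fin.cons ε w.1 : Fin (m + 1) → K) 0
        rw [Fin.val_zero, Fin.cons_zero] at this
        exact this
      have hctop : (toPoly (m + 1) (Fin.cons ε w.1 : Fin (m + 1) → K)).coeff (m + 1) = 1 := by
        have h1 := toPoly_monic (m + 1) (Fin.cons ε w.1 : Fin (m + 1) → K)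
        have h2 := toPoly_natDegree (m + 1) (Fin.cons ε w.1 : Fin (m + 1) → K)
        unfold Monic leadingCoeff at h1
        rwa [h2] at h1
      have hcmid : ∀ j : Fin m, (toPoly (m + 1) (Fin.cons ε w.1 : Fin (m + 1) → K)).coeff
          ((j : ℕ) + 1) = w.1 j := by
        intro j
        have := toPoly_coeff (m + 1) (Fin.cons ε w.1 : Fin (m + 1) → K) j.succ
        rw [Fin.val_succ, Fin.cons_succ] at this
        exact this
      rw [udual_eq_iff σ _ (m + 1) (toPoly_natDegree _ _) ε hε hσε hc0]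
      intro i hi
      rcases Nat.eq_zero_or_pos i with rfl | hipos
      · rw [hc0, Nat.sub_zero, hctop, map_one, mul_one]
      · rcases Nat.lt_or_ge i (m + 1) with hlt | hge
        · have hw := congrFun w.2 ⟨i - 1, by omega⟩
          unfold tauMap at hw
          have e1 : i = ((⟨i - 1, by omega⟩ : Fin m) : ℕ) + 1 := by
            show i = i - 1 + 1
            omega
          have e2 : m + 1 - i = ((Fin.rev (⟨i - 1, by omega⟩ : Fin m) : Fin m) : ℕ) + 1 := by
            rw [Fin.val_rev]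
            show m + 1 - i = m - (i - 1 + 1) + 1
            omega
          rw [e2, hcmid]
          conv_lhs => rw [e1, hcmid]
          exact hw.symm
        · have hi' : i = m + 1 := by omega
          subst hi'
          rw [hctop, Nat.sub_self, hc0, hσε, hε]⟩
  left_inv c := by
    apply Subtype.ext
    show toPoly (m + 1) (Fin.cons ε (fun j : Fin m => c.1.coeff ((j : ℕ) + 1))) = c.1
    have h1 : (Fin.cons ε (fun j : Fin m => c.1.coeff ((j : ℕ) + 1)) : Fin (m + 1) → K) =
        fun i : Fin (m + 1) => c.1.coeff (i : ℕ) := by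
      funext i
      refine Fin.cases ?_ (fun j => ?_) i
      · rw [Fin.cons_zero, Fin.val_zero, c.2.2.2.1]
      · rw [Fin.cons_succ, Fin.val_succ]
    rw [h1]
    exact toPoly_coeffs (m + 1) c.1 c.2.1 c.2.2.1
  right_inv w := by
    apply Subtype.ext
    funext j
    show (toPoly (m + 1) (Fin.cons ε w.1 : Fin (m + 1) → K)).coeff ((j : ℕ) + 1) = w.1 j
    have := toPoly_coeff (m + 1) (Fin.cons ε w.1 : Fin (m + 1) → K) j.succ
    rw [Fin.val_succ, Fin.cons_succ] at this
    exact this

theorem card_selfDual [Fintype K] {q : ℕ} (hK : Fintype.card K = q ^ 2)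
    (hinv : ∀ c, σ (σ c) = c) (hσne : ∃ θ, σ θ ≠ θ) (hε : ε * ε = 1) (hσε : σ ε = ε) :
    Nat.card {c : K[X] // c.Monic ∧ c.natDegree = m + 1 ∧ c.coeff 0 = ε ∧ udual σ c = c} =
      q ^ m := by
  rw [Nat.card_congr (selfDualEquiv σ ε m hε hσε)]
  obtain ⟨θ, hθ⟩ := hσne
  have h1 := card_fixed_mul_self (W := Fin m → K) σ hinv θ hθ (tauMap σ ε m) ?_ ?_ ?_
  · rw [Nat.card_fun, Nat.card_fin, Nat.card_eq_fintype_card (α := K), hK, ← pow_mul,
      mul_comm 2 m, pow_mul, sq] at h1
    exact Nat.mul_self_inj.1 h1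
  · intro x y
    funext j
    simp only [tauMap, Pi.add_apply, map_add, mul_add]
  · intro c x
    funext j
    simp only [tauMap, Pi.smul_apply, smul_eq_mul, map_mul]
    ring
  · intro x
    funext j
    simp only [tauMap, map_mul, hinv, hσε, Fin.rev_rev]
    rw [← mul_assoc, hε, one_mul]

end Coeff

end Cfsg.Agent.Lib.Helper40_UCount
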