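import Mathlib
import Cfsg.Agent.Lib.Helper40_UExist
import Cfsg.Agent.Lib.Helper40_UCount
import Cfsg.Agent.Lib.Helper40_SpPrimeOrder

set_option autoImplicit false

/-!
The dual map on the irreducible factors of `X ^ r - 1` over the field with `q²` elements, and the
count of self-dual polynomials with such factors.
-/

namespace Cfsg.Agent.Lib.Helper40_UPrimeOrder

open Polynomial Module Cfsg.Agent.Lib.Helper40_Palindromic Cfsg.Agent.Lib.Helper40_SpExist
  Cfsg.Agent.Lib.Helper40_PolyFactors Cfsg.Agent.Lib.Helper40_PrimeOrderClasses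
  Cfsg.Agent.Lib.Helper40_UExist Cfsg.Agent.Lib.Helper40_SpPrimeOrder

universe v

variable {K : Type v} [Field K]

section Roots

/-- a root of `g` at `x⁻¹` is a root of the reciprocal polynomial at `x` -/
theorem aeval_recip_of_aeval_inv {L : Type*} [Field L] [Algebra K L] (g : K[X]) (x : L)
    (hx : x ≠ 0) (h : aeval x⁻¹ g = 0) : aeval x (recip g) = 0 := by
  have hx' : x⁻¹ ≠ 0 := inv_ne_zero hx
  let _ : Invertible x⁻¹ := invertibleOfNonzero hx'
  have h1 := (eval₂_reverse_eq_zero_iff (algebraMap K L) x⁻¹ g).2 (by rw [← aeval_def]; exact h)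
  rw [invOf_eq_inv, inv_inv] at h1
  unfold recip
  rw [map_mul, aeval_def _ g.reverse, h1, mul_zero]

theorem pow_q_pow_odd {q : ℕ} (c : K) (hc : c ^ (q ^ 2) = c) (t : ℕ) :
    c ^ (q ^ (2 * t + 1)) = c ^ q := by
  induction t with
  | zero => rw [mul_zero, zero_add, pow_one]
  | succ t ih =>
    have h1 : q ^ (2 * (t + 1) + 1) = q ^ 2 * q ^ (2 * t + 1) := by ring
    rw [h1, pow_mul, hc, ih]

theorem pow_q_pow_even {q : ℕ} (c : K) (hc : c ^ (q ^ 2) = c) (t : ℕ) :
    c ^ (q ^ (2 * t)) = c := by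
  induction t with
  | zero => rw [mul_zero, pow_zero, pow_one]
  | succ t ih =>
    have h1 : q ^ (2 * (t + 1)) = q ^ 2 * q ^ (2 * t) := by ring
    rw [h1, pow_mul, hc, ih]

end Roots

section SelfDual

variable [Fintype K] {q : ℕ} (σ : K →+* K)

omit [Fintype K] in
/-- the basic facts about the root of an irreducible factor `w ≠ X - 1` of `X ^ r - 1` -/
theorem root_facts (r : ℕ) (hr : r.Prime) (w : K[X]) (hwm : w.Monic) (hwi : Irreducible w)
    (hw1 : w ≠ X - 1) (hwd : w ∣ X ^ r - 1) :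
    AdjoinRoot.root w ≠ 0 ∧ (AdjoinRoot.root w) ^ r = 1 ∧ orderOf (AdjoinRoot.root w) = r := by
  have : Fact (Irreducible w) := ⟨hwi⟩
  have : Fact r.Prime := ⟨hr⟩
  have hw0 : w.coeff 0 ≠ 0 := coeff_zero_ne_zero_of_dvd r hr.pos w hwd
  set ρ := AdjoinRoot.root w with hρdef
  have hρ0 : ρ ≠ 0 := root_ne_zero w hw0
  have hρr : ρ ^ r = 1 := by
    obtain ⟨k, hk⟩ := hwd
    have h1 : aeval ρ (X ^ r - 1 : K[X]) = 0 := by
      rw [hk, map_mul, AdjoinRoot.aeval_eq, AdjoinRoot.mk_self, zero_mul]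
    rw [map_sub, map_pow, aeval_X, map_one] at h1
    exact sub_eq_zero.1 h1
  have hρ1 : ρ ≠ 1 := by
    intro h
    apply hw1
    have h1 : aeval ρ (X - 1 : K[X]) = 0 := by
      rw [map_sub, aeval_X, map_one, h, sub_self]
    rw [AdjoinRoot.aeval_eq, AdjoinRoot.mk_eq_zero] at h1
    have h2 : ((X : K[X]) - 1) = X - C 1 := by rw [map_one]
    rw [h2] at h1 ⊢
    exact eq_X_sub_C_of_dvd w hwm hwi 1 h1
  exact ⟨hρ0, hρr, orderOf_eq_prime hρr hρ1⟩

/-- `q` is a power of the characteristic -/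
theorem exists_q_eq_pow (p : ℕ) [Fact p.Prime] [CharP K p] (hK : Fintype.card K = q ^ 2) :
    ∃ m : ℕ, q = p ^ m := by
  have hp : p.Prime := Fact.out
  obtain ⟨f, _, hf⟩ := FiniteField.card K p
  have h1 : q ∣ p ^ (f : ℕ) := by
    rw [← hf, hK]
    exact dvd_pow_self q two_ne_zero
  obtain ⟨m, _, hm⟩ := (Nat.dvd_prime_pow hp).1 h1
  exact ⟨m, hm⟩

/-- if `i = ord_r(q) ≡ 2 (mod 4)` then every irreducible factor of `X ^ r - 1` over the field
with `q²` elements is self-dual -/
theorem udual_eq_of_mod4 (p : ℕ) [Fact p.Prime] [CharP K p] (hK : Fintype.card K = q ^ 2)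
    (hσq : ∀ x, σ x = x ^ q) (r i : ℕ) (hr : r.Prime) (hi : i = orderOf ((q : ℕ) : ZMod r))
    (hi4 : i % 4 = 2) (w : K[X]) (hwm : w.Monic) (hwi : Irreducible w) (hw1 : w ≠ X - 1)
    (hwd : w ∣ X ^ r - 1) : udual σ w = w := by
  have hp : p.Prime := Fact.out
  have : Fact r.Prime := ⟨hr⟩
  have : Fact (Irreducible w) := ⟨hwi⟩
  obtain ⟨m, hqm⟩ := exists_q_eq_pow (K := K) p hK
  have hw0 : w.coeff 0 ≠ 0 := coeff_zero_ne_zero_of_dvd r hr.pos w hwd
  obtain ⟨hρ0, hρr, hord⟩ := root_facts r hr w hwm hwi hw1 hwd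
  set ρ := AdjoinRoot.root w with hρdef
  -- `i = 2 j` with `j` odd
  obtain ⟨t, ht⟩ : ∃ t, i = 2 * (2 * t + 1) := ⟨i / 4, by omega⟩
  set j := 2 * t + 1 with hj
  have hz : ((q : ℕ) : ZMod r) ^ j = -1 := by
    set z := ((q : ℕ) : ZMod r) ^ j with hzdef
    have hz2 : z * z = 1 := by
      rw [hzdef, ← pow_add, ← two_mul, ← ht, hi, pow_orderOf_eq_one]
    have hz1 : z ≠ 1 := by
      intro h
      have := orderOf_dvd_of_pow_eq_one h
      rw [← hi] at this
      have := Nat.le_of_dvd (by omega) this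
      omega
    have h3 : (z - 1) * (z + 1) = 0 := by ring_nf; rw [sq, hz2]; ring
    rcases mul_eq_zero.1 h3 with h | h
    · exact absurd (sub_eq_zero.1 h) hz1
    · exact eq_neg_of_add_eq_zero_left h
  set e := q ^ j with he
  have hre : r ∣ e + 1 := by
    rw [← ZMod.natCast_eq_zero_iff]
    push_cast
    rw [he]
    push_cast
    rw [hz, neg_add_cancel]
  have hρe : ρ ^ e = ρ⁻¹ := by
    have h1 : ρ ^ (e + 1) = 1 := by
      obtain ⟨k, hk⟩ := hre
      rw [hk, pow_mul, hρr, one_pow]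
    rw [pow_succ] at h1
    exact eq_inv_of_mul_eq_one_left h1
  have : CharP (AdjoinRoot w) p :=
    charP_of_injective_algebraMap (algebraMap K (AdjoinRoot w)).injective p
  have hee : e = p ^ (m * j) := by rw [he, hqm, pow_mul]
  let φ : AdjoinRoot w →+* AdjoinRoot w := iterateFrobenius (AdjoinRoot w) p (m * j)
  have hφ : ∀ x, φ x = x ^ e := by
    intro x
    rw [hee]
    rfl
  have hcq : ∀ c : K, c ^ (q ^ 2) = c := by
    intro c
    rw [← hK]
    exact FiniteField.pow_card c
  have hφalg : φ.comp (algebraMap K (AdjoinRoot w)) = (algebraMap K (AdjoinRoot w)).comp σ := by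
    apply RingHom.ext
    intro a
    rw [RingHom.comp_apply, RingHom.comp_apply, hφ, ← map_pow, he, hj,
      pow_q_pow_odd a (hcq a) t, hσq]
  have hroot : aeval ρ⁻¹ (w.map σ) = 0 := by
    have h1 : aeval ρ w = 0 := by rw [AdjoinRoot.aeval_eq, AdjoinRoot.mk_self]
    have h2 := congrArg φ h1
    rw [aeval_def, hom_eval₂, hφalg, hφ, hρe, map_zero, ← Polynomial.eval₂_map] at h2
    rw [aeval_def]
    exact h2
  have hroot' : aeval ρ (udual σ w) = 0 := aeval_recip_of_aeval_inv _ ρ hρ0 hroot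
  have hroot'' : aeval ρ w = 0 := by rw [AdjoinRoot.aeval_eq, AdjoinRoot.mk_self]
  exact (minpoly.eq_of_irreducible_of_monic (udual_irreducible σ
    (fun c => by rw [hσq, hσq, ← pow_mul, ← sq]; exact hcq c) w hwi hw0) hroot'
    (udual_monic σ w hw0)).trans (minpoly.eq_of_irreducible_of_monic hwi hroot'' hwm).symm

/-- a self-dual irreducible factor `≠ X - 1` of `X ^ r - 1` forces `ord_r(q) ≡ 2 (mod 4)` -/
theorem mod4_of_udual_eq (p : ℕ) [Fact p.Prime] [CharP K p] (hK : Fintype.card K = q ^ 2)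
    (hσq : ∀ x, σ x = x ^ q) (hσne : ∃ θ, σ θ ≠ θ) (r i : ℕ) (hr : r.Prime) (hr2 : r ≠ 2)
    (hi : i = orderOf ((q : ℕ) : ZMod r)) (w : K[X]) (hwm : w.Monic) (hwi : Irreducible w)
    (hw1 : w ≠ X - 1) (hwd : w ∣ X ^ r - 1) (hd : udual σ w = w) : i % 4 = 2 := by
  classical
  have hp : p.Prime := Fact.out
  have : Fact r.Prime := ⟨hr⟩
  have : Fact (Irreducible w) := ⟨hwi⟩
  obtain ⟨m, hqm⟩ := exists_q_eq_pow (K := K) p hK
  have hcq : ∀ c : K, c ^ (q ^ 2) = c := by
    intro c
    rw [← hK]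
    exact FiniteField.pow_card c
  have hinv : ∀ c, σ (σ c) = c := fun c => by
    rw [hσq, hσq, ← pow_mul, ← sq]
    exact hcq c
  have hw0 : w.coeff 0 ≠ 0 := coeff_zero_ne_zero_of_dvd r hr.pos w hwd
  obtain ⟨hρ0, hρr, hord⟩ := root_facts r hr w hwm hwi hw1 hwd
  set ρ := AdjoinRoot.root w with hρdef
  have hfinm : Module.Finite K (AdjoinRoot w) := hwm.finite_adjoinRoot
  have hfinL : Finite (AdjoinRoot w) := Module.finite_of_finite K
  have hftL : Fintype (AdjoinRoot w) := Fintype.ofFinite _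
  obtain ⟨σL, hσof, hσρ, hσσ⟩ := exists_field_involution hinv w hwm hw0 hd
  set b := w.natDegree with hbdef
  have hbpos : 0 < b := hwi.natDegree_pos
  have hq2 : 2 ≤ q := by
    by_contra hlt
    have h1 : q ≤ 1 := by omega
    have h2 : Fintype.card K ≤ 1 := by
      rw [hK]
      calc q ^ 2 ≤ 1 ^ 2 := Nat.pow_le_pow_left h1 2
        _ = 1 := one_pow 2
    have := Fintype.one_lt_card (α := K)
    omega
  have hcardL : Nat.card (AdjoinRoot w) = (q ^ 2) ^ b := by
    rw [Module.natCard_eq_pow_finrank (K := K), (AdjoinRoot.powerBasis hwm.ne_zero).finrank,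
      AdjoinRoot.powerBasis_dim, Nat.card_eq_fintype_card, hK]
  have hsmul : ∀ (c : K) (x : AdjoinRoot w), σL (c • x) = σ c • σL x := by
    intro c x
    rw [Algebra.smul_def, Algebra.smul_def, map_mul, AdjoinRoot.algebraMap_eq, hσof]
  obtain ⟨θ, hθ⟩ := hσne
  have hfix := Helper40_UCount.card_fixed_mul_self (W := AdjoinRoot w) σ hinv θ hθ σL
    (map_add σL) hsmul hσσ
  set E := q ^ b with hE
  have hL₀card : Nat.card {x : AdjoinRoot w // σL x = x} = E := by
    rw [hcardL, ← pow_mul, mul_comm 2 b, pow_mul, sq] at hfix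
    exact Nat.mul_self_inj.1 hfix
  have hE1 : 1 < E := Nat.one_lt_pow hbpos.ne' (by omega)
  -- the fixed field
  let L₀ : Subfield (AdjoinRoot w) := σL.eqLocusField (RingHom.id (AdjoinRoot w))
  have hL₀pow : ∀ x : AdjoinRoot w, σL x = x → x ^ E = x := by
    intro x hx
    have hft : Fintype L₀ := Fintype.ofFinite _
    have h2 : Fintype.card L₀ = E := by
      rw [← Nat.card_eq_fintype_card]
      exact hL₀card
    have h1 := FiniteField.pow_card (⟨x, hx⟩ : L₀)
    rw [h2] at h1
    exact congrArg Subtype.val h1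
  have hconv : ∀ x : AdjoinRoot w, x ^ E = x → σL x = x := by
    set S₀ : Finset (AdjoinRoot w) := Finset.univ.filter (fun x => σL x = x) with hS₀
    set S₁ : Finset (AdjoinRoot w) := Finset.univ.filter (fun x => x ^ E = x) with hS₁
    have hsub : S₀ ⊆ S₁ := by
      intro x hx
      rw [hS₀, Finset.mem_filter] at hx
      rw [hS₁, Finset.mem_filter]
      exact ⟨Finset.mem_univ _, hL₀pow x hx.2⟩
    have hdeg : (X ^ E - X : (AdjoinRoot w)[X]).natDegree = E :=
      FiniteField.X_pow_card_sub_X_natDegree_eq _ hE1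
    have hne : (X ^ E - X : (AdjoinRoot w)[X]) ≠ 0 := by
      intro h0
      rw [h0, natDegree_zero] at hdeg
      omega
    have hS₁card : S₁.card ≤ E := by
      have h1 : S₁ ⊆ (X ^ E - X : (AdjoinRoot w)[X]).roots.toFinset := by
        intro x hx
        rw [hS₁, Finset.mem_filter] at hx
        rw [Multiset.mem_toFinset, mem_roots hne, IsRoot.def, eval_sub, eval_pow, eval_X, hx.2,
          sub_self]
      calc S₁.card ≤ (X ^ E - X : (AdjoinRoot w)[X]).roots.toFinset.card := Finset.card_le_card h1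
        _ ≤ Multiset.card (X ^ E - X : (AdjoinRoot w)[X]).roots := Multiset.toFinset_card_le _
        _ ≤ (X ^ E - X : (AdjoinRoot w)[X]).natDegree := card_roots' _
        _ = E := hdeg
    have hS₀card : S₀.card = E := by
      rw [← hL₀card, Nat.card_eq_fintype_card, Fintype.card_subtype]
    have heq : S₀ = S₁ := Finset.eq_of_subset_of_card_le hsub (by rw [hS₀card]; exact hS₁card)
    intro x hx
    have : x ∈ S₁ := by
      rw [hS₁, Finset.mem_filter]
      exact ⟨Finset.mem_univ _, hx⟩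
    rw [← heq, hS₀, Finset.mem_filter] at this
    exact this.2
  -- the Frobenius
  have : CharP (AdjoinRoot w) p :=
    charP_of_injective_algebraMap (algebraMap K (AdjoinRoot w)).injective p
  have hEp : E = p ^ (m * b) := by rw [hE, hqm, pow_mul]
  let φ : AdjoinRoot w →+* AdjoinRoot w := iterateFrobenius (AdjoinRoot w) p (m * b)
  have hφ : ∀ x, φ x = x ^ E := by
    intro x
    rw [hEp]
    rfl
  have hkey : ∀ x : AdjoinRoot w, σL x = x ^ E := by
    intro x
    have hs : φ x + φ (σL x) = x + σL x := by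
      rw [← map_add, hφ]
      apply hL₀pow
      rw [map_add, hσσ, add_comm]
    have hn : φ x * φ (σL x) = x * σL x := by
      rw [← map_mul, hφ]
      apply hL₀pow
      rw [map_mul, hσσ, mul_comm]
    have hP : (φ x - x) * (φ x - σL x) = 0 := by
      have h1 : (φ x - x) * (φ x - σL x) = φ x * φ x - (x + σL x) * φ x + x * σL x := by ring
      rw [h1, ← hs, ← hn]
      ring
    rcases mul_eq_zero.1 hP with h | h
    · have h2 : x ^ E = x := by rw [← hφ]; exact sub_eq_zero.1 h
      rw [hconv x h2, h2]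
    · rw [← hφ]
      exact (sub_eq_zero.1 h).symm
  -- `b` is odd
  have hbodd : Odd b := by
    by_contra hbe
    rw [Nat.not_odd_iff_even] at hbe
    obtain ⟨t, ht⟩ := hbe
    apply hθ
    have h1 := hkey (AdjoinRoot.of w θ)
    rw [hσof, ← map_pow] at h1
    have h2 : θ ^ E = θ := by
      rw [hE, ht, ← two_mul]
      exact pow_q_pow_even θ (hcq θ) t
    rw [h2] at h1
    exact (AdjoinRoot.of w).injective h1
  have hρE : ρ ^ (E + 1) = 1 := by
    rw [pow_succ, ← hkey, hσρ, inv_mul_cancel₀ hρ0]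
  have hrE : r ∣ E + 1 := by
    rw [← hord]
    exact orderOf_dvd_of_pow_eq_one hρE
  have hz : ((q : ℕ) : ZMod r) ^ b = -1 := by
    have h1 : ((E + 1 : ℕ) : ZMod r) = 0 := (ZMod.natCast_eq_zero_iff _ _).2 hrE
    rw [hE] at h1
    push_cast at h1
    exact eq_neg_of_add_eq_zero_left h1
  have hi2b : i ∣ 2 * b := by
    rw [hi]
    apply orderOf_dvd_of_pow_eq_one
    rw [mul_comm, pow_mul, hz, neg_one_sq]
  have hib : ¬ i ∣ b := by
    intro hdvd
    have h1 : ((q : ℕ) : ZMod r) ^ b = 1 := by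
      rw [hi] at hdvd
      exact orderOf_dvd_iff_pow_eq_one.1 hdvd
    rw [hz] at h1
    have h2 : ((2 : ℕ) : ZMod r) = 0 := by
      push_cast
      linear_combination -h1
    have h3 : r ∣ 2 := (ZMod.natCast_eq_zero_iff 2 r).1 h2
    exact hr2 ((Nat.prime_dvd_prime_iff_eq hr Nat.prime_two).1 h3)
  obtain ⟨t, ht⟩ := hbodd
  rcases Nat.even_or_odd i with hie | hio
  · obtain ⟨j, hj⟩ := hie
    have hjb : j ∣ b := by
      have h1 : 2 * j ∣ 2 * b := by
        rw [two_mul, ← hj]
        exact hi2b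
      exact Nat.dvd_of_mul_dvd_mul_left two_pos h1
    have hjodd : Odd j := Odd.of_dvd_nat ⟨t, ht⟩ hjb
    obtain ⟨u, hu⟩ := hjodd
    omega
  · exfalso
    apply hib
    exact (Nat.Coprime.dvd_of_dvd_mul_left (Nat.Coprime.symm
      (Nat.coprime_two_left.2 hio)) hi2b)

end SelfDual

section DualAlgebra

variable (σ : K →+* K)

theorem udual_one : udual σ (1 : K[X]) = 1 := by
  unfold udual
  rw [Polynomial.map_one, recip_one]

theorem udual_pow (f : K[X]) (n : ℕ) : udual σ (f ^ n) = udual σ f ^ n := by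
  unfold udual
  rw [Polynomial.map_pow, recip_pow']

theorem udual_prod {ι : Type*} (s : Finset ι) (g : ι → K[X]) :
    udual σ (∏ x ∈ s, g x) = ∏ x ∈ s, udual σ (g x) := by
  unfold udual
  rw [Polynomial.map_prod, recip_prod']

theorem udual_X_pow_sub_one (r : ℕ) (hr : 0 < r) : udual σ ((X : K[X]) ^ r - 1) = X ^ r - 1 := by
  unfold udual
  rw [Polynomial.map_sub, Polynomial.map_pow, map_X, Polynomial.map_one,
    recip_X_pow_sub_one r hr]

theorem udual_X_sub_one : udual σ ((X : K[X]) - 1) = X - 1 := by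
  have := udual_X_pow_sub_one σ 1 one_pos
  rwa [pow_one] at this

end DualAlgebra

section Count

variable [Fintype K] {q : ℕ} (σ : K →+* K)

/-- the number of monic self-dual polynomials of degree `n` all of whose irreducible factors
divide `X ^ r - 1` -/
theorem card_udual_polys (p : ℕ) [Fact p.Prime] [CharP K p] (hK : Fintype.card K = q ^ 2)
    (hσq : ∀ x, σ x = x ^ q) (hσne : ∃ θ, σ θ ≠ θ) (n r i b s : ℕ)
    (hr : r.Prime) (hr2 : r ≠ 2) (hrp : r ≠ p) (hi : i = orderOf ((q : ℕ) : ZMod r))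
    (hb : b = orderOf ((Fintype.card K : ℕ) : ZMod r)) (hs : s * b = r - 1) :
    Nat.card {c : K[X] // c.Monic ∧ c.natDegree = n ∧ udual σ c = c ∧
      ∀ f, Irreducible f → f ∣ c → f ∣ X ^ r - 1} =
      if i % 4 = 2 then (n / b + s).choose s else (n / (2 * b) + s / 2).choose (s / 2) := by
  classical
  obtain ⟨hbpos, W, hWcard, hW, hWall⟩ := exists_cyclotomic_factors (F := K) p r hr hrp
  rw [← hb] at hbpos hWcard hW
  have hWs : W.card = s := by
    rw [hWcard, ← hs]
    exact Nat.mul_div_cancel s hbpos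
  have hcq : ∀ c : K, c ^ (q ^ 2) = c := by
    intro c
    rw [← hK]
    exact FiniteField.pow_card c
  have hinv : ∀ c, σ (σ c) = c := fun c => by
    rw [hσq, hσq, ← pow_mul, ← sq]
    exact hcq c
  have hl := X_sub_one_props (F := K)
  have hW' : ∀ w ∈ W, w.Monic ∧ Irreducible w ∧ w ≠ X - 1 :=
    fun w hw => ⟨(hW w hw).1, (hW w hw).2.1, (hW w hw).2.2.1⟩
  have hw0 : ∀ w ∈ W, w.coeff 0 ≠ 0 :=
    fun w hw => coeff_zero_ne_zero_of_dvd r hr.pos w (hW w hw).2.2.2.1
  have hdeg : ∀ (a : ℕ) (b' : ↥W → ℕ), (psi W (X - 1) a b').natDegree = a + b * ∑ x, b' x := by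
    intro a b'
    rw [psi_natDegree W (X - 1) hl hW', natDegree_X_sub_one, mul_one, Finset.mul_sum]
    congr 1
    apply Finset.sum_congr rfl
    intro w _
    rw [(hW w w.2).2.2.2.2, mul_comm]
  have hudual_psi : ∀ (a : ℕ) (b' : ↥W → ℕ), udual σ (psi W (X - 1) a b') =
      (X - 1) ^ a * ∏ w : ↥W, udual σ (w : K[X]) ^ b' w := by
    intro a b'
    unfold psi
    rw [udual_mul, udual_pow, udual_X_sub_one, udual_prod]
    congr 1
    apply Finset.prod_congr rfl
    intro w _
    rw [udual_pow]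
  split_ifs with hi4
  · -- every factor is self-dual
    rw [← card_polys p n r b s hr hrp hb hs]
    apply Nat.card_congr
    apply Equiv.subtypeEquivRight
    intro c
    constructor
    · rintro ⟨h1, h2, _, h4⟩
      exact ⟨h1, h2, h4⟩
    · rintro ⟨hcm, hcn, hcf⟩
      refine ⟨hcm, hcn, ?_, hcf⟩
      obtain ⟨a, b', hab⟩ := psi_surj W (X - 1) hl hW' n c hcm hcn
        (fun f hfm hfi hfd => hWall f hfm hfi (hcf f hfi hfd))
      rw [hab, hudual_psi]
      unfold psi
      congr 1
      apply Finset.prod_congr rfl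
      intro w _
      obtain ⟨hwm, hwi, hw1, hwd, _⟩ := hW w w.2
      rw [udual_eq_of_mod4 σ p hK hσq r i hr hi hi4 w hwm hwi hw1 hwd]
  · -- the dual is a fixed-point-free involution on `W`
    have hmemσ : ∀ w ∈ W, udual σ w ∈ W := by
      intro w hw
      obtain ⟨hwm, hwi, hw1, hwd, _⟩ := hW w hw
      have h0 := hw0 w hw
      have hd : udual σ w ∣ X ^ r - 1 := by
        have := udual_dvd σ hwd
        rwa [udual_X_pow_sub_one σ r hr.pos] at this
      rcases hWall (udual σ w) (udual_monic σ w h0) (udual_irreducible σ hinv w hwi h0) hd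
        with h | h
      · exfalso
        apply hw1
        rw [← udual_udual σ hinv w hwm h0, h, udual_X_sub_one]
      · exact h
    have hinvσ : ∀ w ∈ W, udual σ (udual σ w) = w :=
      fun w hw => udual_udual σ hinv w (hW w hw).1 (hw0 w hw)
    have hfixσ : ∀ w ∈ W, udual σ w ≠ w := fun w hw hfix =>
      hi4 (mod4_of_udual_eq σ p hK hσq hσne r i hr hr2 hi w (hW w hw).1 (hW w hw).2.1
        (hW w hw).2.2.1 (hW w hw).2.2.2.1 hfix)
    obtain ⟨W₀, hsub, hdisj, hunion⟩ :=
      exists_transversal (udual σ) W.card W rfl hmemσ hinvσ hfixσ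
    obtain ⟨ε, hεl, hεr⟩ := exists_splitEquiv (udual σ) W W₀ hsub hdisj hunion hinvσ hmemσ
    have hW₀card : W₀.card = s / 2 := by
      have h1 : (W₀.image (udual σ)).card = W₀.card := by
        apply Finset.card_image_of_injOn
        intro x hx y hy hxy
        have := congrArg (udual σ) hxy
        rwa [hinvσ x (hsub hx), hinvσ y (hsub hy)] at this
      have h2 := Finset.card_union_of_disjoint hdisj
      rw [hunion, h1, hWs] at h2
      omega
    have hsplit_prod : ∀ G : ↥W → K[X], ∏ w : ↥W, G w =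
        (∏ w : ↥W₀, G (ε.symm (Sum.inl w))) * ∏ w : ↥W₀, G (ε.symm (Sum.inr w)) := by
      intro G
      rw [← Equiv.prod_comp ε.symm G, Fintype.prod_sum_type]
    have hsplit_sum : ∀ b' : ↥W → ℕ, ∑ w : ↥W, b' w =
        (∑ w : ↥W₀, b' (ε.symm (Sum.inl w))) + ∑ w : ↥W₀, b' (ε.symm (Sum.inr w)) := by
      intro b'
      rw [← Equiv.sum_comp ε.symm b', Fintype.sum_sum_type]
    -- extension of exponent vectors
    let ext : (↥W₀ → ℕ) → (↥W → ℕ) := fun b' v => Sum.elim b' b' (ε v)
    have hext : ∀ (b' : ↥W₀ → ℕ) (x : ↥W₀ ⊕ ↥W₀), ext b' (ε.symm x) = Sum.elim b' b' x := by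
      intro b' x
      show Sum.elim b' b' (ε (ε.symm x)) = _
      rw [Equiv.apply_symm_apply]
    have hsum_ext : ∀ b' : ↥W₀ → ℕ, ∑ w : ↥W, ext b' w = 2 * ∑ w : ↥W₀, b' w := by
      intro b'
      rw [hsplit_sum]
      simp only [hext, Sum.elim_inl, Sum.elim_inr]
      ring
    have hpsi_ext : ∀ (a : ℕ) (b' : ↥W₀ → ℕ), psi W (X - 1) a (ext b') =
        (X - 1) ^ a * ∏ w : ↥W₀, ((w : K[X]) * udual σ (w : K[X])) ^ b' w := by
      intro a b'
      unfold psi
      rw [hsplit_prod]
      simp only [hext, Sum.elim_inl, Sum.elim_inr, hεl, hεr]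
      rw [← Finset.prod_mul_distrib]
      congr 1
      apply Finset.prod_congr rfl
      intro w _
      rw [mul_pow]
    let Φ : {b' : ↥W₀ → ℕ // (2 * b) * ∑ x, b' x ≤ n} → {c : K[X] // c.Monic ∧
        c.natDegree = n ∧ udual σ c = c ∧ ∀ f, Irreducible f → f ∣ c → f ∣ X ^ r - 1} := fun b' =>
      ⟨psi W (X - 1) (n - (2 * b) * ∑ x, b'.1 x) (ext b'.1), psi_monic W (X - 1) hl hW' _ _, by
        rw [hdeg, hsum_ext]
        have := b'.2
        have h2 : b * (2 * ∑ x, b'.1 x) = (2 * b) * ∑ x, b'.1 x := by ring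
        omega, by
        rw [hpsi_ext, udual_mul, udual_pow, udual_X_sub_one, udual_prod]
        congr 1
        apply Finset.prod_congr rfl
        intro w _
        rw [udual_pow, udual_mul, hinvσ w (hsub w.2), mul_comm], by
        intro f hf hfd
        rcases psi_factor W (X - 1) _ _ f hf hfd with h | ⟨w, hw, h⟩
        · exact h.trans (X_sub_one_dvd r hr)
        · exact h.trans (hW w hw).2.2.2.1⟩
    have hΦ : Function.Bijective Φ := by
      constructor
      · intro b' b'' h
        apply Subtype.ext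
        have h1 := psi_inj W (X - 1) hl hW' _ _ _ _ (congrArg Subtype.val h)
        funext w
        have h2 := congrFun h1 (ε.symm (Sum.inl w))
        rwa [hext, hext] at h2
      · rintro ⟨c, hcm, hcn, hdual, hcf⟩
        obtain ⟨a, b', hab⟩ := psi_surj W (X - 1) hl hW' n c hcm hcn
          (fun f hfm hfi hfd => hWall f hfm hfi (hcf f hfi hfd))
        -- invariance of the exponents under the dual map
        let σ' : Equiv.Perm ↥W :=
          { toFun := fun w => ⟨udual σ w, hmemσ w w.2⟩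
            invFun := fun w => ⟨udual σ w, hmemσ w w.2⟩
            left_inv := fun w => Subtype.ext (hinvσ w w.2)
            right_inv := fun w => Subtype.ext (hinvσ w w.2) }
        have hσσ : ∀ w, σ' (σ' w) = w := fun w => Subtype.ext (hinvσ w w.2)
        have hrpsi : udual σ (psi W (X - 1) a b') = psi W (X - 1) a (b' ∘ σ') := by
          rw [hudual_psi]
          unfold psi
          congr 1
          rw [← Equiv.prod_comp σ' (fun w : ↥W => (w : K[X]) ^ (b' ∘ σ') w)]
          apply Finset.prod_congr rfl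
          intro w _
          rw [Function.comp_apply, hσσ]
          rfl
        have hbσ : ∀ w, b' (σ' w) = b' w := by
          have h1 : psi W (X - 1) a b' = psi W (X - 1) a (b' ∘ σ') := by
            rw [← hrpsi, ← hab, hdual]
          have h2 := psi_inj W (X - 1) hl hW' _ _ _ _ h1
          intro w
          exact (congrFun h2 w).symm
        have hbext : ext (fun w => b' (ε.symm (Sum.inl w))) = b' := by
          funext v
          obtain ⟨x, rfl⟩ := ε.symm.surjective v
          rw [hext]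
          cases x with
          | inl w => rfl
          | inr w =>
            have h3 : ε.symm (Sum.inr w) = σ' (ε.symm (Sum.inl w)) := by
              apply Subtype.ext
              show _ = udual σ ((ε.symm (Sum.inl w) : ↥W) : K[X])
              rw [hεr, hεl]
            rw [Sum.elim_inr, h3, hbσ]
        have hd := hdeg a b'
        rw [← hab, hcn, ← hbext, hsum_ext] at hd
        have h2 : b * (2 * ∑ w : ↥W₀, b' (ε.symm (Sum.inl w))) =
            (2 * b) * ∑ w : ↥W₀, b' (ε.symm (Sum.inl w)) := by ring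
        have h3 : (2 * b) * ∑ w : ↥W₀, b' (ε.symm (Sum.inl w)) ≤ n := by omega
        refine ⟨⟨fun w => b' (ε.symm (Sum.inl w)), h3⟩, ?_⟩
        apply Subtype.ext
        show psi W (X - 1) (n - (2 * b) * ∑ w : ↥W₀, b' (ε.symm (Sum.inl w)))
          (ext fun w => b' (ε.symm (Sum.inl w))) = c
        rw [hab, hbext]
        congr 1
        omega
    rw [← Nat.card_congr (Equiv.ofBijective Φ hΦ),
      Helper40_TupleCount.card_mul_sum_le _ (2 * b) n (by omega), Fintype.card_coe, hW₀card]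

end Count

end Cfsg.Agent.Lib.Helper40_UPrimeOrder
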