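import Mathlib

set_option autoImplicit false

/-!
Projective orders of matrices: `HasPOrd M a` says that the powers of `M` that are scalar matrices
are exactly the `a`-th powers.  The bridge to element orders of `PSL_n(F)`, and the "commuting
idempotent" trick producing elements of `r` times the order.
-/

namespace Cfsg.Agent.Lib.Helper40_ProjOrd

open Matrix Polynomial

section basic

variable {F : Type*} [Field F] {ι : Type*} [Fintype ι] [DecidableEq ι]

/-- scalar matrices -/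
def IsScalarMat (M : Matrix ι ι F) : Prop := ∃ c : F, M = c • (1 : Matrix ι ι F)

omit [Fintype ι] in
theorem isScalarMat_one : IsScalarMat (1 : Matrix ι ι F) := ⟨1, (one_smul _ _).symm⟩

omit [Fintype ι] in
theorem isScalarMat_smul_one (c : F) : IsScalarMat (c • (1 : Matrix ι ι F)) := ⟨c, rfl⟩

theorem IsScalarMat.mul {M N : Matrix ι ι F} (hM : IsScalarMat M) (hN : IsScalarMat N) :
    IsScalarMat (M * N) := by
  obtain ⟨c, rfl⟩ := hM
  obtain ⟨d, rfl⟩ := hN
  exact ⟨c * d, by rw [smul_mul_smul_comm, mul_one]⟩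

theorem IsScalarMat.pow {M : Matrix ι ι F} (hM : IsScalarMat M) (k : ℕ) : IsScalarMat (M ^ k) := by
  obtain ⟨c, rfl⟩ := hM
  exact ⟨c ^ k, by rw [_root_.smul_pow, one_pow]⟩

/-- the projective order of a matrix -/
structure HasPOrd (M : Matrix ι ι F) (a : ℕ) : Prop where
  pos : 0 < a
  iff : ∀ j : ℕ, IsScalarMat (M ^ j) ↔ a ∣ j

theorem HasPOrd.unique {M : Matrix ι ι F} {a b : ℕ} (ha : HasPOrd M a) (hb : HasPOrd M b) :
    a = b :=
  Nat.dvd_antisymm ((ha.iff b).1 ((hb.iff b).2 dvd_rfl)) ((hb.iff a).1 ((ha.iff a).2 dvd_rfl))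

/-- `a` is the projective order of some matrix of determinant one -/
def InSpec (ι : Type*) [Fintype ι] [DecidableEq ι] (F : Type*) [Field F] (a : ℕ) : Prop :=
  ∃ M : Matrix ι ι F, M.det = 1 ∧ HasPOrd M a

theorem InSpec.reindex {κ : Type*} [Fintype κ] [DecidableEq κ] (e : ι ≃ κ) {a : ℕ}
    (h : InSpec ι F a) : InSpec κ F a := by
  obtain ⟨M, hdet, hM⟩ := h
  refine ⟨Matrix.reindexAlgEquiv F F e M, by rw [Matrix.det_reindexAlgEquiv, hdet], hM.pos, ?_⟩
  intro j
  rw [← hM.iff j, ← map_pow]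
  constructor
  · rintro ⟨c, hc⟩
    refine ⟨c, ?_⟩
    apply (Matrix.reindexAlgEquiv F F e).injective
    rw [hc, map_smul, map_one]
  · rintro ⟨c, hc⟩
    exact ⟨c, by rw [hc, map_smul, map_one]⟩

end basic

section psl

variable {F : Type*} [Field F] [Fintype F] {n : ℕ}

omit [Fintype F] in
theorem psl_pow_eq_one_iff (M : Matrix.SpecialLinearGroup (Fin n) F) (j : ℕ) :
    (QuotientGroup.mk M : Matrix.ProjectiveSpecialLinearGroup (Fin n) F) ^ j = 1 ↔
      IsScalarMat ((M : Matrix (Fin n) (Fin n) F) ^ j) := by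
  rw [← QuotientGroup.mk_pow, QuotientGroup.eq_one_iff, Matrix.SpecialLinearGroup.mem_center_iff]
  constructor
  · rintro ⟨c, -, hc⟩
    refine ⟨c, ?_⟩
    rw [← Matrix.SpecialLinearGroup.coe_pow, ← hc, Matrix.scalar_apply,
      Matrix.smul_one_eq_diagonal]
  · rintro ⟨c, hc⟩
    refine ⟨c, ?_, ?_⟩
    · have h1 := congrArg Matrix.det hc
      rw [← Matrix.SpecialLinearGroup.coe_pow, Matrix.SpecialLinearGroup.det_coe,
        Matrix.det_smul, Matrix.det_one, mul_one] at h1
      exact h1.symm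
    · rw [Matrix.SpecialLinearGroup.coe_pow, hc, Matrix.scalar_apply,
        Matrix.smul_one_eq_diagonal]

/-- element orders of `PSL_n(F)` are projective orders -/
theorem hasPOrd_orderOf (M : Matrix.SpecialLinearGroup (Fin n) F) :
    HasPOrd (M : Matrix (Fin n) (Fin n) F)
      (orderOf (QuotientGroup.mk M : Matrix.ProjectiveSpecialLinearGroup (Fin n) F)) where
  pos := orderOf_pos _
  iff := fun j => by rw [← psl_pow_eq_one_iff, orderOf_dvd_iff_pow_eq_one]

theorem mem_range_orderOf_iff (a : ℕ) :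
    a ∈ Set.range (orderOf : Matrix.ProjectiveSpecialLinearGroup (Fin n) F → ℕ) ↔
      InSpec (Fin n) F a := by
  constructor
  · rintro ⟨g, rfl⟩
    obtain ⟨M, rfl⟩ := QuotientGroup.mk_surjective g
    exact ⟨M, M.2, hasPOrd_orderOf M⟩
  · rintro ⟨M, hdet, hM⟩
    refine ⟨QuotientGroup.mk (⟨M, hdet⟩ : Matrix.SpecialLinearGroup (Fin n) F), ?_⟩
    exact (hasPOrd_orderOf ⟨M, hdet⟩).unique hM

end psl

section idempotent

variable {F : Type*} [Field F] {ι : Type*} [Fintype ι] [DecidableEq ι]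

theorem idem_mul (e : Matrix ι ι F) (he : e * e = e) (α β : F) :
    ((1 : Matrix ι ι F) + α • e) * (1 + β • e) = 1 + (α + β + α * β) • e := by
  rw [mul_add, add_mul, add_mul, one_mul, mul_one, one_mul, smul_mul_smul_comm, he, add_smul,
    add_smul]
  abel

theorem idem_pow (e : Matrix ι ι F) (he : e * e = e) (z : F) (j : ℕ) :
    ((1 : Matrix ι ι F) + (z - 1) • e) ^ j = 1 + (z ^ j - 1) • e := by
  induction j with
  | zero => simp
  | succ j ih =>
    rw [pow_succ, ih, idem_mul e he]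
    congr 2
    ring

omit [Fintype ι] in
theorem IsScalarMat.of_smul {N : Matrix ι ι F} {c : F} (hc : c ≠ 0) (h : IsScalarMat (c • N)) :
    IsScalarMat N := by
  obtain ⟨s, hs⟩ := h
  refine ⟨c⁻¹ * s, ?_⟩
  rw [mul_smul, ← hs, smul_smul, inv_mul_cancel₀ hc, one_smul]

/-- the commuting idempotent trick -/
theorem inSpec_mul_of_idempotent {r : ℕ} (hr : r.Prime) (hrn : ¬ r ∣ Fintype.card ι) (ζ : F)
    (hζ : orderOf ζ = r) (M : Matrix ι ι F) (hdet : M.det = 1) {a : ℕ} (hM : HasPOrd M a)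
    (hra : ¬ r ∣ a) (e : Matrix ι ι F) (he : e * e = e) (he0 : e ≠ 0) (he1 : e ≠ 1)
    (hcomm : Commute e M) : InSpec ι F (r * a) := by
  have hr0 : NeZero r := ⟨hr.ne_zero⟩
  have hne : Nonempty ι := by
    by_contra hι
    rw [not_nonempty_iff] at hι
    exact he0 (Subsingleton.elim _ _)
  have hprim : IsPrimitiveRoot ζ r := IsPrimitiveRoot.iff_orderOf.2 hζ
  have hζr : ζ ^ r = 1 := by rw [← hζ]; exact pow_orderOf_eq_one ζ
  have hζ0 : ζ ≠ 0 := by
    intro h0
    rw [h0, zero_pow hr.ne_zero] at hζr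
    exact zero_ne_one hζr
  set y₀ : Matrix ι ι F := 1 + (ζ - 1) • e with hy₀
  have hy₀pow : ∀ j : ℕ, y₀ ^ j = 1 + (ζ ^ j - 1) • e := idem_pow e he ζ
  have hy₀r : ∀ k : ℕ, y₀ ^ (r * k) = 1 := by
    intro k
    rw [hy₀pow, pow_mul, hζr, one_pow, sub_self, zero_smul, add_zero]
  -- the determinant of `y₀` is a power of `ζ`
  have hdetr : y₀.det ^ r = 1 := by
    have := hy₀r 1
    rw [mul_one] at this
    rw [← Matrix.det_pow, this, Matrix.det_one]
  obtain ⟨d, -, hd⟩ := hprim.eq_pow_of_pow_eq_one hdetr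
  -- choose `t` with `n t + d ≡ 0`
  have hcop : Nat.Coprime (Fintype.card ι) r :=
    ((Nat.Prime.coprime_iff_not_dvd hr).2 hrn).symm
  obtain ⟨t, ht⟩ : ∃ t : ℕ, r ∣ Fintype.card ι * t + d := by
    have hunit : IsUnit ((Fintype.card ι : ℕ) : ZMod r) := (ZMod.isUnit_iff_coprime _ _).2 hcop
    obtain ⟨u, hu⟩ := hunit
    refine ⟨(((u⁻¹ : (ZMod r)ˣ) : ZMod r) * (-(d : ZMod r))).val, ?_⟩
    rw [← ZMod.natCast_eq_zero_iff]
    push_cast
    rw [ZMod.natCast_zmod_val, ← hu, ← mul_assoc, Units.mul_inv, one_mul, neg_add_cancel]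
  set c : F := ζ ^ t with hc
  have hc0 : ∀ j : ℕ, c ^ j ≠ 0 := fun j => pow_ne_zero _ (pow_ne_zero _ hζ0)
  set y : Matrix ι ι F := c • y₀ with hy
  have hydet : y.det = 1 := by
    rw [hy, Matrix.det_smul, ← hd, hc, ← pow_mul, ← pow_add, mul_comm t]
    obtain ⟨k, hk⟩ := ht
    rw [hk, pow_mul, hζr, one_pow]
  have hypow : ∀ j : ℕ, y ^ j = c ^ j • y₀ ^ j := fun j => by rw [hy, _root_.smul_pow]
  have hyM : Commute y M := by
    rw [hy, hy₀]
    exact ((Commute.one_left M).add_left (hcomm.smul_left _)).smul_left _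
  have hpow : ∀ j : ℕ, (M * y) ^ j = M ^ j * y ^ j := fun j => (hyM.symm.mul_pow j)
  refine ⟨M * y, by rw [Matrix.det_mul, hdet, hydet, mul_one], Nat.mul_pos hr.pos hM.pos, ?_⟩
  intro j
  have hcopra : Nat.Coprime r a := (Nat.Prime.coprime_iff_not_dvd hr).2 hra
  constructor
  · intro hj
    -- first `a ∣ j`
    have h1 : IsScalarMat (M ^ (r * j)) := by
      have h2 : IsScalarMat ((M * y) ^ (r * j)) := by
        rw [mul_comm, pow_mul]
        exact hj.pow r
      rw [hpow, hypow, hy₀r, Matrix.mul_smul, Matrix.mul_one] at h2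
      exact h2.of_smul (hc0 _)
    have haj : a ∣ j := by
      have := (hM.iff _).1 h1
      exact (Nat.Coprime.dvd_of_dvd_mul_left hcopra.symm this)
    -- then `r ∣ j`
    obtain ⟨ν, hν⟩ := (hM.iff j).2 haj
    have hν0 : ν ≠ 0 := by
      rintro rfl
      have h4 : M ^ j = 0 := by rw [hν, zero_smul]
      have h5 : (M ^ j).det = 1 := by rw [Matrix.det_pow, hdet, one_pow]
      rw [h4, Matrix.det_zero] at h5
      exact zero_ne_one h5
    have h3 : IsScalarMat (y₀ ^ j) := by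
      have h4 := hj
      rw [hpow, hν, hypow, Matrix.smul_mul, Matrix.one_mul, smul_smul] at h4
      exact h4.of_smul (mul_ne_zero hν0 (hc0 j))
    obtain ⟨s, hs⟩ := h3
    rw [hy₀pow] at hs
    have hrj : r ∣ j := by
      by_contra hnd
      have hζj : ζ ^ j - 1 ≠ 0 := by
        intro h0
        apply hnd
        rw [← hζ]
        exact orderOf_dvd_of_pow_eq_one (sub_eq_zero.1 h0)
      -- `e` is scalar
      have h7 : (ζ ^ j - 1) • e = (s - 1) • (1 : Matrix ι ι F) := by
        rw [sub_smul s 1, one_smul, ← hs]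
        abel
      have h6 : e = ((ζ ^ j - 1)⁻¹ * (s - 1)) • (1 : Matrix ι ι F) := by
        rw [mul_smul, ← h7, smul_smul, inv_mul_cancel₀ hζj, one_smul]
      set κ := (ζ ^ j - 1)⁻¹ * (s - 1) with hκ
      have he' := he
      rw [h6, smul_mul_smul_comm, mul_one] at he'
      obtain ⟨i⟩ := hne
      have h8 := congrFun (congrFun he' i) i
      rw [Matrix.smul_apply, Matrix.smul_apply, Matrix.one_apply_eq, smul_eq_mul, smul_eq_mul,
        mul_one, mul_one] at h8
      have h9 : κ * (κ - 1) = 0 := by rw [mul_sub, h8, mul_one, sub_self]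
      rcases mul_eq_zero.1 h9 with h0 | h0
      · apply he0
        rw [h6, h0, zero_smul]
      · apply he1
        rw [h6, sub_eq_zero.1 h0, one_smul]
    exact Nat.Coprime.mul_dvd_of_dvd_of_dvd hcopra hrj haj
  · rintro ⟨k, rfl⟩
    rw [hpow]
    apply IsScalarMat.mul
    · exact (hM.iff _).2 ⟨r * k, by ring⟩
    · rw [hypow, mul_assoc, hy₀r]
      exact isScalarMat_smul_one _

end idempotent

end Cfsg.Agent.Lib.Helper40_ProjOrd
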