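import Mathlib
import Cfsg.Agent.Lib.Helper40_ProjOrd

set_option autoImplicit false

/-!
Minimal polynomial analysis for projective orders: commuting idempotents from coprime
factorizations, the primary case `minpoly = f ^ c`, and the bound on the projective order.
-/

namespace Cfsg.Agent.Lib.Helper40_ProjOrd2

open Polynomial Cfsg.Agent.Lib.Helper40_ProjOrd

section idem

variable {F : Type*} [Field F] {ι : Type*} [Fintype ι] [DecidableEq ι]

theorem commute_aeval (M : Matrix ι ι F) (P : F[X]) : Commute (aeval M P) M := by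
  have h : aeval M P * aeval M (X : F[X]) = aeval M (X : F[X]) * aeval M P := by
    rw [← map_mul, ← map_mul, mul_comm]
  rw [aeval_X] at h
  exact h

/-- a coprime factorization of the minimal polynomial gives a nontrivial commuting idempotent -/
theorem exists_idempotent_of_coprime_factor (M : Matrix ι ι F) (g h : F[X])
    (hgh : minpoly F M = g * h) (hcop : IsCoprime g h) (hg : ¬ IsUnit g) (hh : ¬ IsUnit h) :
    ∃ e : Matrix ι ι F, e * e = e ∧ e ≠ 0 ∧ e ≠ 1 ∧ Commute e M := by
  obtain ⟨a, b, hab⟩ := hcop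
  refine ⟨aeval M (b * h), ?_, ?_, ?_, commute_aeval M _⟩
  · have h1 : aeval M (b * h) = 1 - aeval M (a * g) := by
      rw [eq_sub_iff_add_eq, ← map_add, add_comm, hab, map_one]
    have h2 : aeval M (a * g) * aeval M (b * h) = 0 := by
      rw [← map_mul]
      have : a * g * (b * h) = (a * b) * (g * h) := by ring
      rw [this, ← hgh, map_mul, minpoly.aeval, mul_zero]
    nth_rewrite 1 [h1]
    rw [sub_mul, one_mul, h2, sub_zero]
  · intro h0
    have h1 : minpoly F M ∣ b * h := minpoly.dvd_iff.2 h0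
    have h2 : g ∣ b * h := (Dvd.intro _ hgh.symm).trans h1
    have h3 : g ∣ b := IsCoprime.dvd_of_dvd_mul_right ⟨a, b, hab⟩ h2
    apply hg
    apply isUnit_of_dvd_one
    rw [← hab]
    exact dvd_add (Dvd.intro_left _ rfl) (h3.mul_right _)
  · intro h0
    have h0' : aeval M (a * g) = 0 := by
      have h1 : aeval M (b * h) = 1 - aeval M (a * g) := by
        rw [eq_sub_iff_add_eq, ← map_add, add_comm, hab, map_one]
      rw [h1] at h0
      have := sub_eq_self.1 h0
      exact this
    have h1 : minpoly F M ∣ a * g := minpoly.dvd_iff.2 h0'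
    have h2 : h ∣ a * g := (Dvd.intro_left _ hgh.symm).trans h1
    have h3 : h ∣ a := IsCoprime.dvd_of_dvd_mul_right (IsCoprime.symm ⟨a, b, hab⟩) h2
    apply hh
    apply isUnit_of_dvd_one
    rw [← hab]
    exact dvd_add (h3.mul_right _) (Dvd.intro_left _ rfl)

/-- either there is a nontrivial commuting idempotent or the minimal polynomial is primary -/
theorem minpoly_cases [Nonempty ι] (M : Matrix ι ι F) :
    (∃ e : Matrix ι ι F, e * e = e ∧ e ≠ 0 ∧ e ≠ 1 ∧ Commute e M) ∨
      ∃ (f : F[X]) (c : ℕ), f.Monic ∧ Irreducible f ∧ 1 ≤ c ∧ minpoly F M = f ^ c := by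
  have hint : IsIntegral F M := Matrix.isIntegral M
  have hmonic : (minpoly F M).Monic := minpoly.monic hint
  have hne1 : minpoly F M ≠ 1 := minpoly.ne_one F M
  have hnu : ¬ IsUnit (minpoly F M) := fun hu => hne1 (hmonic.eq_one_of_isUnit hu)
  obtain ⟨f, hfm, hfi, hfd⟩ := Polynomial.exists_monic_irreducible_factor _ hnu
  obtain ⟨c, h, hfh, hμ⟩ := WfDvdMonoid.max_power_factor hmonic.ne_zero hfi
  have hc : 1 ≤ c := by
    rcases Nat.eq_zero_or_pos c with rfl | hpos
    · rw [pow_zero, one_mul] at hμ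
      rw [hμ] at hfd
      exact absurd hfd hfh
    · exact hpos
  by_cases hh : IsUnit h
  · right
    have hhm : h.Monic := by
      have h1 : (f ^ c * h).Monic := by rw [← hμ]; exact hmonic
      exact (hfm.pow c).of_mul_monic_left h1
    have h1 : h = 1 := hhm.eq_one_of_isUnit hh
    exact ⟨f, c, hfm, hfi, hc, by rw [hμ, h1, mul_one]⟩
  · left
    apply exists_idempotent_of_coprime_factor M (f ^ c) h hμ
    · exact ((hfi.coprime_iff_not_dvd).2 hfh).pow_left
    · intro hu
      have : IsUnit f := isUnit_of_dvd_unit (dvd_pow_self f (by omega)) hu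
      exact hfi.not_isUnit this
    · exact hh

end idem

section bound

variable {F : Type*} [Field F] [Fintype F] {ι : Type*} [Fintype ι] [DecidableEq ι]

/-- the number `(q ^ δ - 1) / (q - 1)` -/
def mnum (q δ : ℕ) : ℕ := (q ^ δ - 1) / (q - 1)

omit [Fintype F] in
theorem isScalarMat_pow_iff (M : Matrix ι ι F) (j : ℕ) :
    IsScalarMat (M ^ j) ↔ ∃ c : F, minpoly F M ∣ X ^ j - C c := by
  constructor
  · rintro ⟨c, hc⟩
    refine ⟨c, minpoly.dvd_iff.2 ?_⟩
    rw [map_sub, map_pow, aeval_X, aeval_C, hc, Algebra.algebraMap_eq_smul_one, sub_self]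
  · rintro ⟨c, hc⟩
    refine ⟨c, ?_⟩
    have := minpoly.dvd_iff.1 hc
    rw [map_sub, map_pow, aeval_X, aeval_C, sub_eq_zero, Algebra.algebraMap_eq_smul_one] at this
    exact this

omit [Fintype F] in
theorem isScalarMat_pow_congr {κ : Type*} [Fintype κ] [DecidableEq κ] (M : Matrix ι ι F)
    (N : Matrix κ κ F) (h : minpoly F M = minpoly F N) (j : ℕ) :
    IsScalarMat (M ^ j) ↔ IsScalarMat (N ^ j) := by
  rw [isScalarMat_pow_iff, isScalarMat_pow_iff, h]

omit [Fintype F] in
theorem HasPOrd.congr {κ : Type*} [Fintype κ] [DecidableEq κ] {M : Matrix ι ι F}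
    {N : Matrix κ κ F} (h : minpoly F M = minpoly F N) {a : ℕ} (hM : HasPOrd M a) :
    HasPOrd N a :=
  ⟨hM.pos, fun j => by rw [← isScalarMat_pow_congr M N h j, hM.iff]⟩

omit [Fintype F] in
theorem charpoly_eq_minpoly (M : Matrix ι ι F)
    (hι : (minpoly F M).natDegree = Fintype.card ι) : M.charpoly = minpoly F M := by
  apply Polynomial.eq_of_monic_of_dvd_of_natDegree_le (minpoly.monic (Matrix.isIntegral M))
    (Matrix.charpoly_monic M) (Matrix.minpoly_dvd_charpoly M)
  rw [Matrix.charpoly_natDegree_eq_dim, hι]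

omit [Fintype F] in
theorem det_eq_of_minpoly_eq {κ : Type*} [Fintype κ] [DecidableEq κ] (M : Matrix ι ι F)
    (N : Matrix κ κ F) (h : minpoly F M = minpoly F N)
    (hι : (minpoly F M).natDegree = Fintype.card ι) (hκ : Fintype.card κ = Fintype.card ι) :
    M.det = N.det := by
  rw [Matrix.det_eq_sign_charpoly_coeff, Matrix.det_eq_sign_charpoly_coeff N,
    charpoly_eq_minpoly M hι, charpoly_eq_minpoly N (by rw [← h, hι, hκ]), h, hκ]

/-- an irreducible polynomial of degree `δ` over a field with `q` elements divides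
`X ^ ((q ^ δ - 1) / (q - 1)) - c` for some constant `c` -/
theorem irreducible_dvd_X_pow_mnum_sub_C (f : F[X]) (hfi : Irreducible f) :
    ∃ c : F, f ∣ X ^ (mnum (Fintype.card F) f.natDegree) - C c := by
  have : Fact (Irreducible f) := ⟨hfi⟩
  have hf0 : f ≠ 0 := hfi.ne_zero
  have : Module.Finite F (AdjoinRoot f) := (AdjoinRoot.powerBasis hf0).finite
  have : Finite (AdjoinRoot f) := Module.finite_of_finite F
  have hcard : Nat.card (AdjoinRoot f) = Nat.card F ^ f.natDegree := by
    rw [Module.natCard_eq_pow_finrank (K := F), (AdjoinRoot.powerBasis hf0).finrank,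
      AdjoinRoot.powerBasis_dim]
  have h := FiniteField.algebraMap_norm_eq_pow (K := F) (K' := AdjoinRoot f)
    (x := AdjoinRoot.root f)
  refine ⟨Algebra.norm F (AdjoinRoot.root f), ?_⟩
  rw [← AdjoinRoot.mk_eq_zero, map_sub, map_pow, AdjoinRoot.mk_X, AdjoinRoot.mk_C, sub_eq_zero,
    ← AdjoinRoot.algebraMap_eq, h, hcard, mnum, Nat.card_eq_fintype_card]

/-- the projective order of a matrix with primary minimal polynomial `f ^ c` divides
`(q ^ δ - 1) / (q - 1) * p ^ κ` when `c ≤ p ^ κ` -/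
theorem pord_dvd_of_minpoly_pow (p : ℕ) [Fact p.Prime] [CharP F p] (M : Matrix ι ι F) {a : ℕ}
    (hM : HasPOrd M a) (f : F[X]) (c κ : ℕ) (hfi : Irreducible f)
    (hμ : minpoly F M = f ^ c) (hκ : c ≤ p ^ κ) :
    a ∣ mnum (Fintype.card F) f.natDegree * p ^ κ := by
  obtain ⟨l, hl⟩ := irreducible_dvd_X_pow_mnum_sub_C f hfi
  rw [← hM.iff, isScalarMat_pow_iff]
  refine ⟨l ^ p ^ κ, ?_⟩
  rw [hμ, pow_mul, C_pow, ← sub_pow_char_pow]
  exact (pow_dvd_pow f hκ).trans (pow_dvd_pow_of_dvd hl _)

end bound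

end Cfsg.Agent.Lib.Helper40_ProjOrd2
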