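import Mathlib
import Cfsg.Agent.Lib.Helper40_ProjOrd
import Cfsg.Agent.Lib.Helper5_SUCenter

set_option autoImplicit false

/-!
Unitary matrices over a general index type (conjugate transpose `ctr`, predicate `IsUM`), the
bridge to element orders of `PSU_n(q)`, and the unitary commuting-idempotent trick.
-/

namespace Cfsg.Agent.Lib.Helper40_UProj

open Polynomial Cfsg.Agent.Lib.Helper40_ProjOrd

section ctr

variable {F : Type*} [Field F] {ι : Type*} [Fintype ι] [DecidableEq ι] (σ : F →+* F)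

/-- conjugate transpose -/
def ctr (M : Matrix ι ι F) : Matrix ι ι F := (M.map σ).transpose

omit [Fintype ι] [DecidableEq ι] in
theorem ctr_apply (M : Matrix ι ι F) (i j : ι) : ctr σ M i j = σ (M j i) := rfl

omit [DecidableEq ι] in
theorem ctr_mul (M N : Matrix ι ι F) : ctr σ (M * N) = ctr σ N * ctr σ M := by
  unfold ctr
  rw [Matrix.map_mul, Matrix.transpose_mul]

omit [Fintype ι] [DecidableEq ι] in
theorem ctr_add (M N : Matrix ι ι F) : ctr σ (M + N) = ctr σ M + ctr σ N := by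
  ext i j
  simp [ctr_apply]

omit [Fintype ι] [DecidableEq ι] in
theorem ctr_sub (M N : Matrix ι ι F) : ctr σ (M - N) = ctr σ M - ctr σ N := by
  ext i j
  simp [ctr_apply]

omit [Fintype ι] [DecidableEq ι] in
theorem ctr_smul (c : F) (M : Matrix ι ι F) : ctr σ (c • M) = σ c • ctr σ M := by
  ext i j
  simp [ctr_apply]

omit [Fintype ι] in
theorem ctr_one : ctr σ (1 : Matrix ι ι F) = 1 := by
  ext i j
  rw [ctr_apply, Matrix.one_apply, Matrix.one_apply]
  by_cases h : i = j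
  · rw [if_pos h, if_pos h.symm, map_one]
  · rw [if_neg h, if_neg (Ne.symm h), map_zero]

omit [Fintype ι] [DecidableEq ι] in
theorem ctr_zero : ctr σ (0 : Matrix ι ι F) = 0 := by
  ext i j
  simp [ctr_apply]

theorem ctr_pow (M : Matrix ι ι F) (k : ℕ) : ctr σ (M ^ k) = ctr σ M ^ k := by
  unfold ctr
  rw [Matrix.map_pow, Matrix.transpose_pow]

omit [Fintype ι] [DecidableEq ι] in
theorem ctr_ctr (hinv : ∀ c, σ (σ c) = c) (M : Matrix ι ι F) : ctr σ (ctr σ M) = M := by
  ext i j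
  rw [ctr_apply, ctr_apply, hinv]

theorem ctr_aeval (M : Matrix ι ι F) (P : F[X]) :
    ctr σ (aeval M P) = aeval (ctr σ M) (P.map σ) := by
  induction P using Polynomial.induction_on' with
  | add p q hp hq => rw [map_add, ctr_add, hp, hq, Polynomial.map_add, map_add]
  | monomial n c =>
    rw [← C_mul_X_pow_eq_monomial, map_mul, map_pow, aeval_X, aeval_C, Polynomial.map_mul,
      Polynomial.map_pow, map_X, map_C, map_mul, map_pow, aeval_X, aeval_C,
      Algebra.algebraMap_eq_smul_one, Algebra.algebraMap_eq_smul_one, smul_mul_assoc, one_mul,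
      smul_mul_assoc, one_mul, ctr_smul, ctr_pow]

theorem ctr_det (M : Matrix ι ι F) : (ctr σ M).det = σ M.det := by
  unfold ctr
  rw [Matrix.det_transpose, ← RingHom.mapMatrix_apply, ← RingHom.map_det]

/-- unitary matrices -/
def IsUM (M : Matrix ι ι F) : Prop := ctr σ M * M = 1

variable {σ}

theorem IsUM.mul_ctr {M : Matrix ι ι F} (h : IsUM σ M) : M * ctr σ M = 1 :=
  mul_eq_one_comm.1 h

theorem IsUM.mul {M N : Matrix ι ι F} (hM : IsUM σ M) (hN : IsUM σ N) : IsUM σ (M * N) := by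
  unfold IsUM at *
  rw [ctr_mul, mul_assoc, ← mul_assoc (ctr σ M), hM, one_mul, hN]

theorem isUM_one : IsUM σ (1 : Matrix ι ι F) := by
  unfold IsUM
  rw [ctr_one, one_mul]

theorem IsUM.pow {M : Matrix ι ι F} (hM : IsUM σ M) (k : ℕ) : IsUM σ (M ^ k) := by
  induction k with
  | zero => rw [pow_zero]; exact isUM_one
  | succ k ih => rw [pow_succ]; exact ih.mul hM

theorem IsUM.smul {M : Matrix ι ι F} (hM : IsUM σ M) {c : F} (hc : σ c * c = 1) :
    IsUM σ (c • M) := by
  unfold IsUM at *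
  rw [ctr_smul, smul_mul_smul_comm, hM, hc, one_smul]

theorem IsUM.det_mul {M : Matrix ι ι F} (hM : IsUM σ M) : σ M.det * M.det = 1 := by
  have := congrArg Matrix.det hM
  rwa [Matrix.det_mul, ctr_det, Matrix.det_one] at this

theorem IsUM.det_ne_zero {M : Matrix ι ι F} (hM : IsUM σ M) : M.det ≠ 0 := by
  intro h0
  have := hM.det_mul
  rw [h0, mul_zero] at this
  exact zero_ne_one this

/-- the inverse of a unitary matrix, as a polynomial identity: `ctr M` is a left and right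
inverse -/
theorem IsUM.ctr_isUM (hinv : ∀ c, σ (σ c) = c) {M : Matrix ι ι F} (hM : IsUM σ M) :
    IsUM σ (ctr σ M) := by
  unfold IsUM
  rw [ctr_ctr σ hinv]
  exact hM.mul_ctr

theorem isUM_reindex {κ : Type*} [Fintype κ] [DecidableEq κ] (e : ι ≃ κ) {M : Matrix ι ι F}
    (hM : IsUM σ M) : IsUM σ (Matrix.reindexAlgEquiv F F e M) := by
  unfold IsUM at *
  have h1 : ctr σ (Matrix.reindexAlgEquiv F F e M) = Matrix.reindexAlgEquiv F F e (ctr σ M) := by
    ext i j
    simp [ctr_apply, Matrix.coe_reindexAlgEquiv]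
  rw [h1, ← map_mul, hM, map_one]

theorem isUM_fromBlocks {ι₂ : Type*} [Fintype ι₂] [DecidableEq ι₂] {A : Matrix ι ι F}
    {D : Matrix ι₂ ι₂ F} (hA : IsUM σ A) (hD : IsUM σ D) :
    IsUM σ (Matrix.fromBlocks A 0 0 D) := by
  unfold IsUM at *
  have h1 : ctr σ (Matrix.fromBlocks A 0 0 D) = Matrix.fromBlocks (ctr σ A) 0 0 (ctr σ D) := by
    unfold ctr
    rw [Matrix.fromBlocks_map, Matrix.fromBlocks_transpose]
    simp
  rw [h1, Matrix.fromBlocks_multiply, hA, hD]
  simp

end ctr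

section bridge

open Cfsg.Agent.Lib.Helper5_GUOrder Cfsg.Agent.Lib.Helper5_SUOrder Cfsg.Agent.Lib.Helper5_SUCenter

variable {F : Type*} [Field F] [Fintype F] {n q : ℕ} (σ : F →+* F) (hσq : ∀ x, σ x = x ^ q)

include hσq in
omit [Fintype F] in
theorem hermForm_eq (u v : Fin n → F) : Cfsg.hermForm n F q u v = u ⬝ᵥ (σ ∘ v) := by
  unfold Cfsg.hermForm dotProduct
  apply Finset.sum_congr rfl
  intro i _
  rw [Function.comp_apply, hσq]

include hσq in
omit [Fintype F] in
theorem isU_of_isUM {M : Matrix (Fin n) (Fin n) F} (h : IsUM σ M) : IsU n q M := by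
  intro u v
  rw [hermForm_eq σ hσq, hermForm_eq σ hσq]
  have h1 : σ ∘ (M.mulVec v) = (M.map σ).mulVec (σ ∘ v) := by
    funext i
    exact RingHom.map_mulVec σ M v i
  rw [h1, ← Matrix.vecMul_transpose, Matrix.dotProduct_mulVec, Matrix.vecMul_vecMul]
  have h2 : M.transpose * M.map σ = 1 := by
    have := congrArg Matrix.transpose h
    rw [Matrix.transpose_mul, Matrix.transpose_one] at this
    unfold ctr at this
    rw [Matrix.transpose_transpose] at this
    exact this
  rw [h2, Matrix.vecMul_one]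

include hσq in
theorem isUM_of_isU (hF : Fintype.card F = q ^ 2) {M : Matrix (Fin n) (Fin n) F}
    (h : IsU n q M) : IsUM σ M := by
  have h1 := transpose_mul_map_of_isU hF h
  have h2 : (powQ hF).mapMatrix M = M.map σ := by
    ext i j
    simp only [RingHom.mapMatrix_apply, Matrix.map_apply]
    rw [hσq]
    rfl
  rw [h2] at h1
  unfold IsUM ctr
  have := congrArg Matrix.transpose h1
  rw [Matrix.transpose_mul, Matrix.transpose_one, Matrix.transpose_transpose] at this
  exact this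

/-- `a` is the projective order of a unitary matrix of determinant one -/
def InSpecU (ι : Type*) [Fintype ι] [DecidableEq ι] {F : Type*} [Field F] (σ : F →+* F) (a : ℕ) :
    Prop :=
  ∃ M : Matrix ι ι F, IsUM σ M ∧ M.det = 1 ∧ HasPOrd M a

omit [Fintype F] in
theorem InSpecU.reindex {ι κ : Type*} [Fintype ι] [DecidableEq ι] [Fintype κ] [DecidableEq κ]
    (e : ι ≃ κ) {a : ℕ} (h : InSpecU ι σ a) : InSpecU κ σ a := by
  obtain ⟨M, hU, hdet, hM⟩ := h
  refine ⟨Matrix.reindexAlgEquiv F F e M, isUM_reindex e hU,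
    by rw [Matrix.det_reindexAlgEquiv, hdet], hM.pos, ?_⟩
  intro j
  rw [← hM.iff j, ← map_pow]
  constructor
  · rintro ⟨c, hc⟩
    refine ⟨c, ?_⟩
    apply (Matrix.reindexAlgEquiv F F e).injective
    rw [hc, map_smul, map_one]
  · rintro ⟨c, hc⟩
    exact ⟨c, by rw [hc, map_smul, map_one]⟩

theorem psu_pow_eq_one_iff (hF : Fintype.card F = q ^ 2) (hn : 0 < n) (s : Cfsg.SU n F q) (j : ℕ) :
    (QuotientGroup.mk s : Cfsg.PSU n F q) ^ j = 1 ↔
      IsScalarMat (((s : Matrix.SpecialLinearGroup (Fin n) F) : Matrix (Fin n) (Fin n) F) ^ j) := by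
  rw [← QuotientGroup.mk_pow, QuotientGroup.eq_one_iff]
  have hcoe : (((s ^ j : Cfsg.SU n F q) : Matrix.SpecialLinearGroup (Fin n) F) :
      Matrix (Fin n) (Fin n) F) =
      ((s : Matrix.SpecialLinearGroup (Fin n) F) : Matrix (Fin n) (Fin n) F) ^ j := by
    rw [Subgroup.coe_pow, Matrix.SpecialLinearGroup.coe_pow]
  constructor
  · intro h
    have := center_eq_smul hF (s ^ j) h ⟨0, hn⟩
    rw [hcoe] at this
    exact ⟨_, this⟩
  · rintro ⟨c, hc⟩
    rw [Subgroup.mem_center_iff]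
    intro g
    apply Subtype.ext
    apply Subtype.ext
    rw [Subgroup.coe_mul, Subgroup.coe_mul, Matrix.SpecialLinearGroup.coe_mul,
      Matrix.SpecialLinearGroup.coe_mul, hcoe, hc, Matrix.mul_smul, Matrix.smul_mul, mul_one,
      one_mul]

include hσq in
theorem mem_range_orderOf_psu_iff (hF : Fintype.card F = q ^ 2) (hn : 0 < n) (a : ℕ) :
    a ∈ Set.range (orderOf : Cfsg.PSU n F q → ℕ) ↔ InSpecU (Fin n) σ a := by
  constructor
  · rintro ⟨g, rfl⟩
    obtain ⟨s, rfl⟩ := QuotientGroup.mk_surjective g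
    refine ⟨((s : Matrix.SpecialLinearGroup (Fin n) F) : Matrix (Fin n) (Fin n) F),
      isUM_of_isU σ hσq hF ((mem_SU_iff _).1 s.2), s.1.2, orderOf_pos _, fun j => ?_⟩
    rw [← psu_pow_eq_one_iff hF hn, orderOf_dvd_iff_pow_eq_one]
  · rintro ⟨M, hU, hdet, hM⟩
    refine ⟨QuotientGroup.mk (mkSU M (isU_of_isUM σ hσq hU) hdet), ?_⟩
    have h1 : HasPOrd M (orderOf (QuotientGroup.mk (mkSU M (isU_of_isUM σ hσq hU) hdet) :
        Cfsg.PSU n F q)) := by
      refine ⟨orderOf_pos _, fun j => ?_⟩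
      rw [orderOf_dvd_iff_pow_eq_one, psu_pow_eq_one_iff hF hn, mkSU_val]
    exact h1.unique hM

end bridge

section idempotent

variable {F : Type*} [Field F] {ι : Type*} [Fintype ι] [DecidableEq ι]

/-- the commuting idempotent trick, with the explicit witness -/
theorem exists_mul_of_idempotent {r : ℕ} (hr : r.Prime) (hrn : ¬ r ∣ Fintype.card ι) (ζ : F)
    (hζ : orderOf ζ = r) (M : Matrix ι ι F) (hdet : M.det = 1) {a : ℕ} (hM : HasPOrd M a)
    (hra : ¬ r ∣ a) (e : Matrix ι ι F) (he : e * e = e) (he0 : e ≠ 0) (he1 : e ≠ 1)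
    (hcomm : Commute e M) :
    ∃ t : ℕ, (M * (ζ ^ t • ((1 : Matrix ι ι F) + (ζ - 1) • e))).det = 1 ∧
      HasPOrd (M * (ζ ^ t • ((1 : Matrix ι ι F) + (ζ - 1) • e))) (r * a) := by
  have hr0 : NeZero r := ⟨hr.ne_zero⟩
  have hne : Nonempty ι := by
    by_contra hι
    rw [not_nonempty_iff] at hι
    exact he0 (Subsingleton.elim _ _)
  have hprim : IsPrimitiveRoot ζ r := IsPrimitiveRoot.iff_orderOf.2 hζ
  have hζr : ζ ^ r = 1 := by rw [← hζ]; exact pow_orderOf_eq_one ζ
  have hζ0 : ζ ≠ 0 := by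
    intro h0
    rw [h0, zero_pow hr.ne_zero] at hζr
    exact zero_ne_one hζr
  set y₀ : Matrix ι ι F := 1 + (ζ - 1) • e with hy₀
  have hy₀pow : ∀ j : ℕ, y₀ ^ j = 1 + (ζ ^ j - 1) • e := idem_pow e he ζ
  have hy₀r : ∀ k : ℕ, y₀ ^ (r * k) = 1 := by
    intro k
    rw [hy₀pow, pow_mul, hζr, one_pow, sub_self, zero_smul, add_zero]
  have hdetr : y₀.det ^ r = 1 := by
    have := hy₀r 1
    rw [mul_one] at this
    rw [← Matrix.det_pow, this, Matrix.det_one]
  obtain ⟨d, -, hd⟩ := hprim.eq_pow_of_pow_eq_one hdetr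
  have hcop : Nat.Coprime (Fintype.card ι) r :=
    ((Nat.Prime.coprime_iff_not_dvd hr).2 hrn).symm
  obtain ⟨t, ht⟩ : ∃ t : ℕ, r ∣ Fintype.card ι * t + d := by
    have hunit : IsUnit ((Fintype.card ι : ℕ) : ZMod r) := (ZMod.isUnit_iff_coprime _ _).2 hcop
    obtain ⟨u, hu⟩ := hunit
    refine ⟨(((u⁻¹ : (ZMod r)ˣ) : ZMod r) * (-(d : ZMod r))).val, ?_⟩
    rw [← ZMod.natCast_eq_zero_iff]
    push_cast
    rw [ZMod.natCast_zmod_val, ← hu, ← mul_assoc, Units.mul_inv, one_mul, neg_add_cancel]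
  refine ⟨t, ?_⟩
  set c : F := ζ ^ t with hc
  have hc0 : ∀ j : ℕ, c ^ j ≠ 0 := fun j => pow_ne_zero _ (pow_ne_zero _ hζ0)
  set y : Matrix ι ι F := c • y₀ with hy
  have hydet : y.det = 1 := by
    rw [hy, Matrix.det_smul, ← hd, hc, ← pow_mul, ← pow_add, mul_comm t]
    obtain ⟨k, hk⟩ := ht
    rw [hk, pow_mul, hζr, one_pow]
  have hypow : ∀ j : ℕ, y ^ j = c ^ j • y₀ ^ j := fun j => by rw [hy, _root_.smul_pow]
  have hyM : Commute y M := by
    rw [hy, hy₀]
    exact ((Commute.one_left M).add_left (hcomm.smul_left _)).smul_left _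
  have hpow : ∀ j : ℕ, (M * y) ^ j = M ^ j * y ^ j := fun j => (hyM.symm.mul_pow j)
  refine ⟨by rw [Matrix.det_mul, hdet, hydet, mul_one], Nat.mul_pos hr.pos hM.pos, ?_⟩
  intro j
  have hcopra : Nat.Coprime r a := (Nat.Prime.coprime_iff_not_dvd hr).2 hra
  constructor
  · intro hj
    have h1 : IsScalarMat (M ^ (r * j)) := by
      have h2 : IsScalarMat ((M * y) ^ (r * j)) := by
        rw [mul_comm, pow_mul]
        exact hj.pow r
      rw [hpow, hypow, hy₀r, Matrix.mul_smul, Matrix.mul_one] at h2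
      exact h2.of_smul (hc0 _)
    have haj : a ∣ j := by
      have := (hM.iff _).1 h1
      exact (Nat.Coprime.dvd_of_dvd_mul_left hcopra.symm this)
    obtain ⟨ν, hν⟩ := (hM.iff j).2 haj
    have hν0 : ν ≠ 0 := by
      rintro rfl
      have h4 : M ^ j = 0 := by rw [hν, zero_smul]
      have h5 : (M ^ j).det = 1 := by rw [Matrix.det_pow, hdet, one_pow]
      rw [h4, Matrix.det_zero] at h5
      exact zero_ne_one h5
    have h3 : IsScalarMat (y₀ ^ j) := by
      have h4 := hj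
      rw [hpow, hν, hypow, Matrix.smul_mul, Matrix.one_mul, smul_smul] at h4
      exact h4.of_smul (mul_ne_zero hν0 (hc0 j))
    obtain ⟨s, hs⟩ := h3
    rw [hy₀pow] at hs
    have hrj : r ∣ j := by
      by_contra hnd
      have hζj : ζ ^ j - 1 ≠ 0 := by
        intro h0
        apply hnd
        rw [← hζ]
        exact orderOf_dvd_of_pow_eq_one (sub_eq_zero.1 h0)
      have h7 : (ζ ^ j - 1) • e = (s - 1) • (1 : Matrix ι ι F) := by
        rw [sub_smul s 1, one_smul, ← hs]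
        abel
      have h6 : e = ((ζ ^ j - 1)⁻¹ * (s - 1)) • (1 : Matrix ι ι F) := by
        rw [mul_smul, ← h7, smul_smul, inv_mul_cancel₀ hζj, one_smul]
      set κ := (ζ ^ j - 1)⁻¹ * (s - 1) with hκ
      have he' := he
      rw [h6, smul_mul_smul_comm, mul_one] at he'
      obtain ⟨i⟩ := hne
      have h8 := congrFun (congrFun he' i) i
      rw [Matrix.smul_apply, Matrix.smul_apply, Matrix.one_apply_eq, smul_eq_mul, smul_eq_mul,
        mul_one, mul_one] at h8
      have h9 : κ * (κ - 1) = 0 := by rw [mul_sub, h8, mul_one, sub_self]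
      rcases mul_eq_zero.1 h9 with h0 | h0
      · apply he0
        rw [h6, h0, zero_smul]
      · apply he1
        rw [h6, sub_eq_zero.1 h0, one_smul]
    exact Nat.Coprime.mul_dvd_of_dvd_of_dvd hcopra hrj haj
  · rintro ⟨k, rfl⟩
    rw [hpow]
    apply IsScalarMat.mul
    · exact (hM.iff _).2 ⟨r * k, by ring⟩
    · rw [hypow, mul_assoc, hy₀r]
      exact isScalarMat_smul_one _

variable (σ : F →+* F)

/-- the unitary version: the idempotent has to be self-adjoint and `ζ` of norm one -/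
theorem inSpecU_mul_of_idempotent {r : ℕ} (hr : r.Prime) (hrn : ¬ r ∣ Fintype.card ι) (ζ : F)
    (hζ : orderOf ζ = r) (hζσ : σ ζ * ζ = 1) (M : Matrix ι ι F) (hU : IsUM σ M)
    (hdet : M.det = 1) {a : ℕ} (hM : HasPOrd M a)
    (hra : ¬ r ∣ a) (e : Matrix ι ι F) (he : e * e = e) (hes : ctr σ e = e) (he0 : e ≠ 0)
    (he1 : e ≠ 1) (hcomm : Commute e M) : InSpecU ι σ (r * a) := by
  obtain ⟨t, hdet', hord⟩ := exists_mul_of_idempotent hr hrn ζ hζ M hdet hM hra e he he0 he1 hcomm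
  refine ⟨_, ?_, hdet', hord⟩
  apply hU.mul
  have h1 : IsUM σ ((1 : Matrix ι ι F) + (ζ - 1) • e) := by
    unfold IsUM
    rw [ctr_add, ctr_one, ctr_smul, hes, map_sub, map_one, idem_mul e he]
    have : σ ζ - 1 + (ζ - 1) + (σ ζ - 1) * (ζ - 1) = 0 := by
      have : σ ζ - 1 + (ζ - 1) + (σ ζ - 1) * (ζ - 1) = σ ζ * ζ - 1 := by ring
      rw [this, hζσ, sub_self]
    rw [this, zero_smul, add_zero]
  apply h1.smul
  rw [map_pow, ← mul_pow, hζσ, one_pow]

end idempotent

end Cfsg.Agent.Lib.Helper40_UProj
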