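import Mathlib
import Cfsg.Agent.Lib.Helper40_ProjOrd
import Cfsg.Agent.Lib.Helper40_ProjOrd2
import Cfsg.Agent.Lib.Helper40_UProj
import Cfsg.Agent.Lib.Helper40_UExist

set_option autoImplicit false

/-!
Analysis of the minimal polynomial of a unitary matrix: either there is a nontrivial self-adjoint
commuting idempotent, or the minimal polynomial is `f ^ c` with `f` self-dual, or it is
`f ^ c * (udual f) ^ c` with `f` not self-dual.
-/

namespace Cfsg.Agent.Lib.Helper40_UProj2

open Polynomial Cfsg.Agent.Lib.Helper40_ProjOrd Cfsg.Agent.Lib.Helper40_ProjOrd2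
  Cfsg.Agent.Lib.Helper40_UProj Cfsg.Agent.Lib.Helper40_UExist Cfsg.Agent.Lib.Helper40_Palindromic

section basic

variable {F : Type*} [Field F] {ι : Type*} [Fintype ι] [DecidableEq ι]

theorem commute_aeval_right {Y A : Matrix ι ι F} (h : Commute Y A) (P : F[X]) :
    Commute Y (aeval A P) := by
  induction P using Polynomial.induction_on' with
  | add p q hp hq =>
    rw [map_add]
    exact hp.add_right hq
  | monomial n c =>
    rw [← C_mul_X_pow_eq_monomial, map_mul, map_pow, aeval_X, aeval_C,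
      Algebra.algebraMap_eq_smul_one, smul_mul_assoc, one_mul]
    exact (h.pow_right n).smul_right c

theorem commute_aeval_aeval {A B : Matrix ι ι F} (h : Commute A B) (P Q : F[X]) :
    Commute (aeval A P) (aeval B Q) :=
  (commute_aeval_right (commute_aeval_right h Q).symm P).symm

/-- evaluating the reversed polynomial -/
theorem aeval_inv_mul_pow {x x' : Matrix ι ι F} (h1 : x' * x = 1) (Q : F[X]) :
    aeval x' Q * x ^ Q.natDegree = aeval x Q.reverse := by
  set d := Q.natDegree with hd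
  have hpow : ∀ i : ℕ, i ≤ d → x' ^ i * x ^ d = x ^ (d - i) := by
    intro i hi
    have h2 : x' ^ i * x ^ i = 1 := by
      have hc : Commute x' x := by
        have h3 : x * x' = 1 := mul_eq_one_comm.1 h1
        show x' * x = x * x'
        rw [h1, h3]
      rw [← hc.mul_pow, h1, one_pow]
    have h3 : x ^ d = x ^ i * x ^ (d - i) := by rw [← pow_add, Nat.add_sub_cancel' hi]
    rw [h3, ← mul_assoc, h2, one_mul]
  rw [aeval_eq_sum_range' (Nat.lt_succ_self d), Finset.sum_mul]
  have hrev : Q.reverse.natDegree < d + 1 := Nat.lt_succ_of_le (reverse_natDegree_le Q)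
  rw [aeval_eq_sum_range' hrev, ← Finset.sum_range_reflect]
  apply Finset.sum_congr rfl
  intro i hi
  have hi' : i ≤ d := Nat.lt_succ_iff.1 (Finset.mem_range.1 hi)
  have h4 : d.succ - 1 - i = d - i := by omega
  rw [smul_mul_assoc, h4, hpow (d - i) (Nat.sub_le d i), Nat.sub_sub_self hi', reverse,
    coeff_reflect, revAt_le hi']

end basic

section idem

variable {F : Type*} [Field F] {ι : Type*} [Fintype ι] [DecidableEq ι]

/-- the idempotent of a coprime factorization of the minimal polynomial, with its annihilators -/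
theorem exists_idem (x : Matrix ι ι F) (g h : F[X]) (hgh : minpoly F x = g * h)
    (hcop : IsCoprime g h) :
    ∃ e : Matrix ι ι F, (∃ b : F[X], e = aeval x (b * h)) ∧ e * e = e ∧
      (∀ P : F[X], aeval x P * e = 0 ↔ g ∣ P) ∧ (∀ P : F[X], aeval x P * (1 - e) = 0 ↔ h ∣ P) := by
  obtain ⟨a, b, hab⟩ := hcop
  have hμ0 : minpoly F x ≠ 0 := minpoly.ne_zero (Matrix.isIntegral x)
  have hg0 : g ≠ 0 := fun h0 => hμ0 (by rw [hgh, h0, zero_mul])
  have hh0 : h ≠ 0 := fun h0 => hμ0 (by rw [hgh, h0, mul_zero])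
  have h1e : (1 : Matrix ι ι F) - aeval x (b * h) = aeval x (a * g) := by
    rw [sub_eq_iff_eq_add, ← map_add, hab, map_one]
  refine ⟨aeval x (b * h), ⟨_, rfl⟩, ?_, ?_, ?_⟩
  · have h2 : aeval x (a * g) * aeval x (b * h) = 0 := by
      rw [← map_mul]
      have : a * g * (b * h) = (a * b) * (g * h) := by ring
      rw [this, ← hgh, map_mul, minpoly.aeval, mul_zero]
    have h3 : aeval x (b * h) = 1 - aeval x (a * g) := by rw [← h1e]; abel
    nth_rewrite 1 [h3]
    rw [sub_mul, one_mul, h2, sub_zero]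
  · intro P
    rw [← map_mul, ← minpoly.dvd_iff, hgh]
    constructor
    · intro hd
      have h2 : g * h ∣ (P * b) * h := by
        have : P * (b * h) = (P * b) * h := by ring
        rwa [this] at hd
      have h3 : g ∣ P * b := (mul_dvd_mul_iff_right hh0).1 h2
      have hcop' : IsCoprime g b := ⟨a, h, by rw [mul_comm h b]; exact hab⟩
      exact hcop'.dvd_of_dvd_mul_right h3
    · rintro ⟨k, rfl⟩
      exact ⟨k * b, by ring⟩
  · intro P
    rw [h1e, ← map_mul, ← minpoly.dvd_iff, hgh]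
    constructor
    · intro hd
      have h2 : h * g ∣ (P * a) * g := by
        have : P * (a * g) = (P * a) * g := by ring
        rwa [this, mul_comm g h] at hd
      have h3 : h ∣ P * a := (mul_dvd_mul_iff_right hg0).1 h2
      have hcop' : IsCoprime h a := ⟨b, g, by rw [mul_comm g a, add_comm]; exact hab⟩
      exact hcop'.dvd_of_dvd_mul_right h3
    · rintro ⟨k, rfl⟩
      exact ⟨k * a, by ring⟩

variable (σ : F →+* F)

/-- the dichotomy for a nontrivial idempotent which is a polynomial in a unitary matrix -/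
theorem dichotomy (hinv : ∀ c, σ (σ c) = c) {x : Matrix ι ι F} (hU : IsUM σ x)
    (e : Matrix ι ι F) (hQ : ∃ Q : F[X], e = aeval x Q) (he : e * e = e) (he0 : e ≠ 0)
    (he1 : e ≠ 1) :
    (∃ e' : Matrix ι ι F, e' * e' = e' ∧ ctr σ e' = e' ∧ e' ≠ 0 ∧ e' ≠ 1 ∧ Commute e' x) ∨
      ctr σ e = 1 - e := by
  obtain ⟨Q, rfl⟩ := hQ
  set e := aeval x Q with hedef
  set e' := ctr σ e with he'def
  have hxx' : Commute x (ctr σ x) := by
    show x * ctr σ x = ctr σ x * x
    rw [hU.mul_ctr, hU]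
  have he'Q : e' = aeval (ctr σ x) (Q.map σ) := ctr_aeval σ x Q
  have hcomm_ee' : Commute e e' := by
    rw [he'Q]
    exact commute_aeval_aeval hxx' _ _
  have hcomm_ex : Commute e x := commute_aeval x Q
  have hcomm_e'x : Commute e' x := by
    rw [he'Q]
    exact (commute_aeval_right hxx' _).symm
  have he'idem : e' * e' = e' := by
    rw [he'def, ← ctr_mul, he]
  have hctr_e' : ctr σ e' = e := ctr_ctr σ hinv e
  by_cases h0 : e * e' = 0
  · by_cases h1 : e + e' = 1
    · right
      rw [← h1]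
      abel
    · left
      refine ⟨e + e', ?_, ?_, ?_, h1, hcomm_ex.add_left hcomm_e'x⟩
      · have h2 : e' * e = 0 := by rw [← hcomm_ee'.eq, h0]
        rw [mul_add, add_mul, add_mul, he, he'idem, h0, h2]
        abel
      · rw [ctr_add, hctr_e', add_comm]
      · intro h2
        apply he0
        have h3 : e * (e + e') = e := by rw [mul_add, he, h0, add_zero]
        rw [← h3, h2, mul_zero]
  · left
    refine ⟨e * e', ?_, ?_, h0, ?_, hcomm_ex.mul_left hcomm_e'x⟩
    · calc e * e' * (e * e') = e * (e' * e) * e' := by simp only [mul_assoc]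
        _ = e * (e * e') * e' := by rw [hcomm_ee'.eq]
        _ = (e * e) * (e' * e') := by simp only [mul_assoc]
        _ = e * e' := by rw [he, he'idem]
    · rw [ctr_mul, hctr_e', hcomm_ee'.eq]
    · intro h1
      apply he1
      calc e = e * 1 := (mul_one e).symm
        _ = e * (e * e') := by rw [h1]
        _ = (e * e) * e' := by rw [mul_assoc]
        _ = 1 := by rw [he, h1]

/-- two comparable idempotents of swap type are equal -/
theorem eq_of_comparable {e₁ e₂ : Matrix ι ι F} (h12 : e₁ * e₂ = e₁) (h21 : e₂ * e₁ = e₁)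
    (h1 : ctr σ e₁ = 1 - e₁) (h2 : ctr σ e₂ = 1 - e₂) : e₁ = e₂ := by
  have h3 : ctr σ (e₁ * e₂) = 1 - e₂ := by
    rw [ctr_mul, h1, h2, mul_sub, sub_mul, sub_mul, one_mul, mul_one, one_mul, h21]
    abel
  rw [h12, h1] at h3
  have h4 : e₁ = 1 - (1 - e₁) := by abel
  rw [h4, h3]
  abel

end idem

section duality

variable {F : Type*} [Field F] {ι : Type*} [Fintype ι] [DecidableEq ι] (σ : F →+* F)

/-- annihilators of adjoint idempotents correspond under `P ↦ reverse (P.map σ)` -/
theorem annih_dual (hinv : ∀ c, σ (σ c) = c) {x : Matrix ι ι F} (hU : IsUM σ x)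
    (e₁ e₂ : Matrix ι ι F) (h12 : ctr σ e₁ = e₂) (hc₂ : Commute e₂ x) (P : F[X]) :
    aeval x P * e₁ = 0 ↔ aeval x (P.map σ).reverse * e₂ = 0 := by
  have hxx' : Commute x (ctr σ x) := by
    show x * ctr σ x = ctr σ x * x
    rw [hU.mul_ctr, hU]
  have h1 : aeval x P * e₁ = 0 ↔ e₂ * aeval (ctr σ x) (P.map σ) = 0 := by
    rw [← h12, ← ctr_aeval, ← ctr_mul]
    constructor
    · intro h
      rw [h, ctr_zero]
    · intro h
      have := congrArg (ctr σ) h
      rwa [ctr_ctr σ hinv, ctr_zero] at this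
  rw [h1, ← aeval_inv_mul_pow hU]
  set d := (P.map σ).natDegree
  have hcomm : aeval (ctr σ x) (P.map σ) * x ^ d * e₂ =
      e₂ * (aeval (ctr σ x) (P.map σ) * x ^ d) := by
    rw [aeval_inv_mul_pow hU]
    exact (commute_aeval_right hc₂ _).eq.symm
  rw [hcomm]
  constructor
  · intro h
    rw [← mul_assoc, h, zero_mul]
  · intro h
    have h2 : x ^ d * (ctr σ x) ^ d = 1 := by rw [← hxx'.mul_pow, hU.mul_ctr, one_pow]
    calc e₂ * aeval (ctr σ x) (P.map σ)
        = e₂ * aeval (ctr σ x) (P.map σ) * (x ^ d * (ctr σ x) ^ d) := by rw [h2, mul_one]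
      _ = (e₂ * (aeval (ctr σ x) (P.map σ) * x ^ d)) * (ctr σ x) ^ d := by simp only [mul_assoc]
      _ = 0 := by rw [h, zero_mul]


theorem minpoly_coeff_zero_ne {x : Matrix ι ι F} (hU : IsUM σ x) : (minpoly F x).coeff 0 ≠ 0 := by
  intro h0
  have h1 : (X : F[X]) ∣ minpoly F x := X_dvd_iff.2 h0
  have h2 : (X : F[X]) ∣ x.charpoly := h1.trans (Matrix.minpoly_dvd_charpoly x)
  have h3 : x.charpoly.coeff 0 = 0 := X_dvd_iff.1 h2
  have h4 := Matrix.det_eq_sign_charpoly_coeff x
  rw [h3, mul_zero] at h4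
  exact hU.det_ne_zero h4

theorem udual_of_dvd_reverse (g h : F[X]) (hh : h.Monic) (hg0 : g.coeff 0 ≠ 0)
    (h1 : h ∣ (g.map σ).reverse) (hdeg : g.natDegree ≤ h.natDegree) : h = udual σ g := by
  have h2 : h ∣ udual σ g := by
    unfold udual recip
    exact h1.mul_left _
  have h3 := eq_of_monic_of_dvd_of_natDegree_le hh (udual_monic σ g hg0) h2
    (by rw [udual_natDegree σ g hg0]; exact hdeg)
  exact h3.symm

/-- the minimal polynomial of a unitary matrix is self-dual -/
theorem udual_minpoly (hinv : ∀ c, σ (σ c) = c) {x : Matrix ι ι F} (hU : IsUM σ x) :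
    udual σ (minpoly F x) = minpoly F x := by
  have h1 := (annih_dual σ hinv hU 1 1 (ctr_one σ) (Commute.one_left x) (minpoly F x)).1
    (by rw [minpoly.aeval, zero_mul])
  rw [mul_one, ← minpoly.dvd_iff] at h1
  exact (udual_of_dvd_reverse σ _ _ (minpoly.monic (Matrix.isIntegral x))
    (minpoly_coeff_zero_ne σ hU) h1 le_rfl).symm

/-- the two factors of a swap type factorization are dual to each other -/
theorem swap_dual (hinv : ∀ c, σ (σ c) = c) {x : Matrix ι ι F} (hU : IsUM σ x) (g h : F[X])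
    (hh : h.Monic) (hg0 : g.coeff 0 ≠ 0) (hh0 : h ≠ 0) (e : Matrix ι ι F)
    (hcomm : Commute e x)
    (hE2 : ∀ P : F[X], aeval x P * e = 0 ↔ g ∣ P)
    (hE3 : ∀ P : F[X], aeval x P * (1 - e) = 0 ↔ h ∣ P) (hswap : ctr σ e = 1 - e) :
    h = udual σ g := by
  have hswap' : ctr σ (1 - e) = e := by
    rw [ctr_sub, ctr_one, hswap]
    abel
  have hcomm' : Commute (1 - e) x := (Commute.one_left x).sub_left hcomm
  have h1 : h ∣ (g.map σ).reverse := by
    rw [← hE3]
    exact (annih_dual σ hinv hU e (1 - e) hswap hcomm' g).1 ((hE2 g).2 dvd_rfl)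
  have h2 : g ∣ (h.map σ).reverse := by
    rw [← hE2]
    exact (annih_dual σ hinv hU (1 - e) e hswap' hcomm h).1 ((hE3 h).2 dvd_rfl)
  have h3 : (h.map σ).reverse ≠ 0 := by
    rw [Ne, reverse_eq_zero, Polynomial.map_eq_zero]
    exact hh0
  have h4 : g.natDegree ≤ h.natDegree := by
    calc g.natDegree ≤ (h.map σ).reverse.natDegree := natDegree_le_of_dvd h2 h3
      _ ≤ (h.map σ).natDegree := reverse_natDegree_le _
      _ = h.natDegree := natDegree_map σ
  exact udual_of_dvd_reverse σ g h hh hg0 h1 h4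

end duality

section cases

variable {F : Type*} [Field F] {ι : Type*} [Fintype ι] [DecidableEq ι] (σ : F →+* F)

/-- the trichotomy for the minimal polynomial of a unitary matrix -/
theorem unitary_cases [Nonempty ι] (hinv : ∀ c, σ (σ c) = c) {x : Matrix ι ι F}
    (hU : IsUM σ x) :
    (∃ e : Matrix ι ι F, e * e = e ∧ ctr σ e = e ∧ e ≠ 0 ∧ e ≠ 1 ∧ Commute e x) ∨
    (∃ (f : F[X]) (c : ℕ), f.Monic ∧ Irreducible f ∧ 1 ≤ c ∧ f.coeff 0 ≠ 0 ∧ udual σ f = f ∧
      minpoly F x = f ^ c) ∨
    (∃ (f : F[X]) (c : ℕ), f.Monic ∧ Irreducible f ∧ 1 ≤ c ∧ f.coeff 0 ≠ 0 ∧ udual σ f ≠ f ∧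
      minpoly F x = f ^ c * (udual σ f) ^ c) := by
  by_cases hA : ∃ e : Matrix ι ι F, e * e = e ∧ ctr σ e = e ∧ e ≠ 0 ∧ e ≠ 1 ∧ Commute e x
  · exact Or.inl hA
  right
  have hint : IsIntegral F x := Matrix.isIntegral x
  have hmonic : (minpoly F x).Monic := minpoly.monic hint
  have hne1 : minpoly F x ≠ 1 := minpoly.ne_one F x
  have hnu : ¬ IsUnit (minpoly F x) := fun hu => hne1 (hmonic.eq_one_of_isUnit hu)
  have hμ0 : (minpoly F x).coeff 0 ≠ 0 := minpoly_coeff_zero_ne σ hU
  obtain ⟨f, hfm, hfi, hfd⟩ := Polynomial.exists_monic_irreducible_factor _ hnu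
  obtain ⟨c, h, hfh, hμ⟩ := WfDvdMonoid.max_power_factor hmonic.ne_zero hfi
  have hc : 1 ≤ c := by
    rcases Nat.eq_zero_or_pos c with rfl | hpos
    · rw [pow_zero, one_mul] at hμ
      rw [hμ] at hfd
      exact absurd hfd hfh
    · exact hpos
  have hf0 : f.coeff 0 ≠ 0 := by
    intro h0
    apply hμ0
    have h1 : (X : F[X]) ∣ f := X_dvd_iff.2 h0
    exact X_dvd_iff.1 (h1.trans hfd)
  have hhm : h.Monic := by
    have h1 : (f ^ c * h).Monic := by rw [← hμ]; exact hmonic
    exact (hfm.pow c).of_mul_monic_left h1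
  have hgnu : ¬ IsUnit (f ^ c) := by
    intro hu
    exact hfi.not_isUnit (isUnit_of_dvd_unit (dvd_pow_self f (by omega)) hu)
  have hdual : ∀ g : F[X], Irreducible g → g.Monic → g.coeff 0 ≠ 0 → ∀ k : ℕ,
      (udual σ g) ^ k = g ^ k → 1 ≤ k → udual σ g = g := by
    intro g hgi hgm hg0 k hk hk1
    have h1 : udual σ g ∣ g ^ k := by rw [← hk]; exact dvd_pow_self _ (by omega)
    have h2 : udual σ g ∣ g := (udual_irreducible σ hinv g hgi hg0).prime.dvd_of_dvd_pow h1
    exact eq_of_monic_of_associated (udual_monic σ g hg0) hgm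
      ((udual_irreducible σ hinv g hgi hg0).associated_of_dvd hgi h2)
  have hudualpow : ∀ (g : F[X]) (k : ℕ), udual σ (g ^ k) = (udual σ g) ^ k := by
    intro g k
    induction k with
    | zero =>
      rw [pow_zero, pow_zero]
      unfold udual recip
      have : (1 : F[X]).reverse = 1 := by rw [← C_1, reverse_C]
      simp [this]
    | succ k ih => rw [pow_succ, udual_mul, ih, pow_succ]
  by_cases hh : IsUnit h
  · left
    have h1 : h = 1 := hhm.eq_one_of_isUnit hh
    rw [h1, mul_one] at hμ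
    refine ⟨f, c, hfm, hfi, hc, hf0, ?_, hμ⟩
    have h2 := udual_minpoly σ hinv hU
    rw [hμ, hudualpow] at h2
    exact hdual f hfi hfm hf0 c h2 hc
  · right
    have hcop1 : IsCoprime (f ^ c) h := ((hfi.coprime_iff_not_dvd).2 hfh).pow_left
    obtain ⟨e₁, ⟨b₁, hb₁⟩, he₁, hE2₁, hE3₁⟩ := exists_idem x (f ^ c) h hμ hcop1
    have he₁0 : e₁ ≠ 0 := by
      intro h0
      apply hgnu
      apply isUnit_of_dvd_one
      rw [← hE2₁, h0, mul_zero]
    have he₁1 : e₁ ≠ 1 := by
      intro h0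
      apply hh
      apply isUnit_of_dvd_one
      rw [← hE3₁, h0, sub_self, mul_zero]
    have hcomm₁ : Commute e₁ x := by rw [hb₁]; exact commute_aeval x _
    have hswap₁ : ctr σ e₁ = 1 - e₁ := by
      rcases dichotomy σ hinv hU e₁ ⟨_, hb₁⟩ he₁ he₁0 he₁1 with h1 | h1
      · exact absurd h1 hA
      · exact h1
    have hdualh : h = udual σ (f ^ c) := by
      have hg0 : (f ^ c).coeff 0 ≠ 0 := by
        intro h0
        apply hμ0
        rw [hμ, mul_coeff_zero, h0, zero_mul]
      exact swap_dual σ hinv hU (f ^ c) h hhm hg0 hhm.ne_zero e₁ hcomm₁ hE2₁ hE3₁ hswap₁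
    rw [hudualpow] at hdualh
    refine ⟨f, c, hfm, hfi, hc, hf0, ?_, by rw [hμ, hdualh]⟩
    intro heq
    rw [hdualh, heq] at hcop1
    exact hgnu (isCoprime_self.1 hcop1)

end cases

end Cfsg.Agent.Lib.Helper40_UProj2
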