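import Mathlib
import Cfsg.Agent.Lib.Helper40_ProjOrd
import Cfsg.Agent.Lib.Helper40_ProjOrd2
import Cfsg.Agent.Lib.Helper40_UProj
import Cfsg.Agent.Lib.Helper40_UExist
import Cfsg.Agent.Lib.Helper40_UProj2
import Cfsg.Agent.Lib.Helper40_OrdPoly
import Cfsg.Agent.Lib.Helper40_FrobConj

set_option autoImplicit false

/-!
Bounds for the projective order of a unitary matrix with primary (self-dual) or swap type minimal
polynomial.
-/

namespace Cfsg.Agent.Lib.Helper40_UProj3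

open Polynomial Module Cfsg.Agent.Lib.Helper40_ProjOrd Cfsg.Agent.Lib.Helper40_ProjOrd2
  Cfsg.Agent.Lib.Helper40_UProj Cfsg.Agent.Lib.Helper40_UExist Cfsg.Agent.Lib.Helper40_Palindromic
  Cfsg.Agent.Lib.Helper40_UProj2 Cfsg.Agent.Lib.Helper40_OrdPoly Cfsg.Agent.Lib.Helper40_FrobConj
  Cfsg.Agent.Lib.Helper40_SpExist

section poly

variable {F : Type*} [Field F]

theorem recip_X_pow_sub_C (L : ℕ) (hL : 0 < L) (s : F) (hs : s ≠ 0) :
    recip (X ^ L - C s : F[X]) = X ^ L - C s⁻¹ := by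
  have h1 : (X ^ L - C s : F[X]) = X ^ L + C (-s) := by simp [sub_eq_add_neg]
  have hrev : (X ^ L : F[X]).reverse = 1 := by
    have := reverse_X_pow_mul (1 : F[X]) L
    rwa [mul_one, ← C_1, reverse_C] at this
  have h0 : (X ^ L + C (-s) : F[X]).coeff 0 = -s := by
    simp [coeff_X_pow, hL.ne]
  rw [h1]
  unfold recip
  rw [h0, reverse_add_C, hrev, natDegree_X_pow, mul_add, mul_one, ← mul_assoc, ← C_mul,
    inv_mul_cancel₀ (neg_ne_zero.2 hs), C_1, one_mul, inv_neg, C_neg]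
  ring

variable (σ : F →+* F)

theorem udual_X_pow_sub_C (L : ℕ) (hL : 0 < L) (s : F) (hs : s ≠ 0) :
    udual σ (X ^ L - C s : F[X]) = X ^ L - C (σ s)⁻¹ := by
  unfold udual
  rw [Polynomial.map_sub, Polynomial.map_pow, map_X, map_C,
    recip_X_pow_sub_C L hL (σ s) ((map_ne_zero σ).2 hs)]

theorem udual_dvd_X_pow_sub_C {f : F[X]} (L : ℕ) (hL : 0 < L) (s : F) (hs : s ≠ 0)
    (h : f ∣ X ^ L - C s) : udual σ f ∣ X ^ L - C (σ s)⁻¹ := by
  have := udual_dvd σ h
  rwa [udual_X_pow_sub_C σ L hL s hs] at this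

end poly

section general

variable {F : Type*} [Field F] {ι : Type*} [Fintype ι] [DecidableEq ι]

/-- if the minimal polynomial divides `(X ^ m - s) ^ (p ^ κ)` then the projective order divides
`m * p ^ κ` -/
theorem pord_dvd_of_dvd_X_pow_sub_C (p : ℕ) [Fact p.Prime] [CharP F p] (M : Matrix ι ι F) {a : ℕ}
    (hM : HasPOrd M a) (m κ : ℕ) (s : F) (h : minpoly F M ∣ (X ^ m - C s) ^ p ^ κ) :
    a ∣ m * p ^ κ := by
  rw [← hM.iff, isScalarMat_pow_iff]
  refine ⟨s ^ p ^ κ, ?_⟩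
  rw [pow_mul, C_pow, ← sub_pow_char_pow]
  exact h

end general

section selfdual

variable {F : Type*} [Field F] [Fintype F] {q : ℕ} (σ : F →+* F) (hσq : ∀ x, σ x = x ^ q)

include hσq in
/-- `f.map σ` vanishes at the `q`-th power of a root of `f` -/
theorem aeval_pow_q_map (hF : Fintype.card F = q ^ 2) {E : Type*} [Field E] [Algebra F E]
    (ρ : E) (f : F[X]) (h : aeval ρ f = 0) : aeval (ρ ^ q) (f.map σ) = 0 := by
  obtain ⟨p, j, hp, hchar, rfl⟩ := Cfsg.Agent.Lib.Helper13_Herm.exists_char_pow hF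
  have : Fact p.Prime := ⟨hp⟩
  have : CharP E p := charP_of_injective_algebraMap (algebraMap F E).injective p
  have : ExpChar E p := ExpChar.prime hp
  have h1 : aeval (ρ ^ p ^ j) (f.map σ) = (aeval ρ f) ^ p ^ j := by
    rw [aeval_def, aeval_def, eval₂_map, eval₂_eq_sum_range, eval₂_eq_sum_range,
      sum_pow_char_pow]
    apply Finset.sum_congr rfl
    intro i _
    rw [RingHom.comp_apply, hσq, map_pow, mul_pow, ← pow_mul, ← pow_mul, mul_comm i]
  rw [h1, h, zero_pow (pow_ne_zero _ hp.ne_zero)]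

include hσq in
/-- a self-dual irreducible polynomial over the field with `q²` elements has odd degree `δ`, and
its roots have order dividing `q ^ δ + 1` -/
theorem selfdual_odd (hF : Fintype.card F = q ^ 2) (hinv : ∀ c, σ (σ c) = c) (f : F[X])
    (hfm : f.Monic) (hfi : Irreducible f) (h0 : f.coeff 0 ≠ 0) (hd : udual σ f = f) :
    Odd f.natDegree ∧ f ∣ X ^ (q ^ f.natDegree + 1) - 1 := by
  classical
  have : Fact (Irreducible f) := ⟨hfi⟩
  have hfin : Module.Finite F (AdjoinRoot f) := hfm.finite_adjoinRoot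
  have : Finite (AdjoinRoot f) := Module.finite_of_finite F
  set ρ := AdjoinRoot.root f with hρ
  have hρ0 : ρ ≠ 0 := root_ne_zero f h0
  have hfr : finrank F (AdjoinRoot f) = f.natDegree := by
    rw [(AdjoinRoot.powerBasis hfi.ne_zero).finrank, AdjoinRoot.powerBasis_dim]
  have hroot : aeval ρ f = 0 := by rw [AdjoinRoot.aeval_eq, AdjoinRoot.mk_self]
  have hroot1 : aeval (ρ ^ q) (f.map σ) = 0 := aeval_pow_q_map σ hσq hF ρ f hroot
  have hroot2 : aeval ρ⁻¹ (f.map σ) = 0 := by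
    rw [map_eq_recip_of_udual_eq σ f hfm h0 hd]
    exact aeval_inv_root_recip f h0
  have hfσi : Irreducible (f.map σ) := irreducible_map σ hinv f hfi
  have hfσm : (f.map σ).Monic := hfm.map σ
  have hm1 : minpoly F (ρ ^ q) = f.map σ :=
    (minpoly.eq_of_irreducible_of_monic hfσi hroot1 hfσm).symm
  have hm2 : minpoly F ρ⁻¹ = f.map σ :=
    (minpoly.eq_of_irreducible_of_monic hfσi hroot2 hfσm).symm
  have hconj : IsConjRoot F ρ⁻¹ (ρ ^ q) := by
    rw [isConjRoot_def, hm1, hm2]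
  obtain ⟨τ, hτ⟩ := hconj.exists_algEquiv
  obtain ⟨⟨j, hjn⟩, hj⟩ :=
    (FiniteField.bijective_frobeniusAlgEquivOfAlgebraic_pow F (AdjoinRoot f)).2 τ
  have hpow : ∀ (k : ℕ) (x : AdjoinRoot f),
      (FiniteField.frobeniusAlgEquivOfAlgebraic F (AdjoinRoot f) ^ k) x =
        x ^ (Fintype.card F ^ k) := by
    intro k x
    simp only [AlgEquiv.coe_pow, FiniteField.coe_frobeniusAlgEquivOfAlgebraic, pow_iterate]
  have h3 : ρ ^ (q ^ (2 * j + 1)) = ρ⁻¹ := by
    have h3' : (ρ ^ q) ^ (Fintype.card F ^ j) = ρ⁻¹ := by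
      rw [← hpow]
      have : (FiniteField.frobeniusAlgEquivOfAlgebraic F (AdjoinRoot f) ^ j) = τ := hj
      rw [this, hτ]
    rw [← h3', hF, ← pow_mul, ← pow_mul, pow_succ, mul_comm (q ^ (2 * j)) q]
  have h4 : ρ ^ (Fintype.card F ^ (2 * j + 1)) = ρ := by
    rw [hF, ← pow_mul, two_mul, pow_add, pow_mul, h3, inv_pow, h3, inv_inv]
  have h5 : FiniteField.frobeniusAlgEquivOfAlgebraic F (AdjoinRoot f) ^ (2 * j + 1) = 1 := by
    apply AlgEquiv.coe_toAlgHom_injective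
    apply AdjoinRoot.algHom_ext
    exact (hpow _ _).trans h4
  have h6 : finrank F (AdjoinRoot f) ∣ 2 * j + 1 := by
    rw [← FiniteField.orderOf_frobeniusAlgEquivOfAlgebraic]
    exact orderOf_dvd_of_pow_eq_one h5
  rw [hfr] at h6 hjn
  have hjlt : j < f.natDegree := hjn
  obtain ⟨c, hc⟩ := h6
  have hc1 : c = 1 := by
    rcases c with _ | _ | c
    · omega
    · rfl
    · exfalso
      have : f.natDegree * (c + 1 + 1) = f.natDegree * c + 2 * f.natDegree := by ring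
      omega
  rw [hc1, mul_one] at hc
  refine ⟨⟨j, hc.symm⟩, ?_⟩
  rw [← root_pow_eq_one_iff, pow_succ, ← hc, h3, inv_mul_cancel₀ hρ0]

end selfdual

section bounds

variable {F : Type*} [Field F] [Fintype F] {q : ℕ} (σ : F →+* F) (hσq : ∀ x, σ x = x ^ q)

/-- `(q ^ δ + 1) / (q + 1)` -/
def bone (q δ : ℕ) : ℕ := (q ^ δ + 1) / (q + 1)

/-- `(q ^ (2 δ) - 1) / (q + 1)` -/
def btwo (q δ : ℕ) : ℕ := mnum (q ^ 2) δ * (q - 1)

theorem bone_mul (q δ : ℕ) (hδ : Odd δ) : bone q δ * (q + 1) = q ^ δ + 1 := by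
  have h := Odd.nat_add_dvd_pow_add_pow q 1 hδ
  rw [one_pow] at h
  exact Nat.div_mul_cancel h

/-- an element of a finite extension fixed by the Frobenius of the base field lies in the base
field -/
theorem mem_range_of_pow_card {E : Type*} [Field E] [Algebra F E] [Finite E] (z : E)
    (hz : z ^ Fintype.card F = z) : ∃ s : F, algebraMap F E s = z := by
  have : FiniteDimensional F E := Module.Finite.of_finite
  have h1 : z ∈ (⊥ : IntermediateField F E) := by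
    rw [IsGalois.mem_bot_iff_fixed]
    intro g
    obtain ⟨⟨k, hk⟩, hg⟩ := (FiniteField.bijective_frobeniusAlgEquivOfAlgebraic_pow F E).2 g
    rw [← hg]
    simp only [AlgEquiv.coe_pow, FiniteField.coe_frobeniusAlgEquivOfAlgebraic, pow_iterate]
    clear hg hk
    induction k with
    | zero => rw [pow_zero, pow_one]
    | succ k ih => rw [pow_succ, pow_mul, ih, hz]
  exact IntermediateField.mem_bot.1 h1

include hσq in
theorem selfdual_scalar (hF : Fintype.card F = q ^ 2) (hinv : ∀ c, σ (σ c) = c) (f : F[X])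
    (hfm : f.Monic) (hfi : Irreducible f) (h0 : f.coeff 0 ≠ 0) (hd : udual σ f = f) :
    ∃ s : F, f ∣ X ^ bone q f.natDegree - C s := by
  obtain ⟨hodd, hdvd⟩ := selfdual_odd σ hσq hF hinv f hfm hfi h0 hd
  have : Fact (Irreducible f) := ⟨hfi⟩
  have hfin : Module.Finite F (AdjoinRoot f) := hfm.finite_adjoinRoot
  have : Finite (AdjoinRoot f) := Module.finite_of_finite F
  set ρ := AdjoinRoot.root f with hρ
  have h1 : ρ ^ (q ^ f.natDegree + 1) = 1 := (root_pow_eq_one_iff f _).2 hdvd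
  set z := ρ ^ bone q f.natDegree with hz
  have h2 : z ^ (q + 1) = 1 := by rw [hz, ← pow_mul, bone_mul q _ hodd, h1]
  have hq1 : 1 ≤ q := by
    have := Cfsg.Agent.Lib.Helper13_Herm.two_le_q hF
    omega
  have h3 : z ^ Fintype.card F = z := by
    have h4 : q ^ 2 = (q + 1) * (q - 1) + 1 := by
      obtain ⟨k, rfl⟩ : ∃ k, q = k + 1 := ⟨q - 1, by omega⟩
      simp only [Nat.add_sub_cancel]
      ring
    rw [hF, h4, pow_succ, pow_mul, h2, one_pow, one_mul]
  obtain ⟨s, hs⟩ := mem_range_of_pow_card z h3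
  refine ⟨s, ?_⟩
  rw [← AdjoinRoot.mk_eq_zero, map_sub, map_pow, AdjoinRoot.mk_X, AdjoinRoot.mk_C,
    ← AdjoinRoot.algebraMap_eq, hs, sub_self]

include hσq in
/-- the bound in the self-dual primary case -/
theorem pord_dvd_selfdual (hF : Fintype.card F = q ^ 2) (hinv : ∀ c, σ (σ c) = c) (p : ℕ)
    [Fact p.Prime] [CharP F p] {ι : Type*} [Fintype ι] [DecidableEq ι] (M : Matrix ι ι F) {a : ℕ}
    (hM : HasPOrd M a) (f : F[X]) (c κ : ℕ) (hfm : f.Monic) (hfi : Irreducible f)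
    (h0 : f.coeff 0 ≠ 0) (hd : udual σ f = f) (hμ : minpoly F M = f ^ c) (hκ : c ≤ p ^ κ) :
    a ∣ bone q f.natDegree * p ^ κ := by
  obtain ⟨s, hs⟩ := selfdual_scalar σ hσq hF hinv f hfm hfi h0 hd
  apply pord_dvd_of_dvd_X_pow_sub_C p M hM _ κ s
  rw [hμ]
  exact (pow_dvd_pow f hκ).trans (pow_dvd_pow_of_dvd hs _)

omit [Fintype F] in
theorem inv_pow_q_pow (w : F) (hw : w ^ (q ^ 2 - 1) = 1) (hq : 1 ≤ q) :
    ((w ^ q)⁻¹) ^ (q - 1) = w ^ (q - 1) := by
  rw [inv_pow, eq_comm]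
  apply eq_inv_of_mul_eq_one_left
  rw [← pow_mul, ← pow_add]
  have h6 : q - 1 + q * (q - 1) = q ^ 2 - 1 := by
    obtain ⟨k, rfl⟩ : ∃ k, q = k + 1 := ⟨q - 1, by omega⟩
    simp only [Nat.add_sub_cancel]
    have : (k + 1) ^ 2 = k + (k + 1) * k + 1 := by ring
    omega
  rw [h6, hw]

include hσq in
/-- the bound in the swap case -/
theorem pord_dvd_swap (hF : Fintype.card F = q ^ 2) (hinv : ∀ c, σ (σ c) = c) (p : ℕ)
    [Fact p.Prime] [CharP F p] {ι : Type*} [Fintype ι] [DecidableEq ι] (M : Matrix ι ι F) {a : ℕ}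
    (hM : HasPOrd M a) (f : F[X]) (c κ : ℕ) (hfm : f.Monic) (hfi : Irreducible f)
    (h0 : f.coeff 0 ≠ 0) (hne : udual σ f ≠ f) (hμ : minpoly F M = f ^ c * (udual σ f) ^ c)
    (hκ : c ≤ p ^ κ) :
    a ∣ btwo q f.natDegree * p ^ κ := by
  have hq2 := Cfsg.Agent.Lib.Helper13_Herm.two_le_q hF
  obtain ⟨l, hl⟩ := irreducible_dvd_X_pow_mnum_sub_C f hfi
  rw [hF] at hl
  set m := mnum (q ^ 2) f.natDegree with hm
  have hm0 : 0 < m := by
    have h1 : m * (q ^ 2 - 1) = (q ^ 2) ^ f.natDegree - 1 := Nat.div_mul_cancel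
      (Nat.sub_one_dvd_pow_sub_one _ _)
    have h2 : 1 < (q ^ 2) ^ f.natDegree :=
      Nat.one_lt_pow (by have := hfi.natDegree_pos; omega) (by nlinarith)
    rcases Nat.eq_zero_or_pos m with h | h
    · rw [h, zero_mul] at h1
      omega
    · exact h
  have hl0 : l ≠ 0 := by
    rintro rfl
    rw [C_0, sub_zero] at hl
    have h1 : f ∣ X := hfi.prime.dvd_of_dvd_pow hl
    exact h0 (X_dvd_iff.1 ((irreducible_X.dvd_iff.1 h1).resolve_left hfi.not_isUnit).dvd)
  have hl' := udual_dvd_X_pow_sub_C σ m hm0 l hl0 hl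
  -- raise to the power `p ^ κ`
  have h1 : f ^ c ∣ X ^ (m * p ^ κ) - C (l ^ p ^ κ) := by
    rw [pow_mul, C_pow, ← sub_pow_char_pow]
    exact (pow_dvd_pow f hκ).trans (pow_dvd_pow_of_dvd hl _)
  have h2 : (udual σ f) ^ c ∣ X ^ (m * p ^ κ) - C (((σ l)⁻¹) ^ p ^ κ) := by
    rw [pow_mul, C_pow, ← sub_pow_char_pow]
    exact (pow_dvd_pow _ hκ).trans (pow_dvd_pow_of_dvd hl' _)
  -- raise to the power `q - 1`
  set l' := l ^ p ^ κ with hl'def
  have hl'0 : l' ≠ 0 := pow_ne_zero _ hl0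
  have h3 : f ^ c ∣ X ^ (m * p ^ κ * (q - 1)) - C (l' ^ (q - 1)) := by
    rw [pow_mul _ _ (q - 1), C_pow]
    exact h1.trans (sub_dvd_pow_sub_pow _ _ _)
  have h4 : (udual σ f) ^ c ∣ X ^ (m * p ^ κ * (q - 1)) - C (l' ^ (q - 1)) := by
    have hw : l' ^ (q ^ 2 - 1) = 1 := by
      rw [← hF]
      exact FiniteField.pow_card_sub_one_eq_one l' hl'0
    have e1 : ((σ l)⁻¹) ^ p ^ κ = (l' ^ q)⁻¹ := by
      rw [hσq, inv_pow, ← pow_mul, mul_comm, pow_mul]
    have h5 : (((σ l)⁻¹) ^ p ^ κ) ^ (q - 1) = l' ^ (q - 1) := by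
      rw [e1]
      exact inv_pow_q_pow l' hw (by omega)
    rw [← h5, pow_mul _ _ (q - 1), C_pow]
    exact h2.trans (sub_dvd_pow_sub_pow _ _ _)
  have hcop : IsCoprime (f ^ c) ((udual σ f) ^ c) :=
    (coprime_of_ne hfm (udual_monic σ f h0) hfi (udual_irreducible σ hinv f hfi h0)
      (Ne.symm hne)).pow
  have h7 : minpoly F M ∣ X ^ (m * p ^ κ * (q - 1)) - C (l' ^ (q - 1)) := by
    rw [hμ]
    exact hcop.mul_dvd h3 h4
  have h8 : a ∣ m * p ^ κ * (q - 1) := by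
    rw [← hM.iff, isScalarMat_pow_iff]
    exact ⟨_, h7⟩
  have h9 : btwo q f.natDegree * p ^ κ = m * p ^ κ * (q - 1) := by
    rw [btwo, ← hm]
    ring
  rw [h9]
  exact h8

end bounds

end Cfsg.Agent.Lib.Helper40_UProj3
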