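import Mathlib
import Cfsg.Prelude.Def_Classical
import Cfsg.Prelude.Def_GeometricClasses
import Cfsg.Agent.Lib.Helper40_UExist

/-!
# S5982 (helper58): vocabulary of the package cut

`PSL_n(q₀²)` against the subgroup of unitary type: prime order elements conjugate into the
similarity group of the standard hermitian form, in terms of characteristic polynomials.
-/

set_option autoImplicit false
open scoped MatrixGroups

namespace Cfsg.Agent.Lib.Helper58_S5982Defs

open Polynomial Cfsg.Agent.Lib.Helper40_UExist

universe v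

variable {F : Type v} [Field F]

/-- scaled self-duality: some scaling of the roots of `c` is self-dual for `udual σ` -/
def SSD (σ : F →+* F) (c : F[X]) : Prop :=
  ∃ μ : F, μ ≠ 0 ∧ udual σ (c.scaleRoots μ) = c.scaleRoots μ

/-- `c` is the characteristic polynomial of a non-scalar semisimple `x ∈ SL_n(F)` with `x ^ r`
scalar -/
structure Adm (n r : ℕ) (c : F[X]) : Prop where
  monic : c.Monic
  deg : c.natDegree = n
  det : c.coeff 0 = (-1) ^ n
  fac : ∃ z : F, z ≠ 0 ∧ ∀ g : F[X], Irreducible g → g ∣ c → g ∣ X ^ r - C z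
  ns : ∀ a : F, c ≠ (X - C a) ^ n

/-- `x` is conjugate under `SL_n(F)` into the similarity group of the standard hermitian form -/
def ConjInto (n : ℕ) (q₀ : ℕ) (x : GL (Fin n) F) : Prop :=
  ∃ g ∈ Cfsg.Geo.specialLinear (Fin n) F,
    g⁻¹ * x * g ∈ Cfsg.Geo.similarityGroup (Cfsg.hermForm n F q₀)

end Cfsg.Agent.Lib.Helper58_S5982Defs
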