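import Mathlib
import Cfsg.Agent.Lib.Helper58_S5982Defs
import Cfsg.Agent.Lib.Helper40_UExist
import Cfsg.Agent.Lib.Helper40_ScalePoly
import Cfsg.Agent.Lib.Helper40_UProj3
import Cfsg.Agent.Lib.Helper40_UPrimeOrder

/-!
# S5982, package NEGB (helper17)

`F = F_{q₀²}` of odd characteristic, `σ = (x ↦ x ^ q₀)`, `(n)_2 > (q₀² - 1)_2`: the polynomial
`(X² - z) ^ (n / 2)` with `z` a non-square such that `(-z) ^ (n / 2) = 1` is admissible and not
scaled-self-dual.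
-/

set_option autoImplicit false
set_option linter.unusedSectionVars false

namespace Cfsg.Agent.Lib.Helper17_S5982_NEGB

open Polynomial Cfsg.Agent.Lib.Helper58_S5982Defs Cfsg.Agent.Lib.Helper40_UExist

variable {F : Type*} [Field F] [Fintype F]

theorem ringChar_ne_two (h2 : (2 : F) ≠ 0) : ringChar F ≠ 2 := by
  intro h
  apply h2
  have h1 : ((2 : ℕ) : F) = 0 := by
    rw [ringChar.spec, h]
  exact_mod_cast h1

/-- The choice of `z`. -/
theorem exists_z {q₀ : ℕ} (hK : Fintype.card F = q₀ ^ 2) (h2 : (2 : F) ≠ 0) (n : ℕ)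
    (hv : padicValNat 2 (q₀ ^ 2 - 1) < padicValNat 2 n) :
    ∃ (z : F) (m : ℕ), n = 2 * m ∧ 0 < m ∧ z ≠ 0 ∧ ¬ IsSquare z ∧ (-z) ^ m = 1 := by
  have hchar := ringChar_ne_two h2
  have hodd : Fintype.card F % 2 = 1 := FiniteField.odd_card_of_char_ne_two hchar
  have hcard1 : 1 < Fintype.card F := Fintype.one_lt_card
  have hn0 : n ≠ 0 := by
    rintro rfl
    rw [padicValNat_zero_right] at hv
    exact Nat.not_lt_zero _ hv
  set a := padicValNat 2 (q₀ ^ 2 - 1) with ha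
  have hQ0 : q₀ ^ 2 - 1 ≠ 0 := by rw [← hK]; omega
  -- `n = 2 * m` with `2 ^ a ∣ m`
  have hdvd : 2 ^ (a + 1) ∣ n :=
    dvd_trans (pow_dvd_pow 2 hv) pow_padicValNat_dvd
  obtain ⟨t, ht⟩ := hdvd
  have ht0 : 0 < t := by
    rcases Nat.eq_zero_or_pos t with h | h
    · rw [h, mul_zero] at ht; exact absurd ht hn0
    · exact h
  -- `q₀² - 1 = 2 ^ a * u`, `u` odd
  obtain ⟨u, hu⟩ : 2 ^ a ∣ q₀ ^ 2 - 1 := pow_padicValNat_dvd
  have huodd : Odd u := by
    rw [← Nat.not_even_iff_odd]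
    rintro ⟨k, hk⟩
    have : 2 ^ (a + 1) ∣ q₀ ^ 2 - 1 := by
      rw [hu, hk, pow_succ]
      exact ⟨k, by ring⟩
    exact pow_succ_padicValNat_not_dvd hQ0 this
  -- `q₀` odd, `card F / 2` even
  have hq0odd : Odd q₀ := by
    rw [← Nat.not_even_iff_odd]
    intro he
    have : Even (q₀ ^ 2) := (Nat.even_pow.2 ⟨he, by norm_num⟩)
    rw [← hK, Nat.even_iff] at this
    omega
  obtain ⟨k, hk⟩ := hq0odd
  have hsq : q₀ ^ 2 = 4 * (k ^ 2 + k) + 1 := by rw [hk]; ring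
  have hhalf : Fintype.card F / 2 = 2 * (k ^ 2 + k) := by rw [hK, hsq]; omega
  have hcard : Fintype.card F - 1 = 2 ^ a * u := by rw [hK]; exact hu
  -- a non-square
  obtain ⟨w, hw⟩ := FiniteField.exists_nonsquare hchar
  have hw0 : w ≠ 0 := by
    rintro rfl
    exact hw ⟨0, by simp⟩
  have hwh : w ^ (Fintype.card F / 2) = -1 := by
    rcases FiniteField.pow_dichotomy hchar hw0 with h | h
    · exact absurd ((FiniteField.isSquare_iff hchar hw0).2 h) hw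
    · exact h
  have hneg : (-1 : F) ≠ 1 := by
    intro h
    apply h2
    have : (2 : F) = 1 - (-1) := by ring
    rw [this, h, sub_self]
  refine ⟨-(w ^ u), 2 ^ a * t, ?_, Nat.mul_pos (pow_pos (by norm_num) a) ht0, ?_, ?_, ?_⟩
  · rw [ht, pow_succ]; ring
  · exact neg_ne_zero.2 (pow_ne_zero _ hw0)
  · have hz0 : -(w ^ u) ≠ 0 := neg_ne_zero.2 (pow_ne_zero _ hw0)
    rw [FiniteField.isSquare_iff hchar hz0]
    have h1 : (-(w ^ u)) ^ (Fintype.card F / 2) = -1 := by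
      rw [neg_pow, ← pow_mul, mul_comm u, pow_mul, hwh, hhalf, pow_mul, neg_one_sq, one_pow,
        one_mul, huodd.neg_one_pow]
    rw [h1]
    exact hneg
  · rw [neg_neg, ← pow_mul]
    have : u * (2 ^ a * t) = (Fintype.card F - 1) * t := by rw [hcard]; ring
    rw [this, pow_mul, FiniteField.pow_card_sub_one_eq_one w hw0, one_pow]


omit [Fintype F] in
/-- Admissibility of `(X² - z) ^ m`. -/
theorem adm_pow (n m : ℕ) (hnm : n = 2 * m) (hm : 0 < m) (z : F) (hz0 : z ≠ 0)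
    (hz : ¬ IsSquare z) (hzm : (-z) ^ m = 1) : Adm n 2 ((X ^ 2 - C z : F[X]) ^ m) := by
  have hmon : (X ^ 2 - C z : F[X]).Monic := monic_X_pow_sub_C z two_ne_zero
  have hn0 : n ≠ 0 := by omega
  refine ⟨hmon.pow m, ?_, ?_, ⟨z, hz0, ?_⟩, ?_⟩
  · rw [hmon.natDegree_pow, natDegree_X_pow_sub_C, hnm, mul_comm]
  · rw [coeff_zero_eq_eval_zero, eval_pow, eval_sub, eval_pow, eval_X, eval_C,
      zero_pow two_ne_zero, zero_sub, hzm, hnm, pow_mul, neg_one_sq, one_pow]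
  · intro g hg hdvd
    exact hg.prime.dvd_of_dvd_pow hdvd
  · intro a hEq
    apply hz
    have h1 := congrArg (eval a) hEq
    rw [eval_pow, eval_pow, eval_sub, eval_sub, eval_pow, eval_X, eval_C, eval_C, sub_self,
      zero_pow hn0] at h1
    have h2 := (pow_eq_zero_iff hm.ne').1 h1
    exact ⟨a, by rw [← pow_two]; exact (sub_eq_zero.1 h2).symm⟩

/-- `(X² - z) ^ m` is not scaled-self-dual. -/
theorem not_ssd {q₀ : ℕ} (hK : Fintype.card F = q₀ ^ 2) (σ : F →+* F)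
    (hσq : ∀ x, σ x = x ^ q₀) (h2 : (2 : F) ≠ 0) (m : ℕ) (hm : 0 < m) (z : F) (hz0 : z ≠ 0)
    (hz : ¬ IsSquare z) : ¬ SSD σ ((X ^ 2 - C z : F[X]) ^ m) := by
  rintro ⟨μ, hμ, hdual⟩
  have hchar := ringChar_ne_two h2
  set s : F := z * μ ^ 2 with hs
  have hs0 : s ≠ 0 := mul_ne_zero hz0 (pow_ne_zero _ hμ)
  have hscale : ((X ^ 2 - C z : F[X]) ^ m).scaleRoots μ = (X ^ 2 - C s) ^ m := by
    rw [pow_scaleRoots_of_isReduced,
      Cfsg.Agent.Lib.Helper40_ScalePoly.scaleRoots_X_pow_sub_C 2 (by norm_num) z μ]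
  rw [hscale, Cfsg.Agent.Lib.Helper40_UPrimeOrder.udual_pow,
    Cfsg.Agent.Lib.Helper40_UProj3.udual_X_pow_sub_C σ 2 (by norm_num) s hs0] at hdual
  -- the two quadratics coincide
  have hm0 : m ≠ 0 := hm.ne'
  have hd1 : (X ^ 2 - C (σ s)⁻¹ : F[X]) ∣ X ^ 2 - C s :=
    (UniqueFactorizationMonoid.pow_dvd_pow_iff_dvd hm0).1 (dvd_of_eq hdual)
  have hEq : (X ^ 2 - C (σ s)⁻¹ : F[X]) = X ^ 2 - C s := by
    refine (eq_of_monic_of_dvd_of_natDegree_le (monic_X_pow_sub_C _ two_ne_zero)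
      (monic_X_pow_sub_C _ two_ne_zero) hd1 ?_).symm
    rw [natDegree_X_pow_sub_C, natDegree_X_pow_sub_C]
  have hinv : (σ s)⁻¹ = s := by
    have := congrArg (fun p : F[X] => p.coeff 0) hEq
    simp only [coeff_sub, coeff_X_pow, coeff_C_zero] at this
    simpa using this
  have hss : s ^ (q₀ + 1) = 1 := by
    have h1 : σ s * s = 1 := by
      have h5 : σ s ≠ 0 := (map_ne_zero σ).2 hs0
      calc σ s * s = σ s * (σ s)⁻¹ := by rw [hinv]
        _ = 1 := mul_inv_cancel₀ h5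
    rw [pow_succ, ← hσq]
    exact h1
  -- `q₀` is odd
  have hodd : Fintype.card F % 2 = 1 := FiniteField.odd_card_of_char_ne_two hchar
  have hq0odd : Odd q₀ := by
    rw [← Nat.not_even_iff_odd]
    intro he
    have : Even (q₀ ^ 2) := (Nat.even_pow.2 ⟨he, by norm_num⟩)
    rw [← hK, Nat.even_iff] at this
    omega
  obtain ⟨k, hk⟩ := hq0odd
  have hhalf : Fintype.card F / 2 = (q₀ + 1) * k := by
    rw [hK, hk]
    have : (2 * k + 1) ^ 2 = 2 * ((2 * k + 1 + 1) * k) + 1 := by ring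
    rw [this]; omega
  have hcardm : Fintype.card F - 1 = (q₀ + 1) * (2 * k) := by
    rw [hK, hk]
    have : (2 * k + 1) ^ 2 = (2 * k + 1 + 1) * (2 * k) + 1 := by ring
    rw [this]; omega
  apply hz
  rw [FiniteField.isSquare_iff hchar hz0, hhalf]
  have h3 : (s ^ (q₀ + 1)) ^ k = 1 := by rw [hss, one_pow]
  rw [hs, mul_pow, mul_pow, ← pow_mul, ← pow_mul μ, ← pow_mul μ] at h3
  have h4 : μ ^ (2 * (q₀ + 1) * k) = 1 := by
    have : 2 * (q₀ + 1) * k = Fintype.card F - 1 := by rw [hcardm]; ring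
    rw [this, FiniteField.pow_card_sub_one_eq_one μ hμ]
  rw [h4, mul_one] at h3
  exact h3

/-- **NEGB**. -/
theorem NEGB {F : Type*} [Field F] [Fintype F] {q₀ : ℕ} (hK : Fintype.card F = q₀ ^ 2) (σ : F →+* F)
    (hσq : ∀ x, σ x = x ^ q₀) (h2 : (2 : F) ≠ 0) (n : ℕ)
    (hv : padicValNat 2 (q₀ ^ 2 - 1) < padicValNat 2 n) : ∃ c : F[X], Adm n 2 c ∧ ¬ SSD σ c := by
  obtain ⟨z, m, hnm, hm, hz0, hz, hzm⟩ := exists_z hK h2 n hv
  exact ⟨(X ^ 2 - C z) ^ m, adm_pow n m hnm hm z hz0 hz hzm, not_ssd hK σ hσq h2 m hm z hz0 hz⟩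

end Cfsg.Agent.Lib.Helper17_S5982_NEGB
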