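import Mathlib

/-!
# S3333 (S6 from a self-centralizing Sylow 3-subgroup of order 9 with automizer D8, strongly
3-embedded normalizer): shared definitions for helper6's package market `s6_packages`.

`Setup G S` : the standing hypotheses of S3333 in elementwise form, with the isomorphism
`N_G(S)/S ≃* D8` replaced by a surjective homomorphism `π : N_G(S) →* DihedralGroup 4` with
kernel `S`.
-/

set_option autoImplicit false

namespace Cfsg.Agent.Lib.Helper6_S6Defs

/-- standing hypotheses of S3333 -/
structure Setup (G : Type*) [Group G] (S : Subgroup G) where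
  /-- `N_G(S) → D8`, onto, kernel `S` -/
  π : ↥(Subgroup.normalizer (S : Set G)) →* DihedralGroup 4
  surj : Function.Surjective π
  ker : ∀ n, π n = 1 ↔ (n : G) ∈ S
  syl : ∃ P : Sylow 3 G, S = P
  card : Nat.card S = 9
  cent : Subgroup.centralizer (S : Set G) = S
  loc : ∀ x ∈ S, x ≠ 1 → Subgroup.centralizer ({x} : Set G) ≤ Subgroup.normalizer (S : Set G)

end Cfsg.Agent.Lib.Helper6_S6Defs
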