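import Mathlib
import Cfsg.Prelude.Def_Characters
import Cfsg.Agent.Lib.Helper80_CharBasic
import Cfsg.Agent.Lib.Helper17_H9Defs

/-!
# S3805 package CENT (helper17's market `h9_packages`): the centralizer orders
`|C(x)| = |C(y)| = 18`, `|C(x y)| = 9` in the `Hyp` configuration.
-/

set_option autoImplicit false

namespace Cfsg.Agent.Lib.Helper24_H9_CENT

open Cfsg Cfsg.Agent.Lib.Helper80_CharBasic Cfsg.Agent.Lib.Helper17_H9Defs

variable {G : Type*} [Group G]
variable {T : Subgroup G} {x y i j : G}

theorem inv_ne_self_of_orderOf_three {g : G} (hg : orderOf g = 3) : g⁻¹ ≠ g := by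
  intro h
  have h2 : g ^ 2 = 1 := by
    rw [pow_two]
    calc g * g = g * g⁻¹ := by rw [h]
      _ = 1 := mul_inv_cancel g
  have := orderOf_dvd_of_pow_eq_one h2
  rw [hg] at this
  omega

theorem ne_one_of_orderOf_three {g : G} (hg : orderOf g = 3) : g ≠ 1 := by
  intro h
  rw [h, orderOf_one] at hg
  omega

/-- every element of `T` commutes with `x` and with `y` -/
theorem commute_of_mem (h : Hyp G T x y i j) {t : G} (ht : t ∈ T) :
    Commute x t ∧ Commute y t := by
  have cxy : Commute x y := h.comm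
  have cyx : Commute y x := cxy.symm
  have hx := Commute.refl x
  have hy := Commute.refl y
  rcases (h.mem t).1 ht with rfl | rfl | rfl | rfl | rfl | rfl | rfl | rfl | rfl
  · exact ⟨Commute.one_right x, Commute.one_right y⟩
  · exact ⟨hx, cyx⟩
  · exact ⟨hx.inv_right, cyx.inv_right⟩
  · exact ⟨cxy, hy⟩
  · exact ⟨cxy.inv_right, hy.inv_right⟩
  · exact ⟨hx.mul_right cxy, cyx.mul_right hy⟩
  · exact ⟨hx.mul_right cxy.inv_right, cyx.mul_right hy.inv_right⟩
  · exact ⟨hx.inv_right.mul_right cxy, cyx.inv_right.mul_right hy⟩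
  · exact ⟨hx.inv_right.mul_right cxy.inv_right, cyx.inv_right.mul_right hy.inv_right⟩

theorem x_mem (h : Hyp G T x y i j) : x ∈ T := (h.mem x).2 (Or.inr (Or.inl rfl))

theorem y_mem (h : Hyp G T x y i j) : y ∈ T :=
  (h.mem y).2 (Or.inr (Or.inr (Or.inr (Or.inl rfl))))

theorem xy_mem (h : Hyp G T x y i j) : x * y ∈ T :=
  (h.mem (x * y)).2 (Or.inr (Or.inr (Or.inr (Or.inr (Or.inr (Or.inl rfl))))))

theorem xy_ne_one (h : Hyp G T x y i j) : x * y ≠ 1 := by
  intro hxy
  exact h.hne' (eq_inv_of_mul_eq_one_right hxy)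

theorem le_cent_x (h : Hyp G T x y i j) : T ≤ Subgroup.centralizer ({x} : Set G) := by
  intro t ht
  rw [Subgroup.mem_centralizer_iff]
  intro z hz
  rw [Set.mem_singleton_iff] at hz
  subst hz
  exact (commute_of_mem h ht).1

theorem le_cent_y (h : Hyp G T x y i j) : T ≤ Subgroup.centralizer ({y} : Set G) := by
  intro t ht
  rw [Subgroup.mem_centralizer_iff]
  intro z hz
  rw [Set.mem_singleton_iff] at hz
  subst hz
  exact (commute_of_mem h ht).2

theorem mem_cent_singleton {g n : G} :
    n ∈ Subgroup.centralizer ({g} : Set G) ↔ n * g * n⁻¹ = g := by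
  rw [Subgroup.mem_centralizer_iff]
  constructor
  · intro hn
    have := hn g (Set.mem_singleton g)
    rw [← this, mul_inv_cancel_right]
  · intro hn z hz
    rw [Set.mem_singleton_iff] at hz
    subst hz
    calc z * n = (n * z * n⁻¹) * n := by rw [hn]
      _ = n * z := by group

theorem j_not_mem (h : Hyp G T x y i j) : j ∉ T := by
  intro hj
  have := le_cent_y h hj
  rw [mem_cent_singleton, h.jy] at this
  exact inv_ne_self_of_orderOf_three h.oy this

theorem i_not_mem (h : Hyp G T x y i j) : i ∉ T := by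
  intro hi
  have := le_cent_x h hi
  rw [mem_cent_singleton, h.ix] at this
  exact inv_ne_self_of_orderOf_three h.ox this

variable [Finite G]

/-- arithmetic: a multiple of `9` dividing `36`, not `9` and not `36`, is `18` -/
theorem eq_eighteen {c : ℕ} (h9 : 9 ∣ c) (h36 : c ∣ 36) (hne9 : c ≠ 9) (hne36 : c ≠ 36) :
    c = 18 := by
  obtain ⟨k, rfl⟩ := h9
  have hk : k ∣ 4 := by
    have : 9 * k ∣ 9 * 4 := by simpa using h36
    exact (Nat.mul_dvd_mul_iff_left (by norm_num)).1 this
  have hk4 : k ≤ 4 := Nat.le_of_dvd (by norm_num) hk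
  interval_cases k <;> simp_all

theorem eq_nine {c : ℕ} (h9 : 9 ∣ c) (h18 : c ∣ 18) (hne : c ≠ 18) : c = 9 := by
  obtain ⟨k, rfl⟩ := h9
  have hk : k ∣ 2 := by
    have : 9 * k ∣ 9 * 2 := by simpa using h18
    exact (Nat.mul_dvd_mul_iff_left (by norm_num)).1 this
  have hk2 : k ≤ 2 := Nat.le_of_dvd (by norm_num) hk
  interval_cases k <;> simp_all

theorem card_cent_x (h : Hyp G T x y i j) :
    Nat.card (Subgroup.centralizer ({x} : Set G)) = 18 := by
  have hCN : Subgroup.centralizer ({x} : Set G) ≤ Subgroup.normalizer (T : Set G) :=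
    h.loc x (x_mem h) (ne_one_of_orderOf_three h.ox)
  have hTC := le_cent_x h
  have h9 : 9 ∣ Nat.card (Subgroup.centralizer ({x} : Set G)) := by
    have := Subgroup.card_dvd_of_le hTC
    rwa [h.card] at this
  have h36 : Nat.card (Subgroup.centralizer ({x} : Set G)) ∣ 36 := by
    have := Subgroup.card_dvd_of_le hCN
    rwa [h.cardN] at this
  have hj : j ∈ Subgroup.centralizer ({x} : Set G) := mem_cent_singleton.2 h.jx
  have hi : i ∉ Subgroup.centralizer ({x} : Set G) := by
    intro hi
    rw [mem_cent_singleton, h.ix] at hi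
    exact inv_ne_self_of_orderOf_three h.ox hi
  refine eq_eighteen h9 h36 ?_ ?_
  · intro hc
    have : T = Subgroup.centralizer ({x} : Set G) :=
      Subgroup.eq_of_le_of_card_ge hTC (by rw [hc, h.card])
    exact j_not_mem h (this ▸ hj)
  · intro hc
    have : Subgroup.centralizer ({x} : Set G) = Subgroup.normalizer (T : Set G) :=
      Subgroup.eq_of_le_of_card_ge hCN (by rw [hc, h.cardN])
    exact hi (this ▸ h.hi)

theorem card_cent_y (h : Hyp G T x y i j) :
    Nat.card (Subgroup.centralizer ({y} : Set G)) = 18 := by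
  have hCN : Subgroup.centralizer ({y} : Set G) ≤ Subgroup.normalizer (T : Set G) :=
    h.loc y (y_mem h) (ne_one_of_orderOf_three h.oy)
  have hTC := le_cent_y h
  have h9 : 9 ∣ Nat.card (Subgroup.centralizer ({y} : Set G)) := by
    have := Subgroup.card_dvd_of_le hTC
    rwa [h.card] at this
  have h36 : Nat.card (Subgroup.centralizer ({y} : Set G)) ∣ 36 := by
    have := Subgroup.card_dvd_of_le hCN
    rwa [h.cardN] at this
  have hi : i ∈ Subgroup.centralizer ({y} : Set G) := mem_cent_singleton.2 h.iy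
  have hj : j ∉ Subgroup.centralizer ({y} : Set G) := by
    intro hj
    rw [mem_cent_singleton, h.jy] at hj
    exact inv_ne_self_of_orderOf_three h.oy hj
  refine eq_eighteen h9 h36 ?_ ?_
  · intro hc
    have : T = Subgroup.centralizer ({y} : Set G) :=
      Subgroup.eq_of_le_of_card_ge hTC (by rw [hc, h.card])
    exact i_not_mem h (this ▸ hi)
  · intro hc
    have : Subgroup.centralizer ({y} : Set G) = Subgroup.normalizer (T : Set G) :=
      Subgroup.eq_of_le_of_card_ge hCN (by rw [hc, h.cardN])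
    exact hj (this ▸ h.hj)

omit [Finite G] in
/-- an element centralizing `x y` centralizes `x` and `y` -/
theorem cent_xy (h : Hyp G T x y i j) {n : G}
    (hn : n ∈ Subgroup.centralizer ({x * y} : Set G)) :
    n * x * n⁻¹ = x ∧ n * y * n⁻¹ = y := by
  have hnN : n ∈ Subgroup.normalizer (T : Set G) :=
    h.loc (x * y) (xy_mem h) (xy_ne_one h) hn
  have hprod : (n * x * n⁻¹) * (n * y * n⁻¹) = x * y := by
    have := mem_cent_singleton.1 hn
    calc (n * x * n⁻¹) * (n * y * n⁻¹) = n * (x * y) * n⁻¹ := by group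
      _ = x * y := this
  have hxinv := inv_ne_self_of_orderOf_three h.ox
  have hyinv := inv_ne_self_of_orderOf_three h.oy
  obtain ⟨hx, hy⟩ := h.act n hnN
  rcases hx with hx | hx <;> rcases hy with hy | hy
  · exact ⟨hx, hy⟩
  · exfalso
    rw [hx, hy] at hprod
    exact hyinv (mul_left_cancel hprod)
  · exfalso
    rw [hx, hy] at hprod
    exact hxinv (mul_right_cancel hprod)
  · exfalso
    rw [hx, hy] at hprod
    -- x⁻¹ y⁻¹ = x y, so (x y)² = 1 and (x y)³ = 1
    have cxy : Commute x y := h.comm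
    have h2 : (x * y) ^ 2 = 1 := by
      have hinv : (x * y)⁻¹ = x * y := by
        rw [mul_inv_rev, (cxy.inv_inv).symm.eq]
        exact hprod
      rw [pow_two]
      calc (x * y) * (x * y) = (x * y) * (x * y)⁻¹ := by rw [hinv]
        _ = 1 := mul_inv_cancel _
    have h3 : (x * y) ^ 3 = 1 := by
      rw [cxy.mul_pow, ← h.ox, pow_orderOf_eq_one, h.ox, ← h.oy, pow_orderOf_eq_one, one_mul]
    have : x * y = 1 := by
      calc x * y = (x * y) ^ 3 * ((x * y) ^ 2)⁻¹ := by group
        _ = 1 := by rw [h2, h3]; simp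
    exact xy_ne_one h this

theorem card_cent_xy (h : Hyp G T x y i j) :
    Nat.card (Subgroup.centralizer ({x * y} : Set G)) = 9 := by
  have hle : Subgroup.centralizer ({x * y} : Set G) ≤ Subgroup.centralizer ({x} : Set G) := by
    intro n hn
    exact mem_cent_singleton.2 (cent_xy h hn).1
  have hTC : T ≤ Subgroup.centralizer ({x * y} : Set G) := by
    intro t ht
    rw [Subgroup.mem_centralizer_iff]
    intro z hz
    rw [Set.mem_singleton_iff] at hz
    subst hz
    obtain ⟨h1, h2⟩ := commute_of_mem h ht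
    exact (h1.mul_left h2).eq
  have h9 : 9 ∣ Nat.card (Subgroup.centralizer ({x * y} : Set G)) := by
    have := Subgroup.card_dvd_of_le hTC
    rwa [h.card] at this
  have h18 : Nat.card (Subgroup.centralizer ({x * y} : Set G)) ∣ 18 := by
    have := Subgroup.card_dvd_of_le hle
    rwa [card_cent_x h] at this
  have hj : j ∉ Subgroup.centralizer ({x * y} : Set G) := by
    intro hj
    have := (cent_xy h hj).2
    rw [h.jy] at this
    exact inv_ne_self_of_orderOf_three h.oy this
  refine eq_nine h9 h18 ?_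
  intro hc
  have : Subgroup.centralizer ({x * y} : Set G) = Subgroup.centralizer ({x} : Set G) :=
    Subgroup.eq_of_le_of_card_ge hle (by rw [hc, card_cent_x h])
  exact hj (this ▸ mem_cent_singleton.2 h.jx)

/-! ### CENT: the centralizer orders -/
theorem card_cent (h : Hyp G T x y i j) :
    Nat.card (Subgroup.centralizer ({x} : Set G)) = 18 ∧
    Nat.card (Subgroup.centralizer ({y} : Set G)) = 18 ∧
    Nat.card (Subgroup.centralizer ({x * y} : Set G)) = 9 :=
  ⟨card_cent_x h, card_cent_y h, card_cent_xy h⟩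

end Cfsg.Agent.Lib.Helper24_H9_CENT
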