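import Mathlib
import Cfsg.Prelude.Def_Characters
import Cfsg.Agent.Lib.Helper80_CharBasic
import Cfsg.Agent.Lib.Helper17_H9Defs

/-!
# S3805 package CNT0 (helper17's market `h9_packages`), hypothesis-parametrised form:
the four vanishing class multiplication counts, with the `(3,3,3)`-lemma (L333) and the
fusion statements (FUS) as explicit hypotheses.
-/

set_option autoImplicit false

namespace Cfsg.Agent.Lib.Helper24_H9_CNT0aux

open Cfsg Cfsg.Agent.Lib.Helper80_CharBasic Cfsg.Agent.Lib.Helper17_H9Defs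

variable {G : Type*} [Group G]

/-- in a group, `a ^ 3 = 1` gives `a * a = a⁻¹` -/
theorem mul_self_eq_inv {a : G} (ha : a ^ 3 = 1) : a * a = a⁻¹ := by
  rw [eq_inv_iff_mul_eq_one, ← ha, pow_succ, pow_two]

theorem cube_of_isConj {a p : G} (ha : a ^ 3 = 1) (hp : IsConj a p) : p ^ 3 = 1 := by
  obtain ⟨g, hg⟩ := isConj_iff.mp hp
  rw [← hg, conj_pow, ha, mul_one, mul_inv_cancel]

theorem isConj_inv_inv {a p : G} (hp : IsConj a p) : IsConj a⁻¹ p⁻¹ := by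
  obtain ⟨g, hg⟩ := isConj_iff.mp hp
  refine isConj_iff.mpr ⟨g, ?_⟩
  rw [← hg]; group

/-- general principle: if the class of `a` meets `T` in `{a, a⁻¹}` and `w ∈ T ∖ 1` is not
conjugate to `a`, then no product of two conjugates of `a` equals `w` -/
theorem no_pairs {T : Subgroup G} {a w : G}
    (h333 : ∀ {u v : G}, u ^ 3 = 1 → v ^ 3 = 1 → u * v ∈ T → u * v ≠ 1 →
      (u ∈ T ∧ v ∈ T) ∨ (IsConj u v ∧ IsConj (u * v) u⁻¹))
    (ha3 : a ^ 3 = 1) (haT : a ∈ T)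
    (hca : ∀ {t : G}, t ∈ T → (IsConj a t ↔ (t = a ∨ t = a⁻¹)))
    (hwT : w ∈ T) (hw1 : w ≠ 1) (hnc : ¬ IsConj a w) :
    Nat.card {p : G × G // IsConj a p.1 ∧ IsConj a p.2 ∧ p.1 * p.2 = w} = 0 := by
  rw [Nat.card_eq_zero]
  left
  refine ⟨?_⟩
  rintro ⟨⟨p, q⟩, hp, hq, hpq⟩
  simp only at hp hq hpq
  have hainv : IsConj a a⁻¹ := (hca (T.inv_mem haT)).2 (Or.inr rfl)
  have hpqT : p * q ∈ T := by rw [hpq]; exact hwT
  have hpq1 : p * q ≠ 1 := by rw [hpq]; exact hw1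
  rcases h333 (cube_of_isConj ha3 hp) (cube_of_isConj ha3 hq) hpqT hpq1 with ⟨hpT, hqT⟩ | ⟨_, h2⟩
  · have hp' := (hca hpT).1 hp
    have hq' := (hca hqT).1 hq
    have haa := mul_self_eq_inv ha3
    rcases hp' with rfl | rfl <;> rcases hq' with rfl | rfl
    · -- p * p = p⁻¹ = w
      rw [haa] at hpq
      exact hnc (hpq ▸ hainv)
    · rw [mul_inv_cancel] at hpq
      exact hw1 hpq.symm
    · rw [inv_mul_cancel] at hpq
      exact hw1 hpq.symm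
    · rw [← mul_inv_rev, haa, inv_inv] at hpq
      exact hnc (hpq ▸ IsConj.refl _)
  · rw [hpq] at h2
    exact hnc ((hainv.trans (isConj_inv_inv hp)).trans h2.symm)

/-- the explicit-hypotheses version of `count0` -/
theorem count0_aux {T : Subgroup G} {x y i j : G} (h : Hyp G T x y i j)
    (h333 : ∀ {u v : G}, u ^ 3 = 1 → v ^ 3 = 1 → u * v ∈ T → u * v ≠ 1 →
      (u ∈ T ∧ v ∈ T) ∨ (IsConj u v ∧ IsConj (u * v) u⁻¹))
    (hcx : ∀ {t : G}, t ∈ T → (IsConj x t ↔ (t = x ∨ t = x⁻¹)))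
    (hcy : ∀ {t : G}, t ∈ T → (IsConj y t ↔ (t = y ∨ t = y⁻¹)))
    (hnc : ¬ IsConj x y ∧ ¬ IsConj x (x * y) ∧ ¬ IsConj y (x * y)) :
    Nat.card {p : G × G // IsConj x p.1 ∧ IsConj x p.2 ∧ p.1 * p.2 = y} = 0 ∧
    Nat.card {p : G × G // IsConj x p.1 ∧ IsConj x p.2 ∧ p.1 * p.2 = x * y} = 0 ∧
    Nat.card {p : G × G // IsConj y p.1 ∧ IsConj y p.2 ∧ p.1 * p.2 = x} = 0 ∧
    Nat.card {p : G × G // IsConj y p.1 ∧ IsConj y p.2 ∧ p.1 * p.2 = x * y} = 0 := by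
  have hx3 : x ^ 3 = 1 := by rw [← h.ox]; exact pow_orderOf_eq_one x
  have hy3 : y ^ 3 = 1 := by rw [← h.oy]; exact pow_orderOf_eq_one y
  have hxT : x ∈ T := (h.mem x).2 (Or.inr (Or.inl rfl))
  have hyT : y ∈ T := (h.mem y).2 (Or.inr (Or.inr (Or.inr (Or.inl rfl))))
  have hxyT : x * y ∈ T := T.mul_mem hxT hyT
  have hx1 : x ≠ 1 := by
    intro e; have := h.ox; rw [e, orderOf_one] at this; omega
  have hy1 : y ≠ 1 := by
    intro e; have := h.oy; rw [e, orderOf_one] at this; omega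
  have hxy1 : x * y ≠ 1 := fun e => h.hne' (eq_inv_of_mul_eq_one_right e)
  obtain ⟨n1, n2, n3⟩ := hnc
  exact ⟨no_pairs h333 hx3 hxT hcx hyT hy1 n1, no_pairs h333 hx3 hxT hcx hxyT hxy1 n2,
    no_pairs h333 hy3 hyT hcy hxT hx1 (fun c => n1 c.symm), no_pairs h333 hy3 hyT hcy hxyT hxy1 n3⟩

end Cfsg.Agent.Lib.Helper24_H9_CNT0aux
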