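import Mathlib
import Cfsg.Prelude.Def_Characters
import Cfsg.Agent.Lib.Helper80_CharBasic
import Cfsg.Agent.Lib.Helper17_H9Defs
import Cfsg.Agent.Lib.Helper91_H9_BASIC

set_option autoImplicit false
set_option linter.unusedSectionVars false
open scoped ComplexConjugate

/-!
S3805 package FUS (architect helper17): the three classes of elements of `T ∖ 1`.
-/

namespace Cfsg.Agent.Lib.Helper25_H9_FUS

open Cfsg Cfsg.Agent.Lib.Helper80_CharBasic Cfsg.Agent.Lib.Helper17_H9Defs

section grp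
variable {G : Type*} [Group G] [Finite G]

variable {T : Subgroup G} {x y i j : G}

theorem x_cube (h : Hyp G T x y i j) : x ^ 3 = 1 := by
  rw [← h.ox]; exact pow_orderOf_eq_one x

theorem y_cube (h : Hyp G T x y i j) : y ^ 3 = 1 := by
  rw [← h.oy]; exact pow_orderOf_eq_one y

theorem x_ne_one (h : Hyp G T x y i j) : x ≠ 1 := by
  intro h1
  have := h.ox
  rw [h1, orderOf_one] at this
  omega

theorem y_ne_one (h : Hyp G T x y i j) : y ≠ 1 := by
  intro h1
  have := h.oy
  rw [h1, orderOf_one] at this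
  omega

theorem x_mem (h : Hyp G T x y i j) : x ∈ T := (h.mem x).mpr (Or.inr (Or.inl rfl))

theorem y_mem (h : Hyp G T x y i j) : y ∈ T :=
  (h.mem y).mpr (Or.inr (Or.inr (Or.inr (Or.inl rfl))))

theorem xy_mem (h : Hyp G T x y i j) : x * y ∈ T := T.mul_mem (x_mem h) (y_mem h)

theorem xy_ne_one (h : Hyp G T x y i j) : x * y ≠ 1 := by
  intro h1
  exact h.hne' (eq_inv_of_mul_eq_one_right h1)

theorem x_inv_eq (h : Hyp G T x y i j) : x⁻¹ = x * x := by
  have := x_cube h
  rw [pow_succ, pow_two] at this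
  exact inv_eq_of_mul_eq_one_left this

theorem y_inv_eq (h : Hyp G T x y i j) : y⁻¹ = y * y := by
  have := y_cube h
  rw [pow_succ, pow_two] at this
  exact inv_eq_of_mul_eq_one_left this

/-! ### FUS: the three classes -/
theorem conj_x (h : Hyp G T x y i j) {t : G} (ht : t ∈ T) : IsConj x t ↔ (t = x ∨ t = x⁻¹) := by
  constructor
  · intro hc
    obtain ⟨g, hg⟩ := isConj_iff.mp hc
    have hgN := Cfsg.Agent.Lib.Helper91_H9_BASIC.fusion h (x_mem h) (x_ne_one h)
      (by rw [hg]; exact ht)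
    rcases (h.act g hgN).1 with h1 | h1
    · left; rw [← hg, h1]
    · right; rw [← hg, h1]
  · rintro (rfl | rfl)
    · exact IsConj.refl _
    · exact isConj_iff.mpr ⟨i, h.ix⟩

theorem conj_y (h : Hyp G T x y i j) {t : G} (ht : t ∈ T) : IsConj y t ↔ (t = y ∨ t = y⁻¹) := by
  constructor
  · intro hc
    obtain ⟨g, hg⟩ := isConj_iff.mp hc
    have hgN := Cfsg.Agent.Lib.Helper91_H9_BASIC.fusion h (y_mem h) (y_ne_one h)
      (by rw [hg]; exact ht)
    rcases (h.act g hgN).2 with h1 | h1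
    · left; rw [← hg, h1]
    · right; rw [← hg, h1]
  · rintro (rfl | rfl)
    · exact IsConj.refl _
    · exact isConj_iff.mpr ⟨j, h.jy⟩

theorem conj_mul (g a b : G) : g * (a * b) * g⁻¹ = (g * a * g⁻¹) * (g * b * g⁻¹) := by group

theorem conj_xy (h : Hyp G T x y i j) {t : G} (ht : t ∈ T) :
    IsConj (x * y) t ↔ (t = x * y ∨ t = x * y⁻¹ ∨ t = x⁻¹ * y ∨ t = x⁻¹ * y⁻¹) := by
  constructor
  · intro hc
    obtain ⟨g, hg⟩ := isConj_iff.mp hc
    have hgN := Cfsg.Agent.Lib.Helper91_H9_BASIC.fusion h (xy_mem h) (xy_ne_one h)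
      (by rw [hg]; exact ht)
    rw [conj_mul] at hg
    rcases (h.act g hgN).1 with h1 | h1 <;> rcases (h.act g hgN).2 with h2 | h2 <;>
      rw [h1, h2] at hg
    · exact Or.inl hg.symm
    · exact Or.inr (Or.inl hg.symm)
    · exact Or.inr (Or.inr (Or.inl hg.symm))
    · exact Or.inr (Or.inr (Or.inr hg.symm))
  · rintro (rfl | rfl | rfl | rfl)
    · exact IsConj.refl _
    · refine isConj_iff.mpr ⟨j, ?_⟩
      rw [conj_mul, h.jx, h.jy]
    · refine isConj_iff.mpr ⟨i, ?_⟩
      rw [conj_mul, h.ix, h.iy]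
    · refine isConj_iff.mpr ⟨i * j, ?_⟩
      have e : i * j * (x * y) * (i * j)⁻¹ = i * (j * (x * y) * j⁻¹) * i⁻¹ := by group
      rw [e, conj_mul j, h.jx, h.jy, conj_mul i, h.ix]
      have e2 : i * y⁻¹ * i⁻¹ = (i * y * i⁻¹)⁻¹ := by group
      rw [e2, h.iy]

theorem not_conj (h : Hyp G T x y i j) :
    ¬ IsConj x y ∧ ¬ IsConj x (x * y) ∧ ¬ IsConj y (x * y) := by
  refine ⟨?_, ?_, ?_⟩
  · intro hc
    rcases (conj_x h (y_mem h)).mp hc with h1 | h1
    · exact h.hne h1
    · exact h.hne' h1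
  · intro hc
    rcases (conj_x h (xy_mem h)).mp hc with h1 | h1
    · exact y_ne_one h (mul_eq_left.mp h1)
    · -- x * y = x⁻¹ = x * x
      rw [x_inv_eq h] at h1
      exact h.hne (mul_left_cancel h1)
  · intro hc
    rcases (conj_y h (xy_mem h)).mp hc with h1 | h1
    · exact x_ne_one h (mul_eq_right.mp h1)
    · rw [y_inv_eq h] at h1
      exact h.hne (mul_right_cancel h1).symm

end grp

end Cfsg.Agent.Lib.Helper25_H9_FUS
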