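import Mathlib

set_option autoImplicit false

/-!
S3805 package PCOMB (architect helper17): the pure combinatorial end of the argument
(`{0, ±1}`-vectors and the final inequality).
-/

namespace Cfsg.Agent.Lib.Helper25_H9_PCOMB

/-- the entries of an integer vector with sum of squares `3` lie in `{-1, 0, 1}` -/
theorem entry_bound {I : Type*} [Fintype I] (α : I → ℤ) (hα : ∑ i, α i ^ 2 = 3) (i : I) :
    α i = -1 ∨ α i = 0 ∨ α i = 1 := by
  have h1 : α i ^ 2 ≤ ∑ j, α j ^ 2 :=
    Finset.single_le_sum (f := fun j => α j ^ 2) (fun j _ => sq_nonneg _) (Finset.mem_univ i)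
  rw [hα] at h1
  have h2 : -2 < α i := by nlinarith
  have h3 : α i < 2 := by nlinarith
  omega

/-! ### PCOMB (pure combinatorics + arithmetic) -/
theorem pure_comb {I : Type*} [Fintype I] [DecidableEq I] (o : I) (f : I → ℕ)
    (hf : ∀ i, 0 < f i) (g : ℕ) (α β δ : I → ℤ) (hαo : α o = 0)
    (hα : ∑ i, α i ^ 2 = 3) (hβ : ∑ i, β i ^ 2 = 3) (hαβ : ∑ i, α i * β i = 1)
    (hδ : ∑ i, δ i ^ 2 = 9) (hsq : ∑ i, f i ^ 2 = g)
    (F1 : ∑ i, (α i : ℚ) * β i * ((α i : ℚ) - β i) / (f i : ℚ) = 0)
    (F2 : (g : ℚ) * ∑ i, (α i : ℚ) * β i * (3 * (α i : ℚ) + δ i) / (f i : ℚ) = -18) :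
    g < 324 := by
  classical
  have ha := entry_bound α hα
  have hb := entry_bound β hβ
  obtain ⟨P, hP⟩ : ∃ P : Finset I, P = Finset.univ.filter (fun i => α i * β i = 1) := ⟨_, rfl⟩
  obtain ⟨Nn, hNn⟩ : ∃ Nn : Finset I, Nn = Finset.univ.filter (fun i => α i * β i = -1) :=
    ⟨_, rfl⟩
  have hmemP : ∀ i, i ∈ P ↔ α i * β i = 1 := by
    intro i; rw [hP]; simp
  have hmemN : ∀ i, i ∈ Nn ↔ α i * β i = -1 := by
    intro i; rw [hNn]; simp
  have hprod : ∀ i, α i * β i =
      (if α i * β i = 1 then (1 : ℤ) else 0) - (if α i * β i = -1 then (1 : ℤ) else 0) := by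
    intro i
    rcases ha i with h | h | h <;> rcases hb i with h' | h' | h' <;> simp [h, h']
  have hPc : ∑ i, (if α i * β i = 1 then (1 : ℤ) else 0) = P.card := by
    rw [hP, Finset.sum_boole]
  have hNc : ∑ i, (if α i * β i = -1 then (1 : ℤ) else 0) = Nn.card := by
    rw [hNn, Finset.sum_boole]
  have hcount : (P.card : ℤ) - Nn.card = 1 := by
    rw [← hαβ, Finset.sum_congr rfl (fun i _ => hprod i), Finset.sum_sub_distrib, hPc, hNc]
  have hsq' : ∀ i, (if α i * β i = 1 then (1 : ℤ) else 0) +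
      (if α i * β i = -1 then (1 : ℤ) else 0) ≤ α i ^ 2 := by
    intro i
    rcases ha i with h | h | h <;> rcases hb i with h' | h' | h' <;> simp [h, h']
  have hcount2 : (P.card : ℤ) + Nn.card ≤ 3 := by
    rw [← hα, ← hPc, ← hNc, ← Finset.sum_add_distrib]
    exact Finset.sum_le_sum (fun i _ => hsq' i)
  have hcases : (P.card = 1 ∧ Nn.card = 0) ∨ (P.card = 2 ∧ Nn.card = 1) := by omega
  rcases hcases with ⟨hP1, hN0⟩ | ⟨hP2, hN1⟩
  · -- the common support is one element `i0`
    obtain ⟨i0, hi0⟩ := Finset.card_eq_one.mp hP1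
    have hN0' : Nn = ∅ := Finset.card_eq_zero.mp hN0
    have hi0P : α i0 * β i0 = 1 := by
      rw [← hmemP, hi0]; exact Finset.mem_singleton_self _
    have hother : ∀ i, i ≠ i0 → α i * β i = 0 := by
      intro i hi
      have h1 : ¬ (α i * β i = 1) := fun h => hi (by
        have : i ∈ P := (hmemP i).mpr h
        rw [hi0] at this; exact Finset.mem_singleton.mp this)
      have h2 : ¬ (α i * β i = -1) := fun h => by
        have : i ∈ Nn := (hmemN i).mpr h
        rw [hN0'] at this; exact Finset.notMem_empty _ this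
      rw [hprod i, if_neg h1, if_neg h2, sub_zero]
    have hF2 : ∑ i, (α i : ℚ) * β i * (3 * (α i : ℚ) + δ i) / (f i : ℚ) =
        (3 * (α i0 : ℚ) + δ i0) / (f i0 : ℚ) := by
      rw [Finset.sum_eq_single i0]
      · have : (α i0 : ℚ) * β i0 = 1 := by exact_mod_cast hi0P
        rw [this, one_mul]
      · intro i _ hi
        have : (α i : ℚ) * β i = 0 := by exact_mod_cast hother i hi
        rw [this, zero_mul, zero_div]
      · intro h; exact absurd (Finset.mem_univ _) h
    rw [hF2] at F2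
    have hf0 : (f i0 : ℚ) ≠ 0 := by exact_mod_cast (hf i0).ne'
    have hZ : (g : ℤ) * (3 * α i0 + δ i0) = -18 * (f i0 : ℤ) := by
      have : (g : ℚ) * (3 * (α i0 : ℚ) + δ i0) = -18 * (f i0 : ℚ) := by
        rw [← F2]
        field_simp
      exact_mod_cast this
    have hd : δ i0 ^ 2 ≤ 9 := by
      rw [← hδ]
      exact Finset.single_le_sum (f := fun j => δ j ^ 2) (fun j _ => sq_nonneg _)
        (Finset.mem_univ i0)
    have hd1 : -3 ≤ δ i0 := by nlinarith
    have hd2 : δ i0 ≤ 3 := by nlinarith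
    have hi0o : i0 ≠ o := by
      rintro rfl
      rw [hαo, zero_mul] at hi0P
      exact zero_ne_one hi0P
    have hfsum : f i0 ^ 2 + f o ^ 2 ≤ g := by
      rw [← hsq, ← Finset.sum_pair (f := fun i => f i ^ 2) hi0o]
      exact Finset.sum_le_sum_of_subset (Finset.subset_univ _)
    have hfo : 1 ≤ f o := hf o
    have hf0' : 1 ≤ f i0 := hf i0
    have hf0Z : (1 : ℤ) ≤ f i0 := by exact_mod_cast hf0'
    have hg0 : (0 : ℤ) ≤ g := Int.natCast_nonneg _
    rcases ha i0 with h | h | h
    · rw [h] at hZ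
      have h3 : 1 ≤ 3 - δ i0 := by
        by_contra hcon
        have h33 : δ i0 = 3 := by omega
        rw [h33] at hZ
        have : (f i0 : ℤ) = 0 := by linarith
        omega
      have hgle : (g : ℤ) ≤ 18 * f i0 := by nlinarith
      have hgle' : g ≤ 18 * f i0 := by exact_mod_cast hgle
      have hfo2 : 1 ≤ f o ^ 2 := Nat.one_le_pow _ _ hfo
      have : f i0 ≤ 17 := by nlinarith
      omega
    · rw [h, zero_mul] at hi0P
      exact absurd hi0P zero_ne_one
    · rw [h] at hZ
      have : (0 : ℤ) ≤ g * (3 * 1 + δ i0) := mul_nonneg hg0 (by linarith)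
      linarith
  · -- the common support has three elements: contradiction from `F1`
    obtain ⟨i3, hi3⟩ := Finset.card_eq_one.mp hN1
    have hi3N : α i3 * β i3 = -1 := by
      rw [← hmemN, hi3]; exact Finset.mem_singleton_self _
    have hother : ∀ i, i ≠ i3 → (α i : ℚ) * β i * ((α i : ℚ) - β i) = 0 := by
      intro i hi
      have h2 : ¬ (α i * β i = -1) := fun h => hi (by
        have : i ∈ Nn := (hmemN i).mpr h
        rw [hi3] at this; exact Finset.mem_singleton.mp this)
      rcases ha i with h | h | h <;> rcases hb i with h' | h' | h' <;>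
        simp [h, h'] at h2 ⊢
    rw [Finset.sum_eq_single i3 (fun i _ hi => by rw [hother i hi, zero_div])
      (fun h => absurd (Finset.mem_univ _) h)] at F1
    have hf3 : (f i3 : ℚ) ≠ 0 := by exact_mod_cast (hf i3).ne'
    rw [div_eq_zero_iff] at F1
    rcases F1 with F1 | F1
    · rcases ha i3 with h | h | h <;> rcases hb i3 with h' | h' | h' <;>
        simp [h, h'] at hi3N F1
    · exact absurd F1 hf3

end Cfsg.Agent.Lib.Helper25_H9_PCOMB
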