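import Mathlib

/-!
# S3805 package LOCA (architect helper17): a four-group of automorphisms of `3²` is diagonalisable
-/

set_option autoImplicit false
set_option linter.unusedVariables false
set_option linter.unusedSimpArgs false

namespace Cfsg.Agent.Lib.Helper82_H9_LOCA

/-- the asymmetric form: `σ` has a nontrivial fixed point -/
theorem diag_aux {A : Type*} [CommGroup A] (hcard : Nat.card A = 9) (hexp : ∀ a : A, a ^ 3 = 1)
    (σ τ : MulAut A) (hσ2 : σ * σ = 1) (hτ2 : τ * τ = 1) (hc : σ * τ = τ * σ)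
    (hσ1 : σ ≠ 1) (hτ1 : τ ≠ 1) (hστ : σ ≠ τ) (y : A) (hy1 : y ≠ 1) (hy : σ y = y) :
    ∃ (x : A) (τ' : MulAut A), (τ' = τ ∨ τ' = σ * τ) ∧
      x ≠ 1 ∧ y ≠ x ∧ y ≠ x⁻¹ ∧
      σ x = x⁻¹ ∧ τ' x = x ∧ τ' y = y⁻¹ ∧
      (∀ t : A, t = 1 ∨ t = x ∨ t = x⁻¹ ∨ t = y ∨ t = y⁻¹ ∨
        t = x * y ∨ t = x * y⁻¹ ∨ t = x⁻¹ * y ∨ t = x⁻¹ * y⁻¹) := by
  have : Finite A := Nat.finite_of_card_ne_zero (by rw [hcard]; norm_num)
  have hσσ : ∀ a : A, σ (σ a) = a := fun a => by
    have := congrArg (fun f : MulAut A => f a) hσ2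
    simpa using this
  have hcomm : ∀ a : A, σ (τ a) = τ (σ a) := fun a => by
    have := congrArg (fun f : MulAut A => f a) hc
    simpa using this
  -- the element `x`
  obtain ⟨a, ha⟩ : ∃ a : A, σ a ≠ a := by
    by_contra hcon
    push Not at hcon
    apply hσ1
    ext a
    simpa using hcon a
  obtain ⟨x, hxdef⟩ : ∃ x : A, x = a * (σ a)⁻¹ := ⟨_, rfl⟩
  have hx1 : x ≠ 1 := by
    rw [hxdef]
    intro h
    apply ha
    rw [mul_inv_eq_one] at h
    exact h.symm
  have hσx : σ x = x⁻¹ := by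
    rw [hxdef, map_mul, map_inv, hσσ]
    simp
  have hx3 : x ^ 3 = 1 := hexp x
  have hy3 : y ^ 3 = 1 := hexp y
  have hxinv : x⁻¹ = x ^ 2 := by
    rw [inv_eq_iff_mul_eq_one, ← pow_succ']; exact hx3
  have hyinv : y⁻¹ = y ^ 2 := by
    rw [inv_eq_iff_mul_eq_one, ← pow_succ']; exact hy3
  have hx2 : x ^ 2 ≠ 1 := by
    intro h
    apply hx1
    have : x = x ^ 3 * (x ^ 2)⁻¹ := by group
    rw [this, hx3, h]; simp
  have hy2 : y ^ 2 ≠ 1 := by
    intro h
    apply hy1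
    have : y = y ^ 3 * (y ^ 2)⁻¹ := by group
    rw [this, hy3, h]; simp
  have hσpow : ∀ i j : ℕ, σ (x ^ i * y ^ j) = (x⁻¹) ^ i * y ^ j := by
    intro i j
    rw [map_mul, map_pow, map_pow, hσx, hy]
  -- the parametrisation
  obtain ⟨f, hf⟩ : ∃ f : Fin 3 × Fin 3 → A, f = fun p => x ^ p.1.val * y ^ p.2.val := ⟨_, rfl⟩
  have hinj : Function.Injective f := by
    rintro ⟨i, j⟩ ⟨i', j'⟩ h
    rw [hf] at h
    simp only at h
    -- reduce by brute force over the 81 cases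
    have key : ∀ (i j i' j' : ℕ), i < 3 → j < 3 → i' < 3 → j' < 3 →
        x ^ i * y ^ j = x ^ i' * y ^ j' → i = i' ∧ j = j' := by
      intro i j i' j' hi hj hi' hj' h
      have h1 := congrArg σ h
      rw [hσpow, hσpow] at h1
      -- divide
      have h2 : x ^ (2 * i) = x ^ (2 * i') := by
        have e1 : x ^ (2 * i) = (x ^ i * y ^ j) * ((x⁻¹) ^ i * y ^ j)⁻¹ := by
          rw [two_mul, pow_add, inv_pow]; group
        have e2 : x ^ (2 * i') = (x ^ i' * y ^ j') * ((x⁻¹) ^ i' * y ^ j')⁻¹ := by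
          rw [two_mul, pow_add, inv_pow]; group
        rw [e1, e2, h, h1]
      have hxo : orderOf x = 3 := orderOf_eq_prime hx3 hx1
      have hyo : orderOf y = 3 := orderOf_eq_prime hy3 hy1
      have h3 := (pow_inj_mod).mp h2
      rw [hxo] at h3
      have hii : i = i' := by omega
      subst hii
      have h4 : y ^ j = y ^ j' := mul_left_cancel h
      have h5 := (pow_inj_mod).mp h4
      rw [hyo] at h5
      exact ⟨rfl, by omega⟩
    obtain ⟨h1, h2⟩ := key i.val j.val i'.val j'.val i.2 j.2 i'.2 j'.2 h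
    exact Prod.ext (Fin.ext h1) (Fin.ext h2)
  have hbij : Function.Bijective f :=
    hinj.bijective_of_nat_card_le (by rw [hcard]; simp)
  have hsurj : ∀ t : A, ∃ i j : ℕ, i < 3 ∧ j < 3 ∧ t = x ^ i * y ^ j := by
    intro t
    obtain ⟨⟨i, j⟩, hij⟩ := hbij.2 t
    refine ⟨i.val, j.val, i.2, j.2, ?_⟩
    rw [← hij, hf]
  have hlist : ∀ t : A, t = 1 ∨ t = x ∨ t = x⁻¹ ∨ t = y ∨ t = y⁻¹ ∨
      t = x * y ∨ t = x * y⁻¹ ∨ t = x⁻¹ * y ∨ t = x⁻¹ * y⁻¹ := by
    intro t
    obtain ⟨i, j, hi, hj, rfl⟩ := hsurj t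
    rw [hxinv, hyinv]
    interval_cases i <;> interval_cases j <;> simp
  -- `τ x` is inverted by `σ`, `τ y` is fixed by `σ`
  have hτx : τ x = x ∨ τ x = x⁻¹ := by
    obtain ⟨i, j, hi, hj, hij⟩ := hsurj (τ x)
    have h1 : σ (τ x) = (τ x)⁻¹ := by rw [hcomm, hσx, map_inv]
    rw [hij, hσpow] at h1
    -- `(x⁻¹)^i * y^j = (x^i * y^j)⁻¹` gives `y^(2j) = 1`
    have h2 : y ^ j * y ^ j = 1 := by
      have h3 : (x⁻¹) ^ i * y ^ j * (x ^ i * y ^ j) = 1 := by rw [h1]; simp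
      rw [mul_mul_mul_comm, inv_pow, inv_mul_cancel, one_mul] at h3
      exact h3
    have hj0 : j = 0 := by
      interval_cases j
      · rfl
      · exfalso; apply hy2; rw [pow_two]; simpa using h2
      · exfalso
        apply hy1
        have : y ^ 2 * y ^ 2 = y := by
          calc y ^ 2 * y ^ 2 = y ^ 3 * y := by rw [← pow_add, ← pow_succ]
            _ = y := by rw [hy3, one_mul]
        rw [this] at h2
        exact h2
    subst hj0
    rw [pow_zero, mul_one] at hij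
    interval_cases i
    · exfalso
      rw [pow_zero] at hij
      apply hx1
      have : τ x = τ 1 := by rw [hij, map_one]
      exact τ.injective this
    · left; rw [hij, pow_one]
    · right; rw [hij, hxinv]
  have hτy : τ y = y ∨ τ y = y⁻¹ := by
    obtain ⟨i, j, hi, hj, hij⟩ := hsurj (τ y)
    have h1 : σ (τ y) = τ y := by rw [hcomm, hy]
    rw [hij, hσpow] at h1
    have h2 : x ^ i * x ^ i = 1 := by
      have : (x⁻¹) ^ i = x ^ i := mul_right_cancel h1
      calc x ^ i * x ^ i = x ^ i * ((x⁻¹) ^ i) := by rw [this]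
        _ = 1 := by rw [inv_pow]; simp
    have hi0 : i = 0 := by
      interval_cases i
      · rfl
      · exfalso; apply hx2; rw [pow_two]; simpa using h2
      · exfalso
        apply hx1
        have : x ^ 2 * x ^ 2 = x := by
          calc x ^ 2 * x ^ 2 = x ^ 3 * x := by rw [← pow_add, ← pow_succ]
            _ = x := by rw [hx3, one_mul]
        rw [this] at h2
        exact h2
    subst hi0
    rw [pow_zero, one_mul] at hij
    interval_cases j
    · exfalso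
      rw [pow_zero] at hij
      apply hy1
      have : τ y = τ 1 := by rw [hij, map_one]
      exact τ.injective this
    · left; rw [hij, pow_one]
    · right; rw [hij, hyinv]
  have hyx : y ≠ x := by
    intro h
    have h1 : σ x = x := by rw [← h]; exact hy
    rw [hσx] at h1
    apply hx2
    rw [pow_two]
    calc x * x = x * x⁻¹ := by rw [h1]
      _ = 1 := mul_inv_cancel x
  have hyx' : y ≠ x⁻¹ := by
    intro h
    have h1 : σ x⁻¹ = x⁻¹ := by rw [← h]; exact hy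
    rw [map_inv, hσx, inv_inv] at h1
    apply hx2
    rw [pow_two]
    calc x * x = x * x⁻¹ := by rw [← h1]
      _ = 1 := mul_inv_cancel x
  -- an automorphism is determined by its values at `x`, `y`
  have hext : ∀ α β : MulAut A, α x = β x → α y = β y → α = β := by
    intro α β h1 h2
    ext t
    obtain ⟨i, j, -, -, rfl⟩ := hsurj t
    rw [map_mul, map_mul, map_pow, map_pow, map_pow, map_pow, h1, h2]
  rcases hτx with hx' | hx' <;> rcases hτy with hy' | hy'
  · exfalso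
    apply hτ1
    apply hext
    · rw [hx']; rfl
    · rw [hy']; rfl
  · exact ⟨x, τ, Or.inl rfl, hx1, hyx, hyx', hσx, hx', hy', hlist⟩
  · exfalso
    apply hστ
    apply hext
    · rw [hσx, hx']
    · rw [hy, hy']
  · refine ⟨x, σ * τ, Or.inr rfl, hx1, hyx, hyx', hσx, ?_, ?_, hlist⟩
    · rw [MulAut.mul_apply, hx', map_inv, hσx, inv_inv]
    · rw [MulAut.mul_apply, hy', map_inv, hy]

/-- **LOCA**. -/
theorem diag {A : Type*} [CommGroup A] (hcard : Nat.card A = 9) (hexp : ∀ a : A, a ^ 3 = 1)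
    (σ τ : MulAut A) (hσ2 : σ * σ = 1) (hτ2 : τ * τ = 1) (hc : σ * τ = τ * σ)
    (hσ1 : σ ≠ 1) (hτ1 : τ ≠ 1) (hστ : σ ≠ τ) :
    ∃ (x y : A) (σ' τ' : MulAut A),
      (σ' = σ ∨ σ' = τ ∨ σ' = σ * τ) ∧ (τ' = σ ∨ τ' = τ ∨ τ' = σ * τ) ∧
      x ≠ 1 ∧ y ≠ 1 ∧ y ≠ x ∧ y ≠ x⁻¹ ∧
      σ' x = x⁻¹ ∧ σ' y = y ∧ τ' x = x ∧ τ' y = y⁻¹ ∧
      (∀ t : A, t = 1 ∨ t = x ∨ t = x⁻¹ ∨ t = y ∨ t = y⁻¹ ∨
        t = x * y ∨ t = x * y⁻¹ ∨ t = x⁻¹ * y ∨ t = x⁻¹ * y⁻¹) := by
  have hσσ : ∀ a : A, σ (σ a) = a := fun a => by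
    have := congrArg (fun f : MulAut A => f a) hσ2
    simpa using this
  have hττ : ∀ a : A, τ (τ a) = a := fun a => by
    have := congrArg (fun f : MulAut A => f a) hτ2
    simpa using this
  by_cases hfix : ∃ y : A, y ≠ 1 ∧ σ y = y
  · obtain ⟨y, hy1, hy⟩ := hfix
    obtain ⟨x, τ', hτ', hx1, hyx, hyx', hσx, hτx, hτy, hlist⟩ :=
      diag_aux hcard hexp σ τ hσ2 hτ2 hc hσ1 hτ1 hστ y hy1 hy
    refine ⟨x, y, σ, τ', Or.inl rfl, ?_, hx1, hy1, hyx, hyx', hσx, hy, hτx, hτy, hlist⟩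
    rcases hτ' with h | h
    · exact Or.inr (Or.inl h)
    · exact Or.inr (Or.inr h)
  · -- then `σ` is the inversion, so `τ` is not
    push Not at hfix
    have hσinv : ∀ a : A, σ a = a⁻¹ := by
      intro a
      have h1 : σ (a * σ a) = a * σ a := by rw [map_mul, hσσ, mul_comm]
      by_contra hne
      have h2 : a * σ a ≠ 1 := by
        intro h
        apply hne
        exact (eq_inv_of_mul_eq_one_right h)
      exact hfix _ h2 h1
    obtain ⟨y, hy1, hy⟩ : ∃ y : A, y ≠ 1 ∧ τ y = y := by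
      by_contra hcon
      push Not at hcon
      apply hστ
      ext a
      rw [hσinv]
      have h1 : τ (a * τ a) = a * τ a := by rw [map_mul, hττ, mul_comm]
      by_contra hne
      have h2 : a * τ a ≠ 1 := by
        intro h
        apply hne
        exact (eq_inv_of_mul_eq_one_right h).symm
      exact hcon _ h2 h1
    obtain ⟨x, τ', hτ', hx1, hyx, hyx', hσx, hτx, hτy, hlist⟩ :=
      diag_aux hcard hexp τ σ hτ2 hσ2 hc.symm hτ1 hσ1 (Ne.symm hστ) y hy1 hy
    refine ⟨x, y, τ, τ', Or.inr (Or.inl rfl), ?_, hx1, hy1, hyx, hyx', hσx, hy, hτx, hτy, hlist⟩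
    rcases hτ' with h | h
    · exact Or.inl h
    · exact Or.inr (Or.inr (by rw [h, hc]))

end Cfsg.Agent.Lib.Helper82_H9_LOCA
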