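import Mathlib
import Cfsg.Prelude.Def_Characters
import Cfsg.Agent.Lib.Helper80_CharBasic
import Cfsg.Agent.Lib.Helper17_H9Defs
import Cfsg.Agent.Lib.Helper82_H9_LOCA

/-!
# S3805 package LOC (architect helper17): the local analysis `exists_hyp`
`N_G(T)/T` Klein four acting faithfully on `T = 3²`; uses LOCA (`Helper82_H9_LOCA.diag`).
-/

set_option autoImplicit false
set_option linter.unusedSectionVars false

namespace Cfsg.Agent.Lib.Helper52_H9_LOC
open Cfsg Cfsg.Agent.Lib.Helper80_CharBasic Cfsg.Agent.Lib.Helper17_H9Defs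

section grp
variable {G : Type*} [Group G] [Finite G]

/-- in a group where cubes are trivial, `z = z⁻¹` forces `z = 1` -/
lemma eq_one_of_eq_inv {A : Type*} [Group A] {z : A} (h3 : z ^ 3 = 1) (h : z = z⁻¹) : z = 1 := by
  have h2 : z * z = 1 := by
    nth_rewrite 2 [h]
    exact mul_inv_cancel z
  have : z ^ 3 = z * z * z := by rw [pow_succ, pow_two]
  rw [this, h2, one_mul] at h3
  exact h3


/-- eigenvector bookkeeping, first coordinate -/
lemma key_x {A : Type*} [CommGroup A] {x y z : A} (hy3 : y ^ 3 = 1) (hy1 : y ≠ 1)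
    (hall : z = 1 ∨ z = x ∨ z = x⁻¹ ∨ z = y ∨ z = y⁻¹ ∨
        z = x * y ∨ z = x * y⁻¹ ∨ z = x⁻¹ * y ∨ z = x⁻¹ * y⁻¹)
    (s t : MulAut A) (sy : s y = y) (tx : t x = x) (ty : t y = y⁻¹)
    (hz1 : z ≠ 1) (sz : s z = z⁻¹) (tz : t z = z) : z = x ∨ z = x⁻¹ := by
  have hyy : y ≠ y⁻¹ := fun h => hy1 (eq_one_of_eq_inv hy3 h)
  rcases hall with h | h | h | h | h | h | h | h | h
  · exact absurd h hz1
  · exact Or.inl h
  · exact Or.inr h
  · exfalso
    rw [h, sy] at sz
    exact hyy sz
  · exfalso
    rw [h, map_inv, sy, inv_inv] at sz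
    exact hyy sz.symm
  · exfalso
    rw [h, map_mul, tx, ty, mul_right_inj] at tz
    exact hyy tz.symm
  · exfalso
    rw [h, map_mul, map_inv, tx, ty, inv_inv, mul_right_inj] at tz
    exact hyy tz
  · exfalso
    rw [h, map_mul, map_inv, tx, ty, mul_right_inj] at tz
    exact hyy tz.symm
  · exfalso
    rw [h, map_mul, map_inv, map_inv, tx, ty, inv_inv, mul_right_inj] at tz
    exact hyy tz

/-- eigenvector bookkeeping, second coordinate -/
lemma key_y {A : Type*} [CommGroup A] {x y z : A} (hx3 : x ^ 3 = 1) (hx1 : x ≠ 1)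
    (hall : z = 1 ∨ z = x ∨ z = x⁻¹ ∨ z = y ∨ z = y⁻¹ ∨
        z = x * y ∨ z = x * y⁻¹ ∨ z = x⁻¹ * y ∨ z = x⁻¹ * y⁻¹)
    (s t : MulAut A) (sx : s x = x⁻¹) (sy : s y = y) (tx : t x = x)
    (hz1 : z ≠ 1) (sz : s z = z) (tz : t z = z⁻¹) : z = y ∨ z = y⁻¹ := by
  have hxx : x ≠ x⁻¹ := fun h => hx1 (eq_one_of_eq_inv hx3 h)
  rcases hall with h | h | h | h | h | h | h | h | h
  · exact absurd h hz1
  · exfalso
    rw [h, tx] at tz
    exact hxx tz
  · exfalso
    rw [h, map_inv, tx, inv_inv] at tz
    exact hxx tz.symm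
  · exact Or.inl h
  · exact Or.inr h
  · exfalso
    rw [h, map_mul, sx, sy, mul_left_inj] at sz
    exact hxx sz.symm
  · exfalso
    rw [h, map_mul, map_inv, sx, sy, mul_left_inj] at sz
    exact hxx sz.symm
  · exfalso
    rw [h, map_mul, map_inv, sx, sy, inv_inv, mul_left_inj] at sz
    exact hxx sz
  · exfalso
    rw [h, map_mul, map_inv, map_inv, sx, sy, inv_inv, mul_left_inj] at sz
    exact hxx sz

theorem exists_hyp (T : Subgroup G) (hcomm : IsMulCommutative T) (hexp : ∀ a ∈ T, a ^ 3 = 1)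
    (hcard : Nat.card T = 9)
    (hC : Subgroup.centralizer (T : Set G) = T)
    [hn : (T.subgroupOf (Subgroup.normalizer (T : Set G))).Normal]
    (hK : IsKleinFour (↥(Subgroup.normalizer (T : Set G)) ⧸
      T.subgroupOf (Subgroup.normalizer (T : Set G))))
    (hloc : ∀ t ∈ T, t ≠ 1 →
      Subgroup.centralizer ({t} : Set G) ≤ Subgroup.normalizer (T : Set G)) :
    ∃ x y i j : G, Hyp G T x y i j := by
  classical
  -- notation
  have hker : ∀ n : Subgroup.normalizer (T : Set G),
      T.normalizerMonoidHom n = 1 ↔ (n : G) ∈ T := by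
    intro n
    rw [← MonoidHom.mem_ker, Subgroup.normalizerMonoidHom_ker, hC, Subgroup.mem_subgroupOf]
  have hmk : ∀ n : Subgroup.normalizer (T : Set G),
      (QuotientGroup.mk n : ↥(Subgroup.normalizer (T : Set G)) ⧸
        T.subgroupOf (Subgroup.normalizer (T : Set G))) = 1 ↔ (n : G) ∈ T := by
    intro n
    rw [QuotientGroup.eq_one_iff, Subgroup.mem_subgroupOf]
  have hQcomm := @IsKleinFour.isMulCommutative _ _ hK
  have hQsq : ∀ z : ↥(Subgroup.normalizer (T : Set G)) ⧸
      T.subgroupOf (Subgroup.normalizer (T : Set G)), z * z = 1 := by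
    intro z
    have := Monoid.pow_exponent_eq_one z
    rw [hK.exponent_two, pow_two] at this
    exact this
  -- squares and commutators are in the kernel
  have hsq : ∀ n : Subgroup.normalizer (T : Set G),
      T.normalizerMonoidHom n * T.normalizerMonoidHom n = 1 := by
    intro n
    rw [← map_mul, hker, ← hmk, QuotientGroup.mk_mul]
    exact hQsq _
  have hcommφ : ∀ a b : Subgroup.normalizer (T : Set G),
      T.normalizerMonoidHom a * T.normalizerMonoidHom b =
        T.normalizerMonoidHom b * T.normalizerMonoidHom a := by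
    intro a b
    have h1 : T.normalizerMonoidHom (a * b * (b * a)⁻¹) = 1 := by
      rw [hker, ← hmk, QuotientGroup.mk_mul, QuotientGroup.mk_inv, QuotientGroup.mk_mul,
        QuotientGroup.mk_mul]
      rw [mul_inv_eq_one]
      exact hQcomm.is_comm.comm _ _
    rw [map_mul, map_inv, mul_inv_eq_one, map_mul, map_mul] at h1
    exact h1
  -- two distinct nontrivial elements of the quotient
  have hQcard := hK.card_four
  have : Finite (↥(Subgroup.normalizer (T : Set G)) ⧸
      T.subgroupOf (Subgroup.normalizer (T : Set G))) :=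
    Nat.finite_of_card_ne_zero (by rw [hQcard]; norm_num)
  obtain ⟨abar, habar⟩ : ∃ z : ↥(Subgroup.normalizer (T : Set G)) ⧸
      T.subgroupOf (Subgroup.normalizer (T : Set G)), z ≠ 1 := by
    have : Nontrivial (↥(Subgroup.normalizer (T : Set G)) ⧸
      T.subgroupOf (Subgroup.normalizer (T : Set G))) := by
      rw [← Finite.one_lt_card_iff_nontrivial, hQcard]; norm_num
    exact exists_ne 1
  obtain ⟨bbar, hbbar⟩ : ∃ z : ↥(Subgroup.normalizer (T : Set G)) ⧸
      T.subgroupOf (Subgroup.normalizer (T : Set G)), z ∉ Subgroup.zpowers abar := by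
    by_contra hcon
    push Not at hcon
    have htop : Subgroup.zpowers abar = ⊤ := by
      rw [eq_top_iff]; intro z _; exact hcon z
    have h1 : Nat.card (Subgroup.zpowers abar) = 4 := by
      rw [htop, Subgroup.card_top, hQcard]
    rw [Nat.card_zpowers] at h1
    have h2 : orderOf abar ∣ 2 := by
      apply orderOf_dvd_of_pow_eq_one
      rw [pow_two]; exact hQsq _
    rw [h1] at h2
    norm_num at h2
  have hb1 : bbar ≠ 1 := by
    intro h; apply hbbar; rw [h]; exact Subgroup.one_mem _
  have hab : abar ≠ bbar := by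
    intro h; apply hbbar; rw [← h]; exact Subgroup.mem_zpowers _
  obtain ⟨a, rfl⟩ := QuotientGroup.mk_surjective abar
  obtain ⟨b, rfl⟩ := QuotientGroup.mk_surjective bbar
  have ha1 : T.normalizerMonoidHom a ≠ 1 := by
    intro h; rw [hker, ← hmk] at h; exact habar h
  have hb1' : T.normalizerMonoidHom b ≠ 1 := by
    intro h; rw [hker, ← hmk] at h; exact hb1 h
  have hab' : T.normalizerMonoidHom a ≠ T.normalizerMonoidHom b := by
    intro h
    apply hab
    have h1 : T.normalizerMonoidHom (a⁻¹ * b) = 1 := by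
      rw [map_mul, map_inv, h, inv_mul_cancel]
    rw [hker, ← hmk, QuotientGroup.mk_mul, QuotientGroup.mk_inv, inv_mul_eq_one] at h1
    exact h1
  -- the commutative group structure on `T`
  let _ : CommGroup ↥T := { (inferInstance : Group ↥T) with
    mul_comm := fun u v => hcomm.is_comm.comm u v }
  have hexpT : ∀ t : ↥T, t ^ 3 = 1 := by
    intro t
    apply Subtype.ext
    rw [Subgroup.coe_pow, Subgroup.coe_one]
    exact hexp t t.2
  obtain ⟨x', y', σ', τ', hσ', hτ', hx1, hy1, hyx, hyx', hσx, hσy, hτx, hτy, hall⟩ :=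
    Cfsg.Agent.Lib.Helper82_H9_LOCA.diag (A := ↥T) hcard hexpT (T.normalizerMonoidHom a) (T.normalizerMonoidHom b)
      (hsq a) (hsq b) (hcommφ a b) ha1 hb1' hab'
  -- elements realising `σ'` and `τ'`
  obtain ⟨i, hi⟩ : ∃ i : Subgroup.normalizer (T : Set G), T.normalizerMonoidHom i = σ' := by
    rcases hσ' with h | h | h
    · exact ⟨a, h.symm⟩
    · exact ⟨b, h.symm⟩
    · exact ⟨a * b, by rw [map_mul, h]⟩
  obtain ⟨j, hj⟩ : ∃ j : Subgroup.normalizer (T : Set G), T.normalizerMonoidHom j = τ' := by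
    rcases hτ' with h | h | h
    · exact ⟨a, h.symm⟩
    · exact ⟨b, h.symm⟩
    · exact ⟨a * b, by rw [map_mul, h]⟩
  have hact : ∀ (n : Subgroup.normalizer (T : Set G)) (t : ↥T),
      ((T.normalizerMonoidHom n) t : G) = n * t * (n : G)⁻¹ := fun n t => rfl
  have hx3 : (x' : G) ^ 3 = 1 := hexp _ x'.2
  have hy3 : (y' : G) ^ 3 = 1 := hexp _ y'.2
  have hx1' : (x' : G) ≠ 1 := fun h => hx1 (Subtype.ext h)
  have hy1' : (y' : G) ≠ 1 := fun h => hy1 (Subtype.ext h)
  refine ⟨x', y', i, j, ?_⟩
  refine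
    { card := hcard
      ox := orderOf_eq_prime hx3 hx1'
      oy := orderOf_eq_prime hy3 hy1'
      comm := ?_
      hne := ?_
      hne' := ?_
      mem := ?_
      hi := i.2
      hj := j.2
      ix := ?_
      iy := ?_
      jx := ?_
      jy := ?_
      act := ?_
      cardN := ?_
      loc := hloc }
  · have := mul_comm x' y'
    exact congrArg Subtype.val this
  · intro h; exact hyx (Subtype.ext h)
  · intro h; apply hyx'; apply Subtype.ext; rw [h]; rfl
  · intro t
    constructor
    · intro ht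
      have := hall ⟨t, ht⟩
      simp only [Subtype.ext_iff, Subgroup.coe_mul, Subgroup.coe_inv, Subgroup.coe_one] at this
      exact this
    · intro ht
      have hxT := x'.2
      have hyT := y'.2
      rcases ht with h | h | h | h | h | h | h | h | h <;> rw [h]
      · exact T.one_mem
      · exact hxT
      · exact T.inv_mem hxT
      · exact hyT
      · exact T.inv_mem hyT
      · exact T.mul_mem hxT hyT
      · exact T.mul_mem hxT (T.inv_mem hyT)
      · exact T.mul_mem (T.inv_mem hxT) hyT
      · exact T.mul_mem (T.inv_mem hxT) (T.inv_mem hyT)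
  · rw [← hact i x', hi, hσx]; rfl
  · rw [← hact i y', hi, hσy]
  · rw [← hact j x', hj, hτx]
  · rw [← hact j y', hj, hτy]; rfl
  · intro n hnN
    have e1 : σ' ((T.normalizerMonoidHom ⟨n, hnN⟩) x') =
        ((T.normalizerMonoidHom ⟨n, hnN⟩) x')⁻¹ := by
      rw [← hi, ← MulAut.mul_apply, hcommφ, MulAut.mul_apply, hi, hσx, map_inv]
    have e2 : τ' ((T.normalizerMonoidHom ⟨n, hnN⟩) x') =
        ((T.normalizerMonoidHom ⟨n, hnN⟩) x') := by
      rw [← hj, ← MulAut.mul_apply, hcommφ, MulAut.mul_apply, hj, hτx]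
    have e3 : σ' ((T.normalizerMonoidHom ⟨n, hnN⟩) y') =
        ((T.normalizerMonoidHom ⟨n, hnN⟩) y') := by
      rw [← hi, ← MulAut.mul_apply, hcommφ, MulAut.mul_apply, hi, hσy]
    have e4 : τ' ((T.normalizerMonoidHom ⟨n, hnN⟩) y') =
        ((T.normalizerMonoidHom ⟨n, hnN⟩) y')⁻¹ := by
      rw [← hj, ← MulAut.mul_apply, hcommφ, MulAut.mul_apply, hj, hτy, map_inv]
    have n1 : (T.normalizerMonoidHom ⟨n, hnN⟩) x' ≠ 1 := by
      intro h; apply hx1
      rwa [map_eq_one_iff _ (MulEquiv.injective _)] at h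
    have n2 : (T.normalizerMonoidHom ⟨n, hnN⟩) y' ≠ 1 := by
      intro h; apply hy1
      rwa [map_eq_one_iff _ (MulEquiv.injective _)] at h
    have r1 := key_x (hexpT y') hy1 (hall _) σ' τ' hσy hτx hτy n1 e1 e2
    have r2 := key_y (hexpT x') hx1 (hall _) σ' τ' hσx hσy hτx n2 e3 e4
    constructor
    · rcases r1 with h | h
      · left
        have := congrArg Subtype.val h
        rw [hact] at this
        exact this
      · right
        have := congrArg Subtype.val h
        rw [hact] at this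
        exact this
    · rcases r2 with h | h
      · left
        have := congrArg Subtype.val h
        rw [hact] at this
        exact this
      · right
        have := congrArg Subtype.val h
        rw [hact] at this
        exact this
  · rw [Subgroup.card_eq_card_quotient_mul_card_subgroup
      (T.subgroupOf (Subgroup.normalizer (T : Set G))), hQcard,
      Nat.card_congr (Subgroup.subgroupOfEquivOfLe Subgroup.le_normalizer).toEquiv, hcard]

end grp
end Cfsg.Agent.Lib.Helper52_H9_LOC
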