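import Mathlib

/-!
# H9-G333 (helper5, package of helper17's S3805 market): the general (3,3,3)-lemma

`u ^ 3 = v ^ 3 = (u v) ^ 3 = 1` in a finite group: either some `c ≠ 1` with `c ^ 3 = 1` commutes with `u` and `v`,
or `u ~ v` and `u v ~ u⁻¹`.  First half (the abelian `u`-invariant subgroup `B = ⟨a, p, q⟩`) adapted from
`Helper8_A6_L333`; the case `3 ∤ |B|` uses cube roots in `B` and the norm.
-/

set_option autoImplicit false

namespace Cfsg.Agent.Lib.Helper5_H9_G333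

section grp
variable {G : Type*} [Group G] [Finite G]

omit [Finite G] in
/-- cube roots + norm: `w ^ 3 = 1` normalises the abelian `B` of order prime to `3`, `t ∈ B` of norm `1`
is of the form `c⁻¹ (w c w⁻¹)` -/
theorem exists_twist (B : Subgroup G) (hBcomm : ∀ x ∈ B, ∀ y ∈ B, x * y = y * x)
    (h3 : ¬ 3 ∣ Nat.card B) {w : G} (hw3 : w * w * w = 1)
    (hw : ∀ b ∈ B, w * b * w⁻¹ ∈ B) {t : G} (ht : t ∈ B)
    (hnorm : t * (w * t * w⁻¹) * (w⁻¹ * t * w) = 1) :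
    ∃ c ∈ B, c⁻¹ * (w * c * w⁻¹) = t := by
  have hcop : Nat.Coprime (Nat.card B) 3 :=
    (Nat.Coprime.symm ((Nat.Prime.coprime_iff_not_dvd Nat.prime_three).mpr h3))
  -- no element of order three in `B`
  have hno : ∀ n ∈ B, n ^ 3 = 1 → n = 1 := by
    intro n hn hn3
    have hd : orderOf n ∣ 3 := orderOf_dvd_of_pow_eq_one hn3
    have hdB : orderOf n ∣ Nat.card B := by
      have := orderOf_dvd_natCard (⟨n, hn⟩ : B)
      rwa [Subgroup.orderOf_mk] at this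
    have h1 : orderOf n ∣ Nat.gcd (Nat.card B) 3 := Nat.dvd_gcd hdB hd
    rw [hcop] at h1
    exact orderOf_eq_one_iff.mp (Nat.dvd_one.mp h1)
  -- a cube root of `t`
  obtain ⟨d, hdB, hd⟩ : ∃ d ∈ B, d ^ 3 = t := by
    obtain ⟨d, hd⟩ := (powCoprime hcop).surjective (⟨t, ht⟩ : B)
    refine ⟨d, d.2, ?_⟩
    have := congrArg Subtype.val hd
    simpa using this
  have hw' : ∀ b ∈ B, w⁻¹ * b * w ∈ B := by
    intro b hb
    have h1 := hw _ (hw b hb)
    have hww : w * w = w⁻¹ := eq_inv_of_mul_eq_one_left hw3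
    have hwi : w⁻¹ * w⁻¹ = w := by
      have : w⁻¹ * w⁻¹ = (w * w)⁻¹ := by group
      rw [this, hww, inv_inv]
    have : w * (w * b * w⁻¹) * w⁻¹ = w⁻¹ * b * w := by
      calc w * (w * b * w⁻¹) * w⁻¹ = (w * w) * b * (w⁻¹ * w⁻¹) := by group
        _ = w⁻¹ * b * w := by rw [hww, hwi]
    rw [this] at h1
    exact h1
  obtain ⟨d1, hd1⟩ : ∃ d1 : G, d1 = w * d * w⁻¹ := ⟨_, rfl⟩
  obtain ⟨d2, hd2⟩ : ∃ d2 : G, d2 = w⁻¹ * d * w := ⟨_, rfl⟩
  have hd1B : d1 ∈ B := by rw [hd1]; exact hw d hdB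
  have hd2B : d2 ∈ B := by rw [hd2]; exact hw' d hdB
  have c01 : Commute d d1 := hBcomm d hdB d1 hd1B
  have c02 : Commute d d2 := hBcomm d hdB d2 hd2B
  have c12 : Commute d1 d2 := hBcomm d1 hd1B d2 hd2B
  -- the norm of `d` is trivial
  have hn : d * d1 * d2 = 1 := by
    apply hno _ (B.mul_mem (B.mul_mem hdB hd1B) hd2B)
    have e1 : d1 ^ 3 = w * t * w⁻¹ := by rw [hd1, conj_pow, hd]
    have e2 : d2 ^ 3 = w⁻¹ * t * w := by
      have : d2 = w⁻¹ * d * w⁻¹⁻¹ := by rw [hd2, inv_inv]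
      rw [this, conj_pow, hd, inv_inv]
    rw [(c02.mul_left c12).mul_pow, c01.mul_pow, hd, e1, e2]
    exact hnorm
  -- the twist
  refine ⟨d1⁻¹ * (d⁻¹ * d⁻¹), B.mul_mem (B.inv_mem hd1B) (B.mul_mem (B.inv_mem hdB) (B.inv_mem hdB)), ?_⟩
  have hww : w * w = w⁻¹ := eq_inv_of_mul_eq_one_left hw3
  have hwi : w⁻¹ * w⁻¹ = w := by
    have : w⁻¹ * w⁻¹ = (w * w)⁻¹ := by group
    rw [this, hww, inv_inv]
  have hconj1 : w * d1 * w⁻¹ = d2 := by
    rw [hd1, hd2]
    calc w * (w * d * w⁻¹) * w⁻¹ = (w * w) * d * (w⁻¹ * w⁻¹) := by group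
      _ = w⁻¹ * d * w := by rw [hww, hwi]
  have hconj : w * (d1⁻¹ * (d⁻¹ * d⁻¹)) * w⁻¹ = d2⁻¹ * (d1⁻¹ * d1⁻¹) := by
    calc w * (d1⁻¹ * (d⁻¹ * d⁻¹)) * w⁻¹
        = (w * d1 * w⁻¹)⁻¹ * ((w * d * w⁻¹)⁻¹ * (w * d * w⁻¹)⁻¹) := by group
      _ = d2⁻¹ * (d1⁻¹ * d1⁻¹) := by rw [hconj1, ← hd1]
  rw [hconj]
  have hd2' : d2 = d1⁻¹ * d⁻¹ := by
    calc d2 = (d * d1)⁻¹ * (d * d1 * d2) := by group
      _ = d1⁻¹ * d⁻¹ := by rw [hn]; group
  rw [hd2', ← hd]
  have c01' : d1 * d = d * d1 := c01.symm.eq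
  have c01i : d1⁻¹ * d = d * d1⁻¹ := (c01.symm.inv_left).eq
  calc (d1⁻¹ * (d⁻¹ * d⁻¹))⁻¹ * ((d1⁻¹ * d⁻¹)⁻¹ * (d1⁻¹ * d1⁻¹))
      = d * d * (d1 * d) * d1⁻¹ := by
        simp only [mul_inv_rev, inv_inv, mul_assoc, mul_inv_cancel_left]
    _ = d * d * (d * d1) * d1⁻¹ := by rw [c01']
    _ = d ^ 3 := by
        rw [pow_three']
        simp only [mul_assoc, mul_inv_cancel, mul_one]

theorem gen333 {u v : G} (hu : u ^ 3 = 1) (hv : v ^ 3 = 1) (huv : (u * v) ^ 3 = 1) :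
    (∃ c : G, c ≠ 1 ∧ c ^ 3 = 1 ∧ c * u = u * c ∧ c * v = v * c) ∨
      (IsConj u v ∧ IsConj (u * v) u⁻¹) := by
  have hu3 : u ^ 3 = 1 := hu
  have hv3 : v ^ 3 = 1 := hv
  have huuu : u * u * u = 1 := by rw [← hu3, pow_three']
  have huu : u * u = u⁻¹ := eq_inv_of_mul_eq_one_left huuu
  have hui : u⁻¹ * u⁻¹ = u := by
    have : u⁻¹ * u⁻¹ = (u * u)⁻¹ := by group
    rw [this, huu, inv_inv]
  have hw3 : (u * v) ^ 3 = 1 := huv
  have hvu3 : (v * u) ^ 3 = 1 := by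
    have : v * u = u⁻¹ * (u * v) * (u⁻¹)⁻¹ := by group
    rw [this, conj_pow, hw3]
    group
  -- `a = v u⁻¹` and its conjugates under `u`
  obtain ⟨a, ha⟩ : ∃ a : G, a = v * u⁻¹ := ⟨_, rfl⟩
  obtain ⟨p, hp⟩ : ∃ p : G, p = u * a * u⁻¹ := ⟨_, rfl⟩
  obtain ⟨q, hq⟩ : ∃ q : G, q = u⁻¹ * a * u := ⟨_, rfl⟩
  have hau : a * u = v := by rw [ha]; group
  have haui : a * u⁻¹ = v * u := by rw [ha, mul_assoc, hui]
  have e1 : a * p * q = 1 := by
    calc a * p * q = a * (u * a * u⁻¹) * (u⁻¹ * a * u) := by rw [hp, hq]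
      _ = a * u * a * (u⁻¹ * u⁻¹) * a * u := by group
      _ = a * u * a * u * a * u := by rw [hui]
      _ = (a * u) ^ 3 := by rw [pow_three']; simp only [mul_assoc]
      _ = 1 := by rw [hau, hv3]
  have e2 : a * q * p = 1 := by
    calc a * q * p = a * (u⁻¹ * a * u) * (u * a * u⁻¹) := by rw [hp, hq]
      _ = a * u⁻¹ * a * (u * u) * a * u⁻¹ := by group
      _ = a * u⁻¹ * a * u⁻¹ * a * u⁻¹ := by rw [huu]
      _ = (a * u⁻¹) ^ 3 := by rw [pow_three']; simp only [mul_assoc]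
      _ = 1 := by rw [haui, hvu3]
  have hpq : p * q = q * p := by
    have a1 : p * q = a⁻¹ := by
      calc p * q = a⁻¹ * (a * p * q) := by group
        _ = a⁻¹ := by rw [e1, mul_one]
    have a2 : q * p = a⁻¹ := by
      calc q * p = a⁻¹ * (a * q * p) := by group
        _ = a⁻¹ := by rw [e2, mul_one]
    rw [a1, a2]
  have hav : a = q⁻¹ * p⁻¹ := by
    calc a = (a * p * q) * q⁻¹ * p⁻¹ := by group
      _ = q⁻¹ * p⁻¹ := by rw [e1]; group
  have cpq : Commute p q := hpq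
  have hap : a * p = p * a := by
    have c1 : Commute p (q⁻¹ * p⁻¹) := cpq.inv_right.mul_right (Commute.refl p).inv_right
    rw [← hav] at c1
    exact c1.symm.eq
  have haq : a * q = q * a := by
    have c1 : Commute q (q⁻¹ * p⁻¹) := (Commute.refl q).inv_right.mul_right cpq.symm.inv_right
    rw [← hav] at c1
    exact c1.symm.eq
  -- the abelian `u`-invariant subgroup `B`
  let T : Set G := {a, p, q}
  have hTcomm : ∀ x ∈ T, ∀ y ∈ T, x * y = y * x := by
    intro x hx y hy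
    simp only [T, Set.mem_insert_iff, Set.mem_singleton_iff] at hx hy
    rcases hx with rfl | rfl | rfl <;> rcases hy with rfl | rfl | rfl
    · rfl
    · exact hap
    · exact haq
    · exact hap.symm
    · rfl
    · exact hpq
    · exact haq.symm
    · exact hpq.symm
    · rfl
  let B : Subgroup G := Subgroup.closure T
  have hBcomm : ∀ x ∈ B, ∀ y ∈ B, x * y = y * x := by
    intro x hx y hy
    have hc := Subgroup.isMulCommutative_closure hTcomm
    have := hc.is_comm.comm (⟨x, hx⟩ : Subgroup.closure T) ⟨y, hy⟩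
    exact congrArg Subtype.val this
  have haB : a ∈ B := Subgroup.subset_closure (by simp [T])
  have hpB : p ∈ B := Subgroup.subset_closure (by simp [T])
  have hconjT : ∀ s ∈ T, u * s * u⁻¹ ∈ T := by
    intro s hs
    simp only [T, Set.mem_insert_iff, Set.mem_singleton_iff] at hs ⊢
    rcases hs with h1 | h1 | h1
    · right; left; rw [h1, hp]
    · right; right
      rw [h1, hp, hq]
      calc u * (u * a * u⁻¹) * u⁻¹ = (u * u) * a * (u⁻¹ * u⁻¹) := by group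
        _ = u⁻¹ * a * u := by rw [huu, hui]
    · left
      rw [h1, hq]
      group
  have hconjB : ∀ b ∈ B, u * b * u⁻¹ ∈ B := by
    intro b hb
    have hle : B ≤ B.comap (MulAut.conj u).toMonoidHom := by
      show Subgroup.closure T ≤ _
      rw [Subgroup.closure_le]
      intro s hs
      show (MulAut.conj u) s ∈ B
      rw [MulAut.conj_apply]
      exact Subgroup.subset_closure (hconjT s hs)
    have := hle hb
    rw [Subgroup.mem_comap] at this
    simpa [MulAut.conj_apply] using this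
  have hconjB' : ∀ b ∈ B, u⁻¹ * b * u ∈ B := by
    intro b hb
    have h1 := hconjB _ (hconjB b hb)
    have : u * (u * b * u⁻¹) * u⁻¹ = u⁻¹ * b * u := by
      calc u * (u * b * u⁻¹) * u⁻¹ = (u * u) * b * (u⁻¹ * u⁻¹) := by group
        _ = u⁻¹ * b * u := by rw [huu, hui]
    rw [this] at h1
    exact h1
  have : Fact (Nat.Prime 3) := ⟨Nat.prime_three⟩
  by_cases h3 : 3 ∣ Nat.card B
  · -- an element of order three in `B` fixed by `u`
    left
    obtain ⟨y, hy⟩ := exists_prime_orderOf_dvd_card' (G := B) 3 h3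
    have hy' : orderOf (y : G) = 3 := by rw [Subgroup.orderOf_coe]; exact hy
    have hy1' : (y : G) ≠ 1 := by
      intro h1
      rw [h1, orderOf_one] at hy'
      omega
    obtain ⟨c, hcB, hc1, hc3, hcu⟩ : ∃ c ∈ B, c ≠ 1 ∧ c ^ 3 = 1 ∧ u * c = c * u := by
      obtain ⟨y0, hy0⟩ : ∃ y0 : G, y0 = (y : G) := ⟨_, rfl⟩
      have hy0B : y0 ∈ B := by rw [hy0]; exact y.2
      have hy01 : y0 ≠ 1 := by rw [hy0]; exact hy1'
      have hy03 : y0 ^ 3 = 1 := by rw [hy0, ← hy']; exact pow_orderOf_eq_one _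
      obtain ⟨y1, hy1⟩ : ∃ y1 : G, y1 = u * y0 * u⁻¹ := ⟨_, rfl⟩
      obtain ⟨y2, hy2⟩ : ∃ y2 : G, y2 = u * y1 * u⁻¹ := ⟨_, rfl⟩
      have hy1B : y1 ∈ B := by rw [hy1]; exact hconjB y0 hy0B
      have hy2B : y2 ∈ B := by rw [hy2]; exact hconjB y1 hy1B
      have hy13 : y1 ^ 3 = 1 := by rw [hy1, conj_pow, hy03]; group
      have hy23 : y2 ^ 3 = 1 := by rw [hy2, conj_pow, hy13]; group
      have hy3 : u * y2 * u⁻¹ = y0 := by
        rw [hy2, hy1]
        calc u * (u * (u * y0 * u⁻¹) * u⁻¹) * u⁻¹ = (u * u * u) * y0 * (u * u * u)⁻¹ := by group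
          _ = y0 := by rw [huuu]; group
      have c01 : Commute y0 y1 := hBcomm y0 hy0B y1 hy1B
      have c02 : Commute y0 y2 := hBcomm y0 hy0B y2 hy2B
      have c12 : Commute y1 y2 := hBcomm y1 hy1B y2 hy2B
      by_cases hN : y0 * y1 * y2 = 1
      · by_cases hz : y0⁻¹ * y1 = 1
        · refine ⟨y0, hy0B, hy01, hy03, ?_⟩
          have h10 : y1 = y0 := by
            calc y1 = y0 * (y0⁻¹ * y1) := by group
              _ = y0 := by rw [hz, mul_one]
          calc u * y0 = (u * y0 * u⁻¹) * u := by group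
            _ = y0 * u := by rw [← hy1, h10]
        · refine ⟨y0⁻¹ * y1, B.mul_mem (B.inv_mem hy0B) hy1B, hz, ?_, ?_⟩
          · rw [(c01.inv_left).mul_pow, inv_pow, hy03, hy13, inv_one, mul_one]
          have hy2' : y2 = y1⁻¹ * y0⁻¹ := by
            calc y2 = (y0 * y1)⁻¹ * (y0 * y1 * y2) := by group
              _ = y1⁻¹ * y0⁻¹ := by rw [hN]; group
          have hy1i : y1⁻¹ * y1⁻¹ = y1 := by
            have : y1 * y1 * y1 = 1 := by rw [← hy13, pow_three']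
            calc y1⁻¹ * y1⁻¹ = y1⁻¹ * y1⁻¹ * (y1 * y1 * y1) := by rw [this, mul_one]
              _ = y1 := by group
          have hconj : u * (y0⁻¹ * y1) * u⁻¹ = y0⁻¹ * y1 := by
            calc u * (y0⁻¹ * y1) * u⁻¹ = (u * y0 * u⁻¹)⁻¹ * (u * y1 * u⁻¹) := by group
              _ = y1⁻¹ * y2 := by rw [← hy1, ← hy2]
              _ = (y1⁻¹ * y1⁻¹) * y0⁻¹ := by rw [hy2']; group
              _ = y1 * y0⁻¹ := by rw [hy1i]
              _ = y0⁻¹ * y1 := (c01.inv_left.eq).symm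
          calc u * (y0⁻¹ * y1) = (u * (y0⁻¹ * y1) * u⁻¹) * u := by group
            _ = y0⁻¹ * y1 * u := by rw [hconj]
      · refine ⟨y0 * y1 * y2, B.mul_mem (B.mul_mem hy0B hy1B) hy2B, hN, ?_, ?_⟩
        · rw [(c02.mul_left c12).mul_pow, c01.mul_pow, hy03, hy13, hy23, one_mul, one_mul]
        have hconj : u * (y0 * y1 * y2) * u⁻¹ = y0 * y1 * y2 := by
          calc u * (y0 * y1 * y2) * u⁻¹
              = (u * y0 * u⁻¹) * (u * y1 * u⁻¹) * (u * y2 * u⁻¹) := by group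
            _ = y1 * y2 * y0 := by rw [← hy1, ← hy2, hy3]
            _ = y0 * (y1 * y2) := ((c01.mul_right c02).eq).symm
            _ = y0 * y1 * y2 := (mul_assoc _ _ _).symm
        calc u * (y0 * y1 * y2) = (u * (y0 * y1 * y2) * u⁻¹) * u := by group
          _ = y0 * y1 * y2 * u := by rw [hconj]
    refine ⟨c, hc1, hc3, hcu.symm, ?_⟩
    have hca : c * a = a * c := hBcomm c hcB a haB
    rw [← hau]
    calc c * (a * u) = (c * a) * u := by group
      _ = a * c * u := by rw [hca]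
      _ = a * (c * u) := by group
      _ = a * (u * c) := by rw [hcu]
      _ = a * u * c := by group
  · -- `3 ∤ |B|`: cube roots and the norm
    right
    constructor
    · have hnorm : a * (u * a * u⁻¹) * (u⁻¹ * a * u) = 1 := by rw [← hp, ← hq]; exact e1
      obtain ⟨c, -, hc⟩ := exists_twist B hBcomm h3 huuu hconjB haB hnorm
      rw [isConj_iff]
      refine ⟨c⁻¹, ?_⟩
      calc c⁻¹ * u * c⁻¹⁻¹ = (c⁻¹ * (u * c * u⁻¹)) * u := by group
        _ = a * u := by rw [hc]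
        _ = v := hau
    · have hw : ∀ b ∈ B, u⁻¹ * b * u⁻¹⁻¹ ∈ B := by
        intro b hb
        rw [inv_inv]
        exact hconjB' b hb
      have hui3 : u⁻¹ * u⁻¹ * u⁻¹ = 1 := by
        have : u⁻¹ * u⁻¹ * u⁻¹ = (u * u * u)⁻¹ := by group
        rw [this, huuu, inv_one]
      have hnorm : p * (u⁻¹ * p * u⁻¹⁻¹) * (u⁻¹⁻¹ * p * u⁻¹) = 1 := by
        rw [inv_inv]
        have h1 : u⁻¹ * p * u = a := by rw [hp]; group
        have h2 : u * p * u⁻¹ = q := by
          rw [hp, hq]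
          calc u * (u * a * u⁻¹) * u⁻¹ = (u * u) * a * (u⁻¹ * u⁻¹) := by group
            _ = u⁻¹ * a * u := by rw [huu, hui]
        rw [h1, h2]
        calc p * a * q = a * p * q := by rw [hap]
          _ = 1 := e1
      obtain ⟨c, -, hc⟩ := exists_twist B hBcomm h3 hui3 hw hpB hnorm
      rw [inv_inv] at hc
      have hpu : p * u⁻¹ = u * v := by
        rw [hp, ha]
        calc u * (v * u⁻¹) * u⁻¹ * u⁻¹ = u * v * (u⁻¹ * u⁻¹ * u⁻¹) := by group
          _ = u * v := by rw [hui3, mul_one]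
      rw [isConj_iff]
      refine ⟨c, ?_⟩
      calc c * (u * v) * c⁻¹ = c * (p * u⁻¹) * c⁻¹ := by rw [hpu]
        _ = c * ((c⁻¹ * (u⁻¹ * c * u)) * u⁻¹) * c⁻¹ := by rw [hc]
        _ = u⁻¹ := by group

end grp

end Cfsg.Agent.Lib.Helper5_H9_G333
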