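import Mathlib
import Cfsg.Agent.Lib.Helper17_H9Defs

/-!
# S3805 package CNT1 (architect helper17): the three class multiplication counts equal to one  (helper73)

`count1_aux` takes the `(3,3,3)`-lemma (package L333) and the fusion statements (package FUS) as explicit
hypotheses; the verbatim `count1` is in `Helper73_H9_CNT1W`.
-/

set_option autoImplicit false

namespace Cfsg.Agent.Lib.Helper73_H9_CNT1

open Cfsg Cfsg.Agent.Lib.Helper17_H9Defs

variable {G : Type*} [Group G] {T : Subgroup G} {x y i j : G}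

/-- in a group, `a ^ 3 = 1` gives `a * a = a⁻¹` -/
theorem mul_self_eq_inv' {a : G} (ha : a ^ 3 = 1) : a * a = a⁻¹ := by
  rw [eq_inv_iff_mul_eq_one, ← ha, pow_succ, pow_two]

/-- a conjugate of an element of cube one has cube one -/
theorem cube_of_conj {a p : G} (ha : a ^ 3 = 1) (hp : IsConj a p) : p ^ 3 = 1 := by
  obtain ⟨g, hg⟩ := isConj_iff.mp hp
  rw [← hg, conj_pow, ha, mul_one, mul_inv_cancel]

/-- the elementary facts about `x`, `y` in the configuration `Hyp` -/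
theorem basic_facts (h : Hyp G T x y i j) :
    x ^ 3 = 1 ∧ y ^ 3 = 1 ∧ x ≠ 1 ∧ y ≠ 1 ∧ x * x = x⁻¹ ∧ y * y = y⁻¹ := by
  have hx3 : x ^ 3 = 1 := by rw [← h.ox]; exact pow_orderOf_eq_one x
  have hy3 : y ^ 3 = 1 := by rw [← h.oy]; exact pow_orderOf_eq_one y
  refine ⟨hx3, hy3, ?_, ?_, mul_self_eq_inv' hx3, mul_self_eq_inv' hy3⟩
  · intro e
    have := h.ox
    rw [e, orderOf_one] at this
    omega
  · intro e
    have := h.oy
    rw [e, orderOf_one] at this
    omega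

/-- the ten impossible coincidences in `T` -/
theorem ne_facts (h : Hyp G T x y i j) :
    x⁻¹ * y ≠ y ∧ x⁻¹ * y ≠ y⁻¹ ∧
    y ≠ x * y ∧ y ≠ x * y⁻¹ ∧ y ≠ x⁻¹ * y ∧ y ≠ x⁻¹ * y⁻¹ ∧
    x ≠ x * y ∧ x ≠ x * y⁻¹ ∧ x ≠ x⁻¹ * y ∧ x ≠ x⁻¹ * y⁻¹ := by
  obtain ⟨hx3, hy3, hx1, hy1, hxx, hyy⟩ := basic_facts h
  have hne := h.hne
  have hne' := h.hne'
  refine ⟨?_, ?_, ?_, ?_, ?_, ?_, ?_, ?_, ?_, ?_⟩
  · intro e
    have : x⁻¹ = 1 := mul_right_cancel (b := y) (by rw [e, one_mul])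
    exact hx1 (inv_eq_one.mp this)
  · intro e
    -- x⁻¹ = y⁻¹ * y⁻¹ = y
    have e' : x⁻¹ = (x⁻¹ * y) * y⁻¹ := by group
    rw [e, ← mul_inv_rev, hyy, inv_inv] at e'
    exact hne' e'.symm
  · intro e
    have : x = 1 := mul_right_cancel (b := y) (by rw [← e, one_mul])
    exact hx1 this
  · intro e
    -- y * y = x
    have e' : x = (x * y⁻¹) * y := by group
    rw [← e, hyy] at e'
    apply hne'
    rw [e', inv_inv]
  · intro e
    have : x⁻¹ = 1 := mul_right_cancel (b := y) (by rw [← e, one_mul])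
    exact hx1 (inv_eq_one.mp this)
  · intro e
    -- y * y = x⁻¹
    have e' : x⁻¹ = (x⁻¹ * y⁻¹) * y := by group
    rw [← e, hyy] at e'
    exact hne (inv_injective e'.symm)
  · intro e
    have : y = 1 := mul_left_cancel (a := x) (by rw [← e, mul_one])
    exact hy1 this
  · intro e
    have : y⁻¹ = 1 := mul_left_cancel (a := x) (by rw [← e, mul_one])
    exact hy1 (inv_eq_one.mp this)
  · intro e
    -- x * x = y
    have e' : y = x * (x⁻¹ * y) := by group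
    rw [← e, hxx] at e'
    exact hne' e'
  · intro e
    have e' : y⁻¹ = x * (x⁻¹ * y⁻¹) := by group
    rw [← e, hxx] at e'
    exact hne (inv_injective e')

/-- the explicit hypotheses version: `L333` and `FUS` as hypotheses -/
theorem count1_aux (h : Hyp G T x y i j)
    (h333 : ∀ {u v : G}, u ^ 3 = 1 → v ^ 3 = 1 → u * v ∈ T → u * v ≠ 1 →
      (u ∈ T ∧ v ∈ T) ∨ (IsConj u v ∧ IsConj (u * v) u⁻¹))
    (hcx : ∀ {t : G}, t ∈ T → (IsConj x t ↔ (t = x ∨ t = x⁻¹)))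
    (hcy : ∀ {t : G}, t ∈ T → (IsConj y t ↔ (t = y ∨ t = y⁻¹)))
    (hcxy : ∀ {t : G}, t ∈ T →
      (IsConj (x * y) t ↔ (t = x * y ∨ t = x * y⁻¹ ∨ t = x⁻¹ * y ∨ t = x⁻¹ * y⁻¹)))
    (hnc : ¬ IsConj x y ∧ ¬ IsConj x (x * y) ∧ ¬ IsConj y (x * y)) :
    Nat.card {p : G × G // IsConj x p.1 ∧ IsConj y p.2 ∧ p.1 * p.2 = x * y} = 1 ∧
    Nat.card {p : G × G // IsConj x p.1 ∧ IsConj (x * y) p.2 ∧ p.1 * p.2 = x * y} = 1 ∧
    Nat.card {p : G × G // IsConj y p.1 ∧ IsConj (x * y) p.2 ∧ p.1 * p.2 = x * y} = 1 := by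
  obtain ⟨hx3, hy3, hx1, hy1, hxx, hyy⟩ := basic_facts h
  obtain ⟨n1, n2, n3, n4, n5, n6, n7, n8, n9, n10⟩ := ne_facts h
  have hcomm := h.comm
  have hxT : x ∈ T := (h.mem x).2 (Or.inr (Or.inl rfl))
  have hyT : y ∈ T := (h.mem y).2 (Or.inr (Or.inr (Or.inr (Or.inl rfl))))
  have hxyT : x * y ∈ T := T.mul_mem hxT hyT
  have hxy1 : x * y ≠ 1 := fun e => h.hne' (eq_inv_of_mul_eq_one_right e)
  have hxy3 : (x * y) ^ 3 = 1 := by
    rw [(show Commute x y from hcomm).mul_pow, hx3, hy3, one_mul]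
  -- the common first step: both factors are in `T`
  have step : ∀ {a b p q : G}, a ^ 3 = 1 → b ^ 3 = 1 → ¬ IsConj a b → IsConj a p → IsConj b q →
      p * q = x * y → p ∈ T ∧ q ∈ T := by
    intro a b p q ha hb hab hp hq hpq
    have hpqT : p * q ∈ T := by rw [hpq]; exact hxyT
    have hpq1 : p * q ≠ 1 := by rw [hpq]; exact hxy1
    rcases h333 (cube_of_conj ha hp) (cube_of_conj hb hq) hpqT hpq1 with h1 | ⟨h2, _⟩
    · exact h1
    · exact absurd ((hp.trans h2).trans hq.symm) hab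
  refine ⟨?_, ?_, ?_⟩
  · -- the pair (x, y)
    rw [Nat.card_eq_one_iff_unique]
    refine ⟨⟨?_⟩, ⟨⟨(x, y), IsConj.refl x, IsConj.refl y, rfl⟩⟩⟩
    rintro ⟨⟨p, q⟩, hp, hq, hpq⟩ ⟨⟨p', q'⟩, hp', hq', hpq'⟩
    simp only at hp hq hpq hp' hq' hpq'
    have key : ∀ {p q : G}, IsConj x p → IsConj y q → p * q = x * y → p = x ∧ q = y := by
      intro p q hp hq hpq
      obtain ⟨hpT, hqT⟩ := step hx3 hy3 hnc.1 hp hq hpq
      rcases (hcx hpT).1 hp with e0 | e0
      · rw [e0] at hpq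
        exact ⟨e0, mul_left_cancel hpq⟩
      · exfalso
        rw [e0] at hpq
        have hq' : q = x⁻¹ * y := by
          have : q = x * (x⁻¹ * q) := by group
          rw [hpq, ← mul_assoc, hxx] at this
          exact this
        rcases (hcy hqT).1 hq with e | e <;> rw [hq'] at e
        · exact n1 e
        · exact n2 e
    obtain ⟨e1, e2⟩ := key hp hq hpq
    obtain ⟨e1', e2'⟩ := key hp' hq' hpq'
    rw [Subtype.mk.injEq, Prod.mk.injEq]
    exact ⟨e1.trans e1'.symm, e2.trans e2'.symm⟩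
  · -- the pair (x⁻¹, x⁻¹ * y)
    have hxinvT : x⁻¹ ∈ T := T.inv_mem hxT
    have hc1 : IsConj x x⁻¹ := (hcx hxinvT).2 (Or.inr rfl)
    have hc2 : IsConj (x * y) (x⁻¹ * y) :=
      (hcxy (T.mul_mem hxinvT hyT)).2 (Or.inr (Or.inr (Or.inl rfl)))
    rw [Nat.card_eq_one_iff_unique]
    refine ⟨⟨?_⟩, ⟨⟨(x⁻¹, x⁻¹ * y), hc1, hc2, ?_⟩⟩⟩
    · rintro ⟨⟨p, q⟩, hp, hq, hpq⟩ ⟨⟨p', q'⟩, hp', hq', hpq'⟩
      simp only at hp hq hpq hp' hq' hpq'
      have key : ∀ {p q : G}, IsConj x p → IsConj (x * y) q → p * q = x * y →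
          p = x⁻¹ ∧ q = x⁻¹ * y := by
        intro p q hp hq hpq
        obtain ⟨hpT, hqT⟩ := step hx3 hxy3 hnc.2.1 hp hq hpq
        rcases (hcx hpT).1 hp with e0 | e0
        · exfalso
          rw [e0] at hpq
          have hq' : q = y := mul_left_cancel hpq
          rcases (hcxy hqT).1 hq with e | e | e | e <;> rw [hq'] at e
          · exact n3 e
          · exact n4 e
          · exact n5 e
          · exact n6 e
        · rw [e0] at hpq
          refine ⟨e0, ?_⟩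
          have : q = x * (x⁻¹ * q) := by group
          rw [hpq, ← mul_assoc, hxx] at this
          exact this
      obtain ⟨e1, e2⟩ := key hp hq hpq
      obtain ⟨e1', e2'⟩ := key hp' hq' hpq'
      rw [Subtype.mk.injEq, Prod.mk.injEq]
      exact ⟨e1.trans e1'.symm, e2.trans e2'.symm⟩
    · show x⁻¹ * (x⁻¹ * y) = x * y
      rw [← mul_assoc, ← mul_inv_rev, hxx, inv_inv]
  · -- the pair (y⁻¹, x * y⁻¹)
    have hyinvT : y⁻¹ ∈ T := T.inv_mem hyT
    have hc1 : IsConj y y⁻¹ := (hcy hyinvT).2 (Or.inr rfl)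
    have hc2 : IsConj (x * y) (x * y⁻¹) :=
      (hcxy (T.mul_mem hxT hyinvT)).2 (Or.inr (Or.inl rfl))
    have hcomm' : y⁻¹ * x = x * y⁻¹ := by
      have : y⁻¹ * x = y⁻¹ * (x * y) * y⁻¹ := by group
      rw [this, hcomm]; group
    rw [Nat.card_eq_one_iff_unique]
    refine ⟨⟨?_⟩, ⟨⟨(y⁻¹, x * y⁻¹), hc1, hc2, ?_⟩⟩⟩
    · rintro ⟨⟨p, q⟩, hp, hq, hpq⟩ ⟨⟨p', q'⟩, hp', hq', hpq'⟩
      simp only at hp hq hpq hp' hq' hpq'
      have key : ∀ {p q : G}, IsConj y p → IsConj (x * y) q → p * q = x * y →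
          p = y⁻¹ ∧ q = x * y⁻¹ := by
        intro p q hp hq hpq
        obtain ⟨hpT, hqT⟩ := step hy3 hxy3 hnc.2.2 hp hq hpq
        rcases (hcy hpT).1 hp with e0 | e0
        · exfalso
          rw [e0, hcomm] at hpq
          have hq' : q = x := mul_left_cancel hpq
          rcases (hcxy hqT).1 hq with e | e | e | e <;> rw [hq'] at e
          · exact n7 e
          · exact n8 e
          · exact n9 e
          · exact n10 e
        · rw [e0] at hpq
          refine ⟨e0, ?_⟩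
          -- q = y * (x * y) = x * (y * y) = x * y⁻¹
          have : q = y * (y⁻¹ * q) := by group
          rw [hpq, hcomm, ← mul_assoc y y x, hyy, hcomm'] at this
          exact this
      obtain ⟨e1, e2⟩ := key hp hq hpq
      obtain ⟨e1', e2'⟩ := key hp' hq' hpq'
      rw [Subtype.mk.injEq, Prod.mk.injEq]
      exact ⟨e1.trans e1'.symm, e2.trans e2'.symm⟩
    · show y⁻¹ * (x * y⁻¹) = x * y
      rw [← mul_assoc, hcomm', mul_assoc, ← mul_inv_rev, hyy, inv_inv]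

end Cfsg.Agent.Lib.Helper73_H9_CNT1
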