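import Mathlib
import Cfsg.Prelude.Def_Characters
import Cfsg.Agent.Lib.Helper80_CharBasic
import Cfsg.Agent.Lib.Helper80_CharComplete
import Cfsg.Agent.Lib.Helper17_H9Defs
import Cfsg.Agent.Lib.Helper30_KleinCount
import Cfsg.Agent.S0840

/-!
# S3805 package EQS (architect helper17): the seven class-algebra equations  (helper73)

`eqs_aux` takes the counts (packages CNT0, CNT1) and the centralizer orders (package CENT) as explicit
hypotheses; the verbatim `eqs` is in `Helper73_H9_EQSW`.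
-/

set_option autoImplicit false
open scoped ComplexConjugate

namespace Cfsg.Agent.Lib.Helper73_H9_EQS

open Cfsg Cfsg.Agent.Lib.Helper80_CharBasic Cfsg.Agent.Lib.Helper17_H9Defs

variable {G : Type*} [Group G] [Finite G]

/-- the class-algebra constant with the class sizes expressed through the centralizer orders -/
theorem cm_eq (a b c : G) {na nb : ℕ}
    (ha : Nat.card (Subgroup.centralizer ({a} : Set G)) = na)
    (hb : Nat.card (Subgroup.centralizer ({b} : Set G)) = nb) :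
    ((na : ℂ) * (nb : ℂ)) *
        (Nat.card {p : G × G // IsConj a p.1 ∧ IsConj b p.2 ∧ p.1 * p.2 = c} : ℂ) =
      (Nat.card G : ℂ) * ∑ᶠ χ : IrrCharacter G,
        (χ : G → ℂ) a * (χ : G → ℂ) b * conj ((χ : G → ℂ) c) / (χ : G → ℂ) 1 := by
  have key := Cfsg.Agent.S0840.result a b c
  have hca := Cfsg.Agent.Lib.Helper30_KleinCount.card_class_mul a
  have hcb := Cfsg.Agent.Lib.Helper30_KleinCount.card_class_mul b
  rw [ha] at hca
  rw [hb] at hcb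
  have hca' : (Nat.card {w : G // IsConj a w} : ℂ) * (na : ℂ) = (Nat.card G : ℂ) := by
    exact_mod_cast hca
  have hcb' : (Nat.card {w : G // IsConj b w} : ℂ) * (nb : ℂ) = (Nat.card G : ℂ) := by
    exact_mod_cast hcb
  have hg : (Nat.card G : ℂ) ≠ 0 := by
    have : Nat.card G ≠ 0 := Nat.card_pos.ne'
    exact_mod_cast this
  rw [key]
  set Sg := ∑ᶠ χ : IrrCharacter G,
        (χ : G → ℂ) a * (χ : G → ℂ) b * conj ((χ : G → ℂ) c) / (χ : G → ℂ) 1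
  set A := (Nat.card {w : G // IsConj a w} : ℂ)
  set B := (Nat.card {w : G // IsConj b w} : ℂ)
  have e1 : (na : ℂ) * (nb : ℂ) * (A * B / (Nat.card G : ℂ) * Sg) =
      (A * (na : ℂ)) * (B * (nb : ℂ)) / (Nat.card G : ℂ) * Sg := by ring
  rw [e1, hca', hcb']
  field_simp

/-- a finsum over the irreducible characters of rational values, cast to the complex numbers -/
theorem finsum_cast (q : IrrCharacter G → ℚ) :
    ∑ᶠ χ : IrrCharacter G, ((q χ : ℚ) : ℂ) = ((∑ᶠ χ : IrrCharacter G, q χ : ℚ) : ℂ) := by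
  classical
  have := Fintype.ofFinite (IrrCharacter G)
  rw [finsum_eq_sum_of_fintype, finsum_eq_sum_of_fintype, Rat.cast_sum]

/-- the general shape of one equation: values `u, v, w` (integers) at the three arguments -/
theorem one_eq {a b c : G} {na nb N : ℕ} {f : IrrCharacter G → ℕ}
    {u v w : IrrCharacter G → ℚ}
    (ha : Nat.card (Subgroup.centralizer ({a} : Set G)) = na)
    (hb : Nat.card (Subgroup.centralizer ({b} : Set G)) = nb)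
    (hN : Nat.card {p : G × G // IsConj a p.1 ∧ IsConj b p.2 ∧ p.1 * p.2 = c} = N)
    (f1 : ∀ χ : IrrCharacter G, (χ : G → ℂ) 1 = (f χ : ℂ))
    (hu : ∀ χ : IrrCharacter G, (χ : G → ℂ) a = ((u χ : ℚ) : ℂ))
    (hv : ∀ χ : IrrCharacter G, (χ : G → ℂ) b = ((v χ : ℚ) : ℂ))
    (hw : ∀ χ : IrrCharacter G, (χ : G → ℂ) c = ((w χ : ℚ) : ℂ)) :
    (Nat.card G : ℚ) * ∑ᶠ χ : IrrCharacter G, u χ * v χ * w χ / (f χ : ℚ) =
      (na : ℚ) * (nb : ℚ) * (N : ℚ) := by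
  have h1 := cm_eq a b c ha hb
  rw [hN] at h1
  have h2 : ∀ χ : IrrCharacter G,
      (χ : G → ℂ) a * (χ : G → ℂ) b * conj ((χ : G → ℂ) c) / (χ : G → ℂ) 1 =
        ((u χ * v χ * w χ / (f χ : ℚ) : ℚ) : ℂ) := by
    intro χ
    rw [hu, hv, hw, f1, map_ratCast]
    push_cast
    rfl
  rw [finsum_congr h2, finsum_cast] at h1
  apply Rat.cast_injective (α := ℂ)
  push_cast
  rw [← h1]

/-- the explicit hypotheses version: the counts and the centralizer orders as hypotheses -/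
theorem eqs_aux {x y : G} {f : IrrCharacter G → ℕ} {α β δ : IrrCharacter G → ℤ}
    (hv : Vals G x y f α β δ)
    (hcent : Nat.card (Subgroup.centralizer ({x} : Set G)) = 18 ∧
      Nat.card (Subgroup.centralizer ({y} : Set G)) = 18 ∧
      Nat.card (Subgroup.centralizer ({x * y} : Set G)) = 9)
    (hc0 : Nat.card {p : G × G // IsConj x p.1 ∧ IsConj x p.2 ∧ p.1 * p.2 = y} = 0 ∧
      Nat.card {p : G × G // IsConj x p.1 ∧ IsConj x p.2 ∧ p.1 * p.2 = x * y} = 0 ∧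
      Nat.card {p : G × G // IsConj y p.1 ∧ IsConj y p.2 ∧ p.1 * p.2 = x} = 0 ∧
      Nat.card {p : G × G // IsConj y p.1 ∧ IsConj y p.2 ∧ p.1 * p.2 = x * y} = 0)
    (hc1 : Nat.card {p : G × G // IsConj x p.1 ∧ IsConj y p.2 ∧ p.1 * p.2 = x * y} = 1 ∧
      Nat.card {p : G × G // IsConj x p.1 ∧ IsConj (x * y) p.2 ∧ p.1 * p.2 = x * y} = 1 ∧
      Nat.card {p : G × G // IsConj y p.1 ∧ IsConj (x * y) p.2 ∧ p.1 * p.2 = x * y} = 1) :
    ∑ᶠ χ : IrrCharacter G,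
      ((δ χ : ℚ) + 3 * α χ) ^ 2 * ((δ χ : ℚ) + 3 * β χ) / (f χ : ℚ) = 0 ∧
    ∑ᶠ χ : IrrCharacter G, ((δ χ : ℚ) + 3 * α χ) ^ 2 * (δ χ : ℚ) / (f χ : ℚ) = 0 ∧
    ∑ᶠ χ : IrrCharacter G,
      ((δ χ : ℚ) + 3 * β χ) ^ 2 * ((δ χ : ℚ) + 3 * α χ) / (f χ : ℚ) = 0 ∧
    ∑ᶠ χ : IrrCharacter G, ((δ χ : ℚ) + 3 * β χ) ^ 2 * (δ χ : ℚ) / (f χ : ℚ) = 0 ∧
    (Nat.card G : ℚ) * ∑ᶠ χ : IrrCharacter G,
      ((δ χ : ℚ) + 3 * α χ) * ((δ χ : ℚ) + 3 * β χ) * (δ χ : ℚ) / (f χ : ℚ) = 324 ∧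
    (Nat.card G : ℚ) * ∑ᶠ χ : IrrCharacter G,
      ((δ χ : ℚ) + 3 * α χ) * (δ χ : ℚ) ^ 2 / (f χ : ℚ) = 162 ∧
    (Nat.card G : ℚ) * ∑ᶠ χ : IrrCharacter G,
      ((δ χ : ℚ) + 3 * β χ) * (δ χ : ℚ) ^ 2 / (f χ : ℚ) = 162 := by
  obtain ⟨hcx, hcy, hcxy⟩ := hcent
  have hg : (Nat.card G : ℚ) ≠ 0 := by
    have : Nat.card G ≠ 0 := Nat.card_pos.ne'
    exact_mod_cast this
  have vx : ∀ χ : IrrCharacter G, (χ : G → ℂ) x = (((δ χ : ℚ) + 3 * α χ : ℚ) : ℂ) := by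
    intro χ; rw [hv.vx]; push_cast; rfl
  have vy : ∀ χ : IrrCharacter G, (χ : G → ℂ) y = (((δ χ : ℚ) + 3 * β χ : ℚ) : ℂ) := by
    intro χ; rw [hv.vy]; push_cast; rfl
  have vxy : ∀ χ : IrrCharacter G, (χ : G → ℂ) (x * y) = (((δ χ : ℚ) : ℚ) : ℂ) := by
    intro χ; rw [hv.vxy]; push_cast; rfl
  have E1 := one_eq hcx hcx hc0.1 hv.f1 vx vx vy
  have E2 := one_eq hcx hcx hc0.2.1 hv.f1 vx vx vxy
  have E3 := one_eq hcy hcy hc0.2.2.1 hv.f1 vy vy vx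
  have E4 := one_eq hcy hcy hc0.2.2.2 hv.f1 vy vy vxy
  have E5 := one_eq hcx hcy hc1.1 hv.f1 vx vy vxy
  have E6 := one_eq hcx hcxy hc1.2.1 hv.f1 vx vxy vxy
  have E7 := one_eq hcy hcxy hc1.2.2 hv.f1 vy vxy vxy
  refine ⟨?_, ?_, ?_, ?_, ?_, ?_, ?_⟩
  · have : ∑ᶠ χ : IrrCharacter G,
        ((δ χ : ℚ) + 3 * α χ) * ((δ χ : ℚ) + 3 * α χ) * ((δ χ : ℚ) + 3 * β χ) / (f χ : ℚ) = 0 := by
      have h0 := E1
      rw [Nat.cast_zero, mul_zero] at h0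
      exact (mul_eq_zero.mp h0).resolve_left hg
    rw [← this]
    exact finsum_congr fun χ => by rw [pow_two]
  · have : ∑ᶠ χ : IrrCharacter G,
        ((δ χ : ℚ) + 3 * α χ) * ((δ χ : ℚ) + 3 * α χ) * (δ χ : ℚ) / (f χ : ℚ) = 0 := by
      have h0 := E2
      rw [Nat.cast_zero, mul_zero] at h0
      exact (mul_eq_zero.mp h0).resolve_left hg
    rw [← this]
    exact finsum_congr fun χ => by rw [pow_two]
  · have : ∑ᶠ χ : IrrCharacter G,
        ((δ χ : ℚ) + 3 * β χ) * ((δ χ : ℚ) + 3 * β χ) * ((δ χ : ℚ) + 3 * α χ) / (f χ : ℚ) = 0 := by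
      have h0 := E3
      rw [Nat.cast_zero, mul_zero] at h0
      exact (mul_eq_zero.mp h0).resolve_left hg
    rw [← this]
    exact finsum_congr fun χ => by rw [pow_two]
  · have : ∑ᶠ χ : IrrCharacter G,
        ((δ χ : ℚ) + 3 * β χ) * ((δ χ : ℚ) + 3 * β χ) * (δ χ : ℚ) / (f χ : ℚ) = 0 := by
      have h0 := E4
      rw [Nat.cast_zero, mul_zero] at h0
      exact (mul_eq_zero.mp h0).resolve_left hg
    rw [← this]
    exact finsum_congr fun χ => by rw [pow_two]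
  · rw [E5]; push_cast; norm_num
  · have : ∑ᶠ χ : IrrCharacter G, ((δ χ : ℚ) + 3 * α χ) * (δ χ : ℚ) ^ 2 / (f χ : ℚ) =
        ∑ᶠ χ : IrrCharacter G, ((δ χ : ℚ) + 3 * α χ) * (δ χ : ℚ) * (δ χ : ℚ) / (f χ : ℚ) :=
      finsum_congr fun χ => by rw [pow_two, mul_assoc]
    rw [this, E6]; push_cast; norm_num
  · have : ∑ᶠ χ : IrrCharacter G, ((δ χ : ℚ) + 3 * β χ) * (δ χ : ℚ) ^ 2 / (f χ : ℚ) =
        ∑ᶠ χ : IrrCharacter G, ((δ χ : ℚ) + 3 * β χ) * (δ χ : ℚ) * (δ χ : ℚ) / (f χ : ℚ) :=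
      finsum_congr fun χ => by rw [pow_two, mul_assoc]
    rw [this, E7]; push_cast; norm_num

end Cfsg.Agent.Lib.Helper73_H9_EQS
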