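import Mathlib
import Cfsg.Prelude.Def_Characters
import Cfsg.Agent.Lib.Helper80_CharBasic
import Cfsg.Agent.Lib.Helper17_H9Defs

/-!
# S3805 package PLIN (architect helper17): pure linear combination of the seven class-constant equations.
-/

set_option autoImplicit false
open scoped ComplexConjugate

namespace Cfsg.Agent.Lib.Helper91_H9_PLIN

open Cfsg Cfsg.Agent.Lib.Helper80_CharBasic Cfsg.Agent.Lib.Helper17_H9Defs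

theorem pure_lin {I : Type*} [Fintype I] (f : I → ℕ) (g : ℚ) (hg : g ≠ 0) (α β δ : I → ℤ)
    (E1 : ∑ i, ((δ i : ℚ) + 3 * α i) ^ 2 * ((δ i : ℚ) + 3 * β i) / (f i : ℚ) = 0)
    (E2 : ∑ i, ((δ i : ℚ) + 3 * α i) ^ 2 * (δ i : ℚ) / (f i : ℚ) = 0)
    (E3 : ∑ i, ((δ i : ℚ) + 3 * β i) ^ 2 * ((δ i : ℚ) + 3 * α i) / (f i : ℚ) = 0)
    (E4 : ∑ i, ((δ i : ℚ) + 3 * β i) ^ 2 * (δ i : ℚ) / (f i : ℚ) = 0)
    (E5 : g * ∑ i, ((δ i : ℚ) + 3 * α i) * ((δ i : ℚ) + 3 * β i) * (δ i : ℚ) / (f i : ℚ) = 324)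
    (E6 : g * ∑ i, ((δ i : ℚ) + 3 * α i) * (δ i : ℚ) ^ 2 / (f i : ℚ) = 162)
    (E7 : g * ∑ i, ((δ i : ℚ) + 3 * β i) * (δ i : ℚ) ^ 2 / (f i : ℚ) = 162) :
    ∑ i, (α i : ℚ) * β i * ((α i : ℚ) - β i) / (f i : ℚ) = 0 ∧
    g * ∑ i, (α i : ℚ) * β i * (3 * (α i : ℚ) + δ i) / (f i : ℚ) = -18 := by
  set S1 := ∑ i, ((δ i : ℚ) + 3 * α i) ^ 2 * ((δ i : ℚ) + 3 * β i) / (f i : ℚ) with hS1
  set S2 := ∑ i, ((δ i : ℚ) + 3 * α i) ^ 2 * (δ i : ℚ) / (f i : ℚ) with hS2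
  set S3 := ∑ i, ((δ i : ℚ) + 3 * β i) ^ 2 * ((δ i : ℚ) + 3 * α i) / (f i : ℚ) with hS3
  set S4 := ∑ i, ((δ i : ℚ) + 3 * β i) ^ 2 * (δ i : ℚ) / (f i : ℚ) with hS4
  set S5 := ∑ i, ((δ i : ℚ) + 3 * α i) * ((δ i : ℚ) + 3 * β i) * (δ i : ℚ) / (f i : ℚ) with hS5
  set S6 := ∑ i, ((δ i : ℚ) + 3 * α i) * (δ i : ℚ) ^ 2 / (f i : ℚ) with hS6
  set S7 := ∑ i, ((δ i : ℚ) + 3 * β i) * (δ i : ℚ) ^ 2 / (f i : ℚ) with hS7
  have h1 : ∑ i, (α i : ℚ) * β i * ((α i : ℚ) - β i) / (f i : ℚ)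
      = (1 / 27) * (S1 - S3 - S2 + S4 + S6 - S7) := by
    rw [hS1, hS2, hS3, hS4, hS6, hS7, ← Finset.sum_sub_distrib, ← Finset.sum_sub_distrib,
      ← Finset.sum_add_distrib, ← Finset.sum_add_distrib, ← Finset.sum_sub_distrib,
      Finset.mul_sum]
    refine Finset.sum_congr rfl (fun i _ => ?_)
    ring
  have h2 : ∑ i, (α i : ℚ) * β i * (3 * (α i : ℚ) + δ i) / (f i : ℚ)
      = (1 / 9) * (S1 - S2 - S5 + S6) := by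
    rw [hS1, hS2, hS5, hS6, ← Finset.sum_sub_distrib, ← Finset.sum_sub_distrib,
      ← Finset.sum_add_distrib, Finset.mul_sum]
    refine Finset.sum_congr rfl (fun i _ => ?_)
    ring
  have h67 : S6 - S7 = 0 := by
    have : g * (S6 - S7) = 0 := by rw [mul_sub, E6, E7]; ring
    rcases mul_eq_zero.mp this with h | h
    · exact absurd h hg
    · exact h
  refine ⟨?_, ?_⟩
  · rw [h1, E1, E2, E3, E4]
    have : (0 : ℚ) - 0 - 0 + 0 + S6 - S7 = S6 - S7 := by ring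
    rw [this, h67]; ring
  · rw [h2, E1, E2]
    have : g * (1 / 9 * ((0 : ℚ) - 0 - S5 + S6)) = (1 / 9) * (g * S6 - g * S5) := by ring
    rw [this, E5, E6]; norm_num

end Cfsg.Agent.Lib.Helper91_H9_PLIN
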