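import Mathlib
import Cfsg.Prelude.Def_Characters
import Cfsg.Agent.Lib.Helper80_CharBasic
import Cfsg.Agent.Lib.Helper80_CharComplete
import Cfsg.Agent.Lib.Helper30_SelfCent3
import Cfsg.Agent.Lib.Helper17_H9Defs
import Cfsg.Agent.Lib.Helper91_H9_BASIC
import Cfsg.Agent.Lib.Helper24_H9_CENT

/-!
# S3805 package GRAM (helper98 for helper17): the Gram data of the integer vectors `α, β, δ` attached to the
values of the irreducible characters on the three classes of 3-elements.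

`gram_aux` takes the needed consequences of the packages FUS and CENT as explicit hypotheses.
-/

set_option autoImplicit false
set_option linter.unusedSectionVars false
set_option linter.unusedSimpArgs false
open scoped ComplexConjugate

namespace Cfsg.Agent.Lib.Helper98_H9_GRAM

open Cfsg Cfsg.Agent.Lib.Helper80_CharBasic Cfsg.Agent.Lib.Helper17_H9Defs

section grp
variable {G : Type*} [Group G] [Finite G] {T : Subgroup G} {x y i j : G}

theorem gram_aux (h : Hyp G T x y i j)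
    (hrx : IsConj x x⁻¹) (hry : IsConj y y⁻¹) (hrxy : IsConj (x * y) (x * y)⁻¹)
    (hnc : ¬ IsConj x y ∧ ¬ IsConj x (x * y) ∧ ¬ IsConj y (x * y))
    (hcent : Nat.card (Subgroup.centralizer ({x} : Set G)) = 18 ∧
      Nat.card (Subgroup.centralizer ({y} : Set G)) = 18 ∧
      Nat.card (Subgroup.centralizer ({x * y} : Set G)) = 9) :
    ∃ (f : IrrCharacter G → ℕ) (α β δ : IrrCharacter G → ℤ), Vals G x y f α β δ ∧
      α (oneIrr G) = 0 ∧ β (oneIrr G) = 0 ∧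
      ∑ᶠ χ : IrrCharacter G, α χ ^ 2 = 3 ∧ ∑ᶠ χ : IrrCharacter G, β χ ^ 2 = 3 ∧
      ∑ᶠ χ : IrrCharacter G, α χ * β χ = 1 ∧ ∑ᶠ χ : IrrCharacter G, δ χ ^ 2 = 9 ∧
      ∑ᶠ χ : IrrCharacter G, f χ ^ 2 = Nat.card G := by
  classical
  have := Fintype.ofFinite G
  let _ : Fintype (IrrCharacter G) := Fintype.ofFinite _
  have hx3 : x ^ 3 = 1 := by rw [← h.ox]; exact pow_orderOf_eq_one x
  have hy3 : y ^ 3 = 1 := by rw [← h.oy]; exact pow_orderOf_eq_one y
  have hxy3 : (x * y) ^ 3 = 1 := by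
    rw [(show Commute x y from h.comm).mul_pow, hx3, hy3, mul_one]
  have hxy1 : x * y ≠ 1 := fun e => h.hne' (eq_inv_of_mul_eq_one_right e)
  have ho_xy : orderOf (x * y) = 3 := orderOf_eq_prime hxy3 hxy1
  -- integrality
  have hex : ∀ χ : IrrCharacter G, ∃ (d : ℕ) (a b c : ℤ), 0 < d ∧ (χ : G → ℂ) 1 = (d : ℂ) ∧
      (χ : G → ℂ) x = (c : ℂ) + 3 * (a : ℂ) ∧ (χ : G → ℂ) y = (c : ℂ) + 3 * (b : ℂ) ∧
      (χ : G → ℂ) (x * y) = (c : ℂ) := by
    intro χ
    have hχ : IsCharacter G (χ : G → ℂ) :=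
      Cfsg.Agent.Lib.Helper3_CharBridge.isCharacter_of_isIrrCharacter χ.2
    obtain ⟨n1, d1, hn1, hd1, hdn1⟩ := Cfsg.Agent.Lib.Helper30_SelfCent3.value_at_three hχ h.ox hrx
    obtain ⟨n2, d2, hn2, hd2, hdn2⟩ := Cfsg.Agent.Lib.Helper30_SelfCent3.value_at_three hχ h.oy hry
    obtain ⟨n3, d3, hn3, hd3, hdn3⟩ :=
      Cfsg.Agent.Lib.Helper30_SelfCent3.value_at_three hχ ho_xy hrxy
    have hd12 : d2 = d1 := by
      have : (d2 : ℂ) = (d1 : ℂ) := by rw [← hd1, ← hd2]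
      exact_mod_cast this
    have hd13 : d3 = d1 := by
      have : (d3 : ℂ) = (d1 : ℂ) := by rw [← hd1, ← hd3]
      exact_mod_cast this
    subst hd12
    subst hd13
    obtain ⟨k1, hk1⟩ : (3 : ℤ) ∣ n1 - n3 := by
      have := dvd_sub hdn3 hdn1
      have e : (d3 : ℤ) - n3 - ((d3 : ℤ) - n1) = n1 - n3 := by ring
      rwa [e] at this
    obtain ⟨k2, hk2⟩ : (3 : ℤ) ∣ n2 - n3 := by
      have := dvd_sub hdn3 hdn2
      have e : (d3 : ℤ) - n3 - ((d3 : ℤ) - n2) = n2 - n3 := by ring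
      rwa [e] at this
    obtain ⟨m, hm, hm1⟩ := irr_apply_one χ
    have hmd : m = d3 := by
      have : (m : ℂ) = (d3 : ℂ) := by rw [← hm1, ← hd1]
      exact_mod_cast this
    refine ⟨d3, k1, k2, n3, hmd ▸ hm, hd1, ?_, ?_, hn3⟩
    · rw [hn1]
      have : n1 = n3 + 3 * k1 := by linarith
      rw [this]
      push_cast
      ring
    · rw [hn2]
      have : n2 = n3 + 3 * k2 := by linarith
      rw [this]
      push_cast
      ring
  choose f α β δ hf hf1 hvx hvy hvxy using hex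
  have hvals : Vals G x y f α β δ := ⟨hf, hf1, hvx, hvy, hvxy⟩
  have hvx' : ∀ χ : IrrCharacter G, (χ : G → ℂ) x = ((δ χ + 3 * α χ : ℤ) : ℂ) := by
    intro χ
    rw [hvx χ]
    push_cast
    ring
  have hvy' : ∀ χ : IrrCharacter G, (χ : G → ℂ) y = ((δ χ + 3 * β χ : ℤ) : ℂ) := by
    intro χ
    rw [hvy χ]
    push_cast
    ring
  have hvxy' : ∀ χ : IrrCharacter G, (χ : G → ℂ) (x * y) = ((δ χ : ℤ) : ℂ) := hvxy
  -- the principal character
  have hone : α (oneIrr G) = 0 ∧ β (oneIrr G) = 0 := by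
    have h1 := hvx' (oneIrr G)
    have h2 := hvy' (oneIrr G)
    have h3 := hvxy' (oneIrr G)
    have e1 : ((oneIrr G : IrrCharacter G) : G → ℂ) x = 1 := rfl
    have e2 : ((oneIrr G : IrrCharacter G) : G → ℂ) y = 1 := rfl
    have e3 : ((oneIrr G : IrrCharacter G) : G → ℂ) (x * y) = 1 := rfl
    rw [e1] at h1
    rw [e2] at h2
    rw [e3] at h3
    have h1' : (1 : ℤ) = δ (oneIrr G) + 3 * α (oneIrr G) := by exact_mod_cast h1
    have h2' : (1 : ℤ) = δ (oneIrr G) + 3 * β (oneIrr G) := by exact_mod_cast h2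
    have h3' : (1 : ℤ) = δ (oneIrr G) := by exact_mod_cast h3
    constructor <;> omega
  -- second orthogonality
  have o_xx := Cfsg.Agent.Lib.Helper80_CharComplete.second_orthogonality_sum x x
  have o_yy := Cfsg.Agent.Lib.Helper80_CharComplete.second_orthogonality_sum y y
  have o_dd := Cfsg.Agent.Lib.Helper80_CharComplete.second_orthogonality_sum (x * y) (x * y)
  have o_xy := Cfsg.Agent.Lib.Helper80_CharComplete.second_orthogonality_sum x y
  have o_xd := Cfsg.Agent.Lib.Helper80_CharComplete.second_orthogonality_sum x (x * y)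
  have o_yd := Cfsg.Agent.Lib.Helper80_CharComplete.second_orthogonality_sum y (x * y)
  rw [if_pos (IsConj.refl _), hcent.1] at o_xx
  rw [if_pos (IsConj.refl _), hcent.2.1] at o_yy
  rw [if_pos (IsConj.refl _), hcent.2.2] at o_dd
  rw [if_neg hnc.1] at o_xy
  rw [if_neg hnc.2.1] at o_xd
  rw [if_neg hnc.2.2] at o_yd
  simp only [hvx', hvy', hvxy', map_intCast] at o_xx o_yy o_dd o_xy o_xd o_yd
  have i_xx : ∑ χ : IrrCharacter G, (δ χ + 3 * α χ) * (δ χ + 3 * α χ) = 18 := by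
    exact_mod_cast o_xx
  have i_yy : ∑ χ : IrrCharacter G, (δ χ + 3 * β χ) * (δ χ + 3 * β χ) = 18 := by
    exact_mod_cast o_yy
  have i_dd : ∑ χ : IrrCharacter G, δ χ * δ χ = 9 := by exact_mod_cast o_dd
  have i_xy : ∑ χ : IrrCharacter G, (δ χ + 3 * α χ) * (δ χ + 3 * β χ) = 0 := by
    exact_mod_cast o_xy
  have i_xd : ∑ χ : IrrCharacter G, (δ χ + 3 * α χ) * δ χ = 0 := by exact_mod_cast o_xd
  have i_yd : ∑ χ : IrrCharacter G, (δ χ + 3 * β χ) * δ χ = 0 := by exact_mod_cast o_yd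
  -- expand
  have e_xx : ∑ χ : IrrCharacter G, (δ χ + 3 * α χ) * (δ χ + 3 * α χ)
      = ∑ χ : IrrCharacter G, δ χ ^ 2 + 6 * ∑ χ : IrrCharacter G, α χ * δ χ
        + 9 * ∑ χ : IrrCharacter G, α χ ^ 2 := by
    rw [Finset.mul_sum, Finset.mul_sum, ← Finset.sum_add_distrib, ← Finset.sum_add_distrib]
    exact Finset.sum_congr rfl (fun χ _ => by ring)
  have e_yy : ∑ χ : IrrCharacter G, (δ χ + 3 * β χ) * (δ χ + 3 * β χ)
      = ∑ χ : IrrCharacter G, δ χ ^ 2 + 6 * ∑ χ : IrrCharacter G, β χ * δ χ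
        + 9 * ∑ χ : IrrCharacter G, β χ ^ 2 := by
    rw [Finset.mul_sum, Finset.mul_sum, ← Finset.sum_add_distrib, ← Finset.sum_add_distrib]
    exact Finset.sum_congr rfl (fun χ _ => by ring)
  have e_dd : ∑ χ : IrrCharacter G, δ χ * δ χ = ∑ χ : IrrCharacter G, δ χ ^ 2 :=
    Finset.sum_congr rfl (fun χ _ => by ring)
  have e_xy : ∑ χ : IrrCharacter G, (δ χ + 3 * α χ) * (δ χ + 3 * β χ)
      = ∑ χ : IrrCharacter G, δ χ ^ 2 + 3 * ∑ χ : IrrCharacter G, α χ * δ χ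
        + 3 * ∑ χ : IrrCharacter G, β χ * δ χ + 9 * ∑ χ : IrrCharacter G, α χ * β χ := by
    rw [Finset.mul_sum, Finset.mul_sum, Finset.mul_sum, ← Finset.sum_add_distrib,
      ← Finset.sum_add_distrib, ← Finset.sum_add_distrib]
    exact Finset.sum_congr rfl (fun χ _ => by ring)
  have e_xd : ∑ χ : IrrCharacter G, (δ χ + 3 * α χ) * δ χ
      = ∑ χ : IrrCharacter G, δ χ ^ 2 + 3 * ∑ χ : IrrCharacter G, α χ * δ χ := by
    rw [Finset.mul_sum, ← Finset.sum_add_distrib]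
    exact Finset.sum_congr rfl (fun χ _ => by ring)
  have e_yd : ∑ χ : IrrCharacter G, (δ χ + 3 * β χ) * δ χ
      = ∑ χ : IrrCharacter G, δ χ ^ 2 + 3 * ∑ χ : IrrCharacter G, β χ * δ χ := by
    rw [Finset.mul_sum, ← Finset.sum_add_distrib]
    exact Finset.sum_congr rfl (fun χ _ => by ring)
  rw [e_xx] at i_xx
  rw [e_yy] at i_yy
  rw [e_dd] at i_dd
  rw [e_xy] at i_xy
  rw [e_xd] at i_xd
  rw [e_yd] at i_yd
  have hA : ∑ χ : IrrCharacter G, α χ ^ 2 = 3 := by linarith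
  have hB : ∑ χ : IrrCharacter G, β χ ^ 2 = 3 := by linarith
  have hC : ∑ χ : IrrCharacter G, α χ * β χ = 1 := by linarith
  -- degrees
  have hsq := Cfsg.Agent.Lib.Helper80_CharComplete.sum_sq_degrees (G := G)
  rw [finsum_eq_sum_of_fintype] at hsq
  simp only [hf1] at hsq
  have hF : ∑ χ : IrrCharacter G, f χ ^ 2 = Nat.card G := by exact_mod_cast hsq
  refine ⟨f, α, β, δ, hvals, hone.1, hone.2, ?_, ?_, ?_, ?_, ?_⟩
  · rw [finsum_eq_sum_of_fintype]; exact hA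
  · rw [finsum_eq_sum_of_fintype]; exact hB
  · rw [finsum_eq_sum_of_fintype]; exact hC
  · rw [finsum_eq_sum_of_fintype]; exact i_dd
  · rw [finsum_eq_sum_of_fintype]; exact hF

theorem real_x (h : Hyp G T x y i j) : IsConj x x⁻¹ :=
  isConj_iff.mpr ⟨i, h.ix⟩

theorem real_y (h : Hyp G T x y i j) : IsConj y y⁻¹ :=
  isConj_iff.mpr ⟨j, h.jy⟩

theorem real_xy (h : Hyp G T x y i j) : IsConj (x * y) (x * y)⁻¹ := by
  refine isConj_iff.mpr ⟨i * j, ?_⟩
  have e1 : i * j * (x * y) * (i * j)⁻¹ = i * (j * x * j⁻¹) * i⁻¹ * (i * (j * y * j⁻¹) * i⁻¹) := by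
    group
  rw [e1, h.jx, h.jy, h.ix]
  have e2 : i * y⁻¹ * i⁻¹ = (i * y * i⁻¹)⁻¹ := by group
  rw [e2, h.iy, h.comm, mul_inv_rev]

/-- `x`, `y`, `x * y` are pairwise non-conjugate (the statement `not_conj` of the package FUS, proved here directly
from `fusion` and `Hyp.act`) -/
theorem not_conj' (h : Hyp G T x y i j) :
    ¬ IsConj x y ∧ ¬ IsConj x (x * y) ∧ ¬ IsConj y (x * y) := by
  have hx3 : x ^ 3 = 1 := by rw [← h.ox]; exact pow_orderOf_eq_one x
  have hy3 : y ^ 3 = 1 := by rw [← h.oy]; exact pow_orderOf_eq_one y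
  have hx1 : x ≠ 1 := Cfsg.Agent.Lib.Helper24_H9_CENT.ne_one_of_orderOf_three h.ox
  have hy1 : y ≠ 1 := Cfsg.Agent.Lib.Helper24_H9_CENT.ne_one_of_orderOf_three h.oy
  have hxT := Cfsg.Agent.Lib.Helper24_H9_CENT.x_mem h
  have hyT := Cfsg.Agent.Lib.Helper24_H9_CENT.y_mem h
  have hxyT := Cfsg.Agent.Lib.Helper24_H9_CENT.xy_mem h
  have hxx : x⁻¹ * x⁻¹ = x := by
    calc x⁻¹ * x⁻¹ = x⁻¹ * x⁻¹ * x ^ 3 := by rw [hx3, mul_one]
      _ = x := by group
  have hyy : y⁻¹ * y⁻¹ = y := by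
    calc y⁻¹ * y⁻¹ = y⁻¹ * y⁻¹ * y ^ 3 := by rw [hy3, mul_one]
      _ = y := by group
  refine ⟨?_, ?_, ?_⟩
  · intro hc
    obtain ⟨g, hg⟩ := isConj_iff.mp hc
    have hgN := Cfsg.Agent.Lib.Helper91_H9_BASIC.fusion h hxT hx1 (hg ▸ hyT)
    rcases (h.act g hgN).1 with e | e
    · exact h.hne (hg.symm.trans e)
    · exact h.hne' (hg.symm.trans e)
  · intro hc
    obtain ⟨g, hg⟩ := isConj_iff.mp hc
    have hgN := Cfsg.Agent.Lib.Helper91_H9_BASIC.fusion h hxT hx1 (hg ▸ hxyT)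
    rcases (h.act g hgN).1 with e | e
    · exact hy1 (mul_eq_left.mp (hg.symm.trans e))
    · apply h.hne
      have e' : x * y = x⁻¹ := hg.symm.trans e
      calc y = x⁻¹ * (x * y) := by group
        _ = x⁻¹ * x⁻¹ := by rw [e']
        _ = x := hxx
  · intro hc
    obtain ⟨g, hg⟩ := isConj_iff.mp hc
    have hgN := Cfsg.Agent.Lib.Helper91_H9_BASIC.fusion h hyT hy1 (hg ▸ hxyT)
    rcases (h.act g hgN).2 with e | e
    · exact hx1 (mul_eq_right.mp (hg.symm.trans e))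
    · apply h.hne
      have e' : x * y = y⁻¹ := hg.symm.trans e
      have : x = y := by
        calc x = x * y * y⁻¹ := by group
          _ = y⁻¹ * y⁻¹ := by rw [e']
          _ = y := hyy
      exact this.symm

/-- package GRAM, verbatim -/
theorem gram (h : Hyp G T x y i j) :
    ∃ (f : IrrCharacter G → ℕ) (α β δ : IrrCharacter G → ℤ), Vals G x y f α β δ ∧
      α (oneIrr G) = 0 ∧ β (oneIrr G) = 0 ∧
      ∑ᶠ χ : IrrCharacter G, α χ ^ 2 = 3 ∧ ∑ᶠ χ : IrrCharacter G, β χ ^ 2 = 3 ∧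
      ∑ᶠ χ : IrrCharacter G, α χ * β χ = 1 ∧ ∑ᶠ χ : IrrCharacter G, δ χ ^ 2 = 9 ∧
      ∑ᶠ χ : IrrCharacter G, f χ ^ 2 = Nat.card G :=
  gram_aux h (real_x h) (real_y h) (real_xy h) (not_conj' h)
    (Cfsg.Agent.Lib.Helper24_H9_CENT.card_cent h)

end grp

end Cfsg.Agent.Lib.Helper98_H9_GRAM
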