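import Mathlib
import Cfsg.Agent.Lib.Helper6_S6Defs
import Cfsg.Agent.S3805

set_option autoImplicit false
set_option linter.unusedVariables false
set_option linter.unusedSectionVars false

/-!
Package `CASEKLEIN` of helper6's market `s6_packages` (S3333), helper17: the Klein four case is
impossible.  Here with the conclusions of the packages `ELEM` and `TRANS` as hypotheses; the verbatim
statement is in `Helper17_S6_CASEKLEIN`.
-/

namespace Cfsg.Agent.Lib.Helper17_S6_CASEKLEINaux

open Cfsg.Agent.Lib.Helper6_S6Defs Equiv Equiv.Perm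

variable {G : Type*} [Group G] [Finite G] {S : Subgroup G}

theorem case_klein_of (D : Setup G S) (L : Subgroup G) [L.Normal] (hSL : S ≤ L)
    (hs : IsSimpleGroup ↥L)
    (h36 : Nat.card ↥(Subgroup.normalizer (S : Set G) ⊓ L) = 36)
    (hsq : ∀ n ∈ Subgroup.normalizer (S : Set G) ⊓ L, n ^ 2 ∈ S)
    (hel : (∀ a ∈ S, ∀ b ∈ S, a * b = b * a) ∧ (∀ a ∈ S, a ^ 3 = 1))
    (htr : (∃ P : Sylow 3 ↥L, S.subgroupOf L = P) ∧ Nat.card ↥(S.subgroupOf L) = 9 ∧
      Subgroup.centralizer ((S.subgroupOf L : Subgroup ↥L) : Set ↥L) = S.subgroupOf L ∧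
      Subgroup.normalizer ((S.subgroupOf L : Subgroup ↥L) : Set ↥L) =
        (Subgroup.normalizer (S : Set G)).subgroupOf L ∧
      (∀ t ∈ S.subgroupOf L, t ≠ 1 → Subgroup.centralizer ({t} : Set ↥L) ≤
        Subgroup.normalizer ((S.subgroupOf L : Subgroup ↥L) : Set ↥L))) : False := by
  obtain ⟨⟨P, hP⟩, hcard, hC, hN, hloc⟩ := htr
  obtain ⟨hcomm, hexp⟩ := hel
  rw [hP] at hcard hC hN hloc
  have hmemP : ∀ l : ↥L, l ∈ (P : Subgroup ↥L) ↔ (l : G) ∈ S := by
    intro l
    have : l ∈ S.subgroupOf L ↔ (l : G) ∈ S := Subgroup.mem_subgroupOf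
    rw [hP] at this
    exact this
  -- elementary abelian
  have hT : Cfsg.IsElementaryAbelian 3 (P : Subgroup ↥L) := by
    constructor
    · refine ⟨⟨fun a b => ?_⟩⟩
      have ha : ((a : ↥L) : G) ∈ S := (hmemP _).mp a.2
      have hb : ((b : ↥L) : G) ∈ S := (hmemP _).mp b.2
      apply Subtype.ext
      apply Subtype.ext
      exact hcomm _ ha _ hb
    · intro a ha
      have ha' : ((a : ↥L) : G) ∈ S := (hmemP _).mp ha
      apply Subtype.ext
      exact hexp _ ha'
  -- the order of the normalizer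
  have hNcard : Nat.card ↥(Subgroup.normalizer ((P : Subgroup ↥L) : Set ↥L)) = 36 := by
    rw [hN, ← Subgroup.inf_subgroupOf_right, ← h36]
    exact Nat.card_congr (Subgroup.subgroupOfEquivOfLe inf_le_right).toEquiv
  have hPN : Nat.card ↥((P : Subgroup ↥L).subgroupOf
      (Subgroup.normalizer ((P : Subgroup ↥L) : Set ↥L))) = 9 := by
    rw [← hcard]
    exact Nat.card_congr (Subgroup.subgroupOfEquivOfLe Subgroup.le_normalizer).toEquiv
  have hK : IsKleinFour (↥(Subgroup.normalizer ((P : Subgroup ↥L) : Set ↥L)) ⧸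
      (P : Subgroup ↥L).subgroupOf (Subgroup.normalizer ((P : Subgroup ↥L) : Set ↥L))) := by
    have h4 : Nat.card (↥(Subgroup.normalizer ((P : Subgroup ↥L) : Set ↥L)) ⧸
        (P : Subgroup ↥L).subgroupOf (Subgroup.normalizer ((P : Subgroup ↥L) : Set ↥L))) = 4 := by
      have := Subgroup.card_eq_card_quotient_mul_card_subgroup
        ((P : Subgroup ↥L).subgroupOf (Subgroup.normalizer ((P : Subgroup ↥L) : Set ↥L)))
      rw [hNcard, hPN] at this
      omega
    refine ⟨h4, ?_⟩
    have hdvd : Monoid.exponent (↥(Subgroup.normalizer ((P : Subgroup ↥L) : Set ↥L)) ⧸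
        (P : Subgroup ↥L).subgroupOf (Subgroup.normalizer ((P : Subgroup ↥L) : Set ↥L))) ∣ 2 := by
      apply Monoid.exponent_dvd_of_forall_pow_eq_one
      intro q
      induction q using QuotientGroup.induction_on with
      | H n =>
        rw [← QuotientGroup.mk_pow, QuotientGroup.eq_one_iff, Subgroup.mem_subgroupOf]
        have hn : (n : ↥L) ∈ (Subgroup.normalizer (S : Set G)).subgroupOf L := by
          rw [← hN]
          exact n.2
        have hn' : (((n : ↥L) : G)) ∈ Subgroup.normalizer (S : Set G) ⊓ L :=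
          ⟨Subgroup.mem_subgroupOf.mp hn, (n : ↥L).2⟩
        have := hsq _ hn'
        rw [hmemP]
        simpa using this
    rcases (Nat.dvd_prime Nat.prime_two).mp hdvd with h1 | h2
    · exfalso
      rw [Monoid.exp_eq_one_iff] at h1
      have := Nat.card_eq_one_iff_unique.mpr ⟨h1, ⟨1⟩⟩
      omega
    · exact h2
  have htop := Cfsg.Agent.S3805.result P hT hcard hC hK hloc
  -- `P` is normal in the simple group `L`
  have hnorm : (P : Subgroup ↥L).Normal := Subgroup.normalizer_eq_top_iff.mp htop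
  have hL36 : Nat.card ↥L = 36 := by
    rw [← hNcard, htop]
    exact (Nat.card_congr Subgroup.topEquiv.toEquiv).symm
  rcases hs.eq_bot_or_eq_top_of_normal (P : Subgroup ↥L) hnorm with hb | ht
  · rw [hb, Subgroup.card_bot] at hcard
    omega
  · rw [ht] at hcard
    have : Nat.card ↥(⊤ : Subgroup ↥L) = Nat.card ↥L := Nat.card_congr Subgroup.topEquiv.toEquiv
    omega

end Cfsg.Agent.Lib.Helper17_S6_CASEKLEINaux
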