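import Mathlib
import Cfsg.Agent.Lib.Helper6_S6Defs

/-!
# S3333 market (helper6), package ELEM (helper31): `S` is elementary abelian of order 9
-/

set_option autoImplicit false
set_option linter.unusedSectionVars false

namespace Cfsg.Agent.Lib.Helper31_S6_ELEM

open Cfsg.Agent.Lib.Helper6_S6Defs Equiv Equiv.Perm

variable {G : Type*} [Group G] [Finite G] {S : Subgroup G}

/-- `S` is abelian -/
theorem h31_comm (D : Setup G S) : ∀ a ∈ S, ∀ b ∈ S, a * b = b * a := by
  have : Fact (Nat.Prime 3) := ⟨by norm_num⟩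
  have hcard : Nat.card S = 3 ^ 2 := by rw [D.card]; norm_num
  have hc := (IsPGroup.isMulCommutative_of_card_eq_prime_sq hcard).is_comm.comm
  intro a ha b hb
  exact congrArg Subtype.val (hc ⟨a, ha⟩ ⟨b, hb⟩)

/-- if `S` is generated by `a`, the images of `N_G(S)` in `D8` commute: contradiction -/
theorem h31_not_cyclic (D : Setup G S) (a : G) (ha : a ∈ S)
    (hgen : ∀ x ∈ S, x ∈ Subgroup.zpowers a) : False := by
  -- conjugation by `n ∈ N` maps `a` to a power of `a`
  have hpow : ∀ n : ↥(Subgroup.normalizer (S : Set G)), ∃ k : ℤ, (n : G) * a * (n : G)⁻¹ = a ^ k := by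
    intro n
    have h1 : (n : G) * a * (n : G)⁻¹ ∈ S := (Subgroup.mem_normalizer_iff.mp n.2 a).mp ha
    obtain ⟨k, hk⟩ := Subgroup.mem_zpowers_iff.mp (hgen _ h1)
    exact ⟨k, hk.symm⟩
  -- hence the images commute
  have hcomm : ∀ n m : ↥(Subgroup.normalizer (S : Set G)), D.π (n * m) = D.π (m * n) := by
    intro n m
    obtain ⟨k, hk⟩ := hpow n
    obtain ⟨l, hl⟩ := hpow m
    have e1 : ((n * m : ↥(Subgroup.normalizer (S : Set G))) : G) * a *
        ((n * m : ↥(Subgroup.normalizer (S : Set G))) : G)⁻¹ = a ^ (k * l) := by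
      have : ((n * m : ↥(Subgroup.normalizer (S : Set G))) : G) * a *
          ((n * m : ↥(Subgroup.normalizer (S : Set G))) : G)⁻¹ =
          (n : G) * ((m : G) * a * (m : G)⁻¹) * (n : G)⁻¹ := by
        rw [Subgroup.coe_mul]; group
      rw [this, hl, ← conj_zpow, hk, ← zpow_mul]
    have e2 : ((m * n : ↥(Subgroup.normalizer (S : Set G))) : G) * a *
        ((m * n : ↥(Subgroup.normalizer (S : Set G))) : G)⁻¹ = a ^ (k * l) := by
      have : ((m * n : ↥(Subgroup.normalizer (S : Set G))) : G) * a *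
          ((m * n : ↥(Subgroup.normalizer (S : Set G))) : G)⁻¹ =
          (m : G) * ((n : G) * a * (n : G)⁻¹) * (m : G)⁻¹ := by
        rw [Subgroup.coe_mul]; group
      rw [this, hk, ← conj_zpow, hl, ← zpow_mul, mul_comm]
    -- `c := (m n)⁻¹ (n m)` commutes with `a`, hence centralizes `S`
    set c : ↥(Subgroup.normalizer (S : Set G)) := (m * n)⁻¹ * (n * m) with hc
    have hca : (c : G) * a = a * (c : G) := by
      have h3 : ((n * m : ↥(Subgroup.normalizer (S : Set G))) : G) * a *
          ((n * m : ↥(Subgroup.normalizer (S : Set G))) : G)⁻¹ =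
          ((m * n : ↥(Subgroup.normalizer (S : Set G))) : G) * a *
          ((m * n : ↥(Subgroup.normalizer (S : Set G))) : G)⁻¹ := by rw [e1, e2]
      have h4 : (c : G) = ((m * n : ↥(Subgroup.normalizer (S : Set G))) : G)⁻¹ *
          ((n * m : ↥(Subgroup.normalizer (S : Set G))) : G) := by
        rw [hc, Subgroup.coe_mul, Subgroup.coe_inv]
      rw [h4]
      generalize ((n * m : ↥(Subgroup.normalizer (S : Set G))) : G) = p at h3 ⊢
      generalize ((m * n : ↥(Subgroup.normalizer (S : Set G))) : G) = q at h3 ⊢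
      have h5 : p * a = q * a * q⁻¹ * p := by
        rw [← h3]; group
      calc q⁻¹ * p * a = q⁻¹ * (p * a) := by group
        _ = q⁻¹ * (q * a * q⁻¹ * p) := by rw [h5]
        _ = a * (q⁻¹ * p) := by group
    have hcS : (c : G) ∈ Subgroup.centralizer (S : Set G) := by
      rw [Subgroup.mem_centralizer_iff]
      intro x hx
      obtain ⟨j, hj⟩ := Subgroup.mem_zpowers_iff.mp (hgen x hx)
      rw [← hj]
      exact ((Commute.zpow_right (show Commute (c : G) a from hca) j).eq).symm
    rw [D.cent] at hcS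
    have h6 : D.π c = 1 := (D.ker c).mpr hcS
    rw [hc, map_mul, map_inv, inv_mul_eq_one] at h6
    exact h6.symm
  obtain ⟨n, hn⟩ := D.surj (DihedralGroup.r 1)
  obtain ⟨m, hm⟩ := D.surj (DihedralGroup.sr 0)
  have h7 := hcomm n m
  rw [map_mul, map_mul, hn, hm] at h7
  revert h7
  decide

/-- PKG ELEM -/
theorem elem (D : Setup G S) :
    (∀ a ∈ S, ∀ b ∈ S, a * b = b * a) ∧ (∀ a ∈ S, a ^ 3 = 1) := by
  refine ⟨h31_comm D, ?_⟩
  intro a ha
  by_contra h3
  apply h31_not_cyclic D a ha
  -- `orderOf a = 9`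
  have hdvd : orderOf (⟨a, ha⟩ : S) ∣ 9 := by
    rw [← D.card]
    exact orderOf_dvd_natCard _
  have hne3 : (⟨a, ha⟩ : S) ^ 3 ≠ 1 := by
    intro h
    apply h3
    have := congrArg Subtype.val h
    simpa using this
  have ho : orderOf (⟨a, ha⟩ : S) = 9 := by
    have hdiv : (Nat.divisors 9) = {1, 3, 9} := by decide
    have hmem : orderOf (⟨a, ha⟩ : S) ∈ Nat.divisors 9 := Nat.mem_divisors.mpr ⟨hdvd, by norm_num⟩
    rw [hdiv] at hmem
    simp only [Finset.mem_insert, Finset.mem_singleton] at hmem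
    rcases hmem with h | h | h
    · exfalso
      apply hne3
      rw [orderOf_eq_one_iff] at h
      rw [h, one_pow]
    · exfalso
      apply hne3
      rw [← h]
      exact pow_orderOf_eq_one _
    · exact h
  have hcyc : ∀ x : S, x ∈ Subgroup.zpowers (⟨a, ha⟩ : S) := by
    intro x
    have htop : Subgroup.zpowers (⟨a, ha⟩ : S) = ⊤ := by
      apply Subgroup.eq_top_of_card_eq
      rw [Nat.card_zpowers, ho, D.card]
    rw [htop]
    trivial
  intro x hx
  obtain ⟨k, hk⟩ := Subgroup.mem_zpowers_iff.mp (hcyc ⟨x, hx⟩)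
  rw [Subgroup.mem_zpowers_iff]
  refine ⟨k, ?_⟩
  have := congrArg Subtype.val hk
  simpa using this

end Cfsg.Agent.Lib.Helper31_S6_ELEM
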