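import Mathlib
import Cfsg.Agent.Lib.Helper6_S6Defs

set_option autoImplicit false
set_option linter.unusedSectionVars false

namespace Cfsg.Agent.Lib.Helper70_S6_TRANS

open Cfsg.Agent.Lib.Helper6_S6Defs Equiv Equiv.Perm

variable {G : Type*} [Group G] [Finite G] {S : Subgroup G}

omit [Finite G] in
/-- the normalizer of `S.subgroupOf L` in `L`, elementwise -/
theorem mem_normalizer_subgroupOf (L : Subgroup G) (hSL : S ≤ L) (t : ↥L) :
    t ∈ Subgroup.normalizer ((S.subgroupOf L : Subgroup ↥L) : Set ↥L) ↔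
      (t : G) ∈ Subgroup.normalizer (S : Set G) := by
  rw [Subgroup.mem_set_normalizer_iff, Subgroup.mem_set_normalizer_iff]
  constructor
  · intro h n
    constructor
    · intro hn
      have := (h ⟨n, hSL hn⟩).1 (Subgroup.mem_subgroupOf.2 hn)
      exact Subgroup.mem_subgroupOf.1 this
    · intro hn
      have hnL : n ∈ L := by
        have h1 : (t : G)⁻¹ * ((t : G) * n * (t : G)⁻¹) * (t : G) ∈ L :=
          L.mul_mem (L.mul_mem (L.inv_mem t.2) (hSL hn)) t.2
        have h2 : (t : G)⁻¹ * ((t : G) * n * (t : G)⁻¹) * (t : G) = n := by group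
        rwa [h2] at h1
      have := (h ⟨n, hnL⟩).2 (Subgroup.mem_subgroupOf.2 hn)
      exact Subgroup.mem_subgroupOf.1 this
  · intro h n
    exact h (n : G)

/-! ## PKG TRANS (M) -/
theorem trans_facts (D : Setup G S) (L : Subgroup G) [L.Normal] (hSL : S ≤ L) :
    (∃ P : Sylow 3 ↥L, S.subgroupOf L = P) ∧ Nat.card ↥(S.subgroupOf L) = 9 ∧
    Subgroup.centralizer ((S.subgroupOf L : Subgroup ↥L) : Set ↥L) = S.subgroupOf L ∧
    Subgroup.normalizer ((S.subgroupOf L : Subgroup ↥L) : Set ↥L) =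
      (Subgroup.normalizer (S : Set G)).subgroupOf L ∧
    (∀ t ∈ S.subgroupOf L, t ≠ 1 → Subgroup.centralizer ({t} : Set ↥L) ≤
      Subgroup.normalizer ((S.subgroupOf L : Subgroup ↥L) : Set ↥L)) := by
  refine ⟨?_, ?_, ?_, ?_, ?_⟩
  · obtain ⟨P, hP⟩ := D.syl
    have hle : (P : Subgroup G) ≤ L := by rw [← hP]; exact hSL
    refine ⟨P.subtype hle, ?_⟩
    rw [Sylow.coe_subtype, hP]
  · rw [Nat.card_congr (Subgroup.subgroupOfEquivOfLe hSL).toEquiv]
    exact D.card
  · ext t
    rw [Subgroup.mem_centralizer_iff, Subgroup.mem_subgroupOf]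
    constructor
    · intro h
      rw [← D.cent, Subgroup.mem_centralizer_iff]
      intro s hs
      have := h ⟨s, hSL hs⟩ (Subgroup.mem_subgroupOf.2 hs)
      exact congrArg Subtype.val this
    · intro h s hs
      rw [← D.cent, Subgroup.mem_centralizer_iff] at h
      apply Subtype.ext
      exact h (s : G) (Subgroup.mem_subgroupOf.1 hs)
  · ext t
    rw [mem_normalizer_subgroupOf L hSL, Subgroup.mem_subgroupOf]
  · intro t ht ht1 c hc
    rw [mem_normalizer_subgroupOf L hSL]
    have htS : (t : G) ∈ S := Subgroup.mem_subgroupOf.1 ht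
    have ht1' : (t : G) ≠ 1 := fun h => ht1 (Subtype.ext h)
    apply D.loc (t : G) htS ht1'
    rw [Subgroup.mem_centralizer_singleton_iff] at hc ⊢
    exact congrArg Subtype.val hc

end Cfsg.Agent.Lib.Helper70_S6_TRANS
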