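import Mathlib
import Cfsg.Agent.Lib.Helper6_S6Defs
import Cfsg.Agent.Lib.Helper17_S6_CASEKLEINaux
import Cfsg.Agent.Lib.Helper31_S6_ELEM
import Cfsg.Agent.Lib.Helper70_S6_TRANS

set_option autoImplicit false

namespace Cfsg.Agent.Lib.Helper17_S6_CASEKLEIN

open Cfsg.Agent.Lib.Helper6_S6Defs Equiv Equiv.Perm

variable {G : Type*} [Group G] [Finite G] {S : Subgroup G}

/-- PKG CASEKLEIN (S3333 market of helper6), verbatim statement. -/
theorem case_klein (D : Setup G S) (L : Subgroup G) [L.Normal] (hSL : S ≤ L)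
    (hs : IsSimpleGroup ↥L)
    (h36 : Nat.card ↥(Subgroup.normalizer (S : Set G) ⊓ L) = 36)
    (hsq : ∀ n ∈ Subgroup.normalizer (S : Set G) ⊓ L, n ^ 2 ∈ S) : False :=
  Cfsg.Agent.Lib.Helper17_S6_CASEKLEINaux.case_klein_of D L hSL hs h36 hsq
    (Cfsg.Agent.Lib.Helper31_S6_ELEM.elem D)
    (Cfsg.Agent.Lib.Helper70_S6_TRANS.trans_facts D L hSL)

end Cfsg.Agent.Lib.Helper17_S6_CASEKLEIN
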