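import Mathlib
import Cfsg.Agent.Lib.Helper74_S94Defs2
import Cfsg.Agent.Lib.Helper66_S96Asm
import Cfsg.Agent.Lib.Helper66_S96Rank
import Cfsg.Agent.Lib.Helper5_SLPresA
import Cfsg.Agent.Lib.Helper17_S96_TS

set_option autoImplicit false
set_option linter.unusedVariables false
set_option linter.unusedSectionVars false

/-!
Package `B_TS` of helper74's market `s94_packages` (PRES block of S2094 / S2099), port of
`Helper17_S96_TS` (helper17): the long torus `Ts X` normalises the long and the short root subgroups,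
`GsB X XS o`, `QsB X XS j`; `PsB X XS o = GsB X XS o * Ts X`.  From the calculi `WCalcD X`, `WCalcS X XS`.
-/

namespace Cfsg.Agent.Lib.Helper74_S94

open Cfsg.Agent.Lib.Helper5_SteinbergA Cfsg.Agent.Lib.Helper5_SLPresA Cfsg.Agent.Lib.Helper66_StCalc
  Cfsg.Agent.Lib.Helper66_S92 Cfsg.Agent.Lib.Helper66_S96

section generic

variable {ι : Type*} [DecidableEq ι] {K : Type*} [Field K] {V0 : Type*} [AddCommGroup V0]
  [Module K V0] {G : Type*} [Group G] {Q0 : QuadraticForm K V0}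
  {X : ι ⊕ ι → ι ⊕ ι → K → G} {XS : ι ⊕ ι → V0 → G}

/-! ## B_TS : the long torus normalises everything (port of Helper17_S96_TS) -/

theorem Ts_conjB (C : WCalcD X) (CS : WCalcS X XS) {t : G} (ht : t ∈ Ts X) :
    ∃ χ : ι ⊕ ι → K, (∀ d, χ d ≠ 0) ∧ (∀ a c u, t * X a c u * t⁻¹ = X a c (χ a * χ c * u)) ∧
      ∀ a v, t * XS a v * t⁻¹ = XS a (χ a • v) := by
  unfold Ts at ht
  induction ht using Subgroup.closure_induction with
  | mem x hx =>
    obtain ⟨a, c, s, h1, h2, hs, rfl⟩ := hx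
    exact ⟨chD a c s, h17_chD_ne_zero a c s hs, fun d e u => C.hd_conj a c h1 h2 s hs d e u,
      fun d v => CS.hd_conjS a c h1 h2 s hs d v⟩
  | one =>
    refine ⟨fun _ => 1, fun _ => one_ne_zero, fun a c u => ?_, fun a v => ?_⟩
    · simp
    · simp
  | mul x y _ _ hx hy =>
    obtain ⟨χ1, h1, e1, f1⟩ := hx
    obtain ⟨χ2, h2, e2, f2⟩ := hy
    refine ⟨fun d => χ1 d * χ2 d, fun d => mul_ne_zero (h1 d) (h2 d), fun a c u => ?_,
      fun a v => ?_⟩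
    · have : x * y * X a c u * (x * y)⁻¹ = x * (y * X a c u * y⁻¹) * x⁻¹ := by group
      rw [this, e2, e1]
      congr 1
      ring
    · have : x * y * XS a v * (x * y)⁻¹ = x * (y * XS a v * y⁻¹) * x⁻¹ := by group
      rw [this, f2, f1, mul_smul]
  | inv x _ hx =>
    obtain ⟨χ1, h1, e1, f1⟩ := hx
    refine ⟨fun d => (χ1 d)⁻¹, fun d => inv_ne_zero (h1 d), fun a c u => ?_, fun a v => ?_⟩
    · have e := e1 a c ((χ1 a)⁻¹ * (χ1 c)⁻¹ * u)
      have e' : χ1 a * χ1 c * ((χ1 a)⁻¹ * (χ1 c)⁻¹ * u) = u := by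
        field_simp [h1 a, h1 c]
      rw [e'] at e
      rw [← e]
      group
    · have f := f1 a ((χ1 a)⁻¹ • v)
      rw [smul_smul, mul_inv_cancel₀ (h1 a), one_smul] at f
      rw [← f]
      group

theorem Ts_conj_mem_GsB (C : WCalcD X) (CS : WCalcS X XS) (o : ι ⊕ ι) {t g : G} (ht : t ∈ Ts X)
    (hg : g ∈ GsB X XS o) : t * g * t⁻¹ ∈ GsB X XS o := by
  obtain ⟨χ, -, e, f⟩ := Ts_conjB C CS ht
  unfold GsB at hg
  refine h17_conj_closure_le t ?_ hg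
  rintro _ (⟨a, c, u, ha, hc, rfl⟩ | ⟨a, v, ha, rfl⟩)
  · rw [e]
    exact X_mem_GsB o a c _ ha hc
  · rw [f]
    exact XS_mem_GsB o a _ ha

theorem Ts_conj_mem_QsB (C : WCalcD X) (CS : WCalcS X XS) (j : ι ⊕ ι) {t g : G} (ht : t ∈ Ts X)
    (hg : g ∈ QsB X XS j) : t * g * t⁻¹ ∈ QsB X XS j := by
  obtain ⟨χ, -, e, f⟩ := Ts_conjB C CS ht
  unfold QsB at hg
  refine h17_conj_closure_le t ?_ hg
  rintro _ (⟨c, u, hc, rfl⟩ | ⟨v, rfl⟩)
  · rw [e]
    exact Subgroup.subset_closure (Or.inl ⟨c, _, hc, rfl⟩)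
  · rw [f]
    exact XS_mem_QsB j _

theorem PsB_eq (C : WCalcD X) (CS : WCalcS X XS) (o : ι ⊕ ι) {p : G} (hp : p ∈ PsB X XS o) :
    ∃ γ ∈ GsB X XS o, ∃ t ∈ Ts X, p = γ * t := by
  unfold PsB at hp
  rw [Subgroup.sup_eq_closure] at hp
  induction hp using Subgroup.closure_induction with
  | mem x hx =>
    rcases hx with hx | hx
    · exact ⟨x, hx, 1, one_mem _, (mul_one x).symm⟩
    · exact ⟨1, one_mem _, x, hx, (one_mul x).symm⟩
  | one => exact ⟨1, one_mem _, 1, one_mem _, (mul_one 1).symm⟩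
  | mul x y _ _ hx hy =>
    obtain ⟨γ1, hγ1, t1, ht1, rfl⟩ := hx
    obtain ⟨γ2, hγ2, t2, ht2, rfl⟩ := hy
    refine ⟨γ1 * (t1 * γ2 * t1⁻¹),
      (GsB X XS o).mul_mem hγ1 (Ts_conj_mem_GsB C CS o ht1 hγ2), t1 * t2,
      (Ts X).mul_mem ht1 ht2, ?_⟩
    group
  | inv x _ hx =>
    obtain ⟨γ1, hγ1, t1, ht1, rfl⟩ := hx
    refine ⟨t1⁻¹ * γ1⁻¹ * t1⁻¹⁻¹,
      Ts_conj_mem_GsB C CS o ((Ts X).inv_mem ht1) ((GsB X XS o).inv_mem hγ1),
      t1⁻¹, (Ts X).inv_mem ht1, ?_⟩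
    group

end generic

end Cfsg.Agent.Lib.Helper74_S94
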