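import Cfsg.Agent.Lib.Helper37_SzCharDefs
import Cfsg.Agent.Lib.Helper15_Brauer
import Cfsg.Agent.Lib.Helper75_CharArith
import Cfsg.Agent.Lib.Helper75_IndChar
import Cfsg.Agent.Lib.Helper80_CharBasic

/-!
# S4775 (character degree graph of `Sz(q)`), package PK-T1: the Steinberg character (helper17)

Glue the local data `(q² at 1; 0 on Q, 1 on H, -1 on A₁, A₂)` with `Helper37_TISys.isIrrCharacter_fn`.
-/

set_option autoImplicit false
set_option linter.unusedSectionVars false
set_option linter.unusedVariables false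

namespace Cfsg.Agent.Lib.Helper17_SzChar_PKT1

open scoped ComplexConjugate Classical
open Cfsg Cfsg.Agent.Helper37SzChar Cfsg.Agent.Helper37TI

section Local
variable {K : Type*} [Group K] [Fintype K]

/-- constant integer functions are generalized characters -/
theorem isGen_const' (z : ℤ) : IsGeneralizedCharacter K (fun _ : K => (z : ℂ)) := by
  have h1 : IsCharacter K (fun _ : K => (1 : ℂ)) :=
    Cfsg.Agent.Lib.Helper3_CharBridge.isCharacter_of_isIrrCharacter
      (Cfsg.Agent.Lib.Helper80_CharBasic.isIrrCharacter_one K)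
  rcases Int.eq_nat_or_neg z with ⟨n, rfl | rfl⟩
  · refine ⟨n • (fun _ : K => (1 : ℂ)), 0,
      Cfsg.Agent.Lib.Helper75_CharArith.isCharacter_nsmul n h1,
      Cfsg.Agent.Lib.Helper75_CharArith.isCharacter_zero, ?_⟩
    funext k
    simp
  · refine ⟨0, n • (fun _ : K => (1 : ℂ)),
      Cfsg.Agent.Lib.Helper75_CharArith.isCharacter_zero,
      Cfsg.Agent.Lib.Helper75_CharArith.isCharacter_nsmul n h1, ?_⟩
    funext k
    simp

/-- the regular character -/
theorem isCharacter_regular :
    IsCharacter K (fun k : K => if k = 1 then (Nat.card K : ℂ) else 0) := by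
  have h1 : IsCharacter (⊥ : Subgroup K) (fun _ : (⊥ : Subgroup K) => (1 : ℂ)) :=
    Cfsg.Agent.Lib.Helper3_CharBridge.isCharacter_of_isIrrCharacter
      (Cfsg.Agent.Lib.Helper80_CharBasic.isIrrCharacter_one _)
  have h2 := Cfsg.Agent.Lib.Helper75_IndChar.isCharacter_indFun (⊥ : Subgroup K) h1
  have h3 : Cfsg.indFun (⊥ : Subgroup K) (fun _ : (⊥ : Subgroup K) => (1 : ℂ))
      = (fun k : K => if k = 1 then (Nat.card K : ℂ) else 0) := by
    funext k
    rw [Cfsg.Agent.Lib.Helper75_Induced.indFun_apply]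
    have hcard : (Nat.card (⊥ : Subgroup K) : ℂ) = 1 := by
      rw [Subgroup.card_bot]; simp
    rw [hcard, inv_one, one_mul]
    have hterm : ∀ x : K, Cfsg.extendByZero (⊥ : Subgroup K) (fun _ => (1 : ℂ)) (x⁻¹ * k * x)
        = if k = 1 then 1 else 0 := by
      intro x
      have hiff : x⁻¹ * k * x = 1 ↔ k = 1 := by
        constructor
        · intro e
          have : k = x * (x⁻¹ * k * x) * x⁻¹ := by group
          rw [this, e]; group
        · rintro rfl; group
      by_cases hk : k = 1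
      · rw [if_pos hk]
        rw [Cfsg.Agent.Lib.Helper75_Induced.extendByZero_of_mem _ _
          (Subgroup.mem_bot.mpr (hiff.mpr hk))]
      · rw [if_neg hk]
        exact Cfsg.Agent.Lib.Helper75_Induced.extendByZero_of_not_mem _ _
          (fun h => hk (hiff.mp (Subgroup.mem_bot.mp h)))
    rw [Finset.sum_congr rfl (fun x _ => hterm x)]
    split_ifs with hk
    · rw [Finset.sum_const, Finset.card_univ, nsmul_eq_mul, mul_one, Nat.card_eq_fintype_card]
    · simp
  rw [h3] at h2
  exact h2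

/-- integer multiples of the regular character -/
theorem isGen_delta' (z : ℤ) :
    IsGeneralizedCharacter K (fun k : K => if k = 1 then ((z * Nat.card K : ℤ) : ℂ) else 0) := by
  have h1 := isCharacter_regular (K := K)
  rcases Int.eq_nat_or_neg z with ⟨n, rfl | rfl⟩
  · refine ⟨n • (fun k : K => if k = 1 then (Nat.card K : ℂ) else 0), 0,
      Cfsg.Agent.Lib.Helper75_CharArith.isCharacter_nsmul n h1,
      Cfsg.Agent.Lib.Helper75_CharArith.isCharacter_zero, ?_⟩
    funext k
    by_cases hk : k = 1 <;> simp [hk]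
  · refine ⟨0, n • (fun k : K => if k = 1 then (Nat.card K : ℂ) else 0),
      Cfsg.Agent.Lib.Helper75_CharArith.isCharacter_zero,
      Cfsg.Agent.Lib.Helper75_CharArith.isCharacter_nsmul n h1, ?_⟩
    funext k
    by_cases hk : k = 1 <;> simp [hk]

end Local


variable {G : Type*} [Group G] [Fintype G] {m : ℕ}

/-- a two-valued local datum `(c at 1, v elsewhere)` with `c ≡ v mod |K|` -/
theorem isGen_two (K : Subgroup G) (c v z : ℤ) (hz : c = v + z * Nat.card K) :
    IsGeneralizedCharacter K (fun k : K => if (k : G) = 1 then (c : ℂ) else (v : ℂ)) := by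
  have h := Cfsg.Agent.Lib.Helper15_Brauer.isGeneralizedCharacter_add
    (isGen_const' (K := K) v) (isGen_delta' (K := K) z)
  have e : ((fun _ : K => (v : ℂ)) + fun k : K => if k = 1 then ((z * Nat.card K : ℤ) : ℂ) else 0)
      = (fun k : K => if (k : G) = 1 then (c : ℂ) else (v : ℂ)) := by
    funext k
    rw [Pi.add_apply]
    by_cases hk : k = 1
    · rw [if_pos hk, if_pos (by rw [hk]; rfl), hz]
      push_cast
      ring
    · rw [if_neg hk, if_neg (fun h => hk (OneMemClass.coe_eq_one.mp h)), add_zero]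
  rw [← e]
  convert h using 4

/-- sum over the non-identity elements of a subgroup -/
theorem sum_ne_one (K : Subgroup G) (a : ℂ) :
    ∑ k : K, (if (k : G) = 1 then 0 else a) = ((Nat.card K : ℂ) - 1) * a := by
  have h1 : ∀ k : K, (if (k : G) = 1 then (0 : ℂ) else a) = a - (if k = 1 then a else 0) := by
    intro k
    by_cases hk : k = 1
    · rw [if_pos (by rw [hk]; rfl), if_pos hk, sub_self]
    · rw [if_neg (fun h => hk (OneMemClass.coe_eq_one.mp h)), if_neg hk, sub_zero]
  rw [Finset.sum_congr rfl (fun k _ => h1 k), Finset.sum_sub_distrib, Finset.sum_const,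
    Finset.card_univ, Finset.sum_ite_eq' Finset.univ (1 : K), if_pos (Finset.mem_univ _),
    nsmul_eq_mul, Nat.card_eq_fintype_card]
  ring

/-- the local data of the Steinberg character -/
noncomputable def stVal : SzIdx → ℤ
  | .Q => 0
  | .H => 1
  | .A1 => -1
  | .A2 => -1

/-- **PK-T1**: the Steinberg character of a group of Suzuki type. -/
theorem steinberg (D : SzData G m) :
    ∃ χ : IrrCharacter G, (χ : G → ℂ) 1 = ((qq m ^ 2 : ℕ) : ℂ) ∧
      (∀ h ∈ D.H, h ≠ 1 → (χ : G → ℂ) h = 1) ∧ (∀ a ∈ D.A₁, a ≠ 1 → (χ : G → ℂ) a = -1) := by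
  have hq2 := two_le_qq m
  have hrq := rr_le_qq m
  have hrsq := rr_sq m
  -- local data
  set ψ : SzIdx → G → ℂ := fun i g => if g = 1 then ((qq m ^ 2 : ℕ) : ℂ) else (stVal i : ℂ) with hψ
  have hinv : Inv D.toTISys ψ := by
    intro i n hn k hk
    have hiff : n * k * n⁻¹ = 1 ↔ k = 1 := by
      constructor
      · intro e
        have : k = n⁻¹ * (n * k * n⁻¹) * n := by group
        rw [this, e]; group
      · rintro rfl; group
    simp only [hψ]
    by_cases hk1 : k = 1
    · rw [if_pos hk1, if_pos (hiff.mpr hk1)]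
    · rw [if_neg hk1, if_neg (fun h => hk1 (hiff.mp h))]
  have h1 : ∀ i, ψ i 1 = ((qq m ^ 2 : ℕ) : ℂ) := fun i => if_pos rfl
  have hgen : ∀ i, IsGeneralizedCharacter (D.toTISys.K i) (fun k : D.toTISys.K i => ψ i k) := by
    intro i
    have key : ∀ z : ℤ, ((qq m ^ 2 : ℕ) : ℤ) = stVal i + z * Nat.card (D.toTISys.K i) →
        IsGeneralizedCharacter (D.toTISys.K i) (fun k : D.toTISys.K i => ψ i k) := by
      intro z hz
      have := isGen_two (D.toTISys.K i) ((qq m ^ 2 : ℕ) : ℤ) (stVal i) z hz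
      simpa [hψ] using this
    cases i
    · apply key 1
      simp only [SzData.toTISys_K, SzData.sub, D.card_Q, stVal]
      push_cast; ring
    · apply key ((qq m : ℤ) + 1)
      simp only [SzData.toTISys_K, SzData.sub, D.card_H, stVal]
      rw [Nat.cast_sub (by omega)]
      push_cast; ring
    · apply key (((qq m - rr m + 1 : ℕ) : ℤ))
      simp only [SzData.toTISys_K, SzData.sub, D.card_A₁, stVal]
      have := n1_mul_n2 m
      have h2 : ((qq m + rr m + 1 : ℕ) : ℤ) * ((qq m - rr m + 1 : ℕ) : ℤ)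
          = ((qq m ^ 2 + 1 : ℕ) : ℤ) := by exact_mod_cast this
      push_cast at h2 ⊢
      linarith
    · apply key (((qq m + rr m + 1 : ℕ) : ℤ))
      simp only [SzData.toTISys_K, SzData.sub, D.card_A₂, stVal]
      have := n1_mul_n2 m
      have h2 : ((qq m + rr m + 1 : ℕ) : ℤ) * ((qq m - rr m + 1 : ℕ) : ℤ)
          = ((qq m ^ 2 + 1 : ℕ) : ℤ) := by exact_mod_cast this
      push_cast at h2 ⊢
      linarith
  have hnorm : classInner (fn D.toTISys ((qq m ^ 2 : ℕ) : ℂ) ψ)
      (fn D.toTISys ((qq m ^ 2 : ℕ) : ℂ) ψ) = 1 := by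
    rw [classInner_fn D.toTISys _ _ hinv, SzIdx.sum_eq]
    have hloc : ∀ i, ∑ k : D.toTISys.K i, mask (ψ i) k * conj (ψ i k)
        = ((Nat.card (D.toTISys.K i) : ℂ) - 1) * ((stVal i : ℂ) * (stVal i : ℂ)) := by
      intro i
      rw [← sum_ne_one]
      apply Finset.sum_congr rfl
      intro k _
      by_cases hk : (k : G) = 1
      · rw [if_pos hk, hk, mask_one, zero_mul]
      · rw [if_neg hk, mask_of_ne _ hk]
        simp only [hψ, if_neg hk]
        rw [show conj ((stVal i : ℤ) : ℂ) = (stVal i : ℂ) from map_intCast (starRingEnd ℂ) _]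
    rw [hloc, hloc, hloc, hloc]
    simp only [SzData.toTISys_K, SzData.sub, D.card_Q, D.card_H, D.card_A₁, D.card_A₂, D.card_NQ,
      D.card_NH, D.card_NA₁, D.card_NA₂, D.card_G, stVal]
    have e1 : ((qq m - 1 : ℕ) : ℂ) = (qq m : ℂ) - 1 := by
      rw [Nat.cast_sub (by omega)]; simp
    have e2 : ((qq m - rr m : ℕ) : ℂ) = (qq m : ℂ) - rr m := by
      rw [Nat.cast_sub hrq]
    have e3 : ((rr m : ℂ)) ^ 2 = 2 * (qq m : ℂ) := by exact_mod_cast hrsq
    have hQ0 : (qq m : ℂ) ≠ 0 := by exact_mod_cast (by omega : qq m ≠ 0)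
    have hQ1 : (qq m : ℂ) - 1 ≠ 0 := by
      rw [← e1]; exact_mod_cast (by omega : qq m - 1 ≠ 0)
    have hn1 : (qq m : ℂ) + rr m + 1 ≠ 0 := by exact_mod_cast (by omega : qq m + rr m + 1 ≠ 0)
    have hn2 : (qq m : ℂ) - rr m + 1 ≠ 0 := by
      rw [← e2]; exact_mod_cast (by omega : qq m - rr m + 1 ≠ 0)
    have hq21 : (qq m : ℂ) ^ 2 + 1 ≠ 0 := by exact_mod_cast (by positivity : qq m ^ 2 + 1 ≠ 0)
    rw [map_natCast]
    push_cast
    rw [e1, e2]
    generalize (qq m : ℂ) = Q at *
    generalize (rr m : ℂ) = R at *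
    have hQR : Q = R ^ 2 / 2 := by rw [e3]; ring
    field_simp
    rw [hQR]
    ring
  refine ⟨⟨_, isIrrCharacter_fn D.toTISys (by positivity) hinv h1 hgen hnorm⟩, ?_, ?_, ?_⟩
  · exact fn_one _ _ _
  · intro h hh hh1
    have : h ∈ D.toTISys.K .H := hh
    show fn D.toTISys _ ψ h = 1
    rw [fn_of_mem D.toTISys _ hinv this hh1]
    simp [hψ, hh1, stVal]
  · intro a ha ha1
    have : a ∈ D.toTISys.K .A1 := ha
    show fn D.toTISys _ ψ a = -1
    rw [fn_of_mem D.toTISys _ hinv this ha1]
    simp [hψ, ha1, stVal]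

end Cfsg.Agent.Lib.Helper17_SzChar_PKT1
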