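import Cfsg.Agent.Lib.Helper37_SzCharDefs
import Cfsg.Agent.Lib.Helper80_CharBasic
import Cfsg.Prelude.Def_DegreeGraph

/-!
# S4775 (character degree graph of `Sz(q)`), package PK-T3: the known characters (helper17)

`known_chars_of`: from the Steinberg character and the three families `𝒳, 𝒴, 𝒵` (statements of
PK-T1, PK-T2X, PK-T2Y, PK-T2Z as hypotheses) the set `𝒦 = {1, St} ∪ 𝒳 ∪ 𝒴 ∪ 𝒵` with its degree set,
sum of squares of degrees and the three column sums.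
-/

set_option autoImplicit false
set_option linter.unusedSectionVars false
set_option linter.unusedVariables false

namespace Cfsg.Agent.Lib.Helper17_SzChar_PKT3

open scoped ComplexConjugate Classical
open Cfsg Cfsg.Agent.Helper37SzChar Cfsg.Agent.Helper37TI

theorem cd_eq {H : Type*} [Group H] {χ : H → ℂ} {n : ℕ} (h : χ 1 = n) :
    charDegree χ = n := by
  unfold charDegree
  rw [h, Complex.natCast_re, Nat.floor_natCast]

theorem four_le_rr {m : ℕ} (hm : 1 ≤ m) : 4 ≤ rr m := by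
  unfold rr
  calc 4 = 2 ^ 2 := by norm_num
    _ ≤ 2 ^ (m + 1) := Nat.pow_le_pow_right (by norm_num) (by omega)

theorem rr_lt_qq {m : ℕ} (hm : 1 ≤ m) : rr m < qq m := by
  have h1 := four_le_rr hm
  have h2 := rr_sq m
  nlinarith

/-- the five known degrees are pairwise different -/
theorem degrees_ne {m : ℕ} (hm : 1 ≤ m) :
    (1 ≠ qq m ^ 2 ∧ 1 ≠ qq m ^ 2 + 1 ∧ 1 ≠ (qq m - 1) * (qq m - rr m + 1) ∧
      1 ≠ (qq m - 1) * (qq m + rr m + 1)) ∧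
    (qq m ^ 2 ≠ qq m ^ 2 + 1 ∧ qq m ^ 2 ≠ (qq m - 1) * (qq m - rr m + 1) ∧
      qq m ^ 2 ≠ (qq m - 1) * (qq m + rr m + 1)) ∧
    (qq m ^ 2 + 1 ≠ (qq m - 1) * (qq m - rr m + 1) ∧
      qq m ^ 2 + 1 ≠ (qq m - 1) * (qq m + rr m + 1)) ∧
    (qq m - 1) * (qq m - rr m + 1) ≠ (qq m - 1) * (qq m + rr m + 1) := by
  have h8 := eight_le_qq hm
  have h4 := four_le_rr hm
  have hlt := rr_lt_qq hm
  have hn := n1_mul_n2 m
  have hq1 : 0 < qq m - 1 := by omega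
  have hoY : Odd ((qq m - 1) * (qq m - rr m + 1)) := (odd_qq_sub_one m).mul (odd_n2 m)
  have hoZ : Odd ((qq m - 1) * (qq m + rr m + 1)) := (odd_qq_sub_one m).mul (odd_n1 m)
  have heq : Even (qq m ^ 2) := (Nat.even_pow.mpr ⟨even_qq m, by norm_num⟩)
  refine ⟨⟨?_, ?_, ?_, ?_⟩, ⟨?_, ?_, ?_⟩, ⟨?_, ?_⟩, ?_⟩
  · nlinarith
  · nlinarith
  · have : 7 * 1 ≤ (qq m - 1) * (qq m - rr m + 1) := Nat.mul_le_mul (by omega) (by omega)
    omega
  · have : 7 * 1 ≤ (qq m - 1) * (qq m + rr m + 1) := Nat.mul_le_mul (by omega) (by omega)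
    omega
  · omega
  · intro h; rw [h] at heq; exact (Nat.not_even_iff_odd.mpr hoY) heq
  · intro h; rw [h] at heq; exact (Nat.not_even_iff_odd.mpr hoZ) heq
  · intro h
    rw [← hn] at h
    have := Nat.eq_of_mul_eq_mul_right (by omega : 0 < qq m - rr m + 1) h
    omega
  · intro h
    rw [← hn, mul_comm (qq m + rr m + 1)] at h
    have := Nat.eq_of_mul_eq_mul_right (by omega : 0 < qq m + rr m + 1) h
    omega
  · intro h
    have := Nat.eq_of_mul_eq_mul_left hq1 h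
    omega


variable {G : Type*} [Group G] [Fintype G] {m : ℕ}

open Cfsg.Agent.Lib.Helper80_CharBasic in
/-- **PK-T3** with the four families as hypotheses. -/
theorem known_chars_of (D : SzData G m)
    (hSt : ∃ χ : IrrCharacter G, (χ : G → ℂ) 1 = ((qq m ^ 2 : ℕ) : ℂ) ∧
      (∀ h ∈ D.H, h ≠ 1 → (χ : G → ℂ) h = 1) ∧ (∀ a ∈ D.A₁, a ≠ 1 → (χ : G → ℂ) a = -1))
    (hX : ∃ 𝒳 : Finset (IrrCharacter G),
      (∀ χ ∈ 𝒳, (χ : G → ℂ) 1 = ((qq m ^ 2 + 1 : ℕ) : ℂ) ∧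
        ∀ a ∈ D.A₁, a ≠ 1 → (χ : G → ℂ) a = 0) ∧
      𝒳.card * 2 + 1 = qq m - 1 ∧
      ∀ h ∈ D.H, h ≠ 1 →
        ∑ χ ∈ 𝒳, (χ : G → ℂ) h * conj ((χ : G → ℂ) h) = (qq m : ℂ) - 3)
    (hY : ∃ 𝒴 : Finset (IrrCharacter G),
      (∀ χ ∈ 𝒴, (χ : G → ℂ) 1 = (((qq m - 1) * (qq m - rr m + 1) : ℕ) : ℂ) ∧
        ∀ h ∈ D.H, h ≠ 1 → (χ : G → ℂ) h = 0) ∧
      𝒴.card * 4 + 1 = qq m + rr m + 1 ∧
      ∀ a ∈ D.A₁, a ≠ 1 →
        (∑ χ ∈ 𝒴, (χ : G → ℂ) a * conj ((χ : G → ℂ) a) = (qq m : ℂ) + rr m - 3) ∧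
        (∑ χ ∈ 𝒴, (χ : G → ℂ) a = 1))
    (hZ : ∃ 𝒵 : Finset (IrrCharacter G),
      (∀ χ ∈ 𝒵, (χ : G → ℂ) 1 = (((qq m - 1) * (qq m + rr m + 1) : ℕ) : ℂ) ∧
        (∀ h ∈ D.H, h ≠ 1 → (χ : G → ℂ) h = 0) ∧ (∀ a ∈ D.A₁, a ≠ 1 → (χ : G → ℂ) a = 0)) ∧
      𝒵.card * 4 + 1 = qq m - rr m + 1) :
    ∃ 𝒦 : Finset (IrrCharacter G),
      (∀ χ ∈ 𝒦, charDegree (χ : G → ℂ) ∈ ({1, qq m ^ 2, qq m ^ 2 + 1,
        (qq m - 1) * (qq m - rr m + 1), (qq m - 1) * (qq m + rr m + 1)} : Set ℕ)) ∧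
      (∀ d ∈ ({1, qq m ^ 2, qq m ^ 2 + 1,
        (qq m - 1) * (qq m - rr m + 1), (qq m - 1) * (qq m + rr m + 1)} : Set ℕ),
          ∃ χ ∈ 𝒦, charDegree (χ : G → ℂ) = d) ∧
      (∑ χ ∈ 𝒦, ((χ : G → ℂ) 1) ^ 2 =
        (Nat.card G : ℂ) - (qq m : ℂ) * ((qq m : ℂ) - 1) ^ 2) ∧
      (∀ h ∈ D.H, h ≠ 1 →
        ∑ χ ∈ 𝒦, (χ : G → ℂ) h * conj ((χ : G → ℂ) h) = (qq m : ℂ) - 1) ∧
      (∀ a ∈ D.A₁, a ≠ 1 →
        ∑ χ ∈ 𝒦, (χ : G → ℂ) a * conj ((χ : G → ℂ) a) = (qq m : ℂ) + rr m - 1) ∧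
      (∀ a ∈ D.A₁, a ≠ 1 →
        ∑ χ ∈ 𝒦, (χ : G → ℂ) 1 * conj ((χ : G → ℂ) a) = -(((qq m : ℂ) - 1) * rr m)) := by
  obtain ⟨St, hSt1, hStH, hStA⟩ := hSt
  obtain ⟨X, hXp, hXc, hXH⟩ := hX
  obtain ⟨Y, hYp, hYc, hYA⟩ := hY
  obtain ⟨Z, hZp, hZc⟩ := hZ
  have hm := D.hm
  obtain ⟨⟨n1, n2, n3, n4⟩, ⟨n5, n6, n7⟩, ⟨n8, n9⟩, n10⟩ := degrees_ne hm
  have h8 := eight_le_qq hm
  have h4 := four_le_rr hm
  have hlt := rr_lt_qq hm
  have hone : ∀ g, (oneIrr G : G → ℂ) g = 1 := fun g => rfl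
  have hone1 : (oneIrr G : G → ℂ) 1 = ((1 : ℕ) : ℂ) := by rw [hone]; simp
  have dOne : charDegree (oneIrr G : G → ℂ) = 1 := cd_eq hone1
  have dSt : charDegree (St : G → ℂ) = qq m ^ 2 := cd_eq hSt1
  have dX : ∀ χ ∈ X, charDegree (χ : G → ℂ) = qq m ^ 2 + 1 := fun χ h => cd_eq (hXp χ h).1
  have dY : ∀ χ ∈ Y, charDegree (χ : G → ℂ) = (qq m - 1) * (qq m - rr m + 1) :=
    fun χ h => cd_eq (hYp χ h).1
  have dZ : ∀ χ ∈ Z, charDegree (χ : G → ℂ) = (qq m - 1) * (qq m + rr m + 1) :=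
    fun χ h => cd_eq (hZp χ h).1
  have hXY : Disjoint X Y :=
    Finset.disjoint_left.mpr (fun χ h1 h2 => n8 ((dX χ h1).symm.trans (dY χ h2)))
  have hXYZ : Disjoint (X ∪ Y) Z := by
    rw [Finset.disjoint_union_left]
    exact ⟨Finset.disjoint_left.mpr (fun χ h1 h2 => n9 ((dX χ h1).symm.trans (dZ χ h2))),
      Finset.disjoint_left.mpr (fun χ h1 h2 => n10 ((dY χ h1).symm.trans (dZ χ h2)))⟩
  have hSt_notin : St ∉ X ∪ Y ∪ Z := by
    intro h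
    rcases Finset.mem_union.mp h with h | h
    · rcases Finset.mem_union.mp h with h | h
      · exact n5 (dSt.symm.trans (dX St h))
      · exact n6 (dSt.symm.trans (dY St h))
    · exact n7 (dSt.symm.trans (dZ St h))
  have hone_notin : oneIrr G ∉ insert St (X ∪ Y ∪ Z) := by
    intro h
    rcases Finset.mem_insert.mp h with h | h
    · rw [h] at dOne; exact n1 (dOne.symm.trans dSt)
    · rcases Finset.mem_union.mp h with h | h
      · rcases Finset.mem_union.mp h with h | h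
        · exact n2 (dOne.symm.trans (dX _ h))
        · exact n3 (dOne.symm.trans (dY _ h))
      · exact n4 (dOne.symm.trans (dZ _ h))
  have hsum : ∀ F : IrrCharacter G → ℂ, ∑ χ ∈ insert (oneIrr G) (insert St (X ∪ Y ∪ Z)), F χ
      = F (oneIrr G) + (F St + ((∑ χ ∈ X, F χ + ∑ χ ∈ Y, F χ) + ∑ χ ∈ Z, F χ)) := by
    intro F
    rw [Finset.sum_insert hone_notin, Finset.sum_insert hSt_notin, Finset.sum_union hXYZ,
      Finset.sum_union hXY]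
  -- casts
  have e1 : ((qq m - 1 : ℕ) : ℂ) = (qq m : ℂ) - 1 := by
    rw [Nat.cast_sub (by omega)]; simp
  have e2 : ((qq m - rr m : ℕ) : ℂ) = (qq m : ℂ) - rr m := by
    rw [Nat.cast_sub hlt.le]
  have e3 : ((rr m : ℂ)) ^ 2 = 2 * (qq m : ℂ) := by exact_mod_cast rr_sq m
  have cX : (X.card : ℂ) * 2 + 1 = (qq m : ℂ) - 1 := by
    rw [← e1]; exact_mod_cast hXc
  have cY : (Y.card : ℂ) * 4 + 1 = (qq m : ℂ) + rr m + 1 := by exact_mod_cast hYc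
  have cZ : (Z.card : ℂ) * 4 + 1 = (qq m : ℂ) - rr m + 1 := by
    rw [← e2]; exact_mod_cast hZc
  refine ⟨insert (oneIrr G) (insert St (X ∪ Y ∪ Z)), ?_, ?_, ?_, ?_, ?_, ?_⟩
  · intro χ hχ
    simp only [Finset.mem_insert, Finset.mem_union] at hχ
    rcases hχ with rfl | rfl | (h | h) | h
    · rw [dOne]; simp
    · rw [dSt]; simp
    · rw [dX χ h]; simp
    · rw [dY χ h]; simp
    · rw [dZ χ h]; simp
  · have hXne : X.Nonempty := Finset.card_pos.mp (by omega)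
    have hYne : Y.Nonempty := Finset.card_pos.mp (by omega)
    have hZne : Z.Nonempty := Finset.card_pos.mp (by omega)
    intro d hd
    simp only [Set.mem_insert_iff, Set.mem_singleton_iff] at hd
    rcases hd with rfl | rfl | rfl | rfl | rfl
    · exact ⟨oneIrr G, Finset.mem_insert_self _ _, dOne⟩
    · exact ⟨St, Finset.mem_insert_of_mem (Finset.mem_insert_self _ _), dSt⟩
    · obtain ⟨χ, hχ⟩ := hXne
      exact ⟨χ, Finset.mem_insert_of_mem (Finset.mem_insert_of_mem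
        (Finset.mem_union_left _ (Finset.mem_union_left _ hχ))), dX χ hχ⟩
    · obtain ⟨χ, hχ⟩ := hYne
      exact ⟨χ, Finset.mem_insert_of_mem (Finset.mem_insert_of_mem
        (Finset.mem_union_left _ (Finset.mem_union_right _ hχ))), dY χ hχ⟩
    · obtain ⟨χ, hχ⟩ := hZne
      exact ⟨χ, Finset.mem_insert_of_mem (Finset.mem_insert_of_mem
        (Finset.mem_union_right _ hχ)), dZ χ hχ⟩
  · rw [hsum]
    have sX : ∑ χ ∈ X, ((χ : G → ℂ) 1) ^ 2 = (X.card : ℂ) * ((qq m ^ 2 + 1 : ℕ) : ℂ) ^ 2 := by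
      rw [Finset.sum_congr rfl (fun χ h => by rw [(hXp χ h).1]), Finset.sum_const, nsmul_eq_mul]
    have sY : ∑ χ ∈ Y, ((χ : G → ℂ) 1) ^ 2
        = (Y.card : ℂ) * (((qq m - 1) * (qq m - rr m + 1) : ℕ) : ℂ) ^ 2 := by
      rw [Finset.sum_congr rfl (fun χ h => by rw [(hYp χ h).1]), Finset.sum_const, nsmul_eq_mul]
    have sZ : ∑ χ ∈ Z, ((χ : G → ℂ) 1) ^ 2
        = (Z.card : ℂ) * (((qq m - 1) * (qq m + rr m + 1) : ℕ) : ℂ) ^ 2 := by
      rw [Finset.sum_congr rfl (fun χ h => by rw [(hZp χ h).1]), Finset.sum_const, nsmul_eq_mul]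
    rw [sX, sY, sZ, hone1, hSt1, D.card_G]
    push_cast
    rw [e1, e2]
    generalize (qq m : ℂ) = Q at *
    generalize (rr m : ℂ) = R at *
    have hx : (X.card : ℂ) = (Q - 2) / 2 := by linear_combination (1 / 2) * cX
    have hy : (Y.card : ℂ) = (Q + R) / 4 := by linear_combination (1 / 4) * cY
    have hz : (Z.card : ℂ) = (Q - R) / 4 := by linear_combination (1 / 4) * cZ
    have hQR : Q = R ^ 2 / 2 := by rw [e3]; ring
    rw [hx, hy, hz, hQR]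
    ring
  · intro h hh hh1
    rw [hsum]
    have sY : ∑ χ ∈ Y, (χ : G → ℂ) h * conj ((χ : G → ℂ) h) = 0 :=
      Finset.sum_eq_zero (fun χ hχ => by rw [(hYp χ hχ).2 h hh hh1, zero_mul])
    have sZ : ∑ χ ∈ Z, (χ : G → ℂ) h * conj ((χ : G → ℂ) h) = 0 :=
      Finset.sum_eq_zero (fun χ hχ => by rw [(hZp χ hχ).2.1 h hh hh1, zero_mul])
    rw [sY, sZ, hXH h hh hh1, hone, hStH h hh hh1]
    simp
    ring
  · intro a ha ha1
    rw [hsum]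
    have sX : ∑ χ ∈ X, (χ : G → ℂ) a * conj ((χ : G → ℂ) a) = 0 :=
      Finset.sum_eq_zero (fun χ hχ => by rw [(hXp χ hχ).2 a ha ha1, zero_mul])
    have sZ : ∑ χ ∈ Z, (χ : G → ℂ) a * conj ((χ : G → ℂ) a) = 0 :=
      Finset.sum_eq_zero (fun χ hχ => by rw [(hZp χ hχ).2.2 a ha ha1, zero_mul])
    rw [sX, sZ, (hYA a ha ha1).1, hone, hStA a ha ha1]
    simp
    ring
  · intro a ha ha1
    rw [hsum]
    have hYsum : ∑ χ ∈ Y, (χ : G → ℂ) 1 * conj ((χ : G → ℂ) a)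
        = (((qq m - 1) * (qq m - rr m + 1) : ℕ) : ℂ) := by
      rw [Finset.sum_congr rfl (fun χ hχ => by rw [(hYp χ hχ).1]), ← Finset.mul_sum, ← map_sum,
        (hYA a ha ha1).2, map_one, mul_one]
    have sX : ∑ χ ∈ X, (χ : G → ℂ) 1 * conj ((χ : G → ℂ) a) = 0 :=
      Finset.sum_eq_zero (fun χ hχ => by rw [(hXp χ hχ).2 a ha ha1, map_zero, mul_zero])
    have sZ : ∑ χ ∈ Z, (χ : G → ℂ) 1 * conj ((χ : G → ℂ) a) = 0 :=
      Finset.sum_eq_zero (fun χ hχ => by rw [(hZp χ hχ).2.2 a ha ha1, map_zero, mul_zero])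
    rw [sX, sZ, hYsum, hone, hone, hSt1, hStA a ha ha1]
    push_cast
    rw [e1, e2]
    simp
    ring

end Cfsg.Agent.Lib.Helper17_SzChar_PKT3
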