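import Mathlib
import Cfsg.Agent.Lib.Helper56_U320Defs

set_option autoImplicit false

/-!
# S1903 market (helper56, `s1903_packages`), package GENSX, auxiliary form

`gen_of_aux` : `closure {s, x} = ⊤` from the conclusions of SYL (`decomp`), ZC (`ZP_central`) and the
last component of LIFT (`lift_facts`) for the given `s`, `x`, taken as hypotheses.
-/

open Cfsg.Agent.Lib.Helper56_U320Defs
open scoped commutatorElement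

namespace Cfsg.Agent.Lib.Helper17_U320_GENSXaux

variable {G : Type*} [Group G]

theorem pw_mem {H : Subgroup G} {g : G} (hg : g ∈ H) (b : Bool) : pw g b ∈ H := by
  cases b
  · exact H.one_mem
  · exact hg

theorem cj_mem {H : Subgroup G} {s x : G} (hs : s ∈ H) (hx : x ∈ H) (i : ℕ) : cj s x i ∈ H :=
  H.mul_mem (H.mul_mem (H.pow_mem hs i) hx) (H.inv_mem (H.pow_mem hs i))

theorem xpw_mem {H : Subgroup G} {y0 y1 y2 y3 : G} (h0 : y0 ∈ H) (h1 : y1 ∈ H) (h2 : y2 ∈ H)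
    (h3 : y3 ∈ H) (β : Bits) : xpw y0 y1 y2 y3 β ∈ H :=
  H.mul_mem (H.mul_mem (H.mul_mem (pw_mem h0 _) (pw_mem h1 _)) (pw_mem h2 _)) (pw_mem h3 _)

/-- GENSX with its three dependencies as hypotheses -/
theorem gen_of_aux (s x : G)
    (hdec : ∀ g : G, ∃ j : ℕ, ∃ a ∈ commutator G, g = s ^ j * a)
    (hcen : ∀ z ∈ ZP G, ∀ g : G, z * g = g * z)
    (hlift : ∀ b ∈ commutator G, ∃ β : Bits, ∃ z ∈ ZP G,
      b = xpw x (cj s x 1) (cj s x 2) (cj s x 3) β * z) :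
    Subgroup.closure ({s, x} : Set G) = ⊤ := by
  set H : Subgroup G := Subgroup.closure ({s, x} : Set G) with hH
  have hs : s ∈ H := Subgroup.subset_closure (by simp)
  have hx : x ∈ H := Subgroup.subset_closure (by simp)
  -- every element is `h * z`, `h ∈ H`, `z` central
  have hfac : ∀ g : G, ∃ h ∈ H, ∃ z : G, (∀ y : G, z * y = y * z) ∧ g = h * z := by
    intro g
    obtain ⟨j, a, ha, rfl⟩ := hdec g
    obtain ⟨β, z, hz, rfl⟩ := hlift a ha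
    refine ⟨s ^ j * xpw x (cj s x 1) (cj s x 2) (cj s x 3) β,
      H.mul_mem (H.pow_mem hs j) (xpw_mem hx (cj_mem hs hx 1) (cj_mem hs hx 2) (cj_mem hs hx 3) β),
      z, hcen z hz, ?_⟩
    rw [mul_assoc]
  -- commutators lie in `H`
  have hcomm : commutator G ≤ H := by
    rw [commutator_eq_closure, Subgroup.closure_le]
    rintro c ⟨g₁, g₂, rfl⟩
    obtain ⟨h₁, hh₁, z₁, hz₁, rfl⟩ := hfac g₁
    obtain ⟨h₂, hh₂, z₂, hz₂, rfl⟩ := hfac g₂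
    have hz₁' : ∀ y : G, z₁⁻¹ * y = y * z₁⁻¹ := by
      intro y
      have := hz₁ (z₁⁻¹ * y * z₁⁻¹)
      calc z₁⁻¹ * y = z₁⁻¹ * y * z₁⁻¹ * z₁ := by group
        _ = z₁ * (z₁⁻¹ * y * z₁⁻¹) := by rw [hz₁ (z₁⁻¹ * y * z₁⁻¹)]
        _ = y * z₁⁻¹ := by group
    have hz₂' : ∀ y : G, z₂⁻¹ * y = y * z₂⁻¹ := by
      intro y
      calc z₂⁻¹ * y = z₂⁻¹ * y * z₂⁻¹ * z₂ := by group
        _ = z₂ * (z₂⁻¹ * y * z₂⁻¹) := by rw [hz₂ (z₂⁻¹ * y * z₂⁻¹)]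
        _ = y * z₂⁻¹ := by group
    have heq : ⁅h₁ * z₁, h₂ * z₂⁆ = ⁅h₁, h₂⁆ := by
      rw [commutatorElement_def, commutatorElement_def, mul_inv_rev, mul_inv_rev]
      calc h₁ * z₁ * (h₂ * z₂) * (z₁⁻¹ * h₁⁻¹) * (z₂⁻¹ * h₂⁻¹)
          = h₁ * (z₁ * h₂) * (z₂ * z₁⁻¹) * h₁⁻¹ * (z₂⁻¹ * h₂⁻¹) := by group
        _ = h₁ * (h₂ * z₁) * (z₁⁻¹ * z₂) * h₁⁻¹ * (h₂⁻¹ * z₂⁻¹) := by
            rw [hz₁ h₂, hz₂ z₁⁻¹, hz₂' h₂⁻¹]
        _ = h₁ * h₂ * (z₂ * h₁⁻¹) * h₂⁻¹ * z₂⁻¹ := by group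
        _ = h₁ * h₂ * (h₁⁻¹ * z₂) * h₂⁻¹ * z₂⁻¹ := by rw [hz₂ h₁⁻¹]
        _ = h₁ * h₂ * h₁⁻¹ * (z₂ * h₂⁻¹) * z₂⁻¹ := by group
        _ = h₁ * h₂ * h₁⁻¹ * (h₂⁻¹ * z₂) * z₂⁻¹ := by rw [hz₂ h₂⁻¹]
        _ = h₁ * h₂ * h₁⁻¹ * h₂⁻¹ := by group
    rw [heq, commutatorElement_def]
    exact H.mul_mem (H.mul_mem (H.mul_mem hh₁ hh₂) (H.inv_mem hh₁)) (H.inv_mem hh₂)
  rw [eq_top_iff]
  intro g _
  obtain ⟨j, a, ha, rfl⟩ := hdec g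
  exact H.mul_mem (H.pow_mem hs j) (hcomm ha)

end Cfsg.Agent.Lib.Helper17_U320_GENSXaux
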