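import Mathlib
import Cfsg.Agent.Lib.Helper56_U320Defs
set_option autoImplicit false
open Cfsg.Agent.Lib.Helper56_U320Defs

/-!
# S1903 market, package LIFT (auxiliary form)

`lift_facts_aux` is the statement of `lift_facts` with the conclusions of the packages it depends on
(`ZP_facts`, `quot_facts`, `fpf16`, `gen16`, the last two for `K = G ⧸ ZP G`) as hypotheses.
-/

namespace Cfsg.Agent.Lib.Helper1_U320_LIFTaux

section
variable {G : Type*} [Group G]

theorem cj_mem_commutator (s x : G) (hx : x ∈ commutator G) (i : ℕ) : cj s x i ∈ commutator G := by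
  unfold cj
  exact (inferInstance : (commutator G).Normal).conj_mem x hx (s ^ i)

theorem map_cj {H : Type*} [Group H] (f : G →* H) (s x : G) (i : ℕ) :
    f (cj s x i) = cj (f s) (f x) i := by
  simp [cj, map_mul, map_pow, map_inv]

theorem map_xpw {H : Type*} [Group H] (f : G →* H) (y0 y1 y2 y3 : G) (β : Bits) :
    f (xpw y0 y1 y2 y3 β) = xpw (f y0) (f y1) (f y2) (f y3) β := by
  obtain ⟨b0, b1, b2, b3⟩ := β
  cases b0 <;> cases b1 <;> cases b2 <;> cases b3 <;> simp [xpw, pw, map_mul]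

theorem xpw_mem (P : Subgroup G) (y0 y1 y2 y3 : G) (h0 : y0 ∈ P) (h1 : y1 ∈ P) (h2 : y2 ∈ P)
    (h3 : y3 ∈ P) (β : Bits) : xpw y0 y1 y2 y3 β ∈ P := by
  have hp : ∀ (y : G) (_ : y ∈ P) (b : Bool), pw y b ∈ P := by
    intro y hy b
    cases b
    · simp
    · simpa using hy
  unfold xpw
  exact P.mul_mem (P.mul_mem (P.mul_mem (hp _ h0 _) (hp _ h1 _)) (hp _ h2 _)) (hp _ h3 _)



theorem lift_facts_aux [hN : (ZP G).Normal]
    (hZP : Nat.card (ZP G) = 4)
    (hQ : commutator (G ⧸ ZP G) = (commutator G).map (QuotientGroup.mk' (ZP G)))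
    (hF : (∀ a ∈ commutator (G ⧸ ZP G), a * a = 1) ∧
      (∀ a ∈ commutator (G ⧸ ZP G), ∀ b ∈ commutator (G ⧸ ZP G), a * b = b * a))
    (hGen : ∀ (t : G ⧸ ZP G), orderOf t = 5 → ∀ a : G ⧸ ZP G, a ∈ commutator (G ⧸ ZP G) → a ≠ 1 →
      a * cj t a 1 * cj t a 2 * cj t a 3 * cj t a 4 = 1 ∧
      ∀ b ∈ commutator (G ⧸ ZP G), ∃ β : Bits, b = xpw a (cj t a 1) (cj t a 2) (cj t a 3) β) :
    (∀ a ∈ commutator G, ∀ b ∈ commutator G, a * b * a⁻¹ * b⁻¹ ∈ ZP G) ∧
    (∀ a ∈ commutator G, a * a ∈ ZP G) ∧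
    ∀ s : G, orderOf s = 5 → ∀ x ∈ commutator G, x ∉ ZP G →
      (∃ w ∈ ZP G, cj s x 4 = x * cj s x 1 * cj s x 2 * cj s x 3 * w) ∧
      ∀ b ∈ commutator G, ∃ β : Bits, ∃ z ∈ ZP G,
        b = xpw x (cj s x 1) (cj s x 2) (cj s x 3) β * z := by
  set mk := QuotientGroup.mk' (ZP G) with hmk
  have mem_iff : ∀ g : G, mk g = 1 ↔ g ∈ ZP G := fun g => QuotientGroup.eq_one_iff g
  have hmem : ∀ a ∈ commutator G, mk a ∈ commutator (G ⧸ ZP G) := by
    intro a ha
    rw [hQ]
    exact Subgroup.mem_map_of_mem _ ha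
  refine ⟨?_, ?_, ?_⟩
  · intro a ha b hb
    rw [← mem_iff]
    have h := hF.2 _ (hmem a ha) _ (hmem b hb)
    simp only [map_mul, map_inv]
    rw [h]
    group
  · intro a ha
    rw [← mem_iff]
    simpa [map_mul] using hF.1 _ (hmem a ha)
  · intro s hs x hx hxZ
    -- order of the image of `s`
    have ht : orderOf (mk s) = 5 := by
      have h5 : (mk s) ^ 5 = 1 := by
        rw [← map_pow, ← hs, pow_orderOf_eq_one, map_one]
      have hd : orderOf (mk s) ∣ 5 := orderOf_dvd_of_pow_eq_one h5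
      rcases (Nat.dvd_prime (by norm_num : Nat.Prime 5)).1 hd with h1 | h5'
      · exfalso
        rw [orderOf_eq_one_iff, mem_iff] at h1
        -- `s ∈ ZP G`, a group of order 4
        have h4 : s ^ 4 = 1 := by
          have h := pow_card_eq_one' (G := ZP G) (x := (⟨s, h1⟩ : ZP G))
          rw [hZP] at h
          simpa [Subtype.ext_iff] using h
        have : 5 ∣ 4 := by
          rw [← hs]; exact orderOf_dvd_of_pow_eq_one h4
        omega
      · exact h5'
    have ha : mk x ∈ commutator (G ⧸ ZP G) := hmem x hx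
    have ha1 : mk x ≠ 1 := by
      intro h; exact hxZ ((mem_iff x).1 h)
    obtain ⟨hprod, hall⟩ := hGen (mk s) ht (mk x) ha ha1
    have hX : ∀ i, cj s x i ∈ commutator G := cj_mem_commutator s x hx
    refine ⟨⟨(x * cj s x 1 * cj s x 2 * cj s x 3)⁻¹ * cj s x 4, ?_, by group⟩, ?_⟩
    · rw [← mem_iff]
      have hu : x * cj s x 1 * cj s x 2 * cj s x 3 ∈ commutator G :=
        (commutator G).mul_mem ((commutator G).mul_mem ((commutator G).mul_mem hx (hX 1)) (hX 2)) (hX 3)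
      have hu2 := hF.1 _ (hmem _ hu)
      have hp : mk (x * cj s x 1 * cj s x 2 * cj s x 3) * mk (cj s x 4) = 1 := by
        simp only [map_mul, map_cj]
        exact hprod
      rw [map_mul, map_inv]
      have h4 : mk (cj s x 4) = (mk (x * cj s x 1 * cj s x 2 * cj s x 3))⁻¹ :=
        eq_inv_of_mul_eq_one_right hp
      rw [h4, ← mul_inv_rev, hu2, inv_one]
    · intro b hb
      obtain ⟨β, hβ⟩ := hall (mk b) (hmem b hb)
      refine ⟨β, (xpw x (cj s x 1) (cj s x 2) (cj s x 3) β)⁻¹ * b, ?_, by group⟩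
      rw [← mem_iff, map_mul, map_inv, hβ, map_xpw, map_cj, map_cj, map_cj]
      group

end

end Cfsg.Agent.Lib.Helper1_U320_LIFTaux
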