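import Mathlib
import Cfsg.Agent.Lib.Helper56_U320Defs

/-!
# S1903 market (architect helper56), package FPF (helper25)

`K` of order 80 with derived subgroup `A` of order 16: `A` is elementary abelian and every element of
order 5 acts on it without nontrivial fixed points.
-/

set_option autoImplicit false

open Cfsg.Agent.Lib.Helper56_U320Defs

namespace Cfsg.Agent.Lib.Helper25_U320_FPF

open MulAction ConjAct

variable {K : Type*} [Group K]

/-- the fixed points of `⟨t⟩` acting by conjugation on a normal subgroup -/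
lemma mem_fixed (N : Subgroup K) [N.Normal] (t : K) (n : N) :
    n ∈ fixedPoints (Subgroup.zpowers (toConjAct t)) N ↔ t * (n : K) = (n : K) * t := by
  constructor
  · intro h
    have h1 := h ⟨toConjAct t, Subgroup.mem_zpowers _⟩
    have h2 : ((toConjAct t • n : N) : K) = (n : K) := congrArg Subtype.val h1
    rw [ConjAct.Subgroup.val_conj_smul, ConjAct.toConjAct_smul] at h2
    calc t * (n : K) = t * (n : K) * t⁻¹ * t := by group
      _ = (n : K) * t := by rw [h2]
  · intro h p
    obtain ⟨p, hp⟩ := p
    have hle : Subgroup.zpowers (toConjAct t) ≤ stabilizer (ConjAct K) n := by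
      rw [Subgroup.zpowers_le, mem_stabilizer_iff]
      apply Subtype.ext
      rw [ConjAct.Subgroup.val_conj_smul, ConjAct.toConjAct_smul, h, mul_inv_cancel_right]
    exact hle hp

variable [Finite K]

/-- counting modulo 5 -/
lemma card_modEq (N : Subgroup K) [N.Normal] (t : K) (ht : orderOf t = 5) :
    Nat.card N ≡ Nat.card (fixedPoints (Subgroup.zpowers (toConjAct t)) N) [MOD 5] := by
  have : Fact (Nat.Prime 5) := ⟨by norm_num⟩
  have hP : IsPGroup 5 (Subgroup.zpowers (toConjAct (G := K) t)) := by
    apply IsPGroup.of_card (n := 1)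
    rw [Nat.card_zpowers, pow_one, ← ht]
    exact (toConjAct (G := K)).orderOf_eq t
  exact hP.card_modEq_card_fixedPoints N

/-- a subgroup containing a subgroup of order 16 and an element of order 5 is everything -/
lemma eq_top_of (hK : Nat.card K = 80) (H A : Subgroup K) (hA : Nat.card A = 16) (hAH : A ≤ H)
    (t : K) (ht : orderOf t = 5) (htH : t ∈ H) : H = ⊤ := by
  have h1 : 16 ∣ Nat.card H := hA ▸ Subgroup.card_dvd_of_le hAH
  have h2 : 5 ∣ Nat.card H := by
    have := Subgroup.card_dvd_of_le ((Subgroup.zpowers_le (g := t)).2 htH)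
    rwa [Nat.card_zpowers, ht] at this
  have h3 : 80 ∣ Nat.card H :=
    (Nat.Coprime.mul_dvd_of_dvd_of_dvd (by norm_num : Nat.Coprime 16 5) h1 h2)
  have h4 : Nat.card H ∣ 80 := hK ▸ Subgroup.card_subgroup_dvd_card H
  have h5 : Nat.card H = Nat.card K := by rw [hK]; exact Nat.dvd_antisymm h4 h3
  exact (Subgroup.card_eq_iff_eq_top H).1 h5

/-- statement 3 -/
lemma fix_trivial (hK : Nat.card K = 80) (hK' : Nat.card (commutator K) = 16) (t : K)
    (ht : orderOf t = 5) : ∀ a ∈ commutator K, t * a = a * t → a = 1 := by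
  classical
  set A := commutator K with hAdef
  -- the centraliser of `t` in `A`
  set C : Subgroup A := (Subgroup.centralizer {t}).subgroupOf A with hC
  have hCfix : ∀ n : A, n ∈ fixedPoints (Subgroup.zpowers (toConjAct t)) A ↔ n ∈ C := by
    intro n
    rw [mem_fixed, hC, Subgroup.mem_subgroupOf, Subgroup.mem_centralizer_iff]
    constructor
    · intro h x hx
      rw [Set.mem_singleton_iff] at hx
      rw [hx, h]
    · intro h
      exact (h t rfl)
  have hcardC : Nat.card (fixedPoints (Subgroup.zpowers (toConjAct t)) A) = Nat.card C := by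
    apply Nat.card_congr
    exact Equiv.subtypeEquivRight hCfix
  have hmod := card_modEq A t ht
  rw [hcardC, hK'] at hmod
  have hdvd : Nat.card C ∣ 16 := hK' ▸ Subgroup.card_subgroup_dvd_card C
  have hle : Nat.card C ≤ 16 := Nat.le_of_dvd (by norm_num) hdvd
  have hcases : Nat.card C = 1 ∨ Nat.card C = 16 := by
    unfold Nat.ModEq at hmod
    interval_cases (Nat.card C) <;> simp_all
  rcases hcases with h1 | h16
  · intro a ha hta
    have : (⟨a, ha⟩ : A) ∈ C := (hCfix ⟨a, ha⟩).1 ((mem_fixed A t ⟨a, ha⟩).2 hta)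
    have hbot : C = ⊥ := Subgroup.card_eq_one.1 h1
    rw [hbot, Subgroup.mem_bot] at this
    exact congrArg Subtype.val this
  · exfalso
    have hCtop : C = ⊤ := (Subgroup.card_eq_iff_eq_top C).1 (by rw [h16, hK'])
    have hcomm : ∀ a ∈ A, t * a = a * t := by
      intro a ha
      have : (⟨a, ha⟩ : A) ∈ C := by rw [hCtop]; exact Subgroup.mem_top _
      exact (mem_fixed A t ⟨a, ha⟩).1 ((hCfix ⟨a, ha⟩).2 this)
    -- `t` is central
    have hcent : Subgroup.centralizer {t} = (⊤ : Subgroup K) := by
      apply eq_top_of hK _ A hK' _ t ht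
      · rw [Subgroup.mem_centralizer_iff]
        intro x hx
        rw [Set.mem_singleton_iff] at hx
        rw [hx]
      · intro a ha
        rw [Subgroup.mem_centralizer_iff]
        intro x hx
        rw [Set.mem_singleton_iff] at hx
        rw [hx, hcomm a ha]
    have htc : ∀ g : K, g * t = t * g := by
      intro g
      have : g ∈ Subgroup.centralizer {t} := by rw [hcent]; exact Subgroup.mem_top _
      rw [Subgroup.mem_centralizer_iff] at this
      exact (this t rfl).symm
    set Z : Subgroup K := Subgroup.zpowers t with hZ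
    have hZn : Z.Normal := by
      constructor
      intro n hn g
      have hgn : g * n = n * g := by
        obtain ⟨k, rfl⟩ := Subgroup.mem_zpowers_iff.1 hn
        exact ((Commute.zpow_right (htc g) k)).eq
      rw [hgn, mul_inv_cancel_right]
      exact hn
    have hAZ : A ⊔ Z = ⊤ :=
      eq_top_of hK _ A hK' le_sup_left t ht (le_sup_right (a := A) (Subgroup.mem_zpowers t))
    have hcardQ : Nat.card (K ⧸ Z) = 16 := by
      have := Subgroup.card_eq_card_quotient_mul_card_subgroup Z
      rw [hK, Nat.card_zpowers, ht] at this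
      omega
    have hpQ : IsPGroup 2 (K ⧸ Z) := IsPGroup.of_card (n := 4) (by rw [hcardQ]; norm_num)
    have : Fact (Nat.Prime 2) := ⟨Nat.prime_two⟩
    have hnil : Group.IsNilpotent (K ⧸ Z) := hpQ.isNilpotent
    have hnt : Nontrivial (K ⧸ Z) := by
      apply (Finite.one_lt_card_iff_nontrivial).1
      rw [hcardQ]
      norm_num
    have hlt : commutator (K ⧸ Z) < ⊤ := Group.IsSolvable.commutator_lt_top_of_nontrivial (K ⧸ Z)
    have hmap : commutator (K ⧸ Z) = A.map (QuotientGroup.mk' Z) := by
      rw [hAdef, commutator_def, commutator_def, Subgroup.map_commutator,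
        ← MonoidHom.range_eq_map, MonoidHom.range_eq_top.2 (QuotientGroup.mk'_surjective Z)]
    have hrange : A.map (QuotientGroup.mk' Z) = (QuotientGroup.mk' Z).range := by
      rw [Subgroup.map_eq_range_iff, QuotientGroup.ker_mk', codisjoint_iff]
      exact hAZ
    rw [hmap, hrange, MonoidHom.range_eq_top.2 (QuotientGroup.mk'_surjective Z)] at hlt
    exact lt_irrefl _ hlt

/-- a nontrivial normal subgroup of `K` inside `A` is `A` -/
lemma eq_of_normal (hK' : Nat.card (commutator K) = 16) (t : K) (ht : orderOf t = 5)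
    (hfix : ∀ a ∈ commutator K, t * a = a * t → a = 1)
    (N : Subgroup K) [N.Normal] (hN : N ≤ commutator K) (hN1 : N ≠ ⊥) : N = commutator K := by
  classical
  have hcard1 : Nat.card (fixedPoints (Subgroup.zpowers (toConjAct t)) N) = 1 := by
    rw [Nat.card_eq_one_iff_unique]
    refine ⟨⟨?_⟩, ⟨⟨1, ?_⟩⟩⟩
    · rintro ⟨a, ha⟩ ⟨b, hb⟩
      have ha1 := hfix a (hN a.2) ((mem_fixed N t a).1 ha)
      have hb1 := hfix b (hN b.2) ((mem_fixed N t b).1 hb)
      apply Subtype.ext
      apply Subtype.ext
      rw [ha1, hb1]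
    · rw [mem_fixed]
      simp
  have hmod := card_modEq N t ht
  rw [hcard1] at hmod
  have hdvd : Nat.card N ∣ 16 := hK' ▸ Subgroup.card_dvd_of_le hN
  have hle : Nat.card N ≤ 16 := Nat.le_of_dvd (by norm_num) hdvd
  have hne1 : Nat.card N ≠ 1 := fun h => hN1 (Subgroup.card_eq_one.1 h)
  have h16 : Nat.card N = 16 := by
    unfold Nat.ModEq at hmod
    interval_cases (Nat.card N) <;> simp_all
  exact Subgroup.eq_of_le_of_card_ge hN (by rw [h16, hK'])

theorem fpf16 (hK : Nat.card K = 80) (hK' : Nat.card (commutator K) = 16) :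
    (∀ a ∈ commutator K, a * a = 1) ∧
    (∀ a ∈ commutator K, ∀ b ∈ commutator K, a * b = b * a) ∧
    (∀ t : K, orderOf t = 5 → ∀ a ∈ commutator K, t * a = a * t → a = 1) := by
  classical
  have h3 : ∀ t : K, orderOf t = 5 → ∀ a ∈ commutator K, t * a = a * t → a = 1 :=
    fun t ht => fix_trivial hK hK' t ht
  -- an element of order 5
  have : Fact (Nat.Prime 5) := ⟨by norm_num⟩
  have : Fact (Nat.Prime 2) := ⟨Nat.prime_two⟩
  obtain ⟨t, ht⟩ := exists_prime_orderOf_dvd_card' (G := K) 5 (by rw [hK]; norm_num)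
  set A := commutator K with hAdef
  -- `A` is abelian
  have hpA : IsPGroup 2 A := IsPGroup.of_card (n := 4) (by rw [hK']; norm_num)
  have hntA : Nontrivial A := by
    apply (Finite.one_lt_card_iff_nontrivial).1
    rw [hK']
    norm_num
  have h2 : ∀ a ∈ A, ∀ b ∈ A, a * b = b * a := by
    have hZn : ((Subgroup.center A).map A.subtype).Normal :=
      ConjAct.normal_of_characteristic_of_normal
    have hZ1 : (Subgroup.center A).map A.subtype ≠ ⊥ := by
      have hnt : Nontrivial (Subgroup.center A) := hpA.center_nontrivial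
      intro h
      rw [(Subgroup.map_eq_bot_iff_of_injective _ (Subgroup.subtype_injective A))] at h
      rw [h] at hnt
      exact not_nontrivial _ hnt
    have hZA : (Subgroup.center A).map A.subtype = A :=
      eq_of_normal hK' t ht (h3 t ht) _ (Subgroup.map_subtype_le _) hZ1
    intro a ha b hb
    have : a ∈ (Subgroup.center A).map A.subtype := by rw [hZA]; exact ha
    obtain ⟨a', ha', rfl⟩ := this
    rw [SetLike.mem_coe, Subgroup.mem_center_iff] at ha'
    have := ha' ⟨b, hb⟩
    exact (congrArg Subtype.val this).symm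
  -- the elements of order at most two
  refine ⟨?_, h2, h3⟩
  let Ω : Subgroup K :=
    { carrier := {a | a ∈ A ∧ a * a = 1}
      one_mem' := ⟨A.one_mem, by simp⟩
      mul_mem' := by
        rintro a b ⟨ha, ha2⟩ ⟨hb, hb2⟩
        refine ⟨A.mul_mem ha hb, ?_⟩
        calc a * b * (a * b) = a * (b * a) * b := by group
          _ = a * (a * b) * b := by rw [h2 a ha b hb]
          _ = (a * a) * (b * b) := by group
          _ = 1 := by rw [ha2, hb2, one_mul]
      inv_mem' := by
        rintro a ⟨ha, ha2⟩
        refine ⟨A.inv_mem ha, ?_⟩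
        calc a⁻¹ * a⁻¹ = (a * a)⁻¹ := by group
          _ = 1 := by rw [ha2, inv_one] }
  have hΩn : Ω.Normal := by
    constructor
    rintro a ⟨ha, ha2⟩ g
    have hAn : A.Normal := by rw [hAdef]; infer_instance
    refine ⟨hAn.conj_mem a ha g, ?_⟩
    calc g * a * g⁻¹ * (g * a * g⁻¹) = g * (a * a) * g⁻¹ := by group
      _ = 1 := by rw [ha2]; group
  have hΩ1 : Ω ≠ ⊥ := by
    obtain ⟨a, ha⟩ := exists_prime_orderOf_dvd_card' (G := A) 2 (by rw [hK']; norm_num)
    intro h
    have hmem : (a : K) ∈ Ω := by
      refine ⟨a.2, ?_⟩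
      have : a ^ 2 = 1 := by rw [← ha]; exact pow_orderOf_eq_one a
      have h' := congrArg Subtype.val this
      rw [Subgroup.coe_pow, Subgroup.coe_one, pow_two] at h'
      exact h'
    rw [h, Subgroup.mem_bot] at hmem
    have : a = 1 := Subtype.ext hmem
    rw [this, orderOf_one] at ha
    norm_num at ha
  have hΩA : Ω = A := eq_of_normal hK' t ht (h3 t ht) Ω (fun a ha => ha.1) hΩ1
  intro a ha
  have : a ∈ Ω := by rw [hΩA]; exact ha
  exact this.2

end Cfsg.Agent.Lib.Helper25_U320_FPF
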