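import Mathlib
import Cfsg.Agent.Lib.Helper56_U320Defs

/-! S1903 market, package REL: commutation relations among the conjugates `cj s x i`. -/

set_option autoImplicit false
open Cfsg.Agent.Lib.Helper56_U320Defs

namespace Cfsg.Agent.Lib.Helper56_U320_REL

variable {G : Type*} [Group G]

theorem cj_zero (s x : G) : cj s x 0 = x := by
  simp [cj]

theorem cj_succ (s x : G) (i : ℕ) : cj s x (i + 1) = s * cj s x i * s⁻¹ := by
  simp only [cj, pow_succ', mul_inv_rev, mul_assoc]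

theorem cj_add_five {s : G} (hs : s ^ 5 = 1) (x : G) (i : ℕ) : cj s x (i + 5) = cj s x i := by
  simp only [cj, pow_add, hs, mul_one]

/-- conjugating a relation `a * b = b * a * c` with `c` central -/
theorem conj_rel {s a b c : G} (hc : ∀ g : G, c * g = g * c) (h : a * b = b * a * c) :
    (s * a * s⁻¹) * (s * b * s⁻¹) = (s * b * s⁻¹) * (s * a * s⁻¹) * c := by
  have h1 : (s * a * s⁻¹) * (s * b * s⁻¹) = s * (a * b) * s⁻¹ := by group
  have h2 : (s * b * s⁻¹) * (s * a * s⁻¹) * c = s * (b * a * c) * s⁻¹ := by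
    have : s * (b * a * c) * s⁻¹ = s * (b * a) * (c * s⁻¹) := by group
    rw [this, hc s⁻¹]
    group
  rw [h1, h2, h]

theorem rel_succ {s x c : G} (hc : ∀ g : G, c * g = g * c) {i j : ℕ}
    (h : cj s x i * cj s x j = cj s x j * cj s x i * c) :
    cj s x (i + 1) * cj s x (j + 1) = cj s x (j + 1) * cj s x (i + 1) * c := by
  rw [cj_succ, cj_succ]
  exact conj_rel hc h

theorem rel_all {s x c1 c2 : G} (h : Core s x c1 c2) :
    cj s x 1 * x = x * cj s x 1 * c1 ∧ cj s x 2 * x = x * cj s x 2 * c2 ∧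
    cj s x 3 * x = x * cj s x 3 * c2 ∧
    cj s x 2 * cj s x 1 = cj s x 1 * cj s x 2 * c1 ∧
    cj s x 3 * cj s x 1 = cj s x 1 * cj s x 3 * c2 ∧
    cj s x 3 * cj s x 2 = cj s x 2 * cj s x 3 * c1 := by
  have r1 : cj s x 1 * cj s x 0 = cj s x 0 * cj s x 1 * c1 := by rw [cj_zero]; exact h.r1
  have r2 : cj s x 2 * cj s x 0 = cj s x 0 * cj s x 2 * c2 := by rw [cj_zero]; exact h.r2
  have r21 := rel_succ h.c1c r1
  have r32 := rel_succ h.c1c r21
  have r31 := rel_succ h.c2c r2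
  have r42 := rel_succ h.c2c r31
  have r53 := rel_succ h.c2c r42
  -- `cj s x 5 = x`
  have h5 : cj s x (0 + 5) = cj s x 0 := cj_add_five h.s5 x 0
  rw [show (4 : ℕ) + 1 = 0 + 5 by norm_num, h5, cj_zero, show (2 : ℕ) + 1 = 3 by norm_num] at r53
  refine ⟨h.r1, h.r2, ?_, r21, r31, r32⟩
  -- from `x * X3 = X3 * x * c2` get `X3 * x = x * X3 * c2`
  have : cj s x 3 * x = x * cj s x 3 * c2⁻¹ := by
    rw [r53]; group
  have hinv : c2⁻¹ = c2 := by
    rw [inv_eq_iff_mul_eq_one]; exact h.c2sq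
  rw [this, hinv]

end Cfsg.Agent.Lib.Helper56_U320_REL
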