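import Mathlib
import Cfsg.Agent.Lib.Helper56_U320Defs
import Cfsg.Agent.Lib.Helper56_U320_REL
import Cfsg.Agent.Lib.Helper25_U320_FPF
set_option autoImplicit false
open Cfsg.Agent.Lib.Helper56_U320Defs Cfsg.Agent.Lib.Helper56_U320_REL

/-!
# S1903 market, package GEN16

`K` of order 80 with derived subgroup `A` of order 16 (elementary abelian, elements of order 5 act without fixed
points, by `fpf16`).  For `1 ≠ a ∈ A` and `t` of order 5, with `a_i = t^i a t^-i`: the product `a a_1 a_2 a_3 a_4` is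
fixed by `t`, so it is `1`; the subgroup generated by `a, a_1, a_2, a_3` is `t`-invariant and not trivial, its order
is `≡ 1 (mod 5)` and divides 16, so it is `A`; and its elements are the 16 products `a^β0 a_1^β1 a_2^β2 a_3^β3`.
-/

namespace Cfsg.Agent.Lib.Helper27_U320_GEN16

/-! ### The abstract statement: an automorphism of order five without fixed points -/

section abstract
variable {C : Type*} [CommGroup C]

theorem pw_mul_pw {g : C} (hg : g * g = 1) (b b' : Bool) : pw g b * pw g b' = pw g (xor b b') := by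
  cases b <;> cases b' <;> simp [pw, hg]

theorem xpw_mul {y0 y1 y2 y3 : C} (h0 : y0 * y0 = 1) (h1 : y1 * y1 = 1) (h2 : y2 * y2 = 1)
    (h3 : y3 * y3 = 1) (β β' : Bits) :
    xpw y0 y1 y2 y3 β * xpw y0 y1 y2 y3 β' =
      xpw y0 y1 y2 y3 (xor β.1 β'.1, xor β.2.1 β'.2.1, xor β.2.2.1 β'.2.2.1, xor β.2.2.2 β'.2.2.2) := by
  unfold xpw
  simp only
  rw [← pw_mul_pw h0, ← pw_mul_pw h1, ← pw_mul_pw h2, ← pw_mul_pw h3]
  ac_rfl

theorem mem_closure_xpw (hsq : ∀ c : C, c * c = 1) (y0 y1 y2 y3 : C) {c : C}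
    (hc : c ∈ Subgroup.closure ({y0, y1, y2, y3} : Set C)) : ∃ β : Bits, c = xpw y0 y1 y2 y3 β := by
  induction hc using Subgroup.closure_induction with
  | mem x hx =>
    simp only [Set.mem_insert_iff, Set.mem_singleton_iff] at hx
    rcases hx with rfl | rfl | rfl | rfl
    · exact ⟨(true, false, false, false), by simp [xpw]⟩
    · exact ⟨(false, true, false, false), by simp [xpw]⟩
    · exact ⟨(false, false, true, false), by simp [xpw]⟩
    · exact ⟨(false, false, false, true), by simp [xpw]⟩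
  | one => exact ⟨(false, false, false, false), by simp [xpw]⟩
  | mul x y _ _ hx hy =>
    obtain ⟨β, rfl⟩ := hx
    obtain ⟨β', rfl⟩ := hy
    exact ⟨_, xpw_mul (hsq _) (hsq _) (hsq _) (hsq _) β β'⟩
  | inv x _ hx =>
    obtain ⟨β, rfl⟩ := hx
    exact ⟨β, inv_eq_of_mul_eq_one_left (hsq _)⟩

variable [Finite C]

theorem abstract_gen (hcard : Nat.card C = 16) (hsq : ∀ c : C, c * c = 1) (τ : C ≃* C)
    (hτ5 : ∀ c, τ (τ (τ (τ (τ c)))) = c) (hfix : ∀ c, τ c = c → c = 1) (y : C) (hy : y ≠ 1) :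
    y * τ y * τ (τ y) * τ (τ (τ y)) * τ (τ (τ (τ y))) = 1 ∧
    ∀ c : C, ∃ β : Bits, c = xpw y (τ y) (τ (τ y)) (τ (τ (τ y))) β := by
  have hN : y * τ y * τ (τ y) * τ (τ (τ y)) * τ (τ (τ (τ y))) = 1 := by
    apply hfix
    rw [map_mul, map_mul, map_mul, map_mul, hτ5]
    ac_rfl
  refine ⟨hN, ?_⟩
  set W : Subgroup C := Subgroup.closure ({y, τ y, τ (τ y), τ (τ (τ y))} : Set C) with hW
  have hy0 : y ∈ W := Subgroup.subset_closure (by simp)
  have hy1 : τ y ∈ W := Subgroup.subset_closure (by simp)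
  have hy2 : τ (τ y) ∈ W := Subgroup.subset_closure (by simp)
  have hy3 : τ (τ (τ y)) ∈ W := Subgroup.subset_closure (by simp)
  have hy4 : τ (τ (τ (τ y))) ∈ W := by
    have : τ (τ (τ (τ y))) = (y * τ y * τ (τ y) * τ (τ (τ y)))⁻¹ := by
      rw [eq_inv_iff_mul_eq_one, mul_comm]
      exact hN
    rw [this]
    exact W.inv_mem (W.mul_mem (W.mul_mem (W.mul_mem hy0 hy1) hy2) hy3)
  -- invariance
  have hinv : ∀ w ∈ W, τ w ∈ W := by
    intro w hw
    induction hw using Subgroup.closure_induction with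
    | mem x hx =>
      simp only [Set.mem_insert_iff, Set.mem_singleton_iff] at hx
      rcases hx with rfl | rfl | rfl | rfl
      · exact hy1
      · exact hy2
      · exact hy3
      · exact hy4
    | one => rw [map_one]; exact W.one_mem
    | mul x y _ _ hx hy => rw [map_mul]; exact W.mul_mem hx hy
    | inv x _ hx => rw [map_inv]; exact W.inv_mem hx
  have hinv' : ∀ w, τ w ∈ W ↔ w ∈ W := by
    intro w
    refine ⟨fun h => ?_, hinv w⟩
    have := hinv _ (hinv _ (hinv _ (hinv _ h)))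
    rwa [hτ5] at this
  -- the permutation of `W`
  classical
  have : Fintype C := Fintype.ofFinite C
  set σ : Equiv.Perm W := Equiv.Perm.subtypePerm (τ.toEquiv : Equiv.Perm C) hinv' with hσ
  have hσv : ∀ w : W, ((σ w : W) : C) = τ w := fun w => rfl
  have hσ5 : σ ^ 5 ^ 1 = 1 := by
    ext w
    rw [pow_one, Equiv.Perm.coe_one, id_eq]
    have : (σ ^ 5) w = σ (σ (σ (σ (σ w)))) := by
      simp only [pow_succ, pow_zero, one_mul, Equiv.Perm.mul_apply]
    rw [this, hσv, hσv, hσv, hσv, hσv]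
    exact hτ5 w
  have : Fact (Nat.Prime 5) := ⟨by norm_num⟩
  have hmod := Equiv.Perm.card_compl_support_modEq hσ5
  have hsupp : σ.supportᶜ = {1} := by
    ext w
    simp only [Finset.mem_compl, Equiv.Perm.mem_support, ne_eq, not_not, Finset.mem_singleton]
    constructor
    · intro h
      have h' : τ w = w := by rw [← hσv, h]
      exact Subtype.ext (hfix w h')
    · intro h
      subst h
      apply Subtype.ext
      rw [hσv]
      exact map_one τ
  rw [hsupp, Finset.card_singleton] at hmod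
  -- the order of `W`
  have hdvd : Nat.card W ∣ 16 := hcard ▸ Subgroup.card_subgroup_dvd_card W
  have hne : Nat.card W ≠ 1 := by
    intro h
    rw [Subgroup.card_eq_one] at h
    exact hy (by rw [h] at hy0; exact Subgroup.mem_bot.mp hy0)
  have hWcard : Nat.card W = 16 := by
    rw [Nat.card_eq_fintype_card] at hdvd hne ⊢
    have h16 : (16 : ℕ) = 2 ^ 4 := by norm_num
    rw [h16] at hdvd
    obtain ⟨k, hk, hk2⟩ := (Nat.dvd_prime_pow Nat.prime_two).mp hdvd
    rw [hk2] at hmod hne ⊢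
    unfold Nat.ModEq at hmod
    interval_cases k <;> simp_all
  have hWtop : W = ⊤ := by
    apply Subgroup.eq_top_of_card_eq
    rw [hWcard, hcard]
  intro c
  exact mem_closure_xpw hsq _ _ _ _ (by rw [← hW, hWtop]; exact Subgroup.mem_top c)

end abstract

/-! ### The package -/

theorem xpw_map {G H : Type*} [Group G] [Group H] (f : G →* H) (y0 y1 y2 y3 : G) (β : Bits) :
    f (xpw y0 y1 y2 y3 β) = xpw (f y0) (f y1) (f y2) (f y3) β := by
  obtain ⟨b0, b1, b2, b3⟩ := β
  cases b0 <;> cases b1 <;> cases b2 <;> cases b3 <;> simp [xpw, pw]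

section
variable {K : Type*} [Group K] [Finite K]
theorem gen16 (hK : Nat.card K = 80) (hK' : Nat.card (commutator K) = 16) (t : K) (ht : orderOf t = 5)
    (a : K) (ha : a ∈ commutator K) (ha1 : a ≠ 1) :
    a * cj t a 1 * cj t a 2 * cj t a 3 * cj t a 4 = 1 ∧
    ∀ b ∈ commutator K, ∃ β : Bits, b = xpw a (cj t a 1) (cj t a 2) (cj t a 3) β := by
  obtain ⟨hsq, hab, hfpf⟩ := Cfsg.Agent.Lib.Helper25_U320_FPF.fpf16 hK hK'
  let _ : CommGroup ↥(commutator K) :=
    { (inferInstance : Group ↥(commutator K)) with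
      mul_comm := fun x y => Subtype.ext (hab x x.2 y y.2) }
  have ht5 : t ^ 5 = 1 := by rw [← ht]; exact pow_orderOf_eq_one t
  set τ : ↥(commutator K) ≃* ↥(commutator K) := MulAut.conjNormal t with hτ
  have hτv : ∀ c : ↥(commutator K), ((τ c : ↥(commutator K)) : K) = t * c * t⁻¹ := fun c =>
    MulAut.conjNormal_apply t c
  have hτ5 : ∀ c, τ (τ (τ (τ (τ c)))) = c := by
    intro c
    apply Subtype.ext
    rw [hτv, hτv, hτv, hτv, hτv]
    have h5 := cj_add_five ht5 (c : K) 0
    rw [cj_succ, cj_succ, cj_succ, cj_succ, cj_succ, cj_zero] at h5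
    exact h5
  have hfix : ∀ c, τ c = c → c = 1 := by
    intro c hc
    apply Subtype.ext
    apply hfpf t ht c c.2
    have := congrArg Subtype.val hc
    rw [hτv] at this
    calc t * (c : K) = (t * c * t⁻¹) * t := by group
      _ = c * t := by rw [this]
  have hy : (⟨a, ha⟩ : ↥(commutator K)) ≠ 1 := fun h => ha1 (congrArg Subtype.val h)
  obtain ⟨h1, h2⟩ := abstract_gen hK' (fun c => Subtype.ext (hsq c c.2)) τ hτ5 hfix ⟨a, ha⟩ hy
  -- translate
  have e1 : ((τ ⟨a, ha⟩ : ↥(commutator K)) : K) = cj t a 1 := by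
    rw [hτv, cj_succ, cj_zero]
  have e2 : ((τ (τ ⟨a, ha⟩) : ↥(commutator K)) : K) = cj t a 2 := by
    rw [hτv, e1]; exact (cj_succ t a 1).symm
  have e3 : ((τ (τ (τ ⟨a, ha⟩)) : ↥(commutator K)) : K) = cj t a 3 := by
    rw [hτv, e2]; exact (cj_succ t a 2).symm
  have e4 : ((τ (τ (τ (τ ⟨a, ha⟩))) : ↥(commutator K)) : K) = cj t a 4 := by
    rw [hτv, e3]; exact (cj_succ t a 3).symm
  constructor
  · have := congrArg Subtype.val h1
    simp only [Subgroup.coe_mul, Subgroup.coe_one] at this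
    rw [e1, e2, e3, e4] at this
    exact this
  · intro b hb
    obtain ⟨β, hβ⟩ := h2 ⟨b, hb⟩
    refine ⟨β, ?_⟩
    have := congrArg (commutator K).subtype hβ
    rw [xpw_map] at this
    simp only [Subgroup.subtype_apply] at this
    rw [e1, e2, e3] at this
    exact this
end

end Cfsg.Agent.Lib.Helper27_U320_GEN16
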