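import Mathlib
import Cfsg.Agent.Lib.Helper56_U320Defs

/-!
# S1903 market, package ZP (architect helper56)

`ZP G` (the centre of the derived subgroup, as a subgroup of `G`) is normal; under the Klein-four hypothesis it has
order 4, exponent 2, lies in `commutator G`, commutes with it, and contains every element of `commutator G`
commuting with `commutator G`.
-/

set_option autoImplicit false
open Cfsg.Agent.Lib.Helper56_U320Defs

namespace Cfsg.Agent.Lib.Helper88_U320_ZP

section
variable {G : Type*} [Group G]

/-- membership in `ZP G`, unfolded (no finiteness needed) -/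
theorem mem_ZP_iff (z : G) :
    z ∈ ZP G ↔ z ∈ commutator G ∧ ∀ a ∈ commutator G, a * z = z * a := by
  unfold ZP
  constructor
  · rintro ⟨w, hw, rfl⟩
    refine ⟨w.2, fun a ha => ?_⟩
    have h := (Subgroup.mem_center_iff.mp hw) ⟨a, ha⟩
    exact congrArg Subtype.val h
  · rintro ⟨hz, h⟩
    refine ⟨⟨z, hz⟩, ?_, rfl⟩
    rw [SetLike.mem_coe, Subgroup.mem_center_iff]
    rintro ⟨a, ha⟩
    exact Subtype.ext (h a ha)

theorem ZP_le_commutator : ZP G ≤ commutator G := fun _ hz => ((mem_ZP_iff _).mp hz).1

end

section
variable {G : Type*} [Group G] [Finite G]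

theorem ZP_normal : (ZP G).Normal := by
  unfold ZP
  exact ConjAct.normal_of_characteristic_of_normal

theorem ZP_facts (hZ : IsKleinFour (Subgroup.center (commutator G))) :
    Nat.card (ZP G) = 4 ∧ ZP G ≤ commutator G ∧ (∀ z ∈ ZP G, z * z = 1) ∧
    (∀ z ∈ ZP G, ∀ a ∈ commutator G, z * a = a * z) ∧
    (∀ a ∈ commutator G, (∀ b ∈ commutator G, a * b = b * a) → a ∈ ZP G) := by
  refine ⟨?_, ZP_le_commutator, ?_, ?_, ?_⟩
  · have h1 : Nat.card (ZP G) = Nat.card (Subgroup.center (commutator G)) := by
      unfold ZP
      exact Subgroup.card_map_of_injective (Subgroup.subtype_injective _)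
    rw [h1]
    exact hZ.card_four
  · intro z hz
    unfold ZP at hz
    obtain ⟨w, hw, rfl⟩ := hz
    have h2 : (⟨w, hw⟩ : Subgroup.center (commutator G)) ^ 2 = 1 := by
      have := Monoid.pow_exponent_eq_one (⟨w, hw⟩ : Subgroup.center (commutator G))
      rwa [hZ.exponent_two] at this
    have h3 : (w : commutator G) ^ 2 = 1 := by
      have := congrArg (fun t : Subgroup.center (commutator G) => (t : commutator G)) h2
      simpa using this
    have h4 : ((w : commutator G) : G) ^ 2 = 1 := by
      have := congrArg (fun t : commutator G => (t : G)) h3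
      simpa using this
    simpa [pow_two] using h4
  · intro z hz a ha
    exact (((mem_ZP_iff z).mp hz).2 a ha).symm
  · intro a ha h
    exact (mem_ZP_iff a).mpr ⟨ha, fun b hb => (h b hb).symm⟩

end

end Cfsg.Agent.Lib.Helper88_U320_ZP
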