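import Mathlib
import Cfsg.Agent.Lib.Helper56_U320Defs
import Cfsg.Agent.Lib.Helper88_U320_ZP

/-!
# S1903 market, package QUOT (architect helper56)

The quotient `G ⧸ ZP G` has order 80, its derived subgroup is the image of `commutator G`, of order 16.
-/

set_option autoImplicit false
open Cfsg.Agent.Lib.Helper56_U320Defs

namespace Cfsg.Agent.Lib.Helper88_U320_QUOT

section
variable {G : Type*} [Group G]

/-- the derived subgroup of a quotient is the image of the derived subgroup (general) -/
theorem commutator_quot (N : Subgroup G) [N.Normal] :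
    commutator (G ⧸ N) = (commutator G).map (QuotientGroup.mk' N) := by
  rw [commutator_def, commutator_def, Subgroup.map_commutator,
    Subgroup.map_top_of_surjective _ (QuotientGroup.mk'_surjective N)]

/-- the index of the image in the quotient of a subgroup containing the kernel (general) -/
theorem index_map_mk (N P : Subgroup G) [N.Normal] (hNP : N ≤ P) :
    (P.map (QuotientGroup.mk' N)).index = P.index := by
  have h1 : (P.map (QuotientGroup.mk' N)).comap (QuotientGroup.mk' N) = P := by
    rw [QuotientGroup.comap_map_mk']
    exact sup_eq_right.mpr hNP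
  have h2 := Subgroup.index_comap_of_surjective (P.map (QuotientGroup.mk' N))
    (QuotientGroup.mk'_surjective N)
  rw [h1] at h2
  exact h2.symm

end

section
variable {G : Type*} [Group G] [Finite G]
theorem quot_facts [(ZP G).Normal] (hG : Nat.card G = 320) (hD : Nat.card (commutator G) = 64)
    (hZ : IsKleinFour (Subgroup.center (commutator G))) :
    Nat.card (G ⧸ ZP G) = 80 ∧
    commutator (G ⧸ ZP G) = (commutator G).map (QuotientGroup.mk' (ZP G)) ∧
    Nat.card (commutator (G ⧸ ZP G)) = 16 := by
  obtain ⟨hZ4, hZle, -, -, -⟩ := Cfsg.Agent.Lib.Helper88_U320_ZP.ZP_facts hZ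
  have h80 : Nat.card (G ⧸ ZP G) = 80 := by
    have h := Subgroup.card_eq_card_quotient_mul_card_subgroup (ZP G)
    rw [hG, hZ4] at h
    omega
  refine ⟨h80, commutator_quot (ZP G), ?_⟩
  rw [commutator_quot (ZP G)]
  have hidx : (commutator G).index = 5 := by
    have h := Subgroup.card_mul_index (commutator G)
    rw [hG, hD] at h
    omega
  have hidx' : ((commutator G).map (QuotientGroup.mk' (ZP G))).index = 5 := by
    rw [index_map_mk (ZP G) (commutator G) hZle, hidx]
  have h := Subgroup.card_mul_index ((commutator G).map (QuotientGroup.mk' (ZP G)))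
  rw [h80, hidx'] at h
  omega
end

end Cfsg.Agent.Lib.Helper88_U320_QUOT
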