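import Mathlib
import Cfsg.Agent.Lib.Helper56_U320Defs
import Cfsg.Agent.Lib.Helper88_U320_ZP
import Cfsg.Agent.Lib.Helper88_U320_QUOT
import Cfsg.Agent.Lib.Helper25_U320_FPF
import Cfsg.Agent.Lib.Helper27_U320_GEN16
import Cfsg.Agent.Lib.Helper1_U320_LIFTaux
set_option autoImplicit false
open Cfsg.Agent.Lib.Helper56_U320Defs

/-!
# S1903 market, package LIFT (verbatim statement)
-/

namespace Cfsg.Agent.Lib.Helper1_U320_LIFT

section
variable {G : Type*} [Group G] [Finite G]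
theorem lift_facts (hG : Nat.card G = 320) (hD : Nat.card (commutator G) = 64)
    (hZ : IsKleinFour (Subgroup.center (commutator G))) :
    (∀ a ∈ commutator G, ∀ b ∈ commutator G, a * b * a⁻¹ * b⁻¹ ∈ ZP G) ∧
    (∀ a ∈ commutator G, a * a ∈ ZP G) ∧
    ∀ s : G, orderOf s = 5 → ∀ x ∈ commutator G, x ∉ ZP G →
      (∃ w ∈ ZP G, cj s x 4 = x * cj s x 1 * cj s x 2 * cj s x 3 * w) ∧
      ∀ b ∈ commutator G, ∃ β : Bits, ∃ z ∈ ZP G,
        b = xpw x (cj s x 1) (cj s x 2) (cj s x 3) β * z := by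
  have hN : (ZP G).Normal := Cfsg.Agent.Lib.Helper88_U320_ZP.ZP_normal
  have hZP := Cfsg.Agent.Lib.Helper88_U320_ZP.ZP_facts hZ
  have hQ := Cfsg.Agent.Lib.Helper88_U320_QUOT.quot_facts hG hD hZ
  have hF := Cfsg.Agent.Lib.Helper25_U320_FPF.fpf16 hQ.1 hQ.2.2
  exact Cfsg.Agent.Lib.Helper1_U320_LIFTaux.lift_facts_aux hZP.1 hQ.2.1 ⟨hF.1, hF.2.1⟩
    (fun t ht a ha ha1 => Cfsg.Agent.Lib.Helper27_U320_GEN16.gen16 hQ.1 hQ.2.2 t ht a ha ha1)
end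

end Cfsg.Agent.Lib.Helper1_U320_LIFT
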