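import Mathlib
import Cfsg.Agent.Lib.Helper56_U320Defs
set_option autoImplicit false
open Cfsg.Agent.Lib.Helper56_U320Defs

/-!
# S1903 market, package ZC: the centre of the derived subgroup is central

`G` of order 320 with derived subgroup `P` of order 64 and `Z(P)` a four-group: conjugation by `g` on the
four-element normal subgroup `ZP G` is an automorphism whose fifth power is conjugation by `g ^ 5 ∈ P`, which is
trivial; its order divides `5` and `4! = 24`, so it is trivial.
-/

namespace Cfsg.Agent.Lib.Helper27_U320_ZC

section
variable {G : Type*} [Group G]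

/-- `ZP G` is normal (characteristic in the normal derived subgroup) -/
theorem ZP_normal_aux : (ZP G).Normal := by
  unfold ZP
  infer_instance

/-- elements of `ZP G` commute with the derived subgroup -/
theorem ZP_comm {z : G} (hz : z ∈ ZP G) {a : G} (ha : a ∈ commutator G) : a * z = z * a := by
  obtain ⟨c, hc, rfl⟩ := hz
  have := (Subgroup.mem_center_iff.mp hc) ⟨a, ha⟩
  exact congrArg Subtype.val this

end

section
variable {G : Type*} [Group G] [Finite G]

theorem ZP_central (hG : Nat.card G = 320) (hD : Nat.card (commutator G) = 64)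
    (hZ : IsKleinFour (Subgroup.center (commutator G))) :
    ∀ z ∈ ZP G, ∀ g : G, z * g = g * z := by
  intro z hz g
  have hn : (ZP G).Normal := ZP_normal_aux
  have hc4 : Nat.card (ZP G) = 4 := by
    unfold ZP
    rw [Subgroup.card_map_of_injective (Subgroup.subtype_injective _)]
    exact IsKleinFour.card_four
  have hidx : (commutator G).index = 5 := by
    have := (commutator G).card_mul_index
    rw [hD, hG] at this
    omega
  have hg5 : g ^ 5 ∈ commutator G := by
    have := Subgroup.pow_index_mem (commutator G) g
    rwa [hidx] at this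
  set φ : MulAut (ZP G) := MulAut.conjNormal g with hφ
  have hφ5 : φ ^ 5 = 1 := by
    rw [hφ, ← map_pow]
    ext ⟨w, hw⟩
    rw [MulAut.conjNormal_apply, MulAut.one_apply]
    rw [ZP_comm hw hg5, mul_inv_cancel_right]
  have h1 : orderOf φ ∣ 5 := orderOf_dvd_of_pow_eq_one hφ5
  have h2 : orderOf φ ∣ 24 := by
    have hinj : Function.Injective (MulAut.toPerm (ZP G)) := by
      intro a b hab
      apply MulEquiv.ext
      intro x
      exact congrArg (fun σ : Equiv.Perm (ZP G) => σ x) hab
    rw [← orderOf_injective (MulAut.toPerm (ZP G)) hinj φ]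
    have hcard : Nat.card (Equiv.Perm (ZP G)) = 24 := by
      rw [Nat.card_perm, hc4]
      rfl
    rw [← hcard]
    exact orderOf_dvd_natCard _
  have h3 : orderOf φ = 1 := by
    have := Nat.dvd_gcd h1 h2
    simpa using this
  have hφ1 : φ = 1 := orderOf_eq_one_iff.mp h3
  have h4 : ((φ ⟨z, hz⟩ : ZP G) : G) = z := by
    rw [hφ1]
    rfl
  rw [hφ, MulAut.conjNormal_apply] at h4
  calc z * g = (g * z * g⁻¹) * g := by rw [h4]
    _ = g * z := by group

end

end Cfsg.Agent.Lib.Helper27_U320_ZC
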