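import Mathlib
import Cfsg.Agent.Lib.Helper56_U320Defs
set_option autoImplicit false
open Cfsg.Agent.Lib.Helper56_U320Defs

/-!
# S1903 package SYL (architect helper56): an element of order 5 and the decomposition `g = s^j * a`
-/

namespace Cfsg.Agent.Lib.Helper31_U320_SYL

section
variable {G : Type*} [Group G] [Finite G]

theorem exists_s (hG : Nat.card G = 320) : ∃ s : G, orderOf s = 5 := by
  have : Fact (Nat.Prime 5) := ⟨by norm_num⟩
  exact exists_prime_orderOf_dvd_card' 5 (by rw [hG]; norm_num)

theorem decomp (hG : Nat.card G = 320) (hD : Nat.card (commutator G) = 64) {s : G}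
    (hs : orderOf s = 5) (g : G) : ∃ j : ℕ, ∃ a ∈ commutator G, g = s ^ j * a := by
  have : Fact (Nat.Prime 5) := ⟨by norm_num⟩
  have : (commutator G).Normal := by unfold commutator; infer_instance
  -- the quotient has order 5
  have hQ : Nat.card (G ⧸ commutator G) = 5 := by
    have h1 := Subgroup.card_eq_card_quotient_mul_card_subgroup (commutator G)
    rw [hG, hD] at h1
    omega
  -- `s ∉ G'`
  have hsn : s ∉ commutator G := by
    intro hmem
    have h1 : orderOf (⟨s, hmem⟩ : commutator G) ∣ Nat.card (commutator G) := orderOf_dvd_natCard _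
    have h2 : orderOf (⟨s, hmem⟩ : commutator G) = orderOf s := by
      rw [← Subgroup.orderOf_coe]
    rw [h2, hs, hD] at h1
    norm_num at h1
  have hs1 : (QuotientGroup.mk s : G ⧸ commutator G) ≠ 1 := by
    intro h1
    exact hsn ((QuotientGroup.eq_one_iff s).mp h1)
  have hz : Subgroup.zpowers (QuotientGroup.mk s : G ⧸ commutator G) = ⊤ :=
    zpowers_eq_top_of_prime_card hQ hs1
  have hmem : (QuotientGroup.mk g : G ⧸ commutator G)
      ∈ Subgroup.zpowers (QuotientGroup.mk s : G ⧸ commutator G) := by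
    rw [hz]; trivial
  have hfin : IsOfFinOrder (QuotientGroup.mk s : G ⧸ commutator G) := isOfFinOrder_of_finite _
  rw [← hfin.mem_powers_iff_mem_zpowers] at hmem
  obtain ⟨j, hj⟩ := hmem
  refine ⟨j, (s ^ j)⁻¹ * g, ?_, by group⟩
  have h3 : (QuotientGroup.mk ((s ^ j)⁻¹ * g) : G ⧸ commutator G) = 1 := by
    rw [QuotientGroup.mk_mul, QuotientGroup.mk_inv, QuotientGroup.mk_pow]
    dsimp only at hj
    rw [hj, inv_mul_cancel]
  exact (QuotientGroup.eq_one_iff _).mp h3
end

end Cfsg.Agent.Lib.Helper31_U320_SYL
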