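import Mathlib
import Cfsg.Agent.Lib.Helper56_U320Defs
import Cfsg.Agent.Lib.Helper31_U320_SYL
import Cfsg.Agent.Lib.Helper27_U320_ZC
import Cfsg.Agent.Lib.Helper1_U320_LIFT
import Cfsg.Agent.Lib.Helper17_U320_GENSXaux
set_option autoImplicit false
open Cfsg.Agent.Lib.Helper56_U320Defs

/-!
# S1903 market, package GENSX (verbatim statement)

`G = ⟨s, x⟩` for `s` of order 5 and `x ∈ G' \ Z(G')`: wrapper of `Helper17_U320_GENSXaux.gen_of_aux`
over the landed packages SYL (`decomp`), ZC (`ZP_central`) and LIFT (`lift_facts`).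
-/

namespace Cfsg.Agent.Lib.Helper17_U320_GENSX

section
variable {G : Type*} [Group G] [Finite G]
theorem gen_of (hG : Nat.card G = 320) (hD : Nat.card (commutator G) = 64)
    (hZ : IsKleinFour (Subgroup.center (commutator G))) (s : G) (hs : orderOf s = 5) (x : G)
    (hx : x ∈ commutator G) (hxZ : x ∉ ZP G) : Subgroup.closure ({s, x} : Set G) = ⊤ :=
  Cfsg.Agent.Lib.Helper17_U320_GENSXaux.gen_of_aux s x
    (Cfsg.Agent.Lib.Helper31_U320_SYL.decomp hG hD hs)
    (Cfsg.Agent.Lib.Helper27_U320_ZC.ZP_central hG hD hZ)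
    (((Cfsg.Agent.Lib.Helper1_U320_LIFT.lift_facts hG hD hZ).2.2 s hs x hx hxZ).2)
end

end Cfsg.Agent.Lib.Helper17_U320_GENSX
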