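import Mathlib
import Cfsg.Agent.Lib.Helper94_UDDefs
import Cfsg.Agent.Lib.Helper94_HermEich
import Cfsg.Agent.Lib.Helper67_UT2Defs

set_option autoImplicit false
set_option linter.unusedSectionVars false
set_option linter.unusedVariables false

/-!
# `GU_a(q) ⊗ GU_b(q)` in `SU_{ab}(q)`, `a, b ≥ 3` (project UTENS, architect helper37), PART I
# (case 1: a non-standard radical element gives `M = SU(V)`): shared definitions (helper54)

Model-free setting.  `F` a field with an involution `σ` (`Helper94_Herm.Invol σ`); `A`, `B`, `V`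
spaces over `F` with nondegenerate hermitian forms `α`, `β`, `f` (`IsHerm`, `NondegOn _ ⊤`);
`T : A →ₗ[F] B →ₗ[F] V` the tensor map (`T x y` is the pure tensor `x ⊗ y`):
`f (T x y) (T x' y') = α x x' * β y y'` and the pure tensors span `V`.  (Then `V` is `A ⊗ B`; the
matrix model is `V = Matrix ι κ F`, `T x y = vecMulVec x y`.)

* `TnCtx α β f T` : the standing hypotheses on the forms and the tensor map.
* `TnHyp α β f T M` : `M ≤ SU(V)` contains the Kronecker elements `P ⊗ Q`, `P ∈ SU(A)`,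
  `Q ∈ SU(B)` (given by their values `T (P x) (Q y)` on pure tensors).
* `IsZ α T x S g` : `g = 1 + P_x ⊗ S`, i.e. `g (a ⊗ b) = a ⊗ b + α a x • x ⊗ S b`
  (an element of the radical `Z(ℓ_x)` of the stabiliser of the type II fibre `x ⊗ B`).
  The type I version is `IsZ β T.flip y X g` : `g (a ⊗ b) = a ⊗ b + β b y • X a ⊗ y`.
* `RadStd α T M` : every `1 + P_x ⊗ S ∈ M` (`x ≠ 0` isotropic) has `S` scalar.
  `RadStd-II` is `RadStd α T M`, `RadStd-I` is `RadStd β T.flip M`.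
* `ConjStable β 𝒮` : the additive group `𝒮` of operators is stable under conjugation by `SU(β)`.
`rk1h β y : v ↦ β v y • y` and `twh β y w : v ↦ β v w • y + β v y • w` are those of
`Helper67_UT2Defs`.
-/

namespace Cfsg.Agent.Lib.Helper54_UTDefs

open Module
open Cfsg.Agent.Lib.Helper94_Symp Cfsg.Agent.Lib.Helper94_Herm Cfsg.Agent.Lib.Helper13_PSUSimple
  Cfsg.Agent.Lib.Helper94_FrmDefs Cfsg.Agent.Lib.Helper94_UDDefs Cfsg.Agent.Lib.Helper67_UT2Defs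

variable {F A B V : Type*} [Field F] [AddCommGroup A] [Module F A] [AddCommGroup B] [Module F B]
  [AddCommGroup V] [Module F V] {σ : F →+* F}

/-- the standing hypotheses: nondegenerate hermitian forms `α`, `β`, `f` and the tensor map `T` -/
structure TnCtx (α : A →ₗ[F] A →ₛₗ[σ] F) (β : B →ₗ[F] B →ₛₗ[σ] F) (f : V →ₗ[F] V →ₛₗ[σ] F)
    (T : A →ₗ[F] B →ₗ[F] V) : Prop where
  hσ : Invol σ
  hα : IsHerm α
  hβ : IsHerm β
  hf : IsHerm f
  hNα : NondegOn α ⊤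
  hNβ : NondegOn β ⊤
  hNf : NondegOn f ⊤
  hT : ∀ (x : A) (y : B) (x' : A) (y' : B), f (T x y) (T x' y') = α x x' * β y y'
  hspan : Submodule.span F {v : V | ∃ (x : A) (y : B), v = T x y} = ⊤

/-- `M ≤ SU(V)` contains the Kronecker elements `P ⊗ Q`, `P ∈ SU(A)`, `Q ∈ SU(B)` -/
structure TnHyp (α : A →ₗ[F] A →ₛₗ[σ] F) (β : B →ₗ[F] B →ₛₗ[σ] F) (f : V →ₗ[F] V →ₛₗ[σ] F)
    (T : A →ₗ[F] B →ₗ[F] V) (M : Subgroup (V ≃ₗ[F] V)) : Prop where
  le : M ≤ SUg f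
  kr_mem : ∀ (P : A ≃ₗ[F] A) (Q : B ≃ₗ[F] B), P ∈ SUg α → Q ∈ SUg β →
    ∃ g ∈ M, ∀ (x : A) (y : B), g (T x y) = T (P x) (Q y)

/-- `g = 1 + P_x ⊗ S` -/
def IsZ (α : A →ₗ[F] A →ₛₗ[σ] F) (T : A →ₗ[F] B →ₗ[F] V) (x : A) (S : B →ₗ[F] B)
    (g : V ≃ₗ[F] V) : Prop :=
  ∀ (a : A) (b : B), g (T a b) = T a b + α a x • T x (S b)

/-- every `1 + P_x ⊗ S ∈ M`, `x ≠ 0` isotropic, has `S` scalar -/
def RadStd (α : A →ₗ[F] A →ₛₗ[σ] F) (T : A →ₗ[F] B →ₗ[F] V) (M : Subgroup (V ≃ₗ[F] V)) : Prop :=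
  ∀ x : A, x ≠ 0 → α x x = 0 → ∀ (S : B →ₗ[F] B) (g : V ≃ₗ[F] V), g ∈ M → IsZ α T x S g →
    ∃ s : F, S = s • (LinearMap.id : B →ₗ[F] B)

/-- the additive group `𝒮` of operators of `W` is stable under conjugation by `SU(β)` -/
def ConjStable {W : Type*} [AddCommGroup W] [Module F W] (β : W →ₗ[F] W →ₛₗ[σ] F)
    (𝒮 : AddSubgroup (W →ₗ[F] W)) : Prop :=
  ∀ S ∈ 𝒮, ∀ Q : W ≃ₗ[F] W, Q ∈ SUg β →
    (Q : W →ₗ[F] W) ∘ₗ S ∘ₗ (Q.symm : W →ₗ[F] W) ∈ 𝒮

variable {α : A →ₗ[F] A →ₛₗ[σ] F} {β : B →ₗ[F] B →ₛₗ[σ] F} {f : V →ₗ[F] V →ₛₗ[σ] F}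
  {T : A →ₗ[F] B →ₗ[F] V} {M : Subgroup (V ≃ₗ[F] V)}

@[simp] theorem flip_T (T : A →ₗ[F] B →ₗ[F] V) (y : B) (x : A) : T.flip y x = T x y := rfl

/-- the context with the roles of `A` and `B` exchanged -/
theorem TnCtx.swap (hC : TnCtx α β f T) : TnCtx β α f T.flip where
  hσ := hC.hσ
  hα := hC.hβ
  hβ := hC.hα
  hf := hC.hf
  hNα := hC.hNβ
  hNβ := hC.hNα
  hNf := hC.hNf
  hT := by
    intro y x y' x'
    rw [flip_T, flip_T, hC.hT, mul_comm]
  hspan := by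
    rw [← hC.hspan]
    congr 1
    ext v
    constructor
    · rintro ⟨y, x, rfl⟩
      exact ⟨x, y, rfl⟩
    · rintro ⟨x, y, rfl⟩
      exact ⟨y, x, rfl⟩

theorem TnHyp.swap (hM : TnHyp α β f T M) : TnHyp β α f T.flip M where
  le := hM.le
  kr_mem := by
    intro Q P hQ hP
    obtain ⟨g, hg, h⟩ := hM.kr_mem P Q hP hQ
    exact ⟨g, hg, fun y x => h x y⟩

theorem TnHyp.le_uG (hM : TnHyp α β f T M) : M ≤ uG f := fun _ hg => SUg_le_uG (hM.le hg)

/-- two linear maps agreeing on the pure tensors are equal -/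
theorem TnCtx.ext_lin (hC : TnCtx α β f T) {V' : Type*} [AddCommGroup V'] [Module F V']
    {φ ψ : V →ₗ[F] V'} (h : ∀ (x : A) (y : B), φ (T x y) = ψ (T x y)) : φ = ψ := by
  apply LinearMap.ext_on_range (v := fun p : A × B => T p.1 p.2)
  · rw [← hC.hspan]
    congr 1
    ext v
    constructor
    · rintro ⟨⟨x, y⟩, rfl⟩
      exact ⟨x, y, rfl⟩
    · rintro ⟨x, y, rfl⟩
      exact ⟨⟨x, y⟩, rfl⟩
  · rintro ⟨x, y⟩
    exact h x y

/-- two linear equivalences agreeing on the pure tensors are equal -/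
theorem TnCtx.ext_equiv (hC : TnCtx α β f T) {g g' : V ≃ₗ[F] V}
    (h : ∀ (x : A) (y : B), g (T x y) = g' (T x y)) : g = g' := by
  apply LinearEquiv.toLinearMap_injective
  exact hC.ext_lin h

/-- the norm of a pure tensor -/
theorem TnCtx.self_T (hC : TnCtx α β f T) (x : A) (y : B) :
    f (T x y) (T x y) = α x x * β y y := hC.hT x y x y

end Cfsg.Agent.Lib.Helper54_UTDefs
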