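import Mathlib
import Cfsg.Agent.Lib.Helper54_UTDefs
import Cfsg.Agent.Lib.Helper37_UTDefs

set_option autoImplicit false
set_option linter.unusedSectionVars false
set_option linter.unusedVariables false

/-!
# UTENS PART I: the tensor map of the Matrix model (helper54)
-/

namespace Cfsg.Agent.Lib.Helper54_UTModel

open Matrix Module

/-- the tensor map `x ⊗ y = vecMulVec x y` of the Matrix model -/
def vm (F : Type*) [Field F] (ι κ : Type*) [Fintype ι] [Fintype κ] :
    (ι → F) →ₗ[F] (κ → F) →ₗ[F] Matrix ι κ F :=
  LinearMap.mk₂ F (fun x y => vecMulVec x y)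
    (fun x x' y => add_vecMulVec x x' y) (fun c x y => smul_vecMulVec c x y)
    (fun x y y' => vecMulVec_add x y y') (fun c x y => vecMulVec_smul c x y)

@[simp] theorem vm_apply {F : Type*} [Field F] {ι κ : Type*} [Fintype ι] [Fintype κ]
    (x : ι → F) (y : κ → F) : vm F ι κ x y = vecMulVec x y := rfl

end Cfsg.Agent.Lib.Helper54_UTModel
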