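import Mathlib
import Cfsg.Agent.Lib.Helper54_UTDefs
import Cfsg.Agent.Lib.Helper37_UTDefs
import Cfsg.Agent.Lib.Helper54_UTModel

set_option autoImplicit false
set_option linter.unusedSectionVars false
set_option linter.unusedVariables false

/-!
# UTENS PART I market (sub-architect helper54), package Z5

A skew-adjoint operator `c • P_y` (`y ≠ 0`, `β` hermitian nondegenerate) has `σ c = -c`.
-/

namespace Cfsg.Agent.Lib.Helper17_UT1_Z5

open Module
open Cfsg.Agent.Lib.Helper94_Symp Cfsg.Agent.Lib.Helper94_Herm Cfsg.Agent.Lib.Helper13_PSUSimple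
  Cfsg.Agent.Lib.Helper94_FrmDefs Cfsg.Agent.Lib.Helper94_UDDefs Cfsg.Agent.Lib.Helper67_UT2Defs
  Cfsg.Agent.Lib.Helper54_UTDefs

variable {F A B V : Type*} [Field F] [AddCommGroup A] [Module F A] [AddCommGroup B] [Module F B]
  [AddCommGroup V] [Module F V] {σ : F →+* F}
variable {α : A →ₗ[F] A →ₛₗ[σ] F} {β : B →ₗ[F] B →ₛₗ[σ] F} {f : V →ₗ[F] V →ₛₗ[σ] F}
  {T : A →ₗ[F] B →ₗ[F] V} {M : Subgroup (V ≃ₗ[F] V)}

/-- Z5 (S): a skew-adjoint `c P_y`, `y ≠ 0`, has `c` skew -/
theorem skew_of_rk1h (hσ : Invol σ) (hβ : IsHerm β) (hNβ : NondegOn β ⊤) {y : B} (hy0 : y ≠ 0)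
    (c : F) (h : ∀ u v : B, β ((c • rk1h β y) u) v + β u ((c • rk1h β y) v) = 0) :
    σ c = -c := by
  obtain ⟨v, -, hv⟩ := hNβ y Submodule.mem_top hy0
  have hu : β v y ≠ 0 := by
    rw [hβ y v]
    intro h0
    apply hv
    have := congrArg σ h0
    rw [hσ.invol, map_zero] at this
    exact this
  have key := h v v
  simp only [LinearMap.smul_apply, rk1h_apply, map_smul, map_smulₛₗ, smul_eq_mul] at key
  have h2 : σ (β v y) = β y v := (hβ v y).symm
  rw [h2] at key
  have h3 : (c + σ c) * (β v y * β y v) = 0 := by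
    have : (c + σ c) * (β v y * β y v) = c * (β v y * β y v) + σ c * (β y v * β v y) := by ring
    rw [this]; exact key
  have h4 : c + σ c = 0 := by
    rcases mul_eq_zero.mp h3 with h | h
    · exact h
    · exact absurd h (mul_ne_zero hu hv)
  exact eq_neg_of_add_eq_zero_right h4

end Cfsg.Agent.Lib.Helper17_UT1_Z5
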