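import Mathlib
import Cfsg.Agent.Lib.Helper37_UTDefs
import Cfsg.Agent.Lib.Helper37_UTPairDefs
import Cfsg.Agent.Lib.Helper17_UT_BAS1
import Cfsg.Agent.Lib.Helper44_UT_BAS4
import Cfsg.Agent.Lib.Helper42_UT_BAS6
import Cfsg.Agent.Lib.Helper73_Tens_TP2
import Cfsg.Agent.Lib.Helper14_PSULocal1

set_option autoImplicit false
set_option linter.unusedSectionVars false
set_option linter.unusedVariables false

/-!
UTENS package G2I (helper17): uniqueness, type I.
-/

namespace Cfsg.Agent.Lib.Helper17_UT_G2I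

open Matrix Module
open Cfsg.Agent.Lib.Helper98_ExtDefs Cfsg.Agent.Lib.Helper97_TensDefs
open Cfsg.Agent.Lib.Helper94_Herm Cfsg.Agent.Lib.Helper13_PSUSimple
open Cfsg.Agent.Lib.Helper94_HermEich
open Cfsg.Agent.Lib.Helper67_UT2Defs Cfsg.Agent.Lib.Helper37_UTDefs
open Cfsg.Agent.Lib.Helper37_UTPairDefs

variable {F : Type*} [Field F] {ι κ : Type*} [Fintype ι] [Fintype κ] [DecidableEq ι]
  [DecidableEq κ] {σ : F →+* F}
variable {α : (ι → F) →ₗ[F] (ι → F) →ₛₗ[σ] F} {β : (κ → F) →ₗ[F] (κ → F) →ₛₗ[σ] F}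
variable {M : Subgroup (Matrix ι κ F ≃ₗ[F] Matrix ι κ F)}

/-- a pure tensor of nonzero vectors is nonzero -/
theorem vecMulVec_ne_zero {a : ι → F} {b : κ → F} (ha : a ≠ 0) (hb : b ≠ 0) :
    vecMulVec a b ≠ 0 := by
  intro h0
  obtain ⟨i, hi⟩ := Function.ne_iff.mp ha
  obtain ⟨j, hj⟩ := Function.ne_iff.mp hb
  have := congrFun (congrFun h0 i) j
  rw [vecMulVec_apply] at this
  exact mul_ne_zero hi hj this

/-- a Kronecker linear equivalence maps `x ⊗ B` onto a fibre `x' ⊗ B` -/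
theorem Lg_eq_fibB_of_isKron {x : ι → F} (hx0 : x ≠ 0)
    {h : Matrix ι κ F ≃ₗ[F] Matrix ι κ F} (hk : IsKron h) :
    ∃ x' : ι → F, x' ≠ 0 ∧ Lg (κ := κ) x h = fibB x' := by
  obtain ⟨P, Q, hPQ⟩ := hk
  have hpure : ∀ w : κ → F, h (vecMulVec x w) = vecMulVec (P *ᵥ x) (Q *ᵥ w) := by
    intro w
    rw [hPQ, mul_vecMulVec, vecMulVec_mul, vecMul_transpose]
  rcases isEmpty_or_nonempty κ with hE | hNe
  · refine ⟨x, hx0, ?_⟩
    ext X
    have h0 : X = 0 := Subsingleton.elim _ _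
    subst h0
    simp
  -- `Q` is injective
  have hQinj : Function.Injective (Matrix.mulVecLin Q) := by
    rw [← LinearMap.ker_eq_bot, LinearMap.ker_eq_bot']
    intro w hw
    have h1 : h (vecMulVec x w) = 0 := by
      rw [hpure]
      have : Q *ᵥ w = 0 := hw
      rw [this]
      ext i j
      simp [vecMulVec_apply]
    have h2 : vecMulVec x w = 0 := by
      have := h.injective (h1.trans (map_zero h).symm)
      exact this
    by_contra hw0
    exact vecMulVec_ne_zero hx0 hw0 h2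
  have hQsurj : Function.Surjective (Matrix.mulVecLin Q) :=
    LinearMap.surjective_of_injective hQinj
  have hPx : P *ᵥ x ≠ 0 := by
    intro h0
    obtain ⟨j⟩ := hNe
    have hw0 : (Pi.single j (1 : F) : κ → F) ≠ 0 := by
      intro hh
      have := congrFun hh j
      simp at this
    have h1 : h (vecMulVec x (Pi.single j (1 : F))) = 0 := by
      rw [hpure, h0]
      ext i j
      simp [vecMulVec_apply]
    have h2 : vecMulVec x (Pi.single j (1 : F) : κ → F) = 0 :=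
      h.injective (h1.trans (map_zero h).symm)
    exact vecMulVec_ne_zero hx0 hw0 h2
  refine ⟨P *ᵥ x, hPx, ?_⟩
  ext X
  rw [mem_Lg, mem_fibB]
  constructor
  · rintro ⟨w, rfl⟩
    exact ⟨Q *ᵥ w, hpure w⟩
  · rintro ⟨w', rfl⟩
    obtain ⟨w, hw⟩ := hQsurj w'
    refine ⟨w, ?_⟩
    rw [hpure]
    have : Q *ᵥ w = w' := hw
    rw [this]

/-- **G2I** -/
theorem g2I [Finite F] (hC : UTCtx α β M) (hS : StabII α M) (hS' : StabI β M)
    {x : ι → F} (hx0 : x ≠ 0) (hx : α x x = 0) {h : Matrix ι κ F ≃ₗ[F] Matrix ι κ F} (hh : h ∈ M)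
    {y : κ → F} (hy0 : y ≠ 0) (hy : β y y = 0) {c : F} (hc : σ c = -c) (hc0 : c ≠ 0)
    (hst : ∀ X ∈ Lg x h, tmE (1 : (ι → F) ≃ₗ[F] (ι → F)) (utv β y c) X ∈ Lg x h) :
    ∃ x' : ι → F, x' ≠ 0 ∧ Lg x h = fibB x' := by
  have hιpos : 0 < Fintype.card ι := lt_of_lt_of_le (by norm_num) hC.ha
  have hιne : Nonempty ι := Fintype.card_pos_iff.mp hιpos
  set s : Matrix ι κ F ≃ₗ[F] Matrix ι κ F := tmE (1 : (ι → F) ≃ₗ[F] (ι → F)) (utv β y c) with hsdef
  have hsM : s ∈ M :=
    Cfsg.Agent.Lib.Helper44_UT_BAS4.tmE_mem hC (one_mem _)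
      (Cfsg.Agent.Lib.Helper14_PSULocal1.utv_mem_SUg hC.hβ y hc)
  have hsX : ∀ X, s X = X + c • nI β y X := fun X =>
    Cfsg.Agent.Lib.Helper42_UT_BAS6.tmE_utv_right hy c X
  have hnI : ∀ X, nI (ι := ι) β y X = vecMulVec (ctrB β y X) y := fun X =>
    Cfsg.Agent.Lib.Helper17_UT_BAS1.nI_apply y X
  -- `s' = h⁻¹ s h`
  set s' : Matrix ι κ F ≃ₗ[F] Matrix ι κ F := h⁻¹ * s * h with hs'def
  have hs'M : s' ∈ M := M.mul_mem (M.mul_mem (M.inv_mem hh) hsM) hh
  have hs'apply : ∀ X, s' X = h.symm (s (h X)) := fun X => rfl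
  have hs'K : IsKron s' := by
    refine hS s' hs'M x x hx0 hx0 hx ?_
    intro w
    have h1 : h (vecMulVec x w) ∈ Lg x h := mem_Lg.mpr ⟨w, rfl⟩
    obtain ⟨w', hw'⟩ := mem_Lg.mp (hst _ h1)
    refine ⟨w', ?_⟩
    rw [hs'apply]
    have : s (h (vecMulVec x w)) = h (vecMulVec x w') := hw'
    rw [this, LinearEquiv.symm_apply_apply]
  -- the nilpotent part of `s'`
  set c' : Matrix ι κ F →ₗ[F] Matrix ι κ F :=
    h.symm.toLinearMap ∘ₗ (c • nI β y) ∘ₗ h.toLinearMap with hc'def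
  have hc'apply : ∀ X, c' X = h.symm (c • nI β y (h X)) := fun X => rfl
  have hs'c : ∀ X, s' X = X + c' X := by
    intro X
    rw [hs'apply, hsX, map_add, LinearEquiv.symm_apply_apply, hc'apply]
  -- `h` maps `range c'` into `fiber y`
  have hrange : ∀ Z ∈ LinearMap.range c', h Z ∈ fiber (ι := ι) y := by
    rintro _ ⟨X, rfl⟩
    rw [hc'apply, LinearEquiv.apply_symm_apply, hnI]
    exact (fiber y).smul_mem c ⟨_, rfl⟩
  -- rank bound
  have hrank : Module.finrank F (LinearMap.range c') ≤ Fintype.card ι := by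
    -- `range c'` embeds in `fiber y`, the image of `ι → F`
    let φ : (ι → F) →ₗ[F] Matrix ι κ F :=
      { toFun := fun a => vecMulVec a y
        map_add' := fun a a' => add_vecMulVec a a' y
        map_smul' := fun r a => smul_vecMulVec r a y }
    have hle : (LinearMap.range c').map h.toLinearMap ≤ LinearMap.range φ := by
      rintro _ ⟨Z, hZ, rfl⟩
      obtain ⟨a, ha⟩ := hrange Z hZ
      exact ⟨a, ha.symm⟩
    calc Module.finrank F (LinearMap.range c')
        = Module.finrank F ((LinearMap.range c').map h.toLinearMap) :=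
          (LinearEquiv.finrank_map_eq h _).symm
      _ ≤ Module.finrank F (LinearMap.range φ) := Submodule.finrank_mono hle
      _ ≤ Module.finrank F (ι → F) := LinearMap.finrank_range_le φ
      _ = Fintype.card ι := Module.finrank_fintype_fun_eq_card F
  -- `c' ≠ 0`
  have hc'ne : c' ≠ 0 := by
    obtain ⟨b, -, hb⟩ := hC.hβN y (Submodule.mem_top) hy0
    -- `β y b ≠ 0`, so `β b y ≠ 0`
    have hby : β b y ≠ 0 := by
      rw [hC.hβ y b]
      intro h0
      exact hb ((map_eq_zero_iff σ (RingHom.injective σ)).mp h0)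
    obtain ⟨i0⟩ := hιne
    have ha0 : (Pi.single i0 (1 : F) : ι → F) ≠ 0 := by
      intro hh
      have := congrFun hh i0
      simp at this
    intro h0
    have h1 : c' (h.symm (vecMulVec (Pi.single i0 (1 : F)) b)) = 0 := by
      rw [h0, LinearMap.zero_apply]
    rw [hc'apply, LinearEquiv.apply_symm_apply, hnI,
      Cfsg.Agent.Lib.Helper17_UT_BAS1.ctrB_pure] at h1
    have h2 : c • vecMulVec (β b y • (Pi.single i0 (1 : F) : ι → F)) y = 0 := by
      have := congrArg h h1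
      rwa [LinearEquiv.apply_symm_apply, map_zero] at this
    rw [smul_vecMulVec, smul_smul] at h2
    rcases smul_eq_zero.mp h2 with h3 | h3
    · exact mul_ne_zero hc0 hby h3
    · exact vecMulVec_ne_zero ha0 hy0 h3
  -- the range of `c'` is a fibre
  rcases Cfsg.Agent.Lib.Helper73_Tens_TP2.fiber_of_kron_rank hC.hab s' hs'K c' hs'c hrank with
    h0 | ⟨y₂, hy₂0, hy₂⟩
  · exact absurd h0 hc'ne
  -- `h` maps `fiber y₂` into `fiber y`
  have hmap : ∀ a : ι → F, ∃ a' : ι → F, h (vecMulVec a y₂) = vecMulVec a' y := by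
    intro a
    have h1 : vecMulVec a y₂ ∈ LinearMap.range c' := by
      rw [hy₂]
      exact ⟨a, rfl⟩
    exact hrange _ h1
  -- `y₂` is isotropic
  have hhU : h ∈ uG (tf α β) := ((mem_SUg).mp (hC.hM hh)).1
  have hy₂i : β y₂ y₂ = 0 := by
    obtain ⟨i0⟩ := hιne
    have ha0 : (Pi.single i0 (1 : F) : ι → F) ≠ 0 := by
      intro hh
      have := congrFun hh i0
      simp at this
    obtain ⟨a', -, ha'⟩ := hC.hαN _ (Submodule.mem_top) ha0
    obtain ⟨a₁, ha₁⟩ := hmap (Pi.single i0 (1 : F))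
    obtain ⟨a₂, ha₂⟩ := hmap a'
    have h1 := hhU (vecMulVec (Pi.single i0 (1 : F)) y₂) (vecMulVec a' y₂)
    rw [ha₁, ha₂, Cfsg.Agent.Lib.Helper17_UT_BAS1.tf_pure,
      Cfsg.Agent.Lib.Helper17_UT_BAS1.tf_pure, hy, mul_zero] at h1
    rcases mul_eq_zero.mp h1.symm with h2 | h2
    · exact absurd h2 ha'
    · exact h2
  have hK : IsKron h := hS' h hh y₂ y hy₂0 hy0 hy₂i hmap
  exact Lg_eq_fibB_of_isKron hx0 hK

end Cfsg.Agent.Lib.Helper17_UT_G2I
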