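import Mathlib
import Cfsg.Agent.Lib.Helper37_UTDefs
import Cfsg.Agent.Lib.Helper37_UTPairDefs
import Cfsg.Agent.Lib.Helper17_UT_BAS1
import Cfsg.Agent.Lib.Helper17_UT_G2I
import Cfsg.Agent.Lib.Helper44_UT_BAS4
import Cfsg.Agent.Lib.Helper53_UT_ZF
import Cfsg.Agent.Lib.Helper14_PSULocal1

set_option autoImplicit false
set_option linter.unusedSectionVars false
set_option linter.unusedVariables false

/-!
UTENS package LAYER (helper17, parallel seat): the action of `Stab_M(x ⊗ B)` on the layers,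
with the statement of `qcomm` as a hypothesis (`layer_of`).
-/

namespace Cfsg.Agent.Lib.Helper17_UT_LAYERaux

open Matrix Module
open Cfsg.Agent.Lib.Helper98_ExtDefs Cfsg.Agent.Lib.Helper97_TensDefs
open Cfsg.Agent.Lib.Helper94_Herm Cfsg.Agent.Lib.Helper13_PSUSimple
open Cfsg.Agent.Lib.Helper94_HermEich
open Cfsg.Agent.Lib.Helper67_UT2Defs Cfsg.Agent.Lib.Helper37_UTDefs
open Cfsg.Agent.Lib.Helper37_UTPairDefs
open Cfsg.Agent.Lib.Helper17_UT_BAS1 Cfsg.Agent.Lib.Helper17_UT_G2I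
open Cfsg.Agent.Lib.Helper44_UT_BAS4 Cfsg.Agent.Lib.Helper53_UT_ZF

variable {F : Type*} [Field F] {ι κ : Type*} [Fintype ι] [Fintype κ] [DecidableEq ι]
  [DecidableEq κ] {σ : F →+* F}
variable {α : (ι → F) →ₗ[F] (ι → F) →ₛₗ[σ] F} {β : (κ → F) →ₗ[F] (κ → F) →ₛₗ[σ] F}
variable {M : Subgroup (Matrix ι κ F ≃ₗ[F] Matrix ι κ F)}

theorem vmv_zero_right (a : ι → F) : vecMulVec a (0 : κ → F) = 0 := by
  ext i j
  simp [vecMulVec_apply]

/-- the action of `tmE (eich α x c γ) 1` -/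
theorem tmE_eich_apply {x c : ι → F} (hx : α x x = 0) (hcx : α c x = 0) (hxc : α x c = 0) (γ : F)
    (Y : Matrix ι κ F) :
    tmE (eich α x c γ) (1 : (κ → F) ≃ₗ[F] (κ → F)) Y =
      Y + vecMulVec c (ctrA α x Y) - vecMulVec x (ctrA α c Y) + γ • vecMulVec x (ctrA α x Y) := by
  refine h44_induction (p := fun Y => tmE (eich α x c γ) (1 : (κ → F) ≃ₗ[F] (κ → F)) Y =
      Y + vecMulVec c (ctrA α x Y) - vecMulVec x (ctrA α c Y) + γ • vecMulVec x (ctrA α x Y))
    ?_ ?_ ?_ Y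
  · simp only [map_zero, vmv_zero_right, smul_zero, add_zero, sub_zero]
  · intro X Y hX hY
    simp only [map_add, hX, hY, vecMulVec_add, smul_add]
    abel
  · intro a b
    rw [tmE_pure, eich_apply α hx hcx hxc, ctrA_pure, ctrA_pure]
    have h1 : (1 : (κ → F) ≃ₗ[F] (κ → F)) b = b := rfl
    rw [h1]
    ext i j
    simp only [vecMulVec_apply, Pi.add_apply, Pi.sub_apply, Pi.smul_apply, smul_eq_mul,
      Matrix.add_apply, Matrix.sub_apply, Matrix.smul_apply]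
    ring

/-- **LAYER**, with the statement of `qcomm` as a hypothesis -/
theorem layer_of (hB : UTBase α β M) {x : ι → F} (hx0 : x ≠ 0) (hx : α x x = 0)
    (hq : ∀ h ∈ M, InQ α x h → ∃ (c : ι → F) (γ : F), α c x = 0 ∧ γ + σ γ = -(α c c) ∧
      h = tmE (eich α x c γ) (1 : (κ → F) ≃ₗ[F] (κ → F)))
    {g : Matrix ι κ F ≃ₗ[F] Matrix ι κ F} (hg : g ∈ M)
    (hst : ∀ w : κ → F, ∃ w' : κ → F, g (vecMulVec x w) = vecMulVec x w') :
    ∃ (g₃ : (κ → F) →ₗ[F] (κ → F)) (φ : (ι → F) →ₗ[F] (ι → F)),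
      (∀ X, ctrA α x (g X) = g₃ (ctrA α x X)) ∧
      (∀ c, α c x = 0 → α (φ c) x = 0) ∧
      (∀ c w, α c x = 0 → g (vecMulVec c w) - vecMulVec (φ c) (g₃ w) ∈ fibB (κ := κ) x) := by
  rcases isEmpty_or_nonempty κ with hE | hNe
  · refine ⟨0, 0, fun X => Subsingleton.elim _ _, fun c _ => by simp, fun c w _ => ?_⟩
    have h0 : g (vecMulVec c w) - vecMulVec ((0 : (ι → F) →ₗ[F] (ι → F)) c)
        ((0 : (κ → F) →ₗ[F] (κ → F)) w) = 0 := Subsingleton.elim _ _
    rw [h0]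
    exact Submodule.zero_mem _
  obtain ⟨xs, hxs1, hxs2⟩ := h53_exists_dual hB.hσ hB.hα hB.hαN hx0
  have hgU : g ∈ uG (tf α β) := (mem_SUg.mp (hB.hM hg)).1
  -- the action on `x ⊗ B`
  let g₁ : (κ → F) →ₗ[F] (κ → F) := ctrA α xs ∘ₗ g.toLinearMap ∘ₗ vmR x
  have hg₁ : ∀ w, g (vecMulVec x w) = vecMulVec x (g₁ w) := by
    intro w
    obtain ⟨w', hw'⟩ := hst w
    have h1 : g₁ w = w' := by
      show ctrA α xs (g (vecMulVec x w)) = w'
      rw [hw', ctrA_pure, hxs2, one_smul]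
    rw [h1, hw']
  have hg₁inj : Function.Injective g₁ := by
    rw [← LinearMap.ker_eq_bot, LinearMap.ker_eq_bot']
    intro w hw
    have h1 : g (vecMulVec x w) = 0 := by rw [hg₁, hw, vmv_zero_right]
    have h2 : vecMulVec x w = 0 := g.injective (h1.trans (map_zero g).symm)
    by_contra hw0
    exact vecMulVec_ne_zero hx0 hw0 h2
  have hg₁surj : Function.Surjective g₁ := LinearMap.surjective_of_injective hg₁inj
  -- `g` preserves `ker (ctrA α x)`
  have hker : ∀ Y, ctrA α x Y = 0 → ctrA α x (g Y) = 0 := by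
    intro Y hY
    by_contra hne
    obtain ⟨y, -, hy⟩ := hB.hβN _ trivial hne
    obtain ⟨w, hw⟩ := hg₁surj y
    have h2 : tf α β (g Y) (g (vecMulVec x w)) = tf α β Y (vecMulVec x w) := hgU _ _
    rw [hg₁, hw, tf_right_pure', tf_right_pure', hY, map_zero, LinearMap.zero_apply] at h2
    exact hy h2
  let g₃ : (κ → F) →ₗ[F] (κ → F) := ctrA α x ∘ₗ g.toLinearMap ∘ₗ vmR xs
  have hg₃def : ∀ w, g₃ w = ctrA α x (g (vecMulVec xs w)) := fun w => rfl
  have hg₃ : ∀ X, ctrA α x (g X) = g₃ (ctrA α x X) := by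
    intro X
    have hY : ctrA α x (X - vecMulVec xs (ctrA α x X)) = 0 := by
      rw [map_sub, ctrA_pure, hxs1, one_smul, sub_self]
    have h1 := hker _ hY
    rw [map_sub, map_sub, sub_eq_zero] at h1
    rw [h1, hg₃def]
  have hg₃surj : Function.Surjective g₃ := by
    intro w
    refine ⟨ctrA α x (g.symm (vecMulVec xs w)), ?_⟩
    rw [← hg₃, LinearEquiv.apply_symm_apply, ctrA_pure, hxs1, one_smul]
  have hg₃inj : Function.Injective g₃ := LinearMap.injective_iff_surjective.mpr hg₃surj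
  have hker' : ∀ X, ctrA α x X = 0 → ctrA α x (g.symm X) = 0 := by
    intro X hX
    have h1 := hg₃ (g.symm X)
    rw [LinearEquiv.apply_symm_apply, hX] at h1
    exact hg₃inj (h1.symm.trans (map_zero g₃).symm)
  -- the middle layer
  have hclaim : ∀ c, α c x = 0 → ∃ c', α c' x = 0 ∧
      ∀ w, g (vecMulVec c w) - vecMulVec c' (g₃ w) ∈ fibB (κ := κ) x := by
    intro c hcx
    have hxc : α x c = 0 := by rw [hB.hα c x, hcx, map_zero]
    have hcc : σ (-(α c c)) = -(α c c) := by rw [map_neg, ← hB.hα c c]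
    obtain ⟨γ, hγ⟩ := tr_surj hB.hσ (-(α c c)) hcc
    set k : Matrix ι κ F ≃ₗ[F] Matrix ι κ F :=
      tmE (eich α x c γ) (1 : (κ → F) ≃ₗ[F] (κ → F)) with hk
    have hkM : k ∈ M :=
      tmE_mem_base hB (Cfsg.Agent.Lib.Helper14_PSULocal1.eich_mem_SUg hB.hα hγ) (one_mem _)
    set hc : Matrix ι κ F ≃ₗ[F] Matrix ι κ F := g * k * g⁻¹ with hhc
    have hcM : hc ∈ M := M.mul_mem (M.mul_mem hg hkM) (M.inv_mem hg)
    have hcapply : ∀ X, hc X = g (k (g.symm X)) := fun X => rfl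
    have hkform : ∀ Y, k Y = Y + vecMulVec c (ctrA α x Y) - vecMulVec x (ctrA α c Y)
        + γ • vecMulVec x (ctrA α x Y) := fun Y => tmE_eich_apply hx hcx hxc γ Y
    have hQ : InQ α x hc := by
      constructor
      · intro w
        obtain ⟨w₁, hw₁⟩ := hg₁surj w
        have h1 : g.symm (vecMulVec x w) = vecMulVec x w₁ := by
          rw [← hw₁, ← hg₁, LinearEquiv.symm_apply_apply]
        rw [hcapply, h1, hkform, ctrA_pure, ctrA_pure, hx, hxc, zero_smul, vmv_zero_right,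
          vmv_zero_right, smul_zero, add_zero, sub_zero, add_zero, hg₁, hw₁]
      · intro X hX
        have hY := hker' X hX
        rw [hcapply, hkform, hY, vmv_zero_right, vmv_zero_right, smul_zero, add_zero, add_zero,
          map_sub, LinearEquiv.apply_symm_apply, hg₁, sub_sub_cancel_left]
        exact (fibB x).neg_mem ⟨_, rfl⟩
    obtain ⟨c', γ', hc'x, hγ', hEq⟩ := hq hc hcM hQ
    have hxc' : α x c' = 0 := by rw [hB.hα c' x, hc'x, map_zero]
    refine ⟨c', hc'x, fun w => ?_⟩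
    have h1 : hc (g (vecMulVec xs w)) = g (k (vecMulVec xs w)) := by
      rw [hcapply, LinearEquiv.symm_apply_apply]
    have h2 : k (vecMulVec xs w) = vecMulVec xs w + vecMulVec c w
        - vecMulVec x (α xs c • w) + γ • vecMulVec x w := by
      rw [hkform, ctrA_pure, ctrA_pure, hxs1, one_smul]
    have h3 : hc (g (vecMulVec xs w)) = g (vecMulVec xs w) + vecMulVec c' (g₃ w)
        - vecMulVec x (ctrA α c' (g (vecMulVec xs w))) + γ' • vecMulVec x (g₃ w) := by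
      rw [hEq, tmE_eich_apply hx hc'x hxc' γ', ← hg₃def]
    rw [h2, map_add, map_sub, map_add, map_smul, hg₁, hg₁] at h1
    have h4 : g (vecMulVec c w) - vecMulVec c' (g₃ w) =
        -vecMulVec x (ctrA α c' (g (vecMulVec xs w))) + γ' • vecMulVec x (g₃ w)
        + vecMulVec x (g₁ (α xs c • w)) - γ • vecMulVec x (g₁ w) := by
      linear_combination (norm := module) h3 - h1
    rw [h4]
    refine (fibB x).sub_mem ((fibB x).add_mem ((fibB x).add_mem ((fibB x).neg_mem ⟨_, rfl⟩)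
      ((fibB x).smul_mem _ ⟨_, rfl⟩)) ⟨_, rfl⟩) ((fibB x).smul_mem _ ⟨_, rfl⟩)
  -- a linear choice
  obtain ⟨j0⟩ := hNe
  have hw0 : (Pi.single j0 (1 : F) : κ → F) ≠ 0 := by
    intro hh
    have := congrFun hh j0
    simp at this
  set w₀ : κ → F := Pi.single j0 (1 : F) with hw₀
  have hg₃w₀ : g₃ w₀ ≠ 0 := fun h0 => hw0 (hg₃inj (h0.trans (map_zero g₃).symm))
  obtain ⟨y₁, -, hy₁⟩ := hB.hβN _ trivial hg₃w₀
  set r : F := β (g₃ w₀) y₁ with hr
  let φ : (ι → F) →ₗ[F] (ι → F) :=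
    r⁻¹ • ((ctrB β y₁ : Matrix ι κ F →ₗ[F] (ι → F)) ∘ₗ g.toLinearMap ∘ₗ
      (LinearMap.flip (vecMulVecBilin F F) w₀ : (ι → F) →ₗ[F] Matrix ι κ F))
  have hφdef : ∀ c, φ c = r⁻¹ • ctrB β y₁ (g (vecMulVec c w₀)) := fun c => rfl
  -- `φ c ≡ c'` modulo `x`
  have hφ : ∀ c, α c x = 0 → ∀ c', α c' x = 0 →
      (∀ w, g (vecMulVec c w) - vecMulVec c' (g₃ w) ∈ fibB (κ := κ) x) →
      ∃ t : F, φ c = c' + t • x := by
    intro c hcx c' hc'x hcw
    obtain ⟨u, hu⟩ := hcw w₀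
    have h1 : g (vecMulVec c w₀) = vecMulVec c' (g₃ w₀) + vecMulVec x u := by
      rw [← hu]; abel
    refine ⟨r⁻¹ * β u y₁, ?_⟩
    rw [hφdef, h1, map_add, ctrB_pure, ctrB_pure, smul_add, smul_smul, smul_smul,
      inv_mul_cancel₀ hy₁, one_smul]
  refine ⟨g₃, φ, hg₃, ?_, ?_⟩
  · intro c hcx
    obtain ⟨c', hc'x, hcw⟩ := hclaim c hcx
    obtain ⟨t, ht⟩ := hφ c hcx c' hc'x hcw
    rw [ht, map_add, LinearMap.add_apply, map_smul, LinearMap.smul_apply, hc'x, hx, smul_zero,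
      add_zero]
  · intro c w hcx
    obtain ⟨c', hc'x, hcw⟩ := hclaim c hcx
    obtain ⟨t, ht⟩ := hφ c hcx c' hc'x hcw
    have h1 : g (vecMulVec c w) - vecMulVec (φ c) (g₃ w) =
        (g (vecMulVec c w) - vecMulVec c' (g₃ w)) - t • vecMulVec x (g₃ w) := by
      rw [ht, add_vecMulVec, smul_vecMulVec]
      abel
    rw [h1]
    exact (fibB x).sub_mem (hcw w) ((fibB x).smul_mem _ ⟨_, rfl⟩)

end Cfsg.Agent.Lib.Helper17_UT_LAYERaux
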