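import Mathlib
import Cfsg.Prelude.Def_Classical

/-!
# The orthogonal group of `x₀² + x₁y₁ + x₂y₂` in coordinates `Fin 5`: root elements

Coordinates `(x₀, x₁, x₂, y₁, y₂)`.  `T r t` (`r < 8`) are the eight root elements of type `B₂`
(Eichler transformations), with signs matched to the structure constants of `Cfsg.Lie.chevB2`.
-/

set_option autoImplicit false

namespace Cfsg.Agent.Lib.Helper18_B2OmA

open Matrix

variable {F : Type*} [Field F]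

/-- The quadratic form `x₀² + x₁y₁ + x₂y₂` in coordinates `(x₀, x₁, x₂, y₁, y₂)`. -/
def Q5 (v : Fin 5 → F) : F := v 0 ^ 2 + v 1 * v 3 + v 2 * v 4

/-- The root elements. -/
def T (r : ℕ) (t : F) : Matrix (Fin 5) (Fin 5) F :=
  match r with
  | 0 => !![1, 0, 0, 0, 0; 0, 1, 0, 0, 0; 0, 0, 1, 0, 0; 0, 0, -t, 1, 0; 0, t, 0, 0, 1]
  | 1 => !![1, t, 0, 0, 0; 0, 1, 0, 0, 0; 0, 0, 1, 0, 0; -2*t, -t^2, 0, 1, 0; 0, 0, 0, 0, 1]
  | 2 => !![1, 0, t, 0, 0; 0, 1, 0, 0, 0; 0, 0, 1, 0, 0; 0, 0, 0, 1, 0; -2*t, 0, -t^2, 0, 1]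
  | 3 => !![1, 0, 0, 0, 0; 0, 1, 0, 0, 0; 0, t, 1, 0, 0; 0, 0, 0, 1, -t; 0, 0, 0, 0, 1]
  | 4 => !![1, 0, 0, 0, 0; 0, 1, t, 0, 0; 0, 0, 1, 0, 0; 0, 0, 0, 1, 0; 0, 0, 0, -t, 1]
  | 5 => !![1, 0, 0, 0, -t; 0, 1, 0, 0, 0; 2*t, 0, 1, 0, -t^2; 0, 0, 0, 1, 0; 0, 0, 0, 0, 1]
  | 6 => !![1, 0, 0, -t, 0; 2*t, 1, 0, -t^2, 0; 0, 0, 1, 0, 0; 0, 0, 0, 1, 0; 0, 0, 0, 0, 1]
  | 7 => !![1, 0, 0, 0, 0; 0, 1, 0, 0, t; 0, 0, 1, -t, 0; 0, 0, 0, 1, 0; 0, 0, 0, 0, 1]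
  | _ => 1

theorem vec5_eta (v : Fin 5 → F) : v = ![v 0, v 1, v 2, v 3, v 4] := by
  ext i; fin_cases i <;> rfl

theorem mat_ext_mulVec {A B : Matrix (Fin 5) (Fin 5) F} (h : ∀ x, A *ᵥ x = B *ᵥ x) : A = B := by
  ext i j
  have := congrFun (h (Pi.single j 1)) i
  simpa using this

theorem T_ge (r : ℕ) (h : 8 ≤ r) (t : F) : T r t = 1 := by
  obtain ⟨k, rfl⟩ : ∃ k, r = k + 8 := ⟨r - 8, by omega⟩
  rfl

theorem T0_mulVec (t : F) (x : Fin 5 → F) :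
    T 0 t *ᵥ x = ![x 0, x 1, x 2, (-t) * x 2 + x 3, (t) * x 1 + x 4] := by
  ext i; fin_cases i <;> simp [T, Matrix.mulVec, dotProduct, Fin.sum_univ_five]

theorem T1_mulVec (t : F) (x : Fin 5 → F) :
    T 1 t *ᵥ x = ![x 0 + (t) * x 1, x 1, x 2, (-2*t) * x 0 + (-t^2) * x 1 + x 3, x 4] := by
  ext i; fin_cases i <;> simp [T, Matrix.mulVec, dotProduct, Fin.sum_univ_five]

theorem T2_mulVec (t : F) (x : Fin 5 → F) :
    T 2 t *ᵥ x = ![x 0 + (t) * x 2, x 1, x 2, x 3, (-2*t) * x 0 + (-t^2) * x 2 + x 4] := by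
  ext i; fin_cases i <;> simp [T, Matrix.mulVec, dotProduct, Fin.sum_univ_five]

theorem T3_mulVec (t : F) (x : Fin 5 → F) :
    T 3 t *ᵥ x = ![x 0, x 1, (t) * x 1 + x 2, x 3 + (-t) * x 4, x 4] := by
  ext i; fin_cases i <;> simp [T, Matrix.mulVec, dotProduct, Fin.sum_univ_five]

theorem T4_mulVec (t : F) (x : Fin 5 → F) :
    T 4 t *ᵥ x = ![x 0, x 1 + (t) * x 2, x 2, x 3, (-t) * x 3 + x 4] := by
  ext i; fin_cases i <;> simp [T, Matrix.mulVec, dotProduct, Fin.sum_univ_five]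

theorem T5_mulVec (t : F) (x : Fin 5 → F) :
    T 5 t *ᵥ x = ![x 0 + (-t) * x 4, x 1, (2*t) * x 0 + x 2 + (-t^2) * x 4, x 3, x 4] := by
  ext i; fin_cases i <;> simp [T, Matrix.mulVec, dotProduct, Fin.sum_univ_five]

theorem T6_mulVec (t : F) (x : Fin 5 → F) :
    T 6 t *ᵥ x = ![x 0 + (-t) * x 3, (2*t) * x 0 + x 1 + (-t^2) * x 3, x 2, x 3, x 4] := by
  ext i; fin_cases i <;> simp [T, Matrix.mulVec, dotProduct, Fin.sum_univ_five]

theorem T7_mulVec (t : F) (x : Fin 5 → F) :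
    T 7 t *ᵥ x = ![x 0, x 1 + (t) * x 4, x 2 + (-t) * x 3, x 3, x 4] := by
  ext i; fin_cases i <;> simp [T, Matrix.mulVec, dotProduct, Fin.sum_univ_five]

theorem T_zero (r : ℕ) : T r (0 : F) = 1 := by
  by_cases hr : r < 8
  · apply mat_ext_mulVec
    intro x
    interval_cases r <;>
    simp only [T0_mulVec, T1_mulVec, T2_mulVec, T3_mulVec, T4_mulVec, T5_mulVec, T6_mulVec,
      T7_mulVec] <;>
    (rw [one_mulVec]; ext i; fin_cases i <;> simp)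
  · exact T_ge r (by omega) 0

theorem T_add (r : ℕ) (t u : F) : T r t * T r u = T r (t + u) := by
  by_cases hr : r < 8
  · apply mat_ext_mulVec
    intro x
    rw [← Matrix.mulVec_mulVec]
    interval_cases r <;>
    simp only [T0_mulVec, T1_mulVec, T2_mulVec, T3_mulVec, T4_mulVec, T5_mulVec, T6_mulVec,
      T7_mulVec] <;>
    (ext i; fin_cases i <;> simp <;> ring)
  · rw [T_ge r (by omega), T_ge r (by omega), T_ge r (by omega), mul_one]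

theorem Q5_T (r : ℕ) (t : F) (x : Fin 5 → F) : Q5 (T r t *ᵥ x) = Q5 x := by
  by_cases hr : r < 8
  · interval_cases r <;>
    simp only [T0_mulVec, T1_mulVec, T2_mulVec, T3_mulVec, T4_mulVec, T5_mulVec, T6_mulVec,
      T7_mulVec] <;>
    (simp [Q5]; ring)
  · rw [T_ge r (by omega), one_mulVec]

/-- The product of root elements along a list of commutator terms `(root, C, i, j)`. -/
def prodT (l : List (ℕ × ℤ × ℕ × ℕ)) (t u : F) : Matrix (Fin 5) (Fin 5) F :=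
  (l.map fun c => T c.1 ((c.2.1 : F) * (-t) ^ c.2.2.1 * u ^ c.2.2.2)).prod

/-- The root elements as invertible matrices. -/
def UGL (r : ℕ) (t : F) : GL (Fin 5) F :=
  ⟨T r t, T r (-t), by rw [T_add, add_neg_cancel, T_zero], by rw [T_add, neg_add_cancel, T_zero]⟩

theorem UGL_val (r : ℕ) (t : F) : ((UGL r t : GL (Fin 5) F) : Matrix (Fin 5) (Fin 5) F) = T r t := rfl

theorem UGL_inv_val (r : ℕ) (t : F) :
    (((UGL r t)⁻¹ : GL (Fin 5) F) : Matrix (Fin 5) (Fin 5) F) = T r (-t) := rfl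

theorem UGL_inv (r : ℕ) (t : F) : (UGL r t)⁻¹ = UGL r (-t) := by
  apply Units.ext
  rfl

theorem UGL_mul (r : ℕ) (t u : F) : UGL r t * UGL r u = UGL r (t + u) := by
  apply Units.ext
  exact T_add r t u

theorem UGL_ge (r : ℕ) (h : 8 ≤ r) (t : F) : UGL r t = 1 := by
  apply Units.ext
  exact T_ge r h t

/-- The isometry group of `Q5`. -/
abbrev O5 (F : Type*) [Field F] : Subgroup (GL (Fin 5) F) := Cfsg.isometryGroup F (Q5 : (Fin 5 → F) → F)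

theorem mem_O5 (g : GL (Fin 5) F) :
    g ∈ O5 F ↔ ∀ v, Q5 ((g : Matrix (Fin 5) (Fin 5) F) *ᵥ v) = Q5 v :=
  ⟨fun h v => h v v, fun h u _ => h u⟩

theorem UGL_mem (r : ℕ) (t : F) : UGL r t ∈ O5 F := by
  rw [mem_O5]
  intro v
  exact Q5_T r t v

/-- The subgroup generated by the root elements. -/
def E5 (F : Type*) [Field F] : Subgroup (GL (Fin 5) F) :=
  Subgroup.closure {g | ∃ (r : ℕ) (t : F), r < 8 ∧ g = UGL r t}

theorem UGL_mem_E5 (r : ℕ) (t : F) : UGL r t ∈ E5 F := by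
  by_cases hr : r < 8
  · exact Subgroup.subset_closure ⟨r, t, hr, rfl⟩
  · rw [UGL_ge r (by omega)]
    exact one_mem _

theorem E5_le_O5 : E5 F ≤ O5 F := by
  rw [E5, Subgroup.closure_le]
  rintro _ ⟨r, t, _, rfl⟩
  exact UGL_mem r t

end Cfsg.Agent.Lib.Helper18_B2OmA
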