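import Mathlib
import Cfsg.Agent.Lib.Helper18_B2OmA

/-!
# Steinberg relation (R2) for the root elements of `O₅` (generated identities)
-/

set_option autoImplicit false
set_option linter.unusedSimpArgs false
set_option linter.unusedSectionVars false

namespace Cfsg.Agent.Lib.Helper18_B2OmB1

open Matrix Cfsg.Agent.Lib.Helper18_B2OmA

variable {F : Type*} [Field F]

theorem R2_0_1 (t u : F) :
    T 1 (-u) * T 0 (-t) * T 1 u * T 0 t = prodT [] t u := by
  simp only [prodT, List.map_cons, List.map_nil, List.prod_cons, List.prod_nil, mul_one]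
  apply mat_ext_mulVec
  intro x
  simp only [← Matrix.mulVec_mulVec, T0_mulVec, T1_mulVec, T2_mulVec, T3_mulVec, T4_mulVec,
    T5_mulVec, T6_mulVec, T7_mulVec, one_mulVec]
  ext i; fin_cases i <;> simp <;> ring

theorem R2_0_2 (t u : F) :
    T 2 (-u) * T 0 (-t) * T 2 u * T 0 t = prodT [] t u := by
  simp only [prodT, List.map_cons, List.map_nil, List.prod_cons, List.prod_nil, mul_one]
  apply mat_ext_mulVec
  intro x
  simp only [← Matrix.mulVec_mulVec, T0_mulVec, T1_mulVec, T2_mulVec, T3_mulVec, T4_mulVec,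
    T5_mulVec, T6_mulVec, T7_mulVec, one_mulVec]
  ext i; fin_cases i <;> simp <;> ring

theorem R2_0_3 (t u : F) :
    T 3 (-u) * T 0 (-t) * T 3 u * T 0 t = prodT [] t u := by
  simp only [prodT, List.map_cons, List.map_nil, List.prod_cons, List.prod_nil, mul_one]
  apply mat_ext_mulVec
  intro x
  simp only [← Matrix.mulVec_mulVec, T0_mulVec, T1_mulVec, T2_mulVec, T3_mulVec, T4_mulVec,
    T5_mulVec, T6_mulVec, T7_mulVec, one_mulVec]
  ext i; fin_cases i <;> simp <;> ring

theorem R2_0_4 (t u : F) :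
    T 4 (-u) * T 0 (-t) * T 4 u * T 0 t = prodT [] t u := by
  simp only [prodT, List.map_cons, List.map_nil, List.prod_cons, List.prod_nil, mul_one]
  apply mat_ext_mulVec
  intro x
  simp only [← Matrix.mulVec_mulVec, T0_mulVec, T1_mulVec, T2_mulVec, T3_mulVec, T4_mulVec,
    T5_mulVec, T6_mulVec, T7_mulVec, one_mulVec]
  ext i; fin_cases i <;> simp <;> ring

theorem R2_0_5 (t u : F) :
    T 5 (-u) * T 0 (-t) * T 5 u * T 0 t = prodT [(1, 1, 1, 1), (3, -1, 1, 2)] t u := by
  simp only [prodT, List.map_cons, List.map_nil, List.prod_cons, List.prod_nil, mul_one]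
  apply mat_ext_mulVec
  intro x
  simp only [← Matrix.mulVec_mulVec, T0_mulVec, T1_mulVec, T2_mulVec, T3_mulVec, T4_mulVec,
    T5_mulVec, T6_mulVec, T7_mulVec, one_mulVec]
  ext i; fin_cases i <;> simp <;> ring

theorem R2_0_6 (t u : F) :
    T 6 (-u) * T 0 (-t) * T 6 u * T 0 t = prodT [(2, -1, 1, 1), (4, 1, 1, 2)] t u := by
  simp only [prodT, List.map_cons, List.map_nil, List.prod_cons, List.prod_nil, mul_one]
  apply mat_ext_mulVec
  intro x
  simp only [← Matrix.mulVec_mulVec, T0_mulVec, T1_mulVec, T2_mulVec, T3_mulVec, T4_mulVec,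
    T5_mulVec, T6_mulVec, T7_mulVec, one_mulVec]
  ext i; fin_cases i <;> simp <;> ring

theorem R2_1_0 (t u : F) :
    T 0 (-u) * T 1 (-t) * T 0 u * T 1 t = prodT [] t u := by
  simp only [prodT, List.map_cons, List.map_nil, List.prod_cons, List.prod_nil, mul_one]
  apply mat_ext_mulVec
  intro x
  simp only [← Matrix.mulVec_mulVec, T0_mulVec, T1_mulVec, T2_mulVec, T3_mulVec, T4_mulVec,
    T5_mulVec, T6_mulVec, T7_mulVec, one_mulVec]
  ext i; fin_cases i <;> simp <;> ring

theorem R2_1_2 (t u : F) :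
    T 2 (-u) * T 1 (-t) * T 2 u * T 1 t = prodT [(0, 2, 1, 1)] t u := by
  simp only [prodT, List.map_cons, List.map_nil, List.prod_cons, List.prod_nil, mul_one]
  apply mat_ext_mulVec
  intro x
  simp only [← Matrix.mulVec_mulVec, T0_mulVec, T1_mulVec, T2_mulVec, T3_mulVec, T4_mulVec,
    T5_mulVec, T6_mulVec, T7_mulVec, one_mulVec]
  ext i; fin_cases i <;> simp <;> ring

theorem R2_1_3 (t u : F) :
    T 3 (-u) * T 1 (-t) * T 3 u * T 1 t = prodT [] t u := by
  simp only [prodT, List.map_cons, List.map_nil, List.prod_cons, List.prod_nil, mul_one]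
  apply mat_ext_mulVec
  intro x
  simp only [← Matrix.mulVec_mulVec, T0_mulVec, T1_mulVec, T2_mulVec, T3_mulVec, T4_mulVec,
    T5_mulVec, T6_mulVec, T7_mulVec, one_mulVec]
  ext i; fin_cases i <;> simp <;> ring

theorem R2_1_4 (t u : F) :
    T 4 (-u) * T 1 (-t) * T 4 u * T 1 t = prodT [(2, 1, 1, 1), (0, 1, 2, 1)] t u := by
  simp only [prodT, List.map_cons, List.map_nil, List.prod_cons, List.prod_nil, mul_one]
  apply mat_ext_mulVec
  intro x
  simp only [← Matrix.mulVec_mulVec, T0_mulVec, T1_mulVec, T2_mulVec, T3_mulVec, T4_mulVec,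
    T5_mulVec, T6_mulVec, T7_mulVec, one_mulVec]
  ext i; fin_cases i <;> simp <;> ring

theorem R2_1_5 (t u : F) :
    T 5 (-u) * T 1 (-t) * T 5 u * T 1 t = prodT [(3, -2, 1, 1)] t u := by
  simp only [prodT, List.map_cons, List.map_nil, List.prod_cons, List.prod_nil, mul_one]
  apply mat_ext_mulVec
  intro x
  simp only [← Matrix.mulVec_mulVec, T0_mulVec, T1_mulVec, T2_mulVec, T3_mulVec, T4_mulVec,
    T5_mulVec, T6_mulVec, T7_mulVec, one_mulVec]
  ext i; fin_cases i <;> simp <;> ring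

theorem R2_1_7 (t u : F) :
    T 7 (-u) * T 1 (-t) * T 7 u * T 1 t = prodT [(5, -1, 1, 1), (3, 1, 2, 1)] t u := by
  simp only [prodT, List.map_cons, List.map_nil, List.prod_cons, List.prod_nil, mul_one]
  apply mat_ext_mulVec
  intro x
  simp only [← Matrix.mulVec_mulVec, T0_mulVec, T1_mulVec, T2_mulVec, T3_mulVec, T4_mulVec,
    T5_mulVec, T6_mulVec, T7_mulVec, one_mulVec]
  ext i; fin_cases i <;> simp <;> ring

theorem R2_2_0 (t u : F) :
    T 0 (-u) * T 2 (-t) * T 0 u * T 2 t = prodT [] t u := by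
  simp only [prodT, List.map_cons, List.map_nil, List.prod_cons, List.prod_nil, mul_one]
  apply mat_ext_mulVec
  intro x
  simp only [← Matrix.mulVec_mulVec, T0_mulVec, T1_mulVec, T2_mulVec, T3_mulVec, T4_mulVec,
    T5_mulVec, T6_mulVec, T7_mulVec, one_mulVec]
  ext i; fin_cases i <;> simp <;> ring

theorem R2_2_1 (t u : F) :
    T 1 (-u) * T 2 (-t) * T 1 u * T 2 t = prodT [(0, -2, 1, 1)] t u := by
  simp only [prodT, List.map_cons, List.map_nil, List.prod_cons, List.prod_nil, mul_one]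
  apply mat_ext_mulVec
  intro x
  simp only [← Matrix.mulVec_mulVec, T0_mulVec, T1_mulVec, T2_mulVec, T3_mulVec, T4_mulVec,
    T5_mulVec, T6_mulVec, T7_mulVec, one_mulVec]
  ext i; fin_cases i <;> simp <;> ring

theorem R2_2_3 (t u : F) :
    T 3 (-u) * T 2 (-t) * T 3 u * T 2 t = prodT [(1, 1, 1, 1), (0, -1, 2, 1)] t u := by
  simp only [prodT, List.map_cons, List.map_nil, List.prod_cons, List.prod_nil, mul_one]
  apply mat_ext_mulVec
  intro x
  simp only [← Matrix.mulVec_mulVec, T0_mulVec, T1_mulVec, T2_mulVec, T3_mulVec, T4_mulVec,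
    T5_mulVec, T6_mulVec, T7_mulVec, one_mulVec]
  ext i; fin_cases i <;> simp <;> ring

theorem R2_2_4 (t u : F) :
    T 4 (-u) * T 2 (-t) * T 4 u * T 2 t = prodT [] t u := by
  simp only [prodT, List.map_cons, List.map_nil, List.prod_cons, List.prod_nil, mul_one]
  apply mat_ext_mulVec
  intro x
  simp only [← Matrix.mulVec_mulVec, T0_mulVec, T1_mulVec, T2_mulVec, T3_mulVec, T4_mulVec,
    T5_mulVec, T6_mulVec, T7_mulVec, one_mulVec]
  ext i; fin_cases i <;> simp <;> ring

theorem R2_2_6 (t u : F) :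
    T 6 (-u) * T 2 (-t) * T 6 u * T 2 t = prodT [(4, -2, 1, 1)] t u := by
  simp only [prodT, List.map_cons, List.map_nil, List.prod_cons, List.prod_nil, mul_one]
  apply mat_ext_mulVec
  intro x
  simp only [← Matrix.mulVec_mulVec, T0_mulVec, T1_mulVec, T2_mulVec, T3_mulVec, T4_mulVec,
    T5_mulVec, T6_mulVec, T7_mulVec, one_mulVec]
  ext i; fin_cases i <;> simp <;> ring

theorem R2_2_7 (t u : F) :
    T 7 (-u) * T 2 (-t) * T 7 u * T 2 t = prodT [(6, 1, 1, 1), (4, -1, 2, 1)] t u := by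
  simp only [prodT, List.map_cons, List.map_nil, List.prod_cons, List.prod_nil, mul_one]
  apply mat_ext_mulVec
  intro x
  simp only [← Matrix.mulVec_mulVec, T0_mulVec, T1_mulVec, T2_mulVec, T3_mulVec, T4_mulVec,
    T5_mulVec, T6_mulVec, T7_mulVec, one_mulVec]
  ext i; fin_cases i <;> simp <;> ring

theorem R2_3_0 (t u : F) :
    T 0 (-u) * T 3 (-t) * T 0 u * T 3 t = prodT [] t u := by
  simp only [prodT, List.map_cons, List.map_nil, List.prod_cons, List.prod_nil, mul_one]
  apply mat_ext_mulVec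
  intro x
  simp only [← Matrix.mulVec_mulVec, T0_mulVec, T1_mulVec, T2_mulVec, T3_mulVec, T4_mulVec,
    T5_mulVec, T6_mulVec, T7_mulVec, one_mulVec]
  ext i; fin_cases i <;> simp <;> ring

theorem R2_3_1 (t u : F) :
    T 1 (-u) * T 3 (-t) * T 1 u * T 3 t = prodT [] t u := by
  simp only [prodT, List.map_cons, List.map_nil, List.prod_cons, List.prod_nil, mul_one]
  apply mat_ext_mulVec
  intro x
  simp only [← Matrix.mulVec_mulVec, T0_mulVec, T1_mulVec, T2_mulVec, T3_mulVec, T4_mulVec,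
    T5_mulVec, T6_mulVec, T7_mulVec, one_mulVec]
  ext i; fin_cases i <;> simp <;> ring

theorem R2_3_2 (t u : F) :
    T 2 (-u) * T 3 (-t) * T 2 u * T 3 t = prodT [(1, -1, 1, 1), (0, -1, 1, 2)] t u := by
  simp only [prodT, List.map_cons, List.map_nil, List.prod_cons, List.prod_nil, mul_one]
  apply mat_ext_mulVec
  intro x
  simp only [← Matrix.mulVec_mulVec, T0_mulVec, T1_mulVec, T2_mulVec, T3_mulVec, T4_mulVec,
    T5_mulVec, T6_mulVec, T7_mulVec, one_mulVec]
  ext i; fin_cases i <;> simp <;> ring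

theorem R2_3_5 (t u : F) :
    T 5 (-u) * T 3 (-t) * T 5 u * T 3 t = prodT [] t u := by
  simp only [prodT, List.map_cons, List.map_nil, List.prod_cons, List.prod_nil, mul_one]
  apply mat_ext_mulVec
  intro x
  simp only [← Matrix.mulVec_mulVec, T0_mulVec, T1_mulVec, T2_mulVec, T3_mulVec, T4_mulVec,
    T5_mulVec, T6_mulVec, T7_mulVec, one_mulVec]
  ext i; fin_cases i <;> simp <;> ring

theorem R2_3_6 (t u : F) :
    T 6 (-u) * T 3 (-t) * T 6 u * T 3 t = prodT [(5, 1, 1, 1), (7, 1, 1, 2)] t u := by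
  simp only [prodT, List.map_cons, List.map_nil, List.prod_cons, List.prod_nil, mul_one]
  apply mat_ext_mulVec
  intro x
  simp only [← Matrix.mulVec_mulVec, T0_mulVec, T1_mulVec, T2_mulVec, T3_mulVec, T4_mulVec,
    T5_mulVec, T6_mulVec, T7_mulVec, one_mulVec]
  ext i; fin_cases i <;> simp <;> ring

theorem R2_3_7 (t u : F) :
    T 7 (-u) * T 3 (-t) * T 7 u * T 3 t = prodT [] t u := by
  simp only [prodT, List.map_cons, List.map_nil, List.prod_cons, List.prod_nil, mul_one]
  apply mat_ext_mulVec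
  intro x
  simp only [← Matrix.mulVec_mulVec, T0_mulVec, T1_mulVec, T2_mulVec, T3_mulVec, T4_mulVec,
    T5_mulVec, T6_mulVec, T7_mulVec, one_mulVec]
  ext i; fin_cases i <;> simp <;> ring

end Cfsg.Agent.Lib.Helper18_B2OmB1
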