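import Mathlib
import Cfsg.Agent.Lib.Helper18_B2OmA

/-!
# Steinberg relation (R3) for the root elements of `O₅`
-/

set_option autoImplicit false
set_option linter.unusedSimpArgs false
set_option linter.unusedSectionVars false

namespace Cfsg.Agent.Lib.Helper18_B2OmC

open Matrix Cfsg.Agent.Lib.Helper18_B2OmA

variable {F : Type*} [Field F]

/-- The word `h_r(t) = n_r(t) n_r(-1)` in the root elements, `s` the root opposite to `r`. -/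
def Wh (r s : ℕ) (t : F) : Matrix (Fin 5) (Fin 5) F :=
  T r t * (T s (-t⁻¹) * (T r t * (T r (-1) * (T s (-(-1 : F)⁻¹) * (T r (-1) * 1)))))

theorem Wh0_mulVec (t : F) (ht : t ≠ 0) (x : Fin 5 → F) :
    Wh 0 7 t *ᵥ x = ![x 0, t⁻¹ * x 1, t⁻¹ * x 2, t * x 3, t * x 4] := by
  simp only [Wh, ← Matrix.mulVec_mulVec, T0_mulVec, T1_mulVec, T2_mulVec, T3_mulVec, T4_mulVec,
    T5_mulVec, T6_mulVec, T7_mulVec, one_mulVec]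
  ext i; fin_cases i <;> simp <;> field_simp <;> ring

theorem R3_0 (t₁ t₂ : F) (h₁ : t₁ ≠ 0) (h₂ : t₂ ≠ 0) :
    Wh 0 7 t₁ * Wh 0 7 t₂ = Wh 0 7 (t₁ * t₂) := by
  apply mat_ext_mulVec
  intro x
  rw [← Matrix.mulVec_mulVec, Wh0_mulVec t₂ h₂, Wh0_mulVec t₁ h₁,
    Wh0_mulVec (t₁ * t₂) (mul_ne_zero h₁ h₂)]
  ext i; fin_cases i <;> simp <;> field_simp

theorem Wh1_mulVec (t : F) (ht : t ≠ 0) (x : Fin 5 → F) :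
    Wh 1 6 t *ᵥ x = ![x 0, (t⁻¹) ^ 2 * x 1, x 2, t ^ 2 * x 3, x 4] := by
  simp only [Wh, ← Matrix.mulVec_mulVec, T0_mulVec, T1_mulVec, T2_mulVec, T3_mulVec, T4_mulVec,
    T5_mulVec, T6_mulVec, T7_mulVec, one_mulVec]
  ext i; fin_cases i <;> simp <;> field_simp <;> ring

theorem R3_1 (t₁ t₂ : F) (h₁ : t₁ ≠ 0) (h₂ : t₂ ≠ 0) :
    Wh 1 6 t₁ * Wh 1 6 t₂ = Wh 1 6 (t₁ * t₂) := by
  apply mat_ext_mulVec
  intro x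
  rw [← Matrix.mulVec_mulVec, Wh1_mulVec t₂ h₂, Wh1_mulVec t₁ h₁,
    Wh1_mulVec (t₁ * t₂) (mul_ne_zero h₁ h₂)]
  ext i; fin_cases i <;> simp <;> field_simp

theorem Wh2_mulVec (t : F) (ht : t ≠ 0) (x : Fin 5 → F) :
    Wh 2 5 t *ᵥ x = ![x 0, x 1, (t⁻¹) ^ 2 * x 2, x 3, t ^ 2 * x 4] := by
  simp only [Wh, ← Matrix.mulVec_mulVec, T0_mulVec, T1_mulVec, T2_mulVec, T3_mulVec, T4_mulVec,
    T5_mulVec, T6_mulVec, T7_mulVec, one_mulVec]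
  ext i; fin_cases i <;> simp <;> field_simp <;> ring

theorem R3_2 (t₁ t₂ : F) (h₁ : t₁ ≠ 0) (h₂ : t₂ ≠ 0) :
    Wh 2 5 t₁ * Wh 2 5 t₂ = Wh 2 5 (t₁ * t₂) := by
  apply mat_ext_mulVec
  intro x
  rw [← Matrix.mulVec_mulVec, Wh2_mulVec t₂ h₂, Wh2_mulVec t₁ h₁,
    Wh2_mulVec (t₁ * t₂) (mul_ne_zero h₁ h₂)]
  ext i; fin_cases i <;> simp <;> field_simp

theorem Wh3_mulVec (t : F) (ht : t ≠ 0) (x : Fin 5 → F) :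
    Wh 3 4 t *ᵥ x = ![x 0, t⁻¹ * x 1, t * x 2, t * x 3, t⁻¹ * x 4] := by
  simp only [Wh, ← Matrix.mulVec_mulVec, T0_mulVec, T1_mulVec, T2_mulVec, T3_mulVec, T4_mulVec,
    T5_mulVec, T6_mulVec, T7_mulVec, one_mulVec]
  ext i; fin_cases i <;> simp <;> field_simp <;> ring

theorem R3_3 (t₁ t₂ : F) (h₁ : t₁ ≠ 0) (h₂ : t₂ ≠ 0) :
    Wh 3 4 t₁ * Wh 3 4 t₂ = Wh 3 4 (t₁ * t₂) := by
  apply mat_ext_mulVec
  intro x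
  rw [← Matrix.mulVec_mulVec, Wh3_mulVec t₂ h₂, Wh3_mulVec t₁ h₁,
    Wh3_mulVec (t₁ * t₂) (mul_ne_zero h₁ h₂)]
  ext i; fin_cases i <;> simp <;> field_simp

theorem Wh4_mulVec (t : F) (ht : t ≠ 0) (x : Fin 5 → F) :
    Wh 4 3 t *ᵥ x = ![x 0, t * x 1, t⁻¹ * x 2, t⁻¹ * x 3, t * x 4] := by
  simp only [Wh, ← Matrix.mulVec_mulVec, T0_mulVec, T1_mulVec, T2_mulVec, T3_mulVec, T4_mulVec,
    T5_mulVec, T6_mulVec, T7_mulVec, one_mulVec]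
  ext i; fin_cases i <;> simp <;> field_simp <;> ring

theorem R3_4 (t₁ t₂ : F) (h₁ : t₁ ≠ 0) (h₂ : t₂ ≠ 0) :
    Wh 4 3 t₁ * Wh 4 3 t₂ = Wh 4 3 (t₁ * t₂) := by
  apply mat_ext_mulVec
  intro x
  rw [← Matrix.mulVec_mulVec, Wh4_mulVec t₂ h₂, Wh4_mulVec t₁ h₁,
    Wh4_mulVec (t₁ * t₂) (mul_ne_zero h₁ h₂)]
  ext i; fin_cases i <;> simp <;> field_simp

theorem Wh5_mulVec (t : F) (ht : t ≠ 0) (x : Fin 5 → F) :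
    Wh 5 2 t *ᵥ x = ![x 0, x 1, t ^ 2 * x 2, x 3, (t⁻¹) ^ 2 * x 4] := by
  simp only [Wh, ← Matrix.mulVec_mulVec, T0_mulVec, T1_mulVec, T2_mulVec, T3_mulVec, T4_mulVec,
    T5_mulVec, T6_mulVec, T7_mulVec, one_mulVec]
  ext i; fin_cases i <;> simp <;> field_simp <;> ring

theorem R3_5 (t₁ t₂ : F) (h₁ : t₁ ≠ 0) (h₂ : t₂ ≠ 0) :
    Wh 5 2 t₁ * Wh 5 2 t₂ = Wh 5 2 (t₁ * t₂) := by
  apply mat_ext_mulVec
  intro x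
  rw [← Matrix.mulVec_mulVec, Wh5_mulVec t₂ h₂, Wh5_mulVec t₁ h₁,
    Wh5_mulVec (t₁ * t₂) (mul_ne_zero h₁ h₂)]
  ext i; fin_cases i <;> simp <;> field_simp

theorem Wh6_mulVec (t : F) (ht : t ≠ 0) (x : Fin 5 → F) :
    Wh 6 1 t *ᵥ x = ![x 0, t ^ 2 * x 1, x 2, (t⁻¹) ^ 2 * x 3, x 4] := by
  simp only [Wh, ← Matrix.mulVec_mulVec, T0_mulVec, T1_mulVec, T2_mulVec, T3_mulVec, T4_mulVec,
    T5_mulVec, T6_mulVec, T7_mulVec, one_mulVec]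
  ext i; fin_cases i <;> simp <;> field_simp <;> ring

theorem R3_6 (t₁ t₂ : F) (h₁ : t₁ ≠ 0) (h₂ : t₂ ≠ 0) :
    Wh 6 1 t₁ * Wh 6 1 t₂ = Wh 6 1 (t₁ * t₂) := by
  apply mat_ext_mulVec
  intro x
  rw [← Matrix.mulVec_mulVec, Wh6_mulVec t₂ h₂, Wh6_mulVec t₁ h₁,
    Wh6_mulVec (t₁ * t₂) (mul_ne_zero h₁ h₂)]
  ext i; fin_cases i <;> simp <;> field_simp

theorem Wh7_mulVec (t : F) (ht : t ≠ 0) (x : Fin 5 → F) :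
    Wh 7 0 t *ᵥ x = ![x 0, t * x 1, t * x 2, t⁻¹ * x 3, t⁻¹ * x 4] := by
  simp only [Wh, ← Matrix.mulVec_mulVec, T0_mulVec, T1_mulVec, T2_mulVec, T3_mulVec, T4_mulVec,
    T5_mulVec, T6_mulVec, T7_mulVec, one_mulVec]
  ext i; fin_cases i <;> simp <;> field_simp <;> ring

theorem R3_7 (t₁ t₂ : F) (h₁ : t₁ ≠ 0) (h₂ : t₂ ≠ 0) :
    Wh 7 0 t₁ * Wh 7 0 t₂ = Wh 7 0 (t₁ * t₂) := by
  apply mat_ext_mulVec
  intro x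
  rw [← Matrix.mulVec_mulVec, Wh7_mulVec t₂ h₂, Wh7_mulVec t₁ h₁,
    Wh7_mulVec (t₁ * t₂) (mul_ne_zero h₁ h₂)]
  ext i; fin_cases i <;> simp <;> field_simp

end Cfsg.Agent.Lib.Helper18_B2OmC
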