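import Mathlib
import Cfsg.Agent.Lib.Helper18_B2OmA

/-!
# The orthogonal group of `x₀² + x₁y₁ + x₂y₂`: transitivity of the elementary subgroup

`E5` (generated by the root elements) acts transitively on non-zero singular vectors, on hyperbolic
pairs, and every isometry is the product of an element of `E5` and a diagonal isometry.
-/

set_option autoImplicit false
set_option linter.unusedSimpArgs false
set_option linter.unusedSectionVars false

namespace Cfsg.Agent.Lib.Helper18_B2OmD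

open Matrix Cfsg.Agent.Lib.Helper18_B2OmA

variable {F : Type*} [Field F]

/-- `w` is the image of `v` under an element of `E5` fixing every vector of `S`. -/
def RelFix (S : Set (Fin 5 → F)) (v w : Fin 5 → F) : Prop :=
  ∃ a ∈ E5 F, (∀ s ∈ S, (a : Matrix (Fin 5) (Fin 5) F) *ᵥ s = s) ∧
    (a : Matrix (Fin 5) (Fin 5) F) *ᵥ v = w

theorem RelFix.refl (S : Set (Fin 5 → F)) (v : Fin 5 → F) : RelFix S v v :=
  ⟨1, one_mem _, fun s _ => by simp, by simp⟩

theorem RelFix.trans {S : Set (Fin 5 → F)} {v w z : Fin 5 → F} (h₁ : RelFix S v w)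
    (h₂ : RelFix S w z) : RelFix S v z := by
  obtain ⟨a, ha, haS, hav⟩ := h₁
  obtain ⟨b, hb, hbS, hbw⟩ := h₂
  refine ⟨b * a, mul_mem hb ha, ?_, ?_⟩
  · intro s hs
    rw [Units.val_mul, ← mulVec_mulVec, haS s hs, hbS s hs]
  · rw [Units.val_mul, ← mulVec_mulVec, hav, hbw]

theorem RelFix.step (S : Set (Fin 5 → F)) (r : ℕ) (t : F) (hS : ∀ s ∈ S, T r t *ᵥ s = s)
    (v : Fin 5 → F) : RelFix S v (T r t *ᵥ v) :=
  ⟨UGL r t, UGL_mem_E5 r t, hS, rfl⟩

theorem RelFix.of_eq {S : Set (Fin 5 → F)} {v w z : Fin 5 → F} (h : RelFix S v w) (hz : w = z) :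
    RelFix S v z := hz ▸ h

theorem Q5_apply (a0 a1 a2 a3 a4 : F) : Q5 ![a0, a1, a2, a3, a4] = a0 ^ 2 + a1 * a3 + a2 * a4 := by
  simp [Q5]

/-- The polar form of `Q5`. -/
def B5 (x y : Fin 5 → F) : F := Q5 (x + y) - Q5 x - Q5 y

theorem B5_eq (x y : Fin 5 → F) :
    B5 x y = 2 * x 0 * y 0 + x 1 * y 3 + x 3 * y 1 + x 2 * y 4 + x 4 * y 2 := by
  simp only [B5, Q5, Pi.add_apply]
  ring

theorem B5_mulVec {M : Matrix (Fin 5) (Fin 5) F} (hM : ∀ v, Q5 (M *ᵥ v) = Q5 v)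
    (x y : Fin 5 → F) : B5 (M *ᵥ x) (M *ᵥ y) = B5 x y := by
  unfold B5
  rw [← mulVec_add, hM, hM, hM]

/-! ### Step A: transitivity on singular vectors -/

theorem rel_norm (S : Set (Fin 5 → F)) (h3 : ∀ t : F, ∀ s ∈ S, T 3 t *ᵥ s = s)
    (h0 : ∀ t : F, ∀ s ∈ S, T 0 t *ᵥ s = s) (h1 : ∀ t : F, ∀ s ∈ S, T 1 t *ᵥ s = s)
    (w : Fin 5 → F) (hw1 : w 1 ≠ 0) (hQ : Q5 w = 0) :
    RelFix S w ![0, w 1, 0, 0, 0] := by
  set u := T 1 (-(w 0 / w 1)) *ᵥ (T 0 (-(w 4 / w 1)) *ᵥ (T 3 (-(w 2 / w 1)) *ᵥ w)) with hu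
  have hrel : RelFix S w u :=
    ((RelFix.step S 3 _ (h3 _) w).trans (RelFix.step S 0 _ (h0 _) _)).trans
      (RelFix.step S 1 _ (h1 _) _)
  have hQu : Q5 u = 0 := by rw [hu, Q5_T, Q5_T, Q5_T, hQ]
  have e0 : u 0 = 0 := by
    simp only [hu, T0_mulVec, T1_mulVec, T3_mulVec]
    simp
    field_simp
    ring
  have e1 : u 1 = w 1 := by
    simp only [hu, T0_mulVec, T1_mulVec, T3_mulVec]
    simp
  have e2 : u 2 = 0 := by
    simp only [hu, T0_mulVec, T1_mulVec, T3_mulVec]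
    simp
    field_simp
    ring
  have e4 : u 4 = 0 := by
    simp only [hu, T0_mulVec, T1_mulVec, T3_mulVec]
    simp
    field_simp
    ring
  have e3 : u 3 = 0 := by
    have := hQu
    rw [Q5, e0, e1, e2, e4] at this
    have h : w 1 * u 3 = 0 := by linear_combination this
    rcases mul_eq_zero.mp h with h | h
    · exact absurd h hw1
    · exact h
  refine hrel.of_eq ?_
  rw [vec5_eta u, e0, e1, e2, e3, e4]

theorem rel_scale (a : F) (ha : a ≠ 0) : RelFix (∅ : Set (Fin 5 → F)) ![0, a, 0, 0, 0] ![0, 1, 0, 0, 0] := by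
  have hS : ∀ (r : ℕ) (t : F), ∀ s ∈ (∅ : Set (Fin 5 → F)), T r t *ᵥ s = s := fun _ _ _ h => absurd h (Set.notMem_empty _)
  refine (((RelFix.step ∅ 3 a⁻¹ (hS _ _) _).trans (RelFix.step ∅ 4 (1 - a) (hS _ _) _)).trans
    (RelFix.step ∅ 3 (-1) (hS _ _) _)).of_eq ?_
  simp only [T3_mulVec, T4_mulVec]
  ext i; fin_cases i <;> simp <;> field_simp <;> ring

theorem rel_x1 (v : Fin 5 → F) (hv : v ≠ 0) (hQ : Q5 v = 0) :
    ∃ w, RelFix (∅ : Set (Fin 5 → F)) v w ∧ w 1 ≠ 0 ∧ Q5 w = 0 := by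
  have hS : ∀ (r : ℕ) (t : F), ∀ s ∈ (∅ : Set (Fin 5 → F)), T r t *ᵥ s = s := fun _ _ _ h => absurd h (Set.notMem_empty _)
  by_cases h1 : v 1 = 0
  · by_cases h4 : v 4 = 0
    · by_cases h2 : v 2 = 0
      · have h0 : v 0 = 0 := by
          have := hQ
          rw [Q5, h1, h2, zero_mul, zero_mul, add_zero, add_zero] at this
          exact pow_eq_zero_iff (two_ne_zero) |>.mp this
        have h3 : v 3 ≠ 0 := by
          intro h3
          apply hv
          rw [vec5_eta v, h0, h1, h2, h3, h4]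
          ext i; fin_cases i <;> rfl
        refine ⟨T 6 1 *ᵥ v, RelFix.step ∅ 6 1 (hS _ _) v, ?_, by rw [Q5_T, hQ]⟩
        rw [T6_mulVec]
        simp [h0, h1, h3]
      · refine ⟨T 4 1 *ᵥ v, RelFix.step ∅ 4 1 (hS _ _) v, ?_, by rw [Q5_T, hQ]⟩
        rw [T4_mulVec]
        simp [h1, h2]
    · refine ⟨T 7 1 *ᵥ v, RelFix.step ∅ 7 1 (hS _ _) v, ?_, by rw [Q5_T, hQ]⟩
      rw [T7_mulVec]
      simp [h1, h4]
  · exact ⟨v, RelFix.refl _ v, h1, hQ⟩

theorem rel_sing (v : Fin 5 → F) (hv : v ≠ 0) (hQ : Q5 v = 0) :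
    RelFix (∅ : Set (Fin 5 → F)) v ![0, 1, 0, 0, 0] := by
  have hS : ∀ (r : ℕ) (t : F), ∀ s ∈ (∅ : Set (Fin 5 → F)), T r t *ᵥ s = s := fun _ _ _ h => absurd h (Set.notMem_empty _)
  obtain ⟨w, hvw, hw1, hQw⟩ := rel_x1 v hv hQ
  exact (hvw.trans (rel_norm ∅ (hS 3) (hS 0) (hS 1) w hw1 hQw)).trans (rel_scale (w 1) hw1)

/-! ### Step B: hyperbolic pairs -/

theorem rel_pair (w : Fin 5 → F) (hw3 : w 3 = 1) (hQ : Q5 w = 0) :
    RelFix ({![0, 1, 0, 0, 0]} : Set (Fin 5 → F)) w ![0, 0, 0, 1, 0] := by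
  have hS : ∀ (r : ℕ) (t : F), (r = 7 ∨ r = 4 ∨ r = 6) →
      ∀ s ∈ ({![0, 1, 0, 0, 0]} : Set (Fin 5 → F)), T r t *ᵥ s = s := by
    intro r t hr s hs
    rw [Set.mem_singleton_iff] at hs
    subst hs
    rcases hr with rfl | rfl | rfl
    · rw [T7_mulVec]; ext i; fin_cases i <;> simp
    · rw [T4_mulVec]; ext i; fin_cases i <;> simp
    · rw [T6_mulVec]; ext i; fin_cases i <;> simp
  set u := T 6 (w 0) *ᵥ (T 4 (w 4) *ᵥ (T 7 (w 2) *ᵥ w)) with hu
  have hrel : RelFix ({![0, 1, 0, 0, 0]} : Set (Fin 5 → F)) w u :=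
    ((RelFix.step _ 7 _ (hS 7 _ (Or.inl rfl)) w).trans
      (RelFix.step _ 4 _ (hS 4 _ (Or.inr (Or.inl rfl))) _)).trans
      (RelFix.step _ 6 _ (hS 6 _ (Or.inr (Or.inr rfl))) _)
  have hQu : Q5 u = 0 := by rw [hu, Q5_T, Q5_T, Q5_T, hQ]
  have e0 : u 0 = 0 := by
    simp only [hu, T4_mulVec, T6_mulVec, T7_mulVec]
    simp [hw3]
  have e2 : u 2 = 0 := by
    simp only [hu, T4_mulVec, T6_mulVec, T7_mulVec]
    simp [hw3]
  have e3 : u 3 = 1 := by
    simp only [hu, T4_mulVec, T6_mulVec, T7_mulVec]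
    simp [hw3]
  have e4 : u 4 = 0 := by
    simp only [hu, T4_mulVec, T6_mulVec, T7_mulVec]
    simp [hw3]
  have e1 : u 1 = 0 := by
    have := hQu
    rw [Q5, e0, e2, e3, e4] at this
    linear_combination this
  refine hrel.of_eq ?_
  rw [vec5_eta u, e0, e1, e2, e3, e4]

/-! ### Steps C, D: the second hyperbolic pair, up to a scalar -/

theorem fix_e1f1 (r : ℕ) (t : F) (hr : r = 5 ∨ r = 2) :
    ∀ s ∈ ({![0, 1, 0, 0, 0], ![0, 0, 0, 1, 0]} : Set (Fin 5 → F)), T r t *ᵥ s = s := by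
  intro s hs
  rw [Set.mem_insert_iff, Set.mem_singleton_iff] at hs
  rcases hs with rfl | rfl <;> rcases hr with rfl | rfl
  · rw [T5_mulVec]; ext i; fin_cases i <;> simp
  · rw [T2_mulVec]; ext i; fin_cases i <;> simp
  · rw [T5_mulVec]; ext i; fin_cases i <;> simp
  · rw [T2_mulVec]; ext i; fin_cases i <;> simp

theorem rel_e2 (v : Fin 5 → F) (hv : v ≠ 0) (h1 : v 1 = 0) (h3 : v 3 = 0) (hQ : Q5 v = 0) :
    ∃ c : F, c ≠ 0 ∧
      RelFix ({![0, 1, 0, 0, 0], ![0, 0, 0, 1, 0]} : Set (Fin 5 → F)) v ![0, 0, c, 0, 0] := by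
  by_cases h4 : v 4 = 0
  · have h0 : v 0 = 0 := by
      have := hQ
      rw [Q5, h1, h4, zero_mul, mul_zero, add_zero, add_zero] at this
      exact pow_eq_zero_iff (two_ne_zero) |>.mp this
    have h2 : v 2 ≠ 0 := by
      intro h2
      apply hv
      rw [vec5_eta v, h0, h1, h2, h3, h4]
      ext i; fin_cases i <;> rfl
    refine ⟨v 2, h2, (RelFix.refl _ v).of_eq ?_⟩
    rw [vec5_eta v, h0, h1, h3, h4]
    simp
  · set u := T 5 (v 0 / v 4) *ᵥ v with hu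
    have hQu : Q5 u = 0 := by rw [hu, Q5_T, hQ]
    have e0 : u 0 = 0 := by
      simp only [hu, T5_mulVec]
      simp
      field_simp
      ring
    have e1 : u 1 = 0 := by
      simp only [hu, T5_mulVec]
      simp [h1]
    have e3 : u 3 = 0 := by
      simp only [hu, T5_mulVec]
      simp [h3]
    have e4 : u 4 = v 4 := by
      simp only [hu, T5_mulVec]
      simp
    have e2 : u 2 = 0 := by
      have := hQu
      rw [Q5, e0, e1, e3, e4] at this
      have h : u 2 * v 4 = 0 := by linear_combination this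
      rcases mul_eq_zero.mp h with h | h
      · exact h
      · exact absurd h h4
    have hu' : u = ![0, 0, 0, 0, v 4] := by
      rw [vec5_eta u, e0, e1, e2, e3, e4]
    refine ⟨-v 4, neg_ne_zero.mpr h4, ?_⟩
    refine (((RelFix.step _ 5 _ (fix_e1f1 5 _ (Or.inl rfl)) v).of_eq (hu.symm.trans hu')).trans
      ((RelFix.step _ 5 1 (fix_e1f1 5 _ (Or.inl rfl)) _).trans
        (RelFix.step _ 2 (-1) (fix_e1f1 2 _ (Or.inr rfl)) _))).of_eq ?_
    simp only [T5_mulVec, T2_mulVec]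
    ext i; fin_cases i <;> simp <;> ring

theorem rel_f2 (w : Fin 5 → F) (c : F) (h1 : w 1 = 0) (h3 : w 3 = 0) (hQ : Q5 w = 0)
    (hc : c * w 4 = 1) :
    RelFix ({![0, 1, 0, 0, 0], ![0, 0, 0, 1, 0], ![0, 0, 1, 0, 0]} : Set (Fin 5 → F)) w
      ![0, 0, 0, 0, c⁻¹] := by
  have hw4 : w 4 ≠ 0 := by
    intro h
    rw [h, mul_zero] at hc
    exact zero_ne_one hc
  have hc0 : c ≠ 0 := by
    intro h
    rw [h, zero_mul] at hc
    exact zero_ne_one hc
  have hS : ∀ t : F, ∀ s ∈ ({![0, 1, 0, 0, 0], ![0, 0, 0, 1, 0], ![0, 0, 1, 0, 0]} :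
      Set (Fin 5 → F)), T 5 t *ᵥ s = s := by
    intro t s hs
    rw [Set.mem_insert_iff, Set.mem_insert_iff, Set.mem_singleton_iff] at hs
    rcases hs with rfl | rfl | rfl <;> (rw [T5_mulVec]; ext i; fin_cases i <;> simp)
  set u := T 5 (w 0 / w 4) *ᵥ w with hu
  have hQu : Q5 u = 0 := by rw [hu, Q5_T, hQ]
  have e0 : u 0 = 0 := by
    simp only [hu, T5_mulVec]
    simp
    field_simp
    ring
  have e1 : u 1 = 0 := by
    simp only [hu, T5_mulVec]
    simp [h1]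
  have e3 : u 3 = 0 := by
    simp only [hu, T5_mulVec]
    simp [h3]
  have e4 : u 4 = c⁻¹ := by
    simp only [hu, T5_mulVec]
    simp
    exact eq_inv_of_mul_eq_one_right hc
  have e2 : u 2 = 0 := by
    have := hQu
    rw [Q5, e0, e1, e3, e4] at this
    have h : u 2 * c⁻¹ = 0 := by linear_combination this
    rcases mul_eq_zero.mp h with h | h
    · exact h
    · exact absurd h (inv_ne_zero hc0)
  refine (RelFix.step _ 5 (w 0 / w 4) (hS _) w).of_eq ?_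
  rw [← hu, vec5_eta u, e0, e1, e2, e3, e4]

end Cfsg.Agent.Lib.Helper18_B2OmD
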