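import Mathlib
import Cfsg.Agent.Lib.Helper18_B2OmD

/-!
# Every isometry of `x₀² + x₁y₁ + x₂y₂` is an elementary one times a diagonal one
-/

set_option autoImplicit false
set_option linter.unusedSimpArgs false
set_option linter.unusedSectionVars false

namespace Cfsg.Agent.Lib.Helper18_B2OmE

open Matrix Cfsg.Agent.Lib.Helper18_B2OmA Cfsg.Agent.Lib.Helper18_B2OmD

variable {F : Type*} [Field F]

theorem mulVec_b0 (M : Matrix (Fin 5) (Fin 5) F) : M *ᵥ ![1, 0, 0, 0, 0] = fun i => M i 0 := by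
  ext i; simp [mulVec, dotProduct, Fin.sum_univ_five]

theorem mulVec_b1 (M : Matrix (Fin 5) (Fin 5) F) : M *ᵥ ![0, 1, 0, 0, 0] = fun i => M i 1 := by
  ext i; simp [mulVec, dotProduct, Fin.sum_univ_five]

theorem mulVec_b2 (M : Matrix (Fin 5) (Fin 5) F) : M *ᵥ ![0, 0, 1, 0, 0] = fun i => M i 2 := by
  ext i; simp [mulVec, dotProduct, Fin.sum_univ_five]

theorem mulVec_b3 (M : Matrix (Fin 5) (Fin 5) F) : M *ᵥ ![0, 0, 0, 1, 0] = fun i => M i 3 := by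
  ext i; simp [mulVec, dotProduct, Fin.sum_univ_five]

theorem mulVec_b4 (M : Matrix (Fin 5) (Fin 5) F) : M *ᵥ ![0, 0, 0, 0, 1] = fun i => M i 4 := by
  ext i; simp [mulVec, dotProduct, Fin.sum_univ_five]

theorem ne_zero_of_mulVec (g : GL (Fin 5) F) (v : Fin 5 → F) (hv : v ≠ 0) :
    (g : Matrix (Fin 5) (Fin 5) F) *ᵥ v ≠ 0 := by
  intro h
  apply hv
  have := congrArg (fun x => ((g⁻¹ : GL (Fin 5) F) : Matrix (Fin 5) (Fin 5) F) *ᵥ x) h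
  simp only [mulVec_mulVec, ← Units.val_mul, inv_mul_cancel, Units.val_one, one_mulVec,
    mulVec_zero] at this
  exact this

theorem b1_ne : (![0, 1, 0, 0, 0] : Fin 5 → F) ≠ 0 := by
  intro h
  have := congrFun h 1
  simp at this

theorem b2_ne : (![0, 0, 1, 0, 0] : Fin 5 → F) ≠ 0 := by
  intro h
  have := congrFun h 2
  simp at this

theorem exists_diag (g : GL (Fin 5) F) (hg : g ∈ O5 F) :
    ∃ a ∈ E5 F, ∃ c ε : F, c ≠ 0 ∧ ε ^ 2 = 1 ∧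
      ((a * g : GL (Fin 5) F) : Matrix (Fin 5) (Fin 5) F) = Matrix.diagonal ![ε, 1, c, 1, c⁻¹] := by
  have hiso : ∀ h : GL (Fin 5) F, h ∈ O5 F →
      ∀ v, Q5 ((h : Matrix (Fin 5) (Fin 5) F) *ᵥ v) = Q5 v := fun h hh => (mem_O5 h).mp hh
  -- step A
  obtain ⟨a₁, ha₁, -, h₁⟩ := rel_sing ((g : Matrix (Fin 5) (Fin 5) F) *ᵥ ![0, 1, 0, 0, 0])
    (ne_zero_of_mulVec g _ b1_ne) (by rw [hiso g hg]; simp [Q5])
  have hg₁ : a₁ * g ∈ O5 F := mul_mem (E5_le_O5 ha₁) hg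
  have hg₁e1 : ((a₁ * g : GL (Fin 5) F) : Matrix (Fin 5) (Fin 5) F) *ᵥ ![0, 1, 0, 0, 0] =
      ![0, 1, 0, 0, 0] := by rw [Units.val_mul, ← mulVec_mulVec, h₁]
  -- step B
  have hw3 : (((a₁ * g : GL (Fin 5) F) : Matrix (Fin 5) (Fin 5) F) *ᵥ ![0, 0, 0, 1, 0]) 3 = 1 := by
    have := B5_mulVec (hiso _ hg₁) ![0, 1, 0, 0, 0] ![0, 0, 0, 1, 0]
    rw [hg₁e1, B5_eq, B5_eq] at this
    simpa using this
  obtain ⟨a₂, ha₂, hf₂, h₂⟩ := rel_pair _ hw3 (by rw [hiso _ hg₁]; simp [Q5])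
  have hg₂ : a₂ * (a₁ * g) ∈ O5 F := mul_mem (E5_le_O5 ha₂) hg₁
  have hg₂e1 : ((a₂ * (a₁ * g) : GL (Fin 5) F) : Matrix (Fin 5) (Fin 5) F) *ᵥ ![0, 1, 0, 0, 0] =
      ![0, 1, 0, 0, 0] := by
    rw [Units.val_mul, ← mulVec_mulVec, hg₁e1, hf₂ _ (Set.mem_singleton _)]
  have hg₂f1 : ((a₂ * (a₁ * g) : GL (Fin 5) F) : Matrix (Fin 5) (Fin 5) F) *ᵥ ![0, 0, 0, 1, 0] =
      ![0, 0, 0, 1, 0] := by
    rw [Units.val_mul, ← mulVec_mulVec, h₂]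
  -- step C
  have hv3 : (((a₂ * (a₁ * g) : GL (Fin 5) F) : Matrix (Fin 5) (Fin 5) F) *ᵥ
      ![0, 0, 1, 0, 0]) 3 = 0 := by
    have := B5_mulVec (hiso _ hg₂) ![0, 1, 0, 0, 0] ![0, 0, 1, 0, 0]
    rw [hg₂e1, B5_eq, B5_eq] at this
    simpa using this
  have hv1 : (((a₂ * (a₁ * g) : GL (Fin 5) F) : Matrix (Fin 5) (Fin 5) F) *ᵥ
      ![0, 0, 1, 0, 0]) 1 = 0 := by
    have := B5_mulVec (hiso _ hg₂) ![0, 0, 0, 1, 0] ![0, 0, 1, 0, 0]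
    rw [hg₂f1, B5_eq, B5_eq] at this
    simpa using this
  obtain ⟨c, hc, a₃, ha₃, hf₃, h₃⟩ := rel_e2 _ (ne_zero_of_mulVec _ _ b2_ne) hv1 hv3
    (by rw [hiso _ hg₂]; simp [Q5])
  have hg₃ : a₃ * (a₂ * (a₁ * g)) ∈ O5 F := mul_mem (E5_le_O5 ha₃) hg₂
  have hg₃e1 : ((a₃ * (a₂ * (a₁ * g)) : GL (Fin 5) F) : Matrix (Fin 5) (Fin 5) F) *ᵥ
      ![0, 1, 0, 0, 0] = ![0, 1, 0, 0, 0] := by
    rw [Units.val_mul, ← mulVec_mulVec, hg₂e1, hf₃ _ (Set.mem_insert _ _)]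
  have hg₃f1 : ((a₃ * (a₂ * (a₁ * g)) : GL (Fin 5) F) : Matrix (Fin 5) (Fin 5) F) *ᵥ
      ![0, 0, 0, 1, 0] = ![0, 0, 0, 1, 0] := by
    rw [Units.val_mul, ← mulVec_mulVec, hg₂f1,
      hf₃ _ (Set.mem_insert_of_mem _ (Set.mem_singleton _))]
  have hg₃e2 : ((a₃ * (a₂ * (a₁ * g)) : GL (Fin 5) F) : Matrix (Fin 5) (Fin 5) F) *ᵥ
      ![0, 0, 1, 0, 0] = ![0, 0, c, 0, 0] := by
    rw [Units.val_mul, ← mulVec_mulVec, h₃]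
  -- step D
  have hw3' : (((a₃ * (a₂ * (a₁ * g)) : GL (Fin 5) F) : Matrix (Fin 5) (Fin 5) F) *ᵥ
      ![0, 0, 0, 0, 1]) 3 = 0 := by
    have := B5_mulVec (hiso _ hg₃) ![0, 1, 0, 0, 0] ![0, 0, 0, 0, 1]
    rw [hg₃e1, B5_eq, B5_eq] at this
    simpa using this
  have hw1' : (((a₃ * (a₂ * (a₁ * g)) : GL (Fin 5) F) : Matrix (Fin 5) (Fin 5) F) *ᵥ
      ![0, 0, 0, 0, 1]) 1 = 0 := by
    have := B5_mulVec (hiso _ hg₃) ![0, 0, 0, 1, 0] ![0, 0, 0, 0, 1]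
    rw [hg₃f1, B5_eq, B5_eq] at this
    simpa using this
  have hw4' : c * (((a₃ * (a₂ * (a₁ * g)) : GL (Fin 5) F) : Matrix (Fin 5) (Fin 5) F) *ᵥ
      ![0, 0, 0, 0, 1]) 4 = 1 := by
    have := B5_mulVec (hiso _ hg₃) ![0, 0, 1, 0, 0] ![0, 0, 0, 0, 1]
    rw [hg₃e2, B5_eq, B5_eq] at this
    simpa using this
  obtain ⟨a₄, ha₄, hf₄, h₄⟩ := rel_f2 _ c hw1' hw3' (by rw [hiso _ hg₃]; simp [Q5]) hw4'
  have hg₄ : a₄ * (a₃ * (a₂ * (a₁ * g))) ∈ O5 F := mul_mem (E5_le_O5 ha₄) hg₃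
  have hg₄e1 : ((a₄ * (a₃ * (a₂ * (a₁ * g))) : GL (Fin 5) F) : Matrix (Fin 5) (Fin 5) F) *ᵥ
      ![0, 1, 0, 0, 0] = ![0, 1, 0, 0, 0] := by
    rw [Units.val_mul, ← mulVec_mulVec, hg₃e1, hf₄ _ (Set.mem_insert _ _)]
  have hg₄f1 : ((a₄ * (a₃ * (a₂ * (a₁ * g))) : GL (Fin 5) F) : Matrix (Fin 5) (Fin 5) F) *ᵥ
      ![0, 0, 0, 1, 0] = ![0, 0, 0, 1, 0] := by
    rw [Units.val_mul, ← mulVec_mulVec, hg₃f1,
      hf₄ _ (Set.mem_insert_of_mem _ (Set.mem_insert _ _))]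
  have hg₄e2 : ((a₄ * (a₃ * (a₂ * (a₁ * g))) : GL (Fin 5) F) : Matrix (Fin 5) (Fin 5) F) *ᵥ
      ![0, 0, 1, 0, 0] = ![0, 0, c, 0, 0] := by
    have hc2 : (![0, 0, c, 0, 0] : Fin 5 → F) = c • ![0, 0, 1, 0, 0] := by
      ext i; fin_cases i <;> simp
    rw [Units.val_mul, ← mulVec_mulVec, hg₃e2, hc2, mulVec_smul,
      hf₄ _ (Set.mem_insert_of_mem _ (Set.mem_insert_of_mem _ (Set.mem_singleton _)))]
  have hg₄f2 : ((a₄ * (a₃ * (a₂ * (a₁ * g))) : GL (Fin 5) F) : Matrix (Fin 5) (Fin 5) F) *ᵥ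
      ![0, 0, 0, 0, 1] = ![0, 0, 0, 0, c⁻¹] := by
    rw [Units.val_mul, ← mulVec_mulVec, h₄]
  -- step E
  set M := ((a₄ * (a₃ * (a₂ * (a₁ * g))) : GL (Fin 5) F) : Matrix (Fin 5) (Fin 5) F) with hM
  have hz3 : (M *ᵥ ![1, 0, 0, 0, 0]) 3 = 0 := by
    have := B5_mulVec (hiso _ hg₄) ![0, 1, 0, 0, 0] ![1, 0, 0, 0, 0]
    rw [← hM, hg₄e1, B5_eq, B5_eq] at this
    simpa using this
  have hz1 : (M *ᵥ ![1, 0, 0, 0, 0]) 1 = 0 := by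
    have := B5_mulVec (hiso _ hg₄) ![0, 0, 0, 1, 0] ![1, 0, 0, 0, 0]
    rw [← hM, hg₄f1, B5_eq, B5_eq] at this
    simpa using this
  have hz4 : (M *ᵥ ![1, 0, 0, 0, 0]) 4 = 0 := by
    have := B5_mulVec (hiso _ hg₄) ![0, 0, 1, 0, 0] ![1, 0, 0, 0, 0]
    rw [← hM, hg₄e2, B5_eq, B5_eq] at this
    simpa [hc] using this
  have hz2 : (M *ᵥ ![1, 0, 0, 0, 0]) 2 = 0 := by
    have := B5_mulVec (hiso _ hg₄) ![0, 0, 0, 0, 1] ![1, 0, 0, 0, 0]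
    rw [← hM, hg₄f2, B5_eq, B5_eq] at this
    simpa [hc] using this
  have hz0 : (M *ᵥ ![1, 0, 0, 0, 0]) 0 ^ 2 = 1 := by
    have := hiso _ hg₄ ![1, 0, 0, 0, 0]
    rw [← hM, Q5, hz1, hz2, hz4] at this
    simpa [Q5] using this
  refine ⟨a₄ * a₃ * a₂ * a₁, mul_mem (mul_mem (mul_mem ha₄ ha₃) ha₂) ha₁, c,
    (M *ᵥ ![1, 0, 0, 0, 0]) 0, hc, hz0, ?_⟩
  have hMeq : ((a₄ * a₃ * a₂ * a₁ * g : GL (Fin 5) F) : Matrix (Fin 5) (Fin 5) F) = M := by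
    rw [hM]
    congr 1
    simp only [mul_assoc]
  rw [hMeq]
  rw [mulVec_b0] at hz0 hz1 hz2 hz3 hz4 ⊢
  rw [mulVec_b1] at hg₄e1
  rw [mulVec_b2] at hg₄e2
  rw [mulVec_b3] at hg₄f1
  rw [mulVec_b4] at hg₄f2
  ext i j
  fin_cases j
  · fin_cases i <;> simp [hz1, hz2, hz3, hz4]
  · have := congrFun hg₄e1 i
    fin_cases i <;> simpa using this
  · have := congrFun hg₄e2 i
    fin_cases i <;> simpa using this
  · have := congrFun hg₄f1 i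
    fin_cases i <;> simpa using this
  · have := congrFun hg₄f2 i
    fin_cases i <;> simpa using this

end Cfsg.Agent.Lib.Helper18_B2OmE
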