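import Mathlib
import Cfsg.Agent.Lib.Helper18_B2OmE

/-!
# The commutator subgroup of the isometry group of `x₀² + x₁y₁ + x₂y₂` is the elementary subgroup
-/

set_option autoImplicit false
set_option linter.unusedSimpArgs false
set_option linter.unusedSectionVars false

namespace Cfsg.Agent.Lib.Helper18_B2OmF

open Matrix Cfsg.Agent.Lib.Helper18_B2OmA Cfsg.Agent.Lib.Helper18_B2OmD
  Cfsg.Agent.Lib.Helper18_B2OmE

open scoped commutatorElement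

variable {F : Type*} [Field F]

/-- Diagonal matrices `diag(ε, a, c, a⁻¹, c⁻¹)`. -/
def Dm (ε a c : F) : Matrix (Fin 5) (Fin 5) F := Matrix.diagonal ![ε, a, c, a⁻¹, c⁻¹]

theorem Dm_mulVec (ε a c : F) (x : Fin 5 → F) :
    Dm ε a c *ᵥ x = ![ε * x 0, a * x 1, c * x 2, a⁻¹ * x 3, c⁻¹ * x 4] := by
  ext i
  rw [Dm, mulVec_diagonal]
  fin_cases i <;> simp

theorem Dm_mul (ε a c ε' a' c' : F) :
    Dm ε a c * Dm ε' a' c' = Dm (ε * ε') (a * a') (c * c') := by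
  apply mat_ext_mulVec
  intro x
  rw [← mulVec_mulVec, Dm_mulVec, Dm_mulVec, Dm_mulVec]
  ext i; fin_cases i <;> simp [mul_inv] <;> ring

theorem Dm_one : Dm (1 : F) 1 1 = 1 := by
  apply mat_ext_mulVec
  intro x
  rw [Dm_mulVec, one_mulVec]
  ext i; fin_cases i <;> simp

/-- The diagonal matrices as invertible matrices. -/
def DGL (ε a c : F) (hε : ε ≠ 0) (ha : a ≠ 0) (hc : c ≠ 0) : GL (Fin 5) F :=
  ⟨Dm ε a c, Dm ε⁻¹ a⁻¹ c⁻¹,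
    by rw [Dm_mul, mul_inv_cancel₀ hε, mul_inv_cancel₀ ha, mul_inv_cancel₀ hc, Dm_one],
    by rw [Dm_mul, inv_mul_cancel₀ hε, inv_mul_cancel₀ ha, inv_mul_cancel₀ hc, Dm_one]⟩

theorem DGL_comm (ε a c ε' a' c' : F) (hε : ε ≠ 0) (ha : a ≠ 0) (hc : c ≠ 0) (hε' : ε' ≠ 0)
    (ha' : a' ≠ 0) (hc' : c' ≠ 0) :
    DGL ε a c hε ha hc * DGL ε' a' c' hε' ha' hc' = DGL ε' a' c' hε' ha' hc' * DGL ε a c hε ha hc := by
  apply Units.ext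
  change Dm ε a c * Dm ε' a' c' = Dm ε' a' c' * Dm ε a c
  rw [Dm_mul, Dm_mul, mul_comm ε, mul_comm a, mul_comm c]

theorem DGL_mem (ε a c : F) (hε : ε ≠ 0) (ha : a ≠ 0) (hc : c ≠ 0) (h2 : ε ^ 2 = 1) :
    DGL ε a c hε ha hc ∈ O5 F := by
  rw [mem_O5]
  intro v
  change Q5 (Dm ε a c *ᵥ v) = Q5 v
  rw [Dm_mulVec]
  simp only [Q5]
  simp
  have h1 : a * v 1 * (a⁻¹ * v 3) = v 1 * v 3 := by field_simp
  have h3 : c * v 2 * (c⁻¹ * v 4) = v 2 * v 4 := by field_simp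
  rw [h1, h3, mul_pow, h2, one_mul]

/-- The character by which the diagonal element acts on the root subgroup. -/
def chi (r : ℕ) (ε a c : F) : F :=
  match r with
  | 0 => a⁻¹ * c⁻¹
  | 1 => a⁻¹ * ε
  | 2 => c⁻¹ * ε
  | 3 => a⁻¹ * c
  | 4 => a * c⁻¹
  | 5 => c * ε
  | 6 => a * ε
  | 7 => a * c
  | _ => 1

theorem eps_cases {ε : F} (h2 : ε ^ 2 = 1) : ε = 1 ∨ ε = -1 := by
  have : (ε - 1) * (ε + 1) = 0 := by linear_combination h2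
  rcases mul_eq_zero.mp this with h | h
  · exact Or.inl (by linear_combination h)
  · exact Or.inr (by linear_combination h)

theorem Dm_conj (r : ℕ) (hr : r < 8) (ε a c : F) (ha : a ≠ 0) (hc : c ≠ 0) (h2 : ε ^ 2 = 1)
    (t : F) : Dm ε a c * T r t * Dm ε⁻¹ a⁻¹ c⁻¹ = T r (chi r ε a c * t) := by
  apply mat_ext_mulVec
  intro x
  rcases eps_cases h2 with rfl | rfl <;> interval_cases r <;>
  simp only [← mulVec_mulVec, Dm_mulVec, T0_mulVec, T1_mulVec, T2_mulVec, T3_mulVec, T4_mulVec,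
    T5_mulVec, T6_mulVec, T7_mulVec, chi] <;>
  (ext i; fin_cases i <;> simp <;> field_simp <;> ring)

theorem DGL_conj (r : ℕ) (hr : r < 8) (ε a c : F) (hε : ε ≠ 0) (ha : a ≠ 0) (hc : c ≠ 0)
    (h2 : ε ^ 2 = 1) (t : F) :
    DGL ε a c hε ha hc * UGL r t * (DGL ε a c hε ha hc)⁻¹ = UGL r (chi r ε a c * t) := by
  apply Units.ext
  exact Dm_conj r hr ε a c ha hc h2 t

/-- The diagonal isometries used in the decomposition. -/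
def IsD (d : GL (Fin 5) F) : Prop :=
  ∃ (ε c : F) (hε : ε ≠ 0) (hc : c ≠ 0), ε ^ 2 = 1 ∧ d = DGL ε 1 c hε one_ne_zero hc

theorem IsD.mem {d : GL (Fin 5) F} (hd : IsD d) : d ∈ O5 F := by
  obtain ⟨ε, c, hε, hc, h2, rfl⟩ := hd
  exact DGL_mem ε 1 c hε one_ne_zero hc h2

theorem IsD.comm {d₁ d₂ : GL (Fin 5) F} (h₁ : IsD d₁) (h₂ : IsD d₂) : d₁ * d₂ = d₂ * d₁ := by
  obtain ⟨ε, c, hε, hc, -, rfl⟩ := h₁
  obtain ⟨ε', c', hε', hc', -, rfl⟩ := h₂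
  exact DGL_comm _ _ _ _ _ _ _ _ _ _ _ _

theorem IsD.conj_mem {d : GL (Fin 5) F} (hd : IsD d) {x : GL (Fin 5) F} (hx : x ∈ E5 F) :
    d * x * d⁻¹ ∈ E5 F := by
  obtain ⟨ε, c, hε, hc, h2, rfl⟩ := hd
  have hmap : (E5 F).map (MulAut.conj (DGL ε 1 c hε one_ne_zero hc)).toMonoidHom ≤ E5 F := by
    rw [E5, MonoidHom.map_closure, Subgroup.closure_le]
    rintro _ ⟨_, ⟨r, t, hr, rfl⟩, rfl⟩
    change DGL ε 1 c hε one_ne_zero hc * UGL r t * (DGL ε 1 c hε one_ne_zero hc)⁻¹ ∈ _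
    rw [DGL_conj r hr ε 1 c hε one_ne_zero hc h2 t]
    exact UGL_mem_E5 _ _
  exact hmap (Subgroup.mem_map_of_mem _ hx)

theorem exists_decomp (g : GL (Fin 5) F) (hg : g ∈ O5 F) :
    ∃ a ∈ E5 F, ∃ d, IsD d ∧ g = a * d := by
  obtain ⟨a, ha, c, ε, hc, h2, h⟩ := exists_diag g hg
  have hε : ε ≠ 0 := by
    intro h0
    rw [h0] at h2
    simp at h2
  refine ⟨a⁻¹, inv_mem ha, DGL ε 1 c hε one_ne_zero hc, ⟨ε, c, hε, hc, h2, rfl⟩, ?_⟩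
  have : a * g = DGL ε 1 c hε one_ne_zero hc := by
    apply Units.ext
    rw [h]
    change _ = Dm ε 1 c
    rw [Dm, inv_one]
  rw [← this, inv_mul_cancel_left]

theorem commutator_mem (g₁ g₂ : GL (Fin 5) F) (h₁ : g₁ ∈ O5 F) (h₂ : g₂ ∈ O5 F) :
    ⁅g₁, g₂⁆ ∈ E5 F := by
  obtain ⟨a₁, ha₁, d₁, hd₁, rfl⟩ := exists_decomp g₁ h₁
  obtain ⟨a₂, ha₂, d₂, hd₂, rfl⟩ := exists_decomp g₂ h₂
  have hcomm : d₂ * d₁⁻¹ = d₁⁻¹ * d₂ := by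
    have := hd₁.comm hd₂
    calc d₂ * d₁⁻¹ = d₁⁻¹ * (d₁ * d₂) * d₁⁻¹ := by group
      _ = d₁⁻¹ * (d₂ * d₁) * d₁⁻¹ := by rw [this]
      _ = d₁⁻¹ * d₂ := by group
  have key : ⁅a₁ * d₁, a₂ * d₂⁆ = a₁ * (d₁ * a₂ * d₁⁻¹) * (d₂ * a₁⁻¹ * d₂⁻¹) * a₂⁻¹ := by
    calc ⁅a₁ * d₁, a₂ * d₂⁆ = a₁ * d₁ * a₂ * (d₂ * d₁⁻¹) * a₁⁻¹ * d₂⁻¹ * a₂⁻¹ := by
          rw [commutatorElement_def]; group
      _ = a₁ * d₁ * a₂ * (d₁⁻¹ * d₂) * a₁⁻¹ * d₂⁻¹ * a₂⁻¹ := by rw [hcomm]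
      _ = _ := by group
  rw [key]
  exact mul_mem (mul_mem (mul_mem ha₁ (hd₁.conj_mem ha₂)) (hd₂.conj_mem (inv_mem ha₁)))
    (inv_mem ha₂)

theorem UGL_mem_commutator (hF : ∃ x : F, x ≠ 0 ∧ x ≠ 1) (r : ℕ) (hr : r < 8) (t : F) :
    UGL r t ∈ ⁅O5 F, O5 F⁆ := by
  obtain ⟨l, hl0, hl1⟩ := hF
  have hl1' : l - 1 ≠ 0 := sub_ne_zero.mpr hl1
  have hli : l⁻¹ ≠ 0 := inv_ne_zero hl0
  -- choose the diagonal element acting by `l` on the root subgroup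
  have hex : ∃ a c : F, a ≠ 0 ∧ c ≠ 0 ∧ chi r 1 a c = l := by
    interval_cases r
    · exact ⟨l⁻¹, 1, hli, one_ne_zero, by simp [chi]⟩
    · exact ⟨l⁻¹, 1, hli, one_ne_zero, by simp [chi]⟩
    · exact ⟨1, l⁻¹, one_ne_zero, hli, by simp [chi]⟩
    · exact ⟨l⁻¹, 1, hli, one_ne_zero, by simp [chi]⟩
    · exact ⟨l, 1, hl0, one_ne_zero, by simp [chi]⟩
    · exact ⟨1, l, one_ne_zero, hl0, by simp [chi]⟩
    · exact ⟨l, 1, hl0, one_ne_zero, by simp [chi]⟩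
    · exact ⟨l, 1, hl0, one_ne_zero, by simp [chi]⟩
  obtain ⟨a, c, ha, hc, hchi⟩ := hex
  have h2 : (1 : F) ^ 2 = 1 := one_pow 2
  have hcm : ⁅DGL 1 a c one_ne_zero ha hc, UGL r (t / (l - 1))⁆ = UGL r t := by
    rw [commutatorElement_def, DGL_conj r hr 1 a c one_ne_zero ha hc h2, hchi, UGL_inv, UGL_mul]
    congr 1
    field_simp
    ring
  rw [← hcm]
  exact Subgroup.commutator_mem_commutator (DGL_mem 1 a c one_ne_zero ha hc h2) (UGL_mem r _)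

theorem commutator_O5 (hF : ∃ x : F, x ≠ 0 ∧ x ≠ 1) : ⁅O5 F, O5 F⁆ = E5 F := by
  apply le_antisymm
  · rw [Subgroup.commutator_le]
    intro g₁ h₁ g₂ h₂
    exact commutator_mem g₁ g₂ h₁ h₂
  · rw [E5, Subgroup.closure_le]
    rintro _ ⟨r, t, hr, rfl⟩
    exact UGL_mem_commutator hF r hr t

end Cfsg.Agent.Lib.Helper18_B2OmF
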