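import Mathlib
import Cfsg.Prelude.Def_Steinberg

/-!
# Universal property of the Steinberg presentation

Given elements `U r t` of a group satisfying Steinberg's relations (R1), (R2), (R3) of a Chevalley
datum `D`, there is a homomorphism from the presented group sending `x̄_r(t)` to `U r t`; its range is
the subgroup generated by the `U r t`.
-/

set_option autoImplicit false

namespace Cfsg.Agent.Lib.Helper18_StLift

open Cfsg Cfsg.Lie

variable {F : Type*} [Field F] {G : Type*} [Group G]

/-- The product `U r₁ t₁ * U r₂ t₂ * ⋯` along a word. -/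
def wprod (U : ℕ → F → G) (w : List (ℕ × F)) : G := (w.map fun p => U p.1 p.2).prod

theorem wprod_nil (U : ℕ → F → G) : wprod U [] = 1 := rfl

theorem wprod_cons (U : ℕ → F → G) (p : ℕ × F) (w : List (ℕ × F)) :
    wprod U (p :: w) = U p.1 p.2 * wprod U w := by
  simp [wprod]

theorem wprod_append (U : ℕ → F → G) (w₁ w₂ : List (ℕ × F)) :
    wprod U (w₁ ++ w₂) = wprod U w₁ * wprod U w₂ := by
  simp [wprod]

variable (D : ChevalleyDatum)

/-- The map on generators. -/
def genMap (U : ℕ → F → G) : Fin D.nroots × F → G := fun p => U p.1 p.2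

theorem lift_stX (U : ℕ → F → G) (hU : ∀ r t, ¬ r < D.nroots → U r t = 1) (r : ℕ) (t : F) :
    FreeGroup.lift (genMap D U) (D.stX r t) = U r t := by
  unfold ChevalleyDatum.stX
  by_cases h : r < D.nroots
  · rw [dif_pos h, FreeGroup.lift_apply_of]
    rfl
  · rw [dif_neg h, map_one, hU r t h]

theorem lift_stWord (U : ℕ → F → G) (hU : ∀ r t, ¬ r < D.nroots → U r t = 1)
    (w : List (ℕ × F)) : FreeGroup.lift (genMap D U) (D.stWord w) = wprod U w := by
  unfold ChevalleyDatum.stWord
  induction w with
  | nil => simp [wprod]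
  | cons p w ih =>
    rw [List.map_cons, List.prod_cons, map_mul, ih, lift_stX D U hU, wprod_cons]

/-- Universal property of the Steinberg presentation. -/
theorem exists_hom (U : ℕ → F → G) (hU : ∀ r t, ¬ r < D.nroots → U r t = 1)
    (hR1 : ∀ r t₁ t₂, r < D.nroots → U r t₁ * U r t₂ = U r (t₁ + t₂))
    (hR2 : ∀ r s t u, r < D.nroots → s < D.nroots → s ≠ r → s ≠ D.neg r →
      (U s u)⁻¹ * (U r t)⁻¹ * U s u * U r t = wprod U (D.commWord F r s t u))
    (hR3 : ∀ r t₁ t₂, r < D.nroots → t₁ ≠ 0 → t₂ ≠ 0 →
      wprod U (D.hWord r t₁) * wprod U (D.hWord r t₂) = wprod U (D.hWord r (t₁ * t₂))) :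
    ∃ φ : D.SteinbergGroup F →* G, (∀ r t, φ (D.stGen F r t) = U r t) ∧
      φ.range = Subgroup.closure {g | ∃ r t, r < D.nroots ∧ g = U r t} := by
  have hrel : ∀ g ∈ D.steinbergRels F, FreeGroup.lift (genMap D U) g = 1 := by
    intro g hg
    rcases hg with (⟨r, t₁, t₂, hr, rfl⟩ | ⟨r, s, t, u, hr, hs, hsr, hsn, rfl⟩) |
      ⟨r, t₁, t₂, hr, h₁, h₂, rfl⟩
    · rw [map_mul, map_mul, map_inv, lift_stX D U hU, lift_stX D U hU, lift_stX D U hU,
        hR1 r t₁ t₂ hr, mul_inv_cancel]
    · rw [map_mul, map_mul, map_mul, map_mul, map_inv, map_inv, map_inv, lift_stX D U hU,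
        lift_stX D U hU, lift_stWord D U hU, hR2 r s t u hr hs hsr hsn, mul_inv_cancel]
    · unfold ChevalleyDatum.stH
      rw [map_mul, map_mul, map_inv, lift_stWord D U hU, lift_stWord D U hU,
        lift_stWord D U hU, hR3 r t₁ t₂ hr h₁ h₂, mul_inv_cancel]
  refine ⟨PresentedGroup.toGroup hrel, ?_, ?_⟩
  · intro r t
    change PresentedGroup.toGroup hrel (PresentedGroup.mk _ (D.stX r t)) = U r t
    unfold ChevalleyDatum.stX
    by_cases h : r < D.nroots
    · rw [dif_pos h]
      exact PresentedGroup.toGroup.of hrel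
    · rw [dif_neg h, map_one, map_one, hU r t h]
  · apply le_antisymm
    · rintro _ ⟨x, rfl⟩
      induction x using PresentedGroup.induction_on with
      | _ z =>
        induction z using FreeGroup.induction_on with
        | C1 => rw [map_one, map_one]; exact one_mem _
        | of p =>
          have : PresentedGroup.toGroup hrel (PresentedGroup.mk _ (FreeGroup.of p)) =
              U p.1 p.2 := PresentedGroup.toGroup.of hrel
          rw [this]
          exact Subgroup.subset_closure ⟨p.1, p.2, p.1.2, rfl⟩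
        | inv_of p ih =>
          rw [map_inv, map_inv]
          exact inv_mem ih
        | mul x y hx hy =>
          rw [map_mul, map_mul]
          exact mul_mem hx hy
    · rw [Subgroup.closure_le]
      rintro _ ⟨r, t, hr, rfl⟩
      refine ⟨PresentedGroup.of (⟨r, hr⟩, t), ?_⟩
      exact PresentedGroup.toGroup.of hrel

end Cfsg.Agent.Lib.Helper18_StLift
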