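import Mathlib
import Cfsg.Prelude.Def_Steinberg
import Cfsg.Prelude.Def_ChevB2
import Cfsg.Agent.Lib.Helper18_StLift
import Cfsg.Agent.Lib.Helper18_B2OmB1
import Cfsg.Agent.Lib.Helper18_B2OmB2
import Cfsg.Agent.Lib.Helper18_B2OmC
import Cfsg.Agent.Lib.Helper18_B2OmF

/-!
# The Steinberg group of type `B₂` maps onto the commutator subgroup of `O₅`
-/

set_option autoImplicit false
set_option linter.unusedSimpArgs false
set_option linter.unusedSectionVars false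

namespace Cfsg.Agent.Lib.Helper18_B2OmG

open Matrix Cfsg Cfsg.Lie Cfsg.Agent.Lib.Helper18_B2OmA Cfsg.Agent.Lib.Helper18_B2OmB1
  Cfsg.Agent.Lib.Helper18_B2OmB2 Cfsg.Agent.Lib.Helper18_B2OmC Cfsg.Agent.Lib.Helper18_B2OmF
  Cfsg.Agent.Lib.Helper18_StLift

variable {F : Type*} [Field F]

theorem ct_0_1 : chevB2.commTerms 0 1 = [] := by decide
theorem ct_0_2 : chevB2.commTerms 0 2 = [] := by decide
theorem ct_0_3 : chevB2.commTerms 0 3 = [] := by decide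
theorem ct_0_4 : chevB2.commTerms 0 4 = [] := by decide
theorem ct_0_5 : chevB2.commTerms 0 5 = [(1, 1, 1, 1), (3, -1, 1, 2)] := by decide
theorem ct_0_6 : chevB2.commTerms 0 6 = [(2, -1, 1, 1), (4, 1, 1, 2)] := by decide
theorem ct_1_0 : chevB2.commTerms 1 0 = [] := by decide
theorem ct_1_2 : chevB2.commTerms 1 2 = [(0, 2, 1, 1)] := by decide
theorem ct_1_3 : chevB2.commTerms 1 3 = [] := by decide
theorem ct_1_4 : chevB2.commTerms 1 4 = [(2, 1, 1, 1), (0, 1, 2, 1)] := by decide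
theorem ct_1_5 : chevB2.commTerms 1 5 = [(3, -2, 1, 1)] := by decide
theorem ct_1_7 : chevB2.commTerms 1 7 = [(5, -1, 1, 1), (3, 1, 2, 1)] := by decide
theorem ct_2_0 : chevB2.commTerms 2 0 = [] := by decide
theorem ct_2_1 : chevB2.commTerms 2 1 = [(0, -2, 1, 1)] := by decide
theorem ct_2_3 : chevB2.commTerms 2 3 = [(1, 1, 1, 1), (0, -1, 2, 1)] := by decide
theorem ct_2_4 : chevB2.commTerms 2 4 = [] := by decide
theorem ct_2_6 : chevB2.commTerms 2 6 = [(4, -2, 1, 1)] := by decide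
theorem ct_2_7 : chevB2.commTerms 2 7 = [(6, 1, 1, 1), (4, -1, 2, 1)] := by decide
theorem ct_3_0 : chevB2.commTerms 3 0 = [] := by decide
theorem ct_3_1 : chevB2.commTerms 3 1 = [] := by decide
theorem ct_3_2 : chevB2.commTerms 3 2 = [(1, -1, 1, 1), (0, -1, 1, 2)] := by decide
theorem ct_3_5 : chevB2.commTerms 3 5 = [] := by decide
theorem ct_3_6 : chevB2.commTerms 3 6 = [(5, 1, 1, 1), (7, 1, 1, 2)] := by decide
theorem ct_3_7 : chevB2.commTerms 3 7 = [] := by decide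
theorem ct_4_0 : chevB2.commTerms 4 0 = [] := by decide
theorem ct_4_1 : chevB2.commTerms 4 1 = [(2, -1, 1, 1), (0, 1, 1, 2)] := by decide
theorem ct_4_2 : chevB2.commTerms 4 2 = [] := by decide
theorem ct_4_5 : chevB2.commTerms 4 5 = [(6, 1, 1, 1), (7, -1, 1, 2)] := by decide
theorem ct_4_6 : chevB2.commTerms 4 6 = [] := by decide
theorem ct_4_7 : chevB2.commTerms 4 7 = [] := by decide
theorem ct_5_0 : chevB2.commTerms 5 0 = [(1, -1, 1, 1), (3, -1, 2, 1)] := by decide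
theorem ct_5_1 : chevB2.commTerms 5 1 = [(3, 2, 1, 1)] := by decide
theorem ct_5_3 : chevB2.commTerms 5 3 = [] := by decide
theorem ct_5_4 : chevB2.commTerms 5 4 = [(6, -1, 1, 1), (7, -1, 2, 1)] := by decide
theorem ct_5_6 : chevB2.commTerms 5 6 = [(7, 2, 1, 1)] := by decide
theorem ct_5_7 : chevB2.commTerms 5 7 = [] := by decide
theorem ct_6_0 : chevB2.commTerms 6 0 = [(2, 1, 1, 1), (4, 1, 2, 1)] := by decide
theorem ct_6_2 : chevB2.commTerms 6 2 = [(4, 2, 1, 1)] := by decide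
theorem ct_6_3 : chevB2.commTerms 6 3 = [(5, -1, 1, 1), (7, 1, 2, 1)] := by decide
theorem ct_6_4 : chevB2.commTerms 6 4 = [] := by decide
theorem ct_6_5 : chevB2.commTerms 6 5 = [(7, -2, 1, 1)] := by decide
theorem ct_6_7 : chevB2.commTerms 6 7 = [] := by decide
theorem ct_7_1 : chevB2.commTerms 7 1 = [(5, 1, 1, 1), (3, 1, 1, 2)] := by decide
theorem ct_7_2 : chevB2.commTerms 7 2 = [(6, -1, 1, 1), (4, -1, 1, 2)] := by decide
theorem ct_7_3 : chevB2.commTerms 7 3 = [] := by decide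
theorem ct_7_4 : chevB2.commTerms 7 4 = [] := by decide
theorem ct_7_5 : chevB2.commTerms 7 5 = [] := by decide
theorem ct_7_6 : chevB2.commTerms 7 6 = [] := by decide

theorem neg_eq (r : ℕ) (hr : r < 8) : chevB2.neg r = 7 - r := by
  interval_cases r <;> rfl

theorem R2_all (r s : ℕ) (t u : F) (hr : r < 8) (hs : s < 8) (hsr : s ≠ r) (hsn : s ≠ 7 - r) :
    T s (-u) * T r (-t) * T s u * T r t = prodT (chevB2.commTerms r s) t u := by
  interval_cases r <;> interval_cases s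
  · omega
  · rw [ct_0_1]; exact R2_0_1 t u
  · rw [ct_0_2]; exact R2_0_2 t u
  · rw [ct_0_3]; exact R2_0_3 t u
  · rw [ct_0_4]; exact R2_0_4 t u
  · rw [ct_0_5]; exact R2_0_5 t u
  · rw [ct_0_6]; exact R2_0_6 t u
  · omega
  · rw [ct_1_0]; exact R2_1_0 t u
  · omega
  · rw [ct_1_2]; exact R2_1_2 t u
  · rw [ct_1_3]; exact R2_1_3 t u
  · rw [ct_1_4]; exact R2_1_4 t u
  · rw [ct_1_5]; exact R2_1_5 t u
  · omega
  · rw [ct_1_7]; exact R2_1_7 t u
  · rw [ct_2_0]; exact R2_2_0 t u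
  · rw [ct_2_1]; exact R2_2_1 t u
  · omega
  · rw [ct_2_3]; exact R2_2_3 t u
  · rw [ct_2_4]; exact R2_2_4 t u
  · omega
  · rw [ct_2_6]; exact R2_2_6 t u
  · rw [ct_2_7]; exact R2_2_7 t u
  · rw [ct_3_0]; exact R2_3_0 t u
  · rw [ct_3_1]; exact R2_3_1 t u
  · rw [ct_3_2]; exact R2_3_2 t u
  · omega
  · omega
  · rw [ct_3_5]; exact R2_3_5 t u
  · rw [ct_3_6]; exact R2_3_6 t u
  · rw [ct_3_7]; exact R2_3_7 t u
  · rw [ct_4_0]; exact R2_4_0 t u
  · rw [ct_4_1]; exact R2_4_1 t u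
  · rw [ct_4_2]; exact R2_4_2 t u
  · omega
  · omega
  · rw [ct_4_5]; exact R2_4_5 t u
  · rw [ct_4_6]; exact R2_4_6 t u
  · rw [ct_4_7]; exact R2_4_7 t u
  · rw [ct_5_0]; exact R2_5_0 t u
  · rw [ct_5_1]; exact R2_5_1 t u
  · omega
  · rw [ct_5_3]; exact R2_5_3 t u
  · rw [ct_5_4]; exact R2_5_4 t u
  · omega
  · rw [ct_5_6]; exact R2_5_6 t u
  · rw [ct_5_7]; exact R2_5_7 t u
  · rw [ct_6_0]; exact R2_6_0 t u
  · omega
  · rw [ct_6_2]; exact R2_6_2 t u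
  · rw [ct_6_3]; exact R2_6_3 t u
  · rw [ct_6_4]; exact R2_6_4 t u
  · rw [ct_6_5]; exact R2_6_5 t u
  · omega
  · rw [ct_6_7]; exact R2_6_7 t u
  · omega
  · rw [ct_7_1]; exact R2_7_1 t u
  · rw [ct_7_2]; exact R2_7_2 t u
  · rw [ct_7_3]; exact R2_7_3 t u
  · rw [ct_7_4]; exact R2_7_4 t u
  · rw [ct_7_5]; exact R2_7_5 t u
  · rw [ct_7_6]; exact R2_7_6 t u
  · omega

theorem R3_all (r : ℕ) (hr : r < 8) (t₁ t₂ : F) (h₁ : t₁ ≠ 0) (h₂ : t₂ ≠ 0) :
    Wh r (7 - r) t₁ * Wh r (7 - r) t₂ = Wh r (7 - r) (t₁ * t₂) := by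
  interval_cases r
  · exact R3_0 t₁ t₂ h₁ h₂
  · exact R3_1 t₁ t₂ h₁ h₂
  · exact R3_2 t₁ t₂ h₁ h₂
  · exact R3_3 t₁ t₂ h₁ h₂
  · exact R3_4 t₁ t₂ h₁ h₂
  · exact R3_5 t₁ t₂ h₁ h₂
  · exact R3_6 t₁ t₂ h₁ h₂
  · exact R3_7 t₁ t₂ h₁ h₂

/-- The root elements as elements of the isometry group. -/
def UO (r : ℕ) (t : F) : ↥(O5 F) := ⟨UGL r t, UGL_mem r t⟩

theorem UO_ge (r : ℕ) (t : F) (h : ¬ r < chevB2.nroots) : UO r t = 1 := by
  apply Subtype.ext
  exact UGL_ge r (not_lt.mp h) t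

theorem val_wprod (w : List (ℕ × F)) :
    (((wprod UO w : ↥(O5 F)) : GL (Fin 5) F) : Matrix (Fin 5) (Fin 5) F) =
      (w.map fun p => T p.1 p.2).prod := by
  induction w with
  | nil => rfl
  | cons p w ih =>
    rw [wprod_cons, List.map_cons, List.prod_cons, ← ih]
    rfl

theorem exists_hom_O5 :
    ∃ φ : chevB2.SteinbergGroup F →* ↥(O5 F), (∀ r t, φ (chevB2.stGen F r t) = UO r t) ∧
      φ.range = Subgroup.closure {g | ∃ r t, r < chevB2.nroots ∧ g = UO r t} := by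
  apply exists_hom chevB2 UO (fun r t h => UO_ge r t h)
  · intro r t₁ t₂ _
    apply Subtype.ext
    exact UGL_mul r t₁ t₂
  · intro r s t u hr hs hsr hsn
    apply Subtype.ext
    apply Units.ext
    rw [val_wprod]
    rw [neg_eq r hr] at hsn
    have h := R2_all r s t u hr hs hsr hsn
    rw [prodT] at h
    rw [ChevalleyDatum.commWord, List.map_map]
    exact h
  · intro r t₁ t₂ hr h₁ h₂
    apply Subtype.ext
    apply Units.ext
    have hW : ∀ t : F, (((wprod UO (chevB2.hWord r t) : ↥(O5 F)) : GL (Fin 5) F) :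
        Matrix (Fin 5) (Fin 5) F) = Wh r (7 - r) t := by
      intro t
      rw [val_wprod, ChevalleyDatum.hWord, ChevalleyDatum.nWord, ChevalleyDatum.nWord,
        neg_eq r hr]
      rfl
    change (((wprod UO (chevB2.hWord r t₁) : ↥(O5 F)) : GL (Fin 5) F) :
        Matrix (Fin 5) (Fin 5) F) * (((wprod UO (chevB2.hWord r t₂) : ↥(O5 F)) : GL (Fin 5) F) :
        Matrix (Fin 5) (Fin 5) F) = _
    rw [hW, hW, hW]
    exact R3_all r hr t₁ t₂ h₁ h₂

theorem closure_UO (hF : ∃ x : F, x ≠ 0 ∧ x ≠ 1) :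
    Subgroup.closure {g : ↥(O5 F) | ∃ r t, r < chevB2.nroots ∧ g = UO r t} = commutator ↥(O5 F) := by
  apply Subgroup.map_injective (O5 F).subtype_injective
  rw [Subgroup.map_subtype_commutator, commutator_O5 hF, MonoidHom.map_closure, E5]
  congr 1
  ext g
  constructor
  · rintro ⟨_, ⟨r, t, hr, rfl⟩, rfl⟩
    exact ⟨r, t, hr, rfl⟩
  · rintro ⟨r, t, hr, rfl⟩
    exact ⟨UO r t, ⟨r, t, hr, rfl⟩, rfl⟩

/-- The Steinberg group of type `B₂` maps onto the commutator subgroup of `O₅`. -/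
theorem exists_hom_commutator (hF : ∃ x : F, x ≠ 0 ∧ x ≠ 1) :
    ∃ φ : chevB2.SteinbergGroup F →* ↥(commutator ↥(O5 F)), Function.Surjective φ := by
  obtain ⟨φ, -, hrange⟩ := exists_hom_O5 (F := F)
  rw [closure_UO hF] at hrange
  refine ⟨φ.codRestrict (commutator ↥(O5 F)) (fun x => by rw [← hrange]; exact ⟨x, rfl⟩), ?_⟩
  rintro ⟨y, hy⟩
  rw [← hrange] at hy
  obtain ⟨x, rfl⟩ := hy
  exact ⟨x, rfl⟩

/-- The commutator subgroup of `O₅` is not abelian. -/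
theorem commutator_not_comm (hF : ∃ x : F, x ≠ 0 ∧ x ≠ 1) :
    ∃ x y : ↥(commutator ↥(O5 F)), x * y ≠ y * x := by
  have h4 : UO 4 (1 : F) ∈ commutator ↥(O5 F) := by
    rw [← closure_UO hF]
    exact Subgroup.subset_closure ⟨4, 1, by decide, rfl⟩
  have h5 : UO 5 (1 : F) ∈ commutator ↥(O5 F) := by
    rw [← closure_UO hF]
    exact Subgroup.subset_closure ⟨5, 1, by decide, rfl⟩
  refine ⟨⟨UO 4 1, h4⟩, ⟨UO 5 1, h5⟩, ?_⟩
  intro h
  have h' : T 4 (1 : F) * T 5 1 = T 5 1 * T 4 1 := by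
    have := congrArg (fun z : ↥(commutator ↥(O5 F)) =>
      (((z : ↥(O5 F)) : GL (Fin 5) F) : Matrix (Fin 5) (Fin 5) F)) h
    exact this
  have h'' := congrFun (congrArg (fun M : Matrix (Fin 5) (Fin 5) F => M *ᵥ ![0, 0, 0, 0, 1]) h') 1
  simp only [← mulVec_mulVec, T4_mulVec, T5_mulVec] at h''
  simp at h''

end Cfsg.Agent.Lib.Helper18_B2OmG
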