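import Mathlib
import Cfsg.Prelude.Def_Classical
import Cfsg.Agent.Lib.Helper18_B2OmA

/-!
# Transport of the isometry group along a reindexing of the coordinates
-/

set_option autoImplicit false
set_option linter.unusedSimpArgs false
set_option linter.unusedSectionVars false

namespace Cfsg.Agent.Lib.Helper18_B2OmH

open Matrix Cfsg Cfsg.Agent.Lib.Helper18_B2OmA

variable {F : Type*} [Field F]

/-- An isomorphism of groups induces an isomorphism of the commutator subgroups. -/
noncomputable def commutatorEquiv {A B : Type*} [Group A] [Group B] (α : A ≃* B) :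
    ↥(commutator A) ≃* ↥(commutator B) :=
  (α.subgroupMap (commutator A)).trans (MulEquiv.subgroupCongr (by
    rw [commutator_def, Subgroup.map_commutator, commutator_def]
    have : (⊤ : Subgroup A).map (α : A →* B) = ⊤ := by
      rw [← MonoidHom.range_eq_map, MonoidHom.range_eq_top]
      exact α.surjective
    rw [this]))

/-- The isometry groups of two forms related by a reindexing of the coordinates are isomorphic. -/
noncomputable def isometryEquiv {ι κ : Type} [Fintype ι] [DecidableEq ι] [Fintype κ] [DecidableEq κ]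
    (e : ι ≃ κ) (Q : (ι → F) → F) (Q' : (κ → F) → F) (h : ∀ w, Q' w = Q (w ∘ e)) :
    ↥(isometryGroup F Q) ≃* ↥(isometryGroup F Q') :=
  let Ψ : GL ι F ≃* GL κ F := Units.mapEquiv (Matrix.reindexAlgEquiv F F e).toMulEquiv
  (Ψ.subgroupMap (isometryGroup F Q)).trans (MulEquiv.subgroupCongr (by
    have key : ∀ g : GL ι F, g ∈ isometryGroup F Q ↔ Ψ g ∈ isometryGroup F Q' := by
      intro g
      have hval : ((Ψ g : GL κ F) : Matrix κ κ F) =
          (g : Matrix ι ι F).submatrix e.symm e.symm := rfl
      constructor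
      · intro hg u _
        change Q' (((Ψ g : GL κ F) : Matrix κ κ F) *ᵥ u) = Q' u
        rw [hval, Matrix.submatrix_mulVec_equiv, h, h, Function.comp_assoc, Equiv.symm_comp_self,
          Function.comp_id, Equiv.symm_symm]
        exact hg (u ∘ e) (u ∘ e)
      · intro hg u _
        change Q ((g : Matrix ι ι F) *ᵥ u) = Q u
        have := hg (u ∘ e.symm) (u ∘ e.symm)
        change Q' (((Ψ g : GL κ F) : Matrix κ κ F) *ᵥ (u ∘ e.symm)) = Q' (u ∘ e.symm) at this
        rw [hval, Matrix.submatrix_mulVec_equiv, h, h, Function.comp_assoc, Equiv.symm_comp_self,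
          Function.comp_id, Equiv.symm_symm, Function.comp_assoc, Equiv.symm_comp_self,
          Function.comp_id] at this
        exact this
    ext g'
    constructor
    · rintro ⟨g, hg, rfl⟩
      exact (key g).mp hg
    · intro hg'
      refine ⟨Ψ.symm g', ?_, Ψ.apply_symm_apply g'⟩
      apply (key (Ψ.symm g')).mpr
      rw [Ψ.apply_symm_apply]
      exact hg'))

/-- The coordinates of `quadFormOdd 2`. -/
def e5 : Fin 5 ≃ Unit ⊕ (Fin 2 ⊕ Fin 2) where
  toFun := ![Sum.inl (), Sum.inr (Sum.inl 0), Sum.inr (Sum.inl 1), Sum.inr (Sum.inr 0),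
    Sum.inr (Sum.inr 1)]
  invFun := Sum.elim (fun _ => 0) (Sum.elim ![1, 2] ![3, 4])
  left_inv := by
    intro i
    fin_cases i <;> rfl
  right_inv := by
    rintro (_ | i | i)
    · rfl
    · fin_cases i <;> rfl
    · fin_cases i <;> rfl

theorem quadFormOdd_eq (w : Unit ⊕ (Fin 2 ⊕ Fin 2) → F) :
    quadFormOdd 2 F w = Q5 (w ∘ e5) := by
  simp [quadFormOdd, Q5, e5, Fin.sum_univ_two]
  ring

/-- The isometry group of `quadFormOdd 2 F` is isomorphic to `O5 F`. -/
noncomputable def O5Equiv :
    ↥(O5 F) ≃* ↥(isometryGroup F (quadFormOdd 2 F)) :=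
  isometryEquiv e5 Q5 (quadFormOdd 2 F) quadFormOdd_eq

end Cfsg.Agent.Lib.Helper18_B2OmH
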