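import Cfsg.Agent.Lib.Helper18_ChevComm2
import Cfsg.Agent.Lib.Helper18_ChevBorel

set_option autoImplicit false

/-!
Additive functions on the roots and the roots that occur in the commutator formula.
-/

namespace Cfsg.Agent.Lib.Helper18_ChevAdd

open Cfsg Cfsg.Lie Cfsg.Agent.Lib.Helper18_ChevFast Cfsg.Agent.Lib.Helper18_ChevEngine
  Cfsg.Agent.Lib.Helper18_ChevR1 Cfsg.Agent.Lib.Helper18_ChevN Cfsg.Agent.Lib.Helper18_ChevR4
  Cfsg.Agent.Lib.Helper18_ChevSimple Cfsg.Agent.Lib.Helper18_ChevSimple2 Cfsg.Agent.Lib.Helper18_ChevFacts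
  Cfsg.Agent.Lib.Helper18_ChevWeyl Cfsg.Agent.Lib.Helper18_ChevDiag Cfsg.Agent.Lib.Helper18_ChevCar
  Cfsg.Agent.Lib.Helper18_ChevTorus Cfsg.Agent.Lib.Helper18_ChevGL Cfsg.Agent.Lib.Helper18_ChevComm
  Cfsg.Agent.Lib.Helper18_ChevComm2 Cfsg.Agent.Lib.Helper18_MatTri Cfsg.Agent.Lib.Helper18_ChevTri
  Cfsg.Agent.Lib.Helper18_ChevBorel

variable {D : ChevalleyDatum}

/-! ### The roots named in the chain table are in range -/

/-- All roots named in the chain table are in range. -/
def chainInRange (D : ChevalleyDatum) : Bool :=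
  (List.range D.nroots).all fun r => (rowOf D r).all fun e =>
    decide (e.1 < D.nroots) && e.2.all fun q => decide (q.1 < D.nroots)

theorem entryOf_mem : ∀ (row : Row) (s : ℕ), entryOf row s ≠ [] → (s, entryOf row s) ∈ row
  | [], _, h => by simp [entryOf] at h
  | e :: rest, s, h => by
    unfold entryOf at h ⊢
    by_cases hes : e.1 = s
    · rw [if_pos hes] at h ⊢
      rw [← hes]
      exact List.mem_cons_self
    · rw [if_neg hes] at h ⊢
      exact List.mem_cons_of_mem _ (entryOf_mem rest s h)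

theorem chainEntry_lt (hin : chainInRange D = true) {r s k u : ℕ} {M : ℤ} (hr : r < D.nroots)
    (h : (D.chainEntry r s)[k]? = some (u, M)) : s < D.nroots ∧ u < D.nroots := by
  rw [chainEntry_eq_entryOf] at h
  have hne : entryOf (rowOf D r) s ≠ [] := by
    intro h0
    rw [h0] at h
    simp at h
  have hmem := entryOf_mem _ s hne
  unfold chainInRange at hin
  rw [List.all_eq_true] at hin
  have h1 := hin r (List.mem_range.mpr hr)
  rw [List.all_eq_true] at h1
  have h2 := h1 _ hmem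
  simp only [Bool.and_eq_true, decide_eq_true_eq, List.all_eq_true] at h2
  refine ⟨h2.1, ?_⟩
  have h3 := h2.2 (u, M) (List.mem_of_getElem? h)
  exact h3

theorem chainEntry_getElem (hrows : RowsOK D) {r s k u : ℕ} {M : ℤ} (hr : r < D.nroots)
    (h : (D.chainEntry r s)[k]? = some (u, M)) : (k + 1, M) ∈ D.chainCoeff r s u := by
  have hv : RowOK (rowOf D r) := (hrows.valid r hr).rowOK
  rw [chainCoeff_eq D r s u hv, ← chainEntry_eq_entryOf, List.mem_map]
  refine ⟨((u, M), k), ?_, rfl⟩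
  rw [List.mem_filter]
  refine ⟨?_, by simp⟩
  rw [List.mem_zipIdx_iff_getElem?]
  exact h

/-- An additive function is additive along `chainRoot`. -/
theorem chainRoot_grading (hrows : RowsOK D) (hin : chainInRange D = true) {g : ℕ → ℤ} (hg : IsGrading D g)
    {a b k c : ℕ} (ha : a < D.nroots) (hk : 1 ≤ k) (h : D.chainRoot a b k = some c) :
    b < D.nroots ∧ c < D.nroots ∧ g c = g b + (k : ℤ) * g a := by
  unfold ChevalleyDatum.chainRoot at h
  rw [Option.map_eq_some_iff] at h
  obtain ⟨⟨c', M⟩, h1, h2⟩ := h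
  simp only at h2
  subst h2
  obtain ⟨hb, hc⟩ := chainEntry_lt hin ha h1
  refine ⟨hb, hc, ?_⟩
  have := hg.chain a b c' ha hb hc _ (chainEntry_getElem hrows ha h1)
  rw [this]
  simp only
  have : k - 1 + 1 = k := by omega
  rw [this]

/-- The roots of the commutator formula are in range and additive functions take the expected values there. -/
theorem commTerms_grading (hrows : RowsOK D) (hin : chainInRange D = true) {g : ℕ → ℤ} (hg : IsGrading D g)
    (r s : ℕ) (hr : r < D.nroots) (hs : s < D.nroots) :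
    ∀ c ∈ D.commTerms r s, c.1 < D.nroots ∧ 1 ≤ c.2.2.1 ∧ 1 ≤ c.2.2.2 ∧
      g c.1 = (c.2.2.1 : ℤ) * g r + (c.2.2.2 : ℤ) * g s := by
  intro c hc
  unfold ChevalleyDatum.commTerms at hc
  simp only [List.mem_filterMap, List.mem_cons, List.not_mem_nil, or_false, Option.map_eq_some_iff] at hc
  obtain ⟨cand, hcand, k, hk, rfl⟩ := hc
  rcases hcand with rfl | rfl | rfl | rfl | rfl | rfl | rfl
  · obtain ⟨_, h2, h3⟩ := chainRoot_grading hrows hin hg hr (by omega) hk
    refine ⟨h2, by simp, by simp, ?_⟩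
    simp only at h3 ⊢
    rw [h3]; push_cast; ring
  · obtain ⟨_, h2, h3⟩ := chainRoot_grading hrows hin hg hr (by omega) hk
    refine ⟨h2, by simp, by simp, ?_⟩
    simp only at h3 ⊢
    rw [h3]; push_cast; ring
  · obtain ⟨_, h2, h3⟩ := chainRoot_grading hrows hin hg hs (by omega) hk
    refine ⟨h2, by simp, by simp, ?_⟩
    simp only at h3 ⊢
    rw [h3]; push_cast; ring
  · obtain ⟨_, h2, h3⟩ := chainRoot_grading hrows hin hg hr (by omega) hk
    refine ⟨h2, by simp, by simp, ?_⟩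
    simp only at h3 ⊢
    rw [h3]; push_cast; ring
  · obtain ⟨_, h2, h3⟩ := chainRoot_grading hrows hin hg hs (by omega) hk
    refine ⟨h2, by simp, by simp, ?_⟩
    simp only at h3 ⊢
    rw [h3]; push_cast; ring
  · simp only [Option.bind_eq_some_iff] at hk
    obtain ⟨m, hm, hk⟩ := hk
    obtain ⟨_, hm2, hm3⟩ := chainRoot_grading hrows hin hg hr (by omega) hm
    obtain ⟨_, h2, h3⟩ := chainRoot_grading hrows hin hg hm2 (by omega) hk
    refine ⟨h2, by simp, by simp, ?_⟩
    simp only at h3 ⊢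
    rw [h3, hm3]; push_cast; ring
  · simp only [Option.bind_eq_some_iff] at hk
    obtain ⟨m, hm, hk⟩ := hk
    obtain ⟨_, hm2, hm3⟩ := chainRoot_grading hrows hin hg hs (by omega) hm
    obtain ⟨_, h2, h3⟩ := chainRoot_grading hrows hin hg hm2 (by omega) hk
    refine ⟨h2, by simp, by simp, ?_⟩
    simp only at h3 ⊢
    rw [h3, hm3]; push_cast; ring

/-! ### The certificate of the additive functions -/

/-- The checks of the certificate at the root `r`. -/
def acAt (D : ChevalleyDatum) (wl : List ℤ) (ws : List (List ℤ)) (r : ℕ) : Bool :=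
  decide (D.IsPosRoot r ∨ D.IsNegRoot r) &&
  decide (D.IsPosRoot r ↔ ∀ i < D.rank, 0 ≤ grL D (ws.getD i []) r) &&
  decide (D.IsNegRoot r ↔ ∀ i < D.rank, grL D (ws.getD i []) r ≤ 0) &&
  decide (∀ i < D.rank, (cor D r i = 0 ↔ grL D (ws.getD i []) r = 0)) &&
  decide (D.IsPosRoot r → 0 < grL D wl r) && decide (D.IsNegRoot r → grL D wl r < 0) &&
  decide (r + 1 < D.nroots → grL D wl r < grL D wl (r + 1)) &&
  decide (∀ i < D.rank, D.IsPosRoot r → r ≠ D.simple i → ∃ j < D.rank, j ≠ i ∧ 0 < grL D (ws.getD j []) r) &&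
  decide ((List.range D.rank).foldr (fun i acc => Int.gcd (cor D r i) acc) 0 = 1)

/-- The certificate of the additive functions: `wl` are the weights of a function that increases with the index of
the root, `ws` the weights of the (scaled) coefficients on the fundamental roots. -/
structure ACert (D : ChevalleyDatum) (wl : List ℤ) (ws : List (List ℤ)) (sc : ℤ) : Prop where
  in_range : chainInRange D = true
  sc_pos : 0 < sc
  simple : ∀ i < D.rank, D.simple i < D.nroots ∧ D.IsPosRoot (D.simple i) ∧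
    ∀ j < D.rank, grL D (ws.getD j []) (D.simple i) = if j = i then sc else 0
  npos : D.posRoots.length = D.nroots / 2
  all : ∀ r < D.nroots, acAt D wl ws r = true

section

variable {wl : List ℤ} {ws : List (List ℤ)} {sc : ℤ}

/-- The (scaled) coefficient of the root `r` on the fundamental root `i`. -/
def cf (D : ChevalleyDatum) (ws : List (List ℤ)) (i r : ℕ) : ℤ := grRoot D (ws.getD i []) r

/-- The function that increases with the index. -/
def gl (D : ChevalleyDatum) (wl : List ℤ) (r : ℕ) : ℤ := grRoot D wl r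

theorem ACert.at (ac : ACert D wl ws sc) (r : ℕ) (hr : r < D.nroots) :
    (D.IsPosRoot r ∨ D.IsNegRoot r) ∧
    (D.IsPosRoot r ↔ ∀ i < D.rank, 0 ≤ cf D ws i r) ∧
    (D.IsNegRoot r ↔ ∀ i < D.rank, cf D ws i r ≤ 0) ∧
    (∀ i < D.rank, (cor D r i = 0 ↔ cf D ws i r = 0)) ∧
    (D.IsPosRoot r → 0 < gl D wl r) ∧ (D.IsNegRoot r → gl D wl r < 0) ∧
    (r + 1 < D.nroots → gl D wl r < gl D wl (r + 1)) ∧
    (∀ i < D.rank, D.IsPosRoot r → r ≠ D.simple i → ∃ j < D.rank, j ≠ i ∧ 0 < cf D ws j r) ∧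
    ((List.range D.rank).foldr (fun i acc => Int.gcd (cor D r i) acc) 0 = 1) := by
  have := ac.all r hr
  simp only [acAt, Bool.and_eq_true, decide_eq_true_eq, grL_eq] at this
  obtain ⟨⟨⟨⟨⟨⟨⟨⟨h1, h2⟩, h3⟩, h4⟩, h5⟩, h6⟩, h7⟩, h8⟩, h9⟩ := this
  exact ⟨h1, h2, h3, h4, h5, h6, h7, h8, h9⟩

theorem ACert.posOrNeg (ac : ACert D wl ws sc) (r : ℕ) (hr : r < D.nroots) : D.IsPosRoot r ∨ D.IsNegRoot r :=
  (ac.at r hr).1

theorem ACert.pos_iff (ac : ACert D wl ws sc) (r : ℕ) (hr : r < D.nroots) :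
    D.IsPosRoot r ↔ ∀ i < D.rank, 0 ≤ cf D ws i r := (ac.at r hr).2.1

theorem ACert.neg_iff (ac : ACert D wl ws sc) (r : ℕ) (hr : r < D.nroots) :
    D.IsNegRoot r ↔ ∀ i < D.rank, cf D ws i r ≤ 0 := (ac.at r hr).2.2.1

theorem ACert.cor_zero_iff (ac : ACert D wl ws sc) (r : ℕ) (hr : r < D.nroots) (i : ℕ) (hi : i < D.rank) :
    cor D r i = 0 ↔ cf D ws i r = 0 := (ac.at r hr).2.2.2.1 i hi

theorem ACert.gl_pos (ac : ACert D wl ws sc) (r : ℕ) (hr : D.IsPosRoot r) : 0 < gl D wl r :=
  (ac.at r hr.1).2.2.2.2.1 hr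

theorem ACert.gl_neg (ac : ACert D wl ws sc) (r : ℕ) (hr : D.IsNegRoot r) : gl D wl r < 0 :=
  (ac.at r hr.1).2.2.2.2.2.1 hr

theorem ACert.gl_succ (ac : ACert D wl ws sc) (r : ℕ) (hr : r + 1 < D.nroots) : gl D wl r < gl D wl (r + 1) :=
  (ac.at r (by omega)).2.2.2.2.2.2.1 hr

theorem ACert.exists_other (ac : ACert D wl ws sc) (r : ℕ) (hr : D.IsPosRoot r) (i : ℕ) (hi : i < D.rank)
    (hne : r ≠ D.simple i) : ∃ j < D.rank, j ≠ i ∧ 0 < cf D ws j r :=
  (ac.at r hr.1).2.2.2.2.2.2.2.1 i hi hr hne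

theorem ACert.cor_gcd (ac : ACert D wl ws sc) (r : ℕ) (hr : r < D.nroots) :
    (List.range D.rank).foldr (fun i acc => Int.gcd (cor D r i) acc) 0 = 1 :=
  (ac.at r hr).2.2.2.2.2.2.2.2

theorem ACert.cf_simple (ac : ACert D wl ws sc) (i : ℕ) (hi : i < D.rank) (j : ℕ) (hj : j < D.rank) :
    cf D ws j (D.simple i) = if j = i then sc else 0 := by
  have := (ac.simple i hi).2.2 j hj
  rwa [grL_eq] at this

theorem ACert.gl_mono (ac : ACert D wl ws sc) (x y : ℕ) (hxy : x ≤ y) (hy : y < D.nroots) :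
    gl D wl x ≤ gl D wl y := by
  induction y, hxy using Nat.le_induction with
  | base => exact le_refl _
  | succ y hxy ih =>
    have := ac.gl_succ y hy
    have := ih (by omega)
    omega

/-- A root with a larger value of `gl` has a larger index. -/
theorem ACert.lt_of_gl_lt (ac : ACert D wl ws sc) (x y : ℕ) (hx : x < D.nroots) (h : gl D wl x < gl D wl y) :
    x < y := by
  by_contra hle
  have := ac.gl_mono y x (by omega) hx
  omega

/-- A root on which `gl` is positive is positive. -/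
theorem ACert.pos_of_gl_pos (ac : ACert D wl ws sc) (r : ℕ) (hr : r < D.nroots) (h : 0 < gl D wl r) :
    D.IsPosRoot r := by
  rcases ac.posOrNeg r hr with hp | hn
  · exact hp
  · have := ac.gl_neg r hn
    omega

theorem ACert.not_pos_and_neg (ac : ACert D wl ws sc) (r : ℕ) (hp : D.IsPosRoot r) (hn : D.IsNegRoot r) : False := by
  have := ac.gl_pos r hp
  have := ac.gl_neg r hn
  omega

end

/-! ### Additive functions from the certificates -/

section

variable {Ns : List NData} {wl : List ℤ} {ws : List (List ℤ)} {sc : ℤ}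

theorem isGrading_w (c : DCert D Ns) (tc : TCert D) (w : List ℤ) : IsGrading D (grRoot D w) :=
  isGrading_of_carCompat (tc.carCompat c) w

theorem grRoot_neg (c : DCert D Ns) (tc : TCert D) (w : List ℤ) (r : ℕ) (hr : r < D.nroots) :
    grRoot D w (D.neg r) = - grRoot D w r :=
  (isGrading_w c tc w).neg r hr

/-- The roots in the commutator formula for `(±p_i, s)`, `s` positive and different from `p_i`, are positive and
different from `p_i`. -/
theorem commTerms_simple_pos (c : DCert D Ns) (tc : TCert D) (ac : ACert D wl ws sc) (i : ℕ) (hi : i < D.rank)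
    (r : ℕ) (hr : r = D.simple i ∨ r = D.neg (D.simple i)) (s : ℕ) (hs : D.IsPosRoot s) (hne : s ≠ D.simple i) :
    ∀ k ∈ D.commTerms r s, D.IsPosRoot k.1 ∧ k.1 ≠ D.simple i := by
  intro k hk
  obtain ⟨j, hj, hji, hpos⟩ := ac.exists_other s hs i hi hne
  have hp := (ac.simple i hi).1
  have hrlt : r < D.nroots := by
    rcases hr with rfl | rfl
    · exact hp
    · exact (facts c.rows (c.ncert i hi) _ hp).neg_lt
  have hg := isGrading_w c tc (ws.getD j [])
  obtain ⟨hk1, ha, hb, hval⟩ := commTerms_grading c.rows ac.in_range hg r s hrlt hs.1 k hk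
  have hps : cf D ws j (D.simple i) = 0 := by
    rw [ac.cf_simple i hi j hj, if_neg hji]
  have hr0 : grRoot D (ws.getD j []) r = 0 := by
    rcases hr with rfl | rfl
    · exact hps
    · rw [grRoot_neg c tc _ _ hp]
      unfold cf at hps
      rw [hps, neg_zero]
  rw [hr0, mul_zero, zero_add] at hval
  have hkpos : 0 < cf D ws j k.1 := by
    unfold cf at hpos ⊢
    rw [hval]
    have : (1 : ℤ) ≤ (k.2.2.2 : ℤ) := by exact_mod_cast hb
    nlinarith
  constructor
  · rcases ac.posOrNeg k.1 hk1 with h | h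
    · exact h
    · have := (ac.neg_iff k.1 hk1).mp h j hj
      omega
  · intro h
    rw [h, hps] at hkpos
    omega

/-- The roots in the commutator formula for two positive roots are positive and have larger index. -/
theorem commTerms_pos_lt (c : DCert D Ns) (tc : TCert D) (ac : ACert D wl ws sc) (r s : ℕ)
    (hr : D.IsPosRoot r) (hs : D.IsPosRoot s) :
    ∀ k ∈ D.commTerms r s, D.IsPosRoot k.1 ∧ r < k.1 ∧ s < k.1 := by
  intro k hk
  have hg := isGrading_w c tc wl
  obtain ⟨hk1, ha, hb, hval⟩ := commTerms_grading c.rows ac.in_range hg r s hr.1 hs.1 k hk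
  have h1 := ac.gl_pos r hr
  have h2 := ac.gl_pos s hs
  unfold gl at h1 h2
  have ha' : (1 : ℤ) ≤ (k.2.2.1 : ℤ) := by exact_mod_cast ha
  have hb' : (1 : ℤ) ≤ (k.2.2.2 : ℤ) := by exact_mod_cast hb
  have h3 : grRoot D wl r ≤ (k.2.2.1 : ℤ) * grRoot D wl r := by nlinarith
  have h4 : grRoot D wl s ≤ (k.2.2.2 : ℤ) * grRoot D wl s := by nlinarith
  refine ⟨ac.pos_of_gl_pos k.1 hk1 (by unfold gl; omega), ?_, ?_⟩
  · exact ac.lt_of_gl_lt r k.1 hr.1 (by unfold gl; omega)
  · exact ac.lt_of_gl_lt s k.1 hs.1 (by unfold gl; omega)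

end

end Cfsg.Agent.Lib.Helper18_ChevAdd
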