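import Cfsg.Agent.Lib.Helper18_ChevLang

set_option autoImplicit false

/-!
Automorphisms of the Chevalley groups over finite fields, first part: an automorphism can be composed with an inner
automorphism so as to preserve `U` and `V`.
-/

namespace Cfsg.Agent.Lib.Helper18_ChevAutA

open Cfsg Cfsg.Lie Cfsg.Agent.Lib.Helper18_ChevFast Cfsg.Agent.Lib.Helper18_ChevEngine
  Cfsg.Agent.Lib.Helper18_ChevR1 Cfsg.Agent.Lib.Helper18_ChevN Cfsg.Agent.Lib.Helper18_ChevR4
  Cfsg.Agent.Lib.Helper18_ChevSimple Cfsg.Agent.Lib.Helper18_ChevSimple2 Cfsg.Agent.Lib.Helper18_ChevFacts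
  Cfsg.Agent.Lib.Helper18_ChevWeyl Cfsg.Agent.Lib.Helper18_ChevDiag Cfsg.Agent.Lib.Helper18_ChevCar
  Cfsg.Agent.Lib.Helper18_ChevTorus Cfsg.Agent.Lib.Helper18_ChevGL Cfsg.Agent.Lib.Helper18_ChevComm
  Cfsg.Agent.Lib.Helper18_ChevComm2 Cfsg.Agent.Lib.Helper18_MatTri Cfsg.Agent.Lib.Helper18_ChevTri
  Cfsg.Agent.Lib.Helper18_ChevBorel Cfsg.Agent.Lib.Helper18_ChevAdd Cfsg.Agent.Lib.Helper18_ChevUni
  Cfsg.Agent.Lib.Helper18_ChevBN Cfsg.Agent.Lib.Helper18_ChevMono Cfsg.Agent.Lib.Helper18_ChevBNPair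
  Cfsg.Agent.Lib.Helper18_ChevSimp Cfsg.Agent.Lib.Helper18_ChevJCerts Cfsg.Agent.Lib.Helper18_ChevLevi
  Cfsg.Agent.Lib.Helper18_ChevBruhat Cfsg.Agent.Lib.Helper18_ChevPar Cfsg.Agent.Lib.Helper18_ChevRootHom
  Cfsg.Agent.Lib.Helper18_ChevOrder Cfsg.Agent.Lib.Helper18_ChevSylow Cfsg.Agent.Lib.Helper18_ChevCent
  Cfsg.Agent.Lib.Helper18_ChevFrob

open scoped Pointwise

variable {D : ChevalleyDatum} {Ns : List NData} {F : Type*} [Field F]
variable {wl : List ℤ} {ws : List (List ℤ)} {sc : ℤ} {w : List ℤ} {d : ℕ} {w0 : List ℕ}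

/-! ### Sylow subgroups and automorphisms -/

/-- An automorphism can be composed with an inner automorphism so as to preserve a given Sylow subgroup. -/
theorem exists_conj_map_sylow {Γ : Type*} [Group Γ] [Finite Γ] (p : ℕ) [Fact p.Prime] (P : Sylow p Γ)
    (θ : MulAut Γ) :
    ∃ a : Γ, ∀ x : Γ, (MulAut.conj a * θ) x ∈ (P : Subgroup Γ) ↔ x ∈ (P : Subgroup Γ) := by
  obtain ⟨a, ha⟩ := MulAction.exists_smul_eq Γ (θ • P) P
  refine ⟨a, fun x => ?_⟩
  have h1 : ((a • (θ • P) : Sylow p Γ) : Subgroup Γ) = MulAut.conj a • (θ • (P : Subgroup Γ)) := by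
    rw [Sylow.coe_subgroup_smul]
    rfl
  have h2 : (MulAut.conj a * θ) x = MulAut.conj a • (θ • x) := rfl
  rw [h2]
  conv_lhs => rw [← ha, h1]
  rw [Subgroup.smul_mem_pointwise_smul_iff, Subgroup.smul_mem_pointwise_smul_iff]

/-! ### Elements of `N` that make all positive roots negative -/

theorem neg_of_actsAs_inv (c : DCert D Ns) (tc : TCert D) (ac : ACert D wl ws sc) {n : GL D.Idx F}
    {π π' : ℕ → ℕ} (hact : ActsAs c n π) (hlin : LinMap D π) (hact' : ActsAs c n⁻¹ π')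
    (hneg : ∀ r, D.IsPosRoot r → D.IsNegRoot (π r)) (r : ℕ) (hr : D.IsNegRoot r) : D.IsPosRoot (π' r) := by
  have hid : ∀ s < D.nroots, π (π' s) = s := by
    intro s hs
    have h1 : ActsAs c (n * n⁻¹) (π ∘ π') := hact.mul c hact'
    rw [mul_inv_cancel] at h1
    exact actsAs_unique c tc ac h1 (actsAs_one c) s hs
  have hs := (hact' r hr.1).1
  rcases ac.posOrNeg _ hs with hp | hn
  · exact hp
  · exfalso
    have h1 := neg_isPos c tc ac _ hn
    have h2 := hneg _ h1
    rw [hlin.2.1 _ hs, hid r hr.1] at h2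
    exact ac.not_pos_and_neg _ (neg_isPos c tc ac r hr) h2

/-- If `n` makes all positive roots negative then `n V n⁻¹ = U`, in the form of a membership criterion. -/
theorem mem_neg_iff_conj_mem_pos (c : DCert D Ns) (tc : TCert D) (ac : ACert D wl ws sc) {n : GL D.Idx F}
    {π π' : ℕ → ℕ} (hact : ActsAs c n π) (hlin : LinMap D π) (hact' : ActsAs c n⁻¹ π')
    (hneg : ∀ r, D.IsPosRoot r → D.IsNegRoot (π r)) (g : GL D.Idx F) :
    g ∈ D.negUnipotent F ↔ n⁻¹ * g * n ∈ D.posUnipotent F := by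
  constructor
  · intro hg
    have := conj_closure_le n⁻¹ _ (D.posUnipotent F) ?_ g hg
    · rwa [inv_inv] at this
    · rintro s ⟨r, t, hr, hs⟩
      rw [eq_xGL c hs]
      obtain ⟨-, a, -, e⟩ := hact' r hr.1
      rw [e]
      exact Subgroup.subset_closure ⟨_, _, neg_of_actsAs_inv c tc ac hact hlin hact' hneg r hr, rfl⟩
  · intro hg
    have h1 : n * (n⁻¹ * g * n) * n⁻¹ ∈ D.negUnipotent F := by
      apply conj_closure_le n _ (D.negUnipotent F) _ _ hg
      rintro s ⟨r, t, hr, hs⟩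
      rw [eq_xGL c hs]
      obtain ⟨-, a, -, e⟩ := hact r hr.1
      rw [e]
      exact Subgroup.subset_closure ⟨_, _, hneg r hr, rfl⟩
    have e : n * (n⁻¹ * g * n) * n⁻¹ = g := by group
    rwa [e] at h1

/-- An element of `N` such that `U ∩ n U n⁻¹ = 1` makes all positive roots negative. -/
theorem all_neg_of_inf_eq_bot (c : DCert D Ns) (tc : TCert D) (ac : ACert D wl ws sc) {n : GL D.Idx F}
    {π : ℕ → ℕ} (hact : ActsAs c n π) (hlin : LinMap D π)
    (h : ∀ u ∈ D.posUnipotent F, n * u * n⁻¹ ∈ D.posUnipotent F → u = 1) (r : ℕ) (hr : D.IsPosRoot r) :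
    D.IsNegRoot (π r) := by
  rcases ac.posOrNeg _ (hlin.1 r hr.1) with hp | hn
  · exfalso
    obtain ⟨-, a, -, e⟩ := hact r hr.1
    have h1 : xGL c r (1 : F) = 1 := by
      apply h _ (Subgroup.subset_closure ⟨r, 1, hr, rfl⟩)
      rw [e]
      exact Subgroup.subset_closure ⟨_, _, hp, rfl⟩
    have h2 : D.x F r 1 = D.x F r 0 := by
      have := congrArg (fun g : GL D.Idx F => (g : Matrix D.Idx D.Idx F)) (h1.trans (xGL_zero c r).symm)
      exact this
    exact one_ne_zero (xGL_param_inj c tc ac r hr.1 1 0 h2)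
  · exact hn

/-! ### Normalizing an automorphism -/

/-- An automorphism `θ` preserves the subgroup `S` of the general linear group. -/
def Preserves (θ : MulAut ↥(D.group F)) (S : Subgroup (GL D.Idx F)) : Prop :=
  ∀ x : ↥(D.group F), ((θ x : ↥(D.group F)) : GL D.Idx F) ∈ S ↔ (x : GL D.Idx F) ∈ S

theorem Preserves.inv {θ : MulAut ↥(D.group F)} {S : Subgroup (GL D.Idx F)} (h : Preserves θ S) :
    Preserves θ⁻¹ S := by
  intro x
  have := h (θ⁻¹ x)
  rw [MulAut.apply_inv_self] at this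
  exact this.symm

theorem Preserves.mul {θ θ' : MulAut ↥(D.group F)} {S : Subgroup (GL D.Idx F)} (h : Preserves θ S)
    (h' : Preserves θ' S) : Preserves (θ * θ') S := by
  intro x
  rw [MulAut.mul_apply, h, h']

theorem preserves_conj {S : Subgroup (GL D.Idx F)} (b : ↥(D.group F))
    (hb : (b : GL D.Idx F) ∈ Subgroup.normalizer (S : Set (GL D.Idx F))) : Preserves (MulAut.conj b) S := by
  intro x
  show (b : GL D.Idx F) * x * (b : GL D.Idx F)⁻¹ ∈ S ↔ _
  exact (Subgroup.mem_normalizer_iff.mp hb x).symm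

/-- Every automorphism is, up to an inner automorphism, one that preserves `U`. -/
theorem exists_conj_preserves_pos [Fintype F] (p : ℕ) [hp : Fact p.Prime] [CharP F p] (c : DCert D Ns) (tc : TCert D)
    (ac : ACert D wl ws sc) (gc : GCert D w d) (hdesc : Descent D) (hR2 : R2All D F) (θ : MulAut ↥(D.group F)) :
    ∃ a : ↥(D.group F), Preserves (MulAut.conj a * θ) (D.posUnipotent F) := by
  obtain ⟨P, hP⟩ := exists_sylow p c tc ac gc hdesc hR2 (F := F)
  obtain ⟨a, ha⟩ := exists_conj_map_sylow p P θ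
  refine ⟨a, fun x => ?_⟩
  have := ha x
  rw [hP, Subgroup.mem_subgroupOf, Subgroup.mem_subgroupOf] at this
  exact this

/-- An automorphism preserving `U` preserves `B`. -/
theorem preserves_borel (c : DCert D Ns) (tc : TCert D) (ac : ACert D wl ws sc) (gc : GCert D w d)
    (hR2 : R2All D F) (θ : MulAut ↥(D.group F)) (hU : Preserves θ (D.posUnipotent F)) :
    Preserves θ (D.borelSubgroup F) := by
  have key : ∀ x : ↥(D.group F), (x : GL D.Idx F) ∈ D.borelSubgroup F ↔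
      ∀ u : ↥(D.group F), (u : GL D.Idx F) ∈ D.posUnipotent F ↔
        ((x * u * x⁻¹ : ↥(D.group F)) : GL D.Idx F) ∈ D.posUnipotent F := by
    intro x
    rw [← normalizer_pos_inf_group c tc ac gc hR2, Subgroup.mem_inf, Subgroup.mem_normalizer_iff]
    constructor
    · rintro ⟨h, -⟩ u
      exact h u
    · intro h
      refine ⟨fun u => ?_, x.2⟩
      constructor
      · intro hu
        exact (h ⟨u, posUnipotent_le_group c hu⟩).mp hu
      · intro hu
        have hu' : u ∈ D.group F := by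
          have h1 : (x : GL D.Idx F) * u * (x : GL D.Idx F)⁻¹ ∈ D.group F := posUnipotent_le_group c hu
          have h2 : u = (x : GL D.Idx F)⁻¹ * ((x : GL D.Idx F) * u * (x : GL D.Idx F)⁻¹) * (x : GL D.Idx F) := by
            group
          rw [h2]
          exact Subgroup.mul_mem _ (Subgroup.mul_mem _ (Subgroup.inv_mem _ x.2) h1) x.2
        exact (h ⟨u, hu'⟩).mpr hu
  intro x
  rw [key, key]
  constructor
  · intro h u
    have := h (θ u)
    rw [hU, ← map_inv, ← map_mul, ← map_mul, hU] at this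
    exact this
  · intro h u
    have := h (θ⁻¹ u)
    rw [← hU, MulAut.apply_inv_self] at this
    rw [this, ← hU (x * θ⁻¹ u * x⁻¹), map_mul, map_mul, map_inv, MulAut.apply_inv_self]

/-! ### The longest element -/

theorem w0_neg (hw : W0Cert D w0) (r : ℕ) (hr : D.IsPosRoot r) : D.IsNegRoot (wordRefl D w0 r) :=
  hw.2 r hr.1 hr

theorem linMap_wordRefl (c : DCert D Ns) : ∀ (word : List ℕ), (∀ i ∈ word, i < D.rank) →
    LinMap D (wordRefl D word)
  | [], _ => linMap_id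
  | i :: word, h => by
    have h1 := linMap_wordRefl c word (fun j hj => h j (List.mem_cons_of_mem _ hj))
    have h2 := linMap_reflect c i (h i (by simp))
    exact h2.comp h1

/-- `g ∈ V` if and only if `n₀⁻¹ g n₀ ∈ U`. -/
theorem mem_neg_iff_w0 (c : DCert D Ns) (tc : TCert D) (ac : ACert D wl ws sc) (hw : W0Cert D w0)
    (g : GL D.Idx F) :
    g ∈ D.negUnipotent F ↔ (wordN c F w0)⁻¹ * g * wordN c F w0 ∈ D.posUnipotent F := by
  have hact := actsAs_wordN (F := F) c w0 hw.1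
  have hN := wordN_mem_monomial (F := F) c w0 hw.1
  obtain ⟨π', hact', -⟩ := nAct_of_mem_monomial c tc _ (Subgroup.inv_mem _ hN)
  exact mem_neg_iff_conj_mem_pos c tc ac hact (linMap_wordRefl c w0 hw.1) hact' (w0_neg hw) g

/-- Every automorphism preserving `U` is, up to an inner automorphism by an element of `B`, one that preserves `U`
and `V`. -/
theorem exists_conj_preserves_neg (c : DCert D Ns) (tc : TCert D) (ac : ACert D wl ws sc) (gc : GCert D w d)
    (hdesc : Descent D) (hR2 : R2All D F) (hw : W0Cert D w0) (θ : MulAut ↥(D.group F))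
    (hU : Preserves θ (D.posUnipotent F)) :
    ∃ b : ↥(D.group F), (b : GL D.Idx F) ∈ D.borelSubgroup F ∧
      Preserves (MulAut.conj b * θ) (D.posUnipotent F) ∧ Preserves (MulAut.conj b * θ) (D.negUnipotent F) := by
  have hN0 := wordN_mem_monomial (F := F) c w0 hw.1
  set n0 : ↥(D.group F) := ⟨wordN c F w0, monomial_le_group c hN0⟩ with hn0
  obtain ⟨b, hb, n, hn, u, hu, hg⟩ := canonical_exists c tc ac gc hdesc hR2 _ (θ n0).2
  have huU : u ∈ D.posUnipotent F := flipGens_le_pos n hu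
  have hbG : b ∈ D.group F := borel_le_group c hb
  have hBnorm : D.borelSubgroup F ≤ Subgroup.normalizer (D.posUnipotent F : Set (GL D.Idx F)) := by
    rw [← normalizer_pos_inf_group c tc ac gc hR2]
    exact inf_le_left
  obtain ⟨π, hact, hlin⟩ := nAct_of_mem_monomial c tc n hn
  obtain ⟨π', hact', -⟩ := nAct_of_mem_monomial c tc _ (Subgroup.inv_mem _ hn)
  -- `n` makes all positive roots negative
  have hneg : ∀ r, D.IsPosRoot r → D.IsNegRoot (π r) := by
    apply all_neg_of_inf_eq_bot c tc ac hact hlin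
    intro y hy hy'
    -- `y' = u⁻¹ y u` and its preimage
    have hy1 : u⁻¹ * y * u ∈ D.posUnipotent F :=
      Subgroup.mul_mem _ (Subgroup.mul_mem _ (Subgroup.inv_mem _ huU) hy) huU
    set y'' : ↥(D.group F) := θ⁻¹ ⟨u⁻¹ * y * u, posUnipotent_le_group c hy1⟩ with hy''
    have hy''U : (y'' : GL D.Idx F) ∈ D.posUnipotent F := by
      rw [← hU y'', hy'', MulAut.apply_inv_self]
      exact hy1
    have hθy'' : ((θ y'' : ↥(D.group F)) : GL D.Idx F) = u⁻¹ * y * u := by
      rw [hy'', MulAut.apply_inv_self]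
    have hz : ((θ (n0 * y'' * n0⁻¹) : ↥(D.group F)) : GL D.Idx F) = b * (n * y * n⁻¹) * b⁻¹ := by
      rw [map_mul, map_mul, map_inv]
      show ((θ n0 : ↥(D.group F)) : GL D.Idx F) * ((θ y'' : ↥(D.group F)) : GL D.Idx F) *
        ((θ n0 : ↥(D.group F)) : GL D.Idx F)⁻¹ = _
      rw [hθy'', hg]
      group
    have hzU : ((θ (n0 * y'' * n0⁻¹) : ↥(D.group F)) : GL D.Idx F) ∈ D.posUnipotent F := by
      rw [hz]
      exact (Subgroup.mem_normalizer_iff.mp (hBnorm hb) _).mp hy'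
    rw [hU] at hzU
    have hzV : ((n0 * y'' * n0⁻¹ : ↥(D.group F)) : GL D.Idx F) ∈ D.negUnipotent F := by
      rw [mem_neg_iff_w0 c tc ac hw]
      show (wordN c F w0)⁻¹ * (wordN c F w0 * (y'' : GL D.Idx F) * (wordN c F w0)⁻¹) * wordN c F w0 ∈ _
      have e : (wordN c F w0)⁻¹ * (wordN c F w0 * (y'' : GL D.Idx F) * (wordN c F w0)⁻¹) * wordN c F w0 =
          (y'' : GL D.Idx F) := by group
      rw [e]
      exact hy''U
    have h1 : ((n0 * y'' * n0⁻¹ : ↥(D.group F)) : GL D.Idx F) ∈ D.borelSubgroup F ⊓ D.negUnipotent F :=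
      Subgroup.mem_inf.mpr ⟨Subgroup.mem_sup_left hzU, hzV⟩
    rw [borel_inf_neg c tc gc, Subgroup.mem_bot] at h1
    have h2 : n0 * y'' * n0⁻¹ = 1 := Subtype.ext h1
    have h3 : y'' = 1 := by
      have : y'' = n0⁻¹ * (n0 * y'' * n0⁻¹) * n0 := by group
      rw [this, h2]
      group
    have h4 : u⁻¹ * y * u = 1 := by
      rw [← hθy'', h3, map_one]
      rfl
    have : y = u * (u⁻¹ * y * u) * u⁻¹ := by group
    rw [this, h4]
    group
  -- the automorphism `conj b⁻¹ * θ`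
  set b' : ↥(D.group F) := ⟨b, hbG⟩⁻¹ with hb'
  have hb'B : (b' : GL D.Idx F) ∈ D.borelSubgroup F := Subgroup.inv_mem _ hb
  have hUpres : Preserves (MulAut.conj b' * θ) (D.posUnipotent F) :=
    (preserves_conj b' (hBnorm hb'B)).mul hU
  refine ⟨b', hb'B, hUpres, ?_⟩
  intro x
  show (b' : GL D.Idx F) * ((θ x : ↥(D.group F)) : GL D.Idx F) * (b' : GL D.Idx F)⁻¹ ∈ D.negUnipotent F ↔ _
  have hb'v : (b' : GL D.Idx F) = b⁻¹ := rfl
  rw [hb'v, inv_inv, mem_neg_iff_conj_mem_pos c tc ac hact hlin hact' hneg, mem_neg_iff_w0 c tc ac hw (x : GL D.Idx F)]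
  have h5 : (wordN c F w0)⁻¹ * (x : GL D.Idx F) * wordN c F w0 = ((n0⁻¹ * x * n0 : ↥(D.group F)) : GL D.Idx F) := rfl
  rw [h5, ← hU (n0⁻¹ * x * n0), map_mul, map_mul, map_inv]
  show _ ↔ ((θ n0 : ↥(D.group F)) : GL D.Idx F)⁻¹ * ((θ x : ↥(D.group F)) : GL D.Idx F) *
    ((θ n0 : ↥(D.group F)) : GL D.Idx F) ∈ D.posUnipotent F
  rw [hg]
  have e : (b * n * u)⁻¹ * ((θ x : ↥(D.group F)) : GL D.Idx F) * (b * n * u) =
      u⁻¹ * (n⁻¹ * (b⁻¹ * ((θ x : ↥(D.group F)) : GL D.Idx F) * b) * n) * u := by group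
  rw [e]
  constructor
  · intro h
    exact Subgroup.mul_mem _ (Subgroup.mul_mem _ (Subgroup.inv_mem _ huU) h) huU
  · intro h
    have e2 : n⁻¹ * (b⁻¹ * ((θ x : ↥(D.group F)) : GL D.Idx F) * b) * n =
        u * (u⁻¹ * (n⁻¹ * (b⁻¹ * ((θ x : ↥(D.group F)) : GL D.Idx F) * b) * n) * u) * u⁻¹ := by group
    rw [e2]
    exact Subgroup.mul_mem _ (Subgroup.mul_mem _ huU h) (Subgroup.inv_mem _ huU)

end Cfsg.Agent.Lib.Helper18_ChevAutA
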