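import Cfsg.Agent.Lib.Helper18_ChevAutA
import Cfsg.Agent.Lib.Helper6_BNPairC

set_option autoImplicit false

/-!
Automorphisms of the Chevalley groups over finite fields, second part: an automorphism preserving `U` and `V`
permutes the root subgroups of the negatives of the fundamental roots.
-/

namespace Cfsg.Agent.Lib.Helper18_ChevAutB

open Cfsg Cfsg.Lie Cfsg.Agent.Lib.Helper18_ChevFast Cfsg.Agent.Lib.Helper18_ChevEngine
  Cfsg.Agent.Lib.Helper18_ChevR1 Cfsg.Agent.Lib.Helper18_ChevN Cfsg.Agent.Lib.Helper18_ChevR4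
  Cfsg.Agent.Lib.Helper18_ChevSimple Cfsg.Agent.Lib.Helper18_ChevSimple2 Cfsg.Agent.Lib.Helper18_ChevFacts
  Cfsg.Agent.Lib.Helper18_ChevWeyl Cfsg.Agent.Lib.Helper18_ChevDiag Cfsg.Agent.Lib.Helper18_ChevCar
  Cfsg.Agent.Lib.Helper18_ChevTorus Cfsg.Agent.Lib.Helper18_ChevGL Cfsg.Agent.Lib.Helper18_ChevComm
  Cfsg.Agent.Lib.Helper18_ChevComm2 Cfsg.Agent.Lib.Helper18_MatTri Cfsg.Agent.Lib.Helper18_ChevTri
  Cfsg.Agent.Lib.Helper18_ChevBorel Cfsg.Agent.Lib.Helper18_ChevAdd Cfsg.Agent.Lib.Helper18_ChevUni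
  Cfsg.Agent.Lib.Helper18_ChevBN Cfsg.Agent.Lib.Helper18_ChevMono Cfsg.Agent.Lib.Helper18_ChevBNPair
  Cfsg.Agent.Lib.Helper18_ChevSimp Cfsg.Agent.Lib.Helper18_ChevJCerts Cfsg.Agent.Lib.Helper18_ChevLevi
  Cfsg.Agent.Lib.Helper18_ChevBruhat Cfsg.Agent.Lib.Helper18_ChevPar Cfsg.Agent.Lib.Helper18_ChevRootHom
  Cfsg.Agent.Lib.Helper18_ChevOrder Cfsg.Agent.Lib.Helper18_ChevSylow Cfsg.Agent.Lib.Helper18_ChevCent
  Cfsg.Agent.Lib.Helper18_ChevFrob Cfsg.Agent.Lib.Helper18_ChevAutA

variable {D : ChevalleyDatum} {Ns : List NData} {F : Type*} [Field F]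
variable {wl : List ℤ} {ws : List (List ℤ)} {sc : ℤ} {w : List ℤ} {d : ℕ} {w0 : List ℕ}

/-! ### Automorphisms of a group with a `(B, N)`-pair permute the minimal parabolic subgroups -/

theorem exists_simple_of_aut {G : Type*} [Group G] (P : BNPair G) (θ : MulAut G)
    (hB : ∀ x, θ x ∈ P.B ↔ x ∈ P.B) (s : G) (hs : s ∈ P.S) :
    ∃ s' ∈ P.S, ∀ x, θ x ∈ P.parabolic {s'} ↔ x ∈ P.parabolic {s} := by
  have hne : ∀ t ∈ P.S, P.parabolic {t} ≠ P.B := by
    intro t ht h
    apply Cfsg.Agent.Lib.Helper6_BNPair.not_mem_B_of_mem_S P ht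
    rw [← h]
    exact Cfsg.Agent.Lib.Helper6_BNPair.closure_le_parabolic P _ (Subgroup.subset_closure rfl)
  have hpar_empty : ∀ K : Subgroup G, P.B ≤ K → P.S ∩ (K : Set G) = ∅ → K = P.B := by
    intro K hK hJ
    have := Cfsg.Agent.Lib.Helper6_BNPair.subgroup_eq_parabolic P hK
    rw [hJ] at this
    rw [this]
    unfold BNPair.parabolic
    rw [Subgroup.closure_empty, sup_bot_eq]
  -- the image of the minimal parabolic subgroup
  set M : Subgroup G := (P.parabolic {s}).map θ.toMonoidHom with hM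
  have hmemM : ∀ x, θ x ∈ M ↔ x ∈ P.parabolic {s} := by
    intro x
    rw [hM, Subgroup.mem_map]
    constructor
    · rintro ⟨y, hy, e⟩
      have : y = x := θ.injective e
      rwa [← this]
    · intro hx
      exact ⟨x, hx, rfl⟩
  have hBM : P.B ≤ M := by
    intro x hx
    have h1 : θ (θ⁻¹ x) = x := MulAut.apply_inv_self _ θ x
    rw [← h1, hmemM]
    apply Cfsg.Agent.Lib.Helper6_BNPair.B_le_parabolic P
    rw [← hB, h1]
    exact hx
  have hMne : M ≠ P.B := by
    intro h
    apply hne s hs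
    ext x
    rw [← hmemM, h, hB]
  have hJne : (P.S ∩ (M : Set G)).Nonempty := by
    by_contra hemp
    rw [Set.not_nonempty_iff_eq_empty] at hemp
    exact hMne (hpar_empty M hBM hemp)
  obtain ⟨s', hs'S, hs'M⟩ := hJne
  have hle : P.parabolic {s'} ≤ M := by
    unfold BNPair.parabolic
    apply sup_le hBM
    rw [Subgroup.closure_le]
    intro x hx
    rw [Set.mem_singleton_iff] at hx
    rw [hx]
    exact hs'M
  -- the preimage of the minimal parabolic subgroup of `s'`
  set M' : Subgroup G := (P.parabolic {s'}).comap θ.toMonoidHom with hM'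
  have hmemM' : ∀ x, x ∈ M' ↔ θ x ∈ P.parabolic {s'} := fun x => Iff.rfl
  have hBM' : P.B ≤ M' := by
    intro x hx
    rw [hmemM']
    apply Cfsg.Agent.Lib.Helper6_BNPair.B_le_parabolic P
    rw [hB]
    exact hx
  have hM'le : M' ≤ P.parabolic {s} := by
    intro x hx
    rw [← hmemM]
    exact hle ((hmemM' x).mp hx)
  have hM'ne : M' ≠ P.B := by
    intro h
    apply hne s' hs'S
    ext x
    have h1 : θ (θ⁻¹ x) = x := MulAut.apply_inv_self _ θ x
    rw [← h1, ← hmemM', h, hB]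
  have hpar' := Cfsg.Agent.Lib.Helper6_BNPair.subgroup_eq_parabolic P hBM'
  have hsub : P.S ∩ (M' : Set G) ⊆ {s} := by
    rw [← Cfsg.Agent.Lib.Helper6_BNPair.parabolic_le_iff P Set.inter_subset_left
      (Set.singleton_subset_iff.mpr hs), ← hpar']
    exact hM'le
  have hJ'ne : (P.S ∩ (M' : Set G)).Nonempty := by
    by_contra hemp
    rw [Set.not_nonempty_iff_eq_empty] at hemp
    exact hM'ne (hpar_empty M' hBM' hemp)
  have hJ' : P.S ∩ (M' : Set G) = {s} := by
    obtain ⟨t, ht⟩ := hJ'ne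
    have := hsub ht
    rw [Set.mem_singleton_iff] at this
    subst this
    exact Set.Subset.antisymm hsub (Set.singleton_subset_iff.mpr ht)
  rw [hJ'] at hpar'
  refine ⟨s', hs'S, fun x => ?_⟩
  rw [← hmemM', hpar']


/-- An automorphism `θ` maps the subgroup `S` onto the subgroup `S'`. -/
def Preserves' (θ : MulAut ↥(D.group F)) (S S' : Subgroup (GL D.Idx F)) : Prop :=
  ∀ x : ↥(D.group F), ((θ x : ↥(D.group F)) : GL D.Idx F) ∈ S' ↔ (x : GL D.Idx F) ∈ S

/-! ### The minimal parabolic subgroups of a Chevalley group -/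

/-- An automorphism that preserves `B` permutes the minimal parabolic subgroups. -/
theorem exists_parabolic_of_aut (c : DCert D Ns) (tc : TCert D) (ac : ACert D wl ws sc) (gc : GCert D w d)
    (hR2 : R2All D F) (θ : MulAut ↥(D.group F)) (hB : Preserves θ (D.borelSubgroup F)) (i : ℕ) (hi : i < D.rank) :
    ∃ j < D.rank, Preserves' θ (D.parabolicSubgroup F {i}) (D.parabolicSubgroup F {j}) := by
  obtain ⟨P, hPB, hPN, hPS⟩ := exists_bnPair c tc ac gc hR2 (F := F)
  have hbridge : ∀ (k : ℕ) (hk : k < D.rank) (x : ↥(D.group F)),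
      x ∈ P.parabolic {(⟨nGL c k, nGL_mem_group c k⟩ : ↥(D.group F))} ↔
        (x : GL D.Idx F) ∈ D.parabolicSubgroup F {k} := by
    intro k hk x
    constructor
    · intro hx
      have hle : P.parabolic {(⟨nGL c k, nGL_mem_group c k⟩ : ↥(D.group F))} ≤
          (D.parabolicSubgroup F {k}).comap (D.group F).subtype := by
        unfold BNPair.parabolic
        apply sup_le
        · intro y hy
          rw [hPB, Subgroup.mem_subgroupOf] at hy
          exact borel_le_parabolic {k} hy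
        · rw [Subgroup.closure_le]
          intro y hy
          rw [Set.mem_singleton_iff] at hy
          rw [hy]
          exact nGL_mem_parabolic {k} c k hk rfl
      exact hle hx
    · intro hx
      have hle : D.parabolicSubgroup F {k} ≤
          (P.parabolic {(⟨nGL c k, nGL_mem_group c k⟩ : ↥(D.group F))}).map (D.group F).subtype := by
        unfold ChevalleyDatum.parabolicSubgroup
        apply sup_le
        · intro y hy
          refine ⟨⟨y, borel_le_group c hy⟩, ?_, rfl⟩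
          apply Cfsg.Agent.Lib.Helper6_BNPair.B_le_parabolic P
          rw [hPB, Subgroup.mem_subgroupOf]
          exact hy
        · rw [Subgroup.closure_le]
          rintro y ⟨j, hj, -, hy⟩
          rw [Set.mem_singleton_iff] at hj
          subst hj
          refine ⟨⟨nGL c j, nGL_mem_group c j⟩, ?_, ?_⟩
          · exact Cfsg.Agent.Lib.Helper6_BNPair.closure_le_parabolic P _ (Subgroup.subset_closure rfl)
          · apply Units.ext
            rw [hy]
            exact nGL_coe c j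
      obtain ⟨y, hy, e⟩ := hle hx
      have : y = x := Subtype.ext e
      rwa [← this]
  have hB' : ∀ x, θ x ∈ P.B ↔ x ∈ P.B := by
    intro x
    rw [hPB, Subgroup.mem_subgroupOf, Subgroup.mem_subgroupOf]
    exact hB x
  have hsS : (⟨nGL c i, nGL_mem_group c i⟩ : ↥(D.group F)) ∈ P.S := by
    rw [hPS]
    exact ⟨i, hi, nGL_coe c i⟩
  obtain ⟨s', hs'S, hs'⟩ := exists_simple_of_aut P θ hB' _ hsS
  rw [hPS] at hs'S
  obtain ⟨j, hj, hs'j⟩ := hs'S
  have hs'eq : s' = ⟨nGL c j, nGL_mem_group c j⟩ := by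
    apply Subtype.ext
    apply Units.ext
    rw [hs'j]
    exact (nGL_coe c j).symm
  refine ⟨j, hj, fun x => ?_⟩
  rw [← hbridge j hj, ← hbridge i hi, ← hs'eq]
  exact hs' x

/-! ### The negative roots other than `-p_i` -/

/-- The generators of `V_p`, `p` the `i`-th fundamental root. -/
def downGens (D : ChevalleyDatum) (F : Type*) [Field F] (i : ℕ) : Set (GL D.Idx F) :=
  {g | ∃ (s : ℕ) (t : F), D.IsNegRoot s ∧ s ≠ D.neg (D.simple i) ∧ (g : Matrix D.Idx D.Idx F) = D.x F s t}

/-- The roots in the commutator formula for `(-p_i, s)`, `s` negative and different from `-p_i`, are negative and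
different from `-p_i`. -/
theorem commTerms_simple_neg (c : DCert D Ns) (tc : TCert D) (ac : ACert D wl ws sc) (i : ℕ) (hi : i < D.rank)
    (s : ℕ) (hs : D.IsNegRoot s) (hne : s ≠ D.neg (D.simple i)) :
    ∀ k ∈ D.commTerms (D.neg (D.simple i)) s, D.IsNegRoot k.1 ∧ k.1 ≠ D.neg (D.simple i) := by
  intro k hk
  have hp := (ac.simple i hi).1
  have hnp := DCert.neg_lt c _ hp
  have hspos := neg_isPos c tc ac s hs
  have hne' : D.neg s ≠ D.simple i := by
    intro h
    apply hne
    rw [← h, neg_neg_root c tc ac s hs.1]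
  obtain ⟨j, hj, hji, hpos⟩ := ac.exists_other _ hspos i hi hne'
  have hg := isGrading_w c tc (ws.getD j [])
  obtain ⟨hk1, ha, hb, hval⟩ := commTerms_grading c.rows ac.in_range hg _ s hnp hs.1 k hk
  have hps : cf D ws j (D.simple i) = 0 := by
    rw [ac.cf_simple i hi j hj, if_neg hji]
  have hr0 : grRoot D (ws.getD j []) (D.neg (D.simple i)) = 0 := by
    rw [grRoot_neg c tc _ _ hp]
    unfold cf at hps
    rw [hps, neg_zero]
  have hsneg : grRoot D (ws.getD j []) s < 0 := by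
    unfold cf at hpos
    rw [grRoot_neg c tc _ _ hs.1] at hpos
    omega
  rw [hr0, mul_zero, zero_add] at hval
  have hkneg : cf D ws j k.1 < 0 := by
    unfold cf
    rw [hval]
    have : (1 : ℤ) ≤ (k.2.2.2 : ℤ) := by exact_mod_cast hb
    nlinarith
  constructor
  · rcases ac.posOrNeg k.1 hk1 with h | h
    · have := (ac.pos_iff k.1 hk1).mp h j hj
      omega
    · exact h
  · intro h
    rw [h] at hkneg
    unfold cf at hkneg
    rw [hr0] at hkneg
    omega

/-- `x_{-p}(t)` normalizes `V_p`. -/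
theorem xGL_mem_normalizer_down (c : DCert D Ns) (tc : TCert D) (ac : ACert D wl ws sc) (hR2 : R2All D F)
    (i : ℕ) (hi : i < D.rank) (t : F) :
    xGL c (D.neg (D.simple i)) t ∈
      Subgroup.normalizer (Subgroup.closure (downGens D F i) : Set (GL D.Idx F)) := by
  have hp := ac.simple i hi
  have hrlt := DCert.neg_lt c _ hp.1
  have key : ∀ (t : F), ∀ g ∈ downGens D F i,
      (xGL c (D.neg (D.simple i)) t)⁻¹ * g * xGL c (D.neg (D.simple i)) t ∈
        Subgroup.closure (downGens D F i) := by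
    intro t g hg
    obtain ⟨s, u, hs, hne, hg⟩ := hg
    rw [eq_xGL c hg]
    have hsr : s ≠ D.neg (D.neg (D.simple i)) := by
      rw [neg_neg_root c tc ac _ hp.1]
      intro h
      rw [h] at hs
      exact ac.not_pos_and_neg _ hp.2.1 hs
    apply conj_mem_of_R2 c (hR2 _ s hrlt hs.1 hne hsr)
    · intro u'
      exact Subgroup.subset_closure ⟨s, u', hs, hne, rfl⟩
    · intro k hk a
      obtain ⟨h1, h2⟩ := commTerms_simple_neg c tc ac i hi s hs hne k hk
      exact Subgroup.subset_closure ⟨k.1, a, h1, h2, rfl⟩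
  apply mem_normalizer_closure
  · intro g hg
    have := key (-t) g hg
    rwa [← xGL_inv, inv_inv] at this
  · intro g hg
    exact key t g hg

/-- `V = V_p X_{-p}`. -/
theorem neg_decomp (c : DCert D Ns) (tc : TCert D) (ac : ACert D wl ws sc) (hR2 : R2All D F)
    (i : ℕ) (hi : i < D.rank) (v : GL D.Idx F) (hv : v ∈ D.negUnipotent F) :
    ∃ y ∈ Subgroup.closure (downGens D F i), ∃ a : F, v = y * xGL c (D.neg (D.simple i)) a := by
  have hle : D.negUnipotent F ≤
      Subgroup.closure (downGens D F i) ⊔ D.rootSubgroup F (D.neg (D.simple i)) := by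
    unfold ChevalleyDatum.negUnipotent
    rw [Subgroup.closure_le]
    rintro g ⟨s, t, hs, hg⟩
    by_cases hsp : s = D.neg (D.simple i)
    · subst hsp
      exact Subgroup.mem_sup_right (Subgroup.subset_closure ⟨t, hg⟩)
    · exact Subgroup.mem_sup_left (Subgroup.subset_closure ⟨s, t, hs, hsp, hg⟩)
  have hnorm : D.rootSubgroup F (D.neg (D.simple i)) ≤
      Subgroup.normalizer (Subgroup.closure (downGens D F i) : Set (GL D.Idx F)) := by
    unfold ChevalleyDatum.rootSubgroup
    rw [Subgroup.closure_le]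
    rintro g ⟨t, hg⟩
    rw [eq_xGL c hg]
    exact xGL_mem_normalizer_down c tc ac hR2 i hi t
  obtain ⟨y, hy, a, ha, rfl⟩ := exists_mul_of_mem_sup _ _ hnorm (hle hv)
  obtain ⟨t, rfl⟩ := (mem_rootSubgroup_iff c _ a).mp ha
  exact ⟨y, hy, t, rfl⟩

/-- The minimal parabolic subgroup is block triangular for the grading by the coefficients outside `i`. -/
theorem parabolic_le_tri (c : DCert D Ns) (tc : TCert D) (ac : ACert D wl ws sc) (hdesc : Descent D) (J : Set ℕ) :
    D.parabolicSubgroup F J ≤ triSubgroup (R := F) (grIdx D (gJ D ws J)) 0 (le_refl 0) := by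
  rw [← sup_eq_parabolic J c tc ac hdesc]
  apply sup_le
  · exact le_trans (unipotentRadical_le_tri J c tc ac) (triSubgroup_mono (by omega) (le_refl 0) (by omega))
  · exact levi_le_tri J c tc ac (isGrading_gJ J c tc) (fun r hr => by rw [gJ_zero J ac r hr])

theorem down_le_tri (c : DCert D Ns) (tc : TCert D) (ac : ACert D wl ws sc) (i : ℕ) (hi : i < D.rank) :
    Subgroup.closure (downGens D F i) ≤
      triSubgroup (R := F) (grIdx D (fun s => - gJ D ws {i} s)) 1 (by omega) := by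
  rw [Subgroup.closure_le]
  rintro g ⟨s, t, hs, hne, hg⟩
  show Raises _ _ _
  rw [hg]
  have hspos := neg_isPos c tc ac s hs
  have hne' : D.neg s ≠ D.simple i := by
    intro h
    apply hne
    rw [← h, neg_neg_root c tc ac s hs.1]
  have hnot : ¬ D.InRootSub {i} (D.neg s) := by
    obtain ⟨j, hj, hji, hpos⟩ := ac.exists_other _ hspos i hi hne'
    exact (pos_of_pos_coeff {i} ac _ hspos.1 j hj (by simpa using hji) hpos).2
  have h1 := gJ_pos {i} ac _ hspos hnot
  have hgr := isGrading_gJ (ws := ws) {i} c tc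
  have h2 : gJ D ws {i} (D.neg s) = - gJ D ws {i} s := hgr.neg s hs.1
  apply x_sub_one_raises hgr.neg' s hs.1 1 (le_refl _) _ t
  show 1 ≤ - gJ D ws {i} s
  omega

/-- `V ∩ P_i = X_{-p_i}`. -/
theorem neg_inf_parabolic (c : DCert D Ns) (tc : TCert D) (ac : ACert D wl ws sc) (hdesc : Descent D)
    (hR2 : R2All D F) (i : ℕ) (hi : i < D.rank) (v : GL D.Idx F) :
    (v ∈ D.negUnipotent F ∧ v ∈ D.parabolicSubgroup F {i}) ↔ v ∈ D.rootSubgroup F (D.neg (D.simple i)) := by
  have hp := ac.simple i hi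
  have hJ : D.InRootSub {i} (D.simple i) := inRootSub_simple {i} tc ac i hi rfl
  constructor
  · rintro ⟨hv, hvP⟩
    obtain ⟨y, hy, a, rfl⟩ := neg_decomp c tc ac hR2 i hi v hv
    have hxP : xGL c (D.neg (D.simple i)) a ∈ D.parabolicSubgroup F {i} :=
      xGL_neg_mem_parabolic {i} c tc ac hdesc _ hp.2.1 hJ a
    have hyP : y ∈ D.parabolicSubgroup F {i} := by
      have : y = y * xGL c (D.neg (D.simple i)) a * (xGL c (D.neg (D.simple i)) a)⁻¹ := by group
      rw [this]
      exact Subgroup.mul_mem _ hvP (Subgroup.inv_mem _ hxP)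
    have h1 := parabolic_le_tri (ws := ws) c tc ac hdesc {i} hyP
    have h2 := down_le_tri (ws := ws) c tc ac i hi hy
    have hy1 : y = 1 := by
      apply Units.ext
      rw [Units.val_one]
      have : (y : Matrix D.Idx D.Idx F) - 1 = 0 := by
        ext r s
        rw [Matrix.zero_apply]
        by_cases hrs : grIdx D (gJ D ws {i}) r < grIdx D (gJ D ws {i}) s + 0
        · exact h1 r s hrs
        · apply h2 r s
          rcases r with r | r <;> rcases s with s | s <;> simp only [grIdx] at hrs ⊢ <;> omega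
      exact sub_eq_zero.mp this
    rw [hy1, one_mul]
    exact (mem_rootSubgroup_iff c _ _).mpr ⟨a, rfl⟩
  · intro hv
    obtain ⟨a, rfl⟩ := (mem_rootSubgroup_iff c _ v).mp hv
    refine ⟨Subgroup.subset_closure ⟨_, a, neg_isNeg c tc ac _ hp.2.1, rfl⟩, ?_⟩
    exact xGL_neg_mem_parabolic {i} c tc ac hdesc _ hp.2.1 hJ a

/-- An automorphism that preserves `U` and `V` permutes the root subgroups of the negatives of the fundamental
roots. -/
theorem exists_neg_simple_of_aut (c : DCert D Ns) (tc : TCert D) (ac : ACert D wl ws sc) (gc : GCert D w d)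
    (hdesc : Descent D) (hR2 : R2All D F) (θ : MulAut ↥(D.group F)) (hU : Preserves θ (D.posUnipotent F))
    (hV : Preserves θ (D.negUnipotent F)) (i : ℕ) (hi : i < D.rank) :
    ∃ j < D.rank, Preserves' θ (D.rootSubgroup F (D.neg (D.simple i))) (D.rootSubgroup F (D.neg (D.simple j))) := by
  have hB := preserves_borel c tc ac gc hR2 θ hU
  obtain ⟨j, hj, hP⟩ := exists_parabolic_of_aut c tc ac gc hR2 θ hB i hi
  refine ⟨j, hj, fun x => ?_⟩
  rw [← neg_inf_parabolic c tc ac hdesc hR2 j hj, ← neg_inf_parabolic c tc ac hdesc hR2 i hi, hV x, hP x]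

/-! ### The positive side -/

theorem mem_rootSubgroup_conj (c : DCert D Ns) {g : GL D.Idx F} {π : ℕ → ℕ} (h : ActsAs c g π) (r : ℕ)
    (hr : r < D.nroots) (y : GL D.Idx F) : g * y * g⁻¹ ∈ D.rootSubgroup F (π r) ↔ y ∈ D.rootSubgroup F r := by
  obtain ⟨-, a, ha, e⟩ := h r hr
  rw [mem_rootSubgroup_iff c, mem_rootSubgroup_iff c]
  constructor
  · rintro ⟨t, ht⟩
    refine ⟨a⁻¹ * t, ?_⟩
    have h1 : g * xGL c r (a⁻¹ * t) * g⁻¹ = g * y * g⁻¹ := by
      rw [e, mul_inv_cancel_left₀ ha, ht]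
    have h2 : y = g⁻¹ * (g * y * g⁻¹) * g := by group
    rw [h2, ← h1]
    group
  · rintro ⟨t, rfl⟩
    exact ⟨a * t, e t⟩

/-- The longest element maps the negatives of the fundamental roots onto the fundamental roots. -/
def W0Simple (D : ChevalleyDatum) (w0 : List ℕ) : Prop :=
  (∀ j < D.rank, ∃ i < D.rank, wordRefl D w0 (D.neg (D.simple j)) = D.simple i) ∧
    ∀ i < D.rank, ∃ j < D.rank, wordRefl D w0 (D.neg (D.simple j)) = D.simple i

/-- `g ∈ V` if and only if `n₀ g n₀⁻¹ ∈ U`. -/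
theorem mem_neg_iff_w0' (c : DCert D Ns) (tc : TCert D) (ac : ACert D wl ws sc) (hw : W0Cert D w0)
    (g : GL D.Idx F) :
    g ∈ D.negUnipotent F ↔ wordN c F w0 * g * (wordN c F w0)⁻¹ ∈ D.posUnipotent F := by
  have hact := actsAs_wordN (F := F) c w0 hw.1
  have hlin := linMap_wordRefl c w0 hw.1
  have hN := wordN_mem_monomial (F := F) c w0 hw.1
  obtain ⟨π', hact', hlin'⟩ := nAct_of_mem_monomial c tc _ (Subgroup.inv_mem _ hN)
  have hneg' : ∀ r, D.IsPosRoot r → D.IsNegRoot (π' r) := by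
    intro r hr
    have h1 := neg_of_actsAs_inv c tc ac hact hlin hact' (w0_neg hw) _ (neg_isNeg c tc ac r hr)
    rw [hlin'.2.1 r hr.1] at h1
    rcases ac.posOrNeg _ (hlin'.1 r hr.1) with hp | hn
    · exact absurd h1 (fun h => ac.not_pos_and_neg _ h (neg_isNeg c tc ac _ hp))
    · exact hn
  have hact'' : ActsAs c ((wordN c F w0)⁻¹)⁻¹ (wordRefl D w0) := by
    rw [inv_inv]
    exact hact
  have := mem_neg_iff_conj_mem_pos c tc ac hact' hlin' hact'' hneg' g
  rwa [inv_inv] at this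

/-- An automorphism that preserves `U` and `V` permutes the root subgroups of the fundamental roots. -/
theorem exists_pos_simple_of_aut (c : DCert D Ns) (tc : TCert D) (ac : ACert D wl ws sc) (gc : GCert D w d)
    (hdesc : Descent D) (hR2 : R2All D F) (hw : W0Cert D w0) (hws : W0Simple D w0) (θ : MulAut ↥(D.group F))
    (hU : Preserves θ (D.posUnipotent F)) (hV : Preserves θ (D.negUnipotent F)) (i : ℕ) (hi : i < D.rank) :
    ∃ j < D.rank, Preserves' θ (D.rootSubgroup F (D.simple i)) (D.rootSubgroup F (D.simple j)) := by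
  have hN0 := wordN_mem_monomial (F := F) c w0 hw.1
  have hact := actsAs_wordN (F := F) c w0 hw.1
  set n0 : ↥(D.group F) := ⟨wordN c F w0, monomial_le_group c hN0⟩ with hn0
  set θ' : MulAut ↥(D.group F) := MulAut.conj n0⁻¹ * θ * MulAut.conj n0 with hθ'
  have hθ'x : ∀ x : ↥(D.group F), ((θ' x : ↥(D.group F)) : GL D.Idx F) =
      (wordN c F w0)⁻¹ * ((θ (n0 * x * n0⁻¹) : ↥(D.group F)) : GL D.Idx F) * wordN c F w0 := by
    intro x
    show ((n0⁻¹ * θ (n0 * x * n0⁻¹) * n0⁻¹⁻¹ : ↥(D.group F)) : GL D.Idx F) = _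
    rw [inv_inv]
    rfl
  have hU' : Preserves θ' (D.posUnipotent F) := by
    intro x
    rw [hθ'x, ← mem_neg_iff_w0 c tc ac hw, hV, mem_neg_iff_w0 c tc ac hw]
    have e : (wordN c F w0)⁻¹ * ((n0 * x * n0⁻¹ : ↥(D.group F)) : GL D.Idx F) * wordN c F w0 =
        (x : GL D.Idx F) := by
      show (wordN c F w0)⁻¹ * (wordN c F w0 * (x : GL D.Idx F) * (wordN c F w0)⁻¹) * wordN c F w0 = _
      group
    rw [e]
  have hV' : Preserves θ' (D.negUnipotent F) := by
    intro x
    rw [mem_neg_iff_w0' c tc ac hw, hθ'x, mem_neg_iff_w0' c tc ac hw (x : GL D.Idx F)]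
    have e : wordN c F w0 * ((wordN c F w0)⁻¹ * ((θ (n0 * x * n0⁻¹) : ↥(D.group F)) : GL D.Idx F) *
        wordN c F w0) * (wordN c F w0)⁻¹ = ((θ (n0 * x * n0⁻¹) : ↥(D.group F)) : GL D.Idx F) := by group
    rw [e, hU]
    rfl
  obtain ⟨i₀, hi₀, hi₀eq⟩ := hws.2 i hi
  obtain ⟨j₀, hj₀, hP⟩ := exists_neg_simple_of_aut c tc ac gc hdesc hR2 θ' hU' hV' i₀ hi₀
  obtain ⟨j, hj, hjeq⟩ := hws.1 j₀ hj₀
  refine ⟨j, hj, fun x => ?_⟩
  have hnlt : ∀ k < D.rank, D.neg (D.simple k) < D.nroots := fun k hk => DCert.neg_lt c _ (ac.simple k hk).1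
  have h1 := hP (n0⁻¹ * x * n0)
  rw [hθ'x] at h1
  have e1 : n0 * (n0⁻¹ * x * n0) * n0⁻¹ = x := by group
  rw [e1] at h1
  rw [← hjeq, ← hi₀eq]
  have e2 : wordN c F w0 * ((wordN c F w0)⁻¹ * ((θ x : ↥(D.group F)) : GL D.Idx F) * wordN c F w0) *
      (wordN c F w0)⁻¹ = ((θ x : ↥(D.group F)) : GL D.Idx F) := by group
  have e3 : wordN c F w0 * ((n0⁻¹ * x * n0 : ↥(D.group F)) : GL D.Idx F) * (wordN c F w0)⁻¹ = (x : GL D.Idx F) := by
    show wordN c F w0 * ((wordN c F w0)⁻¹ * (x : GL D.Idx F) * wordN c F w0) * (wordN c F w0)⁻¹ = _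
    group
  have h2 := mem_rootSubgroup_conj c hact _ (hnlt j₀ hj₀)
    ((wordN c F w0)⁻¹ * ((θ x : ↥(D.group F)) : GL D.Idx F) * wordN c F w0)
  have h3 := mem_rootSubgroup_conj c hact _ (hnlt i₀ hi₀) ((n0⁻¹ * x * n0 : ↥(D.group F)) : GL D.Idx F)
  rw [e2] at h2
  rw [e3] at h3
  rw [h2, h3]
  exact h1

end Cfsg.Agent.Lib.Helper18_ChevAutB
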