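import Cfsg.Agent.Lib.Helper18_ChevAutB

set_option autoImplicit false

/-!
Automorphisms of the Chevalley groups over finite fields, third part: for a simply laced diagram without symmetries,
an automorphism preserving `U` and `V` preserves the root subgroups of the fundamental roots and of their negatives.
-/

namespace Cfsg.Agent.Lib.Helper18_ChevAutC

open Cfsg Cfsg.Lie Cfsg.Agent.Lib.Helper18_ChevFast Cfsg.Agent.Lib.Helper18_ChevEngine
  Cfsg.Agent.Lib.Helper18_ChevR1 Cfsg.Agent.Lib.Helper18_ChevN Cfsg.Agent.Lib.Helper18_ChevR4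
  Cfsg.Agent.Lib.Helper18_ChevSimple Cfsg.Agent.Lib.Helper18_ChevSimple2 Cfsg.Agent.Lib.Helper18_ChevFacts
  Cfsg.Agent.Lib.Helper18_ChevWeyl Cfsg.Agent.Lib.Helper18_ChevDiag Cfsg.Agent.Lib.Helper18_ChevCar
  Cfsg.Agent.Lib.Helper18_ChevTorus Cfsg.Agent.Lib.Helper18_ChevGL Cfsg.Agent.Lib.Helper18_ChevComm
  Cfsg.Agent.Lib.Helper18_ChevComm2 Cfsg.Agent.Lib.Helper18_MatTri Cfsg.Agent.Lib.Helper18_ChevTri
  Cfsg.Agent.Lib.Helper18_ChevBorel Cfsg.Agent.Lib.Helper18_ChevAdd Cfsg.Agent.Lib.Helper18_ChevUni
  Cfsg.Agent.Lib.Helper18_ChevBN Cfsg.Agent.Lib.Helper18_ChevMono Cfsg.Agent.Lib.Helper18_ChevBNPair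
  Cfsg.Agent.Lib.Helper18_ChevSimp Cfsg.Agent.Lib.Helper18_ChevJCerts Cfsg.Agent.Lib.Helper18_ChevLevi
  Cfsg.Agent.Lib.Helper18_ChevBruhat Cfsg.Agent.Lib.Helper18_ChevPar Cfsg.Agent.Lib.Helper18_ChevRootHom
  Cfsg.Agent.Lib.Helper18_ChevOrder Cfsg.Agent.Lib.Helper18_ChevSylow Cfsg.Agent.Lib.Helper18_ChevCent
  Cfsg.Agent.Lib.Helper18_ChevFrob Cfsg.Agent.Lib.Helper18_ChevAutA Cfsg.Agent.Lib.Helper18_ChevAutB

variable {D : ChevalleyDatum} {Ns : List NData} {F : Type*} [Field F]
variable {wl : List ℤ} {ws : List (List ℤ)} {sc : ℤ} {w : List ℤ} {d : ℕ} {w0 : List ℕ}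

/-! ### Root subgroups mapped onto root subgroups -/

/-- The root element as an element of the group. -/
def xG (c : DCert D Ns) (r : ℕ) (t : F) : ↥(D.group F) := ⟨xGL c r t, xGL_mem_group c r t⟩

theorem xG_coe (c : DCert D Ns) (r : ℕ) (t : F) : ((xG c r t : ↥(D.group F)) : GL D.Idx F) = xGL c r t := rfl

theorem preserves'_inv {θ : MulAut ↥(D.group F)} {S S' : Subgroup (GL D.Idx F)} (h : Preserves' θ S S') :
    Preserves' θ⁻¹ S' S := by
  intro x
  have := h (θ⁻¹ x)
  rw [MulAut.apply_inv_self] at this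
  exact this.symm

theorem preserves'_mul {θ θ' : MulAut ↥(D.group F)} {S S' S'' : Subgroup (GL D.Idx F)} (h : Preserves' θ S' S'')
    (h' : Preserves' θ' S S') : Preserves' (θ * θ') S S'' := by
  intro x
  rw [MulAut.mul_apply, h, h']

theorem exists_param (c : DCert D Ns) (θ : MulAut ↥(D.group F)) {r s : ℕ}
    (h : Preserves' θ (D.rootSubgroup F r) (D.rootSubgroup F s)) (t : F) :
    ∃ u : F, ((θ (xG c r t) : ↥(D.group F)) : GL D.Idx F) = xGL c s u := by
  have := (h (xG c r t)).mpr ((mem_rootSubgroup_iff c r _).mpr ⟨t, rfl⟩)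
  exact (mem_rootSubgroup_iff c s _).mp this

theorem exists_param_inv (c : DCert D Ns) (θ : MulAut ↥(D.group F)) {r s : ℕ}
    (h : Preserves' θ (D.rootSubgroup F r) (D.rootSubgroup F s)) (u : F) :
    ∃ t : F, θ (xG c r t) = xG c s u := by
  obtain ⟨t, ht⟩ := exists_param c θ⁻¹ (preserves'_inv h) u
  refine ⟨t, ?_⟩
  have : xG c r t = θ⁻¹ (xG c s u) := Subtype.ext ht.symm
  rw [this, MulAut.apply_inv_self]

/-- The elements of the root subgroups of `r` and `s` commute. -/
def Comm (c : DCert D Ns) (F : Type*) [Field F] (r s : ℕ) : Prop :=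
  ∀ t u : F, xGL c r t * xGL c s u = xGL c s u * xGL c r t

theorem comm_of_maps (c : DCert D Ns) (θ : MulAut ↥(D.group F)) {r s r' s' : ℕ}
    (hr : Preserves' θ (D.rootSubgroup F r) (D.rootSubgroup F r'))
    (hs : Preserves' θ (D.rootSubgroup F s) (D.rootSubgroup F s')) (h : Comm c F r s) : Comm c F r' s' := by
  intro t u
  obtain ⟨t₁, ht⟩ := exists_param_inv c θ hr t
  obtain ⟨u₁, hu⟩ := exists_param_inv c θ hs u
  have e : xG c r t₁ * xG c s u₁ = xG c s u₁ * xG c r t₁ := Subtype.ext (h t₁ u₁)
  have e2 := congrArg θ e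
  rw [map_mul, map_mul, ht, hu] at e2
  exact congrArg Subtype.val e2

theorem comm_iff_of_maps (c : DCert D Ns) (θ : MulAut ↥(D.group F)) {r s r' s' : ℕ}
    (hr : Preserves' θ (D.rootSubgroup F r) (D.rootSubgroup F r'))
    (hs : Preserves' θ (D.rootSubgroup F s) (D.rootSubgroup F s')) : Comm c F r s ↔ Comm c F r' s' :=
  ⟨comm_of_maps c θ hr hs, comm_of_maps c θ⁻¹ (preserves'_inv hr) (preserves'_inv hs)⟩

/-- An automorphism maps different root subgroups onto different root subgroups. -/
theorem root_eq_of_maps (c : DCert D Ns) (tc : TCert D) (ac : ACert D wl ws sc) (θ : MulAut ↥(D.group F))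
    {r r' s : ℕ} (hr : r < D.nroots) (hr' : r' < D.nroots)
    (h : Preserves' θ (D.rootSubgroup F r) (D.rootSubgroup F s))
    (h' : Preserves' θ (D.rootSubgroup F r') (D.rootSubgroup F s)) : r' = r := by
  have h1 : (xG c r (1 : F) : GL D.Idx F) ∈ D.rootSubgroup F r' := by
    rw [← h', h]
    exact (mem_rootSubgroup_iff c r _).mpr ⟨1, rfl⟩
  obtain ⟨a, ha⟩ := (mem_rootSubgroup_iff c r' _).mp h1
  have h2 := congrArg (fun g : GL D.Idx F => (g : Matrix D.Idx D.Idx F)) ha
  exact root_eq_of_x_eq c tc ac r r' hr hr' 1 a one_ne_zero h2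

theorem simple_inj (tc : TCert D) {i k : ℕ} (hi : i < D.rank) (hk : k < D.rank) (h : D.simple i = D.simple k) :
    i = k := by
  have h1 := tc.simple_cor i hi i hi
  rw [h, tc.simple_cor k hk i hi, if_pos rfl] at h1
  by_contra hne
  rw [if_neg hne] at h1
  exact zero_ne_one h1


/-! ### Commuting root subgroups of fundamental roots -/

/-- The check of a simply laced diagram at a pair of nodes. -/
def slAt (D : ChevalleyDatum) (i k : ℕ) : Bool :=
  decide (i = k) || decide (D.commTerms (D.simple i) (D.simple k) = []) ||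
    (List.range D.nroots).any fun r => decide (D.commTerms (D.simple i) (D.simple k) = [(r, 1, 1, 1)]) ||
      decide (D.commTerms (D.simple i) (D.simple k) = [(r, -1, 1, 1)])

/-- The certificate of a simply laced diagram: the commutator formula for two different fundamental roots is empty or
has one term with coefficient `±1`. -/
def SLCert (D : ChevalleyDatum) : Prop :=
  ∀ i < D.rank, ∀ k < D.rank, slAt D i k = true

instance (D : ChevalleyDatum) : Decidable (SLCert D) := by
  unfold SLCert
  infer_instance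

theorem SLCert.at (hsl : SLCert D) {i k : ℕ} (hi : i < D.rank) (hk : k < D.rank) (hik : i ≠ k) :
    D.commTerms (D.simple i) (D.simple k) = [] ∨
      ∃ r < D.nroots, D.commTerms (D.simple i) (D.simple k) = [(r, 1, 1, 1)] ∨
        D.commTerms (D.simple i) (D.simple k) = [(r, -1, 1, 1)] := by
  have := hsl i hi k hk
  unfold slAt at this
  simp only [Bool.or_eq_true, decide_eq_true_eq, List.any_eq_true, List.mem_range] at this
  rcases this with (h | h) | ⟨r, hr, h⟩
  · exact absurd h hik
  · exact Or.inl h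
  · exact Or.inr ⟨r, hr, h⟩

theorem simple_ne (c : DCert D Ns) (tc : TCert D) (ac : ACert D wl ws sc) {i k : ℕ} (hi : i < D.rank)
    (hk : k < D.rank) (hik : i ≠ k) :
    D.simple k ≠ D.simple i ∧ D.simple k ≠ D.neg (D.simple i) := by
  constructor
  · intro h
    exact hik (simple_inj tc hi hk h.symm)
  · intro h
    have h1 := (ac.simple k hk).2.1
    rw [h] at h1
    exact ac.not_pos_and_neg _ h1 (neg_isNeg c tc ac _ (ac.simple i hi).2.1)

theorem comm_of_commTerms_nil (c : DCert D Ns) {r s : ℕ} (h : R2At D F r s) (he : D.commTerms r s = []) :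
    Comm c F r s := by
  intro t u
  apply Units.ext
  rw [Units.val_mul, Units.val_mul, xGL_coe, xGL_coe]
  have := h t u
  unfold ChevalleyDatum.commWord at this
  rw [he] at this
  simp only [List.map_nil, ChevalleyDatum.wordMat, List.prod_nil, mul_one] at this
  exact this.symm

theorem not_comm_of_commTerms_single (c : DCert D Ns) (tc : TCert D) (ac : ACert D wl ws sc) {r s k : ℕ}
    (hk : k < D.nroots) {C : ℤ} (hC : C = 1 ∨ C = -1)
    (h : R2At D F r s) (he : D.commTerms r s = [(k, C, 1, 1)]) : ¬ Comm c F r s := by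
  intro hcomm
  have h1 := h 1 1
  unfold ChevalleyDatum.commWord at h1
  rw [he] at h1
  simp only [List.map_cons, List.map_nil, ChevalleyDatum.wordMat, List.prod_cons, List.prod_nil, mul_one,
    pow_one] at h1
  have h2 : xGL c s (1 : F) * xGL c r 1 = xGL c r 1 * xGL c s 1 * xGL c k ((C : F) * -1) := by
    apply Units.ext
    simp only [Units.val_mul, xGL_coe]
    exact h1
  rw [← hcomm 1 1] at h2
  have h3 : xGL c k ((C : F) * -1) = xGL c k 0 := by
    rw [xGL_zero]
    exact (mul_eq_left (a := xGL c r (1 : F) * xGL c s 1)).mp h2.symm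
  have h4 := xGL_param_inj c tc ac k hk _ _ (congrArg (fun g : GL D.Idx F => (g : Matrix D.Idx D.Idx F)) h3)
  rcases hC with rfl | rfl
  · simp at h4
  · simp at h4

/-- The elements of the root subgroups of two different fundamental roots commute if and only if the commutator
formula is empty. -/
theorem comm_simple_iff (c : DCert D Ns) (tc : TCert D) (ac : ACert D wl ws sc) (hR2 : R2All D F)
    (hsl : SLCert D) {i k : ℕ} (hi : i < D.rank) (hk : k < D.rank) (hik : i ≠ k) :
    Comm c F (D.simple i) (D.simple k) ↔ D.commTerms (D.simple i) (D.simple k) = [] := by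
  obtain ⟨hne1, hne2⟩ := simple_ne c tc ac hi hk hik
  have hR := hR2 _ _ (ac.simple i hi).1 (ac.simple k hk).1 hne1 hne2
  constructor
  · intro hcomm
    rcases hsl.at hi hk hik with h | ⟨r, hr, h | h⟩
    · exact h
    · exact absurd hcomm (not_comm_of_commTerms_single c tc ac hr (Or.inl rfl) hR h)
    · exact absurd hcomm (not_comm_of_commTerms_single c tc ac hr (Or.inr rfl) hR h)
  · intro h
    exact comm_of_commTerms_nil c hR h

/-- The commutator formula for `p_i` and `-p_k`, `i ≠ k`, is empty. -/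
theorem commTerms_simple_neg_simple (c : DCert D Ns) (tc : TCert D) (ac : ACert D wl ws sc) {i k : ℕ}
    (hi : i < D.rank) (hk : k < D.rank) (hik : i ≠ k) :
    D.commTerms (D.simple i) (D.neg (D.simple k)) = [] := by
  rw [List.eq_nil_iff_forall_not_mem]
  intro t ht
  have hpi := (ac.simple i hi).1
  have hpk := (ac.simple k hk).1
  have hnk := DCert.neg_lt c _ hpk
  obtain ⟨ht1, ha, hb, hvi⟩ := commTerms_grading c.rows ac.in_range (isGrading_w c tc (ws.getD i [])) _ _ hpi hnk t ht
  obtain ⟨-, -, -, hvk⟩ := commTerms_grading c.rows ac.in_range (isGrading_w c tc (ws.getD k [])) _ _ hpi hnk t ht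
  rw [grRoot_neg c tc _ _ hpk] at hvi hvk
  have e1 : grRoot D (ws.getD i []) (D.simple i) = sc := by
    have := ac.cf_simple i hi i hi
    rwa [if_pos rfl] at this
  have e2 : grRoot D (ws.getD i []) (D.simple k) = 0 := by
    have := ac.cf_simple k hk i hi
    rwa [if_neg hik] at this
  have e3 : grRoot D (ws.getD k []) (D.simple i) = 0 := by
    have := ac.cf_simple i hi k hk
    rwa [if_neg (Ne.symm hik)] at this
  have e4 : grRoot D (ws.getD k []) (D.simple k) = sc := by
    have := ac.cf_simple k hk k hk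
    rwa [if_pos rfl] at this
  rw [e1, e2] at hvi
  rw [e3, e4] at hvk
  have hsc := ac.sc_pos
  have ha' : (1 : ℤ) ≤ (t.2.2.1 : ℤ) := by exact_mod_cast ha
  have hb' : (1 : ℤ) ≤ (t.2.2.2 : ℤ) := by exact_mod_cast hb
  have hposi : 0 < cf D ws i t.1 := by
    unfold cf
    rw [hvi]
    nlinarith
  have hnegk : cf D ws k t.1 < 0 := by
    unfold cf
    rw [hvk]
    nlinarith
  rcases ac.posOrNeg _ ht1 with hp | hn
  · have := (ac.pos_iff _ ht1).mp hp k hk
    omega
  · have := (ac.neg_iff _ ht1).mp hn i hi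
    omega

theorem comm_simple_neg_simple (c : DCert D Ns) (tc : TCert D) (ac : ACert D wl ws sc) (hR2 : R2All D F)
    {i k : ℕ} (hi : i < D.rank) (hk : k < D.rank) (hik : i ≠ k) :
    Comm c F (D.simple i) (D.neg (D.simple k)) := by
  have hpi := ac.simple i hi
  have hpk := ac.simple k hk
  have hnk := DCert.neg_lt c _ hpk.1
  apply comm_of_commTerms_nil c _ (commTerms_simple_neg_simple c tc ac hi hk hik)
  apply hR2 _ _ hpi.1 hnk
  · intro h
    have h1 := neg_isNeg c tc ac _ hpk.2.1
    rw [h] at h1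
    exact ac.not_pos_and_neg _ hpi.2.1 h1
  · intro h
    have h2 := congrArg D.neg h
    rw [neg_neg_root c tc ac _ hpk.1, neg_neg_root c tc ac _ hpi.1] at h2
    exact hik (simple_inj tc hi hk h2.symm)

/-- The root subgroups of `p_i` and `-p_i` do not commute. -/
theorem not_comm_simple_neg (c : DCert D Ns) (tc : TCert D) (ac : ACert D wl ws sc) {i : ℕ} (hi : i < D.rank) :
    ¬ Comm c F (D.simple i) (D.neg (D.simple i)) := by
  intro hcomm
  have hp := ac.simple i hi
  obtain ⟨-, a, ha, e⟩ := actsAs_nGL (F := F) c i hi (D.simple i) hp.1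
  have hrefl : D.reflectRoot i (D.simple i) = D.neg (D.simple i) := by
    unfold ChevalleyDatum.reflectRoot
    simp
  rw [hrefl] at e
  have hn : (nGL c i : GL D.Idx F) =
      xGL c (D.simple i) 1 * (xGL c (D.neg (D.simple i)) (-1) * xGL c (D.simple i) 1) := by
    unfold nGL ChevalleyDatum.nWord
    rw [wordGL_cons, wordGL_cons, wordGL_cons, wordGL_nil, mul_one]
    simp
  have hc1 : ∀ t : F, xGL c (D.simple i) t * xGL c (D.simple i) 1 = xGL c (D.simple i) 1 * xGL c (D.simple i) t := by
    intro t
    rw [xGL_mul, xGL_mul, add_comm]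
  have h1 : (nGL c i : GL D.Idx F) * xGL c (D.simple i) 1 = xGL c (D.simple i) 1 * nGL c i := by
    rw [hn]
    have := hcomm 1 (-1)
    calc xGL c (D.simple i) (1 : F) * (xGL c (D.neg (D.simple i)) (-1) * xGL c (D.simple i) 1) * xGL c (D.simple i) 1
        = xGL c (D.simple i) 1 * (xGL c (D.simple i) 1 * xGL c (D.neg (D.simple i)) (-1)) * xGL c (D.simple i) 1 := by
          rw [this]
      _ = xGL c (D.simple i) 1 * (xGL c (D.simple i) 1 * (xGL c (D.neg (D.simple i)) (-1) * xGL c (D.simple i) 1)) := by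
          simp only [mul_assoc]
  have h2 : xGL c (D.simple i) (1 : F) = xGL c (D.neg (D.simple i)) (a * 1) := by
    rw [← e 1, h1, mul_inv_cancel_right]
  have h3 := congrArg (fun g : GL D.Idx F => (g : Matrix D.Idx D.Idx F)) h2
  have h4 := root_eq_of_x_eq c tc ac _ _ hp.1 (DCert.neg_lt c _ hp.1) 1 (a * 1) one_ne_zero h3
  have h5 := neg_isNeg c tc ac _ hp.2.1
  rw [h4] at h5
  exact ac.not_pos_and_neg _ hp.2.1 h5


/-! ### Graphs without symmetries -/

/-- The number of walks of length `m` starting at the node `i`. -/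
def walk (adj : ℕ → ℕ → Bool) (n : ℕ) : ℕ → ℕ → ℕ
  | 0, _ => 1
  | m + 1, i => ((List.range n).map fun k => if adj i k then walk adj n m k else 0).sum

theorem list_sum_range (f : ℕ → ℕ) : ∀ n : ℕ, ((List.range n).map f).sum = ∑ k ∈ Finset.range n, f k
  | 0 => by simp
  | n + 1 => by
    rw [Finset.sum_range_succ, List.range_succ, List.map_append, List.sum_append, list_sum_range f n]
    simp

/-- A permutation of the nodes that preserves adjacency preserves the number of walks. -/
theorem walk_perm (adj : ℕ → ℕ → Bool) (n : ℕ) (ρ : ℕ → ℕ) (hρ : ∀ i < n, ρ i < n)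
    (hinj : ∀ i < n, ∀ k < n, ρ i = ρ k → i = k) (hadj : ∀ i < n, ∀ k < n, adj (ρ i) (ρ k) = adj i k) :
    ∀ m, ∀ i < n, walk adj n m (ρ i) = walk adj n m i := by
  have himg : (Finset.range n).image ρ = Finset.range n := by
    apply Finset.eq_of_subset_of_card_le
    · intro x hx
      rw [Finset.mem_image] at hx
      obtain ⟨y, hy, rfl⟩ := hx
      exact Finset.mem_range.mpr (hρ y (Finset.mem_range.mp hy))
    · rw [Finset.card_image_of_injOn]
      intro x hx y hy hxy
      exact hinj x (Finset.mem_range.mp hx) y (Finset.mem_range.mp hy) hxy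
  intro m
  induction m with
  | zero => intro i _; rfl
  | succ m ih =>
    intro i hi
    show ((List.range n).map fun k => if adj (ρ i) k then walk adj n m k else 0).sum =
      ((List.range n).map fun k => if adj i k then walk adj n m k else 0).sum
    rw [list_sum_range, list_sum_range]
    conv_lhs => rw [← himg]
    rw [Finset.sum_image]
    · apply Finset.sum_congr rfl
      intro k hk
      rw [hadj i hi k (Finset.mem_range.mp hk), ih k (Finset.mem_range.mp hk)]
    · intro x hx y hy hxy
      exact hinj x (Finset.mem_range.mp hx) y (Finset.mem_range.mp hy) hxy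

/-- The adjacency of the nodes of the diagram. -/
def adjB (D : ChevalleyDatum) (i k : ℕ) : Bool :=
  decide (i ≠ k) && !decide (D.commTerms (D.simple i) (D.simple k) = [])

/-- The nodes of the diagram are told apart by the numbers of walks of length at most 3. -/
def Rigid (D : ChevalleyDatum) : Prop :=
  ∀ i < D.rank, ∀ k < D.rank, i = k ∨ ∃ m < 4, walk (adjB D) D.rank m i ≠ walk (adjB D) D.rank m k

instance (D : ChevalleyDatum) : Decidable (Rigid D) := by
  unfold Rigid
  infer_instance

/-- A permutation of the nodes of a rigid diagram that preserves adjacency is the identity. -/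
theorem eq_of_rigid (hrig : Rigid D) (ρ : ℕ → ℕ) (hρ : ∀ i < D.rank, ρ i < D.rank)
    (hinj : ∀ i < D.rank, ∀ k < D.rank, ρ i = ρ k → i = k)
    (hadj : ∀ i < D.rank, ∀ k < D.rank, adjB D (ρ i) (ρ k) = adjB D i k) (i : ℕ) (hi : i < D.rank) : ρ i = i := by
  rcases hrig (ρ i) (hρ i hi) i hi with h | ⟨m, -, hm⟩
  · exact h
  · exact absurd (walk_perm (adjB D) D.rank ρ hρ hinj hadj m i hi) hm

/-! ### The fundamental root subgroups are preserved -/

/-- For a simply laced diagram without symmetries, an automorphism that preserves `U` and `V` preserves the root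
subgroups of the fundamental roots. -/
theorem preserves_simple (c : DCert D Ns) (tc : TCert D) (ac : ACert D wl ws sc) (gc : GCert D w d)
    (hdesc : Descent D) (hR2 : R2All D F) (hw : W0Cert D w0) (hws : W0Simple D w0) (hsl : SLCert D)
    (hrig : Rigid D) (θ : MulAut ↥(D.group F))
    (hU : Preserves θ (D.posUnipotent F)) (hV : Preserves θ (D.negUnipotent F)) (i : ℕ) (hi : i < D.rank) :
    Preserves θ (D.rootSubgroup F (D.simple i)) := by
  classical
  have hex := fun (i : ℕ) (hi : i < D.rank) =>
    exists_pos_simple_of_aut c tc ac gc hdesc hR2 hw hws θ hU hV i hi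
  set ρ : ℕ → ℕ := fun i => if hi : i < D.rank then Classical.choose (hex i hi) else i with hρdef
  have hρ1 : ∀ i (hi : i < D.rank), ρ i < D.rank ∧
      Preserves' θ (D.rootSubgroup F (D.simple i)) (D.rootSubgroup F (D.simple (ρ i))) := by
    intro i hi
    have := Classical.choose_spec (hex i hi)
    simp only [hρdef, dif_pos hi]
    exact this
  have hinj : ∀ i < D.rank, ∀ k < D.rank, ρ i = ρ k → i = k := by
    intro i hi k hk hik
    have h1 := (hρ1 i hi).2
    have h2 := (hρ1 k hk).2
    rw [← hik] at h2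
    have := root_eq_of_maps c tc ac θ (ac.simple i hi).1 (ac.simple k hk).1 h1 h2
    exact simple_inj tc hi hk this.symm
  have hadj : ∀ i < D.rank, ∀ k < D.rank, adjB D (ρ i) (ρ k) = adjB D i k := by
    intro i hi k hk
    by_cases hik : i = k
    · subst hik
      unfold adjB
      simp
    · have hne : ρ i ≠ ρ k := fun h => hik (hinj i hi k hk h)
      have h1 := comm_simple_iff c tc ac hR2 hsl hi hk hik
      have h2 := comm_simple_iff c tc ac hR2 hsl (hρ1 i hi).1 (hρ1 k hk).1 hne
      have h3 := comm_iff_of_maps c θ (hρ1 i hi).2 (hρ1 k hk).2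
      unfold adjB
      rw [decide_eq_true hik, decide_eq_true hne, Bool.true_and, Bool.true_and]
      congr 1
      rw [decide_eq_decide, ← h1, ← h2, h3]
  have hid := eq_of_rigid hrig ρ (fun i hi => (hρ1 i hi).1) hinj hadj i hi
  have := (hρ1 i hi).2
  rw [hid] at this
  exact this

/-- For a simply laced diagram without symmetries, an automorphism that preserves `U` and `V` preserves the root
subgroups of the negatives of the fundamental roots. -/
theorem preserves_neg_simple (c : DCert D Ns) (tc : TCert D) (ac : ACert D wl ws sc) (gc : GCert D w d)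
    (hdesc : Descent D) (hR2 : R2All D F) (hw : W0Cert D w0) (hws : W0Simple D w0) (hsl : SLCert D)
    (hrig : Rigid D) (θ : MulAut ↥(D.group F))
    (hU : Preserves θ (D.posUnipotent F)) (hV : Preserves θ (D.negUnipotent F)) (i : ℕ) (hi : i < D.rank) :
    Preserves θ (D.rootSubgroup F (D.neg (D.simple i))) := by
  obtain ⟨j, hj, hP⟩ := exists_neg_simple_of_aut c tc ac gc hdesc hR2 θ hU hV i hi
  by_cases hji : j = i
  · rw [hji] at hP
    exact hP
  · exfalso
    have h1 := comm_simple_neg_simple c tc ac hR2 hj hi hji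
    have h2 : Preserves' θ (D.rootSubgroup F (D.simple j)) (D.rootSubgroup F (D.simple j)) :=
      preserves_simple c tc ac gc hdesc hR2 hw hws hsl hrig θ hU hV j hj
    exact not_comm_simple_neg c tc ac hj (comm_of_maps c θ h2 hP h1)

end Cfsg.Agent.Lib.Helper18_ChevAutC
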