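import Cfsg.Agent.Lib.Helper18_ChevAutC

set_option autoImplicit false

/-!
Automorphisms of the Chevalley groups over finite fields, fourth part: an automorphism preserving the root subgroups of
the fundamental roots acts on them through an automorphism of the field, up to scalars.
-/

namespace Cfsg.Agent.Lib.Helper18_ChevAutD

open Cfsg Cfsg.Lie Cfsg.Agent.Lib.Helper18_ChevFast Cfsg.Agent.Lib.Helper18_ChevEngine
  Cfsg.Agent.Lib.Helper18_ChevR1 Cfsg.Agent.Lib.Helper18_ChevN Cfsg.Agent.Lib.Helper18_ChevR4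
  Cfsg.Agent.Lib.Helper18_ChevSimple Cfsg.Agent.Lib.Helper18_ChevSimple2 Cfsg.Agent.Lib.Helper18_ChevFacts
  Cfsg.Agent.Lib.Helper18_ChevWeyl Cfsg.Agent.Lib.Helper18_ChevDiag Cfsg.Agent.Lib.Helper18_ChevCar
  Cfsg.Agent.Lib.Helper18_ChevTorus Cfsg.Agent.Lib.Helper18_ChevGL Cfsg.Agent.Lib.Helper18_ChevComm
  Cfsg.Agent.Lib.Helper18_ChevComm2 Cfsg.Agent.Lib.Helper18_MatTri Cfsg.Agent.Lib.Helper18_ChevTri
  Cfsg.Agent.Lib.Helper18_ChevBorel Cfsg.Agent.Lib.Helper18_ChevAdd Cfsg.Agent.Lib.Helper18_ChevUni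
  Cfsg.Agent.Lib.Helper18_ChevBN Cfsg.Agent.Lib.Helper18_ChevMono Cfsg.Agent.Lib.Helper18_ChevBNPair
  Cfsg.Agent.Lib.Helper18_ChevSimp Cfsg.Agent.Lib.Helper18_ChevJCerts Cfsg.Agent.Lib.Helper18_ChevLevi
  Cfsg.Agent.Lib.Helper18_ChevBruhat Cfsg.Agent.Lib.Helper18_ChevPar Cfsg.Agent.Lib.Helper18_ChevRootHom
  Cfsg.Agent.Lib.Helper18_ChevOrder Cfsg.Agent.Lib.Helper18_ChevSylow Cfsg.Agent.Lib.Helper18_ChevCent
  Cfsg.Agent.Lib.Helper18_ChevFrob Cfsg.Agent.Lib.Helper18_ChevAutA Cfsg.Agent.Lib.Helper18_ChevAutB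
  Cfsg.Agent.Lib.Helper18_ChevAutC

variable {D : ChevalleyDatum} {Ns : List NData} {F : Type*} [Field F]
variable {wl : List ℤ} {ws : List (List ℤ)} {sc : ℤ} {w : List ℤ} {d : ℕ} {w0 : List ℕ}

/-! ### The action on a preserved root subgroup -/

theorem xG_mul (c : DCert D Ns) (r : ℕ) (t u : F) : xG c r t * xG c r u = xG c r (t + u) :=
  Subtype.ext (xGL_mul c r t u)

theorem xG_inj (c : DCert D Ns) (tc : TCert D) (ac : ACert D wl ws sc) {r : ℕ} (hr : r < D.nroots) {t u : F}
    (h : xG c r t = xG c r u) : t = u := by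
  have h1 := congrArg (fun g : ↥(D.group F) => ((g : GL D.Idx F) : Matrix D.Idx D.Idx F)) h
  exact xGL_param_inj c tc ac r hr t u h1

/-- An automorphism that preserves the root subgroup `X_r` acts on it by an additive bijection of the field. -/
theorem exists_paramFun (c : DCert D Ns) (tc : TCert D) (ac : ACert D wl ws sc) (θ : MulAut ↥(D.group F)) {r : ℕ}
    (hr : r < D.nroots) (h : Preserves θ (D.rootSubgroup F r)) :
    ∃ f : F → F, (∀ t, θ (xG c r t) = xG c r (f t)) ∧ (∀ t u, f (t + u) = f t + f u) ∧ Function.Bijective f := by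
  have hex : ∀ t : F, ∃ u : F, θ (xG c r t) = xG c r u := by
    intro t
    obtain ⟨u, hu⟩ := exists_param c θ (r := r) (s := r) h t
    exact ⟨u, Subtype.ext hu⟩
  choose f hf using hex
  refine ⟨f, hf, ?_, ?_, ?_⟩
  · intro t u
    apply xG_inj c tc ac hr
    rw [← hf, ← xG_mul, map_mul, hf, hf, xG_mul]
  · intro t u htu
    apply xG_inj c tc ac hr
    apply θ.injective
    rw [hf, hf, htu]
  · intro u
    obtain ⟨t, ht⟩ := exists_param_inv c θ (r := r) (s := r) h u
    refine ⟨t, ?_⟩
    apply xG_inj c tc ac hr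
    rw [← hf, ht]

/-- The relation between the actions on the root subgroups of two joined fundamental roots. -/
theorem adj_relation (c : DCert D Ns) (tc : TCert D) (ac : ACert D wl ws sc) (θ : MulAut ↥(D.group F))
    {r s q : ℕ} (hq : q < D.nroots) {C : ℤ} (hC : C = 1 ∨ C = -1) (hR : R2At D F r s)
    (he : D.commTerms r s = [(q, C, 1, 1)]) (f g : F → F) (hf : ∀ t, θ (xG c r t) = xG c r (f t))
    (hg : ∀ t, θ (xG c s t) = xG c s (g t)) (t u : F) :
    f (t * u) * g 1 = f t * g u ∧ f t * g u = f 1 * g (t * u) := by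
  have hrel : ∀ t u : F, xG c s u * xG c r t = xG c r t * xG c s u * xG c q ((C : F) * -t * u) := by
    intro t u
    apply Subtype.ext
    apply Units.ext
    have h1 := hR t u
    unfold ChevalleyDatum.commWord at h1
    rw [he] at h1
    simp only [List.map_cons, List.map_nil, ChevalleyDatum.wordMat, List.prod_cons, List.prod_nil, mul_one,
      pow_one] at h1
    exact h1
  have key : ∀ t u : F, θ (xG c q ((C : F) * -t * u)) = xG c q ((C : F) * -(f t) * g u) := by
    intro t u
    have h1 := congrArg θ (hrel t u)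
    rw [map_mul, map_mul, map_mul, hf, hg, hrel (f t) (g u)] at h1
    exact (mul_left_cancel h1).symm
  have hCne : (C : F) ≠ 0 := by
    rcases hC with rfl | rfl <;> simp
  have k1 := key (t * u) 1
  have k2 := key t u
  have k3 := key 1 (t * u)
  have e1 : (C : F) * -(t * u) * 1 = (C : F) * -t * u := by ring
  have e3 : (C : F) * -1 * (t * u) = (C : F) * -t * u := by ring
  rw [e1, k2] at k1
  rw [e3, k2] at k3
  have h1 := xG_inj c tc ac hq k1
  have h3 := xG_inj c tc ac hq k3
  constructor
  · have : (C : F) * (f (t * u) * g 1) = (C : F) * (f t * g u) := by linear_combination h1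
    exact mul_left_cancel₀ hCne this
  · have : (C : F) * (f t * g u) = (C : F) * (f 1 * g (t * u)) := by linear_combination -h3
    exact mul_left_cancel₀ hCne this

/-! ### An automorphism of the field from a family of additive maps -/

theorem exists_ringEquiv (n : ℕ) (f : ℕ → F → F) (hadd : ∀ i < n, ∀ t u, f i (t + u) = f i t + f i u)
    (hbij : ∀ i < n, Function.Bijective (f i)) (adj : ℕ → ℕ → Prop)
    (hrel : ∀ i < n, ∀ k < n, adj i k → ∀ t u,
      f i (t * u) * f k 1 = f i t * f k u ∧ f i t * f k u = f i 1 * f k (t * u))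
    (hconn : ∀ P : ℕ → Prop, P 0 → (∀ k < n, ∀ i < n, adj k i → P k → P i) → ∀ i < n, P i)
    (hedge : ∃ i < n, ∃ k < n, adj i k) (h0 : 0 < n) :
    ∃ σ : F ≃+* F, ∀ i < n, ∀ t, f i t = f i 1 * σ t := by
  have hzero : ∀ i < n, f i 0 = 0 := by
    intro i hi
    have := hadd i hi 0 0
    rw [add_zero] at this
    exact left_eq_add.mp this
  have hane : ∀ i < n, f i 1 ≠ 0 := by
    intro i hi h
    rw [← hzero i hi] at h
    exact one_ne_zero ((hbij i hi).1 h)
  have heq : ∀ i < n, ∀ k < n, adj i k → ∀ t, f i t / f i 1 = f k t / f k 1 := by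
    intro i hi k hk hik t
    have := (hrel i hi k hk hik t 1).2
    rw [mul_one] at this
    rw [div_eq_div_iff (hane i hi) (hane k hk), this, mul_comm]
  have hmul : ∀ i < n, ∀ k < n, adj i k → ∀ t u, f i (t * u) / f i 1 = f i t / f i 1 * (f i u / f i 1) := by
    intro i hi k hk hik t u
    rw [heq i hi k hk hik u]
    have h1 := (hrel i hi k hk hik t u).1
    have ha := hane i hi
    have hb := hane k hk
    field_simp
    linear_combination h1
  have hall : ∀ i < n, ∀ t, f i t / f i 1 = f 0 t / f 0 1 := by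
    apply hconn (fun i => ∀ t, f i t / f i 1 = f 0 t / f 0 1)
    · intro t; rfl
    · intro k hk i hi hki h t
      rw [← heq k hk i hi hki t, h t]
  obtain ⟨i, hi, k, hk, hik⟩ := hedge
  have hmul0 : ∀ t u, f 0 (t * u) / f 0 1 = f 0 t / f 0 1 * (f 0 u / f 0 1) := by
    intro t u
    rw [← hall i hi, ← hall i hi, ← hall i hi]
    exact hmul i hi k hk hik t u
  let s : F →+* F :=
    { toFun := fun t => f 0 t / f 0 1
      map_one' := div_self (hane 0 h0)
      map_mul' := hmul0
      map_zero' := by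
        show f 0 0 / f 0 1 = 0
        rw [hzero 0 h0, zero_div]
      map_add' := by
        intro t u
        show f 0 (t + u) / f 0 1 = f 0 t / f 0 1 + f 0 u / f 0 1
        rw [hadd 0 h0, add_div] }
  have hsbij : Function.Bijective s := by
    constructor
    · exact s.injective
    · intro y
      obtain ⟨t, ht⟩ := (hbij 0 h0).2 (y * f 0 1)
      refine ⟨t, ?_⟩
      show f 0 t / f 0 1 = y
      rw [ht, mul_div_assoc, div_self (hane 0 h0), mul_one]
  refine ⟨RingEquiv.ofBijective s hsbij, fun i hi t => ?_⟩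
  show f i t = f i 1 * (f 0 t / f 0 1)
  rw [← hall i hi t, mul_div_cancel₀ _ (hane i hi)]


/-! ### Connected diagrams -/

/-- The certificate of a connected diagram with at least two nodes: every node other than the first is joined to a
node of smaller depth. -/
def ConnCert (D : ChevalleyDatum) (par dep : List ℕ) : Prop :=
  1 < D.rank ∧ ∀ i < D.rank, i = 0 ∨
    (par.getD i 0 < D.rank ∧ adjB D (par.getD i 0) i = true ∧ dep.getD (par.getD i 0) 0 < dep.getD i 0)

instance (D : ChevalleyDatum) (par dep : List ℕ) : Decidable (ConnCert D par dep) := by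
  unfold ConnCert
  infer_instance

theorem ConnCert.conn {par dep : List ℕ} (h : ConnCert D par dep) (P : ℕ → Prop) (h0 : P 0)
    (hstep : ∀ k < D.rank, ∀ i < D.rank, adjB D k i = true → P k → P i) : ∀ i < D.rank, P i := by
  have key : ∀ (m i : ℕ), i < D.rank → dep.getD i 0 = m → P i := by
    intro m
    induction m using Nat.strong_induction_on with
    | _ m ih =>
      intro i hi hm
      rcases h.2 i hi with rfl | ⟨h1, h2, h3⟩
      · exact h0
      · exact hstep _ h1 i hi h2 (ih _ (by omega) _ h1 rfl)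
  intro i hi
  exact key _ i hi rfl

/-- An automorphism that preserves the root subgroups of the fundamental roots of a simply laced connected diagram
acts on them through an automorphism of the field, up to scalars. -/
theorem exists_field_of_preserves {par dep : List ℕ} (c : DCert D Ns) (tc : TCert D) (ac : ACert D wl ws sc)
    (hR2 : R2All D F) (hsl : SLCert D) (hconn : ConnCert D par dep) (θ : MulAut ↥(D.group F))
    (hpos : ∀ i < D.rank, Preserves θ (D.rootSubgroup F (D.simple i))) :
    ∃ (σ : F ≃+* F) (a : ℕ → F), (∀ i < D.rank, a i ≠ 0) ∧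
      ∀ i < D.rank, ∀ t, θ (xG c (D.simple i) t) = xG c (D.simple i) (a i * σ t) := by
  have hex : ∀ i, ∃ f : F → F, i < D.rank → (∀ t, θ (xG c (D.simple i) t) = xG c (D.simple i) (f t)) ∧
      (∀ t u, f (t + u) = f t + f u) ∧ Function.Bijective f := by
    intro i
    by_cases hi : i < D.rank
    · obtain ⟨f, hf⟩ := exists_paramFun c tc ac θ (ac.simple i hi).1 (hpos i hi)
      exact ⟨f, fun _ => hf⟩
    · exact ⟨id, fun h => absurd h hi⟩
  choose f hf using hex
  have hrel : ∀ i < D.rank, ∀ k < D.rank, adjB D i k = true → ∀ t u,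
      f i (t * u) * f k 1 = f i t * f k u ∧ f i t * f k u = f i 1 * f k (t * u) := by
    intro i hi k hk hik t u
    unfold adjB at hik
    simp only [Bool.and_eq_true, decide_eq_true_eq, Bool.not_eq_true', decide_eq_false_iff_not] at hik
    obtain ⟨hne, hterms⟩ := hik
    obtain ⟨hne1, hne2⟩ := simple_ne c tc ac hi hk hne
    have hR := hR2 _ _ (ac.simple i hi).1 (ac.simple k hk).1 hne1 hne2
    rcases hsl.at hi hk hne with h | ⟨q, hq, h | h⟩
    · exact absurd h hterms
    · exact adj_relation c tc ac θ hq (Or.inl rfl) hR h (f i) (f k) (hf i hi).1 (hf k hk).1 t u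
    · exact adj_relation c tc ac θ hq (Or.inr rfl) hR h (f i) (f k) (hf i hi).1 (hf k hk).1 t u
  have h0 : 0 < D.rank := by have := hconn.1; omega
  have hedge : ∃ i < D.rank, ∃ k < D.rank, adjB D i k = true := by
    rcases hconn.2 1 hconn.1 with h | ⟨h1, h2, -⟩
    · exact absurd h one_ne_zero
    · exact ⟨_, h1, 1, hconn.1, h2⟩
  obtain ⟨σ, hσ⟩ := exists_ringEquiv D.rank f (fun i hi => (hf i hi).2.1) (fun i hi => (hf i hi).2.2)
    (fun i k => adjB D i k = true) hrel (fun P => hconn.conn P) hedge h0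
  refine ⟨σ, fun i => f i 1, ?_, ?_⟩
  · intro i hi h
    have hz : f i 0 = 0 := by
      have := (hf i hi).2.1 0 0
      rw [add_zero] at this
      exact left_eq_add.mp this
    rw [← hz] at h
    exact one_ne_zero ((hf i hi).2.2.1 h)
  · intro i hi t
    rw [(hf i hi).1 t, hσ i hi t]

end Cfsg.Agent.Lib.Helper18_ChevAutD
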