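import Cfsg.Agent.Lib.Helper18_ChevAutE
import Cfsg.Prelude.Def_KGroupFacts

set_option autoImplicit false

/-!
Automorphisms of the Chevalley groups over finite fields, sixth part: for a simply laced diagram without symmetries
and with unimodular Cartan matrix, every automorphism is the product of an inner and a field automorphism, and the
group of outer automorphisms is the group of automorphisms of the field.
-/

namespace Cfsg.Agent.Lib.Helper18_ChevAutF

open Cfsg Cfsg.Lie Cfsg.Agent.Lib.Helper18_ChevFast Cfsg.Agent.Lib.Helper18_ChevEngine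
  Cfsg.Agent.Lib.Helper18_ChevR1 Cfsg.Agent.Lib.Helper18_ChevN Cfsg.Agent.Lib.Helper18_ChevR4
  Cfsg.Agent.Lib.Helper18_ChevSimple Cfsg.Agent.Lib.Helper18_ChevSimple2 Cfsg.Agent.Lib.Helper18_ChevFacts
  Cfsg.Agent.Lib.Helper18_ChevWeyl Cfsg.Agent.Lib.Helper18_ChevDiag Cfsg.Agent.Lib.Helper18_ChevCar
  Cfsg.Agent.Lib.Helper18_ChevTorus Cfsg.Agent.Lib.Helper18_ChevGL Cfsg.Agent.Lib.Helper18_ChevComm
  Cfsg.Agent.Lib.Helper18_ChevComm2 Cfsg.Agent.Lib.Helper18_MatTri Cfsg.Agent.Lib.Helper18_ChevTri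
  Cfsg.Agent.Lib.Helper18_ChevBorel Cfsg.Agent.Lib.Helper18_ChevAdd Cfsg.Agent.Lib.Helper18_ChevUni
  Cfsg.Agent.Lib.Helper18_ChevBN Cfsg.Agent.Lib.Helper18_ChevMono Cfsg.Agent.Lib.Helper18_ChevBNPair
  Cfsg.Agent.Lib.Helper18_ChevSimp Cfsg.Agent.Lib.Helper18_ChevJCerts Cfsg.Agent.Lib.Helper18_ChevLevi
  Cfsg.Agent.Lib.Helper18_ChevBruhat Cfsg.Agent.Lib.Helper18_ChevPar Cfsg.Agent.Lib.Helper18_ChevRootHom
  Cfsg.Agent.Lib.Helper18_ChevOrder Cfsg.Agent.Lib.Helper18_ChevSylow Cfsg.Agent.Lib.Helper18_ChevCent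
  Cfsg.Agent.Lib.Helper18_ChevFrob Cfsg.Agent.Lib.Helper18_ChevAutA Cfsg.Agent.Lib.Helper18_ChevAutB
  Cfsg.Agent.Lib.Helper18_ChevAutC Cfsg.Agent.Lib.Helper18_ChevAutD Cfsg.Agent.Lib.Helper18_ChevGen
  Cfsg.Agent.Lib.Helper18_ChevField Cfsg.Agent.Lib.Helper18_ChevAutE

variable {D : ChevalleyDatum} {Ns : List NData} {F : Type*} [Field F]
variable {wl : List ℤ} {ws : List (List ℤ)} {sc : ℤ} {w : List ℤ} {d : ℕ} {w0 : List ℕ}

/-- Conjugation by an element acting on each root subgroup by a scalar preserves the root subgroups. -/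
theorem preserves_conj_of_actsAs (c : DCert D Ns) (k : ↥(D.group F)) (hk : ActsAs c (k : GL D.Idx F) id)
    (r : ℕ) (hr : r < D.nroots) : Preserves (MulAut.conj k) (D.rootSubgroup F r) := by
  intro x
  exact mem_rootSubgroup_conj c hk r hr (x : GL D.Idx F)

/-- The data on a Chevalley datum under which every automorphism is the product of an inner and a field
automorphism. -/
structure AutData (D : ChevalleyDatum) (Ns : List NData) (wl : List ℤ) (ws : List (List ℤ)) (sc : ℤ) (w : List ℤ)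
    (d : ℕ) (w0 : List ℕ) (F : Type*) [Field F] : Prop where
  c : DCert D Ns
  tc : TCert D
  ac : ACert D wl ws sc
  gc : GCert D w d
  hdesc : Descent D
  hR2 : R2All D F
  hw : W0Cert D w0
  hws : W0Simple D w0
  hsl : SLCert D
  hrig : Rigid D

/-- For a simply laced diagram without symmetries and with unimodular Cartan matrix, every automorphism is the
product of an inner automorphism and a field automorphism. -/
theorem exists_inner_mul_field [Fintype F] (p : ℕ) [Fact p.Prime] [CharP F p]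
    (A : AutData D Ns wl ws sc w d w0 F) {parC depC : List ℕ} (hconn : ConnCert D parC depC)
    {b0 : ℕ} {hasLong : Bool} {c0 a0 b1 : ℕ} {C : ℤ} {par : List (ℕ × ℕ)} {dep comp : List ℕ}
    (oc : OCert D b0 hasLong c0 a0 b1 C par dep comp) (hcomp : ∀ r < D.nroots, comp.getD r 2 = 0)
    (B : List (List ℤ)) (hB : InvCartanL D B) (θ : MulAut ↥(D.group F)) :
    ∃ (g : ↥(D.group F)) (σ : F ≃+* F), θ = MulAut.conj g * fieldAutOf A.c σ := by
  obtain ⟨c, tc, ac, gc, hdesc, hR2, hw, hws, hsl, hrig⟩ := A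
  have h0 : 0 < D.rank := by have := hconn.1; omega
  obtain ⟨a, hU₁⟩ := exists_conj_preserves_pos p c tc ac gc hdesc hR2 θ
  obtain ⟨b, -, hU₂, hV₂⟩ := exists_conj_preserves_neg c tc ac gc hdesc hR2 hw (MulAut.conj a * θ) hU₁
  set θ₂ := MulAut.conj b * (MulAut.conj a * θ) with hθ₂
  have hpos := fun i hi => preserves_simple c tc ac gc hdesc hR2 hw hws hsl hrig θ₂ hU₂ hV₂ i hi
  have hneg := fun i hi => preserves_neg_simple c tc ac gc hdesc hR2 hw hws hsl hrig θ₂ hU₂ hV₂ i hi
  obtain ⟨σ, a', ha', hσ⟩ := exists_field_of_preserves c tc ac hR2 hsl hconn θ₂ hpos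
  obtain ⟨h, hh, hconj⟩ := exists_diagonal_of_scalars c tc ac B hB a' ha'
  set hG : ↥(D.group F) := ⟨h, diagonal_le_group c hh⟩ with hhG
  set φ := fieldAutOf c σ with hφ
  set θ₃ := MulAut.conj hG⁻¹ * θ₂ * φ⁻¹ with hθ₃
  have hφinv : ∀ (r : ℕ) (t : F), φ⁻¹ (xG c r t) = xG c r ((σ⁻¹ : RingAut F) t) := by
    intro r t
    rw [MulAut.inv_apply, MulEquiv.symm_apply_eq, hφ, fieldAutOf_xG]
    congr 1
    exact (RingEquiv.apply_symm_apply σ t).symm
  have hfixpos : ∀ i < D.rank, ∀ t : F, θ₃ (xG c (D.simple i) t) = xG c (D.simple i) t := by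
    intro i hi t
    rw [hθ₃, MulAut.mul_apply, MulAut.mul_apply, hφinv, hσ i hi]
    have e1 : σ ((σ⁻¹ : RingAut F) t) = t := RingEquiv.apply_symm_apply σ t
    rw [e1]
    apply Subtype.ext
    show (h⁻¹ : GL D.Idx F) * xGL c (D.simple i) (a' i * t) * (h⁻¹)⁻¹ = xGL c (D.simple i) t
    rw [← hconj i hi t]
    group
  have hdiagact : ActsAs c ((hG⁻¹ : ↥(D.group F)) : GL D.Idx F) id :=
    actsAs_diagonal c tc _ (Subgroup.inv_mem _ hh)
  have hnegpres : ∀ i < D.rank, Preserves θ₃ (D.rootSubgroup F (D.neg (D.simple i))) := by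
    intro i hi
    have hq := DCert.neg_lt c _ (ac.simple i hi).1
    exact ((preserves_conj_of_actsAs c hG⁻¹ hdiagact _ hq).mul (hneg i hi)).mul
      (fieldAutOf_preserves c σ _).inv
  have hone : θ₃ = 1 := by
    apply eq_one_of_fix oc c ac hcomp h0
    intro i hi t
    exact ⟨hfixpos i hi t, fix_neg_of_fix_pos c tc ac gc θ₃ i hi (hfixpos i hi) (hnegpres i hi) t⟩
  refine ⟨a⁻¹ * b⁻¹ * hG, σ, ?_⟩
  have e1 : θ₂ = MulAut.conj hG * φ := by
    have : MulAut.conj hG * θ₃ * φ = MulAut.conj hG * φ := by rw [hone, mul_one]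
    rw [← this, hθ₃, map_inv]
    group
  rw [map_mul, map_mul, map_inv, map_inv]
  rw [hθ₂] at e1
  rw [mul_assoc, mul_assoc, ← e1]
  group


/-- A field automorphism of the group that is inner is trivial. -/
theorem eq_one_of_fieldAutOf_eq_conj (A : AutData D Ns wl ws sc w d w0 F) (h0 : 0 < D.rank) (σ : F ≃+* F)
    (g : ↥(D.group F)) (h : fieldAutOf A.c σ = MulAut.conj g) : σ = 1 := by
  obtain ⟨c, tc, ac, gc, hdesc, hR2, hw, hws, hsl, hrig⟩ := A
  have hg1 : (g : GL D.Idx F) = 1 := by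
    apply eq_one_of_commute c tc ac gc hdesc hR2 hw (σ : F →+* F) _ g.2
    intro r t ht
    have h1 := congrArg (fun φ : MulAut ↥(D.group F) => ((φ (xG c r t) : ↥(D.group F)) : GL D.Idx F)) h
    simp only [fieldAutOf_coe, xG_coe, mapGL_xGL] at h1
    have ht' : (σ : F →+* F) t = t := ht
    rw [ht'] at h1
    have h2 : xGL c r t = (g : GL D.Idx F) * xGL c r t * (g : GL D.Idx F)⁻¹ := h1
    calc (g : GL D.Idx F) * xGL c r t = ((g : GL D.Idx F) * xGL c r t * (g : GL D.Idx F)⁻¹) * g := by group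
      _ = xGL c r t * g := by rw [← h2]
  have hg : g = 1 := Subtype.ext hg1
  rw [hg, map_one] at h
  ext t
  have hp := (ac.simple 0 h0).1
  have h1 := congrArg (fun φ : MulAut ↥(D.group F) => φ (xG c (D.simple 0) t)) h
  simp only [fieldAutOf_xG, MulAut.one_apply] at h1
  exact xG_inj c tc ac hp h1

/-- For a simply laced diagram without symmetries and with unimodular Cartan matrix, the group of outer
automorphisms has the cardinality of the group of automorphisms of the field. -/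
theorem card_out [Fintype F] (p : ℕ) [Fact p.Prime] [CharP F p]
    (A : AutData D Ns wl ws sc w d w0 F) {parC depC : List ℕ} (hconn : ConnCert D parC depC)
    {b0 : ℕ} {hasLong : Bool} {c0 a0 b1 : ℕ} {C : ℤ} {par : List (ℕ × ℕ)} {dep comp : List ℕ}
    (oc : OCert D b0 hasLong c0 a0 b1 C par dep comp) (hcomp : ∀ r < D.nroots, comp.getD r 2 = 0)
    (B : List (List ℤ)) (hB : InvCartanL D B) :
    Nat.card (Cfsg.Out ↥(D.group F)) = Nat.card (RingAut F) := by
  have h0 : 0 < D.rank := by have := hconn.1; omega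
  let Ψ : RingAut F →* Cfsg.Out ↥(D.group F) :=
    (QuotientGroup.mk' (Cfsg.Inn ↥(D.group F))).comp (fieldAutHom A.c)
  have hinj : Function.Injective Ψ := by
    rw [injective_iff_map_eq_one]
    intro σ hσ
    have h1 : fieldAutOf A.c σ ∈ Cfsg.Inn ↥(D.group F) := (QuotientGroup.eq_one_iff _).mp hσ
    obtain ⟨g, hg⟩ := h1
    exact eq_one_of_fieldAutOf_eq_conj A h0 σ g hg.symm
  have hsurj : Function.Surjective Ψ := by
    intro x
    obtain ⟨θ, rfl⟩ := QuotientGroup.mk_surjective x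
    obtain ⟨g, σ, hθ⟩ := exists_inner_mul_field p A hconn oc hcomp B hB θ
    refine ⟨σ, ?_⟩
    show (QuotientGroup.mk (fieldAutOf A.c σ) : Cfsg.Out ↥(D.group F)) = QuotientGroup.mk θ
    rw [hθ, QuotientGroup.mk_mul]
    have : (QuotientGroup.mk (MulAut.conj g) : Cfsg.Out ↥(D.group F)) = 1 :=
      (QuotientGroup.eq_one_iff _).mpr ⟨g, rfl⟩
    rw [this, one_mul]
  exact (Nat.card_congr (Equiv.ofBijective Ψ ⟨hinj, hsurj⟩)).symm

/-- The group of automorphisms of a field with `p ^ f` elements has `f` elements. -/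
theorem card_ringAut_eq [Fintype F] (p f : ℕ) [Fact p.Prime] [CharP F p] (hF : Fintype.card F = p ^ f) :
    Nat.card (RingAut F) = f := by
  let _ : Algebra (ZMod p) F := ZMod.algebra F p
  have hfin : Module.finrank (ZMod p) F = f := by
    have h1 : Fintype.card F = p ^ Module.finrank (ZMod p) F := by
      rw [Module.card_eq_pow_finrank (K := ZMod p) (V := F), ZMod.card]
    exact Nat.pow_right_injective (Fact.out : p.Prime).one_lt (h1.symm.trans hF)
  let e1 : RingAut F ≃ (F ≃ₐ[ZMod p] F) :=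
    { toFun := fun σ => AlgEquiv.ofRingEquiv (f := σ) (fun x =>
        RingHom.congr_fun (Subsingleton.elim ((σ : F →+* F).comp (algebraMap (ZMod p) F))
          (algebraMap (ZMod p) F)) x)
      invFun := fun τ => τ.toRingEquiv
      left_inv := fun σ => by ext; rfl
      right_inv := fun τ => by ext; rfl }
  rw [Nat.card_congr e1, IsGalois.card_aut_eq_finrank, hfin]

end Cfsg.Agent.Lib.Helper18_ChevAutF
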