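import Cfsg.Agent.Lib.Helper18_ChevAutF

set_option autoImplicit false

/-!
Automorphisms of the Chevalley groups over finite fields, seventh part: diagonal automorphisms, given by the
characters of the root lattice.
-/

namespace Cfsg.Agent.Lib.Helper18_ChevAutG

open Cfsg Cfsg.Lie Cfsg.Agent.Lib.Helper18_ChevFast Cfsg.Agent.Lib.Helper18_ChevEngine
  Cfsg.Agent.Lib.Helper18_ChevR1 Cfsg.Agent.Lib.Helper18_ChevN Cfsg.Agent.Lib.Helper18_ChevR4
  Cfsg.Agent.Lib.Helper18_ChevSimple Cfsg.Agent.Lib.Helper18_ChevSimple2 Cfsg.Agent.Lib.Helper18_ChevFacts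
  Cfsg.Agent.Lib.Helper18_ChevWeyl Cfsg.Agent.Lib.Helper18_ChevDiag Cfsg.Agent.Lib.Helper18_ChevCar
  Cfsg.Agent.Lib.Helper18_ChevTorus Cfsg.Agent.Lib.Helper18_ChevGL Cfsg.Agent.Lib.Helper18_ChevComm
  Cfsg.Agent.Lib.Helper18_ChevComm2 Cfsg.Agent.Lib.Helper18_MatTri Cfsg.Agent.Lib.Helper18_ChevTri
  Cfsg.Agent.Lib.Helper18_ChevBorel Cfsg.Agent.Lib.Helper18_ChevAdd Cfsg.Agent.Lib.Helper18_ChevUni
  Cfsg.Agent.Lib.Helper18_ChevBN Cfsg.Agent.Lib.Helper18_ChevMono Cfsg.Agent.Lib.Helper18_ChevBNPair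
  Cfsg.Agent.Lib.Helper18_ChevSimp Cfsg.Agent.Lib.Helper18_ChevJCerts Cfsg.Agent.Lib.Helper18_ChevLevi
  Cfsg.Agent.Lib.Helper18_ChevBruhat Cfsg.Agent.Lib.Helper18_ChevPar Cfsg.Agent.Lib.Helper18_ChevRootHom
  Cfsg.Agent.Lib.Helper18_ChevOrder Cfsg.Agent.Lib.Helper18_ChevSylow Cfsg.Agent.Lib.Helper18_ChevCent
  Cfsg.Agent.Lib.Helper18_ChevFrob Cfsg.Agent.Lib.Helper18_ChevAutA Cfsg.Agent.Lib.Helper18_ChevAutB
  Cfsg.Agent.Lib.Helper18_ChevAutC Cfsg.Agent.Lib.Helper18_ChevAutD Cfsg.Agent.Lib.Helper18_ChevGen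
  Cfsg.Agent.Lib.Helper18_ChevField Cfsg.Agent.Lib.Helper18_ChevAutE Cfsg.Agent.Lib.Helper18_ChevAutF

variable {D : ChevalleyDatum} {Ns : List NData} {F : Type*} [Field F]
variable {wl : List ℤ} {ws : List (List ℤ)} {sc : ℤ} {w : List ℤ} {d : ℕ} {w0 : List ℕ}

/-! ### The coefficients of the roots on the fundamental roots -/

/-- The certificate that the scaled coefficients of the roots are divisible by the scale. -/
def DivCert (D : ChevalleyDatum) (ws : List (List ℤ)) (sc : ℤ) : Prop :=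
  ∀ r < D.nroots, ∀ j < D.rank, sc ∣ grL D (ws.getD j []) r

instance (D : ChevalleyDatum) (ws : List (List ℤ)) (sc : ℤ) : Decidable (DivCert D ws sc) := by
  unfold DivCert
  infer_instance

/-- The coefficient of the root `r` on the fundamental root `j`. -/
def coef (D : ChevalleyDatum) (ws : List (List ℤ)) (sc : ℤ) (j r : ℕ) : ℤ := cf D ws j r / sc

theorem coef_mul (_ac : ACert D wl ws sc) (hdiv : DivCert D ws sc) (j : ℕ) (hj : j < D.rank) (r : ℕ)
    (hr : r < D.nroots) : sc * coef D ws sc j r = cf D ws j r := by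
  unfold coef
  have := hdiv r hr j hj
  rw [grL_eq] at this
  exact Int.mul_ediv_cancel' this

theorem isGrading_coef (c : DCert D Ns) (tc : TCert D) (ac : ACert D wl ws sc) (hdiv : DivCert D ws sc) (j : ℕ)
    (hj : j < D.rank) : IsGrading D (coef D ws sc j) := by
  have hg := isGrading_w c tc (ws.getD j [])
  have hsc : sc ≠ 0 := ne_of_gt ac.sc_pos
  constructor
  · intro s hs
    apply mul_left_cancel₀ hsc
    have h1 := hg.neg s hs
    have hns : D.negIdx.getD s 0 < D.nroots := DCert.neg_lt c s hs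
    rw [mul_neg, coef_mul ac hdiv j hj _ hns, coef_mul ac hdiv j hj _ hs]
    exact h1
  · intro r s u hr hs hu km hkm
    apply mul_left_cancel₀ hsc
    have h1 := hg.chain r s u hr hs hu km hkm
    rw [mul_add, coef_mul ac hdiv j hj _ hu, coef_mul ac hdiv j hj _ hs,
      show sc * ((km.1 : ℤ) * coef D ws sc j r) = (km.1 : ℤ) * (sc * coef D ws sc j r) by ring,
      coef_mul ac hdiv j hj _ hr]
    exact h1

theorem coef_simple (ac : ACert D wl ws sc) (hdiv : DivCert D ws sc) (i : ℕ) (hi : i < D.rank) (j : ℕ)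
    (hj : j < D.rank) : coef D ws sc j (D.simple i) = if j = i then 1 else 0 := by
  have hsc : sc ≠ 0 := ne_of_gt ac.sc_pos
  apply mul_left_cancel₀ hsc
  rw [coef_mul ac hdiv j hj _ (ac.simple i hi).1, ac.cf_simple i hi j hj]
  split_ifs <;> simp

/-! ### Characters of the root lattice -/

theorem isChar_zpow_grading {g : ℕ → ℤ} (hg : IsGrading D g) (a : F) (ha : a ≠ 0) :
    IsChar D (fun s => a ^ g s) := by
  constructor
  · intro s hs
    show a ^ g (D.negIdx.getD s 0) * a ^ g s = 1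
    rw [hg.neg s hs, zpow_neg, inv_mul_cancel₀ (zpow_ne_zero _ ha)]
  · intro r s u hr hs hu km hkm
    show a ^ g u = a ^ g s * (a ^ g r) ^ km.1
    rw [hg.chain r s u hr hs hu km hkm, zpow_add₀ ha, mul_comm (km.1 : ℤ), zpow_mul, zpow_natCast]

/-- The character of the root lattice with given values on the fundamental roots. -/
def rootChar (D : ChevalleyDatum) (ws : List (List ℤ)) (sc : ℤ) (a : ℕ → F) (r : ℕ) : F :=
  ∏ j ∈ Finset.range D.rank, a j ^ coef D ws sc j r

theorem isChar_rootChar (c : DCert D Ns) (tc : TCert D) (ac : ACert D wl ws sc) (hdiv : DivCert D ws sc)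
    (a : ℕ → F) (ha : ∀ j < D.rank, a j ≠ 0) : IsChar D (rootChar D ws sc a) :=
  isChar_prod D.rank (fun j s => a j ^ coef D ws sc j s)
    (fun j hj => isChar_zpow_grading (isGrading_coef c tc ac hdiv j hj) (a j) (ha j hj))

theorem rootChar_simple (ac : ACert D wl ws sc) (hdiv : DivCert D ws sc) (a : ℕ → F) (i : ℕ) (hi : i < D.rank) :
    rootChar D ws sc a (D.simple i) = a i := by
  unfold rootChar
  rw [Finset.prod_eq_single i]
  · rw [coef_simple ac hdiv i hi i hi, if_pos rfl, zpow_one]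
  · intro j hj hji
    rw [coef_simple ac hdiv i hi j (Finset.mem_range.mp hj), if_neg hji, zpow_zero]
  · intro h
    exact absurd (Finset.mem_range.mpr hi) h

theorem rootChar_mul (a b : ℕ → F) (r : ℕ) :
    rootChar D ws sc (fun j => a j * b j) r = rootChar D ws sc a r * rootChar D ws sc b r := by
  unfold rootChar
  rw [← Finset.prod_mul_distrib]
  apply Finset.prod_congr rfl
  intro j _
  rw [mul_zpow]

theorem rootChar_one (r : ℕ) : rootChar D ws sc (fun _ => (1 : F)) r = 1 := by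
  unfold rootChar
  apply Finset.prod_eq_one
  intro j _
  rw [one_zpow]

/-! ### Diagonal matrices of characters -/

/-- The diagonal matrix of a character, as an element of the general linear group. -/
def diagGL (χ : ℕ → F) (hχ : IsChar D χ) : GL D.Idx F where
  val := diagMat D χ
  inv := diagMat D (fun s => (χ s)⁻¹)
  val_inv := by
    rw [diagMat_mul, ← diagMat_one]
    apply diagMat_congr
    intro s hs
    exact mul_inv_cancel₀ (hχ.ne_zero s hs)
  inv_val := by
    rw [diagMat_mul, ← diagMat_one]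
    apply diagMat_congr
    intro s hs
    exact inv_mul_cancel₀ (hχ.ne_zero s hs)

theorem diagGL_coe (χ : ℕ → F) (hχ : IsChar D χ) :
    ((diagGL χ hχ : GL D.Idx F) : Matrix D.Idx D.Idx F) = diagMat D χ := rfl

theorem diagGL_conj (c : DCert D Ns) (χ : ℕ → F) (hχ : IsChar D χ) (r : ℕ) (hr : r < D.nroots) (t : F) :
    diagGL χ hχ * xGL c r t * (diagGL χ hχ)⁻¹ = xGL c r (χ r * t) := by
  rw [mul_inv_eq_iff_eq_mul]
  apply Units.ext
  rw [Units.val_mul, Units.val_mul, xGL_coe, xGL_coe, diagGL_coe]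
  exact diag_conj hχ r hr t

theorem actsAs_diagGL (c : DCert D Ns) (χ : ℕ → F) (hχ : IsChar D χ) : ActsAs c (diagGL χ hχ) id := by
  intro r hr
  exact ⟨hr, χ r, hχ.ne_zero r hr, diagGL_conj c χ hχ r hr⟩

theorem diagGL_mul (χ ψ : ℕ → F) (hχ : IsChar D χ) (hψ : IsChar D ψ) :
    diagGL χ hχ * diagGL ψ hψ = diagGL (fun s => χ s * ψ s) (hχ.mul hψ) := by
  apply Units.ext
  rw [Units.val_mul, diagGL_coe, diagGL_coe, diagGL_coe, diagMat_mul]

theorem diagGL_congr {χ ψ : ℕ → F} (hχ : IsChar D χ) (hψ : IsChar D ψ) (h : ∀ s < D.nroots, χ s = ψ s) :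
    diagGL χ hχ = diagGL ψ hψ := by
  apply Units.ext
  rw [diagGL_coe, diagGL_coe]
  exact diagMat_congr h

/-- An element acting on every root subgroup by a scalar normalizes the group. -/
theorem conj_mem_group_of_actsAs (c : DCert D Ns) {k : GL D.Idx F} (hk : ActsAs c k id) (g : GL D.Idx F)
    (hg : g ∈ D.group F) : k * g * k⁻¹ ∈ D.group F := by
  unfold ChevalleyDatum.group at hg
  apply conj_closure_le k _ (D.group F) _ g hg
  rintro s ⟨r, t, hs⟩
  have hs' : s = xGL c r.val t := by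
    apply Units.ext
    rw [hs, xGL_coe]
    unfold ChevalleyDatum.x
    rw [dif_pos r.isLt]
  obtain ⟨-, a, -, e⟩ := hk r.val r.isLt
  rw [hs', e]
  exact xGL_mem_group c _ _

theorem actsAs_inv_of_actsAs (c : DCert D Ns) {k : GL D.Idx F} (hk : ActsAs c k id) : ActsAs c k⁻¹ id := by
  intro r hr
  obtain ⟨-, a, ha, e⟩ := hk r hr
  refine ⟨hr, a⁻¹, inv_ne_zero ha, fun t => ?_⟩
  have := e (a⁻¹ * t)
  rw [mul_inv_cancel_left₀ ha] at this
  simp only [id] at this ⊢
  rw [inv_inv, ← this]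
  group

/-- Conjugation by an element acting on every root subgroup by a scalar, as an automorphism of the group. -/
def conjAut (c : DCert D Ns) (k : GL D.Idx F) (hk : ActsAs c k id) : MulAut ↥(D.group F) where
  toFun x := ⟨k * x * k⁻¹, conj_mem_group_of_actsAs c hk x x.2⟩
  invFun x := ⟨k⁻¹ * x * k, by
    have := conj_mem_group_of_actsAs c (actsAs_inv_of_actsAs c hk) x x.2
    rwa [inv_inv] at this⟩
  left_inv x := by
    apply Subtype.ext
    show k⁻¹ * (k * (x : GL D.Idx F) * k⁻¹) * k = x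
    group
  right_inv x := by
    apply Subtype.ext
    show k * (k⁻¹ * (x : GL D.Idx F) * k) * k⁻¹ = x
    group
  map_mul' x y := by
    apply Subtype.ext
    show k * ((x : GL D.Idx F) * y) * k⁻¹ = (k * x * k⁻¹) * (k * y * k⁻¹)
    group

theorem conjAut_coe (c : DCert D Ns) (k : GL D.Idx F) (hk : ActsAs c k id) (x : ↥(D.group F)) :
    ((conjAut c k hk x : ↥(D.group F)) : GL D.Idx F) = k * x * k⁻¹ := rfl

theorem conjAut_preserves (c : DCert D Ns) (k : GL D.Idx F) (hk : ActsAs c k id) (r : ℕ) (hr : r < D.nroots) :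
    Preserves (conjAut c k hk) (D.rootSubgroup F r) := by
  intro x
  exact mem_rootSubgroup_conj c hk r hr (x : GL D.Idx F)


theorem conjAut_xG (c : DCert D Ns) (χ : ℕ → F) (hχ : IsChar D χ) (r : ℕ) (hr : r < D.nroots) (t : F) :
    conjAut c (diagGL χ hχ) (actsAs_diagGL c χ hχ) (xG c r t) = xG c r (χ r * t) := by
  apply Subtype.ext
  rw [conjAut_coe, xG_coe, xG_coe]
  exact diagGL_conj c χ hχ r hr t

/-! ### The diagonal automorphisms, as a homomorphism from the torus of characters -/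

/-- The values on the fundamental roots, extended by `1`. -/
def extT (D : ChevalleyDatum) (a : Fin D.rank → Fˣ) (j : ℕ) : F :=
  if h : j < D.rank then ((a ⟨j, h⟩ : Fˣ) : F) else 1

theorem extT_ne_zero (a : Fin D.rank → Fˣ) (j : ℕ) : extT D a j ≠ 0 := by
  unfold extT
  split_ifs
  · exact Units.ne_zero _
  · exact one_ne_zero

theorem extT_mul (a b : Fin D.rank → Fˣ) (j : ℕ) : extT D (a * b) j = extT D a j * extT D b j := by
  unfold extT
  split_ifs
  · simp
  · simp

theorem extT_one (j : ℕ) : extT D (1 : Fin D.rank → Fˣ) j = (1 : F) := by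
  unfold extT
  split_ifs <;> simp

theorem extT_lt (a : Fin D.rank → Fˣ) (j : ℕ) (hj : j < D.rank) : extT D a j = ((a ⟨j, hj⟩ : Fˣ) : F) := by
  unfold extT
  rw [dif_pos hj]

/-- The diagonal automorphism of a character given by its values on the fundamental roots. -/
def diagAut (c : DCert D Ns) (tc : TCert D) (ac : ACert D wl ws sc) (hdiv : DivCert D ws sc)
    (a : Fin D.rank → Fˣ) : MulAut ↥(D.group F) :=
  conjAut c (diagGL (rootChar D ws sc (extT D a))
    (isChar_rootChar c tc ac hdiv _ (fun j _ => extT_ne_zero a j))) (actsAs_diagGL c _ _)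

theorem diagAut_xG (c : DCert D Ns) (tc : TCert D) (ac : ACert D wl ws sc) (hdiv : DivCert D ws sc)
    (a : Fin D.rank → Fˣ) (r : ℕ) (hr : r < D.nroots) (t : F) :
    diagAut c tc ac hdiv a (xG c r t) = xG c r (rootChar D ws sc (extT D a) r * t) :=
  conjAut_xG c _ _ r hr t

theorem diagAut_xG_simple (c : DCert D Ns) (tc : TCert D) (ac : ACert D wl ws sc) (hdiv : DivCert D ws sc)
    (a : Fin D.rank → Fˣ) (i : ℕ) (hi : i < D.rank) (t : F) :
    diagAut c tc ac hdiv a (xG c (D.simple i) t) = xG c (D.simple i) (extT D a i * t) := by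
  rw [diagAut_xG c tc ac hdiv a _ (ac.simple i hi).1, rootChar_simple ac hdiv _ i hi]

theorem diagAut_preserves (c : DCert D Ns) (tc : TCert D) (ac : ACert D wl ws sc) (hdiv : DivCert D ws sc)
    (a : Fin D.rank → Fˣ) (r : ℕ) (hr : r < D.nroots) :
    Preserves (diagAut c tc ac hdiv a) (D.rootSubgroup F r) :=
  conjAut_preserves c _ _ r hr

/-- The diagonal automorphisms, as a homomorphism. -/
def diagHom (c : DCert D Ns) (tc : TCert D) (ac : ACert D wl ws sc) (hdiv : DivCert D ws sc) :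
    (Fin D.rank → Fˣ) →* MulAut ↥(D.group F) where
  toFun a := diagAut c tc ac hdiv a
  map_one' := by
    apply MulEquiv.ext
    intro x
    apply Subtype.ext
    unfold diagAut
    rw [conjAut_coe]
    have h1 : diagGL (rootChar D ws sc (extT D (1 : Fin D.rank → Fˣ)))
        (isChar_rootChar c tc ac hdiv _ (fun j _ => extT_ne_zero 1 j)) = (1 : GL D.Idx F) := by
      apply Units.ext
      rw [diagGL_coe, Units.val_one, ← diagMat_one]
      apply diagMat_congr
      intro s _
      have : extT D (1 : Fin D.rank → Fˣ) = fun _ => (1 : F) := funext extT_one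
      rw [this, rootChar_one]
    rw [h1]
    simp
  map_mul' a b := by
    apply MulEquiv.ext
    intro x
    apply Subtype.ext
    unfold diagAut
    rw [MulAut.mul_apply, conjAut_coe, conjAut_coe, conjAut_coe]
    have h1 : diagGL (rootChar D ws sc (extT D (a * b)))
        (isChar_rootChar c tc ac hdiv _ (fun j _ => extT_ne_zero (a * b) j)) =
          diagGL (rootChar D ws sc (extT D a)) (isChar_rootChar c tc ac hdiv _ (fun j _ => extT_ne_zero a j)) *
          diagGL (rootChar D ws sc (extT D b)) (isChar_rootChar c tc ac hdiv _ (fun j _ => extT_ne_zero b j)) := by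
      rw [diagGL_mul]
      apply diagGL_congr
      intro s _
      have : extT D (a * b) = fun j => extT D a j * extT D b j := funext (extT_mul a b)
      rw [this, rootChar_mul]
    rw [h1]
    group

theorem diagHom_apply (c : DCert D Ns) (tc : TCert D) (ac : ACert D wl ws sc) (hdiv : DivCert D ws sc)
    (a : Fin D.rank → Fˣ) : diagHom (F := F) c tc ac hdiv a = diagAut c tc ac hdiv a := rfl

/-! ### Every automorphism is the product of an inner, a diagonal and a field automorphism -/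

/-- For a simply laced diagram without symmetries, every automorphism is the product of an inner automorphism, an
automorphism acting on the fundamental root subgroups by given scalars, and a field automorphism. -/
theorem exists_inner_mul_scalar_mul_field [Fintype F] (p : ℕ) [Fact p.Prime] [CharP F p]
    (A : AutData D Ns wl ws sc w d w0 F) {parC depC : List ℕ} (hconn : ConnCert D parC depC)
    {b0 : ℕ} {hasLong : Bool} {c0 a0 b1 : ℕ} {C : ℤ} {par : List (ℕ × ℕ)} {dep comp : List ℕ}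
    (oc : OCert D b0 hasLong c0 a0 b1 C par dep comp) (hcomp : ∀ r < D.nroots, comp.getD r 2 = 0)
    (θ : MulAut ↥(D.group F)) :
    ∃ (g : ↥(D.group F)) (σ : F ≃+* F) (a : ℕ → F), (∀ i < D.rank, a i ≠ 0) ∧
      ∀ κ : MulAut ↥(D.group F),
        (∀ i < D.rank, ∀ t : F, κ (xG A.c (D.simple i) t) = xG A.c (D.simple i) (a i * t)) →
        (∀ i < D.rank, Preserves κ (D.rootSubgroup F (D.neg (D.simple i)))) →
        θ = MulAut.conj g * κ * fieldAutOf A.c σ := by
  obtain ⟨c, tc, ac, gc, hdesc, hR2, hw, hws, hsl, hrig⟩ := A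
  have h0 : 0 < D.rank := by have := hconn.1; omega
  obtain ⟨a, hU₁⟩ := exists_conj_preserves_pos p c tc ac gc hdesc hR2 θ
  obtain ⟨b, -, hU₂, hV₂⟩ := exists_conj_preserves_neg c tc ac gc hdesc hR2 hw (MulAut.conj a * θ) hU₁
  set θ₂ := MulAut.conj b * (MulAut.conj a * θ) with hθ₂
  have hpos := fun i hi => preserves_simple c tc ac gc hdesc hR2 hw hws hsl hrig θ₂ hU₂ hV₂ i hi
  have hneg := fun i hi => preserves_neg_simple c tc ac gc hdesc hR2 hw hws hsl hrig θ₂ hU₂ hV₂ i hi
  obtain ⟨σ, a', ha', hσ⟩ := exists_field_of_preserves c tc ac hR2 hsl hconn θ₂ hpos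
  refine ⟨a⁻¹ * b⁻¹, σ, a', ha', fun κ hκ hκneg => ?_⟩
  set φ := fieldAutOf c σ with hφ
  set θ₃ := κ⁻¹ * θ₂ * φ⁻¹ with hθ₃
  have hφinv : ∀ (r : ℕ) (t : F), φ⁻¹ (xG c r t) = xG c r ((σ⁻¹ : RingAut F) t) := by
    intro r t
    rw [MulAut.inv_apply, MulEquiv.symm_apply_eq, hφ, fieldAutOf_xG]
    congr 1
    exact (RingEquiv.apply_symm_apply σ t).symm
  have hfixpos : ∀ i < D.rank, ∀ t : F, θ₃ (xG c (D.simple i) t) = xG c (D.simple i) t := by
    intro i hi t
    rw [hθ₃, MulAut.mul_apply, MulAut.mul_apply, hφinv, hσ i hi]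
    have e1 : σ ((σ⁻¹ : RingAut F) t) = t := RingEquiv.apply_symm_apply σ t
    rw [e1, MulAut.inv_apply, MulEquiv.symm_apply_eq, hκ i hi]
  have hnegpres : ∀ i < D.rank, Preserves θ₃ (D.rootSubgroup F (D.neg (D.simple i))) := by
    intro i hi
    exact (((hκneg i hi).inv).mul (hneg i hi)).mul (fieldAutOf_preserves c σ _).inv
  have hone : θ₃ = 1 := by
    apply eq_one_of_fix oc c ac hcomp h0
    intro i hi t
    exact ⟨hfixpos i hi t, fix_neg_of_fix_pos c tc ac gc θ₃ i hi (hfixpos i hi) (hnegpres i hi) t⟩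
  have e1 : θ₂ = κ * φ := by
    have : κ * θ₃ * φ = κ * φ := by rw [hone, mul_one]
    rw [← this, hθ₃]
    group
  rw [map_mul, map_inv, map_inv]
  rw [hθ₂] at e1
  rw [mul_assoc, ← e1]
  group

/-! ### Elements of the group whose inner automorphism preserves `U` and `V` -/

/-- An element of the group whose inner automorphism preserves `U` and `V` lies in `H`. -/
theorem mem_diagonal_of_preserves (c : DCert D Ns) (tc : TCert D) (ac : ACert D wl ws sc) (gc : GCert D w d)
    (hR2 : R2All D F) (hw : W0Cert D w0) (g : ↥(D.group F))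
    (hU : Preserves (MulAut.conj g) (D.posUnipotent F)) (hV : Preserves (MulAut.conj g) (D.negUnipotent F)) :
    (g : GL D.Idx F) ∈ D.diagonalSubgroup F := by
  have key : ∀ x : ↥(D.group F), (∀ u : ↥(D.group F), (u : GL D.Idx F) ∈ D.posUnipotent F ↔
      ((x * u * x⁻¹ : ↥(D.group F)) : GL D.Idx F) ∈ D.posUnipotent F) → (x : GL D.Idx F) ∈ D.borelSubgroup F := by
    intro x h
    rw [← normalizer_pos_inf_group c tc ac gc hR2, Subgroup.mem_inf, Subgroup.mem_normalizer_iff]
    refine ⟨fun u => ?_, x.2⟩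
    constructor
    · intro hu
      exact (h ⟨u, posUnipotent_le_group c hu⟩).mp hu
    · intro hu
      have hu' : u ∈ D.group F := by
        have h1 : (x : GL D.Idx F) * u * (x : GL D.Idx F)⁻¹ ∈ D.group F := posUnipotent_le_group c hu
        have h2 : u = (x : GL D.Idx F)⁻¹ * ((x : GL D.Idx F) * u * (x : GL D.Idx F)⁻¹) * (x : GL D.Idx F) := by
          group
        rw [h2]
        exact Subgroup.mul_mem _ (Subgroup.mul_mem _ (Subgroup.inv_mem _ x.2) h1) x.2
      exact (h ⟨u, hu'⟩).mpr hu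
  have hgB : (g : GL D.Idx F) ∈ D.borelSubgroup F := by
    apply key g
    intro u
    exact (hU u).symm
  have hN0 := wordN_mem_monomial (F := F) c w0 hw.1
  set n0 : ↥(D.group F) := ⟨wordN c F w0, monomial_le_group c hN0⟩ with hn0
  have hg'B : ((n0 * g * n0⁻¹ : ↥(D.group F)) : GL D.Idx F) ∈ D.borelSubgroup F := by
    apply key
    intro u
    -- `u ∈ U ↔ n0⁻¹ u n0 ∈ V`
    have h1 : (u : GL D.Idx F) ∈ D.posUnipotent F ↔
        ((n0⁻¹ * u * n0 : ↥(D.group F)) : GL D.Idx F) ∈ D.negUnipotent F := by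
      rw [mem_neg_iff_w0' c tc ac hw]
      have e : wordN c F w0 * ((n0⁻¹ * u * n0 : ↥(D.group F)) : GL D.Idx F) * (wordN c F w0)⁻¹ =
          (u : GL D.Idx F) := by
        show wordN c F w0 * ((wordN c F w0)⁻¹ * (u : GL D.Idx F) * wordN c F w0) * (wordN c F w0)⁻¹ = _
        group
      rw [e]
    have e0 : n0 * g * n0⁻¹ * u * (n0 * g * n0⁻¹)⁻¹ = n0 * (g * (n0⁻¹ * u * n0) * g⁻¹) * n0⁻¹ := by group
    have h2 : ((n0 * g * n0⁻¹ * u * (n0 * g * n0⁻¹)⁻¹ : ↥(D.group F)) : GL D.Idx F) ∈ D.posUnipotent F ↔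
        ((g * (n0⁻¹ * u * n0) * g⁻¹ : ↥(D.group F)) : GL D.Idx F) ∈ D.negUnipotent F := by
      rw [e0, mem_neg_iff_w0' c tc ac hw]
      rfl
    rw [h1, h2]
    exact (hV (n0⁻¹ * u * n0)).symm
  have e9 : ((n0 * g * n0⁻¹ : ↥(D.group F)) : GL D.Idx F) =
      wordN c F w0 * (g : GL D.Idx F) * (wordN c F w0)⁻¹ := rfl
  rw [e9] at hg'B
  exact mem_diagonal_of_conj_w0 c tc gc hw (g : GL D.Idx F) hgB hg'B

end Cfsg.Agent.Lib.Helper18_ChevAutG
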