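import Mathlib

set_option autoImplicit false

/-!
The kernel of the endomorphism of a power of a finite cyclic group given by an integer matrix whose cokernel is cyclic
(used for the Cartan matrices of determinant `n` with cyclic fundamental group).
-/

namespace Cfsg.Agent.Lib.Helper18_TorusKer

variable {Γ : Type*} [CommGroup Γ] {r : ℕ}

/-- The endomorphism `τ ↦ (∏_i τ_i ^ A i j)_j` of `Γ ^ r`. -/
def expHom (A : Fin r → Fin r → ℤ) : (Fin r → Γ) →* (Fin r → Γ) where
  toFun τ j := ∏ i, τ i ^ A i j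
  map_one' := by
    funext j
    simp
  map_mul' τ τ' := by
    funext j
    simp only [Pi.mul_apply, mul_zpow, Finset.prod_mul_distrib]

theorem expHom_apply (A : Fin r → Fin r → ℤ) (τ : Fin r → Γ) (j : Fin r) :
    expHom A τ j = ∏ i, τ i ^ A i j := rfl

theorem prod_zpow_eq {ι : Type*} (s : Finset ι) (a : Γ) (f : ι → ℤ) :
    ∏ j ∈ s, a ^ f j = a ^ ∑ j ∈ s, f j := by
  classical
  induction s using Finset.induction_on with
  | empty => simp
  | insert x s hx ih => rw [Finset.prod_insert hx, Finset.sum_insert hx, zpow_add, ih]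

theorem expHom_comp (A X : Fin r → Fin r → ℤ) (τ : Fin r → Γ) (k : Fin r) :
    ∏ j, (expHom A τ j) ^ X j k = ∏ i, τ i ^ (∑ j, A i j * X j k) := by
  have h1 : ∀ j ∈ Finset.univ, (expHom A τ j) ^ X j k = ∏ i, τ i ^ (A i j * X j k) := by
    intro j _
    rw [expHom_apply, ← Finset.prod_zpow]
    apply Finset.prod_congr rfl
    intro i _
    rw [zpow_mul]
  rw [Finset.prod_congr rfl h1, Finset.prod_comm]
  apply Finset.prod_congr rfl
  intro i _
  rw [prod_zpow_eq]

/-- The certificate: `A B = n`, the vector `e` spans the kernel of `A` modulo `n` and has the entry `1` at `k0`. -/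
def KerCert (A : Fin r → Fin r → ℤ) (n : ℕ) (e : Fin r → ℕ) (k0 : Fin r) (B V : Fin r → Fin r → ℤ) : Prop :=
  e k0 = 1 ∧ (∀ i k, ∑ j, A i j * B j k = if i = k then (n : ℤ) else 0) ∧
  (∀ j, (n : ℤ) ∣ ∑ i, (e i : ℤ) * A i j) ∧
  ∀ i k, (n : ℤ) ∣ (∑ j, A i j * V j k) - (if i = k then 1 else 0) + (e k : ℤ) * (if i = k0 then 1 else 0)

instance (A : Fin r → Fin r → ℤ) (n : ℕ) (e : Fin r → ℕ) (k0 : Fin r) (B V : Fin r → Fin r → ℤ) :
    Decidable (KerCert A n e k0 B V) := by
  unfold KerCert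
  infer_instance

variable {A : Fin r → Fin r → ℤ} {n : ℕ} {e : Fin r → ℕ} {k0 : Fin r} {B V : Fin r → Fin r → ℤ}

theorem pow_eq_one_of_mem_ker (h : KerCert A n e k0 B V) (τ : Fin r → Γ) (hτ : expHom A τ = 1) (k : Fin r) :
    τ k ^ n = 1 := by
  have h1 := expHom_comp A B τ k
  rw [hτ] at h1
  simp only [Pi.one_apply, one_zpow, Finset.prod_const_one] at h1
  have h2 : ∀ i ∈ Finset.univ, τ i ^ (∑ j, A i j * B j k) = τ i ^ (if i = k then (n : ℤ) else 0) := by
    intro i _
    rw [h.2.1 i k]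
  rw [Finset.prod_congr rfl h2, Finset.prod_eq_single k] at h1
  · rw [if_pos rfl, zpow_natCast] at h1
    exact h1.symm
  · intro i _ hik
    rw [if_neg hik, zpow_zero]
  · intro hk
    exact absurd (Finset.mem_univ k) hk

theorem eq_pow_of_mem_ker (h : KerCert A n e k0 B V) (τ : Fin r → Γ) (hτ : expHom A τ = 1) (k : Fin r) :
    τ k = τ k0 ^ e k := by
  have hn := pow_eq_one_of_mem_ker h τ hτ
  have h1 := expHom_comp A V τ k
  rw [hτ] at h1
  simp only [Pi.one_apply, one_zpow, Finset.prod_const_one] at h1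
  have h2 : ∀ i ∈ Finset.univ, τ i ^ (∑ j, A i j * V j k) =
      τ i ^ (if i = k then (1 : ℤ) else 0) * (τ i ^ (if i = k0 then (1 : ℤ) else 0)) ^ (-(e k : ℤ)) := by
    intro i _
    obtain ⟨m, hm⟩ := h.2.2.2 i k
    have e1 : ∑ j, A i j * V j k =
        (if i = k then (1 : ℤ) else 0) + (if i = k0 then (1 : ℤ) else 0) * (-(e k : ℤ)) + (n : ℤ) * m := by
      linarith
    rw [e1, zpow_add, zpow_add, zpow_mul, zpow_mul, zpow_natCast, hn i, one_zpow, mul_one]
  rw [Finset.prod_congr rfl h2, Finset.prod_mul_distrib, Finset.prod_eq_single k, Finset.prod_eq_single k0] at h1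
  · rw [if_pos rfl, if_pos rfl, zpow_one, zpow_one, zpow_neg, zpow_natCast] at h1
    exact (mul_inv_eq_one.mp h1.symm)
  · intro i _ hik
    rw [if_neg hik, zpow_zero, one_zpow]
  · intro hk
    exact absurd (Finset.mem_univ k0) hk
  · intro i _ hik
    rw [if_neg hik, zpow_zero]
  · intro hk
    exact absurd (Finset.mem_univ k) hk

theorem mem_ker_of_pow (h : KerCert A n e k0 B V) (t : Γ) (ht : t ^ n = 1) :
    expHom A (fun k => t ^ e k) = 1 := by
  funext j
  rw [expHom_apply, Pi.one_apply]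
  have h1 : ∀ i ∈ Finset.univ, (t ^ e i) ^ A i j = t ^ ((e i : ℤ) * A i j) := by
    intro i _
    rw [zpow_mul, zpow_natCast]
  rw [Finset.prod_congr rfl h1, prod_zpow_eq]
  obtain ⟨m, hm⟩ := h.2.2.1 j
  rw [hm, zpow_mul, zpow_natCast, ht, one_zpow]

/-- The kernel of the endomorphism has the cardinality of the group of `n`-th roots of unity. -/
theorem card_ker [Finite Γ] [IsCyclic Γ] (h : KerCert A n e k0 B V) :
    Nat.card (expHom A : (Fin r → Γ) →* (Fin r → Γ)).ker = (Nat.card Γ).gcd n := by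
  rw [← IsCyclic.card_powMonoidHom_ker Γ n]
  let f : (powMonoidHom n : Γ →* Γ).ker → (expHom A : (Fin r → Γ) →* (Fin r → Γ)).ker :=
    fun t => ⟨fun k => (t : Γ) ^ e k, MonoidHom.mem_ker.mpr (mem_ker_of_pow h (t : Γ)
      (by have := t.2; rwa [MonoidHom.mem_ker, powMonoidHom_apply] at this))⟩
  have hf : Function.Bijective f := by
    constructor
    · intro t t' htt
      have h1 := congrArg (fun τ : (expHom A : (Fin r → Γ) →* (Fin r → Γ)).ker => (τ : Fin r → Γ) k0) htt
      simp only [f, h.1, pow_one] at h1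
      exact Subtype.ext h1
    · intro τ
      have hτ : expHom A (τ : Fin r → Γ) = 1 := τ.2
      refine ⟨⟨(τ : Fin r → Γ) k0, ?_⟩, ?_⟩
      · show (τ : Fin r → Γ) k0 ^ n = 1
        exact pow_eq_one_of_mem_ker h _ hτ k0
      · apply Subtype.ext
        funext k
        exact (eq_pow_of_mem_ker h _ hτ k).symm
  exact (Nat.card_congr (Equiv.ofBijective f hf)).symm

end Cfsg.Agent.Lib.Helper18_TorusKer
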