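import Cfsg.Agent.Lib.Helper18_ChevAutG
import Cfsg.Agent.Lib.Helper18_TorusKer

set_option autoImplicit false

/-!
Automorphisms of the Chevalley groups over finite fields, eighth part: the diagonal automorphisms that are inner, and
the order of the group of outer automorphisms for a simply laced diagram without symmetries.
-/

namespace Cfsg.Agent.Lib.Helper18_ChevAutH

open Cfsg Cfsg.Lie Cfsg.Agent.Lib.Helper18_ChevFast Cfsg.Agent.Lib.Helper18_ChevEngine
  Cfsg.Agent.Lib.Helper18_ChevR1 Cfsg.Agent.Lib.Helper18_ChevN Cfsg.Agent.Lib.Helper18_ChevR4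
  Cfsg.Agent.Lib.Helper18_ChevSimple Cfsg.Agent.Lib.Helper18_ChevSimple2 Cfsg.Agent.Lib.Helper18_ChevFacts
  Cfsg.Agent.Lib.Helper18_ChevWeyl Cfsg.Agent.Lib.Helper18_ChevDiag Cfsg.Agent.Lib.Helper18_ChevCar
  Cfsg.Agent.Lib.Helper18_ChevTorus Cfsg.Agent.Lib.Helper18_ChevGL Cfsg.Agent.Lib.Helper18_ChevComm
  Cfsg.Agent.Lib.Helper18_ChevComm2 Cfsg.Agent.Lib.Helper18_MatTri Cfsg.Agent.Lib.Helper18_ChevTri
  Cfsg.Agent.Lib.Helper18_ChevBorel Cfsg.Agent.Lib.Helper18_ChevAdd Cfsg.Agent.Lib.Helper18_ChevUni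
  Cfsg.Agent.Lib.Helper18_ChevBN Cfsg.Agent.Lib.Helper18_ChevMono Cfsg.Agent.Lib.Helper18_ChevBNPair
  Cfsg.Agent.Lib.Helper18_ChevSimp Cfsg.Agent.Lib.Helper18_ChevJCerts Cfsg.Agent.Lib.Helper18_ChevLevi
  Cfsg.Agent.Lib.Helper18_ChevBruhat Cfsg.Agent.Lib.Helper18_ChevPar Cfsg.Agent.Lib.Helper18_ChevRootHom
  Cfsg.Agent.Lib.Helper18_ChevOrder Cfsg.Agent.Lib.Helper18_ChevSylow Cfsg.Agent.Lib.Helper18_ChevCent
  Cfsg.Agent.Lib.Helper18_ChevFrob Cfsg.Agent.Lib.Helper18_ChevAutA Cfsg.Agent.Lib.Helper18_ChevAutB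
  Cfsg.Agent.Lib.Helper18_ChevAutC Cfsg.Agent.Lib.Helper18_ChevAutD Cfsg.Agent.Lib.Helper18_ChevGen
  Cfsg.Agent.Lib.Helper18_ChevField Cfsg.Agent.Lib.Helper18_ChevAutE Cfsg.Agent.Lib.Helper18_ChevAutF
  Cfsg.Agent.Lib.Helper18_ChevAutG Cfsg.Agent.Lib.Helper18_TorusKer

open scoped Pointwise

variable {D : ChevalleyDatum} {Ns : List NData} {F : Type*} [Field F]
variable {wl : List ℤ} {ws : List (List ℤ)} {sc : ℤ} {w : List ℤ} {d : ℕ} {w0 : List ℕ}

/-! ### Conjugation by elements acting on every root subgroup by a scalar preserves `U` and `V` -/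

theorem conjAut_preserves_closure (c : DCert D Ns) (k : GL D.Idx F) (hk : ActsAs c k id) (P : ℕ → Prop)
    (hP : ∀ r, P r → r < D.nroots) :
    Preserves (conjAut c k hk)
      (Subgroup.closure {g : GL D.Idx F | ∃ (r : ℕ) (t : F), P r ∧ (g : Matrix D.Idx D.Idx F) = D.x F r t}) := by
  have key : ∀ (k' : GL D.Idx F), ActsAs c k' id → ∀ u ∈
      Subgroup.closure {g : GL D.Idx F | ∃ (r : ℕ) (t : F), P r ∧ (g : Matrix D.Idx D.Idx F) = D.x F r t},
      k' * u * k'⁻¹ ∈
        Subgroup.closure {g : GL D.Idx F | ∃ (r : ℕ) (t : F), P r ∧ (g : Matrix D.Idx D.Idx F) = D.x F r t} := by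
    intro k' hk' u hu
    apply conj_closure_le k' _ _ _ u hu
    rintro s ⟨r, t, hr, hs⟩
    rw [eq_xGL c hs]
    obtain ⟨-, a, -, e⟩ := hk' r (hP r hr)
    rw [e]
    exact Subgroup.subset_closure ⟨r, _, hr, rfl⟩
  intro x
  rw [conjAut_coe]
  constructor
  · intro h
    have := key k⁻¹ (actsAs_inv_of_actsAs c hk) _ h
    rw [inv_inv] at this
    have e : k⁻¹ * (k * (x : GL D.Idx F) * k⁻¹) * k = x := by group
    rwa [e] at this
  · intro h
    exact key k hk _ h

theorem conjAut_preserves_pos (c : DCert D Ns) (k : GL D.Idx F) (hk : ActsAs c k id) :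
    Preserves (conjAut c k hk) (D.posUnipotent F) :=
  conjAut_preserves_closure c k hk D.IsPosRoot (fun _ h => h.1)

theorem conjAut_preserves_neg (c : DCert D Ns) (k : GL D.Idx F) (hk : ActsAs c k id) :
    Preserves (conjAut c k hk) (D.negUnipotent F) :=
  conjAut_preserves_closure c k hk D.IsNegRoot (fun _ h => h.1)

theorem fieldAutOf_preserves_closure (c : DCert D Ns) (σ : F ≃+* F) (P : ℕ → Prop) :
    Preserves (fieldAutOf c σ)
      (Subgroup.closure {g : GL D.Idx F | ∃ (r : ℕ) (t : F), P r ∧ (g : Matrix D.Idx D.Idx F) = D.x F r t}) := by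
  have key : ∀ (f : F →+* F), ∀ u ∈
      Subgroup.closure {g : GL D.Idx F | ∃ (r : ℕ) (t : F), P r ∧ (g : Matrix D.Idx D.Idx F) = D.x F r t},
      mapGL D f u ∈
        Subgroup.closure {g : GL D.Idx F | ∃ (r : ℕ) (t : F), P r ∧ (g : Matrix D.Idx D.Idx F) = D.x F r t} := by
    intro f u hu
    apply mapGL_mem_of_closure f _ _ _ u hu
    rintro s ⟨r, t, hr, hs⟩
    rw [eq_xGL c hs, mapGL_xGL]
    exact Subgroup.subset_closure ⟨r, _, hr, rfl⟩
  intro x
  rw [fieldAutOf_coe]
  constructor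
  · intro h
    have := key ((σ⁻¹ : RingAut F) : F →+* F) _ h
    rwa [← mapGL_comp, inv_mul_cancel, mapGL_one] at this
  · intro h
    exact key _ _ h


/-! ### The Cartan matrix as an endomorphism of the torus of characters -/

/-- The Cartan matrix of the fundamental roots. -/
def cartanFin (D : ChevalleyDatum) (i j : Fin D.rank) : ℤ := D.cartan i (D.simple j)

/-- The map sending the parameters of a torus element to the values of its character on the fundamental roots. -/
def cartanHom (D : ChevalleyDatum) (F : Type*) [Field F] : (Fin D.rank → Fˣ) →* (Fin D.rank → Fˣ) :=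
  expHom (cartanFin D)

theorem cartanHom_coe (τ : Fin D.rank → Fˣ) (j : Fin D.rank) :
    ((cartanHom D F τ j : Fˣ) : F) = torusChar D (extT D τ) (D.simple j) := by
  unfold cartanHom torusChar
  rw [expHom_apply, Units.coe_prod, Finset.prod_range]
  apply Finset.prod_congr rfl
  intro i _
  rw [extT_lt τ i i.isLt, Units.val_zpow_eq_zpow_val]
  rfl

/-- A diagonal automorphism given by the character of a torus element is inner. -/
theorem diagAut_cartanHom_mem_inn {b0 : ℕ} {hasLong : Bool} {c0 a0 b1 : ℕ} {C : ℤ} {par : List (ℕ × ℕ)}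
    {dep comp : List ℕ} (oc : OCert D b0 hasLong c0 a0 b1 C par dep comp)
    (hcomp : ∀ r < D.nroots, comp.getD r 2 = 0) (h0 : 0 < D.rank)
    (c : DCert D Ns) (tc : TCert D) (ac : ACert D wl ws sc) (gc : GCert D w d) (hdiv : DivCert D ws sc)
    (τ : Fin D.rank → Fˣ) :
    diagAut c tc ac hdiv (cartanHom D F τ) ∈ Cfsg.Inn ↥(D.group F) := by
  have hτne : ∀ i, extT D τ i ≠ 0 := extT_ne_zero τ
  set h := torusGL c (extT D τ) D.rank with hh
  have hH : h ∈ D.diagonalSubgroup F := torusGL_mem c ac _ hτne D.rank le_rfl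
  set hG : ↥(D.group F) := ⟨h, diagonal_le_group c hH⟩ with hhG
  refine ⟨hG, ?_⟩
  have hact : ActsAs c ((hG : ↥(D.group F)) : GL D.Idx F) id := actsAs_diagonal c tc _ hH
  set κ := (MulAut.conj hG)⁻¹ * diagAut c tc ac hdiv (cartanHom D F τ) with hκ
  have hfixpos : ∀ i < D.rank, ∀ t : F, κ (xG c (D.simple i) t) = xG c (D.simple i) t := by
    intro i hi t
    rw [hκ, MulAut.mul_apply, MulAut.inv_apply, MulEquiv.symm_apply_eq, diagAut_xG_simple c tc ac hdiv _ i hi,
      extT_lt _ i hi, cartanHom_coe]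
    apply Subtype.ext
    show xGL c (D.simple i) _ = h * xGL c (D.simple i) t * h⁻¹
    symm
    rw [mul_inv_eq_iff_eq_mul]
    apply Units.ext
    rw [Units.val_mul, Units.val_mul, xGL_coe, xGL_coe, hh, torusGL_coe c tc _ hτne D.rank le_rfl]
    exact torus_conj c tc _ hτne _ (ac.simple i hi).1 t
  have hnegpres : ∀ i < D.rank, Preserves κ (D.rootSubgroup F (D.neg (D.simple i))) := by
    intro i hi
    have hq := DCert.neg_lt c _ (ac.simple i hi).1
    exact ((preserves_conj_of_actsAs c hG hact _ hq).inv).mul (diagAut_preserves c tc ac hdiv _ _ hq)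
  have hone : κ = 1 := by
    apply eq_one_of_fix oc c ac hcomp h0
    intro i hi t
    exact ⟨hfixpos i hi t, fix_neg_of_fix_pos c tc ac gc κ i hi (hfixpos i hi) (hnegpres i hi) t⟩
  have : MulAut.conj hG * κ = MulAut.conj hG := by rw [hone, mul_one]
  rw [← this, hκ]
  group

/-- The parameters of an inner diagonal automorphism are the values of the character of a torus element. -/
theorem mem_range_of_diagAut_mem_inn (c : DCert D Ns) (tc : TCert D) (ac : ACert D wl ws sc) (gc : GCert D w d)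
    (hR2 : R2All D F) (hw : W0Cert D w0) (hdiv : DivCert D ws sc) (a : Fin D.rank → Fˣ)
    (h : diagAut c tc ac hdiv a ∈ Cfsg.Inn ↥(D.group F)) : a ∈ (cartanHom D F).range := by
  obtain ⟨g, hg⟩ := h
  have hU : Preserves (MulAut.conj g) (D.posUnipotent F) := by
    rw [hg]
    exact conjAut_preserves_pos c _ _
  have hV : Preserves (MulAut.conj g) (D.negUnipotent F) := by
    rw [hg]
    exact conjAut_preserves_neg c _ _
  have hgH := mem_diagonal_of_preserves c tc ac gc hR2 hw g hU hV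
  obtain ⟨t, ht, hgt⟩ := exists_torus_of_mem c tc _ hgH
  refine ⟨fun i => Units.mk0 (t i) (ht i), ?_⟩
  funext j
  apply Units.ext
  have hj := j.isLt
  have hp := (ac.simple j hj).1
  -- compare the two actions on `x_{p_j}(1)`
  have h1 : MulAut.conj g (xG c (D.simple j) 1) = xG c (D.simple j) (torusChar D t (D.simple j) * 1) := by
    apply Subtype.ext
    show (g : GL D.Idx F) * xGL c (D.simple j) 1 * (g : GL D.Idx F)⁻¹ = xGL c (D.simple j) _
    rw [mul_inv_eq_iff_eq_mul]
    apply Units.ext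
    rw [Units.val_mul, Units.val_mul, xGL_coe, xGL_coe, hgt]
    exact torus_conj c tc t ht _ hp 1
  have h2 : MulAut.conj g (xG c (D.simple j) 1) = xG c (D.simple j) (extT D a j * 1) := by
    rw [hg]
    exact diagAut_xG_simple c tc ac hdiv a j hj 1
  have h3 := xG_inj c tc ac hp (h1.symm.trans h2)
  rw [mul_one, mul_one, extT_lt a j hj] at h3
  rw [cartanHom_coe]
  show torusChar D (extT D fun i => Units.mk0 (t i) (ht i)) (D.simple j) = ((a j : Fˣ) : F)
  have e : (⟨(j : ℕ), hj⟩ : Fin D.rank) = j := rfl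
  rw [e] at h3
  rw [← h3]
  unfold torusChar
  apply Finset.prod_congr rfl
  intro i hi
  rw [extT_lt _ i (Finset.mem_range.mp hi)]
  rfl


/-! ### The order of the group of outer automorphisms -/

/-- For a simply laced diagram without symmetries, the order of the group of outer automorphisms is the product of
the order of the kernel of the Cartan matrix on the torus of characters and the order of the group of automorphisms
of the field. -/
theorem card_out_diag [Fintype F] (p : ℕ) [Fact p.Prime] [CharP F p]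
    (A : AutData D Ns wl ws sc w d w0 F) (hdiv : DivCert D ws sc) {parC depC : List ℕ}
    (hconn : ConnCert D parC depC)
    {b0 : ℕ} {hasLong : Bool} {c0 a0 b1 : ℕ} {C : ℤ} {par : List (ℕ × ℕ)} {dep comp : List ℕ}
    (oc : OCert D b0 hasLong c0 a0 b1 C par dep comp) (hcomp : ∀ r < D.nroots, comp.getD r 2 = 0) :
    Nat.card (Cfsg.Out ↥(D.group F)) = Nat.card (cartanHom D F).ker * Nat.card (RingAut F) := by
  have h0 : 0 < D.rank := by have := hconn.1; omega
  have hA := A
  obtain ⟨c, tc, ac, gc, hdesc, hR2, hw, hws, hsl, hrig⟩ := A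
  let δ : (Fin D.rank → Fˣ) →* Cfsg.Out ↥(D.group F) :=
    (QuotientGroup.mk' (Cfsg.Inn ↥(D.group F))).comp (diagHom c tc ac hdiv)
  let φ : RingAut F →* Cfsg.Out ↥(D.group F) :=
    (QuotientGroup.mk' (Cfsg.Inn ↥(D.group F))).comp (fieldAutHom c)
  have hδ : ∀ a, δ a = (QuotientGroup.mk (diagAut c tc ac hdiv a) : Cfsg.Out ↥(D.group F)) := fun _ => rfl
  have hφ : ∀ σ, φ σ = (QuotientGroup.mk (fieldAutOf c σ) : Cfsg.Out ↥(D.group F)) := fun _ => rfl
  -- the kernel of `δ`
  have hker : δ.ker = (cartanHom D F).range := by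
    ext a
    rw [MonoidHom.mem_ker, hδ, QuotientGroup.eq_one_iff]
    constructor
    · exact mem_range_of_diagAut_mem_inn c tc ac gc hR2 hw hdiv a
    · rintro ⟨τ, rfl⟩
      exact diagAut_cartanHom_mem_inn oc hcomp h0 c tc ac gc hdiv τ
  -- `φ` is injective
  have hφinj : Function.Injective φ := by
    rw [injective_iff_map_eq_one]
    intro σ hσ
    rw [hφ, QuotientGroup.eq_one_iff] at hσ
    obtain ⟨g, hg⟩ := hσ
    exact eq_one_of_fieldAutOf_eq_conj hA h0 σ g hg.symm
  -- the two ranges meet trivially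
  have hdisj : Disjoint δ.range φ.range := by
    rw [Subgroup.disjoint_def]
    rintro x ⟨a, rfl⟩ ⟨σ, hσ⟩
    have hσ0 := hσ
    rw [hδ, hφ, QuotientGroup.eq] at hσ
    obtain ⟨g, hg⟩ := hσ
    -- `conj g = φ_σ⁻¹ δ_a` preserves `U` and `V`, so `g ∈ H`
    have hU : Preserves (MulAut.conj g) (D.posUnipotent F) := by
      rw [hg]
      exact ((fieldAutOf_preserves_closure c σ D.IsPosRoot).inv).mul (conjAut_preserves_pos c _ _)
    have hV : Preserves (MulAut.conj g) (D.negUnipotent F) := by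
      rw [hg]
      exact ((fieldAutOf_preserves_closure c σ D.IsNegRoot).inv).mul (conjAut_preserves_neg c _ _)
    have hgH := mem_diagonal_of_preserves c tc ac gc hR2 hw g hU hV
    obtain ⟨s, hs0, hs⟩ := actsAs_diagonal c tc _ hgH (D.simple 0) (ac.simple 0 h0).1 |>.2
    have hp := (ac.simple 0 h0).1
    -- compare the two actions on `x_{p_0}(t)`
    have key : ∀ t : F, fieldAutOf c σ (xG c (D.simple 0) (s * t)) = xG c (D.simple 0) (extT D a 0 * t) := by
      intro t
      have h1 : MulAut.conj g (xG c (D.simple 0) t) = xG c (D.simple 0) (s * t) := Subtype.ext (hs t)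
      have h2 := congrArg (fun ψ : MulAut ↥(D.group F) => ψ (xG c (D.simple 0) t)) hg
      simp only [MulAut.mul_apply] at h2
      rw [h1, diagAut_xG_simple c tc ac hdiv a 0 h0, MulAut.inv_apply, MulEquiv.eq_symm_apply] at h2
      exact h2
    have key' : ∀ t : F, σ (s * t) = extT D a 0 * t := by
      intro t
      have := key t
      rw [fieldAutOf_xG] at this
      exact xG_inj c tc ac hp this
    have hσ1 : σ = 1 := by
      ext t
      have h1 := key' (s⁻¹ * t)
      rw [mul_inv_cancel_left₀ hs0] at h1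
      have h2 := key' s⁻¹
      rw [mul_inv_cancel₀ hs0, map_one] at h2
      -- `extT a 0 = s`
      have h3 : extT D a 0 = s := by
        have := congrArg (fun z => z * s) h2
        simp only [inv_mul_cancel_right₀ hs0, one_mul] at this
        exact this.symm
      rw [h1, h3, mul_inv_cancel_left₀ hs0]
      rfl
    rw [← hσ0, hσ1, map_one]
  -- every outer automorphism is a product
  have hprod : (δ.range : Set (Cfsg.Out ↥(D.group F))) * (φ.range : Set (Cfsg.Out ↥(D.group F))) = Set.univ := by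
    rw [Set.eq_univ_iff_forall]
    intro x
    obtain ⟨θ, rfl⟩ := QuotientGroup.mk_surjective x
    obtain ⟨g, σ, a, ha, hθ⟩ := exists_inner_mul_scalar_mul_field p hA hconn oc hcomp θ
    set a' : Fin D.rank → Fˣ := fun i => Units.mk0 (a i) (ha i i.isLt) with ha'
    have hκ := hθ (diagAut c tc ac hdiv a') (fun i hi t => by
      rw [diagAut_xG_simple c tc ac hdiv a' i hi, extT_lt a' i hi]
      rfl) (fun i hi => diagAut_preserves c tc ac hdiv a' _ (DCert.neg_lt c _ (ac.simple i hi).1))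
    refine ⟨δ a', ⟨a', rfl⟩, φ σ, ⟨σ, rfl⟩, ?_⟩
    show δ a' * φ σ = QuotientGroup.mk θ
    rw [hδ, hφ, hκ, QuotientGroup.mk_mul, QuotientGroup.mk_mul]
    have : (QuotientGroup.mk (MulAut.conj g) : Cfsg.Out ↥(D.group F)) = 1 :=
      (QuotientGroup.eq_one_iff _).mpr ⟨g, rfl⟩
    rw [this, one_mul]
  have hcompl := Subgroup.isComplement'_of_disjoint_and_mul_eq_univ hdisj hprod
  rw [← hcompl.card_mul_card]
  congr 1
  · rw [← Subgroup.index_ker, hker, Subgroup.index_range]
  · exact (Nat.card_congr (MonoidHom.ofInjective hφinj).toEquiv).symm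

end Cfsg.Agent.Lib.Helper18_ChevAutH
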