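import Cfsg.Agent.Lib.Helper18_ChevAutH

set_option autoImplicit false

/-!
Automorphisms of the Chevalley groups over finite fields, ninth part: simply laced diagrams with a symmetry of order
two (type E6).
-/

namespace Cfsg.Agent.Lib.Helper18_ChevAutI

open Cfsg Cfsg.Lie Cfsg.Agent.Lib.Helper18_ChevFast Cfsg.Agent.Lib.Helper18_ChevEngine
  Cfsg.Agent.Lib.Helper18_ChevR1 Cfsg.Agent.Lib.Helper18_ChevN Cfsg.Agent.Lib.Helper18_ChevR4
  Cfsg.Agent.Lib.Helper18_ChevSimple Cfsg.Agent.Lib.Helper18_ChevSimple2 Cfsg.Agent.Lib.Helper18_ChevFacts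
  Cfsg.Agent.Lib.Helper18_ChevWeyl Cfsg.Agent.Lib.Helper18_ChevDiag Cfsg.Agent.Lib.Helper18_ChevCar
  Cfsg.Agent.Lib.Helper18_ChevTorus Cfsg.Agent.Lib.Helper18_ChevGL Cfsg.Agent.Lib.Helper18_ChevComm
  Cfsg.Agent.Lib.Helper18_ChevComm2 Cfsg.Agent.Lib.Helper18_MatTri Cfsg.Agent.Lib.Helper18_ChevTri
  Cfsg.Agent.Lib.Helper18_ChevBorel Cfsg.Agent.Lib.Helper18_ChevAdd Cfsg.Agent.Lib.Helper18_ChevUni
  Cfsg.Agent.Lib.Helper18_ChevBN Cfsg.Agent.Lib.Helper18_ChevMono Cfsg.Agent.Lib.Helper18_ChevBNPair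
  Cfsg.Agent.Lib.Helper18_ChevSimp Cfsg.Agent.Lib.Helper18_ChevJCerts Cfsg.Agent.Lib.Helper18_ChevLevi
  Cfsg.Agent.Lib.Helper18_ChevBruhat Cfsg.Agent.Lib.Helper18_ChevPar Cfsg.Agent.Lib.Helper18_ChevRootHom
  Cfsg.Agent.Lib.Helper18_ChevOrder Cfsg.Agent.Lib.Helper18_ChevSylow Cfsg.Agent.Lib.Helper18_ChevCent
  Cfsg.Agent.Lib.Helper18_ChevFrob Cfsg.Agent.Lib.Helper18_ChevAutA Cfsg.Agent.Lib.Helper18_ChevAutB
  Cfsg.Agent.Lib.Helper18_ChevAutC Cfsg.Agent.Lib.Helper18_ChevAutD Cfsg.Agent.Lib.Helper18_ChevGen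
  Cfsg.Agent.Lib.Helper18_ChevField Cfsg.Agent.Lib.Helper18_ChevAutE Cfsg.Agent.Lib.Helper18_ChevAutF
  Cfsg.Agent.Lib.Helper18_ChevAutG Cfsg.Agent.Lib.Helper18_ChevAutH Cfsg.Agent.Lib.Helper18_TorusKer

open scoped Pointwise

variable {D : ChevalleyDatum} {Ns : List NData} {F : Type*} [Field F]
variable {wl : List ℤ} {ws : List (List ℤ)} {sc : ℤ} {w : List ℤ} {d : ℕ} {w0 : List ℕ}

/-! ### The permutation of the nodes given by an automorphism -/

/-- A map of the nodes along which an automorphism maps the fundamental root subgroups is injective and preserves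
adjacency. -/
theorem perm_props_of_maps (c : DCert D Ns) (tc : TCert D) (ac : ACert D wl ws sc) (hR2 : R2All D F)
    (hsl : SLCert D) (θ : MulAut ↥(D.group F)) (ρ : ℕ → ℕ) (hρ : ∀ i < D.rank, ρ i < D.rank)
    (hmaps : ∀ i < D.rank, Preserves' θ (D.rootSubgroup F (D.simple i)) (D.rootSubgroup F (D.simple (ρ i)))) :
    (∀ i < D.rank, ∀ k < D.rank, ρ i = ρ k → i = k) ∧
      ∀ i < D.rank, ∀ k < D.rank, adjB D (ρ i) (ρ k) = adjB D i k := by
  have hinj : ∀ i < D.rank, ∀ k < D.rank, ρ i = ρ k → i = k := by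
    intro i hi k hk hik
    have h1 := hmaps i hi
    have h2 := hmaps k hk
    rw [← hik] at h2
    have := root_eq_of_maps c tc ac θ (ac.simple i hi).1 (ac.simple k hk).1 h1 h2
    exact simple_inj tc hi hk this.symm
  refine ⟨hinj, ?_⟩
  intro i hi k hk
  by_cases hik : i = k
  · subst hik
    unfold adjB
    simp
  · have hne : ρ i ≠ ρ k := fun h => hik (hinj i hi k hk h)
    have h1 := comm_simple_iff c tc ac hR2 hsl hi hk hik
    have h2 := comm_simple_iff c tc ac hR2 hsl (hρ i hi) (hρ k hk) hne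
    have h3 := comm_iff_of_maps c θ (hmaps i hi) (hmaps k hk)
    unfold adjB
    rw [decide_eq_true hik, decide_eq_true hne, Bool.true_and, Bool.true_and]
    congr 1
    rw [decide_eq_decide, ← h1, ← h2, h3]

theorem surj_of_inj (n : ℕ) (ρ : ℕ → ℕ) (hρ : ∀ i < n, ρ i < n) (hinj : ∀ i < n, ∀ k < n, ρ i = ρ k → i = k)
    (j : ℕ) (hj : j < n) : ∃ i < n, ρ i = j := by
  have himg : (Finset.range n).image ρ = Finset.range n := by
    apply Finset.eq_of_subset_of_card_le
    · intro x hx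
      rw [Finset.mem_image] at hx
      obtain ⟨y, hy, rfl⟩ := hx
      exact Finset.mem_range.mpr (hρ y (Finset.mem_range.mp hy))
    · rw [Finset.card_image_of_injOn]
      intro x hx y hy hxy
      exact hinj x (Finset.mem_range.mp hx) y (Finset.mem_range.mp hy) hxy
  have : j ∈ (Finset.range n).image ρ := by
    rw [himg]
    exact Finset.mem_range.mpr hj
  rw [Finset.mem_image] at this
  obtain ⟨i, hi, e⟩ := this
  exact ⟨i, Finset.mem_range.mp hi, e⟩

/-- An automorphism that preserves `U` and `V` permutes the root subgroups of the fundamental roots and of their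
negatives, by the same permutation of the nodes, which preserves adjacency. -/
theorem exists_perm_of_aut (c : DCert D Ns) (tc : TCert D) (ac : ACert D wl ws sc) (gc : GCert D w d)
    (hdesc : Descent D) (hR2 : R2All D F) (hw : W0Cert D w0) (hws : W0Simple D w0) (hsl : SLCert D)
    (θ : MulAut ↥(D.group F))
    (hU : Preserves θ (D.posUnipotent F)) (hV : Preserves θ (D.negUnipotent F)) :
    ∃ ρ : ℕ → ℕ, (∀ i < D.rank, ρ i < D.rank) ∧
      (∀ i < D.rank, Preserves' θ (D.rootSubgroup F (D.simple i)) (D.rootSubgroup F (D.simple (ρ i)))) ∧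
      (∀ i < D.rank, Preserves' θ (D.rootSubgroup F (D.neg (D.simple i)))
        (D.rootSubgroup F (D.neg (D.simple (ρ i))))) := by
  classical
  have hex := fun (i : ℕ) (hi : i < D.rank) =>
    exists_pos_simple_of_aut c tc ac gc hdesc hR2 hw hws θ hU hV i hi
  set ρ : ℕ → ℕ := fun i => if hi : i < D.rank then Classical.choose (hex i hi) else i with hρdef
  have hρ1 : ∀ i (hi : i < D.rank), ρ i < D.rank ∧
      Preserves' θ (D.rootSubgroup F (D.simple i)) (D.rootSubgroup F (D.simple (ρ i))) := by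
    intro i hi
    have := Classical.choose_spec (hex i hi)
    simp only [hρdef, dif_pos hi]
    exact this
  have hρ : ∀ i < D.rank, ρ i < D.rank := fun i hi => (hρ1 i hi).1
  have hmaps := fun i hi => (hρ1 i hi).2
  obtain ⟨hinj, -⟩ := perm_props_of_maps c tc ac hR2 hsl θ ρ hρ hmaps
  refine ⟨ρ, hρ, hmaps, ?_⟩
  intro k hk
  obtain ⟨j, hj, hP⟩ := exists_neg_simple_of_aut c tc ac gc hdesc hR2 θ hU hV k hk
  obtain ⟨i, hi, hij⟩ := surj_of_inj D.rank ρ hρ hinj j hj
  by_cases hik : i = k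
  · rw [← hik, hij]
    rw [← hik] at hP
    exact hP
  · exfalso
    have h1 := comm_simple_neg_simple c tc ac hR2 hi hk hik
    have h2 := hmaps i hi
    rw [hij] at h2
    exact not_comm_simple_neg c tc ac hj (comm_of_maps c θ h2 hP h1)

/-! ### Pointed rigidity -/

/-- The number of walks of length `m` from the node `i` to the node `k`. -/
def walkTo (adj : ℕ → ℕ → Bool) (n k : ℕ) : ℕ → ℕ → ℕ
  | 0, i => if i = k then 1 else 0
  | m + 1, i => ((List.range n).map fun j => if adj i j then walkTo adj n k m j else 0).sum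

theorem walkTo_perm (adj : ℕ → ℕ → Bool) (n k : ℕ) (hk : k < n) (ρ : ℕ → ℕ) (hρ : ∀ i < n, ρ i < n)
    (hinj : ∀ i < n, ∀ k < n, ρ i = ρ k → i = k) (hadj : ∀ i < n, ∀ k < n, adj (ρ i) (ρ k) = adj i k)
    (hfix : ρ k = k) : ∀ m, ∀ i < n, walkTo adj n k m (ρ i) = walkTo adj n k m i := by
  have himg : (Finset.range n).image ρ = Finset.range n := by
    apply Finset.eq_of_subset_of_card_le
    · intro x hx
      rw [Finset.mem_image] at hx
      obtain ⟨y, hy, rfl⟩ := hx
      exact Finset.mem_range.mpr (hρ y (Finset.mem_range.mp hy))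
    · rw [Finset.card_image_of_injOn]
      intro x hx y hy hxy
      exact hinj x (Finset.mem_range.mp hx) y (Finset.mem_range.mp hy) hxy
  intro m
  induction m with
  | zero =>
    intro i hi
    show (if ρ i = k then 1 else 0) = if i = k then 1 else 0
    by_cases hik : i = k
    · rw [if_pos hik, hik, if_pos hfix]
    · rw [if_neg hik, if_neg]
      intro h
      rw [← hfix] at h
      exact hik (hinj i hi k hk h)
  | succ m ih =>
    intro i hi
    show ((List.range n).map fun j => if adj (ρ i) j then walkTo adj n k m j else 0).sum =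
      ((List.range n).map fun j => if adj i j then walkTo adj n k m j else 0).sum
    rw [list_sum_range, list_sum_range]
    conv_lhs => rw [← himg]
    rw [Finset.sum_image]
    · apply Finset.sum_congr rfl
      intro j hj
      rw [hadj i hi j (Finset.mem_range.mp hj), ih j (Finset.mem_range.mp hj)]
    · intro x hx y hy hxy
      exact hinj x (Finset.mem_range.mp hx) y (Finset.mem_range.mp hy) hxy

/-- The nodes of the diagram are told apart by the numbers of walks of length at most 5 to the node `k`. -/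
def PointedRigid (D : ChevalleyDatum) (k : ℕ) : Prop :=
  k < D.rank ∧ ∀ i < D.rank, ∀ j < D.rank,
    i = j ∨ ∃ m < 6, walkTo (adjB D) D.rank k m i ≠ walkTo (adjB D) D.rank k m j

instance (D : ChevalleyDatum) (k : ℕ) : Decidable (PointedRigid D k) := by
  unfold PointedRigid
  infer_instance

theorem eq_of_pointedRigid {k : ℕ} (hrig : PointedRigid D k) (ρ : ℕ → ℕ) (hρ : ∀ i < D.rank, ρ i < D.rank)
    (hinj : ∀ i < D.rank, ∀ k < D.rank, ρ i = ρ k → i = k)
    (hadj : ∀ i < D.rank, ∀ k < D.rank, adjB D (ρ i) (ρ k) = adjB D i k) (hfix : ρ k = k) (i : ℕ)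
    (hi : i < D.rank) : ρ i = i := by
  rcases hrig.2 (ρ i) (hρ i hi) i hi with h | ⟨m, -, hm⟩
  · exact h
  · exact absurd (walkTo_perm (adjB D) D.rank k hrig.1 ρ hρ hinj hadj hfix m i hi) hm

/-- The nodes with the same numbers of walks as the node `k` are `k` and `k'`. -/
def OrbitCert (D : ChevalleyDatum) (k k' : ℕ) : Prop :=
  k < D.rank ∧ k' < D.rank ∧ ∀ i < D.rank, i = k ∨ i = k' ∨
    ∃ m < 4, walk (adjB D) D.rank m i ≠ walk (adjB D) D.rank m k

instance (D : ChevalleyDatum) (k k' : ℕ) : Decidable (OrbitCert D k k') := by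
  unfold OrbitCert
  infer_instance

theorem mem_orbit {k k' : ℕ} (horb : OrbitCert D k k') (ρ : ℕ → ℕ) (hρ : ∀ i < D.rank, ρ i < D.rank)
    (hinj : ∀ i < D.rank, ∀ k < D.rank, ρ i = ρ k → i = k)
    (hadj : ∀ i < D.rank, ∀ k < D.rank, adjB D (ρ i) (ρ k) = adjB D i k) : ρ k = k ∨ ρ k = k' := by
  rcases horb.2.2 (ρ k) (hρ k horb.1) with h | h | ⟨m, -, hm⟩
  · exact Or.inl h
  · exact Or.inr h
  · exact absurd (walk_perm (adjB D) D.rank ρ hρ hinj hadj m k horb.1) hm


/-! ### Automorphisms preserving the fundamental root subgroups -/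

/-- The data on a simply laced Chevalley datum used for the automorphisms (without rigidity of the diagram). -/
structure AutBase (D : ChevalleyDatum) (Ns : List NData) (wl : List ℤ) (ws : List (List ℤ)) (sc : ℤ) (w : List ℤ)
    (d : ℕ) (w0 : List ℕ) (F : Type*) [Field F] : Prop where
  c : DCert D Ns
  tc : TCert D
  ac : ACert D wl ws sc
  gc : GCert D w d
  hdesc : Descent D
  hR2 : R2All D F
  hw : W0Cert D w0
  hws : W0Simple D w0
  hsl : SLCert D

/-- An automorphism that preserves the root subgroups of the fundamental roots and of their negatives is the product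
of an automorphism acting on the fundamental root subgroups by scalars and a field automorphism. -/
theorem eq_scalar_mul_field_of_preserves (A : AutBase D Ns wl ws sc w d w0 F) {parC depC : List ℕ}
    (hconn : ConnCert D parC depC)
    {b0 : ℕ} {hasLong : Bool} {c0 a0 b1 : ℕ} {C : ℤ} {par : List (ℕ × ℕ)} {dep comp : List ℕ}
    (oc : OCert D b0 hasLong c0 a0 b1 C par dep comp) (hcomp : ∀ r < D.nroots, comp.getD r 2 = 0)
    (θ : MulAut ↥(D.group F))
    (hpos : ∀ i < D.rank, Preserves θ (D.rootSubgroup F (D.simple i)))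
    (hneg : ∀ i < D.rank, Preserves θ (D.rootSubgroup F (D.neg (D.simple i)))) :
    ∃ (σ : F ≃+* F) (a : ℕ → F), (∀ i < D.rank, a i ≠ 0) ∧
      ∀ κ : MulAut ↥(D.group F),
        (∀ i < D.rank, ∀ t : F, κ (xG A.c (D.simple i) t) = xG A.c (D.simple i) (a i * t)) →
        (∀ i < D.rank, Preserves κ (D.rootSubgroup F (D.neg (D.simple i)))) →
        θ = κ * fieldAutOf A.c σ := by
  obtain ⟨c, tc, ac, gc, hdesc, hR2, hw, hws, hsl⟩ := A
  have h0 : 0 < D.rank := by have := hconn.1; omega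
  obtain ⟨σ, a', ha', hσ⟩ := exists_field_of_preserves c tc ac hR2 hsl hconn θ hpos
  refine ⟨σ, a', ha', fun κ hκ hκneg => ?_⟩
  set φ := fieldAutOf c σ with hφ
  set θ₃ := κ⁻¹ * θ * φ⁻¹ with hθ₃
  have hφinv : ∀ (r : ℕ) (t : F), φ⁻¹ (xG c r t) = xG c r ((σ⁻¹ : RingAut F) t) := by
    intro r t
    rw [MulAut.inv_apply, MulEquiv.symm_apply_eq, hφ, fieldAutOf_xG]
    congr 1
    exact (RingEquiv.apply_symm_apply σ t).symm
  have hfixpos : ∀ i < D.rank, ∀ t : F, θ₃ (xG c (D.simple i) t) = xG c (D.simple i) t := by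
    intro i hi t
    rw [hθ₃, MulAut.mul_apply, MulAut.mul_apply, hφinv, hσ i hi]
    have e1 : σ ((σ⁻¹ : RingAut F) t) = t := RingEquiv.apply_symm_apply σ t
    rw [e1, MulAut.inv_apply, MulEquiv.symm_apply_eq, hκ i hi]
  have hnegpres : ∀ i < D.rank, Preserves θ₃ (D.rootSubgroup F (D.neg (D.simple i))) := by
    intro i hi
    exact (((hκneg i hi).inv).mul (hneg i hi)).mul (fieldAutOf_preserves c σ _).inv
  have hone : θ₃ = 1 := by
    apply eq_one_of_fix oc c ac hcomp h0
    intro i hi t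
    exact ⟨hfixpos i hi t, fix_neg_of_fix_pos c tc ac gc θ₃ i hi (hfixpos i hi) (hnegpres i hi) t⟩
  have : κ * θ₃ * φ = κ * φ := by rw [hone, mul_one]
  rw [← this, hθ₃]
  group

/-! ### A diagram with a symmetry of order two -/

/-- The graph automorphism: an automorphism permuting the root elements of the fundamental roots and of their
negatives along an involution `τ` of the nodes. -/
structure GraphAut (c : DCert D Ns) (τ : ℕ → ℕ) (α : MulAut ↥(D.group F)) : Prop where
  lt : ∀ i < D.rank, τ i < D.rank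
  invol : ∀ i < D.rank, τ (τ i) = i
  pos : ∀ i < D.rank, ∀ t : F, α (xG c (D.simple i) t) = xG c (D.simple (τ i)) t
  neg : ∀ i < D.rank, ∀ t : F, α (xG c (D.neg (D.simple i)) t) = xG c (D.neg (D.simple (τ i))) t
  presU : Preserves α (D.posUnipotent F)
  presV : Preserves α (D.negUnipotent F)

theorem maps_of_xG (c : DCert D Ns) (α β : MulAut ↥(D.group F)) (hβ : ∀ x, β (α x) = x) (r s : ℕ)
    (h : ∀ t : F, α (xG c r t) = xG c s t) (h' : ∀ t : F, β (xG c s t) = xG c r t) :
    Preserves' α (D.rootSubgroup F r) (D.rootSubgroup F s) := by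
  intro x
  rw [mem_rootSubgroup_iff c, mem_rootSubgroup_iff c]
  constructor
  · rintro ⟨t, ht⟩
    refine ⟨t, ?_⟩
    have h1 : α x = xG c s t := Subtype.ext ht
    have h2 := congrArg β h1
    rw [hβ, h'] at h2
    exact congrArg Subtype.val h2
  · rintro ⟨t, ht⟩
    refine ⟨t, ?_⟩
    have h1 : x = xG c r t := Subtype.ext ht
    rw [h1, h]
    rfl

variable {τ : ℕ → ℕ} {α : MulAut ↥(D.group F)}

theorem GraphAut.sq {b0 : ℕ} {hasLong : Bool} {c0 a0 b1 : ℕ} {C : ℤ} {par : List (ℕ × ℕ)} {dep comp : List ℕ}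
    (oc : OCert D b0 hasLong c0 a0 b1 C par dep comp) (hcomp : ∀ r < D.nroots, comp.getD r 2 = 0)
    (h0 : 0 < D.rank) {c : DCert D Ns} (ac : ACert D wl ws sc) (hα : GraphAut c τ α) : α * α = 1 := by
  apply eq_one_of_fix oc c ac hcomp h0
  intro i hi t
  constructor
  · rw [MulAut.mul_apply, hα.pos i hi, hα.pos _ (hα.lt i hi), hα.invol i hi]
  · rw [MulAut.mul_apply, hα.neg i hi, hα.neg _ (hα.lt i hi), hα.invol i hi]

theorem GraphAut.maps_pos {b0 : ℕ} {hasLong : Bool} {c0 a0 b1 : ℕ} {C : ℤ} {par : List (ℕ × ℕ)}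
    {dep comp : List ℕ}
    (oc : OCert D b0 hasLong c0 a0 b1 C par dep comp) (hcomp : ∀ r < D.nroots, comp.getD r 2 = 0)
    (h0 : 0 < D.rank) {c : DCert D Ns} (ac : ACert D wl ws sc) (hα : GraphAut c τ α) (i : ℕ) (hi : i < D.rank) :
    Preserves' α (D.rootSubgroup F (D.simple i)) (D.rootSubgroup F (D.simple (τ i))) := by
  have hsq := hα.sq oc hcomp h0 ac
  apply maps_of_xG c α α _ _ _ (hα.pos i hi)
  · intro t
    rw [hα.pos _ (hα.lt i hi), hα.invol i hi]
  · intro x
    rw [← MulAut.mul_apply, hsq, MulAut.one_apply]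

theorem GraphAut.maps_neg {b0 : ℕ} {hasLong : Bool} {c0 a0 b1 : ℕ} {C : ℤ} {par : List (ℕ × ℕ)}
    {dep comp : List ℕ}
    (oc : OCert D b0 hasLong c0 a0 b1 C par dep comp) (hcomp : ∀ r < D.nroots, comp.getD r 2 = 0)
    (h0 : 0 < D.rank) {c : DCert D Ns} (ac : ACert D wl ws sc) (hα : GraphAut c τ α) (i : ℕ) (hi : i < D.rank) :
    Preserves' α (D.rootSubgroup F (D.neg (D.simple i))) (D.rootSubgroup F (D.neg (D.simple (τ i)))) := by
  have hsq := hα.sq oc hcomp h0 ac
  apply maps_of_xG c α α _ _ _ (hα.neg i hi)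
  · intro t
    rw [hα.neg _ (hα.lt i hi), hα.invol i hi]
  · intro x
    rw [← MulAut.mul_apply, hsq, MulAut.one_apply]

theorem GraphAut.comm_field {b0 : ℕ} {hasLong : Bool} {c0 a0 b1 : ℕ} {C : ℤ} {par : List (ℕ × ℕ)}
    {dep comp : List ℕ}
    (oc : OCert D b0 hasLong c0 a0 b1 C par dep comp) (hcomp : ∀ r < D.nroots, comp.getD r 2 = 0)
    (h0 : 0 < D.rank) {c : DCert D Ns} (ac : ACert D wl ws sc) (hα : GraphAut c τ α) (σ : F ≃+* F) :
    α * fieldAutOf c σ = fieldAutOf c σ * α := by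
  have : (fieldAutOf c σ * α)⁻¹ * (α * fieldAutOf c σ) = 1 := by
    apply eq_one_of_fix oc c ac hcomp h0
    intro i hi t
    constructor
    · rw [MulAut.mul_apply, MulAut.inv_apply, MulEquiv.symm_apply_eq, MulAut.mul_apply, MulAut.mul_apply,
        fieldAutOf_xG, hα.pos i hi, hα.pos i hi, fieldAutOf_xG]
    · rw [MulAut.mul_apply, MulAut.inv_apply, MulEquiv.symm_apply_eq, MulAut.mul_apply, MulAut.mul_apply,
        fieldAutOf_xG, hα.neg i hi, hα.neg i hi, fieldAutOf_xG]
  have h2 := congrArg (fun ψ => (fieldAutOf c σ * α) * ψ) this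
  simp only [mul_inv_cancel_left, mul_one] at h2
  exact h2


/-- Every automorphism is the product of an inner automorphism, an automorphism acting on the fundamental root
subgroups by scalars, a field automorphism and a power of the graph automorphism. -/
theorem exists_inner_scalar_field_graph [Fintype F] (p : ℕ) [Fact p.Prime] [CharP F p]
    (A : AutBase D Ns wl ws sc w d w0 F) {parC depC : List ℕ} (hconn : ConnCert D parC depC)
    {b0 : ℕ} {hasLong : Bool} {c0 a0 b1 : ℕ} {C : ℤ} {par : List (ℕ × ℕ)} {dep comp : List ℕ}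
    (oc : OCert D b0 hasLong c0 a0 b1 C par dep comp) (hcomp : ∀ r < D.nroots, comp.getD r 2 = 0)
    {k' : ℕ} (horb : OrbitCert D 0 k') (hprig : PointedRigid D 0) (hα : GraphAut A.c τ α) (hτ0 : τ 0 = k')
    (θ : MulAut ↥(D.group F)) :
    ∃ (g : ↥(D.group F)) (β : MulAut ↥(D.group F)) (σ : F ≃+* F) (a : ℕ → F), (β = 1 ∨ β = α) ∧
      (∀ i < D.rank, a i ≠ 0) ∧
      ∀ κ : MulAut ↥(D.group F),
        (∀ i < D.rank, ∀ t : F, κ (xG A.c (D.simple i) t) = xG A.c (D.simple i) (a i * t)) →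
        (∀ i < D.rank, Preserves κ (D.rootSubgroup F (D.neg (D.simple i)))) →
        θ = MulAut.conj g * κ * fieldAutOf A.c σ * β := by
  have hA := A
  obtain ⟨c, tc, ac, gc, hdesc, hR2, hw, hws, hsl⟩ := A
  have h0 : 0 < D.rank := by have := hconn.1; omega
  obtain ⟨a₁, hU₁⟩ := exists_conj_preserves_pos p c tc ac gc hdesc hR2 θ
  obtain ⟨b, -, hU₂, hV₂⟩ := exists_conj_preserves_neg c tc ac gc hdesc hR2 hw (MulAut.conj a₁ * θ) hU₁
  set θ₂ := MulAut.conj b * (MulAut.conj a₁ * θ) with hθ₂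
  have hθ : θ = MulAut.conj (a₁⁻¹ * b⁻¹) * θ₂ := by
    rw [hθ₂, map_mul, map_inv, map_inv]
    group
  obtain ⟨ρ, hρ, hmp, hmn⟩ := exists_perm_of_aut c tc ac gc hdesc hR2 hw hws hsl θ₂ hU₂ hV₂
  obtain ⟨hinj, hadj⟩ := perm_props_of_maps c tc ac hR2 hsl θ₂ ρ hρ hmp
  rcases mem_orbit horb ρ hρ hinj hadj with h | h
  · -- the permutation is the identity
    have hid := eq_of_pointedRigid hprig ρ hρ hinj hadj h
    have hpos : ∀ i < D.rank, Preserves θ₂ (D.rootSubgroup F (D.simple i)) := by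
      intro i hi
      have := hmp i hi
      rwa [hid i hi] at this
    have hneg : ∀ i < D.rank, Preserves θ₂ (D.rootSubgroup F (D.neg (D.simple i))) := by
      intro i hi
      have := hmn i hi
      rwa [hid i hi] at this
    obtain ⟨σ, a, ha, hκ⟩ := eq_scalar_mul_field_of_preserves hA hconn oc hcomp θ₂ hpos hneg
    refine ⟨a₁⁻¹ * b⁻¹, 1, σ, a, Or.inl rfl, ha, fun κ h1 h2 => ?_⟩
    rw [hθ, hκ κ h1 h2, mul_one, mul_assoc]
  · -- the permutation is the symmetry of the diagram
    have hsq := hα.sq oc hcomp h0 ac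
    set θ₃ := θ₂ * α with hθ₃
    have hρ' : ∀ i < D.rank, ρ (τ i) < D.rank := fun i hi => hρ _ (hα.lt i hi)
    have hmp' : ∀ i < D.rank,
        Preserves' θ₃ (D.rootSubgroup F (D.simple i)) (D.rootSubgroup F (D.simple (ρ (τ i)))) :=
      fun i hi => preserves'_mul (hmp _ (hα.lt i hi)) (hα.maps_pos oc hcomp h0 ac i hi)
    have hmn' : ∀ i < D.rank, Preserves' θ₃ (D.rootSubgroup F (D.neg (D.simple i)))
        (D.rootSubgroup F (D.neg (D.simple (ρ (τ i))))) :=
      fun i hi => preserves'_mul (hmn _ (hα.lt i hi)) (hα.maps_neg oc hcomp h0 ac i hi)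
    obtain ⟨hinj', hadj'⟩ := perm_props_of_maps c tc ac hR2 hsl θ₃ (fun i => ρ (τ i)) hρ' hmp'
    have hfix : ρ (τ 0) = 0 := by
      rw [hτ0]
      obtain ⟨i, hi, hi0⟩ := surj_of_inj D.rank ρ hρ hinj 0 h0
      rcases horb.2.2 i hi with h1 | h1 | ⟨m, -, hm⟩
      · rw [h1] at hi0
        have hk0 : k' = 0 := h.symm.trans hi0
        rw [hk0]
        exact hi0
      · rw [← h1]
        exact hi0
      · exfalso
        apply hm
        rw [← walk_perm (adjB D) D.rank ρ hρ hinj hadj m i hi, hi0]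
    have hid := eq_of_pointedRigid hprig (fun i => ρ (τ i)) hρ' hinj' hadj' hfix
    have hpos : ∀ i < D.rank, Preserves θ₃ (D.rootSubgroup F (D.simple i)) := by
      intro i hi
      have := hmp' i hi
      rwa [hid i hi] at this
    have hneg : ∀ i < D.rank, Preserves θ₃ (D.rootSubgroup F (D.neg (D.simple i))) := by
      intro i hi
      have := hmn' i hi
      rwa [hid i hi] at this
    obtain ⟨σ, a, ha, hκ⟩ := eq_scalar_mul_field_of_preserves hA hconn oc hcomp θ₃ hpos hneg
    refine ⟨a₁⁻¹ * b⁻¹, α, σ, a, Or.inr rfl, ha, fun κ h1 h2 => ?_⟩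
    have e1 : θ₂ = κ * fieldAutOf c σ * α := by
      have : θ₃ * α = κ * fieldAutOf c σ * α := by rw [hκ κ h1 h2]
      rw [hθ₃, mul_assoc, hsq, mul_one] at this
      exact this
    rw [hθ, e1]
    simp only [mul_assoc]


/-! ### The order of the group of outer automorphisms -/

/-- If an inner automorphism is the product of the inverse of a field automorphism and a diagonal automorphism, the
field automorphism is trivial. -/
theorem field_eq_one_of_conj (c : DCert D Ns) (tc : TCert D) (ac : ACert D wl ws sc) (gc : GCert D w d)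
    (hR2 : R2All D F) (hw : W0Cert D w0) (hdiv : DivCert D ws sc) (h0 : 0 < D.rank) (g : ↥(D.group F))
    (σ : F ≃+* F) (a : Fin D.rank → Fˣ)
    (hg : MulAut.conj g = (fieldAutOf c σ)⁻¹ * diagAut c tc ac hdiv a) : σ = 1 := by
  have hU : Preserves (MulAut.conj g) (D.posUnipotent F) := by
    rw [hg]
    exact ((fieldAutOf_preserves_closure c σ D.IsPosRoot).inv).mul (conjAut_preserves_pos c _ _)
  have hV : Preserves (MulAut.conj g) (D.negUnipotent F) := by
    rw [hg]
    exact ((fieldAutOf_preserves_closure c σ D.IsNegRoot).inv).mul (conjAut_preserves_neg c _ _)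
  have hgH := mem_diagonal_of_preserves c tc ac gc hR2 hw g hU hV
  obtain ⟨s, hs0, hs⟩ := actsAs_diagonal c tc _ hgH (D.simple 0) (ac.simple 0 h0).1 |>.2
  have hp := (ac.simple 0 h0).1
  have key : ∀ t : F, fieldAutOf c σ (xG c (D.simple 0) (s * t)) = xG c (D.simple 0) (extT D a 0 * t) := by
    intro t
    have h1 : MulAut.conj g (xG c (D.simple 0) t) = xG c (D.simple 0) (s * t) := Subtype.ext (hs t)
    have h2 := congrArg (fun ψ : MulAut ↥(D.group F) => ψ (xG c (D.simple 0) t)) hg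
    simp only [MulAut.mul_apply] at h2
    rw [h1, diagAut_xG_simple c tc ac hdiv a 0 h0, MulAut.inv_apply, MulEquiv.eq_symm_apply] at h2
    exact h2
  have key' : ∀ t : F, σ (s * t) = extT D a 0 * t := by
    intro t
    have := key t
    rw [fieldAutOf_xG] at this
    exact xG_inj c tc ac hp this
  ext t
  have h1 := key' (s⁻¹ * t)
  rw [mul_inv_cancel_left₀ hs0] at h1
  have h2 := key' s⁻¹
  rw [mul_inv_cancel₀ hs0, map_one] at h2
  have h3 : extT D a 0 = s := by
    have := congrArg (fun z => z * s) h2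
    simp only [inv_mul_cancel_right₀ hs0, one_mul] at this
    exact this.symm
  rw [h1, h3, mul_inv_cancel_left₀ hs0]
  rfl

theorem mem_zpowers_of_sq {Γ : Type*} [Group Γ] {x y : Γ} (hx : x * x = 1) (hy : y ∈ Subgroup.zpowers x) :
    y = 1 ∨ y = x := by
  obtain ⟨k, rfl⟩ := Subgroup.mem_zpowers_iff.mp hy
  have h2 : x ^ (2 : ℤ) = 1 := by
    rw [zpow_ofNat, pow_two, hx]
  rw [zpow_eq_zpow_emod k h2]
  have h3 : k % 2 = 0 ∨ k % 2 = 1 := by omega
  rcases h3 with h | h
  · left
    rw [h, zpow_zero]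
  · right
    rw [h, zpow_one]

/-- For a simply laced diagram with a symmetry of order two, the order of the group of outer automorphisms. -/
theorem card_out_graph [Fintype F] (p : ℕ) [Fact p.Prime] [CharP F p]
    (A : AutBase D Ns wl ws sc w d w0 F) (hdiv : DivCert D ws sc) {parC depC : List ℕ}
    (hconn : ConnCert D parC depC)
    {b0 : ℕ} {hasLong : Bool} {c0 a0 b1 : ℕ} {C : ℤ} {par : List (ℕ × ℕ)} {dep comp : List ℕ}
    (oc : OCert D b0 hasLong c0 a0 b1 C par dep comp) (hcomp : ∀ r < D.nroots, comp.getD r 2 = 0)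
    {k' : ℕ} (horb : OrbitCert D 0 k') (hprig : PointedRigid D 0) (hα : GraphAut A.c τ α) (hτ0 : τ 0 = k')
    (hk' : k' ≠ 0) :
    Nat.card (Cfsg.Out ↥(D.group F)) = Nat.card (cartanHom D F).ker * (Nat.card (RingAut F) * 2) := by
  have h0 : 0 < D.rank := by have := hconn.1; omega
  have hA := A
  obtain ⟨c, tc, ac, gc, hdesc, hR2, hw, hws, hsl⟩ := A
  have hsq := hα.sq oc hcomp h0 ac
  let δ : (Fin D.rank → Fˣ) →* Cfsg.Out ↥(D.group F) :=
    (QuotientGroup.mk' (Cfsg.Inn ↥(D.group F))).comp (diagHom c tc ac hdiv)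
  let φ : RingAut F →* Cfsg.Out ↥(D.group F) :=
    (QuotientGroup.mk' (Cfsg.Inn ↥(D.group F))).comp (fieldAutHom c)
  let γ : ↥(Subgroup.zpowers α) →* Cfsg.Out ↥(D.group F) :=
    (QuotientGroup.mk' (Cfsg.Inn ↥(D.group F))).comp (Subgroup.zpowers α).subtype
  have hδ : ∀ a, δ a = (QuotientGroup.mk (diagAut c tc ac hdiv a) : Cfsg.Out ↥(D.group F)) := fun _ => rfl
  have hφ : ∀ σ, φ σ = (QuotientGroup.mk (fieldAutOf c σ) : Cfsg.Out ↥(D.group F)) := fun _ => rfl
  have hγ : ∀ β : ↥(Subgroup.zpowers α), γ β = (QuotientGroup.mk (β : MulAut ↥(D.group F)) :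
      Cfsg.Out ↥(D.group F)) := fun _ => rfl
  have hβ : ∀ β : ↥(Subgroup.zpowers α), (β : MulAut ↥(D.group F)) = 1 ∨ (β : MulAut ↥(D.group F)) = α :=
    fun β => mem_zpowers_of_sq hsq β.2
  have hcomm : ∀ (σ : RingAut F) (β : ↥(Subgroup.zpowers α)), Commute (φ σ) (γ β) := by
    intro σ β
    have h1 : Commute (fieldAutOf c σ) (β : MulAut ↥(D.group F)) := by
      rcases hβ β with h | h
      · rw [h]
        exact Commute.one_right _
      · rw [h]
        exact (hα.comm_field oc hcomp h0 ac σ).symm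
    exact h1.map (QuotientGroup.mk' (Cfsg.Inn ↥(D.group F)))
  let ψ : RingAut F × ↥(Subgroup.zpowers α) →* Cfsg.Out ↥(D.group F) := MonoidHom.noncommCoprod φ γ hcomm
  have hψ : ∀ σ β, ψ (σ, β) = φ σ * γ β := fun σ β => MonoidHom.noncommCoprod_apply φ γ hcomm (σ, β)
  -- the kernel of `δ`
  have hker : δ.ker = (cartanHom D F).range := by
    ext a
    rw [MonoidHom.mem_ker, hδ, QuotientGroup.eq_one_iff]
    constructor
    · exact mem_range_of_diagAut_mem_inn c tc ac gc hR2 hw hdiv a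
    · rintro ⟨τ', rfl⟩
      exact diagAut_cartanHom_mem_inn oc hcomp h0 c tc ac gc hdiv τ'
  -- the core of the argument
  have core : ∀ (a : Fin D.rank → Fˣ) (σ : RingAut F) (β : ↥(Subgroup.zpowers α)),
      δ a = φ σ * γ β → β = 1 ∧ σ = 1 := by
    intro a σ β h
    rw [hδ, hφ, hγ, ← QuotientGroup.mk_mul, QuotientGroup.eq] at h
    obtain ⟨g, hg⟩ := h
    have hβU : Preserves (β : MulAut ↥(D.group F)) (D.posUnipotent F) := by
      rcases hβ β with h | h
      · rw [h]
        intro x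
        rfl
      · rw [h]
        exact hα.presU
    have hβV : Preserves (β : MulAut ↥(D.group F)) (D.negUnipotent F) := by
      rcases hβ β with h | h
      · rw [h]
        intro x
        rfl
      · rw [h]
        exact hα.presV
    have hU : Preserves (MulAut.conj g) (D.posUnipotent F) := by
      rw [hg]
      exact ((conjAut_preserves_pos c _ _).inv).mul ((fieldAutOf_preserves_closure c σ D.IsPosRoot).mul hβU)
    have hV : Preserves (MulAut.conj g) (D.negUnipotent F) := by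
      rw [hg]
      exact ((conjAut_preserves_neg c _ _).inv).mul ((fieldAutOf_preserves_closure c σ D.IsNegRoot).mul hβV)
    have hgH := mem_diagonal_of_preserves c tc ac gc hR2 hw g hU hV
    have hact : ActsAs c ((g : ↥(D.group F)) : GL D.Idx F) id := actsAs_diagonal c tc _ hgH
    have hp0 := (ac.simple 0 h0).1
    -- `β` preserves the root subgroup of the first fundamental root
    have hβeq : (β : MulAut ↥(D.group F)) = (fieldAutOf c σ)⁻¹ * (diagAut c tc ac hdiv a * MulAut.conj g) := by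
      rw [hg]
      group
    have hβpres : Preserves (β : MulAut ↥(D.group F)) (D.rootSubgroup F (D.simple 0)) := by
      rw [hβeq]
      exact ((fieldAutOf_preserves c σ _).inv).mul
        ((diagAut_preserves c tc ac hdiv a _ hp0).mul (preserves_conj_of_actsAs c g hact _ hp0))
    have hβ1 : (β : MulAut ↥(D.group F)) = 1 := by
      rcases hβ β with h | h
      · exact h
      · exfalso
        rw [h] at hβpres
        have h1 := hα.maps_pos oc hcomp h0 ac 0 h0
        rw [hτ0] at h1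
        have h2 := root_eq_of_maps c tc ac α⁻¹ (ac.simple k' horb.2.1).1 hp0 (preserves'_inv h1)
          (preserves'_inv hβpres)
        exact hk' (simple_inj tc horb.2.1 h0 h2.symm)
    refine ⟨Subtype.ext hβ1, ?_⟩
    rw [hβ1, mul_one] at hg
    -- now `conj g⁻¹ = φ_σ⁻¹ δ_a`
    apply field_eq_one_of_conj c tc ac gc hR2 hw hdiv h0 g⁻¹ σ a
    rw [map_inv, hg]
    group
  -- `ψ` is injective
  have hψinj : Function.Injective ψ := by
    rw [injective_iff_map_eq_one]
    rintro ⟨σ, β⟩ h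
    rw [hψ] at h
    have h1 : δ 1 = φ σ * γ β := by rw [map_one, h]
    obtain ⟨e1, e2⟩ := core 1 σ β h1
    rw [e1, e2]
    rfl
  -- the two ranges meet trivially
  have hdisj : Disjoint δ.range ψ.range := by
    rw [Subgroup.disjoint_def]
    rintro x ⟨a, rfl⟩ ⟨⟨σ, β⟩, h⟩
    rw [hψ] at h
    obtain ⟨e1, e2⟩ := core a σ β h.symm
    rw [← h, e1, e2, map_one, map_one, one_mul]
  -- every outer automorphism is a product
  have hprod : (δ.range : Set (Cfsg.Out ↥(D.group F))) * (ψ.range : Set (Cfsg.Out ↥(D.group F))) = Set.univ := by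
    rw [Set.eq_univ_iff_forall]
    intro x
    obtain ⟨θ, rfl⟩ := QuotientGroup.mk_surjective x
    obtain ⟨g, β, σ, a, hβ', ha, hθ⟩ :=
      exists_inner_scalar_field_graph p hA hconn oc hcomp horb hprig hα hτ0 θ
    set a' : Fin D.rank → Fˣ := fun i => Units.mk0 (a i) (ha i i.isLt) with ha'
    have hκ := hθ (diagAut c tc ac hdiv a') (fun i hi t => by
      rw [diagAut_xG_simple c tc ac hdiv a' i hi, extT_lt a' i hi]
      rfl) (fun i hi => diagAut_preserves c tc ac hdiv a' _ (DCert.neg_lt c _ (ac.simple i hi).1))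
    have hβmem : β ∈ Subgroup.zpowers α := by
      rcases hβ' with h | h
      · rw [h]
        exact Subgroup.one_mem _
      · rw [h]
        exact Subgroup.mem_zpowers α
    refine ⟨δ a', ⟨a', rfl⟩, ψ (σ, ⟨β, hβmem⟩), ⟨_, rfl⟩, ?_⟩
    show δ a' * ψ (σ, ⟨β, hβmem⟩) = QuotientGroup.mk θ
    rw [hψ, hδ, hφ, hγ, hκ, QuotientGroup.mk_mul, QuotientGroup.mk_mul, QuotientGroup.mk_mul]
    have : (QuotientGroup.mk (MulAut.conj g) : Cfsg.Out ↥(D.group F)) = 1 :=
      (QuotientGroup.eq_one_iff _).mpr ⟨g, rfl⟩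
    rw [this, one_mul, mul_assoc]
  have hcompl := Subgroup.isComplement'_of_disjoint_and_mul_eq_univ hdisj hprod
  rw [← hcompl.card_mul_card]
  congr 1
  · rw [← Subgroup.index_ker, hker, Subgroup.index_range]
  · rw [← Nat.card_congr (MonoidHom.ofInjective hψinj).toEquiv, Nat.card_prod, Nat.card_zpowers]
    congr 1
    have : Fact (Nat.Prime 2) := ⟨Nat.prime_two⟩
    apply orderOf_eq_prime
    · rw [pow_two, hsq]
    · intro h1
      have h2 := hα.pos 0 h0 1
      rw [h1, MulAut.one_apply, hτ0] at h2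
      have h3 := congrArg (fun g : ↥(D.group F) => ((g : GL D.Idx F) : Matrix D.Idx D.Idx F)) h2
      have h4 := root_eq_of_x_eq c tc ac _ _ (ac.simple 0 h0).1 (ac.simple k' horb.2.1).1 1 1 one_ne_zero h3
      exact hk' (simple_inj tc horb.2.1 h0 h4)

end Cfsg.Agent.Lib.Helper18_ChevAutI
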