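import Cfsg.Agent.Lib.Helper18_ChevAutI

set_option autoImplicit false

/-!
Automorphisms of the Chevalley groups over finite fields, tenth part: diagrams with two root lengths. The image of
the elements `n_i`, and the permutation of all the root subgroups.
-/

namespace Cfsg.Agent.Lib.Helper18_ChevAutJ

open Cfsg Cfsg.Lie Cfsg.Agent.Lib.Helper18_ChevFast Cfsg.Agent.Lib.Helper18_ChevEngine
  Cfsg.Agent.Lib.Helper18_ChevR1 Cfsg.Agent.Lib.Helper18_ChevN Cfsg.Agent.Lib.Helper18_ChevR4
  Cfsg.Agent.Lib.Helper18_ChevSimple Cfsg.Agent.Lib.Helper18_ChevSimple2 Cfsg.Agent.Lib.Helper18_ChevFacts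
  Cfsg.Agent.Lib.Helper18_ChevWeyl Cfsg.Agent.Lib.Helper18_ChevDiag Cfsg.Agent.Lib.Helper18_ChevCar
  Cfsg.Agent.Lib.Helper18_ChevTorus Cfsg.Agent.Lib.Helper18_ChevGL Cfsg.Agent.Lib.Helper18_ChevComm
  Cfsg.Agent.Lib.Helper18_ChevComm2 Cfsg.Agent.Lib.Helper18_MatTri Cfsg.Agent.Lib.Helper18_ChevTri
  Cfsg.Agent.Lib.Helper18_ChevBorel Cfsg.Agent.Lib.Helper18_ChevAdd Cfsg.Agent.Lib.Helper18_ChevUni
  Cfsg.Agent.Lib.Helper18_ChevBN Cfsg.Agent.Lib.Helper18_ChevMono Cfsg.Agent.Lib.Helper18_ChevBNPair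
  Cfsg.Agent.Lib.Helper18_ChevSimp Cfsg.Agent.Lib.Helper18_ChevJCerts Cfsg.Agent.Lib.Helper18_ChevLevi
  Cfsg.Agent.Lib.Helper18_ChevBruhat Cfsg.Agent.Lib.Helper18_ChevPar Cfsg.Agent.Lib.Helper18_ChevRootHom
  Cfsg.Agent.Lib.Helper18_ChevOrder Cfsg.Agent.Lib.Helper18_ChevSylow Cfsg.Agent.Lib.Helper18_ChevCent
  Cfsg.Agent.Lib.Helper18_ChevFrob Cfsg.Agent.Lib.Helper18_ChevAutA Cfsg.Agent.Lib.Helper18_ChevAutB
  Cfsg.Agent.Lib.Helper18_ChevAutC Cfsg.Agent.Lib.Helper18_ChevAutD Cfsg.Agent.Lib.Helper18_ChevGen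
  Cfsg.Agent.Lib.Helper18_ChevField Cfsg.Agent.Lib.Helper18_ChevAutE Cfsg.Agent.Lib.Helper18_ChevAutF
  Cfsg.Agent.Lib.Helper18_ChevAutG Cfsg.Agent.Lib.Helper18_ChevAutH Cfsg.Agent.Lib.Helper18_TorusKer
  Cfsg.Agent.Lib.Helper18_ChevAutI

variable {D : ChevalleyDatum} {Ns : List NData} {F : Type*} [Field F]
variable {wl : List ℤ} {ws : List (List ℤ)} {sc : ℤ} {w : List ℤ} {d : ℕ} {w0 : List ℕ}

/-! ### The image of `n_i` -/

/-- The element `n_i` of the group. -/
def nG (c : DCert D Ns) (i : ℕ) : ↥(D.group F) :=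
  xG c (D.simple i) 1 * (xG c (D.neg (D.simple i)) (-1) * xG c (D.simple i) 1)

theorem nG_coe (c : DCert D Ns) (i : ℕ) : ((nG c i : ↥(D.group F)) : GL D.Idx F) = nGL c i := by
  unfold nG nGL ChevalleyDatum.nWord
  rw [wordGL_cons, wordGL_cons, wordGL_cons, wordGL_nil, mul_one]
  simp
  rfl

/-- `x_p(a) x_{-p}(-a⁻¹) x_p(a) = h_p(a) n_p`. -/
theorem xGL_mul_neg_mul (c : DCert D Ns) (i : ℕ) (hi : i < D.rank) (a : F) :
    xGL c (D.simple i) a * xGL c (D.neg (D.simple i)) (-a⁻¹) * xGL c (D.simple i) a =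
      hGL c (D.simple i) a * nGL c i := by
  have e1 := xGL_neg_simple c i hi (-a⁻¹)
  have e2 : (-a⁻¹)⁻¹ = -a := by rw [inv_neg, inv_inv]
  rw [e2, neg_neg] at e1
  rw [e1, ← xGL_inv]
  group

/-- An automorphism that maps `X_{±p_i}` onto `X_{±p_j}` maps `n_i` to `h n_j`, `h` in the torus. -/
theorem image_nG (c : DCert D Ns) (tc : TCert D) (ac : ACert D wl ws sc) (gc : GCert D w d)
    (θ : MulAut ↥(D.group F)) {i j : ℕ} (hi : i < D.rank) (hj : j < D.rank)
    (hpos : Preserves' θ (D.rootSubgroup F (D.simple i)) (D.rootSubgroup F (D.simple j)))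
    (hneg : Preserves' θ (D.rootSubgroup F (D.neg (D.simple i))) (D.rootSubgroup F (D.neg (D.simple j)))) :
    ∃ a : F, a ≠ 0 ∧ ((θ (nG c i) : ↥(D.group F)) : GL D.Idx F) = hGL c (D.simple j) a * nGL c j := by
  set p := D.simple i with hp
  set q := D.neg p with hq
  set p' := D.simple j with hp'
  set q' := D.neg p' with hq'
  have hpi := ac.simple i hi
  have hpj := ac.simple j hj
  obtain ⟨a, ha⟩ := exists_param c θ hpos 1
  obtain ⟨b, hb⟩ := exists_param c θ hneg (-1)
  have ha0 : a ≠ 0 := by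
    intro h0
    rw [h0, xGL_zero] at ha
    have h1 : θ (xG c p 1) = 1 := Subtype.ext ha
    have h2 : xG c p (1 : F) = 1 := by
      apply θ.injective
      rw [h1, map_one]
    have h3 : xG c p (1 : F) = xG c p 0 := by
      rw [h2]
      exact (Subtype.ext (xGL_zero c p)).symm
    exact one_ne_zero (xG_inj c tc ac hpi.1 h3)
  refine ⟨a, ha0, ?_⟩
  -- the image of `n_i`
  have hM : ((θ (nG c i) : ↥(D.group F)) : GL D.Idx F) = xGL c p' a * (xGL c q' b * xGL c p' a) := by
    unfold nG
    rw [map_mul, map_mul, Subgroup.coe_mul, Subgroup.coe_mul, ha, hb]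
  rw [hM]
  -- it is enough to prove `b = -a⁻¹`
  suffices hb' : b + a⁻¹ = 0 by
    have : b = -a⁻¹ := eq_neg_of_add_eq_zero_left hb'
    rw [this, ← mul_assoc]
    exact xGL_mul_neg_mul c j hj a
  -- `n_i` conjugates `X_p` into `X_q`
  obtain ⟨t₁, ht₁⟩ := exists_param_inv c θ hpos 1
  obtain ⟨-, e, he, hconj⟩ := actsAs_nGL (F := F) c i hi p hpi.1
  have hrefl : D.reflectRoot i p = q := by
    unfold ChevalleyDatum.reflectRoot
    simp [hp, hq]
  rw [hrefl] at hconj
  have h1 : nG c i * xG c p t₁ * (nG c i)⁻¹ = xG c q (e * t₁) := by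
    apply Subtype.ext
    rw [Subgroup.coe_mul, Subgroup.coe_mul, Subgroup.coe_inv, nG_coe, xG_coe, xG_coe]
    exact hconj t₁
  obtain ⟨e', he'⟩ := exists_param c θ hneg (e * t₁)
  have h2 := congrArg (fun x : ↥(D.group F) => ((θ x : ↥(D.group F)) : GL D.Idx F)) h1
  simp only [map_mul, map_inv, Subgroup.coe_mul, Subgroup.coe_inv] at h2
  rw [ht₁, he', hM, xG_coe] at h2
  -- `N₀ = h_{p'}(a) n_j` conjugates `X_{p'}` onto `X_{q'}`
  set N₀ : GL D.Idx F := hGL c p' a * nGL c j with hN₀
  have hact : ActsAs c N₀ (id ∘ D.reflectRoot j) :=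
    (actsAs_diagonal c tc _ (hGL_mem c _ hpj.1 _ ha0)).mul c (actsAs_nGL c j hj)
  obtain ⟨-, a₂, ha₂, hN₀conj⟩ := hact p' hpj.1
  have hrefl' : (id ∘ D.reflectRoot j) p' = q' := by
    show D.reflectRoot j p' = q'
    unfold ChevalleyDatum.reflectRoot
    simp [hp', hq']
  rw [hrefl'] at hN₀conj
  -- decompose the image
  set y : GL D.Idx F := xGL c p' (-a) * xGL c q' (b + a⁻¹) * xGL c p' a with hy
  have hMy : xGL c p' a * (xGL c q' b * xGL c p' a) = N₀ * y := by
    have e0 : xGL c q' (b + a⁻¹) = (xGL c q' (-a⁻¹))⁻¹ * xGL c q' b := by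
      rw [xGL_inv, xGL_mul]
      congr 1
      ring
    have e00 : xGL c p' (-a) = (xGL c p' a)⁻¹ := (xGL_inv c p' a).symm
    have e5 : xGL c p' a * xGL c q' (-a⁻¹) * xGL c p' a = N₀ := xGL_mul_neg_mul c j hj a
    rw [← e5, hy, e0, e00]
    generalize xGL c p' a = X₁
    generalize xGL c q' (-a⁻¹) = X₂
    generalize xGL c q' b = X₃
    group
  rw [hMy] at h2
  have h3 : y * xGL c p' 1 * y⁻¹ = xGL c p' (a₂⁻¹ * e') := by
    have h4 := hN₀conj (a₂⁻¹ * e')
    rw [mul_inv_cancel_left₀ ha₂] at h4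
    have h5 : N₀ * (y * xGL c p' 1 * y⁻¹) * N₀⁻¹ = N₀ * xGL c p' (a₂⁻¹ * e') * N₀⁻¹ := by
      rw [h4, ← h2]
      group
    have e1 : N₀⁻¹ * (N₀ * (y * xGL c p' 1 * y⁻¹) * N₀⁻¹) * N₀ = y * xGL c p' 1 * y⁻¹ := by group
    have e2 : N₀⁻¹ * (N₀ * xGL c p' (a₂⁻¹ * e') * N₀⁻¹) * N₀ = xGL c p' (a₂⁻¹ * e') := by
      generalize xGL c p' (a₂⁻¹ * e') = Z
      group
    rw [← e1, h5, e2]
  -- hence `x_{q'}(b + a⁻¹)` conjugates `x_{p'}(1)` into `X_{p'}`
  have h7 : xGL c q' (b + a⁻¹) * xGL c p' 1 * (xGL c q' (b + a⁻¹))⁻¹ = xGL c p' (a₂⁻¹ * e') := by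
    have e3 : xGL c p' a * xGL c p' 1 * (xGL c p' a)⁻¹ = xGL c p' 1 := by
      rw [xGL_inv, xGL_mul, xGL_mul]
      congr 1
      ring
    have e4 : xGL c q' (b + a⁻¹) * xGL c p' 1 * (xGL c q' (b + a⁻¹))⁻¹ =
        (xGL c p' (-a))⁻¹ * (y * xGL c p' 1 * y⁻¹) * xGL c p' (-a) := by
      rw [hy]
      calc xGL c q' (b + a⁻¹) * xGL c p' 1 * (xGL c q' (b + a⁻¹))⁻¹
          = xGL c q' (b + a⁻¹) * (xGL c p' a * xGL c p' 1 * (xGL c p' a)⁻¹) * (xGL c q' (b + a⁻¹))⁻¹ := by
            rw [e3]
        _ = _ := by group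
    rw [e4, h3, xGL_inv, neg_neg, xGL_mul, xGL_mul]
    congr 1
    ring
  have h8 : xGL c q' (b + a⁻¹) * xGL c p' 1 * (xGL c q' (b + a⁻¹))⁻¹ ∈ D.borelSubgroup F := by
    rw [h7]
    exact Subgroup.mem_sup_left (Subgroup.subset_closure ⟨_, _, hpj.2.1, rfl⟩)
  exact param_zero_of_conj_one c tc ac gc j hj _ h8

/-- An automorphism that maps `X_{±p_i}` onto `X_{±p_j}` and `X_r` onto `X_{r'}` maps `X_{w_i r}` onto
`X_{w_j r'}`. -/
theorem maps_reflect (c : DCert D Ns) (tc : TCert D) (ac : ACert D wl ws sc) (gc : GCert D w d)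
    (θ : MulAut ↥(D.group F)) {i j : ℕ} (hi : i < D.rank) (hj : j < D.rank)
    (hpos : Preserves' θ (D.rootSubgroup F (D.simple i)) (D.rootSubgroup F (D.simple j)))
    (hneg : Preserves' θ (D.rootSubgroup F (D.neg (D.simple i))) (D.rootSubgroup F (D.neg (D.simple j))))
    {r r' : ℕ} (hr : r < D.nroots) (hr' : r' < D.nroots)
    (h : Preserves' θ (D.rootSubgroup F r) (D.rootSubgroup F r')) :
    Preserves' θ (D.rootSubgroup F (D.reflectRoot i r)) (D.rootSubgroup F (D.reflectRoot j r')) := by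
  obtain ⟨a, ha, hM⟩ := image_nG c tc ac gc θ hi hj hpos hneg
  have hact : ActsAs c (hGL c (D.simple j) a * nGL c j : GL D.Idx F) (id ∘ D.reflectRoot j) :=
    (actsAs_diagonal c tc _ (hGL_mem c _ (ac.simple j hj).1 _ ha)).mul c (actsAs_nGL c j hj)
  intro x
  have h1 := mem_rootSubgroup_conj c (actsAs_nGL (F := F) c i hi) r hr
    (((nG c i)⁻¹ * x * nG c i : ↥(D.group F)) : GL D.Idx F)
  have e1 : (nGL c i : GL D.Idx F) * (((nG c i)⁻¹ * x * nG c i : ↥(D.group F)) : GL D.Idx F) * (nGL c i)⁻¹ =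
      (x : GL D.Idx F) := by
    rw [Subgroup.coe_mul, Subgroup.coe_mul, Subgroup.coe_inv, nG_coe]
    group
  rw [e1] at h1
  rw [h1, ← h ((nG c i)⁻¹ * x * nG c i)]
  have h2 := mem_rootSubgroup_conj c hact r' hr'
    (((θ ((nG c i)⁻¹ * x * nG c i) : ↥(D.group F)) : GL D.Idx F))
  have e2 : (hGL c (D.simple j) a * nGL c j : GL D.Idx F) *
      ((θ ((nG c i)⁻¹ * x * nG c i) : ↥(D.group F)) : GL D.Idx F) * (hGL c (D.simple j) a * nGL c j)⁻¹ =
      ((θ x : ↥(D.group F)) : GL D.Idx F) := by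
    rw [map_mul, map_mul, map_inv, Subgroup.coe_mul, Subgroup.coe_mul, Subgroup.coe_inv, hM]
    group
  rw [e2] at h2
  exact h2

/-! ### The two orbits of roots and the fundamental roots -/

/-- The certificate that every root has the length of some fundamental root. -/
def RepCert (D : ChevalleyDatum) (comp : List ℕ) : Prop :=
  ∀ r < D.nroots, ∃ i < D.rank, comp.getD r 2 = comp.getD (D.simple i) 2

instance (D : ChevalleyDatum) (comp : List ℕ) : Decidable (RepCert D comp) := by
  unfold RepCert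
  infer_instance

/-- A property of the roots that is preserved by the fundamental reflections and holds for the fundamental roots holds
for all the roots. -/
theorem forall_of_simple {b0 : ℕ} {hasLong : Bool} {c0 a0 b1 : ℕ} {C : ℤ} {par : List (ℕ × ℕ)}
    {dep comp : List ℕ} (oc : OCert D b0 hasLong c0 a0 b1 C par dep comp) (c : DCert D Ns)
    (ac : ACert D wl ws sc) (hrep : RepCert D comp) (P : ℕ → Prop)
    (hP : ∀ j < D.rank, ∀ r < D.nroots, P r → P (D.reflectRoot j r))
    (hs : ∀ i < D.rank, P (D.simple i)) : ∀ r < D.nroots, P r := by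
  intro r hr
  obtain ⟨i, hi, hc⟩ := hrep r hr
  have hsi := (ac.simple i hi).1
  have horb := oc.orbit c P hP
  have h1 := horb _ r hr rfl
  have h2 := horb _ (D.simple i) hsi rfl
  have h3 := (oc.at r hr).2.2.1
  have h4 : comp.getD r 2 = 0 ∨ comp.getD r 2 = 1 := by omega
  rcases h4 with h | h
  · exact (h1.1 h).mpr ((h2.1 (hc ▸ h)).mp (hs i hi))
  · exact (h1.2 h).mpr ((h2.2 (hc ▸ h)).mp (hs i hi))

/-- An automorphism that preserves the root subgroups of the fundamental roots and of their negatives preserves all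
the root subgroups. -/
theorem preserves_all {b0 : ℕ} {hasLong : Bool} {c0 a0 b1 : ℕ} {C : ℤ} {par : List (ℕ × ℕ)}
    {dep comp : List ℕ} (oc : OCert D b0 hasLong c0 a0 b1 C par dep comp) (c : DCert D Ns) (tc : TCert D)
    (ac : ACert D wl ws sc) (gc : GCert D w d) (hrep : RepCert D comp) (θ : MulAut ↥(D.group F))
    (hpos : ∀ i < D.rank, Preserves θ (D.rootSubgroup F (D.simple i)))
    (hneg : ∀ i < D.rank, Preserves θ (D.rootSubgroup F (D.neg (D.simple i)))) :
    ∀ r < D.nroots, Preserves θ (D.rootSubgroup F r) := by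
  apply forall_of_simple oc c ac hrep (fun r => Preserves θ (D.rootSubgroup F r))
  · intro j hj r hr h
    exact maps_reflect c tc ac gc θ hj hj (hpos j hj) (hneg j hj) hr hr h
  · exact hpos

/-- A subgroup that contains the root subgroups of the fundamental roots and of their negatives contains the
group. -/
theorem group_le_of_simple' {b0 : ℕ} {hasLong : Bool} {c0 a0 b1 : ℕ} {C : ℤ} {par : List (ℕ × ℕ)}
    {dep comp : List ℕ} (oc : OCert D b0 hasLong c0 a0 b1 C par dep comp) (c : DCert D Ns) (ac : ACert D wl ws sc)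
    (hrep : RepCert D comp) (S : Subgroup (GL D.Idx F))
    (hS : ∀ i < D.rank, ∀ t : F, xGL c (D.simple i) t ∈ S ∧ xGL c (D.neg (D.simple i)) t ∈ S) :
    D.group F ≤ S := by
  have hn : ∀ j < D.rank, (nGL c j : GL D.Idx F) ∈ S := by
    intro j hj
    unfold nGL
    apply wordGL_mem
    intro p hp
    unfold ChevalleyDatum.nWord at hp
    simp only [List.mem_cons, List.not_mem_nil, or_false] at hp
    rcases hp with rfl | rfl | rfl
    · exact (hS j hj _).1
    · exact (hS j hj _).2
    · exact (hS j hj _).1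
  have hall : ∀ r < D.nroots, ∀ t : F, xGL c r t ∈ S := by
    apply forall_of_simple oc c ac hrep (fun r => ∀ t : F, xGL c r t ∈ S)
    · intro j hj r hr h t
      have e := nGL_conj c j hj r hr (((etaZ Ns j r : ℤ) : F) * t)
      rw [← mul_assoc, eta_cast_sq (F := F) (c.etaZ_pm j hj r hr), one_mul] at e
      rw [← e]
      exact S.mul_mem (S.mul_mem (hn j hj) (h _)) (S.inv_mem (hn j hj))
    · intro i hi t
      exact (hS i hi t).1
  unfold ChevalleyDatum.group
  rw [Subgroup.closure_le]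
  rintro g ⟨r, t, hg⟩
  have hg' : g = xGL c r.val t := by
    apply Units.ext
    rw [hg, xGL_coe]
    unfold ChevalleyDatum.x
    rw [dif_pos r.isLt]
  rw [hg']
  exact hall r.val r.isLt t

/-- An automorphism that fixes the root elements of the fundamental roots and of their negatives is the identity. -/
theorem eq_one_of_fix' {b0 : ℕ} {hasLong : Bool} {c0 a0 b1 : ℕ} {C : ℤ} {par : List (ℕ × ℕ)}
    {dep comp : List ℕ} (oc : OCert D b0 hasLong c0 a0 b1 C par dep comp) (c : DCert D Ns) (ac : ACert D wl ws sc)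
    (hrep : RepCert D comp) (θ : MulAut ↥(D.group F))
    (hfix : ∀ i < D.rank, ∀ t : F, θ (xG c (D.simple i) t) = xG c (D.simple i) t ∧
      θ (xG c (D.neg (D.simple i)) t) = xG c (D.neg (D.simple i)) t) : θ = 1 := by
  let S : Subgroup (GL D.Idx F) :=
    ((MulEquiv.toMonoidHom θ).eqLocus (MonoidHom.id ↥(D.group F))).map (D.group F).subtype
  have hle : D.group F ≤ S := by
    apply group_le_of_simple' oc c ac hrep S
    intro i hi t
    exact ⟨⟨xG c (D.simple i) t, (hfix i hi t).1, rfl⟩, ⟨xG c (D.neg (D.simple i)) t, (hfix i hi t).2, rfl⟩⟩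
  apply MulEquiv.ext
  intro x
  obtain ⟨y, hy, e⟩ := hle x.2
  have : y = x := Subtype.ext e
  rw [← this]
  exact hy

/-! ### Words in root elements over distinct positive roots -/

theorem word_eq_map_lookup (wd : List (ℕ × F)) (hnd : (wd.map Prod.fst).Nodup) :
    wd = (wd.map Prod.fst).map fun r => (r, (wd.lookup r).getD 0) := by
  induction wd with
  | nil => rfl
  | cons a wd ih =>
    obtain ⟨a1, a2⟩ := a
    rw [List.map_cons, List.nodup_cons] at hnd
    rw [List.map_cons, List.map_cons]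
    congr 1
    · simp
    · have h1 := ih hnd.2
      rw [List.map_map] at h1 ⊢
      conv_lhs => rw [h1]
      apply List.map_congr_left
      intro q hq
      have hne : q.1 ≠ a1 := by
        intro h
        apply hnd.1
        show a1 ∈ List.map Prod.fst wd
        rw [← h]
        exact List.mem_map_of_mem (f := Prod.fst) hq
      have hb : (q.1 == a1) = false := beq_false_of_ne hne
      simp only [Function.comp_apply, List.lookup_cons, hb]

/-- Uniqueness of the parameters of a product of root elements over distinct positive roots. -/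
theorem unique_words (c : DCert D Ns) (tc : TCert D) (ac : ACert D wl ws sc) (w₁ w₂ : List (ℕ × F))
    (hfst : w₁.map Prod.fst = w₂.map Prod.fst) (hnd : (w₁.map Prod.fst).Nodup)
    (hpos : ∀ r ∈ w₁.map Prod.fst, D.IsPosRoot r) (h : D.wordMat F w₁ = D.wordMat F w₂) : w₁ = w₂ := by
  have e1 := word_eq_map_lookup w₁ hnd
  have e2 := word_eq_map_lookup w₂ (hfst ▸ hnd)
  rw [e1, e2, ← hfst] at h
  have h3 := unique_word c tc ac _ hnd hpos _ _ h
  rw [e1, e2, ← hfst]
  apply List.map_congr_left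
  intro r hr
  rw [h3 r hr]

/-- The product of the root elements of a word, in the group. -/
def wordG (c : DCert D Ns) (wd : List (ℕ × F)) : ↥(D.group F) := (wd.map fun p => xG c p.1 p.2).prod

theorem wordG_coe (c : DCert D Ns) (wd : List (ℕ × F)) :
    ((wordG c wd : ↥(D.group F)) : GL D.Idx F) = wordGL c wd := by
  induction wd with
  | nil =>
    rw [wordGL_nil]
    rfl
  | cons p wd ih =>
    unfold wordG at ih ⊢
    rw [List.map_cons, List.prod_cons, Subgroup.coe_mul, ih, wordGL_cons, xG_coe]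

theorem map_wordG (c : DCert D Ns) (θ : MulAut ↥(D.group F)) (H : ℕ → F → F) (wd : List (ℕ × F))
    (hH : ∀ q ∈ wd, θ (xG c q.1 q.2) = xG c q.1 (H q.1 q.2)) :
    θ (wordG c wd) = wordG c (wd.map fun q => (q.1, H q.1 q.2)) := by
  induction wd with
  | nil =>
    unfold wordG
    simp
  | cons p wd ih =>
    unfold wordG at ih ⊢
    rw [List.map_cons, List.prod_cons, map_mul, ih (fun q hq => hH q (List.mem_cons_of_mem _ hq)),
      hH p List.mem_cons_self, List.map_cons, List.map_cons, List.prod_cons]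

/-- The commutator formula in the group. -/
theorem r2_group (c : DCert D Ns) {r s : ℕ} (hR : R2At D F r s) (t u : F) :
    xG c s u * xG c r t = xG c r t * xG c s u * wordG c (D.commWord F r s t u) := by
  apply Subtype.ext
  apply Units.ext
  rw [Subgroup.coe_mul, Subgroup.coe_mul, Subgroup.coe_mul, wordG_coe]
  simp only [Units.val_mul, xG_coe, xGL_coe, wordGL_coe]
  exact hR t u

/-! ### The relation between the actions on two joined fundamental root subgroups -/

/-- The condition of the certificate below at a pair of nodes. -/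
def HeadAt (D : ChevalleyDatum) (i k : ℕ) : Prop :=
  i = k ∨ D.commTerms (D.simple i) (D.simple k) = [] ∨
    (((D.commTerms (D.simple i) (D.simple k)).map Prod.fst).Nodup ∧
      (∀ q ∈ (D.commTerms (D.simple i) (D.simple k)).map Prod.fst, D.IsPosRoot q) ∧
      ∃ q < D.nroots, (D.commTerms (D.simple i) (D.simple k)).head? = some (q, 1, 1, 1) ∨
        (D.commTerms (D.simple i) (D.simple k)).head? = some (q, -1, 1, 1))

instance (D : ChevalleyDatum) (i k : ℕ) : Decidable (HeadAt D i k) := by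
  unfold HeadAt
  infer_instance

/-- The certificate on the commutator formulas of the fundamental roots: the terms are over distinct positive roots
and the first has coefficient `±1`. -/
def HeadCert (D : ChevalleyDatum) : Prop :=
  ∀ i < D.rank, ∀ k < D.rank, HeadAt D i k

instance (D : ChevalleyDatum) : Decidable (HeadCert D) := by
  unfold HeadCert
  infer_instance

theorem eq_cons_of_head? {α : Type*} {L : List α} {a : α} (h : L.head? = some a) : ∃ rest, L = a :: rest := by
  cases L with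
  | nil => simp at h
  | cons b L =>
    simp only [List.head?_cons, Option.some.injEq] at h
    exact ⟨L, by rw [h]⟩

theorem commWord_fst (r s : ℕ) (t u : F) :
    (D.commWord F r s t u).map Prod.fst = (D.commTerms r s).map Prod.fst := by
  unfold ChevalleyDatum.commWord
  rw [List.map_map]
  rfl

/-- The relation between the actions on the root subgroups of two joined fundamental roots. -/
theorem adj_relation' (c : DCert D Ns) (tc : TCert D) (ac : ACert D wl ws sc) (θ : MulAut ↥(D.group F))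
    {r s q : ℕ} {C : ℤ} {rest : List (ℕ × ℤ × ℕ × ℕ)} (hC : C = 1 ∨ C = -1) (hR : R2At D F r s)
    (he : D.commTerms r s = (q, C, 1, 1) :: rest) (hnd : ((D.commTerms r s).map Prod.fst).Nodup)
    (hpos : ∀ x ∈ (D.commTerms r s).map Prod.fst, D.IsPosRoot x) (H : ℕ → F → F)
    (hH : ∀ x ∈ (D.commTerms r s).map Prod.fst, ∀ v : F, θ (xG c x v) = xG c x (H x v))
    (f g : F → F) (hf : ∀ t, θ (xG c r t) = xG c r (f t)) (hg : ∀ t, θ (xG c s t) = xG c s (g t)) (t u : F) :
    f (t * u) * g 1 = f t * g u ∧ f t * g u = f 1 * g (t * u) := by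
  have key : ∀ t u : F, H q ((C : F) * -t * u) = (C : F) * -(f t) * g u := by
    intro t u
    have h1 := congrArg θ (r2_group c hR t u)
    rw [map_mul, map_mul, map_mul, hf, hg, r2_group c hR (f t) (g u),
      map_wordG c θ H _ (fun x hx => hH x.1 (by
        rw [← commWord_fst (F := F) r s t u]
        exact List.mem_map_of_mem hx) x.2)] at h1
    have h2 := mul_left_cancel h1
    have h3 := congrArg (fun x : ↥(D.group F) => ((x : GL D.Idx F) : Matrix D.Idx D.Idx F)) h2
    simp only [wordG_coe, wordGL_coe] at h3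
    have h4 := unique_words c tc ac _ _ (by
      rw [List.map_map, commWord_fst]
      show _ = List.map (Prod.fst ∘ fun x : ℕ × F => (x.1, H x.1 x.2)) _
      have : (Prod.fst ∘ fun x : ℕ × F => (x.1, H x.1 x.2)) = Prod.fst := rfl
      rw [this, commWord_fst]) (by rw [commWord_fst]; exact hnd) (by rw [commWord_fst]; exact hpos) h3
    unfold ChevalleyDatum.commWord at h4
    rw [he] at h4
    simp only [List.map_cons, pow_one] at h4
    have h5 := (List.cons.inj h4).1
    exact (Prod.mk.inj h5).2.symm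
  have hCne : (C : F) ≠ 0 := by
    rcases hC with rfl | rfl <;> simp
  have k1 := key (t * u) 1
  have k2 := key t u
  have k3 := key 1 (t * u)
  have e1 : (C : F) * -(t * u) * 1 = (C : F) * -t * u := by ring
  have e3 : (C : F) * -1 * (t * u) = (C : F) * -t * u := by ring
  rw [e1, k2] at k1
  rw [e3, k2] at k3
  constructor
  · have : (C : F) * (f (t * u) * g 1) = (C : F) * (f t * g u) := by linear_combination k1
    exact mul_left_cancel₀ hCne this
  · have : (C : F) * (f t * g u) = (C : F) * (f 1 * g (t * u)) := by linear_combination -k3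
    exact mul_left_cancel₀ hCne this

/-- An automorphism that preserves the root subgroups of the fundamental roots and of their negatives, for a connected
diagram, acts on the fundamental root subgroups through an automorphism of the field, up to scalars. -/
theorem exists_field_of_preserves' {parC depC : List ℕ} {b0 : ℕ} {hasLong : Bool} {c0 a0 b1 : ℕ} {C : ℤ}
    {par : List (ℕ × ℕ)} {dep comp : List ℕ} (oc : OCert D b0 hasLong c0 a0 b1 C par dep comp)
    (c : DCert D Ns) (tc : TCert D) (ac : ACert D wl ws sc) (gc : GCert D w d)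
    (hR2 : R2All D F) (hrep : RepCert D comp) (hhead : HeadCert D) (hconn : ConnCert D parC depC)
    (θ : MulAut ↥(D.group F))
    (hpos : ∀ i < D.rank, Preserves θ (D.rootSubgroup F (D.simple i)))
    (hneg : ∀ i < D.rank, Preserves θ (D.rootSubgroup F (D.neg (D.simple i)))) :
    ∃ (σ : F ≃+* F) (a : ℕ → F), (∀ i < D.rank, a i ≠ 0) ∧
      ∀ i < D.rank, ∀ t, θ (xG c (D.simple i) t) = xG c (D.simple i) (a i * σ t) := by
  have hall := preserves_all oc c tc ac gc hrep θ hpos hneg
  have hex : ∀ r, ∃ h : F → F, r < D.nroots → (∀ t, θ (xG c r t) = xG c r (h t)) ∧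
      (∀ t u, h (t + u) = h t + h u) ∧ Function.Bijective h := by
    intro r
    by_cases hr : r < D.nroots
    · obtain ⟨h, hh⟩ := exists_paramFun c tc ac θ hr (hall r hr)
      exact ⟨h, fun _ => hh⟩
    · exact ⟨id, fun h => absurd h hr⟩
  choose H hH using hex
  set f : ℕ → F → F := fun i => H (D.simple i) with hf
  have hfi : ∀ i < D.rank, (∀ t, θ (xG c (D.simple i) t) = xG c (D.simple i) (f i t)) ∧
      (∀ t u, f i (t + u) = f i t + f i u) ∧ Function.Bijective (f i) :=
    fun i hi => hH _ (ac.simple i hi).1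
  have hrel : ∀ i < D.rank, ∀ k < D.rank, adjB D i k = true → ∀ t u,
      f i (t * u) * f k 1 = f i t * f k u ∧ f i t * f k u = f i 1 * f k (t * u) := by
    intro i hi k hk hik t u
    unfold adjB at hik
    simp only [Bool.and_eq_true, decide_eq_true_eq, Bool.not_eq_true', decide_eq_false_iff_not] at hik
    obtain ⟨hne, hterms⟩ := hik
    obtain ⟨hne1, hne2⟩ := simple_ne c tc ac hi hk hne
    have hR := hR2 _ _ (ac.simple i hi).1 (ac.simple k hk).1 hne1 hne2
    rcases hhead i hi k hk with h | h | ⟨hnd, hp, q, -, h | h⟩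
    · exact absurd h hne
    · exact absurd h hterms
    · obtain ⟨rest, h⟩ := eq_cons_of_head? h
      exact adj_relation' c tc ac θ (Or.inl rfl) hR h hnd hp H (fun x hx v => (hH x (hp x hx).1).1 v)
        (f i) (f k) (hfi i hi).1 (hfi k hk).1 t u
    · obtain ⟨rest, h⟩ := eq_cons_of_head? h
      exact adj_relation' c tc ac θ (Or.inr rfl) hR h hnd hp H (fun x hx v => (hH x (hp x hx).1).1 v)
        (f i) (f k) (hfi i hi).1 (hfi k hk).1 t u
  have h0 : 0 < D.rank := by have := hconn.1; omega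
  have hedge : ∃ i < D.rank, ∃ k < D.rank, adjB D i k = true := by
    rcases hconn.2 1 hconn.1 with h | ⟨h1, h2, -⟩
    · exact absurd h one_ne_zero
    · exact ⟨_, h1, 1, hconn.1, h2⟩
  obtain ⟨σ, hσ⟩ := exists_ringEquiv D.rank f (fun i hi => (hfi i hi).2.1) (fun i hi => (hfi i hi).2.2)
    (fun i k => adjB D i k = true) hrel (fun P => hconn.conn P) hedge h0
  refine ⟨σ, fun i => f i 1, ?_, ?_⟩
  · intro i hi h
    have hz : f i 0 = 0 := by
      have := (hfi i hi).2.1 0 0
      rw [add_zero] at this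
      exact left_eq_add.mp this
    rw [← hz] at h
    exact one_ne_zero ((hfi i hi).2.2.1 h)
  · intro i hi t
    rw [(hfi i hi).1 t, hσ i hi t]

/-- The data on a Chevalley datum used for the automorphisms, two root lengths allowed. -/
structure AutBase2 (D : ChevalleyDatum) (Ns : List NData) (wl : List ℤ) (ws : List (List ℤ)) (sc : ℤ) (w : List ℤ)
    (d : ℕ) (w0 : List ℕ) (F : Type*) [Field F] : Prop where
  c : DCert D Ns
  tc : TCert D
  ac : ACert D wl ws sc
  gc : GCert D w d
  hdesc : Descent D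
  hR2 : R2All D F
  hw : W0Cert D w0
  hws : W0Simple D w0
  hhead : HeadCert D

/-- An automorphism that preserves the root subgroups of the fundamental roots and of their negatives is the product
of an automorphism acting on the fundamental root subgroups by scalars and a field automorphism. -/
theorem eq_scalar_mul_field_of_preserves' (A : AutBase2 D Ns wl ws sc w d w0 F) {parC depC : List ℕ}
    (hconn : ConnCert D parC depC)
    {b0 : ℕ} {hasLong : Bool} {c0 a0 b1 : ℕ} {C : ℤ} {par : List (ℕ × ℕ)} {dep comp : List ℕ}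
    (oc : OCert D b0 hasLong c0 a0 b1 C par dep comp) (hrep : RepCert D comp)
    (θ : MulAut ↥(D.group F))
    (hpos : ∀ i < D.rank, Preserves θ (D.rootSubgroup F (D.simple i)))
    (hneg : ∀ i < D.rank, Preserves θ (D.rootSubgroup F (D.neg (D.simple i)))) :
    ∃ (σ : F ≃+* F) (a : ℕ → F), (∀ i < D.rank, a i ≠ 0) ∧
      ∀ κ : MulAut ↥(D.group F),
        (∀ i < D.rank, ∀ t : F, κ (xG A.c (D.simple i) t) = xG A.c (D.simple i) (a i * t)) →
        (∀ i < D.rank, Preserves κ (D.rootSubgroup F (D.neg (D.simple i)))) →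
        θ = κ * fieldAutOf A.c σ := by
  obtain ⟨c, tc, ac, gc, hdesc, hR2, hw, hws, hhead⟩ := A
  obtain ⟨σ, a', ha', hσ⟩ := exists_field_of_preserves' oc c tc ac gc hR2 hrep hhead hconn θ hpos hneg
  refine ⟨σ, a', ha', fun κ hκ hκneg => ?_⟩
  set φ := fieldAutOf c σ with hφ
  set θ₃ := κ⁻¹ * θ * φ⁻¹ with hθ₃
  have hφinv : ∀ (r : ℕ) (t : F), φ⁻¹ (xG c r t) = xG c r ((σ⁻¹ : RingAut F) t) := by
    intro r t
    rw [MulAut.inv_apply, MulEquiv.symm_apply_eq, hφ, fieldAutOf_xG]
    congr 1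
    exact (RingEquiv.apply_symm_apply σ t).symm
  have hfixpos : ∀ i < D.rank, ∀ t : F, θ₃ (xG c (D.simple i) t) = xG c (D.simple i) t := by
    intro i hi t
    rw [hθ₃, MulAut.mul_apply, MulAut.mul_apply, hφinv, hσ i hi]
    have e1 : σ ((σ⁻¹ : RingAut F) t) = t := RingEquiv.apply_symm_apply σ t
    rw [e1, MulAut.inv_apply, MulEquiv.symm_apply_eq, hκ i hi]
  have hnegpres : ∀ i < D.rank, Preserves θ₃ (D.rootSubgroup F (D.neg (D.simple i))) := by
    intro i hi
    exact (((hκneg i hi).inv).mul (hneg i hi)).mul (fieldAutOf_preserves c σ _).inv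
  have hone : θ₃ = 1 := by
    apply eq_one_of_fix' oc c ac hrep
    intro i hi t
    exact ⟨hfixpos i hi t, fix_neg_of_fix_pos c tc ac gc θ₃ i hi (hfixpos i hi) (hnegpres i hi) t⟩
  have : κ * θ₃ * φ = κ * φ := by rw [hone, mul_one]
  rw [← this, hθ₃]
  group

end Cfsg.Agent.Lib.Helper18_ChevAutJ
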