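import Cfsg.Agent.Lib.Helper18_ChevAutJ

set_option autoImplicit false

/-!
Automorphisms of the Chevalley groups over finite fields, eleventh part: diagrams with two root lengths and a
symmetry of order two of the underlying graph (types G2, B2, F4). The permutation of the nodes, the characteristic
when the symmetry is realized, and the decomposition of the automorphisms.
-/

namespace Cfsg.Agent.Lib.Helper18_ChevAutK

open Cfsg Cfsg.Lie Cfsg.Agent.Lib.Helper18_ChevFast Cfsg.Agent.Lib.Helper18_ChevEngine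
  Cfsg.Agent.Lib.Helper18_ChevR1 Cfsg.Agent.Lib.Helper18_ChevN Cfsg.Agent.Lib.Helper18_ChevR4
  Cfsg.Agent.Lib.Helper18_ChevSimple Cfsg.Agent.Lib.Helper18_ChevSimple2 Cfsg.Agent.Lib.Helper18_ChevFacts
  Cfsg.Agent.Lib.Helper18_ChevWeyl Cfsg.Agent.Lib.Helper18_ChevDiag Cfsg.Agent.Lib.Helper18_ChevCar
  Cfsg.Agent.Lib.Helper18_ChevTorus Cfsg.Agent.Lib.Helper18_ChevGL Cfsg.Agent.Lib.Helper18_ChevComm
  Cfsg.Agent.Lib.Helper18_ChevComm2 Cfsg.Agent.Lib.Helper18_MatTri Cfsg.Agent.Lib.Helper18_ChevTri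
  Cfsg.Agent.Lib.Helper18_ChevBorel Cfsg.Agent.Lib.Helper18_ChevAdd Cfsg.Agent.Lib.Helper18_ChevUni
  Cfsg.Agent.Lib.Helper18_ChevBN Cfsg.Agent.Lib.Helper18_ChevMono Cfsg.Agent.Lib.Helper18_ChevBNPair
  Cfsg.Agent.Lib.Helper18_ChevSimp Cfsg.Agent.Lib.Helper18_ChevJCerts Cfsg.Agent.Lib.Helper18_ChevLevi
  Cfsg.Agent.Lib.Helper18_ChevBruhat Cfsg.Agent.Lib.Helper18_ChevPar Cfsg.Agent.Lib.Helper18_ChevRootHom
  Cfsg.Agent.Lib.Helper18_ChevOrder Cfsg.Agent.Lib.Helper18_ChevSylow Cfsg.Agent.Lib.Helper18_ChevCent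
  Cfsg.Agent.Lib.Helper18_ChevFrob Cfsg.Agent.Lib.Helper18_ChevAutA Cfsg.Agent.Lib.Helper18_ChevAutB
  Cfsg.Agent.Lib.Helper18_ChevAutC Cfsg.Agent.Lib.Helper18_ChevAutD Cfsg.Agent.Lib.Helper18_ChevGen
  Cfsg.Agent.Lib.Helper18_ChevField Cfsg.Agent.Lib.Helper18_ChevAutE Cfsg.Agent.Lib.Helper18_ChevAutF
  Cfsg.Agent.Lib.Helper18_ChevAutG Cfsg.Agent.Lib.Helper18_ChevAutH Cfsg.Agent.Lib.Helper18_TorusKer
  Cfsg.Agent.Lib.Helper18_ChevAutI Cfsg.Agent.Lib.Helper18_ChevAutJ

variable {D : ChevalleyDatum} {Ns : List NData} {F : Type*} [Field F]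
variable {wl : List ℤ} {ws : List (List ℤ)} {sc : ℤ} {w : List ℤ} {d : ℕ} {w0 : List ℕ}

/-! ### Commuting fundamental root subgroups -/

/-- If the commutator formula of `r` and `s` has a first term with coefficient `±1`, the root subgroups do not
commute. -/
theorem not_comm_of_head (c : DCert D Ns) (tc : TCert D) (ac : ACert D wl ws sc) {r s q : ℕ} {C : ℤ}
    {rest : List (ℕ × ℤ × ℕ × ℕ)} (hC : C = 1 ∨ C = -1) (hR : R2At D F r s)
    (he : D.commTerms r s = (q, C, 1, 1) :: rest) (hnd : ((D.commTerms r s).map Prod.fst).Nodup)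
    (hpos : ∀ x ∈ (D.commTerms r s).map Prod.fst, D.IsPosRoot x) : ¬ Comm c F r s := by
  intro hcomm
  have h1 := r2_group c hR (1 : F) 1
  have h2 : xG c s (1 : F) * xG c r 1 = xG c r 1 * xG c s 1 := by
    apply Subtype.ext
    exact (hcomm 1 1).symm
  rw [h2] at h1
  have h3 : wordG c (D.commWord F r s 1 1) = 1 := by
    have := mul_left_cancel (a := xG c r (1 : F) * xG c s 1) (b := 1)
      (c := wordG c (D.commWord F r s 1 1)) (by rw [mul_one]; exact h1)
    exact this.symm
  -- the word with all parameters `0`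
  have h4 : wordG c ((D.commWord F r s 1 1).map fun x => (x.1, (0 : F))) = 1 := by
    generalize D.commWord F r s 1 1 = wd
    induction wd with
    | nil => rfl
    | cons a wd ih =>
      unfold wordG at ih ⊢
      rw [List.map_cons, List.map_cons, List.prod_cons, ih]
      have : xG c a.1 (0 : F) = 1 := Subtype.ext (xGL_zero c _)
      rw [this, mul_one]
  have h5 := congrArg (fun x : ↥(D.group F) => ((x : GL D.Idx F) : Matrix D.Idx D.Idx F)) (h3.trans h4.symm)
  simp only [wordG_coe, wordGL_coe] at h5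
  have h6 := unique_words c tc ac _ _ (by
    rw [List.map_map]
    rfl) (by rw [commWord_fst]; exact hnd) (by rw [commWord_fst]; exact hpos) h5
  unfold ChevalleyDatum.commWord at h6
  rw [he] at h6
  simp only [List.map_cons, pow_one] at h6
  have h7 := (Prod.mk.inj (List.cons.inj h6).1).2
  rcases hC with rfl | rfl
  · simp at h7
  · simp at h7

/-- The elements of the root subgroups of two different fundamental roots commute if and only if the commutator
formula is empty. -/
theorem comm_simple_iff' (c : DCert D Ns) (tc : TCert D) (ac : ACert D wl ws sc) (hR2 : R2All D F)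
    (hhead : HeadCert D) {i k : ℕ} (hi : i < D.rank) (hk : k < D.rank) (hik : i ≠ k) :
    Comm c F (D.simple i) (D.simple k) ↔ D.commTerms (D.simple i) (D.simple k) = [] := by
  obtain ⟨hne1, hne2⟩ := simple_ne c tc ac hi hk hik
  have hR := hR2 _ _ (ac.simple i hi).1 (ac.simple k hk).1 hne1 hne2
  constructor
  · intro hcomm
    rcases hhead i hi k hk with h | h | ⟨hnd, hp, q, -, h | h⟩
    · exact absurd h hik
    · exact h
    · obtain ⟨rest, h⟩ := eq_cons_of_head? h
      exact absurd hcomm (not_comm_of_head c tc ac (Or.inl rfl) hR h hnd hp)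
    · obtain ⟨rest, h⟩ := eq_cons_of_head? h
      exact absurd hcomm (not_comm_of_head c tc ac (Or.inr rfl) hR h hnd hp)
  · intro h
    exact comm_of_commTerms_nil c hR h

/-- A map of the nodes along which an automorphism maps the fundamental root subgroups is injective and preserves
adjacency. -/
theorem perm_props_of_maps' (c : DCert D Ns) (tc : TCert D) (ac : ACert D wl ws sc) (hR2 : R2All D F)
    (hhead : HeadCert D) (θ : MulAut ↥(D.group F)) (ρ : ℕ → ℕ) (hρ : ∀ i < D.rank, ρ i < D.rank)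
    (hmaps : ∀ i < D.rank, Preserves' θ (D.rootSubgroup F (D.simple i)) (D.rootSubgroup F (D.simple (ρ i)))) :
    (∀ i < D.rank, ∀ k < D.rank, ρ i = ρ k → i = k) ∧
      ∀ i < D.rank, ∀ k < D.rank, adjB D (ρ i) (ρ k) = adjB D i k := by
  have hinj : ∀ i < D.rank, ∀ k < D.rank, ρ i = ρ k → i = k := by
    intro i hi k hk hik
    have h1 := hmaps i hi
    have h2 := hmaps k hk
    rw [← hik] at h2
    have := root_eq_of_maps c tc ac θ (ac.simple i hi).1 (ac.simple k hk).1 h1 h2
    exact simple_inj tc hi hk this.symm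
  refine ⟨hinj, ?_⟩
  intro i hi k hk
  by_cases hik : i = k
  · subst hik
    unfold adjB
    simp
  · have hne : ρ i ≠ ρ k := fun h => hik (hinj i hi k hk h)
    have h1 := comm_simple_iff' c tc ac hR2 hhead hi hk hik
    have h2 := comm_simple_iff' c tc ac hR2 hhead (hρ i hi) (hρ k hk) hne
    have h3 := comm_iff_of_maps c θ (hmaps i hi) (hmaps k hk)
    unfold adjB
    rw [decide_eq_true hik, decide_eq_true hne, Bool.true_and, Bool.true_and]
    congr 1
    rw [decide_eq_decide, ← h1, ← h2, h3]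

/-- An automorphism that preserves `U` and `V` permutes the root subgroups of the fundamental roots and of their
negatives, by the same permutation of the nodes. -/
theorem exists_perm_of_aut' (A : AutBase2 D Ns wl ws sc w d w0 F) (θ : MulAut ↥(D.group F))
    (hU : Preserves θ (D.posUnipotent F)) (hV : Preserves θ (D.negUnipotent F)) :
    ∃ ρ : ℕ → ℕ, (∀ i < D.rank, ρ i < D.rank) ∧
      (∀ i < D.rank, Preserves' θ (D.rootSubgroup F (D.simple i)) (D.rootSubgroup F (D.simple (ρ i)))) ∧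
      (∀ i < D.rank, Preserves' θ (D.rootSubgroup F (D.neg (D.simple i)))
        (D.rootSubgroup F (D.neg (D.simple (ρ i))))) := by
  classical
  obtain ⟨c, tc, ac, gc, hdesc, hR2, hw, hws, hhead⟩ := A
  have hex := fun (i : ℕ) (hi : i < D.rank) =>
    exists_pos_simple_of_aut c tc ac gc hdesc hR2 hw hws θ hU hV i hi
  set ρ : ℕ → ℕ := fun i => if hi : i < D.rank then Classical.choose (hex i hi) else i with hρdef
  have hρ1 : ∀ i (hi : i < D.rank), ρ i < D.rank ∧
      Preserves' θ (D.rootSubgroup F (D.simple i)) (D.rootSubgroup F (D.simple (ρ i))) := by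
    intro i hi
    have := Classical.choose_spec (hex i hi)
    simp only [hρdef, dif_pos hi]
    exact this
  have hρ : ∀ i < D.rank, ρ i < D.rank := fun i hi => (hρ1 i hi).1
  have hmaps := fun i hi => (hρ1 i hi).2
  obtain ⟨hinj, -⟩ := perm_props_of_maps' c tc ac hR2 hhead θ ρ hρ hmaps
  refine ⟨ρ, hρ, hmaps, ?_⟩
  intro k hk
  obtain ⟨j, hj, hP⟩ := exists_neg_simple_of_aut c tc ac gc hdesc hR2 θ hU hV k hk
  obtain ⟨i, hi, hij⟩ := surj_of_inj D.rank ρ hρ hinj j hj
  by_cases hik : i = k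
  · rw [← hik, hij]
    rw [← hik] at hP
    exact hP
  · exfalso
    have h1 := comm_simple_neg_simple c tc ac hR2 hi hk hik
    have h2 := hmaps i hi
    rw [hij] at h2
    exact not_comm_simple_neg c tc ac hj (comm_of_maps c θ h2 hP h1)

/-! ### Automorphisms that preserve the fundamental root subgroups -/

/-- For a unimodular Cartan matrix, an automorphism that preserves the root subgroups of the fundamental roots and of
their negatives is the product of the conjugation by a torus element and a field automorphism. -/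
theorem eq_torus_mul_field (A : AutBase2 D Ns wl ws sc w d w0 F) {parC depC : List ℕ}
    (hconn : ConnCert D parC depC)
    {b0 : ℕ} {hasLong : Bool} {c0 a0 b1 : ℕ} {C : ℤ} {par : List (ℕ × ℕ)} {dep comp : List ℕ}
    (oc : OCert D b0 hasLong c0 a0 b1 C par dep comp) (hrep : RepCert D comp)
    (B : List (List ℤ)) (hB : InvCartanL D B) (θ : MulAut ↥(D.group F))
    (hpos : ∀ i < D.rank, Preserves θ (D.rootSubgroup F (D.simple i)))
    (hneg : ∀ i < D.rank, Preserves θ (D.rootSubgroup F (D.neg (D.simple i)))) :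
    ∃ (h : ↥(D.group F)) (σ : F ≃+* F), (h : GL D.Idx F) ∈ D.diagonalSubgroup F ∧
      θ = MulAut.conj h * fieldAutOf A.c σ := by
  obtain ⟨σ, a, ha, hκ⟩ := eq_scalar_mul_field_of_preserves' A hconn oc hrep θ hpos hneg
  obtain ⟨c, tc, ac, gc, hdesc, hR2, hw, hws, hhead⟩ := A
  obtain ⟨h, hh, hconj⟩ := exists_diagonal_of_scalars c tc ac B hB a ha
  set hG : ↥(D.group F) := ⟨h, diagonal_le_group c hh⟩ with hhG
  refine ⟨hG, σ, hh, ?_⟩
  apply hκ (MulAut.conj hG)
  · intro i hi t
    apply Subtype.ext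
    exact hconj i hi t
  · intro i hi
    exact preserves_conj_of_actsAs c hG (actsAs_diagonal c tc _ hh) _ (DCert.neg_lt c _ (ac.simple i hi).1)

/-! ### The characteristic when the symmetry of the graph is realized -/

theorem xG_zero (c : DCert D Ns) (r : ℕ) : xG c r (0 : F) = 1 := Subtype.ext (xGL_zero c r)

/-- If an automorphism maps two commuting root subgroups onto root subgroups with a commutator formula with one term,
the coefficient vanishes in the field. -/
theorem coeff_zero_of_comm (c : DCert D Ns) (tc : TCert D) (ac : ACert D wl ws sc) (θ : MulAut ↥(D.group F))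
    {r s r' s' q : ℕ} {C' : ℤ} (hq : q < D.nroots) (hR : R2At D F r s) (hR' : R2At D F r' s')
    (he : D.commTerms r s = []) (he' : D.commTerms r' s' = [(q, C', 1, 1)])
    (hr : Preserves' θ (D.rootSubgroup F r) (D.rootSubgroup F r'))
    (hs : Preserves' θ (D.rootSubgroup F s) (D.rootSubgroup F s')) : (C' : F) = 0 := by
  have h1 : Comm c F r' s' := comm_of_maps c θ hr hs (comm_of_commTerms_nil c hR he)
  have h2 := hR' 1 1
  unfold ChevalleyDatum.commWord at h2
  rw [he'] at h2
  simp only [List.map_cons, List.map_nil, ChevalleyDatum.wordMat, List.prod_cons, List.prod_nil, mul_one,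
    pow_one] at h2
  have h3 : xGL c s' (1 : F) * xGL c r' 1 = xGL c r' 1 * xGL c s' 1 * xGL c q ((C' : F) * -1) := by
    apply Units.ext
    simp only [Units.val_mul, xGL_coe]
    exact h2
  rw [← h1 1 1] at h3
  have h4 : xGL c q ((C' : F) * -1) = xGL c q 0 := by
    rw [xGL_zero]
    exact (mul_eq_left (a := xGL c r' (1 : F) * xGL c s' 1)).mp h3.symm
  have h5 := xGL_param_inj c tc ac q hq _ _ (congrArg (fun g : GL D.Idx F => (g : Matrix D.Idx D.Idx F)) h4)
  linear_combination -h5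

/-- If an automorphism maps two root subgroups with a commutator formula with one term onto root subgroups with a
commutator formula with three terms, the coefficient of the second term vanishes in the field. -/
theorem coeff_zero_of_extra (c : DCert D Ns) (tc : TCert D) (ac : ACert D wl ws sc) (θ : MulAut ↥(D.group F))
    {r s r' s' q₁ q₁' q₂' q₃' : ℕ} {C₁ C₁' C₂' C₃' : ℤ} (hR : R2At D F r s) (hR' : R2At D F r' s')
    (he : D.commTerms r s = [(q₁, C₁, 1, 1)])
    (he' : D.commTerms r' s' = [(q₁', C₁', 1, 1), (q₂', C₂', 2, 1), (q₃', C₃', 1, 2)])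
    (hnd : [q₁', q₂', q₃'].Nodup) (hpos : ∀ x ∈ [q₁', q₂', q₃'], D.IsPosRoot x)
    (hr : Preserves' θ (D.rootSubgroup F r) (D.rootSubgroup F r'))
    (hs : Preserves' θ (D.rootSubgroup F s) (D.rootSubgroup F s'))
    (hq : Preserves' θ (D.rootSubgroup F q₁) (D.rootSubgroup F q₁')) : (C₂' : F) = 0 := by
  obtain ⟨t₁, ht₁⟩ := exists_param_inv c θ hr 1
  obtain ⟨u₁, hu₁⟩ := exists_param_inv c θ hs 1
  have h1 := r2_group c hR t₁ u₁
  have hw1 : D.commWord F r s t₁ u₁ = [(q₁, (C₁ : F) * (-t₁) ^ 1 * u₁ ^ 1)] := by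
    unfold ChevalleyDatum.commWord
    rw [he]
    rfl
  rw [hw1] at h1
  obtain ⟨v', hv'⟩ := exists_param c θ hq ((C₁ : F) * (-t₁) ^ 1 * u₁ ^ 1)
  have e1 : wordG c [(q₁, (C₁ : F) * (-t₁) ^ 1 * u₁ ^ 1)] = xG c q₁ ((C₁ : F) * (-t₁) ^ 1 * u₁ ^ 1) := by
    unfold wordG
    simp
  have e2 : θ (xG c q₁ ((C₁ : F) * (-t₁) ^ 1 * u₁ ^ 1)) = xG c q₁' v' := Subtype.ext hv'
  have h2 := congrArg θ h1
  rw [map_mul, map_mul, map_mul, ht₁, hu₁, e1, e2, r2_group c hR' 1 1] at h2
  have h3 := mul_left_cancel h2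
  have hw2 : D.commWord F r' s' 1 1 = [(q₁', (C₁' : F) * (-1) ^ 1 * 1 ^ 1), (q₂', (C₂' : F) * (-1) ^ 2 * 1 ^ 1),
      (q₃', (C₃' : F) * (-1) ^ 1 * 1 ^ 2)] := by
    unfold ChevalleyDatum.commWord
    rw [he']
    rfl
  have e3 : xG c q₁' v' = wordG c [(q₁', v'), (q₂', 0), (q₃', 0)] := by
    unfold wordG
    simp [xG_zero]
  rw [hw2, e3] at h3
  have h4 := congrArg (fun x : ↥(D.group F) => ((x : GL D.Idx F) : Matrix D.Idx D.Idx F)) h3
  simp only [wordG_coe, wordGL_coe] at h4
  have h5 := unique_words c tc ac _ _ (by rfl) (by simpa using hnd) (by simpa using hpos) h4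
  have h6 := (List.cons.inj (List.cons.inj h5).2).1
  have h7 := (Prod.mk.inj h6).2
  simpa using h7

/-! ### A symmetry of order two of the underlying graph -/

/-- The certificate of a symmetry of order two of the underlying graph. -/
def FlipCert (D : ChevalleyDatum) (τ : List ℕ) : Prop :=
  ∀ i < D.rank, τ.getD i 0 < D.rank ∧ τ.getD (τ.getD i 0) 0 = i ∧
    ∀ k < D.rank, adjB D (τ.getD i 0) (τ.getD k 0) = adjB D i k

instance (D : ChevalleyDatum) (τ : List ℕ) : Decidable (FlipCert D τ) := by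
  unfold FlipCert
  infer_instance

/-- A permutation of the nodes that preserves adjacency and moves the first node is the symmetry. -/
theorem eq_flip_of_swap {k' : ℕ} {τ : List ℕ} (horb : OrbitCert D 0 k') (hprig : PointedRigid D 0)
    (hflip : FlipCert D τ) (hτ0 : τ.getD 0 0 = k') (ρ : ℕ → ℕ) (hρ : ∀ i < D.rank, ρ i < D.rank)
    (hinj : ∀ i < D.rank, ∀ k < D.rank, ρ i = ρ k → i = k)
    (hadj : ∀ i < D.rank, ∀ k < D.rank, adjB D (ρ i) (ρ k) = adjB D i k) (h : ρ 0 = k') :
    ∀ i < D.rank, ρ i = τ.getD i 0 := by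
  have h0 : 0 < D.rank := horb.1
  have hρ' : ∀ i < D.rank, ρ (τ.getD i 0) < D.rank := fun i hi => hρ _ (hflip i hi).1
  have hinj' : ∀ i < D.rank, ∀ k < D.rank, ρ (τ.getD i 0) = ρ (τ.getD k 0) → i = k := by
    intro i hi k hk hik
    have h1 := hinj _ (hflip i hi).1 _ (hflip k hk).1 hik
    have h2 : τ.getD (τ.getD i 0) 0 = τ.getD (τ.getD k 0) 0 := by rw [h1]
    rw [(hflip i hi).2.1, (hflip k hk).2.1] at h2
    exact h2
  have hadj' : ∀ i < D.rank, ∀ k < D.rank,
      adjB D (ρ (τ.getD i 0)) (ρ (τ.getD k 0)) = adjB D i k := by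
    intro i hi k hk
    rw [hadj _ (hflip i hi).1 _ (hflip k hk).1, (hflip i hi).2.2 k hk]
  have hfix : ρ (τ.getD 0 0) = 0 := by
    rw [hτ0]
    obtain ⟨i, hi, hi0⟩ := surj_of_inj D.rank ρ hρ hinj 0 h0
    rcases horb.2.2 i hi with h1 | h1 | ⟨m, -, hm⟩
    · rw [h1] at hi0
      have hk0 : k' = 0 := h.symm.trans hi0
      rw [hk0]
      exact hi0
    · rw [← h1]
      exact hi0
    · exfalso
      apply hm
      rw [← walk_perm (adjB D) D.rank ρ hρ hinj hadj m i hi, hi0]
  have hid := eq_of_pointedRigid hprig (fun i => ρ (τ.getD i 0)) hρ' hinj' hadj' hfix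
  intro i hi
  have h3 : ρ (τ.getD (τ.getD i 0) 0) = τ.getD i 0 := hid _ (hflip i hi).1
  rw [(hflip i hi).2.1] at h3
  exact h3

/-! ### The decomposition of the automorphisms -/

/-- If no automorphism maps the fundamental root subgroups along the symmetry of the graph, every automorphism is the
product of an inner automorphism and a field automorphism (unimodular Cartan matrix). -/
theorem exists_inner_mul_field2 [Fintype F] (p : ℕ) [Fact p.Prime] [CharP F p]
    (A : AutBase2 D Ns wl ws sc w d w0 F) {parC depC : List ℕ} (hconn : ConnCert D parC depC)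
    {b0 : ℕ} {hasLong : Bool} {c0 a0 b1 : ℕ} {C : ℤ} {par : List (ℕ × ℕ)} {dep comp : List ℕ}
    (oc : OCert D b0 hasLong c0 a0 b1 C par dep comp) (hrep : RepCert D comp)
    (B : List (List ℤ)) (hB : InvCartanL D B) {k' : ℕ} {τ : List ℕ} (horb : OrbitCert D 0 k')
    (hprig : PointedRigid D 0) (hflip : FlipCert D τ) (hτ0 : τ.getD 0 0 = k')
    (hkey : ∀ θ : MulAut ↥(D.group F),
      (∀ i < D.rank, Preserves' θ (D.rootSubgroup F (D.simple i)) (D.rootSubgroup F (D.simple (τ.getD i 0)))) →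
      (∀ i < D.rank, Preserves' θ (D.rootSubgroup F (D.neg (D.simple i)))
        (D.rootSubgroup F (D.neg (D.simple (τ.getD i 0))))) → False)
    (θ : MulAut ↥(D.group F)) :
    ∃ (g : ↥(D.group F)) (σ : F ≃+* F), θ = MulAut.conj g * fieldAutOf A.c σ := by
  have hA := A
  obtain ⟨c, tc, ac, gc, hdesc, hR2, hw, hws, hhead⟩ := A
  obtain ⟨a₁, hU₁⟩ := exists_conj_preserves_pos p c tc ac gc hdesc hR2 θ
  obtain ⟨b, -, hU₂, hV₂⟩ := exists_conj_preserves_neg c tc ac gc hdesc hR2 hw (MulAut.conj a₁ * θ) hU₁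
  set θ₂ := MulAut.conj b * (MulAut.conj a₁ * θ) with hθ₂
  have hθ : θ = MulAut.conj (a₁⁻¹ * b⁻¹) * θ₂ := by
    rw [hθ₂, map_mul, map_inv, map_inv]
    group
  obtain ⟨ρ, hρ, hmp, hmn⟩ := exists_perm_of_aut' hA θ₂ hU₂ hV₂
  obtain ⟨hinj, hadj⟩ := perm_props_of_maps' c tc ac hR2 hhead θ₂ ρ hρ hmp
  rcases mem_orbit horb ρ hρ hinj hadj with h | h
  · have hid := eq_of_pointedRigid hprig ρ hρ hinj hadj h
    have hpos : ∀ i < D.rank, Preserves θ₂ (D.rootSubgroup F (D.simple i)) := by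
      intro i hi
      have := hmp i hi
      rwa [hid i hi] at this
    have hneg : ∀ i < D.rank, Preserves θ₂ (D.rootSubgroup F (D.neg (D.simple i))) := by
      intro i hi
      have := hmn i hi
      rwa [hid i hi] at this
    obtain ⟨hG, σ, -, e⟩ := eq_torus_mul_field hA hconn oc hrep B hB θ₂ hpos hneg
    refine ⟨a₁⁻¹ * b⁻¹ * hG, σ, ?_⟩
    rw [hθ, e, map_mul (MulAut.conj) (a₁⁻¹ * b⁻¹) hG, mul_assoc]
  · exfalso
    have hfl := eq_flip_of_swap horb hprig hflip hτ0 ρ hρ hinj hadj h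
    apply hkey θ₂
    · intro i hi
      have := hmp i hi
      rwa [hfl i hi] at this
    · intro i hi
      have := hmn i hi
      rwa [hfl i hi] at this

/-- A graph automorphism along the symmetry `τ` of the graph. -/
structure GraphAut2 (D : ChevalleyDatum) (F : Type*) [Field F] (τ : List ℕ) (ψ : MulAut ↥(D.group F)) : Prop where
  maps_pos : ∀ i < D.rank, Preserves' ψ (D.rootSubgroup F (D.simple i)) (D.rootSubgroup F (D.simple (τ.getD i 0)))
  maps_neg : ∀ i < D.rank, Preserves' ψ (D.rootSubgroup F (D.neg (D.simple i)))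
    (D.rootSubgroup F (D.neg (D.simple (τ.getD i 0))))
  presU : Preserves ψ (D.posUnipotent F)
  presV : Preserves ψ (D.negUnipotent F)

/-- With a graph automorphism along the symmetry of the graph, every automorphism is the product of an inner
automorphism, a field automorphism and possibly the inverse of the graph automorphism (unimodular Cartan matrix). -/
theorem exists_inner_mul_field_graph2 [Fintype F] (p : ℕ) [Fact p.Prime] [CharP F p]
    (A : AutBase2 D Ns wl ws sc w d w0 F) {parC depC : List ℕ} (hconn : ConnCert D parC depC)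
    {b0 : ℕ} {hasLong : Bool} {c0 a0 b1 : ℕ} {C : ℤ} {par : List (ℕ × ℕ)} {dep comp : List ℕ}
    (oc : OCert D b0 hasLong c0 a0 b1 C par dep comp) (hrep : RepCert D comp)
    (B : List (List ℤ)) (hB : InvCartanL D B) {k' : ℕ} {τ : List ℕ} (horb : OrbitCert D 0 k')
    (hprig : PointedRigid D 0) (hflip : FlipCert D τ) (hτ0 : τ.getD 0 0 = k')
    {ψ : MulAut ↥(D.group F)} (hψ : GraphAut2 D F τ ψ) (θ : MulAut ↥(D.group F)) :
    ∃ (g : ↥(D.group F)) (σ : F ≃+* F), θ = MulAut.conj g * fieldAutOf A.c σ ∨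
      θ = MulAut.conj g * fieldAutOf A.c σ * ψ⁻¹ := by
  have hA := A
  obtain ⟨c, tc, ac, gc, hdesc, hR2, hw, hws, hhead⟩ := A
  obtain ⟨a₁, hU₁⟩ := exists_conj_preserves_pos p c tc ac gc hdesc hR2 θ
  obtain ⟨b, -, hU₂, hV₂⟩ := exists_conj_preserves_neg c tc ac gc hdesc hR2 hw (MulAut.conj a₁ * θ) hU₁
  set θ₂ := MulAut.conj b * (MulAut.conj a₁ * θ) with hθ₂
  have hθ : θ = MulAut.conj (a₁⁻¹ * b⁻¹) * θ₂ := by
    rw [hθ₂, map_mul, map_inv, map_inv]
    group
  obtain ⟨ρ, hρ, hmp, hmn⟩ := exists_perm_of_aut' hA θ₂ hU₂ hV₂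
  obtain ⟨hinj, hadj⟩ := perm_props_of_maps' c tc ac hR2 hhead θ₂ ρ hρ hmp
  rcases mem_orbit horb ρ hρ hinj hadj with h | h
  · have hid := eq_of_pointedRigid hprig ρ hρ hinj hadj h
    have hpos : ∀ i < D.rank, Preserves θ₂ (D.rootSubgroup F (D.simple i)) := by
      intro i hi
      have := hmp i hi
      rwa [hid i hi] at this
    have hneg : ∀ i < D.rank, Preserves θ₂ (D.rootSubgroup F (D.neg (D.simple i))) := by
      intro i hi
      have := hmn i hi
      rwa [hid i hi] at this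
    obtain ⟨hG, σ, -, e⟩ := eq_torus_mul_field hA hconn oc hrep B hB θ₂ hpos hneg
    refine ⟨a₁⁻¹ * b⁻¹ * hG, σ, Or.inl ?_⟩
    rw [hθ, e, map_mul (MulAut.conj) (a₁⁻¹ * b⁻¹) hG, mul_assoc]
  · have hfl := eq_flip_of_swap horb hprig hflip hτ0 ρ hρ hinj hadj h
    set θ₃ := θ₂ * ψ with hθ₃
    have hpos : ∀ i < D.rank, Preserves θ₃ (D.rootSubgroup F (D.simple i)) := by
      intro i hi
      have h1 := hmp _ (hflip i hi).1
      rw [hfl _ (hflip i hi).1, (hflip i hi).2.1] at h1
      exact preserves'_mul h1 (hψ.maps_pos i hi)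
    have hneg : ∀ i < D.rank, Preserves θ₃ (D.rootSubgroup F (D.neg (D.simple i))) := by
      intro i hi
      have h1 := hmn _ (hflip i hi).1
      rw [hfl _ (hflip i hi).1, (hflip i hi).2.1] at h1
      exact preserves'_mul h1 (hψ.maps_neg i hi)
    obtain ⟨hG, σ, -, e⟩ := eq_torus_mul_field hA hconn oc hrep B hB θ₃ hpos hneg
    refine ⟨a₁⁻¹ * b⁻¹ * hG, σ, Or.inr ?_⟩
    have e1 : θ₂ = MulAut.conj hG * fieldAutOf c σ * ψ⁻¹ := by
      rw [← e, hθ₃]
      group
    rw [hθ, e1, map_mul (MulAut.conj) (a₁⁻¹ * b⁻¹) hG]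
    simp only [mul_assoc]

end Cfsg.Agent.Lib.Helper18_ChevAutK
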