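import Cfsg.Agent.Lib.Helper18_ChevAutK

set_option autoImplicit false

/-!
Automorphisms of the Chevalley groups over finite fields, twelfth part: diagrams with two root lengths and a
symmetry of order two of the underlying graph (types G2, B2, F4). The cardinality of the group of outer
automorphisms, with and without a graph automorphism.
-/

namespace Cfsg.Agent.Lib.Helper18_ChevAutL

open Cfsg Cfsg.Lie Cfsg.Agent.Lib.Helper18_ChevFast Cfsg.Agent.Lib.Helper18_ChevEngine
  Cfsg.Agent.Lib.Helper18_ChevR1 Cfsg.Agent.Lib.Helper18_ChevN Cfsg.Agent.Lib.Helper18_ChevR4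
  Cfsg.Agent.Lib.Helper18_ChevSimple Cfsg.Agent.Lib.Helper18_ChevSimple2 Cfsg.Agent.Lib.Helper18_ChevFacts
  Cfsg.Agent.Lib.Helper18_ChevWeyl Cfsg.Agent.Lib.Helper18_ChevDiag Cfsg.Agent.Lib.Helper18_ChevCar
  Cfsg.Agent.Lib.Helper18_ChevTorus Cfsg.Agent.Lib.Helper18_ChevGL Cfsg.Agent.Lib.Helper18_ChevComm
  Cfsg.Agent.Lib.Helper18_ChevComm2 Cfsg.Agent.Lib.Helper18_MatTri Cfsg.Agent.Lib.Helper18_ChevTri
  Cfsg.Agent.Lib.Helper18_ChevBorel Cfsg.Agent.Lib.Helper18_ChevAdd Cfsg.Agent.Lib.Helper18_ChevUni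
  Cfsg.Agent.Lib.Helper18_ChevBN Cfsg.Agent.Lib.Helper18_ChevMono Cfsg.Agent.Lib.Helper18_ChevBNPair
  Cfsg.Agent.Lib.Helper18_ChevSimp Cfsg.Agent.Lib.Helper18_ChevJCerts Cfsg.Agent.Lib.Helper18_ChevLevi
  Cfsg.Agent.Lib.Helper18_ChevBruhat Cfsg.Agent.Lib.Helper18_ChevPar Cfsg.Agent.Lib.Helper18_ChevRootHom
  Cfsg.Agent.Lib.Helper18_ChevOrder Cfsg.Agent.Lib.Helper18_ChevSylow Cfsg.Agent.Lib.Helper18_ChevCent
  Cfsg.Agent.Lib.Helper18_ChevFrob Cfsg.Agent.Lib.Helper18_ChevAutA Cfsg.Agent.Lib.Helper18_ChevAutB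
  Cfsg.Agent.Lib.Helper18_ChevAutC Cfsg.Agent.Lib.Helper18_ChevAutD Cfsg.Agent.Lib.Helper18_ChevGen
  Cfsg.Agent.Lib.Helper18_ChevField Cfsg.Agent.Lib.Helper18_ChevAutE Cfsg.Agent.Lib.Helper18_ChevAutF
  Cfsg.Agent.Lib.Helper18_ChevAutG Cfsg.Agent.Lib.Helper18_ChevAutH Cfsg.Agent.Lib.Helper18_TorusKer
  Cfsg.Agent.Lib.Helper18_ChevAutI Cfsg.Agent.Lib.Helper18_ChevAutJ Cfsg.Agent.Lib.Helper18_ChevAutK

variable {D : ChevalleyDatum} {Ns : List NData} {F : Type*} [Field F]
variable {wl : List ℤ} {ws : List (List ℤ)} {sc : ℤ} {w : List ℤ} {d : ℕ} {w0 : List ℕ}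

/-- A field automorphism of the group that is inner is trivial. -/
theorem eq_one_of_fieldAutOf_eq_conj' (A : AutBase2 D Ns wl ws sc w d w0 F) (h0 : 0 < D.rank) (σ : F ≃+* F)
    (g : ↥(D.group F)) (h : fieldAutOf A.c σ = MulAut.conj g) : σ = 1 := by
  obtain ⟨c, tc, ac, gc, hdesc, hR2, hw, hws, hhead⟩ := A
  have hg1 : (g : GL D.Idx F) = 1 := by
    apply eq_one_of_commute c tc ac gc hdesc hR2 hw (σ : F →+* F) _ g.2
    intro r t ht
    have h1 := congrArg (fun φ : MulAut ↥(D.group F) => ((φ (xG c r t) : ↥(D.group F)) : GL D.Idx F)) h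
    simp only [fieldAutOf_coe, xG_coe, mapGL_xGL] at h1
    have ht' : (σ : F →+* F) t = t := ht
    rw [ht'] at h1
    have h2 : xGL c r t = (g : GL D.Idx F) * xGL c r t * (g : GL D.Idx F)⁻¹ := h1
    calc (g : GL D.Idx F) * xGL c r t = ((g : GL D.Idx F) * xGL c r t * (g : GL D.Idx F)⁻¹) * g := by group
      _ = xGL c r t * g := by rw [← h2]
  have hg : g = 1 := Subtype.ext hg1
  rw [hg, map_one] at h
  ext t
  have hp := (ac.simple 0 h0).1
  have h1 := congrArg (fun φ : MulAut ↥(D.group F) => φ (xG c (D.simple 0) t)) h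
  simp only [fieldAutOf_xG, MulAut.one_apply] at h1
  exact xG_inj c tc ac hp h1

/-- The field automorphisms embed into the group of outer automorphisms. -/
theorem fieldOut_injective (A : AutBase2 D Ns wl ws sc w d w0 F) (h0 : 0 < D.rank) :
    Function.Injective ((QuotientGroup.mk' (Cfsg.Inn ↥(D.group F))).comp (fieldAutHom (F := F) A.c)) := by
  rw [injective_iff_map_eq_one]
  intro σ hσ
  have h1 : fieldAutOf A.c σ ∈ Cfsg.Inn ↥(D.group F) := (QuotientGroup.eq_one_iff _).mp hσ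
  obtain ⟨g, hg⟩ := h1
  exact eq_one_of_fieldAutOf_eq_conj' A h0 σ g hg.symm

/-- If no automorphism maps the fundamental root subgroups along the symmetry of the graph, the group of outer
automorphisms has the cardinality of the group of automorphisms of the field (unimodular Cartan matrix). -/
theorem card_out2 [Fintype F] (p : ℕ) [Fact p.Prime] [CharP F p]
    (A : AutBase2 D Ns wl ws sc w d w0 F) {parC depC : List ℕ} (hconn : ConnCert D parC depC)
    {b0 : ℕ} {hasLong : Bool} {c0 a0 b1 : ℕ} {C : ℤ} {par : List (ℕ × ℕ)} {dep comp : List ℕ}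
    (oc : OCert D b0 hasLong c0 a0 b1 C par dep comp) (hrep : RepCert D comp)
    (B : List (List ℤ)) (hB : InvCartanL D B) {k' : ℕ} {τ : List ℕ} (horb : OrbitCert D 0 k')
    (hprig : PointedRigid D 0) (hflip : FlipCert D τ) (hτ0 : τ.getD 0 0 = k')
    (hkey : ∀ θ : MulAut ↥(D.group F),
      (∀ i < D.rank, Preserves' θ (D.rootSubgroup F (D.simple i)) (D.rootSubgroup F (D.simple (τ.getD i 0)))) →
      (∀ i < D.rank, Preserves' θ (D.rootSubgroup F (D.neg (D.simple i)))
        (D.rootSubgroup F (D.neg (D.simple (τ.getD i 0))))) → False) :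
    Nat.card (Cfsg.Out ↥(D.group F)) = Nat.card (RingAut F) := by
  have h0 : 0 < D.rank := horb.1
  let Ψ : RingAut F →* Cfsg.Out ↥(D.group F) :=
    (QuotientGroup.mk' (Cfsg.Inn ↥(D.group F))).comp (fieldAutHom A.c)
  have hinj : Function.Injective Ψ := fieldOut_injective A h0
  have hsurj : Function.Surjective Ψ := by
    intro x
    obtain ⟨θ, rfl⟩ := QuotientGroup.mk_surjective x
    obtain ⟨g, σ, hθ⟩ := exists_inner_mul_field2 p A hconn oc hrep B hB horb hprig hflip hτ0 hkey θ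
    refine ⟨σ, ?_⟩
    show (QuotientGroup.mk (fieldAutOf A.c σ) : Cfsg.Out ↥(D.group F)) = QuotientGroup.mk θ
    rw [hθ, QuotientGroup.mk_mul]
    have : (QuotientGroup.mk (MulAut.conj g) : Cfsg.Out ↥(D.group F)) = 1 :=
      (QuotientGroup.eq_one_iff _).mpr ⟨g, rfl⟩
    rw [this, one_mul]
  exact (Nat.card_congr (Equiv.ofBijective Ψ ⟨hinj, hsurj⟩)).symm

/-- A graph automorphism along a symmetry moving the first node is not the product of an inner automorphism and a
field automorphism. -/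
theorem graph_ne_inner_mul_field (A : AutBase2 D Ns wl ws sc w d w0 F) {τ : List ℕ} (h0 : 0 < D.rank)
    (hτ0 : τ.getD 0 0 ≠ 0) (hτlt : τ.getD 0 0 < D.rank)
    {ψ : MulAut ↥(D.group F)} (hψ : GraphAut2 D F τ ψ) (g : ↥(D.group F)) (σ : F ≃+* F)
    (h : ψ = MulAut.conj g * fieldAutOf A.c σ) : False := by
  obtain ⟨c, tc, ac, gc, hdesc, hR2, hw, hws, hhead⟩ := A
  have e : MulAut.conj g = ψ * (fieldAutOf c σ)⁻¹ := by
    rw [h]
    group
  have hU : Preserves (MulAut.conj g) (D.posUnipotent F) := by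
    rw [e]
    exact hψ.presU.mul (fieldAutOf_preserves_closure c σ D.IsPosRoot).inv
  have hV : Preserves (MulAut.conj g) (D.negUnipotent F) := by
    rw [e]
    exact hψ.presV.mul (fieldAutOf_preserves_closure c σ D.IsNegRoot).inv
  have hH := mem_diagonal_of_preserves c tc ac gc hR2 hw g hU hV
  have hact : ActsAs c (g : GL D.Idx F) id := actsAs_diagonal c tc _ hH
  have hp0 := (ac.simple 0 h0).1
  have hp1 := (ac.simple _ hτlt).1
  have h1 : Preserves (MulAut.conj g) (D.rootSubgroup F (D.simple 0)) := preserves_conj_of_actsAs c g hact _ hp0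
  have h2 : Preserves' (MulAut.conj g) (D.rootSubgroup F (D.simple 0)) (D.rootSubgroup F (D.simple (τ.getD 0 0))) := by
    rw [e]
    exact preserves'_mul (hψ.maps_pos 0 h0) (fieldAutOf_preserves c σ _).inv
  -- the element `x_{p_0}(1)` lies in both root subgroups
  have h3 : ((MulAut.conj g (xG c (D.simple 0) (1 : F)) : ↥(D.group F)) : GL D.Idx F) ∈
      D.rootSubgroup F (D.simple 0) := (h1 _).mpr ((mem_rootSubgroup_iff c _ _).mpr ⟨1, rfl⟩)
  have h4 : ((MulAut.conj g (xG c (D.simple 0) (1 : F)) : ↥(D.group F)) : GL D.Idx F) ∈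
      D.rootSubgroup F (D.simple (τ.getD 0 0)) := (h2 _).mpr ((mem_rootSubgroup_iff c _ _).mpr ⟨1, rfl⟩)
  obtain ⟨a, ha⟩ := (mem_rootSubgroup_iff c _ _).mp h3
  obtain ⟨b, hb⟩ := (mem_rootSubgroup_iff c _ _).mp h4
  have hane : a ≠ 0 := by
    rintro rfl
    rw [xGL_zero] at ha
    have h5 : MulAut.conj g (xG c (D.simple 0) (1 : F)) = 1 := Subtype.ext ha
    have h6 : xG c (D.simple 0) (1 : F) = 1 := by
      apply (MulAut.conj g).injective
      rw [h5, map_one]
    have h7 : xG c (D.simple 0) (1 : F) = xG c (D.simple 0) 0 := by rw [h6, xG_zero]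
    exact one_ne_zero (xG_inj c tc ac hp0 h7)
  have h8 : xGL c (D.simple 0) a = xGL c (D.simple (τ.getD 0 0)) b := by rw [← ha, ← hb]
  have h9 := congrArg (fun g : GL D.Idx F => (g : Matrix D.Idx D.Idx F)) h8
  have h10 := root_eq_of_x_eq c tc ac _ _ hp0 hp1 a b hane h9
  exact hτ0 (simple_inj tc hτlt h0 h10)

/-- With a graph automorphism along the symmetry of the graph, the group of outer automorphisms has twice the
cardinality of the group of automorphisms of the field (unimodular Cartan matrix). -/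
theorem card_out_graph2 [Fintype F] (p : ℕ) [Fact p.Prime] [CharP F p]
    (A : AutBase2 D Ns wl ws sc w d w0 F) {parC depC : List ℕ} (hconn : ConnCert D parC depC)
    {b0 : ℕ} {hasLong : Bool} {c0 a0 b1 : ℕ} {C : ℤ} {par : List (ℕ × ℕ)} {dep comp : List ℕ}
    (oc : OCert D b0 hasLong c0 a0 b1 C par dep comp) (hrep : RepCert D comp)
    (B : List (List ℤ)) (hB : InvCartanL D B) {k' : ℕ} {τ : List ℕ} (horb : OrbitCert D 0 k')
    (hprig : PointedRigid D 0) (hflip : FlipCert D τ) (hτ0 : τ.getD 0 0 = k') (hk' : k' ≠ 0)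
    {ψ : MulAut ↥(D.group F)} (hψ : GraphAut2 D F τ ψ) :
    Nat.card (Cfsg.Out ↥(D.group F)) = Nat.card (RingAut F) * 2 := by
  have h0 : 0 < D.rank := horb.1
  let Ψ : RingAut F →* Cfsg.Out ↥(D.group F) :=
    (QuotientGroup.mk' (Cfsg.Inn ↥(D.group F))).comp (fieldAutHom A.c)
  have hinj : Function.Injective Ψ := fieldOut_injective A h0
  have hΨ : ∀ σ : RingAut F, Ψ σ = (QuotientGroup.mk (fieldAutOf A.c σ) : Cfsg.Out ↥(D.group F)) := fun _ => rfl
  have hconj : ∀ g : ↥(D.group F), (QuotientGroup.mk (MulAut.conj g) : Cfsg.Out ↥(D.group F)) = 1 := fun g =>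
    (QuotientGroup.eq_one_iff _).mpr ⟨g, rfl⟩
  have hτ0' : τ.getD 0 0 ≠ 0 := by rw [hτ0]; exact hk'
  have hτlt : τ.getD 0 0 < D.rank := (hflip 0 h0).1
  have hidx : Ψ.range.index = 2 := by
    rw [Subgroup.index_eq_two_iff]
    refine ⟨(QuotientGroup.mk ψ : Cfsg.Out ↥(D.group F)), fun x => ?_⟩
    obtain ⟨θ, rfl⟩ := QuotientGroup.mk_surjective x
    have hnot : ¬ ((QuotientGroup.mk ψ : Cfsg.Out ↥(D.group F)) ∈ Ψ.range) := by
      rintro ⟨σ, hσ⟩
      rw [hΨ] at hσ
      have h1 := QuotientGroup.eq.mp hσ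
      obtain ⟨g, hg⟩ := h1
      -- `(fieldAutOf σ)⁻¹ * ψ = conj g`
      have h2 : ψ = fieldAutOf A.c σ * MulAut.conj g := by
        have hg' : MulAut.conj g = (fieldAutOf A.c σ)⁻¹ * ψ := hg
        rw [hg']
        group
      -- move the inner automorphism to the left
      have h3 : fieldAutOf A.c σ * MulAut.conj g = MulAut.conj (fieldAutOf A.c σ g) * fieldAutOf A.c σ := by
        apply MulEquiv.ext
        intro x
        simp only [MulAut.mul_apply, MulAut.conj_apply, map_mul, map_inv]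
      rw [h3] at h2
      exact graph_ne_inner_mul_field A h0 hτ0' hτlt hψ _ σ h2
    obtain ⟨g, σ, h | h⟩ := exists_inner_mul_field_graph2 p A hconn oc hrep B hB horb hprig hflip hτ0 hψ θ
    · have hmem : (QuotientGroup.mk θ : Cfsg.Out ↥(D.group F)) ∈ Ψ.range := by
        refine ⟨σ, ?_⟩
        rw [hΨ, h, QuotientGroup.mk_mul, hconj, one_mul]
      refine Or.inr ⟨hmem, fun hmem2 => hnot ?_⟩
      have := Subgroup.mul_mem _ (Subgroup.inv_mem _ hmem) hmem2
      rwa [inv_mul_cancel_left] at this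
    · have hmem : (QuotientGroup.mk θ : Cfsg.Out ↥(D.group F)) * QuotientGroup.mk ψ ∈ Ψ.range := by
        refine ⟨σ, ?_⟩
        rw [hΨ, h, ← QuotientGroup.mk_mul, inv_mul_cancel_right, QuotientGroup.mk_mul, hconj, one_mul]
      refine Or.inl ⟨hmem, fun hmem2 => hnot ?_⟩
      have := Subgroup.mul_mem _ (Subgroup.inv_mem _ hmem2) hmem
      rwa [inv_mul_cancel_left] at this
  have hcard : Nat.card Ψ.range = Nat.card (RingAut F) :=
    (Nat.card_congr (MonoidHom.ofInjective hinj).toEquiv).symm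
  rw [← Subgroup.card_mul_index Ψ.range, hidx, hcard]

end Cfsg.Agent.Lib.Helper18_ChevAutL
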