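import Cfsg.Agent.Lib.Helper18_ChevAutL

set_option autoImplicit false

/-!
Automorphisms of the Chevalley groups over finite fields, thirteenth part: diagrams with two root lengths and a
symmetry of order two of the underlying graph (types G2, B2, F4). The characteristic is special when the symmetry is
realized by an automorphism; an automorphism given by a formula on the root elements is a graph automorphism.
-/

namespace Cfsg.Agent.Lib.Helper18_ChevAutM

open Cfsg Cfsg.Lie Cfsg.Agent.Lib.Helper18_ChevFast Cfsg.Agent.Lib.Helper18_ChevEngine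
  Cfsg.Agent.Lib.Helper18_ChevR1 Cfsg.Agent.Lib.Helper18_ChevN Cfsg.Agent.Lib.Helper18_ChevR4
  Cfsg.Agent.Lib.Helper18_ChevSimple Cfsg.Agent.Lib.Helper18_ChevSimple2 Cfsg.Agent.Lib.Helper18_ChevFacts
  Cfsg.Agent.Lib.Helper18_ChevWeyl Cfsg.Agent.Lib.Helper18_ChevDiag Cfsg.Agent.Lib.Helper18_ChevCar
  Cfsg.Agent.Lib.Helper18_ChevTorus Cfsg.Agent.Lib.Helper18_ChevGL Cfsg.Agent.Lib.Helper18_ChevComm
  Cfsg.Agent.Lib.Helper18_ChevComm2 Cfsg.Agent.Lib.Helper18_MatTri Cfsg.Agent.Lib.Helper18_ChevTri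
  Cfsg.Agent.Lib.Helper18_ChevBorel Cfsg.Agent.Lib.Helper18_ChevAdd Cfsg.Agent.Lib.Helper18_ChevUni
  Cfsg.Agent.Lib.Helper18_ChevBN Cfsg.Agent.Lib.Helper18_ChevMono Cfsg.Agent.Lib.Helper18_ChevBNPair
  Cfsg.Agent.Lib.Helper18_ChevSimp Cfsg.Agent.Lib.Helper18_ChevJCerts Cfsg.Agent.Lib.Helper18_ChevLevi
  Cfsg.Agent.Lib.Helper18_ChevBruhat Cfsg.Agent.Lib.Helper18_ChevPar Cfsg.Agent.Lib.Helper18_ChevRootHom
  Cfsg.Agent.Lib.Helper18_ChevOrder Cfsg.Agent.Lib.Helper18_ChevSylow Cfsg.Agent.Lib.Helper18_ChevCent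
  Cfsg.Agent.Lib.Helper18_ChevFrob Cfsg.Agent.Lib.Helper18_ChevAutA Cfsg.Agent.Lib.Helper18_ChevAutB
  Cfsg.Agent.Lib.Helper18_ChevAutC Cfsg.Agent.Lib.Helper18_ChevAutD Cfsg.Agent.Lib.Helper18_ChevGen
  Cfsg.Agent.Lib.Helper18_ChevField Cfsg.Agent.Lib.Helper18_ChevAutE Cfsg.Agent.Lib.Helper18_ChevAutF
  Cfsg.Agent.Lib.Helper18_ChevAutG Cfsg.Agent.Lib.Helper18_ChevAutH Cfsg.Agent.Lib.Helper18_TorusKer
  Cfsg.Agent.Lib.Helper18_ChevAutI Cfsg.Agent.Lib.Helper18_ChevAutJ Cfsg.Agent.Lib.Helper18_ChevAutK Cfsg.Agent.Lib.Helper18_ChevAutL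

variable {D : ChevalleyDatum} {Ns : List NData} {F : Type*} [Field F]
variable {wl : List ℤ} {ws : List (List ℤ)} {sc : ℤ} {w : List ℤ} {d : ℕ} {w0 : List ℕ}

/-! ### The characteristic when the symmetry of the graph is realized -/

/-- The certificate for the first argument: the fundamental root `p_i` commutes with `w_k p_i`, but their images
along the symmetry have a commutator formula with one term. -/
def SwapCertA (D : ChevalleyDatum) (τ : List ℕ) (i k q : ℕ) (C' : ℤ) : Prop :=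
  i < D.rank ∧ k < D.rank ∧ τ.getD i 0 < D.rank ∧ τ.getD k 0 < D.rank ∧ q < D.nroots ∧
  (D.reflectRoot k (D.simple i) ≠ D.simple i ∧ D.reflectRoot k (D.simple i) ≠ D.neg (D.simple i)) ∧
  (D.reflectRoot (τ.getD k 0) (D.simple (τ.getD i 0)) ≠ D.simple (τ.getD i 0) ∧
    D.reflectRoot (τ.getD k 0) (D.simple (τ.getD i 0)) ≠ D.neg (D.simple (τ.getD i 0))) ∧
  D.commTerms (D.simple i) (D.reflectRoot k (D.simple i)) = [] ∧
  D.commTerms (D.simple (τ.getD i 0)) (D.reflectRoot (τ.getD k 0) (D.simple (τ.getD i 0))) = [(q, C', 1, 1)]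

instance (D : ChevalleyDatum) (τ : List ℕ) (i k q : ℕ) (C' : ℤ) : Decidable (SwapCertA D τ i k q C') := by
  unfold SwapCertA
  infer_instance

/-- No automorphism maps the fundamental root subgroups along the symmetry when the coefficient does not vanish in the
field (first argument). -/
theorem false_of_swapA (c : DCert D Ns) (tc : TCert D) (ac : ACert D wl ws sc) (gc : GCert D w d)
    (hR2 : R2All D F) {τ : List ℕ} {i k q : ℕ} {C' : ℤ} (hcert : SwapCertA D τ i k q C') (hC : (C' : F) ≠ 0)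
    (θ : MulAut ↥(D.group F))
    (hpos : ∀ i < D.rank, Preserves' θ (D.rootSubgroup F (D.simple i)) (D.rootSubgroup F (D.simple (τ.getD i 0))))
    (hneg : ∀ i < D.rank, Preserves' θ (D.rootSubgroup F (D.neg (D.simple i)))
      (D.rootSubgroup F (D.neg (D.simple (τ.getD i 0))))) : False := by
  obtain ⟨hi, hk, hτi, hτk, hq, ⟨hne1, hne2⟩, ⟨hne1', hne2'⟩, he, he'⟩ := hcert
  have hr := (ac.simple i hi).1
  have hr' := (ac.simple _ hτi).1
  have hs := c.reflect_lt k hk _ hr
  have hs' := c.reflect_lt _ hτk _ hr'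
  have hR : R2At D F (D.simple i) (D.reflectRoot k (D.simple i)) := hR2 _ _ hr hs hne1 hne2
  have hR' : R2At D F (D.simple (τ.getD i 0)) (D.reflectRoot (τ.getD k 0) (D.simple (τ.getD i 0))) :=
    hR2 _ _ hr' hs' hne1' hne2'
  have hms := maps_reflect c tc ac gc θ hk hτk (hpos k hk) (hneg k hk) hr hr' (hpos i hi)
  exact hC (coeff_zero_of_comm c tc ac θ hq hR hR' he he' (hpos i hi) hms)

/-- The certificate for the second argument: `p_i` and `w_k p_i` have a commutator formula with one term, but their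
images along the symmetry have a commutator formula with three terms. -/
def SwapCertB (D : ChevalleyDatum) (τ : List ℕ) (i k : ℕ) (C₁ C₁' C₂' C₃' : ℤ) (q₂' q₃' : ℕ) : Prop :=
  i < D.rank ∧ k < D.rank ∧ τ.getD i 0 < D.rank ∧ τ.getD k 0 < D.rank ∧
  (D.reflectRoot k (D.simple i) ≠ D.simple i ∧ D.reflectRoot k (D.simple i) ≠ D.neg (D.simple i)) ∧
  (D.reflectRoot (τ.getD k 0) (D.simple (τ.getD i 0)) ≠ D.simple (τ.getD i 0) ∧
    D.reflectRoot (τ.getD k 0) (D.simple (τ.getD i 0)) ≠ D.neg (D.simple (τ.getD i 0))) ∧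
  D.commTerms (D.simple i) (D.reflectRoot k (D.simple i)) =
    [(D.reflectRoot i (D.reflectRoot k (D.simple i)), C₁, 1, 1)] ∧
  D.commTerms (D.simple (τ.getD i 0)) (D.reflectRoot (τ.getD k 0) (D.simple (τ.getD i 0))) =
    [(D.reflectRoot (τ.getD i 0) (D.reflectRoot (τ.getD k 0) (D.simple (τ.getD i 0))), C₁', 1, 1),
      (q₂', C₂', 2, 1), (q₃', C₃', 1, 2)] ∧
  [D.reflectRoot (τ.getD i 0) (D.reflectRoot (τ.getD k 0) (D.simple (τ.getD i 0))), q₂', q₃'].Nodup ∧
  ∀ x ∈ [D.reflectRoot (τ.getD i 0) (D.reflectRoot (τ.getD k 0) (D.simple (τ.getD i 0))), q₂', q₃'], D.IsPosRoot x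

instance (D : ChevalleyDatum) (τ : List ℕ) (i k : ℕ) (C₁ C₁' C₂' C₃' : ℤ) (q₂' q₃' : ℕ) :
    Decidable (SwapCertB D τ i k C₁ C₁' C₂' C₃' q₂' q₃') := by
  unfold SwapCertB
  infer_instance

/-- No automorphism maps the fundamental root subgroups along the symmetry when the coefficient does not vanish in the
field (second argument). -/
theorem false_of_swapB (c : DCert D Ns) (tc : TCert D) (ac : ACert D wl ws sc) (gc : GCert D w d)
    (hR2 : R2All D F) {τ : List ℕ} {i k : ℕ} {C₁ C₁' C₂' C₃' : ℤ} {q₂' q₃' : ℕ}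
    (hcert : SwapCertB D τ i k C₁ C₁' C₂' C₃' q₂' q₃') (hC : (C₂' : F) ≠ 0)
    (θ : MulAut ↥(D.group F))
    (hpos : ∀ i < D.rank, Preserves' θ (D.rootSubgroup F (D.simple i)) (D.rootSubgroup F (D.simple (τ.getD i 0))))
    (hneg : ∀ i < D.rank, Preserves' θ (D.rootSubgroup F (D.neg (D.simple i)))
      (D.rootSubgroup F (D.neg (D.simple (τ.getD i 0))))) : False := by
  obtain ⟨hi, hk, hτi, hτk, ⟨hne1, hne2⟩, ⟨hne1', hne2'⟩, he, he', hnd, hposr⟩ := hcert
  have hr := (ac.simple i hi).1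
  have hr' := (ac.simple _ hτi).1
  have hs := c.reflect_lt k hk _ hr
  have hs' := c.reflect_lt _ hτk _ hr'
  have hR : R2At D F (D.simple i) (D.reflectRoot k (D.simple i)) := hR2 _ _ hr hs hne1 hne2
  have hR' : R2At D F (D.simple (τ.getD i 0)) (D.reflectRoot (τ.getD k 0) (D.simple (τ.getD i 0))) :=
    hR2 _ _ hr' hs' hne1' hne2'
  have hms := maps_reflect c tc ac gc θ hk hτk (hpos k hk) (hneg k hk) hr hr' (hpos i hi)
  have hmq := maps_reflect c tc ac gc θ hi hτi (hpos i hi) (hneg i hi) hs hs' hms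
  exact hC (coeff_zero_of_extra c tc ac θ hR hR' he he' hnd hposr (hpos i hi) hms hmq)

/-- A nonzero integer not divisible by the characteristic does not vanish in the field. -/
theorem intCast_ne_zero_of_not_dvd (p : ℕ) [CharP F p] (C : ℤ) (h : ¬ (p : ℤ) ∣ C) : (C : F) ≠ 0 := by
  intro h0
  exact h ((CharP.intCast_eq_zero_iff F p C).mp h0)

/-! ### Automorphisms given by a formula on the root elements -/

/-- An automorphism mapping the root elements of `r` onto those of `π r` maps the root subgroup of `r` onto that of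
`π r`. -/
theorem preserves'_of_formula (c : DCert D Ns) (ψ : MulAut ↥(D.group F)) (π : ℕ → ℕ) (H : ℕ → F → F)
    (hform : ∀ r < D.nroots, ∀ t : F, ψ (xG c r t) = xG c (π r) (H r t))
    (hsurj : ∀ r < D.nroots, Function.Surjective (H r)) (r : ℕ) (hr : r < D.nroots) :
    Preserves' ψ (D.rootSubgroup F r) (D.rootSubgroup F (π r)) := by
  intro x
  rw [mem_rootSubgroup_iff c, mem_rootSubgroup_iff c]
  constructor
  · rintro ⟨s, hs⟩
    obtain ⟨t, rfl⟩ := hsurj r hr s
    refine ⟨t, ?_⟩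
    have h1 : ψ x = ψ (xG c r t) := by
      rw [hform r hr]
      exact Subtype.ext hs
    rw [ψ.injective h1]
    rfl
  · rintro ⟨t, ht⟩
    have h1 : x = xG c r t := Subtype.ext ht
    rw [h1, hform r hr]
    exact ⟨_, rfl⟩

/-- An automorphism mapping the root elements of `r` to those of `π r` preserves the subgroup generated by the root
subgroups of a set of roots stable under `π`. -/
theorem preserves_closure_of_formula [Finite F] (c : DCert D Ns) (ψ : MulAut ↥(D.group F)) (π : ℕ → ℕ)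
    (H : ℕ → F → F) (P : ℕ → Prop) (hP : ∀ r, P r → r < D.nroots ∧ P (π r))
    (hform : ∀ r < D.nroots, ∀ t : F, ψ (xG c r t) = xG c (π r) (H r t)) :
    Preserves ψ
      (Subgroup.closure {g : GL D.Idx F | ∃ (r : ℕ) (t : F), P r ∧ (g : Matrix D.Idx D.Idx F) = D.x F r t}) := by
  set S : Subgroup (GL D.Idx F) :=
    Subgroup.closure {g : GL D.Idx F | ∃ (r : ℕ) (t : F), P r ∧ (g : Matrix D.Idx D.Idx F) = D.x F r t} with hS
  have hSG : S ≤ D.group F := by
    rw [hS, Subgroup.closure_le]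
    rintro g ⟨r, t, _, hg⟩
    rw [eq_xGL c hg]
    exact xGL_mem_group c r t
  have stepA : ∀ y ∈ S, ∀ hy : y ∈ D.group F, ((ψ ⟨y, hy⟩ : ↥(D.group F)) : GL D.Idx F) ∈ S := by
    intro y hyS
    induction hyS using Subgroup.closure_induction with
    | mem x hx =>
      intro hy
      obtain ⟨r, t, hr, hg⟩ := hx
      have e1 : (⟨x, hy⟩ : ↥(D.group F)) = xG c r t := Subtype.ext (eq_xGL c hg)
      rw [e1, hform r (hP r hr).1]
      exact Subgroup.subset_closure ⟨π r, _, (hP r hr).2, rfl⟩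
    | one =>
      intro hy
      have e1 : (⟨1, hy⟩ : ↥(D.group F)) = 1 := rfl
      rw [e1, map_one]
      exact S.one_mem
    | mul a b ha hb iha ihb =>
      intro hy
      have haG := hSG ha
      have hbG := hSG hb
      have e1 : (⟨a * b, hy⟩ : ↥(D.group F)) = ⟨a, haG⟩ * ⟨b, hbG⟩ := rfl
      rw [e1, map_mul]
      exact S.mul_mem (iha haG) (ihb hbG)
    | inv a ha iha =>
      intro hy
      have haG := hSG ha
      have e1 : (⟨a⁻¹, hy⟩ : ↥(D.group F)) = (⟨a, haG⟩ : ↥(D.group F))⁻¹ := rfl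
      rw [e1, map_inv]
      exact S.inv_mem (iha haG)
  let f : {x : ↥(D.group F) // (x : GL D.Idx F) ∈ S} → {x : ↥(D.group F) // (x : GL D.Idx F) ∈ S} :=
    fun u => ⟨ψ u.1, stepA u.1.1 u.2 u.1.2⟩
  have hfinj : Function.Injective f := by
    intro u v huv
    have h1 : ψ u.1 = ψ v.1 := congrArg Subtype.val huv
    exact Subtype.ext (ψ.injective h1)
  have hfsurj : Function.Surjective f := Finite.injective_iff_surjective.mp hfinj
  intro x
  constructor
  · intro hx
    obtain ⟨u, hu⟩ := hfsurj ⟨ψ x, hx⟩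
    have h1 : ψ u.1 = ψ x := congrArg Subtype.val hu
    rw [← ψ.injective h1]
    exact u.2
  · intro hx
    exact stepA x.1 hx x.2

/-- The certificate that a permutation of the roots lies over the symmetry `τ` of the graph and preserves the signs
of the roots. -/
def GraphPermCert (D : ChevalleyDatum) (τ pi : List ℕ) : Prop :=
  (∀ r < D.nroots, (D.IsPosRoot r → D.IsPosRoot (pi.getD r 0)) ∧ (D.IsNegRoot r → D.IsNegRoot (pi.getD r 0))) ∧
  ∀ i < D.rank, D.simple i < D.nroots ∧ D.neg (D.simple i) < D.nroots ∧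
    pi.getD (D.simple i) 0 = D.simple (τ.getD i 0) ∧ pi.getD (D.neg (D.simple i)) 0 = D.neg (D.simple (τ.getD i 0))

instance (D : ChevalleyDatum) (τ pi : List ℕ) : Decidable (GraphPermCert D τ pi) := by
  unfold GraphPermCert
  infer_instance

/-- An automorphism given by a formula on the root elements along a permutation of the roots over the symmetry of the
graph is a graph automorphism. -/
theorem graphAut2_of_formula [Finite F] (c : DCert D Ns) {τ pi : List ℕ} (hcert : GraphPermCert D τ pi)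
    (ψ : MulAut ↥(D.group F)) (H : ℕ → F → F)
    (hform : ∀ r < D.nroots, ∀ t : F, ψ (xG c r t) = xG c (pi.getD r 0) (H r t))
    (hsurj : ∀ r < D.nroots, Function.Surjective (H r)) : GraphAut2 D F τ ψ := by
  obtain ⟨hsign, hsimple⟩ := hcert
  refine ⟨fun i hi => ?_, fun i hi => ?_, ?_, ?_⟩
  · obtain ⟨h1, -, h3, -⟩ := hsimple i hi
    have := preserves'_of_formula c ψ (fun r => pi.getD r 0) H hform hsurj _ h1
    simp only [h3] at this
    exact this
  · obtain ⟨-, h2, -, h4⟩ := hsimple i hi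
    have := preserves'_of_formula c ψ (fun r => pi.getD r 0) H hform hsurj _ h2
    simp only [h4] at this
    exact this
  · exact preserves_closure_of_formula c ψ (fun r => pi.getD r 0) H D.IsPosRoot
      (fun r hr => ⟨hr.1, (hsign r hr.1).1 hr⟩) hform
  · exact preserves_closure_of_formula c ψ (fun r => pi.getD r 0) H D.IsNegRoot
      (fun r hr => ⟨hr.1, (hsign r hr.1).2 hr⟩) hform

end Cfsg.Agent.Lib.Helper18_ChevAutM
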