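import Cfsg.Agent.Lib.Helper18_ChevGraphT
import Cfsg.Agent.Lib.Helper18_ChevAutC

set_option autoImplicit false

/-!
The exceptional graph automorphisms: from a certificate on an intertwining matrix to an automorphism of the (simple)
Chevalley group that maps `x_r(t)` to `x_{π r}(ε_r t^{λ_r})`.
-/

namespace Cfsg.Agent.Lib.Helper18_ChevGraphU

open Cfsg Cfsg.Lie Cfsg.Agent.Lib.Helper36_ChevSparse Cfsg.Agent.Lib.Helper36_ChevCoeff
  Cfsg.Agent.Lib.Helper18_ChevGraphT Cfsg.Agent.Lib.Helper18_Intertwine Cfsg.Agent.Lib.Helper18_ChevFast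
  Cfsg.Agent.Lib.Helper18_ChevN Cfsg.Agent.Lib.Helper18_ChevWeyl
  Cfsg.Agent.Lib.Helper18_ChevGL Cfsg.Agent.Lib.Helper18_ChevAutC

/-- The check that `T (x_r(1) - 1)` has an entry that does not vanish modulo `p`. -/
def neCheck (D : ChevalleyDatum) (p : ℕ) (Tz : SMat) (r i j : ℕ) : Bool :=
  decide (i < dim D) && decide (j < dim D) &&
    (coeffAt (mul (dim D) Tz (madd (Ecol D r 1) (madd (Ecol D r 2) (Ecol D r 3))) j) i % (p : ℤ) != 0)

/-- The certificate of an exceptional graph automorphism. -/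
structure GraphCert (D : ChevalleyDatum) (p : ℕ) (Tz : SMat) (pi piInv lam : List ℕ) (eps : List ℤ)
    (r0 i0 j0 : ℕ) : Prop where
  len : ChainLenOK D
  rel : ∀ r < D.nroots, relCheck D p Tz r (pi.getD r 0) (lam.getD r 1) (eps.getD r 1) = true
  lt : ∀ r < D.nroots, pi.getD r 0 < D.nroots ∧ piInv.getD r 0 < D.nroots ∧ pi.getD (piInv.getD r 0) 0 = r
  eps_pm : ∀ r < D.nroots, eps.getD r 1 = 1 ∨ eps.getD r 1 = -1
  lam_ok : ∀ r < D.nroots, lam.getD r 1 = 1 ∨ lam.getD r 1 = p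
  r0_lt : r0 < D.nroots
  eps0 : eps.getD r0 1 = 1
  ne : neCheck D p Tz r0 i0 j0 = true

variable {D : ChevalleyDatum} {Ns : List NData} {F : Type*} [Field F]
variable {p : ℕ} {Tz : SMat} {pi piInv lam : List ℕ} {eps : List ℤ} {r0 i0 j0 : ℕ}

theorem castMat_madd (A B : SMat) : castMat D F (madd A B) = castMat D F A + castMat D F B := by
  unfold castMat
  rw [toMatZ_madd]
  ext i j
  simp

theorem GraphCert.ne_left [CharP F p] (gc : GraphCert D p Tz pi piInv lam eps r0 i0 j0) :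
    castMat D F Tz * D.x F r0 1 ≠ castMat D F Tz := by
  intro h
  rw [x_eq D F gc.len r0 gc.r0_lt] at h
  simp only [one_pow, one_smul, Matrix.mul_add, Matrix.mul_one] at h
  have h1 : castMat D F (mul (dim D) Tz (madd (Ecol D r0 1) (madd (Ecol D r0 2) (Ecol D r0 3)))) = 0 := by
    rw [castMat_mul, castMat_madd, castMat_madd, Matrix.mul_add, Matrix.mul_add]
    have := sub_eq_zero.mpr h
    rw [← this]
    abel
  have hne := gc.ne
  unfold neCheck at hne
  simp only [Bool.and_eq_true, decide_eq_true_eq, bne_iff_ne, ne_eq] at hne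
  obtain ⟨⟨hi, hj⟩, hc⟩ := hne
  have h2 := congrFun (congrFun h1 (decode D i0 hi)) (decode D j0 hj)
  rw [castMat_apply, code_decode, code_decode, Matrix.zero_apply, CharP.intCast_eq_zero_iff F p] at h2
  exact hc (Int.emod_eq_zero_of_dvd h2)

/-- The exceptional graph automorphism attached to a certificate. -/
theorem exists_graphAut (c : DCert D Ns) [IsSimpleGroup ↥(D.group F)] [CharP F p]
    (hperf : ∀ x : F, ∃ y : F, y ^ p = x) (gc : GraphCert D p Tz pi piInv lam eps r0 i0 j0) :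
    ∃ ψ : ↥(D.group F) ≃* ↥(D.group F), ∀ r < D.nroots, ∀ t : F,
      ψ (xG c r t) = xG c (pi.getD r 0) ((eps.getD r 1 : F) * t ^ lam.getD r 1) := by
  set T := castMat D F Tz with hT
  have hrel : ∀ r < D.nroots, ∀ t : F,
      T * D.x F r t = D.x F (pi.getD r 0) ((eps.getD r 1 : F) * t ^ lam.getD r 1) * T := fun r hr t =>
    rel_of_check D F gc.len p Tz r _ _ _ hr (gc.lt r hr).1 (gc.eps_pm r hr) (gc.rel r hr) t
  let gens : Set (↥(D.group F) × ↥(D.group F)) :=
    {q | ∃ r < D.nroots, ∃ t : F, q = (xG c r t, xG c (pi.getD r 0) ((eps.getD r 1 : F) * t ^ lam.getD r 1))}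
  have hgens : gens ⊆ (relSubgroup (D.group F) T : Set (↥(D.group F) × ↥(D.group F))) := by
    rintro q ⟨r, hr, t, rfl⟩
    rw [SetLike.mem_coe, mem_relSubgroup]
    exact hrel r hr t
  have htop : Subgroup.closure {g : ↥(D.group F) | ∃ r < D.nroots, ∃ t : F, g = xG c r t} = ⊤ := by
    have h0 : Subgroup.closure (((↑) : ↥(D.group F) → GL D.Idx F) ⁻¹'
        {g : GL D.Idx F | ∃ (r : Fin D.nroots) (t : F), (g : Matrix D.Idx D.Idx F) = D.xMat F r t}) =
        (⊤ : Subgroup ↥(D.group F)) := Subgroup.closure_closure_coe_preimage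
    rw [eq_top_iff, ← h0]
    apply Subgroup.closure_mono
    rintro g ⟨r, t, hg⟩
    refine ⟨r.val, r.isLt, t, ?_⟩
    apply Subtype.ext
    apply Units.ext
    rw [hg, xG_coe, xGL_coe]
    unfold ChevalleyDatum.x
    rw [dif_pos r.isLt]
  have h1 : Subgroup.closure (Prod.fst '' gens) = ⊤ := by
    rw [eq_top_iff, ← htop]
    apply Subgroup.closure_mono
    rintro g ⟨r, hr, t, rfl⟩
    exact ⟨_, ⟨r, hr, t, rfl⟩, rfl⟩
  have h2 : Subgroup.closure (Prod.snd '' gens) = ⊤ := by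
    rw [eq_top_iff, ← htop]
    apply Subgroup.closure_mono
    rintro g ⟨r, hr, u, rfl⟩
    obtain ⟨hlt1, hlt2, hpi⟩ := gc.lt r hr
    set s := piInv.getD r 0 with hs
    have hε := gc.eps_pm s hlt2
    have hεε : (eps.getD s 1 : F) * (eps.getD s 1 : F) = 1 := by
      rcases hε with h | h <;> rw [h] <;> simp
    obtain ⟨y, hy⟩ : ∃ y : F, y ^ lam.getD s 1 = (eps.getD s 1 : F) * u := by
      rcases gc.lam_ok s hlt2 with h | h
      · exact ⟨(eps.getD s 1 : F) * u, by rw [h, pow_one]⟩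
      · rw [h]
        exact hperf _
    refine ⟨_, ⟨s, hlt2, y, rfl⟩, ?_⟩
    show xG c (pi.getD s 0) ((eps.getD s 1 : F) * y ^ lam.getD s 1) = xG c r u
    rw [hpi, hy, ← mul_assoc, hεε, one_mul]
  have hx0 : T * D.x F r0 1 ≠ T := gc.ne_left
  have hne1 : ∃ g : ↥(D.group F), T * ((g : GL D.Idx F) : Matrix D.Idx D.Idx F) ≠ T :=
    ⟨xG c r0 1, by rw [xG_coe, xGL_coe]; exact hx0⟩
  have hne2 : ∃ g : ↥(D.group F), ((g : GL D.Idx F) : Matrix D.Idx D.Idx F) * T ≠ T := by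
    refine ⟨xG c (pi.getD r0 0) 1, ?_⟩
    rw [xG_coe, xGL_coe]
    have := hrel r0 gc.r0_lt 1
    rw [gc.eps0, one_pow, Int.cast_one, one_mul] at this
    rw [← this]
    exact hx0
  obtain ⟨ψ, hψ⟩ := exists_aut_of_intertwiner (D.group F) T gens hgens h1 h2 hne1 hne2
  refine ⟨ψ, fun r hr t => ?_⟩
  exact hψ (xG c r t, xG c (pi.getD r 0) ((eps.getD r 1 : F) * t ^ lam.getD r 1)) (hgens ⟨r, hr, t, rfl⟩)

end Cfsg.Agent.Lib.Helper18_ChevGraphU
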