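import Cfsg.Agent.Lib.Helper18_ChevAutM
import Cfsg.Agent.Lib.Helper18_ChevGraphU

set_option autoImplicit false

/-!
Automorphisms of the Chevalley groups over finite fields, fourteenth part: the exceptional graph automorphism given
by a certificate, over a finite field of the special characteristic.
-/

namespace Cfsg.Agent.Lib.Helper18_ChevAutN

open Cfsg Cfsg.Lie Cfsg.Agent.Lib.Helper18_ChevFast Cfsg.Agent.Lib.Helper18_ChevEngine
  Cfsg.Agent.Lib.Helper18_ChevN Cfsg.Agent.Lib.Helper18_ChevWeyl Cfsg.Agent.Lib.Helper18_ChevGL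
  Cfsg.Agent.Lib.Helper18_ChevAutA Cfsg.Agent.Lib.Helper18_ChevAutB Cfsg.Agent.Lib.Helper18_ChevAutC
  Cfsg.Agent.Lib.Helper18_ChevAutK Cfsg.Agent.Lib.Helper18_ChevAutM Cfsg.Agent.Lib.Helper18_ChevGraphU
  Cfsg.Agent.Lib.Helper36_ChevSparse Cfsg.Agent.Lib.Helper36_ChevCoeff

variable {D : ChevalleyDatum} {Ns : List NData} {F : Type*} [Field F]
variable {p : ℕ} {Tz : SMat} {pi piInv lam : List ℕ} {eps : List ℤ} {r0 i0 j0 : ℕ}

/-- Over a finite field of the special characteristic, the certificate gives a graph automorphism. -/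
theorem exists_graphAut2 [Finite F] (c : DCert D Ns) [IsSimpleGroup ↥(D.group F)] [Fact p.Prime] [CharP F p]
    (gc : GraphCert D p Tz pi piInv lam eps r0 i0 j0) {τ : List ℕ} (hcert : GraphPermCert D τ pi) :
    ∃ ψ : MulAut ↥(D.group F), GraphAut2 D F τ ψ := by
  have hperf : ∀ x : F, ∃ y : F, y ^ p = x := by
    intro x
    have hinj : Function.Injective (frobenius F p) := (frobenius F p).injective
    obtain ⟨y, hy⟩ := Finite.injective_iff_surjective.mp hinj x
    exact ⟨y, hy⟩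
  obtain ⟨ψ, hψ⟩ := exists_graphAut c hperf gc
  refine ⟨ψ, graphAut2_of_formula c hcert ψ (fun r t => (eps.getD r 1 : F) * t ^ lam.getD r 1) hψ ?_⟩
  intro r hr s
  have hsq : ((eps.getD r 1 : ℤ) : F) * ((eps.getD r 1 : ℤ) : F) = 1 := by
    rcases gc.eps_pm r hr with h | h <;> rw [h] <;> simp
  rcases gc.lam_ok r hr with h | h
  · refine ⟨((eps.getD r 1 : ℤ) : F) * s, ?_⟩
    show ((eps.getD r 1 : ℤ) : F) * (((eps.getD r 1 : ℤ) : F) * s) ^ lam.getD r 1 = s
    rw [h, pow_one, ← mul_assoc, hsq, one_mul]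
  · obtain ⟨y, hy⟩ := hperf (((eps.getD r 1 : ℤ) : F) * s)
    refine ⟨y, ?_⟩
    show ((eps.getD r 1 : ℤ) : F) * y ^ lam.getD r 1 = s
    rw [h, hy, ← mul_assoc, hsq, one_mul]

end Cfsg.Agent.Lib.Helper18_ChevAutN
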