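import Cfsg.Agent.Lib.Helper18_ChevRootHom
import Cfsg.Prelude.Def_ChevAutomorphisms

set_option autoImplicit false

/-!
`G ∩ Ĥ ⊆ H`: an element of the Chevalley group that is the diagonal matrix of a character of the root lattice lies
in `H`.
-/

namespace Cfsg.Agent.Lib.Helper18_ChevHhat

open Cfsg Cfsg.Lie Cfsg.Agent.Lib.Helper18_ChevFast Cfsg.Agent.Lib.Helper18_ChevEngine
  Cfsg.Agent.Lib.Helper18_ChevR1 Cfsg.Agent.Lib.Helper18_ChevN Cfsg.Agent.Lib.Helper18_ChevR4
  Cfsg.Agent.Lib.Helper18_ChevSimple Cfsg.Agent.Lib.Helper18_ChevSimple2 Cfsg.Agent.Lib.Helper18_ChevFacts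
  Cfsg.Agent.Lib.Helper18_ChevWeyl Cfsg.Agent.Lib.Helper18_ChevDiag Cfsg.Agent.Lib.Helper18_ChevCar
  Cfsg.Agent.Lib.Helper18_ChevTorus Cfsg.Agent.Lib.Helper18_ChevGL Cfsg.Agent.Lib.Helper18_ChevComm
  Cfsg.Agent.Lib.Helper18_ChevComm2 Cfsg.Agent.Lib.Helper18_MatTri Cfsg.Agent.Lib.Helper18_ChevTri
  Cfsg.Agent.Lib.Helper18_ChevBorel Cfsg.Agent.Lib.Helper18_ChevAdd Cfsg.Agent.Lib.Helper18_ChevUni
  Cfsg.Agent.Lib.Helper18_ChevBN Cfsg.Agent.Lib.Helper18_ChevMono Cfsg.Agent.Lib.Helper18_ChevBNPair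
  Cfsg.Agent.Lib.Helper18_ChevSimp Cfsg.Agent.Lib.Helper18_ChevJCerts Cfsg.Agent.Lib.Helper18_ChevLevi
  Cfsg.Agent.Lib.Helper18_ChevBruhat Cfsg.Agent.Lib.Helper18_ChevPar Cfsg.Agent.Lib.Helper18_ChevRootHom

variable {D : ChevalleyDatum} {Ns : List NData} {F : Type*} [Field F]
variable {wl : List ℤ} {ws : List (List ℤ)} {sc : ℤ} {w : List ℤ} {d : ℕ}

/-- Consecutive roots of a chain are joined by a chain step. -/
def ChainCons (D : ChevalleyDatum) : Prop :=
  ∀ r < D.nroots, ∀ e ∈ rowOf D r, ∀ k < e.2.length, k + 1 < e.2.length →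
    D.chainRoot r (e.2.getD k (0, 0)).1 1 = some (e.2.getD (k + 1) (0, 0)).1

instance (D : ChevalleyDatum) : Decidable (ChainCons D) := by
  unfold ChainCons
  infer_instance

/-- A character of the root lattice is multiplicative along the chains. -/
theorem chain_of_rootChar (hcons : ChainCons D) (hin : chainInRange D = true) (χ : ℕ → Fˣ)
    (hχ : D.IsRootCharacter χ) (r s : ℕ) (hr : r < D.nroots) (hs : s < D.nroots) :
    ∀ (k u : ℕ) (M : ℤ), (D.chainEntry r s)[k]? = some (u, M) → χ u = χ s * χ r ^ (k + 1)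
  | 0, u, M, h => by
    have h1 : D.chainRoot r s 1 = some u := by
      unfold ChevalleyDatum.chainRoot
      simp only [Nat.sub_self, h, Option.map_some]
    rw [hχ.2 r s u hr hs h1, zero_add, pow_one, mul_comm]
  | k + 1, u, M, h => by
    have hlen : k + 1 < (D.chainEntry r s).length := by
      by_contra hle
      rw [List.getElem?_eq_none (by omega)] at h
      simp at h
    have hk : (D.chainEntry r s)[k]? = some ((D.chainEntry r s)[k]'(by omega)) := List.getElem?_eq_getElem (by omega)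
    set a := (D.chainEntry r s)[k]'(by omega) with ha
    have ih := chain_of_rootChar hcons hin χ hχ r s hr hs k a.1 a.2 hk
    have hau := (chainEntry_lt hin hr hk).2
    have hne : entryOf (rowOf D r) s ≠ [] := by
      rw [← chainEntry_eq_entryOf]
      intro h0
      rw [h0] at hlen
      simp at hlen
    have hmem := entryOf_mem _ s hne
    rw [← chainEntry_eq_entryOf] at hmem
    have hc := hcons r hr _ hmem k (by simp only; omega) (by simp only; omega)
    simp only at hc
    rw [List.getD_eq_getElem?_getD, List.getD_eq_getElem?_getD, hk, h] at hc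
    simp only [Option.getD_some] at hc
    rw [hχ.2 r a.1 u hr hau hc, ih]
    rw [pow_succ (χ r) (k + 1)]
    rw [mul_comm (χ r), mul_assoc]

theorem isChar_of_rootChar (hrows : RowsOK D) (hcons : ChainCons D) (hin : chainInRange D = true) (χ : ℕ → Fˣ)
    (hχ : D.IsRootCharacter χ) : IsChar D (fun r => ((χ r : Fˣ) : F)) := by
  constructor
  · intro s hs
    have := hχ.1 s hs
    unfold ChevalleyDatum.neg at this
    rw [this]
    simp
  · intro r s u hr hs hu km hkm
    have hv : RowOK (rowOf D r) := (hrows.valid r hr).rowOK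
    rw [chainCoeff_eq D r s u hv, ← chainEntry_eq_entryOf, List.mem_map] at hkm
    obtain ⟨⟨⟨u', M⟩, k⟩, hmem, rfl⟩ := hkm
    rw [List.mem_filter, List.mem_zipIdx_iff_getElem?] at hmem
    obtain ⟨h1, h2⟩ := hmem
    simp only [decide_eq_true_eq] at h2
    subst h2
    have := chain_of_rootChar hcons hin χ hχ r s hr hs k u' M h1
    simp only
    rw [this]
    push_cast
    rfl

theorem charDiag_eq (χ : ℕ → Fˣ) : D.charDiag F χ = diagMat D (fun r => ((χ r : Fˣ) : F)) := rfl

theorem isMono_diagMat (χ : ℕ → F) : IsMono D (diagMat D χ) := by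
  constructor
  · intro u j
    unfold diagMat
    exact Matrix.diagonal_apply_ne _ Sum.inr_ne_inl
  · intro s
    refine ⟨s, fun row hrow => ?_⟩
    unfold diagMat
    exact Matrix.diagonal_apply_ne _ hrow

/-- An element of the group that is a diagonal matrix `diagMat χ` with `χ` multiplicative along the chains lies in
`H`. -/
theorem mem_diagonal_of_diagMat (c : DCert D Ns) (tc : TCert D) (ac : ACert D wl ws sc) (gc : GCert D w d)
    (hR2 : R2All D F) (χ : ℕ → F) (hχ : IsChar D χ) (hne : ∀ r < D.nroots, χ r ≠ 0) (g : GL D.Idx F)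
    (hg : g ∈ D.group F) (hgχ : (g : Matrix D.Idx D.Idx F) = diagMat D χ) : g ∈ D.diagonalSubgroup F := by
  have hconj : ∀ r < D.nroots, ∀ t : F, g * xGL c r t * g⁻¹ = xGL c r (χ r * t) := by
    intro r hr t
    rw [mul_inv_eq_iff_eq_mul]
    apply Units.ext
    rw [Units.val_mul, Units.val_mul, xGL_coe, xGL_coe, hgχ]
    exact diag_conj hχ r hr t
  have hconj' : ∀ r < D.nroots, ∀ t : F, g⁻¹ * xGL c r t * g = xGL c r ((χ r)⁻¹ * t) := by
    intro r hr t
    have := hconj r hr ((χ r)⁻¹ * t)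
    rw [← mul_assoc, mul_inv_cancel₀ (hne r hr), one_mul] at this
    rw [← this]
    group
  have hnorm : g ∈ Subgroup.normalizer (D.posUnipotent F : Set (GL D.Idx F)) := by
    unfold ChevalleyDatum.posUnipotent
    apply mem_normalizer_closure
    · rintro s ⟨r, t, hr, hs⟩
      rw [eq_xGL c hs, hconj r hr.1 t]
      exact Subgroup.subset_closure ⟨r, _, hr, rfl⟩
    · rintro s ⟨r, t, hr, hs⟩
      rw [eq_xGL c hs, hconj' r hr.1 t]
      exact Subgroup.subset_closure ⟨r, _, hr, rfl⟩
  have hB : g ∈ D.borelSubgroup F := by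
    rw [← normalizer_pos_inf_group c tc ac gc hR2]
    exact Subgroup.mem_inf.mpr ⟨hnorm, hg⟩
  obtain ⟨u, hu, h, hh, rfl⟩ := exists_mul_of_mem_sup _ _ (diagonal_le_normalizer_pos c tc) hB
  obtain ⟨τ, hτ, hk⟩ := exists_torus_of_mem c tc h⁻¹ (Subgroup.inv_mem _ hh)
  have hu1 : u = 1 := by
    apply eq_one_of_mem_pos_of_isMono c tc gc u hu
    have : (u : Matrix D.Idx D.Idx F) = diagMat D χ * torusMat D τ := by
      rw [← hgχ, ← hk, ← Units.val_mul]
      congr 1
      group
    rw [this]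
    unfold torusMat
    rw [diagMat_mul]
    exact isMono_diagMat _
  rw [hu1, one_mul]
  exact hh

end Cfsg.Agent.Lib.Helper18_ChevHhat
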