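import Cfsg.Agent.Lib.Helper18_ChevAutK
import Cfsg.Agent.Lib.Helper18_ChevAutM
import Cfsg.Agent.Lib.Helper18_ChevHhat

set_option autoImplicit false

/-!
Automorphisms of the Chevalley groups over finite fields, fifteenth part: the decomposition of an automorphism as
the product of an inner, a diagonal, a graph and a field automorphism, with the four kinds of automorphisms as they
are defined with the tables of the datum (characters of the root lattice, symmetries of the diagram).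
-/

namespace Cfsg.Agent.Lib.Helper18_ChevAutP

open Cfsg Cfsg.Lie Cfsg.Agent.Lib.Helper18_ChevFast Cfsg.Agent.Lib.Helper18_ChevEngine
  Cfsg.Agent.Lib.Helper18_ChevR1 Cfsg.Agent.Lib.Helper18_ChevN Cfsg.Agent.Lib.Helper18_ChevR4
  Cfsg.Agent.Lib.Helper18_ChevSimple Cfsg.Agent.Lib.Helper18_ChevSimple2 Cfsg.Agent.Lib.Helper18_ChevFacts
  Cfsg.Agent.Lib.Helper18_ChevWeyl Cfsg.Agent.Lib.Helper18_ChevDiag Cfsg.Agent.Lib.Helper18_ChevCar
  Cfsg.Agent.Lib.Helper18_ChevTorus Cfsg.Agent.Lib.Helper18_ChevGL Cfsg.Agent.Lib.Helper18_ChevComm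
  Cfsg.Agent.Lib.Helper18_ChevComm2 Cfsg.Agent.Lib.Helper18_MatTri Cfsg.Agent.Lib.Helper18_ChevTri
  Cfsg.Agent.Lib.Helper18_ChevBorel Cfsg.Agent.Lib.Helper18_ChevAdd Cfsg.Agent.Lib.Helper18_ChevUni
  Cfsg.Agent.Lib.Helper18_ChevBN Cfsg.Agent.Lib.Helper18_ChevMono Cfsg.Agent.Lib.Helper18_ChevBNPair
  Cfsg.Agent.Lib.Helper18_ChevSimp Cfsg.Agent.Lib.Helper18_ChevJCerts Cfsg.Agent.Lib.Helper18_ChevLevi
  Cfsg.Agent.Lib.Helper18_ChevBruhat Cfsg.Agent.Lib.Helper18_ChevPar Cfsg.Agent.Lib.Helper18_ChevRootHom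
  Cfsg.Agent.Lib.Helper18_ChevOrder Cfsg.Agent.Lib.Helper18_ChevSylow Cfsg.Agent.Lib.Helper18_ChevCent
  Cfsg.Agent.Lib.Helper18_ChevFrob Cfsg.Agent.Lib.Helper18_ChevAutA Cfsg.Agent.Lib.Helper18_ChevAutB
  Cfsg.Agent.Lib.Helper18_ChevAutC Cfsg.Agent.Lib.Helper18_ChevAutD Cfsg.Agent.Lib.Helper18_ChevGen
  Cfsg.Agent.Lib.Helper18_ChevField Cfsg.Agent.Lib.Helper18_ChevAutE Cfsg.Agent.Lib.Helper18_ChevAutF
  Cfsg.Agent.Lib.Helper18_ChevAutG Cfsg.Agent.Lib.Helper18_ChevAutH Cfsg.Agent.Lib.Helper18_TorusKer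
  Cfsg.Agent.Lib.Helper18_ChevAutI Cfsg.Agent.Lib.Helper18_ChevAutJ Cfsg.Agent.Lib.Helper18_ChevAutK
  Cfsg.Agent.Lib.Helper18_ChevAutM Cfsg.Agent.Lib.Helper18_ChevHhat

variable {D : ChevalleyDatum} {Ns : List NData} {F : Type*} [Field F]
variable {wl : List ℤ} {ws : List (List ℤ)} {sc : ℤ} {w : List ℤ} {d : ℕ} {w0 : List ℕ}

/-! ### Diagonal automorphisms -/

/-- The units of a function on the roots that does not vanish on the roots. -/
noncomputable def unitsOf (χ : ℕ → F) (r : ℕ) : Fˣ := by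
  classical
  exact if h : χ r = 0 then 1 else Units.mk0 (χ r) h

theorem unitsOf_coe (χ : ℕ → F) (r : ℕ) (h : χ r ≠ 0) : ((unitsOf χ r : Fˣ) : F) = χ r := by
  unfold unitsOf
  rw [dif_neg h]
  rfl

/-- A function on the roots that is multiplicative along the chains gives a character of the root lattice. -/
theorem isRootCharacter_unitsOf (c : DCert D Ns) (ac : ACert D wl ws sc) (χ : ℕ → F) (hχ : IsChar D χ) :
    D.IsRootCharacter (unitsOf χ) := by
  constructor
  · intro r hr
    have hn := DCert.neg_lt c r hr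
    apply Units.ext
    rw [Units.val_inv_eq_inv_val, unitsOf_coe χ _ (hχ.ne_zero _ hn), unitsOf_coe χ _ (hχ.ne_zero _ hr)]
    have := hχ.neg r hr
    exact eq_inv_of_mul_eq_one_left this
  · intro r s k hr hs hk
    unfold ChevalleyDatum.chainRoot at hk
    simp only [Nat.sub_self, Option.map_eq_some_iff] at hk
    obtain ⟨⟨k', M⟩, h1, h2⟩ := hk
    simp only at h2
    subst h2
    have hklt := (chainEntry_lt ac.in_range hr h1).2
    have hv : RowOK (rowOf D r) := (c.rows.valid r hr).rowOK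
    have hmem : ((0 + 1, M) : ℕ × ℤ) ∈ D.chainCoeff r s k' := by
      rw [chainCoeff_eq D r s k' hv, ← chainEntry_eq_entryOf, List.mem_map]
      refine ⟨((k', M), 0), ?_, rfl⟩
      rw [List.mem_filter, List.mem_zipIdx_iff_getElem?]
      exact ⟨h1, by simp⟩
    have := hχ.chain r s k' hr hs hklt _ hmem
    apply Units.ext
    rw [Units.val_mul, unitsOf_coe χ _ (hχ.ne_zero _ hklt), unitsOf_coe χ _ (hχ.ne_zero _ hr),
      unitsOf_coe χ _ (hχ.ne_zero _ hs), this]
    simp only [zero_add, pow_one]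
    ring

/-- Conjugation by the diagonal matrix of a function multiplicative along the chains is a diagonal automorphism. -/
theorem isDiagonalAut_conjAut (c : DCert D Ns) (ac : ACert D wl ws sc) (χ : ℕ → F) (hχ : IsChar D χ) :
    D.IsDiagonalAut (conjAut c (diagGL χ hχ) (actsAs_diagGL c χ hχ)) := by
  refine ⟨unitsOf χ, isRootCharacter_unitsOf c ac χ hχ, fun g => ?_⟩
  rw [charDiag_eq, charDiag_eq, conjAut_coe, Units.val_mul, Units.val_mul]
  have e1 : diagMat D (fun r => ((unitsOf χ r : Fˣ) : F)) = diagMat D χ :=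
    diagMat_congr fun s hs => unitsOf_coe χ s (hχ.ne_zero s hs)
  have e2 : diagMat D (fun r => (((unitsOf χ r)⁻¹ : Fˣ) : F)) = diagMat D (fun s => (χ s)⁻¹) :=
    diagMat_congr fun s hs => by
      rw [Units.val_inv_eq_inv_val, unitsOf_coe χ s (hχ.ne_zero s hs)]
  rw [e1, e2]
  rfl

theorem isDiagonalAut_diagAut (c : DCert D Ns) (tc : TCert D) (ac : ACert D wl ws sc) (hdiv : DivCert D ws sc)
    (a : Fin D.rank → Fˣ) : D.IsDiagonalAut (diagAut (F := F) c tc ac hdiv a) :=
  isDiagonalAut_conjAut c ac _ _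

/-! ### Graph automorphisms -/

/-- The certificate of a permutation of the nodes given by two lists: they are inverse to each other, the bonds
are preserved. -/
def SymCert (D : ChevalleyDatum) (τ τi : List ℕ) : Prop :=
  ∀ i < D.rank, τ.getD i 0 < D.rank ∧ τi.getD i 0 < D.rank ∧ τi.getD (τ.getD i 0) 0 = i ∧
    τ.getD (τi.getD i 0) 0 = i ∧ ∀ j < D.rank, i ≠ j → D.bonds (τ.getD i 0) (τ.getD j 0) = D.bonds i j

instance (D : ChevalleyDatum) (τ τi : List ℕ) : Decidable (SymCert D τ τi) := by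
  unfold SymCert
  infer_instance

/-- The permutation of the nodes given by two lists. -/
def permOf {τ τi : List ℕ} (h : SymCert D τ τi) : Equiv.Perm (Fin D.rank) where
  toFun i := ⟨τ.getD i.val 0, (h i.val i.isLt).1⟩
  invFun i := ⟨τi.getD i.val 0, (h i.val i.isLt).2.1⟩
  left_inv i := Fin.ext (h i.val i.isLt).2.2.1
  right_inv i := Fin.ext (h i.val i.isLt).2.2.2.1

theorem permOf_apply {τ τi : List ℕ} (h : SymCert D τ τi) (i : Fin D.rank) :
    ((permOf h i : Fin D.rank) : ℕ) = τ.getD i.val 0 := rfl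

theorem isDiagramSymmetry_permOf {τ τi : List ℕ} (h : SymCert D τ τi) : D.IsDiagramSymmetry (permOf h) := by
  intro i j hij
  rw [permOf_apply, permOf_apply]
  exact (h i.val i.isLt).2.2.2.2 j.val j.isLt (fun e => hij (Fin.ext e))

/-- An automorphism given on the root elements of the fundamental roots and of their negatives by the formula of the
graph automorphisms is a graph automorphism. -/
theorem isGraphAut_of_formula (c : DCert D Ns) {τ τi : List ℕ} (h : SymCert D τ τi)
    (γ : MulAut ↥(D.group F))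
    (hpos : ∀ i < D.rank, ∀ t : F, γ (xG c (D.simple i) t) =
      xG c (D.simple (τ.getD i 0)) (t ^ D.graphExp (ringChar F) i (τ.getD i 0)))
    (hneg : ∀ i < D.rank, ∀ t : F, γ (xG c (D.neg (D.simple i)) t) =
      xG c (D.neg (D.simple (τ.getD i 0))) (t ^ D.graphExp (ringChar F) i (τ.getD i 0))) :
    D.IsGraphAut γ := by
  refine ⟨permOf h, isDiagramSymmetry_permOf h, fun g i t => ⟨fun hg => ?_, fun hg => ?_⟩⟩
  · have e1 : g = xG c (D.simple i) t := Subtype.ext (eq_xGL c hg)
    rw [e1, hpos i.val i.isLt t]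
    rfl
  · have e1 : g = xG c (D.neg (D.simple i)) t := Subtype.ext (eq_xGL c hg)
    rw [e1, hneg i.val i.isLt t]
    rfl

/-- The identity is a graph automorphism. -/
theorem isGraphAut_one (c : DCert D Ns) : D.IsGraphAut (1 : MulAut ↥(D.group F)) := by
  refine ⟨1, fun i j _ => rfl, fun g i t => ?_⟩
  have he : D.graphExp (ringChar F) i ((1 : Equiv.Perm (Fin D.rank)) i) = 1 := by
    unfold ChevalleyDatum.graphExp
    rw [Equiv.Perm.one_apply]
    cases D.isLong (D.simple i) <;> simp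
  rw [he, pow_one]
  exact ⟨fun hg => hg, fun hg => hg⟩

/-- An automorphism mapping the root elements of `r` onto those of `s` maps the root subgroup of `r` onto that of
`s`. -/
theorem preserves'_of_formula1 (c : DCert D Ns) (ψ : MulAut ↥(D.group F)) (r s : ℕ) (H : F → F)
    (hform : ∀ t : F, ψ (xG c r t) = xG c s (H t)) (hsurj : Function.Surjective H) :
    Preserves' ψ (D.rootSubgroup F r) (D.rootSubgroup F s) := by
  intro x
  rw [mem_rootSubgroup_iff c, mem_rootSubgroup_iff c]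
  constructor
  · rintro ⟨u, hu⟩
    obtain ⟨t, rfl⟩ := hsurj u
    refine ⟨t, ?_⟩
    have h1 : ψ x = ψ (xG c r t) := by
      rw [hform]
      exact Subtype.ext hu
    rw [ψ.injective h1]
    rfl
  · rintro ⟨t, ht⟩
    have h1 : x = xG c r t := Subtype.ext ht
    rw [h1, hform]
    exact ⟨_, rfl⟩

/-! ### The decomposition -/

/-- The decomposition of the automorphisms, from its ingredients: automorphisms preserving `U` and `V` permute the
fundamental root subgroups along a symmetry realized by a graph automorphism, and automorphisms preserving the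
fundamental root subgroups and their opposites are products of a diagonal and a field automorphism. -/
theorem steinberg_of [Fintype F] (p : ℕ) [Fact p.Prime] [CharP F p]
    (c : DCert D Ns) (tc : TCert D) (ac : ACert D wl ws sc) (gc : GCert D w d) (hdesc : Descent D)
    (hR2 : R2All D F) (hw : W0Cert D w0) (hdiv : DivCert D ws sc)
    (hone : ∀ θ : MulAut ↥(D.group F), (∀ i < D.rank, ∀ t : F, θ (xG c (D.simple i) t) = xG c (D.simple i) t ∧
      θ (xG c (D.neg (D.simple i)) t) = xG c (D.neg (D.simple i)) t) → θ = 1)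
    (hperm : ∀ θ : MulAut ↥(D.group F), Preserves θ (D.posUnipotent F) → Preserves θ (D.negUnipotent F) →
      ∃ (ρ : ℕ → ℕ) (e : ℕ → ℕ) (γ : MulAut ↥(D.group F)),
        (∀ j < D.rank, ∃ i < D.rank, ρ i = j) ∧
        (∀ i < D.rank, Preserves' θ (D.rootSubgroup F (D.simple i)) (D.rootSubgroup F (D.simple (ρ i)))) ∧
        (∀ i < D.rank, Preserves' θ (D.rootSubgroup F (D.neg (D.simple i)))
          (D.rootSubgroup F (D.neg (D.simple (ρ i))))) ∧
        D.IsGraphAut γ ∧ (∀ i < D.rank, e i = 1 ∨ e i = p) ∧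
        (∀ i < D.rank, ∀ t : F, γ (xG c (D.simple i) t) = xG c (D.simple (ρ i)) (t ^ e i)) ∧
        (∀ i < D.rank, ∀ t : F, γ (xG c (D.neg (D.simple i)) t) = xG c (D.neg (D.simple (ρ i))) (t ^ e i)))
    (hscal : ∀ θ : MulAut ↥(D.group F), (∀ i < D.rank, Preserves θ (D.rootSubgroup F (D.simple i))) →
      (∀ i < D.rank, Preserves θ (D.rootSubgroup F (D.neg (D.simple i)))) →
      ∃ (σ : F ≃+* F) (a : ℕ → F), (∀ i < D.rank, a i ≠ 0) ∧
      ∀ κ : MulAut ↥(D.group F),
        (∀ i < D.rank, ∀ t : F, κ (xG c (D.simple i) t) = xG c (D.simple i) (a i * t)) →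
        (∀ i < D.rank, Preserves κ (D.rootSubgroup F (D.neg (D.simple i)))) →
        θ = κ * fieldAutOf c σ)
    (θ : MulAut ↥(D.group F)) :
    ∃ (x : ↥(D.group F)) (d g f : ↥(D.group F) ≃* ↥(D.group F)),
      D.IsDiagonalAut d ∧ D.IsGraphAut g ∧ D.IsFieldAut f ∧ ∀ y : ↥(D.group F), θ y = x * d (g (f y)) * x⁻¹ := by
  obtain ⟨a₁, hU₁⟩ := exists_conj_preserves_pos p c tc ac gc hdesc hR2 θ
  obtain ⟨b, -, hU₂, hV₂⟩ := exists_conj_preserves_neg c tc ac gc hdesc hR2 hw (MulAut.conj a₁ * θ) hU₁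
  set θ₂ := MulAut.conj b * (MulAut.conj a₁ * θ) with hθ₂
  have hθ : θ = MulAut.conj (a₁⁻¹ * b⁻¹) * θ₂ := by
    rw [hθ₂, map_mul, map_inv, map_inv]
    group
  obtain ⟨ρ, e, γ, hsurj, hmp, hmn, hγ, he, hγp, hγn⟩ := hperm θ₂ hU₂ hV₂
  -- the powers are surjective
  have hpow : ∀ i < D.rank, Function.Surjective (fun t : F => t ^ e i) := by
    intro i hi
    rcases he i hi with h | h
    · intro s
      exact ⟨s, by simp [h]⟩
    · intro s
      have hinj : Function.Injective (frobenius F p) := (frobenius F p).injective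
      obtain ⟨y, hy⟩ := Finite.injective_iff_surjective.mp hinj s
      refine ⟨y, ?_⟩
      show y ^ e i = s
      rw [h]
      exact hy
  have hγmp : ∀ i < D.rank, Preserves' γ (D.rootSubgroup F (D.simple i)) (D.rootSubgroup F (D.simple (ρ i))) :=
    fun i hi => preserves'_of_formula1 c γ _ _ _ (hγp i hi) (hpow i hi)
  have hγmn : ∀ i < D.rank, Preserves' γ (D.rootSubgroup F (D.neg (D.simple i)))
      (D.rootSubgroup F (D.neg (D.simple (ρ i)))) :=
    fun i hi => preserves'_of_formula1 c γ _ _ _ (hγn i hi) (hpow i hi)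
  -- the graph automorphism commutes with the field automorphisms
  have hcomm : ∀ σ : F ≃+* F, γ * fieldAutOf c σ = fieldAutOf c σ * γ := by
    intro σ
    have : (fieldAutOf c σ * γ)⁻¹ * (γ * fieldAutOf c σ) = 1 := by
      apply hone
      intro i hi t
      constructor
      · rw [MulAut.mul_apply, MulAut.inv_apply, MulEquiv.symm_apply_eq, MulAut.mul_apply, MulAut.mul_apply,
          fieldAutOf_xG, hγp i hi, hγp i hi, fieldAutOf_xG, map_pow]
      · rw [MulAut.mul_apply, MulAut.inv_apply, MulEquiv.symm_apply_eq, MulAut.mul_apply, MulAut.mul_apply,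
          fieldAutOf_xG, hγn i hi, hγn i hi, fieldAutOf_xG, map_pow]
    have h2 := congrArg (fun ψ => (fieldAutOf c σ * γ) * ψ) this
    simp only [mul_inv_cancel_left, mul_one] at h2
    exact h2
  -- remove the graph automorphism
  set θ₃ := θ₂ * γ⁻¹ with hθ₃
  have hpos : ∀ j < D.rank, Preserves θ₃ (D.rootSubgroup F (D.simple j)) := by
    intro j hj x
    obtain ⟨i, hi, rfl⟩ := hsurj j hj
    rw [hθ₃, MulAut.mul_apply, hmp i hi (γ⁻¹ x), ← hγmp i hi (γ⁻¹ x), MulAut.apply_inv_self]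
  have hneg : ∀ j < D.rank, Preserves θ₃ (D.rootSubgroup F (D.neg (D.simple j))) := by
    intro j hj x
    obtain ⟨i, hi, rfl⟩ := hsurj j hj
    rw [hθ₃, MulAut.mul_apply, hmn i hi (γ⁻¹ x), ← hγmn i hi (γ⁻¹ x), MulAut.apply_inv_self]
  obtain ⟨σ, a, ha, hκ⟩ := hscal θ₃ hpos hneg
  -- the diagonal automorphism
  set a' : Fin D.rank → Fˣ := fun i => Units.mk0 (a i.val) (ha i.val i.isLt) with ha'
  have e3 := hκ (diagAut c tc ac hdiv a')
    (fun i hi t => by
      rw [diagAut_xG_simple c tc ac hdiv a' i hi t, extT_lt a' i hi]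
      rfl)
    (fun i hi => diagAut_preserves c tc ac hdiv a' _ (DCert.neg_lt c _ (ac.simple i hi).1))
  have e4 : θ₂ = diagAut c tc ac hdiv a' * γ * fieldAutOf c σ := by
    have : θ₂ = θ₃ * γ := by rw [hθ₃]; group
    rw [this, e3, mul_assoc, ← hcomm σ, mul_assoc]
  refine ⟨a₁⁻¹ * b⁻¹, diagAut c tc ac hdiv a', γ, fieldAutOf c σ, isDiagonalAut_diagAut c tc ac hdiv a', hγ,
    fieldAutOf_isFieldAut c σ, fun y => ?_⟩
  rw [hθ, e4]
  rfl

end Cfsg.Agent.Lib.Helper18_ChevAutP
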