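import Cfsg.Agent.Lib.Helper18_ChevAutP

set_option autoImplicit false

/-!
Automorphisms of the Chevalley groups over finite fields, sixteenth part: the decomposition of the automorphisms
for the simply laced data and for the data with two root lengths, from the realization of the symmetries of the
underlying graph by graph automorphisms.
-/

namespace Cfsg.Agent.Lib.Helper18_ChevAutQ

open Cfsg Cfsg.Lie Cfsg.Agent.Lib.Helper18_ChevFast Cfsg.Agent.Lib.Helper18_ChevEngine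
  Cfsg.Agent.Lib.Helper18_ChevR1 Cfsg.Agent.Lib.Helper18_ChevN Cfsg.Agent.Lib.Helper18_ChevR4
  Cfsg.Agent.Lib.Helper18_ChevSimple Cfsg.Agent.Lib.Helper18_ChevSimple2 Cfsg.Agent.Lib.Helper18_ChevFacts
  Cfsg.Agent.Lib.Helper18_ChevWeyl Cfsg.Agent.Lib.Helper18_ChevDiag Cfsg.Agent.Lib.Helper18_ChevCar
  Cfsg.Agent.Lib.Helper18_ChevTorus Cfsg.Agent.Lib.Helper18_ChevGL Cfsg.Agent.Lib.Helper18_ChevComm
  Cfsg.Agent.Lib.Helper18_ChevComm2 Cfsg.Agent.Lib.Helper18_MatTri Cfsg.Agent.Lib.Helper18_ChevTri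
  Cfsg.Agent.Lib.Helper18_ChevBorel Cfsg.Agent.Lib.Helper18_ChevAdd Cfsg.Agent.Lib.Helper18_ChevUni
  Cfsg.Agent.Lib.Helper18_ChevBN Cfsg.Agent.Lib.Helper18_ChevMono Cfsg.Agent.Lib.Helper18_ChevBNPair
  Cfsg.Agent.Lib.Helper18_ChevSimp Cfsg.Agent.Lib.Helper18_ChevJCerts Cfsg.Agent.Lib.Helper18_ChevLevi
  Cfsg.Agent.Lib.Helper18_ChevBruhat Cfsg.Agent.Lib.Helper18_ChevPar Cfsg.Agent.Lib.Helper18_ChevRootHom
  Cfsg.Agent.Lib.Helper18_ChevOrder Cfsg.Agent.Lib.Helper18_ChevSylow Cfsg.Agent.Lib.Helper18_ChevCent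
  Cfsg.Agent.Lib.Helper18_ChevFrob Cfsg.Agent.Lib.Helper18_ChevAutA Cfsg.Agent.Lib.Helper18_ChevAutB
  Cfsg.Agent.Lib.Helper18_ChevAutC Cfsg.Agent.Lib.Helper18_ChevAutD Cfsg.Agent.Lib.Helper18_ChevGen
  Cfsg.Agent.Lib.Helper18_ChevField Cfsg.Agent.Lib.Helper18_ChevAutE Cfsg.Agent.Lib.Helper18_ChevAutF
  Cfsg.Agent.Lib.Helper18_ChevAutG Cfsg.Agent.Lib.Helper18_ChevAutH Cfsg.Agent.Lib.Helper18_TorusKer
  Cfsg.Agent.Lib.Helper18_ChevAutI Cfsg.Agent.Lib.Helper18_ChevAutJ Cfsg.Agent.Lib.Helper18_ChevAutK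
  Cfsg.Agent.Lib.Helper18_ChevAutM Cfsg.Agent.Lib.Helper18_ChevHhat Cfsg.Agent.Lib.Helper18_ChevAutP

variable {D : ChevalleyDatum} {Ns : List NData} {F : Type*} [Field F]
variable {wl : List ℤ} {ws : List (List ℤ)} {sc : ℤ} {w : List ℤ} {d : ℕ} {w0 : List ℕ}

/-- The realization of the permutation of the nodes of an automorphism by a graph automorphism. -/
def Realized (c : DCert D Ns) (p : ℕ) (ρ : ℕ → ℕ) : Prop :=
  ∃ (e : ℕ → ℕ) (γ : MulAut ↥(D.group F)), D.IsGraphAut γ ∧ (∀ i < D.rank, e i = 1 ∨ e i = p) ∧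
    (∀ i < D.rank, ∀ t : F, γ (xG c (D.simple i) t) = xG c (D.simple (ρ i)) (t ^ e i)) ∧
    (∀ i < D.rank, ∀ t : F, γ (xG c (D.neg (D.simple i)) t) = xG c (D.neg (D.simple (ρ i))) (t ^ e i))

/-- The identity permutation is realized. -/
theorem realized_id (c : DCert D Ns) (p : ℕ) (ρ : ℕ → ℕ) (hid : ∀ i < D.rank, ρ i = i) :
    Realized (F := F) c p ρ := by
  refine ⟨fun _ => 1, 1, isGraphAut_one c, fun _ _ => Or.inl rfl, fun i hi t => ?_, fun i hi t => ?_⟩
  · rw [hid i hi, pow_one, MulAut.one_apply]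
  · rw [hid i hi, pow_one, MulAut.one_apply]

theorem graphExp_eq (D : ChevalleyDatum) (p i j : ℕ) : D.graphExp p i j = 1 ∨ D.graphExp p i j = p := by
  unfold ChevalleyDatum.graphExp
  split_ifs
  · exact Or.inr rfl
  · exact Or.inl rfl

/-- A permutation of the nodes given by a list is realized by an automorphism with the formula of the graph
automorphisms. -/
theorem realized_of (c : DCert D Ns) (p : ℕ) [CharP F p] {τ τi : List ℕ} (h : SymCert D τ τi) (ρ : ℕ → ℕ)
    (hρ : ∀ i < D.rank, ρ i = τ.getD i 0) (γ : MulAut ↥(D.group F))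
    (hpos : ∀ i < D.rank, ∀ t : F, γ (xG c (D.simple i) t) =
      xG c (D.simple (τ.getD i 0)) (t ^ D.graphExp p i (τ.getD i 0)))
    (hneg : ∀ i < D.rank, ∀ t : F, γ (xG c (D.neg (D.simple i)) t) =
      xG c (D.neg (D.simple (τ.getD i 0))) (t ^ D.graphExp p i (τ.getD i 0))) :
    Realized (F := F) c p ρ := by
  have hp : ringChar F = p := ringChar.eq F p
  refine ⟨fun i => D.graphExp p i (τ.getD i 0), γ, ?_, fun i _ => graphExp_eq D p i _, fun i hi t => ?_,
    fun i hi t => ?_⟩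
  · apply isGraphAut_of_formula c h γ
    · rw [hp]
      exact hpos
    · rw [hp]
      exact hneg
  · rw [hρ i hi]
    exact hpos i hi t
  · rw [hρ i hi]
    exact hneg i hi t

/-- A permutation of the nodes of a datum with one root length given by a list is realized by an automorphism
permuting the root elements of the fundamental roots and of their negatives. -/
theorem realized_of_short (c : DCert D Ns) (p : ℕ) [CharP F p] {τ τi : List ℕ} (h : SymCert D τ τi)
    (hshort : ∀ i < D.rank, D.isLong (D.simple i) = false) (ρ : ℕ → ℕ)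
    (hρ : ∀ i < D.rank, ρ i = τ.getD i 0) (γ : MulAut ↥(D.group F))
    (hpos : ∀ i < D.rank, ∀ t : F, γ (xG c (D.simple i) t) = xG c (D.simple (τ.getD i 0)) t)
    (hneg : ∀ i < D.rank, ∀ t : F, γ (xG c (D.neg (D.simple i)) t) = xG c (D.neg (D.simple (τ.getD i 0))) t) :
    Realized (F := F) c p ρ := by
  have he : ∀ i < D.rank, D.graphExp p i (τ.getD i 0) = 1 := by
    intro i hi
    unfold ChevalleyDatum.graphExp
    rw [hshort _ (h i hi).1]
    simp
  apply realized_of c p h ρ hρ γ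
  · intro i hi t
    rw [he i hi, pow_one]
    exact hpos i hi t
  · intro i hi t
    rw [he i hi, pow_one]
    exact hneg i hi t

/-- A permutation of the nodes of a datum with one root length given by a list is realized by an automorphism
that maps the root elements of the fundamental roots and of their negatives along it. -/
theorem realized_of_exists (c : DCert D Ns) (p : ℕ) [CharP F p] {τ τi : List ℕ} (h : SymCert D τ τi)
    (hshort : ∀ i < D.rank, D.isLong (D.simple i) = false) (ρ : ℕ → ℕ)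
    (hρ : ∀ i < D.rank, ρ i = τ.getD i 0)
    (hex : ∃ α : ↥(D.group F) ≃* ↥(D.group F), ∀ (g : ↥(D.group F)) (i : ℕ) (t : F), i < D.rank →
      (((g : GL D.Idx F) : Matrix D.Idx D.Idx F) = D.x F (D.simple i) t →
        ((α g : GL D.Idx F) : Matrix D.Idx D.Idx F) = D.x F (D.simple (τ.getD i 0)) t) ∧
      (((g : GL D.Idx F) : Matrix D.Idx D.Idx F) = D.x F (D.neg (D.simple i)) t →
        ((α g : GL D.Idx F) : Matrix D.Idx D.Idx F) = D.x F (D.neg (D.simple (τ.getD i 0))) t)) :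
    Realized (F := F) c p ρ := by
  obtain ⟨α, hα⟩ := hex
  apply realized_of_short c p h hshort ρ hρ α
  · intro i hi t
    exact Subtype.ext (Units.ext ((hα (xG c (D.simple i) t) i t hi).1 rfl))
  · intro i hi t
    exact Subtype.ext (Units.ext ((hα (xG c (D.neg (D.simple i)) t) i t hi).2 rfl))

/-! ### The symmetries of the underlying graph, by enumeration -/

/-- The lists of length `n` of natural numbers below `m`. -/
def allLists (m : ℕ) : ℕ → List (List ℕ)
  | 0 => [[]]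
  | n + 1 => (List.range m).flatMap fun a => (allLists m n).map fun l => a :: l

theorem map_range_mem_allLists (m : ℕ) : ∀ (n : ℕ) (ρ : ℕ → ℕ), (∀ i < n, ρ i < m) →
    (List.range n).map ρ ∈ allLists m n
  | 0, _, _ => by simp [allLists]
  | n + 1, ρ, h => by
    have ih := map_range_mem_allLists m n (fun i => ρ (i + 1)) (fun i hi => h (i + 1) (by omega))
    rw [List.range_succ_eq_map, List.map_cons, List.map_map]
    unfold allLists
    rw [List.mem_flatMap]
    refine ⟨ρ 0, List.mem_range.mpr (h 0 (by omega)), ?_⟩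
    rw [List.mem_map]
    exact ⟨_, ih, rfl⟩

/-- The certificate of the list of the symmetries of the underlying graph: every injective map of the nodes that
preserves adjacency is in the list. -/
def SymListCert (D : ChevalleyDatum) (L : List (List ℕ)) : Prop :=
  ∀ l ∈ allLists D.rank D.rank,
    (∀ i < D.rank, ∀ k < D.rank, l.getD i 0 = l.getD k 0 → i = k) →
    (∀ i < D.rank, ∀ k < D.rank, adjB D (l.getD i 0) (l.getD k 0) = adjB D i k) → l ∈ L

instance (D : ChevalleyDatum) (L : List (List ℕ)) : Decidable (SymListCert D L) := by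
  unfold SymListCert
  infer_instance

theorem mem_of_symListCert {L : List (List ℕ)} (h : SymListCert D L) (ρ : ℕ → ℕ)
    (hρ : ∀ i < D.rank, ρ i < D.rank) (hinj : ∀ i < D.rank, ∀ k < D.rank, ρ i = ρ k → i = k)
    (hadj : ∀ i < D.rank, ∀ k < D.rank, adjB D (ρ i) (ρ k) = adjB D i k) :
    ∃ τ ∈ L, ∀ i < D.rank, ρ i = τ.getD i 0 := by
  have hget : ∀ i < D.rank, ((List.range D.rank).map ρ).getD i 0 = ρ i := by
    intro i hi
    rw [List.getD_eq_getElem?_getD, List.getElem?_map, List.getElem?_range hi]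
    rfl
  refine ⟨(List.range D.rank).map ρ, h _ (map_range_mem_allLists D.rank D.rank ρ hρ) ?_ ?_, fun i hi =>
    (hget i hi).symm⟩
  · intro i hi k hk hik
    rw [hget i hi, hget k hk] at hik
    exact hinj i hi k hk hik
  · intro i hi k hk
    rw [hget i hi, hget k hk]
    exact hadj i hi k hk

/-- The decomposition of the automorphisms for a simply laced datum. -/
theorem steinberg_base [Fintype F] (p : ℕ) [Fact p.Prime] [CharP F p]
    (A : AutBase D Ns wl ws sc w d w0 F) {parC depC : List ℕ} (hconn : ConnCert D parC depC)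
    {b0 : ℕ} {hasLong : Bool} {c0 a0 b1 : ℕ} {C : ℤ} {par : List (ℕ × ℕ)} {dep comp : List ℕ}
    (oc : OCert D b0 hasLong c0 a0 b1 C par dep comp) (hcomp : ∀ r < D.nroots, comp.getD r 2 = 0)
    (hdiv : DivCert D ws sc)
    (hsym : ∀ (θ : MulAut ↥(D.group F)) (ρ : ℕ → ℕ), (∀ i < D.rank, ρ i < D.rank) →
      (∀ i < D.rank, Preserves' θ (D.rootSubgroup F (D.simple i)) (D.rootSubgroup F (D.simple (ρ i)))) →
      (∀ i < D.rank, Preserves' θ (D.rootSubgroup F (D.neg (D.simple i)))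
        (D.rootSubgroup F (D.neg (D.simple (ρ i))))) →
      (∀ i < D.rank, ∀ k < D.rank, ρ i = ρ k → i = k) →
      (∀ i < D.rank, ∀ k < D.rank, adjB D (ρ i) (ρ k) = adjB D i k) → Realized (F := F) A.c p ρ)
    (θ : MulAut ↥(D.group F)) :
    ∃ (x : ↥(D.group F)) (d g f : ↥(D.group F) ≃* ↥(D.group F)),
      D.IsDiagonalAut d ∧ D.IsGraphAut g ∧ D.IsFieldAut f ∧ ∀ y : ↥(D.group F), θ y = x * d (g (f y)) * x⁻¹ := by
  have hA := A
  obtain ⟨c, tc, ac, gc, hdesc, hR2, hw, hws, hsl⟩ := A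
  have h0 : 0 < D.rank := by have := hconn.1; omega
  apply steinberg_of p c tc ac gc hdesc hR2 hw hdiv (eq_one_of_fix oc c ac hcomp h0) ?_
    (eq_scalar_mul_field_of_preserves hA hconn oc hcomp) θ
  intro θ₂ hU₂ hV₂
  obtain ⟨ρ, hρ, hmp, hmn⟩ := exists_perm_of_aut c tc ac gc hdesc hR2 hw hws hsl θ₂ hU₂ hV₂
  obtain ⟨hinj, hadj⟩ := perm_props_of_maps c tc ac hR2 hsl θ₂ ρ hρ hmp
  obtain ⟨e, γ, h1, h2, h3, h4⟩ := hsym θ₂ ρ hρ hmp hmn hinj hadj
  exact ⟨ρ, e, γ, surj_of_inj D.rank ρ hρ hinj, hmp, hmn, h1, h2, h3, h4⟩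

/-- The decomposition of the automorphisms for a datum with two root lengths. -/
theorem steinberg_base2 [Fintype F] (p : ℕ) [Fact p.Prime] [CharP F p]
    (A : AutBase2 D Ns wl ws sc w d w0 F) {parC depC : List ℕ} (hconn : ConnCert D parC depC)
    {b0 : ℕ} {hasLong : Bool} {c0 a0 b1 : ℕ} {C : ℤ} {par : List (ℕ × ℕ)} {dep comp : List ℕ}
    (oc : OCert D b0 hasLong c0 a0 b1 C par dep comp) (hrep : RepCert D comp)
    (hdiv : DivCert D ws sc)
    (hsym : ∀ (θ : MulAut ↥(D.group F)) (ρ : ℕ → ℕ), (∀ i < D.rank, ρ i < D.rank) →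
      (∀ i < D.rank, Preserves' θ (D.rootSubgroup F (D.simple i)) (D.rootSubgroup F (D.simple (ρ i)))) →
      (∀ i < D.rank, Preserves' θ (D.rootSubgroup F (D.neg (D.simple i)))
        (D.rootSubgroup F (D.neg (D.simple (ρ i))))) →
      (∀ i < D.rank, ∀ k < D.rank, ρ i = ρ k → i = k) →
      (∀ i < D.rank, ∀ k < D.rank, adjB D (ρ i) (ρ k) = adjB D i k) → Realized (F := F) A.c p ρ)
    (θ : MulAut ↥(D.group F)) :
    ∃ (x : ↥(D.group F)) (d g f : ↥(D.group F) ≃* ↥(D.group F)),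
      D.IsDiagonalAut d ∧ D.IsGraphAut g ∧ D.IsFieldAut f ∧ ∀ y : ↥(D.group F), θ y = x * d (g (f y)) * x⁻¹ := by
  have hA := A
  obtain ⟨c, tc, ac, gc, hdesc, hR2, hw, hws, hhead⟩ := A
  apply steinberg_of p c tc ac gc hdesc hR2 hw hdiv (eq_one_of_fix' oc c ac hrep) ?_
    (eq_scalar_mul_field_of_preserves' hA hconn oc hrep) θ
  intro θ₂ hU₂ hV₂
  obtain ⟨ρ, hρ, hmp, hmn⟩ := exists_perm_of_aut' hA θ₂ hU₂ hV₂
  obtain ⟨hinj, hadj⟩ := perm_props_of_maps' c tc ac hR2 hhead θ₂ ρ hρ hmp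
  obtain ⟨e, γ, h1, h2, h3, h4⟩ := hsym θ₂ ρ hρ hmp hmn hinj hadj
  exact ⟨ρ, e, γ, surj_of_inj D.rank ρ hρ hinj, hmp, hmn, h1, h2, h3, h4⟩

/-- The decomposition of the automorphisms for a simply laced datum without symmetries. -/
theorem steinberg_rigid [Fintype F] (p : ℕ) [Fact p.Prime] [CharP F p]
    (A : AutData D Ns wl ws sc w d w0 F) {parC depC : List ℕ} (hconn : ConnCert D parC depC)
    {b0 : ℕ} {hasLong : Bool} {c0 a0 b1 : ℕ} {C : ℤ} {par : List (ℕ × ℕ)} {dep comp : List ℕ}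
    (oc : OCert D b0 hasLong c0 a0 b1 C par dep comp) (hcomp : ∀ r < D.nroots, comp.getD r 2 = 0)
    (hdiv : DivCert D ws sc) (θ : MulAut ↥(D.group F)) :
    ∃ (x : ↥(D.group F)) (d g f : ↥(D.group F) ≃* ↥(D.group F)),
      D.IsDiagonalAut d ∧ D.IsGraphAut g ∧ D.IsFieldAut f ∧ ∀ y : ↥(D.group F), θ y = x * d (g (f y)) * x⁻¹ := by
  obtain ⟨c, tc, ac, gc, hdesc, hR2, hw, hws, hsl, hrig⟩ := A
  have B : AutBase D Ns wl ws sc w d w0 F := ⟨c, tc, ac, gc, hdesc, hR2, hw, hws, hsl⟩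
  apply steinberg_base p B hconn oc hcomp hdiv ?_ θ
  intro θ₂ ρ hρ _ _ hinj hadj
  exact realized_id _ p ρ (eq_of_rigid hrig ρ hρ hinj hadj)

/-- The decomposition of the automorphisms for a datum with two root lengths and a symmetry of order two of the
underlying graph, which is realized by an automorphism or by none. -/
theorem steinberg_flip2 [Fintype F] (p : ℕ) [Fact p.Prime] [CharP F p]
    (A : AutBase2 D Ns wl ws sc w d w0 F) {parC depC : List ℕ} (hconn : ConnCert D parC depC)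
    {b0 : ℕ} {hasLong : Bool} {c0 a0 b1 : ℕ} {C : ℤ} {par : List (ℕ × ℕ)} {dep comp : List ℕ}
    (oc : OCert D b0 hasLong c0 a0 b1 C par dep comp) (hrep : RepCert D comp)
    (hdiv : DivCert D ws sc) {k' : ℕ} {τ : List ℕ} (horb : OrbitCert D 0 k')
    (hprig : PointedRigid D 0) (hflip : FlipCert D τ) (hτ0 : τ.getD 0 0 = k')
    (hkey : (∃ θ : MulAut ↥(D.group F),
      (∀ i < D.rank, Preserves' θ (D.rootSubgroup F (D.simple i)) (D.rootSubgroup F (D.simple (τ.getD i 0)))) ∧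
      (∀ i < D.rank, Preserves' θ (D.rootSubgroup F (D.neg (D.simple i)))
        (D.rootSubgroup F (D.neg (D.simple (τ.getD i 0)))))) →
      Realized (F := F) A.c p (fun i => τ.getD i 0))
    (θ : MulAut ↥(D.group F)) :
    ∃ (x : ↥(D.group F)) (d g f : ↥(D.group F) ≃* ↥(D.group F)),
      D.IsDiagonalAut d ∧ D.IsGraphAut g ∧ D.IsFieldAut f ∧ ∀ y : ↥(D.group F), θ y = x * d (g (f y)) * x⁻¹ := by
  apply steinberg_base2 p A hconn oc hrep hdiv ?_ θ
  intro θ₂ ρ hρ hmp hmn hinj hadj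
  rcases mem_orbit horb ρ hρ hinj hadj with h | h
  · exact realized_id _ p ρ (eq_of_pointedRigid hprig ρ hρ hinj hadj h)
  · have hfl := eq_flip_of_swap horb hprig hflip hτ0 ρ hρ hinj hadj h
    obtain ⟨e, γ, h1, h2, h3, h4⟩ := hkey ⟨θ₂, fun i hi => by
      have := hmp i hi
      rwa [hfl i hi] at this, fun i hi => by
      have := hmn i hi
      rwa [hfl i hi] at this⟩
    refine ⟨e, γ, h1, h2, fun i hi t => ?_, fun i hi t => ?_⟩
    · rw [hfl i hi]
      exact h3 i hi t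
    · rw [hfl i hi]
      exact h4 i hi t

end Cfsg.Agent.Lib.Helper18_ChevAutQ
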