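import Cfsg.Agent.Lib.Helper18_ChevGraphR
import Cfsg.Agent.Lib.Helper36_ChevSimpleAll
import Mathlib.FieldTheory.IsAlgClosed.AlgebraicClosure

set_option autoImplicit false

/-!
The exceptional graph automorphisms over an arbitrary perfect field of the special characteristic (also over the
fields with two elements, over which the groups of type `B₂` and `G₂` are not simple): the automorphism over the
algebraic closure restricts.
-/

namespace Cfsg.Agent.Lib.Helper18_ChevGraphS

open Cfsg Cfsg.Lie Cfsg.Agent.Lib.Helper36_ChevSparse Cfsg.Agent.Lib.Helper36_ChevCoeff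
  Cfsg.Agent.Lib.Helper18_ChevGraphT Cfsg.Agent.Lib.Helper18_ChevGraphU Cfsg.Agent.Lib.Helper18_ChevFast
  Cfsg.Agent.Lib.Helper18_ChevN Cfsg.Agent.Lib.Helper18_ChevWeyl
  Cfsg.Agent.Lib.Helper18_ChevGL Cfsg.Agent.Lib.Helper18_ChevAutC Cfsg.Agent.Lib.Helper18_ChevGraphR

variable {D : ChevalleyDatum} {Ns : List NData} {K : Type*} [Field K]
variable {p : ℕ} {Tz : SMat} {pi piInv lam : List ℕ} {eps : List ℤ} {r0 i0 j0 : ℕ}

/-- The exceptional graph automorphism attached to a certificate, over a perfect field. -/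
theorem exists_graphAut_perfect (hD : D ∈ [chevG2, chevB2, chevD4, chevF4, chevE6, chevE7, chevE8])
    (c : DCert D Ns) [CharP K p] (hp : 0 < p) (hperf : ∀ x : K, ∃ y : K, y ^ p = x)
    (gc : GraphCert D p Tz pi piInv lam eps r0 i0 j0) :
    ∃ α : ↥(D.group K) ≃* ↥(D.group K), ∀ r < D.nroots, ∀ t : K,
      α (xG c r t) = xG c (pi.getD r 0) ((eps.getD r 1 : K) * t ^ lam.getD r 1) := by
  classical
  have hchar : CharP (AlgebraicClosure K) p :=
    charP_of_injective_algebraMap (algebraMap K (AlgebraicClosure K)).injective p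
  have hperfL : ∀ x : AlgebraicClosure K, ∃ y : AlgebraicClosure K, y ^ p = x :=
    fun x => IsAlgClosed.exists_pow_nat_eq x hp
  have hex : ∃ a : AlgebraicClosure K, a ≠ 0 ∧ a ≠ 1 := by
    obtain ⟨a, ha⟩ := Infinite.exists_notMem_finset ({0, 1} : Finset (AlgebraicClosure K))
    refine ⟨a, ?_, ?_⟩
    · rintro rfl
      exact ha (by simp)
    · rintro rfl
      exact ha (by simp)
  have hsimple : IsSimpleGroup ↥(D.group (AlgebraicClosure K)) :=
    (Cfsg.Agent.Lib.Helper36_ChevSimpleAll.simple_of_mem (F := AlgebraicClosure K) D hD (fun _ => hex)).1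
  obtain ⟨ψ, hψ⟩ := exists_graphAut (F := AlgebraicClosure K) c hperfL gc
  exact exists_graphAut_restrict c (algebraMap K (AlgebraicClosure K)) hperf gc ψ hψ

end Cfsg.Agent.Lib.Helper18_ChevGraphS
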