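import Cfsg.Agent.Lib.Helper18_ChevAutQ
import Cfsg.Agent.Lib.Helper18_ChevGraphS

set_option autoImplicit false

/-!
Automorphisms of the Chevalley groups over finite fields, seventeenth part: the exceptional graph automorphisms
given by a certificate realize the symmetry of the underlying graph, with the formula of the graph automorphisms.
-/

namespace Cfsg.Agent.Lib.Helper18_ChevAutR

open Cfsg Cfsg.Lie Cfsg.Agent.Lib.Helper18_ChevFast Cfsg.Agent.Lib.Helper18_ChevEngine
  Cfsg.Agent.Lib.Helper18_ChevN Cfsg.Agent.Lib.Helper18_ChevWeyl Cfsg.Agent.Lib.Helper18_ChevGL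
  Cfsg.Agent.Lib.Helper18_ChevAutA Cfsg.Agent.Lib.Helper18_ChevAutB Cfsg.Agent.Lib.Helper18_ChevAutC
  Cfsg.Agent.Lib.Helper18_ChevAutK Cfsg.Agent.Lib.Helper18_ChevAutM Cfsg.Agent.Lib.Helper18_ChevGraphU
  Cfsg.Agent.Lib.Helper36_ChevSparse Cfsg.Agent.Lib.Helper36_ChevCoeff Cfsg.Agent.Lib.Helper18_ChevAutP
  Cfsg.Agent.Lib.Helper18_ChevAutQ Cfsg.Agent.Lib.Helper18_ChevGraphS

variable {D : ChevalleyDatum} {Ns : List NData} {F : Type*} [Field F]
variable {p : ℕ} {Tz : SMat} {pi piInv lam : List ℕ} {eps : List ℤ} {r0 i0 j0 : ℕ}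

/-- The certificate that the formula of an exceptional graph automorphism is, on the fundamental roots and their
negatives, the formula of the graph automorphisms along the symmetry `τ`. -/
def GraphFormCert (D : ChevalleyDatum) (p : ℕ) (τ pi lam : List ℕ) (eps : List ℤ) : Prop :=
  ∀ i < D.rank, D.simple i < D.nroots ∧ D.neg (D.simple i) < D.nroots ∧
    pi.getD (D.simple i) 0 = D.simple (τ.getD i 0) ∧
    pi.getD (D.neg (D.simple i)) 0 = D.neg (D.simple (τ.getD i 0)) ∧
    eps.getD (D.simple i) 1 = 1 ∧ eps.getD (D.neg (D.simple i)) 1 = 1 ∧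
    lam.getD (D.simple i) 1 = D.graphExp p i (τ.getD i 0) ∧
    lam.getD (D.neg (D.simple i)) 1 = D.graphExp p i (τ.getD i 0)

instance (D : ChevalleyDatum) (p : ℕ) (τ pi lam : List ℕ) (eps : List ℤ) :
    Decidable (GraphFormCert D p τ pi lam eps) := by
  unfold GraphFormCert
  infer_instance

/-- Over a finite field of the special characteristic, the symmetry of the graph is realized. -/
theorem realized_of_graphCert [Finite F] (hD : D ∈ [chevG2, chevB2, chevD4, chevF4, chevE6, chevE7, chevE8])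
    (c : DCert D Ns) [Fact p.Prime] [CharP F p]
    (gc : GraphCert D p Tz pi piInv lam eps r0 i0 j0) {τ τi : List ℕ} (hsym : SymCert D τ τi)
    (hform : GraphFormCert D p τ pi lam eps) : Realized (F := F) c p (fun i => τ.getD i 0) := by
  have hperf : ∀ x : F, ∃ y : F, y ^ p = x := by
    intro x
    have hinj : Function.Injective (frobenius F p) := (frobenius F p).injective
    obtain ⟨y, hy⟩ := Finite.injective_iff_surjective.mp hinj x
    exact ⟨y, hy⟩
  obtain ⟨α, hα⟩ := exists_graphAut_perfect hD c (Fact.out : p.Prime).pos hperf gc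
  apply realized_of c p hsym _ (fun _ _ => rfl) α
  · intro i hi t
    obtain ⟨h1, -, h3, -, h5, -, h7, -⟩ := hform i hi
    rw [hα _ h1 t, h3, h5, h7, Int.cast_one, one_mul]
  · intro i hi t
    obtain ⟨-, h2, -, h4, -, h6, -, h8⟩ := hform i hi
    rw [hα _ h2 t, h4, h6, h8, Int.cast_one, one_mul]

end Cfsg.Agent.Lib.Helper18_ChevAutR
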