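import Mathlib.GroupTheory.PGroup
import Mathlib.GroupTheory.SpecificGroups.Cyclic
import Mathlib.GroupTheory.Commutator.Basic
import Mathlib.GroupTheory.Index
import Mathlib.GroupTheory.QuotientGroup.Basic
import Mathlib.Tactic

set_option autoImplicit false

/-!
The structure of a quotient `A ⧸ I` in which every element of `A` is a product `i d g f` with `i` in the normal
subgroup `I`, `d` in a subgroup `𝒟`, `g` in a finite set `Γ` and `f` in a subgroup `Φ`, where `Γ` normalizes `𝒟` and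
centralizes `Φ`, and `Φ` normalizes `𝒟`: the image of `𝒟` is normal, the image of `𝒟 Φ` is normal, and its index is
at most the number of elements of `Γ`.
-/

namespace Cfsg.Agent.Lib.Helper18_OutStruct

variable {A : Type*} [Group A] (I : Subgroup A) [hI : I.Normal] (𝒟 Φ : Subgroup A) (Γ : Set A)

theorem map_normal_of_decomp
    (hdecomp : ∀ θ : A, ∃ i ∈ I, ∃ d ∈ 𝒟, ∃ g ∈ Γ, ∃ f ∈ Φ, θ = i * d * g * f)
    (hgd : ∀ g ∈ Γ, ∀ d ∈ 𝒟, g * d * g⁻¹ ∈ 𝒟) (hfd : ∀ f ∈ Φ, ∀ d ∈ 𝒟, f * d * f⁻¹ ∈ 𝒟) :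
    (𝒟.map (QuotientGroup.mk' I)).Normal := by
  constructor
  rintro n ⟨d, hd, rfl⟩ y
  obtain ⟨θ, rfl⟩ := QuotientGroup.mk'_surjective I y
  obtain ⟨i, hi, d', hd', g, hg, f, hf, rfl⟩ := hdecomp θ
  refine ⟨d' * (g * (f * d * f⁻¹) * g⁻¹) * d'⁻¹, ?_, ?_⟩
  · exact 𝒟.mul_mem (𝒟.mul_mem hd' (hgd g hg _ (hfd f hf d hd))) (𝒟.inv_mem hd')
  · have h1 : (QuotientGroup.mk' I) i = 1 := (QuotientGroup.eq_one_iff i).mpr hi
    simp only [map_mul, map_inv, h1, one_mul, inv_one, mul_one]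
    group

theorem sup_normal_of_decomp
    (hdecomp : ∀ θ : A, ∃ i ∈ I, ∃ d ∈ 𝒟, ∃ g ∈ Γ, ∃ f ∈ Φ, θ = i * d * g * f)
    (hgd : ∀ g ∈ Γ, ∀ d ∈ 𝒟, g * d * g⁻¹ ∈ 𝒟) (hgf : ∀ g ∈ Γ, ∀ f ∈ Φ, g * f = f * g) :
    (𝒟.map (QuotientGroup.mk' I) ⊔ Φ.map (QuotientGroup.mk' I)).Normal := by
  set K : Subgroup A := I ⊔ 𝒟 ⊔ Φ with hK
  have hIK : I ≤ K := le_sup_of_le_left le_sup_left
  have hDK : 𝒟 ≤ K := le_sup_of_le_left le_sup_right
  have hΦK : Φ ≤ K := le_sup_right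
  -- elements of `Γ` normalize `K`
  have hΓ : ∀ g ∈ Γ, ∀ k ∈ K, g * k * g⁻¹ ∈ K := by
    intro g hg k hk
    have hle : K ≤ K.comap (MulAut.conj g).toMonoidHom := by
      rw [hK]
      refine sup_le (sup_le ?_ ?_) ?_
      · intro x hx
        exact hIK (hI.conj_mem x hx g)
      · intro x hx
        exact hDK (hgd g hg x hx)
      · intro x hx
        have : g * x * g⁻¹ = x := by rw [hgf g hg x hx, mul_inv_cancel_right]
        show g * x * g⁻¹ ∈ K
        rw [this]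
        exact hΦK hx
    exact hle hk
  have hKn : K.Normal := by
    constructor
    intro k hk θ
    obtain ⟨i, hi, d, hd, g, hg, f, hf, rfl⟩ := hdecomp θ
    have h1 : f * k * f⁻¹ ∈ K := K.mul_mem (K.mul_mem (hΦK hf) hk) (K.inv_mem (hΦK hf))
    have h2 := hΓ g hg _ h1
    have h3 : d * (g * (f * k * f⁻¹) * g⁻¹) * d⁻¹ ∈ K := K.mul_mem (K.mul_mem (hDK hd) h2) (K.inv_mem (hDK hd))
    have h4 : i * (d * (g * (f * k * f⁻¹) * g⁻¹) * d⁻¹) * i⁻¹ ∈ K :=
      K.mul_mem (K.mul_mem (hIK hi) h3) (K.inv_mem (hIK hi))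
    have e : i * d * g * f * k * (i * d * g * f)⁻¹ = i * (d * (g * (f * k * f⁻¹) * g⁻¹) * d⁻¹) * i⁻¹ := by group
    rw [e]
    exact h4
  have hmap : 𝒟.map (QuotientGroup.mk' I) ⊔ Φ.map (QuotientGroup.mk' I) = K.map (QuotientGroup.mk' I) := by
    rw [hK, Subgroup.map_sup, Subgroup.map_sup]
    have : I.map (QuotientGroup.mk' I) = ⊥ := by
      rw [Subgroup.map_eq_bot_iff, QuotientGroup.ker_mk']
    rw [this, bot_sup_eq]
  rw [hmap]
  exact hKn.map _ (QuotientGroup.mk'_surjective I)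

theorem index_le_of_decomp [Finite (A ⧸ I)]
    (hdecomp : ∀ θ : A, ∃ i ∈ I, ∃ d ∈ 𝒟, ∃ g ∈ Γ, ∃ f ∈ Φ, θ = i * d * g * f)
    (hgd : ∀ g ∈ Γ, ∀ d ∈ 𝒟, g * d * g⁻¹ ∈ 𝒟) (hfd : ∀ f ∈ Φ, ∀ d ∈ 𝒟, f * d * f⁻¹ ∈ 𝒟)
    (L : List A) (hL : ∀ g ∈ Γ, g ∈ L) :
    (𝒟.map (QuotientGroup.mk' I) ⊔ Φ.map (QuotientGroup.mk' I)).index ≠ 0 ∧
      (𝒟.map (QuotientGroup.mk' I) ⊔ Φ.map (QuotientGroup.mk' I)).index ≤ L.length := by
  set N := 𝒟.map (QuotientGroup.mk' I) ⊔ Φ.map (QuotientGroup.mk' I) with hN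
  refine ⟨Subgroup.index_ne_zero_of_finite, ?_⟩
  have hDn := map_normal_of_decomp I 𝒟 Φ Γ hdecomp hgd hfd
  let φ : Fin L.length → (A ⧸ I) ⧸ N := fun k => QuotientGroup.mk (QuotientGroup.mk' I (L.get k))
  have hsurj : Function.Surjective φ := by
    intro z
    obtain ⟨y, rfl⟩ := QuotientGroup.mk_surjective z
    obtain ⟨θ, rfl⟩ := QuotientGroup.mk'_surjective I y
    obtain ⟨i, hi, d, hd, g, hg, f, hf, rfl⟩ := hdecomp θ
    obtain ⟨k, hk⟩ := List.mem_iff_get.mp (hL g hg)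
    refine ⟨k, ?_⟩
    show (QuotientGroup.mk (QuotientGroup.mk' I (L.get k)) : (A ⧸ I) ⧸ N) = _
    rw [hk, QuotientGroup.eq]
    have h1 : (QuotientGroup.mk' I) i = 1 := (QuotientGroup.eq_one_iff i).mpr hi
    simp only [map_mul, h1, one_mul]
    have h2 : ((QuotientGroup.mk' I) g)⁻¹ * ((QuotientGroup.mk' I) d * (QuotientGroup.mk' I) g *
        (QuotientGroup.mk' I) f) =
        (((QuotientGroup.mk' I) g)⁻¹ * (QuotientGroup.mk' I) d * ((QuotientGroup.mk' I) g)⁻¹⁻¹) *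
        (QuotientGroup.mk' I) f := by group
    rw [h2]
    apply N.mul_mem
    · apply (le_sup_left : 𝒟.map (QuotientGroup.mk' I) ≤ N)
      exact hDn.conj_mem _ ⟨d, hd, rfl⟩ _
    · exact (le_sup_right : Φ.map (QuotientGroup.mk' I) ≤ N) ⟨f, hf, rfl⟩
  have := Nat.card_le_card_of_surjective φ hsurj
  rw [Nat.card_fin] at this
  exact this

/-- A group with at most five elements is commutative. -/
theorem comm_of_card_le_five {Q : Type*} [Group Q] [Finite Q] (h : Nat.card Q ≤ 5) (a b : Q) : a * b = b * a := by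
  have hpos : 0 < Nat.card Q := Nat.card_pos
  have hcases : Nat.card Q = 1 ∨ Nat.card Q = 2 ∨ Nat.card Q = 3 ∨ Nat.card Q = 4 ∨ Nat.card Q = 5 := by omega
  rcases hcases with h1 | h2 | h3 | h4 | h5
  · have : Subsingleton Q := (Nat.card_eq_one_iff_unique.mp h1).1
    exact Subsingleton.elim _ _
  · have : Fact (Nat.Prime 2) := ⟨Nat.prime_two⟩
    have hc : IsCyclic Q := isCyclic_of_prime_card h2
    exact (IsCyclic.commGroup (α := Q)).mul_comm a b
  · have : Fact (Nat.Prime 3) := ⟨Nat.prime_three⟩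
    have hc : IsCyclic Q := isCyclic_of_prime_card h3
    exact (IsCyclic.commGroup (α := Q)).mul_comm a b
  · have : Fact (Nat.Prime 2) := ⟨Nat.prime_two⟩
    have hc := IsPGroup.isMulCommutative_of_card_eq_prime_sq (p := 2) (G := Q) (by rw [h4]; norm_num)
    exact hc.is_comm.comm a b
  · have : Fact (Nat.Prime 5) := ⟨Nat.prime_five⟩
    have hc : IsCyclic Q := isCyclic_of_prime_card h5
    exact (IsCyclic.commGroup (α := Q)).mul_comm a b

/-- A normal subgroup of index at most six that does not contain the commutator subgroup has index six. -/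
theorem index_eq_six {B : Type*} [Group B] (N : Subgroup B) [N.Normal] (h0 : N.index ≠ 0) (h6 : N.index ≤ 6)
    (hc : ¬ commutator B ≤ N) : N.index = 6 := by
  by_contra hne
  apply hc
  have hfin : Finite (B ⧸ N) := by
    have : N.FiniteIndex := ⟨h0⟩
    infer_instance
  have h5 : Nat.card (B ⧸ N) ≤ 5 := by
    have : Nat.card (B ⧸ N) = N.index := rfl
    omega
  rw [commutator_def, Subgroup.commutator_le]
  intro a _ b _
  rw [← QuotientGroup.eq_one_iff, commutatorElement_def]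
  simp only [QuotientGroup.mk_mul, QuotientGroup.mk_inv]
  have := comm_of_card_le_five h5 (a : B ⧸ N) (b : B ⧸ N)
  rw [this]
  group

end Cfsg.Agent.Lib.Helper18_OutStruct
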