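import Cfsg.Agent.Lib.Helper18_ChevAutQ
import Cfsg.Agent.Lib.Helper18_OutStruct

set_option autoImplicit false

/-!
Automorphisms of the Chevalley groups over finite fields, eighteenth part: the diagonal, field and graph
automorphisms (as defined with the tables of the datum) inside the group of automorphisms, and the structure of the
group of outer automorphisms that follows from the decomposition of the automorphisms.
-/

namespace Cfsg.Agent.Lib.Helper18_ChevAutS

open Cfsg Cfsg.Lie Cfsg.Agent.Lib.Helper18_ChevFast Cfsg.Agent.Lib.Helper18_ChevEngine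
  Cfsg.Agent.Lib.Helper18_ChevR1 Cfsg.Agent.Lib.Helper18_ChevN Cfsg.Agent.Lib.Helper18_ChevR4
  Cfsg.Agent.Lib.Helper18_ChevSimple Cfsg.Agent.Lib.Helper18_ChevSimple2 Cfsg.Agent.Lib.Helper18_ChevFacts
  Cfsg.Agent.Lib.Helper18_ChevWeyl Cfsg.Agent.Lib.Helper18_ChevDiag Cfsg.Agent.Lib.Helper18_ChevCar
  Cfsg.Agent.Lib.Helper18_ChevTorus Cfsg.Agent.Lib.Helper18_ChevGL Cfsg.Agent.Lib.Helper18_ChevComm
  Cfsg.Agent.Lib.Helper18_ChevComm2 Cfsg.Agent.Lib.Helper18_MatTri Cfsg.Agent.Lib.Helper18_ChevTri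
  Cfsg.Agent.Lib.Helper18_ChevBorel Cfsg.Agent.Lib.Helper18_ChevAdd Cfsg.Agent.Lib.Helper18_ChevUni
  Cfsg.Agent.Lib.Helper18_ChevBN Cfsg.Agent.Lib.Helper18_ChevMono Cfsg.Agent.Lib.Helper18_ChevBNPair
  Cfsg.Agent.Lib.Helper18_ChevSimp Cfsg.Agent.Lib.Helper18_ChevJCerts Cfsg.Agent.Lib.Helper18_ChevLevi
  Cfsg.Agent.Lib.Helper18_ChevBruhat Cfsg.Agent.Lib.Helper18_ChevPar Cfsg.Agent.Lib.Helper18_ChevRootHom
  Cfsg.Agent.Lib.Helper18_ChevOrder Cfsg.Agent.Lib.Helper18_ChevSylow Cfsg.Agent.Lib.Helper18_ChevCent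
  Cfsg.Agent.Lib.Helper18_ChevFrob Cfsg.Agent.Lib.Helper18_ChevAutA Cfsg.Agent.Lib.Helper18_ChevAutB
  Cfsg.Agent.Lib.Helper18_ChevAutC Cfsg.Agent.Lib.Helper18_ChevAutD Cfsg.Agent.Lib.Helper18_ChevGen
  Cfsg.Agent.Lib.Helper18_ChevField Cfsg.Agent.Lib.Helper18_ChevAutE Cfsg.Agent.Lib.Helper18_ChevAutF
  Cfsg.Agent.Lib.Helper18_ChevAutG Cfsg.Agent.Lib.Helper18_ChevAutH Cfsg.Agent.Lib.Helper18_TorusKer
  Cfsg.Agent.Lib.Helper18_ChevAutI Cfsg.Agent.Lib.Helper18_ChevAutJ Cfsg.Agent.Lib.Helper18_ChevAutK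
  Cfsg.Agent.Lib.Helper18_ChevAutM Cfsg.Agent.Lib.Helper18_ChevHhat Cfsg.Agent.Lib.Helper18_ChevAutP
  Cfsg.Agent.Lib.Helper18_ChevAutQ Cfsg.Agent.Lib.Helper18_OutStruct

variable {D : ChevalleyDatum} {Ns : List NData} {F : Type*} [Field F]
variable {wl : List ℤ} {ws : List (List ℤ)} {sc : ℤ} {w : List ℤ} {d : ℕ} {w0 : List ℕ}

/-- The automorphisms that fix the root elements of the fundamental roots and of their negatives are trivial. -/
def FixOne (c : DCert D Ns) (F : Type*) [Field F] : Prop :=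
  ∀ θ : MulAut ↥(D.group F), (∀ i < D.rank, ∀ t : F, θ (xG c (D.simple i) t) = xG c (D.simple i) t ∧
    θ (xG c (D.neg (D.simple i)) t) = xG c (D.neg (D.simple i)) t) → θ = 1

/-- Two automorphisms that agree on the root elements of the fundamental roots and of their negatives are equal. -/
theorem eq_of_agree {c : DCert D Ns} (hone : FixOne c F) (θ θ' : MulAut ↥(D.group F))
    (h : ∀ i < D.rank, ∀ t : F, θ (xG c (D.simple i) t) = θ' (xG c (D.simple i) t) ∧
      θ (xG c (D.neg (D.simple i)) t) = θ' (xG c (D.neg (D.simple i)) t)) : θ = θ' := by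
  have : θ'⁻¹ * θ = 1 := by
    apply hone
    intro i hi t
    constructor
    · rw [MulAut.mul_apply, (h i hi t).1, MulAut.inv_apply_self]
    · rw [MulAut.mul_apply, (h i hi t).2, MulAut.inv_apply_self]
  have h2 := congrArg (fun ψ => θ' * ψ) this
  simp only [mul_inv_cancel_left, mul_one] at h2
  exact h2

/-! ### Diagonal automorphisms -/

/-- An automorphism acting by scalars on the root elements of the fundamental roots, and by the inverse scalars on
those of their negatives, is the diagonal automorphism of these scalars. -/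
theorem eq_diagAut_of_scalars (c : DCert D Ns) (tc : TCert D) (ac : ACert D wl ws sc) (hdiv : DivCert D ws sc)
    (hone : FixOne c F) (θ : MulAut ↥(D.group F)) (a : Fin D.rank → Fˣ)
    (hpos : ∀ (i : ℕ) (hi : i < D.rank) (t : F), θ (xG c (D.simple i) t) = xG c (D.simple i) ((a ⟨i, hi⟩ : F) * t))
    (hneg : ∀ (i : ℕ) (hi : i < D.rank) (t : F),
      θ (xG c (D.neg (D.simple i)) t) = xG c (D.neg (D.simple i)) (((a ⟨i, hi⟩)⁻¹ : Fˣ) * t)) :
    θ = diagAut c tc ac hdiv a := by
  apply eq_of_agree hone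
  intro i hi t
  have hp := (ac.simple i hi).1
  have hn := DCert.neg_lt c _ hp
  constructor
  · rw [hpos i hi t, diagAut_xG_simple c tc ac hdiv a i hi t, extT_lt a i hi]
  · rw [hneg i hi t, diagAut_xG c tc ac hdiv a _ hn t]
    have hχ := isChar_rootChar (F := F) c tc ac hdiv (extT D a) (fun j _ => extT_ne_zero a j)
    have h1 := hχ.neg _ hp
    have h2 : rootChar D ws sc (extT D a) (D.simple i) = ((a ⟨i, hi⟩ : Fˣ) : F) := by
      rw [rootChar_simple ac hdiv _ i hi, extT_lt a i hi]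
    rw [h2] at h1
    have h3 : rootChar D ws sc (extT D a) (D.neg (D.simple i)) = (((a ⟨i, hi⟩)⁻¹ : Fˣ) : F) := by
      rw [Units.val_inv_eq_inv_val]
      exact eq_inv_of_mul_eq_one_left h1
    rw [h3]

/-- A diagonal automorphism acts by scalars on the root elements. -/
theorem exists_char_of_isDiagonalAut (c : DCert D Ns) (ac : ACert D wl ws sc) (hcons : ChainCons D)
    (φ : MulAut ↥(D.group F)) (hφ : D.IsDiagonalAut φ) :
    ∃ χ : ℕ → Fˣ, D.IsRootCharacter χ ∧ ∀ r < D.nroots, ∀ t : F, φ (xG c r t) = xG c r ((χ r : F) * t) := by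
  obtain ⟨χ, hχ, hφ⟩ := hφ
  refine ⟨χ, hχ, fun r hr t => ?_⟩
  have hchar := isChar_of_rootChar c.rows hcons ac.in_range χ hχ
  apply Subtype.ext
  apply Units.ext
  rw [hφ, charDiag_eq, charDiag_eq, xG_coe, xGL_coe, xG_coe, xGL_coe, diag_conj hchar r hr t, Matrix.mul_assoc,
    diagMat_mul]
  have : diagMat D (fun s => ((χ s : Fˣ) : F) * (((χ s)⁻¹ : Fˣ) : F)) = 1 := by
    rw [← diagMat_one]
    apply diagMat_congr
    intro s _
    rw [← Units.val_mul, mul_inv_cancel, Units.val_one]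
  rw [this, Matrix.mul_one]

/-- The diagonal automorphisms are the automorphisms `diagAut`. -/
theorem isDiagonalAut_iff (c : DCert D Ns) (tc : TCert D) (ac : ACert D wl ws sc) (hdiv : DivCert D ws sc)
    (hcons : ChainCons D) (hone : FixOne c F) (φ : MulAut ↥(D.group F)) :
    D.IsDiagonalAut φ ↔ φ ∈ (diagHom (F := F) c tc ac hdiv).range := by
  constructor
  · intro hφ
    obtain ⟨χ, hχ, hact⟩ := exists_char_of_isDiagonalAut c ac hcons φ hφ
    refine ⟨fun i => χ (D.simple i), ?_⟩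
    rw [diagHom_apply]
    symm
    apply eq_diagAut_of_scalars c tc ac hdiv hone
    · intro i hi t
      exact hact _ (ac.simple i hi).1 t
    · intro i hi t
      rw [hact _ (DCert.neg_lt c _ (ac.simple i hi).1) t, hχ.1 _ (ac.simple i hi).1]
  · rintro ⟨a, rfl⟩
    rw [diagHom_apply]
    exact isDiagonalAut_diagAut c tc ac hdiv a

/-! ### Field automorphisms -/

/-- The field automorphisms are the automorphisms `fieldAutOf`. -/
theorem isFieldAut_iff (c : DCert D Ns) (ac : ACert D wl ws sc) (hone : FixOne c F) (φ : MulAut ↥(D.group F)) :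
    D.IsFieldAut φ ↔ φ ∈ (fieldAutHom (F := F) c).range := by
  constructor
  · rintro ⟨σ, hσ⟩
    refine ⟨σ, ?_⟩
    show fieldAutOf c σ = φ
    symm
    apply eq_of_agree hone
    intro i hi t
    have hp := (ac.simple i hi).1
    have hn := DCert.neg_lt c _ hp
    constructor
    · rw [fieldAutOf_xG]
      exact Subtype.ext (Units.ext (hσ (xG c (D.simple i) t) _ t hp rfl))
    · rw [fieldAutOf_xG]
      exact Subtype.ext (Units.ext (hσ (xG c (D.neg (D.simple i)) t) _ t hn rfl))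
  · rintro ⟨σ, rfl⟩
    exact fieldAutOf_isFieldAut c σ

/-- The group of automorphisms of a finite field is cyclic. -/
theorem isCyclic_ringAut [Finite F] : IsCyclic (RingAut F) := by
  have hchar : CharP F (ringChar F) := ringChar.charP F
  have hprime : Fact (ringChar F).Prime := ⟨CharP.char_is_prime F (ringChar F)⟩
  let _ : Algebra (ZMod (ringChar F)) F := ZMod.algebra F (ringChar F)
  let f : (F ≃ₐ[ZMod (ringChar F)] F) →* RingAut F :=
    { toFun := fun τ => τ.toRingEquiv
      map_one' := rfl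
      map_mul' := fun _ _ => rfl }
  have hf : Function.Surjective f := by
    intro σ
    refine ⟨AlgEquiv.ofRingEquiv (f := σ) (fun x =>
      RingHom.congr_fun (Subsingleton.elim ((σ : F →+* F).comp (algebraMap (ZMod (ringChar F)) F))
        (algebraMap (ZMod (ringChar F)) F)) x), ?_⟩
    ext
    rfl
  exact isCyclic_of_surjective f hf

/-! ### Graph automorphisms -/

/-- The formula of a graph automorphism along the permutation `τ` of the nodes. -/
def Along (c : DCert D Ns) (τ : List ℕ) (g : MulAut ↥(D.group F)) : Prop :=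
  ∀ i < D.rank, ∀ t : F,
    g (xG c (D.simple i) t) = xG c (D.simple (τ.getD i 0)) (t ^ D.graphExp (ringChar F) i (τ.getD i 0)) ∧
    g (xG c (D.neg (D.simple i)) t) =
      xG c (D.neg (D.simple (τ.getD i 0))) (t ^ D.graphExp (ringChar F) i (τ.getD i 0))

theorem along_unique {c : DCert D Ns} (hone : FixOne c F) {τ : List ℕ} {g g' : MulAut ↥(D.group F)}
    (h : Along c τ g) (h' : Along c τ g') : g = g' := by
  apply eq_of_agree hone
  intro i hi t
  exact ⟨by rw [(h i hi t).1, (h' i hi t).1], by rw [(h i hi t).2, (h' i hi t).2]⟩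

/-- The extension to the natural numbers of a permutation of the nodes. -/
def extPerm (π : Equiv.Perm (Fin D.rank)) (i : ℕ) : ℕ := if h : i < D.rank then (π ⟨i, h⟩ : ℕ) else i

theorem extPerm_lt (π : Equiv.Perm (Fin D.rank)) (i : ℕ) (hi : i < D.rank) : extPerm π i < D.rank := by
  unfold extPerm
  rw [dif_pos hi]
  exact (π ⟨i, hi⟩).isLt

theorem extPerm_eq (π : Equiv.Perm (Fin D.rank)) (i : ℕ) (hi : i < D.rank) : extPerm π i = (π ⟨i, hi⟩ : ℕ) := by
  unfold extPerm
  rw [dif_pos hi]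

/-- The powers in the formula of a graph automorphism are surjective. -/
theorem graphExp_surjective [Finite F] (i j : ℕ) :
    Function.Surjective (fun t : F => t ^ D.graphExp (ringChar F) i j) := by
  have hchar : CharP F (ringChar F) := ringChar.charP F
  have hprime : Fact (ringChar F).Prime := ⟨CharP.char_is_prime F (ringChar F)⟩
  rcases graphExp_eq D (ringChar F) i j with h | h
  · intro s
    exact ⟨s, by simp [h]⟩
  · intro s
    have hinj : Function.Injective (frobenius F (ringChar F)) := (frobenius F (ringChar F)).injective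
    obtain ⟨y, hy⟩ := Finite.injective_iff_surjective.mp hinj s
    refine ⟨y, ?_⟩
    show y ^ D.graphExp (ringChar F) i j = s
    rw [h]
    exact hy

/-- A graph automorphism is given by the formula along a list in the given list of the symmetries of the graph. -/
theorem exists_along_of_isGraphAut [Finite F] (c : DCert D Ns) (Lτ : List (List ℕ))
    (hpp : ∀ (θ : MulAut ↥(D.group F)) (ρ : ℕ → ℕ), (∀ i < D.rank, ρ i < D.rank) →
      (∀ i < D.rank, Preserves' θ (D.rootSubgroup F (D.simple i)) (D.rootSubgroup F (D.simple (ρ i)))) →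
      (∀ i < D.rank, ∀ k < D.rank, ρ i = ρ k → i = k) ∧
        ∀ i < D.rank, ∀ k < D.rank, adjB D (ρ i) (ρ k) = adjB D i k)
    (hcl : ∀ ρ : ℕ → ℕ, (∀ i < D.rank, ρ i < D.rank) → (∀ i < D.rank, ∀ k < D.rank, ρ i = ρ k → i = k) →
      (∀ i < D.rank, ∀ k < D.rank, adjB D (ρ i) (ρ k) = adjB D i k) →
      ∃ τ ∈ Lτ, ∀ i < D.rank, ρ i = τ.getD i 0)
    (g : MulAut ↥(D.group F)) (hg : D.IsGraphAut g) : ∃ τ ∈ Lτ, Along c τ g := by
  obtain ⟨π, -, hπ⟩ := hg
  have hform : ∀ (i : ℕ) (hi : i < D.rank) (t : F),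
      g (xG c (D.simple i) t) = xG c (D.simple (extPerm π i)) (t ^ D.graphExp (ringChar F) i (extPerm π i)) ∧
      g (xG c (D.neg (D.simple i)) t) =
        xG c (D.neg (D.simple (extPerm π i))) (t ^ D.graphExp (ringChar F) i (extPerm π i)) := by
    intro i hi t
    rw [extPerm_eq π i hi]
    exact ⟨Subtype.ext (Units.ext ((hπ (xG c (D.simple i) t) ⟨i, hi⟩ t).1 rfl)),
      Subtype.ext (Units.ext ((hπ (xG c (D.neg (D.simple i)) t) ⟨i, hi⟩ t).2 rfl))⟩
  have hmaps : ∀ i < D.rank,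
      Preserves' g (D.rootSubgroup F (D.simple i)) (D.rootSubgroup F (D.simple (extPerm π i))) :=
    fun i hi => preserves'_of_formula1 c g _ _ _ (fun t => (hform i hi t).1) (graphExp_surjective i _)
  obtain ⟨hinj, hadj⟩ := hpp g (extPerm π) (extPerm_lt π) hmaps
  obtain ⟨τ, hτ, hρτ⟩ := hcl (extPerm π) (extPerm_lt π) hinj hadj
  refine ⟨τ, hτ, fun i hi t => ?_⟩
  rw [← hρτ i hi]
  exact hform i hi t

/-- The graph automorphisms lie in a list with as many elements as the given list of the symmetries of the graph. -/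
theorem exists_list_of_along {c : DCert D Ns} (hone : FixOne c F) (Lτ : List (List ℕ)) :
    ∃ L : List (MulAut ↥(D.group F)), L.length = Lτ.length ∧
      ∀ g : MulAut ↥(D.group F), (∃ τ ∈ Lτ, Along c τ g) → g ∈ L := by
  classical
  refine ⟨Lτ.map fun τ => if h : ∃ g : MulAut ↥(D.group F), Along c τ g then Classical.choose h else 1,
    List.length_map _, ?_⟩
  rintro g ⟨τ, hτ, hg⟩
  rw [List.mem_map]
  refine ⟨τ, hτ, ?_⟩
  have h : ∃ g : MulAut ↥(D.group F), Along c τ g := ⟨g, hg⟩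
  rw [dif_pos h]
  exact along_unique hone (Classical.choose_spec h) hg

/-! ### Conjugates of diagonal automorphisms -/

/-- The conjugate of a diagonal automorphism by a field automorphism is a diagonal automorphism. -/
theorem field_conj_diag (c : DCert D Ns) (tc : TCert D) (ac : ACert D wl ws sc) (hdiv : DivCert D ws sc)
    (hone : FixOne c F) (σ : F ≃+* F) (a : Fin D.rank → Fˣ) :
    fieldAutOf c σ * diagAut c tc ac hdiv a * (fieldAutOf c σ)⁻¹ ∈ (diagHom (F := F) c tc ac hdiv).range := by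
  refine ⟨fun i => Units.map (σ : F →* F) (a i), ?_⟩
  rw [diagHom_apply]
  symm
  have hinv : ∀ (r : ℕ) (t : F), (fieldAutOf c σ)⁻¹ (xG c r t) = xG c r ((σ⁻¹ : RingAut F) t) := by
    intro r t
    rw [MulAut.inv_apply, MulEquiv.symm_apply_eq, fieldAutOf_xG]
    congr 1
    exact (RingEquiv.apply_symm_apply σ t).symm
  have hχ := isChar_rootChar (F := F) c tc ac hdiv (extT D a) (fun j _ => extT_ne_zero a j)
  apply eq_diagAut_of_scalars c tc ac hdiv hone
  · intro i hi t
    rw [MulAut.mul_apply, MulAut.mul_apply, hinv, diagAut_xG_simple c tc ac hdiv a i hi, fieldAutOf_xG, map_mul,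
      extT_lt a i hi]
    congr 2
    exact RingEquiv.apply_symm_apply σ t
  · intro i hi t
    have hp := (ac.simple i hi).1
    have hn := DCert.neg_lt c _ hp
    rw [MulAut.mul_apply, MulAut.mul_apply, hinv, diagAut_xG c tc ac hdiv a _ hn, fieldAutOf_xG, map_mul]
    have h1 := hχ.neg _ hp
    have h2 : rootChar D ws sc (extT D a) (D.simple i) = ((a ⟨i, hi⟩ : Fˣ) : F) := by
      rw [rootChar_simple ac hdiv _ i hi, extT_lt a i hi]
    rw [h2] at h1
    have h3 : rootChar D ws sc (extT D a) (D.neg (D.simple i)) = (((a ⟨i, hi⟩)⁻¹ : Fˣ) : F) := by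
      rw [Units.val_inv_eq_inv_val]
      exact eq_inv_of_mul_eq_one_left h1
    rw [h3]
    have e1 : σ (((a ⟨i, hi⟩)⁻¹ : Fˣ) : F) = (((Units.map (σ : F →* F) (a ⟨i, hi⟩))⁻¹ : Fˣ) : F) := by
      rw [← map_inv]
      rfl
    have e2 : σ ((σ⁻¹ : RingAut F) t) = t := RingEquiv.apply_symm_apply σ t
    rw [e1, e2]

/-- The conjugate of a diagonal automorphism by a graph automorphism is a diagonal automorphism. -/
theorem graph_conj_diag [Finite F] (c : DCert D Ns) (tc : TCert D) (ac : ACert D wl ws sc) (hdiv : DivCert D ws sc)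
    (hone : FixOne c F) (g : MulAut ↥(D.group F)) (hg : D.IsGraphAut g) (a : Fin D.rank → Fˣ) :
    g * diagAut c tc ac hdiv a * g⁻¹ ∈ (diagHom (F := F) c tc ac hdiv).range := by
  obtain ⟨π, -, hπ⟩ := hg
  have hform : ∀ (i : Fin D.rank) (t : F),
      g (xG c (D.simple i) t) = xG c (D.simple (π i)) (t ^ D.graphExp (ringChar F) i (π i)) ∧
      g (xG c (D.neg (D.simple i)) t) =
        xG c (D.neg (D.simple (π i))) (t ^ D.graphExp (ringChar F) i (π i)) := fun i t =>
    ⟨Subtype.ext (Units.ext ((hπ (xG c (D.simple i) t) i t).1 rfl)),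
      Subtype.ext (Units.ext ((hπ (xG c (D.neg (D.simple i)) t) i t).2 rfl))⟩
  have hχ := isChar_rootChar (F := F) c tc ac hdiv (extT D a) (fun j _ => extT_ne_zero a j)
  refine ⟨fun j => (a (π.symm j)) ^ D.graphExp (ringChar F) (π.symm j) j, ?_⟩
  rw [diagHom_apply]
  symm
  apply eq_diagAut_of_scalars c tc ac hdiv hone
  · intro j hj u
    set i := π.symm ⟨j, hj⟩ with hi
    have hπi : ((π i : Fin D.rank) : ℕ) = j := by rw [hi, Equiv.apply_symm_apply]
    obtain ⟨t, ht⟩ := graphExp_surjective (D := D) (F := F) i j u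
    simp only at ht
    have h1 : g (xG c (D.simple i) t) = xG c (D.simple j) u := by
      rw [(hform i t).1, hπi, ht]
    have h2 : g⁻¹ (xG c (D.simple j) u) = xG c (D.simple i) t := by rw [← h1, MulAut.inv_apply_self]
    rw [MulAut.mul_apply, MulAut.mul_apply, h2, diagAut_xG_simple c tc ac hdiv a i i.isLt, (hform i _).1, hπi,
      extT_lt a i i.isLt, mul_pow, ht, Units.val_pow_eq_pow_val]
  · intro j hj u
    set i := π.symm ⟨j, hj⟩ with hi
    have hπi : ((π i : Fin D.rank) : ℕ) = j := by rw [hi, Equiv.apply_symm_apply]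
    obtain ⟨t, ht⟩ := graphExp_surjective (D := D) (F := F) i j u
    simp only at ht
    have hp := (ac.simple i i.isLt).1
    have hn := DCert.neg_lt c _ hp
    have h1 : g (xG c (D.neg (D.simple i)) t) = xG c (D.neg (D.simple j)) u := by
      rw [(hform i t).2, hπi, ht]
    have h2 : g⁻¹ (xG c (D.neg (D.simple j)) u) = xG c (D.neg (D.simple i)) t := by
      rw [← h1, MulAut.inv_apply_self]
    have h3 := hχ.neg _ hp
    have h4 : rootChar D ws sc (extT D a) (D.simple i) = ((a i : Fˣ) : F) := by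
      rw [rootChar_simple ac hdiv _ i i.isLt, extT_lt a i i.isLt]
    rw [h4] at h3
    have h5 : rootChar D ws sc (extT D a) (D.neg (D.simple i)) = (((a i)⁻¹ : Fˣ) : F) := by
      rw [Units.val_inv_eq_inv_val]
      exact eq_inv_of_mul_eq_one_left h3
    rw [MulAut.mul_apply, MulAut.mul_apply, h2, diagAut_xG c tc ac hdiv a _ hn, (hform i _).2, hπi, h5, mul_pow, ht,
      ← Units.val_pow_eq_pow_val, inv_pow]

/-! ### The structure of the group of outer automorphisms -/

/-- The structure of the group of outer automorphisms, from the decomposition of the automorphisms: the image of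
the diagonal automorphisms is a normal commutative subgroup, the image of the field automorphisms is cyclic, their
product is normal, of index at most the number of symmetries of the graph. -/
theorem out_structure_of [Finite F] (c : DCert D Ns) (tc : TCert D) (ac : ACert D wl ws sc)
    (hdiv : DivCert D ws sc) (hcons : ChainCons D) (hone : FixOne c F)
    (hdecomp : ∀ θ : MulAut ↥(D.group F), ∃ (x : ↥(D.group F)) (d g f : ↥(D.group F) ≃* ↥(D.group F)),
      D.IsDiagonalAut d ∧ D.IsGraphAut g ∧ D.IsFieldAut f ∧ ∀ y : ↥(D.group F), θ y = x * d (g (f y)) * x⁻¹)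
    (Lτ : List (List ℕ))
    (hcl : ∀ g : MulAut ↥(D.group F), D.IsGraphAut g → ∃ τ ∈ Lτ, Along c τ g)
    (Dbar Fbar : Subgroup (Cfsg.Out ↥(D.group F)))
    (hDbar : Dbar = (Subgroup.closure {φ : MulAut ↥(D.group F) | D.IsDiagonalAut φ}).map
      (QuotientGroup.mk' (Cfsg.Inn ↥(D.group F))))
    (hFbar : Fbar = (Subgroup.closure {φ : MulAut ↥(D.group F) | D.IsFieldAut φ}).map
      (QuotientGroup.mk' (Cfsg.Inn ↥(D.group F)))) :
    Dbar.Normal ∧ IsMulCommutative ↥Dbar ∧ IsCyclic ↥Fbar ∧ (Dbar ⊔ Fbar).Normal ∧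
      (Dbar ⊔ Fbar).index ≠ 0 ∧ (Dbar ⊔ Fbar).index ≤ Lτ.length := by
  classical
  have : Fintype F := Fintype.ofFinite F
  set 𝒟 : Subgroup (MulAut ↥(D.group F)) := (diagHom (F := F) c tc ac hdiv).range with h𝒟
  set Φ : Subgroup (MulAut ↥(D.group F)) := (fieldAutHom (F := F) c).range with hΦ
  have e1 : Subgroup.closure {φ : MulAut ↥(D.group F) | D.IsDiagonalAut φ} = 𝒟 := by
    have : {φ : MulAut ↥(D.group F) | D.IsDiagonalAut φ} = (𝒟 : Set (MulAut ↥(D.group F))) := by
      ext φ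
      exact isDiagonalAut_iff c tc ac hdiv hcons hone φ
    rw [this, Subgroup.closure_eq]
  have e2 : Subgroup.closure {φ : MulAut ↥(D.group F) | D.IsFieldAut φ} = Φ := by
    have : {φ : MulAut ↥(D.group F) | D.IsFieldAut φ} = (Φ : Set (MulAut ↥(D.group F))) := by
      ext φ
      exact isFieldAut_iff c ac hone φ
    rw [this, Subgroup.closure_eq]
  rw [e1] at hDbar
  rw [e2] at hFbar
  subst hDbar hFbar
  set Γ : Set (MulAut ↥(D.group F)) := {g | D.IsGraphAut g} with hΓ
  have hdecomp' : ∀ θ : MulAut ↥(D.group F), ∃ i ∈ Cfsg.Inn ↥(D.group F), ∃ d ∈ 𝒟, ∃ g ∈ Γ, ∃ f ∈ Φ,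
      θ = i * d * g * f := by
    intro θ
    obtain ⟨x, d, g, f, hd, hg, hf, hθ⟩ := hdecomp θ
    refine ⟨MulAut.conj x, ⟨x, rfl⟩, d, (isDiagonalAut_iff c tc ac hdiv hcons hone d).mp hd, g, hg, f,
      (isFieldAut_iff c ac hone f).mp hf, ?_⟩
    apply MulEquiv.ext
    intro y
    rw [hθ y]
    rfl
  have hgd : ∀ g ∈ Γ, ∀ d ∈ 𝒟, g * d * g⁻¹ ∈ 𝒟 := by
    rintro g hg _ ⟨a, rfl⟩
    rw [diagHom_apply]
    exact graph_conj_diag c tc ac hdiv hone g hg a
  have hfd : ∀ f ∈ Φ, ∀ d ∈ 𝒟, f * d * f⁻¹ ∈ 𝒟 := by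
    rintro _ ⟨σ, rfl⟩ _ ⟨a, rfl⟩
    rw [diagHom_apply]
    exact field_conj_diag c tc ac hdiv hone σ a
  have hgf : ∀ g ∈ Γ, ∀ f ∈ Φ, g * f = f * g := by
    rintro g hg _ ⟨σ, rfl⟩
    obtain ⟨π, -, hπ⟩ := hg
    apply eq_of_agree hone
    intro i hi t
    have h1 : ∀ t : F, g (xG c (D.simple i) t) =
        xG c (D.simple (π ⟨i, hi⟩)) (t ^ D.graphExp (ringChar F) i (π ⟨i, hi⟩)) := fun t =>
      Subtype.ext (Units.ext ((hπ (xG c (D.simple i) t) ⟨i, hi⟩ t).1 rfl))
    have h2 : ∀ t : F, g (xG c (D.neg (D.simple i)) t) =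
        xG c (D.neg (D.simple (π ⟨i, hi⟩))) (t ^ D.graphExp (ringChar F) i (π ⟨i, hi⟩)) := fun t =>
      Subtype.ext (Units.ext ((hπ (xG c (D.neg (D.simple i)) t) ⟨i, hi⟩ t).2 rfl))
    constructor
    · show g (fieldAutOf c σ (xG c (D.simple i) t)) = fieldAutOf c σ (g (xG c (D.simple i) t))
      rw [fieldAutOf_xG, h1, h1, fieldAutOf_xG, map_pow]
    · show g (fieldAutOf c σ (xG c (D.neg (D.simple i)) t)) = fieldAutOf c σ (g (xG c (D.neg (D.simple i)) t))
      rw [fieldAutOf_xG, h2, h2, fieldAutOf_xG, map_pow]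
  obtain ⟨L, hLlen, hL⟩ := exists_list_of_along hone Lτ
  have hΓL : ∀ g ∈ Γ, g ∈ L := fun g hg => hL g (hcl g hg)
  have hfinA : Finite (MulAut ↥(D.group F)) := by
    have : Finite ↥(D.group F) := inferInstance
    exact Finite.of_injective (fun φ : MulAut ↥(D.group F) => (φ : ↥(D.group F) → ↥(D.group F)))
      (fun φ ψ h => MulEquiv.ext (congrFun h))
  have hfinQ : Finite (MulAut ↥(D.group F) ⧸ Cfsg.Inn ↥(D.group F)) := inferInstance
  refine ⟨map_normal_of_decomp _ 𝒟 Φ Γ hdecomp' hgd hfd, inferInstance, ?_,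
    sup_normal_of_decomp _ 𝒟 Φ Γ hdecomp' hgd hgf, ?_⟩
  · have hcyc : IsCyclic (RingAut F) := isCyclic_ringAut
    let ψ : RingAut F →* ↥(Φ.map (QuotientGroup.mk' (Cfsg.Inn ↥(D.group F)))) :=
      ((QuotientGroup.mk' (Cfsg.Inn ↥(D.group F))).comp (fieldAutHom (F := F) c)).codRestrict _ (fun σ =>
        ⟨fieldAutHom c σ, ⟨σ, rfl⟩, rfl⟩)
    apply isCyclic_of_surjective ψ
    rintro ⟨_, ⟨_, ⟨σ, rfl⟩, rfl⟩⟩
    exact ⟨σ, rfl⟩
  · have := index_le_of_decomp _ 𝒟 Φ Γ hdecomp' hgd hfd L hΓL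
    rw [hLlen] at this
    exact this

end Cfsg.Agent.Lib.Helper18_ChevAutS
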