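import Cfsg.Agent.Lib.Helper18_ChevAutS

set_option autoImplicit false

/-!
Automorphisms of the Chevalley groups over finite fields, twentieth part: the structure of the group of outer
automorphisms for the simply laced data and for the data with two root lengths, and the automorphisms that move a
fundamental root subgroup are not products of inner, diagonal and field automorphisms.
-/

namespace Cfsg.Agent.Lib.Helper18_ChevAutT

open Cfsg Cfsg.Lie Cfsg.Agent.Lib.Helper18_ChevFast Cfsg.Agent.Lib.Helper18_ChevEngine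
  Cfsg.Agent.Lib.Helper18_ChevR1 Cfsg.Agent.Lib.Helper18_ChevN Cfsg.Agent.Lib.Helper18_ChevR4
  Cfsg.Agent.Lib.Helper18_ChevSimple Cfsg.Agent.Lib.Helper18_ChevSimple2 Cfsg.Agent.Lib.Helper18_ChevFacts
  Cfsg.Agent.Lib.Helper18_ChevWeyl Cfsg.Agent.Lib.Helper18_ChevDiag Cfsg.Agent.Lib.Helper18_ChevCar
  Cfsg.Agent.Lib.Helper18_ChevTorus Cfsg.Agent.Lib.Helper18_ChevGL Cfsg.Agent.Lib.Helper18_ChevComm
  Cfsg.Agent.Lib.Helper18_ChevComm2 Cfsg.Agent.Lib.Helper18_MatTri Cfsg.Agent.Lib.Helper18_ChevTri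
  Cfsg.Agent.Lib.Helper18_ChevBorel Cfsg.Agent.Lib.Helper18_ChevAdd Cfsg.Agent.Lib.Helper18_ChevUni
  Cfsg.Agent.Lib.Helper18_ChevBN Cfsg.Agent.Lib.Helper18_ChevMono Cfsg.Agent.Lib.Helper18_ChevBNPair
  Cfsg.Agent.Lib.Helper18_ChevSimp Cfsg.Agent.Lib.Helper18_ChevJCerts Cfsg.Agent.Lib.Helper18_ChevLevi
  Cfsg.Agent.Lib.Helper18_ChevBruhat Cfsg.Agent.Lib.Helper18_ChevPar Cfsg.Agent.Lib.Helper18_ChevRootHom
  Cfsg.Agent.Lib.Helper18_ChevOrder Cfsg.Agent.Lib.Helper18_ChevSylow Cfsg.Agent.Lib.Helper18_ChevCent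
  Cfsg.Agent.Lib.Helper18_ChevFrob Cfsg.Agent.Lib.Helper18_ChevAutA Cfsg.Agent.Lib.Helper18_ChevAutB
  Cfsg.Agent.Lib.Helper18_ChevAutC Cfsg.Agent.Lib.Helper18_ChevAutD Cfsg.Agent.Lib.Helper18_ChevGen
  Cfsg.Agent.Lib.Helper18_ChevField Cfsg.Agent.Lib.Helper18_ChevAutE Cfsg.Agent.Lib.Helper18_ChevAutF
  Cfsg.Agent.Lib.Helper18_ChevAutG Cfsg.Agent.Lib.Helper18_ChevAutH Cfsg.Agent.Lib.Helper18_TorusKer
  Cfsg.Agent.Lib.Helper18_ChevAutI Cfsg.Agent.Lib.Helper18_ChevAutJ Cfsg.Agent.Lib.Helper18_ChevAutK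
  Cfsg.Agent.Lib.Helper18_ChevAutM Cfsg.Agent.Lib.Helper18_ChevHhat Cfsg.Agent.Lib.Helper18_ChevAutP
  Cfsg.Agent.Lib.Helper18_ChevAutQ Cfsg.Agent.Lib.Helper18_OutStruct Cfsg.Agent.Lib.Helper18_ChevAutS

variable {D : ChevalleyDatum} {Ns : List NData} {F : Type*} [Field F]
variable {wl : List ℤ} {ws : List (List ℤ)} {sc : ℤ} {w : List ℤ} {d : ℕ} {w0 : List ℕ}

/-- The conclusion on the structure of the group of outer automorphisms, with a bound for the index. -/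
def OutStructure (D : ChevalleyDatum) (F : Type*) [Field F] (n : ℕ) : Prop :=
  ∀ (Dbar Fbar : Subgroup (Cfsg.Out ↥(D.group F))),
    Dbar = (Subgroup.closure {φ : MulAut ↥(D.group F) | D.IsDiagonalAut φ}).map
      (QuotientGroup.mk' (Cfsg.Inn ↥(D.group F))) →
    Fbar = (Subgroup.closure {φ : MulAut ↥(D.group F) | D.IsFieldAut φ}).map
      (QuotientGroup.mk' (Cfsg.Inn ↥(D.group F))) →
    Dbar.Normal ∧ IsMulCommutative ↥Dbar ∧ IsCyclic ↥Fbar ∧ (Dbar ⊔ Fbar).Normal ∧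
      (Dbar ⊔ Fbar).index ≠ 0 ∧ (Dbar ⊔ Fbar).index ≤ n

/-- The structure of the group of outer automorphisms for a simply laced datum. -/
theorem outStructure_base [Finite F]
    (A : AutBase D Ns wl ws sc w d w0 F) {parC depC : List ℕ} (hconn : ConnCert D parC depC)
    {b0 : ℕ} {hasLong : Bool} {c0 a0 b1 : ℕ} {C : ℤ} {par : List (ℕ × ℕ)} {dep comp : List ℕ}
    (oc : OCert D b0 hasLong c0 a0 b1 C par dep comp) (hcomp : ∀ r < D.nroots, comp.getD r 2 = 0)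
    (hdiv : DivCert D ws sc) (hcons : ChainCons D)
    (hdecomp : ∀ θ : MulAut ↥(D.group F), ∃ (x : ↥(D.group F)) (d g f : ↥(D.group F) ≃* ↥(D.group F)),
      D.IsDiagonalAut d ∧ D.IsGraphAut g ∧ D.IsFieldAut f ∧ ∀ y : ↥(D.group F), θ y = x * d (g (f y)) * x⁻¹)
    (Lτ : List (List ℕ))
    (hcl : ∀ ρ : ℕ → ℕ, (∀ i < D.rank, ρ i < D.rank) → (∀ i < D.rank, ∀ k < D.rank, ρ i = ρ k → i = k) →
      (∀ i < D.rank, ∀ k < D.rank, adjB D (ρ i) (ρ k) = adjB D i k) →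
      ∃ τ ∈ Lτ, ∀ i < D.rank, ρ i = τ.getD i 0) : OutStructure D F Lτ.length := by
  obtain ⟨c, tc, ac, gc, hdesc, hR2, hw, hws, hsl⟩ := A
  have h0 : 0 < D.rank := by have := hconn.1; omega
  intro Dbar Fbar hDbar hFbar
  exact out_structure_of c tc ac hdiv hcons (eq_one_of_fix oc c ac hcomp h0) hdecomp Lτ
    (exists_along_of_isGraphAut c Lτ (fun θ ρ hρ hm => perm_props_of_maps c tc ac hR2 hsl θ ρ hρ hm) hcl)
    Dbar Fbar hDbar hFbar

/-- The structure of the group of outer automorphisms for a datum with two root lengths. -/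
theorem outStructure_base2 [Finite F]
    (A : AutBase2 D Ns wl ws sc w d w0 F)
    {b0 : ℕ} {hasLong : Bool} {c0 a0 b1 : ℕ} {C : ℤ} {par : List (ℕ × ℕ)} {dep comp : List ℕ}
    (oc : OCert D b0 hasLong c0 a0 b1 C par dep comp) (hrep : RepCert D comp)
    (hdiv : DivCert D ws sc) (hcons : ChainCons D)
    (hdecomp : ∀ θ : MulAut ↥(D.group F), ∃ (x : ↥(D.group F)) (d g f : ↥(D.group F) ≃* ↥(D.group F)),
      D.IsDiagonalAut d ∧ D.IsGraphAut g ∧ D.IsFieldAut f ∧ ∀ y : ↥(D.group F), θ y = x * d (g (f y)) * x⁻¹)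
    (Lτ : List (List ℕ))
    (hcl : ∀ ρ : ℕ → ℕ, (∀ i < D.rank, ρ i < D.rank) → (∀ i < D.rank, ∀ k < D.rank, ρ i = ρ k → i = k) →
      (∀ i < D.rank, ∀ k < D.rank, adjB D (ρ i) (ρ k) = adjB D i k) →
      ∃ τ ∈ Lτ, ∀ i < D.rank, ρ i = τ.getD i 0) : OutStructure D F Lτ.length := by
  obtain ⟨c, tc, ac, gc, hdesc, hR2, hw, hws, hhead⟩ := A
  intro Dbar Fbar hDbar hFbar
  exact out_structure_of c tc ac hdiv hcons (eq_one_of_fix' oc c ac hrep) hdecomp Lτ
    (exists_along_of_isGraphAut c Lτ (fun θ ρ hρ hm => perm_props_of_maps' c tc ac hR2 hhead θ ρ hρ hm) hcl)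
    Dbar Fbar hDbar hFbar

/-- The list of the symmetries of a graph with a symmetry of order two. -/
theorem class_flip {k' : ℕ} {τ id' : List ℕ} (horb : OrbitCert D 0 k')
    (hprig : PointedRigid D 0) (hflip : FlipCert D τ) (hτ0 : τ.getD 0 0 = k')
    (hid : ∀ i < D.rank, id'.getD i 0 = i)
    (ρ : ℕ → ℕ) (hρ : ∀ i < D.rank, ρ i < D.rank) (hinj : ∀ i < D.rank, ∀ k < D.rank, ρ i = ρ k → i = k)
    (hadj : ∀ i < D.rank, ∀ k < D.rank, adjB D (ρ i) (ρ k) = adjB D i k) :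
    ∃ τ' ∈ [id', τ], ∀ i < D.rank, ρ i = τ'.getD i 0 := by
  rcases mem_orbit horb ρ hρ hinj hadj with h | h
  · refine ⟨id', by simp, fun i hi => ?_⟩
    rw [hid i hi]
    exact eq_of_pointedRigid hprig ρ hρ hinj hadj h i hi
  · exact ⟨τ, by simp, eq_flip_of_swap horb hprig hflip hτ0 ρ hρ hinj hadj h⟩

/-- The list of the symmetries of a graph without symmetries. -/
theorem class_rigid {id' : List ℕ} (hrig : Rigid D) (hid : ∀ i < D.rank, id'.getD i 0 = i)
    (ρ : ℕ → ℕ) (hρ : ∀ i < D.rank, ρ i < D.rank) (hinj : ∀ i < D.rank, ∀ k < D.rank, ρ i = ρ k → i = k)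
    (hadj : ∀ i < D.rank, ∀ k < D.rank, adjB D (ρ i) (ρ k) = adjB D i k) :
    ∃ τ' ∈ [id'], ∀ i < D.rank, ρ i = τ'.getD i 0 := by
  refine ⟨id', by simp, fun i hi => ?_⟩
  rw [hid i hi]
  exact eq_of_rigid hrig ρ hρ hinj hadj i hi

/-- An automorphism that preserves `U` and `V` and moves a fundamental root subgroup to another one is not, modulo
the inner automorphisms, a product of diagonal and field automorphisms. -/
theorem not_mem_of_moves (c : DCert D Ns) (tc : TCert D) (ac : ACert D wl ws sc) (gc : GCert D w d)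
    (hR2 : R2All D F) (hw : W0Cert D w0) (hdiv : DivCert D ws sc) (hcons : ChainCons D) (hone : FixOne c F)
    (θ₀ : MulAut ↥(D.group F)) (hU : Preserves θ₀ (D.posUnipotent F)) (hV : Preserves θ₀ (D.negUnipotent F))
    {i j : ℕ} (hi : i < D.rank) (hj : j < D.rank) (hij : i ≠ j)
    (hmap : Preserves' θ₀ (D.rootSubgroup F (D.simple i)) (D.rootSubgroup F (D.simple j))) :
    QuotientGroup.mk' (Cfsg.Inn ↥(D.group F)) θ₀ ∉
      (Subgroup.closure {φ : MulAut ↥(D.group F) | D.IsDiagonalAut φ}).map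
        (QuotientGroup.mk' (Cfsg.Inn ↥(D.group F))) ⊔
      (Subgroup.closure {φ : MulAut ↥(D.group F) | D.IsFieldAut φ}).map
        (QuotientGroup.mk' (Cfsg.Inn ↥(D.group F))) := by
  intro hmem
  rw [← Subgroup.map_sup] at hmem
  obtain ⟨m, hm, hmq⟩ := hmem
  -- the automorphisms preserving `U`, `V` and the root subgroup of `p_i`
  let S : Subgroup (MulAut ↥(D.group F)) :=
    { carrier := {θ | Preserves θ (D.posUnipotent F) ∧ Preserves θ (D.negUnipotent F) ∧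
        Preserves θ (D.rootSubgroup F (D.simple i))}
      mul_mem' := fun ha hb => ⟨ha.1.mul hb.1, ha.2.1.mul hb.2.1, ha.2.2.mul hb.2.2⟩
      one_mem' := ⟨fun _ => Iff.rfl, fun _ => Iff.rfl, fun _ => Iff.rfl⟩
      inv_mem' := fun ha => ⟨ha.1.inv, ha.2.1.inv, ha.2.2.inv⟩ }
  have hp := (ac.simple i hi).1
  have hS : (Subgroup.closure {φ : MulAut ↥(D.group F) | D.IsDiagonalAut φ}) ⊔
      (Subgroup.closure {φ : MulAut ↥(D.group F) | D.IsFieldAut φ}) ≤ S := by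
    refine sup_le ?_ ?_
    · rw [Subgroup.closure_le]
      intro φ hφ
      obtain ⟨a, rfl⟩ := (isDiagonalAut_iff c tc ac hdiv hcons hone φ).mp hφ
      rw [diagHom_apply]
      exact ⟨conjAut_preserves_pos c _ _, conjAut_preserves_neg c _ _, diagAut_preserves c tc ac hdiv a _ hp⟩
    · rw [Subgroup.closure_le]
      intro φ hφ
      obtain ⟨σ, rfl⟩ := (isFieldAut_iff c ac hone φ).mp hφ
      exact ⟨fieldAutOf_preserves_closure c σ D.IsPosRoot, fieldAutOf_preserves_closure c σ D.IsNegRoot,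
        fieldAutOf_preserves c σ _⟩
  obtain ⟨hmU, hmV, hmX⟩ := hS hm
  have hq : m⁻¹ * θ₀ ∈ Cfsg.Inn ↥(D.group F) := QuotientGroup.eq.mp hmq
  obtain ⟨x, hx⟩ := hq
  have hxU : Preserves (MulAut.conj x) (D.posUnipotent F) := by
    rw [hx]
    exact hmU.inv.mul hU
  have hxV : Preserves (MulAut.conj x) (D.negUnipotent F) := by
    rw [hx]
    exact hmV.inv.mul hV
  have hxH := mem_diagonal_of_preserves c tc ac gc hR2 hw x hxU hxV
  have hact : ActsAs c ((x : ↥(D.group F)) : GL D.Idx F) id := actsAs_diagonal c tc _ hxH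
  have hxX : Preserves (MulAut.conj x) (D.rootSubgroup F (D.simple i)) := preserves_conj_of_actsAs c x hact _ hp
  have hθ : θ₀ = m * MulAut.conj x := by
    rw [hx]
    group
  have hθX : Preserves θ₀ (D.rootSubgroup F (D.simple i)) := by
    rw [hθ]
    exact hmX.mul hxX
  have h2 := root_eq_of_maps c tc ac θ₀⁻¹ (ac.simple j hj).1 hp (preserves'_inv hmap) (preserves'_inv hθX)
  exact hij (simple_inj tc hj hi h2.symm).symm

end Cfsg.Agent.Lib.Helper18_ChevAutT
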