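import Cfsg.Prelude.Def_ChevStructure

set_option autoImplicit false

namespace Cfsg.Agent.Lib.Helper18_ChevBasic

open Cfsg Cfsg.Lie

variable (D : ChevalleyDatum)

/-- The matrix `x_r(t)` over an arbitrary commutative ring (same formula as `ChevalleyDatum.xMat`). -/
def xMatR (R : Type*) [CommRing R] (r : Fin D.nroots) (t : R) : Matrix D.Idx D.Idx R :=
  Matrix.of fun row col =>
    match col with
    | Sum.inl i =>
      (match row with
       | Sum.inl i' => if i' = i then 1 else 0
       | Sum.inr u => if u = r then - (((D.cartanSR.getD i.val #[]).getD r.val 0 : ℤ) : R) * t else 0)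
    | Sum.inr s =>
      if s = r then (match row with | Sum.inr u => if u = r then 1 else 0 | Sum.inl _ => 0)
      else if s.val = D.negIdx.getD r.val 0 then
        (match row with
         | Sum.inl i => (((D.coroot.getD r.val #[]).getD i.val 0 : ℤ) : R) * t
         | Sum.inr u => if u = s then 1 else if u = r then -(t ^ 2) else 0)
      else
        (match row with
         | Sum.inl _ => 0
         | Sum.inr u => (if u = s then 1 else 0) +
             ((D.chainCoeff r.val s.val u.val).map fun km => ((km.2 : ℤ) : R) * t ^ km.1).sum)

theorem xMat_eq_xMatR (F : Type*) [Field F] (r : Fin D.nroots) (t : F) :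
    D.xMat F r t = xMatR D F r t := rfl

theorem xMatR_map {R S : Type*} [CommRing R] [CommRing S] (f : R →+* S) (r : Fin D.nroots) (t : R) :
    (xMatR D R r t).map f = xMatR D S r (f t) := by
  ext row col
  simp only [Matrix.map_apply, xMatR, Matrix.of_apply]
  rcases col with i | s
  · rcases row with i' | u
    · simp only [apply_ite f, map_one, map_zero]
    · simp only [apply_ite f, map_mul, map_neg, map_intCast, map_zero]
  · by_cases h1 : s = r
    · simp only [h1, if_true]
      rcases row with i' | u
      · simp
      · simp only [apply_ite f, map_one, map_zero]
    · simp only [h1, if_false]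
      by_cases h2 : s.val = D.negIdx.getD r.val 0
      · simp only [h2, if_true]
        rcases row with i' | u
        · simp only [map_mul, map_intCast]
        · simp only [apply_ite f, map_one, map_zero, map_neg, map_pow]
      · simp only [h2, if_false]
        rcases row with i' | u
        · simp
        · simp only [map_add, apply_ite f, map_one, map_zero, map_list_sum, List.map_map]
          congr 2
          apply List.map_congr_left
          intro km _
          simp only [Function.comp, map_mul, map_intCast, map_pow]

theorem xMat_map {F K : Type*} [Field F] [Field K] (f : F →+* K) (r : Fin D.nroots) (t : F) :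
    (D.xMat F r t).map f = D.xMat K r (f t) := by
  rw [xMat_eq_xMatR, xMat_eq_xMatR, xMatR_map]

theorem x_map {F K : Type*} [Field F] [Field K] (f : F →+* K) (r : ℕ) (t : F) :
    (D.x F r t).map f = D.x K r (f t) := by
  unfold ChevalleyDatum.x
  split_ifs with h
  · exact xMat_map D f ⟨r, h⟩ t
  · ext i j
    simp [Matrix.map_apply, Matrix.one_apply, apply_ite f]

end Cfsg.Agent.Lib.Helper18_ChevBasic
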