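import Cfsg.Agent.Lib.Helper18_ChevWeyl

set_option autoImplicit false

/-!
Compatibility of the Cartan integers with the chain tables: the functions `s ↦ c ^ A_{p_i, s}` are characters.
-/

namespace Cfsg.Agent.Lib.Helper18_ChevCar

open Cfsg Cfsg.Lie Cfsg.Agent.Lib.Helper18_ChevFast Cfsg.Agent.Lib.Helper18_ChevEngine
  Cfsg.Agent.Lib.Helper18_ChevR1 Cfsg.Agent.Lib.Helper18_ChevN Cfsg.Agent.Lib.Helper18_ChevR4
  Cfsg.Agent.Lib.Helper18_ChevSimple Cfsg.Agent.Lib.Helper18_ChevSimple2 Cfsg.Agent.Lib.Helper18_ChevFacts
  Cfsg.Agent.Lib.Helper18_ChevWeyl Cfsg.Agent.Lib.Helper18_ChevDiag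

/-- Along a chain entry the vectors of Cartan integers are additive. -/
def chainCarOK (rows : List FRow) (cr cs : List ℤ) : ℕ → List (ℕ × ℤ) → Bool
  | _, [] => true
  | k, (u, _) :: l =>
      decide ((rowAt rows u).car = List.zipWith (fun a b => a + ((k : ℤ) + 1) * b) cs cr) &&
        chainCarOK rows cr cs (k + 1) l

theorem chainCarOK_spec (rows : List FRow) (cr cs : List ℤ) : ∀ (l : List (ℕ × ℤ)) (k : ℕ),
    chainCarOK rows cr cs k l = true → ∀ q ∈ l.zipIdx k,
      (rowAt rows q.1.1).car = List.zipWith (fun a b => a + ((q.2 : ℤ) + 1) * b) cs cr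
  | [], _, _ => by simp
  | (u, M) :: l, k, h => by
    simp only [chainCarOK, Bool.and_eq_true, decide_eq_true_eq] at h
    intro q hq
    rw [List.zipIdx_cons, List.mem_cons] at hq
    rcases hq with rfl | hq
    · exact h.1
    · exact chainCarOK_spec rows cr cs l (k + 1) h.2 q hq

/-- The check for the row with index `r`. -/
def carCompatAt (nroots : ℕ) (rows : List FRow) (r : ℕ) : Bool :=
  match rows[r]? with
  | some R => decide ((rowAt rows R.neg).car = R.car.map (fun a => -a)) &&
      (List.range nroots).all fun s => chainCarOK rows R.car (rowAt rows s).car 0 (lookup R.tbl s)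
  | none => false

/-- The Cartan integers are compatible with negation and with the chains. -/
structure CarCompat (D : ChevalleyDatum) : Prop where
  neg : ∀ s < D.nroots, ∀ i < D.rank, D.cartan i (D.neg s) = - D.cartan i s
  chain : ∀ r s u, r < D.nroots → s < D.nroots → u < D.nroots → ∀ km ∈ D.chainCoeff r s u,
    ∀ i < D.rank, D.cartan i u = D.cartan i s + (km.1 : ℤ) * D.cartan i r

variable {D : ChevalleyDatum}

theorem specRow_car_length (r : ℕ) : (specRow D r).car.length = D.rank := by
  simp [specRow]

theorem carCompat_of_check (hrows : RowsOK D) (hneg : ∀ s < D.nroots, D.neg s < D.nroots)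
    (h : ∀ r < D.nroots, carCompatAt D.nroots (mkRows D) r = true) : CarCompat D := by
  constructor
  · intro s hs i hi
    have hr := h s hs
    unfold carCompatAt at hr
    rw [hrows.getElem? s hs] at hr
    simp only [Bool.and_eq_true, decide_eq_true_eq] at hr
    have h1 := hr.1
    have e : (specRow D s).neg = D.neg s := rfl
    rw [e, rowAt_mkRows hrows _ (hneg s hs)] at h1
    have h2 := congrArg (fun l => l.getD i 0) h1
    rw [specRow_car _ i hi, List.getD_eq_getElem?_getD, List.getElem?_map] at h2
    have hlen : i < (specRow D s).car.length := by rw [specRow_car_length]; exact hi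
    rw [List.getElem?_eq_getElem hlen] at h2
    simp only [Option.map_some, Option.getD_some] at h2
    rw [h2]
    congr 1
    have := specRow_car (D := D) s i hi
    rw [List.getD_eq_getElem?_getD, List.getElem?_eq_getElem hlen] at this
    exact this
  · intro r s u hr hs hu km hkm i hi
    have hR := h r hr
    unfold carCompatAt at hR
    rw [hrows.getElem? r hr] at hR
    simp only [Bool.and_eq_true, decide_eq_true_eq, List.all_eq_true, List.mem_range] at hR
    have h2 := hR.2 s hs
    have hv := hrows.valid r hr
    have et : (specRow D r).tbl = mkTbl (rowOf D r) := rfl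
    have hv' : RowOK (rowOf D r) := hv.rowOK
    rw [et, lookup_mkTbl _ hv', rowAt_mkRows hrows s hs] at h2
    rw [chainCoeff_eq D r s u hv', List.mem_map] at hkm
    obtain ⟨q, hq, rfl⟩ := hkm
    rw [List.mem_filter] at hq
    have hspec := chainCarOK_spec _ _ _ _ 0 h2 q hq.1
    have hq1 : q.1.1 = u := by simpa using hq.2
    rw [hq1, rowAt_mkRows hrows u hu] at hspec
    have h3 := congrArg (fun l => l.getD i 0) hspec
    have hl1 : i < (specRow D s).car.length := by rw [specRow_car_length]; exact hi
    have hl2 : i < (specRow D r).car.length := by rw [specRow_car_length]; exact hi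
    rw [specRow_car _ i hi, List.getD_eq_getElem?_getD, List.getElem?_zipWith,
      List.getElem?_eq_getElem hl1, List.getElem?_eq_getElem hl2] at h3
    simp only [Option.map_some, Option.getD_some, Option.bind_some] at h3
    have e1 := specRow_car (D := D) s i hi
    have e2 := specRow_car (D := D) r i hi
    rw [List.getD_eq_getElem?_getD, List.getElem?_eq_getElem hl1] at e1
    rw [List.getD_eq_getElem?_getD, List.getElem?_eq_getElem hl2] at e2
    simp only [Option.getD_some] at e1 e2
    rw [h3]
    simp only [e1, e2]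
    push_cast
    ring

/-! ### Characters from Cartan integers -/

section

variable {F : Type*} [Field F]

theorem CarCompat.isChar (h : CarCompat D) (i : ℕ) (hi : i < D.rank) (c : F) (hc : c ≠ 0) :
    IsChar D (fun s => c ^ (D.cartan i s)) := by
  constructor
  · intro s hs
    show c ^ (D.cartan i (D.neg s)) * c ^ (D.cartan i s) = 1
    rw [h.neg s hs i hi, zpow_neg, inv_mul_cancel₀ (zpow_ne_zero _ hc)]
  · intro r s u hr hs hu km hkm
    show c ^ (D.cartan i u) = c ^ (D.cartan i s) * (c ^ (D.cartan i r)) ^ km.1
    rw [h.chain r s u hr hs hu km hkm i hi, zpow_add₀ hc, mul_comm (km.1 : ℤ), zpow_mul, zpow_natCast]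

theorem IsChar.zpow {χ : ℕ → F} (hχ : IsChar D χ) (m : ℤ) : IsChar D (fun s => χ s ^ m) := by
  constructor
  · intro s hs
    rw [← mul_zpow, hχ.neg s hs, one_zpow]
  · intro r s u hr hs hu km hkm
    rw [hχ.chain r s u hr hs hu km hkm, mul_zpow, ← zpow_natCast, ← zpow_natCast, ← zpow_mul, ← zpow_mul,
      mul_comm (km.1 : ℤ) m]

theorem isChar_prod (n : ℕ) (χ : ℕ → ℕ → F) (h : ∀ j < n, IsChar D (χ j)) :
    IsChar D (fun s => ∏ j ∈ Finset.range n, χ j s) := by
  induction n with
  | zero => simpa using isChar_one
  | succ n ih =>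
    have h1 := ih (fun j hj => h j (by omega))
    have h2 := h n (by omega)
    have := h1.mul h2
    simpa [Finset.prod_range_succ] using this

/-- The character of the torus element `∏ h_{p_i}(t_i)`. -/
def torusChar (D : ChevalleyDatum) (t : ℕ → F) (s : ℕ) : F := ∏ i ∈ Finset.range D.rank, t i ^ D.cartan i s

theorem CarCompat.isChar_torus (h : CarCompat D) (t : ℕ → F) (ht : ∀ i < D.rank, t i ≠ 0) :
    IsChar D (torusChar D t) :=
  isChar_prod D.rank (fun i s => t i ^ D.cartan i s) (fun i hi => h.isChar i hi (t i) (ht i hi))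

end

end Cfsg.Agent.Lib.Helper18_ChevCar
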