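import Cfsg.Agent.Lib.Helper18_ChevCent
import Cfsg.Prelude.Def_ChevF4
import Cfsg.Prelude.Def_ChevE6
import Cfsg.Prelude.Def_ChevE7
import Cfsg.Prelude.Def_ChevE8

set_option autoImplicit false

/-! The certificates of `Helper18_ChevCent`: the highest roots of E₆, E₇, E₈, F₄ and the highest short root of F₄. -/

namespace Cfsg.Agent.Lib.Helper18_ChevCentCerts

open Cfsg Cfsg.Lie Cfsg.Agent.Lib.Helper18_ChevCent

set_option maxHeartbeats 0 in
set_option maxRecDepth 100000 in
theorem centCertE6 : CentCert chevE6 71 1 0 [15, 29, 32, 34, 35] [] := by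
  decide +kernel

set_option maxHeartbeats 0 in
set_option maxRecDepth 100000 in
theorem centCertE7 : CentCert chevE7 125 0 0 [47, 52, 56, 59, 61, 62] [] := by
  decide +kernel

set_option maxHeartbeats 0 in
set_option maxRecDepth 100000 in
theorem centCertE8 : CentCert chevE8 239 7 0 [77, 98, 104, 109, 113, 116, 118] [] := by
  decide +kernel

set_option maxHeartbeats 0 in
set_option maxRecDepth 100000 in
theorem centCertF4Long : CentCert chevF4 47 3 0 [14, 20, 22] [] := by
  decide +kernel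

/-- The short roots of F₄. -/
def f4Short : List ℕ :=
  [0, 0, 0, 1, 0, 0, 0, 1, 1, 1, 1, 1, 1, 1, 1, 0, 0, 0, 1, 1, 1, 0, 0, 0, 0, 0, 0, 1, 1, 1, 0, 0, 0, 1, 1, 1, 1, 1, 1,
    1, 1, 0, 0, 0, 1, 0, 0, 0]

set_option maxHeartbeats 0 in
set_option maxRecDepth 100000 in
theorem centCertF4Short : CentCert chevF4 44 0 2 [20, 22, 23] f4Short := by
  decide +kernel

end Cfsg.Agent.Lib.Helper18_ChevCentCerts
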