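import Cfsg.Agent.Lib.Helper18_ChevSimple
import Cfsg.Prelude.Def_ChevD4

set_option autoImplicit false

/-! The certificate for the element `n_p` of the fundamental root number 1 of type D4 (kernel computation). -/

namespace Cfsg.Agent.Lib.Helper18_ChevCertD4_1

open Cfsg Cfsg.Lie Cfsg.Agent.Lib.Helper18_ChevFast Cfsg.Agent.Lib.Helper18_ChevEngine
  Cfsg.Agent.Lib.Helper18_ChevR1 Cfsg.Agent.Lib.Helper18_ChevN Cfsg.Agent.Lib.Helper18_ChevR4
  Cfsg.Agent.Lib.Helper18_ChevSimple Cfsg.Agent.Lib.Helper18_ChevChunk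

def N : NData :=
  ⟨1, [-1, 2, -1, -1],
  [1, 0, 2, 3, 5, 4, 6, 10, 11, 14, 7, 8, 15, 16, 9, 12, 13, 17, 19, 18, 20, 21, 23, 22],
  [-1, 1, 1, 1, -1, 1, 1, 1, 1, -1, -1, -1, -1, -1, -1, 1, 1, 1, 1, -1, 1, 1, 1, -1]⟩

set_option maxHeartbeats 0 in
theorem cn_c0 : allRange (cnF chevD4.rank chevD4.nroots (rowAt (mkRows chevD4) (chevD4.simple 1)) (rowAt (mkRows chevD4) (chevD4.neg (chevD4.simple 1))) N) (0 * 48) 48 = true := by decide +kernel

theorem cn : ∀ r < 48, cnF chevD4.rank chevD4.nroots (rowAt (mkRows chevD4) (chevD4.simple 1)) (rowAt (mkRows chevD4) (chevD4.neg (chevD4.simple 1))) N r = true := by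
  intro r hr
  refine all_of_chunks _ 48 1 ?_ r (by omega)
  intro k hk
  interval_cases k
  · exact cn_c0

set_option maxHeartbeats 0 in
theorem r4_c0 : allRange (r4At chevD4.rank chevD4.nroots (mkRows chevD4) N) (0 * 24) 24 = true := by decide +kernel

theorem r4 : ∀ r < 24, r4At chevD4.rank chevD4.nroots (mkRows chevD4) N r = true := by
  intro r hr
  refine all_of_chunks _ 24 1 ?_ r (by omega)
  intro k hk
  interval_cases k
  · exact r4_c0

set_option maxHeartbeats 0 in
theorem cert : NCert chevD4 1 N where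
  hi := by decide
  idx := rfl
  simple_lt := by decide +kernel
  neg_lt := by decide +kernel
  car_eq := by decide +kernel
  small := by decide +kernel
  rank_le := by decide
  cn := cn
  r4 := r4
  pi_eq := by decide +kernel
  eta_pm := by decide +kernel

end Cfsg.Agent.Lib.Helper18_ChevCertD4_1
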