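import Cfsg.Agent.Lib.Helper18_ChevSimple
import Cfsg.Prelude.Def_ChevE6

set_option autoImplicit false

/-! The certificate for the element `n_p` of the fundamental root number 2 of type E6 (kernel computation). -/

namespace Cfsg.Agent.Lib.Helper18_ChevCertE6_2

open Cfsg Cfsg.Lie Cfsg.Agent.Lib.Helper18_ChevFast Cfsg.Agent.Lib.Helper18_ChevEngine
  Cfsg.Agent.Lib.Helper18_ChevR1 Cfsg.Agent.Lib.Helper18_ChevN Cfsg.Agent.Lib.Helper18_ChevR4
  Cfsg.Agent.Lib.Helper18_ChevSimple Cfsg.Agent.Lib.Helper18_ChevChunk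

def N : NData :=
  ⟨2, [-1, 0, 2, -1, 0, 0],
  [0, 1, 5, 6, 7, 2, 3, 4, 8, 9, 10, 11, 12, 13, 15, 14, 16, 17, 18, 22, 23, 24, 19, 20, 21, 25, 30, 31, 32, 42, 26, 27, 28, 33, 34, 35, 36, 37, 38, 43, 44, 45, 29, 39, 40, 41, 46, 50, 51, 52, 47, 48, 49, 53, 54, 55, 57, 56, 58, 59, 60, 61, 62, 63, 67, 68, 69, 64, 65, 66, 70, 71],
  [1, 1, -1, -1, -1, 1, 1, 1, 1, 1, 1, 1, 1, 1, -1, 1, 1, 1, 1, -1, -1, -1, 1, 1, 1, 1, 1, 1, 1, -1, -1, -1, -1, 1, 1, 1, 1, 1, 1, -1, -1, -1, -1, 1, 1, 1, 1, 1, 1, 1, -1, -1, -1, 1, 1, 1, 1, -1, 1, 1, 1, 1, 1, 1, 1, 1, 1, -1, -1, -1, 1, 1]⟩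

set_option maxHeartbeats 0 in
theorem cn_c0 : allRange (cnF chevE6.rank chevE6.nroots (rowAt (mkRows chevE6) (chevE6.simple 2)) (rowAt (mkRows chevE6) (chevE6.neg (chevE6.simple 2))) N) (0 * 72) 72 = true := by decide +kernel

set_option maxHeartbeats 0 in
theorem cn_c1 : allRange (cnF chevE6.rank chevE6.nroots (rowAt (mkRows chevE6) (chevE6.simple 2)) (rowAt (mkRows chevE6) (chevE6.neg (chevE6.simple 2))) N) (1 * 72) 72 = true := by decide +kernel

theorem cn : ∀ r < 144, cnF chevE6.rank chevE6.nroots (rowAt (mkRows chevE6) (chevE6.simple 2)) (rowAt (mkRows chevE6) (chevE6.neg (chevE6.simple 2))) N r = true := by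
  intro r hr
  refine all_of_chunks _ 72 2 ?_ r (by omega)
  intro k hk
  interval_cases k
  · exact cn_c0
  · exact cn_c1

set_option maxHeartbeats 0 in
theorem r4_c0 : allRange (r4At chevE6.rank chevE6.nroots (mkRows chevE6) N) (0 * 36) 36 = true := by decide +kernel

set_option maxHeartbeats 0 in
theorem r4_c1 : allRange (r4At chevE6.rank chevE6.nroots (mkRows chevE6) N) (1 * 36) 36 = true := by decide +kernel

theorem r4 : ∀ r < 72, r4At chevE6.rank chevE6.nroots (mkRows chevE6) N r = true := by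
  intro r hr
  refine all_of_chunks _ 36 2 ?_ r (by omega)
  intro k hk
  interval_cases k
  · exact r4_c0
  · exact r4_c1

set_option maxHeartbeats 0 in
theorem cert : NCert chevE6 2 N where
  hi := by decide
  idx := rfl
  simple_lt := by decide +kernel
  neg_lt := by decide +kernel
  car_eq := by decide +kernel
  small := by decide +kernel
  rank_le := by decide
  cn := cn
  r4 := r4
  pi_eq := by decide +kernel
  eta_pm := by decide +kernel

end Cfsg.Agent.Lib.Helper18_ChevCertE6_2
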