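import Cfsg.Agent.Lib.Helper18_ChevSimple
import Cfsg.Prelude.Def_ChevE7

set_option autoImplicit false

/-! The certificate for the element `n_p` of the fundamental root number 0 of type E7 (kernel computation). -/

namespace Cfsg.Agent.Lib.Helper18_ChevCertE7_0

open Cfsg Cfsg.Lie Cfsg.Agent.Lib.Helper18_ChevFast Cfsg.Agent.Lib.Helper18_ChevEngine
  Cfsg.Agent.Lib.Helper18_ChevR1 Cfsg.Agent.Lib.Helper18_ChevN Cfsg.Agent.Lib.Helper18_ChevR4
  Cfsg.Agent.Lib.Helper18_ChevSimple Cfsg.Agent.Lib.Helper18_ChevChunk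

def N : NData :=
  ⟨0, [2, 0, -1, 0, 0, 0, 0],
  [1, 0, 2, 3, 4, 5, 6, 7, 8, 9, 10, 11, 12, 13, 14, 15, 16, 33, 34, 35, 36, 37, 38, 39, 40, 41, 42, 48, 49, 50, 51, 52, 93, 17, 18, 19, 20, 21, 22, 23, 24, 25, 26, 43, 44, 45, 46, 47, 27, 28, 29, 30, 31, 53, 54, 55, 56, 57, 58, 59, 60, 61, 62, 63, 64, 65, 66, 67, 68, 69, 70, 71, 72, 94, 95, 96, 97, 98, 78, 79, 80, 81, 82, 99, 100, 101, 102, 103, 104, 105, 106, 107, 108, 32, 73, 74, 75, 76, 77, 83, 84, 85, 86, 87, 88, 89, 90, 91, 92, 109, 110, 111, 112, 113, 114, 115, 116, 117, 118, 119, 120, 121, 122, 123, 125, 124],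
  [-1, 1, 1, 1, 1, 1, 1, 1, 1, 1, 1, 1, 1, 1, 1, 1, 1, 1, 1, 1, 1, 1, 1, 1, 1, 1, 1, 1, 1, 1, 1, 1, -1, -1, -1, -1, -1, -1, -1, -1, -1, -1, -1, 1, 1, 1, 1, 1, -1, -1, -1, -1, -1, 1, 1, 1, 1, 1, 1, 1, 1, 1, 1, 1, 1, 1, 1, 1, 1, 1, 1, 1, 1, -1, -1, -1, -1, -1, 1, 1, 1, 1, 1, -1, -1, -1, -1, -1, -1, -1, -1, -1, -1, -1, 1, 1, 1, 1, 1, 1, 1, 1, 1, 1, 1, 1, 1, 1, 1, 1, 1, 1, 1, 1, 1, 1, 1, 1, 1, 1, 1, 1, 1, 1, 1, -1]⟩

set_option maxHeartbeats 0 in
theorem cn_c0 : allRange (cnF chevE7.rank chevE7.nroots (rowAt (mkRows chevE7) (chevE7.simple 0)) (rowAt (mkRows chevE7) (chevE7.neg (chevE7.simple 0))) N) (0 * 63) 63 = true := by decide +kernel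

set_option maxHeartbeats 0 in
theorem cn_c1 : allRange (cnF chevE7.rank chevE7.nroots (rowAt (mkRows chevE7) (chevE7.simple 0)) (rowAt (mkRows chevE7) (chevE7.neg (chevE7.simple 0))) N) (1 * 63) 63 = true := by decide +kernel

set_option maxHeartbeats 0 in
theorem cn_c2 : allRange (cnF chevE7.rank chevE7.nroots (rowAt (mkRows chevE7) (chevE7.simple 0)) (rowAt (mkRows chevE7) (chevE7.neg (chevE7.simple 0))) N) (2 * 63) 63 = true := by decide +kernel

set_option maxHeartbeats 0 in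
theorem cn_c3 : allRange (cnF chevE7.rank chevE7.nroots (rowAt (mkRows chevE7) (chevE7.simple 0)) (rowAt (mkRows chevE7) (chevE7.neg (chevE7.simple 0))) N) (3 * 63) 63 = true := by decide +kernel

theorem cn : ∀ r < 252, cnF chevE7.rank chevE7.nroots (rowAt (mkRows chevE7) (chevE7.simple 0)) (rowAt (mkRows chevE7) (chevE7.neg (chevE7.simple 0))) N r = true := by
  intro r hr
  refine all_of_chunks _ 63 4 ?_ r (by omega)
  intro k hk
  interval_cases k
  · exact cn_c0
  · exact cn_c1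
  · exact cn_c2
  · exact cn_c3

set_option maxHeartbeats 0 in
theorem r4_c0 : allRange (r4At chevE7.rank chevE7.nroots (mkRows chevE7) N) (0 * 21) 21 = true := by decide +kernel

set_option maxHeartbeats 0 in
theorem r4_c1 : allRange (r4At chevE7.rank chevE7.nroots (mkRows chevE7) N) (1 * 21) 21 = true := by decide +kernel

set_option maxHeartbeats 0 in
theorem r4_c2 : allRange (r4At chevE7.rank chevE7.nroots (mkRows chevE7) N) (2 * 21) 21 = true := by decide +kernel

set_option maxHeartbeats 0 in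
theorem r4_c3 : allRange (r4At chevE7.rank chevE7.nroots (mkRows chevE7) N) (3 * 21) 21 = true := by decide +kernel

set_option maxHeartbeats 0 in
theorem r4_c4 : allRange (r4At chevE7.rank chevE7.nroots (mkRows chevE7) N) (4 * 21) 21 = true := by decide +kernel

set_option maxHeartbeats 0 in
theorem r4_c5 : allRange (r4At chevE7.rank chevE7.nroots (mkRows chevE7) N) (5 * 21) 21 = true := by decide +kernel

theorem r4 : ∀ r < 126, r4At chevE7.rank chevE7.nroots (mkRows chevE7) N r = true := by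
  intro r hr
  refine all_of_chunks _ 21 6 ?_ r (by omega)
  intro k hk
  interval_cases k
  · exact r4_c0
  · exact r4_c1
  · exact r4_c2
  · exact r4_c3
  · exact r4_c4
  · exact r4_c5

set_option maxHeartbeats 0 in
theorem cert : NCert chevE7 0 N where
  hi := by decide
  idx := rfl
  simple_lt := by decide +kernel
  neg_lt := by decide +kernel
  car_eq := by decide +kernel
  small := by decide +kernel
  rank_le := by decide
  cn := cn
  r4 := r4
  pi_eq := by decide +kernel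
  eta_pm := by decide +kernel

end Cfsg.Agent.Lib.Helper18_ChevCertE7_0
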