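import Cfsg.Agent.Lib.Helper18_ChevSimple
import Cfsg.Prelude.Def_ChevE8

set_option autoImplicit false

/-! The certificate for the element `n_p` of the fundamental root number 3 of type E8 (kernel computation). -/

namespace Cfsg.Agent.Lib.Helper18_ChevCertE8_3

open Cfsg Cfsg.Lie Cfsg.Agent.Lib.Helper18_ChevFast Cfsg.Agent.Lib.Helper18_ChevEngine
  Cfsg.Agent.Lib.Helper18_ChevR1 Cfsg.Agent.Lib.Helper18_ChevN Cfsg.Agent.Lib.Helper18_ChevR4
  Cfsg.Agent.Lib.Helper18_ChevSimple Cfsg.Agent.Lib.Helper18_ChevChunk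

def N : NData :=
  ⟨3, [0, -1, -1, 2, -1, 0, 0, 0],
  [0, 1, 2, 3, 5, 4, 6, 7, 9, 8, 10, 11, 12, 13, 14, 16, 15, 17, 18, 19, 20, 21, 26, 27, 28, 29, 22, 23, 24, 25, 30, 31, 32, 33, 34, 35, 36, 37, 38, 39, 46, 47, 48, 49, 50, 51, 40, 41, 42, 43, 44, 45, 52, 53, 54, 55, 56, 57, 58, 59, 60, 61, 66, 67, 68, 69, 62, 63, 64, 65, 70, 71, 72, 73, 74, 76, 75, 77, 78, 79, 80, 81, 82, 83, 88, 89, 90, 91, 84, 85, 86, 87, 92, 93, 94, 95, 96, 98, 97, 99, 100, 101, 102, 104, 103, 110, 111, 112, 113, 130, 105, 106, 107, 108, 114, 115, 116, 117, 118, 119, 120, 121, 122, 123, 124, 125, 131, 132, 133, 134, 109, 126, 127, 128, 129, 136, 135, 137, 138, 139, 140, 142, 141, 143, 144, 145, 146, 147, 152, 153, 154, 155, 148, 149, 150, 151, 156, 157, 158, 159, 160, 161, 162, 164, 163, 165, 166, 167, 168, 169, 174, 175, 176, 177, 170, 171, 172, 173, 178, 179, 180, 181, 182, 183, 184, 185, 186, 187, 194, 195, 196, 197, 198, 199, 188, 189, 190, 191, 192, 193, 200, 201, 202, 203, 204,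 205, 206, 207, 208, 209, 214, 215, 216, 217, 210, 211, 212, 213, 218, 219, 220, 221, 222, 224, 223, 225, 226, 227, 228, 229, 231, 230, 232, 233, 235, 234, 236, 237, 238, 239],
  [1, 1, 1, 1, -1, 1, 1, 1, -1, 1, 1, 1, 1, 1, 1, -1, 1, 1, 1, 1, 1, 1, -1, -1, -1, -1, 1, 1, 1, 1, 1, 1, 1, 1, 1, 1, 1, 1, 1, 1, -1, -1, -1, -1, -1, -1, 1, 1, 1, 1, 1, 1, 1, 1, 1, 1, 1, 1, 1, 1, 1, 1, -1, -1, -1, -1, 1, 1, 1, 1, 1, 1, 1, 1, 1, -1, 1, 1, 1, 1, 1, 1, 1, 1, -1, -1, -1, -1, 1, 1, 1, 1, 1, 1, 1, 1, 1, -1, 1, 1, 1, 1, 1, -1, 1, 1, 1, 1, 1, -1, -1, -1, -1, -1, 1, 1, 1, 1, 1, 1, 1, 1, 1, 1, 1, 1, -1, -1, -1, -1, -1, 1, 1, 1, 1, 1, -1, 1, 1, 1, 1, 1, -1, 1, 1, 1, 1, 1, 1, 1, 1, 1, -1, -1, -1, -1, 1, 1, 1, 1, 1, 1, 1, 1, -1, 1, 1, 1, 1, 1, 1, 1, 1, 1, -1, -1, -1, -1, 1, 1, 1, 1, 1, 1, 1, 1, 1, 1, 1, 1, 1, 1, 1, 1, -1, -1, -1, -1, -1, -1, 1, 1, 1, 1, 1, 1, 1, 1, 1, 1, 1, 1, 1, 1, -1, -1, -1, -1, 1, 1, 1, 1, 1, 1, -1, 1, 1, 1, 1, 1, 1, -1, 1, 1, 1, -1, 1, 1, 1, 1]⟩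

set_option maxHeartbeats 0 in
theorem cn_c0 : allRange (cnF chevE8.rank chevE8.nroots (rowAt (mkRows chevE8) (chevE8.simple 3)) (rowAt (mkRows chevE8) (chevE8.neg (chevE8.simple 3))) N) (0 * 60) 60 = true := by decide +kernel

set_option maxHeartbeats 0 in
theorem cn_c1 : allRange (cnF chevE8.rank chevE8.nroots (rowAt (mkRows chevE8) (chevE8.simple 3)) (rowAt (mkRows chevE8) (chevE8.neg (chevE8.simple 3))) N) (1 * 60) 60 = true := by decide +kernel

set_option maxHeartbeats 0 in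
theorem cn_c2 : allRange (cnF chevE8.rank chevE8.nroots (rowAt (mkRows chevE8) (chevE8.simple 3)) (rowAt (mkRows chevE8) (chevE8.neg (chevE8.simple 3))) N) (2 * 60) 60 = true := by decide +kernel

set_option maxHeartbeats 0 in
theorem cn_c3 : allRange (cnF chevE8.rank chevE8.nroots (rowAt (mkRows chevE8) (chevE8.simple 3)) (rowAt (mkRows chevE8) (chevE8.neg (chevE8.simple 3))) N) (3 * 60) 60 = true := by decide +kernel

set_option maxHeartbeats 0 in
theorem cn_c4 : allRange (cnF chevE8.rank chevE8.nroots (rowAt (mkRows chevE8) (chevE8.simple 3)) (rowAt (mkRows chevE8) (chevE8.neg (chevE8.simple 3))) N) (4 * 60) 60 = true := by decide +kernel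

set_option maxHeartbeats 0 in
theorem cn_c5 : allRange (cnF chevE8.rank chevE8.nroots (rowAt (mkRows chevE8) (chevE8.simple 3)) (rowAt (mkRows chevE8) (chevE8.neg (chevE8.simple 3))) N) (5 * 60) 60 = true := by decide +kernel

set_option maxHeartbeats 0 in
theorem cn_c6 : allRange (cnF chevE8.rank chevE8.nroots (rowAt (mkRows chevE8) (chevE8.simple 3)) (rowAt (mkRows chevE8) (chevE8.neg (chevE8.simple 3))) N) (6 * 60) 60 = true := by decide +kernel

set_option maxHeartbeats 0 in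
theorem cn_c7 : allRange (cnF chevE8.rank chevE8.nroots (rowAt (mkRows chevE8) (chevE8.simple 3)) (rowAt (mkRows chevE8) (chevE8.neg (chevE8.simple 3))) N) (7 * 60) 60 = true := by decide +kernel

theorem cn : ∀ r < 480, cnF chevE8.rank chevE8.nroots (rowAt (mkRows chevE8) (chevE8.simple 3)) (rowAt (mkRows chevE8) (chevE8.neg (chevE8.simple 3))) N r = true := by
  intro r hr
  refine all_of_chunks _ 60 8 ?_ r (by omega)
  intro k hk
  interval_cases k
  · exact cn_c0
  · exact cn_c1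
  · exact cn_c2
  · exact cn_c3
  · exact cn_c4
  · exact cn_c5
  · exact cn_c6
  · exact cn_c7

set_option maxHeartbeats 0 in
theorem r4_c0 : allRange (r4At chevE8.rank chevE8.nroots (mkRows chevE8) N) (0 * 15) 15 = true := by decide +kernel

set_option maxHeartbeats 0 in
theorem r4_c1 : allRange (r4At chevE8.rank chevE8.nroots (mkRows chevE8) N) (1 * 15) 15 = true := by decide +kernel

set_option maxHeartbeats 0 in
theorem r4_c2 : allRange (r4At chevE8.rank chevE8.nroots (mkRows chevE8) N) (2 * 15) 15 = true := by decide +kernel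

set_option maxHeartbeats 0 in
theorem r4_c3 : allRange (r4At chevE8.rank chevE8.nroots (mkRows chevE8) N) (3 * 15) 15 = true := by decide +kernel

set_option maxHeartbeats 0 in
theorem r4_c4 : allRange (r4At chevE8.rank chevE8.nroots (mkRows chevE8) N) (4 * 15) 15 = true := by decide +kernel

set_option maxHeartbeats 0 in
theorem r4_c5 : allRange (r4At chevE8.rank chevE8.nroots (mkRows chevE8) N) (5 * 15) 15 = true := by decide +kernel

set_option maxHeartbeats 0 in
theorem r4_c6 : allRange (r4At chevE8.rank chevE8.nroots (mkRows chevE8) N) (6 * 15) 15 = true := by decide +kernel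

set_option maxHeartbeats 0 in
theorem r4_c7 : allRange (r4At chevE8.rank chevE8.nroots (mkRows chevE8) N) (7 * 15) 15 = true := by decide +kernel

set_option maxHeartbeats 0 in
theorem r4_c8 : allRange (r4At chevE8.rank chevE8.nroots (mkRows chevE8) N) (8 * 15) 15 = true := by decide +kernel

set_option maxHeartbeats 0 in
theorem r4_c9 : allRange (r4At chevE8.rank chevE8.nroots (mkRows chevE8) N) (9 * 15) 15 = true := by decide +kernel

set_option maxHeartbeats 0 in
theorem r4_c10 : allRange (r4At chevE8.rank chevE8.nroots (mkRows chevE8) N) (10 * 15) 15 = true := by decide +kernel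

set_option maxHeartbeats 0 in
theorem r4_c11 : allRange (r4At chevE8.rank chevE8.nroots (mkRows chevE8) N) (11 * 15) 15 = true := by decide +kernel

set_option maxHeartbeats 0 in
theorem r4_c12 : allRange (r4At chevE8.rank chevE8.nroots (mkRows chevE8) N) (12 * 15) 15 = true := by decide +kernel

set_option maxHeartbeats 0 in
theorem r4_c13 : allRange (r4At chevE8.rank chevE8.nroots (mkRows chevE8) N) (13 * 15) 15 = true := by decide +kernel

set_option maxHeartbeats 0 in
theorem r4_c14 : allRange (r4At chevE8.rank chevE8.nroots (mkRows chevE8) N) (14 * 15) 15 = true := by decide +kernel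

set_option maxHeartbeats 0 in
theorem r4_c15 : allRange (r4At chevE8.rank chevE8.nroots (mkRows chevE8) N) (15 * 15) 15 = true := by decide +kernel

theorem r4 : ∀ r < 240, r4At chevE8.rank chevE8.nroots (mkRows chevE8) N r = true := by
  intro r hr
  refine all_of_chunks _ 15 16 ?_ r (by omega)
  intro k hk
  interval_cases k
  · exact r4_c0
  · exact r4_c1
  · exact r4_c2
  · exact r4_c3
  · exact r4_c4
  · exact r4_c5
  · exact r4_c6
  · exact r4_c7
  · exact r4_c8
  · exact r4_c9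
  · exact r4_c10
  · exact r4_c11
  · exact r4_c12
  · exact r4_c13
  · exact r4_c14
  · exact r4_c15

set_option maxHeartbeats 0 in
theorem cert : NCert chevE8 3 N where
  hi := by decide
  idx := rfl
  simple_lt := by decide +kernel
  neg_lt := by decide +kernel
  car_eq := by decide +kernel
  small := by decide +kernel
  rank_le := by decide
  cn := cn
  r4 := r4
  pi_eq := by decide +kernel
  eta_pm := by decide +kernel

end Cfsg.Agent.Lib.Helper18_ChevCertE8_3
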