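import Cfsg.Agent.Lib.Helper18_ChevSimple
import Cfsg.Prelude.Def_ChevB2

set_option autoImplicit false

/-! The chain tables of the datum of type B2 are well formed (kernel computation). -/

namespace Cfsg.Agent.Lib.Helper18_ChevRowsB2

open Cfsg Cfsg.Lie Cfsg.Agent.Lib.Helper18_ChevFast Cfsg.Agent.Lib.Helper18_ChevEngine
  Cfsg.Agent.Lib.Helper18_ChevR1 Cfsg.Agent.Lib.Helper18_ChevN Cfsg.Agent.Lib.Helper18_ChevR4
  Cfsg.Agent.Lib.Helper18_ChevSimple Cfsg.Agent.Lib.Helper18_ChevChunk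

set_option maxHeartbeats 0 in
theorem rowsAt_c0 : allRange (rowOKAt chevB2) (0 * 8) 8 = true := by decide +kernel

theorem rowsAt : ∀ r < 8, rowOKAt chevB2 r = true := by
  intro r hr
  refine all_of_chunks _ 8 1 ?_ r (by omega)
  intro k hk
  interval_cases k
  · exact rowsAt_c0

theorem rowsOK : RowsOK chevB2 :=
  rowsOK_of_rowOKAt chevB2 (by decide +kernel) rowsAt

end Cfsg.Agent.Lib.Helper18_ChevRowsB2
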