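import Cfsg.Agent.Lib.Helper18_ChevSimple
import Cfsg.Prelude.Def_ChevD4

set_option autoImplicit false

/-! The chain tables of the datum of type D4 are well formed (kernel computation). -/

namespace Cfsg.Agent.Lib.Helper18_ChevRowsD4

open Cfsg Cfsg.Lie Cfsg.Agent.Lib.Helper18_ChevFast Cfsg.Agent.Lib.Helper18_ChevEngine
  Cfsg.Agent.Lib.Helper18_ChevR1 Cfsg.Agent.Lib.Helper18_ChevN Cfsg.Agent.Lib.Helper18_ChevR4
  Cfsg.Agent.Lib.Helper18_ChevSimple Cfsg.Agent.Lib.Helper18_ChevChunk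

set_option maxHeartbeats 0 in
theorem rowsAt_c0 : allRange (rowOKAt chevD4) (0 * 24) 24 = true := by decide +kernel

theorem rowsAt : ∀ r < 24, rowOKAt chevD4 r = true := by
  intro r hr
  refine all_of_chunks _ 24 1 ?_ r (by omega)
  intro k hk
  interval_cases k
  · exact rowsAt_c0

theorem rowsOK : RowsOK chevD4 :=
  rowsOK_of_rowOKAt chevD4 (by decide +kernel) rowsAt

end Cfsg.Agent.Lib.Helper18_ChevRowsD4
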