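import Cfsg.Agent.Lib.Helper18_ChevSimple
import Cfsg.Prelude.Def_ChevE6

set_option autoImplicit false

/-! The chain tables of the datum of type E6 are well formed (kernel computation). -/

namespace Cfsg.Agent.Lib.Helper18_ChevRowsE6

open Cfsg Cfsg.Lie Cfsg.Agent.Lib.Helper18_ChevFast Cfsg.Agent.Lib.Helper18_ChevEngine
  Cfsg.Agent.Lib.Helper18_ChevR1 Cfsg.Agent.Lib.Helper18_ChevN Cfsg.Agent.Lib.Helper18_ChevR4
  Cfsg.Agent.Lib.Helper18_ChevSimple Cfsg.Agent.Lib.Helper18_ChevChunk

set_option maxHeartbeats 0 in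
theorem rowsAt_c0 : allRange (rowOKAt chevE6) (0 * 36) 36 = true := by decide +kernel

set_option maxHeartbeats 0 in
theorem rowsAt_c1 : allRange (rowOKAt chevE6) (1 * 36) 36 = true := by decide +kernel

theorem rowsAt : ∀ r < 72, rowOKAt chevE6 r = true := by
  intro r hr
  refine all_of_chunks _ 36 2 ?_ r (by omega)
  intro k hk
  interval_cases k
  · exact rowsAt_c0
  · exact rowsAt_c1

theorem rowsOK : RowsOK chevE6 :=
  rowsOK_of_rowOKAt chevE6 (by decide +kernel) rowsAt

end Cfsg.Agent.Lib.Helper18_ChevRowsE6
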