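import Cfsg.Agent.Lib.Helper18_ChevSimple
import Cfsg.Prelude.Def_ChevE7

set_option autoImplicit false

/-! The chain tables of the datum of type E7 are well formed (kernel computation). -/

namespace Cfsg.Agent.Lib.Helper18_ChevRowsE7

open Cfsg Cfsg.Lie Cfsg.Agent.Lib.Helper18_ChevFast Cfsg.Agent.Lib.Helper18_ChevEngine
  Cfsg.Agent.Lib.Helper18_ChevR1 Cfsg.Agent.Lib.Helper18_ChevN Cfsg.Agent.Lib.Helper18_ChevR4
  Cfsg.Agent.Lib.Helper18_ChevSimple Cfsg.Agent.Lib.Helper18_ChevChunk

set_option maxHeartbeats 0 in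
theorem rowsAt_c0 : allRange (rowOKAt chevE7) (0 * 21) 21 = true := by decide +kernel

set_option maxHeartbeats 0 in
theorem rowsAt_c1 : allRange (rowOKAt chevE7) (1 * 21) 21 = true := by decide +kernel

set_option maxHeartbeats 0 in
theorem rowsAt_c2 : allRange (rowOKAt chevE7) (2 * 21) 21 = true := by decide +kernel

set_option maxHeartbeats 0 in
theorem rowsAt_c3 : allRange (rowOKAt chevE7) (3 * 21) 21 = true := by decide +kernel

set_option maxHeartbeats 0 in
theorem rowsAt_c4 : allRange (rowOKAt chevE7) (4 * 21) 21 = true := by decide +kernel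

set_option maxHeartbeats 0 in
theorem rowsAt_c5 : allRange (rowOKAt chevE7) (5 * 21) 21 = true := by decide +kernel

theorem rowsAt : ∀ r < 126, rowOKAt chevE7 r = true := by
  intro r hr
  refine all_of_chunks _ 21 6 ?_ r (by omega)
  intro k hk
  interval_cases k
  · exact rowsAt_c0
  · exact rowsAt_c1
  · exact rowsAt_c2
  · exact rowsAt_c3
  · exact rowsAt_c4
  · exact rowsAt_c5

theorem rowsOK : RowsOK chevE7 :=
  rowsOK_of_rowOKAt chevE7 (by decide +kernel) rowsAt

end Cfsg.Agent.Lib.Helper18_ChevRowsE7
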