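import Cfsg.Agent.Lib.Helper18_ChevSimple
import Cfsg.Prelude.Def_ChevE8

set_option autoImplicit false

/-! The chain tables of the datum of type E8 are well formed (kernel computation). -/

namespace Cfsg.Agent.Lib.Helper18_ChevRowsE8

open Cfsg Cfsg.Lie Cfsg.Agent.Lib.Helper18_ChevFast Cfsg.Agent.Lib.Helper18_ChevEngine
  Cfsg.Agent.Lib.Helper18_ChevR1 Cfsg.Agent.Lib.Helper18_ChevN Cfsg.Agent.Lib.Helper18_ChevR4
  Cfsg.Agent.Lib.Helper18_ChevSimple Cfsg.Agent.Lib.Helper18_ChevChunk

set_option maxHeartbeats 0 in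
theorem rowsAt_c0 : allRange (rowOKAt chevE8) (0 * 15) 15 = true := by decide +kernel

set_option maxHeartbeats 0 in
theorem rowsAt_c1 : allRange (rowOKAt chevE8) (1 * 15) 15 = true := by decide +kernel

set_option maxHeartbeats 0 in
theorem rowsAt_c2 : allRange (rowOKAt chevE8) (2 * 15) 15 = true := by decide +kernel

set_option maxHeartbeats 0 in
theorem rowsAt_c3 : allRange (rowOKAt chevE8) (3 * 15) 15 = true := by decide +kernel

set_option maxHeartbeats 0 in
theorem rowsAt_c4 : allRange (rowOKAt chevE8) (4 * 15) 15 = true := by decide +kernel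

set_option maxHeartbeats 0 in
theorem rowsAt_c5 : allRange (rowOKAt chevE8) (5 * 15) 15 = true := by decide +kernel

set_option maxHeartbeats 0 in
theorem rowsAt_c6 : allRange (rowOKAt chevE8) (6 * 15) 15 = true := by decide +kernel

set_option maxHeartbeats 0 in
theorem rowsAt_c7 : allRange (rowOKAt chevE8) (7 * 15) 15 = true := by decide +kernel

set_option maxHeartbeats 0 in
theorem rowsAt_c8 : allRange (rowOKAt chevE8) (8 * 15) 15 = true := by decide +kernel

set_option maxHeartbeats 0 in
theorem rowsAt_c9 : allRange (rowOKAt chevE8) (9 * 15) 15 = true := by decide +kernel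

set_option maxHeartbeats 0 in
theorem rowsAt_c10 : allRange (rowOKAt chevE8) (10 * 15) 15 = true := by decide +kernel

set_option maxHeartbeats 0 in
theorem rowsAt_c11 : allRange (rowOKAt chevE8) (11 * 15) 15 = true := by decide +kernel

set_option maxHeartbeats 0 in
theorem rowsAt_c12 : allRange (rowOKAt chevE8) (12 * 15) 15 = true := by decide +kernel

set_option maxHeartbeats 0 in
theorem rowsAt_c13 : allRange (rowOKAt chevE8) (13 * 15) 15 = true := by decide +kernel

set_option maxHeartbeats 0 in
theorem rowsAt_c14 : allRange (rowOKAt chevE8) (14 * 15) 15 = true := by decide +kernel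

set_option maxHeartbeats 0 in
theorem rowsAt_c15 : allRange (rowOKAt chevE8) (15 * 15) 15 = true := by decide +kernel

theorem rowsAt : ∀ r < 240, rowOKAt chevE8 r = true := by
  intro r hr
  refine all_of_chunks _ 15 16 ?_ r (by omega)
  intro k hk
  interval_cases k
  · exact rowsAt_c0
  · exact rowsAt_c1
  · exact rowsAt_c2
  · exact rowsAt_c3
  · exact rowsAt_c4
  · exact rowsAt_c5
  · exact rowsAt_c6
  · exact rowsAt_c7
  · exact rowsAt_c8
  · exact rowsAt_c9
  · exact rowsAt_c10
  · exact rowsAt_c11
  · exact rowsAt_c12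
  · exact rowsAt_c13
  · exact rowsAt_c14
  · exact rowsAt_c15

theorem rowsOK : RowsOK chevE8 :=
  rowsOK_of_rowOKAt chevE8 (by decide +kernel) rowsAt

end Cfsg.Agent.Lib.Helper18_ChevRowsE8
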