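import Cfsg.Agent.Lib.Helper18_ChevRowsG2
import Cfsg.Agent.Lib.Helper18_ChevCertG2_0
import Cfsg.Agent.Lib.Helper18_ChevCertG2_1
import Cfsg.Agent.Lib.Helper18_ChevRowsB2
import Cfsg.Agent.Lib.Helper18_ChevCertB2_0
import Cfsg.Agent.Lib.Helper18_ChevCertB2_1
import Cfsg.Agent.Lib.Helper18_ChevRowsD4
import Cfsg.Agent.Lib.Helper18_ChevCertD4_0
import Cfsg.Agent.Lib.Helper18_ChevCertD4_1
import Cfsg.Agent.Lib.Helper18_ChevCertD4_2
import Cfsg.Agent.Lib.Helper18_ChevCertD4_3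
import Cfsg.Agent.Lib.Helper18_ChevRowsF4
import Cfsg.Agent.Lib.Helper18_ChevCertF4_0
import Cfsg.Agent.Lib.Helper18_ChevCertF4_1
import Cfsg.Agent.Lib.Helper18_ChevCertF4_2
import Cfsg.Agent.Lib.Helper18_ChevCertF4_3
import Cfsg.Agent.Lib.Helper18_ChevRowsE6
import Cfsg.Agent.Lib.Helper18_ChevCertE6_0
import Cfsg.Agent.Lib.Helper18_ChevCertE6_1
import Cfsg.Agent.Lib.Helper18_ChevCertE6_2
import Cfsg.Agent.Lib.Helper18_ChevCertE6_3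
import Cfsg.Agent.Lib.Helper18_ChevCertE6_4
import Cfsg.Agent.Lib.Helper18_ChevCertE6_5
import Cfsg.Agent.Lib.Helper18_ChevRowsE7
import Cfsg.Agent.Lib.Helper18_ChevCertE7_0
import Cfsg.Agent.Lib.Helper18_ChevCertE7_1
import Cfsg.Agent.Lib.Helper18_ChevCertE7_2
import Cfsg.Agent.Lib.Helper18_ChevCertE7_3
import Cfsg.Agent.Lib.Helper18_ChevCertE7_4
import Cfsg.Agent.Lib.Helper18_ChevCertE7_5
import Cfsg.Agent.Lib.Helper18_ChevCertE7_6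
import Cfsg.Agent.Lib.Helper18_ChevRowsE8
import Cfsg.Agent.Lib.Helper18_ChevCertE8_0
import Cfsg.Agent.Lib.Helper18_ChevCertE8_1
import Cfsg.Agent.Lib.Helper18_ChevCertE8_2
import Cfsg.Agent.Lib.Helper18_ChevCertE8_3
import Cfsg.Agent.Lib.Helper18_ChevCertE8_4
import Cfsg.Agent.Lib.Helper18_ChevCertE8_5
import Cfsg.Agent.Lib.Helper18_ChevCertE8_6
import Cfsg.Agent.Lib.Helper18_ChevCertE8_7

set_option autoImplicit false

/-! All certificates for the seven tabulated data. -/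

namespace Cfsg.Agent.Lib.Helper18_ChevCerts

open Cfsg Cfsg.Lie Cfsg.Agent.Lib.Helper18_ChevFast Cfsg.Agent.Lib.Helper18_ChevEngine
  Cfsg.Agent.Lib.Helper18_ChevR1 Cfsg.Agent.Lib.Helper18_ChevN Cfsg.Agent.Lib.Helper18_ChevR4
  Cfsg.Agent.Lib.Helper18_ChevSimple Cfsg.Agent.Lib.Helper18_ChevChunk

theorem rowsOK_all (D : ChevalleyDatum)
    (hD : D ∈ [chevG2, chevB2, chevD4, chevF4, chevE6, chevE7, chevE8]) : RowsOK D := by
  simp only [List.mem_cons, List.not_mem_nil, or_false] at hD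
  rcases hD with rfl | rfl | rfl | rfl | rfl | rfl | rfl
  · exact Cfsg.Agent.Lib.Helper18_ChevRowsG2.rowsOK
  · exact Cfsg.Agent.Lib.Helper18_ChevRowsB2.rowsOK
  · exact Cfsg.Agent.Lib.Helper18_ChevRowsD4.rowsOK
  · exact Cfsg.Agent.Lib.Helper18_ChevRowsF4.rowsOK
  · exact Cfsg.Agent.Lib.Helper18_ChevRowsE6.rowsOK
  · exact Cfsg.Agent.Lib.Helper18_ChevRowsE7.rowsOK
  · exact Cfsg.Agent.Lib.Helper18_ChevRowsE8.rowsOK

theorem exists_cert (D : ChevalleyDatum)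
    (hD : D ∈ [chevG2, chevB2, chevD4, chevF4, chevE6, chevE7, chevE8]) (i : ℕ) (hi : i < D.rank) :
    ∃ N : NData, NCert D i N := by
  simp only [List.mem_cons, List.not_mem_nil, or_false] at hD
  rcases hD with rfl | rfl | rfl | rfl | rfl | rfl | rfl
  · have hr : chevG2.rank = 2 := rfl
    rw [hr] at hi
    interval_cases i
    · exact ⟨_, Cfsg.Agent.Lib.Helper18_ChevCertG2_0.cert⟩
    · exact ⟨_, Cfsg.Agent.Lib.Helper18_ChevCertG2_1.cert⟩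
  · have hr : chevB2.rank = 2 := rfl
    rw [hr] at hi
    interval_cases i
    · exact ⟨_, Cfsg.Agent.Lib.Helper18_ChevCertB2_0.cert⟩
    · exact ⟨_, Cfsg.Agent.Lib.Helper18_ChevCertB2_1.cert⟩
  · have hr : chevD4.rank = 4 := rfl
    rw [hr] at hi
    interval_cases i
    · exact ⟨_, Cfsg.Agent.Lib.Helper18_ChevCertD4_0.cert⟩
    · exact ⟨_, Cfsg.Agent.Lib.Helper18_ChevCertD4_1.cert⟩
    · exact ⟨_, Cfsg.Agent.Lib.Helper18_ChevCertD4_2.cert⟩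
    · exact ⟨_, Cfsg.Agent.Lib.Helper18_ChevCertD4_3.cert⟩
  · have hr : chevF4.rank = 4 := rfl
    rw [hr] at hi
    interval_cases i
    · exact ⟨_, Cfsg.Agent.Lib.Helper18_ChevCertF4_0.cert⟩
    · exact ⟨_, Cfsg.Agent.Lib.Helper18_ChevCertF4_1.cert⟩
    · exact ⟨_, Cfsg.Agent.Lib.Helper18_ChevCertF4_2.cert⟩
    · exact ⟨_, Cfsg.Agent.Lib.Helper18_ChevCertF4_3.cert⟩
  · have hr : chevE6.rank = 6 := rfl
    rw [hr] at hi
    interval_cases i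
    · exact ⟨_, Cfsg.Agent.Lib.Helper18_ChevCertE6_0.cert⟩
    · exact ⟨_, Cfsg.Agent.Lib.Helper18_ChevCertE6_1.cert⟩
    · exact ⟨_, Cfsg.Agent.Lib.Helper18_ChevCertE6_2.cert⟩
    · exact ⟨_, Cfsg.Agent.Lib.Helper18_ChevCertE6_3.cert⟩
    · exact ⟨_, Cfsg.Agent.Lib.Helper18_ChevCertE6_4.cert⟩
    · exact ⟨_, Cfsg.Agent.Lib.Helper18_ChevCertE6_5.cert⟩
  · have hr : chevE7.rank = 7 := rfl
    rw [hr] at hi
    interval_cases i
    · exact ⟨_, Cfsg.Agent.Lib.Helper18_ChevCertE7_0.cert⟩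
    · exact ⟨_, Cfsg.Agent.Lib.Helper18_ChevCertE7_1.cert⟩
    · exact ⟨_, Cfsg.Agent.Lib.Helper18_ChevCertE7_2.cert⟩
    · exact ⟨_, Cfsg.Agent.Lib.Helper18_ChevCertE7_3.cert⟩
    · exact ⟨_, Cfsg.Agent.Lib.Helper18_ChevCertE7_4.cert⟩
    · exact ⟨_, Cfsg.Agent.Lib.Helper18_ChevCertE7_5.cert⟩
    · exact ⟨_, Cfsg.Agent.Lib.Helper18_ChevCertE7_6.cert⟩
  · have hr : chevE8.rank = 8 := rfl
    rw [hr] at hi
    interval_cases i
    · exact ⟨_, Cfsg.Agent.Lib.Helper18_ChevCertE8_0.cert⟩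
    · exact ⟨_, Cfsg.Agent.Lib.Helper18_ChevCertE8_1.cert⟩
    · exact ⟨_, Cfsg.Agent.Lib.Helper18_ChevCertE8_2.cert⟩
    · exact ⟨_, Cfsg.Agent.Lib.Helper18_ChevCertE8_3.cert⟩
    · exact ⟨_, Cfsg.Agent.Lib.Helper18_ChevCertE8_4.cert⟩
    · exact ⟨_, Cfsg.Agent.Lib.Helper18_ChevCertE8_5.cert⟩
    · exact ⟨_, Cfsg.Agent.Lib.Helper18_ChevCertE8_6.cert⟩
    · exact ⟨_, Cfsg.Agent.Lib.Helper18_ChevCertE8_7.cert⟩

end Cfsg.Agent.Lib.Helper18_ChevCerts
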