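import Cfsg.Agent.Lib.Helper18_ChevEngine

set_option autoImplicit false

/-!
Index-wise (chunkable) versions of the checks of the engine: a check over a range of indices can be split into
several smaller kernel computations.
-/

namespace Cfsg.Agent.Lib.Helper18_ChevChunk

open Cfsg Cfsg.Lie Cfsg.Agent.Lib.Helper18_ChevFast Cfsg.Agent.Lib.Helper18_ChevEngine

/-- `f` holds on the indices `lo, …, lo + len - 1`. -/
def allRange (f : ℕ → Bool) (lo len : ℕ) : Bool := (List.range' lo len).all f

theorem allRange_apply {f : ℕ → Bool} {lo len : ℕ} (h : allRange f lo len = true) {r : ℕ} (h1 : lo ≤ r)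
    (h2 : r < lo + len) : f r = true := by
  unfold allRange at h
  rw [List.all_eq_true] at h
  apply h
  rw [List.mem_range'_1]
  exact ⟨h1, h2⟩

/-- A check on `[0, m * L)` from checks on `m` chunks of length `L`. -/
theorem all_of_chunks (f : ℕ → Bool) (L m : ℕ) (h : ∀ k < m, allRange f (k * L) L = true) (r : ℕ)
    (hr : r < m * L) : f r = true := by
  have hL : 0 < L := by
    rcases Nat.eq_zero_or_pos L with h0 | h0
    · rw [h0, Nat.mul_zero] at hr; omega
    · exact h0
  have hk : r / L < m := by
    rw [Nat.div_lt_iff_lt_mul hL]; exact hr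
  apply allRange_apply (h (r / L) hk)
  · exact Nat.div_mul_le_self r L
  · have := Nat.lt_div_mul_add (a := r) hL
    omega

/-! ### Column-wise comparison of oracles -/

/-- The oracles `f` and `g` agree on the coordinate with key `k`. -/
def colEqAt (f g : Term → SVec) (k : ℕ) : Bool := isZero (f ⟨k, 1, 0, 0⟩ ++ negVec (g ⟨k, 1, 0, 0⟩))

theorem eq_of_colEqAt {D : ChevalleyDatum} {F : Type*} [Field F] {t u : Fˣ} {f g : Term → SVec}
    {M N : Matrix D.Idx D.Idx F} (hf : IsOracle D t u f M) (hg : IsOracle D t u g N)
    (hle : D.rank ≤ D.nroots) (h : ∀ k < 2 * D.nroots, colEqAt f g k = true) : M = N := by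
  apply Matrix.ext_of_mulVec_single
  intro col
  have hk : keyOf D col < 2 * D.nroots := by
    rcases col with i | s
    · rw [keyOf_inl]; have := i.isLt; omega
    · rw [keyOf_inr]; have := s.isLt; omega
  have h1 := sem_eq_of_isZero D t u _ _ (h _ hk)
  have hs : sem D t u [⟨keyOf D col, 1, 0, 0⟩] = (Pi.single col 1 : D.Idx → F) := by
    rw [sem_single_eq_pi_single D t u _ col rfl]
    simp [Term.eval, monoVal_zero]
  rw [hf _, hg _, hs] at h1
  exact h1

/-! ### Row data, row by row -/

/-- The fast row with index `r` agrees with the specification and the row `chain[r]` is well formed. -/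
def rowOKAt (D : ChevalleyDatum) (r : ℕ) : Bool :=
  decide ((mkRows D)[r]? = some (specRow D r)) && decide (RowOKFrom 0 (rowOf D r))

theorem rowsOK_of_rowOKAt (D : ChevalleyDatum) (hlen : (mkRows D).length = D.nroots)
    (h : ∀ r < D.nroots, rowOKAt D r = true) : RowsOK D := by
  constructor
  · apply List.ext_getElem?
    intro r
    by_cases hr : r < D.nroots
    · have := h r hr
      unfold rowOKAt at this
      rw [Bool.and_eq_true, decide_eq_true_eq] at this
      rw [this.1, List.getElem?_map, List.getElem?_range hr]
      rfl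
    · rw [List.getElem?_eq_none (by omega), List.getElem?_eq_none (by simp; omega)]
  · intro r hr
    have := h r hr
    unfold rowOKAt at this
    rw [Bool.and_eq_true, decide_eq_true_eq, decide_eq_true_eq] at this
    exact this.2

end Cfsg.Agent.Lib.Helper18_ChevChunk
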