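import Cfsg.Agent.Lib.Helper18_ChevGL

set_option autoImplicit false

/-!
The right-hand side of the commutator formula, abstracted over the function that reads chain entries, and the
transport of the commutator formula along the elements `n_p`.
-/

namespace Cfsg.Agent.Lib.Helper18_ChevComm

open Cfsg Cfsg.Lie Cfsg.Agent.Lib.Helper18_ChevFast Cfsg.Agent.Lib.Helper18_ChevEngine
  Cfsg.Agent.Lib.Helper18_ChevR1 Cfsg.Agent.Lib.Helper18_ChevN Cfsg.Agent.Lib.Helper18_ChevR4
  Cfsg.Agent.Lib.Helper18_ChevSimple Cfsg.Agent.Lib.Helper18_ChevSimple2 Cfsg.Agent.Lib.Helper18_ChevFacts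
  Cfsg.Agent.Lib.Helper18_ChevWeyl Cfsg.Agent.Lib.Helper18_ChevDiag Cfsg.Agent.Lib.Helper18_ChevCar
  Cfsg.Agent.Lib.Helper18_ChevTorus Cfsg.Agent.Lib.Helper18_ChevGL

/-! ### Generic commutator terms -/

def chainRootG (E : ℕ → ℕ → List (ℕ × ℤ)) (r s i : ℕ) : Option ℕ := ((E r s)[i - 1]?).map Prod.fst

def chainMG (E : ℕ → ℕ → List (ℕ × ℤ)) (r s i : ℕ) : ℤ := (((E r s)[i - 1]?).map Prod.snd).getD 0

/-- The terms of the commutator formula, reading chain entries through `E`. -/
def commTermsG (E : ℕ → ℕ → List (ℕ × ℤ)) (r s : ℕ) : List (ℕ × ℤ × ℕ × ℕ) :=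
  let rs := chainRootG E r s 1
  let cands : List (Option ℕ × ℤ × ℕ × ℕ) :=
    [ (chainRootG E r s 1, chainMG E r s 1, 1, 1),
      (chainRootG E r s 2, chainMG E r s 2, 2, 1),
      (chainRootG E s r 2, chainMG E s r 2, 1, 2),
      (chainRootG E r s 3, chainMG E r s 3, 3, 1),
      (chainRootG E s r 3, - chainMG E s r 3, 1, 3),
      ((chainRootG E r s 3).bind fun k => chainRootG E k s 1, (rs.map fun k => chainMG E k r 2 / 3).getD 0, 3, 2),
      ((chainRootG E s r 3).bind fun k => chainRootG E k r 1, (rs.map fun k => -2 * chainMG E k s 2 / 3).getD 0, 2, 3) ]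
  cands.filterMap fun c => c.1.map fun k => (k, c.2)

theorem commTerms_eq (D : ChevalleyDatum) (r s : ℕ) : D.commTerms r s = commTermsG D.chainEntry r s := rfl

theorem commTermsG_congr {E E' : ℕ → ℕ → List (ℕ × ℤ)} (h : ∀ a b, E a b = E' a b) (r s : ℕ) :
    commTermsG E r s = commTermsG E' r s := by
  have : E = E' := funext fun a => funext fun b => h a b
  rw [this]

/-- The exponents in the commutator terms are positive. -/
theorem commTermsG_pos (E : ℕ → ℕ → List (ℕ × ℤ)) (r s : ℕ) :
    ∀ c ∈ commTermsG E r s, 1 ≤ c.2.2.1 ∧ 1 ≤ c.2.2.2 := by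
  intro c hc
  unfold commTermsG at hc
  simp only [List.mem_filterMap, List.mem_cons, List.not_mem_nil, or_false, Option.map_eq_some_iff] at hc
  obtain ⟨cand, hcand, k, _, rfl⟩ := hc
  rcases hcand with rfl | rfl | rfl | rfl | rfl | rfl | rfl <;> simp

/-- Reading the chain entry through the packed tables. -/
theorem chainEntry_eq_entryOf (D : ChevalleyDatum) (a b : ℕ) : D.chainEntry a b = entryOf (rowOf D a) b := by
  unfold ChevalleyDatum.chainEntry rowOf
  generalize (D.chain.getD a #[]).toList = L
  induction L with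
  | nil => rfl
  | cons e L ih =>
    by_cases h : e.1 = b
    · simp [entryOf, h]
    · simp only [List.map_cons, entryOf, List.find?_cons, h, decide_false, if_false]
      exact ih

theorem lookup_zero (b : ℕ) : lookup 0 b = [] := by
  unfold lookup
  simp [decode3]

theorem chainEntry_eq_lookup {D : ChevalleyDatum} (hrows : RowsOK D) (hsz : D.chain.size = D.nroots) (a b : ℕ) :
    D.chainEntry a b = lookup (rowAt (mkRows D) a).tbl b := by
  by_cases ha : a < D.nroots
  · rw [rowAt_mkRows hrows a ha, chainEntry_eq_entryOf]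
    have hv := hrows.valid a ha
    have et : (specRow D a).tbl = mkTbl (rowOf D a) := rfl
    have hv' : RowOK (rowOf D a) := hv.rowOK
    rw [et, lookup_mkTbl _ hv']
  · have hlen : (mkRows D).length = D.nroots := by rw [hrows.1]; simp
    have h1 : rowAt (mkRows D) a = dummyRow := by
      unfold rowAt
      rw [List.getD_eq_getElem?_getD, List.getElem?_eq_none (by omega)]
      rfl
    rw [h1]
    have h2 : dummyRow.tbl = 0 := rfl
    rw [h2, lookup_zero, chainEntry_eq_entryOf]
    have h3 : D.chain.getD a #[] = #[] := by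
      rw [Array.getD_eq_getD_getElem?, Array.getElem?_eq_none (by omega)]
      rfl
    unfold rowOf
    rw [h3]
    rfl

/-! ### Transport of the commutator formula -/

/-- The commutator formula for the pair `(r, s)`. -/
def R2At (D : ChevalleyDatum) (F : Type*) [Field F] (r s : ℕ) : Prop :=
  ∀ t u : F, D.x F s u * D.x F r t = D.x F r t * D.x F s u * D.wordMat F (D.commWord F r s t u)

/-- The parameters of the word of a list of commutator terms. -/
def termWord {F : Type*} [Field F] (t u : F) (L : List (ℕ × ℤ × ℕ × ℕ)) : List (ℕ × F) :=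
  L.map fun c => (c.1, (c.2.1 : F) * (-t) ^ c.2.2.1 * u ^ c.2.2.2)

theorem commWord_eq (D : ChevalleyDatum) {F : Type*} [Field F] (r s : ℕ) (t u : F) :
    D.commWord F r s t u = termWord t u (D.commTerms r s) := rfl

/-- Compatibility of two lists of commutator terms under a reflection. -/
def compatTerms (nroots : ℕ) (T : NPack) (er es : ℤ) :
    List (ℕ × ℤ × ℕ × ℕ) → List (ℕ × ℤ × ℕ × ℕ) → Bool
  | [], [] => true
  | (k, C, i, j) :: l, (k', C', i', j') :: l' =>
      decide (k < nroots) && decide (k' = piAt T k) && decide (i' = i) && decide (j' = j) &&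
        decide (C' * er ^ i * es ^ j = etaAt T k * C) && compatTerms nroots T er es l l'
  | [], _ :: _ => false
  | _ :: _, [] => false

section

variable {D : ChevalleyDatum} {Ns : List NData} {F : Type*} [Field F]

theorem wordMat_cons (p : ℕ × F) (w : List (ℕ × F)) : D.wordMat F (p :: w) = D.x F p.1 p.2 * D.wordMat F w := by
  unfold ChevalleyDatum.wordMat
  rw [List.map_cons, List.prod_cons]

theorem wordMat_nil : D.wordMat F ([] : List (ℕ × F)) = 1 := by
  unfold ChevalleyDatum.wordMat
  simp

theorem pow_mul_self_eq_one {a : F} (h : a * a = 1) (n : ℕ) : a ^ n * a ^ n = 1 := by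
  rw [← mul_pow, h, one_pow]

/-- Conjugating the word of a list of terms by `n_i`. -/
theorem conj_termWord (c : DCert D Ns) (i : ℕ) (hi : i < D.rank) (er es : ℤ) (her : er = 1 ∨ er = -1)
    (hes : es = 1 ∨ es = -1) (t' u' : F) :
    ∀ (L L' : List (ℕ × ℤ × ℕ × ℕ)),
      compatTerms D.nroots (mkNPack (Ns.getD i dummyN)) er es L L' = true →
      D.nMat F (D.simple i) 1 * D.wordMat F (termWord ((er : F) * t') ((es : F) * u') L) *
        D.nMat F (D.simple i) (-1) = D.wordMat F (termWord t' u' L')
  | [], [], _ => by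
    simp only [termWord, List.map_nil, wordMat_nil, mul_one]
    exact c.n_mul i hi
  | [], _ :: _, h => by simp [compatTerms] at h
  | _ :: _, [], h => by simp [compatTerms] at h
  | (k, C, a, b) :: L, (k', C', a', b') :: L', h => by
    simp only [compatTerms, Bool.and_eq_true, decide_eq_true_eq] at h
    obtain ⟨⟨⟨⟨⟨hk, hk'⟩, ha⟩, hb⟩, hC⟩, hrest⟩ := h
    have ih := conj_termWord c i hi er es her hes t' u' L L' hrest
    have hN := (c.ncert i hi).small
    rw [piAt_eq D.nroots _ hN, (c.ncert i hi).pi_getD k hk] at hk'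
    rw [etaAt_eq D.nroots _ hN k hk] at hC
    rw [ha, hb, hk']
    have hn' := c.mul_n (F := F) i hi
    have e1 : termWord ((er : F) * t') ((es : F) * u') ((k, C, a, b) :: L) =
        (k, (C : F) * (-((er : F) * t')) ^ a * ((es : F) * u') ^ b) ::
          termWord ((er : F) * t') ((es : F) * u') L := rfl
    have e2 : termWord t' u' ((D.reflectRoot i k, C', a, b) :: L') =
        (D.reflectRoot i k, (C' : F) * (-t') ^ a * u' ^ b) :: termWord t' u' L' := rfl
    rw [e1, e2, wordMat_cons, wordMat_cons, ← ih]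
    have hr4 := c.r4 (F := F) i hi k hk ((C : F) * (-((er : F) * t')) ^ a * ((es : F) * u') ^ b)
    have hC' : ((C' : ℤ) : F) * (er : F) ^ a * (es : F) ^ b = ((etaZ Ns i k : ℤ) : F) * (C : F) := by
      have := congrArg (Int.cast (R := F)) hC
      push_cast at this
      exact this
    have hA := pow_mul_self_eq_one (eta_cast_sq (F := F) her) a
    have hB := pow_mul_self_eq_one (eta_cast_sq (F := F) hes) b
    have hpar : ((etaZ Ns i k : ℤ) : F) * ((C : F) * (-((er : F) * t')) ^ a * ((es : F) * u') ^ b) =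
        (C' : F) * (-t') ^ a * u' ^ b := by
      have e3 : (-((er : F) * t')) ^ a = (er : F) ^ a * (-t') ^ a := by
        rw [← mul_pow]; congr 1; ring
      rw [e3, mul_pow]
      linear_combination (-((er : F) ^ a * (es : F) ^ b * (-t') ^ a * u' ^ b)) * hC' +
        ((C' : F) * (es : F) ^ b * (es : F) ^ b * (-t') ^ a * u' ^ b) * hA + ((C' : F) * (-t') ^ a * u' ^ b) * hB
    rw [hpar] at hr4
    simp only
    calc D.nMat F (D.simple i) 1 * (D.x F k ((C : F) * (-((er : F) * t')) ^ a * ((es : F) * u') ^ b) *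
          D.wordMat F (termWord ((er : F) * t') ((es : F) * u') L)) * D.nMat F (D.simple i) (-1)
        = (D.nMat F (D.simple i) 1 * D.x F k ((C : F) * (-((er : F) * t')) ^ a * ((es : F) * u') ^ b)) *
          D.wordMat F (termWord ((er : F) * t') ((es : F) * u') L) * D.nMat F (D.simple i) (-1) := by
            simp only [mul_assoc]
      _ = D.x F (D.reflectRoot i k) ((C' : F) * (-t') ^ a * u' ^ b) * (D.nMat F (D.simple i) 1 *
          D.wordMat F (termWord ((er : F) * t') ((es : F) * u') L) * D.nMat F (D.simple i) (-1)) := by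
            rw [hr4]; simp only [mul_assoc]

/-- Transport of the commutator formula from `(r, s)` to `(w_i r, w_i s)`. -/
theorem R2At.transport (c : DCert D Ns) (i : ℕ) (hi : i < D.rank) (r s : ℕ) (hr : r < D.nroots)
    (hs : s < D.nroots)
    (hcompat : compatTerms D.nroots (mkNPack (Ns.getD i dummyN)) (etaZ Ns i r) (etaZ Ns i s)
      (D.commTerms r s) (D.commTerms (D.reflectRoot i r) (D.reflectRoot i s)) = true)
    (h : R2At D F r s) : R2At D F (D.reflectRoot i r) (D.reflectRoot i s) := by
  intro t' u'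
  have her := c.etaZ_pm i hi r hr
  have hes := c.etaZ_pm i hi s hs
  have hn := c.n_mul (F := F) i hi
  have hn' := c.mul_n (F := F) i hi
  have hxr := conj_x hn (eta_cast_sq (F := F) her) (c.r4 i hi r hr) t'
  have hxs := conj_x hn (eta_cast_sq (F := F) hes) (c.r4 i hi s hs) u'
  have hw := conj_termWord c i hi _ _ her hes t' u' _ _ hcompat
  rw [commWord_eq, ← hw, hxr, hxs]
  have key := h (((etaZ Ns i r : ℤ) : F) * t') (((etaZ Ns i s : ℤ) : F) * u')
  rw [commWord_eq] at key
  set n := D.nMat F (D.simple i) 1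
  set n' := D.nMat F (D.simple i) (-1)
  set X := D.x F r (((etaZ Ns i r : ℤ) : F) * t')
  set Y := D.x F s (((etaZ Ns i s : ℤ) : F) * u')
  set W := D.wordMat F (termWord (((etaZ Ns i r : ℤ) : F) * t') (((etaZ Ns i s : ℤ) : F) * u') (D.commTerms r s))
  calc n * Y * n' * (n * X * n') = n * Y * (n' * n) * X * n' := by simp only [mul_assoc]
    _ = n * (Y * X) * n' := by rw [hn', mul_one]; simp only [mul_assoc]
    _ = n * (X * Y * W) * n' := by rw [key]
    _ = n * X * (n' * n) * Y * (n' * n) * W * n' := by rw [hn', mul_one, mul_one]; simp only [mul_assoc]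
    _ = n * X * n' * (n * Y * n') * (n * W * n') := by simp only [mul_assoc]

end

end Cfsg.Agent.Lib.Helper18_ChevComm
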