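import Cfsg.Agent.Lib.Helper18_ChevBruhat

set_option autoImplicit false

/-!
Elements of `H` conjugate in the Chevalley group are conjugate in `N`.
-/

namespace Cfsg.Agent.Lib.Helper18_ChevConj

open Cfsg Cfsg.Lie Cfsg.Agent.Lib.Helper18_ChevFast Cfsg.Agent.Lib.Helper18_ChevEngine
  Cfsg.Agent.Lib.Helper18_ChevR1 Cfsg.Agent.Lib.Helper18_ChevN Cfsg.Agent.Lib.Helper18_ChevR4
  Cfsg.Agent.Lib.Helper18_ChevSimple Cfsg.Agent.Lib.Helper18_ChevSimple2 Cfsg.Agent.Lib.Helper18_ChevFacts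
  Cfsg.Agent.Lib.Helper18_ChevWeyl Cfsg.Agent.Lib.Helper18_ChevDiag Cfsg.Agent.Lib.Helper18_ChevCar
  Cfsg.Agent.Lib.Helper18_ChevTorus Cfsg.Agent.Lib.Helper18_ChevGL Cfsg.Agent.Lib.Helper18_ChevComm
  Cfsg.Agent.Lib.Helper18_ChevComm2 Cfsg.Agent.Lib.Helper18_MatTri Cfsg.Agent.Lib.Helper18_ChevTri
  Cfsg.Agent.Lib.Helper18_ChevBorel Cfsg.Agent.Lib.Helper18_ChevAdd Cfsg.Agent.Lib.Helper18_ChevUni
  Cfsg.Agent.Lib.Helper18_ChevBN Cfsg.Agent.Lib.Helper18_ChevMono Cfsg.Agent.Lib.Helper18_ChevBNPair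
  Cfsg.Agent.Lib.Helper18_ChevSimp Cfsg.Agent.Lib.Helper18_ChevJCerts Cfsg.Agent.Lib.Helper18_ChevLevi
  Cfsg.Agent.Lib.Helper18_ChevBruhat

variable {D : ChevalleyDatum} {Ns : List NData} {F : Type*} [Field F]
variable {wl : List ℤ} {ws : List (List ℤ)} {sc : ℤ} {w : List ℤ} {d : ℕ}

/-- `H` normalizes `U_n⁻`. -/
theorem diagonal_conj_flipGens (c : DCert D Ns) (tc : TCert D) (n h u : GL D.Idx F)
    (hh : h ∈ D.diagonalSubgroup F) (hu : u ∈ Subgroup.closure (flipGens D F n)) :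
    h * u * h⁻¹ ∈ Subgroup.closure (flipGens D F n) := by
  apply conj_closure_le h _ _ _ u hu
  rintro s ⟨r, t, hr, hflip, hs⟩
  rw [eq_xGL c hs]
  obtain ⟨-, a, -, ha⟩ := actsAs_diagonal c tc h hh r hr.1
  rw [ha t]
  exact Subgroup.subset_closure ⟨r, a * t, hr, hflip, rfl⟩

/-- Two elements of `H` conjugate in the Chevalley group are conjugate by an element of `N` (statement S1046). -/
theorem diagonal_conj (c : DCert D Ns) (tc : TCert D) (ac : ACert D wl ws sc) (gc : GCert D w d)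
    (hdesc : Descent D) (hR2 : R2All D F) (h₁ h₂ g : GL D.Idx F) (h1 : h₁ ∈ D.diagonalSubgroup F)
    (h2 : h₂ ∈ D.diagonalSubgroup F) (hg : g ∈ D.group F) (hc : g * h₁ * g⁻¹ = h₂) :
    ∃ n ∈ D.monomialSubgroup F, n * h₁ * n⁻¹ = h₂ := by
  obtain ⟨b, hb, n, hn, u, hu, rfl⟩ := canonical_exists c tc ac gc hdesc hR2 g hg
  have hnorm := monomial_le_normalizer_diagonal (F := F) c tc hn
  have hk : n * h₁ * n⁻¹ ∈ D.diagonalSubgroup F := (Subgroup.mem_normalizer_iff.mp hnorm h₁).mp h1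
  have hu' : h₁⁻¹ * u * h₁ ∈ Subgroup.closure (flipGens D F n) := by
    have := diagonal_conj_flipGens c tc n h₁⁻¹ u (Subgroup.inv_mem _ h1) hu
    rwa [inv_inv] at this
  have e : b * (n * h₁ * n⁻¹) * n * (h₁⁻¹ * u * h₁) = h₂ * b * n * u := by
    have e1 : b * (n * h₁ * n⁻¹) * n * (h₁⁻¹ * u * h₁) = (b * n * u) * h₁ := by group
    have e2 : h₂ * b * n * u = h₂ * (b * n * u) := by group
    rw [e1, e2, ← hc]
    group
  have hH : D.diagonalSubgroup F ≤ D.borelSubgroup F := le_sup_right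
  obtain ⟨-, huniq⟩ := canonical_unique c tc ac gc hR2 (b * (n * h₁ * n⁻¹)) (h₂ * b) n n _ u
    (Subgroup.mul_mem _ hb (hH hk)) (Subgroup.mul_mem _ (hH h2) hb) hn hn hu' hu e
  obtain ⟨hbb, -⟩ := huniq rfl
  -- now compare the `H`-components
  obtain ⟨u₁, hu₁, h, hh, rfl⟩ := exists_mul_of_mem_sup _ _ (diagonal_le_normalizer_pos c tc) hb
  refine ⟨h * n, Subgroup.mul_mem _ (diagonal_le_monomial hh) hn, ?_⟩
  have hconj : h₂ * u₁ * h₂⁻¹ ∈ D.posUnipotent F :=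
    (Subgroup.mem_normalizer_iff.mp (diagonal_le_normalizer_pos c tc h2) u₁).mp hu₁
  have hkey : (h₂ * u₁ * h₂⁻¹)⁻¹ * u₁ = h₂ * h * (h * (n * h₁ * n⁻¹))⁻¹ := by
    have e3 : u₁ = (h₂ * (u₁ * h)) * (h * (n * h₁ * n⁻¹))⁻¹ := by
      rw [← hbb]; group
    calc (h₂ * u₁ * h₂⁻¹)⁻¹ * u₁ = (h₂ * u₁ * h₂⁻¹)⁻¹ * ((h₂ * (u₁ * h)) * (h * (n * h₁ * n⁻¹))⁻¹) := by rw [← e3]
      _ = h₂ * h * (h * (n * h₁ * n⁻¹))⁻¹ := by group
  have hmem : (h₂ * u₁ * h₂⁻¹)⁻¹ * u₁ ∈ D.posUnipotent F ⊓ D.monomialSubgroup F := by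
    refine Subgroup.mem_inf.mpr ⟨Subgroup.mul_mem _ (Subgroup.inv_mem _ hconj) hu₁, ?_⟩
    rw [hkey]
    exact diagonal_le_monomial (Subgroup.mul_mem _ (Subgroup.mul_mem _ h2 hh)
      (Subgroup.inv_mem _ (Subgroup.mul_mem _ hh hk)))
  rw [pos_inf_monomial c tc gc, Subgroup.mem_bot, hkey] at hmem
  have : h₂ * h = h * (n * h₁ * n⁻¹) := mul_inv_eq_one.mp hmem
  calc h * n * h₁ * (h * n)⁻¹ = h * (n * h₁ * n⁻¹) * h⁻¹ := by group
    _ = h₂ * h * h⁻¹ := by rw [this]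
    _ = h₂ := by group

end Cfsg.Agent.Lib.Helper18_ChevConj
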