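import Cfsg.Agent.Lib.Helper18_ChevRootHom
import Cfsg.Agent.Lib.helper19_CoxRefl

set_option autoImplicit false

/-!
`N / H` is the Coxeter group of the type: glue between the action of `N` on the roots and the faithful integral
reflection representation of the Coxeter group (by helper19).
-/

namespace Cfsg.Agent.Lib.Helper18_ChevCox

open Cfsg Cfsg.Lie Cfsg.Agent.Lib.Helper18_ChevFast Cfsg.Agent.Lib.Helper18_ChevEngine
  Cfsg.Agent.Lib.Helper18_ChevR1 Cfsg.Agent.Lib.Helper18_ChevN Cfsg.Agent.Lib.Helper18_ChevR4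
  Cfsg.Agent.Lib.Helper18_ChevSimple Cfsg.Agent.Lib.Helper18_ChevSimple2 Cfsg.Agent.Lib.Helper18_ChevFacts
  Cfsg.Agent.Lib.Helper18_ChevWeyl Cfsg.Agent.Lib.Helper18_ChevDiag Cfsg.Agent.Lib.Helper18_ChevCar
  Cfsg.Agent.Lib.Helper18_ChevTorus Cfsg.Agent.Lib.Helper18_ChevGL Cfsg.Agent.Lib.Helper18_ChevComm
  Cfsg.Agent.Lib.Helper18_ChevComm2 Cfsg.Agent.Lib.Helper18_MatTri Cfsg.Agent.Lib.Helper18_ChevTri
  Cfsg.Agent.Lib.Helper18_ChevBorel Cfsg.Agent.Lib.Helper18_ChevAdd Cfsg.Agent.Lib.Helper18_ChevUni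
  Cfsg.Agent.Lib.Helper18_ChevBN Cfsg.Agent.Lib.Helper18_ChevMono Cfsg.Agent.Lib.Helper18_ChevBNPair
  Cfsg.Agent.Lib.Helper18_ChevSimp Cfsg.Agent.Lib.Helper18_ChevJCerts Cfsg.Agent.Lib.Helper18_ChevLevi
  Cfsg.Agent.Lib.Helper18_ChevBruhat Cfsg.Agent.Lib.Helper18_ChevPar Cfsg.Agent.Lib.Helper18_ChevRootHom
  Cfsg.Agent.Lib.helper19_CoxRefl Matrix

variable {D : ChevalleyDatum} {Ns : List NData}
variable {wl : List ℤ} {ws : List (List ℤ)} {sc : ℤ} {w : List ℤ} {d : ℕ}

/-- The vector of the Cartan integers of a root. -/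
def carVec (D : ChevalleyDatum) (n : ℕ) (r : ℕ) : Fin n → ℤ := fun j => D.cartan j r

/-- The vector of the coefficients of a (co)root. -/
def corVec (D : ChevalleyDatum) (n : ℕ) (r : ℕ) : Fin n → ℤ := fun j => cor D r j

/-- The Cartan list matches the datum. -/
def CartOK (D : ChevalleyDatum) (n : ℕ) (C : List (List ℤ)) : Prop :=
  ∀ i < n, ∀ j < n, cart C i j = D.cartan j (D.simple i)

instance (D : ChevalleyDatum) (n : ℕ) (C : List (List ℤ)) : Decidable (CartOK D n C) := by
  unfold CartOK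
  infer_instance

section

variable {n : ℕ} {C : List (List ℤ)}

theorem carVec_inj (ac : ACert D wl ws sc) (hn : D.rank = n) (r s : ℕ) (hr : r < D.nroots) (hs : s < D.nroots)
    (h : carVec D n r = carVec D n s) : r = s := by
  apply gl_inj ac r s hr hs
  unfold gl grRoot
  apply Finset.sum_congr rfl
  intro j hj
  rw [Finset.mem_range, hn] at hj
  have := congrFun h ⟨j, hj⟩
  unfold carVec at this
  simp only at this
  rw [this]

theorem carVec_reflect (c : DCert D Ns) (hn : D.rank = n) (hC : CartOK D n C) (i : ℕ) (hi : i < D.rank) (r : ℕ)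
    (hr : r < D.nroots) : carVec D n (D.reflectRoot i r) = reflM n C i *ᵥ carVec D n r := by
  rw [reflM_mulVec]
  ext j
  have hin : i < n := hn ▸ hi
  have hj : (j : ℕ) < D.rank := hn ▸ j.2
  have hs' := c.reflect_lt i hi r hr
  have fs := facts c.rows (c.ncert i hi) _ hs'
  have := fs.car j hj
  rw [c.reflect_reflect i hi r hr] at this
  unfold reflV carVec
  rw [dif_pos hin, hC i hin j j.2]
  simp only
  rw [this]
  ring

theorem reflM_vecMul (i : ℕ) (hi : i < n) (u : Fin n → ℤ) (t : Fin n) :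
    (u ᵥ* reflM n C i) t = u t - if (t : ℕ) = i then ∑ j : Fin n, u j * cart C i j else 0 := by
  simp only [vecMul, dotProduct, reflM, of_apply, mul_sub, Finset.sum_sub_distrib]
  congr 1
  · simp
  · by_cases h : (t : ℕ) = i
    · simp [h]
    · simp [h]

theorem corVec_reflect (c : DCert D Ns) (hn : D.rank = n) (hC : CartOK D n C) (i : ℕ) (hi : i < D.rank) (r : ℕ)
    (hr : r < D.nroots) : corVec D n (D.reflectRoot i r) = corVec D n r ᵥ* reflM n C i := by
  ext t
  have hin : i < n := hn ▸ hi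
  have ht : (t : ℕ) < D.rank := hn ▸ t.2
  have fs := facts c.rows (c.ncert i hi) r hr
  rw [reflM_vecMul i hin]
  unfold corVec
  rw [fs.cor t ht]
  congr 1
  by_cases h : (t : ℕ) = i
  · rw [if_pos h, if_pos h]
    subst hn
    rw [Finset.sum_range]
    apply Finset.sum_congr rfl
    intro k _
    rw [hC i hin k k.2]
    ring
  · rw [if_neg h, if_neg h]

/-! ### Compatible pairs -/

/-- The permutation `σ` of the roots acts on the Cartan vectors as the matrix `A`. -/
def Compat (D : ChevalleyDatum) (n : ℕ) (σ : Equiv.Perm (Fin D.nroots)) (A : Matrix (Fin n) (Fin n) ℤ) : Prop :=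
  ∀ r : Fin D.nroots, carVec D n (σ r : Fin D.nroots) = A *ᵥ carVec D n r

theorem compat_one : Compat D n 1 1 := fun r => by simp

theorem Compat.mul {σ τ : Equiv.Perm (Fin D.nroots)} {A B : Matrix (Fin n) (Fin n) ℤ} (h₁ : Compat D n σ A)
    (h₂ : Compat D n τ B) : Compat D n (σ * τ) (A * B) := by
  intro r
  rw [Equiv.Perm.mul_apply, h₁, h₂, Matrix.mulVec_mulVec]

theorem Compat.pow {σ : Equiv.Perm (Fin D.nroots)} {A : Matrix (Fin n) (Fin n) ℤ} (h : Compat D n σ A) (m : ℕ) :
    Compat D n (σ ^ m) (A ^ m) := by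
  induction m with
  | zero => simpa using compat_one
  | succ m ih =>
    rw [pow_succ, pow_succ]
    exact ih.mul h

theorem compat_refl (c : DCert D Ns) (hn : D.rank = n) (hC : CartOK D n C) (i : ℕ) (hi : i < D.rank) :
    Compat D n (reflPerm c i hi) (reflM n C i) := fun r => carVec_reflect c hn hC i hi r r.2

theorem perm_eq_of_compat (ac : ACert D wl ws sc) (hn : D.rank = n) {σ τ : Equiv.Perm (Fin D.nroots)}
    {A : Matrix (Fin n) (Fin n) ℤ} (h₁ : Compat D n σ A) (h₂ : Compat D n τ A) : σ = τ := by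
  ext r
  exact carVec_inj ac hn _ _ (σ r).2 (τ r).2 ((h₁ r).trans (h₂ r).symm)

/-- The permutation `σ` of the roots acts on the coefficient vectors as the matrix `A`, on the right. -/
def CompatR (D : ChevalleyDatum) (n : ℕ) (σ : Equiv.Perm (Fin D.nroots)) (A : Matrix (Fin n) (Fin n) ℤ) : Prop :=
  ∀ r : Fin D.nroots, corVec D n (σ r : Fin D.nroots) = corVec D n r ᵥ* A

theorem compatR_one : CompatR D n 1 1 := fun r => by simp

theorem CompatR.mul {σ τ : Equiv.Perm (Fin D.nroots)} {A B : Matrix (Fin n) (Fin n) ℤ} (h₁ : CompatR D n σ A)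
    (h₂ : CompatR D n τ B) : CompatR D n (σ * τ) (B * A) := by
  intro r
  rw [Equiv.Perm.mul_apply, h₁, h₂, Matrix.vecMul_vecMul]

theorem compatR_refl (c : DCert D Ns) (hn : D.rank = n) (hC : CartOK D n C) (i : ℕ) (hi : i < D.rank) :
    CompatR D n (reflPerm c i hi) (reflM n C i) := fun r => corVec_reflect c hn hC i hi r r.2

/-- A matrix fixing the coefficient vectors of the fundamental roots is the identity. -/
theorem eq_one_of_compatR_one (tc : TCert D) (hn : D.rank = n) {A : Matrix (Fin n) (Fin n) ℤ}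
    (h : CompatR D n 1 A) : A = 1 := by
  ext k t
  have hk : (k : ℕ) < D.rank := hn ▸ k.2
  have hp := (tc.simple_pos k hk).1
  have := congrFun (h ⟨D.simple k, hp⟩) t
  simp only [Equiv.Perm.one_apply] at this
  have hvec : corVec D n (D.simple k) = Pi.single k 1 := by
    ext j
    unfold corVec
    rw [tc.simple_cor k hk j (hn ▸ j.2), Pi.single_apply]
    by_cases hjk : j = k
    · rw [if_pos hjk, if_pos (by rw [hjk])]
    · rw [if_neg hjk, if_neg (fun h' => hjk (Fin.ext h'))]
  rw [hvec, Matrix.single_one_vecMul] at this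
  have h2 : A k t = Pi.single (M := fun _ => ℤ) k 1 t := this.symm
  rw [h2, Pi.single_apply, Matrix.one_apply]
  by_cases hkt : k = t
  · rw [if_pos hkt, if_pos hkt.symm]
  · rw [if_neg hkt, if_neg (fun h' => hkt h'.symm)]

end

section main

variable {F : Type*} [Field F] {n : ℕ} {C : List (List ℤ)}

/-- `N / H` is the Coxeter group: from a faithful integral reflection representation of the Coxeter group with
matrix `M` whose Cartan list matches the datum. -/
theorem exists_hom_coxeter (c : DCert D Ns) (tc : TCert D) (ac : ACert D wl ws sc) (gc : GCert D w d)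
    (hR2 : R2All D F) (hn : D.rank = n) (hC : CartOK D n C) (M : CoxeterMatrix (Fin n))
    (ρ : M.Group →* (Matrix (Fin n) (Fin n) ℤ)ˣ)
    (hρ : ∀ i : Fin n, ((ρ (M.simple i) : (Matrix (Fin n) (Fin n) ℤ)ˣ) : Matrix (Fin n) (Fin n) ℤ) = reflM n C i)
    (hinj : Function.Injective ρ) :
    ∃ φ : ↥(D.monomialSubgroup F) →* M.Group, Function.Surjective φ ∧
      φ.ker = (D.diagonalSubgroup F).subgroupOf (D.monomialSubgroup F) ∧
      ∀ (i : Fin n) (g : ↥(D.monomialSubgroup F)),
        ((g : GL D.Idx F) : Matrix D.Idx D.Idx F) = D.nMat F (D.simple i) 1 → φ g = M.simple i := by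
  have hlt : ∀ i : Fin n, (i : ℕ) < D.rank := fun i => hn ▸ i.2
  have hsimple : M.toCoxeterSystem.simple = M.simple := CoxeterMatrix.toCoxeterSystem_simple M
  -- the relations between the reflection matrices
  have hrelM : ∀ i j : Fin n, (reflM n C i * reflM n C j) ^ M i j = 1 := by
    intro i j
    have h1 := M.toCoxeterSystem.simple_mul_simple_pow i j
    rw [hsimple] at h1
    have h2 := congrArg (fun u : (Matrix (Fin n) (Fin n) ℤ)ˣ => (u : Matrix (Fin n) (Fin n) ℤ)) (congrArg ρ h1)
    simp only [map_pow, map_mul, map_one, Units.val_pow_eq_pow_val, Units.val_mul, Units.val_one, hρ] at h2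
    exact h2
  -- the relations between the reflections of the roots
  have hrelP : M.IsLiftable (fun i : Fin n => reflPerm c i (hlt i)) := by
    intro i j
    have h1 : Compat D n ((reflPerm c i (hlt i) * reflPerm c j (hlt j)) ^ M i j)
        ((reflM n C i * reflM n C j) ^ M i j) :=
      ((compat_refl c hn hC i (hlt i)).mul (compat_refl c hn hC j (hlt j))).pow _
    rw [hrelM i j] at h1
    exact perm_eq_of_compat ac hn h1 compat_one
  let ψ : M.Group →* Equiv.Perm (Fin D.nroots) := M.toCoxeterSystem.lift ⟨_, hrelP⟩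
  have hψ : ∀ i : Fin n, ψ (M.simple i) = reflPerm c i (hlt i) := by
    intro i
    have := M.toCoxeterSystem.lift_apply_simple hrelP i
    rw [hsimple] at this
    exact this
  -- the image
  have hrange : ψ.range = weylPerm D := by
    rw [MonoidHom.range_eq_map, ← M.toCoxeterSystem.subgroup_closure_range_simple, MonoidHom.map_closure, hsimple]
    apply le_antisymm
    · rw [Subgroup.closure_le]
      rintro σ ⟨g, ⟨i, rfl⟩, rfl⟩
      rw [hψ i]
      exact reflPerm_mem c i (hlt i)
    · unfold weylPerm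
      rw [Subgroup.closure_le]
      rintro σ ⟨i, hi, hσ⟩
      apply Subgroup.subset_closure
      refine ⟨M.simple ⟨i, hn ▸ hi⟩, ⟨⟨i, hn ▸ hi⟩, rfl⟩, ?_⟩
      rw [hψ]
      ext r
      rw [hσ]
      rfl
  -- injectivity
  have hcompR : ∀ g : M.Group, CompatR D n (ψ g)
      ((ρ g⁻¹ : (Matrix (Fin n) (Fin n) ℤ)ˣ) : Matrix (Fin n) (Fin n) ℤ) := by
    intro g
    refine M.toCoxeterSystem.simple_induction_left
      (p := fun g => CompatR D n (ψ g) ((ρ g⁻¹ : (Matrix (Fin n) (Fin n) ℤ)ˣ) : Matrix (Fin n) (Fin n) ℤ)) g ?_ ?_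
    · rw [map_one, inv_one, map_one, Units.val_one]
      exact compatR_one
    · intro g' i ih
      rw [hsimple, map_mul, _root_.mul_inv_rev, map_mul, Units.val_mul, hψ i]
      have hinv : (M.simple i)⁻¹ = M.simple i := by
        have := M.toCoxeterSystem.inv_simple i
        rw [hsimple] at this
        exact this
      rw [hinv, hρ i]
      exact (compatR_refl c hn hC i (hlt i)).mul ih
  have hψinj : Function.Injective ψ := by
    rw [injective_iff_map_eq_one]
    intro g hg
    have h1 := hcompR g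
    rw [hg] at h1
    have h2 := eq_one_of_compatR_one tc hn h1
    have h3 : ρ g⁻¹ = 1 := Units.ext h2
    have h4 : g⁻¹ = 1 := hinj (h3.trans (map_one ρ).symm)
    exact inv_eq_one.mp h4
  -- assembly
  have hmemψ : ∀ g : M.Group, ψ g ∈ weylPerm D := by
    intro g
    rw [← hrange]
    exact ⟨g, rfl⟩
  have hmemN : ∀ x : ↥(D.monomialSubgroup F), rootHom c tc ac x ∈ weylPerm D := by
    intro x
    rw [← rootHom_range (F := F) c tc ac]
    exact ⟨x, rfl⟩
  let ψ' : M.Group →* ↥(weylPerm D) := ψ.codRestrict (weylPerm D) hmemψ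
  have hbij : Function.Bijective ψ' := by
    constructor
    · intro a b hab
      exact hψinj (congrArg Subtype.val hab)
    · rintro ⟨σ, hσ⟩
      rw [← hrange] at hσ
      obtain ⟨g, rfl⟩ := hσ
      exact ⟨g, rfl⟩
  let e : M.Group ≃* ↥(weylPerm D) := MulEquiv.ofBijective ψ' hbij
  let ρN : ↥(D.monomialSubgroup F) →* ↥(weylPerm D) := (rootHom c tc ac).codRestrict (weylPerm D) hmemN
  refine ⟨e.symm.toMonoidHom.comp ρN, ?_, ?_, ?_⟩
  · apply Function.Surjective.comp e.symm.surjective
    rintro ⟨σ, hσ⟩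
    rw [← rootHom_range (F := F) c tc ac] at hσ
    obtain ⟨x, rfl⟩ := hσ
    exact ⟨x, rfl⟩
  · ext x
    rw [MonoidHom.mem_ker, ← rootHom_ker c tc ac gc hR2, MonoidHom.mem_ker]
    show e.symm (ρN x) = 1 ↔ _
    rw [MulEquiv.map_eq_one_iff]
    constructor
    · intro h
      exact congrArg Subtype.val h
    · intro h
      exact Subtype.ext h
  · intro i g hg
    show e.symm (ρN g) = M.simple i
    rw [MulEquiv.symm_apply_eq]
    apply Subtype.ext
    show rootHom c tc ac g = ψ (M.simple i)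
    rw [hψ i]
    have hn' : (g : GL D.Idx F) = nGL c i := by
      apply Units.ext
      rw [hg, nGL_coe]
    have hmem : nGL c i ∈ D.monomialSubgroup F := hn' ▸ g.2
    have : g = ⟨nGL c i, hmem⟩ := Subtype.ext hn'
    rw [this, rootHom_nGL c tc ac i (hlt i) hmem]

end main

end Cfsg.Agent.Lib.Helper18_ChevCox
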