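import Mathlib
import Cfsg.Agent.Lib.helper19_CoxRefl

/-!
Certificates for the order of the Coxeter group of type B2 and of its parabolic subgroups on
the first `k` nodes (coset tables for the upper bounds, orbits of the integral reflection
representation for the lower bounds), generated by a script.  By helper19.
-/

set_option autoImplicit false
set_option maxRecDepth 1000000

namespace Cfsg.Agent.Lib.helper19_CoxB2

open Cfsg.Agent.Lib.helper19_TC Cfsg.Agent.Lib.helper19_CoxChain Cfsg.Agent.Lib.helper19_CoxRefl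

/-- the Coxeter matrix, as a list of rows. -/
def matL : List (List ℕ) := [[1, 4], [4, 1]]

/-- the entries of the Coxeter matrix, as a function on `ℕ`. -/
def matf (i j : ℕ) : ℕ := (matL.getD i []).getD j 0

/-- the Cartan matrix. -/
def cartL : List (List ℤ) := [[2, -1], [-2, 2]]

theorem hmat : ∀ i j : Fin 2, (CoxeterMatrix.B 2) i j = matf i j := by
  have h : ∀ p : Fin 2 × Fin 2, (CoxeterMatrix.B 2) p.1 p.2 = matf p.1 p.2 := by decide +kernel
  exact fun i j => h (i, j)

theorem hR : ∀ i j : Fin 2, (reflM 2 cartL i * reflM 2 cartL j) ^ (CoxeterMatrix.B 2) i j = 1 := by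
  decide +kernel

/-! ### level 1: index 2, order 2 -/

def cert1 : Cert where
  k := 1
  N := 2
  tbl := [
    [1], [0]]
  words := [
    [], [0]]
  rk := [
    [0], [1]]
  just := [
    [.tree], [.mirror]]

theorem hc1 : cert1.check matf (fun i => decide (i < 0)) = true := by decide +kernel

def pts1 : List (List ℕ) := [
    [9, 8], [7, 9]]

def par1 : List (ℕ × ℕ) := [
    (0, 0), (0, 0)]

theorem ho1 : OrbOK 2 cartL 0 pts1 par1 := by decide +kernel

theorem ub1 : Finite (truncTo (CoxeterMatrix.B 2) 1 (by decide)).Group ∧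
    Nat.card (truncTo (CoxeterMatrix.B 2) 1 (by decide)).Group ≤ 2 :=
  ub_step (CoxeterMatrix.B 2) 0 (by decide) cert1 rfl matf hmat hc1 1 (ub_zero (CoxeterMatrix.B 2))

theorem lb1 : 2 ≤ Nat.card (G (hsq_of_hR (CoxeterMatrix.B 2) hR) 1) :=
  lbG_step (hsq_of_hR (CoxeterMatrix.B 2) hR) 0 (by decide) 1 (lbG_zero (hsq_of_hR (CoxeterMatrix.B 2) hR)) pts1 par1 ho1
    (finite_G (CoxeterMatrix.B 2) hR 1 (by decide) ub1.1)

theorem card1 : Nat.card (truncTo (CoxeterMatrix.B 2) 1 (by decide)).Group = 2 :=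
  (card_eq_and_injective (CoxeterMatrix.B 2) hR 1 (by decide) 2 ub1 lb1).1

theorem inj1 : Function.Injective (rho (CoxeterMatrix.B 2) hR 1 (by decide)) :=
  (card_eq_and_injective (CoxeterMatrix.B 2) hR 1 (by decide) 2 ub1 lb1).2

/-! ### level 2: index 4, order 8 -/

def cert2 : Cert where
  k := 2
  N := 4
  tbl := [
    [0, 1], [2, 0], [1, 3], [3, 2]]
  words := [
    [], [1], [0, 1], [1, 0, 1]]
  rk := [
    [0, 0], [0, 1], [1, 0], [2, 1]]
  just := [
    [.base, .tree], [.tree, .mirror],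
    [.mirror, .tree], [(.scan 0 0 1 3), .mirror]]

theorem hc2 : cert2.check matf (fun i => decide (i < 1)) = true := by decide +kernel

def pts2 : List (List ℕ) := [
    [8, 9], [10, 7], [6, 9], [8, 7]]

def par2 : List (ℕ × ℕ) := [
    (0, 0), (0, 1), (1, 0), (2, 1)]

theorem ho2 : OrbOK 2 cartL 1 pts2 par2 := by decide +kernel

theorem ub2 : Finite (truncTo (CoxeterMatrix.B 2) 2 (by decide)).Group ∧
    Nat.card (truncTo (CoxeterMatrix.B 2) 2 (by decide)).Group ≤ 8 :=
  ub_step (CoxeterMatrix.B 2) 1 (by decide) cert2 rfl matf hmat hc2 2 ub1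

theorem lb2 : 8 ≤ Nat.card (G (hsq_of_hR (CoxeterMatrix.B 2) hR) 2) :=
  lbG_step (hsq_of_hR (CoxeterMatrix.B 2) hR) 1 (by decide) 2 lb1 pts2 par2 ho2
    (finite_G (CoxeterMatrix.B 2) hR 2 (by decide) ub2.1)

theorem card2 : Nat.card (truncTo (CoxeterMatrix.B 2) 2 (by decide)).Group = 8 :=
  (card_eq_and_injective (CoxeterMatrix.B 2) hR 2 (by decide) 8 ub2 lb2).1

theorem inj2 : Function.Injective (rho (CoxeterMatrix.B 2) hR 2 (by decide)) :=
  (card_eq_and_injective (CoxeterMatrix.B 2) hR 2 (by decide) 8 ub2 lb2).2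

theorem cpow2 : (((List.range 2).map (reflM 2 cartL)).prod) ^ 4 = 1 := by decide +kernel

theorem cne2_2 : (((List.range 2).map (reflM 2 cartL)).prod) ^ 2 ≠ 1 := by decide +kernel

theorem cox2 : orderOf ((List.finRange 2).map (truncTo (CoxeterMatrix.B 2) 2 (by decide)).simple).prod = 4 := by
  refine orderOf_coxeter (CoxeterMatrix.B 2) hR 2 (by decide) inj2 4 (by decide) cpow2 ?_
  intro p hp hpd
  have hle : p ≤ 4 := Nat.le_of_dvd (by decide) hpd
  have hmem : p ∈ ([2] : List ℕ) := by
    interval_cases p <;> first | (exfalso; revert hp; decide) | (exfalso; revert hpd; decide) | decide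
  simp only [List.mem_cons, List.mem_nil_iff, or_false] at hmem
  rcases hmem with rfl
  · exact cne2_2

end Cfsg.Agent.Lib.helper19_CoxB2
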