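import Mathlib
import Cfsg.Agent.Lib.helper19_CoxRefl

/-!
Certificates for the order of the Coxeter group of type E7 and of its parabolic subgroups on
the first `k` nodes (coset tables for the upper bounds, orbits of the integral reflection
representation for the lower bounds), generated by a script.  By helper19.
-/

set_option autoImplicit false
set_option maxRecDepth 1000000

namespace Cfsg.Agent.Lib.helper19_CoxE7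

open Cfsg.Agent.Lib.helper19_TC Cfsg.Agent.Lib.helper19_CoxChain Cfsg.Agent.Lib.helper19_CoxRefl

/-- the Coxeter matrix, as a list of rows. -/
def matL : List (List ℕ) := [[1, 2, 3, 2, 2, 2, 2], [2, 1, 2, 3, 2, 2, 2], [3, 2, 1, 3, 2, 2, 2], [2, 3, 3, 1, 3, 2, 2], [2, 2, 2, 3, 1, 3, 2], [2, 2, 2, 2, 3, 1, 3], [2, 2, 2, 2, 2, 3, 1]]

/-- the entries of the Coxeter matrix, as a function on `ℕ`. -/
def matf (i j : ℕ) : ℕ := (matL.getD i []).getD j 0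

/-- the Cartan matrix. -/
def cartL : List (List ℤ) := [[2, 0, -1, 0, 0, 0, 0], [0, 2, 0, -1, 0, 0, 0], [-1, 0, 2, -1, 0, 0, 0], [0, -1, -1, 2, -1, 0, 0], [0, 0, 0, -1, 2, -1, 0], [0, 0, 0, 0, -1, 2, -1], [0, 0, 0, 0, 0, -1, 2]]

theorem hmat : ∀ i j : Fin 7, CoxeterMatrix.E₇ i j = matf i j := by
  have h : ∀ p : Fin 7 × Fin 7, CoxeterMatrix.E₇ p.1 p.2 = matf p.1 p.2 := by decide +kernel
  exact fun i j => h (i, j)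

theorem hR : ∀ i j : Fin 7, (reflM 7 cartL i * reflM 7 cartL j) ^ CoxeterMatrix.E₇ i j = 1 := by
  decide +kernel

/-! ### level 1: index 2, order 2 -/

def cert1 : Cert where
  k := 1
  N := 2
  tbl := [
    [1], [0]]
  words := [
    [], [0]]
  rk := [
    [0], [1]]
  just := [
    [.tree], [.mirror]]

theorem hc1 : cert1.check matf (fun i => decide (i < 0)) = true := by decide +kernel

def pts1 : List (List ℕ) := [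
    [9, 8, 8, 8, 8, 8, 8], [7, 8, 9, 8, 8, 8, 8]]

def par1 : List (ℕ × ℕ) := [
    (0, 0), (0, 0)]

theorem ho1 : OrbOK 7 cartL 0 pts1 par1 := by decide +kernel

theorem ub1 : Finite (truncTo CoxeterMatrix.E₇ 1 (by decide)).Group ∧
    Nat.card (truncTo CoxeterMatrix.E₇ 1 (by decide)).Group ≤ 2 :=
  ub_step CoxeterMatrix.E₇ 0 (by decide) cert1 rfl matf hmat hc1 1 (ub_zero CoxeterMatrix.E₇)

theorem lb1 : 2 ≤ Nat.card (G (hsq_of_hR CoxeterMatrix.E₇ hR) 1) :=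
  lbG_step (hsq_of_hR CoxeterMatrix.E₇ hR) 0 (by decide) 1 (lbG_zero (hsq_of_hR CoxeterMatrix.E₇ hR)) pts1 par1 ho1
    (finite_G CoxeterMatrix.E₇ hR 1 (by decide) ub1.1)

theorem card1 : Nat.card (truncTo CoxeterMatrix.E₇ 1 (by decide)).Group = 2 :=
  (card_eq_and_injective CoxeterMatrix.E₇ hR 1 (by decide) 2 ub1 lb1).1

theorem inj1 : Function.Injective (rho CoxeterMatrix.E₇ hR 1 (by decide)) :=
  (card_eq_and_injective CoxeterMatrix.E₇ hR 1 (by decide) 2 ub1 lb1).2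

/-! ### level 2: index 2, order 4 -/

def cert2 : Cert where
  k := 2
  N := 2
  tbl := [
    [0, 1], [1, 0]]
  words := [
    [], [1]]
  rk := [
    [0, 0], [2, 1]]
  just := [
    [.base, .tree], [(.scan 0 0 1 1), .mirror]]

theorem hc2 : cert2.check matf (fun i => decide (i < 1)) = true := by decide +kernel

def pts2 : List (List ℕ) := [
    [8, 9, 8, 8, 8, 8, 8], [8, 7, 8, 9, 8, 8, 8]]

def par2 : List (ℕ × ℕ) := [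
    (0, 0), (0, 1)]

theorem ho2 : OrbOK 7 cartL 1 pts2 par2 := by decide +kernel

theorem ub2 : Finite (truncTo CoxeterMatrix.E₇ 2 (by decide)).Group ∧
    Nat.card (truncTo CoxeterMatrix.E₇ 2 (by decide)).Group ≤ 4 :=
  ub_step CoxeterMatrix.E₇ 1 (by decide) cert2 rfl matf hmat hc2 2 ub1

theorem lb2 : 4 ≤ Nat.card (G (hsq_of_hR CoxeterMatrix.E₇ hR) 2) :=
  lbG_step (hsq_of_hR CoxeterMatrix.E₇ hR) 1 (by decide) 2 lb1 pts2 par2 ho2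
    (finite_G CoxeterMatrix.E₇ hR 2 (by decide) ub2.1)

theorem card2 : Nat.card (truncTo CoxeterMatrix.E₇ 2 (by decide)).Group = 4 :=
  (card_eq_and_injective CoxeterMatrix.E₇ hR 2 (by decide) 4 ub2 lb2).1

theorem inj2 : Function.Injective (rho CoxeterMatrix.E₇ hR 2 (by decide)) :=
  (card_eq_and_injective CoxeterMatrix.E₇ hR 2 (by decide) 4 ub2 lb2).2

/-! ### level 3: index 3, order 12 -/

def cert3 : Cert where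
  k := 3
  N := 3
  tbl := [
    [0, 0, 1], [2, 1, 0], [1, 2, 2]]
  words := [
    [], [2], [0, 2]]
  rk := [
    [0, 0, 0], [0, 2, 1], [1, 3, 2]]
  just := [
    [.base, .base, .tree], [.tree, (.scan 0 1 2 1), .mirror],
    [.mirror, (.scan 1 0 1 2), (.scan 0 0 2 2)]]

theorem hc3 : cert3.check matf (fun i => decide (i < 2)) = true := by decide +kernel

def pts3 : List (List ℕ) := [
    [8, 8, 9, 8, 8, 8, 8], [9, 8, 7, 9, 8, 8, 8], [7, 8, 8, 9, 8, 8, 8]]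

def par3 : List (ℕ × ℕ) := [
    (0, 0), (0, 2), (1, 0)]

theorem ho3 : OrbOK 7 cartL 2 pts3 par3 := by decide +kernel

theorem ub3 : Finite (truncTo CoxeterMatrix.E₇ 3 (by decide)).Group ∧
    Nat.card (truncTo CoxeterMatrix.E₇ 3 (by decide)).Group ≤ 12 :=
  ub_step CoxeterMatrix.E₇ 2 (by decide) cert3 rfl matf hmat hc3 4 ub2

theorem lb3 : 12 ≤ Nat.card (G (hsq_of_hR CoxeterMatrix.E₇ hR) 3) :=
  lbG_step (hsq_of_hR CoxeterMatrix.E₇ hR) 2 (by decide) 4 lb2 pts3 par3 ho3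
    (finite_G CoxeterMatrix.E₇ hR 3 (by decide) ub3.1)

theorem card3 : Nat.card (truncTo CoxeterMatrix.E₇ 3 (by decide)).Group = 12 :=
  (card_eq_and_injective CoxeterMatrix.E₇ hR 3 (by decide) 12 ub3 lb3).1

theorem inj3 : Function.Injective (rho CoxeterMatrix.E₇ hR 3 (by decide)) :=
  (card_eq_and_injective CoxeterMatrix.E₇ hR 3 (by decide) 12 ub3 lb3).2

/-! ### level 4: index 10, order 120 -/

def cert4 : Cert where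
  k := 4
  N := 10
  tbl := [
    [0, 0, 0, 1], [1, 2, 3, 0], [2, 1, 4, 2], [5, 4, 1, 3], [6, 3, 2, 7], [3, 6, 5, 5], [4, 5, 6, 8], [8, 7, 7, 4],
    [7, 8, 9, 6], [9, 9, 8, 9]]
  words := [
    [], [3], [1, 3], [2, 3],
    [2, 1, 3], [0, 2, 3], [0, 2, 1, 3], [3, 2, 1, 3],
    [3, 0, 2, 1, 3], [2, 3, 0, 2, 1, 3]]
  rk := [
    [0, 0, 0, 0], [2, 0, 0, 1], [3, 1, 0, 2], [0, 2, 1, 2], [0, 3, 1, 0], [1, 4, 3, 3], [1, 3, 4, 0], [2, 4, 3, 1],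
    [3, 5, 0, 1], [4, 6, 1, 5]]
  just := [
    [.base, .base, .base, .tree], [(.scan 0 0 3 1), .tree, .tree, .mirror],
    [(.scan 1 0 1 1), .mirror, .tree, (.scan 0 1 3 2)], [.tree, (.scan 1 1 2 1), .mirror, (.scan 0 2 3 2)],
    [.tree, .mirror, .mirror, .tree], [.mirror, .mirror, (.scan 1 0 2 2), (.scan 3 0 3 2)],
    [.mirror, (.scan 3 0 1 2), (.scan 2 0 2 2), .tree], [(.scan 4 0 3 1), (.scan 3 1 3 3), (.scan 2 2 3 3), .mirror],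
    [.mirror, (.scan 5 1 3 3), .tree, .mirror], [(.scan 7 0 2 3), (.scan 8 1 2 1), .mirror, (.scan 6 2 3 2)]]

theorem hc4 : cert4.check matf (fun i => decide (i < 3)) = true := by decide +kernel

def pts4 : List (List ℕ) := [
    [8, 8, 8, 9, 8, 8, 8], [8, 9, 9, 7, 9, 8, 8], [8, 7, 9, 8, 9, 8, 8], [9, 9, 7, 8, 9, 8, 8], [9, 7, 7, 9, 9, 8, 8], [7, 9, 8, 8, 9, 8, 8], [7, 7, 8, 9, 9, 8, 8], [9, 8, 8, 7, 10, 8, 8],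
    [7, 8, 9, 7, 10, 8, 8], [8, 8, 7, 8, 10, 8, 8]]

def par4 : List (ℕ × ℕ) := [
    (0, 0), (0, 3), (1, 1), (1, 2), (2, 2), (3, 0), (4, 0), (4, 3), (6, 3), (8, 2)]

theorem ho4 : OrbOK 7 cartL 3 pts4 par4 := by decide +kernel

theorem ub4 : Finite (truncTo CoxeterMatrix.E₇ 4 (by decide)).Group ∧
    Nat.card (truncTo CoxeterMatrix.E₇ 4 (by decide)).Group ≤ 120 :=
  ub_step CoxeterMatrix.E₇ 3 (by decide) cert4 rfl matf hmat hc4 12 ub3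

theorem lb4 : 120 ≤ Nat.card (G (hsq_of_hR CoxeterMatrix.E₇ hR) 4) :=
  lbG_step (hsq_of_hR CoxeterMatrix.E₇ hR) 3 (by decide) 12 lb3 pts4 par4 ho4
    (finite_G CoxeterMatrix.E₇ hR 4 (by decide) ub4.1)

theorem card4 : Nat.card (truncTo CoxeterMatrix.E₇ 4 (by decide)).Group = 120 :=
  (card_eq_and_injective CoxeterMatrix.E₇ hR 4 (by decide) 120 ub4 lb4).1

theorem inj4 : Function.Injective (rho CoxeterMatrix.E₇ hR 4 (by decide)) :=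
  (card_eq_and_injective CoxeterMatrix.E₇ hR 4 (by decide) 120 ub4 lb4).2

/-! ### level 5: index 16, order 1920 -/

def cert5 : Cert where
  k := 5
  N := 16
  tbl := [
    [0, 0, 0, 0, 1], [1, 1, 1, 2, 0], [2, 3, 4, 1, 2], [3, 2, 5, 3, 3], [6, 5, 2, 4, 4], [7, 4, 3, 8, 5], [4, 7, 6, 6, 6], [5, 6, 7, 9, 7],
    [9, 8, 8, 5, 10], [8, 9, 11, 7, 12], [12, 10, 10, 10, 8], [11, 11, 9, 11, 13], [10, 12, 13, 12, 9], [13, 13, 12, 14, 11], [14, 15, 14, 13, 14], [15, 14, 15, 15, 15]]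
  words := [
    [], [4], [3, 4], [1, 3, 4],
    [2, 3, 4], [2, 1, 3, 4], [0, 2, 3, 4], [0, 2, 1, 3, 4],
    [3, 2, 1, 3, 4], [3, 0, 2, 1, 3, 4], [4, 3, 2, 1, 3, 4], [2, 3, 0, 2, 1, 3, 4],
    [4, 3, 0, 2, 1, 3, 4], [4, 2, 3, 0, 2, 1, 3, 4], [3, 4, 2, 3, 0, 2, 1, 3, 4], [1, 3, 4, 2, 3, 0, 2, 1, 3, 4]]
  rk := [
    [0, 0, 0, 0, 0], [2, 2, 2, 0, 1], [3, 0, 0, 1, 2], [4, 1, 0, 3, 3], [0, 2, 1, 3, 3], [0, 3, 1, 0, 4], [1, 4, 4, 4, 4], [1, 3, 5, 0, 5],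
    [2, 4, 4, 1, 0], [3, 5, 0, 1, 0], [4, 5, 5, 5, 1], [5, 6, 1, 6, 0], [5, 6, 2, 6, 1], [6, 7, 3, 0, 1], [7, 0, 7, 1, 7], [8, 1, 8, 8, 8]]
  just := [
    [.base, .base, .base, .base, .tree], [(.scan 0 0 4 1), (.scan 0 1 4 1), (.scan 0 2 4 1), .tree, .mirror],
    [(.scan 1 0 3 1), .tree, .tree, .mirror, (.scan 0 3 4 2)], [(.scan 2 0 1 1), .mirror, .tree, (.scan 1 1 3 2), (.scan 2 1 4 2)],
    [.tree, (.scan 2 1 2 1), .mirror, (.scan 1 2 3 2), (.scan 2 2 4 2)], [.tree, .mirror, .mirror, .tree, (.scan 3 2 4 2)],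
    [.mirror, .mirror, (.scan 2 0 2 2), (.scan 4 0 3 2), (.scan 4 0 4 2)], [.mirror, (.scan 4 0 1 2), (.scan 3 0 2 2), .tree, (.scan 5 0 4 2)],
    [(.scan 5 0 3 1), (.scan 4 1 3 3), (.scan 3 2 3 3), .mirror, .tree], [.mirror, (.scan 6 1 3 3), .tree, .mirror, .tree],
    [(.scan 8 0 4 1), (.scan 8 1 4 1), (.scan 8 2 4 1), (.scan 5 3 4 3), .mirror], [(.scan 8 0 2 3), (.scan 9 1 2 1), .mirror, (.scan 7 2 3 2), .tree],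
    [.mirror, (.scan 9 1 4 1), (.scan 9 2 4 1), (.scan 7 3 4 3), .mirror], [(.scan 10 0 2 3), (.scan 11 1 4 1), .mirror, .tree, .mirror],
    [(.scan 13 0 3 1), .tree, (.scan 12 2 3 3), .mirror, (.scan 11 3 4 2)], [(.scan 14 0 1 1), .mirror, (.scan 14 1 2 2), (.scan 13 1 3 2), (.scan 14 1 4 2)]]

theorem hc5 : cert5.check matf (fun i => decide (i < 4)) = true := by decide +kernel

def pts5 : List (List ℕ) := [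
    [8, 8, 8, 8, 9, 8, 8], [8, 8, 8, 9, 7, 9, 8], [8, 9, 9, 7, 8, 9, 8], [8, 7, 9, 8, 8, 9, 8], [9, 9, 7, 8, 8, 9, 8], [9, 7, 7, 9, 8, 9, 8], [7, 9, 8, 8, 8, 9, 8], [7, 7, 8, 9, 8, 9, 8],
    [9, 8, 8, 7, 9, 9, 8], [7, 8, 9, 7, 9, 9, 8], [9, 8, 8, 8, 7, 10, 8], [8, 8, 7, 8, 9, 9, 8], [7, 8, 9, 8, 7, 10, 8], [8, 8, 7, 9, 7, 10, 8], [8, 9, 8, 7, 8, 10, 8], [8, 7, 8, 8, 8, 10, 8]]

def par5 : List (ℕ × ℕ) := [
    (0, 0), (0, 4), (1, 3), (2, 1), (2, 2), (3, 2), (4, 0), (5, 0), (5, 3), (7, 3), (8, 4), (9, 2),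
    (9, 4), (11, 4), (13, 3), (14, 1)]

theorem ho5 : OrbOK 7 cartL 4 pts5 par5 := by decide +kernel

theorem ub5 : Finite (truncTo CoxeterMatrix.E₇ 5 (by decide)).Group ∧
    Nat.card (truncTo CoxeterMatrix.E₇ 5 (by decide)).Group ≤ 1920 :=
  ub_step CoxeterMatrix.E₇ 4 (by decide) cert5 rfl matf hmat hc5 120 ub4

theorem lb5 : 1920 ≤ Nat.card (G (hsq_of_hR CoxeterMatrix.E₇ hR) 5) :=
  lbG_step (hsq_of_hR CoxeterMatrix.E₇ hR) 4 (by decide) 120 lb4 pts5 par5 ho5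
    (finite_G CoxeterMatrix.E₇ hR 5 (by decide) ub5.1)

theorem card5 : Nat.card (truncTo CoxeterMatrix.E₇ 5 (by decide)).Group = 1920 :=
  (card_eq_and_injective CoxeterMatrix.E₇ hR 5 (by decide) 1920 ub5 lb5).1

theorem inj5 : Function.Injective (rho CoxeterMatrix.E₇ hR 5 (by decide)) :=
  (card_eq_and_injective CoxeterMatrix.E₇ hR 5 (by decide) 1920 ub5 lb5).2

/-! ### level 6: index 27, order 51840 -/

def cert6 : Cert where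
  k := 6
  N := 27
  tbl := [
    [0, 0, 0, 0, 0, 1], [1, 1, 1, 1, 2, 0], [2, 2, 2, 3, 1, 2], [3, 4, 5, 2, 3, 3], [4, 3, 6, 4, 4, 4], [7, 6, 3, 5, 5, 5], [8, 5, 4, 9, 6, 6], [5, 8, 7, 7, 7, 7],
    [6, 7, 8, 10, 8, 8], [10, 9, 9, 6, 11, 9], [9, 10, 12, 8, 13, 10], [13, 11, 11, 11, 9, 14], [12, 12, 10, 12, 15, 12], [11, 13, 15, 13, 10, 16], [16, 14, 14, 14, 14, 11], [15, 15, 13, 17, 12, 18],
    [14, 16, 18, 16, 16, 13], [17, 19, 17, 15, 17, 20], [18, 18, 16, 20, 18, 15], [19, 17, 19, 19, 19, 21], [20, 21, 20, 18, 22, 17], [21, 20, 21, 21, 23, 19], [22, 23, 22, 22, 20, 22], [23, 22, 23, 24, 21, 23],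
    [24, 24, 25, 23, 24, 24], [26, 25, 24, 25, 25, 25], [25, 26, 26, 26, 26, 26]]
  words := [
    [], [5], [4, 5], [3, 4, 5],
    [1, 3, 4, 5], [2, 3, 4, 5], [2, 1, 3, 4, 5], [0, 2, 3, 4, 5],
    [0, 2, 1, 3, 4, 5], [3, 2, 1, 3, 4, 5], [3, 0, 2, 1, 3, 4, 5], [4, 3, 2, 1, 3, 4, 5],
    [2, 3, 0, 2, 1, 3, 4, 5], [4, 3, 0, 2, 1, 3, 4, 5], [5, 4, 3, 2, 1, 3, 4, 5], [4, 2, 3, 0, 2, 1, 3, 4, 5],
    [5, 4, 3, 0, 2, 1, 3, 4, 5], [3, 4, 2, 3, 0, 2, 1, 3, 4, 5], [5, 4, 2, 3, 0, 2, 1, 3, 4, 5], [1, 3, 4, 2, 3, 0, 2, 1, 3, 4, 5],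
    [5, 3, 4, 2, 3, 0, 2, 1, 3, 4, 5], [5, 1, 3, 4, 2, 3, 0, 2, 1, 3, 4, 5], [4, 5, 3, 4, 2, 3, 0, 2, 1, 3, 4, 5], [4, 5, 1, 3, 4, 2, 3, 0, 2, 1, 3, 4, 5],
    [3, 4, 5, 1, 3, 4, 2, 3, 0, 2, 1, 3, 4, 5], [2, 3, 4, 5, 1, 3, 4, 2, 3, 0, 2, 1, 3, 4, 5], [0, 2, 3, 4, 5, 1, 3, 4, 2, 3, 0, 2, 1, 3, 4, 5]]
  rk := [
    [0, 0, 0, 0, 0, 0], [2, 2, 2, 2, 0, 1], [3, 3, 3, 0, 1, 2], [4, 0, 0, 1, 3, 3], [5, 1, 0, 4, 4, 4], [0, 2, 1, 4, 4, 4], [0, 3, 1, 0, 5, 5], [1, 4, 5, 5, 5, 5],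
    [1, 3, 6, 0, 6, 6], [2, 5, 5, 1, 0, 6], [3, 6, 0, 1, 0, 7], [4, 6, 6, 6, 1, 0], [6, 7, 1, 7, 0, 8], [5, 7, 2, 7, 1, 0], [6, 7, 7, 7, 7, 1], [7, 8, 3, 0, 1, 0],
    [7, 8, 4, 8, 8, 1], [8, 0, 8, 1, 8, 0], [8, 9, 5, 2, 9, 1], [9, 1, 9, 9, 9, 0], [9, 2, 9, 3, 0, 1], [10, 3, 10, 10, 0, 1], [10, 4, 10, 10, 1, 9], [11, 5, 11, 0, 1, 10],
    [12, 11, 0, 1, 11, 11], [0, 12, 1, 12, 12, 12], [1, 13, 13, 13, 13, 13]]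
  just := [
    [.base, .base, .base, .base, .base, .tree], [(.scan 0 0 5 1), (.scan 0 1 5 1), (.scan 0 2 5 1), (.scan 0 3 5 1), .tree, .mirror],
    [(.scan 1 0 4 1), (.scan 1 1 4 1), (.scan 1 2 4 1), .tree, .mirror, (.scan 0 4 5 2)], [(.scan 2 0 3 1), .tree, .tree, .mirror, (.scan 1 3 4 2), (.scan 2 3 5 2)],
    [(.scan 3 0 1 1), .mirror, .tree, (.scan 2 1 3 2), (.scan 3 1 4 2), (.scan 3 1 5 2)], [.tree, (.scan 3 1 2 1), .mirror, (.scan 2 2 3 2), (.scan 3 2 4 2), (.scan 3 2 5 2)],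
    [.tree, .mirror, .mirror, .tree, (.scan 4 2 4 2), (.scan 4 2 5 2)], [.mirror, .mirror, (.scan 3 0 2 2), (.scan 5 0 3 2), (.scan 5 0 4 2), (.scan 5 0 5 2)],
    [.mirror, (.scan 5 0 1 2), (.scan 4 0 2 2), .tree, (.scan 6 0 4 2), (.scan 6 0 5 2)], [(.scan 6 0 3 1), (.scan 5 1 3 3), (.scan 4 2 3 3), .mirror, .tree, (.scan 6 3 5 2)],
    [.mirror, (.scan 7 1 3 3), .tree, .mirror, .tree, (.scan 8 3 5 2)], [(.scan 9 0 4 1), (.scan 9 1 4 1), (.scan 9 2 4 1), (.scan 6 3 4 3), .mirror, .tree],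
    [(.scan 9 0 2 3), (.scan 10 1 2 1), .mirror, (.scan 8 2 3 2), .tree, (.scan 10 2 5 2)], [.mirror, (.scan 10 1 4 1), (.scan 10 2 4 1), (.scan 8 3 4 3), .mirror, .tree],
    [(.scan 11 0 5 1), (.scan 11 1 5 1), (.scan 11 2 5 1), (.scan 11 3 5 1), (.scan 9 4 5 3), .mirror], [(.scan 11 0 2 3), (.scan 12 1 4 1), .mirror, .tree, .mirror, .tree],
    [.mirror, (.scan 13 1 5 1), (.scan 13 2 5 1), (.scan 13 3 5 1), (.scan 10 4 5 3), .mirror], [(.scan 15 0 3 1), .tree, (.scan 13 2 3 3), .mirror, (.scan 12 3 4 2), .tree],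
    [(.scan 14 0 2 3), (.scan 15 1 5 1), .mirror, (.scan 15 3 5 1), (.scan 12 4 5 3), .mirror], [(.scan 17 0 1 1), .mirror, (.scan 17 1 2 2), (.scan 15 1 3 2), (.scan 17 1 4 2), .tree],
    [(.scan 17 0 5 1), (.scan 17 1 5 1), (.scan 16 2 3 3), .mirror, .tree, .mirror], [(.scan 19 0 5 1), .mirror, (.scan 19 2 5 1), (.scan 18 1 3 2), .tree, .mirror],
    [(.scan 20 0 4 1), (.scan 20 1 4 1), (.scan 20 2 4 1), (.scan 18 3 4 3), .mirror, (.scan 17 4 5 2)], [(.scan 21 0 4 1), .mirror, (.scan 21 2 4 1), .tree, .mirror, (.scan 19 4 5 2)],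
    [(.scan 23 0 3 1), (.scan 22 1 3 3), .tree, .mirror, (.scan 21 3 4 2), (.scan 23 3 5 2)], [.tree, (.scan 24 1 2 1), .mirror, (.scan 23 2 3 2), (.scan 24 2 4 2), (.scan 24 2 5 2)],
    [.mirror, (.scan 25 0 1 2), (.scan 24 0 2 2), (.scan 25 0 3 2), (.scan 25 0 4 2), (.scan 25 0 5 2)]]

theorem hc6 : cert6.check matf (fun i => decide (i < 5)) = true := by decide +kernel

def pts6 : List (List ℕ) := [
    [8, 8, 8, 8, 8, 9, 8], [8, 8, 8, 8, 9, 7, 9], [8, 8, 8, 9, 7, 8, 9], [8, 9, 9, 7, 8, 8, 9], [8, 7, 9, 8, 8, 8, 9], [9, 9, 7, 8, 8, 8, 9], [9, 7, 7, 9, 8, 8, 9], [7, 9, 8, 8, 8, 8, 9],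
    [7, 7, 8, 9, 8, 8, 9], [9, 8, 8, 7, 9, 8, 9], [7, 8, 9, 7, 9, 8, 9], [9, 8, 8, 8, 7, 9, 9], [8, 8, 7, 8, 9, 8, 9], [7, 8, 9, 8, 7, 9, 9], [9, 8, 8, 8, 8, 7, 10], [8, 8, 7, 9, 7, 9, 9],
    [7, 8, 9, 8, 8, 7, 10], [8, 9, 8, 7, 8, 9, 9], [8, 8, 7, 9, 8, 7, 10], [8, 7, 8, 8, 8, 9, 9], [8, 9, 8, 7, 9, 7, 10], [8, 7, 8, 8, 9, 7, 10], [8, 9, 8, 8, 7, 8, 10], [8, 7, 8, 9, 7, 8, 10],
    [8, 8, 9, 7, 8, 8, 10], [9, 8, 7, 8, 8, 8, 10], [7, 8, 8, 8, 8, 8, 10]]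

def par6 : List (ℕ × ℕ) := [
    (0, 0), (0, 5), (1, 4), (2, 3), (3, 1), (3, 2), (4, 2), (5, 0), (6, 0), (6, 3), (8, 3), (9, 4),
    (10, 2), (10, 4), (11, 5), (12, 4), (13, 5), (15, 3), (15, 5), (17, 1), (17, 5), (19, 5), (20, 4), (21, 4),
    (23, 3), (24, 2), (25, 0)]

theorem ho6 : OrbOK 7 cartL 5 pts6 par6 := by decide +kernel

theorem ub6 : Finite (truncTo CoxeterMatrix.E₇ 6 (by decide)).Group ∧
    Nat.card (truncTo CoxeterMatrix.E₇ 6 (by decide)).Group ≤ 51840 :=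
  ub_step CoxeterMatrix.E₇ 5 (by decide) cert6 rfl matf hmat hc6 1920 ub5

theorem lb6 : 51840 ≤ Nat.card (G (hsq_of_hR CoxeterMatrix.E₇ hR) 6) :=
  lbG_step (hsq_of_hR CoxeterMatrix.E₇ hR) 5 (by decide) 1920 lb5 pts6 par6 ho6
    (finite_G CoxeterMatrix.E₇ hR 6 (by decide) ub6.1)

theorem card6 : Nat.card (truncTo CoxeterMatrix.E₇ 6 (by decide)).Group = 51840 :=
  (card_eq_and_injective CoxeterMatrix.E₇ hR 6 (by decide) 51840 ub6 lb6).1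

theorem inj6 : Function.Injective (rho CoxeterMatrix.E₇ hR 6 (by decide)) :=
  (card_eq_and_injective CoxeterMatrix.E₇ hR 6 (by decide) 51840 ub6 lb6).2

/-! ### level 7: index 56, order 2903040 -/

def cert7 : Cert where
  k := 7
  N := 56
  tbl := [
    [0, 0, 0, 0, 0, 0, 1], [1, 1, 1, 1, 1, 2, 0], [2, 2, 2, 2, 3, 1, 2], [3, 3, 3, 4, 2, 3, 3], [4, 5, 6, 3, 4, 4, 4], [5, 4, 7, 5, 5, 5, 5], [8, 7, 4, 6, 6, 6, 6], [9, 6, 5, 10, 7, 7, 7],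
    [6, 9, 8, 8, 8, 8, 8], [7, 8, 9, 11, 9, 9, 9], [11, 10, 10, 7, 12, 10, 10], [10, 11, 13, 9, 14, 11, 11], [14, 12, 12, 12, 10, 15, 12], [13, 13, 11, 13, 16, 13, 13], [12, 14, 16, 14, 11, 17, 14], [17, 15, 15, 15, 15, 12, 18],
    [16, 16, 14, 19, 13, 20, 16], [15, 17, 20, 17, 17, 14, 21], [21, 18, 18, 18, 18, 18, 15], [19, 22, 19, 16, 19, 23, 19], [20, 20, 17, 23, 20, 16, 24], [18, 21, 24, 21, 21, 21, 17], [22, 19, 22, 22, 22, 25, 22], [23, 25, 23, 20, 26, 19, 27],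
    [24, 24, 21, 27, 24, 24, 20], [25, 23, 25, 25, 28, 22, 29], [26, 28, 26, 26, 23, 26, 30], [27, 29, 27, 24, 30, 27, 23], [28, 26, 28, 31, 25, 28, 32], [29, 27, 29, 29, 32, 29, 25], [30, 32, 30, 30, 27, 33, 26], [31, 31, 34, 28, 31, 31, 35],
    [32, 30, 32, 35, 29, 36, 28], [33, 36, 33, 33, 33, 30, 33], [37, 34, 31, 34, 34, 34, 38], [35, 35, 38, 32, 35, 39, 31], [36, 33, 36, 39, 36, 32, 36], [34, 37, 37, 37, 37, 37, 40], [40, 38, 35, 38, 38, 41, 34], [39, 39, 41, 36, 42, 35, 39],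
    [38, 40, 40, 40, 40, 43, 37], [43, 41, 39, 41, 44, 38, 41], [42, 42, 44, 42, 39, 42, 42], [41, 43, 43, 43, 45, 40, 43], [45, 44, 42, 46, 41, 44, 44], [44, 45, 45, 47, 43, 45, 45], [47, 48, 46, 44, 46, 46, 46], [46, 49, 50, 45, 47, 47, 47],
    [49, 46, 48, 48, 48, 48, 48], [48, 47, 51, 49, 49, 49, 49], [50, 51, 47, 50, 50, 50, 50], [51, 50, 49, 52, 51, 51, 51], [52, 52, 52, 51, 53, 52, 52], [53, 53, 53, 53, 52, 54, 53], [54, 54, 54, 54, 54, 53, 55], [55, 55, 55, 55, 55, 55, 54]]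
  words := [
    [], [6], [5, 6], [4, 5, 6],
    [3, 4, 5, 6], [1, 3, 4, 5, 6], [2, 3, 4, 5, 6], [2, 1, 3, 4, 5, 6],
    [0, 2, 3, 4, 5, 6], [0, 2, 1, 3, 4, 5, 6], [3, 2, 1, 3, 4, 5, 6], [3, 0, 2, 1, 3, 4, 5, 6],
    [4, 3, 2, 1, 3, 4, 5, 6], [2, 3, 0, 2, 1, 3, 4, 5, 6], [4, 3, 0, 2, 1, 3, 4, 5, 6], [5, 4, 3, 2, 1, 3, 4, 5, 6],
    [4, 2, 3, 0, 2, 1, 3, 4, 5, 6], [5, 4, 3, 0, 2, 1, 3, 4, 5, 6], [6, 5, 4, 3, 2, 1, 3, 4, 5, 6], [3, 4, 2, 3, 0, 2, 1, 3, 4, 5, 6],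
    [5, 4, 2, 3, 0, 2, 1, 3, 4, 5, 6], [6, 5, 4, 3, 0, 2, 1, 3, 4, 5, 6], [1, 3, 4, 2, 3, 0, 2, 1, 3, 4, 5, 6], [5, 3, 4, 2, 3, 0, 2, 1, 3, 4, 5, 6],
    [6, 5, 4, 2, 3, 0, 2, 1, 3, 4, 5, 6], [5, 1, 3, 4, 2, 3, 0, 2, 1, 3, 4, 5, 6], [4, 5, 3, 4, 2, 3, 0, 2, 1, 3, 4, 5, 6], [6, 5, 3, 4, 2, 3, 0, 2, 1, 3, 4, 5, 6],
    [4, 5, 1, 3, 4, 2, 3, 0, 2, 1, 3, 4, 5, 6], [6, 5, 1, 3, 4, 2, 3, 0, 2, 1, 3, 4, 5, 6], [6, 4, 5, 3, 4, 2, 3, 0, 2, 1, 3, 4, 5, 6], [3, 4, 5, 1, 3, 4, 2, 3, 0, 2, 1, 3, 4, 5, 6],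
    [6, 4, 5, 1, 3, 4, 2, 3, 0, 2, 1, 3, 4, 5, 6], [5, 6, 4, 5, 3, 4, 2, 3, 0, 2, 1, 3, 4, 5, 6], [2, 3, 4, 5, 1, 3, 4, 2, 3, 0, 2, 1, 3, 4, 5, 6], [6, 3, 4, 5, 1, 3, 4, 2, 3, 0, 2, 1, 3, 4, 5, 6],
    [5, 6, 4, 5, 1, 3, 4, 2, 3, 0, 2, 1, 3, 4, 5, 6], [0, 2, 3, 4, 5, 1, 3, 4, 2, 3, 0, 2, 1, 3, 4, 5, 6], [6, 2, 3, 4, 5, 1, 3, 4, 2, 3, 0, 2, 1, 3, 4, 5, 6], [5, 6, 3, 4, 5, 1, 3, 4, 2, 3, 0, 2, 1, 3, 4, 5, 6],
    [6, 0, 2, 3, 4, 5, 1, 3, 4, 2, 3, 0, 2, 1, 3, 4, 5, 6], [5, 6, 2, 3, 4, 5, 1, 3, 4, 2, 3, 0, 2, 1, 3, 4, 5, 6], [4, 5, 6, 3, 4, 5, 1, 3, 4, 2, 3, 0, 2, 1, 3, 4, 5, 6], [5, 6, 0, 2, 3, 4, 5, 1, 3, 4, 2, 3, 0, 2, 1, 3, 4, 5, 6],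
    [4, 5, 6, 2, 3, 4, 5, 1, 3, 4, 2, 3, 0, 2, 1, 3, 4, 5, 6], [4, 5, 6, 0, 2, 3, 4, 5, 1, 3, 4, 2, 3, 0, 2, 1, 3, 4, 5, 6], [3, 4, 5, 6, 2, 3, 4, 5, 1, 3, 4, 2, 3, 0, 2, 1, 3, 4, 5, 6], [3, 4, 5, 6, 0, 2, 3, 4, 5, 1, 3, 4, 2, 3, 0, 2, 1, 3, 4, 5, 6],
    [1, 3, 4, 5, 6, 2, 3, 4, 5, 1, 3, 4, 2, 3, 0, 2, 1, 3, 4, 5, 6], [1, 3, 4, 5, 6, 0, 2, 3, 4, 5, 1, 3, 4, 2, 3, 0, 2, 1, 3, 4, 5, 6], [2, 3, 4, 5, 6, 0, 2, 3, 4, 5, 1, 3, 4, 2, 3, 0, 2, 1, 3, 4, 5, 6], [2, 1, 3, 4, 5, 6, 0, 2, 3, 4, 5, 1, 3, 4, 2, 3, 0, 2, 1, 3, 4, 5, 6],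
    [3, 2, 1, 3, 4, 5, 6, 0, 2, 3, 4, 5, 1, 3, 4, 2, 3, 0, 2, 1, 3, 4, 5, 6], [4, 3, 2, 1, 3, 4, 5, 6, 0, 2, 3, 4, 5, 1, 3, 4, 2, 3, 0, 2, 1, 3, 4, 5, 6], [5, 4, 3, 2, 1, 3, 4, 5, 6, 0, 2, 3, 4, 5, 1, 3, 4, 2, 3, 0, 2, 1, 3, 4, 5, 6], [6, 5, 4, 3, 2, 1, 3, 4, 5, 6, 0, 2, 3, 4, 5, 1, 3, 4, 2, 3, 0, 2, 1, 3, 4, 5, 6]]
  rk := [
    [0, 0, 0, 0, 0, 0, 0], [2, 2, 2, 2, 2, 0, 1], [3, 3, 3, 3, 0, 1, 2], [4, 4, 4, 0, 1, 3, 3], [5, 0, 0, 1, 4, 4, 4], [6, 1, 0, 5, 5, 5, 5], [0, 2, 1, 5, 5, 5, 5], [0, 3, 1, 0, 6, 6, 6],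
    [1, 4, 6, 6, 6, 6, 6], [1, 3, 7, 0, 7, 7, 7], [2, 6, 6, 1, 0, 7, 7], [3, 7, 0, 1, 0, 8, 8], [4, 7, 7, 7, 1, 0, 8], [7, 8, 1, 8, 0, 9, 9], [5, 8, 2, 8, 1, 0, 9], [6, 8, 8, 8, 8, 1, 0],
    [8, 9, 3, 0, 1, 0, 10], [7, 9, 4, 9, 9, 1, 0], [8, 9, 9, 9, 9, 9, 1], [9, 0, 9, 1, 9, 0, 11], [9, 10, 5, 2, 10, 1, 0], [9, 10, 6, 10, 10, 10, 1], [10, 1, 10, 10, 10, 0, 12], [10, 2, 10, 3, 0, 1, 0],
    [10, 11, 7, 4, 11, 11, 1], [11, 3, 11, 11, 0, 1, 0], [11, 4, 11, 11, 1, 10, 0], [11, 4, 11, 5, 2, 12, 1], [12, 5, 12, 0, 1, 11, 0], [12, 5, 12, 12, 2, 13, 1], [12, 6, 12, 12, 3, 0, 1], [13, 12, 0, 1, 12, 12, 0],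
    [13, 7, 13, 2, 3, 0, 1], [13, 8, 13, 13, 13, 1, 11], [0, 13, 1, 13, 13, 13, 0], [14, 13, 2, 3, 13, 0, 1], [14, 9, 14, 4, 14, 1, 12], [1, 14, 14, 14, 14, 14, 0], [2, 14, 3, 14, 14, 0, 1], [15, 14, 4, 5, 0, 1, 13],
    [3, 15, 15, 15, 15, 0, 1], [4, 15, 5, 15, 0, 1, 14], [16, 15, 6, 15, 1, 14, 14], [5, 16, 16, 16, 0, 1, 15], [6, 16, 7, 0, 1, 15, 15], [7, 17, 17, 0, 1, 16, 16], [8, 0, 16, 1, 16, 16, 16], [9, 0, 0, 1, 17, 17, 17],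
    [10, 1, 17, 17, 17, 17, 17], [11, 1, 0, 18, 18, 18, 18], [17, 2, 1, 18, 18, 18, 18], [18, 3, 1, 0, 19, 19, 19], [19, 19, 19, 1, 0, 20, 20], [20, 20, 20, 20, 1, 0, 21], [21, 21, 21, 21, 21, 1, 0], [22, 22, 22, 22, 22, 22, 1]]
  just := [
    [.base, .base, .base, .base, .base, .base, .tree], [(.scan 0 0 6 1), (.scan 0 1 6 1), (.scan 0 2 6 1), (.scan 0 3 6 1), (.scan 0 4 6 1), .tree, .mirror],
    [(.scan 1 0 5 1), (.scan 1 1 5 1), (.scan 1 2 5 1), (.scan 1 3 5 1), .tree, .mirror, (.scan 0 5 6 2)], [(.scan 2 0 4 1), (.scan 2 1 4 1), (.scan 2 2 4 1), .tree, .mirror, (.scan 1 4 5 2), (.scan 2 4 6 2)],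
    [(.scan 3 0 3 1), .tree, .tree, .mirror, (.scan 2 3 4 2), (.scan 3 3 5 2), (.scan 3 3 6 2)], [(.scan 4 0 1 1), .mirror, .tree, (.scan 3 1 3 2), (.scan 4 1 4 2), (.scan 4 1 5 2), (.scan 4 1 6 2)],
    [.tree, (.scan 4 1 2 1), .mirror, (.scan 3 2 3 2), (.scan 4 2 4 2), (.scan 4 2 5 2), (.scan 4 2 6 2)], [.tree, .mirror, .mirror, .tree, (.scan 5 2 4 2), (.scan 5 2 5 2), (.scan 5 2 6 2)],
    [.mirror, .mirror, (.scan 4 0 2 2), (.scan 6 0 3 2), (.scan 6 0 4 2), (.scan 6 0 5 2), (.scan 6 0 6 2)], [.mirror, (.scan 6 0 1 2), (.scan 5 0 2 2), .tree, (.scan 7 0 4 2), (.scan 7 0 5 2), (.scan 7 0 6 2)],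
    [(.scan 7 0 3 1), (.scan 6 1 3 3), (.scan 5 2 3 3), .mirror, .tree, (.scan 7 3 5 2), (.scan 7 3 6 2)], [.mirror, (.scan 8 1 3 3), .tree, .mirror, .tree, (.scan 9 3 5 2), (.scan 9 3 6 2)],
    [(.scan 10 0 4 1), (.scan 10 1 4 1), (.scan 10 2 4 1), (.scan 7 3 4 3), .mirror, .tree, (.scan 10 4 6 2)], [(.scan 10 0 2 3), (.scan 11 1 2 1), .mirror, (.scan 9 2 3 2), .tree, (.scan 11 2 5 2), (.scan 11 2 6 2)],
    [.mirror, (.scan 11 1 4 1), (.scan 11 2 4 1), (.scan 9 3 4 3), .mirror, .tree, (.scan 11 4 6 2)], [(.scan 12 0 5 1), (.scan 12 1 5 1), (.scan 12 2 5 1), (.scan 12 3 5 1), (.scan 10 4 5 3), .mirror, .tree],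
    [(.scan 12 0 2 3), (.scan 13 1 4 1), .mirror, .tree, .mirror, .tree, (.scan 13 4 6 2)], [.mirror, (.scan 14 1 5 1), (.scan 14 2 5 1), (.scan 14 3 5 1), (.scan 11 4 5 3), .mirror, .tree],
    [(.scan 15 0 6 1), (.scan 15 1 6 1), (.scan 15 2 6 1), (.scan 15 3 6 1), (.scan 15 4 6 1), (.scan 12 5 6 3), .mirror], [(.scan 16 0 3 1), .tree, (.scan 14 2 3 3), .mirror, (.scan 13 3 4 2), .tree, (.scan 16 3 6 2)],
    [(.scan 15 0 2 3), (.scan 16 1 5 1), .mirror, (.scan 16 3 5 1), (.scan 13 4 5 3), .mirror, .tree], [.mirror, (.scan 17 1 6 1), (.scan 17 2 6 1), (.scan 17 3 6 1), (.scan 17 4 6 1), (.scan 14 5 6 3), .mirror],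
    [(.scan 19 0 1 1), .mirror, (.scan 19 1 2 2), (.scan 16 1 3 2), (.scan 19 1 4 2), .tree, (.scan 19 1 6 2)], [(.scan 19 0 5 1), (.scan 19 1 5 1), (.scan 17 2 3 3), .mirror, .tree, .mirror, .tree],
    [(.scan 18 0 2 3), (.scan 20 1 6 1), .mirror, (.scan 20 3 6 1), (.scan 20 4 6 1), (.scan 16 5 6 3), .mirror], [(.scan 22 0 5 1), .mirror, (.scan 22 2 5 1), (.scan 20 1 3 2), .tree, .mirror, .tree],
    [(.scan 23 0 4 1), (.scan 23 1 4 1), (.scan 23 2 4 1), (.scan 20 3 4 3), .mirror, (.scan 19 4 5 2), .tree], [(.scan 23 0 6 1), (.scan 23 1 6 1), (.scan 21 2 3 3), .mirror, (.scan 23 4 6 1), (.scan 19 5 6 3), .mirror],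
    [(.scan 25 0 4 1), .mirror, (.scan 25 2 4 1), .tree, .mirror, (.scan 22 4 5 2), .tree], [(.scan 25 0 6 1), .mirror, (.scan 25 2 6 1), (.scan 24 1 3 2), (.scan 25 4 6 1), (.scan 22 5 6 3), .mirror],
    [(.scan 26 0 6 1), (.scan 26 1 6 1), (.scan 26 2 6 1), (.scan 24 3 4 3), .mirror, .tree, .mirror], [(.scan 28 0 3 1), (.scan 26 1 3 3), .tree, .mirror, (.scan 25 3 4 2), (.scan 28 3 5 2), .tree],
    [(.scan 28 0 6 1), .mirror, (.scan 28 2 6 1), (.scan 28 3 6 1), .mirror, .tree, .mirror], [(.scan 30 0 5 1), (.scan 30 1 5 1), (.scan 30 2 5 1), (.scan 30 3 5 1), (.scan 27 4 5 3), .mirror, (.scan 26 5 6 2)],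
    [.tree, (.scan 31 1 2 1), .mirror, (.scan 28 2 3 2), (.scan 31 2 4 2), (.scan 31 2 5 2), .tree], [(.scan 31 0 6 1), (.scan 30 1 3 3), (.scan 31 2 6 1), .mirror, (.scan 29 3 4 2), .tree, .mirror],
    [(.scan 32 0 5 1), .mirror, (.scan 32 2 5 1), (.scan 32 3 5 1), (.scan 29 4 5 3), .mirror, (.scan 28 5 6 2)], [.mirror, (.scan 34 0 1 2), (.scan 31 0 2 2), (.scan 34 0 3 2), (.scan 34 0 4 2), (.scan 34 0 5 2), .tree],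
    [(.scan 34 0 6 1), (.scan 34 1 6 1), .mirror, (.scan 32 2 3 2), (.scan 34 4 6 1), .tree, .mirror], [(.scan 35 0 5 1), (.scan 33 1 3 3), (.scan 35 2 5 1), .mirror, .tree, .mirror, (.scan 31 5 6 2)],
    [.mirror, (.scan 37 1 6 1), (.scan 35 0 2 2), (.scan 37 3 6 1), (.scan 37 4 6 1), .tree, .mirror], [(.scan 38 0 5 1), (.scan 38 1 5 1), .mirror, (.scan 36 2 3 2), .tree, .mirror, (.scan 34 5 6 2)],
    [(.scan 39 0 4 1), (.scan 39 1 4 1), (.scan 39 2 4 1), (.scan 36 3 4 3), .mirror, (.scan 35 4 5 2), (.scan 39 4 6 2)], [.mirror, (.scan 40 1 5 1), (.scan 39 0 2 2), (.scan 40 3 5 1), .tree, .mirror, (.scan 37 5 6 2)],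
    [(.scan 41 0 4 1), (.scan 41 1 4 1), .mirror, .tree, .mirror, (.scan 38 4 5 2), (.scan 41 4 6 2)], [.mirror, (.scan 43 1 4 1), (.scan 42 0 2 2), .tree, .mirror, (.scan 40 4 5 2), (.scan 43 4 6 2)],
    [(.scan 44 0 3 1), .tree, (.scan 42 2 3 3), .mirror, (.scan 41 3 4 2), (.scan 44 3 5 2), (.scan 44 3 6 2)], [.mirror, .tree, .tree, .mirror, (.scan 43 3 4 2), (.scan 45 3 5 2), (.scan 45 3 6 2)],
    [(.scan 46 0 1 1), .mirror, (.scan 46 1 2 2), (.scan 44 1 3 2), (.scan 46 1 4 2), (.scan 46 1 5 2), (.scan 46 1 6 2)], [.mirror, .mirror, .tree, (.scan 45 1 3 2), (.scan 47 1 4 2), (.scan 47 1 5 2), (.scan 47 1 6 2)],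
    [(.scan 46 0 2 3), (.scan 47 1 2 1), .mirror, (.scan 45 2 3 2), (.scan 47 2 4 2), (.scan 47 2 5 2), (.scan 47 2 6 2)], [(.scan 48 0 2 3), .mirror, .mirror, .tree, (.scan 49 2 4 2), (.scan 49 2 5 2), (.scan 49 2 6 2)],
    [(.scan 51 0 3 1), (.scan 50 1 3 3), (.scan 49 2 3 3), .mirror, .tree, (.scan 51 3 5 2), (.scan 51 3 6 2)], [(.scan 52 0 4 1), (.scan 52 1 4 1), (.scan 52 2 4 1), (.scan 51 3 4 3), .mirror, .tree, (.scan 52 4 6 2)],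
    [(.scan 53 0 5 1), (.scan 53 1 5 1), (.scan 53 2 5 1), (.scan 53 3 5 1), (.scan 52 4 5 3), .mirror, .tree], [(.scan 54 0 6 1), (.scan 54 1 6 1), (.scan 54 2 6 1), (.scan 54 3 6 1), (.scan 54 4 6 1), (.scan 53 5 6 3), .mirror]]

theorem hc7 : cert7.check matf (fun i => decide (i < 6)) = true := by decide +kernel

def pts7 : List (List ℕ) := [
    [8, 8, 8, 8, 8, 8, 9], [8, 8, 8, 8, 8, 9, 7], [8, 8, 8, 8, 9, 7, 8], [8, 8, 8, 9, 7, 8, 8], [8, 9, 9, 7, 8, 8, 8], [8, 7, 9, 8, 8, 8, 8], [9, 9, 7, 8, 8, 8, 8], [9, 7, 7, 9, 8, 8, 8],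
    [7, 9, 8, 8, 8, 8, 8], [7, 7, 8, 9, 8, 8, 8], [9, 8, 8, 7, 9, 8, 8], [7, 8, 9, 7, 9, 8, 8], [9, 8, 8, 8, 7, 9, 8], [8, 8, 7, 8, 9, 8, 8], [7, 8, 9, 8, 7, 9, 8], [9, 8, 8, 8, 8, 7, 9],
    [8, 8, 7, 9, 7, 9, 8], [7, 8, 9, 8, 8, 7, 9], [9, 8, 8, 8, 8, 8, 7], [8, 9, 8, 7, 8, 9, 8], [8, 8, 7, 9, 8, 7, 9], [7, 8, 9, 8, 8, 8, 7], [8, 7, 8, 8, 8, 9, 8], [8, 9, 8, 7, 9, 7, 9],
    [8, 8, 7, 9, 8, 8, 7], [8, 7, 8, 8, 9, 7, 9], [8, 9, 8, 8, 7, 8, 9], [8, 9, 8, 7, 9, 8, 7], [8, 7, 8, 9, 7, 8, 9], [8, 7, 8, 8, 9, 8, 7], [8, 9, 8, 8, 7, 9, 7], [8, 8, 9, 7, 8, 8, 9],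
    [8, 7, 8, 9, 7, 9, 7], [8, 9, 8, 8, 8, 7, 8], [9, 8, 7, 8, 8, 8, 9], [8, 8, 9, 7, 8, 9, 7], [8, 7, 8, 9, 8, 7, 8], [7, 8, 8, 8, 8, 8, 9], [9, 8, 7, 8, 8, 9, 7], [8, 8, 9, 7, 9, 7, 8],
    [7, 8, 8, 8, 8, 9, 7], [9, 8, 7, 8, 9, 7, 8], [8, 8, 9, 8, 7, 8, 8], [7, 8, 8, 8, 9, 7, 8], [9, 8, 7, 9, 7, 8, 8], [7, 8, 8, 9, 7, 8, 8], [9, 9, 8, 7, 8, 8, 8], [7, 9, 9, 7, 8, 8, 8],
    [9, 7, 8, 8, 8, 8, 8], [7, 7, 9, 8, 8, 8, 8], [8, 9, 7, 8, 8, 8, 8], [8, 7, 7, 9, 8, 8, 8], [8, 8, 8, 7, 9, 8, 8], [8, 8, 8, 8, 7, 9, 8], [8, 8, 8, 8, 8, 7, 9], [8, 8, 8, 8, 8, 8, 7]]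

def par7 : List (ℕ × ℕ) := [
    (0, 0), (0, 6), (1, 5), (2, 4), (3, 3), (4, 1), (4, 2), (5, 2), (6, 0), (7, 0), (7, 3), (9, 3),
    (10, 4), (11, 2), (11, 4), (12, 5), (13, 4), (14, 5), (15, 6), (16, 3), (16, 5), (17, 6), (19, 1), (19, 5),
    (20, 6), (22, 5), (23, 4), (23, 6), (25, 4), (25, 6), (26, 6), (28, 3), (28, 6), (30, 5), (31, 2), (31, 6),
    (32, 5), (34, 0), (34, 6), (35, 5), (37, 6), (38, 5), (39, 4), (40, 5), (41, 4), (43, 4), (44, 3), (45, 3),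
    (46, 1), (47, 1), (47, 2), (49, 2), (51, 3), (52, 4), (53, 5), (54, 6)]

theorem ho7 : OrbOK 7 cartL 6 pts7 par7 := by decide +kernel

theorem ub7 : Finite (truncTo CoxeterMatrix.E₇ 7 (by decide)).Group ∧
    Nat.card (truncTo CoxeterMatrix.E₇ 7 (by decide)).Group ≤ 2903040 :=
  ub_step CoxeterMatrix.E₇ 6 (by decide) cert7 rfl matf hmat hc7 51840 ub6

theorem lb7 : 2903040 ≤ Nat.card (G (hsq_of_hR CoxeterMatrix.E₇ hR) 7) :=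
  lbG_step (hsq_of_hR CoxeterMatrix.E₇ hR) 6 (by decide) 51840 lb6 pts7 par7 ho7
    (finite_G CoxeterMatrix.E₇ hR 7 (by decide) ub7.1)

theorem card7 : Nat.card (truncTo CoxeterMatrix.E₇ 7 (by decide)).Group = 2903040 :=
  (card_eq_and_injective CoxeterMatrix.E₇ hR 7 (by decide) 2903040 ub7 lb7).1

theorem inj7 : Function.Injective (rho CoxeterMatrix.E₇ hR 7 (by decide)) :=
  (card_eq_and_injective CoxeterMatrix.E₇ hR 7 (by decide) 2903040 ub7 lb7).2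

theorem cpow7 : (((List.range 7).map (reflM 7 cartL)).prod) ^ 18 = 1 := by decide +kernel

theorem cne7_2 : (((List.range 7).map (reflM 7 cartL)).prod) ^ 9 ≠ 1 := by decide +kernel

theorem cne7_3 : (((List.range 7).map (reflM 7 cartL)).prod) ^ 6 ≠ 1 := by decide +kernel

theorem cox7 : orderOf ((List.finRange 7).map (truncTo CoxeterMatrix.E₇ 7 (by decide)).simple).prod = 18 := by
  refine orderOf_coxeter CoxeterMatrix.E₇ hR 7 (by decide) inj7 18 (by decide) cpow7 ?_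
  intro p hp hpd
  have hle : p ≤ 18 := Nat.le_of_dvd (by decide) hpd
  have hmem : p ∈ ([2, 3] : List ℕ) := by
    interval_cases p <;> first | (exfalso; revert hp; decide) | (exfalso; revert hpd; decide) | decide
  simp only [List.mem_cons, List.mem_nil_iff, or_false] at hmem
  rcases hmem with rfl | rfl
  · exact cne7_2
  · exact cne7_3

end Cfsg.Agent.Lib.helper19_CoxE7
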