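import Mathlib
import Cfsg.Agent.Lib.helper19_CoxRefl

/-!
Certificates for the order of the Coxeter group of type E8 and of its parabolic subgroups on
the first `k` nodes (coset tables for the upper bounds, orbits of the integral reflection
representation for the lower bounds), generated by a script.  By helper19.
-/

set_option autoImplicit false
set_option maxRecDepth 1000000

namespace Cfsg.Agent.Lib.helper19_CoxE8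

open Cfsg.Agent.Lib.helper19_TC Cfsg.Agent.Lib.helper19_CoxChain Cfsg.Agent.Lib.helper19_CoxRefl

/-- the Coxeter matrix, as a list of rows. -/
def matL : List (List ℕ) := [[1, 2, 3, 2, 2, 2, 2, 2], [2, 1, 2, 3, 2, 2, 2, 2], [3, 2, 1, 3, 2, 2, 2, 2], [2, 3, 3, 1, 3, 2, 2, 2], [2, 2, 2, 3, 1, 3, 2, 2], [2, 2, 2, 2, 3, 1, 3, 2], [2, 2, 2, 2, 2, 3, 1, 3], [2, 2, 2, 2, 2, 2, 3, 1]]

/-- the entries of the Coxeter matrix, as a function on `ℕ`. -/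
def matf (i j : ℕ) : ℕ := (matL.getD i []).getD j 0

/-- the Cartan matrix. -/
def cartL : List (List ℤ) := [[2, 0, -1, 0, 0, 0, 0, 0], [0, 2, 0, -1, 0, 0, 0, 0], [-1, 0, 2, -1, 0, 0, 0, 0], [0, -1, -1, 2, -1, 0, 0, 0], [0, 0, 0, -1, 2, -1, 0, 0], [0, 0, 0, 0, -1, 2, -1, 0], [0, 0, 0, 0, 0, -1, 2, -1], [0, 0, 0, 0, 0, 0, -1, 2]]

theorem hmat : ∀ i j : Fin 8, CoxeterMatrix.E₈ i j = matf i j := by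
  have h : ∀ p : Fin 8 × Fin 8, CoxeterMatrix.E₈ p.1 p.2 = matf p.1 p.2 := by decide +kernel
  exact fun i j => h (i, j)

theorem hR : ∀ i j : Fin 8, (reflM 8 cartL i * reflM 8 cartL j) ^ CoxeterMatrix.E₈ i j = 1 := by
  decide +kernel

/-! ### level 1: index 2, order 2 -/

def cert1 : Cert where
  k := 1
  N := 2
  tbl := [
    [1], [0]]
  words := [
    [], [0]]
  rk := [
    [0], [1]]
  just := [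
    [.tree], [.mirror]]

theorem hc1 : cert1.check matf (fun i => decide (i < 0)) = true := by decide +kernel

def pts1 : List (List ℕ) := [
    [9, 8, 8, 8, 8, 8, 8, 8], [7, 8, 9, 8, 8, 8, 8, 8]]

def par1 : List (ℕ × ℕ) := [
    (0, 0), (0, 0)]

theorem ho1 : OrbOK 8 cartL 0 pts1 par1 := by decide +kernel

theorem ub1 : Finite (truncTo CoxeterMatrix.E₈ 1 (by decide)).Group ∧
    Nat.card (truncTo CoxeterMatrix.E₈ 1 (by decide)).Group ≤ 2 :=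
  ub_step CoxeterMatrix.E₈ 0 (by decide) cert1 rfl matf hmat hc1 1 (ub_zero CoxeterMatrix.E₈)

theorem lb1 : 2 ≤ Nat.card (G (hsq_of_hR CoxeterMatrix.E₈ hR) 1) :=
  lbG_step (hsq_of_hR CoxeterMatrix.E₈ hR) 0 (by decide) 1 (lbG_zero (hsq_of_hR CoxeterMatrix.E₈ hR)) pts1 par1 ho1
    (finite_G CoxeterMatrix.E₈ hR 1 (by decide) ub1.1)

theorem card1 : Nat.card (truncTo CoxeterMatrix.E₈ 1 (by decide)).Group = 2 :=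
  (card_eq_and_injective CoxeterMatrix.E₈ hR 1 (by decide) 2 ub1 lb1).1

theorem inj1 : Function.Injective (rho CoxeterMatrix.E₈ hR 1 (by decide)) :=
  (card_eq_and_injective CoxeterMatrix.E₈ hR 1 (by decide) 2 ub1 lb1).2

/-! ### level 2: index 2, order 4 -/

def cert2 : Cert where
  k := 2
  N := 2
  tbl := [
    [0, 1], [1, 0]]
  words := [
    [], [1]]
  rk := [
    [0, 0], [2, 1]]
  just := [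
    [.base, .tree], [(.scan 0 0 1 1), .mirror]]

theorem hc2 : cert2.check matf (fun i => decide (i < 1)) = true := by decide +kernel

def pts2 : List (List ℕ) := [
    [8, 9, 8, 8, 8, 8, 8, 8], [8, 7, 8, 9, 8, 8, 8, 8]]

def par2 : List (ℕ × ℕ) := [
    (0, 0), (0, 1)]

theorem ho2 : OrbOK 8 cartL 1 pts2 par2 := by decide +kernel

theorem ub2 : Finite (truncTo CoxeterMatrix.E₈ 2 (by decide)).Group ∧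
    Nat.card (truncTo CoxeterMatrix.E₈ 2 (by decide)).Group ≤ 4 :=
  ub_step CoxeterMatrix.E₈ 1 (by decide) cert2 rfl matf hmat hc2 2 ub1

theorem lb2 : 4 ≤ Nat.card (G (hsq_of_hR CoxeterMatrix.E₈ hR) 2) :=
  lbG_step (hsq_of_hR CoxeterMatrix.E₈ hR) 1 (by decide) 2 lb1 pts2 par2 ho2
    (finite_G CoxeterMatrix.E₈ hR 2 (by decide) ub2.1)

theorem card2 : Nat.card (truncTo CoxeterMatrix.E₈ 2 (by decide)).Group = 4 :=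
  (card_eq_and_injective CoxeterMatrix.E₈ hR 2 (by decide) 4 ub2 lb2).1

theorem inj2 : Function.Injective (rho CoxeterMatrix.E₈ hR 2 (by decide)) :=
  (card_eq_and_injective CoxeterMatrix.E₈ hR 2 (by decide) 4 ub2 lb2).2

/-! ### level 3: index 3, order 12 -/

def cert3 : Cert where
  k := 3
  N := 3
  tbl := [
    [0, 0, 1], [2, 1, 0], [1, 2, 2]]
  words := [
    [], [2], [0, 2]]
  rk := [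
    [0, 0, 0], [0, 2, 1], [1, 3, 2]]
  just := [
    [.base, .base, .tree], [.tree, (.scan 0 1 2 1), .mirror],
    [.mirror, (.scan 1 0 1 2), (.scan 0 0 2 2)]]

theorem hc3 : cert3.check matf (fun i => decide (i < 2)) = true := by decide +kernel

def pts3 : List (List ℕ) := [
    [8, 8, 9, 8, 8, 8, 8, 8], [9, 8, 7, 9, 8, 8, 8, 8], [7, 8, 8, 9, 8, 8, 8, 8]]

def par3 : List (ℕ × ℕ) := [
    (0, 0), (0, 2), (1, 0)]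

theorem ho3 : OrbOK 8 cartL 2 pts3 par3 := by decide +kernel

theorem ub3 : Finite (truncTo CoxeterMatrix.E₈ 3 (by decide)).Group ∧
    Nat.card (truncTo CoxeterMatrix.E₈ 3 (by decide)).Group ≤ 12 :=
  ub_step CoxeterMatrix.E₈ 2 (by decide) cert3 rfl matf hmat hc3 4 ub2

theorem lb3 : 12 ≤ Nat.card (G (hsq_of_hR CoxeterMatrix.E₈ hR) 3) :=
  lbG_step (hsq_of_hR CoxeterMatrix.E₈ hR) 2 (by decide) 4 lb2 pts3 par3 ho3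
    (finite_G CoxeterMatrix.E₈ hR 3 (by decide) ub3.1)

theorem card3 : Nat.card (truncTo CoxeterMatrix.E₈ 3 (by decide)).Group = 12 :=
  (card_eq_and_injective CoxeterMatrix.E₈ hR 3 (by decide) 12 ub3 lb3).1

theorem inj3 : Function.Injective (rho CoxeterMatrix.E₈ hR 3 (by decide)) :=
  (card_eq_and_injective CoxeterMatrix.E₈ hR 3 (by decide) 12 ub3 lb3).2

/-! ### level 4: index 10, order 120 -/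

def cert4 : Cert where
  k := 4
  N := 10
  tbl := [
    [0, 0, 0, 1], [1, 2, 3, 0], [2, 1, 4, 2], [5, 4, 1, 3], [6, 3, 2, 7], [3, 6, 5, 5], [4, 5, 6, 8], [8, 7, 7, 4],
    [7, 8, 9, 6], [9, 9, 8, 9]]
  words := [
    [], [3], [1, 3], [2, 3],
    [2, 1, 3], [0, 2, 3], [0, 2, 1, 3], [3, 2, 1, 3],
    [3, 0, 2, 1, 3], [2, 3, 0, 2, 1, 3]]
  rk := [
    [0, 0, 0, 0], [2, 0, 0, 1], [3, 1, 0, 2], [0, 2, 1, 2], [0, 3, 1, 0], [1, 4, 3, 3], [1, 3, 4, 0], [2, 4, 3, 1],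
    [3, 5, 0, 1], [4, 6, 1, 5]]
  just := [
    [.base, .base, .base, .tree], [(.scan 0 0 3 1), .tree, .tree, .mirror],
    [(.scan 1 0 1 1), .mirror, .tree, (.scan 0 1 3 2)], [.tree, (.scan 1 1 2 1), .mirror, (.scan 0 2 3 2)],
    [.tree, .mirror, .mirror, .tree], [.mirror, .mirror, (.scan 1 0 2 2), (.scan 3 0 3 2)],
    [.mirror, (.scan 3 0 1 2), (.scan 2 0 2 2), .tree], [(.scan 4 0 3 1), (.scan 3 1 3 3), (.scan 2 2 3 3), .mirror],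
    [.mirror, (.scan 5 1 3 3), .tree, .mirror], [(.scan 7 0 2 3), (.scan 8 1 2 1), .mirror, (.scan 6 2 3 2)]]

theorem hc4 : cert4.check matf (fun i => decide (i < 3)) = true := by decide +kernel

def pts4 : List (List ℕ) := [
    [8, 8, 8, 9, 8, 8, 8, 8], [8, 9, 9, 7, 9, 8, 8, 8], [8, 7, 9, 8, 9, 8, 8, 8], [9, 9, 7, 8, 9, 8, 8, 8], [9, 7, 7, 9, 9, 8, 8, 8], [7, 9, 8, 8, 9, 8, 8, 8], [7, 7, 8, 9, 9, 8, 8, 8], [9, 8, 8, 7, 10, 8, 8, 8],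
    [7, 8, 9, 7, 10, 8, 8, 8], [8, 8, 7, 8, 10, 8, 8, 8]]

def par4 : List (ℕ × ℕ) := [
    (0, 0), (0, 3), (1, 1), (1, 2), (2, 2), (3, 0), (4, 0), (4, 3), (6, 3), (8, 2)]

theorem ho4 : OrbOK 8 cartL 3 pts4 par4 := by decide +kernel

theorem ub4 : Finite (truncTo CoxeterMatrix.E₈ 4 (by decide)).Group ∧
    Nat.card (truncTo CoxeterMatrix.E₈ 4 (by decide)).Group ≤ 120 :=
  ub_step CoxeterMatrix.E₈ 3 (by decide) cert4 rfl matf hmat hc4 12 ub3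

theorem lb4 : 120 ≤ Nat.card (G (hsq_of_hR CoxeterMatrix.E₈ hR) 4) :=
  lbG_step (hsq_of_hR CoxeterMatrix.E₈ hR) 3 (by decide) 12 lb3 pts4 par4 ho4
    (finite_G CoxeterMatrix.E₈ hR 4 (by decide) ub4.1)

theorem card4 : Nat.card (truncTo CoxeterMatrix.E₈ 4 (by decide)).Group = 120 :=
  (card_eq_and_injective CoxeterMatrix.E₈ hR 4 (by decide) 120 ub4 lb4).1

theorem inj4 : Function.Injective (rho CoxeterMatrix.E₈ hR 4 (by decide)) :=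
  (card_eq_and_injective CoxeterMatrix.E₈ hR 4 (by decide) 120 ub4 lb4).2

/-! ### level 5: index 16, order 1920 -/

def cert5 : Cert where
  k := 5
  N := 16
  tbl := [
    [0, 0, 0, 0, 1], [1, 1, 1, 2, 0], [2, 3, 4, 1, 2], [3, 2, 5, 3, 3], [6, 5, 2, 4, 4], [7, 4, 3, 8, 5], [4, 7, 6, 6, 6], [5, 6, 7, 9, 7],
    [9, 8, 8, 5, 10], [8, 9, 11, 7, 12], [12, 10, 10, 10, 8], [11, 11, 9, 11, 13], [10, 12, 13, 12, 9], [13, 13, 12, 14, 11], [14, 15, 14, 13, 14], [15, 14, 15, 15, 15]]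
  words := [
    [], [4], [3, 4], [1, 3, 4],
    [2, 3, 4], [2, 1, 3, 4], [0, 2, 3, 4], [0, 2, 1, 3, 4],
    [3, 2, 1, 3, 4], [3, 0, 2, 1, 3, 4], [4, 3, 2, 1, 3, 4], [2, 3, 0, 2, 1, 3, 4],
    [4, 3, 0, 2, 1, 3, 4], [4, 2, 3, 0, 2, 1, 3, 4], [3, 4, 2, 3, 0, 2, 1, 3, 4], [1, 3, 4, 2, 3, 0, 2, 1, 3, 4]]
  rk := [
    [0, 0, 0, 0, 0], [2, 2, 2, 0, 1], [3, 0, 0, 1, 2], [4, 1, 0, 3, 3], [0, 2, 1, 3, 3], [0, 3, 1, 0, 4], [1, 4, 4, 4, 4], [1, 3, 5, 0, 5],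
    [2, 4, 4, 1, 0], [3, 5, 0, 1, 0], [4, 5, 5, 5, 1], [5, 6, 1, 6, 0], [5, 6, 2, 6, 1], [6, 7, 3, 0, 1], [7, 0, 7, 1, 7], [8, 1, 8, 8, 8]]
  just := [
    [.base, .base, .base, .base, .tree], [(.scan 0 0 4 1), (.scan 0 1 4 1), (.scan 0 2 4 1), .tree, .mirror],
    [(.scan 1 0 3 1), .tree, .tree, .mirror, (.scan 0 3 4 2)], [(.scan 2 0 1 1), .mirror, .tree, (.scan 1 1 3 2), (.scan 2 1 4 2)],
    [.tree, (.scan 2 1 2 1), .mirror, (.scan 1 2 3 2), (.scan 2 2 4 2)], [.tree, .mirror, .mirror, .tree, (.scan 3 2 4 2)],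
    [.mirror, .mirror, (.scan 2 0 2 2), (.scan 4 0 3 2), (.scan 4 0 4 2)], [.mirror, (.scan 4 0 1 2), (.scan 3 0 2 2), .tree, (.scan 5 0 4 2)],
    [(.scan 5 0 3 1), (.scan 4 1 3 3), (.scan 3 2 3 3), .mirror, .tree], [.mirror, (.scan 6 1 3 3), .tree, .mirror, .tree],
    [(.scan 8 0 4 1), (.scan 8 1 4 1), (.scan 8 2 4 1), (.scan 5 3 4 3), .mirror], [(.scan 8 0 2 3), (.scan 9 1 2 1), .mirror, (.scan 7 2 3 2), .tree],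
    [.mirror, (.scan 9 1 4 1), (.scan 9 2 4 1), (.scan 7 3 4 3), .mirror], [(.scan 10 0 2 3), (.scan 11 1 4 1), .mirror, .tree, .mirror],
    [(.scan 13 0 3 1), .tree, (.scan 12 2 3 3), .mirror, (.scan 11 3 4 2)], [(.scan 14 0 1 1), .mirror, (.scan 14 1 2 2), (.scan 13 1 3 2), (.scan 14 1 4 2)]]

theorem hc5 : cert5.check matf (fun i => decide (i < 4)) = true := by decide +kernel

def pts5 : List (List ℕ) := [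
    [8, 8, 8, 8, 9, 8, 8, 8], [8, 8, 8, 9, 7, 9, 8, 8], [8, 9, 9, 7, 8, 9, 8, 8], [8, 7, 9, 8, 8, 9, 8, 8], [9, 9, 7, 8, 8, 9, 8, 8], [9, 7, 7, 9, 8, 9, 8, 8], [7, 9, 8, 8, 8, 9, 8, 8], [7, 7, 8, 9, 8, 9, 8, 8],
    [9, 8, 8, 7, 9, 9, 8, 8], [7, 8, 9, 7, 9, 9, 8, 8], [9, 8, 8, 8, 7, 10, 8, 8], [8, 8, 7, 8, 9, 9, 8, 8], [7, 8, 9, 8, 7, 10, 8, 8], [8, 8, 7, 9, 7, 10, 8, 8], [8, 9, 8, 7, 8, 10, 8, 8], [8, 7, 8, 8, 8, 10, 8, 8]]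

def par5 : List (ℕ × ℕ) := [
    (0, 0), (0, 4), (1, 3), (2, 1), (2, 2), (3, 2), (4, 0), (5, 0), (5, 3), (7, 3), (8, 4), (9, 2),
    (9, 4), (11, 4), (13, 3), (14, 1)]

theorem ho5 : OrbOK 8 cartL 4 pts5 par5 := by decide +kernel

theorem ub5 : Finite (truncTo CoxeterMatrix.E₈ 5 (by decide)).Group ∧
    Nat.card (truncTo CoxeterMatrix.E₈ 5 (by decide)).Group ≤ 1920 :=
  ub_step CoxeterMatrix.E₈ 4 (by decide) cert5 rfl matf hmat hc5 120 ub4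

theorem lb5 : 1920 ≤ Nat.card (G (hsq_of_hR CoxeterMatrix.E₈ hR) 5) :=
  lbG_step (hsq_of_hR CoxeterMatrix.E₈ hR) 4 (by decide) 120 lb4 pts5 par5 ho5
    (finite_G CoxeterMatrix.E₈ hR 5 (by decide) ub5.1)

theorem card5 : Nat.card (truncTo CoxeterMatrix.E₈ 5 (by decide)).Group = 1920 :=
  (card_eq_and_injective CoxeterMatrix.E₈ hR 5 (by decide) 1920 ub5 lb5).1

theorem inj5 : Function.Injective (rho CoxeterMatrix.E₈ hR 5 (by decide)) :=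
  (card_eq_and_injective CoxeterMatrix.E₈ hR 5 (by decide) 1920 ub5 lb5).2

/-! ### level 6: index 27, order 51840 -/

def cert6 : Cert where
  k := 6
  N := 27
  tbl := [
    [0, 0, 0, 0, 0, 1], [1, 1, 1, 1, 2, 0], [2, 2, 2, 3, 1, 2], [3, 4, 5, 2, 3, 3], [4, 3, 6, 4, 4, 4], [7, 6, 3, 5, 5, 5], [8, 5, 4, 9, 6, 6], [5, 8, 7, 7, 7, 7],
    [6, 7, 8, 10, 8, 8], [10, 9, 9, 6, 11, 9], [9, 10, 12, 8, 13, 10], [13, 11, 11, 11, 9, 14], [12, 12, 10, 12, 15, 12], [11, 13, 15, 13, 10, 16], [16, 14, 14, 14, 14, 11], [15, 15, 13, 17, 12, 18],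
    [14, 16, 18, 16, 16, 13], [17, 19, 17, 15, 17, 20], [18, 18, 16, 20, 18, 15], [19, 17, 19, 19, 19, 21], [20, 21, 20, 18, 22, 17], [21, 20, 21, 21, 23, 19], [22, 23, 22, 22, 20, 22], [23, 22, 23, 24, 21, 23],
    [24, 24, 25, 23, 24, 24], [26, 25, 24, 25, 25, 25], [25, 26, 26, 26, 26, 26]]
  words := [
    [], [5], [4, 5], [3, 4, 5],
    [1, 3, 4, 5], [2, 3, 4, 5], [2, 1, 3, 4, 5], [0, 2, 3, 4, 5],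
    [0, 2, 1, 3, 4, 5], [3, 2, 1, 3, 4, 5], [3, 0, 2, 1, 3, 4, 5], [4, 3, 2, 1, 3, 4, 5],
    [2, 3, 0, 2, 1, 3, 4, 5], [4, 3, 0, 2, 1, 3, 4, 5], [5, 4, 3, 2, 1, 3, 4, 5], [4, 2, 3, 0, 2, 1, 3, 4, 5],
    [5, 4, 3, 0, 2, 1, 3, 4, 5], [3, 4, 2, 3, 0, 2, 1, 3, 4, 5], [5, 4, 2, 3, 0, 2, 1, 3, 4, 5], [1, 3, 4, 2, 3, 0, 2, 1, 3, 4, 5],
    [5, 3, 4, 2, 3, 0, 2, 1, 3, 4, 5], [5, 1, 3, 4, 2, 3, 0, 2, 1, 3, 4, 5], [4, 5, 3, 4, 2, 3, 0, 2, 1, 3, 4, 5], [4, 5, 1, 3, 4, 2, 3, 0, 2, 1, 3, 4, 5],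
    [3, 4, 5, 1, 3, 4, 2, 3, 0, 2, 1, 3, 4, 5], [2, 3, 4, 5, 1, 3, 4, 2, 3, 0, 2, 1, 3, 4, 5], [0, 2, 3, 4, 5, 1, 3, 4, 2, 3, 0, 2, 1, 3, 4, 5]]
  rk := [
    [0, 0, 0, 0, 0, 0], [2, 2, 2, 2, 0, 1], [3, 3, 3, 0, 1, 2], [4, 0, 0, 1, 3, 3], [5, 1, 0, 4, 4, 4], [0, 2, 1, 4, 4, 4], [0, 3, 1, 0, 5, 5], [1, 4, 5, 5, 5, 5],
    [1, 3, 6, 0, 6, 6], [2, 5, 5, 1, 0, 6], [3, 6, 0, 1, 0, 7], [4, 6, 6, 6, 1, 0], [6, 7, 1, 7, 0, 8], [5, 7, 2, 7, 1, 0], [6, 7, 7, 7, 7, 1], [7, 8, 3, 0, 1, 0],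
    [7, 8, 4, 8, 8, 1], [8, 0, 8, 1, 8, 0], [8, 9, 5, 2, 9, 1], [9, 1, 9, 9, 9, 0], [9, 2, 9, 3, 0, 1], [10, 3, 10, 10, 0, 1], [10, 4, 10, 10, 1, 9], [11, 5, 11, 0, 1, 10],
    [12, 11, 0, 1, 11, 11], [0, 12, 1, 12, 12, 12], [1, 13, 13, 13, 13, 13]]
  just := [
    [.base, .base, .base, .base, .base, .tree], [(.scan 0 0 5 1), (.scan 0 1 5 1), (.scan 0 2 5 1), (.scan 0 3 5 1), .tree, .mirror],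
    [(.scan 1 0 4 1), (.scan 1 1 4 1), (.scan 1 2 4 1), .tree, .mirror, (.scan 0 4 5 2)], [(.scan 2 0 3 1), .tree, .tree, .mirror, (.scan 1 3 4 2), (.scan 2 3 5 2)],
    [(.scan 3 0 1 1), .mirror, .tree, (.scan 2 1 3 2), (.scan 3 1 4 2), (.scan 3 1 5 2)], [.tree, (.scan 3 1 2 1), .mirror, (.scan 2 2 3 2), (.scan 3 2 4 2), (.scan 3 2 5 2)],
    [.tree, .mirror, .mirror, .tree, (.scan 4 2 4 2), (.scan 4 2 5 2)], [.mirror, .mirror, (.scan 3 0 2 2), (.scan 5 0 3 2), (.scan 5 0 4 2), (.scan 5 0 5 2)],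
    [.mirror, (.scan 5 0 1 2), (.scan 4 0 2 2), .tree, (.scan 6 0 4 2), (.scan 6 0 5 2)], [(.scan 6 0 3 1), (.scan 5 1 3 3), (.scan 4 2 3 3), .mirror, .tree, (.scan 6 3 5 2)],
    [.mirror, (.scan 7 1 3 3), .tree, .mirror, .tree, (.scan 8 3 5 2)], [(.scan 9 0 4 1), (.scan 9 1 4 1), (.scan 9 2 4 1), (.scan 6 3 4 3), .mirror, .tree],
    [(.scan 9 0 2 3), (.scan 10 1 2 1), .mirror, (.scan 8 2 3 2), .tree, (.scan 10 2 5 2)], [.mirror, (.scan 10 1 4 1), (.scan 10 2 4 1), (.scan 8 3 4 3), .mirror, .tree],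
    [(.scan 11 0 5 1), (.scan 11 1 5 1), (.scan 11 2 5 1), (.scan 11 3 5 1), (.scan 9 4 5 3), .mirror], [(.scan 11 0 2 3), (.scan 12 1 4 1), .mirror, .tree, .mirror, .tree],
    [.mirror, (.scan 13 1 5 1), (.scan 13 2 5 1), (.scan 13 3 5 1), (.scan 10 4 5 3), .mirror], [(.scan 15 0 3 1), .tree, (.scan 13 2 3 3), .mirror, (.scan 12 3 4 2), .tree],
    [(.scan 14 0 2 3), (.scan 15 1 5 1), .mirror, (.scan 15 3 5 1), (.scan 12 4 5 3), .mirror], [(.scan 17 0 1 1), .mirror, (.scan 17 1 2 2), (.scan 15 1 3 2), (.scan 17 1 4 2), .tree],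
    [(.scan 17 0 5 1), (.scan 17 1 5 1), (.scan 16 2 3 3), .mirror, .tree, .mirror], [(.scan 19 0 5 1), .mirror, (.scan 19 2 5 1), (.scan 18 1 3 2), .tree, .mirror],
    [(.scan 20 0 4 1), (.scan 20 1 4 1), (.scan 20 2 4 1), (.scan 18 3 4 3), .mirror, (.scan 17 4 5 2)], [(.scan 21 0 4 1), .mirror, (.scan 21 2 4 1), .tree, .mirror, (.scan 19 4 5 2)],
    [(.scan 23 0 3 1), (.scan 22 1 3 3), .tree, .mirror, (.scan 21 3 4 2), (.scan 23 3 5 2)], [.tree, (.scan 24 1 2 1), .mirror, (.scan 23 2 3 2), (.scan 24 2 4 2), (.scan 24 2 5 2)],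
    [.mirror, (.scan 25 0 1 2), (.scan 24 0 2 2), (.scan 25 0 3 2), (.scan 25 0 4 2), (.scan 25 0 5 2)]]

theorem hc6 : cert6.check matf (fun i => decide (i < 5)) = true := by decide +kernel

def pts6 : List (List ℕ) := [
    [8, 8, 8, 8, 8, 9, 8, 8], [8, 8, 8, 8, 9, 7, 9, 8], [8, 8, 8, 9, 7, 8, 9, 8], [8, 9, 9, 7, 8, 8, 9, 8], [8, 7, 9, 8, 8, 8, 9, 8], [9, 9, 7, 8, 8, 8, 9, 8], [9, 7, 7, 9, 8, 8, 9, 8], [7, 9, 8, 8, 8, 8, 9, 8],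
    [7, 7, 8, 9, 8, 8, 9, 8], [9, 8, 8, 7, 9, 8, 9, 8], [7, 8, 9, 7, 9, 8, 9, 8], [9, 8, 8, 8, 7, 9, 9, 8], [8, 8, 7, 8, 9, 8, 9, 8], [7, 8, 9, 8, 7, 9, 9, 8], [9, 8, 8, 8, 8, 7, 10, 8], [8, 8, 7, 9, 7, 9, 9, 8],
    [7, 8, 9, 8, 8, 7, 10, 8], [8, 9, 8, 7, 8, 9, 9, 8], [8, 8, 7, 9, 8, 7, 10, 8], [8, 7, 8, 8, 8, 9, 9, 8], [8, 9, 8, 7, 9, 7, 10, 8], [8, 7, 8, 8, 9, 7, 10, 8], [8, 9, 8, 8, 7, 8, 10, 8], [8, 7, 8, 9, 7, 8, 10, 8],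
    [8, 8, 9, 7, 8, 8, 10, 8], [9, 8, 7, 8, 8, 8, 10, 8], [7, 8, 8, 8, 8, 8, 10, 8]]

def par6 : List (ℕ × ℕ) := [
    (0, 0), (0, 5), (1, 4), (2, 3), (3, 1), (3, 2), (4, 2), (5, 0), (6, 0), (6, 3), (8, 3), (9, 4),
    (10, 2), (10, 4), (11, 5), (12, 4), (13, 5), (15, 3), (15, 5), (17, 1), (17, 5), (19, 5), (20, 4), (21, 4),
    (23, 3), (24, 2), (25, 0)]

theorem ho6 : OrbOK 8 cartL 5 pts6 par6 := by decide +kernel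

theorem ub6 : Finite (truncTo CoxeterMatrix.E₈ 6 (by decide)).Group ∧
    Nat.card (truncTo CoxeterMatrix.E₈ 6 (by decide)).Group ≤ 51840 :=
  ub_step CoxeterMatrix.E₈ 5 (by decide) cert6 rfl matf hmat hc6 1920 ub5

theorem lb6 : 51840 ≤ Nat.card (G (hsq_of_hR CoxeterMatrix.E₈ hR) 6) :=
  lbG_step (hsq_of_hR CoxeterMatrix.E₈ hR) 5 (by decide) 1920 lb5 pts6 par6 ho6
    (finite_G CoxeterMatrix.E₈ hR 6 (by decide) ub6.1)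

theorem card6 : Nat.card (truncTo CoxeterMatrix.E₈ 6 (by decide)).Group = 51840 :=
  (card_eq_and_injective CoxeterMatrix.E₈ hR 6 (by decide) 51840 ub6 lb6).1

theorem inj6 : Function.Injective (rho CoxeterMatrix.E₈ hR 6 (by decide)) :=
  (card_eq_and_injective CoxeterMatrix.E₈ hR 6 (by decide) 51840 ub6 lb6).2

theorem cpow6 : (((List.range 6).map (reflM 8 cartL)).prod) ^ 12 = 1 := by decide +kernel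

theorem cne6_2 : (((List.range 6).map (reflM 8 cartL)).prod) ^ 6 ≠ 1 := by decide +kernel

theorem cne6_3 : (((List.range 6).map (reflM 8 cartL)).prod) ^ 4 ≠ 1 := by decide +kernel

theorem cox6 : orderOf ((List.finRange 6).map (truncTo CoxeterMatrix.E₈ 6 (by decide)).simple).prod = 12 := by
  refine orderOf_coxeter CoxeterMatrix.E₈ hR 6 (by decide) inj6 12 (by decide) cpow6 ?_
  intro p hp hpd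
  have hle : p ≤ 12 := Nat.le_of_dvd (by decide) hpd
  have hmem : p ∈ ([2, 3] : List ℕ) := by
    interval_cases p <;> first | (exfalso; revert hp; decide) | (exfalso; revert hpd; decide) | decide
  simp only [List.mem_cons, List.mem_nil_iff, or_false] at hmem
  rcases hmem with rfl | rfl
  · exact cne6_2
  · exact cne6_3

/-! ### level 7: index 56, order 2903040 -/

def cert7 : Cert where
  k := 7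
  N := 56
  tbl := [
    [0, 0, 0, 0, 0, 0, 1], [1, 1, 1, 1, 1, 2, 0], [2, 2, 2, 2, 3, 1, 2], [3, 3, 3, 4, 2, 3, 3], [4, 5, 6, 3, 4, 4, 4], [5, 4, 7, 5, 5, 5, 5], [8, 7, 4, 6, 6, 6, 6], [9, 6, 5, 10, 7, 7, 7],
    [6, 9, 8, 8, 8, 8, 8], [7, 8, 9, 11, 9, 9, 9], [11, 10, 10, 7, 12, 10, 10], [10, 11, 13, 9, 14, 11, 11], [14, 12, 12, 12, 10, 15, 12], [13, 13, 11, 13, 16, 13, 13], [12, 14, 16, 14, 11, 17, 14], [17, 15, 15, 15, 15, 12, 18],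
    [16, 16, 14, 19, 13, 20, 16], [15, 17, 20, 17, 17, 14, 21], [21, 18, 18, 18, 18, 18, 15], [19, 22, 19, 16, 19, 23, 19], [20, 20, 17, 23, 20, 16, 24], [18, 21, 24, 21, 21, 21, 17], [22, 19, 22, 22, 22, 25, 22], [23, 25, 23, 20, 26, 19, 27],
    [24, 24, 21, 27, 24, 24, 20], [25, 23, 25, 25, 28, 22, 29], [26, 28, 26, 26, 23, 26, 30], [27, 29, 27, 24, 30, 27, 23], [28, 26, 28, 31, 25, 28, 32], [29, 27, 29, 29, 32, 29, 25], [30, 32, 30, 30, 27, 33, 26], [31, 31, 34, 28, 31, 31, 35],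
    [32, 30, 32, 35, 29, 36, 28], [33, 36, 33, 33, 33, 30, 33], [37, 34, 31, 34, 34, 34, 38], [35, 35, 38, 32, 35, 39, 31], [36, 33, 36, 39, 36, 32, 36], [34, 37, 37, 37, 37, 37, 40], [40, 38, 35, 38, 38, 41, 34], [39, 39, 41, 36, 42, 35, 39],
    [38, 40, 40, 40, 40, 43, 37], [43, 41, 39, 41, 44, 38, 41], [42, 42, 44, 42, 39, 42, 42], [41, 43, 43, 43, 45, 40, 43], [45, 44, 42, 46, 41, 44, 44], [44, 45, 45, 47, 43, 45, 45], [47, 48, 46, 44, 46, 46, 46], [46, 49, 50, 45, 47, 47, 47],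
    [49, 46, 48, 48, 48, 48, 48], [48, 47, 51, 49, 49, 49, 49], [50, 51, 47, 50, 50, 50, 50], [51, 50, 49, 52, 51, 51, 51], [52, 52, 52, 51, 53, 52, 52], [53, 53, 53, 53, 52, 54, 53], [54, 54, 54, 54, 54, 53, 55], [55, 55, 55, 55, 55, 55, 54]]
  words := [
    [], [6], [5, 6], [4, 5, 6],
    [3, 4, 5, 6], [1, 3, 4, 5, 6], [2, 3, 4, 5, 6], [2, 1, 3, 4, 5, 6],
    [0, 2, 3, 4, 5, 6], [0, 2, 1, 3, 4, 5, 6], [3, 2, 1, 3, 4, 5, 6], [3, 0, 2, 1, 3, 4, 5, 6],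
    [4, 3, 2, 1, 3, 4, 5, 6], [2, 3, 0, 2, 1, 3, 4, 5, 6], [4, 3, 0, 2, 1, 3, 4, 5, 6], [5, 4, 3, 2, 1, 3, 4, 5, 6],
    [4, 2, 3, 0, 2, 1, 3, 4, 5, 6], [5, 4, 3, 0, 2, 1, 3, 4, 5, 6], [6, 5, 4, 3, 2, 1, 3, 4, 5, 6], [3, 4, 2, 3, 0, 2, 1, 3, 4, 5, 6],
    [5, 4, 2, 3, 0, 2, 1, 3, 4, 5, 6], [6, 5, 4, 3, 0, 2, 1, 3, 4, 5, 6], [1, 3, 4, 2, 3, 0, 2, 1, 3, 4, 5, 6], [5, 3, 4, 2, 3, 0, 2, 1, 3, 4, 5, 6],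
    [6, 5, 4, 2, 3, 0, 2, 1, 3, 4, 5, 6], [5, 1, 3, 4, 2, 3, 0, 2, 1, 3, 4, 5, 6], [4, 5, 3, 4, 2, 3, 0, 2, 1, 3, 4, 5, 6], [6, 5, 3, 4, 2, 3, 0, 2, 1, 3, 4, 5, 6],
    [4, 5, 1, 3, 4, 2, 3, 0, 2, 1, 3, 4, 5, 6], [6, 5, 1, 3, 4, 2, 3, 0, 2, 1, 3, 4, 5, 6], [6, 4, 5, 3, 4, 2, 3, 0, 2, 1, 3, 4, 5, 6], [3, 4, 5, 1, 3, 4, 2, 3, 0, 2, 1, 3, 4, 5, 6],
    [6, 4, 5, 1, 3, 4, 2, 3, 0, 2, 1, 3, 4, 5, 6], [5, 6, 4, 5, 3, 4, 2, 3, 0, 2, 1, 3, 4, 5, 6], [2, 3, 4, 5, 1, 3, 4, 2, 3, 0, 2, 1, 3, 4, 5, 6], [6, 3, 4, 5, 1, 3, 4, 2, 3, 0, 2, 1, 3, 4, 5, 6],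
    [5, 6, 4, 5, 1, 3, 4, 2, 3, 0, 2, 1, 3, 4, 5, 6], [0, 2, 3, 4, 5, 1, 3, 4, 2, 3, 0, 2, 1, 3, 4, 5, 6], [6, 2, 3, 4, 5, 1, 3, 4, 2, 3, 0, 2, 1, 3, 4, 5, 6], [5, 6, 3, 4, 5, 1, 3, 4, 2, 3, 0, 2, 1, 3, 4, 5, 6],
    [6, 0, 2, 3, 4, 5, 1, 3, 4, 2, 3, 0, 2, 1, 3, 4, 5, 6], [5, 6, 2, 3, 4, 5, 1, 3, 4, 2, 3, 0, 2, 1, 3, 4, 5, 6], [4, 5, 6, 3, 4, 5, 1, 3, 4, 2, 3, 0, 2, 1, 3, 4, 5, 6], [5, 6, 0, 2, 3, 4, 5, 1, 3, 4, 2, 3, 0, 2, 1, 3, 4, 5, 6],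
    [4, 5, 6, 2, 3, 4, 5, 1, 3, 4, 2, 3, 0, 2, 1, 3, 4, 5, 6], [4, 5, 6, 0, 2, 3, 4, 5, 1, 3, 4, 2, 3, 0, 2, 1, 3, 4, 5, 6], [3, 4, 5, 6, 2, 3, 4, 5, 1, 3, 4, 2, 3, 0, 2, 1, 3, 4, 5, 6], [3, 4, 5, 6, 0, 2, 3, 4, 5, 1, 3, 4, 2, 3, 0, 2, 1, 3, 4, 5, 6],
    [1, 3, 4, 5, 6, 2, 3, 4, 5, 1, 3, 4, 2, 3, 0, 2, 1, 3, 4, 5, 6], [1, 3, 4, 5, 6, 0, 2, 3, 4, 5, 1, 3, 4, 2, 3, 0, 2, 1, 3, 4, 5, 6], [2, 3, 4, 5, 6, 0, 2, 3, 4, 5, 1, 3, 4, 2, 3, 0, 2, 1, 3, 4, 5, 6], [2, 1, 3, 4, 5, 6, 0, 2, 3, 4, 5, 1, 3, 4, 2, 3, 0, 2, 1, 3, 4, 5, 6],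
    [3, 2, 1, 3, 4, 5, 6, 0, 2, 3, 4, 5, 1, 3, 4, 2, 3, 0, 2, 1, 3, 4, 5, 6], [4, 3, 2, 1, 3, 4, 5, 6, 0, 2, 3, 4, 5, 1, 3, 4, 2, 3, 0, 2, 1, 3, 4, 5, 6], [5, 4, 3, 2, 1, 3, 4, 5, 6, 0, 2, 3, 4, 5, 1, 3, 4, 2, 3, 0, 2, 1, 3, 4, 5, 6], [6, 5, 4, 3, 2, 1, 3, 4, 5, 6, 0, 2, 3, 4, 5, 1, 3, 4, 2, 3, 0, 2, 1, 3, 4, 5, 6]]
  rk := [
    [0, 0, 0, 0, 0, 0, 0], [2, 2, 2, 2, 2, 0, 1], [3, 3, 3, 3, 0, 1, 2], [4, 4, 4, 0, 1, 3, 3], [5, 0, 0, 1, 4, 4, 4], [6, 1, 0, 5, 5, 5, 5], [0, 2, 1, 5, 5, 5, 5], [0, 3, 1, 0, 6, 6, 6],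
    [1, 4, 6, 6, 6, 6, 6], [1, 3, 7, 0, 7, 7, 7], [2, 6, 6, 1, 0, 7, 7], [3, 7, 0, 1, 0, 8, 8], [4, 7, 7, 7, 1, 0, 8], [7, 8, 1, 8, 0, 9, 9], [5, 8, 2, 8, 1, 0, 9], [6, 8, 8, 8, 8, 1, 0],
    [8, 9, 3, 0, 1, 0, 10], [7, 9, 4, 9, 9, 1, 0], [8, 9, 9, 9, 9, 9, 1], [9, 0, 9, 1, 9, 0, 11], [9, 10, 5, 2, 10, 1, 0], [9, 10, 6, 10, 10, 10, 1], [10, 1, 10, 10, 10, 0, 12], [10, 2, 10, 3, 0, 1, 0],
    [10, 11, 7, 4, 11, 11, 1], [11, 3, 11, 11, 0, 1, 0], [11, 4, 11, 11, 1, 10, 0], [11, 4, 11, 5, 2, 12, 1], [12, 5, 12, 0, 1, 11, 0], [12, 5, 12, 12, 2, 13, 1], [12, 6, 12, 12, 3, 0, 1], [13, 12, 0, 1, 12, 12, 0],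
    [13, 7, 13, 2, 3, 0, 1], [13, 8, 13, 13, 13, 1, 11], [0, 13, 1, 13, 13, 13, 0], [14, 13, 2, 3, 13, 0, 1], [14, 9, 14, 4, 14, 1, 12], [1, 14, 14, 14, 14, 14, 0], [2, 14, 3, 14, 14, 0, 1], [15, 14, 4, 5, 0, 1, 13],
    [3, 15, 15, 15, 15, 0, 1], [4, 15, 5, 15, 0, 1, 14], [16, 15, 6, 15, 1, 14, 14], [5, 16, 16, 16, 0, 1, 15], [6, 16, 7, 0, 1, 15, 15], [7, 17, 17, 0, 1, 16, 16], [8, 0, 16, 1, 16, 16, 16], [9, 0, 0, 1, 17, 17, 17],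
    [10, 1, 17, 17, 17, 17, 17], [11, 1, 0, 18, 18, 18, 18], [17, 2, 1, 18, 18, 18, 18], [18, 3, 1, 0, 19, 19, 19], [19, 19, 19, 1, 0, 20, 20], [20, 20, 20, 20, 1, 0, 21], [21, 21, 21, 21, 21, 1, 0], [22, 22, 22, 22, 22, 22, 1]]
  just := [
    [.base, .base, .base, .base, .base, .base, .tree], [(.scan 0 0 6 1), (.scan 0 1 6 1), (.scan 0 2 6 1), (.scan 0 3 6 1), (.scan 0 4 6 1), .tree, .mirror],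
    [(.scan 1 0 5 1), (.scan 1 1 5 1), (.scan 1 2 5 1), (.scan 1 3 5 1), .tree, .mirror, (.scan 0 5 6 2)], [(.scan 2 0 4 1), (.scan 2 1 4 1), (.scan 2 2 4 1), .tree, .mirror, (.scan 1 4 5 2), (.scan 2 4 6 2)],
    [(.scan 3 0 3 1), .tree, .tree, .mirror, (.scan 2 3 4 2), (.scan 3 3 5 2), (.scan 3 3 6 2)], [(.scan 4 0 1 1), .mirror, .tree, (.scan 3 1 3 2), (.scan 4 1 4 2), (.scan 4 1 5 2), (.scan 4 1 6 2)],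
    [.tree, (.scan 4 1 2 1), .mirror, (.scan 3 2 3 2), (.scan 4 2 4 2), (.scan 4 2 5 2), (.scan 4 2 6 2)], [.tree, .mirror, .mirror, .tree, (.scan 5 2 4 2), (.scan 5 2 5 2), (.scan 5 2 6 2)],
    [.mirror, .mirror, (.scan 4 0 2 2), (.scan 6 0 3 2), (.scan 6 0 4 2), (.scan 6 0 5 2), (.scan 6 0 6 2)], [.mirror, (.scan 6 0 1 2), (.scan 5 0 2 2), .tree, (.scan 7 0 4 2), (.scan 7 0 5 2), (.scan 7 0 6 2)],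
    [(.scan 7 0 3 1), (.scan 6 1 3 3), (.scan 5 2 3 3), .mirror, .tree, (.scan 7 3 5 2), (.scan 7 3 6 2)], [.mirror, (.scan 8 1 3 3), .tree, .mirror, .tree, (.scan 9 3 5 2), (.scan 9 3 6 2)],
    [(.scan 10 0 4 1), (.scan 10 1 4 1), (.scan 10 2 4 1), (.scan 7 3 4 3), .mirror, .tree, (.scan 10 4 6 2)], [(.scan 10 0 2 3), (.scan 11 1 2 1), .mirror, (.scan 9 2 3 2), .tree, (.scan 11 2 5 2), (.scan 11 2 6 2)],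
    [.mirror, (.scan 11 1 4 1), (.scan 11 2 4 1), (.scan 9 3 4 3), .mirror, .tree, (.scan 11 4 6 2)], [(.scan 12 0 5 1), (.scan 12 1 5 1), (.scan 12 2 5 1), (.scan 12 3 5 1), (.scan 10 4 5 3), .mirror, .tree],
    [(.scan 12 0 2 3), (.scan 13 1 4 1), .mirror, .tree, .mirror, .tree, (.scan 13 4 6 2)], [.mirror, (.scan 14 1 5 1), (.scan 14 2 5 1), (.scan 14 3 5 1), (.scan 11 4 5 3), .mirror, .tree],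
    [(.scan 15 0 6 1), (.scan 15 1 6 1), (.scan 15 2 6 1), (.scan 15 3 6 1), (.scan 15 4 6 1), (.scan 12 5 6 3), .mirror], [(.scan 16 0 3 1), .tree, (.scan 14 2 3 3), .mirror, (.scan 13 3 4 2), .tree, (.scan 16 3 6 2)],
    [(.scan 15 0 2 3), (.scan 16 1 5 1), .mirror, (.scan 16 3 5 1), (.scan 13 4 5 3), .mirror, .tree], [.mirror, (.scan 17 1 6 1), (.scan 17 2 6 1), (.scan 17 3 6 1), (.scan 17 4 6 1), (.scan 14 5 6 3), .mirror],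
    [(.scan 19 0 1 1), .mirror, (.scan 19 1 2 2), (.scan 16 1 3 2), (.scan 19 1 4 2), .tree, (.scan 19 1 6 2)], [(.scan 19 0 5 1), (.scan 19 1 5 1), (.scan 17 2 3 3), .mirror, .tree, .mirror, .tree],
    [(.scan 18 0 2 3), (.scan 20 1 6 1), .mirror, (.scan 20 3 6 1), (.scan 20 4 6 1), (.scan 16 5 6 3), .mirror], [(.scan 22 0 5 1), .mirror, (.scan 22 2 5 1), (.scan 20 1 3 2), .tree, .mirror, .tree],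
    [(.scan 23 0 4 1), (.scan 23 1 4 1), (.scan 23 2 4 1), (.scan 20 3 4 3), .mirror, (.scan 19 4 5 2), .tree], [(.scan 23 0 6 1), (.scan 23 1 6 1), (.scan 21 2 3 3), .mirror, (.scan 23 4 6 1), (.scan 19 5 6 3), .mirror],
    [(.scan 25 0 4 1), .mirror, (.scan 25 2 4 1), .tree, .mirror, (.scan 22 4 5 2), .tree], [(.scan 25 0 6 1), .mirror, (.scan 25 2 6 1), (.scan 24 1 3 2), (.scan 25 4 6 1), (.scan 22 5 6 3), .mirror],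
    [(.scan 26 0 6 1), (.scan 26 1 6 1), (.scan 26 2 6 1), (.scan 24 3 4 3), .mirror, .tree, .mirror], [(.scan 28 0 3 1), (.scan 26 1 3 3), .tree, .mirror, (.scan 25 3 4 2), (.scan 28 3 5 2), .tree],
    [(.scan 28 0 6 1), .mirror, (.scan 28 2 6 1), (.scan 28 3 6 1), .mirror, .tree, .mirror], [(.scan 30 0 5 1), (.scan 30 1 5 1), (.scan 30 2 5 1), (.scan 30 3 5 1), (.scan 27 4 5 3), .mirror, (.scan 26 5 6 2)],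
    [.tree, (.scan 31 1 2 1), .mirror, (.scan 28 2 3 2), (.scan 31 2 4 2), (.scan 31 2 5 2), .tree], [(.scan 31 0 6 1), (.scan 30 1 3 3), (.scan 31 2 6 1), .mirror, (.scan 29 3 4 2), .tree, .mirror],
    [(.scan 32 0 5 1), .mirror, (.scan 32 2 5 1), (.scan 32 3 5 1), (.scan 29 4 5 3), .mirror, (.scan 28 5 6 2)], [.mirror, (.scan 34 0 1 2), (.scan 31 0 2 2), (.scan 34 0 3 2), (.scan 34 0 4 2), (.scan 34 0 5 2), .tree],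
    [(.scan 34 0 6 1), (.scan 34 1 6 1), .mirror, (.scan 32 2 3 2), (.scan 34 4 6 1), .tree, .mirror], [(.scan 35 0 5 1), (.scan 33 1 3 3), (.scan 35 2 5 1), .mirror, .tree, .mirror, (.scan 31 5 6 2)],
    [.mirror, (.scan 37 1 6 1), (.scan 35 0 2 2), (.scan 37 3 6 1), (.scan 37 4 6 1), .tree, .mirror], [(.scan 38 0 5 1), (.scan 38 1 5 1), .mirror, (.scan 36 2 3 2), .tree, .mirror, (.scan 34 5 6 2)],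
    [(.scan 39 0 4 1), (.scan 39 1 4 1), (.scan 39 2 4 1), (.scan 36 3 4 3), .mirror, (.scan 35 4 5 2), (.scan 39 4 6 2)], [.mirror, (.scan 40 1 5 1), (.scan 39 0 2 2), (.scan 40 3 5 1), .tree, .mirror, (.scan 37 5 6 2)],
    [(.scan 41 0 4 1), (.scan 41 1 4 1), .mirror, .tree, .mirror, (.scan 38 4 5 2), (.scan 41 4 6 2)], [.mirror, (.scan 43 1 4 1), (.scan 42 0 2 2), .tree, .mirror, (.scan 40 4 5 2), (.scan 43 4 6 2)],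
    [(.scan 44 0 3 1), .tree, (.scan 42 2 3 3), .mirror, (.scan 41 3 4 2), (.scan 44 3 5 2), (.scan 44 3 6 2)], [.mirror, .tree, .tree, .mirror, (.scan 43 3 4 2), (.scan 45 3 5 2), (.scan 45 3 6 2)],
    [(.scan 46 0 1 1), .mirror, (.scan 46 1 2 2), (.scan 44 1 3 2), (.scan 46 1 4 2), (.scan 46 1 5 2), (.scan 46 1 6 2)], [.mirror, .mirror, .tree, (.scan 45 1 3 2), (.scan 47 1 4 2), (.scan 47 1 5 2), (.scan 47 1 6 2)],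
    [(.scan 46 0 2 3), (.scan 47 1 2 1), .mirror, (.scan 45 2 3 2), (.scan 47 2 4 2), (.scan 47 2 5 2), (.scan 47 2 6 2)], [(.scan 48 0 2 3), .mirror, .mirror, .tree, (.scan 49 2 4 2), (.scan 49 2 5 2), (.scan 49 2 6 2)],
    [(.scan 51 0 3 1), (.scan 50 1 3 3), (.scan 49 2 3 3), .mirror, .tree, (.scan 51 3 5 2), (.scan 51 3 6 2)], [(.scan 52 0 4 1), (.scan 52 1 4 1), (.scan 52 2 4 1), (.scan 51 3 4 3), .mirror, .tree, (.scan 52 4 6 2)],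
    [(.scan 53 0 5 1), (.scan 53 1 5 1), (.scan 53 2 5 1), (.scan 53 3 5 1), (.scan 52 4 5 3), .mirror, .tree], [(.scan 54 0 6 1), (.scan 54 1 6 1), (.scan 54 2 6 1), (.scan 54 3 6 1), (.scan 54 4 6 1), (.scan 53 5 6 3), .mirror]]

theorem hc7 : cert7.check matf (fun i => decide (i < 6)) = true := by decide +kernel

def pts7 : List (List ℕ) := [
    [8, 8, 8, 8, 8, 8, 9, 8], [8, 8, 8, 8, 8, 9, 7, 9], [8, 8, 8, 8, 9, 7, 8, 9], [8, 8, 8, 9, 7, 8, 8, 9], [8, 9, 9, 7, 8, 8, 8, 9], [8, 7, 9, 8, 8, 8, 8, 9], [9, 9, 7, 8, 8, 8, 8, 9], [9, 7, 7, 9, 8, 8, 8, 9],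
    [7, 9, 8, 8, 8, 8, 8, 9], [7, 7, 8, 9, 8, 8, 8, 9], [9, 8, 8, 7, 9, 8, 8, 9], [7, 8, 9, 7, 9, 8, 8, 9], [9, 8, 8, 8, 7, 9, 8, 9], [8, 8, 7, 8, 9, 8, 8, 9], [7, 8, 9, 8, 7, 9, 8, 9], [9, 8, 8, 8, 8, 7, 9, 9],
    [8, 8, 7, 9, 7, 9, 8, 9], [7, 8, 9, 8, 8, 7, 9, 9], [9, 8, 8, 8, 8, 8, 7, 10], [8, 9, 8, 7, 8, 9, 8, 9], [8, 8, 7, 9, 8, 7, 9, 9], [7, 8, 9, 8, 8, 8, 7, 10], [8, 7, 8, 8, 8, 9, 8, 9], [8, 9, 8, 7, 9, 7, 9, 9],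
    [8, 8, 7, 9, 8, 8, 7, 10], [8, 7, 8, 8, 9, 7, 9, 9], [8, 9, 8, 8, 7, 8, 9, 9], [8, 9, 8, 7, 9, 8, 7, 10], [8, 7, 8, 9, 7, 8, 9, 9], [8, 7, 8, 8, 9, 8, 7, 10], [8, 9, 8, 8, 7, 9, 7, 10], [8, 8, 9, 7, 8, 8, 9, 9],
    [8, 7, 8, 9, 7, 9, 7, 10], [8, 9, 8, 8, 8, 7, 8, 10], [9, 8, 7, 8, 8, 8, 9, 9], [8, 8, 9, 7, 8, 9, 7, 10], [8, 7, 8, 9, 8, 7, 8, 10], [7, 8, 8, 8, 8, 8, 9, 9], [9, 8, 7, 8, 8, 9, 7, 10], [8, 8, 9, 7, 9, 7, 8, 10],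
    [7, 8, 8, 8, 8, 9, 7, 10], [9, 8, 7, 8, 9, 7, 8, 10], [8, 8, 9, 8, 7, 8, 8, 10], [7, 8, 8, 8, 9, 7, 8, 10], [9, 8, 7, 9, 7, 8, 8, 10], [7, 8, 8, 9, 7, 8, 8, 10], [9, 9, 8, 7, 8, 8, 8, 10], [7, 9, 9, 7, 8, 8, 8, 10],
    [9, 7, 8, 8, 8, 8, 8, 10], [7, 7, 9, 8, 8, 8, 8, 10], [8, 9, 7, 8, 8, 8, 8, 10], [8, 7, 7, 9, 8, 8, 8, 10], [8, 8, 8, 7, 9, 8, 8, 10], [8, 8, 8, 8, 7, 9, 8, 10], [8, 8, 8, 8, 8, 7, 9, 10], [8, 8, 8, 8, 8, 8, 7, 11]]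

def par7 : List (ℕ × ℕ) := [
    (0, 0), (0, 6), (1, 5), (2, 4), (3, 3), (4, 1), (4, 2), (5, 2), (6, 0), (7, 0), (7, 3), (9, 3),
    (10, 4), (11, 2), (11, 4), (12, 5), (13, 4), (14, 5), (15, 6), (16, 3), (16, 5), (17, 6), (19, 1), (19, 5),
    (20, 6), (22, 5), (23, 4), (23, 6), (25, 4), (25, 6), (26, 6), (28, 3), (28, 6), (30, 5), (31, 2), (31, 6),
    (32, 5), (34, 0), (34, 6), (35, 5), (37, 6), (38, 5), (39, 4), (40, 5), (41, 4), (43, 4), (44, 3), (45, 3),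
    (46, 1), (47, 1), (47, 2), (49, 2), (51, 3), (52, 4), (53, 5), (54, 6)]

theorem ho7 : OrbOK 8 cartL 6 pts7 par7 := by decide +kernel

theorem ub7 : Finite (truncTo CoxeterMatrix.E₈ 7 (by decide)).Group ∧
    Nat.card (truncTo CoxeterMatrix.E₈ 7 (by decide)).Group ≤ 2903040 :=
  ub_step CoxeterMatrix.E₈ 6 (by decide) cert7 rfl matf hmat hc7 51840 ub6

theorem lb7 : 2903040 ≤ Nat.card (G (hsq_of_hR CoxeterMatrix.E₈ hR) 7) :=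
  lbG_step (hsq_of_hR CoxeterMatrix.E₈ hR) 6 (by decide) 51840 lb6 pts7 par7 ho7
    (finite_G CoxeterMatrix.E₈ hR 7 (by decide) ub7.1)

theorem card7 : Nat.card (truncTo CoxeterMatrix.E₈ 7 (by decide)).Group = 2903040 :=
  (card_eq_and_injective CoxeterMatrix.E₈ hR 7 (by decide) 2903040 ub7 lb7).1

theorem inj7 : Function.Injective (rho CoxeterMatrix.E₈ hR 7 (by decide)) :=
  (card_eq_and_injective CoxeterMatrix.E₈ hR 7 (by decide) 2903040 ub7 lb7).2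

theorem cpow7 : (((List.range 7).map (reflM 8 cartL)).prod) ^ 18 = 1 := by decide +kernel

theorem cne7_2 : (((List.range 7).map (reflM 8 cartL)).prod) ^ 9 ≠ 1 := by decide +kernel

theorem cne7_3 : (((List.range 7).map (reflM 8 cartL)).prod) ^ 6 ≠ 1 := by decide +kernel

theorem cox7 : orderOf ((List.finRange 7).map (truncTo CoxeterMatrix.E₈ 7 (by decide)).simple).prod = 18 := by
  refine orderOf_coxeter CoxeterMatrix.E₈ hR 7 (by decide) inj7 18 (by decide) cpow7 ?_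
  intro p hp hpd
  have hle : p ≤ 18 := Nat.le_of_dvd (by decide) hpd
  have hmem : p ∈ ([2, 3] : List ℕ) := by
    interval_cases p <;> first | (exfalso; revert hp; decide) | (exfalso; revert hpd; decide) | decide
  simp only [List.mem_cons, List.mem_nil_iff, or_false] at hmem
  rcases hmem with rfl | rfl
  · exact cne7_2
  · exact cne7_3

/-! ### level 8: index 240, order 696729600 -/

def cert8 : Cert where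
  k := 8
  N := 240
  tbl := [
    [0, 0, 0, 0, 0, 0, 0, 1], [1, 1, 1, 1, 1, 1, 2, 0], [2, 2, 2, 2, 2, 3, 1, 2], [3, 3, 3, 3, 4, 2, 3, 3], [4, 4, 4, 5, 3, 4, 4, 4], [5, 6, 7, 4, 5, 5, 5, 5], [6, 5, 8, 6, 6, 6, 6, 6], [9, 8, 5, 7, 7, 7, 7, 7],
    [10, 7, 6, 11, 8, 8, 8, 8], [7, 10, 9, 9, 9, 9, 9, 9], [8, 9, 10, 12, 10, 10, 10, 10], [12, 11, 11, 8, 13, 11, 11, 11], [11, 12, 14, 10, 15, 12, 12, 12], [15, 13, 13, 13, 11, 16, 13, 13], [14, 14, 12, 14, 17, 14, 14, 14], [13, 15, 17, 15, 12, 18, 15, 15],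
    [18, 16, 16, 16, 16, 13, 19, 16], [17, 17, 15, 20, 14, 21, 17, 17], [16, 18, 21, 18, 18, 15, 22, 18], [22, 19, 19, 19, 19, 19, 16, 23], [20, 24, 20, 17, 20, 25, 20, 20], [21, 21, 18, 25, 21, 17, 26, 21], [19, 22, 26, 22, 22, 22, 18, 27], [27, 23, 23, 23, 23, 23, 23, 19],
    [24, 20, 24, 24, 24, 28, 24, 24], [25, 28, 25, 21, 29, 20, 30, 25], [26, 26, 22, 30, 26, 26, 21, 31], [23, 27, 31, 27, 27, 27, 27, 22], [28, 25, 28, 28, 32, 24, 33, 28], [29, 32, 29, 29, 25, 29, 34, 29], [30, 33, 30, 26, 34, 30, 25, 35], [31, 31, 27, 35, 31, 31, 31, 26],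
    [32, 29, 32, 36, 28, 32, 37, 32], [33, 30, 33, 33, 37, 33, 28, 38], [34, 37, 34, 34, 30, 39, 29, 40], [35, 38, 35, 31, 40, 35, 35, 30], [36, 36, 41, 32, 36, 36, 42, 36], [37, 34, 37, 42, 33, 43, 32, 44], [38, 35, 38, 38, 44, 38, 38, 33], [39, 43, 39, 39, 39, 34, 39, 45],
    [40, 44, 40, 40, 35, 45, 40, 34], [46, 41, 36, 41, 41, 41, 47, 41], [42, 42, 47, 37, 42, 48, 36, 49], [43, 39, 43, 48, 43, 37, 43, 50], [44, 40, 44, 49, 38, 50, 44, 37], [45, 50, 45, 45, 45, 40, 51, 39], [41, 46, 46, 46, 46, 46, 52, 46], [52, 47, 42, 47, 47, 53, 41, 54],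
    [48, 48, 53, 43, 55, 42, 48, 56], [49, 49, 54, 44, 49, 56, 49, 42], [50, 45, 50, 56, 50, 44, 57, 43], [51, 57, 51, 51, 51, 51, 45, 51], [47, 52, 52, 52, 52, 58, 46, 59], [58, 53, 48, 53, 60, 47, 53, 61], [59, 54, 49, 54, 54, 61, 54, 47], [55, 55, 60, 55, 48, 55, 55, 62],
    [56, 56, 61, 50, 62, 49, 63, 48], [57, 51, 57, 63, 57, 57, 50, 57], [53, 58, 58, 58, 64, 52, 58, 65], [54, 59, 59, 59, 59, 65, 59, 52], [64, 60, 55, 66, 53, 60, 60, 67], [65, 61, 56, 61, 67, 54, 68, 53], [62, 62, 67, 62, 56, 62, 69, 55], [63, 63, 68, 57, 69, 63, 56, 63],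
    [60, 64, 64, 70, 58, 64, 64, 71], [61, 65, 65, 65, 71, 59, 72, 58], [70, 73, 66, 60, 66, 66, 66, 74], [71, 67, 62, 74, 61, 67, 75, 60], [72, 68, 63, 68, 75, 68, 61, 68], [69, 69, 75, 69, 63, 76, 62, 69], [66, 77, 78, 64, 70, 70, 70, 79], [67, 71, 71, 79, 65, 71, 80, 64],
    [68, 72, 72, 72, 80, 72, 65, 72], [77, 66, 73, 73, 73, 73, 73, 81], [79, 81, 74, 67, 74, 74, 82, 66], [80, 75, 69, 82, 68, 83, 67, 75], [76, 76, 83, 76, 76, 69, 76, 76], [73, 70, 84, 77, 77, 77, 77, 85], [78, 84, 70, 78, 78, 78, 78, 86], [74, 85, 86, 71, 79, 79, 87, 70],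
    [75, 80, 80, 87, 72, 88, 71, 80], [85, 74, 81, 81, 81, 81, 89, 73], [87, 89, 82, 75, 82, 90, 74, 82], [88, 83, 76, 90, 83, 75, 83, 83], [84, 78, 77, 91, 84, 84, 84, 92], [81, 79, 92, 85, 85, 85, 93, 77], [86, 92, 79, 86, 86, 86, 94, 78], [82, 93, 94, 80, 87, 95, 79, 87],
    [83, 88, 88, 95, 88, 80, 88, 88], [93, 82, 89, 89, 89, 96, 81, 89], [95, 96, 90, 83, 97, 82, 90, 90], [91, 91, 91, 84, 98, 91, 91, 99], [92, 86, 85, 99, 92, 92, 100, 84], [89, 87, 100, 93, 93, 101, 85, 93], [94, 100, 87, 94, 94, 102, 86, 94], [90, 101, 102, 88, 103, 87, 95, 95],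
    [101, 90, 96, 96, 104, 89, 96, 96], [103, 104, 97, 97, 90, 97, 97, 97], [98, 98, 98, 98, 91, 105, 98, 106], [99, 99, 99, 92, 106, 99, 107, 91], [100, 94, 93, 107, 100, 108, 92, 100], [96, 95, 108, 101, 109, 93, 101, 101], [102, 108, 95, 102, 110, 94, 102, 102], [97, 109, 110, 103, 95, 103, 103, 103],
    [109, 97, 104, 111, 96, 104, 104, 104], [105, 105, 105, 105, 105, 98, 112, 113], [106, 106, 106, 106, 99, 113, 114, 98], [107, 107, 107, 100, 114, 115, 99, 107], [108, 102, 101, 115, 116, 100, 108, 108], [104, 103, 116, 117, 101, 109, 109, 109], [110, 116, 103, 118, 102, 110, 110, 110], [117, 111, 119, 104, 111, 111, 111, 111],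
    [112, 112, 112, 112, 112, 112, 105, 120], [113, 113, 113, 113, 113, 106, 121, 105], [114, 114, 114, 114, 107, 122, 106, 114], [115, 115, 115, 108, 123, 107, 115, 115], [116, 110, 109, 124, 108, 116, 116, 116], [111, 117, 125, 109, 117, 117, 117, 117], [118, 126, 118, 110, 118, 118, 118, 118], [127, 119, 111, 119, 119, 119, 119, 119],
    [120, 120, 120, 120, 120, 120, 128, 112], [121, 121, 121, 121, 121, 129, 113, 128], [122, 122, 122, 122, 130, 114, 129, 122], [123, 123, 123, 131, 115, 130, 123, 123], [124, 132, 133, 116, 131, 124, 124, 124], [134, 125, 117, 133, 125, 125, 125, 125], [126, 118, 126, 132, 126, 126, 126, 126], [119, 127, 134, 127, 127, 127, 127, 127],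
    [128, 128, 128, 128, 128, 135, 120, 121], [129, 129, 129, 129, 136, 121, 122, 135], [130, 130, 130, 137, 122, 123, 136, 130], [131, 138, 139, 123, 124, 137, 131, 131], [132, 124, 140, 126, 138, 132, 132, 132], [141, 140, 124, 125, 139, 133, 133, 133], [125, 134, 127, 141, 134, 134, 134, 134], [135, 135, 135, 135, 142, 128, 135, 129],
    [136, 136, 136, 143, 129, 136, 130, 142], [137, 144, 145, 130, 137, 131, 143, 137], [138, 131, 146, 138, 132, 144, 138, 138], [147, 146, 131, 139, 133, 145, 139, 139], [148, 133, 132, 140, 146, 140, 140, 140], [133, 148, 141, 134, 147, 141, 141, 141], [142, 142, 142, 149, 135, 142, 142, 136], [143, 150, 151, 136, 143, 143, 137, 149],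
    [144, 137, 152, 144, 144, 138, 150, 144], [153, 152, 137, 145, 145, 139, 151, 145], [154, 139, 138, 155, 140, 152, 146, 146], [139, 154, 147, 147, 141, 153, 147, 147], [140, 141, 148, 148, 154, 148, 148, 148], [149, 156, 157, 142, 149, 149, 149, 143], [150, 143, 158, 150, 150, 150, 144, 156], [159, 158, 143, 151, 151, 151, 145, 157],
    [160, 145, 144, 161, 152, 146, 158, 152], [145, 160, 153, 153, 153, 147, 159, 153], [146, 147, 154, 162, 148, 160, 154, 154], [162, 155, 155, 146, 155, 161, 155, 155], [156, 149, 163, 156, 156, 156, 156, 150], [164, 163, 149, 157, 157, 157, 157, 151], [165, 151, 150, 166, 158, 158, 152, 163], [151, 165, 159, 159, 159, 159, 153, 164],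
    [152, 153, 160, 167, 160, 154, 165, 160], [167, 161, 161, 152, 168, 155, 166, 161], [155, 162, 169, 154, 162, 167, 162, 162], [170, 157, 156, 171, 163, 163, 163, 158], [157, 170, 164, 164, 164, 164, 164, 159], [158, 159, 165, 172, 165, 165, 160, 170], [172, 166, 166, 158, 173, 166, 161, 171], [161, 167, 174, 160, 175, 162, 172, 167],
    [175, 168, 168, 168, 161, 168, 173, 168], [169, 169, 162, 169, 169, 174, 169, 169], [163, 164, 170, 176, 170, 170, 170, 165], [176, 171, 171, 163, 177, 171, 171, 166], [166, 172, 178, 165, 179, 172, 167, 176], [179, 173, 173, 173, 166, 180, 168, 177], [174, 174, 167, 174, 181, 169, 178, 174], [168, 175, 181, 175, 167, 175, 179, 175],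
    [171, 176, 182, 170, 183, 176, 176, 172], [183, 177, 177, 177, 171, 184, 177, 173], [178, 178, 172, 178, 185, 178, 174, 182], [173, 179, 185, 179, 172, 186, 175, 183], [186, 180, 180, 180, 180, 173, 180, 184], [181, 181, 175, 187, 174, 181, 185, 181], [182, 182, 176, 182, 188, 182, 182, 178], [177, 183, 188, 183, 176, 189, 183, 179],
    [189, 184, 184, 184, 184, 177, 190, 180], [185, 185, 179, 191, 178, 192, 181, 188], [180, 186, 192, 186, 186, 179, 186, 189], [187, 193, 187, 181, 187, 187, 191, 187], [188, 188, 183, 194, 182, 195, 188, 185], [184, 189, 195, 189, 189, 183, 196, 186], [196, 190, 190, 190, 190, 190, 184, 190], [191, 197, 191, 185, 191, 198, 187, 194],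
    [192, 192, 186, 198, 192, 185, 192, 195], [193, 187, 193, 193, 193, 193, 197, 193], [194, 199, 194, 188, 194, 200, 194, 191], [195, 195, 189, 200, 195, 188, 201, 192], [190, 196, 201, 196, 196, 196, 189, 196], [197, 191, 197, 197, 197, 202, 193, 199], [198, 202, 198, 192, 203, 191, 198, 200], [199, 194, 199, 199, 199, 204, 199, 197],
    [200, 204, 200, 195, 205, 194, 206, 198], [201, 201, 196, 206, 201, 201, 195, 201], [202, 198, 202, 202, 207, 197, 202, 204], [203, 207, 203, 203, 198, 203, 203, 205], [204, 200, 204, 204, 208, 199, 209, 202], [205, 208, 205, 205, 200, 205, 210, 203], [206, 209, 206, 201, 210, 206, 200, 206], [207, 203, 207, 211, 202, 207, 207, 208],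
    [208, 205, 208, 212, 204, 208, 213, 207], [209, 206, 209, 209, 213, 209, 204, 209], [210, 213, 210, 210, 206, 214, 205, 210], [211, 211, 215, 207, 211, 211, 211, 212], [212, 212, 216, 208, 212, 212, 217, 211], [213, 210, 213, 217, 209, 218, 208, 213], [214, 218, 214, 214, 214, 210, 214, 214], [219, 215, 211, 215, 215, 215, 215, 216],
    [220, 216, 212, 216, 216, 216, 221, 215], [217, 217, 221, 213, 217, 222, 212, 217], [218, 214, 218, 222, 218, 213, 218, 218], [215, 219, 219, 219, 219, 219, 219, 220], [216, 220, 220, 220, 220, 220, 223, 219], [223, 221, 217, 221, 221, 224, 216, 221], [222, 222, 224, 218, 225, 217, 222, 222], [221, 223, 223, 223, 223, 226, 220, 223],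
    [226, 224, 222, 224, 227, 221, 224, 224], [225, 225, 227, 225, 222, 225, 225, 225], [224, 226, 226, 226, 228, 223, 226, 226], [228, 227, 225, 229, 224, 227, 227, 227], [227, 228, 228, 230, 226, 228, 228, 228], [230, 231, 229, 227, 229, 229, 229, 229], [229, 232, 233, 228, 230, 230, 230, 230], [232, 229, 231, 231, 231, 231, 231, 231],
    [231, 230, 234, 232, 232, 232, 232, 232], [233, 234, 230, 233, 233, 233, 233, 233], [234, 233, 232, 235, 234, 234, 234, 234], [235, 235, 235, 234, 236, 235, 235, 235], [236, 236, 236, 236, 235, 237, 236, 236], [237, 237, 237, 237, 237, 236, 238, 237], [238, 238, 238, 238, 238, 238, 237, 239], [239, 239, 239, 239, 239, 239, 239, 238]]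
  words := [
    [], [7], [6, 7], [5, 6, 7],
    [4, 5, 6, 7], [3, 4, 5, 6, 7], [1, 3, 4, 5, 6, 7], [2, 3, 4, 5, 6, 7],
    [2, 1, 3, 4, 5, 6, 7], [0, 2, 3, 4, 5, 6, 7], [0, 2, 1, 3, 4, 5, 6, 7], [3, 2, 1, 3, 4, 5, 6, 7],
    [3, 0, 2, 1, 3, 4, 5, 6, 7], [4, 3, 2, 1, 3, 4, 5, 6, 7], [2, 3, 0, 2, 1, 3, 4, 5, 6, 7], [4, 3, 0, 2, 1, 3, 4, 5, 6, 7],
    [5, 4, 3, 2, 1, 3, 4, 5, 6, 7], [4, 2, 3, 0, 2, 1, 3, 4, 5, 6, 7], [5, 4, 3, 0, 2, 1, 3, 4, 5, 6, 7], [6, 5, 4, 3, 2, 1, 3, 4, 5, 6, 7],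
    [3, 4, 2, 3, 0, 2, 1, 3, 4, 5, 6, 7], [5, 4, 2, 3, 0, 2, 1, 3, 4, 5, 6, 7], [6, 5, 4, 3, 0, 2, 1, 3, 4, 5, 6, 7], [7, 6, 5, 4, 3, 2, 1, 3, 4, 5, 6, 7],
    [1, 3, 4, 2, 3, 0, 2, 1, 3, 4, 5, 6, 7], [5, 3, 4, 2, 3, 0, 2, 1, 3, 4, 5, 6, 7], [6, 5, 4, 2, 3, 0, 2, 1, 3, 4, 5, 6, 7], [7, 6, 5, 4, 3, 0, 2, 1, 3, 4, 5, 6, 7],
    [5, 1, 3, 4, 2, 3, 0, 2, 1, 3, 4, 5, 6, 7], [4, 5, 3, 4, 2, 3, 0, 2, 1, 3, 4, 5, 6, 7], [6, 5, 3, 4, 2, 3, 0, 2, 1, 3, 4, 5, 6, 7], [7, 6, 5, 4, 2, 3, 0, 2, 1, 3, 4, 5, 6, 7],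
    [4, 5, 1, 3, 4, 2, 3, 0, 2, 1, 3, 4, 5, 6, 7], [6, 5, 1, 3, 4, 2, 3, 0, 2, 1, 3, 4, 5, 6, 7], [6, 4, 5, 3, 4, 2, 3, 0, 2, 1, 3, 4, 5, 6, 7], [7, 6, 5, 3, 4, 2, 3, 0, 2, 1, 3, 4, 5, 6, 7],
    [3, 4, 5, 1, 3, 4, 2, 3, 0, 2, 1, 3, 4, 5, 6, 7], [6, 4, 5, 1, 3, 4, 2, 3, 0, 2, 1, 3, 4, 5, 6, 7], [7, 6, 5, 1, 3, 4, 2, 3, 0, 2, 1, 3, 4, 5, 6, 7], [5, 6, 4, 5, 3, 4, 2, 3, 0, 2, 1, 3, 4, 5, 6, 7],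
    [7, 6, 4, 5, 3, 4, 2, 3, 0, 2, 1, 3, 4, 5, 6, 7], [2, 3, 4, 5, 1, 3, 4, 2, 3, 0, 2, 1, 3, 4, 5, 6, 7], [6, 3, 4, 5, 1, 3, 4, 2, 3, 0, 2, 1, 3, 4, 5, 6, 7], [5, 6, 4, 5, 1, 3, 4, 2, 3, 0, 2, 1, 3, 4, 5, 6, 7],
    [7, 6, 4, 5, 1, 3, 4, 2, 3, 0, 2, 1, 3, 4, 5, 6, 7], [7, 5, 6, 4, 5, 3, 4, 2, 3, 0, 2, 1, 3, 4, 5, 6, 7], [0, 2, 3, 4, 5, 1, 3, 4, 2, 3, 0, 2, 1, 3, 4, 5, 6, 7], [6, 2, 3, 4, 5, 1, 3, 4, 2, 3, 0, 2, 1, 3, 4, 5, 6, 7],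
    [5, 6, 3, 4, 5, 1, 3, 4, 2, 3, 0, 2, 1, 3, 4, 5, 6, 7], [7, 6, 3, 4, 5, 1, 3, 4, 2, 3, 0, 2, 1, 3, 4, 5, 6, 7], [7, 5, 6, 4, 5, 1, 3, 4, 2, 3, 0, 2, 1, 3, 4, 5, 6, 7], [6, 7, 5, 6, 4, 5, 3, 4, 2, 3, 0, 2, 1, 3, 4, 5, 6, 7],
    [6, 0, 2, 3, 4, 5, 1, 3, 4, 2, 3, 0, 2, 1, 3, 4, 5, 6, 7], [5, 6, 2, 3, 4, 5, 1, 3, 4, 2, 3, 0, 2, 1, 3, 4, 5, 6, 7], [7, 6, 2, 3, 4, 5, 1, 3, 4, 2, 3, 0, 2, 1, 3, 4, 5, 6, 7], [4, 5, 6, 3, 4, 5, 1, 3, 4, 2, 3, 0, 2, 1, 3, 4, 5, 6, 7],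
    [7, 5, 6, 3, 4, 5, 1, 3, 4, 2, 3, 0, 2, 1, 3, 4, 5, 6, 7], [6, 7, 5, 6, 4, 5, 1, 3, 4, 2, 3, 0, 2, 1, 3, 4, 5, 6, 7], [5, 6, 0, 2, 3, 4, 5, 1, 3, 4, 2, 3, 0, 2, 1, 3, 4, 5, 6, 7], [7, 6, 0, 2, 3, 4, 5, 1, 3, 4, 2, 3, 0, 2, 1, 3, 4, 5, 6, 7],
    [4, 5, 6, 2, 3, 4, 5, 1, 3, 4, 2, 3, 0, 2, 1, 3, 4, 5, 6, 7], [7, 5, 6, 2, 3, 4, 5, 1, 3, 4, 2, 3, 0, 2, 1, 3, 4, 5, 6, 7], [7, 4, 5, 6, 3, 4, 5, 1, 3, 4, 2, 3, 0, 2, 1, 3, 4, 5, 6, 7], [6, 7, 5, 6, 3, 4, 5, 1, 3, 4, 2, 3, 0, 2, 1, 3, 4, 5, 6, 7],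
    [4, 5, 6, 0, 2, 3, 4, 5, 1, 3, 4, 2, 3, 0, 2, 1, 3, 4, 5, 6, 7], [7, 5, 6, 0, 2, 3, 4, 5, 1, 3, 4, 2, 3, 0, 2, 1, 3, 4, 5, 6, 7], [3, 4, 5, 6, 2, 3, 4, 5, 1, 3, 4, 2, 3, 0, 2, 1, 3, 4, 5, 6, 7], [7, 4, 5, 6, 2, 3, 4, 5, 1, 3, 4, 2, 3, 0, 2, 1, 3, 4, 5, 6, 7],
    [6, 7, 5, 6, 2, 3, 4, 5, 1, 3, 4, 2, 3, 0, 2, 1, 3, 4, 5, 6, 7], [6, 7, 4, 5, 6, 3, 4, 5, 1, 3, 4, 2, 3, 0, 2, 1, 3, 4, 5, 6, 7], [3, 4, 5, 6, 0, 2, 3, 4, 5, 1, 3, 4, 2, 3, 0, 2, 1, 3, 4, 5, 6, 7], [7, 4, 5, 6, 0, 2, 3, 4, 5, 1, 3, 4, 2, 3, 0, 2, 1, 3, 4, 5, 6, 7],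
    [6, 7, 5, 6, 0, 2, 3, 4, 5, 1, 3, 4, 2, 3, 0, 2, 1, 3, 4, 5, 6, 7], [1, 3, 4, 5, 6, 2, 3, 4, 5, 1, 3, 4, 2, 3, 0, 2, 1, 3, 4, 5, 6, 7], [7, 3, 4, 5, 6, 2, 3, 4, 5, 1, 3, 4, 2, 3, 0, 2, 1, 3, 4, 5, 6, 7], [6, 7, 4, 5, 6, 2, 3, 4, 5, 1, 3, 4, 2, 3, 0, 2, 1, 3, 4, 5, 6, 7],
    [5, 6, 7, 4, 5, 6, 3, 4, 5, 1, 3, 4, 2, 3, 0, 2, 1, 3, 4, 5, 6, 7], [1, 3, 4, 5, 6, 0, 2, 3, 4, 5, 1, 3, 4, 2, 3, 0, 2, 1, 3, 4, 5, 6, 7], [2, 3, 4, 5, 6, 0, 2, 3, 4, 5, 1, 3, 4, 2, 3, 0, 2, 1, 3, 4, 5, 6, 7], [7, 3, 4, 5, 6, 0, 2, 3, 4, 5, 1, 3, 4, 2, 3, 0, 2, 1, 3, 4, 5, 6, 7],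
    [6, 7, 4, 5, 6, 0, 2, 3, 4, 5, 1, 3, 4, 2, 3, 0, 2, 1, 3, 4, 5, 6, 7], [7, 1, 3, 4, 5, 6, 2, 3, 4, 5, 1, 3, 4, 2, 3, 0, 2, 1, 3, 4, 5, 6, 7], [6, 7, 3, 4, 5, 6, 2, 3, 4, 5, 1, 3, 4, 2, 3, 0, 2, 1, 3, 4, 5, 6, 7], [5, 6, 7, 4, 5, 6, 2, 3, 4, 5, 1, 3, 4, 2, 3, 0, 2, 1, 3, 4, 5, 6, 7],
    [2, 1, 3, 4, 5, 6, 0, 2, 3, 4, 5, 1, 3, 4, 2, 3, 0, 2, 1, 3, 4, 5, 6, 7], [7, 1, 3, 4, 5, 6, 0, 2, 3, 4, 5, 1, 3, 4, 2, 3, 0, 2, 1, 3, 4, 5, 6, 7], [7, 2, 3, 4, 5, 6, 0, 2, 3, 4, 5, 1, 3, 4, 2, 3, 0, 2, 1, 3, 4, 5, 6, 7], [6, 7, 3, 4, 5, 6, 0, 2, 3, 4, 5, 1, 3, 4, 2, 3, 0, 2, 1, 3, 4, 5, 6, 7],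
    [5, 6, 7, 4, 5, 6, 0, 2, 3, 4, 5, 1, 3, 4, 2, 3, 0, 2, 1, 3, 4, 5, 6, 7], [6, 7, 1, 3, 4, 5, 6, 2, 3, 4, 5, 1, 3, 4, 2, 3, 0, 2, 1, 3, 4, 5, 6, 7], [5, 6, 7, 3, 4, 5, 6, 2, 3, 4, 5, 1, 3, 4, 2, 3, 0, 2, 1, 3, 4, 5, 6, 7], [3, 2, 1, 3, 4, 5, 6, 0, 2, 3, 4, 5, 1, 3, 4, 2, 3, 0, 2, 1, 3, 4, 5, 6, 7],
    [7, 2, 1, 3, 4, 5, 6, 0, 2, 3, 4, 5, 1, 3, 4, 2, 3, 0, 2, 1, 3, 4, 5, 6, 7], [6, 7, 1, 3, 4, 5, 6, 0, 2, 3, 4, 5, 1, 3, 4, 2, 3, 0, 2, 1, 3, 4, 5, 6, 7], [6, 7, 2, 3, 4, 5, 6, 0, 2, 3, 4, 5, 1, 3, 4, 2, 3, 0, 2, 1, 3, 4, 5, 6, 7], [5, 6, 7, 3, 4, 5, 6, 0, 2, 3, 4, 5, 1, 3, 4, 2, 3, 0, 2, 1, 3, 4, 5, 6, 7],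
    [5, 6, 7, 1, 3, 4, 5, 6, 2, 3, 4, 5, 1, 3, 4, 2, 3, 0, 2, 1, 3, 4, 5, 6, 7], [4, 5, 6, 7, 3, 4, 5, 6, 2, 3, 4, 5, 1, 3, 4, 2, 3, 0, 2, 1, 3, 4, 5, 6, 7], [4, 3, 2, 1, 3, 4, 5, 6, 0, 2, 3, 4, 5, 1, 3, 4, 2, 3, 0, 2, 1, 3, 4, 5, 6, 7], [7, 3, 2, 1, 3, 4, 5, 6, 0, 2, 3, 4, 5, 1, 3, 4, 2, 3, 0, 2, 1, 3, 4, 5, 6, 7],
    [6, 7, 2, 1, 3, 4, 5, 6, 0, 2, 3, 4, 5, 1, 3, 4, 2, 3, 0, 2, 1, 3, 4, 5, 6, 7], [5, 6, 7, 1, 3, 4, 5, 6, 0, 2, 3, 4, 5, 1, 3, 4, 2, 3, 0, 2, 1, 3, 4, 5, 6, 7], [5, 6, 7, 2, 3, 4, 5, 6, 0, 2, 3, 4, 5, 1, 3, 4, 2, 3, 0, 2, 1, 3, 4, 5, 6, 7], [4, 5, 6, 7, 3, 4, 5, 6, 0, 2, 3, 4, 5, 1, 3, 4, 2, 3, 0, 2, 1, 3, 4, 5, 6, 7],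
    [4, 5, 6, 7, 1, 3, 4, 5, 6, 2, 3, 4, 5, 1, 3, 4, 2, 3, 0, 2, 1, 3, 4, 5, 6, 7], [5, 4, 3, 2, 1, 3, 4, 5, 6, 0, 2, 3, 4, 5, 1, 3, 4, 2, 3, 0, 2, 1, 3, 4, 5, 6, 7], [7, 4, 3, 2, 1, 3, 4, 5, 6, 0, 2, 3, 4, 5, 1, 3, 4, 2, 3, 0, 2, 1, 3, 4, 5, 6, 7], [6, 7, 3, 2, 1, 3, 4, 5, 6, 0, 2, 3, 4, 5, 1, 3, 4, 2, 3, 0, 2, 1, 3, 4, 5, 6, 7],
    [5, 6, 7, 2, 1, 3, 4, 5, 6, 0, 2, 3, 4, 5, 1, 3, 4, 2, 3, 0, 2, 1, 3, 4, 5, 6, 7], [4, 5, 6, 7, 1, 3, 4, 5, 6, 0, 2, 3, 4, 5, 1, 3, 4, 2, 3, 0, 2, 1, 3, 4, 5, 6, 7], [4, 5, 6, 7, 2, 3, 4, 5, 6, 0, 2, 3, 4, 5, 1, 3, 4, 2, 3, 0, 2, 1, 3, 4, 5, 6, 7], [3, 4, 5, 6, 7, 1, 3, 4, 5, 6, 2, 3, 4, 5, 1, 3, 4, 2, 3, 0, 2, 1, 3, 4, 5, 6, 7],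
    [6, 5, 4, 3, 2, 1, 3, 4, 5, 6, 0, 2, 3, 4, 5, 1, 3, 4, 2, 3, 0, 2, 1, 3, 4, 5, 6, 7], [7, 5, 4, 3, 2, 1, 3, 4, 5, 6, 0, 2, 3, 4, 5, 1, 3, 4, 2, 3, 0, 2, 1, 3, 4, 5, 6, 7], [6, 7, 4, 3, 2, 1, 3, 4, 5, 6, 0, 2, 3, 4, 5, 1, 3, 4, 2, 3, 0, 2, 1, 3, 4, 5, 6, 7], [5, 6, 7, 3, 2, 1, 3, 4, 5, 6, 0, 2, 3, 4, 5, 1, 3, 4, 2, 3, 0, 2, 1, 3, 4, 5, 6, 7],
    [4, 5, 6, 7, 2, 1, 3, 4, 5, 6, 0, 2, 3, 4, 5, 1, 3, 4, 2, 3, 0, 2, 1, 3, 4, 5, 6, 7], [3, 4, 5, 6, 7, 1, 3, 4, 5, 6, 0, 2, 3, 4, 5, 1, 3, 4, 2, 3, 0, 2, 1, 3, 4, 5, 6, 7], [3, 4, 5, 6, 7, 2, 3, 4, 5, 6, 0, 2, 3, 4, 5, 1, 3, 4, 2, 3, 0, 2, 1, 3, 4, 5, 6, 7], [2, 3, 4, 5, 6, 7, 1, 3, 4, 5, 6, 2, 3, 4, 5, 1, 3, 4, 2, 3, 0, 2, 1, 3, 4, 5, 6, 7],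
    [7, 6, 5, 4, 3, 2, 1, 3, 4, 5, 6, 0, 2, 3, 4, 5, 1, 3, 4, 2, 3, 0, 2, 1, 3, 4, 5, 6, 7], [6, 7, 5, 4, 3, 2, 1, 3, 4, 5, 6, 0, 2, 3, 4, 5, 1, 3, 4, 2, 3, 0, 2, 1, 3, 4, 5, 6, 7], [5, 6, 7, 4, 3, 2, 1, 3, 4, 5, 6, 0, 2, 3, 4, 5, 1, 3, 4, 2, 3, 0, 2, 1, 3, 4, 5, 6, 7], [4, 5, 6, 7, 3, 2, 1, 3, 4, 5, 6, 0, 2, 3, 4, 5, 1, 3, 4, 2, 3, 0, 2, 1, 3, 4, 5, 6, 7],
    [3, 4, 5, 6, 7, 2, 1, 3, 4, 5, 6, 0, 2, 3, 4, 5, 1, 3, 4, 2, 3, 0, 2, 1, 3, 4, 5, 6, 7], [2, 3, 4, 5, 6, 7, 1, 3, 4, 5, 6, 0, 2, 3, 4, 5, 1, 3, 4, 2, 3, 0, 2, 1, 3, 4, 5, 6, 7], [1, 3, 4, 5, 6, 7, 2, 3, 4, 5, 6, 0, 2, 3, 4, 5, 1, 3, 4, 2, 3, 0, 2, 1, 3, 4, 5, 6, 7], [0, 2, 3, 4, 5, 6, 7, 1, 3, 4, 5, 6, 2, 3, 4, 5, 1, 3, 4, 2, 3, 0, 2, 1, 3, 4, 5, 6, 7],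
    [6, 7, 6, 5, 4, 3, 2, 1, 3, 4, 5, 6, 0, 2, 3, 4, 5, 1, 3, 4, 2, 3, 0, 2, 1, 3, 4, 5, 6, 7], [5, 6, 7, 5, 4, 3, 2, 1, 3, 4, 5, 6, 0, 2, 3, 4, 5, 1, 3, 4, 2, 3, 0, 2, 1, 3, 4, 5, 6, 7], [4, 5, 6, 7, 4, 3, 2, 1, 3, 4, 5, 6, 0, 2, 3, 4, 5, 1, 3, 4, 2, 3, 0, 2, 1, 3, 4, 5, 6, 7], [3, 4, 5, 6, 7, 3, 2, 1, 3, 4, 5, 6, 0, 2, 3, 4, 5, 1, 3, 4, 2, 3, 0, 2, 1, 3, 4, 5, 6, 7],
    [1, 3, 4, 5, 6, 7, 2, 1, 3, 4, 5, 6, 0, 2, 3, 4, 5, 1, 3, 4, 2, 3, 0, 2, 1, 3, 4, 5, 6, 7], [2, 3, 4, 5, 6, 7, 2, 1, 3, 4, 5, 6, 0, 2, 3, 4, 5, 1, 3, 4, 2, 3, 0, 2, 1, 3, 4, 5, 6, 7], [0, 2, 3, 4, 5, 6, 7, 1, 3, 4, 5, 6, 0, 2, 3, 4, 5, 1, 3, 4, 2, 3, 0, 2, 1, 3, 4, 5, 6, 7], [5, 6, 7, 6, 5, 4, 3, 2, 1, 3, 4, 5, 6, 0, 2, 3, 4, 5, 1, 3, 4, 2, 3, 0, 2, 1, 3, 4, 5, 6, 7],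
    [4, 5, 6, 7, 5, 4, 3, 2, 1, 3, 4, 5, 6, 0, 2, 3, 4, 5, 1, 3, 4, 2, 3, 0, 2, 1, 3, 4, 5, 6, 7], [3, 4, 5, 6, 7, 4, 3, 2, 1, 3, 4, 5, 6, 0, 2, 3, 4, 5, 1, 3, 4, 2, 3, 0, 2, 1, 3, 4, 5, 6, 7], [1, 3, 4, 5, 6, 7, 3, 2, 1, 3, 4, 5, 6, 0, 2, 3, 4, 5, 1, 3, 4, 2, 3, 0, 2, 1, 3, 4, 5, 6, 7], [2, 3, 4, 5, 6, 7, 3, 2, 1, 3, 4, 5, 6, 0, 2, 3, 4, 5, 1, 3, 4, 2, 3, 0, 2, 1, 3, 4, 5, 6, 7],
    [2, 1, 3, 4, 5, 6, 7, 2, 1, 3, 4, 5, 6, 0, 2, 3, 4, 5, 1, 3, 4, 2, 3, 0, 2, 1, 3, 4, 5, 6, 7], [0, 2, 3, 4, 5, 6, 7, 2, 1, 3, 4, 5, 6, 0, 2, 3, 4, 5, 1, 3, 4, 2, 3, 0, 2, 1, 3, 4, 5, 6, 7], [4, 5, 6, 7, 6, 5, 4, 3, 2, 1, 3, 4, 5, 6, 0, 2, 3, 4, 5, 1, 3, 4, 2, 3, 0, 2, 1, 3, 4, 5, 6, 7], [3, 4, 5, 6, 7, 5, 4, 3, 2, 1, 3, 4, 5, 6, 0, 2, 3, 4, 5, 1, 3, 4, 2, 3, 0, 2, 1, 3, 4, 5, 6, 7],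
    [1, 3, 4, 5, 6, 7, 4, 3, 2, 1, 3, 4, 5, 6, 0, 2, 3, 4, 5, 1, 3, 4, 2, 3, 0, 2, 1, 3, 4, 5, 6, 7], [2, 3, 4, 5, 6, 7, 4, 3, 2, 1, 3, 4, 5, 6, 0, 2, 3, 4, 5, 1, 3, 4, 2, 3, 0, 2, 1, 3, 4, 5, 6, 7], [2, 1, 3, 4, 5, 6, 7, 3, 2, 1, 3, 4, 5, 6, 0, 2, 3, 4, 5, 1, 3, 4, 2, 3, 0, 2, 1, 3, 4, 5, 6, 7], [0, 2, 3, 4, 5, 6, 7, 3, 2, 1, 3, 4, 5, 6, 0, 2, 3, 4, 5, 1, 3, 4, 2, 3, 0, 2, 1, 3, 4, 5, 6, 7],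
    [0, 2, 1, 3, 4, 5, 6, 7, 2, 1, 3, 4, 5, 6, 0, 2, 3, 4, 5, 1, 3, 4, 2, 3, 0, 2, 1, 3, 4, 5, 6, 7], [3, 4, 5, 6, 7, 6, 5, 4, 3, 2, 1, 3, 4, 5, 6, 0, 2, 3, 4, 5, 1, 3, 4, 2, 3, 0, 2, 1, 3, 4, 5, 6, 7], [1, 3, 4, 5, 6, 7, 5, 4, 3, 2, 1, 3, 4, 5, 6, 0, 2, 3, 4, 5, 1, 3, 4, 2, 3, 0, 2, 1, 3, 4, 5, 6, 7], [2, 3, 4, 5, 6, 7, 5, 4, 3, 2, 1, 3, 4, 5, 6, 0, 2, 3, 4, 5, 1, 3, 4, 2, 3, 0, 2, 1, 3, 4, 5, 6, 7],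
    [2, 1, 3, 4, 5, 6, 7, 4, 3, 2, 1, 3, 4, 5, 6, 0, 2, 3, 4, 5, 1, 3, 4, 2, 3, 0, 2, 1, 3, 4, 5, 6, 7], [0, 2, 3, 4, 5, 6, 7, 4, 3, 2, 1, 3, 4, 5, 6, 0, 2, 3, 4, 5, 1, 3, 4, 2, 3, 0, 2, 1, 3, 4, 5, 6, 7], [0, 2, 1, 3, 4, 5, 6, 7, 3, 2, 1, 3, 4, 5, 6, 0, 2, 3, 4, 5, 1, 3, 4, 2, 3, 0, 2, 1, 3, 4, 5, 6, 7], [3, 2, 1, 3, 4, 5, 6, 7, 3, 2, 1, 3, 4, 5, 6, 0, 2, 3, 4, 5, 1, 3, 4, 2, 3, 0, 2, 1, 3, 4, 5, 6, 7],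
    [1, 3, 4, 5, 6, 7, 6, 5, 4, 3, 2, 1, 3, 4, 5, 6, 0, 2, 3, 4, 5, 1, 3, 4, 2, 3, 0, 2, 1, 3, 4, 5, 6, 7], [2, 3, 4, 5, 6, 7, 6, 5, 4, 3, 2, 1, 3, 4, 5, 6, 0, 2, 3, 4, 5, 1, 3, 4, 2, 3, 0, 2, 1, 3, 4, 5, 6, 7], [2, 1, 3, 4, 5, 6, 7, 5, 4, 3, 2, 1, 3, 4, 5, 6, 0, 2, 3, 4, 5, 1, 3, 4, 2, 3, 0, 2, 1, 3, 4, 5, 6, 7], [0, 2, 3, 4, 5, 6, 7, 5, 4, 3, 2, 1, 3, 4, 5, 6, 0, 2, 3, 4, 5, 1, 3, 4, 2, 3, 0, 2, 1, 3, 4, 5, 6, 7],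
    [0, 2, 1, 3, 4, 5, 6, 7, 4, 3, 2, 1, 3, 4, 5, 6, 0, 2, 3, 4, 5, 1, 3, 4, 2, 3, 0, 2, 1, 3, 4, 5, 6, 7], [3, 2, 1, 3, 4, 5, 6, 7, 4, 3, 2, 1, 3, 4, 5, 6, 0, 2, 3, 4, 5, 1, 3, 4, 2, 3, 0, 2, 1, 3, 4, 5, 6, 7], [3, 0, 2, 1, 3, 4, 5, 6, 7, 3, 2, 1, 3, 4, 5, 6, 0, 2, 3, 4, 5, 1, 3, 4, 2, 3, 0, 2, 1, 3, 4, 5, 6, 7], [2, 1, 3, 4, 5, 6, 7, 6, 5, 4, 3, 2, 1, 3, 4, 5, 6, 0, 2, 3, 4, 5, 1, 3, 4, 2, 3, 0, 2, 1, 3, 4, 5, 6, 7],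
    [0, 2, 3, 4, 5, 6, 7, 6, 5, 4, 3, 2, 1, 3, 4, 5, 6, 0, 2, 3, 4, 5, 1, 3, 4, 2, 3, 0, 2, 1, 3, 4, 5, 6, 7], [0, 2, 1, 3, 4, 5, 6, 7, 5, 4, 3, 2, 1, 3, 4, 5, 6, 0, 2, 3, 4, 5, 1, 3, 4, 2, 3, 0, 2, 1, 3, 4, 5, 6, 7], [3, 2, 1, 3, 4, 5, 6, 7, 5, 4, 3, 2, 1, 3, 4, 5, 6, 0, 2, 3, 4, 5, 1, 3, 4, 2, 3, 0, 2, 1, 3, 4, 5, 6, 7], [3, 0, 2, 1, 3, 4, 5, 6, 7, 4, 3, 2, 1, 3, 4, 5, 6, 0, 2, 3, 4, 5, 1, 3, 4, 2, 3, 0, 2, 1, 3, 4, 5, 6, 7],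
    [4, 3, 2, 1, 3, 4, 5, 6, 7, 4, 3, 2, 1, 3, 4, 5, 6, 0, 2, 3, 4, 5, 1, 3, 4, 2, 3, 0, 2, 1, 3, 4, 5, 6, 7], [2, 3, 0, 2, 1, 3, 4, 5, 6, 7, 3, 2, 1, 3, 4, 5, 6, 0, 2, 3, 4, 5, 1, 3, 4, 2, 3, 0, 2, 1, 3, 4, 5, 6, 7], [0, 2, 1, 3, 4, 5, 6, 7, 6, 5, 4, 3, 2, 1, 3, 4, 5, 6, 0, 2, 3, 4, 5, 1, 3, 4, 2, 3, 0, 2, 1, 3, 4, 5, 6, 7], [3, 2, 1, 3, 4, 5, 6, 7, 6, 5, 4, 3, 2, 1, 3, 4, 5, 6, 0, 2, 3, 4, 5, 1, 3, 4, 2, 3, 0, 2, 1, 3, 4, 5, 6, 7],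
    [3, 0, 2, 1, 3, 4, 5, 6, 7, 5, 4, 3, 2, 1, 3, 4, 5, 6, 0, 2, 3, 4, 5, 1, 3, 4, 2, 3, 0, 2, 1, 3, 4, 5, 6, 7], [4, 3, 2, 1, 3, 4, 5, 6, 7, 5, 4, 3, 2, 1, 3, 4, 5, 6, 0, 2, 3, 4, 5, 1, 3, 4, 2, 3, 0, 2, 1, 3, 4, 5, 6, 7], [2, 3, 0, 2, 1, 3, 4, 5, 6, 7, 4, 3, 2, 1, 3, 4, 5, 6, 0, 2, 3, 4, 5, 1, 3, 4, 2, 3, 0, 2, 1, 3, 4, 5, 6, 7], [4, 3, 0, 2, 1, 3, 4, 5, 6, 7, 4, 3, 2, 1, 3, 4, 5, 6, 0, 2, 3, 4, 5, 1, 3, 4, 2, 3, 0, 2, 1, 3, 4, 5, 6, 7],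
    [3, 0, 2, 1, 3, 4, 5, 6, 7, 6, 5, 4, 3, 2, 1, 3, 4, 5, 6, 0, 2, 3, 4, 5, 1, 3, 4, 2, 3, 0, 2, 1, 3, 4, 5, 6, 7], [4, 3, 2, 1, 3, 4, 5, 6, 7, 6, 5, 4, 3, 2, 1, 3, 4, 5, 6, 0, 2, 3, 4, 5, 1, 3, 4, 2, 3, 0, 2, 1, 3, 4, 5, 6, 7], [2, 3, 0, 2, 1, 3, 4, 5, 6, 7, 5, 4, 3, 2, 1, 3, 4, 5, 6, 0, 2, 3, 4, 5, 1, 3, 4, 2, 3, 0, 2, 1, 3, 4, 5, 6, 7], [4, 3, 0, 2, 1, 3, 4, 5, 6, 7, 5, 4, 3, 2, 1, 3, 4, 5, 6, 0, 2, 3, 4, 5, 1, 3, 4, 2, 3, 0, 2, 1, 3, 4, 5, 6, 7],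
    [5, 4, 3, 2, 1, 3, 4, 5, 6, 7, 5, 4, 3, 2, 1, 3, 4, 5, 6, 0, 2, 3, 4, 5, 1, 3, 4, 2, 3, 0, 2, 1, 3, 4, 5, 6, 7], [4, 2, 3, 0, 2, 1, 3, 4, 5, 6, 7, 4, 3, 2, 1, 3, 4, 5, 6, 0, 2, 3, 4, 5, 1, 3, 4, 2, 3, 0, 2, 1, 3, 4, 5, 6, 7], [2, 3, 0, 2, 1, 3, 4, 5, 6, 7, 6, 5, 4, 3, 2, 1, 3, 4, 5, 6, 0, 2, 3, 4, 5, 1, 3, 4, 2, 3, 0, 2, 1, 3, 4, 5, 6, 7], [4, 3, 0, 2, 1, 3, 4, 5, 6, 7, 6, 5, 4, 3, 2, 1, 3, 4, 5, 6, 0, 2, 3, 4, 5, 1, 3, 4, 2, 3, 0, 2, 1, 3, 4, 5, 6, 7],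
    [5, 4, 3, 2, 1, 3, 4, 5, 6, 7, 6, 5, 4, 3, 2, 1, 3, 4, 5, 6, 0, 2, 3, 4, 5, 1, 3, 4, 2, 3, 0, 2, 1, 3, 4, 5, 6, 7], [4, 2, 3, 0, 2, 1, 3, 4, 5, 6, 7, 5, 4, 3, 2, 1, 3, 4, 5, 6, 0, 2, 3, 4, 5, 1, 3, 4, 2, 3, 0, 2, 1, 3, 4, 5, 6, 7], [5, 4, 3, 0, 2, 1, 3, 4, 5, 6, 7, 5, 4, 3, 2, 1, 3, 4, 5, 6, 0, 2, 3, 4, 5, 1, 3, 4, 2, 3, 0, 2, 1, 3, 4, 5, 6, 7], [3, 4, 2, 3, 0, 2, 1, 3, 4, 5, 6, 7, 4, 3, 2, 1, 3, 4, 5, 6, 0, 2, 3, 4, 5, 1, 3, 4, 2, 3, 0, 2, 1, 3, 4, 5, 6, 7],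
    [4, 2, 3, 0, 2, 1, 3, 4, 5, 6, 7, 6, 5, 4, 3, 2, 1, 3, 4, 5, 6, 0, 2, 3, 4, 5, 1, 3, 4, 2, 3, 0, 2, 1, 3, 4, 5, 6, 7], [5, 4, 3, 0, 2, 1, 3, 4, 5, 6, 7, 6, 5, 4, 3, 2, 1, 3, 4, 5, 6, 0, 2, 3, 4, 5, 1, 3, 4, 2, 3, 0, 2, 1, 3, 4, 5, 6, 7], [6, 5, 4, 3, 2, 1, 3, 4, 5, 6, 7, 6, 5, 4, 3, 2, 1, 3, 4, 5, 6, 0, 2, 3, 4, 5, 1, 3, 4, 2, 3, 0, 2, 1, 3, 4, 5, 6, 7], [3, 4, 2, 3, 0, 2, 1, 3, 4, 5, 6, 7, 5, 4, 3, 2, 1, 3, 4, 5, 6, 0, 2, 3, 4, 5, 1, 3, 4, 2, 3, 0, 2, 1, 3, 4, 5, 6, 7],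
    [5, 4, 2, 3, 0, 2, 1, 3, 4, 5, 6, 7, 5, 4, 3, 2, 1, 3, 4, 5, 6, 0, 2, 3, 4, 5, 1, 3, 4, 2, 3, 0, 2, 1, 3, 4, 5, 6, 7], [1, 3, 4, 2, 3, 0, 2, 1, 3, 4, 5, 6, 7, 4, 3, 2, 1, 3, 4, 5, 6, 0, 2, 3, 4, 5, 1, 3, 4, 2, 3, 0, 2, 1, 3, 4, 5, 6, 7], [3, 4, 2, 3, 0, 2, 1, 3, 4, 5, 6, 7, 6, 5, 4, 3, 2, 1, 3, 4, 5, 6, 0, 2, 3, 4, 5, 1, 3, 4, 2, 3, 0, 2, 1, 3, 4, 5, 6, 7], [5, 4, 2, 3, 0, 2, 1, 3, 4, 5, 6, 7, 6, 5, 4, 3, 2, 1, 3, 4, 5, 6, 0, 2, 3, 4, 5, 1, 3, 4, 2, 3, 0, 2, 1, 3, 4, 5, 6, 7],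
    [6, 5, 4, 3, 0, 2, 1, 3, 4, 5, 6, 7, 6, 5, 4, 3, 2, 1, 3, 4, 5, 6, 0, 2, 3, 4, 5, 1, 3, 4, 2, 3, 0, 2, 1, 3, 4, 5, 6, 7], [1, 3, 4, 2, 3, 0, 2, 1, 3, 4, 5, 6, 7, 5, 4, 3, 2, 1, 3, 4, 5, 6, 0, 2, 3, 4, 5, 1, 3, 4, 2, 3, 0, 2, 1, 3, 4, 5, 6, 7], [5, 3, 4, 2, 3, 0, 2, 1, 3, 4, 5, 6, 7, 5, 4, 3, 2, 1, 3, 4, 5, 6, 0, 2, 3, 4, 5, 1, 3, 4, 2, 3, 0, 2, 1, 3, 4, 5, 6, 7], [1, 3, 4, 2, 3, 0, 2, 1, 3, 4, 5, 6, 7, 6, 5, 4, 3, 2, 1, 3, 4, 5, 6, 0, 2, 3, 4, 5, 1, 3, 4, 2, 3, 0, 2, 1, 3, 4, 5, 6, 7],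
    [5, 3, 4, 2, 3, 0, 2, 1, 3, 4, 5, 6, 7, 6, 5, 4, 3, 2, 1, 3, 4, 5, 6, 0, 2, 3, 4, 5, 1, 3, 4, 2, 3, 0, 2, 1, 3, 4, 5, 6, 7], [6, 5, 4, 2, 3, 0, 2, 1, 3, 4, 5, 6, 7, 6, 5, 4, 3, 2, 1, 3, 4, 5, 6, 0, 2, 3, 4, 5, 1, 3, 4, 2, 3, 0, 2, 1, 3, 4, 5, 6, 7], [5, 1, 3, 4, 2, 3, 0, 2, 1, 3, 4, 5, 6, 7, 5, 4, 3, 2, 1, 3, 4, 5, 6, 0, 2, 3, 4, 5, 1, 3, 4, 2, 3, 0, 2, 1, 3, 4, 5, 6, 7], [4, 5, 3, 4, 2, 3, 0, 2, 1, 3, 4, 5, 6, 7, 5, 4, 3, 2, 1, 3, 4, 5, 6, 0, 2, 3, 4, 5, 1, 3, 4, 2, 3, 0, 2, 1, 3, 4, 5, 6, 7],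
    [5, 1, 3, 4, 2, 3, 0, 2, 1, 3, 4, 5, 6, 7, 6, 5, 4, 3, 2, 1, 3, 4, 5, 6, 0, 2, 3, 4, 5, 1, 3, 4, 2, 3, 0, 2, 1, 3, 4, 5, 6, 7], [4, 5, 3, 4, 2, 3, 0, 2, 1, 3, 4, 5, 6, 7, 6, 5, 4, 3, 2, 1, 3, 4, 5, 6, 0, 2, 3, 4, 5, 1, 3, 4, 2, 3, 0, 2, 1, 3, 4, 5, 6, 7], [6, 5, 3, 4, 2, 3, 0, 2, 1, 3, 4, 5, 6, 7, 6, 5, 4, 3, 2, 1, 3, 4, 5, 6, 0, 2, 3, 4, 5, 1, 3, 4, 2, 3, 0, 2, 1, 3, 4, 5, 6, 7], [4, 5, 1, 3, 4, 2, 3, 0, 2, 1, 3, 4, 5, 6, 7, 5, 4, 3, 2, 1, 3, 4, 5, 6, 0, 2, 3, 4, 5, 1, 3, 4, 2, 3, 0, 2, 1, 3, 4, 5, 6, 7],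
    [4, 5, 1, 3, 4, 2, 3, 0, 2, 1, 3, 4, 5, 6, 7, 6, 5, 4, 3, 2, 1, 3, 4, 5, 6, 0, 2, 3, 4, 5, 1, 3, 4, 2, 3, 0, 2, 1, 3, 4, 5, 6, 7], [6, 5, 1, 3, 4, 2, 3, 0, 2, 1, 3, 4, 5, 6, 7, 6, 5, 4, 3, 2, 1, 3, 4, 5, 6, 0, 2, 3, 4, 5, 1, 3, 4, 2, 3, 0, 2, 1, 3, 4, 5, 6, 7], [6, 4, 5, 3, 4, 2, 3, 0, 2, 1, 3, 4, 5, 6, 7, 6, 5, 4, 3, 2, 1, 3, 4, 5, 6, 0, 2, 3, 4, 5, 1, 3, 4, 2, 3, 0, 2, 1, 3, 4, 5, 6, 7], [3, 4, 5, 1, 3, 4, 2, 3, 0, 2, 1, 3, 4, 5, 6, 7, 5, 4, 3, 2, 1, 3, 4, 5, 6, 0, 2, 3, 4, 5, 1, 3, 4, 2, 3, 0, 2, 1, 3, 4, 5, 6, 7],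
    [3, 4, 5, 1, 3, 4, 2, 3, 0, 2, 1, 3, 4, 5, 6, 7, 6, 5, 4, 3, 2, 1, 3, 4, 5, 6, 0, 2, 3, 4, 5, 1, 3, 4, 2, 3, 0, 2, 1, 3, 4, 5, 6, 7], [6, 4, 5, 1, 3, 4, 2, 3, 0, 2, 1, 3, 4, 5, 6, 7, 6, 5, 4, 3, 2, 1, 3, 4, 5, 6, 0, 2, 3, 4, 5, 1, 3, 4, 2, 3, 0, 2, 1, 3, 4, 5, 6, 7], [5, 6, 4, 5, 3, 4, 2, 3, 0, 2, 1, 3, 4, 5, 6, 7, 6, 5, 4, 3, 2, 1, 3, 4, 5, 6, 0, 2, 3, 4, 5, 1, 3, 4, 2, 3, 0, 2, 1, 3, 4, 5, 6, 7], [2, 3, 4, 5, 1, 3, 4, 2, 3, 0, 2, 1, 3, 4, 5, 6, 7, 5, 4, 3, 2, 1, 3, 4, 5, 6, 0, 2, 3, 4, 5, 1, 3, 4, 2, 3, 0, 2, 1, 3, 4, 5, 6, 7],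
    [2, 3, 4, 5, 1, 3, 4, 2, 3, 0, 2, 1, 3, 4, 5, 6, 7, 6, 5, 4, 3, 2, 1, 3, 4, 5, 6, 0, 2, 3, 4, 5, 1, 3, 4, 2, 3, 0, 2, 1, 3, 4, 5, 6, 7], [6, 3, 4, 5, 1, 3, 4, 2, 3, 0, 2, 1, 3, 4, 5, 6, 7, 6, 5, 4, 3, 2, 1, 3, 4, 5, 6, 0, 2, 3, 4, 5, 1, 3, 4, 2, 3, 0, 2, 1, 3, 4, 5, 6, 7], [5, 6, 4, 5, 1, 3, 4, 2, 3, 0, 2, 1, 3, 4, 5, 6, 7, 6, 5, 4, 3, 2, 1, 3, 4, 5, 6, 0, 2, 3, 4, 5, 1, 3, 4, 2, 3, 0, 2, 1, 3, 4, 5, 6, 7], [0, 2, 3, 4, 5, 1, 3, 4, 2, 3, 0, 2, 1, 3, 4, 5, 6, 7, 5, 4, 3, 2, 1, 3, 4, 5, 6, 0, 2, 3, 4, 5, 1, 3, 4, 2, 3, 0, 2, 1, 3, 4, 5, 6, 7],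
    [0, 2, 3, 4, 5, 1, 3, 4, 2, 3, 0, 2, 1, 3, 4, 5, 6, 7, 6, 5, 4, 3, 2, 1, 3, 4, 5, 6, 0, 2, 3, 4, 5, 1, 3, 4, 2, 3, 0, 2, 1, 3, 4, 5, 6, 7], [6, 2, 3, 4, 5, 1, 3, 4, 2, 3, 0, 2, 1, 3, 4, 5, 6, 7, 6, 5, 4, 3, 2, 1, 3, 4, 5, 6, 0, 2, 3, 4, 5, 1, 3, 4, 2, 3, 0, 2, 1, 3, 4, 5, 6, 7], [5, 6, 3, 4, 5, 1, 3, 4, 2, 3, 0, 2, 1, 3, 4, 5, 6, 7, 6, 5, 4, 3, 2, 1, 3, 4, 5, 6, 0, 2, 3, 4, 5, 1, 3, 4, 2, 3, 0, 2, 1, 3, 4, 5, 6, 7], [6, 0, 2, 3, 4, 5, 1, 3, 4, 2, 3, 0, 2, 1, 3, 4, 5, 6, 7, 6, 5, 4, 3, 2, 1, 3, 4, 5, 6, 0, 2, 3, 4, 5, 1, 3, 4, 2, 3, 0, 2, 1, 3, 4, 5, 6, 7],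
    [5, 6, 2, 3, 4, 5, 1, 3, 4, 2, 3, 0, 2, 1, 3, 4, 5, 6, 7, 6, 5, 4, 3, 2, 1, 3, 4, 5, 6, 0, 2, 3, 4, 5, 1, 3, 4, 2, 3, 0, 2, 1, 3, 4, 5, 6, 7], [4, 5, 6, 3, 4, 5, 1, 3, 4, 2, 3, 0, 2, 1, 3, 4, 5, 6, 7, 6, 5, 4, 3, 2, 1, 3, 4, 5, 6, 0, 2, 3, 4, 5, 1, 3, 4, 2, 3, 0, 2, 1, 3, 4, 5, 6, 7], [5, 6, 0, 2, 3, 4, 5, 1, 3, 4, 2, 3, 0, 2, 1, 3, 4, 5, 6, 7, 6, 5, 4, 3, 2, 1, 3, 4, 5, 6, 0, 2, 3, 4, 5, 1, 3, 4, 2, 3, 0, 2, 1, 3, 4, 5, 6, 7], [4, 5, 6, 2, 3, 4, 5, 1, 3, 4, 2, 3, 0, 2, 1, 3, 4, 5, 6, 7, 6, 5, 4, 3, 2, 1, 3, 4, 5, 6, 0, 2, 3, 4, 5, 1, 3, 4, 2, 3, 0, 2, 1, 3, 4, 5, 6, 7],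
    [4, 5, 6, 0, 2, 3, 4, 5, 1, 3, 4, 2, 3, 0, 2, 1, 3, 4, 5, 6, 7, 6, 5, 4, 3, 2, 1, 3, 4, 5, 6, 0, 2, 3, 4, 5, 1, 3, 4, 2, 3, 0, 2, 1, 3, 4, 5, 6, 7], [3, 4, 5, 6, 2, 3, 4, 5, 1, 3, 4, 2, 3, 0, 2, 1, 3, 4, 5, 6, 7, 6, 5, 4, 3, 2, 1, 3, 4, 5, 6, 0, 2, 3, 4, 5, 1, 3, 4, 2, 3, 0, 2, 1, 3, 4, 5, 6, 7], [3, 4, 5, 6, 0, 2, 3, 4, 5, 1, 3, 4, 2, 3, 0, 2, 1, 3, 4, 5, 6, 7, 6, 5, 4, 3, 2, 1, 3, 4, 5, 6, 0, 2, 3, 4, 5, 1, 3, 4, 2, 3, 0, 2, 1, 3, 4, 5, 6, 7], [1, 3, 4, 5, 6, 2, 3, 4, 5, 1, 3, 4, 2, 3, 0, 2, 1, 3, 4, 5, 6, 7, 6, 5, 4, 3, 2, 1, 3, 4, 5, 6, 0, 2, 3, 4, 5, 1, 3, 4, 2, 3, 0, 2, 1, 3, 4, 5, 6, 7],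
    [1, 3, 4, 5, 6, 0, 2, 3, 4, 5, 1, 3, 4, 2, 3, 0, 2, 1, 3, 4, 5, 6, 7, 6, 5, 4, 3, 2, 1, 3, 4, 5, 6, 0, 2, 3, 4, 5, 1, 3, 4, 2, 3, 0, 2, 1, 3, 4, 5, 6, 7], [2, 3, 4, 5, 6, 0, 2, 3, 4, 5, 1, 3, 4, 2, 3, 0, 2, 1, 3, 4, 5, 6, 7, 6, 5, 4, 3, 2, 1, 3, 4, 5, 6, 0, 2, 3, 4, 5, 1, 3, 4, 2, 3, 0, 2, 1, 3, 4, 5, 6, 7], [2, 1, 3, 4, 5, 6, 0, 2, 3, 4, 5, 1, 3, 4, 2, 3, 0, 2, 1, 3, 4, 5, 6, 7, 6, 5, 4, 3, 2, 1, 3, 4, 5, 6, 0, 2, 3, 4, 5, 1, 3, 4, 2, 3, 0, 2, 1, 3, 4, 5, 6, 7], [3, 2, 1, 3, 4, 5, 6, 0, 2, 3, 4, 5, 1, 3, 4, 2, 3, 0, 2, 1, 3, 4, 5, 6, 7, 6, 5, 4, 3, 2, 1, 3, 4, 5, 6, 0, 2, 3, 4, 5, 1, 3, 4, 2, 3, 0, 2, 1, 3, 4, 5, 6, 7],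
    [4, 3, 2, 1, 3, 4, 5, 6, 0, 2, 3, 4, 5, 1, 3, 4, 2, 3, 0, 2, 1, 3, 4, 5, 6, 7, 6, 5, 4, 3, 2, 1, 3, 4, 5, 6, 0, 2, 3, 4, 5, 1, 3, 4, 2, 3, 0, 2, 1, 3, 4, 5, 6, 7], [5, 4, 3, 2, 1, 3, 4, 5, 6, 0, 2, 3, 4, 5, 1, 3, 4, 2, 3, 0, 2, 1, 3, 4, 5, 6, 7, 6, 5, 4, 3, 2, 1, 3, 4, 5, 6, 0, 2, 3, 4, 5, 1, 3, 4, 2, 3, 0, 2, 1, 3, 4, 5, 6, 7], [6, 5, 4, 3, 2, 1, 3, 4, 5, 6, 0, 2, 3, 4, 5, 1, 3, 4, 2, 3, 0, 2, 1, 3, 4, 5, 6, 7, 6, 5, 4, 3, 2, 1, 3, 4, 5, 6, 0, 2, 3, 4, 5, 1, 3, 4, 2, 3, 0, 2, 1, 3, 4, 5, 6, 7], [7, 6, 5, 4, 3, 2, 1, 3, 4, 5, 6, 0, 2, 3, 4, 5, 1, 3, 4, 2, 3, 0, 2, 1, 3, 4, 5, 6, 7, 6, 5, 4, 3, 2, 1, 3, 4, 5, 6, 0, 2, 3, 4, 5, 1, 3, 4, 2, 3, 0, 2, 1, 3, 4, 5, 6, 7]]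
  rk := [
    [0, 0, 0, 0, 0, 0, 0, 0], [2, 2, 2, 2, 2, 2, 0, 1], [3, 3, 3, 3, 3, 0, 1, 2], [4, 4, 4, 4, 0, 1, 3, 3], [5, 5, 5, 0, 1, 4, 4, 4], [6, 0, 0, 1, 5, 5, 5, 5], [7, 1, 0, 6, 6, 6, 6, 6], [0, 2, 1, 6, 6, 6, 6, 6],
    [0, 3, 1, 0, 7, 7, 7, 7], [1, 4, 7, 7, 7, 7, 7, 7], [1, 3, 8, 0, 8, 8, 8, 8], [2, 7, 7, 1, 0, 8, 8, 8], [3, 8, 0, 1, 0, 9, 9, 9], [4, 8, 8, 8, 1, 0, 9, 9], [8, 9, 1, 9, 0, 10, 10, 10], [5, 9, 2, 9, 1, 0, 10, 10],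
    [6, 9, 9, 9, 9, 1, 0, 10], [9, 10, 3, 0, 1, 0, 11, 11], [7, 10, 4, 10, 10, 1, 0, 11], [8, 10, 10, 10, 10, 10, 1, 0], [10, 0, 10, 1, 10, 0, 12, 12], [10, 11, 5, 2, 11, 1, 0, 12], [9, 11, 6, 11, 11, 11, 1, 0], [10, 11, 11, 11, 11, 11, 11, 1],
    [11, 1, 11, 11, 11, 0, 13, 13], [11, 2, 11, 3, 0, 1, 0, 13], [11, 12, 7, 4, 12, 12, 1, 0], [11, 12, 8, 12, 12, 12, 12, 1], [12, 3, 12, 12, 0, 1, 0, 14], [12, 4, 12, 12, 1, 11, 0, 14], [12, 4, 12, 5, 2, 13, 1, 0], [12, 13, 9, 6, 13, 13, 13, 1],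
    [13, 5, 13, 0, 1, 12, 0, 15], [13, 5, 13, 13, 2, 14, 1, 0], [13, 6, 13, 13, 3, 0, 1, 0], [13, 6, 13, 7, 4, 14, 14, 1], [14, 13, 0, 1, 13, 13, 0, 16], [14, 7, 14, 2, 3, 0, 1, 0], [14, 7, 14, 14, 4, 15, 15, 1], [14, 8, 14, 14, 14, 1, 12, 0],
    [14, 8, 14, 14, 5, 2, 15, 1], [0, 14, 1, 14, 14, 14, 0, 17], [15, 14, 2, 3, 14, 0, 1, 0], [15, 9, 15, 4, 15, 1, 13, 0], [15, 9, 15, 4, 5, 2, 16, 1], [15, 10, 15, 15, 15, 3, 0, 1], [1, 15, 15, 15, 15, 15, 0, 18], [2, 15, 3, 15, 15, 0, 1, 0],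
    [16, 15, 4, 5, 0, 1, 14, 0], [16, 15, 4, 5, 15, 2, 17, 1], [16, 11, 16, 6, 16, 3, 0, 1], [16, 12, 16, 16, 16, 16, 1, 13], [3, 16, 16, 16, 16, 0, 1, 0], [4, 16, 5, 16, 0, 1, 15, 0], [4, 16, 5, 16, 16, 2, 18, 1], [17, 16, 6, 16, 1, 15, 15, 0],
    [17, 16, 6, 7, 2, 3, 0, 1], [17, 13, 17, 8, 17, 17, 1, 14], [5, 17, 17, 17, 0, 1, 16, 0], [5, 17, 17, 17, 17, 2, 19, 1], [6, 17, 7, 0, 1, 16, 16, 0], [6, 17, 7, 17, 2, 3, 0, 1], [18, 17, 8, 17, 3, 16, 0, 1], [18, 17, 8, 9, 4, 18, 1, 15],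
    [7, 18, 18, 0, 1, 17, 17, 0], [7, 18, 18, 18, 2, 3, 0, 1], [8, 0, 17, 1, 17, 17, 17, 0], [8, 18, 9, 2, 3, 17, 0, 1], [8, 18, 9, 18, 4, 19, 1, 16], [19, 18, 10, 18, 5, 0, 1, 16], [9, 0, 0, 1, 18, 18, 18, 0], [9, 19, 19, 2, 3, 18, 0, 1],
    [9, 19, 19, 19, 4, 20, 1, 17], [10, 1, 18, 18, 18, 18, 18, 0], [10, 2, 18, 3, 18, 18, 0, 1], [10, 19, 11, 4, 5, 0, 1, 17], [20, 19, 12, 19, 19, 1, 17, 17], [11, 1, 0, 19, 19, 19, 19, 0], [18, 2, 1, 19, 19, 19, 19, 0], [11, 2, 2, 3, 19, 19, 0, 1],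
    [11, 20, 20, 4, 5, 0, 1, 18], [12, 3, 19, 19, 19, 19, 0, 1], [12, 4, 19, 5, 19, 0, 1, 18], [12, 20, 13, 6, 20, 1, 18, 18], [19, 3, 1, 0, 20, 20, 20, 0], [13, 3, 2, 20, 20, 20, 0, 1], [19, 4, 3, 20, 20, 20, 0, 1], [13, 4, 4, 5, 20, 0, 1, 19],
    [13, 21, 21, 6, 21, 1, 19, 19], [14, 5, 20, 20, 20, 0, 1, 19], [14, 6, 20, 7, 0, 1, 19, 19], [20, 20, 20, 1, 0, 21, 21, 0], [20, 5, 3, 2, 21, 21, 0, 1], [15, 5, 4, 21, 21, 0, 1, 20], [20, 6, 5, 21, 21, 0, 1, 20], [15, 6, 6, 7, 0, 1, 20, 20],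
    [16, 7, 21, 21, 0, 1, 20, 20], [16, 8, 21, 21, 1, 20, 20, 20], [21, 21, 21, 21, 1, 0, 22, 0], [21, 21, 21, 3, 2, 22, 0, 1], [21, 7, 5, 4, 22, 0, 1, 21], [17, 7, 6, 22, 0, 1, 21, 21], [21, 8, 7, 22, 0, 1, 21, 21], [17, 8, 8, 22, 1, 21, 21, 21],
    [18, 9, 22, 0, 1, 21, 21, 21], [22, 22, 22, 22, 22, 1, 0, 0], [22, 22, 22, 22, 3, 2, 0, 1], [22, 22, 22, 5, 4, 0, 1, 22], [22, 9, 7, 6, 0, 1, 22, 22], [19, 9, 8, 0, 1, 22, 22, 22], [22, 10, 9, 0, 1, 22, 22, 22], [20, 22, 0, 1, 22, 22, 22, 22],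
    [23, 23, 23, 23, 23, 23, 1, 0], [23, 23, 23, 23, 23, 3, 0, 1], [23, 23, 23, 23, 5, 0, 1, 23], [23, 23, 23, 7, 0, 1, 23, 23], [23, 11, 9, 0, 1, 23, 23, 23], [21, 23, 0, 1, 23, 23, 23, 23], [23, 0, 23, 1, 23, 23, 23, 23], [0, 23, 1, 23, 23, 23, 23, 23],
    [24, 24, 24, 24, 24, 24, 0, 1], [24, 24, 24, 24, 24, 0, 1, 2], [24, 24, 24, 24, 0, 1, 4, 24], [24, 24, 24, 0, 1, 6, 24, 24], [24, 0, 0, 1, 8, 24, 24, 24], [0, 24, 1, 10, 24, 24, 24, 24], [24, 1, 24, 12, 24, 24, 24, 24], [1, 24, 22, 24, 24, 24, 24, 24],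
    [25, 25, 25, 25, 25, 0, 1, 3], [25, 25, 25, 25, 0, 1, 5, 4], [25, 25, 25, 0, 1, 7, 6, 25], [25, 0, 0, 1, 9, 8, 25, 25], [25, 1, 0, 13, 10, 25, 25, 25], [0, 2, 1, 11, 10, 25, 25, 25], [1, 25, 23, 12, 25, 25, 25, 25], [26, 26, 26, 26, 0, 1, 25, 3],
    [26, 26, 26, 0, 1, 25, 5, 6], [26, 0, 0, 1, 25, 7, 8, 26], [26, 1, 0, 25, 9, 10, 26, 26], [0, 2, 1, 25, 9, 10, 26, 26], [0, 3, 1, 25, 12, 26, 26, 26], [1, 4, 25, 11, 12, 26, 26, 26], [27, 27, 27, 0, 1, 26, 26, 5], [27, 0, 0, 1, 26, 26, 7, 8],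
    [27, 1, 0, 26, 26, 9, 10, 27], [0, 2, 1, 26, 26, 9, 10, 27], [0, 3, 1, 0, 11, 12, 27, 27], [1, 4, 26, 26, 11, 12, 27, 27], [1, 3, 26, 26, 14, 27, 27, 27], [28, 0, 0, 1, 27, 27, 27, 7], [28, 1, 0, 27, 27, 27, 9, 10], [0, 2, 1, 27, 27, 27, 9, 10],
    [0, 3, 1, 0, 27, 11, 12, 28], [1, 4, 27, 27, 27, 11, 12, 28], [1, 3, 27, 0, 13, 14, 28, 28], [2, 26, 26, 1, 26, 14, 28, 28], [29, 1, 0, 28, 28, 28, 28, 9], [0, 2, 1, 28, 28, 28, 28, 9], [0, 3, 1, 0, 28, 28, 11, 12], [1, 4, 28, 28, 28, 28, 11, 12],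
    [1, 3, 28, 0, 28, 13, 14, 29], [2, 27, 27, 1, 0, 13, 14, 29], [3, 27, 0, 1, 27, 16, 29, 29], [0, 3, 1, 0, 29, 29, 29, 11], [1, 4, 29, 29, 29, 29, 29, 11], [1, 3, 29, 0, 29, 29, 13, 14], [2, 28, 28, 1, 0, 29, 13, 14], [3, 28, 0, 1, 0, 15, 16, 30],
    [4, 28, 28, 28, 1, 27, 16, 30], [27, 28, 1, 28, 28, 18, 30, 30], [1, 3, 30, 0, 30, 30, 30, 13], [2, 29, 29, 1, 0, 30, 30, 13], [3, 29, 0, 1, 0, 30, 15, 16], [4, 29, 29, 29, 1, 0, 15, 16], [28, 29, 1, 29, 0, 17, 18, 31], [5, 29, 2, 29, 1, 28, 18, 31],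
    [3, 30, 0, 1, 0, 31, 31, 15], [4, 30, 30, 30, 1, 0, 31, 15], [29, 30, 1, 30, 0, 31, 17, 18], [5, 30, 2, 30, 1, 0, 17, 18], [6, 30, 30, 30, 30, 1, 28, 18], [29, 30, 3, 0, 1, 29, 20, 32], [30, 31, 1, 31, 0, 32, 32, 17], [5, 31, 2, 31, 1, 0, 32, 17],
    [6, 31, 31, 31, 31, 1, 0, 17], [30, 31, 3, 0, 1, 0, 19, 20], [7, 31, 4, 31, 31, 1, 29, 20], [30, 0, 30, 1, 30, 30, 22, 33], [31, 32, 3, 0, 1, 0, 33, 19], [7, 32, 4, 32, 32, 1, 0, 19], [8, 32, 32, 32, 32, 32, 1, 29], [31, 0, 31, 1, 31, 0, 21, 22],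
    [31, 32, 5, 2, 32, 1, 30, 22], [31, 1, 31, 31, 31, 31, 24, 34], [32, 0, 32, 1, 32, 0, 34, 21], [32, 33, 5, 2, 33, 1, 0, 21], [9, 33, 6, 33, 33, 33, 1, 30], [32, 1, 32, 32, 32, 0, 23, 24], [32, 2, 32, 3, 0, 1, 31, 24], [33, 1, 33, 33, 33, 0, 35, 23],
    [33, 2, 33, 3, 0, 1, 0, 23], [33, 34, 7, 4, 34, 34, 1, 31], [33, 3, 33, 33, 0, 1, 32, 26], [33, 4, 33, 33, 1, 32, 32, 26], [34, 3, 34, 34, 0, 1, 0, 25], [34, 4, 34, 34, 1, 33, 0, 25], [34, 4, 34, 5, 2, 35, 1, 32], [34, 5, 34, 0, 1, 33, 33, 28],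
    [35, 5, 35, 0, 1, 34, 0, 27], [35, 5, 35, 35, 2, 36, 1, 33], [35, 6, 35, 35, 3, 0, 1, 33], [35, 34, 0, 1, 34, 34, 34, 30], [36, 35, 0, 1, 35, 35, 0, 29], [36, 7, 36, 2, 3, 0, 1, 34], [36, 8, 36, 36, 36, 1, 34, 34], [0, 35, 1, 35, 35, 35, 35, 32],
    [0, 36, 1, 36, 36, 36, 0, 31], [37, 36, 2, 3, 36, 0, 1, 35], [37, 9, 37, 4, 37, 1, 35, 35], [1, 36, 36, 36, 36, 36, 36, 34], [1, 37, 37, 37, 37, 37, 0, 33], [2, 37, 3, 37, 37, 0, 1, 36], [38, 37, 4, 5, 0, 1, 36, 36], [3, 38, 38, 38, 38, 0, 1, 37],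
    [4, 38, 5, 38, 0, 1, 37, 37], [39, 38, 6, 38, 1, 37, 37, 37], [5, 39, 39, 39, 0, 1, 38, 38], [6, 39, 7, 0, 1, 38, 38, 38], [7, 40, 40, 0, 1, 39, 39, 39], [8, 0, 39, 1, 39, 39, 39, 39], [9, 0, 0, 1, 40, 40, 40, 40], [10, 1, 40, 40, 40, 40, 40, 40],
    [11, 1, 0, 41, 41, 41, 41, 41], [40, 2, 1, 41, 41, 41, 41, 41], [41, 3, 1, 0, 42, 42, 42, 42], [42, 42, 42, 1, 0, 43, 43, 43], [43, 43, 43, 43, 1, 0, 44, 44], [44, 44, 44, 44, 44, 1, 0, 45], [45, 45, 45, 45, 45, 45, 1, 0], [46, 46, 46, 46, 46, 46, 46, 1]]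
  just := [
    [.base, .base, .base, .base, .base, .base, .base, .tree], [(.scan 0 0 7 1), (.scan 0 1 7 1), (.scan 0 2 7 1), (.scan 0 3 7 1), (.scan 0 4 7 1), (.scan 0 5 7 1), .tree, .mirror],
    [(.scan 1 0 6 1), (.scan 1 1 6 1), (.scan 1 2 6 1), (.scan 1 3 6 1), (.scan 1 4 6 1), .tree, .mirror, (.scan 0 6 7 2)], [(.scan 2 0 5 1), (.scan 2 1 5 1), (.scan 2 2 5 1), (.scan 2 3 5 1), .tree, .mirror, (.scan 1 5 6 2), (.scan 2 5 7 2)],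
    [(.scan 3 0 4 1), (.scan 3 1 4 1), (.scan 3 2 4 1), .tree, .mirror, (.scan 2 4 5 2), (.scan 3 4 6 2), (.scan 3 4 7 2)], [(.scan 4 0 3 1), .tree, .tree, .mirror, (.scan 3 3 4 2), (.scan 4 3 5 2), (.scan 4 3 6 2), (.scan 4 3 7 2)],
    [(.scan 5 0 1 1), .mirror, .tree, (.scan 4 1 3 2), (.scan 5 1 4 2), (.scan 5 1 5 2), (.scan 5 1 6 2), (.scan 5 1 7 2)], [.tree, (.scan 5 1 2 1), .mirror, (.scan 4 2 3 2), (.scan 5 2 4 2), (.scan 5 2 5 2), (.scan 5 2 6 2), (.scan 5 2 7 2)],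
    [.tree, .mirror, .mirror, .tree, (.scan 6 2 4 2), (.scan 6 2 5 2), (.scan 6 2 6 2), (.scan 6 2 7 2)], [.mirror, .mirror, (.scan 5 0 2 2), (.scan 7 0 3 2), (.scan 7 0 4 2), (.scan 7 0 5 2), (.scan 7 0 6 2), (.scan 7 0 7 2)],
    [.mirror, (.scan 7 0 1 2), (.scan 6 0 2 2), .tree, (.scan 8 0 4 2), (.scan 8 0 5 2), (.scan 8 0 6 2), (.scan 8 0 7 2)], [(.scan 8 0 3 1), (.scan 7 1 3 3), (.scan 6 2 3 3), .mirror, .tree, (.scan 8 3 5 2), (.scan 8 3 6 2), (.scan 8 3 7 2)],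
    [.mirror, (.scan 9 1 3 3), .tree, .mirror, .tree, (.scan 10 3 5 2), (.scan 10 3 6 2), (.scan 10 3 7 2)], [(.scan 11 0 4 1), (.scan 11 1 4 1), (.scan 11 2 4 1), (.scan 8 3 4 3), .mirror, .tree, (.scan 11 4 6 2), (.scan 11 4 7 2)],
    [(.scan 11 0 2 3), (.scan 12 1 2 1), .mirror, (.scan 10 2 3 2), .tree, (.scan 12 2 5 2), (.scan 12 2 6 2), (.scan 12 2 7 2)], [.mirror, (.scan 12 1 4 1), (.scan 12 2 4 1), (.scan 10 3 4 3), .mirror, .tree, (.scan 12 4 6 2), (.scan 12 4 7 2)],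
    [(.scan 13 0 5 1), (.scan 13 1 5 1), (.scan 13 2 5 1), (.scan 13 3 5 1), (.scan 11 4 5 3), .mirror, .tree, (.scan 13 5 7 2)], [(.scan 13 0 2 3), (.scan 14 1 4 1), .mirror, .tree, .mirror, .tree, (.scan 14 4 6 2), (.scan 14 4 7 2)],
    [.mirror, (.scan 15 1 5 1), (.scan 15 2 5 1), (.scan 15 3 5 1), (.scan 12 4 5 3), .mirror, .tree, (.scan 15 5 7 2)], [(.scan 16 0 6 1), (.scan 16 1 6 1), (.scan 16 2 6 1), (.scan 16 3 6 1), (.scan 16 4 6 1), (.scan 13 5 6 3), .mirror, .tree],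
    [(.scan 17 0 3 1), .tree, (.scan 15 2 3 3), .mirror, (.scan 14 3 4 2), .tree, (.scan 17 3 6 2), (.scan 17 3 7 2)], [(.scan 16 0 2 3), (.scan 17 1 5 1), .mirror, (.scan 17 3 5 1), (.scan 14 4 5 3), .mirror, .tree, (.scan 17 5 7 2)],
    [.mirror, (.scan 18 1 6 1), (.scan 18 2 6 1), (.scan 18 3 6 1), (.scan 18 4 6 1), (.scan 15 5 6 3), .mirror, .tree], [(.scan 19 0 7 1), (.scan 19 1 7 1), (.scan 19 2 7 1), (.scan 19 3 7 1), (.scan 19 4 7 1), (.scan 19 5 7 1), (.scan 16 6 7 3), .mirror],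
    [(.scan 20 0 1 1), .mirror, (.scan 20 1 2 2), (.scan 17 1 3 2), (.scan 20 1 4 2), .tree, (.scan 20 1 6 2), (.scan 20 1 7 2)], [(.scan 20 0 5 1), (.scan 20 1 5 1), (.scan 18 2 3 3), .mirror, .tree, .mirror, .tree, (.scan 20 5 7 2)],
    [(.scan 19 0 2 3), (.scan 21 1 6 1), .mirror, (.scan 21 3 6 1), (.scan 21 4 6 1), (.scan 17 5 6 3), .mirror, .tree], [.mirror, (.scan 22 1 7 1), (.scan 22 2 7 1), (.scan 22 3 7 1), (.scan 22 4 7 1), (.scan 22 5 7 1), (.scan 18 6 7 3), .mirror],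
    [(.scan 24 0 5 1), .mirror, (.scan 24 2 5 1), (.scan 21 1 3 2), .tree, .mirror, .tree, (.scan 24 5 7 2)], [(.scan 25 0 4 1), (.scan 25 1 4 1), (.scan 25 2 4 1), (.scan 21 3 4 3), .mirror, (.scan 20 4 5 2), .tree, (.scan 25 4 7 2)],
    [(.scan 25 0 6 1), (.scan 25 1 6 1), (.scan 22 2 3 3), .mirror, (.scan 25 4 6 1), (.scan 20 5 6 3), .mirror, .tree], [(.scan 23 0 2 3), (.scan 26 1 7 1), .mirror, (.scan 26 3 7 1), (.scan 26 4 7 1), (.scan 26 5 7 1), (.scan 21 6 7 3), .mirror],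
    [(.scan 28 0 4 1), .mirror, (.scan 28 2 4 1), .tree, .mirror, (.scan 24 4 5 2), .tree, (.scan 28 4 7 2)], [(.scan 28 0 6 1), .mirror, (.scan 28 2 6 1), (.scan 26 1 3 2), (.scan 28 4 6 1), (.scan 24 5 6 3), .mirror, .tree],
    [(.scan 29 0 6 1), (.scan 29 1 6 1), (.scan 29 2 6 1), (.scan 26 3 4 3), .mirror, .tree, .mirror, .tree], [(.scan 30 0 7 1), (.scan 30 1 7 1), (.scan 27 2 3 3), .mirror, (.scan 30 4 7 1), (.scan 30 5 7 1), (.scan 25 6 7 3), .mirror],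
    [(.scan 32 0 3 1), (.scan 29 1 3 3), .tree, .mirror, (.scan 28 3 4 2), (.scan 32 3 5 2), .tree, (.scan 32 3 7 2)], [(.scan 32 0 6 1), .mirror, (.scan 32 2 6 1), (.scan 32 3 6 1), .mirror, .tree, .mirror, .tree],
    [(.scan 33 0 7 1), .mirror, (.scan 33 2 7 1), (.scan 31 1 3 2), (.scan 33 4 7 1), (.scan 33 5 7 1), (.scan 28 6 7 3), .mirror], [(.scan 34 0 5 1), (.scan 34 1 5 1), (.scan 34 2 5 1), (.scan 34 3 5 1), (.scan 30 4 5 3), .mirror, (.scan 29 5 6 2), .tree],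
    [(.scan 34 0 7 1), (.scan 34 1 7 1), (.scan 34 2 7 1), (.scan 31 3 4 3), .mirror, (.scan 34 5 7 1), (.scan 29 6 7 3), .mirror], [.tree, (.scan 36 1 2 1), .mirror, (.scan 32 2 3 2), (.scan 36 2 4 2), (.scan 36 2 5 2), .tree, (.scan 36 2 7 2)],
    [(.scan 36 0 6 1), (.scan 34 1 3 3), (.scan 36 2 6 1), .mirror, (.scan 33 3 4 2), .tree, .mirror, .tree], [(.scan 37 0 5 1), .mirror, (.scan 37 2 5 1), (.scan 37 3 5 1), (.scan 33 4 5 3), .mirror, (.scan 32 5 6 2), .tree],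
    [(.scan 37 0 7 1), .mirror, (.scan 37 2 7 1), (.scan 37 3 7 1), .mirror, (.scan 37 5 7 1), (.scan 32 6 7 3), .mirror], [(.scan 39 0 7 1), (.scan 39 1 7 1), (.scan 39 2 7 1), (.scan 39 3 7 1), (.scan 35 4 5 3), .mirror, .tree, .mirror],
    [.mirror, (.scan 41 0 1 2), (.scan 36 0 2 2), (.scan 41 0 3 2), (.scan 41 0 4 2), (.scan 41 0 5 2), .tree, (.scan 41 0 7 2)], [(.scan 41 0 6 1), (.scan 41 1 6 1), .mirror, (.scan 37 2 3 2), (.scan 41 4 6 1), .tree, .mirror, .tree],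
    [(.scan 42 0 5 1), (.scan 39 1 3 3), (.scan 42 2 5 1), .mirror, .tree, .mirror, (.scan 36 5 6 2), .tree], [(.scan 42 0 7 1), (.scan 40 1 3 3), (.scan 42 2 7 1), .mirror, (.scan 38 3 4 2), (.scan 42 5 7 1), (.scan 36 6 7 3), .mirror],
    [(.scan 43 0 7 1), .mirror, (.scan 43 2 7 1), (.scan 43 3 7 1), (.scan 38 4 5 3), .mirror, .tree, .mirror], [(.scan 45 0 6 1), (.scan 45 1 6 1), (.scan 45 2 6 1), (.scan 45 3 6 1), (.scan 45 4 6 1), (.scan 40 5 6 3), .mirror, (.scan 39 6 7 2)],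
    [.mirror, (.scan 46 1 6 1), (.scan 42 0 2 2), (.scan 46 3 6 1), (.scan 46 4 6 1), .tree, .mirror, .tree], [(.scan 47 0 5 1), (.scan 47 1 5 1), .mirror, (.scan 43 2 3 2), .tree, .mirror, (.scan 41 5 6 2), .tree],
    [(.scan 47 0 7 1), (.scan 47 1 7 1), .mirror, (.scan 44 2 3 2), (.scan 47 4 7 1), (.scan 47 5 7 1), (.scan 41 6 7 3), .mirror], [(.scan 48 0 4 1), (.scan 48 1 4 1), (.scan 48 2 4 1), (.scan 43 3 4 3), .mirror, (.scan 42 4 5 2), (.scan 48 4 6 2), .tree],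
    [(.scan 48 0 7 1), (.scan 45 1 3 3), (.scan 48 2 7 1), .mirror, (.scan 48 4 7 1), .mirror, .tree, .mirror], [(.scan 50 0 6 1), .mirror, (.scan 50 2 6 1), (.scan 50 3 6 1), (.scan 50 4 6 1), (.scan 44 5 6 3), .mirror, (.scan 43 6 7 2)],
    [.mirror, (.scan 52 1 5 1), (.scan 48 0 2 2), (.scan 52 3 5 1), .tree, .mirror, (.scan 46 5 6 2), .tree], [.mirror, (.scan 52 1 7 1), (.scan 49 0 2 2), (.scan 52 3 7 1), (.scan 52 4 7 1), (.scan 52 5 7 1), (.scan 46 6 7 3), .mirror],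
    [(.scan 53 0 4 1), (.scan 53 1 4 1), .mirror, .tree, .mirror, (.scan 47 4 5 2), (.scan 53 4 6 2), .tree], [(.scan 53 0 7 1), (.scan 53 1 7 1), .mirror, (.scan 50 2 3 2), (.scan 53 4 7 1), .mirror, .tree, .mirror],
    [(.scan 55 0 7 1), (.scan 55 1 7 1), (.scan 55 2 7 1), (.scan 50 3 4 3), .mirror, (.scan 49 4 5 2), .tree, .mirror], [(.scan 56 0 6 1), (.scan 51 1 3 3), (.scan 56 2 6 1), .mirror, (.scan 56 4 6 1), (.scan 49 5 6 3), .mirror, (.scan 48 6 7 2)],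
    [.mirror, (.scan 58 1 4 1), (.scan 55 0 2 2), .tree, .mirror, (.scan 52 4 5 2), (.scan 58 4 6 2), .tree], [.mirror, (.scan 58 1 7 1), (.scan 56 0 2 2), (.scan 58 3 7 1), (.scan 58 4 7 1), .mirror, .tree, .mirror],
    [(.scan 60 0 3 1), .tree, (.scan 55 2 3 3), .mirror, (.scan 53 3 4 2), (.scan 60 3 5 2), (.scan 60 3 6 2), .tree], [(.scan 60 0 7 1), (.scan 60 1 7 1), .mirror, (.scan 60 3 7 1), .mirror, (.scan 54 4 5 2), .tree, .mirror],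
    [(.scan 61 0 6 1), (.scan 61 1 6 1), .mirror, (.scan 57 2 3 2), (.scan 61 4 6 1), (.scan 54 5 6 3), .mirror, (.scan 53 6 7 2)], [(.scan 62 0 6 1), (.scan 62 1 6 1), (.scan 62 2 6 1), (.scan 57 3 4 3), .mirror, .tree, .mirror, (.scan 55 6 7 2)],
    [.mirror, .tree, .tree, .mirror, (.scan 58 3 4 2), (.scan 64 3 5 2), (.scan 64 3 6 2), .tree], [.mirror, (.scan 64 1 7 1), (.scan 62 0 2 2), (.scan 64 3 7 1), .mirror, (.scan 59 4 5 2), .tree, .mirror],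
    [.mirror, (.scan 65 1 6 1), (.scan 63 0 2 2), (.scan 65 3 6 1), (.scan 65 4 6 1), (.scan 59 5 6 3), .mirror, (.scan 58 6 7 2)], [(.scan 66 0 1 1), .mirror, (.scan 66 1 2 2), (.scan 60 1 3 2), (.scan 66 1 4 2), (.scan 66 1 5 2), (.scan 66 1 6 2), .tree],
    [(.scan 66 0 7 1), (.scan 66 1 7 1), (.scan 62 2 3 3), .mirror, (.scan 61 3 4 2), (.scan 66 5 7 1), .tree, .mirror], [(.scan 67 0 6 1), (.scan 67 1 6 1), .mirror, (.scan 67 3 6 1), .mirror, .tree, .mirror, (.scan 60 6 7 2)],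
    [(.scan 69 0 5 1), (.scan 69 1 5 1), (.scan 69 2 5 1), (.scan 69 3 5 1), (.scan 63 4 5 3), .mirror, (.scan 62 5 6 2), (.scan 69 5 7 2)], [.mirror, .mirror, .tree, (.scan 64 1 3 2), (.scan 70 1 4 2), (.scan 70 1 5 2), (.scan 70 1 6 2), .tree],
    [(.scan 66 0 2 3), (.scan 70 1 2 1), .mirror, (.scan 64 2 3 2), (.scan 70 2 4 2), (.scan 70 2 5 2), (.scan 70 2 6 2), .tree], [.mirror, (.scan 70 1 7 1), (.scan 70 2 7 1), .mirror, (.scan 65 3 4 2), (.scan 70 5 7 1), .tree, .mirror],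
    [.mirror, (.scan 71 1 6 1), (.scan 69 0 2 2), (.scan 71 3 6 1), .mirror, .tree, .mirror, (.scan 64 6 7 2)], [(.scan 73 0 7 1), .mirror, (.scan 73 2 7 1), (.scan 67 1 3 2), (.scan 73 4 7 1), (.scan 73 5 7 1), .tree, .mirror],
    [(.scan 74 0 6 1), (.scan 74 1 6 1), (.scan 69 2 3 3), .mirror, (.scan 68 3 4 2), .tree, .mirror, (.scan 66 6 7 2)], [(.scan 75 0 5 1), (.scan 75 1 5 1), .mirror, (.scan 75 3 5 1), (.scan 68 4 5 3), .mirror, (.scan 67 5 6 2), (.scan 75 5 7 2)],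
    [(.scan 73 0 2 3), .mirror, .mirror, .tree, (.scan 77 2 4 2), (.scan 77 2 5 2), (.scan 77 2 6 2), .tree], [.mirror, .mirror, (.scan 77 2 7 1), (.scan 71 1 3 2), (.scan 77 4 7 1), (.scan 77 5 7 1), .tree, .mirror],
    [(.scan 74 0 2 3), (.scan 78 1 7 1), .mirror, (.scan 71 2 3 2), (.scan 78 4 7 1), (.scan 78 5 7 1), .tree, .mirror], [.mirror, (.scan 79 1 6 1), (.scan 79 2 6 1), .mirror, (.scan 72 3 4 2), .tree, .mirror, (.scan 70 6 7 2)],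
    [.mirror, (.scan 80 1 5 1), (.scan 76 0 2 2), (.scan 80 3 5 1), (.scan 72 4 5 3), .mirror, (.scan 71 5 6 2), (.scan 80 5 7 2)], [(.scan 81 0 6 1), .mirror, (.scan 81 2 6 1), (.scan 75 1 3 2), (.scan 81 4 6 1), .tree, .mirror, (.scan 73 6 7 2)],
    [(.scan 82 0 5 1), (.scan 82 1 5 1), (.scan 76 2 3 3), .mirror, .tree, .mirror, (.scan 74 5 6 2), (.scan 82 5 7 2)], [(.scan 84 0 3 1), (.scan 78 1 3 3), (.scan 77 2 3 3), .mirror, .tree, (.scan 84 3 5 2), (.scan 84 3 6 2), .tree],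
    [(.scan 81 0 2 3), .mirror, .mirror, (.scan 84 3 7 1), (.scan 84 4 7 1), (.scan 84 5 7 1), .tree, .mirror], [.mirror, .mirror, (.scan 85 2 6 1), (.scan 80 1 3 2), (.scan 85 4 6 1), .tree, .mirror, (.scan 77 6 7 2)],
    [(.scan 82 0 2 3), (.scan 86 1 6 1), .mirror, (.scan 80 2 3 2), (.scan 86 4 6 1), .tree, .mirror, (.scan 78 6 7 2)], [.mirror, (.scan 87 1 5 1), (.scan 87 2 5 1), .mirror, .tree, .mirror, (.scan 79 5 6 2), (.scan 87 5 7 2)],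
    [(.scan 89 0 5 1), .mirror, (.scan 89 2 5 1), (.scan 83 1 3 2), .tree, .mirror, (.scan 81 5 6 2), (.scan 89 5 7 2)], [(.scan 90 0 4 1), (.scan 90 1 4 1), (.scan 90 2 4 1), (.scan 83 3 4 3), .mirror, (.scan 82 4 5 2), (.scan 90 4 6 2), (.scan 90 4 7 2)],
    [(.scan 91 0 4 1), (.scan 91 1 4 1), (.scan 91 2 4 1), (.scan 84 3 4 3), .mirror, .tree, (.scan 91 4 6 2), .tree], [(.scan 91 0 7 1), (.scan 86 1 3 3), (.scan 85 2 3 3), .mirror, (.scan 91 4 7 1), (.scan 91 5 7 1), .tree, .mirror],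
    [(.scan 89 0 2 3), .mirror, .mirror, (.scan 92 3 6 1), (.scan 92 4 6 1), .tree, .mirror, (.scan 84 6 7 2)], [.mirror, .mirror, (.scan 93 2 5 1), (.scan 88 1 3 2), .tree, .mirror, (.scan 85 5 6 2), (.scan 93 5 7 2)],
    [(.scan 90 0 2 3), (.scan 94 1 5 1), .mirror, (.scan 88 2 3 2), .tree, .mirror, (.scan 86 5 6 2), (.scan 94 5 7 2)], [.mirror, (.scan 95 1 4 1), (.scan 95 2 4 1), (.scan 88 3 4 3), .mirror, (.scan 87 4 5 2), (.scan 95 4 6 2), (.scan 95 4 7 2)],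
    [(.scan 96 0 4 1), .mirror, (.scan 96 2 4 1), .tree, .mirror, (.scan 89 4 5 2), (.scan 96 4 6 2), (.scan 96 4 7 2)], [(.scan 98 0 5 1), (.scan 98 1 5 1), (.scan 98 2 5 1), (.scan 98 3 5 1), (.scan 91 4 5 3), .mirror, .tree, .tree],
    [(.scan 98 0 7 1), (.scan 98 1 7 1), (.scan 98 2 7 1), (.scan 92 3 4 3), .mirror, (.scan 98 5 7 1), .tree, .mirror], [(.scan 99 0 6 1), (.scan 94 1 3 3), (.scan 93 2 3 3), .mirror, (.scan 99 4 6 1), .tree, .mirror, (.scan 91 6 7 2)],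
    [(.scan 96 0 2 3), .mirror, .mirror, (.scan 100 3 5 1), .tree, .mirror, (.scan 92 5 6 2), (.scan 100 5 7 2)], [.mirror, .mirror, (.scan 101 2 4 1), .tree, .mirror, (.scan 93 4 5 2), (.scan 101 4 6 2), (.scan 101 4 7 2)],
    [(.scan 97 0 2 3), (.scan 102 1 4 1), .mirror, .tree, .mirror, (.scan 94 4 5 2), (.scan 102 4 6 2), (.scan 102 4 7 2)], [(.scan 104 0 3 1), (.scan 97 1 3 3), .tree, .mirror, (.scan 96 3 4 2), (.scan 104 3 5 2), (.scan 104 3 6 2), (.scan 104 3 7 2)],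
    [(.scan 105 0 6 1), (.scan 105 1 6 1), (.scan 105 2 6 1), (.scan 105 3 6 1), (.scan 105 4 6 1), (.scan 98 5 6 3), .mirror, .tree], [(.scan 105 0 7 1), (.scan 105 1 7 1), (.scan 105 2 7 1), (.scan 105 3 7 1), (.scan 99 4 5 3), .mirror, .tree, .mirror],
    [(.scan 106 0 6 1), (.scan 106 1 6 1), (.scan 106 2 6 1), (.scan 100 3 4 3), .mirror, .tree, .mirror, (.scan 98 6 7 2)], [(.scan 107 0 5 1), (.scan 102 1 3 3), (.scan 101 2 3 3), .mirror, .tree, .mirror, (.scan 99 5 6 2), (.scan 107 5 7 2)],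
    [(.scan 104 0 2 3), .mirror, .mirror, .tree, .mirror, (.scan 100 4 5 2), (.scan 108 4 6 2), (.scan 108 4 7 2)], [.mirror, (.scan 103 1 3 3), .tree, .mirror, (.scan 101 3 4 2), (.scan 109 3 5 2), (.scan 109 3 6 2), (.scan 109 3 7 2)],
    [(.scan 110 0 3 1), .tree, (.scan 103 2 3 3), .mirror, (.scan 102 3 4 2), (.scan 110 3 5 2), (.scan 110 3 6 2), (.scan 110 3 7 2)], [.tree, (.scan 111 1 2 1), .mirror, (.scan 104 2 3 2), (.scan 111 2 4 2), (.scan 111 2 5 2), (.scan 111 2 6 2), (.scan 111 2 7 2)],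
    [(.scan 112 0 7 1), (.scan 112 1 7 1), (.scan 112 2 7 1), (.scan 112 3 7 1), (.scan 112 4 7 1), (.scan 112 5 7 1), .tree, .mirror], [(.scan 113 0 6 1), (.scan 113 1 6 1), (.scan 113 2 6 1), (.scan 113 3 6 1), (.scan 113 4 6 1), .tree, .mirror, (.scan 105 6 7 2)],
    [(.scan 114 0 5 1), (.scan 114 1 5 1), (.scan 114 2 5 1), (.scan 114 3 5 1), .tree, .mirror, (.scan 106 5 6 2), (.scan 114 5 7 2)], [(.scan 115 0 4 1), (.scan 115 1 4 1), (.scan 115 2 4 1), .tree, .mirror, (.scan 107 4 5 2), (.scan 115 4 6 2), (.scan 115 4 7 2)],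
    [(.scan 116 0 3 1), .tree, .tree, .mirror, (.scan 108 3 4 2), (.scan 116 3 5 2), (.scan 116 3 6 2), (.scan 116 3 7 2)], [.tree, (.scan 117 1 2 1), .mirror, (.scan 109 2 3 2), (.scan 117 2 4 2), (.scan 117 2 5 2), (.scan 117 2 6 2), (.scan 117 2 7 2)],
    [(.scan 118 0 1 1), .mirror, (.scan 118 1 2 2), (.scan 110 1 3 2), (.scan 118 1 4 2), (.scan 118 1 5 2), (.scan 118 1 6 2), (.scan 118 1 7 2)], [.mirror, (.scan 119 0 1 2), (.scan 111 0 2 2), (.scan 119 0 3 2), (.scan 119 0 4 2), (.scan 119 0 5 2), (.scan 119 0 6 2), (.scan 119 0 7 2)],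
    [(.scan 120 0 6 1), (.scan 120 1 6 1), (.scan 120 2 6 1), (.scan 120 3 6 1), (.scan 120 4 6 1), .tree, .mirror, .mirror], [(.scan 121 0 5 1), (.scan 121 1 5 1), (.scan 121 2 5 1), (.scan 121 3 5 1), .tree, .mirror, .mirror, .mirror],
    [(.scan 122 0 4 1), (.scan 122 1 4 1), (.scan 122 2 4 1), .tree, .mirror, .mirror, .mirror, (.scan 122 4 7 2)], [(.scan 123 0 3 1), .tree, .tree, .mirror, .mirror, .mirror, (.scan 123 3 6 2), (.scan 123 3 7 2)],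
    [(.scan 124 0 1 1), .mirror, .tree, .mirror, .mirror, (.scan 124 1 5 2), (.scan 124 1 6 2), (.scan 124 1 7 2)], [.tree, (.scan 124 1 2 1), .mirror, .mirror, .mirror, (.scan 124 2 5 2), (.scan 124 2 6 2), (.scan 124 2 7 2)],
    [.mirror, (.scan 125 0 1 2), .mirror, .mirror, (.scan 125 0 4 2), (.scan 125 0 5 2), (.scan 125 0 6 2), (.scan 125 0 7 2)], [(.scan 128 0 5 1), (.scan 128 1 5 1), (.scan 128 2 5 1), (.scan 128 3 5 1), .tree, .mirror, (.scan 120 5 6 2), (.scan 121 5 7 2)],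
    [(.scan 129 0 4 1), (.scan 129 1 4 1), (.scan 129 2 4 1), .tree, .mirror, (.scan 121 4 5 2), (.scan 122 4 6 2), .mirror], [(.scan 130 0 3 1), .tree, .tree, .mirror, (.scan 122 3 4 2), (.scan 123 3 5 2), .mirror, (.scan 130 3 7 2)],
    [(.scan 131 0 1 1), .mirror, .tree, (.scan 123 1 3 2), (.scan 124 1 4 2), .mirror, (.scan 131 1 6 2), (.scan 131 1 7 2)], [.tree, (.scan 131 1 2 1), .mirror, (.scan 123 2 3 2), (.scan 124 2 4 2), .mirror, (.scan 131 2 6 2), (.scan 131 2 7 2)],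
    [.tree, .mirror, .mirror, (.scan 125 1 3 2), .mirror, (.scan 132 2 5 2), (.scan 132 2 6 2), (.scan 132 2 7 2)], [.mirror, .mirror, (.scan 124 0 2 2), (.scan 125 0 3 2), .mirror, (.scan 133 0 5 2), (.scan 133 0 6 2), (.scan 133 0 7 2)],
    [(.scan 135 0 4 1), (.scan 135 1 4 1), (.scan 135 2 4 1), .tree, .mirror, (.scan 128 4 5 2), (.scan 130 6 7 3), (.scan 129 4 7 2)], [(.scan 136 0 3 1), .tree, .tree, .mirror, (.scan 129 3 4 2), (.scan 131 5 6 3), (.scan 130 3 6 2), .mirror],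
    [(.scan 137 0 1 1), .mirror, .tree, (.scan 130 1 3 2), (.scan 132 4 5 3), (.scan 131 1 5 2), .mirror, (.scan 137 1 7 2)], [.tree, (.scan 137 1 2 1), .mirror, (.scan 130 2 3 2), (.scan 133 4 5 3), (.scan 131 2 5 2), .mirror, (.scan 137 2 7 2)],
    [.tree, .mirror, .mirror, .tree, (.scan 132 2 4 2), .mirror, (.scan 138 2 6 2), (.scan 138 2 7 2)], [.mirror, .mirror, (.scan 131 0 2 2), (.scan 134 3 4 3), (.scan 133 0 4 2), .mirror, (.scan 139 0 6 2), (.scan 139 0 7 2)],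
    [.mirror, (.scan 133 0 1 2), (.scan 132 0 2 2), (.scan 134 1 3 2), .mirror, (.scan 140 0 5 2), (.scan 140 0 6 2), (.scan 140 0 7 2)], [(.scan 142 0 3 1), .tree, .tree, .mirror, (.scan 135 3 4 2), (.scan 142 3 5 2), (.scan 137 6 7 3), (.scan 136 3 7 2)],
    [(.scan 143 0 1 1), .mirror, .tree, (.scan 136 1 3 2), (.scan 143 1 4 2), (.scan 138 5 6 3), (.scan 137 1 6 2), .mirror], [.tree, (.scan 143 1 2 1), .mirror, (.scan 136 2 3 2), (.scan 143 2 4 2), (.scan 139 5 6 3), (.scan 137 2 6 2), .mirror],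
    [.tree, .mirror, .mirror, .tree, (.scan 140 4 5 3), (.scan 138 2 5 2), .mirror, (.scan 144 2 7 2)], [.mirror, .mirror, (.scan 137 0 2 2), (.scan 145 0 3 2), (.scan 141 4 5 3), (.scan 139 0 5 2), .mirror, (.scan 145 0 7 2)],
    [.mirror, (.scan 139 0 1 2), (.scan 138 0 2 2), .tree, (.scan 140 0 4 2), .mirror, (.scan 146 0 6 2), (.scan 146 0 7 2)], [(.scan 146 0 3 1), (.scan 139 1 3 3), (.scan 138 2 3 3), .mirror, (.scan 140 3 4 2), .mirror, (.scan 146 3 6 2), (.scan 146 3 7 2)],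
    [(.scan 149 0 1 1), .mirror, .tree, (.scan 142 1 3 2), (.scan 149 1 4 2), (.scan 149 1 5 2), (.scan 144 6 7 3), (.scan 143 1 7 2)], [.tree, (.scan 149 1 2 1), .mirror, (.scan 142 2 3 2), (.scan 149 2 4 2), (.scan 149 2 5 2), (.scan 145 6 7 3), (.scan 143 2 7 2)],
    [.tree, .mirror, .mirror, .tree, (.scan 150 2 4 2), (.scan 146 5 6 3), (.scan 144 2 6 2), .mirror], [.mirror, .mirror, (.scan 143 0 2 2), (.scan 151 0 3 2), (.scan 151 0 4 2), (.scan 147 5 6 3), (.scan 145 0 6 2), .mirror],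
    [.mirror, (.scan 145 0 1 2), (.scan 144 0 2 2), .tree, (.scan 148 4 5 3), (.scan 146 0 5 2), .mirror, (.scan 152 0 7 2)], [(.scan 152 0 3 1), (.scan 145 1 3 3), (.scan 144 2 3 3), .mirror, .tree, (.scan 146 3 5 2), .mirror, (.scan 152 3 7 2)],
    [.mirror, (.scan 147 1 3 3), .tree, .mirror, (.scan 148 3 4 2), .mirror, (.scan 154 3 6 2), (.scan 154 3 7 2)], [.tree, .mirror, .mirror, .tree, (.scan 156 2 4 2), (.scan 156 2 5 2), (.scan 152 6 7 3), (.scan 150 2 7 2)],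
    [.mirror, .mirror, (.scan 149 0 2 2), (.scan 157 0 3 2), (.scan 157 0 4 2), (.scan 157 0 5 2), (.scan 153 6 7 3), (.scan 151 0 7 2)], [.mirror, (.scan 151 0 1 2), (.scan 150 0 2 2), .tree, (.scan 158 0 4 2), (.scan 154 5 6 3), (.scan 152 0 6 2), .mirror],
    [(.scan 158 0 3 1), (.scan 151 1 3 3), (.scan 150 2 3 3), .mirror, .tree, (.scan 155 5 6 3), (.scan 152 3 6 2), .mirror], [.mirror, (.scan 153 1 3 3), .tree, .mirror, .tree, (.scan 154 3 5 2), .mirror, (.scan 160 3 7 2)],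
    [(.scan 161 0 4 1), (.scan 161 1 4 1), (.scan 161 2 4 1), (.scan 152 3 4 3), .mirror, (.scan 155 4 5 2), .mirror, (.scan 161 4 7 2)], [(.scan 155 0 2 3), (.scan 162 1 2 1), .mirror, (.scan 154 2 3 2), (.scan 162 2 4 2), .mirror, (.scan 162 2 6 2), (.scan 162 2 7 2)],
    [.mirror, (.scan 157 0 1 2), (.scan 156 0 2 2), .tree, (.scan 163 0 4 2), (.scan 163 0 5 2), (.scan 160 6 7 3), (.scan 158 0 7 2)], [(.scan 163 0 3 1), (.scan 157 1 3 3), (.scan 156 2 3 3), .mirror, .tree, (.scan 163 3 5 2), (.scan 161 6 7 3), (.scan 158 3 7 2)],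
    [.mirror, (.scan 159 1 3 3), .tree, .mirror, .tree, (.scan 162 5 6 3), (.scan 160 3 6 2), .mirror], [(.scan 166 0 4 1), (.scan 166 1 4 1), (.scan 166 2 4 1), (.scan 158 3 4 3), .mirror, .tree, (.scan 161 4 6 2), .mirror],
    [(.scan 161 0 2 3), (.scan 167 1 2 1), .mirror, (.scan 160 2 3 2), .tree, (.scan 162 2 5 2), .mirror, (.scan 167 2 7 2)], [.mirror, (.scan 167 1 4 1), (.scan 167 2 4 1), (.scan 160 3 4 3), .mirror, (.scan 162 4 5 2), .mirror, (.scan 167 4 7 2)],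
    [.mirror, (.scan 164 1 3 3), .tree, .mirror, .tree, (.scan 170 3 5 2), (.scan 167 6 7 3), (.scan 165 3 7 2)], [(.scan 171 0 4 1), (.scan 171 1 4 1), (.scan 171 2 4 1), (.scan 163 3 4 3), .mirror, .tree, (.scan 168 6 7 3), (.scan 166 4 7 2)],
    [(.scan 166 0 2 3), (.scan 172 1 2 1), .mirror, (.scan 165 2 3 2), .tree, (.scan 169 5 6 3), (.scan 167 2 6 2), .mirror], [.mirror, (.scan 172 1 4 1), (.scan 172 2 4 1), (.scan 165 3 4 3), .mirror, .tree, (.scan 167 4 6 2), .mirror],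
    [(.scan 173 0 5 1), (.scan 173 1 5 1), (.scan 173 2 5 1), (.scan 173 3 5 1), (.scan 166 4 5 3), .mirror, (.scan 168 5 6 2), .mirror], [(.scan 168 0 2 3), (.scan 174 1 4 1), .mirror, .tree, .mirror, (.scan 169 4 5 2), .mirror, (.scan 174 4 7 2)],
    [(.scan 171 0 2 3), (.scan 176 1 2 1), .mirror, (.scan 170 2 3 2), .tree, (.scan 176 2 5 2), (.scan 174 6 7 3), (.scan 172 2 7 2)], [.mirror, (.scan 176 1 4 1), (.scan 176 2 4 1), (.scan 170 3 4 3), .mirror, .tree, (.scan 175 6 7 3), (.scan 172 4 7 2)],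
    [(.scan 177 0 5 1), (.scan 177 1 5 1), (.scan 177 2 5 1), (.scan 177 3 5 1), (.scan 171 4 5 3), .mirror, .tree, (.scan 173 5 7 2)], [(.scan 173 0 2 3), (.scan 178 1 4 1), .mirror, .tree, .mirror, .tree, (.scan 174 4 6 2), .mirror],
    [.mirror, (.scan 179 1 5 1), (.scan 179 2 5 1), (.scan 179 3 5 1), (.scan 172 4 5 3), .mirror, (.scan 175 5 6 2), .mirror], [(.scan 181 0 3 1), .tree, (.scan 175 2 3 3), .mirror, (.scan 174 3 4 2), (.scan 181 3 5 2), .mirror, (.scan 181 3 7 2)],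
    [(.scan 177 0 2 3), (.scan 182 1 4 1), .mirror, .tree, .mirror, .tree, (.scan 181 6 7 3), (.scan 178 4 7 2)], [.mirror, (.scan 183 1 5 1), (.scan 183 2 5 1), (.scan 183 3 5 1), (.scan 176 4 5 3), .mirror, .tree, (.scan 179 5 7 2)],
    [(.scan 184 0 6 1), (.scan 184 1 6 1), (.scan 184 2 6 1), (.scan 184 3 6 1), (.scan 184 4 6 1), (.scan 177 5 6 3), .mirror, (.scan 180 6 7 2)], [(.scan 185 0 3 1), .tree, (.scan 179 2 3 3), .mirror, (.scan 178 3 4 2), .tree, (.scan 181 3 6 2), .mirror],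
    [(.scan 180 0 2 3), (.scan 185 1 5 1), .mirror, (.scan 185 3 5 1), (.scan 178 4 5 3), .mirror, (.scan 181 5 6 2), .mirror], [(.scan 187 0 1 1), .mirror, (.scan 187 1 2 2), (.scan 181 1 3 2), (.scan 187 1 4 2), (.scan 187 1 5 2), .mirror, (.scan 187 1 7 2)],
    [(.scan 188 0 3 1), .tree, (.scan 183 2 3 3), .mirror, (.scan 182 3 4 2), .tree, (.scan 187 6 7 3), (.scan 185 3 7 2)], [(.scan 184 0 2 3), (.scan 188 1 5 1), .mirror, (.scan 188 3 5 1), (.scan 182 4 5 3), .mirror, .tree, (.scan 185 5 7 2)],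
    [.mirror, (.scan 189 1 6 1), (.scan 189 2 6 1), (.scan 189 3 6 1), (.scan 189 4 6 1), (.scan 183 5 6 3), .mirror, (.scan 186 6 7 2)], [(.scan 191 0 1 1), .mirror, (.scan 191 1 2 2), (.scan 185 1 3 2), (.scan 191 1 4 2), .tree, (.scan 187 1 6 2), .mirror],
    [(.scan 191 0 5 1), (.scan 191 1 5 1), (.scan 186 2 3 3), .mirror, .tree, .mirror, (.scan 187 5 6 2), .mirror], [(.scan 194 0 1 1), .mirror, (.scan 194 1 2 2), (.scan 188 1 3 2), (.scan 194 1 4 2), .tree, (.scan 193 6 7 3), (.scan 191 1 7 2)],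
    [(.scan 194 0 5 1), (.scan 194 1 5 1), (.scan 189 2 3 3), .mirror, .tree, .mirror, .tree, (.scan 191 5 7 2)], [(.scan 190 0 2 3), (.scan 195 1 6 1), .mirror, (.scan 195 3 6 1), (.scan 195 4 6 1), (.scan 188 5 6 3), .mirror, (.scan 192 6 7 2)],
    [(.scan 197 0 5 1), .mirror, (.scan 197 2 5 1), (.scan 192 1 3 2), .tree, .mirror, (.scan 193 5 6 2), .mirror], [(.scan 198 0 4 1), (.scan 198 1 4 1), (.scan 198 2 4 1), (.scan 192 3 4 3), .mirror, (.scan 191 4 5 2), (.scan 198 4 6 2), .mirror],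
    [(.scan 199 0 5 1), .mirror, (.scan 199 2 5 1), (.scan 195 1 3 2), .tree, .mirror, .tree, (.scan 197 5 7 2)], [(.scan 200 0 4 1), (.scan 200 1 4 1), (.scan 200 2 4 1), (.scan 195 3 4 3), .mirror, (.scan 194 4 5 2), .tree, (.scan 198 4 7 2)],
    [(.scan 200 0 6 1), (.scan 200 1 6 1), (.scan 196 2 3 3), .mirror, (.scan 200 4 6 1), (.scan 194 5 6 3), .mirror, (.scan 198 6 7 2)], [(.scan 202 0 4 1), .mirror, (.scan 202 2 4 1), .tree, .mirror, (.scan 197 4 5 2), (.scan 202 4 6 2), .mirror],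
    [(.scan 204 0 4 1), .mirror, (.scan 204 2 4 1), .tree, .mirror, (.scan 199 4 5 2), .tree, (.scan 202 4 7 2)], [(.scan 204 0 6 1), .mirror, (.scan 204 2 6 1), (.scan 201 1 3 2), (.scan 204 4 6 1), (.scan 199 5 6 3), .mirror, (.scan 202 6 7 2)],
    [(.scan 205 0 6 1), (.scan 205 1 6 1), (.scan 205 2 6 1), (.scan 201 3 4 3), .mirror, .tree, .mirror, (.scan 203 6 7 2)], [(.scan 207 0 3 1), (.scan 203 1 3 3), .tree, .mirror, (.scan 202 3 4 2), (.scan 207 3 5 2), (.scan 207 3 6 2), .mirror],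
    [(.scan 208 0 3 1), (.scan 205 1 3 3), .tree, .mirror, (.scan 204 3 4 2), (.scan 208 3 5 2), .tree, (.scan 207 3 7 2)], [(.scan 208 0 6 1), .mirror, (.scan 208 2 6 1), (.scan 208 3 6 1), .mirror, .tree, .mirror, (.scan 207 6 7 2)],
    [(.scan 210 0 5 1), (.scan 210 1 5 1), (.scan 210 2 5 1), (.scan 210 3 5 1), (.scan 206 4 5 3), .mirror, (.scan 205 5 6 2), (.scan 210 5 7 2)], [.tree, (.scan 211 1 2 1), .mirror, (.scan 207 2 3 2), (.scan 211 2 4 2), (.scan 211 2 5 2), (.scan 211 2 6 2), .mirror],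
    [.tree, (.scan 212 1 2 1), .mirror, (.scan 208 2 3 2), (.scan 212 2 4 2), (.scan 212 2 5 2), .tree, (.scan 211 2 7 2)], [(.scan 212 0 6 1), (.scan 210 1 3 3), (.scan 212 2 6 1), .mirror, (.scan 209 3 4 2), .tree, .mirror, (.scan 211 6 7 2)],
    [(.scan 213 0 5 1), .mirror, (.scan 213 2 5 1), (.scan 213 3 5 1), (.scan 209 4 5 3), .mirror, (.scan 208 5 6 2), (.scan 213 5 7 2)], [.mirror, (.scan 215 0 1 2), (.scan 211 0 2 2), (.scan 215 0 3 2), (.scan 215 0 4 2), (.scan 215 0 5 2), (.scan 215 0 6 2), .mirror],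
    [.mirror, (.scan 216 0 1 2), (.scan 212 0 2 2), (.scan 216 0 3 2), (.scan 216 0 4 2), (.scan 216 0 5 2), .tree, (.scan 215 0 7 2)], [(.scan 216 0 6 1), (.scan 216 1 6 1), .mirror, (.scan 213 2 3 2), (.scan 216 4 6 1), .tree, .mirror, (.scan 215 6 7 2)],
    [(.scan 217 0 5 1), (.scan 214 1 3 3), (.scan 217 2 5 1), .mirror, .tree, .mirror, (.scan 212 5 6 2), (.scan 217 5 7 2)], [.mirror, (.scan 220 1 6 1), (.scan 217 0 2 2), (.scan 220 3 6 1), (.scan 220 4 6 1), .tree, .mirror, (.scan 219 6 7 2)],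
    [(.scan 221 0 5 1), (.scan 221 1 5 1), .mirror, (.scan 218 2 3 2), .tree, .mirror, (.scan 216 5 6 2), (.scan 221 5 7 2)], [(.scan 222 0 4 1), (.scan 222 1 4 1), (.scan 222 2 4 1), (.scan 218 3 4 3), .mirror, (.scan 217 4 5 2), (.scan 222 4 6 2), (.scan 222 4 7 2)],
    [.mirror, (.scan 223 1 5 1), (.scan 222 0 2 2), (.scan 223 3 5 1), .tree, .mirror, (.scan 220 5 6 2), (.scan 223 5 7 2)], [(.scan 224 0 4 1), (.scan 224 1 4 1), .mirror, .tree, .mirror, (.scan 221 4 5 2), (.scan 224 4 6 2), (.scan 224 4 7 2)],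
    [.mirror, (.scan 226 1 4 1), (.scan 225 0 2 2), .tree, .mirror, (.scan 223 4 5 2), (.scan 226 4 6 2), (.scan 226 4 7 2)], [(.scan 227 0 3 1), .tree, (.scan 225 2 3 3), .mirror, (.scan 224 3 4 2), (.scan 227 3 5 2), (.scan 227 3 6 2), (.scan 227 3 7 2)],
    [.mirror, .tree, .tree, .mirror, (.scan 226 3 4 2), (.scan 228 3 5 2), (.scan 228 3 6 2), (.scan 228 3 7 2)], [(.scan 229 0 1 1), .mirror, (.scan 229 1 2 2), (.scan 227 1 3 2), (.scan 229 1 4 2), (.scan 229 1 5 2), (.scan 229 1 6 2), (.scan 229 1 7 2)],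
    [.mirror, .mirror, .tree, (.scan 228 1 3 2), (.scan 230 1 4 2), (.scan 230 1 5 2), (.scan 230 1 6 2), (.scan 230 1 7 2)], [(.scan 229 0 2 3), (.scan 230 1 2 1), .mirror, (.scan 228 2 3 2), (.scan 230 2 4 2), (.scan 230 2 5 2), (.scan 230 2 6 2), (.scan 230 2 7 2)],
    [(.scan 231 0 2 3), .mirror, .mirror, .tree, (.scan 232 2 4 2), (.scan 232 2 5 2), (.scan 232 2 6 2), (.scan 232 2 7 2)], [(.scan 234 0 3 1), (.scan 233 1 3 3), (.scan 232 2 3 3), .mirror, .tree, (.scan 234 3 5 2), (.scan 234 3 6 2), (.scan 234 3 7 2)],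
    [(.scan 235 0 4 1), (.scan 235 1 4 1), (.scan 235 2 4 1), (.scan 234 3 4 3), .mirror, .tree, (.scan 235 4 6 2), (.scan 235 4 7 2)], [(.scan 236 0 5 1), (.scan 236 1 5 1), (.scan 236 2 5 1), (.scan 236 3 5 1), (.scan 235 4 5 3), .mirror, .tree, (.scan 236 5 7 2)],
    [(.scan 237 0 6 1), (.scan 237 1 6 1), (.scan 237 2 6 1), (.scan 237 3 6 1), (.scan 237 4 6 1), (.scan 236 5 6 3), .mirror, .tree], [(.scan 238 0 7 1), (.scan 238 1 7 1), (.scan 238 2 7 1), (.scan 238 3 7 1), (.scan 238 4 7 1), (.scan 238 5 7 1), (.scan 237 6 7 3), .mirror]]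

theorem hc8 : cert8.check matf (fun i => decide (i < 7)) = true := by decide +kernel

def pts8 : List (List ℕ) := [
    [8, 8, 8, 8, 8, 8, 8, 9], [8, 8, 8, 8, 8, 8, 9, 7], [8, 8, 8, 8, 8, 9, 7, 8], [8, 8, 8, 8, 9, 7, 8, 8], [8, 8, 8, 9, 7, 8, 8, 8], [8, 9, 9, 7, 8, 8, 8, 8], [8, 7, 9, 8, 8, 8, 8, 8], [9, 9, 7, 8, 8, 8, 8, 8],
    [9, 7, 7, 9, 8, 8, 8, 8], [7, 9, 8, 8, 8, 8, 8, 8], [7, 7, 8, 9, 8, 8, 8, 8], [9, 8, 8, 7, 9, 8, 8, 8], [7, 8, 9, 7, 9, 8, 8, 8], [9, 8, 8, 8, 7, 9, 8, 8], [8, 8, 7, 8, 9, 8, 8, 8], [7, 8, 9, 8, 7, 9, 8, 8],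
    [9, 8, 8, 8, 8, 7, 9, 8], [8, 8, 7, 9, 7, 9, 8, 8], [7, 8, 9, 8, 8, 7, 9, 8], [9, 8, 8, 8, 8, 8, 7, 9], [8, 9, 8, 7, 8, 9, 8, 8], [8, 8, 7, 9, 8, 7, 9, 8], [7, 8, 9, 8, 8, 8, 7, 9], [9, 8, 8, 8, 8, 8, 8, 7],
    [8, 7, 8, 8, 8, 9, 8, 8], [8, 9, 8, 7, 9, 7, 9, 8], [8, 8, 7, 9, 8, 8, 7, 9], [7, 8, 9, 8, 8, 8, 8, 7], [8, 7, 8, 8, 9, 7, 9, 8], [8, 9, 8, 8, 7, 8, 9, 8], [8, 9, 8, 7, 9, 8, 7, 9], [8, 8, 7, 9, 8, 8, 8, 7],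
    [8, 7, 8, 9, 7, 8, 9, 8], [8, 7, 8, 8, 9, 8, 7, 9], [8, 9, 8, 8, 7, 9, 7, 9], [8, 9, 8, 7, 9, 8, 8, 7], [8, 8, 9, 7, 8, 8, 9, 8], [8, 7, 8, 9, 7, 9, 7, 9], [8, 7, 8, 8, 9, 8, 8, 7], [8, 9, 8, 8, 8, 7, 8, 9],
    [8, 9, 8, 8, 7, 9, 8, 7], [9, 8, 7, 8, 8, 8, 9, 8], [8, 8, 9, 7, 8, 9, 7, 9], [8, 7, 8, 9, 8, 7, 8, 9], [8, 7, 8, 9, 7, 9, 8, 7], [8, 9, 8, 8, 8, 7, 9, 7], [7, 8, 8, 8, 8, 8, 9, 8], [9, 8, 7, 8, 8, 9, 7, 9],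
    [8, 8, 9, 7, 9, 7, 8, 9], [8, 8, 9, 7, 8, 9, 8, 7], [8, 7, 8, 9, 8, 7, 9, 7], [8, 9, 8, 8, 8, 8, 7, 8], [7, 8, 8, 8, 8, 9, 7, 9], [9, 8, 7, 8, 9, 7, 8, 9], [9, 8, 7, 8, 8, 9, 8, 7], [8, 8, 9, 8, 7, 8, 8, 9],
    [8, 8, 9, 7, 9, 7, 9, 7], [8, 7, 8, 9, 8, 8, 7, 8], [7, 8, 8, 8, 9, 7, 8, 9], [7, 8, 8, 8, 8, 9, 8, 7], [9, 8, 7, 9, 7, 8, 8, 9], [9, 8, 7, 8, 9, 7, 9, 7], [8, 8, 9, 8, 7, 8, 9, 7], [8, 8, 9, 7, 9, 8, 7, 8],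
    [7, 8, 8, 9, 7, 8, 8, 9], [7, 8, 8, 8, 9, 7, 9, 7], [9, 9, 8, 7, 8, 8, 8, 9], [9, 8, 7, 9, 7, 8, 9, 7], [9, 8, 7, 8, 9, 8, 7, 8], [8, 8, 9, 8, 7, 9, 7, 8], [7, 9, 9, 7, 8, 8, 8, 9], [7, 8, 8, 9, 7, 8, 9, 7],
    [7, 8, 8, 8, 9, 8, 7, 8], [9, 7, 8, 8, 8, 8, 8, 9], [9, 9, 8, 7, 8, 8, 9, 7], [9, 8, 7, 9, 7, 9, 7, 8], [8, 8, 9, 8, 8, 7, 8, 8], [7, 7, 9, 8, 8, 8, 8, 9], [8, 9, 7, 8, 8, 8, 8, 9], [7, 9, 9, 7, 8, 8, 9, 7],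
    [7, 8, 8, 9, 7, 9, 7, 8], [9, 7, 8, 8, 8, 8, 9, 7], [9, 9, 8, 7, 8, 9, 7, 8], [9, 8, 7, 9, 8, 7, 8, 8], [8, 7, 7, 9, 8, 8, 8, 9], [7, 7, 9, 8, 8, 8, 9, 7], [8, 9, 7, 8, 8, 8, 9, 7], [7, 9, 9, 7, 8, 9, 7, 8],
    [7, 8, 8, 9, 8, 7, 8, 8], [9, 7, 8, 8, 8, 9, 7, 8], [9, 9, 8, 7, 9, 7, 8, 8], [8, 8, 8, 7, 9, 8, 8, 9], [8, 7, 7, 9, 8, 8, 9, 7], [7, 7, 9, 8, 8, 9, 7, 8], [8, 9, 7, 8, 8, 9, 7, 8], [7, 9, 9, 7, 9, 7, 8, 8],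
    [9, 7, 8, 8, 9, 7, 8, 8], [9, 9, 8, 8, 7, 8, 8, 8], [8, 8, 8, 8, 7, 9, 8, 9], [8, 8, 8, 7, 9, 8, 9, 7], [8, 7, 7, 9, 8, 9, 7, 8], [7, 7, 9, 8, 9, 7, 8, 8], [8, 9, 7, 8, 9, 7, 8, 8], [7, 9, 9, 8, 7, 8, 8, 8],
    [9, 7, 8, 9, 7, 8, 8, 8], [8, 8, 8, 8, 8, 7, 9, 9], [8, 8, 8, 8, 7, 9, 9, 7], [8, 8, 8, 7, 9, 9, 7, 8], [8, 7, 7, 9, 9, 7, 8, 8], [7, 7, 9, 9, 7, 8, 8, 8], [8, 9, 7, 9, 7, 8, 8, 8], [9, 8, 9, 7, 8, 8, 8, 8],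
    [8, 8, 8, 8, 8, 8, 7, 10], [8, 8, 8, 8, 8, 7, 10, 7], [8, 8, 8, 8, 7, 10, 7, 8], [8, 8, 8, 7, 10, 7, 8, 8], [8, 7, 7, 10, 7, 8, 8, 8], [7, 8, 10, 7, 8, 8, 8, 8], [8, 10, 8, 7, 8, 8, 8, 8], [10, 8, 7, 8, 8, 8, 8, 8],
    [8, 8, 8, 8, 8, 8, 9, 6], [8, 8, 8, 8, 8, 9, 6, 9], [8, 8, 8, 8, 9, 6, 9, 8], [8, 8, 8, 9, 6, 9, 8, 8], [8, 9, 9, 6, 9, 8, 8, 8], [9, 8, 6, 9, 8, 8, 8, 8], [8, 6, 8, 9, 8, 8, 8, 8], [6, 8, 9, 8, 8, 8, 8, 8],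
    [8, 8, 8, 8, 8, 9, 7, 7], [8, 8, 8, 8, 9, 7, 7, 9], [8, 8, 8, 9, 7, 7, 9, 8], [8, 9, 9, 7, 7, 9, 8, 8], [8, 7, 9, 7, 9, 8, 8, 8], [9, 9, 7, 7, 9, 8, 8, 8], [7, 8, 7, 9, 8, 8, 8, 8], [8, 8, 8, 8, 9, 7, 8, 7],
    [8, 8, 8, 9, 7, 8, 7, 9], [8, 9, 9, 7, 8, 7, 9, 8], [8, 7, 9, 8, 7, 9, 8, 8], [9, 9, 7, 8, 7, 9, 8, 8], [9, 7, 7, 8, 9, 8, 8, 8], [7, 9, 8, 7, 9, 8, 8, 8], [8, 8, 8, 9, 7, 8, 8, 7], [8, 9, 9, 7, 8, 8, 7, 9],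
    [8, 7, 9, 8, 8, 7, 9, 8], [9, 9, 7, 8, 8, 7, 9, 8], [9, 7, 7, 9, 7, 9, 8, 8], [7, 9, 8, 8, 7, 9, 8, 8], [7, 7, 8, 8, 9, 8, 8, 8], [8, 9, 9, 7, 8, 8, 8, 7], [8, 7, 9, 8, 8, 8, 7, 9], [9, 9, 7, 8, 8, 8, 7, 9],
    [9, 7, 7, 9, 8, 7, 9, 8], [7, 9, 8, 8, 8, 7, 9, 8], [7, 7, 8, 9, 7, 9, 8, 8], [9, 8, 8, 7, 8, 9, 8, 8], [8, 7, 9, 8, 8, 8, 8, 7], [9, 9, 7, 8, 8, 8, 8, 7], [9, 7, 7, 9, 8, 8, 7, 9], [7, 9, 8, 8, 8, 8, 7, 9],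
    [7, 7, 8, 9, 8, 7, 9, 8], [9, 8, 8, 7, 9, 7, 9, 8], [7, 8, 9, 7, 8, 9, 8, 8], [9, 7, 7, 9, 8, 8, 8, 7], [7, 9, 8, 8, 8, 8, 8, 7], [7, 7, 8, 9, 8, 8, 7, 9], [9, 8, 8, 7, 9, 8, 7, 9], [7, 8, 9, 7, 9, 7, 9, 8],
    [9, 8, 8, 8, 7, 8, 9, 8], [8, 8, 7, 8, 8, 9, 8, 8], [7, 7, 8, 9, 8, 8, 8, 7], [9, 8, 8, 7, 9, 8, 8, 7], [7, 8, 9, 7, 9, 8, 7, 9], [9, 8, 8, 8, 7, 9, 7, 9], [8, 8, 7, 8, 9, 7, 9, 8], [7, 8, 9, 8, 7, 8, 9, 8],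
    [7, 8, 9, 7, 9, 8, 8, 7], [9, 8, 8, 8, 7, 9, 8, 7], [8, 8, 7, 8, 9, 8, 7, 9], [7, 8, 9, 8, 7, 9, 7, 9], [9, 8, 8, 8, 8, 7, 8, 9], [8, 8, 7, 9, 7, 8, 9, 8], [8, 8, 7, 8, 9, 8, 8, 7], [7, 8, 9, 8, 7, 9, 8, 7],
    [9, 8, 8, 8, 8, 7, 9, 7], [8, 8, 7, 9, 7, 9, 7, 9], [7, 8, 9, 8, 8, 7, 8, 9], [8, 9, 8, 7, 8, 8, 9, 8], [8, 8, 7, 9, 7, 9, 8, 7], [7, 8, 9, 8, 8, 7, 9, 7], [9, 8, 8, 8, 8, 8, 7, 8], [8, 9, 8, 7, 8, 9, 7, 9],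
    [8, 8, 7, 9, 8, 7, 8, 9], [8, 7, 8, 8, 8, 8, 9, 8], [8, 9, 8, 7, 8, 9, 8, 7], [8, 8, 7, 9, 8, 7, 9, 7], [7, 8, 9, 8, 8, 8, 7, 8], [8, 7, 8, 8, 8, 9, 7, 9], [8, 9, 8, 7, 9, 7, 8, 9], [8, 7, 8, 8, 8, 9, 8, 7],
    [8, 9, 8, 7, 9, 7, 9, 7], [8, 8, 7, 9, 8, 8, 7, 8], [8, 7, 8, 8, 9, 7, 8, 9], [8, 9, 8, 8, 7, 8, 8, 9], [8, 7, 8, 8, 9, 7, 9, 7], [8, 9, 8, 8, 7, 8, 9, 7], [8, 9, 8, 7, 9, 8, 7, 8], [8, 7, 8, 9, 7, 8, 8, 9],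
    [8, 7, 8, 9, 7, 8, 9, 7], [8, 7, 8, 8, 9, 8, 7, 8], [8, 9, 8, 8, 7, 9, 7, 8], [8, 8, 9, 7, 8, 8, 8, 9], [8, 8, 9, 7, 8, 8, 9, 7], [8, 7, 8, 9, 7, 9, 7, 8], [8, 9, 8, 8, 8, 7, 8, 8], [9, 8, 7, 8, 8, 8, 8, 9],
    [9, 8, 7, 8, 8, 8, 9, 7], [8, 8, 9, 7, 8, 9, 7, 8], [8, 7, 8, 9, 8, 7, 8, 8], [7, 8, 8, 8, 8, 8, 8, 9], [7, 8, 8, 8, 8, 8, 9, 7], [9, 8, 7, 8, 8, 9, 7, 8], [8, 8, 9, 7, 9, 7, 8, 8], [7, 8, 8, 8, 8, 9, 7, 8],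
    [9, 8, 7, 8, 9, 7, 8, 8], [8, 8, 9, 8, 7, 8, 8, 8], [7, 8, 8, 8, 9, 7, 8, 8], [9, 8, 7, 9, 7, 8, 8, 8], [7, 8, 8, 9, 7, 8, 8, 8], [9, 9, 8, 7, 8, 8, 8, 8], [7, 9, 9, 7, 8, 8, 8, 8], [9, 7, 8, 8, 8, 8, 8, 8],
    [7, 7, 9, 8, 8, 8, 8, 8], [8, 9, 7, 8, 8, 8, 8, 8], [8, 7, 7, 9, 8, 8, 8, 8], [8, 8, 8, 7, 9, 8, 8, 8], [8, 8, 8, 8, 7, 9, 8, 8], [8, 8, 8, 8, 8, 7, 9, 8], [8, 8, 8, 8, 8, 8, 7, 9], [8, 8, 8, 8, 8, 8, 8, 7]]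

def par8 : List (ℕ × ℕ) := [
    (0, 0), (0, 7), (1, 6), (2, 5), (3, 4), (4, 3), (5, 1), (5, 2), (6, 2), (7, 0), (8, 0), (8, 3),
    (10, 3), (11, 4), (12, 2), (12, 4), (13, 5), (14, 4), (15, 5), (16, 6), (17, 3), (17, 5), (18, 6), (19, 7),
    (20, 1), (20, 5), (21, 6), (22, 7), (24, 5), (25, 4), (25, 6), (26, 7), (28, 4), (28, 6), (29, 6), (30, 7),
    (32, 3), (32, 6), (33, 7), (34, 5), (34, 7), (36, 2), (36, 6), (37, 5), (37, 7), (39, 7), (41, 0), (41, 6),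
    (42, 5), (42, 7), (43, 7), (45, 6), (46, 6), (47, 5), (47, 7), (48, 4), (48, 7), (50, 6), (52, 5), (52, 7),
    (53, 4), (53, 7), (55, 7), (56, 6), (58, 4), (58, 7), (60, 3), (60, 7), (61, 6), (62, 6), (64, 3), (64, 7),
    (65, 6), (66, 1), (66, 7), (67, 6), (69, 5), (70, 1), (70, 2), (70, 7), (71, 6), (73, 7), (74, 6), (75, 5),
    (77, 2), (77, 7), (78, 7), (79, 6), (80, 5), (81, 6), (82, 5), (84, 3), (84, 7), (85, 6), (86, 6), (87, 5),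
    (89, 5), (90, 4), (91, 4), (91, 7), (92, 6), (93, 5), (94, 5), (95, 4), (96, 4), (98, 5), (98, 7), (99, 6),
    (100, 5), (101, 4), (102, 4), (104, 3), (105, 6), (105, 7), (106, 6), (107, 5), (108, 4), (109, 3), (110, 3), (111, 2),
    (112, 7), (113, 6), (114, 5), (115, 4), (116, 3), (117, 2), (118, 1), (119, 0), (120, 6), (121, 5), (122, 4), (123, 3),
    (124, 1), (124, 2), (125, 0), (128, 5), (129, 4), (130, 3), (131, 1), (131, 2), (132, 2), (133, 0), (135, 4), (136, 3),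
    (137, 1), (137, 2), (138, 2), (139, 0), (140, 0), (142, 3), (143, 1), (143, 2), (144, 2), (145, 0), (146, 0), (146, 3),
    (149, 1), (149, 2), (150, 2), (151, 0), (152, 0), (152, 3), (154, 3), (156, 2), (157, 0), (158, 0), (158, 3), (160, 3),
    (161, 4), (162, 2), (163, 0), (163, 3), (165, 3), (166, 4), (167, 2), (167, 4), (170, 3), (171, 4), (172, 2), (172, 4),
    (173, 5), (174, 4), (176, 2), (176, 4), (177, 5), (178, 4), (179, 5), (181, 3), (182, 4), (183, 5), (184, 6), (185, 3),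
    (185, 5), (187, 1), (188, 3), (188, 5), (189, 6), (191, 1), (191, 5), (194, 1), (194, 5), (195, 6), (197, 5), (198, 4),
    (199, 5), (200, 4), (200, 6), (202, 4), (204, 4), (204, 6), (205, 6), (207, 3), (208, 3), (208, 6), (210, 5), (211, 2),
    (212, 2), (212, 6), (213, 5), (215, 0), (216, 0), (216, 6), (217, 5), (220, 6), (221, 5), (222, 4), (223, 5), (224, 4),
    (226, 4), (227, 3), (228, 3), (229, 1), (230, 1), (230, 2), (232, 2), (234, 3), (235, 4), (236, 5), (237, 6), (238, 7)]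

theorem ho8 : OrbOK 8 cartL 7 pts8 par8 := by decide +kernel

theorem ub8 : Finite (truncTo CoxeterMatrix.E₈ 8 (by decide)).Group ∧
    Nat.card (truncTo CoxeterMatrix.E₈ 8 (by decide)).Group ≤ 696729600 :=
  ub_step CoxeterMatrix.E₈ 7 (by decide) cert8 rfl matf hmat hc8 2903040 ub7

theorem lb8 : 696729600 ≤ Nat.card (G (hsq_of_hR CoxeterMatrix.E₈ hR) 8) :=
  lbG_step (hsq_of_hR CoxeterMatrix.E₈ hR) 7 (by decide) 2903040 lb7 pts8 par8 ho8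
    (finite_G CoxeterMatrix.E₈ hR 8 (by decide) ub8.1)

theorem card8 : Nat.card (truncTo CoxeterMatrix.E₈ 8 (by decide)).Group = 696729600 :=
  (card_eq_and_injective CoxeterMatrix.E₈ hR 8 (by decide) 696729600 ub8 lb8).1

theorem inj8 : Function.Injective (rho CoxeterMatrix.E₈ hR 8 (by decide)) :=
  (card_eq_and_injective CoxeterMatrix.E₈ hR 8 (by decide) 696729600 ub8 lb8).2

theorem cpow8 : (((List.range 8).map (reflM 8 cartL)).prod) ^ 30 = 1 := by decide +kernel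

theorem cne8_2 : (((List.range 8).map (reflM 8 cartL)).prod) ^ 15 ≠ 1 := by decide +kernel

theorem cne8_3 : (((List.range 8).map (reflM 8 cartL)).prod) ^ 10 ≠ 1 := by decide +kernel

theorem cne8_5 : (((List.range 8).map (reflM 8 cartL)).prod) ^ 6 ≠ 1 := by decide +kernel

theorem cox8 : orderOf ((List.finRange 8).map (truncTo CoxeterMatrix.E₈ 8 (by decide)).simple).prod = 30 := by
  refine orderOf_coxeter CoxeterMatrix.E₈ hR 8 (by decide) inj8 30 (by decide) cpow8 ?_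
  intro p hp hpd
  have hle : p ≤ 30 := Nat.le_of_dvd (by decide) hpd
  have hmem : p ∈ ([2, 3, 5] : List ℕ) := by
    interval_cases p <;> first | (exfalso; revert hp; decide) | (exfalso; revert hpd; decide) | decide
  simp only [List.mem_cons, List.mem_nil_iff, or_false] at hmem
  rcases hmem with rfl | rfl | rfl
  · exact cne8_2
  · exact cne8_3
  · exact cne8_5

end Cfsg.Agent.Lib.helper19_CoxE8
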