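import Mathlib
import Cfsg.Agent.Lib.helper19_CoxRefl

/-!
Certificates for the order of the Coxeter group of type F4 and of its parabolic subgroups on
the first `k` nodes (coset tables for the upper bounds, orbits of the integral reflection
representation for the lower bounds), generated by a script.  By helper19.
-/

set_option autoImplicit false
set_option maxRecDepth 1000000

namespace Cfsg.Agent.Lib.helper19_CoxF4

open Cfsg.Agent.Lib.helper19_TC Cfsg.Agent.Lib.helper19_CoxChain Cfsg.Agent.Lib.helper19_CoxRefl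

/-- the Coxeter matrix, as a list of rows. -/
def matL : List (List ℕ) := [[1, 3, 2, 2], [3, 1, 4, 2], [2, 4, 1, 3], [2, 2, 3, 1]]

/-- the entries of the Coxeter matrix, as a function on `ℕ`. -/
def matf (i j : ℕ) : ℕ := (matL.getD i []).getD j 0

/-- the Cartan matrix. -/
def cartL : List (List ℤ) := [[2, -1, 0, 0], [-1, 2, -1, 0], [0, -2, 2, -1], [0, 0, -1, 2]]

theorem hmat : ∀ i j : Fin 4, CoxeterMatrix.F₄ i j = matf i j := by
  have h : ∀ p : Fin 4 × Fin 4, CoxeterMatrix.F₄ p.1 p.2 = matf p.1 p.2 := by decide +kernel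
  exact fun i j => h (i, j)

theorem hR : ∀ i j : Fin 4, (reflM 4 cartL i * reflM 4 cartL j) ^ CoxeterMatrix.F₄ i j = 1 := by
  decide +kernel

/-! ### level 1: index 2, order 2 -/

def cert1 : Cert where
  k := 1
  N := 2
  tbl := [
    [1], [0]]
  words := [
    [], [0]]
  rk := [
    [0], [1]]
  just := [
    [.tree], [.mirror]]

theorem hc1 : cert1.check matf (fun i => decide (i < 0)) = true := by decide +kernel

def pts1 : List (List ℕ) := [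
    [9, 8, 8, 8], [7, 9, 8, 8]]

def par1 : List (ℕ × ℕ) := [
    (0, 0), (0, 0)]

theorem ho1 : OrbOK 4 cartL 0 pts1 par1 := by decide +kernel

theorem ub1 : Finite (truncTo CoxeterMatrix.F₄ 1 (by decide)).Group ∧
    Nat.card (truncTo CoxeterMatrix.F₄ 1 (by decide)).Group ≤ 2 :=
  ub_step CoxeterMatrix.F₄ 0 (by decide) cert1 rfl matf hmat hc1 1 (ub_zero CoxeterMatrix.F₄)

theorem lb1 : 2 ≤ Nat.card (G (hsq_of_hR CoxeterMatrix.F₄ hR) 1) :=
  lbG_step (hsq_of_hR CoxeterMatrix.F₄ hR) 0 (by decide) 1 (lbG_zero (hsq_of_hR CoxeterMatrix.F₄ hR)) pts1 par1 ho1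
    (finite_G CoxeterMatrix.F₄ hR 1 (by decide) ub1.1)

theorem card1 : Nat.card (truncTo CoxeterMatrix.F₄ 1 (by decide)).Group = 2 :=
  (card_eq_and_injective CoxeterMatrix.F₄ hR 1 (by decide) 2 ub1 lb1).1

theorem inj1 : Function.Injective (rho CoxeterMatrix.F₄ hR 1 (by decide)) :=
  (card_eq_and_injective CoxeterMatrix.F₄ hR 1 (by decide) 2 ub1 lb1).2

/-! ### level 2: index 3, order 6 -/

def cert2 : Cert where
  k := 2
  N := 3
  tbl := [
    [0, 1], [2, 0], [1, 2]]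
  words := [
    [], [1], [0, 1]]
  rk := [
    [0, 0], [0, 1], [1, 2]]
  just := [
    [.base, .tree], [.tree, .mirror],
    [.mirror, (.scan 0 0 1 2)]]

theorem hc2 : cert2.check matf (fun i => decide (i < 1)) = true := by decide +kernel

def pts2 : List (List ℕ) := [
    [8, 9, 8, 8], [9, 7, 9, 8], [7, 8, 9, 8]]

def par2 : List (ℕ × ℕ) := [
    (0, 0), (0, 1), (1, 0)]

theorem ho2 : OrbOK 4 cartL 1 pts2 par2 := by decide +kernel

theorem ub2 : Finite (truncTo CoxeterMatrix.F₄ 2 (by decide)).Group ∧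
    Nat.card (truncTo CoxeterMatrix.F₄ 2 (by decide)).Group ≤ 6 :=
  ub_step CoxeterMatrix.F₄ 1 (by decide) cert2 rfl matf hmat hc2 2 ub1

theorem lb2 : 6 ≤ Nat.card (G (hsq_of_hR CoxeterMatrix.F₄ hR) 2) :=
  lbG_step (hsq_of_hR CoxeterMatrix.F₄ hR) 1 (by decide) 2 lb1 pts2 par2 ho2
    (finite_G CoxeterMatrix.F₄ hR 2 (by decide) ub2.1)

theorem card2 : Nat.card (truncTo CoxeterMatrix.F₄ 2 (by decide)).Group = 6 :=
  (card_eq_and_injective CoxeterMatrix.F₄ hR 2 (by decide) 6 ub2 lb2).1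

theorem inj2 : Function.Injective (rho CoxeterMatrix.F₄ hR 2 (by decide)) :=
  (card_eq_and_injective CoxeterMatrix.F₄ hR 2 (by decide) 6 ub2 lb2).2

/-! ### level 3: index 8, order 48 -/

def cert3 : Cert where
  k := 3
  N := 8
  tbl := [
    [0, 0, 1], [1, 2, 0], [3, 1, 4], [2, 3, 5], [5, 4, 2], [4, 6, 3], [6, 5, 7], [7, 7, 6]]
  words := [
    [], [2], [1, 2], [0, 1, 2],
    [2, 1, 2], [2, 0, 1, 2], [1, 2, 0, 1, 2], [2, 1, 2, 0, 1, 2]]
  rk := [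
    [0, 0, 0], [2, 0, 1], [0, 1, 0], [1, 3, 0], [2, 2, 1], [3, 0, 1], [4, 1, 0], [5, 4, 1]]
  just := [
    [.base, .base, .tree], [(.scan 0 0 2 1), .tree, .mirror],
    [.tree, .mirror, .tree], [.mirror, (.scan 1 0 1 2), .tree],
    [(.scan 2 0 2 1), (.scan 0 1 2 3), .mirror], [.mirror, .tree, .mirror],
    [(.scan 4 0 1 3), .mirror, .tree], [(.scan 6 0 2 1), (.scan 3 1 2 3), .mirror]]

theorem hc3 : cert3.check matf (fun i => decide (i < 2)) = true := by decide +kernel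

def pts3 : List (List ℕ) := [
    [8, 8, 9, 8], [8, 10, 7, 9], [10, 6, 9, 9], [6, 8, 9, 9], [10, 8, 7, 10], [6, 10, 7, 10], [8, 6, 9, 10], [8, 8, 7, 11]]

def par3 : List (ℕ × ℕ) := [
    (0, 0), (0, 2), (1, 1), (2, 0), (2, 2), (3, 2), (5, 1), (6, 2)]

theorem ho3 : OrbOK 4 cartL 2 pts3 par3 := by decide +kernel

theorem ub3 : Finite (truncTo CoxeterMatrix.F₄ 3 (by decide)).Group ∧
    Nat.card (truncTo CoxeterMatrix.F₄ 3 (by decide)).Group ≤ 48 :=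
  ub_step CoxeterMatrix.F₄ 2 (by decide) cert3 rfl matf hmat hc3 6 ub2

theorem lb3 : 48 ≤ Nat.card (G (hsq_of_hR CoxeterMatrix.F₄ hR) 3) :=
  lbG_step (hsq_of_hR CoxeterMatrix.F₄ hR) 2 (by decide) 6 lb2 pts3 par3 ho3
    (finite_G CoxeterMatrix.F₄ hR 3 (by decide) ub3.1)

theorem card3 : Nat.card (truncTo CoxeterMatrix.F₄ 3 (by decide)).Group = 48 :=
  (card_eq_and_injective CoxeterMatrix.F₄ hR 3 (by decide) 48 ub3 lb3).1

theorem inj3 : Function.Injective (rho CoxeterMatrix.F₄ hR 3 (by decide)) :=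
  (card_eq_and_injective CoxeterMatrix.F₄ hR 3 (by decide) 48 ub3 lb3).2

/-! ### level 4: index 24, order 1152 -/

def cert4 : Cert where
  k := 4
  N := 24
  tbl := [
    [0, 0, 0, 1], [1, 1, 2, 0], [2, 3, 1, 2], [4, 2, 5, 3], [3, 4, 6, 4], [6, 5, 3, 7], [5, 8, 4, 9], [9, 7, 7, 5],
    [8, 6, 10, 11], [7, 11, 9, 6], [10, 10, 8, 12], [11, 9, 13, 8], [12, 12, 14, 10], [13, 15, 11, 14], [14, 16, 12, 13], [17, 13, 15, 16],
    [18, 14, 19, 15], [15, 17, 17, 18], [16, 18, 20, 17], [20, 19, 16, 19], [19, 21, 18, 20], [21, 20, 22, 21], [22, 22, 21, 23], [23, 23, 23, 22]]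
  words := [
    [], [3], [2, 3], [1, 2, 3],
    [0, 1, 2, 3], [2, 1, 2, 3], [2, 0, 1, 2, 3], [3, 2, 1, 2, 3],
    [1, 2, 0, 1, 2, 3], [3, 2, 0, 1, 2, 3], [2, 1, 2, 0, 1, 2, 3], [3, 1, 2, 0, 1, 2, 3],
    [3, 2, 1, 2, 0, 1, 2, 3], [2, 3, 1, 2, 0, 1, 2, 3], [2, 3, 2, 1, 2, 0, 1, 2, 3], [1, 2, 3, 1, 2, 0, 1, 2, 3],
    [1, 2, 3, 2, 1, 2, 0, 1, 2, 3], [0, 1, 2, 3, 1, 2, 0, 1, 2, 3], [0, 1, 2, 3, 2, 1, 2, 0, 1, 2, 3], [2, 1, 2, 3, 2, 1, 2, 0, 1, 2, 3],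
    [2, 0, 1, 2, 3, 2, 1, 2, 0, 1, 2, 3], [1, 2, 0, 1, 2, 3, 2, 1, 2, 0, 1, 2, 3], [2, 1, 2, 0, 1, 2, 3, 2, 1, 2, 0, 1, 2, 3], [3, 2, 1, 2, 0, 1, 2, 3, 2, 1, 2, 0, 1, 2, 3]]
  rk := [
    [0, 0, 0, 0], [2, 2, 0, 1], [3, 0, 1, 2], [0, 1, 0, 3], [1, 4, 0, 4], [2, 3, 1, 0], [3, 0, 1, 0], [4, 4, 4, 1],
    [4, 1, 0, 0], [5, 2, 5, 1], [5, 5, 1, 0], [6, 3, 0, 1], [6, 6, 0, 1], [7, 0, 1, 2], [7, 0, 1, 3], [0, 1, 6, 4],
    [0, 1, 0, 3], [1, 8, 7, 6], [1, 8, 0, 5], [2, 7, 1, 7], [3, 0, 1, 8], [8, 1, 0, 9], [9, 9, 1, 0], [10, 10, 10, 1]]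
  just := [
    [.base, .base, .base, .tree], [(.scan 0 0 3 1), (.scan 0 1 3 1), .tree, .mirror],
    [(.scan 1 0 2 1), .tree, .mirror, (.scan 0 2 3 2)], [.tree, .mirror, .tree, (.scan 2 1 3 2)],
    [.mirror, (.scan 2 0 1 2), .tree, (.scan 3 0 3 2)], [(.scan 3 0 2 1), (.scan 1 1 2 3), .mirror, .tree],
    [.mirror, .tree, .mirror, .tree], [(.scan 5 0 3 1), (.scan 5 1 3 1), (.scan 3 2 3 3), .mirror],
    [(.scan 5 0 1 3), .mirror, .tree, .tree], [.mirror, (.scan 6 1 3 1), (.scan 4 2 3 3), .mirror],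
    [(.scan 8 0 2 1), (.scan 4 1 2 3), .mirror, .tree], [(.scan 7 0 1 3), .mirror, .tree, .mirror],
    [(.scan 10 0 3 1), (.scan 10 1 3 1), .tree, .mirror], [(.scan 11 0 2 1), .tree, .mirror, (.scan 8 2 3 2)],
    [(.scan 12 0 2 1), .tree, .mirror, .mirror], [.tree, .mirror, (.scan 9 1 2 4), .mirror],
    [.tree, .mirror, .tree, (.scan 13 1 3 2)], [.mirror, (.scan 13 0 1 2), (.scan 15 0 2 2), .mirror],
    [.mirror, (.scan 14 0 1 2), .tree, (.scan 15 0 3 2)], [(.scan 16 0 2 1), (.scan 12 1 2 3), .mirror, (.scan 15 2 3 2)],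
    [.mirror, .tree, .mirror, (.scan 17 2 3 2)], [(.scan 19 0 1 3), .mirror, .tree, (.scan 20 1 3 2)],
    [(.scan 21 0 2 1), (.scan 18 1 2 3), .mirror, .tree], [(.scan 22 0 3 1), (.scan 22 1 3 1), (.scan 21 2 3 3), .mirror]]

theorem hc4 : cert4.check matf (fun i => decide (i < 3)) = true := by decide +kernel

def pts4 : List (List ℕ) := [
    [8, 8, 8, 9], [8, 8, 9, 7], [8, 10, 7, 8], [10, 6, 9, 8], [6, 8, 9, 8], [10, 8, 7, 9], [6, 10, 7, 9], [10, 8, 8, 7],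
    [8, 6, 9, 9], [6, 10, 8, 7], [8, 8, 7, 10], [8, 6, 10, 7], [8, 8, 9, 6], [8, 10, 6, 9], [8, 10, 7, 7], [10, 6, 8, 9],
    [10, 6, 9, 7], [6, 8, 8, 9], [6, 8, 9, 7], [10, 8, 7, 8], [6, 10, 7, 8], [8, 6, 9, 8], [8, 8, 7, 9], [8, 8, 8, 7]]

def par4 : List (ℕ × ℕ) := [
    (0, 0), (0, 3), (1, 2), (2, 1), (3, 0), (3, 2), (4, 2), (5, 3), (6, 1), (6, 3), (8, 2), (8, 3),
    (10, 3), (11, 2), (12, 2), (13, 1), (14, 1), (15, 0), (16, 0), (16, 2), (18, 2), (20, 1), (21, 2), (22, 3)]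

theorem ho4 : OrbOK 4 cartL 3 pts4 par4 := by decide +kernel

theorem ub4 : Finite (truncTo CoxeterMatrix.F₄ 4 (by decide)).Group ∧
    Nat.card (truncTo CoxeterMatrix.F₄ 4 (by decide)).Group ≤ 1152 :=
  ub_step CoxeterMatrix.F₄ 3 (by decide) cert4 rfl matf hmat hc4 48 ub3

theorem lb4 : 1152 ≤ Nat.card (G (hsq_of_hR CoxeterMatrix.F₄ hR) 4) :=
  lbG_step (hsq_of_hR CoxeterMatrix.F₄ hR) 3 (by decide) 48 lb3 pts4 par4 ho4
    (finite_G CoxeterMatrix.F₄ hR 4 (by decide) ub4.1)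

theorem card4 : Nat.card (truncTo CoxeterMatrix.F₄ 4 (by decide)).Group = 1152 :=
  (card_eq_and_injective CoxeterMatrix.F₄ hR 4 (by decide) 1152 ub4 lb4).1

theorem inj4 : Function.Injective (rho CoxeterMatrix.F₄ hR 4 (by decide)) :=
  (card_eq_and_injective CoxeterMatrix.F₄ hR 4 (by decide) 1152 ub4 lb4).2

theorem cpow4 : (((List.range 4).map (reflM 4 cartL)).prod) ^ 12 = 1 := by decide +kernel

theorem cne4_2 : (((List.range 4).map (reflM 4 cartL)).prod) ^ 6 ≠ 1 := by decide +kernel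

theorem cne4_3 : (((List.range 4).map (reflM 4 cartL)).prod) ^ 4 ≠ 1 := by decide +kernel

theorem cox4 : orderOf ((List.finRange 4).map (truncTo CoxeterMatrix.F₄ 4 (by decide)).simple).prod = 12 := by
  refine orderOf_coxeter CoxeterMatrix.F₄ hR 4 (by decide) inj4 12 (by decide) cpow4 ?_
  intro p hp hpd
  have hle : p ≤ 12 := Nat.le_of_dvd (by decide) hpd
  have hmem : p ∈ ([2, 3] : List ℕ) := by
    interval_cases p <;> first | (exfalso; revert hp; decide) | (exfalso; revert hpd; decide) | decide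
  simp only [List.mem_cons, List.mem_nil_iff, or_false] at hmem
  rcases hmem with rfl | rfl
  · exact cne4_2
  · exact cne4_3

end Cfsg.Agent.Lib.helper19_CoxF4
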