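import Cfsg.Agent.Lib.Helper18_ChevData5
import Cfsg.Agent.Lib.Helper18_ChevCox
import Cfsg.Agent.Lib.helper19_CoxG2
import Cfsg.Agent.Lib.helper19_CoxB2
import Cfsg.Agent.Lib.helper19_CoxD4
import Cfsg.Agent.Lib.helper19_CoxF4
import Cfsg.Agent.Lib.helper19_CoxE6
import Cfsg.Agent.Lib.helper19_CoxE7
import Cfsg.Agent.Lib.helper19_CoxE8

set_option autoImplicit false

/-!
`N / H` is the Coxeter group of the type, for the seven exceptional data.
-/

namespace Cfsg.Agent.Lib.Helper18_ChevCoxAll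

open Cfsg Cfsg.Lie Cfsg.Agent.Lib.Helper18_ChevCox Cfsg.Agent.Lib.helper19_CoxRefl
  Cfsg.Agent.Lib.helper19_CoxChain

/-- The form of the conclusion, for a datum and a Coxeter matrix. -/
def HomOK (F : Type*) [Field F] (D : ChevalleyDatum) (n : ℕ) (M : CoxeterMatrix (Fin n)) : Prop :=
  ∃ φ : ↥(D.monomialSubgroup F) →* M.Group, Function.Surjective φ ∧
    φ.ker = (D.diagonalSubgroup F).subgroupOf (D.monomialSubgroup F) ∧
    ∀ (i : Fin n) (g : ↥(D.monomialSubgroup F)),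
      ((g : GL D.Idx F) : Matrix D.Idx D.Idx F) = D.nMat F (D.simple i) 1 → φ g = M.simple i

theorem homOK_of {F : Type*} [Field F] (D : ChevalleyDatum)
    (hD : D ∈ [chevG2, chevB2, chevD4, chevF4, chevE6, chevE7, chevE8]) (n : ℕ) (hn : D.rank = n)
    (C : List (List ℤ)) (hC : CartOK D n C) (M : CoxeterMatrix (Fin n))
    (hR : ∀ i j : Fin n, (reflM n C i * reflM n C j) ^ M i j = 1)
    (hinj : Function.Injective (rho M hR n le_rfl)) : HomOK F D n M := by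
  obtain ⟨Ns, w, d, Ts, hT, K, base, stepT, wl, ws, sc, c, tc, gc, pc, ac⟩ :=
    Cfsg.Agent.Lib.Helper18_ChevData5.exists_cert5 D hD
  have hR2 : Cfsg.Agent.Lib.Helper18_ChevUni.R2All D F := Cfsg.Agent.Lib.Helper18_ChevComm2.r2_all c pc
  have key : HomOK F D n (truncTo M n le_rfl) := by
    apply exists_hom_coxeter c tc ac gc hR2 hn hC (truncTo M n le_rfl) (rho M hR n le_rfl) _ hinj
    intro i
    rw [rho_simple, reflU_val _ i.2]
  rw [truncTo_self] at key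
  exact key

theorem homOK_G2 {F : Type*} [Field F] : HomOK F chevG2 2 CoxeterMatrix.G₂ :=
  homOK_of chevG2 (by simp) 2 rfl Cfsg.Agent.Lib.helper19_CoxG2.cartL (by decide +kernel) _
    Cfsg.Agent.Lib.helper19_CoxG2.hR Cfsg.Agent.Lib.helper19_CoxG2.inj2

theorem homOK_B2 {F : Type*} [Field F] : HomOK F chevB2 2 (CoxeterMatrix.B 2) :=
  homOK_of chevB2 (by simp) 2 rfl Cfsg.Agent.Lib.helper19_CoxB2.cartL (by decide +kernel) _
    Cfsg.Agent.Lib.helper19_CoxB2.hR Cfsg.Agent.Lib.helper19_CoxB2.inj2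

theorem homOK_D4 {F : Type*} [Field F] : HomOK F chevD4 4 Cfsg.Lie.coxeterD4 :=
  homOK_of chevD4 (by simp) 4 rfl Cfsg.Agent.Lib.helper19_CoxD4.cartL (by decide +kernel) _
    Cfsg.Agent.Lib.helper19_CoxD4.hR Cfsg.Agent.Lib.helper19_CoxD4.inj4

theorem homOK_F4 {F : Type*} [Field F] : HomOK F chevF4 4 CoxeterMatrix.F₄ :=
  homOK_of chevF4 (by simp) 4 rfl Cfsg.Agent.Lib.helper19_CoxF4.cartL (by decide +kernel) _
    Cfsg.Agent.Lib.helper19_CoxF4.hR Cfsg.Agent.Lib.helper19_CoxF4.inj4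

theorem homOK_E6 {F : Type*} [Field F] : HomOK F chevE6 6 CoxeterMatrix.E₆ :=
  homOK_of chevE6 (by simp) 6 rfl Cfsg.Agent.Lib.helper19_CoxE6.cartL (by decide +kernel) _
    Cfsg.Agent.Lib.helper19_CoxE6.hR Cfsg.Agent.Lib.helper19_CoxE6.inj6

theorem homOK_E7 {F : Type*} [Field F] : HomOK F chevE7 7 CoxeterMatrix.E₇ :=
  homOK_of chevE7 (by simp) 7 rfl Cfsg.Agent.Lib.helper19_CoxE7.cartL (by decide +kernel) _
    Cfsg.Agent.Lib.helper19_CoxE7.hR Cfsg.Agent.Lib.helper19_CoxE7.inj7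

theorem homOK_E8 {F : Type*} [Field F] : HomOK F chevE8 8 CoxeterMatrix.E₈ :=
  homOK_of chevE8 (by simp) 8 rfl Cfsg.Agent.Lib.helper19_CoxE8.cartL (by decide +kernel) _
    Cfsg.Agent.Lib.helper19_CoxE8.hR Cfsg.Agent.Lib.helper19_CoxE8.inj8

end Cfsg.Agent.Lib.Helper18_ChevCoxAll
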