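import Cfsg.Agent.Lib.Helper18_ChevSimple2
import Cfsg.Agent.Lib.Helper18_ChevCertB2_0

set_option autoImplicit false

/-! The second certificate for the fundamental root number 0 of type B2 (kernel computation). -/

namespace Cfsg.Agent.Lib.Helper18_ChevHCertB2_0

open Cfsg Cfsg.Lie Cfsg.Agent.Lib.Helper18_ChevFast Cfsg.Agent.Lib.Helper18_ChevEngine
  Cfsg.Agent.Lib.Helper18_ChevR1 Cfsg.Agent.Lib.Helper18_ChevN Cfsg.Agent.Lib.Helper18_ChevR4
  Cfsg.Agent.Lib.Helper18_ChevSimple Cfsg.Agent.Lib.Helper18_ChevChunk Cfsg.Agent.Lib.Helper18_ChevDiag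
  Cfsg.Agent.Lib.Helper18_ChevH Cfsg.Agent.Lib.Helper18_ChevSimple2
  Cfsg.Agent.Lib.Helper18_ChevCertB2_0

set_option maxHeartbeats 0 in
theorem r1p_c0 : allRange (r1F chevB2.rank chevB2.nroots (rowAt (mkRows chevB2) (chevB2.simple 0))) (0 * 16) 16 = true := by decide +kernel

theorem r1p : ∀ r < 16, r1F chevB2.rank chevB2.nroots (rowAt (mkRows chevB2) (chevB2.simple 0)) r = true := by
  intro r hr
  refine all_of_chunks _ 16 1 ?_ r (by omega)
  intro k hk
  interval_cases k
  · exact r1p_c0

set_option maxHeartbeats 0 in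
theorem r1n_c0 : allRange (r1F chevB2.rank chevB2.nroots (rowAt (mkRows chevB2) (chevB2.neg (chevB2.simple 0)))) (0 * 16) 16 = true := by decide +kernel

theorem r1n : ∀ r < 16, r1F chevB2.rank chevB2.nroots (rowAt (mkRows chevB2) (chevB2.neg (chevB2.simple 0))) r = true := by
  intro r hr
  refine all_of_chunks _ 16 1 ?_ r (by omega)
  intro k hk
  interval_cases k
  · exact r1n_c0

set_option maxHeartbeats 0 in
theorem ch_c0 : allRange (chF chevB2.rank chevB2.nroots (rowAt (mkRows chevB2) (chevB2.simple 0)) (rowAt (mkRows chevB2) (chevB2.neg (chevB2.simple 0))) (chevB2.cartanSR.getD 0 #[]).toList) (0 * 16) 16 = true := by decide +kernel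

theorem ch : ∀ r < 16, chF chevB2.rank chevB2.nroots (rowAt (mkRows chevB2) (chevB2.simple 0)) (rowAt (mkRows chevB2) (chevB2.neg (chevB2.simple 0))) (chevB2.cartanSR.getD 0 #[]).toList r = true := by
  intro r hr
  refine all_of_chunks _ 16 1 ?_ r (by omega)
  intro k hk
  interval_cases k
  · exact ch_c0

set_option maxHeartbeats 0 in
theorem hcert : HCert chevB2 0 N where
  r1p := r1p
  r1n := r1n
  ch := ch
  invol := by decide +kernel
  eta_p := by decide +kernel
  eta_np := by decide +kernel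
  eta_refl := by decide +kernel
  eta_neg := by decide +kernel

end Cfsg.Agent.Lib.Helper18_ChevHCertB2_0
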