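import Cfsg.Agent.Lib.Helper18_ChevWeyl
import Cfsg.Agent.Lib.Helper18_ChevRowsE6
import Cfsg.Agent.Lib.Helper18_ChevCertE6_0
import Cfsg.Agent.Lib.Helper18_ChevHCertE6_0
import Cfsg.Agent.Lib.Helper18_ChevCertE6_1
import Cfsg.Agent.Lib.Helper18_ChevHCertE6_1
import Cfsg.Agent.Lib.Helper18_ChevCertE6_2
import Cfsg.Agent.Lib.Helper18_ChevHCertE6_2
import Cfsg.Agent.Lib.Helper18_ChevCertE6_3
import Cfsg.Agent.Lib.Helper18_ChevHCertE6_3
import Cfsg.Agent.Lib.Helper18_ChevCertE6_4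
import Cfsg.Agent.Lib.Helper18_ChevHCertE6_4
import Cfsg.Agent.Lib.Helper18_ChevCertE6_5
import Cfsg.Agent.Lib.Helper18_ChevHCertE6_5

set_option autoImplicit false

/-! The certificate of the datum of type E6. -/

namespace Cfsg.Agent.Lib.Helper18_ChevDatumE6

open Cfsg Cfsg.Lie Cfsg.Agent.Lib.Helper18_ChevFast Cfsg.Agent.Lib.Helper18_ChevEngine
  Cfsg.Agent.Lib.Helper18_ChevR1 Cfsg.Agent.Lib.Helper18_ChevN Cfsg.Agent.Lib.Helper18_ChevR4
  Cfsg.Agent.Lib.Helper18_ChevSimple Cfsg.Agent.Lib.Helper18_ChevChunk Cfsg.Agent.Lib.Helper18_ChevDiag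
  Cfsg.Agent.Lib.Helper18_ChevH Cfsg.Agent.Lib.Helper18_ChevSimple2 Cfsg.Agent.Lib.Helper18_ChevFacts
  Cfsg.Agent.Lib.Helper18_ChevWeyl

def Ns : List NData := [Cfsg.Agent.Lib.Helper18_ChevCertE6_0.N, Cfsg.Agent.Lib.Helper18_ChevCertE6_1.N, Cfsg.Agent.Lib.Helper18_ChevCertE6_2.N, Cfsg.Agent.Lib.Helper18_ChevCertE6_3.N, Cfsg.Agent.Lib.Helper18_ChevCertE6_4.N, Cfsg.Agent.Lib.Helper18_ChevCertE6_5.N]

set_option maxHeartbeats 0 in
theorem dcert : DCert chevE6 Ns where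
  rows := Cfsg.Agent.Lib.Helper18_ChevRowsE6.rowsOK
  ncert := by
    intro i hi
    have hr : chevE6.rank = 6 := rfl
    rw [hr] at hi
    interval_cases i
    · exact Cfsg.Agent.Lib.Helper18_ChevCertE6_0.cert
    · exact Cfsg.Agent.Lib.Helper18_ChevCertE6_1.cert
    · exact Cfsg.Agent.Lib.Helper18_ChevCertE6_2.cert
    · exact Cfsg.Agent.Lib.Helper18_ChevCertE6_3.cert
    · exact Cfsg.Agent.Lib.Helper18_ChevCertE6_4.cert
    · exact Cfsg.Agent.Lib.Helper18_ChevCertE6_5.cert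
  hcert := by
    intro i hi
    have hr : chevE6.rank = 6 := rfl
    rw [hr] at hi
    interval_cases i
    · exact Cfsg.Agent.Lib.Helper18_ChevHCertE6_0.hcert
    · exact Cfsg.Agent.Lib.Helper18_ChevHCertE6_1.hcert
    · exact Cfsg.Agent.Lib.Helper18_ChevHCertE6_2.hcert
    · exact Cfsg.Agent.Lib.Helper18_ChevHCertE6_3.hcert
    · exact Cfsg.Agent.Lib.Helper18_ChevHCertE6_4.hcert
    · exact Cfsg.Agent.Lib.Helper18_ChevHCertE6_5.hcert
  reach := by decide +kernel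

end Cfsg.Agent.Lib.Helper18_ChevDatumE6
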