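import Cfsg.Agent.Lib.Helper18_ChevWeyl
import Cfsg.Agent.Lib.Helper18_ChevRowsE7
import Cfsg.Agent.Lib.Helper18_ChevCertE7_0
import Cfsg.Agent.Lib.Helper18_ChevHCertE7_0
import Cfsg.Agent.Lib.Helper18_ChevCertE7_1
import Cfsg.Agent.Lib.Helper18_ChevHCertE7_1
import Cfsg.Agent.Lib.Helper18_ChevCertE7_2
import Cfsg.Agent.Lib.Helper18_ChevHCertE7_2
import Cfsg.Agent.Lib.Helper18_ChevCertE7_3
import Cfsg.Agent.Lib.Helper18_ChevHCertE7_3
import Cfsg.Agent.Lib.Helper18_ChevCertE7_4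
import Cfsg.Agent.Lib.Helper18_ChevHCertE7_4
import Cfsg.Agent.Lib.Helper18_ChevCertE7_5
import Cfsg.Agent.Lib.Helper18_ChevHCertE7_5
import Cfsg.Agent.Lib.Helper18_ChevCertE7_6
import Cfsg.Agent.Lib.Helper18_ChevHCertE7_6

set_option autoImplicit false

/-! The certificate of the datum of type E7. -/

namespace Cfsg.Agent.Lib.Helper18_ChevDatumE7

open Cfsg Cfsg.Lie Cfsg.Agent.Lib.Helper18_ChevFast Cfsg.Agent.Lib.Helper18_ChevEngine
  Cfsg.Agent.Lib.Helper18_ChevR1 Cfsg.Agent.Lib.Helper18_ChevN Cfsg.Agent.Lib.Helper18_ChevR4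
  Cfsg.Agent.Lib.Helper18_ChevSimple Cfsg.Agent.Lib.Helper18_ChevChunk Cfsg.Agent.Lib.Helper18_ChevDiag
  Cfsg.Agent.Lib.Helper18_ChevH Cfsg.Agent.Lib.Helper18_ChevSimple2 Cfsg.Agent.Lib.Helper18_ChevFacts
  Cfsg.Agent.Lib.Helper18_ChevWeyl

def Ns : List NData := [Cfsg.Agent.Lib.Helper18_ChevCertE7_0.N, Cfsg.Agent.Lib.Helper18_ChevCertE7_1.N, Cfsg.Agent.Lib.Helper18_ChevCertE7_2.N, Cfsg.Agent.Lib.Helper18_ChevCertE7_3.N, Cfsg.Agent.Lib.Helper18_ChevCertE7_4.N, Cfsg.Agent.Lib.Helper18_ChevCertE7_5.N, Cfsg.Agent.Lib.Helper18_ChevCertE7_6.N]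

set_option maxHeartbeats 0 in
theorem dcert : DCert chevE7 Ns where
  rows := Cfsg.Agent.Lib.Helper18_ChevRowsE7.rowsOK
  ncert := by
    intro i hi
    have hr : chevE7.rank = 7 := rfl
    rw [hr] at hi
    interval_cases i
    · exact Cfsg.Agent.Lib.Helper18_ChevCertE7_0.cert
    · exact Cfsg.Agent.Lib.Helper18_ChevCertE7_1.cert
    · exact Cfsg.Agent.Lib.Helper18_ChevCertE7_2.cert
    · exact Cfsg.Agent.Lib.Helper18_ChevCertE7_3.cert
    · exact Cfsg.Agent.Lib.Helper18_ChevCertE7_4.cert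
    · exact Cfsg.Agent.Lib.Helper18_ChevCertE7_5.cert
    · exact Cfsg.Agent.Lib.Helper18_ChevCertE7_6.cert
  hcert := by
    intro i hi
    have hr : chevE7.rank = 7 := rfl
    rw [hr] at hi
    interval_cases i
    · exact Cfsg.Agent.Lib.Helper18_ChevHCertE7_0.hcert
    · exact Cfsg.Agent.Lib.Helper18_ChevHCertE7_1.hcert
    · exact Cfsg.Agent.Lib.Helper18_ChevHCertE7_2.hcert
    · exact Cfsg.Agent.Lib.Helper18_ChevHCertE7_3.hcert
    · exact Cfsg.Agent.Lib.Helper18_ChevHCertE7_4.hcert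
    · exact Cfsg.Agent.Lib.Helper18_ChevHCertE7_5.hcert
    · exact Cfsg.Agent.Lib.Helper18_ChevHCertE7_6.hcert
  reach := by decide +kernel

end Cfsg.Agent.Lib.Helper18_ChevDatumE7
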