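import Cfsg.Agent.Lib.Helper18_ChevSimple2
import Cfsg.Agent.Lib.Helper18_ChevCertE8_3

set_option autoImplicit false

/-! The second certificate for the fundamental root number 3 of type E8 (kernel computation). -/

namespace Cfsg.Agent.Lib.Helper18_ChevHCertE8_3

open Cfsg Cfsg.Lie Cfsg.Agent.Lib.Helper18_ChevFast Cfsg.Agent.Lib.Helper18_ChevEngine
  Cfsg.Agent.Lib.Helper18_ChevR1 Cfsg.Agent.Lib.Helper18_ChevN Cfsg.Agent.Lib.Helper18_ChevR4
  Cfsg.Agent.Lib.Helper18_ChevSimple Cfsg.Agent.Lib.Helper18_ChevChunk Cfsg.Agent.Lib.Helper18_ChevDiag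
  Cfsg.Agent.Lib.Helper18_ChevH Cfsg.Agent.Lib.Helper18_ChevSimple2
  Cfsg.Agent.Lib.Helper18_ChevCertE8_3

set_option maxHeartbeats 0 in
theorem r1p_c0 : allRange (r1F chevE8.rank chevE8.nroots (rowAt (mkRows chevE8) (chevE8.simple 3))) (0 * 60) 60 = true := by decide +kernel

set_option maxHeartbeats 0 in
theorem r1p_c1 : allRange (r1F chevE8.rank chevE8.nroots (rowAt (mkRows chevE8) (chevE8.simple 3))) (1 * 60) 60 = true := by decide +kernel

set_option maxHeartbeats 0 in
theorem r1p_c2 : allRange (r1F chevE8.rank chevE8.nroots (rowAt (mkRows chevE8) (chevE8.simple 3))) (2 * 60) 60 = true := by decide +kernel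

set_option maxHeartbeats 0 in
theorem r1p_c3 : allRange (r1F chevE8.rank chevE8.nroots (rowAt (mkRows chevE8) (chevE8.simple 3))) (3 * 60) 60 = true := by decide +kernel

set_option maxHeartbeats 0 in
theorem r1p_c4 : allRange (r1F chevE8.rank chevE8.nroots (rowAt (mkRows chevE8) (chevE8.simple 3))) (4 * 60) 60 = true := by decide +kernel

set_option maxHeartbeats 0 in
theorem r1p_c5 : allRange (r1F chevE8.rank chevE8.nroots (rowAt (mkRows chevE8) (chevE8.simple 3))) (5 * 60) 60 = true := by decide +kernel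

set_option maxHeartbeats 0 in
theorem r1p_c6 : allRange (r1F chevE8.rank chevE8.nroots (rowAt (mkRows chevE8) (chevE8.simple 3))) (6 * 60) 60 = true := by decide +kernel

set_option maxHeartbeats 0 in
theorem r1p_c7 : allRange (r1F chevE8.rank chevE8.nroots (rowAt (mkRows chevE8) (chevE8.simple 3))) (7 * 60) 60 = true := by decide +kernel

theorem r1p : ∀ r < 480, r1F chevE8.rank chevE8.nroots (rowAt (mkRows chevE8) (chevE8.simple 3)) r = true := by
  intro r hr
  refine all_of_chunks _ 60 8 ?_ r (by omega)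
  intro k hk
  interval_cases k
  · exact r1p_c0
  · exact r1p_c1
  · exact r1p_c2
  · exact r1p_c3
  · exact r1p_c4
  · exact r1p_c5
  · exact r1p_c6
  · exact r1p_c7

set_option maxHeartbeats 0 in
theorem r1n_c0 : allRange (r1F chevE8.rank chevE8.nroots (rowAt (mkRows chevE8) (chevE8.neg (chevE8.simple 3)))) (0 * 60) 60 = true := by decide +kernel

set_option maxHeartbeats 0 in
theorem r1n_c1 : allRange (r1F chevE8.rank chevE8.nroots (rowAt (mkRows chevE8) (chevE8.neg (chevE8.simple 3)))) (1 * 60) 60 = true := by decide +kernel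

set_option maxHeartbeats 0 in
theorem r1n_c2 : allRange (r1F chevE8.rank chevE8.nroots (rowAt (mkRows chevE8) (chevE8.neg (chevE8.simple 3)))) (2 * 60) 60 = true := by decide +kernel

set_option maxHeartbeats 0 in
theorem r1n_c3 : allRange (r1F chevE8.rank chevE8.nroots (rowAt (mkRows chevE8) (chevE8.neg (chevE8.simple 3)))) (3 * 60) 60 = true := by decide +kernel

set_option maxHeartbeats 0 in
theorem r1n_c4 : allRange (r1F chevE8.rank chevE8.nroots (rowAt (mkRows chevE8) (chevE8.neg (chevE8.simple 3)))) (4 * 60) 60 = true := by decide +kernel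

set_option maxHeartbeats 0 in
theorem r1n_c5 : allRange (r1F chevE8.rank chevE8.nroots (rowAt (mkRows chevE8) (chevE8.neg (chevE8.simple 3)))) (5 * 60) 60 = true := by decide +kernel

set_option maxHeartbeats 0 in
theorem r1n_c6 : allRange (r1F chevE8.rank chevE8.nroots (rowAt (mkRows chevE8) (chevE8.neg (chevE8.simple 3)))) (6 * 60) 60 = true := by decide +kernel

set_option maxHeartbeats 0 in
theorem r1n_c7 : allRange (r1F chevE8.rank chevE8.nroots (rowAt (mkRows chevE8) (chevE8.neg (chevE8.simple 3)))) (7 * 60) 60 = true := by decide +kernel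

theorem r1n : ∀ r < 480, r1F chevE8.rank chevE8.nroots (rowAt (mkRows chevE8) (chevE8.neg (chevE8.simple 3))) r = true := by
  intro r hr
  refine all_of_chunks _ 60 8 ?_ r (by omega)
  intro k hk
  interval_cases k
  · exact r1n_c0
  · exact r1n_c1
  · exact r1n_c2
  · exact r1n_c3
  · exact r1n_c4
  · exact r1n_c5
  · exact r1n_c6
  · exact r1n_c7

set_option maxHeartbeats 0 in
theorem ch_c0 : allRange (chF chevE8.rank chevE8.nroots (rowAt (mkRows chevE8) (chevE8.simple 3)) (rowAt (mkRows chevE8) (chevE8.neg (chevE8.simple 3))) (chevE8.cartanSR.getD 3 #[]).toList) (0 * 30) 30 = true := by decide +kernel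

set_option maxHeartbeats 0 in
theorem ch_c1 : allRange (chF chevE8.rank chevE8.nroots (rowAt (mkRows chevE8) (chevE8.simple 3)) (rowAt (mkRows chevE8) (chevE8.neg (chevE8.simple 3))) (chevE8.cartanSR.getD 3 #[]).toList) (1 * 30) 30 = true := by decide +kernel

set_option maxHeartbeats 0 in
theorem ch_c2 : allRange (chF chevE8.rank chevE8.nroots (rowAt (mkRows chevE8) (chevE8.simple 3)) (rowAt (mkRows chevE8) (chevE8.neg (chevE8.simple 3))) (chevE8.cartanSR.getD 3 #[]).toList) (2 * 30) 30 = true := by decide +kernel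

set_option maxHeartbeats 0 in
theorem ch_c3 : allRange (chF chevE8.rank chevE8.nroots (rowAt (mkRows chevE8) (chevE8.simple 3)) (rowAt (mkRows chevE8) (chevE8.neg (chevE8.simple 3))) (chevE8.cartanSR.getD 3 #[]).toList) (3 * 30) 30 = true := by decide +kernel

set_option maxHeartbeats 0 in
theorem ch_c4 : allRange (chF chevE8.rank chevE8.nroots (rowAt (mkRows chevE8) (chevE8.simple 3)) (rowAt (mkRows chevE8) (chevE8.neg (chevE8.simple 3))) (chevE8.cartanSR.getD 3 #[]).toList) (4 * 30) 30 = true := by decide +kernel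

set_option maxHeartbeats 0 in
theorem ch_c5 : allRange (chF chevE8.rank chevE8.nroots (rowAt (mkRows chevE8) (chevE8.simple 3)) (rowAt (mkRows chevE8) (chevE8.neg (chevE8.simple 3))) (chevE8.cartanSR.getD 3 #[]).toList) (5 * 30) 30 = true := by decide +kernel

set_option maxHeartbeats 0 in
theorem ch_c6 : allRange (chF chevE8.rank chevE8.nroots (rowAt (mkRows chevE8) (chevE8.simple 3)) (rowAt (mkRows chevE8) (chevE8.neg (chevE8.simple 3))) (chevE8.cartanSR.getD 3 #[]).toList) (6 * 30) 30 = true := by decide +kernel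

set_option maxHeartbeats 0 in
theorem ch_c7 : allRange (chF chevE8.rank chevE8.nroots (rowAt (mkRows chevE8) (chevE8.simple 3)) (rowAt (mkRows chevE8) (chevE8.neg (chevE8.simple 3))) (chevE8.cartanSR.getD 3 #[]).toList) (7 * 30) 30 = true := by decide +kernel

set_option maxHeartbeats 0 in
theorem ch_c8 : allRange (chF chevE8.rank chevE8.nroots (rowAt (mkRows chevE8) (chevE8.simple 3)) (rowAt (mkRows chevE8) (chevE8.neg (chevE8.simple 3))) (chevE8.cartanSR.getD 3 #[]).toList) (8 * 30) 30 = true := by decide +kernel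

set_option maxHeartbeats 0 in
theorem ch_c9 : allRange (chF chevE8.rank chevE8.nroots (rowAt (mkRows chevE8) (chevE8.simple 3)) (rowAt (mkRows chevE8) (chevE8.neg (chevE8.simple 3))) (chevE8.cartanSR.getD 3 #[]).toList) (9 * 30) 30 = true := by decide +kernel

set_option maxHeartbeats 0 in
theorem ch_c10 : allRange (chF chevE8.rank chevE8.nroots (rowAt (mkRows chevE8) (chevE8.simple 3)) (rowAt (mkRows chevE8) (chevE8.neg (chevE8.simple 3))) (chevE8.cartanSR.getD 3 #[]).toList) (10 * 30) 30 = true := by decide +kernel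

set_option maxHeartbeats 0 in
theorem ch_c11 : allRange (chF chevE8.rank chevE8.nroots (rowAt (mkRows chevE8) (chevE8.simple 3)) (rowAt (mkRows chevE8) (chevE8.neg (chevE8.simple 3))) (chevE8.cartanSR.getD 3 #[]).toList) (11 * 30) 30 = true := by decide +kernel

set_option maxHeartbeats 0 in
theorem ch_c12 : allRange (chF chevE8.rank chevE8.nroots (rowAt (mkRows chevE8) (chevE8.simple 3)) (rowAt (mkRows chevE8) (chevE8.neg (chevE8.simple 3))) (chevE8.cartanSR.getD 3 #[]).toList) (12 * 30) 30 = true := by decide +kernel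

set_option maxHeartbeats 0 in
theorem ch_c13 : allRange (chF chevE8.rank chevE8.nroots (rowAt (mkRows chevE8) (chevE8.simple 3)) (rowAt (mkRows chevE8) (chevE8.neg (chevE8.simple 3))) (chevE8.cartanSR.getD 3 #[]).toList) (13 * 30) 30 = true := by decide +kernel

set_option maxHeartbeats 0 in
theorem ch_c14 : allRange (chF chevE8.rank chevE8.nroots (rowAt (mkRows chevE8) (chevE8.simple 3)) (rowAt (mkRows chevE8) (chevE8.neg (chevE8.simple 3))) (chevE8.cartanSR.getD 3 #[]).toList) (14 * 30) 30 = true := by decide +kernel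

set_option maxHeartbeats 0 in
theorem ch_c15 : allRange (chF chevE8.rank chevE8.nroots (rowAt (mkRows chevE8) (chevE8.simple 3)) (rowAt (mkRows chevE8) (chevE8.neg (chevE8.simple 3))) (chevE8.cartanSR.getD 3 #[]).toList) (15 * 30) 30 = true := by decide +kernel

theorem ch : ∀ r < 480, chF chevE8.rank chevE8.nroots (rowAt (mkRows chevE8) (chevE8.simple 3)) (rowAt (mkRows chevE8) (chevE8.neg (chevE8.simple 3))) (chevE8.cartanSR.getD 3 #[]).toList r = true := by
  intro r hr
  refine all_of_chunks _ 30 16 ?_ r (by omega)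
  intro k hk
  interval_cases k
  · exact ch_c0
  · exact ch_c1
  · exact ch_c2
  · exact ch_c3
  · exact ch_c4
  · exact ch_c5
  · exact ch_c6
  · exact ch_c7
  · exact ch_c8
  · exact ch_c9
  · exact ch_c10
  · exact ch_c11
  · exact ch_c12
  · exact ch_c13
  · exact ch_c14
  · exact ch_c15

set_option maxHeartbeats 0 in
theorem hcert : HCert chevE8 3 N where
  r1p := r1p
  r1n := r1n
  ch := ch
  invol := by decide +kernel
  eta_p := by decide +kernel
  eta_np := by decide +kernel
  eta_refl := by decide +kernel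
  eta_neg := by decide +kernel

end Cfsg.Agent.Lib.Helper18_ChevHCertE8_3
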