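import Cfsg.Agent.Lib.Helper18_ChevWeyl
import Cfsg.Agent.Lib.Helper18_ChevRowsE8
import Cfsg.Agent.Lib.Helper18_ChevCertE8_0
import Cfsg.Agent.Lib.Helper18_ChevHCertE8_0
import Cfsg.Agent.Lib.Helper18_ChevCertE8_1
import Cfsg.Agent.Lib.Helper18_ChevHCertE8_1
import Cfsg.Agent.Lib.Helper18_ChevCertE8_2
import Cfsg.Agent.Lib.Helper18_ChevHCertE8_2
import Cfsg.Agent.Lib.Helper18_ChevCertE8_3
import Cfsg.Agent.Lib.Helper18_ChevHCertE8_3
import Cfsg.Agent.Lib.Helper18_ChevCertE8_4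
import Cfsg.Agent.Lib.Helper18_ChevHCertE8_4
import Cfsg.Agent.Lib.Helper18_ChevCertE8_5
import Cfsg.Agent.Lib.Helper18_ChevHCertE8_5
import Cfsg.Agent.Lib.Helper18_ChevCertE8_6
import Cfsg.Agent.Lib.Helper18_ChevHCertE8_6
import Cfsg.Agent.Lib.Helper18_ChevCertE8_7
import Cfsg.Agent.Lib.Helper18_ChevHCertE8_7

set_option autoImplicit false

/-! The certificate of the datum of type E8. -/

namespace Cfsg.Agent.Lib.Helper18_ChevDatumE8

open Cfsg Cfsg.Lie Cfsg.Agent.Lib.Helper18_ChevFast Cfsg.Agent.Lib.Helper18_ChevEngine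
  Cfsg.Agent.Lib.Helper18_ChevR1 Cfsg.Agent.Lib.Helper18_ChevN Cfsg.Agent.Lib.Helper18_ChevR4
  Cfsg.Agent.Lib.Helper18_ChevSimple Cfsg.Agent.Lib.Helper18_ChevChunk Cfsg.Agent.Lib.Helper18_ChevDiag
  Cfsg.Agent.Lib.Helper18_ChevH Cfsg.Agent.Lib.Helper18_ChevSimple2 Cfsg.Agent.Lib.Helper18_ChevFacts
  Cfsg.Agent.Lib.Helper18_ChevWeyl

def Ns : List NData := [Cfsg.Agent.Lib.Helper18_ChevCertE8_0.N, Cfsg.Agent.Lib.Helper18_ChevCertE8_1.N, Cfsg.Agent.Lib.Helper18_ChevCertE8_2.N, Cfsg.Agent.Lib.Helper18_ChevCertE8_3.N, Cfsg.Agent.Lib.Helper18_ChevCertE8_4.N, Cfsg.Agent.Lib.Helper18_ChevCertE8_5.N, Cfsg.Agent.Lib.Helper18_ChevCertE8_6.N, Cfsg.Agent.Lib.Helper18_ChevCertE8_7.N]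

set_option maxHeartbeats 0 in
theorem dcert : DCert chevE8 Ns where
  rows := Cfsg.Agent.Lib.Helper18_ChevRowsE8.rowsOK
  ncert := by
    intro i hi
    have hr : chevE8.rank = 8 := rfl
    rw [hr] at hi
    interval_cases i
    · exact Cfsg.Agent.Lib.Helper18_ChevCertE8_0.cert
    · exact Cfsg.Agent.Lib.Helper18_ChevCertE8_1.cert
    · exact Cfsg.Agent.Lib.Helper18_ChevCertE8_2.cert
    · exact Cfsg.Agent.Lib.Helper18_ChevCertE8_3.cert
    · exact Cfsg.Agent.Lib.Helper18_ChevCertE8_4.cert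
    · exact Cfsg.Agent.Lib.Helper18_ChevCertE8_5.cert
    · exact Cfsg.Agent.Lib.Helper18_ChevCertE8_6.cert
    · exact Cfsg.Agent.Lib.Helper18_ChevCertE8_7.cert
  hcert := by
    intro i hi
    have hr : chevE8.rank = 8 := rfl
    rw [hr] at hi
    interval_cases i
    · exact Cfsg.Agent.Lib.Helper18_ChevHCertE8_0.hcert
    · exact Cfsg.Agent.Lib.Helper18_ChevHCertE8_1.hcert
    · exact Cfsg.Agent.Lib.Helper18_ChevHCertE8_2.hcert
    · exact Cfsg.Agent.Lib.Helper18_ChevHCertE8_3.hcert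
    · exact Cfsg.Agent.Lib.Helper18_ChevHCertE8_4.hcert
    · exact Cfsg.Agent.Lib.Helper18_ChevHCertE8_5.hcert
    · exact Cfsg.Agent.Lib.Helper18_ChevHCertE8_6.hcert
    · exact Cfsg.Agent.Lib.Helper18_ChevHCertE8_7.hcert
  reach := by decide +kernel

end Cfsg.Agent.Lib.Helper18_ChevDatumE8
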