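import Cfsg.Agent.Lib.Helper18_ChevDatumG2
import Cfsg.Agent.Lib.Helper18_ChevDatumB2
import Cfsg.Agent.Lib.Helper18_ChevDatumD4
import Cfsg.Agent.Lib.Helper18_ChevDatumF4
import Cfsg.Agent.Lib.Helper18_ChevDatumE6
import Cfsg.Agent.Lib.Helper18_ChevDatumE7
import Cfsg.Agent.Lib.Helper18_ChevDatumE8

set_option autoImplicit false

/-! The certificates of the seven tabulated data. -/

namespace Cfsg.Agent.Lib.Helper18_ChevData

open Cfsg Cfsg.Lie Cfsg.Agent.Lib.Helper18_ChevFast Cfsg.Agent.Lib.Helper18_ChevEngine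
  Cfsg.Agent.Lib.Helper18_ChevR1 Cfsg.Agent.Lib.Helper18_ChevN Cfsg.Agent.Lib.Helper18_ChevR4
  Cfsg.Agent.Lib.Helper18_ChevSimple Cfsg.Agent.Lib.Helper18_ChevChunk Cfsg.Agent.Lib.Helper18_ChevDiag
  Cfsg.Agent.Lib.Helper18_ChevH Cfsg.Agent.Lib.Helper18_ChevSimple2 Cfsg.Agent.Lib.Helper18_ChevFacts
  Cfsg.Agent.Lib.Helper18_ChevWeyl

theorem exists_dcert (D : ChevalleyDatum)
    (hD : D ∈ [chevG2, chevB2, chevD4, chevF4, chevE6, chevE7, chevE8]) : ∃ Ns : List NData, DCert D Ns := by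
  simp only [List.mem_cons, List.not_mem_nil, or_false] at hD
  rcases hD with rfl | rfl | rfl | rfl | rfl | rfl | rfl
  · exact ⟨_, Cfsg.Agent.Lib.Helper18_ChevDatumG2.dcert⟩
  · exact ⟨_, Cfsg.Agent.Lib.Helper18_ChevDatumB2.dcert⟩
  · exact ⟨_, Cfsg.Agent.Lib.Helper18_ChevDatumD4.dcert⟩
  · exact ⟨_, Cfsg.Agent.Lib.Helper18_ChevDatumF4.dcert⟩
  · exact ⟨_, Cfsg.Agent.Lib.Helper18_ChevDatumE6.dcert⟩
  · exact ⟨_, Cfsg.Agent.Lib.Helper18_ChevDatumE7.dcert⟩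
  · exact ⟨_, Cfsg.Agent.Lib.Helper18_ChevDatumE8.dcert⟩

end Cfsg.Agent.Lib.Helper18_ChevData
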