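import Cfsg.Agent.Lib.Helper18_ChevTorus
import Cfsg.Prelude.Def_ChevB2

set_option autoImplicit false

/-! The torus certificate of the datum of type B2 (kernel computation). -/

namespace Cfsg.Agent.Lib.Helper18_ChevTCertB2

open Cfsg Cfsg.Lie Cfsg.Agent.Lib.Helper18_ChevFast Cfsg.Agent.Lib.Helper18_ChevEngine
  Cfsg.Agent.Lib.Helper18_ChevR1 Cfsg.Agent.Lib.Helper18_ChevN Cfsg.Agent.Lib.Helper18_ChevR4
  Cfsg.Agent.Lib.Helper18_ChevSimple Cfsg.Agent.Lib.Helper18_ChevChunk Cfsg.Agent.Lib.Helper18_ChevDiag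
  Cfsg.Agent.Lib.Helper18_ChevH Cfsg.Agent.Lib.Helper18_ChevSimple2 Cfsg.Agent.Lib.Helper18_ChevFacts
  Cfsg.Agent.Lib.Helper18_ChevWeyl Cfsg.Agent.Lib.Helper18_ChevCar
  Cfsg.Agent.Lib.Helper18_ChevTorus

set_option maxHeartbeats 0 in
theorem carAt_c0 : allRange (carCompatAt chevB2.nroots (mkRows chevB2)) (0 * 8) 8 = true := by decide +kernel

theorem carAt : ∀ r < 8, carCompatAt chevB2.nroots (mkRows chevB2) r = true := by
  intro r hr
  refine all_of_chunks _ 8 1 ?_ r (by omega)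
  intro k hk
  interval_cases k
  · exact carAt_c0

set_option maxHeartbeats 0 in
theorem tcert : TCert chevB2 where
  simple_cor := by decide +kernel
  simple_pos := by decide +kernel
  carAt := carAt

end Cfsg.Agent.Lib.Helper18_ChevTCertB2
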