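import Cfsg.Agent.Lib.Helper18_ChevTorus
import Cfsg.Prelude.Def_ChevE8

set_option autoImplicit false

/-! The torus certificate of the datum of type E8 (kernel computation). -/

namespace Cfsg.Agent.Lib.Helper18_ChevTCertE8

open Cfsg Cfsg.Lie Cfsg.Agent.Lib.Helper18_ChevFast Cfsg.Agent.Lib.Helper18_ChevEngine
  Cfsg.Agent.Lib.Helper18_ChevR1 Cfsg.Agent.Lib.Helper18_ChevN Cfsg.Agent.Lib.Helper18_ChevR4
  Cfsg.Agent.Lib.Helper18_ChevSimple Cfsg.Agent.Lib.Helper18_ChevChunk Cfsg.Agent.Lib.Helper18_ChevDiag
  Cfsg.Agent.Lib.Helper18_ChevH Cfsg.Agent.Lib.Helper18_ChevSimple2 Cfsg.Agent.Lib.Helper18_ChevFacts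
  Cfsg.Agent.Lib.Helper18_ChevWeyl Cfsg.Agent.Lib.Helper18_ChevCar
  Cfsg.Agent.Lib.Helper18_ChevTorus

set_option maxHeartbeats 0 in
theorem carAt_c0 : allRange (carCompatAt chevE8.nroots (mkRows chevE8)) (0 * 15) 15 = true := by decide +kernel

set_option maxHeartbeats 0 in
theorem carAt_c1 : allRange (carCompatAt chevE8.nroots (mkRows chevE8)) (1 * 15) 15 = true := by decide +kernel

set_option maxHeartbeats 0 in
theorem carAt_c2 : allRange (carCompatAt chevE8.nroots (mkRows chevE8)) (2 * 15) 15 = true := by decide +kernel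

set_option maxHeartbeats 0 in
theorem carAt_c3 : allRange (carCompatAt chevE8.nroots (mkRows chevE8)) (3 * 15) 15 = true := by decide +kernel

set_option maxHeartbeats 0 in
theorem carAt_c4 : allRange (carCompatAt chevE8.nroots (mkRows chevE8)) (4 * 15) 15 = true := by decide +kernel

set_option maxHeartbeats 0 in
theorem carAt_c5 : allRange (carCompatAt chevE8.nroots (mkRows chevE8)) (5 * 15) 15 = true := by decide +kernel

set_option maxHeartbeats 0 in
theorem carAt_c6 : allRange (carCompatAt chevE8.nroots (mkRows chevE8)) (6 * 15) 15 = true := by decide +kernel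

set_option maxHeartbeats 0 in
theorem carAt_c7 : allRange (carCompatAt chevE8.nroots (mkRows chevE8)) (7 * 15) 15 = true := by decide +kernel

set_option maxHeartbeats 0 in
theorem carAt_c8 : allRange (carCompatAt chevE8.nroots (mkRows chevE8)) (8 * 15) 15 = true := by decide +kernel

set_option maxHeartbeats 0 in
theorem carAt_c9 : allRange (carCompatAt chevE8.nroots (mkRows chevE8)) (9 * 15) 15 = true := by decide +kernel

set_option maxHeartbeats 0 in
theorem carAt_c10 : allRange (carCompatAt chevE8.nroots (mkRows chevE8)) (10 * 15) 15 = true := by decide +kernel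

set_option maxHeartbeats 0 in
theorem carAt_c11 : allRange (carCompatAt chevE8.nroots (mkRows chevE8)) (11 * 15) 15 = true := by decide +kernel

set_option maxHeartbeats 0 in
theorem carAt_c12 : allRange (carCompatAt chevE8.nroots (mkRows chevE8)) (12 * 15) 15 = true := by decide +kernel

set_option maxHeartbeats 0 in
theorem carAt_c13 : allRange (carCompatAt chevE8.nroots (mkRows chevE8)) (13 * 15) 15 = true := by decide +kernel

set_option maxHeartbeats 0 in
theorem carAt_c14 : allRange (carCompatAt chevE8.nroots (mkRows chevE8)) (14 * 15) 15 = true := by decide +kernel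

set_option maxHeartbeats 0 in
theorem carAt_c15 : allRange (carCompatAt chevE8.nroots (mkRows chevE8)) (15 * 15) 15 = true := by decide +kernel

theorem carAt : ∀ r < 240, carCompatAt chevE8.nroots (mkRows chevE8) r = true := by
  intro r hr
  refine all_of_chunks _ 15 16 ?_ r (by omega)
  intro k hk
  interval_cases k
  · exact carAt_c0
  · exact carAt_c1
  · exact carAt_c2
  · exact carAt_c3
  · exact carAt_c4
  · exact carAt_c5
  · exact carAt_c6
  · exact carAt_c7
  · exact carAt_c8
  · exact carAt_c9
  · exact carAt_c10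
  · exact carAt_c11
  · exact carAt_c12
  · exact carAt_c13
  · exact carAt_c14
  · exact carAt_c15

set_option maxHeartbeats 0 in
theorem tcert : TCert chevE8 where
  simple_cor := by decide +kernel
  simple_pos := by decide +kernel
  carAt := carAt

end Cfsg.Agent.Lib.Helper18_ChevTCertE8
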