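import Cfsg.Agent.Lib.Helper18_ChevData
import Cfsg.Agent.Lib.Helper18_ChevTCertG2
import Cfsg.Agent.Lib.Helper18_ChevTCertB2
import Cfsg.Agent.Lib.Helper18_ChevTCertD4
import Cfsg.Agent.Lib.Helper18_ChevTCertF4
import Cfsg.Agent.Lib.Helper18_ChevTCertE6
import Cfsg.Agent.Lib.Helper18_ChevTCertE7
import Cfsg.Agent.Lib.Helper18_ChevTCertE8

set_option autoImplicit false

/-! The certificates of the seven tabulated data, with the torus certificates. -/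

namespace Cfsg.Agent.Lib.Helper18_ChevData2

open Cfsg Cfsg.Lie Cfsg.Agent.Lib.Helper18_ChevFast Cfsg.Agent.Lib.Helper18_ChevEngine
  Cfsg.Agent.Lib.Helper18_ChevR1 Cfsg.Agent.Lib.Helper18_ChevN Cfsg.Agent.Lib.Helper18_ChevR4
  Cfsg.Agent.Lib.Helper18_ChevSimple Cfsg.Agent.Lib.Helper18_ChevChunk Cfsg.Agent.Lib.Helper18_ChevDiag
  Cfsg.Agent.Lib.Helper18_ChevH Cfsg.Agent.Lib.Helper18_ChevSimple2 Cfsg.Agent.Lib.Helper18_ChevFacts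
  Cfsg.Agent.Lib.Helper18_ChevWeyl Cfsg.Agent.Lib.Helper18_ChevCar
  Cfsg.Agent.Lib.Helper18_ChevTorus

theorem exists_cert2 (D : ChevalleyDatum)
    (hD : D ∈ [chevG2, chevB2, chevD4, chevF4, chevE6, chevE7, chevE8]) :
    ∃ Ns : List NData, DCert D Ns ∧ TCert D := by
  simp only [List.mem_cons, List.not_mem_nil, or_false] at hD
  rcases hD with rfl | rfl | rfl | rfl | rfl | rfl | rfl
  · exact ⟨_, Cfsg.Agent.Lib.Helper18_ChevDatumG2.dcert, Cfsg.Agent.Lib.Helper18_ChevTCertG2.tcert⟩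
  · exact ⟨_, Cfsg.Agent.Lib.Helper18_ChevDatumB2.dcert, Cfsg.Agent.Lib.Helper18_ChevTCertB2.tcert⟩
  · exact ⟨_, Cfsg.Agent.Lib.Helper18_ChevDatumD4.dcert, Cfsg.Agent.Lib.Helper18_ChevTCertD4.tcert⟩
  · exact ⟨_, Cfsg.Agent.Lib.Helper18_ChevDatumF4.dcert, Cfsg.Agent.Lib.Helper18_ChevTCertF4.tcert⟩
  · exact ⟨_, Cfsg.Agent.Lib.Helper18_ChevDatumE6.dcert, Cfsg.Agent.Lib.Helper18_ChevTCertE6.tcert⟩
  · exact ⟨_, Cfsg.Agent.Lib.Helper18_ChevDatumE7.dcert, Cfsg.Agent.Lib.Helper18_ChevTCertE7.tcert⟩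
  · exact ⟨_, Cfsg.Agent.Lib.Helper18_ChevDatumE8.dcert, Cfsg.Agent.Lib.Helper18_ChevTCertE8.tcert⟩

end Cfsg.Agent.Lib.Helper18_ChevData2
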