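import Cfsg.Agent.Lib.Helper18_ChevPDataD4

set_option autoImplicit false

/-! The descent check for the pairs `(r, s)` of roots of type D4 with `0 ≤ r < 24` (kernel computation). -/

namespace Cfsg.Agent.Lib.Helper18_ChevPPairsD4_0

open Cfsg Cfsg.Lie Cfsg.Agent.Lib.Helper18_ChevFast Cfsg.Agent.Lib.Helper18_ChevEngine
  Cfsg.Agent.Lib.Helper18_ChevR1 Cfsg.Agent.Lib.Helper18_ChevN Cfsg.Agent.Lib.Helper18_ChevR4
  Cfsg.Agent.Lib.Helper18_ChevSimple Cfsg.Agent.Lib.Helper18_ChevChunk Cfsg.Agent.Lib.Helper18_ChevWeyl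
  Cfsg.Agent.Lib.Helper18_ChevComm Cfsg.Agent.Lib.Helper18_ChevComm2
  Cfsg.Agent.Lib.Helper18_ChevPDataD4

set_option maxHeartbeats 0 in
theorem pairs_c0 : allRange (pairRowOK chevD4.rank chevD4.nroots (rows2Of chevD4) Ts hT K base stepT) (0 + 0 * 24) 24 = true := by decide +kernel

theorem pairs : ∀ r, 0 ≤ r → r < 24 → pairRowOK chevD4.rank chevD4.nroots (rows2Of chevD4) Ts hT K base stepT r = true := by
  intro r h1 h2
  have hk : (r - 0) / 24 < 1 := by omega
  have hlo : 0 + (r - 0) / 24 * 24 ≤ r := by have := Nat.div_mul_le_self (r - 0) 24; omega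
  have hhi : r < 0 + (r - 0) / 24 * 24 + 24 := by have := Nat.lt_div_mul_add (a := r - 0) (b := 24) (by omega); omega
  generalize (r - 0) / 24 = k at hk hlo hhi
  interval_cases k
  · exact allRange_apply pairs_c0 hlo hhi

end Cfsg.Agent.Lib.Helper18_ChevPPairsD4_0
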