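import Cfsg.Agent.Lib.Helper18_ChevPDataE6

set_option autoImplicit false

/-! The commutator formula for the base pair (71, 25) of type E6, checked by the engine (kernel computation). -/

namespace Cfsg.Agent.Lib.Helper18_ChevPBaseE6_0

open Cfsg Cfsg.Lie Cfsg.Agent.Lib.Helper18_ChevFast Cfsg.Agent.Lib.Helper18_ChevEngine
  Cfsg.Agent.Lib.Helper18_ChevR1 Cfsg.Agent.Lib.Helper18_ChevN Cfsg.Agent.Lib.Helper18_ChevR4
  Cfsg.Agent.Lib.Helper18_ChevSimple Cfsg.Agent.Lib.Helper18_ChevChunk Cfsg.Agent.Lib.Helper18_ChevWeyl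
  Cfsg.Agent.Lib.Helper18_ChevComm Cfsg.Agent.Lib.Helper18_ChevComm2
  Cfsg.Agent.Lib.Helper18_ChevPDataE6

set_option maxHeartbeats 0 in
theorem base_ok_c0 : allRange (r2F chevE6.rank chevE6.nroots (getFast (rows2Of chevE6) 16 dummyRow) 71 25 (commTermsG (Efast (rows2Of chevE6)) 71 25)) (0 * 72) 72 = true := by decide +kernel

set_option maxHeartbeats 0 in
theorem base_ok_c1 : allRange (r2F chevE6.rank chevE6.nroots (getFast (rows2Of chevE6) 16 dummyRow) 71 25 (commTermsG (Efast (rows2Of chevE6)) 71 25)) (1 * 72) 72 = true := by decide +kernel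

theorem base_ok : ∀ r < 144, r2F chevE6.rank chevE6.nroots (getFast (rows2Of chevE6) 16 dummyRow) 71 25 (commTermsG (Efast (rows2Of chevE6)) 71 25) r = true := by
  intro r hr
  refine all_of_chunks _ 72 2 ?_ r (by omega)
  intro k hk
  interval_cases k
  · exact base_ok_c0
  · exact base_ok_c1

end Cfsg.Agent.Lib.Helper18_ChevPBaseE6_0
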