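import Cfsg.Agent.Lib.Helper18_ChevDatumE6
import Cfsg.Agent.Lib.Helper18_ChevPPairsE6_0
import Cfsg.Agent.Lib.Helper18_ChevPBaseE6_0
import Cfsg.Agent.Lib.Helper18_ChevPBaseE6_1
import Cfsg.Agent.Lib.Helper18_ChevPBaseE6_2

set_option autoImplicit false

/-! The certificate for the commutator formula of type E6. -/

namespace Cfsg.Agent.Lib.Helper18_ChevPCertE6

open Cfsg Cfsg.Lie Cfsg.Agent.Lib.Helper18_ChevFast Cfsg.Agent.Lib.Helper18_ChevEngine
  Cfsg.Agent.Lib.Helper18_ChevR1 Cfsg.Agent.Lib.Helper18_ChevN Cfsg.Agent.Lib.Helper18_ChevR4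
  Cfsg.Agent.Lib.Helper18_ChevSimple Cfsg.Agent.Lib.Helper18_ChevChunk Cfsg.Agent.Lib.Helper18_ChevWeyl
  Cfsg.Agent.Lib.Helper18_ChevComm Cfsg.Agent.Lib.Helper18_ChevComm2
  Cfsg.Agent.Lib.Helper18_ChevPDataE6

set_option maxHeartbeats 0 in
theorem pcert : PCert chevE6 Cfsg.Agent.Lib.Helper18_ChevDatumE6.Ns Ts hT K base stepT where
  chain_size := by decide +kernel
  nroots_le := by decide
  ts_eq := by decide +kernel
  base_lt := by decide +kernel
  base_ok := by
    intro p hp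
    simp only [base, List.mem_cons, List.not_mem_nil, or_false] at hp
    rcases hp with rfl | rfl | rfl
    · exact Cfsg.Agent.Lib.Helper18_ChevPBaseE6_0.base_ok
    · exact Cfsg.Agent.Lib.Helper18_ChevPBaseE6_1.base_ok
    · exact Cfsg.Agent.Lib.Helper18_ChevPBaseE6_2.base_ok
  pairs := by
    intro r hr
    have hn : chevE6.nroots = 72 := rfl
    rw [hn] at hr
    exact Cfsg.Agent.Lib.Helper18_ChevPPairsE6_0.pairs r (by omega) hr

end Cfsg.Agent.Lib.Helper18_ChevPCertE6
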