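import Cfsg.Agent.Lib.Helper18_ChevPDataE7

set_option autoImplicit false

/-! The commutator formula for the base pair (125, 124) of type E7, checked by the engine (kernel computation). -/

namespace Cfsg.Agent.Lib.Helper18_ChevPBaseE7_2

open Cfsg Cfsg.Lie Cfsg.Agent.Lib.Helper18_ChevFast Cfsg.Agent.Lib.Helper18_ChevEngine
  Cfsg.Agent.Lib.Helper18_ChevR1 Cfsg.Agent.Lib.Helper18_ChevN Cfsg.Agent.Lib.Helper18_ChevR4
  Cfsg.Agent.Lib.Helper18_ChevSimple Cfsg.Agent.Lib.Helper18_ChevChunk Cfsg.Agent.Lib.Helper18_ChevWeyl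
  Cfsg.Agent.Lib.Helper18_ChevComm Cfsg.Agent.Lib.Helper18_ChevComm2
  Cfsg.Agent.Lib.Helper18_ChevPDataE7

set_option maxHeartbeats 0 in
theorem base_ok_c0 : allRange (r2F chevE7.rank chevE7.nroots (getFast (rows2Of chevE7) 16 dummyRow) 125 124 (commTermsG (Efast (rows2Of chevE7)) 125 124)) (0 * 42) 42 = true := by decide +kernel

set_option maxHeartbeats 0 in
theorem base_ok_c1 : allRange (r2F chevE7.rank chevE7.nroots (getFast (rows2Of chevE7) 16 dummyRow) 125 124 (commTermsG (Efast (rows2Of chevE7)) 125 124)) (1 * 42) 42 = true := by decide +kernel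

set_option maxHeartbeats 0 in
theorem base_ok_c2 : allRange (r2F chevE7.rank chevE7.nroots (getFast (rows2Of chevE7) 16 dummyRow) 125 124 (commTermsG (Efast (rows2Of chevE7)) 125 124)) (2 * 42) 42 = true := by decide +kernel

set_option maxHeartbeats 0 in
theorem base_ok_c3 : allRange (r2F chevE7.rank chevE7.nroots (getFast (rows2Of chevE7) 16 dummyRow) 125 124 (commTermsG (Efast (rows2Of chevE7)) 125 124)) (3 * 42) 42 = true := by decide +kernel

set_option maxHeartbeats 0 in
theorem base_ok_c4 : allRange (r2F chevE7.rank chevE7.nroots (getFast (rows2Of chevE7) 16 dummyRow) 125 124 (commTermsG (Efast (rows2Of chevE7)) 125 124)) (4 * 42) 42 = true := by decide +kernel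

set_option maxHeartbeats 0 in
theorem base_ok_c5 : allRange (r2F chevE7.rank chevE7.nroots (getFast (rows2Of chevE7) 16 dummyRow) 125 124 (commTermsG (Efast (rows2Of chevE7)) 125 124)) (5 * 42) 42 = true := by decide +kernel

theorem base_ok : ∀ r < 252, r2F chevE7.rank chevE7.nroots (getFast (rows2Of chevE7) 16 dummyRow) 125 124 (commTermsG (Efast (rows2Of chevE7)) 125 124) r = true := by
  intro r hr
  refine all_of_chunks _ 42 6 ?_ r (by omega)
  intro k hk
  interval_cases k
  · exact base_ok_c0
  · exact base_ok_c1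
  · exact base_ok_c2
  · exact base_ok_c3
  · exact base_ok_c4
  · exact base_ok_c5

end Cfsg.Agent.Lib.Helper18_ChevPBaseE7_2
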