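import Cfsg.Agent.Lib.Helper18_ChevPDataE8

set_option autoImplicit false

/-! The commutator formula for the base pair (239, 119) of type E8, checked by the engine (kernel computation). -/

namespace Cfsg.Agent.Lib.Helper18_ChevPBaseE8_0

open Cfsg Cfsg.Lie Cfsg.Agent.Lib.Helper18_ChevFast Cfsg.Agent.Lib.Helper18_ChevEngine
  Cfsg.Agent.Lib.Helper18_ChevR1 Cfsg.Agent.Lib.Helper18_ChevN Cfsg.Agent.Lib.Helper18_ChevR4
  Cfsg.Agent.Lib.Helper18_ChevSimple Cfsg.Agent.Lib.Helper18_ChevChunk Cfsg.Agent.Lib.Helper18_ChevWeyl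
  Cfsg.Agent.Lib.Helper18_ChevComm Cfsg.Agent.Lib.Helper18_ChevComm2
  Cfsg.Agent.Lib.Helper18_ChevPDataE8

set_option maxHeartbeats 0 in
theorem base_ok_c0 : allRange (r2F chevE8.rank chevE8.nroots (getFast (rows2Of chevE8) 16 dummyRow) 239 119 (commTermsG (Efast (rows2Of chevE8)) 239 119)) (0 * 30) 30 = true := by decide +kernel

set_option maxHeartbeats 0 in
theorem base_ok_c1 : allRange (r2F chevE8.rank chevE8.nroots (getFast (rows2Of chevE8) 16 dummyRow) 239 119 (commTermsG (Efast (rows2Of chevE8)) 239 119)) (1 * 30) 30 = true := by decide +kernel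

set_option maxHeartbeats 0 in
theorem base_ok_c2 : allRange (r2F chevE8.rank chevE8.nroots (getFast (rows2Of chevE8) 16 dummyRow) 239 119 (commTermsG (Efast (rows2Of chevE8)) 239 119)) (2 * 30) 30 = true := by decide +kernel

set_option maxHeartbeats 0 in
theorem base_ok_c3 : allRange (r2F chevE8.rank chevE8.nroots (getFast (rows2Of chevE8) 16 dummyRow) 239 119 (commTermsG (Efast (rows2Of chevE8)) 239 119)) (3 * 30) 30 = true := by decide +kernel

set_option maxHeartbeats 0 in
theorem base_ok_c4 : allRange (r2F chevE8.rank chevE8.nroots (getFast (rows2Of chevE8) 16 dummyRow) 239 119 (commTermsG (Efast (rows2Of chevE8)) 239 119)) (4 * 30) 30 = true := by decide +kernel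

set_option maxHeartbeats 0 in
theorem base_ok_c5 : allRange (r2F chevE8.rank chevE8.nroots (getFast (rows2Of chevE8) 16 dummyRow) 239 119 (commTermsG (Efast (rows2Of chevE8)) 239 119)) (5 * 30) 30 = true := by decide +kernel

set_option maxHeartbeats 0 in
theorem base_ok_c6 : allRange (r2F chevE8.rank chevE8.nroots (getFast (rows2Of chevE8) 16 dummyRow) 239 119 (commTermsG (Efast (rows2Of chevE8)) 239 119)) (6 * 30) 30 = true := by decide +kernel

set_option maxHeartbeats 0 in
theorem base_ok_c7 : allRange (r2F chevE8.rank chevE8.nroots (getFast (rows2Of chevE8) 16 dummyRow) 239 119 (commTermsG (Efast (rows2Of chevE8)) 239 119)) (7 * 30) 30 = true := by decide +kernel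

set_option maxHeartbeats 0 in
theorem base_ok_c8 : allRange (r2F chevE8.rank chevE8.nroots (getFast (rows2Of chevE8) 16 dummyRow) 239 119 (commTermsG (Efast (rows2Of chevE8)) 239 119)) (8 * 30) 30 = true := by decide +kernel

set_option maxHeartbeats 0 in
theorem base_ok_c9 : allRange (r2F chevE8.rank chevE8.nroots (getFast (rows2Of chevE8) 16 dummyRow) 239 119 (commTermsG (Efast (rows2Of chevE8)) 239 119)) (9 * 30) 30 = true := by decide +kernel

set_option maxHeartbeats 0 in
theorem base_ok_c10 : allRange (r2F chevE8.rank chevE8.nroots (getFast (rows2Of chevE8) 16 dummyRow) 239 119 (commTermsG (Efast (rows2Of chevE8)) 239 119)) (10 * 30) 30 = true := by decide +kernel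

set_option maxHeartbeats 0 in
theorem base_ok_c11 : allRange (r2F chevE8.rank chevE8.nroots (getFast (rows2Of chevE8) 16 dummyRow) 239 119 (commTermsG (Efast (rows2Of chevE8)) 239 119)) (11 * 30) 30 = true := by decide +kernel

set_option maxHeartbeats 0 in
theorem base_ok_c12 : allRange (r2F chevE8.rank chevE8.nroots (getFast (rows2Of chevE8) 16 dummyRow) 239 119 (commTermsG (Efast (rows2Of chevE8)) 239 119)) (12 * 30) 30 = true := by decide +kernel

set_option maxHeartbeats 0 in
theorem base_ok_c13 : allRange (r2F chevE8.rank chevE8.nroots (getFast (rows2Of chevE8) 16 dummyRow) 239 119 (commTermsG (Efast (rows2Of chevE8)) 239 119)) (13 * 30) 30 = true := by decide +kernel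

set_option maxHeartbeats 0 in
theorem base_ok_c14 : allRange (r2F chevE8.rank chevE8.nroots (getFast (rows2Of chevE8) 16 dummyRow) 239 119 (commTermsG (Efast (rows2Of chevE8)) 239 119)) (14 * 30) 30 = true := by decide +kernel

set_option maxHeartbeats 0 in
theorem base_ok_c15 : allRange (r2F chevE8.rank chevE8.nroots (getFast (rows2Of chevE8) 16 dummyRow) 239 119 (commTermsG (Efast (rows2Of chevE8)) 239 119)) (15 * 30) 30 = true := by decide +kernel

theorem base_ok : ∀ r < 480, r2F chevE8.rank chevE8.nroots (getFast (rows2Of chevE8) 16 dummyRow) 239 119 (commTermsG (Efast (rows2Of chevE8)) 239 119) r = true := by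
  intro r hr
  refine all_of_chunks _ 30 16 ?_ r (by omega)
  intro k hk
  interval_cases k
  · exact base_ok_c0
  · exact base_ok_c1
  · exact base_ok_c2
  · exact base_ok_c3
  · exact base_ok_c4
  · exact base_ok_c5
  · exact base_ok_c6
  · exact base_ok_c7
  · exact base_ok_c8
  · exact base_ok_c9
  · exact base_ok_c10
  · exact base_ok_c11
  · exact base_ok_c12
  · exact base_ok_c13
  · exact base_ok_c14
  · exact base_ok_c15

end Cfsg.Agent.Lib.Helper18_ChevPBaseE8_0
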