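import Cfsg.Agent.Lib.Helper18_ChevPDataE8

set_option autoImplicit false

/-! The descent check for the pairs `(r, s)` of roots of type E8 with `0 ≤ r < 60` (kernel computation). -/

namespace Cfsg.Agent.Lib.Helper18_ChevPPairsE8_0

open Cfsg Cfsg.Lie Cfsg.Agent.Lib.Helper18_ChevFast Cfsg.Agent.Lib.Helper18_ChevEngine
  Cfsg.Agent.Lib.Helper18_ChevR1 Cfsg.Agent.Lib.Helper18_ChevN Cfsg.Agent.Lib.Helper18_ChevR4
  Cfsg.Agent.Lib.Helper18_ChevSimple Cfsg.Agent.Lib.Helper18_ChevChunk Cfsg.Agent.Lib.Helper18_ChevWeyl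
  Cfsg.Agent.Lib.Helper18_ChevComm Cfsg.Agent.Lib.Helper18_ChevComm2
  Cfsg.Agent.Lib.Helper18_ChevPDataE8

set_option maxHeartbeats 0 in
theorem pairs_c0 : allRange (pairRowOK chevE8.rank chevE8.nroots (rows2Of chevE8) Ts hT K base stepT) (0 + 0 * 6) 6 = true := by decide +kernel

set_option maxHeartbeats 0 in
theorem pairs_c1 : allRange (pairRowOK chevE8.rank chevE8.nroots (rows2Of chevE8) Ts hT K base stepT) (0 + 1 * 6) 6 = true := by decide +kernel

set_option maxHeartbeats 0 in
theorem pairs_c2 : allRange (pairRowOK chevE8.rank chevE8.nroots (rows2Of chevE8) Ts hT K base stepT) (0 + 2 * 6) 6 = true := by decide +kernel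

set_option maxHeartbeats 0 in
theorem pairs_c3 : allRange (pairRowOK chevE8.rank chevE8.nroots (rows2Of chevE8) Ts hT K base stepT) (0 + 3 * 6) 6 = true := by decide +kernel

set_option maxHeartbeats 0 in
theorem pairs_c4 : allRange (pairRowOK chevE8.rank chevE8.nroots (rows2Of chevE8) Ts hT K base stepT) (0 + 4 * 6) 6 = true := by decide +kernel

set_option maxHeartbeats 0 in
theorem pairs_c5 : allRange (pairRowOK chevE8.rank chevE8.nroots (rows2Of chevE8) Ts hT K base stepT) (0 + 5 * 6) 6 = true := by decide +kernel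

set_option maxHeartbeats 0 in
theorem pairs_c6 : allRange (pairRowOK chevE8.rank chevE8.nroots (rows2Of chevE8) Ts hT K base stepT) (0 + 6 * 6) 6 = true := by decide +kernel

set_option maxHeartbeats 0 in
theorem pairs_c7 : allRange (pairRowOK chevE8.rank chevE8.nroots (rows2Of chevE8) Ts hT K base stepT) (0 + 7 * 6) 6 = true := by decide +kernel

set_option maxHeartbeats 0 in
theorem pairs_c8 : allRange (pairRowOK chevE8.rank chevE8.nroots (rows2Of chevE8) Ts hT K base stepT) (0 + 8 * 6) 6 = true := by decide +kernel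

set_option maxHeartbeats 0 in
theorem pairs_c9 : allRange (pairRowOK chevE8.rank chevE8.nroots (rows2Of chevE8) Ts hT K base stepT) (0 + 9 * 6) 6 = true := by decide +kernel

theorem pairs : ∀ r, 0 ≤ r → r < 60 → pairRowOK chevE8.rank chevE8.nroots (rows2Of chevE8) Ts hT K base stepT r = true := by
  intro r h1 h2
  have hk : (r - 0) / 6 < 10 := by omega
  have hlo : 0 + (r - 0) / 6 * 6 ≤ r := by have := Nat.div_mul_le_self (r - 0) 6; omega
  have hhi : r < 0 + (r - 0) / 6 * 6 + 6 := by have := Nat.lt_div_mul_add (a := r - 0) (b := 6) (by omega); omega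
  generalize (r - 0) / 6 = k at hk hlo hhi
  interval_cases k
  · exact allRange_apply pairs_c0 hlo hhi
  · exact allRange_apply pairs_c1 hlo hhi
  · exact allRange_apply pairs_c2 hlo hhi
  · exact allRange_apply pairs_c3 hlo hhi
  · exact allRange_apply pairs_c4 hlo hhi
  · exact allRange_apply pairs_c5 hlo hhi
  · exact allRange_apply pairs_c6 hlo hhi
  · exact allRange_apply pairs_c7 hlo hhi
  · exact allRange_apply pairs_c8 hlo hhi
  · exact allRange_apply pairs_c9 hlo hhi

end Cfsg.Agent.Lib.Helper18_ChevPPairsE8_0
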