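import Cfsg.Agent.Lib.Helper18_ChevDatumE8
import Cfsg.Agent.Lib.Helper18_ChevPPairsE8_0
import Cfsg.Agent.Lib.Helper18_ChevPPairsE8_1
import Cfsg.Agent.Lib.Helper18_ChevPPairsE8_2
import Cfsg.Agent.Lib.Helper18_ChevPPairsE8_3
import Cfsg.Agent.Lib.Helper18_ChevPBaseE8_0
import Cfsg.Agent.Lib.Helper18_ChevPBaseE8_1
import Cfsg.Agent.Lib.Helper18_ChevPBaseE8_2

set_option autoImplicit false

/-! The certificate for the commutator formula of type E8. -/

namespace Cfsg.Agent.Lib.Helper18_ChevPCertE8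

open Cfsg Cfsg.Lie Cfsg.Agent.Lib.Helper18_ChevFast Cfsg.Agent.Lib.Helper18_ChevEngine
  Cfsg.Agent.Lib.Helper18_ChevR1 Cfsg.Agent.Lib.Helper18_ChevN Cfsg.Agent.Lib.Helper18_ChevR4
  Cfsg.Agent.Lib.Helper18_ChevSimple Cfsg.Agent.Lib.Helper18_ChevChunk Cfsg.Agent.Lib.Helper18_ChevWeyl
  Cfsg.Agent.Lib.Helper18_ChevComm Cfsg.Agent.Lib.Helper18_ChevComm2
  Cfsg.Agent.Lib.Helper18_ChevPDataE8

set_option maxHeartbeats 0 in
theorem pcert : PCert chevE8 Cfsg.Agent.Lib.Helper18_ChevDatumE8.Ns Ts hT K base stepT where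
  chain_size := by decide +kernel
  nroots_le := by decide
  ts_eq := by decide +kernel
  base_lt := by decide +kernel
  base_ok := by
    intro p hp
    simp only [base, List.mem_cons, List.not_mem_nil, or_false] at hp
    rcases hp with rfl | rfl | rfl
    · exact Cfsg.Agent.Lib.Helper18_ChevPBaseE8_0.base_ok
    · exact Cfsg.Agent.Lib.Helper18_ChevPBaseE8_1.base_ok
    · exact Cfsg.Agent.Lib.Helper18_ChevPBaseE8_2.base_ok
  pairs := by
    intro r hr
    have hn : chevE8.nroots = 240 := rfl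
    rw [hn] at hr
    by_cases h0 : r < 60
    · exact Cfsg.Agent.Lib.Helper18_ChevPPairsE8_0.pairs r (by omega) h0
    by_cases h1 : r < 120
    · exact Cfsg.Agent.Lib.Helper18_ChevPPairsE8_1.pairs r (by omega) h1
    by_cases h2 : r < 180
    · exact Cfsg.Agent.Lib.Helper18_ChevPPairsE8_2.pairs r (by omega) h2
    exact Cfsg.Agent.Lib.Helper18_ChevPPairsE8_3.pairs r (by omega) hr

end Cfsg.Agent.Lib.Helper18_ChevPCertE8
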