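import Cfsg.Agent.Lib.Helper18_ChevPDataG2

set_option autoImplicit false

/-! The commutator formula for the base pair (9, 1) of type G2, checked by the engine (kernel computation). -/

namespace Cfsg.Agent.Lib.Helper18_ChevPBaseG2_0

open Cfsg Cfsg.Lie Cfsg.Agent.Lib.Helper18_ChevFast Cfsg.Agent.Lib.Helper18_ChevEngine
  Cfsg.Agent.Lib.Helper18_ChevR1 Cfsg.Agent.Lib.Helper18_ChevN Cfsg.Agent.Lib.Helper18_ChevR4
  Cfsg.Agent.Lib.Helper18_ChevSimple Cfsg.Agent.Lib.Helper18_ChevChunk Cfsg.Agent.Lib.Helper18_ChevWeyl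
  Cfsg.Agent.Lib.Helper18_ChevComm Cfsg.Agent.Lib.Helper18_ChevComm2
  Cfsg.Agent.Lib.Helper18_ChevPDataG2

set_option maxHeartbeats 0 in
theorem base_ok_c0 : allRange (r2F chevG2.rank chevG2.nroots (getFast (rows2Of chevG2) 16 dummyRow) 9 1 (commTermsG (Efast (rows2Of chevG2)) 9 1)) (0 * 24) 24 = true := by decide +kernel

theorem base_ok : ∀ r < 24, r2F chevG2.rank chevG2.nroots (getFast (rows2Of chevG2) 16 dummyRow) 9 1 (commTermsG (Efast (rows2Of chevG2)) 9 1) r = true := by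
  intro r hr
  refine all_of_chunks _ 24 1 ?_ r (by omega)
  intro k hk
  interval_cases k
  · exact base_ok_c0

end Cfsg.Agent.Lib.Helper18_ChevPBaseG2_0
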