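import Cfsg.Agent.Lib.Helper18_ChevPDataG2

set_option autoImplicit false

/-! The descent check for the pairs `(r, s)` of roots of type G2 with `0 ≤ r < 12` (kernel computation). -/

namespace Cfsg.Agent.Lib.Helper18_ChevPPairsG2_0

open Cfsg Cfsg.Lie Cfsg.Agent.Lib.Helper18_ChevFast Cfsg.Agent.Lib.Helper18_ChevEngine
  Cfsg.Agent.Lib.Helper18_ChevR1 Cfsg.Agent.Lib.Helper18_ChevN Cfsg.Agent.Lib.Helper18_ChevR4
  Cfsg.Agent.Lib.Helper18_ChevSimple Cfsg.Agent.Lib.Helper18_ChevChunk Cfsg.Agent.Lib.Helper18_ChevWeyl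
  Cfsg.Agent.Lib.Helper18_ChevComm Cfsg.Agent.Lib.Helper18_ChevComm2
  Cfsg.Agent.Lib.Helper18_ChevPDataG2

set_option maxHeartbeats 0 in
theorem pairs_c0 : allRange (pairRowOK chevG2.rank chevG2.nroots (rows2Of chevG2) Ts hT K base stepT) (0 + 0 * 12) 12 = true := by decide +kernel

theorem pairs : ∀ r, 0 ≤ r → r < 12 → pairRowOK chevG2.rank chevG2.nroots (rows2Of chevG2) Ts hT K base stepT r = true := by
  intro r h1 h2
  have hk : (r - 0) / 12 < 1 := by omega
  have hlo : 0 + (r - 0) / 12 * 12 ≤ r := by have := Nat.div_mul_le_self (r - 0) 12; omega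
  have hhi : r < 0 + (r - 0) / 12 * 12 + 12 := by have := Nat.lt_div_mul_add (a := r - 0) (b := 12) (by omega); omega
  generalize (r - 0) / 12 = k at hk hlo hhi
  interval_cases k
  · exact allRange_apply pairs_c0 hlo hhi

end Cfsg.Agent.Lib.Helper18_ChevPPairsG2_0
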