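import Cfsg.Agent.Lib.Helper18_ChevDatumG2
import Cfsg.Agent.Lib.Helper18_ChevPPairsG2_0
import Cfsg.Agent.Lib.Helper18_ChevPBaseG2_0
import Cfsg.Agent.Lib.Helper18_ChevPBaseG2_1
import Cfsg.Agent.Lib.Helper18_ChevPBaseG2_2
import Cfsg.Agent.Lib.Helper18_ChevPBaseG2_3
import Cfsg.Agent.Lib.Helper18_ChevPBaseG2_4
import Cfsg.Agent.Lib.Helper18_ChevPBaseG2_5
import Cfsg.Agent.Lib.Helper18_ChevPBaseG2_6
import Cfsg.Agent.Lib.Helper18_ChevPBaseG2_7
import Cfsg.Agent.Lib.Helper18_ChevPBaseG2_8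
import Cfsg.Agent.Lib.Helper18_ChevPBaseG2_9

set_option autoImplicit false

/-! The certificate for the commutator formula of type G2. -/

namespace Cfsg.Agent.Lib.Helper18_ChevPCertG2

open Cfsg Cfsg.Lie Cfsg.Agent.Lib.Helper18_ChevFast Cfsg.Agent.Lib.Helper18_ChevEngine
  Cfsg.Agent.Lib.Helper18_ChevR1 Cfsg.Agent.Lib.Helper18_ChevN Cfsg.Agent.Lib.Helper18_ChevR4
  Cfsg.Agent.Lib.Helper18_ChevSimple Cfsg.Agent.Lib.Helper18_ChevChunk Cfsg.Agent.Lib.Helper18_ChevWeyl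
  Cfsg.Agent.Lib.Helper18_ChevComm Cfsg.Agent.Lib.Helper18_ChevComm2
  Cfsg.Agent.Lib.Helper18_ChevPDataG2

set_option maxHeartbeats 0 in
theorem pcert : PCert chevG2 Cfsg.Agent.Lib.Helper18_ChevDatumG2.Ns Ts hT K base stepT where
  chain_size := by decide +kernel
  nroots_le := by decide
  ts_eq := by decide +kernel
  base_lt := by decide +kernel
  base_ok := by
    intro p hp
    simp only [base, List.mem_cons, List.not_mem_nil, or_false] at hp
    rcases hp with rfl | rfl | rfl | rfl | rfl | rfl | rfl | rfl | rfl | rfl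
    · exact Cfsg.Agent.Lib.Helper18_ChevPBaseG2_0.base_ok
    · exact Cfsg.Agent.Lib.Helper18_ChevPBaseG2_1.base_ok
    · exact Cfsg.Agent.Lib.Helper18_ChevPBaseG2_2.base_ok
    · exact Cfsg.Agent.Lib.Helper18_ChevPBaseG2_3.base_ok
    · exact Cfsg.Agent.Lib.Helper18_ChevPBaseG2_4.base_ok
    · exact Cfsg.Agent.Lib.Helper18_ChevPBaseG2_5.base_ok
    · exact Cfsg.Agent.Lib.Helper18_ChevPBaseG2_6.base_ok
    · exact Cfsg.Agent.Lib.Helper18_ChevPBaseG2_7.base_ok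
    · exact Cfsg.Agent.Lib.Helper18_ChevPBaseG2_8.base_ok
    · exact Cfsg.Agent.Lib.Helper18_ChevPBaseG2_9.base_ok
  pairs := by
    intro r hr
    have hn : chevG2.nroots = 12 := rfl
    rw [hn] at hr
    exact Cfsg.Agent.Lib.Helper18_ChevPPairsG2_0.pairs r (by omega) hr

end Cfsg.Agent.Lib.Helper18_ChevPCertG2
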