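import Cfsg.Agent.Lib.Helper18_ChevWeyl
import Cfsg.Agent.Lib.Helper18_ChevRowsG2
import Cfsg.Agent.Lib.Helper18_ChevCertG2_0
import Cfsg.Agent.Lib.Helper18_ChevHCertG2_0
import Cfsg.Agent.Lib.Helper18_ChevCertG2_1
import Cfsg.Agent.Lib.Helper18_ChevHCertG2_1

set_option autoImplicit false

/-! The certificate of the datum of type G2. -/

namespace Cfsg.Agent.Lib.Helper18_ChevDatumG2

open Cfsg Cfsg.Lie Cfsg.Agent.Lib.Helper18_ChevFast Cfsg.Agent.Lib.Helper18_ChevEngine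
  Cfsg.Agent.Lib.Helper18_ChevR1 Cfsg.Agent.Lib.Helper18_ChevN Cfsg.Agent.Lib.Helper18_ChevR4
  Cfsg.Agent.Lib.Helper18_ChevSimple Cfsg.Agent.Lib.Helper18_ChevChunk Cfsg.Agent.Lib.Helper18_ChevDiag
  Cfsg.Agent.Lib.Helper18_ChevH Cfsg.Agent.Lib.Helper18_ChevSimple2 Cfsg.Agent.Lib.Helper18_ChevFacts
  Cfsg.Agent.Lib.Helper18_ChevWeyl

def Ns : List NData := [Cfsg.Agent.Lib.Helper18_ChevCertG2_0.N, Cfsg.Agent.Lib.Helper18_ChevCertG2_1.N]

set_option maxHeartbeats 0 in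
theorem dcert : DCert chevG2 Ns where
  rows := Cfsg.Agent.Lib.Helper18_ChevRowsG2.rowsOK
  ncert := by
    intro i hi
    have hr : chevG2.rank = 2 := rfl
    rw [hr] at hi
    interval_cases i
    · exact Cfsg.Agent.Lib.Helper18_ChevCertG2_0.cert
    · exact Cfsg.Agent.Lib.Helper18_ChevCertG2_1.cert
  hcert := by
    intro i hi
    have hr : chevG2.rank = 2 := rfl
    rw [hr] at hi
    interval_cases i
    · exact Cfsg.Agent.Lib.Helper18_ChevHCertG2_0.hcert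
    · exact Cfsg.Agent.Lib.Helper18_ChevHCertG2_1.hcert
  reach := by decide +kernel

end Cfsg.Agent.Lib.Helper18_ChevDatumG2
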