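import Cfsg.Agent.Lib.Helper18_ChevR1

set_option autoImplicit false

/-!
Diagonal matrices on the coordinate module of a Chevalley datum given by "characters" of the root system, and how
they conjugate root elements: `diag(χ) x_r(t) = x_r(χ(r) t) diag(χ)`.
-/

namespace Cfsg.Agent.Lib.Helper18_ChevDiag

open Cfsg Cfsg.Lie Cfsg.Agent.Lib.Helper18_ChevFast Cfsg.Agent.Lib.Helper18_ChevEngine
  Cfsg.Agent.Lib.Helper18_ChevR1

variable (D : ChevalleyDatum) {F : Type*} [Field F]

/-- The diagonal matrix with entry `1` on the coordinates `h_i` and `χ s` on the coordinate `e_s`. -/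
def diagMat (χ : ℕ → F) : Matrix D.Idx D.Idx F :=
  Matrix.diagonal (Sum.elim (fun _ => (1 : F)) (fun s : Fin D.nroots => χ s.val))

/-- A function on the roots that is multiplicative along the chains of the datum. -/
structure IsChar (χ : ℕ → F) : Prop where
  neg : ∀ s < D.nroots, χ (D.negIdx.getD s 0) * χ s = 1
  chain : ∀ r s u, r < D.nroots → s < D.nroots → u < D.nroots →
    ∀ km ∈ D.chainCoeff r s u, χ u = χ s * χ r ^ km.1

variable {D}

theorem diagMat_one : diagMat D (fun _ => (1 : F)) = 1 := by
  unfold diagMat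
  rw [← Matrix.diagonal_one]
  congr 1
  funext idx
  rcases idx with i | s <;> rfl

theorem diagMat_mul (χ ψ : ℕ → F) : diagMat D χ * diagMat D ψ = diagMat D (fun s => χ s * ψ s) := by
  unfold diagMat
  rw [Matrix.diagonal_mul_diagonal]
  congr 1
  funext idx
  rcases idx with i | s <;> simp

theorem isChar_one : IsChar D (fun _ => (1 : F)) :=
  ⟨fun _ _ => by simp, fun _ _ _ _ _ _ _ _ => by simp⟩

theorem IsChar.mul {χ ψ : ℕ → F} (hχ : IsChar D χ) (hψ : IsChar D ψ) : IsChar D (fun s => χ s * ψ s) := by
  constructor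
  · intro s hs
    have h1 := hχ.neg s hs
    have h2 := hψ.neg s hs
    calc χ (D.negIdx.getD s 0) * ψ (D.negIdx.getD s 0) * (χ s * ψ s)
        = (χ (D.negIdx.getD s 0) * χ s) * (ψ (D.negIdx.getD s 0) * ψ s) := by ring
      _ = 1 := by rw [h1, h2, one_mul]
  · intro r s u hr hs hu km hkm
    rw [hχ.chain r s u hr hs hu km hkm, hψ.chain r s u hr hs hu km hkm, mul_pow]
    ring

theorem IsChar.inv {χ : ℕ → F} (hχ : IsChar D χ) : IsChar D (fun s => (χ s)⁻¹) := by
  constructor
  · intro s hs
    rw [← mul_inv, hχ.neg s hs, inv_one]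
  · intro r s u hr hs hu km hkm
    rw [hχ.chain r s u hr hs hu km hkm, mul_inv, inv_pow]

theorem IsChar.ne_zero {χ : ℕ → F} (hχ : IsChar D χ) (s : ℕ) (hs : s < D.nroots) : χ s ≠ 0 := by
  intro h
  have := hχ.neg s hs
  rw [h, mul_zero] at this
  exact zero_ne_one this

/-- `diag(χ) x_r(t) = x_r(χ(r) t) diag(χ)` for a character `χ`. -/
theorem diag_conj {χ : ℕ → F} (hχ : IsChar D χ) (r : ℕ) (hr : r < D.nroots) (t : F) :
    diagMat D χ * D.x F r t = D.x F r (χ r * t) * diagMat D χ := by
  unfold ChevalleyDatum.x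
  rw [dif_pos hr, dif_pos hr]
  ext row col
  unfold diagMat
  rw [Matrix.diagonal_mul, Matrix.mul_diagonal]
  rcases col with i | s
  · rcases row with i' | u'
    · rw [xMat_inl_inl, xMat_inl_inl]
      simp only [Sum.elim_inl]
      ring
    · rw [xMat_inr_inl, xMat_inr_inl]
      simp only [Sum.elim_inl, Sum.elim_inr]
      split_ifs with h
      · rw [h]; ring
      · ring
  · by_cases hsr : s = ⟨r, hr⟩
    · subst hsr
      rcases row with i' | u'
      · rw [xMat_inl_inr_self, xMat_inl_inr_self]
        simp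
      · rw [xMat_inr_inr_self, xMat_inr_inr_self]
        simp only [Sum.elim_inr]
        split_ifs with h
        · rw [h]; ring
        · ring
    · by_cases hsn : s.val = D.negIdx.getD r 0
      · have hneg := hχ.neg r hr
        rw [← hsn] at hneg
        rcases row with i' | u'
        · rw [xMat_inl_inr_neg D ⟨r, hr⟩ s _ i' hsr hsn, xMat_inl_inr_neg D ⟨r, hr⟩ s _ i' hsr hsn]
          simp only [Sum.elim_inl, Sum.elim_inr]
          calc (1 : F) * (((D.coroot.getD r #[]).getD i'.val 0 : ℤ) * t)
              = ((D.coroot.getD r #[]).getD i'.val 0 : ℤ) * t * (χ s.val * χ r) := by rw [hneg]; ring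
            _ = _ := by ring
        · rw [xMat_inr_inr_neg D ⟨r, hr⟩ s _ u' hsr hsn, xMat_inr_inr_neg D ⟨r, hr⟩ s _ u' hsr hsn]
          simp only [Sum.elim_inr]
          split_ifs with h1 h2
          · rw [h1]; ring
          · rw [h2]
            calc χ r * -(t ^ 2) = -(χ r * t ^ 2) * 1 := by ring
              _ = -(χ r * t ^ 2) * (χ s.val * χ r) := by rw [hneg]
              _ = _ := by ring
          · ring
      · rcases row with i' | u'
        · rw [xMat_inl_inr_gen D ⟨r, hr⟩ s _ i' hsr hsn, xMat_inl_inr_gen D ⟨r, hr⟩ s _ i' hsr hsn]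
          simp
        · rw [xMat_inr_inr_gen D ⟨r, hr⟩ s _ u' hsr hsn, xMat_inr_inr_gen D ⟨r, hr⟩ s _ u' hsr hsn]
          simp only [Sum.elim_inr]
          have hsum : χ u'.val * ((D.chainCoeff r s.val u'.val).map fun km => ((km.2 : ℤ) : F) * t ^ km.1).sum =
              ((D.chainCoeff r s.val u'.val).map fun km => ((km.2 : ℤ) : F) * (χ r * t) ^ km.1).sum * χ s.val := by
            rw [← List.sum_map_mul_left, ← List.sum_map_mul_right]
            congr 1
            apply List.map_congr_left
            intro km hkm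
            rw [hχ.chain r s.val u'.val hr s.isLt u'.isLt km hkm, mul_pow]
            ring
          rw [mul_add, add_mul, hsum]
          congr 1
          split_ifs with h
          · rw [h]; ring
          · ring

end Cfsg.Agent.Lib.Helper18_ChevDiag
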