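import Cfsg.Agent.Lib.Helper18_ChevFast

set_option autoImplicit false

/-!
A small verified engine for sparse symbolic linear algebra on the coordinate module of a Chevalley datum.
Scalars are Laurent polynomials in two invertible variables `t`, `u` with integer coefficients; vectors are lists of
terms `c * t^a * u^b • e_k` where `k` is a key (`2 i` for the coordinate `h_{p_i}`, `2 s + 1` for `e_s`).
-/

namespace Cfsg.Agent.Lib.Helper18_ChevEngine

open Cfsg Cfsg.Lie Cfsg.Agent.Lib.Helper18_ChevFast

/-- A Laurent monomial `c * t^a * u^b`. -/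
structure Mono where
  c : ℤ
  a : ℤ
  b : ℤ

abbrev Poly := List Mono

/-- A term `c * t^a * u^b • e_k`. -/
structure Term where
  k : ℕ
  c : ℤ
  a : ℤ
  b : ℤ

abbrev SVec := List Term

section Eval

variable {F : Type*} [Field F] (t u : Fˣ)

def monoVal (a b : ℤ) : F := ((t ^ a * u ^ b : Fˣ) : F)

theorem monoVal_add (a b a' b' : ℤ) :
    (monoVal t u (a + a') (b + b') : F) = monoVal t u a b * monoVal t u a' b' := by
  unfold monoVal
  rw [zpow_add, zpow_add, ← Units.val_mul]
  congr 1
  exact mul_mul_mul_comm _ _ _ _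

theorem monoVal_zero : (monoVal t u 0 0 : F) = 1 := by simp [monoVal]

def Mono.eval (m : Mono) : F := (m.c : F) * monoVal t u m.a m.b

def Poly.eval (p : Poly) : F := (p.map (Mono.eval t u)).sum

def Term.eval (x : Term) : F := (x.c : F) * monoVal t u x.a x.b

def mulMono (m n : Mono) : Mono := ⟨m.c * n.c, m.a + n.a, m.b + n.b⟩

def mulPoly (p q : Poly) : Poly := p.flatMap fun m => q.map fun n => mulMono m n

theorem mulMono_eval (m n : Mono) : (mulMono m n).eval t u = m.eval t u * n.eval t u := by
  simp only [Mono.eval, mulMono, monoVal_add, Int.cast_mul]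
  ring

theorem map_mulMono_eval (m : Mono) (q : Poly) :
    Poly.eval t u (q.map fun n => mulMono m n) = m.eval t u * Poly.eval t u q := by
  induction q with
  | nil => simp [Poly.eval]
  | cons n q ih =>
    simp only [Poly.eval, List.map_cons, List.sum_cons] at ih ⊢
    rw [ih, mulMono_eval]; ring

theorem eval_append (p q : Poly) : Poly.eval t u (p ++ q) = Poly.eval t u p + Poly.eval t u q := by
  simp [Poly.eval]

theorem mulPoly_eval (p q : Poly) : Poly.eval t u (mulPoly p q) = Poly.eval t u p * Poly.eval t u q := by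
  induction p with
  | nil => simp [mulPoly, Poly.eval]
  | cons m p ih =>
    have : mulPoly (m :: p) q = (q.map fun n => mulMono m n) ++ mulPoly p q := by
      simp [mulPoly]
    rw [this, eval_append, ih, map_mulMono_eval]
    simp only [Poly.eval, List.map_cons, List.sum_cons]
    ring

end Eval

/-- The powers `τ, τ², τ³` of a parameter. -/
structure Pows where
  p1 : Poly
  p2 : Poly
  p3 : Poly

def mkPows (p : Poly) : Pows := ⟨p, mulPoly p p, mulPoly p (mulPoly p p)⟩

def Pows.get (P : Pows) : ℕ → Poly
  | 0 => P.p1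
  | 1 => P.p2
  | _ => P.p3

/-- The powers evaluate to the powers of `τ`. -/
def Pows.OK {F : Type*} [Field F] (t u : Fˣ) (P : Pows) (τ : F) : Prop :=
  Poly.eval t u P.p1 = τ ∧ Poly.eval t u P.p2 = τ ^ 2 ∧ Poly.eval t u P.p3 = τ ^ 3

theorem mkPows_ok {F : Type*} [Field F] (t u : Fˣ) (p : Poly) : (mkPows p).OK t u (Poly.eval t u p) := by
  refine ⟨rfl, ?_, ?_⟩
  · simp only [mkPows, mulPoly_eval]; ring
  · simp only [mkPows, mulPoly_eval]; ring

theorem Pows.get_eval {F : Type*} [Field F] (t u : Fˣ) (P : Pows) (τ : F) (h : P.OK t u τ) (i : ℕ) (hi : i < 3) :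
    Poly.eval t u (P.get i) = τ ^ (i + 1) := by
  obtain ⟨h1, h2, h3⟩ := h
  match i, hi with
  | 0, _ => simpa [Pows.get] using h1
  | 1, _ => simpa [Pows.get] using h2
  | 2, _ => simpa [Pows.get] using h3

/-! ### Keys and the meaning of a sparse vector -/

section Sem

variable (D : ChevalleyDatum)

/-- The key of a coordinate. -/
def keyOf : D.Idx → ℕ
  | Sum.inl i => 2 * i.val
  | Sum.inr s => 2 * s.val + 1

theorem keyOf_injective : Function.Injective (keyOf D) := by
  intro a b h
  rcases a with i | s <;> rcases b with j | s' <;> simp only [keyOf] at h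
  · congr 1; apply Fin.ext; omega
  · omega
  · omega
  · congr 1; apply Fin.ext; omega

variable {F : Type*} [Field F] (t u : Fˣ)

/-- The vector denoted by a list of terms. -/
def sem (v : SVec) : D.Idx → F :=
  fun idx => (v.map fun x => if keyOf D idx = x.k then x.eval t u else 0).sum

theorem sem_nil : sem D t u [] = (0 : D.Idx → F) := by
  funext idx; simp [sem]

theorem sem_cons (x : Term) (v : SVec) :
    sem D t u (x :: v) = sem D t u [x] + sem D t u v := by
  funext idx; simp [sem]

theorem sem_append (v w : SVec) : sem D t u (v ++ w) = sem D t u v + sem D t u w := by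
  funext idx; simp [sem]

theorem sem_cons_apply (x : Term) (v : SVec) (idx : D.Idx) :
    sem D t u (x :: v) idx = (if keyOf D idx = x.k then x.eval t u else 0) + sem D t u v idx := by
  simp [sem]

theorem sem_single_apply (x : Term) (idx : D.Idx) :
    sem D t u [x] idx = if keyOf D idx = x.k then x.eval t u else 0 := by
  simp [sem]

theorem sem_flatMap (f : Term → SVec) (v : SVec) :
    sem D t u (v.flatMap f) = (v.map fun x => sem D t u (f x)).sum := by
  induction v with
  | nil => simp [sem_nil]
  | cons x v ih => simp [List.flatMap_cons, sem_append, ih]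

end Sem

/-! ### Normal forms -/

def insertTerm (x : Term) : SVec → SVec
  | [] => [x]
  | y :: l => if y.k = x.k ∧ y.a = x.a ∧ y.b = x.b then ⟨y.k, y.c + x.c, y.a, y.b⟩ :: l else y :: insertTerm x l

def norm (v : SVec) : SVec := (v.foldr insertTerm []).filter fun x => x.c ≠ 0

def isZero (v : SVec) : Bool := (norm v).isEmpty

def negVec (v : SVec) : SVec := v.map fun x => ⟨x.k, -x.c, x.a, x.b⟩

section NormSem

variable (D : ChevalleyDatum) {F : Type*} [Field F] (t u : Fˣ)

theorem sem_insertTerm (x : Term) (l : SVec) : sem D t u (insertTerm x l) = sem D t u (x :: l) := by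
  induction l with
  | nil => rfl
  | cons y l ih =>
    unfold insertTerm
    split_ifs with h
    · obtain ⟨hk, ha, hb⟩ := h
      funext idx
      simp only [sem_cons_apply, Term.eval, hk, ha, hb]
      split_ifs
      · simp only [Int.cast_add]; ring
      · ring
    · funext idx
      have := congrFun ih idx
      simp only [sem_cons_apply] at this ⊢
      rw [this]; ring

theorem sem_foldr_insert (v : SVec) : sem D t u (v.foldr insertTerm []) = sem D t u v := by
  induction v with
  | nil => rfl
  | cons x v ih =>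
    rw [List.foldr_cons, sem_insertTerm]
    funext idx
    simp only [sem_cons_apply, congrFun ih idx]

theorem sem_filter_ne (v : SVec) : sem D t u (v.filter fun x => x.c ≠ 0) = sem D t u v := by
  induction v with
  | nil => rfl
  | cons x v ih =>
    funext idx
    by_cases hx : x.c = 0
    · rw [List.filter_cons_of_neg (by simpa using hx), ih, sem_cons_apply]
      simp [Term.eval, hx]
    · rw [List.filter_cons_of_pos (by simpa using hx), sem_cons_apply, sem_cons_apply, ih]

theorem sem_norm (v : SVec) : sem D t u (norm v) = sem D t u v := by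
  unfold norm
  rw [sem_filter_ne, sem_foldr_insert]

theorem sem_negVec (v : SVec) : sem D t u (negVec v) = - sem D t u v := by
  induction v with
  | nil => simp [negVec, sem_nil]
  | cons x v ih =>
    have : negVec (x :: v) = ⟨x.k, -x.c, x.a, x.b⟩ :: negVec v := rfl
    funext idx
    rw [this, sem_cons_apply, ih, Pi.neg_apply, Pi.neg_apply, sem_cons_apply]
    simp only [Term.eval]
    split_ifs <;> simp <;> ring

theorem sem_eq_of_isZero (v w : SVec) (h : isZero (v ++ negVec w) = true) : sem D t u v = sem D t u w := by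
  unfold isZero at h
  have h0 : norm (v ++ negVec w) = [] := List.isEmpty_iff.mp h
  have := sem_norm D t u (v ++ negVec w)
  rw [h0, sem_nil, sem_append, sem_negVec] at this
  have h2 : sem D t u v - sem D t u w = 0 := by rw [sub_eq_add_neg]; exact this.symm
  exact sub_eq_zero.mp h2

end NormSem

/-! ### The columns of `x_r(τ)` -/

/-- The data of a root `r` needed to apply `x_r(τ)`. -/
structure FRow where
  r : ℕ
  neg : ℕ
  tbl : ℕ
  cor : List ℤ
  car : List ℤ
deriving DecidableEq

/-- The row data agrees with the datum. -/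
structure FRow.Valid (D : ChevalleyDatum) (R : FRow) : Prop where
  lt : R.r < D.nroots
  neg_eq : R.neg = D.negIdx.getD R.r 0
  tbl_eq : R.tbl = mkTbl (rowOf D R.r)
  rowOK : RowOK (rowOf D R.r)
  cor_eq : ∀ i < D.rank, R.cor.getD i 0 = (D.coroot.getD R.r #[]).getD i 0
  car_eq : ∀ i < D.rank, R.car.getD i 0 = (D.cartanSR.getD i #[]).getD R.r 0

def validKey (rank nroots k : ℕ) : Bool :=
  if k % 2 = 0 then decide (k / 2 < rank) else decide (k / 2 < nroots)

def scaleTerms (k : ℕ) (M : ℤ) (p : Poly) (x : Term) : SVec :=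
  p.map fun m => ⟨k, M * m.c * x.c, m.a + x.a, m.b + x.b⟩

def chainTerms (P : Pows) (x : Term) : ℕ → List (ℕ × ℤ) → SVec
  | _, [] => []
  | i, (w, M) :: l => scaleTerms (2 * w + 1) M (P.get i) x ++ chainTerms P x (i + 1) l

def corTerms (p : Poly) (x : Term) : ℕ → List ℤ → SVec
  | _, [] => []
  | i, c :: l => scaleTerms (2 * i) c p x ++ corTerms p x (i + 1) l

/-- The image of the term `x` under `x_r(τ)`. -/
def xCol (rank nroots : ℕ) (R : FRow) (P : Pows) (x : Term) : SVec :=
  if validKey rank nroots x.k then
    if x.k % 2 = 0 then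
      x :: scaleTerms (2 * R.r + 1) (-(R.car.getD (x.k / 2) 0)) P.p1 x
    else if x.k / 2 = R.r then [x]
    else if x.k / 2 = R.neg then
      x :: (corTerms P.p1 x 0 R.cor ++ scaleTerms (2 * R.r + 1) (-1) P.p2 x)
    else x :: chainTerms P x 0 (lookup R.tbl (x.k / 2))
  else []

section ColSem

variable (D : ChevalleyDatum) {F : Type*} [Field F] (t u : Fˣ)

theorem sem_scaleTerms (k : ℕ) (M : ℤ) (p : Poly) (x : Term) (idx : D.Idx) :
    sem D t u (scaleTerms k M p x) idx =
      if keyOf D idx = k then (M : F) * Poly.eval t u p * x.eval t u else 0 := by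
  induction p with
  | nil => simp [scaleTerms, sem, Poly.eval]
  | cons m p ih =>
    have : scaleTerms k M (m :: p) x = ⟨k, M * m.c * x.c, m.a + x.a, m.b + x.b⟩ :: scaleTerms k M p x := rfl
    rw [this, sem_cons_apply, ih]
    simp only [Term.eval, Poly.eval, List.map_cons, List.sum_cons, Mono.eval, monoVal_add, Int.cast_mul]
    split_ifs
    · ring
    · ring

theorem sem_chainTerms_inl (P : Pows) (x : Term) (i' : Fin D.rank) :
    ∀ (l : List (ℕ × ℤ)) (i : ℕ), sem D t u (chainTerms P x i l) (Sum.inl i') = 0
  | [], i => by simp [chainTerms, sem]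
  | (w, M) :: l, i => by
    have : chainTerms P x i ((w, M) :: l) =
      scaleTerms (2 * w + 1) M (P.get i) x ++ chainTerms P x (i + 1) l := rfl
    rw [this, sem_append, Pi.add_apply, sem_chainTerms_inl P x i' l (i + 1), sem_scaleTerms,
      if_neg (by simp only [keyOf]; omega), add_zero]

theorem sem_chainTerms_inr (P : Pows) (τ : F) (hP : P.OK t u τ) (x : Term) (u' : Fin D.nroots) :
    ∀ (l : List (ℕ × ℤ)) (i : ℕ), i + l.length ≤ 3 →
      sem D t u (chainTerms P x i l) (Sum.inr u') =
        ((((l.zipIdx i).filter (fun q => q.1.1 = u'.val)).map fun q => (q.2 + 1, q.1.2)).map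
          fun km => ((km.2 : ℤ) : F) * τ ^ km.1).sum * x.eval t u
  | [], i, _ => by simp [chainTerms, sem]
  | (w, M) :: l, i, hlen => by
    have e : chainTerms P x i ((w, M) :: l) =
      scaleTerms (2 * w + 1) M (P.get i) x ++ chainTerms P x (i + 1) l := rfl
    have hlen' : (i + 1) + l.length ≤ 3 := by simp only [List.length_cons] at hlen; omega
    rw [e, sem_append, Pi.add_apply, sem_chainTerms_inr P τ hP x u' l (i + 1) hlen', sem_scaleTerms,
      List.zipIdx_cons, P.get_eval t u τ hP i (by simp only [List.length_cons] at hlen; omega)]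
    by_cases hw : w = u'.val
    · rw [List.filter_cons_of_pos (by simpa using hw), if_pos (by simp only [keyOf]; omega)]
      simp only [List.map_cons, List.sum_cons]
      ring
    · rw [List.filter_cons_of_neg (by simpa using hw), if_neg (by simp only [keyOf]; omega), zero_add]

theorem sem_corTerms_inr (p : Poly) (x : Term) (u' : Fin D.nroots) :
    ∀ (l : List ℤ) (i : ℕ), sem D t u (corTerms p x i l) (Sum.inr u') = 0
  | [], i => by simp [corTerms, sem]
  | c :: l, i => by
    have : corTerms p x i (c :: l) = scaleTerms (2 * i) c p x ++ corTerms p x (i + 1) l := rfl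
    rw [this, sem_append, Pi.add_apply, sem_corTerms_inr p x u' l (i + 1), sem_scaleTerms,
      if_neg (by simp only [keyOf]; omega), add_zero]

theorem sem_corTerms_inl (p : Poly) (x : Term) (i' : Fin D.rank) :
    ∀ (l : List ℤ) (i : ℕ), sem D t u (corTerms p x i l) (Sum.inl i') =
      if i ≤ i'.val then ((l.getD (i'.val - i) 0 : ℤ) : F) * Poly.eval t u p * x.eval t u else 0
  | [], i => by simp [corTerms, sem]
  | c :: l, i => by
    have : corTerms p x i (c :: l) = scaleTerms (2 * i) c p x ++ corTerms p x (i + 1) l := rfl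
    rw [this, sem_append, Pi.add_apply, sem_corTerms_inl p x i' l (i + 1), sem_scaleTerms]
    rcases Nat.lt_trichotomy i'.val i with h | h | h
    · rw [if_neg (by simp only [keyOf]; omega), if_neg (by omega), if_neg (by omega), add_zero]
    · rw [if_pos (by simp only [keyOf]; omega), if_neg (by omega), if_pos (by omega), add_zero]
      have : i'.val - i = 0 := by omega
      rw [this]; simp
    · rw [if_neg (by simp only [keyOf]; omega), if_pos (by omega), if_pos (by omega), zero_add]
      obtain ⟨d, hd⟩ : ∃ d, i'.val - i = d + 1 := ⟨i'.val - i - 1, by omega⟩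
      have : i'.val - (i + 1) = d := by omega
      rw [hd, this]; simp

theorem keyOf_inl (i : Fin D.rank) : keyOf D (Sum.inl i) = 2 * i.val := rfl

theorem keyOf_inr (s : Fin D.nroots) : keyOf D (Sum.inr s) = 2 * s.val + 1 := rfl

theorem validKey_iff (k : ℕ) : validKey D.rank D.nroots k = true ↔ ∃ col : D.Idx, keyOf D col = k := by
  unfold validKey
  constructor
  · intro h
    split_ifs at h with h2
    · have hlt : k / 2 < D.rank := by simpa using h
      exact ⟨Sum.inl ⟨k / 2, hlt⟩, by rw [keyOf_inl]; simp only; omega⟩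
    · have hlt : k / 2 < D.nroots := by simpa using h
      exact ⟨Sum.inr ⟨k / 2, hlt⟩, by rw [keyOf_inr]; simp only; omega⟩
  · rintro ⟨col, rfl⟩
    rcases col with i | s
    · have h2 : (keyOf D (Sum.inl i)) % 2 = 0 := by rw [keyOf_inl]; omega
      rw [if_pos h2]
      exact decide_eq_true (by rw [keyOf_inl]; have := i.isLt; omega)
    · have h2 : ¬ ((keyOf D (Sum.inr s)) % 2 = 0) := by rw [keyOf_inr]; omega
      rw [if_neg h2]
      exact decide_eq_true (by rw [keyOf_inr]; have := s.isLt; omega)

theorem sem_single_eq_pi_single (x : Term) (col : D.Idx) (h : keyOf D col = x.k) :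
    sem D t u [x] = Pi.single col (x.eval t u) := by
  funext idx
  rw [sem_single_apply, Pi.single_apply]
  by_cases hi : idx = col
  · subst hi; rw [if_pos h, if_pos rfl]
  · rw [if_neg hi, if_neg]
    intro h'
    exact hi (keyOf_injective D (h'.trans h.symm))

theorem keyOf_inl_even (i' : Fin D.rank) (j : ℕ) : keyOf D (Sum.inl i') = 2 * j ↔ i'.val = j := by
  rw [keyOf_inl]; constructor <;> intro h <;> omega

theorem keyOf_inl_odd (i' : Fin D.rank) (j : ℕ) : keyOf D (Sum.inl i') = 2 * j + 1 ↔ False := by
  rw [keyOf_inl, iff_false]; omega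

theorem keyOf_inr_odd (u' : Fin D.nroots) (j : ℕ) : keyOf D (Sum.inr u') = 2 * j + 1 ↔ u'.val = j := by
  rw [keyOf_inr]; constructor <;> intro h <;> omega

theorem keyOf_inr_even (u' : Fin D.nroots) (j : ℕ) : keyOf D (Sum.inr u') = 2 * j ↔ False := by
  rw [keyOf_inr, iff_false]; omega

theorem xMat_inl_inl (r : Fin D.nroots) (τ : F) (i' i : Fin D.rank) :
    D.xMat F r τ (Sum.inl i') (Sum.inl i) = if i'.val = i.val then 1 else 0 := by
  show (if i' = i then (1 : F) else 0) = _
  simp only [Fin.ext_iff]

theorem xMat_inr_inl (r : Fin D.nroots) (τ : F) (u' : Fin D.nroots) (i : Fin D.rank) :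
    D.xMat F r τ (Sum.inr u') (Sum.inl i) =
      if u'.val = r.val then - (((D.cartanSR.getD i.val #[]).getD r.val 0 : ℤ) : F) * τ else 0 := by
  show (if u' = r then _ else (0 : F)) = _
  simp only [Fin.ext_iff]

theorem xMat_inl_inr_self (r : Fin D.nroots) (τ : F) (i' : Fin D.rank) :
    D.xMat F r τ (Sum.inl i') (Sum.inr r) = 0 := by
  unfold ChevalleyDatum.xMat
  simp only [Matrix.of_apply, if_true]

theorem xMat_inr_inr_self (r : Fin D.nroots) (τ : F) (u' : Fin D.nroots) :
    D.xMat F r τ (Sum.inr u') (Sum.inr r) = if u'.val = r.val then 1 else 0 := by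
  unfold ChevalleyDatum.xMat
  simp only [Matrix.of_apply, if_true, Fin.ext_iff]

theorem xMat_inl_inr_neg (r s : Fin D.nroots) (τ : F) (i' : Fin D.rank) (h1 : s ≠ r)
    (h2 : s.val = D.negIdx.getD r.val 0) :
    D.xMat F r τ (Sum.inl i') (Sum.inr s) = (((D.coroot.getD r.val #[]).getD i'.val 0 : ℤ) : F) * τ := by
  unfold ChevalleyDatum.xMat
  simp only [Matrix.of_apply]
  rw [if_neg h1, if_pos h2]

theorem xMat_inr_inr_neg (r s : Fin D.nroots) (τ : F) (u' : Fin D.nroots) (h1 : s ≠ r)
    (h2 : s.val = D.negIdx.getD r.val 0) :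
    D.xMat F r τ (Sum.inr u') (Sum.inr s) =
      if u'.val = s.val then 1 else if u'.val = r.val then -(τ ^ 2) else 0 := by
  unfold ChevalleyDatum.xMat
  simp only [Matrix.of_apply]
  rw [if_neg h1, if_pos h2]
  simp only [Fin.ext_iff]

theorem xMat_inl_inr_gen (r s : Fin D.nroots) (τ : F) (i' : Fin D.rank) (h1 : s ≠ r)
    (h2 : s.val ≠ D.negIdx.getD r.val 0) :
    D.xMat F r τ (Sum.inl i') (Sum.inr s) = 0 := by
  unfold ChevalleyDatum.xMat
  simp only [Matrix.of_apply]
  rw [if_neg h1, if_neg h2]

theorem xMat_inr_inr_gen (r s : Fin D.nroots) (τ : F) (u' : Fin D.nroots) (h1 : s ≠ r)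
    (h2 : s.val ≠ D.negIdx.getD r.val 0) :
    D.xMat F r τ (Sum.inr u') (Sum.inr s) = (if u'.val = s.val then 1 else 0) +
      ((D.chainCoeff r.val s.val u'.val).map fun km => ((km.2 : ℤ) : F) * τ ^ km.1).sum := by
  unfold ChevalleyDatum.xMat
  simp only [Matrix.of_apply]
  rw [if_neg h1, if_neg h2]
  simp only [Fin.ext_iff]

/-- Soundness of `xCol`: it computes the action of `x_r(τ)` on a term. -/
theorem xCol_sound (R : FRow) (hR : R.Valid D) (P : Pows) (τ : F) (hP : P.OK t u τ) (x : Term) :
    sem D t u (xCol D.rank D.nroots R P x) = (D.x F R.r τ).mulVec (sem D t u [x]) := by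
  unfold xCol
  by_cases hv : validKey D.rank D.nroots x.k = true
  swap
  · rw [if_neg hv, sem_nil]
    have : sem D t u [x] = (0 : D.Idx → F) := by
      funext idx
      rw [sem_single_apply, if_neg]
      · rfl
      · intro h
        exact hv ((validKey_iff D x.k).mpr ⟨idx, h⟩)
    rw [this, Matrix.mulVec_zero]
  rw [if_pos hv]
  obtain ⟨col, hcol⟩ := (validKey_iff D x.k).mp hv
  rw [sem_single_eq_pi_single D t u x col hcol, Matrix.mulVec_single]
  have hx : D.x F R.r τ = D.xMat F ⟨R.r, hR.lt⟩ τ := by
    unfold ChevalleyDatum.x; rw [dif_pos hR.lt]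
  rw [hx]
  funext row
  simp only [Pi.smul_apply, Matrix.col_apply, MulOpposite.smul_eq_mul_unop, MulOpposite.unop_op]
  rcases col with i | s
  · -- column of h_i
    have hk : x.k = 2 * i.val := hcol.symm
    have h0 : x.k % 2 = 0 := by omega
    have h1 : x.k / 2 = i.val := by omega
    rw [if_pos h0, sem_cons_apply, sem_scaleTerms, h1, hR.car_eq i.val i.isLt, hP.1, hk]
    rcases row with i' | u'
    · rw [xMat_inl_inl]
      simp only [keyOf_inl_even, keyOf_inl_odd, if_false, add_zero]
      split_ifs <;> ring
    · rw [xMat_inr_inl]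
      simp only [keyOf_inr_even, keyOf_inr_odd, if_false, zero_add, Int.cast_neg]
      split_ifs <;> ring
  · -- column of e_s
    have hk : x.k = 2 * s.val + 1 := hcol.symm
    have h0 : ¬ (x.k % 2 = 0) := by omega
    have h1 : x.k / 2 = s.val := by omega
    rw [if_neg h0, h1]
    by_cases hsr : s.val = R.r
    · -- s = r
      rw [if_pos hsr]
      have hsr' : s = ⟨R.r, hR.lt⟩ := Fin.ext hsr
      rw [sem_single_apply, ← hsr', hk]
      rcases row with i' | u'
      · rw [xMat_inl_inr_self]
        simp only [keyOf_inl_odd, if_false, zero_mul]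
      · rw [xMat_inr_inr_self]
        simp only [keyOf_inr_odd]
        split_ifs <;> ring
    · rw [if_neg hsr]
      have hsr' : s ≠ ⟨R.r, hR.lt⟩ := fun h => hsr (by rw [h])
      by_cases hsn : s.val = R.neg
      · -- s = -r
        rw [if_pos hsn, sem_cons_apply, sem_append, Pi.add_apply, sem_scaleTerms, hP.2.1, hk]
        have hsn' : s.val = D.negIdx.getD R.r 0 := by rw [hsn, hR.neg_eq]
        rcases row with i' | u'
        · rw [xMat_inl_inr_neg D _ s τ i' hsr' hsn', sem_corTerms_inl, if_pos (Nat.zero_le _), Nat.sub_zero,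
            hR.cor_eq i'.val i'.isLt, hP.1]
          simp only [keyOf_inl_odd, if_false, zero_add, add_zero]
        · rw [xMat_inr_inr_neg D _ s τ u' hsr' hsn', sem_corTerms_inr, zero_add]
          simp only [keyOf_inr_odd, Int.cast_neg, Int.cast_one]
          by_cases hus : u'.val = s.val
          · rw [if_pos hus, if_pos hus, if_neg (by omega)]
            ring
          · rw [if_neg hus, if_neg hus]
            split_ifs <;> ring
      · -- generic s
        rw [if_neg hsn, sem_cons_apply, hk]
        have hsn' : s.val ≠ D.negIdx.getD R.r 0 := by rw [← hR.neg_eq]; exact hsn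
        have hent : EntryOK (entryOf (rowOf D R.r) s.val) := entryOf_ok _ hR.rowOK _
        rw [hR.tbl_eq, lookup_mkTbl _ hR.rowOK]
        rcases row with i' | u'
        · rw [xMat_inl_inr_gen D _ s τ i' hsr' hsn', sem_chainTerms_inl]
          simp only [keyOf_inl_odd, if_false, zero_add, zero_mul]
        · rw [xMat_inr_inr_gen D _ s τ u' hsr' hsn',
            sem_chainTerms_inr D t u P τ hP x u' _ 0 (by have := hent.1; omega),
            chainCoeff_eq D R.r s.val u'.val hR.rowOK]
          simp only [keyOf_inr_odd]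
          split_ifs <;> ring

end ColSem

/-! ### Oracles: matrices acting on sparse vectors -/

section Oracle

variable (D : ChevalleyDatum) {F : Type*} [Field F] (t u : Fˣ)

/-- `f` computes the action of the matrix `M` on terms. -/
def IsOracle (f : Term → SVec) (M : Matrix D.Idx D.Idx F) : Prop :=
  ∀ x : Term, sem D t u (f x) = M.mulVec (sem D t u [x])

variable {D t u}

theorem IsOracle.flatMap {f : Term → SVec} {M : Matrix D.Idx D.Idx F} (h : IsOracle D t u f M) (v : SVec) :
    sem D t u (v.flatMap f) = M.mulVec (sem D t u v) := by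
  induction v with
  | nil => simp [sem_nil]
  | cons x v ih =>
    rw [List.flatMap_cons, sem_append, ih, h x, sem_cons D t u x v, Matrix.mulVec_add]

/-- Apply an oracle to a sparse vector and normalise. -/
def applyO (f : Term → SVec) (v : SVec) : SVec := norm (v.flatMap f)

theorem IsOracle.applyO {f : Term → SVec} {M : Matrix D.Idx D.Idx F} (h : IsOracle D t u f M) (v : SVec) :
    sem D t u (applyO f v) = M.mulVec (sem D t u v) := by
  unfold Cfsg.Agent.Lib.Helper18_ChevEngine.applyO
  rw [sem_norm, h.flatMap]

theorem isOracle_one : IsOracle D t u (fun x => [x]) (1 : Matrix D.Idx D.Idx F) := by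
  intro x; rw [Matrix.one_mulVec]

theorem IsOracle.mul {f g : Term → SVec} {M N : Matrix D.Idx D.Idx F}
    (hf : IsOracle D t u f M) (hg : IsOracle D t u g N) :
    IsOracle D t u (fun x => Cfsg.Agent.Lib.Helper18_ChevEngine.applyO f (g x)) (M * N) := by
  intro x
  rw [hf.applyO, hg x, Matrix.mulVec_mulVec]

/-- The oracle of `x_r(τ)`. -/
theorem isOracle_x (R : FRow) (hR : R.Valid D) (P : Pows) (τ : F) (hP : P.OK t u τ) :
    IsOracle D t u (xCol D.rank D.nroots R P) (D.x F R.r τ) :=
  fun x => xCol_sound D t u R hR P τ hP x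

/-- The keys of all coordinates. -/
def allKeys (rank nroots : ℕ) : List ℕ :=
  (List.range rank).map (fun i => 2 * i) ++ (List.range nroots).map (fun s => 2 * s + 1)

theorem keyOf_mem_allKeys (col : D.Idx) : keyOf D col ∈ allKeys D.rank D.nroots := by
  unfold allKeys
  rw [List.mem_append]
  rcases col with i | s
  · left; exact List.mem_map.mpr ⟨i.val, List.mem_range.mpr i.isLt, rfl⟩
  · right; exact List.mem_map.mpr ⟨s.val, List.mem_range.mpr s.isLt, rfl⟩

/-- Two oracles agree on all coordinate vectors. -/
def colsEq (rank nroots : ℕ) (f g : Term → SVec) : Bool :=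
  (allKeys rank nroots).all fun k => isZero (f ⟨k, 1, 0, 0⟩ ++ negVec (g ⟨k, 1, 0, 0⟩))

theorem eq_of_colsEq {f g : Term → SVec} {M N : Matrix D.Idx D.Idx F}
    (hf : IsOracle D t u f M) (hg : IsOracle D t u g N) (h : colsEq D.rank D.nroots f g = true) : M = N := by
  apply Matrix.ext_of_mulVec_single
  intro col
  have hmem := keyOf_mem_allKeys (D := D) col
  unfold colsEq at h
  rw [List.all_eq_true] at h
  have h1 := sem_eq_of_isZero D t u _ _ (h _ hmem)
  have hs : sem D t u [⟨keyOf D col, 1, 0, 0⟩] = (Pi.single col 1 : D.Idx → F) := by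
    rw [sem_single_eq_pi_single D t u _ col rfl]
    simp [Term.eval, monoVal_zero]
  rw [hf _, hg _, hs] at h1
  exact h1

end Oracle

/-! ### Row data of a datum -/

section Rows

variable (D : ChevalleyDatum)

/-- The row data of the root `r`, computed by direct indexing (slow, used as specification). -/
def specRow (r : ℕ) : FRow :=
  ⟨r, D.negIdx.getD r 0, mkTbl (rowOf D r),
    (List.range D.rank).map (fun i => (D.coroot.getD r #[]).getD i 0),
    (List.range D.rank).map (fun i => (D.cartanSR.getD i #[]).getD r 0)⟩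

theorem specRow_valid (r : ℕ) (hr : r < D.nroots) (hrow : RowOK (rowOf D r)) : (specRow D r).Valid D where
  lt := hr
  neg_eq := rfl
  tbl_eq := rfl
  rowOK := hrow
  cor_eq := by
    intro i hi
    simp only [specRow]
    rw [List.getD_eq_getElem?_getD, List.getElem?_map, List.getElem?_range hi]
    rfl
  car_eq := by
    intro i hi
    simp only [specRow]
    rw [List.getD_eq_getElem?_getD, List.getElem?_map, List.getElem?_range hi]
    rfl

/-- Transpose a list of rows, giving `n` columns. -/
def transposeL : ℕ → List (List ℤ) → List (List ℤ)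
  | 0, _ => []
  | n + 1, rows => (rows.map fun l => l.headD 0) :: transposeL n (rows.map List.tail)

def mkRowsAux : ℕ → List ℕ → List (Array (ℕ × Array (ℕ × ℤ))) → List (Array ℤ) → List (List ℤ) → List FRow
  | i, ng :: ngs, ch :: chs, co :: cos, ca :: cas =>
      ⟨i, ng, mkTbl (ch.toList.map fun e => (e.1, e.2.toList)), co.toList, ca⟩ :: mkRowsAux (i + 1) ngs chs cos cas
  | _, _, _, _, _ => []

/-- The row data of all roots, computed in one pass over the tables (fast). -/
def mkRows : List FRow :=
  mkRowsAux 0 D.negIdx.toList D.chain.toList D.coroot.toList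
    (transposeL D.nroots (D.cartanSR.toList.map Array.toList))

/-- The fast rows agree with the specification and all rows are well formed. -/
def RowsOK : Prop :=
  mkRows D = (List.range D.nroots).map (specRow D) ∧ ∀ r < D.nroots, RowOKFrom 0 (rowOf D r)

instance : Decidable (RowsOK D) := inferInstanceAs (Decidable (_ ∧ _))

variable {D}

theorem RowsOK.getElem? (h : RowsOK D) (r : ℕ) (hr : r < D.nroots) : (mkRows D)[r]? = some (specRow D r) := by
  rw [h.1, List.getElem?_map, List.getElem?_range hr]
  rfl

theorem RowsOK.valid (h : RowsOK D) (r : ℕ) (hr : r < D.nroots) : (specRow D r).Valid D :=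
  specRow_valid D r hr (RowOKFrom.rowOK _ 0 (h.2 r hr))

theorem RowsOK.mem (h : RowsOK D) (r : ℕ) (hr : r < D.nroots) : specRow D r ∈ mkRows D := by
  rw [h.1]
  exact List.mem_map.mpr ⟨r, List.mem_range.mpr hr, rfl⟩

end Rows

end Cfsg.Agent.Lib.Helper18_ChevEngine
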