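import Cfsg.Agent.Lib.Helper18_ChevSimple2

set_option autoImplicit false

/-!
Table facts extracted from the certificates of the fundamental roots.
-/

namespace Cfsg.Agent.Lib.Helper18_ChevFacts

open Cfsg Cfsg.Lie Cfsg.Agent.Lib.Helper18_ChevFast Cfsg.Agent.Lib.Helper18_ChevEngine
  Cfsg.Agent.Lib.Helper18_ChevR1 Cfsg.Agent.Lib.Helper18_ChevN Cfsg.Agent.Lib.Helper18_ChevR4
  Cfsg.Agent.Lib.Helper18_ChevSimple Cfsg.Agent.Lib.Helper18_ChevSimple2

/-- The coefficient `c_j(r)` of the coroot of `r`. -/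
def cor (D : ChevalleyDatum) (r j : ℕ) : ℤ := (D.coroot.getD r #[]).getD j 0

theorem dotFrom_range' (car : List ℤ) (f : ℕ → ℤ) : ∀ (m n : ℕ),
    dotFrom car n ((List.range' n m).map f) = ∑ j ∈ Finset.range m, car.getD (n + j) 0 * f (n + j)
  | 0, n => by simp [dotFrom]
  | m + 1, n => by
    rw [List.range'_succ, List.map_cons, dotFrom, dotFrom_range' car f m (n + 1), Finset.sum_range_succ']
    simp only [Nat.add_zero]
    rw [add_comm]
    congr 1
    apply Finset.sum_congr rfl
    intro j _
    rw [show n + 1 + j = n + (j + 1) by omega]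

theorem dotFrom_range (car : List ℤ) (f : ℕ → ℤ) (m : ℕ) :
    dotFrom car 0 ((List.range m).map f) = ∑ j ∈ Finset.range m, car.getD j 0 * f j := by
  rw [List.range_eq_range', dotFrom_range']
  simp

/-- Facts about the reflection in the `i`-th fundamental root at the root `s`. -/
structure R4Facts (D : ChevalleyDatum) (i : ℕ) (N : NData) (s : ℕ) : Prop where
  refl_lt : D.reflectRoot i s < D.nroots
  neg_lt : D.neg s < D.nroots
  neg_ne : D.neg (D.reflectRoot i s) ≠ D.reflectRoot i s
  refl_neg : D.reflectRoot i (D.neg s) = D.neg (D.reflectRoot i s)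
  eta_neg : N.eta.getD (D.neg s) 0 = N.eta.getD s 0
  car : ∀ j < D.rank, D.cartan j s =
    D.cartan j (D.reflectRoot i s) - D.cartan j (D.simple i) * D.cartan i (D.reflectRoot i s)
  cor : ∀ j < D.rank, cor D (D.reflectRoot i s) j =
    cor D s j - (if j = i then ∑ k ∈ Finset.range D.rank, D.cartan k (D.simple i) * cor D s k else 0)

variable {D : ChevalleyDatum} {i : ℕ} {N : NData}

theorem specRow_car (r j : ℕ) (hj : j < D.rank) : (specRow D r).car.getD j 0 = D.cartan j r := by
  simp only [specRow]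
  rw [List.getD_eq_getElem?_getD, List.getElem?_map, List.getElem?_range hj]
  rfl

theorem specRow_cor (r j : ℕ) (hj : j < D.rank) : (specRow D r).cor.getD j 0 = cor D r j := by
  simp only [specRow]
  rw [List.getD_eq_getElem?_getD, List.getElem?_map, List.getElem?_range hj]
  rfl

theorem facts (hrows : RowsOK D) (c : NCert D i N) (s : ℕ) (hs : s < D.nroots) : R4Facts D i N s := by
  have hR := c.r4 s hs
  unfold r4At at hR
  rw [hrows.getElem? s hs] at hR
  have hrr : (specRow D s).r = s := rfl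
  simp only [hrr] at hR
  split at hR
  swap
  · exact absurd hR (by simp)
  rename_i R' hR'
  have hmem : R' ∈ mkRows D := List.mem_of_getElem? hR'
  rw [hrows.1, List.mem_map] at hmem
  obtain ⟨k, hk, rfl⟩ := hmem
  rw [List.mem_range] at hk
  have hi := c.hi
  have hN := c.small
  simp only [checkR4, Bool.and_eq_true, decide_eq_true_eq, List.all_eq_true, List.mem_range,
    Bool.or_eq_true] at hR
  obtain ⟨⟨⟨⟨⟨⟨⟨⟨⟨⟨hr', _⟩, hneglt⟩, hneg'⟩, hneglt'⟩, hcorlen⟩, hcar⟩, hpineg⟩, hsq⟩, hcor⟩, _⟩ := hR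
  have hkr : (specRow D k).r = k := rfl
  have hsn : (specRow D s).neg = D.neg s := rfl
  have hkn : (specRow D k).neg = D.neg k := rfl
  rw [hkr, hrr, piAt_eq D.nroots N hN, c.pi_getD s hs] at hr'
  subst hr'
  rw [hsn] at hneglt hpineg hsq hcor
  rw [hkn, hkr] at hneg'
  rw [hkn] at hneglt' hpineg
  rw [piAt_eq D.nroots N hN, c.pi_getD _ hneglt] at hpineg
  rw [hrr, etaAt_eq D.nroots N hN s hs, etaAt_eq D.nroots N hN _ hneglt] at hsq
  have hen : N.eta.getD (D.neg s) 0 * N.eta.getD s 0 = 1 := by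
    rcases c.eta_getD s hs with h | h <;> rw [h] at hsq ⊢ <;> omega
  have hee : N.eta.getD (D.neg s) 0 = N.eta.getD s 0 := by
    rcases c.eta_getD s hs with h | h <;> rw [h] at hen ⊢ <;> omega
  refine ⟨hk, hneglt, hneg', hpineg, hee, ?_, ?_⟩
  · intro j hj
    have := hcar j hj
    rw [specRow_car s j hj, specRow_car _ j hj, specRow_car _ _ (c.idx ▸ hi), c.car_eq,
      rowAt_mkRows hrows _ c.simple_lt, specRow_car _ j hj, c.idx] at this
    exact this
  · intro j hj
    have := hcor j hj
    rw [hrr, etaAt_eq D.nroots N hN s hs, etaAt_eq D.nroots N hN _ hneglt, hen, one_mul,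
      specRow_cor s j hj, specRow_cor _ j hj, c.idx] at this
    rw [← this]
    congr 1
    split_ifs
    · have e : (specRow D s).cor = (List.range D.rank).map (cor D s) := rfl
      rw [e, dotFrom_range]
      apply Finset.sum_congr rfl
      intro k' hk'
      rw [Finset.mem_range] at hk'
      rw [c.car_eq, rowAt_mkRows hrows _ c.simple_lt, specRow_car _ k' hk']
    · rfl

end Cfsg.Agent.Lib.Helper18_ChevFacts
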