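import Cfsg.Prelude.Def_ChevStructure

set_option autoImplicit false

/-!
Fast (kernel-friendly) access to the chain tables of a `ChevalleyDatum`: each row `chain[r]` is packed into a single
natural number (base `2^36` digits indexed by the key `s`), so that the entry for a key can be read off with a
division and a remainder.  The packing is proved correct for rows with strictly increasing keys and small entries.
-/

namespace Cfsg.Agent.Lib.Helper18_ChevFast

open Cfsg Cfsg.Lie

/-- The base of the packed row table: `2^36 = 4096^3`. -/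
def B : ℕ := 68719476736

theorem B_eq : B = 4096 * 4096 * 4096 := by decide

theorem B_pos : 0 < B := by decide

/-- Code of one chain step `(u, M)`: positive, below `4096` when `u < 255` and `-8 ≤ M ≤ 7`. -/
def codeStep (x : ℕ × ℤ) : ℕ := (x.1 + 1) * 16 + (x.2 + 8).toNat

def decodeStep (d : ℕ) : ℕ × ℤ := (d / 16 - 1, ((d % 16 : ℕ) : ℤ) - 8)

/-- A chain step is small enough to be coded. -/
def StepOK (x : ℕ × ℤ) : Prop := x.1 < 255 ∧ -8 ≤ x.2 ∧ x.2 ≤ 7

instance (x : ℕ × ℤ) : Decidable (StepOK x) := inferInstanceAs (Decidable (_ ∧ _ ∧ _))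

theorem decodeStep_codeStep (x : ℕ × ℤ) (h : StepOK x) : decodeStep (codeStep x) = x := by
  obtain ⟨u, M⟩ := x
  obtain ⟨_, h2, h3⟩ := h
  simp only at h2 h3
  unfold decodeStep codeStep
  simp only
  have hM : ((M + 8).toNat : ℤ) = M + 8 := Int.toNat_of_nonneg (by omega)
  have hlt : (M + 8).toNat < 16 := by omega
  have h1 : ((u + 1) * 16 + (M + 8).toNat) / 16 = u + 1 := by omega
  have h2' : ((u + 1) * 16 + (M + 8).toNat) % 16 = (M + 8).toNat := by omega
  rw [h1, h2', hM]
  simp

theorem codeStep_pos (x : ℕ × ℤ) : 0 < codeStep x := by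
  unfold codeStep; omega

theorem codeStep_lt (x : ℕ × ℤ) (h : StepOK x) : codeStep x < 4096 := by
  obtain ⟨h1, h2, h3⟩ := h
  unfold codeStep
  have hlt : (x.2 + 8).toNat < 16 := by omega
  omega

/-- Code of a chain entry (a list of at most three steps). -/
def code : List (ℕ × ℤ) → ℕ
  | [] => 0
  | x :: l => codeStep x + 4096 * code l

/-- Decode a chain entry of at most three steps. -/
def decode3 (n : ℕ) : List (ℕ × ℤ) :=
  if n = 0 then [] else
    decodeStep (n % 4096) ::
      (if n / 4096 = 0 then [] else
        decodeStep (n / 4096 % 4096) ::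
          (if n / 16777216 = 0 then [] else [decodeStep (n / 16777216 % 4096)]))

/-- An entry is small enough to be coded. -/
def EntryOK (l : List (ℕ × ℤ)) : Prop := l.length ≤ 3 ∧ ∀ x ∈ l, StepOK x

instance (l : List (ℕ × ℤ)) : Decidable (EntryOK l) := inferInstanceAs (Decidable (_ ∧ _))

theorem code_lt (l : List (ℕ × ℤ)) (h : EntryOK l) : code l < B := by
  obtain ⟨hlen, hs⟩ := h
  match l, hlen, hs with
  | [], _, _ => simp [code, B]
  | [a], _, hs =>
    have := codeStep_lt a (hs a (by simp))
    simp only [code, B]; omega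
  | [a, b], _, hs =>
    have := codeStep_lt a (hs a (by simp))
    have := codeStep_lt b (hs b (by simp))
    simp only [code, B]; omega
  | [a, b, c], _, hs =>
    have := codeStep_lt a (hs a (by simp))
    have := codeStep_lt b (hs b (by simp))
    have := codeStep_lt c (hs c (by simp))
    simp only [code, B]; omega
  | _ :: _ :: _ :: _ :: _, hlen, _ => simp only [List.length_cons] at hlen; omega

theorem decode3_digits (a b c : ℕ) (ha : a < 4096) (hb : b < 4096) (hc : c < 4096) :
    decode3 (a + 4096 * (b + 4096 * c)) =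
      if a + 4096 * (b + 4096 * c) = 0 then [] else
        decodeStep a :: (if b + 4096 * c = 0 then [] else
          decodeStep b :: (if c = 0 then [] else [decodeStep c])) := by
  have e1 : (a + 4096 * (b + 4096 * c)) % 4096 = a := by omega
  have e2 : (a + 4096 * (b + 4096 * c)) / 4096 = b + 4096 * c := by omega
  have e3 : (a + 4096 * (b + 4096 * c)) / 16777216 = c := by omega
  have e4 : (b + 4096 * c) % 4096 = b := by omega
  have e5 : c % 4096 = c := by omega
  unfold decode3
  rw [e1, e2, e3, e4, e5]

theorem decode3_code (l : List (ℕ × ℤ)) (h : EntryOK l) : decode3 (code l) = l := by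
  obtain ⟨hlen, hs⟩ := h
  match l, hlen, hs with
  | [], _, _ => simp [code, decode3]
  | [a], _, hs =>
    have ha := codeStep_lt a (hs a (by simp))
    have ha' := codeStep_pos a
    have e : code [a] = codeStep a + 4096 * (0 + 4096 * 0) := by simp [code]
    rw [e, decode3_digits _ _ _ ha (by omega) (by omega), if_neg (by omega), if_pos (by omega),
      decodeStep_codeStep a (hs a (by simp))]
  | [a, b], _, hs =>
    have ha := codeStep_lt a (hs a (by simp))
    have ha' := codeStep_pos a
    have hb := codeStep_lt b (hs b (by simp))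
    have hb' := codeStep_pos b
    have e : code [a, b] = codeStep a + 4096 * (codeStep b + 4096 * 0) := by simp [code]
    rw [e, decode3_digits _ _ _ ha hb (by omega), if_neg (by omega), if_neg (by omega), if_pos rfl,
      decodeStep_codeStep a (hs a (by simp)), decodeStep_codeStep b (hs b (by simp))]
  | [a, b, c], _, hs =>
    have ha := codeStep_lt a (hs a (by simp))
    have ha' := codeStep_pos a
    have hb := codeStep_lt b (hs b (by simp))
    have hb' := codeStep_pos b
    have hc := codeStep_lt c (hs c (by simp))
    have hc' := codeStep_pos c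
    have e : code [a, b, c] = codeStep a + 4096 * (codeStep b + 4096 * codeStep c) := by simp [code]
    rw [e, decode3_digits _ _ _ ha hb hc, if_neg (by omega), if_neg (by omega), if_neg (by omega),
      decodeStep_codeStep a (hs a (by simp)), decodeStep_codeStep b (hs b (by simp)),
      decodeStep_codeStep c (hs c (by simp))]
  | _ :: _ :: _ :: _ :: _, hlen, _ => simp only [List.length_cons] at hlen; omega

/-- A row of the chain table, as lists. -/
abbrev Row := List (ℕ × List (ℕ × ℤ))

/-- The packed table of a row: `Σ code(entry) * B ^ key`. -/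
def mkTbl : Row → ℕ
  | [] => 0
  | e :: rest => mkTbl rest + code e.2 * B ^ e.1

/-- Read the entry with key `s` off a packed table. -/
def lookup (tbl : ℕ) (s : ℕ) : List (ℕ × ℤ) := decode3 (tbl / B ^ s % B)

/-- Keys strictly increasing and all entries codable. -/
def RowOK : Row → Prop
  | [] => True
  | e :: rest => EntryOK e.2 ∧ (∀ e' ∈ rest, e.1 < e'.1) ∧ RowOK rest

instance rowOKDec : (row : Row) → Decidable (RowOK row)
  | [] => isTrue trivial
  | e :: rest => by
    unfold RowOK
    haveI := rowOKDec rest
    infer_instance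

theorem dvd_mkTbl (k : ℕ) : ∀ (row : Row), (∀ e ∈ row, k < e.1) → B ^ (k + 1) ∣ mkTbl row
  | [], _ => by simp [mkTbl]
  | e :: rest, h => by
    unfold mkTbl
    apply Dvd.dvd.add
    · exact dvd_mkTbl k rest (fun e' he' => h e' (List.mem_cons_of_mem _ he'))
    · apply Dvd.dvd.mul_left
      exact pow_dvd_pow B (h e (by simp))

/-- Linear-time version of `RowOK`: keys at least `k` and strictly increasing, all entries codable. -/
def RowOKFrom : ℕ → Row → Prop
  | _, [] => True
  | k, e :: rest => k ≤ e.1 ∧ EntryOK e.2 ∧ RowOKFrom (e.1 + 1) rest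

instance rowOKFromDec : (k : ℕ) → (row : Row) → Decidable (RowOKFrom k row)
  | _, [] => isTrue trivial
  | k, e :: rest => by
    unfold RowOKFrom
    haveI := rowOKFromDec (e.1 + 1) rest
    infer_instance

theorem RowOKFrom.keys_ge : ∀ (row : Row) (k : ℕ), RowOKFrom k row → ∀ e ∈ row, k ≤ e.1
  | [], _, _ => by simp
  | e :: rest, k, h => by
    intro e' he'
    rcases List.mem_cons.mp he' with rfl | hmem
    · exact h.1
    · have := RowOKFrom.keys_ge rest (e.1 + 1) h.2.2 e' hmem
      have := h.1
      omega

theorem RowOKFrom.rowOK : ∀ (row : Row) (k : ℕ), RowOKFrom k row → RowOK row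
  | [], _, _ => trivial
  | e :: rest, k, h => by
    refine ⟨h.2.1, ?_, RowOKFrom.rowOK rest (e.1 + 1) h.2.2⟩
    intro e' he'
    have := RowOKFrom.keys_ge rest (e.1 + 1) h.2.2 e' he'
    omega

/-- The entry with key `s` of a row, `[]` if there is none. -/
def entryOf : Row → ℕ → List (ℕ × ℤ)
  | [], _ => []
  | e :: rest, s => if e.1 = s then e.2 else entryOf rest s

theorem entryOf_eq_nil_of_lt : ∀ (rest : Row) (k s : ℕ), (∀ e' ∈ rest, k < e'.1) → s ≤ k → entryOf rest s = []
  | [], _, _, _, _ => rfl
  | e' :: rest', k, s, hkeys, hs => by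
    unfold entryOf
    have := hkeys e' (by simp)
    rw [if_neg (by omega)]
    exact entryOf_eq_nil_of_lt rest' k s (fun e'' he'' => hkeys e'' (List.mem_cons_of_mem _ he'')) hs

theorem digit_mkTbl : ∀ (row : Row), RowOK row → ∀ s, mkTbl row / B ^ s % B = code (entryOf row s)
  | [], _, s => by simp [mkTbl, entryOf, code]
  | (k, ent) :: rest, h, s => by
    obtain ⟨he, hkeys, hrest⟩ := h
    simp only at he hkeys
    have ih := digit_mkTbl rest hrest s
    obtain ⟨m, hm⟩ := dvd_mkTbl k rest hkeys
    have hc := code_lt ent he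
    have hB := B_pos
    unfold mkTbl entryOf
    simp only
    rw [hm]
    have hfac : B ^ (k + 1) * m + code ent * B ^ k = B ^ k * (code ent + B * m) := by ring
    rw [hfac]
    rcases Nat.lt_trichotomy s k with hlt | heq | hgt
    · -- s < key: digit is zero and the entry is absent
      rw [if_neg (by omega), entryOf_eq_nil_of_lt rest k s hkeys (by omega), code]
      obtain ⟨d, rfl⟩ : ∃ d, k = s + (d + 1) := ⟨k - s - 1, by omega⟩
      have : B ^ (s + (d + 1)) * (code ent + B * m) = B ^ s * (B * (B ^ d * (code ent + B * m))) := by ring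
      rw [this, Nat.mul_div_cancel_left _ (pow_pos hB s), Nat.mul_mod_right]
    · subst heq
      rw [if_pos rfl, Nat.mul_div_cancel_left _ (pow_pos hB s), Nat.add_mul_mod_self_left,
        Nat.mod_eq_of_lt hc]
    · rw [if_neg (by omega), ← ih, hm]
      obtain ⟨d, rfl⟩ : ∃ d, s = k + (d + 1) := ⟨s - k - 1, by omega⟩
      have h1 : B ^ (k + (d + 1)) = B ^ k * (B * B ^ d) := by ring
      have h2 : B ^ (k + 1) * m = B ^ k * (B * m) := by ring
      rw [h1, h2, Nat.mul_div_mul_left _ _ (pow_pos hB k), Nat.mul_div_mul_left _ _ (pow_pos hB k),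
        Nat.mul_div_mul_left _ _ hB, ← Nat.div_div_eq_div_mul, Nat.add_mul_div_left _ _ hB,
        Nat.div_eq_of_lt hc, Nat.zero_add]

theorem entryOf_ok : ∀ (row : Row), RowOK row → ∀ s, EntryOK (entryOf row s)
  | [], _, s => by simp [entryOf, EntryOK]
  | e :: rest, h, s => by
    unfold entryOf
    split_ifs
    · exact h.1
    · exact entryOf_ok rest h.2.2 s

/-- Reading a packed table gives back the entry. -/
theorem lookup_mkTbl (row : Row) (h : RowOK row) (s : ℕ) : lookup (mkTbl row) s = entryOf row s := by
  unfold lookup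
  rw [digit_mkTbl row h s, decode3_code _ (entryOf_ok row h s)]

/-- The row `chain[r]` of a datum, as lists. -/
def rowOf (D : ChevalleyDatum) (r : ℕ) : Row :=
  (D.chain.getD r #[]).toList.map fun e => (e.1, e.2.toList)

theorem flatMap_filter_key {β : Type*} (g : List (ℕ × ℤ) → List β) (hg : g [] = []) (s : ℕ) :
    ∀ (L : List (ℕ × Array (ℕ × ℤ))), RowOK (L.map fun e => (e.1, e.2.toList)) →
      (L.filter (fun e => e.1 = s)).flatMap (fun e => g e.2.toList) =
        g (entryOf (L.map fun e => (e.1, e.2.toList)) s)
  | [], _ => by simp [entryOf, hg]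
  | e :: rest, h => by
    obtain ⟨_, hkeys, hrest⟩ := h
    have ih := flatMap_filter_key g hg s rest hrest
    by_cases hes : e.1 = s
    · have hnone : rest.filter (fun e' => e'.1 = s) = [] := by
        rw [List.filter_eq_nil_iff]
        intro e' he'
        have := hkeys (e'.1, e'.2.toList) (List.mem_map.mpr ⟨e', he', rfl⟩)
        simp only at this
        simp; omega
      simp [List.filter_cons, hes, hnone, entryOf]
    · simp only [List.filter_cons, hes, decide_false, Bool.false_eq_true, if_false, List.map_cons, entryOf]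
      exact ih

/-- `chainCoeff` read off the entry of the row. -/
theorem chainCoeff_eq (D : ChevalleyDatum) (r s u : ℕ) (h : RowOK (rowOf D r)) :
    D.chainCoeff r s u =
      (((entryOf (rowOf D r) s).zipIdx).filter (fun q => q.1.1 = u)).map fun q => (q.2 + 1, q.1.2) := by
  unfold ChevalleyDatum.chainCoeff
  exact flatMap_filter_key
    (fun l => ((l.zipIdx).filter (fun q => q.1.1 = u)).map fun q => (q.2 + 1, q.1.2)) (by simp) s _ h

end Cfsg.Agent.Lib.Helper18_ChevFast
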