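import Cfsg.Agent.Lib.Helper18_ChevField

set_option autoImplicit false

/-!
Field automorphisms of the Chevalley groups: the fixed points when the Cartan matrix is invertible up to an integer
`n` such that `x ↦ x ^ n` is injective on the field (for instance `n = 2` in characteristic two).
-/

namespace Cfsg.Agent.Lib.Helper18_ChevField2

open Cfsg Cfsg.Lie Cfsg.Agent.Lib.Helper18_ChevFast Cfsg.Agent.Lib.Helper18_ChevEngine
  Cfsg.Agent.Lib.Helper18_ChevR1 Cfsg.Agent.Lib.Helper18_ChevN Cfsg.Agent.Lib.Helper18_ChevR4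
  Cfsg.Agent.Lib.Helper18_ChevSimple Cfsg.Agent.Lib.Helper18_ChevSimple2 Cfsg.Agent.Lib.Helper18_ChevFacts
  Cfsg.Agent.Lib.Helper18_ChevWeyl Cfsg.Agent.Lib.Helper18_ChevDiag Cfsg.Agent.Lib.Helper18_ChevCar
  Cfsg.Agent.Lib.Helper18_ChevTorus Cfsg.Agent.Lib.Helper18_ChevGL Cfsg.Agent.Lib.Helper18_ChevComm
  Cfsg.Agent.Lib.Helper18_ChevComm2 Cfsg.Agent.Lib.Helper18_MatTri Cfsg.Agent.Lib.Helper18_ChevTri
  Cfsg.Agent.Lib.Helper18_ChevBorel Cfsg.Agent.Lib.Helper18_ChevAdd Cfsg.Agent.Lib.Helper18_ChevUni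
  Cfsg.Agent.Lib.Helper18_ChevBN Cfsg.Agent.Lib.Helper18_ChevMono Cfsg.Agent.Lib.Helper18_ChevBNPair
  Cfsg.Agent.Lib.Helper18_ChevSimp Cfsg.Agent.Lib.Helper18_ChevJCerts Cfsg.Agent.Lib.Helper18_ChevLevi
  Cfsg.Agent.Lib.Helper18_ChevBruhat Cfsg.Agent.Lib.Helper18_ChevPar Cfsg.Agent.Lib.Helper18_ChevRootHom
  Cfsg.Agent.Lib.Helper18_ChevOrder Cfsg.Agent.Lib.Helper18_ChevSylow Cfsg.Agent.Lib.Helper18_ChevCent
  Cfsg.Agent.Lib.Helper18_ChevFrob Cfsg.Agent.Lib.Helper18_ChevField

variable {D : ChevalleyDatum} {Ns : List NData} {F : Type*} [Field F]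
variable {wl : List ℤ} {ws : List (List ℤ)} {sc : ℤ} {w : List ℤ} {d : ℕ}

/-! ### The inverse of the Cartan matrix up to an integer -/

/-- The check that `B` is a right inverse of the Cartan matrix of the fundamental roots up to the factor `n`. -/
def invCartanNOK (D : ChevalleyDatum) (B : List (List ℤ)) (n : ℤ) : Bool :=
  (List.range D.rank).all fun i => (List.range D.rank).all fun k =>
    decide (((List.range D.rank).map fun j => D.cartan i (D.simple j) * invEntry B j k).sum =
      if i = k then n else 0)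

/-- `B` is a right inverse of the Cartan matrix of the fundamental roots up to the factor `n`. -/
def InvCartanN (D : ChevalleyDatum) (B : List (List ℤ)) (n : ℤ) : Prop :=
  ∀ i < D.rank, ∀ k < D.rank,
    ∑ j ∈ Finset.range D.rank, D.cartan i (D.simple j) * invEntry B j k = if i = k then n else 0

theorem invCartanN_of_check (B : List (List ℤ)) (n : ℤ) (h : invCartanNOK D B n = true) : InvCartanN D B n := by
  intro i hi k hk
  unfold invCartanNOK at h
  rw [List.all_eq_true] at h
  have h1 := h i (List.mem_range.mpr hi)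
  rw [List.all_eq_true] at h1
  have h2 := h1 k (List.mem_range.mpr hk)
  rw [decide_eq_true_eq] at h2
  rw [← h2]
  exact Cfsg.Agent.Lib.Helper18_ChevField.sum_range_eq_list _ _

/-- The `n`-th powers of the parameters of a torus element are recovered from its character. -/
theorem param_pow_eq_prod (B : List (List ℤ)) (n : ℕ) (hB : InvCartanN D B n) (t : ℕ → F) (ht : ∀ i, t i ≠ 0)
    (k : ℕ) (hk : k < D.rank) :
    t k ^ n = ∏ j ∈ Finset.range D.rank, torusChar D t (D.simple j) ^ invEntry B j k := by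
  unfold torusChar
  have h1 : ∀ j ∈ Finset.range D.rank,
      (∏ i ∈ Finset.range D.rank, t i ^ D.cartan i (D.simple j)) ^ invEntry B j k =
        ∏ i ∈ Finset.range D.rank, t i ^ (D.cartan i (D.simple j) * invEntry B j k) := by
    intro j _
    rw [← Finset.prod_zpow]
    apply Finset.prod_congr rfl
    intro i _
    rw [zpow_mul]
  rw [Finset.prod_congr rfl h1, Finset.prod_comm]
  have h2 : ∀ i ∈ Finset.range D.rank,
      ∏ j ∈ Finset.range D.rank, t i ^ (D.cartan i (D.simple j) * invEntry B j k) =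
        t i ^ (if i = k then (n : ℤ) else 0) := by
    intro i hi
    rw [← zpow_sum_range (t i) (ht i), hB i (Finset.mem_range.mp hi) k hk]
  rw [Finset.prod_congr rfl h2, Finset.prod_eq_single k]
  · simp
  · intro i _ hik
    rw [if_neg hik, zpow_zero]
  · intro h
    exact absurd (Finset.mem_range.mpr hk) h

/-- A fixed element of `H` lies in the subgroup generated by the root elements with fixed parameters. -/
theorem diagonal_fixed_mem_pow (c : DCert D Ns) (tc : TCert D) (B : List (List ℤ)) (n : ℕ)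
    (hB : InvCartanN D B n) (hinj : ∀ x y : F, x ^ n = y ^ n → x = y)
    (f : F →+* F) (h : GL D.Idx F) (hh : h ∈ D.diagonalSubgroup F) (hfix : mapGL D f h = h) :
    h ∈ Subgroup.closure (fixGens D f) := by
  obtain ⟨t, ht, hk⟩ := exists_torus_of_mem c tc h hh
  have hχ : ∀ s < D.nroots, f (torusChar D t s) = torusChar D t s := by
    intro s hs
    have hent := (mapGL_eq_self_iff f h).mp hfix (Sum.inr ⟨s, hs⟩) (Sum.inr ⟨s, hs⟩)
    rw [hk] at hent
    have hval : torusMat D t (Sum.inr ⟨s, hs⟩) (Sum.inr ⟨s, hs⟩) = torusChar D t s := by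
      unfold torusMat diagMat
      rw [Matrix.diagonal_apply_eq]
      rfl
    rw [hval] at hent
    exact hent
  have hfixt : ∀ k < D.rank, f (t k) = t k := by
    intro k hk'
    apply hinj
    have e := param_pow_eq_prod B n hB t ht k hk'
    rw [← map_pow, e, map_prod]
    apply Finset.prod_congr rfl
    intro j hj
    rw [map_zpow₀, hχ _ (c.ncert j (Finset.mem_range.mp hj)).simple_lt]
  have e : h = torusGL c t D.rank := by
    apply Units.ext
    rw [hk, torusGL_coe c tc t ht D.rank le_rfl]
    rfl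
  rw [e]
  exact torusGL_mem_fix c f t D.rank hfixt

/-- The fixed points of the group are the subgroup generated by the root elements with fixed parameters, as soon as
this holds for the fixed points of `H`. -/
theorem fixed_iff_of (c : DCert D Ns) (tc : TCert D) (ac : ACert D wl ws sc) (gc : GCert D w d)
    (hdesc : Descent D) (hR2 : R2All D F) (f : F →+* F)
    (hH : ∀ h ∈ D.diagonalSubgroup F, mapGL D f h = h → h ∈ Subgroup.closure (fixGens D f))
    (g : GL D.Idx F) : (g ∈ D.group F ∧ mapGL D f g = g) ↔ g ∈ Subgroup.closure (fixGens D f) := by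
  constructor
  · rintro ⟨hg, hfix⟩
    obtain ⟨l₁, hl₁, h, hh, hhfix, l₂, hl₂, rfl⟩ := fixed_decomp c tc ac gc hdesc hR2 f g hg hfix
    exact Subgroup.mul_mem _ (Subgroup.mul_mem _ hl₁ (hH h hh hhfix)) hl₂
  · intro hg
    have hle : Subgroup.closure (fixGens D f) ≤
        D.group F ⊓ ((mapGL D f).eqLocus (MonoidHom.id (GL D.Idx F))) := by
      rw [Subgroup.closure_le]
      rintro s ⟨r, t, ht, hs⟩
      rw [eq_xGL c hs]
      refine ⟨xGL_mem_group c r t, ?_⟩
      show mapGL D f (xGL c r t) = xGL c r t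
      rw [mapGL_xGL, ht]
    exact hle hg

/-- The fixed points of a field automorphism of a Chevalley group over a finite field form the Chevalley group of the
same type over the fixed field, as soon as the fixed points of `H` are generated by root elements. -/
theorem exists_fixed_equiv_of [Fintype F] (c : DCert D Ns) (tc : TCert D) (ac : ACert D wl ws sc) (gc : GCert D w d)
    (hdesc : Descent D) (hR2 : R2All D F)
    (hH : ∀ f : F →+* F, ∀ h ∈ D.diagonalSubgroup F, mapGL D f h = h → h ∈ Subgroup.closure (fixGens D f))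
    (r₀ : ℕ) (hr₀ : r₀ < D.nroots) (φ : MulAut ↥(D.group F)) (hφ : D.IsFieldAut φ)
    (S : Subgroup ↥(D.group F)) (hS : ∀ x, x ∈ S ↔ φ x = x) :
    ∃ (F₀ : Type) (_ : Field F₀) (_ : Fintype F₀), Fintype.card F = Fintype.card F₀ ^ orderOf φ ∧
      Nonempty (↥S ≃* ↥(D.group F₀)) := by
  classical
  obtain ⟨σ, hσ⟩ := hφ
  have hFin : Fintype (FixedPoints.subfield (Subgroup.zpowers (σ : RingAut F)) F) := Fintype.ofFinite _
  let e : Shrink.{0} (FixedPoints.subfield (Subgroup.zpowers (σ : RingAut F)) F) ≃+*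
      FixedPoints.subfield (Subgroup.zpowers (σ : RingAut F)) F := Shrink.ringEquiv _
  have hFin0 : Fintype (Shrink.{0} (FixedPoints.subfield (Subgroup.zpowers (σ : RingAut F)) F)) :=
    Fintype.ofEquiv _ (equivShrink _)
  let ι : Shrink.{0} (FixedPoints.subfield (Subgroup.zpowers (σ : RingAut F)) F) →+* F :=
    (FixedPoints.subfield (Subgroup.zpowers (σ : RingAut F)) F).subtype.comp (e : _ →+* _)
  have hι : ∀ x : F, (σ : F →+* F) x = x ↔ ∃ y, ι y = x := by
    intro x
    show σ x = x ↔ _
    rw [← mem_fixed_iff]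
    constructor
    · intro hx
      refine ⟨e.symm ⟨x, hx⟩, ?_⟩
      show ((e (e.symm ⟨x, hx⟩) : FixedPoints.subfield (Subgroup.zpowers (σ : RingAut F)) F) : F) = x
      rw [RingEquiv.apply_symm_apply]
    · rintro ⟨y, rfl⟩
      exact (e y).2
  refine ⟨Shrink.{0} (FixedPoints.subfield (Subgroup.zpowers (σ : RingAut F)) F), inferInstance, hFin0, ?_, ?_⟩
  · have h1 := card_eq_pow σ
    rw [orderOf_fieldAut c tc ac φ σ hσ r₀ hr₀] at h1
    rw [Fintype.card_eq_nat_card, Fintype.card_eq_nat_card, h1, Nat.card_congr e.toEquiv]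
  · let j1 : ↥S →* GL D.Idx F := (D.group F).subtype.comp (Subgroup.subtype _)
    have hj1 : Function.Injective j1 := Subtype.val_injective.comp Subtype.val_injective
    have hr1 : j1.range = Subgroup.closure (fixGens D (σ : F →+* F)) := by
      ext x
      rw [← fixed_iff_of c tc ac gc hdesc hR2 _ (hH _)]
      constructor
      · rintro ⟨⟨g, hg⟩, rfl⟩
        refine ⟨g.2, ?_⟩
        show mapGL D (σ : F →+* F) (g : GL D.Idx F) = (g : GL D.Idx F)
        rw [← fieldAut_apply c φ σ hσ g]
        exact congrArg Subtype.val ((hS g).mp hg)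
      · rintro ⟨hx, hfix⟩
        refine ⟨⟨⟨x, hx⟩, ?_⟩, rfl⟩
        rw [hS]
        apply Subtype.ext
        rw [fieldAut_apply c φ σ hσ]
        exact hfix
    let j2 : ↥(D.group (Shrink.{0} (FixedPoints.subfield (Subgroup.zpowers (σ : RingAut F)) F))) →*
        GL D.Idx F := (mapGL2 D ι).comp (Subgroup.subtype _)
    have hj2 : Function.Injective j2 := (mapGL2_injective ι).comp Subtype.val_injective
    have hr2 : j2.range = Subgroup.closure (fixGens D (σ : F →+* F)) := by
      rw [MonoidHom.range_comp, Subgroup.range_subtype]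
      exact map_group_eq c ι _ hι
    exact ⟨(MonoidHom.ofInjective hj1).trans
      ((MulEquiv.subgroupCongr (hr1.trans hr2.symm)).trans (MonoidHom.ofInjective hj2).symm)⟩

end Cfsg.Agent.Lib.Helper18_ChevField2
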