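import Cfsg.Agent.Lib.Helper18_ChevTorus

set_option autoImplicit false

/-!
Root elements as elements of the general linear group, and the standard subgroups inside the Chevalley group.
-/

namespace Cfsg.Agent.Lib.Helper18_ChevGL

open Cfsg Cfsg.Lie Cfsg.Agent.Lib.Helper18_ChevFast Cfsg.Agent.Lib.Helper18_ChevEngine
  Cfsg.Agent.Lib.Helper18_ChevR1 Cfsg.Agent.Lib.Helper18_ChevN Cfsg.Agent.Lib.Helper18_ChevR4
  Cfsg.Agent.Lib.Helper18_ChevSimple Cfsg.Agent.Lib.Helper18_ChevSimple2 Cfsg.Agent.Lib.Helper18_ChevFacts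
  Cfsg.Agent.Lib.Helper18_ChevWeyl Cfsg.Agent.Lib.Helper18_ChevDiag Cfsg.Agent.Lib.Helper18_ChevCar
  Cfsg.Agent.Lib.Helper18_ChevTorus

variable {D : ChevalleyDatum} {Ns : List NData} {F : Type*} [Field F]

/-- Additivity for all indices (out of range the root element is the identity). -/
theorem DCert.addAt_all (c : DCert D Ns) (r : ℕ) : AddAt D F r := by
  by_cases hr : r < D.nroots
  · exact c.addAt r hr
  · intro a b
    unfold ChevalleyDatum.x
    rw [dif_neg hr, dif_neg hr, dif_neg hr, mul_one]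

/-- `x_r(t)` as an element of the general linear group. -/
def xGL (c : DCert D Ns) (r : ℕ) (t : F) : GL D.Idx F :=
  ⟨D.x F r t, D.x F r (-t), (DCert.addAt_all c r).mul_neg t, (DCert.addAt_all c r).neg_mul t⟩

@[simp] theorem xGL_coe (c : DCert D Ns) (r : ℕ) (t : F) :
    ((xGL c r t : GL D.Idx F) : Matrix D.Idx D.Idx F) = D.x F r t := rfl

theorem eq_xGL (c : DCert D Ns) {g : GL D.Idx F} {r : ℕ} {t : F}
    (h : (g : Matrix D.Idx D.Idx F) = D.x F r t) : g = xGL c r t :=
  Units.ext h

/-- The product of the root elements of a word, in the general linear group. -/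
def wordGL (c : DCert D Ns) (w : List (ℕ × F)) : GL D.Idx F := (w.map fun p => xGL c p.1 p.2).prod

theorem wordGL_coe (c : DCert D Ns) (w : List (ℕ × F)) :
    ((wordGL c w : GL D.Idx F) : Matrix D.Idx D.Idx F) = D.wordMat F w := by
  unfold wordGL ChevalleyDatum.wordMat
  induction w with
  | nil => simp
  | cons p w ih =>
    rw [List.map_cons, List.prod_cons, List.map_cons, List.prod_cons, Units.val_mul, ih]
    rfl

theorem eq_wordGL (c : DCert D Ns) {g : GL D.Idx F} {w : List (ℕ × F)}
    (h : (g : Matrix D.Idx D.Idx F) = D.wordMat F w) : g = wordGL c w :=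
  Units.ext (by rw [h, wordGL_coe])

theorem xGL_mem_group (c : DCert D Ns) (r : ℕ) (t : F) : xGL c r t ∈ D.group F := by
  by_cases hr : r < D.nroots
  · apply Subgroup.subset_closure
    refine ⟨⟨r, hr⟩, t, ?_⟩
    rw [xGL_coe]
    unfold ChevalleyDatum.x
    rw [dif_pos hr]
  · have : xGL c r t = 1 := by
      apply Units.ext
      rw [xGL_coe]
      unfold ChevalleyDatum.x
      rw [dif_neg hr]
      rfl
    rw [this]
    exact Subgroup.one_mem _

theorem wordGL_mem_group (c : DCert D Ns) (w : List (ℕ × F)) : wordGL c w ∈ D.group F := by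
  unfold wordGL
  apply Subgroup.list_prod_mem
  intro g hg
  rw [List.mem_map] at hg
  obtain ⟨p, _, rfl⟩ := hg
  exact xGL_mem_group c p.1 p.2

theorem posUnipotent_le_group (c : DCert D Ns) : D.posUnipotent F ≤ D.group F := by
  unfold ChevalleyDatum.posUnipotent
  rw [Subgroup.closure_le]
  rintro g ⟨r, t, _, hg⟩
  rw [eq_xGL c hg]
  exact xGL_mem_group c r t

theorem negUnipotent_le_group (c : DCert D Ns) : D.negUnipotent F ≤ D.group F := by
  unfold ChevalleyDatum.negUnipotent
  rw [Subgroup.closure_le]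
  rintro g ⟨r, t, _, hg⟩
  rw [eq_xGL c hg]
  exact xGL_mem_group c r t

theorem diagonal_le_group (c : DCert D Ns) : D.diagonalSubgroup F ≤ D.group F := by
  unfold ChevalleyDatum.diagonalSubgroup
  rw [Subgroup.closure_le]
  rintro g ⟨r, t, _, _, hg⟩
  unfold ChevalleyDatum.hMat at hg
  rw [eq_wordGL c hg]
  exact wordGL_mem_group c _

theorem monomial_le_group (c : DCert D Ns) : D.monomialSubgroup F ≤ D.group F := by
  unfold ChevalleyDatum.monomialSubgroup
  rw [sup_le_iff]
  refine ⟨diagonal_le_group c, ?_⟩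
  rw [Subgroup.closure_le]
  rintro g ⟨r, _, hg⟩
  unfold ChevalleyDatum.nMat at hg
  rw [eq_wordGL c hg]
  exact wordGL_mem_group c _

theorem borel_le_group (c : DCert D Ns) : D.borelSubgroup F ≤ D.group F := by
  unfold ChevalleyDatum.borelSubgroup
  rw [sup_le_iff]
  exact ⟨posUnipotent_le_group c, diagonal_le_group c⟩

/-- The element `n_i = n_{p_i}(1)` in the general linear group. -/
def nGL (c : DCert D Ns) (i : ℕ) : GL D.Idx F := wordGL c (D.nWord (D.simple i) 1)

theorem nGL_coe (c : DCert D Ns) (i : ℕ) :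
    ((nGL c i : GL D.Idx F) : Matrix D.Idx D.Idx F) = D.nMat F (D.simple i) 1 := by
  unfold nGL
  rw [wordGL_coe]
  rfl

theorem nGL_mem_monomial (c : DCert D Ns) (i : ℕ) (hi : i < D.rank) : nGL c i ∈ D.monomialSubgroup F := by
  unfold ChevalleyDatum.monomialSubgroup
  apply Subgroup.mem_sup_right
  apply Subgroup.subset_closure
  exact ⟨D.simple i, (c.ncert i hi).simple_lt, nGL_coe c i⟩

/-- Conjugation of root elements by `n_i` in the general linear group. -/
theorem nGL_conj (c : DCert D Ns) (i : ℕ) (hi : i < D.rank) (s : ℕ) (hs : s < D.nroots) (t : F) :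
    nGL c i * xGL c s t * (nGL c i)⁻¹ = xGL c (D.reflectRoot i s) (((etaZ Ns i s : ℤ) : F) * t) := by
  rw [mul_inv_eq_iff_eq_mul]
  apply Units.ext
  rw [Units.val_mul, Units.val_mul, nGL_coe, xGL_coe, xGL_coe]
  exact c.r4 i hi s hs t

/-- Every root element lies in the subgroup generated by `B` and `N`. -/
theorem xGL_mem_borel_sup_monomial (c : DCert D Ns) (tc : TCert D) (r : ℕ) (hr : r < D.nroots) :
    ∀ t : F, xGL c r t ∈ D.borelSubgroup F ⊔ D.monomialSubgroup F := by
  refine c.root_induction (fun r => ∀ t : F, xGL c r t ∈ D.borelSubgroup F ⊔ D.monomialSubgroup F) ?_ ?_ r hr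
  · intro i hi t
    apply Subgroup.mem_sup_left
    unfold ChevalleyDatum.borelSubgroup
    apply Subgroup.mem_sup_left
    apply Subgroup.subset_closure
    refine ⟨D.simple i, t, ?_, rfl⟩
    exact tc.simple_pos i hi
  · intro i hi s hs h t
    have hη := eta_cast_sq (F := F) (c.etaZ_pm i hi s hs)
    have e := nGL_conj c i hi s hs (((etaZ Ns i s : ℤ) : F) * t)
    rw [← mul_assoc, hη, one_mul] at e
    rw [← e]
    have hn : nGL c i ∈ D.borelSubgroup F ⊔ D.monomialSubgroup F :=
      Subgroup.mem_sup_right (nGL_mem_monomial c i hi)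
    exact Subgroup.mul_mem _ (Subgroup.mul_mem _ hn (h _)) (Subgroup.inv_mem _ hn)

theorem borel_sup_monomial_eq_group (c : DCert D Ns) (tc : TCert D) :
    D.borelSubgroup F ⊔ D.monomialSubgroup F = D.group F := by
  apply le_antisymm
  · rw [sup_le_iff]
    exact ⟨borel_le_group c, monomial_le_group c⟩
  · unfold ChevalleyDatum.group
    rw [Subgroup.closure_le]
    rintro g ⟨r, t, hg⟩
    have hg' : (g : Matrix D.Idx D.Idx F) = D.x F r.val t := by
      rw [hg]; unfold ChevalleyDatum.x; rw [dif_pos r.isLt]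
    rw [eq_xGL c hg']
    exact xGL_mem_borel_sup_monomial c tc r.val r.isLt t

end Cfsg.Agent.Lib.Helper18_ChevGL
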