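import Cfsg.Agent.Lib.Helper18_ChevGraphU
import Cfsg.Agent.Lib.Helper18_ChevField

set_option autoImplicit false

/-!
The exceptional graph automorphisms over a perfect field, by restriction from a larger field (over which the group is
simple): an automorphism of the group over the larger field that maps `x_r(t)` to `x_{π r}(ε_r t^{λ_r})` restricts to
the group over the smaller field.
-/

namespace Cfsg.Agent.Lib.Helper18_ChevGraphR

open Cfsg Cfsg.Lie Cfsg.Agent.Lib.Helper36_ChevSparse Cfsg.Agent.Lib.Helper36_ChevCoeff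
  Cfsg.Agent.Lib.Helper18_ChevGraphT Cfsg.Agent.Lib.Helper18_ChevGraphU Cfsg.Agent.Lib.Helper18_ChevFast
  Cfsg.Agent.Lib.Helper18_ChevN Cfsg.Agent.Lib.Helper18_ChevWeyl
  Cfsg.Agent.Lib.Helper18_ChevGL Cfsg.Agent.Lib.Helper18_ChevAutC Cfsg.Agent.Lib.Helper18_ChevField

/-- The restriction of an automorphism along an injective homomorphism whose range it preserves. -/
theorem exists_restrict {G H : Type*} [Group G] [Group H] (Φ : G →* H) (hΦ : Function.Injective Φ) (ψ : H ≃* H)
    (h1 : ∀ g : G, ψ (Φ g) ∈ Φ.range) (h2 : ∀ g : G, ψ.symm (Φ g) ∈ Φ.range) :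
    ∃ α : G ≃* G, ∀ g, Φ (α g) = ψ (Φ g) := by
  let E : G ≃* Φ.range := MonoidHom.ofInjective hΦ
  have hE : ∀ g, ((E g : Φ.range) : H) = Φ g := fun g => rfl
  let β : Φ.range ≃* Φ.range :=
    { toFun := fun y => ⟨ψ y, by
        obtain ⟨g, hg⟩ := y.2
        rw [← hg]
        exact h1 g⟩
      invFun := fun y => ⟨ψ.symm y, by
        obtain ⟨g, hg⟩ := y.2
        rw [← hg]
        exact h2 g⟩
      left_inv := fun y => Subtype.ext (ψ.symm_apply_apply y)
      right_inv := fun y => Subtype.ext (ψ.apply_symm_apply y)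
      map_mul' := fun y z => Subtype.ext (map_mul ψ (y : H) (z : H)) }
  refine ⟨E.trans (β.trans E.symm), fun g => ?_⟩
  have e1 : (E.trans (β.trans E.symm)) g = E.symm (β (E g)) := rfl
  rw [e1, ← hE, MulEquiv.apply_symm_apply]
  rfl

variable {D : ChevalleyDatum} {Ns : List NData} {K L : Type*} [Field K] [Field L]
variable {p : ℕ} {Tz : SMat} {pi piInv lam : List ℕ} {eps : List ℤ} {r0 i0 j0 : ℕ}

/-- The entrywise map of the group over a field into the group over a larger field. -/
def groupMap (c : DCert D Ns) (f : K →+* L) : ↥(D.group K) →* ↥(D.group L) :=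
  ((mapGL2 D f).comp (D.group K).subtype).codRestrict (D.group L) (by
    intro g
    have hle : D.group K ≤ (D.group L).comap (mapGL2 D f) := by
      unfold ChevalleyDatum.group
      rw [Subgroup.closure_le]
      rintro s ⟨r, t, hs⟩
      have hs' : s = xGL c r.val t := by
        apply Units.ext
        rw [hs, xGL_coe]
        unfold ChevalleyDatum.x
        rw [dif_pos r.isLt]
      show mapGL2 D f s ∈ Subgroup.closure _
      rw [hs', mapGL2_xGL]
      exact xGL_mem_group c _ _
    exact hle g.2)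

theorem groupMap_coe (c : DCert D Ns) (f : K →+* L) (g : ↥(D.group K)) :
    ((groupMap c f g : ↥(D.group L)) : GL D.Idx L) = mapGL2 D f (g : GL D.Idx K) := rfl

theorem groupMap_injective (c : DCert D Ns) (f : K →+* L) : Function.Injective (groupMap c f) := by
  intro g g' h
  apply Subtype.ext
  apply mapGL2_injective f
  rw [← groupMap_coe c, ← groupMap_coe c, h]

theorem groupMap_xG (c : DCert D Ns) (f : K →+* L) (r : ℕ) (t : K) : groupMap c f (xG c r t) = xG c r (f t) := by
  apply Subtype.ext
  rw [groupMap_coe, xG_coe, xG_coe, mapGL2_xGL]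

/-- A property of the elements of the group that holds on the root elements and is preserved by products and
inverses holds for all elements. -/
theorem forall_of_xG (c : DCert D Ns) (T : Subgroup ↥(D.group K)) (h : ∀ r < D.nroots, ∀ t : K, xG c r t ∈ T) :
    ∀ g, g ∈ T := by
  have h1 : Subgroup.closure ((Subtype.val : ↥(D.group K) → GL D.Idx K) ⁻¹'
      {g | ∃ (r : Fin D.nroots) (t : K), (g : Matrix D.Idx D.Idx K) = D.xMat K r t}) =
        (⊤ : Subgroup ↥(D.group K)) := Subgroup.closure_closure_coe_preimage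
  have h2 : (⊤ : Subgroup ↥(D.group K)) ≤ T := by
    rw [← h1, Subgroup.closure_le]
    rintro g ⟨r, t, hg⟩
    have hg' : g = xG c r.val t := by
      apply Subtype.ext
      apply Units.ext
      rw [hg, xG_coe, xGL_coe]
      unfold ChevalleyDatum.x
      rw [dif_pos r.isLt]
    rw [SetLike.mem_coe, hg']
    exact h r.val r.isLt t
  exact fun g => h2 (Subgroup.mem_top g)

/-- An exceptional graph automorphism over a larger field restricts to the group over a perfect field. -/
theorem exists_graphAut_restrict (c : DCert D Ns) (f : K →+* L) (hperf : ∀ x : K, ∃ y : K, y ^ p = x)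
    (gc : GraphCert D p Tz pi piInv lam eps r0 i0 j0) (ψ : ↥(D.group L) ≃* ↥(D.group L))
    (hψ : ∀ r < D.nroots, ∀ t : L,
      ψ (xG c r t) = xG c (pi.getD r 0) ((eps.getD r 1 : L) * t ^ lam.getD r 1)) :
    ∃ α : ↥(D.group K) ≃* ↥(D.group K), ∀ r < D.nroots, ∀ t : K,
      α (xG c r t) = xG c (pi.getD r 0) ((eps.getD r 1 : K) * t ^ lam.getD r 1) := by
  have hgen : ∀ r < D.nroots, ∀ t : K, ψ (groupMap c f (xG c r t)) =
      groupMap c f (xG c (pi.getD r 0) ((eps.getD r 1 : K) * t ^ lam.getD r 1)) := by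
    intro r hr t
    rw [groupMap_xG, groupMap_xG, hψ r hr, map_mul, map_intCast, map_pow]
  have h1 : ∀ g : ↥(D.group K), ψ (groupMap c f g) ∈ (groupMap c f).range := by
    apply forall_of_xG c ((groupMap c f).range.comap (ψ.toMonoidHom.comp (groupMap c f)))
    intro r hr t
    show ψ (groupMap c f (xG c r t)) ∈ (groupMap c f).range
    rw [hgen r hr]
    exact ⟨_, rfl⟩
  have h2 : ∀ g : ↥(D.group K), ψ.symm (groupMap c f g) ∈ (groupMap c f).range := by
    apply forall_of_xG c ((groupMap c f).range.comap (ψ.symm.toMonoidHom.comp (groupMap c f)))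
    intro s hs t
    show ψ.symm (groupMap c f (xG c s t)) ∈ (groupMap c f).range
    obtain ⟨-, hr, hrs⟩ := gc.lt s hs
    set r := piInv.getD s 0 with hrdef
    -- a parameter `u` with `ε_r u ^ λ_r = t`
    have hu : ∃ u : K, (eps.getD r 1 : K) * u ^ lam.getD r 1 = t := by
      have he : (eps.getD r 1 : K) * (eps.getD r 1 : K) = 1 := by
        rcases gc.eps_pm r hr with h | h <;> rw [h] <;> simp
      rcases gc.lam_ok r hr with h | h
      · refine ⟨(eps.getD r 1 : K) * t, ?_⟩
        rw [h, pow_one, ← mul_assoc, he, one_mul]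
      · obtain ⟨u, hu⟩ := hperf ((eps.getD r 1 : K) * t)
        refine ⟨u, ?_⟩
        rw [h, hu, ← mul_assoc, he, one_mul]
    obtain ⟨u, hu⟩ := hu
    have h3 := hgen r hr u
    rw [hrs, hu] at h3
    rw [← h3, MulEquiv.symm_apply_apply]
    exact ⟨_, rfl⟩
  obtain ⟨α, hα⟩ := exists_restrict (groupMap c f) (groupMap_injective c f) ψ h1 h2
  refine ⟨α, fun r hr t => ?_⟩
  apply groupMap_injective c f
  rw [hα, hgen r hr]

end Cfsg.Agent.Lib.Helper18_ChevGraphR
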