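import Mathlib

set_option autoImplicit false

/-!
Automorphisms of a simple linear group from an intertwining matrix: if `T g = g' T` pairs the generators of a simple
group `G` of matrices with generators of `G`, then the pairing extends to an automorphism of `G`.
-/

namespace Cfsg.Agent.Lib.Helper18_Intertwine

open scoped MatrixGroups Matrix

variable {n : Type*} [Fintype n] [DecidableEq n] {F : Type*} [Field F]

/-- The correspondence defined by an intertwining matrix `T`: the pairs `(g, g')` with `T g = g' T`. -/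
def relSubgroup (G : Subgroup (GL n F)) (T : Matrix n n F) : Subgroup (↥G × ↥G) where
  carrier := {p | T * ((p.1 : GL n F) : Matrix n n F) = ((p.2 : GL n F) : Matrix n n F) * T}
  one_mem' := by
    simp
  mul_mem' := by
    intro a b ha hb
    simp only [Set.mem_ofPred_eq, Prod.fst_mul, Prod.snd_mul, Subgroup.coe_mul, Units.val_mul] at *
    rw [← Matrix.mul_assoc, ha, Matrix.mul_assoc, hb, Matrix.mul_assoc]
  inv_mem' := by
    intro a ha
    simp only [Set.mem_ofPred_eq, Prod.fst_inv, Prod.snd_inv, Subgroup.coe_inv] at *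
    calc T * ((a.1 : GL n F)⁻¹ : GL n F).val
        = ((a.2 : GL n F)⁻¹ : GL n F).val * ((a.2 : GL n F).val * T) * ((a.1 : GL n F)⁻¹ : GL n F).val := by
          rw [← Matrix.mul_assoc ((a.2 : GL n F)⁻¹ : GL n F).val, ← Units.val_mul, inv_mul_cancel, Units.val_one,
            Matrix.one_mul]
      _ = ((a.2 : GL n F)⁻¹ : GL n F).val * (T * (a.1 : GL n F).val) * ((a.1 : GL n F)⁻¹ : GL n F).val := by
          rw [ha]
      _ = ((a.2 : GL n F)⁻¹ : GL n F).val * T := by
          rw [Matrix.mul_assoc, Matrix.mul_assoc, ← Units.val_mul, mul_inv_cancel, Units.val_one, Matrix.mul_one]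

theorem mem_relSubgroup (G : Subgroup (GL n F)) (T : Matrix n n F) (p : ↥G × ↥G) :
    p ∈ relSubgroup G T ↔ T * ((p.1 : GL n F) : Matrix n n F) = ((p.2 : GL n F) : Matrix n n F) * T := Iff.rfl

/-- If the correspondence of `T` pairs generators of the simple group `G` with generators of `G`, and `T` is not fixed
by the generators, the correspondence is the graph of an automorphism of `G`. -/
theorem exists_aut_of_intertwiner (G : Subgroup (GL n F)) [IsSimpleGroup ↥G] (T : Matrix n n F)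
    (gens : Set (↥G × ↥G)) (hgens : gens ⊆ (relSubgroup G T : Set (↥G × ↥G)))
    (h1 : Subgroup.closure (Prod.fst '' gens) = ⊤) (h2 : Subgroup.closure (Prod.snd '' gens) = ⊤)
    (hne1 : ∃ g : ↥G, T * ((g : GL n F) : Matrix n n F) ≠ T)
    (hne2 : ∃ g : ↥G, ((g : GL n F) : Matrix n n F) * T ≠ T) :
    ∃ ψ : ↥G ≃* ↥G, ∀ p ∈ relSubgroup G T, ψ p.1 = p.2 := by
  set Γ := relSubgroup G T with hΓ
  let π₁ : ↥Γ →* ↥G := (MonoidHom.fst ↥G ↥G).comp Γ.subtype
  let π₂ : ↥Γ →* ↥G := (MonoidHom.snd ↥G ↥G).comp Γ.subtype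
  have hπ₁ : ∀ k : ↥Γ, π₁ k = (k : ↥G × ↥G).1 := fun _ => rfl
  have hπ₂ : ∀ k : ↥Γ, π₂ k = (k : ↥G × ↥G).2 := fun _ => rfl
  have hs1 : Function.Surjective π₁ := by
    rw [← MonoidHom.range_eq_top, eq_top_iff, ← h1, Subgroup.closure_le]
    rintro x ⟨p, hp, rfl⟩
    exact ⟨⟨p, hgens hp⟩, rfl⟩
  have hs2 : Function.Surjective π₂ := by
    rw [← MonoidHom.range_eq_top, eq_top_iff, ← h2, Subgroup.closure_le]
    rintro x ⟨p, hp, rfl⟩
    exact ⟨⟨p, hgens hp⟩, rfl⟩
  have hi1 : Function.Injective π₁ := by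
    rw [← MonoidHom.ker_eq_bot_iff]
    have hN : (π₁.ker.map π₂).Normal := Subgroup.Normal.map inferInstance π₂ hs2
    rcases hN.eq_bot_or_eq_top with h | h
    · rw [eq_bot_iff]
      intro k hk
      have hk2 : π₂ k ∈ π₁.ker.map π₂ := Subgroup.mem_map_of_mem _ hk
      rw [h, Subgroup.mem_bot] at hk2
      rw [MonoidHom.mem_ker] at hk
      rw [Subgroup.mem_bot]
      apply Subtype.ext
      apply Prod.ext
      · exact hk
      · exact hk2
    · exfalso
      obtain ⟨g, hg⟩ := hne2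
      have hmem : g ∈ π₁.ker.map π₂ := by rw [h]; exact Subgroup.mem_top _
      obtain ⟨k, hk, rfl⟩ := hmem
      rw [SetLike.mem_coe, MonoidHom.mem_ker, hπ₁] at hk
      have := (mem_relSubgroup G T (k : ↥G × ↥G)).mp k.2
      rw [hk] at this
      apply hg
      rw [hπ₂, ← this]
      simp
  have hi2 : Function.Injective π₂ := by
    rw [← MonoidHom.ker_eq_bot_iff]
    have hN : (π₂.ker.map π₁).Normal := Subgroup.Normal.map inferInstance π₁ hs1
    rcases hN.eq_bot_or_eq_top with h | h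
    · rw [eq_bot_iff]
      intro k hk
      have hk2 : π₁ k ∈ π₂.ker.map π₁ := Subgroup.mem_map_of_mem _ hk
      rw [h, Subgroup.mem_bot] at hk2
      rw [MonoidHom.mem_ker] at hk
      rw [Subgroup.mem_bot]
      apply Subtype.ext
      apply Prod.ext
      · exact hk2
      · exact hk
    · exfalso
      obtain ⟨g, hg⟩ := hne1
      have hmem : g ∈ π₂.ker.map π₁ := by rw [h]; exact Subgroup.mem_top _
      obtain ⟨k, hk, rfl⟩ := hmem
      rw [SetLike.mem_coe, MonoidHom.mem_ker, hπ₂] at hk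
      have := (mem_relSubgroup G T (k : ↥G × ↥G)).mp k.2
      rw [hk] at this
      apply hg
      rw [hπ₁, this]
      simp
  let e₁ : ↥Γ ≃* ↥G := MulEquiv.ofBijective π₁ ⟨hi1, hs1⟩
  let e₂ : ↥Γ ≃* ↥G := MulEquiv.ofBijective π₂ ⟨hi2, hs2⟩
  refine ⟨e₁.symm.trans e₂, ?_⟩
  intro p hp
  have : e₁.symm p.1 = ⟨p, hp⟩ := by
    rw [MulEquiv.symm_apply_eq]
    rfl
  rw [MulEquiv.trans_apply, this]
  rfl

end Cfsg.Agent.Lib.Helper18_Intertwine
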