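import Cfsg.Agent.Lib.Helper36_ChevCoeff
import Cfsg.Agent.Lib.Helper18_Intertwine

set_option autoImplicit false

/-!
Intertwining matrices for the exceptional graph automorphisms: sparse integer matrices compared modulo the
characteristic, and the relation `T x_r(t) = x_{r'}(ε t^λ) T` from the comparison of the coefficient matrices.
-/

namespace Cfsg.Agent.Lib.Helper18_ChevGraphT

open Cfsg Cfsg.Lie Cfsg.Agent.Lib.Helper36_ChevSparse Cfsg.Agent.Lib.Helper36_ChevCoeff

/-! ### Sparse vectors and matrices modulo `p` -/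

/-- The check that two sparse vectors agree modulo `p`. -/
def vecEqMod (p : ℕ) (v w : SVec) : Bool :=
  (v ++ w).all fun q => (coeffAt v q.1 - coeffAt w q.1) % (p : ℤ) == 0

theorem vecEqMod_sound (p : ℕ) (v w : SVec) (h : vecEqMod p v w = true) (i : ℕ) :
    (p : ℤ) ∣ coeffAt v i - coeffAt w i := by
  unfold vecEqMod at h
  rw [List.all_eq_true] at h
  by_cases hi : ∃ q ∈ v ++ w, q.1 = i
  · obtain ⟨q, hq, rfl⟩ := hi
    have := h q hq
    rw [beq_iff_eq] at this
    exact Int.dvd_of_emod_eq_zero this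
  · simp only [not_exists, not_and] at hi
    rw [coeffAt_eq_zero v i (fun q hq => hi q (List.mem_append_left _ hq)),
      coeffAt_eq_zero w i (fun q hq => hi q (List.mem_append_right _ hq)), sub_zero]
    exact dvd_zero _

/-- The check that the first `N` columns of two sparse matrices agree modulo `p`. -/
def matEqMod (p N : ℕ) (A B : SMat) : Bool := (List.range N).all fun c => vecEqMod p (A c) (B c)

theorem matEqMod_sound (p N : ℕ) (A B : SMat) (h : matEqMod p N A B = true) (c : ℕ) (hc : c < N) (i : ℕ) :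
    (p : ℤ) ∣ coeffAt (A c) i - coeffAt (B c) i := by
  unfold matEqMod at h
  rw [List.all_eq_true] at h
  exact vecEqMod_sound _ _ _ (h c (List.mem_range.mpr hc)) i

variable (D : ChevalleyDatum) (F : Type*) [Field F]

/-- The matrix over `F` of a sparse integer matrix. -/
noncomputable def castMat (A : SMat) : Matrix D.Idx D.Idx F := (toMatZ D A).map (Int.cast : ℤ → F)

theorem castMat_apply (A : SMat) (row col : D.Idx) :
    castMat D F A row col = ((coeffAt (A (code D col)) (code D row) : ℤ) : F) := rfl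

theorem castMat_eq_of_matEqMod (p : ℕ) [CharP F p] (A B : SMat) (h : matEqMod p (dim D) A B = true) :
    castMat D F A = castMat D F B := by
  ext row col
  rw [castMat_apply, castMat_apply]
  have h1 := matEqMod_sound p _ A B h (code D col) (code_lt D col) (code D row)
  have h2 := (CharP.intCast_eq_zero_iff F p _).mpr h1
  rw [Int.cast_sub] at h2
  exact sub_eq_zero.mp h2

theorem castMat_mul (A B : SMat) : castMat D F (mul (dim D) A B) = castMat D F A * castMat D F B := by
  unfold castMat
  rw [toMatZ_mul]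
  exact Matrix.map_mul (f := Int.castRingHom F)

theorem castMat_zero : castMat D F zero = 0 := by
  unfold castMat
  rw [toMatZ_zero]
  ext i j
  simp

theorem castMat_msmul (c : ℤ) (A : SMat) : castMat D F (msmul c A) = (c : F) • castMat D F A := by
  ext row col
  rw [castMat_apply, Matrix.smul_apply, castMat_apply]
  show ((coeffAt (smul c (A (code D col))) (code D row) : ℤ) : F) = _
  rw [coeffAt_smul, Int.cast_mul, smul_eq_mul]

theorem ematF_eq (r k : ℕ) : EmatF D F r k = castMat D F (Ecol D r k) := rfl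

/-! ### The relation -/

/-- The check of the relation `T x_r(t) = x_{r'}(ε t^λ) T` modulo `p`, for `λ = 1, 2, 3`, on the coefficient matrices. -/
def relCheck (p : ℕ) (Tz : SMat) (r r' lam : ℕ) (ε : ℤ) : Bool :=
  if lam = 1 then
    matEqMod p (dim D) (mul (dim D) Tz (Ecol D r 1)) (msmul ε (mul (dim D) (Ecol D r' 1) Tz)) &&
    matEqMod p (dim D) (mul (dim D) Tz (Ecol D r 2)) (mul (dim D) (Ecol D r' 2) Tz) &&
    matEqMod p (dim D) (mul (dim D) Tz (Ecol D r 3)) (msmul ε (mul (dim D) (Ecol D r' 3) Tz))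
  else if lam = 2 then
    matEqMod p (dim D) (mul (dim D) Tz (Ecol D r 1)) zero &&
    matEqMod p (dim D) (mul (dim D) Tz (Ecol D r 2)) (msmul ε (mul (dim D) (Ecol D r' 1) Tz)) &&
    matEqMod p (dim D) (mul (dim D) Tz (Ecol D r 3)) zero &&
    matEqMod p (dim D) (mul (dim D) (Ecol D r' 2) Tz) zero &&
    matEqMod p (dim D) (mul (dim D) (Ecol D r' 3) Tz) zero
  else if lam = 3 then
    matEqMod p (dim D) (mul (dim D) Tz (Ecol D r 1)) zero &&
    matEqMod p (dim D) (mul (dim D) Tz (Ecol D r 2)) zero &&
    matEqMod p (dim D) (mul (dim D) Tz (Ecol D r 3)) (msmul ε (mul (dim D) (Ecol D r' 1) Tz)) &&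
    matEqMod p (dim D) (mul (dim D) (Ecol D r' 2) Tz) zero &&
    matEqMod p (dim D) (mul (dim D) (Ecol D r' 3) Tz) zero
  else false

theorem x_eq (hlen : ChainLenOK D) (r : ℕ) (hr : r < D.nroots) (t : F) :
    D.x F r t = 1 + t • castMat D F (Ecol D r 1) + t ^ 2 • castMat D F (Ecol D r 2) +
      t ^ 3 • castMat D F (Ecol D r 3) := by
  unfold ChevalleyDatum.x
  rw [dif_pos hr, xMat_eq D hlen F ⟨r, hr⟩ t]
  rfl

/-- The relation `T x_r(t) = x_{r'}(ε t^λ) T` from the check. -/
theorem rel_of_check (hlen : ChainLenOK D) (p : ℕ) [CharP F p] (Tz : SMat) (r r' lam : ℕ) (ε : ℤ)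
    (hr : r < D.nroots) (hr' : r' < D.nroots) (hε : ε = 1 ∨ ε = -1)
    (h : relCheck D p Tz r r' lam ε = true) (t : F) :
    castMat D F Tz * D.x F r t = D.x F r' ((ε : F) * t ^ lam) * castMat D F Tz := by
  have hε2 : (ε : F) ^ 2 = 1 := by
    rcases hε with rfl | rfl <;> simp
  have hε3 : (ε : F) ^ 3 = (ε : F) := by
    rcases hε with rfl | rfl <;> simp
    norm_num
  rw [x_eq D F hlen r hr, x_eq D F hlen r' hr']
  simp only [Matrix.mul_add, Matrix.add_mul, Matrix.mul_one, Matrix.one_mul, Matrix.mul_smul, Matrix.smul_mul]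
  unfold relCheck at h
  by_cases h1 : lam = 1
  · rw [if_pos h1] at h
    simp only [Bool.and_eq_true] at h
    obtain ⟨⟨e1, e2⟩, e3⟩ := h
    have e1' := castMat_eq_of_matEqMod D F p _ _ e1
    have e2' := castMat_eq_of_matEqMod D F p _ _ e2
    have e3' := castMat_eq_of_matEqMod D F p _ _ e3
    rw [castMat_mul, castMat_msmul, castMat_mul] at e1' e3'
    rw [castMat_mul, castMat_mul] at e2'
    rw [e1', e2', e3', h1, pow_one, mul_pow, mul_pow, hε2, hε3, one_mul, smul_smul, smul_smul, mul_comm t,
      mul_comm (t ^ 3)]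
  · rw [if_neg h1] at h
    by_cases h2 : lam = 2
    · rw [if_pos h2] at h
      simp only [Bool.and_eq_true] at h
      obtain ⟨⟨⟨⟨e1, e2⟩, e3⟩, e4⟩, e5⟩ := h
      have e1' := castMat_eq_of_matEqMod D F p _ _ e1
      have e2' := castMat_eq_of_matEqMod D F p _ _ e2
      have e3' := castMat_eq_of_matEqMod D F p _ _ e3
      have e4' := castMat_eq_of_matEqMod D F p _ _ e4
      have e5' := castMat_eq_of_matEqMod D F p _ _ e5
      rw [castMat_mul, castMat_zero] at e1' e3' e4' e5'
      rw [castMat_mul, castMat_msmul, castMat_mul] at e2'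
      rw [e1', e2', e3', e4', e5', h2]
      simp only [smul_zero, add_zero, smul_smul]
      rw [mul_comm]
    · rw [if_neg h2] at h
      by_cases h3 : lam = 3
      · rw [if_pos h3] at h
        simp only [Bool.and_eq_true] at h
        obtain ⟨⟨⟨⟨e1, e2⟩, e3⟩, e4⟩, e5⟩ := h
        have e1' := castMat_eq_of_matEqMod D F p _ _ e1
        have e2' := castMat_eq_of_matEqMod D F p _ _ e2
        have e3' := castMat_eq_of_matEqMod D F p _ _ e3
        have e4' := castMat_eq_of_matEqMod D F p _ _ e4
        have e5' := castMat_eq_of_matEqMod D F p _ _ e5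
        rw [castMat_mul, castMat_zero] at e1' e2' e4' e5'
        rw [castMat_mul, castMat_msmul, castMat_mul] at e3'
        rw [e1', e2', e3', e4', e5', h3]
        simp only [smul_zero, add_zero, smul_smul]
        rw [mul_comm]
      · rw [if_neg h3] at h
        exact absurd h Bool.false_ne_true

end Cfsg.Agent.Lib.Helper18_ChevGraphT
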