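import Cfsg.Agent.Lib.Helper18_ChevR1

set_option autoImplicit false

/-!
The elements `n_p = x_p(1) x_{-p}(-1) x_p(1)` for a fundamental root `p`: they are "monomial" matrices, acting on the
coordinates `h_j` by a reflection and on the root vectors by a signed permutation.  The permutation and the signs are
computed by the engine and recorded in an `NData`.
-/

namespace Cfsg.Agent.Lib.Helper18_ChevN

open Cfsg Cfsg.Lie Cfsg.Agent.Lib.Helper18_ChevFast Cfsg.Agent.Lib.Helper18_ChevEngine
  Cfsg.Agent.Lib.Helper18_ChevR1 Cfsg.Agent.Lib.Helper18_ChevChunk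

/-- Data describing `n_p` for the `i`-th fundamental root `p`: the Cartan integers `A_{p_j, p}`, the permutation
`π` of the roots and the signs `η`. -/
structure NData where
  i : ℕ
  car : List ℤ
  pi : List ℕ
  eta : List ℤ
deriving DecidableEq

/-- The matrix described by an `NData`. -/
def nSpec (D : ChevalleyDatum) (F : Type*) [Field F] (N : NData) : Matrix D.Idx D.Idx F :=
  Matrix.of fun row col =>
    match col with
    | Sum.inl j =>
      (match row with
       | Sum.inl j' => (if j'.val = j.val then 1 else 0) -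
           (if j'.val = N.i then ((N.car.getD j.val 0 : ℤ) : F) else 0)
       | Sum.inr _ => 0)
    | Sum.inr s =>
      (match row with
       | Sum.inl _ => 0
       | Sum.inr s' => if s'.val = N.pi.getD s.val 0 then ((N.eta.getD s.val 0 : ℤ) : F) else 0)

/-- The action of `nSpec` on a term. -/
def nCol (rank nroots : ℕ) (N : NData) (x : Term) : SVec :=
  if validKey rank nroots x.k then
    if x.k % 2 = 0 then
      [x, ⟨2 * N.i, -(N.car.getD (x.k / 2) 0) * x.c, x.a, x.b⟩]
    else [⟨2 * N.pi.getD (x.k / 2) 0 + 1, N.eta.getD (x.k / 2) 0 * x.c, x.a, x.b⟩]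
  else []

theorem isOracle_n (D : ChevalleyDatum) {F : Type*} [Field F] (t u : Fˣ) (N : NData) :
    IsOracle D t u (nCol D.rank D.nroots N) (nSpec D F N) := by
  intro x
  unfold nCol
  by_cases hv : validKey D.rank D.nroots x.k = true
  swap
  · rw [if_neg hv, sem_nil]
    have : sem D t u [x] = (0 : D.Idx → F) := by
      funext idx
      rw [sem_single_apply, if_neg]
      · rfl
      · intro h
        exact hv ((validKey_iff D x.k).mpr ⟨idx, h⟩)
    rw [this, Matrix.mulVec_zero]
  rw [if_pos hv]
  obtain ⟨col, hcol⟩ := (validKey_iff D x.k).mp hv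
  rw [sem_single_eq_pi_single D t u x col hcol, Matrix.mulVec_single]
  funext row
  simp only [Pi.smul_apply, Matrix.col_apply, MulOpposite.smul_eq_mul_unop, MulOpposite.unop_op]
  rcases col with j | s
  · have hk : x.k = 2 * j.val := hcol.symm
    have h0 : x.k % 2 = 0 := by omega
    have h1 : x.k / 2 = j.val := by omega
    rw [if_pos h0, sem_cons_apply, sem_single_apply, h1, hk]
    rcases row with j' | s'
    · simp only [nSpec, Matrix.of_apply, keyOf_inl_even, Term.eval, Int.cast_mul, Int.cast_neg]
      split_ifs <;> ring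
    · simp only [nSpec, Matrix.of_apply, keyOf_inr_even, if_false, add_zero, zero_mul]
  · have hk : x.k = 2 * s.val + 1 := hcol.symm
    have h0 : ¬ (x.k % 2 = 0) := by omega
    have h1 : x.k / 2 = s.val := by omega
    rw [if_neg h0, sem_single_apply, h1]
    rcases row with j' | s'
    · simp only [nSpec, Matrix.of_apply, keyOf_inl_odd, if_false, zero_mul]
    · simp only [nSpec, Matrix.of_apply, keyOf_inr_odd, Term.eval, Int.cast_mul]
      split_ifs <;> ring

/-! ### The word `n_p = x_p(1) x_{-p}(-1) x_p(1)` -/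

def oneP : Poly := [⟨1, 0, 0⟩]
def negOneP : Poly := [⟨-1, 0, 0⟩]

theorem eval_oneP {F : Type*} [Field F] (t u : Fˣ) : Poly.eval t u oneP = (1 : F) := by
  simp [Poly.eval, oneP, Mono.eval, monoVal]

theorem eval_negOneP {F : Type*} [Field F] (t u : Fˣ) : Poly.eval t u negOneP = (-1 : F) := by
  simp [Poly.eval, negOneP, Mono.eval, monoVal]

/-- The action of `n_p` on a term, computed from the word (`R` the row of `p`, `R'` the row of `-p`). -/
def nWordCol (rank nroots : ℕ) (R R' : FRow) (x : Term) : SVec :=
  applyO (xCol rank nroots R (mkPows oneP))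
    (applyO (xCol rank nroots R' (mkPows negOneP)) (xCol rank nroots R (mkPows oneP) x))

theorem isOracle_nWord (D : ChevalleyDatum) {F : Type*} [Field F] (t u : Fˣ) (R R' : FRow)
    (hR : R.Valid D) (hR' : R'.Valid D) (hneg : R'.r = D.neg R.r) :
    IsOracle D t u (nWordCol D.rank D.nroots R R') (D.nMat F R.r 1) := by
  have o1 := isOracle_x (D := D) (t := t) (u := u) R hR (mkPows oneP) _ (mkPows_ok t u oneP)
  have o2 := isOracle_x (D := D) (t := t) (u := u) R' hR' (mkPows negOneP) _ (mkPows_ok t u negOneP)
  rw [eval_oneP] at o1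
  rw [eval_negOneP, hneg] at o2
  have h12 := o2.mul o1
  have h := o1.mul h12
  have e : D.nMat F R.r 1 = D.x F R.r 1 * (D.x F (D.neg R.r) (-1) * D.x F R.r 1) := by
    unfold ChevalleyDatum.nMat ChevalleyDatum.wordMat ChevalleyDatum.nWord
    simp [mul_assoc]
  rw [e]
  exact h

/-- The `NData` read off the word action: the image of each `e_s` must be a single term `± e_{π s}`. -/
def readN (rank nroots : ℕ) (i : ℕ) (R R' : FRow) : NData :=
  let imgs := (List.range nroots).map fun s => nWordCol rank nroots R R' ⟨2 * s + 1, 1, 0, 0⟩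
  ⟨i, R.car,
    imgs.map (fun v => match v with
      | [x] => x.k / 2
      | _ => 0),
    imgs.map (fun v => match v with
      | [x] => x.c
      | _ => 0)⟩

/-- The word action agrees with the recorded data on all coordinates. -/
def checkN (rank nroots : ℕ) (R R' : FRow) (N : NData) : Bool :=
  colsEq rank nroots (nWordCol rank nroots R R') (nCol rank nroots N)

theorem nMat_eq_nSpec (D : ChevalleyDatum) {F : Type*} [Field F] (R R' : FRow)
    (hR : R.Valid D) (hR' : R'.Valid D) (hneg : R'.r = D.neg R.r) (N : NData)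
    (h : checkN D.rank D.nroots R R' N = true) : D.nMat F R.r 1 = nSpec D F N :=
  eq_of_colsEq (isOracle_nWord D (1 : Fˣ) 1 R R' hR hR' hneg) (isOracle_n D 1 1 N) h

/-- Column-wise version of `checkN`. -/
def cnF (rank nroots : ℕ) (R R' : FRow) (N : NData) : ℕ → Bool :=
  colEqAt (nWordCol rank nroots R R') (nCol rank nroots N)

theorem nMat_eq_nSpec_of_cnF (D : ChevalleyDatum) {F : Type*} [Field F] (R R' : FRow)
    (hR : R.Valid D) (hR' : R'.Valid D) (hneg : R'.r = D.neg R.r) (N : NData) (hle : D.rank ≤ D.nroots)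
    (h : ∀ k < 2 * D.nroots, cnF D.rank D.nroots R R' N k = true) : D.nMat F R.r 1 = nSpec D F N :=
  eq_of_colEqAt (isOracle_nWord D (1 : Fˣ) 1 R R' hR hR' hneg) (isOracle_n D 1 1 N) hle h

end Cfsg.Agent.Lib.Helper18_ChevN
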