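import Cfsg.Agent.Lib.Helper18_ChevDiag
import Cfsg.Agent.Lib.Helper18_ChevN

set_option autoImplicit false

/-!
The elements `h_r(c) = n_r(c) n_r(-1)` computed by the engine and compared with a diagonal matrix.
-/

namespace Cfsg.Agent.Lib.Helper18_ChevH

open Cfsg Cfsg.Lie Cfsg.Agent.Lib.Helper18_ChevFast Cfsg.Agent.Lib.Helper18_ChevEngine
  Cfsg.Agent.Lib.Helper18_ChevR1 Cfsg.Agent.Lib.Helper18_ChevN Cfsg.Agent.Lib.Helper18_ChevDiag
  Cfsg.Agent.Lib.Helper18_ChevChunk

/-- The action of the diagonal matrix with entries `t ^ e_s` on a term. -/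
def dCol (rank nroots : ℕ) (e : List ℤ) (x : Term) : SVec :=
  if validKey rank nroots x.k then
    if x.k % 2 = 0 then [x] else [⟨x.k, x.c, x.a + e.getD (x.k / 2) 0, x.b⟩]
  else []

theorem isOracle_d (D : ChevalleyDatum) {F : Type*} [Field F] (t u : Fˣ) (e : List ℤ) :
    IsOracle D t u (dCol D.rank D.nroots e) (diagMat D (fun s => (t : F) ^ (e.getD s 0))) := by
  intro x
  unfold dCol
  by_cases hv : validKey D.rank D.nroots x.k = true
  swap
  · rw [if_neg hv, sem_nil]
    have : sem D t u [x] = (0 : D.Idx → F) := by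
      funext idx
      rw [sem_single_apply, if_neg]
      · rfl
      · intro h
        exact hv ((validKey_iff D x.k).mpr ⟨idx, h⟩)
    rw [this, Matrix.mulVec_zero]
  rw [if_pos hv]
  obtain ⟨col, hcol⟩ := (validKey_iff D x.k).mp hv
  rw [sem_single_eq_pi_single D t u x col hcol, Matrix.mulVec_single]
  funext row
  simp only [Pi.smul_apply, Matrix.col_apply, MulOpposite.smul_eq_mul_unop, MulOpposite.unop_op]
  unfold diagMat
  rw [Matrix.diagonal_apply]
  rcases col with j | s
  · have hk : x.k = 2 * j.val := hcol.symm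
    have h0 : x.k % 2 = 0 := by omega
    rw [if_pos h0, sem_single_apply, hk]
    rcases row with j' | s'
    · simp only [keyOf_inl_even, Sum.inl.injEq, Sum.elim_inl, Fin.ext_iff]
      split_ifs <;> ring
    · simp only [keyOf_inr_even, if_false, reduceCtorEq, zero_mul]
  · have hk : x.k = 2 * s.val + 1 := hcol.symm
    have h0 : ¬ (x.k % 2 = 0) := by omega
    have h1 : x.k / 2 = s.val := by omega
    rw [if_neg h0, sem_single_apply, h1, hk]
    rcases row with j' | s'
    · simp only [keyOf_inl_odd, if_false, reduceCtorEq, zero_mul]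
    · simp only [keyOf_inr_odd, Sum.inr.injEq, Sum.elim_inr, Fin.ext_iff, Term.eval]
      have hm : (monoVal t u (x.a + e.getD s.val 0) x.b : F) = (t : F) ^ (e.getD s.val 0) * monoVal t u x.a x.b := by
        unfold monoVal
        rw [zpow_add, ← Units.val_zpow_eq_zpow_val, ← Units.val_mul]
        congr 1
        rw [mul_comm (t ^ x.a) _, mul_assoc]
      rw [hm]
      split_ifs with h
      · rw [h]; ring
      · ring

/-! ### The word `h_r(t) = x_r(t) x_{-r}(-t⁻¹) x_r(t) x_r(-1) x_{-r}(1) x_r(-1)` -/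

def ntiP : Poly := [⟨-1, -1, 0⟩]

theorem eval_ntiP {F : Type*} [Field F] (t u : Fˣ) : Poly.eval t u ntiP = -((t : F))⁻¹ := by
  simp [Poly.eval, ntiP, Mono.eval, monoVal]

/-- The action of `h_r(t)` on a term, computed from the word (`R` the row of `r`, `R'` the row of `-r`). -/
def hWordCol (rank nroots : ℕ) (R R' : FRow) (x : Term) : SVec :=
  applyO (xCol rank nroots R (mkPows tP))
    (applyO (xCol rank nroots R' (mkPows ntiP))
      (applyO (xCol rank nroots R (mkPows tP))
        (applyO (xCol rank nroots R (mkPows negOneP))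
          (applyO (xCol rank nroots R' (mkPows oneP)) (xCol rank nroots R (mkPows negOneP) x)))))

theorem hMat_eq_prod (D : ChevalleyDatum) {F : Type*} [Field F] (r : ℕ) (c : F) :
    D.hMat F r c = D.x F r c * (D.x F (D.neg r) (-c⁻¹) * (D.x F r c *
      (D.x F r (-1) * (D.x F (D.neg r) 1 * D.x F r (-1))))) := by
  unfold ChevalleyDatum.hMat ChevalleyDatum.wordMat ChevalleyDatum.hWord ChevalleyDatum.nWord
  simp [inv_neg]

theorem isOracle_hWord (D : ChevalleyDatum) {F : Type*} [Field F] (t u : Fˣ) (R R' : FRow)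
    (hR : R.Valid D) (hR' : R'.Valid D) (hneg : R'.r = D.neg R.r) :
    IsOracle D t u (hWordCol D.rank D.nroots R R') (D.hMat F R.r t) := by
  have o1 := isOracle_x (D := D) (t := t) (u := u) R hR (mkPows oneP) _ (mkPows_ok t u oneP)
  have om := isOracle_x (D := D) (t := t) (u := u) R hR (mkPows negOneP) _ (mkPows_ok t u negOneP)
  have ot := isOracle_x (D := D) (t := t) (u := u) R hR (mkPows tP) _ (mkPows_ok t u tP)
  have o1' := isOracle_x (D := D) (t := t) (u := u) R' hR' (mkPows oneP) _ (mkPows_ok t u oneP)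
  have oi' := isOracle_x (D := D) (t := t) (u := u) R' hR' (mkPows ntiP) _ (mkPows_ok t u ntiP)
  rw [eval_negOneP] at om
  rw [eval_tP] at ot
  rw [eval_oneP, hneg] at o1'
  rw [eval_ntiP, hneg] at oi'
  rw [hMat_eq_prod]
  exact ot.mul (oi'.mul (ot.mul (om.mul (o1'.mul om))))

/-- The word action agrees with the diagonal matrix with exponents `e`. -/
def checkH (rank nroots : ℕ) (R R' : FRow) (e : List ℤ) : Bool :=
  colsEq rank nroots (hWordCol rank nroots R R') (dCol rank nroots e)

theorem hMat_eq_diag (D : ChevalleyDatum) {F : Type*} [Field F] (R R' : FRow)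
    (hR : R.Valid D) (hR' : R'.Valid D) (hneg : R'.r = D.neg R.r) (e : List ℤ)
    (h : checkH D.rank D.nroots R R' e = true) (c : F) (hc : c ≠ 0) :
    D.hMat F R.r c = diagMat D (fun s => c ^ (e.getD s 0)) :=
  eq_of_colsEq (isOracle_hWord D (Units.mk0 c hc) 1 R R' hR hR' hneg) (isOracle_d D (Units.mk0 c hc) 1 e) h

/-- Column-wise version of `checkH`. -/
def chF (rank nroots : ℕ) (R R' : FRow) (e : List ℤ) : ℕ → Bool :=
  colEqAt (hWordCol rank nroots R R') (dCol rank nroots e)

theorem hMat_eq_diag_of_chF (D : ChevalleyDatum) {F : Type*} [Field F] (R R' : FRow)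
    (hR : R.Valid D) (hR' : R'.Valid D) (hneg : R'.r = D.neg R.r) (e : List ℤ) (hle : D.rank ≤ D.nroots)
    (h : ∀ k < 2 * D.nroots, chF D.rank D.nroots R R' e k = true) (c : F) (hc : c ≠ 0) :
    D.hMat F R.r c = diagMat D (fun s => c ^ (e.getD s 0)) :=
  eq_of_colEqAt (isOracle_hWord D (Units.mk0 c hc) 1 R R' hR hR' hneg) (isOracle_d D (Units.mk0 c hc) 1 e) hle h

end Cfsg.Agent.Lib.Helper18_ChevH
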