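import Cfsg.Agent.Lib.Helper18_ChevSylow

set_option autoImplicit false

/-!
The root subgroup of the highest root: it is normalized by `B`, its conjugates under `N` are root subgroups, and
together with any root subgroup other than that of the lowest root it generates a `p`-group.
-/

namespace Cfsg.Agent.Lib.Helper18_ChevHigh

open Cfsg Cfsg.Lie Cfsg.Agent.Lib.Helper18_ChevFast Cfsg.Agent.Lib.Helper18_ChevEngine
  Cfsg.Agent.Lib.Helper18_ChevR1 Cfsg.Agent.Lib.Helper18_ChevN Cfsg.Agent.Lib.Helper18_ChevR4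
  Cfsg.Agent.Lib.Helper18_ChevSimple Cfsg.Agent.Lib.Helper18_ChevSimple2 Cfsg.Agent.Lib.Helper18_ChevFacts
  Cfsg.Agent.Lib.Helper18_ChevWeyl Cfsg.Agent.Lib.Helper18_ChevDiag Cfsg.Agent.Lib.Helper18_ChevCar
  Cfsg.Agent.Lib.Helper18_ChevTorus Cfsg.Agent.Lib.Helper18_ChevGL Cfsg.Agent.Lib.Helper18_ChevComm
  Cfsg.Agent.Lib.Helper18_ChevComm2 Cfsg.Agent.Lib.Helper18_MatTri Cfsg.Agent.Lib.Helper18_ChevTri
  Cfsg.Agent.Lib.Helper18_ChevBorel Cfsg.Agent.Lib.Helper18_ChevAdd Cfsg.Agent.Lib.Helper18_ChevUni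
  Cfsg.Agent.Lib.Helper18_ChevBN Cfsg.Agent.Lib.Helper18_ChevMono Cfsg.Agent.Lib.Helper18_ChevBNPair
  Cfsg.Agent.Lib.Helper18_ChevSimp Cfsg.Agent.Lib.Helper18_ChevJCerts Cfsg.Agent.Lib.Helper18_ChevLevi
  Cfsg.Agent.Lib.Helper18_ChevBruhat Cfsg.Agent.Lib.Helper18_ChevPar Cfsg.Agent.Lib.Helper18_ChevRootHom
  Cfsg.Agent.Lib.Helper18_ChevOrder Cfsg.Agent.Lib.Helper18_ChevSylow

variable {D : ChevalleyDatum} {Ns : List NData} {F : Type*} [Field F]
variable {wl : List ℤ} {ws : List (List ℤ)} {sc : ℤ} {w : List ℤ} {d : ℕ}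

/-- The certificate: the last root commutes with all positive roots, and for every root `s` other than the first
a word in the fundamental reflections moves the last root and `s` to positive roots. -/
def HighCert (D : ChevalleyDatum) (tbl : List (List ℕ)) : Prop :=
  0 < D.nroots ∧
  (∀ r < D.nroots, D.IsPosRoot r → r ≠ D.nroots - 1 → D.commTerms r (D.nroots - 1) = []) ∧
  (∀ r < D.nroots, D.IsPosRoot r → D.neg r ≠ D.nroots - 1) ∧
  ∀ s < D.nroots, s ≠ 0 → (∀ i ∈ tbl.getD s [], i < D.rank) ∧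
    D.IsPosRoot (wordRefl D (tbl.getD s []) (D.nroots - 1)) ∧ D.IsPosRoot (wordRefl D (tbl.getD s []) s)

instance (D : ChevalleyDatum) (tbl : List (List ℕ)) : Decidable (HighCert D tbl) := by
  unfold HighCert
  infer_instance

/-- Conjugation of a root subgroup by an element acting on the root subgroups. -/
theorem map_conj_rootSubgroup (c : DCert D Ns) {g : GL D.Idx F} {π : ℕ → ℕ} (h : ActsAs c g π) (r : ℕ)
    (hr : r < D.nroots) :
    (D.rootSubgroup F r).map (MulAut.conj g).toMonoidHom = D.rootSubgroup F (π r) := by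
  obtain ⟨-, a, ha, e⟩ := h r hr
  ext y
  rw [Subgroup.mem_map, mem_rootSubgroup_iff c]
  constructor
  · rintro ⟨x, hx, rfl⟩
    rw [mem_rootSubgroup_iff c] at hx
    obtain ⟨t, rfl⟩ := hx
    exact ⟨a * t, e t⟩
  · rintro ⟨t, rfl⟩
    refine ⟨xGL c r (a⁻¹ * t), (mem_rootSubgroup_iff c r _).mpr ⟨_, rfl⟩, ?_⟩
    show g * xGL c r (a⁻¹ * t) * g⁻¹ = _
    rw [e, mul_inv_cancel_left₀ ha]

theorem rootSubgroup_le_pos (r : ℕ) (hr : D.IsPosRoot r) : D.rootSubgroup F r ≤ D.posUnipotent F := by
  unfold ChevalleyDatum.rootSubgroup ChevalleyDatum.posUnipotent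
  apply Subgroup.closure_mono
  rintro g ⟨t, hg⟩
  exact ⟨r, t, hr, hg⟩

/-- `B` normalizes the root subgroup of the last root. -/
theorem map_conj_high_of_mem_borel (c : DCert D Ns) (tc : TCert D) (hR2 : R2All D F) {tbl : List (List ℕ)}
    (hc : HighCert D tbl) (b : GL D.Idx F) (hb : b ∈ D.borelSubgroup F) :
    (D.rootSubgroup F (D.nroots - 1)).map (MulAut.conj b).toMonoidHom = D.rootSubgroup F (D.nroots - 1) := by
  obtain ⟨h0, hcomm, hneg, -⟩ := hc
  have hρ : D.nroots - 1 < D.nroots := by omega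
  have hle : D.borelSubgroup F ≤ Subgroup.normalizer (D.rootSubgroup F (D.nroots - 1) : Set (GL D.Idx F)) := by
    unfold ChevalleyDatum.borelSubgroup
    rw [sup_le_iff]
    constructor
    · unfold ChevalleyDatum.posUnipotent
      rw [Subgroup.closure_le]
      rintro g ⟨r, t, hr, hg⟩
      have hg' := eq_xGL c hg
      subst hg'
      have hcommute : ∀ u : F, xGL c r t * xGL c (D.nroots - 1) u = xGL c (D.nroots - 1) u * xGL c r t := by
        intro u
        by_cases hrρ : r = D.nroots - 1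
        · rw [hrρ, xGL_mul, xGL_mul, add_comm]
        · have h2 := hR2 r (D.nroots - 1) hr.1 hρ (fun h => hrρ h.symm) (fun h => hneg r hr.1 hr h.symm) t u
          rw [commWord_eq, hcomm r hr.1 hr hrρ] at h2
          have : D.wordMat F (termWord t u []) = 1 := wordMat_nil
          rw [this, mul_one] at h2
          apply Units.ext
          rw [Units.val_mul, Units.val_mul, xGL_coe, xGL_coe]
          exact h2.symm
      have key : ∀ y : GL D.Idx F, y ∈ D.rootSubgroup F (D.nroots - 1) →
          xGL c r t * y * (xGL c r t)⁻¹ = y := by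
        intro y hy
        rw [mem_rootSubgroup_iff c] at hy
        obtain ⟨u, rfl⟩ := hy
        rw [hcommute u, mul_inv_cancel_right]
      show xGL c r t ∈ Subgroup.normalizer _
      rw [Subgroup.mem_normalizer_iff]
      intro y
      constructor
      · intro hy
        rw [key y hy]
        exact hy
      · intro hy
        have h3 := key _ hy
        have h5 : xGL c r t * y * (xGL c r t)⁻¹ = y := by
          have := congrArg (fun z => (xGL c r t)⁻¹ * z * xGL c r t) h3
          simpa [mul_assoc] using this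
        rw [← h5]
        exact hy
    · intro h hh
      have hconj : ∀ k ∈ D.diagonalSubgroup F, ∀ y ∈ D.rootSubgroup F (D.nroots - 1),
          k * y * k⁻¹ ∈ D.rootSubgroup F (D.nroots - 1) := by
        intro k hk y hy
        rw [mem_rootSubgroup_iff c] at hy ⊢
        obtain ⟨u, rfl⟩ := hy
        exact diagonal_conj_xGL c tc k hk _ hρ u
      show h ∈ Subgroup.normalizer _
      rw [Subgroup.mem_normalizer_iff]
      intro y
      constructor
      · exact hconj h hh y
      · intro hy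
        have := hconj h⁻¹ (Subgroup.inv_mem _ hh) _ hy
        rw [inv_inv] at this
        have h4 : h⁻¹ * (h * y * h⁻¹) * h = y := by group
        rwa [h4] at this
  have hbn := hle hb
  ext y
  rw [Subgroup.mem_map]
  constructor
  · rintro ⟨x, hx, rfl⟩
    exact (Subgroup.mem_normalizer_iff.mp hbn x).mp hx
  · intro hy
    refine ⟨b⁻¹ * y * b, ?_, ?_⟩
    · have := (Subgroup.mem_normalizer_iff.mp (Subgroup.inv_mem _ hbn) y).mp hy
      rwa [inv_inv] at this
    · show b * (b⁻¹ * y * b) * b⁻¹ = y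
      group

/-- `U` is a `p`-group. -/
theorem isPGroup_posUnipotent [Fintype F] (p : ℕ) [hp : Fact p.Prime] [CharP F p] (c : DCert D Ns) (tc : TCert D)
    (ac : ACert D wl ws sc) (hR2 : R2All D F) : IsPGroup p ↥(D.posUnipotent F) := by
  obtain ⟨n, -, hcard⟩ := FiniteField.card F p
  apply IsPGroup.of_card (n := (n : ℕ) * (D.nroots / 2))
  rw [card_posUnipotent c tc ac hR2, hcard, pow_mul]

/-- The root subgroup of the last root and any root subgroup other than the first one generate a `p`-group. -/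
theorem isPGroup_pair [Fintype F] (p : ℕ) [hp : Fact p.Prime] [CharP F p] (c : DCert D Ns) (tc : TCert D)
    (ac : ACert D wl ws sc) (hR2 : R2All D F) {tbl : List (List ℕ)} (hc : HighCert D tbl) (s : ℕ)
    (hs : s < D.nroots) (hs0 : s ≠ 0) :
    IsPGroup p ↥(D.rootSubgroup F (D.nroots - 1) ⊔ D.rootSubgroup F s) := by
  obtain ⟨h0, -, -, hw⟩ := hc
  have hρ : D.nroots - 1 < D.nroots := by omega
  obtain ⟨hword, hp1, hp2⟩ := hw s hs hs0
  set word := tbl.getD s [] with hword_def
  have hact := actsAs_wordN (F := F) c word hword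
  set m : GL D.Idx F := wordN c F word with hm
  have h1 := map_conj_rootSubgroup c hact _ hρ
  have h2 := map_conj_rootSubgroup c hact _ hs
  have hle : (D.rootSubgroup F (D.nroots - 1) ⊔ D.rootSubgroup F s).map (MulAut.conj m).toMonoidHom
      ≤ D.posUnipotent F := by
    rw [Subgroup.map_sup, h1, h2, sup_le_iff]
    exact ⟨rootSubgroup_le_pos _ hp1, rootSubgroup_le_pos _ hp2⟩
  have hP := (isPGroup_posUnipotent p c tc ac hR2).to_le hle
  have hP2 := hP.map (MulAut.conj m⁻¹).toMonoidHom
  have e : ((D.rootSubgroup F (D.nroots - 1) ⊔ D.rootSubgroup F s).map (MulAut.conj m).toMonoidHom).map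
      (MulAut.conj m⁻¹).toMonoidHom = D.rootSubgroup F (D.nroots - 1) ⊔ D.rootSubgroup F s := by
    rw [Subgroup.map_map]
    have : (MulAut.conj m⁻¹).toMonoidHom.comp (MulAut.conj m).toMonoidHom = MonoidHom.id _ := by
      apply MonoidHom.ext
      intro y
      show m⁻¹ * (m * y * m⁻¹) * (m⁻¹)⁻¹ = y
      group
    rw [this, Subgroup.map_id]
  rwa [e] at hP2

/-- Statement S2186 in general form. -/
theorem high_pair [Fintype F] (p : ℕ) [hp : Fact p.Prime] [CharP F p] (c : DCert D Ns) (tc : TCert D)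
    (ac : ACert D wl ws sc) (gc : GCert D w d) (hdesc : Descent D) (hR2 : R2All D F) {tbl : List (List ℕ)}
    (hc : HighCert D tbl) (g : GL D.Idx F) (hg : g ∈ D.group F) :
    IsPGroup p ↥(D.rootSubgroup F (D.nroots - 1) ⊔
      (D.rootSubgroup F (D.nroots - 1)).map (MulAut.conj g).toMonoidHom) ∨
    ∃ h ∈ D.group F, (D.rootSubgroup F (D.nroots - 1) ⊔
      (D.rootSubgroup F (D.nroots - 1)).map (MulAut.conj g).toMonoidHom).map (MulAut.conj h).toMonoidHom =
        D.rootSubgroup F (D.nroots - 1) ⊔ D.rootSubgroup F 0 := by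
  have h0 := hc.1
  have hρ : D.nroots - 1 < D.nroots := by omega
  obtain ⟨b, hb, n, hn, u, hu, rfl⟩ := canonical_exists c tc ac gc hdesc hR2 g hg
  have huB : u ∈ D.borelSubgroup F := Subgroup.mem_sup_left (flipGens_le_pos n hu)
  obtain ⟨π, hact, -⟩ := nAct_of_mem_monomial c tc n hn
  have hπρ := (hact _ hρ).1
  have e1 : (D.rootSubgroup F (D.nroots - 1)).map (MulAut.conj (b * n * u)).toMonoidHom =
      (D.rootSubgroup F (π (D.nroots - 1))).map (MulAut.conj b).toMonoidHom := by
    have : (MulAut.conj (b * n * u)).toMonoidHom =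
        (MulAut.conj b).toMonoidHom.comp ((MulAut.conj n).toMonoidHom.comp (MulAut.conj u).toMonoidHom) := by
      apply MonoidHom.ext
      intro y
      show b * n * u * y * (b * n * u)⁻¹ = b * (n * (u * y * u⁻¹) * n⁻¹) * b⁻¹
      group
    rw [this, ← Subgroup.map_map, ← Subgroup.map_map, map_conj_high_of_mem_borel c tc hR2 hc u huB,
      map_conj_rootSubgroup c hact _ hρ]
  have e2 : D.rootSubgroup F (D.nroots - 1) ⊔
      (D.rootSubgroup F (D.nroots - 1)).map (MulAut.conj (b * n * u)).toMonoidHom =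
      (D.rootSubgroup F (D.nroots - 1) ⊔ D.rootSubgroup F (π (D.nroots - 1))).map
        (MulAut.conj b).toMonoidHom := by
    rw [e1, Subgroup.map_sup, map_conj_high_of_mem_borel c tc hR2 hc b hb]
  rw [e2]
  by_cases hs : π (D.nroots - 1) = 0
  · right
    refine ⟨b⁻¹, Subgroup.inv_mem _ (borel_le_group c hb), ?_⟩
    rw [Subgroup.map_map, hs]
    have : (MulAut.conj b⁻¹).toMonoidHom.comp (MulAut.conj b).toMonoidHom = MonoidHom.id _ := by
      apply MonoidHom.ext
      intro y
      show b⁻¹ * (b * y * b⁻¹) * (b⁻¹)⁻¹ = y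
      group
    rw [this, Subgroup.map_id]
  · left
    exact (isPGroup_pair p c tc ac hR2 hc _ hπρ hs).map _

end Cfsg.Agent.Lib.Helper18_ChevHigh
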