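import Cfsg.Agent.Lib.Helper18_ChevField2

set_option autoImplicit false

/-!
Involutive field automorphisms of the Chevalley groups in characteristic two: every element `g` with
`g * φ g = 1` has the form `h⁻¹ * φ h`.
-/

namespace Cfsg.Agent.Lib.Helper18_ChevLang

open Cfsg Cfsg.Lie Cfsg.Agent.Lib.Helper18_ChevFast Cfsg.Agent.Lib.Helper18_ChevEngine
  Cfsg.Agent.Lib.Helper18_ChevR1 Cfsg.Agent.Lib.Helper18_ChevN Cfsg.Agent.Lib.Helper18_ChevR4
  Cfsg.Agent.Lib.Helper18_ChevSimple Cfsg.Agent.Lib.Helper18_ChevSimple2 Cfsg.Agent.Lib.Helper18_ChevFacts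
  Cfsg.Agent.Lib.Helper18_ChevWeyl Cfsg.Agent.Lib.Helper18_ChevDiag Cfsg.Agent.Lib.Helper18_ChevCar
  Cfsg.Agent.Lib.Helper18_ChevTorus Cfsg.Agent.Lib.Helper18_ChevGL Cfsg.Agent.Lib.Helper18_ChevComm
  Cfsg.Agent.Lib.Helper18_ChevComm2 Cfsg.Agent.Lib.Helper18_MatTri Cfsg.Agent.Lib.Helper18_ChevTri
  Cfsg.Agent.Lib.Helper18_ChevBorel Cfsg.Agent.Lib.Helper18_ChevAdd Cfsg.Agent.Lib.Helper18_ChevUni
  Cfsg.Agent.Lib.Helper18_ChevBN Cfsg.Agent.Lib.Helper18_ChevMono Cfsg.Agent.Lib.Helper18_ChevBNPair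
  Cfsg.Agent.Lib.Helper18_ChevSimp Cfsg.Agent.Lib.Helper18_ChevJCerts Cfsg.Agent.Lib.Helper18_ChevLevi
  Cfsg.Agent.Lib.Helper18_ChevBruhat Cfsg.Agent.Lib.Helper18_ChevPar Cfsg.Agent.Lib.Helper18_ChevRootHom
  Cfsg.Agent.Lib.Helper18_ChevOrder Cfsg.Agent.Lib.Helper18_ChevSylow Cfsg.Agent.Lib.Helper18_ChevCent
  Cfsg.Agent.Lib.Helper18_ChevFrob Cfsg.Agent.Lib.Helper18_ChevField Cfsg.Agent.Lib.Helper18_ChevField2

open scoped Pointwise

variable {D : ChevalleyDatum} {Ns : List NData} {F : Type*} [Field F]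
variable {wl : List ℤ} {ws : List (List ℤ)} {sc : ℤ} {w : List ℤ} {d : ℕ}

/-! ### A Sylow subgroup invariant under an automorphism of prime power order -/

theorem exists_conj_invariant {Γ : Type*} [Group Γ] [Finite Γ] (p : ℕ) [hp : Fact p.Prime] (P : Sylow p Γ)
    (ψ : MulAut Γ) (k : ℕ) (hψ : ψ ^ (p ^ k) = 1) :
    ∃ a : Γ, ∀ x ∈ (P : Subgroup Γ), a⁻¹ * ψ (a * x * a⁻¹) * a ∈ (P : Subgroup Γ) := by
  classical
  have hPG : IsPGroup p ↥(Subgroup.zpowers ψ) := by
    intro τ
    refine ⟨k, ?_⟩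
    obtain ⟨τ, hτ⟩ := τ
    obtain ⟨n, rfl⟩ := Subgroup.mem_zpowers_iff.mp hτ
    apply Subtype.ext
    show (ψ ^ n) ^ (p ^ k) = 1
    rw [← zpow_natCast, ← zpow_mul, mul_comm, zpow_mul, zpow_natCast, hψ, one_zpow]
  have hcard : ¬ p ∣ Nat.card (Sylow p Γ) := by
    intro h
    have h1 := card_sylow_modEq_one p Γ
    have h2 : Nat.card (Sylow p Γ) % p = 0 := Nat.mod_eq_zero_of_dvd h
    have h3 : Nat.card (Sylow p Γ) % p = 1 % p := h1
    rw [h2, Nat.mod_eq_of_lt hp.out.one_lt] at h3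
    exact zero_ne_one h3
  obtain ⟨Q, hQ⟩ := hPG.nonempty_fixed_point_of_prime_not_dvd_card (Sylow p Γ) hcard
  have hQψ : ψ • Q = Q := hQ ⟨ψ, Subgroup.mem_zpowers ψ⟩
  obtain ⟨a, ha⟩ := MulAction.exists_smul_eq Γ P Q
  refine ⟨a, ?_⟩
  intro x hx
  have hmem : ∀ y : Γ, y ∈ (Q : Subgroup Γ) ↔ a⁻¹ * y * a ∈ (P : Subgroup Γ) := by
    intro y
    rw [← ha, Sylow.coe_subgroup_smul, Subgroup.mem_pointwise_smul_iff_inv_smul_mem]
    simp [MulAut.smul_def]
  have h1 : a * x * a⁻¹ ∈ (Q : Subgroup Γ) := by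
    rw [hmem]
    have : a⁻¹ * (a * x * a⁻¹) * a = x := by group
    rw [this]
    exact hx
  have h2 : ψ (a * x * a⁻¹) ∈ (Q : Subgroup Γ) := by
    have h3 : ψ • (a * x * a⁻¹) ∈ ψ • (Q : Subgroup Γ) := Subgroup.smul_mem_pointwise_smul _ _ _ h1
    have h4 : ((ψ • Q : Sylow p Γ) : Subgroup Γ) = ψ • (Q : Subgroup Γ) := rfl
    rw [← h4, hQψ] at h3
    exact h3
  exact (hmem _).mp h2

/-! ### Involutive endomorphisms of the field -/

theorem mapGL_mapGL (f : F →+* F) (hff : ∀ x, f (f x) = x) (g : GL D.Idx F) : mapGL D f (mapGL D f g) = g := by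
  apply Units.ext
  ext i j
  rw [mapGL_coe, mapGL_coe]
  exact hff _

/-- The additive form of Hilbert's Theorem 90 for an involution of a field of characteristic two. -/
theorem exists_add_of_fixed [CharP F 2] (f : F →+* F) (hne : ∃ a, f a ≠ a) (hff : ∀ x, f (f x) = x) (t : F)
    (ht : f t = t) : ∃ s, t = s + f s := by
  obtain ⟨a, ha⟩ := hne
  have hd : a + f a ≠ 0 := by
    intro h
    apply ha
    exact ((CharTwo.add_eq_zero).mp h).symm
  have hfd : f (a + f a) = a + f a := by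
    rw [map_add, hff, add_comm]
  refine ⟨t * a / (a + f a), ?_⟩
  rw [map_div₀, map_mul, ht, hfd, ← add_div, ← mul_add, mul_div_assoc, div_self hd, mul_one]

/-! ### The unipotent part -/

theorem wordGL_zero (c : DCert D Ns) : ∀ L : List ℕ, wordGL c (L.map fun r => (r, (0 : F))) = 1
  | [] => by rw [List.map_nil, wordGL_nil]
  | r :: L => by rw [List.map_cons, wordGL_cons, xGL_zero, one_mul, wordGL_zero c L]

theorem conj_mem_listGens (c : DCert D Ns) (hR2 : R2All D F) {r : ℕ} {L : List ℕ} (hcl : ClosedList D (r :: L))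
    (t : F) (y : GL D.Idx F) (hy : y ∈ Subgroup.closure (listGens D F L)) :
    (xGL c r t)⁻¹ * y * xGL c r t ∈ Subgroup.closure (listGens D F L) := by
  have hrL : ∀ b ∈ L, r < b := (List.pairwise_cons.mp hcl.sorted).1
  have hrlt := hcl.lt r (by simp)
  have hnorm : ∀ t : F, xGL c r t ∈ Subgroup.normalizer (Subgroup.closure (listGens D F L) : Set (GL D.Idx F)) := by
    have key : ∀ (t : F), ∀ y ∈ listGens D F L,
        (xGL c r t)⁻¹ * y * xGL c r t ∈ Subgroup.closure (listGens D F L) := by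
      intro t y hy
      obtain ⟨b, hb, u, hy⟩ := hy
      rw [eq_xGL c hy]
      have hbr : b ≠ r := by have := hrL b hb; omega
      have hb' : b ∈ r :: L := List.mem_cons_of_mem _ hb
      apply conj_mem_of_R2 c (hR2 r b hrlt (hcl.lt b hb') hbr (hcl.ne_neg r (by simp) b hb'))
      · intro u'
        exact Subgroup.subset_closure ⟨b, hb, u', rfl⟩
      · intro k hk a
        obtain ⟨h1, h2, h3⟩ := hcl.closed r (by simp) b hb' (Ne.symm hbr) k hk
        have h4 : k.1 ∈ L := by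
          rcases List.mem_cons.mp h1 with h | h
          · omega
          · exact h
        exact Subgroup.subset_closure ⟨k.1, h4, a, rfl⟩
    intro t
    apply mem_normalizer_closure
    · intro y hy
      have := key (-t) y hy
      rwa [← xGL_inv, inv_inv] at this
    · intro y hy
      exact key t y hy
  have h1 := hnorm (-t)
  rw [← xGL_inv] at h1
  have := (Subgroup.mem_normalizer_iff.mp h1 y).mp hy
  rwa [inv_inv] at this

theorem mapGL_mem_listGens (c : DCert D Ns) (f : F →+* F) (L : List ℕ) (y : GL D.Idx F)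
    (hy : y ∈ Subgroup.closure (listGens D F L)) : mapGL D f y ∈ Subgroup.closure (listGens D F L) := by
  apply mapGL_mem_of_closure f _ _ _ y hy
  rintro s ⟨b, hb, u, hs⟩
  rw [eq_xGL c hs, mapGL_xGL]
  exact Subgroup.subset_closure ⟨b, hb, _, rfl⟩

theorem listGens_mono (r : ℕ) (L : List ℕ) :
    Subgroup.closure (listGens D F L) ≤ Subgroup.closure (listGens D F (r :: L)) := by
  apply Subgroup.closure_mono
  rintro g ⟨b, hb, u, hg⟩
  exact ⟨b, List.mem_cons_of_mem _ hb, u, hg⟩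

/-- Elements `u` of the group of a closed list of positive roots with `u * f u = 1` are of the form `v⁻¹ * f v`. -/
theorem exists_cobound_of_closed [CharP F 2] (c : DCert D Ns) (tc : TCert D) (ac : ACert D wl ws sc)
    (hR2 : R2All D F) (f : F →+* F) (hne : ∃ a, f a ≠ a) (hff : ∀ x, f (f x) = x) :
    ∀ (L : List ℕ), ClosedList D L → (∀ r ∈ L, D.IsPosRoot r) → ∀ u ∈ Subgroup.closure (listGens D F L),
      u * mapGL D f u = 1 → ∃ v ∈ Subgroup.closure (listGens D F L), u = v⁻¹ * mapGL D f v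
  | [], _, _, u, hu, _ => by
    have : listGens D F [] = ∅ := by
      ext g
      simp [listGens]
    rw [this, Subgroup.closure_empty, Subgroup.mem_bot] at hu
    exact ⟨1, Subgroup.one_mem _, by rw [hu, map_one, inv_one, one_mul]⟩
  | r :: L, hcl, hpos, u, hu, hu1 => by
    have ih := exists_cobound_of_closed c tc ac hR2 f hne hff L hcl.tail
      (fun s hs => hpos s (List.mem_cons_of_mem _ hs))
    have hrL : ∀ b ∈ L, r < b := (List.pairwise_cons.mp hcl.sorted).1
    have hrnot : r ∉ L := fun h => absurd (hrL r h) (lt_irrefl r)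
    obtain ⟨t, rfl⟩ := exists_word_of_closed c hR2 (r :: L) hcl u hu
    rw [List.map_cons, wordGL_cons] at hu1 ⊢
    set y := wordGL c (L.map fun s => (s, t s)) with hy
    have hyL : y ∈ Subgroup.closure (listGens D F L) := by
      apply wordGL_mem
      intro p hp
      rw [List.mem_map] at hp
      obtain ⟨s, hs, rfl⟩ := hp
      exact Subgroup.subset_closure ⟨s, hs, _, rfl⟩
    set a := t r with ha
    -- the first parameter is fixed
    have hy2 : (xGL c r (f a))⁻¹ * y * xGL c r (f a) * mapGL D f y ∈ Subgroup.closure (listGens D F L) :=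
      Subgroup.mul_mem _ (conj_mem_listGens c hR2 hcl _ y hyL) (mapGL_mem_listGens c f L y hyL)
    obtain ⟨t₂, ht₂⟩ := exists_word_of_closed c hR2 L hcl.tail _ hy2
    have hprod : xGL c r (a + f a) * wordGL c (L.map fun s => (s, t₂ s)) = 1 := by
      rw [← ht₂, ← hu1, map_mul, mapGL_xGL, ← xGL_mul]
      group
    have hfa : a + f a = 0 := by
      have hw : D.wordMat F ((r :: L).map fun s => (s, if s = r then a + f a else t₂ s)) =
          D.wordMat F ((r :: L).map fun s => (s, (fun _ => (0 : F)) s)) := by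
        rw [← wordGL_coe c, ← wordGL_coe c, wordGL_zero c (r :: L), List.map_cons, wordGL_cons, if_pos rfl]
        have hmap : (L.map fun s => (s, if s = r then a + f a else t₂ s)) = L.map fun s => (s, t₂ s) := by
          apply List.map_congr_left
          intro s hs
          have : s ≠ r := fun h => hrnot (h ▸ hs)
          rw [if_neg this]
        rw [hmap, hprod]
      have hnodup : (r :: L).Nodup := hcl.sorted.imp (fun h => ne_of_lt h)
      have := unique_word c tc ac (r :: L) hnodup hpos _ _ hw r (by simp)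
      simpa using this
    have hfa' : f a = a := ((CharTwo.add_eq_zero).mp hfa).symm
    obtain ⟨s, hs⟩ := exists_add_of_fixed f hne hff a hfa'
    -- the twisted conjugate by `x_r(s)` lies in the group of the tail
    set u₁ := (xGL c r (-(f s)))⁻¹ * y * xGL c r (-(f s)) with hu₁
    have hu₁L : u₁ ∈ Subgroup.closure (listGens D F L) := conj_mem_listGens c hR2 hcl _ y hyL
    have hu₁eq : u₁ = xGL c r s * (xGL c r a * y) * (mapGL D f (xGL c r s))⁻¹ := by
      rw [mapGL_xGL, xGL_inv, hu₁, xGL_inv, neg_neg]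
      have h0 : xGL c r s * xGL c r a * xGL c r (f s) = (1 : GL D.Idx F) := by
        rw [xGL_mul, xGL_mul, hs]
        have : s + (s + f s) + f s = 0 := by
          have h2 : s + (s + f s) + f s = (s + s) + (f s + f s) := by ring
          rw [h2, CharTwo.add_self_eq_zero, CharTwo.add_self_eq_zero, add_zero]
        rw [this, xGL_zero]
      have h3 : xGL c r s * (xGL c r a * y) * xGL c r (-(f s)) =
          (xGL c r s * xGL c r a * xGL c r (f s)) * (xGL c r (f s) * y * xGL c r (-(f s))) := by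
        have h4 : xGL c r (f s) * xGL c r (f s) = (1 : GL D.Idx F) := by
          rw [xGL_mul, CharTwo.add_self_eq_zero, xGL_zero]
        calc xGL c r s * (xGL c r a * y) * xGL c r (-(f s))
            = xGL c r s * xGL c r a * 1 * y * xGL c r (-(f s)) := by group
          _ = _ := by rw [← h4]; group
      rw [h3, h0, one_mul]
    have hu₁1 : u₁ * mapGL D f u₁ = 1 := by
      rw [hu₁eq, map_mul, map_mul, map_inv, mapGL_mapGL f hff]
      have h5 : xGL c r s * (xGL c r a * y) * (mapGL D f (xGL c r s))⁻¹ *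
          (mapGL D f (xGL c r s) * mapGL D f (xGL c r a * y) * (xGL c r s)⁻¹) =
          xGL c r s * ((xGL c r a * y) * mapGL D f (xGL c r a * y)) * (xGL c r s)⁻¹ := by group
      rw [h5, hu1, mul_one, mul_inv_cancel]
    obtain ⟨v₂, hv₂, hv₂eq⟩ := ih u₁ hu₁L hu₁1
    refine ⟨v₂ * xGL c r s, Subgroup.mul_mem _ (listGens_mono r L hv₂)
      (Subgroup.subset_closure ⟨r, by simp, s, rfl⟩), ?_⟩
    rw [map_mul, mul_inv_rev, mul_assoc, ← mul_assoc v₂⁻¹, ← hv₂eq, hu₁eq]
    group

/-! ### The diagonal part -/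

/-- Elements `h` of `H` with `h * f h = 1` are of the form `k⁻¹ * f k`, in characteristic two. -/
theorem exists_cobound_diagonal [Fintype F] [CharP F 2] (c : DCert D Ns) (tc : TCert D) (f : F →+* F)
    (h : GL D.Idx F) (hh : h ∈ D.diagonalSubgroup F) (hh1 : h * mapGL D f h = 1) :
    ∃ k ∈ D.diagonalSubgroup F, h = k⁻¹ * mapGL D f k := by
  obtain ⟨n, -, hcard⟩ := FiniteField.card F 2
  have hpow := pow_card_sub_one_diagonal c tc h hh
  have hn : 0 < (n : ℕ) := n.pos
  obtain ⟨j, hj⟩ : ∃ j, Fintype.card F - 1 = 2 * j + 1 := by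
    have h2 : 2 ∣ Fintype.card F := by
      rw [hcard]
      exact dvd_pow_self 2 (Nat.pos_iff_ne_zero.mp hn)
    obtain ⟨m, hm⟩ := h2
    have hpos : 0 < Fintype.card F := Fintype.card_pos
    exact ⟨m - 1, by omega⟩
  have hfh : mapGL D f h = h⁻¹ := eq_inv_of_mul_eq_one_right hh1
  refine ⟨(h ^ (j + 1))⁻¹, Subgroup.inv_mem _ (Subgroup.pow_mem _ hh _), ?_⟩
  rw [inv_inv, map_inv, map_pow, hfh, inv_pow, inv_inv, ← pow_add]
  have : j + 1 + (j + 1) = (Fintype.card F - 1) + 1 := by omega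
  rw [this, pow_succ, hpow, one_mul]

/-! ### The Borel subgroup -/

theorem exists_cobound_borel [Fintype F] [CharP F 2] (c : DCert D Ns) (tc : TCert D) (ac : ACert D wl ws sc)
    (gc : GCert D w d) (hR2 : R2All D F) (f : F →+* F) (hne : ∃ a, f a ≠ a) (hff : ∀ x, f (f x) = x)
    (b : GL D.Idx F) (hb : b ∈ D.borelSubgroup F) (hb1 : b * mapGL D f b = 1) :
    ∃ x ∈ D.borelSubgroup F, b = x⁻¹ * mapGL D f x := by
  obtain ⟨u, hu, h, hh, rfl⟩ := exists_mul_of_mem_sup _ _ (diagonal_le_normalizer_pos c tc) hb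
  have hfu := mapGL_mem_pos c f u hu
  have hfh := mapGL_mem_diagonal c f h hh
  -- the diagonal part
  have hh1 : h * mapGL D f h = 1 := by
    have h1 : u * (h * mapGL D f u * h⁻¹) ∈ D.posUnipotent F := by
      refine Subgroup.mul_mem _ hu ?_
      exact (Subgroup.mem_normalizer_iff.mp (diagonal_le_normalizer_pos c tc hh) _).mp hfu
    have h2 : u * h * mapGL D f (u * h) = (u * (h * mapGL D f u * h⁻¹)) * (h * mapGL D f h) := by
      rw [map_mul]
      group
    rw [h2] at hb1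
    have h3 : h * mapGL D f h ∈ D.posUnipotent F ⊓ D.diagonalSubgroup F := by
      refine Subgroup.mem_inf.mpr ⟨?_, Subgroup.mul_mem _ hh hfh⟩
      have : h * mapGL D f h = (u * (h * mapGL D f u * h⁻¹))⁻¹ := eq_inv_of_mul_eq_one_right hb1
      rw [this]
      exact Subgroup.inv_mem _ h1
    rw [pos_inf_diagonal c tc gc, Subgroup.mem_bot] at h3
    exact h3
  obtain ⟨k, hk, hkeq⟩ := exists_cobound_diagonal c tc f h hh hh1
  -- the unipotent part
  set u' := k * u * k⁻¹ with hu'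
  have hu'U : u' ∈ D.posUnipotent F :=
    (Subgroup.mem_normalizer_iff.mp (diagonal_le_normalizer_pos c tc hk) _).mp hu
  have hu'eq : u' = k * (u * h) * (mapGL D f k)⁻¹ := by
    rw [hu', hkeq]
    group
  have hu'1 : u' * mapGL D f u' = 1 := by
    rw [hu'eq, map_mul, map_mul, map_inv, mapGL_mapGL f hff]
    have h5 : k * (u * h) * (mapGL D f k)⁻¹ * (mapGL D f k * mapGL D f (u * h) * k⁻¹) =
        k * ((u * h) * mapGL D f (u * h)) * k⁻¹ := by group
    rw [h5, hb1, mul_one, mul_inv_cancel]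
  have hu'L : u' ∈ Subgroup.closure (listGens D F D.posRoots) := by
    rw [← posUnipotent_eq_listGens]
    exact hu'U
  obtain ⟨v, hv, hveq⟩ := exists_cobound_of_closed c tc ac hR2 f hne hff D.posRoots
    (closedList_posRoots c tc ac) (fun r hr => (mem_posRoots r).mp hr) u' hu'L hu'1
  rw [← posUnipotent_eq_listGens] at hv
  refine ⟨v * k, Subgroup.mul_mem _ (Subgroup.mem_sup_left hv) (Subgroup.mem_sup_right hk), ?_⟩
  rw [map_mul, mul_inv_rev, mul_assoc, ← mul_assoc v⁻¹, ← hveq, hu'eq]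
  group

/-! ### The group -/

/-- Every element `g` of the group with `g * φ g = 1` has the form `h⁻¹ * φ h`, for an involutive field
automorphism `φ` in characteristic two. -/
theorem exists_cobound_group [Fintype F] [CharP F 2] (c : DCert D Ns) (tc : TCert D) (ac : ACert D wl ws sc)
    (gc : GCert D w d) (hdesc : Descent D) (hR2 : R2All D F) (r₀ : ℕ) (hr₀ : r₀ < D.nroots)
    (φ : MulAut ↥(D.group F)) (hφ : D.IsFieldAut φ) (h2 : orderOf φ = 2)
    (g : ↥(D.group F)) (hg : g * φ g = 1) : ∃ h : ↥(D.group F), g = h⁻¹ * φ h := by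
  classical
  obtain ⟨σ, hσ⟩ := hφ
  have hord : orderOf (σ : RingAut F) = 2 := by
    rw [orderOf_fieldAut c tc ac φ σ hσ r₀ hr₀, h2]
  have hφφ : ∀ x, φ (φ x) = x := by
    intro x
    have h1 : φ ^ 2 = 1 := by
      rw [← h2]
      exact pow_orderOf_eq_one φ
    have h3 : (φ ^ 2) x = x := by rw [h1]; rfl
    rwa [pow_two] at h3
  have hff : ∀ x, (σ : F →+* F) ((σ : F →+* F) x) = x := by
    intro x
    have h1 : (σ : RingAut F) ^ 2 = 1 := by
      rw [← hord]
      exact pow_orderOf_eq_one _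
    have h3 : ((σ : RingAut F) ^ 2) x = x := by rw [h1]; rfl
    rwa [pow_two] at h3
  have hne : ∃ a, (σ : F →+* F) a ≠ a := by
    by_contra hall
    push_neg at hall
    have h1 : (σ : RingAut F) = 1 := by
      ext x
      exact hall x
    rw [h1, orderOf_one] at hord
    omega
  have hφM : ∀ x : ↥(D.group F), ((φ x : ↥(D.group F)) : GL D.Idx F) = mapGL D (σ : F →+* F) (x : GL D.Idx F) :=
    fieldAut_apply c φ σ hσ
  haveI : Fact (Nat.Prime 2) := ⟨Nat.prime_two⟩
  obtain ⟨P, hP⟩ := exists_sylow 2 c tc ac gc hdesc hR2 (F := F)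
  have hmemP : ∀ x : ↥(D.group F), x ∈ (P : Subgroup ↥(D.group F)) ↔ (x : GL D.Idx F) ∈ D.posUnipotent F := by
    intro x
    rw [hP]
    exact Subgroup.mem_subgroupOf
  -- the twisted automorphism
  have hψ : (MulAut.conj g * φ) ^ (2 ^ 1) = 1 := by
    rw [pow_one, pow_two]
    apply MulEquiv.ext
    intro x
    show g * φ (g * φ x * g⁻¹) * g⁻¹ = x
    rw [map_mul, map_mul, map_inv, hφφ]
    have h5 : g * (φ g * x * (φ g)⁻¹) * g⁻¹ = (g * φ g) * x * (g * φ g)⁻¹ := by group
    rw [h5, hg, one_mul, inv_one, mul_one]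
  obtain ⟨a, ha⟩ := exists_conj_invariant 2 P (MulAut.conj g * φ) 1 hψ
  set b := a⁻¹ * g * φ a with hbdef
  have hb1 : b * φ b = 1 := by
    rw [hbdef, map_mul, map_mul, map_inv, hφφ]
    have h5 : a⁻¹ * g * φ a * ((φ a)⁻¹ * φ g * a) = a⁻¹ * (g * φ g) * a := by group
    rw [h5, hg, mul_one, inv_mul_cancel]
  have hφP : ∀ y ∈ (P : Subgroup ↥(D.group F)), φ y ∈ (P : Subgroup ↥(D.group F)) := by
    intro y hy
    rw [hmemP] at hy ⊢
    rw [hφM]
    exact mapGL_mem_pos c _ _ hy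
  have hconj1 : ∀ y ∈ (P : Subgroup ↥(D.group F)), b * y * b⁻¹ ∈ (P : Subgroup ↥(D.group F)) := by
    intro y hy
    have h1 := ha (φ y) (hφP y hy)
    have h2 : a⁻¹ * (MulAut.conj g * φ) (a * φ y * a⁻¹) * a = b * y * b⁻¹ := by
      show a⁻¹ * (g * φ (a * φ y * a⁻¹) * g⁻¹) * a = b * y * b⁻¹
      rw [map_mul, map_mul, map_inv, hφφ, hbdef]
      group
    rwa [h2] at h1
  have hbinv : b⁻¹ = φ b := (eq_inv_of_mul_eq_one_right hb1).symm
  have hconj2 : ∀ y ∈ (P : Subgroup ↥(D.group F)), b⁻¹ * y * b ∈ (P : Subgroup ↥(D.group F)) := by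
    intro y hy
    have h1 := hφP _ (hconj1 (φ y) (hφP y hy))
    rw [map_mul, map_mul, map_inv, hφφ, ← hbinv, inv_inv] at h1
    exact h1
  -- `b` lies in the Borel subgroup
  have hbB : (b : GL D.Idx F) ∈ D.borelSubgroup F := by
    rw [← normalizer_pos_inf_group c tc ac gc hR2]
    refine Subgroup.mem_inf.mpr ⟨?_, b.2⟩
    rw [Subgroup.mem_normalizer_iff]
    intro x
    constructor
    · intro hx
      have hxG : x ∈ D.group F := posUnipotent_le_group c hx
      have := hconj1 ⟨x, hxG⟩ ((hmemP _).mpr hx)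
      rw [hmemP] at this
      exact this
    · intro hx
      have hxG : (b : GL D.Idx F) * x * (b : GL D.Idx F)⁻¹ ∈ D.group F := posUnipotent_le_group c hx
      have := hconj2 ⟨_, hxG⟩ ((hmemP _).mpr hx)
      rw [hmemP] at this
      have e : ((b⁻¹ * ⟨_, hxG⟩ * b : ↥(D.group F)) : GL D.Idx F) = x := by
        show (b : GL D.Idx F)⁻¹ * ((b : GL D.Idx F) * x * (b : GL D.Idx F)⁻¹) * (b : GL D.Idx F) = x
        group
      rwa [e] at this
  have hb1' : (b : GL D.Idx F) * mapGL D (σ : F →+* F) (b : GL D.Idx F) = 1 := by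
    rw [← hφM]
    exact congrArg Subtype.val hb1
  obtain ⟨x, hxB, hxeq⟩ := exists_cobound_borel c tc ac gc hR2 _ hne hff _ hbB hb1'
  have hxG : x ∈ D.group F := borel_le_group c hxB
  have hbx : b = (⟨x, hxG⟩ : ↥(D.group F))⁻¹ * φ ⟨x, hxG⟩ := by
    apply Subtype.ext
    show (b : GL D.Idx F) = x⁻¹ * ((φ ⟨x, hxG⟩ : ↥(D.group F)) : GL D.Idx F)
    rw [hφM]
    exact hxeq
  refine ⟨⟨x, hxG⟩ * a⁻¹, ?_⟩
  have hgb : g = a * b * (φ a)⁻¹ := by
    rw [hbdef]
    group
  rw [hgb, hbx, map_mul, map_inv]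
  group

end Cfsg.Agent.Lib.Helper18_ChevLang
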