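import Cfsg.Agent.Lib.Helper18_ChevRootHom

set_option autoImplicit false

/-!
The order of a Chevalley group over a finite field, as a sum over the Weyl group (the group side of the order
formulas): `|G| = q^N |H| ∑_{σ ∈ W} q^{N(σ)}`.
-/

namespace Cfsg.Agent.Lib.Helper18_ChevOrder

open Cfsg Cfsg.Lie Cfsg.Agent.Lib.Helper18_ChevFast Cfsg.Agent.Lib.Helper18_ChevEngine
  Cfsg.Agent.Lib.Helper18_ChevR1 Cfsg.Agent.Lib.Helper18_ChevN Cfsg.Agent.Lib.Helper18_ChevR4
  Cfsg.Agent.Lib.Helper18_ChevSimple Cfsg.Agent.Lib.Helper18_ChevSimple2 Cfsg.Agent.Lib.Helper18_ChevFacts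
  Cfsg.Agent.Lib.Helper18_ChevWeyl Cfsg.Agent.Lib.Helper18_ChevDiag Cfsg.Agent.Lib.Helper18_ChevCar
  Cfsg.Agent.Lib.Helper18_ChevTorus Cfsg.Agent.Lib.Helper18_ChevGL Cfsg.Agent.Lib.Helper18_ChevComm
  Cfsg.Agent.Lib.Helper18_ChevComm2 Cfsg.Agent.Lib.Helper18_MatTri Cfsg.Agent.Lib.Helper18_ChevTri
  Cfsg.Agent.Lib.Helper18_ChevBorel Cfsg.Agent.Lib.Helper18_ChevAdd Cfsg.Agent.Lib.Helper18_ChevUni
  Cfsg.Agent.Lib.Helper18_ChevBN Cfsg.Agent.Lib.Helper18_ChevMono Cfsg.Agent.Lib.Helper18_ChevBNPair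
  Cfsg.Agent.Lib.Helper18_ChevSimp Cfsg.Agent.Lib.Helper18_ChevJCerts Cfsg.Agent.Lib.Helper18_ChevLevi
  Cfsg.Agent.Lib.Helper18_ChevBruhat Cfsg.Agent.Lib.Helper18_ChevPar Cfsg.Agent.Lib.Helper18_ChevRootHom

variable {D : ChevalleyDatum} {Ns : List NData} {F : Type*} [Field F]
variable {wl : List ℤ} {ws : List (List ℤ)} {sc : ℤ} {w : List ℤ} {d : ℕ}

/-! ### The order of the group of a closed list of positive roots -/

/-- Extension by zero of a family of parameters indexed by a list of roots. -/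
def extZeroL (L : List ℕ) (t : ↥L.toFinset → F) (r : ℕ) : F :=
  if h : r ∈ L.toFinset then t ⟨r, h⟩ else 0

theorem closedList_nodup {L : List ℕ} (h : ClosedList D L) : L.Nodup :=
  h.sorted.imp (fun hab => Nat.ne_of_lt hab)

theorem wordGL_mem_listGens (c : DCert D Ns) (L : List ℕ) (t : ℕ → F) :
    wordGL c (L.map fun r => (r, t r)) ∈ Subgroup.closure (listGens D F L) := by
  apply wordGL_mem
  intro p hp
  rw [List.mem_map] at hp
  obtain ⟨r, hr, rfl⟩ := hp
  exact Subgroup.subset_closure ⟨r, hr, t r, rfl⟩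

theorem card_closure_listGens [Fintype F] (c : DCert D Ns) (tc : TCert D) (ac : ACert D wl ws sc)
    (hR2 : R2All D F) (L : List ℕ) (hcl : ClosedList D L) (hpos : ∀ r ∈ L, D.IsPosRoot r) :
    Nat.card (Subgroup.closure (listGens D F L)) = Fintype.card F ^ L.length := by
  let φ : (↥L.toFinset → F) → Subgroup.closure (listGens D F L) := fun t =>
    ⟨wordGL c (L.map fun r => (r, extZeroL L t r)), wordGL_mem_listGens c L _⟩
  have hφ : Function.Bijective φ := by
    constructor
    · intro t t' h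
      have h1 : wordGL c (L.map fun r => (r, extZeroL L t r)) =
          wordGL c (L.map fun r => (r, extZeroL L t' r)) := congrArg Subtype.val h
      have h2 := congrArg (fun g : GL D.Idx F => (g : Matrix D.Idx D.Idx F)) h1
      simp only [wordGL_coe] at h2
      have h3 := unique_word c tc ac L (closedList_nodup hcl) hpos _ _ h2
      funext ⟨r, hr⟩
      have h4 := h3 r (List.mem_toFinset.mp hr)
      unfold extZeroL at h4
      rwa [dif_pos hr, dif_pos hr] at h4
    · rintro ⟨g, hg⟩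
      obtain ⟨t, rfl⟩ := exists_word_of_closed c hR2 L hcl g hg
      refine ⟨fun r => t r.val, ?_⟩
      apply Subtype.ext
      show wordGL c (L.map fun r => (r, extZeroL L (fun r => t r.val) r)) = _
      congr 1
      apply List.map_congr_left
      intro r hr
      unfold extZeroL
      rw [dif_pos (List.mem_toFinset.mpr hr)]
  rw [← Nat.card_congr (Equiv.ofBijective φ hφ), Nat.card_fun, Nat.card_eq_fintype_card,
    Nat.card_eq_fintype_card, Fintype.card_coe, List.toFinset_card_of_nodup (closedList_nodup hcl)]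

/-! ### The positive roots made negative by a linear map -/

/-- The positive roots that `π` maps to negative roots, in increasing order. -/
def negList (D : ChevalleyDatum) (π : ℕ → ℕ) : List ℕ := D.posRoots.filter fun r => decide (D.IsNegRoot (π r))

theorem mem_negList (π : ℕ → ℕ) (r : ℕ) : r ∈ negList D π ↔ D.IsPosRoot r ∧ D.IsNegRoot (π r) := by
  unfold negList
  rw [List.mem_filter, mem_posRoots, decide_eq_true_eq]

theorem grF_eq_grRoot (w' : ℕ → ℤ) : grF D w' = grRoot D ((List.range D.rank).map w') := by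
  funext s
  unfold grF grRoot
  apply Finset.sum_congr rfl
  intro j hj
  rw [Finset.mem_range] at hj
  rw [List.getD_eq_getElem?_getD, List.getElem?_map, List.getElem?_range hj]
  rfl

theorem isGrading_grF (c : DCert D Ns) (tc : TCert D) (w' : ℕ → ℤ) : IsGrading D (grF D w') := by
  rw [grF_eq_grRoot]
  exact isGrading_w c tc _

theorem closedList_negList (c : DCert D Ns) (tc : TCert D) (ac : ACert D wl ws sc) {π : ℕ → ℕ}
    (hπ : LinMap D π) : ClosedList D (negList D π) where
  sorted := List.Pairwise.filter _ posRoots_sorted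
  lt := fun a ha => ((mem_negList π a).mp ha).1.1
  ne_neg := by
    intro a ha b hb h
    have h1 := neg_isNeg c tc ac a ((mem_negList π a).mp ha).1
    rw [← h] at h1
    exact ac.not_pos_and_neg b ((mem_negList π b).mp hb).1 h1
  closed := by
    intro a ha b hb _ k hk
    obtain ⟨hap, han⟩ := (mem_negList π a).mp ha
    obtain ⟨hbp, hbn⟩ := (mem_negList π b).mp hb
    obtain ⟨h1, h2, h3⟩ := commTerms_pos_lt c tc ac a b hap hbp k hk
    refine ⟨(mem_negList π _).mpr ⟨h1, ?_⟩, h2, h3⟩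
    rw [ac.neg_iff _ (hπ.1 _ h1.1)]
    intro m hm
    obtain ⟨w', hw'⟩ := hπ.2.2 (fun j => (ws.getD m []).getD j 0)
    have hg := isGrading_grF c tc w'
    obtain ⟨-, hi, hj, hval⟩ := commTerms_grading c.rows ac.in_range hg a b hap.1 hbp.1 k hk
    have ea : cf D ws m (π a) = grF D w' a := hw' a hap.1
    have eb : cf D ws m (π b) = grF D w' b := hw' b hbp.1
    have ek : cf D ws m (π k.1) = grF D w' k.1 := hw' k.1 h1.1
    have na := (ac.neg_iff _ (hπ.1 _ hap.1)).mp han m hm
    have nb := (ac.neg_iff _ (hπ.1 _ hbp.1)).mp hbn m hm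
    rw [ek, hval, ← ea, ← eb]
    have hi' : (1 : ℤ) ≤ (k.2.2.1 : ℤ) := by exact_mod_cast hi
    have hj' : (1 : ℤ) ≤ (k.2.2.2 : ℤ) := by exact_mod_cast hj
    nlinarith

theorem negGens_eq_listGens (c : DCert D Ns) (π : ℕ → ℕ) : negGens c F π = listGens D F (negList D π) := by
  ext g
  constructor
  · rintro ⟨r, t, hr, hneg, rfl⟩
    exact ⟨r, (mem_negList π r).mpr ⟨hr, hneg⟩, t, rfl⟩
  · rintro ⟨r, hr, t, hg⟩
    obtain ⟨h1, h2⟩ := (mem_negList π r).mp hr
    exact ⟨r, t, h1, h2, eq_xGL c hg⟩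

/-- A positive root subgroup conjugated into `V` by an element acting as `π` has `π r` negative. -/
theorem isNeg_of_flips (c : DCert D Ns) (tc : TCert D) (ac : ACert D wl ws sc) (gc : GCert D w d)
    {n : GL D.Idx F} {π : ℕ → ℕ} (hact : ActsAs c n π) (r : ℕ) (hr : r < D.nroots)
    (hflip : (D.rootSubgroup F r).map (MulAut.conj n).toMonoidHom ≤ D.negUnipotent F) : D.IsNegRoot (π r) := by
  obtain ⟨h1, a, ha, e⟩ := hact r hr
  have hmem : n * xGL c r 1 * n⁻¹ ∈ D.negUnipotent F := by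
    apply hflip
    rw [Subgroup.mem_map]
    exact ⟨xGL c r 1, Subgroup.subset_closure ⟨1, rfl⟩, rfl⟩
  rw [e 1] at hmem
  rcases ac.posOrNeg _ h1 with hp | hn
  · exfalso
    have hB : xGL c (π r) (a * 1) ∈ D.borelSubgroup F :=
      Subgroup.mem_sup_left (Subgroup.subset_closure ⟨_, _, hp, rfl⟩)
    have h2 : xGL c (π r) (a * 1) ∈ D.borelSubgroup F ⊓ D.negUnipotent F := Subgroup.mem_inf.mpr ⟨hB, hmem⟩
    rw [borel_inf_neg c tc gc, Subgroup.mem_bot] at h2
    have h3 : xGL c (π r) (a * 1) ∈ D.diagonalSubgroup F := by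
      rw [h2]
      exact Subgroup.one_mem _
    have := eq_zero_of_xGL_mem_diagonal c tc ac (π r) h1 _ h3
    rw [mul_one] at this
    exact ha this
  · exact hn

theorem flipGens_eq_negGens (c : DCert D Ns) (tc : TCert D) (ac : ACert D wl ws sc) (gc : GCert D w d)
    {n : GL D.Idx F} {π : ℕ → ℕ} (hact : ActsAs c n π) : flipGens D F n = negGens c F π := by
  apply Set.Subset.antisymm
  · rintro x ⟨r, t, hr, hflip, hx⟩
    exact ⟨r, t, hr, isNeg_of_flips c tc ac gc hact r hr.1 hflip, eq_xGL c hx⟩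
  · exact negGens_subset c n π hact

/-- The number of positive roots that a permutation of the roots makes negative. -/
def weylLen (D : ChevalleyDatum) (σ : Equiv.Perm (Fin D.nroots)) : ℕ :=
  ((Finset.univ : Finset (Fin D.nroots)).filter fun r : Fin D.nroots =>
    D.IsPosRoot (r : ℕ) ∧ D.IsNegRoot ((σ r : Fin D.nroots) : ℕ)).card

theorem length_negList (π : ℕ → ℕ) (σ : Equiv.Perm (Fin D.nroots))
    (h : ∀ r : Fin D.nroots, ((σ r : Fin D.nroots) : ℕ) = π r) : (negList D π).length = weylLen D σ := by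
  have hnd : (negList D π).Nodup := List.Nodup.filter _ posRoots_nodup
  rw [← List.toFinset_card_of_nodup hnd]
  unfold weylLen
  rw [← Finset.card_map Fin.valEmbedding]
  congr 1
  ext r
  rw [List.mem_toFinset, mem_negList, Finset.mem_map]
  constructor
  · rintro ⟨hp, hn⟩
    refine ⟨⟨r, hp.1⟩, ?_, rfl⟩
    rw [Finset.mem_filter]
    refine ⟨Finset.mem_univ _, hp, ?_⟩
    rw [h]
    exact hn
  · rintro ⟨r', hr', rfl⟩
    rw [Finset.mem_filter] at hr'
    obtain ⟨-, hp, hn⟩ := hr'
    rw [h] at hn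
    exact ⟨hp, hn⟩

/-- The order of `U_n⁻`. -/
theorem card_flipGens [Fintype F] (c : DCert D Ns) (tc : TCert D) (ac : ACert D wl ws sc) (gc : GCert D w d)
    (hR2 : R2All D F) (n : ↥(D.monomialSubgroup F)) :
    Nat.card (Subgroup.closure (flipGens D F (n : GL D.Idx F))) =
      Fintype.card F ^ weylLen D (rootHom c tc ac n) := by
  have hact := piOf_actsAs c tc n
  have hlin := piOf_linMap c tc n
  rw [flipGens_eq_negGens c tc ac gc hact, negGens_eq_listGens,
    card_closure_listGens c tc ac hR2 _ (closedList_negList c tc ac hlin)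
      (fun r hr => ((mem_negList _ r).mp hr).1),
    length_negList (piOf c tc n) (rootHom c tc ac n) (fun r => rootHom_apply c tc ac n r)]

/-! ### The order of `B` -/

theorem card_borel [Fintype F] (c : DCert D Ns) (tc : TCert D) (ac : ACert D wl ws sc) (gc : GCert D w d)
    (hR2 : R2All D F) :
    Nat.card (D.borelSubgroup F) = Fintype.card F ^ (D.nroots / 2) * Nat.card (D.diagonalSubgroup F) := by
  let φ : ↥(D.posUnipotent F) × ↥(D.diagonalSubgroup F) → ↥(D.borelSubgroup F) := fun p =>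
    ⟨p.1 * p.2, Subgroup.mul_mem _ (Subgroup.mem_sup_left p.1.2) (Subgroup.mem_sup_right p.2.2)⟩
  have hφ : Function.Bijective φ := by
    constructor
    · rintro ⟨u, h⟩ ⟨u', h'⟩ e
      have e1 : (u : GL D.Idx F) * h = u' * h' := congrArg Subtype.val e
      have hmem : (u' : GL D.Idx F)⁻¹ * u ∈ D.posUnipotent F ⊓ D.monomialSubgroup F := by
        refine Subgroup.mem_inf.mpr ⟨Subgroup.mul_mem _ (Subgroup.inv_mem _ u'.2) u.2, ?_⟩
        have : (u' : GL D.Idx F)⁻¹ * u = h' * (h : GL D.Idx F)⁻¹ := by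
          have : (u' : GL D.Idx F)⁻¹ * u = (u' : GL D.Idx F)⁻¹ * ((u : GL D.Idx F) * h) * (h : GL D.Idx F)⁻¹ := by
            group
          rw [this, e1]
          group
        rw [this]
        exact diagonal_le_monomial (Subgroup.mul_mem _ h'.2 (Subgroup.inv_mem _ h.2))
      rw [pos_inf_monomial c tc gc, Subgroup.mem_bot, inv_mul_eq_one] at hmem
      have hh : (h : GL D.Idx F) = h' := by
        rw [← hmem] at e1
        exact mul_left_cancel e1
      exact Prod.ext (Subtype.ext hmem.symm) (Subtype.ext hh)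
    · rintro ⟨b, hb⟩
      obtain ⟨u, hu, h, hh, rfl⟩ := exists_mul_of_mem_sup _ _ (diagonal_le_normalizer_pos c tc) hb
      exact ⟨(⟨u, hu⟩, ⟨h, hh⟩), rfl⟩
  rw [← Nat.card_congr (Equiv.ofBijective φ hφ), Nat.card_prod, card_posUnipotent c tc ac hR2]

/-! ### The order of the group -/

theorem negGens_congr (c : DCert D Ns) {π π' : ℕ → ℕ} (h : ∀ r < D.nroots, π r = π' r) :
    negGens c F π = negGens c F π' := by
  ext g
  constructor
  · rintro ⟨r, t, hr, hneg, rfl⟩
    exact ⟨r, t, hr, by rwa [← h r hr.1], rfl⟩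
  · rintro ⟨r, t, hr, hneg, rfl⟩
    exact ⟨r, t, hr, by rwa [h r hr.1], rfl⟩

/-- `U_n⁻` depends only on the permutation of the roots induced by `n`. -/
theorem flipGens_congr (c : DCert D Ns) (tc : TCert D) (ac : ACert D wl ws sc) (gc : GCert D w d)
    (n m : ↥(D.monomialSubgroup F)) (h : rootHom c tc ac n = rootHom c tc ac m) :
    flipGens D F (n : GL D.Idx F) = flipGens D F (m : GL D.Idx F) := by
  rw [flipGens_eq_negGens c tc ac gc (piOf_actsAs c tc n), flipGens_eq_negGens c tc ac gc (piOf_actsAs c tc m)]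
  apply negGens_congr
  intro r hr
  have := congrArg (fun σ : Equiv.Perm (Fin D.nroots) => ((σ ⟨r, hr⟩ : Fin D.nroots) : ℕ)) h
  exact this

/-- The order of a Chevalley group over a finite field as a sum over the Weyl group. -/
theorem card_group [Fintype F] (c : DCert D Ns) (tc : TCert D) (ac : ACert D wl ws sc) (gc : GCert D w d)
    (hdesc : Descent D) (hR2 : R2All D F) :
    Nat.card (D.group F) = Fintype.card F ^ (D.nroots / 2) * Nat.card (D.diagonalSubgroup F) *
      ∑ᶠ σ : ↥(weylPerm D), Fintype.card F ^ weylLen D (σ : Equiv.Perm (Fin D.nroots)) := by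
  classical
  have hrep : ∀ σ : ↥(weylPerm D), ∃ n : ↥(D.monomialSubgroup F), rootHom c tc ac n = σ := by
    intro σ
    have key : ∀ τ : Equiv.Perm (Fin D.nroots), τ ∈ weylPerm D →
        ∃ n : ↥(D.monomialSubgroup F), rootHom c tc ac n = τ := by
      intro τ hτ
      rw [← rootHom_range (F := F) c tc ac] at hτ
      exact hτ
    exact key _ σ.2
  choose rep hrepσ using hrep
  have hBG := borel_le_group (F := F) c
  have hNG := monomial_le_group (F := F) c
  have hUG := posUnipotent_le_group (F := F) c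
  let Φ : (Σ σ : ↥(weylPerm D),
      ↥(D.borelSubgroup F) × ↥(Subgroup.closure (flipGens D F (rep σ : GL D.Idx F)))) → ↥(D.group F) :=
    fun x => ⟨x.2.1 * (rep x.1 : GL D.Idx F) * x.2.2,
      Subgroup.mul_mem _ (Subgroup.mul_mem _ (hBG x.2.1.2) (hNG (rep x.1).2)) (hUG (flipGens_le_pos _ x.2.2.2))⟩
  have hΦ : Function.Bijective Φ := by
    constructor
    · rintro ⟨σ, b, u⟩ ⟨σ', b', u'⟩ e
      have e1 : (b : GL D.Idx F) * (rep σ : GL D.Idx F) * u = b' * (rep σ' : GL D.Idx F) * u' :=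
        congrArg Subtype.val e
      obtain ⟨hH, -⟩ := canonical_unique c tc ac gc hR2 _ _ _ _ _ _ b.2 b'.2 (rep σ).2 (rep σ').2 u.2 u'.2 e1
      have hker : (rep σ)⁻¹ * rep σ' ∈ (rootHom (F := F) c tc ac).ker := by
        rw [rootHom_ker c tc ac gc hR2, Subgroup.mem_subgroupOf]
        exact hH
      rw [MonoidHom.mem_ker, map_mul, map_inv, hrepσ, hrepσ, inv_mul_eq_one] at hker
      have hσ : σ = σ' := Subtype.ext hker
      subst hσ
      obtain ⟨-, huniq⟩ := canonical_unique c tc ac gc hR2 _ _ _ _ _ _ b.2 b'.2 (rep σ).2 (rep σ).2 u.2 u'.2 e1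
      obtain ⟨hb, hu⟩ := huniq rfl
      have hb' : b = b' := Subtype.ext hb
      have hu' : u = u' := Subtype.ext hu
      rw [hb', hu']
    · rintro ⟨g, hg⟩
      obtain ⟨b, hb, n, hn, u, hu, rfl⟩ := canonical_exists c tc ac gc hdesc hR2 g hg
      have hσW : rootHom c tc ac ⟨n, hn⟩ ∈ weylPerm D := by
        rw [← rootHom_range (F := F) c tc ac]
        exact ⟨_, rfl⟩
      set σ : ↥(weylPerm D) := ⟨rootHom c tc ac ⟨n, hn⟩, hσW⟩ with hσ
      have hsame : rootHom c tc ac (rep σ) = rootHom c tc ac ⟨n, hn⟩ := hrepσ σ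
      -- `n = h'' * rep σ` with `h'' ∈ H`
      have hker : (⟨n, hn⟩ : ↥(D.monomialSubgroup F)) * (rep σ)⁻¹ ∈ (rootHom (F := F) c tc ac).ker := by
        rw [MonoidHom.mem_ker, map_mul, map_inv, hsame, mul_inv_cancel]
      rw [rootHom_ker c tc ac gc hR2, Subgroup.mem_subgroupOf] at hker
      have hker' : n * (rep σ : GL D.Idx F)⁻¹ ∈ D.diagonalSubgroup F := hker
      have hu2 : u ∈ Subgroup.closure (flipGens D F (rep σ : GL D.Idx F)) := by
        rw [flipGens_congr c tc ac gc (rep σ) ⟨n, hn⟩ hsame]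
        exact hu
      refine ⟨⟨σ, ⟨b * (n * (rep σ : GL D.Idx F)⁻¹), Subgroup.mul_mem _ hb (Subgroup.mem_sup_right hker')⟩,
        ⟨u, hu2⟩⟩, ?_⟩
      apply Subtype.ext
      show b * (n * (rep σ : GL D.Idx F)⁻¹) * (rep σ : GL D.Idx F) * u = b * n * u
      group
  haveI : Fintype ↥(weylPerm D) := Fintype.ofFinite _
  rw [← Nat.card_congr (Equiv.ofBijective Φ hΦ), Nat.card_sigma, finsum_eq_sum_of_fintype, Finset.mul_sum]
  apply Finset.sum_congr rfl
  intro σ _
  rw [Nat.card_prod, card_borel c tc ac gc hR2, card_flipGens c tc ac gc hR2 (rep σ), hrepσ σ]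

end Cfsg.Agent.Lib.Helper18_ChevOrder
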