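import Cfsg.Agent.Lib.Helper18_ChevData5
import Cfsg.Agent.Lib.Helper18_ChevOrder

set_option autoImplicit false

/-!
The group side of the order formulas, for the seven exceptional data:
`|G| = q^N |H| ∑_{σ ∈ W} q^{N(σ)}`, with `W` the group of permutations of the roots generated by the fundamental
reflections and `N(σ)` the number of positive roots made negative by `σ`.  Also `N / H ≅ W`.
-/

namespace Cfsg.Agent.Lib.Helper18_ChevOrderAll

open Cfsg Cfsg.Lie Cfsg.Agent.Lib.Helper18_ChevRootHom Cfsg.Agent.Lib.Helper18_ChevOrder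

/-- The order of a Chevalley group over a finite field as a sum over the Weyl group. -/
theorem card_group_all {F : Type*} [Field F] [Fintype F] (D : ChevalleyDatum)
    (hD : D ∈ [chevG2, chevB2, chevD4, chevF4, chevE6, chevE7, chevE8]) :
    Nat.card (D.group F) = Fintype.card F ^ (D.nroots / 2) * Nat.card (D.diagonalSubgroup F) *
      ∑ᶠ σ : ↥(weylPerm D), Fintype.card F ^ weylLen D (σ : Equiv.Perm (Fin D.nroots)) := by
  obtain ⟨Ns, w, d, Ts, hT, K, base, stepT, wl, ws, sc, c, tc, gc, pc, ac⟩ :=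
    Cfsg.Agent.Lib.Helper18_ChevData5.exists_cert5 D hD
  exact card_group c tc ac gc (Cfsg.Agent.Lib.Helper18_ChevJCerts.descent_all D hD)
    (Cfsg.Agent.Lib.Helper18_ChevComm2.r2_all c pc)

/-- `N / H ≅ W`: a homomorphism from `N` onto the group of permutations of the roots generated by the fundamental
reflections, with kernel `H`, under which `n` maps `X_r` to `X_{φ(n) r}` and `n_{p_i}` acts as the `i`-th fundamental
reflection. -/
theorem exists_rootHom_all {F : Type*} [Field F] (D : ChevalleyDatum)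
    (hD : D ∈ [chevG2, chevB2, chevD4, chevF4, chevE6, chevE7, chevE8]) :
    ∃ φ : ↥(D.monomialSubgroup F) →* Equiv.Perm (Fin D.nroots),
      φ.range = weylPerm D ∧
      φ.ker = (D.diagonalSubgroup F).subgroupOf (D.monomialSubgroup F) ∧
      (∀ (n : ↥(D.monomialSubgroup F)) (r : Fin D.nroots), ∃ a : F, a ≠ 0 ∧ ∀ t : F,
        ((n : GL D.Idx F) : Matrix D.Idx D.Idx F) * D.x F r t * (((n : GL D.Idx F)⁻¹ : GL D.Idx F) : Matrix D.Idx D.Idx F) =
          D.x F (φ n r : Fin D.nroots) (a * t)) ∧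
      (∀ (i : ℕ) (_ : i < D.rank) (n : ↥(D.monomialSubgroup F)),
        ((n : GL D.Idx F) : Matrix D.Idx D.Idx F) = D.nMat F (D.simple i) 1 →
          ∀ r : Fin D.nroots, ((φ n r : Fin D.nroots) : ℕ) = D.reflectRoot i r) := by
  obtain ⟨Ns, w, d, Ts, hT, K, base, stepT, wl, ws, sc, c, tc, gc, pc, ac⟩ :=
    Cfsg.Agent.Lib.Helper18_ChevData5.exists_cert5 D hD
  have hR2 : Cfsg.Agent.Lib.Helper18_ChevUni.R2All D F := Cfsg.Agent.Lib.Helper18_ChevComm2.r2_all c pc
  refine ⟨rootHom c tc ac, rootHom_range c tc ac, rootHom_ker c tc ac gc hR2, ?_, ?_⟩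
  · intro n r
    obtain ⟨-, a, ha, e⟩ := piOf_actsAs c tc n r r.2
    refine ⟨a, ha, fun t => ?_⟩
    have := congrArg (fun g : GL D.Idx F => (g : Matrix D.Idx D.Idx F)) (e t)
    rw [rootHom_apply]
    simpa using this
  · intro i hi n hn r
    have hn' : (n : GL D.Idx F) = Cfsg.Agent.Lib.Helper18_ChevGL.nGL c i := by
      apply Units.ext
      rw [hn, Cfsg.Agent.Lib.Helper18_ChevGL.nGL_coe]
    have hmem : Cfsg.Agent.Lib.Helper18_ChevGL.nGL c i ∈ D.monomialSubgroup F := hn' ▸ n.2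
    have : n = ⟨Cfsg.Agent.Lib.Helper18_ChevGL.nGL c i, hmem⟩ := Subtype.ext hn'
    rw [this, rootHom_nGL c tc ac i hi hmem]
    rfl

end Cfsg.Agent.Lib.Helper18_ChevOrderAll
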