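import Cfsg.Agent.Lib.Helper18_ChevComm2
import Cfsg.Prelude.Def_ChevB2

set_option autoImplicit false

/-! Tables for the commutator formula of type B2: packed reflections, heights, base pairs and descent hints. -/

namespace Cfsg.Agent.Lib.Helper18_ChevPDataB2

open Cfsg Cfsg.Lie Cfsg.Agent.Lib.Helper18_ChevFast Cfsg.Agent.Lib.Helper18_ChevEngine
  Cfsg.Agent.Lib.Helper18_ChevR1 Cfsg.Agent.Lib.Helper18_ChevN Cfsg.Agent.Lib.Helper18_ChevR4
  Cfsg.Agent.Lib.Helper18_ChevSimple Cfsg.Agent.Lib.Helper18_ChevChunk Cfsg.Agent.Lib.Helper18_ChevWeyl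
  Cfsg.Agent.Lib.Helper18_ChevComm Cfsg.Agent.Lib.Helper18_ChevComm2

def Ts : List NPack := [⟨289921455100330243, 2004318071⟩, ⟨505817143170892288, 2543286649⟩]

def hT : ℕ := 9693015794987727994

def K : ℤ := 31

def base : List (ℕ × ℕ) := [(6, 3), (6, 5), (6, 7), (7, 2), (7, 4), (7, 6)]

def stepT : List ℕ := [4026531855, 521146608, 15732480, 287306001, 1044480, 301014801, 4293980400, 4280229663]

end Cfsg.Agent.Lib.Helper18_ChevPDataB2
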