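import Cfsg.Agent.Lib.Helper18_ChevComm2
import Cfsg.Prelude.Def_ChevD4

set_option autoImplicit false

/-! Tables for the commutator formula of type D4: packed reflections, heights, base pairs and descent hints. -/

namespace Cfsg.Agent.Lib.Helper18_ChevPDataD4

open Cfsg Cfsg.Lie Cfsg.Agent.Lib.Helper18_ChevFast Cfsg.Agent.Lib.Helper18_ChevEngine
  Cfsg.Agent.Lib.Helper18_ChevR1 Cfsg.Agent.Lib.Helper18_ChevN Cfsg.Agent.Lib.Helper18_ChevR4
  Cfsg.Agent.Lib.Helper18_ChevSimple Cfsg.Agent.Lib.Helper18_ChevChunk Cfsg.Agent.Lib.Helper18_ChevWeyl
  Cfsg.Agent.Lib.Helper18_ChevComm Cfsg.Agent.Lib.Helper18_ChevComm2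

def Ts : List NPack := [⟨565592643864087472290204273757603651193062799363369534976, 47536887434186379966820227481⟩, ⟨541649279090809664310305499994679834166397163664360734721, 37633226078394385670168091031⟩, ⟨565881119482020990812274433957960368099339668429056770816, 46879241235489936380113033081⟩, ⟨565978018496368764364970633948976412520310965285293195776, 46915509044674431649459042681⟩]

def hT : ℕ := 3273842804295436145633912421494509445893906244900747050107

def K : ℤ := 26

def base : List (ℕ × ℕ) := [(23, 9), (23, 12), (23, 13), (23, 18), (23, 22)]

def stepT : List ℕ := [74606519386112622882212282383, 4642275147320176030871716080, 290142196707511001929486080, 18133887294219437620654080, 1133367955888714852270080, 70835497243044693934080, 10254269106632065924687012385, 5281877759205372875261415697, 5281877517091856964194996497, 5281877501959763118173262097, 10563754372321216064529629186, 15844347074714229626242072579, 5281877186135514428139896833, 5281877186194393275807301633, 1080864941361070080, 17293822633527214080, 276701161109669806080, 4427218577690544046080, 5281943614081716014617268497, 10564737254130348565344494114, 10269981305364288772153405985, 15458766795833650147738337073,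 9614667638449786801716531697, 78979345746720250995769606159]

end Cfsg.Agent.Lib.Helper18_ChevPDataD4
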