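import Cfsg.Agent.Lib.Helper18_ChevComm2
import Cfsg.Prelude.Def_ChevG2

set_option autoImplicit false

/-! Tables for the commutator formula of type G2: packed reflections, heights, base pairs and descent hints. -/

namespace Cfsg.Agent.Lib.Helper18_ChevPDataG2

open Cfsg Cfsg.Lie Cfsg.Agent.Lib.Helper18_ChevFast Cfsg.Agent.Lib.Helper18_ChevEngine
  Cfsg.Agent.Lib.Helper18_ChevR1 Cfsg.Agent.Lib.Helper18_ChevN Cfsg.Agent.Lib.Helper18_ChevR4
  Cfsg.Agent.Lib.Helper18_ChevSimple Cfsg.Agent.Lib.Helper18_ChevChunk Cfsg.Agent.Lib.Helper18_ChevWeyl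
  Cfsg.Agent.Lib.Helper18_ChevComm Cfsg.Agent.Lib.Helper18_ChevComm2

def Ts : List NPack := [⟨3411626608196089407097472256, 166547986814841⟩, ⟨3108190913232640688152248321, 133691988343191⟩]

def hT : ℕ := 41321705551845890785669905531

def K : ℤ := 26

def base : List (ℕ × ℕ) := [(9, 1), (9, 4), (9, 6), (9, 8), (9, 11), (11, 3), (11, 5), (11, 7), (11, 9), (11, 10)]

def stepT : List ℕ := [265051291258895, 16492674416880, 1030792154880, 18825128046865, 4027514880, 18765248008465, 267386880, 18768757461265, 64424570880, 266078041087985, 34158161236465, 281410299555855]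

end Cfsg.Agent.Lib.Helper18_ChevPDataG2
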