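import Cfsg.Agent.Lib.Helper18_ChevChunk

set_option autoImplicit false

/-!
Additivity of root elements `x_r(t) x_r(u) = x_r(t + u)`, checked root by root with the sparse engine.
-/

namespace Cfsg.Agent.Lib.Helper18_ChevR1

open Cfsg Cfsg.Lie Cfsg.Agent.Lib.Helper18_ChevFast Cfsg.Agent.Lib.Helper18_ChevEngine
  Cfsg.Agent.Lib.Helper18_ChevChunk

def tP : Poly := [⟨1, 1, 0⟩]
def uP : Poly := [⟨1, 0, 1⟩]
def tuP : Poly := [⟨1, 1, 0⟩, ⟨1, 0, 1⟩]

theorem eval_tP {F : Type*} [Field F] (t u : Fˣ) : Poly.eval t u tP = (t : F) := by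
  simp [Poly.eval, tP, Mono.eval, monoVal]

theorem eval_uP {F : Type*} [Field F] (t u : Fˣ) : Poly.eval t u uP = (u : F) := by
  simp [Poly.eval, uP, Mono.eval, monoVal]

theorem eval_tuP {F : Type*} [Field F] (t u : Fˣ) : Poly.eval t u tuP = (t : F) + u := by
  simp [Poly.eval, tuP, Mono.eval, monoVal]

/-- The keys on which `x_r` can act non-trivially. -/
def nontrivKeys (rank nroots : ℕ) (R : FRow) : List ℕ :=
  (List.range rank).map (fun i => 2 * i) ++
    ((List.range nroots).filter fun s => s = R.r ∨ s = R.neg ∨ lookup R.tbl s ≠ []).map (fun s => 2 * s + 1)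

/-- Check of `x_r(t) x_r(u) = x_r(t+u)` on the non-trivial columns of the root with row data `R`. -/
def checkR1Row (rank nroots : ℕ) (R : FRow) : Bool :=
  (nontrivKeys rank nroots R).all fun k =>
    isZero (applyO (xCol rank nroots R (mkPows tP)) (xCol rank nroots R (mkPows uP) ⟨k, 1, 0, 0⟩) ++
      negVec (xCol rank nroots R (mkPows tuP) ⟨k, 1, 0, 0⟩))

/-- On a trivial column `x_r(τ)` fixes the basis vector. -/
theorem xCol_trivial (rank nroots : ℕ) (R : FRow) (P : Pows) (x : Term)
    (hv : validKey rank nroots x.k = true) (h0 : ¬ x.k % 2 = 0) (h1 : ¬ x.k / 2 = R.r)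
    (h2 : ¬ x.k / 2 = R.neg) (h3 : lookup R.tbl (x.k / 2) = []) :
    xCol rank nroots R P x = [x] := by
  unfold xCol
  rw [if_pos hv, if_neg h0, if_neg h1, if_neg h2, h3]
  rfl

theorem r1_of_check (D : ChevalleyDatum) {F : Type*} [Field F] (R : FRow) (hR : R.Valid D)
    (h : checkR1Row D.rank D.nroots R = true) (t u : Fˣ) :
    D.x F R.r t * D.x F R.r u = D.x F R.r ((t : F) + u) := by
  have ot := isOracle_x (D := D) (t := t) (u := u) R hR (mkPows tP) _ (mkPows_ok t u tP)
  have ou := isOracle_x (D := D) (t := t) (u := u) R hR (mkPows uP) _ (mkPows_ok t u uP)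
  have otu := isOracle_x (D := D) (t := t) (u := u) R hR (mkPows tuP) _ (mkPows_ok t u tuP)
  rw [eval_tP] at ot
  rw [eval_uP] at ou
  rw [eval_tuP] at otu
  have omul := ot.mul ou
  apply Matrix.ext_of_mulVec_single
  intro col
  have hs : sem D t u [⟨keyOf D col, 1, 0, 0⟩] = (Pi.single col 1 : D.Idx → F) := by
    rw [sem_single_eq_pi_single D t u _ col rfl]
    simp [Term.eval, monoVal_zero]
  rw [← hs, ← omul _, ← otu _]
  by_cases hmem : keyOf D col ∈ nontrivKeys D.rank D.nroots R
  · unfold checkR1Row at h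
    rw [List.all_eq_true] at h
    exact sem_eq_of_isZero D t u _ _ (h _ hmem)
  · -- trivial column
    rcases col with i | s
    · exfalso
      apply hmem
      unfold nontrivKeys
      rw [List.mem_append]
      left
      exact List.mem_map.mpr ⟨i.val, List.mem_range.mpr i.isLt, rfl⟩
    · have hk : keyOf D (Sum.inr s) = 2 * s.val + 1 := rfl
      have hnot : ¬ (s.val = R.r ∨ s.val = R.neg ∨ lookup R.tbl s.val ≠ []) := by
        intro hc
        apply hmem
        unfold nontrivKeys
        rw [List.mem_append]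
        right
        refine List.mem_map.mpr ⟨s.val, ?_, rfl⟩
        rw [List.mem_filter]
        exact ⟨List.mem_range.mpr s.isLt, by simpa using hc⟩
      obtain ⟨h1, h23⟩ := not_or.mp hnot
      obtain ⟨h2, h3'⟩ := not_or.mp h23
      have h3 := not_not.mp h3'
      have hv : validKey D.rank D.nroots (2 * s.val + 1) = true :=
        (validKey_iff D _).mpr ⟨Sum.inr s, rfl⟩
      have hd : (2 * s.val + 1) / 2 = s.val := by omega
      have hm : ¬ (2 * s.val + 1) % 2 = 0 := by omega
      have triv : ∀ P : Pows, xCol D.rank D.nroots R P ⟨2 * s.val + 1, 1, 0, 0⟩ = [⟨2 * s.val + 1, 1, 0, 0⟩] := by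
        intro P
        apply xCol_trivial _ _ _ _ _ hv hm
        · simpa [hd] using h1
        · simpa [hd] using h2
        · simpa [hd] using h3
      rw [hk]
      show sem D t u (applyO _ (xCol _ _ R (mkPows uP) _)) = _
      rw [triv (mkPows uP), triv (mkPows tuP)]
      unfold applyO
      rw [sem_norm, List.flatMap_cons, List.flatMap_nil, List.append_nil, triv (mkPows tP)]

theorem chainCoeff_pos (D : ChevalleyDatum) (r s u : ℕ) : ∀ km ∈ D.chainCoeff r s u, 1 ≤ km.1 := by
  intro km h
  unfold ChevalleyDatum.chainCoeff at h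
  rw [List.mem_flatMap] at h
  obtain ⟨e, _, hkm⟩ := h
  rw [List.mem_map] at hkm
  obtain ⟨q, _, rfl⟩ := hkm
  simp

theorem xMat_zero (D : ChevalleyDatum) (F : Type*) [Field F] (r : Fin D.nroots) : D.xMat F r 0 = 1 := by
  ext row col
  rcases col with i | s
  · rcases row with i' | u'
    · rw [xMat_inl_inl, Matrix.one_apply]
      simp only [Sum.inl.injEq, Fin.ext_iff]
    · rw [xMat_inr_inl, Matrix.one_apply, if_neg Sum.inr_ne_inl]
      simp
  · by_cases hsr : s = r
    · subst hsr
      rcases row with i' | u'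
      · rw [xMat_inl_inr_self, Matrix.one_apply, if_neg Sum.inl_ne_inr]
      · rw [xMat_inr_inr_self, Matrix.one_apply]
        simp only [Sum.inr.injEq, Fin.ext_iff]
    · by_cases hsn : s.val = D.negIdx.getD r.val 0
      · rcases row with i' | u'
        · rw [xMat_inl_inr_neg D r s 0 i' hsr hsn, Matrix.one_apply, if_neg Sum.inl_ne_inr, mul_zero]
        · rw [xMat_inr_inr_neg D r s 0 u' hsr hsn, Matrix.one_apply]
          simp only [Sum.inr.injEq, Fin.ext_iff]
          split_ifs <;> simp
      · rcases row with i' | u'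
        · rw [xMat_inl_inr_gen D r s 0 i' hsr hsn, Matrix.one_apply, if_neg Sum.inl_ne_inr]
        · rw [xMat_inr_inr_gen D r s 0 u' hsr hsn, Matrix.one_apply]
          have hz : ((D.chainCoeff r.val s.val u'.val).map fun km => ((km.2 : ℤ) : F) * 0 ^ km.1).sum = 0 := by
            apply List.sum_eq_zero
            intro y hy
            rw [List.mem_map] at hy
            obtain ⟨km, hkm, rfl⟩ := hy
            have := chainCoeff_pos D _ _ _ km hkm
            rw [zero_pow (by omega), mul_zero]
          rw [hz, add_zero]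
          simp only [Sum.inr.injEq, Fin.ext_iff]

/-- `x_r(0) = 1`. -/
theorem x_zero (D : ChevalleyDatum) (F : Type*) [Field F] (r : ℕ) : D.x F r 0 = 1 := by
  unfold ChevalleyDatum.x
  split_ifs
  · exact xMat_zero D F _
  · rfl

/-- Additivity for all parameters, from the check. -/
theorem r1_all (D : ChevalleyDatum) {F : Type*} [Field F] (R : FRow) (hR : R.Valid D)
    (h : checkR1Row D.rank D.nroots R = true) (a b : F) :
    D.x F R.r a * D.x F R.r b = D.x F R.r (a + b) := by
  by_cases ha : a = 0
  · subst ha; rw [x_zero, one_mul, zero_add]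
  by_cases hb : b = 0
  · subst hb; rw [x_zero, mul_one, add_zero]
  exact r1_of_check D R hR h (Units.mk0 a ha) (Units.mk0 b hb)

/-- The check for a list of roots. -/
def checkR1 (D : ChevalleyDatum) : Bool := (mkRows D).all (checkR1Row D.rank D.nroots)

theorem r1_of_checkR1 (D : ChevalleyDatum) (hrows : RowsOK D) (h : checkR1 D = true) {F : Type*} [Field F]
    (r : ℕ) (hr : r < D.nroots) (a b : F) : D.x F r a * D.x F r b = D.x F r (a + b) := by
  unfold checkR1 at h
  rw [List.all_eq_true] at h
  exact r1_all D (specRow D r) (hrows.valid r hr) (h _ (hrows.mem r hr)) a b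

/-- Column-wise check of `x_r(t) x_r(u) = x_r(t+u)` for the root with row data `R`. -/
def r1F (rank nroots : ℕ) (R : FRow) : ℕ → Bool :=
  colEqAt (fun x => applyO (xCol rank nroots R (mkPows tP)) (xCol rank nroots R (mkPows uP) x))
    (xCol rank nroots R (mkPows tuP))

theorem r1_of_r1F (D : ChevalleyDatum) {F : Type*} [Field F] (R : FRow) (hR : R.Valid D)
    (hle : D.rank ≤ D.nroots) (h : ∀ k < 2 * D.nroots, r1F D.rank D.nroots R k = true) (a b : F) :
    D.x F R.r a * D.x F R.r b = D.x F R.r (a + b) := by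
  by_cases ha : a = 0
  · subst ha; rw [x_zero, one_mul, zero_add]
  by_cases hb : b = 0
  · subst hb; rw [x_zero, mul_one, add_zero]
  have ot := isOracle_x (D := D) (t := Units.mk0 a ha) (u := Units.mk0 b hb) R hR (mkPows tP) _
    (mkPows_ok _ _ tP)
  have ou := isOracle_x (D := D) (t := Units.mk0 a ha) (u := Units.mk0 b hb) R hR (mkPows uP) _
    (mkPows_ok _ _ uP)
  have otu := isOracle_x (D := D) (t := Units.mk0 a ha) (u := Units.mk0 b hb) R hR (mkPows tuP) _
    (mkPows_ok _ _ tuP)
  rw [eval_tP] at ot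
  rw [eval_uP] at ou
  rw [eval_tuP] at otu
  exact eq_of_colEqAt (ot.mul ou) otu hle h

end Cfsg.Agent.Lib.Helper18_ChevR1
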