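import Cfsg.Agent.Lib.Helper18_ChevN

set_option autoImplicit false

/-!
The relation `n_p x_s(t) = x_{π s}(η_s t) n_p` for a fundamental root `p`, checked by a fast table comparison.
-/

namespace Cfsg.Agent.Lib.Helper18_ChevR4

open Cfsg Cfsg.Lie Cfsg.Agent.Lib.Helper18_ChevFast Cfsg.Agent.Lib.Helper18_ChevEngine
  Cfsg.Agent.Lib.Helper18_ChevR1 Cfsg.Agent.Lib.Helper18_ChevN

section

variable (D : ChevalleyDatum) {F : Type*} [Field F] (t u : Fˣ)

theorem IsOracle.comp {f g : Term → SVec} {M N : Matrix D.Idx D.Idx F}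
    (hf : IsOracle D t u f M) (hg : IsOracle D t u g N) :
    IsOracle D t u (fun x => (g x).flatMap f) (M * N) := by
  intro x
  rw [hf.flatMap, hg x, Matrix.mulVec_mulVec]

variable (N : NData)

theorem sem_nCol_odd (w : ℕ) (hw : w < D.nroots) (c a b : ℤ) (idx : D.Idx) :
    sem D t u (nCol D.rank D.nroots N ⟨2 * w + 1, c, a, b⟩) idx =
      if keyOf D idx = 2 * N.pi.getD w 0 + 1 then
        ((N.eta.getD w 0 : ℤ) : F) * ((c : F) * monoVal t u a b) else 0 := by
  have hv : validKey D.rank D.nroots (2 * w + 1) = true :=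
    (validKey_iff D _).mpr ⟨Sum.inr ⟨w, hw⟩, rfl⟩
  have h0 : ¬ (2 * w + 1) % 2 = 0 := by omega
  have h1 : (2 * w + 1) / 2 = w := by omega
  unfold nCol
  simp only
  rw [if_pos hv, if_neg h0, h1, sem_single_apply]
  simp only [Term.eval, Int.cast_mul]
  split_ifs <;> ring

theorem sem_nCol_even (j : ℕ) (hj : j < D.rank) (c a b : ℤ) (idx : D.Idx) :
    sem D t u (nCol D.rank D.nroots N ⟨2 * j, c, a, b⟩) idx =
      (if keyOf D idx = 2 * j then (c : F) * monoVal t u a b else 0) -
        (if keyOf D idx = 2 * N.i then ((N.car.getD j 0 : ℤ) : F) * ((c : F) * monoVal t u a b) else 0) := by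
  have hv : validKey D.rank D.nroots (2 * j) = true :=
    (validKey_iff D _).mpr ⟨Sum.inl ⟨j, hj⟩, rfl⟩
  have h0 : (2 * j) % 2 = 0 := by omega
  have h1 : (2 * j) / 2 = j := by omega
  unfold nCol
  simp only
  rw [if_pos hv, if_pos h0, h1, sem_cons_apply, sem_single_apply]
  simp only [Term.eval, Int.cast_mul, Int.cast_neg]
  split_ifs <;> ring

theorem sem_flatMap_nCol_scale_odd (w : ℕ) (hw : w < D.nroots) (M : ℤ) (p : Poly) (x : Term) (idx : D.Idx) :
    sem D t u ((scaleTerms (2 * w + 1) M p x).flatMap (nCol D.rank D.nroots N)) idx =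
      if keyOf D idx = 2 * N.pi.getD w 0 + 1 then
        ((N.eta.getD w 0 : ℤ) : F) * ((M : F) * Poly.eval t u p * x.eval t u) else 0 := by
  induction p with
  | nil => simp [scaleTerms, sem, Poly.eval]
  | cons m p ih =>
    have e : scaleTerms (2 * w + 1) M (m :: p) x =
      ⟨2 * w + 1, M * m.c * x.c, m.a + x.a, m.b + x.b⟩ :: scaleTerms (2 * w + 1) M p x := rfl
    rw [e, List.flatMap_cons, sem_append, Pi.add_apply, ih, sem_nCol_odd D t u N w hw]
    simp only [Term.eval, Poly.eval, List.map_cons, List.sum_cons, Mono.eval, monoVal_add, Int.cast_mul]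
    split_ifs <;> ring

theorem sem_flatMap_nCol_scale_even (j : ℕ) (hj : j < D.rank) (M : ℤ) (p : Poly) (x : Term) (idx : D.Idx) :
    sem D t u ((scaleTerms (2 * j) M p x).flatMap (nCol D.rank D.nroots N)) idx =
      (if keyOf D idx = 2 * j then (M : F) * Poly.eval t u p * x.eval t u else 0) -
        (if keyOf D idx = 2 * N.i then
          ((N.car.getD j 0 : ℤ) : F) * ((M : F) * Poly.eval t u p * x.eval t u) else 0) := by
  induction p with
  | nil => simp [scaleTerms, sem, Poly.eval]
  | cons m p ih =>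
    have e : scaleTerms (2 * j) M (m :: p) x =
      ⟨2 * j, M * m.c * x.c, m.a + x.a, m.b + x.b⟩ :: scaleTerms (2 * j) M p x := rfl
    rw [e, List.flatMap_cons, sem_append, Pi.add_apply, ih, sem_nCol_even D t u N j hj]
    simp only [Term.eval, Poly.eval, List.map_cons, List.sum_cons, Mono.eval, monoVal_add, Int.cast_mul]
    split_ifs <;> ring

end

/-! ### Packed lists -/

/-- Pack a list of digits in base `b`. -/
def pack (b : ℕ) : List ℕ → ℕ
  | [] => 0
  | d :: l => d + b * pack b l

theorem pack_digit (b : ℕ) (hb : 0 < b) : ∀ (l : List ℕ), (∀ d ∈ l, d < b) → ∀ j, pack b l / b ^ j % b = l.getD j 0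
  | [], _, j => by simp [pack]
  | d :: l, h, 0 => by
    have hd : d < b := h d (by simp)
    simp only [pack, pow_zero, Nat.div_one, List.getD_cons_zero]
    rw [Nat.add_mul_mod_self_left, Nat.mod_eq_of_lt hd]
  | d :: l, h, j + 1 => by
    have hd : d < b := h d (by simp)
    have ih := pack_digit b hb l (fun d' hd' => h d' (List.mem_cons_of_mem _ hd')) j
    simp only [pack, List.getD_cons_succ]
    rw [pow_succ, mul_comm (b ^ j) b, ← Nat.div_div_eq_div_mul, Nat.add_mul_div_left _ _ hb,
      Nat.div_eq_of_lt hd, Nat.zero_add, ih]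

/-- Packed access to the permutation and the signs of an `NData`. -/
structure NPack where
  piT : ℕ
  etaT : ℕ

def mkNPack (N : NData) : NPack := ⟨pack 256 N.pi, pack 16 (N.eta.map fun e => (e + 8).toNat)⟩

def piAt (T : NPack) (j : ℕ) : ℕ := T.piT / 256 ^ j % 256

def etaAt (T : NPack) (j : ℕ) : ℤ := ((T.etaT / 16 ^ j % 16 : ℕ) : ℤ) - 8

/-- The lists of an `NData` are small enough to be packed and have the right length. -/
def NSmall (nroots : ℕ) (N : NData) : Prop :=
  N.pi.length = nroots ∧ N.eta.length = nroots ∧ (∀ d ∈ N.pi, d < 256) ∧ ∀ e ∈ N.eta, -8 ≤ e ∧ e ≤ 7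

instance (nroots : ℕ) (N : NData) : Decidable (NSmall nroots N) := inferInstanceAs (Decidable (_ ∧ _ ∧ _ ∧ _))

theorem piAt_eq (nroots : ℕ) (N : NData) (h : NSmall nroots N) (j : ℕ) : piAt (mkNPack N) j = N.pi.getD j 0 :=
  pack_digit 256 (by decide) N.pi h.2.2.1 j

theorem etaAt_eq (nroots : ℕ) (N : NData) (h : NSmall nroots N) (j : ℕ) (hj : j < nroots) :
    etaAt (mkNPack N) j = N.eta.getD j 0 := by
  unfold etaAt mkNPack
  simp only
  rw [pack_digit 16 (by decide)]
  · have hj' : j < N.eta.length := by rw [h.2.1]; exact hj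
    rw [List.getD_eq_getElem?_getD, List.getD_eq_getElem?_getD, List.getElem?_map,
      List.getElem?_eq_getElem hj']
    simp only [Option.map_some, Option.getD_some]
    have := h.2.2.2 _ (List.getElem_mem hj')
    omega
  · intro d hd
    rw [List.mem_map] at hd
    obtain ⟨e, he, rfl⟩ := hd
    have := h.2.2.2 e he
    omega

/-! ### The chain comparison -/

def etaP (e : ℤ) : Poly := [⟨e, 1, 0⟩]

theorem eval_etaP {F : Type*} [Field F] (t u : Fˣ) (e : ℤ) : Poly.eval t u (etaP e) = (e : F) * (t : F) := by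
  simp [Poly.eval, etaP, Mono.eval, monoVal]

/-- Compare the chain entry of `j` for the root `s` with the chain entry of `π j` for the root `π s`. -/
def chainMatch (nroots : ℕ) (T : NPack) (es ej : ℤ) : ℕ → List (ℕ × ℤ) → List (ℕ × ℤ) → Bool
  | _, [], [] => true
  | k, (w, M) :: l, (w', M') :: l' =>
      decide (w < nroots) && decide (w' = piAt T w) && decide (M' * es ^ (k + 1) * ej = M * etaAt T w) &&
        chainMatch nroots T es ej (k + 1) l l'
  | _, [], _ :: _ => false
  | _, _ :: _, [] => false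

section

variable (D : ChevalleyDatum) {F : Type*} [Field F] (t u : Fˣ) (N : NData) (hN : NSmall D.nroots N)

include hN in
theorem sem_chainMatch (es ej : ℤ) (x y : Term) (hx : x.eval t u = (1 : F)) (hy : y.eval t u = (ej : F)) :
    ∀ (L L' : List (ℕ × ℤ)) (k : ℕ), k + L.length ≤ 3 →
      chainMatch D.nroots (mkNPack N) es ej k L L' = true → ∀ idx : D.Idx,
        sem D t u ((chainTerms (mkPows tP) x k L).flatMap (nCol D.rank D.nroots N)) idx =
          sem D t u (chainTerms (mkPows (etaP es)) y k L') idx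
  | [], [], k, _, _, idx => by simp [chainTerms, sem]
  | [], _ :: _, k, _, h, idx => by simp [chainMatch] at h
  | _ :: _, [], k, _, h, idx => by simp [chainMatch] at h
  | (w, M) :: l, (w', M') :: l', k, hlen, h, idx => by
    simp only [chainMatch, Bool.and_eq_true, decide_eq_true_eq] at h
    obtain ⟨⟨⟨hw, hw'⟩, hM⟩, hrest⟩ := h
    have hlen' : (k + 1) + l.length ≤ 3 := by simp only [List.length_cons] at hlen; omega
    have hk : k < 3 := by simp only [List.length_cons] at hlen; omega
    have ih := sem_chainMatch es ej x y hx hy l l' (k + 1) hlen' hrest idx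
    have e1 : chainTerms (mkPows tP) x k ((w, M) :: l) =
      scaleTerms (2 * w + 1) M ((mkPows tP).get k) x ++ chainTerms (mkPows tP) x (k + 1) l := rfl
    have e2 : chainTerms (mkPows (etaP es)) y k ((w', M') :: l') =
      scaleTerms (2 * w' + 1) M' ((mkPows (etaP es)).get k) y ++ chainTerms (mkPows (etaP es)) y (k + 1) l' := rfl
    rw [e1, e2, List.flatMap_append, sem_append, sem_append, Pi.add_apply, Pi.add_apply, ih,
      sem_flatMap_nCol_scale_odd D t u N w hw, sem_scaleTerms,
      Pows.get_eval t u _ _ (mkPows_ok t u tP) k hk, Pows.get_eval t u _ _ (mkPows_ok t u (etaP es)) k hk,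
      eval_tP, eval_etaP, hx, hy, hw', piAt_eq D.nroots N hN]
    rw [etaAt_eq D.nroots N hN w hw] at hM
    have hM' : ((M' : ℤ) : F) * (es : F) ^ (k + 1) * (ej : F) = (M : F) * ((N.eta.getD w 0 : ℤ) : F) := by
      exact_mod_cast congrArg (Int.cast (R := F)) hM
    congr 1
    split_ifs
    · rw [mul_pow]
      linear_combination (-((t : F) ^ (k + 1))) * hM'
    · rfl

end

/-! ### The check and its soundness -/

def dotFrom (car : List ℤ) : ℕ → List ℤ → ℤ
  | _, [] => 0
  | n, c :: l => car.getD n 0 * c + dotFrom car (n + 1) l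

section

variable (D : ChevalleyDatum) {F : Type*} [Field F] (t u : Fˣ) (N : NData)

theorem sem_flatMap_nCol_corTerms_inr (p : Poly) (x : Term) (u' : Fin D.nroots) :
    ∀ (l : List ℤ) (n : ℕ), n + l.length ≤ D.rank →
      sem D t u ((corTerms p x n l).flatMap (nCol D.rank D.nroots N)) (Sum.inr u') = 0
  | [], n, _ => by simp [corTerms, sem]
  | c :: l, n, hlen => by
    have e : corTerms p x n (c :: l) = scaleTerms (2 * n) c p x ++ corTerms p x (n + 1) l := rfl
    have hlen' : (n + 1) + l.length ≤ D.rank := by simp only [List.length_cons] at hlen; omega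
    have hn : n < D.rank := by simp only [List.length_cons] at hlen; omega
    rw [e, List.flatMap_append, sem_append, Pi.add_apply,
      sem_flatMap_nCol_corTerms_inr p x u' l (n + 1) hlen', sem_flatMap_nCol_scale_even D t u N n hn]
    simp only [keyOf_inr_even, if_false, sub_zero, add_zero]

theorem sem_flatMap_nCol_corTerms_inl (p : Poly) (x : Term) (j' : Fin D.rank) :
    ∀ (l : List ℤ) (n : ℕ), n + l.length ≤ D.rank →
      sem D t u ((corTerms p x n l).flatMap (nCol D.rank D.nroots N)) (Sum.inl j') =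
        (((if n ≤ j'.val then l.getD (j'.val - n) 0 else 0 : ℤ) : F) -
          ((if j'.val = N.i then dotFrom N.car n l else 0 : ℤ) : F)) * Poly.eval t u p * x.eval t u
  | [], n, _ => by simp [corTerms, sem, dotFrom]
  | c :: l, n, hlen => by
    have e : corTerms p x n (c :: l) = scaleTerms (2 * n) c p x ++ corTerms p x (n + 1) l := rfl
    have hlen' : (n + 1) + l.length ≤ D.rank := by simp only [List.length_cons] at hlen; omega
    have hn : n < D.rank := by simp only [List.length_cons] at hlen; omega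
    rw [e, List.flatMap_append, sem_append, Pi.add_apply,
      sem_flatMap_nCol_corTerms_inl p x j' l (n + 1) hlen', sem_flatMap_nCol_scale_even D t u N n hn]
    simp only [keyOf_inl_even, dotFrom]
    rcases Nat.lt_trichotomy j'.val n with h | h | h
    · have c1 : ¬ (n + 1 ≤ j'.val) := by omega
      have c2 : ¬ (j'.val = n) := by omega
      have c3 : ¬ (n ≤ j'.val) := by omega
      simp only [c1, c2, c3, if_false]
      split_ifs <;> push_cast <;> ring
    · simp only [h, Nat.not_succ_le_self, le_refl, Nat.sub_self, if_true, if_false, List.getD_cons_zero]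
      split_ifs <;> push_cast <;> ring
    · have c1 : n + 1 ≤ j'.val := by omega
      have c2 : ¬ (j'.val = n) := by omega
      have c3 : n ≤ j'.val := by omega
      obtain ⟨d, hd⟩ : ∃ d, j'.val - n = d + 1 := ⟨j'.val - n - 1, by omega⟩
      have e1 : j'.val - (n + 1) = d := by omega
      simp only [c1, c2, c3, if_false, if_true, hd, e1, List.getD_cons_succ]
      split_ifs <;> push_cast <;> ring

end

/-- The fast check of `n_p x_s(t) = x_{π s}(η_s t) n_p` (`R` the row of `s`, `R'` the row of `π s`). -/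
def checkR4 (rank nroots : ℕ) (N : NData) (T : NPack) (R R' : FRow) : Bool :=
  let es := etaAt T R.r
  let en := etaAt T R.neg
  decide (R'.r = piAt T R.r) && decide (N.i < rank) && decide (R.neg < nroots) &&
  decide (R'.neg ≠ R'.r) && decide (R'.neg < nroots) && decide (R.cor.length = rank) &&
  (List.range rank).all (fun j =>
    decide (R.car.getD j 0 = R'.car.getD j 0 - N.car.getD j 0 * R'.car.getD N.i 0)) &&
  decide (piAt T R.neg = R'.neg) && decide (es = en * es * es) &&
  (List.range rank).all (fun j' =>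
    decide (R.cor.getD j' 0 - (if j' = N.i then dotFrom N.car 0 R.cor else 0) = en * es * R'.cor.getD j' 0)) &&
  (List.range nroots).all (fun j => decide (j = R.r) || decide (j = R.neg) ||
      (decide (piAt T j < nroots) && decide (piAt T j ≠ R'.r) && decide (piAt T j ≠ R'.neg) &&
        chainMatch nroots T es (etaAt T j) 0 (lookup R.tbl j) (lookup R'.tbl (piAt T j))))

section

variable (D : ChevalleyDatum) {F : Type*} [Field F]

theorem r4_units (N : NData) (hN : NSmall D.nroots N) (R R' : FRow) (hR : R.Valid D) (hR' : R'.Valid D)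
    (h : checkR4 D.rank D.nroots N (mkNPack N) R R' = true) (t : Fˣ) :
    nSpec D F N * D.x F R.r t = D.x F R'.r (((N.eta.getD R.r 0 : ℤ) : F) * t) * nSpec D F N := by
  simp only [checkR4, Bool.and_eq_true, decide_eq_true_eq, List.all_eq_true, List.mem_range,
    Bool.or_eq_true] at h
  obtain ⟨⟨⟨⟨⟨⟨⟨⟨⟨⟨hr', hi⟩, hneglt⟩, hneg'⟩, hneglt'⟩, hcorlen⟩, hcar⟩, hpineg⟩, hsq⟩, hcor⟩, hgen⟩ := h
  rw [piAt_eq D.nroots N hN] at hr'
  rw [piAt_eq D.nroots N hN] at hpineg
  rw [etaAt_eq D.nroots N hN R.r hR.lt, etaAt_eq D.nroots N hN R.neg hneglt] at hsq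
  set es : ℤ := N.eta.getD R.r 0 with hes
  set en : ℤ := N.eta.getD R.neg 0 with hen
  have hcor' : ∀ j' < D.rank, R.cor.getD j' 0 - (if j' = N.i then dotFrom N.car 0 R.cor else 0) =
      en * es * R'.cor.getD j' 0 := by
    intro j' hj'
    have := hcor j' hj'
    rwa [etaAt_eq D.nroots N hN R.r hR.lt, etaAt_eq D.nroots N hN R.neg hneglt] at this
  -- the oracles of both sides
  have oX := isOracle_x (D := D) (t := t) (u := 1) R hR (mkPows tP) _ (mkPows_ok t 1 tP)
  rw [eval_tP] at oX
  have oX' := isOracle_x (D := D) (t := t) (u := 1) R' hR' (mkPows (etaP es)) _ (mkPows_ok t 1 (etaP es))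
  rw [eval_etaP] at oX'
  have oN := isOracle_n D t 1 N
  have oA := IsOracle.comp D t 1 oN oX
  have oB := IsOracle.comp D t 1 oX' oN
  apply Matrix.ext_of_mulVec_single
  intro col
  have hs : sem D t 1 [⟨keyOf D col, 1, 0, 0⟩] = (Pi.single col 1 : D.Idx → F) := by
    rw [sem_single_eq_pi_single D t 1 _ col rfl]
    simp [Term.eval, monoVal_zero]
  rw [← hs, ← oA _, ← oB _]
  have hv : validKey D.rank D.nroots (keyOf D col) = true := (validKey_iff D _).mpr ⟨col, rfl⟩
  have hP1 : Poly.eval t (1 : Fˣ) (mkPows tP).p1 = (t : F) := by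
    rw [(mkPows_ok t 1 tP).1, eval_tP]
  have hP2 : Poly.eval t (1 : Fˣ) (mkPows tP).p2 = (t : F) ^ 2 := by
    rw [(mkPows_ok t 1 tP).2.1, eval_tP]
  have hQ1 : Poly.eval t (1 : Fˣ) (mkPows (etaP es)).p1 = (es : F) * (t : F) := by
    rw [(mkPows_ok t 1 (etaP es)).1, eval_etaP]
  have hQ2 : Poly.eval t (1 : Fˣ) (mkPows (etaP es)).p2 = ((es : F) * (t : F)) ^ 2 := by
    rw [(mkPows_ok t 1 (etaP es)).2.1, eval_etaP]
  funext idx
  rcases col with j | s
  · -- column of h_j
    have hk : keyOf D (Sum.inl j) = 2 * j.val := rfl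
    have h0 : (2 * j.val) % 2 = 0 := by omega
    have h1 : (2 * j.val) / 2 = j.val := by omega
    have hvi : validKey D.rank D.nroots (2 * N.i) = true :=
      (validKey_iff D _).mpr ⟨Sum.inl ⟨N.i, hi⟩, rfl⟩
    have h0i : (2 * N.i) % 2 = 0 := by omega
    have h1i : (2 * N.i) / 2 = N.i := by omega
    rw [hk] at hv ⊢
    have eA : xCol D.rank D.nroots R (mkPows tP) ⟨2 * j.val, 1, 0, 0⟩ =
        ⟨2 * j.val, 1, 0, 0⟩ :: scaleTerms (2 * R.r + 1) (-(R.car.getD j.val 0)) (mkPows tP).p1 ⟨2 * j.val, 1, 0, 0⟩ := by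
      unfold xCol
      simp only
      rw [if_pos hv, if_pos h0, h1]
    have eN : nCol D.rank D.nroots N ⟨2 * j.val, 1, 0, 0⟩ =
        [⟨2 * j.val, 1, 0, 0⟩, ⟨2 * N.i, -(N.car.getD j.val 0) * 1, 0, 0⟩] := by
      unfold nCol
      simp only
      rw [if_pos hv, if_pos h0, h1]
    have eB1 : xCol D.rank D.nroots R' (mkPows (etaP es)) ⟨2 * j.val, 1, 0, 0⟩ =
        ⟨2 * j.val, 1, 0, 0⟩ :: scaleTerms (2 * R'.r + 1) (-(R'.car.getD j.val 0)) (mkPows (etaP es)).p1 ⟨2 * j.val, 1, 0, 0⟩ := by
      unfold xCol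
      simp only
      rw [if_pos hv, if_pos h0, h1]
    have eB2 : xCol D.rank D.nroots R' (mkPows (etaP es)) ⟨2 * N.i, -(N.car.getD j.val 0) * 1, 0, 0⟩ =
        ⟨2 * N.i, -(N.car.getD j.val 0) * 1, 0, 0⟩ ::
          scaleTerms (2 * R'.r + 1) (-(R'.car.getD N.i 0)) (mkPows (etaP es)).p1 ⟨2 * N.i, -(N.car.getD j.val 0) * 1, 0, 0⟩ := by
      unfold xCol
      simp only
      rw [if_pos hvi, if_pos h0i, h1i]
    have hc := hcar j.val j.isLt
    have hc' : ((R.car.getD j.val 0 : ℤ) : F) =
        ((R'.car.getD j.val 0 : ℤ) : F) - ((N.car.getD j.val 0 : ℤ) : F) * ((R'.car.getD N.i 0 : ℤ) : F) := by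
      exact_mod_cast congrArg (Int.cast (R := F)) hc
    show sem D t 1 ((xCol D.rank D.nroots R (mkPows tP) _).flatMap (nCol D.rank D.nroots N)) idx =
      sem D t 1 ((nCol D.rank D.nroots N _).flatMap (xCol D.rank D.nroots R' (mkPows (etaP es)))) idx
    rw [eA, eN, List.flatMap_cons, eN, List.flatMap_cons, List.flatMap_cons, List.flatMap_nil, eB1, eB2,
      sem_append, sem_append, List.append_nil, Pi.add_apply, Pi.add_apply,
      sem_flatMap_nCol_scale_odd D t 1 N R.r hR.lt, sem_cons_apply, sem_single_apply, sem_cons_apply,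
      sem_scaleTerms, sem_cons_apply, sem_scaleTerms, hP1, hQ1, ← hr']
    simp only [Term.eval, monoVal_zero, Int.cast_one, Int.cast_neg, Int.cast_mul, mul_one, hc']
    split_ifs <;> ring
  · -- column of e_s
    have hk : keyOf D (Sum.inr s) = 2 * s.val + 1 := rfl
    have h0 : ¬ (2 * s.val + 1) % 2 = 0 := by omega
    have h1 : (2 * s.val + 1) / 2 = s.val := by omega
    rw [hk] at hv ⊢
    have eN : nCol D.rank D.nroots N ⟨2 * s.val + 1, 1, 0, 0⟩ =
        [⟨2 * N.pi.getD s.val 0 + 1, N.eta.getD s.val 0 * 1, 0, 0⟩] := by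
      unfold nCol
      simp only
      rw [if_pos hv, if_neg h0, h1]
    show sem D t 1 ((xCol D.rank D.nroots R (mkPows tP) _).flatMap (nCol D.rank D.nroots N)) idx =
      sem D t 1 ((nCol D.rank D.nroots N _).flatMap (xCol D.rank D.nroots R' (mkPows (etaP es)))) idx
    by_cases hsr : s.val = R.r
    · -- s = r
      have eA : xCol D.rank D.nroots R (mkPows tP) ⟨2 * s.val + 1, 1, 0, 0⟩ = [⟨2 * s.val + 1, 1, 0, 0⟩] := by
        unfold xCol
        simp only
        rw [if_pos hv, if_neg h0, h1, if_pos hsr]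
      have hvy : validKey D.rank D.nroots (2 * N.pi.getD s.val 0 + 1) = true := by
        rw [hsr, ← hr']
        exact (validKey_iff D _).mpr ⟨Sum.inr ⟨R'.r, hR'.lt⟩, rfl⟩
      have eB : xCol D.rank D.nroots R' (mkPows (etaP es)) ⟨2 * N.pi.getD s.val 0 + 1, N.eta.getD s.val 0 * 1, 0, 0⟩ =
          [⟨2 * N.pi.getD s.val 0 + 1, N.eta.getD s.val 0 * 1, 0, 0⟩] := by
        unfold xCol
        simp only
        rw [if_pos hvy, if_neg (by omega), if_pos (by rw [hsr, ← hr']; omega)]
      rw [eA, eN, List.flatMap_cons, List.flatMap_nil, List.flatMap_cons, List.flatMap_nil, eN, eB]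
    by_cases hsn : s.val = R.neg
    · -- s = -r
      have eA : xCol D.rank D.nroots R (mkPows tP) ⟨2 * s.val + 1, 1, 0, 0⟩ =
          ⟨2 * s.val + 1, 1, 0, 0⟩ :: (corTerms (mkPows tP).p1 ⟨2 * s.val + 1, 1, 0, 0⟩ 0 R.cor ++
            scaleTerms (2 * R.r + 1) (-1) (mkPows tP).p2 ⟨2 * s.val + 1, 1, 0, 0⟩) := by
        unfold xCol
        simp only
        rw [if_pos hv, if_neg h0, h1, if_neg hsr, if_pos hsn]
      have hpy : N.pi.getD s.val 0 = R'.neg := by rw [hsn]; exact hpineg
      have hvy : validKey D.rank D.nroots (2 * N.pi.getD s.val 0 + 1) = true := by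
        rw [hpy]
        exact (validKey_iff D _).mpr ⟨Sum.inr ⟨R'.neg, hneglt'⟩, rfl⟩
      have eB : xCol D.rank D.nroots R' (mkPows (etaP es)) ⟨2 * N.pi.getD s.val 0 + 1, N.eta.getD s.val 0 * 1, 0, 0⟩ =
          ⟨2 * N.pi.getD s.val 0 + 1, N.eta.getD s.val 0 * 1, 0, 0⟩ ::
            (corTerms (mkPows (etaP es)).p1 ⟨2 * N.pi.getD s.val 0 + 1, N.eta.getD s.val 0 * 1, 0, 0⟩ 0 R'.cor ++
              scaleTerms (2 * R'.r + 1) (-1) (mkPows (etaP es)).p2
                ⟨2 * N.pi.getD s.val 0 + 1, N.eta.getD s.val 0 * 1, 0, 0⟩) := by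
        unfold xCol
        simp only
        rw [if_pos hvy, if_neg (by omega), if_neg (by rw [hpy]; omega), if_pos (by rw [hpy]; omega)]
      have hey : (Term.eval t (1 : Fˣ) ⟨2 * N.pi.getD s.val 0 + 1, N.eta.getD s.val 0 * 1, 0, 0⟩ : F) = (en : F) := by
        simp only [Term.eval, monoVal_zero, mul_one, hen, hsn]
      have hex : (Term.eval t (1 : Fˣ) ⟨2 * s.val + 1, 1, 0, 0⟩ : F) = 1 := by
        simp only [Term.eval, monoVal_zero, mul_one, Int.cast_one]
      have hsq' : (es : F) = (en : F) * (es : F) * (es : F) := by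
        exact_mod_cast congrArg (Int.cast (R := F)) hsq
      rw [eA]
      simp only [List.flatMap_cons, List.flatMap_append, List.flatMap_nil, List.append_nil, eN, eB, sem_append,
        sem_cons_apply, sem_nil, Pi.add_apply, Pi.zero_apply, add_zero, sem_scaleTerms,
        sem_flatMap_nCol_scale_odd D t 1 N R.r hR.lt, hP2, hQ2, hey, hex, ← hr', ← hes]
      rcases idx with j' | u'
      · rw [sem_flatMap_nCol_corTerms_inl D t 1 N _ _ j' R.cor 0 (by omega), sem_corTerms_inl, hP1, hQ1, hey, hex]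
        have hc := hcor' j'.val j'.isLt
        have hc' : ((R.cor.getD j'.val 0 : ℤ) : F) - ((if j'.val = N.i then dotFrom N.car 0 R.cor else 0 : ℤ) : F) =
            (en : F) * (es : F) * ((R'.cor.getD j'.val 0 : ℤ) : F) := by
          exact_mod_cast congrArg (Int.cast (R := F)) hc
        simp only [keyOf_inl_odd, if_false, Nat.zero_le, if_true, Nat.sub_zero, zero_add, add_zero]
        rw [hc']
        ring
      · rw [sem_flatMap_nCol_corTerms_inr D t 1 N _ _ u' R.cor 0 (by omega), sem_corTerms_inr]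
        simp only [keyOf_inr_odd, zero_add, Int.cast_neg, Int.cast_one]
        split_ifs
        · linear_combination (-(t : F) ^ 2) * hsq'
        · ring
        · linear_combination (-(t : F) ^ 2) * hsq'
        · ring
    · -- generic s
      have hg := hgen s.val s.isLt
      rcases hg with (hg | hg) | hg
      · exact absurd hg hsr
      · exact absurd hg hsn
      obtain ⟨⟨⟨hplt, hpr⟩, hpn⟩, hcm⟩ := hg
      rw [piAt_eq D.nroots N hN] at hplt hpr hpn hcm
      rw [etaAt_eq D.nroots N hN R.r hR.lt, etaAt_eq D.nroots N hN s.val s.isLt] at hcm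
      have eA : xCol D.rank D.nroots R (mkPows tP) ⟨2 * s.val + 1, 1, 0, 0⟩ =
          ⟨2 * s.val + 1, 1, 0, 0⟩ :: chainTerms (mkPows tP) ⟨2 * s.val + 1, 1, 0, 0⟩ 0 (lookup R.tbl s.val) := by
        unfold xCol
        simp only
        rw [if_pos hv, if_neg h0, h1, if_neg hsr, if_neg hsn]
      have hvy : validKey D.rank D.nroots (2 * N.pi.getD s.val 0 + 1) = true :=
        (validKey_iff D _).mpr ⟨Sum.inr ⟨N.pi.getD s.val 0, hplt⟩, rfl⟩
      have eB : xCol D.rank D.nroots R' (mkPows (etaP es)) ⟨2 * N.pi.getD s.val 0 + 1, N.eta.getD s.val 0 * 1, 0, 0⟩ =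
          ⟨2 * N.pi.getD s.val 0 + 1, N.eta.getD s.val 0 * 1, 0, 0⟩ ::
            chainTerms (mkPows (etaP es)) ⟨2 * N.pi.getD s.val 0 + 1, N.eta.getD s.val 0 * 1, 0, 0⟩ 0
              (lookup R'.tbl (N.pi.getD s.val 0)) := by
        unfold xCol
        simp only
        rw [if_pos hvy, if_neg (by omega), if_neg (by omega), if_neg (by omega)]
        congr 3
        omega
      have hey : (Term.eval t (1 : Fˣ) ⟨2 * N.pi.getD s.val 0 + 1, N.eta.getD s.val 0 * 1, 0, 0⟩ : F) =
          ((N.eta.getD s.val 0 : ℤ) : F) := by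
        simp only [Term.eval, monoVal_zero, mul_one]
      have hex : (Term.eval t (1 : Fˣ) ⟨2 * s.val + 1, 1, 0, 0⟩ : F) = 1 := by
        simp only [Term.eval, monoVal_zero, mul_one, Int.cast_one]
      have hlen : 0 + (lookup R.tbl s.val).length ≤ 3 := by
        rw [hR.tbl_eq, lookup_mkTbl _ hR.rowOK]
        have := (entryOf_ok _ hR.rowOK s.val).1
        omega
      rw [eA]
      simp only [List.flatMap_cons, List.flatMap_nil, List.append_nil, eN, eB, sem_append,
        sem_cons_apply, sem_nil, Pi.add_apply, Pi.zero_apply, add_zero]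
      rw [sem_chainMatch D t 1 N hN es (N.eta.getD s.val 0) _ _ hex hey _ _ 0 hlen hcm idx]

end

end Cfsg.Agent.Lib.Helper18_ChevR4

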