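import Cfsg.Agent.Lib.Helper18_ChevBruhat
import Cfsg.Agent.Lib.Helper18_ChevPar

set_option autoImplicit false

/-!
The action of `N` on the roots: a homomorphism `N → Sym(roots)` with kernel `H`, whose image is generated by the
fundamental reflections.
-/

namespace Cfsg.Agent.Lib.Helper18_ChevRootHom

open Cfsg Cfsg.Lie Cfsg.Agent.Lib.Helper18_ChevFast Cfsg.Agent.Lib.Helper18_ChevEngine
  Cfsg.Agent.Lib.Helper18_ChevR1 Cfsg.Agent.Lib.Helper18_ChevN Cfsg.Agent.Lib.Helper18_ChevR4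
  Cfsg.Agent.Lib.Helper18_ChevSimple Cfsg.Agent.Lib.Helper18_ChevSimple2 Cfsg.Agent.Lib.Helper18_ChevFacts
  Cfsg.Agent.Lib.Helper18_ChevWeyl Cfsg.Agent.Lib.Helper18_ChevDiag Cfsg.Agent.Lib.Helper18_ChevCar
  Cfsg.Agent.Lib.Helper18_ChevTorus Cfsg.Agent.Lib.Helper18_ChevGL Cfsg.Agent.Lib.Helper18_ChevComm
  Cfsg.Agent.Lib.Helper18_ChevComm2 Cfsg.Agent.Lib.Helper18_MatTri Cfsg.Agent.Lib.Helper18_ChevTri
  Cfsg.Agent.Lib.Helper18_ChevBorel Cfsg.Agent.Lib.Helper18_ChevAdd Cfsg.Agent.Lib.Helper18_ChevUni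
  Cfsg.Agent.Lib.Helper18_ChevBN Cfsg.Agent.Lib.Helper18_ChevMono Cfsg.Agent.Lib.Helper18_ChevBNPair
  Cfsg.Agent.Lib.Helper18_ChevSimp Cfsg.Agent.Lib.Helper18_ChevJCerts Cfsg.Agent.Lib.Helper18_ChevLevi
  Cfsg.Agent.Lib.Helper18_ChevBruhat Cfsg.Agent.Lib.Helper18_ChevPar

variable {D : ChevalleyDatum} {Ns : List NData} {F : Type*} [Field F]
variable {wl : List ℤ} {ws : List (List ℤ)} {sc : ℤ} {w : List ℤ} {d : ℕ}

/-- The map of the roots by which an element acts is unique. -/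
theorem actsAs_unique (c : DCert D Ns) (tc : TCert D) (ac : ACert D wl ws sc) {g : GL D.Idx F} {π π' : ℕ → ℕ}
    (h : ActsAs c g π) (h' : ActsAs c g π') (r : ℕ) (hr : r < D.nroots) : π r = π' r := by
  obtain ⟨h1, a, ha, e⟩ := h r hr
  obtain ⟨h1', a', -, e'⟩ := h' r hr
  have := (e 1).symm.trans (e' 1)
  have h2 := congrArg (fun g : GL D.Idx F => (g : Matrix D.Idx D.Idx F)) this
  simp only [xGL_coe] at h2
  exact (root_eq_of_x_eq c tc ac (π r) (π' r) h1 h1' (a * 1) (a' * 1) (by rwa [mul_one]) h2).symm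

/-- The map of the roots by which an element of `N` acts. -/
noncomputable def piOf (c : DCert D Ns) (tc : TCert D) (n : ↥(D.monomialSubgroup F)) : ℕ → ℕ :=
  (nAct_of_mem_monomial c tc n.1 n.2).choose

theorem piOf_actsAs (c : DCert D Ns) (tc : TCert D) (n : ↥(D.monomialSubgroup F)) :
    ActsAs c (n : GL D.Idx F) (piOf c tc n) := (nAct_of_mem_monomial c tc n.1 n.2).choose_spec.1

theorem piOf_linMap (c : DCert D Ns) (tc : TCert D) (n : ↥(D.monomialSubgroup F)) :
    LinMap D (piOf c tc n) := (nAct_of_mem_monomial c tc n.1 n.2).choose_spec.2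

theorem piOf_eq (c : DCert D Ns) (tc : TCert D) (ac : ACert D wl ws sc) (n : ↥(D.monomialSubgroup F))
    {π : ℕ → ℕ} (h : ActsAs c (n : GL D.Idx F) π) (r : ℕ) (hr : r < D.nroots) : piOf c tc n r = π r :=
  actsAs_unique c tc ac (piOf_actsAs c tc n) h r hr

theorem piOf_one (c : DCert D Ns) (tc : TCert D) (ac : ACert D wl ws sc) (r : ℕ) (hr : r < D.nroots) :
    piOf c tc (1 : ↥(D.monomialSubgroup F)) r = r :=
  piOf_eq c tc ac 1 (actsAs_one c) r hr

theorem piOf_mul (c : DCert D Ns) (tc : TCert D) (ac : ACert D wl ws sc) (n m : ↥(D.monomialSubgroup F))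
    (r : ℕ) (hr : r < D.nroots) : piOf c tc (n * m) r = piOf c tc n (piOf c tc m r) :=
  piOf_eq c tc ac (n * m) ((piOf_actsAs c tc n).mul c (piOf_actsAs c tc m)) r hr

/-- The permutation of the roots induced by an element of `N`. -/
noncomputable def rootPerm (c : DCert D Ns) (tc : TCert D) (ac : ACert D wl ws sc)
    (n : ↥(D.monomialSubgroup F)) : Equiv.Perm (Fin D.nroots) where
  toFun r := ⟨piOf c tc n r, (piOf_linMap c tc n).1 r r.2⟩
  invFun r := ⟨piOf c tc n⁻¹ r, (piOf_linMap c tc n⁻¹).1 r r.2⟩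
  left_inv r := by
    apply Fin.ext
    show piOf c tc n⁻¹ (piOf c tc n r) = r
    rw [← piOf_mul c tc ac n⁻¹ n r r.2, inv_mul_cancel, piOf_one c tc ac r r.2]
  right_inv r := by
    apply Fin.ext
    show piOf c tc n (piOf c tc n⁻¹ r) = r
    rw [← piOf_mul c tc ac n n⁻¹ r r.2, mul_inv_cancel, piOf_one c tc ac r r.2]

theorem rootPerm_apply (c : DCert D Ns) (tc : TCert D) (ac : ACert D wl ws sc) (n : ↥(D.monomialSubgroup F))
    (r : Fin D.nroots) : ((rootPerm c tc ac n r : Fin D.nroots) : ℕ) = piOf c tc n r := rfl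

/-- The homomorphism from `N` to the symmetric group of the roots. -/
noncomputable def rootHom (c : DCert D Ns) (tc : TCert D) (ac : ACert D wl ws sc) :
    ↥(D.monomialSubgroup F) →* Equiv.Perm (Fin D.nroots) where
  toFun := rootPerm c tc ac
  map_one' := by
    ext r
    rw [rootPerm_apply, piOf_one c tc ac r r.2]
    rfl
  map_mul' n m := by
    ext r
    rw [rootPerm_apply, piOf_mul c tc ac n m r r.2]
    rfl

theorem rootHom_apply (c : DCert D Ns) (tc : TCert D) (ac : ACert D wl ws sc) (n : ↥(D.monomialSubgroup F))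
    (r : Fin D.nroots) : ((rootHom c tc ac n r : Fin D.nroots) : ℕ) = piOf c tc n r := rfl

/-- `rootHom n = σ` as soon as `n` acts as `σ` on the root subgroups. -/
theorem rootHom_eq_of_actsAs (c : DCert D Ns) (tc : TCert D) (ac : ACert D wl ws sc)
    (n : ↥(D.monomialSubgroup F)) {π : ℕ → ℕ} (h : ActsAs c (n : GL D.Idx F) π) (σ : Equiv.Perm (Fin D.nroots))
    (hσ : ∀ r : Fin D.nroots, ((σ r : Fin D.nroots) : ℕ) = π r) : rootHom c tc ac n = σ := by
  ext r
  rw [rootHom_apply, piOf_eq c tc ac n h r r.2, hσ]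

/-! ### The kernel -/

theorem not_inRootSub_empty (ac : ACert D wl ws sc) (r : ℕ) : ¬ D.InRootSub ∅ r := by
  intro h
  rw [inRootSub_iff] at h
  obtain ⟨hr, h0⟩ := h
  have hz : ∀ i < D.rank, cf D ws i r = 0 := fun i hi =>
    (ac.cor_zero_iff r hr i hi).mp (h0 i hi (Set.notMem_empty i))
  have hp : D.IsPosRoot r := (ac.pos_iff r hr).mpr (fun i hi => by rw [hz i hi])
  have hn : D.IsNegRoot r := (ac.neg_iff r hr).mpr (fun i hi => by rw [hz i hi])
  exact ac.not_pos_and_neg r hp hn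

theorem unipotentRadical_empty (ac : ACert D wl ws sc) : D.unipotentRadical F ∅ = D.posUnipotent F := by
  unfold ChevalleyDatum.unipotentRadical ChevalleyDatum.posUnipotent
  congr 1
  ext g
  constructor
  · rintro ⟨r, t, hr, -, hg⟩
    exact ⟨r, t, hr, hg⟩
  · rintro ⟨r, t, hr, hg⟩
    exact ⟨r, t, hr, not_inRootSub_empty ac r, hg⟩

theorem parabolic_empty : D.parabolicSubgroup F ∅ = D.borelSubgroup F := by
  unfold ChevalleyDatum.parabolicSubgroup
  have : {g : GL D.Idx F | ∃ j ∈ (∅ : Set ℕ), j < D.rank ∧ (g : Matrix D.Idx D.Idx F) = D.nMat F (D.simple j) 1} = ∅ := by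
    ext g
    simp
  rw [this, Subgroup.closure_empty, sup_bot_eq]

/-- `N_G(U) = B`. -/
theorem normalizer_pos_inf_group (c : DCert D Ns) (tc : TCert D) (ac : ACert D wl ws sc) (gc : GCert D w d)
    (hR2 : R2All D F) :
    Subgroup.normalizer (D.posUnipotent F : Set (GL D.Idx F)) ⊓ D.group F = D.borelSubgroup F := by
  have := normalizer_inf_group c tc ac gc hR2 (∅ : Set ℕ)
  rwa [unipotentRadical_empty ac, parabolic_empty] at this

/-- An element acting on the root subgroups by a map that preserves the positive roots conjugates `U` into `U`. -/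
theorem conj_pos_of_actsAs (c : DCert D Ns) {g : GL D.Idx F} {π : ℕ → ℕ} (h : ActsAs c g π)
    (hpos : ∀ r, D.IsPosRoot r → D.IsPosRoot (π r)) (u : GL D.Idx F) (hu : u ∈ D.posUnipotent F) :
    g * u * g⁻¹ ∈ D.posUnipotent F := by
  apply conj_closure_le g _ (D.posUnipotent F) _ u hu
  rintro s ⟨r, t, hr, hs⟩
  rw [eq_xGL c hs]
  obtain ⟨-, a, -, ha⟩ := h r hr.1
  rw [ha t]
  exact Subgroup.subset_closure ⟨_, _, hpos r hr, rfl⟩

theorem piOf_of_rootHom_eq_one (c : DCert D Ns) (tc : TCert D) (ac : ACert D wl ws sc)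
    (n : ↥(D.monomialSubgroup F)) (h : rootHom c tc ac n = 1) (r : ℕ) (hr : r < D.nroots) : piOf c tc n r = r := by
  have := congrArg (fun σ : Equiv.Perm (Fin D.nroots) => ((σ ⟨r, hr⟩ : Fin D.nroots) : ℕ)) h
  exact this

theorem mem_diagonal_of_rootHom_eq_one (c : DCert D Ns) (tc : TCert D) (ac : ACert D wl ws sc) (gc : GCert D w d)
    (hR2 : R2All D F) (n : ↥(D.monomialSubgroup F)) (h : rootHom c tc ac n = 1) :
    (n : GL D.Idx F) ∈ D.diagonalSubgroup F := by
  have hid := piOf_of_rootHom_eq_one c tc ac n h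
  have h' : rootHom c tc ac n⁻¹ = 1 := by rw [map_inv, h, inv_one]
  have hid' := piOf_of_rootHom_eq_one c tc ac n⁻¹ h'
  have h1 : ∀ u ∈ D.posUnipotent F, (n : GL D.Idx F) * u * (n : GL D.Idx F)⁻¹ ∈ D.posUnipotent F :=
    conj_pos_of_actsAs c (piOf_actsAs c tc n) (fun r hr => by rw [hid r hr.1]; exact hr)
  have h2 : ∀ u ∈ D.posUnipotent F, (n : GL D.Idx F)⁻¹ * u * (n : GL D.Idx F)⁻¹⁻¹ ∈ D.posUnipotent F := by
    have := conj_pos_of_actsAs c (piOf_actsAs c tc n⁻¹) (fun r hr => by rw [hid' r hr.1]; exact hr)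
    simpa using this
  have hnorm : (n : GL D.Idx F) ∈ Subgroup.normalizer (D.posUnipotent F : Set (GL D.Idx F)) := by
    rw [Subgroup.mem_normalizer_iff]
    intro u
    constructor
    · exact h1 u
    · intro hu
      have := h2 _ hu
      have e : (n : GL D.Idx F)⁻¹ * ((n : GL D.Idx F) * u * (n : GL D.Idx F)⁻¹) * (n : GL D.Idx F)⁻¹⁻¹ = u := by
        group
      rwa [e] at this
  have hB : (n : GL D.Idx F) ∈ D.borelSubgroup F := by
    rw [← normalizer_pos_inf_group c tc ac gc hR2]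
    exact Subgroup.mem_inf.mpr ⟨hnorm, monomial_le_group c n.2⟩
  rw [← borel_inf_monomial c tc gc]
  exact Subgroup.mem_inf.mpr ⟨hB, n.2⟩

theorem rootHom_ker (c : DCert D Ns) (tc : TCert D) (ac : ACert D wl ws sc) (gc : GCert D w d)
    (hR2 : R2All D F) :
    (rootHom (F := F) c tc ac).ker = (D.diagonalSubgroup F).subgroupOf (D.monomialSubgroup F) := by
  ext n
  rw [MonoidHom.mem_ker, Subgroup.mem_subgroupOf]
  constructor
  · exact mem_diagonal_of_rootHom_eq_one c tc ac gc hR2 n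
  · intro hn
    exact rootHom_eq_of_actsAs c tc ac n (actsAs_diagonal c tc _ hn) 1 (fun r => rfl)

/-! ### The image -/

/-- The permutation of the roots given by the `i`-th fundamental reflection. -/
def reflPerm (c : DCert D Ns) (i : ℕ) (hi : i < D.rank) : Equiv.Perm (Fin D.nroots) where
  toFun r := ⟨D.reflectRoot i r, c.reflect_lt i hi r r.2⟩
  invFun r := ⟨D.reflectRoot i r, c.reflect_lt i hi r r.2⟩
  left_inv r := Fin.ext (c.reflect_reflect i hi r r.2)
  right_inv r := Fin.ext (c.reflect_reflect i hi r r.2)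

/-- The Weyl group, as a group of permutations of the roots. -/
def weylPerm (D : ChevalleyDatum) : Subgroup (Equiv.Perm (Fin D.nroots)) :=
  Subgroup.closure {σ | ∃ i < D.rank, ∀ r : Fin D.nroots, ((σ r : Fin D.nroots) : ℕ) = D.reflectRoot i r}

theorem reflPerm_mem (c : DCert D Ns) (i : ℕ) (hi : i < D.rank) : reflPerm c i hi ∈ weylPerm D :=
  Subgroup.subset_closure ⟨i, hi, fun _ => rfl⟩

theorem rootHom_nGL (c : DCert D Ns) (tc : TCert D) (ac : ACert D wl ws sc) (i : ℕ) (hi : i < D.rank)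
    (hn : nGL c i ∈ D.monomialSubgroup F) :
    rootHom (F := F) c tc ac ⟨nGL c i, hn⟩ = reflPerm c i hi := by
  have hact : ActsAs c ((⟨nGL c i, hn⟩ : ↥(D.monomialSubgroup F)) : GL D.Idx F) (D.reflectRoot i) :=
    actsAs_nGL c i hi
  apply rootHom_eq_of_actsAs c tc ac _ hact
  intro r
  rfl

/-- The elements of `N` whose permutation of the roots lies in the Weyl group. -/
def weylPre (c : DCert D Ns) (tc : TCert D) (ac : ACert D wl ws sc) (F : Type*) [Field F] :
    Subgroup (GL D.Idx F) where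
  carrier := {g | ∃ hg : g ∈ D.monomialSubgroup F, rootHom c tc ac ⟨g, hg⟩ ∈ weylPerm D}
  one_mem' := ⟨Subgroup.one_mem _, by
    have : (⟨1, Subgroup.one_mem _⟩ : ↥(D.monomialSubgroup F)) = 1 := rfl
    rw [this, map_one]
    exact Subgroup.one_mem _⟩
  mul_mem' := by
    rintro a b ⟨ha, ha'⟩ ⟨hb, hb'⟩
    refine ⟨Subgroup.mul_mem _ ha hb, ?_⟩
    have : (⟨a * b, Subgroup.mul_mem _ ha hb⟩ : ↥(D.monomialSubgroup F)) = ⟨a, ha⟩ * ⟨b, hb⟩ := rfl
    rw [this, map_mul]
    exact Subgroup.mul_mem _ ha' hb'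
  inv_mem' := by
    rintro a ⟨ha, ha'⟩
    refine ⟨Subgroup.inv_mem _ ha, ?_⟩
    have : (⟨a⁻¹, Subgroup.inv_mem _ ha⟩ : ↥(D.monomialSubgroup F)) = (⟨a, ha⟩ : ↥(D.monomialSubgroup F))⁻¹ := rfl
    rw [this, map_inv]
    exact Subgroup.inv_mem _ ha'

theorem monomial_le_weylPre (c : DCert D Ns) (tc : TCert D) (ac : ACert D wl ws sc) :
    D.monomialSubgroup F ≤ weylPre c tc ac F := by
  rw [monomial_eq c]
  apply sup_le
  · intro h hh
    refine ⟨diagonal_le_monomial hh, ?_⟩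
    have : rootHom c tc ac ⟨h, diagonal_le_monomial hh⟩ = 1 :=
      rootHom_eq_of_actsAs c tc ac _ (actsAs_diagonal c tc h hh) 1 (fun r => rfl)
    rw [this]
    exact Subgroup.one_mem _
  · unfold simpleN
    rw [Subgroup.closure_le]
    rintro g ⟨i, hi, rfl⟩
    refine ⟨nGL_mem_monomial c i hi, ?_⟩
    rw [rootHom_nGL c tc ac i hi]
    exact reflPerm_mem c i hi

theorem rootHom_range (c : DCert D Ns) (tc : TCert D) (ac : ACert D wl ws sc) :
    (rootHom (F := F) c tc ac).range = weylPerm D := by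
  apply le_antisymm
  · rintro σ ⟨⟨n, hn⟩, rfl⟩
    obtain ⟨_, h⟩ := monomial_le_weylPre c tc ac hn
    exact h
  · unfold weylPerm
    rw [Subgroup.closure_le]
    rintro σ ⟨i, hi, hσ⟩
    refine ⟨⟨nGL c i, nGL_mem_monomial c i hi⟩, ?_⟩
    rw [rootHom_nGL c tc ac i hi]
    ext r
    rw [hσ]
    rfl

end Cfsg.Agent.Lib.Helper18_ChevRootHom
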