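import Cfsg.Agent.Lib.Helper18_ChevBNPair
import Cfsg.Agent.Lib.Helper18_ChevSolv

set_option autoImplicit false

/-!
Ingredients of the simplicity of the Chevalley groups: the longest element of the Weyl group, the core of `B`,
irreducibility of the (B, N)-pair.
-/

namespace Cfsg.Agent.Lib.Helper18_ChevSimp

open Cfsg Cfsg.Lie Cfsg.Agent.Lib.Helper18_ChevFast Cfsg.Agent.Lib.Helper18_ChevEngine
  Cfsg.Agent.Lib.Helper18_ChevR1 Cfsg.Agent.Lib.Helper18_ChevN Cfsg.Agent.Lib.Helper18_ChevR4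
  Cfsg.Agent.Lib.Helper18_ChevSimple Cfsg.Agent.Lib.Helper18_ChevSimple2 Cfsg.Agent.Lib.Helper18_ChevFacts
  Cfsg.Agent.Lib.Helper18_ChevWeyl Cfsg.Agent.Lib.Helper18_ChevDiag Cfsg.Agent.Lib.Helper18_ChevCar
  Cfsg.Agent.Lib.Helper18_ChevTorus Cfsg.Agent.Lib.Helper18_ChevGL Cfsg.Agent.Lib.Helper18_ChevComm
  Cfsg.Agent.Lib.Helper18_ChevComm2 Cfsg.Agent.Lib.Helper18_MatTri Cfsg.Agent.Lib.Helper18_ChevTri
  Cfsg.Agent.Lib.Helper18_ChevBorel Cfsg.Agent.Lib.Helper18_ChevAdd Cfsg.Agent.Lib.Helper18_ChevUni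
  Cfsg.Agent.Lib.Helper18_ChevBN Cfsg.Agent.Lib.Helper18_ChevMono Cfsg.Agent.Lib.Helper18_ChevBNPair

variable {D : ChevalleyDatum} {Ns : List NData} {F : Type*} [Field F]

/-! ### Elements acting on the root subgroups by a given map of the roots -/

/-- Conjugation by `g` maps `X_r` to `X_{π r}`. -/
def ActsAs (c : DCert D Ns) (g : GL D.Idx F) (π : ℕ → ℕ) : Prop :=
  ∀ r < D.nroots, π r < D.nroots ∧ ∃ a : F, a ≠ 0 ∧ ∀ t : F, g * xGL c r t * g⁻¹ = xGL c (π r) (a * t)

theorem actsAs_one (c : DCert D Ns) : ActsAs c (1 : GL D.Idx F) id := by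
  intro r hr
  exact ⟨hr, 1, one_ne_zero, fun t => by simp⟩

theorem ActsAs.mul (c : DCert D Ns) {g₁ g₂ : GL D.Idx F} {π₁ π₂ : ℕ → ℕ} (h₁ : ActsAs c g₁ π₁)
    (h₂ : ActsAs c g₂ π₂) : ActsAs c (g₁ * g₂) (π₁ ∘ π₂) := by
  intro r hr
  obtain ⟨hr2, a2, ha2, e2⟩ := h₂ r hr
  obtain ⟨hr1, a1, ha1, e1⟩ := h₁ (π₂ r) hr2
  refine ⟨hr1, a1 * a2, mul_ne_zero ha1 ha2, ?_⟩
  intro t
  have : g₁ * g₂ * xGL c r t * (g₁ * g₂)⁻¹ = g₁ * (g₂ * xGL c r t * g₂⁻¹) * g₁⁻¹ := by group
  rw [this, e2, e1, mul_assoc]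
  rfl

theorem actsAs_nGL (c : DCert D Ns) (i : ℕ) (hi : i < D.rank) :
    ActsAs c (nGL c i : GL D.Idx F) (D.reflectRoot i) := by
  intro r hr
  exact ⟨c.reflect_lt i hi r hr, _, eta_cast_ne_zero c i hi r hr, nGL_conj c i hi r hr⟩

theorem actsAs_nGL_inv (c : DCert D Ns) (i : ℕ) (hi : i < D.rank) :
    ActsAs c ((nGL c i)⁻¹ : GL D.Idx F) (D.reflectRoot i) := by
  intro r hr
  refine ⟨c.reflect_lt i hi r hr, _, eta_cast_ne_zero c i hi _ (c.reflect_lt i hi r hr), ?_⟩
  intro t
  rw [inv_inv]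
  exact nGL_inv_conj c i hi r hr t

/-- The image of a root under the product of the fundamental reflections of a word. -/
def wordRefl (D : ChevalleyDatum) (word : List ℕ) (r : ℕ) : ℕ := word.foldr (fun i r => D.reflectRoot i r) r

/-- The product of the `n_i` of a word. -/
def wordN (c : DCert D Ns) (F : Type*) [Field F] (word : List ℕ) : GL D.Idx F :=
  (word.map fun i => (nGL c i : GL D.Idx F)).prod

theorem actsAs_wordN (c : DCert D Ns) : ∀ (word : List ℕ), (∀ i ∈ word, i < D.rank) →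
    ActsAs c (wordN c F word) (wordRefl D word)
  | [], _ => by
    have : wordN c F [] = 1 := by simp [wordN]
    rw [this]
    exact actsAs_one c
  | i :: w, h => by
    have ih := actsAs_wordN c w (fun j hj => h j (List.mem_cons_of_mem _ hj))
    have : wordN c F (i :: w) = nGL c i * wordN c F w := by simp [wordN]
    rw [this]
    exact (actsAs_nGL c i (h i (by simp))).mul c ih

theorem wordN_mem_monomial (c : DCert D Ns) (word : List ℕ) (h : ∀ i ∈ word, i < D.rank) :
    wordN c F word ∈ D.monomialSubgroup F := by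
  unfold wordN
  apply Subgroup.list_prod_mem
  intro g hg
  rw [List.mem_map] at hg
  obtain ⟨i, hi, rfl⟩ := hg
  exact nGL_mem_monomial c i (h i hi)

/-! ### The certificate -/

/-- Fast version of `wordRefl`, reading the reflections off the certificate data. -/
def wordPi (Ns : List NData) (word : List ℕ) (r : ℕ) : ℕ :=
  word.foldr (fun i r => (Ns.getD i dummyN).pi.getD r 0) r

theorem wordPi_eq (c : DCert D Ns) : ∀ (word : List ℕ), (∀ i ∈ word, i < D.rank) → ∀ r < D.nroots,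
    wordPi Ns word r = wordRefl D word r ∧ wordRefl D word r < D.nroots
  | [], _, r, hr => ⟨rfl, hr⟩
  | i :: w, h, r, hr => by
    obtain ⟨h1, h2⟩ := wordPi_eq c w (fun j hj => h j (List.mem_cons_of_mem _ hj)) r hr
    have hi := h i (by simp)
    constructor
    · show (Ns.getD i dummyN).pi.getD (wordPi Ns w r) 0 = D.reflectRoot i (wordRefl D w r)
      rw [h1, (c.ncert i hi).pi_getD _ h2]
    · exact c.reflect_lt i hi _ h2

/-- The edge `(i, j)` of the diagram: the commutator of the two reflections moves `p_i` and `p_j`. -/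
def edgeOK (D : ChevalleyDatum) (Ns : List NData) (i j : ℕ) : Prop :=
  i < D.rank ∧ j < D.rank ∧ wordPi Ns [i, j, i, j] (D.simple i) ≠ D.simple i ∧
    wordPi Ns [j, i, j, i] (D.simple j) ≠ D.simple j

instance (D : ChevalleyDatum) (Ns : List NData) (i j : ℕ) : Decidable (edgeOK D Ns i j) := by
  unfold edgeOK
  infer_instance

/-- The certificate: a word `w0` whose product of reflections makes all positive roots negative, and an ordering
`ord` of the nodes of the diagram in which every node but the first is joined to an earlier one. -/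
structure SCert (D : ChevalleyDatum) (Ns : List NData) (w0 : List ℕ) (ord : List ℕ) : Prop where
  w0_lt : ∀ i ∈ w0, i < D.rank
  w0_neg : ∀ r < D.nroots, D.IsPosRoot r → D.IsNegRoot (wordPi Ns w0 r)
  ord_mem : ∀ i < D.rank, ∃ k < D.rank, ord.getD k 0 = i
  ord_ok : ∀ k < D.rank, 0 < k → ∃ q < k, edgeOK D Ns (ord.getD q 0) (ord.getD k 0)

/-! ### `B ∩ V = 1` and the core of `B` -/

section

variable {w : List ℤ} {d : ℕ}

theorem borel_inf_neg (c : DCert D Ns) (tc : TCert D) (gc : GCert D w d) :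
    D.borelSubgroup F ⊓ D.negUnipotent F = ⊥ := by
  rw [eq_bot_iff]
  intro x hx
  rw [Subgroup.mem_inf] at hx
  rw [Subgroup.mem_bot]
  have h1 := borel_le_tri c tc gc hx.1
  have h2 := negUnipotent_le_tri c tc gc hx.2
  have hd : (1 : ℤ) ≤ d := by exact_mod_cast gc.d_pos
  apply Units.ext
  rw [Units.val_one]
  have : (x : Matrix D.Idx D.Idx F) - 1 = 0 := by
    ext i j
    rw [Matrix.zero_apply]
    by_cases hij : gradU D w i < gradU D w j + 0
    · exact h1 i j hij
    · apply h2 i j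
      rcases i with i | s <;> rcases j with j | s' <;> simp only [gradU, gradV, grIdx] at hij ⊢ <;> omega
  exact sub_eq_zero.mp this

variable {wl : List ℤ} {ws : List (List ℤ)} {sc : ℤ} {w0 ord : List ℕ}

/-- Conjugation by the longest element maps `U` into `V`. -/
theorem wordN_conj_pos (c : DCert D Ns) (sc' : SCert D Ns w0 ord) (u : GL D.Idx F)
    (hu : u ∈ D.posUnipotent F) : wordN c F w0 * u * (wordN c F w0)⁻¹ ∈ D.negUnipotent F := by
  have hact := actsAs_wordN (F := F) c w0 sc'.w0_lt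
  have hle : D.posUnipotent F ≤ (D.negUnipotent F).comap (MulAut.conj (wordN c F w0)).toMonoidHom := by
    unfold ChevalleyDatum.posUnipotent
    rw [Subgroup.closure_le]
    rintro g ⟨r, t, hr, hg⟩
    rw [eq_xGL c hg]
    show wordN c F w0 * xGL c r t * (wordN c F w0)⁻¹ ∈ D.negUnipotent F
    obtain ⟨_, a, _, e⟩ := hact r hr.1
    rw [e]
    have h1 := sc'.w0_neg r hr.1 hr
    rw [(wordPi_eq c w0 sc'.w0_lt r hr.1).1] at h1
    exact Subgroup.subset_closure ⟨_, _, h1, rfl⟩
  exact hle hu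

/-- An element of `B` whose conjugate by the longest element is in `B` lies in `H`. -/
theorem mem_diagonal_of_conj_mem (c : DCert D Ns) (tc : TCert D) (gc : GCert D w d) (sc' : SCert D Ns w0 ord)
    (k : GL D.Idx F) (hk : k ∈ D.borelSubgroup F)
    (hk' : wordN c F w0 * k * (wordN c F w0)⁻¹ ∈ D.borelSubgroup F) : k ∈ D.diagonalSubgroup F := by
  obtain ⟨u, hu, h, hh, rfl⟩ := exists_mul_of_mem_sup _ _ (diagonal_le_normalizer_pos c tc) hk
  set n0 := wordN c F w0 with hn0
  have hv := wordN_conj_pos c sc' u hu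
  have hn0N := wordN_mem_monomial (F := F) c w0 sc'.w0_lt
  have hh' : n0 * h * n0⁻¹ ∈ D.diagonalSubgroup F :=
    (Subgroup.mem_normalizer_iff.mp (monomial_le_normalizer_diagonal c tc hn0N) h).mp hh
  have e : n0 * u * n0⁻¹ = (n0 * (u * h) * n0⁻¹) * (n0 * h * n0⁻¹)⁻¹ := by group
  have hvB : n0 * u * n0⁻¹ ∈ D.borelSubgroup F := by
    rw [e]
    exact Subgroup.mul_mem _ hk' (Subgroup.inv_mem _ (Subgroup.mem_sup_right hh'))
  have h1 : n0 * u * n0⁻¹ ∈ D.borelSubgroup F ⊓ D.negUnipotent F := Subgroup.mem_inf.mpr ⟨hvB, hv⟩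
  rw [borel_inf_neg c tc gc, Subgroup.mem_bot] at h1
  have hu1 : u = 1 := by
    have : u = n0⁻¹ * (n0 * u * n0⁻¹) * n0 := by group
    rw [this, h1]
    group
  rw [hu1, one_mul]
  exact hh

/-- A root element in `H` is trivial. -/
theorem eq_zero_of_xGL_mem_diagonal (c : DCert D Ns) (tc : TCert D) (ac : ACert D wl ws sc) (r : ℕ)
    (hr : r < D.nroots) (a : F) (h : xGL c r a ∈ D.diagonalSubgroup F) : a = 0 := by
  obtain ⟨τ, _, hτ⟩ := exists_torus_of_mem c tc _ h
  rw [xGL_coe] at hτ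
  have hnr := DCert.neg_lt c r hr
  apply eq_zero_of_cor_mul ac r hr
  intro i hi
  have h1 := congrFun (congrFun hτ (Sum.inl ⟨i, hi⟩)) (Sum.inr ⟨D.neg r, hnr⟩)
  rw [x_entry_inl_neg c tc ac r r hr hr hnr, if_pos rfl] at h1
  rw [h1]
  unfold torusMat diagMat
  exact Matrix.diagonal_apply_ne _ Sum.inl_ne_inr

/-- An element all of whose conjugates under the Chevalley group lie in `B` is trivial. -/
theorem eq_one_of_conj_mem_borel (c : DCert D Ns) (tc : TCert D) (ac : ACert D wl ws sc) (gc : GCert D w d)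
    (sc' : SCert D Ns w0 ord) (k : GL D.Idx F) (hk : ∀ g ∈ D.group F, g * k * g⁻¹ ∈ D.borelSubgroup F) :
    k = 1 := by
  have hn0G : wordN c F w0 ∈ D.group F :=
    monomial_le_group c (wordN_mem_monomial c w0 sc'.w0_lt)
  -- every conjugate lies in `H`
  have hH : ∀ g ∈ D.group F, g * k * g⁻¹ ∈ D.diagonalSubgroup F := by
    intro g hg
    apply mem_diagonal_of_conj_mem c tc gc sc' _ (hk g hg)
    have := hk (wordN c F w0 * g) (Subgroup.mul_mem _ hn0G hg)
    have e : wordN c F w0 * g * k * (wordN c F w0 * g)⁻¹ =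
        wordN c F w0 * (g * k * g⁻¹) * (wordN c F w0)⁻¹ := by group
    rwa [e] at this
  have hkH : k ∈ D.diagonalSubgroup F := by
    have := hH 1 (Subgroup.one_mem _)
    simpa using this
  obtain ⟨τ, hτ0, hτ⟩ := exists_torus_of_mem c tc k hkH
  -- all characters are trivial
  have hchar : ∀ r < D.nroots, torusChar D τ r = 1 := by
    intro r hr
    have h1 := hH (xGL c r 1) (xGL_mem_group c r 1)
    have h2 : k * xGL c r (-1) * k⁻¹ = xGL c r (torusChar D τ r * (-1)) := by
      rw [mul_inv_eq_iff_eq_mul]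
      apply Units.ext
      rw [Units.val_mul, Units.val_mul, xGL_coe, hτ, xGL_coe]
      exact torus_conj c tc τ hτ0 r hr (-1)
    have h3 : xGL c r (1 + torusChar D τ r * (-1)) ∈ D.diagonalSubgroup F := by
      rw [← xGL_mul, ← h2]
      have e : xGL c r 1 * (k * xGL c r (-1) * k⁻¹) = (xGL c r 1 * k * (xGL c r 1)⁻¹) * k⁻¹ := by
        rw [xGL_inv]; group
      rw [e]
      exact Subgroup.mul_mem _ h1 (Subgroup.inv_mem _ hkH)
    have h4 := eq_zero_of_xGL_mem_diagonal c tc ac r hr _ h3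
    linear_combination -h4
  apply Units.ext
  rw [hτ, Units.val_one]
  unfold torusMat
  rw [← diagMat_one]
  exact diagMat_congr hchar

end

end Cfsg.Agent.Lib.Helper18_ChevSimp
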