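import Cfsg.Agent.Lib.Helper18_ChevR4

set_option autoImplicit false

/-!
Certificates for the elements `n_p` of the fundamental roots: the monomial form of `n_p` and the relation
`n_p x_s(t) = x_{w_p s}(η_s t) n_p` for all roots `s`, from checks that are evaluated datum by datum.
-/

namespace Cfsg.Agent.Lib.Helper18_ChevSimple

open Cfsg Cfsg.Lie Cfsg.Agent.Lib.Helper18_ChevFast Cfsg.Agent.Lib.Helper18_ChevEngine
  Cfsg.Agent.Lib.Helper18_ChevR1 Cfsg.Agent.Lib.Helper18_ChevN Cfsg.Agent.Lib.Helper18_ChevR4
  Cfsg.Agent.Lib.Helper18_ChevChunk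

def dummyRow : FRow := ⟨0, 0, 0, [], []⟩

/-- The row with index `r` of a list of rows. -/
def rowAt (rows : List FRow) (r : ℕ) : FRow := rows.getD r dummyRow

theorem rowAt_mkRows {D : ChevalleyDatum} (h : RowsOK D) (r : ℕ) (hr : r < D.nroots) :
    rowAt (mkRows D) r = specRow D r := by
  unfold rowAt
  rw [List.getD_eq_getElem?_getD, h.getElem? r hr]
  rfl

/-- The relation `n_p x_s(t) = x_{π s}(η_s t) n_p` checked for the row with index `r`. -/
def r4At (rank nroots : ℕ) (rows : List FRow) (N : NData) (r : ℕ) : Bool :=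
  match rows[r]? with
  | some R => (match rows[piAt (mkNPack N) R.r]? with
    | some R' => checkR4 rank nroots N (mkNPack N) R R'
    | none => false)
  | none => false

/-- The certificate for the `i`-th fundamental root. -/
structure NCert (D : ChevalleyDatum) (i : ℕ) (N : NData) : Prop where
  hi : i < D.rank
  idx : N.i = i
  simple_lt : D.simple i < D.nroots
  neg_lt : D.neg (D.simple i) < D.nroots
  car_eq : N.car = (rowAt (mkRows D) (D.simple i)).car
  small : NSmall D.nroots N
  rank_le : D.rank ≤ D.nroots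
  cn : ∀ k < 2 * D.nroots,
    cnF D.rank D.nroots (rowAt (mkRows D) (D.simple i)) (rowAt (mkRows D) (D.neg (D.simple i))) N k = true
  r4 : ∀ r < D.nroots, r4At D.rank D.nroots (mkRows D) N r = true
  pi_eq : N.pi = (List.range D.nroots).map (D.reflectRoot i)
  eta_pm : ∀ e ∈ N.eta, e = 1 ∨ e = -1

variable {D : ChevalleyDatum} {i : ℕ} {N : NData}

theorem NCert.pi_getD (c : NCert D i N) (s : ℕ) (hs : s < D.nroots) : N.pi.getD s 0 = D.reflectRoot i s := by
  rw [c.pi_eq, List.getD_eq_getElem?_getD, List.getElem?_map, List.getElem?_range hs]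
  rfl

theorem NCert.eta_getD (c : NCert D i N) (s : ℕ) (hs : s < D.nroots) :
    N.eta.getD s 0 = 1 ∨ N.eta.getD s 0 = -1 := by
  have hlen : s < N.eta.length := by rw [c.small.2.1]; exact hs
  rw [List.getD_eq_getElem?_getD, List.getElem?_eq_getElem hlen]
  exact c.eta_pm _ (List.getElem_mem hlen)

/-- `n_p` is the monomial matrix described by the certificate. -/
theorem NCert.nMat_eq (hrows : RowsOK D) (c : NCert D i N) {F : Type*} [Field F] :
    D.nMat F (D.simple i) 1 = nSpec D F N := by
  have h1 := rowAt_mkRows hrows _ c.simple_lt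
  have h2 := rowAt_mkRows hrows _ c.neg_lt
  have hcn := c.cn
  rw [h1, h2] at hcn
  exact nMat_eq_nSpec_of_cnF D (specRow D (D.simple i)) (specRow D (D.neg (D.simple i)))
    (hrows.valid _ c.simple_lt) (hrows.valid _ c.neg_lt) rfl N c.rank_le hcn

/-- The relation `n_p x_s(t) = x_{w_p s}(η_s t) n_p`, with `n_p` in monomial form. -/
theorem NCert.r4_spec (hrows : RowsOK D) (c : NCert D i N) {F : Type*} [Field F] (s : ℕ) (hs : s < D.nroots)
    (t : F) :
    nSpec D F N * D.x F s t = D.x F (D.reflectRoot i s) (((N.eta.getD s 0 : ℤ) : F) * t) * nSpec D F N := by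
  by_cases ht : t = 0
  · subst ht
    rw [mul_zero, x_zero, x_zero, mul_one, one_mul]
  have hR := c.r4 s hs
  unfold r4At at hR
  rw [hrows.getElem? s hs] at hR
  have hrr : (specRow D s).r = s := rfl
  simp only [hrr] at hR
  split at hR
  · rename_i R' hR'
    have hmem : R' ∈ mkRows D := List.mem_of_getElem? hR'
    rw [hrows.1, List.mem_map] at hmem
    obtain ⟨k, hk, rfl⟩ := hmem
    rw [List.mem_range] at hk
    have hv' := hrows.valid k hk
    have hv := hrows.valid s hs
    have key := r4_units D N c.small (specRow D s) (specRow D k) hv hv' hR (Units.mk0 t ht)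
    have hk' : k = D.reflectRoot i s := by
      have h := hR
      simp only [checkR4, Bool.and_eq_true, decide_eq_true_eq] at h
      have h1 : (specRow D k).r = piAt (mkNPack N) (specRow D s).r := h.1.1.1.1.1.1.1.1.1.1
      rw [piAt_eq D.nroots N c.small] at h1
      have : (specRow D k).r = k := rfl
      rw [this, hrr, c.pi_getD s hs] at h1
      exact h1
    rw [hrr] at key
    have hkr : (specRow D k).r = D.reflectRoot i s := by rw [← hk']; rfl
    rw [hkr] at key
    exact key
  · exact absurd hR (by simp)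

/-- The relation `n_p x_s(t) = x_{w_p s}(η_s t) n_p`. -/
theorem NCert.r4_nMat (hrows : RowsOK D) (c : NCert D i N) {F : Type*} [Field F] (s : ℕ) (hs : s < D.nroots)
    (t : F) :
    D.nMat F (D.simple i) 1 * D.x F s t =
      D.x F (D.reflectRoot i s) (((N.eta.getD s 0 : ℤ) : F) * t) * D.nMat F (D.simple i) 1 := by
  rw [c.nMat_eq hrows]
  exact c.r4_spec hrows s hs t

end Cfsg.Agent.Lib.Helper18_ChevSimple
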