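import Cfsg.Agent.Lib.Helper18_ChevSimple
import Cfsg.Agent.Lib.Helper18_ChevH

set_option autoImplicit false

/-!
Further certificates for the fundamental roots: additivity of `x_{±p}`, the diagonal form of `h_p(c)`, and
properties of the signs of `n_p`.
-/

namespace Cfsg.Agent.Lib.Helper18_ChevSimple2

open Cfsg Cfsg.Lie Cfsg.Agent.Lib.Helper18_ChevFast Cfsg.Agent.Lib.Helper18_ChevEngine
  Cfsg.Agent.Lib.Helper18_ChevR1 Cfsg.Agent.Lib.Helper18_ChevN Cfsg.Agent.Lib.Helper18_ChevR4
  Cfsg.Agent.Lib.Helper18_ChevSimple Cfsg.Agent.Lib.Helper18_ChevDiag Cfsg.Agent.Lib.Helper18_ChevH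
  Cfsg.Agent.Lib.Helper18_ChevChunk

/-- The second certificate for the `i`-th fundamental root. -/
structure HCert (D : ChevalleyDatum) (i : ℕ) (N : NData) : Prop where
  r1p : ∀ k < 2 * D.nroots, r1F D.rank D.nroots (rowAt (mkRows D) (D.simple i)) k = true
  r1n : ∀ k < 2 * D.nroots, r1F D.rank D.nroots (rowAt (mkRows D) (D.neg (D.simple i))) k = true
  ch : ∀ k < 2 * D.nroots, chF D.rank D.nroots (rowAt (mkRows D) (D.simple i))
    (rowAt (mkRows D) (D.neg (D.simple i))) (D.cartanSR.getD i #[]).toList k = true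
  invol : ∀ s < D.nroots, N.pi.getD (N.pi.getD s 0) 0 = s
  eta_p : N.eta.getD (D.simple i) 0 = -1
  eta_np : N.eta.getD (D.neg (D.simple i)) 0 = -1
  eta_refl : ∀ s < D.nroots, N.eta.getD s 0 * N.eta.getD (D.reflectRoot i s) 0 = (-1) ^ (D.cartan i s).natAbs
  eta_neg : ∀ s < D.nroots, N.eta.getD s 0 * N.eta.getD (D.neg s) 0 = 1

variable {D : ChevalleyDatum} {i : ℕ} {N : NData}

/-- Additivity of `x_p`. -/
theorem HCert.add_pos (hrows : RowsOK D) (c : NCert D i N) (h : HCert D i N) {F : Type*} [Field F] (a b : F) :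
    D.x F (D.simple i) a * D.x F (D.simple i) b = D.x F (D.simple i) (a + b) := by
  have h1 := h.r1p
  rw [rowAt_mkRows hrows _ c.simple_lt] at h1
  exact r1_of_r1F D (specRow D (D.simple i)) (hrows.valid _ c.simple_lt) c.rank_le h1 a b

/-- Additivity of `x_{-p}`. -/
theorem HCert.add_neg (hrows : RowsOK D) (c : NCert D i N) (h : HCert D i N) {F : Type*} [Field F] (a b : F) :
    D.x F (D.neg (D.simple i)) a * D.x F (D.neg (D.simple i)) b = D.x F (D.neg (D.simple i)) (a + b) := by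
  have h1 := h.r1n
  rw [rowAt_mkRows hrows _ c.neg_lt] at h1
  exact r1_of_r1F D (specRow D (D.neg (D.simple i))) (hrows.valid _ c.neg_lt) c.rank_le h1 a b

/-- `h_p(c)` is diagonal. -/
theorem HCert.hMat_eq (hrows : RowsOK D) (c : NCert D i N) (h : HCert D i N) {F : Type*} [Field F]
    (a : F) (ha : a ≠ 0) :
    D.hMat F (D.simple i) a = diagMat D (fun s => a ^ (D.cartan i s)) := by
  have h1 := h.ch
  rw [rowAt_mkRows hrows _ c.simple_lt, rowAt_mkRows hrows _ c.neg_lt] at h1
  have key := hMat_eq_diag_of_chF D (specRow D (D.simple i)) (specRow D (D.neg (D.simple i)))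
    (hrows.valid _ c.simple_lt) (hrows.valid _ c.neg_lt) rfl _ c.rank_le h1 a ha
  have e : (specRow D (D.simple i)).r = D.simple i := rfl
  rw [e] at key
  rw [key]
  congr 1
  funext s
  congr 1
  unfold ChevalleyDatum.cartan
  simp

end Cfsg.Agent.Lib.Helper18_ChevSimple2
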