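import Cfsg.Agent.Lib.Helper18_ChevOrder

set_option autoImplicit false

/-!
`U` is a Sylow `p`-subgroup of a Chevalley group over a finite field of characteristic `p`.
-/

namespace Cfsg.Agent.Lib.Helper18_ChevSylow

open Cfsg Cfsg.Lie Cfsg.Agent.Lib.Helper18_ChevFast Cfsg.Agent.Lib.Helper18_ChevEngine
  Cfsg.Agent.Lib.Helper18_ChevR1 Cfsg.Agent.Lib.Helper18_ChevN Cfsg.Agent.Lib.Helper18_ChevR4
  Cfsg.Agent.Lib.Helper18_ChevSimple Cfsg.Agent.Lib.Helper18_ChevSimple2 Cfsg.Agent.Lib.Helper18_ChevFacts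
  Cfsg.Agent.Lib.Helper18_ChevWeyl Cfsg.Agent.Lib.Helper18_ChevDiag Cfsg.Agent.Lib.Helper18_ChevCar
  Cfsg.Agent.Lib.Helper18_ChevTorus Cfsg.Agent.Lib.Helper18_ChevGL Cfsg.Agent.Lib.Helper18_ChevComm
  Cfsg.Agent.Lib.Helper18_ChevComm2 Cfsg.Agent.Lib.Helper18_MatTri Cfsg.Agent.Lib.Helper18_ChevTri
  Cfsg.Agent.Lib.Helper18_ChevBorel Cfsg.Agent.Lib.Helper18_ChevAdd Cfsg.Agent.Lib.Helper18_ChevUni
  Cfsg.Agent.Lib.Helper18_ChevBN Cfsg.Agent.Lib.Helper18_ChevMono Cfsg.Agent.Lib.Helper18_ChevBNPair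
  Cfsg.Agent.Lib.Helper18_ChevSimp Cfsg.Agent.Lib.Helper18_ChevJCerts Cfsg.Agent.Lib.Helper18_ChevLevi
  Cfsg.Agent.Lib.Helper18_ChevBruhat Cfsg.Agent.Lib.Helper18_ChevPar Cfsg.Agent.Lib.Helper18_ChevRootHom
  Cfsg.Agent.Lib.Helper18_ChevOrder

variable {D : ChevalleyDatum} {Ns : List NData} {F : Type*} [Field F]
variable {wl : List ℤ} {ws : List (List ℤ)} {sc : ℤ} {w : List ℤ} {d : ℕ}

/-- An element of `N` that, with its inverse, maps positive roots to positive roots lies in `H`. -/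
theorem mem_diagonal_of_pos (c : DCert D Ns) (tc : TCert D) (ac : ACert D wl ws sc) (gc : GCert D w d)
    (hR2 : R2All D F) (n : ↥(D.monomialSubgroup F))
    (hp : ∀ r, D.IsPosRoot r → D.IsPosRoot (piOf c tc n r))
    (hp' : ∀ r, D.IsPosRoot r → D.IsPosRoot (piOf c tc n⁻¹ r)) :
    (n : GL D.Idx F) ∈ D.diagonalSubgroup F := by
  have h1 : ∀ u ∈ D.posUnipotent F, (n : GL D.Idx F) * u * (n : GL D.Idx F)⁻¹ ∈ D.posUnipotent F :=
    conj_pos_of_actsAs c (piOf_actsAs c tc n) hp
  have h2 : ∀ u ∈ D.posUnipotent F, (n : GL D.Idx F)⁻¹ * u * (n : GL D.Idx F)⁻¹⁻¹ ∈ D.posUnipotent F := by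
    have := conj_pos_of_actsAs c (piOf_actsAs c tc n⁻¹) hp'
    simpa using this
  have hnorm : (n : GL D.Idx F) ∈ Subgroup.normalizer (D.posUnipotent F : Set (GL D.Idx F)) := by
    rw [Subgroup.mem_normalizer_iff]
    intro u
    constructor
    · exact h1 u
    · intro hu
      have := h2 _ hu
      have e : (n : GL D.Idx F)⁻¹ * ((n : GL D.Idx F) * u * (n : GL D.Idx F)⁻¹) * (n : GL D.Idx F)⁻¹⁻¹ = u := by
        group
      rwa [e] at this
  have hB : (n : GL D.Idx F) ∈ D.borelSubgroup F := by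
    rw [← normalizer_pos_inf_group c tc ac gc hR2]
    exact Subgroup.mem_inf.mpr ⟨hnorm, monomial_le_group c n.2⟩
  rw [← borel_inf_monomial c tc gc]
  exact Subgroup.mem_inf.mpr ⟨hB, n.2⟩

/-- The only element of the Weyl group that makes no positive root negative is the identity. -/
theorem eq_one_of_weylLen_eq_zero (c : DCert D Ns) (tc : TCert D) (ac : ACert D wl ws sc) (gc : GCert D w d)
    (hR2 : R2All D F) (σ : Equiv.Perm (Fin D.nroots)) (hσ : σ ∈ weylPerm D) (h0 : weylLen D σ = 0) : σ = 1 := by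
  rw [← rootHom_range (F := F) c tc ac] at hσ
  obtain ⟨n, rfl⟩ := hσ
  unfold weylLen at h0
  rw [Finset.card_eq_zero, Finset.filter_eq_empty_iff] at h0
  have hpos : ∀ r : Fin D.nroots, D.IsPosRoot (r : ℕ) → D.IsPosRoot ((rootHom c tc ac n r : Fin D.nroots) : ℕ) := by
    intro r hr
    rcases ac.posOrNeg _ (rootHom c tc ac n r).2 with h | h
    · exact h
    · exact absurd ⟨hr, h⟩ (h0 (Finset.mem_univ r))
  -- the positive roots are permuted
  set P : Finset (Fin D.nroots) := Finset.univ.filter fun r : Fin D.nroots => D.IsPosRoot (r : ℕ) with hP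
  have himg : P.image (rootHom c tc ac n) = P := by
    apply Finset.eq_of_subset_of_card_le
    · intro s hs
      rw [Finset.mem_image] at hs
      obtain ⟨r, hr, rfl⟩ := hs
      rw [hP, Finset.mem_filter] at hr ⊢
      exact ⟨Finset.mem_univ _, hpos r hr.2⟩
    · rw [Finset.card_image_of_injective _ (rootHom c tc ac n).injective]
  have hpos' : ∀ r : Fin D.nroots, D.IsPosRoot (r : ℕ) →
      D.IsPosRoot ((rootHom c tc ac n⁻¹ r : Fin D.nroots) : ℕ) := by
    intro r hr
    have hrP : r ∈ P := by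
      rw [hP, Finset.mem_filter]
      exact ⟨Finset.mem_univ _, hr⟩
    rw [← himg, Finset.mem_image] at hrP
    obtain ⟨a, ha, rfl⟩ := hrP
    rw [hP, Finset.mem_filter] at ha
    have : rootHom c tc ac n⁻¹ (rootHom c tc ac n a) = a := by
      rw [map_inv]
      exact Equiv.symm_apply_apply _ a
    rw [this]
    exact ha.2
  have hH := mem_diagonal_of_pos c tc ac gc hR2 n
    (fun r hr => hpos ⟨r, hr.1⟩ hr) (fun r hr => hpos' ⟨r, hr.1⟩ hr)
  have hker : n ∈ (rootHom (F := F) c tc ac).ker := by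
    rw [rootHom_ker c tc ac gc hR2, Subgroup.mem_subgroupOf]
    exact hH
  exact hker

theorem weylLen_one (ac : ACert D wl ws sc) : weylLen D (1 : Equiv.Perm (Fin D.nroots)) = 0 := by
  unfold weylLen
  rw [Finset.card_eq_zero, Finset.filter_eq_empty_iff]
  intro r _ h
  exact ac.not_pos_and_neg _ h.1 h.2

/-! ### The order of `H` is prime to the characteristic -/

theorem torusMat_pow (t : ℕ → F) (k : ℕ) : torusMat D t ^ k = torusMat D (fun i => t i ^ k) := by
  induction k with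
  | zero =>
    rw [pow_zero, ← torusMat_one]
    congr 1
    funext i
    rw [pow_zero]
  | succ k ih =>
    rw [pow_succ, ih, torusMat_mul]
    congr 1
    funext i
    rw [pow_succ]

theorem pow_card_sub_one_diagonal [Fintype F] (c : DCert D Ns) (tc : TCert D) (h : GL D.Idx F)
    (hh : h ∈ D.diagonalSubgroup F) : h ^ (Fintype.card F - 1) = 1 := by
  obtain ⟨t, ht, hk⟩ := exists_torus_of_mem c tc h hh
  apply Units.ext
  rw [Units.val_pow_eq_pow_val, hk, torusMat_pow, Units.val_one, ← torusMat_one]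
  congr 1
  funext i
  exact FiniteField.pow_card_sub_one_eq_one (t i) (ht i)

theorem not_dvd_card_diagonal [Fintype F] (p : ℕ) [hp : Fact p.Prime] [CharP F p] (c : DCert D Ns) (tc : TCert D) :
    ¬ p ∣ Nat.card (D.diagonalSubgroup F) := by
  intro hdvd
  obtain ⟨⟨h, hh⟩, hord⟩ := exists_prime_orderOf_dvd_card' p hdvd
  have h1 : (⟨h, hh⟩ : ↥(D.diagonalSubgroup F)) ^ (Fintype.card F - 1) = 1 := by
    apply Subtype.ext
    exact pow_card_sub_one_diagonal c tc h hh
  have h2 := orderOf_dvd_of_pow_eq_one h1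
  rw [hord] at h2
  obtain ⟨n, -, hcard⟩ := FiniteField.card F p
  have hn : 0 < (n : ℕ) := n.pos
  have h3 : p ∣ Fintype.card F := by
    rw [hcard]
    exact dvd_pow_self p (Nat.pos_iff_ne_zero.mp hn)
  have hpos : 0 < Fintype.card F := Fintype.card_pos
  have h4 : p ∣ Fintype.card F - (Fintype.card F - 1) := Nat.dvd_sub h3 h2
  have h5 : Fintype.card F - (Fintype.card F - 1) = 1 := by omega
  rw [h5] at h4
  exact hp.out.one_lt.ne' (Nat.dvd_one.mp h4)

/-! ### `U` is a Sylow subgroup -/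

theorem not_dvd_sum_weyl [Fintype F] (p : ℕ) [hp : Fact p.Prime] [CharP F p] (c : DCert D Ns) (tc : TCert D)
    (ac : ACert D wl ws sc) (gc : GCert D w d) (hR2 : R2All D F) :
    ¬ p ∣ ∑ᶠ σ : ↥(weylPerm D), Fintype.card F ^ weylLen D (σ : Equiv.Perm (Fin D.nroots)) := by
  classical
  haveI : Fintype ↥(weylPerm D) := Fintype.ofFinite _
  rw [finsum_eq_sum_of_fintype]
  obtain ⟨n, -, hcard⟩ := FiniteField.card F p
  have hpq : p ∣ Fintype.card F := by
    rw [hcard]
    exact dvd_pow_self p (Nat.pos_iff_ne_zero.mp n.pos)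
  rw [← Finset.add_sum_erase Finset.univ _ (Finset.mem_univ (1 : ↥(weylPerm D)))]
  have h1 : Fintype.card F ^ weylLen D ((1 : ↥(weylPerm D)) : Equiv.Perm (Fin D.nroots)) = 1 := by
    rw [Subgroup.coe_one, weylLen_one ac, pow_zero]
  rw [h1]
  have h2 : p ∣ ∑ σ ∈ Finset.univ.erase (1 : ↥(weylPerm D)),
      Fintype.card F ^ weylLen D (σ : Equiv.Perm (Fin D.nroots)) := by
    apply Finset.dvd_sum
    intro σ hσ
    rw [Finset.mem_erase] at hσ
    have hne : weylLen D (σ : Equiv.Perm (Fin D.nroots)) ≠ 0 := by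
      intro h0
      apply hσ.1
      apply Subtype.ext
      rw [Subgroup.coe_one]
      exact eq_one_of_weylLen_eq_zero (F := F) c tc ac gc hR2 _ σ.2 h0
    exact dvd_trans hpq (dvd_pow_self _ hne)
  intro h3
  have h4 : p ∣ 1 := (Nat.dvd_add_left h2).mp h3
  exact hp.out.one_lt.ne' (Nat.dvd_one.mp h4)

/-- `U` is a Sylow `p`-subgroup (statement S2326). -/
theorem exists_sylow [Fintype F] (p : ℕ) [hp : Fact p.Prime] [CharP F p] (c : DCert D Ns) (tc : TCert D)
    (ac : ACert D wl ws sc) (gc : GCert D w d) (hdesc : Descent D) (hR2 : R2All D F) :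
    ∃ P : Sylow p ↥(D.group F), (P : Subgroup ↥(D.group F)) = (D.posUnipotent F).subgroupOf (D.group F) := by
  have hUG := posUnipotent_le_group (F := F) c
  obtain ⟨n, -, hcard⟩ := FiniteField.card F p
  have hcU : Nat.card ↥((D.posUnipotent F).subgroupOf (D.group F)) = Fintype.card F ^ (D.nroots / 2) := by
    rw [Nat.card_congr (Subgroup.subgroupOfEquivOfLe hUG).toEquiv, card_posUnipotent c tc ac hR2]
  have hPG : IsPGroup p ↥((D.posUnipotent F).subgroupOf (D.group F)) := by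
    apply IsPGroup.of_card (n := (n : ℕ) * (D.nroots / 2))
    rw [hcU, hcard, pow_mul]
  have hidx : ¬ p ∣ ((D.posUnipotent F).subgroupOf (D.group F)).index := by
    have h1 := Subgroup.card_mul_index ((D.posUnipotent F).subgroupOf (D.group F))
    rw [hcU, card_group c tc ac gc hdesc hR2, mul_assoc] at h1
    have hq : 0 < Fintype.card F ^ (D.nroots / 2) := pow_pos Fintype.card_pos _
    have h2 := Nat.eq_of_mul_eq_mul_left hq h1
    rw [h2]
    intro h3
    rcases (Nat.Prime.dvd_mul hp.out).mp h3 with h4 | h4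
    · exact not_dvd_card_diagonal p c tc h4
    · exact not_dvd_sum_weyl p c tc ac gc hR2 h4
  exact ⟨hPG.toSylow hidx, rfl⟩

end Cfsg.Agent.Lib.Helper18_ChevSylow
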