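import Cfsg.Prelude.Def_ChevStructure
import Cfsg.Prelude.Def_LieTypes
import Cfsg.Prelude.Def_ChevB2

set_option autoImplicit false

namespace Cfsg.Agent.Lib.Helper18_ChevTables

open Cfsg Cfsg.Lie

/-- The seven tabulated data. -/
def allData : List ChevalleyDatum := [chevG2, chevB2, chevD4, chevF4, chevE6, chevE7, chevE8]

/-- Boolean check: every root index is positive or negative. -/
def posOrNegCheck (D : ChevalleyDatum) : Bool :=
  (List.range D.nroots).all fun r => decide (D.IsPosRoot r ∨ D.IsNegRoot r)

theorem posOrNeg_of_check (D : ChevalleyDatum) (h : posOrNegCheck D = true) :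
    ∀ r < D.nroots, D.IsPosRoot r ∨ D.IsNegRoot r := by
  intro r hr
  unfold posOrNegCheck at h
  rw [List.all_eq_true] at h
  have := h r (List.mem_range.mpr hr)
  exact of_decide_eq_true this

set_option maxRecDepth 100000 in
theorem posOrNegCheck_all : ∀ D ∈ allData, posOrNegCheck D = true := by decide +kernel

/-- Every root index of a tabulated datum is a positive root or a negative root. -/
theorem posOrNeg (D : ChevalleyDatum) (hD : D ∈ allData) :
    ∀ r < D.nroots, D.IsPosRoot r ∨ D.IsNegRoot r :=
  posOrNeg_of_check D (posOrNegCheck_all D hD)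

end Cfsg.Agent.Lib.Helper18_ChevTables
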