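import Cfsg.Agent.Lib.Helper18_ChevCar

set_option autoImplicit false

/-!
The elements `h_r(c)` for all roots `r`: they are the diagonal matrices `diag(1; c ^ A_{r,s})`.
-/

namespace Cfsg.Agent.Lib.Helper18_ChevTorus

open Cfsg Cfsg.Lie Cfsg.Agent.Lib.Helper18_ChevFast Cfsg.Agent.Lib.Helper18_ChevEngine
  Cfsg.Agent.Lib.Helper18_ChevR1 Cfsg.Agent.Lib.Helper18_ChevN Cfsg.Agent.Lib.Helper18_ChevR4
  Cfsg.Agent.Lib.Helper18_ChevSimple Cfsg.Agent.Lib.Helper18_ChevSimple2 Cfsg.Agent.Lib.Helper18_ChevFacts
  Cfsg.Agent.Lib.Helper18_ChevWeyl Cfsg.Agent.Lib.Helper18_ChevDiag Cfsg.Agent.Lib.Helper18_ChevCar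

/-- The Cartan integer `A_{r,s} = ⟨s, r^∨⟩` for arbitrary roots, from the coroot coefficients of `r`. -/
def cartanR (D : ChevalleyDatum) (r s : ℕ) : ℤ := ∑ j ∈ Finset.range D.rank, cor D r j * D.cartan j s

/-- The torus certificate of a datum. -/
structure TCert (D : ChevalleyDatum) : Prop where
  simple_cor : ∀ i < D.rank, ∀ j < D.rank, cor D (D.simple i) j = if j = i then 1 else 0
  simple_pos : ∀ i < D.rank, D.IsPosRoot (D.simple i)
  carAt : ∀ r < D.nroots, carCompatAt D.nroots (mkRows D) r = true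

variable {D : ChevalleyDatum} {Ns : List NData}

theorem DCert.neg_lt (c : DCert D Ns) (s : ℕ) (hs : s < D.nroots) : D.neg s < D.nroots := by
  have hr : 0 < D.rank := by
    have := (c.ncert 0)
    by_contra h0
    have h1 : D.rank = 0 := by omega
    -- no fundamental roots: then no root can be reached
    have hall := c.reach
    rw [List.all_eq_true] at hall
    have hR := hall _ (c.rows.mem s hs)
    unfold reachRow at hR
    rw [h1] at hR
    simp at hR
  exact (facts c.rows (c.ncert 0 hr) s hs).neg_lt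

theorem TCert.carCompat (t : TCert D) (c : DCert D Ns) : CarCompat D :=
  carCompat_of_check c.rows (fun s hs => DCert.neg_lt c s hs) t.carAt

theorem TCert.cartanR_simple (t : TCert D) (i : ℕ) (hi : i < D.rank) (s : ℕ) :
    cartanR D (D.simple i) s = D.cartan i s := by
  unfold cartanR
  rw [Finset.sum_eq_single i]
  · rw [t.simple_cor i hi i hi, if_pos rfl, one_mul]
  · intro j hj hji
    rw [Finset.mem_range] at hj
    rw [t.simple_cor i hi j hj, if_neg hji, zero_mul]
  · intro h
    exact absurd (Finset.mem_range.mpr hi) h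

theorem cartanR_reflect (c : DCert D Ns) (i : ℕ) (hi : i < D.rank) (r : ℕ) (hr : r < D.nroots) (s : ℕ)
    (hs : s < D.nroots) : cartanR D (D.reflectRoot i r) s = cartanR D r (D.reflectRoot i s) := by
  have fr := facts c.rows (c.ncert i hi) r hr
  have fs := facts c.rows (c.ncert i hi) _ (c.reflect_lt i hi s hs)
  have hcar : ∀ j < D.rank, D.cartan j (D.reflectRoot i s) =
      D.cartan j s - D.cartan j (D.simple i) * D.cartan i s := by
    intro j hj
    have := fs.car j hj
    rw [c.reflect_reflect i hi s hs] at this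
    exact this
  unfold cartanR
  have e1 : ∑ j ∈ Finset.range D.rank, cor D (D.reflectRoot i r) j * D.cartan j s =
      ∑ j ∈ Finset.range D.rank, cor D r j * D.cartan j s -
        (∑ k ∈ Finset.range D.rank, D.cartan k (D.simple i) * cor D r k) * D.cartan i s := by
    have : ∀ j ∈ Finset.range D.rank, cor D (D.reflectRoot i r) j * D.cartan j s =
        cor D r j * D.cartan j s - (if j = i then
          (∑ k ∈ Finset.range D.rank, D.cartan k (D.simple i) * cor D r k) * D.cartan i s else 0) := by
      intro j hj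
      rw [Finset.mem_range] at hj
      rw [fr.cor j hj]
      split_ifs with h
      · rw [h]; ring
      · ring
    rw [Finset.sum_congr rfl this, Finset.sum_sub_distrib, Finset.sum_ite_eq' (Finset.range D.rank) i,
      if_pos (Finset.mem_range.mpr hi)]
  have e2 : ∑ j ∈ Finset.range D.rank, cor D r j * D.cartan j (D.reflectRoot i s) =
      ∑ j ∈ Finset.range D.rank, cor D r j * D.cartan j s -
        (∑ k ∈ Finset.range D.rank, D.cartan k (D.simple i) * cor D r k) * D.cartan i s := by
    have : ∀ j ∈ Finset.range D.rank, cor D r j * D.cartan j (D.reflectRoot i s) =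
        cor D r j * D.cartan j s - (D.cartan j (D.simple i) * cor D r j) * D.cartan i s := by
      intro j hj
      rw [Finset.mem_range] at hj
      rw [hcar j hj]
      ring
    rw [Finset.sum_congr rfl this, Finset.sum_sub_distrib, Finset.sum_mul]
  rw [e1, e2]

section

variable {F : Type*} [Field F]

/-- Conjugating a diagonal matrix by the monomial matrix `nSpec`. -/
theorem nSpec_mul_diag (N : NData) (hinv : ∀ s < D.nroots, N.pi.getD (N.pi.getD s 0) 0 = s) (χ : ℕ → F) :
    nSpec D F N * diagMat D χ = diagMat D (fun s' => χ (N.pi.getD s' 0)) * nSpec D F N := by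
  ext row col
  unfold diagMat
  rw [Matrix.mul_diagonal, Matrix.diagonal_mul]
  rcases row with j' | s' <;> rcases col with j | s
  · simp only [Sum.elim_inl, mul_one, one_mul]
  · simp only [nSpec, Matrix.of_apply, Sum.elim_inl, Sum.elim_inr, zero_mul, mul_zero]
  · simp only [nSpec, Matrix.of_apply, Sum.elim_inl, Sum.elim_inr, zero_mul, mul_zero]
  · simp only [nSpec, Matrix.of_apply, Sum.elim_inr]
    split_ifs with h
    · rw [h, hinv s.val s.isLt, mul_comm]
    · rw [zero_mul, mul_zero]

theorem wordMat_append (w₁ w₂ : List (ℕ × F)) : D.wordMat F (w₁ ++ w₂) = D.wordMat F w₁ * D.wordMat F w₂ := by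
  unfold ChevalleyDatum.wordMat
  rw [List.map_append, List.prod_append]

theorem hMat_eq_nMat_mul (r : ℕ) (a : F) : D.hMat F r a = D.nMat F r a * D.nMat F r (-1) := by
  unfold ChevalleyDatum.hMat ChevalleyDatum.nMat ChevalleyDatum.hWord
  rw [wordMat_append]

theorem eta_inv {η : F} (hη : η * η = 1) : η⁻¹ = η := by
  have h0 : η ≠ 0 := by
    intro h; rw [h, mul_zero] at hη; exact zero_ne_one hη
  field_simp
  rw [← hη]; ring

/-- Transport of `n_r(c)`. -/
theorem nMat_conj {n n' : Matrix D.Idx D.Idx F} (hn : n * n' = 1) (hn' : n' * n = 1) {r r' : ℕ} {η : F}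
    (hη : η * η = 1) (h1 : ∀ t, n * D.x F r t = D.x F r' (η * t) * n)
    (h2 : ∀ t, n * D.x F (D.neg r) t = D.x F (D.neg r') (η * t) * n) (a : F) :
    D.nMat F r' a = n * D.nMat F r (η * a) * n' := by
  rw [nMat_eq_prod, nMat_eq_prod, conj_x hn hη h1 a, conj_x hn hη h2 (-a⁻¹)]
  have e : η * -a⁻¹ = -(η * a)⁻¹ := by
    rw [mul_inv, eta_inv hη]; ring
  rw [e]
  calc n * D.x F r (η * a) * n' * (n * D.x F (D.neg r) (-(η * a)⁻¹) * n' * (n * D.x F r (η * a) * n'))
      = n * D.x F r (η * a) * (n' * n) * D.x F (D.neg r) (-(η * a)⁻¹) * (n' * n) * D.x F r (η * a) * n' := by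
        simp only [mul_assoc]
    _ = _ := by rw [hn', mul_one, mul_one]; simp only [mul_assoc]

/-- `h_r(a)` is the diagonal matrix `diag(1; a ^ A_{r,s})`. -/
def HDiagAt (D : ChevalleyDatum) (F : Type*) [Field F] (r : ℕ) : Prop :=
  ∀ a : F, a ≠ 0 → D.hMat F r a = diagMat D (fun s => a ^ cartanR D r s)

theorem diagMat_congr {χ ψ : ℕ → F} (h : ∀ s < D.nroots, χ s = ψ s) : diagMat D χ = diagMat D ψ := by
  unfold diagMat
  congr 1
  funext idx
  rcases idx with j | s
  · rfl
  · exact h s.val s.isLt

theorem HDiagAt.step (c : DCert D Ns) (i : ℕ) (hi : i < D.rank) (r : ℕ) (hr : r < D.nroots)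
    (hP : HDiagAt D F r) : HDiagAt D F (D.reflectRoot i r) := by
  intro a ha
  have fr := facts c.rows (c.ncert i hi) r hr
  have hη := eta_cast_sq (F := F) (c.etaZ_pm i hi r hr)
  have hn := c.n_mul (F := F) i hi
  have hn' := c.mul_n (F := F) i hi
  have h1 := c.r4 (F := F) i hi r hr
  have h2 : ∀ t : F, D.nMat F (D.simple i) 1 * D.x F (D.neg r) t =
      D.x F (D.neg (D.reflectRoot i r)) (((etaZ Ns i r : ℤ) : F) * t) * D.nMat F (D.simple i) 1 := by
    intro t
    have := c.r4 (F := F) i hi (D.neg r) fr.neg_lt t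
    rw [fr.refl_neg] at this
    have e : etaZ Ns i (D.neg r) = etaZ Ns i r := fr.eta_neg
    rw [e] at this
    exact this
  -- the product of the two `n`'s at the root `r`
  have hadd := c.addAt (F := F) r hr
  have hadd' := c.addAt (F := F) (D.neg r) fr.neg_lt
  have key : D.nMat F r (((etaZ Ns i r : ℤ) : F) * a) * D.nMat F r (((etaZ Ns i r : ℤ) : F) * (-1)) =
      diagMat D (fun s => a ^ cartanR D r s) := by
    rcases c.etaZ_pm i hi r hr with h | h
    · rw [h]
      simp only [Int.cast_one, one_mul]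
      rw [← hMat_eq_nMat_mul, hP a ha]
    · rw [h]
      simp only [Int.cast_neg, Int.cast_one, neg_mul, one_mul, neg_neg]
      have hXY : D.nMat F r 1 * D.nMat F r (-1) = 1 := nMat_mul_neg hadd hadd' 1
      have hYX : D.nMat F r (-1) * D.nMat F r 1 = 1 := nMat_neg_mul hadd hadd' 1
      have hm1 : (-1 : F) ≠ 0 := by simp
      have hYY : D.nMat F r (-1) * D.nMat F r (-1) = diagMat D (fun s => (-1 : F) ^ cartanR D r s) := by
        rw [← hMat_eq_nMat_mul, hP (-1) hm1]
      have hdd : diagMat D (fun s => (-1 : F) ^ cartanR D r s) * diagMat D (fun s => (-1 : F) ^ cartanR D r s) = 1 := by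
        rw [diagMat_mul, ← diagMat_one]
        apply diagMat_congr
        intro s _
        rw [← mul_zpow]
        simp
      have hXX : D.nMat F r 1 * D.nMat F r 1 = diagMat D (fun s => (-1 : F) ^ cartanR D r s) := by
        calc D.nMat F r 1 * D.nMat F r 1
            = D.nMat F r 1 * D.nMat F r 1 * (diagMat D (fun s => (-1 : F) ^ cartanR D r s) *
                diagMat D (fun s => (-1 : F) ^ cartanR D r s)) := by rw [hdd, mul_one]
          _ = D.nMat F r 1 * (D.nMat F r 1 * D.nMat F r (-1)) * D.nMat F r (-1) *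
                diagMat D (fun s => (-1 : F) ^ cartanR D r s) := by
              rw [← hYY]; simp only [mul_assoc]
          _ = _ := by rw [hXY, mul_one, hXY, one_mul]
      have hna : D.nMat F r (-a) = D.hMat F r (-a) * D.nMat F r 1 := by
        rw [hMat_eq_nMat_mul, mul_assoc, hYX, mul_one]
      rw [hna, mul_assoc, hXX, hP (-a) (neg_ne_zero.mpr ha), diagMat_mul]
      apply diagMat_congr
      intro s _
      rw [← mul_zpow]
      simp
  rw [hMat_eq_nMat_mul, nMat_conj hn hn' hη h1 h2 a, nMat_conj hn hn' hη h1 h2 (-1)]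
  calc D.nMat F (D.simple i) 1 * D.nMat F r (((etaZ Ns i r : ℤ) : F) * a) * D.nMat F (D.simple i) (-1) *
        (D.nMat F (D.simple i) 1 * D.nMat F r (((etaZ Ns i r : ℤ) : F) * -1) * D.nMat F (D.simple i) (-1))
      = D.nMat F (D.simple i) 1 * (D.nMat F r (((etaZ Ns i r : ℤ) : F) * a) *
          (D.nMat F (D.simple i) (-1) * D.nMat F (D.simple i) 1) *
            D.nMat F r (((etaZ Ns i r : ℤ) : F) * -1)) * D.nMat F (D.simple i) (-1) := by
        simp only [mul_assoc]
    _ = D.nMat F (D.simple i) 1 * diagMat D (fun s => a ^ cartanR D r s) * D.nMat F (D.simple i) (-1) := by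
        rw [hn', mul_one, key]
    _ = _ := by
        rw [(c.ncert i hi).nMat_eq c.rows, nSpec_mul_diag _ (c.hcert i hi).invol,
          ← (c.ncert i hi).nMat_eq c.rows, mul_assoc, hn, mul_one]
        apply diagMat_congr
        intro s hs
        rw [(c.ncert i hi).pi_getD s hs, cartanR_reflect c i hi r hr s hs]

/-- `h_r(a)` is diagonal for every root `r`. -/
theorem hMat_all (c : DCert D Ns) (t : TCert D) (r : ℕ) (hr : r < D.nroots) (a : F) (ha : a ≠ 0) :
    D.hMat F r a = diagMat D (fun s => a ^ cartanR D r s) := by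
  refine c.root_induction (fun r => HDiagAt D F r) ?_ (fun i hi s hs h => h.step c i hi s hs) r hr a ha
  intro i hi a ha
  rw [(c.hcert i hi).hMat_eq c.rows (c.ncert i hi) a ha]
  apply diagMat_congr
  intro s _
  rw [t.cartanR_simple i hi s]

end

end Cfsg.Agent.Lib.Helper18_ChevTorus
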