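import Mathlib

set_option autoImplicit false
set_option linter.unusedSectionVars false

/-!
Matrices that are triangular with respect to an integer grading of the index set: `Raises b k A` says that the entry
`A i j` vanishes unless `b j + k ≤ b i`.  The invertible matrices `g` with `g - 1` raising the grading by at least
`k ≥ 1` form a nilpotent group.
-/

namespace Cfsg.Agent.Lib.Helper18_MatTri

open Matrix

variable {n : Type*} [Fintype n] [DecidableEq n] {R : Type*} [CommRing R]

/-- The entry `A i j` vanishes unless `b j + k ≤ b i`. -/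
def Raises (b : n → ℤ) (k : ℤ) (A : Matrix n n R) : Prop := ∀ i j, b i < b j + k → A i j = 0

variable {b : n → ℤ}

theorem Raises.mono {k k' : ℤ} {A : Matrix n n R} (h : Raises b k A) (hk : k' ≤ k) : Raises b k' A :=
  fun i j hij => h i j (by omega)

theorem raises_zero (k : ℤ) : Raises b k (0 : Matrix n n R) := fun _ _ _ => rfl

theorem raises_one {k : ℤ} (hk : k ≤ 0) : Raises b k (1 : Matrix n n R) := by
  intro i j hij
  rw [Matrix.one_apply, if_neg]
  rintro rfl
  omega

theorem Raises.add {k : ℤ} {A B : Matrix n n R} (hA : Raises b k A) (hB : Raises b k B) : Raises b k (A + B) := by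
  intro i j hij
  rw [Matrix.add_apply, hA i j hij, hB i j hij, add_zero]

theorem Raises.neg {k : ℤ} {A : Matrix n n R} (hA : Raises b k A) : Raises b k (-A) := by
  intro i j hij
  rw [Matrix.neg_apply, hA i j hij, neg_zero]

theorem Raises.sub {k : ℤ} {A B : Matrix n n R} (hA : Raises b k A) (hB : Raises b k B) : Raises b k (A - B) := by
  rw [sub_eq_add_neg]
  exact hA.add hB.neg

theorem Raises.mul {j k : ℤ} {A B : Matrix n n R} (hA : Raises b j A) (hB : Raises b k B) :
    Raises b (j + k) (A * B) := by
  intro i l hil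
  rw [Matrix.mul_apply]
  apply Finset.sum_eq_zero
  intro m _
  by_cases h1 : b i < b m + j
  · rw [hA i m h1, zero_mul]
  · rw [hB m l (by omega), mul_zero]

theorem Raises.pow {k : ℤ} {A : Matrix n n R} (hA : Raises b k A) (m : ℕ) : Raises b (m * k) (A ^ m) := by
  induction m with
  | zero => simpa using raises_one (b := b) (R := R) (le_refl 0)
  | succ m ih =>
    rw [pow_succ]
    have := ih.mul hA
    have e : ((m + 1 : ℕ) : ℤ) * k = m * k + k := by push_cast; ring
    rw [e]
    exact this

theorem Raises.eq_zero {k : ℤ} {A : Matrix n n R} (hA : Raises b k A) (hk : ∀ i j, b i < b j + k) : A = 0 := by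
  ext i j
  exact hA i j (hk i j)

theorem raises_zero_iff_blockTriangular (A : Matrix n n R) :
    Raises b 0 A ↔ A.BlockTriangular (fun i => - b i) := by
  constructor
  · intro h i j hij
    exact h i j (by simp only at hij; omega)
  · intro h i j hij
    exact h (by simp only; omega)

/-- The inverse of an invertible matrix that does not lower the grading does not lower the grading. -/
theorem Raises.inv_unit (g : GL n R) (hg : Raises b 0 (g : Matrix n n R)) :
    Raises b 0 ((g⁻¹ : GL n R) : Matrix n n R) := by
  rw [raises_zero_iff_blockTriangular] at hg ⊢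
  have : Invertible (g : Matrix n n R) := g.invertible
  have := Matrix.blockTriangular_inv_of_blockTriangular hg
  rwa [Matrix.coe_units_inv]

/-- The group of invertible matrices `g` with `g - 1` raising the grading by at least `k`. -/
def triSubgroup (b : n → ℤ) (k : ℤ) (hk : 0 ≤ k) : Subgroup (GL n R) where
  carrier := {g | Raises b k ((g : Matrix n n R) - 1)}
  one_mem' := by
    show Raises b k (((1 : GL n R) : Matrix n n R) - 1)
    rw [Units.val_one, sub_self]
    exact raises_zero k
  mul_mem' := by
    intro g h hg hh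
    show Raises b k (((g * h : GL n R) : Matrix n n R) - 1)
    have e : ((g * h : GL n R) : Matrix n n R) - 1 =
        ((g : Matrix n n R) - 1) * ((h : Matrix n n R) - 1) + ((g : Matrix n n R) - 1) +
          ((h : Matrix n n R) - 1) := by
      rw [Units.val_mul]; noncomm_ring
    rw [e]
    exact (((Raises.mul hg hh).mono (by omega)).add hg).add hh
  inv_mem' := by
    intro g hg
    show Raises b k (((g⁻¹ : GL n R) : Matrix n n R) - 1)
    have hg0 : Raises b 0 (g : Matrix n n R) := by
      have : (g : Matrix n n R) = ((g : Matrix n n R) - 1) + 1 := by abel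
      rw [this]
      exact (hg.mono hk).add (raises_one (le_refl 0))
    have hinv := Raises.inv_unit g hg0
    have e : ((g⁻¹ : GL n R) : Matrix n n R) - 1 = -(((g⁻¹ : GL n R) : Matrix n n R) * ((g : Matrix n n R) - 1)) := by
      rw [mul_sub, mul_one, ← Units.val_mul, inv_mul_cancel, Units.val_one]
      abel
    rw [e]
    have := (hinv.mul hg).neg
    rwa [zero_add] at this

theorem mem_triSubgroup {k : ℤ} {hk : 0 ≤ k} {g : GL n R} :
    g ∈ triSubgroup (R := R) b k hk ↔ Raises b k ((g : Matrix n n R) - 1) := Iff.rfl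

theorem triSubgroup_mono {k k' : ℤ} (hk : 0 ≤ k) (hk' : 0 ≤ k') (h : k' ≤ k) :
    triSubgroup (R := R) b k hk ≤ triSubgroup b k' hk' :=
  fun _ hg => Raises.mono hg h

theorem raises_zero_of_mem {k : ℤ} {hk : 0 ≤ k} {g : GL n R} (hg : g ∈ triSubgroup (R := R) b k hk) :
    Raises b 0 (g : Matrix n n R) := by
  have : (g : Matrix n n R) = ((g : Matrix n n R) - 1) + 1 := by abel
  rw [this]
  exact (Raises.mono hg hk).add (raises_one (le_refl 0))

/-- Commutators add the levels. -/
theorem commutator_mem {j k : ℤ} (hj : 0 ≤ j) (hk : 0 ≤ k) {g h : GL n R}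
    (hg : g ∈ triSubgroup (R := R) b j hj) (hh : h ∈ triSubgroup (R := R) b k hk) :
    g * h * g⁻¹ * h⁻¹ ∈ triSubgroup (R := R) b (j + k) (by omega) := by
  show Raises b (j + k) (((g * h * g⁻¹ * h⁻¹ : GL n R) : Matrix n n R) - 1)
  have e : ((g * h * g⁻¹ * h⁻¹ : GL n R) : Matrix n n R) - 1 =
      ((((g : Matrix n n R) - 1) * ((h : Matrix n n R) - 1) - ((h : Matrix n n R) - 1) * ((g : Matrix n n R) - 1)) *
        ((g⁻¹ : GL n R) : Matrix n n R)) * ((h⁻¹ : GL n R) : Matrix n n R) := by
    have e1 : ((g : Matrix n n R) - 1) * ((h : Matrix n n R) - 1) - ((h : Matrix n n R) - 1) * ((g : Matrix n n R) - 1) =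
        ((g * h : GL n R) : Matrix n n R) - ((h * g : GL n R) : Matrix n n R) := by
      rw [Units.val_mul, Units.val_mul]; noncomm_ring
    have e2 : h * g * g⁻¹ * h⁻¹ = 1 := by group
    rw [e1, sub_mul, sub_mul, ← Units.val_mul, ← Units.val_mul, ← Units.val_mul, ← Units.val_mul, e2,
      Units.val_one]
  rw [e]
  have h1 := (Raises.mul hg hh).sub ((Raises.mul hh hg).mono (by omega : j + k ≤ k + j))
  have h2 := Raises.inv_unit g (raises_zero_of_mem hg)
  have h3 := Raises.inv_unit h (raises_zero_of_mem hh)
  have := (h1.mul h2).mul h3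
  simpa using this

/-- For large `k` the group is trivial. -/
theorem triSubgroup_eq_bot {k : ℤ} (hk : 0 ≤ k) (hbig : ∀ i j : n, b i < b j + k) :
    triSubgroup (R := R) b k hk = ⊥ := by
  rw [eq_bot_iff]
  intro g hg
  rw [Subgroup.mem_bot]
  apply Units.ext
  have := Raises.eq_zero hg hbig
  rw [Units.val_one]
  exact sub_eq_zero.mp this

/-- A bound for the grading: all differences are below `B`. -/
theorem exists_bound (b : n → ℤ) : ∃ B : ℕ, ∀ i j : n, b i < b j + B := by
  classical
  by_cases hn : Nonempty n
  · obtain ⟨M, hM⟩ := Finset.exists_le (Finset.univ.image fun i : n => (b i).natAbs)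
    refine ⟨2 * M + 1, fun i j => ?_⟩
    have hi := hM _ (Finset.mem_image_of_mem _ (Finset.mem_univ i))
    have hj := hM _ (Finset.mem_image_of_mem _ (Finset.mem_univ j))
    push_cast
    omega
  · exact ⟨0, fun i => absurd ⟨i⟩ hn⟩

/-- The group of matrices raising the grading by at least `k ≥ 1` is nilpotent. -/
theorem isNilpotent_triSubgroup {k : ℤ} (hk : 1 ≤ k) :
    Group.IsNilpotent (triSubgroup (R := R) b k (by omega)) := by
  rw [Subgroup.nilpotent_iff_finite_descending_central_series]
  obtain ⟨B, hB⟩ := exists_bound b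
  refine ⟨B, fun m => (triSubgroup (R := R) b ((m + 1) * k) (by positivity)).subgroupOf
    (triSubgroup (R := R) b k (by omega)), ⟨?_, ?_⟩, ?_⟩
  · rw [Subgroup.subgroupOf_eq_top]
    simp
  · intro x m hx g
    rw [Subgroup.mem_subgroupOf] at hx ⊢
    have := commutator_mem (by positivity) (by omega) hx g.2
    have e : ((m : ℤ) + 1) * k + k = ((m + 1 : ℕ) + 1 : ℤ) * k := by push_cast; ring
    have h2 : triSubgroup (R := R) b (((m : ℤ) + 1) * k + k) (by positivity) =
        triSubgroup (R := R) b ((((m + 1 : ℕ) : ℤ) + 1) * k) (by positivity) := by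
      congr 1
    rw [← h2]
    exact this
  · rw [Subgroup.subgroupOf_eq_bot]
    have : triSubgroup (R := R) b (((B : ℤ) + 1) * k) (by positivity) = ⊥ := by
      apply triSubgroup_eq_bot
      intro i j
      have := hB i j
      nlinarith
    rw [this]
    exact disjoint_bot_left

/-- `(g - 1) ^ N = 0` when `N * k` exceeds all differences of the grading. -/
theorem sub_one_pow_eq_zero {k : ℤ} {hk : 0 ≤ k} {g : GL n R} (hg : g ∈ triSubgroup (R := R) b k hk) (N : ℕ)
    (hN : ∀ i j : n, b i < b j + N * k) : ((g : Matrix n n R) - 1) ^ N = 0 :=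
  (Raises.pow hg N).eq_zero hN

end Cfsg.Agent.Lib.Helper18_MatTri
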