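import Cfsg.Agent.Lib.Helper18_ChevGL
import Cfsg.Agent.Lib.Helper18_MatTri

set_option autoImplicit false

/-!
Triangularity of the root elements with respect to a height function on the roots.
-/

namespace Cfsg.Agent.Lib.Helper18_ChevTri

open Cfsg Cfsg.Lie Cfsg.Agent.Lib.Helper18_ChevFast Cfsg.Agent.Lib.Helper18_ChevEngine
  Cfsg.Agent.Lib.Helper18_ChevR1 Cfsg.Agent.Lib.Helper18_ChevN Cfsg.Agent.Lib.Helper18_ChevR4
  Cfsg.Agent.Lib.Helper18_ChevSimple Cfsg.Agent.Lib.Helper18_ChevSimple2 Cfsg.Agent.Lib.Helper18_ChevFacts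
  Cfsg.Agent.Lib.Helper18_ChevWeyl Cfsg.Agent.Lib.Helper18_ChevDiag Cfsg.Agent.Lib.Helper18_ChevCar
  Cfsg.Agent.Lib.Helper18_ChevTorus Cfsg.Agent.Lib.Helper18_ChevGL Cfsg.Agent.Lib.Helper18_MatTri

/-- An integer function on the roots that is additive along the chains. -/
structure IsGrading (D : ChevalleyDatum) (g : ℕ → ℤ) : Prop where
  neg : ∀ s < D.nroots, g (D.negIdx.getD s 0) = - g s
  chain : ∀ r s u, r < D.nroots → s < D.nroots → u < D.nroots → ∀ km ∈ D.chainCoeff r s u,
    g u = g s + (km.1 : ℤ) * g r

/-- The grading of the coordinates: `0` on the `h_i`, `g s` on `e_s`. -/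
def grIdx (D : ChevalleyDatum) (g : ℕ → ℤ) : D.Idx → ℤ
  | Sum.inl _ => 0
  | Sum.inr s => g s.val

variable {D : ChevalleyDatum}

theorem IsGrading.neg' {g : ℕ → ℤ} (h : IsGrading D g) : IsGrading D (fun s => - g s) := by
  constructor
  · intro s hs
    rw [h.neg s hs]
  · intro r s u hr hs hu km hkm
    rw [h.chain r s u hr hs hu km hkm]
    ring

section

variable {F : Type*} [Field F]

/-- `x_r(t) - 1` raises the grading by at least `d` when `1 ≤ d ≤ g r`. -/
theorem x_sub_one_raises {g : ℕ → ℤ} (hg : IsGrading D g) (r : ℕ) (hr : r < D.nroots) (d : ℤ) (hd : 1 ≤ d)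
    (hdr : d ≤ g r) (t : F) : Raises (grIdx D g) d (D.x F r t - 1) := by
  unfold ChevalleyDatum.x
  rw [dif_pos hr]
  intro row col hlt
  rw [Matrix.sub_apply]
  rcases col with i | s
  · rcases row with i' | u'
    · rw [xMat_inl_inl, Matrix.one_apply]
      simp only [Sum.inl.injEq, Fin.ext_iff, sub_self]
    · rw [xMat_inr_inl, Matrix.one_apply, if_neg Sum.inr_ne_inl, sub_zero, if_neg]
      intro h
      have h' : u'.val = r := h
      simp only [grIdx] at hlt
      rw [h'] at hlt
      omega
  · by_cases hsr : s = ⟨r, hr⟩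
    · subst hsr
      rcases row with i' | u'
      · rw [xMat_inl_inr_self, Matrix.one_apply, if_neg Sum.inl_ne_inr, sub_zero]
      · rw [xMat_inr_inr_self, Matrix.one_apply]
        simp only [Sum.inr.injEq, Fin.ext_iff, sub_self]
    · by_cases hsn : s.val = D.negIdx.getD r 0
      · have hgs : g s.val = - g r := by rw [hsn, hg.neg r hr]
        rcases row with i' | u'
        · simp only [grIdx] at hlt
          omega
        · rw [xMat_inr_inr_neg D ⟨r, hr⟩ s _ u' hsr hsn, Matrix.one_apply]
          simp only [Sum.inr.injEq, Fin.ext_iff]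
          by_cases h1 : u'.val = s.val
          · rw [if_pos h1, if_pos h1, sub_self]
          · rw [if_neg h1, if_neg h1, sub_zero, if_neg]
            intro h2
            have h2' : u'.val = r := h2
            simp only [grIdx] at hlt
            rw [h2', hgs] at hlt
            omega
      · rcases row with i' | u'
        · rw [xMat_inl_inr_gen D ⟨r, hr⟩ s _ i' hsr hsn, Matrix.one_apply, if_neg Sum.inl_ne_inr, sub_zero]
        · rw [xMat_inr_inr_gen D ⟨r, hr⟩ s _ u' hsr hsn, Matrix.one_apply]
          simp only [Sum.inr.injEq, Fin.ext_iff]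
          rw [add_sub_cancel_left]
          have hnil : D.chainCoeff r s.val u'.val = [] := by
            rw [List.eq_nil_iff_forall_not_mem]
            intro km hkm
            have h1 := hg.chain r s.val u'.val hr s.isLt u'.isLt km hkm
            have h2 := chainCoeff_pos D _ _ _ km hkm
            simp only [grIdx] at hlt
            have h3 : (1 : ℤ) ≤ (km.1 : ℤ) := by exact_mod_cast h2
            have h4 : g r ≤ (km.1 : ℤ) * g r := by nlinarith
            omega
          rw [hnil]
          simp

end

/-! ### The height function of a datum -/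

/-- The grading with weights `w`: `s ↦ Σ_j w_j A_{p_j, s}`. -/
def grRoot (D : ChevalleyDatum) (w : List ℤ) (s : ℕ) : ℤ :=
  ∑ j ∈ Finset.range D.rank, w.getD j 0 * D.cartan j s

/-- List version of `grRoot`, for computations. -/
def grL (D : ChevalleyDatum) (w : List ℤ) (s : ℕ) : ℤ :=
  ((List.range D.rank).map fun j => w.getD j 0 * D.cartan j s).sum

theorem sum_range_eq_list (f : ℕ → ℤ) : ∀ n : ℕ, ∑ j ∈ Finset.range n, f j = ((List.range n).map f).sum
  | 0 => by simp
  | n + 1 => by
    rw [Finset.sum_range_succ, sum_range_eq_list f n, List.range_succ, List.map_append, List.sum_append]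
    simp

theorem grL_eq (w : List ℤ) (s : ℕ) : grL D w s = grRoot D w s := by
  unfold grL grRoot
  rw [sum_range_eq_list]

theorem isGrading_of_carCompat (h : CarCompat D) (w : List ℤ) : IsGrading D (grRoot D w) := by
  constructor
  · intro s hs
    unfold grRoot
    rw [← Finset.sum_neg_distrib]
    apply Finset.sum_congr rfl
    intro j hj
    rw [Finset.mem_range] at hj
    have := h.neg s hs j hj
    unfold ChevalleyDatum.neg at this
    rw [this]
    ring
  · intro r s u hr hs hu km hkm
    unfold grRoot
    rw [Finset.mul_sum, ← Finset.sum_add_distrib]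
    apply Finset.sum_congr rfl
    intro j hj
    rw [Finset.mem_range] at hj
    rw [h.chain r s u hr hs hu km hkm j hj]
    ring

/-- The checks of the height certificate at the root `r`. -/
def gAt (D : ChevalleyDatum) (w : List ℤ) (d : ℕ) (r : ℕ) : Bool :=
  decide (D.IsPosRoot r → (d : ℤ) ≤ grL D w r) && decide (D.IsNegRoot r → grL D w r ≤ -(d : ℤ)) &&
    decide (2 * (grL D w r).natAbs < d * (D.rank + D.nroots))

/-- The height certificate of a datum: weights `w` and a scale `d`. -/
structure GCert (D : ChevalleyDatum) (w : List ℤ) (d : ℕ) : Prop where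
  d_pos : 0 < d
  all : ∀ r < D.nroots, gAt D w d r = true

theorem GCert.pos {D : ChevalleyDatum} {w : List ℤ} {d : ℕ} (gc : GCert D w d) (r : ℕ) (hr : r < D.nroots) :
    D.IsPosRoot r → (d : ℤ) ≤ grL D w r := by
  have := gc.all r hr
  simp only [gAt, Bool.and_eq_true, decide_eq_true_eq] at this
  exact this.1.1

theorem GCert.neg {D : ChevalleyDatum} {w : List ℤ} {d : ℕ} (gc : GCert D w d) (r : ℕ) (hr : r < D.nroots) :
    D.IsNegRoot r → grL D w r ≤ -(d : ℤ) := by
  have := gc.all r hr
  simp only [gAt, Bool.and_eq_true, decide_eq_true_eq] at this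
  exact this.1.2

theorem GCert.bound {D : ChevalleyDatum} {w : List ℤ} {d : ℕ} (gc : GCert D w d) (r : ℕ) (hr : r < D.nroots) :
    2 * (grL D w r).natAbs < d * (D.rank + D.nroots) := by
  have := gc.all r hr
  simp only [gAt, Bool.and_eq_true, decide_eq_true_eq] at this
  exact this.2

section

variable {F : Type*} [Field F] {Ns : List NData} {w : List ℤ} {d : ℕ}

/-- The grading of the coordinates used for `U`. -/
def gradU (D : ChevalleyDatum) (w : List ℤ) : D.Idx → ℤ := grIdx D (grRoot D w)

/-- The grading of the coordinates used for `V`. -/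
def gradV (D : ChevalleyDatum) (w : List ℤ) : D.Idx → ℤ := grIdx D (fun s => - grRoot D w s)

theorem d_nonneg (d : ℕ) : (0 : ℤ) ≤ (d : ℤ) := Int.natCast_nonneg d

/-- `U` consists of matrices `g` with `g - 1` raising the height by at least `d`. -/
theorem posUnipotent_le_tri (c : DCert D Ns) (tc : TCert D) (gc : GCert D w d) :
    D.posUnipotent F ≤ triSubgroup (R := F) (gradU D w) d (d_nonneg d) := by
  unfold ChevalleyDatum.posUnipotent
  rw [Subgroup.closure_le]
  rintro g ⟨r, t, hr, hg⟩
  show Raises _ _ _
  rw [hg]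
  have h1 := gc.pos r hr.1 hr
  rw [grL_eq] at h1
  have hd : (1 : ℤ) ≤ d := by exact_mod_cast gc.d_pos
  exact x_sub_one_raises (isGrading_of_carCompat (tc.carCompat c) w) r hr.1 d hd h1 t

theorem negUnipotent_le_tri (c : DCert D Ns) (tc : TCert D) (gc : GCert D w d) :
    D.negUnipotent F ≤ triSubgroup (R := F) (gradV D w) d (d_nonneg d) := by
  unfold ChevalleyDatum.negUnipotent
  rw [Subgroup.closure_le]
  rintro g ⟨r, t, hr, hg⟩
  show Raises _ _ _
  rw [hg]
  have h1 := gc.neg r hr.1 hr
  rw [grL_eq] at h1
  have hd : (1 : ℤ) ≤ d := by exact_mod_cast gc.d_pos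
  exact x_sub_one_raises (isGrading_of_carCompat (tc.carCompat c) w).neg' r hr.1 d hd (by omega) t

theorem gradU_bound (gc : GCert D w d) (i j : D.Idx) :
    gradU D w i < gradU D w j + ((D.rank + D.nroots : ℕ) : ℤ) * d := by
  have hb : ∀ s : Fin D.nroots, 2 * (grRoot D w s.val).natAbs < d * (D.rank + D.nroots) := by
    intro s
    have := gc.bound s.val s.isLt
    rwa [grL_eq] at this
  have hd := gc.d_pos
  have hpos : (0 : ℤ) < ((D.rank + D.nroots : ℕ) : ℤ) * d := by
    have h0 : 0 < D.rank + D.nroots := by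
      rcases i with i | s
      · have := i.isLt; omega
      · have := s.isLt; omega
    exact_mod_cast Nat.mul_pos h0 hd
  rcases i with i | s <;> rcases j with j | s'
  · simp only [gradU, grIdx]; omega
  · have := hb s'
    simp only [gradU, grIdx]
    zify at this
    have e : ((D.rank + D.nroots : ℕ) : ℤ) * d = d * ((D.rank : ℤ) + D.nroots) := by push_cast; ring
    rw [e]
    have := abs_nonneg (grRoot D w s'.val)
    have h3 := neg_abs_le (grRoot D w s'.val)
    omega
  · have := hb s
    simp only [gradU, grIdx]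
    zify at this
    have e : ((D.rank + D.nroots : ℕ) : ℤ) * d = d * ((D.rank : ℤ) + D.nroots) := by push_cast; ring
    rw [e]
    have h3 := le_abs_self (grRoot D w s.val)
    omega
  · have h1 := hb s
    have h2 := hb s'
    simp only [gradU, grIdx]
    zify at h1 h2
    have e : ((D.rank + D.nroots : ℕ) : ℤ) * d = d * ((D.rank : ℤ) + D.nroots) := by push_cast; ring
    rw [e]
    have h3 := le_abs_self (grRoot D w s.val)
    have h4 := neg_abs_le (grRoot D w s'.val)
    omega

/-- Elements of `U` are unipotent. -/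
theorem posUnipotent_sub_one_pow (c : DCert D Ns) (tc : TCert D) (gc : GCert D w d) (g : GL D.Idx F)
    (hg : g ∈ D.posUnipotent F) : ((g : Matrix D.Idx D.Idx F) - 1) ^ (D.rank + D.nroots) = 0 :=
  sub_one_pow_eq_zero (posUnipotent_le_tri c tc gc hg) (D.rank + D.nroots) (gradU_bound gc)

/-- `U` is nilpotent. -/
theorem posUnipotent_isNilpotent (c : DCert D Ns) (tc : TCert D) (gc : GCert D w d) :
    Group.IsNilpotent (D.posUnipotent F) := by
  have hd : (1 : ℤ) ≤ d := by exact_mod_cast gc.d_pos
  have hnil := isNilpotent_triSubgroup (R := F) (b := gradU D w) hd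
  have hle := posUnipotent_le_tri (F := F) c tc gc
  exact (Group.isNilpotent_congr (Subgroup.subgroupOfEquivOfLe hle)).mp inferInstance

end

end Cfsg.Agent.Lib.Helper18_ChevTri
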