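import Cfsg.Agent.Lib.Helper18_ChevFacts

set_option autoImplicit false

/-!
The certificate of a whole datum, induction over the roots along reflections in fundamental roots, and the transport
of relations by the elements `n_p`.
-/

namespace Cfsg.Agent.Lib.Helper18_ChevWeyl

open Cfsg Cfsg.Lie Cfsg.Agent.Lib.Helper18_ChevFast Cfsg.Agent.Lib.Helper18_ChevEngine
  Cfsg.Agent.Lib.Helper18_ChevR1 Cfsg.Agent.Lib.Helper18_ChevN Cfsg.Agent.Lib.Helper18_ChevR4
  Cfsg.Agent.Lib.Helper18_ChevSimple Cfsg.Agent.Lib.Helper18_ChevSimple2 Cfsg.Agent.Lib.Helper18_ChevFacts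

def dummyN : NData := ⟨0, [], [], []⟩

/-- A level function on rows: twice the absolute value of the height of the coroot, plus one for negative roots. -/
def lvlOf (R : FRow) : ℕ := 2 * R.cor.sum.natAbs + (if R.cor.sum < 0 then 1 else 0)

/-- The root of the row is fundamental or some fundamental reflection lowers its level. -/
def reachRow (rank : ℕ) (rows : List FRow) (Ns : List NData) (simples : List ℕ) (R : FRow) : Bool :=
  simples.contains R.r || (List.range rank).any fun i =>
    decide (lvlOf (rowAt rows ((Ns.getD i dummyN).pi.getD R.r 0)) < lvlOf R)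

/-- The certificate of a datum. -/
structure DCert (D : ChevalleyDatum) (Ns : List NData) : Prop where
  rows : RowsOK D
  ncert : ∀ i < D.rank, NCert D i (Ns.getD i dummyN)
  hcert : ∀ i < D.rank, HCert D i (Ns.getD i dummyN)
  reach : (mkRows D).all (reachRow D.rank (mkRows D) Ns ((List.range D.rank).map D.simple)) = true

variable {D : ChevalleyDatum} {Ns : List NData}

theorem DCert.reflect_lt (c : DCert D Ns) (i : ℕ) (hi : i < D.rank) (s : ℕ) (hs : s < D.nroots) :
    D.reflectRoot i s < D.nroots :=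
  (facts c.rows (c.ncert i hi) s hs).refl_lt

theorem DCert.reflect_reflect (c : DCert D Ns) (i : ℕ) (hi : i < D.rank) (s : ℕ) (hs : s < D.nroots) :
    D.reflectRoot i (D.reflectRoot i s) = s := by
  have h := (c.hcert i hi).invol s hs
  rw [(c.ncert i hi).pi_getD s hs, (c.ncert i hi).pi_getD _ (c.reflect_lt i hi s hs)] at h
  exact h

/-- Induction over the roots: a property of the fundamental roots that is preserved by the fundamental reflections
holds for all roots. -/
theorem DCert.root_induction (c : DCert D Ns) (P : ℕ → Prop) (h0 : ∀ i < D.rank, P (D.simple i))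
    (hstep : ∀ i < D.rank, ∀ s < D.nroots, P s → P (D.reflectRoot i s)) : ∀ r < D.nroots, P r := by
  have key : ∀ n : ℕ, ∀ r < D.nroots, lvlOf (specRow D r) = n → P r := by
    intro n
    induction n using Nat.strong_induction_on with
    | _ n ih =>
      intro r hr hn
      have hall := c.reach
      rw [List.all_eq_true] at hall
      have hR := hall _ (c.rows.mem r hr)
      unfold reachRow at hR
      rw [Bool.or_eq_true] at hR
      have hrr : (specRow D r).r = r := rfl
      rw [hrr] at hR
      rcases hR with hR | hR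
      · rw [List.contains_iff_mem, List.mem_map] at hR
        obtain ⟨i, hi, rfl⟩ := hR
        exact h0 i (List.mem_range.mp hi)
      · rw [List.any_eq_true] at hR
        obtain ⟨i, hi, hlt⟩ := hR
        rw [List.mem_range] at hi
        rw [decide_eq_true_eq, (c.ncert i hi).pi_getD r hr,
          rowAt_mkRows c.rows _ (c.reflect_lt i hi r hr), hn] at hlt
        have := ih _ hlt (D.reflectRoot i r) (c.reflect_lt i hi r hr) rfl
        have h2 := hstep i hi _ (c.reflect_lt i hi r hr) this
        rwa [c.reflect_reflect i hi r hr] at h2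
  intro r hr
  exact key _ r hr rfl

/-! ### Additivity and inverses -/

section

variable {F : Type*} [Field F]

/-- Additivity of `x_r`. -/
def AddAt (D : ChevalleyDatum) (F : Type*) [Field F] (r : ℕ) : Prop :=
  ∀ a b : F, D.x F r a * D.x F r b = D.x F r (a + b)

theorem AddAt.mul_neg {r : ℕ} (h : AddAt D F r) (t : F) : D.x F r t * D.x F r (-t) = 1 := by
  rw [h, add_neg_cancel, x_zero]

theorem AddAt.neg_mul {r : ℕ} (h : AddAt D F r) (t : F) : D.x F r (-t) * D.x F r t = 1 := by
  rw [h, neg_add_cancel, x_zero]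

theorem nMat_eq_prod (r : ℕ) (t : F) :
    D.nMat F r t = D.x F r t * (D.x F (D.neg r) (-t⁻¹) * D.x F r t) := by
  unfold ChevalleyDatum.nMat ChevalleyDatum.wordMat ChevalleyDatum.nWord
  simp [mul_assoc]

theorem nMat_mul_neg {r : ℕ} (h : AddAt D F r) (h' : AddAt D F (D.neg r)) (t : F) :
    D.nMat F r t * D.nMat F r (-t) = 1 := by
  rw [nMat_eq_prod, nMat_eq_prod]
  have e : -(-t)⁻¹ = -(-t⁻¹) := by rw [inv_neg]
  rw [e]
  calc D.x F r t * (D.x F (D.neg r) (-t⁻¹) * D.x F r t) *
        (D.x F r (-t) * (D.x F (D.neg r) (-(-t⁻¹)) * D.x F r (-t)))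
      = D.x F r t * (D.x F (D.neg r) (-t⁻¹) * (D.x F r t * D.x F r (-t)) *
          D.x F (D.neg r) (-(-t⁻¹))) * D.x F r (-t) := by simp only [mul_assoc]
    _ = 1 := by rw [h.mul_neg, mul_one, h'.mul_neg, mul_one, h.mul_neg]

theorem nMat_neg_mul {r : ℕ} (h : AddAt D F r) (h' : AddAt D F (D.neg r)) (t : F) :
    D.nMat F r (-t) * D.nMat F r t = 1 := by
  have := nMat_mul_neg h h' (-t)
  rwa [neg_neg] at this

/-- Transport of a conjugation relation: `x_{s'}(a) = n x_s(η a) n'`. -/
theorem conj_x {n n' : Matrix D.Idx D.Idx F} (hn : n * n' = 1) {s s' : ℕ} {η : F} (hη : η * η = 1)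
    (hrel : ∀ t, n * D.x F s t = D.x F s' (η * t) * n) (a : F) :
    D.x F s' a = n * D.x F s (η * a) * n' := by
  rw [hrel, ← mul_assoc, hη, one_mul, mul_assoc, hn, mul_one]

theorem AddAt.transport {n n' : Matrix D.Idx D.Idx F} (hn : n * n' = 1) (hn' : n' * n = 1) {s s' : ℕ} {η : F}
    (hη : η * η = 1) (hrel : ∀ t, n * D.x F s t = D.x F s' (η * t) * n) (hs : AddAt D F s) :
    AddAt D F s' := by
  intro a b
  rw [conj_x hn hη hrel a, conj_x hn hη hrel b, conj_x hn hη hrel (a + b)]
  calc n * D.x F s (η * a) * n' * (n * D.x F s (η * b) * n')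
      = n * D.x F s (η * a) * (n' * n) * D.x F s (η * b) * n' := by simp only [mul_assoc]
    _ = n * (D.x F s (η * a) * D.x F s (η * b)) * n' := by rw [hn', mul_one]; simp only [mul_assoc]
    _ = _ := by rw [hs, mul_add]

theorem eta_cast_sq {e : ℤ} (h : e = 1 ∨ e = -1) : ((e : ℤ) : F) * ((e : ℤ) : F) = 1 := by
  rcases h with h | h <;> rw [h] <;> simp

/-- Additivity at the fundamental roots and their negatives. -/
theorem DCert.addAt_simple (c : DCert D Ns) (i : ℕ) (hi : i < D.rank) : AddAt D F (D.simple i) :=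
  fun a b => (c.hcert i hi).add_pos c.rows (c.ncert i hi) a b

theorem DCert.addAt_neg_simple (c : DCert D Ns) (i : ℕ) (hi : i < D.rank) : AddAt D F (D.neg (D.simple i)) :=
  fun a b => (c.hcert i hi).add_neg c.rows (c.ncert i hi) a b

theorem DCert.n_mul (c : DCert D Ns) (i : ℕ) (hi : i < D.rank) :
    D.nMat F (D.simple i) 1 * D.nMat F (D.simple i) (-1) = 1 :=
  nMat_mul_neg (c.addAt_simple i hi) (c.addAt_neg_simple i hi) 1

theorem DCert.mul_n (c : DCert D Ns) (i : ℕ) (hi : i < D.rank) :
    D.nMat F (D.simple i) (-1) * D.nMat F (D.simple i) 1 = 1 :=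
  nMat_neg_mul (c.addAt_simple i hi) (c.addAt_neg_simple i hi) 1

/-- The sign `η_{i,s}` as an integer. -/
def etaZ (Ns : List NData) (i s : ℕ) : ℤ := (Ns.getD i dummyN).eta.getD s 0

theorem DCert.etaZ_pm (c : DCert D Ns) (i : ℕ) (hi : i < D.rank) (s : ℕ) (hs : s < D.nroots) :
    etaZ Ns i s = 1 ∨ etaZ Ns i s = -1 :=
  (c.ncert i hi).eta_getD s hs

/-- The relation `n_i x_s(t) = x_{w_i s}(η t) n_i`. -/
theorem DCert.r4 (c : DCert D Ns) (i : ℕ) (hi : i < D.rank) (s : ℕ) (hs : s < D.nroots) (t : F) :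
    D.nMat F (D.simple i) 1 * D.x F s t =
      D.x F (D.reflectRoot i s) (((etaZ Ns i s : ℤ) : F) * t) * D.nMat F (D.simple i) 1 :=
  (c.ncert i hi).r4_nMat c.rows s hs t

/-- Additivity of all root elements. -/
theorem DCert.addAt (c : DCert D Ns) (r : ℕ) (hr : r < D.nroots) : AddAt D F r := by
  refine c.root_induction (fun r => AddAt D F r) (fun i hi => c.addAt_simple i hi) ?_ r hr
  intro i hi s hs h
  exact h.transport (c.n_mul i hi) (c.mul_n i hi) (eta_cast_sq (c.etaZ_pm i hi s hs)) (c.r4 i hi s hs)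

end

end Cfsg.Agent.Lib.Helper18_ChevWeyl
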