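import Cfsg.Agent.Lib.Helper18_ChevAutT

set_option autoImplicit false

/-!
The orders of the images of the diagonal and of the field automorphisms in the group of outer automorphisms of a
Chevalley group over a finite field: the diagonal automorphisms `d_a` and the field automorphisms `φ_σ` are
parametrized injectively, their product is a group of order `(q - 1) ^ l * |Aut F|`, and it meets the inner
automorphisms in the conjugations by the elements of the diagonal subgroup `H`.
-/

namespace Cfsg.Agent.Lib.Helper18_D4OutGen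

open Cfsg Cfsg.Lie Cfsg.Agent.Lib.Helper18_ChevFast Cfsg.Agent.Lib.Helper18_ChevEngine
  Cfsg.Agent.Lib.Helper18_ChevR1 Cfsg.Agent.Lib.Helper18_ChevN Cfsg.Agent.Lib.Helper18_ChevR4
  Cfsg.Agent.Lib.Helper18_ChevSimple Cfsg.Agent.Lib.Helper18_ChevSimple2 Cfsg.Agent.Lib.Helper18_ChevFacts
  Cfsg.Agent.Lib.Helper18_ChevWeyl Cfsg.Agent.Lib.Helper18_ChevDiag Cfsg.Agent.Lib.Helper18_ChevCar
  Cfsg.Agent.Lib.Helper18_ChevTorus Cfsg.Agent.Lib.Helper18_ChevGL Cfsg.Agent.Lib.Helper18_ChevComm
  Cfsg.Agent.Lib.Helper18_ChevComm2 Cfsg.Agent.Lib.Helper18_MatTri Cfsg.Agent.Lib.Helper18_ChevTri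
  Cfsg.Agent.Lib.Helper18_ChevBorel Cfsg.Agent.Lib.Helper18_ChevAdd Cfsg.Agent.Lib.Helper18_ChevUni
  Cfsg.Agent.Lib.Helper18_ChevBN Cfsg.Agent.Lib.Helper18_ChevMono Cfsg.Agent.Lib.Helper18_ChevBNPair
  Cfsg.Agent.Lib.Helper18_ChevSimp Cfsg.Agent.Lib.Helper18_ChevJCerts Cfsg.Agent.Lib.Helper18_ChevLevi
  Cfsg.Agent.Lib.Helper18_ChevBruhat Cfsg.Agent.Lib.Helper18_ChevPar Cfsg.Agent.Lib.Helper18_ChevRootHom
  Cfsg.Agent.Lib.Helper18_ChevOrder Cfsg.Agent.Lib.Helper18_ChevSylow Cfsg.Agent.Lib.Helper18_ChevCent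
  Cfsg.Agent.Lib.Helper18_ChevFrob Cfsg.Agent.Lib.Helper18_ChevAutA Cfsg.Agent.Lib.Helper18_ChevAutB
  Cfsg.Agent.Lib.Helper18_ChevAutC Cfsg.Agent.Lib.Helper18_ChevAutD Cfsg.Agent.Lib.Helper18_ChevGen
  Cfsg.Agent.Lib.Helper18_ChevField Cfsg.Agent.Lib.Helper18_ChevAutE Cfsg.Agent.Lib.Helper18_ChevAutF
  Cfsg.Agent.Lib.Helper18_ChevAutG Cfsg.Agent.Lib.Helper18_ChevAutH Cfsg.Agent.Lib.Helper18_TorusKer
  Cfsg.Agent.Lib.Helper18_ChevAutI Cfsg.Agent.Lib.Helper18_ChevAutJ Cfsg.Agent.Lib.Helper18_ChevAutK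
  Cfsg.Agent.Lib.Helper18_ChevAutM Cfsg.Agent.Lib.Helper18_ChevHhat Cfsg.Agent.Lib.Helper18_ChevAutP
  Cfsg.Agent.Lib.Helper18_ChevAutQ Cfsg.Agent.Lib.Helper18_OutStruct Cfsg.Agent.Lib.Helper18_ChevAutS
  Cfsg.Agent.Lib.Helper18_ChevAutT

/-! ### Abstract counting -/

section abstract

variable {A : Type*} [Group A]

/-- The order of the product of a subgroup and a subgroup normalizing it and meeting it trivially. -/
theorem card_sup_of_normalizes (H K : Subgroup A) (hnorm : ∀ k ∈ K, ∀ h ∈ H, k * h * k⁻¹ ∈ H)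
    (hinf : H ⊓ K = ⊥) : Nat.card ↥(H ⊔ K) = Nat.card ↥H * Nat.card ↥K := by
  let T : Subgroup A :=
    { carrier := {x | ∃ h ∈ H, ∃ k ∈ K, x = h * k}
      one_mem' := ⟨1, H.one_mem, 1, K.one_mem, by rw [mul_one]⟩
      mul_mem' := by
        rintro _ _ ⟨h, hh, k, hk, rfl⟩ ⟨h', hh', k', hk', rfl⟩
        refine ⟨h * (k * h' * k⁻¹), H.mul_mem hh (hnorm k hk h' hh'), k * k', K.mul_mem hk hk', ?_⟩
        group
      inv_mem' := by
        rintro _ ⟨h, hh, k, hk, rfl⟩
        refine ⟨k⁻¹ * h⁻¹ * k⁻¹⁻¹, hnorm k⁻¹ (K.inv_mem hk) h⁻¹ (H.inv_mem hh), k⁻¹, K.inv_mem hk, ?_⟩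
        group }
  have hT : H ⊔ K = T := by
    apply le_antisymm
    · refine sup_le ?_ ?_
      · intro h hh
        exact ⟨h, hh, 1, K.one_mem, by rw [mul_one]⟩
      · intro k hk
        exact ⟨1, H.one_mem, k, hk, by rw [one_mul]⟩
    · rintro _ ⟨h, hh, k, hk, rfl⟩
      exact Subgroup.mul_mem _ (Subgroup.mem_sup_left hh) (Subgroup.mem_sup_right hk)
  rw [hT, ← Nat.card_prod]
  symm
  apply Nat.card_congr
  refine Equiv.ofBijective (fun p : ↥H × ↥K => (⟨(p.1 : A) * (p.2 : A), ⟨p.1, p.1.2, p.2, p.2.2, rfl⟩⟩ : ↥T)) ⟨?_, ?_⟩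
  · rintro ⟨h, k⟩ ⟨h', k'⟩ e
    have e' : (h : A) * k = h' * k' := congrArg Subtype.val e
    have h1 : (h' : A)⁻¹ * h = k' * (k : A)⁻¹ := by
      rw [inv_mul_eq_iff_eq_mul, ← mul_assoc, ← e', mul_inv_cancel_right]
    have h2 : (h' : A)⁻¹ * h ∈ H ⊓ K := by
      refine ⟨H.mul_mem (H.inv_mem h'.2) h.2, ?_⟩
      rw [h1]
      exact K.mul_mem k'.2 (K.inv_mem k.2)
    rw [hinf, Subgroup.mem_bot] at h2
    have h3 : (h : A) = h' := by
      rw [inv_mul_eq_one] at h2
      exact h2.symm
    have h4 : (k : A) = k' := by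
      rw [h3] at e'
      exact mul_left_cancel e'
    exact Prod.ext (Subtype.ext h3) (Subtype.ext h4)
  · rintro ⟨_, h, hh, k, hk, rfl⟩
    exact ⟨(⟨h, hh⟩, ⟨k, hk⟩), rfl⟩

/-- The order of the image in a quotient, times the order of the intersection with the kernel. -/
theorem card_map_mk_mul_card_inf (I : Subgroup A) [I.Normal] (N : Subgroup A) :
    Nat.card ↥(N.map (QuotientGroup.mk' I)) * Nat.card ↥(N ⊓ I) = Nat.card ↥N := by
  let f : ↥N →* A ⧸ I := (QuotientGroup.mk' I).comp N.subtype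
  have h1 : Nat.card ↥f.range = Nat.card ↥(N.map (QuotientGroup.mk' I)) := by
    have : f.range = N.map (QuotientGroup.mk' I) := by
      rw [MonoidHom.range_comp, Subgroup.range_subtype]
    rw [this]
  have h2 : Nat.card ↥f.ker = Nat.card ↥(N ⊓ I) := by
    have : f.ker = (N ⊓ I).subgroupOf N := by
      ext x
      rw [MonoidHom.mem_ker, Subgroup.mem_subgroupOf]
      show QuotientGroup.mk' I (x : A) = 1 ↔ _
      rw [QuotientGroup.mk'_apply, QuotientGroup.eq_one_iff, Subgroup.mem_inf]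
      exact ⟨fun h => ⟨x.2, h⟩, fun h => h.2⟩
    rw [this]
    exact Nat.card_congr (Subgroup.subgroupOfEquivOfLe inf_le_left).toEquiv
  rw [← h1, ← h2, ← Subgroup.index_ker, mul_comm]
  exact Subgroup.card_mul_index f.ker

end abstract

variable {D : ChevalleyDatum} {Ns : List NData} {F : Type*} [Field F]
variable {wl : List ℤ} {ws : List (List ℤ)} {sc : ℤ} {w : List ℤ} {d : ℕ} {w0 : List ℕ}

/-! ### The parametrizations are injective -/

theorem diagHom_injective (c : DCert D Ns) (tc : TCert D) (ac : ACert D wl ws sc) (hdiv : DivCert D ws sc) :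
    Function.Injective (diagHom (F := F) c tc ac hdiv) := by
  intro a b hab
  funext i
  have h1 := congrArg (fun θ : MulAut ↥(D.group F) => θ (xG c (D.simple i) 1)) hab
  simp only [diagHom_apply] at h1
  rw [diagAut_xG_simple c tc ac hdiv a i i.isLt, diagAut_xG_simple c tc ac hdiv b i i.isLt] at h1
  have h2 := xG_inj c tc ac (ac.simple i i.isLt).1 h1
  rw [mul_one, mul_one, extT_lt a i i.isLt, extT_lt b i i.isLt] at h2
  exact Units.ext h2

theorem fieldAutHom_injective (c : DCert D Ns) (tc : TCert D) (ac : ACert D wl ws sc) (h0 : 0 < D.rank) :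
    Function.Injective (fieldAutHom (F := F) c) := by
  intro σ τ hστ
  apply RingEquiv.ext
  intro t
  have h1 := congrArg (fun θ : MulAut ↥(D.group F) => θ (xG c (D.simple 0) t)) hστ
  have h2 : fieldAutOf c σ (xG c (D.simple 0) t) = fieldAutOf c τ (xG c (D.simple 0) t) := h1
  rw [fieldAutOf_xG, fieldAutOf_xG] at h2
  exact xG_inj c tc ac (ac.simple 0 h0).1 h2

/-- A diagonal automorphism that is a field automorphism is trivial. -/
theorem diag_inf_field (c : DCert D Ns) (tc : TCert D) (ac : ACert D wl ws sc) (hdiv : DivCert D ws sc) :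
    (diagHom (F := F) c tc ac hdiv).range ⊓ (fieldAutHom (F := F) c).range = ⊥ := by
  rw [eq_bot_iff]
  rintro θ ⟨⟨a, rfl⟩, ⟨σ, hσ⟩⟩
  rw [Subgroup.mem_bot]
  have ha : a = 1 := by
    funext i
    have h1 := congrArg (fun θ : MulAut ↥(D.group F) => θ (xG c (D.simple i) 1)) hσ
    have h2 : fieldAutOf c σ (xG c (D.simple i) 1) = diagAut c tc ac hdiv a (xG c (D.simple i) 1) := h1
    rw [fieldAutOf_xG, diagAut_xG_simple c tc ac hdiv a i i.isLt] at h2
    have h3 := xG_inj c tc ac (ac.simple i i.isLt).1 h2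
    rw [map_one, mul_one, extT_lt a i i.isLt] at h3
    exact Units.ext h3.symm
  rw [ha, map_one]


/-! ### The group of the products of diagonal and field automorphisms -/

/-- The order of the group of the automorphisms of a finite field with `p ^ f` elements. -/
theorem card_ringAut_eq [Fintype F] {p f : ℕ} [Fact p.Prime] (hF : Fintype.card F = p ^ f) :
    Nat.card (RingAut F) = f := by
  have : CharP F p := charP_of_card_eq_prime_pow hF
  let _ : Algebra (ZMod p) F := ZMod.algebra F p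
  have hfin : Module.finrank (ZMod p) F = f := by
    have h1 : Fintype.card F = p ^ Module.finrank (ZMod p) F := by
      rw [Module.card_eq_pow_finrank (K := ZMod p) (V := F), ZMod.card]
    exact Nat.pow_right_injective (Fact.out : p.Prime).one_lt (h1.symm.trans hF)
  let e1 : RingAut F ≃ (F ≃ₐ[ZMod p] F) :=
    { toFun := fun σ => AlgEquiv.ofRingEquiv (f := σ) (fun x =>
        RingHom.congr_fun (Subsingleton.elim ((σ : F →+* F).comp (algebraMap (ZMod p) F))
          (algebraMap (ZMod p) F)) x)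
      invFun := fun τ => τ.toRingEquiv
      left_inv := fun σ => by ext; rfl
      right_inv := fun τ => by ext; rfl }
  rw [Nat.card_congr e1, IsGalois.card_aut_eq_finrank, hfin]

theorem card_diag_range [Fintype F] (c : DCert D Ns) (tc : TCert D) (ac : ACert D wl ws sc)
    (hdiv : DivCert D ws sc) :
    Nat.card ↥(diagHom (F := F) c tc ac hdiv).range = (Fintype.card F - 1) ^ D.rank := by
  classical
  rw [← Nat.card_congr (MonoidHom.ofInjective (diagHom_injective (F := F) c tc ac hdiv)).toEquiv,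
    Nat.card_eq_fintype_card, Fintype.card_pi, Finset.prod_const, Fintype.card_units, Finset.card_univ,
    Fintype.card_fin]

theorem card_field_range (c : DCert D Ns) (tc : TCert D) (ac : ACert D wl ws sc) (h0 : 0 < D.rank) :
    Nat.card ↥(fieldAutHom (F := F) c).range = Nat.card (RingAut F) :=
  (Nat.card_congr (MonoidHom.ofInjective (fieldAutHom_injective (F := F) c tc ac h0)).toEquiv).symm

/-- The order of the group of the products of diagonal and field automorphisms. -/
theorem card_diag_sup_field [Fintype F] (c : DCert D Ns) (tc : TCert D) (ac : ACert D wl ws sc)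
    (hdiv : DivCert D ws sc) (hone : FixOne c F) (h0 : 0 < D.rank) :
    Nat.card ↥((diagHom (F := F) c tc ac hdiv).range ⊔ (fieldAutHom (F := F) c).range) =
      (Fintype.card F - 1) ^ D.rank * Nat.card (RingAut F) := by
  rw [card_sup_of_normalizes _ _ ?_ (diag_inf_field c tc ac hdiv), card_diag_range, card_field_range c tc ac h0]
  rintro _ ⟨σ, rfl⟩ _ ⟨a, rfl⟩
  rw [diagHom_apply]
  exact field_conj_diag c tc ac hdiv hone σ a

/-- The products of diagonal and field automorphisms preserve `U` and `V`. -/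
theorem preserves_of_mem_sup (c : DCert D Ns) (tc : TCert D) (ac : ACert D wl ws sc) (hdiv : DivCert D ws sc)
    (θ : MulAut ↥(D.group F))
    (hθ : θ ∈ (diagHom (F := F) c tc ac hdiv).range ⊔ (fieldAutHom (F := F) c).range) :
    Preserves θ (D.posUnipotent F) ∧ Preserves θ (D.negUnipotent F) := by
  let S : Subgroup (MulAut ↥(D.group F)) :=
    { carrier := {θ | Preserves θ (D.posUnipotent F) ∧ Preserves θ (D.negUnipotent F)}
      mul_mem' := fun ha hb => ⟨ha.1.mul hb.1, ha.2.mul hb.2⟩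
      one_mem' := ⟨fun _ => Iff.rfl, fun _ => Iff.rfl⟩
      inv_mem' := fun ha => ⟨ha.1.inv, ha.2.inv⟩ }
  have hS : (diagHom (F := F) c tc ac hdiv).range ⊔ (fieldAutHom (F := F) c).range ≤ S := by
    refine sup_le ?_ ?_
    · rintro _ ⟨a, rfl⟩
      rw [diagHom_apply]
      exact ⟨conjAut_preserves_pos c _ _, conjAut_preserves_neg c _ _⟩
    · rintro _ ⟨σ, rfl⟩
      exact ⟨fieldAutOf_preserves_closure c σ D.IsPosRoot, fieldAutOf_preserves_closure c σ D.IsNegRoot⟩
  exact hS hθ

/-- The conjugations by the elements of `H`. -/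
def innDiag (D : ChevalleyDatum) (F : Type*) [Field F] : Subgroup (MulAut ↥(D.group F)) :=
  ((D.diagonalSubgroup F).subgroupOf (D.group F)).map (MulAut.conj : ↥(D.group F) →* MulAut ↥(D.group F))

/-- The conjugation by an element of `H` is a diagonal automorphism. -/
theorem innDiag_le_diag (c : DCert D Ns) (tc : TCert D) (ac : ACert D wl ws sc) (hdiv : DivCert D ws sc)
    (hcons : ChainCons D) (hone : FixOne c F) : innDiag D F ≤ (diagHom (F := F) c tc ac hdiv).range := by
  rintro _ ⟨x, hx, rfl⟩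
  have hx' : ((x : ↥(D.group F)) : GL D.Idx F) ∈ D.diagonalSubgroup F := hx
  obtain ⟨τ, hτ, hk⟩ := exists_torus_of_mem c tc _ hx'
  have hχ := isChar_torus c tc τ hτ
  have e : ((x : ↥(D.group F)) : GL D.Idx F) = diagGL (torusChar D τ) hχ := Units.ext hk
  rw [← isDiagonalAut_iff c tc ac hdiv hcons hone]
  have e2 : (MulAut.conj x : MulAut ↥(D.group F)) =
      conjAut c (diagGL (torusChar D τ) hχ) (actsAs_diagGL c _ hχ) := by
    apply MulEquiv.ext
    intro y
    apply Subtype.ext
    rw [conjAut_coe, ← e]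
    rfl
  rw [e2]
  exact isDiagonalAut_conjAut c ac _ hχ

/-- An inner automorphism that is a product of diagonal and field automorphisms is the conjugation by an element
of `H`. -/
theorem sup_inf_inn (c : DCert D Ns) (tc : TCert D) (ac : ACert D wl ws sc) (gc : GCert D w d)
    (hR2 : R2All D F) (hw : W0Cert D w0) (hdiv : DivCert D ws sc) (hcons : ChainCons D) (hone : FixOne c F) :
    ((diagHom (F := F) c tc ac hdiv).range ⊔ (fieldAutHom (F := F) c).range) ⊓ Cfsg.Inn ↥(D.group F) =
      innDiag D F := by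
  apply le_antisymm
  · rintro θ ⟨h1, ⟨x, rfl⟩⟩
    obtain ⟨hU, hV⟩ := preserves_of_mem_sup c tc ac hdiv _ h1
    exact ⟨x, mem_diagonal_of_preserves c tc ac gc hR2 hw x hU hV, rfl⟩
  · intro θ hθ
    refine ⟨Subgroup.mem_sup_left (innDiag_le_diag c tc ac hdiv hcons hone hθ), ?_⟩
    obtain ⟨x, -, rfl⟩ := hθ
    exact ⟨x, rfl⟩

theorem diag_inf_inn (c : DCert D Ns) (tc : TCert D) (ac : ACert D wl ws sc) (gc : GCert D w d)
    (hR2 : R2All D F) (hw : W0Cert D w0) (hdiv : DivCert D ws sc) (hcons : ChainCons D) (hone : FixOne c F) :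
    (diagHom (F := F) c tc ac hdiv).range ⊓ Cfsg.Inn ↥(D.group F) = innDiag D F := by
  apply le_antisymm
  · rw [← sup_inf_inn c tc ac gc hR2 hw hdiv hcons hone]
    exact inf_le_inf_right _ le_sup_left
  · intro θ hθ
    refine ⟨innDiag_le_diag c tc ac hdiv hcons hone hθ, ?_⟩
    obtain ⟨x, -, rfl⟩ := hθ
    exact ⟨x, rfl⟩

theorem field_inf_inn (c : DCert D Ns) (tc : TCert D) (ac : ACert D wl ws sc) (gc : GCert D w d)
    (hR2 : R2All D F) (hw : W0Cert D w0) (hdiv : DivCert D ws sc) (hcons : ChainCons D) (hone : FixOne c F) :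
    (fieldAutHom (F := F) c).range ⊓ Cfsg.Inn ↥(D.group F) = ⊥ := by
  rw [eq_bot_iff, ← diag_inf_field c tc ac hdiv]
  intro θ hθ
  refine ⟨?_, hθ.1⟩
  apply innDiag_le_diag c tc ac hdiv hcons hone
  rw [← sup_inf_inn c tc ac gc hR2 hw hdiv hcons hone]
  exact ⟨Subgroup.mem_sup_right hθ.1, hθ.2⟩

/-- If the centre of the group is trivial, the group of the conjugations by the elements of `H` has the order
of `H`. -/
theorem card_innDiag (c : DCert D Ns) (hZ : Subgroup.center ↥(D.group F) = ⊥) :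
    Nat.card ↥(innDiag D F) = Nat.card ↥(D.diagonalSubgroup F) := by
  have hinj : Function.Injective (MulAut.conj : ↥(D.group F) →* MulAut ↥(D.group F)) := by
    rw [← MonoidHom.ker_eq_bot_iff, eq_bot_iff]
    intro x hx
    rw [← hZ, Subgroup.mem_center_iff]
    intro y
    have h1 : MulAut.conj x y = y := by
      rw [MonoidHom.mem_ker] at hx
      rw [hx]
      rfl
    rw [MulAut.conj_apply] at h1
    calc y * x = (x * y * x⁻¹) * x := by rw [h1]
      _ = x * y := by group
  unfold innDiag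
  rw [Nat.card_congr ((Subgroup.equivMapOfInjective _ _ hinj).toEquiv).symm]
  exact Nat.card_congr (Subgroup.subgroupOfEquivOfLe (diagonal_le_group c)).toEquiv


/-! ### The orders of the images in the group of outer automorphisms -/

theorem card_diag_bar_mul [Fintype F] (c : DCert D Ns) (tc : TCert D) (ac : ACert D wl ws sc) (gc : GCert D w d)
    (hR2 : R2All D F) (hw : W0Cert D w0) (hdiv : DivCert D ws sc) (hcons : ChainCons D) (hone : FixOne c F)
    (hZ : Subgroup.center ↥(D.group F) = ⊥) :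
    Nat.card ↥((diagHom (F := F) c tc ac hdiv).range.map (QuotientGroup.mk' (Cfsg.Inn ↥(D.group F)))) *
      Nat.card ↥(D.diagonalSubgroup F) = (Fintype.card F - 1) ^ D.rank := by
  have h := card_map_mk_mul_card_inf (Cfsg.Inn ↥(D.group F)) (diagHom (F := F) c tc ac hdiv).range
  rw [diag_inf_inn c tc ac gc hR2 hw hdiv hcons hone, card_innDiag c hZ, card_diag_range] at h
  exact h

theorem card_field_bar (c : DCert D Ns) (tc : TCert D) (ac : ACert D wl ws sc) (gc : GCert D w d)
    (hR2 : R2All D F) (hw : W0Cert D w0) (hdiv : DivCert D ws sc) (hcons : ChainCons D) (hone : FixOne c F)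
    (h0 : 0 < D.rank) :
    Nat.card ↥((fieldAutHom (F := F) c).range.map (QuotientGroup.mk' (Cfsg.Inn ↥(D.group F)))) =
      Nat.card (RingAut F) := by
  have h := card_map_mk_mul_card_inf (Cfsg.Inn ↥(D.group F)) (fieldAutHom (F := F) c).range
  rw [field_inf_inn c tc ac gc hR2 hw hdiv hcons hone, Subgroup.card_bot, mul_one,
    card_field_range c tc ac h0] at h
  exact h

theorem card_sup_bar_mul [Fintype F] (c : DCert D Ns) (tc : TCert D) (ac : ACert D wl ws sc) (gc : GCert D w d)
    (hR2 : R2All D F) (hw : W0Cert D w0) (hdiv : DivCert D ws sc) (hcons : ChainCons D) (hone : FixOne c F)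
    (h0 : 0 < D.rank) (hZ : Subgroup.center ↥(D.group F) = ⊥) :
    Nat.card ↥(((diagHom (F := F) c tc ac hdiv).range ⊔ (fieldAutHom (F := F) c).range).map
        (QuotientGroup.mk' (Cfsg.Inn ↥(D.group F)))) *
      Nat.card ↥(D.diagonalSubgroup F) = (Fintype.card F - 1) ^ D.rank * Nat.card (RingAut F) := by
  have h := card_map_mk_mul_card_inf (Cfsg.Inn ↥(D.group F))
    ((diagHom (F := F) c tc ac hdiv).range ⊔ (fieldAutHom (F := F) c).range)
  rw [sup_inf_inn c tc ac gc hR2 hw hdiv hcons hone, card_innDiag c hZ,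
    card_diag_sup_field c tc ac hdiv hone h0] at h
  exact h

/-- The centre of a simple group that is not commutative is trivial. -/
theorem center_eq_bot_of_simple {G : Type*} [Group G] (hs : IsSimpleGroup G) (hnc : ¬ ∀ a b : G, a * b = b * a) :
    Subgroup.center G = ⊥ := by
  rcases hs.eq_bot_or_eq_top_of_normal (Subgroup.center G) inferInstance with h | h
  · exact h
  · exfalso
    apply hnc
    intro a b
    have : b ∈ Subgroup.center G := by rw [h]; exact Subgroup.mem_top b
    rw [Subgroup.mem_center_iff] at this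
    exact this a

end Cfsg.Agent.Lib.Helper18_D4OutGen
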