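import Cfsg.Agent.Lib.Helper18_E6Inv

/-!
# E₆ on the 27-dimensional module: the gradient of the cubic form and singular vectors
-/

set_option autoImplicit false
set_option maxRecDepth 100000

namespace Cfsg.Agent.Lib.Helper18_E6Alg

open Cfsg.Agent.Lib.Helper18_E6Defs Cfsg.Agent.Lib.Helper18_E6Inv

variable {F : Type*} [Field F]

theorem pS_eq : ∀ c j, pS c j = (![![1, -1, -1, -1, -1], ![-1, 1, -1, -1, -1], ![1, -1, -1, -1, -1], ![-1, 1, -1, -1, -1], ![1, -1, -1, -1, -1], ![-1, 1, -1, -1, -1], ![1, -1, -1, -1, -1], ![-1, 1, -1, -1, -1], ![1, -1, -1, -1, -1], ![1, -1, -1, -1, -1], ![-1, 1, -1, -1, -1], ![1, -1, -1, -1, -1], ![-1, 1, -1, -1, -1], ![1, -1, -1, -1, -1], ![-1, 1, -1, -1, -1], ![1, -1, -1, -1, -1], ![-1, 1, -1, -1, -1], ![1, -1, -1, -1, -1], ![1, -1, -1, -1, -1], ![-1, 1, -1, -1, -1], ![1, -1, -1, -1, -1], ![-1, 1, -1, -1, -1], ![1, -1, -1,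 -1, -1], ![-1, 1, -1, -1, -1], ![1, -1, -1, -1, -1], ![-1, 1, -1, -1, -1], ![1, -1, -1, -1, -1]] : W → Fin 5 → ℤ) c j := by decide +kernel
theorem pX_eq : ∀ c j, pX c j = (![![4, 5, 9, 10, 11], ![3, 5, 12, 13, 14], ![3, 4, 15, 16, 17], ![1, 2, 9, 10, 11], ![0, 2, 12, 13, 14], ![0, 1, 15, 16, 17], ![1, 2, 9, 10, 11], ![0, 2, 12, 13, 14], ![0, 1, 15, 16, 17], ![13, 14, 0, 3, 6], ![12, 14, 0, 3, 6], ![12, 13, 0, 3, 6], ![10, 11, 1, 4, 7], ![9, 11, 1, 4, 7], ![9, 10, 1, 4, 7], ![10, 11, 2, 5, 8], ![9, 11, 2, 5, 8], ![9, 10, 2, 5, 8], ![22, 23, 0, 1, 2], ![21, 23, 3, 4, 5], ![21, 22, 6, 7, 8], ![19, 20, 0, 1, 2], ![18, 20, 3, 4, 5], ![18, 19, 6, 7, 8], ![19, 20, 0, 1, 2], ![18, 20, 3, 4, 5], ![18, 19, 6, 7, 8]] : W → Fin 5 → W) c j := by decide +kernel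
theorem pY_eq : ∀ c j, pY c j = (![![8, 7, 18, 21, 24], ![8, 6, 18, 21, 24], ![7, 6, 18, 21, 24], ![8, 7, 19, 22, 25], ![8, 6, 19, 22, 25], ![7, 6, 19, 22, 25], ![5, 4, 20, 23, 26], ![5, 3, 20, 23, 26], ![4, 3, 20, 23, 26], ![17, 16, 18, 19, 20], ![17, 15, 21, 22, 23], ![16, 15, 24, 25, 26], ![17, 16, 18, 19, 20], ![17, 15, 21, 22, 23], ![16, 15, 24, 25, 26], ![14, 13, 18, 19, 20], ![14, 12, 21, 22, 23], ![13, 12, 24, 25, 26], ![26, 25, 9, 12, 15], ![26, 24, 9, 12, 15], ![25, 24, 9, 12, 15], ![26, 25, 10, 13, 16], ![26, 24, 10, 13, 16], ![25, 24, 10, 13, 16], ![23, 22, 11, 14, 17], ![23, 21, 11, 14, 17], ![22, 21, 11, 14, 17]] : W → Fin 5 → W) c j := by decide +kernel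

theorem dT_eq_0 (v : W → F) : dT v 0 = v 4 * v 8 - v 5 * v 7 - v 9 * v 18 - v 10 * v 21 - v 11 * v 24 := by
  unfold dT
  simp only [pS_eq, pX_eq, pY_eq]
  simp [Fin.sum_univ_succ]
  try ring

theorem dT_eq_1 (v : W → F) : dT v 1 = - v 3 * v 8 + v 5 * v 6 - v 12 * v 18 - v 13 * v 21 - v 14 * v 24 := by
  unfold dT
  simp only [pS_eq, pX_eq, pY_eq]
  simp [Fin.sum_univ_succ]
  try ring

theorem dT_eq_2 (v : W → F) : dT v 2 = v 3 * v 7 - v 4 * v 6 - v 15 * v 18 - v 16 * v 21 - v 17 * v 24 := by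
  unfold dT
  simp only [pS_eq, pX_eq, pY_eq]
  simp [Fin.sum_univ_succ]
  try ring

theorem dT_eq_3 (v : W → F) : dT v 3 = - v 1 * v 8 + v 2 * v 7 - v 9 * v 19 - v 10 * v 22 - v 11 * v 25 := by
  unfold dT
  simp only [pS_eq, pX_eq, pY_eq]
  simp [Fin.sum_univ_succ]
  try ring

theorem dT_eq_4 (v : W → F) : dT v 4 = v 0 * v 8 - v 2 * v 6 - v 12 * v 19 - v 13 * v 22 - v 14 * v 25 := by
  unfold dT
  simp only [pS_eq, pX_eq, pY_eq]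
  simp [Fin.sum_univ_succ]
  try ring

theorem dT_eq_5 (v : W → F) : dT v 5 = - v 0 * v 7 + v 1 * v 6 - v 15 * v 19 - v 16 * v 22 - v 17 * v 25 := by
  unfold dT
  simp only [pS_eq, pX_eq, pY_eq]
  simp [Fin.sum_univ_succ]
  try ring

theorem dT_eq_6 (v : W → F) : dT v 6 = v 1 * v 5 - v 2 * v 4 - v 9 * v 20 - v 10 * v 23 - v 11 * v 26 := by
  unfold dT
  simp only [pS_eq, pX_eq, pY_eq]
  simp [Fin.sum_univ_succ]
  try ring

theorem dT_eq_7 (v : W → F) : dT v 7 = - v 0 * v 5 + v 2 * v 3 - v 12 * v 20 - v 13 * v 23 - v 14 * v 26 := by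
  unfold dT
  simp only [pS_eq, pX_eq, pY_eq]
  simp [Fin.sum_univ_succ]
  try ring

theorem dT_eq_8 (v : W → F) : dT v 8 = v 0 * v 4 - v 1 * v 3 - v 15 * v 20 - v 16 * v 23 - v 17 * v 26 := by
  unfold dT
  simp only [pS_eq, pX_eq, pY_eq]
  simp [Fin.sum_univ_succ]
  try ring

theorem dT_eq_9 (v : W → F) : dT v 9 = v 13 * v 17 - v 14 * v 16 - v 0 * v 18 - v 3 * v 19 - v 6 * v 20 := by
  unfold dT
  simp only [pS_eq, pX_eq, pY_eq]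
  simp [Fin.sum_univ_succ]
  try ring

theorem dT_eq_10 (v : W → F) : dT v 10 = - v 12 * v 17 + v 14 * v 15 - v 0 * v 21 - v 3 * v 22 - v 6 * v 23 := by
  unfold dT
  simp only [pS_eq, pX_eq, pY_eq]
  simp [Fin.sum_univ_succ]
  try ring

theorem dT_eq_11 (v : W → F) : dT v 11 = v 12 * v 16 - v 13 * v 15 - v 0 * v 24 - v 3 * v 25 - v 6 * v 26 := by
  unfold dT
  simp only [pS_eq, pX_eq, pY_eq]
  simp [Fin.sum_univ_succ]
  try ring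

theorem dT_eq_12 (v : W → F) : dT v 12 = - v 10 * v 17 + v 11 * v 16 - v 1 * v 18 - v 4 * v 19 - v 7 * v 20 := by
  unfold dT
  simp only [pS_eq, pX_eq, pY_eq]
  simp [Fin.sum_univ_succ]
  try ring

theorem dT_eq_13 (v : W → F) : dT v 13 = v 9 * v 17 - v 11 * v 15 - v 1 * v 21 - v 4 * v 22 - v 7 * v 23 := by
  unfold dT
  simp only [pS_eq, pX_eq, pY_eq]
  simp [Fin.sum_univ_succ]
  try ring

theorem dT_eq_14 (v : W → F) : dT v 14 = - v 9 * v 16 + v 10 * v 15 - v 1 * v 24 - v 4 * v 25 - v 7 * v 26 := by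
  unfold dT
  simp only [pS_eq, pX_eq, pY_eq]
  simp [Fin.sum_univ_succ]
  try ring

theorem dT_eq_15 (v : W → F) : dT v 15 = v 10 * v 14 - v 11 * v 13 - v 2 * v 18 - v 5 * v 19 - v 8 * v 20 := by
  unfold dT
  simp only [pS_eq, pX_eq, pY_eq]
  simp [Fin.sum_univ_succ]
  try ring

theorem dT_eq_16 (v : W → F) : dT v 16 = - v 9 * v 14 + v 11 * v 12 - v 2 * v 21 - v 5 * v 22 - v 8 * v 23 := by
  unfold dT
  simp only [pS_eq, pX_eq, pY_eq]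
  simp [Fin.sum_univ_succ]
  try ring

theorem dT_eq_17 (v : W → F) : dT v 17 = v 9 * v 13 - v 10 * v 12 - v 2 * v 24 - v 5 * v 25 - v 8 * v 26 := by
  unfold dT
  simp only [pS_eq, pX_eq, pY_eq]
  simp [Fin.sum_univ_succ]
  try ring

theorem dT_eq_18 (v : W → F) : dT v 18 = v 22 * v 26 - v 23 * v 25 - v 0 * v 9 - v 1 * v 12 - v 2 * v 15 := by
  unfold dT
  simp only [pS_eq, pX_eq, pY_eq]
  simp [Fin.sum_univ_succ]
  try ring

theorem dT_eq_19 (v : W → F) : dT v 19 = - v 21 * v 26 + v 23 * v 24 - v 3 * v 9 - v 4 * v 12 - v 5 * v 15 := by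
  unfold dT
  simp only [pS_eq, pX_eq, pY_eq]
  simp [Fin.sum_univ_succ]
  try ring

theorem dT_eq_20 (v : W → F) : dT v 20 = v 21 * v 25 - v 22 * v 24 - v 6 * v 9 - v 7 * v 12 - v 8 * v 15 := by
  unfold dT
  simp only [pS_eq, pX_eq, pY_eq]
  simp [Fin.sum_univ_succ]
  try ring

theorem dT_eq_21 (v : W → F) : dT v 21 = - v 19 * v 26 + v 20 * v 25 - v 0 * v 10 - v 1 * v 13 - v 2 * v 16 := by
  unfold dT
  simp only [pS_eq, pX_eq, pY_eq]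
  simp [Fin.sum_univ_succ]
  try ring

theorem dT_eq_22 (v : W → F) : dT v 22 = v 18 * v 26 - v 20 * v 24 - v 3 * v 10 - v 4 * v 13 - v 5 * v 16 := by
  unfold dT
  simp only [pS_eq, pX_eq, pY_eq]
  simp [Fin.sum_univ_succ]
  try ring

theorem dT_eq_23 (v : W → F) : dT v 23 = - v 18 * v 25 + v 19 * v 24 - v 6 * v 10 - v 7 * v 13 - v 8 * v 16 := by
  unfold dT
  simp only [pS_eq, pX_eq, pY_eq]
  simp [Fin.sum_univ_succ]
  try ring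

theorem dT_eq_24 (v : W → F) : dT v 24 = v 19 * v 23 - v 20 * v 22 - v 0 * v 11 - v 1 * v 14 - v 2 * v 17 := by
  unfold dT
  simp only [pS_eq, pX_eq, pY_eq]
  simp [Fin.sum_univ_succ]
  try ring

theorem dT_eq_25 (v : W → F) : dT v 25 = - v 18 * v 23 + v 20 * v 21 - v 3 * v 11 - v 4 * v 14 - v 5 * v 17 := by
  unfold dT
  simp only [pS_eq, pX_eq, pY_eq]
  simp [Fin.sum_univ_succ]
  try ring

theorem dT_eq_26 (v : W → F) : dT v 26 = v 18 * v 22 - v 19 * v 21 - v 6 * v 11 - v 7 * v 14 - v 8 * v 17 := by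
  unfold dT
  simp only [pS_eq, pX_eq, pY_eq]
  simp [Fin.sum_univ_succ]
  try ring

/-- the pairing of the gradient at `v` with `y`. -/
def L (v y : W → F) : F := ∑ c, y c * dT v c

theorem L_eq (v y : W → F) : L v y = y 0 * (v 4 * v 8 - v 5 * v 7 - v 9 * v 18 - v 10 * v 21 - v 11 * v 24) + y 1 * (- v 3 * v 8 + v 5 * v 6 - v 12 * v 18 - v 13 * v 21 - v 14 * v 24) + y 2 * (v 3 * v 7 - v 4 * v 6 - v 15 * v 18 - v 16 * v 21 - v 17 * v 24) + y 3 * (- v 1 * v 8 + v 2 * v 7 - v 9 * v 19 - v 10 * v 22 - v 11 * v 25) + y 4 * (v 0 * v 8 - v 2 * v 6 - v 12 * v 19 - v 13 * v 22 - v 14 * v 25) + y 5 * (- v 0 * v 7 + v 1 * v 6 - v 15 * v 19 - v 16 * v 22 - v 17 * v 25) + y 6 * (v 1 * v 5 - v 2 * v 4 - v 9 * v 20 - v 10 * v 23 - v 11 * v 26) + y 7 * (- v 0 * v 5 + v 2 * v 3 - v 12 * v 20 - v 13 * v 23 - v 14 * v 26) + y 8 * (v 0 * v 4 - v 1 * v 3 - v 15 * v 20 -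 v 16 * v 23 - v 17 * v 26) + y 9 * (v 13 * v 17 - v 14 * v 16 - v 0 * v 18 - v 3 * v 19 - v 6 * v 20) + y 10 * (- v 12 * v 17 + v 14 * v 15 - v 0 * v 21 - v 3 * v 22 - v 6 * v 23) + y 11 * (v 12 * v 16 - v 13 * v 15 - v 0 * v 24 - v 3 * v 25 - v 6 * v 26) + y 12 * (- v 10 * v 17 + v 11 * v 16 - v 1 * v 18 - v 4 * v 19 - v 7 * v 20) + y 13 * (v 9 * v 17 - v 11 * v 15 - v 1 * v 21 - v 4 * v 22 - v 7 * v 23) + y 14 * (- v 9 * v 16 + v 10 * v 15 - v 1 * v 24 - v 4 * v 25 - v 7 * v 26) + y 15 * (v 10 * v 14 - v 11 * v 13 - v 2 * v 18 - v 5 * v 19 - v 8 * v 20) + y 16 * (- v 9 * v 14 + v 11 * v 12 - v 2 * v 21 - v 5 * v 22 - v 8 * v 23) + y 17 * (v 9 * v 13 - v 10 * v 12 - v 2 * v 24 - v 5 * v 25 - v 8 * v 26) + y 18 * (v 22 * v 26 - v 23 * v 25 - v 0 * v 9 - v 1 * v 12 - v 2 * v 15) + y 19 * (- v 21 * v 26 + v 23 * v 24 - v 3 * v 9 - v 4 * v 12 - v 5 * v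 15) + y 20 * (v 21 * v 25 - v 22 * v 24 - v 6 * v 9 - v 7 * v 12 - v 8 * v 15) + y 21 * (- v 19 * v 26 + v 20 * v 25 - v 0 * v 10 - v 1 * v 13 - v 2 * v 16) + y 22 * (v 18 * v 26 - v 20 * v 24 - v 3 * v 10 - v 4 * v 13 - v 5 * v 16) + y 23 * (- v 18 * v 25 + v 19 * v 24 - v 6 * v 10 - v 7 * v 13 - v 8 * v 16) + y 24 * (v 19 * v 23 - v 20 * v 22 - v 0 * v 11 - v 1 * v 14 - v 2 * v 17) + y 25 * (- v 18 * v 23 + v 20 * v 21 - v 3 * v 11 - v 4 * v 14 - v 5 * v 17) + y 26 * (v 18 * v 22 - v 19 * v 21 - v 6 * v 11 - v 7 * v 14 - v 8 * v 17) := by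
  unfold L
  rw [Fin.sum_univ_succ]
  simp only [Fin.sum_univ_succ, Fin.sum_univ_zero, add_zero]
  simp only [← dT_eq_0, ← dT_eq_1, ← dT_eq_2, ← dT_eq_3, ← dT_eq_4, ← dT_eq_5, ← dT_eq_6, ← dT_eq_7, ← dT_eq_8, ← dT_eq_9, ← dT_eq_10, ← dT_eq_11, ← dT_eq_12, ← dT_eq_13, ← dT_eq_14, ← dT_eq_15, ← dT_eq_16, ← dT_eq_17, ← dT_eq_18, ← dT_eq_19, ← dT_eq_20, ← dT_eq_21, ← dT_eq_22, ← dT_eq_23, ← dT_eq_24, ← dT_eq_25, ← dT_eq_26]
  simp only [add_assoc]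
  rfl

/-- Taylor expansion of the cubic form. -/
theorem T27_add (v y : W → F) : T27 (v + y) = T27 v + L v y + L y v + T27 y := by
  rw [T27_eq, T27_eq, T27_eq, L_eq, L_eq]
  simp only [Pi.add_apply]
  ring

end Cfsg.Agent.Lib.Helper18_E6Alg
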