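import Cfsg.Agent.Lib.Helper18_E6Loc

/-!
# E₆ on the 27-dimensional module: moving singular vectors to basis vectors by root elements
-/

set_option autoImplicit false

namespace Cfsg.Agent.Lib.Helper18_E6Clear

open Cfsg.Agent.Lib.Helper18_E6Defs Cfsg.Agent.Lib.Helper18_E6Hom Cfsg.Agent.Lib.Helper18_E6Inv
open Cfsg.Agent.Lib.Helper18_E6Sing Cfsg.Agent.Lib.Helper18_E6Facts2 Cfsg.Agent.Lib.Helper18_E6Loc

variable {F : Type*} [Field F]

/-- `x_r(t)` fixes `e_κ`. -/
def fixes (r : ℕ) (κ : W) : Prop := ∀ i : W, sg r i = 0 ∨ src r i ≠ κ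

instance (r : ℕ) (κ : W) : Decidable (fixes r κ) := by unfold fixes; infer_instance

theorem X_mulVec_e_of_fixes (r : ℕ) (t : F) (κ : W) (h : fixes r κ) :
    ((X r t : GL W F) : Matrix W W F).mulVec (e κ) = e κ := by
  ext i
  rw [X_val, Xmat_mulVec]
  rcases h i with h | h
  · rw [h]; simp
  · rw [e_ne _ _ h]; simp

/-- the subgroup generated by the root elements with root in `R`. -/
def ER (F : Type*) [Field F] (R : ℕ → Prop) : Subgroup (GL W F) :=
  Subgroup.closure {g | ∃ (r : ℕ) (t : F), R r ∧ g = X r t}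

theorem ER_le_E (R : ℕ → Prop) : ER F R ≤ E F := by
  unfold ER
  rw [Subgroup.closure_le]
  rintro g ⟨r, t, -, rfl⟩
  exact X_mem_E r t

theorem X_mem_ER (R : ℕ → Prop) (r : ℕ) (t : F) (h : R r) : X r t ∈ ER F R :=
  Subgroup.subset_closure ⟨r, t, h, rfl⟩

theorem ER_fixes (R : ℕ → Prop) (κ : W) (h : ∀ r, R r → fixes r κ) (u : GL W F)
    (hu : u ∈ ER F R) : (u : Matrix W W F).mulVec (e κ) = e κ := by
  unfold ER at hu
  induction hu using Subgroup.closure_induction with
  | mem g hg =>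
    obtain ⟨r, t, hr, rfl⟩ := hg
    exact X_mulVec_e_of_fixes r t κ (h r hr)
  | one => simp
  | mul a b _ _ ha hb => rw [Units.val_mul, ← Matrix.mulVec_mulVec, hb, ha]
  | inv a _ ha =>
    have := inv_mulVec_mulVec a (e κ : W → F)
    rwa [ha] at this

theorem E_le_G27 : E F ≤ G27 F := E_le_funStab

/-- clearing the coefficients at the neighbours of `μ`, one at a time. -/
theorem clear_aux (μ : W) (w : W → F) (hμ : w μ ≠ 0) (R : ℕ → Prop)
    (hR : ∀ ν, nbr μ ν → w ν ≠ 0 → R (rootOf μ ν)) (s : Finset W) (hs : ∀ ν ∈ s, nbr μ ν) :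
    ∃ u ∈ ER F R, (u : Matrix W W F).mulVec w μ = w μ ∧
      (∀ ν ∈ s, (u : Matrix W W F).mulVec w ν = 0) ∧
      (∀ ν, nbr μ ν → ν ∉ s → (u : Matrix W W F).mulVec w ν = w ν) := by
  induction s using Finset.induction_on with
  | empty =>
    refine ⟨1, one_mem _, by simp, by simp, by simp⟩
  | insert ν₀ s hν₀ ih =>
    obtain ⟨u, hu, h1, h2, h3⟩ := ih (fun ν hν => hs ν (Finset.mem_insert_of_mem hν))
    have hn₀ : nbr μ ν₀ := hs ν₀ (Finset.mem_insert_self _ _)
    by_cases h0 : w ν₀ = 0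
    · refine ⟨u, hu, h1, ?_, ?_⟩
      · intro ν hν
        rcases Finset.mem_insert.mp hν with rfl | hν
        · rw [h3 ν hn₀ hν₀, h0]
        · exact h2 ν hν
      · intro ν hn hν
        exact h3 ν hn (fun h => hν (Finset.mem_insert_of_mem h))
    · obtain ⟨-, f2, f3, f4, f5⟩ := rootOf_facts μ ν₀ hn₀
      set ρ := rootOf μ ν₀ with hρ
      have hσ : ((sg ρ ν₀ : ℤ) : F) * ((sg ρ ν₀ : ℤ) : F) = 1 := by
        rcases f3 with h | h <;> rw [h] <;> simp
      set t : F := -((sg ρ ν₀ : ℤ) : F) * w ν₀ / w μ with ht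
      refine ⟨X ρ t * u, mul_mem (X_mem_ER R ρ t (hR ν₀ hn₀ h0)) hu, ?_, ?_, ?_⟩
      · rw [Units.val_mul, ← Matrix.mulVec_mulVec, X_val, Xmat_mulVec, f4, h1]
        simp
      · intro ν hν
        rw [Units.val_mul, ← Matrix.mulVec_mulVec, X_val, Xmat_mulVec]
        rcases Finset.mem_insert.mp hν with rfl | hν
        · rw [f2, h1, h3 ν hn₀ hν₀, ht]
          have : w ν + -((sg ρ ν : ℤ) : F) * w ν / w μ * (((sg ρ ν : ℤ) : F) * w μ) =
              w ν - (((sg ρ ν : ℤ) : F) * ((sg ρ ν : ℤ) : F)) * w ν := by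
            field_simp
            ring
          rw [this, hσ]
          ring
        · have hne : ν ≠ ν₀ := fun h => hν₀ (h ▸ hν)
          rw [f5 ν (hs ν (Finset.mem_insert_of_mem hν)) hne, h2 ν hν]
          simp
      · intro ν hn hν
        have hne : ν ≠ ν₀ := fun h => hν (h ▸ Finset.mem_insert_self _ _)
        have hνs : ν ∉ s := fun h => hν (Finset.mem_insert_of_mem h)
        rw [Units.val_mul, ← Matrix.mulVec_mulVec, X_val, Xmat_mulVec, f5 ν hn hne, h3 ν hn hνs]
        simp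

/-- a singular vector that vanishes on the neighbours of `μ` but not at `μ` vanishes far from `μ`. -/
theorem far_zero_of_nbr_zero (μ : W) (w : W → F) (hw : Sing w) (hμ : w μ ≠ 0)
    (hn : ∀ ν, nbr μ ν → w ν = 0) (b : W) (hb : far μ b) : w b = 0 := by
  obtain ⟨-, -, -, h1, h2, -⟩ := jOf_far μ b hb
  obtain ⟨k1, k2, -, -⟩ := jOf_far μ (third μ b) h1
  have := hw (third μ b)
  unfold dT at this
  rw [Finset.sum_eq_single (jOf μ (third μ b))] at this
  · rw [h2] at k1
    rcases k1 with ⟨hx, hy⟩ | ⟨hy, hx⟩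
    · rw [hx, hy] at this
      rcases mul_eq_zero.mp this with h | h
      · rcases mul_eq_zero.mp h with h | h
        · exact absurd h (tsg_ne_zero μ _ h1)
        · exact absurd h hμ
      · exact h
    · rw [hx, hy] at this
      rcases mul_eq_zero.mp this with h | h
      · rcases mul_eq_zero.mp h with h | h
        · exact absurd h (tsg_ne_zero μ _ h1)
        · exact h
      · exact absurd h hμ
  · intro j _ hj
    obtain ⟨-, -, h3⟩ := k2 j hj
    rw [hn _ (nbr_symm _ _ h3)]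
    simp
  · intro h
    exact absurd (Finset.mem_univ _) h

/-- a singular vector with `w μ ≠ 0` can be moved to `w μ • e_μ` by root elements `x_{ν-μ}(t)` with
`ν` a neighbour of `μ` in the support of `w`. -/
theorem clear (μ : W) (w : W → F) (hw : Sing w) (hμ : w μ ≠ 0)
    (hF : ∃ s : F, s ≠ 0 ∧ s ≠ 1) (R : ℕ → Prop)
    (hR : ∀ ν, nbr μ ν → w ν ≠ 0 → R (rootOf μ ν)) :
    ∃ u ∈ ER F R, (u : Matrix W W F).mulVec w = w μ • e μ := by
  obtain ⟨u, hu, h1, h2, -⟩ := clear_aux μ w hμ R hR (Finset.univ.filter (fun ν => nbr μ ν))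
    (fun ν hν => (Finset.mem_filter.mp hν).2)
  refine ⟨u, hu, ?_⟩
  have hs : Sing ((u : Matrix W W F).mulVec w) :=
    Sing_mulVec hF u (E_le_G27 (ER_le_E R hu)) w hw
  have hn : ∀ ν, nbr μ ν → (u : Matrix W W F).mulVec w ν = 0 :=
    fun ν hν => h2 ν (Finset.mem_filter.mpr ⟨Finset.mem_univ _, hν⟩)
  have hf := far_zero_of_nbr_zero μ _ hs (by rw [h1]; exact hμ) hn
  ext i
  rw [Pi.smul_apply, smul_eq_mul]
  rcases rel_tri μ i with rfl | h | h
  · rw [h1, e_self, mul_one]
  · have : i ≠ μ := by rintro rfl; exact nbr_irrefl _ h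
    rw [hn i h, e_ne _ _ this, mul_zero]
  · have : i ≠ μ := by rintro rfl; exact far_irrefl _ h
    rw [hf i h, e_ne _ _ this, mul_zero]

theorem sg_cast_ne_zero (r : ℕ) (i : W) (h : sg r i ≠ 0) : ((sg r i : ℤ) : F) ≠ 0 := by
  by_cases hr : r < 72
  · rcases Cfsg.Agent.Lib.Helper18_E6Facts.sg_sq ⟨r, hr⟩ i with h' | h' | h'
    · exact absurd h' h
    · simp only at h'
      rw [h']
      simp
    · simp only at h'
      rw [h']
      simp
  · exact absurd (Cfsg.Agent.Lib.Helper18_E6Mon.sg_eq_zero_of_ge r (by omega) i) h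

/-- making the coefficient at `μ` non-zero. -/
theorem reach (μ : W) (P : W → Prop) (rk : W → ℕ) (step : W → ℕ) (R : ℕ → Prop)
    (h : ∀ l, P l → l ≠ μ → R (step l) ∧
      ∃ l', P l' ∧ rk l' < rk l ∧ src (step l) l' = l ∧ sg (step l) l' ≠ 0) :
    ∀ (n : ℕ) (w : W → F) (l : W), P l → rk l ≤ n → w l ≠ 0 →
      ∃ u ∈ ER F R, (u : Matrix W W F).mulVec w μ ≠ 0 := by
  intro n
  induction n with
  | zero =>
    intro w l hP hrk hw
    by_cases hl : l = μ
    · subst hl
      exact ⟨1, one_mem _, by simpa using hw⟩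
    · obtain ⟨-, l', -, hlt, -⟩ := h l hP hl
      omega
  | succ n ih =>
    intro w l hP hrk hw
    by_cases hl : l = μ
    · subst hl
      exact ⟨1, one_mem _, by simpa using hw⟩
    · obtain ⟨hR, l', hP', hlt, hsrc, hsg⟩ := h l hP hl
      by_cases hw' : w l' = 0
      · have hne : ((X (step l) (1 : F) : GL W F) : Matrix W W F).mulVec w l' ≠ 0 := by
          rw [X_val, Xmat_mulVec, hw', hsrc, zero_add, one_mul]
          exact mul_ne_zero (sg_cast_ne_zero _ _ hsg) hw
        obtain ⟨u, hu, hu'⟩ := ih _ l' hP' (by omega) hne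
        refine ⟨u * X (step l) 1, mul_mem hu (X_mem_ER R _ _ hR), ?_⟩
        rwa [Units.val_mul, ← Matrix.mulVec_mulVec]
      · exact ih w l' hP' (by omega) hw'

end Cfsg.Agent.Lib.Helper18_E6Clear
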