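import Cfsg.Agent.Lib.Helper18_E6Frame

/-!
# E₆ on the 27-dimensional module: diagonal isometries of the cubic form are products of root elements
-/

set_option autoImplicit false
set_option maxRecDepth 100000

namespace Cfsg.Agent.Lib.Helper18_E6Diag

open Cfsg Cfsg.Lie
open Cfsg.Agent.Lib.Helper18_E6Defs Cfsg.Agent.Lib.Helper18_E6Facts Cfsg.Agent.Lib.Helper18_E6Mon
open Cfsg.Agent.Lib.Helper18_E6Hom Cfsg.Agent.Lib.Helper18_E6Inv
open Cfsg.Agent.Lib.Helper18_E6Sing Cfsg.Agent.Lib.Helper18_E6Facts2 Cfsg.Agent.Lib.Helper18_E6Loc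
open Cfsg.Agent.Lib.Helper18_E6Clear Cfsg.Agent.Lib.Helper18_E6Stage Cfsg.Agent.Lib.Helper18_E6Frame
open Cfsg.Agent.Lib.Helper18_StLift

variable {F : Type*} [Field F]

theorem wprod_mem_E (w : List (ℕ × F)) : wprod X w ∈ E F := by
  induction w with
  | nil => rw [wprod_nil]; exact one_mem _
  | cons p w ih => rw [wprod_cons]; exact mul_mem (X_mem_E _ _) ih

/-- the eigenvalue of `h_r(t)` on `e_κ`. -/
noncomputable def hval (r : ℕ) (t : F) (κ : W) : F :=
  if sg r κ ≠ 0 then t else if sg (negR r) κ ≠ 0 then t⁻¹ else 1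

theorem EE_mulVec_e (r : ℕ) (hr : r < 72) (κ : W) :
    (Emat F r * Emat F (negR r)).mulVec (e κ) = if sg r κ ≠ 0 then e κ else 0 := by
  rw [Emat_eq, Emat_eq, Mon_mul]
  ext i
  rw [Mon_mulVec]
  have h := (neg_facts ⟨r, hr⟩ i).1
  simp only at h
  by_cases hi : sg r i = 0
  · rw [hi]
    split_ifs with hκ
    · have : i ≠ κ := by rintro rfl; exact hκ hi
      rw [e_ne _ _ this]; simp
    · simp
  · obtain ⟨h1, h2⟩ := h hi
    rw [h1, h2, Int.cast_one, one_mul]
    by_cases hiκ : i = κ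
    · subst hiκ
      rw [if_pos hi]
    · rw [e_ne _ _ hiκ]
      split_ifs
      · rw [e_ne _ _ hiκ]
      · simp

theorem hWord_mulVec_e (r : ℕ) (hr : r < 72) (t : F) (ht : t ≠ 0) (κ : W) :
    ((wprod X (chevE6.hWord r t) : GL W F) : Matrix W W F).mulVec (e κ) = hval r t κ • e κ := by
  have hr' := (negR_lt ⟨r, hr⟩).1
  have hrr := (negR_lt ⟨r, hr⟩).2.1
  simp only at hr' hrr
  rw [hWord_eq r hr t ht, Matrix.add_mulVec, Matrix.add_mulVec, Matrix.one_mulVec,
    Matrix.smul_mulVec, Matrix.smul_mulVec, EE_mulVec_e r hr]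
  have h2 := EE_mulVec_e (F := F) (negR r) hr' κ
  rw [hrr] at h2
  rw [h2]
  have hex := (neg_facts ⟨r, hr⟩ κ).2
  simp only at hex
  unfold hval
  ext i
  by_cases h1 : sg r κ = 0
  · by_cases h3 : sg (negR r) κ = 0
    · simp [h1, h3]
    · simp only [h1, h3, ne_eq, not_true_eq_false, if_false, not_false_eq_true, if_true,
        smul_zero, add_zero, Pi.add_apply, Pi.smul_apply, smul_eq_mul, Pi.zero_apply]
      ring
  · have h3 := hex h1
    simp only [h1, h3, ne_eq, not_true_eq_false, if_false, not_false_eq_true, if_true,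
      smul_zero, add_zero, Pi.add_apply, Pi.smul_apply, smul_eq_mul, Pi.zero_apply]
    ring

/-- normalising one eigenvalue by a torus element. -/
theorem torus_step (g : GL W F) (d : W → F) (hd0 : ∀ κ, d κ ≠ 0)
    (hd : ∀ κ, (g : Matrix W W F).mulVec (e κ) = d κ • e κ) (r : ℕ) (hr : r < 72) (k : W)
    (hk : sg r k ≠ 0 ∨ sg (negR r) k ≠ 0) :
    ∃ h ∈ E F, ∃ d' : W → F, (∀ κ, d' κ ≠ 0) ∧
      (∀ κ, ((h * g : GL W F) : Matrix W W F).mulVec (e κ) = d' κ • e κ) ∧ d' k = 1 ∧
      ∀ κ, sg r κ = 0 → sg (negR r) κ = 0 → d' κ = d κ := by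
  have hex := (neg_facts ⟨r, hr⟩ k).2
  simp only at hex
  obtain ⟨t, ht, htk⟩ : ∃ t : F, t ≠ 0 ∧ hval r t k * d k = 1 := by
    by_cases h1 : sg r k = 0
    · have h3 : sg (negR r) k ≠ 0 := by tauto
      refine ⟨d k, hd0 k, ?_⟩
      unfold hval
      rw [if_neg (by simpa using h1), if_pos h3, inv_mul_cancel₀ (hd0 k)]
    · refine ⟨(d k)⁻¹, inv_ne_zero (hd0 k), ?_⟩
      unfold hval
      rw [if_pos h1, inv_mul_cancel₀ (hd0 k)]
  refine ⟨wprod X (chevE6.hWord r t), wprod_mem_E _, fun κ => hval r t κ * d κ, ?_, ?_, htk, ?_⟩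
  · intro κ
    refine mul_ne_zero ?_ (hd0 κ)
    unfold hval
    split_ifs
    · exact ht
    · exact inv_ne_zero ht
    · exact one_ne_zero
  · intro κ
    rw [Units.val_mul, ← Matrix.mulVec_mulVec, hd, Matrix.mulVec_smul, hWord_mulVec_e r hr t ht,
      smul_smul, mul_comm]
  · intro κ h1 h2
    simp only [hval, h1, h2, ne_eq, not_true_eq_false, if_false, one_mul]

/-- the monomials of the cubic are determined by their set of variables. -/
theorem triad_sep : ∀ k k' : Fin 45, k' ≠ k →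
    (tA k' ≠ tA k ∧ tA k' ≠ tB k ∧ tA k' ≠ tC k) ∨ (tB k' ≠ tA k ∧ tB k' ≠ tB k ∧ tB k' ≠ tC k) ∨
    (tC k' ≠ tA k ∧ tC k' ≠ tB k ∧ tC k' ≠ tC k) := by decide +kernel

theorem tS_cast_ne_zero (k : Fin 45) : ((tS k : ℤ) : F) ≠ 0 := by
  have : ∀ k : Fin 45, tS k = 1 ∨ tS k = -1 := by decide +kernel
  rcases this k with h | h <;> rw [h] <;> simp

theorem T27_triad (k : Fin 45) (x y z : F) :
    T27 (x • (e (tA k) : W → F) + y • e (tB k) + z • e (tC k)) = (tS k : F) * x * y * z := by
  obtain ⟨hab, hac, hbc⟩ := tABC_ne k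
  unfold T27
  rw [Finset.sum_eq_single k]
  · simp only [Pi.add_apply, Pi.smul_apply, smul_eq_mul, e_self, e_ne _ _ hab, e_ne _ _ hac,
      e_ne _ _ hbc, e_ne _ _ hab.symm, e_ne _ _ hac.symm, e_ne _ _ hbc.symm, mul_one, mul_zero,
      add_zero, zero_add]
    try ring
  · intro k' _ hk'
    rcases triad_sep k k' hk' with ⟨h1, h2, h3⟩ | ⟨h1, h2, h3⟩ | ⟨h1, h2, h3⟩
    · simp [e_ne _ _ h1, e_ne _ _ h2, e_ne _ _ h3]
    · simp [e_ne _ _ h1, e_ne _ _ h2, e_ne _ _ h3]
    · simp [e_ne _ _ h1, e_ne _ _ h2, e_ne _ _ h3]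
  · intro h
    exact absurd (Finset.mem_univ _) h

/-- the eigenvalues of a diagonal isometry multiply to one along each monomial. -/
theorem triad_prod (g : GL W F) (hg : g ∈ G27 F) (d : W → F)
    (hd : ∀ κ, (g : Matrix W W F).mulVec (e κ) = d κ • e κ) (a b c : W)
    (h : ∃ k, tA k = a ∧ tB k = b ∧ tC k = c) : d a * d b * d c = 1 := by
  obtain ⟨k, rfl, rfl, rfl⟩ := h
  have h1 := hg ((1 : F) • (e (tA k) : W → F) + (1 : F) • e (tB k) + (1 : F) • e (tC k))
  simp only [Units.coeHom_apply] at h1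
  rw [Matrix.mulVec_add, Matrix.mulVec_add, Matrix.mulVec_smul, Matrix.mulVec_smul,
    Matrix.mulVec_smul, hd, hd, hd, smul_smul, smul_smul, smul_smul, T27_triad, T27_triad] at h1
  have h2 : (tS k : F) * (d (tA k) * d (tB k) * d (tC k)) = (tS k : F) * 1 := by
    linear_combination h1
  exact mul_left_cancel₀ (tS_cast_ne_zero k) h2

theorem eq_one_of_mulVec_e (g : GL W F) (h : ∀ κ, (g : Matrix W W F).mulVec (e κ) = e κ) :
    g = 1 := by
  apply Units.ext
  ext i j
  have := congrFun (h j) i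
  unfold e at this
  rw [Matrix.mulVec_single_one] at this
  rw [Units.val_one, Matrix.one_apply]
  rw [Matrix.col_apply] at this
  rw [this, Pi.single_apply]

/-- diagonal isometries of the cubic form lie in `E`. -/
theorem diag_mem_E (g : GL W F) (hg : g ∈ G27 F) (hdiag : ∀ κ : W, Eig g κ) : g ∈ E F := by
  choose d0 hd0 hd0' using hdiag
  obtain ⟨h1, hh1, d1, hd1, hd1', hk1, hs1⟩ := torus_step (g) d0 hd0 hd0' 42 (by norm_num) 7 (by decide +kernel)
  have hg1 : h1 * g ∈ G27 F := mul_mem (E_le_G27 hh1) hg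
  have hk1_1 : d1 7 = 1 := hk1
  obtain ⟨h2, hh2, d2, hd2, hd2', hk2, hs2⟩ := torus_step (h1 * g) d1 hd1 hd1' 59 (by norm_num) 17 (by decide +kernel)
  have hg2 : h2 * (h1 * g) ∈ G27 F := mul_mem (E_le_G27 hh2) hg1
  have hk2_1 : d2 7 = 1 := by rw [hs2 7 (by decide +kernel) (by decide +kernel)]; exact hk1_1
  have hk2_2 : d2 17 = 1 := hk2
  obtain ⟨h3, hh3, d3, hd3, hd3', hk3, hs3⟩ := torus_step (h2 * (h1 * g)) d2 hd2 hd2' 54 (by norm_num) 15 (by decide +kernel)
  have hg3 : h3 * (h2 * (h1 * g)) ∈ G27 F := mul_mem (E_le_G27 hh3) hg2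
  have hk3_1 : d3 7 = 1 := by rw [hs3 7 (by decide +kernel) (by decide +kernel)]; exact hk2_1
  have hk3_2 : d3 17 = 1 := by rw [hs3 17 (by decide +kernel) (by decide +kernel)]; exact hk2_2
  have hk3_3 : d3 15 = 1 := hk3
  obtain ⟨h4, hh4, d4, hd4, hd4', hk4, hs4⟩ := torus_step (h3 * (h2 * (h1 * g))) d3 hd3 hd3' 48 (by norm_num) 3 (by decide +kernel)
  have hg4 : h4 * (h3 * (h2 * (h1 * g))) ∈ G27 F := mul_mem (E_le_G27 hh4) hg3
  have hk4_1 : d4 7 = 1 := by rw [hs4 7 (by decide +kernel) (by decide +kernel)]; exact hk3_1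
  have hk4_2 : d4 17 = 1 := by rw [hs4 17 (by decide +kernel) (by decide +kernel)]; exact hk3_2
  have hk4_3 : d4 15 = 1 := by rw [hs4 15 (by decide +kernel) (by decide +kernel)]; exact hk3_3
  have hk4_4 : d4 3 = 1 := hk4
  obtain ⟨h5, hh5, d5, hd5, hd5', hk5, hs5⟩ := torus_step (h4 * (h3 * (h2 * (h1 * g)))) d4 hd4 hd4' 41 (by norm_num) 12 (by decide +kernel)
  have hg5 : h5 * (h4 * (h3 * (h2 * (h1 * g)))) ∈ G27 F := mul_mem (E_le_G27 hh5) hg4
  have hk5_1 : d5 7 = 1 := by rw [hs5 7 (by decide +kernel) (by decide +kernel)]; exact hk4_1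
  have hk5_2 : d5 17 = 1 := by rw [hs5 17 (by decide +kernel) (by decide +kernel)]; exact hk4_2
  have hk5_3 : d5 15 = 1 := by rw [hs5 15 (by decide +kernel) (by decide +kernel)]; exact hk4_3
  have hk5_4 : d5 3 = 1 := by rw [hs5 3 (by decide +kernel) (by decide +kernel)]; exact hk4_4
  have hk5_5 : d5 12 = 1 := hk5
  obtain ⟨h6, hh6, d6, hd6, hd6', hk6, hs6⟩ := torus_step (h5 * (h4 * (h3 * (h2 * (h1 * g))))) d5 hd5 hd5' 43 (by norm_num) 21 (by decide +kernel)
  have hg6 : h6 * (h5 * (h4 * (h3 * (h2 * (h1 * g))))) ∈ G27 F := mul_mem (E_le_G27 hh6) hg5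
  have hk6_1 : d6 7 = 1 := by rw [hs6 7 (by decide +kernel) (by decide +kernel)]; exact hk5_1
  have hk6_2 : d6 17 = 1 := by rw [hs6 17 (by decide +kernel) (by decide +kernel)]; exact hk5_2
  have hk6_3 : d6 15 = 1 := by rw [hs6 15 (by decide +kernel) (by decide +kernel)]; exact hk5_3
  have hk6_4 : d6 3 = 1 := by rw [hs6 3 (by decide +kernel) (by decide +kernel)]; exact hk5_4
  have hk6_5 : d6 12 = 1 := by rw [hs6 12 (by decide +kernel) (by decide +kernel)]; exact hk5_5
  have hk6_6 : d6 21 = 1 := hk6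
  have tp := triad_prod (h6 * (h5 * (h4 * (h3 * (h2 * (h1 * g)))))) hg6 d6 hd6'
  have e7 : d6 7 = 1 := hk6_1
  have e17 : d6 17 = 1 := hk6_2
  have e15 : d6 15 = 1 := hk6_3
  have e3 : d6 3 = 1 := hk6_4
  have e12 : d6 12 = 1 := hk6_5
  have e21 : d6 21 = 1 := hk6_6
  have e2 : d6 2 = 1 := by
    have := tp 2 3 7 (by decide +kernel)
    rw [e3, e7] at this
    simpa using this
  have e10 : d6 10 = 1 := by
    have := tp 10 12 17 (by decide +kernel)
    rw [e12, e17] at this
    simpa using this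
  have e14 : d6 14 = 1 := by
    have := tp 10 14 15 (by decide +kernel)
    rw [e10, e15] at this
    simpa using this
  have e0 : d6 0 = 1 := by
    have := tp 0 10 21 (by decide +kernel)
    rw [e10, e21] at this
    simpa using this
  have e18 : d6 18 = 1 := by
    have := tp 2 15 18 (by decide +kernel)
    rw [e2, e15] at this
    simpa using this
  have e16 : d6 16 = 1 := by
    have := tp 2 16 21 (by decide +kernel)
    rw [e2, e21] at this
    simpa using this
  have e24 : d6 24 = 1 := by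
    have := tp 2 17 24 (by decide +kernel)
    rw [e2, e17] at this
    simpa using this
  have e22 : d6 22 = 1 := by
    have := tp 3 10 22 (by decide +kernel)
    rw [e3, e10] at this
    simpa using this
  have e5 : d6 5 = 1 := by
    have := tp 5 16 22 (by decide +kernel)
    rw [e16, e22] at this
    simpa using this
  have e25 : d6 25 = 1 := by
    have := tp 5 17 25 (by decide +kernel)
    rw [e5, e17] at this
    simpa using this
  have e20 : d6 20 = 1 := by
    have := tp 7 12 20 (by decide +kernel)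
    rw [e7, e12] at this
    simpa using this
  have e26 : d6 26 = 1 := by
    have := tp 7 14 26 (by decide +kernel)
    rw [e7, e14] at this
    simpa using this
  have e8 : d6 8 = 1 := by
    have := tp 8 15 20 (by decide +kernel)
    rw [e15, e20] at this
    simpa using this
  have e23 : d6 23 = 1 := by
    have := tp 8 16 23 (by decide +kernel)
    rw [e8, e16] at this
    simpa using this
  have e4 : d6 4 = 1 := by
    have := tp 0 4 8 (by decide +kernel)
    rw [e0, e8] at this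
    simpa using this
  have e1 : d6 1 = 1 := by
    have := tp 1 3 8 (by decide +kernel)
    rw [e3, e8] at this
    simpa using this
  have e6 : d6 6 = 1 := by
    have := tp 1 5 6 (by decide +kernel)
    rw [e1, e5] at this
    simpa using this
  have e9 : d6 9 = 1 := by
    have := tp 9 14 16 (by decide +kernel)
    rw [e14, e16] at this
    simpa using this
  have e11 : d6 11 = 1 := by
    have := tp 11 12 16 (by decide +kernel)
    rw [e12, e16] at this
    simpa using this
  have e13 : d6 13 = 1 := by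
    have := tp 11 13 15 (by decide +kernel)
    rw [e11, e15] at this
    simpa using this
  have e19 : d6 19 = 1 := by
    have := tp 19 21 26 (by decide +kernel)
    rw [e21, e26] at this
    simpa using this
  have hone : h6 * (h5 * (h4 * (h3 * (h2 * (h1 * g))))) = 1 := by
    apply eq_one_of_mulVec_e
    intro κ
    rw [hd6']
    have : d6 κ = 1 := by
      fin_cases κ
      · exact e0
      · exact e1
      · exact e2
      · exact e3
      · exact e4
      · exact e5
      · exact e6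
      · exact e7
      · exact e8
      · exact e9
      · exact e10
      · exact e11
      · exact e12
      · exact e13
      · exact e14
      · exact e15
      · exact e16
      · exact e17
      · exact e18
      · exact e19
      · exact e20
      · exact e21
      · exact e22
      · exact e23
      · exact e24
      · exact e25
      · exact e26
    rw [this, one_smul]
  have : g = h1⁻¹ * h2⁻¹ * h3⁻¹ * h4⁻¹ * h5⁻¹ * h6⁻¹ := by
    have h' : h6 * h5 * h4 * h3 * h2 * h1 * g = 1 := by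
      rw [← hone]
      simp only [mul_assoc]
    calc g = (h6 * h5 * h4 * h3 * h2 * h1)⁻¹ * (h6 * h5 * h4 * h3 * h2 * h1 * g) := by group
      _ = (h6 * h5 * h4 * h3 * h2 * h1)⁻¹ := by rw [h', mul_one]
      _ = h1⁻¹ * h2⁻¹ * h3⁻¹ * h4⁻¹ * h5⁻¹ * h6⁻¹ := by group
  rw [this]
  exact mul_mem (mul_mem (mul_mem (mul_mem (mul_mem (inv_mem hh1) (inv_mem hh2)) (inv_mem hh3))
    (inv_mem hh4)) (inv_mem hh5)) (inv_mem hh6)

/-- the isometry group of the cubic form on `F²⁷` is generated by the root elements. -/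
theorem G27_eq_E (hF : ∃ s : F, s ≠ 0 ∧ s ≠ 1) : G27 F = E F := by
  apply le_antisymm
  · intro g hg
    obtain ⟨u, hu, hdiag⟩ := exists_diag hF g hg
    have h1 : u * g ∈ E F := diag_mem_E (u * g) (mul_mem (E_le_G27 hu) hg) hdiag
    have : g = u⁻¹ * (u * g) := by group
    rw [this]
    exact mul_mem (inv_mem hu) h1
  · exact E_le_G27

end Cfsg.Agent.Lib.Helper18_E6Diag
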