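import Cfsg.Agent.Lib.Helper18_E6Defs

/-!
# E₆ on the 27-dimensional module: facts about the tables (all checked by evaluation)
-/

set_option autoImplicit false
set_option maxRecDepth 100000

namespace Cfsg.Agent.Lib.Helper18_E6Facts

open Cfsg.Agent.Lib.Helper18_E6Defs

/-- `E_r² = 0`. -/
theorem sq_zero : ∀ r : Fin 72, ∀ i : W, sg r i * sg r (src r i) = 0 := by decide +kernel

/-- The relations between `E_r` and `E_s` for linearly independent roots, in terms of the tables. -/
def R2fact (r s : ℕ) (i : W) : Prop :=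
  let a1 := sg r i * sg s (src r i)
  let a2 := sg s i * sg r (src s i)
  if sumR r s = 72 then a1 = a2 ∧ (a1 ≠ 0 → src s (src r i) = src r (src s i))
  else
    a1 - a2 = strN r s * sg (sumR r s) i ∧ (a1 ≠ 0 → src s (src r i) = src (sumR r s) i) ∧
    (a2 ≠ 0 → src r (src s i) = src (sumR r s) i) ∧
    a1 * sg r (src s (src r i)) = 0 ∧ a2 * sg s (src r (src s i)) = 0

instance (r s : ℕ) (i : W) : Decidable (R2fact r s i) := by unfold R2fact; infer_instance

theorem R2facts : ∀ r : Fin 72, ∀ s : Fin 72, s.val ≠ r.val → s.val ≠ negR r.val →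
    ∀ i : W, R2fact r s i := by
  decide +kernel

theorem sumR_lt : ∀ r : Fin 72, ∀ s : Fin 72, sumR r s ≠ 72 → sumR r s < 72 := by decide +kernel

theorem negR_lt : ∀ r : Fin 72, negR r < 72 ∧ negR (negR r) = r ∧ negR r ≠ r := by decide +kernel

/-- `E_r E_{-r} E_r = E_r`, and `E_r E_{-r}` is the projection onto the span of the `e_i` with `i - r` a weight. -/
theorem neg_facts : ∀ r : Fin 72, ∀ i : W,
    (sg r i ≠ 0 → sg r i * sg (negR r) (src r i) = 1 ∧ src (negR r) (src r i) = i) ∧
    (sg r i ≠ 0 → sg (negR r) i = 0) := by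
  decide +kernel

theorem sg_sq : ∀ r : Fin 72, ∀ i : W, sg r i = 0 ∨ sg r i = 1 ∨ sg r i = -1 := by decide +kernel

end Cfsg.Agent.Lib.Helper18_E6Facts
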