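import Cfsg.Agent.Lib.Helper18_E6Defs

/-!
# E₆ on the 27-dimensional module: facts about the incidence tables (all checked by evaluation)
-/

set_option autoImplicit false
set_option maxRecDepth 100000

namespace Cfsg.Agent.Lib.Helper18_E6Facts2

open Cfsg.Agent.Lib.Helper18_E6Defs

/-- the index `j` of the monomial through `c'` containing `κ` (if `κ` and `c'` are far). -/
def jOf (κ c' : W) : Fin 5 :=
  if pX c' 0 = κ ∨ pY c' 0 = κ then 0
  else if pX c' 1 = κ ∨ pY c' 1 = κ then 1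
  else if pX c' 2 = κ ∨ pY c' 2 = κ then 2
  else if pX c' 3 = κ ∨ pY c' 3 = κ then 3
  else 4

/-- the sign of the monomial through the far weights `κ` and `c'`. -/
def tsg (κ c' : W) : ℤ := pS c' (jOf κ c')

theorem rel_tri : ∀ a b : W, a = b ∨ nbr a b ∨ far a b := by decide +kernel

theorem nbr_irrefl : ∀ a : W, ¬ nbr a a := by decide +kernel

theorem far_irrefl : ∀ a : W, ¬ far a a := by decide +kernel

theorem nbr_symm : ∀ a b : W, nbr a b → nbr b a := by decide +kernel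

theorem far_symm : ∀ a b : W, far a b → far b a := by decide +kernel

theorem not_nbr_far : ∀ a b : W, nbr a b → ¬ far a b := by decide +kernel

theorem pXY_ne : ∀ c : W, ∀ j : Fin 5, pX c j ≠ pY c j := by decide +kernel

/-- the monomials through `c'` and `κ`. -/
theorem jOf_far : ∀ κ c' : W, far κ c' →
    ((pX c' (jOf κ c') = κ ∧ pY c' (jOf κ c') = third κ c') ∨
      (pY c' (jOf κ c') = κ ∧ pX c' (jOf κ c') = third κ c')) ∧
    (∀ j, j ≠ jOf κ c' → pX c' j ≠ κ ∧ pY c' j ≠ κ ∧ nbr (pX c' j) κ) ∧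
    (tsg κ c' = 1 ∨ tsg κ c' = -1) ∧
    far κ (third κ c') ∧ third κ (third κ c') = c' ∧ third c' κ = third κ c' := by
  decide +kernel

theorem jOf_not_far : ∀ κ c' : W, ¬ far κ c' → ∀ j, pX c' j ≠ κ ∧ pY c' j ≠ κ := by
  decide +kernel

/-- the root `ν - μ` for collinear weights. -/
theorem rootOf_facts : ∀ μ ν : W, nbr μ ν →
    rootOf μ ν < 72 ∧ src (rootOf μ ν) ν = μ ∧
    (sg (rootOf μ ν) ν = 1 ∨ sg (rootOf μ ν) ν = -1) ∧ sg (rootOf μ ν) μ = 0 ∧
    ∀ ν', nbr μ ν' → ν' ≠ ν → sg (rootOf μ ν) ν' = 0 := by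
  decide +kernel

/-- the monomials of the cubic have distinct variables. -/
theorem tABC_ne : ∀ k : Fin 45, tA k ≠ tB k ∧ tA k ≠ tC k ∧ tB k ≠ tC k := by decide +kernel

end Cfsg.Agent.Lib.Helper18_E6Facts2
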