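import Cfsg.Agent.Lib.Helper18_E6Transfer

/-!
# E₆ on the 27-dimensional module: the Steinberg group maps onto the isometry group of the cubic form
-/

set_option autoImplicit false
set_option maxRecDepth 100000

namespace Cfsg.Agent.Lib.Helper18_E6Final

open Cfsg Cfsg.Lie
open Cfsg.Agent.Lib.Helper18_E6Defs Cfsg.Agent.Lib.Helper18_E6Mon Cfsg.Agent.Lib.Helper18_E6Hom
open Cfsg.Agent.Lib.Helper18_E6Inv Cfsg.Agent.Lib.Helper18_E6Sing Cfsg.Agent.Lib.Helper18_E6Diag
open Cfsg.Agent.Lib.Helper18_E6Transfer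

variable {F : Type*} [Field F]

/-- two root elements that do not commute. -/
theorem X_not_comm : (X 56 (1 : F)) * X 42 1 ≠ X 42 1 * X 56 1 := by
  intro h
  have h1 := congrArg (fun g : GL W F => (g : Matrix W W F)) h
  simp only [Units.val_mul, X_val] at h1
  unfold Xmat at h1
  rw [one_smul, one_smul] at h1
  have h2 : Emat F 56 * Emat F 42 - Emat F 42 * Emat F 56 = 0 := by
    have : (1 + Emat F 56) * (1 + Emat F 42) - (1 + Emat F 42) * (1 + Emat F 56) = 0 := by
      rw [h1, sub_self]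
    rw [← this]
    noncomm_ring
  obtain ⟨h3, -, -⟩ := Emat_bracket (F := F) 56 42 (by norm_num) (by norm_num) (by norm_num)
    (by decide +kernel) (by decide +kernel)
  rw [h2] at h3
  have e1 : sumR 56 42 = 57 := by decide +kernel
  have e2 : strN 56 42 = -1 := by decide +kernel
  have e3 : src 57 2 = 14 := by decide +kernel
  have e4 : sg 57 2 = 1 := by decide +kernel
  rw [e1, e2] at h3
  have h4 := congrFun (congrFun h3 2) 14
  rw [Matrix.zero_apply, Matrix.smul_apply, Emat_eq, Mon_apply, e3, if_pos rfl, e4] at h4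
  simp at h4

/-- the Steinberg group of type `E₆` maps onto the isometry group of the cubic form of `Def_E6`,
which is not abelian. -/
theorem exists_hom_univ (hF : ∃ s : F, s ≠ 0 ∧ s ≠ 1) :
    (∃ ψ : chevE6.SteinbergGroup F →* ↥(E6univ F), Function.Surjective ψ) ∧
      ∃ x y : ↥(E6univ F), x * y ≠ y * x := by
  obtain ⟨φ, -, hφr⟩ := exists_hom (F := F)
  have hGE := G27_eq_E hF
  have hmem : ∀ x, φ x ∈ G27 F := by
    intro x
    rw [hGE, ← hφr]
    exact ⟨x, rfl⟩
  let φ' : chevE6.SteinbergGroup F →* ↥(G27 F) := φ.codRestrict (G27 F) hmem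
  have hφ' : Function.Surjective φ' := by
    rintro ⟨g, hg⟩
    have : g ∈ φ.range := by rw [hφr, ← hGE]; exact hg
    obtain ⟨x, rfl⟩ := this
    exact ⟨x, rfl⟩
  refine ⟨⟨((univEquiv F).symm : ↥(G27 F) →* ↥(E6univ F)).comp φ',
    (univEquiv F).symm.surjective.comp hφ'⟩, ?_⟩
  have hx : X 56 (1 : F) ∈ G27 F := X_mem_funStab 56 1
  have hy : X 42 (1 : F) ∈ G27 F := X_mem_funStab 42 1
  refine ⟨(univEquiv F).symm ⟨_, hx⟩, (univEquiv F).symm ⟨_, hy⟩, ?_⟩
  rw [← map_mul, ← map_mul]
  intro h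
  have h' := (univEquiv F).symm.injective h
  exact X_not_comm (congrArg Subtype.val h')

end Cfsg.Agent.Lib.Helper18_E6Final
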