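import Cfsg.Agent.Lib.Helper18_E6Stage

/-!
# E₆ on the 27-dimensional module: every isometry of the cubic form is, modulo root elements, diagonal
-/

set_option autoImplicit false
set_option maxRecDepth 100000

namespace Cfsg.Agent.Lib.Helper18_E6Frame

open Cfsg.Agent.Lib.Helper18_E6Defs Cfsg.Agent.Lib.Helper18_E6Hom Cfsg.Agent.Lib.Helper18_E6Inv
open Cfsg.Agent.Lib.Helper18_E6Sing Cfsg.Agent.Lib.Helper18_E6Facts2 Cfsg.Agent.Lib.Helper18_E6Loc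
open Cfsg.Agent.Lib.Helper18_E6Clear Cfsg.Agent.Lib.Helper18_E6Stage

variable {F : Type*} [Field F]

theorem stage0 (hF : ∃ s : F, s ≠ 0 ∧ s ≠ 1) (g : GL W F) (hg : g ∈ G27 F) :
    ∃ u ∈ E F, ∀ κ ∈ ([8] : List W), Eig (u * g) κ := by
  have hclear : ∀ ν, nbr (8 : W) ν → allowed [] 8 ν → fixesAll [] (rootOf 8 ν) := by
    decide +kernel
  have hreach : ∀ l : W, (allowed [] 8 l ∧ (fun _ => True) l) → l ≠ 8 → fixesAll [] ((![68, 65, 55, 68, 65, 38, 68, 65, 0, 49, 41, 66, 52, 45, 69, 49, 41, 66, 60, 70, 60, 63, 71, 63, 36, 54, 36] : W → ℕ) l) ∧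
      ∃ m, (allowed [] 8 m ∧ (fun _ => True) m) ∧ (![2, 2, 1, 2, 2, 1, 1, 1, 0, 1, 1, 1, 1, 1, 1, 2, 2, 2, 1, 1, 2, 1, 1, 2, 1, 1, 2] : W → ℕ) m < (![2, 2, 1, 2, 2, 1, 1, 1, 0, 1, 1, 1, 1, 1, 1, 2, 2, 2, 1, 1, 2, 1, 1, 2, 1, 1, 2] : W → ℕ) l ∧
        src ((![68, 65, 55, 68, 65, 38, 68, 65, 0, 49, 41, 66, 52, 45, 69, 49, 41, 66, 60, 70, 60, 63, 71, 63, 36, 54, 36] : W → ℕ) l) m = l ∧ sg ((![68, 65, 55, 68, 65, 38, 68, 65, 0, 49, 41, 66, 52, 45, 69, 49, 41, 66, 60, 70, 60, 63, 71, 63, 36, 54, 36] : W → ℕ) l) m ≠ 0 := by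
    decide +kernel
  obtain ⟨b, hb⟩ := mulVec_e_ne_zero g (8 : W)
  exact stageA hF [] 8 hclear (fun _ => True) _ _ hreach g hg (by simp) ⟨b, trivial, hb⟩

theorem stage1 (hF : ∃ s : F, s ≠ 0 ∧ s ≠ 1) (g : GL W F) (hg : g ∈ G27 F) (hS : ∀ κ ∈ ([8] : List W), Eig g κ) :
    ∃ u ∈ E F, ∀ κ ∈ ([17, 8] : List W), Eig (u * g) κ := by
  have hclear : ∀ ν, nbr (17 : W) ν → allowed [8] 17 ν → fixesAll [8] (rootOf 17 ν) := by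
    decide +kernel
  have hreach : ∀ l : W, (allowed [8] 17 l ∧ (fun l => far 8 l) l) → l ≠ 17 → fixesAll [8] ((![15, 14, 0, 7, 4, 0, 0, 0, 0, 0, 0, 0, 0, 0, 0, 12, 9, 0, 0, 0, 10, 0, 0, 13, 0, 0, 4] : W → ℕ) l) ∧
      ∃ m, (allowed [8] 17 m ∧ (fun l => far 8 l) m) ∧ (![1, 1, 0, 1, 1, 0, 0, 0, 0, 0, 0, 0, 0, 0, 0, 1, 1, 0, 0, 0, 1, 0, 0, 1, 0, 0, 2] : W → ℕ) m < (![1, 1, 0, 1, 1, 0, 0, 0, 0, 0, 0, 0, 0, 0, 0, 1, 1, 0, 0, 0, 1, 0, 0, 1, 0, 0, 2] : W → ℕ) l ∧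
        src ((![15, 14, 0, 7, 4, 0, 0, 0, 0, 0, 0, 0, 0, 0, 0, 12, 9, 0, 0, 0, 10, 0, 0, 13, 0, 0, 4] : W → ℕ) l) m = l ∧ sg ((![15, 14, 0, 7, 4, 0, 0, 0, 0, 0, 0, 0, 0, 0, 0, 12, 9, 0, 0, 0, 10, 0, 0, 13, 0, 0, 4] : W → ℕ) l) m ≠ 0 := by
    decide +kernel
  obtain ⟨b, hb1, hb2⟩ := exists_far_ne_zero hF g hg 8 17 (hS 8 (by decide)) (by decide +kernel)
  exact stageA hF [8] 17 hclear (fun l => far 8 l) _ _ hreach g hg hS ⟨b, hb1, hb2⟩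

theorem stage2 (hF : ∃ s : F, s ≠ 0 ∧ s ≠ 1) (g : GL W F) (hg : g ∈ G27 F) (hS : ∀ κ ∈ ([17, 8] : List W), Eig g κ) :
    ∃ u ∈ E F, ∀ κ ∈ ([26, 17, 8] : List W), Eig (u * g) κ := by
  have hclear : ∀ ν, nbr (26 : W) ν → allowed [17, 8] 26 ν → fixesAll [17, 8] (rootOf 26 ν) := by
    decide +kernel
  exact stageB hF [17, 8] 26 hclear 17 8 (by decide) (by decide) (by decide +kernel) (by decide +kernel) g hg hS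

theorem stage3 (hF : ∃ s : F, s ≠ 0 ∧ s ≠ 1) (g : GL W F) (hg : g ∈ G27 F) (hS : ∀ κ ∈ ([26, 17, 8] : List W), Eig g κ) :
    ∃ u ∈ E F, ∀ κ ∈ ([0, 26, 17, 8] : List W), Eig (u * g) κ := by
  have hclear : ∀ ν, nbr (0 : W) ν → allowed [26, 17, 8] 0 ν → fixesAll [26, 17, 8] (rootOf 0 ν) := by
    decide +kernel
  have hreach : ∀ l : W, (allowed [26, 17, 8] 0 l ∧ (fun _ => True) l) → l ≠ 0 → fixesAll [26, 17, 8] ((![0, 29, 0, 18, 18, 0, 0, 0, 0, 0, 0, 0, 0, 0, 0, 27, 20, 0, 0, 0, 21, 0, 0, 28, 0, 0, 0] : W → ℕ) l) ∧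
      ∃ m, (allowed [26, 17, 8] 0 m ∧ (fun _ => True) m) ∧ (![0, 1, 0, 1, 2, 0, 0, 0, 0, 0, 0, 0, 0, 0, 0, 1, 1, 0, 0, 0, 1, 0, 0, 1, 0, 0, 0] : W → ℕ) m < (![0, 1, 0, 1, 2, 0, 0, 0, 0, 0, 0, 0, 0, 0, 0, 1, 1, 0, 0, 0, 1, 0, 0, 1, 0, 0, 0] : W → ℕ) l ∧
        src ((![0, 29, 0, 18, 18, 0, 0, 0, 0, 0, 0, 0, 0, 0, 0, 27, 20, 0, 0, 0, 21, 0, 0, 28, 0, 0, 0] : W → ℕ) l) m = l ∧ sg ((![0, 29, 0, 18, 18, 0, 0, 0, 0, 0, 0, 0, 0, 0, 0, 27, 20, 0, 0, 0, 21, 0, 0, 28, 0, 0, 0] : W → ℕ) l) m ≠ 0 := by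
    decide +kernel
  obtain ⟨b, hb⟩ := mulVec_e_ne_zero g (0 : W)
  exact stageA hF [26, 17, 8] 0 hclear (fun _ => True) _ _ hreach g hg hS ⟨b, trivial, hb⟩

theorem stage4 (hF : ∃ s : F, s ≠ 0 ∧ s ≠ 1) (g : GL W F) (hg : g ∈ G27 F) (hS : ∀ κ ∈ ([0, 26, 17, 8] : List W), Eig g κ) :
    ∃ u ∈ E F, ∀ κ ∈ ([4, 0, 26, 17, 8] : List W), Eig (u * g) κ := by
  have hclear : ∀ ν, nbr (4 : W) ν → allowed [0, 26, 17, 8] 4 ν → fixesAll [0, 26, 17, 8] (rootOf 4 ν) := by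
    decide +kernel
  exact stageB hF [0, 26, 17, 8] 4 hclear 0 8 (by decide) (by decide) (by decide +kernel) (by decide +kernel) g hg hS

theorem stage5 (hF : ∃ s : F, s ≠ 0 ∧ s ≠ 1) (g : GL W F) (hg : g ∈ G27 F) (hS : ∀ κ ∈ ([4, 0, 26, 17, 8] : List W), Eig g κ) :
    ∃ u ∈ E F, ∀ κ ∈ ([1, 4, 0, 26, 17, 8] : List W), Eig (u * g) κ := by
  have hclear : ∀ ν, nbr (1 : W) ν → allowed [4, 0, 26, 17, 8] 1 ν → fixesAll [4, 0, 26, 17, 8] (rootOf 1 ν) := by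
    decide +kernel
  have hreach : ∀ l : W, (allowed [4, 0, 26, 17, 8] 1 l ∧ (fun _ => True) l) → l ≠ 1 → fixesAll [4, 0, 26, 17, 8] ((![0, 0, 0, 24, 0, 0, 0, 0, 0, 0, 0, 0, 0, 0, 0, 31, 23, 0, 0, 0, 24, 0, 0, 32, 0, 0, 0] : W → ℕ) l) ∧
      ∃ m, (allowed [4, 0, 26, 17, 8] 1 m ∧ (fun _ => True) m) ∧ (![0, 0, 0, 2, 0, 0, 0, 0, 0, 0, 0, 0, 0, 0, 0, 1, 1, 0, 0, 0, 1, 0, 0, 1, 0, 0, 0] : W → ℕ) m < (![0, 0, 0, 2, 0, 0, 0, 0, 0, 0, 0, 0, 0, 0, 0, 1, 1, 0, 0, 0, 1, 0, 0, 1, 0, 0, 0] : W → ℕ) l ∧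
        src ((![0, 0, 0, 24, 0, 0, 0, 0, 0, 0, 0, 0, 0, 0, 0, 31, 23, 0, 0, 0, 24, 0, 0, 32, 0, 0, 0] : W → ℕ) l) m = l ∧ sg ((![0, 0, 0, 24, 0, 0, 0, 0, 0, 0, 0, 0, 0, 0, 0, 31, 23, 0, 0, 0, 24, 0, 0, 32, 0, 0, 0] : W → ℕ) l) m ≠ 0 := by
    decide +kernel
  obtain ⟨b, hb⟩ := mulVec_e_ne_zero g (1 : W)
  exact stageA hF [4, 0, 26, 17, 8] 1 hclear (fun _ => True) _ _ hreach g hg hS ⟨b, trivial, hb⟩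

theorem stage6 (hF : ∃ s : F, s ≠ 0 ∧ s ≠ 1) (g : GL W F) (hg : g ∈ G27 F) (hS : ∀ κ ∈ ([1, 4, 0, 26, 17, 8] : List W), Eig g κ) :
    ∃ u ∈ E F, ∀ κ ∈ ([3, 1, 4, 0, 26, 17, 8] : List W), Eig (u * g) κ := by
  have hclear : ∀ ν, nbr (3 : W) ν → allowed [1, 4, 0, 26, 17, 8] 3 ν → fixesAll [1, 4, 0, 26, 17, 8] (rootOf 3 ν) := by
    decide +kernel
  exact stageB hF [1, 4, 0, 26, 17, 8] 3 hclear 1 8 (by decide) (by decide) (by decide +kernel) (by decide +kernel) g hg hS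

theorem stage7 (hF : ∃ s : F, s ≠ 0 ∧ s ≠ 1) (g : GL W F) (hg : g ∈ G27 F) (hS : ∀ κ ∈ ([3, 1, 4, 0, 26, 17, 8] : List W), Eig g κ) :
    ∃ u ∈ E F, ∀ κ ∈ ([15, 3, 1, 4, 0, 26, 17, 8] : List W), Eig (u * g) κ := by
  have hclear : ∀ ν, nbr (15 : W) ν → allowed [3, 1, 4, 0, 26, 17, 8] 15 ν → fixesAll [3, 1, 4, 0, 26, 17, 8] (rootOf 15 ν) := by
    decide +kernel
  have hreach : ∀ l : W, (allowed [3, 1, 4, 0, 26, 17, 8] 15 l ∧ (fun _ => True) l) → l ≠ 15 → fixesAll [3, 1, 4, 0, 26, 17, 8] ((![0, 0, 0, 0, 0, 0, 0, 0, 0, 0, 0, 0, 0, 0, 0, 0, 25, 0, 0, 0, 37, 0, 0, 37, 0, 0, 0] : W → ℕ) l) ∧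
      ∃ m, (allowed [3, 1, 4, 0, 26, 17, 8] 15 m ∧ (fun _ => True) m) ∧ (![0, 0, 0, 0, 0, 0, 0, 0, 0, 0, 0, 0, 0, 0, 0, 0, 1, 0, 0, 0, 2, 0, 0, 1, 0, 0, 0] : W → ℕ) m < (![0, 0, 0, 0, 0, 0, 0, 0, 0, 0, 0, 0, 0, 0, 0, 0, 1, 0, 0, 0, 2, 0, 0, 1, 0, 0, 0] : W → ℕ) l ∧
        src ((![0, 0, 0, 0, 0, 0, 0, 0, 0, 0, 0, 0, 0, 0, 0, 0, 25, 0, 0, 0, 37, 0, 0, 37, 0, 0, 0] : W → ℕ) l) m = l ∧ sg ((![0, 0, 0, 0, 0, 0, 0, 0, 0, 0, 0, 0, 0, 0, 0, 0, 25, 0, 0, 0, 37, 0, 0, 37, 0, 0, 0] : W → ℕ) l) m ≠ 0 := by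
    decide +kernel
  obtain ⟨b, hb⟩ := mulVec_e_ne_zero g (15 : W)
  exact stageA hF [3, 1, 4, 0, 26, 17, 8] 15 hclear (fun _ => True) _ _ hreach g hg hS ⟨b, trivial, hb⟩

theorem stage8 (hF : ∃ s : F, s ≠ 0 ∧ s ≠ 1) (g : GL W F) (hg : g ∈ G27 F) (hS : ∀ κ ∈ ([15, 3, 1, 4, 0, 26, 17, 8] : List W), Eig g κ) :
    ∃ u ∈ E F, ∀ κ ∈ ([20, 15, 3, 1, 4, 0, 26, 17, 8] : List W), Eig (u * g) κ := by
  have hclear : ∀ ν, nbr (20 : W) ν → allowed [15, 3, 1, 4, 0, 26, 17, 8] 20 ν → fixesAll [15, 3, 1, 4, 0, 26, 17, 8] (rootOf 20 ν) := by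
    decide +kernel
  exact stageB hF [15, 3, 1, 4, 0, 26, 17, 8] 20 hclear 15 8 (by decide) (by decide) (by decide +kernel) (by decide +kernel) g hg hS

/-- the first nine weights. -/
theorem exists_nine (hF : ∃ s : F, s ≠ 0 ∧ s ≠ 1) (g : GL W F) (hg : g ∈ G27 F) :
    ∃ u ∈ E F, ∀ κ ∈ ([20, 15, 3, 1, 4, 0, 26, 17, 8] : List W), Eig (u * g) κ := by
  obtain ⟨u0, hu0, h0⟩ := stage0 hF g hg
  have hg0 : u0 * g ∈ G27 F := mul_mem (E_le_G27 hu0) hg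
  set G0 := u0 * g with hG0
  obtain ⟨u1, hu1, h1⟩ := stage1 hF G0 hg0 h0
  have hg1 : u1 * G0 ∈ G27 F := mul_mem (E_le_G27 hu1) hg0
  set G1 := u1 * G0 with hG1
  obtain ⟨u2, hu2, h2⟩ := stage2 hF G1 hg1 h1
  have hg2 : u2 * G1 ∈ G27 F := mul_mem (E_le_G27 hu2) hg1
  set G2 := u2 * G1 with hG2
  obtain ⟨u3, hu3, h3⟩ := stage3 hF G2 hg2 h2
  have hg3 : u3 * G2 ∈ G27 F := mul_mem (E_le_G27 hu3) hg2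
  set G3 := u3 * G2 with hG3
  obtain ⟨u4, hu4, h4⟩ := stage4 hF G3 hg3 h3
  have hg4 : u4 * G3 ∈ G27 F := mul_mem (E_le_G27 hu4) hg3
  set G4 := u4 * G3 with hG4
  obtain ⟨u5, hu5, h5⟩ := stage5 hF G4 hg4 h4
  have hg5 : u5 * G4 ∈ G27 F := mul_mem (E_le_G27 hu5) hg4
  set G5 := u5 * G4 with hG5
  obtain ⟨u6, hu6, h6⟩ := stage6 hF G5 hg5 h5
  have hg6 : u6 * G5 ∈ G27 F := mul_mem (E_le_G27 hu6) hg5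
  set G6 := u6 * G5 with hG6
  obtain ⟨u7, hu7, h7⟩ := stage7 hF G6 hg6 h6
  have hg7 : u7 * G6 ∈ G27 F := mul_mem (E_le_G27 hu7) hg6
  set G7 := u7 * G6 with hG7
  obtain ⟨u8, hu8, h8⟩ := stage8 hF G7 hg7 h7
  have hg8 : u8 * G7 ∈ G27 F := mul_mem (E_le_G27 hu8) hg7
  set G8 := u8 * G7 with hG8
  refine ⟨u8 * u7 * u6 * u5 * u4 * u3 * u2 * u1 * u0, ?_, ?_⟩
  · exact mul_mem (mul_mem (mul_mem (mul_mem (mul_mem (mul_mem (mul_mem (mul_mem hu8 hu7) hu6) hu5) hu4) hu3) hu2) hu1) hu0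
  · have : u8 * u7 * u6 * u5 * u4 * u3 * u2 * u1 * u0 * g = G8 := by
      simp only [hG8, hG7, hG6, hG5, hG4, hG3, hG2, hG1, hG0, mul_assoc]
    rw [this]
    exact h8

/-- every isometry is, modulo root elements, diagonal. -/
theorem exists_diag (hF : ∃ s : F, s ≠ 0 ∧ s ≠ 1) (g : GL W F) (hg : g ∈ G27 F) :
    ∃ u ∈ E F, ∀ κ : W, Eig (u * g) κ := by
  obtain ⟨u, hu, h9⟩ := exists_nine hF g hg
  refine ⟨u, hu, ?_⟩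
  have hg' : u * g ∈ G27 F := mul_mem (E_le_G27 hu) hg
  have h16 : ∀ μ ∈ ([2, 5, 6, 7, 9, 10, 11, 12, 13, 14, 18, 19, 21, 22, 24, 25] : List W), Eig (u * g) μ := by
    intro μ hμ
    refine forced hF [20, 15, 3, 1, 4, 0, 26, 17, 8] μ ?_ (u * g) hg' h9
    revert μ
    decide +kernel
  have h25 : ∀ κ ∈ ([2, 5, 6, 7, 9, 10, 11, 12, 13, 14, 18, 19, 21, 22, 24, 25, 20, 15, 3, 1, 4, 0, 26, 17, 8] : List W), Eig (u * g) κ := by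
    intro κ hκ
    rcases List.mem_append.mp (show κ ∈ ([2, 5, 6, 7, 9, 10, 11, 12, 13, 14, 18, 19, 21, 22, 24, 25] : List W) ++ [20, 15, 3, 1, 4, 0, 26, 17, 8] from hκ) with h | h
    · exact h16 κ h
    · exact h9 κ h
  have h2 : ∀ μ ∈ ([16, 23] : List W), Eig (u * g) μ := by
    intro μ hμ
    refine forced hF [2, 5, 6, 7, 9, 10, 11, 12, 13, 14, 18, 19, 21, 22, 24, 25, 20, 15, 3, 1, 4, 0, 26, 17, 8] μ ?_ (u * g) hg' h25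
    revert μ
    decide +kernel
  intro κ
  have hall : ∀ κ : W, κ ∈ ([16, 23] : List W) ∨ κ ∈ ([2, 5, 6, 7, 9, 10, 11, 12, 13, 14, 18, 19, 21, 22, 24, 25, 20, 15, 3, 1, 4, 0, 26, 17, 8] : List W) := by decide
  rcases hall κ with h | h
  · exact h2 κ h
  · exact h25 κ h

end Cfsg.Agent.Lib.Helper18_E6Frame
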