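import Mathlib

/-!
# Some identities in an algebra, used for the Steinberg relations of root elements `1 + t • E_r`
-/

set_option autoImplicit false

namespace Cfsg.Agent.Lib.Helper18_E6Ring

variable {F R : Type*} [Field F] [Ring R] [Algebra F R]

/-- the commutator formula when `a b a = 0 = b a b`. -/
theorem comm_formula (a b : R) (ha : a * a = 0) (hb : b * b = 0) (haba : a * b * a = 0)
    (hbab : b * a * b = 0) :
    (1 - b) * (1 - a) * (1 + b) * (1 + a) = 1 - (a * b - b * a) := by
  have h1 : (1 - b) * (1 - a) * (1 + b) = 1 - a + b * a - a * b - b * b + b * a * b := by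
    noncomm_ring
  rw [h1, hb, hbab]
  have h2 : (1 - a + b * a - a * b - 0 + 0) * (1 + a) =
      1 + b * a - a * b - a * a + b * (a * a) - a * b * a := by noncomm_ring
  rw [h2, ha, haba]
  noncomm_ring

theorem comm_formula_smul (a b : R) (ha : a * a = 0) (hb : b * b = 0) (haba : a * b * a = 0)
    (hbab : b * a * b = 0) (t u : F) :
    (1 - u • b) * (1 - t • a) * (1 + u • b) * (1 + t • a) = 1 - (t * u) • (a * b - b * a) := by
  have := comm_formula (t • a) (u • b) (by simp [smul_mul_smul_comm, ha])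
    (by simp [smul_mul_smul_comm, hb])
    (by simp only [smul_mul_assoc, mul_smul_comm, haba, smul_zero])
    (by simp only [smul_mul_assoc, mul_smul_comm, hbab, smul_zero])
  rw [this]
  simp only [smul_mul_assoc, mul_smul_comm, smul_smul, smul_sub]
  rw [mul_comm u t]

/-- if `a` and `b` commute, so do `1 + t • a` and `1 + u • b`. -/
theorem comm_trivial_smul (a b : R) (hab : a * b = b * a) (hb : b * b = 0) (ha : a * a = 0)
    (t u : F) :
    (1 - u • b) * (1 - t • a) * (1 + u • b) * (1 + t • a) = 1 := by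
  have h1 : (1 - u • b) * (1 - t • a) = (1 - t • a) * (1 - u • b) := by
    simp only [mul_sub, sub_mul, mul_one, one_mul, smul_mul_assoc, mul_smul_comm, hab]
    module
  have h2 : (1 - u • b) * (1 + u • b) = 1 := by
    simp only [mul_add, sub_mul, mul_one, one_mul, smul_mul_assoc, mul_smul_comm, hb, smul_zero]
    module
  have h3 : (1 - t • a) * (1 + t • a) = 1 := by
    simp only [mul_add, sub_mul, mul_one, one_mul, smul_mul_assoc, mul_smul_comm, ha, smul_zero]
    module
  rw [h1, mul_assoc (1 - t • a), h2, mul_one, h3]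

/-- `n(t) = x_r(t) x_{-r}(-t⁻¹) x_r(t)`. -/
theorem n_formula (a b : R) (ha : a * a = 0) (haba : a * b * a = a)
    (t : F) (ht : t ≠ 0) :
    (1 + t • a) * (1 + (-t⁻¹) • b) * (1 + t • a) = 1 - a * b - b * a + t • a - t⁻¹ • b := by
  have h1 : (1 + t • a) * (1 + (-t⁻¹) • b) * (1 + t • a) =
      1 + t • a + t • a + (-t⁻¹) • b + (t * (-t⁻¹)) • (a * b) + ((-t⁻¹) * t) • (b * a) +
      (t * t) • (a * a) + (t * (-t⁻¹) * t) • (a * b * a) := by
    simp only [mul_add, add_mul, mul_one, one_mul, smul_mul_assoc, mul_smul_comm, mul_assoc]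
    module
  rw [h1, ha, haba]
  have e1 : t * (-t⁻¹) = -1 := by field_simp
  have e2 : (-t⁻¹) * t = -1 := by field_simp
  rw [e1, e2]
  simp only [neg_smul, one_smul, smul_zero, add_zero, neg_mul, one_mul]
  module

/-- `h(t) = n(t) n(-1)`. -/
theorem h_formula (a b : R) (ha : a * a = 0) (hb : b * b = 0) (haba : a * b * a = a)
    (hbab : b * a * b = b) (t : F) :
    (1 - a * b - b * a + t • a - t⁻¹ • b) * (1 - a * b - b * a - a + b) =
      1 + (t - 1) • (a * b) + (t⁻¹ - 1) • (b * a) := by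
  have aP : a * (a * b) = 0 := by rw [← mul_assoc, ha, zero_mul]
  have aQ : a * (b * a) = a := by rw [← mul_assoc, haba]
  have bP : b * (a * b) = b := by rw [← mul_assoc, hbab]
  have bQ : b * (b * a) = 0 := by rw [← mul_assoc, hb, zero_mul]
  have PP : a * b * (a * b) = a * b := by rw [← mul_assoc, haba]
  have QQ : b * a * (b * a) = b * a := by rw [← mul_assoc, hbab]
  have PQ : a * b * (b * a) = 0 := by rw [mul_assoc, bQ, mul_zero]
  have QP : b * a * (a * b) = 0 := by rw [mul_assoc, aP, mul_zero]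
  have Pa : a * b * a = a := haba
  have Pb : a * b * b = 0 := by rw [mul_assoc, hb, mul_zero]
  have Qa : b * a * a = 0 := by rw [mul_assoc, ha, mul_zero]
  have Qb : b * a * b = b := hbab
  simp only [mul_add, add_mul, mul_sub, sub_mul, mul_one, one_mul, smul_mul_assoc,
    aP, aQ, bP, bQ, PP, QQ, PQ, QP, Pa, Pb, Qa, Qb, ha, hb, smul_zero, sub_zero, add_zero,
    sub_smul, one_smul]
  module

/-- `h(t₁) h(t₂) = h(t₁ t₂)`. -/
theorem h_mul (a b : R) (ha : a * a = 0) (hb : b * b = 0) (haba : a * b * a = a)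
    (hbab : b * a * b = b) (t₁ t₂ : F) (h₁ : t₁ ≠ 0) (h₂ : t₂ ≠ 0) :
    (1 + (t₁ - 1) • (a * b) + (t₁⁻¹ - 1) • (b * a)) * (1 + (t₂ - 1) • (a * b) + (t₂⁻¹ - 1) • (b * a)) =
      1 + (t₁ * t₂ - 1) • (a * b) + ((t₁ * t₂)⁻¹ - 1) • (b * a) := by
  have PP : a * b * (a * b) = a * b := by rw [← mul_assoc, haba]
  have QQ : b * a * (b * a) = b * a := by rw [← mul_assoc, hbab]
  have PQ : a * b * (b * a) = 0 := by rw [mul_assoc, ← mul_assoc b b, hb, zero_mul, mul_zero]
  have QP : b * a * (a * b) = 0 := by rw [mul_assoc, ← mul_assoc a a, ha, zero_mul, mul_zero]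
  simp only [mul_add, add_mul, mul_one, one_mul, smul_mul_assoc, mul_smul_comm, PP, QQ, PQ, QP,
    smul_zero, add_zero]
  rw [mul_inv]
  module

end Cfsg.Agent.Lib.Helper18_E6Ring
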