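import Cfsg.Agent.Lib.Helper18_E6Mon
import Cfsg.Agent.Lib.Helper18_E6Ring
import Cfsg.Agent.Lib.Helper18_StLift
import Cfsg.Prelude.Def_LieChev

/-!
# E₆ on the 27-dimensional module: the root elements satisfy Steinberg's relations
-/

set_option autoImplicit false
set_option maxRecDepth 100000

namespace Cfsg.Agent.Lib.Helper18_E6Hom

open Cfsg Cfsg.Lie
open Cfsg.Agent.Lib.Helper18_E6Defs Cfsg.Agent.Lib.Helper18_E6Facts Cfsg.Agent.Lib.Helper18_E6Mon
open Cfsg.Agent.Lib.Helper18_E6Ring Cfsg.Agent.Lib.Helper18_StLift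

variable {F : Type*} [Field F]

theorem Xmat_mul (r : ℕ) (t u : F) : Xmat r t * Xmat r u = Xmat r (t + u) := by
  unfold Xmat
  simp only [mul_add, add_mul, mul_one, one_mul, smul_mul_assoc, mul_smul_comm, Emat_sq,
    smul_zero, add_zero, add_smul]
  abel

theorem Xmat_zero (r : ℕ) : Xmat r (0 : F) = 1 := by
  unfold Xmat
  simp

/-- the root element `x_r(t)` as an invertible matrix. -/
def X (r : ℕ) (t : F) : GL W F :=
  ⟨Xmat r t, Xmat r (-t), by rw [Xmat_mul, add_neg_cancel, Xmat_zero],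
    by rw [Xmat_mul, neg_add_cancel, Xmat_zero]⟩

@[simp] theorem X_val (r : ℕ) (t : F) : ((X r t : GL W F) : Matrix W W F) = Xmat r t := rfl

theorem X_inv (r : ℕ) (t : F) : (X r t)⁻¹ = X r (-t) := by
  ext1
  rfl

theorem X_mul (r : ℕ) (t u : F) : X r t * X r u = X r (t + u) := by
  apply Units.ext
  exact Xmat_mul r t u

theorem X_of_ge (r : ℕ) (hr : ¬ r < 72) (t : F) : X r t = 1 := by
  apply Units.ext
  change Xmat r t = 1
  unfold Xmat
  rw [Emat_eq_zero_of_ge r (by omega), smul_zero, add_zero]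

theorem Xmat_mulVec (r : ℕ) (t : F) (v : W → F) (i : W) :
    (Xmat r t).mulVec v i = v i + t * ((sg r i : F) * v (src r i)) := by
  unfold Xmat
  rw [Matrix.add_mulVec, Matrix.one_mulVec, Matrix.smul_mulVec, Pi.add_apply, Pi.smul_apply,
    Emat_eq, Mon_mulVec, smul_eq_mul]

/-! ### the tables agree with the Chevalley datum -/

theorem commTerms_eq : ∀ r : Fin 72, ∀ s : Fin 72,
    chevE6.commTerms r s = if sumR r s = 72 then [] else [(sumR r s, strN r s, 1, 1)] := by
  decide +kernel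

theorem neg_eq : ∀ r : Fin 72, chevE6.neg r = negR r := by decide +kernel

/-! ### Steinberg's relations -/

theorem R2 (r s : ℕ) (t u : F) (hr : r < 72) (hs : s < 72) (hsr : s ≠ r) (hsn : s ≠ negR r) :
    (X s u)⁻¹ * (X r t)⁻¹ * X s u * X r t = wprod X (chevE6.commWord F r s t u) := by
  have hct := commTerms_eq ⟨r, hr⟩ ⟨s, hs⟩
  simp only at hct
  unfold ChevalleyDatum.commWord
  rw [hct]
  apply Units.ext
  rw [X_inv, X_inv]
  change Xmat s (-u) * Xmat r (-t) * Xmat s u * Xmat r t = _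
  have e1 : Xmat s (-u) = 1 - u • Emat F s := by unfold Xmat; rw [neg_smul, sub_eq_add_neg]
  have e2 : Xmat r (-t) = 1 - t • Emat F r := by unfold Xmat; rw [neg_smul, sub_eq_add_neg]
  rw [e1, e2]
  unfold Xmat
  by_cases h : sumR r s = 72
  · rw [if_pos h, List.map_nil, wprod_nil]
    exact comm_trivial_smul (Emat F r) (Emat F s) (Emat_comm r s hr hs hsr hsn h) (Emat_sq s)
      (Emat_sq r) t u
  · rw [if_neg h, List.map_cons, List.map_nil, wprod_cons, wprod_nil, mul_one]
    obtain ⟨h1, h2, h3⟩ := Emat_bracket (F := F) r s hr hs hsr hsn h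
    rw [comm_formula_smul (Emat F r) (Emat F s) (Emat_sq r) (Emat_sq s) h2 h3 t u, h1]
    change _ = Xmat (sumR r s) _
    unfold Xmat
    rw [smul_smul, sub_eq_add_neg, ← neg_smul]
    congr 2
    push_cast
    ring

theorem hWord_eq (r : ℕ) (hr : r < 72) (t : F) (ht : t ≠ 0) :
    ((wprod X (chevE6.hWord r t) : GL W F) : Matrix W W F) =
      1 + (t - 1) • (Emat F r * Emat F (negR r)) + (t⁻¹ - 1) • (Emat F (negR r) * Emat F r) := by
  have hneg := neg_eq ⟨r, hr⟩
  simp only at hneg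
  have hr' := (negR_lt ⟨r, hr⟩).1
  have hrr := (negR_lt ⟨r, hr⟩).2.1
  simp only at hr' hrr
  have haba : Emat F r * Emat F (negR r) * Emat F r = Emat F r := Emat_neg r hr
  have hbab : Emat F (negR r) * Emat F r * Emat F (negR r) = Emat F (negR r) := by
    have := Emat_neg (F := F) (negR r) hr'
    rwa [hrr] at this
  unfold ChevalleyDatum.hWord ChevalleyDatum.nWord
  rw [hneg]
  simp only [List.cons_append, List.nil_append, wprod_cons, wprod_nil, mul_one, Units.val_mul,
    X_val]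
  have n1 := n_formula (Emat F r) (Emat F (negR r)) (Emat_sq r) haba t ht
  have n2 := n_formula (Emat F r) (Emat F (negR r)) (Emat_sq r) haba (-1 : F) (by norm_num)
  have hh := h_formula (Emat F r) (Emat F (negR r)) (Emat_sq r) (Emat_sq _) haba hbab t
  unfold Xmat
  have hassoc : ∀ a b c d e f : Matrix W W F, a * (b * (c * (d * (e * f)))) = (a * b * c) * (d * e * f) := by
    intro a b c d e f
    simp only [mul_assoc]
  rw [hassoc, n1, n2, ← hh]
  congr 1
  simp only [neg_smul, one_smul, inv_neg, inv_one]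
  abel

theorem R3 (r : ℕ) (t₁ t₂ : F) (hr : r < 72) (h₁ : t₁ ≠ 0) (h₂ : t₂ ≠ 0) :
    wprod X (chevE6.hWord r t₁) * wprod X (chevE6.hWord r t₂) =
      wprod X (chevE6.hWord r (t₁ * t₂)) := by
  apply Units.ext
  have hr' := (negR_lt ⟨r, hr⟩).1
  have hrr := (negR_lt ⟨r, hr⟩).2.1
  simp only at hr' hrr
  have haba : Emat F r * Emat F (negR r) * Emat F r = Emat F r := Emat_neg r hr
  have hbab : Emat F (negR r) * Emat F r * Emat F (negR r) = Emat F (negR r) := by
    have := Emat_neg (F := F) (negR r) hr'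
    rwa [hrr] at this
  rw [Units.val_mul, hWord_eq r hr t₁ h₁, hWord_eq r hr t₂ h₂,
    hWord_eq r hr (t₁ * t₂) (mul_ne_zero h₁ h₂)]
  exact h_mul (Emat F r) (Emat F (negR r)) (Emat_sq r) (Emat_sq _) haba hbab t₁ t₂ h₁ h₂

/-- the subgroup generated by the root elements. -/
def E (F : Type*) [Field F] : Subgroup (GL W F) :=
  Subgroup.closure {g | ∃ (r : ℕ) (t : F), r < 72 ∧ g = X r t}

theorem X_mem_E (r : ℕ) (t : F) : X r t ∈ E F := by
  by_cases hr : r < 72
  · exact Subgroup.subset_closure ⟨r, t, hr, rfl⟩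
  · rw [X_of_ge r hr]
    exact one_mem _

/-- the homomorphism from the Steinberg group onto `E`. -/
theorem exists_hom : ∃ φ : chevE6.SteinbergGroup F →* GL W F,
    (∀ r t, φ (chevE6.stGen F r t) = X r t) ∧ φ.range = E F := by
  have hn : chevE6.nroots = 72 := rfl
  exact Cfsg.Agent.Lib.Helper18_StLift.exists_hom chevE6 X (fun r t h => X_of_ge r (by rwa [hn] at h) t)
    (fun r t₁ t₂ _ => X_mul r t₁ t₂)
    (fun r s t u hr hs hsr hsn => by
      rw [hn] at hr hs
      have hneg := neg_eq ⟨r, hr⟩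
      simp only at hneg
      rw [hneg] at hsn
      exact R2 r s t u hr hs hsr hsn)
    (fun r t₁ t₂ hr h₁ h₂ => R3 r t₁ t₂ (by rwa [hn] at hr) h₁ h₂)

end Cfsg.Agent.Lib.Helper18_E6Hom
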