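import Cfsg.Agent.Lib.Helper18_E6Hom

/-!
# E₆ on the 27-dimensional module: the root elements preserve the cubic form
-/

set_option autoImplicit false
set_option maxRecDepth 100000

namespace Cfsg.Agent.Lib.Helper18_E6Inv

open Cfsg.Agent.Lib.Helper18_E6Defs Cfsg.Agent.Lib.Helper18_E6Mon Cfsg.Agent.Lib.Helper18_E6Hom

variable {F : Type*} [Field F]

theorem tA_eq : ∀ k, tA k = ![0, 0, 1, 1, 2, 2, 9, 9, 10, 10, 11, 11, 18, 18, 19, 19, 20, 20, 0, 0, 0, 1, 1, 1, 2, 2, 2, 3, 3, 3, 4, 4, 4, 5, 5, 5, 6, 6, 6, 7, 7, 7, 8, 8, 8] k := by decide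
theorem tB_eq : ∀ k, tB k = ![4, 5, 3, 5, 3, 4, 13, 14, 12, 14, 12, 13, 22, 23, 21, 23, 21, 22, 9, 10, 11, 12, 13, 14, 15, 16, 17, 9, 10, 11, 12, 13, 14, 15, 16, 17, 9, 10, 11, 12, 13, 14, 15, 16, 17] k := by decide
theorem tC_eq : ∀ k, tC k = ![8, 7, 8, 6, 7, 6, 17, 16, 17, 15, 16, 15, 26, 25, 26, 24, 25, 24, 18, 21, 24, 18, 21, 24, 18, 21, 24, 19, 22, 25, 19, 22, 25, 19, 22, 25, 20, 23, 26, 20, 23, 26, 20, 23, 26] k := by decide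
theorem tS_eq : ∀ k, tS k = (![1, -1, -1, 1, 1, -1, 1, -1, -1, 1, 1, -1, 1, -1, -1, 1, 1, -1, -1, -1, -1, -1, -1, -1, -1, -1, -1, -1, -1, -1, -1, -1, -1, -1, -1, -1, -1, -1, -1, -1, -1, -1, -1, -1, -1] : Fin 45 → ℤ) k := by decide

/-- the cubic form, written out. -/
theorem T27_eq (v : W → F) : T27 v = v 0 * v 4 * v 8 - v 0 * v 5 * v 7 - v 1 * v 3 * v 8 + v 1 * v 5 * v 6 + v 2 * v 3 * v 7 - v 2 * v 4 * v 6 + v 9 * v 13 * v 17 - v 9 * v 14 * v 16 - v 10 * v 12 * v 17 + v 10 * v 14 * v 15 + v 11 * v 12 * v 16 - v 11 * v 13 * v 15 + v 18 * v 22 * v 26 - v 18 * v 23 * v 25 - v 19 * v 21 * v 26 + v 19 * v 23 * v 24 + v 20 * v 21 * v 25 - v 20 * v 22 * v 24 - v 0 * v 9 * v 18 - v 0 * v 10 * v 21 - v 0 * v 11 * v 24 - v 1 * v 12 * v 18 - v 1 * v 13 * v 21 - v 1 * v 14 * v 24 - v 2 * v 15 * v 18 - v 2 * v 16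 * v 21 - v 2 * v 17 * v 24 - v 3 * v 9 * v 19 - v 3 * v 10 * v 22 - v 3 * v 11 * v 25 - v 4 * v 12 * v 19 - v 4 * v 13 * v 22 - v 4 * v 14 * v 25 - v 5 * v 15 * v 19 - v 5 * v 16 * v 22 - v 5 * v 17 * v 25 - v 6 * v 9 * v 20 - v 6 * v 10 * v 23 - v 6 * v 11 * v 26 - v 7 * v 12 * v 20 - v 7 * v 13 * v 23 - v 7 * v 14 * v 26 - v 8 * v 15 * v 20 - v 8 * v 16 * v 23 - v 8 * v 17 * v 26 := by
  unfold T27
  simp only [tA_eq, tB_eq, tC_eq, tS_eq]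
  simp [Fin.sum_univ_succ]
  ring

theorem T27_X_0 (t : F) (v : W → F) : T27 ((Xmat 0 t).mulVec v) = T27 v := by
  have h1 : ∀ i, sg 0 i = (![-1, 1, 0, 0, 0, 0, 0, 0, 0, 0, 0, 0, 0, 0, 0, 1, 0, -1, 0, 0, 0, 0, -1, 1, 0, 0, 0] : W → ℤ) i := by decide +kernel
  have h2 : ∀ i, src 0 i = ![13, 10, 0, 0, 0, 0, 0, 0, 0, 0, 0, 0, 0, 0, 0, 24, 0, 18, 0, 0, 0, 0, 8, 5, 0, 0, 0] i := by decide +kernel
  rw [T27_eq, T27_eq]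
  simp only [Xmat_mulVec, h1, h2]
  simp
  ring

theorem T27_X_1 (t : F) (v : W → F) : T27 ((Xmat 1 t).mulVec v) = T27 v := by
  have h1 : ∀ i, sg 1 i = (![-1, 1, 0, 0, 0, 0, 0, 0, 0, 0, 0, 0, 0, 0, 0, 0, -1, 1, 0, -1, 1, 0, 0, 0, 0, 0, 0] : W → ℤ) i := by decide +kernel
  have h2 : ∀ i, src 1 i = ![12, 9, 0, 0, 0, 0, 0, 0, 0, 0, 0, 0, 0, 0, 0, 0, 24, 21, 0, 8, 5, 0, 0, 0, 0, 0, 0] i := by decide +kernel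
  rw [T27_eq, T27_eq]
  simp only [Xmat_mulVec, h1, h2]
  simp
  ring

theorem T27_X_2 (t : F) (v : W → F) : T27 ((Xmat 2 t).mulVec v) = T27 v := by
  have h1 : ∀ i, sg 2 i = (![-1, 0, 0, 1, 0, 0, 0, 0, 0, 0, 0, 0, 0, 0, -1, 0, 0, 1, 0, 0, -1, 0, 0, 1, 0, 0, 0] : W → ℤ) i := by decide +kernel
  have h2 : ∀ i, src 2 i = ![25, 0, 0, 24, 0, 0, 0, 0, 0, 0, 0, 0, 0, 0, 8, 0, 0, 7, 0, 0, 10, 0, 0, 9, 0, 0, 0] i := by decide +kernel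
  rw [T27_eq, T27_eq]
  simp only [Xmat_mulVec, h1, h2]
  simp
  ring

theorem T27_X_3 (t : F) (v : W → F) : T27 ((Xmat 3 t).mulVec v) = T27 v := by
  have h1 : ∀ i, sg 3 i = (![1, 0, 0, 1, 0, 0, 1, 0, 0, 0, 0, 0, 0, 0, 0, -1, -1, -1, 0, 0, 0, 0, 0, 0, 0, 0, 0] : W → ℤ) i := by decide +kernel
  have h2 : ∀ i, src 3 i = ![2, 0, 0, 5, 0, 0, 8, 0, 0, 0, 0, 0, 0, 0, 0, 9, 10, 11, 0, 0, 0, 0, 0, 0, 0, 0, 0] i := by decide +kernel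
  rw [T27_eq, T27_eq]
  simp only [Xmat_mulVec, h1, h2]
  simp
  ring

theorem T27_X_4 (t : F) (v : W → F) : T27 ((Xmat 4 t).mulVec v) = T27 v := by
  have h1 : ∀ i, sg 4 i = (![1, 0, 0, 0, 0, 0, -1, 0, 0, 0, 0, 0, 0, 0, -1, 0, 0, 1, 0, -1, 0, 0, 1, 0, 0, 0, 0] : W → ℤ) i := by decide +kernel
  have h2 : ∀ i, src 4 i = ![26, 0, 0, 0, 0, 0, 24, 0, 0, 0, 0, 0, 0, 0, 5, 0, 0, 4, 0, 10, 0, 0, 9, 0, 0, 0, 0] i := by decide +kernel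
  rw [T27_eq, T27_eq]
  simp only [Xmat_mulVec, h1, h2]
  simp
  ring

theorem T27_X_5 (t : F) (v : W → F) : T27 ((Xmat 5 t).mulVec v) = T27 v := by
  have h1 : ∀ i, sg 5 i = (![0, 1, 0, 0, -1, 0, 0, 0, 0, 0, 0, -1, 0, 0, 0, 0, 0, 1, 0, 0, 1, 0, 0, -1, 0, 0, 0] : W → ℤ) i := by decide +kernel
  have h2 : ∀ i, src 5 i = ![0, 25, 0, 0, 24, 0, 0, 0, 0, 0, 0, 8, 0, 0, 0, 0, 0, 6, 0, 0, 13, 0, 0, 12, 0, 0, 0] i := by decide +kernel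
  rw [T27_eq, T27_eq]
  simp only [Xmat_mulVec, h1, h2]
  simp
  ring

theorem T27_X_6 (t : F) (v : W → F) : T27 ((Xmat 6 t).mulVec v) = T27 v := by
  have h1 : ∀ i, sg 6 i = (![0, -1, 0, 0, -1, 0, 0, -1, 0, 0, 0, 0, 0, 0, 0, 1, 1, 1, 0, 0, 0, 0, 0, 0, 0, 0, 0] : W → ℤ) i := by decide +kernel
  have h2 : ∀ i, src 6 i = ![0, 2, 0, 0, 5, 0, 0, 8, 0, 0, 0, 0, 0, 0, 0, 12, 13, 14, 0, 0, 0, 0, 0, 0, 0, 0, 0] i := by decide +kernel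
  rw [T27_eq, T27_eq]
  simp only [Xmat_mulVec, h1, h2]
  simp
  ring

theorem T27_X_7 (t : F) (v : W → F) : T27 ((Xmat 7 t).mulVec v) = T27 v := by
  have h1 : ∀ i, sg 7 i = (![0, -1, 0, 0, 0, 0, 0, 1, 0, 0, 0, -1, 0, 0, 0, 0, 0, 1, 0, 1, 0, 0, -1, 0, 0, 0, 0] : W → ℤ) i := by decide +kernel
  have h2 : ∀ i, src 7 i = ![0, 26, 0, 0, 0, 0, 0, 24, 0, 0, 0, 5, 0, 0, 0, 0, 0, 3, 0, 13, 0, 0, 12, 0, 0, 0, 0] i := by decide +kernel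
  rw [T27_eq, T27_eq]
  simp only [Xmat_mulVec, h1, h2]
  simp
  ring

theorem T27_X_8 (t : F) (v : W → F) : T27 ((Xmat 8 t).mulVec v) = T27 v := by
  have h1 : ∀ i, sg 8 i = (![0, 0, 0, -1, 1, 0, 0, 0, 0, 0, 0, 0, 0, 0, 0, 1, 0, -1, 0, 0, 0, 1, 0, -1, 0, 0, 0] : W → ℤ) i := by decide +kernel
  have h2 : ∀ i, src 8 i = ![0, 0, 0, 13, 10, 0, 0, 0, 0, 0, 0, 0, 0, 0, 0, 25, 0, 19, 0, 0, 0, 8, 0, 2, 0, 0, 0] i := by decide +kernel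
  rw [T27_eq, T27_eq]
  simp only [Xmat_mulVec, h1, h2]
  simp
  ring

theorem T27_X_9 (t : F) (v : W → F) : T27 ((Xmat 9 t).mulVec v) = T27 v := by
  have h1 : ∀ i, sg 9 i = (![0, 0, 0, 0, 0, 0, 0, 0, 0, 0, 0, 1, 0, 0, 1, 0, 0, 1, 0, 0, 0, -1, -1, -1, 0, 0, 0] : W → ℤ) i := by decide +kernel
  have h2 : ∀ i, src 9 i = ![0, 0, 0, 0, 0, 0, 0, 0, 0, 0, 0, 10, 0, 0, 13, 0, 0, 16, 0, 0, 0, 24, 25, 26, 0, 0, 0] i := by decide +kernel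
  rw [T27_eq, T27_eq]
  simp only [Xmat_mulVec, h1, h2]
  simp
  ring

theorem T27_X_10 (t : F) (v : W → F) : T27 ((Xmat 10 t).mulVec v) = T27 v := by
  have h1 : ∀ i, sg 10 i = (![0, 0, 0, 0, 0, 0, -1, 1, 0, 0, 0, 0, 0, 0, 0, 1, 0, -1, 0, 0, 0, -1, 1, 0, 0, 0, 0] : W → ℤ) i := by decide +kernel
  have h2 : ∀ i, src 10 i = ![0, 0, 0, 0, 0, 0, 13, 10, 0, 0, 0, 0, 0, 0, 0, 26, 0, 20, 0, 0, 0, 5, 2, 0, 0, 0, 0] i := by decide +kernel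
  rw [T27_eq, T27_eq]
  simp only [Xmat_mulVec, h1, h2]
  simp
  ring

theorem T27_X_11 (t : F) (v : W → F) : T27 ((Xmat 11 t).mulVec v) = T27 v := by
  have h1 : ∀ i, sg 11 i = (![0, 0, 0, -1, 1, 0, 0, 0, 0, 0, 0, 0, 0, 0, 0, 0, -1, 1, 1, 0, -1, 0, 0, 0, 0, 0, 0] : W → ℤ) i := by decide +kernel
  have h2 : ∀ i, src 11 i = ![0, 0, 0, 12, 9, 0, 0, 0, 0, 0, 0, 0, 0, 0, 0, 0, 25, 22, 8, 0, 2, 0, 0, 0, 0, 0, 0] i := by decide +kernel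
  rw [T27_eq, T27_eq]
  simp only [Xmat_mulVec, h1, h2]
  simp
  ring

theorem T27_X_12 (t : F) (v : W → F) : T27 ((Xmat 12 t).mulVec v) = T27 v := by
  have h1 : ∀ i, sg 12 i = (![0, 0, 0, 0, 0, 0, 0, 0, 0, 0, 0, 1, 0, 0, 1, 0, 0, 1, -1, -1, -1, 0, 0, 0, 0, 0, 0] : W → ℤ) i := by decide +kernel
  have h2 : ∀ i, src 12 i = ![0, 0, 0, 0, 0, 0, 0, 0, 0, 0, 0, 9, 0, 0, 12, 0, 0, 15, 24, 25, 26, 0, 0, 0, 0, 0, 0] i := by decide +kernel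
  rw [T27_eq, T27_eq]
  simp only [Xmat_mulVec, h1, h2]
  simp
  ring

theorem T27_X_13 (t : F) (v : W → F) : T27 ((Xmat 13 t).mulVec v) = T27 v := by
  have h1 : ∀ i, sg 13 i = (![0, 0, 0, 0, 0, 0, -1, 1, 0, 0, 0, 0, 0, 0, 0, 0, -1, 1, -1, 1, 0, 0, 0, 0, 0, 0, 0] : W → ℤ) i := by decide +kernel
  have h2 : ∀ i, src 13 i = ![0, 0, 0, 0, 0, 0, 12, 9, 0, 0, 0, 0, 0, 0, 0, 0, 26, 23, 5, 2, 0, 0, 0, 0, 0, 0, 0] i := by decide +kernel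
  rw [T27_eq, T27_eq]
  simp only [Xmat_mulVec, h1, h2]
  simp
  ring

theorem T27_X_14 (t : F) (v : W → F) : T27 ((Xmat 14 t).mulVec v) = T27 v := by
  have h1 : ∀ i, sg 14 i = (![0, 0, 0, 1, 0, 0, -1, 0, 0, 0, 0, 0, 0, 0, 1, 0, 0, -1, 1, 0, 0, -1, 0, 0, 0, 0, 0] : W → ℤ) i := by decide +kernel
  have h2 : ∀ i, src 14 i = ![0, 0, 0, 26, 0, 0, 25, 0, 0, 0, 0, 0, 0, 0, 2, 0, 0, 1, 10, 0, 0, 9, 0, 0, 0, 0, 0] i := by decide +kernel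
  rw [T27_eq, T27_eq]
  simp only [Xmat_mulVec, h1, h2]
  simp
  ring

theorem T27_X_15 (t : F) (v : W → F) : T27 ((Xmat 15 t).mulVec v) = T27 v := by
  have h1 : ∀ i, sg 15 i = (![0, 0, 0, 0, -1, 0, 0, 1, 0, 0, 0, 1, 0, 0, 0, 0, 0, -1, -1, 0, 0, 1, 0, 0, 0, 0, 0] : W → ℤ) i := by decide +kernel
  have h2 : ∀ i, src 15 i = ![0, 0, 0, 0, 26, 0, 0, 25, 0, 0, 0, 2, 0, 0, 0, 0, 0, 0, 13, 0, 0, 12, 0, 0, 0, 0, 0] i := by decide +kernel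
  rw [T27_eq, T27_eq]
  simp only [Xmat_mulVec, h1, h2]
  simp
  ring

theorem T27_X_16 (t : F) (v : W → F) : T27 ((Xmat 16 t).mulVec v) = T27 v := by
  have h1 : ∀ i, sg 16 i = (![-1, -1, -1, 0, 0, 0, 0, 0, 0, 0, 0, 0, 0, 0, 0, 0, 0, 0, 0, 0, 1, 0, 0, 1, 0, 0, 1] : W → ℤ) i := by decide +kernel
  have h2 : ∀ i, src 16 i = ![6, 7, 8, 0, 0, 0, 0, 0, 0, 0, 0, 0, 0, 0, 0, 0, 0, 0, 0, 0, 18, 0, 0, 21, 0, 0, 24] i := by decide +kernel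
  rw [T27_eq, T27_eq]
  simp only [Xmat_mulVec, h1, h2]
  simp
  ring

theorem T27_X_17 (t : F) (v : W → F) : T27 ((Xmat 17 t).mulVec v) = T27 v := by
  have h1 : ∀ i, sg 17 i = (![-1, 1, 0, 0, 0, 0, 0, 0, 0, 0, 0, 0, 0, 0, 0, -1, 1, 0, 0, 0, 0, 0, 0, 0, 0, -1, 1] : W → ℤ) i := by decide +kernel
  have h2 : ∀ i, src 17 i = ![14, 11, 0, 0, 0, 0, 0, 0, 0, 0, 0, 0, 0, 0, 0, 21, 18, 0, 0, 0, 0, 0, 0, 0, 0, 8, 5] i := by decide +kernel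
  rw [T27_eq, T27_eq]
  simp only [Xmat_mulVec, h1, h2]
  simp
  ring

theorem T27_X_18 (t : F) (v : W → F) : T27 ((Xmat 18 t).mulVec v) = T27 v := by
  have h1 : ∀ i, sg 18 i = (![-1, -1, -1, 0, 0, 0, 0, 0, 0, 0, 0, 0, 0, 0, 0, 0, 0, 0, 0, 1, 0, 0, 1, 0, 0, 1, 0] : W → ℤ) i := by decide +kernel
  have h2 : ∀ i, src 18 i = ![3, 4, 5, 0, 0, 0, 0, 0, 0, 0, 0, 0, 0, 0, 0, 0, 0, 0, 0, 18, 0, 0, 21, 0, 0, 24, 0] i := by decide +kernel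
  rw [T27_eq, T27_eq]
  simp only [Xmat_mulVec, h1, h2]
  simp
  ring

theorem T27_X_19 (t : F) (v : W → F) : T27 ((Xmat 19 t).mulVec v) = T27 v := by
  have h1 : ∀ i, sg 19 i = (![1, 0, 0, -1, 0, 0, 0, 0, 0, 0, 0, 0, 1, 0, 0, -1, 0, 0, 0, 0, 0, 0, 0, 1, 0, 0, -1] : W → ℤ) i := by decide +kernel
  have h2 : ∀ i, src 19 i = ![19, 0, 0, 18, 0, 0, 0, 0, 0, 0, 0, 0, 8, 0, 0, 7, 0, 0, 0, 0, 0, 0, 0, 11, 0, 0, 10] i := by decide +kernel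
  rw [T27_eq, T27_eq]
  simp only [Xmat_mulVec, h1, h2]
  simp
  ring

theorem T27_X_20 (t : F) (v : W → F) : T27 ((Xmat 20 t).mulVec v) = T27 v := by
  have h1 : ∀ i, sg 20 i = (![-1, 0, 1, 0, 0, 0, 0, 0, 0, 0, 0, 0, -1, 0, 1, 0, 0, 0, 0, 0, 0, 0, 1, -1, 0, 0, 0] : W → ℤ) i := by decide +kernel
  have h2 : ∀ i, src 20 i = ![16, 0, 10, 0, 0, 0, 0, 0, 0, 0, 0, 0, 24, 0, 18, 0, 0, 0, 0, 0, 0, 0, 7, 4, 0, 0, 0] i := by decide +kernel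
  rw [T27_eq, T27_eq]
  simp only [Xmat_mulVec, h1, h2]
  simp
  ring

theorem T27_X_21 (t : F) (v : W → F) : T27 ((Xmat 21 t).mulVec v) = T27 v := by
  have h1 : ∀ i, sg 21 i = (![1, 0, 0, 0, 0, 0, -1, 0, 0, 0, 0, 0, -1, 0, 0, 1, 0, 0, 0, 0, 0, 0, -1, 0, 0, 1, 0] : W → ℤ) i := by decide +kernel
  have h2 : ∀ i, src 21 i = ![20, 0, 0, 0, 0, 0, 18, 0, 0, 0, 0, 0, 5, 0, 0, 4, 0, 0, 0, 0, 0, 0, 11, 0, 0, 10, 0] i := by decide +kernel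
  rw [T27_eq, T27_eq]
  simp only [Xmat_mulVec, h1, h2]
  simp
  ring

theorem T27_X_22 (t : F) (v : W → F) : T27 ((Xmat 22 t).mulVec v) = T27 v := by
  have h1 : ∀ i, sg 22 i = (![0, -1, 0, 0, 1, 0, 0, 0, 0, 1, 0, 0, 0, 0, 0, -1, 0, 0, 0, 0, 0, 0, 0, -1, 0, 0, 1] : W → ℤ) i := by decide +kernel
  have h2 : ∀ i, src 22 i = ![0, 19, 0, 0, 18, 0, 0, 0, 0, 8, 0, 0, 0, 0, 0, 6, 0, 0, 0, 0, 0, 0, 0, 14, 0, 0, 13] i := by decide +kernel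
  rw [T27_eq, T27_eq]
  simp only [Xmat_mulVec, h1, h2]
  simp
  ring

theorem T27_X_23 (t : F) (v : W → F) : T27 ((Xmat 23 t).mulVec v) = T27 v := by
  have h1 : ∀ i, sg 23 i = (![0, 1, -1, 0, 0, 0, 0, 0, 0, -1, 0, 1, 0, 0, 0, 0, 0, 0, 0, 0, 0, 0, 1, -1, 0, 0, 0] : W → ℤ) i := by decide +kernel
  have h2 : ∀ i, src 23 i = ![0, 16, 13, 0, 0, 0, 0, 0, 0, 24, 0, 18, 0, 0, 0, 0, 0, 0, 0, 0, 0, 0, 6, 3, 0, 0, 0] i := by decide +kernel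
  rw [T27_eq, T27_eq]
  simp only [Xmat_mulVec, h1, h2]
  simp
  ring

theorem T27_X_24 (t : F) (v : W → F) : T27 ((Xmat 24 t).mulVec v) = T27 v := by
  have h1 : ∀ i, sg 24 i = (![0, -1, 0, 0, 0, 0, 0, 1, 0, -1, 0, 0, 0, 0, 0, 1, 0, 0, 0, 0, 0, 0, 1, 0, 0, -1, 0] : W → ℤ) i := by decide +kernel
  have h2 : ∀ i, src 24 i = ![0, 20, 0, 0, 0, 0, 0, 18, 0, 5, 0, 0, 0, 0, 0, 3, 0, 0, 0, 0, 0, 0, 14, 0, 0, 13, 0] i := by decide +kernel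
  rw [T27_eq, T27_eq]
  simp only [Xmat_mulVec, h1, h2]
  simp
  ring

theorem T27_X_25 (t : F) (v : W → F) : T27 ((Xmat 25 t).mulVec v) = T27 v := by
  have h1 : ∀ i, sg 25 i = (![0, 0, 0, 0, 0, 0, 0, 0, 0, 1, 0, 0, 1, 0, 0, 1, 0, 0, 0, 0, 0, -1, -1, -1, 0, 0, 0] : W → ℤ) i := by decide +kernel
  have h2 : ∀ i, src 25 i = ![0, 0, 0, 0, 0, 0, 0, 0, 0, 10, 0, 0, 13, 0, 0, 16, 0, 0, 0, 0, 0, 18, 19, 20, 0, 0, 0] i := by decide +kernel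
  rw [T27_eq, T27_eq]
  simp only [Xmat_mulVec, h1, h2]
  simp
  ring

theorem T27_X_26 (t : F) (v : W → F) : T27 ((Xmat 26 t).mulVec v) = T27 v := by
  have h1 : ∀ i, sg 26 i = (![-1, 0, 0, 1, 0, 0, 0, 0, 0, 0, 0, 0, 0, -1, 0, 0, 1, 0, 0, 0, 1, 0, 0, 0, 0, 0, -1] : W → ℤ) i := by decide +kernel
  have h2 : ∀ i, src 26 i = ![22, 0, 0, 21, 0, 0, 0, 0, 0, 0, 0, 0, 0, 8, 0, 0, 7, 0, 0, 0, 11, 0, 0, 0, 0, 0, 9] i := by decide +kernel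
  rw [T27_eq, T27_eq]
  simp only [Xmat_mulVec, h1, h2]
  simp
  ring

theorem T27_X_27 (t : F) (v : W → F) : T27 ((Xmat 27 t).mulVec v) = T27 v := by
  have h1 : ∀ i, sg 27 i = (![-1, 0, 1, 0, 0, 0, 0, 0, 0, 0, 0, 0, 0, 1, -1, 0, 0, 0, 0, 1, -1, 0, 0, 0, 0, 0, 0] : W → ℤ) i := by decide +kernel
  have h2 : ∀ i, src 27 i = ![15, 0, 9, 0, 0, 0, 0, 0, 0, 0, 0, 0, 0, 24, 21, 0, 0, 0, 0, 7, 4, 0, 0, 0, 0, 0, 0] i := by decide +kernel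
  rw [T27_eq, T27_eq]
  simp only [Xmat_mulVec, h1, h2]
  simp
  ring

theorem T27_X_28 (t : F) (v : W → F) : T27 ((Xmat 28 t).mulVec v) = T27 v := by
  have h1 : ∀ i, sg 28 i = (![-1, 0, 0, 0, 0, 0, 1, 0, 0, 0, 0, 0, 0, 1, 0, 0, -1, 0, 0, -1, 0, 0, 0, 0, 0, 1, 0] : W → ℤ) i := by decide +kernel
  have h2 : ∀ i, src 28 i = ![23, 0, 0, 0, 0, 0, 21, 0, 0, 0, 0, 0, 0, 5, 0, 0, 4, 0, 0, 11, 0, 0, 0, 0, 0, 9, 0] i := by decide +kernel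
  rw [T27_eq, T27_eq]
  simp only [Xmat_mulVec, h1, h2]
  simp
  ring

theorem T27_X_29 (t : F) (v : W → F) : T27 ((Xmat 29 t).mulVec v) = T27 v := by
  have h1 : ∀ i, sg 29 i = (![1, 0, 0, 1, 0, 0, 1, 0, 0, 0, 0, 0, -1, -1, -1, 0, 0, 0, 0, 0, 0, 0, 0, 0, 0, 0, 0] : W → ℤ) i := by decide +kernel
  have h2 : ∀ i, src 29 i = ![1, 0, 0, 4, 0, 0, 7, 0, 0, 0, 0, 0, 9, 10, 11, 0, 0, 0, 0, 0, 0, 0, 0, 0, 0, 0, 0] i := by decide +kernel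
  rw [T27_eq, T27_eq]
  simp only [Xmat_mulVec, h1, h2]
  simp
  ring

theorem T27_X_30 (t : F) (v : W → F) : T27 ((Xmat 30 t).mulVec v) = T27 v := by
  have h1 : ∀ i, sg 30 i = (![0, -1, 0, 0, 1, 0, 0, 0, 0, 0, 1, 0, 0, 0, 0, 0, -1, 0, 0, 0, 1, 0, 0, 0, 0, 0, -1] : W → ℤ) i := by decide +kernel
  have h2 : ∀ i, src 30 i = ![0, 22, 0, 0, 21, 0, 0, 0, 0, 0, 8, 0, 0, 0, 0, 0, 6, 0, 0, 0, 14, 0, 0, 0, 0, 0, 12] i := by decide +kernel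
  rw [T27_eq, T27_eq]
  simp only [Xmat_mulVec, h1, h2]
  simp
  ring

theorem T27_X_31 (t : F) (v : W → F) : T27 ((Xmat 31 t).mulVec v) = T27 v := by
  have h1 : ∀ i, sg 31 i = (![0, -1, 1, 0, 0, 0, 0, 0, 0, 0, -1, 1, 0, 0, 0, 0, 0, 0, 0, -1, 1, 0, 0, 0, 0, 0, 0] : W → ℤ) i := by decide +kernel
  have h2 : ∀ i, src 31 i = ![0, 15, 12, 0, 0, 0, 0, 0, 0, 0, 24, 21, 0, 0, 0, 0, 0, 0, 0, 6, 3, 0, 0, 0, 0, 0, 0] i := by decide +kernel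
  rw [T27_eq, T27_eq]
  simp only [Xmat_mulVec, h1, h2]
  simp
  ring

theorem T27_X_32 (t : F) (v : W → F) : T27 ((Xmat 32 t).mulVec v) = T27 v := by
  have h1 : ∀ i, sg 32 i = (![0, -1, 0, 0, 0, 0, 0, 1, 0, 0, -1, 0, 0, 0, 0, 0, 1, 0, 0, -1, 0, 0, 0, 0, 0, 1, 0] : W → ℤ) i := by decide +kernel
  have h2 : ∀ i, src 32 i = ![0, 23, 0, 0, 0, 0, 0, 21, 0, 0, 5, 0, 0, 0, 0, 0, 3, 0, 0, 14, 0, 0, 0, 0, 0, 12, 0] i := by decide +kernel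
  rw [T27_eq, T27_eq]
  simp only [Xmat_mulVec, h1, h2]
  simp
  ring

theorem T27_X_33 (t : F) (v : W → F) : T27 ((Xmat 33 t).mulVec v) = T27 v := by
  have h1 : ∀ i, sg 33 i = (![0, 0, 0, -1, -1, -1, 0, 0, 0, 0, 0, 0, 0, 0, 0, 0, 0, 0, 0, 0, 1, 0, 0, 1, 0, 0, 1] : W → ℤ) i := by decide +kernel
  have h2 : ∀ i, src 33 i = ![0, 0, 0, 6, 7, 8, 0, 0, 0, 0, 0, 0, 0, 0, 0, 0, 0, 0, 0, 0, 19, 0, 0, 22, 0, 0, 25] i := by decide +kernel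
  rw [T27_eq, T27_eq]
  simp only [Xmat_mulVec, h1, h2]
  simp
  ring

theorem T27_X_34 (t : F) (v : W → F) : T27 ((Xmat 34 t).mulVec v) = T27 v := by
  have h1 : ∀ i, sg 34 i = (![0, 0, -1, 0, 0, 1, 0, 0, 0, 0, 0, -1, 0, 0, 1, 0, 0, 0, 0, 0, -1, 0, 0, 1, 0, 0, 0] : W → ℤ) i := by decide +kernel
  have h2 : ∀ i, src 34 i = ![0, 0, 25, 0, 0, 24, 0, 0, 0, 0, 0, 7, 0, 0, 6, 0, 0, 0, 0, 0, 16, 0, 0, 15, 0, 0, 0] i := by decide +kernel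
  rw [T27_eq, T27_eq]
  simp only [Xmat_mulVec, h1, h2]
  simp
  ring

theorem T27_X_35 (t : F) (v : W → F) : T27 ((Xmat 35 t).mulVec v) = T27 v := by
  have h1 : ∀ i, sg 35 i = (![0, 0, 0, 1, -1, 0, 0, 0, 0, 0, 0, 0, 0, 0, 0, 1, -1, 0, 0, 0, 0, 0, 0, 0, -1, 0, 1] : W → ℤ) i := by decide +kernel
  have h2 : ∀ i, src 35 i = ![0, 0, 0, 14, 11, 0, 0, 0, 0, 0, 0, 0, 0, 0, 0, 22, 19, 0, 0, 0, 0, 0, 0, 0, 8, 0, 2] i := by decide +kernel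
  rw [T27_eq, T27_eq]
  simp only [Xmat_mulVec, h1, h2]
  simp
  ring

theorem T27_X_36 (t : F) (v : W → F) : T27 ((Xmat 36 t).mulVec v) = T27 v := by
  have h1 : ∀ i, sg 36 i = (![0, 0, 1, 0, 0, 0, 0, 0, -1, 0, 0, -1, 0, 0, 1, 0, 0, 0, 0, -1, 0, 0, 1, 0, 0, 0, 0] : W → ℤ) i := by decide +kernel
  have h2 : ∀ i, src 36 i = ![0, 0, 26, 0, 0, 0, 0, 0, 24, 0, 0, 4, 0, 0, 3, 0, 0, 0, 0, 16, 0, 0, 15, 0, 0, 0, 0] i := by decide +kernel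
  rw [T27_eq, T27_eq]
  simp only [Xmat_mulVec, h1, h2]
  simp
  ring

theorem T27_X_37 (t : F) (v : W → F) : T27 ((Xmat 37 t).mulVec v) = T27 v := by
  have h1 : ∀ i, sg 37 i = (![0, 0, 0, 0, 0, 0, 1, -1, 0, 0, 0, 0, 0, 0, 0, 1, -1, 0, 0, 0, 0, 0, 0, 0, 1, -1, 0] : W → ℤ) i := by decide +kernel
  have h2 : ∀ i, src 37 i = ![0, 0, 0, 0, 0, 0, 14, 11, 0, 0, 0, 0, 0, 0, 0, 23, 20, 0, 0, 0, 0, 0, 0, 0, 5, 2, 0] i := by decide +kernel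
  rw [T27_eq, T27_eq]
  simp only [Xmat_mulVec, h1, h2]
  simp
  ring

theorem T27_X_38 (t : F) (v : W → F) : T27 ((Xmat 38 t).mulVec v) = T27 v := by
  have h1 : ∀ i, sg 38 i = (![0, 0, 0, 0, 0, 0, -1, -1, -1, 0, 0, 0, 0, 0, 0, 0, 0, 0, 0, 1, 0, 0, 1, 0, 0, 1, 0] : W → ℤ) i := by decide +kernel
  have h2 : ∀ i, src 38 i = ![0, 0, 0, 0, 0, 0, 3, 4, 5, 0, 0, 0, 0, 0, 0, 0, 0, 0, 0, 20, 0, 0, 23, 0, 0, 26, 0] i := by decide +kernel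
  rw [T27_eq, T27_eq]
  simp only [Xmat_mulVec, h1, h2]
  simp
  ring

theorem T27_X_39 (t : F) (v : W → F) : T27 ((Xmat 39 t).mulVec v) = T27 v := by
  have h1 : ∀ i, sg 39 i = (![0, 0, 0, 1, 0, -1, 0, 0, 0, 0, 0, 0, 1, 0, -1, 0, 0, 0, 0, 0, 0, 1, 0, -1, 0, 0, 0] : W → ℤ) i := by decide +kernel
  have h2 : ∀ i, src 39 i = ![0, 0, 0, 16, 0, 10, 0, 0, 0, 0, 0, 0, 25, 0, 19, 0, 0, 0, 0, 0, 0, 7, 0, 1, 0, 0, 0] i := by decide +kernel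
  rw [T27_eq, T27_eq]
  simp only [Xmat_mulVec, h1, h2]
  simp
  ring

theorem T27_X_40 (t : F) (v : W → F) : T27 ((Xmat 40 t).mulVec v) = T27 v := by
  have h1 : ∀ i, sg 40 i = (![0, 0, 0, 1, 0, 0, -1, 0, 0, 0, 0, 0, 1, 0, 0, -1, 0, 0, 0, 0, 0, 1, 0, 0, -1, 0, 0] : W → ℤ) i := by decide +kernel
  have h2 : ∀ i, src 40 i = ![0, 0, 0, 20, 0, 0, 19, 0, 0, 0, 0, 0, 2, 0, 0, 1, 0, 0, 0, 0, 0, 11, 0, 0, 10, 0, 0] i := by decide +kernel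
  rw [T27_eq, T27_eq]
  simp only [Xmat_mulVec, h1, h2]
  simp
  ring

theorem T27_X_41 (t : F) (v : W → F) : T27 ((Xmat 41 t).mulVec v) = T27 v := by
  have h1 : ∀ i, sg 41 i = (![0, 0, 0, 0, 0, 0, -1, 0, 1, 0, 0, 0, -1, 0, 1, 0, 0, 0, 0, 0, 0, 1, -1, 0, 0, 0, 0] : W → ℤ) i := by decide +kernel
  have h2 : ∀ i, src 41 i = ![0, 0, 0, 0, 0, 0, 16, 0, 10, 0, 0, 0, 26, 0, 20, 0, 0, 0, 0, 0, 0, 4, 1, 0, 0, 0, 0] i := by decide +kernel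
  rw [T27_eq, T27_eq]
  simp only [Xmat_mulVec, h1, h2]
  simp
  ring

theorem T27_X_42 (t : F) (v : W → F) : T27 ((Xmat 42 t).mulVec v) = T27 v := by
  have h1 : ∀ i, sg 42 i = (![0, 1, 0, 0, 1, 0, 0, 1, 0, -1, -1, -1, 0, 0, 0, 0, 0, 0, 0, 0, 0, 0, 0, 0, 0, 0, 0] : W → ℤ) i := by decide +kernel
  have h2 : ∀ i, src 42 i = ![0, 0, 0, 0, 3, 0, 0, 6, 0, 12, 13, 14, 0, 0, 0, 0, 0, 0, 0, 0, 0, 0, 0, 0, 0, 0, 0] i := by decide +kernel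
  rw [T27_eq, T27_eq]
  simp only [Xmat_mulVec, h1, h2]
  simp
  ring

theorem T27_X_43 (t : F) (v : W → F) : T27 ((Xmat 43 t).mulVec v) = T27 v := by
  have h1 : ∀ i, sg 43 i = (![0, 0, 0, 0, -1, 1, 0, 0, 0, 1, 0, -1, 0, 0, 0, 0, 0, 0, 0, 0, 0, 1, 0, -1, 0, 0, 0] : W → ℤ) i := by decide +kernel
  have h2 : ∀ i, src 43 i = ![0, 0, 0, 0, 16, 13, 0, 0, 0, 25, 0, 19, 0, 0, 0, 0, 0, 0, 0, 0, 0, 6, 0, 0, 0, 0, 0] i := by decide +kernel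
  rw [T27_eq, T27_eq]
  simp only [Xmat_mulVec, h1, h2]
  simp
  ring

theorem T27_X_44 (t : F) (v : W → F) : T27 ((Xmat 44 t).mulVec v) = T27 v := by
  have h1 : ∀ i, sg 44 i = (![0, 0, 0, 0, -1, 0, 0, 1, 0, 1, 0, 0, 0, 0, 0, -1, 0, 0, 0, 0, 0, -1, 0, 0, 1, 0, 0] : W → ℤ) i := by decide +kernel
  have h2 : ∀ i, src 44 i = ![0, 0, 0, 0, 20, 0, 0, 19, 0, 2, 0, 0, 0, 0, 0, 0, 0, 0, 0, 0, 0, 14, 0, 0, 13, 0, 0] i := by decide +kernel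
  rw [T27_eq, T27_eq]
  simp only [Xmat_mulVec, h1, h2]
  simp
  ring

theorem T27_X_45 (t : F) (v : W → F) : T27 ((Xmat 45 t).mulVec v) = T27 v := by
  have h1 : ∀ i, sg 45 i = (![0, 0, 0, 0, 0, 0, 0, 1, -1, -1, 0, 1, 0, 0, 0, 0, 0, 0, 0, 0, 0, 1, -1, 0, 0, 0, 0] : W → ℤ) i := by decide +kernel
  have h2 : ∀ i, src 45 i = ![0, 0, 0, 0, 0, 0, 0, 16, 13, 26, 0, 20, 0, 0, 0, 0, 0, 0, 0, 0, 0, 3, 0, 0, 0, 0, 0] i := by decide +kernel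
  rw [T27_eq, T27_eq]
  simp only [Xmat_mulVec, h1, h2]
  simp
  ring

theorem T27_X_46 (t : F) (v : W → F) : T27 ((Xmat 46 t).mulVec v) = T27 v := by
  have h1 : ∀ i, sg 46 i = (![0, 0, 0, 0, 0, 0, 0, 0, 0, 0, 1, 0, 0, 1, 0, 0, 1, 0, -1, -1, -1, 0, 0, 0, 0, 0, 0] : W → ℤ) i := by decide +kernel
  have h2 : ∀ i, src 46 i = ![0, 0, 0, 0, 0, 0, 0, 0, 0, 0, 9, 0, 0, 12, 0, 0, 15, 0, 21, 22, 23, 0, 0, 0, 0, 0, 0] i := by decide +kernel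
  rw [T27_eq, T27_eq]
  simp only [Xmat_mulVec, h1, h2]
  simp
  ring

theorem T27_X_47 (t : F) (v : W → F) : T27 ((Xmat 47 t).mulVec v) = T27 v := by
  have h1 : ∀ i, sg 47 i = (![0, 0, 0, 1, 0, -1, 0, 0, 0, 0, 0, 0, 0, -1, 1, 0, 0, 0, 1, 0, -1, 0, 0, 0, 0, 0, 0] : W → ℤ) i := by decide +kernel
  have h2 : ∀ i, src 47 i = ![0, 0, 0, 15, 0, 9, 0, 0, 0, 0, 0, 0, 0, 25, 22, 0, 0, 0, 7, 0, 1, 0, 0, 0, 0, 0, 0] i := by decide +kernel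
  rw [T27_eq, T27_eq]
  simp only [Xmat_mulVec, h1, h2]
  simp
  ring

theorem T27_X_48 (t : F) (v : W → F) : T27 ((Xmat 48 t).mulVec v) = T27 v := by
  have h1 : ∀ i, sg 48 i = (![0, 0, 0, -1, 0, 0, 1, 0, 0, 0, 0, 0, 0, -1, 0, 0, 1, 0, 1, 0, 0, 0, 0, 0, -1, 0, 0] : W → ℤ) i := by decide +kernel
  have h2 : ∀ i, src 48 i = ![0, 0, 0, 23, 0, 0, 22, 0, 0, 0, 0, 0, 0, 2, 0, 0, 1, 0, 11, 0, 0, 0, 0, 0, 9, 0, 0] i := by decide +kernel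
  rw [T27_eq, T27_eq]
  simp only [Xmat_mulVec, h1, h2]
  simp
  ring

theorem T27_X_49 (t : F) (v : W → F) : T27 ((Xmat 49 t).mulVec v) = T27 v := by
  have h1 : ∀ i, sg 49 i = (![0, 0, 0, 0, 0, 0, -1, 0, 1, 0, 0, 0, 0, 1, -1, 0, 0, 0, 1, -1, 0, 0, 0, 0, 0, 0, 0] : W → ℤ) i := by decide +kernel
  have h2 : ∀ i, src 49 i = ![0, 0, 0, 0, 0, 0, 15, 0, 9, 0, 0, 0, 0, 26, 23, 0, 0, 0, 4, 1, 0, 0, 0, 0, 0, 0, 0] i := by decide +kernel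
  rw [T27_eq, T27_eq]
  simp only [Xmat_mulVec, h1, h2]
  simp
  ring

theorem T27_X_50 (t : F) (v : W → F) : T27 ((Xmat 50 t).mulVec v) = T27 v := by
  have h1 : ∀ i, sg 50 i = (![0, 0, 0, 0, 1, -1, 0, 0, 0, 0, 1, -1, 0, 0, 0, 0, 0, 0, -1, 0, 1, 0, 0, 0, 0, 0, 0] : W → ℤ) i := by decide +kernel
  have h2 : ∀ i, src 50 i = ![0, 0, 0, 0, 15, 12, 0, 0, 0, 0, 25, 22, 0, 0, 0, 0, 0, 0, 6, 0, 0, 0, 0, 0, 0, 0, 0] i := by decide +kernel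
  rw [T27_eq, T27_eq]
  simp only [Xmat_mulVec, h1, h2]
  simp
  ring

theorem T27_X_51 (t : F) (v : W → F) : T27 ((Xmat 51 t).mulVec v) = T27 v := by
  have h1 : ∀ i, sg 51 i = (![0, 0, 0, 0, -1, 0, 0, 1, 0, 0, 1, 0, 0, 0, 0, 0, -1, 0, 1, 0, 0, 0, 0, 0, -1, 0, 0] : W → ℤ) i := by decide +kernel
  have h2 : ∀ i, src 51 i = ![0, 0, 0, 0, 23, 0, 0, 22, 0, 0, 2, 0, 0, 0, 0, 0, 0, 0, 14, 0, 0, 0, 0, 0, 12, 0, 0] i := by decide +kernel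
  rw [T27_eq, T27_eq]
  simp only [Xmat_mulVec, h1, h2]
  simp
  ring

theorem T27_X_52 (t : F) (v : W → F) : T27 ((Xmat 52 t).mulVec v) = T27 v := by
  have h1 : ∀ i, sg 52 i = (![0, 0, 0, 0, 0, 0, 0, -1, 1, 0, -1, 1, 0, 0, 0, 0, 0, 0, -1, 1, 0, 0, 0, 0, 0, 0, 0] : W → ℤ) i := by decide +kernel
  have h2 : ∀ i, src 52 i = ![0, 0, 0, 0, 0, 0, 0, 15, 12, 0, 26, 23, 0, 0, 0, 0, 0, 0, 3, 0, 0, 0, 0, 0, 0, 0, 0] i := by decide +kernel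
  rw [T27_eq, T27_eq]
  simp only [Xmat_mulVec, h1, h2]
  simp
  ring

theorem T27_X_53 (t : F) (v : W → F) : T27 ((Xmat 53 t).mulVec v) = T27 v := by
  have h1 : ∀ i, sg 53 i = (![0, 0, 0, -1, -1, -1, 0, 0, 0, 0, 0, 0, 0, 0, 0, 0, 0, 0, 1, 0, 0, 1, 0, 0, 1, 0, 0] : W → ℤ) i := by decide +kernel
  have h2 : ∀ i, src 53 i = ![0, 0, 0, 0, 1, 2, 0, 0, 0, 0, 0, 0, 0, 0, 0, 0, 0, 0, 19, 0, 0, 22, 0, 0, 25, 0, 0] i := by decide +kernel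
  rw [T27_eq, T27_eq]
  simp only [Xmat_mulVec, h1, h2]
  simp
  ring

theorem T27_X_54 (t : F) (v : W → F) : T27 ((Xmat 54 t).mulVec v) = T27 v := by
  have h1 : ∀ i, sg 54 i = (![0, 0, 0, 0, 0, 1, 0, 0, -1, 0, 0, 1, 0, 0, -1, 0, 0, 0, 1, 0, 0, -1, 0, 0, 0, 0, 0] : W → ℤ) i := by decide +kernel
  have h2 : ∀ i, src 54 i = ![0, 0, 0, 0, 0, 26, 0, 0, 25, 0, 0, 1, 0, 0, 0, 0, 0, 0, 16, 0, 0, 15, 0, 0, 0, 0, 0] i := by decide +kernel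
  rw [T27_eq, T27_eq]
  simp only [Xmat_mulVec, h1, h2]
  simp
  ring

theorem T27_X_55 (t : F) (v : W → F) : T27 ((Xmat 55 t).mulVec v) = T27 v := by
  have h1 : ∀ i, sg 55 i = (![0, 0, 0, 0, 0, 0, -1, -1, -1, 0, 0, 0, 0, 0, 0, 0, 0, 0, 1, 0, 0, 1, 0, 0, 1, 0, 0] : W → ℤ) i := by decide +kernel
  have h2 : ∀ i, src 55 i = ![0, 0, 0, 0, 0, 0, 0, 1, 2, 0, 0, 0, 0, 0, 0, 0, 0, 0, 20, 0, 0, 23, 0, 0, 26, 0, 0] i := by decide +kernel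
  rw [T27_eq, T27_eq]
  simp only [Xmat_mulVec, h1, h2]
  simp
  ring

theorem T27_X_56 (t : F) (v : W → F) : T27 ((Xmat 56 t).mulVec v) = T27 v := by
  have h1 : ∀ i, sg 56 i = (![-1, 0, 1, 0, 0, 0, 0, 0, 0, 0, 0, 0, 1, -1, 0, 0, 0, 0, 0, 0, 0, 0, 0, 0, 0, 1, -1] : W → ℤ) i := by decide +kernel
  have h2 : ∀ i, src 56 i = ![17, 0, 11, 0, 0, 0, 0, 0, 0, 0, 0, 0, 21, 18, 0, 0, 0, 0, 0, 0, 0, 0, 0, 0, 0, 7, 4] i := by decide +kernel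
  rw [T27_eq, T27_eq]
  simp only [Xmat_mulVec, h1, h2]
  simp
  ring

theorem T27_X_57 (t : F) (v : W → F) : T27 ((Xmat 57 t).mulVec v) = T27 v := by
  have h1 : ∀ i, sg 57 i = (![0, -1, 1, 0, 0, 0, 0, 0, 0, -1, 1, 0, 0, 0, 0, 0, 0, 0, 0, 0, 0, 0, 0, 0, 0, -1, 1] : W → ℤ) i := by decide +kernel
  have h2 : ∀ i, src 57 i = ![0, 17, 14, 0, 0, 0, 0, 0, 0, 21, 18, 0, 0, 0, 0, 0, 0, 0, 0, 0, 0, 0, 0, 0, 0, 6, 3] i := by decide +kernel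
  rw [T27_eq, T27_eq]
  simp only [Xmat_mulVec, h1, h2]
  simp
  ring

theorem T27_X_58 (t : F) (v : W → F) : T27 ((Xmat 58 t).mulVec v) = T27 v := by
  have h1 : ∀ i, sg 58 i = (![0, 0, 1, 0, 0, -1, 0, 0, 0, 1, 0, 0, -1, 0, 0, 0, 0, 0, 0, 0, 0, 0, 0, 1, 0, 0, -1] : W → ℤ) i := by decide +kernel
  have h2 : ∀ i, src 58 i = ![0, 0, 19, 0, 0, 18, 0, 0, 0, 7, 0, 0, 6, 0, 0, 0, 0, 0, 0, 0, 0, 0, 0, 17, 0, 0, 16] i := by decide +kernel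
  rw [T27_eq, T27_eq]
  simp only [Xmat_mulVec, h1, h2]
  simp
  ring

theorem T27_X_59 (t : F) (v : W → F) : T27 ((Xmat 59 t).mulVec v) = T27 v := by
  have h1 : ∀ i, sg 59 i = (![0, 0, 0, 0, 0, 0, 0, 0, 0, 1, 0, 0, 1, 0, 0, 1, 0, 0, 0, 0, 0, 0, 0, 0, -1, -1, -1] : W → ℤ) i := by decide +kernel
  have h2 : ∀ i, src 59 i = ![0, 0, 0, 0, 0, 0, 0, 0, 0, 11, 0, 0, 14, 0, 0, 17, 0, 0, 0, 0, 0, 0, 0, 0, 18, 19, 20] i := by decide +kernel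
  rw [T27_eq, T27_eq]
  simp only [Xmat_mulVec, h1, h2]
  simp
  ring

theorem T27_X_60 (t : F) (v : W → F) : T27 ((Xmat 60 t).mulVec v) = T27 v := by
  have h1 : ∀ i, sg 60 i = (![0, 0, -1, 0, 0, 0, 0, 0, 1, 1, 0, 0, -1, 0, 0, 0, 0, 0, 0, 0, 0, 0, 1, 0, 0, -1, 0] : W → ℤ) i := by decide +kernel
  have h2 : ∀ i, src 60 i = ![0, 0, 20, 0, 0, 0, 0, 0, 18, 4, 0, 0, 3, 0, 0, 0, 0, 0, 0, 0, 0, 0, 17, 0, 0, 16, 0] i := by decide +kernel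
  rw [T27_eq, T27_eq]
  simp only [Xmat_mulVec, h1, h2]
  simp
  ring

theorem T27_X_61 (t : F) (v : W → F) : T27 ((Xmat 61 t).mulVec v) = T27 v := by
  have h1 : ∀ i, sg 61 i = (![0, 0, 1, 0, 0, -1, 0, 0, 0, 0, 1, 0, 0, -1, 0, 0, 0, 0, 0, 0, -1, 0, 0, 0, 0, 0, 1] : W → ℤ) i := by decide +kernel
  have h2 : ∀ i, src 61 i = ![0, 0, 22, 0, 0, 21, 0, 0, 0, 0, 7, 0, 0, 6, 0, 0, 0, 0, 0, 0, 17, 0, 0, 0, 0, 0, 15] i := by decide +kernel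
  rw [T27_eq, T27_eq]
  simp only [Xmat_mulVec, h1, h2]
  simp
  ring

theorem T27_X_62 (t : F) (v : W → F) : T27 ((Xmat 62 t).mulVec v) = T27 v := by
  have h1 : ∀ i, sg 62 i = (![0, 0, 0, 0, 0, 0, 0, 0, 0, 0, 1, 0, 0, 1, 0, 0, 1, 0, 0, 0, 0, 0, 0, 0, -1, -1, -1] : W → ℤ) i := by decide +kernel
  have h2 : ∀ i, src 62 i = ![0, 0, 0, 0, 0, 0, 0, 0, 0, 0, 11, 0, 0, 14, 0, 0, 17, 0, 0, 0, 0, 0, 0, 0, 21, 22, 23] i := by decide +kernel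
  rw [T27_eq, T27_eq]
  simp only [Xmat_mulVec, h1, h2]
  simp
  ring

theorem T27_X_63 (t : F) (v : W → F) : T27 ((Xmat 63 t).mulVec v) = T27 v := by
  have h1 : ∀ i, sg 63 i = (![0, 0, -1, 0, 0, 0, 0, 0, 1, 0, 1, 0, 0, -1, 0, 0, 0, 0, 0, -1, 0, 0, 0, 0, 0, 1, 0] : W → ℤ) i := by decide +kernel
  have h2 : ∀ i, src 63 i = ![0, 0, 23, 0, 0, 0, 0, 0, 21, 0, 4, 0, 0, 3, 0, 0, 0, 0, 0, 17, 0, 0, 0, 0, 0, 15, 0] i := by decide +kernel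
  rw [T27_eq, T27_eq]
  simp only [Xmat_mulVec, h1, h2]
  simp
  ring

theorem T27_X_64 (t : F) (v : W → F) : T27 ((Xmat 64 t).mulVec v) = T27 v := by
  have h1 : ∀ i, sg 64 i = (![0, 0, 0, 1, 0, -1, 0, 0, 0, 0, 0, 0, -1, 1, 0, 0, 0, 0, 0, 0, 0, 0, 0, 0, 1, 0, -1] : W → ℤ) i := by decide +kernel
  have h2 : ∀ i, src 64 i = ![0, 0, 0, 17, 0, 11, 0, 0, 0, 0, 0, 0, 22, 19, 0, 0, 0, 0, 0, 0, 0, 0, 0, 0, 7, 0, 1] i := by decide +kernel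
  rw [T27_eq, T27_eq]
  simp only [Xmat_mulVec, h1, h2]
  simp
  ring

theorem T27_X_65 (t : F) (v : W → F) : T27 ((Xmat 65 t).mulVec v) = T27 v := by
  have h1 : ∀ i, sg 65 i = (![0, 0, -1, 0, 0, -1, 0, 0, -1, 0, 0, 0, 1, 1, 1, 0, 0, 0, 0, 0, 0, 0, 0, 0, 0, 0, 0] : W → ℤ) i := by decide +kernel
  have h2 : ∀ i, src 65 i = ![0, 0, 1, 0, 0, 4, 0, 0, 7, 0, 0, 0, 15, 16, 17, 0, 0, 0, 0, 0, 0, 0, 0, 0, 0, 0, 0] i := by decide +kernel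
  rw [T27_eq, T27_eq]
  simp only [Xmat_mulVec, h1, h2]
  simp
  ring

theorem T27_X_66 (t : F) (v : W → F) : T27 ((Xmat 66 t).mulVec v) = T27 v := by
  have h1 : ∀ i, sg 66 i = (![0, 0, 0, 0, 0, 0, 1, 0, -1, 0, 0, 0, -1, 1, 0, 0, 0, 0, 0, 0, 0, 0, 0, 0, -1, 1, 0] : W → ℤ) i := by decide +kernel
  have h2 : ∀ i, src 66 i = ![0, 0, 0, 0, 0, 0, 17, 0, 11, 0, 0, 0, 23, 20, 0, 0, 0, 0, 0, 0, 0, 0, 0, 0, 4, 1, 0] i := by decide +kernel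
  rw [T27_eq, T27_eq]
  simp only [Xmat_mulVec, h1, h2]
  simp
  ring

theorem T27_X_67 (t : F) (v : W → F) : T27 ((Xmat 67 t).mulVec v) = T27 v := by
  have h1 : ∀ i, sg 67 i = (![0, 0, 0, 0, 1, -1, 0, 0, 0, 1, -1, 0, 0, 0, 0, 0, 0, 0, 0, 0, 0, 0, 0, 0, -1, 0, 1] : W → ℤ) i := by decide +kernel
  have h2 : ∀ i, src 67 i = ![0, 0, 0, 0, 17, 14, 0, 0, 0, 22, 19, 0, 0, 0, 0, 0, 0, 0, 0, 0, 0, 0, 0, 0, 6, 0, 0] i := by decide +kernel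
  rw [T27_eq, T27_eq]
  simp only [Xmat_mulVec, h1, h2]
  simp
  ring

theorem T27_X_68 (t : F) (v : W → F) : T27 ((Xmat 68 t).mulVec v) = T27 v := by
  have h1 : ∀ i, sg 68 i = (![0, 0, 1, 0, 0, 1, 0, 0, 1, -1, -1, -1, 0, 0, 0, 0, 0, 0, 0, 0, 0, 0, 0, 0, 0, 0, 0] : W → ℤ) i := by decide +kernel
  have h2 : ∀ i, src 68 i = ![0, 0, 0, 0, 0, 3, 0, 0, 6, 15, 16, 17, 0, 0, 0, 0, 0, 0, 0, 0, 0, 0, 0, 0, 0, 0, 0] i := by decide +kernel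
  rw [T27_eq, T27_eq]
  simp only [Xmat_mulVec, h1, h2]
  simp
  ring

theorem T27_X_69 (t : F) (v : W → F) : T27 ((Xmat 69 t).mulVec v) = T27 v := by
  have h1 : ∀ i, sg 69 i = (![0, 0, 0, 0, 0, 0, 0, 1, -1, 1, -1, 0, 0, 0, 0, 0, 0, 0, 0, 0, 0, 0, 0, 0, 1, -1, 0] : W → ℤ) i := by decide +kernel
  have h2 : ∀ i, src 69 i = ![0, 0, 0, 0, 0, 0, 0, 17, 14, 23, 20, 0, 0, 0, 0, 0, 0, 0, 0, 0, 0, 0, 0, 0, 3, 0, 0] i := by decide +kernel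
  rw [T27_eq, T27_eq]
  simp only [Xmat_mulVec, h1, h2]
  simp
  ring

theorem T27_X_70 (t : F) (v : W → F) : T27 ((Xmat 70 t).mulVec v) = T27 v := by
  have h1 : ∀ i, sg 70 i = (![0, 0, 0, 0, 0, 1, 0, 0, -1, 1, 0, 0, -1, 0, 0, 0, 0, 0, 0, 0, 0, 1, 0, 0, -1, 0, 0] : W → ℤ) i := by decide +kernel
  have h2 : ∀ i, src 70 i = ![0, 0, 0, 0, 0, 20, 0, 0, 19, 1, 0, 0, 0, 0, 0, 0, 0, 0, 0, 0, 0, 17, 0, 0, 16, 0, 0] i := by decide +kernel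
  rw [T27_eq, T27_eq]
  simp only [Xmat_mulVec, h1, h2]
  simp
  ring

theorem T27_X_71 (t : F) (v : W → F) : T27 ((Xmat 71 t).mulVec v) = T27 v := by
  have h1 : ∀ i, sg 71 i = (![0, 0, 0, 0, 0, 1, 0, 0, -1, 0, 1, 0, 0, -1, 0, 0, 0, 0, -1, 0, 0, 0, 0, 0, 1, 0, 0] : W → ℤ) i := by decide +kernel
  have h2 : ∀ i, src 71 i = ![0, 0, 0, 0, 0, 23, 0, 0, 22, 0, 1, 0, 0, 0, 0, 0, 0, 0, 17, 0, 0, 0, 0, 0, 15, 0, 0] i := by decide +kernel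
  rw [T27_eq, T27_eq]
  simp only [Xmat_mulVec, h1, h2]
  simp
  ring

/-- the root elements preserve the cubic form. -/
theorem T27_Xmat (r : ℕ) (t : F) (v : W → F) : T27 ((Xmat r t).mulVec v) = T27 v := by
  by_cases hr : r < 72
  · interval_cases r
    · exact T27_X_0 t v
    · exact T27_X_1 t v
    · exact T27_X_2 t v
    · exact T27_X_3 t v
    · exact T27_X_4 t v
    · exact T27_X_5 t v
    · exact T27_X_6 t v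
    · exact T27_X_7 t v
    · exact T27_X_8 t v
    · exact T27_X_9 t v
    · exact T27_X_10 t v
    · exact T27_X_11 t v
    · exact T27_X_12 t v
    · exact T27_X_13 t v
    · exact T27_X_14 t v
    · exact T27_X_15 t v
    · exact T27_X_16 t v
    · exact T27_X_17 t v
    · exact T27_X_18 t v
    · exact T27_X_19 t v
    · exact T27_X_20 t v
    · exact T27_X_21 t v
    · exact T27_X_22 t v
    · exact T27_X_23 t v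
    · exact T27_X_24 t v
    · exact T27_X_25 t v
    · exact T27_X_26 t v
    · exact T27_X_27 t v
    · exact T27_X_28 t v
    · exact T27_X_29 t v
    · exact T27_X_30 t v
    · exact T27_X_31 t v
    · exact T27_X_32 t v
    · exact T27_X_33 t v
    · exact T27_X_34 t v
    · exact T27_X_35 t v
    · exact T27_X_36 t v
    · exact T27_X_37 t v
    · exact T27_X_38 t v
    · exact T27_X_39 t v
    · exact T27_X_40 t v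
    · exact T27_X_41 t v
    · exact T27_X_42 t v
    · exact T27_X_43 t v
    · exact T27_X_44 t v
    · exact T27_X_45 t v
    · exact T27_X_46 t v
    · exact T27_X_47 t v
    · exact T27_X_48 t v
    · exact T27_X_49 t v
    · exact T27_X_50 t v
    · exact T27_X_51 t v
    · exact T27_X_52 t v
    · exact T27_X_53 t v
    · exact T27_X_54 t v
    · exact T27_X_55 t v
    · exact T27_X_56 t v
    · exact T27_X_57 t v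
    · exact T27_X_58 t v
    · exact T27_X_59 t v
    · exact T27_X_60 t v
    · exact T27_X_61 t v
    · exact T27_X_62 t v
    · exact T27_X_63 t v
    · exact T27_X_64 t v
    · exact T27_X_65 t v
    · exact T27_X_66 t v
    · exact T27_X_67 t v
    · exact T27_X_68 t v
    · exact T27_X_69 t v
    · exact T27_X_70 t v
    · exact T27_X_71 t v
  · unfold Xmat
    rw [Emat_eq_zero_of_ge r (by omega), smul_zero, add_zero, Matrix.one_mulVec]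

theorem X_mem_funStab (r : ℕ) (t : F) : X r t ∈ Cfsg.Lie.funStab F (T27 (F := F)) := by
  intro v
  exact T27_Xmat r t v

theorem E_le_funStab : E F ≤ Cfsg.Lie.funStab F (T27 (F := F)) := by
  unfold E
  rw [Subgroup.closure_le]
  rintro g ⟨r, t, -, rfl⟩
  exact X_mem_funStab r t

end Cfsg.Agent.Lib.Helper18_E6Inv
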