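import Cfsg.Agent.Lib.Helper18_E6Sing
import Cfsg.Agent.Lib.Helper18_E6Facts2

/-!
# E₆ on the 27-dimensional module: singular vectors and the basis vectors
-/

set_option autoImplicit false

namespace Cfsg.Agent.Lib.Helper18_E6Loc

open Cfsg.Agent.Lib.Helper18_E6Defs Cfsg.Agent.Lib.Helper18_E6Inv Cfsg.Agent.Lib.Helper18_E6Alg
open Cfsg.Agent.Lib.Helper18_E6Sing Cfsg.Agent.Lib.Helper18_E6Facts2

variable {F : Type*} [Field F]

theorem e_apply (a b : W) : (e a : W → F) b = if b = a then 1 else 0 := by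
  unfold e
  rw [Pi.single_apply]

theorem e_self (a : W) : (e a : W → F) a = 1 := by rw [e_apply, if_pos rfl]

theorem e_ne (a b : W) (h : b ≠ a) : (e a : W → F) b = 0 := by rw [e_apply, if_neg h]

/-- the gradient after adding a multiple of a basis vector. -/
theorem dT_add_smul_e (w : W → F) (c : F) (κ c' : W) :
    dT (w + c • e κ) c' =
      dT w c' + (if far κ c' then c * (tsg κ c' : F) * w (third κ c') else 0) := by
  unfold dT
  by_cases hf : far κ c'
  · rw [if_pos hf]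
    obtain ⟨h1, h2, -, -⟩ := jOf_far κ c' hf
    have hterm : ∀ j, j ≠ jOf κ c' →
        (pS c' j : F) * (w + c • (e κ : W → F)) (pX c' j) * (w + c • (e κ : W → F)) (pY c' j) =
          (pS c' j : F) * w (pX c' j) * w (pY c' j) := by
      intro j hj
      obtain ⟨hx, hy, -⟩ := h2 j hj
      simp only [Pi.add_apply, Pi.smul_apply, smul_eq_mul, e_ne κ _ hx, e_ne κ _ hy, mul_zero,
        add_zero]
    rw [← Finset.add_sum_erase _ _ (Finset.mem_univ (jOf κ c')),
      ← Finset.add_sum_erase (a := jOf κ c') _ _ (Finset.mem_univ (jOf κ c'))]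
    rw [Finset.sum_congr rfl (fun j hj => hterm j (Finset.ne_of_mem_erase hj))]
    have hxy := pXY_ne c' (jOf κ c')
    unfold tsg
    rcases h1 with ⟨hx, hy⟩ | ⟨hy, hx⟩
    · have hy' : pY c' (jOf κ c') ≠ κ := fun h => hxy (hx.trans h.symm)
      simp only [Pi.add_apply, Pi.smul_apply, smul_eq_mul, hx, e_self, e_ne κ _ hy', mul_one,
        mul_zero, add_zero, ← hy]
      ring
    · have hx' : pX c' (jOf κ c') ≠ κ := fun h => hxy (h.trans hy.symm)
      simp only [Pi.add_apply, Pi.smul_apply, smul_eq_mul, hy, e_self, e_ne κ _ hx', mul_one,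
        mul_zero, add_zero, ← hx]
      ring
  · rw [if_neg hf, add_zero]
    apply Finset.sum_congr rfl
    intro j _
    obtain ⟨hx, hy⟩ := jOf_not_far κ c' hf j
    simp only [Pi.add_apply, Pi.smul_apply, smul_eq_mul, e_ne κ _ hx, e_ne κ _ hy, mul_zero,
      add_zero]

theorem dT_zero (c' : W) : dT (F := F) (fun _ => 0) c' = 0 := by
  unfold dT
  simp

theorem tsg_ne_zero (κ c' : W) (hf : far κ c') : (tsg κ c' : F) ≠ 0 := by
  obtain ⟨-, -, h, -⟩ := jOf_far κ c' hf
  rcases h with h | h <;> rw [h] <;> simp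

theorem Sing_smul_e (c : F) (κ : W) : Sing (c • (e κ : W → F)) := by
  intro c'
  have := dT_add_smul_e (fun _ => (0 : F)) c κ c'
  have h0 : (fun _ => (0 : F)) + c • (e κ : W → F) = c • e κ := by
    ext i
    simp
  rw [h0] at this
  rw [this, dT_zero]
  simp

theorem Sing_e (κ : W) : Sing (e κ : W → F) := by
  have := Sing_smul_e (1 : F) κ
  rwa [one_smul] at this

/-- if `w` and `w + c e_κ` are singular (`c ≠ 0`) then `w` vanishes on the weights far from `κ`. -/
theorem far_eq_zero_of_Sing (w : W → F) (c : F) (hc : c ≠ 0) (κ : W) (hw : Sing w)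
    (hw' : Sing (w + c • e κ)) (b : W) (hb : far κ b) : w b = 0 := by
  obtain ⟨-, -, -, h1, h2, -⟩ := jOf_far κ b hb
  have := hw' (third κ b)
  rw [dT_add_smul_e, hw, zero_add, if_pos h1, h2] at this
  rcases mul_eq_zero.mp this with h | h
  · rcases mul_eq_zero.mp h with h | h
    · exact absurd h hc
    · exact absurd h (tsg_ne_zero κ _ h1)
  · exact h

/-- conversely. -/
theorem Sing_add_smul_e (w : W → F) (c : F) (κ : W) (hw : Sing w)
    (h : ∀ b, far κ b → w b = 0) : Sing (w + c • e κ) := by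
  intro c'
  rw [dT_add_smul_e, hw, zero_add]
  split_ifs with hf
  · obtain ⟨-, -, -, h1, -⟩ := jOf_far κ c' hf
    rw [h _ h1, mul_zero]
  · rfl

/-- `g` has `e_κ` as an eigenvector. -/
def Eig (g : GL W F) (κ : W) : Prop := ∃ c : F, c ≠ 0 ∧ (g : Matrix W W F).mulVec (e κ) = c • e κ

/-- collinearity is preserved: the image of a neighbour of an eigen-weight `κ` vanishes far from `κ`. -/
theorem support_of_nbr (hF : ∃ s : F, s ≠ 0 ∧ s ≠ 1) (g : GL W F) (hg : g ∈ G27 F) (κ μ : W)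
    (hκ : Eig g κ) (hn : nbr κ μ) (b : W) (hb : far κ b) :
    (g : Matrix W W F).mulVec (e μ) b = 0 := by
  obtain ⟨c, hc, hgc⟩ := hκ
  have h1 : Sing ((e μ : W → F) + (1 : F) • e κ) := by
    apply Sing_add_smul_e _ _ _ (Sing_e μ)
    intro b' hb'
    apply e_ne
    rintro rfl
    exact not_nbr_far κ _ hn hb'
  have h2 := Sing_mulVec hF g hg _ h1
  rw [Matrix.mulVec_add, Matrix.mulVec_smul, hgc, one_smul] at h2
  exact far_eq_zero_of_Sing _ c hc κ (Sing_mulVec hF g hg _ (Sing_e μ)) h2 b hb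

/-- non-collinearity is preserved. -/
theorem exists_far_ne_zero (hF : ∃ s : F, s ≠ 0 ∧ s ≠ 1) (g : GL W F) (hg : g ∈ G27 F) (κ μ : W)
    (hκ : Eig g κ) (hn : far κ μ) :
    ∃ b, far κ b ∧ (g : Matrix W W F).mulVec (e μ) b ≠ 0 := by
  by_contra hcon
  push Not at hcon
  obtain ⟨c, hc, hgc⟩ := hκ
  have h1 : Sing ((g : Matrix W W F).mulVec (e μ) + c • e κ) :=
    Sing_add_smul_e _ _ _ (Sing_mulVec hF g hg _ (Sing_e μ)) hcon
  have h2 : Sing ((g : Matrix W W F).mulVec (e μ + (1 : F) • e κ)) := by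
    rw [Matrix.mulVec_add, Matrix.mulVec_smul, hgc, one_smul]
    exact h1
  have h3 := Sing_of_mulVec hF g hg _ h2
  have h4 := far_eq_zero_of_Sing (e μ) (1 : F) one_ne_zero κ (Sing_e μ) h3 μ hn
  rw [e_self] at h4
  exact one_ne_zero h4

/-- the gradient of a combination of two far basis vectors. -/
theorem dT_two (c₁ c₂ : F) (κ₁ κ₂ : W) (hf : far κ₁ κ₂) (c' : W) :
    dT (c₁ • e κ₁ + c₂ • e κ₂) c' =
      if c' = third κ₁ κ₂ then c₁ * c₂ * (tsg κ₂ (third κ₁ κ₂) : F) else 0 := by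
  rw [dT_add_smul_e, Sing_smul_e c₁ κ₁ c', zero_add]
  have hf' := far_symm _ _ hf
  obtain ⟨-, -, -, g1, g2, g3⟩ := jOf_far κ₂ κ₁ hf'
  by_cases hc : c' = third κ₁ κ₂
  · subst hc
    rw [if_pos rfl, g3] at *
    rw [if_pos g1, g2, Pi.smul_apply, e_self, smul_eq_mul]
    ring
  · rw [if_neg hc]
    split_ifs with hfc
    · obtain ⟨-, -, -, k1, k2, k3⟩ := jOf_far κ₂ c' hfc
      have : third κ₂ c' ≠ κ₁ := by
        intro h
        apply hc
        rw [← k2, h, g3]
      rw [Pi.smul_apply, e_ne _ _ this]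
      simp
    · rfl

/-- the image of the third weight of a monomial through two eigen-weights has a non-zero
coefficient at that weight. -/
theorem third_ne_zero (hF : ∃ s : F, s ≠ 0 ∧ s ≠ 1) (g : GL W F) (hg : g ∈ G27 F) (κ₁ κ₂ : W)
    (h₁ : Eig g κ₁) (h₂ : Eig g κ₂) (hf : far κ₁ κ₂) :
    (g : Matrix W W F).mulVec (e (third κ₁ κ₂)) (third κ₁ κ₂) ≠ 0 := by
  obtain ⟨c₁, hc₁, hg₁⟩ := h₁
  obtain ⟨c₂, hc₂, hg₂⟩ := h₂
  have hL := L_invariant hF g hg ((1 : F) • e κ₁ + (1 : F) • e κ₂) (e (third κ₁ κ₂))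
  rw [Matrix.mulVec_add, Matrix.mulVec_smul, Matrix.mulVec_smul, hg₁, hg₂, one_smul (M := F) (b := c₁ • (e κ₁ : W → F)),
    one_smul (M := F) (b := c₂ • (e κ₂ : W → F))] at hL
  unfold L at hL
  simp only [dT_two _ _ _ _ hf, mul_ite, mul_zero, Finset.sum_ite_eq', Finset.mem_univ, if_true,
    e_self, one_mul, mul_one] at hL
  intro h0
  rw [h0, zero_mul] at hL
  have hf' := far_symm _ _ hf
  obtain ⟨-, -, -, g1, g2, g3⟩ := jOf_far κ₂ κ₁ hf'
  rw [← g3] at g1
  exact tsg_ne_zero κ₂ _ g1 hL.symm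

end Cfsg.Agent.Lib.Helper18_E6Loc
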