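import Cfsg.Agent.Lib.Helper18_E6Facts

/-!
# E₆ on the 27-dimensional module: the matrices `E_r` and their relations
-/

set_option autoImplicit false

namespace Cfsg.Agent.Lib.Helper18_E6Mon

open Cfsg.Agent.Lib.Helper18_E6Defs Cfsg.Agent.Lib.Helper18_E6Facts

variable {F : Type*} [Field F]

/-- a "monomial" matrix: row `i` has the single entry `a i`, in column `f i`. -/
def Mon (F : Type*) [Field F] (f : W → W) (a : W → ℤ) : Matrix W W F :=
  Matrix.of fun i j => if j = f i then (a i : F) else 0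

theorem Emat_eq (r : ℕ) : Emat F r = Mon F (src r) (sg r) := rfl

theorem Mon_apply (f : W → W) (a : W → ℤ) (i j : W) :
    Mon F f a i j = if j = f i then (a i : F) else 0 := rfl

theorem Mon_mul (f g : W → W) (a b : W → ℤ) :
    Mon F f a * Mon F g b = Mon F (fun i => g (f i)) (fun i => a i * b (f i)) := by
  ext i k
  rw [Matrix.mul_apply, Finset.sum_eq_single (f i)]
  · simp only [Mon_apply, if_true]
    split_ifs <;> simp
  · intro j _ hj
    simp [Mon_apply, hj]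
  · intro h
    exact absurd (Finset.mem_univ _) h

theorem Mon_eq_of (f g : W → W) (a b : W → ℤ)
    (h : ∀ i, a i = b i ∧ (a i ≠ 0 → f i = g i)) : Mon F f a = Mon F g b := by
  ext i j
  simp only [Mon_apply]
  obtain ⟨h1, h2⟩ := h i
  by_cases ha : a i = 0
  · rw [← h1, ha]; simp
  · rw [← h1, h2 ha]

theorem Mon_eq_zero (f : W → W) (a : W → ℤ) (h : ∀ i, a i = 0) : Mon F f a = 0 := by
  ext i j
  simp [Mon_apply, h i]

theorem Mon_sub_eq (f₁ f₂ f₃ : W → W) (a₁ a₂ a₃ : W → ℤ) (c : ℤ)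
    (h : ∀ i, a₁ i - a₂ i = c * a₃ i ∧ (a₁ i ≠ 0 → f₁ i = f₃ i) ∧ (a₂ i ≠ 0 → f₂ i = f₃ i)) :
    Mon F f₁ a₁ - Mon F f₂ a₂ = (c : F) • Mon F f₃ a₃ := by
  ext i j
  simp only [Matrix.sub_apply, Matrix.smul_apply, Mon_apply, smul_eq_mul]
  obtain ⟨h1, h2, h3⟩ := h i
  have h1' : (a₁ i : F) - (a₂ i : F) = (c : F) * (a₃ i : F) := by exact_mod_cast congrArg (Int.cast (R := F)) h1
  by_cases ha1 : a₁ i = 0
  · by_cases ha2 : a₂ i = 0
    · simp only [ha1, ha2, Int.cast_zero, sub_zero, ite_self] at h1' ⊢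
      split_ifs
      · exact h1'
      · simp
    · rw [h3 ha2]
      simp only [ha1, Int.cast_zero, ite_self, zero_sub] at h1' ⊢
      split_ifs
      · exact h1'
      · simp
  · by_cases ha2 : a₂ i = 0
    · rw [h2 ha1]
      simp only [ha2, Int.cast_zero, ite_self, sub_zero] at h1' ⊢
      split_ifs
      · exact h1'
      · simp
    · rw [h2 ha1, h3 ha2]
      split_ifs
      · exact h1'
      · simp

theorem Mon_mulVec (f : W → W) (a : W → ℤ) (v : W → F) (i : W) :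
    (Mon F f a).mulVec v i = (a i : F) * v (f i) := by
  rw [Matrix.mulVec, dotProduct, Finset.sum_eq_single (f i)]
  · simp [Mon_apply]
  · intro j _ hj
    simp [Mon_apply, hj]
  · intro h
    exact absurd (Finset.mem_univ _) h

/-! ### relations among the `E_r` -/

theorem sg_eq_zero_of_ge (r : ℕ) (hr : 72 ≤ r) (i : W) : sg r i = 0 := by
  have h : sgN r i = 0 := by
    unfold sgN
    have hlt : sgCode < 4 ^ (27 * r + i.val) := by
      calc sgCode < 4 ^ (27 * 72) := by decide +kernel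
        _ ≤ 4 ^ (27 * r + i.val) := Nat.pow_le_pow_right (by norm_num) (by omega)
    rw [Nat.div_eq_of_lt hlt]
  unfold sg
  rw [h]
  rfl

theorem Emat_eq_zero_of_ge (r : ℕ) (hr : 72 ≤ r) : Emat F r = 0 := by
  rw [Emat_eq]
  exact Mon_eq_zero _ _ (sg_eq_zero_of_ge r hr)

theorem Emat_sq (r : ℕ) : Emat F r * Emat F r = 0 := by
  by_cases hr : r < 72
  · rw [Emat_eq, Mon_mul]
    exact Mon_eq_zero _ _ (fun i => sq_zero ⟨r, hr⟩ i)
  · rw [Emat_eq_zero_of_ge r (by omega), mul_zero]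

theorem Emat_comm (r s : ℕ) (hr : r < 72) (hs : s < 72) (hsr : s ≠ r) (hsn : s ≠ negR r)
    (h : sumR r s = 72) : Emat F r * Emat F s = Emat F s * Emat F r := by
  rw [Emat_eq, Emat_eq, Mon_mul, Mon_mul]
  apply Mon_eq_of
  intro i
  have := R2facts ⟨r, hr⟩ ⟨s, hs⟩ hsr hsn i
  unfold R2fact at this
  simp only [h, if_true] at this
  exact this

theorem Emat_bracket (r s : ℕ) (hr : r < 72) (hs : s < 72) (hsr : s ≠ r) (hsn : s ≠ negR r)
    (h : sumR r s ≠ 72) :
    Emat F r * Emat F s - Emat F s * Emat F r = (strN r s : F) • Emat F (sumR r s) ∧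
    Emat F r * Emat F s * Emat F r = 0 ∧ Emat F s * Emat F r * Emat F s = 0 := by
  have hf := R2facts ⟨r, hr⟩ ⟨s, hs⟩ hsr hsn
  unfold R2fact at hf
  simp only [h, if_false] at hf
  refine ⟨?_, ?_, ?_⟩
  · rw [Emat_eq, Emat_eq, Emat_eq, Mon_mul, Mon_mul]
    apply Mon_sub_eq
    intro i
    exact ⟨(hf i).1, (hf i).2.1, (hf i).2.2.1⟩
  · rw [Emat_eq, Emat_eq, Mon_mul, Mon_mul]
    exact Mon_eq_zero _ _ (fun i => (hf i).2.2.2.1)
  · rw [Emat_eq, Emat_eq, Mon_mul, Mon_mul]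
    exact Mon_eq_zero _ _ (fun i => (hf i).2.2.2.2)

theorem Emat_neg (r : ℕ) (hr : r < 72) :
    Emat F r * Emat F (negR r) * Emat F r = Emat F r := by
  rw [Emat_eq, Emat_eq, Mon_mul, Mon_mul]
  apply Mon_eq_of
  intro i
  have h := neg_facts ⟨r, hr⟩ i
  by_cases h0 : sg r i = 0
  · simp [h0]
  · obtain ⟨h1, h2⟩ := h.1 h0
    simp only [h1, one_mul, h2, ne_eq, implies_true, and_self]

end Cfsg.Agent.Lib.Helper18_E6Mon
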