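import Cfsg.Agent.Lib.Helper18_E6Alg

/-!
# E₆ on the 27-dimensional module: isometries of the cubic form preserve singular vectors
-/

set_option autoImplicit false

namespace Cfsg.Agent.Lib.Helper18_E6Sing

open Cfsg.Agent.Lib.Helper18_E6Defs Cfsg.Agent.Lib.Helper18_E6Inv Cfsg.Agent.Lib.Helper18_E6Alg

variable {F : Type*} [Field F]

theorem dT_smul (s : F) (v : W → F) (c : W) : dT (s • v) c = s ^ 2 * dT v c := by
  unfold dT
  rw [Finset.mul_sum]
  apply Finset.sum_congr rfl
  intro j _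
  simp only [Pi.smul_apply, smul_eq_mul]
  ring

theorem L_smul_left (s : F) (v y : W → F) : L (s • v) y = s ^ 2 * L v y := by
  unfold L
  rw [Finset.mul_sum]
  apply Finset.sum_congr rfl
  intro c _
  rw [dT_smul]
  ring

theorem L_smul_right (s : F) (v y : W → F) : L v (s • y) = s * L v y := by
  unfold L
  rw [Finset.mul_sum]
  apply Finset.sum_congr rfl
  intro c _
  simp only [Pi.smul_apply, smul_eq_mul]
  ring

theorem L_single (v : W → F) (c : W) : L v (e c) = dT v c := by
  unfold L e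
  rw [Finset.sum_eq_single c]
  · simp
  · intro b _ hb
    simp [Pi.single_apply, hb]
  · intro h
    exact absurd (Finset.mem_univ _) h

/-- the isometry group of the cubic form on `F²⁷`. -/
abbrev G27 (F : Type*) [Field F] : Subgroup (GL W F) := Cfsg.Lie.funStab F (T27 (F := F))

theorem mem_G27 (g : GL W F) :
    g ∈ G27 F ↔ ∀ v, T27 ((g : Matrix W W F).mulVec v) = T27 v := Iff.rfl

theorem L_key (v y : W → F) (s : F) :
    (s - s ^ 2) * L v y =
      (T27 (v + s • y) - T27 v - T27 (s • y)) - s ^ 2 * (T27 (v + y) - T27 v - T27 y) := by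
  rw [T27_add, T27_add, L_smul_right, L_smul_left]
  ring

/-- isometries preserve the pairing of the gradient. -/
theorem L_invariant (hF : ∃ s : F, s ≠ 0 ∧ s ≠ 1) (g : GL W F) (hg : g ∈ G27 F) (v y : W → F) :
    L ((g : Matrix W W F).mulVec v) ((g : Matrix W W F).mulVec y) = L v y := by
  obtain ⟨s, hs0, hs1⟩ := hF
  rw [mem_G27] at hg
  have h1 := L_key v y s
  have h2 := L_key ((g : Matrix W W F).mulVec v) ((g : Matrix W W F).mulVec y) s
  rw [← Matrix.mulVec_smul, ← Matrix.mulVec_add, ← Matrix.mulVec_add, hg, hg, hg, hg, hg,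
    ← h1] at h2
  have hne : s - s ^ 2 ≠ 0 := by
    have : s - s ^ 2 = s * (1 - s) := by ring
    rw [this]
    exact mul_ne_zero hs0 (sub_ne_zero.mpr (Ne.symm hs1))
  exact mul_left_cancel₀ hne h2

theorem mulVec_inv_mulVec (g : GL W F) (v : W → F) :
    (g : Matrix W W F).mulVec (((g⁻¹ : GL W F) : Matrix W W F).mulVec v) = v := by
  rw [Matrix.mulVec_mulVec, ← Units.val_mul, mul_inv_cancel, Units.val_one, Matrix.one_mulVec]

theorem inv_mulVec_mulVec (g : GL W F) (v : W → F) :
    ((g⁻¹ : GL W F) : Matrix W W F).mulVec ((g : Matrix W W F).mulVec v) = v := by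
  rw [Matrix.mulVec_mulVec, ← Units.val_mul, inv_mul_cancel, Units.val_one, Matrix.one_mulVec]

/-- isometries preserve singular vectors. -/
theorem Sing_mulVec (hF : ∃ s : F, s ≠ 0 ∧ s ≠ 1) (g : GL W F) (hg : g ∈ G27 F) (v : W → F)
    (hv : Sing v) : Sing ((g : Matrix W W F).mulVec v) := by
  intro c
  rw [← L_single, ← mulVec_inv_mulVec g (e c), L_invariant hF g hg]
  unfold L
  apply Finset.sum_eq_zero
  intro b _
  rw [hv b, mul_zero]

theorem Sing_of_mulVec (hF : ∃ s : F, s ≠ 0 ∧ s ≠ 1) (g : GL W F) (hg : g ∈ G27 F) (v : W → F)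
    (hv : Sing ((g : Matrix W W F).mulVec v)) : Sing v := by
  have := Sing_mulVec hF g⁻¹ (inv_mem hg) _ hv
  rwa [inv_mulVec_mulVec] at this

end Cfsg.Agent.Lib.Helper18_E6Sing
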