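import Cfsg.Agent.Lib.Helper18_E6Clear

/-!
# E₆ on the 27-dimensional module: one step of the normalisation of an isometry
-/

set_option autoImplicit false

namespace Cfsg.Agent.Lib.Helper18_E6Stage

open Cfsg.Agent.Lib.Helper18_E6Defs Cfsg.Agent.Lib.Helper18_E6Hom Cfsg.Agent.Lib.Helper18_E6Inv
open Cfsg.Agent.Lib.Helper18_E6Sing Cfsg.Agent.Lib.Helper18_E6Facts2 Cfsg.Agent.Lib.Helper18_E6Loc
open Cfsg.Agent.Lib.Helper18_E6Clear

variable {F : Type*} [Field F]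

/-- the weights where the image of `e_μ` may be non-zero, given the eigen-weights `S`. -/
def allowed (S : List W) (μ l : W) : Prop := ∀ κ ∈ S, nbr κ μ → ¬ far κ l

instance (S : List W) (μ l : W) : Decidable (allowed S μ l) := by unfold allowed; infer_instance

/-- `x_r(t)` fixes all `e_κ`, `κ ∈ S`. -/
def fixesAll (S : List W) (r : ℕ) : Prop := ∀ κ ∈ S, fixes r κ

instance (S : List W) (r : ℕ) : Decidable (fixesAll S r) := by unfold fixesAll; infer_instance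

theorem allowed_of_ne_zero (hF : ∃ s : F, s ≠ 0 ∧ s ≠ 1) (S : List W) (μ : W) (g : GL W F)
    (hg : g ∈ G27 F) (hS : ∀ κ ∈ S, Eig g κ) (l : W)
    (hl : (g : Matrix W W F).mulVec (e μ) l ≠ 0) : allowed S μ l := by
  intro κ hκ hn hf
  exact hl (support_of_nbr hF g hg κ μ (hS κ hκ) hn l hf)

theorem Eig_mul_of_fixes (S : List W) (g u : GL W F) (hu : u ∈ ER F (fixesAll S)) (κ : W)
    (hκ : κ ∈ S) (h : Eig g κ) : Eig (u * g) κ := by
  obtain ⟨c, hc, hgc⟩ := h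
  refine ⟨c, hc, ?_⟩
  rw [Units.val_mul, ← Matrix.mulVec_mulVec, hgc, Matrix.mulVec_smul,
    ER_fixes (fixesAll S) κ (fun r hr => hr κ hκ) u hu]

/-- the clearing step. -/
theorem stage_clear (hF : ∃ s : F, s ≠ 0 ∧ s ≠ 1) (S : List W) (μ : W)
    (hclear : ∀ ν, nbr μ ν → allowed S μ ν → fixesAll S (rootOf μ ν))
    (g : GL W F) (hg : g ∈ G27 F) (hS : ∀ κ ∈ S, Eig g κ)
    (hμ : (g : Matrix W W F).mulVec (e μ) μ ≠ 0) :
    ∃ u ∈ ER F (fixesAll S), Eig (u * g) μ := by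
  obtain ⟨u, hu, huw⟩ := clear μ ((g : Matrix W W F).mulVec (e μ))
    (Sing_mulVec hF g hg _ (Sing_e μ)) hμ hF (fixesAll S)
    (fun ν hn hν => hclear ν hn (allowed_of_ne_zero hF S μ g hg hS ν hν))
  refine ⟨u, hu, _, hμ, ?_⟩
  rw [Units.val_mul, ← Matrix.mulVec_mulVec, huw]

/-- a stage where the coefficient at `μ` is automatically non-zero. -/
theorem stageB (hF : ∃ s : F, s ≠ 0 ∧ s ≠ 1) (S : List W) (μ : W)
    (hclear : ∀ ν, nbr μ ν → allowed S μ ν → fixesAll S (rootOf μ ν))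
    (κ₁ κ₂ : W) (h₁ : κ₁ ∈ S) (h₂ : κ₂ ∈ S) (hf : far κ₁ κ₂) (hμ : third κ₁ κ₂ = μ)
    (g : GL W F) (hg : g ∈ G27 F) (hS : ∀ κ ∈ S, Eig g κ) :
    ∃ u ∈ E F, ∀ κ ∈ μ :: S, Eig (u * g) κ := by
  have h0 := third_ne_zero hF g hg κ₁ κ₂ (hS κ₁ h₁) (hS κ₂ h₂) hf
  rw [hμ] at h0
  obtain ⟨u, hu, hEig⟩ := stage_clear hF S μ hclear g hg hS h0
  refine ⟨u, ER_le_E _ hu, ?_⟩
  intro κ hκ
  rcases List.mem_cons.mp hκ with rfl | hκ
  · exact hEig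
  · exact Eig_mul_of_fixes S g u hu κ hκ (hS κ hκ)

/-- a stage where the coefficient at `μ` has to be made non-zero first. -/
theorem stageA (hF : ∃ s : F, s ≠ 0 ∧ s ≠ 1) (S : List W) (μ : W)
    (hclear : ∀ ν, nbr μ ν → allowed S μ ν → fixesAll S (rootOf μ ν))
    (P' : W → Prop) (rk : W → ℕ) (step : W → ℕ)
    (hreach : ∀ l, (allowed S μ l ∧ P' l) → l ≠ μ → fixesAll S (step l) ∧
      ∃ l', (allowed S μ l' ∧ P' l') ∧ rk l' < rk l ∧ src (step l) l' = l ∧ sg (step l) l' ≠ 0)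
    (g : GL W F) (hg : g ∈ G27 F) (hS : ∀ κ ∈ S, Eig g κ)
    (hP' : ∃ b, P' b ∧ (g : Matrix W W F).mulVec (e μ) b ≠ 0) :
    ∃ u ∈ E F, ∀ κ ∈ μ :: S, Eig (u * g) κ := by
  obtain ⟨b, hb, hwb⟩ := hP'
  obtain ⟨u₁, hu₁, h1⟩ := reach (F := F) μ (fun l => allowed S μ l ∧ P' l) rk step (fixesAll S)
    hreach (rk b) ((g : Matrix W W F).mulVec (e μ)) b
    ⟨allowed_of_ne_zero hF S μ g hg hS b hwb, hb⟩ le_rfl hwb
  have hg₁ : u₁ * g ∈ G27 F := mul_mem (E_le_G27 (ER_le_E _ hu₁)) hg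
  have hS₁ : ∀ κ ∈ S, Eig (u₁ * g) κ :=
    fun κ hκ => Eig_mul_of_fixes S g u₁ hu₁ κ hκ (hS κ hκ)
  have h1' : ((u₁ * g : GL W F) : Matrix W W F).mulVec (e μ) μ ≠ 0 := by
    rwa [Units.val_mul, ← Matrix.mulVec_mulVec]
  obtain ⟨u₂, hu₂, hEig⟩ := stage_clear hF S μ hclear (u₁ * g) hg₁ hS₁ h1'
  refine ⟨u₂ * u₁, mul_mem (ER_le_E _ hu₂) (ER_le_E _ hu₁), ?_⟩
  intro κ hκ
  rw [mul_assoc]
  rcases List.mem_cons.mp hκ with rfl | hκ
  · exact hEig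
  · exact Eig_mul_of_fixes S (u₁ * g) u₂ hu₂ κ hκ (hS₁ κ hκ)

theorem mulVec_e_ne_zero (g : GL W F) (μ : W) : ∃ b, (g : Matrix W W F).mulVec (e μ) b ≠ 0 := by
  by_contra hcon
  push Not at hcon
  have h0 : (g : Matrix W W F).mulVec (e μ) = 0 := funext hcon
  have := inv_mulVec_mulVec g (e μ : W → F)
  rw [h0, Matrix.mulVec_zero] at this
  have h1 := congrFun this μ
  rw [e_self] at h1
  exact zero_ne_one h1

/-- a weight whose image is forced to be a multiple of itself. -/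
theorem forced (hF : ∃ s : F, s ≠ 0 ∧ s ≠ 1) (S : List W) (μ : W)
    (h : ∀ l, l ≠ μ → ∃ κ ∈ S, nbr κ μ ∧ far κ l)
    (g : GL W F) (hg : g ∈ G27 F) (hS : ∀ κ ∈ S, Eig g κ) : Eig g μ := by
  have h0 : ∀ l, l ≠ μ → (g : Matrix W W F).mulVec (e μ) l = 0 := by
    intro l hl
    obtain ⟨κ, hκ, hn, hf⟩ := h l hl
    exact support_of_nbr hF g hg κ μ (hS κ hκ) hn l hf
  obtain ⟨b, hb⟩ := mulVec_e_ne_zero g μ
  have hbμ : b = μ := by
    by_contra hne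
    exact hb (h0 b hne)
  subst hbμ
  refine ⟨_, hb, ?_⟩
  ext i
  rw [Pi.smul_apply, smul_eq_mul]
  by_cases hi : i = b
  · subst hi
    rw [e_self, mul_one]
  · rw [h0 i hi, e_ne _ _ hi, mul_zero]

end Cfsg.Agent.Lib.Helper18_E6Stage
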