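import Cfsg.Agent.Lib.Helper18_E6Diag

/-!
# E₆ on the 27-dimensional module: from `Fin 27` to `Fin 3 × Fin 3 × Fin 3`
-/

set_option autoImplicit false
set_option maxRecDepth 100000

namespace Cfsg.Agent.Lib.Helper18_E6Transfer

open Cfsg Cfsg.Lie
open Cfsg.Agent.Lib.Helper18_E6Defs Cfsg.Agent.Lib.Helper18_E6Hom Cfsg.Agent.Lib.Helper18_E6Inv
open Cfsg.Agent.Lib.Helper18_E6Sing Cfsg.Agent.Lib.Helper18_E6Diag

variable {F : Type*} [Field F]

/-- the numbering `(k, i, j) ↦ 9k + 3i + j` of the 27 coordinates. -/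
def iota : I27 ≃ W where
  toFun p := ⟨9 * p.1.val + 3 * p.2.1.val + p.2.2.val, by
    have := p.1.2; have := p.2.1.2; have := p.2.2.2; omega⟩
  invFun w := (⟨w.val / 9, by have := w.2; omega⟩, ⟨w.val % 9 / 3, by omega⟩, ⟨w.val % 3, by omega⟩)
  left_inv := by decide
  right_inv := by decide

theorem iota_symm_eq : ∀ w : W, iota.symm w = (![((0 : Fin 3), (0 : Fin 3), (0 : Fin 3)), ((0 : Fin 3), (0 : Fin 3), (1 : Fin 3)), ((0 : Fin 3), (0 : Fin 3), (2 : Fin 3)), ((0 : Fin 3), (1 : Fin 3), (0 : Fin 3)), ((0 : Fin 3), (1 : Fin 3), (1 : Fin 3)), ((0 : Fin 3), (1 : Fin 3), (2 : Fin 3)), ((0 : Fin 3), (2 : Fin 3), (0 : Fin 3)), ((0 : Fin 3), (2 : Fin 3), (1 : Fin 3)), ((0 : Fin 3), (2 : Fin 3), (2 : Fin 3)), ((1 : Fin 3), (0 : Fin 3), (0 : Fin 3)), ((1 : Fin 3), (0 : Fin 3), (1 : Fin 3)), ((1 : Fin 3), (0 : Fin 3), (2 : Fin 3)), ((1 : Fin 3), (1 : Fin 3), (0 : Fin 3)), ((1 : Fin 3), (1 : Fin 3), (1 : Fin 3)), ((1 : Fin 3), (1 : Fin 3),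 (2 : Fin 3)), ((1 : Fin 3), (2 : Fin 3), (0 : Fin 3)), ((1 : Fin 3), (2 : Fin 3), (1 : Fin 3)), ((1 : Fin 3), (2 : Fin 3), (2 : Fin 3)), ((2 : Fin 3), (0 : Fin 3), (0 : Fin 3)), ((2 : Fin 3), (0 : Fin 3), (1 : Fin 3)), ((2 : Fin 3), (0 : Fin 3), (2 : Fin 3)), ((2 : Fin 3), (1 : Fin 3), (0 : Fin 3)), ((2 : Fin 3), (1 : Fin 3), (1 : Fin 3)), ((2 : Fin 3), (1 : Fin 3), (2 : Fin 3)), ((2 : Fin 3), (2 : Fin 3), (0 : Fin 3)), ((2 : Fin 3), (2 : Fin 3), (1 : Fin 3)), ((2 : Fin 3), (2 : Fin 3), (2 : Fin 3))] : W → I27) w := by decide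

/-- the cubic form of `Def_E6` in the numbering by `Fin 27`. -/
theorem cubicT_eq (v : I27 → F) : cubicT v = T27 (fun w => v (iota.symm w)) := by
  rw [T27_eq]
  simp only [iota_symm_eq]
  unfold cubicT mat3
  simp [Matrix.det_fin_three, Matrix.trace, Matrix.mul_apply, Fin.sum_univ_three]
  ring

/-- renumbering the coordinates, as an isomorphism of general linear groups. -/
noncomputable def Phi (F : Type*) [Field F] : GL I27 F ≃* GL W F :=
  Units.mapEquiv (Matrix.reindexAlgEquiv F F iota).toMulEquiv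

theorem Phi_val (g : GL I27 F) :
    ((Phi F g : GL W F) : Matrix W W F) = (g : Matrix I27 I27 F).submatrix iota.symm iota.symm := rfl

theorem Phi_mem (g : GL I27 F) : Phi F g ∈ G27 F ↔ g ∈ E6univ F := by
  constructor
  · intro h v
    have h1 := h (fun w => v (iota.symm w))
    simp only [Units.coeHom_apply] at h1 ⊢
    rw [Phi_val, Matrix.submatrix_mulVec_equiv] at h1
    rw [cubicT_eq, cubicT_eq v]
    convert h1 using 2
    ext w
    simp only [Function.comp_apply]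
    congr 1
    ext p
    simp
  · intro h w
    have h1 := h (fun p => w (iota p))
    simp only [Units.coeHom_apply] at h1 ⊢
    rw [Phi_val, Matrix.submatrix_mulVec_equiv]
    rw [cubicT_eq, cubicT_eq] at h1
    convert h1 using 2
    · ext w'
      simp only [Function.comp_apply]
      congr 1
    · ext w'
      simp

/-- the isometry group of `Def_E6` is isomorphic to the isometry group on `Fin 27`. -/
noncomputable def univEquiv (F : Type*) [Field F] : E6univ F ≃* G27 F :=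
  ((Phi F).subgroupMap (E6univ F)).trans (MulEquiv.subgroupCongr (by
    ext g
    rw [Subgroup.mem_map]
    constructor
    · rintro ⟨x, hx, rfl⟩
      exact (Phi_mem x).mpr hx
    · intro hg
      refine ⟨(Phi F).symm g, ?_, by simp⟩
      rw [← Phi_mem]
      simpa using hg))

end Cfsg.Agent.Lib.Helper18_E6Transfer
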