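import Mathlib
import Cfsg.Agent.Lib.Helper18_TwistF4H

/-!
# S4625, the family `²F₄` (helper18), first part

* the arithmetic in the field with `2 ^ (2 m + 1)` elements: `α ^ θ * β + β ^ θ * α = 1` has a solution (`θ = 2 ^ m`,
  `m ≥ 1`);
* the squares and the commutators of the products of root elements over a class of type `B₂` in characteristic two.
-/

set_option autoImplicit false

namespace Cfsg.Agent.Lib.Helper18_EA2_TF4a

open Cfsg Cfsg.Lie Cfsg.Agent.Lib.Helper18_ChevFast Cfsg.Agent.Lib.Helper18_ChevEngine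
  Cfsg.Agent.Lib.Helper18_ChevN Cfsg.Agent.Lib.Helper18_ChevWeyl
  Cfsg.Agent.Lib.Helper18_ChevGL Cfsg.Agent.Lib.Helper18_ChevUni Cfsg.Agent.Lib.Helper18_ChevAutC
  Cfsg.Agent.Lib.Helper18_TwistA Cfsg.Agent.Lib.Helper18_TwistF4A Cfsg.Agent.Lib.Helper18_TwistF4H

/-! ### Arithmetic -/

section

variable {K : Type*} [Field K] [Fintype K] {m : ℕ}

omit [Fintype K] in
theorem add_self' [CharP K 2] (t : K) : t + t = 0 := by
  have := two_eq_zero' (K := K)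
  calc t + t = 2 * t := by ring
    _ = 0 := by rw [this, zero_mul]

theorem exists_alpha_beta [CharP K 2] (hm : 1 ≤ m) (hK : Fintype.card K = 2 ^ (2 * m + 1)) :
    ∃ α β : K, α ^ 2 ^ m * β + β ^ 2 ^ m * α = 1 := by
  classical
  -- an element outside the prime field
  have hcard : 2 < Fintype.card K := by
    rw [hK]
    calc 2 = 2 ^ 1 := by norm_num
      _ < 2 ^ (2 * m + 1) := Nat.pow_lt_pow_right (by norm_num) (by omega)
  obtain ⟨γ, h0, h1⟩ : ∃ γ : K, γ ≠ 0 ∧ γ ≠ 1 := by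
    by_contra hcon
    push Not at hcon
    have hsub : (Finset.univ : Finset K) ⊆ {0, 1} := by
      intro x _
      by_cases hx : x = 0
      · simp [hx]
      · simp [hcon x hx]
    have := Finset.card_le_card hsub
    rw [Finset.card_univ] at this
    have h2 : ({0, 1} : Finset K).card ≤ 2 := Finset.card_le_two
    omega
  have hδ : γ + γ ^ 2 ^ m ≠ 0 := by
    intro h
    have e1 : γ ^ 2 ^ m = γ := by
      have := add_self' γ
      have h3 : γ ^ 2 ^ m = -γ := by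
        rw [add_comm] at h
        exact eq_neg_of_add_eq_zero_left h
      rw [h3, neg_eq_self']
    have e2 : γ ^ (2 ^ m * (2 ^ m * 2)) = γ := pow_card_eq hK γ
    rw [pow_mul, pow_mul, e1, e1] at e2
    have e3 : γ * (γ - 1) = 0 := by
      rw [mul_sub, mul_one, ← sq, e2, sub_self]
    rcases mul_eq_zero.mp e3 with h | h
    · exact h0 h
    · exact h1 (sub_eq_zero.mp h)
  obtain ⟨t, ht⟩ := exists_pow_eq hK (Units.mk0 _ hδ)⁻¹
  have ht' : ((t : Kˣ) : K) ^ (2 ^ m * 2 + 2) = (γ + γ ^ 2 ^ m)⁻¹ := by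
    have := congrArg (fun u : Kˣ => (u : K)) ht
    simpa using this
  refine ⟨γ * (t : K) ^ 2, (t : K) ^ 2, ?_⟩
  have e : (γ * (t : K) ^ 2) ^ 2 ^ m * (t : K) ^ 2 + ((t : K) ^ 2) ^ 2 ^ m * (γ * (t : K) ^ 2) =
      (γ + γ ^ 2 ^ m) * (t : K) ^ (2 ^ m * 2 + 2) := by
    rw [mul_pow, ← pow_mul, pow_add]
    have : (2 : ℕ) * 2 ^ m = 2 ^ m * 2 := by ring
    rw [this]
    ring
  rw [e, ht', mul_inv_cancel₀ hδ]

theorem alpha_beta_sq [CharP K 2] (hK : Fintype.card K = 2 ^ (2 * m + 1)) (α β : K)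
    (h : α ^ 2 ^ m * β + β ^ 2 ^ m * α = 1) : (α ^ 2 ^ m) ^ 2 * β + (β ^ 2 ^ m) ^ 2 * α = 1 := by
  have : Fact (Nat.Prime 2) := ⟨Nat.prime_two⟩
  have h1 := congrArg (fun x : K => x ^ 2 ^ (m + 1)) h
  simp only [one_pow] at h1
  rw [add_pow_char_pow, mul_pow, mul_pow] at h1
  have e1 : ∀ x : K, (x ^ 2 ^ m) ^ 2 ^ (m + 1) = x := by
    intro x
    rw [← pow_mul, pow_succ]
    exact pow_card_eq hK x
  have e2 : ∀ x : K, x ^ 2 ^ (m + 1) = (x ^ 2 ^ m) ^ 2 := by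
    intro x
    rw [← pow_mul, pow_succ]
  rw [e1, e1, e2 β, e2 α] at h1
  rw [← h1]
  ring

end

/-! ### Classes of type `B₂` -/

section

variable {D : ChevalleyDatum} {Ns : List NData} {K : Type*} [Field K] [CharP K 2] (c : DCert D Ns)
  {a b cc d : ℕ} (R : B2Rel c K a b cc d)

/-- The product of root elements over a class of type `B₂`. -/
def W4 (a b cc d : ℕ) (t₁ t₂ t₃ t₄ : K) : GL D.Idx K :=
  xGL c a t₁ * (xGL c b t₂ * (xGL c cc t₃ * xGL c d t₄))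

omit [CharP K 2] in
theorem W4_eq_wordGL (t₁ t₂ t₃ t₄ : K) :
    W4 c a b cc d t₁ t₂ t₃ t₄ = wordGL c [(a, t₁), (b, t₂), (cc, t₃), (d, t₄)] := by
  unfold W4
  rw [wordGL_cons, wordGL_cons, wordGL_cons, wordGL_cons, wordGL_nil, mul_one]

include R in
omit [CharP K 2] in
theorem W4_mul (s₁ u₁ v₁ w₁ s₂ u₂ v₂ w₂ : K) :
    W4 c a b cc d s₁ u₁ v₁ w₁ * W4 c a b cc d s₂ u₂ v₂ w₂ =
      W4 c a b cc d (s₁ + s₂) (u₁ + u₂) (v₁ + v₂ + s₂ * u₁) (w₁ + w₂ + s₂ ^ 2 * u₁) := by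
  unfold W4
  have hrel := R.rel s₂ u₁
  have hac := R.ac
  have had := R.ad
  have hbc := R.bc
  have hbd := R.bd
  have hcd := R.cd
  unfold Comm at hac had hbc hbd hcd
  -- move everything in place
  calc xGL c a s₁ * (xGL c b u₁ * (xGL c cc v₁ * xGL c d w₁)) *
        (xGL c a s₂ * (xGL c b u₂ * (xGL c cc v₂ * xGL c d w₂)))
      = xGL c a s₁ * (xGL c b u₁ * xGL c a s₂) * (xGL c cc v₁ * xGL c d w₁) *
          (xGL c b u₂ * (xGL c cc v₂ * xGL c d w₂)) := by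
        have e1 : xGL c cc v₁ * xGL c d w₁ * xGL c a s₂ = xGL c a s₂ * (xGL c cc v₁ * xGL c d w₁) := by
          rw [mul_assoc, ← had, ← mul_assoc, ← hac, mul_assoc]
        simp only [mul_assoc]
        rw [← mul_assoc (xGL c cc v₁) (xGL c d w₁) (xGL c a s₂ * _), ← mul_assoc (xGL c cc v₁ * xGL c d w₁),
          e1]
        simp only [mul_assoc]
    _ = xGL c a s₁ * (xGL c a s₂ * xGL c b u₁ * xGL c cc (s₂ * u₁) * xGL c d (s₂ ^ 2 * u₁)) *
          (xGL c cc v₁ * xGL c d w₁) * (xGL c b u₂ * (xGL c cc v₂ * xGL c d w₂)) := by rw [hrel]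
    _ = xGL c a (s₁ + s₂) * (xGL c b (u₁ + u₂) *
          (xGL c cc (v₁ + v₂ + s₂ * u₁) * xGL c d (w₁ + w₂ + s₂ ^ 2 * u₁))) := by
        have e2 : ∀ (v w : K), xGL c cc v * xGL c d w * xGL c b u₂ = xGL c b u₂ * (xGL c cc v * xGL c d w) := by
          intro v w
          rw [mul_assoc, ← hbd, ← mul_assoc, ← hbc, mul_assoc]
        have e3 : xGL c cc (s₂ * u₁) * xGL c d (s₂ ^ 2 * u₁) * (xGL c cc v₁ * xGL c d w₁) *
            (xGL c b u₂ * (xGL c cc v₂ * xGL c d w₂)) =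
            xGL c b u₂ * (xGL c cc (v₁ + v₂ + s₂ * u₁) * xGL c d (w₁ + w₂ + s₂ ^ 2 * u₁)) := by
          have e4 : xGL c cc (s₂ * u₁) * xGL c d (s₂ ^ 2 * u₁) * (xGL c cc v₁ * xGL c d w₁) =
              xGL c cc (s₂ * u₁ + v₁) * xGL c d (s₂ ^ 2 * u₁ + w₁) := by
            rw [mul_assoc, ← mul_assoc (xGL c d _) (xGL c cc v₁), ← hcd, mul_assoc, ← mul_assoc, xGL_mul, xGL_mul]
          rw [e4, ← mul_assoc, e2, mul_assoc]
          congr 1
          rw [mul_assoc, ← mul_assoc (xGL c d _) (xGL c cc v₂), ← hcd, mul_assoc, ← mul_assoc, xGL_mul, xGL_mul]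
          congr 2 <;> ring
        rw [← xGL_mul c a s₁ s₂, ← xGL_mul c b u₁ u₂]
        simp only [mul_assoc] at e3 ⊢
        rw [e3]

include R in
/-- The square of a product over a class of type `B₂`. -/
theorem W4_sq (t₁ t₂ t₃ t₄ : K) :
    W4 c a b cc d t₁ t₂ t₃ t₄ * W4 c a b cc d t₁ t₂ t₃ t₄ = W4 c a b cc d 0 0 (t₁ * t₂) (t₁ ^ 2 * t₂) := by
  rw [W4_mul c R]
  simp only [add_self', zero_add]

include R in
/-- The commutator of two products over a class of type `B₂`. -/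
theorem W4_comm (s₁ u₁ v₁ w₁ s₂ u₂ v₂ w₂ : K) :
    W4 c a b cc d s₁ u₁ v₁ w₁ * W4 c a b cc d s₂ u₂ v₂ w₂ * (W4 c a b cc d s₁ u₁ v₁ w₁)⁻¹ *
        (W4 c a b cc d s₂ u₂ v₂ w₂)⁻¹ =
      W4 c a b cc d 0 0 (s₂ * u₁ + s₁ * u₂) (s₂ ^ 2 * u₁ + s₁ ^ 2 * u₂) := by
  rw [mul_inv_eq_iff_eq_mul, mul_inv_eq_iff_eq_mul, W4_mul c R, W4_mul c R, W4_mul c R]
  congr 1
  · ring
  · ring
  · have h1 := add_self' (s₁ * u₂)
    linear_combination (-1 : K) * h1
  · have h1 := add_self' (s₁ ^ 2 * u₂)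
    linear_combination (-1 : K) * h1

end

end Cfsg.Agent.Lib.Helper18_EA2_TF4a
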