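import Mathlib
import Cfsg.Agent.Lib.Helper18_EA2_TF4a
import Cfsg.Agent.Lib.Helper18_TwistF4D
import Cfsg.Agent.Lib.Helper18_ChevData5
import Cfsg.Agent.Lib.Helper18_ChevACerts
import Cfsg.Agent.Lib.Helper36_F4Two
import Cfsg.Agent.Lib.Helper68_EA2

/-!
# S4625, the family `²F₄` (helper18): `EA2 ↥(twistedF4 K (2 ^ m))` for `m ≥ 1`

The subgroup `U¹ = U ⊓ G¹` is a Sylow `2`-subgroup (`Helper36_F4Two`), it is generated by the conjugates, under the
elements `n_w` of `G¹`, of the words `pw u = x₃₃(u^θ) x₂₄(u)` and `bw b d = x₂₇(b^θ) x₂₅(b) x₂₈(b^(θ+1) + d^θ) x₃₀(d)`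
(`Helper18_TwistF4C`); the first are involutions, and the square of `bw b d` is the commutator of `bw (b α) 0` and
`bw (b β) 0` where `α^θ β + β^θ α = 1`.
-/

set_option autoImplicit false

namespace Cfsg.Agent.Lib.Helper18_EA2_TF4

open Cfsg Cfsg.Lie Cfsg.Agent.Lib.Helper18_ChevFast Cfsg.Agent.Lib.Helper18_ChevEngine
  Cfsg.Agent.Lib.Helper18_ChevN Cfsg.Agent.Lib.Helper18_ChevWeyl Cfsg.Agent.Lib.Helper18_ChevGL
  Cfsg.Agent.Lib.Helper18_ChevComm Cfsg.Agent.Lib.Helper18_ChevUni Cfsg.Agent.Lib.Helper18_ChevSimp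
  Cfsg.Agent.Lib.Helper18_ChevAutC Cfsg.Agent.Lib.Helper18_ChevAutJ Cfsg.Agent.Lib.Helper18_TwistA
  Cfsg.Agent.Lib.Helper18_ChevAdd Cfsg.Agent.Lib.Helper18_ChevTorus Cfsg.Agent.Lib.Helper18_ChevTri
  Cfsg.Agent.Lib.Helper18_TwistB Cfsg.Agent.Lib.Helper18_TwistC Cfsg.Agent.Lib.Helper18_TwistD
  Cfsg.Agent.Lib.Helper18_TwistF4A Cfsg.Agent.Lib.Helper18_TwistF4B Cfsg.Agent.Lib.Helper18_TwistF4C
  Cfsg.Agent.Lib.Helper18_EA2_TF4a Cfsg.Agent.Lib.Helper68_EA2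

open scoped commutatorElement

variable {Ns : List NData} {K : Type*} [Field K] [Fintype K] {m : ℕ}
variable {wl : List ℤ} {ws : List (List ℤ)} {sc : ℤ}

/-- The word of the class of `p₁, p₄`. -/
def pw (c : DCert chevF4 Ns) (m : ℕ) (u : K) : GL chevF4.Idx K := wordGL c [(33, u ^ 2 ^ m), (24, u)]

/-- The word of the class of `p₂, p₃`. -/
def bw (c : DCert chevF4 Ns) (m : ℕ) (b d : K) : GL chevF4.Idx K :=
  wordGL c [(27, b ^ 2 ^ m), (25, b), (28, b ^ (2 ^ m + 1) + d ^ 2 ^ m), (30, d)]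

section

variable (c : DCert chevF4 Ns) (tc : TCert chevF4) (ac : ACert chevF4 wl ws sc) (hR2 : R2All chevF4 K) [CharP K 2]
  (hK : Fintype.card K = 2 ^ (2 * m + 1)) {σ : MulAut ↥(chevF4.group K)} (X : Tw2 c σ pF4 (eF4 m))

/-- The elements `n_w` for the classes of type `B₂`. -/
def IsB2Class (n : ↥(chevF4.group K)) : Prop :=
  ∃ w : ℕ → ℕ, ConjElt c σ (twistedF4 K (2 ^ m)) n w ∧ ∀ r ∈ [27, 25, 28, 30], chevF4.IsPosRoot (w r)

/-- The elements `n_w` for the classes of pairs. -/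
def IsPairClass (n : ↥(chevF4.group K)) : Prop :=
  ∃ w : ℕ → ℕ, ConjElt c σ (twistedF4 K (2 ^ m)) n w ∧ ∀ r ∈ [33, 24], chevF4.IsPosRoot (w r)

/-- The generators of `U¹`. -/
def gens : Set (GL chevF4.Idx K) :=
  {g | ∃ n : ↥(chevF4.group K), IsB2Class c (σ := σ) (m := m) n ∧ ∃ b d : K,
      g = (n : GL chevF4.Idx K) * bw c m b d * (n : GL chevF4.Idx K)⁻¹} ∪
  {g | ∃ n : ↥(chevF4.group K), IsPairClass c (σ := σ) (m := m) n ∧ ∃ u : K,
      g = (n : GL chevF4.Idx K) * pw c m u * (n : GL chevF4.Idx K)⁻¹}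

omit [Fintype K] [CharP K 2] in
theorem pw_mem (u : K) : pw c m u ∈ twistedF4 K (2 ^ m) := by
  unfold pw
  apply wordGL_mem_twisted
  exact Or.inl ⟨u, Or.inl rfl⟩

omit [CharP K 2] in
include hK in
theorem bw_mem (b d : K) : bw c m b d ∈ twistedF4 K (2 ^ m) := by
  unfold bw
  apply wordGL_mem_twisted
  refine Or.inr ⟨b, d ^ 2 ^ m, Or.inl ?_⟩
  unfold b2ClassWord f4a f4b f4ab f4aab
  have e : (d ^ 2 ^ m) ^ (2 * 2 ^ m) = d := by
    rw [← pow_mul]
    have : 2 ^ m * (2 * 2 ^ m) = 2 ^ m * (2 ^ m * 2) := by ring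
    rw [this, pow_card_eq hK]
  rw [e]

omit [Fintype K] [CharP K 2] in
/-- A conjugate of a word over positive roots mapped to positive roots lies in `U`. -/
theorem conj_mem_U {n : ↥(chevF4.group K)} {w : ℕ → ℕ} (E : ConjElt c σ (twistedF4 K (2 ^ m)) n w)
    (wd : List (ℕ × K)) (hwd : ∀ q ∈ wd, q.1 < chevF4.nroots) (hpos : ∀ q ∈ wd, chevF4.IsPosRoot (w q.1)) :
    (n : GL chevF4.Idx K) * wordGL c wd * (n : GL chevF4.Idx K)⁻¹ ∈ chevF4.posUnipotent K := by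
  have h := conj_chunk E wd hwd
  have h1 := congrArg (fun x : ↥(chevF4.group K) => (x : GL chevF4.Idx K)) h
  simp only [Subgroup.coe_mul, Subgroup.coe_inv, wordG_coe] at h1
  rw [← h1]
  apply wordGL_mem_posUnipotent
  intro p hp
  rw [List.mem_map] at hp
  obtain ⟨q, hq, rfl⟩ := hp
  exact hpos q hq

omit [CharP K 2] in
include hK in
theorem gens_subset : gens c (σ := σ) (m := m) ⊆ (chevF4.posUnipotent K ⊓ twistedF4 K (2 ^ m) : Subgroup _) := by
  rintro g (⟨n, ⟨w, E, hpos⟩, b, d, rfl⟩ | ⟨n, ⟨w, E, hpos⟩, u, rfl⟩)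
  · refine ⟨?_, Subgroup.mul_mem _ (Subgroup.mul_mem _ E.mem (bw_mem c hK b d)) (Subgroup.inv_mem _ E.mem)⟩
    unfold bw
    apply conj_mem_U c E _ (lt_b2 _ _ _ _)
    intro q hq
    simp only [List.mem_cons, List.not_mem_nil, or_false] at hq
    rcases hq with rfl | rfl | rfl | rfl
    · exact hpos 27 (by simp)
    · exact hpos 25 (by simp)
    · exact hpos 28 (by simp)
    · exact hpos 30 (by simp)
  · refine ⟨?_, Subgroup.mul_mem _ (Subgroup.mul_mem _ E.mem (pw_mem c u)) (Subgroup.inv_mem _ E.mem)⟩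
    unfold pw
    apply conj_mem_U c E _ (lt_pair _ _)
    intro q hq
    simp only [List.mem_cons, List.not_mem_nil, or_false] at hq
    rcases hq with rfl | rfl
    · exact hpos 33 (by simp)
    · exact hpos 24 (by simp)

/-! ### Generation -/

omit [Fintype K] [CharP K 2] in
theorem b2_gen {n : ↥(chevF4.group K)} {w : ℕ → ℕ} (E : ConjElt c σ (twistedF4 K (2 ^ m)) n w)
    (hpos : ∀ r ∈ [27, 25, 28, 30], chevF4.IsPosRoot (w r)) (t : ℕ → K) (h : B2OK m w t) :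
    ((wordG c (b2W w t) : ↥(chevF4.group K)) : GL chevF4.Idx K) ∈ gens c (σ := σ) (m := m) := by
  left
  refine ⟨n, ⟨w, E, hpos⟩, t (w 25), t (w 30), ?_⟩
  have hc := conj_chunk E [(27, t (w 27)), (25, t (w 25)), (28, t (w 28)), (30, t (w 30))] (lt_b2 _ _ _ _)
  have h1 := congrArg (fun x : ↥(chevF4.group K) => (x : GL chevF4.Idx K)) hc
  simp only [Subgroup.coe_mul, Subgroup.coe_inv, wordG_coe] at h1
  obtain ⟨e1, e2⟩ := h
  unfold bw
  rw [← e1, ← e2, wordG_coe]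
  exact h1

omit [Fintype K] [CharP K 2] in
theorem pair_gen {n : ↥(chevF4.group K)} {w : ℕ → ℕ} (E : ConjElt c σ (twistedF4 K (2 ^ m)) n w)
    (hpos : ∀ r ∈ [33, 24], chevF4.IsPosRoot (w r)) (t : ℕ → K) (h : PairOK m w t) :
    ((wordG c (pairW w t) : ↥(chevF4.group K)) : GL chevF4.Idx K) ∈ gens c (σ := σ) (m := m) := by
  right
  refine ⟨n, ⟨w, E, hpos⟩, t (w 24), ?_⟩
  have hc := conj_chunk E [(33, t (w 33)), (24, t (w 24))] (lt_pair _ _)
  have h1 := congrArg (fun x : ↥(chevF4.group K) => (x : GL chevF4.Idx K)) hc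
  simp only [Subgroup.coe_mul, Subgroup.coe_inv, wordG_coe] at h1
  unfold PairOK at h
  unfold pw
  rw [← h, wordG_coe]
  exact h1

theorem posTab : (∀ r ∈ [27, 25, 28, 30], chevF4.IsPosRoot (id r)) ∧
    (∀ r ∈ [27, 25, 28, 30], chevF4.IsPosRoot (w1F4 r)) ∧
    (∀ r ∈ [27, 25, 28, 30], chevF4.IsPosRoot ((w2F4 ∘ w1F4) r)) ∧
    (∀ r ∈ [27, 25, 28, 30], chevF4.IsPosRoot ((w1F4 ∘ (w2F4 ∘ w1F4)) r)) ∧
    (∀ r ∈ [33, 24], chevF4.IsPosRoot (id r)) ∧
    (∀ r ∈ [33, 24], chevF4.IsPosRoot (w2F4 r)) ∧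
    (∀ r ∈ [33, 24], chevF4.IsPosRoot ((w1F4 ∘ w2F4) r)) ∧
    (∀ r ∈ [33, 24], chevF4.IsPosRoot ((w2F4 ∘ (w1F4 ∘ w2F4)) r)) := by decide +kernel

include tc ac hR2 hK X in
theorem le_closure :
    chevF4.posUnipotent K ⊓ twistedF4 K (2 ^ m) ≤ Subgroup.closure (gens c (σ := σ) (m := m)) := by
  rintro g ⟨hgU, hgG⟩
  obtain ⟨t, rfl⟩ := exists_word_of_perm c tc ac hR2 LF4 LF4_nodup LF4_pos g hgU
  have hfix : σ (wordG c (LF4.map fun r => (r, t r))) = wordG c (LF4.map fun r => (r, t r)) :=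
    fixed_of_mem c hR2 hK X _ (by rw [wordG_coe]; exact hgG)
  obtain ⟨h0, h1, h2, h3, h4, h5, h6, h7⟩ := ok_of_fixed c tc ac hR2 hK X t hfix
  have E0 := ConjElt.one c σ (twistedF4 K (2 ^ m))
  have E1 := conjElt1 c hR2 hK X
  have E2 := conjElt2 c hR2 hK X
  have E12 := E1.mul E2
  have E21 := E2.mul E1
  have E121 := E1.mul E21
  have E212 := E2.mul E12
  obtain ⟨p0, p1, p2, p3, p4, p5, p6, p7⟩ := posTab
  rw [← WF4_flatten, ← wordG_coe, wordG_flatten]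
  unfold WF4
  simp only [List.map_cons, List.map_nil, List.prod_cons, List.prod_nil, mul_one, Subgroup.coe_mul]
  have S : gens c (σ := σ) (m := m) ⊆ Subgroup.closure (gens c (σ := σ) (m := m)) := Subgroup.subset_closure
  exact Subgroup.mul_mem _ (S (pair_gen c E0 p4 t h0)) (Subgroup.mul_mem _ (S (b2_gen c E0 p0 t h1))
    (Subgroup.mul_mem _ (S (b2_gen c E1 p1 t h2)) (Subgroup.mul_mem _ (S (pair_gen c E2 p5 t h3))
    (Subgroup.mul_mem _ (S (pair_gen c E12 p6 t h4)) (Subgroup.mul_mem _ (S (b2_gen c E21 p2 t h5))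
    (Subgroup.mul_mem _ (S (b2_gen c E121 p3 t h6)) (S (pair_gen c E212 p7 t h7))))))))

include tc ac hR2 hK X in
theorem closure_gens :
    Subgroup.closure (gens c (σ := σ) (m := m)) = chevF4.posUnipotent K ⊓ twistedF4 K (2 ^ m) :=
  le_antisymm ((Subgroup.closure_le _).mpr (gens_subset c hK)) (le_closure c tc ac hR2 hK X)

/-! ### Squares -/

omit [Fintype K] in
include hR2 in
theorem pw_sq (u : K) : pw c m u * pw c m u = 1 := by
  have hcomm : Comm c K 33 24 := comm_of_cert c hR2 commCert_pos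
  unfold pw
  rw [wordGL_cons, wordGL_cons, wordGL_nil, mul_one]
  calc xGL c 33 (u ^ 2 ^ m) * xGL c 24 u * (xGL c 33 (u ^ 2 ^ m) * xGL c 24 u)
      = xGL c 33 (u ^ 2 ^ m) * (xGL c 24 u * xGL c 33 (u ^ 2 ^ m)) * xGL c 24 u := by simp only [mul_assoc]
    _ = xGL c 33 (u ^ 2 ^ m) * (xGL c 33 (u ^ 2 ^ m) * xGL c 24 u) * xGL c 24 u := by rw [hcomm]
    _ = xGL c 33 (u ^ 2 ^ m + u ^ 2 ^ m) * xGL c 24 (u + u) := by
        rw [← xGL_mul, ← xGL_mul]
        simp only [mul_assoc]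
    _ = 1 := by rw [add_self', add_self', xGL_zero, xGL_zero, mul_one]

omit [Fintype K] [CharP K 2] in
theorem bw_eq (b d : K) :
    bw c m b d = W4 c 27 25 28 30 (b ^ 2 ^ m) b (b ^ (2 ^ m + 1) + d ^ 2 ^ m) d := by
  unfold bw
  rw [W4_eq_wordGL]

include hR2 hK in
/-- The square of `bw b d` is a commutator of two words of the same class. -/
theorem bw_sq (hm : 1 ≤ m) (b d : K) : ∃ b₁ b₂ : K,
    bw c m b d * bw c m b d = ⁅bw c m b₁ 0, bw c m b₂ 0⁆ := by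
  have R : B2Rel c K 27 25 28 30 := b2Rel_of_cert c hR2 b2Cert_pos
  obtain ⟨α, β, hαβ⟩ := exists_alpha_beta hm hK
  have hαβ2 := alpha_beta_sq hK α β hαβ
  refine ⟨b * α, b * β, ?_⟩
  rw [commutatorElement_def, bw_eq, bw_eq, bw_eq, W4_sq c R, W4_comm c R]
  congr 1
  · rw [mul_pow, mul_pow]
    linear_combination (-(b ^ 2 ^ m * b)) * hαβ
  · rw [mul_pow, mul_pow, mul_pow, mul_pow]
    linear_combination (-((b ^ 2 ^ m) ^ 2 * b)) * hαβ2

include hR2 hK in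
theorem gens_sq (hm : 1 ≤ m) (g : GL chevF4.Idx K) (hg : g ∈ gens c (σ := σ) (m := m)) :
    g ^ 2 ∈ ⁅chevF4.posUnipotent K ⊓ twistedF4 K (2 ^ m), chevF4.posUnipotent K ⊓ twistedF4 K (2 ^ m)⁆ := by
  rcases hg with ⟨n, hn, b, d, rfl⟩ | ⟨n, hn, u, rfl⟩
  · obtain ⟨b₁, b₂, hb⟩ := bw_sq c hR2 hK hm b d
    have e : ((n : GL chevF4.Idx K) * bw c m b d * (n : GL chevF4.Idx K)⁻¹) ^ 2 =
        ⁅(n : GL chevF4.Idx K) * bw c m b₁ 0 * (n : GL chevF4.Idx K)⁻¹,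
          (n : GL chevF4.Idx K) * bw c m b₂ 0 * (n : GL chevF4.Idx K)⁻¹⁆ := by
      rw [sq, commutatorElement_def]
      have : (n : GL chevF4.Idx K) * bw c m b d * (n : GL chevF4.Idx K)⁻¹ *
          ((n : GL chevF4.Idx K) * bw c m b d * (n : GL chevF4.Idx K)⁻¹) =
          (n : GL chevF4.Idx K) * (bw c m b d * bw c m b d) * (n : GL chevF4.Idx K)⁻¹ := by group
      rw [this, hb, commutatorElement_def]
      group
    rw [e]
    apply Subgroup.commutator_mem_commutator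
    · exact gens_subset c hK (Or.inl ⟨n, hn, b₁, 0, rfl⟩)
    · exact gens_subset c hK (Or.inl ⟨n, hn, b₂, 0, rfl⟩)
  · have e : ((n : GL chevF4.Idx K) * pw c m u * (n : GL chevF4.Idx K)⁻¹) ^ 2 = 1 := by
      have : ((n : GL chevF4.Idx K) * pw c m u * (n : GL chevF4.Idx K)⁻¹) ^ 2 =
          (n : GL chevF4.Idx K) * (pw c m u * pw c m u) * (n : GL chevF4.Idx K)⁻¹ := by
        rw [sq]
        group
      rw [this, pw_sq c hR2, mul_one, mul_inv_cancel]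
    rw [e]
    exact Subgroup.one_mem _

end

/-! ### The statement -/

/-- TF4 -/
theorem ea2_twistedF4 {K : Type*} [Field K] [Fintype K] (m : ℕ) (hm : 1 ≤ m)
    (hK : Fintype.card K = 2 ^ (2 * m + 1)) : EA2 ↥(Cfsg.Lie.twistedF4 K (2 ^ m)) := by
  have tc := Cfsg.Agent.Lib.Helper18_ChevTCertF4.tcert
  have pc := Cfsg.Agent.Lib.Helper18_ChevPCertF4.pcert
  have ac := Cfsg.Agent.Lib.Helper18_ChevACerts.acertF4
  have hR2 := Cfsg.Agent.Lib.Helper18_ChevComm2.r2_all Cfsg.Agent.Lib.Helper18_ChevDatumF4.dcert pc (F := K)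
  have hchar := Cfsg.Agent.Lib.Helper18_TwistF4A.charP_two hK
  obtain ⟨σ, hσ⟩ := Cfsg.Agent.Lib.Helper18_TwistF4A.exists_sigma hK
  set c := Cfsg.Agent.Lib.Helper18_ChevDatumF4.dcert with hc
  have X : Tw2 c σ pF4 (eF4 m) := hσ
  set G1 := twistedF4 K (2 ^ m) with hG1
  set U1 := chevF4.posUnipotent K ⊓ G1 with hU1
  have hcl : Subgroup.closure (gens c (σ := σ) (m := m)) = U1 := closure_gens c tc ac hR2 hK X
  have hsq : ∀ g ∈ gens c (σ := σ) (m := m), g ^ 2 ∈ ⁅U1, U1⁆ := gens_sq c (σ := σ) hR2 hK hm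
  -- transfer to the subtype
  have hinj : Function.Injective G1.subtype := Subgroup.subtype_injective G1
  have hmapU : (U1.subgroupOf G1).map G1.subtype = U1 := by
    rw [Subgroup.subgroupOf_map_subtype]
    exact inf_eq_left.mpr inf_le_right
  have hUp : IsPGroup 2 ↥(U1.subgroupOf G1) :=
    IsPGroup.of_card (n := 12 * (2 * m + 1)) (Cfsg.Agent.Lib.Helper36_F4Two.card_U1 hK)
  refine ea2_of_gen (U1.subgroupOf G1) hUp (Cfsg.Agent.Lib.Helper36_F4Two.index_U1 hK)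
    (G1.subtype ⁻¹' gens c (σ := σ) (m := m)) ?_ ?_
  · apply Subgroup.map_injective hinj
    rw [MonoidHom.map_closure, hmapU, ← hcl]
    congr 1
    rw [Set.image_preimage_eq_inter_range]
    apply Set.inter_eq_left.mpr
    intro g hg
    have : g ∈ U1 := by
      rw [← hcl]
      exact Subgroup.subset_closure hg
    rw [Subgroup.coe_subtype, Subtype.range_coe]
    exact this.2
  · intro s hs
    have h1 := hsq (s : GL chevF4.Idx K) hs
    rw [← hmapU, ← Subgroup.map_commutator] at h1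
    obtain ⟨y, hy, hys⟩ := h1
    have : y = s ^ 2 := hinj (by rw [hys, map_pow]; rfl)
    rw [← this]
    exact hy

end Cfsg.Agent.Lib.Helper18_EA2_TF4
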