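/-
Hecke-algebra (orbital matrix) relations for a finite group with a (B, N)-pair: the chambers are the
cosets `G ⧸ B`, two chambers `aB`, `bB` are in relative position `g` when `a⁻¹ b ∈ B g B`, and `A g` is
the 0/1 matrix of that relation.  We prove `A σ * A n = A (σ n)` when `ℓ (σ n) ≥ ℓ n`, the quadratic
relation `A s * A s = q + (q - 1) A s`, the trace / transpose / partition properties.
-/
import Cfsg.Agent.Lib.Helper6_BNPairC

set_option autoImplicit false
set_option linter.unusedSectionVars false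
set_option linter.unusedVariables false

namespace Cfsg.Agent.Lib.Helper6_Hecke

open Cfsg DoubleCoset Cfsg.Agent.Lib.Helper6_Word Cfsg.Agent.Lib.Helper6_BNPair
open scoped Pointwise

variable {G : Type*} [Group G] (P : BNPair G)

/-! ### Relative position of chambers -/

/-- the chambers `aB`, `bB` are in relative position `g`: `a⁻¹ b ∈ B g B` -/
def Rel (g : G) (x y : G ⧸ P.B) : Prop :=
  ∃ a b : G, x = (a : G ⧸ P.B) ∧ y = (b : G ⧸ P.B) ∧ a⁻¹ * b ∈ C P g

theorem rel_mk {g a b : G} : Rel P g (a : G ⧸ P.B) (b : G ⧸ P.B) ↔ a⁻¹ * b ∈ C P g := by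
  constructor
  · rintro ⟨a', b', ha, hb, h⟩
    have h1 : a⁻¹ * a' ∈ P.B := QuotientGroup.eq.1 ha
    have h2 : b'⁻¹ * b ∈ P.B := QuotientGroup.eq.1 hb.symm
    have e : a⁻¹ * b = (a⁻¹ * a') * (a'⁻¹ * b') * (b'⁻¹ * b) := by group
    rw [e]
    exact mem_C_mul_right P h2 (mem_C_mul_left P h1 h)
  · intro h
    exact ⟨a, b, rfl, rfl, h⟩

theorem rel_congr {g h : G} (e : C P g = C P h) (x y : G ⧸ P.B) : Rel P g x y ↔ Rel P h x y := by
  induction x using QuotientGroup.induction_on with | _ a => ?_
  induction y using QuotientGroup.induction_on with | _ b => ?_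
  rw [rel_mk, rel_mk, e]

theorem rel_smul (g c : G) (x y : G ⧸ P.B) : Rel P g (c • x) (c • y) ↔ Rel P g x y := by
  induction x using QuotientGroup.induction_on with | _ a => ?_
  induction y using QuotientGroup.induction_on with | _ b => ?_
  rw [MulAction.Quotient.smul_mk, MulAction.Quotient.smul_mk, rel_mk, rel_mk]
  have e : (c • a)⁻¹ * c • b = a⁻¹ * b := by simp only [smul_eq_mul]; group
  rw [e]

theorem rel_symm (g : G) (x y : G ⧸ P.B) : Rel P g x y ↔ Rel P g⁻¹ y x := by
  induction x using QuotientGroup.induction_on with | _ a => ?_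
  induction y using QuotientGroup.induction_on with | _ b => ?_
  rw [rel_mk, rel_mk]
  have e : b⁻¹ * a = (a⁻¹ * b)⁻¹ := by group
  rw [e, inv_mem_C_iff]

theorem rel_of_mem_B {g : G} (hg : g ∈ P.B) (x y : G ⧸ P.B) : Rel P g x y ↔ x = y := by
  induction x using QuotientGroup.induction_on with | _ a => ?_
  induction y using QuotientGroup.induction_on with | _ b => ?_
  rw [rel_mk, mem_C_of_mem_B P hg, QuotientGroup.eq]

theorem rel_self_iff (g : G) (x : G ⧸ P.B) : Rel P g x x ↔ g ∈ P.B := by
  induction x using QuotientGroup.induction_on with | _ a => ?_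
  rw [rel_mk, inv_mul_cancel]
  constructor
  · intro h
    obtain ⟨u, hu, v, hv, huv⟩ := (mem_C P).1 h
    have e : g = u⁻¹ * v⁻¹ := by
      have : u⁻¹ * 1 * v⁻¹ = g := by rw [huv]; group
      rw [← this]; group
    rw [e]
    exact P.B.mul_mem (P.B.inv_mem hu) (P.B.inv_mem hv)
  · intro h
    exact (mem_C_of_mem_B P h).2 P.B.one_mem

/-- Bruhat decomposition: existence of a relative position -/
theorem exists_rel (x y : G ⧸ P.B) : ∃ n : P.N, Rel P (n : G) x y := by
  induction x using QuotientGroup.induction_on with | _ a => ?_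
  induction y using QuotientGroup.induction_on with | _ b => ?_
  obtain ⟨n, hn⟩ := exists_mem_C P (a⁻¹ * b)
  exact ⟨n, (rel_mk P).2 hn⟩

/-- Bruhat decomposition: uniqueness of the relative position -/
theorem rel_unique {n n' : P.N} {x y : G ⧸ P.B} (h : Rel P (n : G) x y) (h' : Rel P (n' : G) x y) :
    π P n = π P n' := by
  induction x using QuotientGroup.induction_on with | _ a => ?_
  induction y using QuotientGroup.induction_on with | _ b => ?_
  rw [rel_mk] at h h'
  exact (C_eq_iff P).1 (C_eq_of_mem_of_mem P h h')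

/-! ### Products of double cosets -/

theorem mul_mem_C_of_le {σ n : P.N} (hσ : IsSimple P σ) (hle : ℓ P n ≤ ℓ P (σ * n)) {g₁ g₂ : G}
    (h₁ : g₁ ∈ C P (σ : G)) (h₂ : g₂ ∈ C P (n : G)) : g₁ * g₂ ∈ C P ((σ : G) * n) := by
  obtain ⟨x₁, hx₁, y₁, hy₁, e₁⟩ := (mem_C P).1 h₁
  obtain ⟨x₂, hx₂, y₂, hy₂, e₂⟩ := (mem_C P).1 h₂
  have h := simple_mul_mem_of_le P hσ hle (P.B.mul_mem hy₁ hx₂)
  have e : g₁ * g₂ = x₁ * ((σ : G) * (y₁ * x₂) * n) * y₂ := by rw [e₁, e₂]; group
  rw [e]
  exact mem_C_mul_right P hy₂ (mem_C_mul_left P hx₁ h)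

theorem C_inv_simple {σ : P.N} (hσ : IsSimple P σ) : C P ((σ : G)⁻¹) = C P (σ : G) := by
  have h := C_congr P hσ.π_inv
  simpa using h

theorem inv_mul_mem_of_simple {σ : P.N} (hσ : IsSimple P σ) {g₁ g₂ : G}
    (h₁ : g₁ ∈ C P (σ : G)) (h₂ : g₂ ∈ C P (σ : G)) : g₁⁻¹ * g₂ ∈ P.B ∨ g₁⁻¹ * g₂ ∈ C P (σ : G) := by
  obtain ⟨x₁, hx₁, y₁, hy₁, e₁⟩ := (mem_C P).1 h₁
  obtain ⟨x₂, hx₂, y₂, hy₂, e₂⟩ := (mem_C P).1 h₂
  have h := T3 P hσ.inv σ (P.B.mul_mem (P.B.inv_mem hx₁) hx₂)
  have e : g₁⁻¹ * g₂ = y₁⁻¹ * (((σ⁻¹ : P.N) : G) * (x₁⁻¹ * x₂) * σ) * y₂ := by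
    rw [e₁, e₂]; simp only [Subgroup.coe_inv]; group
  rw [e]
  rcases h with h | h
  · left
    have e' : ((σ⁻¹ : P.N) : G) * (σ : G) = 1 := by simp
    rw [e', mem_C_one] at h
    exact P.B.mul_mem (P.B.mul_mem (P.B.inv_mem hy₁) h) hy₂
  · right
    exact mem_C_mul_right P hy₂ (mem_C_mul_left P (P.B.inv_mem hy₁) h)

/-! ### The orbital matrices -/

section Matrices

variable [Finite G]

attribute [local instance] Classical.propDecidable

/-- the (noncomputable) `Fintype` structure on the set of chambers -/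
@[reducible] noncomputable def fintypeX : Fintype (G ⧸ P.B) := Fintype.ofFinite _

attribute [local instance] fintypeX

/-- the 0/1 matrix of the relation "relative position `g`" -/
noncomputable def A (g : G) : Matrix (G ⧸ P.B) (G ⧸ P.B) ℚ :=
  fun x y => if Rel P g x y then 1 else 0

theorem A_apply (g : G) (x y : G ⧸ P.B) : A P g x y = if Rel P g x y then 1 else 0 := rfl

theorem A_congr {g h : G} (e : C P g = C P h) : A P g = A P h := by
  ext x y
  rw [A_apply, A_apply]
  simp only [rel_congr P e]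

theorem A_of_mem_B {g : G} (hg : g ∈ P.B) : A P g = 1 := by
  ext x y
  rw [A_apply, Matrix.one_apply]
  simp only [rel_of_mem_B P hg]

theorem A_transpose (g : G) : (A P g).transpose = A P g⁻¹ := by
  ext x y
  rw [Matrix.transpose_apply, A_apply, A_apply]
  simp only [rel_symm P g y x]

theorem A_apply_eq_zero_or_one (g : G) (x y : G ⧸ P.B) : A P g x y = 0 ∨ A P g x y = 1 := by
  rw [A_apply]
  split_ifs
  · right; rfl
  · left; rfl

theorem trace_A (g : G) :
    Matrix.trace (A P g) = if g ∈ P.B then (Fintype.card (G ⧸ P.B) : ℚ) else 0 := by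
  unfold Matrix.trace
  simp only [Matrix.diag_apply, A_apply, rel_self_iff]
  split_ifs with h
  · simp
  · simp

/-- disjointness of the relations -/
theorem A_mul_A_apply_eq_zero {n n' : P.N} (hne : π P n ≠ π P n') (x y : G ⧸ P.B) :
    A P (n : G) x y * A P (n' : G) x y = 0 := by
  rw [A_apply, A_apply]
  by_cases h : Rel P (n : G) x y
  · by_cases h' : Rel P (n' : G) x y
    · exact absurd (rel_unique P h h') hne
    · simp [h']
  · simp [h]

theorem mul_apply_eq_card (g h : G) (x y : G ⧸ P.B) :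
    (A P g * A P h) x y =
      ((Finset.univ.filter fun z => Rel P g x z ∧ Rel P h z y).card : ℚ) := by
  rw [Matrix.mul_apply, Finset.card_filter]
  push_cast
  refine Finset.sum_congr rfl fun z _ => ?_
  rw [A_apply, A_apply]
  by_cases h1 : Rel P g x z <;> by_cases h2 : Rel P h z y <;> simp [h1, h2]

/-- `A σ * A n = A (σ n)` when `ℓ (σ n) ≥ ℓ n` -/
theorem A_simple_mul {σ n : P.N} (hσ : IsSimple P σ) (hle : ℓ P n ≤ ℓ P (σ * n)) :
    A P (σ : G) * A P (n : G) = A P ((σ : G) * n) := by
  ext x y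
  rw [mul_apply_eq_card, A_apply]
  induction x using QuotientGroup.induction_on with | _ a => ?_
  induction y using QuotientGroup.induction_on with | _ b => ?_
  split_ifs with h
  · rw [rel_mk] at h
    obtain ⟨u, hu, v, hv, huv⟩ := (mem_C P).1 h
    have hcard : (Finset.univ.filter fun z => Rel P (σ : G) (a : G ⧸ P.B) z ∧
        Rel P (n : G) z (b : G ⧸ P.B)).card = 1 := by
      rw [Finset.card_eq_one]
      refine ⟨((a * u * σ : G) : G ⧸ P.B), ?_⟩
      ext z
      simp only [Finset.mem_filter, Finset.mem_univ, true_and, Finset.mem_singleton]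
      constructor
      · rintro ⟨hz1, hz2⟩
        induction z using QuotientGroup.induction_on with | _ c => ?_
        rw [rel_mk] at hz1 hz2
        -- the element `c' = a u σ`
        have hc1 : a⁻¹ * (a * u * σ) ∈ C P (σ : G) := by
          have e : a⁻¹ * (a * u * σ) = u * σ * 1 := by group
          rw [e]
          exact (mem_C P).2 ⟨u, hu, 1, P.B.one_mem, rfl⟩
        have hc2 : (a * u * σ)⁻¹ * b ∈ C P (n : G) := by
          have e : (a * u * σ)⁻¹ * b = 1 * n * v := by
            have : b = a * (u * ((σ : G) * n) * v) := by rw [← huv]; group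
            rw [this]; group
          rw [e]
          exact (mem_C P).2 ⟨1, P.B.one_mem, v, hv, rfl⟩
        rw [QuotientGroup.eq]
        rcases inv_mul_mem_of_simple P hσ hz1 hc1 with hB | hC
        · have e : c⁻¹ * (a * u * σ) = (a⁻¹ * c)⁻¹ * (a⁻¹ * (a * u * σ)) := by group
          rw [e]; exact hB
        · exfalso
          -- then `c⁻¹ b ∈ C σ * C n ⊆ C (σ n)`, but also in `C n`
          have h3 : (a⁻¹ * c)⁻¹ * (a⁻¹ * (a * u * σ)) * ((a * u * σ)⁻¹ * b) ∈ C P ((σ : G) * n) :=
            mul_mem_C_of_le P hσ hle hC hc2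
          have e : (a⁻¹ * c)⁻¹ * (a⁻¹ * (a * u * σ)) * ((a * u * σ)⁻¹ * b) = c⁻¹ * b := by group
          rw [e] at h3
          have h4 : C P ((σ : G) * n) = C P (n : G) := C_eq_of_mem_of_mem P h3 hz2
          have h5 : π P (σ * n) = π P n := (C_eq_iff P).1 (by simpa using h4)
          rw [map_mul] at h5
          exact one_not_mem_SW P ((mul_eq_right.1 h5) ▸ hσ)
      · rintro rfl
        rw [rel_mk, rel_mk]
        constructor
        · have e : a⁻¹ * (a * u * σ) = u * σ * 1 := by group
          rw [e]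
          exact (mem_C P).2 ⟨u, hu, 1, P.B.one_mem, rfl⟩
        · have e : (a * u * σ)⁻¹ * b = 1 * n * v := by
            have : b = a * (u * ((σ : G) * n) * v) := by rw [← huv]; group
            rw [this]; group
          rw [e]
          exact (mem_C P).2 ⟨1, P.B.one_mem, v, hv, rfl⟩
    rw [hcard]; simp
  · have hcard : (Finset.univ.filter fun z => Rel P (σ : G) (a : G ⧸ P.B) z ∧
        Rel P (n : G) z (b : G ⧸ P.B)).card = 0 := by
      rw [Finset.card_eq_zero, Finset.filter_eq_empty_iff]
      rintro z _ ⟨hz1, hz2⟩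
      induction z using QuotientGroup.induction_on with | _ c => ?_
      rw [rel_mk] at hz1 hz2
      apply h
      rw [rel_mk]
      have h3 := mul_mem_C_of_le P hσ hle hz1 hz2
      have e : a⁻¹ * c * (c⁻¹ * b) = a⁻¹ * b := by group
      rw [e] at h3
      exact h3
    rw [hcard]; simp

/-! ### Valencies and the quadratic relation -/

/-- the number of chambers in relative position `g` to a given one: `|B g B / B|` -/
noncomputable def q (g : G) : ℕ :=
  (Finset.univ.filter fun z => Rel P g ((1 : G) : G ⧸ P.B) z).card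

theorem card_rel (g : G) (x : G ⧸ P.B) :
    (Finset.univ.filter fun z => Rel P g x z).card = q P g := by
  induction x using QuotientGroup.induction_on with | _ a => ?_
  unfold q
  refine Finset.card_bij (fun z _ => a⁻¹ • z) ?_ ?_ ?_
  · intro z hz
    simp only [Finset.mem_filter, Finset.mem_univ, true_and] at hz ⊢
    have h := (rel_smul P g a⁻¹ (a : G ⧸ P.B) z).2 hz
    rw [MulAction.Quotient.smul_mk] at h
    simpa using h
  · intro z₁ _ z₂ _ h
    exact smul_left_cancel _ h
  · intro z hz
    simp only [Finset.mem_filter, Finset.mem_univ, true_and] at hz ⊢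
    refine ⟨a • z, ?_, by simp⟩
    have h := (rel_smul P g a ((1 : G) : G ⧸ P.B) z).2 hz
    rw [MulAction.Quotient.smul_mk] at h
    simpa using h

theorem q_congr {g h : G} (e : C P g = C P h) : q P g = q P h := by
  unfold q
  simp only [rel_congr P e]

/-- row sums -/
theorem A_mulVec_one (g : G) : (A P g).mulVec 1 = fun _ => (q P g : ℚ) := by
  ext x
  rw [Matrix.mulVec, dotProduct]
  simp only [Pi.one_apply, mul_one, A_apply]
  rw [← card_rel P g x, Finset.card_filter]
  push_cast
  rfl

theorem C_inv_of_mem_S {s : G} (hs : s ∈ P.S) : C P s⁻¹ = C P s := by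
  have h := C_inv_simple P (isSimple_of_mem P (σ := ⟨s, P.subset hs⟩) hs)
  simpa using h

theorem rel_symm_of_mem_S {s : G} (hs : s ∈ P.S) (x y : G ⧸ P.B) : Rel P s x y ↔ Rel P s y x := by
  rw [rel_symm P s x y, rel_congr P (C_inv_of_mem_S P hs)]

theorem A_transpose_of_mem_S {s : G} (hs : s ∈ P.S) : (A P s).transpose = A P s := by
  rw [A_transpose, A_congr P (C_inv_of_mem_S P hs)]

/-- the panel relation: `x = y` or `x`, `y` are `s`-adjacent, in terms of the parabolic `B ∪ B s B` -/
theorem eq_or_rel_iff {s : G} (hs : s ∈ P.S) (a b : G) :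
    ((a : G ⧸ P.B) = (b : G ⧸ P.B) ∨ Rel P s (a : G ⧸ P.B) (b : G ⧸ P.B)) ↔
      a⁻¹ * b ∈ P.parabolic {s} := by
  rw [mem_parabolic_singleton_iff P hs, rel_mk, QuotientGroup.eq]

theorem eq_or_rel_trans {s : G} (hs : s ∈ P.S) {x y z : G ⧸ P.B}
    (h₁ : x = y ∨ Rel P s x y) (h₂ : y = z ∨ Rel P s y z) : x = z ∨ Rel P s x z := by
  induction x using QuotientGroup.induction_on with | _ a => ?_
  induction y using QuotientGroup.induction_on with | _ b => ?_
  induction z using QuotientGroup.induction_on with | _ c => ?_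
  rw [eq_or_rel_iff P hs] at h₁ h₂ ⊢
  have e : a⁻¹ * c = (a⁻¹ * b) * (b⁻¹ * c) := by group
  rw [e]
  exact mul_mem h₁ h₂

theorem not_rel_self {s : G} (hs : s ∈ P.S) (x : G ⧸ P.B) : ¬ Rel P s x x := by
  rw [rel_self_iff]
  exact not_mem_B_of_mem_S P hs

/-- the quadratic relation -/
theorem A_sq {s : G} (hs : s ∈ P.S) :
    A P s * A P s = (q P s : ℚ) • (1 : Matrix (G ⧸ P.B) (G ⧸ P.B) ℚ) + ((q P s : ℚ) - 1) • A P s := by
  ext x y
  rw [mul_apply_eq_card, Matrix.add_apply, Matrix.smul_apply, Matrix.smul_apply, Matrix.one_apply,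
    A_apply]
  by_cases hxy : x = y
  · subst hxy
    have e : (Finset.univ.filter fun z => Rel P s x z ∧ Rel P s z x) =
        Finset.univ.filter fun z => Rel P s x z := by
      ext z
      simp only [Finset.mem_filter, Finset.mem_univ, true_and]
      constructor
      · exact fun h => h.1
      · exact fun h => ⟨h, (rel_symm_of_mem_S P hs _ _).1 h⟩
    rw [e, card_rel]
    simp [not_rel_self P hs x]
  · by_cases hr : Rel P s x y
    · have e : (Finset.univ.filter fun z => Rel P s x z ∧ Rel P s z y) =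
          (Finset.univ.filter fun z => Rel P s x z).erase y := by
        ext z
        simp only [Finset.mem_filter, Finset.mem_univ, true_and, Finset.mem_erase]
        constructor
        · rintro ⟨h1, h2⟩
          refine ⟨?_, h1⟩
          rintro rfl
          exact not_rel_self P hs _ h2
        · rintro ⟨hne, h1⟩
          refine ⟨h1, ?_⟩
          have h3 := eq_or_rel_trans P hs (Or.inr ((rel_symm_of_mem_S P hs _ _).1 h1)) (Or.inr hr)
          rcases h3 with h3 | h3
          · exact absurd h3 hne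
          · exact h3
      have hy : y ∈ Finset.univ.filter fun z => Rel P s x z := by
        simp only [Finset.mem_filter, Finset.mem_univ, true_and]; exact hr
      have hpos : 1 ≤ q P s := by
        rw [← card_rel P s x]
        exact Finset.card_pos.2 ⟨y, hy⟩
      rw [e, Finset.card_erase_of_mem hy, card_rel]
      simp only [hxy, if_false, hr, if_true]
      push_cast [hpos]
      ring
    · have e : (Finset.univ.filter fun z => Rel P s x z ∧ Rel P s z y) = ∅ := by
        rw [Finset.filter_eq_empty_iff]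
        rintro z _ ⟨h1, h2⟩
        rcases eq_or_rel_trans P hs (Or.inr h1) (Or.inr h2) with h3 | h3
        · exact hxy h3
        · exact hr h3
      rw [e]
      simp [hxy, hr]

/-- thickness -/
theorem two_le_q {s : G} (hs : s ∈ P.S) : 2 ≤ q P s := by
  obtain ⟨b, hb, hnot⟩ := exists_not_mem_B P hs
  have h1 : ((s : G) : G ⧸ P.B) ∈ Finset.univ.filter fun z => Rel P s ((1 : G) : G ⧸ P.B) z := by
    simp only [Finset.mem_filter, Finset.mem_univ, true_and]
    rw [rel_mk]
    simpa using mem_C_self P s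
  have h2 : ((b * s : G) : G ⧸ P.B) ∈
      Finset.univ.filter fun z => Rel P s ((1 : G) : G ⧸ P.B) z := by
    simp only [Finset.mem_filter, Finset.mem_univ, true_and]
    rw [rel_mk]
    have e : (1 : G)⁻¹ * (b * s) = b * s * 1 := by group
    rw [e]
    exact (mem_C P).2 ⟨b, hb, 1, P.B.one_mem, rfl⟩
  have hne : ((s : G) : G ⧸ P.B) ≠ ((b * s : G) : G ⧸ P.B) := by
    intro h
    rw [QuotientGroup.eq] at h
    apply hnot
    have e : s * b * s = (s * s) * (s⁻¹ * (b * s)) := by group
    rw [e]
    exact P.B.mul_mem (P.sq_mem s hs) h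
  unfold q
  exact Finset.one_lt_card.2 ⟨_, h1, _, h2, hne⟩

/-- the matrices of all relative positions add up to the all-ones matrix -/
theorem exists_unique_A_eq_one (x y : G ⧸ P.B) :
    ∃ n : P.N, A P (n : G) x y = 1 ∧ ∀ n' : P.N, A P (n' : G) x y = 1 → π P n' = π P n := by
  obtain ⟨n, hn⟩ := exists_rel P x y
  refine ⟨n, by rw [A_apply, if_pos hn], ?_⟩
  intro n' h'
  rw [A_apply] at h'
  by_cases h : Rel P (n' : G) x y
  · exact rel_unique P h hn
  · rw [if_neg h] at h'
    exact absurd h' zero_ne_one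

end Matrices

end Cfsg.Agent.Lib.Helper6_Hecke
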