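/-
A group generated by a family of involutions satisfying the exchange condition is a Coxeter group
(with the given involutions as simple reflections).
-/
import Mathlib
import Cfsg.Agent.Lib.Helper6_Word

set_option autoImplicit false
set_option linter.unusedSectionVars false
set_option linter.unusedVariables false

namespace Cfsg.Agent.Lib.Helper6_Coxeter

open Cfsg.Agent.Lib.Helper6_Word

/-! ### Alternating words and products -/

/-- alternating product `x y x y ...` with `k` factors -/
def altp {M : Type*} [Monoid M] : M → M → ℕ → M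
  | _, _, 0 => 1
  | x, y, k + 1 => x * altp y x k

/-- alternating word `a b a b ...` with `k` letters -/
def altw {B : Type*} : B → B → ℕ → List B
  | _, _, 0 => []
  | a, b, k + 1 => a :: altw b a k

theorem altw_length {B : Type*} (a b : B) (k : ℕ) : (altw a b k).length = k := by
  induction k generalizing a b with
  | zero => rfl
  | succ k ih => simp [altw, ih]

theorem prod_map_altw {B M : Type*} [Monoid M] (f : B → M) (a b : B) (k : ℕ) :
    ((altw a b k).map f).prod = altp (f a) (f b) k := by
  induction k generalizing a b with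
  | zero => rfl
  | succ k ih => simp [altw, altp, ih]

theorem mul_pow_mul_comm {Γ : Type*} [Group Γ] (x y : Γ) (k : ℕ) :
    x * (y * x) ^ k = (x * y) ^ k * x := by
  induction k with
  | zero => simp
  | succ k ih => rw [pow_succ, ← mul_assoc, ih, pow_succ]; group

theorem altp_mul_inv {Γ : Type*} [Group Γ] {x y : Γ} (hx : x * x = 1) (hy : y * y = 1) (k : ℕ) :
    altp x y k * (altp y x k)⁻¹ = (x * y) ^ k := by
  induction k generalizing x y with
  | zero => simp [altp]
  | succ k ih =>
    have hy' : y⁻¹ = y := inv_eq_of_sq hy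
    have : altp x y (k + 1) * (altp y x (k + 1))⁻¹ =
        x * (altp y x k * (altp x y k)⁻¹) * y⁻¹ := by
      simp only [altp]; group
    rw [this, ih hy hx, hy', mul_pow_mul_comm, pow_succ, mul_assoc]

theorem altp_eq_iff {Γ : Type*} [Group Γ] {x y : Γ} (hx : x * x = 1) (hy : y * y = 1) (k : ℕ) :
    altp x y k = altp y x k ↔ (x * y) ^ k = 1 := by
  rw [← altp_mul_inv hx hy k, mul_inv_eq_one]

/-! ### The setting -/

section Matsumoto

variable {W : Type*} [Group W] {B : Type*} (ι : B → W) {Γ : Type*} [Group Γ] (t : B → Γ)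

/-- the product in `W` of a word -/
def wprod (l : List B) : W := (l.map ι).prod

/-- a word (as a list of indices) is reduced -/
def Red (l : List B) : Prop := l.length = len (Set.range ι) (wprod ι l)

theorem isWord_map (l : List B) : IsWord (Set.range ι) (l.map ι) := by
  intro x hx
  obtain ⟨i, _, rfl⟩ := List.mem_map.1 hx
  exact ⟨i, rfl⟩

theorem red_iff (l : List B) : Red ι l ↔ Helper6_Word.IsReduced (Set.range ι) (l.map ι) := by
  unfold Red Helper6_Word.IsReduced wprod
  constructor
  · intro h; exact ⟨isWord_map ι l, by simpa using h⟩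
  · intro h; simpa using h.2

theorem wprod_cons (a : B) (l : List B) : wprod ι (a :: l) = ι a * wprod ι l := by
  simp [wprod]

theorem wprod_append (l l' : List B) : wprod ι (l ++ l') = wprod ι l * wprod ι l' := by
  simp [wprod]

theorem wprod_nil : wprod ι ([] : List B) = 1 := rfl

variable {ι}

theorem Red.tail (h : InvGen (Set.range ι)) {a : B} {l : List B} (hl : Red ι (a :: l)) :
    Red ι l := by
  rw [red_iff] at hl ⊢
  exact Helper6_Word.IsReduced.tail h (s := ι a) (by simpa using hl)

theorem Red.dropLast_concat (h : InvGen (Set.range ι)) {a : B} {l : List B}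
    (hl : Red ι (l ++ [a])) : Red ι l := by
  rw [red_iff] at hl ⊢
  exact Helper6_Word.IsReduced.dropLast_concat h (s := ι a) (by simpa using hl)

theorem exchange' (hE : Exchange (Set.range ι)) {a : B} {l : List B} (hl : Red ι l)
    (hle : len (Set.range ι) (ι a * wprod ι l) ≤ len (Set.range ι) (wprod ι l)) :
    ∃ j < l.length, ι a * wprod ι l = wprod ι (l.eraseIdx j) := by
  obtain ⟨j, hj, hj'⟩ := hE (ι a) ⟨a, rfl⟩ (l.map ι) ((red_iff ι l).1 hl) hle
  refine ⟨j, by simpa using hj, ?_⟩
  unfold wprod
  rw [hj', List.eraseIdx_map]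

theorem sq_one (h : InvGen (Set.range ι)) (a : B) : ι a * ι a = 1 := h.sq _ ⟨a, rfl⟩

/-- the image in `Γ` of a word -/
def tprod (l : List B) : Γ := (l.map t).prod

theorem tprod_cons (a : B) (l : List B) : tprod t (a :: l) = t a * tprod t l := by
  simp [tprod]

theorem tprod_append (l l' : List B) : tprod t (l ++ l') = tprod t l * tprod t l' := by
  simp [tprod]

/-- The hypotheses on the target: `t a` are involutions, and relations `(a b)^k = 1` of `W`
hold in `Γ`. -/
structure Compat (ι : B → W) (t : B → Γ) : Prop where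
  sq : ∀ a, t a * t a = 1
  rel : ∀ a b k, (ι a * ι b) ^ k = 1 → (t a * t b) ^ k = 1

variable {t}

/-- Statement of Matsumoto's theorem for words of length `q`. -/
def Mats (ι : B → W) (t : B → Γ) (q : ℕ) : Prop :=
  ∀ l l' : List B, l.length = q → Red ι l → Red ι l' → wprod ι l = wprod ι l' →
    tprod t l = tprod t l'

theorem red_length_eq {l l' : List B} (hl : Red ι l) (hl' : Red ι l')
    (h : wprod ι l = wprod ι l') : l.length = l'.length := by
  unfold Red at hl hl'
  rw [hl, hl', h]

theorem sameHead (h : InvGen (Set.range ι)) {q : ℕ} (ih : Mats ι t q) {a : B} {r r' : List B}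
    (hq : (a :: r).length = q + 1) (hr : Red ι (a :: r)) (hr' : Red ι (a :: r'))
    (hw : wprod ι (a :: r) = wprod ι (a :: r')) : tprod t (a :: r) = tprod t (a :: r') := by
  rw [tprod_cons, tprod_cons]
  congr 1
  apply ih r r' (by simpa using hq) (hr.tail h) (hr'.tail h)
  rw [wprod_cons, wprod_cons] at hw
  exact mul_left_cancel hw

theorem sameLast (h : InvGen (Set.range ι)) {q : ℕ} (ih : Mats ι t q) {c : B} {r r' : List B}
    (hq : (r ++ [c]).length = q + 1) (hr : Red ι (r ++ [c])) (hr' : Red ι (r' ++ [c]))
    (hw : wprod ι (r ++ [c]) = wprod ι (r' ++ [c])) :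
    tprod t (r ++ [c]) = tprod t (r' ++ [c]) := by
  rw [tprod_append, tprod_append]
  congr 1
  apply ih r r' (by simpa using hq) (hr.dropLast_concat h) (hr'.dropLast_concat h)
  rw [wprod_append, wprod_append] at hw
  exact mul_right_cancel hw

/-- step (B) -/
theorem stepB (h : InvGen (Set.range ι)) (hE : Exchange (Set.range ι)) {q : ℕ} (ih : Mats ι t q)
    {s r' : List B} {b : B} (hq : s.length = q + 1) (hs : Red ι s) (hs' : Red ι (b :: r'))
    (hw : wprod ι s = wprod ι (b :: r')) :
    tprod t s = tprod t (b :: r') ∨
      (Red ι (b :: s.dropLast) ∧ wprod ι (b :: s.dropLast) = wprod ι s ∧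
        tprod t (b :: s.dropLast) = tprod t (b :: r')) := by
  have hlen' : (b :: r').length = q + 1 := by rw [← red_length_eq hs hs' hw, hq]
  have hr'len : r'.length = q := by simpa using hlen'
  have hle : len (Set.range ι) (ι b * wprod ι s) ≤ len (Set.range ι) (wprod ι s) := by
    have h1 : ι b * wprod ι s = wprod ι r' := by
      rw [hw, wprod_cons, ← mul_assoc, sq_one h, one_mul]
    rw [h1]
    have h2 : len (Set.range ι) (wprod ι r') ≤ r'.length := by
      simpa [wprod] using len_le_length (isWord_map ι r')
    have h3 : s.length = len (Set.range ι) (wprod ι s) := hs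
    omega
  obtain ⟨j, hj, hj'⟩ := exchange' hE hs hle
  -- the word `b :: s.eraseIdx j`
  have hprod : wprod ι (b :: s.eraseIdx j) = wprod ι s := by
    rw [wprod_cons, ← hj', ← mul_assoc, sq_one h, one_mul]
  have hlenj : (b :: s.eraseIdx j).length = q + 1 := by
    rw [List.length_cons, List.length_eraseIdx, if_pos hj, hq]; omega
  have hredj : Red ι (b :: s.eraseIdx j) := by
    unfold Red
    rw [hprod, hlenj, ← hq]; exact hs
  have htj : tprod t (b :: s.eraseIdx j) = tprod t (b :: r') :=
    sameHead h ih hlenj hredj hs' (hprod.trans hw)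
  -- split `s` as `s₀ ++ [c]`
  have hsne : s ≠ [] := by
    intro h0; rw [h0] at hq; simp at hq
  obtain ⟨s₀, c, rfl⟩ : ∃ s₀ c, s = s₀ ++ [c] := by
    rcases List.eq_nil_or_concat s with h0 | ⟨s₀, c, h0⟩
    · exact absurd h0 hsne
    · exact ⟨s₀, c, by simpa using h0⟩
  have hs₀len : s₀.length = q := by simpa using hq
  by_cases hjq : j < s₀.length
  · left
    have e : (s₀ ++ [c]).eraseIdx j = s₀.eraseIdx j ++ [c] :=
      List.eraseIdx_append_of_lt_length hjq _
    rw [e] at hprod hlenj hredj htj
    have h4 : tprod t ((b :: s₀.eraseIdx j) ++ [c]) = tprod t (s₀ ++ [c]) :=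
      sameLast h ih (by simpa using hlenj) (by simpa using hredj) hs (by simpa using hprod)
    rw [← htj]
    exact h4.symm
  · right
    have hjeq : j = s₀.length := by
      simp only [List.length_append, List.length_cons, List.length_nil] at hj
      omega
    have e : (s₀ ++ [c]).eraseIdx j = (s₀ ++ [c]).dropLast := by
      rw [List.dropLast_eq_eraseIdx (i := j)]
      simp [hjeq]
    rw [e] at hprod hredj htj
    exact ⟨hredj, hprod, htj⟩

theorem dropLast_altw_append {a b : B} (k : ℕ) {r : List B} (hr : r ≠ []) :
    (altw a b k ++ r).dropLast = altw a b k ++ r.dropLast := by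
  rw [List.dropLast_append_of_ne_nil hr]

/-- downward induction (C) -/
theorem stepC (h : InvGen (Set.range ι)) (hE : Exchange (Set.range ι)) (hc : Compat ι t) {q : ℕ}
    (ih : Mats ι t q) (a b : B) : ∀ (d k : ℕ), 1 ≤ k → k + d = q + 1 → ∀ r r' : List B,
      Red ι (altw a b k ++ r) → Red ι (altw b a k ++ r') → (altw a b k ++ r).length = q + 1 →
      wprod ι (altw a b k ++ r) = wprod ι (altw b a k ++ r') →
      tprod t (altw a b k ++ r) = tprod t (altw b a k ++ r') := by
  intro d
  induction d with
  | zero =>
    intro k hk1 hkq r r' hr hr' hlen hw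
    have hlen' : (altw b a k ++ r').length = q + 1 := by
      rw [← red_length_eq hr hr' hw, hlen]
    have hr0 : r = [] := by
      rw [List.length_append, altw_length] at hlen
      exact List.length_eq_zero_iff.1 (by omega)
    have hr0' : r' = [] := by
      rw [List.length_append, altw_length] at hlen'
      exact List.length_eq_zero_iff.1 (by omega)
    subst hr0 hr0'
    simp only [List.append_nil] at hw ⊢
    unfold wprod at hw
    unfold tprod
    rw [prod_map_altw, prod_map_altw] at hw ⊢
    rw [altp_eq_iff (sq_one h a) (sq_one h b)] at hw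
    rw [altp_eq_iff (hc.sq a) (hc.sq b)]
    exact hc.rel a b k hw
  | succ d ihd =>
    intro k hk1 hkq r r' hr hr' hlen hw
    have hlen' : (altw b a k ++ r').length = q + 1 := by
      rw [← red_length_eq hr hr' hw, hlen]
    have hrne : r ≠ [] := by
      intro h0
      rw [h0, List.append_nil, altw_length] at hlen
      omega
    have hrne' : r' ≠ [] := by
      intro h0
      rw [h0, List.append_nil, altw_length] at hlen'
      omega
    obtain ⟨k', rfl⟩ : ∃ k', k = k' + 1 := ⟨k - 1, by omega⟩
    -- heads
    have e1 : altw a b (k' + 1) ++ r = a :: (altw b a k' ++ r) := rfl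
    have e2 : altw b a (k' + 1) ++ r' = b :: (altw a b k' ++ r') := rfl
    -- apply (B) both ways
    have hB1 := stepB h hE ih hlen hr (e2 ▸ hr') (e2 ▸ hw)
    have hB2 := stepB h hE ih hlen' hr' (e1 ▸ hr) (e1 ▸ hw.symm)
    rcases hB1 with hB1 | ⟨hB1r, hB1w, hB1t⟩
    · rw [hB1, e2]
    rcases hB2 with hB2 | ⟨hB2r, hB2w, hB2t⟩
    · rw [hB2, e1]
    rw [dropLast_altw_append _ hrne] at hB1r hB1w hB1t
    rw [dropLast_altw_append _ hrne'] at hB2r hB2w hB2t
    -- `b :: altw a b (k'+1) ++ r.dropLast = altw b a (k'+2) ++ r.dropLast`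
    have e3 : b :: (altw a b (k' + 1) ++ r.dropLast) = altw b a (k' + 1 + 1) ++ r.dropLast := rfl
    have e4 : a :: (altw b a (k' + 1) ++ r'.dropLast) = altw a b (k' + 1 + 1) ++ r'.dropLast := rfl
    rw [e3] at hB1r hB1w hB1t
    rw [e4] at hB2r hB2w hB2t
    have hlen2 : (altw a b (k' + 1 + 1) ++ r'.dropLast).length = q + 1 := by
      rw [List.length_append, altw_length, List.length_dropLast]
      rw [List.length_append, altw_length] at hlen'
      have : 1 ≤ r'.length := List.length_pos_iff.2 hrne'
      omega
    have key := ihd (k' + 1 + 1) (by omega) (by omega) r'.dropLast r.dropLast hB2r hB1r hlen2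
      (by rw [hB2w, hB1w, hw])
    rw [← e1, ← e2] at *
    rw [← hB2t, ← hB1t, key]

theorem matsumoto (h : InvGen (Set.range ι)) (hE : Exchange (Set.range ι)) (hc : Compat ι t) :
    ∀ q, Mats ι t q := by
  intro q
  induction q with
  | zero =>
    intro l l' hl hr hr' hw
    have h1 : l = [] := List.length_eq_zero_iff.1 hl
    have h2 : l' = [] := by
      apply List.length_eq_zero_iff.1
      rw [← red_length_eq hr hr' hw, hl]
    rw [h1, h2]
  | succ q ih =>
    intro l l' hl hr hr' hw
    have hl' : l'.length = q + 1 := by rw [← red_length_eq hr hr' hw, hl]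
    match l, l', hl, hl', hr, hr', hw with
    | [], _, hl, _, _, _, _ => simp at hl
    | _ :: _, [], _, hl', _, _, _ => simp at hl'
    | a :: r, b :: r', hl, hl', hr, hr', hw =>
      have := stepC h hE hc ih a b q 1 (le_refl 1) (by omega) r r' hr hr' hl hw
      exact this

end Matsumoto

/-! ### The Coxeter system -/

section Main

variable {W : Type*} [Group W] {B : Type*} {ι : B → W}

/-- the Coxeter matrix of orders of products -/
noncomputable def coxMat (ι : B → W) (hinj : Function.Injective ι)
    (h : InvGen (Set.range ι)) : CoxeterMatrix B where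
  M := Matrix.of fun i j => orderOf (ι i * ι j)
  isSymm := by
    ext i j
    simp only [Matrix.transpose_apply, Matrix.of_apply]
    exact SemiconjBy.orderOf_eq (ι i) (by unfold SemiconjBy; group)
  diagonal i := by
    simp only [Matrix.of_apply]
    rw [h.sq _ ⟨i, rfl⟩, orderOf_one]
  off_diagonal i j hij := by
    simp only [Matrix.of_apply]
    intro h1
    rw [orderOf_eq_one_iff] at h1
    apply hij
    apply hinj
    have := mul_eq_one_iff_eq_inv.1 h1
    rw [this, inv_eq_of_sq (h.sq _ ⟨j, rfl⟩)]

theorem coxMat_apply (hinj : Function.Injective ι) (h : InvGen (Set.range ι)) (i j : B) :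
    (coxMat ι hinj h) i j = orderOf (ι i * ι j) := rfl

theorem isLiftable (hinj : Function.Injective ι) (h : InvGen (Set.range ι)) :
    (coxMat ι hinj h).IsLiftable ι := by
  intro i j
  rw [coxMat_apply]
  exact pow_orderOf_eq_one _

theorem compat (hinj : Function.Injective ι) (h : InvGen (Set.range ι)) :
    Compat ι (coxMat ι hinj h).simple := by
  constructor
  · intro a
    exact (coxMat ι hinj h).toCoxeterSystem.simple_mul_simple_self a
  · intro a b k hk
    have h1 : orderOf (ι a * ι b) ∣ k := orderOf_dvd_of_pow_eq_one hk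
    obtain ⟨c, rfl⟩ := h1
    rw [pow_mul]
    have := (coxMat ι hinj h).toCoxeterSystem.simple_mul_simple_pow a b
    rw [CoxeterMatrix.toCoxeterSystem_simple, coxMat_apply] at this
    rw [this, one_pow]

/-- the inverse map, defined through reduced words -/
noncomputable def psi (hinj : Function.Injective ι) (h : InvGen (Set.range ι)) (w : W) :
    (coxMat ι hinj h).Group :=
  tprod (coxMat ι hinj h).simple
    (Classical.choose (show ∃ l : List B, wprod ι l = w ∧ Red ι l from by
      obtain ⟨l, hl, hprod, hlen⟩ := exists_reduced h w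
      have : ∀ l : List W, IsWord (Set.range ι) l → ∃ l' : List B, l'.map ι = l := by
        intro l
        induction l with
        | nil => intro _; exact ⟨[], rfl⟩
        | cons x l ih =>
          intro hl
          obtain ⟨⟨i, rfl⟩, hl'⟩ := isWord_cons.1 hl
          obtain ⟨l', rfl⟩ := ih hl'
          exact ⟨i :: l', rfl⟩
      obtain ⟨l', rfl⟩ := this l hl
      refine ⟨l', hprod, ?_⟩
      unfold Red wprod
      rw [hprod, ← hlen]; simp))

theorem psi_wprod (hinj : Function.Injective ι) (h : InvGen (Set.range ι))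
    (hE : Exchange (Set.range ι)) {l : List B} (hl : Red ι l) :
    psi hinj h (wprod ι l) = tprod (coxMat ι hinj h).simple l := by
  unfold psi
  generalize_proofs hex
  obtain ⟨h1, h2⟩ := Classical.choose_spec hex
  exact matsumoto h hE (compat hinj h) _ _ _ rfl h2 hl h1

theorem psi_simple_mul_of_lt (hinj : Function.Injective ι) (h : InvGen (Set.range ι))
    (hE : Exchange (Set.range ι)) (a : B) (w : W)
    (hlt : len (Set.range ι) (ι a * w) = len (Set.range ι) w + 1) :
    psi hinj h (ι a * w) = (coxMat ι hinj h).simple a * psi hinj h w := by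
  have hex : ∃ l : List B, wprod ι l = w ∧ Red ι l := by
    obtain ⟨l, hl, hprod, hlen⟩ := exists_reduced h w
    have : ∀ l : List W, IsWord (Set.range ι) l → ∃ l' : List B, l'.map ι = l := by
      intro l
      induction l with
      | nil => intro _; exact ⟨[], rfl⟩
      | cons x l ih =>
        intro hl
        obtain ⟨⟨i, rfl⟩, hl'⟩ := isWord_cons.1 hl
        obtain ⟨l', rfl⟩ := ih hl'
        exact ⟨i :: l', rfl⟩
    obtain ⟨l', rfl⟩ := this l hl
    refine ⟨l', hprod, ?_⟩
    unfold Red wprod
    rw [hprod, ← hlen]; simp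
  obtain ⟨l, rfl, hl⟩ := hex
  have hred : Red ι (a :: l) := by
    unfold Red
    rw [wprod_cons, hlt, List.length_cons]
    congr 1
  rw [← wprod_cons, psi_wprod hinj h hE hred, psi_wprod hinj h hE hl, tprod_cons]

theorem psi_simple_mul (hinj : Function.Injective ι) (h : InvGen (Set.range ι))
    (hE : Exchange (Set.range ι)) (a : B) (w : W) :
    psi hinj h (ι a * w) = (coxMat ι hinj h).simple a * psi hinj h w := by
  rcases len_simple_mul_cases h hE ⟨a, rfl⟩ w with hlt | hgt
  · exact psi_simple_mul_of_lt hinj h hE a w hlt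
  · have h1 := psi_simple_mul_of_lt hinj h hE a (ι a * w) (by
      rw [← mul_assoc, sq_one h, one_mul]; omega)
    rw [← mul_assoc, sq_one h, one_mul] at h1
    rw [h1, ← mul_assoc]
    have := (coxMat ι hinj h).toCoxeterSystem.simple_mul_simple_self a
    rw [CoxeterMatrix.toCoxeterSystem_simple] at this
    rw [this, one_mul]

theorem psi_wprod_all (hinj : Function.Injective ι) (h : InvGen (Set.range ι))
    (hE : Exchange (Set.range ι)) (l : List B) :
    psi hinj h (wprod ι l) = tprod (coxMat ι hinj h).simple l := by
  induction l with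
  | nil =>
    have : Red ι ([] : List B) := by
      unfold Red; rw [wprod_nil, len_one]; rfl
    exact psi_wprod hinj h hE this
  | cons a l ih =>
    rw [wprod_cons, psi_simple_mul hinj h hE, ih, tprod_cons]

/-- Main theorem: a group generated by an injective family of involutions satisfying the exchange
condition is a Coxeter group with these involutions as simple reflections. -/
theorem exists_coxeterSystem (hinj : Function.Injective ι) (h : InvGen (Set.range ι))
    (hE : Exchange (Set.range ι)) :
    ∃ (M : CoxeterMatrix B) (cs : CoxeterSystem M W), ∀ i : B, cs.simple i = ι i := by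
  refine ⟨coxMat ι hinj h, ?_⟩
  set M := coxMat ι hinj h with hM
  let φ : M.Group →* W := M.toCoxeterSystem.lift ⟨ι, isLiftable hinj h⟩
  have hφ : ∀ i, φ (M.simple i) = ι i := fun i =>
    M.toCoxeterSystem.lift_apply_simple (isLiftable hinj h) i
  have hφprod : ∀ l : List B, φ (tprod M.simple l) = wprod ι l := by
    intro l
    induction l with
    | nil => simp [tprod, wprod]
    | cons a l ih => rw [tprod_cons, map_mul, hφ, ih, wprod_cons]
  have hsurjΓ : ∀ g : M.Group, ∃ l : List B, tprod M.simple l = g := by
    intro g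
    obtain ⟨l, rfl⟩ := M.toCoxeterSystem.wordProd_surjective g
    exact ⟨l, rfl⟩
  have hinjφ : Function.Injective φ := by
    rw [injective_iff_map_eq_one]
    intro g hg
    obtain ⟨l, rfl⟩ := hsurjΓ g
    rw [hφprod] at hg
    have h1 := psi_wprod_all hinj h hE l
    rw [hg] at h1
    have h2 := psi_wprod_all hinj h hE ([] : List B)
    rw [wprod_nil] at h2
    rw [← h1, h2]; rfl
  have hsurjφ : Function.Surjective φ := by
    intro w
    obtain ⟨l, hl, rfl⟩ := exists_word h w
    have : ∀ l : List W, IsWord (Set.range ι) l → ∃ l' : List B, l'.map ι = l := by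
      intro l
      induction l with
      | nil => intro _; exact ⟨[], rfl⟩
      | cons x l ih =>
        intro hl
        obtain ⟨⟨i, rfl⟩, hl'⟩ := isWord_cons.1 hl
        obtain ⟨l', rfl⟩ := ih hl'
        exact ⟨i :: l', rfl⟩
    obtain ⟨l', rfl⟩ := this l hl
    exact ⟨tprod M.simple l', hφprod l'⟩
  let e : M.Group ≃* W := MulEquiv.ofBijective φ ⟨hinjφ, hsurjφ⟩
  refine ⟨⟨e.symm⟩, ?_⟩
  intro i
  show e.symm.symm (PresentedGroup.of i) = ι i
  rw [MulEquiv.symm_symm]
  exact hφ i

end Main

end Cfsg.Agent.Lib.Helper6_Coxeter
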