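/-
A group `W` generated by two distinct involutions `a`, `b` satisfying the exchange condition, with
`m = orderOf (a * b)`: lengths of alternating products, the longest element, `|W| = 2 m`, and the
parametrisation of `W` by `Fin 2 × Fin m`.
-/
import Cfsg.Agent.Lib.Helper6_Coxeter

set_option autoImplicit false
set_option linter.unusedSectionVars false
set_option linter.unusedVariables false

namespace Cfsg.Agent.Lib.Helper6_Hecke

open Cfsg.Agent.Lib.Helper6_Word Cfsg.Agent.Lib.Helper6_Coxeter

section Alt

variable {W : Type*} [Group W]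

theorem altp_succ (x y : W) (k : ℕ) : altp x y (k + 1) = x * altp y x k := rfl

theorem altp_zero (x y : W) : altp x y 0 = 1 := rfl

theorem altp_one (x y : W) : altp x y 1 = x := by simp [altp]

theorem altp_two_mul {x y : W} (i : ℕ) : altp x y (2 * i) = (x * y) ^ i := by
  induction i with
  | zero => simp [altp]
  | succ i ih =>
    have e : 2 * (i + 1) = (2 * i + 1) + 1 := by ring
    rw [e, altp_succ, altp_succ, ih, pow_succ', mul_assoc]

theorem altp_two_mul_add_one {x y : W} (i : ℕ) : altp x y (2 * i + 1) = (x * y) ^ i * x := by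
  rw [altp_succ, altp_two_mul, mul_pow_mul_comm]

theorem isWord_altw {S : Set W} {x y : W} (hx : x ∈ S) (hy : y ∈ S) (k : ℕ) :
    IsWord S (altw x y k) := by
  induction k generalizing x y with
  | zero => exact isWord_nil S
  | succ k ih => exact isWord_cons.2 ⟨hx, ih hy hx⟩

theorem prod_altw (x y : W) (k : ℕ) : (altw x y k).prod = altp x y k := by
  have h := prod_map_altw (id : W → W) x y k
  simpa using h

theorem len_altp_le {S : Set W} {x y : W} (hx : x ∈ S) (hy : y ∈ S) (k : ℕ) :
    len S (altp x y k) ≤ k := by
  have h := len_le_length (isWord_altw hx hy k)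
  rwa [prod_altw, altw_length] at h

end Alt

section Dihedral

variable {W : Type*} [Group W] {a b : W}

/-- a reduced word in the two letters `a`, `b` is alternating -/
theorem reduced_eq_altw (h : InvGen ({a, b} : Set W)) :
    ∀ l : List W, IsReduced ({a, b} : Set W) l →
      l = altw a b l.length ∨ l = altw b a l.length := by
  intro l
  induction l with
  | nil => intro _; left; rfl
  | cons x t ih =>
    intro hl
    have ht : IsReduced ({a, b} : Set W) t := hl.tail h
    have hx : x ∈ ({a, b} : Set W) := (isWord_cons.1 hl.1).1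
    cases t with
    | nil =>
      rcases hx with rfl | hx
      · left; rfl
      · rw [Set.mem_singleton_iff] at hx; subst hx; right; rfl
    | cons y t' =>
      have hy : y ∈ ({a, b} : Set W) := (isWord_cons.1 ht.1).1
      have hne : x ≠ y := by
        rintro rfl
        have h1 : (x :: x :: t').prod = t'.prod := by
          rw [List.prod_cons, List.prod_cons, ← mul_assoc, h.sq x hx, one_mul]
        have h2 := len_le_length (isWord_cons.1 ht.1).2
        have h3 := hl.2
        rw [h1] at h3
        simp only [List.length_cons] at h3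
        omega
      have ih' := ih ht
      simp only [List.length_cons] at ih' ⊢
      rcases ih' with e | e
      · -- `y = a`
        have hya : y = a := by
          have := congrArg List.head? e
          simpa [altw] using this
        have hxb : x = b := by
          rcases hx with rfl | hx
          · exact absurd hya.symm hne
          · exact hx
        right
        rw [hxb]
        show b :: y :: t' = b :: altw a b (t'.length + 1)
        rw [← e]
      · have hyb : y = b := by
          have := congrArg List.head? e
          simpa [altw] using this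
        have hxa : x = a := by
          rcases hx with hx | hx
          · exact hx
          · rw [Set.mem_singleton_iff] at hx
            exact absurd (hx.trans hyb.symm) hne
        left
        rw [hxa]
        show a :: y :: t' = a :: altw b a (t'.length + 1)
        rw [← e]

/-- every element is the alternating product of its length -/
theorem eq_altp_len (h : InvGen ({a, b} : Set W)) (w : W) :
    w = altp a b (len {a, b} w) ∨ w = altp b a (len {a, b} w) := by
  obtain ⟨l, hl, hw, hlen⟩ := exists_reduced h w
  have hred : IsReduced ({a, b} : Set W) l := ⟨hl, by rw [hw]; exact hlen⟩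
  rcases reduced_eq_altw h l hred with e | e
  · left
    rw [← hlen, ← hw]
    conv_lhs => rw [e]
    rw [prod_altw]
  · right
    rw [← hlen, ← hw]
    conv_lhs => rw [e]
    rw [prod_altw]

theorem orderOf_mul_comm_of_sq (ha : a * a = 1) (hb : b * b = 1) :
    orderOf (b * a) = orderOf (a * b) := by
  have e : b * a = (a * b)⁻¹ := by
    rw [mul_inv_rev, inv_eq_of_sq ha, inv_eq_of_sq hb]
  rw [e, orderOf_inv]

/-- the inductive step for the length of alternating products -/
theorem len_altp_step (h : InvGen ({a, b} : Set W)) (hE : Exchange ({a, b} : Set W))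
    {x y : W} (hx : x ∈ ({a, b} : Set W)) (hy : y ∈ ({a, b} : Set W)) (hS : ({x, y} : Set W) = {a, b})
    (hxy : x ≠ y) {k : ℕ} (hk1 : 1 ≤ k) (hkm : k < orderOf (x * y))
    (ih : len ({a, b} : Set W) (altp y x k) = k) :
    len ({a, b} : Set W) (altp x y (k + 1)) = k + 1 := by
  have hxx : x * x = 1 := h.sq x hx
  have hyy : y * y = 1 := h.sq y hy
  rcases len_simple_mul_cases h hE hx (altp y x k) with hc | hc
  · rw [altp_succ, hc, ih]
  · exfalso
    rw [ih] at hc
    -- `altp x y (k+1)` has length `k - 1`
    have hlen : len ({a, b} : Set W) (altp x y (k + 1)) = k - 1 := by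
      rw [altp_succ]; omega
    have h2 : altp x y (k + 1) = altp x y (k - 1) ∨ altp x y (k + 1) = altp y x (k - 1) := by
      have h3 := eq_altp_len h (altp x y (k + 1))
      rw [hlen] at h3
      -- translate `{a, b}` to `{x, y}`
      have hxab : (x = a ∧ y = b) ∨ (x = b ∧ y = a) := by
        have hx' := hx
        have hy' := hy
        simp only [Set.mem_insert_iff, Set.mem_singleton_iff] at hx' hy'
        rcases hx' with hx' | hx' <;> rcases hy' with hy' | hy'
        · exact absurd (hx'.trans hy'.symm) hxy
        · exact Or.inl ⟨hx', hy'⟩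
        · exact Or.inr ⟨hx', hy'⟩
        · exact absurd (hx'.trans hy'.symm) hxy
      rcases hxab with ⟨rfl, rfl⟩ | ⟨rfl, rfl⟩
      · exact h3
      · exact h3.symm
    obtain ⟨j, rfl⟩ : ∃ j, k = j + 1 := ⟨k - 1, by omega⟩
    simp only [Nat.add_sub_cancel] at h2
    rcases h2 with h2 | h2
    · -- `x * y * altp x y j = altp x y j`
      rw [altp_succ, altp_succ, ← mul_assoc] at h2
      have h3 : x * y = 1 := mul_eq_right.1 h2
      have h4 : x = y := by
        have : x = y⁻¹ := eq_inv_of_mul_eq_one_left h3
        rw [this, inv_eq_of_sq hyy]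
      exact hxy h4
    · -- parity cases
      have hord : ¬ orderOf (x * y) ∣ j + 1 := by
        intro hd
        have := Nat.le_of_dvd (by omega) hd
        omega
      apply hord
      rw [orderOf_dvd_iff_pow_eq_one]
      rcases Nat.even_or_odd' j with ⟨i, hi | hi⟩
      · -- `j = 2 i`, `k + 1 = 2 i + 2`
        subst hi
        have e1 : 2 * i + 1 + 1 = 2 * (i + 1) := by ring
        rw [e1, altp_two_mul, altp_two_mul] at h2
        have e2 : y * x = (x * y)⁻¹ := by
          rw [mul_inv_rev, inv_eq_of_sq hxx, inv_eq_of_sq hyy]
        rw [e2, inv_pow, eq_inv_iff_mul_eq_one, ← pow_add] at h2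
        have e3 : i + 1 + i = 2 * i + 1 := by ring
        rw [e3] at h2
        exact h2
      · -- `j = 2 i + 1`, `k + 1 = 2 i + 3`
        subst hi
        have e1 : 2 * i + 1 + 1 + 1 = 2 * (i + 1) + 1 := by ring
        rw [e1, altp_two_mul_add_one, altp_two_mul_add_one] at h2
        have e2 : y * x = (x * y)⁻¹ := by
          rw [mul_inv_rev, inv_eq_of_sq hxx, inv_eq_of_sq hyy]
        -- `(x y)^(i+1) x = (x y)^(-i) y`
        have h3 : (x * y) ^ i * ((x * y) ^ (i + 1) * x) * x = (x * y) ^ i * ((y * x) ^ i * y) * x := by
          rw [h2]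
        have e4 : (x * y) ^ i * ((x * y) ^ (i + 1) * x) * x = (x * y) ^ (2 * i + 1) := by
          rw [mul_assoc, mul_assoc ((x * y) ^ (i + 1)), hxx, mul_one, ← pow_add]
          congr 1; ring
        have e5 : (x * y) ^ i * ((y * x) ^ i * y) * x = (x * y)⁻¹ := by
          rw [e2, inv_pow, ← mul_assoc ((x * y) ^ i), mul_inv_cancel, one_mul, ← e2]
        rw [e4, e5] at h3
        have e6 : 2 * i + 1 + 1 = (2 * i + 1) + 1 := rfl
        rw [e6, pow_succ, h3, inv_mul_cancel]

/-- alternating products of length at most `m = orderOf (a * b)` have the expected length -/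
theorem len_altp (h : InvGen ({a, b} : Set W)) (hE : Exchange ({a, b} : Set W)) (hab : a ≠ b)
    (h1 : (1 : W) ∉ ({a, b} : Set W)) :
    ∀ k, k ≤ orderOf (a * b) →
      len ({a, b} : Set W) (altp a b k) = k ∧ len ({a, b} : Set W) (altp b a k) = k := by
  have ha : a ∈ ({a, b} : Set W) := Set.mem_insert _ _
  have hb : b ∈ ({a, b} : Set W) := Set.mem_insert_of_mem _ rfl
  have hba : orderOf (b * a) = orderOf (a * b) := orderOf_mul_comm_of_sq (h.sq a ha) (h.sq b hb)
  intro k
  induction k with
  | zero => intro _; exact ⟨len_one _, len_one _⟩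
  | succ k ih =>
    intro hk
    obtain ⟨ih1, ih2⟩ := ih (by omega)
    rcases Nat.eq_zero_or_pos k with rfl | hkpos
    · rw [zero_add, altp_one, altp_one]
      have ha1 : a ≠ 1 := fun e => h1 (e ▸ ha)
      have hb1 : b ≠ 1 := fun e => h1 (e ▸ hb)
      exact ⟨len_simple h ha ha1, len_simple h hb hb1⟩
    · constructor
      · exact len_altp_step h hE ha hb rfl hab hkpos (by omega) ih2
      · exact len_altp_step h hE hb ha (Set.pair_comm b a) hab.symm hkpos (by rw [hba]; omega) ih1

/-- the braid relation in `W` -/
theorem altp_orderOf (ha : a * a = 1) (hb : b * b = 1) :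
    altp a b (orderOf (a * b)) = altp b a (orderOf (a * b)) := by
  rw [altp_eq_iff ha hb, pow_orderOf_eq_one]

/-- no element has length greater than `m` -/
theorem len_le_orderOf (h : InvGen ({a, b} : Set W)) (hE : Exchange ({a, b} : Set W)) (hab : a ≠ b)
    (h1 : (1 : W) ∉ ({a, b} : Set W)) (hm : 0 < orderOf (a * b)) (w : W) :
    len ({a, b} : Set W) w ≤ orderOf (a * b) := by
  have ha : a ∈ ({a, b} : Set W) := Set.mem_insert _ _
  have hb : b ∈ ({a, b} : Set W) := Set.mem_insert_of_mem _ rfl
  have haa := h.sq a ha
  have hbb := h.sq b hb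
  set m := orderOf (a * b) with hm_def
  -- `Q k`: one of the two alternating products of length `k` is reduced
  have hdown : ∀ k, (len ({a, b} : Set W) (altp a b (k + 1)) = k + 1 ∨
      len ({a, b} : Set W) (altp b a (k + 1)) = k + 1) →
      (len ({a, b} : Set W) (altp a b k) = k ∨ len ({a, b} : Set W) (altp b a k) = k) := by
    intro k hk
    rcases hk with hk | hk
    · right
      have h2 := len_simple_mul_le h ha (altp b a k)
      rw [← altp_succ, hk] at h2
      have h3 := len_altp_le (S := ({a, b} : Set W)) hb ha k
      omega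
    · left
      have h2 := len_simple_mul_le h hb (altp a b k)
      rw [← altp_succ, hk] at h2
      have h3 := len_altp_le (S := ({a, b} : Set W)) ha hb k
      omega
  have hnot : ¬ (len ({a, b} : Set W) (altp a b (m + 1)) = m + 1 ∨
      len ({a, b} : Set W) (altp b a (m + 1)) = m + 1) := by
    obtain ⟨j, hj⟩ : ∃ j, m = j + 1 := ⟨m - 1, by omega⟩
    have hbraid : altp a b m = altp b a m := altp_orderOf haa hbb
    rintro (hk | hk)
    · have e : altp a b (m + 1) = altp b a j := by
        rw [altp_succ, ← hbraid, hj, altp_succ, ← mul_assoc, haa, one_mul]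
      rw [e] at hk
      have := len_altp_le (S := ({a, b} : Set W)) hb ha j
      omega
    · have e : altp b a (m + 1) = altp a b j := by
        rw [altp_succ, hbraid, hj, altp_succ, ← mul_assoc, hbb, one_mul]
      rw [e] at hk
      have := len_altp_le (S := ({a, b} : Set W)) ha hb j
      omega
  have hall : ∀ i k, k = m + 1 + i → ¬ (len ({a, b} : Set W) (altp a b k) = k ∨
      len ({a, b} : Set W) (altp b a k) = k) := by
    intro i
    induction i with
    | zero => intro k hk; rw [hk]; exact hnot
    | succ i ih =>
      intro k hk hQ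
      subst hk
      exact ih (m + 1 + i) rfl (hdown _ hQ)
  by_contra hlt
  push Not at hlt
  have hQ : len ({a, b} : Set W) (altp a b (len ({a, b} : Set W) w)) = len ({a, b} : Set W) w ∨
      len ({a, b} : Set W) (altp b a (len ({a, b} : Set W) w)) = len ({a, b} : Set W) w := by
    rcases eq_altp_len h w with e | e
    · left; rw [← e]
    · right; rw [← e]
  exact hall (len ({a, b} : Set W) w - (m + 1)) _ (by omega) hQ

/-- the parametrisation of `W` by `Fin 2 × Fin m` -/
def param (a b : W) (m : ℕ) (p : Fin 2 × Fin m) : W :=
  if p.1 = 0 then altp a b p.2 else altp b a (p.2 + 1)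

theorem param_zero (m : ℕ) (k : Fin m) : param a b m (0, k) = altp a b k := by
  simp [param]

theorem param_one (m : ℕ) (k : Fin m) : param a b m (1, k) = altp b a (k + 1) := by
  simp [param]

theorem len_param (h : InvGen ({a, b} : Set W)) (hE : Exchange ({a, b} : Set W)) (hab : a ≠ b)
    (h1 : (1 : W) ∉ ({a, b} : Set W)) (p : Fin 2 × Fin (orderOf (a * b))) :
    len ({a, b} : Set W) (param a b (orderOf (a * b)) p) = if p.1 = 0 then (p.2 : ℕ) else p.2 + 1 := by
  obtain ⟨i, k⟩ := p
  fin_cases i
  · simp only [Fin.zero_eta, param_zero, if_true]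
    exact (len_altp h hE hab h1 k (le_of_lt k.2)).1
  · have e : ((⟨1, by omega⟩ : Fin 2), k) = ((1 : Fin 2), k) := rfl
    simp only [Fin.mk_one, param_one]
    rw [if_neg (by decide)]
    exact (len_altp h hE hab h1 (k + 1) k.2).2

theorem param_bijective (h : InvGen ({a, b} : Set W)) (hE : Exchange ({a, b} : Set W)) (hab : a ≠ b)
    (h1 : (1 : W) ∉ ({a, b} : Set W)) (hm : 0 < orderOf (a * b)) :
    Function.Bijective (param a b (orderOf (a * b))) := by
  have ha : a ∈ ({a, b} : Set W) := Set.mem_insert _ _
  have hb : b ∈ ({a, b} : Set W) := Set.mem_insert_of_mem _ rfl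
  have haa := h.sq a ha
  have hbb := h.sq b hb
  constructor
  · rintro ⟨i, k⟩ ⟨i', k'⟩ hpp
    have hl := congrArg (len ({a, b} : Set W)) hpp
    rw [len_param h hE hab h1, len_param h hE hab h1] at hl
    have key : ∀ (k k' : Fin (orderOf (a * b))), (k : ℕ) = k' + 1 →
        altp a b k = altp b a (k' + 1) → False := by
      intro k k' hk he
      rw [← hk, altp_eq_iff haa hbb, ← orderOf_dvd_iff_pow_eq_one] at he
      have := Nat.le_of_dvd (by omega) he
      have := k.2
      omega
    fin_cases i <;> fin_cases i'
    · simp only [Fin.zero_eta, if_true] at hl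
      have : k = k' := Fin.ext hl
      rw [this]
    · exfalso
      simp only [Fin.zero_eta, Fin.mk_one, if_true] at hl
      rw [if_neg (by decide)] at hl
      simp only [Fin.zero_eta, Fin.mk_one, param_zero, param_one] at hpp
      exact key k k' hl hpp
    · exfalso
      simp only [Fin.zero_eta, Fin.mk_one, if_true] at hl
      rw [if_neg (by decide)] at hl
      simp only [Fin.zero_eta, Fin.mk_one, param_zero, param_one] at hpp
      exact key k' k hl.symm hpp.symm
    · simp only [Fin.mk_one] at hl
      rw [if_neg (by decide), if_neg (by decide)] at hl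
      have : k = k' := Fin.ext (by omega)
      rw [this]
  · intro w
    have hle := len_le_orderOf h hE hab h1 hm w
    rcases eq_altp_len h w with e | e
    · rcases Nat.lt_or_ge (len ({a, b} : Set W) w) (orderOf (a * b)) with hlt | hge
      · refine ⟨(0, ⟨_, hlt⟩), ?_⟩
        rw [param_zero]
        exact e.symm
      · have heq : len ({a, b} : Set W) w = orderOf (a * b) := le_antisymm hle hge
        refine ⟨(1, ⟨orderOf (a * b) - 1, by omega⟩), ?_⟩
        rw [param_one]
        simp only
        have e2 : orderOf (a * b) - 1 + 1 = orderOf (a * b) := by omega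
        rw [e2, ← altp_orderOf haa hbb, ← heq]
        exact e.symm
    · rcases Nat.eq_zero_or_pos (len ({a, b} : Set W) w) with h0 | hpos
      · refine ⟨(0, ⟨0, hm⟩), ?_⟩
        rw [param_zero]
        simp only [altp_zero]
        rw [h0] at e
        exact e.symm
      · refine ⟨(1, ⟨len ({a, b} : Set W) w - 1, by omega⟩), ?_⟩
        rw [param_one]
        simp only
        have e2 : len ({a, b} : Set W) w - 1 + 1 = len ({a, b} : Set W) w := by omega
        rw [e2]
        exact e.symm

theorem card_eq_two_mul (h : InvGen ({a, b} : Set W)) (hE : Exchange ({a, b} : Set W)) (hab : a ≠ b)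
    (h1 : (1 : W) ∉ ({a, b} : Set W)) (hm : 0 < orderOf (a * b)) :
    Nat.card W = 2 * orderOf (a * b) := by
  rw [← Nat.card_eq_of_bijective _ (param_bijective h hE hab h1 hm), Nat.card_prod, Nat.card_fin,
    Nat.card_fin]

theorem two_le_orderOf [Finite W] (ha : a * a = 1) (hb : b * b = 1) (hab : a ≠ b) :
    2 ≤ orderOf (a * b) := by
  have hpos : 0 < orderOf (a * b) := orderOf_pos _
  have hne : orderOf (a * b) ≠ 1 := by
    rw [Ne, orderOf_eq_one_iff]
    intro h3
    have : a = b⁻¹ := eq_inv_of_mul_eq_one_left h3
    rw [this, inv_eq_of_sq hb] at hab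
    exact hab rfl
  omega

end Dihedral

end Cfsg.Agent.Lib.Helper6_Hecke
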