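/-
Rank-two (B, N)-pairs: the Weyl group is dihedral of order `2 m`, and the two orbital matrices
`A₁`, `A₂` on the chambers satisfy the quadratic and braid relations, with the `2 m` alternating
products forming a partition of the all-ones matrix into 0/1 matrices.  This is the input for the
Feit–Higman theorem.
-/
import Cfsg.Agent.Lib.Helper6_Hecke1
import Cfsg.Agent.Lib.Helper6_Hecke2

set_option autoImplicit false
set_option linter.unusedSectionVars false
set_option linter.unusedVariables false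

namespace Cfsg.Agent.Lib.Helper6_Hecke

open Cfsg DoubleCoset Cfsg.Agent.Lib.Helper6_Word Cfsg.Agent.Lib.Helper6_BNPair
  Cfsg.Agent.Lib.Helper6_Coxeter

/-- The rank-two Hecke datum: what the Feit–Higman argument needs. -/
structure RankTwoHecke {X : Type*} [Fintype X] [DecidableEq X] (m q₁ q₂ : ℕ)
    (A₁ A₂ : Matrix X X ℚ) : Prop where
  nonempty : Nonempty X
  two_le_m : 2 ≤ m
  two_le_q₁ : 2 ≤ q₁
  two_le_q₂ : 2 ≤ q₂
  transpose₁ : A₁.transpose = A₁
  transpose₂ : A₂.transpose = A₂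
  sq₁ : A₁ * A₁ = (q₁ : ℚ) • (1 : Matrix X X ℚ) + ((q₁ : ℚ) - 1) • A₁
  sq₂ : A₂ * A₂ = (q₂ : ℚ) • (1 : Matrix X X ℚ) + ((q₂ : ℚ) - 1) • A₂
  mulVec₁ : A₁.mulVec 1 = fun _ => (q₁ : ℚ)
  mulVec₂ : A₂.mulVec 1 = fun _ => (q₂ : ℚ)
  braid : altp A₁ A₂ m = altp A₂ A₁ m
  zero_one₁ : ∀ k ≤ m, ∀ x y, altp A₁ A₂ k x y = 0 ∨ altp A₁ A₂ k x y = 1
  zero_one₂ : ∀ k ≤ m, ∀ x y, altp A₂ A₁ k x y = 0 ∨ altp A₂ A₁ k x y = 1
  trace₁ : ∀ k, 1 ≤ k → k ≤ m → Matrix.trace (altp A₁ A₂ k) = 0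
  trace₂ : ∀ k, 1 ≤ k → k ≤ m → Matrix.trace (altp A₂ A₁ k) = 0
  sum_eq : ∑ k ∈ Finset.range m, altp A₁ A₂ k + ∑ k ∈ Finset.range m, altp A₂ A₁ (k + 1) =
    Matrix.of fun _ _ => (1 : ℚ)

theorem map_altp {M M' : Type*} [Monoid M] [Monoid M'] (f : M →* M') (x y : M) (k : ℕ) :
    f (altp x y k) = altp (f x) (f y) k := by
  induction k generalizing x y with
  | zero => simp [altp]
  | succ k ih => simp only [altp, map_mul, ih]

variable {G : Type*} [Group G] (P : BNPair G)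

theorem exists_pair (h2 : P.rank = 2) : ∃ s₁ s₂ : G, s₁ ≠ s₂ ∧ P.S = {s₁, s₂} := by
  unfold BNPair.rank at h2
  rw [Nat.card_coe_set_eq, Set.ncard_eq_two] at h2
  exact h2

section

variable {s₁ s₂ : G}

theorem mem_S₁ (hS : P.S = {s₁, s₂}) : s₁ ∈ P.S := by rw [hS]; exact Set.mem_insert _ _

theorem mem_S₂ (hS : P.S = {s₁, s₂}) : s₂ ∈ P.S := by rw [hS]; exact Set.mem_insert_of_mem _ rfl

/-- the first generator as an element of `N` -/
def σ₁ (hS : P.S = {s₁, s₂}) : P.N := ⟨s₁, P.subset (mem_S₁ P hS)⟩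

/-- the second generator as an element of `N` -/
def σ₂ (hS : P.S = {s₁, s₂}) : P.N := ⟨s₂, P.subset (mem_S₂ P hS)⟩

theorem SW_eq (hS : P.S = {s₁, s₂}) : SW P = {π P (σ₁ P hS), π P (σ₂ P hS)} := by
  ext w
  simp only [SW, SN, Set.mem_image, Set.mem_ofPred_eq, Set.mem_insert_iff, Set.mem_singleton_iff]
  constructor
  · rintro ⟨n, hn, rfl⟩
    rw [hS] at hn
    rcases hn with hn | hn
    · left; congr 1; exact Subtype.ext hn
    · right; congr 1; exact Subtype.ext hn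
  · rintro (rfl | rfl)
    · exact ⟨σ₁ P hS, mem_S₁ P hS, rfl⟩
    · exact ⟨σ₂ P hS, mem_S₂ P hS, rfl⟩

theorem π_σ_ne (hS : P.S = {s₁, s₂}) (hne : s₁ ≠ s₂) : π P (σ₁ P hS) ≠ π P (σ₂ P hS) := by
  intro h
  rw [π_eq_iff] at h
  exact hne (P.inj s₁ (mem_S₁ P hS) s₂ (mem_S₂ P hS) h)

theorem isSimple₁ (hS : P.S = {s₁, s₂}) : IsSimple P (σ₁ P hS) := isSimple_of_mem P (mem_S₁ P hS)

theorem isSimple₂ (hS : P.S = {s₁, s₂}) : IsSimple P (σ₂ P hS) := isSimple_of_mem P (mem_S₂ P hS)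

end

section Main

variable [Finite G]

attribute [local instance] Classical.propDecidable
attribute [local instance] fintypeX

/-- the orbital matrix attached to an element of the Weyl group -/
noncomputable def AW (w : W P) : Matrix (G ⧸ P.B) (G ⧸ P.B) ℚ :=
  A P ((Classical.choose (π_surjective P w) : P.N) : G)

theorem AW_π (n : P.N) : AW P (π P n) = A P (n : G) := by
  unfold AW
  exact A_congr P (C_congr P (Classical.choose_spec (π_surjective P (π P n))))

theorem AW_one : AW P 1 = 1 := by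
  have h := AW_π P 1
  rw [map_one] at h
  rw [h]
  exact A_of_mem_B P (by simp)

theorem AW_apply_eq_zero_or_one (w : W P) (x y : G ⧸ P.B) : AW P w x y = 0 ∨ AW P w x y = 1 :=
  A_apply_eq_zero_or_one P _ x y

theorem trace_AW {w : W P} (hw : w ≠ 1) : Matrix.trace (AW P w) = 0 := by
  obtain ⟨n, rfl⟩ := π_surjective P w
  rw [AW_π, trace_A, if_neg]
  intro h
  exact hw ((π_eq_one_iff P).2 h)

/-- the (noncomputable) `Fintype` structure on the Weyl group -/
@[reducible] noncomputable def fintypeW : Fintype (W P) := Fintype.ofFinite _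

attribute [local instance] fintypeW

theorem sum_AW : ∑ w : W P, AW P w = Matrix.of fun _ _ => (1 : ℚ) := by
  ext x y
  rw [Matrix.sum_apply, Matrix.of_apply]
  obtain ⟨n, hn⟩ := exists_rel P x y
  rw [Finset.sum_eq_single (π P n)]
  · rw [AW_π, A_apply, if_pos hn]
  · intro w _ hw
    obtain ⟨n', rfl⟩ := π_surjective P w
    rw [AW_π, A_apply, if_neg]
    intro h'
    exact hw (rel_unique P h' hn)
  · intro h; exact absurd (Finset.mem_univ _) h

variable {s₁ s₂ : G}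

theorem AW_altp (hS : P.S = {s₁, s₂}) (hne : s₁ ≠ s₂) :
    ∀ k, k ≤ orderOf (π P (σ₁ P hS) * π P (σ₂ P hS)) →
      AW P (altp (π P (σ₁ P hS)) (π P (σ₂ P hS)) k) = altp (A P s₁) (A P s₂) k ∧
      AW P (altp (π P (σ₂ P hS)) (π P (σ₁ P hS)) k) = altp (A P s₂) (A P s₁) k := by
  have hSW := SW_eq P hS
  have hIG : InvGen ({π P (σ₁ P hS), π P (σ₂ P hS)} : Set (W P)) := hSW ▸ invGen P
  have hE : Exchange ({π P (σ₁ P hS), π P (σ₂ P hS)} : Set (W P)) := hSW ▸ exchange P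
  have h1 : (1 : W P) ∉ ({π P (σ₁ P hS), π P (σ₂ P hS)} : Set (W P)) := hSW ▸ one_not_mem_SW P
  have hab := π_σ_ne P hS hne
  intro k
  induction k with
  | zero => intro _; exact ⟨AW_one P, AW_one P⟩
  | succ k ih =>
    intro hk
    obtain ⟨ih1, ih2⟩ := ih (by omega)
    have hlenk := len_altp hIG hE hab h1 k (by omega)
    have hlenk1 := len_altp hIG hE hab h1 (k + 1) hk
    constructor
    · have e : altp (π P (σ₁ P hS)) (π P (σ₂ P hS)) (k + 1) =
          π P (σ₁ P hS * altp (σ₂ P hS) (σ₁ P hS) k) := by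
        rw [map_mul, map_altp, altp_succ]
      have hle : ℓ P (altp (σ₂ P hS) (σ₁ P hS) k) ≤ ℓ P (σ₁ P hS * altp (σ₂ P hS) (σ₁ P hS) k) := by
        unfold ℓ
        rw [← e, map_altp, hSW, hlenk.2, hlenk1.1]
        omega
      rw [e, AW_π, Subgroup.coe_mul, ← A_simple_mul P (isSimple₁ P hS) hle, ← AW_π P (altp _ _ k),
        map_altp, ih2]
      rfl
    · have e : altp (π P (σ₂ P hS)) (π P (σ₁ P hS)) (k + 1) =
          π P (σ₂ P hS * altp (σ₁ P hS) (σ₂ P hS) k) := by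
        rw [map_mul, map_altp, altp_succ]
      have hle : ℓ P (altp (σ₁ P hS) (σ₂ P hS) k) ≤ ℓ P (σ₂ P hS * altp (σ₁ P hS) (σ₂ P hS) k) := by
        unfold ℓ
        rw [← e, map_altp, hSW, hlenk.1, hlenk1.2]
        omega
      rw [e, AW_π, Subgroup.coe_mul, ← A_simple_mul P (isSimple₂ P hS) hle, ← AW_π P (altp _ _ k),
        map_altp, ih1]
      rfl

theorem rankTwoHecke_of_pair (hS : P.S = {s₁, s₂}) (hne : s₁ ≠ s₂) :
    ((P.B ⊓ P.N).subgroupOf P.N).index = 2 * orderOf (π P (σ₁ P hS) * π P (σ₂ P hS)) ∧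
    RankTwoHecke (orderOf (π P (σ₁ P hS) * π P (σ₂ P hS))) (q P s₁) (q P s₂) (A P s₁) (A P s₂) := by
  have hSW := SW_eq P hS
  have hIG : InvGen ({π P (σ₁ P hS), π P (σ₂ P hS)} : Set (W P)) := hSW ▸ invGen P
  have hE : Exchange ({π P (σ₁ P hS), π P (σ₂ P hS)} : Set (W P)) := hSW ▸ exchange P
  have h1 : (1 : W P) ∉ ({π P (σ₁ P hS), π P (σ₂ P hS)} : Set (W P)) := hSW ▸ one_not_mem_SW P
  have hab := π_σ_ne P hS hne
  have haa : π P (σ₁ P hS) * π P (σ₁ P hS) = 1 := (isSimple₁ P hS).sq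
  have hbb : π P (σ₂ P hS) * π P (σ₂ P hS) = 1 := (isSimple₂ P hS).sq
  have hm2 : 2 ≤ orderOf (π P (σ₁ P hS) * π P (σ₂ P hS)) := two_le_orderOf haa hbb hab
  have hm0 : 0 < orderOf (π P (σ₁ P hS) * π P (σ₂ P hS)) := by omega
  have hs₁ := mem_S₁ P hS
  have hs₂ := mem_S₂ P hS
  have hAW := AW_altp P hS hne
  set m := orderOf (π P (σ₁ P hS) * π P (σ₂ P hS)) with hm_def
  have hne1 : ∀ k, 1 ≤ k → k ≤ m → altp (π P (σ₁ P hS)) (π P (σ₂ P hS)) k ≠ 1 ∧
      altp (π P (σ₂ P hS)) (π P (σ₁ P hS)) k ≠ 1 := by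
    intro k hk1 hkm
    have hl := len_altp hIG hE hab h1 k hkm
    constructor
    · intro h
      rw [h, len_one] at hl
      omega
    · intro h
      rw [h, len_one] at hl
      omega
  refine ⟨?_, ?_⟩
  · show (T P).index = _
    rw [Subgroup.index_eq_card]
    exact card_eq_two_mul hIG hE hab h1 hm0
  · refine
      { nonempty := ⟨((1 : G) : G ⧸ P.B)⟩
        two_le_m := hm2
        two_le_q₁ := two_le_q P hs₁
        two_le_q₂ := two_le_q P hs₂
        transpose₁ := A_transpose_of_mem_S P hs₁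
        transpose₂ := A_transpose_of_mem_S P hs₂
        sq₁ := A_sq P hs₁
        sq₂ := A_sq P hs₂
        mulVec₁ := A_mulVec_one P s₁
        mulVec₂ := A_mulVec_one P s₂
        braid := ?_
        zero_one₁ := ?_
        zero_one₂ := ?_
        trace₁ := ?_
        trace₂ := ?_
        sum_eq := ?_ }
    · rw [← (hAW m le_rfl).1, ← (hAW m le_rfl).2, altp_orderOf haa hbb]
    · intro k hk x y
      rw [← (hAW k hk).1]
      exact AW_apply_eq_zero_or_one P _ x y
    · intro k hk x y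
      rw [← (hAW k hk).2]
      exact AW_apply_eq_zero_or_one P _ x y
    · intro k hk1 hkm
      rw [← (hAW k hkm).1]
      exact trace_AW P (hne1 k hk1 hkm).1
    · intro k hk1 hkm
      rw [← (hAW k hkm).2]
      exact trace_AW P (hne1 k hk1 hkm).2
    · rw [← sum_AW P, ← (param_bijective hIG hE hab h1 hm0).sum_comp, Fintype.sum_prod_type,
        Fin.sum_univ_two]
      congr 1
      · rw [← Fin.sum_univ_eq_sum_range (fun k => altp (A P s₁) (A P s₂) k) m]
        refine Finset.sum_congr rfl fun k _ => ?_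
        rw [param_zero, (hAW k (le_of_lt k.2)).1]
      · rw [← Fin.sum_univ_eq_sum_range (fun k => altp (A P s₂) (A P s₁) (k + 1)) m]
        refine Finset.sum_congr rfl fun k _ => ?_
        rw [param_one, (hAW (k + 1) k.2).2]

end Main

/-- **Rank-two Hecke datum of a (B, N)-pair of rank two.**  The index of `B ∩ N` in `N` is `2 m`, and
there are two symmetric 0/1 matrices `A₁`, `A₂` (indexed by the chambers) satisfying the quadratic and
braid relations of the dihedral Hecke algebra with parameters `q₁, q₂ ≥ 2`, whose `2 m` alternating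
products are 0/1 matrices adding up to the all-ones matrix. -/
theorem exists_rankTwoHecke.{u} {G : Type u} [Group G] [Finite G] (P : BNPair G) (h2 : P.rank = 2) :
    ∃ (X : Type u) (_ : Fintype X) (_ : DecidableEq X) (m q₁ q₂ : ℕ) (A₁ A₂ : Matrix X X ℚ),
      ((P.B ⊓ P.N).subgroupOf P.N).index = 2 * m ∧ RankTwoHecke m q₁ q₂ A₁ A₂ := by
  obtain ⟨s₁, s₂, hne, hS⟩ := exists_pair P h2
  obtain ⟨h1, h3⟩ := rankTwoHecke_of_pair P hS hne
  exact ⟨G ⧸ P.B, fintypeX P, _, _, _, _, _, _, h1, h3⟩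

end Cfsg.Agent.Lib.Helper6_Hecke
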