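/-
Chevalley groups of type G₂, B₂, D₄, F₄, E₆, E₇, E₈ over a finite field: the length in the Weyl group of the
(B, N)-pair is the number of positive roots made negative, `|B n B| = |B| q^ℓ(n)`, and the longest element
has length `N`, the number of positive roots.
-/
import Mathlib
import Cfsg.Agent.Lib.Helper18_ChevSylow
import Cfsg.Agent.Lib.Helper6_BNPairC
import Cfsg.Agent.Lib.Helper81_CoxComb

set_option autoImplicit false
set_option linter.unusedSectionVars false
set_option linter.unusedVariables false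

namespace Cfsg.Agent.Lib.Helper81_ChevLen

open Cfsg Cfsg.Lie Cfsg.Agent.Lib.Helper18_ChevFast Cfsg.Agent.Lib.Helper18_ChevEngine
  Cfsg.Agent.Lib.Helper18_ChevR1 Cfsg.Agent.Lib.Helper18_ChevN Cfsg.Agent.Lib.Helper18_ChevR4
  Cfsg.Agent.Lib.Helper18_ChevSimple Cfsg.Agent.Lib.Helper18_ChevSimple2 Cfsg.Agent.Lib.Helper18_ChevFacts
  Cfsg.Agent.Lib.Helper18_ChevWeyl Cfsg.Agent.Lib.Helper18_ChevDiag Cfsg.Agent.Lib.Helper18_ChevCar
  Cfsg.Agent.Lib.Helper18_ChevTorus Cfsg.Agent.Lib.Helper18_ChevGL Cfsg.Agent.Lib.Helper18_ChevComm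
  Cfsg.Agent.Lib.Helper18_ChevComm2 Cfsg.Agent.Lib.Helper18_MatTri Cfsg.Agent.Lib.Helper18_ChevTri
  Cfsg.Agent.Lib.Helper18_ChevBorel Cfsg.Agent.Lib.Helper18_ChevAdd Cfsg.Agent.Lib.Helper18_ChevUni
  Cfsg.Agent.Lib.Helper18_ChevBN Cfsg.Agent.Lib.Helper18_ChevMono Cfsg.Agent.Lib.Helper18_ChevBNPair
  Cfsg.Agent.Lib.Helper18_ChevSimp Cfsg.Agent.Lib.Helper18_ChevJCerts Cfsg.Agent.Lib.Helper18_ChevLevi
  Cfsg.Agent.Lib.Helper18_ChevBruhat Cfsg.Agent.Lib.Helper18_ChevPar Cfsg.Agent.Lib.Helper18_ChevRootHom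
  Cfsg.Agent.Lib.Helper18_ChevOrder Cfsg.Agent.Lib.Helper18_ChevSylow

variable {D : ChevalleyDatum} {Ns : List NData} {F : Type*} [Field F]
variable {wl : List ℤ} {ws : List (List ℤ)} {sc : ℤ} {w : List ℤ} {d : ℕ}

/-! ### Counting the positive roots made negative -/

theorem weylLen_eq_invCount (σ : Equiv.Perm (Fin D.nroots)) (π : ℕ → ℕ)
    (h : ∀ r : Fin D.nroots, ((σ r : Fin D.nroots) : ℕ) = π r) : weylLen D σ = invCount D π := by
  unfold weylLen invCount
  rw [← Finset.card_map Fin.valEmbedding]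
  congr 1
  ext r
  rw [Finset.mem_map, Finset.mem_filter, Finset.mem_range]
  constructor
  · rintro ⟨r', hr', rfl⟩
    rw [Finset.mem_filter] at hr'
    obtain ⟨-, hp, hn⟩ := hr'
    rw [h] at hn
    exact ⟨r'.2, hp, hn⟩
  · rintro ⟨hr, hp, hn⟩
    refine ⟨⟨r, hr⟩, ?_, rfl⟩
    rw [Finset.mem_filter]
    refine ⟨Finset.mem_univ _, hp, ?_⟩
    rw [h]
    exact hn

theorem invCount_congr {π π' : ℕ → ℕ} (h : ∀ r < D.nroots, π r = π' r) :
    invCount D π = invCount D π' := by
  unfold invCount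
  congr 1
  apply Finset.filter_congr
  intro r hr
  rw [Finset.mem_range] at hr
  rw [h r hr]

theorem invCount_le_succ (c : DCert D Ns) (ac : ACert D wl ws sc) (π : ℕ → ℕ) (i : ℕ)
    (hi : i < D.rank) : invCount D π ≤ invCount D (π ∘ D.reflectRoot i) + 1 := by
  unfold invCount
  set A' := (Finset.range D.nroots).filter fun r => D.IsPosRoot r ∧ D.IsNegRoot ((π ∘ D.reflectRoot i) r) with hA'
  set A := (Finset.range D.nroots).filter fun r => D.IsPosRoot r ∧ D.IsNegRoot (π r) with hA
  have hinj : Set.InjOn (D.reflectRoot i) ((A.erase (D.simple i) : Finset ℕ) : Set ℕ) := by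
    intro r1 h1 r2 h2 e
    rw [Finset.mem_coe, Finset.mem_erase, hA, Finset.mem_filter, Finset.mem_range] at h1 h2
    rw [← c.reflect_reflect i hi r1 h1.2.1, ← c.reflect_reflect i hi r2 h2.2.1, e]
  have hsub : (A.erase (D.simple i)).image (D.reflectRoot i) ⊆ A' := by
    intro s hs
    rw [Finset.mem_image] at hs
    obtain ⟨r, hr, rfl⟩ := hs
    rw [Finset.mem_erase, hA, Finset.mem_filter, Finset.mem_range] at hr
    obtain ⟨hne, hr1, hr2, hr3⟩ := hr
    obtain ⟨h1, h2⟩ := reflect_pos_of_ne c ac i hi r hr2 hne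
    rw [hA', Finset.mem_filter, Finset.mem_range]
    refine ⟨h1.1, h1, ?_⟩
    show D.IsNegRoot (π (D.reflectRoot i (D.reflectRoot i r)))
    rw [c.reflect_reflect i hi r hr1]
    exact hr3
  have h1 : A.card - 1 ≤ (A.erase (D.simple i)).card := Finset.pred_card_le_card_erase
  have h2 : (A.erase (D.simple i)).card ≤ A'.card := by
    rw [← Finset.card_image_of_injOn hinj]
    exact Finset.card_le_card hsub
  omega

/-- if `π` makes `p_i` positive then `π ∘ w_i` makes more positive roots negative -/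
theorem invCount_lt' (c : DCert D Ns) (tc : TCert D) (ac : ACert D wl ws sc) {π : ℕ → ℕ}
    (hπ : LinMap D π) (i : ℕ) (hi : i < D.rank) (hpos : D.IsPosRoot (π (D.simple i))) :
    invCount D π < invCount D (π ∘ D.reflectRoot i) := by
  have hlin' : LinMap D (π ∘ D.reflectRoot i) := hπ.comp (linMap_reflect c i hi)
  have hneg : D.IsNegRoot ((π ∘ D.reflectRoot i) (D.simple i)) := by
    show D.IsNegRoot (π (D.reflectRoot i (D.simple i)))
    rw [reflectRoot_simple, hπ.2.1 _ (tc.simple_pos i hi).1]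
    exact neg_isNeg c tc ac _ hpos
  have h1 := invCount_lt c tc ac hlin' i hi hneg
  have h2 : invCount D ((π ∘ D.reflectRoot i) ∘ D.reflectRoot i) = invCount D π := by
    apply invCount_congr
    intro r hr
    show π (D.reflectRoot i (D.reflectRoot i r)) = π r
    rw [c.reflect_reflect i hi r hr]
  omega

/-- a linear map of the roots that makes the fundamental roots negative makes all positive roots negative -/
theorem LinMap.neg_of_simple (c : DCert D Ns) (tc : TCert D) (ac : ACert D wl ws sc) (hdesc : Descent D)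
    {π : ℕ → ℕ} (hπ : LinMap D π) (h : ∀ i < D.rank, D.IsNegRoot (π (D.simple i))) :
    ∀ r, D.IsPosRoot r → D.IsNegRoot (π r) := by
  intro r hr
  rw [ac.neg_iff _ (hπ.1 r hr.1)]
  intro m hm
  obtain ⟨w', hw'⟩ := hπ.2.2 (fun j => (ws.getD m []).getD j 0)
  show grF D (fun j => (ws.getD m []).getD j 0) (π r) ≤ 0
  rw [hw' r hr.1]
  have hnegF : ∀ s, grF D (fun j => - w' j) s = - grF D w' s := by
    intro s
    unfold grF
    rw [← Finset.sum_neg_distrib]
    apply Finset.sum_congr rfl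
    intro j _
    ring
  have h1 := grF_nonneg c tc ac hdesc (fun j => - w' j) (by
    intro j hj
    rw [hnegF]
    have hpj := (tc.simple_pos j hj).1
    rw [← hw' _ hpj]
    have h2 : grF D (fun j => (ws.getD m []).getD j 0) (π (D.simple j)) ≤ 0 :=
      (ac.neg_iff _ (hπ.1 _ hpj)).mp (h j hj) m hm
    linarith) r hr
  rw [hnegF] at h1
  linarith

theorem invCount_eq_of_all_neg (ac : ACert D wl ws sc) {π : ℕ → ℕ}
    (h : ∀ r, D.IsPosRoot r → D.IsNegRoot (π r)) : invCount D π = D.nroots / 2 := by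
  unfold invCount
  rw [← ac.npos, ← List.toFinset_card_of_nodup posRoots_nodup]
  congr 1
  ext r
  rw [Finset.mem_filter, Finset.mem_range, List.mem_toFinset, mem_posRoots]
  exact ⟨fun hh => hh.2.1, fun hh => ⟨hh.1, hh, h r hh⟩⟩

theorem invCount_eq_zero_of_all_pos (ac : ACert D wl ws sc) {π : ℕ → ℕ}
    (h : ∀ r, D.IsPosRoot r → D.IsPosRoot (π r)) : invCount D π = 0 := by
  unfold invCount
  rw [Finset.card_eq_zero, Finset.filter_eq_empty_iff]
  intro r _ hh
  exact ac.not_pos_and_neg _ (h r hh.1) hh.2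

/-! ### The length function on `N` -/

/-- the number of positive roots made negative by an element of `N` -/
noncomputable def lam (c : DCert D Ns) (tc : TCert D) (ac : ACert D wl ws sc)
    (n : ↥(D.monomialSubgroup F)) : ℕ := weylLen D (rootHom c tc ac n)

theorem lam_eq_invCount (c : DCert D Ns) (tc : TCert D) (ac : ACert D wl ws sc)
    (n : ↥(D.monomialSubgroup F)) : lam c tc ac n = invCount D (piOf c tc n) :=
  weylLen_eq_invCount _ _ (fun r => rootHom_apply c tc ac n r)

/-- the `i`-th fundamental reflection as an element of `N` -/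
def sN (c : DCert D Ns) (i : ℕ) (hi : i < D.rank) : ↥(D.monomialSubgroup F) :=
  ⟨nGL c i, nGL_mem_monomial c i hi⟩

theorem invCount_mul_sN (c : DCert D Ns) (tc : TCert D) (ac : ACert D wl ws sc)
    (n : ↥(D.monomialSubgroup F)) (i : ℕ) (hi : i < D.rank) :
    invCount D (piOf c tc (n * sN c i hi)) = invCount D (piOf c tc n ∘ D.reflectRoot i) := by
  apply invCount_congr
  intro r hr
  rw [piOf_mul c tc ac n (sN c i hi) r hr]
  show piOf c tc n (piOf c tc (sN c i hi) r) = piOf c tc n (D.reflectRoot i r)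
  rw [piOf_eq c tc ac (sN c i hi) (actsAs_nGL c i hi) r hr]

theorem lam_le_succ (c : DCert D Ns) (tc : TCert D) (ac : ACert D wl ws sc)
    (n : ↥(D.monomialSubgroup F)) (i : ℕ) (hi : i < D.rank) :
    lam c tc ac n ≤ lam c tc ac (n * sN c i hi) + 1 := by
  rw [lam_eq_invCount, lam_eq_invCount, invCount_mul_sN c tc ac n i hi]
  exact invCount_le_succ c ac _ i hi

theorem lam_lt_of_neg (c : DCert D Ns) (tc : TCert D) (ac : ACert D wl ws sc)
    (n : ↥(D.monomialSubgroup F)) (i : ℕ) (hi : i < D.rank)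
    (hneg : D.IsNegRoot (piOf c tc n (D.simple i))) :
    lam c tc ac (n * sN c i hi) < lam c tc ac n := by
  rw [lam_eq_invCount, lam_eq_invCount, invCount_mul_sN c tc ac n i hi]
  exact invCount_lt c tc ac (piOf_linMap c tc n) i hi hneg

theorem lam_lt_of_pos (c : DCert D Ns) (tc : TCert D) (ac : ACert D wl ws sc)
    (n : ↥(D.monomialSubgroup F)) (i : ℕ) (hi : i < D.rank)
    (hpos : D.IsPosRoot (piOf c tc n (D.simple i))) :
    lam c tc ac n < lam c tc ac (n * sN c i hi) := by
  rw [lam_eq_invCount, lam_eq_invCount, invCount_mul_sN c tc ac n i hi]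
  exact invCount_lt' c tc ac (piOf_linMap c tc n) i hi hpos

theorem exists_neg_simple (c : DCert D Ns) (tc : TCert D) (ac : ACert D wl ws sc) (hdesc : Descent D)
    (n : ↥(D.monomialSubgroup F)) (h : 0 < lam c tc ac n) :
    ∃ i < D.rank, D.IsNegRoot (piOf c tc n (D.simple i)) := by
  by_contra hcon
  push Not at hcon
  have hlin := piOf_linMap c tc n
  have hall : ∀ i < D.rank, D.IsPosRoot (piOf c tc n (D.simple i)) := by
    intro i hi
    rcases ac.posOrNeg _ (hlin.1 _ (tc.simple_pos i hi).1) with hp | hn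
    · exact hp
    · exact absurd hn (hcon i hi)
  have hpos := hlin.pos c tc ac hdesc hall
  rw [lam_eq_invCount, invCount_eq_zero_of_all_pos ac hpos] at h
  exact absurd h (lt_irrefl 0)

end Cfsg.Agent.Lib.Helper81_ChevLen
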