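/-
Chevalley groups of type G₂, B₂, D₄, F₄, E₆, E₇, E₈ over a finite field, continued: the comparison of the
length function of the (B, N)-pair with the number of positive roots made negative, the orders of the double
cosets `B n B`, and the length of the longest element.
-/
import Mathlib
import Cfsg.Agent.Lib.Helper81_ChevLen

set_option autoImplicit false
set_option linter.unusedSectionVars false
set_option linter.unusedVariables false

namespace Cfsg.Agent.Lib.Helper81_ChevLenBN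

open Cfsg Cfsg.Lie Cfsg.Agent.Lib.Helper18_ChevFast Cfsg.Agent.Lib.Helper18_ChevEngine
  Cfsg.Agent.Lib.Helper18_ChevR1 Cfsg.Agent.Lib.Helper18_ChevN Cfsg.Agent.Lib.Helper18_ChevR4
  Cfsg.Agent.Lib.Helper18_ChevSimple Cfsg.Agent.Lib.Helper18_ChevSimple2 Cfsg.Agent.Lib.Helper18_ChevFacts
  Cfsg.Agent.Lib.Helper18_ChevWeyl Cfsg.Agent.Lib.Helper18_ChevDiag Cfsg.Agent.Lib.Helper18_ChevCar
  Cfsg.Agent.Lib.Helper18_ChevTorus Cfsg.Agent.Lib.Helper18_ChevGL Cfsg.Agent.Lib.Helper18_ChevComm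
  Cfsg.Agent.Lib.Helper18_ChevComm2 Cfsg.Agent.Lib.Helper18_MatTri Cfsg.Agent.Lib.Helper18_ChevTri
  Cfsg.Agent.Lib.Helper18_ChevBorel Cfsg.Agent.Lib.Helper18_ChevAdd Cfsg.Agent.Lib.Helper18_ChevUni
  Cfsg.Agent.Lib.Helper18_ChevBN Cfsg.Agent.Lib.Helper18_ChevMono Cfsg.Agent.Lib.Helper18_ChevBNPair
  Cfsg.Agent.Lib.Helper18_ChevSimp Cfsg.Agent.Lib.Helper18_ChevJCerts Cfsg.Agent.Lib.Helper18_ChevLevi
  Cfsg.Agent.Lib.Helper18_ChevBruhat Cfsg.Agent.Lib.Helper18_ChevPar Cfsg.Agent.Lib.Helper18_ChevRootHom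
  Cfsg.Agent.Lib.Helper18_ChevOrder Cfsg.Agent.Lib.Helper18_ChevSylow
  Cfsg.Agent.Lib.Helper6_Word Cfsg.Agent.Lib.Helper6_BNPair Cfsg.Agent.Lib.Helper81_CoxComb
  Cfsg.Agent.Lib.Helper81_ChevLen

variable {D : ChevalleyDatum} {Ns : List NData} {F : Type*} [Field F]
variable {wl : List ℤ} {ws : List (List ℤ)} {sc : ℤ} {w : List ℤ} {d : ℕ}

section bn

variable (P : Cfsg.BNPair ↥(D.group F))
  (hB : P.B = (D.borelSubgroup F).subgroupOf (D.group F))
  (hN : P.N = (D.monomialSubgroup F).subgroupOf (D.group F))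
  (hS : P.S = {n : ↥(D.group F) | ∃ i < D.rank,
        ((n : GL D.Idx F) : Matrix D.Idx D.Idx F) = D.nMat F (D.simple i) 1})

include hN in
theorem mem_monomial_of_mem_N (z : ↥(D.group F)) (hz : z ∈ P.N) :
    (z : GL D.Idx F) ∈ D.monomialSubgroup F := by
  rw [hN, Subgroup.mem_subgroupOf] at hz
  exact hz

/-- `N` of the (B, N)-pair as the monomial subgroup -/
def toN : P.N →* ↥(D.monomialSubgroup F) where
  toFun n := ⟨((n : ↥(D.group F)) : GL D.Idx F), mem_monomial_of_mem_N P hN _ n.2⟩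
  map_one' := rfl
  map_mul' _ _ := rfl

theorem toN_coe (n : P.N) : ((toN P hN n : ↥(D.monomialSubgroup F)) : GL D.Idx F) =
    ((n : ↥(D.group F)) : GL D.Idx F) := rfl

include hB in
theorem mem_B_iff (g : ↥(D.group F)) : g ∈ P.B ↔ (g : GL D.Idx F) ∈ D.borelSubgroup F := by
  rw [hB, Subgroup.mem_subgroupOf]

/-- the `i`-th distinguished generator as an element of `N` -/
def sP (c : DCert D Ns) (i : ℕ) (hi : i < D.rank) : P.N :=
  ⟨⟨nGL c i, nGL_mem_group c i⟩, by
    rw [hN, Subgroup.mem_subgroupOf]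
    exact nGL_mem_monomial c i hi⟩

include hS in
theorem sP_mem_S (c : DCert D Ns) (i : ℕ) (hi : i < D.rank) : ((sP P hN c i hi : P.N) : ↥(D.group F)) ∈ P.S := by
  rw [hS]
  exact ⟨i, hi, nGL_coe c i⟩

theorem toN_sP (c : DCert D Ns) (i : ℕ) (hi : i < D.rank) : toN P hN (sP P hN c i hi) = sN c i hi := rfl

include hS in
theorem exists_eq_sP (c : DCert D Ns) (σ : P.N) (hσ : (σ : ↥(D.group F)) ∈ P.S) :
    ∃ i, ∃ hi : i < D.rank, σ = sP P hN c i hi := by
  rw [hS] at hσ
  obtain ⟨i, hi, h⟩ := hσ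
  refine ⟨i, hi, ?_⟩
  apply Subtype.ext
  apply Subtype.ext
  apply Units.ext
  rw [h]
  exact (nGL_coe c i).symm

/-- the number of positive roots made negative by an element of `N` -/
noncomputable def lamP (c : DCert D Ns) (tc : TCert D) (ac : ACert D wl ws sc) (n : P.N) : ℕ :=
  lam c tc ac (toN P hN n)

include hB in
theorem rootHom_eq_of_π_eq (c : DCert D Ns) (tc : TCert D) (ac : ACert D wl ws sc) (gc : GCert D w d)
    (hR2 : R2All D F) {n m : P.N} (h : π P n = π P m) :
    rootHom c tc ac (toN P hN n) = rootHom c tc ac (toN P hN m) := by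
  have h1 := (π_eq_iff P).1 h
  rw [mem_B_iff P hB] at h1
  have h2 : (toN P hN n)⁻¹ * toN P hN m ∈ (rootHom (F := F) c tc ac).ker := by
    rw [rootHom_ker c tc ac gc hR2, Subgroup.mem_subgroupOf, ← borel_inf_monomial c tc gc]
    refine Subgroup.mem_inf.mpr ⟨?_, ((toN P hN n)⁻¹ * toN P hN m).2⟩
    exact h1
  rw [MonoidHom.mem_ker, map_mul, map_inv, inv_mul_eq_one] at h2
  exact h2

include hB in
theorem lamP_congr (c : DCert D Ns) (tc : TCert D) (ac : ACert D wl ws sc) (gc : GCert D w d)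
    (hR2 : R2All D F) {n m : P.N} (h : π P n = π P m) :
    lamP P hN c tc ac n = lamP P hN c tc ac m := by
  unfold lamP lam
  rw [rootHom_eq_of_π_eq P hB hN c tc ac gc hR2 h]

include hB hS in
theorem ℓ_le_lamP (c : DCert D Ns) (tc : TCert D) (ac : ACert D wl ws sc) (gc : GCert D w d)
    (hdesc : Descent D) (hR2 : R2All D F) :
    ∀ (k : ℕ) (n : P.N), lamP P hN c tc ac n = k → ℓ P n ≤ k := by
  intro k
  induction k using Nat.strong_induction_on with
  | _ k ih =>
    intro n hn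
    rcases Nat.eq_zero_or_pos k with hk | hk
    · subst hk
      have hmem : rootHom c tc ac (toN P hN n) ∈ weylPerm D := by
        rw [← rootHom_range (F := F) c tc ac]
        exact ⟨_, rfl⟩
      have h1 := eq_one_of_weylLen_eq_zero c tc ac gc hR2 _ hmem hn
      have h2 : toN P hN n ∈ (rootHom (F := F) c tc ac).ker := h1
      rw [rootHom_ker c tc ac gc hR2, Subgroup.mem_subgroupOf] at h2
      have h3 : ((n : ↥(D.group F)) : GL D.Idx F) ∈ D.borelSubgroup F :=
        Subgroup.mem_sup_right h2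
      have h4 : (n : ↥(D.group F)) ∈ P.B := (mem_B_iff P hB _).2 h3
      rw [(ℓ_eq_zero_iff P).2 h4]
    · obtain ⟨i, hi, hneg⟩ := exists_neg_simple c tc ac hdesc (toN P hN n) (by
        show 0 < lamP P hN c tc ac n
        omega)
      have hlt := lam_lt_of_neg c tc ac (toN P hN n) i hi hneg
      have e : toN P hN n * sN c i hi = toN P hN (n * sP P hN c i hi) := by
        rw [map_mul, toN_sP]
      rw [e] at hlt
      have h3 : lamP P hN c tc ac (n * sP P hN c i hi) < lamP P hN c tc ac n := hlt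
      have h1 := ih _ (by omega) (n * sP P hN c i hi) rfl
      have h2 := ℓ_le_mul_simple P (isSimple_of_mem P (sP_mem_S P hN hS c i hi)) n
      omega

include hB hS in
theorem lamP_le_ℓ (c : DCert D Ns) (tc : TCert D) (ac : ACert D wl ws sc) (gc : GCert D w d)
    (hR2 : R2All D F) :
    ∀ (k : ℕ) (n : P.N), ℓ P n = k → lamP P hN c tc ac n ≤ k := by
  intro k
  induction k with
  | zero =>
    intro n hn
    rw [ℓ_eq_zero_iff, mem_B_iff P hB] at hn
    have h2 : toN P hN n ∈ (rootHom (F := F) c tc ac).ker := by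
      rw [rootHom_ker c tc ac gc hR2, Subgroup.mem_subgroupOf, ← borel_inf_monomial c tc gc]
      exact Subgroup.mem_inf.mpr ⟨hn, (toN P hN n).2⟩
    have h3 : rootHom c tc ac (toN P hN n) = 1 := h2
    unfold lamP lam
    rw [h3, weylLen_one ac]
  | succ k ih =>
    intro n hn
    obtain ⟨σ, hσ, hk⟩ := exists_mul_simple_of_ℓ_succ P hn
    obtain ⟨i, hi, rfl⟩ := exists_eq_sP P hN hS c σ hσ
    have h1 := ih _ hk
    have h2 := lam_le_succ c tc ac (toN P hN n) i hi
    have e : toN P hN n * sN c i hi = toN P hN (n * sP P hN c i hi) := by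
      rw [map_mul, toN_sP]
    rw [e] at h2
    have h3 : lamP P hN c tc ac n ≤ lamP P hN c tc ac (n * sP P hN c i hi) + 1 := h2
    omega

include hB hS in
/-- the length in the Weyl group of the (B, N)-pair is the number of positive roots made negative -/
theorem lamP_eq_ℓ (c : DCert D Ns) (tc : TCert D) (ac : ACert D wl ws sc) (gc : GCert D w d)
    (hdesc : Descent D) (hR2 : R2All D F) (n : P.N) : lamP P hN c tc ac n = ℓ P n :=
  le_antisymm (lamP_le_ℓ P hB hN hS c tc ac gc hR2 _ n rfl)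
    (ℓ_le_lamP P hB hN hS c tc ac gc hdesc hR2 _ n rfl)

include hB in
/-- `|B n B| = |B| q^(number of positive roots made negative by n)` -/
theorem card_C [Fintype F] (c : DCert D Ns) (tc : TCert D) (ac : ACert D wl ws sc) (gc : GCert D w d)
    (hdesc : Descent D) (hR2 : R2All D F) (n : P.N) :
    Nat.card (C P ((n : P.N) : ↥(D.group F))) =
      Nat.card P.B * Fintype.card F ^ lamP P hN c tc ac n := by
  classical
  have hnN : ((n : ↥(D.group F)) : GL D.Idx F) ∈ D.monomialSubgroup F := (toN P hN n).2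
  have hBG := borel_le_group (F := F) c
  have hUG := posUnipotent_le_group (F := F) c
  have hUB : D.posUnipotent F ≤ D.borelSubgroup F := le_sup_left
  let Φ : ↥(D.borelSubgroup F) ×
      ↥(Subgroup.closure (flipGens D F ((n : ↥(D.group F)) : GL D.Idx F))) →
      C P ((n : P.N) : ↥(D.group F)) := fun p =>
    ⟨⟨p.1 * ((n : ↥(D.group F)) : GL D.Idx F) * p.2,
      Subgroup.mul_mem _ (Subgroup.mul_mem _ (hBG p.1.2) (n : ↥(D.group F)).2)
        (hUG (flipGens_le_pos _ p.2.2))⟩,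
      (mem_C P).2 ⟨⟨p.1, hBG p.1.2⟩, (mem_B_iff P hB _).2 p.1.2,
        ⟨p.2, hUG (flipGens_le_pos _ p.2.2)⟩,
        (mem_B_iff P hB _).2 (hUB (flipGens_le_pos _ p.2.2)), Subtype.ext rfl⟩⟩
  have hΦ : Function.Bijective Φ := by
    constructor
    · rintro ⟨b, u⟩ ⟨b', u'⟩ e
      have e1 : (b : GL D.Idx F) * ((n : ↥(D.group F)) : GL D.Idx F) * u =
          b' * ((n : ↥(D.group F)) : GL D.Idx F) * u' :=
        congrArg (fun x : C P ((n : P.N) : ↥(D.group F)) => ((x : ↥(D.group F)) : GL D.Idx F)) e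
      obtain ⟨hb, hu⟩ := (canonical_unique c tc ac gc hR2 _ _ _ _ _ _ b.2 b'.2 hnN hnN u.2 u'.2 e1).2 rfl
      exact Prod.ext (Subtype.ext hb) (Subtype.ext hu)
    · rintro ⟨g, hg⟩
      obtain ⟨x, hx, y, hy, rfl⟩ := (mem_C P).1 hg
      rw [mem_B_iff P hB] at hx hy
      obtain ⟨u, hu, h, hh, hy'⟩ := exists_mul_of_mem_sup _ _ (diagonal_le_normalizer_pos c tc) hy
      have hu1 : h⁻¹ * u * h ∈ D.posUnipotent F := by
        have := (Subgroup.mem_normalizer_iff.mp
          (Subgroup.inv_mem _ (diagonal_le_normalizer_pos c tc hh)) u).mp hu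
        rwa [inv_inv] at this
      have hnh : ((n : ↥(D.group F)) : GL D.Idx F) * h * ((n : ↥(D.group F)) : GL D.Idx F)⁻¹ ∈
          D.diagonalSubgroup F :=
        (Subgroup.mem_normalizer_iff.mp (monomial_le_normalizer_diagonal c tc hnN) h).mp hh
      obtain ⟨b, hb, u', hu', e2⟩ := mul_pos_decomp c tc ac hdesc hR2 _ _ _
        (piOf_actsAs c tc (toN P hN n)) (piOf_linMap c tc (toN P hN n)) rfl _ hu1
      have hu'' : u' ∈ Subgroup.closure (flipGens D F ((n : ↥(D.group F)) : GL D.Idx F)) :=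
        Subgroup.closure_mono (negGens_subset c _ _ (piOf_actsAs c tc (toN P hN n))) hu'
      refine ⟨(⟨(x : GL D.Idx F) *
          (((n : ↥(D.group F)) : GL D.Idx F) * h * ((n : ↥(D.group F)) : GL D.Idx F)⁻¹) * b,
          Subgroup.mul_mem _ (Subgroup.mul_mem _ hx (Subgroup.mem_sup_right hnh)) (hUB hb)⟩,
          ⟨u', hu''⟩), ?_⟩
      apply Subtype.ext
      apply Subtype.ext
      show (x : GL D.Idx F) *
          (((n : ↥(D.group F)) : GL D.Idx F) * h * ((n : ↥(D.group F)) : GL D.Idx F)⁻¹) * b *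
          ((n : ↥(D.group F)) : GL D.Idx F) * u' =
        (x : GL D.Idx F) * ((n : ↥(D.group F)) : GL D.Idx F) * (y : GL D.Idx F)
      have e3 : (toN P hN n : GL D.Idx F) = ((n : ↥(D.group F)) : GL D.Idx F) := rfl
      rw [e3] at e2
      rw [hy']
      calc (x : GL D.Idx F) *
          (((n : ↥(D.group F)) : GL D.Idx F) * h * ((n : ↥(D.group F)) : GL D.Idx F)⁻¹) * b *
          ((n : ↥(D.group F)) : GL D.Idx F) * u'
          = (x : GL D.Idx F) *
            (((n : ↥(D.group F)) : GL D.Idx F) * h * ((n : ↥(D.group F)) : GL D.Idx F)⁻¹) *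
            (b * ((n : ↥(D.group F)) : GL D.Idx F) * u') := by group
        _ = (x : GL D.Idx F) *
            (((n : ↥(D.group F)) : GL D.Idx F) * h * ((n : ↥(D.group F)) : GL D.Idx F)⁻¹) *
            (((n : ↥(D.group F)) : GL D.Idx F) * (h⁻¹ * u * h)) := by rw [e2]
        _ = (x : GL D.Idx F) * ((n : ↥(D.group F)) : GL D.Idx F) * (u * h) := by group
  have hcardB : Nat.card P.B = Nat.card (D.borelSubgroup F) := by
    rw [hB]
    exact Nat.card_congr (Subgroup.subgroupOfEquivOfLe hBG).toEquiv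
  rw [← Nat.card_congr (Equiv.ofBijective Φ hΦ), Nat.card_prod, hcardB]
  congr 1
  exact card_flipGens c tc ac gc hR2 (toN P hN n)

include hB hN hS in
/-- the longest element of the Weyl group has length `N` -/
theorem len_longest (c : DCert D Ns) (tc : TCert D) (ac : ACert D wl ws sc) (gc : GCert D w d)
    (hdesc : Descent D) (hR2 : R2All D F) {w₀ : W P}
    (hw₀ : ∀ x ∈ SW P, len (SW P) (x * w₀) ≤ len (SW P) w₀) :
    len (SW P) w₀ = D.nroots / 2 := by
  obtain ⟨n₀, rfl⟩ := π_surjective P w₀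
  have hℓ : ∀ m : P.N, len (SW P) (π P m) = lamP P hN c tc ac m := fun m =>
    (lamP_eq_ℓ P hB hN hS c tc ac gc hdesc hR2 m).symm
  have hlin := piOf_linMap c tc (toN P hN n₀)
  have hall : ∀ i < D.rank, D.IsNegRoot (piOf c tc (toN P hN n₀) (D.simple i)) := by
    intro i hi
    rcases ac.posOrNeg _ (hlin.1 _ (tc.simple_pos i hi).1) with hp | hn
    · exfalso
      have h1 := lam_lt_of_pos c tc ac (toN P hN n₀) i hi hp
      have e : toN P hN n₀ * sN c i hi = toN P hN (n₀ * sP P hN c i hi) := by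
        rw [map_mul, toN_sP]
      rw [e] at h1
      have h2 : lamP P hN c tc ac n₀ < lamP P hN c tc ac (n₀ * sP P hN c i hi) := h1
      rw [← hℓ, ← hℓ, map_mul] at h2
      have h3 := full_descent_right (invGen P) (exchange P) hw₀ (π P (sP P hN c i hi))
        ⟨sP P hN c i hi, sP_mem_S P hN hS c i hi, rfl⟩
      omega
    · exact hn
  have hneg := LinMap.neg_of_simple c tc ac hdesc hlin hall
  rw [hℓ]
  show lam c tc ac (toN P hN n₀) = D.nroots / 2
  rw [lam_eq_invCount, invCount_eq_of_all_neg ac hneg]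

end bn

end Cfsg.Agent.Lib.Helper81_ChevLenBN
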