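/-
The Steinberg character of the Chevalley groups of type G₂, B₂, D₄, F₄, E₆, E₇, E₈ as the Steinberg
character of their (B, N)-pair.
-/
import Mathlib
import Cfsg.Prelude.Def_ParabolicCharacters
import Cfsg.Agent.Lib.Helper18_ChevData5
import Cfsg.Agent.Lib.Helper18_ChevBNPair
import Cfsg.Agent.Lib.Helper18_ChevPar
import Cfsg.Agent.Lib.Helper81_BNSteinberg

set_option autoImplicit false
set_option linter.unusedSectionVars false
set_option linter.unusedVariables false

namespace Cfsg.Agent.Lib.Helper81_ChevSt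

open Cfsg Cfsg.Lie Cfsg.Agent.Lib.Helper81_BNSteinberg
  Cfsg.Agent.Lib.Helper18_ChevFast Cfsg.Agent.Lib.Helper18_ChevEngine
  Cfsg.Agent.Lib.Helper18_ChevR1 Cfsg.Agent.Lib.Helper18_ChevN Cfsg.Agent.Lib.Helper18_ChevR4
  Cfsg.Agent.Lib.Helper18_ChevSimple Cfsg.Agent.Lib.Helper18_ChevSimple2 Cfsg.Agent.Lib.Helper18_ChevFacts
  Cfsg.Agent.Lib.Helper18_ChevWeyl Cfsg.Agent.Lib.Helper18_ChevGL Cfsg.Agent.Lib.Helper18_ChevPar

/-- pulling back the closure of a set contained in a subgroup -/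
theorem closure_subgroupOf {G : Type*} [Group G] (H : Subgroup G) (X : Set H) :
    (Subgroup.closure (H.subtype '' X)).subgroupOf H = Subgroup.closure X := by
  rw [← MonoidHom.map_closure]
  exact Subgroup.comap_map_eq_self_of_injective H.subtype_injective _

variable {D : ChevalleyDatum} {Ns : List NData} {F : Type*} [Field F]

/-- the `j`-th distinguished generator `n_{p_j}`, as an element of the Chevalley group -/
def sG (c : DCert D Ns) (j : ℕ) : ↥(D.group F) := ⟨nGL c j, nGL_mem_group c j⟩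

theorem sG_coe (c : DCert D Ns) (j : ℕ) :
    (((sG c j : ↥(D.group F)) : GL D.Idx F) : Matrix D.Idx D.Idx F) = D.nMat F (D.simple j) 1 :=
  nGL_coe c j

theorem sG_image (c : DCert D Ns) (P : Cfsg.BNPair ↥(D.group F))
    (hS : P.S = {n : ↥(D.group F) | ∃ i < D.rank,
        ((n : GL D.Idx F) : Matrix D.Idx D.Idx F) = D.nMat F (D.simple i) 1}) :
    sG c '' ((Finset.range D.rank : Finset ℕ) : Set ℕ) = P.S := by
  rw [hS]
  ext n
  constructor
  · rintro ⟨j, hj, rfl⟩
    exact ⟨j, Finset.mem_range.1 (by exact_mod_cast hj), sG_coe c j⟩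
  · rintro ⟨i, hi, h⟩
    refine ⟨i, by exact_mod_cast Finset.mem_range.2 hi, ?_⟩
    apply Subtype.ext
    apply Units.ext
    rw [h]
    exact sG_coe c i

theorem parabolicIn_eq (c : DCert D Ns) (P : Cfsg.BNPair ↥(D.group F))
    (hB : P.B = (D.borelSubgroup F).subgroupOf (D.group F)) (J : Finset ℕ)
    (hJ : J ⊆ Finset.range D.rank) :
    D.parabolicIn F J = P.parabolic (sG c '' (J : Set ℕ)) := by
  unfold ChevalleyDatum.parabolicIn ChevalleyDatum.parabolicSubgroup BNPair.parabolic
  have hX : {g : GL D.Idx F | ∃ j ∈ (J : Set ℕ), j < D.rank ∧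
      (g : Matrix D.Idx D.Idx F) = D.nMat F (D.simple j) 1} =
      (D.group F).subtype '' (sG c '' (J : Set ℕ)) := by
    ext g
    constructor
    · rintro ⟨j, hj, hjr, hg⟩
      refine ⟨sG c j, ⟨j, hj, rfl⟩, ?_⟩
      apply Units.ext
      rw [hg]
      exact sG_coe c j
    · rintro ⟨_, ⟨j, hj, rfl⟩, rfl⟩
      exact ⟨j, hj, Finset.mem_range.1 (hJ (by exact_mod_cast hj)), sG_coe c j⟩
  have hle : Subgroup.closure ((D.group F).subtype '' (sG c '' (J : Set ℕ))) ≤ D.group F := by
    rw [Subgroup.closure_le]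
    rintro _ ⟨x, -, rfl⟩
    exact x.2
  rw [hX, Subgroup.subgroupOf_sup (borel_le_group c) hle, closure_subgroupOf, hB]

/-- The Steinberg character of the Chevalley group is the Steinberg character of its (B, N)-pair. -/
theorem steinberg_eq (c : DCert D Ns) (P : Cfsg.BNPair ↥(D.group F))
    (hB : P.B = (D.borelSubgroup F).subgroupOf (D.group F)) :
    D.steinbergCharacter F = St P (Finset.range D.rank) (sG c) := by
  funext g
  unfold ChevalleyDatum.steinbergCharacter St
  apply Finset.sum_congr rfl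
  intro J hJ
  rw [parabolicIn_eq c P hB J (Finset.mem_powerset.1 hJ)]

/-- the Steinberg character is irreducible -/
theorem steinberg_irr [Fintype F] (D : ChevalleyDatum)
    (hD : D ∈ [chevG2, chevB2, chevD4, chevF4, chevE6, chevE7, chevE8]) :
    Cfsg.IsIrrCharacter ↥(D.group F) (D.steinbergCharacter F) := by
  classical
  obtain ⟨Ns, w, d, Ts, hT, K, base, stepT, wl, ws, sc, c, tc, gc, pc, ac⟩ :=
    Cfsg.Agent.Lib.Helper18_ChevData5.exists_cert5 D hD
  have hR2 : Cfsg.Agent.Lib.Helper18_ChevUni.R2All D F := Cfsg.Agent.Lib.Helper18_ChevComm2.r2_all c pc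
  obtain ⟨P, hB, hN, hS⟩ := Cfsg.Agent.Lib.Helper18_ChevBNPair.exists_bnPair c tc ac gc hR2
  have : Fintype ↥(D.group F) := Fintype.ofFinite _
  rw [steinberg_eq c P hB]
  exact isIrrCharacter_St P _ _ (sG_image c P hS)

end Cfsg.Agent.Lib.Helper81_ChevSt
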