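/-
The Steinberg character of the Chevalley groups of type G₂, B₂, D₄, F₄, E₆, E₇, E₈ over a finite field with
`q` elements has degree `q^N`, and vanishes at the elements of order divisible by the characteristic.
-/
import Mathlib
import Cfsg.Prelude.Def_ParabolicCharacters
import Cfsg.Agent.Lib.Helper81_ChevSt
import Cfsg.Agent.Lib.Helper81_ChevLenBN
import Cfsg.Agent.Lib.Helper81_BNIndex
import Cfsg.Agent.Lib.Helper81_StPSL

set_option autoImplicit false
set_option linter.unusedSectionVars false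
set_option linter.unusedVariables false

namespace Cfsg.Agent.Lib.Helper81_ChevStDeg

open Cfsg Cfsg.Lie Cfsg.Agent.Lib.Helper81_BNSteinberg Cfsg.Agent.Lib.Helper81_ChevSt
  Cfsg.Agent.Lib.Helper81_ChevLenBN Cfsg.Agent.Lib.Helper81_BNIndex
  Cfsg.Agent.Lib.Helper6_Word Cfsg.Agent.Lib.Helper6_BNPair Cfsg.Agent.Lib.Helper81_CoxComb

/-- the degree of the Steinberg character -/
theorem steinberg_one {F : Type*} [Field F] [Fintype F] (D : ChevalleyDatum)
    (hD : D ∈ [chevG2, chevB2, chevD4, chevF4, chevE6, chevE7, chevE8]) :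
    D.steinbergCharacter F 1 = (Fintype.card F : ℂ) ^ (D.nroots / 2) := by
  classical
  obtain ⟨Ns, w, d, Ts, hT, K, base, stepT, wl, ws, sc, c, tc, gc, pc, ac⟩ :=
    Cfsg.Agent.Lib.Helper18_ChevData5.exists_cert5 D hD
  have hR2 : Cfsg.Agent.Lib.Helper18_ChevUni.R2All D F := Cfsg.Agent.Lib.Helper18_ChevComm2.r2_all c pc
  have hdesc := Cfsg.Agent.Lib.Helper18_ChevJCerts.descent_all D hD
  obtain ⟨P, hB, hN, hS⟩ := Cfsg.Agent.Lib.Helper18_ChevBNPair.exists_bnPair c tc ac gc hR2
  have : Fintype ↥(D.group F) := Fintype.ofFinite _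
  obtain ⟨w₀, hw₀⟩ := exists_full_descent (invGen P)
  have hq : ∀ n : P.N, Nat.card (C P ((n : P.N) : ↥(D.group F))) =
      Nat.card P.B * Fintype.card F ^ ℓ P n := by
    intro n
    rw [card_C P hB hN c tc ac gc hdesc hR2 n, lamP_eq_ℓ P hB hN hS c tc ac gc hdesc hR2 n]
  rw [steinberg_eq c P hB, St_one P _ _ (sG_image c P hS) (Fintype.card F) hq hw₀,
    len_longest P hB hN hS c tc ac gc hdesc hR2 hw₀]

/-- `q^N` is the full power of the characteristic dividing the group order -/
theorem not_dvd_card_div {F : Type*} [Field F] [Fintype F] (p : ℕ) [Fact p.Prime] [CharP F p]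
    (D : ChevalleyDatum) (hD : D ∈ [chevG2, chevB2, chevD4, chevF4, chevE6, chevE7, chevE8]) :
    ¬ p ∣ Nat.card ↥(D.group F) / Fintype.card F ^ (D.nroots / 2) := by
  obtain ⟨Ns, w, d, Ts, hT, K, base, stepT, wl, ws, sc, c, tc, gc, pc, ac⟩ :=
    Cfsg.Agent.Lib.Helper18_ChevData5.exists_cert5 D hD
  have hR2 : Cfsg.Agent.Lib.Helper18_ChevUni.R2All D F := Cfsg.Agent.Lib.Helper18_ChevComm2.r2_all c pc
  have hdesc := Cfsg.Agent.Lib.Helper18_ChevJCerts.descent_all D hD
  obtain ⟨Q, hQ⟩ := Cfsg.Agent.Lib.Helper18_ChevSylow.exists_sylow p c tc ac gc hdesc hR2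
  have hUG := Cfsg.Agent.Lib.Helper18_ChevGL.posUnipotent_le_group (F := F) c
  have hcard : Nat.card (Q : Subgroup ↥(D.group F)) = Fintype.card F ^ (D.nroots / 2) := by
    rw [hQ, Nat.card_congr (Subgroup.subgroupOfEquivOfLe hUG).toEquiv]
    exact Cfsg.Agent.Lib.Helper18_ChevUni.card_posUnipotent c tc ac hR2
  have h1 := (Q : Subgroup ↥(D.group F)).card_mul_index
  have h2 : Nat.card ↥(D.group F) / Fintype.card F ^ (D.nroots / 2) =
      (Q : Subgroup ↥(D.group F)).index := by
    rw [← h1, hcard]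
    exact Nat.mul_div_cancel_left _ (pow_pos Fintype.card_pos _)
  rw [h2]
  exact Q.not_dvd_index

/-- the Steinberg character vanishes at the `p`-singular elements -/
theorem steinberg_vanish {F : Type*} [Field F] [Fintype F] (p : ℕ) [Fact p.Prime] [CharP F p]
    (D : ChevalleyDatum) (hD : D ∈ [chevG2, chevB2, chevD4, chevF4, chevE6, chevE7, chevE8])
    (g : ↥(D.group F)) (hg : p ∣ orderOf g) : D.steinbergCharacter F g = 0 := by
  have hirr := steinberg_irr (F := F) D hD
  have hdeg := steinberg_one (F := F) D hD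
  have hnd := not_dvd_card_div (F := F) p D hD
  have hcd : Cfsg.charDegree (D.steinbergCharacter F) = Fintype.card F ^ (D.nroots / 2) := by
    unfold Cfsg.charDegree
    rw [hdeg]
    have : ((Fintype.card F : ℂ) ^ (D.nroots / 2)).re = ((Fintype.card F ^ (D.nroots / 2) : ℕ) : ℝ) := by
      rw [← Complex.ofReal_natCast, ← Complex.ofReal_pow, Complex.ofReal_re]
      push_cast
      rfl
    rw [this, Nat.floor_natCast]
  exact Cfsg.Agent.Lib.Helper81_StPSL.vanish_of_defect_zero p
    (⟨D.steinbergCharacter F, hirr⟩ : Cfsg.IrrCharacter ↥(D.group F)) (by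
      show ¬ p ∣ Nat.card ↥(D.group F) / Cfsg.charDegree (D.steinbergCharacter F)
      rw [hcd]
      exact hnd) g hg

end Cfsg.Agent.Lib.Helper81_ChevStDeg
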