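/-
S2319 package CHEV: the (B, N)-pair of a Chevalley group of type G₂, B₂, D₄, F₄, E₆, E₇, E₈ over a finite field has
all parameters `|B s B / B|` equal to `|F|`, and its Weyl group `N / (B ⊓ N)` is the Coxeter group of the type.
-/
import Mathlib
import Cfsg.Prelude.Def_ParabolicCharacters
import Cfsg.Prelude.Def_LieTypes
import Cfsg.Prelude.Def_ChevB2
import Cfsg.Agent.Lib.Helper6_Hecke3
import Cfsg.Agent.Lib.Helper81_ChevStDeg
import Cfsg.Agent.Lib.Helper18_ChevCoxAll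

set_option autoImplicit false

namespace Cfsg.Agent.Lib.Helper18_HK_CHEV

open Cfsg Cfsg.Lie Cfsg.Agent.Lib.Helper6_Word Cfsg.Agent.Lib.Helper6_BNPair Cfsg.Agent.Lib.Helper6_Hecke

attribute [local instance] Classical.propDecidable

section general

variable {G : Type*} [Group G] [Finite G] (P : BNPair G)

attribute [local instance] fintypeX

/-- `|B g B| = |B| · |B g B / B|` -/
theorem card_C_eq (g : G) : Nat.card (C P g) = Nat.card P.B * q P g := by
  classical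
  let X := {z : G ⧸ P.B // Rel P g ((1 : G) : G ⧸ P.B) z}
  let f : C P g → X := fun x => ⟨((x : G) : G ⧸ P.B), by
    rw [rel_mk]; simp⟩
  have hfib : ∀ z : X, Nat.card {x : C P g // f x = z} = Nat.card P.B := by
    intro z
    obtain ⟨z, hz⟩ := z
    induction z using QuotientGroup.induction_on with | _ a => ?_
    have ha : a ∈ C P g := by rw [rel_mk] at hz; simpa using hz
    apply Nat.card_congr
    exact
      { toFun := fun x => ⟨a⁻¹ * ((x : C P g) : G), by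
          have h := congrArg Subtype.val x.2
          simp only [f] at h
          exact QuotientGroup.eq.1 h.symm⟩
        invFun := fun b => ⟨⟨a * (b : G), by
            have := mem_C_mul_right P b.2 ha
            exact this⟩, by
          apply Subtype.ext
          simp only [f]
          exact (QuotientGroup.eq.2 (by simp)).symm⟩
        left_inv := fun x => by
          apply Subtype.ext; apply Subtype.ext; simp
        right_inv := fun b => by
          apply Subtype.ext; simp }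
  rw [Nat.card_congr (Equiv.sigmaFiberEquiv f).symm, Nat.card_sigma]
  simp only [hfib, Finset.sum_const, smul_eq_mul]
  rw [mul_comm]
  congr 1
  unfold q
  rw [← Fintype.card_subtype, Finset.card_univ]

end general

/-- the Chevalley instance of the Hecke algebra set-up -/
theorem chev_hk {F : Type*} [Field F] [Fintype F]
    (dw : Cfsg.Lie.ChevalleyDatum × (Σ n : ℕ, CoxeterMatrix (Fin n)))
    (hdw : dw ∈ [(Cfsg.Lie.chevG2, ⟨2, CoxeterMatrix.G₂⟩), (Cfsg.Lie.chevB2, ⟨2, CoxeterMatrix.B 2⟩), (Cfsg.Lie.chevD4, ⟨4, Cfsg.Lie.coxeterD4⟩), (Cfsg.Lie.chevF4, ⟨4, CoxeterMatrix.F₄⟩),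
      (Cfsg.Lie.chevE6, ⟨6, CoxeterMatrix.E₆⟩), (Cfsg.Lie.chevE7, ⟨7, CoxeterMatrix.E₇⟩), (Cfsg.Lie.chevE8, ⟨8, CoxeterMatrix.E₈⟩)]) :
    ∃ P : Cfsg.BNPair ↥(dw.1.group F),
      P.B = (dw.1.borelSubgroup F).subgroupOf (dw.1.group F) ∧
      (∀ s ∈ P.S, Cfsg.Agent.Lib.Helper6_Hecke.q P s = Fintype.card F) ∧
      Nonempty (Cfsg.Agent.Lib.Helper6_BNPair.W P ≃* dw.2.2.Group) := by
  classical
  obtain ⟨D, n, M⟩ := dw
  have hD : D ∈ [chevG2, chevB2, chevD4, chevF4, chevE6, chevE7, chevE8] := by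
    simp only [List.mem_cons, List.not_mem_nil, or_false, Prod.mk.injEq] at hdw ⊢
    rcases hdw with h | h | h | h | h | h | h <;> simp [h.1]
  have hom : Cfsg.Agent.Lib.Helper18_ChevCoxAll.HomOK F D n M := by
    simp only [List.mem_cons, List.not_mem_nil, or_false, Prod.mk.injEq] at hdw
    rcases hdw with ⟨rfl, h⟩ | ⟨rfl, h⟩ | ⟨rfl, h⟩ | ⟨rfl, h⟩ | ⟨rfl, h⟩ | ⟨rfl, h⟩ | ⟨rfl, h⟩
    · obtain ⟨rfl, h⟩ := Sigma.mk.inj_iff.1 h; rw [eq_of_heq h]
      exact Cfsg.Agent.Lib.Helper18_ChevCoxAll.homOK_G2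
    · obtain ⟨rfl, h⟩ := Sigma.mk.inj_iff.1 h; rw [eq_of_heq h]
      exact Cfsg.Agent.Lib.Helper18_ChevCoxAll.homOK_B2
    · obtain ⟨rfl, h⟩ := Sigma.mk.inj_iff.1 h; rw [eq_of_heq h]
      exact Cfsg.Agent.Lib.Helper18_ChevCoxAll.homOK_D4
    · obtain ⟨rfl, h⟩ := Sigma.mk.inj_iff.1 h; rw [eq_of_heq h]
      exact Cfsg.Agent.Lib.Helper18_ChevCoxAll.homOK_F4
    · obtain ⟨rfl, h⟩ := Sigma.mk.inj_iff.1 h; rw [eq_of_heq h]
      exact Cfsg.Agent.Lib.Helper18_ChevCoxAll.homOK_E6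
    · obtain ⟨rfl, h⟩ := Sigma.mk.inj_iff.1 h; rw [eq_of_heq h]
      exact Cfsg.Agent.Lib.Helper18_ChevCoxAll.homOK_E7
    · obtain ⟨rfl, h⟩ := Sigma.mk.inj_iff.1 h; rw [eq_of_heq h]
      exact Cfsg.Agent.Lib.Helper18_ChevCoxAll.homOK_E8
  obtain ⟨Ns, w, d, Ts, hT, K, base, stepT, wl, ws, sc, c, tc, gc, pc, ac⟩ :=
    Cfsg.Agent.Lib.Helper18_ChevData5.exists_cert5 D hD
  have hR2 : Cfsg.Agent.Lib.Helper18_ChevUni.R2All D F := Cfsg.Agent.Lib.Helper18_ChevComm2.r2_all c pc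
  have hdesc := Cfsg.Agent.Lib.Helper18_ChevJCerts.descent_all D hD
  obtain ⟨P, hB, hN, hS⟩ := Cfsg.Agent.Lib.Helper18_ChevBNPair.exists_bnPair c tc ac gc hR2
  have hq : ∀ n : P.N, Nat.card (C P ((n : P.N) : ↥(D.group F))) =
      Nat.card P.B * Fintype.card F ^ ℓ P n := by
    intro n
    rw [Cfsg.Agent.Lib.Helper81_ChevLenBN.card_C P hB hN c tc ac gc hdesc hR2 n,
      Cfsg.Agent.Lib.Helper81_ChevLenBN.lamP_eq_ℓ P hB hN hS c tc ac gc hdesc hR2 n]
  refine ⟨P, hB, ?_, ?_⟩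
  · intro s hs
    have h1 := hq ⟨s, P.subset hs⟩
    have hπ : π P ⟨s, P.subset hs⟩ ∈ SW P := ⟨⟨s, P.subset hs⟩, hs, rfl⟩
    have hne : π P ⟨s, P.subset hs⟩ ≠ 1 := fun h => one_not_mem_SW P (h ▸ hπ)
    have hl : ℓ P ⟨s, P.subset hs⟩ = 1 := len_simple (invGen P) hπ hne
    rw [hl, pow_one, card_C_eq] at h1
    exact Nat.eq_of_mul_eq_mul_left Nat.card_pos h1
  · obtain ⟨φ, hsurj, hker, -⟩ := hom
    have hMG := Cfsg.Agent.Lib.Helper18_ChevGL.monomial_le_group (F := F) c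
    -- the homomorphism `N → W`
    have hNmem : ∀ x : ↥(D.group F), x ∈ P.N → (x : GL D.Idx F) ∈ D.monomialSubgroup F := by
      intro x hx
      rw [hN, Subgroup.mem_subgroupOf] at hx
      exact hx
    have hBmem : ∀ x : ↥(D.group F), x ∈ P.B ↔ (x : GL D.Idx F) ∈ D.borelSubgroup F := by
      intro x
      rw [hB, Subgroup.mem_subgroupOf]
    let ι : P.N →* ↥(D.monomialSubgroup F) :=
      { toFun := fun n => ⟨((n : ↥(D.group F)) : GL D.Idx F), hNmem _ n.2⟩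
        map_one' := rfl
        map_mul' := fun _ _ => rfl }
    let ψ : P.N →* M.Group := φ.comp ι
    have hψsurj : Function.Surjective ψ := by
      intro x
      obtain ⟨m, rfl⟩ := hsurj x
      have hm : (⟨(m : GL D.Idx F), hMG m.2⟩ : ↥(D.group F)) ∈ P.N := by
        rw [hN, Subgroup.mem_subgroupOf]; exact m.2
      exact ⟨⟨⟨(m : GL D.Idx F), hMG m.2⟩, hm⟩, rfl⟩
    have hψker : ψ.ker = T P := by
      ext n
      rw [MonoidHom.mem_ker, mem_T]
      have h1 : φ (ι n) = 1 ↔ ((ι n : ↥(D.monomialSubgroup F)) : GL D.Idx F) ∈ D.diagonalSubgroup F := by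
        rw [← MonoidHom.mem_ker, hker, Subgroup.mem_subgroupOf]
      have h2 : ((n : P.N) : ↥(D.group F)) ∈ P.B ↔
          (((n : P.N) : ↥(D.group F)) : GL D.Idx F) ∈ D.borelSubgroup F := hBmem _
      show φ (ι n) = 1 ↔ _
      rw [h1, h2, ← Cfsg.Agent.Lib.Helper18_ChevMono.borel_inf_monomial c tc gc, Subgroup.mem_inf]
      constructor
      · exact fun h => h.1
      · exact fun h => ⟨h, (ι n).2⟩
    exact ⟨(QuotientGroup.quotientMulEquivOfEq hψker.symm).trans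
      (QuotientGroup.quotientKerEquivOfSurjective ψ hψsurj)⟩

end Cfsg.Agent.Lib.Helper18_HK_CHEV
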