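/-
Definitions for the generic Iwahori–Hecke algebra of a group `W` generated by a set `S` of involutions
satisfying the exchange condition (framework of `Helper6_Word`), over an arbitrary commutative ring `R`
with parameter `u : R`.

The model: on the free module `W → R` (basis `δ w`) the operators `Lop s` ("left multiplication by
`T_s`") and `Rop t` ("right multiplication by `T_t`"); the generic algebra `gen` is the centraliser of
the `Rop t`, `t ∈ S`, in `End_R (W → R)`; `Tm x` is the product of the `Lop s` along a reduced word of
`x`; `cst x y z` is the coefficient of `T_z` in `T_x T_y`.  `IsHecke T` says that a family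
`T : W → A` in an `R`-algebra `A` is a basis satisfying the Iwahori–Hecke relations with parameter `u`.
`Mad` and `Mcas` are the matrices (in the basis `T`) of `a ↦ (b ↦ a b - b a)` and of the Casimir map
`b ↦ ∑ x, u ^ (N - ℓ x) T_x b T_{x⁻¹}`.  Nothing is proved here.
-/
import Mathlib
import Cfsg.Agent.Lib.Helper6_Word

set_option autoImplicit false

namespace Cfsg.Agent.Lib.Helper18_HkDefs

open Cfsg.Agent.Lib.Helper6_Word

attribute [local instance] Classical.propDecidable

variable {W : Type*} [Group W] (S : Set W) {R : Type*} [CommRing R] (u : R)

/-- the basis vector `δ w` of `W → R` -/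
noncomputable def delta (w : W) : W → R := fun v => if v = w then 1 else 0

/-- left multiplication by `T_s`: `δ w ↦ δ (s w)` if `ℓ (s w) > ℓ w`, `δ w ↦ u δ (s w) + (u - 1) δ w` otherwise -/
noncomputable def Lop (s : W) : Module.End R (W → R) where
  toFun f := fun v => if len S (s * v) < len S v then f (s * v) + (u - 1) * f v else u * f (s * v)
  map_add' f g := by
    funext v
    simp only [Pi.add_apply]
    split_ifs <;> ring
  map_smul' c f := by
    funext v
    simp only [Pi.smul_apply, smul_eq_mul, RingHom.id_apply]
    split_ifs <;> ring

/-- right multiplication by `T_t`: `δ w ↦ δ (w t)` if `ℓ (w t) > ℓ w`, `δ w ↦ u δ (w t) + (u - 1) δ w` otherwise -/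
noncomputable def Rop (t : W) : Module.End R (W → R) where
  toFun f := fun v => if len S (v * t) < len S v then f (v * t) + (u - 1) * f v else u * f (v * t)
  map_add' f g := by
    funext v
    simp only [Pi.add_apply]
    split_ifs <;> ring
  map_smul' c f := by
    funext v
    simp only [Pi.smul_apply, smul_eq_mul, RingHom.id_apply]
    split_ifs <;> ring

theorem Lop_apply (s : W) (f : W → R) (v : W) :
    Lop S u s f v = if len S (s * v) < len S v then f (s * v) + (u - 1) * f v else u * f (s * v) := rfl

theorem Rop_apply (t : W) (f : W → R) (v : W) :
    Rop S u t f v = if len S (v * t) < len S v then f (v * t) + (u - 1) * f v else u * f (v * t) := rfl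

/-- the generic Iwahori–Hecke algebra: the centraliser of the right operators -/
noncomputable def gen : Subalgebra R (Module.End R (W → R)) :=
  Subalgebra.centralizer R (Rop S u '' S)

/-- a chosen reduced word of `w` (junk `[]` if there is none) -/
noncomputable def redWord (w : W) : List W :=
  if h : ∃ l : List W, IsWord S l ∧ l.prod = w ∧ l.length = len S w then Classical.choose h else []

/-- the operator `T_x` of the model: the product of the `Lop s` along the chosen reduced word of `x` -/
noncomputable def Tm (x : W) : Module.End R (W → R) := ((redWord S x).map (Lop S u)).prod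

/-- the structure constants: the coefficient of `T_z` in `T_x T_y` -/
noncomputable def cst (x y z : W) : R := Tm S u x (delta y) z

/-- `T : W → A` is a basis of the `R`-algebra `A` satisfying the Iwahori–Hecke relations with parameter `u` -/
structure IsHecke {A : Type*} [Ring A] [Algebra R A] (T : W → A) : Prop where
  one : T 1 = 1
  mul_up : ∀ s ∈ S, ∀ w : W, len S w < len S (s * w) → T s * T w = T (s * w)
  mul_down : ∀ s ∈ S, ∀ w : W, len S (s * w) < len S w → T s * T w = u • T (s * w) + (u - 1) • T w
  indep : LinearIndependent R T
  span : Submodule.span R (Set.range T) = ⊤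

/-- the largest length -/
noncomputable def maxLen [Fintype W] : ℕ := Finset.univ.sup (len S)

/-- the matrix of `a ↦ (b ↦ a b - b a)` in the basis `T`: rows `(y, z)`, columns `x`, entry the coefficient
of `T_z` in `T_x T_y - T_y T_x` -/
noncomputable def Mad : Matrix (W × W) W R :=
  fun p x => cst S u x p.1 p.2 - cst S u p.1 x p.2

/-- the matrix of the Casimir map `b ↦ ∑ x, u ^ (N - ℓ x) T_x b T_{x⁻¹}` in the basis `T` -/
noncomputable def Mcas [Fintype W] (N : ℕ) : Matrix W W R :=
  fun z b => ∑ x : W, u ^ (N - len S x) * ∑ v : W, cst S u x b v * cst S u v x⁻¹ z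

/-- the Casimir map of a family `T` -/
noncomputable def cas [Fintype W] {A : Type*} [Ring A] [Algebra R A] (T : W → A) (N : ℕ) (b : A) : A :=
  ∑ x : W, u ^ (N - len S x) • (T x * b * T x⁻¹)

end Cfsg.Agent.Lib.Helper18_HkDefs
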