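import Mathlib

set_option autoImplicit false

/-!
# S2319 package SEMI (helper35, for helper18): the rank of a polynomial matrix is lower semicontinuous
-/

namespace Cfsg.Agent.Lib.Helper35_HK_SEMI

open Polynomial

/-- A matrix of rank `r` can be multiplied on both sides to the identity of size `r`. -/
theorem exists_mul_mul_eq_one {K : Type*} [Field K] {m n : Type*} [Fintype m] [Fintype n]
    (A : Matrix m n K) :
    ∃ (P : Matrix (Fin A.rank) m K) (Q : Matrix n (Fin A.rank) K), P * A * Q = 1 := by
  classical
  have hr : Module.finrank K (LinearMap.range A.mulVecLin) = A.rank := rfl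
  let bas : Module.Basis (Fin A.rank) K (LinearMap.range A.mulVecLin) := Module.finBasisOfFinrankEq K _ hr
  have hq : ∀ j, ∃ q : n → K, A.mulVecLin q = (bas j : m → K) := fun j => (bas j).2
  choose q hq using hq
  let Q : Matrix n (Fin A.rank) K := Matrix.of fun i j => q j i
  let h : (Fin A.rank → K) →ₗ[K] (m → K) :=
    (LinearMap.range A.mulVecLin).subtype ∘ₗ bas.equivFun.symm.toLinearMap
  have hinj : LinearMap.ker h = ⊥ := by
    rw [LinearMap.ker_eq_bot]
    exact (Submodule.injective_subtype _).comp bas.equivFun.symm.injective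
  obtain ⟨g, hg⟩ := LinearMap.exists_leftInverse_of_injective h hinj
  refine ⟨LinearMap.toMatrix' g, Q, ?_⟩
  have hQ : ∀ c : Fin A.rank → K, A.mulVec (Q.mulVec c) = h c := by
    intro c
    have h1 : Q.mulVec c = ∑ j, c j • q j := by
      funext i
      simp only [Matrix.mulVec, dotProduct, Q, Matrix.of_apply, Finset.sum_apply, Pi.smul_apply, smul_eq_mul]
      exact Finset.sum_congr rfl fun j _ => mul_comm _ _
    have h2 : A.mulVec (∑ j, c j • q j) = ∑ j, c j • A.mulVec (q j) := by
      have := map_sum A.mulVecLin (fun j => c j • q j) Finset.univ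
      simp only [map_smul, Matrix.mulVecLin_apply] at this
      exact this
    rw [h1, h2]
    have h3 : h c = ∑ j, c j • (bas j : m → K) := by
      simp only [h, LinearMap.comp_apply, LinearEquiv.coe_coe, Module.Basis.equivFun_symm_apply,
        Submodule.subtype_apply, Submodule.coe_sum, Submodule.coe_smul]
    rw [h3]
    refine Finset.sum_congr rfl fun j _ => ?_
    rw [← hq j, Matrix.mulVecLin_apply]
  apply Matrix.toLin'.injective
  apply LinearMap.ext
  intro c
  rw [Matrix.toLin'_mul, Matrix.toLin'_mul, LinearMap.comp_apply, LinearMap.comp_apply, Matrix.toLin'_apply,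
    Matrix.toLin'_apply, Matrix.toLin'_apply, LinearMap.toMatrix'_mulVec, hQ, Matrix.toLin'_one,
    LinearMap.id_apply]
  exact LinearMap.congr_fun hg c

/-- If `P * M(a) * Q = 1` of size `r`, then `rank M(b) ≥ r` outside a finite set. -/
theorem rank_eval_finite_aux {K : Type*} [Field K] {m n : Type*} [Fintype m] [Fintype n]
    (M : Matrix m n (Polynomial K)) (a : K) (r : ℕ) (P : Matrix (Fin r) m K) (Q : Matrix n (Fin r) K)
    (hPQ : P * M.map (Polynomial.eval a) * Q = 1) :
    {b : K | (M.map (Polynomial.eval b)).rank < r}.Finite := by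
  classical
  set d : Polynomial K := ((P.map C) * M * (Q.map C)).det with hd
  have hev : ∀ b : K, eval b d = (P * M.map (Polynomial.eval b) * Q).det := by
    intro b
    have h1 : eval b d = (evalRingHom b) d := rfl
    rw [h1, hd, RingHom.map_det, RingHom.mapMatrix_apply, Matrix.map_mul, Matrix.map_mul, Matrix.map_map,
      Matrix.map_map]
    have h2 : P.map (⇑(evalRingHom b) ∘ ⇑(C : K →+* K[X])) = P := by
      ext i j
      simp
    have h3 : Q.map (⇑(evalRingHom b) ∘ ⇑(C : K →+* K[X])) = Q := by
      ext i j
      simp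
    rw [h2, h3]
    rfl
  have hd0 : d ≠ 0 := by
    intro h
    have := hev a
    rw [h, eval_zero, hPQ, Matrix.det_one] at this
    exact zero_ne_one this
  refine (Polynomial.finite_setOfPred_isRoot hd0).subset ?_
  intro b hb
  by_contra hroot
  have hne : (P * M.map (Polynomial.eval b) * Q).det ≠ 0 := by
    rw [← hev b]
    exact hroot
  have hunit : IsUnit (P * M.map (Polynomial.eval b) * Q) := by
    rw [Matrix.isUnit_iff_isUnit_det]
    exact isUnit_iff_ne_zero.mpr hne
  have h1 : (P * M.map (Polynomial.eval b) * Q).rank = r := by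
    rw [Matrix.rank_of_isUnit _ hunit, Fintype.card_fin]
  have h2 : (P * M.map (Polynomial.eval b) * Q).rank ≤ (M.map (Polynomial.eval b)).rank :=
    (Matrix.rank_mul_le_left _ _).trans (Matrix.rank_mul_le_right _ _)
  have hb' : (M.map (Polynomial.eval b)).rank < r := hb
  omega

/-- SEMI: lower semicontinuity of the rank of a polynomial matrix -/
theorem rank_eval_finite {K : Type*} [Field K] {m n : Type*} [Fintype m] [Fintype n]
    (M : Matrix m n (Polynomial K)) (a : K) :
    {b : K | (M.map (Polynomial.eval b)).rank < (M.map (Polynomial.eval a)).rank}.Finite := by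
  obtain ⟨P, Q, hPQ⟩ := exists_mul_mul_eq_one (M.map (Polynomial.eval a))
  exact rank_eval_finite_aux M a _ P Q hPQ

end Cfsg.Agent.Lib.Helper35_HK_SEMI
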