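import Mathlib
import Cfsg.Agent.Lib.Helper18_HkDefs

/-!
# S2319 package HK-COORD (architect helper18): centre and Casimir map in coordinates
-/

set_option autoImplicit false

namespace Cfsg.Agent.Lib.Helper55_HK_COORD

open Cfsg.Agent.Lib.Helper6_Word Cfsg.Agent.Lib.Helper18_HkDefs

attribute [local instance] Classical.propDecidable

variable {W : Type*} [Group W] [Fintype W] {S : Set W} {K : Type*} [Field K] {u : K}
  {A : Type*} [Ring A] [Algebra K A] {T : W → A}

/-- collecting coefficients: `∑ i, c i • ∑ z, d i z • T z = ∑ z, (∑ i, c i * d i z) • T z` -/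
theorem sum_smul_sum {ι : Type*} [Fintype ι] (T : W → A) (c : ι → K) (d : ι → W → K) :
    ∑ i, c i • ∑ z, d i z • T z = ∑ z, (∑ i, c i * d i z) • T z := by
  simp_rw [Finset.smul_sum, smul_smul]
  rw [Finset.sum_comm]
  simp_rw [← Finset.sum_smul]

theorem mul_T (hmul : ∀ x y : W, T x * T y = ∑ z : W, cst S u x y z • T z) (α : W → K) (y : W) :
    (∑ x : W, α x • T x) * T y = ∑ z, (∑ x, α x * cst S u x y z) • T z := by
  rw [Finset.sum_mul]
  simp_rw [smul_mul_assoc, hmul]
  exact sum_smul_sum T α (fun x z => cst S u x y z)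

theorem T_mul (hmul : ∀ x y : W, T x * T y = ∑ z : W, cst S u x y z • T z) (α : W → K) (y : W) :
    T y * (∑ x : W, α x • T x) = ∑ z, (∑ x, α x * cst S u y x z) • T z := by
  rw [Finset.mul_sum]
  simp_rw [mul_smul_comm, hmul]
  exact sum_smul_sum T α (fun x z => cst S u y x z)

theorem comm_T (hmul : ∀ x y : W, T x * T y = ∑ z : W, cst S u x y z • T z) (α : W → K) (y : W) :
    (∑ x : W, α x • T x) * T y - T y * (∑ x : W, α x • T x) =
      ∑ z, ((Mad S u).mulVec α (y, z)) • T z := by
  rw [mul_T hmul, T_mul hmul, ← Finset.sum_sub_distrib]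
  refine Finset.sum_congr rfl fun z _ => ?_
  rw [← sub_smul]
  congr 1
  simp only [Matrix.mulVec, dotProduct, Mad]
  rw [← Finset.sum_sub_distrib]
  refine Finset.sum_congr rfl fun x _ => ?_
  ring

theorem center_iff (H : IsHecke S u T)
    (hmul : ∀ x y : W, T x * T y = ∑ z : W, cst S u x y z • T z) (α : W → K) :
    (∀ b : A, (∑ x : W, α x • T x) * b = b * (∑ x : W, α x • T x)) ↔ (Mad S u).mulVec α = 0 := by
  constructor
  · intro h
    funext p
    obtain ⟨y, z⟩ := p
    have h1 := comm_T (S := S) (u := u) hmul α y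
    rw [h (T y), sub_self] at h1
    exact Fintype.linearIndependent_iff.mp H.indep _ h1.symm z
  · intro h b
    have hT : ∀ y, (∑ x : W, α x • T x) * T y = T y * (∑ x : W, α x • T x) := by
      intro y
      have h1 := comm_T (S := S) (u := u) hmul α y
      rw [h] at h1
      simp only [Pi.zero_apply, zero_smul, Finset.sum_const_zero] at h1
      exact sub_eq_zero.mp h1
    have hb : b ∈ Submodule.span K (Set.range T) := by rw [H.span]; trivial
    induction hb using Submodule.span_induction with
    | mem b hb =>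
      obtain ⟨y, rfl⟩ := hb
      exact hT y
    | zero => rw [mul_zero, zero_mul]
    | add b c _ _ hb hc => rw [mul_add, add_mul, hb, hc]
    | smul c b _ hb => rw [mul_smul_comm, smul_mul_assoc, hb]

theorem cas_coord (H : IsHecke S u T)
    (hmul : ∀ x y : W, T x * T y = ∑ z : W, cst S u x y z • T z) (N : ℕ) (β : W → K) :
    cas S u T N (∑ b : W, β b • T b) = ∑ z : W, ((Mcas S u N).mulVec β) z • T z := by
  have h1 : ∀ x : W, T x * (∑ b : W, β b • T b) * T x⁻¹ =
      ∑ z, (∑ b, β b * ∑ v, cst S u x b v * cst S u v x⁻¹ z) • T z := by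
    intro x
    rw [T_mul hmul, Finset.sum_mul]
    simp_rw [smul_mul_assoc, hmul]
    rw [sum_smul_sum T (fun v => ∑ b, β b * cst S u x b v) (fun v z => cst S u v x⁻¹ z)]
    refine Finset.sum_congr rfl fun z _ => ?_
    congr 1
    simp_rw [Finset.sum_mul, Finset.mul_sum]
    rw [Finset.sum_comm]
    refine Finset.sum_congr rfl fun b _ => Finset.sum_congr rfl fun v _ => ?_
    ring
  unfold cas
  simp_rw [h1]
  rw [sum_smul_sum T (fun x => u ^ (N - len S x))
    (fun x z => ∑ b, β b * ∑ v, cst S u x b v * cst S u v x⁻¹ z)]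
  refine Finset.sum_congr rfl fun z _ => ?_
  congr 1
  simp only [Matrix.mulVec, dotProduct, Mcas]
  simp_rw [Finset.mul_sum, Finset.sum_mul]
  rw [Finset.sum_comm]
  refine Finset.sum_congr rfl fun b _ => Finset.sum_congr rfl fun x _ => ?_
  refine Finset.sum_congr rfl fun v _ => ?_
  ring

end Cfsg.Agent.Lib.Helper55_HK_COORD
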