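import Mathlib
import Cfsg.Agent.Lib.Helper18_HkDefs

/-!
# S2319 package HK-RANK (architect helper18): ranks of the coordinate matrices versus the dimension
of the centre
-/

set_option autoImplicit false

namespace Cfsg.Agent.Lib.Helper55_HK_RANK

open Cfsg.Agent.Lib.Helper6_Word Cfsg.Agent.Lib.Helper18_HkDefs

attribute [local instance] Classical.propDecidable

variable {W : Type*} [Group W] [Fintype W] {S : Set W} {K : Type*} [Field K] {u : K}
  {A : Type*} [Ring A] [Algebra K A] {T : W → A}

/-- the coordinate isomorphism `α ↦ ∑ x, α x • T x` -/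
noncomputable def Phi (H : IsHecke S u T) : (W → K) ≃ₗ[K] A :=
  (Module.Basis.mk H.indep H.span.ge).equivFun.symm

theorem Phi_apply (H : IsHecke S u T) (α : W → K) : Phi H α = ∑ x : W, α x • T x := by
  unfold Phi
  rw [Module.Basis.equivFun_symm_apply]
  simp only [Module.Basis.coe_mk]

theorem map_ker_eq (H : IsHecke S u T)
    (hcen : ∀ α : W → K, (∀ b : A, (∑ x : W, α x • T x) * b = b * (∑ x : W, α x • T x)) ↔
      (Mad S u).mulVec α = 0) :
    (LinearMap.ker (Mad S u).mulVecLin).map ((Phi H : (W → K) ≃ₗ[K] A) : (W → K) →ₗ[K] A) =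
      Subalgebra.toSubmodule (Subalgebra.center K A) := by
  ext a
  rw [Submodule.mem_map]
  constructor
  · rintro ⟨α, hα, rfl⟩
    rw [LinearMap.mem_ker, Matrix.mulVecLin_apply] at hα
    have h1 := (hcen α).mpr hα
    rw [Subalgebra.mem_toSubmodule, Subalgebra.mem_center_iff]
    intro b
    rw [LinearEquiv.coe_coe, Phi_apply]
    exact (h1 b).symm
  · intro ha
    rw [Subalgebra.mem_toSubmodule, Subalgebra.mem_center_iff] at ha
    refine ⟨(Phi H).symm a, ?_, ?_⟩
    · rw [LinearMap.mem_ker, Matrix.mulVecLin_apply]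
      apply (hcen _).mp
      intro b
      rw [← Phi_apply H, LinearEquiv.apply_symm_apply]
      exact (ha b).symm
    · rw [LinearEquiv.coe_coe, LinearEquiv.apply_symm_apply]

theorem finrank_center_add_rank (H : IsHecke S u T)
    (hcen : ∀ α : W → K, (∀ b : A, (∑ x : W, α x • T x) * b = b * (∑ x : W, α x • T x)) ↔
      (Mad S u).mulVec α = 0) :
    Module.finrank K (Subalgebra.center K A) + (Mad S u).rank = Fintype.card W := by
  have h1 : Module.finrank K (Subalgebra.center K A) =
      Module.finrank K (LinearMap.ker (Mad S u).mulVecLin) := by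
    rw [← LinearEquiv.finrank_map_eq (Phi H) (LinearMap.ker (Mad S u).mulVecLin), map_ker_eq H hcen]
    rfl
  have h2 := LinearMap.finrank_range_add_finrank_ker (Mad S u).mulVecLin
  rw [Module.finrank_fintype_fun_eq_card] at h2
  rw [h1, Matrix.rank]
  omega

theorem map_range_le (H : IsHecke S u T) (N : ℕ)
    (hcoord : ∀ β : W → K,
      cas S u T N (∑ b : W, β b • T b) = ∑ z : W, ((Mcas S u N).mulVec β) z • T z)
    (hcas : ∀ a b : A, a * cas S u T N b = cas S u T N b * a) :
    (LinearMap.range (Mcas S u N).mulVecLin).map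
        ((Phi H : (W → K) ≃ₗ[K] A) : (W → K) →ₗ[K] A) ≤
      Subalgebra.toSubmodule (Subalgebra.center K A) := by
  rintro a ⟨γ, ⟨β, rfl⟩, rfl⟩
  rw [Subalgebra.mem_toSubmodule, Subalgebra.mem_center_iff]
  intro b
  rw [LinearEquiv.coe_coe, Phi_apply, Matrix.mulVecLin_apply, ← hcoord]
  exact hcas b _

theorem rank_Mcas_le (H : IsHecke S u T) (N : ℕ)
    (hcoord : ∀ β : W → K,
      cas S u T N (∑ b : W, β b • T b) = ∑ z : W, ((Mcas S u N).mulVec β) z • T z)
    (hcas : ∀ a b : A, a * cas S u T N b = cas S u T N b * a) :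
    (Mcas S u N).rank ≤ Module.finrank K (Subalgebra.center K A) := by
  haveI : Module.Finite K A := Module.Finite.equiv (Phi H)
  have h1 := Submodule.finrank_mono (map_range_le H N hcoord hcas)
  rw [LinearEquiv.finrank_map_eq] at h1
  exact h1

/-- the Casimir map as a linear map -/
noncomputable def casL (S : Set W) (u : K) (T : W → A) (N : ℕ) : A →ₗ[K] A where
  toFun := cas S u T N
  map_add' b c := by
    simp only [cas, mul_add, add_mul, smul_add, Finset.sum_add_distrib]
  map_smul' k b := by
    simp only [cas, mul_smul_comm, smul_mul_assoc, Finset.smul_sum, RingHom.id_apply]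
    refine Finset.sum_congr rfl fun x _ => ?_
    rw [smul_comm]

theorem rank_Mcas_eq (H : IsHecke S u T) (N : ℕ)
    (hcoord : ∀ β : W → K,
      cas S u T N (∑ b : W, β b • T b) = ∑ z : W, ((Mcas S u N).mulVec β) z • T z)
    (hcas : ∀ a b : A, a * cas S u T N b = cas S u T N b * a)
    (hinj : ∀ z ∈ Subalgebra.center K A, cas S u T N z = 0 → z = 0) :
    (Mcas S u N).rank = Module.finrank K (Subalgebra.center K A) := by
  apply le_antisymm (rank_Mcas_le H N hcoord hcas)
  haveI : Module.Finite K A := Module.Finite.equiv (Phi H)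
  obtain ⟨g, hg⟩ : ∃ g : Subalgebra.toSubmodule (Subalgebra.center K A) →ₗ[K] A,
      g = (casL S u T N).domRestrict (Subalgebra.toSubmodule (Subalgebra.center K A)) := ⟨_, rfl⟩
  have hgapp : ∀ z, g z = cas S u T N (z : A) := by
    intro z; rw [hg]; rfl
  have hginj : Function.Injective g := by
    rw [← LinearMap.ker_eq_bot, LinearMap.ker_eq_bot']
    intro z hz
    rw [hgapp] at hz
    exact Subtype.ext (hinj z z.2 hz)
  have hrange : LinearMap.range g ≤ (LinearMap.range (Mcas S u N).mulVecLin).map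
      ((Phi H : (W → K) ≃ₗ[K] A) : (W → K) →ₗ[K] A) := by
    rintro a ⟨z, rfl⟩
    rw [hgapp]
    refine ⟨(Mcas S u N).mulVecLin ((Phi H).symm (z : A)), ⟨_, rfl⟩, ?_⟩
    rw [LinearEquiv.coe_coe, Phi_apply, Matrix.mulVecLin_apply, ← hcoord, ← Phi_apply H,
      LinearEquiv.apply_symm_apply]
  have h1 := Submodule.finrank_mono hrange
  rw [LinearEquiv.finrank_map_eq, LinearMap.finrank_range_of_inj hginj] at h1
  exact h1

end Cfsg.Agent.Lib.Helper55_HK_RANK
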