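import Mathlib
import Cfsg.Agent.Lib.Helper18_HkDefs

/-!
# S2319 package HK-CAS (architect helper18): the Casimir element of a Hecke datum is central
-/

set_option autoImplicit false

namespace Cfsg.Agent.Lib.Helper70_HK_CAS

open Cfsg.Agent.Lib.Helper6_Word Cfsg.Agent.Lib.Helper18_HkDefs

attribute [local instance] Classical.propDecidable

variable {W : Type*} [Group W] [Fintype W] {S : Set W} {K : Type*} [Field K] {u : K}
  {A : Type*} [Ring A] [Algebra K A] {T : W → A}

/-- the basis `T` -/
noncomputable def bas (H : IsHecke S u T) : Module.Basis W K A := Module.Basis.mk H.indep H.span.ge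

theorem bas_apply (H : IsHecke S u T) (x : W) : bas H x = T x := by
  unfold bas
  rw [Module.Basis.mk_apply]

theorem coord_T (H : IsHecke S u T) (x y : W) :
    (bas H).coord x (T y) = if y = x then 1 else 0 := by
  rw [← bas_apply H y, Module.Basis.coord_apply, Module.Basis.repr_self, Finsupp.single_apply]

/-- the trace form: the coefficient of `T 1` -/
noncomputable def tr (H : IsHecke S u T) : A →ₗ[K] K := (bas H).coord 1

theorem tr_mul_T (H : IsHecke S u T)
    (hmul : ∀ x y : W, T x * T y = ∑ z : W, cst S u x y z • T z)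
    (htr : ∀ x y : W, cst S u x y 1 = if x * y = 1 then u ^ len S x else 0) (x y : W) :
    tr H (T x * T y) = if x * y = 1 then u ^ len S x else 0 := by
  rw [hmul, ← htr, tr, map_sum]
  simp only [map_smul, smul_eq_mul, coord_T, mul_ite, mul_one, mul_zero]
  rw [Finset.sum_ite_eq' Finset.univ (1 : W)]
  simp

/-- symmetry of the trace form -/
theorem tr_symm (h : InvGen S) (H : IsHecke S u T)
    (hmul : ∀ x y : W, T x * T y = ∑ z : W, cst S u x y z • T z)
    (htr : ∀ x y : W, cst S u x y 1 = if x * y = 1 then u ^ len S x else 0) (a b : A) :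
    tr H (a * b) = tr H (b * a) := by
  have key : (LinearMap.mul K A).compr₂ (tr H) = ((LinearMap.mul K A).compr₂ (tr H)).flip := by
    refine (bas H).ext fun x => (bas H).ext fun y => ?_
    simp only [LinearMap.compr₂_apply, LinearMap.mul_apply', LinearMap.flip_apply, bas_apply]
    rw [tr_mul_T H hmul htr, tr_mul_T H hmul htr]
    by_cases hxy : x * y = 1
    · have hyx : y * x = 1 := mul_eq_one_comm.mp hxy
      have hy : y = x⁻¹ := eq_inv_of_mul_eq_one_right hxy
      rw [if_pos hxy, if_pos hyx, hy, len_inv h]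
    · have hyx : ¬ y * x = 1 := fun h' => hxy (mul_eq_one_comm.mp h')
      rw [if_neg hxy, if_neg hyx]
  have := LinearMap.congr_fun (LinearMap.congr_fun key a) b
  simpa using this

/-- the coordinates through the trace form -/
theorem coord_eq (h : InvGen S) (hu : u ≠ 0) (H : IsHecke S u T)
    (hmul : ∀ x y : W, T x * T y = ∑ z : W, cst S u x y z • T z)
    (htr : ∀ x y : W, cst S u x y 1 = if x * y = 1 then u ^ len S x else 0) (y : W) (c : A) :
    (bas H).coord y c = (u ^ len S y)⁻¹ * tr H (c * T y⁻¹) := by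
  have key : (bas H).coord y =
      (u ^ len S y)⁻¹ • (tr H).comp (LinearMap.mulRight K (T y⁻¹)) := by
    refine (bas H).ext fun k => ?_
    simp only [LinearMap.smul_apply, LinearMap.comp_apply, LinearMap.mulRight_apply, bas_apply,
      smul_eq_mul]
    rw [coord_T, tr_mul_T H hmul htr]
    by_cases hky : k = y
    · subst hky
      rw [if_pos rfl, if_pos (mul_inv_cancel k), inv_mul_cancel₀ (pow_ne_zero _ hu)]
    · have : ¬ k * y⁻¹ = 1 := fun h' => hky (mul_inv_eq_one.mp h')
      rw [if_neg hky, if_neg this, mul_zero]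
  rw [key]
  simp

theorem expand (H : IsHecke S u T) (c : A) : c = ∑ y : W, (bas H).coord y c • T y := by
  conv_lhs => rw [← (bas H).sum_repr c]
  refine Finset.sum_congr rfl fun y _ => ?_
  rw [bas_apply, Module.Basis.coord_apply]

theorem cas_comm (h : InvGen S) (hE : Exchange S) (hu : u ≠ 0) (H : IsHecke S u T)
    (hmul : ∀ x y : W, T x * T y = ∑ z : W, cst S u x y z • T z)
    (htr : ∀ x y : W, cst S u x y 1 = if x * y = 1 then u ^ len S x else 0)
    (N : ℕ) (hN : ∀ x : W, len S x ≤ N) (a b : A) :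
    a * cas S u T N b = cas S u T N b * a := by
  have hc : ∀ x : W, u ^ (N - len S x) = u ^ N * (u ^ len S x)⁻¹ := fun x => pow_sub₀ u hu (hN x)
  -- the left side
  have hL : a * cas S u T N b = ∑ x : W, ∑ y : W,
      (u ^ N * (u ^ len S x)⁻¹ * (u ^ len S y)⁻¹ * tr H (a * T x * T y⁻¹)) •
        (T y * b * T x⁻¹) := by
    unfold cas
    rw [Finset.mul_sum]
    refine Finset.sum_congr rfl fun x _ => ?_
    rw [mul_smul_comm, ← mul_assoc, ← mul_assoc]
    conv_lhs => rw [expand H (a * T x)]
    rw [Finset.sum_mul, Finset.sum_mul, Finset.smul_sum]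
    refine Finset.sum_congr rfl fun y _ => ?_
    rw [smul_mul_assoc, smul_mul_assoc, smul_smul, coord_eq h hu H hmul htr, hc]
    congr 1
    ring
  -- the right side
  have hR : cas S u T N b * a = ∑ y : W, ∑ x : W,
      (u ^ N * (u ^ len S x)⁻¹ * (u ^ len S y)⁻¹ * tr H (T y⁻¹ * a * T x)) •
        (T y * b * T x⁻¹) := by
    unfold cas
    rw [Finset.sum_mul]
    refine Finset.sum_congr rfl fun y _ => ?_
    rw [smul_mul_assoc, mul_assoc]
    obtain ⟨c, hcdef⟩ : ∃ c : A, c = T y⁻¹ * a := ⟨_, rfl⟩
    rw [← hcdef]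
    have hexp : c = ∑ x : W, (bas H).coord x⁻¹ c • T x⁻¹ := by
      conv_lhs => rw [expand H c]
      exact (Equiv.sum_comp (Equiv.inv W)
        (fun z => (bas H).coord z c • T z)).symm
    conv_lhs => rw [hexp]
    rw [Finset.mul_sum, Finset.smul_sum]
    refine Finset.sum_congr rfl fun x _ => ?_
    rw [mul_smul_comm, smul_smul, coord_eq h hu H hmul htr, hc, len_inv h, inv_inv]
    congr 1
    ring
  rw [hL, hR, Finset.sum_comm]
  refine Finset.sum_congr rfl fun y _ => Finset.sum_congr rfl fun x _ => ?_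
  rw [tr_symm h H hmul htr (a * T x) (T y⁻¹), ← mul_assoc (T y⁻¹) a (T x)]

end Cfsg.Agent.Lib.Helper70_HK_CAS
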