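import Mathlib
import Cfsg.Agent.Lib.Helper18_HkDefs

/-!
# S2319 package HK-TRACE (architect helper18): the coefficient of `T_1` in `T_x T_y`
-/

set_option autoImplicit false

namespace Cfsg.Agent.Lib.Helper70_HK_TRACE

open Cfsg.Agent.Lib.Helper6_Word Cfsg.Agent.Lib.Helper18_HkDefs

attribute [local instance] Classical.propDecidable

variable {W : Type*} [Group W] {S : Set W} {R : Type*} [CommRing R] (u : R)

theorem delta_apply (w v : W) : (delta w : W → R) v = if v = w then 1 else 0 := rfl

/-- the exchange condition forces `1 ∉ S` -/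
theorem one_not_mem (hE : Exchange S) : (1 : W) ∉ S := by
  intro h1
  have hred : IsReduced S ([] : List W) := ⟨isWord_nil S, by simp [len_one]⟩
  obtain ⟨i, hi, -⟩ := hE 1 h1 [] hred (by simp)
  simp at hi

theorem simple_ne_one (hE : Exchange S) {s : W} (hs : s ∈ S) : s ≠ 1 :=
  fun h' => one_not_mem hE (h' ▸ hs)

theorem simple_mul_ne (hE : Exchange S) {s : W} (hs : s ∈ S) (w : W) : ¬ s * w = w := by
  intro h'
  apply simple_ne_one hE hs
  exact mul_right_cancel (h'.trans (one_mul w).symm)

theorem mul_simple_ne (hE : Exchange S) {s : W} (hs : s ∈ S) (w : W) : ¬ w * s = w := by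
  intro h'
  apply simple_ne_one hE hs
  exact mul_left_cancel (h'.trans (mul_one w).symm)

theorem Lop_delta_up (h : InvGen S) (hE : Exchange S) {s : W} (hs : s ∈ S) (w : W)
    (hw : len S w < len S (s * w)) : Lop S u s (delta w) = delta (s * w) := by
  have hss : s * s = 1 := h.sq s hs
  funext v
  rw [Lop_apply]
  simp only [delta_apply]
  by_cases hv : v = s * w
  · subst hv
    have e : s * (s * w) = w := by rw [← mul_assoc, hss, one_mul]
    rw [e, if_pos hw, if_pos rfl, if_pos rfl, if_neg (simple_mul_ne hE hs w)]
    ring
  · have hsv : ¬ s * v = w := by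
      intro h'; apply hv; rw [← h', ← mul_assoc, hss, one_mul]
    rw [if_neg hsv, if_neg hv]
    by_cases hvw : v = w
    · subst hvw
      rw [if_neg (not_lt.mpr hw.le)]
      ring
    · rw [if_neg hvw]
      split_ifs <;> ring

theorem Lop_delta_down (h : InvGen S) (hE : Exchange S) {s : W} (hs : s ∈ S) (w : W)
    (hw : len S (s * w) < len S w) :
    Lop S u s (delta w) = u • delta (s * w) + (u - 1) • delta w := by
  have hss : s * s = 1 := h.sq s hs
  funext v
  rw [Lop_apply]
  simp only [delta_apply, Pi.add_apply, Pi.smul_apply, smul_eq_mul]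
  by_cases hv : v = s * w
  · subst hv
    have e : s * (s * w) = w := by rw [← mul_assoc, hss, one_mul]
    rw [e, if_neg (not_lt.mpr hw.le), if_pos rfl, if_pos rfl, if_neg (simple_mul_ne hE hs w)]
    ring
  · have hsv : ¬ s * v = w := by
      intro h'; apply hv; rw [← h', ← mul_assoc, hss, one_mul]
    rw [if_neg hsv, if_neg hv]
    by_cases hvw : v = w
    · subst hvw
      rw [if_pos hw, if_pos rfl]
      ring
    · rw [if_neg hvw]
      split_ifs <;> ring

theorem Rop_delta_up (h : InvGen S) (hE : Exchange S) {t : W} (ht : t ∈ S) (w : W)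
    (hw : len S w < len S (w * t)) : Rop S u t (delta w) = delta (w * t) := by
  have htt : t * t = 1 := h.sq t ht
  funext v
  rw [Rop_apply]
  simp only [delta_apply]
  by_cases hv : v = w * t
  · subst hv
    have e : w * t * t = w := by rw [mul_assoc, htt, mul_one]
    rw [e, if_pos hw, if_pos rfl, if_pos rfl, if_neg (mul_simple_ne hE ht w)]
    ring
  · have hsv : ¬ v * t = w := by
      intro h'; apply hv; rw [← h', mul_assoc, htt, mul_one]
    rw [if_neg hsv, if_neg hv]
    by_cases hvw : v = w
    · subst hvw
      rw [if_neg (not_lt.mpr hw.le)]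
      ring
    · rw [if_neg hvw]
      split_ifs <;> ring

theorem redWord_simple (h : InvGen S) (hE : Exchange S) {s : W} (hs : s ∈ S) :
    redWord S s = [s] := by
  have hex : ∃ l : List W, IsWord S l ∧ l.prod = s ∧ l.length = len S s := exists_reduced h s
  unfold redWord
  rw [dif_pos hex]
  obtain ⟨-, h2, h3⟩ := Classical.choose_spec hex
  generalize Classical.choose hex = l at h2 h3
  have h4 : l.length = 1 := h3.trans (len_simple h hs (simple_ne_one hE hs))
  obtain ⟨a, ha⟩ := List.length_eq_one_iff.mp h4
  rw [ha] at h2 ⊢
  rw [List.prod_singleton] at h2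
  rw [h2]

theorem Tm_simple (h : InvGen S) (hE : Exchange S) {s : W} (hs : s ∈ S) :
    Tm S u s = Lop S u s := by
  unfold Tm
  rw [redWord_simple h hE hs]
  simp

theorem cst_one (h : InvGen S) (hE : Exchange S)
    (hmem : ∀ x : W, Tm S u x ∈ gen S u)
    (hd : ∀ x : W, Tm S u x (delta 1) = delta x)
    (hext : ∀ a b : Module.End R (W → R), a ∈ gen S u → b ∈ gen S u →
      a (delta 1) = b (delta 1) → a = b) (x y : W) :
    cst S u x y 1 = if x * y = 1 then u ^ len S x else 0 := by
  have key : ∀ n : ℕ, ∀ x : W, len S x = n → ∀ y : W,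
      cst S u x y 1 = if x * y = 1 then u ^ n else 0 := by
    intro n
    induction n with
    | zero =>
      intro x hx y
      have hx1 : x = 1 := (len_eq_zero_iff h).mp hx
      subst hx1
      have hT1 : Tm S u (1 : W) = 1 :=
        hext _ _ (hmem 1) (Subalgebra.one_mem _) (by rw [hd 1]; rfl)
      unfold cst
      rw [hT1]
      show (delta y : W → R) 1 = _
      rw [delta_apply, one_mul, pow_zero]
      by_cases hy : y = 1
      · subst hy; simp
      · rw [if_neg hy, if_neg (Ne.symm hy)]
    | succ n ih =>
      intro x hx y
      obtain ⟨s, hs, hxs⟩ := exists_mul_simple_of_len_succ h hx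
      have hss : s * s = 1 := h.sq s hs
      obtain ⟨x', hx'⟩ : ∃ x' : W, x' = x * s := ⟨_, rfl⟩
      have hxx' : x = x' * s := by rw [hx', mul_assoc, hss, mul_one]
      have hlx' : len S x' = n := by rw [hx']; exact hxs
      have hup : len S x' < len S (x' * s) := by rw [← hxx', hx, hlx']; exact Nat.lt_succ_self n
      -- `Lop s ∈ gen`
      have hLs : Lop S u s ∈ gen S u := by
        rw [← Tm_simple u h hE hs]; exact hmem s
      -- `Tm x = Tm x' * Lop s`
      have hTx : Tm S u x = Tm S u x' * Lop S u s := by
        apply hext _ _ (hmem x) (Subalgebra.mul_mem _ (hmem x') hLs)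
        rw [hd x, Module.End.mul_apply]
        have h1 : Lop S u s (delta (1 : W)) = delta s := by
          have := Lop_delta_up u h hE hs (1 : W)
            (by rw [mul_one, len_one, len_simple h hs (simple_ne_one hE hs)]; exact Nat.one_pos)
          rw [mul_one] at this
          exact this
        have h2 : Rop S u s (delta (1 : W)) = delta s := by
          have := Rop_delta_up u h hE hs (1 : W)
            (by rw [one_mul, len_one, len_simple h hs (simple_ne_one hE hs)]; exact Nat.one_pos)
          rw [one_mul] at this
          exact this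
        have hcomm : Rop S u s * Tm S u x' = Tm S u x' * Rop S u s :=
          (Subalgebra.mem_centralizer_iff R).mp (hmem x') (Rop S u s) ⟨s, hs, rfl⟩
        rw [h1, ← h2, ← Module.End.mul_apply, ← hcomm, Module.End.mul_apply, hd x',
          Rop_delta_up u h hE hs x' hup, ← hxx']
      have hcst : cst S u x y 1 = Tm S u x' (Lop S u s (delta y)) 1 := by
        unfold cst
        rw [hTx, Module.End.mul_apply]
      have hxy : x' * (s * y) = x * y := by rw [hxx', mul_assoc]
      rcases len_simple_mul_cases h hE hs y with hc | hc
      · -- (i) `len y < len (s y)`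
        have hlt : len S y < len S (s * y) := by omega
        rw [hcst, Lop_delta_up u h hE hs y hlt]
        have := ih x' hlx' (s * y)
        unfold cst at this
        rw [this, hxy]
        by_cases h1 : x * y = 1
        · exfalso
          have hy : y = x⁻¹ := eq_inv_of_mul_eq_one_right h1
          have hly : len S y = n + 1 := by rw [hy, len_inv h, hx]
          have hsy : s * y = x'⁻¹ := eq_inv_of_mul_eq_one_right (hxy.trans h1)
          have hlsy : len S (s * y) = n := by rw [hsy, len_inv h, hlx']
          omega
        · rw [if_neg h1, if_neg h1]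
      · -- (ii) `len (s y) < len y`
        have hlt : len S (s * y) < len S y := by omega
        rw [hcst, Lop_delta_down u h hE hs y hlt, map_add, map_smul, map_smul]
        have e1 := ih x' hlx' (s * y)
        have e2 := ih x' hlx' y
        unfold cst at e1 e2
        simp only [Pi.add_apply, Pi.smul_apply, smul_eq_mul]
        rw [e1, e2, hxy]
        have h2 : ¬ x' * y = 1 := by
          intro h2
          have hy : y = x'⁻¹ := eq_inv_of_mul_eq_one_right h2
          have hly : len S y = n := by rw [hy, len_inv h, hlx']
          have hsy : s * y = x⁻¹ := by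
            rw [hy, hxx', mul_inv_rev, inv_eq_of_sq hss]
          have hlsy : len S (s * y) = n + 1 := by rw [hsy, len_inv h, hx]
          omega
        rw [if_neg h2, mul_zero, add_zero]
        by_cases h1 : x * y = 1
        · rw [if_pos h1, if_pos h1, pow_succ]; ring
        · rw [if_neg h1, if_neg h1, mul_zero]
  exact key _ x rfl y

end Cfsg.Agent.Lib.Helper70_HK_TRACE
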