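import Mathlib
import Cfsg.Agent.Lib.Helper18_HkDefs

/-!
# S2319 market (architect helper18), package HK-BASE

Base change of the structure constants of the generic Iwahori-Hecke algebra:
`cst S (φ u) x y z = φ (cst S u x y z)` for a ring homomorphism `φ`.
-/

set_option autoImplicit false

namespace Cfsg.Agent.Lib.Helper78_HK_BASE

open Cfsg.Agent.Lib.Helper6_Word Cfsg.Agent.Lib.Helper18_HkDefs

attribute [local instance] Classical.propDecidable

variable {W : Type*} [Group W] {S : Set W} {R : Type*} [CommRing R] (u : R)

/-- The left operators commute with base change. -/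
theorem Lop_map {R' : Type*} [CommRing R'] (φ : R →+* R') (s : W) (f : W → R) :
    Lop S (φ u) s (⇑φ ∘ f) = ⇑φ ∘ (Lop S u s f) := by
  funext v
  simp only [Lop_apply, Function.comp_apply]
  split_ifs <;> simp

/-- Products of left operators commute with base change. -/
theorem prod_Lop_map {R' : Type*} [CommRing R'] (φ : R →+* R') (l : List W) (f : W → R) :
    ((l.map (Lop S (φ u))).prod) (⇑φ ∘ f) = ⇑φ ∘ (((l.map (Lop S u)).prod) f) := by
  induction l with
  | nil => simp
  | cons s l ih =>
    rw [List.map_cons, List.prod_cons, List.map_cons, List.prod_cons, Module.End.mul_apply,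
      Module.End.mul_apply, ih, Lop_map]

omit [Group W] in
/-- The basis vectors are stable under base change. -/
theorem delta_map {R' : Type*} [CommRing R'] (φ : R →+* R') (y : W) :
    ⇑φ ∘ (delta y : W → R) = (delta y : W → R') := by
  funext v
  simp only [delta, Function.comp_apply]
  split_ifs <;> simp

theorem cst_map {R' : Type*} [CommRing R'] (φ : R →+* R') (x y z : W) :
    cst S (φ u) x y z = φ (cst S u x y z) := by
  unfold cst Tm
  rw [← delta_map φ y, prod_Lop_map]
  rfl

end Cfsg.Agent.Lib.Helper78_HK_BASE
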