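import Mathlib
import Cfsg.Agent.Lib.Helper18_HkDefs

/-!
# S2319 market (architect helper18), package HK-COMM

The Coxeter square lemma (`cox_up`, `cox_down`) and the commutation `L_s R_t = R_t L_s` of the
left and right operators of the generic Iwahori-Hecke algebra.
-/

set_option autoImplicit false

namespace Cfsg.Agent.Lib.Helper78_HK_COMM

open Cfsg.Agent.Lib.Helper6_Word Cfsg.Agent.Lib.Helper18_HkDefs

attribute [local instance] Classical.propDecidable

variable {W : Type*} [Group W] {S : Set W} {R : Type*} [CommRing R] (u : R)

/-- right-handed version of `len_simple_mul_cases` -/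
theorem len_mul_simple_cases' (h : InvGen S) (hE : Exchange S) {s : W} (hs : s ∈ S)
    (w : W) : len S (w * s) = len S w + 1 ∨ len S (w * s) + 1 = len S w := by
  have := len_simple_mul_cases h hE hs w⁻¹
  have e : s * w⁻¹ = (w * s)⁻¹ := by rw [mul_inv_rev, inv_eq_of_sq (h.sq s hs)]
  rw [e, len_inv h, len_inv h] at this
  exact this

theorem cox_up (h : InvGen S) (hE : Exchange S) {s t : W} (hs : s ∈ S) (ht : t ∈ S) (v : W)
    (h1 : len S v < len S (s * v)) (h2 : len S v < len S (v * t))
    (h3 : len S (s * v * t) = len S v) : s * v = v * t := by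
  obtain ⟨l, hl, hlv, hlen⟩ := exists_reduced h v
  have htt : t * t = 1 := h.sq t ht
  have hword : IsWord S (l ++ [t]) := by
    rw [isWord_append]
    refine ⟨hl, ?_⟩
    intro x hx
    rw [List.mem_singleton] at hx
    rw [hx]
    exact ht
  have hprod : (l ++ [t]).prod = v * t := by simp [hlv]
  have hvt : len S (v * t) = len S v + 1 := by
    have := len_mul_simple_le h ht v
    omega
  have hred : IsReduced S (l ++ [t]) := by
    refine ⟨hword, ?_⟩
    rw [hprod, hvt, List.length_append, hlen]
    rfl
  have hle : len S (s * (l ++ [t]).prod) ≤ len S (l ++ [t]).prod := by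
    rw [hprod, ← mul_assoc, h3, hvt]
    omega
  obtain ⟨i, hi, hi'⟩ := hE s hs (l ++ [t]) hred hle
  rw [hprod, ← mul_assoc] at hi'
  rw [List.length_append, List.length_singleton] at hi
  rcases Nat.lt_or_ge i l.length with hlt | hge
  · exfalso
    rw [List.eraseIdx_append_of_lt_length hlt, List.prod_append, List.prod_singleton] at hi'
    have hsv : s * v = (l.eraseIdx i).prod := mul_right_cancel hi'
    have h4 := len_le_length (hl.eraseIdx i)
    rw [← hsv, List.length_eraseIdx, if_pos hlt] at h4
    omega
  · have hil : i = l.length := by omega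
    subst hil
    rw [List.eraseIdx_append_of_length_le (le_refl _), Nat.sub_self] at hi'
    have h5 : ([t] : List W).eraseIdx 0 = [] := rfl
    rw [h5, List.append_nil, hlv] at hi'
    calc s * v = s * v * t * t := by rw [mul_assoc (s * v), htt, mul_one]
      _ = v * t := by rw [hi']

theorem cox_down (h : InvGen S) (hE : Exchange S) {s t : W} (hs : s ∈ S) (ht : t ∈ S) (v : W)
    (h1 : len S (s * v) < len S v) (h2 : len S (v * t) < len S v)
    (h3 : len S (s * v * t) = len S v) : s * v = v * t := by
  have hss : s * s = 1 := h.sq s hs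
  have e1 : s * (s * v) = v := by rw [← mul_assoc, hss, one_mul]
  have hA := len_simple_mul_cases h hE hs v
  have hB := len_mul_simple_cases' h hE ht v
  have key := cox_up h hE hs ht (s * v) (by rw [e1]; exact h1) (by rw [h3]; exact h1)
    (by rw [e1]; omega)
  rw [e1] at key
  calc s * v = s * (s * v * t) := by rw [← key]
    _ = v * t := by rw [← mul_assoc, ← mul_assoc, hss, one_mul]

theorem Lop_mul_Rop (h : InvGen S) (hE : Exchange S) {s t : W} (hs : s ∈ S) (ht : t ∈ S) :
    Lop S u s * Rop S u t = Rop S u t * Lop S u s := by
  apply LinearMap.ext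
  intro f
  funext v
  simp only [Module.End.mul_apply, Lop_apply, Rop_apply, ← mul_assoc]
  have hA := len_simple_mul_cases h hE hs v
  have hB := len_mul_simple_cases' h hE ht v
  have hC := len_simple_mul_cases h hE hs (v * t)
  have hD := len_mul_simple_cases' h hE ht (s * v)
  rw [← mul_assoc] at hC
  by_cases ha : len S (s * v) < len S v <;> by_cases hb : len S (v * t) < len S v <;>
    by_cases hc : len S (s * v * t) < len S (v * t) <;>
    by_cases hd : len S (s * v * t) < len S (s * v) <;>
    simp only [ha, hb, hc, hd, if_true, if_false] <;>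
    first
    | ring1
    | (exfalso; omega)
    | (have e := cox_up h hE hs ht v (by omega) (by omega) (by omega); rw [e])
    | (have e := cox_down h hE hs ht v (by omega) (by omega) (by omega); rw [e])

end Cfsg.Agent.Lib.Helper78_HK_COMM
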