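import Mathlib
import Cfsg.Agent.Lib.Helper18_HkDefs

set_option autoImplicit false
set_option linter.unusedSectionVars false
set_option linter.unusedVariables false

/-!
# S2319 market (architect helper18), package HK-MODEL

The operators `Tm x` of the Bourbaki model of the generic Iwahori–Hecke algebra form a basis of `gen`
and satisfy the Hecke relations.
-/

namespace Cfsg.Agent.Lib.Helper99_HK_MODEL

open Cfsg.Agent.Lib.Helper6_Word Cfsg.Agent.Lib.Helper18_HkDefs

attribute [local instance] Classical.propDecidable

variable {W : Type*} [Group W] {S : Set W} {R : Type*} [CommRing R] (u : R)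

/-! ### basic computations -/

theorem delta_apply (w v : W) : (delta w : W → R) v = if v = w then 1 else 0 := rfl

theorem delta_self (w : W) : (delta w : W → R) w = 1 := by simp [delta_apply]

theorem delta_ne {w v : W} (hne : v ≠ w) : (delta w : W → R) v = 0 := by simp [delta_apply, hne]

theorem one_not_mem (hE : Exchange S) : (1 : W) ∉ S := by
  intro h1
  obtain ⟨i, hi, -⟩ := hE 1 h1 [] ⟨isWord_nil S, by simp [len_one]⟩ (by simp)
  simp at hi

theorem Lop_delta_up (h : InvGen S) {s : W} (hs : s ∈ S) (w : W) (hlt : len S w < len S (s * w)) :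
    Lop S u s (delta w) = delta (s * w) := by
  have hss : s * s = 1 := h.sq s hs
  have hne : s * w ≠ w := fun he => by rw [he] at hlt; exact lt_irrefl _ hlt
  funext v
  rw [Lop_apply]
  by_cases h1 : v = s * w
  · have e : s * v = w := by rw [h1, ← mul_assoc, hss, one_mul]
    rw [e, h1, if_pos hlt, delta_self, delta_self, delta_ne hne]
    ring
  · have h2 : s * v ≠ w := by
      intro he
      apply h1
      rw [← he, ← mul_assoc, hss, one_mul]
    rw [delta_ne h2, delta_ne h1]
    by_cases h3 : v = w
    · rw [h3, if_neg (by omega)]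
      ring
    · rw [delta_ne h3]
      split_ifs <;> ring

theorem Lop_delta_down (h : InvGen S) {s : W} (hs : s ∈ S) (w : W) (hlt : len S (s * w) < len S w) :
    Lop S u s (delta w) = u • delta (s * w) + (u - 1) • delta w := by
  have hss : s * s = 1 := h.sq s hs
  have hne : s * w ≠ w := fun he => by rw [he] at hlt; exact lt_irrefl _ hlt
  funext v
  rw [Lop_apply]
  simp only [Pi.add_apply, Pi.smul_apply, smul_eq_mul]
  by_cases h1 : v = s * w
  · have e : s * v = w := by rw [h1, ← mul_assoc, hss, one_mul]
    rw [e, h1, if_neg (by omega), delta_self, delta_self, delta_ne hne]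
    ring
  · have h2 : s * v ≠ w := by
      intro he
      apply h1
      rw [← he, ← mul_assoc, hss, one_mul]
    rw [delta_ne h2, delta_ne h1]
    by_cases h3 : v = w
    · rw [h3, if_pos hlt, delta_self]
      ring
    · rw [delta_ne h3]
      split_ifs <;> ring

theorem Rop_delta_up (h : InvGen S) {t : W} (ht : t ∈ S) (w : W) (hlt : len S w < len S (w * t)) :
    Rop S u t (delta w) = delta (w * t) := by
  have hss : t * t = 1 := h.sq t ht
  have hne : w * t ≠ w := fun he => by rw [he] at hlt; exact lt_irrefl _ hlt
  funext v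
  rw [Rop_apply]
  by_cases h1 : v = w * t
  · have e : v * t = w := by rw [h1, mul_assoc, hss, mul_one]
    rw [e, h1, if_pos hlt, delta_self, delta_self, delta_ne hne]
    ring
  · have h2 : v * t ≠ w := by
      intro he
      apply h1
      rw [← he, mul_assoc, hss, mul_one]
    rw [delta_ne h2, delta_ne h1]
    by_cases h3 : v = w
    · rw [h3, if_neg (by omega)]
      ring
    · rw [delta_ne h3]
      split_ifs <;> ring

/-! ### the chosen reduced word -/

theorem redWord_spec (h : InvGen S) (w : W) :
    IsWord S (redWord S w) ∧ (redWord S w).prod = w ∧ (redWord S w).length = len S w := by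
  unfold redWord
  rw [dif_pos (exists_reduced h w)]
  exact Classical.choose_spec (exists_reduced h w)

theorem redWord_isReduced (h : InvGen S) (w : W) : IsReduced S (redWord S w) := by
  obtain ⟨h1, h2, h3⟩ := redWord_spec h w
  exact ⟨h1, by rw [h2, h3]⟩

theorem redWord_one (h : InvGen S) : redWord S (1 : W) = [] := by
  obtain ⟨-, -, h3⟩ := redWord_spec h (1 : W)
  rw [len_one] at h3
  exact List.length_eq_zero_iff.mp h3

theorem redWord_simple (h : InvGen S) (hE : Exchange S) {s : W} (hs : s ∈ S) : redWord S s = [s] := by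
  obtain ⟨-, h2, h3⟩ := redWord_spec h s
  have hs1 : s ≠ 1 := fun he => one_not_mem hE (he ▸ hs)
  rw [len_simple h hs hs1] at h3
  obtain ⟨a, ha⟩ := List.length_eq_one_iff.mp h3
  rw [ha] at h2 ⊢
  simp at h2
  rw [h2]

theorem Tm_one (h : InvGen S) : Tm S u (1 : W) = 1 := by
  unfold Tm
  rw [redWord_one h]
  simp

theorem Tm_simple (h : InvGen S) (hE : Exchange S) {s : W} (hs : s ∈ S) : Tm S u s = Lop S u s := by
  unfold Tm
  rw [redWord_simple h hE hs]
  simp

/-! ### MODEL -/

theorem Tm_mem_gen (h : InvGen S)
    (hcomm : ∀ s ∈ S, ∀ t ∈ S, Lop S u s * Rop S u t = Rop S u t * Lop S u s) (x : W) :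
    Tm S u x ∈ gen S u := by
  unfold Tm
  apply Subalgebra.list_prod_mem
  intro a ha
  obtain ⟨s, hs, rfl⟩ := List.mem_map.mp ha
  have hsS : s ∈ S := (redWord_spec h x).1 s hs
  unfold gen
  rw [Subalgebra.mem_centralizer_iff]
  rintro _ ⟨t, ht, rfl⟩
  exact (hcomm s hsS t ht).symm

theorem prod_Lop_delta_one (h : InvGen S) (l : List W) (hl : IsReduced S l) :
    ((l.map (Lop S u)).prod) (delta 1) = delta l.prod := by
  induction l with
  | nil => simp
  | cons s l ih =>
    have hl' := hl.tail h
    have hs : s ∈ S := (isWord_cons.1 hl.1).1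
    rw [List.map_cons, List.prod_cons, Module.End.mul_apply, ih hl', List.prod_cons]
    apply Lop_delta_up u h hs
    have h1 := hl.2
    have h2 := hl'.2
    rw [List.prod_cons, List.length_cons] at h1
    omega

theorem Tm_delta_one (h : InvGen S) (hE : Exchange S) (x : W) :
    Tm S u x (delta 1) = delta x := by
  unfold Tm
  rw [prod_Lop_delta_one u h _ (redWord_isReduced h x), (redWord_spec h x).2.1]

theorem gen_comm_Rop {a : Module.End R (W → R)} (ha : a ∈ gen S u) {t : W} (ht : t ∈ S) (f : W → R) :
    a (Rop S u t f) = Rop S u t (a f) := by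
  have := (Subalgebra.mem_centralizer_iff R).mp ha (Rop S u t) ⟨t, ht, rfl⟩
  calc a (Rop S u t f) = (a * Rop S u t) f := rfl
    _ = (Rop S u t * a) f := by rw [this]
    _ = Rop S u t (a f) := rfl

theorem gen_ext_delta (h : InvGen S) (hE : Exchange S)
    {a b : Module.End R (W → R)} (ha : a ∈ gen S u) (hb : b ∈ gen S u)
    (hab : a (delta 1) = b (delta 1)) : ∀ (n : ℕ) (w : W), len S w = n → a (delta w) = b (delta w) := by
  intro n
  induction n with
  | zero =>
    intro w hw
    rw [(len_eq_zero_iff h).mp hw]
    exact hab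
  | succ n ih =>
    intro w hw
    obtain ⟨s, hs, hws⟩ := exists_mul_simple_of_len_succ h hw
    have hss : s * s = 1 := h.sq s hs
    have e : w * s * s = w := by rw [mul_assoc, hss, mul_one]
    have h1 : Rop S u s (delta (w * s)) = (delta w : W → R) := by
      rw [Rop_delta_up u h hs (w * s) (by rw [e]; omega), e]
    rw [← h1, gen_comm_Rop u ha hs, gen_comm_Rop u hb hs, ih (w * s) hws]

theorem eq_sum_delta [Fintype W] (f : W → R) : f = ∑ w : W, f w • (delta w : W → R) := by
  funext v
  rw [Finset.sum_apply]
  simp only [Pi.smul_apply, smul_eq_mul, delta_apply]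
  rw [Finset.sum_eq_single v]
  · simp
  · intro b _ hb
    rw [if_neg (Ne.symm hb), mul_zero]
  · intro hv
    exact absurd (Finset.mem_univ v) hv

theorem gen_ext [Finite W] (h : InvGen S) (hE : Exchange S)
    {a b : Module.End R (W → R)} (ha : a ∈ gen S u) (hb : b ∈ gen S u)
    (hab : a (delta 1) = b (delta 1)) : a = b := by
  cases nonempty_fintype W
  apply LinearMap.ext
  intro f
  rw [eq_sum_delta f, map_sum, map_sum]
  apply Finset.sum_congr rfl
  intro w _
  rw [map_smul, map_smul, gen_ext_delta u h hE ha hb hab _ w rfl]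

theorem linearIndependent_delta : LinearIndependent R (delta : W → W → R) := by
  refine linearIndependent_iff'.2 ?_
  intro s g hg i hi
  have h1 := congrFun hg i
  rw [Finset.sum_apply] at h1
  simp only [Pi.smul_apply, smul_eq_mul, Pi.zero_apply] at h1
  rw [Finset.sum_eq_single i] at h1
  · simpa [delta_apply] using h1
  · intro b _ hb
    rw [delta_ne (Ne.symm hb), mul_zero]
  · intro hi'
    exact absurd hi hi'

/-- evaluation at `delta 1` -/
noncomputable def evalOne : gen S u →ₗ[R] (W → R) where
  toFun a := (a : Module.End R (W → R)) (delta 1)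
  map_add' a b := rfl
  map_smul' c a := rfl

theorem isHecke_model [Finite W] (h : InvGen S) (hE : Exchange S)
    (hmem : ∀ x : W, Tm S u x ∈ gen S u) :
    IsHecke S u (fun x : W => (⟨Tm S u x, hmem x⟩ : gen S u)) := by
  cases nonempty_fintype W
  refine ⟨?_, ?_, ?_, ?_, ?_⟩
  · apply Subtype.ext
    exact Tm_one u h
  · intro s hs w hlt
    apply Subtype.ext
    show Tm S u s * Tm S u w = Tm S u (s * w)
    apply gen_ext u h hE (Subalgebra.mul_mem _ (hmem s) (hmem w)) (hmem _)
    rw [Module.End.mul_apply, Tm_delta_one u h hE, Tm_delta_one u h hE, Tm_simple u h hE hs,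
      Lop_delta_up u h hs w hlt]
  · intro s hs w hlt
    apply Subtype.ext
    show Tm S u s * Tm S u w = u • Tm S u (s * w) + (u - 1) • Tm S u w
    apply gen_ext u h hE (Subalgebra.mul_mem _ (hmem s) (hmem w))
      (Subalgebra.add_mem _ (Subalgebra.smul_mem _ (hmem _) _) (Subalgebra.smul_mem _ (hmem _) _))
    rw [Module.End.mul_apply, Tm_delta_one u h hE, Tm_simple u h hE hs, Lop_delta_down u h hs w hlt,
      LinearMap.add_apply, LinearMap.smul_apply, LinearMap.smul_apply, Tm_delta_one u h hE,
      Tm_delta_one u h hE]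
  · apply LinearIndependent.of_comp (evalOne (S := S) u)
    have e : (evalOne (S := S) u ∘ fun x : W => (⟨Tm S u x, hmem x⟩ : gen S u)) =
        (delta : W → W → R) := by
      funext x
      exact Tm_delta_one u h hE x
    rw [e]
    exact linearIndependent_delta
  · rw [eq_top_iff]
    rintro ⟨a, ha⟩ -
    have key : (⟨a, ha⟩ : gen S u) =
        ∑ x : W, (a (delta 1)) x • (⟨Tm S u x, hmem x⟩ : gen S u) := by
      apply Subtype.ext
      simp only [AddSubmonoidClass.coe_finsetSum, Subalgebra.coe_smul]
      apply gen_ext u h hE ha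
        (Subalgebra.sum_mem _ (fun x _ => Subalgebra.smul_mem _ (hmem x) _))
      rw [LinearMap.sum_apply]
      simp only [LinearMap.smul_apply, Tm_delta_one u h hE]
      exact eq_sum_delta _
    rw [key]
    apply Submodule.sum_mem
    intro x _
    apply Submodule.smul_mem
    exact Submodule.subset_span ⟨x, rfl⟩

end Cfsg.Agent.Lib.Helper99_HK_MODEL
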