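/-
Tits' deformation argument for Iwahori–Hecke algebras, by semicontinuity of the rank: two Iwahori–Hecke
algebras of the same `(W, S)` over `ℂ`, at non-zero parameters, on whose centres the Casimir map is
injective, have centres of the same dimension.
-/
import Mathlib
import Cfsg.Agent.Lib.Helper18_HkDefs
import Cfsg.Agent.Lib.Helper78_HK_COMM
import Cfsg.Agent.Lib.Helper78_HK_BASE
import Cfsg.Agent.Lib.Helper99_HK_MODEL
import Cfsg.Agent.Lib.Helper99_HK_UNIQ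
import Cfsg.Agent.Lib.Helper70_HK_TRACE
import Cfsg.Agent.Lib.Helper70_HK_CAS
import Cfsg.Agent.Lib.Helper55_HK_COORD
import Cfsg.Agent.Lib.Helper55_HK_RANK
import Cfsg.Agent.Lib.Helper35_HK_SEMI

set_option autoImplicit false

namespace Cfsg.Agent.Lib.Helper18_HkTits

open Cfsg.Agent.Lib.Helper6_Word Cfsg.Agent.Lib.Helper18_HkDefs
open Polynomial

attribute [local instance] Classical.propDecidable

variable {W : Type*} [Group W] [Fintype W] {S : Set W}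

omit [Fintype W] in
theorem Mad_map_eval (b : ℂ) : (Mad S (X : ℂ[X])).map (Polynomial.eval b) = Mad S b := by
  ext p x
  have h1 := Cfsg.Agent.Lib.Helper78_HK_BASE.cst_map (S := S) (X : ℂ[X]) (Polynomial.evalRingHom b) x p.1 p.2
  have h2 := Cfsg.Agent.Lib.Helper78_HK_BASE.cst_map (S := S) (X : ℂ[X]) (Polynomial.evalRingHom b) p.1 x p.2
  simp only [Polynomial.coe_evalRingHom, Polynomial.eval_X] at h1 h2
  simp only [Matrix.map_apply, Mad, Polynomial.eval_sub, h1, h2]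

theorem Mcas_map_eval (N : ℕ) (b : ℂ) :
    (Mcas S (X : ℂ[X]) N).map (Polynomial.eval b) = Mcas S b N := by
  ext z c
  have h1 : ∀ x y w : W, Polynomial.eval b (cst S (X : ℂ[X]) x y w) = cst S b x y w := by
    intro x y w
    have := Cfsg.Agent.Lib.Helper78_HK_BASE.cst_map (S := S) (X : ℂ[X]) (Polynomial.evalRingHom b) x y w
    simpa only [Polynomial.coe_evalRingHom, Polynomial.eval_X] using this.symm
  simp only [Matrix.map_apply, Mcas, Polynomial.eval_finsetSum, Polynomial.eval_mul,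
    Polynomial.eval_pow, Polynomial.eval_X, h1]

theorem tits (h : InvGen S) (hE : Exchange S) {a₁ a₂ : ℂ} (ha₁ : a₁ ≠ 0)
    (ha₂ : a₂ ≠ 0) {A₁ A₂ : Type*} [Ring A₁] [Algebra ℂ A₁] [Ring A₂] [Algebra ℂ A₂]
    {T₁ : W → A₁} {T₂ : W → A₂} (H₁ : IsHecke S a₁ T₁) (H₂ : IsHecke S a₂ T₂)
    (inj₁ : ∀ z ∈ Subalgebra.center ℂ A₁, cas S a₁ T₁ (maxLen S) z = 0 → z = 0)
    (inj₂ : ∀ z ∈ Subalgebra.center ℂ A₂, cas S a₂ T₂ (maxLen S) z = 0 → z = 0) :
    Module.finrank ℂ (Subalgebra.center ℂ A₁) = Module.finrank ℂ (Subalgebra.center ℂ A₂) := by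
  have hN : ∀ x : W, len S x ≤ maxLen S := fun x => Finset.le_sup (f := len S) (Finset.mem_univ x)
  set N := maxLen S with hNdef
  -- the general facts, for every non-zero parameter
  have hcomm : ∀ (c : ℂ), ∀ s ∈ S, ∀ t ∈ S, Lop S c s * Rop S c t = Rop S c t * Lop S c s :=
    fun c s hs t ht => Cfsg.Agent.Lib.Helper78_HK_COMM.Lop_mul_Rop c h hE hs ht
  have hmem : ∀ (c : ℂ) (x : W), Tm S c x ∈ gen S c := fun c x => Cfsg.Agent.Lib.Helper99_HK_MODEL.Tm_mem_gen c h (hcomm c) x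
  have htr : ∀ (c : ℂ) (x y : W), cst S c x y 1 = if x * y = 1 then c ^ len S x else 0 :=
    fun c x y => Cfsg.Agent.Lib.Helper70_HK_TRACE.cst_one c h hE (hmem c) (Cfsg.Agent.Lib.Helper99_HK_MODEL.Tm_delta_one c h hE)
      (fun a b ha hb hab => Cfsg.Agent.Lib.Helper99_HK_MODEL.gen_ext c h hE ha hb hab) x y
  have hmul₁ := Cfsg.Agent.Lib.Helper99_HK_UNIQ.mul_eq_sum_cst a₁ h hE H₁
  have hmul₂ := Cfsg.Agent.Lib.Helper99_HK_UNIQ.mul_eq_sum_cst a₂ h hE H₂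
  have hcas₁ := Cfsg.Agent.Lib.Helper70_HK_CAS.cas_comm h hE ha₁ H₁ hmul₁ (htr a₁) N hN
  have hcas₂ := Cfsg.Agent.Lib.Helper70_HK_CAS.cas_comm h hE ha₂ H₂ hmul₂ (htr a₂) N hN
  have e1 := Cfsg.Agent.Lib.Helper55_HK_RANK.rank_Mcas_eq H₁ N (Cfsg.Agent.Lib.Helper55_HK_COORD.cas_coord H₁ hmul₁ N) hcas₁ inj₁
  have e2 := Cfsg.Agent.Lib.Helper55_HK_RANK.rank_Mcas_eq H₂ N (Cfsg.Agent.Lib.Helper55_HK_COORD.cas_coord H₂ hmul₂ N) hcas₂ inj₂
  have f1 := Cfsg.Agent.Lib.Helper55_HK_RANK.finrank_center_add_rank H₁ (Cfsg.Agent.Lib.Helper55_HK_COORD.center_iff H₁ hmul₁)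
  have f2 := Cfsg.Agent.Lib.Helper55_HK_RANK.finrank_center_add_rank H₂ (Cfsg.Agent.Lib.Helper55_HK_COORD.center_iff H₂ hmul₂)
  have B1 := Cfsg.Agent.Lib.Helper35_HK_SEMI.rank_eval_finite (Mcas S (X : ℂ[X]) N) a₁
  have B2 := Cfsg.Agent.Lib.Helper35_HK_SEMI.rank_eval_finite (Mcas S (X : ℂ[X]) N) a₂
  have B3 := Cfsg.Agent.Lib.Helper35_HK_SEMI.rank_eval_finite (Mad S (X : ℂ[X])) a₁
  have B4 := Cfsg.Agent.Lib.Helper35_HK_SEMI.rank_eval_finite (Mad S (X : ℂ[X])) a₂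
  have hfin := ((B1.union B2).union (B3.union B4)).union (Set.finite_singleton (0 : ℂ))
  obtain ⟨b, hb⟩ := hfin.infinite_compl.nonempty
  simp only [Set.mem_compl_iff, Set.mem_union, Set.mem_ofPred_eq, Set.mem_singleton_iff, not_or,
    not_lt, Mcas_map_eval, Mad_map_eval] at hb
  obtain ⟨⟨⟨c1, c2⟩, c3, c4⟩, hb0⟩ := hb
  have Hm := Cfsg.Agent.Lib.Helper99_HK_MODEL.isHecke_model b h hE (hmem b)
  have hmulm := Cfsg.Agent.Lib.Helper99_HK_UNIQ.mul_eq_sum_cst b h hE Hm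
  have hcasm := Cfsg.Agent.Lib.Helper70_HK_CAS.cas_comm h hE hb0 Hm hmulm (htr b) N hN
  have g1 := Cfsg.Agent.Lib.Helper55_HK_RANK.rank_Mcas_le Hm N (Cfsg.Agent.Lib.Helper55_HK_COORD.cas_coord Hm hmulm N) hcasm
  have g2 := Cfsg.Agent.Lib.Helper55_HK_RANK.finrank_center_add_rank Hm (Cfsg.Agent.Lib.Helper55_HK_COORD.center_iff Hm hmulm)
  omega

end Cfsg.Agent.Lib.Helper18_HkTits
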