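/-
Definitions for the Hecke algebra of a finite group `G` relative to a subgroup `H`, realised as the
commutant `hkA H` of the permutation matrices on `G ⧸ H`; the idempotent `eH H` of the group algebra and the
centre `cornerCenter H` of the corner algebra `e ℂ[G] e`; and, for a (B, N)-pair `P`, the complex orbital
matrices `TP P w` (`w` in the Weyl group `W P` of `Helper6_BNPair`).  Nothing is proved here.
-/
import Mathlib
import Cfsg.Agent.Lib.Helper6_Hecke3
import Cfsg.Agent.Lib.Helper18_HkDefs

set_option autoImplicit false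

namespace Cfsg.Agent.Lib.Helper18_HkOrbDefs

open Cfsg Cfsg.Agent.Lib.Helper6_Word Cfsg.Agent.Lib.Helper6_BNPair Cfsg.Agent.Lib.Helper6_Hecke

attribute [local instance] Classical.propDecidable

section perm

variable {G : Type*} [Group G] [Finite G] (H : Subgroup G)

/-- the (noncomputable) `Fintype` structure on `G ⧸ H`; for `H = P.B` it is definitionally
`Helper6_Hecke.fintypeX P` -/
@[reducible] noncomputable def fintypeQ : Fintype (G ⧸ H) := Fintype.ofFinite _

attribute [local instance] fintypeQ

/-- the permutation matrix of `g` on `G ⧸ H` -/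
noncomputable def permMat (g : G) : Matrix (G ⧸ H) (G ⧸ H) ℂ := fun x y => if g • y = x then 1 else 0

/-- the Hecke algebra of `(G, H)`: the matrices commuting with all permutation matrices -/
noncomputable def hkA : Subalgebra ℂ (Matrix (G ⧸ H) (G ⧸ H) ℂ) :=
  Subalgebra.centralizer ℂ (Set.range (permMat H))

/-- the idempotent `|H|⁻¹ ∑_{h ∈ H} h` of the group algebra -/
noncomputable def eH : MonoidAlgebra ℂ G :=
  (Nat.card H : ℂ)⁻¹ • ∑ᶠ h : H, MonoidAlgebra.of ℂ G (h : G)

/-- the centre of the corner algebra `e ℂ[G] e`, `e = eH H`, as a set -/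
def cornerCenterSet : Set (MonoidAlgebra ℂ G) :=
  {z | eH H * z = z ∧ z * eH H = z ∧
    ∀ a : MonoidAlgebra ℂ G, (eH H * a * eH H) * z = z * (eH H * a * eH H)}

/-- the centre of the corner algebra `e ℂ[G] e`, as a subspace of the group algebra -/
noncomputable def cornerCenter : Submodule ℂ (MonoidAlgebra ℂ G) :=
  Submodule.span ℂ (cornerCenterSet H)

end perm

section orbital

variable {G : Type*} [Group G] [Finite G] (P : BNPair G)

attribute [local instance] fintypeX

/-- the complex orbital matrix of `w ∈ W P` -/
noncomputable def TP (w : W P) : Matrix (G ⧸ P.B) (G ⧸ P.B) ℂ := (AW P w).map (algebraMap ℚ ℂ)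

end orbital

end Cfsg.Agent.Lib.Helper18_HkOrbDefs
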