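/-
HK package ORB2 (S2319, architect helper18): the Casimir map of the orbital Hecke datum is injective on
the centre of the orbital algebra (positive definiteness of a Gram-type matrix).
-/
import Mathlib
import Cfsg.Agent.Lib.Helper18_HkOrbDefs

set_option autoImplicit false

namespace Cfsg.Agent.Lib.Helper26_HK_ORB2

open Cfsg Cfsg.Agent.Lib.Helper6_Word Cfsg.Agent.Lib.Helper6_BNPair Cfsg.Agent.Lib.Helper6_Hecke
  Cfsg.Agent.Lib.Helper18_HkDefs Cfsg.Agent.Lib.Helper18_HkOrbDefs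

open scoped ComplexOrder

attribute [local instance] Classical.propDecidable
attribute [local instance] fintypeX fintypeW

variable {G : Type*} [Group G] [Finite G] (P : BNPair G)

/-- the orbital matrix of `x⁻¹` is the transpose of that of `x` -/
theorem TP_inv (x : W P) : TP P x⁻¹ = (TP P x).transpose := by
  obtain ⟨n, rfl⟩ := π_surjective P x
  unfold TP
  rw [← map_inv, AW_π, AW_π, ← Matrix.transpose_map, A_transpose]
  rfl

omit [Finite G] in
/-- the orbital matrices are real: conjugate transpose = transpose -/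
theorem TP_conjTranspose (x : W P) : (TP P x).conjTranspose = (TP P x).transpose := by
  unfold TP
  ext a b
  simp [Matrix.conjTranspose_apply, Matrix.transpose_apply, Matrix.map_apply]

theorem TP_one : TP P 1 = 1 := by
  unfold TP
  rw [AW_one]
  ext a b
  simp [Matrix.map_apply, Matrix.one_apply]

theorem cas_orb_inj (q : ℕ) (hq0 : 0 < q) (hmem : ∀ w : W P, TP P w ∈ hkA P.B) (N : ℕ)
    (z : hkA P.B) (hz : z ∈ Subalgebra.center ℂ (hkA P.B))
    (h0 : cas (SW P) (q : ℂ) (fun w : W P => (⟨TP P w, hmem w⟩ : hkA P.B)) N z = 0) : z = 0 := by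
  -- z commutes with each TP x
  have hcomm : ∀ x : W P, TP P x * (z : Matrix (G ⧸ P.B) (G ⧸ P.B) ℂ) =
      (z : Matrix (G ⧸ P.B) (G ⧸ P.B) ℂ) * TP P x := by
    intro x
    have h1 := (Subalgebra.mem_center_iff.1 hz) (⟨TP P x, hmem x⟩ : hkA P.B)
    exact congrArg Subtype.val h1
  -- the Gram-type matrix
  set Pm : Matrix (G ⧸ P.B) (G ⧸ P.B) ℂ :=
    ∑ x : W P, ((q : ℂ) ^ (N - len (SW P) x)) • (TP P x * (TP P x).conjTranspose) with hPm
  have hval : (z : Matrix (G ⧸ P.B) (G ⧸ P.B) ℂ) * Pm = 0 := by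
    have h1 := congrArg Subtype.val h0
    unfold cas at h1
    rw [hPm, Finset.mul_sum]
    rw [ZeroMemClass.coe_zero] at h1
    rw [← h1]
    rw [AddSubmonoidClass.coe_finsetSum]
    refine Finset.sum_congr rfl (fun x _ => ?_)
    rw [Subalgebra.coe_smul, Subalgebra.coe_mul, Subalgebra.coe_mul]
    show _ = _ • (TP P x * (z : Matrix (G ⧸ P.B) (G ⧸ P.B) ℂ) * TP P x⁻¹)
    rw [hcomm x, TP_inv, TP_conjTranspose, Matrix.mul_smul, Matrix.mul_assoc]
  -- positivity
  have hq : (0 : ℂ) < (q : ℂ) := by exact_mod_cast hq0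
  have hpd : Pm.PosDef := by
    rw [hPm, ← Finset.add_sum_erase Finset.univ _ (Finset.mem_univ (1 : W P))]
    refine Matrix.PosDef.add_posSemidef ?_ ?_
    · rw [TP_one, Matrix.conjTranspose_one, Matrix.one_mul]
      exact Matrix.PosDef.smul Matrix.PosDef.one (pow_pos hq _)
    · refine Matrix.posSemidef_sum _ (fun x _ => ?_)
      exact Matrix.PosSemidef.smul (Matrix.posSemidef_self_mul_conjTranspose _) (pow_pos hq _).le
  have hu : IsUnit Pm := hpd.isUnit
  obtain ⟨u, hu'⟩ := hu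
  apply Subtype.ext
  rw [ZeroMemClass.coe_zero]
  have h2 : (z : Matrix (G ⧸ P.B) (G ⧸ P.B) ℂ) * Pm * (↑u⁻¹ : Matrix (G ⧸ P.B) (G ⧸ P.B) ℂ) = 0 := by
    rw [hval, Matrix.zero_mul]
  rw [Matrix.mul_assoc, ← hu', Units.mul_inv, Matrix.mul_one] at h2
  exact h2

end Cfsg.Agent.Lib.Helper26_HK_ORB2
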