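import Mathlib
import Cfsg.Agent.Lib.Helper18_HkDefs

set_option autoImplicit false
set_option linter.unusedSectionVars false

/-!
# S2319 package GRP (helper35, for helper18): the group algebra is the Hecke algebra at `u = 1`
-/

namespace Cfsg.Agent.Lib.Helper35_HK_GRP

open Cfsg.Agent.Lib.Helper6_Word Cfsg.Agent.Lib.Helper18_HkDefs

attribute [local instance] Classical.propDecidable

variable {W : Type*} [Group W] [Fintype W] {S : Set W}

theorem isHecke_grp (S : Set W) :
    IsHecke S (1 : ℂ) (fun w : W => MonoidAlgebra.of ℂ W w) := by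
  have hfun : (fun w : W => MonoidAlgebra.of ℂ W w) = ⇑(MonoidAlgebra.basis W ℂ) := by
    funext w
    rw [MonoidAlgebra.basis_apply, MonoidAlgebra.of_apply]
  refine ⟨map_one _, ?_, ?_, ?_, ?_⟩
  · intro s _ w _
    exact (map_mul (MonoidAlgebra.of ℂ W) s w).symm
  · intro s _ w _
    rw [one_smul, sub_self, zero_smul, add_zero]
    exact (map_mul (MonoidAlgebra.of ℂ W) s w).symm
  · rw [hfun]
    exact (MonoidAlgebra.basis W ℂ).linearIndependent
  · rw [hfun]
    exact (MonoidAlgebra.basis W ℂ).span_eq

theorem cas_grp_inj (N : ℕ) (z : MonoidAlgebra ℂ W) (hz : z ∈ Subalgebra.center ℂ (MonoidAlgebra ℂ W))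
    (h0 : cas S (1 : ℂ) (fun w : W => MonoidAlgebra.of ℂ W w) N z = 0) : z = 0 := by
  rw [Subalgebra.mem_center_iff] at hz
  have h1 : ∀ x : W, (1 : ℂ) ^ (N - len S x) •
      (MonoidAlgebra.of ℂ W x * z * MonoidAlgebra.of ℂ W x⁻¹) = z := by
    intro x
    rw [one_pow, one_smul, hz (MonoidAlgebra.of ℂ W x), mul_assoc, ← map_mul, mul_inv_cancel, map_one,
      mul_one]
  unfold cas at h0
  rw [Finset.sum_congr rfl (fun x _ => h1 x), Finset.sum_const, Finset.card_univ] at h0
  have hne : (Fintype.card W : ℂ) ≠ 0 := Nat.cast_ne_zero.mpr Fintype.card_ne_zero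
  rw [← Nat.cast_smul_eq_nsmul ℂ] at h0
  exact (smul_eq_zero.mp h0).resolve_left hne

/-- the class-function map -/
noncomputable def classMap : (ConjClasses W → ℂ) →ₗ[ℂ] MonoidAlgebra ℂ W where
  toFun f := MonoidAlgebra.ofCoeff (Finsupp.equivFunOnFinite.symm fun g => f (ConjClasses.mk g))
  map_add' f g := by
    apply MonoidAlgebra.ext
    ext w
    simp [MonoidAlgebra.coeff_add]
  map_smul' c f := by
    apply MonoidAlgebra.ext
    ext w
    simp [MonoidAlgebra.coeff_smul]

theorem classMap_coeff (f : ConjClasses W → ℂ) (g : W) : (classMap f).coeff g = f (ConjClasses.mk g) := by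
  simp [classMap]

theorem classMap_injective : Function.Injective (classMap (W := W)) := by
  intro f f' h
  funext c
  obtain ⟨g, rfl⟩ := ConjClasses.mk_surjective c
  have h1 := classMap_coeff f g
  have h2 := classMap_coeff f' g
  rw [← h1, ← h2, h]

theorem central_iff (z : MonoidAlgebra ℂ W) :
    z ∈ Subalgebra.center ℂ (MonoidAlgebra ℂ W) ↔ ∀ g h : W, z.coeff (h * g * h⁻¹) = z.coeff g := by
  rw [Subalgebra.mem_center_iff]
  constructor
  · intro hz g h
    have h1 := congrArg (fun y : MonoidAlgebra ℂ W => y.coeff (h * g)) (hz (MonoidAlgebra.single h 1))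
    simp only [MonoidAlgebra.coeff_single_mul_apply, MonoidAlgebra.coeff_mul_single_apply, one_mul, mul_one,
      inv_mul_cancel_left] at h1
    exact h1.symm
  · intro hz b
    induction b using MonoidAlgebra.induction_on with
    | of h =>
      rw [MonoidAlgebra.of_apply]
      apply MonoidAlgebra.ext
      ext g
      rw [MonoidAlgebra.coeff_single_mul_apply, MonoidAlgebra.coeff_mul_single_apply, one_mul, mul_one]
      have := hz (h⁻¹ * g) h
      rw [← this]
      congr 1
      group
    | add x y hx hy => rw [add_mul, mul_add, hx, hy]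
    | smul r x hx => rw [smul_mul_assoc, mul_smul_comm, hx]

theorem range_classMap :
    LinearMap.range (classMap (W := W)) = Subalgebra.toSubmodule (Subalgebra.center ℂ (MonoidAlgebra ℂ W)) := by
  ext z
  rw [Subalgebra.mem_toSubmodule, central_iff]
  constructor
  · rintro ⟨f, rfl⟩ g h
    rw [classMap_coeff, classMap_coeff]
    congr 1
    rw [ConjClasses.mk_eq_mk_iff_isConj, isConj_iff]
    exact ⟨h⁻¹, by group⟩
  · intro hz
    refine ⟨fun c => Quotient.liftOn c (fun g => z.coeff g) ?_, ?_⟩
    · intro a b hab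
      obtain ⟨c, hc⟩ := isConj_iff.mp hab
      show z.coeff a = z.coeff b
      rw [← hc, hz]
    · apply MonoidAlgebra.ext
      ext g
      rw [classMap_coeff]
      rfl

theorem finrank_center_grp :
    Module.finrank ℂ (Subalgebra.center ℂ (MonoidAlgebra ℂ W)) = Nat.card (ConjClasses W) := by
  rw [← Subalgebra.finrank_toSubmodule, ← range_classMap,
    LinearMap.finrank_range_of_inj classMap_injective, Module.finrank_fintype_fun_eq_card,
    Nat.card_eq_fintype_card]

end Cfsg.Agent.Lib.Helper35_HK_GRP
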