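import Mathlib
import Cfsg.Prelude.Def_Characters
import Cfsg.Prelude.Def_ParabolicCharacters
import Cfsg.Agent.Lib.Helper18_HkOrbDefs
import Cfsg.Agent.Lib.Helper80_CharComplete
import Cfsg.Agent.Lib.Helper75_CharArith
import Cfsg.Agent.Lib.Helper39_CharTools
import Cfsg.Agent.Lib.Helper81_UnipGL

set_option autoImplicit false
set_option linter.unusedSectionVars false

/-!
HK package REP2 (helper18's market, S2319): the dimension of the centre of the corner algebra `e ℂ[G] e`,
`e = eH H`, is the number of irreducible constituents of the permutation character `1_H^G`.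
-/

namespace Cfsg.Agent.Lib.Helper46_HK_REP2

open Cfsg Cfsg.Agent.Lib.Helper18_HkOrbDefs
open scoped ComplexConjugate

attribute [local instance] Classical.propDecidable
attribute [local instance] fintypeQ

variable {G : Type*} [Group G] [Finite G] (H : Subgroup G)

/-! ### the idempotent `eH H` -/

omit [Finite G] in
theorem eH_eq [Fintype H] :
    eH H = (Nat.card H : ℂ)⁻¹ • ∑ h : H, MonoidAlgebra.of ℂ G (h : G) := by
  unfold eH
  rw [finsum_eq_sum_of_fintype]

theorem eH_mul_eH : eH H * eH H = eH H := by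
  have : Fintype H := Fintype.ofFinite H
  have hne : (Nat.card H : ℂ) ≠ 0 := by exact_mod_cast Nat.card_pos.ne'
  rw [eH_eq]
  set S : MonoidAlgebra ℂ G := ∑ h : H, MonoidAlgebra.of ℂ G (h : G) with hS
  have hSS : S * S = (Nat.card H : ℂ) • S := by
    have hrow : ∀ h : H, MonoidAlgebra.of ℂ G (h : G) * S = S := by
      intro h
      rw [hS, Finset.mul_sum]
      simp_rw [← map_mul]
      exact Fintype.sum_equiv (Equiv.mulLeft h) _ _ (fun h' => by simp)
    conv_lhs => rw [hS, Finset.sum_mul]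
    rw [Finset.sum_congr rfl (fun h _ => hrow h), Finset.sum_const, Finset.card_univ,
      Nat.card_eq_fintype_card, Nat.cast_smul_eq_nsmul]
  rw [smul_mul_smul_comm, hSS, smul_smul]
  congr 1
  field_simp

/-! ### a matrix lemma -/

theorem mul_single_mul_apply {d : ℕ} (A B : Matrix (Fin d) (Fin d) ℂ) (j a p b : Fin d) :
    (A * Matrix.single j a (1 : ℂ) * B) p b = A p j * B a b := by
  rw [Matrix.mul_apply, Finset.sum_eq_single a]
  · rw [Matrix.mul_single_apply_same, mul_one]
  · intro r _ hr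
    rw [Matrix.mul_single_apply_of_ne _ _ _ _ _ hr, zero_mul]
  · intro h
    exact absurd (Finset.mem_univ a) h

theorem scalar_of_corner {d : ℕ} (E z : Matrix (Fin d) (Fin d) ℂ) (h1 : E * z = z)
    (h2 : z * E = z)
    (h3 : ∀ M : Matrix (Fin d) (Fin d) ℂ, (E * M * E) * z = z * (E * M * E)) :
    ∃ c : ℂ, z = c • E := by
  by_cases hE : E = 0
  · refine ⟨0, ?_⟩
    rw [← h1, hE, zero_mul, zero_smul]
  · obtain ⟨a, b, hab⟩ : ∃ a b, E a b ≠ 0 := by
      by_contra hcon
      push Not at hcon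
      exact hE (Matrix.ext hcon)
    refine ⟨z a b / E a b, ?_⟩
    ext p j
    have h := congrFun (congrFun (h3 (Matrix.single j a (1 : ℂ))) p) b
    have hL : ((E * Matrix.single j a (1 : ℂ) * E) * z) p b = E p j * z a b := by
      rw [Matrix.mul_assoc (E * Matrix.single j a (1 : ℂ)) E z, h1, mul_single_mul_apply]
    have hR : (z * (E * Matrix.single j a (1 : ℂ) * E)) p b = z p j * E a b := by
      rw [← Matrix.mul_assoc z (E * Matrix.single j a (1 : ℂ)) E, ← Matrix.mul_assoc z E, h2,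
        mul_single_mul_apply]
    rw [hL, hR] at h
    rw [Matrix.smul_apply, smul_eq_mul]
    field_simp
    linear_combination -h

/-! ### the centre of the corner algebra in Wedderburn coordinates -/

section wedderburn

variable {n : ℕ} {d : Fin n → ℕ}
  (Φ : MonoidAlgebra ℂ G ≃ₐ[ℂ] Π i, Matrix (Fin (d i)) (Fin (d i)) ℂ)

theorem E_idem (i : Fin n) : Φ (eH H) i * Φ (eH H) i = Φ (eH H) i := by
  have h := congrFun (congrArg Φ (eH_mul_eH H)) i
  rwa [map_mul, Pi.mul_apply] at h

/-- the parametrisation `(c_i) ↦ (c_i E_i)` in Wedderburn coordinates -/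
noncomputable def lam0 : ({i : Fin n // Φ (eH H) i ≠ 0} → ℂ) →ₗ[ℂ]
    (Π i, Matrix (Fin (d i)) (Fin (d i)) ℂ) where
  toFun c i := if h : Φ (eH H) i ≠ 0 then c ⟨i, h⟩ • Φ (eH H) i else 0
  map_add' c c' := by
    funext i
    by_cases h : Φ (eH H) i ≠ 0
    · simp [h, add_smul]
    · have h' : Φ (eH H) i = 0 := not_not.mp h
      simp [h']
  map_smul' r c := by
    funext i
    by_cases h : Φ (eH H) i ≠ 0
    · simp [h, mul_smul]
    · have h' : Φ (eH H) i = 0 := not_not.mp h
      simp [h']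

theorem lam0_apply_of_ne (c : {i : Fin n // Φ (eH H) i ≠ 0} → ℂ) (i : Fin n)
    (h : Φ (eH H) i ≠ 0) : lam0 H Φ c i = c ⟨i, h⟩ • Φ (eH H) i := by
  show (if h : Φ (eH H) i ≠ 0 then c ⟨i, h⟩ • Φ (eH H) i else 0) = _
  rw [dif_pos h]

theorem lam0_apply_of_eq (c : {i : Fin n // Φ (eH H) i ≠ 0} → ℂ) (i : Fin n)
    (h : Φ (eH H) i = 0) : lam0 H Φ c i = 0 := by
  show (if h : Φ (eH H) i ≠ 0 then c ⟨i, h⟩ • Φ (eH H) i else 0) = _
  rw [dif_neg (not_not.mpr h)]

theorem lam0_apply_exists (c : {i : Fin n // Φ (eH H) i ≠ 0} → ℂ) (i : Fin n) :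
    ∃ r : ℂ, lam0 H Φ c i = r • Φ (eH H) i := by
  by_cases h : Φ (eH H) i ≠ 0
  · exact ⟨_, lam0_apply_of_ne H Φ c i h⟩
  · refine ⟨0, ?_⟩
    rw [lam0_apply_of_eq H Φ c i (not_not.mp h), zero_smul]

theorem lam0_injective : Function.Injective (lam0 H Φ) := by
  intro c c' hcc
  funext i
  have h := congrFun hcc i.1
  rw [lam0_apply_of_ne H Φ c i.1 i.2, lam0_apply_of_ne H Φ c' i.1 i.2] at h
  have h' : (c i - c' i) • Φ (eH H) i.1 = 0 := by rw [sub_smul, h, sub_self]
  rcases smul_eq_zero.mp h' with h0 | h0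
  · exact sub_eq_zero.mp h0
  · exact absurd h0 i.2

/-- the parametrisation of the centre of the corner algebra -/
noncomputable def lam : ({i : Fin n // Φ (eH H) i ≠ 0} → ℂ) →ₗ[ℂ] MonoidAlgebra ℂ G :=
  Φ.symm.toLinearMap ∘ₗ lam0 H Φ

theorem lam_injective : Function.Injective (lam H Φ) := by
  intro c c' h
  exact lam0_injective H Φ (Φ.symm.injective h)

theorem apply_lam (c : {i : Fin n // Φ (eH H) i ≠ 0} → ℂ) : Φ (lam H Φ c) = lam0 H Φ c := by
  show Φ (Φ.symm (lam0 H Φ c)) = _
  rw [AlgEquiv.apply_symm_apply]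

theorem mem_cornerCenterSet_iff (z : MonoidAlgebra ℂ G) :
    z ∈ cornerCenterSet H ↔ z ∈ LinearMap.range (lam H Φ) := by
  constructor
  · rintro ⟨h1, h2, h3⟩
    have hc : ∀ i, ∃ c : ℂ, Φ z i = c • Φ (eH H) i := by
      intro i
      apply scalar_of_corner
      · have := congrFun (congrArg Φ h1) i
        rwa [map_mul, Pi.mul_apply] at this
      · have := congrFun (congrArg Φ h2) i
        rwa [map_mul, Pi.mul_apply] at this
      · intro M
        have := congrFun (congrArg Φ (h3 (Φ.symm (Pi.single i M)))) i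
        simp only [map_mul, Pi.mul_apply, AlgEquiv.apply_symm_apply, Pi.single_eq_same] at this
        exact this
    choose c hc using hc
    refine ⟨fun i => c i.1, ?_⟩
    apply Φ.injective
    rw [apply_lam]
    funext i
    by_cases h : Φ (eH H) i ≠ 0
    · rw [lam0_apply_of_ne H Φ _ i h, hc i]
    · rw [lam0_apply_of_eq H Φ _ i (not_not.mp h), hc i, not_not.mp h, smul_zero]
  · rintro ⟨c, rfl⟩
    have hcomp : ∀ i, ∃ r : ℂ, Φ (lam H Φ c) i = r • Φ (eH H) i := by
      intro i
      rw [apply_lam]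
      exact lam0_apply_exists H Φ c i
    refine ⟨?_, ?_, ?_⟩
    · apply Φ.injective
      funext i
      obtain ⟨r, hr⟩ := hcomp i
      rw [map_mul, Pi.mul_apply, hr, Matrix.mul_smul, E_idem]
    · apply Φ.injective
      funext i
      obtain ⟨r, hr⟩ := hcomp i
      rw [map_mul, Pi.mul_apply, hr, Matrix.smul_mul, E_idem]
    · intro a
      apply Φ.injective
      funext i
      obtain ⟨r, hr⟩ := hcomp i
      simp only [map_mul, Pi.mul_apply, hr, Matrix.mul_smul, Matrix.smul_mul]
      rw [Matrix.mul_assoc, E_idem, ← Matrix.mul_assoc, ← Matrix.mul_assoc, E_idem]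

theorem cornerCenter_eq_range : cornerCenter H = LinearMap.range (lam H Φ) := by
  have hset : cornerCenterSet H = (LinearMap.range (lam H Φ) : Set (MonoidAlgebra ℂ G)) :=
    Set.ext (fun z => mem_cornerCenterSet_iff H Φ z)
  unfold cornerCenter
  rw [hset, Submodule.span_eq]

theorem finrank_cornerCenter_eq :
    Module.finrank ℂ (cornerCenter H) = Nat.card {i : Fin n // Φ (eH H) i ≠ 0} := by
  rw [cornerCenter_eq_range H Φ, LinearMap.finrank_range_of_inj (lam_injective H Φ),
    Module.finrank_fintype_fun_eq_card, Nat.card_eq_fintype_card]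

/-! ### the Wedderburn components and the irreducible characters -/

open Cfsg.Agent.Lib.Helper80_CharComplete in
theorem compIrr_injective [∀ i, NeZero (d i)] : Function.Injective (compIrr Φ) := by
  intro i j hij
  by_contra hne
  have hchar : ∀ g : G, (Φ (MonoidAlgebra.of ℂ G g) i).trace =
      (Φ (MonoidAlgebra.of ℂ G g) j).trace := by
    intro g
    have := congrFun (congrArg Subtype.val hij) g
    simp only [compIrr] at this
    rwa [compRep_character, compRep_character] at this
  have hall : ∀ a : MonoidAlgebra ℂ G, (Φ a i).trace = (Φ a j).trace := by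
    intro a
    induction a using MonoidAlgebra.induction_on with
    | of g => exact hchar g
    | add x y hx hy => simp only [map_add, Pi.add_apply, Matrix.trace_add, hx, hy]
    | smul r x hx => simp only [map_smul, Pi.smul_apply, Matrix.trace_smul, hx]
  have h := hall (Φ.symm (Pi.single i 1))
  rw [AlgEquiv.apply_symm_apply, Pi.single_eq_same, Pi.single_eq_of_ne (Ne.symm hne),
    Matrix.trace_one, Matrix.trace_zero, Fintype.card_fin] at h
  exact (NeZero.ne (d i)) (by exact_mod_cast h)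

/-- `E i ≠ 0` iff its trace is nonzero (`E i` is idempotent) -/
theorem E_ne_zero_iff (i : Fin n) : Φ (eH H) i ≠ 0 ↔ (Φ (eH H) i).trace ≠ 0 := by
  have hid : IsIdempotentElem (Matrix.toLin' (Φ (eH H) i)) := by
    show Matrix.toLin' (Φ (eH H) i) * Matrix.toLin' (Φ (eH H) i) = _
    rw [Module.End.mul_eq_comp, ← Matrix.toLin'_mul, E_idem]
  have h := LinearMap.IsIdempotentElem.trace_eq_zero_iff hid
  rw [Matrix.trace_toLin'_eq] at h
  rw [Ne, Ne, h, LinearEquiv.map_eq_zero_iff]

open Cfsg.Agent.Lib.Helper80_CharComplete in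
theorem trace_E (i : Fin n) [Fintype H] :
    (Φ (eH H) i).trace = (Nat.card H : ℂ)⁻¹ * ∑ h : H, (compRep Φ i).character (h : G) := by
  rw [eH_eq, map_smul, map_sum, Pi.smul_apply, Finset.sum_apply, Matrix.trace_smul,
    Matrix.trace_sum, smul_eq_mul]
  congr 1
  apply Finset.sum_congr rfl
  intro h _
  rw [compRep_character]

end wedderburn

/-! ### Frobenius reciprocity for the permutation character -/

theorem sum_fpc_mul [Fintype G] [Fintype H] (F : G → ℂ) (hF : ∀ g y : G, F (y * g * y⁻¹) = F g) :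
    ∑ g : G, fixedPointCharacter H g * F g = (Nat.card (G ⧸ H) : ℂ) * ∑ h : H, F h := by
  have hπ : ∀ g : G, fixedPointCharacter H g = ∑ x : G ⧸ H, if g • x = x then (1 : ℂ) else 0 := by
    intro g
    unfold fixedPointCharacter
    rw [Nat.card_eq_fintype_card, Fintype.card_subtype, Finset.card_filter]
    push_cast
    rfl
  simp_rw [hπ, Finset.sum_mul]
  rw [Finset.sum_comm]
  have hx : ∀ x : G ⧸ H, ∑ g : G, (if g • x = x then (1 : ℂ) else 0) * F g = ∑ h : H, F h := by
    intro x
    induction x using QuotientGroup.induction_on with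
    | H y =>
      have h1 : ∀ g : G, (g • (y : G ⧸ H) = y) ↔ y⁻¹ * g * y ∈ H := by
        intro g
        rw [MulAction.Quotient.smul_mk, smul_eq_mul, eq_comm, QuotientGroup.eq]
        rw [mul_assoc]
      simp_rw [h1]
      rw [← Fintype.sum_equiv (MulAut.conj y).toEquiv
        (fun g' => (if g' ∈ H then (1 : ℂ) else 0) * F g')
        (fun g => (if y⁻¹ * g * y ∈ H then (1 : ℂ) else 0) * F g)
        (fun g' => by
          have e : y⁻¹ * (y * g' * y⁻¹) * y = g' := by group
          simp [MulAut.conj_apply, e, hF])]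
      simp only [ite_mul, one_mul, zero_mul]
      rw [← Finset.sum_filter]
      exact Finset.sum_subtype (Finset.univ.filter (· ∈ H)) (fun g => by simp) F
  rw [Finset.sum_congr rfl (fun x _ => hx x), Finset.sum_const, Finset.card_univ,
    Nat.card_eq_fintype_card, nsmul_eq_mul]

theorem classInner_fpc [Fintype G] [Fintype H] (χ : G → ℂ) (hχ : IsClassFunction G χ) :
    classInner (fixedPointCharacter H) χ = (Nat.card H : ℂ)⁻¹ * ∑ h : H, conj (χ (h : G)) := by
  unfold classInner
  rw [sum_fpc_mul H (fun g => conj (χ g)) (fun g y => by rw [hχ g y])]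
  have hcard : (Nat.card G : ℂ) = (Nat.card (G ⧸ H) : ℂ) * (Nat.card H : ℂ) := by
    rw [← Nat.cast_mul, ← Subgroup.card_eq_card_quotient_mul_card_subgroup]
  have h1 : (Nat.card (G ⧸ H) : ℂ) ≠ 0 := by exact_mod_cast Nat.card_pos.ne'
  have h2 : (Nat.card H : ℂ) ≠ 0 := by exact_mod_cast Nat.card_pos.ne'
  rw [hcard]
  field_simp

/-- being a constituent of the permutation character -/
theorem constituent_iff [Fintype G] (χ : IrrCharacter G) :
    (∃ φ : G → ℂ, IsCharacter G φ ∧ fixedPointCharacter H = (χ : G → ℂ) + φ) ↔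
      classInner (fixedPointCharacter H) (χ : G → ℂ) ≠ 0 := by
  constructor
  · rintro ⟨φ, hφ, hπ⟩
    rw [hπ, Cfsg.Agent.Lib.Helper3_CharOrtho.classInner_add_left,
      Cfsg.Agent.Lib.Helper3_CharOrtho.classInner_irr χ.2 χ.2, if_pos rfl]
    obtain ⟨m, hm⟩ := Cfsg.Agent.Lib.Helper75_CharArith.classInner_isCharacter_nat hφ
      (Cfsg.Agent.Lib.Helper3_CharBridge.isCharacter_of_isIrrCharacter χ.2)
    rw [hm]
    have : ((1 : ℂ) + (m : ℂ)) = ((1 + m : ℕ) : ℂ) := by push_cast; ring
    rw [this]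
    exact_mod_cast (by omega : 1 + m ≠ 0)
  · intro h
    refine ⟨fixedPointCharacter H - (χ : G → ℂ),
      Cfsg.Agent.Lib.Helper39_CharTools.isCharacter_sub_irr
        (Cfsg.Agent.Lib.Helper81_UnipGL.isCharacter_fpc H) χ.2 h, ?_⟩
    abel

open Cfsg.Agent.Lib.Helper80_CharComplete in
theorem key {n : ℕ} {d : Fin n → ℕ}
    (Φ : MonoidAlgebra ℂ G ≃ₐ[ℂ] Π i, Matrix (Fin (d i)) (Fin (d i)) ℂ) [∀ i, NeZero (d i)]
    (i : Fin n) :
    Φ (eH H) i ≠ 0 ↔ ∃ φ : G → ℂ, IsCharacter G φ ∧
      fixedPointCharacter H = ((compIrr Φ i : IrrCharacter G) : G → ℂ) + φ := by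
  have : Fintype G := Fintype.ofFinite G
  have : Fintype H := Fintype.ofFinite H
  rw [constituent_iff H (compIrr Φ i), classInner_fpc H _ (irr_isClassFunction _),
    E_ne_zero_iff, trace_E]
  have hc : (Nat.card H : ℂ)⁻¹ * ∑ h : H, conj (((compIrr Φ i : IrrCharacter G) : G → ℂ) h) =
      conj ((Nat.card H : ℂ)⁻¹ * ∑ h : H, (compRep Φ i).character (h : G)) := by
    rw [map_mul, map_inv₀, Complex.conj_natCast, map_sum]
    rfl
  rw [hc, Ne, Ne, map_eq_zero]

/-- **HK-REP2**. -/
theorem finrank_cornerCenter :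
    Module.finrank ℂ (cornerCenter H) =
      Nat.card {χ : Cfsg.IrrCharacter G // ∃ φ : G → ℂ, Cfsg.IsCharacter G φ ∧
        Cfsg.fixedPointCharacter H = (χ : G → ℂ) + φ} := by
  obtain ⟨n, d, hd, ⟨Φ⟩⟩ := Cfsg.Agent.Lib.Helper80_CharComplete.exists_wedderburn G
  have := hd
  rw [finrank_cornerCenter_eq H Φ]
  exact Nat.card_congr (Equiv.subtypeEquiv
    (Equiv.ofBijective _ ⟨compIrr_injective Φ,
      Cfsg.Agent.Lib.Helper80_CharComplete.compIrr_surjective Φ⟩)
    (fun i => key H Φ i))

end Cfsg.Agent.Lib.Helper46_HK_REP2
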