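import Mathlib
import Cfsg.Prelude.Def_Characters
import Cfsg.Prelude.Def_ParabolicCharacters
import Cfsg.Agent.Lib.Helper18_HkOrbDefs

/-!
# S2319 package REP1 (helper18's market `hk_packages`)

The commutant `hkA H` of the permutation matrices on `G ⧸ H` is the corner algebra `e ℂ[G] e`,
`e = eH H`; consequence: the centres have the same dimension.
-/

set_option autoImplicit false
set_option linter.unusedSectionVars false

namespace Cfsg.Agent.Lib.Helper51_HK_REP1

open Cfsg Cfsg.Agent.Lib.Helper18_HkOrbDefs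

attribute [local instance] Classical.propDecidable
attribute [local instance] fintypeQ

variable {G : Type*} [Group G] [Finite G] (H : Subgroup G)

/-- membership in `hkA H`: invariance under the diagonal action -/
theorem mem_hkA_iff (M : Matrix (G ⧸ H) (G ⧸ H) ℂ) :
    M ∈ hkA H ↔ ∀ (g : G) (x y : G ⧸ H), M (g • x) (g • y) = M x y := by
  unfold hkA
  rw [Subalgebra.mem_centralizer_iff]
  have key : ∀ g : G, (permMat H g * M = M * permMat H g) ↔ ∀ x y : G ⧸ H, M (g⁻¹ • x) y = M x (g • y) := by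
    intro g
    constructor
    · intro h x y
      have := congrFun (congrFun h x) y
      simp only [Matrix.mul_apply, permMat] at this
      rw [Finset.sum_eq_single (g⁻¹ • x), Finset.sum_eq_single (g • y)] at this
      · simpa using this
      · intro b _ hb; rw [if_neg (fun h' => hb h'.symm), mul_zero]
      · intro h'; exact absurd (Finset.mem_univ _) h'
      · intro b _ hb
        rw [if_neg, zero_mul]
        intro h'; apply hb; rw [← h', inv_smul_smul]
      · intro h'; exact absurd (Finset.mem_univ _) h'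
    · intro h
      ext x y
      simp only [Matrix.mul_apply, permMat]
      rw [Finset.sum_eq_single (g⁻¹ • x), Finset.sum_eq_single (g • y)]
      · simpa using h x y
      · intro b _ hb; rw [if_neg (fun h' => hb h'.symm), mul_zero]
      · intro h'; exact absurd (Finset.mem_univ _) h'
      · intro b _ hb
        rw [if_neg, zero_mul]
        intro h'; apply hb; rw [← h', inv_smul_smul]
      · intro h'; exact absurd (Finset.mem_univ _) h'
  constructor
  · intro h g x y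
    have h1 := (key g).mp (h _ ⟨g, rfl⟩) (g • x) y
    rw [inv_smul_smul] at h1
    exact h1.symm
  · rintro h _ ⟨g, rfl⟩
    rw [key g]
    intro x y
    have := h g (g⁻¹ • x) y
    rw [smul_inv_smul] at this
    exact this.symm


/-- a `Fintype` structure on a finite type (local use only) -/
@[reducible] noncomputable def ftOf (α : Type*) [Finite α] : Fintype α := Fintype.ofFinite α

attribute [local instance] ftOf

theorem card_ne_zero : (Nat.card H : ℂ) ≠ 0 := by
  exact_mod_cast (Nat.card_pos (α := H)).ne'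

theorem eH_eq : eH H = (Nat.card H : ℂ)⁻¹ • ∑ h : H, MonoidAlgebra.single (h : G) (1 : ℂ) := by
  unfold eH
  rw [finsum_eq_sum_of_fintype]
  rfl

theorem coeff_eH_mul (a : MonoidAlgebra ℂ G) (g : G) :
    (eH H * a).coeff g = (Nat.card H : ℂ)⁻¹ * ∑ h : H, a.coeff ((h : G)⁻¹ * g) := by
  rw [eH_eq, smul_mul_assoc, MonoidAlgebra.coeff_smul_apply, Finset.sum_mul, MonoidAlgebra.coeff_sum,
    Finsupp.finsetSum_apply, smul_eq_mul]
  congr 1
  refine Finset.sum_congr rfl fun h _ => ?_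
  rw [MonoidAlgebra.coeff_single_mul_apply, one_mul]

theorem coeff_mul_eH (a : MonoidAlgebra ℂ G) (g : G) :
    (a * eH H).coeff g = (Nat.card H : ℂ)⁻¹ * ∑ h : H, a.coeff (g * (h : G)⁻¹) := by
  rw [eH_eq, mul_smul_comm, MonoidAlgebra.coeff_smul_apply, Finset.mul_sum, MonoidAlgebra.coeff_sum,
    Finsupp.finsetSum_apply, smul_eq_mul]
  congr 1
  refine Finset.sum_congr rfl fun h _ => ?_
  rw [MonoidAlgebra.coeff_mul_single_apply, mul_one]

/-- left `H`-invariance of the coefficient function -/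
def LInv (a : MonoidAlgebra ℂ G) : Prop := ∀ h ∈ H, ∀ g : G, a.coeff (h * g) = a.coeff g
/-- right `H`-invariance of the coefficient function -/
def RInv (a : MonoidAlgebra ℂ G) : Prop := ∀ h ∈ H, ∀ g : G, a.coeff (g * h) = a.coeff g

theorem eH_mul_iff (a : MonoidAlgebra ℂ G) : eH H * a = a ↔ LInv H a := by
  constructor
  · intro ha h hh g
    rw [← ha, coeff_eH_mul, coeff_eH_mul]
    congr 1
    refine Fintype.sum_equiv (Equiv.mulLeft (⟨h, hh⟩⁻¹ : H)) _ _ fun k => ?_
    simp [mul_assoc]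
  · intro ha
    ext g
    rw [coeff_eH_mul]
    have : ∀ h : H, a.coeff ((h : G)⁻¹ * g) = a.coeff g := fun h => ha _ (H.inv_mem h.2) g
    simp only [this, Finset.sum_const, Finset.card_univ, nsmul_eq_mul]
    rw [← Nat.card_eq_fintype_card, ← mul_assoc, inv_mul_cancel₀ (card_ne_zero H), one_mul]

theorem mul_eH_iff (a : MonoidAlgebra ℂ G) : a * eH H = a ↔ RInv H a := by
  constructor
  · intro ha h hh g
    rw [← ha, coeff_mul_eH, coeff_mul_eH]
    congr 1
    refine Fintype.sum_equiv (Equiv.mulRight (⟨h, hh⟩⁻¹ : H)) _ _ fun k => ?_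
    simp [mul_assoc]
  · intro ha
    ext g
    rw [coeff_mul_eH]
    have : ∀ h : H, a.coeff (g * (h : G)⁻¹) = a.coeff g := fun h => ha _ (H.inv_mem h.2) g
    simp only [this, Finset.sum_const, Finset.card_univ, nsmul_eq_mul]
    rw [← Nat.card_eq_fintype_card, ← mul_assoc, inv_mul_cancel₀ (card_ne_zero H), one_mul]


/-- the map `θ` from the group algebra to matrices on `G ⧸ H` -/
noncomputable def Θ : MonoidAlgebra ℂ G →ₗ[ℂ] Matrix (G ⧸ H) (G ⧸ H) ℂ where
  toFun a := fun x y => (Nat.card H : ℂ) * a.coeff (x.out⁻¹ * y.out)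
  map_add' a b := by
    ext x y
    show (Nat.card H : ℂ) * (a + b).coeff (x.out⁻¹ * y.out) =
      (Nat.card H : ℂ) * a.coeff (x.out⁻¹ * y.out) + (Nat.card H : ℂ) * b.coeff (x.out⁻¹ * y.out)
    rw [MonoidAlgebra.coeff_add, Finsupp.add_apply, mul_add]
  map_smul' c a := by
    ext x y
    show (Nat.card H : ℂ) * (c • a).coeff (x.out⁻¹ * y.out) =
      c * ((Nat.card H : ℂ) * a.coeff (x.out⁻¹ * y.out))
    rw [MonoidAlgebra.coeff_smul_apply, smul_eq_mul]
    ring

theorem Θ_apply (a : MonoidAlgebra ℂ G) (x y : G ⧸ H) :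
    Θ H a x y = (Nat.card H : ℂ) * a.coeff (x.out⁻¹ * y.out) := rfl

/-- for a bi-invariant `a` any representatives may be used -/
theorem coeff_reps {a : MonoidAlgebra ℂ G} (hl : LInv H a) (hr : RInv H a) (g k : G) :
    a.coeff ((g : G ⧸ H).out⁻¹ * (k : G ⧸ H).out) = a.coeff (g⁻¹ * k) := by
  obtain ⟨h, hh⟩ := QuotientGroup.mk_out_eq_mul H g
  obtain ⟨h', hh'⟩ := QuotientGroup.mk_out_eq_mul H k
  rw [hh, hh', mul_inv_rev, mul_assoc, hl _ (H.inv_mem h.2), ← mul_assoc, hr _ h'.2]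

theorem Θ_mk {a : MonoidAlgebra ℂ G} (hl : LInv H a) (hr : RInv H a) (g k : G) :
    Θ H a (g : G ⧸ H) (k : G ⧸ H) = (Nat.card H : ℂ) * a.coeff (g⁻¹ * k) := by
  rw [Θ_apply, coeff_reps H hl hr]

theorem Θ_mem {a : MonoidAlgebra ℂ G} (hl : LInv H a) (hr : RInv H a) : Θ H a ∈ hkA H := by
  rw [mem_hkA_iff]
  intro g x y
  induction x using QuotientGroup.induction_on with
  | H x =>
  induction y using QuotientGroup.induction_on with
  | H y =>
  show Θ H a ((g * x : G) : G ⧸ H) ((g * y : G) : G ⧸ H) = _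
  rw [Θ_mk H hl hr, Θ_mk H hl hr]
  congr 2
  group

theorem Θ_injOn {a : MonoidAlgebra ℂ G} (hl : LInv H a) (hr : RInv H a) (h0 : Θ H a = 0) : a = 0 := by
  ext g
  have := congrFun (congrFun h0 ((1 : G) : G ⧸ H)) ((g : G) : G ⧸ H)
  rw [Θ_mk H hl hr, inv_one, one_mul] at this
  simpa [card_ne_zero H] using this


/-- `(G ⧸ H) × H ≃ G`, `(y, h) ↦ y.out * h` -/
noncomputable def prodEquiv : (G ⧸ H) × H ≃ G where
  toFun p := p.1.out * p.2
  invFun g := ((g : G ⧸ H), ⟨(g : G ⧸ H).out⁻¹ * g, QuotientGroup.eq.mp (QuotientGroup.out_eq' _)⟩)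
  left_inv p := by
    obtain ⟨y, h⟩ := p
    have h1 : ((y.out * (h : G) : G) : G ⧸ H) = y := by
      rw [QuotientGroup.mk_mul_of_mem _ h.2, QuotientGroup.out_eq']
    ext
    · exact h1
    · simp only [h1]
      simp
  right_inv g := by simp

/-- the sum over `G` of a right `H`-invariant function -/
theorem sum_rinv (F : G → ℂ) (hF : ∀ (g : G) (h : H), F (g * h) = F g) :
    ∑ g : G, F g = (Nat.card H : ℂ) * ∑ y : G ⧸ H, F y.out := by
  rw [← (prodEquiv H).sum_comp, Fintype.sum_prod_type]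
  rw [Finset.mul_sum]
  refine Finset.sum_congr rfl fun y _ => ?_
  have : ∀ h : H, F (prodEquiv H (y, h)) = F y.out := fun h => hF _ _
  simp only [this, Finset.sum_const, Finset.card_univ, nsmul_eq_mul]
  rw [Nat.card_eq_fintype_card]

theorem Θ_mul {a b : MonoidAlgebra ℂ G} (hr : RInv H a) (hl : LInv H b) :
    Θ H (a * b) = Θ H a * Θ H b := by
  ext x z
  rw [Matrix.mul_apply, Θ_apply, MonoidAlgebra.coeff_mul_apply_left, Finsupp.sum_fintype _ _ (fun _ => zero_mul _)]
  have h1 : ∑ k : G, a.coeff k * b.coeff (k⁻¹ * (x.out⁻¹ * z.out)) =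
      ∑ g : G, a.coeff (x.out⁻¹ * g) * b.coeff (g⁻¹ * z.out) := by
    refine Fintype.sum_equiv (Equiv.mulLeft x.out) _ _ fun k => ?_
    simp only [Equiv.coe_mulLeft]
    congr 2
    · group
    · group
  rw [h1, sum_rinv H (fun g => a.coeff (x.out⁻¹ * g) * b.coeff (g⁻¹ * z.out))]
  · rw [Finset.mul_sum, Finset.mul_sum]
    refine Finset.sum_congr rfl fun y _ => ?_
    rw [Θ_apply, Θ_apply]
    ring
  · intro g h
    show a.coeff (x.out⁻¹ * (g * h)) * b.coeff ((g * h)⁻¹ * z.out) = _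
    rw [← mul_assoc, hr _ h.2, mul_inv_rev, mul_assoc, hl _ (H.inv_mem h.2)]


theorem coeff_eH (g : G) : (eH H).coeff g = if g ∈ H then (Nat.card H : ℂ)⁻¹ else 0 := by
  rw [eH_eq, MonoidAlgebra.coeff_smul_apply, MonoidAlgebra.coeff_sum, Finsupp.finsetSum_apply, smul_eq_mul]
  simp only [MonoidAlgebra.coeff_single, Finsupp.single_apply]
  by_cases hg : g ∈ H
  · rw [if_pos hg, Finset.sum_eq_single (⟨g, hg⟩ : H)]
    · simp
    · intro b _ hb
      rw [if_neg]
      intro h'; apply hb; exact Subtype.ext h'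
    · intro h'; exact absurd (Finset.mem_univ _) h'
  · rw [if_neg hg, Finset.sum_eq_zero, mul_zero]
    intro b _
    rw [if_neg]
    intro h'; apply hg; rw [← h']; exact b.2

theorem eH_linv : LInv H (eH H) := by
  intro h hh g
  rw [coeff_eH, coeff_eH]
  have : h * g ∈ H ↔ g ∈ H := H.mul_mem_cancel_left hh
  simp only [this]

theorem eH_rinv : RInv H (eH H) := by
  intro h hh g
  rw [coeff_eH, coeff_eH]
  have : g * h ∈ H ↔ g ∈ H := H.mul_mem_cancel_right hh
  simp only [this]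

theorem eH_idem : eH H * eH H = eH H := (eH_mul_iff H _).mpr (eH_linv H)

theorem corner_left (a : MonoidAlgebra ℂ G) : eH H * (eH H * a * eH H) = eH H * a * eH H := by
  rw [← mul_assoc, ← mul_assoc, eH_idem]

theorem corner_right (a : MonoidAlgebra ℂ G) : (eH H * a * eH H) * eH H = eH H * a * eH H := by
  rw [mul_assoc, eH_idem]

/-- surjectivity of `Θ` onto `hkA H` -/
theorem exists_Θ_eq {M : Matrix (G ⧸ H) (G ⧸ H) ℂ} (hM : M ∈ hkA H) :
    ∃ a : MonoidAlgebra ℂ G, LInv H a ∧ RInv H a ∧ Θ H a = M := by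
  rw [mem_hkA_iff] at hM
  let a : MonoidAlgebra ℂ G := MonoidAlgebra.ofCoeff
    (Finsupp.equivFunOnFinite.symm fun g : G => (Nat.card H : ℂ)⁻¹ * M ((1 : G) : G ⧸ H) (g : G ⧸ H))
  have ha : ∀ g : G, a.coeff g = (Nat.card H : ℂ)⁻¹ * M ((1 : G) : G ⧸ H) (g : G ⧸ H) := fun g => rfl
  have hl : LInv H a := by
    intro h hh g
    rw [ha, ha]
    congr 1
    have h1 := hM h⁻¹ ((1 : G) : G ⧸ H) ((h * g : G) : G ⧸ H)
    have h2 : h⁻¹ • (((1 : G) : G ⧸ H)) = ((1 : G) : G ⧸ H) := by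
      show ((h⁻¹ * 1 : G) : G ⧸ H) = _
      rw [QuotientGroup.eq]
      simpa using hh
    have h3 : h⁻¹ • (((h * g : G) : G ⧸ H)) = ((g : G) : G ⧸ H) := by
      show ((h⁻¹ * (h * g) : G) : G ⧸ H) = _
      rw [inv_mul_cancel_left]
    rw [h2, h3] at h1
    exact h1.symm
  have hr : RInv H a := by
    intro h hh g
    rw [ha, ha, QuotientGroup.mk_mul_of_mem _ hh]
  refine ⟨a, hl, hr, ?_⟩
  ext x y
  induction x using QuotientGroup.induction_on with
  | H x =>
  induction y using QuotientGroup.induction_on with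
  | H y =>
  rw [Θ_mk H hl hr, ha, ← mul_assoc, mul_inv_cancel₀ (card_ne_zero H), one_mul]
  have h1 := hM x ((1 : G) : G ⧸ H) ((x⁻¹ * y : G) : G ⧸ H)
  have h2 : x • (((1 : G) : G ⧸ H)) = ((x : G) : G ⧸ H) := by
    show ((x * 1 : G) : G ⧸ H) = _
    rw [mul_one]
  have h3 : x • (((x⁻¹ * y : G) : G ⧸ H)) = ((y : G) : G ⧸ H) := by
    show ((x * (x⁻¹ * y) : G) : G ⧸ H) = _
    rw [mul_inv_cancel_left]
  rw [h2, h3] at h1
  exact h1.symm

/-- the centre of the corner algebra as a submodule -/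
noncomputable def CC : Submodule ℂ (MonoidAlgebra ℂ G) where
  carrier := cornerCenterSet H
  add_mem' := by
    rintro x y ⟨hx1, hx2, hx3⟩ ⟨hy1, hy2, hy3⟩
    refine ⟨by rw [mul_add, hx1, hy1], by rw [add_mul, hx2, hy2], fun a => ?_⟩
    rw [mul_add, add_mul, hx3, hy3]
  zero_mem' := ⟨by simp, by simp, fun a => by simp⟩
  smul_mem' := by
    rintro c x ⟨hx1, hx2, hx3⟩
    refine ⟨by rw [mul_smul_comm, hx1], by rw [smul_mul_assoc, hx2], fun a => ?_⟩
    rw [mul_smul_comm, smul_mul_assoc, hx3]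

theorem cornerCenter_eq : cornerCenter H = CC H := Submodule.span_eq (CC H)

theorem Θ_center {z : MonoidAlgebra ℂ G} (hz : z ∈ cornerCenterSet H)
    {N : Matrix (G ⧸ H) (G ⧸ H) ℂ} (hN : N ∈ hkA H) : N * Θ H z = Θ H z * N := by
  obtain ⟨hz1, hz2, hz3⟩ := hz
  obtain ⟨c, hcl, hcr, rfl⟩ := exists_Θ_eq H hN
  have hzl : LInv H z := (eH_mul_iff H z).mp hz1
  have hzr : RInv H z := (mul_eH_iff H z).mp hz2
  have hc : eH H * c * eH H = c := by
    rw [(eH_mul_iff H c).mpr hcl, (mul_eH_iff H c).mpr hcr]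
  rw [← Θ_mul H hcr hzl, ← Θ_mul H hzr hcl]
  have := hz3 c
  rw [hc] at this
  rw [this]

theorem exists_center {Z : Matrix (G ⧸ H) (G ⧸ H) ℂ} (hZ : Z ∈ hkA H)
    (hc : ∀ N ∈ hkA H, N * Z = Z * N) : ∃ z ∈ cornerCenterSet H, Θ H z = Z := by
  obtain ⟨z, hzl, hzr, rfl⟩ := exists_Θ_eq H hZ
  refine ⟨z, ⟨(eH_mul_iff H z).mpr hzl, (mul_eH_iff H z).mpr hzr, fun a => ?_⟩, rfl⟩
  obtain ⟨c, hcdef⟩ : ∃ c, c = eH H * a * eH H := ⟨_, rfl⟩
  rw [← hcdef]
  have ec : eH H * c = c := by rw [hcdef]; exact corner_left H a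
  have ce : c * eH H = c := by rw [hcdef]; exact corner_right H a
  have ez := (eH_mul_iff H z).mpr hzl
  have ze := (mul_eH_iff H z).mpr hzr
  have hcl : LInv H c := (eH_mul_iff H c).mp ec
  have hcr : RInv H c := (mul_eH_iff H c).mp ce
  have h1 := hc _ (Θ_mem H hcl hcr)
  rw [← Θ_mul H hcr hzl, ← Θ_mul H hzr hcl] at h1
  have hl : LInv H (c * z - z * c) := by
    rw [← eH_mul_iff, mul_sub, ← mul_assoc, ← mul_assoc, ec, ez]
  have hr : RInv H (c * z - z * c) := by
    rw [← mul_eH_iff, sub_mul, mul_assoc, mul_assoc, ze, ce]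
  have h0 : Θ H (c * z - z * c) = 0 := by rw [map_sub, h1, sub_self]
  exact sub_eq_zero.mp (Θ_injOn H hl hr h0)


/-- `Θ` restricted to the centre of the corner, as a linear map into the centre of `hkA H` -/
noncomputable def ΘC : CC H →ₗ[ℂ] Subalgebra.center ℂ (hkA H) where
  toFun z := ⟨⟨Θ H z.1, Θ_mem H ((eH_mul_iff H _).mp z.2.1) ((mul_eH_iff H _).mp z.2.2.1)⟩, by
    rw [Subalgebra.mem_center_iff]
    intro N
    exact Subtype.ext (Θ_center H z.2 N.2)⟩
  map_add' x y := by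
    apply Subtype.ext; apply Subtype.ext
    exact map_add (Θ H) x.1 y.1
  map_smul' c x := by
    apply Subtype.ext; apply Subtype.ext
    exact map_smul (Θ H) c x.1

theorem ΘC_bijective : Function.Bijective (ΘC H) := by
  constructor
  · rw [injective_iff_map_eq_zero]
    intro z hz
    have h0 : Θ H z.1 = 0 := congrArg (fun w : Subalgebra.center ℂ (hkA H) => (w.1.1)) hz
    exact Subtype.ext (Θ_injOn H ((eH_mul_iff H _).mp z.2.1) ((mul_eH_iff H _).mp z.2.2.1) h0)
  · intro Z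
    have hc : ∀ N ∈ hkA H, N * Z.1.1 = Z.1.1 * N := by
      intro N hN
      have := (Subalgebra.mem_center_iff.mp Z.2) ⟨N, hN⟩
      exact congrArg Subtype.val this
    obtain ⟨z, hz, hzZ⟩ := exists_center H Z.1.2 hc
    exact ⟨⟨z, hz⟩, Subtype.ext (Subtype.ext hzZ)⟩

theorem finrank_center_hkA :
    Module.finrank ℂ (Subalgebra.center ℂ (hkA H)) = Module.finrank ℂ (cornerCenter H) := by
  rw [cornerCenter_eq]
  exact (LinearEquiv.ofBijective (ΘC H) (ΘC_bijective H)).finrank_eq.symm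

end Cfsg.Agent.Lib.Helper51_HK_REP1
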