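/-
Assembly of S2319: the number of irreducible constituents of `1_B^G` equals the number of conjugacy classes
of the Weyl group.
-/
import Mathlib
import Cfsg.Prelude.Def_Characters
import Cfsg.Prelude.Def_ParabolicCharacters
import Cfsg.Prelude.Def_LieTypes
import Cfsg.Prelude.Def_ChevB2
import Cfsg.Agent.Lib.Helper18_HkTits
import Cfsg.Agent.Lib.Helper35_HK_GRP
import Cfsg.Agent.Lib.Helper26_HK_ORB2
import Cfsg.Agent.Lib.Helper51_HK_REP1
import Cfsg.Agent.Lib.Helper82_HK_ORB1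
import Cfsg.Agent.Lib.Helper46_HK_REP2
import Cfsg.Agent.Lib.Helper18_HK_CHEV
import Cfsg.Agent.Lib.Helper6_BNPairB

set_option autoImplicit false

namespace Cfsg.Agent.Lib.Helper18_HkMain

open Cfsg Cfsg.Agent.Lib.Helper6_Word Cfsg.Agent.Lib.Helper6_BNPair Cfsg.Agent.Lib.Helper6_Hecke
  Cfsg.Agent.Lib.Helper18_HkDefs Cfsg.Agent.Lib.Helper18_HkOrbDefs
  Cfsg.Agent.Lib.Helper18_HkTits

attribute [local instance] Classical.propDecidable
attribute [local instance] fintypeX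

/-- For a finite group with a (B, N)-pair all of whose parameters `|B s B / B|` equal `q`, the number of
irreducible constituents of the permutation character on `G ⧸ B` is the class number of the Weyl group. -/
theorem card_constituents_bn {G : Type*} [Group G] [Finite G] (P : BNPair G) (q : ℕ) (hq0 : 0 < q)
    (hq : ∀ s ∈ P.S, Cfsg.Agent.Lib.Helper6_Hecke.q P s = q) :
    Nat.card {χ : Cfsg.IrrCharacter G // ∃ φ : G → ℂ, Cfsg.IsCharacter G φ ∧
        Cfsg.fixedPointCharacter P.B = (χ : G → ℂ) + φ} = Nat.card (ConjClasses (W P)) := by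
  let _ : Fintype (W P) := fintypeW P
  have hq' : ((q : ℕ) : ℂ) ≠ 0 := by exact_mod_cast hq0.ne'
  have key := tits (invGen P) (exchange P) hq' one_ne_zero
    (Cfsg.Agent.Lib.Helper82_HK_ORB1.isHecke_orb P q hq (Cfsg.Agent.Lib.Helper82_HK_ORB1.TP_mem P)) (Cfsg.Agent.Lib.Helper35_HK_GRP.isHecke_grp (SW P))
    (fun z hz h0 => Cfsg.Agent.Lib.Helper26_HK_ORB2.cas_orb_inj P q hq0 (Cfsg.Agent.Lib.Helper82_HK_ORB1.TP_mem P) _ z hz h0)
    (fun z hz h0 => Cfsg.Agent.Lib.Helper35_HK_GRP.cas_grp_inj _ z hz h0)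
  have e1 := Cfsg.Agent.Lib.Helper46_HK_REP2.finrank_cornerCenter P.B
  have e2 := Cfsg.Agent.Lib.Helper51_HK_REP1.finrank_center_hkA P.B
  have e3 := Cfsg.Agent.Lib.Helper35_HK_GRP.finrank_center_grp (W := W P)
  rw [← e1, ← e2, ← e3]
  exact key

theorem result {F : Type*} [Field F] [Fintype F]
    (dw : Cfsg.Lie.ChevalleyDatum × (Σ n : ℕ, CoxeterMatrix (Fin n)))
    (hdw : dw ∈ [(Cfsg.Lie.chevG2, ⟨2, CoxeterMatrix.G₂⟩), (Cfsg.Lie.chevB2, ⟨2, CoxeterMatrix.B 2⟩), (Cfsg.Lie.chevD4, ⟨4, Cfsg.Lie.coxeterD4⟩), (Cfsg.Lie.chevF4, ⟨4, CoxeterMatrix.F₄⟩),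
      (Cfsg.Lie.chevE6, ⟨6, CoxeterMatrix.E₆⟩), (Cfsg.Lie.chevE7, ⟨7, CoxeterMatrix.E₇⟩), (Cfsg.Lie.chevE8, ⟨8, CoxeterMatrix.E₈⟩)]) :
    Nat.card {χ : Cfsg.IrrCharacter ↥(dw.1.group F) //
      ∃ φ : ↥(dw.1.group F) → ℂ, Cfsg.IsCharacter ↥(dw.1.group F) φ ∧
        Cfsg.fixedPointCharacter ((dw.1.borelSubgroup F).subgroupOf (dw.1.group F)) = (χ : ↥(dw.1.group F) → ℂ) + φ} =
      Nat.card (ConjClasses dw.2.2.Group) := by
  obtain ⟨P, hB, hq, ⟨e⟩⟩ := Cfsg.Agent.Lib.Helper18_HK_CHEV.chev_hk (F := F) dw hdw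
  rw [← hB, card_constituents_bn P (Fintype.card F) Fintype.card_pos hq]
  exact Nat.card_congr
    { toFun := ConjClasses.map e.toMonoidHom
      invFun := ConjClasses.map e.symm.toMonoidHom
      left_inv := fun c => by
        obtain ⟨a, rfl⟩ := ConjClasses.exists_rep c
        show ConjClasses.mk (e.symm (e a)) = ConjClasses.mk a
        simp
      right_inv := fun c => by
        obtain ⟨a, rfl⟩ := ConjClasses.exists_rep c
        show ConjClasses.mk (e (e.symm a)) = ConjClasses.mk a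
        simp }

end Cfsg.Agent.Lib.Helper18_HkMain
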