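import Mathlib
import Cfsg.Agent.Lib.Helper32_OFDefs

/-!
# OF-V (helper32's market for S5679 + S5696): Lemma V

`LEMV : OFr Q B c e → HasMon B c e M → PropV B c e M`.
-/

set_option autoImplicit false

namespace Cfsg.Agent.Lib.Helper18_OF_V

open Module Cfsg.Agent.Lib.Helper94_Symp Cfsg.Agent.Lib.Helper94_OrthSmall
  Cfsg.Agent.Lib.Helper94_OrthSiegel Cfsg.Agent.Lib.Helper94_OrthSiegel2
  Cfsg.Agent.Lib.Helper94_OrthNondeg Cfsg.Agent.Lib.Helper29_ODDefs
  Cfsg.Agent.Lib.Helper32_OFDefs

variable {F V : Type*} [Field F] [AddCommGroup V] [Module F V]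
variable {Q : V → F} {B : LinearMap.BilinForm F V}
variable {ι : Type*} [Fintype ι] [DecidableEq ι] {c : F} {e : ι → V}
variable {M : Subgroup (V ≃ₗ[F] V)}

/-- the product of two sign changes at disjoint index sets -/
lemma zJ_mul_disjoint (hfr : OFr Q B c e) {J J' : Finset ι} (hd : Disjoint J J') :
    zJ B c e J * zJ B c e J' = zJ B c e (J ∪ J') := by
  apply hfr.equiv_ext
  intro i
  rw [LinearEquiv.mul_apply, hfr.zJ_e J', hfr.zJ_e (J ∪ J')]
  by_cases h' : i ∈ J'
  · have hJ : i ∉ J := fun h => (Finset.disjoint_left.mp hd h) h'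
    rw [if_pos h', map_neg, hfr.zJ_e_not_mem hJ, if_pos (Finset.mem_union_right _ h')]
  · rw [if_neg h', hfr.zJ_e]
    by_cases hJ : i ∈ J
    · rw [if_pos hJ, if_pos (Finset.mem_union_left _ hJ)]
    · rw [if_neg hJ, if_neg]
      rw [Finset.mem_union]
      tauto

/-- the image of a vector under a 3-cycle of the frame -/
lemma three_cycle_apply {τ : V ≃ₗ[F] V} {p q r : ι} (hpq : p ≠ q) (hpr : p ≠ r) (hqr : q ≠ r)
    (h1 : τ (e p) = e q) (h2 : τ (e q) = e r) (h3 : τ (e r) = e p)
    (h4 : ∀ i, i ≠ p → i ≠ q → i ≠ r → τ (e i) = e i) (a : ι → F) :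
    τ (∑ i, a i • e i) = ∑ i, a i • e i +
      ((a r - a p) • e p + (a p - a q) • e q + (a q - a r) • e r) := by
  have key : τ (∑ i, a i • e i) - ∑ i, a i • e i =
      ∑ i ∈ ({p, q, r} : Finset ι), (τ (a i • e i) - a i • e i) := by
    rw [map_sum, ← Finset.sum_sub_distrib]
    symm
    apply Finset.sum_subset (Finset.subset_univ _)
    intro i _ hi
    simp only [Finset.mem_insert, Finset.mem_singleton, not_or] at hi
    rw [map_smul, h4 i hi.1 hi.2.1 hi.2.2, sub_self]
  rw [Finset.sum_insert (by simp [hpq, hpr]), Finset.sum_pair hqr] at key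
  simp only [map_smul, h1, h2, h3] at key
  rw [sub_eq_iff_eq_add] at key
  rw [key]
  module

theorem LEMV (hfr : OFr Q B c e) (hM : HasMon B c e M) : PropV B c e M := by
  intro S y hS hyy hk0 hH
  obtain ⟨k0, hk0S, hk0⟩ := hk0
  have h2c := hfr.two_c
  have h2 := hfr.h2
  -- coordinates
  obtain ⟨a, ha⟩ : ∃ a : ι → F, a = co B c e y := ⟨_, rfl⟩
  have hBa : ∀ i, B y (e i) = 2 * c * a i := by
    intro i
    rw [ha]
    unfold co
    rw [← mul_assoc, mul_inv_cancel₀ h2c, one_mul]
  have hya : y = ∑ i, a i • e i := by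
    rw [ha]; exact hfr.exp' y
  have hsum : ∑ i, a i * a i = 1 := by
    have h1 := hfr.B_eq y y
    rw [hyy, ← ha] at h1
    have h3 : 2 * c * (∑ i, a i * a i) = 2 * c * 1 := by rw [← h1, mul_one]
    exact mul_left_cancel₀ h2c h3
  have hzero : ∀ i, B y (e i) = -B y (e i) → a i = 0 := by
    intro i hi
    have h1 : 2 * B y (e i) = 0 := by linear_combination hi
    have h3 : B y (e i) = 0 := by
      rcases mul_eq_zero.mp h1 with h | h
      · exact absurd h h2
      · exact h
    rw [hBa] at h3
    rcases mul_eq_zero.mp h3 with h | h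
    · exact absurd h h2c
    · exact h
  have hak0 : a k0 ≠ 0 := by
    intro h
    apply hk0
    rw [hBa, h, mul_zero]
  -- (Z): sign changes
  have Z : ∀ J : Finset ι, zJ B c e J ∈ M → (∀ i ∈ S, i ∉ J) →
      (∀ j ∈ J, a j = 0) ∨ (∀ i, i ∉ J → a i = 0) ∨ 2 * ∑ j ∈ J, a j * a j = 1 := by
    intro J hJM hSJ
    have hfix : ∀ i ∈ S, zJ B c e J (e i) = e i := fun i hi => hfr.zJ_e_not_mem (hSJ i hi)
    rcases hH _ hJM hfix with h1 | h1 | h1
    · left
      intro j hj
      have h3 := hfr.B_zJ J y j
      rw [h1, if_pos hj] at h3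
      exact hzero j h3
    · right; left
      intro i hi
      have h3 := hfr.B_zJ J y i
      rw [h1, if_neg hi, map_neg, LinearMap.neg_apply] at h3
      exact hzero i h3.symm
    · right; right
      have h3 := hfr.B_eq (zJ B c e J y) y
      rw [h1, ← ha] at h3
      have h4 : ∀ i, co B c e (zJ B c e J y) i = if i ∈ J then -a i else a i := by
        intro i
        unfold co
        rw [hfr.B_zJ, hBa]
        split_ifs
        · rw [mul_neg, ← mul_assoc, inv_mul_cancel₀ h2c, one_mul]
        · rw [← mul_assoc, inv_mul_cancel₀ h2c, one_mul]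
      have h5 : ∀ i, co B c e (zJ B c e J y) i * a i =
          a i * a i - 2 * (if i ∈ J then a i * a i else 0) := by
        intro i
        rw [h4]
        split_ifs <;> ring
      have h6 : ∑ i, co B c e (zJ B c e J y) i * a i = 0 := by
        rcases mul_eq_zero.mp h3.symm with h | h
        · exact absurd h h2c
        · exact h
      rw [Finset.sum_congr rfl (fun i _ => h5 i), Finset.sum_sub_distrib, hsum, ← Finset.mul_sum,
        Finset.sum_ite_mem, Finset.univ_inter] at h6
      linear_combination -h6
  -- pairs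
  have Z2 : ∀ k l, k ∉ S → l ∉ S → k ≠ l →
      (a k = 0 ∧ a l = 0) ∨ (∀ i, i ≠ k → i ≠ l → a i = 0) ∨ 2 * (a k * a k + a l * a l) = 1 := by
    intro k l hk hl hkl
    have hS' : ∀ i ∈ S, i ∉ ({k, l} : Finset ι) := by
      intro i hi hi'
      rw [Finset.mem_insert, Finset.mem_singleton] at hi'
      rcases hi' with rfl | rfl
      · exact hk hi
      · exact hl hi
    rcases Z {k, l} (hM.hz k l hkl) hS' with h | h | h
    · left
      exact ⟨h k (by simp), h l (by simp)⟩
    · right; left
      intro i hik hil
      apply h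
      simp [hik, hil]
    · right; right
      rwa [Finset.sum_pair hkl] at h
  -- 3-cycles
  have T3 : ∀ p q r, p ∉ S → q ∉ S → r ∉ S → p ≠ q → p ≠ r → q ≠ r →
      (a p = a q ∧ a q = a r) ∨
        (1 + a r * a p + a p * a q + a q * a r = a p * a p + a q * a q + a r * a r) := by
    intro p q r hp hq hr hpq hpr hqr
    obtain ⟨τ, hτM, t1, t2, t3, t4⟩ := hM.h3 p q r hpq hpr hqr
    have hfix : ∀ i ∈ S, τ (e i) = e i := by
      intro i hi
      apply t4
      · rintro rfl; exact hp hi
      · rintro rfl; exact hq hi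
      · rintro rfl; exact hr hi
    have hτy : τ y = y + ((a r - a p) • e p + (a p - a q) • e q + (a q - a r) • e r) := by
      have := three_cycle_apply hpq hpr hqr t1 t2 t3 t4 a
      rwa [← hya] at this
    have hBd : ∀ j, B ((a r - a p) • e p + (a p - a q) • e q + (a q - a r) • e r) (e j) =
        2 * c * ((a r - a p) * (if p = j then 1 else 0) + (a p - a q) * (if q = j then 1 else 0)
          + (a q - a r) * (if r = j then 1 else 0)) := by
      intro j
      simp only [map_add, map_smul, LinearMap.add_apply, LinearMap.smul_apply, smul_eq_mul,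
        hfr.Bee']
      split_ifs <;> ring
    have hcoord : ∀ j, B (τ y) (e j) = 2 * c * (a j + ((a r - a p) * (if p = j then 1 else 0) +
        (a p - a q) * (if q = j then 1 else 0) + (a q - a r) * (if r = j then 1 else 0))) := by
      intro j
      rw [hτy, map_add, LinearMap.add_apply, hBd, hBa]
      ring
    have hcp : B (τ y) (e p) = 2 * c * a r := by
      rw [hcoord, if_pos rfl, if_neg hpq.symm, if_neg hpr.symm]; ring
    have hcq : B (τ y) (e q) = 2 * c * a p := by
      rw [hcoord, if_pos rfl, if_neg hpq, if_neg hqr.symm]; ring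
    have hcr : B (τ y) (e r) = 2 * c * a q := by
      rw [hcoord, if_pos rfl, if_neg hpr, if_neg hqr]; ring
    rcases hH τ hτM hfix with h1 | h1 | h1
    · left
      rw [h1, hBa] at hcp hcq hcr
      have e1 := mul_left_cancel₀ h2c hcp
      have e2 := mul_left_cancel₀ h2c hcq
      have e3 := mul_left_cancel₀ h2c hcr
      exact ⟨e2.symm, e3.symm⟩
    · left
      rw [h1, map_neg, LinearMap.neg_apply, hBa, ← mul_neg] at hcp hcq hcr
      have e1 := mul_left_cancel₀ h2c hcp
      have e2 := mul_left_cancel₀ h2c hcq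
      have e3 := mul_left_cancel₀ h2c hcr
      -- a p = -a r, a q = -a p, a r = -a q
      have hp0 : a p = 0 := by
        have : 2 * a p = 0 := by linear_combination (-1 : F) * e1 + e3 - e2
        rcases mul_eq_zero.mp this with h | h
        · exact absurd h h2
        · exact h
      have hq0 : a q = 0 := by
        have : a q = - a p := by linear_combination (-1 : F) * e2
        rw [this, hp0, neg_zero]
      have hr0 : a r = 0 := by
        have : a r = - a q := by linear_combination (-1 : F) * e3
        rw [this, hq0, neg_zero]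
      exact ⟨by rw [hp0, hq0], by rw [hq0, hr0]⟩
    · right
      rw [hτy, map_add, LinearMap.add_apply, hyy, hfr.symm, map_add, map_add, map_smul, map_smul,
        map_smul, hBa, hBa, hBa] at h1
      simp only [smul_eq_mul] at h1
      have h5 : 2 * c * (1 + a r * a p + a p * a q + a q * a r -
          (a p * a p + a q * a q + a r * a r)) = 0 := by
        linear_combination h1
      rcases mul_eq_zero.mp h5 with h | h
      · exact absurd h h2c
      · linear_combination h
  -- choosing indices outside `S`
  have pick : ∀ E : Finset ι, E.card < 5 → ∃ m, m ∉ S ∧ m ∉ E := by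
    intro E hE
    obtain ⟨m, hm, hmE⟩ := Finset.exists_mem_notMem_of_card_lt_card (lt_of_lt_of_le hE hS)
    exact ⟨m, by simpa using hm, hmE⟩
  by_contra hcon
  push Not at hcon
  by_cases hc : ∃ l', l' ∉ S ∧ a l' = 0
  · -- CASE 1
    obtain ⟨l', hl'S, hl'⟩ := hc
    have A : ∀ k, k ∉ S → a k ≠ 0 → 2 * (a k * a k) = 1 := by
      intro k hk hak
      have hkl : k ≠ l' := by
        rintro rfl; exact hak hl'
      rcases Z2 k l' hk hl'S hkl with h | h | h
      · exact absurd h.1 hak
      · exfalso
        have hall : ∀ i, i ≠ k → a i = 0 := by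
          intro i hik
          by_cases hil : i = l'
          · rw [hil]; exact hl'
          · exact h i hik hil
        have h3 : a k * a k = 1 := by
          rw [← hsum]
          symm
          apply Finset.sum_eq_single k
          · intro i _ hik
            rw [hall i hik, mul_zero]
          · intro hk'
            exact absurd (Finset.mem_univ k) hk'
        have hy' : y = a k • e k := by
          rw [hya]
          apply Finset.sum_eq_single k
          · intro i _ hik
            rw [hall i hik, zero_smul]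
          · intro hk'
            exact absurd (Finset.mem_univ k) hk'
        have h4 : (a k - 1) * (a k + 1) = 0 := by linear_combination h3
        rcases mul_eq_zero.mp h4 with h | h
        · apply (hcon k).1
          rw [hy', sub_eq_zero.mp h, one_smul]
        · apply (hcon k).2
          rw [hy', eq_neg_of_add_eq_zero_left h, neg_smul, one_smul]
      · rw [hl', mul_zero, add_zero] at h
        exact h
    have hk0' := A k0 hk0S hak0
    by_cases hb : ∃ l, l ∉ S ∧ l ≠ k0 ∧ a l ≠ 0
    · -- (a)
      obtain ⟨l, hlS, hlk, hal⟩ := hb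
      have hl' := A l hlS hal
      rcases Z2 k0 l hk0S hlS hlk.symm with h | h | h
      · exact hak0 h.1
      · obtain ⟨m, hmS, hmE⟩ := pick {k0, l} (lt_of_le_of_lt (Finset.card_le_two) (by norm_num))
        rw [Finset.mem_insert, Finset.mem_singleton, not_or] at hmE
        have ham : a m = 0 := h m hmE.1 hmE.2
        rcases T3 k0 l m hk0S hlS hmS hlk.symm (Ne.symm hmE.1) (Ne.symm hmE.2) with h' | h'
        · apply hal
          rw [h'.2, ham]
        · rw [ham] at h'
          have h6 : 2 * (a k0 * a l) = 0 := by linear_combination 2 * h' + hk0' + hl'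
          rcases mul_eq_zero.mp h6 with h7 | h7
          · exact h2 h7
          · rcases mul_eq_zero.mp h7 with h8 | h8
            · exact hak0 h8
            · exact hal h8
      · have : (1 : F) = 0 := by linear_combination h - hk0' - hl'
        exact one_ne_zero this
    · -- (b)
      push Not at hb
      obtain ⟨m, hmS, hmE⟩ := pick {k0} (by simp)
      rw [Finset.mem_singleton] at hmE
      obtain ⟨m', hm'S, hm'E⟩ := pick {k0, m} (lt_of_le_of_lt (Finset.card_le_two) (by norm_num))
      rw [Finset.mem_insert, Finset.mem_singleton, not_or] at hm'E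
      have ham : a m = 0 := hb m hmS hmE
      have ham' : a m' = 0 := hb m' hm'S hm'E.1
      rcases T3 k0 m m' hk0S hmS hm'S (Ne.symm hmE) (Ne.symm hm'E.1) (Ne.symm hm'E.2) with h' | h'
      · apply hak0
        rw [h'.1, ham]
      · rw [ham, ham'] at h'
        have : (1 : F) = 0 := by linear_combination 2 * h' + hk0'
        exact one_ne_zero this
  · -- CASE 2
    push Not at hc
    obtain ⟨p1, hp1S, -⟩ := pick ∅ (by simp)
    obtain ⟨p2, hp2S, hp2E⟩ := pick {p1} (by simp)
    rw [Finset.mem_singleton] at hp2E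
    obtain ⟨p3, hp3S, hp3E⟩ := pick {p1, p2} (lt_of_le_of_lt (Finset.card_le_two) (by norm_num))
    rw [Finset.mem_insert, Finset.mem_singleton, not_or] at hp3E
    obtain ⟨p4, hp4S, hp4E⟩ := pick {p1, p2, p3}
      (lt_of_le_of_lt (Finset.card_le_three) (by norm_num))
    simp only [Finset.mem_insert, Finset.mem_singleton, not_or] at hp4E
    obtain ⟨p5, hp5S, hp5E⟩ := pick {p1, p2, p3, p4}
      (lt_of_le_of_lt (Finset.card_le_four) (by norm_num))
    simp only [Finset.mem_insert, Finset.mem_singleton, not_or] at hp5E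
    have h12 : 2 * (a p1 * a p1 + a p2 * a p2) = 1 := by
      rcases Z2 p1 p2 hp1S hp2S (Ne.symm hp2E) with h | h | h
      · exact absurd h.1 (hc p1 hp1S)
      · exact absurd (h p3 hp3E.1 hp3E.2) (hc p3 hp3S)
      · exact h
    have h34 : 2 * (a p3 * a p3 + a p4 * a p4) = 1 := by
      rcases Z2 p3 p4 hp3S hp4S (Ne.symm hp4E.2.2) with h | h | h
      · exact absurd h.1 (hc p3 hp3S)
      · exact absurd (h p1 (Ne.symm hp3E.1) (Ne.symm hp4E.1)) (hc p1 hp1S)
      · exact h
    have hJM : zJ B c e ({p1, p2} ∪ {p3, p4} : Finset ι) ∈ M := by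
      rw [← zJ_mul_disjoint hfr]
      · exact M.mul_mem (hM.hz p1 p2 (Ne.symm hp2E)) (hM.hz p3 p4 (Ne.symm hp4E.2.2))
      · rw [Finset.disjoint_left]
        intro i hi hi'
        rw [Finset.mem_insert, Finset.mem_singleton] at hi hi'
        rcases hi with rfl | rfl <;> rcases hi' with h | h
        · exact hp3E.1 h.symm
        · exact hp4E.1 h.symm
        · exact hp3E.2 h.symm
        · exact hp4E.2.1 h.symm
    have hSJ : ∀ i ∈ S, i ∉ ({p1, p2} ∪ {p3, p4} : Finset ι) := by
      intro i hi hi'
      simp only [Finset.mem_union, Finset.mem_insert, Finset.mem_singleton] at hi'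
      rcases hi' with (rfl | rfl) | (rfl | rfl)
      · exact hp1S hi
      · exact hp2S hi
      · exact hp3S hi
      · exact hp4S hi
    rcases Z _ hJM hSJ with h | h | h
    · exact hc p1 hp1S (h p1 (by simp))
    · apply hc p5 hp5S
      apply h
      simp only [Finset.mem_union, Finset.mem_insert, Finset.mem_singleton, not_or]
      exact ⟨⟨hp5E.1, hp5E.2.1⟩, hp5E.2.2.1, hp5E.2.2.2⟩
    · rw [Finset.sum_union, Finset.sum_pair (Ne.symm hp2E), Finset.sum_pair (Ne.symm hp4E.2.2)] at h
      · have : (1 : F) = 0 := by linear_combination h - h12 - h34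
        exact one_ne_zero this
      · rw [Finset.disjoint_left]
        intro i hi hi'
        rw [Finset.mem_insert, Finset.mem_singleton] at hi hi'
        rcases hi with rfl | rfl <;> rcases hi' with h | h
        · exact hp3E.1 h.symm
        · exact hp4E.1 h.symm
        · exact hp3E.2 h.symm
        · exact hp4E.2.1 h.symm

end Cfsg.Agent.Lib.Helper18_OF_V
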