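import Cfsg.Agent.Lib.Helper36_ChevAut
import Cfsg.Agent.Lib.Helper36_TwistU
import Cfsg.Agent.Lib.Helper18_ChevBasic

set_option autoImplicit false

/-!
The twisting endomorphism of the general linear group: the entrywise action of a ring endomorphism of the field
followed by conjugation by the signed permutation matrix of a graph automorphism.
-/

namespace Cfsg.Agent.Lib.Helper36_TwistS

open Cfsg Cfsg.Lie Cfsg.Agent.Lib.Helper36_ChevSparse Cfsg.Agent.Lib.Helper36_ChevCoeff
  Cfsg.Agent.Lib.Helper36_ChevCoo Cfsg.Agent.Lib.Helper36_ChevAdd Cfsg.Agent.Lib.Helper36_ChevIdx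
  Cfsg.Agent.Lib.Helper36_ChevWeyl Cfsg.Agent.Lib.Helper36_ChevAut
  Cfsg.Agent.Lib.Helper18_ChevN Cfsg.Agent.Lib.Helper18_ChevWeyl

variable (D : ChevalleyDatum) (hlen : ChainLenOK D) (hadd : AddOK D) (K : Type*) [Field K] (k : ℕ) (A : AutData)
  (hM : autMatCheck D k A = true) (hR : AutRange D k A 0 D.nroots)

/-- The twisting endomorphism. -/
noncomputable def sigma (f : K →+* K) : GL D.Idx K →* GL D.Idx K :=
  (MulAut.conj (PGL D K k A hM)).toMonoidHom.comp (Matrix.GeneralLinearGroup.map f)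

include hlen hadd hR in
theorem sigma_x {Ns : List NData} (c : DCert D Ns) (f : K →+* K) (r : ℕ) (hr : r < D.nroots) (t : K) :
    sigma D K k A hM f (Cfsg.Agent.Lib.Helper18_ChevGL.xGL c r t) =
      Cfsg.Agent.Lib.Helper18_ChevGL.xGL c (A.pi.getD r 0) (((A.eps.getD r 0 : ℤ) : K) * f t) := by
  unfold sigma
  rw [MonoidHom.comp_apply, MulEquiv.coe_toMonoidHom, MulAut.conj_apply, mul_inv_eq_iff_eq_mul]
  apply Units.ext
  rw [Units.val_mul, Units.val_mul, Cfsg.Agent.Lib.Helper18_ChevGL.xGL_coe]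
  have h1 : ((Matrix.GeneralLinearGroup.map f (Cfsg.Agent.Lib.Helper18_ChevGL.xGL c r t) : GL D.Idx K) : Matrix D.Idx D.Idx K) =
      D.x K r (f t) := by
    have : ((Matrix.GeneralLinearGroup.map f (Cfsg.Agent.Lib.Helper18_ChevGL.xGL c r t) : GL D.Idx K) : Matrix D.Idx D.Idx K) =
        (D.x K r t).map f := rfl
    rw [this]
    exact Cfsg.Agent.Lib.Helper18_ChevBasic.x_map D f r t
  rw [h1]
  exact PGL_mul_x D hlen hadd K k A hM hR r hr (f t)

end Cfsg.Agent.Lib.Helper36_TwistS
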