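import Cfsg.Agent.Lib.Helper36_TwistTabD4
import Cfsg.Agent.Lib.Helper36_TwistS
import Cfsg.Prelude.Def_LieTwisted

set_option autoImplicit false

/-!
The twisted group of type `³D₄` inside the Chevalley group of type `D₄` over a field with `q ^ 3` elements: it is fixed
by the twisting endomorphism, and it contains all fixed elements of `U`.
-/

namespace Cfsg.Agent.Lib.Helper36_TwistD4

open Cfsg Cfsg.Lie Cfsg.Agent.Lib.Helper18_ChevFast Cfsg.Agent.Lib.Helper18_ChevEngine
  Cfsg.Agent.Lib.Helper18_ChevN Cfsg.Agent.Lib.Helper18_ChevWeyl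
  Cfsg.Agent.Lib.Helper18_ChevGL Cfsg.Agent.Lib.Helper18_ChevTri
  Cfsg.Agent.Lib.Helper18_ChevAdd Cfsg.Agent.Lib.Helper18_ChevUni
  Cfsg.Agent.Lib.Helper36_TwistU Cfsg.Agent.Lib.Helper36_TwistW Cfsg.Agent.Lib.Helper36_TwistS
  Cfsg.Agent.Lib.Helper36_TwistTabD4 Cfsg.Agent.Lib.Helper36_ChevDataD4AutA

/-- The list of the elements `n_i` of the certificate. -/
abbrev Ns : List NData := Cfsg.Agent.Lib.Helper18_ChevDatumD4.Ns

/-- The certificate of the datum. -/
abbrev dc : DCert chevD4 Ns := Cfsg.Agent.Lib.Helper18_ChevDatumD4.dcert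

section

variable {K : Type*} [Field K]

theorem certs : Certs chevD4 Ns K Cfsg.Agent.Lib.Helper18_ChevACerts.wlD4 Cfsg.Agent.Lib.Helper18_ChevACerts.wsD4 2 w where
  c := dc
  tc := Cfsg.Agent.Lib.Helper18_ChevTCertD4.tcert
  ac := Cfsg.Agent.Lib.Helper18_ChevACerts.acertD4
  gc := Cfsg.Agent.Lib.Helper18_ChevGCertD4.gcert
  r2 := Cfsg.Agent.Lib.Helper18_ChevComm2.r2_all dc Cfsg.Agent.Lib.Helper18_ChevPCertD4.pcert

/-- The twisting endomorphism. -/
noncomputable def sig (f : K →+* K) : GL chevD4.Idx K →* GL chevD4.Idx K :=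
  sigma chevD4 K 12 autData matOK f

theorem twist (f : K →+* K) : Twist (K := K) dc w (sig f) pi eps f where
  sx := fun r hr t =>
    sigma_x chevD4 Cfsg.Agent.Lib.Helper36_ChevDataD4.lenOK Cfsg.Agent.Lib.Helper36_ChevDataD4.addOK K 12 autData
      matOK rangeOK dc f r hr t
  pos := fun r hr => (posOK r hr.1 hr).1
  ht := fun r hr => by
    rw [← grL_eq, ← grL_eq]
    exact (posOK r hr.1 hr).2
  inj := fun r s hr hs h =>
    List.inj_on_of_nodup_map injOK ((mem_posRoots r).mpr hr) ((mem_posRoots s).mpr hs) h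

theorem classOK (p : ℕ × ℕ) (hp : p ∈ cls) : ClassOK chevD4 pi p := by
  obtain ⟨h1, h2, h3, h4, h5, -, -⟩ := classesOK p hp
  exact ⟨h1, h2, h3, h4, h5⟩

theorem clsOK : ClsOK chevD4 w pi cls where
  each := classOK
  nodup := nodupOK
  cover := fun r hr => coverOK r hr.1 hr
  sorted := sortedOK

theorem orbOK (p : ℕ × ℕ) (hp : p ∈ gens) : OrbOK chevD4 pi p := by
  obtain ⟨h1, h2, h3, h4, h5, -, -⟩ := gensOK p hp
  exact ⟨h1, h2, h3, h4, h5⟩

end

section

variable {K : Type*} [Field K] [Fintype K] {q : ℕ} (hq : IsPrimePow q) (hK : Fintype.card K = q ^ 3)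
  (f : K →+* K) (hf : ∀ x : K, f x = x ^ q)

include hK hf in
theorem closes_triple (p : ℕ × ℕ) (hp : p ∈ gens) (h3 : p.2 = 3) (x : K) : Closes pi eps f p x := by
  rw [closes_iff p (gensOK p hp).2.2.2.2.2.1, h3, iterate_pow hf]
  exact Cfsg.Agent.Lib.Helper36_TwistF.pow_card' hK x

include hf in
theorem closes_single (p : ℕ × ℕ) (hp : p ∈ gens) (h1 : p.2 = 1) (x : K) : Closes pi eps f p x ↔ x ^ q = x := by
  rw [closes_iff p (gensOK p hp).2.2.2.2.2.1, h1, Function.iterate_one, hf]

theorem pi18 : pi 18 = 13 ∧ eps 18 = 1 ∧ pi 13 = 12 ∧ eps 13 = 1 := by decide +kernel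
theorem pi5 : pi 5 = 10 ∧ eps 5 = 1 ∧ pi 10 = 11 ∧ eps 10 = 1 := by decide +kernel

/-- The element of a triple of roots permuted by the symmetry, as a word. -/
theorem yS_triple (r r' r'' : ℕ) (h : pi r = r' ∧ eps r = 1 ∧ pi r' = r'' ∧ eps r' = 1) (x : K) :
    yS (K := K) dc pi eps f (r, 3) x = wordGL dc [(r, x), (r', f x), (r'', f (f x))] := by
  unfold yS
  simp only [orbWord, stepL, h.1, h.2.1, h.2.2.1, h.2.2.2]
  simp

theorem yS_single (r : ℕ) (x : K) : yS (K := K) dc pi eps f (r, 1) x = wordGL dc [(r, x)] := by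
  unfold yS
  simp only [orbWord]

/-- A word over one of the two fixed roots `±p₂` with a parameter in the small field lies in the twisted group. -/
theorem single_mem (r : ℕ) (hr : r ∈ [d4p2, d4m2]) (t : K) (ht : t ^ q = t) :
    wordGL dc [(r, t)] ∈ twistedD4 K q := by
  apply Subgroup.subset_closure
  exact ⟨[(r, t)], Or.inl ⟨t, ht, r, hr, rfl⟩, wordGL_coe dc _⟩

theorem wordGL_single (r : ℕ) (t : K) : wordGL dc [(r, t)] = xGL dc r t := by
  rw [wordGL_cons, wordGL_nil, mul_one]

include hf in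
/-- A word over one of the two triples lies in the twisted group. -/
theorem triple_mem (rs : ℕ × ℕ × ℕ) (hrs : rs ∈ [(d4p1, d4p3, d4p4), (d4m1, d4m3, d4m4)]) (t : K) :
    wordGL dc [(rs.1, t), (rs.2.1, f t), (rs.2.2, f (f t))] ∈ twistedD4 K q := by
  apply Subgroup.subset_closure
  refine ⟨[(rs.1, t), (rs.2.1, t ^ q), (rs.2.2, t ^ (q ^ 2))], Or.inr ⟨t, rs, hrs, rfl⟩, ?_⟩
  rw [wordGL_coe, hf, hf, ← pow_mul, ← sq]

include hK hf in
/-- The elements of the fundamental orbits lie in the twisted group. -/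
theorem gen_mem (p : ℕ × ℕ) (hp : p ∈ gens) (x : K) (hx : Closes pi eps f p x) :
    yS dc pi eps f p x ∈ twistedD4 K q := by
  have hp' := hp
  simp only [gens, List.mem_cons, List.not_mem_nil, or_false] at hp'
  rcases hp' with rfl | rfl | rfl | rfl
  · rw [yS_single]
    exact single_mem 14 (by simp [d4p2]) x ((closes_single f hf _ hp rfl x).mp hx)
  · rw [yS_triple f 18 13 12 pi18]
    exact triple_mem f hf (d4p1, d4p3, d4p4) (by simp) x
  · rw [yS_triple f 5 10 11 pi5]
    exact triple_mem f hf (d4m1, d4m3, d4m4) (by simp) x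
  · rw [yS_single]
    exact single_mem 9 (by simp [d4m2]) x ((closes_single f hf _ hp rfl x).mp hx)

include hK hf in
/-- The twisted group is fixed by the twisting endomorphism. -/
theorem fixed (g : GL chevD4.Idx K) (hg : g ∈ twistedD4 K q) : sig f g = g := by
  have hle : twistedD4 K q ≤ (sig f).eqLocus (MonoidHom.id _) := by
    unfold twistedD4 ChevalleyDatum.genSubgroup
    rw [Subgroup.closure_le]
    rintro g ⟨wd, hwd, hg⟩
    rw [eq_wordGL dc hg]
    show sig f (wordGL dc wd) = wordGL dc wd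
    rcases hwd with ⟨t, ht, r, hr, rfl⟩ | ⟨t, rs, hrs, rfl⟩
    · simp only [List.mem_cons, List.not_mem_nil, or_false] at hr
      have key : ∀ r' : ℕ, (r', 1) ∈ gens → r = r' → sig f (wordGL dc [(r, t)]) = wordGL dc [(r, t)] := by
        rintro r' hmem rfl
        rw [← yS_single f]
        exact orb_fixed certs (twist f) _ (orbOK _ hmem) t ((closes_single f hf _ hmem rfl t).mpr ht)
      rcases hr with h | h
      · exact key 14 (by decide) h
      · exact key 9 (by decide) h
    · simp only [List.mem_cons, List.not_mem_nil, or_false] at hrs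
      have key : ∀ r r' r'' : ℕ, (r, 3) ∈ gens → (pi r = r' ∧ eps r = 1 ∧ pi r' = r'' ∧ eps r' = 1) →
          rs = (r, r', r'') →
          sig f (wordGL dc [(rs.1, t), (rs.2.1, t ^ q), (rs.2.2, t ^ (q ^ 2))]) =
            wordGL dc [(rs.1, t), (rs.2.1, t ^ q), (rs.2.2, t ^ (q ^ 2))] := by
        rintro r r' r'' hmem hpi rfl
        have e : t ^ (q ^ 2) = f (f t) := by rw [hf, hf, ← pow_mul, ← sq]
        rw [e, ← hf, ← yS_triple f r r' r'' hpi]
        exact orb_fixed certs (twist f) _ (orbOK _ hmem) t (closes_triple hK f hf _ hmem rfl t)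
      rcases hrs with h | h
      · exact key 18 13 12 (by decide) pi18 h
      · exact key 5 10 11 (by decide) pi5 h
  exact hle hg

include hf in
theorem neg_one_pow : (-1 : K) ^ q = -1 := by
  rw [← hf, map_neg, map_one]

theorem simples : chevD4.simple 0 = 18 ∧ chevD4.simple 1 = 14 ∧ chevD4.simple 2 = 13 ∧ chevD4.simple 3 = 12 ∧
    chevD4.neg 18 = 5 ∧ chevD4.neg 14 = 9 ∧ chevD4.neg 13 = 10 ∧ chevD4.neg 12 = 11 := by decide +kernel

include hf in
/-- The elements `n_J` of the orbits of the nodes lie in the twisted group. -/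
theorem nJ_mem (J : List ℕ) (hJ : J ∈ Js) : nJ dc K J ∈ twistedD4 K q := by
  obtain ⟨s0, s1, s2, s3, n0, n1, n2, n3⟩ := simples
  have h1 : (1 : K) ^ q = 1 := one_pow q
  have hm := neg_one_pow f hf
  have hf1 : f 1 = 1 := map_one f
  have hfm : f (-1) = -1 := by rw [map_neg, map_one]
  simp only [Js, List.mem_cons, List.not_mem_nil, or_false] at hJ
  rcases hJ with rfl | rfl
  · rw [nJ_one, s1, n1, ← wordGL_single, ← wordGL_single (K := K) 9]
    exact Subgroup.mul_mem _ (Subgroup.mul_mem _ (single_mem 14 (by simp [d4p2]) 1 h1)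
      (single_mem 9 (by simp [d4m2]) (-1) hm)) (single_mem 14 (by simp [d4p2]) 1 h1)
  · rw [nJ_three certs 0 2 3 (crossOK [0, 2, 3] (by decide) 0 (by decide) 2 (by decide) (by decide))
      (crossOK [0, 2, 3] (by decide) 0 (by decide) 3 (by decide) (by decide))
      (crossOK [0, 2, 3] (by decide) 2 (by decide) 3 (by decide) (by decide)), s0, s2, s3, n0, n2, n3]
    have e1 : xGL dc 18 (1 : K) * (xGL dc 13 1 * xGL dc 12 1) = wordGL dc [(18, 1), (13, f 1), (12, f (f 1))] := by
      rw [wordGL_cons, wordGL_cons, wordGL_cons, wordGL_nil, mul_one, hf1, hf1]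
    have e2 : xGL dc 5 (-1 : K) * (xGL dc 10 (-1) * xGL dc 11 (-1)) =
        wordGL dc [(5, -1), (10, f (-1)), (11, f (f (-1)))] := by
      rw [wordGL_cons, wordGL_cons, wordGL_cons, wordGL_nil, mul_one, hfm, hfm]
    rw [e1, e2]
    exact Subgroup.mul_mem _ (Subgroup.mul_mem _ (triple_mem f hf (d4p1, d4p3, d4p4) (by simp) 1)
      (triple_mem f hf (d4m1, d4m3, d4m4) (by simp) (-1))) (triple_mem f hf (d4p1, d4p3, d4p4) (by simp) 1)

include hK hf in
/-- The elements of all classes of positive roots lie in the twisted group. -/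
theorem class_mem (p : ℕ × ℕ) (hp : p ∈ cls) (x : K) (hx : Closes pi eps f p x) :
    yS dc pi eps f p x ∈ twistedD4 K q := by
  have hgood := chain_good (σ := sig f) certs (twistedD4 K q) (fixed hK f hf) Js
    (fun J hJ => ⟨JsOK J hJ, nJ_mem f hf J hJ⟩) steps (baseCls.map fun p => orbRoots pi p.2 p.1) stepsOK
    (by
      intro S hS
      rw [List.mem_map] at hS
      obtain ⟨b, hb, rfl⟩ := hS
      obtain ⟨hb1, hb2⟩ := baseOK b hb
      exact good_base certs (twist f) _ b (classOK b hb1) (fun x hx => gen_mem hK f hf b hb2 x hx))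
    chainOK _ (reachOK p hp)
  exact yS_mem_of_good certs (twist f) _ p (classOK p hp) hgood x hx

include hq hK in
/-- `|U ∩ ³D₄(q)| = q ^ 12`. -/
theorem card_U : Nat.card ↥(chevD4.posUnipotent K ⊓ twistedD4 K q) = q ^ 12 := by
  obtain ⟨f, hf⟩ := Cfsg.Agent.Lib.Helper36_TwistF.exists_frob hq hK
  rw [main certs (twist f) clsOK (twistedD4 K q) (fixed hK f hf) (class_mem hK f hf)]
  have h1 : (cls.map fun p => Nat.card {x : K // Closes pi eps f p x}) = cls.map fun p => q ^ p.2 := by
    apply List.map_congr_left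
    intro p hp
    obtain ⟨-, -, -, -, -, h6, h7⟩ := classesOK p hp
    exact card_closes hq (by norm_num) hK hf p h6 h7
  rw [h1]
  have h2 : ∀ l : List (ℕ × ℕ), (l.map fun p => q ^ p.2).prod = q ^ (l.map fun p => p.2).sum := by
    intro l
    induction l with
    | nil => simp
    | cons a l ih => rw [List.map_cons, List.prod_cons, ih, List.map_cons, List.sum_cons, pow_add]
  rw [h2, sizeOK]

end

end Cfsg.Agent.Lib.Helper36_TwistD4
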