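import Mathlib
import Cfsg.Agent.Lib.Helper36_TwistD4

/-!
# Collection rules for the positive root elements of `D₄(K)` (helper18, for S2342 wave 2)

`X r t = xGL dc r t` for the roots `12, …, 23` (the positive roots of `chevD4`).  For `r < s` the rule `sw_s_r` moves
`X r t` to the left of `X s u` (with the commutator term from the tables of `chevD4`), `sw_s_r'` is the same rule
inside a right-associated product.  `simp only [collect]`-style normalisation of words is done in
`Helper18_TD4Rel`.
-/

set_option autoImplicit false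

namespace Cfsg.Agent.Lib.Helper18_TD4Swap

open Cfsg Cfsg.Lie Cfsg.Agent.Lib.Helper18_ChevFast Cfsg.Agent.Lib.Helper18_ChevEngine
  Cfsg.Agent.Lib.Helper18_ChevN Cfsg.Agent.Lib.Helper18_ChevWeyl
  Cfsg.Agent.Lib.Helper18_ChevGL Cfsg.Agent.Lib.Helper18_ChevTri
  Cfsg.Agent.Lib.Helper18_ChevAdd Cfsg.Agent.Lib.Helper18_ChevUni Cfsg.Agent.Lib.Helper18_ChevComm
  Cfsg.Agent.Lib.Helper36_TwistU Cfsg.Agent.Lib.Helper36_TwistW Cfsg.Agent.Lib.Helper36_TwistS
  Cfsg.Agent.Lib.Helper36_TwistTabD4 Cfsg.Agent.Lib.Helper36_TwistD4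

variable {K : Type*} [Field K]

/-- The root element `x_r(t)` of `D₄(K)`. -/
abbrev X (r : ℕ) (t : K) : GL chevD4.Idx K := xGL dc r t

theorem X_add (r : ℕ) (t u : K) : X r t * X r u = X r (t + u) := xGL_mul dc r t u

theorem X_add' (r : ℕ) (t u : K) (g : GL chevD4.Idx K) : X r t * (X r u * g) = X r (t + u) * g := by
  rw [← mul_assoc, X_add]

theorem X_zero (r : ℕ) : X r (0 : K) = 1 := xGL_zero dc r

theorem X_inv (r : ℕ) (t : K) : (X r t)⁻¹ = X r (-t) := xGL_inv dc r t

/-- The generic swap rule with one commutator term. -/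
theorem swap1 (r s c : ℕ) (C : ℤ) (hr : r < chevD4.nroots) (hs : s < chevD4.nroots) (hne : s ≠ r)
    (hneg : s ≠ chevD4.neg r) (h : chevD4.commTerms r s = [(c, C, 1, 1)]) (t u : K) :
    X s u * X r t = X r t * (X s u * X c ((C : K) * (-t) * u)) := by
  have h1 := conj_of_R2 dc ((certs (K := K)).r2 r s hr hs hne hneg) t u
  rw [commWord_eq, h] at h1
  have h3 : wordGL dc (termWord t u [(c, C, 1, 1)]) = X c ((C : K) * (-t) * u) := by
    unfold termWord
    rw [List.map_cons, List.map_nil, wordGL_cons, wordGL_nil, mul_one, pow_one, pow_one]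
  rw [h3] at h1
  rw [← h1]
  group

/-- The generic swap rule without commutator terms. -/
theorem swap0 (r s : ℕ) (hr : r < chevD4.nroots) (hs : s < chevD4.nroots) (hne : s ≠ r)
    (hneg : s ≠ chevD4.neg r) (h : chevD4.commTerms r s = []) (t u : K) :
    X s u * X r t = X r t * X s u :=
  ((comm_of_terms' (certs (K := K)) r s hr hs (fun h => hne h.symm) hneg h t u).eq).symm

theorem sw_13_12 (t u : K) : X 13 u * X 12 t = X 12 t * X 13 u :=
  swap0 (K := K) 12 13 (by decide) (by decide) (by decide) (by decide) (by decide +kernel) t u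

theorem sw_13_12' (t u : K) (g : GL chevD4.Idx K) : X 13 u * (X 12 t * g) = X 12 t * (X 13 u * g) := by
  rw [← mul_assoc, sw_13_12, mul_assoc]

theorem sw_14_12 (t u : K) : X 14 u * X 12 t = X 12 t * (X 14 u * X 15 (-(t * u))) := by
  have h := swap1 (K := K) 12 14 15 (1) (by decide) (by decide) (by decide) (by decide) (by decide +kernel) t u
  rw [h]
  congr 3
  push_cast
  ring

theorem sw_14_12' (t u : K) (g : GL chevD4.Idx K) :
    X 14 u * (X 12 t * g) = X 12 t * (X 14 u * (X 15 (-(t * u)) * g)) := by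
  rw [← mul_assoc, sw_14_12, mul_assoc, mul_assoc]

theorem sw_15_12 (t u : K) : X 15 u * X 12 t = X 12 t * X 15 u :=
  swap0 (K := K) 12 15 (by decide) (by decide) (by decide) (by decide) (by decide +kernel) t u

theorem sw_15_12' (t u : K) (g : GL chevD4.Idx K) : X 15 u * (X 12 t * g) = X 12 t * (X 15 u * g) := by
  rw [← mul_assoc, sw_15_12, mul_assoc]

theorem sw_16_12 (t u : K) : X 16 u * X 12 t = X 12 t * (X 16 u * X 17 (-(t * u))) := by
  have h := swap1 (K := K) 12 16 17 (1) (by decide) (by decide) (by decide) (by decide) (by decide +kernel) t u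
  rw [h]
  congr 3
  push_cast
  ring

theorem sw_16_12' (t u : K) (g : GL chevD4.Idx K) :
    X 16 u * (X 12 t * g) = X 12 t * (X 16 u * (X 17 (-(t * u)) * g)) := by
  rw [← mul_assoc, sw_16_12, mul_assoc, mul_assoc]

theorem sw_17_12 (t u : K) : X 17 u * X 12 t = X 12 t * X 17 u :=
  swap0 (K := K) 12 17 (by decide) (by decide) (by decide) (by decide) (by decide +kernel) t u

theorem sw_17_12' (t u : K) (g : GL chevD4.Idx K) : X 17 u * (X 12 t * g) = X 12 t * (X 17 u * g) := by
  rw [← mul_assoc, sw_17_12, mul_assoc]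

theorem sw_18_12 (t u : K) : X 18 u * X 12 t = X 12 t * X 18 u :=
  swap0 (K := K) 12 18 (by decide) (by decide) (by decide) (by decide) (by decide +kernel) t u

theorem sw_18_12' (t u : K) (g : GL chevD4.Idx K) : X 18 u * (X 12 t * g) = X 12 t * (X 18 u * g) := by
  rw [← mul_assoc, sw_18_12, mul_assoc]

theorem sw_19_12 (t u : K) : X 19 u * X 12 t = X 12 t * (X 19 u * X 20 (-(t * u))) := by
  have h := swap1 (K := K) 12 19 20 (1) (by decide) (by decide) (by decide) (by decide) (by decide +kernel) t u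
  rw [h]
  congr 3
  push_cast
  ring

theorem sw_19_12' (t u : K) (g : GL chevD4.Idx K) :
    X 19 u * (X 12 t * g) = X 12 t * (X 19 u * (X 20 (-(t * u)) * g)) := by
  rw [← mul_assoc, sw_19_12, mul_assoc, mul_assoc]

theorem sw_20_12 (t u : K) : X 20 u * X 12 t = X 12 t * X 20 u :=
  swap0 (K := K) 12 20 (by decide) (by decide) (by decide) (by decide) (by decide +kernel) t u

theorem sw_20_12' (t u : K) (g : GL chevD4.Idx K) : X 20 u * (X 12 t * g) = X 12 t * (X 20 u * g) := by
  rw [← mul_assoc, sw_20_12, mul_assoc]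

theorem sw_21_12 (t u : K) : X 21 u * X 12 t = X 12 t * (X 21 u * X 22 (-(t * u))) := by
  have h := swap1 (K := K) 12 21 22 (1) (by decide) (by decide) (by decide) (by decide) (by decide +kernel) t u
  rw [h]
  congr 3
  push_cast
  ring

theorem sw_21_12' (t u : K) (g : GL chevD4.Idx K) :
    X 21 u * (X 12 t * g) = X 12 t * (X 21 u * (X 22 (-(t * u)) * g)) := by
  rw [← mul_assoc, sw_21_12, mul_assoc, mul_assoc]

theorem sw_22_12 (t u : K) : X 22 u * X 12 t = X 12 t * X 22 u :=
  swap0 (K := K) 12 22 (by decide) (by decide) (by decide) (by decide) (by decide +kernel) t u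

theorem sw_22_12' (t u : K) (g : GL chevD4.Idx K) : X 22 u * (X 12 t * g) = X 12 t * (X 22 u * g) := by
  rw [← mul_assoc, sw_22_12, mul_assoc]

theorem sw_23_12 (t u : K) : X 23 u * X 12 t = X 12 t * X 23 u :=
  swap0 (K := K) 12 23 (by decide) (by decide) (by decide) (by decide) (by decide +kernel) t u

theorem sw_23_12' (t u : K) (g : GL chevD4.Idx K) : X 23 u * (X 12 t * g) = X 12 t * (X 23 u * g) := by
  rw [← mul_assoc, sw_23_12, mul_assoc]

theorem sw_14_13 (t u : K) : X 14 u * X 13 t = X 13 t * (X 14 u * X 16 (-(t * u))) := by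
  have h := swap1 (K := K) 13 14 16 (1) (by decide) (by decide) (by decide) (by decide) (by decide +kernel) t u
  rw [h]
  congr 3
  push_cast
  ring

theorem sw_14_13' (t u : K) (g : GL chevD4.Idx K) :
    X 14 u * (X 13 t * g) = X 13 t * (X 14 u * (X 16 (-(t * u)) * g)) := by
  rw [← mul_assoc, sw_14_13, mul_assoc, mul_assoc]

theorem sw_15_13 (t u : K) : X 15 u * X 13 t = X 13 t * (X 15 u * X 17 (-(t * u))) := by
  have h := swap1 (K := K) 13 15 17 (1) (by decide) (by decide) (by decide) (by decide) (by decide +kernel) t u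
  rw [h]
  congr 3
  push_cast
  ring

theorem sw_15_13' (t u : K) (g : GL chevD4.Idx K) :
    X 15 u * (X 13 t * g) = X 13 t * (X 15 u * (X 17 (-(t * u)) * g)) := by
  rw [← mul_assoc, sw_15_13, mul_assoc, mul_assoc]

theorem sw_16_13 (t u : K) : X 16 u * X 13 t = X 13 t * X 16 u :=
  swap0 (K := K) 13 16 (by decide) (by decide) (by decide) (by decide) (by decide +kernel) t u

theorem sw_16_13' (t u : K) (g : GL chevD4.Idx K) : X 16 u * (X 13 t * g) = X 13 t * (X 16 u * g) := by
  rw [← mul_assoc, sw_16_13, mul_assoc]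

theorem sw_17_13 (t u : K) : X 17 u * X 13 t = X 13 t * X 17 u :=
  swap0 (K := K) 13 17 (by decide) (by decide) (by decide) (by decide) (by decide +kernel) t u

theorem sw_17_13' (t u : K) (g : GL chevD4.Idx K) : X 17 u * (X 13 t * g) = X 13 t * (X 17 u * g) := by
  rw [← mul_assoc, sw_17_13, mul_assoc]

theorem sw_18_13 (t u : K) : X 18 u * X 13 t = X 13 t * X 18 u :=
  swap0 (K := K) 13 18 (by decide) (by decide) (by decide) (by decide) (by decide +kernel) t u

theorem sw_18_13' (t u : K) (g : GL chevD4.Idx K) : X 18 u * (X 13 t * g) = X 13 t * (X 18 u * g) := by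
  rw [← mul_assoc, sw_18_13, mul_assoc]

theorem sw_19_13 (t u : K) : X 19 u * X 13 t = X 13 t * (X 19 u * X 21 (-(t * u))) := by
  have h := swap1 (K := K) 13 19 21 (1) (by decide) (by decide) (by decide) (by decide) (by decide +kernel) t u
  rw [h]
  congr 3
  push_cast
  ring

theorem sw_19_13' (t u : K) (g : GL chevD4.Idx K) :
    X 19 u * (X 13 t * g) = X 13 t * (X 19 u * (X 21 (-(t * u)) * g)) := by
  rw [← mul_assoc, sw_19_13, mul_assoc, mul_assoc]

theorem sw_20_13 (t u : K) : X 20 u * X 13 t = X 13 t * (X 20 u * X 22 (-(t * u))) := by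
  have h := swap1 (K := K) 13 20 22 (1) (by decide) (by decide) (by decide) (by decide) (by decide +kernel) t u
  rw [h]
  congr 3
  push_cast
  ring

theorem sw_20_13' (t u : K) (g : GL chevD4.Idx K) :
    X 20 u * (X 13 t * g) = X 13 t * (X 20 u * (X 22 (-(t * u)) * g)) := by
  rw [← mul_assoc, sw_20_13, mul_assoc, mul_assoc]

theorem sw_21_13 (t u : K) : X 21 u * X 13 t = X 13 t * X 21 u :=
  swap0 (K := K) 13 21 (by decide) (by decide) (by decide) (by decide) (by decide +kernel) t u

theorem sw_21_13' (t u : K) (g : GL chevD4.Idx K) : X 21 u * (X 13 t * g) = X 13 t * (X 21 u * g) := by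
  rw [← mul_assoc, sw_21_13, mul_assoc]

theorem sw_22_13 (t u : K) : X 22 u * X 13 t = X 13 t * X 22 u :=
  swap0 (K := K) 13 22 (by decide) (by decide) (by decide) (by decide) (by decide +kernel) t u

theorem sw_22_13' (t u : K) (g : GL chevD4.Idx K) : X 22 u * (X 13 t * g) = X 13 t * (X 22 u * g) := by
  rw [← mul_assoc, sw_22_13, mul_assoc]

theorem sw_23_13 (t u : K) : X 23 u * X 13 t = X 13 t * X 23 u :=
  swap0 (K := K) 13 23 (by decide) (by decide) (by decide) (by decide) (by decide +kernel) t u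

theorem sw_23_13' (t u : K) (g : GL chevD4.Idx K) : X 23 u * (X 13 t * g) = X 13 t * (X 23 u * g) := by
  rw [← mul_assoc, sw_23_13, mul_assoc]

theorem sw_15_14 (t u : K) : X 15 u * X 14 t = X 14 t * X 15 u :=
  swap0 (K := K) 14 15 (by decide) (by decide) (by decide) (by decide) (by decide +kernel) t u

theorem sw_15_14' (t u : K) (g : GL chevD4.Idx K) : X 15 u * (X 14 t * g) = X 14 t * (X 15 u * g) := by
  rw [← mul_assoc, sw_15_14, mul_assoc]

theorem sw_16_14 (t u : K) : X 16 u * X 14 t = X 14 t * X 16 u :=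
  swap0 (K := K) 14 16 (by decide) (by decide) (by decide) (by decide) (by decide +kernel) t u

theorem sw_16_14' (t u : K) (g : GL chevD4.Idx K) : X 16 u * (X 14 t * g) = X 14 t * (X 16 u * g) := by
  rw [← mul_assoc, sw_16_14, mul_assoc]

theorem sw_17_14 (t u : K) : X 17 u * X 14 t = X 14 t * X 17 u :=
  swap0 (K := K) 14 17 (by decide) (by decide) (by decide) (by decide) (by decide +kernel) t u

theorem sw_17_14' (t u : K) (g : GL chevD4.Idx K) : X 17 u * (X 14 t * g) = X 14 t * (X 17 u * g) := by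
  rw [← mul_assoc, sw_17_14, mul_assoc]

theorem sw_18_14 (t u : K) : X 18 u * X 14 t = X 14 t * (X 18 u * X 19 (-(t * u))) := by
  have h := swap1 (K := K) 14 18 19 (1) (by decide) (by decide) (by decide) (by decide) (by decide +kernel) t u
  rw [h]
  congr 3
  push_cast
  ring

theorem sw_18_14' (t u : K) (g : GL chevD4.Idx K) :
    X 18 u * (X 14 t * g) = X 14 t * (X 18 u * (X 19 (-(t * u)) * g)) := by
  rw [← mul_assoc, sw_18_14, mul_assoc, mul_assoc]

theorem sw_19_14 (t u : K) : X 19 u * X 14 t = X 14 t * X 19 u :=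
  swap0 (K := K) 14 19 (by decide) (by decide) (by decide) (by decide) (by decide +kernel) t u

theorem sw_19_14' (t u : K) (g : GL chevD4.Idx K) : X 19 u * (X 14 t * g) = X 14 t * (X 19 u * g) := by
  rw [← mul_assoc, sw_19_14, mul_assoc]

theorem sw_20_14 (t u : K) : X 20 u * X 14 t = X 14 t * X 20 u :=
  swap0 (K := K) 14 20 (by decide) (by decide) (by decide) (by decide) (by decide +kernel) t u

theorem sw_20_14' (t u : K) (g : GL chevD4.Idx K) : X 20 u * (X 14 t * g) = X 14 t * (X 20 u * g) := by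
  rw [← mul_assoc, sw_20_14, mul_assoc]

theorem sw_21_14 (t u : K) : X 21 u * X 14 t = X 14 t * X 21 u :=
  swap0 (K := K) 14 21 (by decide) (by decide) (by decide) (by decide) (by decide +kernel) t u

theorem sw_21_14' (t u : K) (g : GL chevD4.Idx K) : X 21 u * (X 14 t * g) = X 14 t * (X 21 u * g) := by
  rw [← mul_assoc, sw_21_14, mul_assoc]

theorem sw_22_14 (t u : K) : X 22 u * X 14 t = X 14 t * (X 22 u * X 23 (-(t * u))) := by
  have h := swap1 (K := K) 14 22 23 (1) (by decide) (by decide) (by decide) (by decide) (by decide +kernel) t u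
  rw [h]
  congr 3
  push_cast
  ring

theorem sw_22_14' (t u : K) (g : GL chevD4.Idx K) :
    X 22 u * (X 14 t * g) = X 14 t * (X 22 u * (X 23 (-(t * u)) * g)) := by
  rw [← mul_assoc, sw_22_14, mul_assoc, mul_assoc]

theorem sw_23_14 (t u : K) : X 23 u * X 14 t = X 14 t * X 23 u :=
  swap0 (K := K) 14 23 (by decide) (by decide) (by decide) (by decide) (by decide +kernel) t u

theorem sw_23_14' (t u : K) (g : GL chevD4.Idx K) : X 23 u * (X 14 t * g) = X 14 t * (X 23 u * g) := by
  rw [← mul_assoc, sw_23_14, mul_assoc]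

theorem sw_16_15 (t u : K) : X 16 u * X 15 t = X 15 t * X 16 u :=
  swap0 (K := K) 15 16 (by decide) (by decide) (by decide) (by decide) (by decide +kernel) t u

theorem sw_16_15' (t u : K) (g : GL chevD4.Idx K) : X 16 u * (X 15 t * g) = X 15 t * (X 16 u * g) := by
  rw [← mul_assoc, sw_16_15, mul_assoc]

theorem sw_17_15 (t u : K) : X 17 u * X 15 t = X 15 t * X 17 u :=
  swap0 (K := K) 15 17 (by decide) (by decide) (by decide) (by decide) (by decide +kernel) t u

theorem sw_17_15' (t u : K) (g : GL chevD4.Idx K) : X 17 u * (X 15 t * g) = X 15 t * (X 17 u * g) := by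
  rw [← mul_assoc, sw_17_15, mul_assoc]

theorem sw_18_15 (t u : K) : X 18 u * X 15 t = X 15 t * (X 18 u * X 20 (-(t * u))) := by
  have h := swap1 (K := K) 15 18 20 (1) (by decide) (by decide) (by decide) (by decide) (by decide +kernel) t u
  rw [h]
  congr 3
  push_cast
  ring

theorem sw_18_15' (t u : K) (g : GL chevD4.Idx K) :
    X 18 u * (X 15 t * g) = X 15 t * (X 18 u * (X 20 (-(t * u)) * g)) := by
  rw [← mul_assoc, sw_18_15, mul_assoc, mul_assoc]

theorem sw_19_15 (t u : K) : X 19 u * X 15 t = X 15 t * X 19 u :=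
  swap0 (K := K) 15 19 (by decide) (by decide) (by decide) (by decide) (by decide +kernel) t u

theorem sw_19_15' (t u : K) (g : GL chevD4.Idx K) : X 19 u * (X 15 t * g) = X 15 t * (X 19 u * g) := by
  rw [← mul_assoc, sw_19_15, mul_assoc]

theorem sw_20_15 (t u : K) : X 20 u * X 15 t = X 15 t * X 20 u :=
  swap0 (K := K) 15 20 (by decide) (by decide) (by decide) (by decide) (by decide +kernel) t u

theorem sw_20_15' (t u : K) (g : GL chevD4.Idx K) : X 20 u * (X 15 t * g) = X 15 t * (X 20 u * g) := by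
  rw [← mul_assoc, sw_20_15, mul_assoc]

theorem sw_21_15 (t u : K) : X 21 u * X 15 t = X 15 t * (X 21 u * X 23 (t * u)) := by
  have h := swap1 (K := K) 15 21 23 (-1) (by decide) (by decide) (by decide) (by decide) (by decide +kernel) t u
  rw [h]
  congr 3
  push_cast
  ring

theorem sw_21_15' (t u : K) (g : GL chevD4.Idx K) :
    X 21 u * (X 15 t * g) = X 15 t * (X 21 u * (X 23 (t * u) * g)) := by
  rw [← mul_assoc, sw_21_15, mul_assoc, mul_assoc]

theorem sw_22_15 (t u : K) : X 22 u * X 15 t = X 15 t * X 22 u :=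
  swap0 (K := K) 15 22 (by decide) (by decide) (by decide) (by decide) (by decide +kernel) t u

theorem sw_22_15' (t u : K) (g : GL chevD4.Idx K) : X 22 u * (X 15 t * g) = X 15 t * (X 22 u * g) := by
  rw [← mul_assoc, sw_22_15, mul_assoc]

theorem sw_23_15 (t u : K) : X 23 u * X 15 t = X 15 t * X 23 u :=
  swap0 (K := K) 15 23 (by decide) (by decide) (by decide) (by decide) (by decide +kernel) t u

theorem sw_23_15' (t u : K) (g : GL chevD4.Idx K) : X 23 u * (X 15 t * g) = X 15 t * (X 23 u * g) := by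
  rw [← mul_assoc, sw_23_15, mul_assoc]

theorem sw_17_16 (t u : K) : X 17 u * X 16 t = X 16 t * X 17 u :=
  swap0 (K := K) 16 17 (by decide) (by decide) (by decide) (by decide) (by decide +kernel) t u

theorem sw_17_16' (t u : K) (g : GL chevD4.Idx K) : X 17 u * (X 16 t * g) = X 16 t * (X 17 u * g) := by
  rw [← mul_assoc, sw_17_16, mul_assoc]

theorem sw_18_16 (t u : K) : X 18 u * X 16 t = X 16 t * (X 18 u * X 21 (-(t * u))) := by
  have h := swap1 (K := K) 16 18 21 (1) (by decide) (by decide) (by decide) (by decide) (by decide +kernel) t u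
  rw [h]
  congr 3
  push_cast
  ring

theorem sw_18_16' (t u : K) (g : GL chevD4.Idx K) :
    X 18 u * (X 16 t * g) = X 16 t * (X 18 u * (X 21 (-(t * u)) * g)) := by
  rw [← mul_assoc, sw_18_16, mul_assoc, mul_assoc]

theorem sw_19_16 (t u : K) : X 19 u * X 16 t = X 16 t * X 19 u :=
  swap0 (K := K) 16 19 (by decide) (by decide) (by decide) (by decide) (by decide +kernel) t u

theorem sw_19_16' (t u : K) (g : GL chevD4.Idx K) : X 19 u * (X 16 t * g) = X 16 t * (X 19 u * g) := by
  rw [← mul_assoc, sw_19_16, mul_assoc]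

theorem sw_20_16 (t u : K) : X 20 u * X 16 t = X 16 t * (X 20 u * X 23 (t * u)) := by
  have h := swap1 (K := K) 16 20 23 (-1) (by decide) (by decide) (by decide) (by decide) (by decide +kernel) t u
  rw [h]
  congr 3
  push_cast
  ring

theorem sw_20_16' (t u : K) (g : GL chevD4.Idx K) :
    X 20 u * (X 16 t * g) = X 16 t * (X 20 u * (X 23 (t * u) * g)) := by
  rw [← mul_assoc, sw_20_16, mul_assoc, mul_assoc]

theorem sw_21_16 (t u : K) : X 21 u * X 16 t = X 16 t * X 21 u :=
  swap0 (K := K) 16 21 (by decide) (by decide) (by decide) (by decide) (by decide +kernel) t u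

theorem sw_21_16' (t u : K) (g : GL chevD4.Idx K) : X 21 u * (X 16 t * g) = X 16 t * (X 21 u * g) := by
  rw [← mul_assoc, sw_21_16, mul_assoc]

theorem sw_22_16 (t u : K) : X 22 u * X 16 t = X 16 t * X 22 u :=
  swap0 (K := K) 16 22 (by decide) (by decide) (by decide) (by decide) (by decide +kernel) t u

theorem sw_22_16' (t u : K) (g : GL chevD4.Idx K) : X 22 u * (X 16 t * g) = X 16 t * (X 22 u * g) := by
  rw [← mul_assoc, sw_22_16, mul_assoc]

theorem sw_23_16 (t u : K) : X 23 u * X 16 t = X 16 t * X 23 u :=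
  swap0 (K := K) 16 23 (by decide) (by decide) (by decide) (by decide) (by decide +kernel) t u

theorem sw_23_16' (t u : K) (g : GL chevD4.Idx K) : X 23 u * (X 16 t * g) = X 16 t * (X 23 u * g) := by
  rw [← mul_assoc, sw_23_16, mul_assoc]

theorem sw_18_17 (t u : K) : X 18 u * X 17 t = X 17 t * (X 18 u * X 22 (-(t * u))) := by
  have h := swap1 (K := K) 17 18 22 (1) (by decide) (by decide) (by decide) (by decide) (by decide +kernel) t u
  rw [h]
  congr 3
  push_cast
  ring

theorem sw_18_17' (t u : K) (g : GL chevD4.Idx K) :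
    X 18 u * (X 17 t * g) = X 17 t * (X 18 u * (X 22 (-(t * u)) * g)) := by
  rw [← mul_assoc, sw_18_17, mul_assoc, mul_assoc]

theorem sw_19_17 (t u : K) : X 19 u * X 17 t = X 17 t * (X 19 u * X 23 (-(t * u))) := by
  have h := swap1 (K := K) 17 19 23 (1) (by decide) (by decide) (by decide) (by decide) (by decide +kernel) t u
  rw [h]
  congr 3
  push_cast
  ring

theorem sw_19_17' (t u : K) (g : GL chevD4.Idx K) :
    X 19 u * (X 17 t * g) = X 17 t * (X 19 u * (X 23 (-(t * u)) * g)) := by
  rw [← mul_assoc, sw_19_17, mul_assoc, mul_assoc]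

theorem sw_20_17 (t u : K) : X 20 u * X 17 t = X 17 t * X 20 u :=
  swap0 (K := K) 17 20 (by decide) (by decide) (by decide) (by decide) (by decide +kernel) t u

theorem sw_20_17' (t u : K) (g : GL chevD4.Idx K) : X 20 u * (X 17 t * g) = X 17 t * (X 20 u * g) := by
  rw [← mul_assoc, sw_20_17, mul_assoc]

theorem sw_21_17 (t u : K) : X 21 u * X 17 t = X 17 t * X 21 u :=
  swap0 (K := K) 17 21 (by decide) (by decide) (by decide) (by decide) (by decide +kernel) t u

theorem sw_21_17' (t u : K) (g : GL chevD4.Idx K) : X 21 u * (X 17 t * g) = X 17 t * (X 21 u * g) := by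
  rw [← mul_assoc, sw_21_17, mul_assoc]

theorem sw_22_17 (t u : K) : X 22 u * X 17 t = X 17 t * X 22 u :=
  swap0 (K := K) 17 22 (by decide) (by decide) (by decide) (by decide) (by decide +kernel) t u

theorem sw_22_17' (t u : K) (g : GL chevD4.Idx K) : X 22 u * (X 17 t * g) = X 17 t * (X 22 u * g) := by
  rw [← mul_assoc, sw_22_17, mul_assoc]

theorem sw_23_17 (t u : K) : X 23 u * X 17 t = X 17 t * X 23 u :=
  swap0 (K := K) 17 23 (by decide) (by decide) (by decide) (by decide) (by decide +kernel) t u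

theorem sw_23_17' (t u : K) (g : GL chevD4.Idx K) : X 23 u * (X 17 t * g) = X 17 t * (X 23 u * g) := by
  rw [← mul_assoc, sw_23_17, mul_assoc]

theorem sw_19_18 (t u : K) : X 19 u * X 18 t = X 18 t * X 19 u :=
  swap0 (K := K) 18 19 (by decide) (by decide) (by decide) (by decide) (by decide +kernel) t u

theorem sw_19_18' (t u : K) (g : GL chevD4.Idx K) : X 19 u * (X 18 t * g) = X 18 t * (X 19 u * g) := by
  rw [← mul_assoc, sw_19_18, mul_assoc]

theorem sw_20_18 (t u : K) : X 20 u * X 18 t = X 18 t * X 20 u :=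
  swap0 (K := K) 18 20 (by decide) (by decide) (by decide) (by decide) (by decide +kernel) t u

theorem sw_20_18' (t u : K) (g : GL chevD4.Idx K) : X 20 u * (X 18 t * g) = X 18 t * (X 20 u * g) := by
  rw [← mul_assoc, sw_20_18, mul_assoc]

theorem sw_21_18 (t u : K) : X 21 u * X 18 t = X 18 t * X 21 u :=
  swap0 (K := K) 18 21 (by decide) (by decide) (by decide) (by decide) (by decide +kernel) t u

theorem sw_21_18' (t u : K) (g : GL chevD4.Idx K) : X 21 u * (X 18 t * g) = X 18 t * (X 21 u * g) := by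
  rw [← mul_assoc, sw_21_18, mul_assoc]

theorem sw_22_18 (t u : K) : X 22 u * X 18 t = X 18 t * X 22 u :=
  swap0 (K := K) 18 22 (by decide) (by decide) (by decide) (by decide) (by decide +kernel) t u

theorem sw_22_18' (t u : K) (g : GL chevD4.Idx K) : X 22 u * (X 18 t * g) = X 18 t * (X 22 u * g) := by
  rw [← mul_assoc, sw_22_18, mul_assoc]

theorem sw_23_18 (t u : K) : X 23 u * X 18 t = X 18 t * X 23 u :=
  swap0 (K := K) 18 23 (by decide) (by decide) (by decide) (by decide) (by decide +kernel) t u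

theorem sw_23_18' (t u : K) (g : GL chevD4.Idx K) : X 23 u * (X 18 t * g) = X 18 t * (X 23 u * g) := by
  rw [← mul_assoc, sw_23_18, mul_assoc]

theorem sw_20_19 (t u : K) : X 20 u * X 19 t = X 19 t * X 20 u :=
  swap0 (K := K) 19 20 (by decide) (by decide) (by decide) (by decide) (by decide +kernel) t u

theorem sw_20_19' (t u : K) (g : GL chevD4.Idx K) : X 20 u * (X 19 t * g) = X 19 t * (X 20 u * g) := by
  rw [← mul_assoc, sw_20_19, mul_assoc]

theorem sw_21_19 (t u : K) : X 21 u * X 19 t = X 19 t * X 21 u :=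
  swap0 (K := K) 19 21 (by decide) (by decide) (by decide) (by decide) (by decide +kernel) t u

theorem sw_21_19' (t u : K) (g : GL chevD4.Idx K) : X 21 u * (X 19 t * g) = X 19 t * (X 21 u * g) := by
  rw [← mul_assoc, sw_21_19, mul_assoc]

theorem sw_22_19 (t u : K) : X 22 u * X 19 t = X 19 t * X 22 u :=
  swap0 (K := K) 19 22 (by decide) (by decide) (by decide) (by decide) (by decide +kernel) t u

theorem sw_22_19' (t u : K) (g : GL chevD4.Idx K) : X 22 u * (X 19 t * g) = X 19 t * (X 22 u * g) := by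
  rw [← mul_assoc, sw_22_19, mul_assoc]

theorem sw_23_19 (t u : K) : X 23 u * X 19 t = X 19 t * X 23 u :=
  swap0 (K := K) 19 23 (by decide) (by decide) (by decide) (by decide) (by decide +kernel) t u

theorem sw_23_19' (t u : K) (g : GL chevD4.Idx K) : X 23 u * (X 19 t * g) = X 19 t * (X 23 u * g) := by
  rw [← mul_assoc, sw_23_19, mul_assoc]

theorem sw_21_20 (t u : K) : X 21 u * X 20 t = X 20 t * X 21 u :=
  swap0 (K := K) 20 21 (by decide) (by decide) (by decide) (by decide) (by decide +kernel) t u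

theorem sw_21_20' (t u : K) (g : GL chevD4.Idx K) : X 21 u * (X 20 t * g) = X 20 t * (X 21 u * g) := by
  rw [← mul_assoc, sw_21_20, mul_assoc]

theorem sw_22_20 (t u : K) : X 22 u * X 20 t = X 20 t * X 22 u :=
  swap0 (K := K) 20 22 (by decide) (by decide) (by decide) (by decide) (by decide +kernel) t u

theorem sw_22_20' (t u : K) (g : GL chevD4.Idx K) : X 22 u * (X 20 t * g) = X 20 t * (X 22 u * g) := by
  rw [← mul_assoc, sw_22_20, mul_assoc]

theorem sw_23_20 (t u : K) : X 23 u * X 20 t = X 20 t * X 23 u :=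
  swap0 (K := K) 20 23 (by decide) (by decide) (by decide) (by decide) (by decide +kernel) t u

theorem sw_23_20' (t u : K) (g : GL chevD4.Idx K) : X 23 u * (X 20 t * g) = X 20 t * (X 23 u * g) := by
  rw [← mul_assoc, sw_23_20, mul_assoc]

theorem sw_22_21 (t u : K) : X 22 u * X 21 t = X 21 t * X 22 u :=
  swap0 (K := K) 21 22 (by decide) (by decide) (by decide) (by decide) (by decide +kernel) t u

theorem sw_22_21' (t u : K) (g : GL chevD4.Idx K) : X 22 u * (X 21 t * g) = X 21 t * (X 22 u * g) := by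
  rw [← mul_assoc, sw_22_21, mul_assoc]

theorem sw_23_21 (t u : K) : X 23 u * X 21 t = X 21 t * X 23 u :=
  swap0 (K := K) 21 23 (by decide) (by decide) (by decide) (by decide) (by decide +kernel) t u

theorem sw_23_21' (t u : K) (g : GL chevD4.Idx K) : X 23 u * (X 21 t * g) = X 21 t * (X 23 u * g) := by
  rw [← mul_assoc, sw_23_21, mul_assoc]

theorem sw_23_22 (t u : K) : X 23 u * X 22 t = X 22 t * X 23 u :=
  swap0 (K := K) 22 23 (by decide) (by decide) (by decide) (by decide) (by decide +kernel) t u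

theorem sw_23_22' (t u : K) (g : GL chevD4.Idx K) : X 23 u * (X 22 t * g) = X 22 t * (X 23 u * g) := by
  rw [← mul_assoc, sw_23_22, mul_assoc]

end Cfsg.Agent.Lib.Helper18_TD4Swap
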