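import Mathlib
import Cfsg.Agent.Lib.Helper18_TD4Swap

/-!
# S2342 wave 2 (architect helper23): the commutator relations of `³D₄(q)` in `GL` form (helper18)

`K` a field, `f : K →+* K` (later the Frobenius `x ↦ x ^ q`).  Elements (helper36's conventions, `dc`, `pi`, `eps` of
`Helper36_TwistD4` / `Helper36_TwistTabD4`):
`z s = xGL dc 23 s`, `e s = xGL dc 22 s`, `b s = xGL dc 14 s`, `bm s = xGL dc 9 s`,
`a t = yS dc pi eps f (18, 3) t = x₁₈(t) x₁₃(f t) x₁₂(f f t)`,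
`y1 u = yS dc pi eps f (15, 3) u = x₁₅(u) x₁₉(-f u) x₁₆(f f u)`,
`y2 u = yS dc pi eps f (17, 3) u = x₁₇(u) x₂₀(-f u) x₂₁(-f f u)`.

Relations (R2) `z_e z_b z_y1 z_y2 z_a e_y1 e_y2 e_a e_bm b_y1 b_y2 y1_y2`, (R3) `b_e bm_z`, (R4) `a_y2 a_y1 a_b`,
all proved by the collection rules of `Helper18_TD4Swap`.  Constants: `c1 = c2 = c3 = c4 = 1`.
-/

set_option autoImplicit false
set_option linter.unusedSimpArgs false

namespace Cfsg.Agent.Lib.Helper18_TD4Struct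

open Cfsg Cfsg.Lie Cfsg.Agent.Lib.Helper18_ChevGL Cfsg.Agent.Lib.Helper18_ChevUni
  Cfsg.Agent.Lib.Helper36_TwistU Cfsg.Agent.Lib.Helper36_TwistW
  Cfsg.Agent.Lib.Helper36_TwistTabD4 Cfsg.Agent.Lib.Helper36_TwistD4 Cfsg.Agent.Lib.Helper18_TD4Swap

variable {K : Type*} [Field K] (f : K →+* K)

/-! ### The class elements as words -/

theorem piTab : pi 18 = 13 ∧ pi 13 = 12 ∧ eps 18 = 1 ∧ eps 13 = 1 ∧ pi 15 = 19 ∧ pi 19 = 16 ∧ eps 15 = -1 ∧
    eps 19 = -1 ∧ pi 17 = 20 ∧ pi 20 = 21 ∧ eps 17 = -1 ∧ eps 20 = 1 := by decide +kernel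

theorem yS_a (t : K) : yS dc pi eps f (18, 3) t = X 18 t * (X 13 (f t) * X 12 (f (f t))) := by
  obtain ⟨h1, h2, h3, h4, -⟩ := piTab
  unfold yS
  simp only [orbWord, stepL, h1, h2, h3, h4]
  rw [wordGL_cons, wordGL_cons, wordGL_cons, wordGL_nil, mul_one]
  simp

theorem yS_y1 (u : K) : yS dc pi eps f (15, 3) u = X 15 u * (X 19 (-(f u)) * X 16 (f (f u))) := by
  obtain ⟨-, -, -, -, h1, h2, h3, h4, -⟩ := piTab
  unfold yS
  simp only [orbWord, stepL, h1, h2, h3, h4]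
  rw [wordGL_cons, wordGL_cons, wordGL_cons, wordGL_nil, mul_one]
  simp

theorem yS_y2 (u : K) : yS dc pi eps f (17, 3) u = X 17 u * (X 20 (-(f u)) * X 21 (-(f (f u)))) := by
  obtain ⟨-, -, -, -, -, -, -, -, h1, h2, h3, h4⟩ := piTab
  unfold yS
  simp only [orbWord, stepL, h1, h2, h3, h4]
  rw [wordGL_cons, wordGL_cons, wordGL_cons, wordGL_nil, mul_one]
  simp

theorem yS_one (r : ℕ) (t : K) : yS dc pi eps f (r, 1) t = X r t := by
  unfold yS
  simp only [orbWord]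
  rw [wordGL_cons, wordGL_nil, mul_one]

/-! ### (R2) commutation -/

theorem z_e (s t : K) : Commute (X 23 s) (X 22 t) := by
  unfold Commute SemiconjBy
  simp only [mul_inv_rev, X_inv, mul_assoc, X_add, X_add', sw_13_12, sw_13_12', sw_14_12, sw_14_12', sw_15_12, sw_15_12', sw_16_12, sw_16_12', sw_17_12, sw_17_12', sw_18_12, sw_18_12', sw_19_12, sw_19_12', sw_20_12, sw_20_12', sw_21_12, sw_21_12', sw_22_12, sw_22_12', sw_23_12, sw_23_12', sw_14_13, sw_14_13', sw_15_13, sw_15_13', sw_16_13, sw_16_13', sw_17_13, sw_17_13', sw_18_13, sw_18_13', sw_19_13, sw_19_13', sw_20_13, sw_20_13', sw_21_13, sw_21_13', sw_22_13, sw_22_13', sw_23_13, sw_23_13', sw_15_14, sw_15_14', sw_16_14, sw_16_14', sw_17_14, sw_17_14', sw_18_14, sw_18_14', sw_19_14, sw_19_14', sw_20_14, sw_20_14', sw_21_14, sw_21_14', sw_22_14, sw_22_14', sw_23_14, sw_23_14', sw_16_15, sw_16_15', sw_17_15, sw_17_15', sw_18_15, sw_18_15', sw_19_15,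 sw_19_15', sw_20_15, sw_20_15', sw_21_15, sw_21_15', sw_22_15, sw_22_15', sw_23_15, sw_23_15', sw_17_16, sw_17_16', sw_18_16, sw_18_16', sw_19_16, sw_19_16', sw_20_16, sw_20_16', sw_21_16, sw_21_16', sw_22_16, sw_22_16', sw_23_16, sw_23_16', sw_18_17, sw_18_17', sw_19_17, sw_19_17', sw_20_17, sw_20_17', sw_21_17, sw_21_17', sw_22_17, sw_22_17', sw_23_17, sw_23_17', sw_19_18, sw_19_18', sw_20_18, sw_20_18', sw_21_18, sw_21_18', sw_22_18, sw_22_18', sw_23_18, sw_23_18', sw_20_19, sw_20_19', sw_21_19, sw_21_19', sw_22_19, sw_22_19', sw_23_19, sw_23_19', sw_21_20, sw_21_20', sw_22_20, sw_22_20', sw_23_20, sw_23_20', sw_22_21, sw_22_21', sw_23_21, sw_23_21', sw_23_22, sw_23_22']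

theorem z_b (s t : K) : Commute (X 23 s) (X 14 t) := by
  unfold Commute SemiconjBy
  simp only [mul_inv_rev, X_inv, mul_assoc, X_add, X_add', sw_13_12, sw_13_12', sw_14_12, sw_14_12', sw_15_12, sw_15_12', sw_16_12, sw_16_12', sw_17_12, sw_17_12', sw_18_12, sw_18_12', sw_19_12, sw_19_12', sw_20_12, sw_20_12', sw_21_12, sw_21_12', sw_22_12, sw_22_12', sw_23_12, sw_23_12', sw_14_13, sw_14_13', sw_15_13, sw_15_13', sw_16_13, sw_16_13', sw_17_13, sw_17_13', sw_18_13, sw_18_13', sw_19_13, sw_19_13', sw_20_13, sw_20_13', sw_21_13, sw_21_13', sw_22_13, sw_22_13', sw_23_13, sw_23_13', sw_15_14, sw_15_14', sw_16_14, sw_16_14', sw_17_14, sw_17_14', sw_18_14, sw_18_14', sw_19_14, sw_19_14', sw_20_14, sw_20_14', sw_21_14, sw_21_14', sw_22_14, sw_22_14', sw_23_14, sw_23_14', sw_16_15, sw_16_15', sw_17_15, sw_17_15', sw_18_15, sw_18_15', sw_19_15, sw_19_15', sw_20_15, sw_20_15', sw_21_15, sw_21_15', sw_22_15, sw_22_15',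 sw_23_15, sw_23_15', sw_17_16, sw_17_16', sw_18_16, sw_18_16', sw_19_16, sw_19_16', sw_20_16, sw_20_16', sw_21_16, sw_21_16', sw_22_16, sw_22_16', sw_23_16, sw_23_16', sw_18_17, sw_18_17', sw_19_17, sw_19_17', sw_20_17, sw_20_17', sw_21_17, sw_21_17', sw_22_17, sw_22_17', sw_23_17, sw_23_17', sw_19_18, sw_19_18', sw_20_18, sw_20_18', sw_21_18, sw_21_18', sw_22_18, sw_22_18', sw_23_18, sw_23_18', sw_20_19, sw_20_19', sw_21_19, sw_21_19', sw_22_19, sw_22_19', sw_23_19, sw_23_19', sw_21_20, sw_21_20', sw_22_20, sw_22_20', sw_23_20, sw_23_20', sw_22_21, sw_22_21', sw_23_21, sw_23_21', sw_23_22, sw_23_22']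

theorem z_y1 (s u : K) : Commute (X 23 s) (yS dc pi eps f (15, 3) u) := by
  unfold Commute SemiconjBy
  rw [yS_y1]
  simp only [mul_inv_rev, X_inv, mul_assoc, X_add, X_add', sw_13_12, sw_13_12', sw_14_12, sw_14_12', sw_15_12, sw_15_12', sw_16_12, sw_16_12', sw_17_12, sw_17_12', sw_18_12, sw_18_12', sw_19_12, sw_19_12', sw_20_12, sw_20_12', sw_21_12, sw_21_12', sw_22_12, sw_22_12', sw_23_12, sw_23_12', sw_14_13, sw_14_13', sw_15_13, sw_15_13', sw_16_13, sw_16_13', sw_17_13, sw_17_13', sw_18_13, sw_18_13', sw_19_13, sw_19_13', sw_20_13, sw_20_13', sw_21_13, sw_21_13', sw_22_13, sw_22_13', sw_23_13, sw_23_13', sw_15_14, sw_15_14', sw_16_14, sw_16_14', sw_17_14, sw_17_14', sw_18_14, sw_18_14', sw_19_14, sw_19_14', sw_20_14, sw_20_14', sw_21_14, sw_21_14', sw_22_14, sw_22_14', sw_23_14, sw_23_14', sw_16_15, sw_16_15', sw_17_15, sw_17_15', sw_18_15, sw_18_15', sw_19_15, sw_19_15', sw_20_15, sw_20_15', sw_21_15,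 sw_21_15', sw_22_15, sw_22_15', sw_23_15, sw_23_15', sw_17_16, sw_17_16', sw_18_16, sw_18_16', sw_19_16, sw_19_16', sw_20_16, sw_20_16', sw_21_16, sw_21_16', sw_22_16, sw_22_16', sw_23_16, sw_23_16', sw_18_17, sw_18_17', sw_19_17, sw_19_17', sw_20_17, sw_20_17', sw_21_17, sw_21_17', sw_22_17, sw_22_17', sw_23_17, sw_23_17', sw_19_18, sw_19_18', sw_20_18, sw_20_18', sw_21_18, sw_21_18', sw_22_18, sw_22_18', sw_23_18, sw_23_18', sw_20_19, sw_20_19', sw_21_19, sw_21_19', sw_22_19, sw_22_19', sw_23_19, sw_23_19', sw_21_20, sw_21_20', sw_22_20, sw_22_20', sw_23_20, sw_23_20', sw_22_21, sw_22_21', sw_23_21, sw_23_21', sw_23_22, sw_23_22']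

theorem z_y2 (s u : K) : Commute (X 23 s) (yS dc pi eps f (17, 3) u) := by
  unfold Commute SemiconjBy
  rw [yS_y2]
  simp only [mul_inv_rev, X_inv, mul_assoc, X_add, X_add', sw_13_12, sw_13_12', sw_14_12, sw_14_12', sw_15_12, sw_15_12', sw_16_12, sw_16_12', sw_17_12, sw_17_12', sw_18_12, sw_18_12', sw_19_12, sw_19_12', sw_20_12, sw_20_12', sw_21_12, sw_21_12', sw_22_12, sw_22_12', sw_23_12, sw_23_12', sw_14_13, sw_14_13', sw_15_13, sw_15_13', sw_16_13, sw_16_13', sw_17_13, sw_17_13', sw_18_13, sw_18_13', sw_19_13, sw_19_13', sw_20_13, sw_20_13', sw_21_13, sw_21_13', sw_22_13, sw_22_13', sw_23_13, sw_23_13', sw_15_14, sw_15_14', sw_16_14, sw_16_14', sw_17_14, sw_17_14', sw_18_14, sw_18_14', sw_19_14, sw_19_14', sw_20_14, sw_20_14', sw_21_14, sw_21_14', sw_22_14, sw_22_14', sw_23_14, sw_23_14', sw_16_15, sw_16_15', sw_17_15, sw_17_15', sw_18_15, sw_18_15', sw_19_15, sw_19_15', sw_20_15, sw_20_15', sw_21_15,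 sw_21_15', sw_22_15, sw_22_15', sw_23_15, sw_23_15', sw_17_16, sw_17_16', sw_18_16, sw_18_16', sw_19_16, sw_19_16', sw_20_16, sw_20_16', sw_21_16, sw_21_16', sw_22_16, sw_22_16', sw_23_16, sw_23_16', sw_18_17, sw_18_17', sw_19_17, sw_19_17', sw_20_17, sw_20_17', sw_21_17, sw_21_17', sw_22_17, sw_22_17', sw_23_17, sw_23_17', sw_19_18, sw_19_18', sw_20_18, sw_20_18', sw_21_18, sw_21_18', sw_22_18, sw_22_18', sw_23_18, sw_23_18', sw_20_19, sw_20_19', sw_21_19, sw_21_19', sw_22_19, sw_22_19', sw_23_19, sw_23_19', sw_21_20, sw_21_20', sw_22_20, sw_22_20', sw_23_20, sw_23_20', sw_22_21, sw_22_21', sw_23_21, sw_23_21', sw_23_22, sw_23_22']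

theorem z_a (s u : K) : Commute (X 23 s) (yS dc pi eps f (18, 3) u) := by
  unfold Commute SemiconjBy
  rw [yS_a]
  simp only [mul_inv_rev, X_inv, mul_assoc, X_add, X_add', sw_13_12, sw_13_12', sw_14_12, sw_14_12', sw_15_12, sw_15_12', sw_16_12, sw_16_12', sw_17_12, sw_17_12', sw_18_12, sw_18_12', sw_19_12, sw_19_12', sw_20_12, sw_20_12', sw_21_12, sw_21_12', sw_22_12, sw_22_12', sw_23_12, sw_23_12', sw_14_13, sw_14_13', sw_15_13, sw_15_13', sw_16_13, sw_16_13', sw_17_13, sw_17_13', sw_18_13, sw_18_13', sw_19_13, sw_19_13', sw_20_13, sw_20_13', sw_21_13, sw_21_13', sw_22_13, sw_22_13', sw_23_13, sw_23_13', sw_15_14, sw_15_14', sw_16_14, sw_16_14', sw_17_14, sw_17_14', sw_18_14, sw_18_14', sw_19_14, sw_19_14', sw_20_14, sw_20_14', sw_21_14, sw_21_14', sw_22_14, sw_22_14', sw_23_14, sw_23_14', sw_16_15, sw_16_15', sw_17_15, sw_17_15', sw_18_15, sw_18_15', sw_19_15, sw_19_15', sw_20_15, sw_20_15', sw_21_15,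 sw_21_15', sw_22_15, sw_22_15', sw_23_15, sw_23_15', sw_17_16, sw_17_16', sw_18_16, sw_18_16', sw_19_16, sw_19_16', sw_20_16, sw_20_16', sw_21_16, sw_21_16', sw_22_16, sw_22_16', sw_23_16, sw_23_16', sw_18_17, sw_18_17', sw_19_17, sw_19_17', sw_20_17, sw_20_17', sw_21_17, sw_21_17', sw_22_17, sw_22_17', sw_23_17, sw_23_17', sw_19_18, sw_19_18', sw_20_18, sw_20_18', sw_21_18, sw_21_18', sw_22_18, sw_22_18', sw_23_18, sw_23_18', sw_20_19, sw_20_19', sw_21_19, sw_21_19', sw_22_19, sw_22_19', sw_23_19, sw_23_19', sw_21_20, sw_21_20', sw_22_20, sw_22_20', sw_23_20, sw_23_20', sw_22_21, sw_22_21', sw_23_21, sw_23_21', sw_23_22, sw_23_22']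

theorem e_y1 (s u : K) : Commute (X 22 s) (yS dc pi eps f (15, 3) u) := by
  unfold Commute SemiconjBy
  rw [yS_y1]
  simp only [mul_inv_rev, X_inv, mul_assoc, X_add, X_add', sw_13_12, sw_13_12', sw_14_12, sw_14_12', sw_15_12, sw_15_12', sw_16_12, sw_16_12', sw_17_12, sw_17_12', sw_18_12, sw_18_12', sw_19_12, sw_19_12', sw_20_12, sw_20_12', sw_21_12, sw_21_12', sw_22_12, sw_22_12', sw_23_12, sw_23_12', sw_14_13, sw_14_13', sw_15_13, sw_15_13', sw_16_13, sw_16_13', sw_17_13, sw_17_13', sw_18_13, sw_18_13', sw_19_13, sw_19_13', sw_20_13, sw_20_13', sw_21_13, sw_21_13', sw_22_13, sw_22_13', sw_23_13, sw_23_13', sw_15_14, sw_15_14', sw_16_14, sw_16_14', sw_17_14, sw_17_14', sw_18_14, sw_18_14', sw_19_14, sw_19_14', sw_20_14, sw_20_14', sw_21_14, sw_21_14', sw_22_14, sw_22_14', sw_23_14, sw_23_14', sw_16_15, sw_16_15', sw_17_15, sw_17_15', sw_18_15, sw_18_15', sw_19_15, sw_19_15', sw_20_15, sw_20_15', sw_21_15,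 sw_21_15', sw_22_15, sw_22_15', sw_23_15, sw_23_15', sw_17_16, sw_17_16', sw_18_16, sw_18_16', sw_19_16, sw_19_16', sw_20_16, sw_20_16', sw_21_16, sw_21_16', sw_22_16, sw_22_16', sw_23_16, sw_23_16', sw_18_17, sw_18_17', sw_19_17, sw_19_17', sw_20_17, sw_20_17', sw_21_17, sw_21_17', sw_22_17, sw_22_17', sw_23_17, sw_23_17', sw_19_18, sw_19_18', sw_20_18, sw_20_18', sw_21_18, sw_21_18', sw_22_18, sw_22_18', sw_23_18, sw_23_18', sw_20_19, sw_20_19', sw_21_19, sw_21_19', sw_22_19, sw_22_19', sw_23_19, sw_23_19', sw_21_20, sw_21_20', sw_22_20, sw_22_20', sw_23_20, sw_23_20', sw_22_21, sw_22_21', sw_23_21, sw_23_21', sw_23_22, sw_23_22']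

theorem e_y2 (s u : K) : Commute (X 22 s) (yS dc pi eps f (17, 3) u) := by
  unfold Commute SemiconjBy
  rw [yS_y2]
  simp only [mul_inv_rev, X_inv, mul_assoc, X_add, X_add', sw_13_12, sw_13_12', sw_14_12, sw_14_12', sw_15_12, sw_15_12', sw_16_12, sw_16_12', sw_17_12, sw_17_12', sw_18_12, sw_18_12', sw_19_12, sw_19_12', sw_20_12, sw_20_12', sw_21_12, sw_21_12', sw_22_12, sw_22_12', sw_23_12, sw_23_12', sw_14_13, sw_14_13', sw_15_13, sw_15_13', sw_16_13, sw_16_13', sw_17_13, sw_17_13', sw_18_13, sw_18_13', sw_19_13, sw_19_13', sw_20_13, sw_20_13', sw_21_13, sw_21_13', sw_22_13, sw_22_13', sw_23_13, sw_23_13', sw_15_14, sw_15_14', sw_16_14, sw_16_14', sw_17_14, sw_17_14', sw_18_14, sw_18_14', sw_19_14, sw_19_14', sw_20_14, sw_20_14', sw_21_14, sw_21_14', sw_22_14, sw_22_14', sw_23_14, sw_23_14', sw_16_15, sw_16_15', sw_17_15, sw_17_15', sw_18_15, sw_18_15', sw_19_15, sw_19_15', sw_20_15, sw_20_15', sw_21_15,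 sw_21_15', sw_22_15, sw_22_15', sw_23_15, sw_23_15', sw_17_16, sw_17_16', sw_18_16, sw_18_16', sw_19_16, sw_19_16', sw_20_16, sw_20_16', sw_21_16, sw_21_16', sw_22_16, sw_22_16', sw_23_16, sw_23_16', sw_18_17, sw_18_17', sw_19_17, sw_19_17', sw_20_17, sw_20_17', sw_21_17, sw_21_17', sw_22_17, sw_22_17', sw_23_17, sw_23_17', sw_19_18, sw_19_18', sw_20_18, sw_20_18', sw_21_18, sw_21_18', sw_22_18, sw_22_18', sw_23_18, sw_23_18', sw_20_19, sw_20_19', sw_21_19, sw_21_19', sw_22_19, sw_22_19', sw_23_19, sw_23_19', sw_21_20, sw_21_20', sw_22_20, sw_22_20', sw_23_20, sw_23_20', sw_22_21, sw_22_21', sw_23_21, sw_23_21', sw_23_22, sw_23_22']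

theorem e_a (s u : K) : Commute (X 22 s) (yS dc pi eps f (18, 3) u) := by
  unfold Commute SemiconjBy
  rw [yS_a]
  simp only [mul_inv_rev, X_inv, mul_assoc, X_add, X_add', sw_13_12, sw_13_12', sw_14_12, sw_14_12', sw_15_12, sw_15_12', sw_16_12, sw_16_12', sw_17_12, sw_17_12', sw_18_12, sw_18_12', sw_19_12, sw_19_12', sw_20_12, sw_20_12', sw_21_12, sw_21_12', sw_22_12, sw_22_12', sw_23_12, sw_23_12', sw_14_13, sw_14_13', sw_15_13, sw_15_13', sw_16_13, sw_16_13', sw_17_13, sw_17_13', sw_18_13, sw_18_13', sw_19_13, sw_19_13', sw_20_13, sw_20_13', sw_21_13, sw_21_13', sw_22_13, sw_22_13', sw_23_13, sw_23_13', sw_15_14, sw_15_14', sw_16_14, sw_16_14', sw_17_14, sw_17_14', sw_18_14, sw_18_14', sw_19_14, sw_19_14', sw_20_14, sw_20_14', sw_21_14, sw_21_14', sw_22_14, sw_22_14', sw_23_14, sw_23_14', sw_16_15, sw_16_15', sw_17_15, sw_17_15', sw_18_15, sw_18_15', sw_19_15, sw_19_15', sw_20_15, sw_20_15', sw_21_15,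 sw_21_15', sw_22_15, sw_22_15', sw_23_15, sw_23_15', sw_17_16, sw_17_16', sw_18_16, sw_18_16', sw_19_16, sw_19_16', sw_20_16, sw_20_16', sw_21_16, sw_21_16', sw_22_16, sw_22_16', sw_23_16, sw_23_16', sw_18_17, sw_18_17', sw_19_17, sw_19_17', sw_20_17, sw_20_17', sw_21_17, sw_21_17', sw_22_17, sw_22_17', sw_23_17, sw_23_17', sw_19_18, sw_19_18', sw_20_18, sw_20_18', sw_21_18, sw_21_18', sw_22_18, sw_22_18', sw_23_18, sw_23_18', sw_20_19, sw_20_19', sw_21_19, sw_21_19', sw_22_19, sw_22_19', sw_23_19, sw_23_19', sw_21_20, sw_21_20', sw_22_20, sw_22_20', sw_23_20, sw_23_20', sw_22_21, sw_22_21', sw_23_21, sw_23_21', sw_23_22, sw_23_22']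

theorem e_bm (s t : K) : Commute (X 22 s) (X 9 t) :=
  swap0 (K := K) 9 22 (by decide) (by decide) (by decide) (by decide) (by decide +kernel) t s

theorem b_y1 (s u : K) : Commute (X 14 s) (yS dc pi eps f (15, 3) u) := by
  unfold Commute SemiconjBy
  rw [yS_y1]
  simp only [mul_inv_rev, X_inv, mul_assoc, X_add, X_add', sw_13_12, sw_13_12', sw_14_12, sw_14_12', sw_15_12, sw_15_12', sw_16_12, sw_16_12', sw_17_12, sw_17_12', sw_18_12, sw_18_12', sw_19_12, sw_19_12', sw_20_12, sw_20_12', sw_21_12, sw_21_12', sw_22_12, sw_22_12', sw_23_12, sw_23_12', sw_14_13, sw_14_13', sw_15_13, sw_15_13', sw_16_13, sw_16_13', sw_17_13, sw_17_13', sw_18_13, sw_18_13', sw_19_13, sw_19_13', sw_20_13, sw_20_13', sw_21_13, sw_21_13', sw_22_13, sw_22_13', sw_23_13, sw_23_13', sw_15_14, sw_15_14', sw_16_14, sw_16_14', sw_17_14, sw_17_14', sw_18_14, sw_18_14', sw_19_14, sw_19_14', sw_20_14, sw_20_14', sw_21_14, sw_21_14', sw_22_14,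 sw_22_14', sw_23_14, sw_23_14', sw_16_15, sw_16_15', sw_17_15, sw_17_15', sw_18_15, sw_18_15', sw_19_15, sw_19_15', sw_20_15, sw_20_15', sw_21_15, sw_21_15', sw_22_15, sw_22_15', sw_23_15, sw_23_15', sw_17_16, sw_17_16', sw_18_16, sw_18_16', sw_19_16, sw_19_16', sw_20_16, sw_20_16', sw_21_16, sw_21_16', sw_22_16, sw_22_16', sw_23_16, sw_23_16', sw_18_17, sw_18_17', sw_19_17, sw_19_17', sw_20_17, sw_20_17', sw_21_17, sw_21_17', sw_22_17, sw_22_17', sw_23_17, sw_23_17', sw_19_18, sw_19_18', sw_20_18, sw_20_18', sw_21_18, sw_21_18', sw_22_18, sw_22_18', sw_23_18, sw_23_18', sw_20_19, sw_20_19', sw_21_19, sw_21_19', sw_22_19, sw_22_19', sw_23_19, sw_23_19', sw_21_20, sw_21_20', sw_22_20, sw_22_20', sw_23_20, sw_23_20', sw_22_21, sw_22_21', sw_23_21, sw_23_21', sw_23_22, sw_23_22']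

theorem b_y2 (s u : K) : Commute (X 14 s) (yS dc pi eps f (17, 3) u) := by
  unfold Commute SemiconjBy
  rw [yS_y2]
  simp only [mul_inv_rev, X_inv, mul_assoc, X_add, X_add', sw_13_12, sw_13_12', sw_14_12, sw_14_12', sw_15_12, sw_15_12', sw_16_12, sw_16_12', sw_17_12, sw_17_12', sw_18_12, sw_18_12', sw_19_12, sw_19_12', sw_20_12, sw_20_12', sw_21_12, sw_21_12', sw_22_12, sw_22_12', sw_23_12, sw_23_12', sw_14_13, sw_14_13', sw_15_13, sw_15_13', sw_16_13, sw_16_13', sw_17_13, sw_17_13', sw_18_13, sw_18_13', sw_19_13, sw_19_13', sw_20_13, sw_20_13', sw_21_13, sw_21_13', sw_22_13, sw_22_13', sw_23_13, sw_23_13', sw_15_14, sw_15_14', sw_16_14, sw_16_14', sw_17_14, sw_17_14', sw_18_14, sw_18_14', sw_19_14, sw_19_14', sw_20_14, sw_20_14', sw_21_14, sw_21_14', sw_22_14, sw_22_14', sw_23_14, sw_23_14', sw_16_15, sw_16_15', sw_17_15, sw_17_15', sw_18_15, sw_18_15', sw_19_15, sw_19_15', sw_20_15, sw_20_15', sw_21_15,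 sw_21_15', sw_22_15, sw_22_15', sw_23_15, sw_23_15', sw_17_16, sw_17_16', sw_18_16, sw_18_16', sw_19_16, sw_19_16', sw_20_16, sw_20_16', sw_21_16, sw_21_16', sw_22_16, sw_22_16', sw_23_16, sw_23_16', sw_18_17, sw_18_17', sw_19_17, sw_19_17', sw_20_17, sw_20_17', sw_21_17, sw_21_17', sw_22_17, sw_22_17', sw_23_17, sw_23_17', sw_19_18, sw_19_18', sw_20_18, sw_20_18', sw_21_18, sw_21_18', sw_22_18, sw_22_18', sw_23_18, sw_23_18', sw_20_19, sw_20_19', sw_21_19, sw_21_19', sw_22_19, sw_22_19', sw_23_19, sw_23_19', sw_21_20, sw_21_20', sw_22_20, sw_22_20', sw_23_20, sw_23_20', sw_22_21, sw_22_21', sw_23_21, sw_23_21', sw_23_22, sw_23_22']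

theorem y1_y2 (u v : K) :
    yS dc pi eps f (15, 3) u * yS dc pi eps f (17, 3) v =
      yS dc pi eps f (17, 3) v * yS dc pi eps f (15, 3) u * X 23 (v * f u + u * f (f v) + f (f u) * f v) := by
  rw [yS_y1, yS_y2]
  simp only [mul_inv_rev, X_inv, mul_assoc, X_add, X_add', sw_13_12, sw_13_12', sw_14_12, sw_14_12', sw_15_12, sw_15_12', sw_16_12, sw_16_12', sw_17_12, sw_17_12', sw_18_12, sw_18_12', sw_19_12, sw_19_12', sw_20_12, sw_20_12', sw_21_12, sw_21_12', sw_22_12, sw_22_12', sw_23_12, sw_23_12', sw_14_13, sw_14_13', sw_15_13, sw_15_13', sw_16_13, sw_16_13', sw_17_13, sw_17_13', sw_18_13, sw_18_13', sw_19_13, sw_19_13', sw_20_13, sw_20_13', sw_21_13, sw_21_13', sw_22_13, sw_22_13', sw_23_13, sw_23_13', sw_15_14, sw_15_14', sw_16_14, sw_16_14', sw_17_14, sw_17_14', sw_18_14, sw_18_14', sw_19_14, sw_19_14', sw_20_14, sw_20_14', sw_21_14, sw_21_14', sw_22_14, sw_22_14', sw_23_14, sw_23_14', sw_16_15,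 sw_16_15', sw_17_15, sw_17_15', sw_18_15, sw_18_15', sw_19_15, sw_19_15', sw_20_15, sw_20_15', sw_21_15, sw_21_15', sw_22_15, sw_22_15', sw_23_15, sw_23_15', sw_17_16, sw_17_16', sw_18_16, sw_18_16', sw_19_16, sw_19_16', sw_20_16, sw_20_16', sw_21_16, sw_21_16', sw_22_16, sw_22_16', sw_23_16, sw_23_16', sw_18_17, sw_18_17', sw_19_17, sw_19_17', sw_20_17, sw_20_17', sw_21_17, sw_21_17', sw_22_17, sw_22_17', sw_23_17, sw_23_17', sw_19_18, sw_19_18', sw_20_18, sw_20_18', sw_21_18, sw_21_18', sw_22_18, sw_22_18', sw_23_18, sw_23_18', sw_20_19, sw_20_19', sw_21_19, sw_21_19', sw_22_19, sw_22_19', sw_23_19, sw_23_19', sw_21_20, sw_21_20', sw_22_20, sw_22_20', sw_23_20, sw_23_20', sw_22_21, sw_22_21', sw_23_21, sw_23_21', sw_23_22, sw_23_22']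
  ring_nf

/-! ### (R3) -/

theorem b_e (s t : K) : X 14 s * X 22 t * (X 14 s)⁻¹ = X 22 t * X 23 (s * t) := by
  simp only [mul_inv_rev, X_inv, mul_assoc, X_add, X_add', sw_13_12, sw_13_12', sw_14_12, sw_14_12', sw_15_12, sw_15_12', sw_16_12, sw_16_12', sw_17_12, sw_17_12', sw_18_12, sw_18_12', sw_19_12, sw_19_12', sw_20_12, sw_20_12', sw_21_12, sw_21_12', sw_22_12, sw_22_12', sw_23_12, sw_23_12', sw_14_13, sw_14_13', sw_15_13, sw_15_13', sw_16_13, sw_16_13', sw_17_13, sw_17_13', sw_18_13, sw_18_13', sw_19_13, sw_19_13', sw_20_13, sw_20_13', sw_21_13, sw_21_13', sw_22_13, sw_22_13', sw_23_13, sw_23_13', sw_15_14, sw_15_14', sw_16_14, sw_16_14', sw_17_14, sw_17_14', sw_18_14, sw_18_14', sw_19_14, sw_19_14', sw_20_14, sw_20_14', sw_21_14, sw_21_14', sw_22_14, sw_22_14', sw_23_14, sw_23_14', sw_16_15, sw_16_15', sw_17_15, sw_17_15', sw_18_15, sw_18_15', sw_19_15, sw_19_15', sw_20_15, sw_20_15', sw_21_15,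 sw_21_15', sw_22_15, sw_22_15', sw_23_15, sw_23_15', sw_17_16, sw_17_16', sw_18_16, sw_18_16', sw_19_16, sw_19_16', sw_20_16, sw_20_16', sw_21_16, sw_21_16', sw_22_16, sw_22_16', sw_23_16, sw_23_16', sw_18_17, sw_18_17', sw_19_17, sw_19_17', sw_20_17, sw_20_17', sw_21_17, sw_21_17', sw_22_17, sw_22_17', sw_23_17, sw_23_17', sw_19_18, sw_19_18', sw_20_18, sw_20_18', sw_21_18, sw_21_18', sw_22_18, sw_22_18', sw_23_18, sw_23_18', sw_20_19, sw_20_19', sw_21_19, sw_21_19', sw_22_19, sw_22_19', sw_23_19, sw_23_19', sw_21_20, sw_21_20', sw_22_20, sw_22_20', sw_23_20, sw_23_20', sw_22_21, sw_22_21', sw_23_21, sw_23_21', sw_23_22, sw_23_22']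
  ring_nf
  simp only [X_zero, one_mul, mul_one]

theorem bm_z (s t : K) : X 9 s * X 23 t * (X 9 s)⁻¹ = X 23 t * X 22 (s * t) := by
  have h := swap1 (K := K) 9 23 22 1 (by decide) (by decide) (by decide) (by decide) (by decide +kernel) s t
  have h' : X 23 t * X 9 s = X 9 s * (X 23 t * X 22 (-(s * t))) := by
    rw [h]
    congr 3
    push_cast
    ring
  have hc := (e_bm (s * t) s).eq
  rw [mul_inv_eq_iff_eq_mul]
  calc X 9 s * X 23 t = X 9 s * (X 23 t * X 22 (-(s * t))) * X 22 (s * t) := by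
        rw [mul_assoc, mul_assoc, X_add, neg_add_cancel, X_zero, mul_one]
    _ = X 23 t * X 9 s * X 22 (s * t) := by rw [← h']
    _ = X 23 t * X 22 (s * t) * X 9 s := by rw [mul_assoc, ← hc, ← mul_assoc]

/-! ### (R4) -/

theorem a_y2 (t u : K) :
    (yS dc pi eps f (18, 3) t)⁻¹ * yS dc pi eps f (17, 3) u * yS dc pi eps f (18, 3) t =
      yS dc pi eps f (17, 3) u * X 22 (t * u + f t * f u + f (f t) * f (f u)) := by
  rw [yS_a, yS_y2]
  simp only [mul_inv_rev, X_inv, mul_assoc, X_add, X_add', sw_13_12, sw_13_12', sw_14_12, sw_14_12', sw_15_12, sw_15_12', sw_16_12, sw_16_12', sw_17_12, sw_17_12', sw_18_12, sw_18_12', sw_19_12, sw_19_12', sw_20_12, sw_20_12', sw_21_12, sw_21_12', sw_22_12, sw_22_12', sw_23_12, sw_23_12', sw_14_13, sw_14_13', sw_15_13, sw_15_13', sw_16_13, sw_16_13', sw_17_13, sw_17_13', sw_18_13, sw_18_13', sw_19_13, sw_19_13', sw_20_13, sw_20_13', sw_21_13, sw_21_13', sw_22_13, sw_22_13',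 sw_23_13, sw_23_13', sw_15_14, sw_15_14', sw_16_14, sw_16_14', sw_17_14, sw_17_14', sw_18_14, sw_18_14', sw_19_14, sw_19_14', sw_20_14, sw_20_14', sw_21_14, sw_21_14', sw_22_14, sw_22_14', sw_23_14, sw_23_14', sw_16_15, sw_16_15', sw_17_15, sw_17_15', sw_18_15, sw_18_15', sw_19_15, sw_19_15', sw_20_15, sw_20_15', sw_21_15, sw_21_15', sw_22_15, sw_22_15', sw_23_15, sw_23_15', sw_17_16, sw_17_16', sw_18_16, sw_18_16', sw_19_16, sw_19_16', sw_20_16, sw_20_16', sw_21_16, sw_21_16', sw_22_16, sw_22_16', sw_23_16, sw_23_16', sw_18_17, sw_18_17', sw_19_17, sw_19_17', sw_20_17, sw_20_17', sw_21_17, sw_21_17', sw_22_17, sw_22_17', sw_23_17, sw_23_17', sw_19_18, sw_19_18', sw_20_18, sw_20_18', sw_21_18, sw_21_18', sw_22_18, sw_22_18', sw_23_18, sw_23_18', sw_20_19, sw_20_19', sw_21_19, sw_21_19', sw_22_19, sw_22_19', sw_23_19, sw_23_19', sw_21_20, sw_21_20', sw_22_20, sw_22_20', sw_23_20, sw_23_20', sw_22_21,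 sw_22_21', sw_23_21, sw_23_21', sw_23_22, sw_23_22']
  ring_nf
  simp only [X_zero, one_mul, mul_one]

theorem a_b (hf3 : ∀ x, f (f (f x)) = x) (t s : K) (hs : f s = s) :
    (yS dc pi eps f (18, 3) t)⁻¹ * X 14 s * yS dc pi eps f (18, 3) t =
      X 14 s * yS dc pi eps f (15, 3) (-(f (f t)) * s) * yS dc pi eps f (17, 3) (f t * f (f t) * s) *
        X 22 (t * f t * f (f t) * s) * X 23 (t * f t * f (f t) * s ^ 2) := by
  rw [yS_a, yS_y1, yS_y2]
  simp only [map_mul, map_neg, hf3, hs]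
  simp only [mul_inv_rev, X_inv, mul_assoc, X_add, X_add', sw_13_12, sw_13_12', sw_14_12, sw_14_12', sw_15_12, sw_15_12', sw_16_12, sw_16_12', sw_17_12, sw_17_12', sw_18_12, sw_18_12', sw_19_12, sw_19_12', sw_20_12, sw_20_12', sw_21_12, sw_21_12', sw_22_12, sw_22_12', sw_23_12, sw_23_12', sw_14_13, sw_14_13', sw_15_13, sw_15_13', sw_16_13, sw_16_13', sw_17_13, sw_17_13', sw_18_13, sw_18_13', sw_19_13, sw_19_13', sw_20_13, sw_20_13', sw_21_13, sw_21_13', sw_22_13, sw_22_13', sw_23_13, sw_23_13', sw_15_14, sw_15_14', sw_16_14, sw_16_14', sw_17_14, sw_17_14', sw_18_14, sw_18_14', sw_19_14, sw_19_14', sw_20_14, sw_20_14', sw_21_14, sw_21_14', sw_22_14, sw_22_14', sw_23_14, sw_23_14', sw_16_15, sw_16_15', sw_17_15, sw_17_15', sw_18_15, sw_18_15', sw_19_15, sw_19_15', sw_20_15, sw_20_15', sw_21_15, sw_21_15', sw_22_15, sw_22_15', sw_23_15, sw_23_15', sw_17_16, sw_17_16', sw_18_16, sw_18_16', sw_19_16, sw_19_16',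 sw_20_16, sw_20_16', sw_21_16, sw_21_16', sw_22_16, sw_22_16', sw_23_16, sw_23_16', sw_18_17, sw_18_17', sw_19_17, sw_19_17', sw_20_17, sw_20_17', sw_21_17, sw_21_17', sw_22_17, sw_22_17', sw_23_17, sw_23_17', sw_19_18, sw_19_18', sw_20_18, sw_20_18', sw_21_18, sw_21_18', sw_22_18, sw_22_18', sw_23_18, sw_23_18', sw_20_19, sw_20_19', sw_21_19, sw_21_19', sw_22_19, sw_22_19', sw_23_19, sw_23_19', sw_21_20, sw_21_20', sw_22_20, sw_22_20', sw_23_20, sw_23_20', sw_22_21, sw_22_21', sw_23_21, sw_23_21', sw_23_22, sw_23_22']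
  ring_nf
  simp only [X_zero, one_mul, mul_one]

/-- (R4), the relation `a_y1` (not needed any more by `TD4Config`): `(a t)⁻¹ y1(u) a(t) = y1(u) y2(v) e(r) z(s)` with
`v = -(f²t f²u) - f t u`, `r = -(f²t f t f u) - f²t f²u t - f t u t`, `s = u f²u t + f u f²t f²u + f u f t u`
(`r` and `s` are `f`-invariant when `f³ = id`). -/
theorem a_y1 (hf3 : ∀ x, f (f (f x)) = x) (t u : K) :
    (yS dc pi eps f (18, 3) t)⁻¹ * yS dc pi eps f (15, 3) u * yS dc pi eps f (18, 3) t =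
      yS dc pi eps f (15, 3) u * yS dc pi eps f (17, 3) (-(f (f t) * f (f u)) - f t * u) *
        X 22 (-(f (f t) * f t * f u) - f (f t) * f (f u) * t - f t * u * t) *
        X 23 (u * f (f u) * t + f u * f (f t) * f (f u) + f u * f t * u) := by
  rw [yS_a, yS_y1, yS_y2]
  simp only [map_mul, map_neg, map_sub, hf3]
  simp only [mul_inv_rev, X_inv, mul_assoc, X_add, X_add', sw_13_12, sw_13_12', sw_14_12, sw_14_12', sw_15_12, sw_15_12', sw_16_12, sw_16_12', sw_17_12, sw_17_12', sw_18_12, sw_18_12', sw_19_12, sw_19_12', sw_20_12, sw_20_12', sw_21_12, sw_21_12', sw_22_12, sw_22_12', sw_23_12, sw_23_12', sw_14_13, sw_14_13', sw_15_13, sw_15_13', sw_16_13, sw_16_13', sw_17_13, sw_17_13', sw_18_13, sw_18_13', sw_19_13, sw_19_13', sw_20_13, sw_20_13', sw_21_13, sw_21_13', sw_22_13, sw_22_13', sw_23_13, sw_23_13', sw_15_14, sw_15_14', sw_16_14, sw_16_14', sw_17_14, sw_17_14', sw_18_14, sw_18_14', sw_19_14,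 sw_19_14', sw_20_14, sw_20_14', sw_21_14, sw_21_14', sw_22_14, sw_22_14', sw_23_14, sw_23_14', sw_16_15, sw_16_15', sw_17_15, sw_17_15', sw_18_15, sw_18_15', sw_19_15, sw_19_15', sw_20_15, sw_20_15', sw_21_15, sw_21_15', sw_22_15, sw_22_15', sw_23_15, sw_23_15', sw_17_16, sw_17_16', sw_18_16, sw_18_16', sw_19_16, sw_19_16', sw_20_16, sw_20_16', sw_21_16, sw_21_16', sw_22_16, sw_22_16', sw_23_16, sw_23_16', sw_18_17, sw_18_17', sw_19_17, sw_19_17', sw_20_17, sw_20_17', sw_21_17, sw_21_17', sw_22_17, sw_22_17', sw_23_17, sw_23_17', sw_19_18, sw_19_18', sw_20_18, sw_20_18', sw_21_18, sw_21_18', sw_22_18, sw_22_18', sw_23_18, sw_23_18', sw_20_19, sw_20_19', sw_21_19, sw_21_19', sw_22_19, sw_22_19', sw_23_19, sw_23_19', sw_21_20, sw_21_20', sw_22_20, sw_22_20', sw_23_20, sw_23_20', sw_22_21, sw_22_21', sw_23_21, sw_23_21', sw_23_22, sw_23_22']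
  ring_nf
  simp only [X_zero, one_mul, mul_one]

end Cfsg.Agent.Lib.Helper18_TD4Struct
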