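import Cfsg.Agent.Lib.Helper18_ChevAutJ

set_option autoImplicit false

/-!
Twisted groups in characteristic two, first part: an automorphism of a Chevalley group that maps `x_r(t)` to
`x_{π r}(t ^ e_r)`, its action on the products of root elements over a pair of commuting roots and over a class of
type `B₂`, and elements that conjugate `x_r(t)` to `x_{w r}(t)`.
-/

namespace Cfsg.Agent.Lib.Helper18_TwistA

open Cfsg Cfsg.Lie Cfsg.Agent.Lib.Helper18_ChevFast Cfsg.Agent.Lib.Helper18_ChevEngine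
  Cfsg.Agent.Lib.Helper18_ChevN Cfsg.Agent.Lib.Helper18_ChevWeyl Cfsg.Agent.Lib.Helper18_ChevGL
  Cfsg.Agent.Lib.Helper18_ChevComm Cfsg.Agent.Lib.Helper18_ChevUni Cfsg.Agent.Lib.Helper18_ChevSimp
  Cfsg.Agent.Lib.Helper18_ChevAutC Cfsg.Agent.Lib.Helper18_ChevAutJ

variable {D : ChevalleyDatum} {Ns : List NData} {K : Type*} [Field K]

/-! ### Characteristic two -/

theorem two_eq_zero' [CharP K 2] : (2 : K) = 0 := by
  have := CharP.cast_eq_zero K 2
  exact_mod_cast this

theorem neg_eq_self' [CharP K 2] (t : K) : -t = t := by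
  have h : t + t = 0 := by
    have := two_eq_zero' (K := K)
    calc t + t = 2 * t := by ring
      _ = 0 := by rw [this, zero_mul]
  exact neg_eq_of_add_eq_zero_left h

/-- An odd integer is `1` in characteristic two. -/
theorem intCast_odd [CharP K 2] (C : ℤ) (h : C % 2 = 1) : (C : K) = 1 := by
  have e : C = 2 * (C / 2) + 1 := by omega
  rw [e]
  push_cast
  rw [two_eq_zero', zero_mul, zero_add]

/-- An even integer is `0` in characteristic two. -/
theorem intCast_even [CharP K 2] (C : ℤ) (h : C % 2 = 0) : (C : K) = 0 := by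
  have e : C = 2 * (C / 2) := by omega
  rw [e]
  push_cast
  rw [two_eq_zero', zero_mul]

/-! ### Elements conjugating root elements to root elements with the same parameter -/

/-- Conjugation by `n` maps `x_r(t)` to `x_{π r}(t)`. -/
def ActsAs1 (c : DCert D Ns) (n : GL D.Idx K) (π : ℕ → ℕ) : Prop :=
  ∀ r < D.nroots, π r < D.nroots ∧ ∀ t : K, n * xGL c r t * n⁻¹ = xGL c (π r) t

theorem actsAs1_one (c : DCert D Ns) : ActsAs1 c (1 : GL D.Idx K) id := by
  intro r hr
  exact ⟨hr, fun t => by simp⟩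

theorem ActsAs1.mul (c : DCert D Ns) {g₁ g₂ : GL D.Idx K} {π₁ π₂ : ℕ → ℕ} (h₁ : ActsAs1 c g₁ π₁)
    (h₂ : ActsAs1 c g₂ π₂) : ActsAs1 c (g₁ * g₂) (π₁ ∘ π₂) := by
  intro r hr
  obtain ⟨hr2, e2⟩ := h₂ r hr
  obtain ⟨hr1, e1⟩ := h₁ (π₂ r) hr2
  refine ⟨hr1, fun t => ?_⟩
  have : g₁ * g₂ * xGL c r t * (g₁ * g₂)⁻¹ = g₁ * (g₂ * xGL c r t * g₂⁻¹) * g₁⁻¹ := by group
  rw [this, e2, e1]
  rfl

theorem actsAs1_nGL [CharP K 2] (c : DCert D Ns) (i : ℕ) (hi : i < D.rank) :
    ActsAs1 c (nGL c i : GL D.Idx K) (D.reflectRoot i) := by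
  intro r hr
  refine ⟨c.reflect_lt i hi r hr, fun t => ?_⟩
  rw [nGL_conj c i hi r hr t]
  congr 1
  rcases c.etaZ_pm i hi r hr with h | h
  · rw [h]
    simp
  · rw [h]
    simp only [Int.reduceNeg, Int.cast_neg, Int.cast_one, neg_mul, one_mul]
    exact neg_eq_self' t

/-- The image of a word under an element conjugating root elements to root elements. -/
theorem ActsAs1.conj_wordGL (c : DCert D Ns) {n : GL D.Idx K} {π : ℕ → ℕ} (h : ActsAs1 c n π)
    (wd : List (ℕ × K)) (hwd : ∀ q ∈ wd, q.1 < D.nroots) :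
    n * wordGL c wd * n⁻¹ = wordGL c (wd.map fun q => (π q.1, q.2)) := by
  induction wd with
  | nil =>
    rw [List.map_nil, wordGL_nil]
    group
  | cons p wd ih =>
    rw [List.map_cons, wordGL_cons, wordGL_cons, ← ih (fun q hq => hwd q (List.mem_cons_of_mem _ hq)),
      ← (h p.1 (hwd p List.mem_cons_self)).2 p.2]
    group

/-! ### The twisting automorphism -/

/-- The automorphism `σ` maps `x_r(t)` to `x_{π r}(t ^ e_r)`. -/
structure Tw2 (c : DCert D Ns) (σ : MulAut ↥(D.group K)) (pi e : ℕ → ℕ) : Prop where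
  sx : ∀ r < D.nroots, ∀ t : K, σ (xG c r t) = xG c (pi r) (t ^ e r)

variable {c : DCert D Ns} {σ : MulAut ↥(D.group K)} {pi e : ℕ → ℕ}

/-- The image of a product of root elements over a pair of commuting roots exchanged by `π`. -/
theorem Tw2.map_pair (X : Tw2 c σ pi e) {s l : ℕ} (hs : s < D.nroots) (hl : l < D.nroots) (hps : pi s = l)
    (hpl : pi l = s) (hcomm : Comm c K s l) (v w : K) :
    σ (xG c s v * xG c l w) = xG c s (w ^ e l) * xG c l (v ^ e s) := by
  rw [map_mul, X.sx s hs, X.sx l hl, hps, hpl]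
  apply Subtype.ext
  exact (hcomm _ _).symm

/-- The relations in the subgroup of a class of type `B₂` in characteristic two (`a` short, `b` long, `c = a + b`,
`d = 2a + b`). -/
structure B2Rel (c : DCert D Ns) (K : Type*) [Field K] (a b cc d : ℕ) : Prop where
  rel : ∀ t u : K, xGL c b u * xGL c a t = xGL c a t * xGL c b u * xGL c cc (t * u) * xGL c d (t ^ 2 * u)
  ac : Comm c K a cc
  ad : Comm c K a d
  bc : Comm c K b cc
  bd : Comm c K b d
  cd : Comm c K cc d

/-- The image of a product of root elements over a class of type `B₂`. -/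
theorem Tw2.map_b2 (X : Tw2 c σ pi e) {a b cc d : ℕ} (ha : a < D.nroots) (hb : b < D.nroots)
    (hc : cc < D.nroots) (hd : d < D.nroots) (hpa : pi a = b) (hpb : pi b = a) (hpc : pi cc = d) (hpd : pi d = cc)
    (R : B2Rel c K a b cc d) (t₁ t₂ t₃ t₄ : K) :
    σ (xG c a t₁ * xG c b t₂ * xG c cc t₃ * xG c d t₄) =
      xG c a (t₂ ^ e b) * xG c b (t₁ ^ e a) * xG c cc (t₂ ^ e b * t₁ ^ e a + t₄ ^ e d) *
        xG c d ((t₂ ^ e b) ^ 2 * t₁ ^ e a + t₃ ^ e cc) := by
  rw [map_mul, map_mul, map_mul, X.sx a ha, X.sx b hb, X.sx cc hc, X.sx d hd, hpa, hpb, hpc, hpd]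
  apply Subtype.ext
  simp only [Subgroup.coe_mul, xG_coe]
  generalize t₂ ^ e b = A
  generalize t₁ ^ e a = B
  generalize t₃ ^ e cc = C'
  generalize t₄ ^ e d = D'
  rw [R.rel A B, ← xGL_mul c cc, ← xGL_mul c d]
  have h1 := R.cd (A * B) (A ^ 2 * B)
  have h2 := R.cd D' (A ^ 2 * B)
  have h3 := R.cd D' C'
  -- reorder the commuting elements of the root subgroups of `cc` and `d`
  calc xGL c a A * xGL c b B * xGL c cc (A * B) * xGL c d (A ^ 2 * B) * xGL c d C' * xGL c cc D'
      = xGL c a A * xGL c b B * xGL c cc (A * B) * xGL c d (A ^ 2 * B) * (xGL c d C' * xGL c cc D') := by group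
    _ = xGL c a A * xGL c b B * xGL c cc (A * B) * xGL c d (A ^ 2 * B) * (xGL c cc D' * xGL c d C') := by
        rw [h3]
    _ = xGL c a A * xGL c b B * xGL c cc (A * B) * (xGL c d (A ^ 2 * B) * xGL c cc D') * xGL c d C' := by group
    _ = xGL c a A * xGL c b B * xGL c cc (A * B) * (xGL c cc D' * xGL c d (A ^ 2 * B)) * xGL c d C' := by
        rw [h2]
    _ = xGL c a A * xGL c b B * (xGL c cc (A * B) * xGL c cc D') * (xGL c d (A ^ 2 * B) * xGL c d C') := by
        group

/-- Conjugation by a fixed element commutes with the automorphism. -/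
theorem map_conj_of_fixed (σ : MulAut ↥(D.group K)) {n : ↥(D.group K)} (hn : σ n = n) (g : ↥(D.group K)) :
    σ (n * g * n⁻¹) = n * σ g * n⁻¹ := by
  rw [map_mul, map_mul, map_inv, hn]

end Cfsg.Agent.Lib.Helper18_TwistA
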