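import Cfsg.Agent.Lib.Helper18_TwistA

set_option autoImplicit false

/-!
Twisted groups in characteristic two, second part: the relations of a class of type `B₂` from a certificate, products
of root elements over the positive roots in an arbitrary order (finite fields), and the fixed elements of `U` under a
twisting automorphism that maps chunks of the product to chunks.
-/

namespace Cfsg.Agent.Lib.Helper18_TwistB

open Cfsg Cfsg.Lie Cfsg.Agent.Lib.Helper18_ChevFast Cfsg.Agent.Lib.Helper18_ChevEngine
  Cfsg.Agent.Lib.Helper18_ChevN Cfsg.Agent.Lib.Helper18_ChevWeyl Cfsg.Agent.Lib.Helper18_ChevGL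
  Cfsg.Agent.Lib.Helper18_ChevComm Cfsg.Agent.Lib.Helper18_ChevUni Cfsg.Agent.Lib.Helper18_ChevSimp
  Cfsg.Agent.Lib.Helper18_ChevAutC Cfsg.Agent.Lib.Helper18_ChevAutJ Cfsg.Agent.Lib.Helper18_TwistA
  Cfsg.Agent.Lib.Helper18_ChevAdd Cfsg.Agent.Lib.Helper18_ChevTorus Cfsg.Agent.Lib.Helper18_ChevTri

variable {D : ChevalleyDatum} {Ns : List NData} {K : Type*} [Field K]
variable {wl : List ℤ} {ws : List (List ℤ)} {sc : ℤ}

/-! ### Relations from certificates -/

/-- The certificate that the root subgroups of `r` and `s` commute. -/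
def CommCert (D : ChevalleyDatum) (r s : ℕ) : Prop :=
  r < D.nroots ∧ s < D.nroots ∧ s ≠ r ∧ s ≠ D.neg r ∧ D.commTerms r s = []

instance (D : ChevalleyDatum) (r s : ℕ) : Decidable (CommCert D r s) := by
  unfold CommCert
  infer_instance

theorem comm_of_cert (c : DCert D Ns) (hR2 : R2All D K) {r s : ℕ} (h : CommCert D r s) : Comm c K r s := by
  obtain ⟨hr, hs, h1, h2, he⟩ := h
  exact comm_of_commTerms_nil c (hR2 r s hr hs h1 h2) he

/-- The certificate of a class of type `B₂` (`a` short, `b` long, `cc = a + b`, `d = 2a + b`). -/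
def B2Cert (D : ChevalleyDatum) (a b cc d : ℕ) (C₁ C₂ C₃ : ℤ) : Prop :=
  (a < D.nroots ∧ b < D.nroots ∧ cc < D.nroots ∧ d < D.nroots) ∧
  (b ≠ a ∧ b ≠ D.neg a) ∧ (cc ≠ a ∧ cc ≠ D.neg a) ∧
  D.commTerms a b = [(cc, C₁, 1, 1), (d, C₂, 2, 1)] ∧ C₁ % 2 = 1 ∧ C₂ % 2 = 1 ∧
  D.commTerms a cc = [(d, C₃, 1, 1)] ∧ C₃ % 2 = 0 ∧
  CommCert D a d ∧ CommCert D b cc ∧ CommCert D b d ∧ CommCert D cc d

instance (D : ChevalleyDatum) (a b cc d : ℕ) (C₁ C₂ C₃ : ℤ) : Decidable (B2Cert D a b cc d C₁ C₂ C₃) := by
  unfold B2Cert
  infer_instance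

theorem b2Rel_of_cert [CharP K 2] (c : DCert D Ns) (hR2 : R2All D K) {a b cc d : ℕ} {C₁ C₂ C₃ : ℤ}
    (h : B2Cert D a b cc d C₁ C₂ C₃) : B2Rel c K a b cc d := by
  obtain ⟨⟨ha, hb, hc, hd⟩, ⟨hba, hbna⟩, ⟨hca, hcna⟩, he1, hC1, hC2, he2, hC3, h3, h4, h5, h6⟩ := h
  refine ⟨?_, ?_, comm_of_cert c hR2 h3, comm_of_cert c hR2 h4, comm_of_cert c hR2 h5, comm_of_cert c hR2 h6⟩
  · intro t u
    have h1 := hR2 a b ha hb hba hbna t u
    unfold ChevalleyDatum.commWord at h1
    rw [he1] at h1
    simp only [List.map_cons, List.map_nil, ChevalleyDatum.wordMat, List.prod_cons, List.prod_nil, mul_one,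
      pow_one, intCast_odd (K := K) C₁ hC1, intCast_odd (K := K) C₂ hC2, one_mul, neg_eq_self'] at h1
    apply Units.ext
    simp only [Units.val_mul, xGL_coe]
    rw [h1]
    simp only [mul_assoc]
  · intro t u
    have h1 := hR2 a cc ha hc hca hcna t u
    unfold ChevalleyDatum.commWord at h1
    rw [he2] at h1
    simp only [List.map_cons, List.map_nil, ChevalleyDatum.wordMat, List.prod_cons, List.prod_nil, mul_one,
      pow_one, intCast_even (K := K) C₃ hC3, zero_mul] at h1
    have h2 : D.x K d 0 = 1 := by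
      have := xGL_zero (F := K) c d
      have h3 := congrArg (fun g : GL D.Idx K => (g : Matrix D.Idx D.Idx K)) this
      simpa [xGL_coe] using h3
    rw [h2, mul_one] at h1
    apply Units.ext
    simp only [Units.val_mul, xGL_coe]
    exact h1.symm

/-! ### Products over the positive roots in an arbitrary order -/

/-- Over a finite field every element of `U` is a product of root elements over the positive roots in any given
order. -/
theorem exists_word_of_perm [Fintype K] (c : DCert D Ns) (tc : TCert D) (ac : ACert D wl ws sc)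
    (hR2 : R2All D K) (L : List ℕ) (hL : L.Nodup) (hLpos : ∀ r, r ∈ L ↔ D.IsPosRoot r)
    (g : GL D.Idx K) (hg : g ∈ D.posUnipotent K) :
    ∃ t : ℕ → K, g = wordGL c (L.map fun r => (r, t r)) := by
  classical
  let φ : (↥D.posRoots.toFinset → K) → D.posUnipotent K := fun t =>
    ⟨wordGL c (L.map fun r => (r, extZero D t r)), by
      apply wordGL_mem_posUnipotent
      intro p hp
      rw [List.mem_map] at hp
      obtain ⟨r, hr, rfl⟩ := hp
      exact (hLpos r).mp hr⟩
  have hinj : Function.Injective φ := by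
    intro t t' h
    have h1 : wordGL c (L.map fun r => (r, extZero D t r)) =
        wordGL c (L.map fun r => (r, extZero D t' r)) := congrArg Subtype.val h
    have h2 := congrArg (fun g : GL D.Idx K => (g : Matrix D.Idx D.Idx K)) h1
    simp only [wordGL_coe] at h2
    have h3 := unique_word c tc ac L hL (fun s hs => (hLpos s).mp hs) _ _ h2
    funext ⟨r, hr⟩
    have hrL : r ∈ L := (hLpos r).mpr ((mem_posRoots r).mp (List.mem_toFinset.mp hr))
    have h4 := h3 r hrL
    unfold extZero at h4
    rwa [dif_pos hr, dif_pos hr] at h4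
  have hcard : Nat.card (D.posUnipotent K) ≤ Nat.card (↥D.posRoots.toFinset → K) := by
    rw [card_posUnipotent c tc ac hR2, Nat.card_fun, Nat.card_eq_fintype_card, Nat.card_eq_fintype_card,
      Fintype.card_coe, List.toFinset_card_of_nodup posRoots_nodup, ac.npos]
  have hbij := hinj.bijective_of_nat_card_le hcard
  obtain ⟨t, ht⟩ := hbij.2 ⟨g, hg⟩
  exact ⟨extZero D t, (congrArg Subtype.val ht).symm⟩

/-! ### Chunks of a product -/

omit [Field K] in
/-- Two lists of words with the same roots chunk by chunk and the same concatenation are equal. -/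
theorem eq_of_flatten_eq : ∀ (W W' : List (List (ℕ × K))),
    List.Forall₂ (fun w w' => w.map Prod.fst = w'.map Prod.fst) W W' → W.flatten = W'.flatten → W = W'
  | [], [], _, _ => rfl
  | [], _ :: _, h, _ => by cases h
  | _ :: _, [], h, _ => by cases h
  | w :: W, w' :: W', h, he => by
    rw [List.forall₂_cons] at h
    rw [List.flatten_cons, List.flatten_cons] at he
    have hlen : w.length = w'.length := by
      have := congrArg List.length h.1
      simpa using this
    obtain ⟨h1, h2⟩ := List.append_inj he hlen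
    rw [h1, eq_of_flatten_eq W W' h.2 h2]

theorem wordG_append (c : DCert D Ns) (w₁ w₂ : List (ℕ × K)) :
    wordG c (w₁ ++ w₂) = wordG c w₁ * wordG c w₂ := by
  unfold wordG
  rw [List.map_append, List.prod_append]

theorem wordG_flatten (c : DCert D Ns) (W : List (List (ℕ × K))) :
    wordG c W.flatten = (W.map (wordG c)).prod := by
  induction W with
  | nil =>
    unfold wordG
    simp
  | cons w W ih => rw [List.flatten_cons, wordG_append, ih, List.map_cons, List.prod_cons]

/-- If an automorphism maps every chunk of a product of root elements over distinct positive roots to a product over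
the same roots, then the chunks of a fixed product are fixed. -/
theorem chunks_fixed (c : DCert D Ns) (tc : TCert D) (ac : ACert D wl ws sc) (σ : MulAut ↥(D.group K))
    (W : List (List (ℕ × K))) (hnd : (W.flatten.map Prod.fst).Nodup)
    (hpos : ∀ r ∈ W.flatten.map Prod.fst, D.IsPosRoot r)
    (hT : ∀ w ∈ W, ∃ w' : List (ℕ × K), w'.map Prod.fst = w.map Prod.fst ∧ σ (wordG c w) = wordG c w')
    (hfix : σ (wordG c W.flatten) = wordG c W.flatten) : ∀ w ∈ W, σ (wordG c w) = wordG c w := by
  -- choose the images of the chunks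
  have hex : ∃ W' : List (List (ℕ × K)),
      List.Forall₂ (fun w w' => w.map Prod.fst = w'.map Prod.fst ∧ σ (wordG c w) = wordG c w') W W' := by
    clear hfix hnd hpos
    induction W with
    | nil => exact ⟨[], List.Forall₂.nil⟩
    | cons w W ih =>
      obtain ⟨W', hW'⟩ := ih (fun w hw => hT w (List.mem_cons_of_mem _ hw))
      obtain ⟨w', h1, h2⟩ := hT w List.mem_cons_self
      exact ⟨w' :: W', List.Forall₂.cons ⟨h1.symm, h2⟩ hW'⟩
  obtain ⟨W', hW'⟩ := hex
  have hσ : σ (wordG c W.flatten) = wordG c W'.flatten := by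
    rw [wordG_flatten, wordG_flatten, map_list_prod, List.map_map]
    congr 1
    clear hfix hnd hpos hT
    induction hW' with
    | nil => rfl
    | cons h _ ih => rw [List.map_cons, List.map_cons, ih, Function.comp_apply, h.2]
  have hfst : W.flatten.map Prod.fst = W'.flatten.map Prod.fst := by
    clear hfix hnd hpos hT hσ
    induction hW' with
    | nil => rfl
    | cons h _ ih => rw [List.flatten_cons, List.flatten_cons, List.map_append, List.map_append, ih, h.1]
  have heq : W.flatten = W'.flatten := by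
    apply unique_words c tc ac _ _ hfst hnd hpos
    have h1 := congrArg (fun x : ↥(D.group K) => ((x : GL D.Idx K) : Matrix D.Idx D.Idx K)) (hfix.symm.trans hσ)
    simpa only [wordG_coe, wordGL_coe] using h1
  have hWW' : W = W' :=
    eq_of_flatten_eq W W' (hW'.imp fun _ _ h => h.1) heq
  intro w hw
  rw [← hWW'] at hW'
  clear hfix hnd hpos hT hσ hfst heq hWW'
  induction W with
  | nil => cases hw
  | cons v W ih =>
    rw [List.forall₂_cons] at hW'
    rcases List.mem_cons.mp hw with rfl | hw'
    · exact hW'.1.2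
    · exact ih hW'.2 hw'

end Cfsg.Agent.Lib.Helper18_TwistB
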