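import Cfsg.Agent.Lib.Helper18_ChevGraphU

set_option autoImplicit false

/-!
Twisted groups, third part: evaluation modulo `p` of products of root elements `x_r(1)` with sparse integer matrices
(normalized modulo `p` after every factor), and the check that two such products are equal in characteristic `p`.
-/

namespace Cfsg.Agent.Lib.Helper18_TwistC

open Cfsg Cfsg.Lie Cfsg.Agent.Lib.Helper36_ChevSparse Cfsg.Agent.Lib.Helper36_ChevCoeff
  Cfsg.Agent.Lib.Helper18_ChevGraphT Cfsg.Agent.Lib.Helper18_ChevGraphU

/-! ### Normalization modulo `p` -/

/-- The sparse vector of the residues modulo `p` of the first `N` coefficients. -/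
def normVec (p N : ℕ) (v : SVec) : SVec :=
  (List.range N).filterMap fun i => if coeffAt v i % (p : ℤ) = 0 then none else some (i, coeffAt v i % (p : ℤ))

theorem coeffAt_normVec (p : ℕ) (v : SVec) : ∀ (N i : ℕ), i < N →
    coeffAt (normVec p N v) i = coeffAt v i % (p : ℤ) := by
  intro N
  induction N with
  | zero => intro i hi; omega
  | succ N ih =>
    intro i hi
    have e : normVec p (N + 1) v = normVec p N v ++
        (if coeffAt v N % (p : ℤ) = 0 then [] else [(N, coeffAt v N % (p : ℤ))]) := by
      unfold normVec
      rw [List.range_succ, List.filterMap_append]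
      congr 1
      simp only [List.filterMap_cons, List.filterMap_nil]
      split_ifs <;> rfl
    rw [e, coeffAt_append]
    rcases Nat.lt_succ_iff_lt_or_eq.mp hi with h | h
    · rw [ih i h]
      have : coeffAt (if coeffAt v N % (p : ℤ) = 0 then [] else [(N, coeffAt v N % (p : ℤ))]) i = 0 := by
        apply coeffAt_eq_zero
        intro q hq
        split_ifs at hq with h0
        · simp at hq
        · simp only [List.mem_singleton] at hq
          rw [hq]
          simp only
          omega
      rw [this, add_zero]
    · subst h
      have h1 : coeffAt (normVec p i v) i = 0 := by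
        apply coeffAt_eq_zero
        intro q hq
        unfold normVec at hq
        rw [List.mem_filterMap] at hq
        obtain ⟨j, hj, hjq⟩ := hq
        split_ifs at hjq with h0
        simp only [Option.some.injEq] at hjq
        rw [← hjq]
        simp only
        have := List.mem_range.mp hj
        omega
      rw [h1, zero_add]
      split_ifs with h0
      · rw [h0]
        rfl
      · unfold coeffAt
        simp

/-- Normalization modulo `p` of all columns of a sparse matrix. -/
def normMod (p N : ℕ) (A : SMat) : SMat := fun c => normVec p N (A c)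

variable (D : ChevalleyDatum) (F : Type*) [Field F]

theorem castMat_normMod (p : ℕ) [CharP F p] (A : SMat) :
    castMat D F (normMod p (dim D) A) = castMat D F A := by
  ext row col
  rw [castMat_apply, castMat_apply]
  unfold normMod
  rw [coeffAt_normVec p _ _ _ (code_lt D row)]
  exact (CharP.intCast_eq_intCast F p).mpr (Int.mod_modEq _ _)

theorem castMat_one : castMat D F one = 1 := by
  unfold castMat
  rw [toMatZ_one]
  ext i j
  simp [Matrix.one_apply]

/-! ### Products of the root elements `x_r(1)` -/

/-- The integer matrix of `x_r(1)`. -/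
def x1Z (r : ℕ) : SMat := madd one (madd (Ecol D r 1) (madd (Ecol D r 2) (Ecol D r 3)))

theorem castMat_x1Z (hlen : ChainLenOK D) (r : ℕ) (hr : r < D.nroots) : castMat D F (x1Z D r) = D.x F r 1 := by
  rw [x_eq D F hlen r hr]
  unfold x1Z
  rw [castMat_madd, castMat_madd, castMat_madd, castMat_one]
  simp only [one_pow, one_smul]
  abel

/-- A column of the product of the `x_r(1)`, `r` in the list, normalized modulo `p`. -/
def wordCol (p : ℕ) (L : List ℕ) (c : ℕ) : SVec :=
  L.foldr (fun r v => normVec p (dim D) (mulVec (dim D) (x1Z D r) v)) [(c, 1)]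

/-- The product of the `x_r(1)`, `r` in the list, normalized modulo `p`. -/
def wordZ (p : ℕ) (L : List ℕ) : SMat := fun c => wordCol D p L c

theorem castMat_wordZ (hlen : ChainLenOK D) (p : ℕ) [CharP F p] (L : List ℕ) (hL : ∀ r ∈ L, r < D.nroots) :
    castMat D F (wordZ D p L) = D.wordMat F (L.map fun r => (r, (1 : F))) := by
  induction L with
  | nil =>
    have : wordZ D p [] = one := rfl
    rw [this, castMat_one]
    unfold ChevalleyDatum.wordMat
    simp
  | cons r L ih =>
    have e : wordZ D p (r :: L) = normMod p (dim D) (mul (dim D) (x1Z D r) (wordZ D p L)) := rfl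
    rw [e, castMat_normMod, castMat_mul, ih (fun s hs => hL s (List.mem_cons_of_mem _ hs)),
      castMat_x1Z D F hlen r (hL r List.mem_cons_self)]
    unfold ChevalleyDatum.wordMat
    simp

/-- Two products of root elements `x_r(1)` are equal in characteristic `p` if the check succeeds. -/
theorem wordMat_eq_of_check (hlen : ChainLenOK D) (p : ℕ) [CharP F p] (L L' : List ℕ)
    (hL : ∀ r ∈ L, r < D.nroots) (hL' : ∀ r ∈ L', r < D.nroots)
    (h : matEqMod p (dim D) (wordZ D p L) (wordZ D p L') = true) :
    D.wordMat F (L.map fun r => (r, (1 : F))) = D.wordMat F (L'.map fun r => (r, (1 : F))) := by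
  rw [← castMat_wordZ D F hlen p L hL, ← castMat_wordZ D F hlen p L' hL']
  exact castMat_eq_of_matEqMod D F p _ _ h

end Cfsg.Agent.Lib.Helper18_TwistC
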