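import Cfsg.Agent.Lib.Helper18_TwistB

set_option autoImplicit false

/-!
Twisted groups in characteristic two, fourth part: chunks of a product of root elements that are conjugates, under
fixed elements of the twisted group acting on the roots, of the two kinds of fundamental chunks (a pair of commuting
roots, a class of type `B₂`).
-/

namespace Cfsg.Agent.Lib.Helper18_TwistD

open Cfsg Cfsg.Lie Cfsg.Agent.Lib.Helper18_ChevFast Cfsg.Agent.Lib.Helper18_ChevEngine
  Cfsg.Agent.Lib.Helper18_ChevN Cfsg.Agent.Lib.Helper18_ChevWeyl Cfsg.Agent.Lib.Helper18_ChevGL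
  Cfsg.Agent.Lib.Helper18_ChevComm Cfsg.Agent.Lib.Helper18_ChevUni Cfsg.Agent.Lib.Helper18_ChevSimp
  Cfsg.Agent.Lib.Helper18_ChevAutC Cfsg.Agent.Lib.Helper18_ChevAutJ Cfsg.Agent.Lib.Helper18_TwistA
  Cfsg.Agent.Lib.Helper18_ChevAdd Cfsg.Agent.Lib.Helper18_ChevTorus Cfsg.Agent.Lib.Helper18_ChevTri
  Cfsg.Agent.Lib.Helper18_TwistB

variable {D : ChevalleyDatum} {Ns : List NData} {K : Type*} [Field K]
variable {wl : List ℤ} {ws : List (List ℤ)} {sc : ℤ}
variable {c : DCert D Ns} {σ : MulAut ↥(D.group K)} {pi e : ℕ → ℕ}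

/-- A fixed element of the twisted group `G1` that conjugates `x_r(t)` to `x_{w r}(t)`. -/
structure ConjElt (c : DCert D Ns) (σ : MulAut ↥(D.group K)) (G1 : Subgroup (GL D.Idx K)) (n : ↥(D.group K))
    (w : ℕ → ℕ) : Prop where
  fix : σ n = n
  mem : (n : GL D.Idx K) ∈ G1
  act : ActsAs1 c (n : GL D.Idx K) w

theorem ConjElt.one (c : DCert D Ns) (σ : MulAut ↥(D.group K)) (G1 : Subgroup (GL D.Idx K)) :
    ConjElt c σ G1 1 id :=
  ⟨map_one σ, G1.one_mem, actsAs1_one c⟩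

theorem ConjElt.mul {G1 : Subgroup (GL D.Idx K)} {n₁ n₂ : ↥(D.group K)} {w₁ w₂ : ℕ → ℕ}
    (h₁ : ConjElt c σ G1 n₁ w₁) (h₂ : ConjElt c σ G1 n₂ w₂) : ConjElt c σ G1 (n₁ * n₂) (w₁ ∘ w₂) :=
  ⟨by rw [map_mul, h₁.fix, h₂.fix], G1.mul_mem h₁.mem h₂.mem, h₁.act.mul c h₂.act⟩

/-- A chunk over the images of the roots of a word is the conjugate of the word. -/
theorem conj_chunk {G1 : Subgroup (GL D.Idx K)} {n : ↥(D.group K)} {w : ℕ → ℕ} (E : ConjElt c σ G1 n w)
    (wd : List (ℕ × K)) (hwd : ∀ q ∈ wd, q.1 < D.nroots) :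
    wordG c (wd.map fun q => (w q.1, q.2)) = n * wordG c wd * n⁻¹ := by
  apply Subtype.ext
  rw [Subgroup.coe_mul, Subgroup.coe_mul, Subgroup.coe_inv, wordG_coe, wordG_coe]
  exact (E.act.conj_wordGL c wd hwd).symm

/-- The automorphism maps a conjugated chunk to a chunk over the same roots when it does so for the word. -/
theorem conj_chunk_image {G1 : Subgroup (GL D.Idx K)} {n : ↥(D.group K)} {w : ℕ → ℕ} (E : ConjElt c σ G1 n w)
    (wd wd' : List (ℕ × K)) (hwd : ∀ q ∈ wd, q.1 < D.nroots) (hfst : wd'.map Prod.fst = wd.map Prod.fst)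
    (h : σ (wordG c wd) = wordG c wd') :
    ∃ w' : List (ℕ × K), w'.map Prod.fst = (wd.map fun q => (w q.1, q.2)).map Prod.fst ∧
      σ (wordG c (wd.map fun q => (w q.1, q.2))) = wordG c w' := by
  have hwd' : ∀ q ∈ wd', q.1 < D.nroots := by
    intro q hq
    have h1 : q.1 ∈ wd'.map Prod.fst := List.mem_map_of_mem (f := Prod.fst) hq
    rw [hfst, List.mem_map] at h1
    obtain ⟨q', hq', e⟩ := h1
    rw [← e]
    exact hwd q' hq'
  refine ⟨wd'.map fun q => (w q.1, q.2), ?_, ?_⟩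
  · rw [List.map_map, List.map_map]
    have e1 : (Prod.fst ∘ fun q : ℕ × K => (w q.1, q.2)) = w ∘ Prod.fst := rfl
    rw [e1, ← List.map_map, ← List.map_map, hfst]
  · rw [conj_chunk E wd hwd, conj_chunk E wd' hwd', map_conj_of_fixed σ E.fix, h]

/-- A conjugated chunk is fixed exactly when the word is. -/
theorem conj_chunk_fixed {G1 : Subgroup (GL D.Idx K)} {n : ↥(D.group K)} {w : ℕ → ℕ} (E : ConjElt c σ G1 n w)
    (wd : List (ℕ × K)) (hwd : ∀ q ∈ wd, q.1 < D.nroots)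
    (h : σ (wordG c (wd.map fun q => (w q.1, q.2))) = wordG c (wd.map fun q => (w q.1, q.2))) :
    σ (wordG c wd) = wordG c wd := by
  rw [conj_chunk E wd hwd, map_conj_of_fixed σ E.fix] at h
  have h1 := mul_right_cancel h
  exact mul_left_cancel h1

/-- A conjugated chunk lies in the twisted group when the word does. -/
theorem conj_chunk_mem {G1 : Subgroup (GL D.Idx K)} {n : ↥(D.group K)} {w : ℕ → ℕ} (E : ConjElt c σ G1 n w)
    (wd : List (ℕ × K)) (hwd : ∀ q ∈ wd, q.1 < D.nroots) (h : ((wordG c wd : ↥(D.group K)) : GL D.Idx K) ∈ G1) :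
    ((wordG c (wd.map fun q => (w q.1, q.2)) : ↥(D.group K)) : GL D.Idx K) ∈ G1 := by
  rw [conj_chunk E wd hwd, Subgroup.coe_mul, Subgroup.coe_mul, Subgroup.coe_inv]
  exact G1.mul_mem (G1.mul_mem E.mem h) (G1.inv_mem E.mem)

/-! ### The two kinds of fundamental chunks -/

/-- The image of the word of a pair of commuting roots exchanged by `π`. -/
theorem map_pair_word (X : Tw2 c σ pi e) {s l : ℕ} (hs : s < D.nroots) (hl : l < D.nroots) (hps : pi s = l)
    (hpl : pi l = s) (hcomm : Comm c K s l) (v u : K) :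
    σ (wordG c [(s, v), (l, u)]) = wordG c [(s, u ^ e l), (l, v ^ e s)] := by
  have h := X.map_pair hs hl hps hpl hcomm v u
  unfold wordG
  simpa using h

/-- The image of the word of a class of type `B₂`. -/
theorem map_b2_word (X : Tw2 c σ pi e) {a b cc d : ℕ} (ha : a < D.nroots) (hb : b < D.nroots)
    (hc : cc < D.nroots) (hd : d < D.nroots) (hpa : pi a = b) (hpb : pi b = a) (hpc : pi cc = d) (hpd : pi d = cc)
    (R : B2Rel c K a b cc d) (t₁ t₂ t₃ t₄ : K) :
    σ (wordG c [(a, t₁), (b, t₂), (cc, t₃), (d, t₄)]) =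
      wordG c [(a, t₂ ^ e b), (b, t₁ ^ e a), (cc, t₂ ^ e b * t₁ ^ e a + t₄ ^ e d),
        (d, (t₂ ^ e b) ^ 2 * t₁ ^ e a + t₃ ^ e cc)] := by
  have h := X.map_b2 ha hb hc hd hpa hpb hpc hpd R t₁ t₂ t₃ t₄
  unfold wordG
  simpa [mul_assoc] using h

/-- A fixed word over a pair of commuting positive roots has parameters `(u ^ e_l, u)`. -/
theorem pair_fixed (tc : TCert D) (ac : ACert D wl ws sc) (X : Tw2 c σ pi e) {s l : ℕ} (hs : D.IsPosRoot s)
    (hl : D.IsPosRoot l) (hsl : s ≠ l) (hps : pi s = l) (hpl : pi l = s) (hcomm : Comm c K s l) (v u : K)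
    (h : σ (wordG c [(s, v), (l, u)]) = wordG c [(s, v), (l, u)]) : v = u ^ e l := by
  rw [map_pair_word X hs.1 hl.1 hps hpl hcomm] at h
  have h1 := congrArg (fun x : ↥(D.group K) => ((x : GL D.Idx K) : Matrix D.Idx D.Idx K)) h
  simp only [wordG_coe, wordGL_coe] at h1
  have h2 := unique_words c tc ac _ _ (by rfl) (by simpa using hsl) (by
    intro r hr
    simp only [List.map_cons, List.map_nil, List.mem_cons, List.not_mem_nil, or_false] at hr
    rcases hr with rfl | rfl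
    · exact hs
    · exact hl) h1
  have h3 := (List.cons.inj h2).1
  exact ((Prod.mk.inj h3).2).symm

/-- The equations on the parameters of a fixed word over a class of type `B₂` of positive roots. -/
theorem b2_fixed (tc : TCert D) (ac : ACert D wl ws sc) (X : Tw2 c σ pi e) {a b cc d : ℕ} (ha : D.IsPosRoot a)
    (hb : D.IsPosRoot b) (hc : D.IsPosRoot cc) (hd : D.IsPosRoot d) (hnd : [a, b, cc, d].Nodup)
    (hpa : pi a = b) (hpb : pi b = a) (hpc : pi cc = d) (hpd : pi d = cc)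
    (R : B2Rel c K a b cc d) (t₁ t₂ t₃ t₄ : K)
    (h : σ (wordG c [(a, t₁), (b, t₂), (cc, t₃), (d, t₄)]) = wordG c [(a, t₁), (b, t₂), (cc, t₃), (d, t₄)]) :
    t₁ = t₂ ^ e b ∧ t₂ = t₁ ^ e a ∧ t₃ = t₂ ^ e b * t₁ ^ e a + t₄ ^ e d ∧
      t₄ = (t₂ ^ e b) ^ 2 * t₁ ^ e a + t₃ ^ e cc := by
  rw [map_b2_word X ha.1 hb.1 hc.1 hd.1 hpa hpb hpc hpd R] at h
  have h1 := congrArg (fun x : ↥(D.group K) => ((x : GL D.Idx K) : Matrix D.Idx D.Idx K)) h
  simp only [wordG_coe, wordGL_coe] at h1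
  have h2 := unique_words c tc ac _ _ (by rfl) (by simpa using hnd) (by
    intro r hr
    simp only [List.map_cons, List.map_nil, List.mem_cons, List.not_mem_nil, or_false] at hr
    rcases hr with rfl | rfl | rfl | rfl
    · exact ha
    · exact hb
    · exact hc
    · exact hd) h1
  have e1 := (List.cons.inj h2).1
  have e2 := (List.cons.inj (List.cons.inj h2).2).1
  have e3 := (List.cons.inj (List.cons.inj (List.cons.inj h2).2).2).1
  have e4 := (List.cons.inj (List.cons.inj (List.cons.inj (List.cons.inj h2).2).2).2).1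
  exact ⟨((Prod.mk.inj e1).2).symm, ((Prod.mk.inj e2).2).symm, ((Prod.mk.inj e3).2).symm,
    ((Prod.mk.inj e4).2).symm⟩

end Cfsg.Agent.Lib.Helper18_TwistD
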