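import Cfsg.Agent.Lib.Helper18_TwistD
import Cfsg.Agent.Lib.Helper18_TwistC
import Cfsg.Agent.Lib.Helper18_ChevGraphF4
import Cfsg.Agent.Lib.Helper18_ChevData5
import Cfsg.Agent.Lib.Helper18_ChevACerts
import Cfsg.Agent.Lib.Helper36_ChevSimpleAll
import Cfsg.Prelude.Def_LieTwisted

set_option autoImplicit false

/-!
The twisted groups of type `²F₄`, first part: the certificates on the root system of type `F₄`, and the twisting
automorphism `σ` of `F₄(K)`, `|K| = 2^(2m+1)`, that maps `x_r(t)` to `x_{π r}(t ^ (2^m λ_r))`.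
-/

namespace Cfsg.Agent.Lib.Helper18_TwistF4A

open Cfsg Cfsg.Lie Cfsg.Agent.Lib.Helper18_ChevFast Cfsg.Agent.Lib.Helper18_ChevEngine
  Cfsg.Agent.Lib.Helper18_ChevN Cfsg.Agent.Lib.Helper18_ChevWeyl Cfsg.Agent.Lib.Helper18_ChevGL
  Cfsg.Agent.Lib.Helper18_ChevComm Cfsg.Agent.Lib.Helper18_ChevUni Cfsg.Agent.Lib.Helper18_ChevSimp
  Cfsg.Agent.Lib.Helper18_ChevAutC Cfsg.Agent.Lib.Helper18_ChevAutJ Cfsg.Agent.Lib.Helper18_TwistA
  Cfsg.Agent.Lib.Helper18_ChevAdd Cfsg.Agent.Lib.Helper18_ChevTorus Cfsg.Agent.Lib.Helper18_ChevTri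
  Cfsg.Agent.Lib.Helper18_TwistB Cfsg.Agent.Lib.Helper18_TwistC Cfsg.Agent.Lib.Helper18_TwistD
  Cfsg.Agent.Lib.Helper18_ChevGraphF4 Cfsg.Agent.Lib.Helper18_ChevGraphU Cfsg.Agent.Lib.Helper18_ChevGraphT
  Cfsg.Agent.Lib.Helper36_ChevSparse Cfsg.Agent.Lib.Helper36_ChevCoeff Cfsg.Agent.Lib.Helper18_ChevAutE

/-! ### Certificates -/

set_option maxHeartbeats 0 in
set_option maxRecDepth 100000 in
theorem epsOne : ∀ r < chevF4.nroots, epsF4.getD r 1 = 1 := by
  decide +kernel

set_option maxHeartbeats 0 in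
set_option maxRecDepth 100000 in
theorem commCert_pos : CommCert chevF4 33 24 := by
  decide +kernel

set_option maxHeartbeats 0 in
set_option maxRecDepth 100000 in
theorem commCert_neg : CommCert chevF4 14 23 := by
  decide +kernel

set_option maxHeartbeats 0 in
set_option maxRecDepth 100000 in
theorem b2Cert_pos : B2Cert chevF4 27 25 28 30 (-1) (-1) 2 := by
  decide +kernel

set_option maxHeartbeats 0 in
set_option maxRecDepth 100000 in
theorem b2Cert_neg : B2Cert chevF4 20 22 19 17 1 (-1) (-2) := by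
  decide +kernel

set_option maxHeartbeats 0 in
set_option maxRecDepth 100000 in
/-- `n_{p₁} n_{p₄}` as a product of generators of the twisted group (characteristic two). -/
theorem n1check : matEqMod 2 (dim chevF4) (wordZ chevF4 2 [33, 14, 33, 24, 23, 24])
    (wordZ chevF4 2 [33, 24, 14, 23, 33, 24]) = true := by
  decide +kernel

set_option maxHeartbeats 0 in
set_option maxRecDepth 100000 in
/-- `(n_{p₂} n_{p₃})²` as a product of generators of the twisted group (characteristic two). -/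
theorem n2check : matEqMod 2 (dim chevF4) (wordZ chevF4 2 [27, 20, 27, 25, 22, 25, 27, 20, 27, 25, 22, 25])
    (wordZ chevF4 2 [28, 30, 20, 22, 17, 27, 25, 28]) = true := by
  decide +kernel

/-! ### The twisting automorphism -/

variable {K : Type*} [Field K] [Fintype K]

theorem charP_two {m : ℕ} (hK : Fintype.card K = 2 ^ (2 * m + 1)) : CharP K 2 := by
  obtain ⟨p, hp⟩ := CharP.exists K
  have hprime : p.Prime := by
    rcases CharP.char_is_prime_or_zero K p with h | h
    · exact h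
    · exfalso
      subst h
      have : CharZero K := CharP.charP_to_charZero K
      exact not_finite K
  have hdvd : p ∣ Fintype.card K := by
    have := hp
    have := (CharP.cast_eq_zero_iff K p (Fintype.card K)).mp (by simp)
    exact this
  rw [hK] at hdvd
  have h2 : p = 2 := (Nat.prime_dvd_prime_iff_eq hprime Nat.prime_two).mp (hprime.dvd_of_dvd_pow hdvd)
  rw [← h2]
  exact hp

/-- `t ^ (2 θ²) = t` for `θ = 2^m`. -/
theorem pow_card_eq {m : ℕ} (hK : Fintype.card K = 2 ^ (2 * m + 1)) (t : K) : t ^ (2 ^ m * (2 ^ m * 2)) = t := by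
  have h : 2 ^ m * (2 ^ m * 2) = Fintype.card K := by
    rw [hK]
    ring
  rw [h, FiniteField.pow_card]

/-- The twisting automorphism of `F₄(K)`. -/
theorem exists_sigma {m : ℕ} (hK : Fintype.card K = 2 ^ (2 * m + 1)) :
    ∃ σ : MulAut ↥(chevF4.group K), Tw2 Cfsg.Agent.Lib.Helper18_ChevDatumF4.dcert σ (fun r => piF4.getD r 0)
      (fun r => 2 ^ m * lamF4.getD r 1) := by
  have := charP_two hK
  have : Fact (Nat.Prime 2) := ⟨Nat.prime_two⟩
  have hsimple : IsSimpleGroup ↥(chevF4.group K) :=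
    (Cfsg.Agent.Lib.Helper36_ChevSimpleAll.simple_of_mem (F := K) chevF4 (by simp)
      (fun h => by rcases h with h | h <;> exact absurd (congrArg ChevalleyDatum.rank h) (by decide))).1
  have hperf : ∀ x : K, ∃ y : K, y ^ 2 = x := by
    intro x
    have hinj : Function.Injective (frobenius K 2) := (frobenius K 2).injective
    obtain ⟨y, hy⟩ := Finite.injective_iff_surjective.mp hinj x
    exact ⟨y, hy⟩
  obtain ⟨ψ, hψ⟩ := exists_graphAut (F := K) Cfsg.Agent.Lib.Helper18_ChevDatumF4.dcert hperf graphCertF4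
  refine ⟨(ψ : MulAut ↥(chevF4.group K)) *
    fieldAutOf Cfsg.Agent.Lib.Helper18_ChevDatumF4.dcert (iterateFrobeniusEquiv K 2 m), ⟨?_⟩⟩
  intro r hr t
  rw [MulAut.mul_apply, fieldAutOf_xG, hψ r hr, epsOne r hr]
  congr 1
  have e : (iterateFrobeniusEquiv K 2 m) t = t ^ 2 ^ m := by
    rw [coe_iterateFrobeniusEquiv, iterateFrobenius_def]
  rw [e, Int.cast_one, one_mul, ← pow_mul]

end Cfsg.Agent.Lib.Helper18_TwistF4A
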