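import Cfsg.Agent.Lib.Helper18_TwistF4A

set_option autoImplicit false

/-!
The twisted groups of type `²F₄`, second part: the generators of the twisted group are fixed by the twisting
automorphism, and the two elements `n₁ = n_{p₁} n_{p₄}`, `n₂ = (n_{p₂} n_{p₃})²` of the twisted group.
-/

namespace Cfsg.Agent.Lib.Helper18_TwistF4B

open Cfsg Cfsg.Lie Cfsg.Agent.Lib.Helper18_ChevFast Cfsg.Agent.Lib.Helper18_ChevEngine
  Cfsg.Agent.Lib.Helper18_ChevN Cfsg.Agent.Lib.Helper18_ChevWeyl Cfsg.Agent.Lib.Helper18_ChevGL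
  Cfsg.Agent.Lib.Helper18_ChevComm Cfsg.Agent.Lib.Helper18_ChevUni Cfsg.Agent.Lib.Helper18_ChevSimp
  Cfsg.Agent.Lib.Helper18_ChevAutC Cfsg.Agent.Lib.Helper18_ChevAutJ Cfsg.Agent.Lib.Helper18_TwistA
  Cfsg.Agent.Lib.Helper18_ChevAdd Cfsg.Agent.Lib.Helper18_ChevTorus Cfsg.Agent.Lib.Helper18_ChevTri
  Cfsg.Agent.Lib.Helper18_TwistB Cfsg.Agent.Lib.Helper18_TwistC Cfsg.Agent.Lib.Helper18_TwistD
  Cfsg.Agent.Lib.Helper18_ChevGraphF4 Cfsg.Agent.Lib.Helper18_ChevGraphU Cfsg.Agent.Lib.Helper18_ChevGraphT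
  Cfsg.Agent.Lib.Helper36_ChevSparse Cfsg.Agent.Lib.Helper36_ChevCoeff Cfsg.Agent.Lib.Helper18_TwistF4A

variable {Ns : List NData} {K : Type*} [Field K] [Fintype K] {m : ℕ}
variable {wl : List ℤ} {ws : List (List ℤ)} {sc : ℤ}

/-- The exponents of the twisting automorphism. -/
def eF4 (m : ℕ) (r : ℕ) : ℕ := 2 ^ m * lamF4.getD r 1

/-- The permutation of the roots of the twisting automorphism. -/
def pF4 (r : ℕ) : ℕ := piF4.getD r 0

section

variable (c : DCert chevF4 Ns) (hR2 : R2All chevF4 K) [CharP K 2] (hK : Fintype.card K = 2 ^ (2 * m + 1))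
  {σ : MulAut ↥(chevF4.group K)} (X : Tw2 c σ pF4 (eF4 m))

/-! ### The generators are fixed -/

omit [CharP K 2] in
include hR2 hK X in
theorem pair_pos_fixed (t : K) :
    σ (wordG c [(33, t ^ 2 ^ m), (24, t)]) = wordG c [(33, t ^ 2 ^ m), (24, t)] := by
  rw [map_pair_word X (by decide) (by decide) (by decide) (by decide) (comm_of_cert c hR2 commCert_pos)]
  have e1 : eF4 m 24 = 2 ^ m := by unfold eF4; simp [lamF4]
  have e2 : eF4 m 33 = 2 ^ m * 2 := by unfold eF4; simp [lamF4]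
  rw [e1, e2, ← pow_mul, pow_card_eq hK]

omit [CharP K 2] in
include hR2 hK X in
theorem pair_neg_fixed (t : K) :
    σ (wordG c [(14, t ^ 2 ^ m), (23, t)]) = wordG c [(14, t ^ 2 ^ m), (23, t)] := by
  rw [map_pair_word X (by decide) (by decide) (by decide) (by decide) (comm_of_cert c hR2 commCert_neg)]
  have e1 : eF4 m 23 = 2 ^ m := by unfold eF4; simp [lamF4]
  have e2 : eF4 m 14 = 2 ^ m * 2 := by unfold eF4; simp [lamF4]
  rw [e1, e2, ← pow_mul, pow_card_eq hK]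

include hK in
/-- The arithmetic of the parameters of a fixed word over a class of type `B₂`. -/
theorem b2_arith (t u : K) :
    (t ^ 2 ^ m) ^ (2 ^ m * 2) = t ∧
    t ^ 2 ^ m * (t ^ 2 ^ m) ^ (2 ^ m * 2) + (u ^ (2 * 2 ^ m)) ^ 2 ^ m = t ^ (2 ^ m + 1) + u ∧
    (t ^ 2 ^ m) ^ 2 * (t ^ 2 ^ m) ^ (2 ^ m * 2) + (t ^ (2 ^ m + 1) + u) ^ (2 ^ m * 2) = u ^ (2 * 2 ^ m) := by
  have h1 : (t ^ 2 ^ m) ^ (2 ^ m * 2) = t := by rw [← pow_mul, pow_card_eq hK]
  have h2 : (u ^ (2 * 2 ^ m)) ^ 2 ^ m = u := by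
    rw [← pow_mul]
    have : 2 * 2 ^ m * 2 ^ m = 2 ^ m * (2 ^ m * 2) := by ring
    rw [this, pow_card_eq hK]
  refine ⟨h1, ?_, ?_⟩
  · rw [h1, h2, pow_succ]
  · rw [h1]
    have e : 2 ^ m * 2 = 2 ^ (m + 1) := by ring
    have hp2 : Fact (Nat.Prime 2) := ⟨Nat.prime_two⟩
    have e5 : (t ^ (2 ^ m + 1) + u) ^ (2 ^ m * 2) = (t ^ (2 ^ m + 1)) ^ (2 ^ m * 2) + u ^ (2 ^ m * 2) := by
      rw [e, add_pow_char_pow (t ^ (2 ^ m + 1)) u 2 (m + 1)]
    have e6 : (t ^ (2 ^ m + 1)) ^ (2 ^ m * 2) = t * t ^ (2 ^ m * 2) := by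
      rw [← pow_mul]
      have e3 : (2 ^ m + 1) * (2 ^ m * 2) = 2 ^ m * (2 ^ m * 2) + 2 ^ m * 2 := by ring
      rw [e3, pow_add, pow_card_eq hK]
    have e7 : (t ^ 2 ^ m) ^ 2 = t ^ (2 ^ m * 2) := by rw [← pow_mul]
    have e4 : u ^ (2 ^ m * 2) = u ^ (2 * 2 ^ m) := by rw [mul_comm]
    rw [e5, e6, e7, e4]
    have h5 : t ^ (2 ^ m * 2) * t + t * t ^ (2 ^ m * 2) = 0 := by
      rw [mul_comm t]
      have := neg_eq_self' (K := K) (t ^ (2 ^ m * 2) * t)
      nth_rewrite 1 [← this]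
      exact neg_add_cancel _
    calc t ^ (2 ^ m * 2) * t + (t * t ^ (2 ^ m * 2) + u ^ (2 * 2 ^ m))
        = (t ^ (2 ^ m * 2) * t + t * t ^ (2 ^ m * 2)) + u ^ (2 * 2 ^ m) := by ring
      _ = u ^ (2 * 2 ^ m) := by rw [h5, zero_add]

include hR2 hK X in
theorem b2_pos_fixed (t u : K) :
    σ (wordG c [(27, t ^ 2 ^ m), (25, t), (28, t ^ (2 ^ m + 1) + u), (30, u ^ (2 * 2 ^ m))]) =
      wordG c [(27, t ^ 2 ^ m), (25, t), (28, t ^ (2 ^ m + 1) + u), (30, u ^ (2 * 2 ^ m))] := by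
  rw [map_b2_word X (by decide) (by decide) (by decide) (by decide) (by decide) (by decide) (by decide) (by decide)
    (b2Rel_of_cert c hR2 b2Cert_pos)]
  have e1 : eF4 m 27 = 2 ^ m * 2 := by unfold eF4; simp [lamF4]
  have e2 : eF4 m 25 = 2 ^ m := by unfold eF4; simp [lamF4]
  have e3 : eF4 m 28 = 2 ^ m * 2 := by unfold eF4; simp [lamF4]
  have e4 : eF4 m 30 = 2 ^ m := by unfold eF4; simp [lamF4]
  obtain ⟨h1, h2, h3⟩ := b2_arith hK t u
  rw [e1, e2, e3, e4, h2, h3, h1]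

include hR2 hK X in
theorem b2_neg_fixed (t u : K) :
    σ (wordG c [(20, t ^ 2 ^ m), (22, t), (19, t ^ (2 ^ m + 1) + u), (17, u ^ (2 * 2 ^ m))]) =
      wordG c [(20, t ^ 2 ^ m), (22, t), (19, t ^ (2 ^ m + 1) + u), (17, u ^ (2 * 2 ^ m))] := by
  rw [map_b2_word X (by decide) (by decide) (by decide) (by decide) (by decide) (by decide) (by decide) (by decide)
    (b2Rel_of_cert c hR2 b2Cert_neg)]
  have e1 : eF4 m 20 = 2 ^ m * 2 := by unfold eF4; simp [lamF4]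
  have e2 : eF4 m 22 = 2 ^ m := by unfold eF4; simp [lamF4]
  have e3 : eF4 m 19 = 2 ^ m * 2 := by unfold eF4; simp [lamF4]
  have e4 : eF4 m 17 = 2 ^ m := by unfold eF4; simp [lamF4]
  obtain ⟨h1, h2, h3⟩ := b2_arith hK t u
  rw [e1, e2, e3, e4, h2, h3, h1]

include hR2 hK X in
/-- The generators of the twisted group are fixed. -/
theorem gen_fixed (w : List (ℕ × K)) (hw : w ∈ f4Words K (2 ^ m)) : σ (wordG c w) = wordG c w := by
  rcases hw with ⟨t, rfl | rfl⟩ | ⟨t, u, rfl | rfl⟩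
  · exact pair_pos_fixed c hR2 hK X t
  · exact pair_neg_fixed c hR2 hK X t
  · exact b2_pos_fixed c hR2 hK X t u
  · exact b2_neg_fixed c hR2 hK X t u

include hR2 hK X in
/-- The elements of the twisted group are fixed. -/
theorem G1_fixed (g : GL chevF4.Idx K) (hg : g ∈ twistedF4 K (2 ^ m)) :
    ∃ hG : g ∈ chevF4.group K, σ ⟨g, hG⟩ = ⟨g, hG⟩ := by
  unfold twistedF4 ChevalleyDatum.genSubgroup at hg
  induction hg using Subgroup.closure_induction with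
  | mem g hg =>
    obtain ⟨w, hw, hgw⟩ := hg
    have e : g = ((wordG c w : ↥(chevF4.group K)) : GL chevF4.Idx K) := by
      apply Units.ext
      rw [hgw, wordG_coe, wordGL_coe]
    subst e
    exact ⟨Subtype.prop _, gen_fixed c hR2 hK X w hw⟩
  | one => exact ⟨Subgroup.one_mem _, map_one σ⟩
  | mul a b _ _ iha ihb =>
    obtain ⟨ha, ha'⟩ := iha
    obtain ⟨hb, hb'⟩ := ihb
    refine ⟨Subgroup.mul_mem _ ha hb, ?_⟩
    have e : (⟨a * b, Subgroup.mul_mem _ ha hb⟩ : ↥(chevF4.group K)) = ⟨a, ha⟩ * ⟨b, hb⟩ := rfl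
    rw [e, map_mul, ha', hb']
  | inv a _ iha =>
    obtain ⟨ha, ha'⟩ := iha
    refine ⟨Subgroup.inv_mem _ ha, ?_⟩
    have e : (⟨a⁻¹, Subgroup.inv_mem _ ha⟩ : ↥(chevF4.group K)) = (⟨a, ha⟩ : ↥(chevF4.group K))⁻¹ := rfl
    rw [e, map_inv, ha']

omit [Fintype K] [CharP K 2] in
/-- The matrix of a generating word lies in the twisted group. -/
theorem wordGL_mem_twisted (w : List (ℕ × K)) (hw : w ∈ f4Words K (2 ^ m)) :
    wordGL c w ∈ twistedF4 K (2 ^ m) :=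
  Subgroup.subset_closure ⟨w, hw, wordGL_coe c w⟩

omit [Fintype K] [CharP K 2] in
include c in
theorem twisted_le_group : twistedF4 K (2 ^ m) ≤ chevF4.group K := by
  unfold twistedF4 ChevalleyDatum.genSubgroup
  rw [Subgroup.closure_le]
  rintro g ⟨w, -, hg⟩
  rw [eq_wordGL c hg]
  exact wordGL_mem_group c w

/-! ### The two elements of the twisted group acting as reflections of the twisted root system -/

omit [Fintype K] in
/-- Two products of root elements `x_r(1)` are equal in characteristic two if the check succeeds. -/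
theorem wordGL_ones_eq (L L' : List ℕ) (hL : ∀ r ∈ L, r < chevF4.nroots) (hL' : ∀ r ∈ L', r < chevF4.nroots)
    (h : matEqMod 2 (dim chevF4) (wordZ chevF4 2 L) (wordZ chevF4 2 L') = true) :
    wordGL c (L.map fun r => (r, (1 : K))) = wordGL c (L'.map fun r => (r, (1 : K))) := by
  apply Units.ext
  rw [wordGL_coe, wordGL_coe]
  exact wordMat_eq_of_check chevF4 K graphCertF4.len 2 L L' hL hL' h

omit [Fintype K] in
theorem nGL_eq_ones (i : ℕ) :
    (nGL c i : GL chevF4.Idx K) =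
      wordGL c [(chevF4.simple i, 1), (chevF4.neg (chevF4.simple i), 1), (chevF4.simple i, 1)] := by
  unfold nGL ChevalleyDatum.nWord
  have e1 : (-(1 : K)⁻¹) = 1 := by rw [inv_one, neg_eq_self']
  rw [e1]

omit [Fintype K] in
/-- `n₁ = n_{p₁} n_{p₄}` is a product of three generators. -/
theorem n1_eq : (nGL c 0 * nGL c 3 : GL chevF4.Idx K) =
    wordGL c (f4PairWord (2 ^ m) f4p1 f4p4 1) * wordGL c (f4PairWord (2 ^ m) f4m1 f4m4 1) *
      wordGL c (f4PairWord (2 ^ m) f4p1 f4p4 1) := by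
  have h := wordGL_ones_eq (K := K) c [33, 14, 33, 24, 23, 24] [33, 24, 14, 23, 33, 24] (by decide) (by decide)
    n1check
  rw [nGL_eq_ones, nGL_eq_ones]
  have s0 : chevF4.simple 0 = 33 := by decide
  have s3 : chevF4.simple 3 = 24 := by decide
  have n0 : chevF4.neg 33 = 14 := by decide
  have n3 : chevF4.neg 24 = 23 := by decide
  rw [s0, s3, n0, n3]
  unfold f4PairWord f4p1 f4p4 f4m1 f4m4
  simp only [List.map_cons, List.map_nil, wordGL_cons, wordGL_nil, mul_one, mul_assoc, one_pow] at h ⊢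
  exact h

omit [Fintype K] in
/-- `n₂ = (n_{p₂} n_{p₃})²` is a product of three generators. -/
theorem n2_eq : (nGL c 1 * nGL c 2 * (nGL c 1 * nGL c 2) : GL chevF4.Idx K) =
    wordGL c (b2ClassWord (2 ^ m) f4a f4b f4ab f4aab 0 1) * wordGL c (b2ClassWord (2 ^ m) f4ma f4mb f4mab f4maab 1 1) *
      wordGL c (b2ClassWord (2 ^ m) f4a f4b f4ab f4aab 1 0) := by
  have h := wordGL_ones_eq (K := K) c [27, 20, 27, 25, 22, 25, 27, 20, 27, 25, 22, 25]
    [28, 30, 20, 22, 17, 27, 25, 28] (by decide) (by decide) n2check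
  rw [nGL_eq_ones, nGL_eq_ones]
  have s1 : chevF4.simple 1 = 27 := by decide
  have s2 : chevF4.simple 2 = 25 := by decide
  have n1 : chevF4.neg 27 = 20 := by decide
  have n2 : chevF4.neg 25 = 22 := by decide
  rw [s1, s2, n1, n2]
  unfold b2ClassWord f4a f4b f4ab f4aab f4ma f4mb f4mab f4maab
  have z1 : (0 : K) ^ 2 ^ m = 0 := zero_pow (by positivity)
  have z2 : (0 : K) ^ (2 ^ m + 1) = 0 := zero_pow (Nat.succ_ne_zero _)
  have z3 : (0 : K) ^ (2 * 2 ^ m) = 0 := zero_pow (by positivity)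
  have z4 : (1 : K) + 1 = 0 := by
    have := two_eq_zero' (K := K)
    rw [← this]
    norm_num
  simp only [List.map_cons, List.map_nil, wordGL_cons, wordGL_nil, mul_one, mul_assoc, one_pow, z1, z2, z3, z4,
    zero_add, add_zero, xGL_zero, one_mul] at h ⊢
  exact h

/-- The reflection of the twisted root system in the class of `p₁, p₄`. -/
def w1F4 : ℕ → ℕ := chevF4.reflectRoot 0 ∘ chevF4.reflectRoot 3

/-- The reflection of the twisted root system in the class of `p₂, p₃`. -/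
def w2F4 : ℕ → ℕ := (chevF4.reflectRoot 1 ∘ chevF4.reflectRoot 2) ∘ (chevF4.reflectRoot 1 ∘ chevF4.reflectRoot 2)

/-- The element `n₁ = n_{p₁} n_{p₄}` of the group. -/
def n1F4 (c : DCert chevF4 Ns) : ↥(chevF4.group K) := nG c 0 * nG c 3

/-- The element `n₂ = (n_{p₂} n_{p₃})²` of the group. -/
def n2F4 (c : DCert chevF4 Ns) : ↥(chevF4.group K) := nG c 1 * nG c 2 * (nG c 1 * nG c 2)

omit [Fintype K] in
theorem n1F4_mem : ((n1F4 c : ↥(chevF4.group K)) : GL chevF4.Idx K) ∈ twistedF4 K (2 ^ m) := by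
  unfold n1F4
  rw [Subgroup.coe_mul, nG_coe, nG_coe, n1_eq c (m := m)]
  have h1 : f4PairWord (2 ^ m) f4p1 f4p4 (1 : K) ∈ f4Words K (2 ^ m) := Or.inl ⟨1, Or.inl rfl⟩
  have h2 : f4PairWord (2 ^ m) f4m1 f4m4 (1 : K) ∈ f4Words K (2 ^ m) := Or.inl ⟨1, Or.inr rfl⟩
  exact Subgroup.mul_mem _ (Subgroup.mul_mem _ (wordGL_mem_twisted c _ h1) (wordGL_mem_twisted c _ h2))
    (wordGL_mem_twisted c _ h1)

omit [Fintype K] in
theorem n2F4_mem : ((n2F4 c : ↥(chevF4.group K)) : GL chevF4.Idx K) ∈ twistedF4 K (2 ^ m) := by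
  unfold n2F4
  rw [Subgroup.coe_mul, Subgroup.coe_mul, nG_coe, nG_coe, n2_eq c (m := m)]
  have h1 : b2ClassWord (2 ^ m) f4a f4b f4ab f4aab (0 : K) 1 ∈ f4Words K (2 ^ m) := Or.inr ⟨0, 1, Or.inl rfl⟩
  have h2 : b2ClassWord (2 ^ m) f4ma f4mb f4mab f4maab (1 : K) 1 ∈ f4Words K (2 ^ m) := Or.inr ⟨1, 1, Or.inr rfl⟩
  have h3 : b2ClassWord (2 ^ m) f4a f4b f4ab f4aab (1 : K) 0 ∈ f4Words K (2 ^ m) := Or.inr ⟨1, 0, Or.inl rfl⟩
  exact Subgroup.mul_mem _ (Subgroup.mul_mem _ (wordGL_mem_twisted c _ h1) (wordGL_mem_twisted c _ h2))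
    (wordGL_mem_twisted c _ h3)

include hR2 hK X in
/-- An element of the group that lies in the twisted group is fixed. -/
theorem fixed_of_mem (n : ↥(chevF4.group K)) (hn : (n : GL chevF4.Idx K) ∈ twistedF4 K (2 ^ m)) : σ n = n := by
  obtain ⟨hG, h⟩ := G1_fixed c hR2 hK X (n : GL chevF4.Idx K) hn
  exact h

include hR2 hK X in
theorem conjElt1 : ConjElt c σ (twistedF4 K (2 ^ m)) (n1F4 c) w1F4 := by
  refine ⟨fixed_of_mem c hR2 hK X _ (n1F4_mem c), n1F4_mem c, ?_⟩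
  unfold n1F4 w1F4
  rw [Subgroup.coe_mul, nG_coe, nG_coe]
  exact (actsAs1_nGL c 0 (by decide)).mul c (actsAs1_nGL c 3 (by decide))

include hR2 hK X in
theorem conjElt2 : ConjElt c σ (twistedF4 K (2 ^ m)) (n2F4 c) w2F4 := by
  refine ⟨fixed_of_mem c hR2 hK X _ (n2F4_mem c), n2F4_mem c, ?_⟩
  unfold n2F4 w2F4
  rw [Subgroup.coe_mul, Subgroup.coe_mul, nG_coe, nG_coe]
  exact ((actsAs1_nGL c 1 (by decide)).mul c (actsAs1_nGL c 2 (by decide))).mul c
    ((actsAs1_nGL c 1 (by decide)).mul c (actsAs1_nGL c 2 (by decide)))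

end

end Cfsg.Agent.Lib.Helper18_TwistF4B
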