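import Cfsg.Agent.Lib.Helper18_TwistF4B

set_option autoImplicit false

/-!
The twisted groups of type `²F₄`, third part: the fixed elements of the twisting automorphism in the unipotent
subgroup `U` lie in the twisted group, and are parametrized by the long positive roots.
-/

namespace Cfsg.Agent.Lib.Helper18_TwistF4C

open Cfsg Cfsg.Lie Cfsg.Agent.Lib.Helper18_ChevFast Cfsg.Agent.Lib.Helper18_ChevEngine
  Cfsg.Agent.Lib.Helper18_ChevN Cfsg.Agent.Lib.Helper18_ChevWeyl Cfsg.Agent.Lib.Helper18_ChevGL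
  Cfsg.Agent.Lib.Helper18_ChevComm Cfsg.Agent.Lib.Helper18_ChevUni Cfsg.Agent.Lib.Helper18_ChevSimp
  Cfsg.Agent.Lib.Helper18_ChevAutC Cfsg.Agent.Lib.Helper18_ChevAutJ Cfsg.Agent.Lib.Helper18_TwistA
  Cfsg.Agent.Lib.Helper18_ChevAdd Cfsg.Agent.Lib.Helper18_ChevTorus Cfsg.Agent.Lib.Helper18_ChevTri
  Cfsg.Agent.Lib.Helper18_TwistB Cfsg.Agent.Lib.Helper18_TwistC Cfsg.Agent.Lib.Helper18_TwistD
  Cfsg.Agent.Lib.Helper18_ChevGraphF4 Cfsg.Agent.Lib.Helper18_ChevGraphU Cfsg.Agent.Lib.Helper18_ChevGraphT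
  Cfsg.Agent.Lib.Helper36_ChevSparse Cfsg.Agent.Lib.Helper36_ChevCoeff Cfsg.Agent.Lib.Helper18_TwistF4A
  Cfsg.Agent.Lib.Helper18_TwistF4B

variable {Ns : List NData} {K : Type*} [Field K] [Fintype K] {m : ℕ}
variable {wl : List ℤ} {ws : List (List ℤ)} {sc : ℤ}

/-- The word over the image of the class of `p₁, p₄`. -/
def pairW (w : ℕ → ℕ) (t : ℕ → K) : List (ℕ × K) := [(w 33, t (w 33)), (w 24, t (w 24))]

/-- The word over the image of the class of `p₂, p₃`. -/
def b2W (w : ℕ → ℕ) (t : ℕ → K) : List (ℕ × K) :=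
  [(w 27, t (w 27)), (w 25, t (w 25)), (w 28, t (w 28)), (w 30, t (w 30))]

/-- The condition on the parameters of a fixed word over the image of the class of `p₁, p₄`. -/
def PairOK (m : ℕ) (w : ℕ → ℕ) (t : ℕ → K) : Prop := t (w 33) = t (w 24) ^ 2 ^ m

/-- The condition on the parameters of a fixed word over the image of the class of `p₂, p₃`. -/
def B2OK (m : ℕ) (w : ℕ → ℕ) (t : ℕ → K) : Prop :=
  t (w 27) = t (w 25) ^ 2 ^ m ∧ t (w 28) = t (w 25) ^ (2 ^ m + 1) + t (w 30) ^ 2 ^ m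

omit [Fintype K] [Field K] in
theorem lt_pair (a b : K) : ∀ q ∈ [((33 : ℕ), a), (24, b)], q.1 < chevF4.nroots := by
  intro q hq
  simp only [List.mem_cons, List.not_mem_nil, or_false] at hq
  rcases hq with rfl | rfl <;> dsimp only <;> decide

omit [Fintype K] [Field K] in
theorem lt_b2 (a b cc d : K) : ∀ q ∈ [((27 : ℕ), a), (25, b), (28, cc), (30, d)], q.1 < chevF4.nroots := by
  intro q hq
  simp only [List.mem_cons, List.not_mem_nil, or_false] at hq
  rcases hq with rfl | rfl | rfl | rfl <;> dsimp only <;> decide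

section

variable (c : DCert chevF4 Ns) (tc : TCert chevF4) (ac : ACert chevF4 wl ws sc) (hR2 : R2All chevF4 K) [CharP K 2]
  (hK : Fintype.card K = 2 ^ (2 * m + 1)) {σ : MulAut ↥(chevF4.group K)} (X : Tw2 c σ pF4 (eF4 m))
  {n : ↥(chevF4.group K)} {w : ℕ → ℕ} (E : ConjElt c σ (twistedF4 K (2 ^ m)) n w)

/-! ### The images of the class of `p₁, p₄` -/

omit [Fintype K] [CharP K 2] in
include hR2 X E in
theorem pair_image (t : ℕ → K) :
    ∃ w' : List (ℕ × K), w'.map Prod.fst = (pairW w t).map Prod.fst ∧ σ (wordG c (pairW w t)) = wordG c w' :=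
  conj_chunk_image E [(33, t (w 33)), (24, t (w 24))]
    [(33, t (w 24) ^ eF4 m 24), (24, t (w 33) ^ eF4 m 33)] (lt_pair _ _) rfl
    (map_pair_word X (by decide) (by decide) (by decide) (by decide) (comm_of_cert c hR2 commCert_pos) _ _)

omit [Fintype K] [CharP K 2] in
include tc ac hR2 X E in
theorem pair_ok (t : ℕ → K) (h : σ (wordG c (pairW w t)) = wordG c (pairW w t)) : PairOK m w t := by
  have h1 := conj_chunk_fixed E [(33, t (w 33)), (24, t (w 24))] (lt_pair _ _) h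
  have h2 := pair_fixed tc ac X (by decide) (by decide) (by decide) (by decide) (by decide)
    (comm_of_cert c hR2 commCert_pos) _ _ h1
  have e1 : eF4 m 24 = 2 ^ m := by unfold eF4; simp [lamF4]
  rw [e1] at h2
  exact h2

omit [Fintype K] [CharP K 2] in
include E in
theorem pair_mem (t : ℕ → K) (h : PairOK m w t) :
    ((wordG c (pairW w t) : ↥(chevF4.group K)) : GL chevF4.Idx K) ∈ twistedF4 K (2 ^ m) := by
  apply conj_chunk_mem E [(33, t (w 33)), (24, t (w 24))] (lt_pair _ _)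
  rw [wordG_coe]
  apply wordGL_mem_twisted
  unfold PairOK at h
  rw [h]
  exact Or.inl ⟨t (w 24), Or.inl rfl⟩

/-! ### The images of the class of `p₂, p₃` -/

omit [Fintype K] in
include hR2 X E in
theorem b2_image (t : ℕ → K) :
    ∃ w' : List (ℕ × K), w'.map Prod.fst = (b2W w t).map Prod.fst ∧ σ (wordG c (b2W w t)) = wordG c w' :=
  conj_chunk_image E [(27, t (w 27)), (25, t (w 25)), (28, t (w 28)), (30, t (w 30))]
    [(27, t (w 25) ^ eF4 m 25), (25, t (w 27) ^ eF4 m 27),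
      (28, t (w 25) ^ eF4 m 25 * t (w 27) ^ eF4 m 27 + t (w 30) ^ eF4 m 30),
      (30, (t (w 25) ^ eF4 m 25) ^ 2 * t (w 27) ^ eF4 m 27 + t (w 28) ^ eF4 m 28)] (lt_b2 _ _ _ _) rfl
    (map_b2_word X (by decide) (by decide) (by decide) (by decide) (by decide) (by decide) (by decide) (by decide)
      (b2Rel_of_cert c hR2 b2Cert_pos) _ _ _ _)

omit [Fintype K] in
include tc ac hR2 X E in
theorem b2_ok (t : ℕ → K) (h : σ (wordG c (b2W w t)) = wordG c (b2W w t)) : B2OK m w t := by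
  have h1 := conj_chunk_fixed E [(27, t (w 27)), (25, t (w 25)), (28, t (w 28)), (30, t (w 30))] (lt_b2 _ _ _ _) h
  obtain ⟨h2, h3, h4, -⟩ := b2_fixed tc ac X (by decide) (by decide) (by decide) (by decide) (by decide) (by decide)
    (by decide) (by decide) (by decide) (b2Rel_of_cert c hR2 b2Cert_pos) _ _ _ _ h1
  have e1 : eF4 m 25 = 2 ^ m := by unfold eF4; simp [lamF4]
  have e4 : eF4 m 30 = 2 ^ m := by unfold eF4; simp [lamF4]
  rw [e1] at h2 h4
  rw [← h3, e4] at h4
  refine ⟨h2, ?_⟩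
  rw [h4, pow_succ]

omit [CharP K 2] in
include hK E in
theorem b2_mem (t : ℕ → K) (h : B2OK m w t) :
    ((wordG c (b2W w t) : ↥(chevF4.group K)) : GL chevF4.Idx K) ∈ twistedF4 K (2 ^ m) := by
  apply conj_chunk_mem E [(27, t (w 27)), (25, t (w 25)), (28, t (w 28)), (30, t (w 30))] (lt_b2 _ _ _ _)
  rw [wordG_coe]
  apply wordGL_mem_twisted
  obtain ⟨h1, h2⟩ := h
  rw [h1, h2]
  refine Or.inr ⟨t (w 25), t (w 30) ^ 2 ^ m, Or.inl ?_⟩
  unfold b2ClassWord f4a f4b f4ab f4aab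
  have e : (t (w 30) ^ 2 ^ m) ^ (2 * 2 ^ m) = t (w 30) := by
    rw [← pow_mul]
    have : 2 ^ m * (2 * 2 ^ m) = 2 ^ m * (2 ^ m * 2) := by ring
    rw [this, pow_card_eq hK]
  rw [e]

end

/-! ### The positive roots in the order of the classes -/

/-- The positive roots, class by class. -/
def LF4 : List ℕ :=
  [33, 24, 27, 25, 28, 30, 34, 26, 36, 42, 37, 32, 38, 43, 35, 31, 40, 46, 29, 41, 44, 47, 39, 45]

theorem LF4_nodup : LF4.Nodup := by decide

theorem LF4_pos : ∀ r, r ∈ LF4 ↔ chevF4.IsPosRoot r := by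
  intro r
  constructor
  · intro h
    have : ∀ r ∈ LF4, chevF4.IsPosRoot r := by decide
    exact this r h
  · intro h
    have : ∀ r < chevF4.nroots, chevF4.IsPosRoot r → r ∈ LF4 := by decide
    exact this r h.1 h

/-- The words of the classes. -/
def WF4 (t : ℕ → K) : List (List (ℕ × K)) :=
  [pairW id t, b2W id t, b2W w1F4 t, pairW w2F4 t, pairW (w1F4 ∘ w2F4) t, b2W (w2F4 ∘ w1F4) t,
    b2W (w1F4 ∘ (w2F4 ∘ w1F4)) t, pairW (w2F4 ∘ (w1F4 ∘ w2F4)) t]

omit [Fintype K] [Field K] in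
theorem WF4_flatten (t : ℕ → K) : (WF4 t).flatten = LF4.map fun r => (r, t r) := by
  rfl

/-- The conditions on the parameters of a fixed element of `U`. -/
def AllOK (m : ℕ) (t : ℕ → K) : Prop :=
  PairOK m id t ∧ B2OK m id t ∧ B2OK m w1F4 t ∧ PairOK m w2F4 t ∧ PairOK m (w1F4 ∘ w2F4) t ∧
    B2OK m (w2F4 ∘ w1F4) t ∧ B2OK m (w1F4 ∘ (w2F4 ∘ w1F4)) t ∧ PairOK m (w2F4 ∘ (w1F4 ∘ w2F4)) t

section

variable (c : DCert chevF4 Ns) (tc : TCert chevF4) (ac : ACert chevF4 wl ws sc) (hR2 : R2All chevF4 K) [CharP K 2]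
  (hK : Fintype.card K = 2 ^ (2 * m + 1)) {σ : MulAut ↥(chevF4.group K)} (X : Tw2 c σ pF4 (eF4 m))

include tc ac hR2 hK X in
/-- The parameters of a fixed product over the positive roots satisfy the conditions. -/
theorem ok_of_fixed (t : ℕ → K)
    (h : σ (wordG c (LF4.map fun r => (r, t r))) = wordG c (LF4.map fun r => (r, t r))) : AllOK m t := by
  have E0 := ConjElt.one c σ (twistedF4 K (2 ^ m))
  have E1 := conjElt1 c hR2 hK X
  have E2 := conjElt2 c hR2 hK X
  have E12 := E1.mul E2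
  have E21 := E2.mul E1
  have E121 := E1.mul E21
  have E212 := E2.mul E12
  rw [← WF4_flatten] at h
  have hfst : (WF4 t).flatten.map Prod.fst = LF4 := by
    rw [WF4_flatten, List.map_map]
    exact List.map_id _
  have key := chunks_fixed c tc ac σ (WF4 t) (by rw [hfst]; exact LF4_nodup)
    (by rw [hfst]; exact fun r hr => (LF4_pos r).mp hr) (by
      intro w hw
      unfold WF4 at hw
      simp only [List.mem_cons, List.not_mem_nil, or_false] at hw
      rcases hw with rfl | rfl | rfl | rfl | rfl | rfl | rfl | rfl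
      · exact pair_image c hR2 X E0 t
      · exact b2_image c hR2 X E0 t
      · exact b2_image c hR2 X E1 t
      · exact pair_image c hR2 X E2 t
      · exact pair_image c hR2 X E12 t
      · exact b2_image c hR2 X E21 t
      · exact b2_image c hR2 X E121 t
      · exact pair_image c hR2 X E212 t) h
  have mem : ∀ i : Fin 8, (WF4 t)[i] ∈ WF4 t := fun i => List.getElem_mem _
  exact ⟨pair_ok c tc ac hR2 X E0 t (key _ (mem 0)), b2_ok c tc ac hR2 X E0 t (key _ (mem 1)),
    b2_ok c tc ac hR2 X E1 t (key _ (mem 2)), pair_ok c tc ac hR2 X E2 t (key _ (mem 3)),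
    pair_ok c tc ac hR2 X E12 t (key _ (mem 4)), b2_ok c tc ac hR2 X E21 t (key _ (mem 5)),
    b2_ok c tc ac hR2 X E121 t (key _ (mem 6)), pair_ok c tc ac hR2 X E212 t (key _ (mem 7))⟩

include hR2 hK X in
/-- A product over the positive roots whose parameters satisfy the conditions lies in the twisted group. -/
theorem mem_of_ok (t : ℕ → K) (h : AllOK m t) :
    wordGL c (LF4.map fun r => (r, t r)) ∈ twistedF4 K (2 ^ m) := by
  have E0 := ConjElt.one c σ (twistedF4 K (2 ^ m))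
  have E1 := conjElt1 c hR2 hK X
  have E2 := conjElt2 c hR2 hK X
  have E12 := E1.mul E2
  have E21 := E2.mul E1
  have E121 := E1.mul E21
  have E212 := E2.mul E12
  obtain ⟨h0, h1, h2, h3, h4, h5, h6, h7⟩ := h
  rw [← WF4_flatten, ← wordG_coe, wordG_flatten]
  unfold WF4
  simp only [List.map_cons, List.map_nil, List.prod_cons, List.prod_nil, mul_one, Subgroup.coe_mul]
  have G := twistedF4 K (2 ^ m)
  exact Subgroup.mul_mem _ (pair_mem c E0 t h0) (Subgroup.mul_mem _ (b2_mem c hK E0 t h1)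
    (Subgroup.mul_mem _ (b2_mem c hK E1 t h2) (Subgroup.mul_mem _ (pair_mem c E2 t h3)
    (Subgroup.mul_mem _ (pair_mem c E12 t h4) (Subgroup.mul_mem _ (b2_mem c hK E21 t h5)
    (Subgroup.mul_mem _ (b2_mem c hK E121 t h6) (pair_mem c E212 t h7)))))))

include tc ac hR2 hK X in
/-- The fixed elements of `U` lie in the twisted group. -/
theorem ufix (g : GL chevF4.Idx K) (hg : g ∈ chevF4.posUnipotent K) (hG : g ∈ chevF4.group K)
    (hfix : σ ⟨g, hG⟩ = ⟨g, hG⟩) : g ∈ twistedF4 K (2 ^ m) := by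
  obtain ⟨t, rfl⟩ := exists_word_of_perm c tc ac hR2 LF4 LF4_nodup LF4_pos g hg
  apply mem_of_ok c hR2 hK X t
  apply ok_of_fixed c tc ac hR2 hK X t
  exact hfix

end

end Cfsg.Agent.Lib.Helper18_TwistF4C
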