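import Cfsg.Agent.Lib.Helper36_ChevOrder

set_option autoImplicit false

/-!
The normal form of the fixed elements of an endomorphism of a Chevalley group that is given on the group only (not on
the general linear group) and acts on the root elements through ring endomorphisms depending on the root: it preserves
`U`, `H`, `N` and the cells of the normal form, so that the components of the normal form of a fixed element are fixed.
-/

namespace Cfsg.Agent.Lib.Helper36_TwistGen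

open Cfsg Cfsg.Lie Cfsg.Agent.Lib.Helper36_ChevCoeff Cfsg.Agent.Lib.Helper36_ChevAdd
  Cfsg.Agent.Lib.Helper36_ChevWeyl Cfsg.Agent.Lib.Helper36_ChevGen Cfsg.Agent.Lib.Helper36_ChevTables
  Cfsg.Agent.Lib.Helper36_ChevTorus Cfsg.Agent.Lib.Helper36_ChevBorel Cfsg.Agent.Lib.Helper36_ChevW0
  Cfsg.Agent.Lib.Helper36_ChevCore Cfsg.Agent.Lib.Helper36_ChevCommU Cfsg.Agent.Lib.Helper36_WeylChain
  Cfsg.Agent.Lib.Helper36_WeylLit Cfsg.Agent.Lib.Helper36_WeylLit.RootLit Cfsg.Agent.Lib.Helper36_ChevOrder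

variable {D : ChevalleyDatum} {K : Type*} [Field K]

open Classical in
/-- The extension of an endomorphism of the group to a function on the general linear group. -/
noncomputable def sgm (σ : ↥(D.group K) →* ↥(D.group K)) (g : GL D.Idx K) : GL D.Idx K :=
  if h : g ∈ D.group K then ((σ ⟨g, h⟩ : ↥(D.group K)) : GL D.Idx K) else 1

section basic

variable (σ : ↥(D.group K) →* ↥(D.group K))

theorem sgm_of_mem {g : GL D.Idx K} (h : g ∈ D.group K) : sgm σ g = ((σ ⟨g, h⟩ : ↥(D.group K)) : GL D.Idx K) := by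
  unfold sgm
  rw [dif_pos h]

theorem sgm_mem {g : GL D.Idx K} (h : g ∈ D.group K) : sgm σ g ∈ D.group K := by
  rw [sgm_of_mem σ h]
  exact Subtype.prop _

theorem sgm_mul {a b : GL D.Idx K} (ha : a ∈ D.group K) (hb : b ∈ D.group K) :
    sgm σ (a * b) = sgm σ a * sgm σ b := by
  rw [sgm_of_mem σ ha, sgm_of_mem σ hb, sgm_of_mem σ ((D.group K).mul_mem ha hb), ← Subgroup.coe_mul, ← map_mul]
  rfl

theorem sgm_one : sgm σ (1 : GL D.Idx K) = 1 := by
  rw [sgm_of_mem σ (D.group K).one_mem]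
  have : (⟨1, (D.group K).one_mem⟩ : ↥(D.group K)) = 1 := rfl
  rw [this, map_one]
  rfl

theorem sgm_inv {a : GL D.Idx K} (ha : a ∈ D.group K) : sgm σ a⁻¹ = (sgm σ a)⁻¹ := by
  rw [eq_inv_iff_mul_eq_one, ← sgm_mul σ ((D.group K).inv_mem ha) ha, inv_mul_cancel, sgm_one]

/-- A subgroup of the group generated by a set is mapped into a subgroup that contains the images of the set. -/
theorem sgm_closure (S : Set (GL D.Idx K)) (hS : S ⊆ D.group K) (T : Subgroup (GL D.Idx K))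
    (hT : ∀ g ∈ S, sgm σ g ∈ T) (g : GL D.Idx K) (hg : g ∈ Subgroup.closure S) : sgm σ g ∈ T := by
  have key : g ∈ D.group K ∧ sgm σ g ∈ T := by
    induction hg using Subgroup.closure_induction with
    | mem g hg => exact ⟨hS hg, hT g hg⟩
    | one =>
      rw [sgm_one]
      exact ⟨(D.group K).one_mem, T.one_mem⟩
    | mul a b _ _ iha ihb =>
      rw [sgm_mul σ iha.1 ihb.1]
      exact ⟨(D.group K).mul_mem iha.1 ihb.1, T.mul_mem iha.2 ihb.2⟩
    | inv a _ iha =>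
      rw [sgm_inv σ iha.1]
      exact ⟨(D.group K).inv_mem iha.1, T.inv_mem iha.2⟩
  exact key.2

end basic

variable (hf : Facts D K) (L : RootLit) (hwf : L.WF)

/-- The hypotheses on the twisting: the tables of the symmetry, and the subgroup `G1` of fixed elements. -/
structure TwGen (σ : ↥(D.group K) →* ↥(D.group K)) (pi : ℕ → ℕ) (fr : ℕ → K →+* K) (π : Equiv.Perm (Fin L.n))
    (G1 : Subgroup (GL D.Idx K)) : Prop where
  sx : ∀ r < D.nroots, ∀ t : K,
    sgm σ (xGL D hf.hlen hf.hadd K r t) = xGL D hf.hlen hf.hadd K (pi r) (fr r t)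
  fsurj : ∀ r < D.nroots, Function.Surjective (fr r)
  pos : ∀ r, D.IsPosRoot r → D.IsPosRoot (pi r)
  val : ∀ s : Fin L.n, (π s : ℕ) = pi s
  ps : ∀ s < L.n, L.ps (pi s) = L.ps s
  frW : ∀ x ∈ WAll L hwf, ∀ r : Fin L.n, fr (x r) = fr r
  sH : ∀ g ∈ D.diagonalSubgroup K, sgm σ g ∈ D.diagonalSubgroup K
  sN : ∀ g ∈ D.monomialSubgroup K, sgm σ g ∈ D.monomialSubgroup K
  G1fix : ∀ g ∈ G1, sgm σ g = g
  G1le : G1 ≤ D.group K
  Ufix : ∀ g ∈ D.posUnipotent K, sgm σ g = g → g ∈ G1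

variable {L hwf} {σ : ↥(D.group K) →* ↥(D.group K)} {pi : ℕ → ℕ} {fr : ℕ → K →+* K} {π : Equiv.Perm (Fin L.n)}
  {G1 : Subgroup (GL D.Idx K)} (X : TwGen hf L hwf σ pi fr π G1) (hl : LitOK D L)

include hf in
theorem xGL_mem_group (r : ℕ) (t : K) : xGL D hf.hlen hf.hadd K r t ∈ D.group K := by
  have h := (subgroups_le D K hf).1
  have hU : ∀ P : ℕ → Prop, rootClosure D K P ≤ D.group K := by
    intro P
    unfold rootClosure
    rw [Subgroup.closure_le]
    rintro g ⟨r, t, -, hg⟩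
    apply word_mem_group D K hf.hlen hf.hadd [(r, t)] g
    rw [hg]
    unfold ChevalleyDatum.wordMat
    simp
  exact hU (fun _ => True) (xGL_mem_rootClosure D K hf.hlen hf.hadd _ r trivial t)

include X hl in
/-- The image of an element acting as `x` acts as the conjugate of `x` under the symmetry. -/
theorem actsAs_sigma {n : GL D.Idx K} (hn : n ∈ D.group K) {x : Equiv.Perm (Fin L.n)} (hx : x ∈ WAll L hwf)
    (h : ActsAs D K hf L n x) : ActsAs D K hf L (sgm σ n) (π * x * π⁻¹) := by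
  intro r
  set r0 := π⁻¹ r with hr0
  have hπr0 : π r0 = r := by rw [hr0]; simp
  obtain ⟨c, hc⟩ := h r0
  have hr0lt : (r0 : ℕ) < D.nroots := hl.hn ▸ r0.2
  have hxlt : ((x r0 : Fin L.n) : ℕ) < D.nroots := hl.hn ▸ (x r0).2
  have hfc : fr r0 (c : K) ≠ 0 := by
    rw [Ne, map_eq_zero]
    exact c.ne_zero
  refine ⟨Units.mk0 (fr r0 (c : K)) hfc, fun t => ?_⟩
  obtain ⟨t0, ht0⟩ := X.fsurj _ hr0lt t
  have h1 : xGL D hf.hlen hf.hadd K r t = sgm σ (xGL D hf.hlen hf.hadd K r0 t0) := by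
    rw [X.sx _ hr0lt, ht0, ← X.val, hπr0]
  have hxg := xGL_mem_group hf (r0 : ℕ) t0
  have h2 : sgm σ n * sgm σ (xGL D hf.hlen hf.hadd K r0 t0) * (sgm σ n)⁻¹ =
      sgm σ (n * xGL D hf.hlen hf.hadd K r0 t0 * n⁻¹) := by
    rw [sgm_mul σ ((D.group K).mul_mem hn hxg) ((D.group K).inv_mem hn), sgm_mul σ hn hxg, sgm_inv σ hn]
  rw [h1, h2, hc t0, X.sx _ hxlt, X.frW x hx r0, map_mul, ht0]
  have h3 : (π * x * π⁻¹) r = π (x r0) := by
    rw [Equiv.Perm.mul_apply, Equiv.Perm.mul_apply]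
  rw [h3, X.val, Units.val_mk0]

include X in
/-- The twisting endomorphism maps the subgroup of a set of roots into the subgroup of its image. -/
theorem sigma_rootClosure (P Q : ℕ → Prop) (hPQ : ∀ r, P r → r < D.nroots ∧ Q (pi r)) (g : GL D.Idx K)
    (hg : g ∈ rootClosure D K P) : sgm σ g ∈ rootClosure D K Q := by
  unfold rootClosure at hg
  refine sgm_closure σ _ ?_ _ ?_ g hg
  · rintro g ⟨r, t, -, hg⟩
    have hg' : g = xGL D hf.hlen hf.hadd K r t := Units.ext (by rw [hg, xGL_coe])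
    rw [hg']
    exact xGL_mem_group hf r t
  · rintro g ⟨r, t, hr, hg⟩
    have hg' : g = xGL D hf.hlen hf.hadd K r t := Units.ext (by rw [hg, xGL_coe])
    rw [hg', X.sx r (hPQ r hr).1]
    exact xGL_mem_rootClosure D K hf.hlen hf.hadd Q _ (hPQ r hr).2 _

include X in
theorem sigma_U (g : GL D.Idx K) (hg : g ∈ D.posUnipotent K) : sgm σ g ∈ D.posUnipotent K := by
  rw [posUnipotent_eq] at hg ⊢
  exact sigma_rootClosure hf X D.IsPosRoot D.IsPosRoot (fun r hr => ⟨hr.1, X.pos r hr⟩) g hg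

include X in
theorem sigma_B (g : GL D.Idx K) (hg : g ∈ D.borelSubgroup K) : sgm σ g ∈ D.borelSubgroup K := by
  obtain ⟨hUG, -, hHG, -⟩ := subgroups_le D K hf
  unfold ChevalleyDatum.borelSubgroup at hg
  rw [Subgroup.sup_eq_closure] at hg
  refine sgm_closure σ _ ?_ _ ?_ g hg
  · rintro g (hg | hg)
    · exact hUG hg
    · exact hHG hg
  · rintro g (hg | hg)
    · exact (le_sup_left : D.posUnipotent K ≤ D.borelSubgroup K) (sigma_U hf X g hg)
    · exact (le_sup_right : D.diagonalSubgroup K ≤ D.borelSubgroup K) (X.sH g hg)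

include X hl in
/-- The symmetry maps the positive roots made negative by `x` to those made negative by the conjugate of `x`. -/
theorem SNeg_pi (x : Equiv.Perm (Fin L.n)) (r : ℕ) (hr : SNeg D L x r) :
    r < D.nroots ∧ SNeg D L (π * x * π⁻¹) (pi r) := by
  obtain ⟨hpos, hrn, hneg⟩ := hr
  have hp := X.pos r hpos
  have hlt : pi r < L.n := hl.hn ▸ hp.1
  refine ⟨hpos.1, hp, hlt, ?_⟩
  have e : (⟨pi r, hlt⟩ : Fin L.n) = π ⟨r, hrn⟩ := Fin.ext (X.val ⟨r, hrn⟩).symm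
  rw [e, Equiv.Perm.mul_apply, Equiv.Perm.mul_apply, Equiv.Perm.inv_def, Equiv.symm_apply_apply, X.val,
    X.ps _ (x ⟨r, hrn⟩).2]
  exact hneg

section main

variable (hchain : ChainOK D) (hc : AllConj D K) (hN : NGen D K) (hx : XInj D K) (hx1 : XOne D K)
  (hUV : D.borelSubgroup K ⊓ D.negUnipotent K = ⊥)
  (hNU : Subgroup.normalizer (D.posUnipotent K : Set (GL D.Idx K)) ⊓ D.group K = D.borelSubgroup K)
  (hBN : D.borelSubgroup K ⊓ D.monomialSubgroup K = D.diagonalSubgroup K)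
  (hE : BruhatE D K) (hU : BruhatU D K)
  (hnorm : D.diagonalSubgroup K ≤ Subgroup.normalizer (D.posUnipotent K : Set (GL D.Idx K)))
  (hUH : D.posUnipotent K ⊓ D.diagonalSubgroup K = ⊥)

include X hnorm hUH in
/-- A fixed element of `B` is the product of a fixed element of `U` and a fixed element of `H`. -/
theorem fixed_B (b : GL D.Idx K) (hb : b ∈ D.borelSubgroup K) (hσ : sgm σ b = b) :
    ∃ u0 ∈ D.posUnipotent K, ∃ h0 ∈ D.diagonalSubgroup K, b = u0 * h0 ∧ sgm σ u0 = u0 ∧ sgm σ h0 = h0 := by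
  obtain ⟨hUG, -, hHG, -⟩ := subgroups_le D K hf
  have hcoe := Subgroup.coe_mul_of_right_le_normalizer_left (D.posUnipotent K) (D.diagonalSubgroup K) hnorm
  have hb' : b ∈ ((D.posUnipotent K ⊔ D.diagonalSubgroup K : Subgroup (GL D.Idx K)) : Set (GL D.Idx K)) := hb
  rw [hcoe] at hb'
  obtain ⟨u0, hu0, h0, hh0, rfl⟩ := Set.mem_mul.mp hb'
  rw [sgm_mul σ (hUG hu0) (hHG hh0)] at hσ
  have := @Subgroup.mul_injective_of_disjoint _ _ (D.posUnipotent K) (D.diagonalSubgroup K)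
    (disjoint_iff.mpr hUH) (⟨sgm σ u0, sigma_U hf X u0 hu0⟩, ⟨sgm σ h0, X.sH h0 hh0⟩) (⟨u0, hu0⟩, ⟨h0, hh0⟩) hσ
  have h1 : sgm σ u0 = u0 :=
    congrArg (fun z : ↥(D.posUnipotent K) × ↥(D.diagonalSubgroup K) => (z.1 : GL D.Idx K)) this
  have h2 : sgm σ h0 = h0 :=
    congrArg (fun z : ↥(D.posUnipotent K) × ↥(D.diagonalSubgroup K) => (z.2 : GL D.Idx K)) this
  exact ⟨u0, hu0, h0, hh0, rfl, h1, h2⟩

include X hl hchain hc hN hx hx1 hUV hNU hBN hE hU hnorm hUH in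
/-- The normal form of a fixed element, with all its components fixed. -/
theorem exists_normal_form (g : GL D.Idx K) (hg : g ∈ D.group K) (hσ : sgm σ g = g) :
    ∃ x ∈ WAll L hwf, π * x * π⁻¹ = x ∧ ∀ m ∈ D.monomialSubgroup K, sgm σ m = m → ActsAs D K hf L m x →
      ∃ u0 ∈ D.posUnipotent K ⊓ G1, ∃ h0 ∈ D.diagonalSubgroup K, sgm σ h0 = h0 ∧ ∃ u ∈ Um D K m ⊓ G1,
        g = u0 * h0 * m * u := by
  obtain ⟨hUG, -, hHG, hNG⟩ := subgroups_le D K hf
  have hBG : D.borelSubgroup K ≤ D.group K := sup_le hUG hHG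
  obtain ⟨b, hb, n, hn, u, hu, rfl⟩ := hE g hg
  have huU := Um_le_pos D K n hu
  obtain ⟨x, hxW, hact⟩ := exists_actsAs D K hf L hwf hchain hc hl hN n hn
  have hact' := actsAs_sigma hf X hl (hNG hn) hxW hact
  have huS : u ∈ rootClosure D K (SNeg D L x) := by
    rw [← Um_eq D K hf L hl hUV hx1 hact]
    exact hu
  have hσu : sgm σ u ∈ Um D K (sgm σ n) := by
    rw [Um_eq D K hf L hl hUV hx1 hact']
    exact sigma_rootClosure hf X _ _ (SNeg_pi hf X hl x) u huS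
  have e : b * n * u = sgm σ b * sgm σ n * sgm σ u := by
    rw [← sgm_mul σ (hBG hb) (hNG hn), ← sgm_mul σ ((D.group K).mul_mem (hBG hb) (hNG hn)) (hUG huU), hσ]
  obtain ⟨h1, -⟩ := hU b (sgm σ b) n (sgm σ n) u (sgm σ u) hb (sigma_B hf X b hb) hn (X.sN n hn) hu hσu e
  have hfixx : π * x * π⁻¹ = x := by
    have ha := actsAs_mul D K hf L (actsAs_inv D K hf L hact) hact'
    have hb' := actsAs_diag D K hf L hchain hl _ h1
    have := actsAs_unique D K hf L hl hx ha hb'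
    exact (inv_mul_eq_one.mp this).symm
  refine ⟨x, hxW, hfixx, ?_⟩
  intro m hmN hσm hmact
  have h2act : ActsAs D K hf L (m⁻¹ * n) 1 := by
    have := actsAs_mul D K hf L (actsAs_inv D K hf L hmact) hact
    rwa [inv_mul_cancel] at this
  have hh2 : m⁻¹ * n ∈ D.diagonalSubgroup K :=
    mem_diag_of_actsAs_one D K hf L hl hNU hBN _ ((D.monomialSubgroup K).mul_mem
      ((D.monomialSubgroup K).inv_mem hmN) hn) h2act
  have hh2' : m * (m⁻¹ * n) * m⁻¹ ∈ D.diagonalSubgroup K :=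
    (Subgroup.mem_normalizer_iff.mp (monomial_le_normalizer D K hf hmN) _).mp hh2
  have hb2 : b * (m * (m⁻¹ * n) * m⁻¹) ∈ D.borelSubgroup K :=
    (D.borelSubgroup K).mul_mem hb ((le_sup_right : D.diagonalSubgroup K ≤ D.borelSubgroup K) hh2')
  have hg2 : b * n * u = b * (m * (m⁻¹ * n) * m⁻¹) * m * u := by group
  have huM : u ∈ Um D K m := by
    rw [Um_eq D K hf L hl hUV hx1 hmact]
    exact huS
  have hσuM : sgm σ u ∈ Um D K m := by
    rw [Um_eq D K hf L hl hUV hx1 hmact]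
    have := sigma_rootClosure hf X _ _ (SNeg_pi hf X hl x) u huS
    rwa [hfixx] at this
  generalize b * (m * (m⁻¹ * n) * m⁻¹) = b2 at hb2 hg2
  have e2 : b2 * m * u = sgm σ b2 * m * sgm σ u := by
    conv_lhs => rw [← hg2, ← hσ, hg2]
    rw [sgm_mul σ ((D.group K).mul_mem (hBG hb2) (hNG hmN)) (hUG huU), sgm_mul σ (hBG hb2) (hNG hmN), hσm]
  obtain ⟨-, h3⟩ := hU b2 (sgm σ b2) m m u (sgm σ u) hb2 (sigma_B hf X b2 hb2) hmN hmN huM hσuM e2
  obtain ⟨hb2fix, hufix⟩ := h3 rfl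
  have huG : u ∈ G1 := X.Ufix u huU hufix.symm
  obtain ⟨u0, hu0, h0, hh0, rfl, hu0fix, hh0fix⟩ := fixed_B hf X hnorm hUH b2 hb2 hb2fix.symm
  exact ⟨u0, ⟨hu0, X.Ufix u0 hu0 hu0fix⟩, h0, hh0, hh0fix, u, ⟨huM, huG⟩, hg2⟩

include X hl hchain hc hN hx hx1 hUV hBN hE hU hnorm hUH in
/-- The normal form of a fixed element as a product of a fixed element of `U`, a fixed element of `N` and a fixed
element of the cell subgroup. -/
theorem exists_normal_form' (g : GL D.Idx K) (hg : g ∈ D.group K) (hσ : sgm σ g = g) :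
    ∃ x ∈ WAll L hwf, π * x * π⁻¹ = x ∧ ∃ u0 ∈ D.posUnipotent K ⊓ G1, ∃ m ∈ D.monomialSubgroup K, sgm σ m = m ∧
      ActsAs D K hf L m x ∧ ∃ u ∈ Um D K m ⊓ G1, g = u0 * m * u := by
  obtain ⟨hUG, -, hHG, hNG⟩ := subgroups_le D K hf
  have hBG : D.borelSubgroup K ≤ D.group K := sup_le hUG hHG
  obtain ⟨b, hb, n, hn, u, hu, rfl⟩ := hE g hg
  have huU := Um_le_pos D K n hu
  obtain ⟨x, hxW, hact⟩ := exists_actsAs D K hf L hwf hchain hc hl hN n hn
  have hact' := actsAs_sigma hf X hl (hNG hn) hxW hact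
  have huS : u ∈ rootClosure D K (SNeg D L x) := by
    rw [← Um_eq D K hf L hl hUV hx1 hact]
    exact hu
  have hσu : sgm σ u ∈ Um D K (sgm σ n) := by
    rw [Um_eq D K hf L hl hUV hx1 hact']
    exact sigma_rootClosure hf X _ _ (SNeg_pi hf X hl x) u huS
  have e : b * n * u = sgm σ b * sgm σ n * sgm σ u := by
    rw [← sgm_mul σ (hBG hb) (hNG hn), ← sgm_mul σ ((D.group K).mul_mem (hBG hb) (hNG hn)) (hUG huU), hσ]
  obtain ⟨h1, -⟩ := hU b (sgm σ b) n (sgm σ n) u (sgm σ u) hb (sigma_B hf X b hb) hn (X.sN n hn) hu hσu e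
  have hfixx : π * x * π⁻¹ = x := by
    have ha := actsAs_mul D K hf L (actsAs_inv D K hf L hact) hact'
    have hb' := actsAs_diag D K hf L hchain hl _ h1
    have := actsAs_unique D K hf L hl hx ha hb'
    exact (inv_mul_eq_one.mp this).symm
  refine ⟨x, hxW, hfixx, ?_⟩
  -- the same `n` on both sides
  have hh2' : n * (n⁻¹ * sgm σ n) * n⁻¹ ∈ D.diagonalSubgroup K :=
    (Subgroup.mem_normalizer_iff.mp (monomial_le_normalizer D K hf hn) _).mp h1
  have hb2 : sgm σ b * (n * (n⁻¹ * sgm σ n) * n⁻¹) ∈ D.borelSubgroup K :=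
    (D.borelSubgroup K).mul_mem (sigma_B hf X b hb)
      ((le_sup_right : D.diagonalSubgroup K ≤ D.borelSubgroup K) hh2')
  have hσuM : sgm σ u ∈ Um D K n := by
    rw [Um_eq D K hf L hl hUV hx1 hact]
    have := sigma_rootClosure hf X _ _ (SNeg_pi hf X hl x) u huS
    rwa [hfixx] at this
  have e2 : b * n * u = sgm σ b * (n * (n⁻¹ * sgm σ n) * n⁻¹) * n * sgm σ u := by
    rw [e]
    group
  obtain ⟨-, h3⟩ := hU b _ n n u (sgm σ u) hb hb2 hn hn hu hσuM e2
  obtain ⟨-, hufix⟩ := h3 rfl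
  have huG : u ∈ G1 := X.Ufix u huU hufix.symm
  -- `b n` is fixed
  have e3 : b * n = sgm σ b * sgm σ n := by
    rw [← hufix] at e
    exact mul_right_cancel e
  have hcoe := Subgroup.coe_mul_of_right_le_normalizer_left (D.posUnipotent K) (D.diagonalSubgroup K) hnorm
  have hb' : b ∈ ((D.posUnipotent K ⊔ D.diagonalSubgroup K : Subgroup (GL D.Idx K)) : Set (GL D.Idx K)) := hb
  rw [hcoe] at hb'
  obtain ⟨u0, hu0, h0, hh0, rfl⟩ := Set.mem_mul.mp hb'
  have hh0N : h0 ∈ D.monomialSubgroup K := (le_sup_left : D.diagonalSubgroup K ≤ D.monomialSubgroup K) hh0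
  have hσh0N : sgm σ h0 ∈ D.monomialSubgroup K := X.sN h0 hh0N
  rw [sgm_mul σ (hUG hu0) (hHG hh0)] at e3
  have hUN : D.posUnipotent K ⊓ D.monomialSubgroup K = ⊥ := by
    rw [eq_bot_iff]
    intro y hy
    have h4 : y ∈ D.borelSubgroup K ⊓ D.monomialSubgroup K :=
      ⟨(le_sup_left : D.posUnipotent K ≤ D.borelSubgroup K) hy.1, hy.2⟩
    rw [hBN] at h4
    have h5 : y ∈ D.posUnipotent K ⊓ D.diagonalSubgroup K := ⟨hy.1, h4⟩
    rwa [hUH] at h5
  have e4 : (sgm σ u0)⁻¹ * u0 = (sgm σ h0 * sgm σ n) * (h0 * n)⁻¹ := by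
    have e5 : u0 * (h0 * n) = sgm σ u0 * (sgm σ h0 * sgm σ n) := by
      rw [← mul_assoc, e3, mul_assoc]
    rw [inv_mul_eq_iff_eq_mul, ← mul_assoc, eq_mul_inv_iff_mul_eq, e5]
  have h6 : (sgm σ u0)⁻¹ * u0 ∈ D.posUnipotent K ⊓ D.monomialSubgroup K := by
    refine ⟨(D.posUnipotent K).mul_mem ((D.posUnipotent K).inv_mem (sigma_U hf X u0 hu0)) hu0, ?_⟩
    rw [e4]
    exact (D.monomialSubgroup K).mul_mem ((D.monomialSubgroup K).mul_mem hσh0N (X.sN n hn))
      ((D.monomialSubgroup K).inv_mem ((D.monomialSubgroup K).mul_mem hh0N hn))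
  rw [hUN, Subgroup.mem_bot] at h6
  have hu0fix : sgm σ u0 = u0 := (inv_mul_eq_one.mp h6)
  have hmfix : sgm σ (h0 * n) = h0 * n := by
    rw [sgm_mul σ (hHG hh0) (hNG hn)]
    rw [h6] at e4
    exact (mul_inv_eq_one.mp e4.symm)
  have hmact : ActsAs D K hf L (h0 * n) x := by
    have := actsAs_mul D K hf L (actsAs_diag D K hf L hchain hl _ hh0) hact
    rwa [one_mul] at this
  have huM : u ∈ Um D K (h0 * n) := by
    rw [Um_eq D K hf L hl hUV hx1 hmact]
    exact huS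
  exact ⟨u0, ⟨hu0, X.Ufix u0 hu0 hu0fix⟩, h0 * n, (D.monomialSubgroup K).mul_mem hh0N hn, hmfix, hmact, u,
    ⟨huM, huG⟩, by group⟩

end main

end Cfsg.Agent.Lib.Helper36_TwistGen
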