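import Cfsg.Agent.Lib.Helper18_TwistF4C
import Cfsg.Agent.Lib.Helper18_ChevData5
import Cfsg.Agent.Lib.Helper18_ChevACerts
import Cfsg.Agent.Lib.Helper36_TwistGen
import Cfsg.Agent.Lib.Helper36_TwistWeyl
import Cfsg.Agent.Lib.Helper36_ChevOrderAll
import Cfsg.Agent.Lib.Helper36_ChevTorusAll
import Cfsg.Agent.Lib.Helper36_ChevDataF4LitOK

set_option autoImplicit false

/-!
The twisted groups of type `²F₄`, fifth part: the hypotheses of the normal form of the fixed elements, for the
twisting automorphism of the Chevalley group of type `F₄` over a field with `2 ^ (2 m + 1)` elements.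
-/

namespace Cfsg.Agent.Lib.Helper18_TwistF4E

open Cfsg Cfsg.Lie Cfsg.Agent.Lib.Helper18_ChevFast Cfsg.Agent.Lib.Helper18_ChevEngine
  Cfsg.Agent.Lib.Helper18_ChevN Cfsg.Agent.Lib.Helper18_ChevWeyl
  Cfsg.Agent.Lib.Helper18_ChevGL Cfsg.Agent.Lib.Helper18_ChevTri
  Cfsg.Agent.Lib.Helper18_ChevAdd Cfsg.Agent.Lib.Helper18_ChevUni Cfsg.Agent.Lib.Helper18_ChevComm
  Cfsg.Agent.Lib.Helper18_ChevAutC Cfsg.Agent.Lib.Helper18_ChevAutJ Cfsg.Agent.Lib.Helper18_TwistA
  Cfsg.Agent.Lib.Helper18_TwistB Cfsg.Agent.Lib.Helper18_TwistD Cfsg.Agent.Lib.Helper18_ChevGraphF4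
  Cfsg.Agent.Lib.Helper18_TwistF4A Cfsg.Agent.Lib.Helper18_TwistF4B Cfsg.Agent.Lib.Helper18_TwistF4C
  Cfsg.Agent.Lib.Helper36_TwistGen Cfsg.Agent.Lib.Helper36_TwistWeyl
  Cfsg.Agent.Lib.Helper36_ChevTorus Cfsg.Agent.Lib.Helper36_ChevTorusAll
  Cfsg.Agent.Lib.Helper36_ChevOrder Cfsg.Agent.Lib.Helper36_ChevOrderAll Cfsg.Agent.Lib.Helper36_WeylChain
  Cfsg.Agent.Lib.Helper36_WeylLit Cfsg.Agent.Lib.Helper36_WeylLit.RootLit
  Cfsg.Agent.Lib.Helper36_ChevDataF4Lit Cfsg.Agent.Lib.Helper36_ChevDataF4LitOK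

theorem hD : chevF4 ∈ [chevG2, chevB2, chevD4, chevF4, chevE6, chevE7, chevE8] := by simp

/-- The certificate of the datum of type `F₄`. -/
abbrev dc := Cfsg.Agent.Lib.Helper18_ChevDatumF4.dcert

theorem piOK : ∀ s < lit.n, pF4 s < lit.n ∧ pF4 s < lit.n ∧ pF4 (pF4 s) = s ∧ pF4 (pF4 s) = s := by
  decide +kernel

/-- The symmetry as a permutation of the root indices. -/
def piPerm : Equiv.Perm (Fin lit.n) := mkPerm lit pF4 pF4 piOK

theorem piPerm_val (s : Fin lit.n) : (piPerm s : ℕ) = pF4 s := rfl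

/-- The multiplier of the exponent of a root: `2` on the short roots, `1` on the long roots. -/
def lF4 (r : ℕ) : ℕ := lamF4.getD r 1

theorem lamOK : ∀ r < 48, lF4 r = 1 ∨ lF4 r = 2 := by decide +kernel

theorem tblOK : (∀ r, chevF4.IsPosRoot r → chevF4.IsPosRoot (pF4 r)) ∧
    (∀ s < lit.n, lit.ps (pF4 s) = lit.ps s) ∧
    (∀ i < 4, ∀ s < 48, lF4 (lit.r i s) = lF4 s) ∧
    (∀ r < 48, pF4 (chevF4.neg r) = chevF4.neg (pF4 r) ∧ lF4 (chevF4.neg r) = lF4 r ∧
      pF4 r < 48 ∧ chevF4.neg r < 48) := by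
  refine ⟨?_, by decide +kernel, by decide +kernel, by decide +kernel⟩
  intro r hr
  have h1 : r < 48 := hr.1
  have : ∀ r < 48, chevF4.IsPosRoot r → chevF4.IsPosRoot (pF4 r) := by decide +kernel
  exact this r h1 hr

section

variable {K : Type*} [Field K] [CharP K 2] {m : ℕ}

/-- The ring endomorphism acting on the parameter of the root element of a root. -/
noncomputable def frF4 (K : Type*) [Field K] [CharP K 2] (m : ℕ) (r : ℕ) : K →+* K :=
  if lF4 r = 1 then iterateFrobenius K 2 m else iterateFrobenius K 2 (m + 1)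

theorem frF4_apply (r : ℕ) (hr : r < 48) (t : K) : frF4 K m r t = t ^ eF4 m r := by
  unfold frF4 eF4
  have e : lamF4.getD r 1 = lF4 r := rfl
  rw [e]
  rcases lamOK r hr with h | h
  · rw [if_pos h, h, mul_one, iterateFrobenius_def]
  · rw [if_neg (by rw [h]; decide), h, iterateFrobenius_def, pow_succ]

theorem frF4_surjective [Finite K] (r : ℕ) : Function.Surjective (frF4 K m r) :=
  Finite.surjective_of_injective (RingHom.injective _)

omit [CharP K 2] in
/-- The two versions of the root elements in the general linear group coincide. -/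
theorem xGL_eq (r : ℕ) (t : K) :
    Cfsg.Agent.Lib.Helper36_ChevAdd.xGL chevF4 (facts_of_mem chevF4 hD K).hlen (facts_of_mem chevF4 hD K).hadd K r t =
      xGL dc r t := by
  apply Units.ext
  rfl

variable {σ : MulAut ↥(chevF4.group K)} (X : Tw2 dc σ pF4 (eF4 m))

include X in
theorem sgm_xGL (r : ℕ) (hr : r < 48) (t : K) :
    sgm σ.toMonoidHom (xGL dc r t) = xGL dc (pF4 r) (frF4 K m r t) := by
  rw [sgm_of_mem _ (xGL_mem_group dc r t), frF4_apply r hr]
  have := X.sx r hr t
  exact congrArg Subtype.val this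

/-- The image of a letter of a word. -/
noncomputable def stepW (K : Type*) [Field K] [CharP K 2] (m : ℕ) (p : ℕ × K) : ℕ × K :=
  (pF4 p.1, frF4 K m p.1 p.2)

include X in
theorem sgm_word : ∀ (w : List (ℕ × K)), (∀ p ∈ w, p.1 < 48) →
    sgm σ.toMonoidHom (wordGL dc w) = wordGL dc (w.map (stepW K m))
  | [], _ => by
    rw [List.map_nil, wordGL_nil]
    exact sgm_one _
  | p :: w, h => by
    rw [List.map_cons, wordGL_cons, wordGL_cons, sgm_mul _ (xGL_mem_group dc _ _) (wordGL_mem_group dc w),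
      sgm_xGL X p.1 (h p List.mem_cons_self), sgm_word w (fun q hq => h q (List.mem_cons_of_mem _ hq))]
    rfl

include X in
theorem sgm_nWord (r : ℕ) (hr : r < 48) (t : K) :
    sgm σ.toMonoidHom (wordGL dc (chevF4.nWord r t)) = wordGL dc (chevF4.nWord (pF4 r) (frF4 K m r t)) := by
  obtain ⟨h1, h2, h3, h4⟩ := tblOK.2.2.2 r hr
  rw [sgm_word X]
  · unfold ChevalleyDatum.nWord stepW
    have e : frF4 K m (chevF4.neg r) = frF4 K m r := by
      unfold frF4
      rw [h2]
    simp only [List.map_cons, List.map_nil, h1, e, map_neg, map_inv₀]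
  · intro p hp
    unfold ChevalleyDatum.nWord at hp
    simp only [List.mem_cons, List.not_mem_nil, or_false] at hp
    rcases hp with rfl | rfl | rfl
    · exact hr
    · exact h4
    · exact hr

omit [CharP K 2] in
theorem wordGL_append' (a b : List (ℕ × K)) : wordGL dc (a ++ b) = wordGL dc a * wordGL dc b := by
  unfold wordGL
  rw [List.map_append, List.prod_append]

include X in
theorem sgm_hWord (r : ℕ) (hr : r < 48) (t : K) :
    sgm σ.toMonoidHom (wordGL dc (chevF4.hWord r t)) = wordGL dc (chevF4.hWord (pF4 r) (frF4 K m r t)) := by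
  unfold ChevalleyDatum.hWord
  rw [wordGL_append', wordGL_append',
    sgm_mul _ (wordGL_mem_group dc _) (wordGL_mem_group dc _), sgm_nWord X r hr, sgm_nWord X r hr, map_neg, map_one]

include X in
theorem sgm_diag (g : GL chevF4.Idx K) (hg : g ∈ chevF4.diagonalSubgroup K) :
    sgm σ.toMonoidHom g ∈ chevF4.diagonalSubgroup K := by
  unfold ChevalleyDatum.diagonalSubgroup at hg
  refine sgm_closure _ _ ?_ _ ?_ g hg
  · rintro g ⟨r, t, -, -, hg⟩
    rw [eq_wordGL dc (w := chevF4.hWord r t) hg]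
    exact wordGL_mem_group dc _
  · rintro g ⟨r, t, hr, ht, hg⟩
    rw [eq_wordGL dc (w := chevF4.hWord r t) hg, sgm_hWord X r hr]
    apply Subgroup.subset_closure
    refine ⟨pF4 r, frF4 K m r t, (tblOK.2.2.2 r hr).2.2.1, ?_, wordGL_coe dc _⟩
    rw [Ne, map_eq_zero]
    exact ht

include X in
theorem sgm_mono (g : GL chevF4.Idx K) (hg : g ∈ chevF4.monomialSubgroup K) :
    sgm σ.toMonoidHom g ∈ chevF4.monomialSubgroup K := by
  unfold ChevalleyDatum.monomialSubgroup at hg
  rw [Subgroup.sup_eq_closure] at hg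
  refine sgm_closure _ _ ?_ _ ?_ g hg
  · rintro g (hg | hg)
    · exact diagonal_le_group dc hg
    · have : Subgroup.closure {g : GL chevF4.Idx K | ∃ r : ℕ, r < chevF4.nroots ∧
          (g : Matrix chevF4.Idx chevF4.Idx K) = chevF4.nMat K r 1} ≤ chevF4.group K := by
        rw [Subgroup.closure_le]
        rintro g ⟨r, -, hg⟩
        rw [eq_wordGL dc (w := chevF4.nWord r 1) hg]
        exact wordGL_mem_group dc _
      exact this hg
  · rintro g (hg | hg)
    · exact (le_sup_left : chevF4.diagonalSubgroup K ≤ chevF4.monomialSubgroup K) (sgm_diag X g hg)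
    · apply (le_sup_right : _ ≤ chevF4.monomialSubgroup K)
      refine sgm_closure _ _ ?_ _ ?_ g hg
      · rintro g ⟨r, -, hg⟩
        rw [eq_wordGL dc (w := chevF4.nWord r 1) hg]
        exact wordGL_mem_group dc _
      · rintro g ⟨r, hr, hg⟩
        rw [eq_wordGL dc (w := chevF4.nWord r 1) hg, sgm_nWord X r hr, map_one]
        exact Subgroup.subset_closure ⟨pF4 r, (tblOK.2.2.2 r hr).2.2.1, wordGL_coe dc _⟩

end

/-- The elements of the Weyl group preserve the lengths of the roots. -/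
theorem lam_weyl (x : Equiv.Perm (Fin lit.n)) (hx : x ∈ WAll lit wf) (s : Fin lit.n) :
    lF4 (x s) = lF4 s := by
  refine lit.W_induction wf (List.range lit.rank) (fun x => ∀ s : Fin lit.n, lF4 (x s) = lF4 s)
    ?_ ?_ x hx s
  · intro s
    rfl
  · intro j hj y ih s
    have hj2 : j < 4 := List.mem_range.mp hj
    rw [Equiv.Perm.mul_apply, lit.sPerm_val wf j hj2, tblOK.2.2.1 j hj2 _ (y s).2, ih s]

section

variable {K : Type*} [Field K] [Fintype K] {m : ℕ} (hK : Fintype.card K = 2 ^ (2 * m + 1))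

/-- The hypotheses of the normal form, for a twisting automorphism. -/
theorem twGen_of [CharP K 2] (hK : Fintype.card K = 2 ^ (2 * m + 1)) {σ : MulAut ↥(chevF4.group K)}
    (X : Tw2 dc σ pF4 (eF4 m)) :
    TwGen (facts_of_mem chevF4 hD K) lit wf σ.toMonoidHom pF4 (frF4 K m) piPerm (twistedF4 K (2 ^ m)) where
  sx := fun r hr t => by rw [xGL_eq, xGL_eq, sgm_xGL X r hr]
  fsurj := fun r _ => frF4_surjective r
  pos := tblOK.1
  val := piPerm_val
  ps := tblOK.2.1
  frW := fun x hx r => by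
    unfold frF4
    rw [lam_weyl x hx r]
  sH := sgm_diag X
  sN := sgm_mono X
  G1fix := fun g hg => by
    have hR2 := Cfsg.Agent.Lib.Helper18_ChevComm2.r2_all dc Cfsg.Agent.Lib.Helper18_ChevPCertF4.pcert (F := K)
    obtain ⟨h1, h2⟩ := G1_fixed dc hR2 hK X g hg
    rw [sgm_of_mem _ h1]
    exact congrArg Subtype.val h2
  G1le := twisted_le_group dc
  Ufix := fun g hg hfix => by
    have hR2 := Cfsg.Agent.Lib.Helper18_ChevComm2.r2_all dc Cfsg.Agent.Lib.Helper18_ChevPCertF4.pcert (F := K)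
    have hgG : g ∈ chevF4.group K := posUnipotent_le_group dc hg
    rw [sgm_of_mem _ hgG] at hfix
    exact ufix dc Cfsg.Agent.Lib.Helper18_ChevTCertF4.tcert Cfsg.Agent.Lib.Helper18_ChevACerts.acertF4 hR2 hK X g hg hgG
      (Subtype.ext hfix)

open Classical in
/-- The twisting automorphism of the Chevalley group of type `F₄` over a field with `2 ^ (2 m + 1)` elements (the
identity for other fields). -/
noncomputable def sigF4 (K : Type*) [Field K] (m : ℕ) : MulAut ↥(chevF4.group K) :=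
  if h : ∃ σ : MulAut ↥(chevF4.group K), Tw2 dc σ pF4 (eF4 m) then Classical.choose h else 1

include hK in
theorem sigF4_spec : Tw2 dc (sigF4 K m) pF4 (eF4 m) := by
  have h : ∃ σ : MulAut ↥(chevF4.group K), Tw2 dc σ pF4 (eF4 m) := exists_sigma hK
  unfold sigF4
  rw [dif_pos h]
  exact Classical.choose_spec h

include hK in
/-- The hypotheses of the normal form, for the twisting automorphism. -/
theorem twGen [CharP K 2] :
    TwGen (facts_of_mem chevF4 hD K) lit wf (sigF4 K m).toMonoidHom pF4 (frF4 K m) piPerm (twistedF4 K (2 ^ m)) :=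
  twGen_of hK (sigF4_spec hK)

end

end Cfsg.Agent.Lib.Helper18_TwistF4E
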