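import Cfsg.Agent.Lib.Helper18_TwistF4H
import Cfsg.Agent.Lib.Helper36_TwistWeylF4
import Cfsg.Agent.Lib.Helper36_F4Setup

set_option autoImplicit false

/-!
The twisted groups of type `²F₄`, seventh part: the hypotheses of the normal form of the fixed elements stated with the
tables of `Helper36_TwistWeylF4`.
-/

namespace Cfsg.Agent.Lib.Helper18_TwistF4G

open Cfsg Cfsg.Lie Cfsg.Agent.Lib.Helper18_ChevAutC Cfsg.Agent.Lib.Helper18_TwistA
  Cfsg.Agent.Lib.Helper18_TwistF4A Cfsg.Agent.Lib.Helper18_TwistF4B Cfsg.Agent.Lib.Helper18_TwistF4E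
  Cfsg.Agent.Lib.Helper18_TwistF4H
  Cfsg.Agent.Lib.Helper36_TwistGen Cfsg.Agent.Lib.Helper36_TwistWeyl
  Cfsg.Agent.Lib.Helper36_ChevTorus Cfsg.Agent.Lib.Helper36_ChevTorusAll
  Cfsg.Agent.Lib.Helper36_ChevOrder Cfsg.Agent.Lib.Helper36_WeylLit Cfsg.Agent.Lib.Helper36_WeylLit.RootLit
  Cfsg.Agent.Lib.Helper36_ChevDataF4Lit

theorem pi_eq : ∀ r < 48, Cfsg.Agent.Lib.Helper36_TwistWeylF4.pi r = pF4 r := by decide +kernel

theorem piPerm_eq : Cfsg.Agent.Lib.Helper36_TwistWeylF4.piPerm = piPerm := by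
  ext s
  show Cfsg.Agent.Lib.Helper36_TwistWeylF4.pi s = pF4 s
  exact pi_eq s s.2

variable {K : Type*} [Field K] [Fintype K] [CharP K 2] {m : ℕ}

/-- The hypotheses of the normal form, with the tables of `Helper36_TwistWeylF4`. -/
theorem twGen' (hK : Fintype.card K = 2 ^ (2 * m + 1)) :
    TwGen (Cfsg.Agent.Lib.Helper36_F4Setup.hfK (K := K)) lit wf (sigF4 K m).toMonoidHom
      Cfsg.Agent.Lib.Helper36_TwistWeylF4.pi (frF4 K m) Cfsg.Agent.Lib.Helper36_TwistWeylF4.piPerm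
      (twistedF4 K (2 ^ m)) := by
  have X := twGen (K := K) (m := m) hK
  rw [piPerm_eq]
  exact
    { sx := fun r hr t => by rw [pi_eq r hr]; exact X.sx r hr t
      fsurj := X.fsurj
      pos := fun r hr => by rw [pi_eq r hr.1]; exact X.pos r hr
      val := fun s => by rw [pi_eq s s.2]; exact X.val s
      ps := fun s hs => by rw [pi_eq s hs]; exact X.ps s hs
      frW := X.frW
      sH := X.sH
      sN := X.sN
      G1fix := X.G1fix
      G1le := X.G1le
      Ufix := X.Ufix }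

end Cfsg.Agent.Lib.Helper18_TwistF4G
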