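import Mathlib
import Cfsg.Agent.Lib.Helper69_AppCDefs
import Cfsg.Agent.Lib.Helper1_AppC_PKD

/-!
B-G Appendix C: the "lambda-lemma" consequences `CXsStmt`, `XHStmt`, `TNotHStmt`,
`TNotNormPStmt` for a configuration `Cfg` (helper1, for helper69's S1472; finding 106 (0),(2)).
-/

set_option autoImplicit false
set_option linter.unusedSectionVars false

namespace Cfsg.Agent.Lib.Helper1_AppC_Lam

open Cfsg.Agent.Lib.Helper69_AppCDefs Cfsg.Agent.Lib.Helper1_AppC_Purity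
  Cfsg.Agent.Lib.Helper1_AppC_StepA Cfsg.Agent.Lib.Helper1_AppC_PKD
open scoped commutatorElement

variable {G : Type*} [Group G] [Finite G] {F : Type*} [Field F] {p : ℕ}

/-- `X ∩ H = P₀`. -/
theorem XH (c : Cfg G F p) : c.XHStmt := by
  intro g hgX hgH
  obtain ⟨b, hb⟩ := c.X_rel hgX
  have hbH : b ∈ c.H := c.P_le_H (c.P0_le_P hb.1)
  have h1 : g * b⁻¹ = 1 := c.HQ (c.H.mul_mem hgH (c.H.inv_mem hbH)) hb.2
  have : g = b := mul_inv_eq_one.mp h1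
  rw [this]; exact hb.1

/-- every element of `X` lies in `Q1 P₀`, `Q1 = [Q, s]`. -/
theorem X_rel1 (c : Cfg G F p) {g : G} (hg : g ∈ c.X) :
    ∃ b, Rel ⁅c.Q, Subgroup.zpowers c.s⁆ c.P0 g b := by
  have hQc : IsMulCommutative c.Q := ⟨⟨fun a b => Subtype.ext (c.Q_comm a a.2 b b.2)⟩⟩
  have hsn := s_mem_normalizer c
  have hn : ∀ b ∈ c.P0, ∀ n ∈ ⁅c.Q, Subgroup.zpowers c.s⁆,
      b * n * b⁻¹ ∈ ⁅c.Q, Subgroup.zpowers c.s⁆ := by
    intro b hb n hn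
    have hbQ : b ∈ Subgroup.normalizer (c.Q : Set G) := (Subgroup.zpowers_le.mpr hsn) hb
    have hbP : b ∈ Subgroup.normalizer ((Subgroup.zpowers c.s : Subgroup G) : Set G) :=
      Subgroup.le_normalizer hb
    have := Cfsg.Agent.Lib.Helper24_CoprimeAction.mem_normalizer_commutator c.Q
      (Subgroup.zpowers c.s) hbQ hbP
    exact (Subgroup.mem_normalizer_iff.mp this n).mp hn
  have hts : c.t * c.s⁻¹ ∈ ⁅c.Q, Subgroup.zpowers c.s⁆ := by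
    have : c.t * c.s⁻¹ = ⁅c.y, c.s⁆ := by rw [commutatorElement_def]; unfold Cfg.t; group
    rw [this]
    exact comm_mem_Q1 c.Q c.s c.y_mem
  unfold Cfg.X at hg
  induction hg using Subgroup.closure_induction with
  | mem x hx =>
    rcases hx with rfl | rfl
    · exact ⟨_, Rel.of_right c.s_mem_P0⟩
    · exact ⟨c.s, c.s_mem_P0, hts⟩
  | one => exact ⟨1, Rel.one⟩
  | mul x z _ _ hx hz =>
    obtain ⟨b, hb⟩ := hx
    obtain ⟨b', hb'⟩ := hz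
    exact ⟨_, Rel.mul hn hb hb'⟩
  | inv x _ hx =>
    obtain ⟨b, hb⟩ := hx
    exact ⟨_, Rel.inv hn hb⟩

/-- `C_X(s) = P₀`. -/
theorem CXs (c : Cfg G F p) : c.CXsStmt := by
  have hQc : IsMulCommutative c.Q := ⟨⟨fun a b => Subtype.ext (c.Q_comm a a.2 b b.2)⟩⟩
  intro g hgX hgs
  obtain ⟨b, hb⟩ := X_rel1 c hgX
  obtain ⟨k, rfl⟩ := c.mem_P0.mp hb.1
  have hcomm : g * (c.s ^ k)⁻¹ * c.s = c.s * (g * (c.s ^ k)⁻¹) := by
    have h1 : (c.s ^ k)⁻¹ * c.s = c.s * (c.s ^ k)⁻¹ := by group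
    calc g * (c.s ^ k)⁻¹ * c.s = g * ((c.s ^ k)⁻¹ * c.s) := by rw [mul_assoc]
      _ = g * (c.s * (c.s ^ k)⁻¹) := by rw [h1]
      _ = (g * c.s) * (c.s ^ k)⁻¹ := by rw [mul_assoc]
      _ = (c.s * g) * (c.s ^ k)⁻¹ := by rw [hgs]
      _ = c.s * (g * (c.s ^ k)⁻¹) := by rw [mul_assoc]
  have h1 := eq_one_of_mem_Q1_of_commute c.Q c.s (s_mem_normalizer c)
    (orderOf_coprime c.Q c.s c.s_pow_p c.Q_cop) hb.2 hcomm
  have : g = c.s ^ k := mul_inv_eq_one.mp h1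
  rw [this]; exact hb.1

/-- `s` does not normalize `U`; in particular `t ≠ s`. -/
theorem t_ne_s (c : Cfg G F p) : c.t ≠ c.s := by
  intro hts
  obtain ⟨u, hu, hu1⟩ := c.U_ne
  apply hu1
  have h1 : c.s * u * c.s⁻¹ ∈ c.U := by
    have := c.t_conj u hu
    change c.t * u * c.t⁻¹ ∈ c.U at this
    rwa [hts] at this
  have h2 : c.s * u * c.s⁻¹ * u⁻¹ = c.a (1 - c.ψ u) := by
    have h3 := c.conj_a u hu (-1)
    rw [mul_neg, mul_one, c.a_neg, c.a_neg] at h3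
    rw [c.a_sub]
    have : c.s * u * c.s⁻¹ * u⁻¹ = c.s * (u * (c.a 1)⁻¹ * u⁻¹) := by
      unfold Cfg.s; group
    rw [this, h3]
    rfl
  have h4 : c.a (1 - c.ψ u) ∈ c.U := by
    rw [← h2]; exact c.U.mul_mem h1 (c.U.inv_mem hu)
  have h5 := c.UP h4 (c.a_mem_P _)
  rw [c.a_eq_one_iff, sub_eq_zero] at h5
  exact c.ψ_inj u hu 1 c.U.one_mem (by rw [c.ψ_one, ← h5])

/-- a power `x ^ k` with `p ∤ k` generates the same cyclic group when `x ^ p = 1`. -/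
theorem exists_zpow_zpow_eq {x : G} {k : ℤ} (hp : p.Prime) (hx : x ^ p = 1)
    (hk : ¬ (p : ℤ) ∣ k) : ∃ m : ℤ, (x ^ k) ^ m = x := by
  have hcop : IsCoprime k (p : ℤ) := by
    have hpp : Prime (p : ℤ) := Nat.prime_iff_prime_int.mp hp
    exact (hpp.coprime_iff_not_dvd.mpr hk).symm
  obtain ⟨m, n, hmn⟩ := hcop
  refine ⟨m, ?_⟩
  have h1 : (x ^ k) ^ m = x ^ (m * k) := by rw [← zpow_mul, mul_comm]
  have h2 : x ^ (n * (p : ℤ)) = 1 := by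
    rw [mul_comm, zpow_mul, zpow_natCast, hx, one_zpow]
  calc (x ^ k) ^ m = x ^ (m * k) * x ^ (n * (p : ℤ)) := by rw [h1, h2, mul_one]
    _ = x ^ (m * k + n * (p : ℤ)) := by rw [zpow_add]
    _ = x := by rw [hmn, zpow_one]

/-- `t ^ k ∈ H` only for `p ∣ k`. -/
theorem TNotH (c : Cfg G F p) : c.TNotHStmt := by
  intro k hk
  by_contra hpk
  have hX : c.t ^ k ∈ c.X := c.X.zpow_mem c.t_mem_X k
  have hP0 := XH c _ hX hk
  obtain ⟨j, hj⟩ := c.mem_P0.mp hP0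
  have hn := c.P0_norm_Q
  have hNA : ∀ x ∈ c.Q, x ∈ c.P0 → x = 1 := fun x hxQ hxP => c.PQ (c.P0_le_P hxP) hxQ
  have r1 : Rel c.Q c.P0 (c.t ^ k) (c.s ^ k) := Rel.zpow hn c.rel_t k
  have r2 : Rel c.Q c.P0 (c.t ^ k) (c.s ^ j) := by
    rw [← hj]; exact Rel.of_right (c.P0.zpow_mem c.s_mem_P0 j)
  have h1 : c.s ^ k = c.s ^ j := Rel.unique hn hNA r1 r2
  have h2 : c.t ^ k = c.s ^ k := by rw [h1, hj]
  obtain ⟨m, hm⟩ := exists_zpow_zpow_eq c.hp c.t_pow_p hpk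
  obtain ⟨m', hm'⟩ := exists_zpow_zpow_eq c.hp c.s_pow_p hpk
  -- `t = (t^k)^m = (s^k)^m`, a power of `s`; also `t = y s y⁻¹`
  have h3 : c.t = (c.s ^ k) ^ m := by rw [← h2, hm]
  have h4 : c.t * c.s⁻¹ ∈ c.P0 := by
    rw [h3]
    exact c.P0.mul_mem (c.P0.zpow_mem (c.P0.zpow_mem c.s_mem_P0 k) m) (c.P0.inv_mem c.s_mem_P0)
  have h5 : c.t * c.s⁻¹ = 1 := hNA _ c.ts_inv_mem h4
  exact t_ne_s c (mul_inv_eq_one.mp h5)

/-- no nontrivial power of `t` normalizes `P`. -/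
theorem TNotNormP (c : Cfg G F p) : c.TNotNormPStmt := by
  have hQc : IsMulCommutative c.Q := ⟨⟨fun a b => Subtype.ext (c.Q_comm a a.2 b b.2)⟩⟩
  intro j hj hnorm
  obtain ⟨m, hm⟩ := exists_zpow_zpow_eq c.hp c.t_pow_p hj
  -- `t` normalizes `P`
  have hpow : ∀ (n : ℕ) (z : F), (c.t ^ j) ^ n * c.a z * ((c.t ^ j) ^ n)⁻¹ ∈ c.P := by
    intro n
    induction n with
    | zero => intro z; simpa using c.a_mem_P z
    | succ n ih =>
      intro z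
      obtain ⟨w, hw⟩ := ih z
      have e : (c.t ^ j) ^ (n + 1) * c.a z * ((c.t ^ j) ^ (n + 1))⁻¹ =
          c.t ^ j * ((c.t ^ j) ^ n * c.a z * ((c.t ^ j) ^ n)⁻¹) * (c.t ^ j)⁻¹ := by
        rw [pow_succ']; group
      rw [e, ← hw]
      exact hnorm w
  have htj : (c.t ^ j) ^ p = 1 := by
    rw [← zpow_natCast, ← zpow_mul, mul_comm, zpow_mul, zpow_natCast, c.t_pow_p, one_zpow]
  have hm' : (c.t ^ j) ^ m = (c.t ^ j) ^ (m % (p : ℤ)).toNat := by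
    have hp0 : (p : ℤ) ≠ 0 := by exact_mod_cast c.hp.ne_zero
    have h1 : 0 ≤ m % (p : ℤ) := Int.emod_nonneg m hp0
    rw [← zpow_natCast ((c.t ^ j)), Int.toNat_of_nonneg h1]
    exact zpow_eq_zpow_emod m (by exact_mod_cast htj)
  have htP : c.t * c.s * c.t⁻¹ ∈ c.P := by
    have := hpow (m % (p : ℤ)).toNat 1
    rw [← hm', hm] at this
    exact this
  -- `t s t⁻¹ s⁻¹ ∈ P ∩ Q`
  have h1 : c.t * c.s * c.t⁻¹ * c.s⁻¹ ∈ c.P := c.P.mul_mem htP (c.P.inv_mem c.s_mem_P)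
  have h2 : c.t * c.s * c.t⁻¹ * c.s⁻¹ ∈ c.Q := by
    have hc := c.ts_inv_mem
    have hc' : c.s * (c.t * c.s⁻¹)⁻¹ * c.s⁻¹ ∈ c.Q := by
      have := c.s_zpow_conj (c.Q.inv_mem hc) 1
      simpa using this
    have e : c.t * c.s * c.t⁻¹ * c.s⁻¹ = (c.t * c.s⁻¹) * (c.s * (c.t * c.s⁻¹)⁻¹ * c.s⁻¹) := by
      group
    rw [e]; exact c.Q.mul_mem hc hc'
  have h3 : c.t * c.s * c.t⁻¹ * c.s⁻¹ = 1 := c.PQ h1 h2
  -- so `c₀ = t s⁻¹ ∈ Q1` commutes with `s`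
  have hts : c.t * c.s⁻¹ ∈ Q1 c.Q c.s := by
    have : c.t * c.s⁻¹ = ⁅c.y, c.s⁆ := by rw [commutatorElement_def]; unfold Cfg.t; group
    rw [this]
    exact comm_mem_Q1 c.Q c.s c.y_mem
  have hcomm : c.t * c.s⁻¹ * c.s = c.s * (c.t * c.s⁻¹) := by
    have : c.t * c.s = c.s * c.t := by
      have := mul_inv_eq_one.mp h3
      calc c.t * c.s = (c.t * c.s * c.t⁻¹) * c.t := by group
        _ = c.s * c.t := by rw [this]
    calc c.t * c.s⁻¹ * c.s = c.t := by group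
      _ = c.s * c.t * c.s⁻¹ := by rw [← this]; group
      _ = c.s * (c.t * c.s⁻¹) := by group
  have h4 := eq_one_of_mem_Q1_of_commute c.Q c.s (s_mem_normalizer c)
    (orderOf_coprime c.Q c.s c.s_pow_p c.Q_cop) hts hcomm
  exact t_ne_s c (mul_inv_eq_one.mp h4)

end Cfsg.Agent.Lib.Helper1_AppC_Lam
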