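import Mathlib
import Cfsg.Agent.Lib.Helper13_B2Defs
import Cfsg.Agent.Lib.Helper13_B2Geom

/-!
B2-CONIC package of helper13's S1083 project: an isometry of `x₀² + x₁y₁ + x₂y₂` fixing `e1` and `f1`
is in `E5 * A5`.
-/

set_option autoImplicit false

namespace Cfsg.Agent.Lib.Helper1_B2_CONIC

open Cfsg Cfsg.Agent.Lib.Helper13_B2Defs Cfsg.Agent.Lib.Helper13_B2Geom Matrix

variable {F : Type*} [Field F]

theorem act_xO (r : ℕ) (t : F) (v : I5 → F) : act (xO F r t) v = xM F r t *ᵥ v := rfl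

theorem B5_act (g : ↥(O5 F)) (u v : I5 → F) : B5 (act g u) (act g v) = B5 u v := B5_isom g u v

theorem Q5_act (g : ↥(O5 F)) (v : I5 → F) : Q5 F (act g v) = Q5 F v := Q5_isom g v

/-- first step: move the image of `e2` to a multiple of `e2` -/
theorem step1 (g : ↥(O5 F)) (h1 : act g (mk5 0 1 0 0 0) = mk5 0 1 0 0 0)
    (h2 : act g (mk5 0 0 0 1 0) = mk5 0 0 0 1 0) :
    ∃ h ∈ E5 F, act (h * g) (mk5 0 1 0 0 0) = mk5 0 1 0 0 0 ∧
      act (h * g) (mk5 0 0 0 1 0) = mk5 0 0 0 1 0 ∧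
      ∃ c : F, c ≠ 0 ∧ act (h * g) (mk5 0 0 1 0 0) = mk5 0 0 c 0 0 := by
  obtain ⟨a, b, c, d, e, hw⟩ : ∃ a b c d e : F, act g (mk5 0 0 1 0 0) = mk5 a b c d e :=
    ⟨_, _, _, _, _, mk5_eta _⟩
  have hd : d = 0 := by
    have := B5_act g (mk5 0 0 1 0 0) (mk5 0 1 0 0 0)
    rw [hw, h1, B5_mk5, B5_mk5] at this
    simpa using this
  have hb : b = 0 := by
    have := B5_act g (mk5 0 0 1 0 0) (mk5 0 0 0 1 0)
    rw [hw, h2, B5_mk5, B5_mk5] at this
    simpa using this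
  subst hd hb
  have hQ : a ^ 2 + c * e = 0 := by
    have := Q5_act g (mk5 0 0 1 0 0)
    rw [hw, Q5_mk5, Q5_mk5] at this
    simpa using this
  -- the image of `f2` pairs to 1 with `w`
  obtain ⟨a', b', c', d', e', hw'⟩ : ∃ a b c d e : F, act g (mk5 0 0 0 0 1) = mk5 a b c d e :=
    ⟨_, _, _, _, _, mk5_eta _⟩
  have hpair : 2 * a * a' + c * e' + e * c' = 1 := by
    have := B5_act g (mk5 0 0 1 0 0) (mk5 0 0 0 0 1)
    rw [hw, hw', B5_mk5, B5_mk5] at this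
    simpa using this
  -- reduce to the case `c ≠ 0`
  have key : ∀ (g : ↥(O5 F)) (a c e : F), act g (mk5 0 1 0 0 0) = mk5 0 1 0 0 0 →
      act g (mk5 0 0 0 1 0) = mk5 0 0 0 1 0 → act g (mk5 0 0 1 0 0) = mk5 a 0 c 0 e →
      a ^ 2 + c * e = 0 → c ≠ 0 →
      ∃ h ∈ E5 F, act (h * g) (mk5 0 1 0 0 0) = mk5 0 1 0 0 0 ∧
        act (h * g) (mk5 0 0 0 1 0) = mk5 0 0 0 1 0 ∧
        ∃ c : F, c ≠ 0 ∧ act (h * g) (mk5 0 0 1 0 0) = mk5 0 0 c 0 0 := by
    intro g a c e h1 h2 hw hQ hc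
    refine ⟨xO F 2 (-a / c), xO_mem_E5 _ _, ?_, ?_, c, hc, ?_⟩
    · rw [act_mul, h1, act_xO, xM_mk5_2]
      apply mk5_ext <;> ring
    · rw [act_mul, h2, act_xO, xM_mk5_2]
      apply mk5_ext <;> ring
    · rw [act_mul, hw, act_xO, xM_mk5_2]
      apply mk5_ext
      · field_simp
        ring
      · rfl
      · rfl
      · rfl
      · have : e = -a ^ 2 / c := by
          field_simp
          linear_combination hQ
        rw [this]
        field_simp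
        ring
  by_cases hc : c = 0
  · subst hc
    have ha : a = 0 := by
      have : a ^ 2 = 0 := by simpa using hQ
      exact pow_eq_zero_iff (two_ne_zero) |>.mp this
    subst ha
    have he : e ≠ 0 := by
      intro he
      subst he
      simp at hpair
    obtain ⟨h, hh, k1, k2, k3⟩ := key (xO F 5 1 * g) (-e) (-e) e
      (by rw [act_mul, h1, act_xO, xM_mk5_5]; apply mk5_ext <;> ring)
      (by rw [act_mul, h2, act_xO, xM_mk5_5]; apply mk5_ext <;> ring)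
      (by rw [act_mul, hw, act_xO, xM_mk5_5]; apply mk5_ext <;> ring)
      (by ring) (neg_ne_zero.mpr he)
    refine ⟨h * xO F 5 1, (E5 F).mul_mem hh (xO_mem_E5 _ _), ?_, ?_, ?_⟩
    · rw [mul_assoc]; exact k1
    · rw [mul_assoc]; exact k2
    · rw [mul_assoc]; exact k3
  · exact key g a c e h1 h2 hw hQ hc

/-- second step: move the image of `f2` to a multiple of `f2` -/
theorem step2 (g : ↥(O5 F)) (c : F) (hc : c ≠ 0) (h1 : act g (mk5 0 1 0 0 0) = mk5 0 1 0 0 0)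
    (h2 : act g (mk5 0 0 0 1 0) = mk5 0 0 0 1 0) (h3 : act g (mk5 0 0 1 0 0) = mk5 0 0 c 0 0) :
    ∃ h ∈ E5 F, act (h * g) (mk5 0 1 0 0 0) = mk5 0 1 0 0 0 ∧
      act (h * g) (mk5 0 0 0 1 0) = mk5 0 0 0 1 0 ∧
      act (h * g) (mk5 0 0 1 0 0) = mk5 0 0 c 0 0 ∧
      act (h * g) (mk5 0 0 0 0 1) = mk5 0 0 0 0 c⁻¹ := by
  obtain ⟨a, b, c', d, e, hw⟩ : ∃ a b c d e : F, act g (mk5 0 0 0 0 1) = mk5 a b c d e :=
    ⟨_, _, _, _, _, mk5_eta _⟩
  have hd : d = 0 := by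
    have := B5_act g (mk5 0 0 0 0 1) (mk5 0 1 0 0 0)
    rw [hw, h1, B5_mk5, B5_mk5] at this
    simpa using this
  have hb : b = 0 := by
    have := B5_act g (mk5 0 0 0 0 1) (mk5 0 0 0 1 0)
    rw [hw, h2, B5_mk5, B5_mk5] at this
    simpa using this
  subst hd hb
  have he : e * c = 1 := by
    have := B5_act g (mk5 0 0 0 0 1) (mk5 0 0 1 0 0)
    rw [hw, h3, B5_mk5, B5_mk5] at this
    simpa using this
  have hQ : a ^ 2 + c' * e = 0 := by
    have := Q5_act g (mk5 0 0 0 0 1)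
    rw [hw, Q5_mk5, Q5_mk5] at this
    simpa using this
  have he' : e = c⁻¹ := eq_inv_of_mul_eq_one_left he
  have hene : e ≠ 0 := by rw [he']; exact inv_ne_zero hc
  refine ⟨xO F 5 (a / e), xO_mem_E5 _ _, ?_, ?_, ?_, ?_⟩
  · rw [act_mul, h1, act_xO, xM_mk5_5]
    apply mk5_ext <;> ring
  · rw [act_mul, h2, act_xO, xM_mk5_5]
    apply mk5_ext <;> ring
  · rw [act_mul, h3, act_xO, xM_mk5_5]
    apply mk5_ext <;> ring
  · rw [act_mul, hw, act_xO, xM_mk5_5]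
    apply mk5_ext
    · field_simp
      ring
    · rfl
    · have : c' = -a ^ 2 / e := by
        field_simp
        linear_combination hQ
      rw [this]
      field_simp
      ring
    · rfl
    · exact he'

/-- third step: an isometry fixing `e1`, `f1` and scaling `e2`, `f2` is diagonal -/
theorem step3 (g : ↥(O5 F)) (c : F) (hc : c ≠ 0) (h1 : act g (mk5 0 1 0 0 0) = mk5 0 1 0 0 0)
    (h2 : act g (mk5 0 0 0 1 0) = mk5 0 0 0 1 0) (h3 : act g (mk5 0 0 1 0 0) = mk5 0 0 c 0 0)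
    (h4 : act g (mk5 0 0 0 0 1) = mk5 0 0 0 0 c⁻¹) : g ∈ A5 F := by
  obtain ⟨x, b, c', d, e, hw⟩ : ∃ a b c d e : F, act g (mk5 1 0 0 0 0) = mk5 a b c d e :=
    ⟨_, _, _, _, _, mk5_eta _⟩
  have hd : d = 0 := by
    have := B5_act g (mk5 1 0 0 0 0) (mk5 0 1 0 0 0)
    rw [hw, h1, B5_mk5, B5_mk5] at this
    simpa using this
  have hb : b = 0 := by
    have := B5_act g (mk5 1 0 0 0 0) (mk5 0 0 0 1 0)
    rw [hw, h2, B5_mk5, B5_mk5] at this
    simpa using this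
  have he : e = 0 := by
    have := B5_act g (mk5 1 0 0 0 0) (mk5 0 0 1 0 0)
    rw [hw, h3, B5_mk5, B5_mk5] at this
    have : e * c = 0 := by simpa using this
    rcases mul_eq_zero.mp this with h | h
    · exact h
    · exact absurd h hc
  have hc' : c' = 0 := by
    have := B5_act g (mk5 1 0 0 0 0) (mk5 0 0 0 0 1)
    rw [hw, h4, B5_mk5, B5_mk5] at this
    have : c' * c⁻¹ = 0 := by simpa using this
    rcases mul_eq_zero.mp this with h | h
    · exact h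
    · exact absurd h (inv_ne_zero hc)
  subst hd hb he hc'
  have hx : x * x = 1 := by
    have := Q5_act g (mk5 1 0 0 0 0)
    rw [hw, Q5_mk5, Q5_mk5] at this
    have : x ^ 2 = 1 := by simpa using this
    rw [← pow_two]; exact this
  refine ⟨x, 1, c, hx, one_ne_zero, hc, ?_⟩
  apply mat_ext5
  intro a b c' d e
  have hdecomp : mk5 a b c' d e = a • mk5 1 0 0 0 0 + b • mk5 0 1 0 0 0 + c' • mk5 0 0 1 0 0
      + d • mk5 0 0 0 1 0 + e • mk5 0 0 0 0 1 := by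
    simp only [mk5_smul, mk5_add]
    apply mk5_ext <;> ring
  have hact : ((g : GL I5 F) : Matrix I5 I5 F) *ᵥ mk5 a b c' d e =
      a • act g (mk5 1 0 0 0 0) + b • act g (mk5 0 1 0 0 0) + c' • act g (mk5 0 0 1 0 0)
      + d • act g (mk5 0 0 0 1 0) + e • act g (mk5 0 0 0 0 1) := by
    rw [hdecomp]
    simp only [act, Matrix.mulVec_add, Matrix.mulVec_smul]
  rw [hact, hw, h1, h2, h3, h4, dM_mk5]
  simp only [mk5_smul, mk5_add]
  apply mk5_ext <;> simp <;> ring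

/-- B2-CONIC: an isometry fixing `e1` and `f1` is in `E5 * A5`. -/
theorem conic5 (g : ↥(O5 F)) (h1 : act g (mk5 0 1 0 0 0) = mk5 0 1 0 0 0)
    (h2 : act g (mk5 0 0 0 1 0) = mk5 0 0 0 1 0) : ∃ h ∈ E5 F, h * g ∈ A5 F := by
  obtain ⟨k1, hk1, a1, a2, c, hc, a3⟩ := step1 g h1 h2
  obtain ⟨k2, hk2, b1, b2, b3, b4⟩ := step2 (k1 * g) c hc a1 a2 a3
  refine ⟨k2 * k1, (E5 F).mul_mem hk2 hk1, ?_⟩
  rw [mul_assoc]
  exact step3 _ c hc b1 b2 b3 b4

end Cfsg.Agent.Lib.Helper1_B2_CONIC
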