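import Mathlib.GroupTheory.Sylow
import Mathlib.GroupTheory.Nilpotent
import Mathlib.GroupTheory.PGroup
import Mathlib.GroupTheory.Index
import Mathlib.Tactic

/-!
Basic facts on strongly `p`-embedded subgroups in the classical sense
(`H ∩ H^g` is a `p'`-group for `g ∉ H`).
-/

set_option autoImplicit false
set_option linter.unusedSectionVars false

namespace Cfsg.Agent.Lib.Helper51_StrEmb

variable {G : Type*} [Group G]

/-- conjugate of a subgroup, in the form used by the statements -/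
abbrev cj (g : G) (B : Subgroup G) : Subgroup G := B.map (MulAut.conj g).toMonoidHom

theorem mem_cj {g x : G} {B : Subgroup G} : x ∈ cj g B ↔ g⁻¹ * x * g ∈ B := by
  constructor
  · rintro ⟨b, hb, rfl⟩
    simpa [mul_assoc] using hb
  · intro h
    exact ⟨g⁻¹ * x * g, h, by simp [mul_assoc]⟩

theorem card_cj [Finite G] (g : G) (B : Subgroup G) : Nat.card (cj g B) = Nat.card B :=
  Subgroup.card_map_of_injective (MulAut.conj g).injective

/-- The "strong embedding" condition (third clause of the classical definition). -/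
def SE (p : ℕ) (H : Subgroup G) : Prop :=
  ∀ g : G, g ∉ H → ¬ p ∣ Nat.card ↥(H ⊓ H.map (MulAut.conj g).toMonoidHom)

variable [Finite G] {p : ℕ} [Fact p.Prime] {H : Subgroup G}

theorem dvd_card_of_pgroup_ne_bot {Q : Subgroup G} (hQ : IsPGroup p Q) (hQ1 : Q ≠ ⊥) :
    p ∣ Nat.card Q := by
  obtain ⟨n, hn⟩ := IsPGroup.iff_card.mp hQ
  rw [hn]
  rcases n with _ | n
  · exfalso
    apply hQ1
    apply Subgroup.eq_bot_of_card_eq
    simpa using hn
  · exact dvd_pow_self p (Nat.succ_ne_zero n)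

/-- The normalizer of a nontrivial `p`-subgroup of `H` lies in `H`. -/
theorem normalizer_le (hse : SE p H) {Q : Subgroup G} (hQ : IsPGroup p Q) (hQ1 : Q ≠ ⊥)
    (hQH : Q ≤ H) : Subgroup.normalizer (Q : Set G) ≤ H := by
  intro g hg
  by_contra hgH
  apply hse g hgH
  have hle : Q ≤ H ⊓ cj g H := by
    intro q hq
    refine Subgroup.mem_inf.mpr ⟨hQH hq, ?_⟩
    rw [mem_cj]
    rw [Subgroup.mem_normalizer_iff''] at hg
    exact hQH ((hg q).mp hq)
  exact (dvd_card_of_pgroup_ne_bot hQ hQ1).trans (Subgroup.card_dvd_of_le hle)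

/-- A `p`-subgroup containing a nontrivial `p`-subgroup of `H` lies in `H`. -/
theorem pgroup_le (hse : SE p H) {Q R : Subgroup G} (hR : IsPGroup p R) (hQ1 : Q ≠ ⊥)
    (hQR : Q ≤ R) (hQH : Q ≤ H) : R ≤ H := by
  by_contra hRH
  set Q' := R ⊓ H with hQ'
  have hQ'R : Q' ≤ R := inf_le_left
  have hQ'p : IsPGroup p Q' := hR.to_le hQ'R
  have hQ'1 : Q' ≠ ⊥ := by
    intro h
    apply hQ1
    have : Q ≤ Q' := le_inf hQR hQH
    rw [h] at this
    exact le_bot_iff.mp this
  have hnil : Group.IsNilpotent ↥R := hR.isNilpotent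
  have nc : NormalizerCondition ↥R := Group.normalizerCondition_of_isNilpotent
  have hlt : Q'.subgroupOf R < ⊤ := by
    rw [lt_top_iff_ne_top]
    intro h
    rw [Subgroup.subgroupOf_eq_top] at h
    exact hRH (h.trans inf_le_right)
  have h2 := nc _ hlt
  rw [← Subgroup.subgroupOf_normalizer_eq hQ'R] at h2
  obtain ⟨x, hx1, hx2⟩ := SetLike.exists_of_lt h2
  rw [Subgroup.mem_subgroupOf] at hx1 hx2
  have hxH : (x : G) ∈ H := normalizer_le hse hQ'p hQ'1 inf_le_right hx1
  exact hx2 ⟨x.2, hxH⟩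

/-- `H` contains a Sylow `p`-subgroup of `G`. -/
theorem exists_sylow_le (hse : SE p H) (hpH : p ∣ Nat.card H) :
    ∃ S : Sylow p G, (S : Subgroup G) ≤ H := by
  obtain ⟨x, hx⟩ := exists_prime_orderOf_dvd_card' (G := ↥H) p hpH
  have hx' : orderOf (x : G) = p := by rw [Subgroup.orderOf_coe]; exact hx
  have hQ : IsPGroup p (Subgroup.zpowers (x : G)) := by
    apply IsPGroup.of_card (n := 1)
    rw [Nat.card_zpowers, hx', pow_one]
  have hQ1 : Subgroup.zpowers (x : G) ≠ ⊥ := by
    intro h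
    rw [Subgroup.zpowers_eq_bot] at h
    rw [h, orderOf_one] at hx'
    exact (Fact.out : p.Prime).one_lt.ne hx'
  obtain ⟨S, hS⟩ := hQ.exists_le_sylow
  refine ⟨S, pgroup_le hse S.isPGroup' hQ1 hS ?_⟩
  rw [Subgroup.zpowers_le]
  exact x.2

end Cfsg.Agent.Lib.Helper51_StrEmb
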