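import Mathlib
import Cfsg.Prelude.Def_Local
import Cfsg.Prelude.Def_SylowChains
import Cfsg.Prelude.Def_Transfer
import Cfsg.Agent.Lib.Helper23_Layer
import Cfsg.Agent.Lib.Helper23_PConstrained
import Cfsg.Agent.Lib.Helper49_CharP
import Cfsg.Agent.Lib.Helper47_Quot
import Cfsg.Agent.Lib.Helper47_WeaklyClosed
import Cfsg.Agent.Lib.Helper33_Conj
import Cfsg.Agent.Lib.Helper33_Alperin
import Cfsg.Agent.Lib.Helper31_AG
import Cfsg.Agent.Lib.Helper32_Sylow
import Cfsg.Agent.Lib.Helper51_StrEmb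
import Cfsg.Agent.S3056
import Cfsg.Agent.S3058

/-!
# Local lemmas for the strong form of the Alperin–Goldschmidt theorem (helper50)

* transport of `O_{p',p}`, `O^p` and chain-connectedness of the Sylow graph along isomorphisms;
* a chain-connected group is generated by the normalizers of the nontrivial subgroups of a Sylow
  subgroup (also relative to a normal `p`-subgroup);
* if the Sylow graph of `Y / D` is disconnected there is a least normal subgroup `X ≥ D` with
  `p ∣ |X : D|`, and `Y = O^p(X) (S ∩ X) N_Y(S ∩ X)`.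
-/

set_option autoImplicit false
set_option linter.unusedSectionVars false

namespace Cfsg.Agent.Lib.Helper50_AGLocal

open Cfsg Cfsg.Agent.Lib.Helper33_Conj Cfsg.Agent.Lib.Helper33_Alperin

/-! ### Transport along isomorphisms -/

section transport

variable {A B : Type*} [Group A] [Group B]

theorem mem_pPrimePCore_of_equiv [Finite A] (p : ℕ) [Fact p.Prime] (e : A ≃* B) {x : A}
    (hx : x ∈ pPrimePCore p A) : e x ∈ pPrimePCore p B := by
  rw [Cfsg.Agent.Lib.Helper23_PConstrained.mem_pPrimePCore_iff] at hx ⊢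
  rw [← Cfsg.Agent.Lib.Helper23_Layer.quotEquiv_mk p e x]
  exact (Cfsg.Agent.Lib.Helper49_CharP.map_pCore_mulEquiv_le
    (Cfsg.Agent.Lib.Helper23_Layer.quotEquiv p e)) ⟨_, hx, rfl⟩

theorem pPrimePCore_map_equiv [Finite A] (p : ℕ) [Fact p.Prime] (e : A ≃* B) :
    (pPrimePCore p A).map e.toMonoidHom = pPrimePCore p B := by
  have : Finite B := Finite.of_equiv A e.toEquiv
  apply le_antisymm
  · rintro _ ⟨x, hx, rfl⟩
    exact mem_pPrimePCore_of_equiv p e hx
  · intro y hy
    refine ⟨e.symm y, mem_pPrimePCore_of_equiv p e.symm hy, ?_⟩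
    simp

theorem pResidual_map_equiv (p : ℕ) (e : A ≃* B) :
    (pResidual p A).map e.toMonoidHom = pResidual p B := by
  apply le_antisymm (Cfsg.Agent.Lib.Helper47_Quot.map_pResidual_le _)
  intro y hy
  have := Cfsg.Agent.Lib.Helper47_Quot.map_pResidual_le (p := p) e.symm.toMonoidHom
    ⟨y, hy, rfl⟩
  exact ⟨e.symm y, this, by simp⟩

theorem not_chainConnected_of_equiv [Finite A] [Finite B] (p : ℕ) [Fact p.Prime] (e : A ≃* B)
    (h : ¬ IsSylowChainConnected p A) : ¬ IsSylowChainConnected p B := by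
  rw [Cfsg.Agent.S3056.result] at h ⊢
  obtain ⟨H, hne, hdvd, hse⟩ := h
  refine ⟨H.map e.toMonoidHom, ?_, ?_, ?_⟩
  · intro htop
    apply hne
    have := congrArg (Subgroup.comap e.toMonoidHom) htop
    rwa [Subgroup.comap_map_eq_self_of_injective e.injective, Subgroup.comap_top] at this
  · rwa [Subgroup.card_map_of_injective e.injective]
  · intro g' hg' hdiv
    apply hse (e.symm g')
    · intro hmem
      apply hg'
      exact ⟨e.symm g', hmem, by simp⟩
    · have hcomm : (H.map (MulAut.conj (e.symm g')).toMonoidHom).map e.toMonoidHom =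
          (H.map e.toMonoidHom).map (MulAut.conj g').toMonoidHom := by
        rw [Subgroup.map_map, Subgroup.map_map]
        congr 1
        ext x
        simp
      have heq : (H ⊓ H.map (MulAut.conj (e.symm g')).toMonoidHom).map e.toMonoidHom =
          H.map e.toMonoidHom ⊓ (H.map e.toMonoidHom).map (MulAut.conj g').toMonoidHom := by
        rw [Subgroup.map_inf _ _ _ e.injective, hcomm]
      rw [← heq, Subgroup.card_map_of_injective e.injective] at hdiv
      exact hdiv

end transport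

/-! ### Generation by normalizers in the chain-connected case -/

section generation

variable {Y : Type*} [Group Y] [Finite Y] {p : ℕ} [Fact p.Prime]

/-- A subgroup containing the normalizers of all nontrivial subgroups of `S` controls fusion of
nontrivial subgroups of `S`. -/
theorem control_of_normalizers (S : Sylow p Y) (M : Subgroup Y)
    (hM : ∀ R : Subgroup Y, R ≠ ⊥ → R ≤ (S : Subgroup Y) → Subgroup.normalizer (R : Set Y) ≤ M)
    (Q : Subgroup Y) (hQS : Q ≤ (S : Subgroup Y)) (hQ1 : Q ≠ ⊥) (h : Y)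
    (hh : cj h Q ≤ (S : Subgroup Y)) : h ∈ M := by
  have key := alperin S Set.univ
    (fun T hT => by
      obtain ⟨g, hg1, hg2⟩ := Cfsg.Agent.Lib.Helper31_AG.exists_fully_normalized S T hT
      exact ⟨_, Set.mem_univ _, hg1, ⟨g, rfl⟩, hg2⟩)
    (fun A g => (∃ a ∈ A, a ≠ 1) → g ∈ M)
    ⟨fun A A' g hR hsub ⟨a, ha, ha1⟩ => hR ⟨a, hsub ha, ha1⟩,
     fun A g k hR1 hR2 hA => by
       obtain ⟨a, ha, ha1⟩ := hA
       have hg := hR1 ⟨a, ha, ha1⟩
       have hk := hR2 ⟨g * a * g⁻¹, conj_mem_cjs ha, by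
         intro h1
         apply ha1
         have : a = g⁻¹ * (g * a * g⁻¹) * g := by group
         rw [this, h1]; group⟩
       exact M.mul_mem hk hg,
     fun A g hR hA => by
       obtain ⟨b, hb, hb1⟩ := hA
       rw [mem_cjs] at hb
       apply M.inv_mem
       apply hR ⟨_, hb, ?_⟩
       intro h1
       apply hb1
       have : b = g * (g⁻¹ * b * g) * g⁻¹ := by group
       rw [this, h1]; group⟩
    (fun U _ hUS _ _ m hm hU => by
      obtain ⟨a, ha, ha1⟩ := hU
      apply hM U _ hUS hm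
      intro hbot
      rw [hbot] at ha
      exact ha1 (Subgroup.mem_bot.mp ha))
    Q hQS h hh
  apply key
  by_contra hcon
  apply hQ1
  rw [Subgroup.eq_bot_iff_forall]
  intro x hx
  by_contra hx1
  exact hcon ⟨x, hx, hx1⟩

/-- If the Sylow graph is connected, a subgroup containing the normalizers of all nontrivial
subgroups of a (nontrivial) Sylow subgroup is the whole group. -/
theorem eq_top_of_connected (S : Sylow p Y) (hS : (S : Subgroup Y) ≠ ⊥)
    (hconn : IsSylowChainConnected p Y) (M : Subgroup Y)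
    (hM : ∀ R : Subgroup Y, R ≠ ⊥ → R ≤ (S : Subgroup Y) → Subgroup.normalizer (R : Set Y) ≤ M) :
    M = ⊤ := by
  by_contra hne
  have hSM : (S : Subgroup Y) ≤ M := Subgroup.le_normalizer.trans (hM _ hS le_rfl)
  have hpS : p ∣ Nat.card (S : Subgroup Y) :=
    Cfsg.Agent.Lib.Helper51_StrEmb.dvd_card_of_pgroup_ne_bot S.2 hS
  have hpM : p ∣ Nat.card M := hpS.trans (Subgroup.card_dvd_of_le hSM)
  have hidx : ¬ p ∣ (S : Subgroup Y).relIndex M := fun h =>
    S.not_dvd_index (h.trans (Subgroup.relIndex_dvd_index_of_le hSM))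
  refine (Cfsg.Agent.S3056.result (G := Y) p).mpr ⟨M, hne, hpM, ?_⟩ hconn
  intro g hg hdiv
  apply hg
  -- an element of order `p` in the intersection
  obtain ⟨x, hx⟩ := exists_prime_orderOf_dvd_card' (G := ↥(M ⊓ M.map (MulAut.conj g).toMonoidHom)) p hdiv
  have hx' : orderOf (x : Y) = p := by rw [Subgroup.orderOf_coe]; exact hx
  set T : Subgroup Y := Subgroup.zpowers (x : Y) with hT
  have hTp : IsPGroup p T := by
    apply IsPGroup.of_card (n := 1)
    rw [Nat.card_zpowers, hx', pow_one]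
  have hT1 : T ≠ ⊥ := by
    intro h
    rw [Subgroup.zpowers_eq_bot] at h
    rw [h, orderOf_one] at hx'
    exact (Fact.out : p.Prime).one_lt.ne hx'
  have hTM : T ≤ M := by
    rw [Subgroup.zpowers_le]
    exact (Subgroup.mem_inf.mp x.2).1
  have hTM' : T ≤ cj g M := by
    rw [Subgroup.zpowers_le]
    exact (Subgroup.mem_inf.mp x.2).2
  have hTM'' : cj g⁻¹ T ≤ M := by
    have := cj_mono (g := g⁻¹) hTM'
    rwa [cj_inv_cj] at this
  obtain ⟨m, hm, hmT⟩ := exists_cj_le_of_relIndex (p := p) hSM S.2 hidx hTM hTp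
  obtain ⟨m', hm', hmT'⟩ := exists_cj_le_of_relIndex (p := p) hSM S.2 hidx hTM'' (isPGroup_cj hTp)
  have hT1' : cj m T ≠ ⊥ := by
    intro h
    apply hT1
    have := congrArg (cj m⁻¹) h
    rw [cj_inv_cj] at this
    rw [this]
    exact Subgroup.map_bot _
  have hh : cj (m' * g⁻¹ * m⁻¹) (cj m T) ≤ (S : Subgroup Y) := by
    rw [cj_mul, cj_mul, cj_inv_cj]
    exact hmT'
  have := control_of_normalizers S M hM (cj m T) hmT hT1' _ hh
  have h2 : g⁻¹ = m'⁻¹ * (m' * g⁻¹ * m⁻¹) * m := by group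
  have h3 : g⁻¹ ∈ M := by
    rw [h2]
    exact M.mul_mem (M.mul_mem (M.inv_mem hm') this) hm
  simpa using M.inv_mem h3

/-- Relative version: `Y / D` chain-connected, `D < S`. -/
theorem eq_top_of_connected_quot (S : Sylow p Y) (D : Subgroup Y) [D.Normal]
    (hDS : D < (S : Subgroup Y)) (hconn : IsSylowChainConnected p (Y ⧸ D)) (M : Subgroup Y)
    (hM : ∀ R : Subgroup Y, D < R → R ≤ (S : Subgroup Y) → Subgroup.normalizer (R : Set Y) ≤ M) :
    M = ⊤ := by
  have hsurj := QuotientGroup.mk'_surjective D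
  have hDM : D ≤ M := hDS.le.trans (Subgroup.le_normalizer.trans (hM _ hDS le_rfl))
  set Sbar : Sylow p (Y ⧸ D) := S.mapSurjective hsurj with hSbar
  have hSbar_coe : (Sbar : Subgroup (Y ⧸ D)) = (S : Subgroup Y).map (QuotientGroup.mk' D) := rfl
  have hcomapS : (Sbar : Subgroup (Y ⧸ D)).comap (QuotientGroup.mk' D) = (S : Subgroup Y) := by
    rw [hSbar_coe, Subgroup.comap_map_eq, QuotientGroup.ker_mk', sup_eq_left]
    exact hDS.le
  have hS1 : (Sbar : Subgroup (Y ⧸ D)) ≠ ⊥ := by
    intro h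
    obtain ⟨s, hs, hsD⟩ := SetLike.exists_of_lt hDS
    apply hsD
    have h1 : QuotientGroup.mk' D s ∈ (Sbar : Subgroup (Y ⧸ D)) := by
      rw [hSbar_coe]; exact Subgroup.mem_map_of_mem _ hs
    rw [h, Subgroup.mem_bot] at h1
    exact (QuotientGroup.eq_one_iff s).mp h1
  have htop : M.map (QuotientGroup.mk' D) = ⊤ := by
    apply eq_top_of_connected Sbar hS1 hconn
    intro Rb hRb1 hRbS k hk
    obtain ⟨n, rfl⟩ := hsurj k
    refine Subgroup.mem_map_of_mem _ ?_
    set R : Subgroup Y := Rb.comap (QuotientGroup.mk' D) with hR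
    have hDR : D ≤ R := by
      intro d hd
      rw [hR, Subgroup.mem_comap]
      have : QuotientGroup.mk' D d = 1 := (QuotientGroup.eq_one_iff d).mpr hd
      rw [this]; exact Subgroup.one_mem _
    have hDR' : D < R := by
      refine lt_of_le_of_ne hDR ?_
      intro heq
      apply hRb1
      have h1 : R.map (QuotientGroup.mk' D) = Rb := Subgroup.map_comap_eq_self_of_surjective hsurj Rb
      rw [← h1, ← heq, QuotientGroup.map_mk'_self]
    have hRS : R ≤ (S : Subgroup Y) := by
      rw [← hcomapS]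
      exact Subgroup.comap_mono hRbS
    apply hM R hDR' hRS
    exact Subgroup.le_normalizer_comap (QuotientGroup.mk' D) (Subgroup.mem_comap.mpr hk)
  have h2 := congrArg (Subgroup.comap (QuotientGroup.mk' D)) htop
  rw [Subgroup.comap_map_eq, QuotientGroup.ker_mk', sup_eq_left.mpr hDM, Subgroup.comap_top] at h2
  exact h2

end generation

/-! ### The least normal subgroup of order divisible by `p` over `D` -/

section minimal

variable {Y : Type*} [Group Y] [Finite Y] {p : ℕ} [Fact p.Prime]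

/-- `|Z : D|` is the order of the image of `Z` in `Y / D`. -/
theorem relIndex_eq_card_map (D Z : Subgroup Y) [D.Normal] :
    D.relIndex Z = Nat.card (Z.map (QuotientGroup.mk' D)) := by
  have h1 : D.relIndex Z = ((⊥ : Subgroup (Y ⧸ D)).comap (QuotientGroup.mk' D)).relIndex Z := by
    rw [MonoidHom.comap_bot, QuotientGroup.ker_mk']
  rw [h1, Subgroup.relIndex_comap, Subgroup.relIndex_bot_left]

theorem map_mk_ne_bot {D S : Subgroup Y} [D.Normal] (hDS : D < S) :
    S.map (QuotientGroup.mk' D) ≠ ⊥ := by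
  intro h
  obtain ⟨s, hs, hsD⟩ := SetLike.exists_of_lt hDS
  apply hsD
  have h1 : QuotientGroup.mk' D s ∈ S.map (QuotientGroup.mk' D) := Subgroup.mem_map_of_mem _ hs
  rw [h, Subgroup.mem_bot] at h1
  exact (QuotientGroup.eq_one_iff s).mp h1

theorem exists_min_normal (S : Sylow p Y) (D : Subgroup Y) [D.Normal]
    (hDS : D < (S : Subgroup Y)) (hconn : ¬ IsSylowChainConnected p (Y ⧸ D)) :
    ∃ X : Subgroup Y, X.Normal ∧ D ≤ X ∧ p ∣ D.relIndex X ∧
      ∀ Z : Subgroup Y, Z.Normal → D ≤ Z → p ∣ D.relIndex Z → X ≤ Z := by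
  classical
  have hsurj := QuotientGroup.mk'_surjective D
  have hpS : p ∣ Nat.card ((S : Subgroup Y).map (QuotientGroup.mk' D)) :=
    Cfsg.Agent.Lib.Helper51_StrEmb.dvd_card_of_pgroup_ne_bot (S.2.map _) (map_mk_ne_bot hDS)
  have htop : p ∣ Nat.card (⊤ : Subgroup (Y ⧸ D)) := hpS.trans (Subgroup.card_dvd_of_le le_top)
  have hne : ∃ n, ∃ Xb : Subgroup (Y ⧸ D), Xb.Normal ∧ p ∣ Nat.card Xb ∧ Nat.card Xb = n :=
    ⟨_, ⊤, inferInstance, htop, rfl⟩
  obtain ⟨Xb, hXn, hXp, hXc⟩ := Nat.find_spec hne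
  have hmin : ∀ Zb : Subgroup (Y ⧸ D), Zb.Normal → p ∣ Nat.card Zb → Xb ≤ Zb := by
    intro Zb hZn hZp
    have h1 : p ∣ Nat.card ↥(Xb ⊓ Zb) := Cfsg.Agent.S3058.result p hconn Xb Zb hXp hZp
    have h2 : (Xb ⊓ Zb).Normal := inferInstance
    have h3 : ¬ Nat.card ↥(Xb ⊓ Zb) < Nat.find hne := fun hlt =>
      Nat.find_min hne hlt ⟨Xb ⊓ Zb, h2, h1, rfl⟩
    have h4 : Xb ⊓ Zb = Xb := by
      apply Subgroup.eq_of_le_of_card_ge inf_le_left
      rw [hXc]
      exact not_lt.mp h3
    rw [← h4]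
    exact inf_le_right
  refine ⟨Xb.comap (QuotientGroup.mk' D), inferInstance, ?_, ?_, ?_⟩
  · intro d hd
    rw [Subgroup.mem_comap]
    have : QuotientGroup.mk' D d = 1 := (QuotientGroup.eq_one_iff d).mpr hd
    rw [this]; exact Subgroup.one_mem _
  · rw [relIndex_eq_card_map, Subgroup.map_comap_eq_self_of_surjective hsurj]
    exact hXp
  · intro Z hZn hDZ hZp
    rw [relIndex_eq_card_map] at hZp
    have h1 := hmin (Z.map (QuotientGroup.mk' D)) (hZn.map _ hsurj) hZp
    have h2 := Subgroup.comap_mono (f := QuotientGroup.mk' D) h1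
    rwa [Subgroup.comap_map_eq, QuotientGroup.ker_mk', sup_eq_left.mpr hDZ] at h2

/-- Frattini factorization relative to a normal subgroup `X` with `p ∣ |X : D|`. -/
theorem factor_of_normal (S : Sylow p Y) (D X : Subgroup Y) [X.Normal] (hDX : D ≤ X)
    (hDS : D ≤ (S : Subgroup Y)) (hp : p ∣ D.relIndex X) :
    D < (S : Subgroup Y) ⊓ X ∧
    ∀ m : Y, ∃ a ∈ (pResidual p ↥X).map X.subtype, ∃ s ∈ (S : Subgroup Y) ⊓ X,
      ∃ n ∈ Subgroup.normalizer ((((S : Subgroup Y) ⊓ X : Subgroup Y)) : Set Y), m = a * s * n := by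
  constructor
  · refine lt_of_le_of_ne (le_inf hDS hDX) ?_
    intro h
    apply Cfsg.Agent.Lib.Helper32_Sylow.not_dvd_relIndex_inf_normal S X
    rw [← h]
    exact hp
  · intro m
    obtain ⟨c, hc, n, hn, rfl⟩ := Cfsg.Agent.Lib.Helper32_Sylow.frattini_inf S X m
    have hsup := Cfsg.Agent.Lib.Helper47_WeaklyClosed.map_pResidual_sup_map_sylow (p := p) X
      (Cfsg.Agent.Lib.Helper32_Sylow.sylowInfNormal S X)
    rw [Cfsg.Agent.Lib.Helper32_Sylow.map_sylowInfNormal] at hsup
    have hnorm : ((pResidual p ↥X).map X.subtype).Normal :=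
      Cfsg.Agent.Lib.Helper47_WeaklyClosed.map_subtype_pResidual_normal X
    rw [← hsup, ← SetLike.mem_coe, Subgroup.normal_mul, Set.mem_mul] at hc
    obtain ⟨a, ha, s, hs, rfl⟩ := hc
    exact ⟨a, ha, s, hs, n, hn, rfl⟩

end minimal

end Cfsg.Agent.Lib.Helper50_AGLocal
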