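import Mathlib
import Cfsg.Prelude.Def_Local
import Cfsg.Prelude.Def_SylowChains
import Cfsg.Prelude.Def_Transfer
import Cfsg.Agent.Lib.Helper33_Conj
import Cfsg.Agent.Lib.Helper33_Alperin
import Cfsg.Agent.Lib.Helper50_AGLocal

/-!
# Explained conjugations for the strong form of the Alperin–Goldschmidt theorem (helper50)

Right conjugation `a ↦ w⁻¹ a w` on a set `A` is *explained* when `w` is a product of elements of
`C_G(A)`, of `N_G(P)` and of steps `x ∈ O^p(X_H)` for good subgroups `H` containing the current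
conjugate of `A`.  Every explained conjugation has the normal form `c · x₁ ⋯ xₙ · y`.
-/

set_option autoImplicit false
set_option linter.unusedSectionVars false

namespace Cfsg.Agent.Lib.Helper50_AGExpl

open Cfsg Cfsg.Agent.Lib.Helper33_Conj Cfsg.Agent.Lib.Helper33_Alperin
open Cfsg.Agent.Lib.Helper50_AGLocal

variable {G : Type*} [Group G]

/-! ### right conjugates of sets -/

/-- right conjugate of a set: `w⁻¹ A w` -/
def rc (w : G) (A : Set G) : Set G := cjs w⁻¹ A

theorem mem_rc {w x : G} {A : Set G} : x ∈ rc w A ↔ w * x * w⁻¹ ∈ A := by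
  unfold rc
  rw [mem_cjs, inv_inv]

theorem rc_eq_image (w : G) (A : Set G) : rc w A = (fun a => w⁻¹ * a * w) '' A := by
  show (fun a => w⁻¹ * a * w⁻¹⁻¹) '' A = _
  rw [inv_inv]

theorem rc_one (A : Set G) : rc 1 A = A := by
  unfold rc; rw [inv_one, cjs_one]

theorem rc_mul (w v : G) (A : Set G) : rc (w * v) A = rc v (rc w A) := by
  unfold rc; rw [mul_inv_rev, cjs_mul]

theorem rc_inv_rc (w : G) (A : Set G) : rc w⁻¹ (rc w A) = A := by
  rw [← rc_mul, mul_inv_cancel, rc_one]

theorem rc_rc_inv (w : G) (A : Set G) : rc w (rc w⁻¹ A) = A := by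
  rw [← rc_mul, inv_mul_cancel, rc_one]

theorem rc_mono {w : G} {A B : Set G} (h : A ⊆ B) : rc w A ⊆ rc w B := cjs_mono h

theorem rc_eq_self_of_mem_centralizer {c : G} {A : Set G} (hc : c ∈ Subgroup.centralizer A) :
    rc c A = A := by
  ext x
  rw [mem_rc]
  have key : ∀ a ∈ A, c * a * c⁻¹ = a := by
    intro a ha
    have := Subgroup.mem_centralizer_iff.mp hc a ha
    rw [← this, mul_inv_cancel_right]
  constructor
  · intro h
    have h2 := key _ h
    have h3 : c * (c * x * c⁻¹) * c⁻¹ = c * x * c⁻¹ := h2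
    have h4 : c * x * c⁻¹ = x := by
      have e1 : c⁻¹ * (c * (c * x * c⁻¹) * c⁻¹) * c = c * x * c⁻¹ := by group
      have e2 : c⁻¹ * (c * x * c⁻¹) * c = x := by group
      rw [← e1, h3, e2]
    rw [← h4]; exact h
  · intro h
    rw [key x h]; exact h

theorem rc_coe_eq_self_of_mem_normalizer {n : G} {H : Subgroup G}
    (hn : n ∈ Subgroup.normalizer (H : Set G)) : rc n (H : Set G) = (H : Set G) := by
  ext x
  rw [mem_rc, SetLike.mem_coe, SetLike.mem_coe]
  exact (Subgroup.mem_normalizer_iff.mp hn x).symm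

theorem rc_subset_of_mem_normalizer {n : G} {H : Subgroup G} {A : Set G}
    (hn : n ∈ Subgroup.normalizer (H : Set G)) (hA : A ⊆ (H : Set G)) : rc n A ⊆ (H : Set G) := by
  have := rc_mono (w := n) hA
  rwa [rc_coe_eq_self_of_mem_normalizer hn] at this

theorem conj_mem_centralizer_of_rc {u c : G} {A : Set G}
    (hc : c ∈ Subgroup.centralizer (rc u A)) : u * c * u⁻¹ ∈ Subgroup.centralizer A := by
  rw [Subgroup.mem_centralizer_iff] at hc ⊢
  intro a ha
  have h1 : u⁻¹ * a * u ∈ rc u A := by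
    rw [mem_rc]
    have : u * (u⁻¹ * a * u) * u⁻¹ = a := by group
    rw [this]; exact ha
  have h2 := hc _ h1
  calc a * (u * c * u⁻¹) = u * ((u⁻¹ * a * u) * c) * u⁻¹ := by group
    _ = u * (c * (u⁻¹ * a * u)) * u⁻¹ := by rw [h2]
    _ = u * c * u⁻¹ * a := by group

theorem cjs_eq_rc_inv (g : G) (A : Set G) : cjs g A = rc g⁻¹ A := by
  unfold rc; rw [inv_inv]

/-! ### conjugation isomorphisms between subgroups -/

theorem conj_mem_of_cj_eq {y : G} {N N' : Subgroup G} (h : cj y N = N') {n : G} (hn : n ∈ N) :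
    y * n * y⁻¹ ∈ N' := by
  subst h; exact conj_mem_cj hn

theorem conj_inv_mem_of_cj_eq {y : G} {N N' : Subgroup G} (h : cj y N = N') {n : G}
    (hn : n ∈ N') : y⁻¹ * n * y ∈ N := by
  subst h; exact mem_cj.mp hn

/-- conjugation by `y` as an isomorphism `N ≃* N'` when `N' = y N y⁻¹` -/
def cjEquiv (y : G) (N N' : Subgroup G) (h : cj y N = N') : ↥N ≃* ↥N' where
  toFun n := ⟨y * (n : G) * y⁻¹, conj_mem_of_cj_eq h n.2⟩
  invFun n := ⟨y⁻¹ * (n : G) * y, conj_inv_mem_of_cj_eq h n.2⟩
  left_inv n := Subtype.ext (by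
    show y⁻¹ * (y * (n : G) * y⁻¹) * y = n
    group)
  right_inv n := Subtype.ext (by
    show y * (y⁻¹ * (n : G) * y) * y⁻¹ = n
    group)
  map_mul' a b := Subtype.ext (by
    show y * ((a : G) * (b : G)) * y⁻¹ = (y * (a : G) * y⁻¹) * (y * (b : G) * y⁻¹)
    group)

theorem coe_cjEquiv (y : G) (N N' : Subgroup G) (h : cj y N = N') (n : ↥N) :
    ((cjEquiv y N N' h n : ↥N') : G) = y * (n : G) * y⁻¹ := rfl

theorem map_subgroupOf_cjEquiv (y : G) (N N' : Subgroup G) (h : cj y N = N') (K : Subgroup G) :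
    (K.subgroupOf N).map (cjEquiv y N N' h).toMonoidHom = (cj y K).subgroupOf N' := by
  ext n'
  rw [Subgroup.mem_subgroupOf]
  constructor
  · rintro ⟨n, hn, rfl⟩
    have hn2 : (n : G) ∈ K := Subgroup.mem_subgroupOf.mp hn
    exact conj_mem_cj hn2
  · intro hn'
    rw [mem_cj] at hn'
    refine ⟨(cjEquiv y N N' h).symm n', ?_, ?_⟩
    · exact Subgroup.mem_subgroupOf.mpr hn'
    · simp

theorem map_subtype_map_cjEquiv (y : G) (N N' : Subgroup G) (h : cj y N = N') (L : Subgroup ↥N) :
    (L.map (cjEquiv y N N' h).toMonoidHom).map N'.subtype = cj y (L.map N.subtype) := by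
  unfold cj
  rw [Subgroup.map_map, Subgroup.map_map]
  congr 1

theorem normal_cj_subgroupOf (y : G) (N N' : Subgroup G) (h : cj y N = N') (K : Subgroup G)
    (hn : (K.subgroupOf N).Normal) : ((cj y K).subgroupOf N').Normal := by
  rw [← map_subgroupOf_cjEquiv y N N' h K]
  exact hn.map _ (cjEquiv y N N' h).surjective

/-- `O^p(X)`, as a subgroup of `G`, is carried to `O^p(y X y⁻¹)`. -/
theorem conj_mem_pResidual {p : ℕ} {y x : G} {X : Subgroup G}
    (hx : x ∈ (pResidual p ↥X).map X.subtype) :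
    y * x * y⁻¹ ∈ (pResidual p ↥(cj y X)).map (cj y X).subtype := by
  have h1 := pResidual_map_equiv p (cjEquiv y X (cj y X) rfl)
  rw [← h1, map_subtype_map_cjEquiv]
  exact conj_mem_cj hx

/-! ### good subgroups -/

/-- The conditions of the statement on a pair `(H, X)`. -/
structure Good (p : ℕ) (P H X : Subgroup G) : Prop where
  le : H ≤ P
  fn : ¬ p ∣ (P ⊓ Subgroup.normalizer (H : Set G)).relIndex (Subgroup.normalizer (H : Set G))
  centric : P ⊓ Subgroup.centralizer (H : Set G) ≤ H
  core : (pPrimePCore p ↥(Subgroup.normalizer (H : Set G))).map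
      (Subgroup.normalizer (H : Set G)).subtype = H ⊔ Subgroup.centralizer (H : Set G)
  nconn : ¬ IsSylowChainConnected p
      (↥(Subgroup.normalizer (H : Set G)) ⧸ H.subgroupOf (Subgroup.normalizer (H : Set G)))
  hHX : H ≤ X
  hXN : X ≤ Subgroup.normalizer (H : Set G)
  normal : (X.subgroupOf (Subgroup.normalizer (H : Set G))).Normal
  dvd : p ∣ H.relIndex X
  least : ∀ Y : Subgroup G, H ≤ Y → Y ≤ Subgroup.normalizer (H : Set G) →
    (Y.subgroupOf (Subgroup.normalizer (H : Set G))).Normal → p ∣ H.relIndex Y → X ≤ Y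

theorem Good.conj [Finite G] {p : ℕ} [Fact p.Prime] {P H X : Subgroup G} (hg : Good p P H X)
    {y : G} (hy : y ∈ Subgroup.normalizer (P : Set G)) : Good p P (cj y H) (cj y X) := by
  have hPy : cj y P = P := mem_normalizer_iff_cj.mp hy
  have hN : cj y (Subgroup.normalizer (H : Set G)) =
      Subgroup.normalizer ((cj y H : Subgroup G) : Set G) := cj_normalizer y H
  have hN' : cj y⁻¹ (Subgroup.normalizer ((cj y H : Subgroup G) : Set G)) =
      Subgroup.normalizer (H : Set G) := by rw [← hN, cj_inv_cj]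
  have hinj : Function.Injective (MulAut.conj y).toMonoidHom := (MulAut.conj y).injective
  have hnH : (H.subgroupOf (Subgroup.normalizer (H : Set G))).Normal :=
    Subgroup.normal_in_normalizer
  have hnH' : ((cj y H).subgroupOf (Subgroup.normalizer ((cj y H : Subgroup G) : Set G))).Normal :=
    Subgroup.normal_in_normalizer
  refine ⟨?_, ?_, ?_, ?_, ?_, cj_mono hg.hHX, ?_, ?_, ?_, ?_⟩
  · rw [← hPy]; exact cj_mono hg.le
  · rw [← hN]
    have h1 : P ⊓ cj y (Subgroup.normalizer (H : Set G)) =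
        cj y (P ⊓ Subgroup.normalizer (H : Set G)) := by rw [cj_inf, hPy]
    rw [h1]
    unfold cj
    rw [Subgroup.relIndex_map_map_of_injective _ _ hinj]
    exact hg.fn
  · rw [← cj_centralizer]
    have h1 : P ⊓ cj y (Subgroup.centralizer (H : Set G)) =
        cj y (P ⊓ Subgroup.centralizer (H : Set G)) := by rw [cj_inf, hPy]
    rw [h1]
    exact cj_mono hg.centric
  · have h1 := pPrimePCore_map_equiv p (cjEquiv y _ _ hN)
    rw [← h1, map_subtype_map_cjEquiv, hg.core]
    unfold cj
    rw [Subgroup.map_sup]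
    congr 1
    exact cj_centralizer y H
  · have hmap := map_subgroupOf_cjEquiv y _ _ hN H
    exact not_chainConnected_of_equiv p
      (QuotientGroup.congr (H.subgroupOf (Subgroup.normalizer (H : Set G)))
        ((cj y H).subgroupOf (Subgroup.normalizer ((cj y H : Subgroup G) : Set G)))
        (cjEquiv y _ _ hN) hmap) hg.nconn
  · rw [← hN]; exact cj_mono hg.hXN
  · exact normal_cj_subgroupOf y _ _ hN X hg.normal
  · unfold cj
    rw [Subgroup.relIndex_map_map_of_injective _ _ hinj]
    exact hg.dvd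
  · intro Y hHY hYN hYn hYp
    have h1 : H ≤ cj y⁻¹ Y := cj_le_iff.mp hHY
    have h2 : cj y⁻¹ Y ≤ Subgroup.normalizer (H : Set G) := by
      rw [← hN']; exact cj_mono hYN
    have h3 := normal_cj_subgroupOf y⁻¹ _ _ hN' Y hYn
    have h4 : p ∣ H.relIndex (cj y⁻¹ Y) := by
      have e : H = cj y⁻¹ (cj y H) := (cj_inv_cj y H).symm
      rw [e]
      unfold cj
      rw [Subgroup.relIndex_map_map_of_injective _ _ (MulAut.conj y⁻¹).injective]
      exact hYp
    have h5 := hg.least _ h1 h2 h3 h4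
    exact cj_le_iff.mpr h5

/-! ### steps, chains, explained conjugations -/

/-- the data of one step -/
structure Step (G : Type*) [Group G] where
  H : Subgroup G
  X : Subgroup G
  x : G

def StepOK (p : ℕ) (P : Subgroup G) (s : Step G) : Prop :=
  Good p P s.H s.X ∧ s.x ∈ (pResidual p ↥s.X).map s.X.subtype

theorem StepOK.mem_normalizer {p : ℕ} {P : Subgroup G} {s : Step G} (hs : StepOK p P s) :
    s.x ∈ Subgroup.normalizer (s.H : Set G) :=
  hs.1.hXN (Subgroup.map_subtype_le _ hs.2)

/-- conjugate of a step -/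
def Step.conj (y : G) (s : Step G) : Step G := ⟨cj y s.H, cj y s.X, y * s.x * y⁻¹⟩

theorem StepOK.conj [Finite G] {p : ℕ} [Fact p.Prime] {P : Subgroup G} {s : Step G}
    (hs : StepOK p P s) {y : G} (hy : y ∈ Subgroup.normalizer (P : Set G)) :
    StepOK p P (s.conj y) :=
  ⟨hs.1.conj hy, conj_mem_pResidual hs.2⟩

/-- `A ⊆ H₁`, `A^{x₁} ⊆ H₂`, … -/
def Chain (p : ℕ) (P : Subgroup G) : List (Step G) → Set G → Prop
  | [], _ => True
  | s :: l, A => StepOK p P s ∧ A ⊆ (s.H : Set G) ∧ Chain p P l (rc s.x A)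

/-- the product of the elements of the steps -/
def prodx (l : List (Step G)) : G := (l.map Step.x).prod

theorem prodx_nil : prodx ([] : List (Step G)) = 1 := rfl

theorem prodx_cons (s : Step G) (l : List (Step G)) : prodx (s :: l) = s.x * prodx l := by
  unfold prodx; simp

theorem prodx_append (l₁ l₂ : List (Step G)) : prodx (l₁ ++ l₂) = prodx l₁ * prodx l₂ := by
  unfold prodx; simp

theorem prodx_map_conj (y : G) (l : List (Step G)) :
    prodx (l.map (Step.conj y)) = y * prodx l * y⁻¹ := by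
  induction l with
  | nil => simp [prodx_nil]
  | cons s l ih =>
    rw [List.map_cons, prodx_cons, prodx_cons, ih]
    show y * s.x * y⁻¹ * (y * prodx l * y⁻¹) = _
    group

theorem Chain.append {p : ℕ} {P : Subgroup G} {l₁ l₂ : List (Step G)} {A : Set G}
    (h₁ : Chain p P l₁ A) (h₂ : Chain p P l₂ (rc (prodx l₁) A)) : Chain p P (l₁ ++ l₂) A := by
  induction l₁ generalizing A with
  | nil =>
    rw [prodx_nil, rc_one] at h₂
    exact h₂
  | cons s l ih =>
    obtain ⟨hs, hA, hl⟩ := h₁
    refine ⟨hs, hA, ih hl ?_⟩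
    rw [prodx_cons, rc_mul] at h₂
    exact h₂

theorem Chain.conj [Finite G] {p : ℕ} [Fact p.Prime] {P : Subgroup G} {y : G}
    (hy : y ∈ Subgroup.normalizer (P : Set G)) {l : List (Step G)} {B : Set G}
    (h : Chain p P l (rc y B)) : Chain p P (l.map (Step.conj y)) B := by
  induction l generalizing B with
  | nil => trivial
  | cons s l ih =>
    obtain ⟨hs, hB, hl⟩ := h
    refine ⟨hs.conj hy, ?_, ih ?_⟩
    · intro b hb
      show b ∈ cj y s.H
      rw [mem_cj]
      apply hB
      rw [mem_rc]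
      have : y * (y⁻¹ * b * y) * y⁻¹ = b := by group
      rw [this]; exact hb
    · have e : rc y (rc (Step.conj y s).x B) = rc s.x (rc y B) := by
        rw [← rc_mul, ← rc_mul]
        congr 1
        show y * s.x * y⁻¹ * y = y * s.x
        group
      rw [e]; exact hl

/-- the normal form `w = c · x₁ ⋯ xₙ · y` -/
def NF (p : ℕ) (P : Subgroup G) (A : Set G) (w : G) : Prop :=
  ∃ c ∈ Subgroup.centralizer A, ∃ l : List (Step G), Chain p P l A ∧
    ∃ y ∈ Subgroup.normalizer (P : Set G), w = c * prodx l * y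

theorem NF.comp [Finite G] {p : ℕ} [Fact p.Prime] {P : Subgroup G} {A : Set G} {w v : G}
    (hw : NF p P A w) (hv : NF p P (rc w A) v) : NF p P A (w * v) := by
  obtain ⟨c, hc, l, hl, y, hy, rfl⟩ := hw
  obtain ⟨c', hc', l', hl', y', hy', rfl⟩ := hv
  have hrc : rc (c * prodx l * y) A = rc y (rc (prodx l) A) := by
    rw [rc_mul, rc_mul, rc_eq_self_of_mem_centralizer hc]
  rw [hrc] at hc' hl'
  have hc'' : prodx l * y * c' * (prodx l * y)⁻¹ ∈ Subgroup.centralizer A := by
    apply conj_mem_centralizer_of_rc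
    rw [rc_mul]
    exact hc'
  refine ⟨c * (prodx l * y * c' * (prodx l * y)⁻¹), Subgroup.mul_mem _ hc hc'',
    l ++ l'.map (Step.conj y), hl.append (Chain.conj hy hl'), y * y',
    Subgroup.mul_mem _ hy hy', ?_⟩
  rw [prodx_append, prodx_map_conj]
  group

/-- explained right conjugations -/
inductive Expl (p : ℕ) (P : Subgroup G) : Set G → G → Prop
  | cent {A : Set G} {c : G} : c ∈ Subgroup.centralizer A → Expl p P A c
  | norm {A : Set G} {y : G} : y ∈ Subgroup.normalizer (P : Set G) → Expl p P A y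
  | step {A : Set G} {s : Step G} : StepOK p P s → A ⊆ (s.H : Set G) → Expl p P A s.x
  | comp {A : Set G} {w v : G} : Expl p P A w → Expl p P (rc w A) v → Expl p P A (w * v)

theorem Expl.restrict {p : ℕ} {P : Subgroup G} {A A' : Set G} {w : G} (h : Expl p P A w)
    (hA : A' ⊆ A) : Expl p P A' w := by
  induction h generalizing A' with
  | cent hc => exact Expl.cent (Subgroup.centralizer_le hA hc)
  | norm hy => exact Expl.norm hy
  | step hs hH => exact Expl.step hs (hA.trans hH)
  | comp _ _ ih1 ih2 => exact Expl.comp (ih1 hA) (ih2 (rc_mono hA))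

theorem Expl.symm {p : ℕ} {P : Subgroup G} {A : Set G} {w : G} (h : Expl p P A w) :
    Expl p P (rc w A) w⁻¹ := by
  induction h with
  | cent hc =>
    rw [rc_eq_self_of_mem_centralizer hc]
    exact Expl.cent (Subgroup.inv_mem _ hc)
  | norm hy => exact Expl.norm (Subgroup.inv_mem _ hy)
  | @step A s hs hH =>
    have hs' : StepOK p P ⟨s.H, s.X, s.x⁻¹⟩ := ⟨hs.1, Subgroup.inv_mem _ hs.2⟩
    exact Expl.step (s := ⟨s.H, s.X, s.x⁻¹⟩) hs' (rc_subset_of_mem_normalizer hs.mem_normalizer hH)
  | @comp A w v _ _ ih1 ih2 =>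
    rw [mul_inv_rev, rc_mul]
    refine Expl.comp ih2 ?_
    rw [rc_inv_rc]
    exact ih1

theorem Expl.nf [Finite G] {p : ℕ} [Fact p.Prime] {P : Subgroup G} {A : Set G} {w : G}
    (h : Expl p P A w) : NF p P A w := by
  induction h with
  | @cent A c hc =>
    exact ⟨c, hc, [], trivial, 1, Subgroup.one_mem _, by simp [prodx_nil]⟩
  | @norm A y hy =>
    exact ⟨1, Subgroup.one_mem _, [], trivial, y, hy, by simp [prodx_nil]⟩
  | @step A s hs hH =>
    refine ⟨1, Subgroup.one_mem _, [s], ⟨hs, hH, trivial⟩, 1, Subgroup.one_mem _, ?_⟩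
    simp [prodx_cons, prodx_nil]
  | comp _ _ ih1 ih2 => exact ih1.comp ih2

/-- index form of a chain -/
theorem Chain.get {p : ℕ} {P : Subgroup G} {l : List (Step G)} {A : Set G} (h : Chain p P l A)
    (i : Fin l.length) :
    StepOK p P (l.get i) ∧ rc (((l.map Step.x).take i.val).prod) A ⊆ ((l.get i).H : Set G) := by
  induction l generalizing A with
  | nil => exact i.elim0
  | cons s l ih =>
    obtain ⟨hs, hA, hl⟩ := h
    obtain ⟨i, hi⟩ := i
    cases i with
    | zero =>
      refine ⟨hs, ?_⟩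
      simp only [List.take_zero, List.prod_nil, rc_one]
      exact hA
    | succ j =>
      have hj : j < l.length := by simpa using hi
      obtain ⟨h1, h2⟩ := ih hl ⟨j, hj⟩
      refine ⟨h1, ?_⟩
      simp only [List.map_cons, List.take_succ_cons, List.prod_cons, rc_mul]
      exact h2

end Cfsg.Agent.Lib.Helper50_AGExpl
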