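import Cfsg.Agent.Lib.Helper1_CRLeast
import Cfsg.Agent.Lib.Helper1_Cores
import Cfsg.Agent.S3072

/-!
# The Alperin–Goldschmidt input for the least centric radical subgroup (helper1)

The subgroups `H` produced by the strong Alperin–Goldschmidt theorem (S3072) satisfy
`C_P(H) ≤ H` and `O_{p',p}(N_G(H)) = H C_G(H)`, hence are `RC`; so `AGform` holds.
-/

set_option autoImplicit false

namespace Cfsg.Agent.Lib.Helper1_CRAG

open Subgroup Cfsg Cfsg.Agent.Lib.Helper1_CRBasic Cfsg.Agent.Lib.Helper1_CRLeast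
  Cfsg.Agent.Lib.Helper1_Cores

variable {G : Type*} [Group G]

/-- `O_{p',p}(N_G(H)) = H C_G(H)` and `C_P(H) ≤ H` give `RC`. -/
theorem RC_of_pPrimePCore [Finite G] {p : ℕ} [Fact p.Prime] {P H : Subgroup G} (hHP : H ≤ P)
    (hcent : P ⊓ centralizer (H : Set G) ≤ H)
    (hO : (Cfsg.pPrimePCore p ↥(normalizer (H : Set G))).map (normalizer (H : Set G)).subtype =
      H ⊔ centralizer (H : Set G)) : RC p P H := by
  refine ⟨hHP, hcent, ?_⟩
  intro Y hYN hYinv hYpow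
  set N : Subgroup G := normalizer (H : Set G) with hN
  set O : Subgroup ↥N := Cfsg.pPrimePCore p ↥N with hOdef
  have hOn : O.Normal := by
    rw [hOdef]; unfold Cfsg.pPrimePCore
    exact (pCore_normal (G := ↥N ⧸ Cfsg.pPrimeCore p ↥N) p).comap _
  set Y' : Subgroup ↥N := Y.subgroupOf N with hY'
  have hY'n : Y'.Normal := by
    refine ⟨fun y hy n => ?_⟩
    rw [hY', mem_subgroupOf] at hy ⊢
    have := hYinv (n : G) n.2
    rw [map_conj_le_iff] at this
    simpa using this _ hy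
  have hY'pow : PPowMod p Y' O := by
    intro y hy
    rw [hY', mem_subgroupOf] at hy
    obtain ⟨n, hn⟩ := hYpow _ hy
    refine ⟨n, ?_⟩
    rw [← hO] at hn
    obtain ⟨o, ho, e⟩ := hn
    have : y ^ p ^ n = o := by
      apply Subtype.ext
      rw [Subgroup.coe_pow]
      exact e.symm
    rw [this]; exact ho
  have hWpow : PPowMod p (Y' ⊔ O) O :=
    hY'pow.sup (by rw [normalizer_eq_top O]; exact le_top) le_rfl
  have hWn : (Y' ⊔ O).Normal := inferInstance
  set q := QuotientGroup.mk' (Cfsg.pPrimeCore p ↥N) with hq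
  have hmapn : ((Y' ⊔ O).map q).Normal := hWn.map q (QuotientGroup.mk'_surjective _)
  have hmapp : IsPGroup p ((Y' ⊔ O).map q) := by
    rintro ⟨_, w, hw, rfl⟩
    obtain ⟨n, hn⟩ := hWpow w hw
    have h1 : q (w ^ p ^ n) ∈ Cfsg.pCore p (↥N ⧸ Cfsg.pPrimeCore p ↥N) := by
      rw [hOdef] at hn
      unfold Cfsg.pPrimePCore at hn
      exact mem_comap.mp hn
    obtain ⟨m, hm⟩ := (pCore_isPGroup p) ⟨_, h1⟩
    refine ⟨n + m, ?_⟩
    apply Subtype.ext
    have hm' : q (w ^ p ^ n) ^ p ^ m = 1 := congrArg Subtype.val hm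
    show (q w) ^ p ^ (n + m) = 1
    rw [pow_add, pow_mul, ← map_pow]
    exact hm'
  have hle : (Y' ⊔ O).map q ≤ Cfsg.pCore p (↥N ⧸ Cfsg.pPrimeCore p ↥N) := le_pCore hmapn hmapp
  have hWO : Y' ⊔ O ≤ O := by
    rw [map_le_iff_le_comap] at hle
    rw [hOdef]; unfold Cfsg.pPrimePCore
    exact hle
  intro y hy
  have h1 : (⟨y, hYN hy⟩ : ↥N) ∈ O :=
    hWO ((le_sup_left : Y' ≤ Y' ⊔ O) (by rw [hY', mem_subgroupOf]; exact hy))
  rw [← hO]
  exact ⟨⟨y, hYN hy⟩, h1, rfl⟩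

/-- the Alperin–Goldschmidt hypothesis, from S3072 -/
theorem agform [Finite G] {p : ℕ} [Fact p.Prime] (P : Sylow p G) : AGform p (P : Subgroup G) := by
  intro A hA g hg
  by_cases hA1 : ∃ a ∈ (A : Set G), a ≠ 1
  · obtain ⟨n, H, X, x, c, y, hc, hy, e, hi⟩ :=
      Cfsg.Agent.S3072.result P (A : Set G) hA hA1 g (by
        rintro _ ⟨a, ha, rfl⟩
        exact hg a ha)
    refine ⟨c, hc, (List.ofFn x).prod * y, by rw [e, mul_assoc], ?_⟩
    intro Q hPQ hRC
    refine (normalizer (Q : Set G)).mul_mem ?_ (hPQ hy)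
    apply Subgroup.list_prod_mem
    intro z hz
    rw [List.mem_ofFn] at hz
    obtain ⟨i, rfl⟩ := hz
    obtain ⟨h1, -, h3, h4, -, ⟨-, hXN, -, -, -⟩, hx, -⟩ := hi i
    have hRCi : RC p (P : Subgroup G) (H i) := RC_of_pPrimePCore h1 h3 h4
    apply hRC (H i) hRCi
    apply hXN
    obtain ⟨w, -, hw⟩ := hx
    rw [← hw]
    exact w.2
  · push Not at hA1
    refine ⟨g, ?_, 1, by simp, fun Q _ _ => Subgroup.one_mem _⟩
    rw [mem_centralizer_iff]
    intro a ha
    rw [hA1 a ha]; simp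

end Cfsg.Agent.Lib.Helper1_CRAG
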