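import Cfsg.Agent.Lib.Helper1_CRBasic
import Cfsg.Agent.Lib.Helper11_QdFusion

/-!
# Local `SL₂(p)`-freeness implies `Qd(p)`-freeness (helper1)

If no automizer `N_G(Q)/C_G(Q)` of a `p`-subgroup involves `SL₂(p)` then `Qd(p)` is not
involved in `G`: for a section `K/R ≅ Qd(p)` take a Sylow `p`-subgroup `S` of the preimage of
the translation group; by the Frattini argument `N_K(S)` covers `SL₂(p)`, and `C_K(S)` lies in
the preimage of the translation group because the latter is self-centralizing.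
-/

set_option autoImplicit false

namespace Cfsg.Agent.Lib.Helper1_SLFreeQd

open Subgroup Cfsg.Agent.Lib.Helper1_CRBasic

variable {G : Type*} [Group G]

/-- From a subgroup `S`, a subgroup `A ≤ N_G(S)` and a surjection `φ : A → L` killing
`A ∩ C_G(S)`, get a section `H/K ≅ L` with `C_G(S) ≤ K ≤ H ≤ N_G(S)`. -/
theorem exists_section_of_hom {L : Type*} [Group L] (S A : Subgroup G)
    (hA : A ≤ normalizer (S : Set G)) (φ : ↥A →* L) (hφ : Function.Surjective φ)
    (hker : ∀ a : ↥A, (a : G) ∈ centralizer (S : Set G) → φ a = 1) :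
    ∃ (H K : Subgroup G) (_ : (K.subgroupOf H).Normal), centralizer (S : Set G) ≤ K ∧ K ≤ H ∧
      H ≤ normalizer (S : Set G) ∧ Nonempty ((↥H ⧸ K.subgroupOf H) ≃* L) := by
  set D : Subgroup G := centralizer (S : Set G) with hD
  have hAD : A ≤ normalizer (D : Set G) := hA.trans (normalizer_le_normalizer_centralizer S)
  obtain ⟨ψ, hψ⟩ := exists_extend_hom hAD φ hker
  have hKeq : (ψ.ker.map (A ⊔ D).subtype).subgroupOf (A ⊔ D) = ψ.ker :=
    comap_map_eq_self_of_injective (subtype_injective _) ψ.ker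
  have hsurj : Function.Surjective ψ := by
    intro l
    obtain ⟨a, rfl⟩ := hφ l
    have hm : (a : G) * 1 ∈ A ⊔ D := by
      rw [mul_one]; exact (le_sup_left : A ≤ A ⊔ D) a.2
    exact ⟨⟨(a : G) * 1, hm⟩, hψ a 1 D.one_mem hm⟩
  have hn : ((ψ.ker.map (A ⊔ D).subtype).subgroupOf (A ⊔ D)).Normal := by
    rw [hKeq]; infer_instance
  refine ⟨A ⊔ D, ψ.ker.map (A ⊔ D).subtype, hn, ?_, map_subtype_le _, ?_, ?_⟩
  · intro d hd
    have hm : ((1 : ↥A) : G) * d ∈ A ⊔ D := by
      rw [coe_one, one_mul]; exact (le_sup_right : D ≤ A ⊔ D) hd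
    refine ⟨⟨((1 : ↥A) : G) * d, hm⟩, ?_, by simp⟩
    rw [SetLike.mem_coe, MonoidHom.mem_ker, hψ 1 d hd hm, map_one]
  · exact sup_le hA (centralizer_le_normalizer _)
  · exact ⟨(QuotientGroup.quotientMulEquivOfEq hKeq).trans
      (QuotientGroup.quotientKerEquivOfSurjective ψ hsurj)⟩

/-- The abstract form: a section `K → D` where `D` has a self-centralizing normal `p`-subgroup
`V` with quotient `L` gives a local section `L` in the automizer of a `p`-subgroup. -/
theorem exists_section_of_involves [Finite G] {p : ℕ} [Fact p.Prime] {D L : Type*} [Group D]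
    [Group L] (K : Subgroup G) (π : ↥K →* D) (hπ : Function.Surjective π) (V : Subgroup D)
    [hVn : V.Normal] (hV : IsPGroup p V) (hCV : centralizer (V : Set D) ≤ V) (β : D →* L)
    (hβ : Function.Surjective β) (hker : β.ker = V) :
    ∃ S : Subgroup G, IsPGroup p S ∧ ∃ (H K' : Subgroup G) (_ : (K'.subgroupOf H).Normal),
      centralizer (S : Set G) ≤ K' ∧ K' ≤ H ∧ H ≤ normalizer (S : Set G) ∧
      Nonempty ((↥H ⧸ K'.subgroupOf H) ≃* L) := by
  classical
  set Nn : Subgroup ↥K := V.comap π with hNn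
  have hNnn : Nn.Normal := hVn.comap π
  let P₀ : Sylow p ↥Nn := default
  set SK : Subgroup ↥K := (P₀ : Subgroup ↥Nn).map Nn.subtype with hSK
  set S : Subgroup G := SK.map K.subtype with hS
  have hSp : IsPGroup p S := (P₀.isPGroup'.map _).map _
  have hfrat : normalizer (SK : Set ↥K) ⊔ Nn = ⊤ := Sylow.normalizer_sup_eq_top P₀
  -- the image of `SK` is `V`
  have himg : ∀ v ∈ V, ∃ s ∈ SK, π s = v := by
    intro v hv
    let π' : ↥Nn →* ↥V := (π.comp Nn.subtype).codRestrict V (fun x => x.2)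
    have hπ' : Function.Surjective π' := by
      rintro ⟨w, hw⟩
      obtain ⟨k, rfl⟩ := hπ w
      exact ⟨⟨k, hw⟩, rfl⟩
    have hVtop : IsPGroup p (⊤ : Subgroup ↥V) := by
      intro g
      obtain ⟨k, hk⟩ := hV g.1
      exact ⟨k, Subtype.ext hk⟩
    have htop : (⊤ : Subgroup ↥V) = (P₀.mapSurjective hπ' : Sylow p ↥V) :=
      (P₀.mapSurjective hπ').is_maximal' hVtop le_top
    have hmem : (⟨v, hv⟩ : ↥V) ∈ ((P₀.mapSurjective hπ' : Sylow p ↥V) : Subgroup ↥V) := by
      rw [← htop]; exact mem_top _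
    rw [Sylow.coe_mapSurjective] at hmem
    obtain ⟨s, hs, hsv⟩ := hmem
    refine ⟨(s : ↥K), ⟨s, hs, rfl⟩, ?_⟩
    exact congrArg Subtype.val hsv
  set A : Subgroup G := (normalizer (SK : Set ↥K)).map K.subtype with hAdef
  have hAK : A ≤ K := map_subtype_le _
  have hA : A ≤ normalizer (S : Set G) := by
    rintro _ ⟨n, hn, rfl⟩
    apply mem_normalizer_of_map_conj_le
    rw [map_conj_le_iff]
    rintro _ ⟨s, hs, rfl⟩
    refine ⟨n * s * n⁻¹, conj_mem_of_mem_normalizer hn hs, ?_⟩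
    simp
  let φ : ↥A →* L := (β.comp π).comp (inclusion hAK)
  have hφ : Function.Surjective φ := by
    intro l
    obtain ⟨d, rfl⟩ := hβ l
    obtain ⟨k, rfl⟩ := hπ d
    have hk : k ∈ normalizer (SK : Set ↥K) ⊔ Nn := by rw [hfrat]; exact mem_top _
    have hle : normalizer (SK : Set ↥K) ≤ normalizer (Nn : Set ↥K) := by
      rw [normalizer_eq_top Nn]; exact le_top
    obtain ⟨n, hn, v, hv, rfl⟩ := exists_mul_of_mem_sup hle hk
    have hnA : (n : G) ∈ A := ⟨n, hn, rfl⟩
    refine ⟨⟨(n : G), hnA⟩, ?_⟩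
    have e1 : inclusion hAK ⟨(n : G), hnA⟩ = n := Subtype.ext rfl
    show β (π (inclusion hAK ⟨(n : G), hnA⟩)) = β (π (n * v))
    rw [e1, map_mul, map_mul]
    have : β (π v) = 1 := by
      rw [← MonoidHom.mem_ker, hker]; exact hv
    rw [this, mul_one]
  have hkerφ : ∀ a : ↥A, (a : G) ∈ centralizer (S : Set G) → φ a = 1 := by
    intro a ha
    show β (π (inclusion hAK a)) = 1
    rw [← MonoidHom.mem_ker, hker]
    apply hCV
    rw [mem_centralizer_iff]
    intro v hv
    obtain ⟨s, hs, rfl⟩ := himg v hv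
    rw [← map_mul, ← map_mul]
    congr 1
    apply Subtype.ext
    rw [mem_centralizer_iff] at ha
    have := ha (s : G) ⟨s, hs, rfl⟩
    simpa using this
  exact ⟨S, hSp, exists_section_of_hom S A hA φ hφ hkerφ⟩

open Cfsg.Agent.Lib.Helper46_Qd Cfsg.Agent.Lib.Helper46_Qd2 in
/-- If no automizer of a `p`-subgroup involves `SL₂(p)` then `Qd(p)` is not involved. -/
theorem not_involves_qd [Finite G] {p : ℕ} [Fact p.Prime]
    (hfree : ∀ Q : Subgroup G, IsPGroup p ↥Q → ¬ ∃ (H K : Subgroup G)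
      (_ : (K.subgroupOf H).Normal), centralizer (Q : Set G) ≤ K ∧ K ≤ H ∧
      H ≤ normalizer (Q : Set G) ∧
      Nonempty ((↥H ⧸ K.subgroupOf H) ≃* Matrix.SpecialLinearGroup (Fin 2) (ZMod p))) :
    ¬ Cfsg.Involves ↥(Cfsg.qd p) G := by
  rintro ⟨K, R, hn, ⟨e⟩⟩
  let e2 : ↥(Cfsg.qd p) ≃* ↥(affineSub (ZMod p)) := MulEquiv.subgroupCongr (qd_eq p)
  let π : ↥K →* ↥(affineSub (ZMod p)) :=
    e2.toMonoidHom.comp (e.toMonoidHom.comp (QuotientGroup.mk' (R.subgroupOf K)))
  have hπ : Function.Surjective π :=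
    e2.surjective.comp (e.surjective.comp (QuotientGroup.mk'_surjective _))
  have hVn : (transl (ZMod p)).Normal := transl_normal
  have hV : IsPGroup p (transl (ZMod p)) := by
    apply IsPGroup.of_card (n := 2)
    rw [Cfsg.Agent.Lib.Helper11_QdFusion.card_transl, Nat.card_zmod]
  obtain ⟨S, hS, h⟩ := exists_section_of_involves K π hπ (transl (ZMod p)) hV
    Cfsg.Agent.Lib.Helper11_QdFusion.centralizer_transl_le (block (R := ZMod p))
    block_surjective rfl
  exact hfree S hS h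

end Cfsg.Agent.Lib.Helper1_SLFreeQd
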