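import Cfsg.Agent.Lib.Helper84_FusionEssential
import Cfsg.Agent.Lib.Helper47_PLocal

/-!
Fusion systems: criteria for a subgroup to be normal in a saturated fusion system (helper84).
-/

set_option autoImplicit false

namespace Cfsg.Agent.Lib.Helper84_FusionNormal

open Cfsg Cfsg.FusionSystem Cfsg.Agent.Lib.Helper85_Fusion Cfsg.Agent.Lib.Helper84_RelSylow
  Cfsg.Agent.Lib.Helper84_FusionSat Cfsg.Agent.Lib.Helper84_FusionRS
  Cfsg.Agent.Lib.Helper84_FusionAlperin Cfsg.Agent.Lib.Helper84_FusionEssential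

variable {Ω : Type*} [Group Ω] {S : Subgroup Ω}

/-- Transport of a fusion system along an equality of the underlying subgroups. -/
def castSystem {S S' : Subgroup Ω} (h : S = S') (F : FusionSystem S) : FusionSystem S' := h ▸ F

theorem castSystem_Hom {S S' : Subgroup Ω} (h : S = S') (F : FusionSystem S) (P : Subgroup Ω) :
    (castSystem h F).Hom P = F.Hom P := by
  subst h
  rfl

/-- A subgroup normal in the system is normal in `S`. -/
theorem IsNormal.le_normalizer {F : FusionSystem S} {Q : Subgroup Ω} (hQ : F.IsNormal Q) :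
    S ≤ Subgroup.normalizer (Q : Set Ω) := by
  have key : ∀ g ∈ S, ∀ y ∈ Q, g * y * g⁻¹ ∈ Q := by
    intro g hg y hy
    obtain ⟨ψ, hψ, hext, himg⟩ := hQ.2 S (conjHom S g) (F.conj_mem le_rfl hg)
    have h1 := hext ⟨y, hQ.1 hy⟩
    rw [conjHom_apply] at h1
    simp only at h1
    rw [← h1]
    exact apply_mem_of_map_eq ψ himg y hy _
  intro g hg y
  constructor
  · exact key g hg y
  · intro hy
    have := key g⁻¹ (S.inv_mem hg) _ hy
    simpa [mul_assoc] using this

/-- A subgroup normal in the system is strongly closed. -/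
theorem IsNormal.stronglyClosed {F : FusionSystem S} {Q : Subgroup Ω} (hQ : F.IsNormal Q) :
    F.StronglyClosed Q := by
  refine ⟨hQ.1, fun R hRQ φ hφ x => ?_⟩
  obtain ⟨ψ, hψ, hext, himg⟩ := hQ.2 R φ hφ
  rw [← hext x]
  exact apply_mem_of_map_eq ψ himg x (hRQ x.2) _

/-- `Aut_F(P)` stabilizes `Q ≤ P` (as a statement about images in `Ω`). -/
def AutStabilizes (F : FusionSystem S) (Q P : Subgroup Ω) : Prop :=
  ∀ α ∈ F.autGroup P, (Q.subgroupOf P).map α.toMonoidHom = Q.subgroupOf P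

theorem autStabilizes_apply {F : FusionSystem S} {Q P : Subgroup Ω} (h : AutStabilizes F Q P)
    {α : MulAut P} (hα : α ∈ F.autGroup P) (x : P) (hx : (x : Ω) ∈ Q) : ((α x : P) : Ω) ∈ Q := by
  have h1 : α x ∈ (Q.subgroupOf P).map α.toMonoidHom := ⟨x, Subgroup.mem_subgroupOf.2 hx, rfl⟩
  rw [h α hα] at h1
  exact Subgroup.mem_subgroupOf.1 h1

/-- **Normality from the Alperin–Goldschmidt generators**: if `Q` is contained in `S` and in every
essential subgroup and is stabilized by `Aut_F(P)` for `P = S` and `P` essential, then `Q` is normal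
in the (saturated) system. -/
theorem isNormal_of_autStabilizes [Finite S] {p : ℕ} [Fact p.Prime] (hS : IsPGroup p S)
    (F : FusionSystem S) (hF : F.IsSaturated p) (Q : Subgroup Ω)
    (h : ∀ P : Subgroup Ω, (P = S ∨ F.IsEssential p P) → Q ≤ P ∧ AutStabilizes F Q P) :
    F.IsNormal Q := by
  have hQS : Q ≤ S := (h S (Or.inl rfl)).1
  have hSN : S ≤ Subgroup.normalizer (Q : Set Ω) := by
    have key : ∀ g ∈ S, ∀ y ∈ Q, g * y * g⁻¹ ∈ Q := by
      intro g hg y hy
      have hα : MulAut.conj (⟨g, hg⟩ : S) ∈ F.autGroup S := by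
        rw [mem_autGroup_iff F le_rfl]
        exact mem_of_eq F (F.conj_mem le_rfl hg) (fun x => rfl)
      exact autStabilizes_apply (h S (Or.inl rfl)).2 hα ⟨y, hQS hy⟩ hy
    intro g hg y
    constructor
    · exact key g hg y
    · intro hy
      have := key g⁻¹ (S.inv_mem hg) _ hy
      simpa [mul_assoc] using this
  have hns : normalizerIn S Q = S := inf_eq_left.mpr hSN
  set E : FusionSystem S := castSystem hns (normalizerSystem F Q hQS) with hE
  have hEHom : ∀ P, E.Hom P = F.normalizerHom Q P := fun P => castSystem_Hom hns _ P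
  have hle : F ≤ E := by
    apply alperin_goldschmidt hS F hF E
    intro P hP α hα
    obtain ⟨hQP, hstab⟩ := h P hP
    have hPS : P ≤ S := by
      rcases hP with rfl | hP
      · exact le_rfl
      · exact hP.1.1
    rw [mem_autGroup_iff E hPS, hEHom]
    have hα' := (mem_autGroup_iff F hPS α).1 hα
    have hsup : P ⊔ Q ≤ P := sup_le le_rfl hQP
    refine ⟨hα', by rw [hns]; exact hPS, fun x => by rw [hns]; exact hPS (α x).2, _,
      restrict_mem F hsup hα', fun x => rfl, ?_⟩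
    ext y
    rw [mem_map_subgroupOf]
    constructor
    · rintro ⟨z, hzQ, hzD, rfl⟩
      exact autStabilizes_apply hstab hα ⟨z, hsup hzD⟩ hzQ
    · intro hy
      have h1 : (⟨y, hQP hy⟩ : P) ∈ Q.subgroupOf P := Subgroup.mem_subgroupOf.2 hy
      rw [← hstab α hα] at h1
      obtain ⟨z, hz, hzy⟩ := h1
      refine ⟨z, Subgroup.mem_subgroupOf.1 hz, (le_sup_left : P ≤ P ⊔ Q) z.2, ?_⟩
      exact congrArg Subtype.val hzy
  refine ⟨hQS, fun P φ hφ => ?_⟩
  have := hle P hφ
  rw [hEHom] at this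
  exact this.2.2.2

/-- **A subgroup normal in the system lies in every centric radical subgroup.** -/
theorem IsNormal.le_of_isCentric_of_isRadical [Finite S] {p : ℕ} [Fact p.Prime] (hS : IsPGroup p S)
    {F : FusionSystem S} {Q P : Subgroup Ω} (hQ : F.IsNormal Q) (hPc : F.IsCentric P)
    (hPr : F.IsRadical p P) : Q ≤ P := by
  have hPS : P ≤ S := hPc.1
  have hQS : Q ≤ S := hQ.1
  have hC : centralizerIn S P ≤ P := hPc.2 P (isConj_refl F hPS)
  by_contra hQP
  have hDS : P ⊔ Q ≤ S := sup_le hPS hQS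
  have hlt : P < P ⊔ Q := lt_of_le_of_ne le_sup_left (fun h => hQP (h ▸ le_sup_right))
  have : Finite (P ⊔ Q : Subgroup Ω) := finite_of_le_S hDS
  obtain ⟨g, ⟨hgD, hgN⟩, hgP⟩ := exists_mem_normalizerIn_not_mem (S := P ⊔ Q) (hS.to_le hDS) hlt
  -- K = Aut_{PQ}(P) is a normal p-subgroup of Aut_F(P)
  have hKA : autInducedBy (P ⊔ Q) P ≤ F.autGroup P := by
    intro κ hκ
    obtain ⟨h, hhD, hh⟩ := (mem_autInducedBy_iff _ P κ).1 hκ
    exact autInducedBy_le_autGroup F hPS ((mem_autInducedBy_iff S P κ).2 ⟨h, hDS hhD, hh⟩)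
  have hKp : IsPGroup p (autInducedBy (P ⊔ Q) P) := isPGroup_autInducedBy (hS.to_le hDS) P
  have hKn : ((autInducedBy (P ⊔ Q) P).subgroupOf (F.autGroup P)).Normal := by
    constructor
    intro κ hκ α
    rw [Subgroup.mem_subgroupOf] at hκ ⊢
    obtain ⟨h, hhD, hh⟩ := (mem_autInducedBy_iff _ P _).1 hκ
    have hα' := (mem_autGroup_iff F hPS (α : MulAut P)).1 α.2
    obtain ⟨ψ, hψ, hext, himg⟩ := hQ.2 P _ hα'
    rw [mem_autInducedBy_iff]
    have hψD : ψ ⟨h, hhD⟩ ∈ P ⊔ Q := by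
      have h1 : ψ ⟨h, hhD⟩ ∈ ψ.range := ⟨_, rfl⟩
      rw [range_eq_sup_map, himg, map_subgroupOf_eq_range_of_ext le_sup_left _ ψ hext,
        range_subtype_comp_equiv] at h1
      exact h1
    refine ⟨ψ ⟨h, hhD⟩, hψD, fun y => ?_⟩
    show (((α : MulAut P) ((κ : MulAut P) ((α : MulAut P)⁻¹ y)) : P) : Ω) = _
    have e1 : ∀ z : P, (((α : MulAut P) z : P) : Ω) = ψ (Subgroup.inclusion le_sup_left z) :=
      fun z => (hext z).symm
    rw [e1]
    have e2 : Subgroup.inclusion (le_sup_left : P ≤ P ⊔ Q) ((κ : MulAut P) ((α : MulAut P)⁻¹ y)) =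
        ⟨h, hhD⟩ * Subgroup.inclusion le_sup_left ((α : MulAut P)⁻¹ y) * ⟨h, hhD⟩⁻¹ := by
      apply Subtype.ext
      exact hh _
    rw [e2, map_mul, map_mul, map_inv, ← e1, MulAut.apply_inv_self]
  have hKle : (autInducedBy (P ⊔ Q) P).subgroupOf (F.autGroup P) ≤ pCore p (F.autGroup P) :=
    Helper47_PLocal.le_pCore hKn (hKp.comap_of_injective _ (Subgroup.subtype_injective _))
  have hKInn : autInducedBy (P ⊔ Q) P ≤ Inn P := by
    rw [← hPr.2]
    intro κ hκ
    exact ⟨⟨κ, hKA hκ⟩, hKle (Subgroup.mem_subgroupOf.2 hκ), rfl⟩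
  apply hgP
  apply mem_of_normalizerMonoidHom_mem_inn hC (hDS hgD) hPS hgN
  apply hKInn
  exact normalizerMonoidHom_mem_autInducedBy hgD hgN

end Cfsg.Agent.Lib.Helper84_FusionNormal
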