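import Cfsg.Agent.S5157

set_option autoImplicit false

/-!
# Chains of strongly closed subgroups with abelian quotients (helper87)

`SCChain F A C`: an ascending chain of subgroups strongly closed in `F`, from `A` to `C`, with abelian
successive quotients.  By `Cfsg.Agent.S5157.result` a saturated system is solvable iff `SCChain F ⊥ S`.
-/

namespace Cfsg.Agent.Lib.Helper87_Solvable

open Cfsg Cfsg.FusionSystem Cfsg.Agent.Lib Cfsg.Agent.Lib.Helper87_Alperin Cfsg.Agent.Lib.Helper87_Alperin2
  Cfsg.Agent.Lib.Helper87_Normal Cfsg.Agent.Lib.Helper87_ModT Cfsg.Agent.Lib.Helper87_Factor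
  Cfsg.Agent.Lib.Helper87_Factor2

open scoped commutatorElement

universe u v

variable {Ω : Type u} [Group Ω] {S : Subgroup Ω}

/-- An ascending chain of strongly closed subgroups from `A` to `C` with abelian successive quotients. -/
inductive SCChain (F : FusionSystem S) : Subgroup Ω → Subgroup Ω → Prop
  | refl (A : Subgroup Ω) : F.StronglyClosed A → SCChain F A A
  | cons (A B C : Subgroup Ω) : F.StronglyClosed A → A ≤ B → ⁅B, B⁆ ≤ A → SCChain F B C → SCChain F A C

namespace SCChain

variable {F : FusionSystem S}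

theorem le {A C : Subgroup Ω} (h : SCChain F A C) : A ≤ C := by
  induction h with
  | refl A _ => exact le_rfl
  | cons A B C _ hAB _ _ ih => exact hAB.trans ih

theorem left_sc {A C : Subgroup Ω} (h : SCChain F A C) : F.StronglyClosed A := by
  cases h with
  | refl _ hA => exact hA
  | cons _ _ _ hA _ _ _ => exact hA

theorem right_sc {A C : Subgroup Ω} (h : SCChain F A C) : F.StronglyClosed C := by
  induction h with
  | refl A hA => exact hA
  | cons A B C _ _ _ _ ih => exact ih

theorem trans {A B C : Subgroup Ω} (h₁ : SCChain F A B) (h₂ : SCChain F B C) : SCChain F A C := by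
  induction h₁ with
  | refl A _ => exact h₂
  | cons A B' C' hA hAB hcomm _ ih => exact cons A B' C hA hAB hcomm (ih h₂)

/-- One abelian step. -/
theorem single {A B : Subgroup Ω} (hA : F.StronglyClosed A) (hB : F.StronglyClosed B) (hAB : A ≤ B)
    (hcomm : ⁅B, B⁆ ≤ A) : SCChain F A B :=
  cons A B B hA hAB hcomm (refl B hB)

/-- The first proper step of a chain with distinct ends. -/
theorem exists_first_step {A C : Subgroup Ω} (h : SCChain F A C) (hne : A ≠ C) :
    ∃ D, F.StronglyClosed D ∧ A ≤ D ∧ A ≠ D ∧ ⁅D, D⁆ ≤ A ∧ D ≤ C := by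
  induction h with
  | refl A _ => exact absurd rfl hne
  | cons A B C hA hAB hcomm hBC ih =>
    by_cases hAB' : A = B
    · subst hAB'
      exact ih hne
    · exact ⟨B, hBC.left_sc, hAB, hAB', hcomm, hBC.le⟩

end SCChain

/-! ### Comparison with chains indexed by `Fin (n + 1)` -/

theorem scChain_of_fin (F : FusionSystem S) : ∀ (n : ℕ) (T : Fin (n + 1) → Subgroup Ω), Monotone T →
    (∀ i, F.StronglyClosed (T i)) → (∀ i : Fin n, ⁅T i.succ, T i.succ⁆ ≤ T (Fin.castSucc i)) →
    SCChain F (T 0) (T (Fin.last n)) := by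
  intro n
  induction n with
  | zero =>
    intro T _ hsc _
    exact SCChain.refl _ (hsc 0)
  | succ n ih =>
    intro T hmono hsc hab
    have h1 := ih (Fin.tail T) (fun i j hij => hmono (Fin.succ_le_succ_iff.2 hij)) (fun i => hsc i.succ)
      (fun i => hab i.succ)
    have h2 : Fin.tail T 0 = T 1 := rfl
    have h3 : Fin.tail T (Fin.last n) = T (Fin.last (n + 1)) := rfl
    rw [h2, h3] at h1
    exact SCChain.cons (T 0) (T 1) _ (hsc 0) (hmono (Fin.zero_le _)) (hab 0) h1

theorem fin_of_scChain {F : FusionSystem S} {A C : Subgroup Ω} (h : SCChain F A C) :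
    ∃ (n : ℕ) (T : Fin (n + 1) → Subgroup Ω), T 0 = A ∧ T (Fin.last n) = C ∧ Monotone T ∧
      (∀ i, F.StronglyClosed (T i)) ∧ ∀ i : Fin n, ⁅T i.succ, T i.succ⁆ ≤ T (Fin.castSucc i) := by
  induction h with
  | refl A hA => exact ⟨0, fun _ => A, rfl, rfl, fun _ _ _ => le_rfl, fun _ => hA, fun i => i.elim0⟩
  | cons R R' C hR hRR' hcomm _ ih =>
    obtain ⟨n, T, h0, hlast, hmono, hsc, hab⟩ := ih
    refine ⟨n + 1, Fin.cons R T, rfl, ?_, ?_, ?_, ?_⟩
    · have : Fin.last (n + 1) = (Fin.last n).succ := rfl
      rw [this, Fin.cons_succ]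
      exact hlast
    · intro i j hij
      induction i using Fin.cases with
      | zero =>
        induction j using Fin.cases with
        | zero => exact le_rfl
        | succ j =>
          rw [Fin.cons_zero, Fin.cons_succ]
          calc R ≤ R' := hRR'
            _ = T 0 := h0.symm
            _ ≤ T j := hmono (Fin.zero_le j)
      | succ i =>
        induction j using Fin.cases with
        | zero => exact absurd hij (by simp)
        | succ j =>
          rw [Fin.cons_succ, Fin.cons_succ]
          exact hmono (Fin.succ_le_succ_iff.1 hij)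
    · intro i
      induction i using Fin.cases with
      | zero => exact hR
      | succ i => rw [Fin.cons_succ]; exact hsc i
    · intro i
      induction i using Fin.cases with
      | zero =>
        have h1 : (Fin.cons R T : Fin (n + 2) → Subgroup Ω) (0 : Fin (n + 1)).succ = T 0 :=
          Fin.cons_succ _ _ _
        have h2 : (Fin.cons R T : Fin (n + 2) → Subgroup Ω) (Fin.castSucc (0 : Fin (n + 1))) = R := rfl
        rw [h1, h2, h0]
        exact hcomm
      | succ i =>
        have h1 : (Fin.cons R T : Fin (n + 2) → Subgroup Ω) i.succ.succ = T i.succ := Fin.cons_succ _ _ _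
        have h2 : (Fin.cons R T : Fin (n + 2) → Subgroup Ω) (Fin.castSucc i.succ) = T (Fin.castSucc i) := by
          rw [← Fin.succ_castSucc, Fin.cons_succ]
        rw [h1, h2]
        exact hab i

/-- A saturated system over a finite `p`-group is solvable iff there is a chain of strongly closed subgroups with
abelian quotients from `⊥` to `S`. -/
theorem isSolvableSystem_iff [Finite S] {p : ℕ} [Fact p.Prime] (hS : IsPGroup p S) (F : FusionSystem S)
    (hF : F.IsSaturated p) : F.IsSolvableSystem ↔ SCChain F ⊥ S := by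
  rw [Cfsg.Agent.S5157.result p hS F hF]
  constructor
  · rintro ⟨n, T, h0, hlast, hmono, hsc, hab⟩
    have := scChain_of_fin F n T hmono hsc hab
    rwa [h0, hlast] at this
  · intro h
    exact fin_of_scChain h

/-! ### Operations on chains -/

theorem stronglyClosed_inf {F : FusionSystem S} {A X : Subgroup Ω} (hA : F.StronglyClosed A)
    (hX : F.StronglyClosed X) : F.StronglyClosed (A ⊓ X) :=
  ⟨inf_le_left.trans hA.1, fun R hR φ hφ x =>
    ⟨hA.2 R (hR.trans inf_le_left) φ hφ x, hX.2 R (hR.trans inf_le_right) φ hφ x⟩⟩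

theorem SCChain.inf_right {F : FusionSystem S} {A C X : Subgroup Ω} (h : SCChain F A C)
    (hX : F.StronglyClosed X) : SCChain F (A ⊓ X) (C ⊓ X) := by
  induction h with
  | refl A hA => exact SCChain.refl _ (stronglyClosed_inf hA hX)
  | cons A B C hA hAB hcomm _ ih =>
    refine SCChain.cons _ (B ⊓ X) _ (stronglyClosed_inf hA hX) (inf_le_inf_right X hAB) ?_ ih
    exact le_inf ((Subgroup.commutator_mono inf_le_left inf_le_left).trans hcomm)
      ((Subgroup.commutator_mono inf_le_right inf_le_right).trans (by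
        rw [Subgroup.commutator_le]
        intro a ha b hb
        exact X.mul_mem (X.mul_mem (X.mul_mem ha hb) (X.inv_mem ha)) (X.inv_mem hb)))

/-- If `N ≤ S` is normalized by `S`, `B ≤ S` and `⁅B, B⁆ ≤ N`, then `⁅B ⊔ N, B ⊔ N⁆ ≤ N`. -/
theorem commutator_sup_le {N B : Subgroup Ω} (hNS : N ≤ S) (hnorm : S ≤ Subgroup.normalizer (N : Set Ω))
    (hBS : B ≤ S) (hBB : ⁅B, B⁆ ≤ N) : ⁅B ⊔ N, B ⊔ N⁆ ≤ N := by
  have hN : (N.subgroupOf S).Normal := by
    rw [← Subgroup.normalizer_eq_top_iff, eq_top_iff]
    intro s _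
    have hs := hnorm s.2
    rw [Subgroup.mem_normalizer_iff] at hs ⊢
    intro h
    rw [Subgroup.mem_subgroupOf, Subgroup.mem_subgroupOf]
    have := hs (h : Ω)
    simpa using this
  set θ : S →* (S ⧸ N.subgroupOf S) := QuotientGroup.mk' (N.subgroupOf S) with hθ
  have hker : ∀ s : S, θ s = 1 ↔ (s : Ω) ∈ N := by
    intro s
    rw [hθ, QuotientGroup.mk'_apply, QuotientGroup.eq_one_iff, Subgroup.mem_subgroupOf]
  have hcomm : ∀ a ∈ imageAlong θ (B ⊔ N), ∀ b ∈ imageAlong θ (B ⊔ N), a * b = b * a :=
    fun a ha b hb => commute_of_mem_imageAlong_sup hker hNS hBS (hBS.trans hnorm) hBB ha hb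
  have h1 := commutator_preimageAlong_le hker hcomm
  have h2 : B ⊔ N ≤ preimageAlong θ (imageAlong θ (B ⊔ N)) := by
    rw [preimageAlong_imageAlong_of_le hker (sup_le hBS hNS) le_sup_right]
  exact (Subgroup.commutator_mono h2 h2).trans h1

theorem SCChain.sup_right [Finite S] {p : ℕ} [Fact p.Prime] (hS : IsPGroup p S) {F : FusionSystem S}
    (hF : F.IsSaturated p) {A C X : Subgroup Ω} (h : SCChain F A C) (hX : F.StronglyClosed X) :
    SCChain F (A ⊔ X) (C ⊔ X) := by
  induction h with
  | refl A hA => exact SCChain.refl _ (Cfsg.Agent.S5128.result p hS F hF A X hA hX)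
  | cons A B C hA hAB hcomm hBC ih =>
    have hAX : F.StronglyClosed (A ⊔ X) := Cfsg.Agent.S5128.result p hS F hF A X hA hX
    refine SCChain.cons _ (B ⊔ X) _ hAX (sup_le_sup_right hAB X) ?_ ih
    have hBS : B ≤ S := hBC.left_sc.1
    have h1 := commutator_sup_le hAX.1 (stronglyClosed_le_normalizer hAX) hBS (hcomm.trans le_sup_left)
    have h2 : B ⊔ X ≤ B ⊔ (A ⊔ X) := sup_le_sup_left le_sup_right B
    exact (Subgroup.commutator_mono h2 h2).trans h1

/-- A chain of `F` below `T` is a chain of every subsystem over `T`. -/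
theorem SCChain.of_subsystem {F : FusionSystem S} {T : Subgroup Ω} {E : FusionSystem T}
    (hEF : E.IsSubsystemOf F) {A C : Subgroup Ω} (h : SCChain F A C) (hCT : C ≤ T) : SCChain E A C := by
  have key : ∀ R : Subgroup Ω, F.StronglyClosed R → R ≤ T → E.StronglyClosed R :=
    fun R hR hRT => ⟨hRT, fun P hP φ hφ x => hR.2 P hP φ (hEF P hφ) x⟩
  induction h with
  | refl A hA => exact SCChain.refl _ (key A hA hCT)
  | cons A B C hA hAB hcomm hBC ih =>
    exact SCChain.cons _ B _ (key A hA ((hAB.trans hBC.le).trans hCT)) hAB hcomm (ih hCT)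

variable {Ω' : Type v} [Group Ω'] {S' : Subgroup Ω'}

theorem extOn_commutatorElement (θ : S →* Ω') {x y : Ω} (hx : x ∈ S) (hy : y ∈ S) :
    extOn θ ⁅x, y⁆ = ⁅extOn θ x, extOn θ y⁆ := by
  rw [commutatorElement_def, commutatorElement_def,
    extOn_mul θ (S.mul_mem (S.mul_mem hx hy) (S.inv_mem hx)) (S.inv_mem hy),
    extOn_mul θ (S.mul_mem hx hy) (S.inv_mem hx), extOn_mul θ hx hy, extOn_inv θ hx, extOn_inv θ hy]

/-- The image of a chain above the kernel is a chain of the factor system. -/
theorem SCChain.imageAlong {F : FusionSystem S} {T : Subgroup Ω} {θ : S →* Ω'} {E : FusionSystem S'}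
    (hE : F.IsFactorSystem T θ E) {A C : Subgroup Ω} (h : SCChain F A C) (hTA : T ≤ A) :
    SCChain E (imageAlong θ A) (imageAlong θ C) := by
  induction h with
  | refl A hA => exact SCChain.refl _ (stronglyClosed_imageAlong hE hA hTA)
  | cons A B C hA hAB hcomm hBC ih =>
    refine SCChain.cons _ (FusionSystem.imageAlong θ B) _ (stronglyClosed_imageAlong hE hA hTA) ?_ ?_
      (ih (hTA.trans hAB))
    · intro y hy
      obtain ⟨x, hxS, hxA, rfl⟩ := (mem_imageAlong θ A _).1 hy
      exact extOn_mem_imageAlong θ hBC.left_sc.1 (hAB hxA)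
    · rw [Subgroup.commutator_le]
      intro a ha b hb
      obtain ⟨x, hxS, hxB, rfl⟩ := (mem_imageAlong θ B _).1 ha
      obtain ⟨y, hyS, hyB, rfl⟩ := (mem_imageAlong θ B _).1 hb
      rw [← extOn_commutatorElement θ hxS hyS]
      exact extOn_mem_imageAlong θ hA.1 (hcomm (Subgroup.commutator_mem_commutator hxB hyB))

/-- The full preimage of a chain of the factor system of a saturated system is a chain. -/
theorem SCChain.preimageAlong [Finite S] {p : ℕ} [Fact p.Prime] (hS : IsPGroup p S) {F : FusionSystem S}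
    (hF : F.IsSaturated p) {T : Subgroup Ω} (hT : F.StronglyClosed T) {θ : S →* Ω'} {E : FusionSystem S'}
    (hE : F.IsFactorSystem T θ E) {A' C' : Subgroup Ω'} (h : SCChain E A' C') :
    SCChain F (preimageAlong θ A') (preimageAlong θ C') := by
  induction h with
  | refl A hA => exact SCChain.refl _ (stronglyClosed_preimageAlong F hS hF hT hE hA)
  | cons A B C hA hAB hcomm hBC ih =>
    refine SCChain.cons _ (FusionSystem.preimageAlong θ B) _ (stronglyClosed_preimageAlong F hS hF hT hE hA)
      ?_ ?_ ih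
    · intro y hy
      rw [mem_preimageAlong] at hy ⊢
      exact ⟨hy.1, hAB hy.2⟩
    · rw [Subgroup.commutator_le]
      intro x hx y hy
      rw [mem_preimageAlong] at hx hy ⊢
      refine ⟨?_, ?_⟩
      · rw [commutatorElement_def]
        exact S.mul_mem (S.mul_mem (S.mul_mem hx.1 hy.1) (S.inv_mem hx.1)) (S.inv_mem hy.1)
      · rw [extOn_commutatorElement θ hx.1 hy.1]
        exact hcomm (Subgroup.commutator_mem_commutator hx.2 hy.2)

/-! ### Abelian extensions of normal subgroups inside `Q C_S(Q)` are normal -/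

theorem weaklyClosed_of_stronglyClosed [Finite S] {F : FusionSystem S} {Q : Subgroup Ω}
    (hQ : F.StronglyClosed Q) : F.WeaklyClosed Q := by
  refine ⟨hQ.1, fun φ hφ => ?_⟩
  have hfin : Finite Q := Finite.of_injective (Subgroup.inclusion hQ.1) (Subgroup.inclusion_injective _)
  have hle : φ.range ≤ Q := by
    rintro _ ⟨x, rfl⟩
    exact hQ.2 Q le_rfl φ hφ x
  apply Subgroup.eq_of_le_of_card_ge hle
  have hinj : Function.Injective φ := F.injective_of_mem hφ
  exact le_of_eq (Nat.card_congr (MonoidHom.ofInjective hinj).toEquiv)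

theorem commutatorElement_mul_of_centralizes {Q : Subgroup Ω} {y c q : Ω} (hy : y ∈ Q) (hq : q ∈ Q)
    (hc : c ∈ Subgroup.centralizer (Q : Set Ω)) : ⁅y, c * q⁆ = ⁅y, q⁆ := by
  have hcy : y * c = c * y := Subgroup.mem_centralizer_iff.1 hc y hy
  have hz : ⁅y, q⁆ ∈ Q := by
    rw [commutatorElement_def]
    exact Q.mul_mem (Q.mul_mem (Q.mul_mem hy hq) (Q.inv_mem hy)) (Q.inv_mem hq)
  have hcz : ⁅y, q⁆ * c = c * ⁅y, q⁆ := Subgroup.mem_centralizer_iff.1 hc _ hz
  have h1 : ⁅y, c * q⁆ = c * ⁅y, q⁆ * c⁻¹ := by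
    rw [commutatorElement_def, commutatorElement_def, mul_inv_rev, ← mul_assoc y c q, hcy]
    group
  rw [h1, ← hcz]
  group

/-- If `Q` is normal in the saturated system `F`, and `D` is strongly closed with `Q ≤ D ≤ Q C_S(Q)` and
`D / Q` abelian, then `D` is normal in `F`. -/
theorem isNormal_of_abelian_over_normal [Finite S] {p : ℕ} [Fact p.Prime] (hS : IsPGroup p S)
    (F : FusionSystem S) (hF : F.IsSaturated p) {Q D : Subgroup Ω} (hQ : F.IsNormal Q)
    (hD : F.StronglyClosed D) (hQD : Q ≤ D) (hDX : D ≤ Q ⊔ centralizerIn S Q) (hDD : ⁅D, D⁆ ≤ Q) :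
    F.IsNormal D := by
  classical
  obtain ⟨hQsc, n, C, hC0, hCn, hmono, hcomm, hwc⟩ := Cfsg.Agent.S5226.forward p hS F Q hQ
  rw [Cfsg.Agent.S5226.result p hS F hF D]
  have hnormQ : S ≤ Subgroup.normalizer (Q : Set Ω) := stronglyClosed_le_normalizer hQsc
  have hCQ : ∀ i, C i ≤ Q := fun i => by
    rw [← hCn]
    exact hmono (Fin.le_last i)
  refine ⟨hD, n + 1, Fin.snoc C D, ?_, ?_, ?_, ?_, ?_⟩
  · have : (0 : Fin (n + 2)) = Fin.castSucc (0 : Fin (n + 1)) := rfl
    rw [this, Fin.snoc_castSucc]
    exact hC0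
  · exact Fin.snoc_last _ _
  · intro i j hij
    induction j using Fin.lastCases with
    | last =>
      rw [Fin.snoc_last]
      induction i using Fin.lastCases with
      | last => rw [Fin.snoc_last]
      | cast i =>
        rw [Fin.snoc_castSucc]
        exact (hCQ i).trans hQD
    | cast j =>
      induction i using Fin.lastCases with
      | last =>
        exfalso
        have := Fin.castSucc_lt_last j
        exact absurd hij (not_le.2 this)
      | cast i =>
        rw [Fin.snoc_castSucc, Fin.snoc_castSucc]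
        exact hmono (Fin.castSucc_le_castSucc_iff.1 hij)
  · intro i
    induction i using Fin.lastCases with
    | last =>
      have h1 : (Fin.snoc C D : Fin (n + 2) → Subgroup Ω) (Fin.last n).succ = D := by
        rw [Fin.succ_last, Fin.snoc_last]
      have h2 : (Fin.snoc C D : Fin (n + 2) → Subgroup Ω) (Fin.castSucc (Fin.last n)) = Q := by
        rw [Fin.snoc_castSucc, hCn]
      rw [h1, h2]
      exact hDD
    | cast j =>
      have h1 : (Fin.snoc C D : Fin (n + 2) → Subgroup Ω) (Fin.castSucc j).succ = C j.succ := by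
        rw [Fin.succ_castSucc, Fin.snoc_castSucc]
      have h2 : (Fin.snoc C D : Fin (n + 2) → Subgroup Ω) (Fin.castSucc (Fin.castSucc j)) =
          C (Fin.castSucc j) := by
        rw [Fin.snoc_castSucc]
      rw [h1, h2, Subgroup.commutator_le]
      intro y hy d hd
      have hd' : d ∈ centralizerIn S Q ⊔ Q := by
        rw [sup_comm]
        exact hDX hd
      obtain ⟨c, hc, q, hq, rfl⟩ :=
        (mem_sup_iff_exists_mul ((inf_le_left : centralizerIn S Q ≤ S).trans hnormQ) d).1 hd'
      rw [commutatorElement_mul_of_centralizes (hCQ _ hy) hq hc.2]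
      exact hcomm j (Subgroup.commutator_mem_commutator hy hq)
  · intro i
    rw [Fin.snoc_castSucc]
    induction i using Fin.lastCases with
    | last =>
      rw [hCn]
      exact weaklyClosed_of_stronglyClosed hQsc
    | cast j => exact hwc j

end Cfsg.Agent.Lib.Helper87_Solvable
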