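import Cfsg.Agent.Lib.Helper87_Alperin2
import Cfsg.Agent.Lib.Helper85_Fusion

set_option autoImplicit false

namespace Cfsg.Agent.Lib.Helper87_Normal

open Cfsg Cfsg.FusionSystem Cfsg.Agent.Lib.Helper87_Alperin Cfsg.Agent.Lib.Helper87_Alperin2
open scoped Pointwise

universe u

variable {Ω : Type u} [Group Ω] {S : Subgroup Ω}

/-! ### Transport of a fusion system along an equality of the underlying subgroups -/

/-- Transport of a fusion system along an equality `T = S`. -/
def castSystem {T S : Subgroup Ω} (h : T = S) (E : FusionSystem T) : FusionSystem S := h ▸ E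

theorem castSystem_hom {T S : Subgroup Ω} (h : T = S) (E : FusionSystem T) (P : Subgroup Ω) :
    (castSystem h E).Hom P = E.Hom P := by
  subst h
  rfl

/-! ### Strongly and weakly closed subgroups are normalized by `S` -/

theorem le_normalizer_of_conj_mem {N : Subgroup Ω} (h : ∀ g ∈ S, ∀ x ∈ N, g * x * g⁻¹ ∈ N) :
    S ≤ Subgroup.normalizer (N : Set Ω) := by
  intro g hg
  rw [Subgroup.mem_normalizer_iff]
  intro x
  constructor
  · exact h g hg x
  · intro hx
    have := h g⁻¹ (S.inv_mem hg) _ hx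
    have h2 : g⁻¹ * (g * x * g⁻¹) * g⁻¹⁻¹ = x := by group
    rwa [h2] at this

theorem stronglyClosed_conj_mem {F : FusionSystem S} {Q : Subgroup Ω} (hQ : F.StronglyClosed Q)
    {g : Ω} (hg : g ∈ S) {x : Ω} (hx : x ∈ Q) : g * x * g⁻¹ ∈ Q :=
  hQ.2 Q le_rfl _ (F.conj_mem hQ.1 hg) ⟨x, hx⟩

theorem weaklyClosed_conj_mem {F : FusionSystem S} {Q : Subgroup Ω} (hQ : F.WeaklyClosed Q)
    {g : Ω} (hg : g ∈ S) {x : Ω} (hx : x ∈ Q) : g * x * g⁻¹ ∈ Q := by
  have h := hQ.2 _ (F.conj_mem hQ.1 hg)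
  have h2 : conjHom Q g ⟨x, hx⟩ ∈ (conjHom Q g).range := ⟨_, rfl⟩
  rw [h] at h2
  exact h2

theorem stronglyClosed_le_normalizer {F : FusionSystem S} {Q : Subgroup Ω} (hQ : F.StronglyClosed Q) :
    S ≤ Subgroup.normalizer (Q : Set Ω) :=
  le_normalizer_of_conj_mem fun _ hg _ hx => stronglyClosed_conj_mem hQ hg hx

theorem stronglyClosed_normalizerIn_eq {F : FusionSystem S} {Q : Subgroup Ω}
    (hQ : F.StronglyClosed Q) : normalizerIn S Q = S :=
  le_antisymm inf_le_left (le_inf le_rfl (stronglyClosed_le_normalizer hQ))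

/-- Elements of `Aut_F(R)` preserve the intersection of `R` with a strongly closed subgroup. -/
theorem stronglyClosed_aut_mem {F : FusionSystem S} {Q R : Subgroup Ω} (hQ : F.StronglyClosed Q)
    (hR : R ≤ S) {α : MulAut R} (hα : α ∈ F.autGroup R) (x : R) (hx : (x : Ω) ∈ Q) :
    ((α x : R) : Ω) ∈ Q := by
  have h1 : autHom α ∈ F.Hom R := (mem_autGroup_iff' F hR α).1 hα
  have h2 := restrict_mem F h1 (inf_le_left : R ⊓ Q ≤ R)
  exact hQ.2 (R ⊓ Q) inf_le_right _ h2 ⟨x, ⟨x.2, hx⟩⟩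

/-- Elements of `Aut_F(R)` preserve a weakly closed subgroup contained in `R`. -/
theorem weaklyClosed_aut_mem {F : FusionSystem S} {Q R : Subgroup Ω} (hQ : F.WeaklyClosed Q)
    (hR : R ≤ S) (hQR : Q ≤ R) {α : MulAut R} (hα : α ∈ F.autGroup R) (x : R) (hx : (x : Ω) ∈ Q) :
    ((α x : R) : Ω) ∈ Q := by
  have h1 : autHom α ∈ F.Hom R := (mem_autGroup_iff' F hR α).1 hα
  have h2 := restrict_mem F h1 hQR
  have h3 := hQ.2 _ h2
  have h4 : ((autHom α).comp (Subgroup.inclusion hQR)) ⟨x, hx⟩ ∈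
      ((autHom α).comp (Subgroup.inclusion hQR)).range := ⟨_, rfl⟩
  rw [h3] at h4
  exact h4

/-! ### Normality from containment in the centric radical subgroups -/

/-- AKO Proposition I.4.5 (one direction): a strongly closed subgroup contained in every fully automized,
receptive, centric and radical subgroup is normal in the system. -/
theorem isNormal_of_le_frc (F : FusionSystem S) [Finite S] {p : ℕ} [Fact p.Prime] (hS : IsPGroup p S)
    (hF : F.IsSaturated p) {Q : Subgroup Ω} (hQ : F.StronglyClosed Q)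
    (h : ∀ R : Subgroup Ω, F.IsFullyAutomized p R → F.IsReceptive R → F.IsCentric R →
      F.IsRadical p R → Q ≤ R) : F.IsNormal Q := by
  have hQS : Q ≤ S := hQ.1
  have hnorm : normalizerIn S Q = S := stronglyClosed_normalizerIn_eq hQ
  let E : FusionSystem S := castSystem hnorm (Helper85_Fusion.normalizerSystem F Q hQS)
  have hEhom : ∀ P, E.Hom P = F.normalizerHom Q P := fun P => castSystem_hom hnorm _ P
  have hsub : F.IsSubsystemOf E := by
    refine alperin_frc F hS hF E ?_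
    intro R hRa hRr hRc hRrad α hα
    have hRS : R ≤ S := hRa.1
    have hQR : Q ≤ R := h R hRa hRr hRc hRrad
    have h1 : autHom α ∈ F.Hom R := (mem_autGroup_iff' F hRS α).1 hα
    rw [hEhom]
    have hsup : R ⊔ Q ≤ R := sup_le le_rfl hQR
    refine ⟨h1, by rw [hnorm]; exact hRS, fun x => by
      rw [hnorm]; exact hom_mem F h1 x, (autHom α).comp (Subgroup.inclusion hsup),
      restrict_mem F h1 hsup, fun x => ?_, ?_⟩
    · rfl
    · ext y
      rw [Helper85_Fusion.mem_map_subgroupOf]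
      constructor
      · rintro ⟨z, hz, hD, rfl⟩
        exact stronglyClosed_aut_mem hQ hRS hα ⟨z, hsup hD⟩ hz
      · intro hy
        have hα' : α⁻¹ ∈ F.autGroup R := (F.autGroup R).inv_mem hα
        have hz := stronglyClosed_aut_mem hQ hRS hα' ⟨y, hQR hy⟩ hy
        refine ⟨((α⁻¹ ⟨y, hQR hy⟩ : R) : Ω), hz, (le_sup_left : R ≤ R ⊔ Q) (α⁻¹ ⟨y, hQR hy⟩).2, ?_⟩
        show ((α (α⁻¹ ⟨y, hQR hy⟩) : R) : Ω) = y
        simp
  refine ⟨hQS, fun P φ hφ => ?_⟩
  have h1 := hsub P hφ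
  rw [hEhom] at h1
  obtain ⟨-, -, -, ψ, hψ, hext, himg⟩ := h1
  exact ⟨ψ, hψ, hext, himg⟩

/-! ### Automorphisms stabilizing an invariant chain lie in the `p`-core -/

/-- Let `R` be a finite `p`-group, `K` a group of automorphisms of `R` and `D 0 = ⊥, D 1, …, D m ≥ R` subgroups whose
intersections with `R` are invariant under `K`. An element `β` of `K` with `x⁻¹ β(x) ∈ D j` for all `x ∈ R ∩ D (j+1)`
lies in `O_p(K)`. -/
theorem mem_pCore_of_stabilizes_chain {R : Subgroup Ω} [Finite R] {p : ℕ} [Fact p.Prime]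
    (hR : IsPGroup p R) (K : Subgroup (MulAut R)) (D : ℕ → Subgroup Ω) (m : ℕ) (hD0 : D 0 = ⊥)
    (hDm : R ≤ D m)
    (hinv : ∀ j ≤ m, ∀ α ∈ K, ∀ x : R, (x : Ω) ∈ D j → ((α x : R) : Ω) ∈ D j)
    (β : MulAut R) (hβK : β ∈ K)
    (hβ : ∀ j < m, ∀ x : R, (x : Ω) ∈ D (j + 1) → (x : Ω)⁻¹ * ((β x : R) : Ω) ∈ D j) :
    β ∈ (pCore p K).map K.subtype := by
  classical
  -- the subgroup of `K` of elements stabilizing the chain
  let A : Subgroup K :=
    { carrier := {α | ∀ j < m, ∀ x : R, (x : Ω) ∈ D (j + 1) →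
        (x : Ω)⁻¹ * (((α : MulAut R) x : R) : Ω) ∈ D j}
      one_mem' := by
        intro j _ x _
        simp
      mul_mem' := by
        intro a b ha hb j hj x hx
        have h1 := hb j hj x hx
        have h2 := ha j hj x hx
        have h3 : ((((b : MulAut R) x : R)) : Ω) ∈ D (j + 1) := hinv (j + 1) (by omega) b b.2 x hx
        have h4 := ha j hj ((b : MulAut R) x) h3
        have h5 : (x : Ω)⁻¹ * ((((a * b : K) : MulAut R) x : R) : Ω) =
            ((x : Ω)⁻¹ * (((b : MulAut R) x : R) : Ω)) *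
              ((((b : MulAut R) x : R) : Ω)⁻¹ * (((a : MulAut R) ((b : MulAut R) x) : R) : Ω)) := by
          simp only [Subgroup.coe_mul, MulAut.mul_apply]
          group
        show (x : Ω)⁻¹ * ((((a * b : K) : MulAut R) x : R) : Ω) ∈ D j
        rw [h5]
        exact (D j).mul_mem h1 h4
      inv_mem' := by
        intro a ha j hj x hx
        have ha' : ((a⁻¹ : K) : MulAut R) ∈ K := (a⁻¹).2
        have h3 : (((((a⁻¹ : K) : MulAut R)) x : R) : Ω) ∈ D (j + 1) :=
          hinv (j + 1) (by omega) _ ha' x hx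
        have h4 := ha j hj (((a⁻¹ : K) : MulAut R) x) h3
        have h5 : ((a : MulAut R) (((a⁻¹ : K) : MulAut R) x)) = x := by
          simp
        rw [h5] at h4
        have h6 : (x : Ω)⁻¹ * (((((a⁻¹ : K) : MulAut R)) x : R) : Ω) =
            ((((((a⁻¹ : K) : MulAut R)) x : R) : Ω)⁻¹ * (x : Ω))⁻¹ := by group
        show (x : Ω)⁻¹ * (((((a⁻¹ : K) : MulAut R)) x : R) : Ω) ∈ D j
        rw [h6]
        exact (D j).inv_mem h4 }
  have hAmem : ∀ α : K, α ∈ A ↔ ∀ j < m, ∀ x : R, (x : Ω) ∈ D (j + 1) →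
      (x : Ω)⁻¹ * (((α : MulAut R) x : R) : Ω) ∈ D j := fun _ => Iff.rfl
  -- `A` is normal
  have hAn : A.Normal := by
    constructor
    intro a ha g
    rw [hAmem] at ha ⊢
    intro j hj x hx
    have hg' : ((g⁻¹ : K) : MulAut R) ∈ K := (g⁻¹).2
    have h1 : (((((g⁻¹ : K) : MulAut R)) x : R) : Ω) ∈ D (j + 1) :=
      hinv (j + 1) (by omega) _ hg' x hx
    have h2 := ha j hj _ h1
    -- apply `g`
    set w : R := ((g⁻¹ : K) : MulAut R) x with hw
    have h3 : (((g : MulAut R) (w⁻¹ * (a : MulAut R) w) : R) : Ω) ∈ D j :=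
      hinv j (by omega) g g.2 (w⁻¹ * (a : MulAut R) w) h2
    have h4 : (g : MulAut R) w = x := by
      rw [hw]
      simp
    have h5 : (x : Ω)⁻¹ * ((((g * a * g⁻¹ : K) : MulAut R) x : R) : Ω) =
        (((g : MulAut R) (w⁻¹ * (a : MulAut R) w) : R) : Ω) := by
      simp only [Subgroup.coe_mul, MulAut.mul_apply, map_mul, map_inv, h4]
      rfl
    rw [h5]
    exact h3
  -- `A` is a `p`-group
  have hAp : IsPGroup p A := by
    apply isPGroup_of_coprime_eq_one
    rintro ⟨⟨α, hαK⟩, hαA⟩ hcop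
    have hcop' : (orderOf α).Coprime p := by
      have h1 : orderOf (⟨⟨α, hαK⟩, hαA⟩ : A) = orderOf (⟨α, hαK⟩ : K) := Subgroup.orderOf_mk _ _
      have h2 : orderOf (⟨α, hαK⟩ : K) = orderOf α := Subgroup.orderOf_mk _ _
      rwa [h1, h2] at hcop
    have hα1 : α = 1 := by
      refine aut_eq_one_of_chain hR α hcop' (fun i => D (m - i)) m ?_ ?_ ?_
      · simpa using hDm
      · simpa using hD0
      · intro i hi x hx
        have h1 := (hAmem ⟨α, hαK⟩).1 hαA (m - i - 1) (by omega) x (by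
          have : m - i - 1 + 1 = m - i := by omega
          rw [this]
          exact hx)
        have h2 : m - (i + 1) = m - i - 1 := by omega
        simp only [h2]
        exact h1
    apply Subtype.ext
    apply Subtype.ext
    exact hα1
  have hle : A ≤ pCore p K := le_pCore' hAn hAp
  exact ⟨⟨β, hβK⟩, hle ((hAmem _).2 hβ), rfl⟩

/-! ### Elements normalizing a proper subgroup -/

/-- If `N` is normalized by `R`, both inside the finite `p`-group `S`, and `N` is not contained in `R`, then some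
element of `N` outside `R` normalizes `R`. -/
theorem exists_mem_normalizer_not_mem [Finite S] {p : ℕ} [Fact p.Prime] (hS : IsPGroup p S)
    {R N : Subgroup Ω} (hRS : R ≤ S) (hNS : N ≤ S) (hRN : R ≤ Subgroup.normalizer (N : Set Ω))
    (hNR : ¬ N ≤ R) : ∃ x ∈ N, x ∈ Subgroup.normalizer (R : Set Ω) ∧ x ∉ R := by
  have hHS : R ⊔ N ≤ S := sup_le hRS hNS
  have hfinH : Finite ↥(R ⊔ N) :=
    Finite.of_injective (Subgroup.inclusion hHS) (Subgroup.inclusion_injective hHS)
  have hHp : IsPGroup p ↥(R ⊔ N) := hS.to_le hHS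
  have hne : R ≠ R ⊔ N := by
    intro h
    apply hNR
    rw [h]
    exact le_sup_right
  have hlt := lt_normalizerIn (S := R ⊔ N) hHp le_sup_left hne
  obtain ⟨y, hyN, hyR⟩ := SetLike.exists_of_lt hlt
  have hyH : y ∈ R ⊔ N := hyN.1
  have hyn : y ∈ Subgroup.normalizer (R : Set Ω) := hyN.2
  have hmul : ((R ⊔ N : Subgroup Ω) : Set Ω) = (R : Set Ω) * (N : Set Ω) :=
    Subgroup.coe_mul_of_left_le_normalizer_right R N hRN
  have hy' : y ∈ (R : Set Ω) * (N : Set Ω) := by
    rw [← hmul]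
    exact hyH
  obtain ⟨r, hr, c, hc, rfl⟩ := Set.mem_mul.1 hy'
  refine ⟨c, hc, ?_, ?_⟩
  · have h1 : c = r⁻¹ * (r * c) := by group
    rw [h1]
    exact (Subgroup.normalizer (R : Set Ω)).mul_mem
      ((Subgroup.normalizer (R : Set Ω)).inv_mem (Subgroup.le_normalizer hr)) hyn
  · intro hcR
    exact hyR (R.mul_mem hr hcR)

end Cfsg.Agent.Lib.Helper87_Normal
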