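import Cfsg.Agent.Lib.Helper1_CRAG
import Cfsg.Agent.Lib.Helper1_SLFreeQd
import Cfsg.Agent.Lib.Helper85_GroupFusion
import Cfsg.Agent.S5249
import Cfsg.Agent.S5158

/-!
# The least centric radical subgroup controls strong fusion (helper1)

Assembly: local `SL₂(p)`-freeness gives `Qd(p)`-freeness, so the fusion system of `G` on `P` is
solvable (S5249) hence constrained (S5158); a normal centric subgroup of the fusion system is,
in group terms, a subgroup `Q₁` with `C_P(Q₁) ≤ Q₁` whose normalizer controls strong fusion.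
The largest "fusion-normal" subgroup `core p P` contains it, is centric, radical, and lies in
every centric radical subgroup.
-/

set_option autoImplicit false

namespace Cfsg.Agent.Lib.Helper1_CRFinal

open Subgroup Cfsg Cfsg.Agent.Lib.Helper1_CRBasic Cfsg.Agent.Lib.Helper1_CRLeast
  Cfsg.Agent.Lib.Helper1_CRAG

variable {G : Type*} [Group G]

/-- the statement's centric radical subgroups are `RC` -/
theorem RC_of_cr [Finite G] {p : ℕ} [Fact p.Prime] (P : Sylow p G) (R : Subgroup G)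
    (hRP : R ≤ (P : Subgroup G))
    (hsyl : ∃ T : Sylow p ↥(centralizer (R : Set G)),
      (T : Subgroup ↥(centralizer (R : Set G))).map (centralizer (R : Set G)).subtype =
        R ⊓ centralizer (R : Set G))
    (hrad : ∀ X : Subgroup G, X ≤ normalizer (R : Set G) →
      (∀ n ∈ normalizer (R : Set G), X.map (MulAut.conj n).toMonoidHom = X) →
      R ⊔ centralizer (R : Set G) ≤ X →
      (∃ k : ℕ, (R ⊔ centralizer (R : Set G)).relIndex X = p ^ k) →
      X = R ⊔ centralizer (R : Set G)) : RC p (P : Subgroup G) R := by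
  set C : Subgroup G := centralizer (R : Set G) with hC
  obtain ⟨T, hT⟩ := hsyl
  refine ⟨hRP, ?_, ?_⟩
  · have hTcentral : ∀ t ∈ (T : Subgroup ↥C), ∀ c : ↥C, c * t = t * c := by
      intro t ht c
      have htR : (t : G) ∈ R := by
        have h1 : (t : G) ∈ (T : Subgroup ↥C).map C.subtype := ⟨t, ht, rfl⟩
        rw [hT] at h1; exact h1.1
      apply Subtype.ext
      have h2 := (mem_centralizer_iff.mp c.2) (t : G) htR
      show (c : G) * (t : G) = (t : G) * (c : G)
      exact h2.symm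
    have hTn : (T : Subgroup ↥C).Normal := ⟨fun t ht c => by
      rw [hTcentral t ht c, mul_inv_cancel_right]; exact ht⟩
    intro x hx
    obtain ⟨k, hk⟩ := P.isPGroup' ⟨x, hx.1⟩
    have hk' : (⟨x, hx.2⟩ : ↥C) ^ p ^ k = 1 := by
      apply Subtype.ext
      have := congrArg Subtype.val hk
      simpa using this
    have hxp : IsPGroup p (zpowers (⟨x, hx.2⟩ : ↥C)) := by
      rintro ⟨y, hy⟩
      obtain ⟨n, rfl⟩ := mem_zpowers_iff.mp hy
      refine ⟨k, Subtype.ext ?_⟩
      show ((⟨x, hx.2⟩ : ↥C) ^ n) ^ p ^ k = 1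
      rw [← zpow_natCast, ← zpow_mul, mul_comm, zpow_mul, zpow_natCast, hk', one_zpow]
    obtain ⟨T₂, hT₂⟩ := hxp.exists_le_sylow
    obtain ⟨g, hg⟩ := MulAction.exists_smul_eq ↥C T T₂
    have : (T : Subgroup ↥C).Normal := hTn
    have hgT : g • T = T := Sylow.smul_eq_of_normal
    have hxT : (⟨x, hx.2⟩ : ↥C) ∈ (T : Subgroup ↥C) := by
      have : (⟨x, hx.2⟩ : ↥C) ∈ (T₂ : Subgroup ↥C) := hT₂ (mem_zpowers _)
      rw [← hg, hgT] at this
      exact this
    have hxm : x ∈ (T : Subgroup ↥C).map C.subtype := ⟨⟨x, hx.2⟩, hxT, rfl⟩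
    rw [hT] at hxm
    exact hxm.1
  · intro Y hYN hYinv hYpow
    set B : Subgroup G := R ⊔ C with hB
    have hNB : normalizer (R : Set G) ≤ normalizer (B : Set G) :=
      normalizer_le_normalizer_sup_centralizer R
    have hBN : B ≤ normalizer (R : Set G) := sup_le le_normalizer (centralizer_le_normalizer _)
    have hX1 : Y ⊔ B ≤ normalizer (R : Set G) := sup_le hYN hBN
    have hX2 : ∀ n ∈ normalizer (R : Set G), (Y ⊔ B).map (MulAut.conj n).toMonoidHom = Y ⊔ B := by
      intro n hn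
      apply map_conj_eq_of_le
      rw [Subgroup.map_sup]
      exact sup_le_sup (hYinv n hn) (map_conj_eq_of_mem_normalizer (hNB hn)).le
    have hX4 : ∃ k : ℕ, B.relIndex (Y ⊔ B) = p ^ k :=
      (hYpow.sup (hYN.trans hNB) le_rfl).relIndex_eq (hX1.trans hNB)
    have h := hrad (Y ⊔ B) hX1 hX2 le_sup_right hX4
    exact le_sup_left.trans h.le

/-- From the fusion-system results: a subgroup whose normalizer controls strong fusion and which
contains its centralizer in `P`. -/
theorem exists_ctrl_centric [Finite G] {p : ℕ} [Fact p.Prime] (hp : p ≠ 2) (P : Sylow p G)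
    (hqd : ¬ Cfsg.Involves ↥(Cfsg.qd p) G) :
    ∃ Q : Subgroup G, Ctrl (P : Subgroup G) Q ∧
      (P : Subgroup G) ⊓ centralizer (Q : Set G) ≤ Q := by
  have hsat := Cfsg.Agent.Lib.Helper85_GroupFusion.group_isSaturated P
  have hsolv := Cfsg.Agent.S5249.result hp hqd P
  have hcon := Cfsg.Agent.S5158.result p P.isPGroup' _ hsat hsolv
  obtain ⟨-, Q, hQn, hQc⟩ := hcon
  refine ⟨Q, ⟨hQn.1, ?_⟩, ?_⟩
  · intro A hA g hg
    have hφ : Cfsg.conjHom A g ∈ (Cfsg.groupFusionSystem (P : Subgroup G)).Hom A :=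
      ⟨hA, fun x => hg (conj_mem_map_conj x.2), g, fun x => rfl⟩
    obtain ⟨ψ, hψ, hext, hQmap⟩ := hQn.2 A (Cfsg.conjHom A g) hφ
    obtain ⟨-, -, g', hg'⟩ := hψ
    have hg'N : g' ∈ normalizer (Q : Set G) := by
      apply mem_normalizer_of_map_conj_le
      rw [map_conj_le_iff]
      intro q hq
      have hq' : q ∈ A ⊔ Q := (le_sup_right : Q ≤ A ⊔ Q) hq
      have h1 : ψ ⟨q, hq'⟩ ∈ (Q.subgroupOf (A ⊔ Q)).map ψ :=
        mem_map_of_mem ψ (by rw [mem_subgroupOf]; exact hq)
      rw [hQmap, hg'] at h1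
      exact h1
    have hconj : ∀ a ∈ A, g' * a * g'⁻¹ = g * a * g⁻¹ := by
      intro a ha
      have h1 := hext ⟨a, ha⟩
      rw [hg'] at h1
      exact h1
    refine ⟨g', hg'N, g'⁻¹ * g, ?_, by group⟩
    rw [mem_centralizer_iff]
    intro a ha
    have h1 := hconj a ha
    have h2 : g * a = g' * a * g'⁻¹ * g := by rw [h1]; group
    calc a * (g'⁻¹ * g) = g'⁻¹ * (g' * a * g'⁻¹ * g) := by group
      _ = g'⁻¹ * (g * a) := by rw [← h2]
      _ = g'⁻¹ * g * a := by group
  · have h1 : (Cfsg.groupFusionSystem (P : Subgroup G)).IsConj Q Q :=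
      ⟨Q.subtype, ⟨hQn.1, fun x => hQn.1 x.2, 1, fun x => by simp⟩, Q.range_subtype⟩
    exact hQc.2 Q h1

/-- The general form of S1953. -/
theorem main [Finite G] {p : ℕ} [Fact p.Prime] (hp : p ≠ 2) (P : Sylow p G)
    (hfree : ∀ Q : Subgroup G, IsPGroup p ↥Q → ¬ ∃ (H K : Subgroup G)
      (_ : (K.subgroupOf H).Normal), centralizer (Q : Set G) ≤ K ∧ K ≤ H ∧
      H ≤ normalizer (Q : Set G) ∧
      Nonempty ((↥H ⧸ K.subgroupOf H) ≃* Matrix.SpecialLinearGroup (Fin 2) (ZMod p)))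
    (cr : Subgroup G → Prop)
    (hcr : ∀ Q : Subgroup G, cr Q ↔ (Q ≤ (P : Subgroup G) ∧
      (∃ R : Sylow p ↥(centralizer (Q : Set G)),
        (R : Subgroup ↥(centralizer (Q : Set G))).map (centralizer (Q : Set G)).subtype =
          Q ⊓ centralizer (Q : Set G)) ∧
      ∀ X : Subgroup G, X ≤ normalizer (Q : Set G) →
        (∀ n ∈ normalizer (Q : Set G), X.map (MulAut.conj n).toMonoidHom = X) →
        Q ⊔ centralizer (Q : Set G) ≤ X →
        (∃ k : ℕ, (Q ⊔ centralizer (Q : Set G)).relIndex X = p ^ k) →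
        X = Q ⊔ centralizer (Q : Set G))) :
    ∃ Q : Subgroup G, cr Q ∧ (∀ R : Subgroup G, cr R → Q ≤ R) ∧
      (∀ x ∈ (P : Subgroup G), Q.map (MulAut.conj x).toMonoidHom = Q) ∧
      ∀ A : Subgroup G, A ≤ (P : Subgroup G) → ∀ g : G,
        A.map (MulAut.conj g).toMonoidHom ≤ (P : Subgroup G) →
        ∃ h ∈ normalizer (Q : Set G), ∃ c ∈ centralizer (A : Set G), g = h * c := by
  have hqd := Cfsg.Agent.Lib.Helper1_SLFreeQd.not_involves_qd hfree
  obtain ⟨Q₁, hctrl₁, hcent₁⟩ := exists_ctrl_centric hp P hqd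
  have hAG := agform P
  have hnorm₀ := norm_core p (P : Subgroup G)
  have hctrl₀ := hnorm₀.ctrl hAG
  have hle : Q₁ ≤ core p (P : Subgroup G) := (hctrl₁.norm P.isPGroup').le_core
  have hcent₀ : (P : Subgroup G) ⊓ centralizer ((core p (P : Subgroup G) : Subgroup G) : Set G) ≤
      core p (P : Subgroup G) := by
    intro x hx
    exact hle (hcent₁ ⟨hx.1, centralizer_le hle hx.2⟩)
  refine ⟨core p (P : Subgroup G), ?_, ?_, ?_, hctrl₀.2⟩
  · rw [hcr]
    exact ⟨hnorm₀.1, exists_sylow_centralizer P hnorm₀.1 hctrl₀.le_normalizer hcent₀,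
      fun X h1 h2 h3 h4 => core_radical P hAG hcent₀ X h1 h2 h3 h4⟩
  · intro R hR
    rw [hcr] at hR
    exact (hnorm₀.2.2 R (RC_of_cr P R hR.1 hR.2.1 hR.2.2)).1
  · intro x hx
    exact map_conj_eq_of_mem_normalizer (hctrl₀.le_normalizer hx)

end Cfsg.Agent.Lib.Helper1_CRFinal
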