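import Cfsg.Agent.Lib.Helper1_CRBasic

/-!
# The least centric radical subgroup (helper1), group-theoretic part

`P` a Sylow `p`-subgroup of the finite group `G`.

* `RC p P H`: `H ≤ P`, `C_P(H) ≤ H` and `O_p(N_G(H)/H C_G(H)) = 1` (element form);
* `Norm p P Q`: `Q ≤ P`, `N_G(P) ≤ N_G(Q)`, and `Q ≤ H`, `N_G(H) ≤ N_G(Q)` for all `RC` subgroups `H`;
* `Ctrl P Q`: `N_G(Q)` controls strong fusion in `P`.

`Ctrl → Norm` always; `Norm → Ctrl` under the Alperin–Goldschmidt hypothesis `AGform`.
The largest `Norm` subgroup `Q₀` is radical as soon as it is centric.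
-/

set_option autoImplicit false

namespace Cfsg.Agent.Lib.Helper1_CRLeast

open Subgroup Cfsg.Agent.Lib.Helper1_CRBasic

variable {G : Type*} [Group G]

/-- radical and centric, weak element form -/
def RC (p : ℕ) (P H : Subgroup G) : Prop :=
  H ≤ P ∧ P ⊓ centralizer (H : Set G) ≤ H ∧
  ∀ Y : Subgroup G, Y ≤ normalizer (H : Set G) →
    (∀ n ∈ normalizer (H : Set G), Y.map (MulAut.conj n).toMonoidHom ≤ Y) →
    PPowMod p Y (H ⊔ centralizer (H : Set G)) → Y ≤ H ⊔ centralizer (H : Set G)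

/-- normal in the fusion system, group-theoretic form -/
def Norm (p : ℕ) (P Q : Subgroup G) : Prop :=
  Q ≤ P ∧ normalizer (P : Set G) ≤ normalizer (Q : Set G) ∧
  ∀ H : Subgroup G, RC p P H → Q ≤ H ∧ normalizer (H : Set G) ≤ normalizer (Q : Set G)

/-- `N_G(Q)` controls strong fusion in `P` -/
def Ctrl (P Q : Subgroup G) : Prop :=
  Q ≤ P ∧ ∀ A : Subgroup G, A ≤ P → ∀ g : G, A.map (MulAut.conj g).toMonoidHom ≤ P →
    ∃ h ∈ normalizer (Q : Set G), ∃ c ∈ centralizer (A : Set G), g = h * c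

/-- the Alperin–Goldschmidt hypothesis in the form used here -/
def AGform (p : ℕ) (P : Subgroup G) : Prop :=
  ∀ A : Subgroup G, A ≤ P → ∀ g : G, (∀ a ∈ A, g⁻¹ * a * g ∈ P) →
    ∃ c ∈ centralizer (A : Set G), ∃ m : G, g = c * m ∧
      ∀ Q : Subgroup G, normalizer (P : Set G) ≤ normalizer (Q : Set G) →
        (∀ H : Subgroup G, RC p P H → normalizer (H : Set G) ≤ normalizer (Q : Set G)) →
        m ∈ normalizer (Q : Set G)

/-! ### Elementary consequences -/

theorem RC.inf_le {p : ℕ} {P H U : Subgroup G} (hH : RC p P H)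
    (hU : U ≤ H ⊔ centralizer (H : Set G)) : U ⊓ P ≤ H := by
  intro u hu
  have hHN : H ≤ normalizer ((centralizer (H : Set G) : Subgroup G) : Set G) :=
    le_normalizer.trans (normalizer_le_normalizer_centralizer H)
  obtain ⟨h, hh, c, hc, e⟩ := exists_mul_of_mem_sup hHN (hU hu.1)
  have hcP : c ∈ P := by
    have : c = h⁻¹ * u := by rw [e]; group
    rw [this]
    exact P.mul_mem (P.inv_mem (hH.1 hh)) hu.2
  rw [e]
  exact H.mul_mem hh (hH.2.1 ⟨hcP, hc⟩)

theorem Ctrl.normalizer_le {P Q : Subgroup G} (hQ : Ctrl P Q) :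
    normalizer (P : Set G) ≤ normalizer (Q : Set G) := by
  intro n hn
  have h1 : P.map (MulAut.conj n).toMonoidHom ≤ P := (map_conj_eq_of_mem_normalizer hn).le
  obtain ⟨h, hh, c, hc, rfl⟩ := hQ.2 P le_rfl n h1
  exact (normalizer (Q : Set G)).mul_mem hh
    (centralizer_le_normalizer _ (centralizer_le hQ.1 hc))

theorem Ctrl.le_normalizer {P Q : Subgroup G} (hQ : Ctrl P Q) : P ≤ normalizer (Q : Set G) :=
  Subgroup.le_normalizer.trans hQ.normalizer_le

/-- Step C: a controlling subgroup lies in every `RC` subgroup. -/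
theorem Ctrl.le_of_RC [Finite G] {p : ℕ} [Fact p.Prime] {P Q H : Subgroup G} (hP : IsPGroup p P)
    (hQ : Ctrl P Q) (hH : RC p P H) :
    Q ≤ H ∧ normalizer (H : Set G) ≤ normalizer (Q : Set G) := by
  have hdec : ∀ n ∈ normalizer (H : Set G), ∃ h ∈ normalizer (Q : Set G),
      ∃ c ∈ centralizer (H : Set G), n = h * c := by
    intro n hn
    have h1 : H.map (MulAut.conj n).toMonoidHom ≤ P :=
      (map_conj_eq_of_mem_normalizer hn).le.trans hH.1
    exact hQ.2 H hH.1 n h1
  set C : Subgroup G := centralizer (H : Set G) with hC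
  set N : Subgroup G := normalizer (H : Set G) with hN
  have hCN : C ≤ N := centralizer_le_normalizer _
  set U : Subgroup G := Q ⊓ N with hU
  have hUp : IsPGroup p U := hP.to_le (inf_le_left.trans hQ.1)
  have hUNC : U ≤ normalizer (C : Set G) :=
    inf_le_right.trans (normalizer_le_normalizer_centralizer H)
  have hY1 : U ⊔ C ≤ N := sup_le inf_le_right hCN
  have hY2 : ∀ n ∈ N, (U ⊔ C).map (MulAut.conj n).toMonoidHom ≤ U ⊔ C := by
    intro n hn
    rw [Subgroup.map_sup]
    apply sup_le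
    · rw [map_conj_le_iff]
      intro u hu
      obtain ⟨h, hh, c, hc, rfl⟩ := hdec n hn
      have hhN : h ∈ N := by
        have : h = (h * c) * c⁻¹ := by group
        rw [this]; exact N.mul_mem hn (N.inv_mem (hCN hc))
      have hc' : u⁻¹ * c * u * c⁻¹ ∈ C := by
        have := conj_mem_centralizer (inv_mem hu.2) hc
        rw [inv_inv] at this
        exact C.mul_mem this (C.inv_mem hc)
      have e : h * c * u * (h * c)⁻¹ = (h * u * h⁻¹) * (h * (u⁻¹ * c * u * c⁻¹) * h⁻¹) := by group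
      rw [e]
      refine (U ⊔ C).mul_mem ((le_sup_left : U ≤ U ⊔ C) ⟨?_, ?_⟩) ((le_sup_right : C ≤ U ⊔ C) ?_)
      · exact conj_mem_of_mem_normalizer hh hu.1
      · exact N.mul_mem (N.mul_mem hhN hu.2) (N.inv_mem hhN)
      · exact conj_mem_centralizer hhN hc'
    · rw [map_conj_le_iff]
      intro c hc
      exact (le_sup_right : C ≤ U ⊔ C) (conj_mem_centralizer hn hc)
  have hY3 : PPowMod p (U ⊔ C) (H ⊔ C) :=
    (PPowMod.of_isPGroup hUp (H ⊔ C)).sup hUNC le_sup_right
  have hY := hH.2.2 (U ⊔ C) hY1 hY2 hY3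
  have hUH : U ≤ H := by
    have h1 := hH.inf_le (le_sup_left.trans hY : U ≤ H ⊔ C)
    intro u hu
    exact h1 ⟨hu, hQ.1 hu.1⟩
  have hQH : Q ≤ H := by
    apply le_of_inf_normalizer_le (p := p) (hP.to_le (sup_le hQ.1 hH.1))
      (hH.1.trans hQ.le_normalizer) hUH
  refine ⟨hQH, ?_⟩
  intro n hn
  obtain ⟨h, hh, c, hc, rfl⟩ := hdec n hn
  exact (normalizer (Q : Set G)).mul_mem hh (centralizer_le_normalizer _ (centralizer_le hQH hc))

theorem Ctrl.norm [Finite G] {p : ℕ} [Fact p.Prime] {P Q : Subgroup G} (hP : IsPGroup p P)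
    (hQ : Ctrl P Q) : Norm p P Q :=
  ⟨hQ.1, hQ.normalizer_le, fun _ hH => hQ.le_of_RC hP hH⟩

theorem Norm.ctrl {p : ℕ} {P Q : Subgroup G} (hAG : AGform p P) (hQ : Norm p P Q) : Ctrl P Q := by
  refine ⟨hQ.1, ?_⟩
  intro A hA g hg
  have h1 : ∀ a ∈ A, g⁻¹⁻¹ * a * g⁻¹ ∈ P := by
    intro a ha
    rw [inv_inv]
    exact hg (conj_mem_map_conj ha)
  obtain ⟨c, hc, m, e, hm⟩ := hAG A hA g⁻¹ h1
  have hmQ := hm Q hQ.2.1 (fun H hH => (hQ.2.2 H hH).2)
  refine ⟨m⁻¹, inv_mem hmQ, c⁻¹, inv_mem hc, ?_⟩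
  have : g = (g⁻¹)⁻¹ := (inv_inv g).symm
  rw [this, e]; group

/-! ### The largest `Norm` subgroup -/

/-- the largest subgroup normal in the fusion system -/
def core (p : ℕ) (P : Subgroup G) : Subgroup G := sSup {Q | Norm p P Q}

theorem mem_normalizer_sSup [Finite G] {S : Set (Subgroup G)} {n : G}
    (h : ∀ Q ∈ S, n ∈ normalizer (Q : Set G)) : n ∈ normalizer ((sSup S : Subgroup G) : Set G) := by
  apply mem_normalizer_of_map_conj_le
  rw [map_le_iff_le_comap]
  apply sSup_le
  intro Q hQ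
  rw [← map_le_iff_le_comap]
  exact (map_conj_eq_of_mem_normalizer (h Q hQ)).le.trans (le_sSup hQ)

theorem norm_core [Finite G] (p : ℕ) (P : Subgroup G) : Norm p P (core p P) := by
  refine ⟨sSup_le fun Q hQ => hQ.1, ?_, ?_⟩
  · intro n hn
    exact mem_normalizer_sSup fun Q hQ => hQ.2.1 hn
  · intro H hH
    refine ⟨sSup_le fun Q hQ => (hQ.2.2 H hH).1, ?_⟩
    intro n hn
    exact mem_normalizer_sSup fun Q hQ => (hQ.2.2 H hH).2 hn

theorem Norm.le_core {p : ℕ} {P Q : Subgroup G} (hQ : Norm p P Q) : Q ≤ core p P := le_sSup hQ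

/-! ### Centric part -/

/-- `Z(Q)` is a Sylow `p`-subgroup of `C_G(Q)` when `C_P(Q) ≤ Q` and `P` normalizes `Q`. -/
theorem exists_sylow_centralizer [Finite G] {p : ℕ} [Fact p.Prime] (P : Sylow p G) {Q : Subgroup G}
    (hQP : Q ≤ P) (hPQ : (P : Subgroup G) ≤ normalizer (Q : Set G))
    (hcent : (P : Subgroup G) ⊓ centralizer (Q : Set G) ≤ Q) :
    ∃ R : Sylow p ↥(centralizer (Q : Set G)),
      (R : Subgroup ↥(centralizer (Q : Set G))).map (centralizer (Q : Set G)).subtype =
        Q ⊓ centralizer (Q : Set G) := by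
  set C : Subgroup G := centralizer (Q : Set G) with hC
  have hPC : (P : Subgroup G) ≤ normalizer (C : Set G) :=
    hPQ.trans (normalizer_le_normalizer_centralizer Q)
  have hidx := not_dvd_relIndex_inf_of_le_normalizer P C hPC
  have hp : IsPGroup p (((P : Subgroup G) ⊓ C).subgroupOf C) :=
    (P.isPGroup'.to_le inf_le_left).comap_subtype
  have hidx' : ¬ p ∣ (((P : Subgroup G) ⊓ C).subgroupOf C).index := hidx
  refine ⟨IsPGroup.toSylow hp hidx', ?_⟩
  rw [IsPGroup.toSylow_coe, subgroupOf_map_subtype]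
  apply le_antisymm
  · exact le_inf (inf_le_left.trans hcent) inf_le_right
  · exact le_inf (le_inf (inf_le_left.trans hQP) inf_le_right) inf_le_right

/-! ### Radical part -/

/-- an element of `C_G(Q) ∩ N_G(H)` has a `|Q|`-th power centralizing `H`, when `Q ≤ H ≤ P`,
`C_P(Q) ≤ Q` and `H ≤ N_G(Q)` -/
theorem pow_card_mem_centralizer [Finite G] {P Q H : Subgroup G} (hHP : H ≤ P)
    (hHQ : H ≤ normalizer (Q : Set G)) (hcent : P ⊓ centralizer (Q : Set G) ≤ Q)
    {z : G} (hzC : z ∈ centralizer (Q : Set G)) (hzN : z ∈ normalizer (H : Set G)) :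
    z ^ Nat.card Q ∈ centralizer (H : Set G) := by
  rw [mem_centralizer_iff]
  intro h hh
  set t : G := z * h * z⁻¹ * h⁻¹ with ht
  have htH : t ∈ H := H.mul_mem (conj_mem_of_mem_normalizer hzN hh) (H.inv_mem hh)
  have htC : t ∈ centralizer (Q : Set G) := by
    have h1 : h * z⁻¹ * h⁻¹ ∈ centralizer (Q : Set G) :=
      conj_mem_centralizer (hHQ hh) (inv_mem hzC)
    have : t = z * (h * z⁻¹ * h⁻¹) := by rw [ht]; group
    rw [this]
    exact mul_mem hzC h1
  have htQ : t ∈ Q := hcent ⟨hHP htH, htC⟩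
  have hzt : z * t = t * z := ((mem_centralizer_iff.mp hzC) t htQ).symm
  have key : ∀ m : ℕ, z ^ m * h = t ^ m * h * z ^ m := by
    intro m
    induction m with
    | zero => simp
    | succ m ih =>
      have hztm : z * t ^ m = t ^ m * z := by
        have : Commute z t := hzt
        exact (this.pow_right m).eq
      have e1 : z * h = t * h * z := by rw [ht]; group
      calc z ^ (m + 1) * h = z * (z ^ m * h) := by rw [pow_succ']; group
        _ = z * (t ^ m * h * z ^ m) := by rw [ih]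
        _ = (z * t ^ m) * h * z ^ m := by group
        _ = t ^ m * (z * h) * z ^ m := by rw [hztm]; group
        _ = t ^ m * (t * h * z) * z ^ m := by rw [e1]
        _ = t ^ (m + 1) * h * z ^ (m + 1) := by rw [pow_succ, pow_succ']; group
  have htpow : t ^ Nat.card Q = 1 := by
    have h1 : (⟨t, htQ⟩ : ↥Q) ^ Nat.card ↥Q = 1 := pow_card_eq_one'
    have h2 := congrArg Subtype.val h1
    exact h2
  have := key (Nat.card Q)
  rw [htpow, one_mul] at this
  exact this.symm

/-- The radical property of the largest `Norm` subgroup, given that it is centric. -/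
theorem core_radical [Finite G] {p : ℕ} [Fact p.Prime] (P : Sylow p G)
    (hAG : AGform p (P : Subgroup G))
    (hcent : (P : Subgroup G) ⊓ centralizer ((core p (P : Subgroup G) : Subgroup G) : Set G) ≤
      core p (P : Subgroup G))
    (X : Subgroup G) (hXN : X ≤ normalizer ((core p (P : Subgroup G) : Subgroup G) : Set G))
    (hXinv : ∀ n ∈ normalizer ((core p (P : Subgroup G) : Subgroup G) : Set G),
      X.map (MulAut.conj n).toMonoidHom = X)
    (hBX : core p (P : Subgroup G) ⊔ centralizer ((core p (P : Subgroup G) : Subgroup G) : Set G) ≤ X)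
    (hidx : ∃ k : ℕ, (core p (P : Subgroup G) ⊔
      centralizer ((core p (P : Subgroup G) : Subgroup G) : Set G)).relIndex X = p ^ k) :
    X = core p (P : Subgroup G) ⊔ centralizer ((core p (P : Subgroup G) : Subgroup G) : Set G) := by
  set Q₀ : Subgroup G := core p (P : Subgroup G) with hQ₀
  set C : Subgroup G := centralizer (Q₀ : Set G) with hC
  set B : Subgroup G := Q₀ ⊔ C with hB
  have hnorm : Norm p (P : Subgroup G) Q₀ := norm_core p _
  have hctrl : Ctrl (P : Subgroup G) Q₀ := hnorm.ctrl hAG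
  have hPp : IsPGroup p (P : Subgroup G) := P.isPGroup'
  have hQ₀P : Q₀ ≤ P := hnorm.1
  have hPN : (P : Subgroup G) ≤ normalizer (Q₀ : Set G) := hctrl.le_normalizer
  have hNB : normalizer (Q₀ : Set G) ≤ normalizer (B : Set G) :=
    normalizer_le_normalizer_sup_centralizer Q₀
  have hNC : normalizer (Q₀ : Set G) ≤ normalizer (C : Set G) :=
    normalizer_le_normalizer_centralizer Q₀
  obtain ⟨k, hk⟩ := hidx
  -- `X` is `p`-power modulo `C`
  have hXB : PPowMod p X B := by
    intro x hx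
    refine ⟨k, ?_⟩
    have hn : (B.subgroupOf X).Normal :=
      (normal_subgroupOf_iff_le_normalizer hBX).mpr (hXN.trans hNB)
    have := Subgroup.pow_index_mem (B.subgroupOf X) (⟨x, hx⟩ : ↥X)
    rw [mem_subgroupOf] at this
    have e : (B.subgroupOf X).index = p ^ k := hk
    rw [e] at this
    simpa using this
  have hBC : PPowMod p B C :=
    (PPowMod.of_isPGroup (hPp.to_le hQ₀P) C).sup (le_normalizer.trans hNC) le_rfl
  have hXC : PPowMod p X C := hXB.trans hBC
  obtain ⟨b, hb⟩ := IsPGroup.iff_card.mp (hPp.to_le hQ₀P)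
  -- `X ∩ P` is `Norm`
  set QX : Subgroup G := X ⊓ P with hQX
  have hXconj : ∀ n ∈ normalizer (Q₀ : Set G), ∀ x ∈ X, n * x * n⁻¹ ∈ X := by
    intro n hn x hx
    have := (hXinv n hn).le
    rw [map_conj_le_iff] at this
    exact this x hx
  have hQXnorm : Norm p (P : Subgroup G) QX := by
    refine ⟨inf_le_right, ?_, ?_⟩
    · intro n hn
      apply mem_normalizer_of_map_conj_le
      rw [map_conj_le_iff]
      intro x hx
      exact ⟨hXconj n (hnorm.2.1 hn) x hx.1, conj_mem_of_mem_normalizer hn hx.2⟩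
    · intro H hH
      obtain ⟨hQ₀H, hNH⟩ := hnorm.2.2 H hH
      set Y : Subgroup G := X ⊓ normalizer (H : Set G) with hY
      have hY1 : Y ≤ normalizer (H : Set G) := inf_le_right
      have hY2 : ∀ n ∈ normalizer (H : Set G), Y.map (MulAut.conj n).toMonoidHom ≤ Y := by
        intro n hn
        rw [map_conj_le_iff]
        intro y hy
        refine ⟨hXconj n (hNH hn) y hy.1, ?_⟩
        exact (normalizer (H : Set G)).mul_mem ((normalizer (H : Set G)).mul_mem hn hy.2)
          ((normalizer (H : Set G)).inv_mem hn)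
      have hY3 : PPowMod p Y (H ⊔ centralizer (H : Set G)) := by
        intro y hy
        obtain ⟨n, hn⟩ := hXC y hy.1
        refine ⟨n + b, ?_⟩
        have hz : (y ^ p ^ n) ^ Nat.card Q₀ ∈ centralizer (H : Set G) :=
          pow_card_mem_centralizer hH.1 (hH.1.trans hPN) hcent hn (pow_mem hy.2 _)
        rw [hb, ← pow_mul, ← pow_add] at hz
        exact (le_sup_right : centralizer (H : Set G) ≤ H ⊔ centralizer (H : Set G)) hz
      have hYle := hH.2.2 Y hY1 hY2 hY3
      have hYP := hH.inf_le hYle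
      have hQXN : QX ⊓ normalizer (H : Set G) ≤ H := by
        intro x hx
        exact hYP ⟨⟨hx.1.1, hx.2⟩, hx.1.2⟩
      have hPQX : (P : Subgroup G) ≤ normalizer (QX : Set G) := by
        intro x hx
        apply mem_normalizer_of_map_conj_le
        rw [map_conj_le_iff]
        intro y hy
        exact ⟨hXconj x (hPN hx) y hy.1,
          (P : Subgroup G).mul_mem ((P : Subgroup G).mul_mem hx hy.2) ((P : Subgroup G).inv_mem hx)⟩
      have hQXH : QX ≤ H :=
        le_of_inf_normalizer_le (p := p) (hPp.to_le (sup_le inf_le_right hH.1))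
          (hH.1.trans hPQX) hQXN
      refine ⟨hQXH, ?_⟩
      intro n hn
      apply mem_normalizer_of_map_conj_le
      rw [map_conj_le_iff]
      intro x hx
      exact ⟨hXconj n (hNH hn) x hx.1, hH.1 (conj_mem_of_mem_normalizer hn (hQXH hx))⟩
  have hQXQ₀ : QX ≤ Q₀ := hQXnorm.le_core
  -- the index is prime to `p`
  have hPX : (P : Subgroup G) ≤ normalizer (X : Set G) := by
    intro x hx
    apply mem_normalizer_of_map_conj_le
    exact (hXinv x (hPN hx)).le
  have hnd := not_dvd_relIndex_inf_of_le_normalizer P X hPX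
  have hle : (P : Subgroup G) ⊓ X ≤ B := by
    intro x hx
    exact (le_sup_left : Q₀ ≤ B) (hQXQ₀ ⟨hx.2, hx.1⟩)
  have hdvd : B.relIndex X ∣ ((P : Subgroup G) ⊓ X).relIndex X := relIndex_dvd_of_le_left X hle
  have hk0 : k = 0 := by
    by_contra hne
    apply hnd
    refine dvd_trans ?_ hdvd
    rw [hk]
    exact dvd_pow_self p hne
  rw [hk0, pow_zero] at hk
  exact le_antisymm (relIndex_eq_one.mp hk) hBX

end Cfsg.Agent.Lib.Helper1_CRLeast
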