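import Mathlib
import Cfsg.Agent.Lib.Helper1_D8Defs

set_option autoImplicit false

namespace Cfsg.Agent.Lib.Helper1_D8_CLDFS
open Cfsg Cfsg.Agent.Lib.Helper1_D8Defs

/-- a vector with four integer coordinates -/
structure V4 where
  a : ℤ
  b : ℤ
  c : ℤ
  d : ℤ
deriving DecidableEq

/-- the upper triangle of a symmetric `4 × 4` matrix -/
@[ext] structure S10 where
  d0 : ℤ
  d1 : ℤ
  d2 : ℤ
  d3 : ℤ
  o01 : ℤ
  o02 : ℤ
  o03 : ℤ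
  o12 : ℤ
  o13 : ℤ
  o23 : ℤ

/-- subtract `n` times the outer square of `v` -/
def S10.sub (s : S10) (n : ℕ) (v : V4) : S10 :=
  ⟨s.d0 - n * (v.a * v.a), s.d1 - n * (v.b * v.b), s.d2 - n * (v.c * v.c), s.d3 - n * (v.d * v.d),
   s.o01 - n * (v.a * v.b), s.o02 - n * (v.a * v.c), s.o03 - n * (v.a * v.d),
   s.o12 - n * (v.b * v.c), s.o13 - n * (v.b * v.d), s.o23 - n * (v.c * v.d)⟩

/-- all entries vanish -/
def S10.Z (s : S10) : Prop :=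
  s.d0 = 0 ∧ s.d1 = 0 ∧ s.d2 = 0 ∧ s.d3 = 0 ∧ s.o01 = 0 ∧ s.o02 = 0 ∧ s.o03 = 0 ∧ s.o12 = 0 ∧
    s.o13 = 0 ∧ s.o23 = 0

instance : DecidablePred S10.Z := fun s => by unfold S10.Z; infer_instance

/-- the necessary condition for a Gram matrix of vectors with entries `-1, 0, 1` -/
def S10.P (s : S10) : Prop :=
  0 ≤ s.d0 ∧ 0 ≤ s.d1 ∧ 0 ≤ s.d2 ∧ 0 ≤ s.d3 ∧
  s.o01 ≤ s.d0 ∧ -s.o01 ≤ s.d0 ∧ s.o01 ≤ s.d1 ∧ -s.o01 ≤ s.d1 ∧
  s.o02 ≤ s.d0 ∧ -s.o02 ≤ s.d0 ∧ s.o02 ≤ s.d2 ∧ -s.o02 ≤ s.d2 ∧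
  s.o03 ≤ s.d0 ∧ -s.o03 ≤ s.d0 ∧ s.o03 ≤ s.d3 ∧ -s.o03 ≤ s.d3 ∧
  s.o12 ≤ s.d1 ∧ -s.o12 ≤ s.d1 ∧ s.o12 ≤ s.d2 ∧ -s.o12 ≤ s.d2 ∧
  s.o13 ≤ s.d1 ∧ -s.o13 ≤ s.d1 ∧ s.o13 ≤ s.d3 ∧ -s.o13 ≤ s.d3 ∧
  s.o23 ≤ s.d2 ∧ -s.o23 ≤ s.d2 ∧ s.o23 ≤ s.d3 ∧ -s.o23 ≤ s.d3

instance : DecidablePred S10.P := fun s => by unfold S10.P; infer_instance

/-- exhaustive search: all lists of multiplicities `< 5` (one for each vector of the list) with total Gram matrix `s` -/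
def search : List V4 → S10 → List (List ℕ)
  | [], s => if s.Z then [[]] else []
  | v :: vs, s =>
    (List.range 5).flatMap fun n =>
      if (s.sub n v).P then (search vs (s.sub n v)).map (fun cs => n :: cs) else []

/-- the list of the 40 row types -/
def Wl : List V4 :=
  [⟨1, 1, 1, 1⟩, ⟨1, 1, 1, 0⟩, ⟨1, 1, 1, -1⟩, ⟨1, 1, 0, 1⟩, ⟨1, 1, 0, 0⟩, ⟨1, 1, 0, -1⟩, ⟨1, 1, -1, 1⟩,
   ⟨1, 1, -1, 0⟩, ⟨1, 1, -1, -1⟩, ⟨1, 0, 1, 1⟩, ⟨1, 0, 1, 0⟩, ⟨1, 0, 1, -1⟩, ⟨1, 0, 0, 1⟩, ⟨1, 0, 0, 0⟩,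
   ⟨1, 0, 0, -1⟩, ⟨1, 0, -1, 1⟩, ⟨1, 0, -1, 0⟩, ⟨1, 0, -1, -1⟩, ⟨1, -1, 1, 1⟩, ⟨1, -1, 1, 0⟩, ⟨1, -1, 1, -1⟩,
   ⟨1, -1, 0, 1⟩, ⟨1, -1, 0, 0⟩, ⟨1, -1, 0, -1⟩, ⟨1, -1, -1, 1⟩, ⟨1, -1, -1, 0⟩, ⟨1, -1, -1, -1⟩,
   ⟨0, 1, 1, 1⟩, ⟨0, 1, 1, 0⟩, ⟨0, 1, 1, -1⟩, ⟨0, 1, 0, 1⟩, ⟨0, 1, 0, 0⟩, ⟨0, 1, 0, -1⟩, ⟨0, 1, -1, 1⟩,
   ⟨0, 1, -1, 0⟩, ⟨0, 1, -1, -1⟩, ⟨0, 0, 1, 1⟩, ⟨0, 0, 1, 0⟩, ⟨0, 0, 1, -1⟩, ⟨0, 0, 0, 1⟩]

/-- the target: `gram` minus the contribution of the row `(1, 0, 1, 0)` -/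
def G0 : S10 := ⟨3, 4, 3, 4, 1, 1, 2, 2, 2, 1⟩


/-- the six solutions, in the order in which the search finds them (shapes 3, 2, 0, 4, 1, 5) -/
def sols : List (List ℕ) :=
  [[0, 0, 0, 1, 0, 0, 0, 0, 0, 0, 1, 0, 1, 0, 0, 0, 0, 0, 0, 0, 0, 0, 0, 0, 0, 0, 0, 1, 1, 0, 0, 1, 0, 0, 0, 0, 0, 0, 0, 1],
   [0, 0, 0, 1, 0, 0, 0, 0, 0, 1, 0, 0, 0, 1, 0, 0, 0, 0, 0, 0, 0, 0, 0, 0, 0, 0, 0, 0, 2, 0, 1, 0, 0, 0, 0, 0, 0, 0, 0, 1],
   [0, 1, 0, 0, 0, 0, 0, 0, 0, 0, 0, 0, 2, 0, 0, 0, 0, 0, 0, 0, 0, 0, 0, 0, 0, 0, 0, 1, 0, 0, 1, 1, 0, 0, 0, 0, 0, 1, 0, 0],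
   [1, 0, 0, 0, 0, 0, 0, 0, 0, 0, 0, 0, 1, 1, 0, 0, 0, 0, 0, 0, 0, 0, 0, 0, 0, 0, 0, 0, 1, 0, 1, 1, 0, 0, 0, 0, 0, 1, 0, 1],
   [1, 0, 0, 0, 0, 0, 0, 0, 0, 0, 0, 0, 1, 1, 0, 0, 0, 0, 0, 0, 0, 0, 0, 0, 0, 0, 0, 1, 0, 0, 0, 2, 0, 0, 0, 0, 0, 0, 1, 0],
   [1, 0, 0, 1, 0, 0, 0, 0, 0, 0, 0, 0, 0, 0, 0, 0, 0, 0, 0, 0, 0, 0, 1, 0, 0, 0, 0, 0, 1, 0, 0, 0, 0, 0, 0, 0, 0, 1, 0, 2]]

set_option maxRecDepth 100000 in
theorem search_eq : search Wl G0 = sols := by decide +kernel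

/-- add `n` times the outer square of `v` -/
def S10.add (s : S10) (n : ℕ) (v : V4) : S10 :=
  ⟨s.d0 + n * (v.a * v.a), s.d1 + n * (v.b * v.b), s.d2 + n * (v.c * v.c), s.d3 + n * (v.d * v.d),
   s.o01 + n * (v.a * v.b), s.o02 + n * (v.a * v.c), s.o03 + n * (v.a * v.d),
   s.o12 + n * (v.b * v.c), s.o13 + n * (v.b * v.d), s.o23 + n * (v.c * v.d)⟩

/-- the total Gram matrix of a list of vectors with multiplicities -/
def total : List V4 → List ℕ → S10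
  | v :: vs, n :: cs => (total vs cs).add n v
  | _, _ => ⟨0, 0, 0, 0, 0, 0, 0, 0, 0, 0⟩

theorem sub_add (s : S10) (n : ℕ) (v : V4) : (s.add n v).sub n v = s := by
  ext <;> simp [S10.add, S10.sub]

/-- entries `-1, 0, 1` -/
def Sm (x : ℤ) : Prop := x = -1 ∨ x = 0 ∨ x = 1

/-- all four entries are `-1, 0, 1` -/
def V4.Small (v : V4) : Prop := Sm v.a ∧ Sm v.b ∧ Sm v.c ∧ Sm v.d

theorem step_ineq (N x y : ℤ) (hN : 0 ≤ N) (hx : Sm x) (hy : Sm y) :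
    N * (x * y) ≤ N * (x * x) ∧ -(N * (x * y)) ≤ N * (x * x) ∧ N * (x * y) ≤ N * (y * y) ∧
      -(N * (x * y)) ≤ N * (y * y) ∧ 0 ≤ N * (x * x) ∧ 0 ≤ N * (y * y) := by
  rcases hx with rfl | rfl | rfl <;> rcases hy with rfl | rfl | rfl <;>
    refine ⟨?_, ?_, ?_, ?_, ?_, ?_⟩ <;> simp <;> linarith

theorem P_add (s : S10) (n : ℕ) (v : V4) (hs : s.P) (hv : v.Small) : (s.add n v).P := by
  have hN : (0 : ℤ) ≤ (n : ℤ) := Nat.cast_nonneg n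
  obtain ⟨ha, hb, hc, hd⟩ := hv
  have h01 := step_ineq n v.a v.b hN ha hb
  have h02 := step_ineq n v.a v.c hN ha hc
  have h03 := step_ineq n v.a v.d hN ha hd
  have h12 := step_ineq n v.b v.c hN hb hc
  have h13 := step_ineq n v.b v.d hN hb hd
  have h23 := step_ineq n v.c v.d hN hc hd
  simp only [S10.P, S10.add] at hs ⊢
  refine ⟨?_, ?_, ?_, ?_, ?_, ?_, ?_, ?_, ?_, ?_, ?_, ?_, ?_, ?_, ?_, ?_, ?_, ?_, ?_, ?_, ?_, ?_, ?_, ?_,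
    ?_, ?_, ?_, ?_⟩ <;> linarith [hs, h01, h02, h03, h12, h13, h23]

theorem P_total : ∀ (vs : List V4) (cs : List ℕ), (∀ v ∈ vs, v.Small) → (total vs cs).P := by
  intro vs
  induction vs with
  | nil => intro cs _; simp [total, S10.P]
  | cons v vs ih =>
    intro cs hv
    cases cs with
    | nil => simp [total, S10.P]
    | cons n cs =>
      simp only [total]
      exact P_add _ n v (ih cs (fun w hw => hv w (List.mem_cons_of_mem _ hw))) (hv v List.mem_cons_self)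

theorem mem_search : ∀ (vs : List V4) (cs : List ℕ) (s : S10), cs.length = vs.length →
    (∀ n ∈ cs, n < 5) → (∀ v ∈ vs, v.Small) → total vs cs = s → cs ∈ search vs s := by
  intro vs
  induction vs with
  | nil =>
    intro cs s hlen _ _ ht
    have hcs : cs = [] := List.length_eq_zero_iff.mp hlen
    subst hcs
    have hZ : s.Z := by
      rw [← ht]; simp [total, S10.Z]
    simp [search, hZ]
  | cons v vs ih =>
    intro cs s hlen hlt hv ht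
    cases cs with
    | nil => simp at hlen
    | cons n cs =>
      simp only [total] at ht
      have hsub : s.sub n v = total vs cs := by rw [← ht, sub_add]
      have hP : (s.sub n v).P := by
        rw [hsub]; exact P_total vs cs (fun w hw => hv w (List.mem_cons_of_mem _ hw))
      have hrec : cs ∈ search vs (s.sub n v) :=
        ih cs (s.sub n v) (by simpa using hlen) (fun k hk => hlt k (List.mem_cons_of_mem _ hk))
          (fun w hw => hv w (List.mem_cons_of_mem _ hw)) hsub.symm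
      simp only [search, List.mem_flatMap, List.mem_range]
      refine ⟨n, hlt n List.mem_cons_self, ?_⟩
      rw [if_pos hP]
      exact List.mem_map.mpr ⟨cs, hrec, rfl⟩

theorem total_ofFn : ∀ (n : ℕ) (f : Fin n → V4) (c : Fin n → ℕ),
    total (List.ofFn f) (List.ofFn c) =
      ⟨∑ t, (c t : ℤ) * ((f t).a * (f t).a), ∑ t, (c t : ℤ) * ((f t).b * (f t).b),
       ∑ t, (c t : ℤ) * ((f t).c * (f t).c), ∑ t, (c t : ℤ) * ((f t).d * (f t).d),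
       ∑ t, (c t : ℤ) * ((f t).a * (f t).b), ∑ t, (c t : ℤ) * ((f t).a * (f t).c),
       ∑ t, (c t : ℤ) * ((f t).a * (f t).d), ∑ t, (c t : ℤ) * ((f t).b * (f t).c),
       ∑ t, (c t : ℤ) * ((f t).b * (f t).d), ∑ t, (c t : ℤ) * ((f t).c * (f t).d)⟩ := by
  intro n
  induction n with
  | zero => intro f c; simp [total]
  | succ n ih =>
    intro f c
    rw [List.ofFn_succ, List.ofFn_succ]
    simp only [total]
    rw [ih]
    ext <;> simp [S10.add, Fin.sum_univ_succ, add_comm]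

theorem Wl_eq : Wl = List.ofFn (fun t : Fin 40 => (⟨W t 0, W t 1, W t 2, W t 3⟩ : V4)) := by
  decide +kernel

theorem Wl_small : ∀ v ∈ Wl, v.Small := by
  intro v hv
  simp only [Wl, List.mem_cons, List.not_mem_nil, or_false] at hv
  rcases hv with rfl | rfl | rfl | rfl | rfl | rfl | rfl | rfl | rfl | rfl | rfl | rfl | rfl | rfl | rfl | rfl |
    rfl | rfl | rfl | rfl | rfl | rfl | rfl | rfl | rfl | rfl | rfl | rfl | rfl | rfl | rfl | rfl | rfl | rfl | rfl |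
    rfl | rfl | rfl | rfl | rfl <;> simp [V4.Small, Sm]

/-- fibre counts of a type function -/
def K {n : ℕ} (T : Fin n → Fin 40) : Fin 40 → ℕ := fun t => (Finset.univ.filter (fun k => T k = t)).card

theorem sols_eq : sols = [List.ofFn (K T3), List.ofFn (K T2), List.ofFn (K T0), List.ofFn (K T4),
    List.ofFn (K T1), List.ofFn (K T5)] := by decide +kernel

/-- CL-DFS -/
theorem count_solutions (c : Fin 40 → ℕ)
    (h : ∀ j k, ∑ t, (c t : ℤ) * (W t j * W t k) =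
      gram j k - (![1, 0, 1, 0] : Fin 4 → ℤ) j * (![1, 0, 1, 0] : Fin 4 → ℤ) k) :
    (∀ t, c t = (Finset.univ.filter (fun k => T0 k = t)).card) ∨
    (∀ t, c t = (Finset.univ.filter (fun k => T1 k = t)).card) ∨
    (∀ t, c t = (Finset.univ.filter (fun k => T2 k = t)).card) ∨
    (∀ t, c t = (Finset.univ.filter (fun k => T3 k = t)).card) ∨
    (∀ t, c t = (Finset.univ.filter (fun k => T4 k = t)).card) ∨
    (∀ t, c t = (Finset.univ.filter (fun k => T5 k = t)).card) := by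
  -- bound on the multiplicities
  have hone : ∀ t : Fin 40, ∃ j, W t j * W t j = 1 := by decide
  have hdiag : ∀ j : Fin 4, gram j j - (![1, 0, 1, 0] : Fin 4 → ℤ) j * (![1, 0, 1, 0] : Fin 4 → ℤ) j ≤ 4 := by
    decide
  have hlt : ∀ t, c t < 5 := by
    intro t
    obtain ⟨j, hj⟩ := hone t
    have h1 : (c t : ℤ) * (W t j * W t j) ≤ ∑ t', (c t' : ℤ) * (W t' j * W t' j) :=
      Finset.single_le_sum (f := fun t' => (c t' : ℤ) * (W t' j * W t' j))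
        (fun t' _ => mul_nonneg (Nat.cast_nonneg _) (mul_self_nonneg _)) (Finset.mem_univ t)
    rw [h j j, hj, mul_one] at h1
    have := hdiag j
    have h2 : (c t : ℤ) ≤ 4 := le_trans h1 this
    omega
  have htot : total Wl (List.ofFn c) = G0 := by
    rw [Wl_eq, total_ofFn]
    simp only [h]
    simp [G0, gram]
  have hmem : List.ofFn c ∈ search Wl G0 := by
    apply mem_search Wl (List.ofFn c) G0
    · simp [Wl]
    · intro n hn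
      rw [List.mem_ofFn] at hn
      obtain ⟨t, rfl⟩ := hn
      exact hlt t
    · exact Wl_small
    · exact htot
  rw [search_eq, sols_eq] at hmem
  simp only [List.mem_cons, List.not_mem_nil, or_false] at hmem
  have key : ∀ {n : ℕ} (T : Fin n → Fin 40), List.ofFn c = List.ofFn (K T) →
      ∀ t, c t = (Finset.univ.filter (fun k => T k = t)).card := by
    intro n T hT t
    have := List.ofFn_injective hT
    rw [this]; rfl
  rcases hmem with h3 | h2 | h0 | h4 | h1 | h5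
  · exact Or.inr (Or.inr (Or.inr (Or.inl (key T3 h3))))
  · exact Or.inr (Or.inr (Or.inl (key T2 h2)))
  · exact Or.inl (key T0 h0)
  · exact Or.inr (Or.inr (Or.inr (Or.inr (Or.inl (key T4 h4)))))
  · exact Or.inr (Or.inl (key T1 h1))
  · exact Or.inr (Or.inr (Or.inr (Or.inr (Or.inr (key T5 h5)))))

end Cfsg.Agent.Lib.Helper1_D8_CLDFS
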