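import Mathlib
import Cfsg.Agent.Lib.Helper1_D8Defs

/-!
S3716 market (architect helper1), package CL-IDX: two maps with fibres of the same cardinalities differ by a
bijection.
-/

set_option autoImplicit false

namespace Cfsg.Agent.Lib.Helper60_D8_CLIDX
open Cfsg Cfsg.Agent.Lib.Helper1_D8Defs

/-- CL-IDX. -/
theorem fiber_equiv {A B T : Type*} [Fintype A] [Fintype B] [DecidableEq T] (f : A → T) (g : B → T)
    (h : ∀ t, (Finset.univ.filter (fun a => f a = t)).card = (Finset.univ.filter (fun b => g b = t)).card) :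
    ∃ e : B ≃ A, ∀ b, f (e b) = g b := by
  classical
  have hc : ∀ t, Fintype.card {b // g b = t} = Fintype.card {a // f a = t} := by
    intro t
    rw [Fintype.card_subtype, Fintype.card_subtype]
    exact (h t).symm
  let eqv : ∀ t, {b // g b = t} ≃ {a // f a = t} := fun t => Fintype.equivOfCardEq (hc t)
  let e : B ≃ A :=
    (Equiv.sigmaFiberEquiv g).symm.trans
      ((Equiv.sigmaCongrRight eqv).trans (Equiv.sigmaFiberEquiv f))
  refine ⟨e, fun b => ?_⟩
  show f ((eqv (g b) ⟨b, rfl⟩ : {a // f a = g b}) : A) = g b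
  exact (eqv (g b) ⟨b, rfl⟩).2

end Cfsg.Agent.Lib.Helper60_D8_CLIDX
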