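import Mathlib
import Cfsg.Agent.Lib.Helper1_D8Defs

/-!
S3716 market (architect helper1), package CL-ROW: every nonzero vector of `{-1, 0, 1}^4` is `± W t` for exactly
one row type `t`.
-/

set_option autoImplicit false

namespace Cfsg.Agent.Lib.Helper60_D8_CLROW
open Cfsg Cfsg.Agent.Lib.Helper1_D8Defs

/-- the three admissible values -/
def val3 : Fin 3 → ℤ := ![-1, 0, 1]

theorem row_type_fin : ∀ a b c d : Fin 3, ¬ (a = 1 ∧ b = 1 ∧ c = 1 ∧ d = 1) →
    ∃ t : Fin 40, (∀ j : Fin 4, ![val3 a, val3 b, val3 c, val3 d] j = W t j) ∨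
      (∀ j : Fin 4, ![val3 a, val3 b, val3 c, val3 d] j = -W t j) := by
  decide +kernel

theorem exists_val3 {x : ℤ} (h : x = -1 ∨ x = 0 ∨ x = 1) : ∃ a : Fin 3, x = val3 a := by
  rcases h with h | h | h
  · exact ⟨0, h⟩
  · exact ⟨1, h⟩
  · exact ⟨2, h⟩

/-- CL-ROW (first part). -/
theorem row_type (v : Fin 4 → ℤ) (hv : ∀ j, v j = -1 ∨ v j = 0 ∨ v j = 1) (h0 : v ≠ 0) :
    ∃ t : Fin 40, (∀ j, v j = W t j) ∨ (∀ j, v j = -W t j) := by
  obtain ⟨a, ha⟩ := exists_val3 (hv 0)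
  obtain ⟨b, hb⟩ := exists_val3 (hv 1)
  obtain ⟨c, hc⟩ := exists_val3 (hv 2)
  obtain ⟨d, hd⟩ := exists_val3 (hv 3)
  have hvec : ∀ j : Fin 4, v j = ![val3 a, val3 b, val3 c, val3 d] j := by
    intro j
    fin_cases j
    · exact ha
    · exact hb
    · exact hc
    · exact hd
  have hne : ¬ (a = 1 ∧ b = 1 ∧ c = 1 ∧ d = 1) := by
    rintro ⟨rfl, rfl, rfl, rfl⟩
    apply h0
    funext j
    rw [hvec j]
    fin_cases j <;> rfl
  obtain ⟨t, ht⟩ := row_type_fin a b c d hne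
  refine ⟨t, ?_⟩
  rcases ht with ht | ht
  · exact Or.inl (fun j => by rw [hvec j]; exact ht j)
  · exact Or.inr (fun j => by rw [hvec j]; exact ht j)

theorem row_type_unique_fin : ∀ t t' : Fin 40,
    ((∀ j : Fin 4, W t j = W t' j) ∨ (∀ j : Fin 4, W t j = -W t' j)) → t = t' := by
  decide +kernel

/-- CL-ROW (second part). -/
theorem row_type_unique (t t' : Fin 40)
    (h : (∀ j, W t j = W t' j) ∨ (∀ j, W t j = -W t' j)) : t = t' :=
  row_type_unique_fin t t' h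

end Cfsg.Agent.Lib.Helper60_D8_CLROW
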