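import Mathlib
import Cfsg.Agent.Lib.Helper1_D8Defs

/-!
# S3716 market (architect helper1), package CL-ENT (helper95)

The coordinates of four integer vectors with the Gram matrix `gram` are `-1, 0, 1`.
-/

set_option autoImplicit false

namespace Cfsg.Agent.Lib.Helper95_D8_CLENT

open Cfsg Cfsg.Agent.Lib.Helper1_D8Defs

/-- the partner column -/
def pj : Fin 4 → Fin 4 := ![1, 0, 3, 2]

theorem gram_diag (j : Fin 4) : gram j j = 4 := by fin_cases j <;> rfl

theorem gram_pj (j : Fin 4) : gram j (pj j) = 1 := by fin_cases j <;> rfl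

/-! ### CL-ENT: the coordinates are `-1, 0, 1` -/
theorem entries {I : Type*} [Fintype I] (m : I → Fin 4 → ℤ)
    (hG : ∀ j k, ∑ i, m i j * m i k = gram j k) :
    ∀ i j, m i j = -1 ∨ m i j = 0 ∨ m i j = 1 := by
  classical
  intro i₀ j
  have hcol : ∑ i, m i j * m i j = 4 := by rw [hG j j, gram_diag]
  have hsplit : ∑ i, m i j * m i j =
      m i₀ j * m i₀ j + ∑ i ∈ Finset.univ.erase i₀, m i j * m i j :=
    (Finset.add_sum_erase _ _ (Finset.mem_univ i₀)).symm
  have hnn : ∀ i ∈ Finset.univ.erase i₀, 0 ≤ m i j * m i j := fun i _ => mul_self_nonneg _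
  have hnn' : 0 ≤ ∑ i ∈ Finset.univ.erase i₀, m i j * m i j := Finset.sum_nonneg hnn
  have hle : m i₀ j * m i₀ j ≤ 4 := by linarith
  have hlo : -2 ≤ m i₀ j := by nlinarith
  have hhi : m i₀ j ≤ 2 := by nlinarith
  -- the two bad cases
  have hbad : m i₀ j * m i₀ j = 4 → False := by
    intro h4
    have hrest : ∑ i ∈ Finset.univ.erase i₀, m i j * m i j = 0 := by linarith
    have hz : ∀ i ∈ Finset.univ.erase i₀, m i j = 0 := by
      intro i hi
      have := (Finset.sum_eq_zero_iff_of_nonneg hnn).mp hrest i hi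
      exact mul_self_eq_zero.mp this
    have hp : ∑ i, m i j * m i (pj j) = 1 := by rw [hG j (pj j), gram_pj]
    have hsplit2 : ∑ i, m i j * m i (pj j) =
        m i₀ j * m i₀ (pj j) + ∑ i ∈ Finset.univ.erase i₀, m i j * m i (pj j) :=
      (Finset.add_sum_erase _ _ (Finset.mem_univ i₀)).symm
    have hrest2 : ∑ i ∈ Finset.univ.erase i₀, m i j * m i (pj j) = 0 := by
      apply Finset.sum_eq_zero
      intro i hi
      rw [hz i hi, zero_mul]
    have h1 : m i₀ j * m i₀ (pj j) = 1 := by linarith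
    have hdvd : m i₀ j ∣ 1 := ⟨_, h1.symm⟩
    have hunit := Int.isUnit_iff.mp (isUnit_of_dvd_one hdvd)
    rcases hunit with hu | hu <;> rw [hu] at h4 <;> norm_num at h4
  generalize hx : m i₀ j = x at *
  interval_cases x
  · exact absurd (by norm_num) hbad
  · left; rfl
  · right; left; rfl
  · right; right; rfl
  · exact absurd (by norm_num) hbad

end Cfsg.Agent.Lib.Helper95_D8_CLENT
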