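import Mathlib
import Cfsg.Agent.Lib.Helper1_D8Defs
import Cfsg.Agent.Lib.Helper95_D8_CLENT
import Cfsg.Agent.Lib.Helper60_D8_CLROW
import Cfsg.Agent.Lib.Helper60_D8_CLIDX
import Cfsg.Agent.Lib.Helper1_D8_CLDFS

/-!
# S3716, package CLASSIFY: four integer vectors with the Gram matrix `gram` and the row `(1,0,1,0)` have one of six shapes
-/

set_option autoImplicit false

namespace Cfsg.Agent.Lib.Helper1_D8_CLASSIFY
open Cfsg Cfsg.Agent.Lib.Helper1_D8Defs Cfsg.Agent.Lib

/-- CLASSIFY (assembly) -/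
theorem classify {I : Type*} [Fintype I] [DecidableEq I] (o : I) (d : I → ℕ) (_hd : ∀ i, 0 < d i)
    (m : I → Fin 4 → ℤ) (ho : m o = ![1, 0, 1, 0])
    (hG : ∀ j k, ∑ i, m i j * m i k = gram j k)
    (_hdeg : ∀ j, ∑ i, (d i : ℤ) * m i j = 0) :
    IsShape o m 7 R0 ∨ IsShape o m 7 R1 ∨ IsShape o m 7 R2 ∨ IsShape o m 7 R3 ∨ IsShape o m 8 R4 ∨
      IsShape o m 7 R5 := by
  classical
  have ent := Helper95_D8_CLENT.entries m hG
  -- the nonzero rows other than `o`
  let P : I → Prop := fun i => i ≠ o ∧ m i ≠ 0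
  have hrow : ∀ i' : Subtype P, ∃ t : Fin 40, (∀ j, m i'.1 j = W t j) ∨ (∀ j, m i'.1 j = -W t j) :=
    fun i' => Helper60_D8_CLROW.row_type (m i'.1) (ent i'.1) i'.2.2
  choose τ hτ using hrow
  let c : Fin 40 → ℕ := fun t => (Finset.univ.filter (fun i' : Subtype P => τ i' = t)).card
  have hsum : ∀ j k, ∑ t, (c t : ℤ) * (W t j * W t k) =
      gram j k - (![1, 0, 1, 0] : Fin 4 → ℤ) j * (![1, 0, 1, 0] : Fin 4 → ℤ) k := by
    intro j k
    rw [← hG j k, ← Finset.add_sum_erase Finset.univ _ (Finset.mem_univ o), ho]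
    rw [add_sub_cancel_left]
    -- restrict to the nonzero rows
    have h1 : ∑ i ∈ Finset.univ.erase o, m i j * m i k =
        ∑ i ∈ (Finset.univ.erase o).filter (fun i => m i ≠ 0), m i j * m i k := by
      symm
      apply Finset.sum_filter_of_ne
      intro i _ hne hz
      apply hne
      rw [hz]; simp
    have h2 : ∑ i ∈ (Finset.univ.erase o).filter (fun i => m i ≠ 0), m i j * m i k =
        ∑ i' : Subtype P, m i'.1 j * m i'.1 k := by
      apply Finset.sum_subtype
      intro i
      simp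
    have h3 : ∀ i' : Subtype P, m i'.1 j * m i'.1 k = W (τ i') j * W (τ i') k := by
      intro i'
      rcases hτ i' with h | h
      · rw [h j, h k]
      · rw [h j, h k]; ring
    rw [h1, h2, Finset.sum_congr rfl (fun i' _ => h3 i')]
    rw [← Finset.sum_fiberwise_of_maps_to (s := Finset.univ) (t := Finset.univ) (g := τ)
      (fun _ _ => Finset.mem_univ _)]
    apply Finset.sum_congr rfl
    intro t _
    rw [Finset.sum_congr rfl (fun i' hi' => by rw [(Finset.mem_filter.mp hi').2] :
      ∀ i' ∈ Finset.univ.filter (fun i' : Subtype P => τ i' = t),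
        W (τ i') j * W (τ i') k = W t j * W t k)]
    rw [Finset.sum_const, nsmul_eq_mul]
  have finish : ∀ (n : ℕ) (R : Fin n → Fin 4 → ℤ) (T : Fin n → Fin 40), (∀ k, W (T k) = R k) →
      (∀ t, c t = (Finset.univ.filter (fun k => T k = t)).card) → IsShape o m n R := by
    intro n R T hWT hc
    obtain ⟨e, he⟩ := Helper60_D8_CLIDX.fiber_equiv τ T hc
    refine ⟨fun k => (e k).1, fun k => if (∀ j, m (e k).1 j = W (τ (e k)) j) then 1 else -1,
      ?_, ?_, ?_, ?_, ?_⟩
    · exact Subtype.val_injective.comp e.injective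
    · intro k
      exact (e k).2.1
    · intro k
      by_cases h : ∀ j, m (e k).1 j = W (τ (e k)) j
      · left; simp only [if_pos h]
      · right; simp only [if_neg h]
    · intro k j
      by_cases h : ∀ j, m (e k).1 j = W (τ (e k)) j
      · simp only [if_pos h, one_mul]
        rw [h j, he k, hWT k]
      · simp only [if_neg h]
        rcases hτ (e k) with h' | h'
        · exact absurd h' h
        · rw [h' j, he k, hWT k]; ring
    · intro i hio hik j
      by_contra hne
      have hP : P i := ⟨hio, fun hz => hne (by rw [hz]; rfl)⟩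
      apply hik (e.symm ⟨i, hP⟩)
      simp
  rcases Helper1_D8_CLDFS.count_solutions c hsum with h | h | h | h | h | h
  · exact Or.inl (finish 7 R0 T0 (by decide) h)
  · exact Or.inr (Or.inl (finish 7 R1 T1 (by decide) h))
  · exact Or.inr (Or.inr (Or.inl (finish 7 R2 T2 (by decide) h)))
  · exact Or.inr (Or.inr (Or.inr (Or.inl (finish 7 R3 T3 (by decide) h))))
  · exact Or.inr (Or.inr (Or.inr (Or.inr (Or.inl (finish 8 R4 T4 (by decide) h)))))
  · exact Or.inr (Or.inr (Or.inr (Or.inr (Or.inr (finish 7 R5 T5 (by decide) h)))))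

end Cfsg.Agent.Lib.Helper1_D8_CLASSIFY
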