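import Mathlib
import Cfsg.Prelude.Def_Characters
import Cfsg.Agent.Lib.Helper80_CharBasic
import Cfsg.Agent.Lib.Helper1_D8Defs
import Cfsg.Agent.Lib.Helper73_H9_EQS

/-!
# S3716 package EQS (architect helper1, market `d8_packages`): auxiliary form  (helper42)

`eqs_aux` takes the two centralizer orders (package CENT for `h` and for `hyp_symm h`) and the two
class multiplication counts (package CNT for `h` and for `hyp_symm h`) as explicit hypotheses; the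
verbatim `eqs` is in `Helper42_D8_EQS`.  The class-algebra formula is `Helper73_H9_EQS.one_eq`
(from `S0840`).
-/

set_option autoImplicit false
open scoped ComplexConjugate

namespace Cfsg.Agent.Lib.Helper42_D8_EQSaux

open Cfsg Cfsg.Agent.Lib.Helper80_CharBasic Cfsg.Agent.Lib.Helper1_D8Defs

variable {G : Type*} [Group G] [Finite G]
variable {M : Subgroup G} {a b t1 t2 s : G}

omit [Finite G] in
/-- `(a b)(a b⁻¹) = a⁻¹` -/
theorem ab_mul (h : Hyp G M a b t1 t2 s) : a * b * (a * b⁻¹) = a⁻¹ := by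
  have h3 : a ^ 3 = 1 := by rw [← h.oa]; exact pow_orderOf_eq_one a
  have e : a * b * (a * b⁻¹) = a * (b * a) * b⁻¹ := by group
  rw [e, ← h.comm]
  apply eq_inv_of_mul_eq_one_left
  have e2 : a * (a * b) * b⁻¹ * a = a ^ 3 := by
    rw [pow_succ, pow_two]; group
  rw [e2, h3]

theorem eqs_aux (h : Hyp G M a b t1 t2 s) {d : IrrCharacter G → ℕ} {m : IrrCharacter G → Fin 4 → ℤ}
    (hv : Vals G a b t2 s d m)
    (hca : Nat.card (Subgroup.centralizer ({a} : Set G)) = 18)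
    (hcab : Nat.card (Subgroup.centralizer ({a * b} : Set G)) = 18)
    (hc1 : Nat.card {p : G × G // IsConj a p.1 ∧ IsConj a p.2 ∧ p.1 * p.2 = a * b} = 2)
    (hc2 : Nat.card {p : G × G // IsConj (a * b) p.1 ∧ IsConj (a * b) p.2 ∧
      p.1 * p.2 = a * b * (a * b⁻¹)} = 2) :
    (Nat.card G : ℚ) * ∑ᶠ χ : IrrCharacter G,
      (pv (m χ) : ℚ) ^ 2 * (qv (m χ) : ℚ) / (d χ : ℚ) = 648 ∧
    (Nat.card G : ℚ) * ∑ᶠ χ : IrrCharacter G,
      (pv (m χ) : ℚ) * (qv (m χ) : ℚ) ^ 2 / (d χ : ℚ) = 648 := by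
  have va : ∀ χ : IrrCharacter G, (χ : G → ℂ) a = (((pv (m χ) : ℤ) : ℚ) : ℂ) := by
    intro χ; rw [hv.va]; push_cast; rfl
  have vab : ∀ χ : IrrCharacter G, (χ : G → ℂ) (a * b) = (((qv (m χ) : ℤ) : ℚ) : ℂ) := by
    intro χ; rw [hv.vab]; push_cast; rfl
  have vc : ∀ χ : IrrCharacter G,
      (χ : G → ℂ) (a * b * (a * b⁻¹)) = (((pv (m χ) : ℤ) : ℚ) : ℂ) := by
    intro χ
    rw [ab_mul h, ← va χ, ← h.t1a]
    exact irr_conj χ a t1
  have E1 := Cfsg.Agent.Lib.Helper73_H9_EQS.one_eq hca hca hc1 hv.v1 va va vab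
  have E2 := Cfsg.Agent.Lib.Helper73_H9_EQS.one_eq hcab hcab hc2 hv.v1 vab vab vc
  constructor
  · have : ∑ᶠ χ : IrrCharacter G, (pv (m χ) : ℚ) ^ 2 * (qv (m χ) : ℚ) / (d χ : ℚ) =
        ∑ᶠ χ : IrrCharacter G, (pv (m χ) : ℚ) * (pv (m χ) : ℚ) * (qv (m χ) : ℚ) / (d χ : ℚ) :=
      finsum_congr fun χ => by rw [pow_two]
    rw [this, E1]; push_cast; norm_num
  · have : ∑ᶠ χ : IrrCharacter G, (pv (m χ) : ℚ) * (qv (m χ) : ℚ) ^ 2 / (d χ : ℚ) =
        ∑ᶠ χ : IrrCharacter G, (qv (m χ) : ℚ) * (qv (m χ) : ℚ) * (pv (m χ) : ℚ) / (d χ : ℚ) :=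
      finsum_congr fun χ => by rw [pow_two, mul_comm]
    rw [this, E2]; push_cast; norm_num

end Cfsg.Agent.Lib.Helper42_D8_EQSaux
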