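import Mathlib
import Cfsg.Agent.Lib.Helper1_D8Defs
import Cfsg.Agent.Lib.Helper80_CharBasic
import Cfsg.Agent.Lib.Helper5_H9_G333

/-!
# S3716, package L333 (helper53 for helper1): the (3,3,3)-lemma in the `Hyp` configuration of
`Helper1_D8Defs` (`N_G(M) = 3² : D₈`).

Self-contained: the two facts of package BASIC that are needed (`three_mem`, `cent_three`) are
re-proved here under the names `h53_three_mem`, `h53_cent_three`.
-/

set_option autoImplicit false
set_option linter.unusedSectionVars false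
open scoped ComplexConjugate

namespace Cfsg.Agent.Lib.Helper53_D8_L333

open Cfsg Cfsg.Agent.Lib.Helper80_CharBasic Cfsg.Agent.Lib.Helper1_D8Defs

section grp
variable {G : Type*} [Group G] [Finite G]

variable {M : Subgroup G} {a b t1 t2 s : G}

omit [Finite G] in
/-- the index of `M` in its normalizer is `8` -/
theorem h53_index_eq_eight (h : Hyp G M a b t1 t2 s) :
    (M.subgroupOf (Subgroup.normalizer (M : Set G))).index = 8 := by
  have hle : M ≤ Subgroup.normalizer (M : Set G) := Subgroup.le_normalizer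
  have h1 := Subgroup.card_mul_index (M.subgroupOf (Subgroup.normalizer (M : Set G)))
  have h2 : Nat.card (M.subgroupOf (Subgroup.normalizer (M : Set G))) = Nat.card M :=
    Nat.card_congr (Subgroup.subgroupOfEquivOfLe hle).toEquiv
  rw [h2, h.card, h.cardN] at h1
  omega

/-- the eighth power of an element of the normalizer lies in `M` -/
theorem h53_pow_eight_mem (h : Hyp G M a b t1 t2 s) {u : G}
    (hu : u ∈ Subgroup.normalizer (M : Set G)) : u ^ 8 ∈ M := by
  have h1 := Subgroup.pow_index_mem (M.subgroupOf (Subgroup.normalizer (M : Set G))) ⟨u, hu⟩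
  rw [h53_index_eq_eight h, Subgroup.mem_subgroupOf] at h1
  simpa using h1

/-- elements of order dividing `3` of the normalizer lie in `M` -/
theorem h53_three_mem (h : Hyp G M a b t1 t2 s) {u : G}
    (hu : u ∈ Subgroup.normalizer (M : Set G)) (hu3 : u ^ 3 = 1) : u ∈ M := by
  have h8 := h53_pow_eight_mem h hu
  have h64 : (u ^ 8) ^ 8 ∈ M := M.pow_mem h8 8
  have : (u ^ 8) ^ 8 = u := by
    rw [← pow_mul]
    have : u ^ (8 * 8) = (u ^ 3) ^ 21 * u := by rw [← pow_mul, ← pow_succ]
    rw [this, hu3, one_pow, one_mul]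
  rwa [this] at h64

theorem h53_cent_three (h : Hyp G M a b t1 t2 s) {t u : G} (ht : t ∈ M) (ht1 : t ≠ 1)
    (hut : u * t = t * u) (hu3 : u ^ 3 = 1) : u ∈ M := by
  refine h53_three_mem h (h.loc t ht ht1 ?_) hu3
  rw [Subgroup.mem_centralizer_iff]
  intro s hs
  rw [Set.mem_singleton_iff] at hs
  rw [hs, hut]

/-- every element of `M` has cube `1` -/
theorem h53_pow_three_of_mem (h : Hyp G M a b t1 t2 s) {t : G} (ht : t ∈ M) : t ^ 3 = 1 := by
  have hx3 : a ^ 3 = 1 := by rw [← h.oa]; exact pow_orderOf_eq_one a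
  have hy3 : b ^ 3 = 1 := by rw [← h.ob]; exact pow_orderOf_eq_one b
  have hxi3 : a⁻¹ ^ 3 = 1 := by rw [inv_pow, hx3, inv_one]
  have hyi3 : b⁻¹ ^ 3 = 1 := by rw [inv_pow, hy3, inv_one]
  have c1 : Commute a b := h.comm
  rcases (h.mem t).mp ht with rfl | rfl | rfl | rfl | rfl | rfl | rfl | rfl | rfl
  · exact one_pow 3
  · exact hx3
  · exact hxi3
  · exact hy3
  · exact hyi3
  · rw [c1.mul_pow, hx3, hy3, one_mul]
  · rw [(c1.inv_right).mul_pow, hx3, hyi3, one_mul]
  · rw [(c1.inv_left).mul_pow, hxi3, hy3, one_mul]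
  · rw [(c1.inv_inv).mul_pow, hxi3, hyi3, one_mul]

theorem lemma333 (h : Hyp G M a b t1 t2 s) {u v : G} (hu : u ^ 3 = 1) (hv : v ^ 3 = 1)
    (huv : u * v ∈ M) (huv1 : u * v ≠ 1) :
    (u ∈ M ∧ v ∈ M) ∨ (IsConj u v ∧ IsConj (u * v) u⁻¹) := by
  have huv3 : (u * v) ^ 3 = 1 := h53_pow_three_of_mem h huv
  rcases Cfsg.Agent.Lib.Helper5_H9_G333.gen333 hu hv huv3 with ⟨c, hc1, hc3, hcu, hcv⟩ | hconj
  · left
    have hct : c * (u * v) = (u * v) * c := by
      rw [← mul_assoc, hcu, mul_assoc, hcv, mul_assoc]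
    have hcT : c ∈ M := h53_cent_three h huv huv1 hct hc3
    exact ⟨h53_cent_three h hcT hc1 hcu.symm hu, h53_cent_three h hcT hc1 hcv.symm hv⟩
  · exact Or.inr hconj

end grp

end Cfsg.Agent.Lib.Helper53_D8_L333
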