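import Mathlib
import Cfsg.Agent.Lib.Helper1_D8Defs

/-!
# S3716, package NCONJ (market `d8_packages`, architect helper1): auxiliary form

`not_conj_of h hnc` : the statement of `not_conj` from `hnc : ¬ IsConj a (a * b)`;
`not_conj_of_conj_a h hca` : the same from the statement of `conj_a` (package FUS).
-/

set_option autoImplicit false

namespace Cfsg.Agent.Lib.Helper91_D8_NCONJaux
open Cfsg Cfsg.Agent.Lib.Helper1_D8Defs

variable {G : Type*} [Group G]
variable {M : Subgroup G} {a b t1 t2 s : G}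

theorem a_cube (h : Hyp G M a b t1 t2 s) : a ^ 3 = 1 := by
  rw [← h.oa]; exact pow_orderOf_eq_one a

theorem b_cube (h : Hyp G M a b t1 t2 s) : b ^ 3 = 1 := by
  rw [← h.ob]; exact pow_orderOf_eq_one b

theorem a_ne_one (h : Hyp G M a b t1 t2 s) : a ≠ 1 := by
  intro h1
  have := h.oa
  rw [h1, orderOf_one] at this
  omega

theorem b_ne_one (h : Hyp G M a b t1 t2 s) : b ≠ 1 := by
  intro h1
  have := h.ob
  rw [h1, orderOf_one] at this
  omega

theorem t2_ne_one (h : Hyp G M a b t1 t2 s) : t2 ≠ 1 := by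
  intro h1
  have h2 := h.t2b
  rw [h1] at h2
  simp only [one_mul, inv_one, mul_one] at h2
  -- b = b⁻¹
  have h3 : b * b = 1 := by
    nth_rewrite 1 [h2]; exact inv_mul_cancel b
  have h4 := b_cube h
  rw [pow_succ, pow_two, h3, one_mul] at h4
  exact b_ne_one h h4

theorem s_ne_one (h : Hyp G M a b t1 t2 s) : s ≠ 1 := by
  intro h1
  have h2 := h.sa
  rw [h1] at h2
  simp only [one_mul, inv_one, mul_one] at h2
  exact h.hne h2.symm

theorem t2_comm (h : Hyp G M a b t1 t2 s) : t2 * a = a * t2 := by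
  have h2 := h.t2a
  calc t2 * a = (t2 * a * t2⁻¹) * t2 := by group
    _ = a * t2 := by rw [h2]

theorem sa' (h : Hyp G M a b t1 t2 s) : s * a = b * s := by
  have h2 := h.sa
  calc s * a = (s * a * s⁻¹) * s := by group
    _ = b * s := by rw [h2]

theorem sb' (h : Hyp G M a b t1 t2 s) : s * b = a * s := by
  have h2 := h.sb
  calc s * b = (s * b * s⁻¹) * s := by group
    _ = a * s := by rw [h2]

theorem u_sq (h : Hyp G M a b t1 t2 s) : (a * t2) ^ 2 = a⁻¹ := by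
  have hc : Commute a t2 := (t2_comm h).symm
  rw [hc.mul_pow, pow_two t2, h.t2sq, mul_one]
  have := a_cube h
  calc a ^ 2 = a ^ 3 * a⁻¹ := by group
    _ = a⁻¹ := by rw [this, one_mul]

theorem u_cube (h : Hyp G M a b t1 t2 s) : (a * t2) ^ 3 = t2 := by
  have hc : Commute a t2 := (t2_comm h).symm
  rw [hc.mul_pow, a_cube h, one_mul, pow_succ, pow_two, h.t2sq, one_mul]

theorem ab_cube (h : Hyp G M a b t1 t2 s) : (a * b) ^ 3 = 1 := by
  have hc : Commute a b := h.comm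
  rw [hc.mul_pow, a_cube h, b_cube h, one_mul]

theorem ab_sq (h : Hyp G M a b t1 t2 s) : (a * b) ^ 2 = (a * b)⁻¹ := by
  have := ab_cube h
  rw [pow_succ (a * b) 2] at this
  exact eq_inv_of_mul_eq_one_left this

theorem v_sq (h : Hyp G M a b t1 t2 s) : (a * b * s) ^ 2 = (a * b)⁻¹ := by
  rw [← ab_sq h, pow_two, pow_two]
  calc a * b * s * (a * b * s) = a * b * (s * a) * b * s := by group
    _ = a * b * (b * s) * b * s := by rw [sa' h]
    _ = a * b * b * (s * b) * s := by group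
    _ = a * b * b * (a * s) * s := by rw [sb' h]
    _ = a * b * b * a * (s * s) := by group
    _ = a * b * (b * a) := by rw [h.ssq]; group
    _ = a * b * (a * b) := by rw [h.comm]

theorem v_cube (h : Hyp G M a b t1 t2 s) : (a * b * s) ^ 3 = s := by
  rw [pow_succ, v_sq h]
  group

theorem pow_eq_of_isConj {x y : G} (hxy : IsConj x y) (n : ℕ) : IsConj (x ^ n) (y ^ n) := by
  rw [isConj_iff] at hxy ⊢
  obtain ⟨c, hc⟩ := hxy
  exact ⟨c, by rw [← hc, conj_pow]⟩

theorem inv_isConj {x y : G} (hxy : IsConj x y) : IsConj x⁻¹ y⁻¹ := by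
  rw [isConj_iff] at hxy ⊢
  obtain ⟨c, hc⟩ := hxy
  exact ⟨c, by rw [← hc]; group⟩

theorem not_conj_of (h : Hyp G M a b t1 t2 s) (hnc : ¬ IsConj a (a * b)) :
    ¬ IsConj a (a * b) ∧ ¬ IsConj a (a * t2) ∧ ¬ IsConj a (a * b * s) ∧ ¬ IsConj (a * b) (a * t2) ∧
    ¬ IsConj (a * b) (a * b * s) ∧ ¬ IsConj (a * t2) (a * b * s) ∧
    ¬ IsConj (1 : G) a ∧ ¬ IsConj (1 : G) (a * b) ∧ ¬ IsConj (1 : G) (a * t2) ∧
    ¬ IsConj (1 : G) (a * b * s) := by
  have key : ∀ {x y : G}, x ^ 3 = 1 → y ^ 3 ≠ 1 → ¬ IsConj x y := by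
    intro x y hx hy hxy
    have h3 := pow_eq_of_isConj hxy 3
    rw [hx, isConj_one_right] at h3
    exact hy h3
  have hu3 : (a * t2) ^ 3 ≠ 1 := by rw [u_cube h]; exact t2_ne_one h
  have hv3 : (a * b * s) ^ 3 ≠ 1 := by rw [v_cube h]; exact s_ne_one h
  refine ⟨hnc, key (a_cube h) hu3, key (a_cube h) hv3, key (ab_cube h) hu3, key (ab_cube h) hv3,
    ?_, ?_, ?_, ?_, ?_⟩
  · intro hc
    have h2 := pow_eq_of_isConj hc 2
    rw [u_sq h, v_sq h] at h2
    have h3 := inv_isConj h2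
    rw [inv_inv, inv_inv] at h3
    exact hnc h3
  · rw [isConj_one_right]; exact a_ne_one h
  · rw [isConj_one_right]
    intro hab
    exact h.hne' (eq_inv_of_mul_eq_one_right hab)
  · exact key (one_pow 3) hu3
  · exact key (one_pow 3) hv3

theorem not_conj_of_conj_a (h : Hyp G M a b t1 t2 s)
    (hca : ∀ {t : G}, t ∈ M → (IsConj a t ↔ (t = a ∨ t = a⁻¹ ∨ t = b ∨ t = b⁻¹))) :
    ¬ IsConj a (a * b) ∧ ¬ IsConj a (a * t2) ∧ ¬ IsConj a (a * b * s) ∧ ¬ IsConj (a * b) (a * t2) ∧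
    ¬ IsConj (a * b) (a * b * s) ∧ ¬ IsConj (a * t2) (a * b * s) ∧
    ¬ IsConj (1 : G) a ∧ ¬ IsConj (1 : G) (a * b) ∧ ¬ IsConj (1 : G) (a * t2) ∧
    ¬ IsConj (1 : G) (a * b * s) := by
  refine not_conj_of h ?_
  intro hc
  have hmem : a * b ∈ M := by
    rw [h.mem]; right; right; right; right; right; left; rfl
  rcases (hca hmem).1 hc with h1 | h1 | h1 | h1
  · -- a * b = a
    exact b_ne_one h (mul_eq_left.mp h1)
  · -- a * b = a⁻¹ : b = a⁻¹ * a⁻¹ = a
    apply h.hne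
    have ha3 := a_cube h
    calc b = a⁻¹ * (a * b) := by group
      _ = a⁻¹ * a⁻¹ := by rw [h1]
      _ = a ^ 3 * (a⁻¹ * a⁻¹) := by rw [ha3, one_mul]
      _ = a := by group
  · -- a * b = b
    exact a_ne_one h (mul_eq_right.mp h1)
  · -- a * b = b⁻¹ : a = b⁻¹ * b⁻¹ = b
    apply h.hne
    have hb3 := b_cube h
    symm
    calc a = (a * b) * b⁻¹ := by group
      _ = b⁻¹ * b⁻¹ := by rw [h1]
      _ = b ^ 3 * (b⁻¹ * b⁻¹) := by rw [hb3, one_mul]
      _ = b := by group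

end Cfsg.Agent.Lib.Helper91_D8_NCONJaux
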