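import Mathlib
import Cfsg.Agent.Lib.Helper1_D8Defs
import Cfsg.Agent.Lib.Helper91_D8_NCONJaux
import Cfsg.Agent.Lib.Helper10_D8_FUS

/-!
# S3716, package NCONJ (market `d8_packages`, architect helper1): the five classes are distinct
-/

set_option autoImplicit false

namespace Cfsg.Agent.Lib.Helper91_D8_NCONJ
open Cfsg Cfsg.Agent.Lib.Helper80_CharBasic Cfsg.Agent.Lib.Helper1_D8Defs

variable {G : Type*} [Group G] [Finite G]
variable {M : Subgroup G} {a b t1 t2 s : G}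

/-! ### NCONJ: the five classes are distinct -/
theorem not_conj (h : Hyp G M a b t1 t2 s) :
    ¬ IsConj a (a * b) ∧ ¬ IsConj a (a * t2) ∧ ¬ IsConj a (a * b * s) ∧ ¬ IsConj (a * b) (a * t2) ∧
    ¬ IsConj (a * b) (a * b * s) ∧ ¬ IsConj (a * t2) (a * b * s) ∧
    ¬ IsConj (1 : G) a ∧ ¬ IsConj (1 : G) (a * b) ∧ ¬ IsConj (1 : G) (a * t2) ∧
    ¬ IsConj (1 : G) (a * b * s) :=
  Cfsg.Agent.Lib.Helper91_D8_NCONJaux.not_conj_of_conj_a h
    (fun ht => Cfsg.Agent.Lib.Helper10_D8_FUS.conj_a h ht)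

end Cfsg.Agent.Lib.Helper91_D8_NCONJ
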