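import Mathlib
import Cfsg.Agent.Lib.Helper1_D8Defs
import Cfsg.Agent.Lib.Helper53_D8_L333
import Cfsg.Agent.Lib.Helper10_D8_FUS
import Cfsg.Agent.Lib.Helper91_D8_NCONJ

/-!
# S3716 market `d8_packages` (architect helper1), package CNT (formalised by helper43)

The class multiplication count `a(K1, K1, K2) = 2`: the pairs `(p, q)` of conjugates of `a` with
`p q = a b` are `(a, b)` and `(b, a)`.  By the `(3,3,3)`-lemma either `p, q ∈ M ∩ K1 = {a^±, b^±}`
or `a b = p q ~ p⁻¹ ~ a`, which is impossible.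
`count_aux` takes L333 (`lemma333`), FUS (`conj_a`) and the first item of NCONJ as hypotheses.
-/

set_option autoImplicit false
set_option linter.unusedVariables false
set_option linter.unusedSectionVars false

namespace Cfsg.Agent.Lib.Helper43_D8_CNT

open Cfsg Cfsg.Agent.Lib.Helper80_CharBasic Cfsg.Agent.Lib.Helper1_D8Defs

variable {G : Type*} [Group G] {M : Subgroup G} {a b t1 t2 s : G}

theorem sq_eq_inv {x : G} (hx : x ^ 3 = 1) : x * x = x⁻¹ := by
  rw [eq_inv_iff_mul_eq_one, ← hx, pow_succ, pow_two]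

theorem cube_conj {x p : G} (hx : x ^ 3 = 1) (hp : IsConj x p) : p ^ 3 = 1 := by
  obtain ⟨g, hg⟩ := isConj_iff.mp hp
  rw [← hg, conj_pow, hx, mul_one, mul_inv_cancel]

theorem isConj_inv {x p : G} (hp : IsConj x p) : IsConj x⁻¹ p⁻¹ := by
  obtain ⟨g, hg⟩ := isConj_iff.mp hp
  rw [isConj_iff]
  refine ⟨g, ?_⟩
  rw [← hg]
  group

/-- CNT with L333, FUS and NCONJ (first item) as hypotheses. -/
theorem count_aux (h : Hyp G M a b t1 t2 s)
    (h333 : ∀ {u v : G}, u ^ 3 = 1 → v ^ 3 = 1 → u * v ∈ M → u * v ≠ 1 →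
      (u ∈ M ∧ v ∈ M) ∨ (IsConj u v ∧ IsConj (u * v) u⁻¹))
    (hca : ∀ {t : G}, t ∈ M → (IsConj a t ↔ (t = a ∨ t = a⁻¹ ∨ t = b ∨ t = b⁻¹)))
    (hnc : ¬ IsConj a (a * b)) :
    Nat.card {p : G × G // IsConj a p.1 ∧ IsConj a p.2 ∧ p.1 * p.2 = a * b} = 2 := by
  have ha3 : a ^ 3 = 1 := by rw [← h.oa]; exact pow_orderOf_eq_one a
  have hb3 : b ^ 3 = 1 := by rw [← h.ob]; exact pow_orderOf_eq_one b
  have ha1 : a ≠ 1 := by
    intro e
    have := h.oa
    rw [e, orderOf_one] at this
    omega
  have hb1 : b ≠ 1 := by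
    intro e
    have := h.ob
    rw [e, orderOf_one] at this
    omega
  have haa := sq_eq_inv ha3
  have hbb := sq_eq_inv hb3
  have hcomm := h.comm
  have hne := h.hne
  have hne' := h.hne'
  have haM : a ∈ M := (h.mem a).2 (Or.inr (Or.inl rfl))
  have hbM : b ∈ M := (h.mem b).2 (Or.inr (Or.inr (Or.inr (Or.inl rfl))))
  have hainvM : a⁻¹ ∈ M := M.inv_mem haM
  have habM : a * b ∈ M := M.mul_mem haM hbM
  have hab1 : a * b ≠ 1 := fun e => hne' (eq_inv_of_mul_eq_one_right e)
  have hcab : IsConj a b := (hca hbM).2 (Or.inr (Or.inr (Or.inl rfl)))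
  have hcainv : IsConj a a⁻¹ := (hca hainvM).2 (Or.inr (Or.inl rfl))
  -- the classification of the pairs
  have key : ∀ {p q : G}, IsConj a p → IsConj a q → p * q = a * b →
      (p = a ∧ q = b) ∨ (p = b ∧ q = a) := by
    intro p q hp hq hpq
    have hpqM : p * q ∈ M := by rw [hpq]; exact habM
    have hpq1 : p * q ≠ 1 := by rw [hpq]; exact hab1
    rcases h333 (cube_conj ha3 hp) (cube_conj ha3 hq) hpqM hpq1 with ⟨hpM, hqM⟩ | ⟨-, h2⟩
    · rcases (hca hpM).1 hp with e0 | e0 | e0 | e0
      · left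
        rw [e0] at hpq
        exact ⟨e0, mul_left_cancel hpq⟩
      · exfalso
        rw [e0] at hpq
        have hq' : q = a⁻¹ * b := by
          have : q = a * (a⁻¹ * q) := by group
          rw [hpq, ← mul_assoc, haa] at this
          exact this
        rcases (hca hqM).1 hq with e | e | e | e <;> rw [hq'] at e
        · -- a⁻¹ * b = a
          apply hne'
          have : b = a * (a⁻¹ * b) := by group
          rw [e, haa] at this
          exact this
        · -- a⁻¹ * b = a⁻¹
          apply hb1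
          have : b = a * (a⁻¹ * b) := by group
          rw [e, mul_inv_cancel] at this
          exact this
        · -- a⁻¹ * b = b
          apply ha1
          have : a⁻¹ = 1 := mul_right_cancel (b := b) (by rw [e, one_mul])
          exact inv_eq_one.mp this
        · -- a⁻¹ * b = b⁻¹
          apply hne'
          have : a⁻¹ = (a⁻¹ * b) * b⁻¹ := by group
          rw [e, ← mul_inv_rev, hbb, inv_inv] at this
          exact this.symm
      · right
        rw [e0, hcomm] at hpq
        exact ⟨e0, mul_left_cancel hpq⟩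
      · exfalso
        rw [e0] at hpq
        have hq' : q = a * b⁻¹ := by
          have : q = b * (b⁻¹ * q) := by group
          rw [hpq] at this
          rw [this, ← mul_assoc, ← hcomm, mul_assoc, hbb]
        rcases (hca hqM).1 hq with e | e | e | e <;> rw [hq'] at e
        · -- a * b⁻¹ = a
          apply hb1
          have : b⁻¹ = 1 := mul_left_cancel (a := a) (by rw [e, mul_one])
          exact inv_eq_one.mp this
        · -- a * b⁻¹ = a⁻¹
          apply hne'
          have : b⁻¹ = a⁻¹ * (a * b⁻¹) := by group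
          rw [e, ← mul_inv_rev, haa, inv_inv] at this
          exact inv_eq_iff_eq_inv.mp this
        · -- a * b⁻¹ = b
          apply hne'
          have : a = (a * b⁻¹) * b := by group
          rw [e, hbb] at this
          rw [this, inv_inv]
        · -- a * b⁻¹ = b⁻¹
          apply ha1
          exact mul_right_cancel (b := b⁻¹) (by rw [e, one_mul])
    · exfalso
      -- a * b = p * q ~ p⁻¹ ~ a⁻¹ ~ a
      rw [hpq] at h2
      have h3 : IsConj a⁻¹ p⁻¹ := isConj_inv hp
      exact hnc ((hcainv.trans h3).trans h2.symm)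
  rw [Nat.card_eq_two_iff]
  refine ⟨⟨(a, b), IsConj.refl a, hcab, rfl⟩, ⟨(b, a), hcab, IsConj.refl a, hcomm.symm⟩, ?_, ?_⟩
  · intro e
    rw [Subtype.mk.injEq, Prod.mk.injEq] at e
    exact hne e.1.symm
  · ext ⟨⟨p, q⟩, hp, hq, hpq⟩
    simp only [Set.mem_insert_iff, Set.mem_singleton_iff, Set.mem_univ, iff_true,
      Subtype.mk.injEq, Prod.mk.injEq]
    exact key hp hq hpq

section grp
variable {G : Type*} [Group G] [Finite G]
variable {M : Subgroup G} {a b t1 t2 s : G}

/-- CNT (verbatim): the class multiplication count. -/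
theorem count (h : Hyp G M a b t1 t2 s) :
    Nat.card {p : G × G // IsConj a p.1 ∧ IsConj a p.2 ∧ p.1 * p.2 = a * b} = 2 :=
  count_aux h
    (fun hu hv huv huv1 => Cfsg.Agent.Lib.Helper53_D8_L333.lemma333 h hu hv huv huv1)
    (fun ht => Cfsg.Agent.Lib.Helper10_D8_FUS.conj_a h ht)
    (Cfsg.Agent.Lib.Helper91_D8_NCONJ.not_conj h).1

end grp

end Cfsg.Agent.Lib.Helper43_D8_CNT
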