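import Mathlib
import Cfsg.Agent.Lib.Helper1_D8Defs

/-!
# S3716 market (architect helper1), package SYMM: the mirror symmetry of the configuration

`(a, b, t1, t2, s) ↦ (a b, a b⁻¹, t1 t2 s, s, t2)` maps `Hyp` to `Hyp`.
-/

set_option autoImplicit false
set_option linter.unusedSimpArgs false
set_option linter.unusedSectionVars false

namespace Cfsg.Agent.Lib.Helper86_D8_SYMM

open Cfsg Cfsg.Agent.Lib.Helper1_D8Defs Cfsg.Agent.Lib.Helper80_CharBasic

variable {G : Type*} [Group G] [Finite G]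

variable {M : Subgroup G} {a b t1 t2 s : G}

omit [Finite G] in
theorem conj_mul' (g x y : G) : g * (x * y) * g⁻¹ = (g * x * g⁻¹) * (g * y * g⁻¹) := by group

omit [Finite G] in
theorem conj_inv' (g x : G) : g * x⁻¹ * g⁻¹ = (g * x * g⁻¹)⁻¹ := by group

omit [Finite G] in
theorem conj3 (x y z w : G) :
    (x * y * z) * w * (x * y * z)⁻¹ = x * (y * (z * w * z⁻¹) * y⁻¹) * x⁻¹ := by group

omit [Finite G] in
theorem sq_of_order_three {x : G} (hx : orderOf x = 3) : x * x = x⁻¹ := by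
  have h3 : x ^ 3 = 1 := by rw [← hx]; exact pow_orderOf_eq_one x
  have : x * x * x = 1 := by rw [← h3, pow_succ, pow_two]
  exact eq_inv_of_mul_eq_one_left this

omit [Finite G] in
theorem ne_inv_of_order_three {x : G} (hx : orderOf x = 3) : x ≠ x⁻¹ := by
  intro e
  have h1 : x * x = 1 := by
    nth_rewrite 2 [e]
    exact mul_inv_cancel x
  have h2 : orderOf x ∣ 2 := orderOf_dvd_of_pow_eq_one (by rw [pow_two, h1])
  rw [hx] at h2
  exact absurd h2 (by decide)

/-! ### SYMM: the mirror symmetry of the configuration -/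
theorem hyp_symm (h : Hyp G M a b t1 t2 s) : Hyp G M (a * b) (a * b⁻¹) (t1 * t2 * s) s t2 := by
  have haa := sq_of_order_three h.oa
  have hbb := sq_of_order_three h.ob
  have hab := h.comm
  have hab' : a * b⁻¹ = b⁻¹ * a := by
    have : a * b⁻¹ = b⁻¹ * (b * a) * b⁻¹ := by group
    rw [this, ← hab]; group
  have ha'b : a⁻¹ * b = b * a⁻¹ := by
    have : a⁻¹ * b = a⁻¹ * (b * a) * a⁻¹ := by group
    rw [this, ← hab]; group
  have ha'b' : a⁻¹ * b⁻¹ = b⁻¹ * a⁻¹ := by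
    rw [← mul_inv_rev, ← mul_inv_rev, hab]
  have hsi : s⁻¹ = s := inv_eq_of_mul_eq_one_right h.ssq
  have ht1i : t1⁻¹ = t1 := inv_eq_of_mul_eq_one_right h.t1sq
  have ht2i : t2⁻¹ = t2 := inv_eq_of_mul_eq_one_right h.t2sq
  have hst1 : s * t1 = t2 * s := by
    have := h.st1
    rw [mul_inv_eq_iff_eq_mul] at this
    exact this
  have hst2 : s * t2 = t1 * s := by
    have e1 : s * t2 = s * (t2 * s) * s := by rw [mul_assoc, mul_assoc t2, h.ssq, mul_one]
    rw [e1, ← hst1, ← mul_assoc, h.ssq, one_mul]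
  -- reassociated rules
  have rs : ∀ x, s * (s * x) = x := fun x => by rw [← mul_assoc, h.ssq, one_mul]
  have rt1 : ∀ x, t1 * (t1 * x) = x := fun x => by rw [← mul_assoc, h.t1sq, one_mul]
  have rt2 : ∀ x, t2 * (t2 * x) = x := fun x => by rw [← mul_assoc, h.t2sq, one_mul]
  have rst1 : ∀ x, s * (t1 * x) = t2 * (s * x) := fun x => by
    rw [← mul_assoc, hst1, mul_assoc]
  have rst2 : ∀ x, s * (t2 * x) = t1 * (s * x) := fun x => by
    rw [← mul_assoc, hst2, mul_assoc]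
  have r21 : t2 * t1 = t1 * t2 := h.t12.symm
  have rr21 : ∀ x, t2 * (t1 * x) = t1 * (t2 * x) := fun x => by
    rw [← mul_assoc, r21, mul_assoc]
  -- orders
  have hab1 : a * b ≠ 1 := by
    intro e
    exact h.hne' (eq_inv_of_mul_eq_one_right e)
  have hab'1 : a * b⁻¹ ≠ 1 := by
    intro e
    have := eq_inv_of_mul_eq_one_right e
    exact h.hne (inv_injective this)
  have h3 : Fact (Nat.Prime 3) := ⟨Nat.prime_three⟩
  have hab3 : (a * b) ^ 3 = 1 := by
    have ha3 : a ^ 3 = 1 := by rw [← h.oa]; exact pow_orderOf_eq_one a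
    have hb3 : b ^ 3 = 1 := by rw [← h.ob]; exact pow_orderOf_eq_one b
    rw [(show Commute a b from hab).mul_pow, ha3, hb3, mul_one]
  have hab'3 : (a * b⁻¹) ^ 3 = 1 := by
    have ha3 : a ^ 3 = 1 := by rw [← h.oa]; exact pow_orderOf_eq_one a
    have hb3 : b ^ 3 = 1 := by rw [← h.ob]; exact pow_orderOf_eq_one b
    rw [(show Commute a b⁻¹ from hab').mul_pow, ha3, inv_pow, hb3, inv_one, mul_one]
  -- the nine elements
  have e1 : (a * b)⁻¹ = a⁻¹ * b⁻¹ := by rw [mul_inv_rev, ha'b']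
  have e2 : (a * b⁻¹)⁻¹ = a⁻¹ * b := by rw [mul_inv_rev, inv_inv, ha'b]
  have e3 : a * b * (a * b⁻¹) = a⁻¹ := by
    have : a * b * (a * b⁻¹) = a * (b * a) * b⁻¹ := by group
    rw [this, ← hab]
    have : a * (a * b) * b⁻¹ = a * a := by group
    rw [this, haa]
  have e4 : a * b * (a⁻¹ * b) = b⁻¹ := by
    have : a * b * (a⁻¹ * b) = a * (b * a⁻¹) * b := by group
    rw [this, ← ha'b]
    have : a * (a⁻¹ * b) * b = b * b := by group
    rw [this, hbb]
  have e5 : a⁻¹ * b⁻¹ * (a * b⁻¹) = b := by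
    have : a⁻¹ * b⁻¹ * (a * b⁻¹) = a⁻¹ * (b⁻¹ * a) * b⁻¹ := by group
    rw [this, ← hab']
    have : a⁻¹ * (a * b⁻¹) * b⁻¹ = (b * b)⁻¹ := by group
    rw [this, hbb, inv_inv]
  have e6 : a⁻¹ * b⁻¹ * (a⁻¹ * b) = a := by
    have : a⁻¹ * b⁻¹ * (a⁻¹ * b) = a⁻¹ * (b⁻¹ * a⁻¹) * b := by group
    rw [this, ← ha'b']
    have : a⁻¹ * (a⁻¹ * b⁻¹) * b = (a * a)⁻¹ := by group
    rw [this, haa, inv_inv]
  refine
    { card := h.card
      oa := orderOf_eq_prime hab3 hab1
      ob := orderOf_eq_prime hab'3 hab'1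
      comm := ?_
      hne := ?_
      hne' := ?_
      mem := ?_
      ht1 := Subgroup.mul_mem _ (Subgroup.mul_mem _ h.ht1 h.ht2) h.hs
      ht2 := h.hs
      hs := h.ht2
      t1sq := ?_
      t2sq := h.ssq
      ssq := h.t2sq
      t12 := ?_
      st1 := ?_
      t1a := ?_
      t1b := ?_
      t2a := ?_
      t2b := ?_
      sa := ?_
      sb := ?_
      cardN := h.cardN
      loc := h.loc }
  · -- comm
    have l : a * b * (a * b⁻¹) = a * (b * a) * b⁻¹ := by group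
    have r : a * b⁻¹ * (a * b) = a * (b⁻¹ * a) * b := by group
    rw [l, r, ← hab, ← hab']
    group
  · -- hne : a * b⁻¹ ≠ a * b
    intro e
    exact ne_inv_of_order_three h.ob (mul_left_cancel e).symm
  · -- hne' : a * b⁻¹ ≠ (a * b)⁻¹
    intro e
    rw [e1] at e
    exact ne_inv_of_order_three h.oa (mul_right_cancel e)
  · -- mem
    intro t
    rw [h.mem t, e1, e2, e3, e4, e5, e6]
    tauto
  · -- t1sq
    simp only [mul_assoc, rs, rt1, rt2, rst1, rst2, rr21, h.ssq, h.t1sq, h.t2sq, hst1, hst2, r21,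
      mul_one]
  · -- t12
    simp only [mul_assoc, rs, rt1, rt2, rst1, rst2, rr21, h.ssq, h.t1sq, h.t2sq, hst1, hst2, r21,
      mul_one]
  · -- st1
    rw [ht2i]
    simp only [mul_assoc, rs, rt1, rt2, rst1, rst2, rr21, h.ssq, h.t1sq, h.t2sq, hst1, hst2, r21,
      mul_one]
  · -- t1a
    rw [conj3, conj_mul' s, h.sa, h.sb, conj_mul' t2, h.t2b, h.t2a, conj_mul' t1, conj_inv' t1 b,
      h.t1b, h.t1a, mul_inv_rev]
  · -- t1b
    rw [conj3, conj_mul' s, conj_inv' s b, h.sa, h.sb, conj_mul' t2, conj_inv' t2 a, h.t2b, h.t2a,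
      conj_mul' t1, conj_inv' t1 b, conj_inv' t1 a, h.t1b, h.t1a, inv_inv, hab']
  · -- t2a
    rw [conj_mul' s, h.sa, h.sb, hab]
  · -- t2b
    rw [conj_mul' s, conj_inv' s b, h.sa, h.sb, mul_inv_rev, inv_inv]
  · -- sa
    rw [conj_mul' t2, h.t2a, h.t2b]
  · -- sb
    rw [conj_mul' t2, conj_inv' t2 b, h.t2a, h.t2b, inv_inv]

end Cfsg.Agent.Lib.Helper86_D8_SYMM
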