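import Mathlib
import Cfsg.Prelude.Def_Characters
import Cfsg.Agent.Lib.Helper80_CharBasic
import Cfsg.Agent.Lib.Helper1_D8Defs
import Cfsg.Agent.Lib.Helper86_D8_SYMM
import Cfsg.Agent.Lib.Helper10_D8_CENT
import Cfsg.Agent.Lib.Helper10_D8_FUS
import Cfsg.Agent.Lib.Helper53_D8_L333
import Cfsg.Agent.Lib.Helper91_D8_NCONJ
import Cfsg.Agent.Lib.Helper43_D8_CNT
import Cfsg.Agent.Lib.Helper42_D8_EQSaux

/-!
# S3716 package EQS (architect helper1, market `d8_packages`): verbatim `eqs`  (helper42)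

`eqs_aux` (`Helper42_D8_EQSaux`) with the centralizer orders from CENT (helper10) and the class
multiplication counts from CNT (helper43's `count_aux` with L333 / FUS / NCONJ), each for `h` and for
the mirror configuration `hyp_symm h` (SYMM, helper86).
-/

set_option autoImplicit false

namespace Cfsg.Agent.Lib.Helper42_D8_EQS

open Cfsg Cfsg.Agent.Lib.Helper80_CharBasic Cfsg.Agent.Lib.Helper1_D8Defs

variable {G : Type*} [Group G] [Finite G]
variable {M : Subgroup G} {a b t1 t2 s : G}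

/-- the class multiplication count (statement of package CNT), from helper43's `count_aux` -/
theorem count' (h : Hyp G M a b t1 t2 s) :
    Nat.card {p : G × G // IsConj a p.1 ∧ IsConj a p.2 ∧ p.1 * p.2 = a * b} = 2 :=
  Cfsg.Agent.Lib.Helper43_D8_CNT.count_aux h
    (fun hu hv huv huv1 => Cfsg.Agent.Lib.Helper53_D8_L333.lemma333 h hu hv huv huv1)
    (fun ht => Cfsg.Agent.Lib.Helper10_D8_FUS.conj_a h ht)
    (Cfsg.Agent.Lib.Helper91_D8_NCONJ.not_conj h).1

/-- **EQS** (statement of the package). -/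
theorem eqs (h : Hyp G M a b t1 t2 s) {d : IrrCharacter G → ℕ} {m : IrrCharacter G → Fin 4 → ℤ}
    (hv : Vals G a b t2 s d m) :
    (Nat.card G : ℚ) * ∑ᶠ χ : IrrCharacter G,
      (pv (m χ) : ℚ) ^ 2 * (qv (m χ) : ℚ) / (d χ : ℚ) = 648 ∧
    (Nat.card G : ℚ) * ∑ᶠ χ : IrrCharacter G,
      (pv (m χ) : ℚ) * (qv (m χ) : ℚ) ^ 2 / (d χ : ℚ) = 648 :=
  Cfsg.Agent.Lib.Helper42_D8_EQSaux.eqs_aux h hv
    (Cfsg.Agent.Lib.Helper10_D8_CENT.cent_a h).1
    (Cfsg.Agent.Lib.Helper10_D8_CENT.cent_a (Cfsg.Agent.Lib.Helper86_D8_SYMM.hyp_symm h)).1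
    (count' h) (count' (Cfsg.Agent.Lib.Helper86_D8_SYMM.hyp_symm h))

end Cfsg.Agent.Lib.Helper42_D8_EQS
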