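import Mathlib
import Cfsg.Agent.Lib.Helper1_D8Defs

/-!
# S3716, package ORD6 (helper65, architect helper1): the element `u = a t2` of order 6,
`u² = a⁻¹`, `u³ = t2`, `u ~ u⁻¹` (by `t1`), `C(u) = ⟨u⟩`.
`order_six_of` takes the second half of `cent_a` (package CENT) as a hypothesis.
-/

set_option autoImplicit false
set_option linter.unusedSectionVars false

namespace Cfsg.Agent.Lib.Helper65_D8_ORD6aux
open Cfsg Cfsg.Agent.Lib.Helper80_CharBasic Cfsg.Agent.Lib.Helper1_D8Defs

variable {G : Type*} [Group G] [Finite G]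
variable {M : Subgroup G} {a b t1 t2 s : G}

/-- ORD6 with the description of `C(a)` (second half of `cent_a`) as a hypothesis. -/
theorem order_six_of (h : Hyp G M a b t1 t2 s)
    (hcent : ∀ x : G, x * a = a * x ↔ (x ∈ M ∨ ∃ m ∈ M, x = m * t2)) :
    orderOf (a * t2) = 6 ∧ (a * t2) ^ 2 = a⁻¹ ∧ (a * t2) ^ 3 = t2 ∧ IsConj (a * t2) (a * t2)⁻¹ ∧
    Nat.card (Subgroup.centralizer ({a * t2} : Set G)) = 6 ∧
    ∀ x : G, x * (a * t2) = (a * t2) * x → x ∈ Subgroup.zpowers (a * t2) := by
  -- basic relations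
  have ha3 : a ^ 3 = 1 := by rw [← h.oa]; exact pow_orderOf_eq_one a
  have hb3 : b ^ 3 = 1 := by rw [← h.ob]; exact pow_orderOf_eq_one b
  have ha1 : a ≠ 1 := by
    intro h1
    have := h.oa
    rw [h1, orderOf_one] at this
    omega
  have hb1 : b ≠ 1 := by
    intro h1
    have := h.ob
    rw [h1, orderOf_one] at this
    omega
  have haa : a * a = a⁻¹ := by
    apply eq_inv_of_mul_eq_one_left
    rw [← ha3, pow_succ, pow_two]
  have hbb : b * b = b⁻¹ := by
    apply eq_inv_of_mul_eq_one_left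
    rw [← hb3, pow_succ, pow_two]
  have hbinv : b⁻¹ ≠ b := by
    intro h1
    apply hb1
    have : b * b = 1 := by
      nth_rewrite 1 [← h1]
      exact inv_mul_cancel b
    rw [hbb] at this
    exact inv_eq_one.mp this
  have ht2inv : t2⁻¹ = t2 := inv_eq_of_mul_eq_one_left h.t2sq
  have ht1inv : t1⁻¹ = t1 := inv_eq_of_mul_eq_one_left h.t1sq
  have hta : t2 * a = a * t2 := by
    have := h.t2a
    rw [mul_inv_eq_iff_eq_mul] at this
    exact this
  have htb : t2 * b = b⁻¹ * t2 := by
    have := h.t2b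
    rw [mul_inv_eq_iff_eq_mul] at this
    exact this
  have htai : t2 * a⁻¹ = a⁻¹ * t2 := by
    rw [← haa, ← mul_assoc, hta, mul_assoc, hta, ← mul_assoc]
  have htbi : t2 * b⁻¹ = b * t2 := by
    have h1 : t2 * b⁻¹ * t2⁻¹ = (t2 * b * t2⁻¹)⁻¹ := by group
    rw [h.t2b, inv_inv, mul_inv_eq_iff_eq_mul] at h1
    exact h1
  have ht21 : t2 ≠ 1 := by
    intro h1
    have := h.t2b
    rw [h1] at this
    simp at this
    exact hbinv this.symm
  -- powers of `u`
  have hu2 : (a * t2) ^ 2 = a⁻¹ := by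
    rw [pow_two, mul_assoc, ← mul_assoc t2, hta, mul_assoc, h.t2sq, mul_one, haa]
  have hu3 : (a * t2) ^ 3 = t2 := by
    rw [pow_succ, hu2, ← mul_assoc, inv_mul_cancel, one_mul]
  have hu4 : (a * t2) ^ 4 = a := by
    have : (a * t2) ^ 4 = ((a * t2) ^ 2) ^ 2 := by rw [← pow_mul]
    rw [this, hu2, pow_two, ← mul_inv_rev, haa, inv_inv]
  have hu5 : (a * t2) ^ 5 = a⁻¹ * t2 := by
    have : (a * t2) ^ 5 = (a * t2) ^ 2 * (a * t2) ^ 3 := by rw [← pow_add]
    rw [this, hu2, hu3]
  have hu6 : (a * t2) ^ 6 = 1 := by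
    have : (a * t2) ^ 6 = ((a * t2) ^ 3) ^ 2 := by rw [← pow_mul]
    rw [this, hu3, pow_two, h.t2sq]
  have hord : orderOf (a * t2) = 6 := by
    have hd : orderOf (a * t2) ∣ 6 := orderOf_dvd_of_pow_eq_one hu6
    have hle : orderOf (a * t2) ≤ 6 := Nat.le_of_dvd (by norm_num) hd
    have hpow := pow_orderOf_eq_one (a * t2)
    have h2' : ¬ orderOf (a * t2) ∣ 2 := by
      intro hd2
      have := orderOf_dvd_iff_pow_eq_one.mp hd2
      rw [hu2] at this
      exact ha1 (inv_eq_one.mp this)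
    have h3' : ¬ orderOf (a * t2) ∣ 3 := by
      intro hd3
      have := orderOf_dvd_iff_pow_eq_one.mp hd3
      rw [hu3] at this
      exact ht21 this
    interval_cases hn : orderOf (a * t2)
    · simp at hd
    · exact absurd (one_dvd 2) h2'
    · exact absurd (dvd_refl 2) h2'
    · exact absurd (dvd_refl 3) h3'
    · norm_num at hd
    · norm_num at hd
    · rfl
  -- elements of `M` commuting with `t2`
  have hMt : ∀ m ∈ M, m * t2 = t2 * m → m = 1 ∨ m = a ∨ m = a⁻¹ := by
    intro m hm hc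
    rcases (h.mem m).mp hm with rfl | rfl | rfl | rfl | rfl | rfl | rfl | rfl | rfl
    · exact Or.inl rfl
    · exact Or.inr (Or.inl rfl)
    · exact Or.inr (Or.inr rfl)
    · exfalso
      rw [htb] at hc
      exact hbinv (mul_right_cancel hc).symm
    · exfalso
      rw [htbi] at hc
      exact hbinv (mul_right_cancel hc)
    · exfalso
      rw [← mul_assoc, hta, mul_assoc, mul_assoc, htb] at hc
      exact hbinv (mul_right_cancel (mul_left_cancel hc)).symm
    · exfalso
      rw [← mul_assoc, hta, mul_assoc, mul_assoc, htbi] at hc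
      exact hbinv (mul_right_cancel (mul_left_cancel hc))
    · exfalso
      rw [← mul_assoc, htai, mul_assoc, mul_assoc, htb] at hc
      exact hbinv (mul_right_cancel (mul_left_cancel hc)).symm
    · exfalso
      rw [← mul_assoc, htai, mul_assoc, mul_assoc, htbi] at hc
      exact hbinv (mul_right_cancel (mul_left_cancel hc))
  -- the centralizer of `u`
  have hcu : ∀ x : G, x * (a * t2) = (a * t2) * x → x ∈ Subgroup.zpowers (a * t2) := by
    intro x hx
    have hcomm : Commute x (a * t2) := hx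
    have hxa' : Commute x ((a * t2) ^ 4) := hcomm.pow_right 4
    have hxt' : Commute x ((a * t2) ^ 3) := hcomm.pow_right 3
    rw [hu4] at hxa'
    rw [hu3] at hxt'
    have hxa : x * a = a * x := hxa'
    have hxt : x * t2 = t2 * x := hxt'
    have hp : ∀ n : ℕ, (a * t2) ^ n ∈ Subgroup.zpowers (a * t2) := fun n =>
      Subgroup.pow_mem _ (Subgroup.mem_zpowers _) n
    have hp2 := hp 2
    have hp3 := hp 3
    have hp4 := hp 4
    have hp5 := hp 5
    rw [hu2] at hp2
    rw [hu3] at hp3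
    rw [hu4] at hp4
    rw [hu5] at hp5
    rcases (hcent x).mp hxa with hxM | ⟨m, hm, hxm⟩
    · rcases hMt x hxM hxt with h1 | h1 | h1
      · rw [h1]; exact Subgroup.one_mem _
      · rw [h1]; exact hp4
      · rw [h1]; exact hp2
    · have hmt : m * t2 = t2 * m := by
        have h1 : m * t2 * t2 = t2 * (m * t2) := by rw [← hxm]; exact hxt
        rw [← mul_assoc] at h1
        exact mul_right_cancel h1
      rcases hMt m hm hmt with h1 | h1 | h1
      · rw [hxm, h1, one_mul]; exact hp3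
      · rw [hxm, h1]; exact Subgroup.mem_zpowers _
      · rw [hxm, h1]; exact hp5
  refine ⟨hord, hu2, hu3, ?_, ?_, hcu⟩
  · -- `t1` inverts `u`
    rw [isConj_iff]
    refine ⟨t1, ?_⟩
    have h1 : t1 * (a * t2) * t1⁻¹ = (t1 * a * t1⁻¹) * (t1 * t2 * t1⁻¹) := by group
    have h2 : t1 * t2 * t1⁻¹ = t2 := by
      rw [h.t12, mul_assoc, ht1inv, h.t1sq, mul_one]
    rw [h1, h.t1a, h2, mul_inv_rev, ht2inv, htai]
  · -- `|C(u)| = |⟨u⟩| = 6`
    have heq : Subgroup.centralizer ({a * t2} : Set G) = Subgroup.zpowers (a * t2) := by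
      apply le_antisymm
      · intro x hx
        rw [Subgroup.mem_centralizer_singleton_iff] at hx
        exact hcu x hx
      · rw [Subgroup.zpowers_le]
        rw [Subgroup.mem_centralizer_singleton_iff]
    rw [heq, Nat.card_zpowers, hord]

end Cfsg.Agent.Lib.Helper65_D8_ORD6aux
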