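import Mathlib
import Cfsg.Agent.Lib.Helper1_D8Defs

/-!
# S3716 market (architect helper1), package FSSQRT, hypothesis form

The numbers of square roots of `a` (four) and of `a t2` (none); `sqrt_counts_of` takes the statements of the packages
CENT (`cent_a`, second part) and ORD6 (`order_six`, first and last part) as hypotheses.
-/

set_option autoImplicit false
set_option linter.unusedSectionVars false

namespace Cfsg.Agent.Lib.Helper77_D8_FSSQRTaux

open Cfsg Cfsg.Agent.Lib.Helper80_CharBasic Cfsg.Agent.Lib.Helper1_D8Defs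

variable {G : Type*} [Group G] [Finite G] {M : Subgroup G} {a b t1 t2 s : G}

theorem a_cube (h : Hyp G M a b t1 t2 s) : a ^ 3 = 1 := by
  rw [← h.oa]; exact pow_orderOf_eq_one a

theorem b_cube (h : Hyp G M a b t1 t2 s) : b ^ 3 = 1 := by
  rw [← h.ob]; exact pow_orderOf_eq_one b

theorem a_ne_one (h : Hyp G M a b t1 t2 s) : a ≠ 1 := by
  intro ha
  have := h.oa
  rw [ha, orderOf_one] at this
  omega

theorem b_ne_one (h : Hyp G M a b t1 t2 s) : b ≠ 1 := by
  intro hb
  have := h.ob
  rw [hb, orderOf_one] at this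
  omega

theorem a_inv (h : Hyp G M a b t1 t2 s) : a⁻¹ = a ^ 2 := by
  have := a_cube h
  rw [inv_eq_iff_mul_eq_one, ← pow_succ']
  exact this

theorem b_inv (h : Hyp G M a b t1 t2 s) : b⁻¹ = b ^ 2 := by
  have := b_cube h
  rw [inv_eq_iff_mul_eq_one, ← pow_succ']
  exact this

theorem b_inv_ne (h : Hyp G M a b t1 t2 s) : b⁻¹ ≠ b := by
  intro hb
  apply b_ne_one h
  have h2 : b ^ 2 = b := by rw [← b_inv h]; exact hb
  have h3 := b_cube h
  have : b ^ 3 = b ^ 2 * b := pow_succ b 2
  rw [this, h2] at h3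
  have h4 : b * b = b := by rw [← pow_two]; exact h2
  rw [h4] at h3
  exact h3

/-- every element of `M` is `a ^ i * b ^ j` -/
theorem mem_form (h : Hyp G M a b t1 t2 s) {m : G} (hm : m ∈ M) :
    ∃ i j : ℕ, i < 3 ∧ j < 3 ∧ m = a ^ i * b ^ j := by
  have ha := a_inv h
  have hb := b_inv h
  rcases (h.mem m).mp hm with r | r | r | r | r | r | r | r | r
  · exact ⟨0, 0, by norm_num, by norm_num, by rw [r]; simp⟩
  · exact ⟨1, 0, by norm_num, by norm_num, by rw [r]; simp⟩
  · exact ⟨2, 0, by norm_num, by norm_num, by rw [r, ha]; simp⟩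
  · exact ⟨0, 1, by norm_num, by norm_num, by rw [r]; simp⟩
  · exact ⟨0, 2, by norm_num, by norm_num, by rw [r, hb]; simp⟩
  · exact ⟨1, 1, by norm_num, by norm_num, by rw [r]; simp⟩
  · exact ⟨1, 2, by norm_num, by norm_num, by rw [r, hb]; simp⟩
  · exact ⟨2, 1, by norm_num, by norm_num, by rw [r, ha]; simp⟩
  · exact ⟨2, 2, by norm_num, by norm_num, by rw [r, ha, hb]⟩

/-- elements of `M` have order dividing `3` -/
theorem mem_cube (h : Hyp G M a b t1 t2 s) {m : G} (hm : m ∈ M) : m ^ 3 = 1 := by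
  obtain ⟨i, j, -, -, rfl⟩ := mem_form h hm
  have hc : Commute (a ^ i) (b ^ j) := (Commute.pow_pow (show Commute a b from h.comm) i j)
  rw [hc.mul_pow, ← pow_mul, ← pow_mul, mul_comm i 3, mul_comm j 3, pow_mul, pow_mul, a_cube h,
    b_cube h, one_pow, one_pow, one_mul]

theorem t2_comm_a (h : Hyp G M a b t1 t2 s) : t2 * a = a * t2 := by
  have := h.t2a
  calc t2 * a = t2 * a * t2⁻¹ * t2 := by group
    _ = a * t2 := by rw [this]

theorem t2_b (h : Hyp G M a b t1 t2 s) : t2 * b = b⁻¹ * t2 := by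
  have := h.t2b
  calc t2 * b = t2 * b * t2⁻¹ * t2 := by group
    _ = b⁻¹ * t2 := by rw [this]

theorem t2_inv (h : Hyp G M a b t1 t2 s) : t2⁻¹ = t2 := by
  rw [inv_eq_iff_mul_eq_one]; exact h.t2sq

/-- `(a^i b^j t2)² = a^(2i)` -/
theorem sq_form (h : Hyp G M a b t1 t2 s) (i j : ℕ) :
    a ^ i * b ^ j * t2 * (a ^ i * b ^ j * t2) = a ^ (2 * i) := by
  have h1 : t2 * a ^ i = a ^ i * t2 := ((show Commute t2 a from t2_comm_a h).pow_right i).eq
  have h2 : t2 * b ^ j * t2⁻¹ = (b⁻¹) ^ j := by
    rw [← h.t2b, conj_pow]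
  have h3 : t2 * b ^ j = (b⁻¹) ^ j * t2 := by
    calc t2 * b ^ j = t2 * b ^ j * t2⁻¹ * t2 := by group
      _ = (b⁻¹) ^ j * t2 := by rw [h2]
  have hc : Commute (b ^ j) (a ^ i) := (Commute.pow_pow (show Commute a b from h.comm) i j).symm
  calc a ^ i * b ^ j * t2 * (a ^ i * b ^ j * t2)
      = a ^ i * b ^ j * (t2 * a ^ i) * b ^ j * t2 := by group
    _ = a ^ i * (b ^ j * a ^ i) * (t2 * b ^ j) * t2 := by rw [h1]; group
    _ = a ^ i * (a ^ i * b ^ j) * ((b⁻¹) ^ j * t2) * t2 := by rw [hc.eq, h3]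
    _ = a ^ i * a ^ i * (b ^ j * (b⁻¹) ^ j) * (t2 * t2) := by group
    _ = a ^ (2 * i) := by
      rw [h.t2sq, mul_one, inv_pow, mul_inv_cancel, mul_one, ← pow_add, two_mul]

theorem a_pow_four (h : Hyp G M a b t1 t2 s) : a ^ 4 = a := by
  have : a ^ 4 = a ^ 3 * a := pow_succ a 3
  rw [this, a_cube h, one_mul]

/-- `t2` does not commute with `b` -/
theorem t2_not_comm_b (h : Hyp G M a b t1 t2 s) : t2 * b ≠ b * t2 := by
  intro hc
  rw [t2_b h] at hc
  exact b_inv_ne h (mul_right_cancel hc)

/-- the square roots of `a` -/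
theorem sqrt_a_iff (h : Hyp G M a b t1 t2 s)
    (hcent : ∀ x : G, x * a = a * x ↔ (x ∈ M ∨ ∃ m ∈ M, x = m * t2)) (x : G) :
    x * x = a ↔ x = a⁻¹ ∨ x = a⁻¹ * t2 ∨ x = a⁻¹ * b * t2 ∨ x = a⁻¹ * b⁻¹ * t2 := by
  constructor
  · intro hx
    have hxa : x * a = a * x := by rw [← hx, mul_assoc]
    rcases (hcent x).mp hxa with hm | ⟨m, hm, rfl⟩
    · left
      have h3 := mem_cube h hm
      have h4 : a * x = 1 := by
        rw [← hx, ← h3, pow_succ, pow_two]
      exact eq_inv_of_mul_eq_one_right h4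
    · right
      obtain ⟨i, j, hi, hj, rfl⟩ := mem_form h hm
      rw [sq_form h i j] at hx
      have hi2 : i = 2 := by
        interval_cases i
        · exfalso
          rw [mul_zero, pow_zero] at hx
          exact a_ne_one h hx.symm
        · exfalso
          rw [mul_one, pow_two] at hx
          apply a_ne_one h
          have := congrArg (fun y => a⁻¹ * y) hx
          simpa using this
        · rfl
      subst hi2
      rw [← a_inv h]
      interval_cases j
      · left
        rw [pow_zero, mul_one]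
      · right; left
        rw [pow_one]
      · right; right
        rw [← b_inv h]
  · rintro (rfl | rfl | rfl | rfl)
    · rw [a_inv h, ← pow_add]
      exact a_pow_four h
    · have h1 := sq_form h 2 0
      rw [pow_zero, mul_one, ← a_inv h] at h1
      rw [h1]
      exact a_pow_four h
    · have h1 := sq_form h 2 1
      rw [pow_one, ← a_inv h] at h1
      rw [h1]
      exact a_pow_four h
    · have h1 := sq_form h 2 2
      rw [← a_inv h, ← b_inv h] at h1
      rw [h1]
      exact a_pow_four h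

/-- PK FSSQRT, with the statements of CENT and ORD6 as hypotheses -/
theorem sqrt_counts_of (h : Hyp G M a b t1 t2 s)
    (hcent : ∀ x : G, x * a = a * x ↔ (x ∈ M ∨ ∃ m ∈ M, x = m * t2))
    (hord : orderOf (a * t2) = 6)
    (hcyc : ∀ x : G, x * (a * t2) = (a * t2) * x → x ∈ Subgroup.zpowers (a * t2)) :
    Nat.card {x : G // x * x = a} = 4 ∧ Nat.card {x : G // x * x = a * t2} = 0 := by
  constructor
  · have hset : {x : G | x * x = a} = {a⁻¹, a⁻¹ * t2, a⁻¹ * b * t2, a⁻¹ * b⁻¹ * t2} := by
      ext x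
      simp only [Set.mem_ofPred_eq, Set.mem_insert_iff, Set.mem_singleton_iff]
      exact sqrt_a_iff h hcent x
    have ht1 : t2 ≠ 1 := by
      intro e
      apply t2_not_comm_b h
      rw [e, one_mul, mul_one]
    have hbt : b * t2 ≠ 1 := by
      intro e
      apply t2_not_comm_b h
      have : t2 = b⁻¹ := eq_inv_of_mul_eq_one_right e
      rw [this]; group
    have hbt' : b⁻¹ * t2 ≠ 1 := by
      intro e
      apply t2_not_comm_b h
      have : t2 = b := by
        have := eq_inv_of_mul_eq_one_right e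
        rwa [inv_inv] at this
      rw [this]
    have h12 : a⁻¹ ≠ a⁻¹ * t2 := by
      intro e
      apply ht1
      have := congrArg (fun y => a * y) e
      simpa using this.symm
    have h13 : a⁻¹ ≠ a⁻¹ * b * t2 := by
      intro e
      apply hbt
      have := congrArg (fun y => a * y) e
      simpa [mul_assoc] using this.symm
    have h14 : a⁻¹ ≠ a⁻¹ * b⁻¹ * t2 := by
      intro e
      apply hbt'
      have := congrArg (fun y => a * y) e
      simpa [mul_assoc] using this.symm
    have h23 : a⁻¹ * t2 ≠ a⁻¹ * b * t2 := by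
      intro e
      apply b_ne_one h
      have := mul_right_cancel e
      have := congrArg (fun y => a * y) this
      simpa using this.symm
    have h24 : a⁻¹ * t2 ≠ a⁻¹ * b⁻¹ * t2 := by
      intro e
      apply b_ne_one h
      have := mul_right_cancel e
      have := congrArg (fun y => a * y) this
      simpa using this.symm
    have h34 : a⁻¹ * b * t2 ≠ a⁻¹ * b⁻¹ * t2 := by
      intro e
      apply b_inv_ne h
      have := mul_right_cancel e
      have := congrArg (fun y => a * y) this
      simpa using this.symm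
    show Nat.card ↥{x : G | x * x = a} = 4
    rw [Nat.card_coe_set_eq, hset, Set.ncard_insert_of_notMem, Set.ncard_insert_of_notMem,
      Set.ncard_pair h34]
    · simp only [Set.mem_insert_iff, Set.mem_singleton_iff, not_or]
      exact ⟨h23, h24⟩
    · simp only [Set.mem_insert_iff, Set.mem_singleton_iff, not_or]
      exact ⟨h12, h13, h14⟩
  · rw [Nat.card_eq_zero]
    left
    constructor
    rintro ⟨x, hx⟩
    have hxu : x * (a * t2) = (a * t2) * x := by rw [← hx, mul_assoc]
    obtain ⟨k, rfl⟩ := Subgroup.mem_zpowers_iff.mp (hcyc x hxu)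
    have h1 : (a * t2) ^ (2 * k - 1) = 1 := by
      rw [zpow_sub, zpow_one, two_mul, zpow_add, hx, mul_inv_cancel]
    have h2 := (orderOf_dvd_iff_zpow_eq_one).mpr h1
    rw [hord] at h2
    omega

end Cfsg.Agent.Lib.Helper77_D8_FSSQRTaux
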