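import Cfsg.Agent.Lib.Helper81_CharSchur
import Cfsg.Agent.Lib.Helper80_CharBasic

/-!
# Frobenius–Schur: square-root counting and vanishing of the indicator for non-real characters
(helper81)
-/

set_option autoImplicit false

namespace Cfsg.Agent.Lib.Helper81_FrobSchur

open Cfsg Cfsg.Agent.Lib.Helper81_CharBasic Cfsg.Agent.Lib.Helper81_CharOrth
  Cfsg.Agent.Lib.Helper81_CharComplete Cfsg.Agent.Lib.Helper81_CharExpand
  Cfsg.Agent.Lib.Helper81_CharSchur

universe u

variable {G : Type u} [Group G]

section Dual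

variable {V : Type*} [AddCommGroup V] [Module ℂ V] [FiniteDimensional ℂ V]

/-- The bilinear averaging map `φ ↦ ∑ g, φ (ρ g v) • ρ g w` from the dual space. -/
noncomputable def dualAvg [Fintype G] (ρ : Representation ℂ G V) (v w : V) :
    Module.Dual ℂ V →ₗ[ℂ] V where
  toFun φ := ∑ g : G, φ (ρ g v) • ρ g w
  map_add' φ ψ := by
    simp only [LinearMap.add_apply, add_smul, Finset.sum_add_distrib]
  map_smul' c φ := by
    simp only [LinearMap.smul_apply, smul_eq_mul, RingHom.id_apply, Finset.smul_sum, mul_smul]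

omit [FiniteDimensional ℂ V] in
theorem dualAvg_apply [Fintype G] (ρ : Representation ℂ G V) (v w : V) (φ : Module.Dual ℂ V) :
    dualAvg ρ v w φ = ∑ g : G, φ (ρ g v) • ρ g w := rfl

omit [FiniteDimensional ℂ V] in
theorem dualAvg_intertwining [Fintype G] (ρ : Representation ℂ G V) (v w : V) (h : G) :
    (dualAvg ρ v w) ∘ₗ (ρ.dual h) = (ρ h) ∘ₗ (dualAvg ρ v w) := by
  ext φ
  simp only [LinearMap.coe_comp, Function.comp_apply, dualAvg_apply, map_sum, map_smul]
  refine Fintype.sum_equiv (Equiv.mulLeft h⁻¹) _ _ ?_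
  intro g
  simp only [Equiv.coe_mulLeft, Representation.dual_apply, Module.Dual.transpose_apply,
    LinearMap.coe_comp, Function.comp_apply, map_mul]
  simp only [Module.End.mul_apply]
  rw [← Module.End.mul_apply (ρ h) (ρ h⁻¹), ← map_mul, mul_inv_cancel, map_one, Module.End.one_apply]

/-- If an irreducible representation has a character that is not invariant under inversion, then
all the bilinear averages vanish. -/
theorem dualAvg_eq_zero [Fintype G] (ρ : Representation ℂ G V) [ρ.IsIrreducible]
    (hne : ∃ g : G, ρ.character g⁻¹ ≠ ρ.character g) (v w : V) : dualAvg ρ v w = 0 := by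
  let T : Representation.IntertwiningMap ρ.dual ρ := ⟨dualAvg ρ v w, dualAvg_intertwining ρ v w⟩
  rcases Representation.IsIrreducible.surjective_or_eq_zero (ρ := ρ) (σ := ρ.dual) T with hs | h0
  · exfalso
    obtain ⟨g, hg⟩ := hne
    have hfr : Module.finrank ℂ (Module.Dual ℂ V) = Module.finrank ℂ V :=
      Subspace.dual_finrank_eq
    have hinj : Function.Injective T.toLinearMap :=
      (LinearMap.injective_iff_surjective_of_finrank_eq_finrank hfr).mpr hs
    let e : Representation.Equiv ρ.dual ρ := Representation.IntertwiningMap.ofBijective T ⟨hinj, hs⟩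
    have := congrFun (Representation.char_iso e) g
    rw [Representation.char_dual] at this
    exact hg this
  · exact congrArg Representation.IntertwiningMap.toLinearMap h0

/-- The Frobenius–Schur sum vanishes for an irreducible character that is not invariant under
inversion. -/
theorem sum_char_sq_eq_zero [Fintype G] (ρ : Representation ℂ G V) [ρ.IsIrreducible]
    (hne : ∃ g : G, ρ.character g⁻¹ ≠ ρ.character g) :
    ∑ g : G, ρ.character (g * g) = 0 := by
  classical
  let b := Module.finBasis ℂ V
  have htr : ∀ A : Module.End ℂ V,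
      LinearMap.trace ℂ V A = ∑ i, b.coord i (A (b i)) := by
    intro A
    rw [LinearMap.trace_eq_matrix_trace ℂ b, Matrix.trace]
    refine Finset.sum_congr rfl fun i _ => ?_
    simp [LinearMap.toMatrix_apply]
  have h1 : ∀ g : G, ρ.character (g * g)
      = ∑ i, ∑ j, b.coord j (ρ g (b i)) * b.coord i (ρ g (b j)) := by
    intro g
    simp only [Representation.character, map_mul, htr, Module.End.mul_apply]
    refine Finset.sum_congr rfl fun i _ => ?_
    conv_lhs => rw [← b.sum_repr (ρ g (b i))]
    simp only [map_sum, map_smul, smul_eq_mul]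
    rfl
  simp only [h1]
  rw [Finset.sum_comm]
  refine Finset.sum_eq_zero fun i _ => ?_
  rw [Finset.sum_comm]
  refine Finset.sum_eq_zero fun j _ => ?_
  have := congrArg (fun T : Module.Dual ℂ V →ₗ[ℂ] V => b.coord i (T (b.coord j)))
    (dualAvg_eq_zero ρ hne (b i) (b j))
  simp only [dualAvg_apply, map_sum, map_smul, smul_eq_mul, LinearMap.zero_apply, map_zero] at this
  exact this

end Dual

/-- If the Frobenius–Schur sum of an irreducible character is nonzero then the character is
invariant under inversion. -/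
theorem irr_inv_eq_of_sum_sq_ne_zero [Fintype G] (χ : IrrCharacter G)
    (h : ∑ g : G, (χ : G → ℂ) (g * g) ≠ 0) (g : G) : (χ : G → ℂ) g⁻¹ = (χ : G → ℂ) g := by
  by_contra hg
  obtain ⟨χ, n, ρ, hρ, rfl⟩ := χ
  haveI := hρ
  exact h (sum_char_sq_eq_zero ρ ⟨g, hg⟩)

/-- If the Frobenius–Schur sum of an irreducible character is nonzero then the character is
real-valued. -/
theorem irr_real_of_sum_sq_ne_zero [Fintype G] (χ : IrrCharacter G)
    (h : ∑ g : G, (χ : G → ℂ) (g * g) ≠ 0) (g : G) : ((χ : G → ℂ) g).im = 0 := by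
  have h1 := irr_inv_eq_of_sum_sq_ne_zero χ h g
  rw [Cfsg.Agent.Lib.Helper80_CharBasic.irr_inv] at h1
  exact Complex.conj_eq_iff_im.mp h1

section SqrtCount

/-- The number of square roots of an element. -/
noncomputable def sqrtCount (G : Type*) [Group G] (w : G) : ℂ :=
  (Nat.card {u : G // u * u = w} : ℂ)

theorem sqrtCount_classFunction (G : Type*) [Group G] : IsClassFunction G (sqrtCount G) := by
  intro w h
  unfold sqrtCount
  congr 1
  refine Nat.card_congr ⟨fun p => ⟨h⁻¹ * p.1 * h, ?_⟩, fun p => ⟨h * p.1 * h⁻¹, ?_⟩, ?_, ?_⟩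
  · have := p.2
    calc h⁻¹ * p.1 * h * (h⁻¹ * p.1 * h) = h⁻¹ * (p.1 * p.1) * h := by group
      _ = w := by rw [this]; group
  · have := p.2
    calc h * p.1 * h⁻¹ * (h * p.1 * h⁻¹) = h * (p.1 * p.1) * h⁻¹ := by group
      _ = h * w * h⁻¹ := by rw [this]
  · intro p
    apply Subtype.ext
    simp only
    group
  · intro p
    apply Subtype.ext
    simp only
    group

theorem sum_card_fiber_mul {α β : Type*} [Fintype α] [Fintype β] [DecidableEq β] (F : α → β)
    (φ : β → ℂ) :
    ∑ w : β, (Nat.card {p : α // F p = w} : ℂ) * φ w = ∑ p : α, φ (F p) := by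
  classical
  rw [← Finset.sum_fiberwise (s := Finset.univ) (g := F) (f := fun p => φ (F p))]
  refine Finset.sum_congr rfl fun w _ => ?_
  rw [Nat.card_eq_fintype_card, Fintype.card_subtype]
  rw [Finset.sum_congr rfl (fun p hp => by rw [(Finset.mem_filter.mp hp).2] :
    ∀ p ∈ Finset.univ.filter (fun p => F p = w), φ (F p) = φ w)]
  rw [Finset.sum_const, nsmul_eq_mul]

/-- **Frobenius–Schur count of square roots.** -/
theorem sqrtCount_eq [Fintype G] [Fintype (IrrCharacter G)] (x : G) :
    sqrtCount G x = ∑ χ : IrrCharacter G,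
      ((Nat.card G : ℂ)⁻¹ * ∑ u : G, (χ : G → ℂ) (u * u)) * (χ : G → ℂ) x := by
  classical
  rw [classFunction_expansion_apply (sqrtCount G) (sqrtCount_classFunction G) x]
  refine Finset.sum_congr rfl fun χ _ => ?_
  congr 2
  unfold sqrtCount
  rw [sum_card_fiber_mul (fun u : G => u * u) (fun w => (χ : G → ℂ) w⁻¹)]
  refine Fintype.sum_equiv (Equiv.inv G) _ _ ?_
  intro u
  simp

end SqrtCount

end Cfsg.Agent.Lib.Helper81_FrobSchur
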