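/-
S3716 market (architect helper1), package FSSUM, core: the Frobenius–Schur data from the numbers of
square roots and the parity statements (given here as hypotheses).
-/
import Mathlib
import Cfsg.Agent.Lib.Helper1_D8Defs
import Cfsg.Agent.Lib.Helper80_CharComplete
import Cfsg.Agent.Lib.Helper79_FrobSchur
import Cfsg.Agent.Lib.Helper81_FrobSchur
import Cfsg.Agent.Lib.Helper3_RealClasses

set_option autoImplicit false
open scoped ComplexConjugate

namespace Cfsg.Agent.Lib.Helper7_D8_FSSUMcore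
open Cfsg Cfsg.Agent.Lib.Helper80_CharBasic Cfsg.Agent.Lib.Helper1_D8Defs

variable {G : Type*} [Group G] [Finite G]

/-- the Frobenius–Schur indicator as a complex number -/
noncomputable def nuC (χ : IrrCharacter G) : ℂ :=
  (Nat.card G : ℂ)⁻¹ * ∑ᶠ u : G, (χ : G → ℂ) (u * u)

theorem nuC_tri (χ : IrrCharacter G) : nuC χ = 0 ∨ nuC χ = 1 ∨ nuC χ = -1 := by
  cases nonempty_fintype G
  obtain ⟨χ, n, ρ, hirr, rfl⟩ := χ
  have := hirr
  have := Cfsg.Agent.Lib.Helper79_FrobSchur.indicator_trichotomy ρ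
  unfold nuC
  rw [finsum_eq_sum_of_fintype]
  exact this

theorem nuC_eq_zero_iff (χ : IrrCharacter G) :
    nuC χ = 0 ↔ ∃ g : G, ((χ : G → ℂ) g).im ≠ 0 := by
  cases nonempty_fintype G
  obtain ⟨χ, n, ρ, hirr, rfl⟩ := χ
  have := hirr
  have := Cfsg.Agent.Lib.Helper79_FrobSchur.indicator_eq_zero_iff ρ
  unfold nuC
  rw [finsum_eq_sum_of_fintype]
  exact this

/-- the Frobenius–Schur indicator as an integer -/
noncomputable def nuZ (χ : IrrCharacter G) : ℤ :=
  if nuC χ = 1 then 1 else if nuC χ = -1 then -1 else 0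

theorem nuZ_cast (χ : IrrCharacter G) : ((nuZ χ : ℤ) : ℂ) = nuC χ := by
  unfold nuZ
  rcases nuC_tri χ with h | h | h
  · rw [h]; norm_num
  · rw [h]; norm_num
  · rw [h]; norm_num

theorem nuZ_eq_zero_iff (χ : IrrCharacter G) : nuZ χ = 0 ↔ nuC χ = 0 := by
  rw [← nuZ_cast]
  exact_mod_cast Iff.rfl

theorem nuZ_tri (χ : IrrCharacter G) : nuZ χ = 0 ∨ nuZ χ = 1 ∨ nuZ χ = -1 := by
  rcases nuC_tri χ with h | h | h
  · left; rw [nuZ_eq_zero_iff]; exact h
  · right; left
    have := nuZ_cast χ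
    rw [h] at this
    exact_mod_cast this
  · right; right
    have := nuZ_cast χ
    rw [h] at this
    exact_mod_cast this

theorem nuZ_one : nuZ (oneIrr G) = 1 := by
  cases nonempty_fintype G
  have : nuC (oneIrr G) = 1 := by
    unfold nuC
    rw [finsum_eq_sum_of_fintype]
    have hne : (Nat.card G : ℂ) ≠ 0 := by exact_mod_cast Nat.card_pos.ne'
    simp only [oneIrr, Finset.sum_const, Finset.card_univ, nsmul_eq_mul, mul_one]
    rw [← Nat.card_eq_fintype_card]
    exact inv_mul_cancel₀ hne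
  have h2 := nuZ_cast (oneIrr G)
  rw [this] at h2
  exact_mod_cast h2

/-- the Frobenius–Schur count of square roots -/
theorem sum_nuZ_mul (x : G) :
    ∑ᶠ χ : IrrCharacter G, ((nuZ χ : ℤ) : ℂ) * (χ : G → ℂ) x =
      (Nat.card {u : G // u * u = x} : ℂ) := by
  cases nonempty_fintype G
  let _ := Fintype.ofFinite (IrrCharacter G)
  have := Cfsg.Agent.Lib.Helper81_FrobSchur.sqrtCount_eq (G := G) x
  unfold Cfsg.Agent.Lib.Helper81_FrobSchur.sqrtCount at this
  rw [this, finsum_eq_sum_of_fintype]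
  refine Finset.sum_congr rfl fun χ _ => ?_
  rw [nuZ_cast]
  unfold nuC
  rw [finsum_eq_sum_of_fintype]

omit [Finite G] in
/-- the indicator of the complex conjugate character -/
theorem nuC_conj [Fintype G] (χ : IrrCharacter G) :
    nuC (Cfsg.Agent.Lib.Helper3_RealClasses.conjIrr χ) = conj (nuC χ) := by
  unfold nuC
  rw [finsum_eq_sum_of_fintype, finsum_eq_sum_of_fintype, map_mul, map_inv₀, map_natCast, map_sum]
  rfl

/-- the coordinates are determined by the four values -/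
theorem coord_inj {x y : Fin 4 → ℤ} (hp : pv x = pv y) (hq : qv x = qv y) (hr : rv x = rv y)
    (hw : wv x = wv y) : x = y := by
  unfold pv at hp
  unfold qv at hq
  unfold rv at hr
  unfold wv at hw
  funext j
  fin_cases j
  · show x 0 = y 0
    omega
  · show x 1 = y 1
    omega
  · show x 2 = y 2
    omega
  · show x 3 = y 3
    omega

/-- integer-valued finite sums cast to `ℂ` -/
theorem finsum_int_cast (f : IrrCharacter G → ℤ) :
    ((∑ᶠ χ : IrrCharacter G, f χ : ℤ) : ℂ) = ∑ᶠ χ : IrrCharacter G, (f χ : ℂ) := by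
  let _ := Fintype.ofFinite (IrrCharacter G)
  rw [finsum_eq_sum_of_fintype, finsum_eq_sum_of_fintype]
  push_cast
  rfl

/-- `∑ ν(χ) f(m χ) = #square roots of x` when `χ(x) = f (m χ)` for all `χ` -/
theorem sum_nuZ_val {m : IrrCharacter G → Fin 4 → ℤ} (f : (Fin 4 → ℤ) → ℤ) (x : G)
    (hval : ∀ χ : IrrCharacter G, (χ : G → ℂ) x = (f (m χ) : ℂ)) :
    ∑ᶠ χ : IrrCharacter G, nuZ χ * f (m χ) = (Nat.card {u : G // u * u = x} : ℤ) := by
  have h := sum_nuZ_mul x
  have h2 : ((∑ᶠ χ : IrrCharacter G, nuZ χ * f (m χ) : ℤ) : ℂ) =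
      (((Nat.card {u : G // u * u = x} : ℕ) : ℤ) : ℂ) := by
    rw [finsum_int_cast, Int.cast_natCast, ← h]
    refine finsum_congr fun χ => ?_
    rw [hval χ]
    push_cast
    rfl
  exact_mod_cast h2

/-- CORE of FSSUM: the Frobenius–Schur data, from the numbers of square roots and the parity statements
for the configuration and its mirror image. -/
theorem fs_data_of {a b t2 s : G} {d : IrrCharacter G → ℕ} {m : IrrCharacter G → Fin 4 → ℤ}
    (hv : Vals G a b t2 s d m) (oa : orderOf a = 3) (comm : a * b = b * a)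
    (hs1 : Nat.card {x : G // x * x = a} = 4 ∧ Nat.card {x : G // x * x = a * t2} = 0)
    (hs2 : Nat.card {x : G // x * x = a * b} = 4 ∧ Nat.card {x : G // x * x = a * b * s} = 0)
    (hq1 : ∀ χ : IrrCharacter G, ∑ᶠ g : G, (χ : G → ℂ) (g * g) = -(Nat.card G : ℂ) →
      ∀ p q r : ℤ, (χ : G → ℂ) a = (p : ℂ) → (χ : G → ℂ) (a * b) = (q : ℂ) →
        (χ : G → ℂ) (a * t2) = (r : ℂ) → (2 : ℤ) ∣ p ∧ (12 : ℤ) ∣ p + 2 * q + 3 * r)
    (hq2 : ∀ χ : IrrCharacter G, ∑ᶠ g : G, (χ : G → ℂ) (g * g) = -(Nat.card G : ℂ) →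
      ∀ p q r : ℤ, (χ : G → ℂ) (a * b) = (p : ℂ) → (χ : G → ℂ) (a * b * (a * b⁻¹)) = (q : ℂ) →
        (χ : G → ℂ) (a * b * s) = (r : ℂ) → (2 : ℤ) ∣ p ∧ (12 : ℤ) ∣ p + 2 * q + 3 * r) :
    ∃ ν : IrrCharacter G → ℤ, ν (oneIrr G) = 1 ∧
      (∀ j, ∑ᶠ χ : IrrCharacter G, ν χ * m χ j = 2) ∧
      (∀ χ, ν χ = 0 ∨ ν χ = 1 ∨ (ν χ = -1 ∧ ∀ j, (2 : ℤ) ∣ m χ j)) ∧
      (∀ χ, ν χ = 0 → ∃ χ', χ' ≠ χ ∧ m χ' = m χ ∧ ν χ' = 0) := by
  cases nonempty_fintype G
  let _ := Fintype.ofFinite (IrrCharacter G)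
  refine ⟨nuZ, nuZ_one, ?_, ?_, ?_⟩
  · -- the four sums
    have e1 := sum_nuZ_val (m := m) pv a hv.va
    have e2 := sum_nuZ_val (m := m) rv (a * t2) hv.vu
    have e3 := sum_nuZ_val (m := m) qv (a * b) hv.vab
    have e4 := sum_nuZ_val (m := m) wv (a * b * s) hv.vv
    rw [hs1.1] at e1
    rw [hs1.2] at e2
    rw [hs2.1] at e3
    rw [hs2.2] at e4
    rw [finsum_eq_sum_of_fintype] at e1 e2 e3 e4
    have key : ∀ j, ∑ᶠ χ : IrrCharacter G, nuZ χ * m χ j = ∑ χ : IrrCharacter G, nuZ χ * m χ j :=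
      fun j => finsum_eq_sum_of_fintype _
    simp only [pv, qv, rv, wv, mul_sub, mul_add, Finset.sum_sub_distrib, Finset.sum_add_distrib] at e1 e2 e3 e4
    have r1 : ∀ (c : ℤ) (j : Fin 4), ∑ χ : IrrCharacter G, nuZ χ * (c * m χ j) =
        c * ∑ χ : IrrCharacter G, nuZ χ * m χ j := by
      intro c j
      rw [Finset.mul_sum]
      refine Finset.sum_congr rfl fun χ _ => ?_
      ring
    simp only [r1] at e1 e3
    intro j
    rw [key]
    push_cast at e1 e2 e3 e4
    fin_cases j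
    · show ∑ χ : IrrCharacter G, nuZ χ * m χ 0 = 2
      omega
    · show ∑ χ : IrrCharacter G, nuZ χ * m χ 1 = 2
      omega
    · show ∑ χ : IrrCharacter G, nuZ χ * m χ 2 = 2
      omega
    · show ∑ χ : IrrCharacter G, nuZ χ * m χ 3 = 2
      omega
  · intro χ
    rcases nuZ_tri χ with h0 | h1 | hm1
    · exact Or.inl h0
    · exact Or.inr (Or.inl h1)
    · refine Or.inr (Or.inr ⟨hm1, ?_⟩)
      have hC : nuC χ = -1 := by
        rw [← nuZ_cast, hm1]
        norm_num
      have hne : (Nat.card G : ℂ) ≠ 0 := by exact_mod_cast Nat.card_pos.ne'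
      have hν : ∑ᶠ g : G, (χ : G → ℂ) (g * g) = -(Nat.card G : ℂ) := by
        unfold nuC at hC
        have := congrArg (fun z => (Nat.card G : ℂ) * z) hC
        rw [← mul_assoc, mul_inv_cancel₀ hne, one_mul] at this
        rw [this]
        ring
      -- the value at `a * b * (a * b⁻¹) = a⁻¹`
      have ha3 : a ^ 3 = 1 := by rw [← oa]; exact pow_orderOf_eq_one a
      have hab : a * b * (a * b⁻¹) = a⁻¹ := by
        have : a * b * (a * b⁻¹) = a * a := by
          calc a * b * (a * b⁻¹) = a * (b * a) * b⁻¹ := by group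
            _ = a * (a * b) * b⁻¹ := by rw [← comm]
            _ = a * a := by group
        rw [this]
        have h3 : a * a * a = 1 := by rw [← ha3, pow_succ, pow_two]
        exact eq_inv_of_mul_eq_one_left h3
      have hval : (χ : G → ℂ) (a * b * (a * b⁻¹)) = (pv (m χ) : ℂ) := by
        rw [hab, irr_inv, hv.va]
        exact map_intCast _ _
      obtain ⟨h1a, h1b⟩ := hq1 χ hν (pv (m χ)) (qv (m χ)) (rv (m χ)) (hv.va χ) (hv.vab χ) (hv.vu χ)
      obtain ⟨h2a, h2b⟩ := hq2 χ hν (qv (m χ)) (pv (m χ)) (wv (m χ)) (hv.vab χ) hval (hv.vv χ)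
      unfold pv qv rv at h1b
      unfold pv qv wv at h2b
      unfold pv at h1a
      unfold qv at h2a
      intro j
      fin_cases j
      · show (2 : ℤ) ∣ m χ 0
        omega
      · show (2 : ℤ) ∣ m χ 1
        omega
      · show (2 : ℤ) ∣ m χ 2
        omega
      · show (2 : ℤ) ∣ m χ 3
        omega
  · intro χ h0
    rw [nuZ_eq_zero_iff] at h0
    obtain ⟨g, hg⟩ := (nuC_eq_zero_iff χ).mp h0
    refine ⟨Cfsg.Agent.Lib.Helper3_RealClasses.conjIrr χ, ?_, ?_, ?_⟩
    · intro heq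
      have := congrArg (fun ψ : IrrCharacter G => (ψ : G → ℂ) g) heq
      simp only [Cfsg.Agent.Lib.Helper3_RealClasses.conjIrr_apply] at this
      exact hg (Complex.conj_eq_iff_im.mp this)
    · have cast_inj : ∀ x y : ℤ, (x : ℂ) = (y : ℂ) → x = y := fun x y h => by exact_mod_cast h
      apply coord_inj
      · apply cast_inj
        rw [← hv.va, ← hv.va χ, Cfsg.Agent.Lib.Helper3_RealClasses.conjIrr_apply, hv.va χ]
        exact map_intCast _ _
      · apply cast_inj
        rw [← hv.vab, ← hv.vab χ, Cfsg.Agent.Lib.Helper3_RealClasses.conjIrr_apply, hv.vab χ]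
        exact map_intCast _ _
      · apply cast_inj
        rw [← hv.vu, ← hv.vu χ, Cfsg.Agent.Lib.Helper3_RealClasses.conjIrr_apply, hv.vu χ]
        exact map_intCast _ _
      · apply cast_inj
        rw [← hv.vv, ← hv.vv χ, Cfsg.Agent.Lib.Helper3_RealClasses.conjIrr_apply, hv.vv χ]
        exact map_intCast _ _
    · rw [nuZ_eq_zero_iff, nuC_conj, h0, map_zero]

end Cfsg.Agent.Lib.Helper7_D8_FSSUMcore
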