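/-
S3716 market (architect helper1), package FSSUM: the Frobenius–Schur data.

The core is `Helper7_D8_FSSUMcore.fs_data_of`; here it is fed with the landed cores of FSSQRT
(`Helper77_D8_FSSQRTaux.sqrt_counts_of` + CENT + `Helper65_D8_ORD6aux.order_six_of`) and of FSPAR
(`Helper12_D8_FSPARaux.quat_parity_of` + FSEVEN + FSCOSET), and with SYMM.
-/
import Mathlib
import Cfsg.Agent.Lib.Helper1_D8Defs
import Cfsg.Agent.Lib.Helper80_CharComplete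
import Cfsg.Agent.Lib.Helper30_ThreePQ
import Cfsg.Agent.Lib.Helper7_D8_FSSUMcore
import Cfsg.Agent.Lib.Helper86_D8_SYMM
import Cfsg.Agent.Lib.Helper10_D8_CENT
import Cfsg.Agent.Lib.Helper65_D8_ORD6aux
import Cfsg.Agent.Lib.Helper77_D8_FSSQRTaux
import Cfsg.Agent.Lib.Helper11_D8_FSEVEN
import Cfsg.Agent.Lib.Helper29_D8_FSCOSET
import Cfsg.Agent.Lib.Helper12_D8_FSPARaux

set_option autoImplicit false
open scoped ComplexConjugate

namespace Cfsg.Agent.Lib.Helper7_D8_FSSUM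
open Cfsg Cfsg.Agent.Lib.Helper80_CharBasic Cfsg.Agent.Lib.Helper1_D8Defs

variable {G : Type*} [Group G] [Finite G]
variable {M : Subgroup G} {a b t1 t2 s : G}

/-- the statement of FSSQRT, from its landed core + CENT + the core of ORD6 -/
theorem sqrt_counts' (h : Hyp G M a b t1 t2 s) :
    Nat.card {x : G // x * x = a} = 4 ∧ Nat.card {x : G // x * x = a * t2} = 0 := by
  have hc := (Cfsg.Agent.Lib.Helper10_D8_CENT.cent_a h).2
  have ho := Cfsg.Agent.Lib.Helper65_D8_ORD6aux.order_six_of h hc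
  exact Cfsg.Agent.Lib.Helper77_D8_FSSQRTaux.sqrt_counts_of h hc ho.1 ho.2.2.2.2.2

/-- the statement of FSPAR, from its landed core + FSEVEN + FSCOSET -/
theorem quat_parity' (h : Hyp G M a b t1 t2 s) (χ : IrrCharacter G)
    (hν : ∑ᶠ g : G, (χ : G → ℂ) (g * g) = -(Nat.card G : ℂ)) (p q r : ℤ)
    (hp : (χ : G → ℂ) a = (p : ℂ)) (hq : (χ : G → ℂ) (a * b) = (q : ℂ))
    (hr : (χ : G → ℂ) (a * t2) = (r : ℂ)) :
    (2 : ℤ) ∣ p ∧ (12 : ℤ) ∣ p + 2 * q + 3 * r :=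
  Cfsg.Agent.Lib.Helper12_D8_FSPARaux.quat_parity_of h χ
    (fun H => Cfsg.Agent.Lib.Helper11_D8_FSEVEN.even_fixed χ hν H)
    (Cfsg.Agent.Lib.Helper29_D8_FSCOSET.coset_sums h χ) p q r hp hq hr

/-! ### FSSUM: the Frobenius–Schur indicators -/
theorem fs_data (h : Hyp G M a b t1 t2 s) {d : IrrCharacter G → ℕ} {m : IrrCharacter G → Fin 4 → ℤ}
    (hv : Vals G a b t2 s d m) :
    ∃ ν : IrrCharacter G → ℤ, ν (oneIrr G) = 1 ∧
      (∀ j, ∑ᶠ χ : IrrCharacter G, ν χ * m χ j = 2) ∧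
      (∀ χ, ν χ = 0 ∨ ν χ = 1 ∨ (ν χ = -1 ∧ ∀ j, (2 : ℤ) ∣ m χ j)) ∧
      (∀ χ, ν χ = 0 → ∃ χ', χ' ≠ χ ∧ m χ' = m χ ∧ ν χ' = 0) :=
  Cfsg.Agent.Lib.Helper7_D8_FSSUMcore.fs_data_of hv h.oa h.comm (sqrt_counts' h)
    (sqrt_counts' (Cfsg.Agent.Lib.Helper86_D8_SYMM.hyp_symm h))
    (fun χ hν p q r => quat_parity' h χ hν p q r)
    (fun χ hν p q r => quat_parity' (Cfsg.Agent.Lib.Helper86_D8_SYMM.hyp_symm h) χ hν p q r)

end Cfsg.Agent.Lib.Helper7_D8_FSSUM
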