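import Mathlib
import Cfsg.Prelude.Def_Characters
import Cfsg.Agent.Lib.Helper80_CharBasic
import Cfsg.Agent.Lib.Helper3_CharBridge
import Cfsg.Agent.Lib.Helper75_CharArith
import Cfsg.Agent.Lib.Helper1_D8Defs

/-!
# S3716 package FIX9 (architect helper1, market `d8_packages`)  (helper42)

In the configuration `Hyp G M a b t1 t2 s`, for every irreducible character `χ`,
`χ 1 + 4 χ a + 4 χ (a b)` is `9` times the dimension of the fixed space of `M`.
The eight nonidentity elements of `M` are conjugate to `a` (by `t1, s, t2 s`) or to `a b`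
(by `t1, t2, t1 t2`), so the package does not need FUS or SYMM.
-/

set_option autoImplicit false
open scoped ComplexConjugate

namespace Cfsg.Agent.Lib.Helper42_D8_FIX9

open Cfsg Cfsg.Agent.Lib.Helper80_CharBasic Cfsg.Agent.Lib.Helper1_D8Defs

variable {G : Type*} [Group G] [Finite G]
variable {M : Subgroup G} {a b t1 t2 s : G}

omit [Finite G] in
theorem a_mem (h : Hyp G M a b t1 t2 s) : a ∈ M := (h.mem a).mpr (Or.inr (Or.inl rfl))

omit [Finite G] in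
theorem b_mem (h : Hyp G M a b t1 t2 s) : b ∈ M :=
  (h.mem b).mpr (Or.inr (Or.inr (Or.inr (Or.inl rfl))))

omit [Finite G] in
theorem a_sq (h : Hyp G M a b t1 t2 s) : a ^ 2 = a⁻¹ := by
  have h3 : a ^ 3 = 1 := by rw [← h.oa]; exact pow_orderOf_eq_one a
  apply eq_inv_of_mul_eq_one_left
  rw [← pow_succ]; exact h3

omit [Finite G] in
theorem b_sq (h : Hyp G M a b t1 t2 s) : b ^ 2 = b⁻¹ := by
  have h3 : b ^ 3 = 1 := by rw [← h.ob]; exact pow_orderOf_eq_one b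
  apply eq_inv_of_mul_eq_one_left
  rw [← pow_succ]; exact h3

omit [Finite G] in
/-- the parametrization `(i, j) ↦ a ^ i * b ^ j` of `M` -/
def param (h : Hyp G M a b t1 t2 s) : Fin 3 × Fin 3 → M := fun p =>
  ⟨a ^ (p.1 : ℕ) * b ^ (p.2 : ℕ), M.mul_mem (M.pow_mem (a_mem h) _) (M.pow_mem (b_mem h) _)⟩

omit [Finite G] in
theorem param_surjective (h : Hyp G M a b t1 t2 s) : Function.Surjective (param h) := by
  rintro ⟨u, hu⟩
  have ha2 := a_sq h
  have hb2 := b_sq h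
  rcases (h.mem u).mp hu with rfl | rfl | rfl | rfl | rfl | rfl | rfl | rfl | rfl
  · exact ⟨(0, 0), Subtype.ext (by simp [param])⟩
  · exact ⟨(1, 0), Subtype.ext (by simp [param])⟩
  · exact ⟨(2, 0), Subtype.ext (by simp [param, ha2])⟩
  · exact ⟨(0, 1), Subtype.ext (by simp [param])⟩
  · exact ⟨(0, 2), Subtype.ext (by simp [param, hb2])⟩
  · exact ⟨(1, 1), Subtype.ext (by simp [param])⟩
  · exact ⟨(1, 2), Subtype.ext (by simp [param, hb2])⟩
  · exact ⟨(2, 1), Subtype.ext (by simp [param, ha2])⟩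
  · exact ⟨(2, 2), Subtype.ext (by simp [param, ha2, hb2])⟩

omit [Finite G] in
theorem sum_M (h : Hyp G M a b t1 t2 s) [Fintype M] (f : G → ℂ) :
    ∑ u : M, f u = ∑ p : Fin 3 × Fin 3, f (a ^ (p.1 : ℕ) * b ^ (p.2 : ℕ)) := by
  have hbij : Function.Bijective (param h) := by
    rw [Fintype.bijective_iff_surjective_and_card]
    refine ⟨param_surjective h, ?_⟩
    rw [Fintype.card_prod, Fintype.card_fin, ← Nat.card_eq_fintype_card, h.card]
  exact (Fintype.sum_bijective (param h) hbij _ _ (fun p => rfl)).symm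

/-- **FIX9**, complex form. -/
theorem cong9 (h : Hyp G M a b t1 t2 s) (χ : IrrCharacter G) :
    ∃ m : ℕ, (χ : G → ℂ) 1 + 4 * (χ : G → ℂ) a + 4 * (χ : G → ℂ) (a * b) = 9 * (m : ℂ) := by
  classical
  have := Fintype.ofFinite M
  have hχ : IsCharacter G (χ : G → ℂ) :=
    Cfsg.Agent.Lib.Helper3_CharBridge.isCharacter_of_isIrrCharacter χ.2
  have hχM : IsCharacter M (fun u : M => (χ : G → ℂ) u) :=
    Cfsg.Agent.Lib.Helper75_CharArith.isCharacter_restrict M hχ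
  have h1M : IsCharacter M (fun _ : M => (1 : ℂ)) :=
    Cfsg.Agent.Lib.Helper3_CharBridge.isCharacter_of_isIrrCharacter
      (Cfsg.Agent.Lib.Helper80_CharBasic.isIrrCharacter_one _)
  obtain ⟨m, hm⟩ := Cfsg.Agent.Lib.Helper75_CharArith.classInner_isCharacter_nat hχM h1M
  refine ⟨m, ?_⟩
  unfold classInner at hm
  rw [h.card] at hm
  have h2 : ∑ u : M, (χ : G → ℂ) (u : G) * conj (1 : ℂ) = ∑ u : M, (χ : G → ℂ) (u : G) := by
    refine Finset.sum_congr rfl fun u _ => ?_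
    simp
  rw [h2, sum_M h (χ : G → ℂ)] at hm
  have ha2 := a_sq h
  have hb2 := b_sq h
  -- the class of `a`
  have e1 : (χ : G → ℂ) a⁻¹ = (χ : G → ℂ) a := by
    rw [← h.t1a]; exact irr_conj χ a t1
  have e2 : (χ : G → ℂ) b = (χ : G → ℂ) a := by
    rw [← h.sa]; exact irr_conj χ a s
  have e3 : (χ : G → ℂ) b⁻¹ = (χ : G → ℂ) a := by
    rw [← h.t2b, irr_conj χ b t2, e2]
  -- the class of `a b`
  have e4 : (χ : G → ℂ) (a⁻¹ * b) = (χ : G → ℂ) (a * b) := by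
    have : t1 * (a * b) * t1⁻¹ = a⁻¹ * b := by
      have h0 : t1 * (a * b) * t1⁻¹ = (t1 * a * t1⁻¹) * (t1 * b * t1⁻¹) := by group
      rw [h0, h.t1a, h.t1b]
    rw [← this]; exact irr_conj χ (a * b) t1
  have e5 : (χ : G → ℂ) (a * b⁻¹) = (χ : G → ℂ) (a * b) := by
    have : t2 * (a * b) * t2⁻¹ = a * b⁻¹ := by
      have h0 : t2 * (a * b) * t2⁻¹ = (t2 * a * t2⁻¹) * (t2 * b * t2⁻¹) := by group
      rw [h0, h.t2a, h.t2b]
    rw [← this]; exact irr_conj χ (a * b) t2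
  have e6 : (χ : G → ℂ) (a⁻¹ * b⁻¹) = (χ : G → ℂ) (a * b) := by
    have : t1 * (a * b⁻¹) * t1⁻¹ = a⁻¹ * b⁻¹ := by
      have h0 : t1 * (a * b⁻¹) * t1⁻¹ = (t1 * a * t1⁻¹) * (t1 * b * t1⁻¹)⁻¹ := by group
      rw [h0, h.t1a, h.t1b]
    rw [← this, irr_conj χ (a * b⁻¹) t1, e5]
  rw [Fintype.sum_prod_type, Fin.sum_univ_three] at hm
  simp only [Fin.sum_univ_three, Fin.val_zero, Fin.val_one, Fin.val_two, pow_zero, pow_one, one_mul,
    mul_one, ha2, hb2] at hm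
  rw [e1, e2, e3, e4, e5, e6] at hm
  have h9 : ((9 : ℕ) : ℂ) ≠ 0 := by norm_num
  rw [inv_mul_eq_iff_eq_mul₀ h9] at hm
  push_cast at hm
  linear_combination hm

/-- **FIX9** (statement of the package). -/
theorem fix9 (h : Hyp G M a b t1 t2 s) (χ : IrrCharacter G) (d : ℕ) (p q : ℤ)
    (h1 : (χ : G → ℂ) 1 = (d : ℂ)) (hp : (χ : G → ℂ) a = (p : ℂ)) (hq : (χ : G → ℂ) (a * b) = (q : ℂ)) :
    (9 : ℤ) ∣ (d : ℤ) + 4 * p + 4 * q := by
  obtain ⟨m, hm⟩ := cong9 h χ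
  rw [h1, hp, hq] at hm
  refine ⟨(m : ℤ), ?_⟩
  have : (((d : ℤ) + 4 * p + 4 * q : ℤ) : ℂ) = ((9 * (m : ℤ) : ℤ) : ℂ) := by
    push_cast
    linear_combination hm
  exact_mod_cast this

end Cfsg.Agent.Lib.Helper42_D8_FIX9
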