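import Mathlib
import Cfsg.Agent.Lib.Helper1_D8Defs
import Cfsg.Agent.Lib.Helper80_CharComplete
import Cfsg.Agent.Lib.Helper3_CharBridge
import Cfsg.Agent.Lib.Helper17_DihChar

/-!
# S3716 (architect helper1, market `d8_packages`): package VAL (helper99)

Integrality and congruences of the values of a character at a real element `u` of order six and at
its square: restrict to `⟨u⟩ ≅ Z₆`, `χ(u^k) = ∑ⱼ cⱼ ζ^{jk}`; `u ~ u⁻¹` gives `cⱼ = c₋ⱼ`, hence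
`χ(u) = c₀ + c₁ - c₂ - c₃`, `χ(u²) = c₀ - c₁ - c₂ + c₃`, `χ(1) = c₀ + 2c₁ + 2c₂ + c₃`.
-/

set_option autoImplicit false
set_option linter.unusedSectionVars false
open scoped ComplexConjugate

namespace Cfsg.Agent.Lib.Helper99_D8_VAL

open Cfsg Cfsg.Agent.Lib.Helper80_CharBasic Cfsg.Agent.Lib.Helper1_D8Defs
  Cfsg.Agent.Lib.Helper17_DihFourier

/-! ### a primitive sixth root of unity -/

theorem zeta_sq {ζ : ℂ} (hζ : IsPrimitiveRoot ζ 6) : ζ ^ 2 = ζ - 1 := by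
  have h6 : ζ ^ 6 = 1 := hζ.pow_eq_one
  have h3 : ζ ^ 3 ≠ 1 := hζ.pow_ne_one_of_pos_of_lt (by norm_num) (by norm_num)
  have h2 : ζ ^ 2 ≠ 1 := hζ.pow_ne_one_of_pos_of_lt (by norm_num) (by norm_num)
  have h3' : ζ ^ 3 = -1 := by
    have h : (ζ ^ 3 - 1) * (ζ ^ 3 + 1) = 0 := by
      have : (ζ ^ 3 - 1) * (ζ ^ 3 + 1) = ζ ^ 6 - 1 := by ring
      rw [this, h6, sub_self]
    rcases mul_eq_zero.mp h with h' | h'
    · exact absurd (sub_eq_zero.mp h') h3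
    · exact eq_neg_of_add_eq_zero_left h'
  have hne : ζ + 1 ≠ 0 := by
    intro h
    apply h2
    have : ζ = -1 := eq_neg_of_add_eq_zero_left h
    rw [this]
    norm_num
  have h : (ζ + 1) * (ζ ^ 2 - ζ + 1) = 0 := by
    have : (ζ + 1) * (ζ ^ 2 - ζ + 1) = ζ ^ 3 + 1 := by ring
    rw [this, h3', neg_add_cancel]
  rcases mul_eq_zero.mp h with h' | h'
  · exact absurd h' hne
  · linear_combination h'

/-- `1` and `ζ` are linearly independent over the integers -/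
theorem zeta_indep {ζ : ℂ} (hζ : IsPrimitiveRoot ζ 6) {x y : ℤ} (h : (x : ℂ) + (y : ℂ) * ζ = 0) :
    x = 0 ∧ y = 0 := by
  have hsq := zeta_sq hζ
  have hy : y = 0 := by
    by_contra hy
    have hyC : (y : ℂ) ≠ 0 := by exact_mod_cast hy
    have hyR : (y : ℝ) ≠ 0 := by exact_mod_cast hy
    have hz : ζ = ((-(x : ℝ) / (y : ℝ) : ℝ) : ℂ) := by
      push_cast
      field_simp
      linear_combination h
    set t : ℝ := -(x : ℝ) / (y : ℝ) with ht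
    rw [hz] at hsq
    have h1 : ((t ^ 2 - t + 1 : ℝ) : ℂ) = 0 := by
      push_cast
      linear_combination hsq
    have h2 : t ^ 2 - t + 1 = 0 := by exact_mod_cast h1
    nlinarith [sq_nonneg (t - 1 / 2)]
  refine ⟨?_, hy⟩
  rw [hy] at h
  simp at h
  exact h

section values

variable {G : Type*} [Group G] [Finite G]

/-- the values of a character at a real element of order six and at its square -/
theorem value_at_six {χ : G → ℂ} (hχ : IsCharacter G χ) {u : G} (hu : orderOf u = 6)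
    (hconj : IsConj u u⁻¹) :
    ∃ (d : ℕ) (p r : ℤ), χ 1 = (d : ℂ) ∧ χ (u ^ 2) = (p : ℂ) ∧ χ u = (r : ℂ) ∧
      (3 : ℤ) ∣ (d : ℤ) - p ∧ (2 : ℤ) ∣ p - r := by
  classical
  have hcf := Cfsg.Agent.Lib.Helper3_CharBridge.isClassFunction_of_isCharacter hχ
  have hζ : IsPrimitiveRoot (Complex.exp (2 * Real.pi * Complex.I / (6 : ℕ))) 6 :=
    Complex.isPrimitiveRoot_exp 6 (by norm_num)
  set ζ : ℂ := Complex.exp (2 * Real.pi * Complex.I / (6 : ℕ)) with hζdef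
  have h6 : ζ ^ 6 = 1 := hζ.pow_eq_one
  have hsq := zeta_sq hζ
  obtain ⟨c, hc⟩ := Cfsg.Agent.Lib.Helper17_DihChar.exists_mult hζ u hu χ hχ
  -- powers of `ζ`
  have z3 : ζ ^ 3 = -1 := by
    have : ζ ^ 3 = ζ ^ 2 * ζ := by ring
    rw [this, hsq]
    linear_combination hsq
  have z4 : ζ ^ 4 = -ζ := by
    have : ζ ^ 4 = ζ ^ 3 * ζ := by ring
    rw [this, z3]
    ring
  have z5 : ζ ^ 5 = 1 - ζ := by
    have : ζ ^ 5 = ζ ^ 3 * ζ ^ 2 := by ring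
    rw [this, z3, hsq]
    ring
  have z8 : ζ ^ 8 = ζ - 1 := by rw [pow_eq_pow_mod 8 h6]; exact hsq
  have z10 : ζ ^ 10 = -ζ := by rw [pow_eq_pow_mod 10 h6]; exact z4
  have z12 : ζ ^ 12 = 1 := by rw [pow_eq_pow_mod 12 h6]; exact pow_zero ζ
  have z15 : ζ ^ 15 = -1 := by rw [pow_eq_pow_mod 15 h6]; exact z3
  have z16 : ζ ^ 16 = -ζ := by rw [pow_eq_pow_mod 16 h6]; exact z4
  have z20 : ζ ^ 20 = ζ - 1 := by rw [pow_eq_pow_mod 20 h6]; exact hsq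
  have z25 : ζ ^ 25 = ζ := by rw [pow_eq_pow_mod 25 h6]; exact pow_one ζ
  have hsum : ∀ k : ℕ, χ (u ^ k) = (c 0 : ℂ) * (ζ ^ 0) ^ k + (c 1 : ℂ) * (ζ ^ 1) ^ k +
      (c 2 : ℂ) * (ζ ^ 2) ^ k + (c 3 : ℂ) * (ζ ^ 3) ^ k + (c 4 : ℂ) * (ζ ^ 4) ^ k +
      (c 5 : ℂ) * (ζ ^ 5) ^ k := by
    intro k
    rw [hc k]
    exact Fin.sum_univ_six (fun r : ZMod 6 => (c r : ℂ) * ee ζ r ^ k)
  -- the values at `u ^ k`, `k = 0, 1, 2, 4, 5`, in the basis `1, ζ`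
  have v0 : χ 1 = ((c 0 + c 1 + c 2 + c 3 + c 4 + c 5 : ℕ) : ℂ) := by
    have := hsum 0
    rw [pow_zero] at this
    rw [this]
    push_cast
    ring
  have v1 : χ u = (((c 0 : ℤ) - c 2 - c 3 + c 5 : ℤ) : ℂ) +
      (((c 1 : ℤ) + c 2 - c 4 - c 5 : ℤ) : ℂ) * ζ := by
    have := hsum 1
    rw [pow_one] at this
    rw [this]
    simp only [pow_one, pow_zero, hsq, z3, z4, z5]
    push_cast
    ring
  have v2 : χ (u ^ 2) = (((c 0 : ℤ) - c 1 + c 3 - c 4 : ℤ) : ℂ) +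
      (((c 1 : ℤ) - c 2 + c 4 - c 5 : ℤ) : ℂ) * ζ := by
    rw [hsum 2]
    simp only [← pow_mul]
    norm_num only
    simp only [pow_zero, hsq, z4, h6, z8, z10]
    push_cast
    ring
  have v4 : χ (u ^ 4) = (((c 0 : ℤ) - c 2 + c 3 - c 5 : ℤ) : ℂ) +
      ((-(c 1 : ℤ) + c 2 - c 4 + c 5 : ℤ) : ℂ) * ζ := by
    rw [hsum 4]
    simp only [← pow_mul]
    norm_num only
    simp only [pow_zero, z4, z8, z12, z16, z20]
    push_cast
    ring
  have v5 : χ (u ^ 5) = (((c 0 : ℤ) + c 1 - c 3 - c 4 : ℤ) : ℂ) +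
      ((-(c 1 : ℤ) - c 2 + c 4 + c 5 : ℤ) : ℂ) * ζ := by
    rw [hsum 5]
    simp only [← pow_mul]
    norm_num only
    simp only [pow_zero, z5, z10, z15, z20, z25]
    push_cast
    ring
  -- `u ~ u⁻¹`
  obtain ⟨g, hg⟩ := isConj_iff.mp hconj
  have hu6 : u ^ 6 = 1 := by rw [← hu]; exact pow_orderOf_eq_one u
  have hu5 : u ^ 5 = u⁻¹ := by
    have : u ^ 5 * u = 1 := by rw [← pow_succ]; exact hu6
    exact eq_inv_of_mul_eq_one_left this
  have hu4 : u ^ 4 = g * u ^ 2 * g⁻¹ := by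
    have h1 : g * u ^ 2 * g⁻¹ = (g * u * g⁻¹) ^ 2 := by rw [conj_pow]
    rw [h1, hg, inv_pow]
    have : u ^ 4 * u ^ 2 = 1 := by rw [← pow_add]; exact hu6
    exact eq_inv_of_mul_eq_one_left this
  have w5 : χ (u ^ 5) = χ u := by
    rw [hu5, ← hg]
    exact hcf u g
  have w4 : χ (u ^ 4) = χ (u ^ 2) := by
    rw [hu4]
    exact hcf (u ^ 2) g
  -- compare coefficients
  have k1 : (c 1 : ℤ) + c 2 = c 4 + c 5 := by
    have h1 : ((((c 0 : ℤ) + c 1 - c 3 - c 4) - ((c 0 : ℤ) - c 2 - c 3 + c 5) : ℤ) : ℂ) +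
        (((-(c 1 : ℤ) - c 2 + c 4 + c 5) - ((c 1 : ℤ) + c 2 - c 4 - c 5) : ℤ) : ℂ) * ζ = 0 := by
      rw [v5, v1] at w5
      push_cast at w5 ⊢
      linear_combination w5
    have := (zeta_indep hζ h1).2
    omega
  have k2 : (c 1 : ℤ) + c 4 = c 2 + c 5 := by
    have h1 : ((((c 0 : ℤ) - c 2 + c 3 - c 5) - ((c 0 : ℤ) - c 1 + c 3 - c 4) : ℤ) : ℂ) +
        (((-(c 1 : ℤ) + c 2 - c 4 + c 5) - ((c 1 : ℤ) - c 2 + c 4 - c 5) : ℤ) : ℂ) * ζ = 0 := by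
      rw [v4, v2] at w4
      push_cast at w4 ⊢
      linear_combination w4
    have := (zeta_indep hζ h1).2
    omega
  have k3 : (c 2 : ℤ) = c 4 := by omega
  have k4 : (c 1 : ℤ) = c 5 := by omega
  refine ⟨c 0 + c 1 + c 2 + c 3 + c 4 + c 5, (c 0 : ℤ) - c 1 + c 3 - c 4,
    (c 0 : ℤ) - c 2 - c 3 + c 5, v0, ?_, ?_, ?_, ?_⟩
  · rw [v2]
    have : ((c 1 : ℤ) - c 2 + c 4 - c 5 : ℤ) = 0 := by omega
    rw [this]
    push_cast
    ring
  · rw [v1]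
    have : ((c 1 : ℤ) + c 2 - c 4 - c 5 : ℤ) = 0 := by omega
    rw [this]
    push_cast
    ring
  · refine ⟨(c 1 : ℤ) + c 2, ?_⟩
    push_cast
    omega
  · refine ⟨(c 3 : ℤ) - c 1, ?_⟩
    omega

end values

section grp

variable {G : Type*} [Group G] [Finite G]
variable {M : Subgroup G} {a b t1 t2 s : G}

theorem inv_eq_self_of_sq {x : G} (hx : x * x = 1) : x⁻¹ = x := inv_eq_of_mul_eq_one_right hx

/-- `a` and `t2` commute -/
theorem comm_a_t2 (h : Hyp G M a b t1 t2 s) : a * t2 = t2 * a := by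
  have h1 := h.t2a
  calc a * t2 = t2 * a * t2⁻¹ * t2 := by rw [h1]
    _ = t2 * a := by group

theorem a_cube (h : Hyp G M a b t1 t2 s) : a ^ 3 = 1 := by
  rw [← h.oa]; exact pow_orderOf_eq_one a

theorem a_ne_one (h : Hyp G M a b t1 t2 s) : a ≠ 1 := by
  intro h1
  have := h.oa
  rw [h1, orderOf_one] at this
  omega

theorem b_ne_one (h : Hyp G M a b t1 t2 s) : b ≠ 1 := by
  intro h1
  have := h.ob
  rw [h1, orderOf_one] at this
  omega

theorem t2_ne_one (h : Hyp G M a b t1 t2 s) : t2 ≠ 1 := by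
  intro h1
  have h2 := h.t2b
  rw [h1] at h2
  have h3 : b = b⁻¹ := by simpa using h2
  have h4 : b ^ 2 = 1 := by
    rw [pow_two]
    nth_rewrite 1 [h3]
    exact inv_mul_cancel b
  have h5 := orderOf_dvd_of_pow_eq_one h4
  rw [h.ob] at h5
  omega

/-- `(a t2)^2 = a⁻¹` -/
theorem u_sq (h : Hyp G M a b t1 t2 s) : (a * t2) ^ 2 = a⁻¹ := by
  have hc : Commute a t2 := comm_a_t2 h
  rw [hc.mul_pow, pow_two t2, h.t2sq, mul_one]
  have : a ^ 2 * a = 1 := by rw [← pow_succ]; exact a_cube h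
  exact eq_inv_of_mul_eq_one_left this

/-- `(a t2)^3 = t2` -/
theorem u_cube (h : Hyp G M a b t1 t2 s) : (a * t2) ^ 3 = t2 := by
  have hc : Commute a t2 := comm_a_t2 h
  rw [hc.mul_pow, a_cube h, one_mul, pow_succ, pow_two, h.t2sq, one_mul]

/-- `a t2` has order six -/
theorem orderOf_u (h : Hyp G M a b t1 t2 s) : orderOf (a * t2) = 6 := by
  apply orderOf_eq_of_pow_and_pow_div_prime (by norm_num)
  · have : (a * t2) ^ 6 = ((a * t2) ^ 3) ^ 2 := by rw [← pow_mul]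
    rw [this, u_cube h, pow_two, h.t2sq]
  · intro p hp hp6
    have hp' : p = 2 ∨ p = 3 := by
      have h23 : p ∣ 2 * 3 := hp6
      rcases (Nat.Prime.dvd_mul hp).mp h23 with h' | h'
      · exact Or.inl ((Nat.prime_dvd_prime_iff_eq hp Nat.prime_two).mp h')
      · exact Or.inr ((Nat.prime_dvd_prime_iff_eq hp Nat.prime_three).mp h')
    rcases hp' with rfl | rfl
    · norm_num
      rw [u_cube h]
      exact t2_ne_one h
    · norm_num
      rw [u_sq h]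
      intro h1
      exact a_ne_one h (inv_eq_one.mp h1)

/-- `a t2` is conjugate to its inverse (by `t1`) -/
theorem isConj_u_inv (h : Hyp G M a b t1 t2 s) : IsConj (a * t2) (a * t2)⁻¹ := by
  refine isConj_iff.mpr ⟨t1, ?_⟩
  have ht1 : t1⁻¹ = t1 := inv_eq_self_of_sq h.t1sq
  have ht2 : t2⁻¹ = t2 := inv_eq_self_of_sq h.t2sq
  have e1 : t1 * (a * t2) * t1⁻¹ = (t1 * a * t1⁻¹) * (t1 * t2 * t1⁻¹) := by group
  have e2 : t1 * t2 * t1⁻¹ = t2 := by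
    rw [h.t12]
    group
  rw [e1, h.t1a, e2, mul_inv_rev, ht2]
  -- `a⁻¹ * t2 = t2 * a⁻¹`
  have hc := comm_a_t2 h
  calc a⁻¹ * t2 = a⁻¹ * (t2 * a) * a⁻¹ := by group
    _ = a⁻¹ * (a * t2) * a⁻¹ := by rw [hc]
    _ = t2 * a⁻¹ := by group

/-- `a` is conjugate to its inverse (by `t1`) -/
theorem isConj_a_inv (h : Hyp G M a b t1 t2 s) : IsConj a a⁻¹ :=
  isConj_iff.mpr ⟨t1, h.t1a⟩

/-! ### VAL: integrality of the values at `a` and `a t2` -/
theorem vals_a (h : Hyp G M a b t1 t2 s) (χ : IrrCharacter G) :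
    ∃ (d : ℕ) (p r : ℤ), 0 < d ∧ (χ : G → ℂ) 1 = (d : ℂ) ∧ (χ : G → ℂ) a = (p : ℂ) ∧
      (χ : G → ℂ) (a * t2) = (r : ℂ) ∧ (3 : ℤ) ∣ (d : ℤ) - p ∧ (2 : ℤ) ∣ p - r := by
  have hχ : IsCharacter G (χ : G → ℂ) :=
    Cfsg.Agent.Lib.Helper3_CharBridge.isCharacter_of_isIrrCharacter χ.2
  have hcf := Cfsg.Agent.Lib.Helper3_CharBridge.isClassFunction_of_isCharacter hχ
  obtain ⟨d, p, r, hd, hp, hr, h3, h2⟩ := value_at_six hχ (orderOf_u h) (isConj_u_inv h)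
  obtain ⟨n, hn, hn1⟩ := irr_apply_one χ
  have hnd : n = d := by
    have : (n : ℂ) = (d : ℂ) := by rw [← hn1, ← hd]
    exact_mod_cast this
  refine ⟨d, p, r, hnd ▸ hn, hd, ?_, hr, h3, h2⟩
  rw [u_sq h] at hp
  rw [← hp, ← h.t1a]
  exact (hcf a t1).symm

end grp

end Cfsg.Agent.Lib.Helper99_D8_VAL
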