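import Mathlib
import Cfsg.Agent.Lib.Helper1_D8Defs
import Cfsg.Agent.Lib.Helper80_CharComplete
import Cfsg.Agent.Lib.Helper86_D8_SYMM
import Cfsg.Agent.Lib.Helper10_D8_CENT
import Cfsg.Agent.Lib.Helper91_D8_NCONJ
import Cfsg.Agent.Lib.Helper42_D8_FIX9
import Cfsg.Agent.Lib.Helper65_D8_ORD6aux
import Cfsg.Agent.Lib.Helper99_D8_VAL

/-!
# S3716 (architect helper1, market `d8_packages`): package GRAM (helper99)

The integer coordinates `m χ = (m1, m1', m2, m2')` of the irreducible characters on the classes of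
`a, a b, a t2, a b s`, and their Gram matrix (second orthogonality on the five classes of
`1, a, a b, a t2, a b s`).
-/

set_option autoImplicit false
set_option linter.unusedSectionVars false
set_option linter.unusedSimpArgs false
open scoped ComplexConjugate

namespace Cfsg.Agent.Lib.Helper99_D8_GRAM

open Cfsg Cfsg.Agent.Lib.Helper80_CharBasic Cfsg.Agent.Lib.Helper1_D8Defs

/-- the matrix expressing `6 • (m1, m1', m2, m2')` in terms of `(p, q, r, w)` -/
def AM : Fin 4 → Fin 4 → ℤ := ![![1, 2, 3, 0], ![1, 2, -3, 0], ![2, 1, 0, 3], ![2, 1, 0, -3]]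

/-- the Gram matrix of the four value vectors `p, q, r, w` -/
def SM : Fin 4 → Fin 4 → ℤ := ![![18, 0, 0, 0], ![0, 18, 0, 0], ![0, 0, 6, 0], ![0, 0, 0, 6]]

/-- the four values `(p, q, r, w)` of a coordinate vector -/
def VV (x : Fin 4 → ℤ) : Fin 4 → ℤ := ![pv x, qv x, rv x, wv x]

theorem six_mul_coord (x : Fin 4 → ℤ) (j : Fin 4) : 6 * x j = ∑ t, AM j t * VV x t := by
  fin_cases j <;> simp [Fin.sum_univ_four, AM, VV, pv, qv, rv, wv] <;> ring

theorem AM_SM_gram : ∀ j k : Fin 4, ∑ t, ∑ t', AM j t * AM k t' * SM t t' = 36 * gram j k := by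
  decide

/-- existence of the coordinates -/
theorem exists_coord {d : ℕ} {p q r w : ℤ} (h1 : (3 : ℤ) ∣ (d : ℤ) - p) (h2 : (2 : ℤ) ∣ p - r)
    (h3 : (3 : ℤ) ∣ (d : ℤ) - q) (h4 : (2 : ℤ) ∣ q - w) :
    ∃ x : Fin 4 → ℤ, pv x = p ∧ qv x = q ∧ rv x = r ∧ wv x = w := by
  obtain ⟨α, hα⟩ := h1
  obtain ⟨γ, hγ⟩ := h2
  obtain ⟨β, hβ⟩ := h3
  obtain ⟨δ, hδ⟩ := h4
  refine ⟨![(d : ℤ) - 2 * α - β - γ, (d : ℤ) - 2 * α - β - γ - r, (d : ℤ) - α - 2 * β - δ,
    (d : ℤ) - α - 2 * β - δ - w], ?_, ?_, ?_, ?_⟩ <;>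
  simp [pv, qv, rv, wv] <;> omega

section grp
variable {G : Type*} [Group G] [Finite G]
variable {M : Subgroup G} {a b t1 t2 s : G}

/-! ### GRAM -/
theorem gram_data (h : Hyp G M a b t1 t2 s) :
    ∃ (d : IrrCharacter G → ℕ) (m : IrrCharacter G → Fin 4 → ℤ), Vals G a b t2 s d m ∧
      m (oneIrr G) = ![1, 0, 1, 0] ∧
      (∀ j k, ∑ᶠ χ : IrrCharacter G, m χ j * m χ k = gram j k) ∧
      (∀ j, ∑ᶠ χ : IrrCharacter G, (d χ : ℤ) * m χ j = 0) ∧
      ∑ᶠ χ : IrrCharacter G, d χ ^ 2 = Nat.card G ∧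
      (∀ χ : IrrCharacter G, (9 : ℤ) ∣ (d χ : ℤ) + 4 * pv (m χ) + 4 * qv (m χ)) := by
  classical
  have := Fintype.ofFinite G
  let _ : Fintype (IrrCharacter G) := Fintype.ofFinite _
  have hs := Cfsg.Agent.Lib.Helper86_D8_SYMM.hyp_symm h
  -- the coordinates
  have hex : ∀ χ : IrrCharacter G, ∃ (d : ℕ) (x : Fin 4 → ℤ), 0 < d ∧ (χ : G → ℂ) 1 = (d : ℂ) ∧
      (χ : G → ℂ) a = (pv x : ℂ) ∧ (χ : G → ℂ) (a * b) = (qv x : ℂ) ∧
      (χ : G → ℂ) (a * t2) = (rv x : ℂ) ∧ (χ : G → ℂ) (a * b * s) = (wv x : ℂ) := by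
    intro χ
    obtain ⟨d, p, r, hd, hd1, hp, hr, h3, h2⟩ := Cfsg.Agent.Lib.Helper99_D8_VAL.vals_a h χ
    obtain ⟨d', q, w, hd', hd1', hq, hw, h3', h2'⟩ := Cfsg.Agent.Lib.Helper99_D8_VAL.vals_a hs χ
    have hdd : d' = d := by
      have : (d' : ℂ) = (d : ℂ) := by rw [← hd1, ← hd1']
      exact_mod_cast this
    subst hdd
    obtain ⟨x, hx1, hx2, hx3, hx4⟩ := exists_coord h3 h2 h3' h2'
    exact ⟨d', x, hd, hd1, by rw [hx1]; exact hp, by rw [hx2]; exact hq, by rw [hx3]; exact hr,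
      by rw [hx4]; exact hw⟩
  choose d m hd hv1 hva hvab hvu hvv using hex
  have hvals : Vals G a b t2 s d m := ⟨hd, hv1, hva, hvab, hvu, hvv⟩
  -- the values as entries of `VV`
  have hV0 : ∀ χ : IrrCharacter G, (χ : G → ℂ) a = ((VV (m χ) 0 : ℤ) : ℂ) := hva
  have hV1 : ∀ χ : IrrCharacter G, (χ : G → ℂ) (a * b) = ((VV (m χ) 1 : ℤ) : ℂ) := hvab
  have hV2 : ∀ χ : IrrCharacter G, (χ : G → ℂ) (a * t2) = ((VV (m χ) 2 : ℤ) : ℂ) := hvu
  have hV3 : ∀ χ : IrrCharacter G, (χ : G → ℂ) (a * b * s) = ((VV (m χ) 3 : ℤ) : ℂ) := hvv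
  have hD : ∀ χ : IrrCharacter G, (χ : G → ℂ) 1 = (((d χ : ℕ) : ℤ) : ℂ) := fun χ => by
    rw [hv1 χ]; push_cast; rfl
  -- centralizers and classes
  have hnc := Cfsg.Agent.Lib.Helper91_D8_NCONJ.not_conj h
  have hca := (Cfsg.Agent.Lib.Helper10_D8_CENT.cent_a h).1
  have hcab := (Cfsg.Agent.Lib.Helper10_D8_CENT.cent_a hs).1
  have hcu := (Cfsg.Agent.Lib.Helper65_D8_ORD6aux.order_six_of h
    (Cfsg.Agent.Lib.Helper10_D8_CENT.cent_a h).2).2.2.2.2.1
  have hcv := (Cfsg.Agent.Lib.Helper65_D8_ORD6aux.order_six_of hs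
    (Cfsg.Agent.Lib.Helper10_D8_CENT.cent_a hs).2).2.2.2.2.1
  obtain ⟨n12, n13, n14, n23, n24, n34, n01, n02, n03, n04⟩ := hnc
  -- second orthogonality
  have o := fun x y : G => Cfsg.Agent.Lib.Helper80_CharComplete.second_orthogonality_sum x y
  have o11 := o a a
  have o22 := o (a * b) (a * b)
  have o33 := o (a * t2) (a * t2)
  have o44 := o (a * b * s) (a * b * s)
  have o12 := o a (a * b)
  have o13 := o a (a * t2)
  have o14 := o a (a * b * s)
  have o23 := o (a * b) (a * t2)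
  have o24 := o (a * b) (a * b * s)
  have o34 := o (a * t2) (a * b * s)
  have o01 := o 1 a
  have o02 := o 1 (a * b)
  have o03 := o 1 (a * t2)
  have o04 := o 1 (a * b * s)
  rw [if_pos (IsConj.refl _), hca] at o11
  rw [if_pos (IsConj.refl _), hcab] at o22
  rw [if_pos (IsConj.refl _), hcu] at o33
  rw [if_pos (IsConj.refl _), hcv] at o44
  rw [if_neg n12] at o12
  rw [if_neg n13] at o13
  rw [if_neg n14] at o14
  rw [if_neg n23] at o23
  rw [if_neg n24] at o24
  rw [if_neg n34] at o34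
  rw [if_neg n01] at o01
  rw [if_neg n02] at o02
  rw [if_neg n03] at o03
  rw [if_neg n04] at o04
  simp only [hV0, hV1, hV2, hV3, hD, map_intCast] at o11 o22 o33 o44 o12 o13 o14 o23 o24 o34
  simp only [hV0, hV1, hV2, hV3, hD, map_intCast] at o01 o02 o03 o04
  have i11 : ∑ χ : IrrCharacter G, VV (m χ) 0 * VV (m χ) 0 = 18 := by exact_mod_cast o11
  have i22 : ∑ χ : IrrCharacter G, VV (m χ) 1 * VV (m χ) 1 = 18 := by exact_mod_cast o22
  have i33 : ∑ χ : IrrCharacter G, VV (m χ) 2 * VV (m χ) 2 = 6 := by exact_mod_cast o33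
  have i44 : ∑ χ : IrrCharacter G, VV (m χ) 3 * VV (m χ) 3 = 6 := by exact_mod_cast o44
  have i12 : ∑ χ : IrrCharacter G, VV (m χ) 0 * VV (m χ) 1 = 0 := by exact_mod_cast o12
  have i13 : ∑ χ : IrrCharacter G, VV (m χ) 0 * VV (m χ) 2 = 0 := by exact_mod_cast o13
  have i14 : ∑ χ : IrrCharacter G, VV (m χ) 0 * VV (m χ) 3 = 0 := by exact_mod_cast o14
  have i23 : ∑ χ : IrrCharacter G, VV (m χ) 1 * VV (m χ) 2 = 0 := by exact_mod_cast o23
  have i24 : ∑ χ : IrrCharacter G, VV (m χ) 1 * VV (m χ) 3 = 0 := by exact_mod_cast o24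
  have i34 : ∑ χ : IrrCharacter G, VV (m χ) 2 * VV (m χ) 3 = 0 := by exact_mod_cast o34
  have i01 : ∑ χ : IrrCharacter G, (d χ : ℤ) * VV (m χ) 0 = 0 := by exact_mod_cast o01
  have i02 : ∑ χ : IrrCharacter G, (d χ : ℤ) * VV (m χ) 1 = 0 := by exact_mod_cast o02
  have i03 : ∑ χ : IrrCharacter G, (d χ : ℤ) * VV (m χ) 2 = 0 := by exact_mod_cast o03
  have i04 : ∑ χ : IrrCharacter G, (d χ : ℤ) * VV (m χ) 3 = 0 := by exact_mod_cast o04
  have hcomm : ∀ t t' : Fin 4, ∑ χ : IrrCharacter G, VV (m χ) t * VV (m χ) t' =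
      ∑ χ : IrrCharacter G, VV (m χ) t' * VV (m χ) t := fun t t' =>
    Finset.sum_congr rfl (fun χ _ => mul_comm _ _)
  have hS : ∀ t t' : Fin 4, ∑ χ : IrrCharacter G, VV (m χ) t * VV (m χ) t' = SM t t' := by
    intro t t'
    fin_cases t <;> fin_cases t'
    · exact i11
    · exact i12
    · exact i13
    · exact i14
    · exact (hcomm _ _).trans i12
    · exact i22
    · exact i23
    · exact i24
    · exact (hcomm _ _).trans i13
    · exact (hcomm _ _).trans i23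
    · exact i33
    · exact i34
    · exact (hcomm _ _).trans i14
    · exact (hcomm _ _).trans i24
    · exact (hcomm _ _).trans i34
    · exact i44
  have hDV : ∀ t : Fin 4, ∑ χ : IrrCharacter G, (d χ : ℤ) * VV (m χ) t = 0 := by
    intro t
    fin_cases t
    · exact i01
    · exact i02
    · exact i03
    · exact i04
  -- the Gram matrix
  have h36 : ∀ j k : Fin 4, 36 * ∑ χ : IrrCharacter G, m χ j * m χ k = 36 * gram j k := by
    intro j k
    rw [← AM_SM_gram j k]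
    calc 36 * ∑ χ : IrrCharacter G, m χ j * m χ k
        = ∑ χ : IrrCharacter G, (6 * m χ j) * (6 * m χ k) := by
          rw [Finset.mul_sum]
          exact Finset.sum_congr rfl (fun χ _ => by ring)
      _ = ∑ χ : IrrCharacter G, ∑ t, ∑ t', AM j t * AM k t' * (VV (m χ) t * VV (m χ) t') := by
          refine Finset.sum_congr rfl (fun χ _ => ?_)
          rw [six_mul_coord, six_mul_coord, Finset.sum_mul_sum]
          exact Finset.sum_congr rfl
            (fun t _ => Finset.sum_congr rfl (fun t' _ => by ring))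
      _ = ∑ t, ∑ t', AM j t * AM k t' * ∑ χ : IrrCharacter G, VV (m χ) t * VV (m χ) t' := by
          rw [Finset.sum_comm]
          refine Finset.sum_congr rfl (fun t _ => ?_)
          rw [Finset.sum_comm]
          exact Finset.sum_congr rfl (fun t' _ => by rw [Finset.mul_sum])
      _ = ∑ t, ∑ t', AM j t * AM k t' * SM t t' := by simp only [hS]
  have h6 : ∀ j : Fin 4, 6 * ∑ χ : IrrCharacter G, (d χ : ℤ) * m χ j = 0 := by
    intro j
    calc 6 * ∑ χ : IrrCharacter G, (d χ : ℤ) * m χ j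
        = ∑ χ : IrrCharacter G, (d χ : ℤ) * (6 * m χ j) := by
          rw [Finset.mul_sum]
          exact Finset.sum_congr rfl (fun χ _ => by ring)
      _ = ∑ χ : IrrCharacter G, ∑ t, AM j t * ((d χ : ℤ) * VV (m χ) t) := by
          refine Finset.sum_congr rfl (fun χ _ => ?_)
          rw [six_mul_coord, Finset.mul_sum]
          exact Finset.sum_congr rfl (fun t _ => by ring)
      _ = ∑ t, AM j t * ∑ χ : IrrCharacter G, (d χ : ℤ) * VV (m χ) t := by
          rw [Finset.sum_comm]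
          exact Finset.sum_congr rfl (fun t _ => by rw [Finset.mul_sum])
      _ = 0 := by simp only [hDV, mul_zero, Finset.sum_const_zero]
  -- the principal character
  have hone : m (oneIrr G) = ![1, 0, 1, 0] := by
    have e1 : ((oneIrr G : IrrCharacter G) : G → ℂ) a = 1 := rfl
    have e2 : ((oneIrr G : IrrCharacter G) : G → ℂ) (a * b) = 1 := rfl
    have e3 : ((oneIrr G : IrrCharacter G) : G → ℂ) (a * t2) = 1 := rfl
    have e4 : ((oneIrr G : IrrCharacter G) : G → ℂ) (a * b * s) = 1 := rfl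
    have f1 : pv (m (oneIrr G)) = 1 := by
      have := hva (oneIrr G); rw [e1] at this; exact_mod_cast this.symm
    have f2 : qv (m (oneIrr G)) = 1 := by
      have := hvab (oneIrr G); rw [e2] at this; exact_mod_cast this.symm
    have f3 : rv (m (oneIrr G)) = 1 := by
      have := hvu (oneIrr G); rw [e3] at this; exact_mod_cast this.symm
    have f4 : wv (m (oneIrr G)) = 1 := by
      have := hvv (oneIrr G); rw [e4] at this; exact_mod_cast this.symm
    unfold pv at f1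
    unfold qv at f2
    unfold rv at f3
    unfold wv at f4
    funext j
    fin_cases j <;> simp <;> omega
  -- the degrees
  have hsq := Cfsg.Agent.Lib.Helper80_CharComplete.sum_sq_degrees (G := G)
  rw [finsum_eq_sum_of_fintype] at hsq
  simp only [hv1] at hsq
  have hF : ∑ χ : IrrCharacter G, d χ ^ 2 = Nat.card G := by exact_mod_cast hsq
  refine ⟨d, m, hvals, hone, ?_, ?_, ?_, ?_⟩
  · intro j k
    rw [finsum_eq_sum_of_fintype]
    have := h36 j k
    omega
  · intro j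
    rw [finsum_eq_sum_of_fintype]
    have := h6 j
    omega
  · rw [finsum_eq_sum_of_fintype]
    exact hF
  · intro χ
    exact Cfsg.Agent.Lib.Helper42_D8_FIX9.fix9 h χ (d χ) (pv (m χ)) (qv (m χ)) (hv1 χ) (hva χ)
      (hvab χ)

end grp

end Cfsg.Agent.Lib.Helper99_D8_GRAM
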