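import Mathlib
import Cfsg.Agent.Lib.Helper1_D8Defs
import Cfsg.Agent.Lib.Helper17_Sylow

/-!
S3716 package SYL (helper9, for helper1): `|G| = 72 k` with `k ≡ 1 mod 9`
(`M` is a TI Sylow 3-subgroup, fusion in `M` is controlled by `N_G(M)`, so `n_3 ≡ 1 mod 9`).
Model: `Helper98_H9_SYL`.
-/

set_option autoImplicit false
set_option linter.unusedSectionVars false

namespace Cfsg.Agent.Lib.Helper9_D8_SYL

open Cfsg Cfsg.Agent.Lib.Helper80_CharBasic Cfsg.Agent.Lib.Helper1_D8Defs

section grp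
variable {G : Type*} [Group G] [Finite G]
variable {M : Subgroup G} {a b t1 t2 s : G}

omit [Finite G] in
/-- the index of `M` in its normalizer is `8` -/
theorem index_eq_eight (h : Hyp G M a b t1 t2 s) :
    (M.subgroupOf (Subgroup.normalizer (M : Set G))).index = 8 := by
  have hle : M ≤ Subgroup.normalizer (M : Set G) := Subgroup.le_normalizer
  have h1 := Subgroup.card_mul_index (M.subgroupOf (Subgroup.normalizer (M : Set G)))
  have h2 : Nat.card (M.subgroupOf (Subgroup.normalizer (M : Set G))) = Nat.card M :=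
    Nat.card_congr (Subgroup.subgroupOfEquivOfLe hle).toEquiv
  rw [h2, h.card, h.cardN] at h1
  omega

/-- the eighth power of an element of the normalizer lies in `M` -/
theorem pow_eight_mem (h : Hyp G M a b t1 t2 s) {u : G}
    (hu : u ∈ Subgroup.normalizer (M : Set G)) : u ^ 8 ∈ M := by
  have h1 := Subgroup.pow_index_mem (M.subgroupOf (Subgroup.normalizer (M : Set G))) ⟨u, hu⟩
  rw [index_eq_eight h, Subgroup.mem_subgroupOf] at h1
  simpa using h1

/-- 3-elements (of order dividing `9`) of the normalizer lie in `M` -/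
theorem nine_mem (h : Hyp G M a b t1 t2 s) {u : G} (hu : u ∈ Subgroup.normalizer (M : Set G))
    (hu9 : u ^ 9 = 1) : u ∈ M := by
  have h8 := pow_eight_mem h hu
  have h64 : (u ^ 8) ^ 8 ∈ M := M.pow_mem h8 8
  have : (u ^ 8) ^ 8 = u := by
    rw [← pow_mul]
    have : u ^ (8 * 8) = (u ^ 9) ^ 7 * u := by rw [← pow_mul, ← pow_succ]
    rw [this, hu9, one_pow, one_mul]
  rwa [this] at h64

/-- control of fusion -/
theorem fusion' (h : Hyp G M a b t1 t2 s) {t g : G} (ht : t ∈ M) (ht1 : t ≠ 1)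
    (hg : g * t * g⁻¹ ∈ M) : g ∈ Subgroup.normalizer (M : Set G) := by
  have hfin : Finite (M : Set G) := inferInstance
  refine Subgroup.mem_normalizer_fintype (fun n hn => ?_)
  have hn' : n ∈ M := hn
  have hcomm : IsMulCommutative M := by
    have : Fact (Nat.Prime 3) := ⟨by norm_num⟩
    exact IsPGroup.isMulCommutative_of_card_eq_prime_sq (p := 3) (by rw [h.card]; norm_num)
  have hnt : n * t = t * n := by
    have := hcomm.is_comm.comm (⟨n, hn'⟩ : M) ⟨t, ht⟩
    exact congrArg Subtype.val this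
  have hs1 : g * t * g⁻¹ ≠ 1 := by
    intro h1
    apply ht1
    have : t = g⁻¹ * (g * t * g⁻¹) * g := by group
    rw [this, h1]; group
  have hn9 : n ^ 9 = 1 := by
    have := pow_card_eq_one' (G := M) (x := ⟨n, hn'⟩)
    rw [h.card] at this
    exact congrArg Subtype.val this
  have hc : g * n * g⁻¹ ∈ Subgroup.centralizer ({g * t * g⁻¹} : Set G) := by
    rw [Subgroup.mem_centralizer_iff]
    intro s hs
    rw [Set.mem_singleton_iff] at hs
    rw [hs]
    have e1 : g * t * g⁻¹ * (g * n * g⁻¹) = g * (t * n) * g⁻¹ := by group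
    have e2 : g * n * g⁻¹ * (g * t * g⁻¹) = g * (n * t) * g⁻¹ := by group
    rw [e1, e2, hnt]
  have hN := h.loc _ hg hs1 hc
  have h9 : (g * n * g⁻¹) ^ 9 = 1 := by
    rw [conj_pow, hn9]; group
  exact nine_mem h hN h9

/-- `n_3 ≡ 1 mod 9` -/
theorem card_sylow_modEq (h : Hyp G M a b t1 t2 s) (P : Sylow 3 G) (hP : (P : Subgroup G) = M) :
    Nat.card (Sylow 3 G) ≡ 1 [MOD 9] := by
  classical
  have : Fact (Nat.Prime 3) := ⟨Nat.prime_three⟩
  by_contra hcon
  have hcon' : ¬ Nat.card (Sylow 3 G) ≡ 1 [MOD 3 ^ 2] := by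
    norm_num
    exact hcon
  obtain ⟨R, hRP, hle⟩ := Cfsg.Agent.Lib.Helper17_Sylow.exists_sylow_relIndex_le 3 2 hcon' P
  have hcardP : Nat.card (P : Subgroup G) = 9 := by rw [hP]; exact h.card
  have hmul : Nat.card ((R : Subgroup G) ⊓ (P : Subgroup G) : Subgroup G) *
      (R : Subgroup G).relIndex (P : Subgroup G) = 9 := by
    rw [← hcardP, ← Subgroup.inf_relIndex_right]
    exact Cfsg.Agent.Lib.Helper17_Sylow.card_mul_relIndex_of_le inf_le_right
  have hne : Nat.card ((R : Subgroup G) ⊓ (P : Subgroup G) : Subgroup G) ≠ 1 := by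
    intro e
    rw [e, one_mul] at hmul
    rw [hmul] at hle
    norm_num at hle
  obtain ⟨t, htm, ht1⟩ : ∃ t ∈ ((R : Subgroup G) ⊓ (P : Subgroup G) : Subgroup G), t ≠ 1 := by
    by_contra hno
    push Not at hno
    apply hne
    have : ((R : Subgroup G) ⊓ (P : Subgroup G) : Subgroup G) = ⊥ := by
      rw [eq_bot_iff]
      intro u hu
      exact Subgroup.mem_bot.mpr (hno u hu)
    rw [this, Subgroup.card_bot]
  have htR : t ∈ (R : Subgroup G) := (Subgroup.mem_inf.mp htm).1
  have htT : t ∈ M := by rw [← hP]; exact (Subgroup.mem_inf.mp htm).2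
  obtain ⟨c, hc⟩ := MulAction.exists_smul_eq G P R
  have htR' : t ∈ ((c • P : Sylow 3 G) : Subgroup G) := by rw [hc]; exact htR
  rw [Cfsg.Agent.Lib.Helper17_Sylow.mem_smul_sylow] at htR'
  have h1 : c⁻¹ * t * c⁻¹⁻¹ ∈ M := by
    rw [← hP, inv_inv]
    exact htR'
  have hcN : c⁻¹ ∈ Subgroup.normalizer (M : Set G) := fusion' h htT ht1 h1
  have hcN' : c ∈ Subgroup.normalizer ((P : Subgroup G) : Set G) := by
    rw [hP]
    simpa using Subgroup.inv_mem _ hcN
  apply hRP
  rw [← hc]
  exact Sylow.smul_eq_iff_mem_normalizer.mpr hcN'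

/-! ### SYL -/
theorem card_eq (h : Hyp G M a b t1 t2 s) (P : Sylow 3 G) (hP : (P : Subgroup G) = M) :
    ∃ k : ℕ, Nat.card G = 72 * k ∧ k % 9 = 1 := by
  have : Fact (Nat.Prime 3) := ⟨Nat.prime_three⟩
  refine ⟨Nat.card (Sylow 3 G), ?_, ?_⟩
  · have e : Subgroup.normalizer ((P : Sylow 3 G) : Set G) = Subgroup.normalizer (M : Set G) := by
      rw [← hP]; rfl
    rw [Sylow.card_eq_index_normalizer P, e, ← h.cardN]
    exact (Subgroup.card_mul_index _).symm
  · have := card_sylow_modEq h P hP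
    unfold Nat.ModEq at this
    omega

end grp

end Cfsg.Agent.Lib.Helper9_D8_SYL
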