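import Mathlib
import Cfsg.Agent.Lib.Helper1_D8Defs
import Cfsg.Agent.Lib.Helper80_CharComplete
import Cfsg.Agent.Lib.Helper30_ThreePQ
import Cfsg.Agent.Lib.Helper99_D8_GRAM
import Cfsg.Agent.Lib.Helper42_D8_EQS
import Cfsg.Agent.Lib.Helper9_D8_SYL
import Cfsg.Agent.Lib.Helper7_D8_FSSUM

/-!
# S3716: the group-theoretic hub — from `Hyp` in a simple group to the pure data `Core`
-/

set_option autoImplicit false
open scoped ComplexConjugate

namespace Cfsg.Agent.Lib.Helper1_D8_GroupHub
open Cfsg Cfsg.Agent.Lib.Helper80_CharBasic Cfsg.Agent.Lib.Helper1_D8Defs Cfsg.Agent.Lib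

variable {G : Type*} [Group G] [Finite G] {M : Subgroup G} {a b t1 t2 s : G}

omit [Finite G] in
theorem perfect [IsSimpleGroup G] (h : Hyp G M a b t1 t2 s) : commutator G = ⊤ := by
  have hn : (commutator G).Normal := inferInstance
  rcases hn.eq_bot_or_eq_top with h0 | h1
  · exfalso
    have hc : t1 * a = a * t1 := by
      have : t1 * a * t1⁻¹ * a⁻¹ ∈ commutator G := by
        have := Subgroup.commutator_mem_commutator (H₁ := (⊤ : Subgroup G)) (H₂ := (⊤ : Subgroup G))
          (Subgroup.mem_top t1) (Subgroup.mem_top a)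
        rwa [commutatorElement_def] at this
      rw [h0, Subgroup.mem_bot] at this
      calc t1 * a = (t1 * a * t1⁻¹ * a⁻¹) * (a * t1) := by group
        _ = a * t1 := by rw [this, one_mul]
    have h2 : t1 * a * t1⁻¹ = a := by rw [hc]; group
    have h3 : a⁻¹ = a := by rw [← h.t1a, h2]
    have h4 : a ^ 2 = 1 := by
      calc a ^ 2 = a * a := pow_two a
        _ = a⁻¹ * a := by rw [h3]
        _ = 1 := by group
    have h5 := orderOf_dvd_of_pow_eq_one h4
    rw [h.oa] at h5
    omega
  · exact h1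

/-- CORE (assembly) -/
theorem core [IsSimpleGroup G] (h : Hyp G M a b t1 t2 s) (P : Sylow 3 G) (hP : (P : Subgroup G) = M) :
    ∃ (_ : Fintype (IrrCharacter G)) (d : IrrCharacter G → ℕ) (m : IrrCharacter G → Fin 4 → ℤ)
      (ν : IrrCharacter G → ℤ) (k : ℕ), Core (IrrCharacter G) (oneIrr G) d m ν k := by
  classical
  have inst : Fintype (IrrCharacter G) := Fintype.ofFinite _
  obtain ⟨d, m, hv, hmo, hgram, hcol, hsq, hfix⟩ := Helper99_D8_GRAM.gram_data h
  obtain ⟨he1, he2⟩ := Helper42_D8_EQS.eqs h hv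
  obtain ⟨k, hk, hkmod⟩ := Helper9_D8_SYL.card_eq h P hP
  obtain ⟨ν, hνo, hfs, hfs01, hfs0⟩ := Helper7_D8_FSSUM.fs_data h hv
  have hperf := perfect h
  refine ⟨inst, d, m, ν, k, ?_⟩
  simp only [finsum_eq_sum_of_fintype] at hgram hcol hsq he1 he2 hfs
  have hk0 : (k : ℚ) ≠ 0 := by
    intro h0
    have : k = 0 := by exact_mod_cast h0
    rw [this] at hkmod
    omega
  refine
    { dpos := hv.dpos
      d_o := ?_
      mo := hmo
      nuo := hνo
      lin := ?_
      gram := hgram
      col := hcol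
      fix9 := hfix
      eq1 := ?_
      eq2 := ?_
      sq := ?_
      hmod := hkmod
      hne := ?_
      fs := hfs
      fs01 := hfs01
      fs0 := hfs0 }
  · have h1 := hv.v1 (oneIrr G)
    have h2 : (oneIrr G : G → ℂ) 1 = 1 := rfl
    rw [h2] at h1
    exact_mod_cast h1.symm
  · intro χ hχ
    apply Cfsg.Agent.Lib.Helper30_ThreePQ.eq_one_of_linear hperf χ
    rw [hv.v1 χ, hχ]; norm_num
  · rw [hk] at he1
    push_cast at he1
    have : (72 : ℚ) * ((k : ℚ) * ∑ i, (pv (m i) : ℚ) ^ 2 * (qv (m i) : ℚ) / (d i : ℚ)) = 72 * 9 := by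
      rw [← mul_assoc]; linarith
    linarith
  · rw [hk] at he2
    push_cast at he2
    have : (72 : ℚ) * ((k : ℚ) * ∑ i, (pv (m i) : ℚ) * (qv (m i) : ℚ) ^ 2 / (d i : ℚ)) = 72 * 9 := by
      rw [← mul_assoc]; linarith
    linarith
  · rw [hsq, hk]
  · intro hk1
    rw [hk1, mul_one] at hk
    -- |G| = 72 = |N|: N = G, M normal, contradiction with simplicity
    have hN : Subgroup.normalizer (M : Set G) = ⊤ := by
      apply Subgroup.eq_top_of_card_eq
      rw [h.cardN, hk]
    have hMn : M.Normal := Subgroup.normalizer_eq_top_iff.mp hN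
    rcases hMn.eq_bot_or_eq_top with h0 | h1
    · have := h.card
      rw [h0] at this
      simp at this
    · have := h.card
      rw [h1, Subgroup.card_top, hk] at this
      omega

end Cfsg.Agent.Lib.Helper1_D8_GroupHub
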