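import Mathlib

/-!
S3716 market `d8_packages` (architect helper1), package ARITH4a (helper20): the arithmetic of the sign pattern (4a)
of shape 4 (the signs of `Sym(6)`).  `red1`: `F = B`, `C = A`, `H = E`; `red2`: `h ≤ 65`, finitely many cases.
-/

set_option autoImplicit false

namespace Cfsg.Agent.Lib.Helper20_D8_ARITH4a

/-- first reduction: `F = B`, `C = A`, `H = E` -/
theorem red1 (A B C D E F H I h : ℕ)
    (hA : 0 < A) (hB : 0 < B) (hC : 0 < C) (hF : 0 < F)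
    (c1 : (1 : ℤ) + F + H - I = 0)
    (c2 : (0 : ℤ) + C + D + E - I = 0)
    (c3 : (1 : ℤ) + B + E - I = 0)
    (c4 : (0 : ℤ) + A + D + H - I = 0)
    (e1 : (h : ℚ) * (1 - 4 / (A : ℚ) - 4 / (B : ℚ) + 2 / (C : ℚ) + 1 / (D : ℚ) + 1 / (E : ℚ) + 2 / (F : ℚ) + 1 / (H : ℚ) - 8 / (I : ℚ)) = 9)
    (e2 : (h : ℚ) * (1 + 2 / (A : ℚ) + 2 / (B : ℚ) - 4 / (C : ℚ) + 1 / (D : ℚ) + 1 / (E : ℚ) - 4 / (F : ℚ) + 1 / (H : ℚ) - 8 / (I : ℚ)) = 9)
    (lD : D ≠ 1) : F = B ∧ C = A ∧ H = E := by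
  have hh : (h : ℚ) ≠ 0 := by
    rintro h0
    rw [h0, zero_mul] at e1
    norm_num at e1
  have hAq : (A : ℚ) ≠ 0 := by positivity
  have hBq : (B : ℚ) ≠ 0 := by positivity
  have hCq : (C : ℚ) ≠ 0 := by positivity
  have hFq : (F : ℚ) ≠ 0 := by positivity
  -- `1/A + 1/B = 1/C + 1/F`
  have h1 : (1 : ℚ) / A + 1 / B = 1 / C + 1 / F := by
    have h2 : (h : ℚ) * (6 * (1 / C + 1 / F - 1 / A - 1 / B)) = 0 := by
      linear_combination e1 - e2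
    rcases mul_eq_zero.mp h2 with h3 | h3
    · exact absurd h3 hh
    · linarith
  have h2 : ((A : ℚ) * B) * (C + F) = (C * F) * (A + B) := by
    field_simp at h1
    linarith [h1]
  have h3 : ((A : ℤ) * B) * (C + F) = (C * F) * (A + B) := by exact_mod_cast h2
  have ha : (A : ℤ) = C + F - B := by linarith
  have key : ((A : ℤ) + B) * ((F : ℤ) - B) * ((B : ℤ) - C) = 0 := by
    rw [ha] at h3 ⊢
    linear_combination h3
  have hAB : ((A : ℤ) + B) ≠ 0 := by positivity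
  rcases mul_eq_zero.mp key with h4 | h4
  · rcases mul_eq_zero.mp h4 with h5 | h5
    · exact absurd h5 hAB
    · have : F = B := by omega
      omega
  · exfalso
    apply lD
    omega

theorem red2 (A B D E I h : ℕ) (hA : 5 ≤ A) (hB : 14 ≤ B) (hD : 10 ≤ D) (hE : 10 ≤ E)
    (hI : I = 1 + B + E) (hAD : A + D = B + 1)
    (e : (h : ℚ) * (1 - 2 / (A : ℚ) - 2 / (B : ℚ) + 1 / (D : ℚ) + 2 / (E : ℚ) - 8 / (I : ℚ)) = 9)
    (sq : 1 + 2 * A ^ 2 + 2 * B ^ 2 + D ^ 2 + 2 * E ^ 2 + I ^ 2 ≤ 72 * h)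
    (mB : B % 9 = 5) (mD : D % 9 = 1) (mE : E % 9 = 1) (hmod : h % 9 = 1) : False := by
  have hI25 : 25 ≤ I := by omega
  have hAq : (0 : ℚ) < A := by positivity
  have hBq : (0 : ℚ) < B := by positivity
  have hDq : (0 : ℚ) < D := by positivity
  have hEq : (0 : ℚ) < E := by positivity
  have hIq : (0 : ℚ) < I := by positivity
  have hhq : (0 : ℚ) ≤ h := by positivity
  -- lower bound for the bracket
  have b1 : (2 : ℚ) / A ≤ 2 / 5 := by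
    rw [div_le_div_iff₀ hAq (by norm_num)]
    have : (5 : ℚ) ≤ A := by exact_mod_cast hA
    linarith
  have b2 : (2 : ℚ) / B ≤ 2 / 14 := by
    rw [div_le_div_iff₀ hBq (by norm_num)]
    have : (14 : ℚ) ≤ B := by exact_mod_cast hB
    linarith
  have b3 : (8 : ℚ) / I ≤ 8 / 25 := by
    rw [div_le_div_iff₀ hIq (by norm_num)]
    have : (25 : ℚ) ≤ I := by exact_mod_cast hI25
    linarith
  have b4 : (0 : ℚ) < 1 / D := by positivity
  have b5 : (0 : ℚ) < 2 / E := by positivity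
  have hval : (24 : ℚ) / 175 ≤
      1 - 2 / (A : ℚ) - 2 / (B : ℚ) + 1 / (D : ℚ) + 2 / (E : ℚ) - 8 / (I : ℚ) := by
    linarith
  have hh65 : h ≤ 65 := by
    have h1 : (h : ℚ) * (24 / 175) ≤ 9 := by
      calc (h : ℚ) * (24 / 175) ≤ (h : ℚ) * (1 - 2 / (A : ℚ) - 2 / (B : ℚ) + 1 / (D : ℚ)
            + 2 / (E : ℚ) - 8 / (I : ℚ)) := mul_le_mul_of_nonneg_left hval hhq
        _ = 9 := e
    have h2 : (h : ℚ) < 66 := by linarith
    have h3 : h < 66 := by exact_mod_cast h2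
    omega
  -- the integer equation
  have hz : (h : ℤ) * ((A : ℤ) * B * D * E * I - 2 * B * D * E * I - 2 * A * D * E * I
      + A * B * E * I + 2 * A * B * D * I - 8 * A * B * D * E) = 9 * A * B * D * E * I := by
    have h1 : (h : ℚ) * ((A : ℚ) * B * D * E * I - 2 * B * D * E * I - 2 * A * D * E * I
        + A * B * E * I + 2 * A * B * D * I - 8 * A * B * D * E) = 9 * A * B * D * E * I := by
      have h2 : ((A : ℚ) * B * D * E * I - 2 * B * D * E * I - 2 * A * D * E * I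
          + A * B * E * I + 2 * A * B * D * I - 8 * A * B * D * E) =
          (1 - 2 / (A : ℚ) - 2 / (B : ℚ) + 1 / (D : ℚ) + 2 / (E : ℚ) - 8 / (I : ℚ)) *
            (A * B * D * E * I) := by
        field_simp
      rw [h2, ← mul_assoc, e]
      ring
    exact_mod_cast h1
  -- bounds from `sq`
  have hsq : 1 + 2 * A ^ 2 + 2 * B ^ 2 + D ^ 2 + 2 * E ^ 2 + I ^ 2 ≤ 4680 := by omega
  have hB48 : B ≤ 48 := by nlinarith
  have hE48 : E ≤ 48 := by nlinarith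
  have hBv : B = 14 ∨ B = 23 ∨ B = 32 ∨ B = 41 := by omega
  have hEv : E = 10 ∨ E = 19 ∨ E = 28 ∨ E = 37 ∨ E = 46 := by omega
  have hDv : D = 10 ∨ D = 19 ∨ D = 28 ∨ D = 37 := by omega
  have hAv : A = 5 ∨ A = 14 ∨ A = 23 ∨ A = 32 := by omega
  rcases hBv with rfl | rfl | rfl | rfl <;> rcases hDv with rfl | rfl | rfl | rfl <;>
      rcases hAv with rfl | rfl | rfl | rfl <;>
    first
    | omega
    | (rcases hEv with rfl | rfl | rfl | rfl | rfl <;> subst hI <;> norm_num at hz sq <;> omega)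

theorem arith4a (A B C D E F H I h : ℕ)
    (hA : 0 < A) (hB : 0 < B) (hC : 0 < C) (hD : 0 < D) (hE : 0 < E) (hF : 0 < F) (hH : 0 < H) (hI : 0 < I)
    (c1 : (1 : ℤ) + F + H - I = 0)
    (c2 : (0 : ℤ) + C + D + E - I = 0)
    (c3 : (1 : ℤ) + B + E - I = 0)
    (c4 : (0 : ℤ) + A + D + H - I = 0)
    (e1 : (h : ℚ) * (1 - 4 / (A : ℚ) - 4 / (B : ℚ) + 2 / (C : ℚ) + 1 / (D : ℚ) + 1 / (E : ℚ) + 2 / (F : ℚ) + 1 / (H : ℚ) - 8 / (I : ℚ)) = 9)
    (e2 : (h : ℚ) * (1 + 2 / (A : ℚ) + 2 / (B : ℚ) - 4 / (C : ℚ) + 1 / (D : ℚ) + 1 / (E : ℚ) - 4 / (F : ℚ) + 1 / (H : ℚ) - 8 / (I : ℚ)) = 9)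
    (sq : 1 + A ^ 2 + B ^ 2 + C ^ 2 + D ^ 2 + E ^ 2 + F ^ 2 + H ^ 2 + I ^ 2 ≤ 72 * h)
    (mA : A % 9 = 5) (mB : B % 9 = 5) (mC : C % 9 = 5) (mD : D % 9 = 1) (mE : E % 9 = 1) (mF : F % 9 = 5) (mH : H % 9 = 1) (mI : I % 9 = 7)
    (hmod : h % 9 = 1) (hne : h ≠ 1)
    (lD : D ≠ 1) (lE : E ≠ 1) (lH : H ≠ 1) : False := by
  obtain ⟨rfl, rfl, rfl⟩ := red1 A B C D E F H I h hA hB hC hF c1 c2 c3 c4 e1 e2 lD
  have hA5 : 5 ≤ C := by omega
  have hD10 : 10 ≤ D := by omega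
  have hE10 : 10 ≤ H := by omega
  have hAD : C + D = F + 1 := by omega
  have hB14 : 14 ≤ F := by omega
  have hI' : I = 1 + F + H := by omega
  refine red2 C F D H I h hA5 hB14 hD10 hE10 hI' hAD ?_ ?_ mB mD mE hmod
  · rw [← e1]
    ring
  · have : 1 + C ^ 2 + F ^ 2 + C ^ 2 + D ^ 2 + H ^ 2 + F ^ 2 + H ^ 2 + I ^ 2 =
        1 + 2 * C ^ 2 + 2 * F ^ 2 + D ^ 2 + 2 * H ^ 2 + I ^ 2 := by ring
    omega

end Cfsg.Agent.Lib.Helper20_D8_ARITH4a
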