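import Mathlib

set_option autoImplicit false

namespace Cfsg.Agent.Lib.Helper24_D8_ARITH4b

theorem h24_inv_le {x : ℕ} {n : ℕ} (hn : 0 < n) (hx : n ≤ x) : (1 : ℚ) / (x : ℚ) ≤ 1 / (n : ℚ) := by
  have hn' : (0 : ℚ) < (n : ℚ) := by exact_mod_cast hn
  have hx' : (n : ℚ) ≤ (x : ℚ) := by exact_mod_cast hx
  exact one_div_le_one_div_of_le hn' hx'

theorem h24_inv_pos {x : ℕ} (hx : 0 < x) : (0 : ℚ) < 1 / (x : ℚ) := by
  have hx' : (0 : ℚ) < (x : ℚ) := by exact_mod_cast hx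
  positivity

theorem arith4b (A B C D E F H I h : ℕ)
    (hA : 0 < A) (hB : 0 < B) (hC : 0 < C) (hD : 0 < D) (hE : 0 < E) (hF : 0 < F) (hH : 0 < H) (hI : 0 < I)
    (c1 : (1 : ℤ) + F - H + I = 0)
    (c2 : (0 : ℤ) + C + D - E + I = 0)
    (c3 : (1 : ℤ) + B - E + I = 0)
    (c4 : (0 : ℤ) + A + D - H + I = 0)
    (e1 : (h : ℚ) * (1 - 4 / (A : ℚ) - 4 / (B : ℚ) + 2 / (C : ℚ) + 1 / (D : ℚ) - 1 / (E : ℚ) + 2 / (F : ℚ) - 1 / (H : ℚ) + 8 / (I : ℚ)) = 9)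
    (e2 : (h : ℚ) * (1 + 2 / (A : ℚ) + 2 / (B : ℚ) - 4 / (C : ℚ) + 1 / (D : ℚ) - 1 / (E : ℚ) - 4 / (F : ℚ) - 1 / (H : ℚ) + 8 / (I : ℚ)) = 9)
    (sq : 1 + A ^ 2 + B ^ 2 + C ^ 2 + D ^ 2 + E ^ 2 + F ^ 2 + H ^ 2 + I ^ 2 ≤ 72 * h)
    (mA : A % 9 = 5) (mB : B % 9 = 5) (mC : C % 9 = 5) (mD : D % 9 = 1) (mE : E % 9 = 8) (mF : F % 9 = 5) (mH : H % 9 = 8) (mI : I % 9 = 2)
    (hmod : h % 9 = 1) (hne : h ≠ 1)
    (lD : D ≠ 1) : False := by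
  -- natural number relations
  have rH : H = 1 + F + I := by omega
  have rE : E = C + D + I := by omega
  have rE' : E = 1 + B + I := by omega
  have rH' : H = A + D + I := by omega
  have bA : 5 ≤ A := by omega
  have bC : 5 ≤ C := by omega
  have bD : 10 ≤ D := by omega
  have bI : 2 ≤ I := by omega
  have bB : 14 ≤ B := by omega
  have bF : 14 ≤ F := by omega
  have bE : 17 ≤ E := by omega
  have bH : 17 ≤ H := by omega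
  have bh : 10 ≤ h := by omega
  -- the average of the two equations
  have avg : (h : ℚ) * (1 - 1 / (A : ℚ) - 1 / (B : ℚ) - 1 / (C : ℚ) - 1 / (F : ℚ) + 1 / (D : ℚ) - 1 / (E : ℚ)
      - 1 / (H : ℚ) + 8 / (I : ℚ)) = 9 := by
    linear_combination (1 / 2 : ℚ) * e1 + (1 / 2 : ℚ) * e2
  have iA := h24_inv_le (n := 5) (by norm_num) bA
  have iC := h24_inv_le (n := 5) (by norm_num) bC
  have iB := h24_inv_le (n := 14) (by norm_num) bB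
  have iF := h24_inv_le (n := 14) (by norm_num) bF
  have iE := h24_inv_le (n := 17) (by norm_num) bE
  have iH := h24_inv_le (n := 17) (by norm_num) bH
  have pD := h24_inv_pos hD
  have pI := h24_inv_pos hI
  have hh : (10 : ℚ) ≤ (h : ℚ) := by exact_mod_cast bh
  have e8 : (8 : ℚ) / (I : ℚ) = 8 * (1 / (I : ℚ)) := by ring
  -- h ≤ 26
  have hle : h ≤ 26 := by
    by_contra hcon
    have h27 : (27 : ℚ) ≤ (h : ℚ) := by exact_mod_cast (by omega : 27 ≤ h)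
    have hv : (202 / 595 : ℚ) ≤ 1 - 1 / (A : ℚ) - 1 / (B : ℚ) - 1 / (C : ℚ) - 1 / (F : ℚ) + 1 / (D : ℚ) - 1 / (E : ℚ)
      - 1 / (H : ℚ) + 8 / (I : ℚ) := by
      rw [e8]; push_cast at *; linarith
    have : (27 : ℚ) * (202 / 595) ≤ (h : ℚ) * (1 - 1 / (A : ℚ) - 1 / (B : ℚ) - 1 / (C : ℚ) - 1 / (F : ℚ) + 1 / (D : ℚ) - 1 / (E : ℚ)
      - 1 / (H : ℚ) + 8 / (I : ℚ)) := by
      apply mul_le_mul h27 hv (by norm_num) (by linarith)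
    rw [avg] at this
    norm_num at this
  have h19 : h ≤ 19 := by omega
  -- I = 2
  have hI2 : I = 2 := by
    by_contra hcon
    have bI' : 11 ≤ I := by omega
    have bE' : 26 ≤ E := by omega
    have bH' : 26 ≤ H := by omega
    have sE : 26 ^ 2 ≤ E ^ 2 := Nat.pow_le_pow_left bE' 2
    have sH : 26 ^ 2 ≤ H ^ 2 := Nat.pow_le_pow_left bH' 2
    have sB : 14 ^ 2 ≤ B ^ 2 := Nat.pow_le_pow_left bB 2
    have sF : 14 ^ 2 ≤ F ^ 2 := Nat.pow_le_pow_left bF 2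
    omega
  subst hI2
  have hv : (4 : ℚ) ≤ 1 - 1 / (A : ℚ) - 1 / (B : ℚ) - 1 / (C : ℚ) - 1 / (F : ℚ) + 1 / (D : ℚ) - 1 / (E : ℚ)
      - 1 / (H : ℚ) + 8 / ((2 : ℕ) : ℚ) := by
    push_cast at *; linarith
  have : (10 : ℚ) * 4 ≤ (h : ℚ) * (1 - 1 / (A : ℚ) - 1 / (B : ℚ) - 1 / (C : ℚ) - 1 / (F : ℚ) + 1 / (D : ℚ) - 1 / (E : ℚ)
      - 1 / (H : ℚ) + 8 / ((2 : ℕ) : ℚ)) := by
    apply mul_le_mul hh hv (by norm_num) (by linarith)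
  rw [avg] at this
  norm_num at this

end Cfsg.Agent.Lib.Helper24_D8_ARITH4b
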