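import Mathlib

set_option autoImplicit false

namespace Cfsg.Agent.Lib.Helper24_D8_ARITH4c

theorem h24c_inv_le {x : ℕ} {n : ℕ} (hn : 0 < n) (hx : n ≤ x) : (1 : ℚ) / (x : ℚ) ≤ 1 / (n : ℚ) := by
  have hn' : (0 : ℚ) < (n : ℚ) := by exact_mod_cast hn
  have hx' : (n : ℚ) ≤ (x : ℚ) := by exact_mod_cast hx
  exact one_div_le_one_div_of_le hn' hx'

theorem h24c_inv_pos {x : ℕ} (hx : 0 < x) : (0 : ℚ) < 1 / (x : ℚ) := by
  have hx' : (0 : ℚ) < (x : ℚ) := by exact_mod_cast hx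
  positivity

theorem arith4c (A B C D E F H I h : ℕ)
    (hA : 0 < A) (hB : 0 < B) (hC : 0 < C) (hD : 0 < D) (hE : 0 < E) (hF : 0 < F) (hH : 0 < H) (hI : 0 < I)
    (c1 : (1 : ℤ) - F + H + I = 0)
    (c2 : (0 : ℤ) + C - D + E + I = 0)
    (c3 : (1 : ℤ) - B + E + I = 0)
    (c4 : (0 : ℤ) + A - D + H + I = 0)
    (e1 : (h : ℚ) * (1 - 4 / (A : ℚ) + 4 / (B : ℚ) + 2 / (C : ℚ) - 1 / (D : ℚ) + 1 / (E : ℚ) - 2 / (F : ℚ) + 1 / (H : ℚ) + 8 / (I : ℚ)) = 9)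
    (e2 : (h : ℚ) * (1 + 2 / (A : ℚ) - 2 / (B : ℚ) - 4 / (C : ℚ) - 1 / (D : ℚ) + 1 / (E : ℚ) + 4 / (F : ℚ) + 1 / (H : ℚ) + 8 / (I : ℚ)) = 9)
    (sq : 1 + A ^ 2 + B ^ 2 + C ^ 2 + D ^ 2 + E ^ 2 + F ^ 2 + H ^ 2 + I ^ 2 ≤ 72 * h)
    (mA : A % 9 = 5) (mB : B % 9 = 4) (mC : C % 9 = 5) (mD : D % 9 = 8) (mE : E % 9 = 1) (mF : F % 9 = 4) (mH : H % 9 = 1) (mI : I % 9 = 2)
    (hmod : h % 9 = 1) (hne : h ≠ 1)
    (lE : E ≠ 1) (lH : H ≠ 1) : False := by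
  have rD : D = C + E + I := by omega
  have bA : 5 ≤ A := by omega
  have bC : 5 ≤ C := by omega
  have bE : 10 ≤ E := by omega
  have bI : 2 ≤ I := by omega
  have bD : 17 ≤ D := by omega
  have bh : 10 ≤ h := by omega
  have avg : (h : ℚ) * (1 - 1 / (A : ℚ) + 1 / (B : ℚ) - 1 / (C : ℚ) - 1 / (D : ℚ) + 1 / (E : ℚ) + 1 / (F : ℚ)
      + 1 / (H : ℚ) + 8 / (I : ℚ)) = 9 := by
    linear_combination (1 / 2 : ℚ) * e1 + (1 / 2 : ℚ) * e2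
  have iA := h24c_inv_le (n := 5) (by norm_num) bA
  have iC := h24c_inv_le (n := 5) (by norm_num) bC
  have iD := h24c_inv_le (n := 17) (by norm_num) bD
  have pB := h24c_inv_pos hB
  have pE := h24c_inv_pos hE
  have pF := h24c_inv_pos hF
  have pH := h24c_inv_pos hH
  have pI := h24c_inv_pos hI
  have hh : (10 : ℚ) ≤ (h : ℚ) := by exact_mod_cast bh
  have e8 : (8 : ℚ) / (I : ℚ) = 8 * (1 / (I : ℚ)) := by ring
  -- h ≤ 16, hence h = 10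
  have hle : h ≤ 16 := by
    by_contra hcon
    have h17 : (17 : ℚ) ≤ (h : ℚ) := by exact_mod_cast (by omega : 17 ≤ h)
    have hv : (46 / 85 : ℚ) ≤ 1 - 1 / (A : ℚ) + 1 / (B : ℚ) - 1 / (C : ℚ) - 1 / (D : ℚ) + 1 / (E : ℚ) + 1 / (F : ℚ)
      + 1 / (H : ℚ) + 8 / (I : ℚ) := by
      rw [e8]; push_cast at *; linarith
    have : (17 : ℚ) * (46 / 85) ≤ (h : ℚ) * (1 - 1 / (A : ℚ) + 1 / (B : ℚ) - 1 / (C : ℚ) - 1 / (D : ℚ) + 1 / (E : ℚ) + 1 / (F : ℚ)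
      + 1 / (H : ℚ) + 8 / (I : ℚ)) := by
      apply mul_le_mul h17 hv (by norm_num) (by linarith)
    rw [avg] at this
    norm_num at this
  have h10 : h = 10 := by omega
  subst h10
  -- I ≤ 26 from the sum of squares, hence I ≤ 20
  have hI26 : I ≤ 26 := by
    by_contra hcon
    have bI' : 27 ≤ I := by omega
    have sI : 27 ^ 2 ≤ I ^ 2 := Nat.pow_le_pow_left bI' 2
    omega
  have hI20 : I ≤ 20 := by omega
  have iI : (1 : ℚ) / (20 : ℚ) ≤ 1 / (I : ℚ) := by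
    have hI' : (0 : ℚ) < (I : ℚ) := by exact_mod_cast hI
    have : (I : ℚ) ≤ (20 : ℚ) := by exact_mod_cast hI20
    exact one_div_le_one_div_of_le hI' this
  have hv : (46 / 85 + 8 / 20 : ℚ) ≤ 1 - 1 / (A : ℚ) + 1 / (B : ℚ) - 1 / (C : ℚ) - 1 / (D : ℚ) + 1 / (E : ℚ) + 1 / (F : ℚ)
      + 1 / (H : ℚ) + 8 / (I : ℚ) := by
    rw [e8]; push_cast at *; linarith
  have : (10 : ℚ) * (46 / 85 + 8 / 20) ≤ ((10 : ℕ) : ℚ) * (1 - 1 / (A : ℚ) + 1 / (B : ℚ) - 1 / (C : ℚ) - 1 / (D : ℚ) + 1 / (E : ℚ) + 1 / (F : ℚ)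
      + 1 / (H : ℚ) + 8 / (I : ℚ)) := by
    apply mul_le_mul (by norm_num) hv (by norm_num) (by norm_num)
  rw [avg] at this
  norm_num at this

end Cfsg.Agent.Lib.Helper24_D8_ARITH4c
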