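import Mathlib
import Cfsg.Agent.Lib.Helper1_D8Defs
import Cfsg.Agent.Lib.Helper16_D8_EXPL

/-!
# S3716, package SHAPE1 (helper53 for helper1, parallel seat): shape 1 is impossible.

`shape1_arith` : the pure arithmetic (signs from the Frobenius-Schur equations, then the difference of
the two class-multiplication equations against the column equations).
`shape1_of`    : `shape1` with the extra hypothesis `d o = 1` (via `Helper16_D8_EXPL.expl_of`).
-/

set_option autoImplicit false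

namespace Cfsg.Agent.Lib.Helper53_D8_SHAPE1aux

open Cfsg Cfsg.Agent.Lib.Helper1_D8Defs

theorem h53_hR1 : ∀ k, ∃ j, R1 k j = 1 ∨ R1 k j = -1 := by decide

/-- rows of `R1` proportional by a sign: only rows 1 and 2 -/
theorem h53_R1_rows : ∀ k k' : Fin 7, k' ≠ k →
    ((∀ j, R1 k' j = R1 k j) ∨ (∀ j, R1 k' j = -R1 k j)) → (k = 1 ∧ k' = 2) ∨ (k = 2 ∧ k' = 1) := by
  decide

/-- the pure arithmetic of shape 1 -/
theorem shape1_arith (ε : Fin 7 → ℤ) (ν' : Fin 7 → ℤ) (D : Fin 7 → ℕ) (h : ℕ)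
    (hε : ∀ k, ε k = 1 ∨ ε k = -1)
    (hcol : ∀ j, (![1, 0, 1, 0] : Fin 4 → ℤ) j + ∑ k, (ε k * (D k : ℤ)) * R1 k j = 0)
    (he1 : (h : ℚ) * (1 + ∑ k, ((pv (R1 k) : ℚ) ^ 2 * (qv (R1 k) : ℚ)) / ((ε k : ℚ) * (D k : ℚ))) = 9)
    (he2 : (h : ℚ) * (1 + ∑ k, ((pv (R1 k) : ℚ) * (qv (R1 k) : ℚ) ^ 2) / ((ε k : ℚ) * (D k : ℚ))) = 9)
    (hfs : ∀ j, (![1, 0, 1, 0] : Fin 4 → ℤ) j + ∑ k, ν' k * ε k * R1 k j = 2)
    (hpos : ∀ k, 0 < D k)
    (hν01 : ∀ k, ν' k = 0 ∨ ν' k = 1)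
    (hν0 : ∀ k, ν' k = 0 → ∃ k', k' ≠ k ∧ (∀ j, ε k' * R1 k' j = ε k * R1 k j) ∧ ν' k' = 0) :
    False := by
  -- the indicators of the rows other than rows 1, 2 are `1`
  have hsign : ∀ k k' : Fin 7, (∀ j, ε k' * R1 k' j = ε k * R1 k j) →
      ((∀ j, R1 k' j = R1 k j) ∨ (∀ j, R1 k' j = -R1 k j)) := by
    intro k k' hrow
    rcases hε k with e1 | e1 <;> rcases hε k' with e2 | e2
    · left; intro j; have := hrow j; rw [e1, e2] at this; linarith
    · right; intro j; have := hrow j; rw [e1, e2] at this; linarith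
    · right; intro j; have := hrow j; rw [e1, e2] at this; linarith
    · left; intro j; have := hrow j; rw [e1, e2] at this; linarith
  have hν1 : ∀ k : Fin 7, k ≠ 1 → k ≠ 2 → ν' k = 1 := by
    intro k hk1 hk2
    rcases hν01 k with h0 | h1
    · exfalso
      obtain ⟨k', hne, hrow, -⟩ := hν0 k h0
      rcases h53_R1_rows k k' hne (hsign k k' hrow) with ⟨rfl, _⟩ | ⟨rfl, _⟩
      · exact hk1 rfl
      · exact hk2 rfl
    · exact h1
  have hν12 : ν' 1 = 0 → ν' 2 = 0 ∧ ε 2 = ε 1 := by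
    intro h0
    obtain ⟨k', hne, hrow, hk'⟩ := hν0 1 h0
    rcases h53_R1_rows 1 k' hne (hsign 1 k' hrow) with ⟨_, rfl⟩ | ⟨h1, _⟩
    · refine ⟨hk', ?_⟩
      have := hrow 1
      simpa [R1] using this
    · exact absurd h1 (by decide)
  have hν21 : ν' 2 = 0 → ν' 1 = 0 ∧ ε 2 = ε 1 := by
    intro h0
    obtain ⟨k', hne, hrow, hk'⟩ := hν0 2 h0
    rcases h53_R1_rows 2 k' hne (hsign 2 k' hrow) with ⟨h1, _⟩ | ⟨_, rfl⟩
    · exact absurd h1 (by decide)
    · refine ⟨hk', ?_⟩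
      have := hrow 1
      simpa [R1] using this.symm
  have n0 := hν1 0 (by decide) (by decide)
  have n3 := hν1 3 (by decide) (by decide)
  have n4 := hν1 4 (by decide) (by decide)
  have n5 := hν1 5 (by decide) (by decide)
  have n6 := hν1 6 (by decide) (by decide)
  have f0 := hfs 0
  have f1 := hfs 1
  have f2 := hfs 2
  have f3 := hfs 3
  have c0 := hcol 0
  have c1 := hcol 1
  have c2 := hcol 2
  have c3 := hcol 3
  simp [Fin.sum_univ_succ, R1] at f0 f1 f2 f3 c0 c1 c2 c3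
  simp [Fin.sum_univ_succ, R1, pv, qv] at he1 he2
  rw [n0, n3, n4, n5, n6] at *
  have E0 := hε 0
  have E3 := hε 3
  have E4 := hε 4
  have E5 := hε 5
  have E6 := hε 6
  have e5 : ε 5 = -1 := by omega
  have e3 : ε 3 = 1 := by omega
  have e6 : ε 6 = 1 := by omega
  have e0 : ε 0 = -1 := by omega
  have e4 : ε 4 = 1 := by omega
  rw [e3, e6] at f1
  rw [e4, e5, e6] at c0
  rw [e3, e6] at c1
  rw [e0, e3, e6] at c2
  rw [e0, e3, e5, e6] at c3
  have p0 := hpos 0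
  have p1 := hpos 1
  have p2 := hpos 2
  have p3 := hpos 3
  have p4 := hpos 4
  have p5 := hpos 5
  have p6 := hpos 6
  have hd4 : (D 4 : ℤ) = 2 * D 3 + D 6 := by omega
  have q1 : (0 : ℚ) < D 1 := by exact_mod_cast p1
  have q2 : (0 : ℚ) < D 2 := by exact_mod_cast p2
  have q3 : (0 : ℚ) < D 3 := by exact_mod_cast p3
  have q4 : (0 : ℚ) < D 4 := by exact_mod_cast p4
  have q6 : (0 : ℚ) < D 6 := by exact_mod_cast p6
  have hd4q : (D 4 : ℚ) = 2 * D 3 + D 6 := by exact_mod_cast hd4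
  have hh : (h : ℚ) ≠ 0 := by
    intro h0
    rw [h0, zero_mul] at he1
    norm_num at he1
  have hdiff : (h : ℚ) * (6 / ((ε 1 : ℚ) * D 1) + 6 / ((ε 2 : ℚ) * D 2) + 6 / ((ε 4 : ℚ) * D 4)) = 0 := by
    linear_combination he1 - he2
  have hd : 1 / ((ε 1 : ℚ) * D 1) + 1 / ((ε 2 : ℚ) * D 2) + 1 / ((ε 4 : ℚ) * D 4) = 0 := by
    have := (mul_eq_zero.mp hdiff).resolve_left hh
    linear_combination this / 6
  rw [e4] at hd
  have E1 := hε 1
  have E2 := hε 2
  have N1 := hν01 1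
  have N2 := hν01 2
  rcases E1 with e1 | e1 <;> rcases E2 with e2 | e2
  · -- (+,+)
    rw [e1, e2] at c1
    omega
  · -- (+,-)
    rw [e1, e2] at c1 hd
    have c1q : (D 2 : ℚ) = D 1 + D 3 + D 6 := by
      have : (D 2 : ℤ) = D 1 + D 3 + D 6 := by omega
      exact_mod_cast this
    have : (D 2 : ℚ) * D 4 - D 1 * D 4 + D 1 * D 2 = 0 := by
      field_simp at hd
      push_cast at hd
      linarith
    have a1 : (0 : ℚ) < ((D 2 : ℚ) - D 1) * D 4 := mul_pos (by linarith) q4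
    have a2 := mul_pos q1 q2
    linarith
  · -- (-,+)
    rw [e1, e2] at c1 hd
    have c1q : (D 1 : ℚ) = D 2 + D 3 + D 6 := by
      have : (D 1 : ℤ) = D 2 + D 3 + D 6 := by omega
      exact_mod_cast this
    have : (D 1 : ℚ) * D 4 - D 2 * D 4 + D 1 * D 2 = 0 := by
      field_simp at hd
      push_cast at hd
      linarith
    have a1 : (0 : ℚ) < ((D 1 : ℚ) - D 2) * D 4 := mul_pos (by linarith) q4
    have a2 := mul_pos q1 q2
    linarith
  · -- (-,-)
    rw [e1, e2] at c1 hd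
    have c1q : (D 1 : ℚ) + D 2 = D 3 + D 6 := by
      have : (D 1 : ℤ) + D 2 = D 3 + D 6 := by omega
      exact_mod_cast this
    have key : (D 1 : ℚ) * D 2 = D 4 * D 1 + D 4 * D 2 := by
      field_simp at hd
      push_cast at hd
      linarith
    have h2 : (D 4 : ℚ) < D 2 := by
      by_contra hle
      push Not at hle
      have a1 := mul_pos q4 q2
      have a2 := mul_le_mul_of_nonneg_left hle q1.le
      linarith
    have h1 : (D 4 : ℚ) < D 1 := by
      by_contra hle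
      push Not at hle
      have a1 := mul_pos q4 q1
      have a2 := mul_le_mul_of_nonneg_left hle q2.le
      linarith
    linarith

/-- SHAPE1 with the extra hypothesis `d o = 1` -/
theorem shape1_of {I : Type*} [Fintype I] [DecidableEq I] {o : I} {d : I → ℕ} {m : I → Fin 4 → ℤ}
    {ν : I → ℤ} {h : ℕ} (c : Core I o d m ν h) (hdo : d o = 1) (hs : IsShape o m 7 R1) : False := by
  obtain ⟨idx, ε, hinj, hno, hε, hm, hz⟩ := hs
  obtain ⟨hcol, he1, he2, -, hfs, -, hpos, -, hν01, hν0⟩ :=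
    Cfsg.Agent.Lib.Helper16_D8_EXPL.expl_of c hdo R1 h53_hR1 idx ε hinj hno hε hm hz
  exact shape1_arith ε (fun k => ν (idx k)) (fun k => d (idx k)) h hε hcol he1 he2 hfs hpos hν01 hν0

end Cfsg.Agent.Lib.Helper53_D8_SHAPE1aux
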