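import Mathlib
import Cfsg.Agent.Lib.Helper1_D8Defs
import Cfsg.Agent.Lib.Helper53_D8_SHAPE1aux

/-!
# S3716, package SHAPE1 (helper53 for helper1): shape 1 is impossible (verbatim statement).
-/

set_option autoImplicit false

namespace Cfsg.Agent.Lib.Helper53_D8_SHAPE1

open Cfsg Cfsg.Agent.Lib.Helper1_D8Defs

theorem shape1 {I : Type*} [Fintype I] [DecidableEq I] {o : I} {d : I → ℕ} {m : I → Fin 4 → ℤ} {ν : I → ℤ}
    {h : ℕ} (c : Core I o d m ν h) (hs : IsShape o m 7 R1) : False :=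
  Cfsg.Agent.Lib.Helper53_D8_SHAPE1aux.shape1_of c c.d_o hs

end Cfsg.Agent.Lib.Helper53_D8_SHAPE1
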