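import Mathlib
import Cfsg.Agent.Lib.Helper1_D8Defs

set_option autoImplicit false
set_option linter.unusedVariables false

namespace Cfsg.Agent.Lib.Helper57_D8_ARITH4e
open Cfsg Cfsg.Agent.Lib.Helper1_D8Defs

/-- `1/x ≤ 1/n` for `n ≤ x`, `0 < n`. -/
theorem inv_le_of_le {x : ℕ} {n : ℕ} (hn : 0 < n) (h : n ≤ x) : ((x : ℚ))⁻¹ ≤ ((n : ℚ))⁻¹ := by
  have h1 : (0 : ℚ) < n := by exact_mod_cast hn
  have h2 : (n : ℚ) ≤ x := by exact_mod_cast h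
  exact inv_anti₀ h1 h2

theorem inv_pos_of_pos {x : ℕ} (h : 0 < x) : (0 : ℚ) < ((x : ℚ))⁻¹ := by
  have h1 : (0 : ℚ) < x := by exact_mod_cast h
  exact inv_pos.mpr h1

theorem arith4e (A B C D E F H I h : ℕ)
    (hA : 0 < A) (hB : 0 < B) (hC : 0 < C) (hD : 0 < D) (hE : 0 < E) (hF : 0 < F) (hH : 0 < H) (hI : 0 < I)
    (c1 : (1 : ℤ) - F + H + I = 0)
    (c2 : (0 : ℤ) + C + D - E + I = 0)
    (c3 : (1 : ℤ) + B - E + I = 0)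
    (c4 : (0 : ℤ) - A + D + H + I = 0)
    (e1 : (h : ℚ) * (1 + 4 / (A : ℚ) - 4 / (B : ℚ) + 2 / (C : ℚ) + 1 / (D : ℚ) - 1 / (E : ℚ) - 2 / (F : ℚ) + 1 / (H : ℚ) + 8 / (I : ℚ)) = 9)
    (e2 : (h : ℚ) * (1 - 2 / (A : ℚ) + 2 / (B : ℚ) - 4 / (C : ℚ) + 1 / (D : ℚ) - 1 / (E : ℚ) + 4 / (F : ℚ) + 1 / (H : ℚ) + 8 / (I : ℚ)) = 9)
    (sq : 1 + A ^ 2 + B ^ 2 + C ^ 2 + D ^ 2 + E ^ 2 + F ^ 2 + H ^ 2 + I ^ 2 ≤ 72 * h)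
    (mA : A % 9 = 4) (mB : B % 9 = 5) (mC : C % 9 = 5) (mD : D % 9 = 1) (mE : E % 9 = 8) (mF : F % 9 = 4) (mH : H % 9 = 1) (mI : I % 9 = 2)
    (hmod : h % 9 = 1) (hne : h ≠ 1)
    (lD : D ≠ 1) (lH : H ≠ 1) : False := by
  -- lower bounds
  have bB : 5 ≤ B := by omega
  have bC : 5 ≤ C := by omega
  have bD : 10 ≤ D := by omega
  have bH : 10 ≤ H := by omega
  have bI : 2 ≤ I := by omega
  have bA : 22 ≤ A := by omega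
  have bF : 13 ≤ F := by omega
  have bE : 17 ≤ E := by omega
  -- `h ≥ 19` from the sum of squares
  have sA : 22 ^ 2 ≤ A ^ 2 := Nat.pow_le_pow_left bA 2
  have sB : 5 ^ 2 ≤ B ^ 2 := Nat.pow_le_pow_left bB 2
  have sC : 5 ^ 2 ≤ C ^ 2 := Nat.pow_le_pow_left bC 2
  have sD : 10 ^ 2 ≤ D ^ 2 := Nat.pow_le_pow_left bD 2
  have sE : 17 ^ 2 ≤ E ^ 2 := Nat.pow_le_pow_left bE 2
  have sF : 13 ^ 2 ≤ F ^ 2 := Nat.pow_le_pow_left bF 2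
  have sH : 10 ^ 2 ≤ H ^ 2 := Nat.pow_le_pow_left bH 2
  have sI : 2 ^ 2 ≤ I ^ 2 := Nat.pow_le_pow_left bI 2
  have h19 : 19 ≤ h := by omega
  have h19q : (19 : ℚ) ≤ h := by exact_mod_cast h19
  -- the average of the two equations
  have iB := inv_le_of_le (by norm_num : 0 < 5) bB
  have iC := inv_le_of_le (by norm_num : 0 < 5) bC
  have iE := inv_le_of_le (by norm_num : 0 < 17) bE
  have pA := inv_pos_of_pos hA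
  have pD := inv_pos_of_pos hD
  have pF := inv_pos_of_pos hF
  have pH := inv_pos_of_pos hH
  have pI := inv_pos_of_pos hI
  have hsum : (h : ℚ) * (2 + 2 * (A : ℚ)⁻¹ - 2 * (B : ℚ)⁻¹ - 2 * (C : ℚ)⁻¹ + 2 * (D : ℚ)⁻¹
      - 2 * (E : ℚ)⁻¹ + 2 * (F : ℚ)⁻¹ + 2 * (H : ℚ)⁻¹ + 16 * (I : ℚ)⁻¹) = 18 := by
    have := congrArg₂ (· + ·) e1 e2
    simp only [div_eq_mul_inv] at this
    linear_combination this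
  have hstuff : (1 : ℚ) ≤ 2 + 2 * (A : ℚ)⁻¹ - 2 * (B : ℚ)⁻¹ - 2 * (C : ℚ)⁻¹ + 2 * (D : ℚ)⁻¹
      - 2 * (E : ℚ)⁻¹ + 2 * (F : ℚ)⁻¹ + 2 * (H : ℚ)⁻¹ + 16 * (I : ℚ)⁻¹ := by
    norm_num at iB iC iE
    linarith
  have hprod : (19 : ℚ) * 1 ≤ (h : ℚ) * (2 + 2 * (A : ℚ)⁻¹ - 2 * (B : ℚ)⁻¹ - 2 * (C : ℚ)⁻¹
      + 2 * (D : ℚ)⁻¹ - 2 * (E : ℚ)⁻¹ + 2 * (F : ℚ)⁻¹ + 2 * (H : ℚ)⁻¹ + 16 * (I : ℚ)⁻¹) :=
    mul_le_mul h19q hstuff (by norm_num) (by linarith)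
  rw [hsum] at hprod
  norm_num at hprod

end Cfsg.Agent.Lib.Helper57_D8_ARITH4e
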