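import Mathlib
import Cfsg.Agent.Lib.Helper1_D8Defs

/-!
# S3716 market (architect helper1), package SHAPE0 (helper95): core

`shape0_core`: shape 0 is impossible, from the conclusion of EXPL (`ExplConcl`, verbatim the
conclusion of helper1's `expl`) as a hypothesis.  `EQ1 - EQ2` gives `e0 = e1`, column 1 minus
column 2 gives `e2 = 1`, contradicting `d ≠ 1`.
-/

set_option autoImplicit false

namespace Cfsg.Agent.Lib.Helper95_D8_SHAPE0aux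

open Cfsg Cfsg.Agent.Lib.Helper1_D8Defs

/-- the conclusion of EXPL (package of helper16) for a shape `R` -/
def ExplConcl {I : Type*} (d : I → ℕ) (ν : I → ℤ) (h : ℕ) {n : ℕ} (R : Fin n → Fin 4 → ℤ)
    (idx : Fin n → I) (ε : Fin n → ℤ) : Prop :=
    (∀ j, (![1, 0, 1, 0] : Fin 4 → ℤ) j + ∑ k, (ε k * (d (idx k) : ℤ)) * R k j = 0) ∧
    ((h : ℚ) * (1 + ∑ k, ((pv (R k) : ℚ) ^ 2 * (qv (R k) : ℚ)) / ((ε k : ℚ) * (d (idx k) : ℚ))) = 9) ∧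
    ((h : ℚ) * (1 + ∑ k, ((pv (R k) : ℚ) * (qv (R k) : ℚ) ^ 2) / ((ε k : ℚ) * (d (idx k) : ℚ))) = 9) ∧
    (1 + ∑ k, d (idx k) ^ 2 ≤ 72 * h) ∧
    (∀ j, (![1, 0, 1, 0] : Fin 4 → ℤ) j + ∑ k, ν (idx k) * ε k * R k j = 2) ∧
    (∀ k, (9 : ℤ) ∣ ε k * (d (idx k) : ℤ) + 4 * pv (R k) + 4 * qv (R k)) ∧
    (∀ k, 0 < d (idx k)) ∧ (∀ k, d (idx k) ≠ 1) ∧
    (∀ k, ν (idx k) = 0 ∨ ν (idx k) = 1) ∧
    (∀ k, ν (idx k) = 0 → ∃ k', k' ≠ k ∧ (∀ j, ε k' * R k' j = ε k * R k j) ∧ ν (idx k') = 0)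

theorem shape0_core {I : Type*} {d : I → ℕ} {ν : I → ℤ} {h : ℕ} (hh : h % 9 = 1)
    (idx : Fin 7 → I) (ε : Fin 7 → ℤ) (hε : ∀ k, ε k = 1 ∨ ε k = -1)
    (hE : ExplConcl d ν h R0 idx ε) : False := by
  obtain ⟨hcol, he1, he2, -, -, -, hpos, hne1, -, -⟩ := hE
  have c1 := hcol 1
  have c2 := hcol 2
  simp only [Fin.sum_univ_seven] at c1 c2 he1 he2
  simp [R0, pv, qv] at c1 c2 he1 he2
  have hh0 : (h : ℚ) ≠ 0 := by
    have : h ≠ 0 := by omega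
    exact_mod_cast this
  have hεq : ∀ k, (ε k : ℚ) ≠ 0 := by
    intro k
    rcases hε k with e | e <;> rw [e] <;> norm_num
  have hdq : ∀ k, (d (idx k) : ℚ) ≠ 0 := by
    intro k
    have := hpos k
    have h1 : d (idx k) ≠ 0 := by omega
    exact_mod_cast h1
  have he0 : (ε 0 : ℚ) * (d (idx 0) : ℚ) ≠ 0 := mul_ne_zero (hεq 0) (hdq 0)
  have he1' : (ε 1 : ℚ) * (d (idx 1) : ℚ) ≠ 0 := mul_ne_zero (hεq 1) (hdq 1)
  have key : (h : ℚ) * (-6 / ((ε 0 : ℚ) * (d (idx 0) : ℚ)) + 6 / ((ε 1 : ℚ) * (d (idx 1) : ℚ))) = 0 := by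
    linear_combination he1 - he2
  have key2 : -6 / ((ε 0 : ℚ) * (d (idx 0) : ℚ)) + 6 / ((ε 1 : ℚ) * (d (idx 1) : ℚ)) = 0 := by
    rcases mul_eq_zero.mp key with h0 | h0
    · exact absurd h0 hh0
    · exact h0
  have key3 : (ε 0 : ℚ) * (d (idx 0) : ℚ) = (ε 1 : ℚ) * (d (idx 1) : ℚ) := by
    rw [div_add_div _ _ he0 he1', div_eq_zero_iff] at key2
    rcases key2 with h6 | h6
    · linarith
    · exact absurd h6 (mul_ne_zero he0 he1')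
  have key4 : ε 0 * (d (idx 0) : ℤ) = ε 1 * (d (idx 1) : ℤ) := by exact_mod_cast key3
  have key5 : ε 2 * (d (idx 2) : ℤ) = 1 := by linarith
  have hp2 := hpos 2
  rcases hε 2 with e | e
  · rw [e, one_mul] at key5
    exact hne1 2 (by exact_mod_cast key5)
  · rw [e] at key5
    have : (0 : ℤ) < (d (idx 2) : ℤ) := by exact_mod_cast hp2
    linarith

theorem hR0' : ∀ k, ∃ j, R0 k j = 1 ∨ R0 k j = -1 := by decide

end Cfsg.Agent.Lib.Helper95_D8_SHAPE0aux
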