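import Mathlib
import Cfsg.Agent.Lib.Helper1_D8Defs
import Cfsg.Agent.Lib.Helper95_D8_SHAPE0aux

/-!
S3716 market (architect helper1), package SHAPE3, core: shape 3 is impossible, from the conclusion of EXPL
(`Helper95_D8_SHAPE0aux.ExplConcl`) as a hypothesis.  All Frobenius-Schur indicators are one (the rows of `R3` are
distinct up to sign), which leaves two sign patterns; `EQ1 - EQ2` gives `d0 = d1`; pattern (3b) has `9 / h > 1`;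
pattern (3a) forces `h = 10` and then the sum of squares is too large.
-/

set_option autoImplicit false
set_option linter.unusedVariables false
set_option linter.unusedSimpArgs false

namespace Cfsg.Agent.Lib.Helper60_D8_SHAPE3aux

open Cfsg Cfsg.Agent.Lib.Helper1_D8Defs Cfsg.Agent.Lib.Helper95_D8_SHAPE0aux

theorem R3_distinct_aux : ∀ a b : Fin 2, ∀ k k' : Fin 7, k' ≠ k →
    ¬ ∀ j : Fin 4, (![1, -1] : Fin 2 → ℤ) a * R3 k' j = (![1, -1] : Fin 2 → ℤ) b * R3 k j := by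
  decide +kernel

theorem R3_distinct (k k' : Fin 7) (hk : k' ≠ k) (s s' : ℤ) (hs : s = 1 ∨ s = -1)
    (hs' : s' = 1 ∨ s' = -1) : ¬ ∀ j : Fin 4, s * R3 k' j = s' * R3 k j := by
  rcases hs with rfl | rfl <;> rcases hs' with rfl | rfl
  · exact R3_distinct_aux 0 0 k k' hk
  · exact R3_distinct_aux 0 1 k k' hk
  · exact R3_distinct_aux 1 0 k k' hk
  · exact R3_distinct_aux 1 1 k k' hk


/-- positivity helper -/
theorem cast_pos_q {n : ℕ} (h : 0 < n) : (0 : ℚ) < (n : ℚ) := by exact_mod_cast h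

/-- from `EQ1 - EQ2`: the first two degrees coincide -/
theorem d0_eq_d1 {d0 d1 h : ℕ} (h0 : 0 < d0) (h1 : 0 < d1) (hh : h ≠ 0) {s : ℚ} (hs : s ≠ 0)
    (key : (h : ℚ) * (s / (d0 : ℚ) - s / (d1 : ℚ)) = 0) : d0 = d1 := by
  have hh0 : (h : ℚ) ≠ 0 := by exact_mod_cast hh
  have hd0 : (d0 : ℚ) ≠ 0 := (cast_pos_q h0).ne'
  have hd1 : (d1 : ℚ) ≠ 0 := (cast_pos_q h1).ne'
  have k2 : s / (d0 : ℚ) - s / (d1 : ℚ) = 0 := (mul_eq_zero.mp key).resolve_left hh0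
  have k3 : s / (d0 : ℚ) = s / (d1 : ℚ) := sub_eq_zero.mp k2
  rw [div_eq_div_iff hd0 hd1] at k3
  have k4 : (d1 : ℚ) = (d0 : ℚ) := mul_left_cancel₀ hs k3
  exact_mod_cast k4.symm

/-- the sign pattern (3a) -/
theorem arith3a (d0 d1 d2 d3 d4 d5 d6 h : ℕ) (p0 : 0 < d0) (p1 : 0 < d1) (p2 : 0 < d2) (p3 : 0 < d3)
    (p4 : 0 < d4) (p5 : 0 < d5) (p6 : 0 < d6)
    (c0 : (1 : ℤ) - d4 + d5 + d6 = 0) (c1 : (d1 : ℤ) - d2 + d3 + d6 = 0)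
    (c2 : (1 : ℤ) - d2 + d3 + d5 = 0) (c3 : (d0 : ℤ) + d3 - d4 + d6 = 0)
    (he1 : (h : ℚ) * (1 - 4 / (d0 : ℚ) + 2 / (d1 : ℚ) - 1 / (d2 : ℚ) - 1 / (d4 : ℚ) + 1 / (d5 : ℚ)) = 9)
    (he2 : (h : ℚ) * (1 + 2 / (d0 : ℚ) - 4 / (d1 : ℚ) - 1 / (d2 : ℚ) - 1 / (d4 : ℚ) + 1 / (d5 : ℚ)) = 9)
    (hsq : 1 + (d0 ^ 2 + d1 ^ 2 + d2 ^ 2 + d3 ^ 2 + d4 ^ 2 + d5 ^ 2 + d6 ^ 2) ≤ 72 * h)
    (n0 : (9 : ℤ) ∣ (d0 : ℤ) + 4) (n2 : (9 : ℤ) ∣ -(d2 : ℤ) + 8) (n3 : (9 : ℤ) ∣ (d3 : ℤ) + 12)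
    (n5 : (9 : ℤ) ∣ (d5 : ℤ) + 8) (hne5 : d5 ≠ 1) (hh : h % 9 = 1) (hh1 : h ≠ 1) : False := by
  have hh0 : h ≠ 0 := by omega
  have h01 : d0 = d1 := by
    apply d0_eq_d1 p0 p1 hh0 (s := -6) (by norm_num)
    linear_combination he1 - he2
  subst h01
  -- integer relations
  have r1 : d2 = d4 := by omega
  have r2 : d3 = d6 := by omega
  have r3 : d2 = 1 + d3 + d5 := by omega
  subst r1
  subst r2
  have m0 : 5 ≤ d0 := by omega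
  have m3 : 6 ≤ d3 := by omega
  have m5 : 10 ≤ d5 := by omega
  have m2 : 17 ≤ d2 := by omega
  -- the bound on `h`
  have q0 : (5 : ℚ) ≤ (d0 : ℚ) := by exact_mod_cast m0
  have q2 : (17 : ℚ) ≤ (d2 : ℚ) := by exact_mod_cast m2
  have q5 : (0 : ℚ) < (d5 : ℚ) := cast_pos_q p5
  have b0 : 2 / (d0 : ℚ) ≤ 2 / 5 := div_le_div_of_nonneg_left (by norm_num) (by norm_num) q0
  have b2 : 2 / (d2 : ℚ) ≤ 2 / 17 := div_le_div_of_nonneg_left (by norm_num) (by norm_num) q2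
  have b5 : 0 < 1 / (d5 : ℚ) := by positivity
  have hX : (41 : ℚ) / 85 ≤ 1 - 4 / (d0 : ℚ) + 2 / (d0 : ℚ) - 1 / (d2 : ℚ) - 1 / (d2 : ℚ) + 1 / (d5 : ℚ) := by
    have e1 : 4 / (d0 : ℚ) = 2 / (d0 : ℚ) + 2 / (d0 : ℚ) := by ring
    have e2 : 2 / (d2 : ℚ) = 1 / (d2 : ℚ) + 1 / (d2 : ℚ) := by ring
    linarith
  have hhq : (0 : ℚ) ≤ (h : ℚ) := by positivity
  have hb := mul_le_mul_of_nonneg_left hX hhq
  rw [he1] at hb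
  have hlt : (h : ℚ) < 19 := by linarith
  have hlt' : h < 19 := by exact_mod_cast hlt
  have h10 : h = 10 := by omega
  subst h10
  -- the sum of squares
  have s0 : 5 ^ 2 ≤ d0 ^ 2 := Nat.pow_le_pow_left m0 2
  have s2 : 17 ^ 2 ≤ d2 ^ 2 := Nat.pow_le_pow_left m2 2
  have s3 : 6 ^ 2 ≤ d3 ^ 2 := Nat.pow_le_pow_left m3 2
  have s5 : 10 ^ 2 ≤ d5 ^ 2 := Nat.pow_le_pow_left m5 2
  omega

/-- the sign pattern (3b) -/
theorem arith3b (d0 d1 d2 d3 d4 d5 d6 h : ℕ) (p0 : 0 < d0) (p1 : 0 < d1) (p2 : 0 < d2)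
    (p4 : 0 < d4) (p5 : 0 < d5) (p6 : 0 < d6)
    (c0 : (1 : ℤ) + d4 - d5 + d6 = 0)
    (he1 : (h : ℚ) * (1 + 4 / (d0 : ℚ) - 2 / (d1 : ℚ) + 1 / (d2 : ℚ) + 1 / (d4 : ℚ) - 1 / (d5 : ℚ)) = 9)
    (he2 : (h : ℚ) * (1 - 2 / (d0 : ℚ) + 4 / (d1 : ℚ) + 1 / (d2 : ℚ) + 1 / (d4 : ℚ) - 1 / (d5 : ℚ)) = 9)
    (hh : h % 9 = 1) (hh1 : h ≠ 1) : False := by
  have hh0 : h ≠ 0 := by omega
  have h01 : d0 = d1 := by
    apply d0_eq_d1 p0 p1 hh0 (s := 6) (by norm_num)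
    linear_combination he1 - he2
  subst h01
  have r : d4 < d5 := by omega
  have q4 : (0 : ℚ) < (d4 : ℚ) := cast_pos_q p4
  have q45 : (d4 : ℚ) < (d5 : ℚ) := by exact_mod_cast r
  have b45 : 1 / (d5 : ℚ) < 1 / (d4 : ℚ) := one_div_lt_one_div_of_lt q4 q45
  have b0 : 0 < 2 / (d0 : ℚ) := by
    have := cast_pos_q p0
    positivity
  have b2 : 0 < 1 / (d2 : ℚ) := by
    have := cast_pos_q p2
    positivity
  have hX : (1 : ℚ) ≤ 1 + 4 / (d0 : ℚ) - 2 / (d0 : ℚ) + 1 / (d2 : ℚ) + 1 / (d4 : ℚ) - 1 / (d5 : ℚ) := by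
    have e1 : 4 / (d0 : ℚ) = 2 / (d0 : ℚ) + 2 / (d0 : ℚ) := by ring
    linarith
  have hhq : (0 : ℚ) ≤ (h : ℚ) := by positivity
  have hb := mul_le_mul_of_nonneg_left hX hhq
  rw [he1, mul_one] at hb
  have hle : h ≤ 9 := by exact_mod_cast hb
  omega

/-- the two sign patterns of shape 3 -/
theorem signs3 (x0 x1 x2 x3 x4 x5 x6 : ℤ) (a0 : x0 = 1 ∨ x0 = -1) (a1 : x1 = 1 ∨ x1 = -1)
    (a2 : x2 = 1 ∨ x2 = -1) (a3 : x3 = 1 ∨ x3 = -1) (a4 : x4 = 1 ∨ x4 = -1) (a5 : x5 = 1 ∨ x5 = -1)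
    (a6 : x6 = 1 ∨ x6 = -1) (f0 : 1 + (x4 + x5 + x6) = 2) (f1 : x1 + x2 + x3 + x6 = 2)
    (f2 : 1 + (x2 + x3 + x5) = 2) (f3 : x0 + x3 + x4 + x6 = 2) :
    (x0 = 1 ∧ x1 = 1 ∧ x2 = -1 ∧ x3 = 1 ∧ x4 = -1 ∧ x5 = 1 ∧ x6 = 1) ∨
      (x0 = -1 ∧ x1 = -1 ∧ x2 = 1 ∧ x3 = 1 ∧ x4 = 1 ∧ x5 = -1 ∧ x6 = 1) := by
  rcases a6 with rfl | rfl <;> rcases a3 with rfl | rfl <;> rcases a5 with rfl | rfl <;>
    rcases a4 with rfl | rfl <;> rcases a2 with rfl | rfl <;> rcases a1 with rfl | rfl <;>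
    rcases a0 with rfl | rfl <;> omega

theorem shape3_core {I : Type*} {d : I → ℕ} {ν : I → ℤ} {h : ℕ} (hh : h % 9 = 1) (hh1 : h ≠ 1)
    (idx : Fin 7 → I) (ε : Fin 7 → ℤ) (hε : ∀ k, ε k = 1 ∨ ε k = -1)
    (hE : ExplConcl d ν h R3 idx ε) : False := by
  obtain ⟨hcol, he1, he2, hsq, hfs, h9, hpos, hne1, hν01, hν0⟩ := hE
  have hν1 : ∀ k, ν (idx k) = 1 := by
    intro k
    rcases hν01 k with h0 | h1
    · exfalso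
      obtain ⟨k', hk', hrow, -⟩ := hν0 k h0
      exact R3_distinct k k' hk' (ε k') (ε k) (hε k') (hε k) hrow
    · exact h1
  have f0 := hfs 0
  have f1 := hfs 1
  have f2 := hfs 2
  have f3 := hfs 3
  simp only [Fin.sum_univ_seven, hν1] at f0 f1 f2 f3
  simp [R3] at f0 f1 f2 f3
  have c0 := hcol 0
  have c1 := hcol 1
  have c2 := hcol 2
  have c3 := hcol 3
  have n0 := h9 0
  have n2 := h9 2
  have n3 := h9 3
  have n5 := h9 5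
  simp only [Fin.sum_univ_seven] at c0 c1 c2 c3 he1 he2 hsq
  simp [R3, pv, qv] at c0 c1 c2 c3 he1 he2 n0 n2 n3 n5
  have hsg : (ε 0 = 1 ∧ ε 1 = 1 ∧ ε 2 = -1 ∧ ε 3 = 1 ∧ ε 4 = -1 ∧ ε 5 = 1 ∧ ε 6 = 1) ∨
      (ε 0 = -1 ∧ ε 1 = -1 ∧ ε 2 = 1 ∧ ε 3 = 1 ∧ ε 4 = 1 ∧ ε 5 = -1 ∧ ε 6 = 1) := by
    exact signs3 (ε 0) (ε 1) (ε 2) (ε 3) (ε 4) (ε 5) (ε 6) (hε 0) (hε 1) (hε 2) (hε 3) (hε 4) (hε 5) (hε 6)
      f0 f1 f2 f3
  rcases hsg with ⟨e0, e1, e2, e3, e4, e5, e6⟩ | ⟨e0, e1, e2, e3, e4, e5, e6⟩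
  · simp only [e0, e1, e2, e3, e4, e5, e6] at c0 c1 c2 c3 he1 he2 n0 n2 n3 n5
    push_cast at he1 he2
    refine arith3a (d (idx 0)) (d (idx 1)) (d (idx 2)) (d (idx 3)) (d (idx 4)) (d (idx 5)) (d (idx 6)) h
      (hpos 0) (hpos 1) (hpos 2) (hpos 3) (hpos 4) (hpos 5) (hpos 6)
      (by linarith) (by linarith) (by linarith) (by linarith) ?_ ?_ hsq
      (by omega) (by omega) (by omega) (by omega) (hne1 5) hh hh1
    · linear_combination he1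
    · linear_combination he2
  · simp only [e0, e1, e2, e3, e4, e5, e6] at c0 he1 he2
    push_cast at he1 he2
    refine arith3b (d (idx 0)) (d (idx 1)) (d (idx 2)) (d (idx 3)) (d (idx 4)) (d (idx 5)) (d (idx 6)) h
      (hpos 0) (hpos 1) (hpos 2) (hpos 4) (hpos 5) (hpos 6)
      (by linarith) ?_ ?_ hh hh1
    · linear_combination he1
    · linear_combination he2

end Cfsg.Agent.Lib.Helper60_D8_SHAPE3aux
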