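import Mathlib
import Cfsg.Agent.Lib.Helper1_D8Defs
import Cfsg.Agent.Lib.Helper16_D8_EXPL
import Cfsg.Agent.Lib.Helper60_D8_SHAPE3aux

/-!
S3716 market (architect helper1), package SHAPE3: shape 3 is impossible
(`Helper60_D8_SHAPE3aux.shape3_core` applied to the conclusion of helper16's `expl`).
-/

set_option autoImplicit false

namespace Cfsg.Agent.Lib.Helper60_D8_SHAPE3
open Cfsg Cfsg.Agent.Lib.Helper1_D8Defs

theorem hR3 : ∀ k, ∃ j, R3 k j = 1 ∨ R3 k j = -1 := by decide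

/-- SHAPE3. -/
theorem shape3 {I : Type*} [Fintype I] [DecidableEq I] {o : I} {d : I → ℕ} {m : I → Fin 4 → ℤ} {ν : I → ℤ}
    {h : ℕ} (c : Core I o d m ν h) (hs : IsShape o m 7 R3) : False := by
  obtain ⟨idx, ε, hinj, hno, hε, hm, hz⟩ := hs
  exact Cfsg.Agent.Lib.Helper60_D8_SHAPE3aux.shape3_core c.hmod c.hne idx ε hε
    (Cfsg.Agent.Lib.Helper16_D8_EXPL.expl c R3 hR3 idx ε hinj hno hε hm hz)

end Cfsg.Agent.Lib.Helper60_D8_SHAPE3
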