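import Mathlib
import Cfsg.Agent.Lib.Helper1_D8Defs
import Cfsg.Agent.Lib.Helper95_D8_SHAPE0aux
import Cfsg.Agent.Lib.Helper16_D8_EXPL

/-!
# S3716 market (architect helper1), package SHAPE0 (helper95): shape 0 is impossible
-/

set_option autoImplicit false

namespace Cfsg.Agent.Lib.Helper95_D8_SHAPE0

open Cfsg Cfsg.Agent.Lib.Helper1_D8Defs
open Cfsg.Agent.Lib.Helper16_D8_EXPL

theorem shape0 {I : Type*} [Fintype I] [DecidableEq I] {o : I} {d : I → ℕ} {m : I → Fin 4 → ℤ} {ν : I → ℤ}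
    {h : ℕ} (c : Core I o d m ν h) (hs : IsShape o m 7 R0) : False := by
  obtain ⟨idx, ε, hinj, hno, hε, hm, hz⟩ := hs
  exact Cfsg.Agent.Lib.Helper95_D8_SHAPE0aux.shape0_core c.hmod idx ε hε
    (expl c R0 Cfsg.Agent.Lib.Helper95_D8_SHAPE0aux.hR0' idx ε hinj hno hε hm hz)

end Cfsg.Agent.Lib.Helper95_D8_SHAPE0
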