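import Mathlib
import Cfsg.Agent.Lib.Helper1_D8Defs
import Cfsg.Agent.Lib.Helper1_D8_SWAPfix
import Cfsg.Agent.Lib.Helper16_D8_EXPL
import Cfsg.Agent.Lib.Helper1_D8_CLASSIFY
import Cfsg.Agent.Lib.Helper95_D8_SHAPE0
import Cfsg.Agent.Lib.Helper53_D8_SHAPE1
import Cfsg.Agent.Lib.Helper60_D8_SHAPE3
import Cfsg.Agent.Lib.Helper20_D8_ARITH4a
import Cfsg.Agent.Lib.Helper24_D8_ARITH4b
import Cfsg.Agent.Lib.Helper24_D8_ARITH4c
import Cfsg.Agent.Lib.Helper57_D8_ARITH4d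
import Cfsg.Agent.Lib.Helper57_D8_ARITH4e

/-!
# S3716: the pure hub — the data `Core` are contradictory (`no_core`)
-/

set_option autoImplicit false

namespace Cfsg.Agent.Lib.Helper1_D8_PureHub
open Cfsg Cfsg.Agent.Lib.Helper1_D8Defs Cfsg.Agent.Lib
open Cfsg.Agent.Lib.Helper1_D8_SWAPfix (sw)

/-- no two rows of `R4` agree up to sign -/
theorem R4_distinct : ∀ k k' : Fin 8, k' ≠ k → ∀ e e' : Fin 2,
    ¬ (∀ j, (if e' = 0 then (1 : ℤ) else -1) * R4 k' j = (if e = 0 then (1 : ℤ) else -1) * R4 k j) := by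
  decide +kernel

/-- sign vector of a Boolean vector -/
def sg (b : Fin 8 → Bool) : Fin 8 → ℤ := fun k => if b k then 1 else -1

theorem signs4_bool : ∀ b : Fin 8 → Bool,
    (∀ j, (![1, 0, 1, 0] : Fin 4 → ℤ) j + ∑ k, sg b k * R4 k j = 2) →
    sg b = ![1, 1, 1, 1, 1, 1, 1, -1] ∨ sg b = ![1, 1, 1, 1, -1, 1, -1, 1] ∨
    sg b = ![1, -1, 1, -1, 1, -1, 1, 1] ∨ sg b = ![1, -1, -1, 1, 1, 1, -1, 1] ∨
    sg b = ![-1, 1, 1, 1, -1, -1, 1, 1] ∨ sg b = ![-1, -1, -1, 1, 1, -1, 1, 1] := by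
  decide +kernel

/-- SIGNS4 -/
theorem signs4 (ε ν' : Fin 8 → ℤ) (hε : ∀ k, ε k = 1 ∨ ε k = -1) (hν : ∀ k, ν' k = 0 ∨ ν' k = 1)
    (hν0 : ∀ k, ν' k = 0 → ∃ k', k' ≠ k ∧ (∀ j, ε k' * R4 k' j = ε k * R4 k j) ∧ ν' k' = 0)
    (hfs : ∀ j, (![1, 0, 1, 0] : Fin 4 → ℤ) j + ∑ k, ν' k * ε k * R4 k j = 2) :
    ε = ![1, 1, 1, 1, 1, 1, 1, -1] ∨ ε = ![1, 1, 1, 1, -1, 1, -1, 1] ∨ ε = ![1, -1, 1, -1, 1, -1, 1, 1] ∨
    ε = ![1, -1, -1, 1, 1, 1, -1, 1] ∨ ε = ![-1, 1, 1, 1, -1, -1, 1, 1] ∨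
    ε = ![-1, -1, -1, 1, 1, -1, 1, 1] := by
  have hν1 : ∀ k, ν' k = 1 := by
    intro k
    rcases hν k with h0 | h1
    · exfalso
      obtain ⟨k', hk', hrow, -⟩ := hν0 k h0
      have hsgn : ∀ k, ∃ e : Fin 2, ε k = (if e = 0 then (1 : ℤ) else -1) := by
        intro k
        rcases hε k with h | h
        · exact ⟨0, by simp [h]⟩
        · exact ⟨1, by simp [h]⟩
      obtain ⟨e, he⟩ := hsgn k
      obtain ⟨e', he'⟩ := hsgn k'
      apply R4_distinct k k' hk' e e'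
      intro j
      rw [← he, ← he']
      exact hrow j
    · exact h1
  have hb : ∃ b : Fin 8 → Bool, ε = sg b := by
    refine ⟨fun k => decide (ε k = 1), ?_⟩
    funext k
    rcases hε k with h | h
    · simp [sg, h]
    · simp [sg, h]
  obtain ⟨b, rfl⟩ := hb
  apply signs4_bool b
  intro j
  rw [← hfs j]
  congr 1
  apply Finset.sum_congr rfl
  intro k _
  rw [hν1 k, one_mul]

/-- ARITH4f -/
theorem arith4f (A B C D E F H I h : ℕ)
    (hA : 0 < A) (hB : 0 < B) (hC : 0 < C) (hD : 0 < D) (hE : 0 < E) (hF : 0 < F) (hH : 0 < H) (hI : 0 < I)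
    (c1 : (1 : ℤ) - F + H + I = 0)
    (c2 : (0 : ℤ) - C + D + E + I = 0)
    (c3 : (1 : ℤ) - B + E + I = 0)
    (c4 : (0 : ℤ) - A + D + H + I = 0)
    (e1 : (h : ℚ) * (1 + 4 / (A : ℚ) + 4 / (B : ℚ) - 2 / (C : ℚ) + 1 / (D : ℚ) + 1 / (E : ℚ) - 2 / (F : ℚ) + 1 / (H : ℚ) + 8 / (I : ℚ)) = 9)
    (e2 : (h : ℚ) * (1 - 2 / (A : ℚ) - 2 / (B : ℚ) + 4 / (C : ℚ) + 1 / (D : ℚ) + 1 / (E : ℚ) + 4 / (F : ℚ) + 1 / (H : ℚ) + 8 / (I : ℚ)) = 9)
    (sq : 1 + A ^ 2 + B ^ 2 + C ^ 2 + D ^ 2 + E ^ 2 + F ^ 2 + H ^ 2 + I ^ 2 ≤ 72 * h)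
    (mA : A % 9 = 4) (mB : B % 9 = 4) (mC : C % 9 = 4) (mD : D % 9 = 1) (mE : E % 9 = 1) (mF : F % 9 = 4) (mH : H % 9 = 1) (mI : I % 9 = 2)
    (hmod : h % 9 = 1) (hne : h ≠ 1)
    (lD : D ≠ 1) (lE : E ≠ 1) (lH : H ≠ 1) : False := by
  have hh : (10 : ℚ) ≤ (h : ℚ) := by
    have : 10 ≤ h := by omega
    exact_mod_cast this
  have pA : (0 : ℚ) < 1 / (A : ℚ) := by positivity
  have pB : (0 : ℚ) < 1 / (B : ℚ) := by positivity
  have pC : (0 : ℚ) < 1 / (C : ℚ) := by positivity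
  have pD : (0 : ℚ) < 1 / (D : ℚ) := by positivity
  have pE : (0 : ℚ) < 1 / (E : ℚ) := by positivity
  have pF : (0 : ℚ) < 1 / (F : ℚ) := by positivity
  have pH : (0 : ℚ) < 1 / (H : ℚ) := by positivity
  have pI : (0 : ℚ) < 1 / (I : ℚ) := by positivity
  set S : ℚ := 2 * (1 / (A : ℚ)) + 2 * (1 / (B : ℚ)) + 2 * (1 / (C : ℚ)) + 2 * (1 / (D : ℚ)) +
    2 * (1 / (E : ℚ)) + 2 * (1 / (F : ℚ)) + 2 * (1 / (H : ℚ)) + 16 * (1 / (I : ℚ)) with hS
  have hSpos : 0 < S := by positivity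
  have hsum : (h : ℚ) * (2 + S) = 18 := by
    rw [hS]; linear_combination e1 + e2
  nlinarith [mul_pos (by linarith : (0 : ℚ) < (h : ℚ)) hSpos]

theorem hR4 : ∀ k, ∃ j, R4 k j = 1 ∨ R4 k j = -1 := by decide

set_option maxHeartbeats 3200000 in
/-- SHAPE4 (assembly): shape 4 is impossible -/
theorem shape4 {I : Type*} [Fintype I] [DecidableEq I] {o : I} {d : I → ℕ} {m : I → Fin 4 → ℤ} {ν : I → ℤ}
    {h : ℕ} (c : Core I o d m ν h) (hs : IsShape o m 8 R4) : False := by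
  obtain ⟨idx, ε, hinj, hno, hε, hm, hz⟩ := hs
  obtain ⟨hcol, he1, he2, hsq, hfs, h9, hpos, hne1, hν01, hν0⟩ :=
    Helper16_D8_EXPL.expl c R4 hR4 idx ε hinj hno hε hm hz
  have hsg := signs4 ε (fun k => ν (idx k)) hε hν01 hν0 hfs
  have c1 := hcol 0
  have c2 := hcol 1
  have c3 := hcol 2
  have c4 := hcol 3
  have n0 := h9 0
  have n1 := h9 1
  have n2 := h9 2
  have n3 := h9 3
  have n4 := h9 4
  have n5 := h9 5
  have n6 := h9 6
  have n7 := h9 7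
  simp only [Fin.sum_univ_eight] at c1 c2 c3 c4 he1 he2 hsq
  rcases hsg with h1 | h1 | h1 | h1 | h1 | h1
  all_goals
    subst h1
    simp [R4, pv, qv] at c1 c2 c3 c4 he1 he2 n0 n1 n2 n3 n4 n5 n6 n7
  · refine Helper20_D8_ARITH4a.arith4a (d (idx 0)) (d (idx 1)) (d (idx 2)) (d (idx 3)) (d (idx 4)) (d (idx 5)) (d (idx 6))
      (d (idx 7)) h (hpos 0) (hpos 1) (hpos 2) (hpos 3) (hpos 4) (hpos 5) (hpos 6) (hpos 7)
      (by linarith) (by linarith) (by linarith) (by linarith) ?_ ?_ (by linarith)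
      (by omega) (by omega) (by omega) (by omega) (by omega) (by omega) (by omega) (by omega)
      c.hmod c.hne (hne1 3) (hne1 4) (hne1 6)
    · rw [← he1]; congr 1; ring
    · rw [← he2]; congr 1; ring
  · refine Helper24_D8_ARITH4b.arith4b (d (idx 0)) (d (idx 1)) (d (idx 2)) (d (idx 3)) (d (idx 4)) (d (idx 5)) (d (idx 6))
      (d (idx 7)) h (hpos 0) (hpos 1) (hpos 2) (hpos 3) (hpos 4) (hpos 5) (hpos 6) (hpos 7)
      (by linarith) (by linarith) (by linarith) (by linarith) ?_ ?_ (by linarith)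
      (by omega) (by omega) (by omega) (by omega) (by omega) (by omega) (by omega) (by omega)
      c.hmod c.hne (hne1 3)
    · rw [← he1]; congr 1; ring
    · rw [← he2]; congr 1; ring
  · refine Helper24_D8_ARITH4c.arith4c (d (idx 0)) (d (idx 1)) (d (idx 2)) (d (idx 3)) (d (idx 4)) (d (idx 5)) (d (idx 6))
      (d (idx 7)) h (hpos 0) (hpos 1) (hpos 2) (hpos 3) (hpos 4) (hpos 5) (hpos 6) (hpos 7)
      (by linarith) (by linarith) (by linarith) (by linarith) ?_ ?_ (by linarith)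
      (by omega) (by omega) (by omega) (by omega) (by omega) (by omega) (by omega) (by omega)
      c.hmod c.hne (hne1 4) (hne1 6)
    · rw [← he1]; congr 1; ring
    · rw [← he2]; congr 1; ring
  · refine Helper57_D8_ARITH4d.arith4d (d (idx 0)) (d (idx 1)) (d (idx 2)) (d (idx 3)) (d (idx 4)) (d (idx 5)) (d (idx 6))
      (d (idx 7)) h (hpos 0) (hpos 1) (hpos 2) (hpos 3) (hpos 4) (hpos 5) (hpos 6) (hpos 7)
      (by linarith) (by linarith) (by linarith) (by linarith) ?_ ?_ (by linarith)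
      (by omega) (by omega) (by omega) (by omega) (by omega) (by omega) (by omega) (by omega)
      c.hmod c.hne (hne1 3) (hne1 4)
    · rw [← he1]; congr 1; ring
    · rw [← he2]; congr 1; ring
  · refine Helper57_D8_ARITH4e.arith4e (d (idx 0)) (d (idx 1)) (d (idx 2)) (d (idx 3)) (d (idx 4)) (d (idx 5)) (d (idx 6))
      (d (idx 7)) h (hpos 0) (hpos 1) (hpos 2) (hpos 3) (hpos 4) (hpos 5) (hpos 6) (hpos 7)
      (by linarith) (by linarith) (by linarith) (by linarith) ?_ ?_ (by linarith)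
      (by omega) (by omega) (by omega) (by omega) (by omega) (by omega) (by omega) (by omega)
      c.hmod c.hne (hne1 3) (hne1 6)
    · rw [← he1]; congr 1; ring
    · rw [← he2]; congr 1; ring
  · refine arith4f (d (idx 0)) (d (idx 1)) (d (idx 2)) (d (idx 3)) (d (idx 4)) (d (idx 5)) (d (idx 6))
      (d (idx 7)) h (hpos 0) (hpos 1) (hpos 2) (hpos 3) (hpos 4) (hpos 5) (hpos 6) (hpos 7)
      (by linarith) (by linarith) (by linarith) (by linarith) ?_ ?_ (by linarith)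
      (by omega) (by omega) (by omega) (by omega) (by omega) (by omega) (by omega) (by omega)
      c.hmod c.hne (hne1 3) (hne1 4) (hne1 6)
    · rw [← he1]; congr 1; ring
    · rw [← he2]; congr 1; ring



theorem R2_eq : R2 = fun k j => R0 k (sw j) := by decide
theorem R5_eq : R5 = fun k j => R1 k (sw j) := by decide

theorem sw_sw (j : Fin 4) : sw (sw j) = j := by fin_cases j <;> rfl

/-- SHAPE2 from SHAPE0 by the mirror symmetry -/
theorem shape2 {I : Type*} [Fintype I] [DecidableEq I] {o : I} {d : I → ℕ} {m : I → Fin 4 → ℤ} {ν : I → ℤ}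
    {h : ℕ} (c : Core I o d m ν h) (hs : IsShape o m 7 R2) : False := by
  have h1 := Helper1_D8_SWAPfix.shape_swap hs
  have h2 : (fun k j => R2 k (sw j)) = R0 := by
    rw [R2_eq]; funext k j; simp only [sw_sw]
  rw [h2] at h1
  exact Helper95_D8_SHAPE0.shape0 (Helper1_D8_SWAPfix.core_swap c) h1

/-- SHAPE5 from SHAPE1 by the mirror symmetry -/
theorem shape5 {I : Type*} [Fintype I] [DecidableEq I] {o : I} {d : I → ℕ} {m : I → Fin 4 → ℤ} {ν : I → ℤ}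
    {h : ℕ} (c : Core I o d m ν h) (hs : IsShape o m 7 R5) : False := by
  have h1 := Helper1_D8_SWAPfix.shape_swap hs
  have h2 : (fun k j => R5 k (sw j)) = R1 := by
    rw [R5_eq]; funext k j; simp only [sw_sw]
  rw [h2] at h1
  exact Helper53_D8_SHAPE1.shape1 (Helper1_D8_SWAPfix.core_swap c) h1

/-- the pure part: the data `Core` are contradictory -/
theorem no_core {I : Type*} [Fintype I] [DecidableEq I] {o : I} {d : I → ℕ} {m : I → Fin 4 → ℤ} {ν : I → ℤ}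
    {h : ℕ} (c : Core I o d m ν h) : False := by
  rcases Helper1_D8_CLASSIFY.classify o d c.dpos m c.mo c.gram c.col with h0 | h1 | h2 | h3 | h4 | h5
  · exact Helper95_D8_SHAPE0.shape0 c h0
  · exact Helper53_D8_SHAPE1.shape1 c h1
  · exact shape2 c h2
  · exact Helper60_D8_SHAPE3.shape3 c h3
  · exact shape4 c h4
  · exact shape5 c h5

end Cfsg.Agent.Lib.Helper1_D8_PureHub
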