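import Mathlib
import Cfsg.Prelude.Def_Characters
import Cfsg.Agent.Lib.Helper80_CharBasic
import Cfsg.Agent.Lib.Helper81_CharOrth
import Cfsg.Agent.Lib.Helper81_CharOrth2
import Cfsg.Agent.Lib.Helper3_CharEigen

/-!
# S4427: final assembly (helper62)

From a "projective character" `Φ = ∑ d_χ χ` lying under `1_Q^G` and `1_R^G` (package PKP) to the
normal `p`-complement, by Cauchy–Schwarz against `p^a · 1_S`.
-/

set_option autoImplicit false
set_option linter.unusedSectionVars false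
set_option linter.unusedVariables false

namespace Cfsg.Agent.Lib.Helper62_S4427_Final

open Cfsg Cfsg.Agent.Lib.Helper80_CharBasic
open scoped ComplexConjugate

universe u

variable {G : Type u} [Group G]

/-- value at one and norm bound for an irreducible character -/
theorem irr_bound [Finite G] (χ : IrrCharacter G) :
    ∃ n : ℕ, (χ : G → ℂ) 1 = n ∧ ∀ g : G, ‖(χ : G → ℂ) g‖ ≤ n := by
  obtain ⟨n, ρ, hirr, hρ⟩ := χ.2
  refine ⟨n, ?_, fun g => ?_⟩
  · rw [← hρ, Representation.char_one]; simp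
  · have := Cfsg.Agent.Lib.Helper3_CharEigen.norm_char_le ρ g
    rw [← hρ]
    simpa using this

/-- the kernel of an irreducible character as a normal subgroup -/
theorem exists_ker [Finite G] (χ : IrrCharacter G) :
    ∃ N : Subgroup G, N.Normal ∧ ∀ g, g ∈ N ↔ (χ : G → ℂ) g = (χ : G → ℂ) 1 := by
  obtain ⟨n, ρ, hirr, hρ⟩ := χ.2
  refine ⟨MonoidHom.ker ρ, MonoidHom.normal_ker ρ, fun g => ?_⟩
  rw [MonoidHom.mem_ker, ← hρ, Representation.char_one,
    Cfsg.Agent.Lib.Helper3_CharEigen.char_eq_finrank_iff]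
  rfl

/-- a complex number of norm at most `n` and real part `n` equals `n` -/
theorem eq_of_re_eq_of_norm_le {z : ℂ} {n : ℝ} (h1 : ‖z‖ ≤ n) (h2 : z.re = n) : z = (n : ℂ) := by
  have hn : 0 ≤ n := le_trans (norm_nonneg z) h1
  have h3 : ‖z‖ ^ 2 ≤ n ^ 2 := pow_le_pow_left₀ (norm_nonneg z) h1 2
  rw [Complex.sq_norm, Complex.normSq_apply, h2] at h3
  have h4 : z.im * z.im ≤ 0 := by nlinarith
  have h5 : z.im = 0 := by nlinarith [mul_self_nonneg z.im]
  apply Complex.ext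
  · simpa using h2
  · simpa using h5

open scoped Classical in
/-- Step A: `∑_χ [χ_Q,1][χ_R,1] = |G|/(|Q||R|)` for a `q`-subgroup `Q` and an `r`-subgroup `R`. -/
theorem sum_eQ_eR [Fintype G] [Fintype (IrrCharacter G)]
    (q r b c : ℕ) (hq : q.Prime) (hr : r.Prime) (hqr : q ≠ r)
    (Q R : Subgroup G) (hQ : Nat.card Q = q ^ b) (hR : Nat.card R = r ^ c)
    (eQ eR : IrrCharacter G → ℕ)
    (heQ : ∀ χ : IrrCharacter G, (eQ χ : ℂ) = (Nat.card Q : ℂ)⁻¹ * ∑ x : Q, (χ : G → ℂ) (x : G))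
    (heR : ∀ χ : IrrCharacter G, (eR χ : ℂ) = (Nat.card R : ℂ)⁻¹ * ∑ x : R, (χ : G → ℂ) (x : G)) :
    ∑ χ : IrrCharacter G, (eQ χ : ℂ) * (eR χ : ℂ) =
      (Nat.card Q : ℂ)⁻¹ * (Nat.card R : ℂ)⁻¹ * (Nat.card G : ℂ) := by
  have key : ∀ (x : Q) (y : R), ∑ χ : IrrCharacter G, (χ : G → ℂ) (x : G) * (χ : G → ℂ) (y : G) =
      if (x = 1 ∧ y = 1) then (Nat.card G : ℂ) else 0 := by
    intro x y
    have h2 := Cfsg.Agent.Lib.Helper81_CharOrth2.second_orthogonality (x : G) ((y : G)⁻¹)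
    rw [inv_inv] at h2
    rw [h2]
    split_ifs with hxy
    · obtain ⟨rfl, rfl⟩ := hxy
      congr 1
      refine Nat.card_congr ⟨fun c => c.1, fun c => ⟨c, by simp⟩, fun c => rfl, fun c => rfl⟩
    · have hemp : IsEmpty {c : G // c * (x : G) * c⁻¹ = (y : G)⁻¹} := by
        refine ⟨fun ⟨t, ht⟩ => hxy ?_⟩
        have ho : orderOf (x : G) = orderOf (y : G) := by
          have h3 : orderOf (t * (x : G) * t⁻¹) = orderOf (x : G) := by
            have : t * (x : G) * t⁻¹ = MulAut.conj t (x : G) := by simp [MulAut.conj_apply]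
            rw [this, MulEquiv.orderOf_eq]
          rw [← h3, ht, orderOf_inv]
        have hx : orderOf (x : G) ∣ q ^ b := by
          rw [← hQ, Subgroup.orderOf_coe]; exact orderOf_dvd_natCard x
        have hy : orderOf (y : G) ∣ r ^ c := by
          rw [← hR, Subgroup.orderOf_coe]; exact orderOf_dvd_natCard y
        have hcop : Nat.Coprime (q ^ b) (r ^ c) :=
          Nat.Coprime.pow _ _ ((Nat.coprime_primes hq hr).mpr hqr)
        have h1 : orderOf (x : G) = 1 :=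
          Nat.eq_one_of_dvd_coprimes hcop hx (ho ▸ hy)
        have h1' : orderOf (y : G) = 1 := ho ▸ h1
        rw [orderOf_eq_one_iff] at h1 h1'
        exact ⟨Subtype.ext (by simpa using h1), Subtype.ext (by simpa using h1')⟩
      rw [Nat.card_of_isEmpty]; simp
  calc ∑ χ : IrrCharacter G, (eQ χ : ℂ) * (eR χ : ℂ)
      = ∑ χ : IrrCharacter G, (Nat.card Q : ℂ)⁻¹ * (Nat.card R : ℂ)⁻¹ *
          ∑ x : Q, ∑ y : R, (χ : G → ℂ) (x : G) * (χ : G → ℂ) (y : G) := by
        refine Finset.sum_congr rfl fun χ _ => ?_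
        rw [heQ, heR, mul_mul_mul_comm, Finset.sum_mul_sum]
    _ = (Nat.card Q : ℂ)⁻¹ * (Nat.card R : ℂ)⁻¹ *
          ∑ x : Q, ∑ y : R, ∑ χ : IrrCharacter G, (χ : G → ℂ) (x : G) * (χ : G → ℂ) (y : G) := by
        rw [← Finset.mul_sum]
        congr 1
        rw [Finset.sum_comm]
        refine Finset.sum_congr rfl fun x _ => ?_
        rw [Finset.sum_comm]
    _ = (Nat.card Q : ℂ)⁻¹ * (Nat.card R : ℂ)⁻¹ * (Nat.card G : ℂ) := by
        congr 1
        simp_rw [key]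
        rw [Finset.sum_eq_single (1 : Q)]
        · rw [Finset.sum_eq_single (1 : R)]
          · simp
          · intro y _ hy; simp [hy]
          · intro h; exact absurd (Finset.mem_univ _) h
        · intro x _ hx
          refine Finset.sum_eq_zero fun y _ => ?_
          simp [hx]
        · intro h; exact absurd (Finset.mem_univ _) h

/-- `∑_g χ(g) = |G|` if `χ` is the principal character and `0` otherwise. -/
theorem sum_irr [Fintype G] (χ : IrrCharacter G) :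
    ∑ g : G, (χ : G → ℂ) g = if χ = oneIrr G then (Nat.card G : ℂ) else 0 := by
  have h := Cfsg.Agent.Lib.Helper81_CharOrth.sum_irr_mul_irr_inv χ.2 (oneIrr G).2
  have h1 : ∑ g : G, (χ : G → ℂ) g * ((oneIrr G : IrrCharacter G) : G → ℂ) g⁻¹ =
      ∑ g : G, (χ : G → ℂ) g := by
    refine Finset.sum_congr rfl fun g _ => ?_
    show (χ : G → ℂ) g * 1 = _
    rw [mul_one]
  rw [h1] at h
  rw [h]
  by_cases hχ : χ = oneIrr G
  · rw [if_pos hχ, if_pos (by rw [hχ])]
  · rw [if_neg hχ, if_neg (fun h2 => hχ (Subtype.ext h2))]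

/-- `∑_g χ(g) conj(ψ(g)) = |G| δ`. -/
theorem sum_irr_conj [Fintype G] (χ ψ : IrrCharacter G) :
    ∑ g : G, (χ : G → ℂ) g * conj ((ψ : G → ℂ) g) = if χ = ψ then (Nat.card G : ℂ) else 0 := by
  have h := Cfsg.Agent.Lib.Helper81_CharOrth.sum_irr_mul_irr_inv χ.2 ψ.2
  have h1 : ∑ g : G, (χ : G → ℂ) g * (ψ : G → ℂ) g⁻¹ =
      ∑ g : G, (χ : G → ℂ) g * conj ((ψ : G → ℂ) g) := by
    refine Finset.sum_congr rfl fun g _ => ?_
    rw [irr_inv]
  rw [h1] at h
  rw [h]
  by_cases hχ : χ = ψ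
  · rw [if_pos hχ, if_pos (by rw [hχ])]
  · rw [if_neg hχ, if_neg (fun h2 => hχ (Subtype.ext h2))]

section main

variable [Fintype G] [Fintype (IrrCharacter G)] (d : IrrCharacter G → ℕ)

/-- the class function `Φ = ∑ d_χ χ` -/
noncomputable def Phi (g : G) : ℂ := ∑ χ : IrrCharacter G, (d χ : ℂ) * (χ : G → ℂ) g

theorem sum_Phi : ∑ g : G, Phi d g = (d (oneIrr G) : ℂ) * (Nat.card G : ℂ) := by
  unfold Phi
  rw [Finset.sum_comm]
  simp_rw [← Finset.mul_sum, sum_irr]
  rw [Finset.sum_eq_single (oneIrr G)]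
  · rw [if_pos rfl]
  · intro χ _ hχ; rw [if_neg hχ, mul_zero]
  · intro h; exact absurd (Finset.mem_univ _) h

theorem sum_Phi_normSq :
    ∑ g : G, Phi d g * conj (Phi d g) = (Nat.card G : ℂ) * ∑ χ : IrrCharacter G, ((d χ : ℂ)) ^ 2 := by
  have h1 : ∀ g : G, Phi d g * conj (Phi d g) =
      ∑ χ : IrrCharacter G, ∑ ψ : IrrCharacter G, ((d χ : ℂ) * (d ψ : ℂ)) *
        ((χ : G → ℂ) g * conj ((ψ : G → ℂ) g)) := by
    intro g
    unfold Phi
    rw [map_sum, Finset.sum_mul_sum]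
    refine Finset.sum_congr rfl fun χ _ => Finset.sum_congr rfl fun ψ _ => ?_
    rw [map_mul, Complex.conj_natCast]
    ring
  simp_rw [h1]
  rw [Finset.sum_comm]
  have h2 : ∀ χ : IrrCharacter G, ∑ g : G, ∑ ψ : IrrCharacter G, ((d χ : ℂ) * (d ψ : ℂ)) *
        ((χ : G → ℂ) g * conj ((ψ : G → ℂ) g)) = (Nat.card G : ℂ) * (d χ : ℂ) ^ 2 := by
    intro χ
    rw [Finset.sum_comm]
    simp_rw [← Finset.mul_sum, sum_irr_conj]
    rw [Finset.sum_eq_single χ]
    · rw [if_pos rfl]; ring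
    · intro ψ _ hψ; rw [if_neg (Ne.symm hψ), mul_zero]
    · intro h; exact absurd (Finset.mem_univ _) h
  simp_rw [h2]
  rw [Finset.mul_sum]

open scoped Classical in
/-- Cauchy–Schwarz step: `Φ = p^a` on the `p`-regular elements. -/
theorem Phi_eq_on_regular (p a m : ℕ)
    (hG : Nat.card G = p ^ a * m)
    (hcount : Nat.card {g : G // ¬ p ∣ orderOf g} = m)
    (hd1 : d (oneIrr G) = 1)
    (hvan : ∀ g : G, p ∣ orderOf g → Phi d g = 0)
    (hsq : ∑ χ : IrrCharacter G, (d χ) ^ 2 ≤ p ^ a)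
    (s : G) (hs : ¬ p ∣ orderOf s) : Phi d s = ((p ^ a : ℕ) : ℂ) := by
  set S : Finset G := Finset.univ.filter (fun g : G => ¬ p ∣ orderOf g) with hSdef
  have hScard : S.card = m := by
    rw [← hcount, Nat.card_eq_fintype_card, Fintype.card_subtype]
  set P : ℝ := ((p ^ a : ℕ) : ℝ) with hP
  set n : ℝ := (Nat.card G : ℝ) with hn
  have hmP : (m : ℝ) * P = n := by
    rw [hP, hn, hG]; push_cast; ring
  -- sum over S of Phi
  have hsumS : ∑ g ∈ S, Phi d g = (n : ℂ) := by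
    have h1 : ∑ g ∈ S, Phi d g = ∑ g : G, Phi d g := by
      rw [hSdef, Finset.sum_filter]
      refine Finset.sum_congr rfl fun g _ => ?_
      split_ifs with h
      · exact (hvan g h).symm
      · rfl
    rw [h1, sum_Phi, hd1, hn]
    push_cast; ring
  -- sum over S of normSq
  have hnormAll : ∑ g : G, Complex.normSq (Phi d g) = n * ∑ χ : IrrCharacter G, ((d χ : ℝ)) ^ 2 := by
    have h1 := sum_Phi_normSq d
    have h2 : ∀ g : G, Phi d g * conj (Phi d g) = ((Complex.normSq (Phi d g) : ℝ) : ℂ) :=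
      fun g => Complex.mul_conj _
    simp_rw [h2] at h1
    have h3 : ((∑ g : G, Complex.normSq (Phi d g) : ℝ) : ℂ) =
        ((n * ∑ χ : IrrCharacter G, ((d χ : ℝ)) ^ 2 : ℝ) : ℂ) := by
      push_cast
      rw [h1, hn]
      push_cast
      rfl
    exact_mod_cast h3
  have hsqR : ∑ χ : IrrCharacter G, ((d χ : ℝ)) ^ 2 ≤ P := by
    rw [hP]
    exact_mod_cast hsq
  have hn0 : 0 ≤ n := by rw [hn]; positivity
  have hnormS : ∑ g ∈ S, Complex.normSq (Phi d g) ≤ n * P := by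
    calc ∑ g ∈ S, Complex.normSq (Phi d g) ≤ ∑ g : G, Complex.normSq (Phi d g) :=
          Finset.sum_le_sum_of_subset_of_nonneg (Finset.subset_univ _)
            (fun g _ _ => Complex.normSq_nonneg _)
      _ = n * ∑ χ : IrrCharacter G, ((d χ : ℝ)) ^ 2 := hnormAll
      _ ≤ n * P := mul_le_mul_of_nonneg_left hsqR hn0
  -- the key computation
  have hkey : ∑ g ∈ S, Complex.normSq (Phi d g - (P : ℂ)) ≤ 0 := by
    have h1 : ∀ g : G, Complex.normSq (Phi d g - (P : ℂ)) =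
        Complex.normSq (Phi d g) + P ^ 2 - 2 * P * (Phi d g).re := by
      intro g
      rw [Complex.normSq_sub, Complex.normSq_ofReal, Complex.conj_ofReal, Complex.re_mul_ofReal]
      ring
    simp_rw [h1]
    rw [Finset.sum_sub_distrib, Finset.sum_add_distrib, Finset.sum_const, ← Finset.mul_sum,
      ← Complex.re_sum, hsumS, Complex.ofReal_re, hScard, nsmul_eq_mul]
    nlinarith [hnormS, hmP]
  have hzero : ∀ g ∈ S, Complex.normSq (Phi d g - (P : ℂ)) = 0 := by
    have := (Finset.sum_eq_zero_iff_of_nonneg (fun g _ => Complex.normSq_nonneg _)).mp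
      (le_antisymm hkey (Finset.sum_nonneg fun g _ => Complex.normSq_nonneg _))
    exact this
  have hsS : s ∈ S := by rw [hSdef]; simp [hs]
  have := hzero s hsS
  rw [Complex.normSq_eq_zero, sub_eq_zero] at this
  rw [this, hP]
  push_cast
  rfl

/-- If `Φ(s) = Φ(1)` then `s` lies in the kernel of every constituent of `Φ`. -/
theorem irr_eq_of_Phi_eq (s : G) (hs : Phi d s = Phi d 1) (χ : IrrCharacter G) (hχ : 0 < d χ) :
    (χ : G → ℂ) s = (χ : G → ℂ) 1 := by
  have hre : ∀ ψ : IrrCharacter G, ((d ψ : ℂ) * (ψ : G → ℂ) 1 - (d ψ : ℂ) * (ψ : G → ℂ) s).re =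
      (d ψ : ℝ) * (((ψ : G → ℂ) 1).re - ((ψ : G → ℂ) s).re) := by
    intro ψ
    have : ((d ψ : ℕ) : ℂ) = (((d ψ : ℕ) : ℝ) : ℂ) := by push_cast; rfl
    rw [Complex.sub_re, this, Complex.re_ofReal_mul, Complex.re_ofReal_mul]
    ring
  have h0 : ∑ ψ : IrrCharacter G, (d ψ : ℝ) * (((ψ : G → ℂ) 1).re - ((ψ : G → ℂ) s).re) = 0 := by
    have h1 : Phi d 1 - Phi d s = 0 := by rw [hs, sub_self]
    unfold Phi at h1
    rw [← Finset.sum_sub_distrib] at h1
    have h2 := congrArg Complex.re h1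
    rw [Complex.re_sum, Complex.zero_re] at h2
    rw [← h2]
    exact Finset.sum_congr rfl fun ψ _ => (hre ψ).symm
  have hnonneg : ∀ ψ ∈ (Finset.univ : Finset (IrrCharacter G)),
      0 ≤ (d ψ : ℝ) * (((ψ : G → ℂ) 1).re - ((ψ : G → ℂ) s).re) := by
    intro ψ _
    obtain ⟨k, hk1, hk⟩ := irr_bound ψ
    have h3 : ((ψ : G → ℂ) s).re ≤ k :=
      le_trans (Complex.re_le_norm _) (hk s)
    rw [hk1]
    simp only [Complex.natCast_re]
    exact mul_nonneg (Nat.cast_nonneg _) (by linarith)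
  have h4 := (Finset.sum_eq_zero_iff_of_nonneg hnonneg).mp h0 χ (Finset.mem_univ _)
  obtain ⟨k, hk1, hk⟩ := irr_bound χ
  have hdpos : (0 : ℝ) < d χ := by exact_mod_cast hχ
  have h5 : ((χ : G → ℂ) 1).re - ((χ : G → ℂ) s).re = 0 := by
    rcases mul_eq_zero.mp h4 with h | h
    · exact absurd h hdpos.ne'
    · exact h
  rw [hk1] at h5 ⊢
  simp only [Complex.natCast_re] at h5
  have h6 : ((χ : G → ℂ) s).re = (k : ℝ) := by linarith
  have := eq_of_re_eq_of_norm_le (hk s) h6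
  rw [this]
  push_cast
  rfl

open scoped Classical in
/-- The final assembly: from the projective character to the normal `p`-complement. -/
theorem final_of_proj
    (p q r a b c : ℕ) (hp : p.Prime) (hq : q.Prime) (hr : r.Prime) (hqr : q ≠ r)
    (hG : Nat.card G = p ^ a * q ^ b * r ^ c)
    (hcount : Nat.card {g : G // ¬ p ∣ orderOf g} = q ^ b * r ^ c)
    (Q R : Subgroup G) (hQ : Nat.card Q = q ^ b) (hR : Nat.card R = r ^ c)
    (eQ eR : IrrCharacter G → ℕ)
    (hd1 : d (oneIrr G) = 1)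
    (hvan : ∀ g : G, p ∣ orderOf g → ∑ χ : IrrCharacter G, (d χ : ℂ) * (χ : G → ℂ) g = 0)
    (heQ : ∀ χ : IrrCharacter G, (eQ χ : ℂ) = (Nat.card Q : ℂ)⁻¹ * ∑ x : Q, (χ : G → ℂ) (x : G))
    (heR : ∀ χ : IrrCharacter G, (eR χ : ℂ) = (Nat.card R : ℂ)⁻¹ * ∑ x : R, (χ : G → ℂ) (x : G))
    (hdQ : ∀ χ, d χ ≤ eQ χ) (hdR : ∀ χ, d χ ≤ eR χ) :
    ∃ N : Subgroup G, N.Normal ∧ Nat.card N = q ^ b * r ^ c := by
  have hA := sum_eQ_eR q r b c hq hr hqr Q R hQ hR eQ eR heQ heR
  have hq0 : ((q : ℂ) ^ b) ≠ 0 := pow_ne_zero _ (by exact_mod_cast hq.ne_zero)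
  have hr0 : ((r : ℂ) ^ c) ≠ 0 := pow_ne_zero _ (by exact_mod_cast hr.ne_zero)
  have hsumN : ∑ χ : IrrCharacter G, eQ χ * eR χ = p ^ a := by
    have : ((∑ χ : IrrCharacter G, eQ χ * eR χ : ℕ) : ℂ) = ((p ^ a : ℕ) : ℂ) := by
      push_cast
      rw [hA, hQ, hR, hG]
      push_cast
      field_simp
    exact_mod_cast this
  have hsq : ∑ χ : IrrCharacter G, (d χ) ^ 2 ≤ p ^ a := by
    rw [← hsumN]
    refine Finset.sum_le_sum fun χ _ => ?_
    rw [sq]; exact Nat.mul_le_mul (hdQ χ) (hdR χ)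
  have hG' : Nat.card G = p ^ a * (q ^ b * r ^ c) := by rw [hG, mul_assoc]
  have hvan' : ∀ g : G, p ∣ orderOf g → Phi d g = 0 := hvan
  have hPhi := Phi_eq_on_regular d p a (q ^ b * r ^ c) hG' hcount hd1 hvan' hsq
  choose K hKn hKmem using fun χ : IrrCharacter G => exists_ker χ
  let N : Subgroup G := ⨅ χ : {χ : IrrCharacter G // 0 < d χ}, K χ.1
  have hNn : N.Normal := Subgroup.normal_iInf_normal (fun χ => hKn χ.1)
  have hone : ¬ p ∣ orderOf (1 : G) := by
    rw [orderOf_one]; exact fun h => hp.one_lt.ne' (Nat.dvd_one.mp h)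
  have hP1 := hPhi 1 hone
  have hmem : ∀ g : G, g ∈ N ↔ ¬ p ∣ orderOf g := by
    intro g
    constructor
    · intro hg hdiv
      have h1 : Phi d g = Phi d 1 := by
        unfold Phi
        refine Finset.sum_congr rfl fun χ _ => ?_
        by_cases hχ : 0 < d χ
        · have : g ∈ K χ := (Subgroup.mem_iInf.mp hg) ⟨χ, hχ⟩
          rw [(hKmem χ g).mp this]
        · have : d χ = 0 := by omega
          rw [this]; simp
      rw [hvan' g hdiv, hP1] at h1
      have h2 : (p ^ a : ℕ) = 0 := by exact_mod_cast h1.symm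
      exact (pow_ne_zero a hp.ne_zero) h2
    · intro hg
      refine Subgroup.mem_iInf.mpr fun χ => ?_
      rw [hKmem]
      exact irr_eq_of_Phi_eq d g (by rw [hPhi g hg, hP1]) χ.1 χ.2
  refine ⟨N, hNn, ?_⟩
  rw [← hcount]
  exact Nat.card_congr (Equiv.subtypeEquivRight hmem)

end main

end Cfsg.Agent.Lib.Helper62_S4427_Final
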