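import Mathlib
import Cfsg.Prelude.Def_Characters
import Cfsg.Agent.S0840
import Cfsg.Agent.Lib.Helper80_CharBasic
import Cfsg.Agent.Lib.Helper80_CharComplete
import Cfsg.Agent.Lib.Helper30_SelfCent3
import Cfsg.Agent.Lib.Helper30_ThreePQ
import Cfsg.Agent.Lib.Helper30_Deg3
import Cfsg.Agent.Lib.Helper30_KleinCount
import Cfsg.Agent.Lib.Helper62_S4427_Final
import Cfsg.Agent.Lib.Helper77_BlockBasics
import Cfsg.Agent.Lib.Helper1_FT3Defs

/-!
# S3331 character core, package B12: existence of the character data (helper1)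
-/

set_option autoImplicit false
set_option linter.unusedSectionVars false
set_option linter.unusedVariables false

namespace Cfsg.Agent.Lib.Helper1_FT3Data

open Cfsg Cfsg.Agent.Lib.Helper80_CharBasic Cfsg.Agent.Lib.Helper1_FT3Defs
  Cfsg.Agent.Lib.Helper30_SelfCent3 Cfsg.Agent.Lib.Helper30_ThreePQ

open scoped ComplexConjugate

variable {G : Type*} [Group G] [Finite G] {x t : G}

theorem sq_of_order_two {v : G} (hv : orderOf v = 2) : v * v = 1 := by
  rw [← pow_two, ← hv]; exact pow_orderOf_eq_one v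

theorem order_of_isConj {u v : G} {n : ℕ} (hu : orderOf u = n) (h : IsConj u v) : orderOf v = n := by
  obtain ⟨c, hc⟩ := isConj_iff.mp h
  have := (MulAut.conj c).orderOf_eq u
  rw [MulAut.conj_apply, hc, hu] at this
  exact this

/-- an element whose order is not `3` is not conjugate to `x` -/
theorem not_isConj_of_order (h : Hyp G x t) {g : G} (hg : orderOf g ≠ 3) : ¬ IsConj g x := by
  intro hc
  exact hg (order_of_isConj h.ox hc.symm)

/-- column orthogonality against the column of `x`: `φ = 1 + θ` off the class of `x` -/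
theorem one_add_theta (h : Hyp G x t) {θ φ : IrrCharacter G}
    (hexp : ∀ F : IrrCharacter G → ℂ,
      ∑ᶠ χ : IrrCharacter G, F χ * conj ((χ : G → ℂ) x) = F (oneIrr G) + F θ - F φ)
    {g : G} (hg : ¬ IsConj g x) : (φ : G → ℂ) g = 1 + (θ : G → ℂ) g := by
  have h0 := (Cfsg.Agent.Lib.Helper80_CharComplete.second_orthogonality g x).2 hg
  rw [hexp (fun χ => (χ : G → ℂ) g)] at h0
  have h1 : ((oneIrr G : IrrCharacter G) : G → ℂ) g = 1 := rfl
  rw [h1] at h0
  linear_combination (-1 : ℂ) * h0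


/-- the value of an irreducible character at an involution is an integer -/
theorem int_at_involution (χ : IrrCharacter G) {u : G} (hu : orderOf u = 2) :
    ∃ b : ℤ, (χ : G → ℂ) u = b := by
  obtain ⟨n, ρ, hirr, hρ⟩ := χ.2
  obtain ⟨r, hr⟩ := Cfsg.Agent.Lib.Helper30_Deg3.char_involution ρ (sq_of_order_two hu)
  refine ⟨2 * (r : ℤ) - n, ?_⟩
  rw [← hρ, hr]
  push_cast
  ring

/-- `θ(g) ≠ θ(1)` for `g ≠ 1`, when `G` is simple and `θ(x) ≠ θ(1)` -/
theorem ne_degree_of_simple [IsSimpleGroup G] (χ : IrrCharacter G) {y : G}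
    (hy : (χ : G → ℂ) y ≠ (χ : G → ℂ) 1) {g : G} (hg : g ≠ 1) :
    (χ : G → ℂ) g ≠ (χ : G → ℂ) 1 := by
  intro hgd
  obtain ⟨N, hNn, hN⟩ := Cfsg.Agent.Lib.Helper62_S4427_Final.exists_ker χ
  have hgN : g ∈ N := (hN g).2 hgd
  rcases hNn.eq_bot_or_eq_top with hb | ht
  · rw [hb, Subgroup.mem_bot] at hgN
    exact hg hgN
  · have : y ∈ N := by rw [ht]; exact Subgroup.mem_top y
    exact hy ((hN y).1 this)

/-- **Package B12**: the character data of the simple case. -/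
theorem exists_data [IsSimpleGroup G] (h : Hyp G x t) : Nonempty (Data G x t) := by
  classical
  obtain ⟨χp, χm, hpne, hmne, hpm, hpy, hmy, ⟨d, hdp, hdm, hd3⟩, hexp⟩ :=
    column_at_three h.perf h.ox h.cx
  -- `d ≥ 4`
  have hdpos : 0 < d := by
    obtain ⟨k, hk, hk1⟩ := irr_apply_one χp
    rw [hdp] at hk1
    have : d = k := by exact_mod_cast hk1
    omega
  have hd1 : d ≠ 1 := by
    intro h1
    apply hpne
    apply eq_one_of_linear h.perf χp
    rw [hdp, h1]; norm_num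
  have hd4 : 4 ≤ d := by omega
  -- the value at `t`
  obtain ⟨a, ha⟩ := int_at_involution χp h.ot
  have hx3 : x * x * x = 1 := by
    have : x ^ 3 = 1 := by rw [← h.ox]; exact pow_orderOf_eq_one x
    rw [← this, pow_succ, pow_two]
  have hinvol : ∀ u : G, orderOf u = 2 → ¬ IsConj u x := fun u hu =>
    not_isConj_of_order h (by rw [hu]; norm_num)
  have hφ : ∀ u : G, orderOf u = 2 → (χm : G → ℂ) u = 1 + (χp : G → ℂ) u := fun u hu =>
    one_add_theta h hexp (hinvol u hu)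
  have hdC : (d : ℂ) ≠ 0 := by exact_mod_cast hdpos.ne'
  have hd1C : (d : ℂ) + 1 ≠ 0 := by
    have : ((d + 1 : ℕ) : ℂ) ≠ 0 := by exact_mod_cast (Nat.succ_ne_zero d)
    push_cast at this
    exact this
  -- the class-algebra constant for two involutions and `x`
  have hcount : ∀ u v : G, orderOf u = 2 → orderOf v = 2 →
      (Nat.card {p : G × G // IsConj u p.1 ∧ IsConj v p.2 ∧ p.1 * p.2 = x} : ℂ) =
        (Nat.card {w : G // IsConj u w} : ℂ) * (Nat.card {w : G // IsConj v w} : ℂ) /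
          (Nat.card G : ℂ) *
          (((d : ℂ) - (χp : G → ℂ) u) * ((d : ℂ) - (χp : G → ℂ) v) / ((d : ℂ) * ((d : ℂ) + 1))) := by
    intro u v hu hv
    rw [Cfsg.Agent.S0840.result u v x]
    congr 1
    have h1 : (fun χ : IrrCharacter G =>
        (χ : G → ℂ) u * (χ : G → ℂ) v * conj ((χ : G → ℂ) x) / (χ : G → ℂ) 1) =
        fun χ : IrrCharacter G =>
          ((χ : G → ℂ) u * (χ : G → ℂ) v / (χ : G → ℂ) 1) * conj ((χ : G → ℂ) x) := by
      funext χ; ring
    rw [h1, hexp (fun χ => (χ : G → ℂ) u * (χ : G → ℂ) v / (χ : G → ℂ) 1), hdp, hdm,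
      hφ u hu, hφ v hv]
    have hone : ∀ g : G, ((oneIrr G : IrrCharacter G) : G → ℂ) g = 1 := fun g => rfl
    rw [hone, hone, hone]
    field_simp
    ring
  have hclasspos : ∀ u : G, (Nat.card {w : G // IsConj u w} : ℂ) ≠ 0 := by
    intro u
    have : Nonempty {w : G // IsConj u w} := ⟨⟨u, IsConj.refl u⟩⟩
    exact_mod_cast (Nat.card_pos (α := {w : G // IsConj u w})).ne'
  have hNpos : (Nat.card G : ℂ) ≠ 0 := by exact_mod_cast (Nat.card_pos (α := G)).ne'
  have hθx_ne : (χp : G → ℂ) x ≠ (χp : G → ℂ) 1 := by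
    rw [hpy, hdp]
    intro h1
    have : (1 : ℕ) = d := by exact_mod_cast h1
    omega
  have hne_d : ∀ u : G, orderOf u = 2 → (d : ℂ) - (χp : G → ℂ) u ≠ 0 := by
    intro u hu h0
    have hu1 : u ≠ 1 := by
      intro h1; rw [h1, orderOf_one] at hu; omega
    apply ne_degree_of_simple χp hθx_ne hu1
    rw [hdp]
    linear_combination (-1 : ℂ) * h0
  have hnonempty : ∀ u v : G, orderOf u = 2 → orderOf v = 2 →
      Nonempty {p : G × G // IsConj u p.1 ∧ IsConj v p.2 ∧ p.1 * p.2 = x} := by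
    intro u v hu hv
    have h1 := hcount u v hu hv
    have h2 : (Nat.card {p : G × G // IsConj u p.1 ∧ IsConj v p.2 ∧ p.1 * p.2 = x} : ℂ) ≠ 0 := by
      rw [h1]
      exact mul_ne_zero (div_ne_zero (mul_ne_zero (hclasspos u) (hclasspos v)) hNpos)
        (div_ne_zero (mul_ne_zero (hne_d u hu) (hne_d v hv)) (mul_ne_zero hdC hd1C))
    have h3 : Nat.card {p : G × G // IsConj u p.1 ∧ IsConj v p.2 ∧ p.1 * p.2 = x} ≠ 0 := by
      exact_mod_cast h2
    exact (Nat.card_pos_iff.mp (Nat.pos_of_ne_zero h3)).1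
  -- all involutions are conjugate
  have hall : ∀ v : G, orderOf v = 2 → IsConj t v := by
    intro v hv
    obtain ⟨⟨⟨p, z⟩, hp, hz, hpz⟩⟩ := hnonempty t v h.ot hv
    simp only at hp hz hpz
    have hz' := eq_conj_of_prod (sq_of_order_two (order_of_isConj h.ot hp))
      (sq_of_order_two (order_of_isConj hv hz)) hpz hx3
    have hpz' : IsConj p z := isConj_iff.mpr ⟨x, hz'.symm⟩
    exact (hp.trans hpz').trans hz.symm
  -- the count
  have h3c := card_pairs h.ox h.cx h.ot hall (hnonempty t t h.ot h.ot)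
  have hform := hcount t t h.ot h.ot
  rw [h3c, ha] at hform
  have hK := Cfsg.Agent.Lib.Helper30_KleinCount.card_class_mul t
  obtain ⟨K, hKdef⟩ : ∃ K : ℕ, K = Nat.card {w : G // IsConj t w} := ⟨_, rfl⟩
  obtain ⟨c, hcdef⟩ : ∃ c : ℕ, c = Nat.card (Subgroup.centralizer ({t} : Set G)) := ⟨_, rfl⟩
  obtain ⟨N, hNdef⟩ : ∃ N : ℕ, N = Nat.card G := ⟨_, rfl⟩
  rw [← hKdef, ← hcdef, ← hNdef] at hK
  rw [← hKdef, ← hNdef] at hform
  rw [← hNdef] at hNpos
  have hKc : (K : ℂ) * (c : ℂ) = (N : ℂ) := by exact_mod_cast hK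
  have hDne : (d : ℂ) - (a : ℂ) ≠ 0 := by
    have := hne_d t h.ot
    rwa [ha] at this
  -- `3 d (d+1) c² = N (d-a)²` over `ℂ`
  have e1 : (3 : ℂ) * d * (d + 1) * (c : ℂ) ^ 2 = (N : ℂ) * ((d : ℂ) - a) ^ 2 := by
    have hf : (3 : ℂ) * N * (d * (d + 1)) = K * K * (((d : ℂ) - a) * ((d : ℂ) - a)) := by
      have : ((3 : ℕ) : ℂ) = 3 := by norm_num
      rw [this] at hform
      field_simp at hform
      linear_combination hform
    have : (N : ℂ) * ((3 : ℂ) * d * (d + 1) * (c : ℂ) ^ 2) = (N : ℂ) * ((N : ℂ) * ((d : ℂ) - a) ^ 2) := by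
      calc (N : ℂ) * ((3 : ℂ) * d * (d + 1) * (c : ℂ) ^ 2)
          = ((3 : ℂ) * N * (d * (d + 1))) * (c : ℂ) ^ 2 := by ring
        _ = (K * K * (((d : ℂ) - a) * ((d : ℂ) - a))) * (c : ℂ) ^ 2 := by rw [hf]
        _ = ((K : ℂ) * c) ^ 2 * ((d : ℂ) - a) ^ 2 := by ring
        _ = (N : ℂ) * ((N : ℂ) * ((d : ℂ) - a) ^ 2) := by rw [hKc]; ring
    exact mul_left_cancel₀ hNpos this
  -- over `ℤ`
  have e2 : (3 : ℤ) * d * (d + 1) * (c : ℤ) ^ 2 = (N : ℤ) * ((d : ℤ) - a) ^ 2 := by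
    exact_mod_cast e1
  have hDne' : (d : ℤ) - a ≠ 0 := by
    intro h0
    apply hDne
    exact_mod_cast h0
  -- `a ≤ d`
  have hale : a ≤ d := by
    obtain ⟨n, hn1, hnb⟩ := Cfsg.Agent.Lib.Helper62_S4427_Final.irr_bound χp
    rw [hdp] at hn1
    have hnd : n = d := by exact_mod_cast hn1.symm
    have := hnb t
    rw [ha, hnd] at this
    have h1 : ‖((a : ℤ) : ℂ)‖ = |(a : ℝ)| := by
      rw [← Complex.ofReal_intCast, Complex.norm_real, Real.norm_eq_abs]
    rw [h1] at this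
    have h2 : (a : ℝ) ≤ d := le_trans (le_abs_self _) this
    exact_mod_cast h2
  have hDpos : 0 < (d : ℤ) - a := by omega
  -- divisibilities
  have hcpos : 0 < c := by
    rw [hcdef]; exact Nat.card_pos
  have hdN : d ∣ N := by
    have h1 := Cfsg.Agent.Lib.Helper77_BlockBasics.charDegree_dvd_card χp
    have h2 := Cfsg.Agent.Lib.Helper77_BlockBasics.apply_one_eq_charDegree χp
    rw [hdp] at h2
    have h3 : d = charDegree (χp : G → ℂ) := by exact_mod_cast h2
    rw [hNdef, h3]; exact h1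
  have hd1N : d + 1 ∣ N := by
    have h1 := Cfsg.Agent.Lib.Helper77_BlockBasics.charDegree_dvd_card χm
    have h2 := Cfsg.Agent.Lib.Helper77_BlockBasics.apply_one_eq_charDegree χm
    rw [hdm] at h2
    have h3 : d + 1 = charDegree (χm : G → ℂ) := by exact_mod_cast h2
    rw [hNdef, h3]; exact h1
  have h3N : 3 ∣ N := by
    rw [hNdef, ← h.ox]; exact orderOf_dvd_natCard x
  have hcop1 : Nat.Coprime d (d + 1) := by simp
  have hcop3 : Nat.Coprime 3 (d * (d + 1)) := by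
    have h3p : Nat.Prime 3 := Nat.prime_three
    rw [Nat.Prime.coprime_iff_not_dvd h3p]
    intro hdvd
    rcases (Nat.Prime.dvd_mul h3p).mp hdvd with h1 | h1 <;> omega
  have hddN : d * (d + 1) ∣ N := Nat.Coprime.mul_dvd_of_dvd_of_dvd hcop1 hdN hd1N
  have h3ddN : 3 * (d * (d + 1)) ∣ N := Nat.Coprime.mul_dvd_of_dvd_of_dvd hcop3 h3N hddN
  obtain ⟨M, hM⟩ := h3ddN
  -- `c² = M D²`
  obtain ⟨Dn, hDn⟩ : ∃ Dn : ℕ, (Dn : ℤ) = (d : ℤ) - a := ⟨((d : ℤ) - a).toNat, Int.toNat_of_nonneg hDpos.le⟩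
  have hDnpos : 0 < Dn := by
    have : (0 : ℤ) < (Dn : ℤ) := by rw [hDn]; exact hDpos
    exact_mod_cast this
  have e3 : c ^ 2 = M * Dn ^ 2 := by
    have h1 : (3 : ℤ) * d * (d + 1) * (c : ℤ) ^ 2 = (3 : ℤ) * d * (d + 1) * ((M : ℤ) * (Dn : ℤ) ^ 2) := by
      rw [e2, hDn, hM]
      push_cast
      ring
    have h2 : (3 : ℤ) * d * (d + 1) ≠ 0 := by positivity
    have h3 := mul_left_cancel₀ h2 h1
    exact_mod_cast h3
  have hdvd : Dn ∣ c := by
    have : Dn ^ 2 ∣ c ^ 2 := ⟨M, by rw [e3]; ring⟩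
    exact (Nat.pow_dvd_pow_iff (by norm_num)).mp this
  obtain ⟨m, hm⟩ := hdvd
  have hmpos : 0 < m := by
    rcases Nat.eq_zero_or_pos m with h0 | h0
    · rw [h0, mul_zero] at hm; omega
    · exact h0
  have hMm : M = m ^ 2 := by
    have h1 : M * Dn ^ 2 = m ^ 2 * Dn ^ 2 := by rw [← e3, hm]; ring
    exact Nat.eq_of_mul_eq_mul_right (by positivity) h1
  refine ⟨{ θ := χp, φ := χm, d := d, a := a, m := m, θ_one := hdp, φ_one := hdm, θ_x := hpy,
            φ_x := hmy, θ_ne := hpne, φ_ne := hmne, θφ_ne := hpm, d_mod := hd3, d_ge := hd4,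
            expand := hexp, θ_t := ha, m_pos := hmpos, card_cent := ?_, card_G := ?_,
            allconj := hall }⟩
  · rw [← hcdef, hm, ← hDn]
    push_cast
    ring
  · rw [← hNdef, hM, hMm]
    ring

end Cfsg.Agent.Lib.Helper1_FT3Data
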