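import Mathlib
import Cfsg.Prelude.Def_Characters
import Cfsg.Agent.S0840
import Cfsg.Agent.Lib.Helper80_CharBasic
import Cfsg.Agent.Lib.Helper30_SelfCent3
import Cfsg.Agent.Lib.Helper30_KleinCount
import Cfsg.Agent.Lib.Helper3_CharEigen
import Cfsg.Agent.Lib.Helper3_CharDegree
import Cfsg.Agent.Lib.Helper1_FT3Defs
import Cfsg.Agent.Lib.Helper1_FT3Data

/-!
# S3331 character core, packages B3a + B3b (helper1)

`reg_values` : for a `3`-regular `g`, `θ(g) = β ∈ ℤ` and `φ(g) = β + 1`.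
`tau_card`   : `#{s : o(s) = 2, o(s g) = 3} = m (d - θ(g))`.

Both come from the class-algebra constant `a_{t x g}` (S0840) expanded along the column of `x`.
-/

set_option autoImplicit false
set_option linter.unusedSectionVars false
set_option linter.unusedVariables false

namespace Cfsg.Agent.Lib.Helper1_FT3_B3ab

open Cfsg Cfsg.Agent.Lib.Helper80_CharBasic Cfsg.Agent.Lib.Helper1_FT3Defs
  Cfsg.Agent.Lib.Helper30_SelfCent3 Cfsg.Agent.Lib.Helper1_FT3Data

open scoped ComplexConjugate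

variable {G : Type*} [Group G] [Finite G] {x t : G}

/-- the values at `x` are real, `x` being inverted by `t` -/
theorem conj_at_x (h : Hyp G x t) (χ : IrrCharacter G) :
    conj ((χ : G → ℂ) x) = (χ : G → ℂ) x := by
  rw [← irr_inv, ← h.inv, irr_conj]

/-- `|C(x)| = 3` -/
theorem card_cent_x (h : Hyp G x t) :
    Nat.card (Subgroup.centralizer ({x} : Set G)) = 3 := by
  rw [h.cx, Nat.card_zpowers, h.ox]

/-- the class-algebra constant `a_{t x g}` for `g` not conjugate to `x` -/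
theorem count_formula (h : Hyp G x t) (D : Data G x t) (g : G) (hg : ¬ IsConj g x) :
    (Nat.card {p : G × G // IsConj t p.1 ∧ IsConj x p.2 ∧ p.1 * p.2 = g} : ℂ) =
      (D.m : ℂ) * ((D.d : ℂ) - conj ((D.θ : G → ℂ) g)) := by
  rw [Cfsg.Agent.S0840.result t x g]
  have h1 : (fun χ : IrrCharacter G =>
      (χ : G → ℂ) t * (χ : G → ℂ) x * conj ((χ : G → ℂ) g) / (χ : G → ℂ) 1) =
      fun χ : IrrCharacter G =>
        ((χ : G → ℂ) t * conj ((χ : G → ℂ) g) / (χ : G → ℂ) 1) * conj ((χ : G → ℂ) x) := by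
    funext χ
    rw [conj_at_x h χ]
    ring
  rw [h1, D.expand (fun χ => (χ : G → ℂ) t * conj ((χ : G → ℂ) g) / (χ : G → ℂ) 1)]
  have hone : ∀ u : G, ((oneIrr G : IrrCharacter G) : G → ℂ) u = 1 := fun u => rfl
  have htx : ¬ IsConj t x := not_isConj_of_order h (by rw [h.ot]; norm_num)
  have hφt : (D.φ : G → ℂ) t = 1 + (D.θ : G → ℂ) t := one_add_theta h D.expand htx
  have hφg : (D.φ : G → ℂ) g = 1 + (D.θ : G → ℂ) g := one_add_theta h D.expand hg
  rw [hone, hone, hone, D.θ_one, D.φ_one, hφt, hφg, D.θ_t, map_one, map_add, map_one]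
  -- the orders
  have hK := Cfsg.Agent.Lib.Helper30_KleinCount.card_class_mul t
  have hX := Cfsg.Agent.Lib.Helper30_KleinCount.card_class_mul x
  rw [card_cent_x h] at hX
  obtain ⟨K, hKdef⟩ : ∃ K : ℕ, K = Nat.card {w : G // IsConj t w} := ⟨_, rfl⟩
  obtain ⟨X, hXdef⟩ : ∃ X : ℕ, X = Nat.card {w : G // IsConj x w} := ⟨_, rfl⟩
  obtain ⟨c, hcdef⟩ : ∃ c : ℕ, c = Nat.card (Subgroup.centralizer ({t} : Set G)) := ⟨_, rfl⟩
  obtain ⟨N, hNdef⟩ : ∃ N : ℕ, N = Nat.card G := ⟨_, rfl⟩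
  have hcc := D.card_cent
  have hNN := D.card_G
  rw [← hKdef, ← hcdef, ← hNdef] at hK
  rw [← hXdef, ← hNdef] at hX
  rw [← hcdef] at hcc
  rw [← hNdef] at hNN
  rw [← hKdef, ← hXdef, ← hNdef]
  have hKc : (K : ℂ) * (c : ℂ) = (N : ℂ) := by exact_mod_cast hK
  have hX3 : (X : ℂ) * 3 = (N : ℂ) := by exact_mod_cast hX
  have hcC : (c : ℂ) = (D.m : ℂ) * ((D.d : ℂ) - (D.a : ℂ)) := by exact_mod_cast hcc
  have hNC : (N : ℂ) = 3 * (D.d : ℂ) * ((D.d : ℂ) + 1) * (D.m : ℂ) ^ 2 := by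
    rw [hNN]; push_cast; ring
  have hcpos : 0 < c := by rw [hcdef]; exact Nat.card_pos
  have hc0 : (c : ℂ) ≠ 0 := by exact_mod_cast hcpos.ne'
  have hm0 : (D.m : ℂ) ≠ 0 := by exact_mod_cast D.m_pos.ne'
  have hda0 : (D.d : ℂ) - (D.a : ℂ) ≠ 0 := by
    intro h0
    apply hc0
    rw [hcC, h0, mul_zero]
  have hd0 : (D.d : ℂ) ≠ 0 := by
    have := D.d_ge
    have h4 : 0 < D.d := by omega
    exact_mod_cast h4.ne'
  have hd10 : (D.d : ℂ) + 1 ≠ 0 := by
    have : ((D.d + 1 : ℕ) : ℂ) ≠ 0 := by exact_mod_cast (Nat.succ_ne_zero D.d)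
    push_cast at this
    exact this
  have hN0 : (N : ℂ) ≠ 0 := by
    rw [hNC]
    exact mul_ne_zero (mul_ne_zero (mul_ne_zero (by norm_num) hd0) hd10) (pow_ne_zero 2 hm0)
  have hKv : (K : ℂ) = (N : ℂ) / (c : ℂ) := by
    field_simp
    exact hKc
  have hXv : (X : ℂ) = (N : ℂ) / 3 := by
    field_simp
    exact hX3
  rw [hKv, hXv, hcC, hNC]
  field_simp
  ring

/-- **Package B3a**. -/
theorem reg_values (h : Hyp G x t) (D : Data G x t) (g : G) (hg : ¬ 3 ∣ orderOf g) :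
    ∃ β : ℤ, (D.θ : G → ℂ) g = β ∧ (D.φ : G → ℂ) g = (β : ℂ) + 1 := by
  have hg3 : orderOf g ≠ 3 := by
    intro h3; apply hg; rw [h3]
  have hgx : ¬ IsConj g x := not_isConj_of_order h hg3
  have hφg : (D.φ : G → ℂ) g = 1 + (D.θ : G → ℂ) g := one_add_theta h D.expand hgx
  have hcnt := count_formula h D g hgx
  obtain ⟨n, hn⟩ : ∃ n : ℕ,
      n = Nat.card {p : G × G // IsConj t p.1 ∧ IsConj x p.2 ∧ p.1 * p.2 = g} := ⟨_, rfl⟩
  rw [← hn] at hcnt
  have hm0 : (D.m : ℂ) ≠ 0 := by exact_mod_cast D.m_pos.ne'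
  -- `θ(g) = d - n / m`
  have hθ : (D.θ : G → ℂ) g = (D.d : ℂ) - (n : ℂ) / (D.m : ℂ) := by
    have h1 : conj ((D.θ : G → ℂ) g) = (D.d : ℂ) - (n : ℂ) / (D.m : ℂ) := by
      field_simp
      linear_combination hcnt
    have h2 := congrArg conj h1
    rw [Complex.conj_conj] at h2
    rw [h2]
    simp
  -- integrality
  have hint : IsIntegral ℤ ((D.θ : G → ℂ) g) := by
    obtain ⟨k, ρ, hirr, hρ⟩ := D.θ.2
    rw [← hρ]
    exact Cfsg.Agent.Lib.Helper3_CharEigen.isIntegral_char ρ g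
  have hint2 : IsIntegral ℤ ((n : ℂ) / (D.m : ℂ)) := by
    have h1 : (n : ℂ) / (D.m : ℂ) = (D.d : ℂ) - (D.θ : G → ℂ) g := by
      rw [hθ]; ring
    rw [h1]
    exact IsIntegral.sub (isIntegral_natCast D.d) hint
  obtain ⟨k, hk⟩ := Cfsg.Agent.Lib.Helper3_CharDegree.dvd_of_isIntegral_div D.m_pos.ne' hint2
  have hθ' : (D.θ : G → ℂ) g = (((D.d : ℤ) - (k : ℤ) : ℤ) : ℂ) := by
    rw [hθ, hk]
    push_cast
    field_simp
  refine ⟨(D.d : ℤ) - (k : ℤ), hθ', ?_⟩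
  rw [hφg, hθ']
  ring

theorem mul_eq_of_sq {s g q : G} (hs : s * s = 1) (hq : s * q = g) : s * g = q := by
  rw [← hq, ← mul_assoc, hs, one_mul]

/-- the involutions `s` with `s g` of order three correspond to the pairs counted by `a_{t x g}` -/
noncomputable def pairEquiv (h : Hyp G x t) (D : Data G x t) (g : G) :
    {s : G // orderOf s = 2 ∧ orderOf (s * g) = 3} ≃
      {p : G × G // IsConj t p.1 ∧ IsConj x p.2 ∧ p.1 * p.2 = g} where
  toFun s := ⟨(s.1, s.1 * g), D.allconj s.1 s.2.1,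
    isConj_of_order_three h.perf h.ox h.cx s.2.2, by
      show s.1 * (s.1 * g) = g
      rw [← mul_assoc, sq_of_order_two s.2.1, one_mul]⟩
  invFun p := ⟨p.1.1, order_of_isConj h.ot p.2.1, by
      have h1 : p.1.1 * g = p.1.2 :=
        mul_eq_of_sq (sq_of_order_two (order_of_isConj h.ot p.2.1)) p.2.2.2
      rw [h1]
      exact order_of_isConj h.ox p.2.2.1⟩
  left_inv s := by
    apply Subtype.ext
    rfl
  right_inv p := by
    apply Subtype.ext
    apply Prod.ext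
    · rfl
    · show p.1.1 * g = p.1.2
      exact mul_eq_of_sq (sq_of_order_two (order_of_isConj h.ot p.2.1)) p.2.2.2

/-- **Package B3b**. -/
theorem tau_card (h : Hyp G x t) (D : Data G x t) (g : G) (hg : ¬ 3 ∣ orderOf g) (hg1 : g ≠ 1)
    (β : ℤ) (hβ : (D.θ : G → ℂ) g = β) :
    (Nat.card {s : G // orderOf s = 2 ∧ orderOf (s * g) = 3} : ℤ) = D.m * ((D.d : ℤ) - β) := by
  have hg3 : orderOf g ≠ 3 := by
    intro h3; apply hg; rw [h3]
  have hgx : ¬ IsConj g x := not_isConj_of_order h hg3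
  have hcnt := count_formula h D g hgx
  rw [← Nat.card_congr (pairEquiv h D g), hβ] at hcnt
  have hconj : conj ((β : ℤ) : ℂ) = ((β : ℤ) : ℂ) := by
    rw [← Complex.ofReal_intCast, Complex.conj_ofReal]
  rw [hconj] at hcnt
  exact_mod_cast hcnt

end Cfsg.Agent.Lib.Helper1_FT3_B3ab
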