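import Mathlib
import Cfsg.Prelude.Def_Characters
import Cfsg.Agent.Lib.Helper80_CharBasic
import Cfsg.Agent.Lib.Helper1_FT3Defs
import Cfsg.Agent.Lib.Helper75_CharArith
import Cfsg.Agent.Lib.Helper3_CharBridge
import Cfsg.Agent.Lib.Helper30_SelfCent3

/-!
# S3331 (helper6 / helper1 market), packages B6a, B6b, B6c: the arguments, with the statements of
the packages they depend on (S2, B3a, B3c, B3d) as explicit hypotheses.  The verbatim package
statements are in `Helper32_FT3_B6a/B6b/B6c.lean`.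
-/

set_option autoImplicit false
set_option linter.unusedSectionVars false

namespace Cfsg.Agent.Lib.Helper32_FT3_B6aux

open Cfsg Cfsg.Agent.Lib.Helper80_CharBasic Cfsg.Agent.Lib.Helper1_FT3Defs

open scoped ComplexConjugate

variable {G : Type*} [Group G] [Finite G] {x t : G}

/-- The sum of a character over a subgroup is a natural multiple of the order of the subgroup. -/
theorem sum_subgroup_nat (θ : IrrCharacter G) (K : Subgroup G) :
    ∃ n : ℕ, ∑ᶠ k : K, (θ : G → ℂ) (k : G) = ((n * Nat.card K : ℕ) : ℂ) := by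
  classical
  have : Fintype K := Fintype.ofFinite K
  have h1 : Cfsg.IsCharacter K (fun k : K => (θ : G → ℂ) k) :=
    Cfsg.Agent.Lib.Helper75_CharArith.isCharacter_restrict K
      (Cfsg.Agent.Lib.Helper3_CharBridge.isCharacter_of_isIrrCharacter θ.2)
  have h2 : Cfsg.IsCharacter K (fun _ : K => (1 : ℂ)) :=
    Cfsg.Agent.Lib.Helper3_CharBridge.isCharacter_of_isIrrCharacter (isIrrCharacter_one K)
  obtain ⟨n, hn⟩ := Cfsg.Agent.Lib.Helper75_CharArith.classInner_isCharacter_nat h1 h2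
  refine ⟨n, ?_⟩
  unfold Cfsg.classInner at hn
  simp only [map_one, mul_one] at hn
  rw [finsum_eq_sum_of_fintype]
  have hK : (Nat.card K : ℂ) ≠ 0 := by
    exact_mod_cast (Nat.card_pos (α := K)).ne'
  have : ∑ k : K, (θ : G → ℂ) (k : G) = (Nat.card K : ℂ) * n := by
    rw [← hn, ← mul_assoc, mul_inv_cancel₀ hK, one_mul]
  rw [this]
  push_cast
  ring

/-- the subgroup `B ⟨x⟩` for `x` normalizing `B` -/
def mulZ (B : Subgroup G) (x : G) (hx : x ∈ Subgroup.normalizer (B : Set G)) : Subgroup G where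
  carrier := {g | ∃ b ∈ B, ∃ i : ℤ, g = b * x ^ i}
  one_mem' := ⟨1, B.one_mem, 0, by simp⟩
  mul_mem' := by
    rintro _ _ ⟨b, hb, i, rfl⟩ ⟨c, hc, j, rfl⟩
    have hxi : x ^ i ∈ Subgroup.normalizer (B : Set G) := Subgroup.zpow_mem _ hx i
    refine ⟨b * (x ^ i * c * (x ^ i)⁻¹),
      B.mul_mem hb ((Subgroup.mem_normalizer_iff.1 hxi c).1 hc), i + j, ?_⟩
    rw [zpow_add]
    group
  inv_mem' := by
    rintro _ ⟨b, hb, i, rfl⟩
    have hxi : (x ^ i)⁻¹ ∈ Subgroup.normalizer (B : Set G) :=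
      Subgroup.inv_mem _ (Subgroup.zpow_mem _ hx i)
    refine ⟨(x ^ i)⁻¹ * b⁻¹ * ((x ^ i)⁻¹)⁻¹,
      (Subgroup.mem_normalizer_iff.1 hxi b⁻¹).1 (B.inv_mem hb), -i, ?_⟩
    rw [zpow_neg]
    group

theorem mem_mulZ {B : Subgroup G} {x : G} (hx : x ∈ Subgroup.normalizer (B : Set G)) (g : G) :
    g ∈ mulZ B x hx ↔ ∃ b ∈ B, ∃ i : ℤ, g = b * x ^ i := Iff.rfl

/-- a power of `x` lying in a `3'`-subgroup is trivial -/
theorem zpow_eq_one_of_mem {B : Subgroup G} {x : G} (hox : orderOf x = 3)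
    (h3 : ¬ 3 ∣ Nat.card B) {y : G} (hy : y ∈ Subgroup.zpowers x) (hyB : y ∈ B) : y = 1 := by
  have h1 : orderOf y ∣ 3 := by
    have := Subgroup.orderOf_dvd_natCard (Subgroup.zpowers x) hy
    rwa [Nat.card_zpowers, hox] at this
  have h2 : orderOf y ∣ Nat.card B := Subgroup.orderOf_dvd_natCard B hyB
  rcases (Nat.dvd_prime Nat.prime_three).1 h1 with h | h
  · exact orderOf_eq_one_iff.1 h
  · exact absurd (h ▸ h2) h3

/-- the parametrisation `B × Fin 3 ≃ B ⟨x⟩` -/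
theorem mulZ_bij {B : Subgroup G} {x : G} (hx : x ∈ Subgroup.normalizer (B : Set G))
    (hox : orderOf x = 3) (h3 : ¬ 3 ∣ Nat.card B) :
    Function.Bijective (fun p : B × Fin 3 =>
      (⟨(p.1 : G) * x ^ (p.2 : ℕ), ⟨p.1, p.1.2, (p.2 : ℕ), by rw [zpow_natCast]⟩⟩ : mulZ B x hx)) := by
  constructor
  · rintro ⟨⟨b, hb⟩, i⟩ ⟨⟨c, hc⟩, j⟩ hEq
    have hEq' : b * x ^ (i : ℕ) = c * x ^ (j : ℕ) := congrArg Subtype.val hEq
    have hy : c⁻¹ * b = x ^ (j : ℕ) * (x ^ (i : ℕ))⁻¹ := by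
      rw [eq_mul_inv_iff_mul_eq, mul_assoc, hEq', inv_mul_cancel_left]
    have hyB : c⁻¹ * b ∈ B := B.mul_mem (B.inv_mem hc) hb
    have hyX : c⁻¹ * b ∈ Subgroup.zpowers x := by
      rw [hy]
      exact Subgroup.mul_mem _ (Subgroup.pow_mem _ (Subgroup.mem_zpowers x) _)
        (Subgroup.inv_mem _ (Subgroup.pow_mem _ (Subgroup.mem_zpowers x) _))
    have h1 := zpow_eq_one_of_mem hox h3 hyX hyB
    have hbc : b = c := by
      have := inv_mul_eq_one.1 h1
      exact this.symm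
    subst hbc
    have hpow : x ^ (i : ℕ) = x ^ (j : ℕ) := mul_left_cancel hEq'
    have hij : (i : ℕ) = (j : ℕ) := by
      apply pow_injOn_Iio_orderOf (x := x)
      · rw [hox]; exact i.2
      · rw [hox]; exact j.2
      · exact hpow
    have : i = j := Fin.ext hij
    rw [this]
  · rintro ⟨g, b, hb, i, rfl⟩
    have hmod : x ^ i = x ^ (i % 3) := by
      have := zpow_mod_orderOf x i
      rw [hox] at this
      exact this.symm
    have hnn : 0 ≤ i % 3 := Int.emod_nonneg _ (by norm_num)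
    have hlt : i % 3 < 3 := Int.emod_lt_of_pos _ (by norm_num)
    refine ⟨(⟨b, hb⟩, ⟨(i % 3).toNat, by omega⟩), ?_⟩
    apply Subtype.ext
    show b * x ^ ((i % 3).toNat) = b * x ^ i
    rw [hmod, ← zpow_natCast, Int.toNat_of_nonneg hnn]

/-- sums over `B ⟨x⟩` -/
theorem sum_mulZ {B : Subgroup G} {x : G} (hx : x ∈ Subgroup.normalizer (B : Set G))
    (hox : orderOf x = 3) (h3 : ¬ 3 ∣ Nat.card B) (F : G → ℂ) :
    ∑ᶠ h : mulZ B x hx, F (h : G) =
      ∑ᶠ b : B, (F (b : G) + F ((b : G) * x) + F ((b : G) * x⁻¹)) := by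
  classical
  have : Fintype B := Fintype.ofFinite B
  have : Fintype (mulZ B x hx) := Fintype.ofFinite _
  rw [finsum_eq_sum_of_fintype, finsum_eq_sum_of_fintype]
  rw [← (Equiv.ofBijective _ (mulZ_bij hx hox h3)).sum_comp, Fintype.sum_prod_type]
  apply Finset.sum_congr rfl
  intro b _
  rw [Fin.sum_univ_three]
  simp only [Equiv.ofBijective_apply]
  have hx2 : x ^ 2 = x⁻¹ := by
    have h3' : x ^ 3 = 1 := by rw [← hox]; exact pow_orderOf_eq_one x
    rw [eq_inv_iff_mul_eq_one, ← pow_succ, h3']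
  simp [hx2]

theorem card_mulZ {B : Subgroup G} {x : G} (hx : x ∈ Subgroup.normalizer (B : Set G))
    (hox : orderOf x = 3) (h3 : ¬ 3 ∣ Nat.card B) :
    Nat.card (mulZ B x hx) = 3 * Nat.card B := by
  rw [← Nat.card_congr (Equiv.ofBijective _ (mulZ_bij hx hox h3)), Nat.card_prod, Nat.card_fin,
    mul_comm]

/-- **B6a**, with the statement of package S2 as a hypothesis. -/
theorem sum_theta_sig_aux (h : Hyp G x t) (D : Data G x t) (B : Subgroup G) (hB : IsSig x B)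
    (hS2 : ∀ b ∈ B, orderOf (b * x) = 3 ∧ orderOf (b * x⁻¹) = 3) :
    ∃ k : ℕ, ∑ᶠ b : B, (D.θ : G → ℂ) (b : G) = (((3 * k + 1) * Nat.card B : ℕ) : ℂ) := by
  classical
  obtain ⟨h3, hx⟩ := hB
  obtain ⟨n, hn⟩ := sum_subgroup_nat D.θ B
  obtain ⟨n', hn'⟩ := sum_subgroup_nat D.θ (mulZ B x hx)
  rw [sum_mulZ hx h.ox h3, card_mulZ hx h.ox h3] at hn'
  have hval : ∀ b : B, (D.θ : G → ℂ) ((b : G) * x) = 1 ∧ (D.θ : G → ℂ) ((b : G) * x⁻¹) = 1 := by
    intro b
    obtain ⟨h1, h2⟩ := hS2 b b.2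
    constructor
    · rw [← irr_isConj D.θ
        (Cfsg.Agent.Lib.Helper30_SelfCent3.isConj_of_order_three h.perf h.ox h.cx h1), D.θ_x]
    · rw [← irr_isConj D.θ
        (Cfsg.Agent.Lib.Helper30_SelfCent3.isConj_of_order_three h.perf h.ox h.cx h2), D.θ_x]
  have : Fintype B := Fintype.ofFinite B
  have hsum : ∑ᶠ b : B, ((D.θ : G → ℂ) (b : G) + (D.θ : G → ℂ) ((b : G) * x) +
      (D.θ : G → ℂ) ((b : G) * x⁻¹)) = ∑ᶠ b : B, (D.θ : G → ℂ) (b : G) + 2 * (Nat.card B : ℂ) := by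
    rw [finsum_eq_sum_of_fintype, finsum_eq_sum_of_fintype]
    have : ∀ b : B, ((D.θ : G → ℂ) (b : G) + (D.θ : G → ℂ) ((b : G) * x) +
        (D.θ : G → ℂ) ((b : G) * x⁻¹)) = (D.θ : G → ℂ) (b : G) + 2 := by
      intro b
      rw [(hval b).1, (hval b).2]
      ring
    simp_rw [this]
    rw [Finset.sum_add_distrib, Finset.sum_const, Finset.card_univ, Nat.card_eq_fintype_card]
    simp
    ring
  rw [hsum, hn] at hn'
  have hBpos : 0 < Nat.card B := Nat.card_pos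
  have hnat : n * Nat.card B + 2 * Nat.card B = n' * (3 * Nat.card B) := by
    exact_mod_cast hn'
  have h4 : n + 2 = n' * 3 := by
    have : (n + 2) * Nat.card B = (n' * 3) * Nat.card B := by
      rw [add_mul, hnat]; ring
    exact Nat.eq_of_mul_eq_mul_right hBpos this
  refine ⟨n' - 1, ?_⟩
  rw [hn]
  have : n = 3 * (n' - 1) + 1 := by omega
  rw [this]

/-- an `x`-invariant `3'`-subgroup has order `≡ 1 (mod 3)` -/
theorem card_sig_mod_three (h : Hyp G x t) (Z : Subgroup G) (hZ : IsSig x Z) :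
    Nat.card Z % 3 = 1 := by
  classical
  obtain ⟨h3, hx⟩ := hZ
  have : Fintype Z := Fintype.ofFinite Z
  have : Fact (Nat.Prime 3) := ⟨Nat.prime_three⟩
  let f : Function.End Z := fun z =>
    ⟨x * (z : G) * x⁻¹, (Subgroup.mem_normalizer_iff.1 hx z).1 z.2⟩
  have hx3 : x ^ 3 = 1 := by rw [← h.ox]; exact pow_orderOf_eq_one x
  have hf : f ^ 3 ^ 1 = 1 := by
    rw [pow_one]
    funext z
    apply Subtype.ext
    show x * (x * (x * (z : G) * x⁻¹) * x⁻¹) * x⁻¹ = z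
    have : x * (x * (x * (z : G) * x⁻¹) * x⁻¹) * x⁻¹ = x ^ 3 * z * (x ^ 3)⁻¹ := by
      rw [show x ^ 3 = x * x * x from by rw [pow_succ, pow_succ, pow_one]]
      simp only [mul_inv_rev, mul_assoc]
    rw [this, hx3]
    simp
  have hmod := Equiv.Perm.card_fixedPoints_modEq (f := f) (p := 3) (n := 1) hf
  have hfix : Fintype.card (Function.fixedPoints f) = 1 := by
    rw [Fintype.card_eq_one_iff]
    refine ⟨⟨1, ?_⟩, ?_⟩
    · show f 1 = 1
      apply Subtype.ext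
      show x * ((1 : Z) : G) * x⁻¹ = ((1 : Z) : G)
      simp
    · rintro ⟨z, hz⟩
      apply Subtype.ext
      apply Subtype.ext
      show (z : G) = 1
      have hz' : x * (z : G) * x⁻¹ = z := congrArg Subtype.val hz
      have hcomm : (z : G) ∈ Subgroup.centralizer ({x} : Set G) := by
        rw [Subgroup.mem_centralizer_iff]
        intro y hy
        rw [Set.mem_singleton_iff] at hy
        subst hy
        calc y * (z : G) = y * (z : G) * y⁻¹ * y := by group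
          _ = z * y := by rw [hz']
      rw [h.cx] at hcomm
      exact zpow_eq_one_of_mem h.ox h3 hcomm z.2
  rw [hfix, ← Nat.card_eq_fintype_card] at hmod
  exact hmod

/-- **B6b**, with the statements of B6a (for `Z`) and B3a as hypotheses. -/
theorem exists_small_aux (h : Hyp G x t) (D : Data G x t) (Z : Subgroup G) (hZ : IsSig x Z)
    (hodd : Odd (Nat.card Z)) (hZ1 : Z ≠ ⊥)
    (hB6a : ∃ k : ℕ, ∑ᶠ b : Z, (D.θ : G → ℂ) (b : G) = (((3 * k + 1) * Nat.card Z : ℕ) : ℂ))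
    (hB3a : ∀ g : G, ¬ 3 ∣ orderOf g → ∃ β : ℤ, (D.θ : G → ℂ) g = β) :
    ∃ v ∈ Z, v ≠ 1 ∧ ∃ β : ℤ, (D.θ : G → ℂ) v = β ∧
      6 * ((D.d : ℤ) - β) ≤ 7 * ((D.d : ℤ) - 1) := by
  classical
  have hmod := card_sig_mod_three h Z hZ
  obtain ⟨h3, hx⟩ := hZ
  have : Fintype Z := Fintype.ofFinite Z
  -- `|Z| ≥ 7`
  have hne1 : Nat.card Z ≠ 1 := by
    intro h1
    exact hZ1 (Subgroup.card_eq_one.1 h1)
  have hge : 7 ≤ Nat.card Z := by
    obtain ⟨j, hj⟩ := hodd
    omega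
  -- the integers `β v`
  have hreg : ∀ v : Z, ¬ 3 ∣ orderOf (v : G) := by
    intro v hdvd
    exact h3 (hdvd.trans (Subgroup.orderOf_dvd_natCard Z v.2))
  choose β hβ using fun v : Z => hB3a (v : G) (hreg v)
  obtain ⟨k, hk⟩ := hB6a
  rw [finsum_eq_sum_of_fintype] at hk
  have hsumβ : ∑ v : Z, β v = ((3 * k + 1) * Nat.card Z : ℕ) := by
    have : ((∑ v : Z, β v : ℤ) : ℂ) = (((3 * k + 1) * Nat.card Z : ℕ) : ℂ) := by
      rw [← hk]
      push_cast
      apply Finset.sum_congr rfl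
      intro v _
      rw [hβ v]
    exact_mod_cast this
  have hβ1 : β 1 = D.d := by
    have := hβ 1
    rw [show ((1 : Z) : G) = 1 from rfl, D.θ_one] at this
    exact_mod_cast this.symm
  by_contra hcon
  push Not at hcon
  have hbig : ∀ v : Z, v ≠ 1 → 7 * ((D.d : ℤ) - 1) + 1 ≤ 6 * ((D.d : ℤ) - β v) := by
    intro v hv
    have hv' : (v : G) ≠ 1 := fun h0 => hv (Subtype.ext h0)
    have := hcon v v.2 hv' (β v) (hβ v)
    omega
  have hle : ∑ v : Z, (if v = 1 then (0 : ℤ) else 7 * ((D.d : ℤ) - 1) + 1) ≤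
      ∑ v : Z, 6 * ((D.d : ℤ) - β v) := by
    apply Finset.sum_le_sum
    intro v _
    by_cases hv : v = 1
    · rw [if_pos hv, hv, hβ1]
      simp
    · rw [if_neg hv]
      exact hbig v hv
  have hL : ∑ v : Z, (if v = 1 then (0 : ℤ) else 7 * ((D.d : ℤ) - 1) + 1) =
      ((Nat.card Z : ℤ) - 1) * (7 * ((D.d : ℤ) - 1) + 1) := by
    have : ∀ v : Z, (if v = 1 then (0 : ℤ) else 7 * ((D.d : ℤ) - 1) + 1) =
        (7 * ((D.d : ℤ) - 1) + 1) - (if v = 1 then 7 * ((D.d : ℤ) - 1) + 1 else 0) := by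
      intro v
      split_ifs <;> ring
    simp_rw [this]
    rw [Finset.sum_sub_distrib, Finset.sum_const, Finset.card_univ, Finset.sum_ite_eq' ,
      Nat.card_eq_fintype_card]
    simp
    ring
  have hR : ∑ v : Z, 6 * ((D.d : ℤ) - β v) =
      6 * ((Nat.card Z : ℤ) * D.d - ((3 * k + 1) * Nat.card Z : ℕ)) := by
    rw [← Finset.mul_sum, Finset.sum_sub_distrib, hsumβ, Finset.sum_const, Finset.card_univ,
      Nat.card_eq_fintype_card]
    simp
  rw [hL, hR] at hle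
  have hd : (4 : ℤ) ≤ D.d := by exact_mod_cast D.d_ge
  have hN : (7 : ℤ) ≤ Nat.card Z := by exact_mod_cast hge
  push_cast at hle
  have hk0 : (0 : ℤ) ≤ k := Int.natCast_nonneg k
  nlinarith [mul_nonneg hk0 (by linarith : (0 : ℤ) ≤ (Nat.card Z : ℤ)),
    mul_nonneg (by linarith : (0 : ℤ) ≤ (D.d : ℤ) - 1) (by linarith : (0 : ℤ) ≤ (Nat.card Z : ℤ) - 7)]

/-- **B6c**, with the statements of B6b (for `Z`), B3c and B3d as hypotheses. -/
theorem card_le_of_central_aux (D : Data G x t) (A Z : Subgroup G)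
    (hZ : IsSig x Z) (hcomm : ∀ z ∈ Z, ∀ a ∈ A, z * a = a * z)
    (hB6b : ∃ v ∈ Z, v ≠ 1 ∧ ∃ β : ℤ, (D.θ : G → ℂ) v = β ∧
      6 * ((D.d : ℤ) - β) ≤ 7 * ((D.d : ℤ) - 1))
    (hB3c : ∀ g : G, ¬ 3 ∣ orderOf g → g ≠ 1 → ∀ β : ℤ, (D.θ : G → ℂ) g = β →
      (Nat.card (Subgroup.centralizer ({g} : Set G)) : ℤ) ∣ D.m * ((D.d : ℤ) - β))
    (hB3d : ∀ g : G, ¬ 3 ∣ orderOf g → g ≠ 1 → ∀ β : ℤ, (D.θ : G → ℂ) g = β → β < D.d) :
    6 * Nat.card A ≤ 7 * D.m * (D.d - 1) := by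
  obtain ⟨v, hvZ, hv1, β, hβ, hle⟩ := hB6b
  have hreg : ¬ 3 ∣ orderOf v := by
    intro hdvd
    exact hZ.1 (hdvd.trans (Subgroup.orderOf_dvd_natCard Z hvZ))
  have hdvd := hB3c v hreg hv1 β hβ
  have hlt := hB3d v hreg hv1 β hβ
  have hAle : A ≤ Subgroup.centralizer ({v} : Set G) := by
    intro a ha
    rw [Subgroup.mem_centralizer_iff]
    intro y hy
    rw [Set.mem_singleton_iff] at hy
    subst hy
    exact hcomm y hvZ a ha
  have hcard : Nat.card A ≤ Nat.card (Subgroup.centralizer ({v} : Set G)) :=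
    Subgroup.card_le_of_le hAle
  have hm : (0 : ℤ) < D.m := by exact_mod_cast D.m_pos
  have hpos : (0 : ℤ) < D.m * ((D.d : ℤ) - β) := mul_pos hm (by linarith)
  have hCle : (Nat.card (Subgroup.centralizer ({v} : Set G)) : ℤ) ≤ D.m * ((D.d : ℤ) - β) :=
    Int.le_of_dvd hpos hdvd
  have hd : 4 ≤ D.d := D.d_ge
  have hcast : ((D.d - 1 : ℕ) : ℤ) = (D.d : ℤ) - 1 := by
    rw [Nat.cast_sub (by omega)]
    simp
  have hfin : (6 * (Nat.card A : ℤ)) ≤ 7 * (D.m : ℤ) * ((D.d : ℤ) - 1) := by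
    have h1 : (Nat.card A : ℤ) ≤ D.m * ((D.d : ℤ) - β) := by
      have : (Nat.card A : ℤ) ≤ Nat.card (Subgroup.centralizer ({v} : Set G)) := by
        exact_mod_cast hcard
      linarith
    nlinarith [mul_le_mul_of_nonneg_left hle hm.le]
  have : ((6 * Nat.card A : ℕ) : ℤ) ≤ ((7 * D.m * (D.d - 1) : ℕ) : ℤ) := by
    push_cast
    rw [hcast]
    exact hfin
  exact_mod_cast this

end Cfsg.Agent.Lib.Helper32_FT3_B6aux
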