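import Mathlib
import Cfsg.Prelude.Def_Characters
import Cfsg.Agent.Lib.Helper80_CharBasic
import Cfsg.Agent.Lib.Helper1_FT3Defs
import Cfsg.Agent.Lib.Helper61_FT3_S2
import Cfsg.Agent.Lib.Helper32_FT3_B6aux

/-!
# S3331 package B6a (helper1's market): `⟨θ|_B, 1_B⟩ = 3k+1` for every signalizer `B`
-/

set_option autoImplicit false

namespace Cfsg.Agent.Lib.Helper32_FT3_B6a

open Cfsg Cfsg.Agent.Lib.Helper80_CharBasic Cfsg.Agent.Lib.Helper1_FT3Defs

open scoped ComplexConjugate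

variable {G : Type*} [Group G] [Finite G] {x t : G}

/-- PKG B6a = (C5). `⟨θ|_B, 1_B⟩ = 3k+1` for every `x`-invariant `3'`-subgroup `B`. -/
theorem sum_theta_sig (h : Hyp G x t) (D : Data G x t) (B : Subgroup G) (hB : IsSig x B) :
    ∃ k : ℕ, ∑ᶠ b : B, (D.θ : G → ℂ) (b : G) = (((3 * k + 1) * Nat.card B : ℕ) : ℂ) :=
  Cfsg.Agent.Lib.Helper32_FT3_B6aux.sum_theta_sig_aux h D B hB
    (fun b hb => Cfsg.Agent.Lib.Helper61_FT3_S2.order_mul_of_sig h B hB b hb)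

end Cfsg.Agent.Lib.Helper32_FT3_B6a
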