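import Mathlib
import Cfsg.Prelude.Def_Characters
import Cfsg.Agent.Lib.Helper80_CharBasic
import Cfsg.Agent.Lib.Helper1_FT3Defs
import Cfsg.Agent.Lib.Helper1_FT3_B3ab
import Cfsg.Agent.Lib.Helper32_FT3_B6a

/-!
# S3331 package B6b (helper1's market): a signalizer `Z ≠ 1` of odd order contains `v ≠ 1` with
`6 (d - θ(v)) ≤ 7 (d - 1)`
-/

set_option autoImplicit false

namespace Cfsg.Agent.Lib.Helper32_FT3_B6b

open Cfsg Cfsg.Agent.Lib.Helper80_CharBasic Cfsg.Agent.Lib.Helper1_FT3Defs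

open scoped ComplexConjugate

variable {G : Type*} [Group G] [Finite G] {x t : G}

/-- PKG B6b. An `x`-invariant `3'`-subgroup `Z ≠ 1` of odd order contains `v ≠ 1` with
`6 (d - θ(v)) ≤ 7 (d - 1)`. -/
theorem exists_small (h : Hyp G x t) (D : Data G x t) (Z : Subgroup G) (hZ : IsSig x Z)
    (hodd : Odd (Nat.card Z)) (hZ1 : Z ≠ ⊥) :
    ∃ v ∈ Z, v ≠ 1 ∧ ∃ β : ℤ, (D.θ : G → ℂ) v = β ∧ 6 * ((D.d : ℤ) - β) ≤ 7 * ((D.d : ℤ) - 1) :=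
  Cfsg.Agent.Lib.Helper32_FT3_B6aux.exists_small_aux h D Z hZ hodd hZ1
    (Cfsg.Agent.Lib.Helper32_FT3_B6a.sum_theta_sig h D Z hZ)
    (fun g hg => by
      obtain ⟨β, hβ, -⟩ := Cfsg.Agent.Lib.Helper1_FT3_B3ab.reg_values h D g hg
      exact ⟨β, hβ⟩)

end Cfsg.Agent.Lib.Helper32_FT3_B6b
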