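import Mathlib
import Cfsg.Prelude.Def_Characters
import Cfsg.Agent.Lib.Helper80_CharBasic
import Cfsg.Agent.Lib.Helper1_FT3Defs
import Cfsg.Agent.Lib.Helper30_SelfCent3

/-!
# S3331-B4f (helper7, for helper1's S3331-B market)

The basic FACT of the self-centralizing order 3 situation: every element `y` of order 3 has
`C_G(y) = ⟨y⟩` (all such are conjugate to `x`), hence no element of order 3 commutes with an
involution; in particular `3 ∤ |C(t)|`.
-/

set_option autoImplicit false
set_option linter.unusedSectionVars false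

namespace Cfsg.Agent.Lib.Helper7_FT3_B4f

open Cfsg Cfsg.Agent.Lib.Helper80_CharBasic Cfsg.Agent.Lib.Helper1_FT3Defs

variable {G : Type*} [Group G] [Finite G] {x t : G}

/-- an element commuting with `x` lies in `⟨x⟩`. -/
theorem mem_zpowers_of_comm (h : Hyp G x t) {z : G} (hz : z * x = x * z) :
    z ∈ Subgroup.zpowers x := by
  rw [← h.cx, Subgroup.mem_centralizer_iff]
  intro y hy
  rw [Set.mem_singleton_iff] at hy
  rw [hy]
  exact hz.symm

/-- FACT: every element of order three is self-centralizing. -/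
theorem mem_zpowers_of_comm_of_order_three (h : Hyp G x t) {y : G} (hy : orderOf y = 3) {z : G}
    (hz : z * y = y * z) : z ∈ Subgroup.zpowers y := by
  obtain ⟨c, hc⟩ := isConj_iff.mp
    (Cfsg.Agent.Lib.Helper30_SelfCent3.isConj_of_order_three h.perf h.ox h.cx hy)
  -- `y = c x c⁻¹`
  have h1 : (c⁻¹ * z * c) * x = x * (c⁻¹ * z * c) := by
    have hx : x = c⁻¹ * y * c := by rw [← hc]; group
    calc (c⁻¹ * z * c) * x = c⁻¹ * (z * y) * c := by rw [hx]; group
      _ = c⁻¹ * (y * z) * c := by rw [hz]
      _ = x * (c⁻¹ * z * c) := by rw [hx]; group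
  obtain ⟨k, hk⟩ := Subgroup.mem_zpowers_iff.mp (mem_zpowers_of_comm h h1)
  refine Subgroup.mem_zpowers_iff.mpr ⟨k, ?_⟩
  have h2 : z = c * (c⁻¹ * z * c) * c⁻¹ := by group
  rw [h2, ← hk, ← hc]
  simp [conj_zpow]

/-- FACT: an element commuting with an element of order three has order dividing three. -/
theorem orderOf_dvd_three_of_comm (h : Hyp G x t) {y : G} (hy : orderOf y = 3) {z : G}
    (hz : z * y = y * z) : orderOf z ∣ 3 := by
  rw [← hy]
  exact orderOf_dvd_of_mem_zpowers (mem_zpowers_of_comm_of_order_three h hy hz)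

/-- FACT: no element of order three commutes with an involution. -/
theorem not_comm_of_orders (h : Hyp G x t) {y s : G} (hy : orderOf y = 3) (hs : orderOf s = 2) :
    s * y ≠ y * s := by
  intro hc
  have := orderOf_dvd_three_of_comm h hy hc
  rw [hs] at this
  omega

/-- PKG B4f. `3 ∤ |C(t)|`. -/
theorem three_not_dvd_cent (h : Hyp G x t) :
    ¬ 3 ∣ Nat.card (Subgroup.centralizer ({t} : Set G)) := by
  intro h3
  have : Fact (Nat.Prime 3) := ⟨Nat.prime_three⟩
  obtain ⟨y, hy⟩ := exists_prime_orderOf_dvd_card' 3 h3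
  have hy' : orderOf (y : G) = 3 := by rw [Subgroup.orderOf_coe]; exact hy
  have hcomm : t * (y : G) = (y : G) * t := by
    have := Subgroup.mem_centralizer_iff.mp y.2 t (Set.mem_singleton t)
    exact this
  exact not_comm_of_orders h hy' h.ot hcomm

end Cfsg.Agent.Lib.Helper7_FT3_B4f
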