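import Mathlib
import Cfsg.Prelude.Def_Characters
import Cfsg.Agent.Lib.Helper80_CharBasic
import Cfsg.Agent.Lib.Helper1_FT3Defs
import Cfsg.Agent.Lib.Helper7_FT3_B4f
import Cfsg.Agent.Lib.Helper1_FT3_B3ab

/-!
# S3331-B3c (helper7, for helper1's S3331-B market)

For a 3-regular `g ≠ 1` the centralizer `C_G(g)` acts freely by conjugation on
`T_g = {s : o(s) = 2 ∧ o(s g) = 3}`: if `z ∈ C(g)` fixes `s` then `z` commutes with `y = s g` of
order three, so `z ∈ ⟨y⟩`; if `z ≠ 1` it has order three and commutes with the involution `s`,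
which is impossible.  Hence `|C(g)|` divides `|T_g| = m (d - θ(g))` (B3b).
-/

set_option autoImplicit false
set_option linter.unusedSectionVars false

namespace Cfsg.Agent.Lib.Helper7_FT3_B3c

open Cfsg Cfsg.Agent.Lib.Helper80_CharBasic Cfsg.Agent.Lib.Helper1_FT3Defs

open scoped ComplexConjugate

variable {G : Type*} [Group G] [Finite G] {x t : G}

/-- conjugation preserves the order -/
theorem orderOf_conj'' (z y : G) : orderOf (z * y * z⁻¹) = orderOf y := by
  have h := orderOf_injective (MulAut.conj z : G ≃* G).toMonoidHom (MulEquiv.injective _) y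
  simpa [MulAut.conj_apply] using h

/-- the set `T_g` of involutions `s` with `s g` of order three -/
abbrev TSet (g : G) : Type _ := {s : G // orderOf s = 2 ∧ orderOf (s * g) = 3}

/-- the conjugation action of `C_G(g)` on `T_g` -/
@[reducible] def centAction (g : G) : MulAction (Subgroup.centralizer ({g} : Set G)) (TSet g) where
  smul z s := ⟨(z : G) * s.1 * (z : G)⁻¹, by
    have hz : g * (z : G) = (z : G) * g :=
      Subgroup.mem_centralizer_iff.mp z.2 g (Set.mem_singleton g)
    refine ⟨by rw [orderOf_conj'']; exact s.2.1, ?_⟩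
    have h1 : (z : G) * s.1 * (z : G)⁻¹ * g = (z : G) * (s.1 * g) * (z : G)⁻¹ := by
      have : (z : G)⁻¹ * g = g * (z : G)⁻¹ := by
        calc (z : G)⁻¹ * g = (z : G)⁻¹ * (g * (z : G)) * (z : G)⁻¹ := by group
          _ = (z : G)⁻¹ * ((z : G) * g) * (z : G)⁻¹ := by rw [hz]
          _ = g * (z : G)⁻¹ := by group
      calc (z : G) * s.1 * (z : G)⁻¹ * g = (z : G) * s.1 * ((z : G)⁻¹ * g) := by group
        _ = (z : G) * s.1 * (g * (z : G)⁻¹) := by rw [this]
        _ = (z : G) * (s.1 * g) * (z : G)⁻¹ := by group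
    rw [h1, orderOf_conj'']
    exact s.2.2⟩
  one_smul s := by
    apply Subtype.ext
    show ((1 : Subgroup.centralizer ({g} : Set G)) : G) * s.1 * ((1 : Subgroup.centralizer ({g} : Set G)) : G)⁻¹ = s.1
    simp
  mul_smul z w s := by
    apply Subtype.ext
    show ((z * w : Subgroup.centralizer ({g} : Set G)) : G) * s.1 *
      ((z * w : Subgroup.centralizer ({g} : Set G)) : G)⁻¹ =
      (z : G) * ((w : G) * s.1 * (w : G)⁻¹) * (z : G)⁻¹
    push_cast
    group

theorem centAction_smul_val (g : G) (z : Subgroup.centralizer ({g} : Set G)) (s : TSet g) :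
    ((centAction g).smul z s).1 = (z : G) * s.1 * (z : G)⁻¹ := rfl

/-- the action is free -/
theorem centAction_free (h : Hyp G x t) (g : G) (s : TSet g) :
    let _ := centAction g
    MulAction.stabilizer (Subgroup.centralizer ({g} : Set G)) s = ⊥ := by
  let _ := centAction g
  rw [eq_bot_iff]
  intro z hz
  rw [MulAction.mem_stabilizer_iff] at hz
  have hz1 : (z : G) * s.1 * (z : G)⁻¹ = s.1 := congrArg Subtype.val hz
  have hzs : (z : G) * s.1 = s.1 * (z : G) := by
    calc (z : G) * s.1 = ((z : G) * s.1 * (z : G)⁻¹) * (z : G) := by group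
      _ = s.1 * (z : G) := by rw [hz1]
  have hzg : g * (z : G) = (z : G) * g :=
    Subgroup.mem_centralizer_iff.mp z.2 g (Set.mem_singleton g)
  have hzy : (z : G) * (s.1 * g) = (s.1 * g) * (z : G) := by
    calc (z : G) * (s.1 * g) = ((z : G) * s.1) * g := by group
      _ = s.1 * (z : G) * g := by rw [hzs]
      _ = s.1 * ((z : G) * g) := by group
      _ = s.1 * (g * (z : G)) := by rw [hzg]
      _ = (s.1 * g) * (z : G) := by group
  have hdvd := Cfsg.Agent.Lib.Helper7_FT3_B4f.orderOf_dvd_three_of_comm h s.2.2 hzy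
  rw [Subgroup.mem_bot]
  rcases (Nat.dvd_prime Nat.prime_three).mp hdvd with h1 | h3
  · apply Subtype.ext
    exact orderOf_eq_one_iff.mp h1
  · exfalso
    exact Cfsg.Agent.Lib.Helper7_FT3_B4f.not_comm_of_orders h h3 s.2.1 hzs.symm

/-- `|C_G(g)|` divides `|T_g|` -/
theorem card_cent_dvd_card_TSet (h : Hyp G x t) (g : G) :
    Nat.card (Subgroup.centralizer ({g} : Set G)) ∣ Nat.card (TSet g) := by
  let _ := centAction g
  have e := MulAction.selfEquivOrbitsQuotientProd (G := Subgroup.centralizer ({g} : Set G))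
    (X := TSet g) (fun s => centAction_free h g s)
  rw [Nat.card_congr e, Nat.card_prod]
  exact Dvd.intro_left _ rfl

/-- PKG B3c. `C_G(g)` acts freely on that set: `|C_G(g)|` divides `m (d - θ(g))`. -/
theorem cent_dvd (h : Hyp G x t) (D : Data G x t) (g : G) (hg : ¬ 3 ∣ orderOf g) (hg1 : g ≠ 1)
    (β : ℤ) (hβ : (D.θ : G → ℂ) g = β) :
    (Nat.card (Subgroup.centralizer ({g} : Set G)) : ℤ) ∣ D.m * ((D.d : ℤ) - β) := by
  rw [← Cfsg.Agent.Lib.Helper1_FT3_B3ab.tau_card h D g hg hg1 β hβ]
  exact Int.natCast_dvd_natCast.mpr (card_cent_dvd_card_TSet h g)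

end Cfsg.Agent.Lib.Helper7_FT3_B3c
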