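import Mathlib
import Cfsg.Prelude.Def_Characters
import Cfsg.Agent.Lib.Helper80_CharBasic
import Cfsg.Agent.Lib.Helper1_FT3Defs
import Cfsg.Agent.Lib.Helper62_S4427_Final

/-!
# S3331-B3d (helper7, for helper1's S3331-B market)

`θ` is faithful when `G` is simple: `θ(g) < d` for `g ≠ 1`.
-/

set_option autoImplicit false
set_option linter.unusedSectionVars false
set_option linter.unusedVariables false

namespace Cfsg.Agent.Lib.Helper7_FT3_B3d

open Cfsg Cfsg.Agent.Lib.Helper80_CharBasic Cfsg.Agent.Lib.Helper1_FT3Defs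

open scoped ComplexConjugate

variable {G : Type*} [Group G] [Finite G] {x t : G}

/-- PKG B3d. `θ` is faithful when `G` is simple: `θ(g) < d` for `g ≠ 1` (3-regular). -/
theorem beta_lt [IsSimpleGroup G] (h : Hyp G x t) (D : Data G x t) (g : G)
    (hg : ¬ 3 ∣ orderOf g) (hg1 : g ≠ 1) (β : ℤ) (hβ : (D.θ : G → ℂ) g = β) : β < D.d := by
  obtain ⟨n, hn1, hnb⟩ := Cfsg.Agent.Lib.Helper62_S4427_Final.irr_bound D.θ
  have hnd : n = D.d := by
    have : (n : ℂ) = (D.d : ℂ) := by rw [← hn1, D.θ_one]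
    exact_mod_cast this
  subst hnd
  have hle : β ≤ (D.d : ℤ) := by
    have h1 := hnb g
    rw [hβ] at h1
    have h2 : ‖((β : ℤ) : ℂ)‖ = |(β : ℝ)| := by
      rw [show ((β : ℤ) : ℂ) = ((β : ℝ) : ℂ) by push_cast; rfl, Complex.norm_real, Real.norm_eq_abs]
    rw [h2] at h1
    have h3 : (β : ℝ) ≤ (D.d : ℝ) := le_trans (le_abs_self _) h1
    exact_mod_cast h3
  rcases lt_or_eq_of_le hle with hlt | heq
  · exact hlt
  · exfalso
    obtain ⟨N, hN, hmem⟩ := Cfsg.Agent.Lib.Helper62_S4427_Final.exists_ker D.θ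
    have hgN : g ∈ N := by
      rw [hmem, hβ, D.θ_one, heq]
      push_cast
      rfl
    have hNtop : N = ⊤ := by
      rcases hN.eq_bot_or_eq_top with hb | ht
      · exfalso
        rw [hb, Subgroup.mem_bot] at hgN
        exact hg1 hgN
      · exact ht
    have hxN : x ∈ N := by rw [hNtop]; exact Subgroup.mem_top x
    rw [hmem, D.θ_x, D.θ_one] at hxN
    have h4 : (1 : ℕ) = D.d := by exact_mod_cast hxN
    have := D.d_ge
    omega

end Cfsg.Agent.Lib.Helper7_FT3_B3d
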