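import Mathlib
import Cfsg.Prelude.Def_Characters
import Cfsg.Agent.Lib.Helper80_CharBasic
import Cfsg.Agent.Lib.Helper1_FT3Defs
import Cfsg.Agent.Lib.Helper7_FT3_B3c
import Cfsg.Agent.Lib.Helper7_FT3_B3d
import Cfsg.Agent.Lib.Helper32_FT3_B6b

/-!
# S3331 package B6c (helper1's market): size bound of (G3)

If `Z ≠ 1` is an `x`-invariant subgroup of odd order prime to 3, centralized by `A`, then
`6 |A| ≤ 7 m (d - 1)`.  Assembled from B6b (`exists_small`), B3c (`cent_dvd`) and B3d (`beta_lt`).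
-/

set_option autoImplicit false

namespace Cfsg.Agent.Lib.Helper32_FT3_B6c

open Cfsg Cfsg.Agent.Lib.Helper80_CharBasic Cfsg.Agent.Lib.Helper1_FT3Defs

open scoped ComplexConjugate

variable {G : Type*} [Group G] [Finite G] {x t : G}

/-- PKG B6c = size bound of (G3). If `Z ≠ 1` is an `x`-invariant subgroup of odd order, prime to 3,
centralized by `A`, then `6 |A| ≤ 7 m (d - 1)`. -/
theorem card_le_of_central [IsSimpleGroup G] (h : Hyp G x t) (D : Data G x t) (A Z : Subgroup G)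
    (hZ : IsSig x Z) (hodd : Odd (Nat.card Z)) (hZ1 : Z ≠ ⊥)
    (hcomm : ∀ z ∈ Z, ∀ a ∈ A, z * a = a * z) :
    6 * Nat.card A ≤ 7 * D.m * (D.d - 1) :=
  Cfsg.Agent.Lib.Helper32_FT3_B6aux.card_le_of_central_aux D A Z hZ hcomm
    (Cfsg.Agent.Lib.Helper32_FT3_B6b.exists_small h D Z hZ hodd hZ1)
    (fun g hg hg1 β hβ => Cfsg.Agent.Lib.Helper7_FT3_B3c.cent_dvd h D g hg hg1 β hβ)
    (fun g hg hg1 β hβ => Cfsg.Agent.Lib.Helper7_FT3_B3d.beta_lt h D g hg hg1 β hβ)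

end Cfsg.Agent.Lib.Helper32_FT3_B6c
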