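import Mathlib
import Cfsg.Prelude.Def_Characters
import Cfsg.Agent.Lib.Helper80_CharBasic
import Cfsg.Agent.Lib.Helper1_FT3Defs
import Cfsg.Agent.Lib.Helper16_FT3_B4b

/-!
# S3331-B4c (helper7, for helper1's S3331-B market)

`w ≥ 1`: there is an `x`-invariant four-group.  If `w = 0` the `w`-formula (B4b) gives
`d² + 2d + (2d+1) a = 0`, so `(2d+1) ∣ 4(d²+2d) = (2d+1)(2d+3) - 3`, `(2d+1) ∣ 3`, against `d ≥ 4`.
-/

set_option autoImplicit false
set_option linter.unusedSectionVars false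

namespace Cfsg.Agent.Lib.Helper7_FT3_B4c

open Cfsg Cfsg.Agent.Lib.Helper80_CharBasic Cfsg.Agent.Lib.Helper1_FT3Defs

open scoped ComplexConjugate

variable {G : Type*} [Group G] [Finite G] {x t : G}

/-- arithmetic core of B4c: the `w`-formula forces `w ≥ 1`. -/
theorem w_pos_of_formula (D : Data G x t) (w : ℕ)
    (hw : (3 : ℤ) * (w : ℤ) * ((D.d : ℤ) - D.a) =
      D.m * ((D.d : ℤ) ^ 2 + 2 * D.d + (2 * D.d + 1) * D.a)) : 0 < w := by
  rcases Nat.eq_zero_or_pos w with h0 | hpos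
  · exfalso
    subst h0
    have hm : (D.m : ℤ) ≠ 0 := by
      have := D.m_pos
      exact_mod_cast this.ne'
    have h1 : (D.d : ℤ) ^ 2 + 2 * D.d + (2 * D.d + 1) * D.a = 0 := by
      have : (D.m : ℤ) * ((D.d : ℤ) ^ 2 + 2 * D.d + (2 * D.d + 1) * D.a) = 0 := by
        rw [← hw]; simp
      rcases mul_eq_zero.mp this with h | h
      · exact absurd h hm
      · exact h
    have h2 : (2 * (D.d : ℤ) + 1) ∣ 3 :=
      ⟨2 * (D.d : ℤ) + 3 + 4 * D.a, by linear_combination (-4 : ℤ) * h1⟩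
    have h3 : 2 * (D.d : ℤ) + 1 ≤ 3 := Int.le_of_dvd (by norm_num) h2
    have h4 : (4 : ℤ) ≤ D.d := by exact_mod_cast D.d_ge
    omega
  · exact hpos

/-- PKG B4c. `w ≥ 1`. -/
theorem w_pos (h : Hyp G x t) (D : Data G x t) : 0 < Nat.card (fourSet x) :=
  w_pos_of_formula D _ (Cfsg.Agent.Lib.Helper16_FT3_B4b.w_formula h D)

end Cfsg.Agent.Lib.Helper7_FT3_B4c
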