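import Mathlib
import Cfsg.Prelude.Def_Characters
import Cfsg.Agent.Lib.Helper80_CharBasic
import Cfsg.Agent.Lib.Helper80_CharComplete
import Cfsg.Agent.Lib.Helper1_FT3Defs

/-!
# S3331-B4e (architect helper1/helper6): `3a ≤ d - 4`

The operator `E = (1/6) (1 + X + X²) (1 - T)` (`X = ρ x`, `T = ρ t`, `ρ` affording `φ`) is an
idempotent, so its trace `(d - 3a - 4)/6` is a natural number.
-/

set_option autoImplicit false

namespace Cfsg.Agent.Lib.Helper82_S3331_B4e

open Cfsg Cfsg.Agent.Lib.Helper80_CharBasic Cfsg.Agent.Lib.Helper1_FT3Defs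

open scoped ComplexConjugate

/-- ring-theoretic core: the sign idempotent of `S₃` -/
theorem idem_core {A : Type*} [Ring A] [Algebra ℂ A] (X T : A) (hX : X * X * X = 1)
    (hT : T * T = 1) (hTX : T * X = X * X * T) :
    IsIdempotentElem ((6 : ℂ)⁻¹ • ((1 + X + X * X) * (1 - T))) := by
  have hX' : X * (X * X) = 1 := by rw [← mul_assoc]; exact hX
  have hXS : X * (1 + X + X * X) = 1 + X + X * X := by
    rw [mul_add, mul_add, mul_one, hX']; abel
  have hSS : (1 + X + X * X) * (1 + X + X * X) = (3 : ℂ) • (1 + X + X * X) := by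
    have : (1 + X + X * X) * (1 + X + X * X)
        = (1 + X + X * X) + X * (1 + X + X * X) + X * (X * (1 + X + X * X)) := by
      rw [add_mul, add_mul, one_mul, mul_assoc]
    rw [this, hXS, hXS]
    module
  have hTXX : T * (X * X) = X * T := by
    rw [← mul_assoc, hTX, mul_assoc, mul_assoc, hTX, ← mul_assoc, ← mul_assoc, ← mul_assoc]
    rw [show X * X * X * X = X by rw [hX, one_mul]]
  have hTS : T * (1 + X + X * X) = (1 + X + X * X) * T := by
    rw [mul_add, mul_add, mul_one, hTX, hTXX, add_mul, add_mul, one_mul]; abel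
  have hUS : (1 - T) * (1 + X + X * X) = (1 + X + X * X) * (1 - T) := by
    rw [sub_mul, mul_sub, one_mul, mul_one, hTS]
  have hUU : (1 - T) * (1 - T) = (2 : ℂ) • (1 - T) := by
    simp only [sub_mul, mul_sub, one_mul, mul_one, hT]
    module
  unfold IsIdempotentElem
  rw [smul_mul_smul_comm]
  have : (1 + X + X * X) * (1 - T) * ((1 + X + X * X) * (1 - T))
      = (6 : ℂ) • ((1 + X + X * X) * (1 - T)) := by
    calc (1 + X + X * X) * (1 - T) * ((1 + X + X * X) * (1 - T))
        = (1 + X + X * X) * ((1 - T) * (1 + X + X * X)) * (1 - T) := by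
          simp only [mul_assoc]
      _ = (1 + X + X * X) * (1 + X + X * X) * ((1 - T) * (1 - T)) := by
          rw [hUS]; simp only [mul_assoc]
      _ = (6 : ℂ) • ((1 + X + X * X) * (1 - T)) := by
          rw [hSS, hUU, smul_mul_smul_comm]; norm_num
  rw [this, smul_smul]
  congr 1
  norm_num

variable {G : Type*} [Group G] {x t : G}

theorem not_isConj_t_x (h : Hyp G x t) : ¬ IsConj t x := by
  intro hc
  obtain ⟨c, hc⟩ := isConj_iff.mp hc
  have hs : SemiconjBy c t x := by
    unfold SemiconjBy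
    rw [← hc]; group
  have := hs.orderOf_eq
  rw [h.ot, h.ox] at this
  omega

/-- `φ(t) = a + 1`. -/
theorem phi_t [Finite G] (h : Hyp G x t) (D : Data G x t) : (D.φ : G → ℂ) t = (D.a : ℂ) + 1 := by
  have h0 := (Cfsg.Agent.Lib.Helper80_CharComplete.second_orthogonality t x).2 (not_isConj_t_x h)
  have h1 := D.expand (fun χ => (χ : G → ℂ) t)
  beta_reduce at h1
  rw [h0] at h1
  have h2 : ((oneIrr G : IrrCharacter G) : G → ℂ) t = 1 := rfl
  rw [h2, D.θ_t] at h1
  linear_combination h1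

theorem t_inv (h : Hyp G x t) : t⁻¹ = t := by
  have : t ^ 2 = 1 := by rw [← h.ot]; exact pow_orderOf_eq_one t
  rw [inv_eq_iff_mul_eq_one, ← sq]; exact this

theorem x_cube (h : Hyp G x t) : x * x * x = 1 := by
  have : x ^ 3 = 1 := by rw [← h.ox]; exact pow_orderOf_eq_one x
  calc x * x * x = x ^ 3 := by simp [pow_succ]
    _ = 1 := this

theorem tx_eq (h : Hyp G x t) : t * x = x * x * t := by
  have h1 := h.inv
  have hx : x⁻¹ = x * x := by
    rw [inv_eq_iff_mul_eq_one]; rw [← mul_assoc]; exact x_cube h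
  rw [hx] at h1
  calc t * x = (t * x * t⁻¹) * t := by group
    _ = x * x * t := by rw [h1]

/-- `x^i t` is an involution -/
theorem orderOf_xt (h : Hyp G x t) : orderOf (x * t) = 2 := by
  have hne : x * t ≠ 1 := by
    intro he
    have : x = t⁻¹ := eq_inv_of_mul_eq_one_left he
    have ho : orderOf x = orderOf t := by rw [this, orderOf_inv]
    rw [h.ox, h.ot] at ho; omega
  have hsq : (x * t) ^ 2 = 1 := by
    have ht := t_inv h
    have h1 := h.inv
    rw [ht] at h1
    calc (x * t) ^ 2 = x * (t * x * t) := by rw [sq]; group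
      _ = 1 := by rw [h1]; group
  exact orderOf_eq_prime hsq hne

theorem orderOf_xxt (h : Hyp G x t) : orderOf (x * x * t) = 2 := by
  have hne : x * x * t ≠ 1 := by
    intro he
    have : x * x = t⁻¹ := eq_inv_of_mul_eq_one_left he
    have hx : x⁻¹ = x * x := by
      rw [inv_eq_iff_mul_eq_one]; rw [← mul_assoc]; exact x_cube h
    have ho : orderOf x = orderOf t := by
      rw [← orderOf_inv x, hx, this, orderOf_inv]
    rw [h.ox, h.ot] at ho; omega
  have hsq : (x * x * t) ^ 2 = 1 := by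
    have ht := t_inv h
    have h1 := h.inv
    rw [ht] at h1
    calc (x * x * t) ^ 2 = x * x * (t * x * t) * (t⁻¹ * x * t) := by rw [sq]; group
      _ = 1 := by rw [ht, h1]; group
  exact orderOf_eq_prime hsq hne

theorem a_le [Finite G] (h : Hyp G x t) (D : Data G x t) : 3 * D.a ≤ (D.d : ℤ) - 4 := by
  obtain ⟨n, ρ, -, hρ⟩ := D.φ.2
  have hval : ∀ g : G, LinearMap.trace ℂ (Fin n → ℂ) (ρ g) = (D.φ : G → ℂ) g := by
    intro g; rw [← hρ]; rfl
  -- the idempotent
  have hX : ρ x * ρ x * ρ x = 1 := by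
    rw [← map_mul, ← map_mul, x_cube h, map_one]
  have hT : ρ t * ρ t = 1 := by
    rw [← map_mul]
    have : t * t = 1 := by
      have := t_inv h
      rw [inv_eq_iff_mul_eq_one] at this; exact this
    rw [this, map_one]
  have hTX : ρ t * ρ x = ρ x * ρ x * ρ t := by
    rw [← map_mul, ← map_mul, ← map_mul, tx_eq h]
  have hid := idem_core (ρ x) (ρ t) hX hT hTX
  have hproj := LinearMap.IsIdempotentElem.isProj_range _ hid
  have htr := hproj.trace
  -- compute the trace
  have hφt := phi_t h D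
  have hφxt : (D.φ : G → ℂ) (x * t) = (D.a : ℂ) + 1 := by
    rw [← hφt]; exact (irr_isConj D.φ (D.allconj _ (orderOf_xt h))).symm
  have hφxxt : (D.φ : G → ℂ) (x * x * t) = (D.a : ℂ) + 1 := by
    rw [← hφt]; exact (irr_isConj D.φ (D.allconj _ (orderOf_xxt h))).symm
  have hφxx : (D.φ : G → ℂ) (x * x) = -1 := by
    have hx : x⁻¹ = x * x := by
      rw [inv_eq_iff_mul_eq_one]; rw [← mul_assoc]; exact x_cube h
    rw [← hx, ← h.inv, irr_conj, D.φ_x]
  have hexp : (1 + ρ x + ρ x * ρ x) * (1 - ρ t)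
      = ρ 1 + ρ x + ρ (x * x) - ρ t - ρ (x * t) - ρ (x * x * t) := by
    rw [map_one, map_mul, map_mul, map_mul, map_mul]
    simp only [mul_sub, add_mul, mul_one, one_mul, mul_assoc]
    abel
  have htrE : LinearMap.trace ℂ (Fin n → ℂ) ((6 : ℂ)⁻¹ • ((1 + ρ x + ρ x * ρ x) * (1 - ρ t)))
      = (6 : ℂ)⁻¹ * ((D.d : ℂ) + 1 + -1 + -1 - ((D.a : ℂ) + 1) - ((D.a : ℂ) + 1)
        - ((D.a : ℂ) + 1)) := by
    rw [hexp, map_smul, map_sub, map_sub, map_sub, map_add, map_add, hval, hval, hval, hval, hval,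
      hval, D.φ_one, D.φ_x, hφxx, hφt, hφxt, hφxxt, smul_eq_mul]
  rw [htrE] at htr
  set k := Module.finrank ℂ ↥(LinearMap.range ((6 : ℂ)⁻¹ •
    ((1 + ρ x + ρ x * ρ x) * (1 - ρ t)))) with hk
  have hfin : ((D.d : ℤ) : ℂ) - 3 * (D.a : ℂ) - 4 = ((6 * (k : ℤ) : ℤ) : ℂ) := by
    push_cast
    linear_combination 6 * htr
  have hint : (D.d : ℤ) - 3 * D.a - 4 = 6 * (k : ℤ) := by
    have : (((D.d : ℤ) - 3 * D.a - 4 : ℤ) : ℂ) = ((6 * (k : ℤ) : ℤ) : ℂ) := by
      rw [← hfin]; push_cast; ring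
    exact_mod_cast this
  have hk0 : (0 : ℤ) ≤ (k : ℤ) := Int.natCast_nonneg k
  linarith

end Cfsg.Agent.Lib.Helper82_S3331_B4e
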