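import Mathlib
import Cfsg.Prelude.Def_Characters
import Cfsg.Agent.Lib.Helper80_CharBasic
import Cfsg.Agent.Lib.Helper1_FT3Defs

/-!
# S3331 package B4d, core (helper84)

`four_group_arith` with its two inputs (B4c: an `x`-invariant four-group exists; B6a: the inner
product of `θ` with the trivial character on a signalizer is `3k+1`) as explicit hypotheses.
-/

set_option autoImplicit false
set_option linter.unusedVariables false

namespace Cfsg.Agent.Lib.Helper84_FT3_B4dCore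

open Cfsg Cfsg.Agent.Lib.Helper80_CharBasic Cfsg.Agent.Lib.Helper1_FT3Defs

open scoped ComplexConjugate

variable {G : Type*} [Group G] [Finite G] {x t : G}

theorem four_group_arith_of (h : Hyp G x t) (D : Data G x t)
    (hw : 0 < Nat.card (fourSet x))
    (hsum : ∀ B : Subgroup G, IsSig x B →
      ∃ k : ℕ, ∑ᶠ b : B, (D.θ : G → ℂ) (b : G) = (((3 * k + 1) * Nat.card B : ℕ) : ℂ)) :
    (4 : ℤ) ∣ (D.d : ℤ) - D.a ∧ (12 : ℤ) ∣ (D.d : ℤ) + 3 * D.a - 4 ∧ 4 ≤ (D.d : ℤ) + 3 * D.a := by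
  classical
  obtain ⟨⟨⟨V, hV4, hVsq, hVx⟩⟩, -⟩ := Nat.card_pos_iff.mp hw
  have hsig : IsSig x V := ⟨by rw [hV4]; norm_num, hVx⟩
  obtain ⟨k, hk⟩ := hsum V hsig
  rw [hV4] at hk
  have : Fintype V := Fintype.ofFinite V
  have hcardV : Fintype.card V = 4 := by rw [← Nat.card_eq_fintype_card]; exact hV4
  -- the values of `θ` on `V`
  have hval : ∀ b : V, (D.θ : G → ℂ) (b : G) = (D.a : ℂ) + (if b = 1 then (D.d : ℂ) - D.a else 0) := by
    intro b
    by_cases hb : b = 1
    · rw [if_pos hb, hb, Subgroup.coe_one, D.θ_one]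
      ring
    · rw [if_neg hb, add_zero]
      have hb1 : (b : G) ≠ 1 := fun hh => hb (Subtype.ext hh)
      have hbsq : (b : G) * (b : G) = 1 := hVsq _ b.2
      have ho : orderOf (b : G) = 2 := by
        apply orderOf_eq_prime
        · rw [pow_two]; exact hbsq
        · exact hb1
      rw [← irr_isConj D.θ (D.allconj _ ho), D.θ_t]
  have hfin : ∑ᶠ b : V, (D.θ : G → ℂ) (b : G) = (D.d : ℂ) + 3 * D.a := by
    rw [finsum_eq_sum_of_fintype]
    rw [Finset.sum_congr rfl (fun b _ => hval b), Finset.sum_add_distrib, Finset.sum_const,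
      Finset.card_univ, hcardV, Finset.sum_ite_eq' Finset.univ (1 : V)]
    simp only [Finset.mem_univ, if_true, nsmul_eq_mul]
    push_cast
    ring
  rw [hfin] at hk
  have hint : (D.d : ℤ) + 3 * D.a = (3 * (k : ℤ) + 1) * 4 := by
    have h2 : (((D.d : ℤ) + 3 * D.a : ℤ) : ℂ) = (((3 * (k : ℤ) + 1) * 4 : ℤ) : ℂ) := by
      push_cast
      push_cast at hk
      exact hk
    exact_mod_cast h2
  refine ⟨?_, ?_, ?_⟩
  · have e : (D.d : ℤ) - D.a = 4 * (3 * (k : ℤ) + 1 - D.a) := by linarith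
    rw [e]
    exact dvd_mul_right _ _
  · have e : (D.d : ℤ) + 3 * D.a - 4 = 12 * (k : ℤ) := by linarith
    rw [e]
    exact dvd_mul_right _ _
  · have hk0 : (0 : ℤ) ≤ (k : ℤ) := Int.natCast_nonneg k
    linarith

end Cfsg.Agent.Lib.Helper84_FT3_B4dCore
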