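import Mathlib
import Cfsg.Agent.Lib.Helper1_FT3Defs
import Cfsg.Agent.Lib.Helper84_FT3_B4dCore
import Cfsg.Agent.Lib.Helper7_FT3_B4c
import Cfsg.Agent.Lib.Helper32_FT3_B6a

/-!
# S3331-B4d (helper1 market): `four_group_arith`, assembled from the core
(`Helper84_FT3_B4dCore.four_group_arith_of`) with B4c (`Helper7_FT3_B4c.w_pos`) and
B6a (`Helper32_FT3_B6a.sum_theta_sig`).
-/

set_option autoImplicit false

open Cfsg Cfsg.Agent.Lib.Helper1_FT3Defs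

namespace Cfsg.Agent.Lib.Helper84_FT3_B4d

variable {G : Type*} [Group G] [Finite G] {x t : G}

/-- PKG B4d. `θ` restricted to an `x`-invariant four-group / to `A4`: `4 ∣ d - a`,
`12 ∣ d + 3a - 4`, `d + 3a ≥ 4`. -/
theorem four_group_arith (h : Hyp G x t) (D : Data G x t) :
    (4 : ℤ) ∣ (D.d : ℤ) - D.a ∧ (12 : ℤ) ∣ (D.d : ℤ) + 3 * D.a - 4 ∧ 4 ≤ (D.d : ℤ) + 3 * D.a :=
  Cfsg.Agent.Lib.Helper84_FT3_B4dCore.four_group_arith_of h D
    (Cfsg.Agent.Lib.Helper7_FT3_B4c.w_pos h D)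
    (fun B hB => Cfsg.Agent.Lib.Helper32_FT3_B6a.sum_theta_sig h D B hB)

end Cfsg.Agent.Lib.Helper84_FT3_B4d
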