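import Mathlib
import Cfsg.Prelude.Def_Characters
import Cfsg.Agent.Lib.Helper80_CharBasic
import Cfsg.Agent.Lib.Helper1_FT3Defs
import Cfsg.Agent.Lib.Helper1_FT3Data
import Cfsg.Agent.Lib.Helper1_FT3_B3ab
import Cfsg.Agent.Lib.Helper7_FT3_B3d
import Cfsg.Agent.Lib.Helper7_FT3_B4c
import Cfsg.Agent.Lib.Helper7_FT3_B4f
import Cfsg.Agent.Lib.Helper61_FT3_S2
import Cfsg.Agent.Lib.Helper61_FT3_B4a
import Cfsg.Agent.Lib.Helper61_FT3_B5a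
import Cfsg.Agent.Lib.Helper16_FT3_B4b
import Cfsg.Agent.Lib.Helper16_FT3_B5b
import Cfsg.Agent.Lib.Helper32_FT3_B6a
import Cfsg.Agent.Lib.Helper82_S3331_B4e
import Cfsg.Agent.Lib.Helper7_FT3_B3c
import Cfsg.Agent.Lib.Helper84_FT3_B4d
import Cfsg.Agent.Lib.Helper32_FT3_B6b
import Cfsg.Agent.Lib.Helper32_FT3_B6c

/-!
# S3331 character core: all packages B1-B6 under one roof (helper1)

One import, one namespace: every statement of `pending/helper1/S3331_B_packages.lean.txt`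
(verbatim, except the instance `[IsSimpleGroup G]` on `exists_data`), proved by the landed packages.
-/

set_option autoImplicit false
set_option linter.unusedVariables false

namespace Cfsg.Agent.Lib.Helper1_FT3Core

open Cfsg Cfsg.Agent.Lib.Helper80_CharBasic Cfsg.Agent.Lib.Helper1_FT3Defs

open scoped ComplexConjugate

variable {G : Type*} [Group G] [Finite G] {x t : G}

theorem exists_data [IsSimpleGroup G] (h : Hyp G x t) : Nonempty (Data G x t) := Cfsg.Agent.Lib.Helper1_FT3Data.exists_data h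

theorem reg_values (h : Hyp G x t) (D : Data G x t) (g : G) (hg : ¬ 3 ∣ orderOf g) :
    ∃ β : ℤ, (D.θ : G → ℂ) g = β ∧ (D.φ : G → ℂ) g = (β : ℂ) + 1 := Cfsg.Agent.Lib.Helper1_FT3_B3ab.reg_values h D g hg

theorem tau_card (h : Hyp G x t) (D : Data G x t) (g : G) (hg : ¬ 3 ∣ orderOf g) (hg1 : g ≠ 1)
    (β : ℤ) (hβ : (D.θ : G → ℂ) g = β) :
    (Nat.card {s : G // orderOf s = 2 ∧ orderOf (s * g) = 3} : ℤ) = D.m * ((D.d : ℤ) - β) :=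
  Cfsg.Agent.Lib.Helper1_FT3_B3ab.tau_card h D g hg hg1 β hβ

theorem beta_lt [IsSimpleGroup G] (h : Hyp G x t) (D : Data G x t) (g : G)
    (hg : ¬ 3 ∣ orderOf g) (hg1 : g ≠ 1) (β : ℤ) (hβ : (D.θ : G → ℂ) g = β) : β < D.d :=
  Cfsg.Agent.Lib.Helper7_FT3_B3d.beta_lt h D g hg hg1 β hβ

theorem order_mul_of_sig (h : Hyp G x t) (B : Subgroup G) (hB : IsSig x B) (b : G) (hb : b ∈ B) :
    orderOf (b * x) = 3 ∧ orderOf (b * x⁻¹) = 3 := Cfsg.Agent.Lib.Helper61_FT3_S2.order_mul_of_sig h B hB b hb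

theorem sum_theta_sig (h : Hyp G x t) (D : Data G x t) (B : Subgroup G) (hB : IsSig x B) :
    ∃ k : ℕ, ∑ᶠ b : B, (D.θ : G → ℂ) (b : G) = (((3 * k + 1) * Nat.card B : ℕ) : ℂ) :=
  Cfsg.Agent.Lib.Helper32_FT3_B6a.sum_theta_sig h D B hB

theorem card_inv_mul_three (h : Hyp G x t) :
    Nat.card {s : G // orderOf s = 2 ∧ orderOf (s * x) = 3} = 3 * Nat.card (fourSet x) :=
  Cfsg.Agent.Lib.Helper61_FT3_B4a.card_inv_mul_three h

theorem w_formula (h : Hyp G x t) (D : Data G x t) :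
    (3 : ℤ) * (Nat.card (fourSet x) : ℤ) * ((D.d : ℤ) - D.a) =
      D.m * ((D.d : ℤ) ^ 2 + 2 * D.d + (2 * D.d + 1) * D.a) :=
  Cfsg.Agent.Lib.Helper16_FT3_B4b.w_formula h D

theorem w_pos (h : Hyp G x t) (D : Data G x t) : 0 < Nat.card (fourSet x) :=
  Cfsg.Agent.Lib.Helper7_FT3_B4c.w_pos h D

theorem a_le (h : Hyp G x t) (D : Data G x t) : 3 * D.a ≤ (D.d : ℤ) - 4 :=
  Cfsg.Agent.Lib.Helper82_S3331_B4e.a_le h D

theorem three_not_dvd_cent (h : Hyp G x t) :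
    ¬ 3 ∣ Nat.card (Subgroup.centralizer ({t} : Set G)) :=
  Cfsg.Agent.Lib.Helper7_FT3_B4f.three_not_dvd_cent h

theorem mem_USet_iff (h : Hyp G x t) (v : G) :
    v ∈ USet x ↔ ∃ B : Subgroup G, IsSig x B ∧ v ∈ B :=
  Cfsg.Agent.Lib.Helper61_FT3_B5a.mem_USet_iff h v

theorem card_USet (h : Hyp G x t) (D : Data G x t) :
    3 * Nat.card (USet x) = D.m ^ 2 * (D.d ^ 2 + D.d + 1) :=
  Cfsg.Agent.Lib.Helper16_FT3_B5b.card_USet h D


theorem cent_dvd (h : Hyp G x t) (D : Data G x t) (g : G) (hg : ¬ 3 ∣ orderOf g) (hg1 : g ≠ 1)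
    (β : ℤ) (hβ : (D.θ : G → ℂ) g = β) :
    (Nat.card (Subgroup.centralizer ({g} : Set G)) : ℤ) ∣ D.m * ((D.d : ℤ) - β) :=
  Cfsg.Agent.Lib.Helper7_FT3_B3c.cent_dvd h D g hg hg1 β hβ

theorem exists_small (h : Hyp G x t) (D : Data G x t) (Z : Subgroup G) (hZ : IsSig x Z)
    (hodd : Odd (Nat.card Z)) (hZ1 : Z ≠ ⊥) :
    ∃ v ∈ Z, v ≠ 1 ∧ ∃ β : ℤ, (D.θ : G → ℂ) v = β ∧ 6 * ((D.d : ℤ) - β) ≤ 7 * ((D.d : ℤ) - 1) :=
  Cfsg.Agent.Lib.Helper32_FT3_B6b.exists_small h D Z hZ hodd hZ1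

theorem card_le_of_central [IsSimpleGroup G] (h : Hyp G x t) (D : Data G x t) (A Z : Subgroup G)
    (hZ : IsSig x Z) (hodd : Odd (Nat.card Z)) (hZ1 : Z ≠ ⊥)
    (hcomm : ∀ z ∈ Z, ∀ a ∈ A, z * a = a * z) :
    6 * Nat.card A ≤ 7 * D.m * (D.d - 1) :=
  Cfsg.Agent.Lib.Helper32_FT3_B6c.card_le_of_central h D A Z hZ hodd hZ1 hcomm

theorem four_group_arith (h : Hyp G x t) (D : Data G x t) :
    (4 : ℤ) ∣ (D.d : ℤ) - D.a ∧ (12 : ℤ) ∣ (D.d : ℤ) + 3 * D.a - 4 ∧ 4 ≤ (D.d : ℤ) + 3 * D.a :=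
  Cfsg.Agent.Lib.Helper84_FT3_B4d.four_group_arith h D

end Cfsg.Agent.Lib.Helper1_FT3Core
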