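import Mathlib
import Cfsg.Prelude.Def_Characters
import Cfsg.Agent.Lib.Helper80_CharBasic
import Cfsg.Agent.Lib.Helper30_KleinCount
import Cfsg.Agent.Lib.Helper1_FT3Defs
import Cfsg.Agent.Lib.Helper1_FT3Data
import Cfsg.Agent.Lib.Helper1_FT3_B3ab
import Cfsg.Agent.Lib.Helper6_FT3Defs
import Cfsg.Agent.Lib.Helper7_FT3_B3d
import Cfsg.Agent.Lib.Helper7_FT3_B4c
import Cfsg.Agent.Lib.Helper16_FT3_B4bAux
import Cfsg.Agent.Lib.Helper16_FT3_B5b
import Cfsg.Agent.Lib.Helper32_FT3_B6a
import Cfsg.Agent.Lib.Helper61_FT3_Fact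
import Cfsg.Agent.Lib.Helper82_S3331_B4e
import Cfsg.Agent.Lib.Helper84_FT3_B4dCore

/-!
# S3331: from the character core (`Helper1_FT3Defs.Data`) to helper6's `CharData` (helper1)

`charData h D hX : Helper6_FT3Defs.CharData G X` for `X = ⟨x⟩`, `G` simple.
-/

set_option autoImplicit false
set_option linter.unusedSectionVars false
set_option linter.unusedVariables false

namespace Cfsg.Agent.Lib.Helper1_FT3_CharData

open Cfsg Cfsg.Agent.Lib.Helper80_CharBasic Cfsg.Agent.Lib.Helper1_FT3Defs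
  Cfsg.Agent.Lib.Helper1_FT3Data Cfsg.Agent.Lib.Helper1_FT3_B3ab

open scoped ComplexConjugate

universe u

variable {G : Type u} [Group G] [Finite G] {x t : G}

/-! ## `x⁻¹` is as good as `x` -/

theorem isConj_x_inv (h : Hyp G x t) : IsConj x x⁻¹ := isConj_iff.mpr ⟨t, h.inv⟩

theorem hyp_inv (h : Hyp G x t) : Hyp G x⁻¹ t where
  perf := h.perf
  ox := by rw [orderOf_inv]; exact h.ox
  cx := by
    rw [Subgroup.zpowers_inv, ← h.cx]
    ext z
    simp only [Subgroup.mem_centralizer_iff, Set.mem_singleton_iff, forall_eq]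
    constructor
    · intro hz
      exact (Commute.inv_left_iff.mp hz : Commute x z)
    · intro hz
      exact (Commute.inv_left_iff.mpr hz : Commute x⁻¹ z)
  ot := h.ot
  inv := by
    rw [inv_inv]
    calc t * x⁻¹ * t⁻¹ = (t * x * t⁻¹)⁻¹ := by group
      _ = x := by rw [h.inv, inv_inv]

noncomputable def dataInv (h : Hyp G x t) (D : Data G x t) : Data G x⁻¹ t where
  θ := D.θ
  φ := D.φ
  d := D.d
  a := D.a
  m := D.m
  θ_one := D.θ_one
  φ_one := D.φ_one
  θ_x := by rw [← irr_isConj D.θ (isConj_x_inv h)]; exact D.θ_x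
  φ_x := by rw [← irr_isConj D.φ (isConj_x_inv h)]; exact D.φ_x
  θ_ne := D.θ_ne
  φ_ne := D.φ_ne
  θφ_ne := D.θφ_ne
  d_mod := D.d_mod
  d_ge := D.d_ge
  expand := fun F => by
    have h1 : (fun χ : IrrCharacter G => F χ * conj ((χ : G → ℂ) x⁻¹)) =
        fun χ : IrrCharacter G => F χ * conj ((χ : G → ℂ) x) := by
      funext χ
      rw [← irr_isConj χ (isConj_x_inv h)]
    rw [h1]
    exact D.expand F
  θ_t := D.θ_t
  m_pos := D.m_pos
  card_cent := D.card_cent
  card_G := D.card_G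
  allconj := D.allconj

/-! ## the integer valued `θ` -/

open Classical in
/-- `θ` as an integer valued function (`1` on the elements of order divisible by three) -/
noncomputable def thetaZ (h : Hyp G x t) (D : Data G x t) (g : G) : ℤ :=
  if hg : 3 ∣ orderOf g then 1 else Classical.choose (reg_values h D g hg)

theorem thetaZ_spec (h : Hyp G x t) (D : Data G x t) {g : G} (hg : ¬ 3 ∣ orderOf g) :
    (D.θ : G → ℂ) g = (thetaZ h D g : ℂ) := by
  unfold thetaZ
  rw [dif_neg hg]
  exact (Classical.choose_spec (reg_values h D g hg)).1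

theorem thetaZ_of_dvd (h : Hyp G x t) (D : Data G x t) {g : G} (hg : 3 ∣ orderOf g) :
    thetaZ h D g = 1 := by
  unfold thetaZ
  rw [dif_pos hg]

theorem thetaZ_eq_of (h : Hyp G x t) (D : Data G x t) {g : G} (hg : ¬ 3 ∣ orderOf g) {b : ℤ}
    (hb : (D.θ : G → ℂ) g = (b : ℂ)) : thetaZ h D g = b := by
  have h1 := thetaZ_spec h D hg
  rw [hb] at h1
  exact_mod_cast h1.symm

theorem orderOf_conj_eq (c g : G) : orderOf (c * g * c⁻¹) = orderOf g := by
  have := (MulAut.conj c).orderOf_eq g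
  rwa [MulAut.conj_apply] at this

theorem thetaZ_conj (h : Hyp G x t) (D : Data G x t) (g c : G) :
    thetaZ h D (c * g * c⁻¹) = thetaZ h D g := by
  by_cases hg : 3 ∣ orderOf g
  · rw [thetaZ_of_dvd h D hg, thetaZ_of_dvd h D (by rw [orderOf_conj_eq]; exact hg)]
  · have hg' : ¬ 3 ∣ orderOf (c * g * c⁻¹) := by rw [orderOf_conj_eq]; exact hg
    apply thetaZ_eq_of h D hg'
    rw [irr_conj]
    exact thetaZ_spec h D hg

theorem thetaZ_invol (h : Hyp G x t) (D : Data G x t) (s : G) (hs : orderOf s = 2) :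
    thetaZ h D s = D.a := by
  apply thetaZ_eq_of h D (by rw [hs]; norm_num)
  rw [← irr_isConj D.θ (D.allconj s hs)]
  exact D.θ_t

theorem thetaZ_one (h : Hyp G x t) (D : Data G x t) : thetaZ h D 1 = D.d := by
  apply thetaZ_eq_of h D (by rw [orderOf_one]; norm_num)
  rw [D.θ_one]
  norm_cast

theorem thetaZ_lt [IsSimpleGroup G] (h : Hyp G x t) (D : Data G x t) (g : G) (hg1 : g ≠ 1) :
    thetaZ h D g < D.d := by
  by_cases hg : 3 ∣ orderOf g
  · rw [thetaZ_of_dvd h D hg]
    have := D.d_ge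
    omega
  · exact Cfsg.Agent.Lib.Helper7_FT3_B3d.beta_lt h D g hg hg1 _ (thetaZ_spec h D hg)

/-! ## centralizers of conjugate elements -/

theorem card_cent_of_isConj {u v : G} (huv : IsConj u v) :
    Nat.card (Subgroup.centralizer ({u} : Set G)) =
      Nat.card (Subgroup.centralizer ({v} : Set G)) := by
  have h1 := Cfsg.Agent.Lib.Helper30_KleinCount.card_class_mul u
  have h2 := Cfsg.Agent.Lib.Helper30_KleinCount.card_class_mul v
  have h3 : Nat.card {w : G // IsConj u w} = Nat.card {w : G // IsConj v w} :=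
    Nat.card_congr (Equiv.subtypeEquivRight
      (fun w => ⟨fun hw => huv.symm.trans hw, fun hw => huv.trans hw⟩))
  have hpos : 0 < Nat.card {w : G // IsConj v w} := by
    have : Nonempty {w : G // IsConj v w} := ⟨⟨v, IsConj.refl v⟩⟩
    exact Nat.card_pos
  rw [h3, ← h2] at h1
  exact Nat.eq_of_mul_eq_mul_left hpos h1

/-! ## the signalizer sum -/

theorem card_le_sum_thetaZ (h : Hyp G x t) (D : Data G x t) (B : Subgroup G) (hB : IsSig x B)
    [Fintype B] : (Fintype.card B : ℤ) ≤ ∑ b : B, thetaZ h D (b : G) := by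
  obtain ⟨k, hk⟩ := Cfsg.Agent.Lib.Helper32_FT3_B6a.sum_theta_sig h D B hB
  rw [finsum_eq_sum_of_fintype] at hk
  have h1 : ∀ b : B, (D.θ : G → ℂ) (b : G) = (thetaZ h D (b : G) : ℂ) := by
    intro b
    apply thetaZ_spec h D
    intro h3
    apply hB.1
    have h4 : orderOf (b : G) ∣ Nat.card B := by
      rw [Subgroup.orderOf_coe]
      exact orderOf_dvd_natCard b
    exact dvd_trans h3 h4
  rw [Finset.sum_congr rfl (fun b _ => h1 b)] at hk
  have h2 : (∑ b : B, thetaZ h D (b : G)) = (((3 * k + 1) * Nat.card B : ℕ) : ℤ) := by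
    have : ((∑ b : B, thetaZ h D (b : G) : ℤ) : ℂ) = ((((3 * k + 1) * Nat.card B : ℕ) : ℤ) : ℂ) := by
      push_cast
      push_cast at hk
      exact hk
    exact_mod_cast this
  rw [h2, ← Nat.card_eq_fintype_card]
  push_cast
  nlinarith [Nat.zero_le k, Nat.zero_le (Nat.card B)]

/-! ## assembly -/

theorem mem_cases (h : Hyp G x t) {X : Subgroup G} (hX : X = Subgroup.zpowers x) {y : G}
    (hy : y ∈ X) (hy1 : y ≠ 1) : y = x ∨ y = x⁻¹ := by
  rw [hX] at hy
  rcases Cfsg.Agent.Lib.Helper61_FT3_Fact.mem_zpowers_three h.ox hy with h1 | h1 | h1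
  · exact absurd h1 hy1
  · exact Or.inl h1
  · exact Or.inr h1

/-- **the bridge**: helper6's `CharData` from the character core. -/
noncomputable def charData [IsSimpleGroup G] (h : Hyp G x t) (D : Data G x t) {X : Subgroup G}
    (hX : X = Subgroup.zpowers x) : Cfsg.Agent.Lib.Helper6_FT3Defs.CharData G X where
  d := D.d
  m := D.m
  a := D.a
  θ := thetaZ h D
  hd4 := D.d_ge
  hd3 := by
    have := D.d_mod
    omega
  hm := D.m_pos
  hcard := D.card_G
  hconj := fun s t' hs ht' => (D.allconj s hs).symm.trans (D.allconj t' ht')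
  hθt := fun s hs => thetaZ_invol h D s hs
  hcent := fun s hs => by
    rw [← card_cent_of_isConj (D.allconj s hs)]
    exact D.card_cent
  ha_le := Cfsg.Agent.Lib.Helper82_S3331_B4e.a_le h D
  htau := fun g hg1 hg => tau_card h D g hg hg1 _ (thetaZ_spec h D hg)
  hθ1 := thetaZ_one h D
  hθlt := fun g hg1 => thetaZ_lt h D g hg1
  hw := fun y hy hy1 => by
    rcases mem_cases h hX hy hy1 with rfl | rfl
    · exact Cfsg.Agent.Lib.Helper16_FT3_B4bAux.count_formula h D
    · exact Cfsg.Agent.Lib.Helper16_FT3_B4bAux.count_formula (hyp_inv h) (dataInv h D)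
  hU := fun y hy hy1 => by
    rcases mem_cases h hX hy hy1 with rfl | rfl
    · exact Cfsg.Agent.Lib.Helper16_FT3_B5b.card_USet h D
    · exact Cfsg.Agent.Lib.Helper16_FT3_B5b.card_USet (hyp_inv h) (dataInv h D)
  hV := fun _ => by
    obtain ⟨_, h12, h4⟩ := Cfsg.Agent.Lib.Helper84_FT3_B4dCore.four_group_arith_of h D
      (Cfsg.Agent.Lib.Helper7_FT3_B4c.w_pos h D)
      (fun B hB => Cfsg.Agent.Lib.Helper32_FT3_B6a.sum_theta_sig h D B hB)
    exact ⟨h12, by linarith⟩
  hθcl := fun g c => thetaZ_conj h D g c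
  hsig := fun B hB _ => by
    apply card_le_sum_thetaZ h D B
    refine ⟨hB.2, hB.1 ?_⟩
    rw [hX]
    exact Subgroup.mem_zpowers x

end Cfsg.Agent.Lib.Helper1_FT3_CharData
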