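import Cfsg.Agent.Lib.Helper47_Avg
import Cfsg.Agent.Lib.Helper22_Cores
import Cfsg.Agent.S0027

set_option autoImplicit false

namespace Cfsg.Agent.Lib.Helper47_Subn

open Cfsg
open Cfsg.Agent.Lib.Helper47_PLocal Cfsg.Agent.Lib.Helper47_PReduced Cfsg.Agent.Lib.Helper47_SubAPI
  Cfsg.Agent.Lib.Helper47_YL Cfsg.Agent.Lib.Helper47_TL Cfsg.Agent.Lib.Helper47_TL2
  Cfsg.Agent.Lib.Helper47_Avg Cfsg.Agent.Lib.Helper47_WeaklyClosed
open scoped commutatorElement Pointwise

variable {G : Type*} [Group G] {p : ℕ}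

/-! ### `O^p(H)` of a subgroup, in the ambient group -/

/-- `O^p(H)` for a subgroup `H`, in the ambient group. -/
abbrev opOf (p : ℕ) (H : Subgroup G) : Subgroup G := (Cfsg.pResidual p ↥H).map H.subtype

theorem opOf_eq_closure (H : Subgroup G) :
    opOf p H = Subgroup.closure {x : G | x ∈ H ∧ (orderOf x).Coprime p} :=
  map_subtype_pResidual H

theorem opOf_le (H : Subgroup G) : opOf p H ≤ H := Subgroup.map_subtype_le _

theorem mem_opOf_of_coprime {H : Subgroup G} {x : G} (hx : x ∈ H) (hc : (orderOf x).Coprime p) :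
    x ∈ opOf p H := by
  rw [opOf_eq_closure]; exact Subgroup.subset_closure ⟨hx, hc⟩

theorem opOf_mono {H K : Subgroup G} (h : H ≤ K) : opOf p H ≤ opOf p K := by
  rw [opOf_eq_closure, opOf_eq_closure]
  exact Subgroup.closure_mono (fun x hx => ⟨h hx.1, hx.2⟩)

/-- Anything normalizing `H` normalizes `O^p(H)`. -/
theorem normalizer_le_normalizer_opOf (H : Subgroup G) :
    Subgroup.normalizer (H : Set G) ≤ Subgroup.normalizer ((opOf p H : Subgroup G) : Set G) := by
  intro g hg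
  have key : ∀ g : G, g ∈ Subgroup.normalizer (H : Set G) →
      ∀ x ∈ opOf p H, g * x * g⁻¹ ∈ opOf p H := by
    intro g hg x hx
    rw [opOf_eq_closure] at hx ⊢
    induction hx using Subgroup.closure_induction with
    | mem x hx =>
      apply Subgroup.subset_closure
      refine ⟨(Subgroup.mem_normalizer_iff.mp hg x).mp hx.1, ?_⟩
      have : g * x * g⁻¹ = MulAut.conj g x := by simp
      rw [this, MulEquiv.orderOf_eq]; exact hx.2
    | one => simp
    | mul x y _ _ ihx ihy =>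
      have : g * (x * y) * g⁻¹ = (g * x * g⁻¹) * (g * y * g⁻¹) := by group
      rw [this]; exact Subgroup.mul_mem _ ihx ihy
    | inv x _ ihx =>
      have : g * x⁻¹ * g⁻¹ = (g * x * g⁻¹)⁻¹ := by group
      rw [this]; exact Subgroup.inv_mem _ ihx
  rw [Subgroup.mem_normalizer_iff]
  intro x
  refine ⟨key g hg x, fun hx => ?_⟩
  have := key g⁻¹ (Subgroup.inv_mem _ hg) _ hx
  simpa [mul_assoc] using this

/-! ### Relative commutator kernel -/

/-- The elements `g` normalizing `N` with `[K, g] ⊆ N`. -/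
def commKerN (K N : Subgroup G) : Subgroup G where
  carrier := {g | g ∈ Subgroup.normalizer (N : Set G) ∧ ∀ k ∈ K, ⁅k, g⁆ ∈ N}
  one_mem' := ⟨Subgroup.one_mem _, fun k _ => by simp [commutatorElement_def]⟩
  mul_mem' := by
    rintro a b ⟨ha1, ha2⟩ ⟨hb1, hb2⟩
    refine ⟨Subgroup.mul_mem _ ha1 hb1, fun k hk => ?_⟩
    have h1 : ⁅k, a * b⁆ = ⁅k, a⁆ * (a * ⁅k, b⁆ * a⁻¹) := by
      simp only [commutatorElement_def]; group
    rw [h1]
    exact N.mul_mem (ha2 k hk) ((Subgroup.mem_normalizer_iff.mp ha1 _).mp (hb2 k hk))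
  inv_mem' := by
    rintro a ⟨ha1, ha2⟩
    refine ⟨Subgroup.inv_mem _ ha1, fun k hk => ?_⟩
    have h1 : ⁅k, a⁻¹⁆ = a⁻¹ * (⁅k, a⁆)⁻¹ * a⁻¹⁻¹ := by
      simp only [commutatorElement_def]; group
    rw [h1]
    exact (Subgroup.mem_normalizer_iff.mp (Subgroup.inv_mem _ ha1) _).mp (N.inv_mem (ha2 k hk))

theorem commutator_le_of_le_commKerN {K N X : Subgroup G} (h : X ≤ commKerN K N) : ⁅K, X⁆ ≤ N := by
  rw [Subgroup.commutator_le]
  intro k hk x hx
  exact (h hx).2 k hk

/-! ### `[V, O^p(H)] = [V, O^p(H), O^p(H)]` -/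

theorem commutator_opOf_eq [Finite G] [Fact p.Prime] {V : Subgroup G} [hVn : V.Normal]
    (hVp : IsPGroup p V) (H : Subgroup G) :
    ⁅⁅V, opOf p H⁆, opOf p H⁆ = ⁅V, opOf p H⁆ := by
  have hW1 : ⁅V, opOf p H⁆ ≤ V := Subgroup.commutator_le_left V _
  apply le_antisymm (Subgroup.commutator_mono hW1 le_rfl)
  have key : Subgroup.closure {x : G | x ∈ H ∧ (orderOf x).Coprime p} ≤
      commKerN V ⁅⁅V, opOf p H⁆, opOf p H⁆ := by
    rw [Subgroup.closure_le]
    rintro x ⟨hxH, hxc⟩
    have hxX : x ∈ opOf p H := mem_opOf_of_coprime hxH hxc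
    have hzX : Subgroup.zpowers x ≤ opOf p H := Subgroup.zpowers_le.mpr hxX
    refine ⟨le_normalizer_commutator_right ⁅V, opOf p H⁆ (opOf p H) hxX, fun v hv => ?_⟩
    have hAK : Subgroup.zpowers x ≤ Subgroup.normalizer (V : Set G) := by
      rw [Subgroup.normalizer_eq_top_iff.mpr hVn]; exact le_top
    have hcop : (Nat.card (Subgroup.zpowers x)).Coprime (Nat.card V) := by
      obtain ⟨n, hn⟩ := IsPGroup.iff_card.mp hVp
      rw [Nat.card_zpowers, hn]
      exact Nat.Coprime.pow_right n hxc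
    have hsolv : Group.IsSolvable (Subgroup.zpowers x) := inferInstance
    have h27 := Cfsg.Agent.S0027.result (Subgroup.zpowers x) V hAK hcop (Or.inl hsolv)
    have h1 : ⁅v, x⁆ ∈ ⁅V, Subgroup.zpowers x⁆ :=
      Subgroup.commutator_mem_commutator hv (Subgroup.mem_zpowers x)
    rw [← h27] at h1
    exact Subgroup.commutator_mono (Subgroup.commutator_mono le_rfl hzX) hzX h1
  rw [← opOf_eq_closure] at key
  exact commutator_le_of_le_commKerN key

/-! ### Subnormal subgroups acting on `p`-reduced normal subgroups -/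

/-- A subnormal subgroup inducing a `p`-group on a `p`-reduced normal subgroup centralizes it. -/
theorem IsPReducedNormal.le_centralizer_of_isSubnormal [Finite G] {V D : Subgroup G}
    (hV : Cfsg.IsPReducedNormal p V) (hD : D.IsSubnormal)
    (hDp : ∀ d ∈ D, ∃ k : ℕ, d ^ (p ^ k) ∈ Subgroup.centralizer (V : Set G)) :
    D ≤ Subgroup.centralizer (V : Set G) := by
  obtain ⟨hVn, hel, hCn, hpc⟩ := hV
  have h1 : (D.map (QuotientGroup.mk' (Subgroup.centralizer (V : Set G)))).IsSubnormal :=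
    hD.map (QuotientGroup.mk'_surjective _)
  have h2 : IsPGroup p (D.map (QuotientGroup.mk' (Subgroup.centralizer (V : Set G)))) := by
    rintro ⟨x, hx⟩
    obtain ⟨d, hd, rfl⟩ := Subgroup.mem_map.mp hx
    obtain ⟨k, hk⟩ := hDp d hd
    refine ⟨k, Subtype.ext ?_⟩
    show (QuotientGroup.mk' _ d) ^ (p ^ k) = 1
    rw [← map_pow]
    exact (QuotientGroup.eq_one_iff _).mpr hk
  have h3 := Cfsg.Agent.Lib.Helper22_Cores.le_pCore_of_isSubnormal p h1 h2
  rw [hpc] at h3
  intro d hd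
  have h4 : QuotientGroup.mk' (Subgroup.centralizer (V : Set G)) d ∈
      (⊥ : Subgroup (G ⧸ Subgroup.centralizer (V : Set G))) := h3 (Subgroup.mem_map_of_mem _ hd)
  exact (QuotientGroup.eq_one_iff d).mp (Subgroup.mem_bot.mp h4)

theorem PRedIn.le_centralizer_of_isSubnormal [Finite G] {K V D : Subgroup G}
    (hV : PRedIn p K V) (hD : (D.subgroupOf K).IsSubnormal) (hDK : D ≤ K)
    (hDp : ∀ d ∈ D, ∃ k : ℕ, d ^ (p ^ k) ∈ Subgroup.centralizer (V : Set G)) :
    D ≤ Subgroup.centralizer (V : Set G) := by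
  have h1 : Cfsg.IsPReducedNormal p (V.subgroupOf K) := by
    rw [isPReducedNormal_iff_pRedIn, Subgroup.map_subgroupOf_eq_of_le hV.1]
    exact hV
  have hc : Subgroup.centralizer ((V.subgroupOf K : Subgroup ↥K) : Set ↥K) =
      (Subgroup.centralizer (V : Set G)).subgroupOf K := by
    rw [centralizer_eq_subgroupOf, Subgroup.map_subgroupOf_eq_of_le hV.1]
  have h2 := IsPReducedNormal.le_centralizer_of_isSubnormal h1 hD (by
    intro d hd
    obtain ⟨k, hk⟩ := hDp d (Subgroup.mem_subgroupOf.mp hd)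
    refine ⟨k, ?_⟩
    rw [hc, Subgroup.mem_subgroupOf]
    simpa using hk)
  rw [hc] at h2
  intro d hd
  exact Subgroup.mem_subgroupOf.mp (h2 (show (⟨d, hDK hd⟩ : ↥K) ∈ D.subgroupOf K from hd))

/-- Normal case: if `V₁` is `p`-reduced normal in `K₁` and `H ⊴ K₁` then `[V₁, O^p(H)]` is
`p`-reduced normal in `H`. -/
theorem PRedIn.commutator_opOf [Finite G] [Fact p.Prime] {K₁ V₁ H : Subgroup G}
    (hV : PRedIn p K₁ V₁) (hHK : H ≤ K₁) (hKH : K₁ ≤ Subgroup.normalizer (H : Set G)) :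
    PRedIn p H ⁅V₁, opOf p H⁆ := by
  obtain ⟨hVK, hKV, hel, _⟩ := id hV
  have hXH : opOf p H ≤ H := opOf_le H
  have hHV : H ≤ Subgroup.normalizer (V₁ : Set G) := hHK.trans hKV
  have hWV : ⁅V₁, opOf p H⁆ ≤ V₁ :=
    Subgroup.le_normalizer_iff_commutator_le_left.mp (hXH.trans hHV)
  have hWp : IsPGroup p (⁅V₁, opOf p H⁆ : Subgroup G) :=
    (isPGroup_of_isElementaryAbelian hel).to_le hWV
  refine ⟨?_, ?_, isElementaryAbelian_of_le hel hWV, ?_⟩
  · rw [Subgroup.commutator_le]
    intro v hv x hx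
    have h1 : v * x * v⁻¹ ∈ H := (Subgroup.mem_normalizer_iff.mp (hKH (hVK hv)) x).mp (hXH hx)
    have h2 : ⁅v, x⁆ = (v * x * v⁻¹) * x⁻¹ := by rw [commutatorElement_def]
    rw [h2]; exact H.mul_mem h1 (H.inv_mem (hXH hx))
  · exact (le_inf hHV (Subgroup.le_normalizer.trans (normalizer_le_normalizer_opOf H))).trans
      (Cfsg.Agent.Lib.Helper47_PClosed.normalizer_inf_le_normalizer_commutator _ _)
  · intro D hDH hHD hDp
    -- p'-elements of `D` centralize `V₁`
    have ha : ∀ x ∈ D, (orderOf x).Coprime p → x ∈ Subgroup.centralizer (V₁ : Set G) := by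
      intro x hx hxc
      obtain ⟨k, hk⟩ := hDp x hx
      have hxW : x ∈ Subgroup.centralizer ((⁅V₁, opOf p H⁆ : Subgroup G) : Set G) := by
        refine Cfsg.Agent.Lib.Helper47_PClosed.mem_of_pow_mem_of_pow_mem_of_coprime
          (Nat.Coprime.pow_right k hxc) ?_ hk
        rw [pow_orderOf_eq_one]; exact Subgroup.one_mem _
      have hxX : x ∈ opOf p H := mem_opOf_of_coprime (hDH hx) hxc
      rw [Subgroup.mem_centralizer_iff]
      intro v hv
      have := commute_of_coprime_of_commutator_mem V₁ ⁅V₁, opOf p H⁆ x hxc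
        (fun r hr => Subgroup.commutator_mem_commutator hr hxX)
        (fun c hc => ((Subgroup.mem_centralizer_iff.mp hxW) c hc).symm)
        (fun c hc => orderOf_eq_pow_of_mem hWp hc) v hv
      exact this.eq.symm
    have hb : ∀ d ∈ D, ∃ k : ℕ, d ^ (p ^ k) ∈ Subgroup.centralizer (V₁ : Set G) := by
      intro d hd
      obtain ⟨j, m, hm, hjm⟩ := Nat.exists_eq_pow_mul_and_not_dvd (orderOf_pos d).ne' p
        (Fact.out : p.Prime).ne_one
      refine ⟨j, ha _ (Subgroup.pow_mem _ hd _) ?_⟩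
      have h1 : orderOf (d ^ (p ^ j)) = m := by
        rw [orderOf_pow' d (pow_ne_zero j (Fact.out : p.Prime).ne_zero), hjm,
          Nat.gcd_eq_right (Dvd.intro _ rfl), Nat.mul_div_cancel_left _ (pow_pos (Fact.out : p.Prime).pos j)]
      rw [h1]
      exact ((Nat.Prime.coprime_iff_not_dvd Fact.out).mpr hm).symm
    have hsub : (D.subgroupOf K₁).IsSubnormal := by
      have h1 : (H.subgroupOf K₁).Normal :=
        (Subgroup.normal_subgroupOf_iff_le_normalizer hHK).mpr hKH
      refine Subgroup.IsSubnormal.step (D.subgroupOf K₁) (H.subgroupOf K₁)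
        (Subgroup.comap_mono hDH) h1.isSubnormal ?_
      constructor
      rintro ⟨⟨n, hnK⟩, hnH⟩ hn ⟨⟨g, hgK⟩, hgH⟩
      have hgH' : g ∈ H := Subgroup.mem_subgroupOf.mp hgH
      have hn' : n ∈ D := hn
      show g * n * g⁻¹ ∈ D
      exact (Subgroup.mem_normalizer_iff.mp (hHD hgH') n).mp hn'
    have hc := PRedIn.le_centralizer_of_isSubnormal hV hsub (hDH.trans hHK) hb
    exact hc.trans (Subgroup.centralizer_le hWV)

/-- S2804 in ambient form. -/
theorem pRedIn_commutator_opOf_of_isSubnormal [Finite G] [Fact p.Prime] {V : Subgroup G}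
    (hV : Cfsg.IsPReducedNormal p V) {K : Subgroup G} (hK : K.IsSubnormal) :
    PRedIn p K ⁅V, opOf p K⁆ := by
  have hVn : V.Normal := hV.1
  have hVp : IsPGroup p V := isPGroup_of_isElementaryAbelian hV.2.1
  have hVtop : PRedIn p ⊤ V := by
    obtain ⟨h1, h2, h3⟩ := (isPReducedNormal_iff V).mp hV
    refine ⟨le_top, ?_, h2, ?_⟩
    · rw [Subgroup.normalizer_eq_top_iff.mpr h1]
    · intro D _ hD hDp
      exact h3 D (Subgroup.normalizer_eq_top_iff.mp (top_le_iff.mp hD)) hDp
  induction hK with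
  | top => exact PRedIn.commutator_opOf hVtop le_rfl Subgroup.le_normalizer
  | step H K hHK _ hN ih =>
    have hKH : K ≤ Subgroup.normalizer (H : Set G) :=
      (Subgroup.normal_subgroupOf_iff_le_normalizer hHK).mp hN
    have h1 := PRedIn.commutator_opOf ih hHK hKH
    have h2 : ⁅⁅V, opOf p K⁆, opOf p H⁆ = ⁅V, opOf p H⁆ := by
      apply le_antisymm
      · exact Subgroup.commutator_mono (Subgroup.commutator_le_left V _) le_rfl
      · rw [← commutator_opOf_eq hVp H]
        exact Subgroup.commutator_mono (Subgroup.commutator_mono le_rfl (opOf_mono hHK)) le_rfl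
    rwa [h2] at h1

end Cfsg.Agent.Lib.Helper47_Subn
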