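import Cfsg.Agent.Lib.Helper76_PSolvable
import Cfsg.Agent.Lib.Helper32_PSolvable
import Cfsg.Agent.Lib.Helper38_HyperplaneGen
import Cfsg.Agent.Lib.Helper47_Quot
import Cfsg.Agent.Lib.Helper47_Subn
import Cfsg.Agent.Lib.Helper1_Frattini

/-!
The dual Hall–Higman centralizer lemma and a `p`-soluble "L-lemma" (helper47).
-/

set_option autoImplicit false

namespace Cfsg.Agent.Lib.Helper47_HH

open Cfsg
open Cfsg.Agent.Lib.Helper76_PSolvable
open scoped commutatorElement

/-! ### The dual Hall–Higman lemma -/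

/-- A central subgroup `S` whose order is prime to its index has a characteristic complement. -/
theorem exists_characteristic_complement_of_central_coprime {M : Type*} [Group M] [Finite M]
    (S : Subgroup M) (hSc : S ≤ Subgroup.center M) (hcop : (Nat.card S).Coprime S.index) :
    ∃ T : Subgroup M, T.Characteristic ∧ Nat.card T = S.index ∧ (T = ⊥ → S = ⊤) := by
  have hSn : S.Normal := ⟨fun n hn g => by
    have := Subgroup.mem_center_iff.mp (hSc hn) g
    rw [this, mul_assoc, mul_inv_cancel, mul_one]; exact hn⟩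
  obtain ⟨T, hT⟩ := Subgroup.exists_right_complement'_of_coprime hcop
  have hTcard : Nat.card T = S.index := (hT.symm.index_eq_card).symm
  have hTidx : T.index = Nat.card S := hT.index_eq_card
  have hTn : T.Normal := by
    rw [← Subgroup.normalizer_eq_top_iff, eq_top_iff, ← hT.sup_eq_top, sup_le_iff]
    constructor
    · intro s hs
      rw [Subgroup.mem_normalizer_iff]
      intro t
      have := Subgroup.mem_center_iff.mp (hSc hs) t
      rw [← this, mul_assoc, mul_inv_cancel, mul_one]
    · exact Subgroup.le_normalizer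
  refine ⟨T, ?_, hTcard, ?_⟩
  · rw [Subgroup.characteristic_iff_map_le]
    intro φ
    set U := T.map φ.toMonoidHom with hU
    have hUcard : Nat.card U = Nat.card T :=
      Subgroup.card_map_of_injective φ.injective
    have h1 : T.relIndex U ∣ T.index := Subgroup.relIndex_dvd_index_of_normal _ _
    have h2 : T.relIndex U ∣ Nat.card U := Subgroup.relIndex_dvd_card _ _
    rw [hTidx] at h1
    rw [hUcard, hTcard] at h2
    have h3 : T.relIndex U = 1 := Nat.eq_one_of_dvd_coprimes hcop h1 h2
    exact Subgroup.relIndex_eq_one.mp h3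
  · intro h
    rw [h] at hT
    exact Subgroup.isComplement'_bot_right.mp hT

/-- **Hall–Higman Lemma 1.2.3, dual form.** In a finite `p`-solvable group with `O_p(X) = 1`,
the centralizer of `O_{p'}(X)` is contained in `O_{p'}(X)`. -/
theorem centralizer_pPrimeCore_le {X : Type*} [Group X] [Finite X] (p : ℕ) [hp : Fact p.Prime]
    (hsol : IsPSolvable p X) (hcore : pCore p X = ⊥) :
    Subgroup.centralizer (pPrimeCore p X : Set X) ≤ pPrimeCore p X := by
  obtain ⟨n, H, h0, hlast, hmono, hnormal, hfac⟩ := hsol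
  set R := pPrimeCore p X with hR
  set C := Subgroup.centralizer (R : Set X) with hC
  have hCn : C.Normal := by rw [hC]; infer_instance
  have hRc : (Nat.card R).Coprime p := pPrimeCore_card_coprime p
  have key : ∀ i : Fin (n + 1), C ⊓ H i ≤ R := by
    intro i
    induction i using Fin.induction with
    | zero => rw [h0, inf_bot_eq]; exact bot_le
    | succ i ih =>
      set S := C ⊓ H i.castSucc with hS
      set M := C ⊓ H i.succ with hM
      have hAB : H i.castSucc ≤ H i.succ := hmono (Fin.castSucc_lt_succ).le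
      have hAn : (H i.castSucc).Normal := hnormal _
      have hBn : (H i.succ).Normal := hnormal _
      have hSM : S ≤ M := inf_le_inf_left C hAB
      have hMn : M.Normal := by rw [hM]; infer_instance
      have hSn : S.Normal := by rw [hS]; infer_instance
      have hScop : (Nat.card S).Coprime p :=
        Nat.Coprime.coprime_dvd_left (Subgroup.card_dvd_of_le ih) hRc
      have hcent : ∀ s ∈ S, ∀ m ∈ M, s * m = m * s := by
        intro s hs m hm
        have hm' : m ∈ C := (Subgroup.mem_inf.mp hm).1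
        exact Subgroup.mem_centralizer_iff.mp hm' s (ih hs)
      have hrel : S.relIndex M ∣ (H i.castSucc).relIndex (H i.succ) := by
        have h1 : S.relIndex M = (H i.castSucc).relIndex M := by
          rw [← Subgroup.inf_relIndex_right S M, ← Subgroup.inf_relIndex_right (H i.castSucc) M]
          congr 1
          rw [hS, hM]
          apply le_antisymm
          · exact le_inf (inf_le_left.trans inf_le_right) inf_le_right
          · refine le_inf (le_inf (inf_le_right.trans inf_le_left) inf_le_left) inf_le_right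
        rw [h1]
        exact relIndex_dvd_relIndex_of_le_right _ inf_le_right
      have hcardM : Nat.card S * S.relIndex M = Nat.card M := by
        rw [← Subgroup.relIndex_bot_left, ← Subgroup.relIndex_bot_left,
          Subgroup.relIndex_mul_relIndex _ _ _ bot_le hSM]
      rcases hfac i with ⟨m, hm⟩ | hm
      · -- p-power factor
        rw [hm] at hrel
        obtain ⟨k, _, hk⟩ := (Nat.dvd_prime_pow hp.out).mp hrel
        have hSc : S.subgroupOf M ≤ Subgroup.center M := by
          intro z hz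
          rw [Subgroup.mem_center_iff]
          intro g
          apply Subtype.ext
          rw [Subgroup.mem_subgroupOf] at hz
          simpa using (hcent z hz g g.2).symm
        have hidx : (S.subgroupOf M).index = p ^ k := hk
        have hcardS : Nat.card (S.subgroupOf M) = Nat.card S :=
          Nat.card_congr (Subgroup.subgroupOfEquivOfLe hSM).toEquiv
        have hcop' : (Nat.card (S.subgroupOf M)).Coprime (S.subgroupOf M).index := by
          rw [hcardS, hidx]
          exact Nat.Coprime.pow_right k hScop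
        obtain ⟨T, hTchar, hTcard, hTbot⟩ :=
          exists_characteristic_complement_of_central_coprime (S.subgroupOf M) hSc hcop'
        have hTn : (T.map M.subtype).Normal := inferInstance
        have hTp : IsPGroup p (T.map M.subtype) := by
          apply IsPGroup.of_card (n := k)
          rw [Subgroup.card_map_of_injective M.subtype_injective, hTcard, hidx]
        have hTle : T.map M.subtype ≤ pCore p X := le_pCore p _ hTp
        rw [hcore, le_bot_iff, Subgroup.map_eq_bot_iff_of_injective _ M.subtype_injective] at hTle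
        have := hTbot hTle
        rw [Subgroup.subgroupOf_eq_top] at this
        exact this.trans ih
      · -- p'-factor: M is a normal p'-subgroup
        have hcop : (S.relIndex M).Coprime p := Nat.Coprime.coprime_dvd_left hrel hm
        have hMc : (Nat.card M).Coprime p := by
          rw [← hcardM]; exact Nat.Coprime.mul_left hScop hcop
        exact le_pPrimeCore p M hMc
  have := key (Fin.last n)
  rwa [hlast, inf_top_eq] at this

/-! ### Generic coprime-action lemmas -/

/-- If `g r g⁻¹ = r c` with `c` commuting with `g` and of order prime to that of `g`, then `g`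
commutes with `r`. -/
theorem commute_of_conj_eq_mul_of_coprime {G : Type*} [Group G] (g r c : G)
    (hc : g * r * g⁻¹ = r * c) (hgc : Commute g c) (hcop : (orderOf g).Coprime (orderOf c)) :
    Commute g r := by
  have h : ∀ k : ℕ, g ^ k * r * (g ^ k)⁻¹ = r * c ^ k := by
    intro k
    induction k with
    | zero => simp
    | succ k ih =>
      have h1 : g ^ (k + 1) * r * (g ^ (k + 1))⁻¹ = g * (g ^ k * r * (g ^ k)⁻¹) * g⁻¹ := by
        rw [pow_succ']; group
      rw [h1, ih]
      have h2 : g * (r * c ^ k) * g⁻¹ = (g * r * g⁻¹) * (g * c ^ k * g⁻¹) := by group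
      rw [h2, hc]
      have h3 : g * c ^ k * g⁻¹ = c ^ k := by
        have := (hgc.pow_right k).eq
        rw [this]; group
      rw [h3, pow_succ']; group
  have h4 := h (orderOf g)
  rw [pow_orderOf_eq_one] at h4
  simp at h4
  have h5 : orderOf c ∣ orderOf g := orderOf_dvd_of_pow_eq_one h4
  have h7 : orderOf c = 1 := Nat.eq_one_of_dvd_coprimes hcop h5 dvd_rfl
  have h8 : c = 1 := orderOf_eq_one_iff.mp h7
  rw [h8, mul_one] at hc
  show g * r = r * g
  calc g * r = g * r * g⁻¹ * g := by group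
    _ = r * g := by rw [hc]

/-- A `p'`-element of `N D`, with `D` a `p`-group normalizing `N`, lies in `N`. -/
theorem mem_of_mem_sup_of_coprime' {G : Type*} [Group G] {p : ℕ} [Fact p.Prime]
    {N D : Subgroup G} (hDN : D ≤ Subgroup.normalizer (N : Set G))
    (hD : IsPGroup p D) {g : G} (hg : g ∈ N ⊔ D) (hgp : (orderOf g).Coprime p) : g ∈ N := by
  set K := N ⊔ D with hK
  have hNK : N ≤ K := le_sup_left
  have hDK : D ≤ K := le_sup_right
  have hKN : K ≤ Subgroup.normalizer (N : Set G) := sup_le Subgroup.le_normalizer hDN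
  have : (N.subgroupOf K).Normal := (Subgroup.normal_subgroupOf_iff_le_normalizer hNK).mpr hKN
  have hD' : IsPGroup p (D.subgroupOf K) := hD.comap_subtype
  have hg' : (⟨g, hg⟩ : K) ∈ N.subgroupOf K ⊔ D.subgroupOf K := by
    rw [← Subgroup.subgroupOf_sup hNK hDK, Subgroup.subgroupOf_self]
    exact Subgroup.mem_top _
  have ho : (orderOf (⟨g, hg⟩ : K)).Coprime p := by
    rw [Subgroup.orderOf_mk]; exact hgp
  have := Cfsg.Agent.Lib.Helper47_PClosed.mem_of_mem_sup_of_coprime hD' hg' ho
  exact Subgroup.mem_subgroupOf.mp this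

/-- A subgroup between `B` and `A`, with `B` of prime index in `A`, is one of the two. -/
theorem le_or_le_of_relIndex_prime {G : Type*} [Group G] {B C A : Subgroup G} (hBC : B ≤ C)
    (hCA : C ≤ A) (hp : (B.relIndex A).Prime) : C ≤ B ∨ A ≤ C := by
  have h := Subgroup.relIndex_mul_relIndex B C A hBC hCA
  rcases (Nat.dvd_prime hp).mp (Dvd.intro _ h) with h1 | h1
  · left; exact Subgroup.relIndex_eq_one.mp h1
  · right
    rw [h1] at h
    have hpos : 0 < B.relIndex A := hp.pos
    have h2 : C.relIndex A = 1 := by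
      have := Nat.eq_of_mul_eq_mul_left hpos (h.trans (mul_one _).symm)
      exact this
    exact Subgroup.relIndex_eq_one.mp h2

theorem mem_normalizer_inf {G : Type*} [Group G] {A B : Subgroup G} {g : G}
    (hA : g ∈ Subgroup.normalizer (A : Set G)) (hB : g ∈ Subgroup.normalizer (B : Set G)) :
    g ∈ Subgroup.normalizer ((A ⊓ B : Subgroup G) : Set G) := by
  rw [Subgroup.mem_normalizer_iff] at hA hB ⊢
  intro h
  rw [Subgroup.mem_inf, Subgroup.mem_inf, ← hA h, ← hB h]

/-- A `p`-element `a` acting nontrivially on a `p'`-group `K₀` acts nontrivially on some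
`a`-invariant subgroup `R ≤ K₀` generated inside two conjugates of `a` under `R`. -/
theorem exists_le_closure_conj {X : Type*} [Group X] [Finite X] {p : ℕ} [Fact p.Prime]
    (K₀ : Subgroup X) (a : X) (hK₀ : (Nat.card K₀).Coprime p) (ha : ∃ k, orderOf a = p ^ k)
    (haN : a ∈ Subgroup.normalizer (K₀ : Set X))
    (hnc : ¬ K₀ ≤ Subgroup.centralizer ({a} : Set X)) :
    ∃ R : Subgroup X, R ≤ K₀ ∧ a ∈ Subgroup.normalizer (R : Set X) ∧
      ¬ R ≤ Subgroup.centralizer ({a} : Set X) ∧
      ∃ x ∈ R, R ≤ Subgroup.closure {a, x * a * x⁻¹} := by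
  set S : Set (Subgroup X) := {R | R ≤ K₀ ∧ a ∈ Subgroup.normalizer (R : Set X) ∧
    ¬ R ≤ Subgroup.centralizer ({a} : Set X)} with hS
  have hne : K₀ ∈ S := ⟨le_rfl, haN, hnc⟩
  obtain ⟨R, hRmin⟩ := (Set.toFinite S).exists_minimal ⟨K₀, hne⟩
  obtain ⟨hRK, haR, hRnc⟩ := hRmin.prop
  refine ⟨R, hRK, haR, hRnc, ?_⟩
  by_contra hcon
  push Not at hcon
  apply hRnc
  intro x hx
  rw [Subgroup.mem_centralizer_singleton_iff]
  have hy : x⁻¹ ∈ R := R.inv_mem hx
  set D := Subgroup.closure {a, x⁻¹ * a * x⁻¹⁻¹} ⊓ R with hD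
  have ha_cl : a ∈ Subgroup.closure ({a, x⁻¹ * a * x⁻¹⁻¹} : Set X) :=
    Subgroup.subset_closure (Set.mem_insert _ _)
  have hDc : D ≤ Subgroup.centralizer ({a} : Set X) := by
    by_contra hDnc
    have hDS : D ∈ S := ⟨inf_le_right.trans hRK,
      mem_normalizer_inf (Subgroup.le_normalizer ha_cl) haR, hDnc⟩
    have hRD : R ≤ D := hRmin.le_of_le hDS inf_le_right
    exact hcon x⁻¹ hy (hRD.trans inf_le_left)
  set c := x⁻¹ * a * x * a⁻¹ with hc
  have hcD : c ∈ D := by
    refine Subgroup.mem_inf.mpr ⟨?_, ?_⟩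
    · have h1 : x⁻¹ * a * x⁻¹⁻¹ ∈ Subgroup.closure ({a, x⁻¹ * a * x⁻¹⁻¹} : Set X) :=
        Subgroup.subset_closure (Set.mem_insert_of_mem _ (Set.mem_singleton _))
      have h2 : c = (x⁻¹ * a * x⁻¹⁻¹) * a⁻¹ := by rw [hc]; group
      rw [h2]
      exact Subgroup.mul_mem _ h1 (Subgroup.inv_mem _ ha_cl)
    · have h1 : a * x * a⁻¹ ∈ R := (Subgroup.mem_normalizer_iff.mp haR x).mp hx
      have h2 : c = x⁻¹ * (a * x * a⁻¹) := by rw [hc]; group
      rw [h2]
      exact R.mul_mem hy h1
  have hca : Commute a c := by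
    have := Subgroup.mem_centralizer_singleton_iff.mp (hDc hcD)
    exact this.symm
  have hconj : a * x * a⁻¹ = x * c := by rw [hc]; group
  have hcop : (orderOf a).Coprime (orderOf c) := by
    obtain ⟨k, hk⟩ := ha
    rw [hk]
    apply Nat.Coprime.pow_left
    have h1 : orderOf c ∣ Nat.card K₀ := by
      have hcK : c ∈ K₀ := hRK (inf_le_right (a := Subgroup.closure {a, x⁻¹ * a * x⁻¹⁻¹}) hcD)
      have := orderOf_dvd_natCard (⟨c, hcK⟩ : K₀)
      rwa [Subgroup.orderOf_mk] at this
    exact (Nat.Coprime.coprime_dvd_left h1 hK₀).symm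
  have := commute_of_conj_eq_mul_of_coprime a x c hconj hca hcop
  exact this.eq.symm

/-! ### The configuration in `M / O_p(M)` -/

theorem isPGroup_of_isElementaryAbelian {X : Type*} [Group X] {p : ℕ} {A : Subgroup X}
    (hA : Cfsg.IsElementaryAbelian p A) : IsPGroup p A := by
  intro g
  refine ⟨1, ?_⟩
  rw [pow_one]
  apply Subtype.ext
  simpa using hA.2 g.1 g.2

/-- In a `p`-solvable group `X` with `O_p(X) = 1`, a nontrivial elementary abelian `p`-subgroup
`A` has a hyperplane `B` and an element `a`, and there is an `A`-invariant `p'`-subgroup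
`R ≤ O_{p'}(X)` centralized by `B` with `A ∩ C(R) = B`, generated inside `⟨a, a^x⟩` for some
`x ∈ R`. -/
theorem exists_hyperplane_config {X : Type*} [Group X] [Finite X] {p : ℕ} [hp : Fact p.Prime]
    (hsol : IsPSolvable p X) (hcore : pCore p X = ⊥) (A : Subgroup X)
    (hA : Cfsg.IsElementaryAbelian p A) (hAne : A ≠ ⊥) :
    ∃ (B R : Subgroup X) (a x : X), B ≤ A ∧ a ∈ A ∧ B.relIndex A = p ∧ R ≤ pPrimeCore p X ∧
      R ≤ Subgroup.centralizer (B : Set X) ∧ A ≤ Subgroup.normalizer (R : Set X) ∧ x ∈ R ∧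
      R ≤ Subgroup.closure {a, x * a * x⁻¹} ∧ A ⊓ Subgroup.centralizer (R : Set X) ≤ B := by
  set K := pPrimeCore p X with hK
  have hKn : K.Normal := Cfsg.Agent.Lib.Helper76_PSolvable.pPrimeCore_normal p
  have hKc : (Nat.card K).Coprime p := pPrimeCore_card_coprime p
  have hAp : IsPGroup p A := isPGroup_of_isElementaryAbelian hA
  have hcomm : ∀ u ∈ A, ∀ v ∈ A, u * v = v * u := by
    intro u hu v hv
    have := hA.1.is_comm.comm ⟨u, hu⟩ ⟨v, hv⟩
    exact congrArg Subtype.val this
  have hAK : A ≤ Subgroup.normalizer (K : Set X) := by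
    rw [Subgroup.normalizer_eq_top_iff.mpr hKn]; exact le_top
  -- `A` does not centralize `K`
  have hAnc : ¬ A ≤ Subgroup.centralizer (K : Set X) := by
    intro h
    have h1 : A ≤ K := h.trans (centralizer_pPrimeCore_le p hsol hcore)
    apply hAne
    rw [eq_bot_iff]
    intro u hu
    rw [Subgroup.mem_bot]
    apply Cfsg.Agent.Lib.Helper47_PLocal.eq_one_of_coprime_of_mem hAp hu
    have h2 : orderOf u ∣ Nat.card K := by
      have := orderOf_dvd_natCard (⟨u, h1 hu⟩ : K)
      rwa [Subgroup.orderOf_mk] at this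
    exact Nat.Coprime.coprime_dvd_left h2 hKc
  have hKndvd : ¬ p ∣ Nat.card K := by
    intro h
    have := Nat.Coprime.eq_one_of_dvd hKc.symm h
    exact hp.out.one_lt.ne' this
  -- a hyperplane `B` with `C_K(B)` not centralized by `A`
  obtain ⟨B, hBA, hBidx, hBnc⟩ : ∃ B : Subgroup X, B ≤ A ∧ B.relIndex A ≤ p ∧
      ¬ K ⊓ Subgroup.centralizer (B : Set X) ≤ Subgroup.centralizer (A : Set X) := by
    by_contra hcon
    push Not at hcon
    apply hAnc
    rw [Subgroup.le_centralizer_iff]
    exact Cfsg.Agent.Lib.Helper38_HyperplaneGen.le_of_hyperplane_centralizers_le A K hA hKndvd hAK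
      (Subgroup.centralizer (A : Set X)) hcon
  have hBidx' : B.relIndex A = p := by
    obtain ⟨n, hn⟩ := (IsPGroup.iff_card.mp hAp)
    have h1 : B.relIndex A ∣ p ^ n := by rw [← hn]; exact Subgroup.relIndex_dvd_card B A
    obtain ⟨j, _, hj⟩ := (Nat.dvd_prime_pow hp.out).mp h1
    rcases Nat.lt_or_ge j 1 with hj0 | hj1
    · exfalso
      have hj0' : j = 0 := by omega
      rw [hj0', pow_zero] at hj
      have hAB : A ≤ B := Subgroup.relIndex_eq_one.mp hj
      apply hBnc
      rw [le_antisymm hBA hAB]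
      exact inf_le_right
    · rcases Nat.lt_or_ge 1 j with hj2 | hj2
      · exfalso
        rw [hj] at hBidx
        have : p ^ 2 ≤ p ^ j := Nat.pow_le_pow_right hp.out.pos hj2
        have h3 : p * p ≤ p := by rw [← sq]; exact this.trans hBidx
        have := hp.out.one_lt
        nlinarith
      · have : j = 1 := le_antisymm hj2 hj1
        rw [hj, this, pow_one]
  obtain ⟨y, hyK₀, hyA⟩ := SetLike.not_le_iff_exists.mp hBnc
  obtain ⟨a, haA, hay⟩ : ∃ a ∈ A, a * y ≠ y * a := by
    by_contra hcon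
    push Not at hcon
    apply hyA
    rw [Subgroup.mem_centralizer_iff]
    exact hcon
  set K₀ := K ⊓ Subgroup.centralizer (B : Set X) with hK₀
  have hK₀c : (Nat.card K₀).Coprime p :=
    Nat.Coprime.coprime_dvd_left (Subgroup.card_dvd_of_le inf_le_left) hKc
  have haN : a ∈ Subgroup.normalizer (K₀ : Set X) :=
    Cfsg.Agent.Lib.Helper38_HyperplaneGen.mem_normalizer_inf_centralizer A K B hcomm hAK hBA a haA
  have hnc : ¬ K₀ ≤ Subgroup.centralizer ({a} : Set X) := by
    intro h
    apply hay
    exact (Subgroup.mem_centralizer_singleton_iff.mp (h hyK₀)).symm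
  have hao : ∃ k, orderOf a = p ^ k := Cfsg.Agent.Lib.Helper47_PLocal.orderOf_eq_pow_of_mem hAp haA
  obtain ⟨R, hRK₀, haR, hRnc, x, hxR, hRcl⟩ := exists_le_closure_conj K₀ a hK₀c hao haN hnc
  have hRB : R ≤ Subgroup.centralizer (B : Set X) := hRK₀.trans inf_le_right
  have hBR : B ≤ Subgroup.centralizer (R : Set X) := Subgroup.le_centralizer_iff.mp hRB
  have hpr : (B.relIndex A).Prime := by rw [hBidx']; exact hp.out
  have haCR : a ∉ Subgroup.centralizer (R : Set X) := by
    intro h
    apply hRnc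
    intro r hr
    rw [Subgroup.mem_centralizer_singleton_iff]
    exact Subgroup.mem_centralizer_iff.mp h r hr
  refine ⟨B, R, a, x, hBA, haA, hBidx', hRK₀.trans inf_le_left, hRB, ?_, hxR, hRcl, ?_⟩
  · -- `A = B ⟨a⟩` normalizes `R`
    have h1 : B ⊔ Subgroup.zpowers a ≤ Subgroup.normalizer (R : Set X) :=
      sup_le (hBR.trans (Subgroup.centralizer_le_normalizer _)) (Subgroup.zpowers_le.mpr haR)
    rcases le_or_le_of_relIndex_prime (C := B ⊔ Subgroup.zpowers a) le_sup_left
      (sup_le hBA (Subgroup.zpowers_le.mpr haA)) hpr with h | h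
    · exfalso
      apply haCR
      exact hBR (h ((le_sup_right : Subgroup.zpowers a ≤ _) (Subgroup.mem_zpowers a)))
    · exact h.trans h1
  · rcases le_or_le_of_relIndex_prime (C := A ⊓ Subgroup.centralizer (R : Set X))
      (le_inf hBA hBR) inf_le_left hpr with h | h
    · exact h
    · exfalso
      exact haCR (h haA).2

/-! ### The subgroup generated by two conjugates -/

open Cfsg.Agent.Lib.Helper47_Subn in
/-- **Subgroup generated by two conjugates in a `p`-soluble group.** -/
theorem exists_conj_config {M : Type*} [Group M] [Finite M] {p : ℕ} [hp : Fact p.Prime]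
    (hM : IsPSolvable p M) (A : Subgroup M) (hA : IsPGroup p A)
    (hΦ : (frattini ↥A).map A.subtype ≤ pCore p M) (hnot : ¬ A ≤ pCore p M) :
    ∃ x ∈ (pPrimeCore p (M ⧸ pCore p M)).comap (QuotientGroup.mk' (pCore p M)),
      x ∈ opOf p (A ⊔ A.map (MulAut.conj x).toMonoidHom) ∧
      opOf p (A ⊔ A.map (MulAut.conj x).toMonoidHom) ≤
        (pPrimeCore p (M ⧸ pCore p M)).comap (QuotientGroup.mk' (pCore p M)) ∧
      ⁅opOf p (A ⊔ A.map (MulAut.conj x).toMonoidHom), A⁆ =
        opOf p (A ⊔ A.map (MulAut.conj x).toMonoidHom) ∧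
      (A ⊓ (pCore p ↥(A ⊔ A.map (MulAut.conj x).toMonoidHom)).map
        (A ⊔ A.map (MulAut.conj x).toMonoidHom).subtype).relIndex A = p ∧
      ⁅A ⊓ (pCore p ↥(A ⊔ A.map (MulAut.conj x).toMonoidHom)).map
        (A ⊔ A.map (MulAut.conj x).toMonoidHom).subtype,
        A ⊔ A.map (MulAut.conj x).toMonoidHom⁆ ≤ pCore p M := by
  set N := pCore p M with hN
  have hNn : N.Normal := Cfsg.Agent.Lib.Helper76_PSolvable.pCore_normal p
  have hNp : IsPGroup p N := Cfsg.Agent.Lib.Helper76_PSolvable.pCore_isPGroup p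
  set π := QuotientGroup.mk' N with hπ
  have hπs : Function.Surjective π := QuotientGroup.mk'_surjective N
  have hker : π.ker = N := QuotientGroup.ker_mk' N
  have hXsol : IsPSolvable p (M ⧸ N) :=
    Cfsg.Agent.Lib.Helper76_PSolvable.isPSolvable_quotient p N hM
  have hXcore : pCore p (M ⧸ N) = ⊥ := by
    have h1 := Cfsg.Agent.Lib.Helper47_Quot.comap_pCore_quotient N hNp
    rw [← Subgroup.map_comap_eq_self_of_surjective hπs (pCore p (M ⧸ N)), h1]
    exact QuotientGroup.map_mk'_self N
  set Ab := A.map π with hAb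
  -- `Ab` is elementary abelian
  have hcommA : ∀ u ∈ A, ∀ v ∈ A, ⁅u, v⁆ ∈ N := by
    intro u hu v hv
    apply hΦ
    refine ⟨⁅(⟨u, hu⟩ : A), ⟨v, hv⟩⁆, ?_, rfl⟩
    apply Cfsg.Agent.Lib.Helper1_Frattini.commutator_le_frattini_of_isPGroup
      (IsPGroup.of_equiv hA (MulEquiv.refl _))
    exact Subgroup.commutator_mem_commutator (Subgroup.mem_top _) (Subgroup.mem_top _)
  have hpowA : ∀ u ∈ A, u ^ p ∈ N := by
    intro u hu
    apply hΦ
    refine ⟨(⟨u, hu⟩ : A) ^ p, ?_, rfl⟩
    exact Cfsg.Agent.Lib.Helper1_Frattini.pow_mem_frattini_of_isPGroup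
      (IsPGroup.of_equiv hA (MulEquiv.refl _)) _
  have hcommAb : ∀ u ∈ Ab, ∀ v ∈ Ab, u * v = v * u := by
    rintro _ ⟨u, hu, rfl⟩ _ ⟨v, hv, rfl⟩
    have h1 : π ⁅u, v⁆ = 1 := (QuotientGroup.eq_one_iff _).mpr (hcommA u hu v hv)
    rw [map_commutatorElement, commutatorElement_eq_one_iff_commute] at h1
    exact h1.eq
  have hAbea : Cfsg.IsElementaryAbelian p Ab := by
    refine ⟨⟨⟨fun u v => ?_⟩⟩, ?_⟩
    · apply Subtype.ext
      exact hcommAb u.1 u.2 v.1 v.2
    · rintro _ ⟨u, hu, rfl⟩
      rw [← map_pow]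
      exact (QuotientGroup.eq_one_iff _).mpr (hpowA u hu)
  have hAbp : IsPGroup p Ab := hA.map π
  have hAbne : Ab ≠ ⊥ := by
    intro h
    apply hnot
    rw [hAb, Subgroup.map_eq_bot_iff, hker] at h
    exact h
  obtain ⟨B, R, a, xb, hBA, haA, hBidx, hRK, hRB, hAR, hxR, hRcl, hACR⟩ :=
    exists_hyperplane_config hXsol hXcore Ab hAbea hAbne
  have hRc : (Nat.card R).Coprime p :=
    Nat.Coprime.coprime_dvd_left (Subgroup.card_dvd_of_le hRK) (pPrimeCore_card_coprime p)
  have hRo : ∀ r ∈ R, (orderOf r).Coprime p := by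
    intro r hr
    have h1 : orderOf r ∣ Nat.card R := by
      have := orderOf_dvd_natCard (⟨r, hr⟩ : R)
      rwa [Subgroup.orderOf_mk] at this
    exact Nat.Coprime.coprime_dvd_left h1 hRc
  have hBp : IsPGroup p B := hAbp.to_le hBA
  -- image of `⟨A, A^x⟩`
  have hmapconj : ∀ x : M, (A.map (MulAut.conj x).toMonoidHom).map π =
      Ab.map (MulAut.conj (π x)).toMonoidHom := by
    intro x
    have hcomp : π.comp (MulAut.conj x).toMonoidHom = (MulAut.conj (π x)).toMonoidHom.comp π := by
      ext m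
      simp
    rw [hAb, Subgroup.map_map, Subgroup.map_map, hcomp]
  have key1 : ∀ x : M, π x = xb → R ≤ (A ⊔ A.map (MulAut.conj x).toMonoidHom).map π ∧
      (A ⊔ A.map (MulAut.conj x).toMonoidHom).map π ≤ R ⊔ Ab := by
    intro x hx
    rw [Subgroup.map_sup, hmapconj, hx]
    constructor
    · refine hRcl.trans ?_
      rw [Subgroup.closure_le]
      rintro y hy
      rcases hy with hy | hy
      · rw [hy]; exact (le_sup_left : Ab ≤ _) haA
      · rw [Set.mem_singleton_iff] at hy
        rw [hy]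
        exact (le_sup_right : Ab.map (MulAut.conj xb).toMonoidHom ≤ _) ⟨a, haA, rfl⟩
    · refine sup_le le_sup_right ?_
      rintro _ ⟨u, hu, rfl⟩
      have h1 : xb ∈ R ⊔ Ab := (le_sup_left : R ≤ _) hxR
      have h2 : u ∈ R ⊔ Ab := (le_sup_right : Ab ≤ _) hu
      exact Subgroup.mul_mem _ (Subgroup.mul_mem _ h1 h2) (Subgroup.inv_mem _ h1)
  -- choose `x` over `xb` with `⟨A, A^x⟩` minimal
  obtain ⟨x₀, hx₀⟩ := hπs xb
  obtain ⟨x₁, hx₁, hx₁min⟩ := Set.exists_min_image {x : M | π x = xb}
    (fun x => Nat.card ↥(A ⊔ A.map (MulAut.conj x).toMonoidHom)) (Set.toFinite _) ⟨x₀, hx₀⟩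
  obtain ⟨x, hx, hxL⟩ : ∃ x : M, π x = xb ∧ x ∈ opOf p (A ⊔ A.map (MulAut.conj x).toMonoidHom) := by
    set L₁ := A ⊔ A.map (MulAut.conj x₁).toMonoidHom with hL₁
    have hxbL : xb ∈ L₁.map π := (key1 x₁ hx₁).1 hxR
    have hsurj := MonoidHom.subgroupMap_surjective π L₁
    have h1 := Cfsg.Agent.Lib.Helper47_Quot.pResidual_le_map_of_surjective (p := p) hsurj
    have h2 : (⟨xb, hxbL⟩ : L₁.map π) ∈ Cfsg.pResidual p ↥(L₁.map π) := by
      apply Cfsg.Agent.Lib.Helper47_PClosed.mem_pResidual_of_coprime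
      rw [Subgroup.orderOf_mk]
      exact hRo xb hxR
    obtain ⟨l, hl, hl2⟩ := h1 h2
    have hl3 : π (l : M) = xb := by
      have := congrArg Subtype.val hl2
      simpa using this
    have hlL : opOf p (A ⊔ A.map (MulAut.conj (l : M)).toMonoidHom) = opOf p L₁ := by
      have hle : A ⊔ A.map (MulAut.conj (l : M)).toMonoidHom ≤ L₁ := by
        refine sup_le le_sup_left ?_
        rintro _ ⟨u, hu, rfl⟩
        have h3 : u ∈ L₁ := (le_sup_left : A ≤ _) hu
        exact Subgroup.mul_mem _ (Subgroup.mul_mem _ l.2 h3) (Subgroup.inv_mem _ l.2)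
      have hcard := hx₁min (l : M) hl3
      have : A ⊔ A.map (MulAut.conj (l : M)).toMonoidHom = L₁ :=
        Subgroup.eq_of_le_of_card_ge hle hcard
      rw [this]
    refine ⟨(l : M), hl3, ?_⟩
    rw [hlL]
    exact ⟨l, hl, rfl⟩
  clear hx₁min hx₁ x₁ hx₀ x₀
  refine ⟨x, ?_, hxL, ?_⟩
  · rw [Subgroup.mem_comap, hx]; exact hRK hxR
  set L := A ⊔ A.map (MulAut.conj x).toMonoidHom with hL
  obtain ⟨hRL, hLR⟩ := key1 x hx
  have hAL : A ≤ L := le_sup_left
  have hLnR : L.map π ≤ Subgroup.normalizer (R : Set (M ⧸ N)) :=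
    hLR.trans (sup_le Subgroup.le_normalizer hAR)
  -- p'-elements of `L` map into `R`
  have hp'R : ∀ g ∈ L, (orderOf g).Coprime p → π g ∈ R := by
    intro g hg hgo
    have h1 : π g ∈ R ⊔ Ab := hLR ⟨g, hg, rfl⟩
    have h2 : (orderOf (π g)).Coprime p :=
      Nat.Coprime.coprime_dvd_left (orderOf_map_dvd π g) hgo
    exact mem_of_mem_sup_of_coprime' hAR hAbp h1 h2
  have hAbCB : Ab ≤ Subgroup.centralizer (B : Set (M ⧸ N)) := by
    intro u hu
    rw [Subgroup.mem_centralizer_iff]
    intro b hb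
    exact hcommAb b (hBA hb) u hu
  have hLCB : L.map π ≤ Subgroup.centralizer (B : Set (M ⧸ N)) := hLR.trans (sup_le hRB hAbCB)
  have hLnO : L ≤ Subgroup.normalizer ((opOf p L : Subgroup M) : Set M) :=
    Subgroup.le_normalizer.trans (normalizer_le_normalizer_opOf L)
  refine ⟨?_, ?_, ?_⟩
  · -- (2)
    rw [opOf_eq_closure, Subgroup.closure_le]
    rintro g ⟨hg, hgo⟩
    exact hRK (hp'R g hg hgo)
  · -- (3)
    apply le_antisymm
    · rw [Subgroup.commutator_le]
      intro u hu v hv
      have h1 : v * u⁻¹ * v⁻¹ ∈ opOf p L := by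
        have := (Subgroup.mem_normalizer_iff.mp (hLnO (hAL hv)) u⁻¹).mp (Subgroup.inv_mem _ hu)
        exact this
      have h2 : ⁅u, v⁆ = u * (v * u⁻¹ * v⁻¹) := by rw [commutatorElement_def]; group
      rw [h2]
      exact Subgroup.mul_mem _ hu h1
    · set N₁ := ⁅opOf p L, A⁆ with hN₁
      have hAN₁ : A ≤ Subgroup.normalizer (N₁ : Set M) := by
        refine le_trans ?_ (Cfsg.Agent.Lib.Helper47_PClosed.normalizer_inf_le_normalizer_commutator
          (opOf p L) A)
        exact le_inf (hAL.trans hLnO) Subgroup.le_normalizer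
      have hLle : L ≤ N₁ ⊔ A := by
        rw [hL]
        refine sup_le le_sup_right ?_
        rintro _ ⟨u, hu, rfl⟩
        have h1 : ⁅x, u⁆ ∈ N₁ := Subgroup.commutator_mem_commutator hxL hu
        have h2 : (MulAut.conj x).toMonoidHom u = ⁅x, u⁆ * u := by
          simp [commutatorElement_def]
        rw [h2]
        exact Subgroup.mul_mem _ ((le_sup_left : N₁ ≤ _) h1) ((le_sup_right : A ≤ _) hu)
      rw [opOf_eq_closure, Subgroup.closure_le]
      rintro g ⟨hg, hgo⟩
      exact mem_of_mem_sup_of_coprime' hAN₁ hA (hLle hg) hgo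
  · -- (4) and (5)
    have hQdef : Cfsg.pCoreOf p L = (pCore p ↥L).map L.subtype := rfl
    rw [← hQdef]
    set Q := Cfsg.pCoreOf p L with hQ
    have hQL : Q ≤ L := Cfsg.Agent.Lib.Helper47_SubAPI.pCoreOf_le L
    have hQp : IsPGroup p Q := Cfsg.Agent.Lib.Helper47_SubAPI.isPGroup_pCoreOf L
    have hLQ : L ≤ Subgroup.normalizer (Q : Set M) :=
      Cfsg.Agent.Lib.Helper47_PClosed.le_normalizer_pCoreOf_of_le_normalizer Subgroup.le_normalizer
    have key : A ⊓ Q = A ⊓ B.comap π := by
      apply le_antisymm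
      · -- `π(Q)` centralizes `R`
        have hQbn : L.map π ≤ Subgroup.normalizer ((Q.map π : Subgroup (M ⧸ N)) : Set (M ⧸ N)) :=
          (Subgroup.map_mono hLQ).trans (Subgroup.le_normalizer_map π)
        have hQbp : IsPGroup p (Q.map π) := hQp.map π
        have hQbR : Q.map π ≤ Subgroup.centralizer (R : Set (M ⧸ N)) := by
          intro q hq
          rw [Subgroup.mem_centralizer_iff]
          intro r hr
          have h1 : ⁅q, r⁆ ∈ Q.map π := by
            have h3 : r * q⁻¹ * r⁻¹ ∈ Q.map π :=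
              (Subgroup.mem_normalizer_iff.mp (hQbn (hRL hr)) q⁻¹).mp (Subgroup.inv_mem _ hq)
            have h4 : ⁅q, r⁆ = q * (r * q⁻¹ * r⁻¹) := by rw [commutatorElement_def]; group
            rw [h4]
            exact Subgroup.mul_mem _ hq h3
          have h2 : ⁅q, r⁆ ∈ R := by
            have h3 : q * r * q⁻¹ ∈ R :=
              (Subgroup.mem_normalizer_iff.mp (hLnR (Subgroup.map_mono hQL hq)) r).mp hr
            rw [commutatorElement_def]
            exact R.mul_mem h3 (R.inv_mem hr)
          have h5 : ⁅q, r⁆ = 1 :=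
            Cfsg.Agent.Lib.Helper47_PLocal.eq_one_of_coprime_of_mem hQbp h1 (hRo _ h2)
          rw [commutatorElement_eq_one_iff_commute] at h5
          exact h5.eq.symm
        intro g hg
        refine Subgroup.mem_inf.mpr ⟨hg.1, ?_⟩
        rw [Subgroup.mem_comap]
        apply hACR
        exact Subgroup.mem_inf.mpr ⟨⟨g, hg.1, rfl⟩, hQbR ⟨g, hg.2, rfl⟩⟩
      · set P := L ⊓ B.comap π with hP
        have hPp : IsPGroup p P := by
          have h1 : IsPGroup p (B.comap π) := by
            apply hBp.comap_of_ker_isPGroup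
            rw [hker]; exact hNp
          exact h1.to_le inf_le_right
        have hLP : L ≤ Subgroup.normalizer (P : Set M) := by
          apply Cfsg.Agent.Lib.Helper47_PClosed.le_normalizer_of_forall_map_conj_le
          intro g hg
          rintro _ ⟨h, hh, rfl⟩
          refine Subgroup.mem_inf.mpr ⟨?_, ?_⟩
          · exact Subgroup.mul_mem _ (Subgroup.mul_mem _ hg hh.1) (Subgroup.inv_mem _ hg)
          · rw [Subgroup.mem_comap]
            have h1 : π h ∈ B := hh.2
            have h2 := Subgroup.mem_centralizer_iff.mp (hLCB ⟨g, hg, rfl⟩) (π h) h1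
            have h3 : π ((MulAut.conj g).toMonoidHom h) = π h := by
              simp only [MulEquiv.coe_toMonoidHom, MulAut.conj_apply, map_mul, map_inv]
              rw [← h2]; group
            rw [h3]; exact h1
        have hPQ : P ≤ Q := Cfsg.Agent.Lib.Helper47_SubAPI.le_pCoreOf inf_le_left hLP hPp
        intro g hg
        exact Subgroup.mem_inf.mpr ⟨hg.1, hPQ (Subgroup.mem_inf.mpr ⟨hAL hg.1, hg.2⟩)⟩
    rw [key]
    constructor
    · rw [Subgroup.inf_relIndex_left, Subgroup.relIndex_comap]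
      exact hBidx
    · rw [Subgroup.commutator_le]
      intro g hg l hl
      have h1 : π g ∈ B := hg.2
      have h2 := Subgroup.mem_centralizer_iff.mp (hLCB ⟨l, hl, rfl⟩) (π g) h1
      change ⁅g, l⁆ ∈ N
      rw [← hker, MonoidHom.mem_ker, map_commutatorElement, commutatorElement_eq_one_iff_commute]
      exact h2

end Cfsg.Agent.Lib.Helper47_HH
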