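import Mathlib
import Cfsg.Agent.Lib.Helper24_Coprime

/-!
# The abelian case of Hall–Higman's Theorem B, in elementary form (helper64)

`core`: if a cyclic group `⟨x⟩` acts Frobeniusly (by conjugation) on a finite group `Q`, both
acting on a finite abelian group `V` of order prime to `|Q|`, and the norm
`∏_{j<m} x^j` vanishes on `V`, then `Q` acts trivially on `V`.
-/

set_option autoImplicit false

namespace Cfsg.Agent.Lib.Helper64_HHAbelian

open Subgroup

section Core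

variable {Γ V : Type*} [Group Γ] [CommGroup V]

/-- The averaging identity behind the abelian case of Hall–Higman's Theorem B. -/
theorem core (c : Γ →* MulAut V) (Q : Subgroup Γ) [Finite Q]
    (hcop : (Nat.card Q).Coprime (Nat.card V))
    (x : Γ) (hxQ : ∀ u ∈ Q, x * u * x⁻¹ ∈ Q) (m : ℕ) (hm : 0 < m)
    (hfix : ∀ j, 0 < j → j < m → ∀ u ∈ Q, x ^ j * u * (x ^ j)⁻¹ = u → u = 1)
    (hnorm : ∀ v : V, ∏ j ∈ Finset.range m, c (x ^ j) v = 1) :
    ∀ u ∈ Q, ∀ v : V, c u v = v := by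
  classical
  have : Fintype Q := Fintype.ofFinite Q
  -- conjugation by powers of `x` preserves `Q`
  have hxj : ∀ j : ℕ, ∀ u ∈ Q, x ^ j * u * (x ^ j)⁻¹ ∈ Q := by
    intro j
    induction j with
    | zero => intro u hu; simpa using hu
    | succ j ih =>
      intro u hu
      have h2 : x ^ (j + 1) * u * (x ^ (j + 1))⁻¹ = x * (x ^ j * u * (x ^ j)⁻¹) * x⁻¹ := by
        rw [pow_succ']; group
      rw [h2]; exact hxQ _ (ih u hu)
  -- the averaging operator
  let S : V → V := fun w => ∏ k : Q, c (k : Γ) w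
  have hS : ∀ u ∈ Q, ∀ w, c u (S w) = S w := by
    intro u hu w
    show c u (∏ k : Q, c (k : Γ) w) = ∏ k : Q, c (k : Γ) w
    rw [map_prod]
    have hb : Function.Bijective (fun k : Q => (⟨u, hu⟩ : Q) * k) :=
      (Equiv.mulLeft (⟨u, hu⟩ : Q)).bijective
    rw [← Function.Bijective.prod_comp hb (fun k : Q => c (k : Γ) w)]
    apply Finset.prod_congr rfl
    intro k _
    show c u (c (k : Γ) w) = c ((⟨u, hu⟩ * k : Q) : Γ) w
    rw [Subgroup.coe_mul, map_mul, MulAut.mul_apply]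
  -- twisting
  have htw : ∀ j, 0 < j → j < m → ∀ v : V,
      ∏ k : Q, c (k : Γ) (c (x ^ j) (c ((k : Γ)⁻¹) v)) = S (c (x ^ j) v) := by
    intro j hj0 hjm v
    let β : Q → Q := fun k =>
      ⟨(k : Γ) * (x ^ j * (k : Γ)⁻¹ * (x ^ j)⁻¹), Q.mul_mem k.2 (hxj j _ (Q.inv_mem k.2))⟩
    have hβ : Function.Injective β := by
      intro a b hab
      have h1 : (a : Γ) * (x ^ j * (a : Γ)⁻¹ * (x ^ j)⁻¹) =
          (b : Γ) * (x ^ j * (b : Γ)⁻¹ * (x ^ j)⁻¹) := congrArg Subtype.val hab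
      have h3 : (a : Γ) * x ^ j * (a : Γ)⁻¹ = (b : Γ) * x ^ j * (b : Γ)⁻¹ := by
        have := congrArg (fun z => z * x ^ j) h1
        simpa [mul_assoc] using this
      have h2 : x ^ j * ((b : Γ)⁻¹ * a) * (x ^ j)⁻¹ = (b : Γ)⁻¹ * a := by
        calc x ^ j * ((b : Γ)⁻¹ * a) * (x ^ j)⁻¹
            = (b : Γ)⁻¹ * ((b : Γ) * x ^ j * (b : Γ)⁻¹) * a * (x ^ j)⁻¹ := by group
          _ = (b : Γ)⁻¹ * ((a : Γ) * x ^ j * (a : Γ)⁻¹) * a * (x ^ j)⁻¹ := by rw [h3]
          _ = (b : Γ)⁻¹ * a := by group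
      have h4 := hfix j hj0 hjm _ (Q.mul_mem (Q.inv_mem b.2) a.2) h2
      apply Subtype.ext
      exact (inv_mul_eq_one.mp h4).symm
    have hβb : Function.Bijective β := Finite.injective_iff_bijective.mp hβ
    show _ = ∏ k : Q, c (k : Γ) (c (x ^ j) v)
    rw [← Function.Bijective.prod_comp hβb (fun k : Q => c (k : Γ) (c (x ^ j) v))]
    apply Finset.prod_congr rfl
    intro k _
    show _ = c ((k : Γ) * (x ^ j * (k : Γ)⁻¹ * (x ^ j)⁻¹)) (c (x ^ j) v)
    simp only [map_mul, map_inv, MulAut.mul_apply, MulAut.inv_apply, MulEquiv.symm_apply_apply]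
  -- the key identity
  obtain ⟨m', rfl⟩ : ∃ m', m = m' + 1 := ⟨m - 1, by omega⟩
  have key : ∀ v : V, v ^ Fintype.card Q * ∏ j ∈ Finset.range m', S (c (x ^ (j + 1)) v) = 1 := by
    intro v
    have h1 : ∏ k : Q, c (k : Γ) (∏ j ∈ Finset.range (m' + 1), c (x ^ j) (c ((k : Γ)⁻¹) v)) = 1 := by
      apply Finset.prod_eq_one
      intro k _
      rw [hnorm, map_one]
    have h2 : ∏ k : Q, c (k : Γ) (∏ j ∈ Finset.range (m' + 1), c (x ^ j) (c ((k : Γ)⁻¹) v)) =
        ∏ j ∈ Finset.range (m' + 1), ∏ k : Q, c (k : Γ) (c (x ^ j) (c ((k : Γ)⁻¹) v)) := by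
      simp_rw [map_prod]
      exact Finset.prod_comm
    rw [h2, Finset.prod_range_succ'] at h1
    have h0 : ∏ k : Q, c (k : Γ) (c (x ^ 0) (c ((k : Γ)⁻¹) v)) = v ^ Fintype.card Q := by
      have : ∀ k : Q, c (k : Γ) (c (x ^ 0) (c ((k : Γ)⁻¹) v)) = v := by
        intro k
        simp only [pow_zero, map_one, MulAut.one_apply, map_inv, MulAut.inv_apply,
          MulEquiv.apply_symm_apply]
      simp_rw [this]
      simp
    rw [h0] at h1
    have h3 : ∏ j ∈ Finset.range m', ∏ k : Q, c (k : Γ) (c (x ^ (j + 1)) (c ((k : Γ)⁻¹) v)) =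
        ∏ j ∈ Finset.range m', S (c (x ^ (j + 1)) v) := by
      apply Finset.prod_congr rfl
      intro j hj
      exact htw (j + 1) (Nat.succ_pos j) (by simpa using Finset.mem_range.mp hj) v
    rw [h3, mul_comm] at h1
    exact h1
  intro u hu v
  have h1 := key v
  have h2 : c u (v ^ Fintype.card Q) = v ^ Fintype.card Q := by
    have e : v ^ Fintype.card Q = (∏ j ∈ Finset.range m', S (c (x ^ (j + 1)) v))⁻¹ :=
      eq_inv_of_mul_eq_one_left h1
    rw [e, map_inv, map_prod]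
    congr 1
    apply Finset.prod_congr rfl
    intro j _
    exact hS u hu _
  have h3 : (c u v * v⁻¹) ^ Fintype.card Q = 1 := by
    rw [mul_pow, inv_pow, ← map_pow, h2, mul_inv_cancel]
  have h4 : (c u v * v⁻¹) ^ Nat.card V = 1 := pow_card_eq_one'
  have h5 : orderOf (c u v * v⁻¹) ∣ Nat.gcd (Fintype.card Q) (Nat.card V) :=
    Nat.dvd_gcd (orderOf_dvd_of_pow_eq_one h3) (orderOf_dvd_of_pow_eq_one h4)
  rw [← Nat.card_eq_fintype_card] at h5
  rw [Nat.Coprime] at hcop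
  rw [hcop, Nat.dvd_one, orderOf_eq_one_iff] at h5
  exact mul_inv_eq_one.mp h5

end Core

section AbAct

variable {X : Type*} [Group X]

/-- The conjugation action of `X` on the abelianisation of a normal subgroup `D`. -/
noncomputable def abAct (D : Subgroup X) [D.Normal] : X →* MulAut (Abelianization ↥D) where
  toFun g := (MulAut.conjNormal g : ↥D ≃* ↥D).abelianizationCongr
  map_one' := by
    apply MulEquiv.ext
    intro v
    induction v using QuotientGroup.induction_on with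
    | H d =>
      show (MulAut.conjNormal (1 : X) : ↥D ≃* ↥D).abelianizationCongr (Abelianization.of d) = _
      rw [abelianizationCongr_of, map_one]
      rfl
  map_mul' g h := by
    apply MulEquiv.ext
    intro v
    induction v using QuotientGroup.induction_on with
    | H d =>
      show (MulAut.conjNormal (g * h) : ↥D ≃* ↥D).abelianizationCongr (Abelianization.of d) =
        (MulAut.conjNormal g : ↥D ≃* ↥D).abelianizationCongr
          ((MulAut.conjNormal h : ↥D ≃* ↥D).abelianizationCongr (Abelianization.of d))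
      rw [abelianizationCongr_of, abelianizationCongr_of, abelianizationCongr_of, map_mul]
      rfl

theorem abAct_of (D : Subgroup X) [D.Normal] (g : X) (d : ↥D) :
    abAct D g (Abelianization.of d) = Abelianization.of (MulAut.conjNormal g d) :=
  abelianizationCongr_of _ d

/-- the twisted partial norms `d · d^x · d^{x²} ⋯` inside a normal subgroup -/
noncomputable def normD (D : Subgroup X) [D.Normal] (x : X) (d : ↥D) : ℕ → ↥D
  | 0 => 1
  | m + 1 => normD D x d m * MulAut.conjNormal (x ^ m) d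

theorem normD_mul_pow (D : Subgroup X) [D.Normal] (x : X) (d : ↥D) (m : ℕ) :
    ((normD D x d m : ↥D) : X) * x ^ m = ((d : X) * x) ^ m := by
  induction m with
  | zero => simp [normD]
  | succ m ih =>
    rw [pow_succ ((d : X) * x), ← ih]
    show ((normD D x d m * MulAut.conjNormal (x ^ m) d : ↥D) : X) * x ^ (m + 1) = _
    rw [Subgroup.coe_mul, MulAut.conjNormal_apply, pow_succ]
    group

theorem of_normD (D : Subgroup X) [D.Normal] (x : X) (d : ↥D) (m : ℕ) :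
    Abelianization.of (normD D x d m) =
      ∏ j ∈ Finset.range m, abAct D (x ^ j) (Abelianization.of d) := by
  induction m with
  | zero => simp [normD]
  | succ m ih =>
    rw [Finset.prod_range_succ, ← ih, abAct_of]
    show Abelianization.of (normD D x d m * MulAut.conjNormal (x ^ m) d) = _
    rw [map_mul]

end AbAct

section LemmaB

variable {X : Type*} [Group X] [Finite X] {p : ℕ} [Fact p.Prime]

/-- If the norm of `x` vanishes on the normal `p`-subgroup `R` (in the sense that `x` and all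
`r x` have order dividing `m`), then a `p'`-group `Q₁` on which `⟨x⟩` acts Frobeniusly
centralizes `R`. -/
theorem centralizes_of_norm (R : Subgroup X) [R.Normal] (hR : IsPGroup p R) (Q₁ : Subgroup X)
    (hQ₁p : (Nat.card Q₁).Coprime p) (x : X) (hxQ₁ : ∀ u ∈ Q₁, x * u * x⁻¹ ∈ Q₁) (m : ℕ)
    (hm : 0 < m)
    (hfix : ∀ j, 0 < j → j < m → ∀ u ∈ Q₁, x ^ j * u * (x ^ j)⁻¹ = u → u = 1)
    (hxm : x ^ m = 1) (hRm : ∀ r ∈ R, (r * x) ^ m = 1) :
    ∀ u ∈ Q₁, ∀ r ∈ R, u * r = r * u := by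
  suffices H : ∀ N : ℕ, ∀ D : Subgroup X, D.Normal → D ≤ R → Nat.card D = N →
      ∀ u ∈ Q₁, ∀ d ∈ D, u * d = d * u from
    fun u hu r hr => H _ R inferInstance le_rfl rfl u hu r hr
  intro N
  induction N using Nat.strong_induction_on with
  | _ N ih =>
    intro D hDn hDR hN u hu d hd
    by_cases hD : D = ⊥
    · rw [hD, Subgroup.mem_bot] at hd
      rw [hd, mul_one, one_mul]
    have hDp : IsPGroup p D := hR.to_le hDR
    obtain ⟨a, ha⟩ := IsPGroup.iff_card.mp hDp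
    -- the derived subgroup of `D`
    have hD'n : (⁅D, D⁆ : Subgroup X).Normal := inferInstance
    have hD'D : ⁅D, D⁆ ≤ D := Subgroup.commutator_le_left D D
    have hD'lt : Nat.card (⁅D, D⁆ : Subgroup X) < N := by
      have : Nontrivial ↥D := by
        rw [Subgroup.nontrivial_iff_ne_bot]; exact hD
      have hnil : Group.IsNilpotent ↥D := hDp.isNilpotent
      have hlt : commutator ↥D < ⊤ := Group.IsSolvable.commutator_lt_top_of_nontrivial ↥D
      have h1 : Nat.card (commutator ↥D) < Nat.card ↥D := by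
        rcases lt_or_eq_of_le (Subgroup.card_le_card_group (commutator ↥D)) with h | h
        · exact h
        · exact absurd ((Subgroup.card_eq_iff_eq_top _).mp h) hlt.ne
      rw [← hN, ← Subgroup.map_subtype_commutator,
        Subgroup.card_map_of_injective D.subtype_injective]
      exact h1
    have hcen' : ∀ u ∈ Q₁, ∀ z ∈ (⁅D, D⁆ : Subgroup X), u * z = z * u :=
      ih _ hD'lt ⁅D, D⁆ hD'n (hD'D.trans hDR) rfl
    -- the action on the abelianisation
    have hcopV : (Nat.card Q₁).Coprime (Nat.card (Abelianization ↥D)) := by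
      have h1 : Nat.card (Abelianization ↥D) ∣ Nat.card ↥D :=
        Subgroup.card_quotient_dvd_card (commutator ↥D)
      rw [ha] at h1
      exact Nat.Coprime.coprime_dvd_right h1 (Nat.Coprime.pow_right a hQ₁p)
    have hnorm : ∀ v : Abelianization ↥D, ∏ j ∈ Finset.range m, abAct D (x ^ j) v = 1 := by
      intro v
      induction v using QuotientGroup.induction_on with
      | H d' =>
        show ∏ j ∈ Finset.range m, abAct D (x ^ j) (Abelianization.of d') = 1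
        rw [← of_normD]
        have h1 := normD_mul_pow D x d' m
        rw [hxm, mul_one, hRm _ (hDR d'.2)] at h1
        have h2 : normD D x d' m = 1 := Subtype.ext h1
        rw [h2, map_one]
    have hact := core (abAct D) Q₁ hcopV x hxQ₁ m hm hfix hnorm u hu (Abelianization.of ⟨d, hd⟩)
    rw [abAct_of] at hact
    have hz : (MulAut.conjNormal u (⟨d, hd⟩ : ↥D)) * (⟨d, hd⟩ : ↥D)⁻¹ ∈ commutator ↥D := by
      rw [← Abelianization.ker_of, MonoidHom.mem_ker, map_mul, map_inv, hact, mul_inv_cancel]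
    have hz' : u * d * u⁻¹ * d⁻¹ ∈ (⁅D, D⁆ : Subgroup X) := by
      rw [← Subgroup.map_subtype_commutator]
      refine ⟨_, hz, ?_⟩
      simp [MulAut.conjNormal_apply]
    set z := u * d * u⁻¹ * d⁻¹ with hzdef
    have huz : u * z = z * u := hcen' u hu z hz'
    have hax : u * d * u⁻¹ = z * d := by rw [hzdef]; group
    have hzk : z ^ Nat.card ↥D = 1 := by
      have h1 : (⟨z, hD'D hz'⟩ : ↥D) ^ Nat.card ↥D = 1 := pow_card_eq_one'
      exact congrArg Subtype.val h1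
    have hcop : (orderOf u).Coprime (Nat.card ↥D) := by
      have h1 : orderOf u ∣ Nat.card Q₁ := by
        have := orderOf_dvd_natCard (⟨u, hu⟩ : ↥Q₁)
        rwa [← Subgroup.orderOf_coe] at this
      rw [ha]
      exact Nat.Coprime.coprime_dvd_left h1 (Nat.Coprime.pow_right a hQ₁p)
    exact Cfsg.Agent.Lib.Helper24_Coprime.commute_of_coprime_step u d z huz hax _ hzk hcop

/-- **Abelian case of Hall–Higman's Theorem B.** Let `R` be a normal `p`-subgroup of `X`
containing its centralizer, and suppose every `p`-element of `X` has order dividing `p^(n+1)`.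
If the `p`-element `x` normalizes the abelian `p'`-subgroup `Q`, then `x^(p^n)` centralizes `Q`. -/
theorem lemmaB (n : ℕ) (R : Subgroup X) [R.Normal] (hR : IsPGroup p R)
    (hCR : Subgroup.centralizer (R : Set X) ≤ R)
    (hexp : ∀ g : X, (∃ k, g ^ p ^ k = 1) → g ^ p ^ (n + 1) = 1)
    (x : X) (hx : ∃ k, x ^ p ^ k = 1)
    (Q : Subgroup X) (hQc : ∀ a ∈ Q, ∀ b ∈ Q, a * b = b * a) (hQp : (Nat.card Q).Coprime p)
    (hxQ : ∀ u ∈ Q, x * u * x⁻¹ ∈ Q) :
    ∀ u ∈ Q, x ^ p ^ n * u = u * x ^ p ^ n := by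
  have hp : p.Prime := Fact.out
  have hxm : x ^ p ^ (n + 1) = 1 := hexp x hx
  set y := x ^ p ^ n with hy
  have hyp : y ^ p = 1 := by rw [hy, ← pow_mul, ← pow_succ]; exact hxm
  have hxy : x * y = y * x := by rw [hy, ← pow_succ', ← pow_succ]
  have hxj : ∀ j : ℕ, ∀ u ∈ Q, x ^ j * u * (x ^ j)⁻¹ ∈ Q := by
    intro j
    induction j with
    | zero => intro u hu; simpa using hu
    | succ j ih =>
      intro u hu
      have h2 : x ^ (j + 1) * u * (x ^ (j + 1))⁻¹ = x * (x ^ j * u * (x ^ j)⁻¹) * x⁻¹ := by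
        rw [pow_succ']; group
      rw [h2]; exact hxQ _ (ih u hu)
  have hyQ : ∀ u ∈ Q, y * u * y⁻¹ ∈ Q := hxj _
  by_contra hcon
  push Not at hcon
  obtain ⟨u₀, hu₀, hu₀y⟩ := hcon
  -- the subgroup `Q₁ = [Q, y]`
  let Q₁ : Subgroup X :=
    { carrier := {w | ∃ u ∈ Q, w = y * u * y⁻¹ * u⁻¹}
      one_mem' := ⟨1, Q.one_mem, by group⟩
      mul_mem' := by
        rintro _ _ ⟨u, hu, rfl⟩ ⟨v, hv, rfl⟩
        refine ⟨u * v, Q.mul_mem hu hv, ?_⟩
        have h1 : u⁻¹ * (y * v * y⁻¹) = (y * v * y⁻¹) * u⁻¹ :=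
          hQc _ (Q.inv_mem hu) _ (hyQ v hv)
        have h2 : u⁻¹ * v⁻¹ = v⁻¹ * u⁻¹ := hQc _ (Q.inv_mem hu) _ (Q.inv_mem hv)
        calc y * u * y⁻¹ * u⁻¹ * (y * v * y⁻¹ * v⁻¹)
            = y * u * y⁻¹ * (u⁻¹ * (y * v * y⁻¹)) * v⁻¹ := by group
          _ = y * u * y⁻¹ * ((y * v * y⁻¹) * u⁻¹) * v⁻¹ := by rw [h1]
          _ = y * (u * v) * y⁻¹ * (u⁻¹ * v⁻¹) := by group
          _ = y * (u * v) * y⁻¹ * (v⁻¹ * u⁻¹) := by rw [h2]
          _ = y * (u * v) * y⁻¹ * (u * v)⁻¹ := by group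
      inv_mem' := by
        rintro _ ⟨u, hu, rfl⟩
        refine ⟨u⁻¹, Q.inv_mem hu, ?_⟩
        have h1 : u * (y * u⁻¹ * y⁻¹) = (y * u⁻¹ * y⁻¹) * u :=
          hQc _ hu _ (hyQ _ (Q.inv_mem hu))
        calc (y * u * y⁻¹ * u⁻¹)⁻¹ = u * (y * u⁻¹ * y⁻¹) := by group
          _ = (y * u⁻¹ * y⁻¹) * u := h1
          _ = y * u⁻¹ * y⁻¹ * u⁻¹⁻¹ := by group }
  have hQ₁Q : Q₁ ≤ Q := by
    rintro _ ⟨u, hu, rfl⟩
    exact Q.mul_mem (hyQ u hu) (Q.inv_mem hu)
  have hQ₁p : (Nat.card Q₁).Coprime p :=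
    Nat.Coprime.coprime_dvd_left (Subgroup.card_dvd_of_le hQ₁Q) hQp
  -- `y` has no fixed points on `Q₁`
  have hfixy : ∀ w ∈ Q₁, y * w = w * y → w = 1 := by
    rintro _ ⟨u, hu, rfl⟩ hw
    set w := y * u * y⁻¹ * u⁻¹ with hwdef
    have hah : y * u * y⁻¹ = w * u := by rw [hwdef]; group
    have h1 := Cfsg.Agent.Lib.Helper24_Coprime.conj_pow_eq y u w hw hah p
    rw [hyp] at h1
    have h2 : w ^ p = 1 := by
      have : w ^ p * u = 1 * u := by rw [← h1]; group
      exact mul_right_cancel this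
    have hwQ : w ∈ Q := Q.mul_mem (hyQ u hu) (Q.inv_mem hu)
    have h3 : w ^ Nat.card Q = 1 := by
      have h1 : (⟨w, hwQ⟩ : ↥Q) ^ Nat.card ↥Q = 1 := pow_card_eq_one'
      exact congrArg Subtype.val h1
    have h5 : orderOf w ∣ Nat.gcd (Nat.card Q) p :=
      Nat.dvd_gcd (orderOf_dvd_of_pow_eq_one h3) (orderOf_dvd_of_pow_eq_one h2)
    rw [Nat.Coprime] at hQp
    rw [hQp, Nat.dvd_one, orderOf_eq_one_iff] at h5
    exact h5
  -- `x` normalizes `Q₁`
  have hxQ₁ : ∀ w ∈ Q₁, x * w * x⁻¹ ∈ Q₁ := by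
    rintro _ ⟨u, hu, rfl⟩
    refine ⟨x * u * x⁻¹, hxQ u hu, ?_⟩
    have hxy' : x * y⁻¹ = y⁻¹ * x := by
      have : y⁻¹ * (x * y) * y⁻¹ = y⁻¹ * (y * x) * y⁻¹ := by rw [hxy]
      calc x * y⁻¹ = y⁻¹ * (y * x) * y⁻¹ := by group
        _ = y⁻¹ * (x * y) * y⁻¹ := by rw [hxy]
        _ = y⁻¹ * x := by group
    calc x * (y * u * y⁻¹ * u⁻¹) * x⁻¹ = (x * y) * u * y⁻¹ * u⁻¹ * x⁻¹ := by group
      _ = (y * x) * u * y⁻¹ * u⁻¹ * x⁻¹ := by rw [hxy]
      _ = y * x * u * (x⁻¹ * (x * y⁻¹)) * u⁻¹ * x⁻¹ := by group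
      _ = y * x * u * (x⁻¹ * (y⁻¹ * x)) * u⁻¹ * x⁻¹ := by rw [hxy']
      _ = y * (x * u * x⁻¹) * y⁻¹ * (x * u * x⁻¹)⁻¹ := by group
  -- Frobenius action of `⟨x⟩` on `Q₁`
  have hfix : ∀ j, 0 < j → j < p ^ (n + 1) → ∀ w ∈ Q₁, x ^ j * w * (x ^ j)⁻¹ = w → w = 1 := by
    intro j hj0 hjm w hw hjw
    apply hfixy w hw
    -- `y` lies in the group generated by `x ^ j`
    have hcomm : x ^ j ∈ Subgroup.centralizer ({w} : Set X) := by
      rw [Subgroup.mem_centralizer_iff]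
      intro h hh
      rw [Set.mem_singleton_iff] at hh
      rw [hh]
      calc w * x ^ j = (x ^ j * w * (x ^ j)⁻¹) * x ^ j := by rw [hjw]
        _ = x ^ j * w := by group
    obtain ⟨a, ha, hga⟩ := (Nat.dvd_prime_pow hp).mp (Nat.gcd_dvd_right j (p ^ (n + 1)))
    have han : a ≤ n := by
      by_contra hcon
      have ha' : a = n + 1 := by omega
      have h1 : p ^ (n + 1) ∣ j := by
        rw [← ha', ← hga]; exact Nat.gcd_dvd_left _ _
      exact absurd (Nat.le_of_dvd hj0 h1) (by omega)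
    have hxg : x ^ (p ^ a) ∈ Subgroup.centralizer ({w} : Set X) := by
      have h1 : x ^ ((Nat.gcd j (p ^ (n + 1)) : ℕ) : ℤ) =
          (x ^ j) ^ (Nat.gcdA j (p ^ (n + 1))) * (x ^ p ^ (n + 1)) ^ (Nat.gcdB j (p ^ (n + 1))) := by
        rw [Nat.gcd_eq_gcd_ab, zpow_add, zpow_mul, zpow_mul, zpow_natCast, zpow_natCast]
      rw [hxm, one_zpow, mul_one, zpow_natCast, hga] at h1
      rw [h1]
      exact Subgroup.zpow_mem _ hcomm _
    have hyc : y ∈ Subgroup.centralizer ({w} : Set X) := by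
      have : y = (x ^ p ^ a) ^ p ^ (n - a) := by
        rw [hy, ← pow_mul, ← pow_add]; congr 2; omega
      rw [this]
      exact Subgroup.pow_mem _ hxg _
    exact ((Subgroup.mem_centralizer_iff.mp hyc) w rfl).symm
  -- all elements `r x` are `p`-elements
  have hRm : ∀ r ∈ R, (r * x) ^ p ^ (n + 1) = 1 := by
    intro r hr
    apply hexp
    have hzp : IsPGroup p (Subgroup.zpowers x) := by
      obtain ⟨k, hk⟩ := hx
      rintro ⟨g, hg⟩
      obtain ⟨i, rfl⟩ := Subgroup.mem_zpowers_iff.mp hg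
      refine ⟨k, Subtype.ext ?_⟩
      show (x ^ i) ^ p ^ k = 1
      rw [← zpow_natCast, ← zpow_mul, mul_comm, zpow_mul, zpow_natCast, hk, one_zpow]
    have hsup : IsPGroup p (Subgroup.zpowers x ⊔ R : Subgroup X) :=
      IsPGroup.to_sup_of_normal_right hzp hR
    have hmem : r * x ∈ (Subgroup.zpowers x ⊔ R : Subgroup X) :=
      Subgroup.mul_mem _ (Subgroup.mem_sup_right hr)
        (Subgroup.mem_sup_left (Subgroup.mem_zpowers x))
    obtain ⟨k, hk⟩ := hsup ⟨r * x, hmem⟩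
    exact ⟨k, congrArg Subtype.val hk⟩
  have hcen := centralizes_of_norm R hR Q₁ hQ₁p x hxQ₁ (p ^ (n + 1)) (pow_pos hp.pos _)
    hfix hxm hRm
  -- so `Q₁ ≤ C(R) ≤ R` is a `p`-group and a `p'`-group
  have hw₀ : y * u₀ * y⁻¹ * u₀⁻¹ ∈ Q₁ := ⟨u₀, hu₀, rfl⟩
  have hw₀R : y * u₀ * y⁻¹ * u₀⁻¹ ∈ R := by
    apply hCR
    rw [Subgroup.mem_centralizer_iff]
    intro r hr
    exact (hcen _ hw₀ r hr).symm
  have hw₀1 : y * u₀ * y⁻¹ * u₀⁻¹ = 1 := by
    obtain ⟨k, hk⟩ := hR ⟨_, hw₀R⟩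
    have hk' : (y * u₀ * y⁻¹ * u₀⁻¹) ^ p ^ k = 1 := congrArg Subtype.val hk
    have h3 : (y * u₀ * y⁻¹ * u₀⁻¹) ^ Nat.card Q₁ = 1 := by
      have h1 : (⟨_, hw₀⟩ : ↥Q₁) ^ Nat.card ↥Q₁ = 1 := pow_card_eq_one'
      exact congrArg Subtype.val h1
    have h5 : orderOf (y * u₀ * y⁻¹ * u₀⁻¹) ∣ Nat.gcd (Nat.card Q₁) (p ^ k) :=
      Nat.dvd_gcd (orderOf_dvd_of_pow_eq_one h3) (orderOf_dvd_of_pow_eq_one hk')
    have h6 : Nat.gcd (Nat.card Q₁) (p ^ k) = 1 := Nat.Coprime.pow_right k hQ₁p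
    rw [h6, Nat.dvd_one, orderOf_eq_one_iff] at h5
    exact h5
  apply hu₀y
  calc y * u₀ = (y * u₀ * y⁻¹ * u₀⁻¹) * u₀ * y := by group
    _ = u₀ * y := by rw [hw₀1, one_mul]

end LemmaB

end Cfsg.Agent.Lib.Helper64_HHAbelian
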