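import Mathlib
import Cfsg.Agent.Lib.Helper64_HHAbelian
import Cfsg.Agent.Lib.Helper76_PSolvable
import Cfsg.Agent.Lib.Helper47_HH
import Cfsg.Agent.Lib.Helper24_CoprimeAction
import Cfsg.Agent.S0635

/-!
# `p`-length of `p`-soluble groups with abelian Sylow `q`-subgroups, `q ≠ p` (helper64)
-/

set_option autoImplicit false

namespace Cfsg.Agent.Lib.Helper64_HHPLength

open Cfsg Subgroup
open Cfsg.Agent.Lib.Helper76_PSolvable
open Cfsg.Agent.Lib.Helper24_CoprimeAction

section Aux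

variable {X : Type*} [Group X]

/-- `O_p(X / O_p(X)) = 1`. -/
theorem pCore_quotient_pCore_eq_bot [Finite X] (p : ℕ) [Fact p.Prime] :
    pCore p (X ⧸ pCore p X) = ⊥ := by
  set V := pCore p X with hV
  set K := (pCore p (X ⧸ V)).comap (QuotientGroup.mk' V) with hK
  have hKn : K.Normal := Subgroup.Normal.comap inferInstance _
  have hKp : IsPGroup p K := by
    have h1 : IsPGroup p (pCore p (X ⧸ V)) := pCore_isPGroup p
    have h2 : IsPGroup p V := pCore_isPGroup p
    intro ⟨g, hg⟩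
    have hg' : QuotientGroup.mk' V g ∈ pCore p (X ⧸ V) := hg
    obtain ⟨k, hk⟩ := h1 ⟨_, hg'⟩
    have hk' : (QuotientGroup.mk' V g) ^ p ^ k = 1 := by
      have := congrArg Subtype.val hk
      simpa using this
    rw [← map_pow, QuotientGroup.mk'_apply, QuotientGroup.eq_one_iff] at hk'
    obtain ⟨l, hl⟩ := h2 ⟨_, hk'⟩
    have hl' : (g ^ p ^ k) ^ p ^ l = 1 := by
      have := congrArg Subtype.val hl
      simpa using this
    refine ⟨k + l, ?_⟩
    apply Subtype.ext
    simp only [Subgroup.coe_pow, Subgroup.coe_one]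
    rw [pow_add, pow_mul]
    exact hl'
  have hKV : K ≤ V := le_pCore p K hKp
  rw [eq_bot_iff]
  intro z hz
  obtain ⟨g, rfl⟩ := QuotientGroup.mk_surjective z
  have hg : g ∈ K := hz
  rw [Subgroup.mem_bot]
  exact (QuotientGroup.eq_one_iff g).2 (hKV hg)

/-- A product of a `p`-element with an element of a normal `p`-subgroup is a `p`-element. -/
theorem exists_pow_mul_eq_one {p : ℕ} [Fact p.Prime] (R : Subgroup X) [R.Normal]
    (hR : IsPGroup p R) (x : X) (hx : ∃ k, x ^ p ^ k = 1) (r : X) (hr : r ∈ R) :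
    ∃ k, (r * x) ^ p ^ k = 1 := by
  have hzp : IsPGroup p (Subgroup.zpowers x) := by
    obtain ⟨k, hk⟩ := hx
    rintro ⟨g, hg⟩
    obtain ⟨i, rfl⟩ := Subgroup.mem_zpowers_iff.mp hg
    refine ⟨k, Subtype.ext ?_⟩
    show (x ^ i) ^ p ^ k = 1
    rw [← zpow_natCast, ← zpow_mul, mul_comm, zpow_mul, zpow_natCast, hk, one_zpow]
  have hsup : IsPGroup p (Subgroup.zpowers x ⊔ R : Subgroup X) :=
    IsPGroup.to_sup_of_normal_right hzp hR
  have hmem : r * x ∈ (Subgroup.zpowers x ⊔ R : Subgroup X) :=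
    Subgroup.mul_mem _ (Subgroup.mem_sup_right hr)
      (Subgroup.mem_sup_left (Subgroup.mem_zpowers x))
  obtain ⟨k, hk⟩ := hsup ⟨r * x, hmem⟩
  exact ⟨k, congrArg Subtype.val hk⟩

/-- A subgroup containing a Sylow `q`-subgroup of `L` for every prime `q` contains `L`. -/
theorem le_of_forall_sylow_le [Finite X] (L C : Subgroup X)
    (h : ∀ q : ℕ, ∀ _ : Fact q.Prime, ∃ P : Sylow q L, sylowImage P ≤ C) : L ≤ C := by
  have hCL : L ⊓ C = L := by
    apply Subgroup.eq_of_le_of_card_ge inf_le_left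
    apply Nat.le_of_dvd Nat.card_pos
    rw [← Nat.factorization_prime_le_iff_dvd Nat.card_pos.ne' Nat.card_pos.ne']
    intro q hq
    have : Fact q.Prime := ⟨hq⟩
    obtain ⟨P, hP⟩ := h q ⟨hq⟩
    have h1 : Nat.card (sylowImage P) = q ^ (Nat.card L).factorization q := by
      rw [Subgroup.card_map_of_injective L.subtype_injective]
      exact P.card_eq_multiplicity
    have h2 : sylowImage P ≤ L ⊓ C := le_inf (Subgroup.map_subtype_le _) hP
    have h3 := Subgroup.card_dvd_of_le h2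
    rw [h1] at h3
    exact (Nat.Prime.pow_dvd_iff_le_factorization hq Nat.card_pos.ne').mp h3
  rw [← hCL]
  exact inf_le_right

end Aux

section LemmaC

variable {X : Type*} [Group X] [Finite X] {p : ℕ} [Fact p.Prime]

/-- **Key step.** In a `p`-soluble group `X` with `O_{p'}(X) = 1`, abelian `q`-subgroups for
all primes `q ≠ p`, and `p`-elements of order dividing `p^(n+1)`: the `p^n`-th power of every
`p`-element lies in `O_p(X)`. -/
theorem lemmaC (n : ℕ) (hsol : IsPSolvable p X) (hcore : pPrimeCore p X = ⊥)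
    (hab : ∀ q : ℕ, q.Prime → q ≠ p → ∀ Q : Subgroup X, IsPGroup q Q →
      ∀ a ∈ Q, ∀ b ∈ Q, a * b = b * a)
    (hexp : ∀ g : X, (∃ k, g ^ p ^ k = 1) → g ^ p ^ (n + 1) = 1)
    (x : X) (hx : ∃ k, x ^ p ^ k = 1) : x ^ p ^ n ∈ pCore p X := by
  have hp : p.Prime := Fact.out
  set R := pCore p X with hRdef
  have hRp : IsPGroup p R := pCore_isPGroup p
  have hCR : Subgroup.centralizer (R : Set X) ≤ R := centralizer_pCore_le p hsol hcore
  set π := QuotientGroup.mk' R with hπ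
  have hπs : Function.Surjective π := QuotientGroup.mk'_surjective R
  have hπker : ∀ g : X, π g = 1 ↔ g ∈ R := fun g => QuotientGroup.eq_one_iff g
  have hHsol : IsPSolvable p (X ⧸ R) := isPSolvable_quotient p R hsol
  have hHcore : pCore p (X ⧸ R) = ⊥ := pCore_quotient_pCore_eq_bot p
  set L := pPrimeCore p (X ⧸ R) with hL
  have hCL : Subgroup.centralizer (L : Set (X ⧸ R)) ≤ L :=
    Cfsg.Agent.Lib.Helper47_HH.centralizer_pPrimeCore_le p hHsol hHcore
  have hLcop : (Nat.card L).Coprime p := pPrimeCore_card_coprime p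
  have hxm : x ^ p ^ (n + 1) = 1 := hexp x hx
  set y := x ^ p ^ n with hy
  have hyp : y ^ p = 1 := by rw [hy, ← pow_mul, ← pow_succ]; exact hxm
  suffices hyc : L ≤ Subgroup.centralizer ({π y} : Set (X ⧸ R)) by
    have hyc' : π y ∈ Subgroup.centralizer (L : Set (X ⧸ R)) := by
      rw [Subgroup.mem_centralizer_iff]
      intro l hl
      exact ((Subgroup.mem_centralizer_iff.mp (hyc hl)) (π y) rfl).symm
    have hyL : π y ∈ L := hCL hyc'
    have h3 : (π y) ^ Nat.card L = 1 := by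
      have h1 : (⟨π y, hyL⟩ : ↥L) ^ Nat.card ↥L = 1 := pow_card_eq_one'
      exact congrArg Subtype.val h1
    have h2 : (π y) ^ p = 1 := by rw [← map_pow, hyp, map_one]
    have h5 : orderOf (π y) ∣ Nat.gcd (Nat.card L) p :=
      Nat.dvd_gcd (orderOf_dvd_of_pow_eq_one h3) (orderOf_dvd_of_pow_eq_one h2)
    rw [Nat.Coprime] at hLcop
    rw [hLcop, Nat.dvd_one, orderOf_eq_one_iff] at h5
    exact (hπker y).mp h5
  apply le_of_forall_sylow_le
  intro q hqF
  have hq : q.Prime := hqF.out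
  by_cases hqp : q = p
  · -- the Sylow `p`-subgroup of `L` is trivial
    subst hqp
    obtain P : Sylow q L := default
    refine ⟨P, ?_⟩
    have h1 : Nat.card (P : Subgroup L) = 1 := by
      rw [P.card_eq_multiplicity]
      have : (Nat.card L).factorization q = 0 :=
        Nat.factorization_eq_zero_of_not_dvd ((Nat.Prime.coprime_iff_not_dvd hq).mp hLcop.symm)
      rw [this, pow_zero]
    have h2 : (P : Subgroup L) = ⊥ := Subgroup.card_eq_one.mp h1
    show (P : Subgroup L).map L.subtype ≤ _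
    rw [h2, Subgroup.map_bot]
    exact bot_le
  -- an invariant Sylow `q`-subgroup of `L`
  have hAsolv : Group.IsSolvable (Subgroup.zpowers (π x)) := by
    have : IsMulCommutative ↥(Subgroup.zpowers (π x)) := inferInstance
    have : CommGroup ↥(Subgroup.zpowers (π x)) :=
      { (inferInstance : Group ↥(Subgroup.zpowers (π x))) with
        mul_comm := fun a b => mul_comm' a b }
    infer_instance
  have hAcop : (Nat.card (Subgroup.zpowers (π x))).Coprime (Nat.card L) := by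
    rw [Nat.card_zpowers]
    obtain ⟨k, hk⟩ := hx
    have h1 : orderOf (π x) ∣ p ^ k := by
      apply orderOf_dvd_of_pow_eq_one
      rw [← map_pow, hk, map_one]
    exact Nat.Coprime.coprime_dvd_left h1 (Nat.Coprime.pow_left k hLcop.symm)
  have hLn : L.Normal := inferInstance
  have hAL : Subgroup.zpowers (π x) ≤ Subgroup.normalizer (L : Set (X ⧸ R)) := by
    rw [Subgroup.normalizer_eq_top_iff.mpr hLn]; exact le_top
  obtain ⟨P, hP⟩ := exists_invariant_sylow (Subgroup.zpowers (π x)) L hAL hAcop (Or.inl hAsolv) q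
  refine ⟨P, ?_⟩
  set Qb : Subgroup (X ⧸ R) := sylowImage P with hQb
  have hQbq : IsPGroup q Qb := P.isPGroup'.map _
  have hxQb : π x ∈ Subgroup.normalizer (Qb : Set (X ⧸ R)) := hP (Subgroup.mem_zpowers _)
  -- lift to `X`
  set M : Subgroup X := Qb.comap π with hM
  have hRM : R ≤ M := by
    intro r hr
    show π r ∈ Qb
    rw [(hπker r).mpr hr]; exact Qb.one_mem
  have hxM : x ∈ Subgroup.normalizer (M : Set X) := by
    rw [Subgroup.mem_normalizer_iff]
    intro m
    show π m ∈ Qb ↔ π (x * m * x⁻¹) ∈ Qb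
    rw [map_mul, map_mul, map_inv]
    exact Subgroup.mem_normalizer_iff.mp hxQb (π m)
  obtain T : Sylow q M := default
  set Q₀ : Subgroup X := sylowImage T with hQ₀
  have hQ₀q : IsPGroup q Q₀ := T.isPGroup'.map _
  have hQ₀M : Q₀ ≤ M := Subgroup.map_subtype_le _
  -- `M = R Q₀`
  have hMRQ : ∀ m ∈ M, ∃ r ∈ R, ∃ t ∈ Q₀, m = r * t := by
    set R' : Subgroup M := R.subgroupOf M with hR'
    have hR'n : R'.Normal := inferInstance
    have hquot : IsPGroup q (↥M ⧸ R') := by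
      intro z
      obtain ⟨m, rfl⟩ := QuotientGroup.mk_surjective z
      obtain ⟨k, hk⟩ := hQbq ⟨π (m : X), m.2⟩
      have hk' : (π (m : X)) ^ q ^ k = 1 := congrArg Subtype.val hk
      refine ⟨k, ?_⟩
      rw [← QuotientGroup.mk_pow, QuotientGroup.eq_one_iff]
      show ((m ^ q ^ k : ↥M) : X) ∈ R
      rw [Subgroup.coe_pow, ← hπker, map_pow]
      exact hk'
    obtain ⟨j, hj⟩ := IsPGroup.iff_card.mp hquot
    have hidxR' : R'.index = q ^ j := by rw [Subgroup.index_eq_card]; exact hj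
    have hsup : (T : Subgroup M) ⊔ R' = ⊤ := by
      rw [← Subgroup.index_eq_one]
      have h1 : ((T : Subgroup M) ⊔ R').index ∣ (T : Subgroup M).index :=
        Subgroup.index_dvd_of_le le_sup_left
      have h2 : ((T : Subgroup M) ⊔ R').index ∣ q ^ j := by
        rw [← hidxR']; exact Subgroup.index_dvd_of_le le_sup_right
      obtain ⟨i, _, hi⟩ := (Nat.dvd_prime_pow hq).mp h2
      rcases Nat.eq_zero_or_pos i with h0 | h0
      · rw [hi, h0, pow_zero]
      · exfalso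
        apply T.not_dvd_index
        apply dvd_trans _ h1
        rw [hi]
        exact dvd_pow_self q h0.ne'
    intro m hm
    have hmtop : (⟨m, hm⟩ : ↥M) ∈ R' ⊔ (T : Subgroup M) := by rw [sup_comm, hsup]; trivial
    rw [← SetLike.mem_coe, Subgroup.normal_mul] at hmtop
    obtain ⟨r, hr, t, ht, hrt⟩ := hmtop
    refine ⟨(r : X), hr, (t : X), ⟨t, ht, rfl⟩, ?_⟩
    have := congrArg Subtype.val hrt
    simpa using this.symm
  -- `π Q₀ = Qb`
  have hQ₀map : ∀ b ∈ Qb, ∃ t ∈ Q₀, π t = b := by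
    intro b hb
    obtain ⟨m, rfl⟩ := hπs b
    obtain ⟨r, hr, t, ht, rfl⟩ := hMRQ m hb
    refine ⟨t, ht, ?_⟩
    rw [map_mul, (hπker r).mpr hr, one_mul]
  -- Frattini: some `r⁻¹ x` normalizes `Q₀`
  obtain ⟨κ, hκ⟩ := frattini_rel T x hxM
  obtain ⟨r, hr, t, ht, hκrt⟩ := hMRQ (κ : X) κ.2
  have hx'N : r⁻¹ * x ∈ Subgroup.normalizer (Q₀ : Set X) := by
    have h1 : r⁻¹ * x = t * ((κ : X)⁻¹ * x) := by rw [hκrt]; group
    rw [h1]
    exact Subgroup.mul_mem _ (Subgroup.le_normalizer ht) hκ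
  set x' := r⁻¹ * x with hx'
  have hx'p : ∃ k, x' ^ p ^ k = 1 := exists_pow_mul_eq_one R hRp x hx r⁻¹ (R.inv_mem hr)
  have hx'Q₀ : ∀ u ∈ Q₀, x' * u * x'⁻¹ ∈ Q₀ := fun u hu =>
    (Subgroup.mem_normalizer_iff.mp hx'N u).mp hu
  have hQ₀c : ∀ a ∈ Q₀, ∀ b ∈ Q₀, a * b = b * a := hab q hq hqp Q₀ hQ₀q
  have hQ₀cop : (Nat.card Q₀).Coprime p := by
    obtain ⟨k, hk⟩ := IsPGroup.iff_card.mp hQ₀q
    rw [hk]
    exact Nat.Coprime.pow_left k ((Nat.coprime_primes hq hp).mpr hqp)
  have hB := Cfsg.Agent.Lib.Helper64_HHAbelian.lemmaB n R hRp hCR hexp x' hx'p Q₀ hQ₀c hQ₀cop hx'Q₀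
  have hπx' : π x' = π x := by
    rw [hx', map_mul, map_inv, (hπker r).mpr hr, inv_one, one_mul]
  intro b hb
  obtain ⟨u, hu, rfl⟩ := hQ₀map b hb
  rw [Subgroup.mem_centralizer_iff]
  intro h hh
  rw [Set.mem_singleton_iff] at hh
  rw [hh, hy, map_pow, ← hπx', ← map_pow, ← map_mul, ← map_mul, hB u hu]

end LemmaC

section Main

universe u

variable {p : ℕ} [Fact p.Prime]

/-- all `q`-subgroups are abelian, for every prime `q ≠ p` -/
def AbQ (p : ℕ) (G : Type*) [Group G] : Prop :=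
  ∀ q : ℕ, q.Prime → q ≠ p → ∀ Q : Subgroup G, IsPGroup q Q → ∀ a ∈ Q, ∀ b ∈ Q, a * b = b * a

omit [Fact p.Prime] in
theorem AbQ.quotient {G : Type*} [Group G] [Finite G] (h : AbQ p G) (N : Subgroup G) [N.Normal] :
    AbQ p (G ⧸ N) := by
  intro q hq hqp Qb hQb a ha b hb
  have : Fact q.Prime := ⟨hq⟩
  obtain ⟨Sb, hSb⟩ := hQb.exists_le_sylow
  obtain S : Sylow q G := default
  have hπs : Function.Surjective (QuotientGroup.mk' N) := QuotientGroup.mk'_surjective N
  obtain ⟨g, hg⟩ := MulAction.exists_smul_eq (G ⧸ N) (S.mapSurjective hπs) Sb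
  have hmem : ∀ c ∈ Qb, ∃ s ∈ (S : Subgroup G), g * (QuotientGroup.mk' N s) * g⁻¹ = c := by
    intro c hc
    have h1 : c ∈ ((g • S.mapSurjective hπs : Sylow q (G ⧸ N)) : Subgroup (G ⧸ N)) := by
      rw [hg]; exact hSb hc
    rw [Sylow.coe_subgroup_smul, Subgroup.mem_smul_pointwise_iff_exists] at h1
    obtain ⟨s', hs', hs'c⟩ := h1
    obtain ⟨s, hs, rfl⟩ := hs'
    exact ⟨s, hs, by simpa [MulAut.smul_def] using hs'c⟩
  obtain ⟨s, hs, rfl⟩ := hmem a ha
  obtain ⟨t, ht, rfl⟩ := hmem b hb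
  have hst : s * t = t * s := h q hq hqp S S.isPGroup' s hs t ht
  calc g * (QuotientGroup.mk' N s) * g⁻¹ * (g * (QuotientGroup.mk' N t) * g⁻¹)
      = g * (QuotientGroup.mk' N (s * t)) * g⁻¹ := by rw [map_mul]; group
    _ = g * (QuotientGroup.mk' N (t * s)) * g⁻¹ := by rw [hst]
    _ = g * (QuotientGroup.mk' N t) * g⁻¹ * (g * (QuotientGroup.mk' N s) * g⁻¹) := by
        rw [map_mul]; group

/-- `p`-elements of a quotient lift to `p`-elements. -/
theorem exists_pelement_lift {G : Type*} [Group G] [Finite G] (N : Subgroup G) [N.Normal]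
    (z : G ⧸ N) (hz : ∃ k, z ^ p ^ k = 1) :
    ∃ g : G, QuotientGroup.mk' N g = z ∧ ∃ k, g ^ p ^ k = 1 := by
  have hp : p.Prime := Fact.out
  obtain ⟨g₀, rfl⟩ := QuotientGroup.mk'_surjective N z
  obtain ⟨k, hk⟩ := hz
  obtain ⟨a, m', hm', ho⟩ :=
    Nat.exists_eq_pow_mul_and_not_dvd (orderOf_pos g₀).ne' p hp.ne_one
  have hcop : Nat.Coprime m' (p ^ k) :=
    Nat.Coprime.pow_right k ((Nat.Prime.coprime_iff_not_dvd hp).mpr hm').symm
  refine ⟨(g₀ ^ m') ^ (Nat.gcdA m' (p ^ k)), ?_, a, ?_⟩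
  · have h1 : ((Nat.gcd m' (p ^ k) : ℕ) : ℤ) = m' * Nat.gcdA m' (p ^ k) + p ^ k * Nat.gcdB m' (p ^ k) := by
      have := Nat.gcd_eq_gcd_ab m' (p ^ k)
      push_cast at this ⊢
      exact this
    rw [hcop] at h1
    have h2 : (QuotientGroup.mk' N g₀) ^ (1 : ℤ) =
        ((QuotientGroup.mk' N g₀) ^ m') ^ (Nat.gcdA m' (p ^ k)) *
          ((QuotientGroup.mk' N g₀) ^ p ^ k) ^ (Nat.gcdB m' (p ^ k)) := by
      rw [← zpow_natCast, ← zpow_natCast, ← zpow_mul, ← zpow_mul, ← zpow_add]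
      congr 1
    rw [hk, one_zpow, mul_one, zpow_one] at h2
    rw [map_zpow, map_pow]
    exact h2.symm
  · rw [← zpow_natCast, ← zpow_mul, mul_comm, zpow_mul, zpow_natCast, ← pow_mul, mul_comm, ← ho,
      pow_orderOf_eq_one, one_zpow]

theorem main (n : ℕ) : ∀ (G : Type u) [Group G] [Finite G], IsPSolvable p G → AbQ p G →
    (∀ g : G, (∃ k, g ^ p ^ k = 1) → g ^ p ^ n = 1) → (upperPSeries p G (2 * n + 1)).1 = ⊤ := by
  have hp : p.Prime := Fact.out
  induction n with
  | zero =>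
    intro G _ _ _ _ hexp
    have hnd : ¬ p ∣ Nat.card G := by
      intro hdvd
      obtain ⟨g, hg⟩ := exists_prime_orderOf_dvd_card' p hdvd
      have h1 : g ^ p ^ 0 = 1 := hexp g ⟨1, by rw [pow_one, ← hg, pow_orderOf_eq_one]⟩
      rw [pow_zero, pow_one] at h1
      rw [h1, orderOf_one] at hg
      exact hp.one_lt.ne hg
    have htop : (⊤ : Subgroup G) ≤ pPrimeCore p G := by
      apply Cfsg.Agent.Lib.Helper32_Cores.le_pPrimeCore inferInstance
      rw [Subgroup.card_top]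
      exact ((Nat.Prime.coprime_iff_not_dvd hp).mpr hnd).symm
    show (upperPSeries p G 1).1 = ⊤
    rw [Cfsg.Agent.S0635.upperPSeries_one]
    exact top_le_iff.mp htop
  | succ n ih =>
    intro G _ _ hsol hab hexp
    -- the quotient by `O_{p'}(G)`
    have hXsol : IsPSolvable p (G ⧸ pPrimeCore p G) := isPSolvable_quotient p _ hsol
    have hXcore : pPrimeCore p (G ⧸ pPrimeCore p G) = ⊥ :=
      Cfsg.Agent.Lib.Helper32_Cores.pPrimeCore_quotient_eq_bot (G := G) p
    have hXab : AbQ p (G ⧸ pPrimeCore p G) := hab.quotient _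
    have hXexp : ∀ z : G ⧸ pPrimeCore p G, (∃ k, z ^ p ^ k = 1) → z ^ p ^ (n + 1) = 1 := by
      intro z hz
      obtain ⟨g, rfl, hg⟩ := exists_pelement_lift (pPrimeCore p G) z hz
      rw [← map_pow, hexp g hg, map_one]
    -- the quotient by `O_{p',p}(G)`
    have hsurj := QuotientGroup.mk'_surjective (upperPSeries p G 2).1
    have hYexp : ∀ z : G ⧸ (upperPSeries p G 2).1, (∃ k, z ^ p ^ k = 1) → z ^ p ^ n = 1 := by
      intro z hz
      obtain ⟨g, rfl, hg⟩ := exists_pelement_lift (upperPSeries p G 2).1 z hz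
      have hgX : ∃ k, (QuotientGroup.mk' (pPrimeCore p G) g) ^ p ^ k = 1 := by
        obtain ⟨k, hk⟩ := hg
        exact ⟨k, by rw [← map_pow, hk, map_one]⟩
      have hC := lemmaC n hXsol hXcore hXab hXexp _ hgX
      rw [← map_pow] at hC
      have hmem : g ^ p ^ n ∈ (upperPSeries p G 2).1 := by
        rw [Cfsg.Agent.S0635.upperPSeries_two]
        exact hC
      rw [← map_pow, QuotientGroup.mk'_apply, QuotientGroup.eq_one_iff]
      exact hmem
    have h1 := ih (G ⧸ (upperPSeries p G 2).1) (isPSolvable_quotient p _ hsol)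
      (hab.quotient _) hYexp
    have h2 := Cfsg.Agent.S0635.upperPSeries_shift (G := G) p (2 * n + 1)
    rw [h1, Subgroup.comap_top] at h2
    have : 2 * (n + 1) + 1 = 2 * n + 1 + 2 := by ring
    rw [this]
    exact h2

end Main

end Cfsg.Agent.Lib.Helper64_HHPLength
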