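import Mathlib
import Cfsg.Agent.Lib.Helper1_Cores
import Cfsg.Agent.Lib.Helper1_SZ
import Cfsg.Agent.Lib.Helper1_Glauberman
import Cfsg.Agent.Lib.Helper76_PSolvable
import Cfsg.Agent.Lib.Helper32_PSolvable
import Cfsg.Agent.Lib.Helper64_HHPLength
import Cfsg.Agent.S1443

/-!
# The Gaschütz–Yen theorem (helper1)

Core case: `X` finite `p`-soluble, `p` odd, `O_{p'}(X) = 1`, `Aut X` transitive on the subgroups of
order `p`. Then every `p`-element of `X` lies in `O_p(X)`.
-/

set_option autoImplicit false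

namespace Cfsg.Agent.Lib.Helper1_GaschutzYen

open Cfsg Subgroup
open scoped Pointwise

variable {X : Type*} [Group X]

/-- `Ω₁(Z(O_p(X)))` as a subgroup of `X`. -/
def omegaZ (p : ℕ) (X : Type*) [Group X] : Subgroup X where
  carrier := {z | z ∈ pCore p X ∧ (∀ v ∈ pCore p X, v * z = z * v) ∧ z ^ p = 1}
  one_mem' := ⟨one_mem _, fun v _ => by simp, one_pow _⟩
  mul_mem' := by
    rintro a b ⟨ha, hac, hap⟩ ⟨hb, hbc, hbp⟩
    refine ⟨mul_mem ha hb, fun v hv => ?_, ?_⟩
    · rw [← mul_assoc, hac v hv, mul_assoc, hbc v hv, mul_assoc]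
    · have hcomm : Commute a b := (hbc a ha)
      rw [hcomm.mul_pow, hap, hbp, one_mul]
  inv_mem' := by
    rintro a ⟨ha, hac, hap⟩
    refine ⟨inv_mem ha, fun v hv => ?_, by rw [inv_pow, hap, inv_one]⟩
    have := hac v hv
    calc v * a⁻¹ = a⁻¹ * (a * v) * a⁻¹ := by group
      _ = a⁻¹ * (v * a) * a⁻¹ := by rw [this]
      _ = a⁻¹ * v := by group

theorem mem_omegaZ {p : ℕ} {z : X} :
    z ∈ omegaZ p X ↔ z ∈ pCore p X ∧ (∀ v ∈ pCore p X, v * z = z * v) ∧ z ^ p = 1 := Iff.rfl

theorem omegaZ_le (p : ℕ) : omegaZ p X ≤ pCore p X := fun _ h => h.1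

/-- `O_p(X)` is invariant under automorphisms. -/
theorem aut_mem_pCore {p : ℕ} [Fact p.Prime] (a : MulAut X) {v : X} (hv : v ∈ pCore p X) :
    a v ∈ pCore p X :=
  Cfsg.Agent.Lib.Helper1_Cores.pCore_map_le p a (Subgroup.mem_map_of_mem _ hv)

/-- `Ω₁(Z(O_p(X)))` is invariant under automorphisms. -/
theorem aut_mem_omegaZ {p : ℕ} [Fact p.Prime] (a : MulAut X) {z : X} (hz : z ∈ omegaZ p X) :
    a z ∈ omegaZ p X := by
  obtain ⟨hzV, hzc, hzp⟩ := hz
  refine ⟨aut_mem_pCore a hzV, fun v hv => ?_, by rw [← map_pow, hzp, map_one]⟩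
  have h1 : a⁻¹ v ∈ pCore p X := aut_mem_pCore a⁻¹ hv
  have h2 := hzc _ h1
  have h3 : a (a⁻¹ v * z) = a (z * a⁻¹ v) := by rw [h2]
  rw [map_mul, map_mul] at h3
  have h4 : a (a⁻¹ v) = v := by
    show (a * a⁻¹) v = v
    rw [mul_inv_cancel]; rfl
  rw [h4] at h3
  exact h3

theorem omegaZ_normal (p : ℕ) [Fact p.Prime] : (omegaZ p X).Normal := by
  constructor
  intro z hz g
  exact aut_mem_omegaZ (MulAut.conj g) hz

section Core

variable [Finite X] {p : ℕ} [Fact p.Prime]

omit [Finite X] in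
theorem orderOf_of_mem_omegaZ {z : X} (hz : z ∈ omegaZ p X) (h1 : z ≠ 1) : orderOf z = p :=
  orderOf_eq_prime hz.2.2 h1

/-- `Ω₁(Z(O_p(X)))` is nontrivial when `O_p(X)` is. -/
theorem exists_mem_omegaZ_ne_one (hV : pCore p X ≠ ⊥) : ∃ z ∈ omegaZ p X, z ≠ 1 := by
  have hVp : IsPGroup p (pCore p X) := Cfsg.Agent.Lib.Helper1_Cores.pCore_isPGroup p
  have : Nontrivial (pCore p X) := (Subgroup.nontrivial_iff_ne_bot _).mpr hV
  have : Nontrivial (Subgroup.center (pCore p X)) := hVp.center_nontrivial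
  have hCp : IsPGroup p (Subgroup.center (pCore p X)) := hVp.to_subgroup _
  have hdvd : p ∣ Nat.card (Subgroup.center (pCore p X)) := by
    rcases hCp.card_eq_or_dvd with h | h
    · exact absurd h (Finite.one_lt_card).ne'
    · exact h
  obtain ⟨c, hc⟩ := exists_prime_orderOf_dvd_card' p hdvd
  refine ⟨((c : pCore p X) : X), ⟨(c : pCore p X).2, fun v hv => ?_, ?_⟩, ?_⟩
  · have h1 := Subgroup.mem_center_iff.mp c.2 ⟨v, hv⟩
    have h2 := congrArg Subtype.val h1
    simpa using h2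
  · have h1 : c ^ p = 1 := by
      have := pow_orderOf_eq_one c
      rwa [hc] at this
    have h2 := congrArg (fun t : Subgroup.center (pCore p X) => ((t : pCore p X) : X)) h1
    simpa using h2
  · intro h1
    have h2 : c = 1 := by
      apply Subtype.ext; apply Subtype.ext
      simpa using h1
    rw [h2, orderOf_one] at hc
    exact (Fact.out : p.Prime).one_lt.ne hc

/-- Under the transitivity hypothesis every element of order `p` lies in `Ω₁(Z(O_p(X)))`. -/
theorem mem_omegaZ_of_orderOf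
    (htrans : ∀ U W : Subgroup X, Nat.card U = p → Nat.card W = p →
      ∃ a : MulAut X, U.map a.toMonoidHom = W)
    (hV : pCore p X ≠ ⊥) {y : X} (hy : orderOf y = p) : y ∈ omegaZ p X := by
  obtain ⟨z, hz, hz1⟩ := exists_mem_omegaZ_ne_one (p := p) hV
  have hzo : orderOf z = p := orderOf_of_mem_omegaZ hz hz1
  obtain ⟨a, ha⟩ := htrans (Subgroup.zpowers z) (Subgroup.zpowers y)
    (by rw [Nat.card_zpowers, hzo]) (by rw [Nat.card_zpowers, hy])
  have hyU : y ∈ (Subgroup.zpowers z).map a.toMonoidHom := by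
    rw [ha]; exact Subgroup.mem_zpowers y
  obtain ⟨u, hu, rfl⟩ := hyU
  have huZ : u ∈ omegaZ p X := (Subgroup.zpowers_le.mpr hz) hu
  exact aut_mem_omegaZ a huZ

/-- A `p'`-element centralizing `Ω₁(Z(O_p(X)))` is trivial (`p` odd, `X` `p`-soluble with
`O_{p'}(X) = 1`, transitivity). -/
theorem eq_one_of_centralizes (hp2 : p ≠ 2) (hsol : IsPSolvable p X) (hcore : pPrimeCore p X = ⊥)
    (htrans : ∀ U W : Subgroup X, Nat.card U = p → Nat.card W = p →
      ∃ a : MulAut X, U.map a.toMonoidHom = W)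
    (hV : pCore p X ≠ ⊥) {c : X} (hc : (orderOf c).Coprime p)
    (hcz : ∀ z ∈ omegaZ p X, c * z = z * c) : c = 1 := by
  have hVp : IsPGroup p (pCore p X) := Cfsg.Agent.Lib.Helper1_Cores.pCore_isPGroup p
  have hVn : (pCore p X).Normal := Cfsg.Agent.Lib.Helper1_Cores.pCore_normal p
  have hHH : Subgroup.centralizer (pCore p X : Set X) ≤ pCore p X :=
    Cfsg.Agent.Lib.Helper76_PSolvable.centralizer_pCore_le p hsol hcore
  have hcent : Subgroup.zpowers c ≤ Subgroup.centralizer (pCore p X : Set X) := by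
    apply Cfsg.Agent.S1443.result p hp2 (pCore p X) ⊥ (Subgroup.zpowers c) hVp bot_le
    · refine ⟨⟨⟨?_⟩⟩, ?_⟩
      · rintro ⟨a, ha⟩ ⟨b, hb⟩
        rw [Subgroup.mem_bot] at ha hb
        subst ha; subst hb; rfl
      · intro a ha
        rw [Subgroup.mem_bot] at ha
        rw [ha, one_pow]
    · rw [Subgroup.normalizer_eq_top_iff.mpr hVn]; exact le_top
    · rw [Nat.card_zpowers]; exact hc
    · intro x _ hxo
      have hxZ : x ∈ omegaZ p X := mem_omegaZ_of_orderOf htrans hV hxo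
      rw [Subgroup.zpowers_le, Subgroup.mem_centralizer_iff]
      intro y hy
      rw [Set.mem_singleton_iff] at hy
      subst hy
      exact (hcz _ hxZ).symm
  have hcV : c ∈ pCore p X := hHH (hcent (Subgroup.mem_zpowers c))
  obtain ⟨k, hk⟩ := hVp ⟨c, hcV⟩
  have hk' : c ^ p ^ k = 1 := by
    have := congrArg Subtype.val hk
    simpa using this
  have h1 : orderOf c ∣ p ^ k := orderOf_dvd_of_pow_eq_one hk'
  have h2 : (orderOf c).Coprime (p ^ k) := hc.pow_right k
  have h3 : orderOf c = 1 := Nat.Coprime.eq_one_of_dvd h2 h1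
  exact orderOf_eq_one_iff.mp h3

end Core

section K

variable [Finite X] {p : ℕ} [Fact p.Prime]

instance pCore_normal_inst (p : ℕ) : (pCore p X).Normal :=
  Cfsg.Agent.Lib.Helper1_Cores.pCore_normal p

/-- The preimage in `X` of `O_{p'}(X / O_p(X))`. -/
def kSub (p : ℕ) (X : Type*) [Group X] : Subgroup X :=
  (pPrimeCore p (X ⧸ pCore p X)).comap (QuotientGroup.mk' (pCore p X))

omit [Finite X] [Fact p.Prime] in
theorem kSub_normal : (kSub p X).Normal :=
  (Cfsg.Agent.Lib.Helper1_Cores.pPrimeCore_normal p).comap _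

omit [Finite X] [Fact p.Prime] in
theorem pCore_le_kSub : pCore p X ≤ kSub p X := by
  intro v hv
  show QuotientGroup.mk' (pCore p X) v ∈ pPrimeCore p (X ⧸ pCore p X)
  rw [QuotientGroup.mk'_apply, (QuotientGroup.eq_one_iff v).mpr hv]
  exact one_mem _

/-- `kSub` is invariant under automorphisms. -/
theorem aut_mem_kSub (a : MulAut X) {k : X} (hk : k ∈ kSub p X) : a k ∈ kSub p X := by
  have hmap : (pCore p X).map ((a : X ≃* X) : X →* X) = pCore p X := by
    apply le_antisymm (Cfsg.Agent.Lib.Helper1_Cores.pCore_map_le p a)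
    intro v hv
    refine ⟨a⁻¹ v, aut_mem_pCore a⁻¹ hv, ?_⟩
    show (a * a⁻¹) v = v
    rw [mul_inv_cancel]; rfl
  let φ : (X ⧸ pCore p X) ≃* (X ⧸ pCore p X) :=
    QuotientGroup.congr (pCore p X) (pCore p X) a hmap
  have h1 : QuotientGroup.mk' (pCore p X) k ∈ pPrimeCore p (X ⧸ pCore p X) := hk
  have h2 : φ (QuotientGroup.mk' (pCore p X) k) ∈ pPrimeCore p (X ⧸ pCore p X) :=
    Cfsg.Agent.Lib.Helper1_Cores.pPrimeCore_map_le p φ (Subgroup.mem_map_of_mem _ h1)
  have h3 : φ (QuotientGroup.mk' (pCore p X) k) = QuotientGroup.mk' (pCore p X) (a k) := by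
    exact QuotientGroup.congr_mk (pCore p X) (pCore p X) a hmap k
  rw [h3] at h2
  exact h2

omit [Finite X] [Fact p.Prime] in
/-- `|K| = |K/V| |V|`. -/
theorem card_kSub : Nat.card (kSub p X) =
    Nat.card (pPrimeCore p (X ⧸ pCore p X)) * Nat.card (pCore p X) :=
  Cfsg.Agent.Lib.Helper1_Transport.card_comap_mk' (pCore p X) _

end K

section Frattini

open Cfsg.Agent.Lib.Helper1_Transport

/-- Schur–Zassenhaus complement of a normal Hall subgroup `V` of `K ⊴ X` (with `V ⊴ X` solvable),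
together with the Frattini argument. -/
theorem exists_complement_frattini {X : Type*} [Group X] [Finite X] (V K : Subgroup X)
    [hVn : V.Normal] [hKn : K.Normal] (hVK : V ≤ K)
    (hcop : (Nat.card V).Coprime (V.relIndex K)) (hsolv : Group.IsSolvable V) :
    ∃ Q : Subgroup X, Q ≤ K ∧ Nat.card Q = V.relIndex K ∧
      (∀ k ∈ K, ∃ v ∈ V, ∃ q ∈ Q, k = v * q) ∧
      ∀ g : X, ∃ k ∈ K, MulAut.conj (k * g) • Q = Q := by
  have hNn : (V.subgroupOf K).Normal := inferInstance
  have hNcard : Nat.card (V.subgroupOf K) = Nat.card V := card_subgroupOf hVK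
  have hN : (Nat.card (V.subgroupOf K)).Coprime (V.subgroupOf K).index := by
    rw [hNcard]; exact hcop
  have hNsolv : Group.IsSolvable (V.subgroupOf K) :=
    Group.isSolvable_of_isSolvable_injective (f := (Subgroup.subgroupOfEquivOfLe hVK).toMonoidHom)
      (Subgroup.subgroupOfEquivOfLe hVK).injective
  obtain ⟨H, hH⟩ := Subgroup.exists_right_complement'_of_coprime hN
  have hHcard : Nat.card H = (V.subgroupOf K).index :=
    Cfsg.Agent.Lib.Helper1_SZ.card_eq_index_of_isComplement' _ H hH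
  set Q : Subgroup X := H.map K.subtype with hQ
  have hQK : Q ≤ K := Subgroup.map_subtype_le H
  have hQsub : Q.subgroupOf K = H :=
    Subgroup.comap_map_eq_self_of_injective (Subgroup.subtype_injective K) H
  have hQcard : Nat.card Q = V.relIndex K := by
    rw [← card_subgroupOf hQK, hQsub, hHcard]; rfl
  refine ⟨Q, hQK, hQcard, ?_, ?_⟩
  · intro k hk
    obtain ⟨⟨n, h⟩, hnh, -⟩ := hH.existsUnique ⟨k, hk⟩
    refine ⟨((n : K) : X), n.2, ((h : K) : X), ⟨(h : K), h.2, rfl⟩, ?_⟩
    have := congrArg Subtype.val hnh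
    simpa using this.symm
  · intro g
    have hQgK : MulAut.conj g • Q ≤ K := by
      intro x hx
      rw [mem_conj_smul_iff] at hx
      have h1 : g⁻¹ * x * g ∈ K := hQK hx
      have h2 := hKn.conj_mem _ h1 g
      have h3 : g * (g⁻¹ * x * g) * g⁻¹ = x := by group
      rwa [h3] at h2
    have hc1 : Nat.card ((MulAut.conj g • Q).subgroupOf K) = (V.subgroupOf K).index := by
      rw [card_subgroupOf hQgK, card_conj_smul, hQcard]; rfl
    obtain ⟨y, hy⟩ := Cfsg.Agent.Lib.Helper1_SZ.sz_conj_card (V.subgroupOf K) hN (Or.inl hNsolv)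
      ((MulAut.conj g • Q).subgroupOf K) H hc1 hHcard
    rw [← hQsub] at hy
    have h4 := conj_of_subgroupOf hQgK hQK y hy
    refine ⟨(y : X), y.2, ?_⟩
    rw [map_mul, mul_smul]
    exact h4

end Frattini

section Main

open Cfsg.Agent.Lib.Helper1_Transport

variable [Finite X] {p : ℕ} [Fact p.Prime]

/-- **Gaschütz–Yen, core case.** Every `p`-element of `X` lies in `O_p(X)`. -/
theorem pElement_mem_pCore (hp2 : p ≠ 2) (hsol : IsPSolvable p X) (hcore : pPrimeCore p X = ⊥)
    (htrans : ∀ U W : Subgroup X, Nat.card U = p → Nat.card W = p →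
      ∃ a : MulAut X, U.map a.toMonoidHom = W)
    (z : X) (hz : ∃ k, z ^ p ^ k = 1) : z ∈ pCore p X := by
  classical
  have hp : p.Prime := Fact.out
  have hVp : IsPGroup p (pCore p X) := Cfsg.Agent.Lib.Helper1_Cores.pCore_isPGroup p
  have hKn : (kSub p X).Normal := kSub_normal
  by_cases hV : pCore p X = ⊥
  · have hsub : Subsingleton X := by
      by_contra hns
      rw [not_subsingleton_iff_nontrivial] at hns
      rcases Cfsg.Agent.Lib.Helper32_PSolvable.exists_core_ne_bot (p := p) hsol with h | h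
      exacts [h hcore, h hV]
    rw [Subsingleton.elim z 1]; exact one_mem _
  have hquot_trivial : pPrimeCore p (X ⧸ pCore p X) = ⊥ → z ∈ pCore p X := by
    intro hbar
    have hsolbar : IsPSolvable p (X ⧸ pCore p X) :=
      Cfsg.Agent.Lib.Helper76_PSolvable.isPSolvable_quotient p _ hsol
    have hpc : pCore p (X ⧸ pCore p X) = ⊥ :=
      Cfsg.Agent.Lib.Helper64_HHPLength.pCore_quotient_pCore_eq_bot p
    have hsub : Subsingleton (X ⧸ pCore p X) := by
      by_contra hns
      rw [not_subsingleton_iff_nontrivial] at hns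
      rcases Cfsg.Agent.Lib.Helper32_PSolvable.exists_core_ne_bot (p := p) hsolbar with h | h
      exacts [h hbar, h hpc]
    exact (QuotientGroup.eq_one_iff z).mp (Subsingleton.elim _ _)
  by_cases hZ0 : ∃ z1 ∈ omegaZ p X, z1 ≠ 1 ∧ ∀ k ∈ kSub p X, k * z1 = z1 * k
  · -- `K` centralizes `Z`; then `K = V` and `X = V`
    obtain ⟨z1, hz1Z, hz1ne, hz1c⟩ := hZ0
    have hKZ : ∀ k ∈ kSub p X, ∀ w ∈ omegaZ p X, k * w = w * k := by
      intro k hk w hw
      by_cases hw1 : w = 1
      · subst hw1; simp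
      obtain ⟨a, ha⟩ := htrans (Subgroup.zpowers z1) (Subgroup.zpowers w)
        (by rw [Nat.card_zpowers, orderOf_of_mem_omegaZ hz1Z hz1ne])
        (by rw [Nat.card_zpowers, orderOf_of_mem_omegaZ hw hw1])
      have hwU : w ∈ (Subgroup.zpowers z1).map a.toMonoidHom := by
        rw [ha]; exact Subgroup.mem_zpowers w
      obtain ⟨u, hu, rfl⟩ := hwU
      obtain ⟨j, rfl⟩ := Subgroup.mem_zpowers_iff.mp hu
      have h1 : a⁻¹ k ∈ kSub p X := aut_mem_kSub a⁻¹ hk
      have h3 : Commute (a⁻¹ k) z1 := hz1c _ h1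
      have h4 : Commute (a⁻¹ k) (z1 ^ j) := h3.zpow_right j
      have h5 := congrArg a h4.eq
      rw [map_mul, map_mul] at h5
      have h6 : a (a⁻¹ k) = k := by
        show (a * a⁻¹) k = k
        rw [mul_inv_cancel]; rfl
      rw [h6] at h5
      exact h5
    have hKp' : ∀ c ∈ kSub p X, (orderOf c).Coprime p → c = 1 := fun c hc hco =>
      eq_one_of_centralizes hp2 hsol hcore htrans hV hco (fun w hw => hKZ c hc w hw)
    apply hquot_trivial
    by_contra hne
    have hcard : Nat.card (pPrimeCore p (X ⧸ pCore p X)) ≠ 1 := by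
      rwa [Ne, Subgroup.card_eq_one]
    obtain ⟨q, hq, hqdvd⟩ := Nat.exists_prime_and_dvd hcard
    have hqp : q ≠ p := by
      intro hqp'
      rw [hqp'] at hqdvd
      have hco := Cfsg.Agent.Lib.Helper1_Cores.pPrimeCore_card_coprime (G := X ⧸ pCore p X) p
      exact hp.one_lt.ne' (Nat.eq_one_of_dvd_coprimes hco hqdvd (dvd_refl p))
    have hqK : q ∣ Nat.card (kSub p X) := by
      rw [card_kSub]; exact dvd_mul_of_dvd_left hqdvd _
    have := Fact.mk hq
    obtain ⟨c, hc⟩ := exists_prime_orderOf_dvd_card' q hqK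
    have hc1 : (c : X) = 1 := hKp' c c.2 (by
      rw [Subgroup.orderOf_coe, hc]; exact (Nat.coprime_primes hq hp).mpr hqp)
    have hc2 : c = 1 := Subtype.ext hc1
    rw [hc2, orderOf_one] at hc
    exact hq.one_lt.ne hc
  · -- `C_Z(K) = 1`
    push Not at hZ0
    have hrel : (pCore p X).relIndex (kSub p X) =
        Nat.card (pPrimeCore p (X ⧸ pCore p X)) := by
      have h1 : Nat.card ((pCore p X).subgroupOf (kSub p X)) *
          ((pCore p X).subgroupOf (kSub p X)).index = Nat.card (kSub p X) :=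
        Subgroup.card_mul_index _
      rw [card_subgroupOf pCore_le_kSub, card_kSub, mul_comm] at h1
      have hpos : 0 < Nat.card (pCore p X) := Nat.card_pos
      exact Nat.eq_of_mul_eq_mul_right hpos h1
    have hbarcop : (Nat.card (pPrimeCore p (X ⧸ pCore p X))).Coprime p :=
      Cfsg.Agent.Lib.Helper1_Cores.pPrimeCore_card_coprime p
    have hcop : (Nat.card (pCore p X)).Coprime ((pCore p X).relIndex (kSub p X)) := by
      rw [hrel]
      obtain ⟨n, hn⟩ := hVp.exists_card_eq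
      rw [hn]
      exact (hbarcop.symm).pow_left n
    have hVsolv : Group.IsSolvable (pCore p X) := by
      have := hVp.isNilpotent
      infer_instance
    obtain ⟨Q, hQK, hQcard, hdecomp, hfrat⟩ :=
      exists_complement_frattini (pCore p X) (kSub p X) pCore_le_kSub hcop hVsolv
    have hQcop : (Nat.card Q).Coprime p := by rw [hQcard, hrel]; exact hbarcop
    -- `V ∩ Q = 1`
    have hVQ : ∀ x ∈ pCore p X, x ∈ Q → x = 1 := by
      intro x hxV hxQ
      obtain ⟨k, hk⟩ := hVp ⟨x, hxV⟩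
      have hk' : x ^ p ^ k = 1 := by
        have := congrArg Subtype.val hk
        simpa using this
      have h1 : orderOf x ∣ p ^ k := orderOf_dvd_of_pow_eq_one hk'
      have h2 : orderOf x ∣ Nat.card Q := Subgroup.orderOf_dvd_natCard Q hxQ
      have h3 : (orderOf x).Coprime (p ^ k) :=
        (Nat.Coprime.coprime_dvd_left h2 hQcop).pow_right k
      exact orderOf_eq_one_iff.mp (Nat.Coprime.eq_one_of_dvd h3 h1)
    have hZQ : omegaZ p X ⊓ Q = ⊥ := by
      rw [eq_bot_iff]
      rintro x ⟨hxZ, hxQ⟩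
      rw [Subgroup.mem_bot]
      exact hVQ x (omegaZ_le p hxZ) hxQ
    have hZn : (omegaZ p X).Normal := omegaZ_normal p
    -- `N_X(Q)` has no element of order `p`
    have hNQ : ∀ y ∈ Subgroup.normalizer (Q : Set X), orderOf y ≠ p := by
      intro y hyN hyo
      have hyZ : y ∈ omegaZ p X := mem_omegaZ_of_orderOf htrans hV hyo
      have hy1 : y ≠ 1 := by
        rintro rfl
        rw [orderOf_one] at hyo
        exact hp.one_lt.ne hyo
      obtain ⟨k, hkK, hkne⟩ := hZ0 y hyZ hy1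
      obtain ⟨v, hv, q, hq, rfl⟩ := hdecomp k hkK
      have hyv : v * y = y * v := hyZ.2.1 v hv
      have hyc := Cfsg.Agent.Lib.Helper1_Glauberman.mem_centralizer_of_mem_normalizer
        (omegaZ p X) Q hZQ hyZ hyN
      have hyq : q * y = y * q := Subgroup.mem_centralizer_iff.mp hyc q hq
      apply hkne
      rw [mul_assoc, hyq, ← mul_assoc, hyv, mul_assoc]
    -- Frattini
    obtain ⟨k, hkK, hkg⟩ := hfrat z
    obtain ⟨v, hv, q, hq, rfl⟩ := hdecomp k hkK
    rw [Cfsg.Agent.Lib.Helper1_Glauberman.conj_smul_eq_self_iff] at hkg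
    have hqN : q ∈ Subgroup.normalizer (Q : Set X) := Subgroup.le_normalizer hq
    set m : X := q⁻¹ * (v * q * z) with hm
    have hmN : m ∈ Subgroup.normalizer (Q : Set X) :=
      Subgroup.mul_mem _ (Subgroup.inv_mem _ hqN) hkg
    have hVn : (pCore p X).Normal := Cfsg.Agent.Lib.Helper1_Cores.pCore_normal p
    have hmz : (QuotientGroup.mk' (pCore p X)) m = (QuotientGroup.mk' (pCore p X)) z := by
      have h1 : m = (q⁻¹ * v * q⁻¹⁻¹) * z := by rw [hm]; group
      rw [h1, map_mul]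
      have h2 : q⁻¹ * v * q⁻¹⁻¹ ∈ pCore p X := hVn.conj_mem v hv q⁻¹
      rw [QuotientGroup.mk'_apply, (QuotientGroup.eq_one_iff _).mpr h2, one_mul]
    -- the order of `m` is prime to `p`
    have hmo : (orderOf m).Coprime p := by
      rw [Nat.coprime_comm, Nat.Prime.coprime_iff_not_dvd hp]
      intro hdvd
      have hpos : 0 < orderOf m := orderOf_pos m
      have h1 : orderOf (m ^ (orderOf m / p)) = p := orderOf_pow_orderOf_div hpos.ne' hdvd
      exact hNQ _ (Subgroup.pow_mem _ hmN _) h1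
    obtain ⟨k, hk⟩ := hz
    have h1 : ((QuotientGroup.mk' (pCore p X)) z) ^ p ^ k = 1 := by
      rw [← map_pow, hk, map_one]
    have h2 : ((QuotientGroup.mk' (pCore p X)) z) ^ orderOf m = 1 := by
      rw [← hmz, ← map_pow, pow_orderOf_eq_one, map_one]
    have h3 : orderOf ((QuotientGroup.mk' (pCore p X)) z) ∣ p ^ k := orderOf_dvd_of_pow_eq_one h1
    have h4 : orderOf ((QuotientGroup.mk' (pCore p X)) z) ∣ orderOf m :=
      orderOf_dvd_of_pow_eq_one h2
    have h5 : (orderOf m).Coprime (p ^ k) := hmo.pow_right k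
    have h6 : orderOf ((QuotientGroup.mk' (pCore p X)) z) = 1 :=
      Nat.eq_one_of_dvd_coprimes h5 h4 h3
    have h7 := orderOf_eq_one_iff.mp h6
    exact (QuotientGroup.eq_one_iff z).mp h7

end Main

section Reduction

variable {G : Type*} [Group G] [Finite G] {p : ℕ} [Fact p.Prime]

instance pPrimeCore_normal_inst (p : ℕ) : (pPrimeCore p G).Normal :=
  Cfsg.Agent.Lib.Helper1_Cores.pPrimeCore_normal p

/-- A subgroup of order `p` of `G ⧸ O_{p'}(G)` is the image of a subgroup of order `p` of `G`. -/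
theorem exists_lift_card_prime (U : Subgroup (G ⧸ pPrimeCore p G)) (hU : Nat.card U = p) :
    ∃ U' : Subgroup G, Nat.card U' = p ∧ U'.map (QuotientGroup.mk' (pPrimeCore p G)) = U := by
  have hp : p.Prime := Fact.out
  have hnt : Nontrivial U := by
    rw [← Finite.one_lt_card_iff_nontrivial, hU]; exact hp.one_lt
  obtain ⟨u, hu⟩ := exists_ne (1 : U)
  have hu1 : (u : G ⧸ pPrimeCore p G) ≠ 1 := fun h => hu (Subtype.ext h)
  have hup : (u : G ⧸ pPrimeCore p G) ^ p = 1 := by
    have h1 : u ^ Nat.card U = 1 := pow_card_eq_one'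
    rw [hU] at h1
    have := congrArg Subtype.val h1
    simpa using this
  have huo : orderOf (u : G ⧸ pPrimeCore p G) = p := orderOf_eq_prime hup hu1
  have hUz : Subgroup.zpowers (u : G ⧸ pPrimeCore p G) = U := by
    apply Subgroup.eq_of_le_of_card_ge (Subgroup.zpowers_le.mpr u.2)
    rw [Nat.card_zpowers, huo, hU]
  obtain ⟨g, hg, k, hk⟩ := Cfsg.Agent.Lib.Helper64_HHPLength.exists_pelement_lift (p := p)
    (pPrimeCore p G) (u : G ⧸ pPrimeCore p G) ⟨1, by rw [pow_one]; exact hup⟩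
  have hgpN : g ^ p ∈ pPrimeCore p G := by
    rw [← QuotientGroup.eq_one_iff, ← QuotientGroup.mk'_apply, map_pow, hg, hup]
  have hgp : g ^ p = 1 := by
    have h1 : orderOf (g ^ p) ∣ p ^ k := by
      apply orderOf_dvd_of_pow_eq_one
      rw [← pow_mul, mul_comm, pow_mul, hk, one_pow]
    have h2 : orderOf (g ^ p) ∣ Nat.card (pPrimeCore p G) :=
      Subgroup.orderOf_dvd_natCard _ hgpN
    have h3 : (Nat.card (pPrimeCore p G)).Coprime (p ^ k) :=
      (Cfsg.Agent.Lib.Helper1_Cores.pPrimeCore_card_coprime p).pow_right k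
    exact orderOf_eq_one_iff.mp (Nat.eq_one_of_dvd_coprimes h3 h2 h1)
  have hg1 : g ≠ 1 := by
    rintro rfl
    rw [map_one] at hg
    exact hu1 hg.symm
  have hgo : orderOf g = p := orderOf_eq_prime hgp hg1
  refine ⟨Subgroup.zpowers g, by rw [Nat.card_zpowers, hgo], ?_⟩
  rw [MonoidHom.map_zpowers, hg, hUz]

/-- Transitivity on subgroups of order `p` passes to `G ⧸ O_{p'}(G)`. -/
theorem htrans_quotient
    (htrans : ∀ U V : Subgroup G, Nat.card U = p → Nat.card V = p →
      ∃ a : MulAut G, U.map a.toMonoidHom = V) :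
    ∀ U W : Subgroup (G ⧸ pPrimeCore p G), Nat.card U = p → Nat.card W = p →
      ∃ a : MulAut (G ⧸ pPrimeCore p G), U.map a.toMonoidHom = W := by
  intro U W hU hW
  obtain ⟨U', hU', rfl⟩ := exists_lift_card_prime U hU
  obtain ⟨W', hW', rfl⟩ := exists_lift_card_prime W hW
  obtain ⟨a, ha⟩ := htrans U' W' hU' hW'
  have hmap : (pPrimeCore p G).map ((a : G ≃* G) : G →* G) = pPrimeCore p G := by
    apply le_antisymm (Cfsg.Agent.Lib.Helper1_Cores.pPrimeCore_map_le p a)
    intro v hv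
    refine ⟨a⁻¹ v, ?_, ?_⟩
    · exact Cfsg.Agent.Lib.Helper1_Cores.pPrimeCore_map_le p a⁻¹ (Subgroup.mem_map_of_mem _ hv)
    · show (a * a⁻¹) v = v
      rw [mul_inv_cancel]; rfl
  refine ⟨QuotientGroup.congr (pPrimeCore p G) (pPrimeCore p G) a hmap, ?_⟩
  rw [Subgroup.map_map, ← ha, Subgroup.map_map]
  congr 1

end Reduction

end Cfsg.Agent.Lib.Helper1_GaschutzYen
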