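import Mathlib
import Cfsg.Prelude.Def_KGroupFacts
import Cfsg.Agent.Lib.Helper21_Components

/-!
# The "Schreier step" (helper31)

If `K ≤ G` is a perfect subgroup such that `Out (K / Z(K))` is solvable, then every perfect
subgroup `J` of `N_G(K)` induces inner automorphisms on `K`: `J ⊆ K · C_G(K)`.
-/

set_option autoImplicit false

namespace Cfsg.Agent.Lib.Helper31_Schreier

open Cfsg
open scoped commutatorElement

variable {G : Type*} [Group G]

/-- Conjugation by an element of the normalizer, as an automorphism of `K`. -/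
def conjAut (K : Subgroup G) (g : ↥(Subgroup.normalizer (K : Set G))) : MulAut ↥K where
  toFun k := ⟨(g : G) * k * (g : G)⁻¹, (Subgroup.mem_normalizer_iff.mp g.2 k).mp k.2⟩
  invFun k := ⟨(g : G)⁻¹ * k * (g : G), by
    have := (Subgroup.mem_normalizer_iff.mp (inv_mem g.2) (k : G)).mp k.2
    simpa using this⟩
  left_inv k := by
    apply Subtype.ext
    simp [mul_assoc]
  right_inv k := by
    apply Subtype.ext
    simp [mul_assoc]
  map_mul' a b := by
    apply Subtype.ext
    simp [mul_assoc]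

@[simp] theorem conjAut_apply_coe (K : Subgroup G) (g : ↥(Subgroup.normalizer (K : Set G)))
    (k : ↥K) : ((conjAut K g k : ↥K) : G) = (g : G) * k * (g : G)⁻¹ := rfl

/-- Conjugation `N_G(K) →* Aut(K)`. -/
def conjHom (K : Subgroup G) : ↥(Subgroup.normalizer (K : Set G)) →* MulAut ↥K where
  toFun := conjAut K
  map_one' := by
    ext k
    simp
  map_mul' a b := by
    ext k
    simp [mul_assoc]

@[simp] theorem conjHom_apply_coe (K : Subgroup G) (g : ↥(Subgroup.normalizer (K : Set G)))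
    (k : ↥K) : ((conjHom K g k : ↥K) : G) = (g : G) * k * (g : G)⁻¹ := rfl

theorem map_center_eq {Q : Type*} [Group Q] (α : MulAut Q) :
    (Subgroup.center Q).map (α : Q →* Q) = Subgroup.center Q :=
  Subgroup.characteristic_iff_map_eq.mp inferInstance α

/-- The automorphism induced on `Q / Z(Q)`. -/
def quotAut {Q : Type*} [Group Q] (α : MulAut Q) : MulAut (Q ⧸ Subgroup.center Q) :=
  QuotientGroup.congr (Subgroup.center Q) (Subgroup.center Q) α (map_center_eq α)

@[simp] theorem quotAut_mk {Q : Type*} [Group Q] (α : MulAut Q) (x : Q) :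
    quotAut α (QuotientGroup.mk x) = QuotientGroup.mk (α x) := rfl

/-- `Aut(Q) →* Aut(Q / Z(Q))`. -/
def quotHom (Q : Type*) [Group Q] : MulAut Q →* MulAut (Q ⧸ Subgroup.center Q) where
  toFun := quotAut
  map_one' := by
    ext x
    obtain ⟨x, rfl⟩ := QuotientGroup.mk_surjective x
    simp
  map_mul' a b := by
    ext x
    obtain ⟨x, rfl⟩ := QuotientGroup.mk_surjective x
    simp

@[simp] theorem quotHom_mk {Q : Type*} [Group Q] (α : MulAut Q) (x : Q) :
    quotHom Q α (QuotientGroup.mk x) = QuotientGroup.mk (α x) := rfl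

/-- A perfect subgroup of a solvable group is trivial. -/
theorem eq_bot_of_perfect_of_isSolvable {A : Type*} [Group A] [hA : Group.IsSolvable A]
    {S : Subgroup A} (hS : ⁅S, S⁆ = S) : S = ⊥ := by
  obtain ⟨n, hn⟩ := hA.solvable
  have key : ∀ m : ℕ, S ≤ derivedSeries A m := by
    intro m
    induction m with
    | zero => simp
    | succ m ih =>
      rw [derivedSeries_succ]
      calc S = ⁅S, S⁆ := hS.symm
        _ ≤ _ := Subgroup.commutator_mono ih ih
  rw [eq_bot_iff, ← hn]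
  exact key n

/-- Elements of `N_G(K)` acting trivially on `K / Z(K)` centralize the perfect group `K`. -/
theorem mem_centralizer_of_quotHom_eq_one (K : Subgroup G) (hK : ⁅K, K⁆ = K)
    (c : ↥(Subgroup.normalizer (K : Set G))) (hc : quotHom ↥K (conjHom K c) = 1) :
    (c : G) ∈ Subgroup.centralizer (K : Set G) := by
  set A : Subgroup ↥(Subgroup.normalizer (K : Set G)) := ((quotHom ↥K).comp (conjHom K)).ker with hA
  set A' : Subgroup G := A.map (Subgroup.normalizer (K : Set G)).subtype with hA'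
  have hcA0 : c ∈ A := by rw [hA, MonoidHom.mem_ker]; exact hc
  have hcA : (c : G) ∈ A' := ⟨c, hcA0, rfl⟩
  have h1 : ⁅A', K⁆ ≤ (Subgroup.center ↥K).map K.subtype := by
    rw [Subgroup.commutator_le]
    rintro _ ⟨a, ha0, rfl⟩ x hx
    have ha : a ∈ A := ha0
    rw [hA, MonoidHom.mem_ker] at ha
    have h2 : quotHom ↥K (conjHom K a) (QuotientGroup.mk ⟨x, hx⟩) = QuotientGroup.mk ⟨x, hx⟩ := by
      rw [MonoidHom.comp_apply] at ha
      rw [ha]; rfl
    rw [quotHom_mk, QuotientGroup.eq] at h2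
    have h3 : (conjHom K a ⟨x, hx⟩) * (⟨x, hx⟩ : ↥K)⁻¹ ∈ Subgroup.center ↥K := by
      have h4 := inv_mem h2
      have h5 : ((conjHom K a ⟨x, hx⟩)⁻¹ * ⟨x, hx⟩)⁻¹ = (⟨x, hx⟩ : ↥K)⁻¹ * conjHom K a ⟨x, hx⟩ := by
        group
      rw [h5] at h4
      have h6 := Subgroup.mem_center_iff.mp h4 (⟨x, hx⟩ : ↥K)
      have h7 : conjHom K a ⟨x, hx⟩ * (⟨x, hx⟩ : ↥K)⁻¹ =
          (⟨x, hx⟩ : ↥K) * ((⟨x, hx⟩ : ↥K)⁻¹ * conjHom K a ⟨x, hx⟩) * (⟨x, hx⟩ : ↥K)⁻¹ := by
        group
      rw [h7, h6]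
      simpa using h4
    refine ⟨_, h3, ?_⟩
    simp [commutatorElement_def]
  have h2 : ⁅⁅A', K⁆, K⁆ = ⊥ := by
    rw [eq_bot_iff]
    refine (Subgroup.commutator_mono h1 le_rfl).trans ?_
    rw [Subgroup.commutator_le]
    rintro _ ⟨z, hz, rfl⟩ x hx
    rw [Subgroup.mem_bot, commutatorElement_eq_one_iff_commute]
    have := Subgroup.mem_center_iff.mp hz ⟨x, hx⟩
    have h3 : x * (z : G) = (z : G) * x := congrArg Subtype.val this
    exact h3.symm
  have h3 := Cfsg.Agent.Lib.Helper21_Components.commutator_eq_bot_of_perfect hK h2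
  rw [Subgroup.commutator_comm, Subgroup.commutator_eq_bot_iff_le_centralizer] at h3
  exact h3 hcA

/-- The Schreier step. -/
theorem exists_mul_mem_centralizer (K : Subgroup G) (hK : ⁅K, K⁆ = K)
    (hOut : Group.IsSolvable (Out (↥K ⧸ Subgroup.center ↥K)))
    (J : Subgroup G) (hJ : ⁅J, J⁆ = J) (hJK : J ≤ Subgroup.normalizer (K : Set G)) :
    ∀ j ∈ J, ∃ k ∈ K, k⁻¹ * j ∈ Subgroup.centralizer (K : Set G) := by
  set N := Subgroup.normalizer (K : Set G) with hN
  set ψ : ↥N →* Out (↥K ⧸ Subgroup.center ↥K) :=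
    (QuotientGroup.mk' (Inn (↥K ⧸ Subgroup.center ↥K))).comp ((quotHom ↥K).comp (conjHom K))
    with hψ
  have hJ' : ⁅(J.subgroupOf N).map ψ, (J.subgroupOf N).map ψ⁆ = (J.subgroupOf N).map ψ := by
    rw [← Subgroup.map_commutator]
    congr 1
    apply Subgroup.map_injective (Subgroup.subtype_injective N)
    rw [Subgroup.map_commutator, Subgroup.map_subgroupOf_eq_of_le hJK, hJ]
  have hbot := eq_bot_of_perfect_of_isSolvable hJ'
  intro j hj
  have hψj : ψ ⟨j, hJK hj⟩ = 1 := by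
    have hj0 : (⟨j, hJK hj⟩ : ↥N) ∈ J.subgroupOf N := by rw [Subgroup.mem_subgroupOf]; exact hj
    have : ψ ⟨j, hJK hj⟩ ∈ (J.subgroupOf N).map ψ := ⟨⟨j, hJK hj⟩, hj0, rfl⟩
    rw [hbot, Subgroup.mem_bot] at this
    exact this
  rw [hψ, MonoidHom.comp_apply, QuotientGroup.mk'_apply, QuotientGroup.eq_one_iff] at hψj
  obtain ⟨q, hq⟩ := hψj
  obtain ⟨k, rfl⟩ := QuotientGroup.mk_surjective q
  have hkN : (k : G) ∈ N := Subgroup.le_normalizer k.2
  have hkconj : quotHom ↥K (conjHom K ⟨k, hkN⟩) = MulAut.conj (QuotientGroup.mk k) := by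
    ext x
    obtain ⟨x, rfl⟩ := QuotientGroup.mk_surjective x
    rw [quotHom_mk, MulAut.conj_apply, ← QuotientGroup.mk_inv, ← QuotientGroup.mk_mul,
      ← QuotientGroup.mk_mul]
    congr 1
  refine ⟨k, k.2, ?_⟩
  have hc : quotHom ↥K (conjHom K (⟨k, hkN⟩⁻¹ * ⟨j, hJK hj⟩)) = 1 := by
    rw [map_mul, map_mul, map_inv, map_inv, hkconj]
    rw [MonoidHom.comp_apply] at hq
    rw [← hq]
    simp
  exact mem_centralizer_of_quotHom_eq_one K hK _ hc

end Cfsg.Agent.Lib.Helper31_Schreier
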