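import Mathlib
import Cfsg.Agent.S1854
import Cfsg.Agent.S0215
import Cfsg.Agent.Lib.Helper1_Cores
import Cfsg.Agent.Lib.Helper23_PConstrained
import Cfsg.Agent.Lib.Helper31_Schreier

/-!
# Glauberman's theorem on `C_{Aut G}(S)` (helper1)

Let `G` be a finite group with `O(G) = 1` and `T` a Sylow `2`-subgroup of `G`, and let `C` be the
group of automorphisms of `G` fixing `T` pointwise.  Then (Glauberman, Math. Z. 93 (1966)) every
`2`-subgroup of `C` is abelian and `C` has a normal `2`-complement.  Consequently a perfect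
subgroup of `C` has odd order, and a perfect subgroup generated by `2`-elements is trivial
("Claim Ω" for `L_{2'}`-balance).

Proof: in `Y = G ⋊ M` (`M ≤ C` an abelian `2`-group, `b ∈ N_C(M)`) every normalizer of a member of
the Alperin–Goldschmidt family of `T × M` centralizes `[M, b]` (stability group argument), so by
the Alperin–Goldschmidt conjugation theorem (`S1854.cchain_of_cj_le`) involutions of `[M, b]` are
isolated, and Glauberman's `Z*`-theorem (`S0215`) forces them to centralize `G`.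

Main results: `conj_eq_of_fix`, `comm_of_fix`, `exists_normal_complement`, `odd_card_of_perfect`,
`eq_bot_of_perfect_of_gen`, and the internal forms `mem_centralizer_of_pow_two`,
`le_centralizer_of_perfect_of_gen`.
-/

set_option autoImplicit false

namespace Cfsg.Agent.Lib.Helper1_GlaubAut

open Subgroup Cfsg
open Cfsg.Agent.S1854 Cfsg.Agent.S1965
open Cfsg.Agent.Lib.Helper33_Conj Cfsg.Agent.Lib.Helper33_Alperin

section Generic

variable {Y : Type*} [Group Y]

/-- Elements of the join of two elementwise commuting subgroups are products. -/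
theorem exists_mul_of_mem_sup_comm {A B : Subgroup Y}
    (hc : ∀ a ∈ A, ∀ b ∈ B, a * b = b * a) {x : Y} (hx : x ∈ A ⊔ B) :
    ∃ a ∈ A, ∃ b ∈ B, x = a * b := by
  rw [Subgroup.sup_eq_closure] at hx
  induction hx using Subgroup.closure_induction with
  | mem x hx =>
    rcases hx with hx | hx
    · exact ⟨x, hx, 1, B.one_mem, by simp⟩
    · exact ⟨1, A.one_mem, x, hx, by simp⟩
  | one => exact ⟨1, A.one_mem, 1, B.one_mem, by simp⟩
  | mul x y _ _ hx hy =>
    obtain ⟨a, ha, b, hb, rfl⟩ := hx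
    obtain ⟨a', ha', b', hb', rfl⟩ := hy
    refine ⟨a * a', A.mul_mem ha ha', b * b', B.mul_mem hb hb', ?_⟩
    have := hc a' ha' b hb
    calc a * b * (a' * b') = a * (b * a') * b' := by group
      _ = a * (a' * b) * b' := by rw [this]
      _ = a * a' * (b * b') := by group
  | inv x _ hx =>
    obtain ⟨a, ha, b, hb, rfl⟩ := hx
    refine ⟨a⁻¹, A.inv_mem ha, b⁻¹, B.inv_mem hb, ?_⟩
    have := hc a ha b hb
    rw [mul_inv_rev]
    have h2 : b⁻¹ * a⁻¹ = (a * b)⁻¹ := by group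
    have h3 : a⁻¹ * b⁻¹ = (b * a)⁻¹ := by group
    rw [h2, h3, this]

/-- A `2`-element of a subgroup of odd order is trivial. -/
theorem eq_one_of_mem_odd [Finite Y] {A : Subgroup Y} (hA : (Nat.card A).Coprime 2) {a : Y}
    (ha : a ∈ A) {k : ℕ} (hk : a ^ 2 ^ k = 1) : a = 1 := by
  have h1 : orderOf a ∣ Nat.card A := Subgroup.orderOf_dvd_natCard A ha
  have h2 : orderOf a ∣ 2 ^ k := orderOf_dvd_of_pow_eq_one hk
  have h3 : (Nat.card A).Coprime (2 ^ k) := Nat.Coprime.pow_right k hA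
  have h4 : orderOf a ∣ 1 := by
    have := Nat.dvd_gcd h1 h2
    rwa [h3] at this
  exact orderOf_eq_one_iff.mp (Nat.dvd_one.mp h4)

/-- Elements of a finite `2`-subgroup are killed by a fixed power of `2`. -/
theorem exists_pow_two_eq_one [Finite Y] {D : Subgroup Y} (hD : IsPGroup 2 D) :
    ∃ k : ℕ, ∀ d ∈ D, d ^ 2 ^ k = 1 := by
  obtain ⟨k, hk⟩ := IsPGroup.iff_card.mp hD
  refine ⟨k, fun d hd => ?_⟩
  have h := pow_card_eq_one' (G := D) (x := ⟨d, hd⟩)
  rw [hk] at h
  simpa using congrArg Subtype.val h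

end Generic

/-- Data for the key lemma: `G ⊴ Y` with `Y / G` abelian, a Sylow `2`-subgroup `P = (P ∩ G) M` of
`Y` with `M` central in `P`, and an automorphism `β` of `Y` fixing `P ∩ G` pointwise and
mapping `M` to itself. -/
structure Setup (Y : Type*) [Group Y] [Finite Y] where
  G : Subgroup Y
  hG : G.Normal
  hab : ∀ x y : Y, x * y * x⁻¹ * y⁻¹ ∈ G
  P : Sylow 2 Y
  M : Subgroup Y
  hMP : M ≤ (P : Subgroup Y)
  hMZ : ∀ m ∈ M, ∀ x ∈ (P : Subgroup Y), m * x = x * m
  hdec : ∀ x ∈ (P : Subgroup Y), ∃ m ∈ M, x * m ∈ G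
  β : Y ≃* Y
  hβT : ∀ x ∈ (P : Subgroup Y), x ∈ G → β x = x
  hβM : ∀ m ∈ M, β m ∈ M
  hcore : ∀ N : Subgroup Y, N.Normal → N ≤ G → Odd (Nat.card N) → N = ⊥
  hfaith : ∀ m ∈ M, (∀ g ∈ G, m * g = g * m) → m = 1

section Key

variable {Y : Type*} [Group Y] [Finite Y] (S : Setup Y)

theorem card_core_coprime (D : Subgroup Y) :
    (Nat.card ((pPrimeCore 2 ↥(normalizer (D : Set Y))).map
      (normalizer (D : Set Y)).subtype)).Coprime 2 := by
  rw [Subgroup.card_map_of_injective (Subgroup.subtype_injective _)]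
  exact Cfsg.Agent.Lib.Helper1_Cores.pPrimeCore_card_coprime 2

/-- `M` lies in every member of the Alperin–Goldschmidt family. -/
theorem Setup.M_le {D : Subgroup Y} (hD : D ∈ AGFam S.P) : S.M ≤ D := by
  intro m hm
  obtain ⟨hDP, hcen, hprod, -⟩ := hD
  obtain ⟨hA, hDC, hcomm, hdisj, hsup⟩ := hprod
  have hmc : m ∈ centralizer (D : Set Y) := by
    rw [mem_centralizer_iff]
    intro d hd
    exact (S.hMZ m hm d (hDP hd)).symm
  have hm2 := hcen hmc
  rw [← hsup] at hm2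
  obtain ⟨a, ha, d, hd, rfl⟩ := exists_mul_of_mem_sup_comm hcomm hm2
  have haP : a ∈ (S.P : Subgroup Y) := by
    have : a = (a * d) * d⁻¹ := by group
    rw [this]; exact mul_mem (S.hMP hm) (inv_mem (hDP hd))
  obtain ⟨k, hk⟩ := S.P.2 ⟨a, haP⟩
  have hk' : a ^ 2 ^ k = 1 := by simpa using congrArg Subtype.val hk
  have := eq_one_of_mem_odd (card_core_coprime D) ha hk'
  rw [this, one_mul]; exact hd

/-- Stability group argument: an element of `N(D)` centralizing `D ∩ G` has a `2`-power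
centralizing `D`. -/
theorem Setup.pow_mem_centralizer {D : Subgroup Y} (hDP : D ≤ (S.P : Subgroup Y)) {x : Y}
    (hx : x ∈ normalizer (D : Set Y)) (hx0 : ∀ e ∈ D ⊓ S.G, x * e * x⁻¹ = e) :
    ∃ k : ℕ, x ^ 2 ^ k ∈ centralizer (D : Set Y) := by
  have hD0 : IsPGroup 2 (D ⊓ S.G : Subgroup Y) := S.P.2.to_le (inf_le_left.trans hDP)
  obtain ⟨k, hk⟩ := exists_pow_two_eq_one hD0
  refine ⟨k, ?_⟩
  rw [mem_centralizer_iff]
  intro d hd
  have hd' : d ∈ D := hd
  set f : Y := d⁻¹ * (x * d * x⁻¹) with hf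
  have hfD : f ∈ D := D.mul_mem (D.inv_mem hd') ((mem_normalizer_iff.mp hx d).mp hd')
  have hfG : f ∈ S.G := by
    have := S.hab d⁻¹ x
    have e : d⁻¹ * x * d⁻¹⁻¹ * x⁻¹ = f := by rw [hf]; group
    rwa [e] at this
  have hf0 : f ∈ D ⊓ S.G := ⟨hfD, hfG⟩
  have hxf : x * f * x⁻¹ = f := hx0 f hf0
  have hcomm : Commute x f := by
    have : x * f = f * x := by
      calc x * f = (x * f * x⁻¹) * x := by group
        _ = f * x := by rw [hxf]
    exact this
  have key : ∀ j : ℕ, x ^ j * d * (x ^ j)⁻¹ = d * f ^ j := by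
    intro j
    induction j with
    | zero => simp
    | succ j ih =>
      have h1 : x ^ (j + 1) * d * (x ^ (j + 1))⁻¹ = x * (x ^ j * d * (x ^ j)⁻¹) * x⁻¹ := by
        rw [pow_succ']; group
      rw [h1, ih]
      have h2 : x * (d * f ^ j) * x⁻¹ = (x * d * x⁻¹) * (x * f ^ j * x⁻¹) := by group
      have h3 : x * f ^ j * x⁻¹ = f ^ j := by
        have := (hcomm.pow_right j).eq
        calc x * f ^ j * x⁻¹ = (f ^ j * x) * x⁻¹ := by rw [this]
          _ = f ^ j := by group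
      have h4 : x * d * x⁻¹ = d * f := by rw [hf]; group
      rw [h2, h3, h4, pow_succ', mul_assoc]
  have h5 := key (2 ^ k)
  rw [hk f hf0, mul_one] at h5
  calc d * x ^ 2 ^ k = (x ^ 2 ^ k * d * (x ^ 2 ^ k)⁻¹) * x ^ 2 ^ k := by rw [h5]
    _ = x ^ 2 ^ k * d := by group

/-- Elements of `C(D)`, `D` in the family, have a `2`-power in `O(N(D))`. -/
theorem Setup.pow_mem_core {D : Subgroup Y} (hD : D ∈ AGFam S.P) {y : Y}
    (hy : y ∈ centralizer (D : Set Y)) :
    ∃ k : ℕ, y ^ 2 ^ k ∈ (pPrimeCore 2 ↥(normalizer (D : Set Y))).map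
      (normalizer (D : Set Y)).subtype := by
  obtain ⟨hDP, hcen, hprod, -⟩ := hD
  obtain ⟨hA, hDC, hcomm, hdisj, hsup⟩ := hprod
  have hy2 := hcen hy
  rw [← hsup] at hy2
  obtain ⟨a, ha, d, hd, rfl⟩ := exists_mul_of_mem_sup_comm hcomm hy2
  obtain ⟨k, hk⟩ := exists_pow_two_eq_one (S.P.2.to_le hDP)
  refine ⟨k, ?_⟩
  have hc : Commute a d := hcomm a ha d hd
  rw [hc.mul_pow, hk d hd, mul_one]
  exact pow_mem ha _


/-- An element of `N(D)` centralizing `D ∩ G` lies in `O_{2',2}(N(D))`. -/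
theorem Setup.mem_pPrimePCore {D : Subgroup Y} (hD : D ∈ AGFam S.P) {x : Y}
    (hx : x ∈ normalizer (D : Set Y)) (hx0 : ∀ e ∈ D ⊓ S.G, x * e * x⁻¹ = e) :
    x ∈ (pPrimePCore 2 ↥(normalizer (D : Set Y))).map (normalizer (D : Set Y)).subtype := by
  have hGn := S.hG
  set N := normalizer (D : Set Y) with hN
  -- the centralizer of `D ∩ G` in `N`
  let K : Subgroup ↥N := (centralizer (((D ⊓ S.G : Subgroup Y)) : Set Y)).subgroupOf N
  have hKmem : ∀ k : ↥N, k ∈ K ↔ ∀ e ∈ D ⊓ S.G, (k : Y) * e * (k : Y)⁻¹ = e := by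
    intro k
    rw [mem_subgroupOf, mem_centralizer_iff]
    constructor
    · intro h e he
      have := h e he
      calc (k : Y) * e * (k : Y)⁻¹ = (e * (k : Y)) * (k : Y)⁻¹ := by rw [this]
        _ = e := by group
    · intro h e he
      have := h e he
      calc e * (k : Y) = ((k : Y) * e * (k : Y)⁻¹) * (k : Y) := by rw [this]
        _ = (k : Y) * e := by group
  have hKn : K.Normal := by
    refine ⟨fun k hk n => ?_⟩
    rw [hKmem] at hk ⊢
    intro e he
    -- e' = n⁻¹ e n ∈ D ∩ G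
    have hn : (n : Y)⁻¹ ∈ normalizer (D : Set Y) := inv_mem n.2
    have he' : (n : Y)⁻¹ * e * (n : Y) ∈ D ⊓ S.G := by
      refine ⟨?_, ?_⟩
      · have := (mem_normalizer_iff.mp hn e).mp he.1
        simpa using this
      · have := S.hG.conj_mem e he.2 (n : Y)⁻¹
        simpa using this
    have h1 := hk _ he'
    have e1 : ((n * k * n⁻¹ : ↥N) : Y) = (n : Y) * (k : Y) * (n : Y)⁻¹ := by simp
    rw [e1]
    calc (n : Y) * (k : Y) * (n : Y)⁻¹ * e * ((n : Y) * (k : Y) * (n : Y)⁻¹)⁻¹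
        = (n : Y) * ((k : Y) * ((n : Y)⁻¹ * e * (n : Y)) * (k : Y)⁻¹) * (n : Y)⁻¹ := by group
      _ = (n : Y) * ((n : Y)⁻¹ * e * (n : Y)) * (n : Y)⁻¹ := by rw [h1]
      _ = e := by group
  have hKp : ∀ k ∈ K, ∃ j : ℕ, k ^ 2 ^ j ∈ pPrimeCore 2 ↥N := by
    intro k hk
    rw [hKmem] at hk
    obtain ⟨a, ha⟩ := S.pow_mem_centralizer hD.1 k.2 hk
    obtain ⟨b, hb⟩ := S.pow_mem_core hD ha
    refine ⟨a + b, ?_⟩
    rw [← pow_mul, ← pow_add] at hb
    obtain ⟨w, hw, hw2⟩ := hb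
    have : w = k ^ 2 ^ (a + b) := by
      apply Subtype.ext
      rw [SubgroupClass.coe_pow]
      exact hw2
    rwa [← this]
  have hKle : K.map (QuotientGroup.mk' (pPrimeCore 2 ↥N)) ≤ pCore 2 (↥N ⧸ pPrimeCore 2 ↥N) := by
    apply Cfsg.Agent.Lib.Helper1_Cores.le_pCore
    · exact Subgroup.Normal.map hKn _ (QuotientGroup.mk'_surjective _)
    · intro g
      obtain ⟨g, hg⟩ := g
      obtain ⟨k, hk, rfl⟩ := hg
      obtain ⟨j, hj⟩ := hKp k hk
      refine ⟨j, Subtype.ext ?_⟩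
      rw [SubgroupClass.coe_pow]
      show (QuotientGroup.mk' (pPrimeCore 2 ↥N) k) ^ 2 ^ j = 1
      rw [← map_pow]
      exact (QuotientGroup.eq_one_iff _).mpr hj
  have hxK : (⟨x, hx⟩ : ↥N) ∈ K := by
    rw [hKmem]; exact hx0
  have h2 : (⟨x, hx⟩ : ↥N) ∈ pPrimePCore 2 ↥N := by
    rw [Cfsg.Agent.Lib.Helper23_PConstrained.mem_pPrimePCore_iff]
    exact hKle (Subgroup.mem_map_of_mem _ hxK)
  exact ⟨⟨x, hx⟩, h2, rfl⟩

/-- **Key step.** For `D` in the family, an element of `N(D)` centralizing `D ∩ G`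
centralizes `D`. -/
theorem Setup.cent_of_cent_inf {D : Subgroup Y} (hD : D ∈ AGFam S.P) {x : Y}
    (hx : x ∈ normalizer (D : Set Y)) (hx0 : ∀ e ∈ D ⊓ S.G, x * e * x⁻¹ = e) :
    ∀ e ∈ D, x * e * x⁻¹ = e := by
  have h1 := S.mem_pPrimePCore hD hx hx0
  have hML := S.M_le hD
  obtain ⟨hDP, hcen, hprod, -⟩ := hD
  obtain ⟨hA, hDC, hcomm, hdisj, hsup⟩ := hprod
  rw [← hsup] at h1
  obtain ⟨o, ho, d, hd, rfl⟩ := exists_mul_of_mem_sup_comm hcomm h1
  -- `o * d` acts on `D` as `d` does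
  have hact : ∀ e ∈ D, (o * d) * e * (o * d)⁻¹ = d * e * d⁻¹ := by
    intro e he
    have h2 := hcomm o ho (d * e * d⁻¹) (D.mul_mem (D.mul_mem hd he) (D.inv_mem hd))
    calc (o * d) * e * (o * d)⁻¹ = (o * (d * e * d⁻¹)) * o⁻¹ := by group
      _ = ((d * e * d⁻¹) * o) * o⁻¹ := by rw [h2]
      _ = d * e * d⁻¹ := by group
  -- `d` centralizes `D ∩ G`
  have hd0 : ∀ e ∈ D ⊓ S.G, d * e * d⁻¹ = e := by
    intro e he
    rw [← hact e he.1]; exact hx0 e he
  intro e he
  rw [hact e he]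
  -- decompose `e = t * m⁻¹`
  obtain ⟨m, hm, htG⟩ := S.hdec e (hDP he)
  have htD : e * m ∈ D := D.mul_mem he (hML hm)
  have h3 := hd0 (e * m) ⟨htD, htG⟩
  have h4 : m * d = d * m := S.hMZ m hm d (hDP hd)
  calc d * e * d⁻¹ = (d * (e * m) * d⁻¹) * (d * m⁻¹ * d⁻¹) := by group
    _ = (e * m) * (d * m⁻¹ * d⁻¹) := by rw [h3]
    _ = (e * m) * ((d * m) * d⁻¹)⁻¹ := by group
    _ = (e * m) * ((m * d) * d⁻¹)⁻¹ := by rw [h4]
    _ = e := by group

/-- `β` maps members of the family (indeed any `D` with `M ≤ D ≤ P`) into themselves. -/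
theorem Setup.beta_mem {D : Subgroup Y} (hDP : D ≤ (S.P : Subgroup Y)) (hML : S.M ≤ D) {d : Y}
    (hd : d ∈ D) : S.β d ∈ D := by
  obtain ⟨m, hm, htG⟩ := S.hdec d (hDP hd)
  have htD : d * m ∈ D := D.mul_mem hd (hML hm)
  have h1 : S.β (d * m) = d * m := S.hβT _ (hDP htD) htG
  have h2 : S.β d = (d * m) * (S.β m)⁻¹ := by
    rw [← h1, map_mul]; group
  rw [h2]
  exact D.mul_mem htD (D.inv_mem (hML (S.hβM m hm)))

theorem Setup.beta_mem_iff {D : Subgroup Y} (hDP : D ≤ (S.P : Subgroup Y)) (hML : S.M ≤ D) (d : Y) :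
    S.β d ∈ D ↔ d ∈ D := by
  have hle : D.map S.β.toMonoidHom ≤ D := by
    rintro _ ⟨d, hd, rfl⟩
    exact S.beta_mem hDP hML hd
  have hcard : Nat.card (D.map S.β.toMonoidHom) = Nat.card D :=
    Subgroup.card_map_of_injective S.β.injective
  have heq : D.map S.β.toMonoidHom = D :=
    Subgroup.eq_of_le_of_card_ge hle (le_of_eq hcard.symm)
  constructor
  · intro h
    rw [← heq] at h
    obtain ⟨d', hd', hdd⟩ := h
    have : d' = d := S.β.injective hdd
    rwa [← this]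
  · exact S.beta_mem hDP hML

/-- `β` maps `N(D)` to itself. -/
theorem Setup.beta_normalizer {D : Subgroup Y} (hDP : D ≤ (S.P : Subgroup Y)) (hML : S.M ≤ D)
    {n : Y} (hn : n ∈ normalizer (D : Set Y)) : S.β n ∈ normalizer (D : Set Y) := by
  rw [mem_normalizer_iff]
  intro h
  obtain ⟨h', rfl⟩ := S.β.surjective h
  have e : S.β n * S.β h' * (S.β n)⁻¹ = S.β (n * h' * n⁻¹) := by
    rw [map_mul, map_mul, map_inv]
  rw [e, S.beta_mem_iff hDP hML, S.beta_mem_iff hDP hML]
  exact mem_normalizer_iff.mp hn h'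

/-- For `D` in the family, every element of `N(D)` centralizes `β m * m⁻¹`, `m ∈ M`. -/
theorem Setup.normalizer_comm {D : Subgroup Y} (hD : D ∈ AGFam S.P) {n : Y}
    (hn : n ∈ normalizer (D : Set Y)) {m : Y} (hm : m ∈ S.M) :
    n * (S.β m * m⁻¹) * n⁻¹ = S.β m * m⁻¹ := by
  have hGn := S.hG
  have hDP : D ≤ (S.P : Subgroup Y) := hD.1
  have hML := S.M_le hD
  have hβn := S.beta_normalizer hDP hML hn
  -- `n` maps `D ∩ G` to itself
  have hn0 : ∀ e ∈ D ⊓ S.G, n * e * n⁻¹ ∈ D ⊓ S.G := fun e he =>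
    ⟨(mem_normalizer_iff.mp hn e).mp he.1, S.hG.conj_mem e he.2 n⟩
  have hfix : ∀ e ∈ D ⊓ S.G, S.β e = e := fun e he => S.hβT e (hDP he.1) he.2
  -- `u = n⁻¹ β(n)` normalizes `D` and centralizes `D ∩ G`
  have hu : n⁻¹ * S.β n ∈ normalizer (D : Set Y) := mul_mem (inv_mem hn) hβn
  have hu0 : ∀ e ∈ D ⊓ S.G, (n⁻¹ * S.β n) * e * (n⁻¹ * S.β n)⁻¹ = e := by
    intro e he
    have h1 : S.β n * e * (S.β n)⁻¹ = n * e * n⁻¹ := by
      calc S.β n * e * (S.β n)⁻¹ = S.β n * S.β e * (S.β n)⁻¹ := by rw [hfix e he]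
        _ = S.β (n * e * n⁻¹) := by rw [map_mul, map_mul, map_inv]
        _ = n * e * n⁻¹ := hfix _ (hn0 e he)
    calc (n⁻¹ * S.β n) * e * (n⁻¹ * S.β n)⁻¹ = n⁻¹ * (S.β n * e * (S.β n)⁻¹) * n := by group
      _ = n⁻¹ * (n * e * n⁻¹) * n := by rw [h1]
      _ = e := by group
  have hucent := S.cent_of_cent_inf hD hu hu0
  -- apply to `β m ∈ M ≤ D`
  have h2 := hucent (S.β m) (hML (S.hβM m hm))
  have h3 : S.β (n * m * n⁻¹) = n * S.β m * n⁻¹ := by
    have : S.β (n * m * n⁻¹) = S.β n * S.β m * (S.β n)⁻¹ := by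
      rw [map_mul, map_mul, map_inv]
    rw [this]
    calc S.β n * S.β m * (S.β n)⁻¹
        = n * ((n⁻¹ * S.β n) * S.β m * (n⁻¹ * S.β n)⁻¹) * n⁻¹ := by group
      _ = n * S.β m * n⁻¹ := by rw [h2]
  -- the commutator `c = m⁻¹ n m n⁻¹ ∈ D ∩ G`
  have hmD : m ∈ D := hML hm
  have hc : m⁻¹ * (n * m * n⁻¹) ∈ D ⊓ S.G := by
    refine ⟨D.mul_mem (D.inv_mem hmD) ((mem_normalizer_iff.mp hn m).mp hmD), ?_⟩
    have := S.hab m⁻¹ n
    have e : m⁻¹ * n * m⁻¹⁻¹ * n⁻¹ = m⁻¹ * (n * m * n⁻¹) := by group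
    rwa [e] at this
  have h4 := hfix _ hc
  rw [map_mul, map_inv, h3] at h4
  -- h4 : (β m)⁻¹ * (n * β m * n⁻¹) = m⁻¹ * (n * m * n⁻¹)
  calc n * (S.β m * m⁻¹) * n⁻¹
      = S.β m * ((S.β m)⁻¹ * (n * S.β m * n⁻¹)) * (n * m * n⁻¹)⁻¹ := by group
    _ = S.β m * (m⁻¹ * (n * m * n⁻¹)) * (n * m * n⁻¹)⁻¹ := by rw [h4]
    _ = S.β m * m⁻¹ := by group

end Key

section ChainFix

variable {Y : Type*} [Group Y]

/-- A chain through normalizers all of which centralize the set `Z` centralizes every subset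
of `Z`. -/
theorem chain_fix {𝓕 : Set (Subgroup Y)} {Z : Set Y}
    (hZ : ∀ T ∈ 𝓕, ∀ n ∈ normalizer (T : Set Y), ∀ z ∈ Z, n * z * n⁻¹ = z)
    {A : Set Y} {g : Y} (h : Chain 𝓕 A g) (hA : A ⊆ Z) : ∀ a ∈ A, g * a * g⁻¹ = a := by
  induction h with
  | nil A => intro a _; simp
  | cons A T x g hT hx hAT _ ih =>
    have hxinv : x⁻¹ ∈ normalizer (T : Set Y) := inv_mem hx
    have hfix : ∀ a ∈ A, x⁻¹ * a * x⁻¹⁻¹ = a := fun a ha => hZ T hT x⁻¹ hxinv a (hA ha)
    have hsub : cjs x⁻¹ A ⊆ Z := by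
      rintro _ ⟨a, ha, rfl⟩
      change x⁻¹ * a * x⁻¹⁻¹ ∈ Z
      rw [hfix a ha]; exact hA ha
    have ih' := ih hsub
    intro a ha
    have hmem : a ∈ cjs x⁻¹ A := ⟨a, ha, hfix a ha⟩
    have h1 := ih' a hmem
    have h2 := hZ T hT x hx a (hA ha)
    calc x * g * a * (x * g)⁻¹ = x * (g * a * g⁻¹) * x⁻¹ := by group
      _ = x * a * x⁻¹ := by rw [h1]
      _ = a := h2

end ChainFix


section Final

variable {Y : Type*} [Group Y] [Finite Y] (S : Setup Y)

/-- An element of `P` centralized by all `N(D)`, `D` in the family, is isolated in `P`. -/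
theorem isolated_of_fix (P : Sylow 2 Y) {z : Y} (hzP : z ∈ (P : Subgroup Y))
    (hz : ∀ T ∈ AGFam P, ∀ n ∈ normalizer (T : Set Y), n * z * n⁻¹ = z) :
    ∀ y : Y, y * z * y⁻¹ ∈ (P : Subgroup Y) → y * z * y⁻¹ = z := by
  intro y hy
  have hQP : zpowers z ≤ (P : Subgroup Y) := (zpowers_le).mpr hzP
  have hcj : cj y (zpowers z) ≤ (P : Subgroup Y) := by
    intro x hx
    rw [mem_cj] at hx
    obtain ⟨i, hi⟩ := hx
    have hi' : z ^ i = y⁻¹ * x * y := hi
    have e : x = (y * z * y⁻¹) ^ i := by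
      rw [conj_zpow, hi']; group
    rw [e]; exact zpow_mem hy i
  obtain ⟨c, hc, g', hch, hyc⟩ := cchain_of_cj_le P (zpowers z) hQP y hcj
  -- all of `zpowers z` is fixed by the normalizers
  have hZ : ∀ T ∈ AGFam P, ∀ n ∈ normalizer (T : Set Y), ∀ w ∈ ((zpowers z : Subgroup Y) : Set Y),
      n * w * n⁻¹ = w := by
    intro T hT n hn w hw
    obtain ⟨i, rfl⟩ := hw
    change n * z ^ i * n⁻¹ = z ^ i
    rw [← conj_zpow, hz T hT n hn]
  have h1 := chain_fix hZ hch (le_refl _) z (mem_zpowers z)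
  have h2 : z * c = c * z := mem_centralizer_iff.mp hc z (mem_zpowers z)
  have h3 : y⁻¹ * z * y⁻¹⁻¹ = z := by
    rw [hyc]
    calc c * g' * z * (c * g')⁻¹ = c * (g' * z * g'⁻¹) * c⁻¹ := by group
      _ = c * z * c⁻¹ := by rw [h1]
      _ = (z * c) * c⁻¹ := by rw [h2]
      _ = z := by group
  calc y * z * y⁻¹ = y * (y⁻¹ * z * y⁻¹⁻¹) * y⁻¹ := by rw [h3]
    _ = z := by group

/-- **Key lemma.** `β` fixes `M` pointwise. -/
theorem Setup.beta_fix : ∀ m ∈ S.M, S.β m = m := by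
  classical
  intro m hm
  by_contra hmne
  have hGn := S.hG
  set z : Y := S.β m * m⁻¹ with hzdef
  have hzM : z ∈ S.M := S.M.mul_mem (S.hβM m hm) (S.M.inv_mem hm)
  have hz1 : z ≠ 1 := by
    intro h
    apply hmne
    rw [hzdef] at h
    exact mul_inv_eq_one.mp h
  have hzP : z ∈ (S.P : Subgroup Y) := S.hMP hzM
  -- order of `z`
  obtain ⟨k, hk⟩ := S.P.2 ⟨z, hzP⟩
  have hk' : z ^ 2 ^ k = 1 := by simpa using congrArg Subtype.val hk
  obtain ⟨j, -, hj⟩ := (Nat.dvd_prime_pow Nat.prime_two).mp (orderOf_dvd_of_pow_eq_one hk')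
  have hj0 : j ≠ 0 := by
    intro h
    rw [h, pow_zero, orderOf_eq_one_iff] at hj
    exact hz1 hj
  obtain ⟨i, rfl⟩ : ∃ i, j = i + 1 := ⟨j - 1, by omega⟩
  set u : Y := z ^ 2 ^ i with hudef
  have hu2 : orderOf u = 2 := by
    rw [hudef, orderOf_pow_of_dvd (by positivity) (by rw [hj, pow_succ]; exact dvd_mul_right _ _),
      hj, pow_succ]
    exact Nat.mul_div_cancel_left 2 (by positivity)
  have huM : u ∈ S.M := pow_mem hzM _
  have huP : u ∈ (S.P : Subgroup Y) := S.hMP huM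
  have hufix : ∀ T ∈ AGFam S.P, ∀ n ∈ normalizer (T : Set Y), n * u * n⁻¹ = u := by
    intro T hT n hn
    rw [hudef, ← conj_pow, hzdef, S.normalizer_comm hT hn hm]
  have hiso := isolated_of_fix S.P huP hufix
  obtain ⟨N, hNn, hNodd, hN⟩ := Cfsg.Agent.S0215.result S.P u hu2 huP hiso
  have hNG : N ⊓ S.G = ⊥ := by
    apply S.hcore (N ⊓ S.G) inferInstance inf_le_right
    exact Odd.of_dvd_nat hNodd (Subgroup.card_dvd_of_le inf_le_left)
  have hucent : ∀ g ∈ S.G, u * g = g * u := by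
    intro g hg
    have h1 : u * g * u⁻¹ * g⁻¹ ∈ N ⊓ S.G :=
      ⟨hN g, S.G.mul_mem (S.hG.conj_mem g hg u) (S.G.inv_mem hg)⟩
    rw [hNG, mem_bot] at h1
    calc u * g = (u * g * u⁻¹ * g⁻¹) * g * u := by group
      _ = g * u := by rw [h1, one_mul]
  have hu1 := S.hfaith u huM hucent
  rw [hu1, orderOf_one] at hu2
  norm_num at hu2

end Final


section Semidirect

open SemidirectProduct

variable {G : Type*} [Group G] [Finite G]

/-- The join of two elementwise commuting `2`-subgroups is a `2`-group. -/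
theorem isPGroup_sup_comm {Y : Type*} [Group Y] {A B : Subgroup Y} (hA : IsPGroup 2 A)
    (hB : IsPGroup 2 B) (hc : ∀ a ∈ A, ∀ b ∈ B, a * b = b * a) : IsPGroup 2 (A ⊔ B : Subgroup Y) := by
  rintro ⟨x, hx⟩
  obtain ⟨a, ha, b, hb, rfl⟩ := exists_mul_of_mem_sup_comm hc hx
  obtain ⟨i, hi⟩ := hA ⟨a, ha⟩
  obtain ⟨j, hj⟩ := hB ⟨b, hb⟩
  have hi' : a ^ 2 ^ i = 1 := by simpa using congrArg Subtype.val hi
  have hj' : b ^ 2 ^ j = 1 := by simpa using congrArg Subtype.val hj
  refine ⟨i + j, Subtype.ext ?_⟩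
  rw [SubgroupClass.coe_pow]
  show (a * b) ^ 2 ^ (i + j) = 1
  have hcm : Commute a b := hc a ha b hb
  rw [hcm.mul_pow, pow_add, pow_mul, hi', one_pow, mul_comm (2 ^ i), pow_mul, hj', one_pow, one_mul]

/-- **Glauberman's lemma on `C_{Aut G}(T)`**, commutator form: if `O(G) = 1`, `T` is a Sylow
`2`-subgroup of `G`, `M` is an abelian `2`-group of automorphisms fixing `T` pointwise and the
automorphism `b` fixes `T` pointwise and normalizes `M`, then `b` centralizes `M`. -/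
theorem conj_eq_of_fix (hcore : pPrimeCore 2 G = ⊥) (T : Sylow 2 G) (M : Subgroup (MulAut G))
    (hM2 : IsPGroup 2 M) (hMab : ∀ a ∈ M, ∀ c ∈ M, a * c = c * a)
    (hMT : ∀ a ∈ M, ∀ x ∈ (T : Subgroup G), a x = x) (b : MulAut G)
    (hbT : ∀ x ∈ (T : Subgroup G), b x = x) (hbM : ∀ a ∈ M, b * a * b⁻¹ ∈ M) :
    ∀ a ∈ M, b * a * b⁻¹ = a := by
  classical
  have : Finite (G ⋊[M.subtype] ↥M) := Finite.of_equiv _ (equivProd (φ := M.subtype)).symm
  let Y := G ⋊[M.subtype] ↥M
  let iG : G →* Y := inl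
  let iM : ↥M →* Y := inr
  -- basic commutation rule
  have hrule : ∀ (a : ↥M) (g : G), iM a * iG g = iG ((a : MulAut G) g) * iM a := by
    intro a g
    have := inl_aut (φ := M.subtype) a g
    change iG ((a : MulAut G) g) = iM a * iG g * iM a⁻¹ at this
    rw [this, map_inv]; group
  have hdecomp : ∀ x : Y, iG x.left * iM x.right = x := fun x => inl_left_mul_inr_right x
  -- the Sylow subgroup
  have hcomm0 : ∀ u ∈ (T : Subgroup G).map iG, ∀ v ∈ iM.range, u * v = v * u := by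
    rintro _ ⟨t, ht, rfl⟩ _ ⟨a, rfl⟩
    rw [hrule a t, hMT a a.2 t ht]
  have hP0 : IsPGroup 2 ((T : Subgroup G).map iG ⊔ iM.range : Subgroup Y) := by
    apply isPGroup_sup_comm (T.2.map iG) _ hcomm0
    have : IsPGroup 2 (M.map (MonoidHom.id _)) := hM2.map _
    exact (IsPGroup.of_surjective hM2 iM.rangeRestrict iM.rangeRestrict_surjective)
  obtain ⟨P, hP⟩ := hP0.exists_le_sylow
  have hTP : (T : Subgroup G).map iG ≤ (P : Subgroup Y) := le_sup_left.trans hP
  have hMP : iM.range ≤ (P : Subgroup Y) := le_sup_right.trans hP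
  -- `P ∩ G = T`
  have hPG : ∀ g : G, iG g ∈ (P : Subgroup Y) → g ∈ (T : Subgroup G) := by
    intro g hg
    have hQ : IsPGroup 2 ((P : Subgroup Y).comap iG) := P.2.comap_of_injective iG inl_injective
    have hle : (T : Subgroup G) ≤ (P : Subgroup Y).comap iG := by
      intro t ht
      exact hTP (Subgroup.mem_map_of_mem _ ht)
    have := T.is_maximal' hQ hle
    rw [← this]; exact hg
  have hPleft : ∀ x ∈ (P : Subgroup Y), x.left ∈ (T : Subgroup G) := by
    intro x hx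
    apply hPG
    have h1 : iG x.left = x * (iM x.right)⁻¹ := by
      rw [eq_mul_inv_iff_mul_eq]; exact hdecomp x
    change iG x.left ∈ (P : Subgroup Y)
    rw [h1]
    exact mul_mem hx (inv_mem (hMP ⟨x.right, rfl⟩))
  -- the automorphism induced by `b`
  let f₂ : ↥M →* ↥M :=
    { toFun := fun a => ⟨b * a * b⁻¹, hbM a a.2⟩
      map_one' := by apply Subtype.ext; simp
      map_mul' := by
        intro a c; apply Subtype.ext
        simp only [Subgroup.coe_mul]; group }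
  have hf₂ : Function.Injective f₂ := by
    intro a c hac
    have h1 : b * (a : MulAut G) * b⁻¹ = b * (c : MulAut G) * b⁻¹ := congrArg Subtype.val hac
    apply Subtype.ext
    have h2 := congrArg (fun z => b⁻¹ * z * b) h1
    simpa [mul_assoc] using h2
  have hcond : ∀ a : ↥M, b.toMonoidHom.comp (M.subtype a).toMonoidHom =
      (M.subtype (f₂ a)).toMonoidHom.comp b.toMonoidHom := by
    intro a
    ext g
    simp only [MonoidHom.coe_comp, MulEquiv.coe_toMonoidHom, Function.comp_apply,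
      Subgroup.coe_subtype]
    change b ((a : MulAut G) g) = (b * (a : MulAut G) * b⁻¹) (b g)
    simp [MulAut.mul_apply]
  let βh : Y →* Y := SemidirectProduct.map b.toMonoidHom f₂ hcond
  have hβinj : Function.Injective βh := by
    intro x y hxy
    have h1 : (βh x).left = (βh y).left := by rw [hxy]
    have h2 : (βh x).right = (βh y).right := by rw [hxy]
    rw [map_left, map_left] at h1
    rw [map_right, map_right] at h2
    exact SemidirectProduct.ext (b.injective h1) (hf₂ h2)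
  let β : Y ≃* Y := MulEquiv.ofBijective βh ⟨hβinj, Finite.surjective_of_injective hβinj⟩
  have hβG : ∀ g : G, β (iG g) = iG (b g) := fun g => map_inl b.toMonoidHom f₂ hcond g
  have hβM : ∀ a : ↥M, β (iM a) = iM (f₂ a) := fun a => map_inr b.toMonoidHom f₂ hcond a
  -- assemble the setup
  have hGrange : (iG.range : Subgroup Y) = (rightHom : Y →* ↥M).ker := range_inl_eq_ker_rightHom
  let S : Setup Y :=
    { G := iG.range
      hG := by rw [hGrange]; infer_instance
      hab := by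
        intro x y
        rw [hGrange, MonoidHom.mem_ker]
        simp only [map_mul, map_inv]
        have hc : Commute (rightHom x : ↥M) (rightHom y) := by
          apply Subtype.ext
          exact hMab _ (rightHom x : ↥M).2 _ (rightHom y : ↥M).2
        rw [hc.eq]; group
      P := P
      M := iM.range
      hMP := hMP
      hMZ := by
        rintro _ ⟨a, rfl⟩ x hx
        have ht := hPleft x hx
        rw [← hdecomp x, ← mul_assoc, hrule a x.left, hMT a a.2 _ ht, mul_assoc, mul_assoc,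
          ← map_mul, ← map_mul]
        congr 2
        apply Subtype.ext
        exact hMab _ a.2 _ x.right.2
      hdec := by
        intro x hx
        refine ⟨iM x.right⁻¹, ⟨_, rfl⟩, x.left, ?_⟩
        rw [map_inv, eq_mul_inv_iff_mul_eq]; exact hdecomp x
      β := β
      hβT := by
        rintro x hx ⟨g, rfl⟩
        rw [hβG, hbT g (hPG g hx)]
      hβM := by
        rintro _ ⟨a, rfl⟩
        rw [hβM]; exact ⟨_, rfl⟩
      hcore := by
        intro N hN hNG hNodd
        have hn : (N.comap iG).Normal := hN.comap iG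
        have hcard : Nat.card (N.comap iG) = Nat.card N := by
          have : (N.comap iG).map iG = N := by
            rw [Subgroup.map_comap_eq, inf_eq_right]; exact hNG
          rw [← Subgroup.card_map_of_injective (inl_injective : Function.Injective iG), this]
        have hcop : (Nat.card (N.comap iG)).Coprime 2 := by
          rw [hcard]; exact Nat.Coprime.symm (Nat.coprime_two_left.mpr hNodd)
        have hle := Cfsg.Agent.Lib.Helper1_Cores.le_pPrimeCore hn hcop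
        rw [hcore, le_bot_iff] at hle
        rw [eq_bot_iff]
        intro x hx
        obtain ⟨g, rfl⟩ := hNG hx
        have : g ∈ N.comap iG := hx
        rw [hle, Subgroup.mem_bot] at this
        rw [this, map_one]; exact Subgroup.mem_bot.mpr rfl
      hfaith := by
        rintro _ ⟨a, rfl⟩ h
        have : (a : MulAut G) = 1 := by
          ext g
          have h1 := h (iG g) ⟨g, rfl⟩
          rw [hrule a g] at h1
          have h2 := mul_right_cancel h1
          exact inl_injective h2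
        have ha : a = 1 := Subtype.ext this
        rw [ha, map_one] }
  intro a ha
  have h := S.beta_fix (iM ⟨a, ha⟩) ⟨_, rfl⟩
  have h' : β (iM ⟨a, ha⟩) = iM ⟨a, ha⟩ := h
  rw [hβM] at h'
  have := inr_injective h'
  exact congrArg Subtype.val this


/-- **Glauberman.** If `O(G) = 1`, every `2`-group of automorphisms of `G` fixing a Sylow
`2`-subgroup of `G` pointwise is abelian. -/
theorem comm_of_fix (hcore : pPrimeCore 2 G = ⊥) (T : Sylow 2 G) (R : Subgroup (MulAut G))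
    (hR2 : IsPGroup 2 R) (hRT : ∀ a ∈ R, ∀ x ∈ (T : Subgroup G), a x = x) :
    ∀ a ∈ R, ∀ c ∈ R, a * c = c * a := by
  classical
  let p : Subgroup (MulAut G) → Prop := fun M => M ≤ R ∧ ∀ a ∈ M, ∀ c ∈ M, a * c = c * a
  have hbot : p ⊥ := by
    refine ⟨bot_le, ?_⟩
    intro a ha c hc
    rw [Subgroup.mem_bot] at ha hc
    rw [ha, hc]
  obtain ⟨M, -, hMmax⟩ := Finite.exists_le_maximal hbot
  have hMR : M ≤ R := hMmax.prop.1
  have hMab : ∀ a ∈ M, ∀ c ∈ M, a * c = c * a := hMmax.prop.2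
  by_cases hMeq : M = R
  · rw [← hMeq]; exact hMab
  exfalso
  have hlt : M < R := lt_of_le_of_ne hMR hMeq
  have h1 := lt_inf_normalizer hR2 hlt
  obtain ⟨x, hx, hxM⟩ := SetLike.exists_of_lt h1
  have hxR : x ∈ R := hx.1
  have hxN : x ∈ normalizer (M : Set (MulAut G)) := hx.2
  have hxc := conj_eq_of_fix hcore T M (hR2.to_le hMR) hMab (fun a ha => hRT a (hMR ha)) x
    (hRT x hxR) (fun a ha => (mem_normalizer_iff.mp hxN a).mp ha)
  have hxc' : ∀ a ∈ M, x * a = a * x := by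
    intro a ha
    have := hxc a ha
    calc x * a = (x * a * x⁻¹) * x := by group
      _ = a * x := by rw [this]
  let M' : Subgroup (MulAut G) := closure ((M : Set (MulAut G)) ∪ {x})
  have hM'R : M' ≤ R := by
    apply (closure_le R).mpr
    rintro y (hy | hy)
    · exact hMR hy
    · rw [Set.mem_singleton_iff] at hy
      rw [hy]; exact hxR
  have hgen : ∀ y ∈ (M : Set (MulAut G)) ∪ {x}, ∀ z ∈ (M : Set (MulAut G)) ∪ {x},
      y * z = z * y := by
    rintro y (hy | hy) z (hz | hz)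
    · exact hMab y hy z hz
    · rw [Set.mem_singleton_iff] at hz
      rw [hz]; exact (hxc' y hy).symm
    · rw [Set.mem_singleton_iff] at hy
      rw [hy]; exact hxc' z hz
    · rw [Set.mem_singleton_iff] at hy hz
      rw [hy, hz]
  have hM'ab : IsMulCommutative M' := Subgroup.isMulCommutative_closure hgen
  have hp' : p M' := by
    refine ⟨hM'R, fun a ha c hc => ?_⟩
    have := hM'ab.is_comm.comm (⟨a, ha⟩ : M') ⟨c, hc⟩
    exact congrArg Subtype.val this
  have hle : M ≤ M' := fun y hy => subset_closure (Or.inl hy)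
  have hge := hMmax.le_of_ge hp' hle
  exact hxM (hge (subset_closure (Or.inr rfl)))

/-- **Glauberman.** If `O(G) = 1`, a group `J` of automorphisms of `G` fixing a Sylow
`2`-subgroup pointwise has a normal `2`-complement `Q` with `J / Q` abelian. -/
theorem exists_normal_complement (hcore : pPrimeCore 2 G = ⊥) (T : Sylow 2 G)
    (J : Subgroup (MulAut G)) (hJT : ∀ a ∈ J, ∀ x ∈ (T : Subgroup G), a x = x) :
    ∃ Q : Subgroup ↥J, Q.Normal ∧ Odd (Nat.card Q) ∧ (∀ a c : ↥J, a * c * a⁻¹ * c⁻¹ ∈ Q) ∧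
      ∀ R : Sylow 2 ↥J, Q.IsComplement' (R : Subgroup ↥J) := by
  classical
  obtain ⟨R⟩ : Nonempty (Sylow 2 ↥J) := inferInstance
  -- the image of `R` in `MulAut G`
  let M : Subgroup (MulAut G) := (R : Subgroup ↥J).map J.subtype
  have hM2 : IsPGroup 2 M := R.2.map _
  have hMJ : M ≤ J := by
    rintro _ ⟨r, -, rfl⟩
    exact r.2
  have hMT : ∀ a ∈ M, ∀ x ∈ (T : Subgroup G), a x = x := fun a ha => hJT a (hMJ ha)
  have hMab := comm_of_fix hcore T M hM2 hMT
  have hRab : ∀ r s : ↥(R : Subgroup ↥J), r * s = s * r := by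
    intro r s
    apply Subtype.ext
    apply Subtype.ext
    exact hMab _ ⟨r, r.2, rfl⟩ _ ⟨s, s.2, rfl⟩
  have hNC : normalizer ((R : Subgroup ↥J) : Set ↥J) ≤ centralizer ((R : Subgroup ↥J) : Set ↥J) := by
    intro n hn
    rw [mem_centralizer_iff]
    intro r hr
    have hbM : ∀ a ∈ M, (n : MulAut G) * a * (n : MulAut G)⁻¹ ∈ M := by
      rintro _ ⟨s, hs, rfl⟩
      exact ⟨n * s * n⁻¹, (mem_normalizer_iff.mp hn s).mp hs, by simp⟩
    have h1 := conj_eq_of_fix hcore T M hM2 hMab hMT (n : MulAut G) (hJT _ n.2) hbM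
      (r : MulAut G) ⟨r, hr, rfl⟩
    apply Subtype.ext
    have h2 : (n : MulAut G) * (r : MulAut G) = (r : MulAut G) * (n : MulAut G) := by
      calc (n : MulAut G) * (r : MulAut G)
          = ((n : MulAut G) * (r : MulAut G) * (n : MulAut G)⁻¹) * (n : MulAut G) := by group
        _ = (r : MulAut G) * (n : MulAut G) := by rw [h1]
    exact h2.symm
  have hcomp := MonoidHom.ker_transferSylow_isComplement' R hNC
  set Q : Subgroup ↥J := (MonoidHom.transferSylow R hNC).ker with hQ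
  have hcard : Nat.card Q * Nat.card (R : Subgroup ↥J) = Nat.card ↥J := hcomp.card_mul_card
  have hQodd : Odd (Nat.card Q) := by
    have h1 : Nat.card (R : Subgroup ↥J) * (R : Subgroup ↥J).index = Nat.card ↥J :=
      Subgroup.card_mul_index _
    have h2 : Nat.card Q = (R : Subgroup ↥J).index := by
      have hpos : 0 < Nat.card (R : Subgroup ↥J) := Nat.card_pos
      rw [mul_comm] at hcard
      exact Nat.eq_of_mul_eq_mul_left hpos (hcard.trans h1.symm)
    rw [h2]
    have := R.not_dvd_index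
    exact Nat.odd_iff.mpr (Nat.two_dvd_ne_zero.mp this)
  refine ⟨Q, inferInstance, hQodd, ?_, ?_⟩
  · intro a c
    rw [hQ, MonoidHom.mem_ker]
    simp only [map_mul, map_inv]
    rw [hRab (MonoidHom.transferSylow R hNC a) (MonoidHom.transferSylow R hNC c)]
    group
  · intro R'
    -- all Sylow subgroups are complements by cardinality
    apply Subgroup.isComplement'_of_coprime
    · rw [R'.card_eq_multiplicity, ← R.card_eq_multiplicity]; exact hcard
    · have h2 : IsPGroup 2 (R' : Subgroup ↥J) := R'.2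
      obtain ⟨k, hk⟩ := IsPGroup.iff_card.mp h2
      rw [hk]
      exact Nat.Coprime.pow_right k (Nat.coprime_two_right.mpr hQodd)

/-- If `O(G) = 1`, a perfect group of automorphisms of `G` fixing a Sylow `2`-subgroup
pointwise has odd order. -/
theorem odd_card_of_perfect (hcore : pPrimeCore 2 G = ⊥) (T : Sylow 2 G)
    (J : Subgroup (MulAut G)) (hJT : ∀ a ∈ J, ∀ x ∈ (T : Subgroup G), a x = x)
    (hJ : ⁅J, J⁆ = J) : Odd (Nat.card J) := by
  obtain ⟨Q, hQn, hQodd, hQab, -⟩ := exists_normal_complement hcore T J hJT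
  have hle : J ≤ Q.map J.subtype := by
    have hle0 : ⁅J, J⁆ ≤ Q.map J.subtype := by
      rw [Subgroup.commutator_le]
      intro a ha c hc
      have hmem : ((⟨a, ha⟩ : ↥J) * ⟨c, hc⟩ * (⟨a, ha⟩ : ↥J)⁻¹ * (⟨c, hc⟩ : ↥J)⁻¹) ∈ Q :=
        hQab ⟨a, ha⟩ ⟨c, hc⟩
      have h2 := Subgroup.mem_map_of_mem J.subtype hmem
      have h3 : J.subtype ((⟨a, ha⟩ : ↥J) * ⟨c, hc⟩ * (⟨a, ha⟩ : ↥J)⁻¹ * (⟨c, hc⟩ : ↥J)⁻¹) =
          a * c * a⁻¹ * c⁻¹ := rfl
      rw [h3] at h2
      rw [commutatorElement_def]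
      exact h2
    rwa [hJ] at hle0
  have hQtop : Q = ⊤ := by
    rw [eq_top_iff]
    intro a _
    obtain ⟨q, hq, hqa⟩ := hle a.2
    have : q = a := Subtype.ext hqa
    rwa [← this]
  rw [hQtop] at hQodd
  rwa [Subgroup.card_top] at hQodd

/-- **Claim Ω.** If `O(G) = 1`, a perfect group of automorphisms of `G` fixing a Sylow
`2`-subgroup pointwise and generated by `2`-elements is trivial. -/
theorem eq_bot_of_perfect_of_gen (hcore : pPrimeCore 2 G = ⊥) (T : Sylow 2 G)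
    (J : Subgroup (MulAut G)) (hJT : ∀ a ∈ J, ∀ x ∈ (T : Subgroup G), a x = x)
    (hJ : ⁅J, J⁆ = J) (hgen : J ≤ closure {a | a ∈ J ∧ ∃ k : ℕ, a ^ 2 ^ k = 1}) : J = ⊥ := by
  have hodd := odd_card_of_perfect hcore T J hJT hJ
  rw [eq_bot_iff]
  refine hgen.trans ((closure_le _).mpr ?_)
  rintro a ⟨haJ, k, hk⟩
  have hcop : (Nat.card J).Coprime 2 := Nat.Coprime.symm (Nat.coprime_two_left.mpr hodd)
  have := eq_one_of_mem_odd hcop haJ hk
  rw [this]; exact Subgroup.one_mem _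

end Semidirect


section Internal

open Cfsg.Agent.Lib.Helper31_Schreier

variable {X : Type*} [Group X] [Finite X]

/-- Internal form.  Let `K ≤ X` with `O(K) = 1` and let `J ≤ N_X(K)` be a perfect subgroup
centralizing a Sylow `2`-subgroup of `K`.  Then every `2`-element of `J` centralizes `K`. -/
theorem mem_centralizer_of_pow_two (K : Subgroup X) (hcore : pPrimeCore 2 ↥K = ⊥) (S : Sylow 2 ↥K)
    (J : Subgroup X) (hJN : J ≤ normalizer (K : Set X))
    (hJS : ∀ j ∈ J, ∀ s ∈ (S : Subgroup ↥K), j * (s : X) = (s : X) * j)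
    (hJ : ⁅J, J⁆ = J) {j : X} (hj : j ∈ J) {k : ℕ} (hk : j ^ 2 ^ k = 1) :
    j ∈ centralizer (K : Set X) := by
  set N := normalizer (K : Set X) with hN
  set J' : Subgroup (MulAut ↥K) := (J.subgroupOf N).map (conjHom K) with hJ'def
  have hJ' : ⁅J', J'⁆ = J' := by
    rw [hJ'def, ← Subgroup.map_commutator]
    congr 1
    apply Subgroup.map_injective (Subgroup.subtype_injective N)
    rw [Subgroup.map_commutator, Subgroup.map_subgroupOf_eq_of_le hJN, hJ]
  have hJ'S : ∀ a ∈ J', ∀ x ∈ (S : Subgroup ↥K), a x = x := by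
    rintro _ ⟨n, hn, rfl⟩ x hx
    apply Subtype.ext
    rw [conjHom_apply_coe]
    have h1 : (n : X) ∈ J := Subgroup.mem_subgroupOf.mp hn
    have h2 := hJS _ h1 x hx
    rw [h2]; group
  have hodd := odd_card_of_perfect hcore S J' hJ'S hJ'
  have hcop : (Nat.card J').Coprime 2 := Nat.Coprime.symm (Nat.coprime_two_left.mpr hodd)
  have hjN : j ∈ N := hJN hj
  have hmem : conjHom K ⟨j, hjN⟩ ∈ J' :=
    ⟨⟨j, hjN⟩, Subgroup.mem_subgroupOf.mpr hj, rfl⟩
  have hpow : (conjHom K ⟨j, hjN⟩) ^ 2 ^ k = 1 := by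
    rw [← map_pow]
    have : (⟨j, hjN⟩ : ↥N) ^ 2 ^ k = 1 := by
      apply Subtype.ext
      rw [SubgroupClass.coe_pow]; exact hk
    rw [this, map_one]
  have hone := eq_one_of_mem_odd hcop hmem hpow
  rw [mem_centralizer_iff]
  intro x hx
  have h3 : (conjHom K ⟨j, hjN⟩) ⟨x, hx⟩ = ⟨x, hx⟩ := by rw [hone]; rfl
  have h4 : j * x * j⁻¹ = x := by
    have := congrArg Subtype.val h3
    rwa [conjHom_apply_coe] at this
  calc x * j = (j * x * j⁻¹) * j := by rw [h4]
    _ = j * x := by group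

/-- Internal form of Claim Ω.  Let `K ≤ X` with `O(K) = 1` and let `J ≤ N_X(K)` be a perfect
subgroup generated by `2`-elements and centralizing a Sylow `2`-subgroup of `K`.  Then `J`
centralizes `K`. -/
theorem le_centralizer_of_perfect_of_gen (K : Subgroup X) (hcore : pPrimeCore 2 ↥K = ⊥)
    (S : Sylow 2 ↥K) (J : Subgroup X) (hJN : J ≤ normalizer (K : Set X))
    (hJS : ∀ j ∈ J, ∀ s ∈ (S : Subgroup ↥K), j * (s : X) = (s : X) * j)
    (hJ : ⁅J, J⁆ = J) (hgen : J ≤ closure {a | a ∈ J ∧ ∃ k : ℕ, a ^ 2 ^ k = 1}) :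
    J ≤ centralizer (K : Set X) := by
  refine hgen.trans ((closure_le _).mpr ?_)
  rintro a ⟨haJ, k, hk⟩
  exact mem_centralizer_of_pow_two K hcore S J hJN hJS hJ haJ hk

end Internal

end Cfsg.Agent.Lib.Helper1_GlaubAut
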