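import Mathlib
import Cfsg.Agent.Lib.Helper1_MinNormal
import Cfsg.Agent.Lib.Helper24_CoprimeAction

/-!
Isaacs, Character Theory, Lemma 12.3, group-theoretic half (helper1).

If `G` is a finite solvable group whose commutator subgroup `G'` is the unique minimal normal
subgroup, then `G'` is an elementary abelian `p`-group and either `G` is a `p`-group with
`G' ≤ Z(G)`, `|G'| = p` and `G/Z(G)` of exponent `p`, or `G` is a Frobenius group with kernel `G'`
and an abelian complement.
-/

set_option autoImplicit false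
set_option linter.unusedSectionVars false

namespace Cfsg.Agent.Lib.Helper1_Isaacs123

open Subgroup
open scoped commutatorElement

variable {G : Type*} [Group G]

/-- commutators are in the commutator subgroup. -/
theorem comm_mem (x y : G) : ⁅x, y⁆ ∈ commutator G := by
  rw [_root_.commutator_def]
  exact commutator_mem_commutator (mem_top x) (mem_top y)

/-- `⁅x ^ n, y⁆ = ⁅x, y⁆ ^ n` when `⁅x, y⁆` commutes with `x`. -/
theorem commutatorElement_pow_left {x y : G} (h : Commute ⁅x, y⁆ x) (n : ℕ) :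
    ⁅x ^ n, y⁆ = ⁅x, y⁆ ^ n := by
  induction n with
  | zero => simp
  | succ n ih =>
    have e : ⁅x ^ (n + 1), y⁆ = x * ⁅x ^ n, y⁆ * x⁻¹ * ⁅x, y⁆ := by
      simp only [commutatorElement_def]
      group
    rw [e, ih, ← (h.pow_left n).eq, mul_inv_cancel_right, pow_succ]

/-- (A) a maximal normal subgroup with nonabelian quotient: in the quotient, the commutator
subgroup is the unique minimal normal subgroup. -/
theorem exists_max_nonabelian_quotient [Finite G] (h : commutator G ≠ ⊥) :
    ∃ K : Subgroup G, ∃ _ : K.Normal, commutator (G ⧸ K) ≠ ⊥ ∧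
      ∀ N : Subgroup (G ⧸ K), N.Normal → N ≠ ⊥ → commutator (G ⧸ K) ≤ N := by
  obtain ⟨K, -, hKmax⟩ :=
    Finite.exists_le_maximal (p := fun K : Subgroup G => K.Normal ∧ ¬ commutator G ≤ K)
      (a := (⊥ : Subgroup G)) ⟨inferInstance, fun hle => h (le_bot_iff.mp hle)⟩
  obtain ⟨hKn, hKc⟩ := hKmax.prop
  refine ⟨K, hKn, ?_, ?_⟩
  · have hmap : commutator (G ⧸ K) = (commutator G).map (QuotientGroup.mk' K) := by
      rw [_root_.commutator_def, _root_.commutator_def, map_commutator, ← MonoidHom.range_eq_map,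
        MonoidHom.range_eq_top.mpr (QuotientGroup.mk'_surjective K)]
    intro hbot
    apply hKc
    rw [hmap, (Subgroup.map_eq_bot_iff _), QuotientGroup.ker_mk'] at hbot
    exact hbot
  · intro N hN hNne
    have hmap : commutator (G ⧸ K) = (commutator G).map (QuotientGroup.mk' K) := by
      rw [_root_.commutator_def, _root_.commutator_def, map_commutator, ← MonoidHom.range_eq_map,
        MonoidHom.range_eq_top.mpr (QuotientGroup.mk'_surjective K)]
    set M := N.comap (QuotientGroup.mk' K) with hM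
    have hMn : M.Normal := hN.comap _
    have hKM : K ≤ M := by
      conv_lhs => rw [← QuotientGroup.ker_mk' K]
      exact ker_le_comap _ _
    have hMN : M.map (QuotientGroup.mk' K) = N :=
      map_comap_eq_self_of_surjective (QuotientGroup.mk'_surjective K) N
    have hcM : commutator G ≤ M := by
      by_contra hcon
      have hMK : M ≤ K := hKmax.le_of_ge ⟨hMn, hcon⟩ hKM
      apply hNne
      rw [← hMN, (Subgroup.map_eq_bot_iff _), QuotientGroup.ker_mk']
      exact hMK
    rw [hmap, ← hMN]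
    exact map_mono hcM

theorem eq_one_of_pow_coprime {c : G} {a b : ℕ} (hab : a.Coprime b) (ha : c ^ a = 1)
    (hb : c ^ b = 1) : c = 1 := by
  have d1 := orderOf_dvd_of_pow_eq_one ha
  have d2 := orderOf_dvd_of_pow_eq_one hb
  have := Nat.dvd_gcd d1 d2
  rw [hab.gcd_eq_one, Nat.dvd_one, orderOf_eq_one_iff] at this
  exact this

/-- central cyclic subgroups are normal. -/
theorem zpowers_normal_of_mem_center {x : G} (hx : x ∈ center G) : (zpowers x).Normal := by
  constructor
  intro z hz g
  have hzc : z ∈ center G := (zpowers_le.mpr hx) hz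
  have : g * z * g⁻¹ = z := by
    rw [mem_center_iff] at hzc
    rw [hzc g, mul_inv_cancel_right]
  rw [this]; exact hz

theorem exists_ne_one_of_ne_bot {D : Subgroup G} (hne : D ≠ ⊥) : ∃ d ∈ D, d ≠ 1 := by
  by_contra hcon
  push Not at hcon
  exact hne ((eq_bot_iff_forall _).mpr hcon)

section main

variable [Finite G] (D : Subgroup G) [hDn : D.Normal] (hcm : ∀ x y : G, ⁅x, y⁆ ∈ D)
  (hne : D ≠ ⊥) (hmin : ∀ N : Subgroup G, N.Normal → N ≠ ⊥ → D ≤ N)
  {p : ℕ} (hp : p.Prime) (hexp : ∀ x ∈ D, x ^ p = 1)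

include hcm hne hmin hp hexp in
/-- the case `Z(G) ≠ 1`. -/
theorem case_central (hDZ : D ≤ center G) :
    IsPGroup p G ∧ Nat.card D = p ∧ ∀ x : G, x ^ p ∈ center G := by
  have : Fact p.Prime := ⟨hp⟩
  have hpow : ∀ (x y : G) (n : ℕ), ⁅x ^ n, y⁆ = ⁅x, y⁆ ^ n := by
    intro x y n
    apply commutatorElement_pow_left
    have := hDZ (hcm x y)
    rw [mem_center_iff] at this
    exact (this x).symm
  obtain ⟨d, hdD, hd1⟩ := exists_ne_one_of_ne_bot hne
  refine ⟨?_, ?_, ?_⟩
  · have hcard : ∀ {ℓ : ℕ}, ℓ.Prime → ℓ ∣ Nat.card G → ℓ = p := by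
      intro ℓ hℓ hdvd
      by_contra hℓp
      have : Fact ℓ.Prime := ⟨hℓ⟩
      obtain ⟨x, hx⟩ := exists_prime_orderOf_dvd_card' ℓ hdvd
      have hcop : Nat.Coprime ℓ p := (Nat.coprime_primes hℓ hp).mpr hℓp
      have hxc : x ∈ center G := by
        rw [mem_center_iff]
        intro g
        have h1 : ⁅x, g⁆ ^ ℓ = 1 := by
          rw [← hpow, ← hx, pow_orderOf_eq_one, commutatorElement_one_left]
        have h2 : ⁅x, g⁆ ^ p = 1 := hexp _ (hcm x g)
        have h3 : ⁅x, g⁆ = 1 := eq_one_of_pow_coprime hcop h1 h2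
        exact (commutatorElement_eq_one_iff_commute.mp h3).eq.symm
      have hx1 : x ≠ 1 := by
        rintro rfl
        rw [orderOf_one] at hx
        exact hℓ.one_lt.ne hx
      have hle := hmin (zpowers x) (zpowers_normal_of_mem_center hxc)
        (by rwa [Ne, zpowers_eq_bot])
      obtain ⟨k, hk⟩ := mem_zpowers_iff.mp (hle hdD)
      apply hd1
      have h1 : d ^ ℓ = 1 := by
        rw [← hk, ← zpow_natCast, ← zpow_mul, mul_comm, zpow_mul, zpow_natCast, ← hx,
          pow_orderOf_eq_one, one_zpow]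
      exact eq_one_of_pow_coprime hcop h1 (hexp _ hdD)
    have hG : Nat.card G = p ^ (Nat.card G).primeFactorsList.length :=
      Nat.eq_prime_pow_of_unique_prime_dvd Nat.card_pos.ne' hcard
    exact IsPGroup.of_card hG
  · have hdc : d ∈ center G := hDZ hdD
    have hle := hmin (zpowers d) (zpowers_normal_of_mem_center hdc)
      (by rwa [Ne, zpowers_eq_bot])
    have heq : D = zpowers d := le_antisymm hle (zpowers_le.mpr hdD)
    rw [heq, Nat.card_zpowers]
    exact orderOf_eq_prime (hexp d hdD) hd1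
  · intro x
    rw [mem_center_iff]
    intro g
    have h1 : ⁅x ^ p, g⁆ = 1 := by rw [hpow]; exact hexp _ (hcm x g)
    exact (commutatorElement_eq_one_iff_commute.mp h1).eq.symm

include hcm hne hmin hp hexp in
/-- the case `Z(G) = 1`. -/
theorem case_centerless [Group.IsSolvable G] (hcomm : ∀ x ∈ D, ∀ y ∈ D, x * y = y * x)
    (hZ : center G = ⊥) :
    (∀ k ∈ D, k ≠ 1 → ∀ x : G, x * k = k * x → x ∈ D) ∧
      (Nat.card D).Coprime D.index ∧
      ∃ H : Subgroup G, IsComplement' D H ∧ ∀ x ∈ H, ∀ y ∈ H, x * y = y * x := by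
  classical
  have : Fact p.Prime := ⟨hp⟩
  have hDp : IsPGroup p D := by
    intro g
    refine ⟨1, ?_⟩
    rw [pow_one]
    exact Subtype.ext (hexp g g.2)
  obtain ⟨d₀, hd₀, hd₀1⟩ := exists_ne_one_of_ne_bot hne
  have hGnt : Nontrivial G := ⟨⟨d₀, 1, hd₀1⟩⟩
  have hnp : ¬ IsPGroup p G := by
    intro hG
    have := hG.center_nontrivial
    exact (Subgroup.nontrivial_iff_ne_bot _).mp this hZ
  obtain ⟨ℓ, hℓ, hℓdvd, hℓp⟩ : ∃ ℓ, ℓ.Prime ∧ ℓ ∣ Nat.card G ∧ ℓ ≠ p := by
    by_contra hcon
    push Not at hcon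
    apply hnp
    exact IsPGroup.of_card (Nat.eq_prime_pow_of_unique_prime_dvd Nat.card_pos.ne'
      (fun {d} hd hdv => hcon d hd hdv))
  have : Fact ℓ.Prime := ⟨hℓ⟩
  obtain ⟨Q⟩ : Nonempty (Sylow ℓ G) := inferInstance
  have hQne : (Q : Subgroup G) ≠ ⊥ := Q.ne_bot_of_dvd_card hℓdvd
  have hcop : (Nat.card (Q : Subgroup G)).Coprime (Nat.card D) := by
    obtain ⟨a, ha⟩ := IsPGroup.iff_card.mp Q.2
    obtain ⟨b, hb⟩ := IsPGroup.iff_card.mp hDp
    rw [ha, hb]
    exact Nat.Coprime.pow _ _ ((Nat.coprime_primes hℓ hp).mpr hℓp)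
  have hQD : (Q : Subgroup G) ≤ normalizer (D : Set G) := by
    rw [normalizer_eq_top]; exact le_top
  have hsolvD : Group.IsSolvable D := inferInstance
  set N := centralizer ((Q : Subgroup G) : Set G) with hN
  have hdecomp : ∀ g : G, ∃ n ∈ N, ∃ d ∈ D, g = n * d := by
    intro g
    obtain ⟨d, hd, hc⟩ := Cfsg.Agent.Lib.Helper24_CoprimeAction.exists_fixed_in_coset
      (Q : Subgroup G) D hQD hcop (Or.inr hsolvD) g (by
        intro a ha
        have : g⁻¹ * (a * g * a⁻¹) = ⁅g⁻¹, a⁆ := by rw [commutatorElement_def]; group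
        rw [this]; exact hcm _ _)
    refine ⟨g * d, ?_, d⁻¹, D.inv_mem hd, by group⟩
    rw [hN, mem_centralizer_iff]
    intro a ha
    exact hc a ha
  have hconj : ∀ n : G, ∀ d ∈ D, ∀ x ∈ D, n * d * x * (n * d)⁻¹ = n * x * n⁻¹ := by
    intro n d hd x hx
    have := hcomm d hd x hx
    calc n * d * x * (n * d)⁻¹ = n * (d * x) * d⁻¹ * n⁻¹ := by group
      _ = n * (x * d) * d⁻¹ * n⁻¹ := by rw [this]
      _ = n * x * n⁻¹ := by group
  have hEn : (N ⊓ D).Normal := by
    constructor
    intro x hx g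
    obtain ⟨n, hn, d, hd, rfl⟩ := hdecomp g
    rw [hconj n d hd x hx.2]
    exact ⟨N.mul_mem (N.mul_mem hn hx.1) (N.inv_mem hn), hDn.conj_mem x hx.2 n⟩
  have hE : N ⊓ D = ⊥ := by
    by_contra hEne
    have hDE := hmin _ hEn hEne
    have hDN : D ≤ N := fun x hx => (hDE hx).1
    have hNtop : ∀ g : G, g ∈ N := by
      intro g
      obtain ⟨n, hn, d, hd, rfl⟩ := hdecomp g
      exact N.mul_mem hn (hDN hd)
    apply hQne
    rw [eq_bot_iff]
    intro a ha
    rw [← hZ, mem_center_iff]
    intro g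
    have := hNtop g
    rw [hN, mem_centralizer_iff] at this
    exact (this a ha).symm
  have hNab : ∀ x ∈ N, ∀ y ∈ N, x * y = y * x := by
    intro x hx y hy
    have h1 : ⁅x, y⁆ ∈ N ⊓ D := by
      refine ⟨?_, hcm x y⟩
      rw [commutatorElement_def]
      exact N.mul_mem (N.mul_mem (N.mul_mem hx hy) (N.inv_mem hx)) (N.inv_mem hy)
    rw [hE, mem_bot] at h1
    exact (commutatorElement_eq_one_iff_commute.mp h1).eq
  have hfpf : ∀ x ∈ N, x ≠ 1 → ∀ a ∈ D, a * x = x * a → a = 1 := by
    intro x hx hx1 a ha hax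
    have hFn : (D ⊓ centralizer ({x} : Set G)).Normal := by
      constructor
      intro b hb g
      obtain ⟨n, hn, d, hd, rfl⟩ := hdecomp g
      rw [hconj n d hd b hb.1]
      have hb1 : b ∈ D := (Subgroup.mem_inf.mp hb).1
      refine Subgroup.mem_inf.mpr ⟨hDn.conj_mem b hb1 n, ?_⟩
      rw [mem_centralizer_singleton_iff]
      have hbx := mem_centralizer_singleton_iff.mp (Subgroup.mem_inf.mp hb).2
      have hnx := hNab n hn x hx
      calc n * b * n⁻¹ * x = n * b * (n⁻¹ * x * n) * n⁻¹ := by group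
        _ = n * b * (n⁻¹ * (n * x)) * n⁻¹ := by rw [hnx, mul_assoc n⁻¹ x n]
        _ = n * (b * x) * n⁻¹ := by group
        _ = n * (x * b) * n⁻¹ := by rw [hbx]
        _ = (n * x) * b * n⁻¹ := by group
        _ = x * n * b * n⁻¹ := by rw [hnx]
        _ = x * (n * b * n⁻¹) := by group
    by_cases hFb : D ⊓ centralizer ({x} : Set G) = ⊥
    · have : a ∈ D ⊓ centralizer ({x} : Set G) :=
        Subgroup.mem_inf.mpr ⟨ha, mem_centralizer_singleton_iff.mpr hax⟩
      rw [hFb, mem_bot] at this; exact this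
    · exfalso
      have hDF := hmin _ hFn hFb
      apply hx1
      have : x ∈ center G := by
        rw [mem_center_iff]
        intro g
        obtain ⟨n, hn, d, hd, rfl⟩ := hdecomp g
        have h1 := mem_centralizer_singleton_iff.mp (Subgroup.mem_inf.mp (hDF hd)).2
        have h2 := hNab n hn x hx
        calc n * d * x = n * (d * x) := by rw [mul_assoc]
          _ = n * (x * d) := by rw [h1]
          _ = (n * x) * d := by rw [mul_assoc]
          _ = x * n * d := by rw [h2]
          _ = x * (n * d) := by rw [mul_assoc]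
      rw [hZ, mem_bot] at this; exact this
  have hfrob : ∀ k ∈ D, k ≠ 1 → ∀ x : G, x * k = k * x → x ∈ D := by
    intro k hk hk1 x hxk
    obtain ⟨n, hn, d, hd, rfl⟩ := hdecomp x
    by_cases hn1 : n = 1
    · rw [hn1, one_mul]; exact hd
    · exfalso
      apply hk1
      apply hfpf n hn hn1 k hk
      have hdk := hcomm d hd k hk
      have h3 : n * k * d = k * n * d := by
        calc n * k * d = n * (k * d) := by rw [mul_assoc]
          _ = n * (d * k) := by rw [hdk]
          _ = n * d * k := by rw [mul_assoc]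
          _ = k * (n * d) := hxk
          _ = k * n * d := by rw [mul_assoc]
      exact (mul_right_cancel h3).symm
  have hcompl : IsComplement' D N := by
    apply isComplement'_of_disjoint_and_mul_eq_univ
    · rw [disjoint_iff, inf_comm]; exact hE
    · rw [Set.eq_univ_iff_forall]
      intro g
      obtain ⟨n, hn, d, hd, rfl⟩ := hdecomp g
      exact ⟨n * d * n⁻¹, hDn.conj_mem d hd n, n, hn, by group⟩
  -- coprimality through a Sylow `p`-subgroup
  obtain ⟨P, hDP⟩ := hDp.exists_le_sylow
  have hPn : (P : Subgroup G).Normal := by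
    constructor
    intro x hx g
    have : g * x * g⁻¹ = ⁅g, x⁆ * x := by rw [commutatorElement_def]; group
    rw [this]
    exact (P : Subgroup G).mul_mem (hDP (hcm g x)) hx
  have hZPn : ((P : Subgroup G) ⊓ centralizer ((P : Subgroup G) : Set G)).Normal := inferInstance
  have hZPne : (P : Subgroup G) ⊓ centralizer ((P : Subgroup G) : Set G) ≠ ⊥ := by
    have hPnt : Nontrivial (P : Subgroup G) :=
      ⟨⟨⟨d₀, hDP hd₀⟩, 1, fun h => hd₀1 (congrArg Subtype.val h)⟩⟩
    have := P.2.center_nontrivial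
    obtain ⟨z, hz1⟩ := exists_ne (1 : center (P : Subgroup G))
    intro hbot
    apply hz1
    have hz : ((z : (P : Subgroup G)) : G) ∈
        (P : Subgroup G) ⊓ centralizer ((P : Subgroup G) : Set G) := by
      refine Subgroup.mem_inf.mpr ⟨(z : (P : Subgroup G)).2, ?_⟩
      rw [mem_centralizer_iff]
      intro h hh
      have := mem_center_iff.mp z.2 ⟨h, hh⟩
      exact congrArg Subtype.val this
    rw [hbot, mem_bot] at hz
    exact Subtype.ext (Subtype.ext hz)
  have hDZP := hmin _ hZPn hZPne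
  have hPN : ∀ x ∈ (P : Subgroup G), x ∈ N → x = 1 := by
    intro x hxP hxN
    by_contra hx1
    apply hd₀1
    apply hfpf x hxN hx1 d₀ hd₀
    have := (Subgroup.mem_inf.mp (hDZP hd₀)).2
    rw [mem_centralizer_iff] at this
    exact (this x hxP).symm
  have hPD : (P : Subgroup G) = D := by
    apply le_antisymm _ hDP
    intro x hx
    obtain ⟨n, hn, d, hd, rfl⟩ := hdecomp x
    have hnP : n ∈ (P : Subgroup G) := by
      have : n = n * d * d⁻¹ := by group
      rw [this]; exact mul_mem hx (inv_mem (hDP hd))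
    rw [hPN n hnP hn, one_mul]; exact hd
  have hcopr : (Nat.card D).Coprime D.index := by
    rw [← hPD]; exact P.card_coprime_index
  exact ⟨hfrob, hcopr, N, hcompl, hNab⟩

end main

/-- (B) **Isaacs 12.3, group-theoretic half.**  If `G` is finite solvable and `G'` is the unique
minimal normal subgroup, then `G'` is elementary abelian (`p`) and either `G` is a `p`-group with
`G' ≤ Z(G)`, `|G'| = p`, `G/Z(G)` of exponent `p`, or `G` is a Frobenius group with kernel `G'`
(in the `hfrob`/`hcop` form of `Helper25_FrobSet.setOf_irr_eq`) and an abelian complement. -/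
theorem structure_of_unique_minimal [Finite G] [Group.IsSolvable G] (hne : commutator G ≠ ⊥)
    (hmin : ∀ N : Subgroup G, N.Normal → N ≠ ⊥ → commutator G ≤ N) :
    ∃ p : ℕ, p.Prime ∧ IsPGroup p (commutator G) ∧ (∀ x ∈ commutator G, x ^ p = 1) ∧
      (∀ x ∈ commutator G, ∀ y ∈ commutator G, x * y = y * x) ∧
      ((IsPGroup p G ∧ commutator G ≤ center G ∧ Nat.card (commutator G) = p ∧
          ∀ x : G, x ^ p ∈ center G) ∨
        ((∀ k ∈ commutator G, k ≠ 1 → ∀ x : G, x * k = k * x → x ∈ commutator G) ∧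
          (Nat.card (commutator G)).Coprime (commutator G).index ∧
          ∃ H : Subgroup G, IsComplement' (commutator G) H ∧
            ∀ x ∈ H, ∀ y ∈ H, x * y = y * x)) := by
  have hDn : (commutator G).Normal := inferInstance
  have hsolv : Group.IsSolvable (commutator G) := inferInstance
  have hmin' : ∀ M : Subgroup G, M.Normal → M ≤ commutator G → M = ⊥ ∨ M = commutator G := by
    intro M hM hle
    by_cases hMb : M = ⊥
    · exact Or.inl hMb
    · exact Or.inr (le_antisymm hle (hmin M hM hMb))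
  obtain ⟨hab, p, hp, hexp⟩ :=
    Cfsg.Agent.Lib.Helper1_MinNormal.elementary_abelian_of_minimal (commutator G) hsolv hne hmin'
  have hcomm : ∀ x ∈ commutator G, ∀ y ∈ commutator G, x * y = y * x := by
    intro x hx y hy
    have := hab.is_comm.comm ⟨x, hx⟩ ⟨y, hy⟩
    exact congrArg Subtype.val this
  have hDp : IsPGroup p (commutator G) := by
    intro g
    refine ⟨1, ?_⟩
    rw [pow_one]
    exact Subtype.ext (hexp g g.2)
  refine ⟨p, hp, hDp, hexp, hcomm, ?_⟩
  by_cases hZ : center G = ⊥
  · right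
    exact case_centerless (commutator G) comm_mem hne hmin hp hexp hcomm hZ
  · left
    have hDZ := hmin (center G) inferInstance hZ
    obtain ⟨h1, h2, h3⟩ := case_central (commutator G) comm_mem hne hmin hp hexp hDZ
    exact ⟨h1, hDZ, h2, h3⟩

end Cfsg.Agent.Lib.Helper1_Isaacs123
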