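import Mathlib
import Cfsg.Prelude.Def_Local
import Cfsg.Prelude.Def_IsolatedElements
import Cfsg.Agent.Lib.Helper35_FrobeniusNPC
import Cfsg.Agent.Lib.Helper23_PLength
import Cfsg.Agent.Lib.Helper23_PComp
import Cfsg.Agent.Lib.Helper1_Cores
import Cfsg.Agent.Lib.Helper21_Components
import Cfsg.Agent.Lib.Helper21_FStar
import Cfsg.Agent.Lib.Helper22_Layer
import Cfsg.Agent.Lib.Helper29_Local
import Cfsg.Agent.Lib.Helper48_SPEFStar

/-!
# Isolated elements of order `p` in groups of `p`-rank at most 2 (helper1)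

* `not_dvd_card_of_perfect`: a finite perfect group `H` (`p` odd) in which every element of order
  dividing `p` of a Sylow `p`-subgroup `P` is fixed by every conjugation keeping it in `P` has order
  prime to `p` (Frobenius' normal `p`-complement theorem).
* `not_dvd_card_of_subnormal`: the same for a perfect subnormal subgroup `L` of `G` with the Sylow
  subgroup `S ⊓ L`, `S` a Sylow `p`-subgroup of `G`.
-/

set_option autoImplicit false
open Cfsg

namespace Cfsg.Agent.Lib.Helper1_Isolated

open Subgroup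

/-- Frobenius: a finite perfect group (`p` odd) in which all elements of order dividing `p` of a Sylow
`p`-subgroup are weakly closed has order prime to `p`. -/
theorem not_dvd_card_of_perfect {H : Type*} [Group H] [Finite H] {p : ℕ} [Fact p.Prime] (hp : p ≠ 2)
    [hperf : Group.IsPerfect H] (P : Sylow p H)
    (hwc : ∀ u ∈ (P : Subgroup H), u ^ p = 1 → ∀ g : H, g * u * g⁻¹ ∈ (P : Subgroup H) →
      g * u * g⁻¹ = u) :
    ¬ p ∣ Nat.card H := by
  have hpp : p.Prime := Fact.out
  have hF : Cfsg.Agent.Lib.Helper35_FrobeniusNPC.FrobHyp p H := by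
    apply Cfsg.Agent.Lib.Helper35_FrobeniusNPC.frobHyp_of_le_sylow P
    intro Q hQP g hg hgo
    rw [mem_centralizer_iff]
    intro u hu
    have key := Cfsg.Agent.Lib.Helper23_PLength.centralizes_of_fix_omega hp Q
      (P.isPGroup'.to_le hQP) g hg hgo ?_ u hu
    · exact key.symm
    · intro v hv hvp
      have h1 : g * v * g⁻¹ ∈ Q := (mem_normalizer_iff.mp hg v).mp hv
      have h2 := hwc v (hQP hv) hvp g (hQP h1)
      calc g * v = g * v * g⁻¹ * g := by group
        _ = v * g := by rw [h2]
  obtain ⟨K, hKn, hKc, n, hKi⟩ := Cfsg.Agent.Lib.Helper35_FrobeniusNPC.hasNPC_of_frobHyp hF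
  have hKtop : K = ⊤ := by
    by_contra hne
    have := hKn
    have hnt : Nontrivial (H ⧸ K) := by
      rw [← Finite.one_lt_card_iff_nontrivial]
      have : Nat.card (H ⧸ K) = K.index := rfl
      rw [this]
      by_contra hle
      have : K.index = 1 := by
        have hpos : 0 < K.index := Nat.pos_of_ne_zero (Subgroup.index_ne_zero_of_finite)
        omega
      exact hne (Subgroup.index_eq_one.mp this)
    have hpg : IsPGroup p (H ⧸ K) := by
      apply IsPGroup.of_card (n := n)
      exact hKi
    have hnil : Group.IsNilpotent (H ⧸ K) := hpg.isNilpotent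
    have hsol : Group.IsSolvable (H ⧸ K) := IsNilpotent.to_isSolvable
    exact Group.IsPerfect.not_isSolvable (H ⧸ K) hsol
  rw [hKtop, Subgroup.card_top] at hKc
  exact fun hd => (Nat.Prime.coprime_iff_not_dvd hpp).mp hKc.symm hd

/-- The same inside `G`: a perfect subnormal subgroup `L` all of whose elements of order dividing `p`
in `S ⊓ L` (`S` a Sylow `p`-subgroup of `G`) are fixed by the `L`-conjugations keeping them in `S`
has order prime to `p`. -/
theorem not_dvd_card_of_subnormal {G : Type*} [Group G] [Finite G] {p : ℕ} [Fact p.Prime]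
    (hp : p ≠ 2) (S : Sylow p G) (L : Subgroup G) (hL : L.IsSubnormal) [hperf : Group.IsPerfect ↥L]
    (hwc : ∀ u ∈ (S : Subgroup G), u ∈ L → u ^ p = 1 → ∀ g ∈ L, g * u * g⁻¹ ∈ (S : Subgroup G) →
      g * u * g⁻¹ = u) :
    ¬ p ∣ Nat.card ↥L := by
  have hidx : ¬ p ∣ ((S : Subgroup G).subgroupOf L).index :=
    Cfsg.Agent.Lib.Helper23_PComp.not_dvd_relIndex_of_subnormal p (S : Subgroup G) S.not_dvd_index hL
  have hPg : IsPGroup p ((S : Subgroup G).subgroupOf L) := S.isPGroup'.comap_subtype
  apply not_dvd_card_of_perfect hp (hPg.toSylow hidx)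
  intro u hu hup g hg
  rw [IsPGroup.toSylow_coe, mem_subgroupOf] at hu hg
  apply Subtype.ext
  have hup' : (u : G) ^ p = 1 := by
    have := congrArg Subtype.val hup
    simpa using this
  have := hwc (u : G) hu u.2 hup' (g : G) g.2 (by simpa using hg)
  simpa using this

/-! ### Isolated elements -/

/-- An isolated element of a Sylow `p`-subgroup is central in it. -/
theorem central_in_sylow {G : Type*} [Group G] [Finite G] {p : ℕ} [Fact p.Prime] {x : G}
    (hiso : IsIsolated x) (S : Sylow p G) (hxS : x ∈ (S : Subgroup G)) :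
    ∀ s ∈ (S : Subgroup G), s * x = x * s := by
  set T : Subgroup G := (S : Subgroup G) ⊓ centralizer ({x} : Set G) with hT
  have hxT : x ∈ T := by
    refine mem_inf.mpr ⟨hxS, ?_⟩
    rw [mem_centralizer_iff]
    intro y hy
    rw [Set.mem_singleton_iff] at hy
    rw [hy]
  have hTS : T = S := by
    by_contra hne
    obtain ⟨s, hsS, hsN, hsT⟩ :=
      Cfsg.Agent.Lib.Helper35_FrobeniusNPC.exists_mem_normalizer_not_mem (p := p) S.isPGroup'
        (inf_le_left : T ≤ S) hne
    have h1 : s * x * s⁻¹ ∈ T := (mem_normalizer_iff.mp hsN x).mp hxT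
    have h2 : Commute x (s * x * s⁻¹) := by
      have := (mem_inf.mp h1).2
      rw [mem_centralizer_iff] at this
      exact (this x rfl)
    have h3 := hiso s h2
    apply hsT
    refine mem_inf.mpr ⟨hsS, ?_⟩
    rw [mem_centralizer_iff]
    intro y hy
    rw [Set.mem_singleton_iff] at hy
    rw [hy]
    calc x * s = s * x * s⁻¹ * s := by rw [h3]
      _ = s * x := by group
  intro s hs
  have : s ∈ T := by rw [hTS]; exact hs
  have := (mem_inf.mp this).2
  rw [mem_centralizer_iff] at this
  exact (this x rfl).symm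

/-- An isolated element of a Sylow `p`-subgroup is weakly closed in it. -/
theorem weakly_closed {G : Type*} [Group G] [Finite G] {p : ℕ} [Fact p.Prime] {x : G}
    (hiso : IsIsolated x) (S : Sylow p G) (hxS : x ∈ (S : Subgroup G)) (g : G)
    (hg : g * x * g⁻¹ ∈ (S : Subgroup G)) : g * x * g⁻¹ = x :=
  hiso g (central_in_sylow hiso S hxS _ hg).symm

/-! ### The key step -/

theorem isElementaryAbelian_zpowers {G : Type*} [Group G] {p : ℕ} {y : G} (hy : y ^ p = 1) :
    IsElementaryAbelian p (zpowers y) := by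
  refine ⟨⟨⟨fun a b => ?_⟩⟩, ?_⟩
  · obtain ⟨a, ha⟩ := a
    obtain ⟨b, hb⟩ := b
    obtain ⟨k, rfl⟩ := mem_zpowers_iff.mp ha
    obtain ⟨l, rfl⟩ := mem_zpowers_iff.mp hb
    apply Subtype.ext
    exact ((Commute.refl y).zpow_zpow k l).eq
  · intro a ha
    obtain ⟨k, rfl⟩ := mem_zpowers_iff.mp ha
    rw [← zpow_natCast, ← zpow_mul, mul_comm, zpow_mul, zpow_natCast, hy, one_zpow]

/-- If `x` has prime order `p` and `x ^ k ≠ 1` then `x` is a power of `x ^ k`. -/
theorem mem_zpowers_zpow_of_ne_one {G : Type*} [Group G] {p : ℕ} [Fact p.Prime] {x : G}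
    (hx : orderOf x = p) (k : ℤ) (hk : x ^ k ≠ 1) : x ∈ zpowers (x ^ k) := by
  have hpp : p.Prime := Fact.out
  have hfin : Finite (zpowers x) :=
    Nat.finite_of_card_ne_zero (by rw [Nat.card_zpowers, hx]; exact hpp.ne_zero)
  have hle : zpowers (x ^ k) ≤ zpowers x := by
    rw [zpowers_le]; exact zpow_mem (mem_zpowers x) k
  have hcard : Nat.card (zpowers x) = p := by rw [Nat.card_zpowers, hx]
  have hdvd : Nat.card (zpowers (x ^ k)) ∣ p := by
    rw [← hcard]; exact Subgroup.card_dvd_of_le hle
  rcases (Nat.dvd_prime hpp).mp hdvd with h1 | h1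
  · exfalso
    apply hk
    rw [Nat.card_zpowers, orderOf_eq_one_iff] at h1
    exact h1
  · have : zpowers (x ^ k) = zpowers x :=
      Subgroup.eq_of_le_of_card_ge hle (by rw [h1, hcard])
    rw [this]
    exact mem_zpowers x

universe u

/-- Key step: if `x` is isolated of order `p` in a Sylow `p`-subgroup `S` of a group of `p`-rank at most
2 with `O_{p'}(G) = 1`, and the component `L` is not centralized by `x`, then no element of order `p`
of `S` centralizes `L`. -/
theorem key {G : Type u} [Group G] [Finite G] {p : ℕ} [Fact p.Prime] (hp : p ≠ 2)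
    (hcore : pPrimeCore p G = ⊥) (hrank : PRankLE p 2 G) {x : G} (hx : orderOf x = p)
    (hiso : IsIsolated x) (S : Sylow p G) (hxS : x ∈ (S : Subgroup G))
    {L : Subgroup G} (hL : IsComponent L) (hLx : ¬ ∀ a ∈ L, x * a = a * x)
    (y : G) (hyS : y ∈ (S : Subgroup G)) (hy : orderOf y = p) (hyL : ∀ a ∈ L, y * a = a * y) :
    False := by
  have hpp : p.Prime := Fact.out
  have hxc := central_in_sylow hiso S hxS
  have hxy : x * y = y * x := (hxc y hyS).symm
  have hxp : x ^ p = 1 := by rw [← hx]; exact pow_orderOf_eq_one x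
  have hyp : y ^ p = 1 := by rw [← hy]; exact pow_orderOf_eq_one y
  have hy1 : y ≠ 1 := by
    intro h
    rw [h, orderOf_one] at hy
    exact hpp.one_lt.ne hy
  set E : Subgroup G := zpowers y with hE
  have hEea : IsElementaryAbelian p E := isElementaryAbelian_zpowers hyp
  have hxE : ∀ e ∈ E, x * e = e * x := by
    intro e he
    obtain ⟨l, rfl⟩ := mem_zpowers_iff.mp he
    exact ((Commute.zpow_right (show Commute x y from hxy) l)).eq
  set A : Subgroup G := zpowers x ⊔ E with hA
  have hAea : IsElementaryAbelian p A :=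
    Cfsg.Agent.Lib.Helper23_PLength.isElementaryAbelian_zpowers_sup E hEea x hxE hxp
  -- `y ∉ ⟨x⟩`
  have hynx : y ∉ zpowers x := by
    intro hmem
    obtain ⟨k, hk⟩ := mem_zpowers_iff.mp hmem
    have hk1 : x ^ k ≠ 1 := by rw [hk]; exact hy1
    have hxmem := mem_zpowers_zpow_of_ne_one hx k hk1
    rw [hk] at hxmem
    obtain ⟨m, hm⟩ := mem_zpowers_iff.mp hxmem
    apply hLx
    intro a ha
    rw [← hm]
    exact ((Commute.zpow_left (show Commute y a from hyL a ha) m)).eq
  -- `|A| ≥ p²`
  have hApg : IsPGroup p A := by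
    intro a
    refine ⟨1, ?_⟩
    apply Subtype.ext
    rw [pow_one]
    simpa using hAea.2 a a.2
  obtain ⟨n, hn⟩ := IsPGroup.iff_card.mp hApg
  have hlt : Nat.card (zpowers x) < Nat.card A :=
    Cfsg.Agent.Lib.Helper35_FrobeniusNPC.card_lt_card_of_lt (le_sup_left : zpowers x ≤ A)
      (mem_sup_right (mem_zpowers y) : y ∈ A) hynx
  have hAcard : p ^ 2 ≤ Nat.card A := by
    rw [Nat.card_zpowers, hx, hn] at hlt
    rw [hn]
    apply Nat.pow_le_pow_right hpp.pos
    by_contra hcon
    push Not at hcon
    have : n ≤ 1 := by omega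
    have h2 : p ^ n ≤ p ^ 1 := Nat.pow_le_pow_right hpp.pos this
    rw [pow_one] at h2
    omega
  -- every element of order dividing `p` of `S ⊓ L` lies in `A`
  have hmemA : ∀ u ∈ (S : Subgroup G), u ∈ L → u ^ p = 1 → u ∈ A := by
    intro u huS huL hup
    have hux : u * x = x * u := hxc u huS
    have huy : u * y = y * u := (hyL u huL).symm
    have hAu : A ≤ centralizer ({u} : Set G) := by
      apply sup_le
      · rw [zpowers_le, mem_centralizer_iff]
        intro z hz
        rw [Set.mem_singleton_iff] at hz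
        rw [hz]; exact hux
      · rw [zpowers_le, mem_centralizer_iff]
        intro z hz
        rw [Set.mem_singleton_iff] at hz
        rw [hz]; exact huy
    have huA : ∀ e ∈ A, u * e = e * u := by
      intro e he
      have := hAu he
      rw [mem_centralizer_iff] at this
      exact this u rfl
    have hB := Cfsg.Agent.Lib.Helper23_PLength.isElementaryAbelian_zpowers_sup A hAea u huA hup
    have hBcard := hrank _ hB.1 hB.2
    have hAB : A = zpowers u ⊔ A :=
      Subgroup.eq_of_le_of_card_ge le_sup_right (hBcard.trans hAcard)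
    rw [hAB]
    exact mem_sup_left (mem_zpowers u)
  -- weak closure of these elements under `L`
  have hwc : ∀ u ∈ (S : Subgroup G), u ∈ L → u ^ p = 1 → ∀ g ∈ L,
      g * u * g⁻¹ ∈ (S : Subgroup G) → g * u * g⁻¹ = u := by
    intro u huS huL hup g hg hgu
    have huA := hmemA u huS huL hup
    have hzn : zpowers x ≤ normalizer (E : Set G) := by
      refine le_trans ?_ (centralizer_le_normalizer _)
      rw [zpowers_le, mem_centralizer_iff]
      intro e he
      exact (hxE e he).symm
    have h1 : u ∈ ((zpowers x ⊔ E : Subgroup G) : Set G) := huA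
    rw [Subgroup.coe_mul_of_left_le_normalizer_right _ _ hzn] at h1
    obtain ⟨a, ha, b, hb, hab⟩ := Set.mem_mul.mp h1
    obtain ⟨k, rfl⟩ := mem_zpowers_iff.mp ha
    obtain ⟨l, rfl⟩ := mem_zpowers_iff.mp hb
    have hgy : g * y ^ l * g⁻¹ = y ^ l := by
      have hc : Commute y g := hyL g hg
      have hc' : Commute (y ^ l) g := Commute.zpow_left hc l
      rw [← hc'.eq, mul_inv_cancel_right]
    have hconj : g * u * g⁻¹ = (g * x * g⁻¹) ^ k * y ^ l := by
      rw [← hab, conj_zpow]
      calc g * (x ^ k * y ^ l) * g⁻¹ = g * x ^ k * g⁻¹ * (g * y ^ l * g⁻¹) := by group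
        _ = g * x ^ k * g⁻¹ * y ^ l := by rw [hgy]
    by_cases hk1 : x ^ k = 1
    · rw [hconj, ← hab, show (g * x * g⁻¹) ^ k = g * x ^ k * g⁻¹ from conj_zpow, hk1]
      group
    · have hxm := mem_zpowers_zpow_of_ne_one hx k hk1
      obtain ⟨m, hm⟩ := mem_zpowers_iff.mp hxm
      have hS1 : (g * x * g⁻¹) ^ k ∈ (S : Subgroup G) := by
        have : (g * x * g⁻¹) ^ k = g * u * g⁻¹ * (y ^ l)⁻¹ := by
          rw [hconj]; group
        rw [this]
        exact mul_mem hgu (inv_mem (zpow_mem hyS l))
      have hS2 : g * x * g⁻¹ ∈ (S : Subgroup G) := by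
        have : g * x * g⁻¹ = ((g * x * g⁻¹) ^ k) ^ m := by
          rw [show (g * x * g⁻¹) ^ k = g * x ^ k * g⁻¹ from conj_zpow,
            show (g * x ^ k * g⁻¹) ^ m = g * (x ^ k) ^ m * g⁻¹ from conj_zpow, hm]
        rw [this]
        exact zpow_mem hS1 m
      have hgx := weakly_closed hiso S hxS g hS2
      rw [hconj, hgx, hab]
  have hperf : Group.IsPerfect ↥L := hL.2.1
  exact not_dvd_card_of_subnormal hp S L hL.1 hwc
    (Cfsg.Agent.Lib.Helper48_SPEFStar.dvd_card_of_isComponent hcore hL)

/-- Main theorem: `p` odd, `O_{p'}(G) = 1`, `p`-rank at most 2, `x` isolated of order `p` and not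
central: then `F(G) = 1` and `E(G)` is a single component. -/
theorem main {G : Type u} [Group G] [Finite G] {p : ℕ} [Fact p.Prime] (hp : p ≠ 2)
    (hcore : pPrimeCore p G = ⊥) (hrank : PRankLE p 2 G) (x : G) (hx : orderOf x = p)
    (hiso : IsIsolated x) (hnc : x ∉ center G) :
    ∃ L : Subgroup G, IsComponent L ∧ layer G = L ∧ fittingSubgroup G = ⊥ := by
  have hpp : p.Prime := Fact.out
  have hxpg : IsPGroup p (zpowers x) :=
    IsPGroup.of_card (n := 1) (by rw [Nat.card_zpowers, hx, pow_one])
  obtain ⟨S, hS⟩ := hxpg.exists_le_sylow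
  have hxS : x ∈ (S : Subgroup G) := hS (mem_zpowers x)
  have hxc := central_in_sylow hiso S hxS
  -- `F(G) ≤ S`
  have hFS : fittingSubgroup G ≤ S := by
    rw [Cfsg.Agent.Lib.Helper1_Cores.fittingSubgroup_eq_iSup_pCore]
    refine iSup_le (fun q => ?_)
    have hq : Fact (q : ℕ).Prime := ⟨q.2⟩
    by_cases hqp : (q : ℕ) = p
    · rw [hqp]; exact Cfsg.Agent.Lib.Helper1_Cores.pCore_le_sylow p S
    · have : pCore (q : ℕ) G ≤ pPrimeCore p G :=
        Cfsg.Agent.Lib.Helper1_Cores.le_pPrimeCore inferInstance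
          (Cfsg.Agent.Lib.Helper1_Cores.pCore_card_coprime hqp)
      rw [hcore] at this
      exact this.trans bot_le
  -- a component not centralized by `x`
  have hex : ∃ L : Subgroup G, IsComponent L ∧ ¬ ∀ a ∈ L, x * a = a * x := by
    by_contra hno
    push Not at hno
    have h1 : layer G ≤ centralizer ({x} : Set G) := by
      rw [Cfsg.Agent.Lib.Helper22_Layer.layer_le_iff]
      intro L hL a ha
      rw [mem_centralizer_iff]
      intro z hz
      rw [Set.mem_singleton_iff] at hz
      rw [hz]; exact hno L hL a ha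
    have h2 : fittingSubgroup G ≤ centralizer ({x} : Set G) := by
      intro f hf
      rw [mem_centralizer_iff]
      intro z hz
      rw [Set.mem_singleton_iff] at hz
      rw [hz]; exact (hxc f (hFS hf)).symm
    have h3 : generalizedFittingSubgroup G ≤ centralizer ({x} : Set G) := sup_le h1 h2
    have h4 : x ∈ centralizer (generalizedFittingSubgroup G : Set G) := by
      rw [mem_centralizer_iff]
      intro f hf
      have := h3 hf
      rw [mem_centralizer_iff] at this
      exact (this x rfl).symm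
    have h5 := Cfsg.Agent.Lib.Helper21_FStar.centralizer_generalizedFitting_le h4
    apply hnc
    rw [mem_center_iff]
    intro g
    have hn : (generalizedFittingSubgroup G).Normal :=
      Cfsg.Agent.Lib.Helper29_Local.generalizedFittingSubgroup_normal G
    have h6 : g * x * g⁻¹ ∈ generalizedFittingSubgroup G := hn.conj_mem x h5 g
    have h7 := h3 h6
    rw [mem_centralizer_iff] at h7
    have h8 := hiso g (h7 x rfl)
    calc g * x = g * x * g⁻¹ * g := by group
      _ = x * g := by rw [h8]
  obtain ⟨L, hL, hLx⟩ := hex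
  -- `C_S(L) = 1`
  have hCS : ∀ y ∈ (S : Subgroup G), (∀ a ∈ L, y * a = a * y) → y = 1 := by
    intro y hyS hyL
    by_contra hy1
    have hdvd : p ∣ Nat.card (zpowers y) := by
      have hpg : IsPGroup p (zpowers y) := S.isPGroup'.to_le (zpowers_le.mpr hyS)
      obtain ⟨n, hn⟩ := IsPGroup.iff_card.mp hpg
      rw [hn]
      have : n ≠ 0 := by
        intro h0
        rw [h0, pow_zero, Nat.card_zpowers, orderOf_eq_one_iff] at hn
        exact hy1 hn
      exact dvd_pow_self p this
    obtain ⟨y', hy'⟩ := exists_prime_orderOf_dvd_card' p hdvd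
    obtain ⟨m, hm⟩ := mem_zpowers_iff.mp y'.2
    apply key hp hcore hrank hx hiso S hxS hL hLx (y' : G) (zpowers_le.mpr hyS y'.2)
      (by rw [Subgroup.orderOf_coe]; exact hy')
    intro a ha
    rw [← hm]
    exact (Commute.zpow_left (show Commute y a from hyL a ha) m).eq
  -- `F(G) = 1`
  have hF : fittingSubgroup G = ⊥ := by
    rw [eq_bot_iff]
    intro f hf
    rw [mem_bot]
    apply hCS f (hFS hf)
    intro a ha
    have := Cfsg.Agent.Lib.Helper22_Layer.layer_commutator_fitting (X := G)
    rw [commutator_eq_bot_iff_le_centralizer] at this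
    have h1 := this (Cfsg.Agent.Lib.Helper29_Local.IsComponent.le_layer hL ha)
    rw [mem_centralizer_iff] at h1
    exact h1 f hf
  -- uniqueness
  have huniq : ∀ K : Subgroup G, IsComponent K → K = L := by
    intro K hK
    by_contra hne
    have h1 := Cfsg.Agent.Lib.Helper48_SPEFStar.sylow_inf_ne_bot S hK.1
      (Cfsg.Agent.Lib.Helper48_SPEFStar.dvd_card_of_isComponent hcore hK)
    obtain ⟨k, hk1⟩ := (Subgroup.ne_bot_iff_exists_ne_one).mp h1
    obtain ⟨k, hkm⟩ := k
    apply hk1
    apply Subtype.ext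
    apply hCS k (mem_inf.mp hkm).1
    intro a ha
    exact (Cfsg.Agent.Lib.Helper21_Components.IsComponent.commute_of_ne hK hL hne
      (mem_inf.mp hkm).2 ha).eq
  refine ⟨L, hL, ?_, hF⟩
  unfold layer
  apply le_antisymm
  · apply sSup_le
    intro K hK
    rw [huniq K hK]
  · exact le_sSup hL

end Cfsg.Agent.Lib.Helper1_Isolated
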