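import Mathlib
import Cfsg.Prelude.Def_PLocal

/-!
Helper library (helper72): the Engel computation.  If an element `d` acts on a normal abelian
subgroup `X'` such that `[X', d, …, d] ≤ Y` (`p - 1` entries `d`) and `X' ^ p ≤ Y`, then for `p ∣ n`
the products `∏_{j < n} d^j w d^{-j}` lie in `Y`.
-/

set_option autoImplicit false

namespace Cfsg.Agent.Lib.Helper72_Engel

open Finset

theorem geom_sum_one_add {R : Type*} [Semiring R] (ν : R) (n : ℕ) :
    ∑ j ∈ range n, (ν + 1) ^ j = ∑ i ∈ range n, ν ^ i * (n.choose (i + 1) : R) := by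
  induction n with
  | zero => simp
  | succ n ih =>
    rw [Finset.sum_range_succ, ih, (Commute.one_right ν).add_pow]
    have h1 : ∑ i ∈ range (n + 1), ν ^ i * ((n + 1).choose (i + 1) : R) =
        ∑ i ∈ range (n + 1), ν ^ i * (n.choose i : R) +
          ∑ i ∈ range (n + 1), ν ^ i * (n.choose (i + 1) : R) := by
      rw [← Finset.sum_add_distrib]
      apply Finset.sum_congr rfl
      intro i _
      rw [Nat.choose_succ_succ, Nat.cast_add, mul_add]
    rw [h1, Finset.sum_range_succ (fun i => ν ^ i * (n.choose (i + 1) : R)), Nat.choose_succ_self,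
      Nat.cast_zero, mul_zero, add_zero, add_comm]
    congr 1
    apply Finset.sum_congr rfl
    intro i _
    rw [one_pow, mul_one]

theorem prime_dvd_choose {p n k : ℕ} (hp : p.Prime) (hn : p ∣ n) (hk0 : 0 < k) (hkp : k < p) :
    p ∣ n.choose k := by
  obtain ⟨k', rfl⟩ : ∃ k', k = k' + 1 := ⟨k - 1, by omega⟩
  rcases Nat.eq_zero_or_pos n with rfl | hn0
  · simp
  obtain ⟨n', rfl⟩ : ∃ n', n = n' + 1 := ⟨n - 1, by omega⟩
  have h := Nat.add_one_mul_choose_eq n' k'
  have h1 : p ∣ (n' + 1).choose (k' + 1) * (k' + 1) := by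
    rw [← h]; exact Dvd.dvd.mul_right hn _
  rcases (Nat.Prime.dvd_mul hp).mp h1 with h2 | h2
  · exact h2
  · exact absurd (Nat.le_of_dvd (by omega) h2) (by omega)

/-- evaluation at a point -/
def evAt {V : Type*} [AddCommGroup V] (w : V) : AddMonoid.End V →+ V where
  toFun f := f w
  map_zero' := rfl
  map_add' _ _ := rfl

theorem sum_pow_apply_mem {V : Type*} [AddCommGroup V] (σ : AddMonoid.End V) (Y : AddSubgroup V)
    (p : ℕ) (hp : p.Prime)
    (hνY : ∀ v ∈ Y, (σ - 1) v ∈ Y)
    (hν : ∀ v, ((σ - 1) ^ (p - 1)) v ∈ Y) (hpV : ∀ v : V, p • v ∈ Y)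
    (n : ℕ) (hn : p ∣ n) (w : V) :
    ∑ j ∈ Finset.range n, (σ ^ j) w ∈ Y := by
  set ν : AddMonoid.End V := σ - 1 with hνdef
  have hσ : σ = ν + 1 := by rw [hνdef, sub_add_cancel]
  have h1 : ∑ j ∈ range n, (σ ^ j) w = evAt w (∑ j ∈ range n, σ ^ j) := by
    rw [map_sum]; rfl
  rw [h1, hσ, geom_sum_one_add, map_sum]
  apply Y.sum_mem
  intro i _
  show (ν ^ i * (n.choose (i + 1) : AddMonoid.End V)) w ∈ Y
  rw [AddMonoid.End.coe_mul, Function.comp_apply, AddMonoid.End.natCast_apply, map_nsmul]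
  have hiter : ∀ k : ℕ, ∀ v ∈ Y, (ν ^ k) v ∈ Y := by
    intro k
    induction k with
    | zero => intro v hv; simpa using hv
    | succ k ih =>
      intro v hv
      rw [pow_succ', AddMonoid.End.coe_mul, Function.comp_apply]
      exact hνY _ (ih v hv)
  by_cases hi : i + 1 < p
  · obtain ⟨c, hc⟩ := prime_dvd_choose hp hn (Nat.succ_pos i) hi
    rw [hc, mul_smul]
    exact hpV _
  · have hle : p - 1 ≤ i := by omega
    obtain ⟨k, rfl⟩ := Nat.exists_eq_add_of_le' hle
    apply Y.nsmul_mem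
    rw [pow_add, AddMonoid.End.coe_mul, Function.comp_apply]
    exact hiter k _ (hν w)

open scoped IsMulCommutative commutatorElement

/-- **Engel computation**, multiplicative form. -/
theorem prod_conj_pow_mem {Γ : Type*} [Group Γ] (X' Y : Subgroup Γ) [hX'n : X'.Normal]
    [IsMulCommutative ↥X'] (p : ℕ) (hp : p.Prime) (d : Γ)
    (hYd : ∀ v ∈ Y, d * v * d⁻¹ ∈ Y)
    (hEng : Cfsg.iterCommutator X' (Subgroup.zpowers d) (p - 1) ≤ Y)
    (hpow : ∀ v ∈ X', v ^ p ∈ Y) (n : ℕ) (hn : p ∣ n) (w : ↥X') :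
    ((∏ j ∈ Finset.range n, MulAut.conjNormal (d ^ j) w : ↥X') : Γ) ∈ Y := by
  set φ : MulAut ↥X' := MulAut.conjNormal d with hφ
  set σ' : AddMonoid.End (Additive ↥X') := MonoidHom.toAdditive φ.toMonoidHom with hσ'
  set Y'' : AddSubgroup (Additive ↥X') := Subgroup.toAddSubgroup (Y.subgroupOf X') with hY''
  have hmemY : ∀ v : Additive ↥X', v ∈ Y'' ↔ ((Additive.toMul v : ↥X') : Γ) ∈ Y := by
    intro v
    rw [hY'']
    exact Iff.rfl
  have hσapp : ∀ u : ↥X', σ' (Additive.ofMul u) = Additive.ofMul (φ u) := fun u => rfl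
  have F1 : ∀ (j : ℕ) (u : ↥X'), (σ' ^ j) (Additive.ofMul u) =
      Additive.ofMul (MulAut.conjNormal (d ^ j) u) := by
    intro j
    induction j with
    | zero =>
      intro u
      rw [pow_zero, pow_zero, map_one]
      rfl
    | succ j ih =>
      intro u
      rw [pow_succ', AddMonoid.End.coe_mul, Function.comp_apply, ih, hσapp, pow_succ', map_mul]
      rfl
  have F2 : ∀ v : Additive ↥X', ((Additive.toMul ((σ' - 1) v) : ↥X') : Γ) =
      d * ((Additive.toMul v : ↥X') : Γ) * d⁻¹ * ((Additive.toMul v : ↥X') : Γ)⁻¹ := by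
    intro v
    have : (σ' - 1) v = σ' v - v := rfl
    rw [this, toMul_sub]
    have hv : σ' v = Additive.ofMul (φ (Additive.toMul v)) := rfl
    rw [hv, toMul_ofMul, div_eq_mul_inv, Subgroup.coe_mul, Subgroup.coe_inv, hφ,
      MulAut.conjNormal_apply]
  have F3 : ∀ (i : ℕ) (v : Additive ↥X'),
      ((Additive.toMul (((σ' - 1) ^ i) v) : ↥X') : Γ) ∈
        Cfsg.iterCommutator X' (Subgroup.zpowers d) i := by
    intro i
    induction i with
    | zero =>
      intro v
      rw [pow_zero]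
      exact (Additive.toMul v : ↥X').2
    | succ i ih =>
      intro v
      rw [pow_succ', AddMonoid.End.coe_mul, Function.comp_apply, F2]
      show _ ∈ ⁅Cfsg.iterCommutator X' (Subgroup.zpowers d) i, Subgroup.zpowers d⁆
      rw [Subgroup.commutator_comm]
      have := Subgroup.commutator_mem_commutator (Subgroup.mem_zpowers d) (ih v)
      rwa [commutatorElement_def] at this
  have key := sum_pow_apply_mem σ' Y'' p hp
    (by
      intro v hv
      rw [hmemY] at hv ⊢
      rw [F2]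
      exact Y.mul_mem (hYd _ hv) (Y.inv_mem hv))
    (by
      intro v
      rw [hmemY]
      exact hEng (F3 (p - 1) v))
    (by
      intro v
      rw [hmemY, toMul_nsmul, Subgroup.coe_pow]
      exact hpow _ (Additive.toMul v : ↥X').2)
    n hn (Additive.ofMul w)
  rw [hmemY] at key
  have h2 : ∑ j ∈ Finset.range n, (σ' ^ j) (Additive.ofMul w) =
      Additive.ofMul (∏ j ∈ Finset.range n, MulAut.conjNormal (d ^ j) w) := by
    rw [ofMul_prod]
    apply Finset.sum_congr rfl
    intro j _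
    exact F1 j w
  rw [h2, toMul_ofMul] at key
  exact key

end Cfsg.Agent.Lib.Helper72_Engel
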