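import Mathlib

/-!
Helper library (helper72): products over invariant finite sets of a permutation action modulo a
subgroup: if all orbit products of non-fixed points lie in `Y` then the product over the set is
congruent modulo `Y` to the product over the fixed points.  Orbits of cyclic groups.
-/

set_option autoImplicit false

namespace Cfsg.Agent.Lib.Helper72_Orbit

variable {Γ α E : Type*} [Group Γ] [Finite Γ]

/-- the orbit of `w` under the subgroup `K` acting through `ρ`, as a finset -/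
noncomputable def orb (ρ : Γ →* Equiv.Perm α) (K : Subgroup Γ) (w : α) : Finset α :=
  (Set.finite_range (fun k : K => ρ (k : Γ) w)).toFinset

theorem mem_orb {ρ : Γ →* Equiv.Perm α} {K : Subgroup Γ} {w u : α} :
    u ∈ orb ρ K w ↔ ∃ k ∈ K, ρ k w = u := by
  unfold orb
  rw [Set.Finite.mem_toFinset, Set.mem_range]
  constructor
  · rintro ⟨k, hk⟩; exact ⟨k, k.2, hk⟩
  · rintro ⟨k, hk, h⟩; exact ⟨⟨k, hk⟩, h⟩

theorem self_mem_orb (ρ : Γ →* Equiv.Perm α) (K : Subgroup Γ) (w : α) : w ∈ orb ρ K w :=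
  mem_orb.mpr ⟨1, K.one_mem, by rw [map_one]; rfl⟩

open scoped Classical in
/-- **Orbit lemma.** -/
theorem prod_div_prod_fixed_mem [CommGroup E] (ρ : Γ →* Equiv.Perm α) (K : Subgroup Γ)
    (Y : Subgroup E) (f : α → E) :
    ∀ (n : ℕ) (F : Finset α), F.card = n → (∀ k ∈ K, ∀ w ∈ F, ρ k w ∈ F) →
      (∀ w ∈ F, (∃ k ∈ K, ρ k w ≠ w) → ∏ u ∈ orb ρ K w, f u ∈ Y) →
      (∏ w ∈ F, f w) / (∏ w ∈ F.filter (fun w => ∀ k ∈ K, ρ k w = w), f w) ∈ Y := by
  intro n
  induction n using Nat.strong_induction_on with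
  | _ n ih =>
  intro F hn hF h
  by_cases hall : ∀ w ∈ F, ∀ k ∈ K, ρ k w = w
  · have : F.filter (fun w => ∀ k ∈ K, ρ k w = w) = F := Finset.filter_true_of_mem hall
    rw [this, div_self']
    exact Y.one_mem
  · push Not at hall
    obtain ⟨w, hwF, k₀, hk₀K, hk₀⟩ := hall
    set O : Finset α := orb ρ K w with hO
    have hOF : O ⊆ F := by
      intro u hu
      obtain ⟨k, hk, rfl⟩ := mem_orb.mp hu
      exact hF k hk w hwF
    have hwO : w ∈ O := self_mem_orb ρ K w
    have hOinv : ∀ k ∈ K, ∀ u, ρ k u ∈ O → u ∈ O := by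
      intro k hk u hu
      obtain ⟨k', hk', hk'u⟩ := mem_orb.mp hu
      refine mem_orb.mpr ⟨k⁻¹ * k', K.mul_mem (K.inv_mem hk) hk', ?_⟩
      rw [map_mul, Equiv.Perm.mul_apply, hk'u, map_inv]
      exact Equiv.Perm.inv_eq_iff_eq.mpr rfl
    have hOnf : ∀ u ∈ O, ¬ ∀ k ∈ K, ρ k u = u := by
      intro u hu hfix
      obtain ⟨k', hk', rfl⟩ := mem_orb.mp hu
      apply hk₀
      have h1 := hfix (k' * k₀ * k'⁻¹) (K.mul_mem (K.mul_mem hk' hk₀K) (K.inv_mem hk'))
      rw [← Equiv.Perm.mul_apply, ← map_mul] at h1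
      have h2 : k' * k₀ * k'⁻¹ * k' = k' * k₀ := by group
      rw [h2, map_mul, Equiv.Perm.mul_apply] at h1
      exact (ρ k').injective h1
    set F' := F \ O with hF'
    have hcard : F'.card < n := by
      rw [← hn]
      apply Finset.card_lt_card
      refine ⟨Finset.sdiff_subset, ?_⟩
      intro hsub
      have := hsub hwF
      rw [hF', Finset.mem_sdiff] at this
      exact this.2 hwO
    have hF'inv : ∀ k ∈ K, ∀ u ∈ F', ρ k u ∈ F' := by
      intro k hk u hu
      rw [hF', Finset.mem_sdiff] at hu ⊢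
      exact ⟨hF k hk u hu.1, fun hc => hu.2 (hOinv k hk u hc)⟩
    have h' : ∀ u ∈ F', (∃ k ∈ K, ρ k u ≠ u) → ∏ v ∈ orb ρ K u, f v ∈ Y := by
      intro u hu hne
      exact h u (Finset.mem_sdiff.mp hu).1 hne
    have key := ih _ hcard F' rfl hF'inv h'
    have hfilt : F.filter (fun w => ∀ k ∈ K, ρ k w = w) =
        F'.filter (fun w => ∀ k ∈ K, ρ k w = w) := by
      ext u
      simp only [Finset.mem_filter, hF', Finset.mem_sdiff]
      constructor
      · rintro ⟨h1, h2⟩
        exact ⟨⟨h1, fun hc => hOnf u hc h2⟩, h2⟩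
      · rintro ⟨⟨h1, -⟩, h2⟩
        exact ⟨h1, h2⟩
    have hsplit : ∏ w ∈ F, f w = (∏ w ∈ O, f w) * ∏ w ∈ F', f w := by
      rw [hF', mul_comm, Finset.prod_sdiff hOF]
    rw [hfilt, hsplit, mul_div_assoc]
    exact Y.mul_mem (h w hwF ⟨k₀, hk₀K, hk₀⟩) key

/-- the orbit of a cyclic group: there is `n > 0` dividing any period `N`, with the orbit equal to
the injective image of `j ↦ σ ^ j w`, `j < n`. -/
theorem prod_orb_zpowers [CommGroup E] (ρ : Γ →* Equiv.Perm α) (d : Γ) (w : α) (f : α → E)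
    (N : ℕ) (hN : 0 < N) (hdN : d ^ N = 1) :
    ∃ n : ℕ, 0 < n ∧ n ∣ N ∧ ρ (d ^ n) w = w ∧ (n = 1 → ρ d w = w) ∧
      ∏ u ∈ orb ρ (Subgroup.zpowers d) w, f u = ∏ j ∈ Finset.range n, f (ρ (d ^ j) w) := by
  classical
  set σ : Equiv.Perm α := ρ d with hσ
  have hper : Function.IsPeriodicPt σ N w := by
    show σ^[N] w = w
    rw [Equiv.Perm.iterate_eq_pow, hσ, ← map_pow, hdN, map_one]; rfl
  set n := Function.minimalPeriod σ w with hn
  have hnpos : 0 < n := hper.minimalPeriod_pos hN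
  have hndvd : n ∣ N := hper.minimalPeriod_dvd
  have hpow : ∀ j : ℕ, ρ (d ^ j) w = σ^[j] w := by
    intro j
    rw [Equiv.Perm.iterate_eq_pow, hσ, map_pow]
  have hn_fix : ρ (d ^ n) w = w := by
    rw [hpow]; exact Function.iterate_minimalPeriod
  refine ⟨n, hnpos, hndvd, hn_fix, ?_, ?_⟩
  · intro h1
    have := hn_fix
    rwa [h1, pow_one] at this
  · have himg : orb ρ (Subgroup.zpowers d) w =
        (Finset.range n).image (fun j => ρ (d ^ j) w) := by
      ext u
      rw [mem_orb, Finset.mem_image]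
      constructor
      · rintro ⟨k, hk, rfl⟩
        obtain ⟨i, rfl⟩ := Subgroup.mem_zpowers_iff.mp hk
        -- reduce the exponent modulo `N`, then modulo `n`
        have hN' : (N : ℤ) ≠ 0 := by exact_mod_cast hN.ne'
        have hi : d ^ i = d ^ (i % N).toNat := by
          have h0 : 0 ≤ i % (N : ℤ) := Int.emod_nonneg i hN'
          rw [← zpow_natCast, Int.toNat_of_nonneg h0]
          have : i = i % N + N * (i / N) := (Int.emod_add_mul_ediv i N).symm
          conv_lhs => rw [this]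
          rw [zpow_add, zpow_mul, zpow_natCast, hdN, one_zpow, mul_one]
        refine ⟨(i % N).toNat % n, Finset.mem_range.mpr (Nat.mod_lt _ hnpos), ?_⟩
        rw [hi, hpow, hpow]
        exact Function.iterate_mod_minimalPeriod_eq
      · rintro ⟨j, -, rfl⟩
        exact ⟨d ^ j, Subgroup.pow_mem _ (Subgroup.mem_zpowers d) j, rfl⟩
    rw [himg, Finset.prod_image]
    intro i hi j hj hij
    simp only [hpow] at hij
    have hi' : i < n := Finset.mem_range.mp hi
    have hj' : j < n := Finset.mem_range.mp hj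
    exact Function.iterate_injOn_Iio_minimalPeriod (Set.mem_Iio.mpr hi') (Set.mem_Iio.mpr hj') hij

end Cfsg.Agent.Lib.Helper72_Orbit
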