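import Mathlib
import Cfsg.Agent.Lib.Helper33_Alperin
import Cfsg.Agent.Lib.Helper72_Orbit

/-!
Helper library (helper72): the "trace" lemma used in Glauberman's weak closure arguments.

A finite group `Γ` acts on a set through `ρ`; `y` is a point with stabilizer `M`, `T ≤ M` is a
Sylow `p`-subgroup of `Γ`... (only `¬ p ∣ |M : T|` is needed), `𝒟` is a family of subgroups of `T`
closed under conjugation into `T`, and the normalizer of the subgroup generated by `𝒟` lies in `M`.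
If for every member `Q` of `𝒟` all nontrivial `Q`-orbit products (of a function `f` into a
commutative group) on the orbit of `y` lie in `Y`, then the product over the orbit of `y` is
congruent to `f y` modulo `Y`.
-/

set_option autoImplicit false

namespace Cfsg.Agent.Lib.Helper72_Trace

open Cfsg.Agent.Lib.Helper33_Conj Cfsg.Agent.Lib.Helper33_Alperin Cfsg.Agent.Lib.Helper72_Orbit

variable {Γ α E : Type*} [Group Γ]

/-- the stabilizer of a point -/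
def stab (ρ : Γ →* Equiv.Perm α) (w : α) : Subgroup Γ :=
  (MulAction.stabilizer (Equiv.Perm α) w).comap ρ

theorem mem_stab {ρ : Γ →* Equiv.Perm α} {w : α} {g : Γ} : g ∈ stab ρ w ↔ ρ g w = w := by
  unfold stab
  rw [Subgroup.mem_comap, MulAction.mem_stabilizer_iff]
  rfl

theorem le_stab {ρ : Γ →* Equiv.Perm α} {w : α} {K : Subgroup Γ} :
    K ≤ stab ρ w ↔ ∀ k ∈ K, ρ k w = w :=
  ⟨fun h k hk => mem_stab.mp (h hk), fun h k hk => mem_stab.mpr (h k hk)⟩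

theorem cj_le_of_forall [Finite Γ] {g : Γ} {𝒟' : Set (Subgroup Γ)} {K : Subgroup Γ}
    (h : ∀ Q ∈ 𝒟', cj g Q ≤ K) : cj g (sSup 𝒟') ≤ K := by
  rw [cj_le_iff]
  apply sSup_le
  intro Q hQ
  rw [← cj_le_iff]
  exact h Q hQ

theorem eq_of_cj_le' [Finite Γ] {g : Γ} {P : Subgroup Γ} (h : cj g P ≤ P) : cj g P = P :=
  Subgroup.eq_of_le_of_card_ge h (by rw [card_cj])

theorem mem_normalizer_of_cj_le' [Finite Γ] {g : Γ} {P : Subgroup Γ} (h : cj g P ≤ P) :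
    g ∈ Subgroup.normalizer (P : Set Γ) :=
  mem_normalizer_iff_cj.mpr (eq_of_cj_le' h)

variable [Finite Γ] {p : ℕ} [Fact p.Prime]

/-- **Fixed point lemma.** -/
theorem fixed_eq (ρ : Γ →* Equiv.Perm α) (y : α) (M T R : Subgroup Γ)
    (hM : ∀ g : Γ, g ∈ M ↔ ρ g y = y)
    (hTM : T ≤ M) (hT : IsPGroup p T) (hidx : ¬ p ∣ T.relIndex M)
    (hRT : R ≤ T) (hwc : ∀ g : Γ, cj g R ≤ T → cj g R = R)
    (hNR : Subgroup.normalizer (R : Set Γ) ≤ M)
    (h : Γ) (hfix : ∀ r ∈ R, ρ r (ρ h y) = ρ h y) : ρ h y = y := by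
  have h1 : cj h⁻¹ R ≤ M := by
    intro x hx
    rw [mem_cj, inv_inv] at hx
    rw [hM]
    have h2 := hfix _ hx
    rw [← Equiv.Perm.mul_apply, ← map_mul] at h2
    have h3 : h * x * h⁻¹ * h = h * x := by group
    rw [h3, map_mul, Equiv.Perm.mul_apply] at h2
    exact (ρ h).injective h2
  obtain ⟨m, hm, hle⟩ := exists_cj_le_of_relIndex hTM hT hidx h1 (isPGroup_cj (hT.to_le hRT))
  rw [← cj_mul] at hle
  have h2 := hwc _ hle
  have h3 : m * h⁻¹ ∈ M := hNR (mem_normalizer_iff_cj.mpr h2)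
  have h4 : h⁻¹ ∈ M := by
    have := M.mul_mem (M.inv_mem hm) h3
    rwa [inv_mul_cancel_left] at this
  have h5 : h ∈ M := by
    have := M.inv_mem h4
    rwa [inv_inv] at this
  exact (hM h).mp h5

/-- **Chain lemma.** -/
theorem chain_induction (T : Subgroup Γ) (hT : IsPGroup p T) (𝒟 : Set (Subgroup Γ))
    (h𝒟T : ∀ Q ∈ 𝒟, Q ≤ T) (h𝒟c : ∀ Q ∈ 𝒟, ∀ t ∈ T, cj t Q ∈ 𝒟)
    (Pr : Subgroup Γ → Prop) (h0 : Pr ⊥)
    (hstep : ∀ K : Subgroup Γ, Pr K → ∀ Q ∈ 𝒟, Q ≤ Subgroup.normalizer (K : Set Γ) → Pr (K ⊔ Q)) :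
    Pr (sSup 𝒟) := by
  classical
  set R : Subgroup Γ := sSup 𝒟 with hR
  have hRT : R ≤ T := sSup_le h𝒟T
  have hRp : IsPGroup p R := hT.to_le hRT
  let 𝒮 : Set (Subgroup Γ) := {K | Pr K ∧ ∃ 𝒟' : Set (Subgroup Γ), 𝒟' ⊆ 𝒟 ∧ K = sSup 𝒟'}
  have hne : 𝒮.Nonempty := ⟨⊥, h0, ∅, Set.empty_subset _, by rw [sSup_empty]⟩
  obtain ⟨K, hK𝒮, hKmax⟩ := Set.Finite.exists_maximalFor (fun K : Subgroup Γ => Nat.card K) 𝒮
    (Set.toFinite 𝒮) hne
  obtain ⟨hPK, 𝒟', h𝒟', hKeq⟩ := hK𝒮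
  have hKR : K ≤ R := by rw [hKeq]; exact sSup_le_sSup h𝒟'
  by_cases hKR' : K = R
  · rw [← hKR']; exact hPK
  exfalso
  have hlt : K < R := lt_of_le_of_ne hKR hKR'
  have hex : ∃ Q ∈ 𝒟, Q ≤ Subgroup.normalizer (K : Set Γ) ∧ ¬ Q ≤ K := by
    by_contra hcon
    push Not at hcon
    set N₁ : Subgroup Γ := R ⊓ Subgroup.normalizer (K : Set Γ) with hN₁
    have hKN₁ : K < N₁ := lt_inf_normalizer hRp hlt
    have hstepN : R ⊓ Subgroup.normalizer (N₁ : Set Γ) ≤ N₁ := by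
      intro t ht
      refine Subgroup.mem_inf.mpr ⟨ht.1, ?_⟩
      apply mem_normalizer_of_cj_le'
      rw [hKeq]
      apply cj_le_of_forall
      intro Q hQ
      rw [← hKeq]
      apply hcon (cj t Q) (h𝒟c Q (h𝒟' hQ) t (hRT ht.1))
      have hQN₁ : Q ≤ N₁ := by
        have : Q ≤ K := by rw [hKeq]; exact le_sSup hQ
        exact this.trans hKN₁.le
      have h1 : cj t Q ≤ cj t N₁ := cj_mono hQN₁
      rw [mem_normalizer_iff_cj.mp ht.2] at h1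
      exact h1.trans inf_le_right
    have hN₁R : N₁ = R := by
      by_contra hne'
      have hlt' : N₁ < R := lt_of_le_of_ne inf_le_left hne'
      have := lt_inf_normalizer hRp hlt'
      exact absurd (this.trans_le hstepN) (lt_irrefl _)
    have hRN : R ≤ Subgroup.normalizer (K : Set Γ) := by
      rw [← hN₁R]; exact inf_le_right
    have : R ≤ K := by
      rw [hR]
      apply sSup_le
      intro Q hQ
      exact hcon Q hQ ((le_sSup hQ).trans hRN)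
    exact absurd (lt_of_lt_of_le hlt this) (lt_irrefl _)
  obtain ⟨Q, hQ𝒟, hQN, hQK⟩ := hex
  have hmem : K ⊔ Q ∈ 𝒮 := by
    refine ⟨hstep K hPK Q hQ𝒟 hQN, 𝒟' ∪ {Q}, ?_, ?_⟩
    · intro Z hZ
      rcases hZ with hZ | hZ
      · exact h𝒟' hZ
      · rw [Set.mem_singleton_iff] at hZ; rw [hZ]; exact hQ𝒟
    · rw [sSup_union, sSup_singleton, ← hKeq]
  have hltK : K < K ⊔ Q := by
    refine lt_of_le_of_ne le_sup_left ?_
    intro heq
    apply hQK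
    rw [heq]; exact le_sup_right
  have h1 := card_lt_of_lt hltK
  have h2 := hKmax hmem h1.le
  exact absurd h1 (not_lt.mpr h2)

open scoped Classical in
/-- **Trace lemma.** -/
theorem trace_mem [CommGroup E] (ρ : Γ →* Equiv.Perm α) (y : α) (M T : Subgroup Γ)
    (hM : ∀ g : Γ, g ∈ M ↔ ρ g y = y)
    (hTM : T ≤ M) (hT : IsPGroup p T) (hidx : ¬ p ∣ T.relIndex M)
    (𝒟 : Set (Subgroup Γ)) (h𝒟T : ∀ Q ∈ 𝒟, Q ≤ T)
    (h𝒟c : ∀ Q ∈ 𝒟, ∀ g : Γ, cj g Q ≤ T → cj g Q ∈ 𝒟)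
    (hNR : Subgroup.normalizer ((sSup 𝒟 : Subgroup Γ) : Set Γ) ≤ M)
    (Y : Subgroup E) (f : α → E)
    (hD4 : ∀ Q ∈ 𝒟, ∀ w ∈ orb ρ ⊤ y, (∃ q ∈ Q, ρ q w ≠ w) → ∏ u ∈ orb ρ Q w, f u ∈ Y) :
    (∏ w ∈ orb ρ ⊤ y, f w) / f y ∈ Y := by
  set Ω : Finset α := orb ρ ⊤ y with hΩ
  set R : Subgroup Γ := sSup 𝒟 with hR
  have hRT : R ≤ T := sSup_le h𝒟T
  have hΩinv : ∀ g : Γ, ∀ w ∈ Ω, ρ g w ∈ Ω := by
    intro g w hw
    obtain ⟨k, -, rfl⟩ := mem_orb.mp hw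
    refine mem_orb.mpr ⟨g * k, Subgroup.mem_top _, ?_⟩
    rw [map_mul, Equiv.Perm.mul_apply]
  have hwc : ∀ g : Γ, cj g R ≤ T → cj g R = R := by
    intro g hg
    apply eq_of_cj_le'
    apply cj_le_of_forall
    intro Q hQ
    have h1 : cj g Q ≤ T := (cj_mono (le_sSup hQ)).trans hg
    exact le_sSup (h𝒟c Q hQ g h1)
  let Pr : Subgroup Γ → Prop := fun K =>
    (∏ w ∈ Ω, f w) / (∏ w ∈ Ω.filter (fun w => ∀ k ∈ K, ρ k w = w), f w) ∈ Y
  have h0 : Pr ⊥ := by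
    show (∏ w ∈ Ω, f w) / (∏ w ∈ Ω.filter (fun w => ∀ k ∈ (⊥ : Subgroup Γ), ρ k w = w), f w) ∈ Y
    have : Ω.filter (fun w => ∀ k ∈ (⊥ : Subgroup Γ), ρ k w = w) = Ω := by
      apply Finset.filter_true_of_mem
      intro w _ k hk
      rw [Subgroup.mem_bot] at hk
      rw [hk, map_one]; rfl
    rw [this, div_self']
    exact Y.one_mem
  have hstep : ∀ K : Subgroup Γ, Pr K → ∀ Q ∈ 𝒟, Q ≤ Subgroup.normalizer (K : Set Γ) →
      Pr (K ⊔ Q) := by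
    intro K hPK Q hQ hQN
    set F : Finset α := Ω.filter (fun w => ∀ k ∈ K, ρ k w = w) with hF
    have hFinv : ∀ q ∈ Q, ∀ w ∈ F, ρ q w ∈ F := by
      intro q hq w hw
      rw [hF, Finset.mem_filter] at hw ⊢
      refine ⟨hΩinv q w hw.1, ?_⟩
      intro k hk
      have hqN : q⁻¹ ∈ Subgroup.normalizer (K : Set Γ) := Subgroup.inv_mem _ (hQN hq)
      have h1 : q⁻¹ * k * q ∈ K := by
        have := (Subgroup.mem_normalizer_iff.mp hqN k).mp hk
        rwa [inv_inv] at this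
      have h2 := hw.2 _ h1
      rw [← Equiv.Perm.mul_apply, ← map_mul]
      have h3 : k * q = q * (q⁻¹ * k * q) := by group
      rw [h3, map_mul, Equiv.Perm.mul_apply, h2]
    have hD4' : ∀ w ∈ F, (∃ q ∈ Q, ρ q w ≠ w) → ∏ u ∈ orb ρ Q w, f u ∈ Y := by
      intro w hw hne
      exact hD4 Q hQ w (Finset.mem_filter.mp hw).1 hne
    have key := prod_div_prod_fixed_mem ρ Q Y f F.card F rfl hFinv hD4'
    have hfilt : F.filter (fun w => ∀ q ∈ Q, ρ q w = w) =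
        Ω.filter (fun w => ∀ k ∈ K ⊔ Q, ρ k w = w) := by
      ext w
      simp only [hF, Finset.mem_filter]
      constructor
      · rintro ⟨⟨h1, h2⟩, h3⟩
        refine ⟨h1, ?_⟩
        exact le_stab.mp (sup_le (le_stab.mpr h2) (le_stab.mpr h3))
      · rintro ⟨h1, h2⟩
        exact ⟨⟨h1, fun k hk => h2 k (Subgroup.mem_sup_left hk)⟩,
          fun k hk => h2 k (Subgroup.mem_sup_right hk)⟩
    rw [hfilt] at key
    show (∏ w ∈ Ω, f w) / (∏ w ∈ Ω.filter (fun w => ∀ k ∈ K ⊔ Q, ρ k w = w), f w) ∈ Y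
    have hmul := Y.mul_mem hPK key
    rwa [div_mul_div_cancel] at hmul
  have hfin := chain_induction T hT 𝒟 h𝒟T
    (fun Q hQ t ht => h𝒟c Q hQ t (by
      have h1 : cj t Q ≤ cj t T := cj_mono (h𝒟T Q hQ)
      rwa [cj_of_mem ht] at h1)) Pr h0 hstep
  have hfix : Ω.filter (fun w => ∀ k ∈ R, ρ k w = w) = {y} := by
    ext w
    rw [Finset.mem_filter, Finset.mem_singleton]
    constructor
    · rintro ⟨hw, hwR⟩
      obtain ⟨h, -, rfl⟩ := mem_orb.mp hw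
      exact fixed_eq ρ y M T R hM hTM hT hidx hRT hwc hNR h hwR
    · rintro rfl
      exact ⟨self_mem_orb ρ ⊤ w, fun k hk => (hM k).mp (hTM (hRT hk))⟩
  have hfin' : (∏ w ∈ Ω, f w) / (∏ w ∈ Ω.filter (fun w => ∀ k ∈ R, ρ k w = w), f w) ∈ Y := hfin
  rwa [hfix, Finset.prod_singleton] at hfin'

end Cfsg.Agent.Lib.Helper72_Trace
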