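import Mathlib
import Cfsg.Prelude.Def_PLocal
import Cfsg.Prelude.Def_LocalEven
import Cfsg.Prelude.Def_Solvable
import Cfsg.Agent.Lib.Helper72_Trace
import Cfsg.Agent.Lib.Helper72_Engel

/-!
Helper library (helper72): the endgame of Glauberman's weak closure theorem under an Engel
condition, as an absolute statement about a finite group `Γ`.
-/

set_option autoImplicit false

namespace Cfsg.Agent.Lib.Helper72_EngelEnd

open Cfsg.Agent.Lib.Helper33_Conj Cfsg.Agent.Lib.Helper33_Alperin Cfsg.Agent.Lib.Helper72_Orbit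
open Cfsg.Agent.Lib.Helper72_Trace Cfsg.Agent.Lib.Helper72_Engel
open scoped IsMulCommutative

variable {Γ : Type*} [Group Γ]

theorem cj_zpowers (h d : Γ) : cj h (Subgroup.zpowers d) = Subgroup.zpowers (h * d * h⁻¹) := by
  unfold cj
  rw [MonoidHom.map_zpowers]
  rfl

theorem cj_commutator (h : Γ) (A B : Subgroup Γ) : cj h ⁅A, B⁆ = ⁅cj h A, cj h B⁆ :=
  Subgroup.map_commutator A B _

theorem cj_iterCommutator (h : Γ) (A B : Subgroup Γ) (i : ℕ) :
    cj h (Cfsg.iterCommutator A B i) = Cfsg.iterCommutator (cj h A) (cj h B) i := by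
  induction i with
  | zero => rfl
  | succ i ih =>
    show cj h ⁅Cfsg.iterCommutator A B i, B⁆ = ⁅Cfsg.iterCommutator (cj h A) (cj h B) i, cj h B⁆
    rw [cj_commutator, ih]

theorem cj_eq_of_normal (h : Γ) (A : Subgroup Γ) [hA : A.Normal] : cj h A = A :=
  mem_normalizer_iff_cj.mp (by rw [Subgroup.normalizer_eq_top_iff.mpr hA]; exact Subgroup.mem_top h)

/-- the conjugation action on a normal subgroup, as a permutation representation -/
def conjPerm (X' : Subgroup Γ) [X'.Normal] : Γ →* Equiv.Perm ↥X' :=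
  (MulAut.toPerm ↥X').comp MulAut.conjNormal

theorem conjPerm_apply (X' : Subgroup Γ) [X'.Normal] (k : Γ) (w : ↥X') :
    conjPerm X' k w = MulAut.conjNormal k w := rfl

theorem coe_conjPerm_apply (X' : Subgroup Γ) [X'.Normal] (k : Γ) (w : ↥X') :
    ((conjPerm X' k w : ↥X') : Γ) = k * w * k⁻¹ := by
  rw [conjPerm_apply, MulAut.conjNormal_apply]

/-- the subgroup of elements of `X'` whose `p`-th power lies in `Y` -/
def powPre (X' Y : Subgroup Γ) (hc : ∀ a ∈ X', ∀ b ∈ X', a * b = b * a) (p : ℕ) : Subgroup Γ where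
  carrier := {v | v ∈ X' ∧ v ^ p ∈ Y}
  one_mem' := ⟨X'.one_mem, by rw [one_pow]; exact Y.one_mem⟩
  mul_mem' := by
    rintro a b ⟨ha, ha'⟩ ⟨hb, hb'⟩
    refine ⟨X'.mul_mem ha hb, ?_⟩
    have hcomm : Commute a b := hc a ha b hb
    rw [hcomm.mul_pow]
    exact Y.mul_mem ha' hb'
  inv_mem' := by
    rintro a ⟨ha, ha'⟩
    refine ⟨X'.inv_mem ha, ?_⟩
    rw [inv_pow]
    exact Y.inv_mem ha'

variable [Finite Γ] {p : ℕ} [hp : Fact p.Prime]

/-- a chief factor which is a `p`-group has exponent `p` -/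
theorem pow_mem_of_isChiefFactor {X' Y : Subgroup Γ} (hch : Cfsg.IsChiefFactor X' Y)
    (hc : ∀ a ∈ X', ∀ b ∈ X', a * b = b * a) (hX'p : IsPGroup p X') :
    ∀ v ∈ X', v ^ p ∈ Y := by
  obtain ⟨hlt, hX'n, hYn, hmaxY⟩ := hch
  set N := powPre X' Y hc p with hN
  have hNn : N.Normal := by
    constructor
    rintro v ⟨hv, hv'⟩ k
    refine ⟨hX'n.conj_mem v hv k, ?_⟩
    rw [conj_pow]
    exact hYn.conj_mem _ hv' k
  have hYN : Y ≤ N := fun v hv => ⟨hlt.le hv, Y.pow_mem hv p⟩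
  have hNX : N ≤ X' := fun v hv => hv.1
  rcases hmaxY N hNn hYN hNX with h1 | h1
  · -- impossible
    exfalso
    obtain ⟨v, hvX, hvY⟩ := SetLike.exists_of_lt hlt
    have hex : ∃ k : ℕ, v ^ (p ^ k) ∈ Y := by
      obtain ⟨e, he⟩ := hX'p ⟨v, hvX⟩
      refine ⟨e, ?_⟩
      have : v ^ (p ^ e) = 1 := by
        have := congrArg Subtype.val he
        simpa using this
      rw [this]; exact Y.one_mem
    classical
    obtain ⟨k, hk, hkmin⟩ : ∃ k : ℕ, v ^ (p ^ k) ∈ Y ∧ ∀ j < k, v ^ (p ^ j) ∉ Y :=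
      ⟨Nat.find hex, Nat.find_spec hex, fun j hj => Nat.find_min hex hj⟩
    have hk0 : k ≠ 0 := by
      intro h0
      rw [h0, pow_zero, pow_one] at hk
      exact hvY hk
    have hu : v ^ (p ^ (k - 1)) ∈ N := by
      refine ⟨X'.pow_mem hvX _, ?_⟩
      rw [← pow_mul, ← pow_succ]
      have : k - 1 + 1 = k := by omega
      rw [this]; exact hk
    rw [h1] at hu
    exact hkmin (k - 1) (by omega) hu
  · intro v hv
    have : v ∈ N := by rw [h1]; exact hv
    exact this.2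

/-- **Endgame under the Engel condition.** -/
theorem engel_central (T M B : Subgroup Γ) (g : Γ)
    (hT : IsPGroup p T) (hidx : ¬ p ∣ T.index) (hTM : T ≤ M)
    (hmax : ∀ K : Subgroup Γ, T ≤ K → K ≠ ⊤ → K ≤ M)
    (hBc : ∀ a ∈ B, ∀ b ∈ B, a * b = b * a) (hBp : IsPGroup p B)
    (hgT : g ∈ T) (hgP : g ∉ Cfsg.pCore p Γ)
    (hEng : ∀ U V : Subgroup Γ, Cfsg.IsChiefFactor U V → U ≤ B →
      Cfsg.iterCommutator U (Subgroup.zpowers g) (p - 1) ≤ V) :
    ∀ (n : ℕ) (X' : Subgroup Γ), Nat.card X' = n → X'.Normal → X' ≤ B →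
      ∀ y ∈ X', (∀ m ∈ M, m * y * m⁻¹ = y) → ∀ k : Γ, k * y * k⁻¹ = y := by
  intro n
  induction n using Nat.strong_induction_on with
  | _ n ih =>
  intro X' hn hX'n hX'B y hyX hyM
  by_contra hcon
  push Not at hcon
  obtain ⟨k₀, hk₀⟩ := hcon
  have := hX'n
  have hX'c : ∀ a ∈ X', ∀ b ∈ X', a * b = b * a := fun a ha b hb => hBc a (hX'B ha) b (hX'B hb)
  have hX'comm : IsMulCommutative ↥X' :=
    ⟨⟨fun a b => Subtype.ext (hX'c a a.2 b b.2)⟩⟩
  have hX'p : IsPGroup p X' := hBp.to_le hX'B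
  -- the stabilizer of `y` is `M`
  have hMstab : ∀ k : Γ, k ∈ M ↔ k * y * k⁻¹ = y := by
    intro k
    constructor
    · exact hyM k
    · intro hk
      set Cy : Subgroup Γ := Subgroup.centralizer ({y} : Set Γ) with hCy
      have hmemC : ∀ k : Γ, k ∈ Cy ↔ k * y * k⁻¹ = y := by
        intro k
        rw [hCy, Subgroup.mem_centralizer_singleton_iff]
        constructor
        · intro h; rw [h]; group
        · intro h
          calc k * y = k * y * k⁻¹ * k := by group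
            _ = y * k := by rw [h]
      have hTC : T ≤ Cy := fun t ht => (hmemC t).mpr (hyM t (hTM ht))
      have hCne : Cy ≠ ⊤ := by
        intro htop
        apply hk₀
        exact (hmemC k₀).mp (by rw [htop]; exact Subgroup.mem_top _)
      exact hmax Cy hTC hCne ((hmemC k).mpr hk)
  -- a maximal normal subgroup `Y` of `Γ` properly contained in `X'`
  have hX'ne : X' ≠ ⊥ := by
    intro hbot
    rw [hbot, Subgroup.mem_bot] at hyX
    apply hk₀
    rw [hyX]; group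
  classical
  let 𝒴 : Set (Subgroup Γ) := {Y | Y.Normal ∧ Y < X'}
  have h𝒴ne : 𝒴.Nonempty := ⟨⊥, Subgroup.normal_bot, bot_lt_iff_ne_bot.mpr hX'ne⟩
  obtain ⟨Y, hY𝒴, hYmax⟩ := Set.Finite.exists_maximalFor (fun Y : Subgroup Γ => Nat.card Y) 𝒴
    (Set.toFinite 𝒴) h𝒴ne
  obtain ⟨hYn, hYlt⟩ := hY𝒴
  have := hYn
  have hch : Cfsg.IsChiefFactor X' Y := by
    refine ⟨hYlt, hX'n, hYn, ?_⟩
    intro N hNn hYN hNX
    by_cases hNX' : N = X'
    · exact Or.inr hNX'
    · left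
      have hN𝒴 : N ∈ 𝒴 := ⟨hNn, lt_of_le_of_ne hNX hNX'⟩
      by_contra hne
      have hlt : Y < N := lt_of_le_of_ne hYN (Ne.symm hne)
      have h1 := card_lt_of_lt hlt
      have h2 := hYmax hN𝒴 h1.le
      exact absurd h1 (not_lt.mpr h2)
  have hpow := pow_mem_of_isChiefFactor hch hX'c hX'p
  have hEngg := hEng X' Y hch hX'B
  -- the data for the trace lemma
  set ρ : Γ →* Equiv.Perm ↥X' := conjPerm X' with hρ
  set y' : ↥X' := ⟨y, hyX⟩ with hy'
  have hρfix : ∀ (k : Γ) (w : ↥X'), ρ k w = w ↔ k * (w : Γ) * k⁻¹ = w := by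
    intro k w
    rw [← coe_conjPerm_apply X' k w]
    exact Subtype.ext_iff
  have hM' : ∀ k : Γ, k ∈ M ↔ ρ k y' = y' := by
    intro k
    rw [hMstab k, hρfix]
  have hidxM : ¬ p ∣ T.relIndex M := by
    intro hdvd
    apply hidx
    rw [← Subgroup.relIndex_mul_index hTM]
    exact Dvd.dvd.mul_right hdvd _
  let 𝒟 : Set (Subgroup Γ) :=
    {Q | ∃ d ∈ T, (∃ h : Γ, d = h * g * h⁻¹) ∧ Q = Subgroup.zpowers d}
  have h𝒟T : ∀ Q ∈ 𝒟, Q ≤ T := by
    rintro Q ⟨d, hdT, -, rfl⟩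
    rw [Subgroup.zpowers_le]; exact hdT
  have h𝒟c : ∀ Q ∈ 𝒟, ∀ k : Γ, cj k Q ≤ T → cj k Q ∈ 𝒟 := by
    rintro Q ⟨d, hdT, ⟨h, rfl⟩, rfl⟩ k hk
    refine ⟨k * (h * g * h⁻¹) * k⁻¹, ?_, ⟨k * h, by group⟩, cj_zpowers k _⟩
    apply hk
    rw [cj_zpowers]
    exact Subgroup.mem_zpowers _
  set R : Subgroup Γ := sSup 𝒟 with hR
  have hRT : R ≤ T := sSup_le h𝒟T
  have hgR : g ∈ R := by
    have : Subgroup.zpowers g ∈ 𝒟 := ⟨g, hgT, ⟨1, by group⟩, rfl⟩
    exact (le_sSup this) (Subgroup.mem_zpowers g)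
  have hcjR : ∀ k : Γ, cj k R ≤ T → cj k R = R := by
    intro k hk
    apply eq_of_cj_le'
    apply cj_le_of_forall
    intro Q hQ
    have h1 : cj k Q ≤ T := (cj_mono (le_sSup hQ)).trans hk
    exact le_sSup (h𝒟c Q hQ k h1)
  have hNR : Subgroup.normalizer (R : Set Γ) ≤ M := by
    apply hmax
    · intro t ht
      rw [mem_normalizer_iff_cj]
      apply hcjR
      have h1 : cj t R ≤ cj t T := cj_mono hRT
      rwa [cj_of_mem ht] at h1
    · intro htop
      apply hgP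
      have hRn : R.Normal := Subgroup.normalizer_eq_top_iff.mp htop
      have : R ≤ Cfsg.pCore p Γ := le_sSup ⟨hRn, hT.to_le hRT⟩
      exact this hgR
  have hD4 : ∀ Q ∈ 𝒟, ∀ w ∈ orb ρ ⊤ y', (∃ q ∈ Q, ρ q w ≠ w) →
      ∏ u ∈ orb ρ Q w, (id u : ↥X') ∈ Y.subgroupOf X' := by
    rintro Q ⟨d, hdT, ⟨h, rfl⟩, rfl⟩ w - ⟨q, hq, hqw⟩
    set d := h * g * h⁻¹ with hd
    obtain ⟨e, he⟩ := hT ⟨d, hdT⟩
    have hde : d ^ (p ^ e) = 1 := by
      have := congrArg Subtype.val he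
      simpa using this
    obtain ⟨n', hn'pos, hn'dvd, -, hn'1, hprod⟩ :=
      prod_orb_zpowers ρ d w (fun u => (id u : ↥X')) (p ^ e) (pow_pos hp.out.pos e) hde
    rw [hprod]
    have hpn' : p ∣ n' := by
      obtain ⟨i, -, hi⟩ := (Nat.dvd_prime_pow hp.out).mp hn'dvd
      rcases Nat.eq_zero_or_pos i with h0 | hpos
      · exfalso
        rw [h0, pow_zero] at hi
        apply hqw
        -- every power of `d` fixes `w`
        have hdw := hn'1 hi
        have hstab : Subgroup.zpowers d ≤ stab ρ w := by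
          rw [Subgroup.zpowers_le]; exact mem_stab.mpr hdw
        exact mem_stab.mp (hstab hq)
      · rw [hi]; exact dvd_pow_self p hpos.ne'
    rw [Subgroup.mem_subgroupOf]
    have hEngd : Cfsg.iterCommutator X' (Subgroup.zpowers d) (p - 1) ≤ Y := by
      have h1 := cj_mono (g := h) hEngg
      rwa [cj_iterCommutator, cj_eq_of_normal h X', cj_zpowers, cj_eq_of_normal h Y] at h1
    exact prod_conj_pow_mem X' Y p hp.out d (fun v hv => hYn.conj_mem v hv d) hEngd hpow n' hpn' w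
  have key := trace_mem ρ y' M T hM' hTM hT hidxM 𝒟 h𝒟T h𝒟c hNR (Y.subgroupOf X')
    (fun u => (id u : ↥X')) hD4
  simp only [id] at key
  set τ : ↥X' := ∏ w ∈ orb ρ ⊤ y', w with hτ
  -- `τ` is invariant
  have hτinv : ∀ k : Γ, k * (τ : Γ) * k⁻¹ = τ := by
    intro k
    rw [← MulAut.conjNormal_apply (H := X') k τ, hτ, map_prod]
    congr 1
    apply Finset.prod_bij (fun w _ => ρ k w)
    · intro w hw
      obtain ⟨k', -, rfl⟩ := mem_orb.mp hw
      refine mem_orb.mpr ⟨k * k', Subgroup.mem_top _, ?_⟩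
      rw [map_mul, Equiv.Perm.mul_apply]
    · intro a _ b _ hab
      exact (ρ k).injective hab
    · intro b hb
      obtain ⟨k', -, rfl⟩ := mem_orb.mp hb
      refine ⟨ρ (k⁻¹ * k') y', mem_orb.mpr ⟨k⁻¹ * k', Subgroup.mem_top _, rfl⟩, ?_⟩
      rw [← Equiv.Perm.mul_apply, ← map_mul, mul_inv_cancel_left]
    · intro w _
      rfl
  -- the element `z = τ y⁻¹ ∈ Y` is fixed by `M`, hence central by induction
  set z : Γ := (τ : Γ) * y⁻¹ with hz
  have hzY : z ∈ Y := by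
    rw [Subgroup.mem_subgroupOf, Subgroup.coe_div, div_eq_mul_inv] at key
    exact key
  have hzM : ∀ m ∈ M, m * z * m⁻¹ = z := by
    intro m hm
    have e : m * z * m⁻¹ = (m * (τ : Γ) * m⁻¹) * (m * y * m⁻¹)⁻¹ := by rw [hz]; group
    rw [e, hτinv, hyM m hm]
  have hcardY : Nat.card Y < n := by rw [← hn]; exact card_lt_of_lt hYlt
  have hzc := ih _ hcardY Y rfl hYn (hYlt.le.trans hX'B) z hzY hzM
  apply hk₀
  have hyz : y = z⁻¹ * (τ : Γ) := by rw [hz]; group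
  have e : k₀ * y * k₀⁻¹ = (k₀ * z * k₀⁻¹)⁻¹ * (k₀ * (τ : Γ) * k₀⁻¹) := by
    conv_lhs => rw [hyz]
    group
  rw [e, hzc, hτinv, ← hyz]

end Cfsg.Agent.Lib.Helper72_EngelEnd
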