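import Mathlib
import Cfsg.Agent.S1968
import Cfsg.Agent.Lib.Helper47_SubAPI

/-!
Helper library (helper72): the well-placed reduction of helper33 (`S1968`) relative to a subgroup
`H` of the ambient group, for a conjugacy functor `W` on the ambient group.
-/

set_option autoImplicit false

namespace Cfsg.Agent.Lib.Helper72_WCRel

open Cfsg Cfsg.Agent.Lib.Helper33_Conj Cfsg.Agent.Lib.Helper33_Alperin

variable {G : Type*} [Group G]

/-- restriction of a subgroup functor to a subgroup -/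
def resW (H : Subgroup G) (W : Subgroup G → Subgroup G) : Subgroup H → Subgroup H :=
  fun P => (W (P.map H.subtype)).subgroupOf H

theorem map_conj_subtype (H : Subgroup G) (P : Subgroup H) (g : H) :
    (P.map (MulAut.conj g).toMonoidHom).map H.subtype = cj (g : G) (P.map H.subtype) := by
  ext x
  constructor
  · rintro ⟨y, ⟨z, hz, rfl⟩, rfl⟩
    refine ⟨(z : G), Subgroup.mem_map_of_mem _ hz, ?_⟩
    simp
  · rintro ⟨y, ⟨z, hz, rfl⟩, rfl⟩
    refine ⟨g * z * g⁻¹, ⟨z, hz, by simp⟩, ?_⟩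
    simp

theorem subgroupOf_cj (H : Subgroup G) (Q : Subgroup G) (g : H) :
    (cj (g : G) Q).subgroupOf H = (Q.subgroupOf H).map (MulAut.conj g).toMonoidHom := by
  ext x
  rw [Subgroup.mem_subgroupOf, mem_cj]
  constructor
  · intro h
    refine ⟨g⁻¹ * x * g, ?_, ?_⟩
    · rw [SetLike.mem_coe, Subgroup.mem_subgroupOf]
      simpa using h
    · simp only [MulEquiv.coe_toMonoidHom, MulAut.conj_apply]
      group
  · rintro ⟨y, hy, rfl⟩
    rw [SetLike.mem_coe, Subgroup.mem_subgroupOf] at hy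
    simp only [MulEquiv.coe_toMonoidHom, MulAut.conj_apply]
    have : (g : G)⁻¹ * ((g * y * g⁻¹ : H) : G) * (g : G) = (y : G) := by
      simp only [Subgroup.coe_mul, InvMemClass.coe_inv]
      group
    rw [this]; exact hy

theorem resW_isConjugacyFunctor {p : ℕ} (H : Subgroup G) (W : Subgroup G → Subgroup G)
    (hW : Cfsg.IsConjugacyFunctor p W) : Cfsg.IsConjugacyFunctor p (resW H W) := by
  intro P hP
  have hP' : IsPGroup p (P.map H.subtype) := hP.map _
  obtain ⟨h1, h2, h3⟩ := hW _ hP'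
  refine ⟨?_, ?_, ?_⟩
  · intro x hx
    have hx' : (x : G) ∈ W (P.map H.subtype) := Subgroup.mem_subgroupOf.mp hx
    obtain ⟨y, hy, hyx⟩ := h1 hx'
    have : y = x := Subtype.ext hyx
    rw [← this]; exact hy
  · intro hne hbot
    have hne' : P.map H.subtype ≠ ⊥ := by
      intro h0
      apply hne
      rw [eq_bot_iff]
      intro x hx
      have : (x : G) ∈ P.map H.subtype := Subgroup.mem_map_of_mem _ hx
      rw [h0, Subgroup.mem_bot] at this
      rw [Subgroup.mem_bot]
      exact Subtype.ext this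
    apply h2 hne'
    rw [eq_bot_iff]
    intro g hg
    have hgH : g ∈ H := (Subgroup.map_subtype_le P) (h1 hg)
    have : (⟨g, hgH⟩ : H) ∈ resW H W P := by
      show (⟨g, hgH⟩ : H) ∈ (W (P.map H.subtype)).subgroupOf H
      rw [Subgroup.mem_subgroupOf]; exact hg
    rw [hbot, Subgroup.mem_bot] at this
    rw [Subgroup.mem_bot]
    exact congrArg Subtype.val this
  · intro g
    show (W ((P.map (MulAut.conj g).toMonoidHom).map H.subtype)).subgroupOf H = _
    rw [map_conj_subtype, h3 (g : G)]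
    exact subgroupOf_cj H _ g

theorem map_resW {p : ℕ} (H : Subgroup G) (W : Subgroup G → Subgroup G)
    (hW : Cfsg.IsConjugacyFunctor p W) (P : Subgroup H) (hP : IsPGroup p P) :
    (resW H W P).map H.subtype = W (P.map H.subtype) := by
  have h1 := (hW _ (hP.map H.subtype)).1
  exact Subgroup.map_subgroupOf_eq_of_le (h1.trans (Subgroup.map_subtype_le P))


theorem subgroupOf_inf' (H K L : Subgroup G) :
    (K ⊓ L).subgroupOf H = K.subgroupOf H ⊓ L.subgroupOf H := by
  ext x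
  simp only [Subgroup.mem_subgroupOf, Subgroup.mem_inf]

theorem eq_of_subgroupOf_eq {H K L : Subgroup G} (hK : K ≤ H) (hL : L ≤ H)
    (h : K.subgroupOf H = L.subgroupOf H) : K = L := by
  rw [Subgroup.subgroupOf_inj, inf_of_le_left hK, inf_of_le_left hL] at h
  exact h

/-- **helper33's well-placed reduction, relative to a subgroup `H`.** -/
theorem exists_local [Finite G] {p : ℕ} [Fact p.Prime] (W : Subgroup G → Subgroup G)
    (hW : Cfsg.IsConjugacyFunctor p W)
    (hWZ : ∀ P : Subgroup G, IsPGroup p ↥P → P ⊓ Subgroup.centralizer (P : Set G) ≤ W P)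
    (H T A : Subgroup G) (hTH : T ≤ H) (hT : IsPGroup p T) (hidx : ¬ p ∣ T.relIndex H)
    (hAZ : A ≤ T ⊓ Subgroup.centralizer (T : Set G))
    (hAN : H ⊓ Subgroup.normalizer ((W T : Subgroup G) : Set G) ≤ Subgroup.normalizer (A : Set G))
    (h : G) (hh : h ∈ H) (hhA : cj h A ≤ T) (hne : cj h A ≠ A) :
    ∃ T₁ : Subgroup G, T₁ ≤ T ∧ A ≤ T₁ ∧
      H ⊓ Subgroup.normalizer ((W (T ⊓ Subgroup.normalizer (T₁ : Set G)) : Subgroup G) : Set G) ≤
        Subgroup.normalizer (A : Set G) ∧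
      ¬ p ∣ (T ⊓ Subgroup.normalizer (T₁ : Set G)).relIndex (H ⊓ Subgroup.normalizer (T₁ : Set G)) ∧
      ∃ g ∈ H ⊓ Subgroup.normalizer (T₁ : Set G), cj g A ≠ A := by
  have hAT : A ≤ T := hAZ.trans inf_le_left
  have hAH : A ≤ H := hAT.trans hTH
  have hT' : IsPGroup p (T.subgroupOf H) := hT.comap_subtype
  let S' : Sylow p H := hT'.toSylow hidx
  have hS' : ((S' : Sylow p H) : Subgroup H) = T.subgroupOf H := IsPGroup.toSylow_coe hT' hidx
  have hS'map : ((S' : Sylow p H) : Subgroup H).map H.subtype = T := by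
    rw [hS']; exact Subgroup.map_subgroupOf_eq_of_le hTH
  have hW' := resW_isConjugacyFunctor H W hW
  have hWZ' : ∀ P : Subgroup H, IsPGroup p ↥P → P ⊓ Subgroup.centralizer (P : Set H) ≤ resW H W P := by
    intro P hP x hx
    show x ∈ (W (P.map H.subtype)).subgroupOf H
    rw [Subgroup.mem_subgroupOf]
    apply hWZ _ (hP.map _)
    refine Subgroup.mem_inf.mpr ⟨Subgroup.mem_map_of_mem _ hx.1, ?_⟩
    rw [Subgroup.mem_centralizer_iff]
    rintro _ ⟨y, hy, rfl⟩
    have := Subgroup.mem_centralizer_iff.mp hx.2 y hy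
    exact congrArg Subtype.val this
  have hAZ' : A.subgroupOf H ≤ (S' : Subgroup H) ⊓ Subgroup.centralizer (((S' : Subgroup H)) : Set H) := by
    intro x hx
    rw [Subgroup.mem_subgroupOf] at hx
    have h1 := hAZ hx
    refine Subgroup.mem_inf.mpr ⟨?_, ?_⟩
    · rw [hS', Subgroup.mem_subgroupOf]; exact h1.1
    · rw [Subgroup.mem_centralizer_iff]
      intro y hy
      rw [SetLike.mem_coe, hS', Subgroup.mem_subgroupOf] at hy
      exact Subtype.ext (Subgroup.mem_centralizer_iff.mp h1.2 y hy)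
  have hWT' : resW H W (S' : Subgroup H) = (W T).subgroupOf H := by
    show (W (((S' : Sylow p H) : Subgroup H).map H.subtype)).subgroupOf H = _
    rw [hS'map]
  have hWTH : W T ≤ H := ((hW T hT).1).trans hTH
  have hAN' : Subgroup.normalizer ((resW H W (S' : Subgroup H) : Subgroup H) : Set H) ≤
      Subgroup.normalizer ((A.subgroupOf H : Subgroup H) : Set H) := by
    rw [hWT', ← Subgroup.subgroupOf_normalizer_eq hWTH, ← Subgroup.subgroupOf_normalizer_eq hAH]
    intro x hx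
    rw [Subgroup.mem_subgroupOf] at hx ⊢
    exact hAN ⟨x.2, hx⟩
  have hconj : ∀ g : H, (A.subgroupOf H).map (MulAut.conj g).toMonoidHom = (cj (g : G) A).subgroupOf H :=
    fun g => (subgroupOf_cj H A g).symm
  have hcjH : ∀ g : H, cj (g : G) A ≤ H := by
    intro g x hx
    rw [mem_cj] at hx
    have h1 := hAH hx
    have h2 : x = (g : G) * ((g : G)⁻¹ * x * g) * (g : G)⁻¹ := by group
    rw [h2]
    exact H.mul_mem (H.mul_mem g.2 h1) (H.inv_mem g.2)
  have hnwc' : ¬ Cfsg.IsWeaklyClosed (A.subgroupOf H) (S' : Subgroup H) := by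
    intro hwc
    have h1 := hwc.2 ⟨h, hh⟩ (by
      rw [hconj, hS']
      intro x hx
      rw [Subgroup.mem_subgroupOf] at hx ⊢
      exact hhA hx)
    rw [hconj] at h1
    exact hne (eq_of_subgroupOf_eq (hcjH ⟨h, hh⟩) hAH h1)
  obtain ⟨T', hwp, hAT', hN', hidx', -, g, hgT', -, hgA⟩ :=
    Cfsg.Agent.S1968.result S' (resW H W) hW' hWZ' (A.subgroupOf H) hAZ' hAN' hnwc'
  obtain ⟨T₁, hT₁⟩ : ∃ T₁ : Subgroup G, T₁ = T'.map H.subtype := ⟨_, rfl⟩
  have hT₁H : T₁ ≤ H := hT₁ ▸ Subgroup.map_subtype_le T'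
  have hT'eq : T' = T₁.subgroupOf H := by
    rw [hT₁]; exact (Cfsg.Agent.Lib.Helper47_SubAPI.map_subtype_subgroupOf_map H T').symm
  have hT₁T : T₁ ≤ T := by
    rw [hT₁, ← hS'map]
    exact Subgroup.map_mono hwp.1
  have hNT' : Subgroup.normalizer (T' : Set H) = (Subgroup.normalizer (T₁ : Set G)).subgroupOf H := by
    rw [hT'eq, Subgroup.subgroupOf_normalizer_eq hT₁H]
  have hS'N : (S' : Subgroup H) ⊓ Subgroup.normalizer (T' : Set H) =
      (T ⊓ Subgroup.normalizer (T₁ : Set G)).subgroupOf H := by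
    rw [hNT', hS', subgroupOf_inf']
  have hT₂H : T ⊓ Subgroup.normalizer (T₁ : Set G) ≤ H := inf_le_left.trans hTH
  have hT₂p : IsPGroup p ↥(T ⊓ Subgroup.normalizer (T₁ : Set G)) := hT.to_le inf_le_left
  have hWT₂H : W (T ⊓ Subgroup.normalizer (T₁ : Set G)) ≤ H := ((hW _ hT₂p).1).trans hT₂H
  refine ⟨T₁, hT₁T, ?_, ?_, ?_, (g : G), ?_, ?_⟩
  · intro a ha
    have h1 : (⟨a, hAH ha⟩ : H) ∈ T' := hAT' (by rw [Subgroup.mem_subgroupOf]; exact ha)
    rw [hT₁]
    exact ⟨⟨a, hAH ha⟩, h1, rfl⟩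
  · intro x hx
    have h1 : resW H W ((S' : Subgroup H) ⊓ Subgroup.normalizer (T' : Set H)) =
        (W (T ⊓ Subgroup.normalizer (T₁ : Set G))).subgroupOf H := by
      show (W (((S' : Subgroup H) ⊓ Subgroup.normalizer (T' : Set H)).map H.subtype)).subgroupOf H = _
      rw [hS'N, Subgroup.map_subgroupOf_eq_of_le hT₂H]
    rw [h1, ← Subgroup.subgroupOf_normalizer_eq hWT₂H, ← Subgroup.subgroupOf_normalizer_eq hAH] at hN'
    have h2 : (⟨x, hx.1⟩ : H) ∈ (Subgroup.normalizer (A : Set G)).subgroupOf H := hN' (by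
      rw [Subgroup.mem_subgroupOf]; exact hx.2)
    exact Subgroup.mem_subgroupOf.mp h2
  · rw [hS'N, hNT', ← Subgroup.inf_subgroupOf_left (Subgroup.normalizer (T₁ : Set G)) H,
      Subgroup.relIndex_subgroupOf inf_le_left] at hidx'
    exact hidx'
  · have h1 : g ∈ (Subgroup.normalizer (T₁ : Set G)).subgroupOf H := by rw [← hNT']; exact hgT'
    exact ⟨g.2, Subgroup.mem_subgroupOf.mp h1⟩
  · intro heq
    apply hgA
    rw [hconj, heq]

end Cfsg.Agent.Lib.Helper72_WCRel
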