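import Mathlib
import Cfsg.Agent.Lib.Helper72_WCRel

/-!
Helper library (helper72): Glauberman's reduction of weak-closure statements for a conjugacy functor
`W` to a "final configuration": a subgroup `H` with Sylow `p`-subgroup `T`, a subgroup
`A ≤ Z(T) ∩ O_p(H)` normalized by `N_H(W(T))` and by every proper subgroup of `H` containing `T`.
-/

set_option autoImplicit false

namespace Cfsg.Agent.Lib.Helper72_WCRed

open Cfsg Cfsg.Agent.Lib.Helper33_Conj Cfsg.Agent.Lib.Helper33_Alperin
open Cfsg.Agent.Lib.Helper72_WCRel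

variable {G : Type*} [Group G]

theorem red [Finite G] {p : ℕ} [Fact p.Prime] (W : Subgroup G → Subgroup G)
    (hW : Cfsg.IsConjugacyFunctor p W)
    (hWZ : ∀ P : Subgroup G, IsPGroup p ↥P → P ⊓ Subgroup.centralizer (P : Set G) ≤ W P)
    (F : Subgroup G → Subgroup G)
    (hFZ : ∀ T : Subgroup G, IsPGroup p ↥T → F T ≤ T ⊓ Subgroup.centralizer (T : Set G))
    (hFmono : ∀ T T' : Subgroup G, IsPGroup p ↥T → T' ≤ T →
      T ⊓ Subgroup.centralizer (T : Set G) ≤ T' → F T ≤ F T')
    (E : Subgroup G → Subgroup G → Prop)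
    (hE : ∀ H H' A : Subgroup G, H' ≤ H → E H A → E H' A)
    (hfinal : ∀ H T A : Subgroup G, T ≤ H → IsPGroup p ↥T → ¬ p ∣ T.relIndex H → A ≤ F T → E H A →
      A ≤ Cfsg.pCoreOf p H →
      H ⊓ Subgroup.normalizer ((W T : Subgroup G) : Set G) ≤ Subgroup.normalizer (A : Set G) →
      (∀ K : Subgroup G, T ≤ K → K ≤ H → K ≠ H → K ≤ Subgroup.normalizer (A : Set G)) →
      H ≤ Subgroup.normalizer (A : Set G)) :
    ∀ H T A : Subgroup G, T ≤ H → IsPGroup p ↥T → ¬ p ∣ T.relIndex H → A ≤ F T → E H A →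
      H ⊓ Subgroup.normalizer ((W T : Subgroup G) : Set G) ≤ Subgroup.normalizer (A : Set G) →
      ∀ h ∈ H, cj h A ≤ T → cj h A = A := by
  intro H
  generalize hn : Nat.card H = n
  induction n using Nat.strong_induction_on generalizing H with
  | _ n ih =>
  intro T A hTH hT hidx hAF hEA hAN h hh hhA
  by_contra hne
  have hAZ := hAF.trans (hFZ T hT)
  obtain ⟨T₁, hT₁T, hAT₁, hN₁, hidx₁, g, hg, hgA⟩ :=
    exists_local W hW hWZ H T A hTH hT hidx hAZ hAN h hh hhA hne
  have hT₁H : T₁ ≤ H := hT₁T.trans hTH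
  by_cases hHN : H ≤ Subgroup.normalizer (T₁ : Set G)
  · -- final configuration
    have hT₁P : T₁ ≤ Cfsg.pCoreOf p H :=
      Cfsg.Agent.Lib.Helper47_SubAPI.le_pCoreOf hT₁H hHN (hT.to_le hT₁T)
    have hK : ∀ K : Subgroup G, T ≤ K → K ≤ H → K ≠ H → K ≤ Subgroup.normalizer (A : Set G) := by
      intro K hTK hKH hKne
      have hlt : Nat.card K < n := by
        rw [← hn]
        exact card_lt_of_lt (lt_of_le_of_ne hKH hKne)
      have hidxK : ¬ p ∣ T.relIndex K := by
        intro hdvd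
        apply hidx
        rw [← Subgroup.relIndex_mul_relIndex T K H hTK hKH]
        exact Dvd.dvd.mul_right hdvd _
      have hANK : K ⊓ Subgroup.normalizer ((W T : Subgroup G) : Set G) ≤
          Subgroup.normalizer (A : Set G) := (inf_le_inf_right _ hKH).trans hAN
      have key := ih _ hlt K rfl T A hTK hT hidxK hAF (hE H K A hKH hEA) hANK
      intro k hk
      rw [mem_normalizer_iff_cj]
      apply key k hk
      have h1 : cj k A ≤ cj k T₁ := cj_mono hAT₁
      rw [mem_normalizer_iff_cj.mp (hHN (hKH hk))] at h1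
      exact h1.trans hT₁T
    have hfin := hfinal H T A hTH hT hidx hAF hEA (hAT₁.trans hT₁P) hAN hK
    exact hne (mem_normalizer_iff_cj.mp (hfin hh))
  · -- pass to the proper subgroup `N_H(T₁)`
    have hlt : Nat.card ↥(H ⊓ Subgroup.normalizer (T₁ : Set G)) < n := by
      rw [← hn]
      apply card_lt_of_lt
      refine lt_of_le_of_ne inf_le_left ?_
      intro heq
      apply hHN
      rw [← heq]; exact inf_le_right
    have hT₂p : IsPGroup p ↥(T ⊓ Subgroup.normalizer (T₁ : Set G)) := hT.to_le inf_le_left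
    have hZT₂ : T ⊓ Subgroup.centralizer (T : Set G) ≤ T ⊓ Subgroup.normalizer (T₁ : Set G) := by
      refine inf_le_inf_left _ ?_
      refine le_trans ?_ (Subgroup.centralizer_le_normalizer (T₁ : Set G))
      exact Subgroup.centralizer_le (by exact_mod_cast hT₁T)
    have hAF₂ : A ≤ F (T ⊓ Subgroup.normalizer (T₁ : Set G)) :=
      hAF.trans (hFmono T _ hT inf_le_left hZT₂)
    have key := ih _ hlt (H ⊓ Subgroup.normalizer (T₁ : Set G)) rfl
      (T ⊓ Subgroup.normalizer (T₁ : Set G)) A (inf_le_inf_right _ hTH) hT₂p hidx₁ hAF₂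
      (hE H _ A inf_le_left hEA) ((inf_le_inf_right _ inf_le_left).trans hN₁)
    apply hgA
    apply key g hg
    have h1 : cj g A ≤ cj g T₁ := cj_mono hAT₁
    rw [mem_normalizer_iff_cj.mp hg.2] at h1
    exact h1.trans (le_inf hT₁T Subgroup.le_normalizer)

end Cfsg.Agent.Lib.Helper72_WCRed
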