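import Mathlib
import Cfsg.Agent.Lib.Helper72_WCRed

/-!
Helper library (helper72): general facts about the final configuration of the weak-closure
reduction (`Helper72_WCRed.red`).
-/

set_option autoImplicit false

namespace Cfsg.Agent.Lib.Helper72_WCFinal

open Cfsg Cfsg.Agent.Lib.Helper33_Conj Cfsg.Agent.Lib.Helper33_Alperin
open Cfsg.Agent.Lib.Helper47_SubAPI

variable {G : Type*} [Group G]

theorem eq_of_cj_le [Finite G] {g : G} {P : Subgroup G} (h : cj g P ≤ P) : cj g P = P :=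
  Subgroup.eq_of_le_of_card_ge h (by rw [card_cj])

theorem mem_normalizer_of_cj_le [Finite G] {g : G} {P : Subgroup G} (h : cj g P ≤ P) :
    g ∈ Subgroup.normalizer (P : Set G) :=
  mem_normalizer_iff_cj.mpr (eq_of_cj_le h)

/-- `H ≤ N(P)` implies `H ≤ N(C(P))`. -/
theorem le_normalizer_centralizer {H P : Subgroup G} (h : H ≤ Subgroup.normalizer (P : Set G)) :
    H ≤ Subgroup.normalizer ((Subgroup.centralizer (P : Set G) : Subgroup G) : Set G) := by
  intro x hx
  rw [mem_normalizer_iff_cj, cj_centralizer, mem_normalizer_iff_cj.mp (h hx)]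

theorem le_normalizer_inf {H P Q : Subgroup G} (hP : H ≤ Subgroup.normalizer (P : Set G))
    (hQ : H ≤ Subgroup.normalizer (Q : Set G)) :
    H ≤ Subgroup.normalizer ((P ⊓ Q : Subgroup G) : Set G) := by
  intro x hx
  rw [mem_normalizer_iff_cj, cj_inf, mem_normalizer_iff_cj.mp (hP hx),
    mem_normalizer_iff_cj.mp (hQ hx)]

section

variable [Finite G] {p : ℕ} [Fact p.Prime]

/-- `O_p(H)` lies in every Sylow `p`-subgroup of `H`. -/
theorem pCoreOf_le_of_sylow {H T : Subgroup G} (hTH : T ≤ H) (hT : IsPGroup p T)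
    (hidx : ¬ p ∣ T.relIndex H) : Cfsg.pCoreOf p H ≤ T := by
  obtain ⟨m, hm, hle⟩ := exists_cj_le_of_relIndex hTH hT hidx (pCoreOf_le (p := p) H)
    (isPGroup_pCoreOf (p := p) H)
  rwa [mem_normalizer_iff_cj.mp (le_normalizer_pCoreOf (p := p) H hm)] at hle

/-- **Step 1** (Frattini argument) in the final configuration: a normal subgroup `C` of `H`
normalizing `A` meets `T` inside `O_p(H)`. -/
theorem inf_le_pCoreOf {H T A C : Subgroup G} (hTH : T ≤ H) (hT : IsPGroup p T)
    (hidx : ¬ p ∣ T.relIndex H)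
    (hTA : T ≤ Subgroup.normalizer (A : Set G))
    (hmax : ∀ K : Subgroup G, T ≤ K → K ≤ H → K ≠ H → K ≤ Subgroup.normalizer (A : Set G))
    (hHA : ¬ H ≤ Subgroup.normalizer (A : Set G))
    (hCH : C ≤ H) (hHC : H ≤ Subgroup.normalizer (C : Set G))
    (hCA : C ≤ Subgroup.normalizer (A : Set G)) :
    T ⊓ C ≤ Cfsg.pCoreOf p H := by
  have hDp : IsPGroup p ↥(T ⊓ C) := hT.to_le inf_le_left
  have hDH : T ⊓ C ≤ H := inf_le_left.trans hTH
  have hTN : T ≤ Subgroup.normalizer ((T ⊓ C : Subgroup G) : Set G) :=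
    le_normalizer_inf Subgroup.le_normalizer (hTH.trans hHC)
  apply le_pCoreOf hDH _ hDp
  by_contra hHD
  have hK := hmax (H ⊓ Subgroup.normalizer ((T ⊓ C : Subgroup G) : Set G)) (le_inf hTH hTN)
    inf_le_left (by
      intro heq
      apply hHD
      rw [← heq]; exact inf_le_right)
  apply hHA
  intro h hh
  -- `T` is a Sylow subgroup of `T ⊔ C`
  have hL : T ⊔ C ≤ H := sup_le hTH hCH
  have hidxL : ¬ p ∣ T.relIndex (T ⊔ C) := by
    intro hdvd
    apply hidx
    rw [← Subgroup.relIndex_mul_relIndex T (T ⊔ C) H le_sup_left hL]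
    exact Dvd.dvd.mul_right hdvd _
  have h1 : cj h (T ⊓ C) ≤ T ⊔ C := by
    have : cj h (T ⊓ C) ≤ cj h C := cj_mono inf_le_right
    rw [mem_normalizer_iff_cj.mp (hHC hh)] at this
    exact this.trans le_sup_right
  obtain ⟨m, hm, hmle⟩ := exists_cj_le_of_relIndex (le_sup_left : T ≤ T ⊔ C) hT hidxL h1
    (isPGroup_cj hDp)
  rw [← cj_mul] at hmle
  have hmH : m ∈ H := hL hm
  have h2 : cj (m * h) (T ⊓ C) ≤ C := by
    have : cj (m * h) (T ⊓ C) ≤ cj (m * h) C := cj_mono inf_le_right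
    rwa [mem_normalizer_iff_cj.mp (hHC (H.mul_mem hmH hh))] at this
  have h3 : m * h ∈ Subgroup.normalizer ((T ⊓ C : Subgroup G) : Set G) :=
    mem_normalizer_of_cj_le (le_inf hmle h2)
  have h4 : m * h ∈ Subgroup.normalizer (A : Set G) := hK ⟨H.mul_mem hmH hh, h3⟩
  have h5 : m ∈ Subgroup.normalizer (A : Set G) := (sup_le hTA hCA) hm
  have : h = m⁻¹ * (m * h) := by group
  rw [this]
  exact Subgroup.mul_mem _ (Subgroup.inv_mem _ h5) h4

/-- An element of `N_H(⟨x⟩)` centralizes `x`, when `N_H(W(T))` centralizes `x`. -/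
theorem conj_eq_of_mem_normalizer_zpowers (W : Subgroup G → Subgroup G)
    (hW : Cfsg.IsConjugacyFunctor p W) {H T : Subgroup G} (hTH : T ≤ H) (hT : IsPGroup p T)
    (hidx : ¬ p ∣ T.relIndex H) (x : G)
    (hx : ∀ y ∈ H ⊓ Subgroup.normalizer ((W T : Subgroup G) : Set G), y * x = x * y)
    (h : G) (hh : h ∈ H) (hhx : h ∈ Subgroup.normalizer ((Subgroup.zpowers x : Subgroup G) : Set G)) :
    h * x * h⁻¹ = x := by
  have hNW : Subgroup.normalizer (T : Set G) ≤ Subgroup.normalizer ((W T : Subgroup G) : Set G) :=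
    Cfsg.Agent.S1963.normalizer_le_normalizer_W W hW hT
  have hTx : ∀ t ∈ T, t * x = x * t := fun t ht => hx t ⟨hTH ht, hNW (Subgroup.le_normalizer ht)⟩
  -- `C = C_H(x)`
  set C : Subgroup G := H ⊓ Subgroup.centralizer ({x} : Set G) with hC
  have hTC : T ≤ C := fun t ht =>
    ⟨hTH ht, Subgroup.mem_centralizer_singleton_iff.mpr (hTx t ht)⟩
  have hidxC : ¬ p ∣ T.relIndex C := by
    intro hdvd
    apply hidx
    rw [← Subgroup.relIndex_mul_relIndex T C H hTC inf_le_left]
    exact Dvd.dvd.mul_right hdvd _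
  -- `x` is a power of `h x h⁻¹`
  have hxpow : x ∈ Subgroup.zpowers (h * x * h⁻¹) := by
    have h1 : cj h (Subgroup.zpowers x) = Subgroup.zpowers x := mem_normalizer_iff_cj.mp hhx
    have h2 : cj h (Subgroup.zpowers x) = Subgroup.zpowers (h * x * h⁻¹) := by
      unfold cj
      rw [MonoidHom.map_zpowers]
      simp
    rw [← h2, h1]
    exact Subgroup.mem_zpowers x
  have h1 : cj h T ≤ C := by
    intro y hy
    rw [mem_cj] at hy
    refine Subgroup.mem_inf.mpr ⟨?_, ?_⟩
    · have : y = h * (h⁻¹ * y * h) * h⁻¹ := by group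
      rw [this]
      exact H.mul_mem (H.mul_mem hh (hTH hy)) (H.inv_mem hh)
    · rw [Subgroup.mem_centralizer_singleton_iff]
      obtain ⟨k, hk⟩ := Subgroup.mem_zpowers_iff.mp hxpow
      have h3 : y * (h * x * h⁻¹) = (h * x * h⁻¹) * y := by
        have := hTx _ hy
        calc y * (h * x * h⁻¹) = h * ((h⁻¹ * y * h) * x) * h⁻¹ := by group
          _ = h * (x * (h⁻¹ * y * h)) * h⁻¹ := by rw [this]
          _ = (h * x * h⁻¹) * y := by group
      rw [← hk]
      exact (Commute.zpow_right h3 k).eq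
  obtain ⟨m, hm, hmle⟩ := exists_cj_le_of_relIndex hTC hT hidxC h1 (isPGroup_cj hT)
  rw [← cj_mul] at hmle
  have h2 : m * h ∈ Subgroup.normalizer (T : Set G) := mem_normalizer_of_cj_le hmle
  have h3 := hx (m * h) ⟨H.mul_mem hm.1 hh, hNW h2⟩
  have h4 : m * x = x * m := Subgroup.mem_centralizer_singleton_iff.mp hm.2
  calc h * x * h⁻¹ = m⁻¹ * ((m * h) * x) * h⁻¹ := by group
    _ = m⁻¹ * (x * (m * h)) * h⁻¹ := by rw [h3]
    _ = m⁻¹ * (x * m) := by group
    _ = m⁻¹ * (m * x) := by rw [h4]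
    _ = x := by group

end

end Cfsg.Agent.Lib.Helper72_WCFinal
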