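import Mathlib
import Cfsg.Agent.Lib.Helper72_WCFinal
import Cfsg.Agent.Lib.Helper72_EngelEnd

/-!
Helper library (helper72): Glauberman's weak closure theorem for a conjugacy functor `W` under the
Engel hypothesis on chief factors inside `Z(O_p(H))` (general form, for every pair `T ≤ H`).
-/

set_option autoImplicit false

namespace Cfsg.Agent.Lib.Helper72_WCEngel

open Cfsg Cfsg.Agent.Lib.Helper33_Conj Cfsg.Agent.Lib.Helper33_Alperin
open Cfsg.Agent.Lib.Helper47_SubAPI Cfsg.Agent.Lib.Helper72_WCFinal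
open Cfsg.Agent.Lib.Helper72_EngelEnd

variable {G : Type*} [Group G]

theorem map_iterCommutator {G' : Type*} [Group G'] (f : G →* G') (A B : Subgroup G) (i : ℕ) :
    (Cfsg.iterCommutator A B i).map f = Cfsg.iterCommutator (A.map f) (B.map f) i := by
  induction i with
  | zero => rfl
  | succ i ih =>
    show (⁅Cfsg.iterCommutator A B i, B⁆).map f = ⁅Cfsg.iterCommutator (A.map f) (B.map f) i, B.map f⁆
    rw [Subgroup.map_commutator, ih]

variable [Finite G] {p : ℕ} [Fact p.Prime]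

/-- the final configuration under the Engel hypothesis -/
theorem final_engel (W : Subgroup G → Subgroup G)
    (hloc : ∀ (H T : Subgroup G), T ≤ H → IsPGroup p ↥T → ¬ p ∣ (T).relIndex (H) → ¬ H ≤ Subgroup.normalizer ((W T : Subgroup G) : Set G) → ∃ g : G, g ∈ T ∧ g ∉ Cfsg.pCoreOf p H ∧ ∀ U V : Subgroup ↥H, Cfsg.IsChiefFactor U V → U.map H.subtype ≤ Cfsg.pCoreOf p H ⊓ Subgroup.centralizer ((Cfsg.pCoreOf p H : Subgroup G) : Set G) → Cfsg.iterCommutator (U.map H.subtype) (Subgroup.zpowers g) (p - 1) ≤ V.map H.subtype)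
    (H T A : Subgroup G) (hTH : T ≤ H) (hT : IsPGroup p ↥T) (hidx : ¬ p ∣ T.relIndex H)
    (hAZ : A ≤ T ⊓ Subgroup.centralizer (T : Set G))
    (hE : ∀ h ∈ H ⊓ Subgroup.normalizer (A : Set G), ∀ a ∈ A, h * a * h⁻¹ = a)
    (hAP : A ≤ Cfsg.pCoreOf p H)
    (hAN : H ⊓ Subgroup.normalizer ((W T : Subgroup G) : Set G) ≤ Subgroup.normalizer (A : Set G))
    (hmax : ∀ K : Subgroup G, T ≤ K → K ≤ H → K ≠ H → K ≤ Subgroup.normalizer (A : Set G)) :
    H ≤ Subgroup.normalizer (A : Set G) := by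
  by_contra hHA
  have hnW : ¬ H ≤ Subgroup.normalizer ((W T : Subgroup G) : Set G) := fun h =>
    hHA (fun x hx => hAN ⟨hx, h hx⟩)
  obtain ⟨g, hgT, hgP, hEng⟩ := hloc H T hTH hT hidx hnW
  obtain ⟨P, hP⟩ : ∃ P : Subgroup G, P = Cfsg.pCoreOf p H := ⟨_, rfl⟩
  rw [← hP] at hgP hEng hAP
  have hPT : P ≤ T := hP ▸ pCoreOf_le_of_sylow hTH hT hidx
  have hPH : P ≤ H := hPT.trans hTH
  have hHP : H ≤ Subgroup.normalizer (P : Set G) := hP ▸ le_normalizer_pCoreOf (p := p) H
  obtain ⟨B, hB⟩ : ∃ B : Subgroup G, B = P ⊓ Subgroup.centralizer (P : Set G) := ⟨_, rfl⟩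
  rw [← hB] at hEng
  have hBH : B ≤ H := hB ▸ inf_le_left.trans hPH
  have hHB : H ≤ Subgroup.normalizer (B : Set G) :=
    hB ▸ le_normalizer_inf hHP (le_normalizer_centralizer hHP)
  have hBcomm : ∀ a ∈ B, ∀ b ∈ B, a * b = b * a := by
    intro a ha b hb
    rw [hB] at ha hb
    exact (Subgroup.mem_centralizer_iff.mp hb.2 a ha.1)
  have hBp : IsPGroup p B := (hT.to_le hPT).to_le (hB ▸ inf_le_left)
  have hAB : A ≤ B := by
    intro a ha
    rw [hB]
    exact Subgroup.mem_inf.mpr ⟨hAP ha,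
      Subgroup.centralizer_le (by exact_mod_cast hPT) (hAZ ha).2⟩
  have hTA : T ≤ Subgroup.normalizer (A : Set G) := by
    refine le_trans ?_ (Subgroup.centralizer_le_normalizer (A : Set G))
    exact Subgroup.le_centralizer_iff.mp (hAZ.trans inf_le_right)
  -- pass to the group `↥H`
  set T' : Subgroup H := T.subgroupOf H with hT'
  set M' : Subgroup H := (Subgroup.normalizer (A : Set G)).subgroupOf H with hM'
  set B' : Subgroup H := B.subgroupOf H with hB'
  have hT'p : IsPGroup p T' := hT.comap_subtype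
  have hidx' : ¬ p ∣ T'.index := hidx
  have hTM' : T' ≤ M' := by
    intro t ht
    rw [hM', Subgroup.mem_subgroupOf]
    exact hTA (Subgroup.mem_subgroupOf.mp ht)
  have hmax' : ∀ K' : Subgroup H, T' ≤ K' → K' ≠ ⊤ → K' ≤ M' := by
    intro K' hTK' hK'ne
    have h1 : T ≤ K'.map H.subtype := by
      intro t ht
      exact ⟨⟨t, hTH ht⟩, hTK' (Subgroup.mem_subgroupOf.mpr ht), rfl⟩
    have h2 : K'.map H.subtype ≤ H := Subgroup.map_subtype_le K'
    have h3 : K'.map H.subtype ≠ H := by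
      intro heq
      apply hK'ne
      rw [eq_top_iff]
      intro k _
      have : (k : G) ∈ K'.map H.subtype := by rw [heq]; exact k.2
      obtain ⟨k', hk', hkk'⟩ := this
      have : k' = k := Subtype.ext hkk'
      rwa [this] at hk'
    have h4 := hmax _ h1 h2 h3
    intro k hk
    rw [hM', Subgroup.mem_subgroupOf]
    exact h4 (Subgroup.mem_map_of_mem _ hk)
  have hB'c : ∀ a ∈ B', ∀ b ∈ B', a * b = b * a := by
    intro a ha b hb
    exact Subtype.ext (hBcomm a (Subgroup.mem_subgroupOf.mp ha) b (Subgroup.mem_subgroupOf.mp hb))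
  have hB'p : IsPGroup p B' := hBp.comap_subtype
  have hB'n : B'.Normal := (Subgroup.normal_subgroupOf_iff_le_normalizer hBH).mpr hHB
  have hgP' : (⟨g, hTH hgT⟩ : H) ∉ Cfsg.pCore p H := by
    intro hmem
    apply hgP
    rw [hP]
    exact ⟨⟨g, hTH hgT⟩, hmem, rfl⟩
  have hEng' : ∀ U V : Subgroup H, Cfsg.IsChiefFactor U V → U ≤ B' →
      Cfsg.iterCommutator U (Subgroup.zpowers (⟨g, hTH hgT⟩ : H)) (p - 1) ≤ V := by
    intro U V hUV hUB
    have h1 : U.map H.subtype ≤ B := by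
      rintro _ ⟨u, hu, rfl⟩
      exact Subgroup.mem_subgroupOf.mp (hUB hu)
    have h2 := hEng U V hUV h1
    have h3 : (Subgroup.zpowers (⟨g, hTH hgT⟩ : H)).map H.subtype = Subgroup.zpowers g := by
      rw [MonoidHom.map_zpowers]
      rfl
    rw [← h3, ← map_iterCommutator] at h2
    exact (Subgroup.map_le_map_iff_of_injective H.subtype_injective).mp h2
  have key := engel_central T' M' B' (⟨g, hTH hgT⟩ : H) hT'p hidx' hTM' hmax' hB'c hB'p
    (Subgroup.mem_subgroupOf.mpr hgT) hgP' hEng' _ B' rfl hB'n le_rfl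
  apply hHA
  refine le_trans ?_ (Subgroup.centralizer_le_normalizer (A : Set G))
  intro h hh
  rw [Subgroup.mem_centralizer_iff]
  intro a ha
  have h1 := key (⟨a, hBH (hAB ha)⟩ : H) (Subgroup.mem_subgroupOf.mpr (hAB ha))
    (by
      intro m hm
      apply Subtype.ext
      exact hE (m : G) ⟨m.2, Subgroup.mem_subgroupOf.mp hm⟩ a ha)
    (⟨h, hh⟩ : H)
  have h2 : h * a * h⁻¹ = a := congrArg Subtype.val h1
  calc a * h = (h * a * h⁻¹) * h := by rw [h2]
    _ = h * a := by group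

/-- **Glauberman's weak closure theorem, Engel form**, for every pair `T ≤ H`. -/
theorem engel_weakly_closed (W : Subgroup G → Subgroup G) (hW : Cfsg.IsConjugacyFunctor p W)
    (hWZ : ∀ P : Subgroup G, IsPGroup p ↥P → P ⊓ Subgroup.centralizer ((P : Subgroup G) : Set G) ≤ W P)
    (hloc : ∀ (H T : Subgroup G), T ≤ H → IsPGroup p ↥T → ¬ p ∣ (T).relIndex (H) → ¬ H ≤ Subgroup.normalizer ((W T : Subgroup G) : Set G) → ∃ g : G, g ∈ T ∧ g ∉ Cfsg.pCoreOf p H ∧ ∀ U V : Subgroup ↥H, Cfsg.IsChiefFactor U V → U.map H.subtype ≤ Cfsg.pCoreOf p H ⊓ Subgroup.centralizer ((Cfsg.pCoreOf p H : Subgroup G) : Set G) → Cfsg.iterCommutator (U.map H.subtype) (Subgroup.zpowers g) (p - 1) ≤ V.map H.subtype)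
    (H T : Subgroup G) (hTH : T ≤ H) (hT : IsPGroup p ↥T) (hidx : ¬ p ∣ T.relIndex H) :
    ∀ x ∈ T ⊓ Subgroup.centralizer ((H ⊓ Subgroup.normalizer ((W T : Subgroup G) : Set G) : Subgroup G) : Set G),
      ∀ h ∈ H, h * x * h⁻¹ ∈ T → h * x * h⁻¹ = x := by
  intro x hx h hh hhx
  have key := Cfsg.Agent.Lib.Helper72_WCRed.red W hW hWZ
    (fun T => T ⊓ Subgroup.centralizer (T : Set G))
    (fun T _ => le_rfl)
    (fun T T' _ h1 h2 => le_inf h2 (inf_le_right.trans (Subgroup.centralizer_le (by exact_mod_cast h1))))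
    (fun H A => ∀ h ∈ H ⊓ Subgroup.normalizer (A : Set G), ∀ a ∈ A, h * a * h⁻¹ = a)
    (fun H H' A hH'H hE h hh a ha => hE h ⟨hH'H hh.1, hh.2⟩ a ha)
    (fun H T A hTH hT hidx hAF hE hAP hAN hmax =>
      final_engel W hloc H T A hTH hT hidx hAF hE hAP hAN hmax)
  have hNW : Subgroup.normalizer (T : Set G) ≤ Subgroup.normalizer ((W T : Subgroup G) : Set G) :=
    Cfsg.Agent.S1963.normalizer_le_normalizer_W W hW hT
  have hcomm : ∀ y ∈ H ⊓ Subgroup.normalizer ((W T : Subgroup G) : Set G), y * x = x * y :=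
    fun y hy => Subgroup.mem_centralizer_iff.mp hx.2 y hy
  have hxZ : x ∈ T ⊓ Subgroup.centralizer (T : Set G) := by
    refine Subgroup.mem_inf.mpr ⟨hx.1, ?_⟩
    rw [Subgroup.mem_centralizer_iff]
    intro t ht
    exact hcomm t ⟨hTH ht, hNW (Subgroup.le_normalizer ht)⟩
  have hAF : Subgroup.zpowers x ≤ T ⊓ Subgroup.centralizer (T : Set G) := by
    rw [Subgroup.zpowers_le]; exact hxZ
  have hE : ∀ h ∈ H ⊓ Subgroup.normalizer ((Subgroup.zpowers x : Subgroup G) : Set G),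
      ∀ a ∈ Subgroup.zpowers x, h * a * h⁻¹ = a := by
    intro k hk a ha
    have h1 := conj_eq_of_mem_normalizer_zpowers W hW hTH hT hidx x hcomm k hk.1 hk.2
    obtain ⟨i, rfl⟩ := Subgroup.mem_zpowers_iff.mp ha
    have h2 : k * x = x * k := by
      calc k * x = (k * x * k⁻¹) * k := by group
        _ = x * k := by rw [h1]
    have h3 : Commute k (x ^ i) := Commute.zpow_right h2 i
    calc k * x ^ i * k⁻¹ = (x ^ i * k) * k⁻¹ := by rw [h3.eq]
      _ = x ^ i := by group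
  have hAN : H ⊓ Subgroup.normalizer ((W T : Subgroup G) : Set G) ≤
      Subgroup.normalizer ((Subgroup.zpowers x : Subgroup G) : Set G) := by
    intro y hy
    refine (Subgroup.centralizer_le_normalizer _) ?_
    rw [Subgroup.mem_centralizer_iff]
    intro z hz
    obtain ⟨k, rfl⟩ := Subgroup.mem_zpowers_iff.mp hz
    have : Commute y x := hcomm y hy
    exact (Commute.zpow_right this k).eq.symm
  have h0 : cj h (Subgroup.zpowers x) ≤ T := by
    rw [cj_zpowers, Subgroup.zpowers_le]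
    exact hhx
  have h1 := key H T (Subgroup.zpowers x) hTH hT hidx hAF hE hAN h hh h0
  exact hE h ⟨hh, mem_normalizer_iff_cj.mpr h1⟩ x (Subgroup.mem_zpowers x)

end Cfsg.Agent.Lib.Helper72_WCEngel
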