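import Mathlib
import Cfsg.Prelude.Def_ConjugacyFunctors
import Cfsg.Prelude.Def_PLocal
import Cfsg.Agent.S1975
import Cfsg.Agent.S1978
import Cfsg.Agent.S1979
import Cfsg.Agent.Lib.Helper34_NPC
import Cfsg.Agent.Lib.Helper72_WCEngel
import Cfsg.Agent.Lib.Helper49_CharP
import Cfsg.Prelude.Def_Amalgam

set_option autoImplicit false
open Cfsg

/-!
# The K-infinity subgroups (Glauberman)

* `kInfLower`, `kInfUpper` are isomorphism-invariant `p`-group functors.
* The key induction: if `A ≤ T` are normal subgroups of the `p`-group `P`, `A` of class at most two with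
  `[T, A] ≤ Z(A)`, and every element of `P` acting "cubically on `A` and quadratically on `Z(A)`" lies in `T`,
  then every term of nonnegative index of the K-sequence of `P` lies between `A` and `T`.
-/

namespace Cfsg.Agent.Lib.Helper54_KInf

universe u

/-! ### Isomorphism invariance -/

section Iso

variable {P Q : Type*} [Group P] [Group Q]

theorem map_sSup_eq (e : P ≃* Q) (F : Set (Subgroup P)) :
    (sSup F).map e.toMonoidHom = sSup ((fun B : Subgroup P => B.map e.toMonoidHom) '' F) := by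
  rw [sSup_image, sSup_eq_iSup, Subgroup.map_iSup]
  congr 1
  funext B
  rw [Subgroup.map_iSup]

theorem map_comap_equiv (e : P ≃* Q) (B : Subgroup Q) :
    (B.comap e.toMonoidHom).map e.toMonoidHom = B :=
  Subgroup.map_comap_eq_self_of_surjective e.surjective B

theorem upper_map_eq (e : P ≃* Q) (R : Subgroup P) :
    Cfsg.kUpperStarFamily (R.map e.toMonoidHom) =
      (fun B : Subgroup P => B.map e.toMonoidHom) '' Cfsg.kUpperStarFamily R := by
  ext B
  constructor
  · intro hB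
    refine ⟨B.comap e.toMonoidHom, ?_, map_comap_equiv e B⟩
    rw [← Cfsg.Agent.S1979.upper_map_iff (f := e.toMonoidHom) e.injective, map_comap_equiv]
    exact hB
  · rintro ⟨B', hB', rfl⟩
    exact (Cfsg.Agent.S1979.upper_map_iff (f := e.toMonoidHom) e.injective R B').mpr hB'

theorem lower_map_eq (e : P ≃* Q) (R : Subgroup P) :
    Cfsg.kLowerStarFamily (R.map e.toMonoidHom) =
      (fun B : Subgroup P => B.map e.toMonoidHom) '' Cfsg.kLowerStarFamily R := by
  ext B
  constructor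
  · intro hB
    refine ⟨B.comap e.toMonoidHom, ?_, map_comap_equiv e B⟩
    rw [← Cfsg.Agent.S1979.lower_map_iff (f := e.toMonoidHom) e.injective, map_comap_equiv]
    exact hB
  · rintro ⟨B', hB', rfl⟩
    exact (Cfsg.Agent.S1979.lower_map_iff (f := e.toMonoidHom) e.injective R B').mpr hB'

theorem kSeqOdd_map (e : P ≃* Q) (n : ℕ) :
    (Cfsg.kSeqOdd P n).map e.toMonoidHom = Cfsg.kSeqOdd Q n := by
  induction n with
  | zero =>
    show (⊤ : Subgroup P).map e.toMonoidHom = ⊤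
    exact Subgroup.map_top_of_surjective _ e.surjective
  | succ n ih =>
    show (sSup (Cfsg.kUpperStarFamily (sSup (Cfsg.kLowerStarFamily (Cfsg.kSeqOdd P n))))).map
        e.toMonoidHom =
      sSup (Cfsg.kUpperStarFamily (sSup (Cfsg.kLowerStarFamily (Cfsg.kSeqOdd Q n))))
    rw [← ih, lower_map_eq, ← map_sSup_eq, upper_map_eq, ← map_sSup_eq]

theorem kSeqEven_map (e : P ≃* Q) (n : ℕ) :
    (Cfsg.kSeqEven P n).map e.toMonoidHom = Cfsg.kSeqEven Q n := by
  show (sSup (Cfsg.kLowerStarFamily (Cfsg.kSeqOdd P n))).map e.toMonoidHom =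
    sSup (Cfsg.kLowerStarFamily (Cfsg.kSeqOdd Q n))
  rw [← kSeqOdd_map e n, lower_map_eq, ← map_sSup_eq]

theorem kInfLower_map (e : P ≃* Q) :
    (Cfsg.kInfLower P).map e.toMonoidHom = Cfsg.kInfLower Q := by
  unfold Cfsg.kInfLower
  rw [Subgroup.map_iSup]
  congr 1
  funext n
  exact kSeqEven_map e n

theorem kInfUpper_map (e : P ≃* Q) :
    (Cfsg.kInfUpper P).map e.toMonoidHom = Cfsg.kInfUpper Q := by
  unfold Cfsg.kInfUpper
  rw [Subgroup.map_iInf _ e.injective]
  congr 1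
  funext n
  exact kSeqOdd_map e n

end Iso

theorem isCharPFunctor_kInfLower (p : ℕ) [Fact p.Prime] :
    Cfsg.IsCharPFunctor.{u} p (fun (Q : Type u) [Group Q] => Cfsg.kInfLower Q) := by
  refine ⟨?_, ?_⟩
  · intro Q _ _ hQ hnt h
    have h1 := Cfsg.Agent.S1978.result hQ
    have hc : Subgroup.center Q ≤ Cfsg.kInfLower Q := h1.2.1.trans h1.1
    have hcn : Nontrivial (Subgroup.center Q) := hQ.center_nontrivial
    have h' : Cfsg.kInfLower Q = ⊥ := h
    rw [h', le_bot_iff] at hc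
    rw [Subgroup.nontrivial_iff_ne_bot] at hcn
    exact hcn hc
  · intro Q R _ _ _ _ φ
    exact kInfLower_map φ

theorem isCharPFunctor_kInfUpper (p : ℕ) [Fact p.Prime] :
    Cfsg.IsCharPFunctor.{u} p (fun (Q : Type u) [Group Q] => Cfsg.kInfUpper Q) := by
  refine ⟨?_, ?_⟩
  · intro Q _ _ hQ hnt h
    have h1 := Cfsg.Agent.S1978.result hQ
    have hc : Subgroup.center Q ≤ Cfsg.kInfUpper Q := h1.2.2.2.trans h1.2.2.1
    have hcn : Nontrivial (Subgroup.center Q) := hQ.center_nontrivial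
    have h' : Cfsg.kInfUpper Q = ⊥ := h
    rw [h', le_bot_iff] at hc
    rw [Subgroup.nontrivial_iff_ne_bot] at hcn
    exact hcn hc
  · intro Q R _ _ _ _ φ
    exact kInfUpper_map φ

/-! ### The key induction inside a `p`-group -/

section Key

variable {P : Type*} [Group P]

/-- abbreviation: the centre of the subgroup `A`, as a subgroup of the ambient group -/
abbrev ZZ (A : Subgroup P) : Subgroup P := A ⊓ Subgroup.centralizer (A : Set P)

theorem ZZ_comm_eq_bot (A : Subgroup P) : ⁅ZZ A, A⁆ = ⊥ :=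
  Subgroup.commutator_eq_bot_iff_le_centralizer.mpr inf_le_right

theorem classTwo_comm_eq_bot {B : Subgroup P} (hB : B ∈ Cfsg.classTwoSubgroups P) :
    ⁅⁅B, B⁆, B⁆ = ⊥ :=
  Subgroup.commutator_eq_bot_iff_le_centralizer.mpr hB

theorem ZZ_self_comm_eq_bot (A : Subgroup P) : ⁅ZZ A, ZZ A⁆ = ⊥ := by
  rw [eq_bot_iff, ← ZZ_comm_eq_bot A]
  exact Subgroup.commutator_mono le_rfl inf_le_left

theorem ZZ_mem_classTwo (A : Subgroup P) : ZZ A ∈ Cfsg.classTwoSubgroups P := by
  show ⁅ZZ A, ZZ A⁆ ≤ _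
  rw [ZZ_self_comm_eq_bot]
  exact bot_le

variable (T A : Subgroup P)

/-- The standing hypotheses of the key induction. -/
structure Setup : Prop where
  hAT : A ≤ T
  hAn : A.Normal
  hA2 : A ∈ Cfsg.classTwoSubgroups P
  hTA : ⁅T, A⁆ ≤ ZZ A
  hstar : ∀ g : P, Cfsg.iterCommutator A (Subgroup.zpowers g) 3 = ⊥ →
    ⁅⁅ZZ A, Subgroup.zpowers g⁆, Subgroup.zpowers g⁆ = ⊥ → g ∈ T

variable {T A}

theorem Setup.le_T_of_forall (h : Setup T A) {X : Subgroup P}
    (h3 : Cfsg.iterCommutator A X 3 = ⊥) (h2 : ⁅⁅ZZ A, X⁆, X⁆ = ⊥) : X ≤ T := by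
  intro g hg
  have hgX : Subgroup.zpowers g ≤ X := (Subgroup.zpowers_le).mpr hg
  apply h.hstar g
  · rw [eq_bot_iff, ← h3]
    show ⁅⁅⁅A, Subgroup.zpowers g⁆, Subgroup.zpowers g⁆, Subgroup.zpowers g⁆ ≤ ⁅⁅⁅A, X⁆, X⁆, X⁆
    exact Subgroup.commutator_mono (Subgroup.commutator_mono
      (Subgroup.commutator_mono le_rfl hgX) hgX) hgX
  · rw [eq_bot_iff, ← h2]
    exact Subgroup.commutator_mono (Subgroup.commutator_mono le_rfl hgX) hgX

theorem Setup.ZZ_normal (h : Setup T A) : (ZZ A).Normal := by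
  have := h.hAn
  infer_instance

/-- (C1) `A` lies in every lower-star family. -/
theorem Setup.mem_lower (h : Setup T A) (Q : Subgroup P) : A ∈ Cfsg.kLowerStarFamily Q := by
  have := h.hAn
  refine ⟨h.hA2, ?_, ?_⟩
  · rw [Subgroup.normalizer_eq_top]
    exact le_top
  · intro A' hA' _ hAA' _ h5
    have h1 : ⁅A, A'⁆ ≤ A' := Subgroup.le_normalizer_iff_commutator_le_right.mp hAA'
    have hle : A' ≤ T := by
      apply h.le_T_of_forall
      · rw [eq_bot_iff, ← classTwo_comm_eq_bot hA']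
        show ⁅⁅⁅A, A'⁆, A'⁆, A'⁆ ≤ ⁅⁅A', A'⁆, A'⁆
        exact Subgroup.commutator_mono (Subgroup.commutator_mono h1 le_rfl) le_rfl
      · exact h5
    calc ⁅A, A'⁆ ≤ ⁅A, T⁆ := Subgroup.commutator_mono le_rfl hle
      _ = ⁅T, A⁆ := Subgroup.commutator_comm _ _
      _ ≤ ZZ A := h.hTA

/-- (C2) `A` lies in the upper-star family of every subgroup of `T`. -/
theorem Setup.mem_upper (h : Setup T A) {Q : Subgroup P} (hQ : Q ≤ T) :
    A ∈ Cfsg.kUpperStarFamily Q := by
  refine ⟨h.hA2, ?_⟩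
  calc ⁅A, Q⁆ ≤ ⁅A, T⁆ := Subgroup.commutator_mono le_rfl hQ
    _ = ⁅T, A⁆ := Subgroup.commutator_comm _ _
    _ ≤ ZZ A := h.hTA

/-- (C3) members of the upper-star family of a subgroup containing `A` lie in `T`. -/
theorem Setup.upper_le (h : Setup T A) {Q B : Subgroup P} (hAQ : A ≤ Q)
    (hB : B ∈ Cfsg.kUpperStarFamily Q) : B ≤ T := by
  obtain ⟨_, hBQ⟩ := hB
  have h1 : ⁅A, B⁆ ≤ ZZ B := by
    rw [Subgroup.commutator_comm]
    exact (Subgroup.commutator_mono le_rfl hAQ).trans hBQ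
  have h2 : ⁅⁅A, B⁆, B⁆ = ⊥ := by
    rw [eq_bot_iff, ← ZZ_comm_eq_bot B]
    exact Subgroup.commutator_mono h1 le_rfl
  apply h.le_T_of_forall
  · show ⁅⁅⁅A, B⁆, B⁆, B⁆ = ⊥
    rw [h2, Subgroup.commutator_bot_left]
  · rw [eq_bot_iff, ← h2]
    exact Subgroup.commutator_mono (Subgroup.commutator_mono inf_le_left le_rfl) le_rfl

/-- (C4) members of the lower-star family of a subgroup containing `A` lie in `T`. -/
theorem Setup.lower_le (h : Setup T A) {Q B : Subgroup P} (hAQ : A ≤ Q)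
    (hB : B ∈ Cfsg.kLowerStarFamily Q) : B ≤ T := by
  obtain ⟨hB2, hQB, hprop⟩ := hB
  have := h.ZZ_normal
  have h1 : ⁅A, B⁆ ≤ B := Subgroup.le_normalizer_iff_commutator_le_right.mp (hAQ.trans hQB)
  have hZ : ⁅B, ZZ A⁆ ≤ ZZ B := by
    apply hprop (ZZ A) (ZZ_mem_classTwo A) (inf_le_left.trans hAQ)
    · rw [Subgroup.normalizer_eq_top]
      exact le_top
    · rw [ZZ_self_comm_eq_bot, Subgroup.commutator_bot_right]
    · rw [eq_bot_iff, ← ZZ_self_comm_eq_bot A]
      exact Subgroup.commutator_mono (Subgroup.commutator_le_right _ _) le_rfl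
  apply h.le_T_of_forall
  · rw [eq_bot_iff, ← classTwo_comm_eq_bot hB2]
    show ⁅⁅⁅A, B⁆, B⁆, B⁆ ≤ ⁅⁅B, B⁆, B⁆
    exact Subgroup.commutator_mono (Subgroup.commutator_mono h1 le_rfl) le_rfl
  · rw [eq_bot_iff, ← ZZ_comm_eq_bot B]
    refine Subgroup.commutator_mono ?_ le_rfl
    rw [Subgroup.commutator_comm]
    exact hZ

/-- The key induction: all terms of nonnegative index of the K-sequence lie between `A` and `T`. -/
theorem Setup.terms (h : Setup T A) (n : ℕ) :
    A ≤ Cfsg.kSeqOdd P n ∧ (A ≤ Cfsg.kSeqEven P n ∧ Cfsg.kSeqEven P n ≤ T) ∧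
      (A ≤ Cfsg.kSeqOdd P (n + 1) ∧ Cfsg.kSeqOdd P (n + 1) ≤ T) := by
  have step : ∀ n, A ≤ Cfsg.kSeqOdd P n →
      (A ≤ Cfsg.kSeqEven P n ∧ Cfsg.kSeqEven P n ≤ T) ∧
        (A ≤ Cfsg.kSeqOdd P (n + 1) ∧ Cfsg.kSeqOdd P (n + 1) ≤ T) := by
    intro n hn
    have hE : A ≤ Cfsg.kSeqEven P n ∧ Cfsg.kSeqEven P n ≤ T := by
      refine ⟨le_sSup (h.mem_lower _), sSup_le ?_⟩
      intro B hB
      exact h.lower_le hn hB
    refine ⟨hE, ?_, ?_⟩
    · show A ≤ sSup (Cfsg.kUpperStarFamily (Cfsg.kSeqEven P n))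
      exact le_sSup (h.mem_upper hE.2)
    · show sSup (Cfsg.kUpperStarFamily (Cfsg.kSeqEven P n)) ≤ T
      apply sSup_le
      intro B hB
      exact h.upper_le hE.1 hB
  induction n with
  | zero =>
    have h0 : A ≤ Cfsg.kSeqOdd P 0 := le_top
    exact ⟨h0, step 0 h0⟩
  | succ n ih => exact ⟨ih.2.2.1, step (n + 1) ih.2.2.1⟩

theorem Setup.kInf_eq [Finite P] {p : ℕ} [Fact p.Prime] (hP : IsPGroup p P) (h : Setup T A) :
    (Cfsg.kInfLower ↥T).map T.subtype = Cfsg.kInfLower P ∧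
      (Cfsg.kInfUpper ↥T).map T.subtype = Cfsg.kInfUpper P :=
  Cfsg.Agent.S1979.result hP T (fun n => ⟨(h.terms n).2.1.2, (h.terms n).2.2.2⟩)

end Key

/-! ### Inside an ambient finite group -/

section Ambient

variable {G : Type u} [Group G] [Finite G] {p : ℕ} [Fact p.Prime]

theorem le_normalizer_map_subtype' {H : Subgroup G} (N : Subgroup ↥H) [hN : N.Normal] :
    H ≤ Subgroup.normalizer ((N.map H.subtype : Subgroup G) : Set G) := by
  rw [Subgroup.le_normalizer_iff]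
  rintro h hh _ ⟨n, hn, rfl⟩
  exact ⟨⟨h, hh⟩ * n * ⟨h, hh⟩⁻¹, hN.conj_mem n hn ⟨h, hh⟩, rfl⟩

theorem le_normalizer_ZZ {H R : Subgroup G} (hHR : H ≤ Subgroup.normalizer (R : Set G)) :
    H ≤ Subgroup.normalizer ((ZZ R : Subgroup G) : Set G) := by
  rw [Subgroup.le_normalizer_iff] at hHR ⊢
  intro h hh k hk
  refine ⟨hHR h hh k hk.1, ?_⟩
  show h * k * h⁻¹ ∈ Subgroup.centralizer (R : Set G)
  rw [Subgroup.mem_centralizer_iff]
  intro r hr
  have hr' : h⁻¹ * r * h ∈ R := by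
    have := hHR h⁻¹ (H.inv_mem hh) r hr
    simpa using this
  have hk2 : k ∈ Subgroup.centralizer (R : Set G) := hk.2
  rw [Subgroup.mem_centralizer_iff] at hk2
  have e := hk2 (h⁻¹ * r * h) hr'
  calc r * (h * k * h⁻¹) = h * ((h⁻¹ * r * h) * k) * h⁻¹ := by group
    _ = h * (k * (h⁻¹ * r * h)) * h⁻¹ := by rw [e]
    _ = h * k * h⁻¹ * r := by group

/-- The key induction inside an ambient group: `S` a `p`-subgroup, `A ≤ T ≤ S`. -/
theorem inducedFunctor_eq (S T A : Subgroup G) (hS : IsPGroup p S) (hTS : T ≤ S) (hAT : A ≤ T)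
    (hSA : S ≤ Subgroup.normalizer (A : Set G))
    (hA2 : ⁅A, A⁆ ≤ Subgroup.centralizer (A : Set G))
    (hTA : ⁅T, A⁆ ≤ A ⊓ Subgroup.centralizer (A : Set G))
    (hstar : ∀ g ∈ S, Cfsg.iterCommutator A (Subgroup.zpowers g) 3 = ⊥ →
      ⁅⁅A ⊓ Subgroup.centralizer (A : Set G), Subgroup.zpowers g⁆, Subgroup.zpowers g⁆ = ⊥ →
        g ∈ T) :
    Cfsg.inducedFunctor Cfsg.kInfLower S = Cfsg.inducedFunctor Cfsg.kInfLower T ∧
      Cfsg.inducedFunctor Cfsg.kInfUpper S = Cfsg.inducedFunctor Cfsg.kInfUpper T := by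
  have hf : Function.Injective S.subtype := S.subtype_injective
  have hAS : A ≤ S := hAT.trans hTS
  have hAmap : (A.subgroupOf S).map S.subtype = A := Subgroup.map_subgroupOf_eq_of_le hAS
  have hTmap : (T.subgroupOf S).map S.subtype = T := Subgroup.map_subgroupOf_eq_of_le hTS
  have hZmap : (ZZ (A.subgroupOf S)).map S.subtype = ZZ A := by
    rw [Cfsg.Agent.S1979.map_ZZ hf, hAmap]
  have hsetup : Setup (T.subgroupOf S) (A.subgroupOf S) := by
    refine ⟨?_, ?_, ?_, ?_, ?_⟩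
    · exact Subgroup.comap_mono hAT
    · exact (Subgroup.normal_subgroupOf_iff_le_normalizer hAS).mpr hSA
    · rw [← Cfsg.Agent.S1979.classTwo_map_iff hf, hAmap]
      exact hA2
    · rw [← Cfsg.Agent.S1979.comm_le_map_iff hf, hZmap, hTmap, hAmap]
      exact hTA
    · intro g h3 h2
      show (g : G) ∈ T
      apply hstar g g.2
      · have := congrArg (Subgroup.map S.subtype) h3
        rw [Cfsg.Agent.Lib.Helper72_WCEngel.map_iterCommutator, hAmap, MonoidHom.map_zpowers,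
          Subgroup.map_bot] at this
        exact this
      · have := congrArg (Subgroup.map S.subtype) h2
        rw [Subgroup.map_commutator, Subgroup.map_commutator, hZmap, MonoidHom.map_zpowers,
          Subgroup.map_bot] at this
        exact this
  have hSP : IsPGroup p ↥S := hS
  have hT' : IsPGroup p ↥(T.subgroupOf S) := hS.to_subgroup _
  obtain ⟨hL, hU⟩ := hsetup.kInf_eq hSP
  constructor
  · have h1 := Cfsg.Agent.Lib.Helper34_NPC.inducedFunctor_map (isCharPFunctor_kInfLower p)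
      S.subtype (T.subgroupOf S) hT' (fun x _ hx => by
        apply hf
        rw [hx, map_one])
    rw [hTmap] at h1
    rw [h1]
    show (Cfsg.kInfLower ↥S).map S.subtype = _
    rw [← hL]
    rfl
  · have h1 := Cfsg.Agent.Lib.Helper34_NPC.inducedFunctor_map (isCharPFunctor_kInfUpper p)
      S.subtype (T.subgroupOf S) hT' (fun x _ hx => by
        apply hf
        rw [hx, map_one])
    rw [hTmap] at h1
    rw [h1]
    show (Cfsg.kInfUpper ↥S).map S.subtype = _
    rw [← hU]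
    rfl

/-- If `K_∞(T)` or `K^∞(T)` is not normal in `H` (`T` a Sylow `p`-subgroup of `H`), some element of `T`
outside `O_p(H)` acts quadratically on `Z(O_p(H))`. -/
theorem exists_quadratic_of_not_normal (H T : Subgroup G) (hTH : T ≤ H) (hT : IsPGroup p T)
    (hidx : ¬ p ∣ T.relIndex H)
    (hnot : ¬ H ≤ Subgroup.normalizer
        ((Cfsg.inducedFunctor Cfsg.kInfLower T : Subgroup G) : Set G) ∨
      ¬ H ≤ Subgroup.normalizer ((Cfsg.inducedFunctor Cfsg.kInfUpper T : Subgroup G) : Set G)) :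
    ∃ g : G, g ∈ T ∧ g ∉ Cfsg.pCoreOf p H ∧
      ⁅⁅Cfsg.pCoreOf p H ⊓ Subgroup.centralizer ((Cfsg.pCoreOf p H : Subgroup G) : Set G),
        Subgroup.zpowers g⁆, Subgroup.zpowers g⁆ = ⊥ := by
  by_contra hcon
  push_neg at hcon
  set R := Cfsg.pCoreOf p H with hR
  have hHR : H ≤ Subgroup.normalizer (R : Set G) := by
    have : (Cfsg.pCore p ↥H).Normal := Cfsg.Agent.Lib.Helper49_CharP.pCoreNormal p ↥H
    exact le_normalizer_map_subtype' (Cfsg.pCore p ↥H)
  have hRT : R ≤ T := by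
    have hT' : IsPGroup p ↥(T.subgroupOf H) := hT.comap_subtype
    have hidx' : ¬ p ∣ (T.subgroupOf H).index := hidx
    let Q : Sylow p ↥H := hT'.toSylow hidx'
    have h1 : Cfsg.pCore p ↥H ≤ (Q : Subgroup ↥H) :=
      Cfsg.Agent.Lib.Helper49_CharP.pCore_le_sylow Q
    have h2 : (Q : Subgroup ↥H) = T.subgroupOf H := IsPGroup.toSylow_coe hT' hidx'
    rw [h2] at h1
    have h3 := Subgroup.map_mono (f := H.subtype) h1
    rwa [Subgroup.map_subgroupOf_eq_of_le hTH] at h3
  have hRp : IsPGroup p ↥R := hT.to_le hRT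
  have hAab : ZZ R ≤ Subgroup.centralizer ((ZZ R : Subgroup G) : Set G) :=
    Subgroup.commutator_eq_bot_iff_le_centralizer.mp (ZZ_self_comm_eq_bot R)
  have hZZ : ZZ R ⊓ Subgroup.centralizer ((ZZ R : Subgroup G) : Set G) = ZZ R :=
    inf_eq_left.mpr hAab
  have hcomm : ⁅R, ZZ R⁆ = ⊥ := by
    rw [Subgroup.commutator_comm]
    exact ZZ_comm_eq_bot R
  have key := inducedFunctor_eq T R (ZZ R) hT hRT inf_le_left
    (hTH.trans (le_normalizer_ZZ hHR))
    (by rw [ZZ_self_comm_eq_bot]; exact bot_le)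
    (by rw [hcomm]; exact bot_le)
    (by
      intro g hg _ h2
      by_contra hgR
      apply hcon g hg hgR
      rw [hZZ] at h2
      exact h2)
  have hnL := Cfsg.Agent.Lib.Helper34_NPC.normalizer_le_normalizer_inducedFunctor
    (isCharPFunctor_kInfLower p) R hRp
  have hnU := Cfsg.Agent.Lib.Helper34_NPC.normalizer_le_normalizer_inducedFunctor
    (isCharPFunctor_kInfUpper p) R hRp
  rcases hnot with h | h
  · apply h
    rw [key.1]
    exact hHR.trans hnL
  · apply h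
    rw [key.2]
    exact hHR.trans hnU

end Ambient

/-! ### Glue for the conjugacy-functor statements -/

section Glue

variable {G : Type u} [Group G] [Finite G] {p : ℕ} [Fact p.Prime]

theorem isConjugacyFunctor_induced (W : ∀ (Q : Type u) [Group Q], Subgroup Q)
    (hW : Cfsg.IsCharPFunctor.{u} p W) :
    Cfsg.IsConjugacyFunctor p (Cfsg.inducedFunctor (G := G) W) := by
  intro P hP
  exact ⟨Cfsg.Agent.Lib.Helper34_NPC.inducedFunctor_le W P,
    fun hne => Cfsg.Agent.Lib.Helper34_NPC.inducedFunctor_ne_bot hW hP hne,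
    fun g => Cfsg.Agent.Lib.Helper34_NPC.inducedFunctor_conj hW P hP g⟩

theorem center_le_induced_kInfLower (P : Subgroup G) (hP : IsPGroup p ↥P) :
    P ⊓ Subgroup.centralizer ((P : Subgroup G) : Set G) ≤
      Cfsg.inducedFunctor Cfsg.kInfLower P := by
  intro x hx
  have h1 := Cfsg.Agent.S1978.result (P := ↥P) hP
  have hc : Subgroup.center ↥P ≤ Cfsg.kInfLower ↥P := h1.2.1.trans h1.1
  refine ⟨⟨x, hx.1⟩, hc ?_, rfl⟩
  rw [Subgroup.mem_center_iff]
  intro y
  apply Subtype.ext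
  have hx2 : x ∈ Subgroup.centralizer ((P : Subgroup G) : Set G) := hx.2
  rw [Subgroup.mem_centralizer_iff] at hx2
  exact hx2 y y.2

theorem center_le_induced_kInfUpper (P : Subgroup G) (hP : IsPGroup p ↥P) :
    P ⊓ Subgroup.centralizer ((P : Subgroup G) : Set G) ≤
      Cfsg.inducedFunctor Cfsg.kInfUpper P := by
  intro x hx
  have h1 := Cfsg.Agent.S1978.result (P := ↥P) hP
  have hc : Subgroup.center ↥P ≤ Cfsg.kInfUpper ↥P := h1.2.2.2.trans h1.2.2.1
  refine ⟨⟨x, hx.1⟩, hc ?_, rfl⟩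
  rw [Subgroup.mem_center_iff]
  intro y
  apply Subtype.ext
  have hx2 : x ∈ Subgroup.centralizer ((P : Subgroup G) : Set G) := hx.2
  rw [Subgroup.mem_centralizer_iff] at hx2
  exact hx2 y y.2

theorem iterCommutator_eq_bot_of_le {L : Type*} [Group L] {X Y : Subgroup L} {k n : ℕ}
    (h : Cfsg.iterCommutator X Y k = ⊥) (hkn : k ≤ n) : Cfsg.iterCommutator X Y n = ⊥ := by
  induction n, hkn using Nat.le_induction with
  | base => exact h
  | succ n _ ih =>
    show ⁅Cfsg.iterCommutator X Y n, Y⁆ = ⊥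
    rw [ih, Subgroup.commutator_bot_left]

theorem iterCommutator_mono_left {L : Type*} [Group L] {X X' Y : Subgroup L} (h : X ≤ X')
    (n : ℕ) : Cfsg.iterCommutator X Y n ≤ Cfsg.iterCommutator X' Y n := by
  induction n with
  | zero => exact h
  | succ n ih => exact Subgroup.commutator_mono ih le_rfl

end Glue

end Cfsg.Agent.Lib.Helper54_KInf
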