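import Mathlib
import Cfsg.Prelude.Def_PLocal
import Cfsg.Prelude.Def_LocalEven
import Cfsg.Prelude.Def_ConjugacyFunctors
import Cfsg.Agent.Lib.Helper54_KInf
import Cfsg.Agent.Lib.Helper11_ZJ2
import Cfsg.Agent.Lib.Helper34_PStable
import Cfsg.Agent.Lib.Helper22_Cores
import Cfsg.Agent.Lib.Helper33_Critical
import Cfsg.Agent.S1979

set_option autoImplicit false
open Cfsg

/-!
# K-infinity subgroups in p-stable groups (Glauberman)

If every section of the finite group `X` is `p`-stable in the normalizer form and `C_X(O_p(X)) ≤ O_p(X)`, then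
`K_∞(S) = K_∞(O_p(X))` and `K^∞(S) = K^∞(O_p(X))` for a Sylow `p`-subgroup `S`; in particular both are normal
in `X` (`kInf_normal`).

The new step compared with `Helper54_KInf` (elementwise hypothesis) is the case of a member `B` of a lower-star
family that does not centralize `[A, A]` (`Amb.h4`): with `D = [A, A]`, `D₀ = C_D(B)` and
`A₁ = {a ∈ A | [a, A] ≤ D₀}`, the lower-star property applies to `A₁`, so `B` is quadratic on `A₁`, and
`Z(B) ∩ A ≤ A₁` gives that `B` is quadratic on `A / A₁`.  The subgroup `A₁` is normalized by `B C_X(D)`, which is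
subnormal in `X` by `p`-stability on `D`.
-/

namespace Cfsg.Agent.Lib.Helper33_KInfStable

open Cfsg.Agent.Lib.Helper54_KInf
open scoped commutatorElement

universe u

section Step

variable {X : Type u} [Group X] [Finite X] {p : ℕ} [Fact p.Prime]

/-- the hypothesis: all sections of `X` are `p`-stable in the normalizer form -/
abbrev SecStable (p : ℕ) (X : Type u) [Group X] : Prop :=
  ∀ (K R : Subgroup X) [hR : (R.subgroupOf K).Normal], Cfsg.IsNormalizerPStable p (↥K ⧸ R.subgroupOf K)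

/-- **One step.** `V ≤ U ≤ K` with `U, V` normalized by `K`, `U` a `p`-group: there is a subgroup `L ≤ K`
normalized by `K`, containing every element of `K` acting quadratically on `U / V`, all of whose elements have a
`p`-power acting trivially on `U / V`. -/
theorem step_lemma (hst : SecStable p X) (K U V : Subgroup X) (hVK : V ≤ K) (hUK : U ≤ K)
    (hU : IsPGroup p U)
    (hKU : K ≤ Subgroup.normalizer (U : Set X)) (hKV : K ≤ Subgroup.normalizer (V : Set X)) :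
    ∃ L : Subgroup X, L ≤ K ∧ K ≤ Subgroup.normalizer (L : Set X) ∧
      (∀ x ∈ L, ∃ j : ℕ, ⁅U, Subgroup.zpowers (x ^ p ^ j)⁆ ≤ V) ∧
      ∀ g ∈ K, ⁅⁅U, Subgroup.zpowers g⁆, Subgroup.zpowers g⁆ ≤ V → g ∈ L := by
  have hVn : (V.subgroupOf K).Normal := (Subgroup.normal_subgroupOf_iff_le_normalizer hVK).mpr hKV
  have hUn : (U.subgroupOf K).Normal := (Subgroup.normal_subgroupOf_iff_le_normalizer hUK).mpr hKU
  set π := QuotientGroup.mk' (V.subgroupOf K) with hπ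
  have hπs : Function.Surjective π := QuotientGroup.mk'_surjective _
  have hker : π.ker = V.subgroupOf K := QuotientGroup.ker_mk' _
  set Pb : Subgroup (↥K ⧸ V.subgroupOf K) := (U.subgroupOf K).map π with hPb
  have hPbn : Pb.Normal := Subgroup.Normal.map hUn π hπs
  have hPbp : IsPGroup p Pb := (hU.comap_of_injective K.subtype K.subtype_injective).map π
  obtain ⟨Lb, hLbn, hCLb, ⟨k, hk⟩, hLbq⟩ :=
    Cfsg.Agent.Lib.Helper11_ZJ2.stableOn_of_isNormalizerPStable (hst K V) ⊤ Pb hPbp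
  have hcn : (Lb.comap π).Normal := Subgroup.Normal.comap hLbn π
  refine ⟨(Lb.comap π).map K.subtype, Subgroup.map_subtype_le _,
    le_normalizer_map_subtype' (Lb.comap π), ?_, ?_⟩
  · rintro _ ⟨x, hx, rfl⟩
    refine ⟨k, ?_⟩
    have hx' : π x ∈ Lb := hx
    -- `(π x)^(p^k)` centralizes `Pb`
    have hcen : (π x) ^ p ^ k ∈ Subgroup.centralizer (Pb : Set (↥K ⧸ V.subgroupOf K)) := by
      haveI : (Subgroup.centralizer (Pb : Set (↥K ⧸ V.subgroupOf K))).Normal :=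
        Subgroup.normal_centralizer
      haveI : ((Subgroup.centralizer (Pb : Set (↥K ⧸ V.subgroupOf K))).subgroupOf Lb).Normal :=
        Subgroup.Normal.subgroupOf inferInstance Lb
      have h1 := Subgroup.pow_index_mem
        ((Subgroup.centralizer (Pb : Set (↥K ⧸ V.subgroupOf K))).subgroupOf Lb) ⟨π x, hx'⟩
      have h2 : ((Subgroup.centralizer (Pb : Set (↥K ⧸ V.subgroupOf K))).subgroupOf Lb).index
          = p ^ k := hk
      rw [h2] at h1
      exact h1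
    rw [Subgroup.commutator_le]
    intro u hu z hz
    have hzK : z ∈ K := by
      have : ((x : X) ^ p ^ k) ∈ K := K.pow_mem x.2 _
      exact (Subgroup.zpowers_le.mpr this) hz
    have hπz : π ⟨z, hzK⟩ ∈ Subgroup.centralizer (Pb : Set (↥K ⧸ V.subgroupOf K)) := by
      obtain ⟨m, hm⟩ := Subgroup.mem_zpowers_iff.mp hz
      have : (⟨z, hzK⟩ : ↥K) = (x ^ p ^ k) ^ m := by
        apply Subtype.ext
        simp [← hm]
      rw [this, map_zpow, map_pow]
      exact Subgroup.zpow_mem _ hcen m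
    have hπu : π ⟨u, hUK hu⟩ ∈ Pb := ⟨⟨u, hUK hu⟩, hu, rfl⟩
    have hcomm : π (⁅(⟨u, hUK hu⟩ : ↥K), ⟨z, hzK⟩⁆) = 1 := by
      rw [map_commutatorElement]
      rw [commutatorElement_eq_one_iff_commute]
      exact ((Subgroup.mem_centralizer_iff.mp hπz) _ hπu)
    have : ⁅(⟨u, hUK hu⟩ : ↥K), ⟨z, hzK⟩⁆ ∈ V.subgroupOf K := by
      rw [← hker]; exact hcomm
    exact this
  · intro g hgK hq
    refine ⟨⟨g, hgK⟩, ?_, rfl⟩
    show π ⟨g, hgK⟩ ∈ Lb
    apply hLbq _ (Subgroup.mem_top _)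
    have h1 : ⁅⁅U.subgroupOf K, Subgroup.zpowers (⟨g, hgK⟩ : ↥K)⁆, Subgroup.zpowers (⟨g, hgK⟩ : ↥K)⁆
        ≤ V.subgroupOf K := by
      rw [← Subgroup.map_le_map_iff_of_injective K.subtype_injective, Subgroup.map_commutator,
        Subgroup.map_commutator, Subgroup.map_subgroupOf_eq_of_le hUK,
        Subgroup.map_subgroupOf_eq_of_le hVK, MonoidHom.map_zpowers]
      exact hq
    rw [hPb, ← MonoidHom.map_zpowers, ← Subgroup.map_commutator, ← Subgroup.map_commutator,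
      Subgroup.map_eq_bot_iff, hker]
    exact h1

/-- **A normal series of length two.** If `1 ≤ A₁ ≤ A ≤ K`, all normalized by `K`, `A` a `p`-group with
`C_K(A) ≤ A`, then the elements of `K` acting quadratically on `A₁` and on `A / A₁` lie in a `p`-subgroup
`R ≤ K` normalized by `K`. -/
theorem series_lemma (hst : SecStable p X) (K A₁ A : Subgroup X) (hA₁A : A₁ ≤ A) (hAK : A ≤ K)
    (hA : IsPGroup p A) (hKA₁ : K ≤ Subgroup.normalizer (A₁ : Set X))
    (hKA : K ≤ Subgroup.normalizer (A : Set X))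
    (hCA : K ⊓ Subgroup.centralizer (A : Set X) ≤ A) :
    ∃ R : Subgroup X, R ≤ K ∧ K ≤ Subgroup.normalizer (R : Set X) ∧ IsPGroup p R ∧
      ∀ g ∈ K, ⁅⁅A₁, Subgroup.zpowers g⁆, Subgroup.zpowers g⁆ = ⊥ →
        ⁅⁅A, Subgroup.zpowers g⁆, Subgroup.zpowers g⁆ ≤ A₁ → g ∈ R := by
  have hKbot : K ≤ Subgroup.normalizer ((⊥ : Subgroup X) : Set X) := by
    rw [Subgroup.normalizer_eq_top]; exact le_top
  obtain ⟨L₁, hL₁K, hKL₁, hL₁p, hL₁q⟩ := step_lemma hst K A₁ ⊥ bot_le (hA₁A.trans hAK)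
    (hA.to_le hA₁A) hKA₁ hKbot
  obtain ⟨L₂, hL₂K, hKL₂, hL₂p, hL₂q⟩ := step_lemma hst K A A₁ (hA₁A.trans hAK) hAK hA hKA hKA₁
  refine ⟨L₁ ⊓ L₂, inf_le_left.trans hL₁K, ?_, ?_, ?_⟩
  · rw [Subgroup.le_normalizer_iff] at hKL₁ hKL₂ ⊢
    intro h hh k hk
    exact ⟨hKL₁ h hh k hk.1, hKL₂ h hh k hk.2⟩
  · rintro ⟨x, hx1, hx2⟩
    obtain ⟨j₁, hj₁⟩ := hL₁p x hx1
    obtain ⟨j₂, hj₂⟩ := hL₂p x hx2
    obtain ⟨m, hm⟩ := IsPGroup.iff_card.mp (hA.to_le hA₁A)
    set y := x ^ p ^ (j₁ + j₂) with hy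
    have hy1 : y ∈ Subgroup.zpowers (x ^ p ^ j₁) := by
      refine Subgroup.mem_zpowers_iff.mpr ⟨(p ^ j₂ : ℕ), ?_⟩
      rw [zpow_natCast, ← pow_mul, ← pow_add]
    have hy2 : y ∈ Subgroup.zpowers (x ^ p ^ j₂) := by
      refine Subgroup.mem_zpowers_iff.mpr ⟨(p ^ j₁ : ℕ), ?_⟩
      rw [zpow_natCast, ← pow_mul, ← pow_add, add_comm]
    have hyK : y ∈ K := K.pow_mem (hL₁K hx1) _
    have hc1 : ∀ a ∈ A₁, ⁅a, y⁆ = 1 := by
      intro a ha
      have := hj₁ (Subgroup.commutator_mem_commutator ha hy1)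
      exact Subgroup.mem_bot.mp this
    have hc2 : ∀ a ∈ A, ⁅a, y⁆ ∈ A₁ := fun a ha =>
      hj₂ (Subgroup.commutator_mem_commutator ha hy2)
    have hcen : y ^ p ^ m ∈ Subgroup.centralizer (A : Set X) := by
      rw [Subgroup.mem_centralizer_iff]
      intro a ha
      have hd : ⁅y, a⁆ ∈ A₁ := by
        rw [← commutatorElement_inv]
        exact A₁.inv_mem (hc2 a ha)
      have hcomm : y * ⁅y, a⁆ = ⁅y, a⁆ * y := by
        have := hc1 _ hd
        rw [commutatorElement_eq_one_iff_commute] at this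
        exact this.eq.symm
      have h1 := Cfsg.Agent.Lib.Helper34_PStable.conj_pow_of_commute y a hcomm (p ^ m)
      have h2 : ⁅y, a⁆ ^ p ^ m = 1 := by
        have := pow_card_eq_one' (G := ↥A₁) (x := ⟨⁅y, a⁆, hd⟩)
        rw [hm] at this
        exact congrArg Subtype.val this
      rw [h2, one_mul] at h1
      calc a * y ^ p ^ m = (y ^ p ^ m * a * (y ^ p ^ m)⁻¹) * y ^ p ^ m := by rw [h1]
        _ = y ^ p ^ m * a := by group
    have hyA : y ^ p ^ m ∈ A := hCA ⟨K.pow_mem hyK _, hcen⟩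
    obtain ⟨k, hk⟩ := hA ⟨y ^ p ^ m, hyA⟩
    refine ⟨j₁ + j₂ + m + k, Subtype.ext ?_⟩
    have hk' : (y ^ p ^ m) ^ p ^ k = 1 := congrArg Subtype.val hk
    show x ^ p ^ (j₁ + j₂ + m + k) = 1
    rw [← hk', hy, ← pow_mul, ← pow_mul, ← pow_add, ← pow_add, add_assoc]
  · intro g hgK h1 h2
    exact ⟨hL₁q g hgK (le_of_eq h1), hL₂q g hgK h2⟩

end Step

section Subnormal

/-- every subgroup of a finite nilpotent group is subnormal -/
theorem isSubnormal_of_isNilpotent {Y : Type*} [Group Y] [Finite Y] [Group.IsNilpotent Y]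
    (H : Subgroup Y) : H.IsSubnormal := by
  suffices h : ∀ n : ℕ, ∀ H : Subgroup Y, Nat.card Y - Nat.card H = n → H.IsSubnormal from
    h _ H rfl
  intro n
  induction n using Nat.strong_induction_on with
  | _ n ih =>
    intro H hn
    by_cases hH : H = ⊤
    · rw [hH]; exact Subgroup.IsSubnormal.top
    · have hlt : H < ⊤ := lt_top_iff_ne_top.mpr hH
      have hN : H < Subgroup.normalizer (H : Set Y) :=
        Group.normalizerCondition_of_isNilpotent H hlt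
      have hcard : Nat.card H < Nat.card (Subgroup.normalizer (H : Set Y)) :=
        Cfsg.Agent.Lib.Helper11_ZJ.card_lt_of_lt hN
      have hle : Nat.card (Subgroup.normalizer (H : Set Y)) ≤ Nat.card Y :=
        Subgroup.card_le_card_group _
      have := ih (Nat.card Y - Nat.card (Subgroup.normalizer (H : Set Y))) (by omega)
        (Subgroup.normalizer (H : Set Y)) rfl
      exact Subgroup.IsSubnormal.step H _ Subgroup.le_normalizer this inferInstance

variable {X : Type*} [Group X] [Finite X] {p : ℕ} [Fact p.Prime]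

/-- a subgroup between two normal subgroups `C ≤ L` with `L / C` a `p`-group is subnormal -/
theorem isSubnormal_of_between {C L K : Subgroup X} [hC : C.Normal] [hL : L.Normal] (hCK : C ≤ K)
    (hKL : K ≤ L) (hLp : ∀ x ∈ L, ∃ j : ℕ, x ^ p ^ j ∈ C) : K.IsSubnormal := by
  have hCn : (C.subgroupOf L).Normal := Subgroup.Normal.subgroupOf hC L
  set π := QuotientGroup.mk' (C.subgroupOf L) with hπ
  have hker : π.ker = C.subgroupOf L := QuotientGroup.ker_mk' _
  have hY : IsPGroup p (↥L ⧸ C.subgroupOf L) := by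
    intro y
    obtain ⟨x, rfl⟩ := QuotientGroup.mk'_surjective (C.subgroupOf L) y
    obtain ⟨j, hj⟩ := hLp x x.2
    refine ⟨j, ?_⟩
    rw [← map_pow]
    exact (QuotientGroup.eq_one_iff _).mpr hj
  haveI : Group.IsNilpotent (↥L ⧸ C.subgroupOf L) := hY.isNilpotent
  have h1 := isSubnormal_of_isNilpotent ((K.subgroupOf L).map π)
  have h2 := Subgroup.IsSubnormal.comap π h1
  have h3 : ((K.subgroupOf L).map π).comap π = K.subgroupOf L := by
    rw [Subgroup.comap_map_eq, hker, sup_eq_left]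
    exact Subgroup.comap_mono hCK
  rw [h3] at h2
  exact Subgroup.IsSubnormal.trans hKL h2 hL.isSubnormal

end Subnormal

section Ambient

variable {X : Type u} [Group X] [Finite X] {p : ℕ} [Fact p.Prime]

/-- the standing hypotheses on the normal subgroup `A` of `X` -/
structure Amb (p : ℕ) (X : Type u) [Group X] (A : Subgroup X) : Prop where
  hst : SecStable p X
  hAn : A.Normal
  hAp : IsPGroup p A
  hA2 : ⁅A, A⁆ ≤ Subgroup.centralizer (A : Set X)
  hTA : ⁅Cfsg.pCore p X, A⁆ ≤ ZZ A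
  hCA : Subgroup.centralizer (A : Set X) ≤ A

variable {A : Subgroup X}

/-- a subgroup acting quadratically on `A₁` and on `A / A₁` (`A₁ ≤ A` normal `p`-subgroups of `X`,
`C_X(A) ≤ A`) lies in `O_p(X)` -/
theorem le_pCore_of_series (hst : SecStable p X) (A₁ A : Subgroup X) [hA₁n : A₁.Normal]
    [hAn : A.Normal] (hA₁A : A₁ ≤ A) (hAp : IsPGroup p A)
    (hCA : Subgroup.centralizer (A : Set X) ≤ A)
    (B : Subgroup X) (h1 : ⁅⁅A₁, B⁆, B⁆ = ⊥) (h2 : ⁅⁅A, B⁆, B⁆ ≤ A₁) : B ≤ Cfsg.pCore p X := by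
  obtain ⟨R, -, hRn, hRp, hR⟩ := series_lemma hst ⊤ A₁ A hA₁A le_top hAp
    (by rw [Subgroup.normalizer_eq_top]) (by rw [Subgroup.normalizer_eq_top])
    (inf_le_right.trans hCA)
  have hRn' : R.Normal := Subgroup.normalizer_eq_top_iff.mp (top_le_iff.mp hRn)
  have hle : R ≤ Cfsg.pCore p X := Cfsg.Agent.Lib.Helper1_Cores.le_pCore hRn' hRp
  intro g hg
  have hgB : Subgroup.zpowers g ≤ B := Subgroup.zpowers_le.mpr hg
  apply hle
  apply hR g (Subgroup.mem_top g)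
  · rw [eq_bot_iff, ← h1]
    exact Subgroup.commutator_mono (Subgroup.commutator_mono le_rfl hgB) hgB
  · exact (Subgroup.commutator_mono (Subgroup.commutator_mono le_rfl hgB) hgB).trans h2

theorem Amb.le_pCore_of_series (h : Amb p X A) (A₁ : Subgroup X) [hA₁n : A₁.Normal] (hA₁A : A₁ ≤ A)
    (B : Subgroup X) (h1 : ⁅⁅A₁, B⁆, B⁆ = ⊥) (h2 : ⁅⁅A, B⁆, B⁆ ≤ A₁) : B ≤ Cfsg.pCore p X := by
  have hAn := h.hAn
  exact Cfsg.Agent.Lib.Helper33_KInfStable.le_pCore_of_series h.hst A₁ A hA₁A h.hAp h.hCA B h1 h2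

/-- (H3) a subgroup acting quadratically on `A` lies in `O_p(X)` -/
theorem Amb.h3 (h : Amb p X A) (B : Subgroup X) (hq : ⁅⁅A, B⁆, B⁆ = ⊥) : B ≤ Cfsg.pCore p X := by
  have hAn := h.hAn
  exact h.le_pCore_of_series A le_rfl B hq (by rw [hq]; exact bot_le)

/-- (H1) -/
theorem Amb.h1 (h : Amb p X A) (A' : Subgroup X) (hAA' : ⁅A, A'⁆ ≤ A')
    (hc : ⁅A, ⁅A', A'⁆⁆ = ⊥) (hq : ⁅⁅ZZ A, A'⁆, A'⁆ = ⊥) : A' ≤ Cfsg.pCore p X := by
  have hAn := h.hAn
  have hZn : (ZZ A).Normal := (inferInstance : (A ⊓ Subgroup.centralizer (A : Set X)).Normal)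
  refine h.le_pCore_of_series (ZZ A) inf_le_left A' hq ?_
  have h1 : ⁅A, A'⁆ ≤ A := by
    rw [Subgroup.commutator_comm]
    exact Subgroup.commutator_le_right A' A
  have h2 : ⁅⁅A, A'⁆, A'⁆ ≤ A := (Subgroup.commutator_mono h1 le_rfl).trans
    (by rw [Subgroup.commutator_comm]; exact Subgroup.commutator_le_right A' A)
  have h3 : ⁅⁅A, A'⁆, A'⁆ ≤ ⁅A', A'⁆ := Subgroup.commutator_mono hAA' le_rfl
  have h4 : ⁅A', A'⁆ ≤ Subgroup.centralizer (A : Set X) := by
    rw [← Subgroup.commutator_eq_bot_iff_le_centralizer, Subgroup.commutator_comm]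
    exact hc
  exact le_inf h2 (h3.trans h4)

/-- the elements of `A` whose commutators with `A` lie in `D₀` (a subgroup as `D₀` is central in `A`) -/
def radOf (A D₀ : Subgroup X) (hD₀ : D₀ ≤ ZZ A) : Subgroup X where
  carrier := {a | a ∈ A ∧ ∀ a' ∈ A, ⁅a, a'⁆ ∈ D₀}
  one_mem' := ⟨A.one_mem, fun a' _ => by rw [commutatorElement_one_left]; exact D₀.one_mem⟩
  mul_mem' := by
    rintro a b ⟨ha, ha'⟩ ⟨hb, hb'⟩
    refine ⟨A.mul_mem ha hb, fun a' h' => ?_⟩
    have hc : ⁅b, a'⁆ ∈ Subgroup.centralizer (A : Set X) := (hD₀ (hb' a' h')).2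
    have h1 : a * ⁅b, a'⁆ = ⁅b, a'⁆ * a := Subgroup.mem_centralizer_iff.mp hc a ha
    have h2 : ⁅a * b, a'⁆ = (a * ⁅b, a'⁆) * a⁻¹ * ⁅a, a'⁆ := by
      simp only [commutatorElement_def]; group
    rw [h2, h1, mul_inv_cancel_right]
    exact D₀.mul_mem (hb' a' h') (ha' a' h')
  inv_mem' := by
    rintro a ⟨ha, ha'⟩
    refine ⟨A.inv_mem ha, fun a' h' => ?_⟩
    have hc : ⁅a, a'⁆ ∈ Subgroup.centralizer (A : Set X) := (hD₀ (ha' a' h')).2
    have h1 : a * ⁅a, a'⁆ = ⁅a, a'⁆ * a := Subgroup.mem_centralizer_iff.mp hc a ha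
    have h2 : ⁅a⁻¹, a'⁆ = a⁻¹ * (⁅a, a'⁆⁻¹ * a) := by
      simp only [commutatorElement_def]; group
    have h3 : ⁅a, a'⁆⁻¹ * a = a * ⁅a, a'⁆⁻¹ := by
      rw [inv_mul_eq_iff_eq_mul, ← mul_assoc, ← h1, mul_assoc, mul_inv_cancel, mul_one]
    rw [h2, h3, inv_mul_cancel_left]
    exact D₀.inv_mem (ha' a' h')

theorem mem_radOf {A D₀ : Subgroup X} {hD₀ : D₀ ≤ ZZ A} {a : X} :
    a ∈ radOf A D₀ hD₀ ↔ a ∈ A ∧ ∀ a' ∈ A, ⁅a, a'⁆ ∈ D₀ := Iff.rfl

theorem radOf_le {A D₀ : Subgroup X} (hD₀ : D₀ ≤ ZZ A) : radOf A D₀ hD₀ ≤ A := fun _ h => h.1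

theorem comm_radOf_le {A D₀ : Subgroup X} (hD₀ : D₀ ≤ ZZ A) : ⁅radOf A D₀ hD₀, A⁆ ≤ D₀ := by
  rw [Subgroup.commutator_le]
  intro a ha a' ha'
  exact ha.2 a' ha'

/-- an element normalizing `A` and centralizing `D₀` normalizes `radOf A D₀` -/
theorem conj_mem_radOf {A D₀ : Subgroup X} [hAn : A.Normal] (hD₀ : D₀ ≤ ZZ A) {x : X}
    (hx : ∀ d ∈ D₀, x * d * x⁻¹ = d) {a : X} (ha : a ∈ radOf A D₀ hD₀) :
    x * a * x⁻¹ ∈ radOf A D₀ hD₀ := by
  refine ⟨hAn.conj_mem a ha.1 x, fun a' ha' => ?_⟩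
  have h1 : x⁻¹ * a' * x ∈ A := by
    have := hAn.conj_mem a' ha' x⁻¹
    simpa using this
  have h2 := ha.2 _ h1
  have h3 : ⁅x * a * x⁻¹, a'⁆ = x * ⁅a, x⁻¹ * a' * x⁆ * x⁻¹ := by
    simp only [commutatorElement_def]; group
  rw [h3, hx _ h2]
  exact h2

/-- (H4) the key case: a subgroup `B` of class at most two, normalized by `A`, with the lower-star
property relative to the subgroups of `A`, lies in `O_p(X)`. -/
theorem Amb.h4 (h : Amb p X A) (B : Subgroup X) (hB2 : ⁅⁅B, B⁆, B⁆ = ⊥) (hAB : ⁅A, B⁆ ≤ B)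
    (hL : ∀ A' : Subgroup X, A' ≤ A → ⁅B, A'⁆ ≤ A' → ⁅B, ⁅A', A'⁆⁆ = ⊥ → ⁅⁅ZZ B, A'⁆, A'⁆ = ⊥ →
      ⁅B, A'⁆ ≤ ZZ B) : B ≤ Cfsg.pCore p X := by
  have hAn := h.hAn
  have hZAn : (ZZ A).Normal := (inferInstance : (A ⊓ Subgroup.centralizer (A : Set X)).Normal)
  -- Step 1: `Z(B) ≤ O_p(X)`
  have hZB : ZZ B ≤ Cfsg.pCore p X := by
    apply h.h3
    rw [eq_bot_iff, ← ZZ_comm_eq_bot B, Subgroup.commutator_comm (ZZ B) B]
    exact Subgroup.commutator_mono ((Subgroup.commutator_mono le_rfl inf_le_left).trans hAB) le_rfl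
  have hZBA : ⁅ZZ B, A⁆ ≤ ZZ A := (Subgroup.commutator_mono hZB le_rfl).trans h.hTA
  have hZq : ∀ A' : Subgroup X, A' ≤ A → ⁅⁅ZZ B, A'⁆, A'⁆ = ⊥ := by
    intro A' hA'
    rw [eq_bot_iff, ← ZZ_comm_eq_bot A]
    exact Subgroup.commutator_mono ((Subgroup.commutator_mono le_rfl hA').trans hZBA) hA'
  -- Step 2: `D = [A, A]` and its centralizer
  set D := ⁅A, A⁆ with hD
  have hDn : D.Normal := Subgroup.commutator_normal A A
  have hDA : D ≤ A := Subgroup.commutator_le_right A A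
  have hDZ : D ≤ ZZ A := le_inf hDA h.hA2
  set C := Subgroup.centralizer (D : Set X) with hC
  have hCn : C.Normal := Subgroup.normal_centralizer
  have hAC : A ≤ C := by
    rw [hC, ← Subgroup.commutator_eq_bot_iff_le_centralizer, Subgroup.commutator_comm]
    exact Subgroup.commutator_eq_bot_iff_le_centralizer.mpr h.hA2
  -- Step 3: `B` is quadratic on `Z(A)`, hence on `D`
  have hZAq : ⁅B, ZZ A⁆ ≤ ZZ B := hL (ZZ A) inf_le_left (Subgroup.commutator_le_right B (ZZ A))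
    (by rw [ZZ_self_comm_eq_bot A, Subgroup.commutator_bot_right]) (hZq _ inf_le_left)
  have hDq : ⁅⁅D, B⁆, B⁆ = ⊥ := by
    rw [eq_bot_iff, ← ZZ_comm_eq_bot B]
    refine Subgroup.commutator_mono ((Subgroup.commutator_mono hDZ le_rfl).trans ?_) le_rfl
    rw [Subgroup.commutator_comm]
    exact hZAq
  -- Step 4: the normal subgroup `LD`
  obtain ⟨LD, -, hLDn, hLDp, hLDq⟩ := step_lemma h.hst ⊤ D ⊥ bot_le le_top (h.hAp.to_le hDA)
    (by rw [Subgroup.normalizer_eq_top]) (by rw [Subgroup.normalizer_eq_top])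
  have hLDn' : LD.Normal := Subgroup.normalizer_eq_top_iff.mp (top_le_iff.mp hLDn)
  have hBLD : B ≤ LD := by
    intro g hg
    have hgB : Subgroup.zpowers g ≤ B := Subgroup.zpowers_le.mpr hg
    apply hLDq g (Subgroup.mem_top g)
    rw [← hDq]
    exact Subgroup.commutator_mono (Subgroup.commutator_mono le_rfl hgB) hgB
  have hCLD : C ≤ LD := by
    intro c hc
    have hcC : Subgroup.zpowers c ≤ C := Subgroup.zpowers_le.mpr hc
    apply hLDq c (Subgroup.mem_top c)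
    have h1 : ⁅D, Subgroup.zpowers c⁆ = ⊥ := by
      rw [Subgroup.commutator_comm, Subgroup.commutator_eq_bot_iff_le_centralizer]
      exact hcC
    rw [h1, Subgroup.commutator_bot_left]
  have hLDpow : ∀ x ∈ LD, ∃ j : ℕ, x ^ p ^ j ∈ C := by
    intro x hx
    obtain ⟨j, hj⟩ := hLDp x hx
    refine ⟨j, ?_⟩
    have h1 : Subgroup.zpowers (x ^ p ^ j) ≤ C := by
      rw [hC, ← Subgroup.commutator_eq_bot_iff_le_centralizer, Subgroup.commutator_comm]
      exact le_bot_iff.mp hj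
    exact h1 (Subgroup.mem_zpowers _)
  -- Step 5: the subnormal subgroup `Gs = B C`
  set Gs := B ⊔ C with hGs
  have hGsub : Gs.IsSubnormal :=
    isSubnormal_of_between (p := p) (C := C) (L := LD) le_sup_right (sup_le hBLD hCLD) hLDpow
  -- Step 6: `D₀ = C_D(B)` and `A₁`
  set D₀ := D ⊓ Subgroup.centralizer (B : Set X) with hD₀
  have hD₀Z : D₀ ≤ ZZ A := inf_le_left.trans hDZ
  set A₁ := radOf A D₀ hD₀Z with hA₁
  have hA₁A : A₁ ≤ A := radOf_le hD₀Z
  have hBA₁ : B ≤ Subgroup.normalizer (A₁ : Set X) := by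
    rw [Subgroup.le_normalizer_iff]
    intro b hb a ha
    apply conj_mem_radOf hD₀Z _ ha
    intro d hd
    have h1 : d ∈ Subgroup.centralizer (B : Set X) := hd.2
    have h2 := Subgroup.mem_centralizer_iff.mp h1 b hb
    rw [h2, mul_inv_cancel_right]
  have hCA₁ : C ≤ Subgroup.normalizer (A₁ : Set X) := by
    rw [Subgroup.le_normalizer_iff]
    intro c hc a ha
    apply conj_mem_radOf hD₀Z _ ha
    intro d hd
    have h2 := Subgroup.mem_centralizer_iff.mp hc d hd.1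
    rw [← h2, mul_inv_cancel_right]
  have hGsA₁ : Gs ≤ Subgroup.normalizer (A₁ : Set X) := sup_le hBA₁ hCA₁
  have hcommA₁ : ⁅B, ⁅A₁, A₁⁆⁆ = ⊥ := by
    rw [Subgroup.commutator_comm, Subgroup.commutator_eq_bot_iff_le_centralizer]
    exact ((Subgroup.commutator_mono le_rfl hA₁A).trans (comm_radOf_le hD₀Z)).trans inf_le_right
  have hBA₁q : ⁅B, A₁⁆ ≤ ZZ B := hL A₁ hA₁A
    (Subgroup.le_normalizer_iff_commutator_le_right.mp hBA₁) hcommA₁ (hZq _ hA₁A)
  have hq1 : ⁅⁅A₁, B⁆, B⁆ = ⊥ := by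
    rw [eq_bot_iff, ← ZZ_comm_eq_bot B]
    refine Subgroup.commutator_mono ?_ le_rfl
    rw [Subgroup.commutator_comm]
    exact hBA₁q
  -- `Z(B) ∩ A ≤ A₁`
  have hZBA₁ : ZZ B ⊓ A ≤ A₁ := by
    rintro z ⟨hzB, hzA⟩
    refine ⟨hzA, fun a' ha' => ⟨Subgroup.commutator_mem_commutator hzA ha', ?_⟩⟩
    show ⁅z, a'⁆ ∈ Subgroup.centralizer (B : Set X)
    rw [Subgroup.mem_centralizer_iff]
    intro b hb
    have hzc : z ∈ Subgroup.centralizer (B : Set X) := hzB.2
    have hzb : b * z = z * b := Subgroup.mem_centralizer_iff.mp hzc b hb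
    -- `w = [b, a'] ∈ A ∩ B`
    have hwB : ⁅b, a'⁆ ∈ B := by
      have : ⁅b, a'⁆ ∈ ⁅B, A⁆ := Subgroup.commutator_mem_commutator hb ha'
      rw [Subgroup.commutator_comm] at this
      exact hAB this
    have hwA : ⁅b, a'⁆ ∈ A := by
      rw [commutatorElement_def]
      exact A.mul_mem (hAn.conj_mem a' ha' b) (A.inv_mem ha')
    have hzw : ⁅b, a'⁆ * z = z * ⁅b, a'⁆ := Subgroup.mem_centralizer_iff.mp hzc _ hwB
    have hdc : ⁅z, a'⁆ ∈ Subgroup.centralizer (A : Set X) :=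
      (hDZ (Subgroup.commutator_mem_commutator hzA ha')).2
    have hwd : ⁅b, a'⁆ * ⁅z, a'⁆ = ⁅z, a'⁆ * ⁅b, a'⁆ := Subgroup.mem_centralizer_iff.mp hdc _ hwA
    -- `b [z, a'] b⁻¹ = [z, w a'] = [z, w] · w [z, a'] w⁻¹ = [z, a']`
    have e1 : b * ⁅z, a'⁆ * b⁻¹ = ⁅b * z * b⁻¹, ⁅b, a'⁆ * a'⁆ := by
      simp only [commutatorElement_def]; group
    have e2 : b * z * b⁻¹ = z := by rw [hzb, mul_inv_cancel_right]
    have e3 : ⁅z, ⁅b, a'⁆ * a'⁆ = ⁅z, ⁅b, a'⁆⁆ * (⁅b, a'⁆ * ⁅z, a'⁆ * ⁅b, a'⁆⁻¹) := by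
      simp only [commutatorElement_def]; group
    have e4 : ⁅z, ⁅b, a'⁆⁆ = 1 := by
      rw [commutatorElement_eq_one_iff_commute]
      exact hzw.symm
    have e5 : b * ⁅z, a'⁆ * b⁻¹ = ⁅z, a'⁆ := by
      rw [e1, e2, e3, e4, one_mul, hwd, mul_inv_cancel_right]
    calc b * ⁅z, a'⁆ = (b * ⁅z, a'⁆ * b⁻¹) * b := by group
      _ = ⁅z, a'⁆ * b := by rw [e5]
  have hq2 : ⁅⁅A, B⁆, B⁆ ≤ A₁ := by
    refine le_trans (le_inf ?_ ?_) hZBA₁
    · refine (Subgroup.commutator_mono hAB le_rfl).trans (le_inf B.commutator_le_self ?_)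
      exact Subgroup.commutator_eq_bot_iff_le_centralizer.mp hB2
    · have h1 : ⁅A, B⁆ ≤ A := by
        rw [Subgroup.commutator_comm]; exact Subgroup.commutator_le_right B A
      refine (Subgroup.commutator_mono h1 le_rfl).trans ?_
      rw [Subgroup.commutator_comm]; exact Subgroup.commutator_le_right B A
  -- Step 7
  obtain ⟨R, hRGs, hGsR, hRp, hR⟩ := series_lemma h.hst Gs A₁ A hA₁A (hAC.trans le_sup_right) h.hAp
    hGsA₁ (by rw [Subgroup.normalizer_eq_top]; exact le_top) (inf_le_right.trans h.hCA)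
  have hRT : R ≤ Cfsg.pCore p X :=
    Cfsg.Agent.Lib.Helper22_Cores.le_pCore_of_le_isSubnormal p hGsub hRGs hGsR hRp
  intro g hg
  have hgB : Subgroup.zpowers g ≤ B := Subgroup.zpowers_le.mpr hg
  apply hRT
  apply hR g (le_sup_left (a := B) (b := C) hg)
  · rw [eq_bot_iff, ← hq1]
    exact Subgroup.commutator_mono (Subgroup.commutator_mono le_rfl hgB) hgB
  · exact (Subgroup.commutator_mono (Subgroup.commutator_mono le_rfl hgB) hgB).trans hq2

end Ambient

/-! ### The key induction with subgroup-wise hypotheses -/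

section Key

variable {P : Type*} [Group P] (T A : Subgroup P)

/-- The standing hypotheses of the key induction (subgroup-wise version of `Helper54_KInf.Setup`). -/
structure Setup2 : Prop where
  hAT : A ≤ T
  hAn : A.Normal
  hA2 : A ∈ Cfsg.classTwoSubgroups P
  hTA : ⁅T, A⁆ ≤ ZZ A
  h1 : ∀ A' : Subgroup P, A' ∈ Cfsg.classTwoSubgroups P → ⁅A, A'⁆ ≤ A' → ⁅A, ⁅A', A'⁆⁆ = ⊥ →
    ⁅⁅ZZ A, A'⁆, A'⁆ = ⊥ → A' ≤ T
  h3 : ∀ B : Subgroup P, ⁅⁅A, B⁆, B⁆ = ⊥ → B ≤ T
  h4 : ∀ B : Subgroup P, ⁅⁅B, B⁆, B⁆ = ⊥ → ⁅A, B⁆ ≤ B →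
    (∀ A' : Subgroup P, A' ≤ A → ⁅B, A'⁆ ≤ A' → ⁅B, ⁅A', A'⁆⁆ = ⊥ → ⁅⁅ZZ B, A'⁆, A'⁆ = ⊥ →
      ⁅B, A'⁆ ≤ ZZ B) → B ≤ T

variable {T A}

/-- (C1) `A` lies in every lower-star family. -/
theorem Setup2.mem_lower (h : Setup2 T A) (Q : Subgroup P) : A ∈ Cfsg.kLowerStarFamily Q := by
  have := h.hAn
  refine ⟨h.hA2, ?_, ?_⟩
  · rw [Subgroup.normalizer_eq_top]
    exact le_top
  · intro A' hA' _ hAA' h4 h5
    have h1 : ⁅A, A'⁆ ≤ A' := Subgroup.le_normalizer_iff_commutator_le_right.mp hAA'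
    have hle : A' ≤ T := h.h1 A' hA' h1 h4 h5
    calc ⁅A, A'⁆ ≤ ⁅A, T⁆ := Subgroup.commutator_mono le_rfl hle
      _ = ⁅T, A⁆ := Subgroup.commutator_comm _ _
      _ ≤ ZZ A := h.hTA

/-- (C2) `A` lies in the upper-star family of every subgroup of `T`. -/
theorem Setup2.mem_upper (h : Setup2 T A) {Q : Subgroup P} (hQ : Q ≤ T) :
    A ∈ Cfsg.kUpperStarFamily Q := by
  refine ⟨h.hA2, ?_⟩
  calc ⁅A, Q⁆ ≤ ⁅A, T⁆ := Subgroup.commutator_mono le_rfl hQ
    _ = ⁅T, A⁆ := Subgroup.commutator_comm _ _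
    _ ≤ ZZ A := h.hTA

/-- (C3) members of the upper-star family of a subgroup containing `A` lie in `T`. -/
theorem Setup2.upper_le (h : Setup2 T A) {Q B : Subgroup P} (hAQ : A ≤ Q)
    (hB : B ∈ Cfsg.kUpperStarFamily Q) : B ≤ T := by
  obtain ⟨_, hBQ⟩ := hB
  have h1 : ⁅A, B⁆ ≤ ZZ B := by
    rw [Subgroup.commutator_comm]
    exact (Subgroup.commutator_mono le_rfl hAQ).trans hBQ
  apply h.h3
  rw [eq_bot_iff, ← ZZ_comm_eq_bot B]
  exact Subgroup.commutator_mono h1 le_rfl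

/-- (C4) members of the lower-star family of a subgroup containing `A` lie in `T`. -/
theorem Setup2.lower_le (h : Setup2 T A) {Q B : Subgroup P} (hAQ : A ≤ Q)
    (hB : B ∈ Cfsg.kLowerStarFamily Q) : B ≤ T := by
  obtain ⟨hB2, hQB, hprop⟩ := hB
  have h1 : ⁅A, B⁆ ≤ B := Subgroup.le_normalizer_iff_commutator_le_right.mp (hAQ.trans hQB)
  apply h.h4 B (classTwo_comm_eq_bot hB2) h1
  intro A' hA'A hBA' h4 h5
  apply hprop A' ?_ (hA'A.trans hAQ) (Subgroup.le_normalizer_iff_commutator_le_right.mpr hBA') h4 h5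
  show ⁅A', A'⁆ ≤ Subgroup.centralizer (A' : Set P)
  have h6 : ⁅A, A⁆ ≤ Subgroup.centralizer (A : Set P) := h.hA2
  exact (Subgroup.commutator_mono hA'A hA'A).trans (h6.trans (Subgroup.centralizer_le hA'A))

/-- The key induction: all terms of nonnegative index of the K-sequence lie between `A` and `T`. -/
theorem Setup2.terms (h : Setup2 T A) (n : ℕ) :
    A ≤ Cfsg.kSeqOdd P n ∧ (A ≤ Cfsg.kSeqEven P n ∧ Cfsg.kSeqEven P n ≤ T) ∧
      (A ≤ Cfsg.kSeqOdd P (n + 1) ∧ Cfsg.kSeqOdd P (n + 1) ≤ T) := by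
  have step : ∀ n, A ≤ Cfsg.kSeqOdd P n →
      (A ≤ Cfsg.kSeqEven P n ∧ Cfsg.kSeqEven P n ≤ T) ∧
        (A ≤ Cfsg.kSeqOdd P (n + 1) ∧ Cfsg.kSeqOdd P (n + 1) ≤ T) := by
    intro n hn
    have hE : A ≤ Cfsg.kSeqEven P n ∧ Cfsg.kSeqEven P n ≤ T := by
      refine ⟨le_sSup (h.mem_lower _), sSup_le ?_⟩
      intro B hB
      exact h.lower_le hn hB
    refine ⟨hE, ?_, ?_⟩
    · show A ≤ sSup (Cfsg.kUpperStarFamily (Cfsg.kSeqEven P n))
      exact le_sSup (h.mem_upper hE.2)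
    · show sSup (Cfsg.kUpperStarFamily (Cfsg.kSeqEven P n)) ≤ T
      apply sSup_le
      intro B hB
      exact h.upper_le hE.1 hB
  induction n with
  | zero =>
    have h0 : A ≤ Cfsg.kSeqOdd P 0 := le_top
    exact ⟨h0, step 0 h0⟩
  | succ n ih => exact ⟨ih.2.2.1, step (n + 1) ih.2.2.1⟩

theorem Setup2.kInf_eq [Finite P] {p : ℕ} [Fact p.Prime] (hP : IsPGroup p P) (h : Setup2 T A) :
    (Cfsg.kInfLower ↥T).map T.subtype = Cfsg.kInfLower P ∧
      (Cfsg.kInfUpper ↥T).map T.subtype = Cfsg.kInfUpper P :=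
  Cfsg.Agent.S1979.result hP T (fun n => ⟨(h.terms n).2.1.2, (h.terms n).2.2.2⟩)

end Key

/-! ### Inside an ambient finite group -/

section Ambient2

variable {G : Type u} [Group G] [Finite G] {p : ℕ} [Fact p.Prime]

/-- The key induction inside an ambient group, with subgroup-wise hypotheses. -/
theorem inducedFunctor_eq2 (S T A : Subgroup G) (hS : IsPGroup p S) (hTS : T ≤ S) (hAT : A ≤ T)
    (hSA : S ≤ Subgroup.normalizer (A : Set G))
    (hA2 : ⁅A, A⁆ ≤ Subgroup.centralizer (A : Set G))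
    (hTA : ⁅T, A⁆ ≤ ZZ A)
    (h1 : ∀ A' : Subgroup G, A' ≤ S → ⁅A, A'⁆ ≤ A' → ⁅A, ⁅A', A'⁆⁆ = ⊥ → ⁅⁅ZZ A, A'⁆, A'⁆ = ⊥ →
      A' ≤ T)
    (h3 : ∀ B : Subgroup G, B ≤ S → ⁅⁅A, B⁆, B⁆ = ⊥ → B ≤ T)
    (h4 : ∀ B : Subgroup G, B ≤ S → ⁅⁅B, B⁆, B⁆ = ⊥ → ⁅A, B⁆ ≤ B →
      (∀ A' : Subgroup G, A' ≤ A → ⁅B, A'⁆ ≤ A' → ⁅B, ⁅A', A'⁆⁆ = ⊥ → ⁅⁅ZZ B, A'⁆, A'⁆ = ⊥ →
        ⁅B, A'⁆ ≤ ZZ B) → B ≤ T) :
    Cfsg.inducedFunctor Cfsg.kInfLower S = Cfsg.inducedFunctor Cfsg.kInfLower T ∧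
      Cfsg.inducedFunctor Cfsg.kInfUpper S = Cfsg.inducedFunctor Cfsg.kInfUpper T := by
  have hf : Function.Injective S.subtype := S.subtype_injective
  have hAS : A ≤ S := hAT.trans hTS
  have hAmap : (A.subgroupOf S).map S.subtype = A := Subgroup.map_subgroupOf_eq_of_le hAS
  have hTmap : (T.subgroupOf S).map S.subtype = T := Subgroup.map_subgroupOf_eq_of_le hTS
  have hZmap : (ZZ (A.subgroupOf S)).map S.subtype = ZZ A := by
    rw [Cfsg.Agent.S1979.map_ZZ hf, hAmap]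
  have hleS : ∀ B' : Subgroup ↥S, B'.map S.subtype ≤ S := fun B' => Subgroup.map_subtype_le B'
  have toT : ∀ B' : Subgroup ↥S, B'.map S.subtype ≤ T → B' ≤ T.subgroupOf S := by
    intro B' hB'
    rw [← Subgroup.map_le_map_iff_of_injective hf, hTmap]
    exact hB'
  have hsetup : Setup2 (T.subgroupOf S) (A.subgroupOf S) := by
    refine ⟨?_, ?_, ?_, ?_, ?_, ?_, ?_⟩
    · exact Subgroup.comap_mono hAT
    · exact (Subgroup.normal_subgroupOf_iff_le_normalizer hAS).mpr hSA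
    · rw [← Cfsg.Agent.S1979.classTwo_map_iff hf, hAmap]
      exact hA2
    · rw [← Cfsg.Agent.S1979.comm_le_map_iff hf, hZmap, hTmap, hAmap]
      exact hTA
    · intro A' _ hAA' hc hq
      apply toT
      apply h1 _ (hleS A')
      · have := (Cfsg.Agent.S1979.comm_le_map_iff hf _ _ _).mpr hAA'
        rwa [hAmap] at this
      · have := congrArg (Subgroup.map S.subtype) hc
        rwa [Subgroup.map_commutator, Subgroup.map_commutator, hAmap, Subgroup.map_bot] at this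
      · have := congrArg (Subgroup.map S.subtype) hq
        rwa [Subgroup.map_commutator, Subgroup.map_commutator, hZmap, Subgroup.map_bot] at this
    · intro B hq
      apply toT
      apply h3 _ (hleS B)
      have := congrArg (Subgroup.map S.subtype) hq
      rwa [Subgroup.map_commutator, Subgroup.map_commutator, hAmap, Subgroup.map_bot] at this
    · intro B hB2 hAB hL
      apply toT
      apply h4 _ (hleS B)
      · have := congrArg (Subgroup.map S.subtype) hB2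
        rwa [Subgroup.map_commutator, Subgroup.map_commutator, Subgroup.map_bot] at this
      · have := (Cfsg.Agent.S1979.comm_le_map_iff hf _ _ _).mpr hAB
        rwa [hAmap] at this
      · intro A' hA'A hBA' hc hq
        have hA'S : A' ≤ S := hA'A.trans hAS
        have hA'map : (A'.subgroupOf S).map S.subtype = A' := Subgroup.map_subgroupOf_eq_of_le hA'S
        have hZB : (ZZ B).map S.subtype = ZZ (B.map S.subtype) := Cfsg.Agent.S1979.map_ZZ hf B
        have key := hL (A'.subgroupOf S) (Subgroup.comap_mono hA'A)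
          (by
            rw [← Cfsg.Agent.S1979.comm_le_map_iff hf, hA'map]
            exact hBA')
          (by
            rw [← Subgroup.map_eq_bot_iff_of_injective _ hf, Subgroup.map_commutator,
              Subgroup.map_commutator, hA'map]
            exact hc)
          (by
            rw [← Subgroup.map_eq_bot_iff_of_injective _ hf, Subgroup.map_commutator,
              Subgroup.map_commutator, hA'map, hZB]
            exact hq)
        have := (Cfsg.Agent.S1979.comm_le_map_iff hf _ _ _).mpr key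
        rwa [hA'map, hZB] at this
  have hSP : IsPGroup p ↥S := hS
  have hT' : IsPGroup p ↥(T.subgroupOf S) := hS.to_subgroup _
  obtain ⟨hL, hU⟩ := hsetup.kInf_eq hSP
  constructor
  · have h1 := Cfsg.Agent.Lib.Helper34_NPC.inducedFunctor_map (isCharPFunctor_kInfLower p)
      S.subtype (T.subgroupOf S) hT' (fun x _ hx => by
        apply hf
        rw [hx, map_one])
    rw [hTmap] at h1
    rw [h1]
    show (Cfsg.kInfLower ↥S).map S.subtype = _
    rw [← hL]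
    rfl
  · have h1 := Cfsg.Agent.Lib.Helper34_NPC.inducedFunctor_map (isCharPFunctor_kInfUpper p)
      S.subtype (T.subgroupOf S) hT' (fun x _ hx => by
        apply hf
        rw [hx, map_one])
    rw [hTmap] at h1
    rw [h1]
    show (Cfsg.kInfUpper ↥S).map S.subtype = _
    rw [← hU]
    rfl

/-- **Glauberman.** If all sections of `X` are `p`-stable (normalizer form) and `C_X(O_p(X)) ≤ O_p(X)`, then
`K_∞(S)` and `K^∞(S)` are normal in `X` for every Sylow `p`-subgroup `S`; in fact they equal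
`K_∞(O_p(X))` and `K^∞(O_p(X))`. -/
theorem kInf_eq_pCore {X : Type u} [Group X] [Finite X] {p : ℕ} [Fact p.Prime]
    (hst : SecStable p X)
    (hc : Subgroup.centralizer ((Cfsg.pCore p X : Subgroup X) : Set X) ≤ Cfsg.pCore p X)
    (S : Sylow p X) :
    Cfsg.inducedFunctor Cfsg.kInfLower (S : Subgroup X) =
        Cfsg.inducedFunctor Cfsg.kInfLower (Cfsg.pCore p X) ∧
      Cfsg.inducedFunctor Cfsg.kInfUpper (S : Subgroup X) =
        Cfsg.inducedFunctor Cfsg.kInfUpper (Cfsg.pCore p X) := by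
  classical
  set R := Cfsg.pCore p X with hR
  haveI hRn : R.Normal := Cfsg.Agent.Lib.Helper49_CharP.pCoreNormal p X
  have hRp : IsPGroup p ↥R := Cfsg.Agent.Lib.Helper49_CharP.pCore_isPGroup p X
  have hRS : R ≤ (S : Subgroup X) := Cfsg.Agent.Lib.Helper49_CharP.pCore_le_sylow S
  have hf : Function.Injective R.subtype := R.subtype_injective
  obtain ⟨M, C, hMC, -, -, hCinv, hCM, hcomm, -, hcentC⟩ :=
    Cfsg.Agent.Lib.Helper33_Critical.exists_critical_pair hRp (⊤ : Subgroup (MulAut ↥R)) le_top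
      (⊤ : Subgroup ↥R) (fun _ _ _ _ => Subgroup.mem_top _)
  set A := C.map R.subtype with hA
  haveI hAn : A.Normal := by
    constructor
    intro a ha l
    obtain ⟨c, hc, rfl⟩ := ha
    refine ⟨MulAut.conjNormal l c, hCinv _ (Subgroup.mem_top _) c hc, ?_⟩
    simp [MulAut.conjNormal_apply]
  have hAR : A ≤ R := by
    rintro _ ⟨c, -, rfl⟩
    exact c.2
  have hMZ : M.map R.subtype ≤ ZZ A := by
    have h1 : M ≤ ZZ C := le_inf hMC (Subgroup.le_centralizer_iff.mp hCM)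
    have h2 := Subgroup.map_mono (f := R.subtype) h1
    rwa [Cfsg.Agent.S1979.map_ZZ hf] at h2
  have hRA : ⁅R, A⁆ ≤ ZZ A := by
    have h1 : (⊤ : Subgroup ↥R).map R.subtype = R := by
      rw [← MonoidHom.range_eq_map, Subgroup.range_subtype]
    have h2 : ⁅(⊤ : Subgroup ↥R), C⁆ ≤ M := by
      rw [Subgroup.commutator_comm, Subgroup.commutator_le]
      intro c hc x _
      exact hcomm c hc x
    have h3 := Subgroup.map_mono (f := R.subtype) h2
    rw [Subgroup.map_commutator, h1] at h3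
    exact h3.trans hMZ
  have hcent : R ⊓ Subgroup.centralizer (A : Set X) ≤ ZZ A := by
    intro x hx
    have hxc : (⟨x, hx.1⟩ : ↥R) ∈ Subgroup.centralizer (C : Set ↥R) := by
      rw [Subgroup.mem_centralizer_iff]
      intro c hc
      apply Subtype.ext
      have hx2 : x ∈ Subgroup.centralizer (A : Set X) := hx.2
      exact Subgroup.mem_centralizer_iff.mp hx2 (c : X) ⟨c, hc, rfl⟩
    have hxM : (⟨x, hx.1⟩ : ↥R) ∈ M := hcentC ⟨Subgroup.mem_top _, hxc⟩
    exact hMZ ⟨⟨x, hx.1⟩, hxM, rfl⟩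
  have hA2 : ⁅A, A⁆ ≤ Subgroup.centralizer (A : Set X) :=
    ((Subgroup.commutator_mono hAR le_rfl).trans hRA).trans inf_le_right
  -- `C_X(A) ≤ A`
  have hCA : Subgroup.centralizer (A : Set X) ≤ A := by
    set Cx := Subgroup.centralizer (A : Set X) with hCx
    have hCxA : ⁅Cx, A⁆ = ⊥ := Subgroup.commutator_eq_bot_iff_le_centralizer.mpr le_rfl
    have hACx : ⁅A, Cx⁆ = ⊥ := by rw [Subgroup.commutator_comm]; exact hCxA
    have h1 : ⁅⁅R, A⁆, Cx⁆ = ⊥ := by
      rw [eq_bot_iff, ← hACx]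
      exact Subgroup.commutator_mono (hRA.trans inf_le_left) le_rfl
    have h2 : ⁅⁅A, Cx⁆, R⁆ = ⊥ := by rw [hACx, Subgroup.commutator_bot_left]
    have h3 : ⁅⁅Cx, R⁆, A⁆ = ⊥ := Subgroup.commutator_commutator_eq_bot_of_rotate h1 h2
    have h4 : ⁅R, Cx⁆ ≤ ZZ A := by
      rw [Subgroup.commutator_comm]
      exact (le_inf (Subgroup.commutator_le_right Cx R)
        (Subgroup.commutator_eq_bot_iff_le_centralizer.mp h3)).trans hcent
    have h5 : ⁅⁅R, Cx⁆, Cx⁆ = ⊥ := by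
      rw [eq_bot_iff, ← hACx]
      exact Subgroup.commutator_mono (h4.trans inf_le_left) le_rfl
    have h6 : Cx ≤ R := le_pCore_of_series hst R R le_rfl hRp hc Cx h5
      (Subgroup.commutator_le_left _ _ |>.trans (Subgroup.commutator_le_left R Cx))
    exact (le_inf h6 le_rfl).trans (hcent.trans inf_le_left)
  have hamb : Amb p X A := ⟨hst, hAn, hRp.to_le hAR, hA2, hRA, hCA⟩
  exact inducedFunctor_eq2 (p := p) (S : Subgroup X) R A S.isPGroup' hRS hAR
    Subgroup.le_normalizer_of_normal hA2 hRA (fun A' _ => hamb.h1 A') (fun B _ => hamb.h3 B)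
    (fun B _ => hamb.h4 B)

theorem kInf_normal {X : Type u} [Group X] [Finite X] {p : ℕ} [Fact p.Prime]
    (hst : ∀ (K R : Subgroup X) [hR : (R.subgroupOf K).Normal],
      Cfsg.IsNormalizerPStable p (↥K ⧸ R.subgroupOf K))
    (hc : Subgroup.centralizer ((Cfsg.pCore p X : Subgroup X) : Set X) ≤ Cfsg.pCore p X)
    (S : Sylow p X) :
    (Cfsg.inducedFunctor Cfsg.kInfLower (S : Subgroup X)).Normal ∧
      (Cfsg.inducedFunctor Cfsg.kInfUpper (S : Subgroup X)).Normal := by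
  obtain ⟨hL, hU⟩ := kInf_eq_pCore hst hc S
  have hRn : (Cfsg.pCore p X).Normal := Cfsg.Agent.Lib.Helper49_CharP.pCoreNormal p X
  have hRp : IsPGroup p ↥(Cfsg.pCore p X) := Cfsg.Agent.Lib.Helper49_CharP.pCore_isPGroup p X
  have hnL := Cfsg.Agent.Lib.Helper34_NPC.normalizer_le_normalizer_inducedFunctor
    (isCharPFunctor_kInfLower p) (Cfsg.pCore p X) hRp
  have hnU := Cfsg.Agent.Lib.Helper34_NPC.normalizer_le_normalizer_inducedFunctor
    (isCharPFunctor_kInfUpper p) (Cfsg.pCore p X) hRp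
  rw [Subgroup.normalizer_eq_top] at hnL hnU
  rw [hL, hU]
  exact ⟨Subgroup.normalizer_eq_top_iff.mp (top_le_iff.mp hnL),
    Subgroup.normalizer_eq_top_iff.mp (top_le_iff.mp hnU)⟩

end Ambient2

end Cfsg.Agent.Lib.Helper33_KInfStable
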