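import Mathlib
import Cfsg.Agent.Lib.Helper33_KInfStable
import Cfsg.Agent.Lib.Helper10_QuadPair
import Cfsg.Agent.S2004

set_option autoImplicit false
open Cfsg

/-!
# K-infinity of an arbitrary p-subgroup containing `O_p(X)`

`Helper33_KInfStable.inducedFunctor_eq2` (helper33) handles any `p`-subgroup `S ≥ O_p(X)`, not only the Sylow ones;
here this is recorded (`kInf_eq_pCore_of_le`, `kInf_normal_of_le`), together with: abelian Sylow `2`-subgroups and
`p` odd give `SecStable p X` (`secStable_of_abelian_sylow_two`).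
-/

namespace Cfsg.Agent.Lib.Helper1_KInfAny

open Cfsg.Agent.Lib.Helper54_KInf Cfsg.Agent.Lib.Helper33_KInfStable
open scoped commutatorElement

universe u

/-- **Glauberman**, for an arbitrary `p`-subgroup containing `O_p(X)` (same proof as
`Helper33_KInfStable.kInf_eq_pCore`). -/
theorem kInf_eq_pCore_of_le {X : Type u} [Group X] [Finite X] {p : ℕ} [Fact p.Prime]
    (hst : SecStable p X)
    (hc : Subgroup.centralizer ((Cfsg.pCore p X : Subgroup X) : Set X) ≤ Cfsg.pCore p X)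
    (S : Subgroup X) (hSp : IsPGroup p ↥S) (hRS' : Cfsg.pCore p X ≤ S) :
    Cfsg.inducedFunctor Cfsg.kInfLower S =
        Cfsg.inducedFunctor Cfsg.kInfLower (Cfsg.pCore p X) ∧
      Cfsg.inducedFunctor Cfsg.kInfUpper S =
        Cfsg.inducedFunctor Cfsg.kInfUpper (Cfsg.pCore p X) := by
  classical
  set R := Cfsg.pCore p X with hR
  haveI hRn : R.Normal := Cfsg.Agent.Lib.Helper49_CharP.pCoreNormal p X
  have hRp : IsPGroup p ↥R := Cfsg.Agent.Lib.Helper49_CharP.pCore_isPGroup p X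
  have hRS : R ≤ S := hRS'
  have hf : Function.Injective R.subtype := R.subtype_injective
  obtain ⟨M, C, hMC, -, -, hCinv, hCM, hcomm, -, hcentC⟩ :=
    Cfsg.Agent.Lib.Helper33_Critical.exists_critical_pair hRp (⊤ : Subgroup (MulAut ↥R)) le_top
      (⊤ : Subgroup ↥R) (fun _ _ _ _ => Subgroup.mem_top _)
  set A := C.map R.subtype with hA
  haveI hAn : A.Normal := by
    constructor
    intro a ha l
    obtain ⟨c, hc, rfl⟩ := ha
    refine ⟨MulAut.conjNormal l c, hCinv _ (Subgroup.mem_top _) c hc, ?_⟩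
    simp [MulAut.conjNormal_apply]
  have hAR : A ≤ R := by
    rintro _ ⟨c, -, rfl⟩
    exact c.2
  have hMZ : M.map R.subtype ≤ ZZ A := by
    have h1 : M ≤ ZZ C := le_inf hMC (Subgroup.le_centralizer_iff.mp hCM)
    have h2 := Subgroup.map_mono (f := R.subtype) h1
    rwa [Cfsg.Agent.S1979.map_ZZ hf] at h2
  have hRA : ⁅R, A⁆ ≤ ZZ A := by
    have h1 : (⊤ : Subgroup ↥R).map R.subtype = R := by
      rw [← MonoidHom.range_eq_map, Subgroup.range_subtype]
    have h2 : ⁅(⊤ : Subgroup ↥R), C⁆ ≤ M := by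
      rw [Subgroup.commutator_comm, Subgroup.commutator_le]
      intro c hc x _
      exact hcomm c hc x
    have h3 := Subgroup.map_mono (f := R.subtype) h2
    rw [Subgroup.map_commutator, h1] at h3
    exact h3.trans hMZ
  have hcent : R ⊓ Subgroup.centralizer (A : Set X) ≤ ZZ A := by
    intro x hx
    have hxc : (⟨x, hx.1⟩ : ↥R) ∈ Subgroup.centralizer (C : Set ↥R) := by
      rw [Subgroup.mem_centralizer_iff]
      intro c hc
      apply Subtype.ext
      have hx2 : x ∈ Subgroup.centralizer (A : Set X) := hx.2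
      exact Subgroup.mem_centralizer_iff.mp hx2 (c : X) ⟨c, hc, rfl⟩
    have hxM : (⟨x, hx.1⟩ : ↥R) ∈ M := hcentC ⟨Subgroup.mem_top _, hxc⟩
    exact hMZ ⟨⟨x, hx.1⟩, hxM, rfl⟩
  have hA2 : ⁅A, A⁆ ≤ Subgroup.centralizer (A : Set X) :=
    ((Subgroup.commutator_mono hAR le_rfl).trans hRA).trans inf_le_right
  -- `C_X(A) ≤ A`
  have hCA : Subgroup.centralizer (A : Set X) ≤ A := by
    set Cx := Subgroup.centralizer (A : Set X) with hCx
    have hCxA : ⁅Cx, A⁆ = ⊥ := Subgroup.commutator_eq_bot_iff_le_centralizer.mpr le_rfl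
    have hACx : ⁅A, Cx⁆ = ⊥ := by rw [Subgroup.commutator_comm]; exact hCxA
    have h1 : ⁅⁅R, A⁆, Cx⁆ = ⊥ := by
      rw [eq_bot_iff, ← hACx]
      exact Subgroup.commutator_mono (hRA.trans inf_le_left) le_rfl
    have h2 : ⁅⁅A, Cx⁆, R⁆ = ⊥ := by rw [hACx, Subgroup.commutator_bot_left]
    have h3 : ⁅⁅Cx, R⁆, A⁆ = ⊥ := Subgroup.commutator_commutator_eq_bot_of_rotate h1 h2
    have h4 : ⁅R, Cx⁆ ≤ ZZ A := by
      rw [Subgroup.commutator_comm]
      exact (le_inf (Subgroup.commutator_le_right Cx R)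
        (Subgroup.commutator_eq_bot_iff_le_centralizer.mp h3)).trans hcent
    have h5 : ⁅⁅R, Cx⁆, Cx⁆ = ⊥ := by
      rw [eq_bot_iff, ← hACx]
      exact Subgroup.commutator_mono (h4.trans inf_le_left) le_rfl
    have h6 : Cx ≤ R := Cfsg.Agent.Lib.Helper33_KInfStable.le_pCore_of_series hst R R le_rfl hRp hc Cx h5
      (Subgroup.commutator_le_left _ _ |>.trans (Subgroup.commutator_le_left R Cx))
    exact (le_inf h6 le_rfl).trans (hcent.trans inf_le_left)
  have hamb : Amb p X A := ⟨hst, hAn, hRp.to_le hAR, hA2, hRA, hCA⟩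
  exact inducedFunctor_eq2 (p := p) S R A hSp hRS hAR
    Subgroup.le_normalizer_of_normal hA2 hRA (fun A' _ => hamb.h1 A') (fun B _ => hamb.h3 B)
    (fun B _ => hamb.h4 B)

theorem kInf_normal_of_le {X : Type u} [Group X] [Finite X] {p : ℕ} [Fact p.Prime]
    (hst : SecStable p X)
    (hc : Subgroup.centralizer ((Cfsg.pCore p X : Subgroup X) : Set X) ≤ Cfsg.pCore p X)
    (S : Subgroup X) (hSp : IsPGroup p ↥S) (hRS : Cfsg.pCore p X ≤ S) :
    (Cfsg.inducedFunctor Cfsg.kInfLower S).Normal ∧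
      (Cfsg.inducedFunctor Cfsg.kInfUpper S).Normal := by
  obtain ⟨hL, hU⟩ := kInf_eq_pCore_of_le hst hc S hSp hRS
  have hRn : (Cfsg.pCore p X).Normal := Cfsg.Agent.Lib.Helper49_CharP.pCoreNormal p X
  have hRp : IsPGroup p ↥(Cfsg.pCore p X) := Cfsg.Agent.Lib.Helper49_CharP.pCore_isPGroup p X
  have hnL := Cfsg.Agent.Lib.Helper34_NPC.normalizer_le_normalizer_inducedFunctor
    (isCharPFunctor_kInfLower p) (Cfsg.pCore p X) hRp
  have hnU := Cfsg.Agent.Lib.Helper34_NPC.normalizer_le_normalizer_inducedFunctor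
    (isCharPFunctor_kInfUpper p) (Cfsg.pCore p X) hRp
  rw [Subgroup.normalizer_eq_top] at hnL hnU
  rw [hL, hU]
  exact ⟨Subgroup.normalizer_eq_top_iff.mp (top_le_iff.mp hnL),
    Subgroup.normalizer_eq_top_iff.mp (top_le_iff.mp hnU)⟩

/-- a group involving `SL₂(p)`, `p` odd, has non-commutative Sylow `2`-subgroups -/
theorem sylow_two_not_comm_of_involves {Y : Type*} [Group Y] [Finite Y] {p : ℕ} [Fact p.Prime]
    (hp : p ≠ 2) (h : Cfsg.Involves (Matrix.SpecialLinearGroup (Fin 2) (ZMod p)) Y)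
    (T : Sylow 2 Y) : ¬ IsMulCommutative T := by
  obtain ⟨K, R, hRn, ⟨e⟩⟩ := h
  obtain ⟨Q, hQ, x, hx, y, hy, hxy⟩ := Cfsg.Agent.Lib.Helper10_QuadPair.sl2_nonabelian_two_subgroup p hp
  let f : ↥K →* Matrix.SpecialLinearGroup (Fin 2) (ZMod p) :=
    e.toMonoidHom.comp (QuotientGroup.mk' (R.subgroupOf K))
  have hf : Function.Surjective f := e.surjective.comp (QuotientGroup.mk'_surjective _)
  have hQf : Q ≤ f.range := by
    intro z _
    exact hf z
  obtain ⟨T₁⟩ : Nonempty (Sylow 2 ↥K) := inferInstance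
  have h1 : ¬ IsMulCommutative T₁ :=
    Cfsg.Agent.Lib.Helper10_QuadPair.sylow_not_comm_of_hom f Q hQf hQ x y hx hy hxy T₁
  exact Cfsg.Agent.Lib.Helper10_QuadPair.sylow_not_comm_of_injective K.subtype
    (Subgroup.subtype_injective _) T₁ h1 T

/-- `p` odd and abelian Sylow `2`-subgroups: all sections are `p`-stable in the normalizer form -/
theorem secStable_of_abelian_sylow_two {X : Type u} [Group X] [Finite X] {p : ℕ} [Fact p.Prime]
    (hp : p ≠ 2) (hab : ∀ T : Sylow 2 X, IsMulCommutative T) : SecStable p X := by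
  apply Cfsg.Agent.S2004.result hp
  intro P _ _ hinv
  obtain ⟨T₁⟩ : Nonempty (Sylow 2 ↥(Subgroup.normalizer ((P : Subgroup X) : Set X))) := inferInstance
  obtain ⟨T⟩ : Nonempty (Sylow 2 X) := inferInstance
  exact Cfsg.Agent.Lib.Helper10_QuadPair.sylow_not_comm_of_injective
    (Subgroup.normalizer ((P : Subgroup X) : Set X)).subtype (Subgroup.subtype_injective _) T₁
    (sylow_two_not_comm_of_involves hp hinv T₁) T (hab T)

end Cfsg.Agent.Lib.Helper1_KInfAny
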