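import Cfsg.Agent.Lib.Helper23_Locals
import Cfsg.Agent.Lib.Helper22_Layer
import Mathlib.GroupTheory.IsPerfect

/-!
# Layers of `p`-local subgroups and `O_p(G)` (helper23)

* `perfect_le_of_coprime_mem`: a perfect subgroup lies in every subgroup it normalizes that contains
  all its `p'`-elements;
* `comap_layer_le_centralizer_pCore`: for a `p`-subgroup `P` with `N = N_G(P)`, the preimage in `N`
  of `E(N / O_{p'}(N))` centralizes `O_p(G)` (Aschbacher 31.14);
* `layer_normalizer_eq`: `E(N_G(P)) = E(G)` for `P ≤ O_p(G)`.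
-/

set_option autoImplicit false

namespace Cfsg.Agent.Lib.Helper23_LocalLayer

open Cfsg Cfsg.Agent.Lib.Helper49_CharP Cfsg.Agent.Lib.Helper23_Layer Cfsg.Agent.Lib.Helper23_PComp
  Cfsg.Agent.Lib.Helper23_CharP

/-- A perfect subgroup `J` lies in every subgroup `C` it normalizes that contains all the
`p'`-elements of `J`. -/
theorem perfect_le_of_coprime_mem {X : Type*} [Group X] [Finite X] (p : ℕ) [Fact p.Prime]
    (J C : Subgroup X) (hJ : ⁅J, J⁆ = J) (hC : J ≤ Subgroup.normalizer (C : Set X))
    (h : ∀ x ∈ J, (orderOf x).Coprime p → x ∈ C) : J ≤ C := by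
  have hp : p.Prime := Fact.out
  have : Group.IsPerfect ↥J := Subgroup.isPerfect_iff.mpr hJ
  have hn : (C.subgroupOf J).Normal := Subgroup.normal_subgroupOf_of_le_normalizer hC
  have hpq : IsPGroup p (↥J ⧸ C.subgroupOf J) := by
    intro g
    obtain ⟨x, rfl⟩ := QuotientGroup.mk_surjective g
    obtain ⟨k, m, hm, hkm⟩ :=
      Nat.exists_eq_pow_mul_and_not_dvd (orderOf_pos (x : X)).ne' p hp.ne_one
    refine ⟨k, ?_⟩
    rw [← QuotientGroup.mk_pow, QuotientGroup.eq_one_iff, Subgroup.mem_subgroupOf]
    have hx : ((x ^ p ^ k : ↥J) : X) = (x : X) ^ p ^ k := by simp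
    rw [hx]
    apply h _ (pow_mem x.2 _)
    have hord : orderOf ((x : X) ^ p ^ k) = m := by
      rw [orderOf_pow_of_dvd (pow_pos hp.pos k).ne' (by rw [hkm]; exact dvd_mul_right _ _), hkm,
        Nat.mul_div_cancel_left _ (pow_pos hp.pos k)]
    rw [hord]
    exact ((Nat.Prime.coprime_iff_not_dvd hp).mpr hm).symm
  by_cases hsub : Subsingleton (↥J ⧸ C.subgroupOf J)
  · have := QuotientGroup.subgroup_eq_top_of_subsingleton (C.subgroupOf J) hsub
    exact Subgroup.subgroupOf_eq_top.mp this
  · exfalso
    have : Nontrivial (↥J ⧸ C.subgroupOf J) := not_subsingleton_iff_nontrivial.mp hsub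
    have hnil : Group.IsNilpotent (↥J ⧸ C.subgroupOf J) := hpq.isNilpotent
    exact Group.IsPerfect.not_isSolvable (↥J ⧸ C.subgroupOf J) inferInstance

/-- A `p'`-element of `N_G(P)` commuting with `O_p(G) ∩ N_G(P)` and with `P` centralizes
`O_p(G)`. -/
theorem coe_mem_centralizer_pCore {G : Type*} [Group G] [Finite G] {p : ℕ} [Fact p.Prime]
    (P : Subgroup G) (hP : IsPGroup p P) (y : ↥(Subgroup.normalizer (P : Set G)))
    (hy : (orderOf y).Coprime p)
    (hyQ : ∀ r ∈ (pCore p G).subgroupOf (Subgroup.normalizer (P : Set G)), y * r = r * y)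
    (hyP : ∀ r ∈ P.subgroupOf (Subgroup.normalizer (P : Set G)), y * r = r * y) :
    (y : G) ∈ Subgroup.centralizer (pCore p G : Set G) := by
  have hQn : (pCore p G).Normal := pCoreNormal p G
  have hy' : (orderOf (y : G)).Coprime p := by rwa [Subgroup.orderOf_coe]
  rw [Subgroup.mem_centralizer_iff]
  intro q hq
  symm
  revert q
  apply pxq (pCore p G) P (pCore_isPGroup p G) hP
    (by rw [Subgroup.normalizer_eq_top]; exact le_top) (y : G) hy'
  · intro q hq
    exact hQn.conj_mem q hq _
  · intro b hb
    have := hyP ⟨b, Subgroup.le_normalizer hb⟩ (by rw [Subgroup.mem_subgroupOf]; exact hb)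
    exact congrArg Subtype.val this
  · intro q hq hqP
    have hqN : q ∈ Subgroup.normalizer (P : Set G) := by
      apply Subgroup.centralizer_le_normalizer
      rw [Subgroup.mem_centralizer_iff]
      intro b hb
      exact (hqP b hb).symm
    have := hyQ ⟨q, hqN⟩ (by rw [Subgroup.mem_subgroupOf]; exact hq)
    exact congrArg Subtype.val this

/-- A `p`-component centralizes every normal `p`-subgroup. -/
theorem pcomp_commutator_eq_bot {X : Type*} [Group X] [Finite X] (p : ℕ) [Fact p.Prime]
    {J : Subgroup X} (hJ : IsPComponent p J) (Z : Subgroup X) [hZn : Z.Normal] (hZ : IsPGroup p Z) :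
    ⁅J, Z⁆ = ⊥ := by
  have hZbar : (Z.map (QuotientGroup.mk' (pPrimeCore p X))).Normal :=
    Subgroup.Normal.map hZn _ (QuotientGroup.mk'_surjective _)
  have hsolv : Group.IsSolvable ↥(Z.map (QuotientGroup.mk' (pPrimeCore p X))) := by
    have : Group.IsNilpotent ↥(Z.map (QuotientGroup.mk' (pPrimeCore p X))) :=
      (hZ.map (QuotientGroup.mk' (pPrimeCore p X))).isNilpotent
    infer_instance
  have h1 := Cfsg.Agent.Lib.Helper21_Components.IsComponent.commutator_eq_bot_of_isSolvable
    hJ.2.1 hsolv (by rw [Subgroup.normalizer_eq_top]; exact le_top)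
  rw [← Subgroup.map_commutator, Subgroup.map_eq_bot_iff, QuotientGroup.ker_mk'] at h1
  have h2 : ⁅J, Z⁆ ≤ Z := Subgroup.commutator_le_right J Z
  have h3 := Cfsg.Agent.Lib.Helper23_PConstrained.pPrimeCore_inf_eq_bot (X := X) p hZ
  rw [← le_bot_iff, ← h3]
  exact le_inf h1 h2

/-- Aschbacher 31.14: for a `p`-subgroup `P` and `N = N_G(P)`, the preimage in `N` of
`E(N / O_{p'}(N))` centralizes `O_p(G)`. -/
theorem comap_layer_le_centralizer_pCore {G : Type*} [Group G] [Finite G] (p : ℕ) [Fact p.Prime]
    (P : Subgroup G) (hP : IsPGroup p P) :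
    ((layer (↥(Subgroup.normalizer (P : Set G)) ⧸
        pPrimeCore p ↥(Subgroup.normalizer (P : Set G)))).comap
      (QuotientGroup.mk' (pPrimeCore p ↥(Subgroup.normalizer (P : Set G))))).map
        (Subgroup.normalizer (P : Set G)).subtype ≤ Subgroup.centralizer (pCore p G : Set G) := by
  have hQn : (pCore p G).Normal := pCoreNormal p G
  have hQ0p : IsPGroup p ↥((pCore p G).subgroupOf (Subgroup.normalizer (P : Set G))) :=
    (pCore_isPGroup p G).comap_subtype
  have hP0p : IsPGroup p ↥(P.subgroupOf (Subgroup.normalizer (P : Set G))) := hP.comap_subtype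
  have hP0n : (P.subgroupOf (Subgroup.normalizer (P : Set G))).Normal :=
    Subgroup.normal_in_normalizer
  rw [Subgroup.map_le_iff_le_comap, ← pLayer_map_eq_layer, Subgroup.comap_map_eq,
    QuotientGroup.ker_mk']
  apply sup_le
  · -- the `p`-components
    unfold pLayer
    rw [sSup_le_iff]
    intro J hJ
    have hJ' : IsPComponent p J := hJ
    apply perfect_le_of_coprime_mem p J _ (pcomp_perfect p hJ')
    · have : ((Subgroup.centralizer (pCore p G : Set G)).comap
          (Subgroup.normalizer (P : Set G)).subtype).Normal :=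
        Subgroup.Normal.comap Subgroup.normal_centralizer _
      rw [Subgroup.normalizer_eq_top_iff.mpr this]
      exact le_top
    · intro y hy hyo
      rw [Subgroup.mem_comap]
      apply coe_mem_centralizer_pCore P hP y hyo
      · intro r hr
        have h := pcomp_commutator_eq_bot p hJ' _ hQ0p
        rw [Subgroup.commutator_eq_bot_iff_le_centralizer] at h
        exact (Subgroup.mem_centralizer_iff.mp (h hy) r hr).symm
      · intro r hr
        have h := pcomp_commutator_eq_bot p hJ' _ hP0p
        rw [Subgroup.commutator_eq_bot_iff_le_centralizer] at h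
        exact (Subgroup.mem_centralizer_iff.mp (h hy) r hr).symm
  · -- the `p'`-core
    intro y hy
    rw [Subgroup.mem_comap]
    have hyo : (orderOf y).Coprime p :=
      Nat.Coprime.coprime_dvd_left (orderOf_dvd_card_subgroup hy) (pPrimeCore_coprime p)
    apply coe_mem_centralizer_pCore P hP y hyo
    · intro r hr
      have hd : Disjoint (pPrimeCore p ↥(Subgroup.normalizer (P : Set G)))
          ((pCore p G).subgroupOf (Subgroup.normalizer (P : Set G))) := by
        rw [disjoint_iff]
        exact Cfsg.Agent.Lib.Helper23_PConstrained.pPrimeCore_inf_eq_bot p hQ0p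
      exact Subgroup.commute_of_normal_of_disjoint _ _ inferInstance inferInstance hd y r hy hr
    · intro r hr
      have hd : Disjoint (pPrimeCore p ↥(Subgroup.normalizer (P : Set G)))
          (P.subgroupOf (Subgroup.normalizer (P : Set G))) := by
        rw [disjoint_iff]
        exact Cfsg.Agent.Lib.Helper23_PConstrained.pPrimeCore_inf_eq_bot p hP0p
      exact Subgroup.commute_of_normal_of_disjoint _ _ inferInstance hP0n hd y r hy hr

/-- A subnormal subgroup of `N` lying in a subnormal subgroup `C ≤ N` of `G` is subnormal in `G`. -/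
theorem isSubnormal_map_subtype_of_le {G : Type*} [Group G] {N C : Subgroup G} (hCN : C ≤ N)
    (hC : C.IsSubnormal) {L : Subgroup ↥N} (hL : L.IsSubnormal) (hLC : L.map N.subtype ≤ C) :
    (L.map N.subtype).IsSubnormal := by
  have h1 : (L.comap (Subgroup.inclusion hCN)).IsSubnormal := hL.comap _
  have h2 : L.comap (Subgroup.inclusion hCN) = (L.map N.subtype).subgroupOf C := by
    ext c
    rw [Subgroup.mem_comap, Subgroup.mem_subgroupOf]
    constructor
    · intro h
      exact ⟨_, h, rfl⟩
    · rintro ⟨n, hn, hnc⟩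
      have : n = Subgroup.inclusion hCN c := Subtype.ext hnc
      rwa [← this]
  rw [h2] at h1
  exact Subgroup.IsSubnormal.trans hLC h1 hC

/-- Every component of `N_G(P)` centralizes `O_p(G)` (`P` a `p`-subgroup). -/
theorem component_normalizer_le_centralizer_pCore {G : Type*} [Group G] [Finite G] (p : ℕ)
    [Fact p.Prime] (P : Subgroup G) (hP : IsPGroup p P)
    {L : Subgroup ↥(Subgroup.normalizer (P : Set G))} (hL : IsComponent L) :
    L.map (Subgroup.normalizer (P : Set G)).subtype ≤ Subgroup.centralizer (pCore p G : Set G) := by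
  have hQn : (pCore p G).Normal := pCoreNormal p G
  have hQ0p : IsPGroup p ↥((pCore p G).subgroupOf (Subgroup.normalizer (P : Set G))) :=
    (pCore_isPGroup p G).comap_subtype
  have hP0p : IsPGroup p ↥(P.subgroupOf (Subgroup.normalizer (P : Set G))) := hP.comap_subtype
  have hP0n : (P.subgroupOf (Subgroup.normalizer (P : Set G))).Normal :=
    Subgroup.normal_in_normalizer
  have hQ0s : Group.IsSolvable ↥((pCore p G).subgroupOf (Subgroup.normalizer (P : Set G))) := by
    have : Group.IsNilpotent ↥((pCore p G).subgroupOf (Subgroup.normalizer (P : Set G))) :=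
      hQ0p.isNilpotent
    infer_instance
  have hP0s : Group.IsSolvable ↥(P.subgroupOf (Subgroup.normalizer (P : Set G))) := by
    have : Group.IsNilpotent ↥(P.subgroupOf (Subgroup.normalizer (P : Set G))) := hP0p.isNilpotent
    infer_instance
  rw [Subgroup.map_le_iff_le_comap]
  apply perfect_le_of_coprime_mem p L _
    (Cfsg.Agent.Lib.Helper21_Components.IsComponent.commutator_self hL)
  · have : ((Subgroup.centralizer (pCore p G : Set G)).comap
        (Subgroup.normalizer (P : Set G)).subtype).Normal :=
      Subgroup.Normal.comap Subgroup.normal_centralizer _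
    rw [Subgroup.normalizer_eq_top_iff.mpr this]
    exact le_top
  · intro y hy hyo
    rw [Subgroup.mem_comap]
    apply coe_mem_centralizer_pCore P hP y hyo
    · intro r hr
      have h := Cfsg.Agent.Lib.Helper21_Components.IsComponent.commutator_eq_bot_of_isSolvable
        hL hQ0s (by
          rw [Subgroup.normalizer_eq_top_iff.mpr
            (inferInstance : ((pCore p G).subgroupOf (Subgroup.normalizer (P : Set G))).Normal)]
          exact le_top)
      rw [Subgroup.commutator_eq_bot_iff_le_centralizer] at h
      exact (Subgroup.mem_centralizer_iff.mp (h hy) r hr).symm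
    · intro r hr
      have h := Cfsg.Agent.Lib.Helper21_Components.IsComponent.commutator_eq_bot_of_isSolvable
        hL hP0s (by
          rw [Subgroup.normalizer_eq_top_iff.mpr hP0n]
          exact le_top)
      rw [Subgroup.commutator_eq_bot_iff_le_centralizer] at h
      exact (Subgroup.mem_centralizer_iff.mp (h hy) r hr).symm

/-- `E(N_G(P)) = E(G)` for `P ≤ O_p(G)`. -/
theorem layer_normalizer_eq {G : Type*} [Group G] [Finite G] (p : ℕ) [Fact p.Prime]
    (P : Subgroup G) (hP : P ≤ pCore p G) :
    (layer ↥(Subgroup.normalizer (P : Set G))).map (Subgroup.normalizer (P : Set G)).subtype =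
      layer G := by
  have hQn : (pCore p G).Normal := pCoreNormal p G
  have hPp : IsPGroup p P := (pCore_isPGroup p G).to_le hP
  have hCN : Subgroup.centralizer (pCore p G : Set G) ≤ Subgroup.normalizer (P : Set G) :=
    (Subgroup.centralizer_le hP).trans (Subgroup.centralizer_le_normalizer _)
  have hCn : (Subgroup.centralizer (pCore p G : Set G)).Normal := Subgroup.normal_centralizer
  apply le_antisymm
  · unfold layer
    rw [(Subgroup.gc_map_comap (Subgroup.normalizer (P : Set G)).subtype).l_sSup]
    apply iSup₂_le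
    intro L hL
    have hL' : IsComponent L := hL
    apply le_sSup
    refine ⟨isSubnormal_map_subtype_of_le hCN hCn.isSubnormal hL'.1
        (component_normalizer_le_centralizer_pCore p P hPp hL'), ?_⟩
    exact Cfsg.Agent.Lib.Helper29_Local.isQuasisimple_of_mulEquiv
      (L.equivMapOfInjective _ (Subgroup.subtype_injective _)) hL'.2
  · rw [Cfsg.Agent.Lib.Helper22_Layer.layer_le_iff]
    intro L hL
    have hsolv : Group.IsSolvable ↥(pCore p G) := by
      have : Group.IsNilpotent ↥(pCore p G) := (pCore_isPGroup p G).isNilpotent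
      infer_instance
    have h := Cfsg.Agent.Lib.Helper21_Components.IsComponent.commutator_eq_bot_of_isSolvable
      hL hsolv (by rw [Subgroup.normalizer_eq_top_iff.mpr hQn]; exact le_top)
    rw [Subgroup.commutator_eq_bot_iff_le_centralizer] at h
    have hLN : L ≤ Subgroup.normalizer (P : Set G) := h.trans hCN
    have hcomp := Cfsg.Agent.Lib.Helper22_Layer.IsComponent.subgroupOf' hL hLN
    have := Subgroup.map_mono (f := (Subgroup.normalizer (P : Set G)).subtype)
      (Cfsg.Agent.Lib.Helper29_Local.IsComponent.le_layer hcomp)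
    rwa [Subgroup.map_subgroupOf_eq_of_le hLN] at this

end Cfsg.Agent.Lib.Helper23_LocalLayer
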