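import Mathlib
import Cfsg.Agent.Lib.Helper23_LocalLayer

/-!
# An abstract, quotient-free form of "`p`-component" (helper31)

`PQ p J`: the subgroup `J` is perfect and every `J`-invariant subgroup `N ≤ J` is either `J` or
has `[N, J]` of order prime to `p`.  Every `p`-component satisfies `PQ`, `PQ` is preserved by
arbitrary homomorphic images and reflected by injective maps, and a subnormal `PQ`-subgroup `J`
of a finite group `H` satisfies the usual dichotomy: for `N` normal in `H`, either `J ≤ N` or
`[N, J] ≤ O_{p'}(H)`.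
-/

set_option autoImplicit false

universe u

namespace Cfsg.Agent.Lib.Helper31_PQ

open Cfsg Cfsg.Agent.Lib.Helper23_Layer Cfsg.Agent.Lib.Helper23_PComp
open scoped commutatorElement

/-- `J` is perfect and every `J`-invariant subgroup `N ≤ J` is `J` or has `[N, J]` a `p'`-group. -/
def PQ (p : ℕ) {G : Type*} [Group G] (J : Subgroup G) : Prop :=
  ⁅J, J⁆ = J ∧ ∀ N : Subgroup G, N ≤ J → J ≤ Subgroup.normalizer (N : Set G) →
    N = J ∨ (Nat.card ↥⁅N, J⁆).Coprime p

theorem PQ.perfect {p : ℕ} {G : Type*} [Group G] {J : Subgroup G} (h : PQ p J) : ⁅J, J⁆ = J := h.1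

/-- A `p`-component satisfies `PQ`. -/
theorem PQ.of_isPComponent {X : Type*} [Group X] [Finite X] (p : ℕ) [Fact p.Prime]
    {K : Subgroup X} (hK : IsPComponent p K) : PQ p K := by
  refine ⟨pcomp_perfect p hK, ?_⟩
  intro N hNK hKN
  have hNn : (N.subgroupOf K).Normal := (Subgroup.normal_subgroupOf_iff_le_normalizer hNK).mpr hKN
  have hNsn : N.IsSubnormal := Subgroup.IsSubnormal.trans hNK hNn.isSubnormal hK.1
  set π := QuotientGroup.mk' (pPrimeCore p X) with hπ
  have hbarle : N.map π ≤ K.map π := Subgroup.map_mono hNK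
  have hbarn : K.map π ≤ Subgroup.normalizer ((N.map π : Subgroup _) : Set _) :=
    (Subgroup.map_mono hKN).trans (Subgroup.le_normalizer_map π)
  have hbarN : ((N.map π).subgroupOf (K.map π)).Normal :=
    (Subgroup.normal_subgroupOf_iff_le_normalizer hbarle).mpr hbarn
  rcases Cfsg.Agent.Lib.Helper21_Components.IsQuasisimple.normal_eq_top_or_le_center hK.2.1.2
    ((N.map π).subgroupOf (K.map π)) with h | h
  · left
    rw [Subgroup.subgroupOf_eq_top] at h
    exact hK.2.2 N hNsn hNK (le_antisymm hbarle h)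
  · right
    have hle : ⁅N, K⁆ ≤ pPrimeCore p X := by
      rw [Subgroup.commutator_le]
      intro n hn k hk
      have hn' : π n ∈ N.map π := ⟨n, hn, rfl⟩
      have hk' : π k ∈ K.map π := ⟨k, hk, rfl⟩
      have hc : (⟨π n, hbarle hn'⟩ : ↥(K.map π)) ∈ Subgroup.center ↥(K.map π) :=
        h (by rw [Subgroup.mem_subgroupOf]; exact hn')
      have hcomm := Subgroup.mem_center_iff.mp hc ⟨π k, hk'⟩
      have hcomm' : π k * π n = π n * π k := congrArg Subtype.val hcomm
      have : π ⁅n, k⁆ = 1 := by
        rw [map_commutatorElement, commutatorElement_eq_one_iff_commute]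
        exact hcomm'.symm
      rw [hπ, QuotientGroup.mk'_apply, QuotientGroup.eq_one_iff] at this
      exact this
    exact Nat.Coprime.coprime_dvd_left (Subgroup.card_dvd_of_le hle) (pPrimeCore_coprime p)

/-- `PQ` passes to homomorphic images. -/
theorem PQ.map {p : ℕ} {G H : Type*} [Group G] [Group H] [Finite G] (f : G →* H) {J : Subgroup G}
    (h : PQ p J) : PQ p (J.map f) := by
  refine ⟨by rw [← Subgroup.map_commutator, h.1], ?_⟩
  intro Nb hNb hJNb
  have hN1 : J ⊓ Nb.comap f ≤ J := inf_le_left
  have hN2 : J ≤ Subgroup.normalizer ((J ⊓ Nb.comap f : Subgroup G) : Set G) := by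
    intro j hj
    rw [Subgroup.mem_normalizer_iff]
    intro n
    have hfj : f j ∈ Subgroup.normalizer (Nb : Set H) := hJNb ⟨j, hj, rfl⟩
    rw [Subgroup.mem_normalizer_iff] at hfj
    rw [Subgroup.mem_inf, Subgroup.mem_inf, Subgroup.mem_comap, Subgroup.mem_comap]
    constructor
    · rintro ⟨hn1, hn2⟩
      refine ⟨mul_mem (mul_mem hj hn1) (inv_mem hj), ?_⟩
      rw [map_mul, map_mul, map_inv]
      exact (hfj (f n)).mp hn2
    · rintro ⟨hn1, hn2⟩
      refine ⟨?_, ?_⟩
      · have : n = j⁻¹ * (j * n * j⁻¹) * j := by group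
        rw [this]
        exact mul_mem (mul_mem (inv_mem hj) hn1) hj
      · rw [map_mul, map_mul, map_inv] at hn2
        exact (hfj (f n)).mpr hn2
  have hmap : (J ⊓ Nb.comap f).map f = Nb := by
    ext x
    constructor
    · rintro ⟨n, hn, rfl⟩
      exact hn.2
    · intro hx
      obtain ⟨j, hj, rfl⟩ := hNb hx
      exact ⟨j, ⟨hj, hx⟩, rfl⟩
  rcases h.2 _ hN1 hN2 with h1 | h1
  · left
    rw [← hmap, h1]
  · right
    rw [← hmap, ← Subgroup.map_commutator]
    exact Nat.Coprime.coprime_dvd_left (Subgroup.card_map_dvd _ _) h1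

/-- `PQ` is reflected by injective homomorphisms. -/
theorem PQ.of_map_injective {p : ℕ} {G H : Type*} [Group G] [Group H] (f : G →* H)
    (hf : Function.Injective f) {J : Subgroup G} (h : PQ p (J.map f)) : PQ p J := by
  refine ⟨Subgroup.map_injective hf (by rw [Subgroup.map_commutator, h.1]), ?_⟩
  intro N hNJ hJN
  rcases h.2 (N.map f) (Subgroup.map_mono hNJ)
      ((Subgroup.map_mono hJN).trans (Subgroup.le_normalizer_map f)) with h1 | h1
  · left
    exact Subgroup.map_injective hf h1
  · right
    rw [← Subgroup.map_commutator, Subgroup.card_map_of_injective hf] at h1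
    exact h1

theorem PQ.subgroupOf {p : ℕ} {G : Type*} [Group G] {J M : Subgroup G} (hJM : J ≤ M)
    (h : PQ p J) : PQ p (J.subgroupOf M) := by
  apply PQ.of_map_injective M.subtype (Subgroup.subtype_injective M)
  rw [Subgroup.map_subgroupOf_eq_of_le hJM]
  exact h

theorem PQ.of_subgroupOf {p : ℕ} {G : Type*} [Group G] [Finite G] {J M : Subgroup G} (hJM : J ≤ M)
    (h : PQ p (J.subgroupOf M)) : PQ p J := by
  have := PQ.map M.subtype h
  rwa [Subgroup.map_subgroupOf_eq_of_le hJM] at this

/-- A nilpotent (e.g. `p`-group) `PQ`-subgroup is trivial. -/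
theorem PQ.eq_bot_of_isNilpotent {p : ℕ} {G : Type*} [Group G] {J : Subgroup G} (h : PQ p J)
    (hn : Group.IsNilpotent ↥J) : J = ⊥ := by
  have hperf : Group.IsPerfect ↥J := Subgroup.isPerfect_iff.mpr h.1
  by_contra hne
  have : Nontrivial ↥J := (Subgroup.nontrivial_iff_ne_bot J).mpr hne
  exact Group.IsPerfect.not_isSolvable ↥J inferInstance

theorem dichotomy_aux (p : ℕ) [Fact p.Prime] : ∀ n : ℕ, ∀ (H : Type u) [Group H] [Finite H],
    Nat.card H ≤ n → ∀ J : Subgroup H, J.IsSubnormal → PQ p J → ∀ N : Subgroup H, N.Normal →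
      J ≤ N ∨ ⁅N, J⁆ ≤ pPrimeCore p H := by
  intro n
  induction n with
  | zero =>
    intro H _ _ hcard
    exact absurd hcard (by have := Nat.card_pos (α := H); omega)
  | succ n ih =>
    intro H _ _ hcard J hJ hPQ N hN
    by_cases hJtop : J = ⊤
    · subst hJtop
      rcases hPQ.2 N le_top (by rw [Subgroup.normalizer_eq_top_iff.mpr hN]) with h | h
      · left; rw [h]
      · right
        exact le_pPrimeCore (Subgroup.commutator_normal N ⊤) h
    · obtain ⟨M, hMn, hJM, hMlt⟩ := hJ.exists_normal_and_le_and_lt_top_of_ne hJtop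
      have hMcard : Nat.card ↥M ≤ n := by
        have h1 : Nat.card ↥M < Nat.card H := by
          have hne : M ≠ ⊤ := hMlt.ne
          exact Cfsg.Agent.Lib.Helper21_Components.card_lt_of_ne_top hne
        omega
      have hNM : (N.subgroupOf M).Normal := hN.subgroupOf M
      rcases ih ↥M hMcard (J.subgroupOf M) hJ.subgroupOf (hPQ.subgroupOf hJM) (N.subgroupOf M) hNM
        with h | h
      · left
        intro j hj
        have := h (show (⟨j, hJM hj⟩ : ↥M) ∈ J.subgroupOf M by rw [Subgroup.mem_subgroupOf]; exact hj)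
        rwa [Subgroup.mem_subgroupOf] at this
      · right
        set D := pPrimeCore p H with hD
        have hDn : D.Normal := Cfsg.pPrimeCore_normal p H
        -- `O_{p'}(M) ≤ O_{p'}(H)`
        have hcoreM : (pPrimeCore p ↥M).map M.subtype ≤ D := by
          apply subnormal_coprime_le_pPrimeCore p
          · exact Subgroup.IsSubnormal.trans' (Cfsg.pPrimeCore_normal p ↥M).isSubnormal
              hMn.isSubnormal
          · rw [Subgroup.card_map_of_injective (Subgroup.subtype_injective M)]
            exact pPrimeCore_coprime p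
        have ha : ⁅N ⊓ M, J⁆ ≤ D := by
          rw [Subgroup.commutator_le]
          intro x hx j hj
          apply hcoreM
          refine ⟨⁅(⟨x, hx.2⟩ : ↥M), (⟨j, hJM hj⟩ : ↥M)⁆, ?_, ?_⟩
          · apply h
            apply Subgroup.commutator_mem_commutator
            · rw [Subgroup.mem_subgroupOf]; exact hx.1
            · rw [Subgroup.mem_subgroupOf]; exact hj
          · simp [commutatorElement_def]
        have hb : ⁅N, J⁆ ≤ N ⊓ M :=
          (Subgroup.commutator_mono le_rfl hJM).trans (Subgroup.commutator_le_inf N M)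
        have hc : ⁅⁅N, J⁆, J⁆ ≤ D := (Subgroup.commutator_mono hb le_rfl).trans ha
        -- pass to `H ⧸ D`
        set π := QuotientGroup.mk' D with hπ
        have hc' : ⁅⁅N.map π, J.map π⁆, J.map π⁆ = ⊥ := by
          rw [← Subgroup.map_commutator, ← Subgroup.map_commutator, Subgroup.map_eq_bot_iff,
            QuotientGroup.ker_mk']
          exact hc
        have hperf : ⁅J.map π, J.map π⁆ = J.map π := by
          rw [← Subgroup.map_commutator, hPQ.1]
        have := Cfsg.Agent.Lib.Helper21_Components.commutator_eq_bot_of_perfect hperf hc'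
        rw [Subgroup.commutator_comm, ← Subgroup.map_commutator, Subgroup.map_eq_bot_iff,
          QuotientGroup.ker_mk'] at this
        exact this

/-- The dichotomy: a subnormal `PQ`-subgroup `J` of `H` and a normal subgroup `N` of `H` satisfy
`J ≤ N` or `[N, J] ≤ O_{p'}(H)`. -/
theorem PQ.le_or_commutator_le {p : ℕ} [Fact p.Prime] {H : Type u} [Group H] [Finite H]
    {J : Subgroup H} (hPQ : PQ p J) (hJ : J.IsSubnormal) (N : Subgroup H) [hN : N.Normal] :
    J ≤ N ∨ ⁅N, J⁆ ≤ pPrimeCore p H :=
  dichotomy_aux p _ H le_rfl J hJ hPQ N hN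

end Cfsg.Agent.Lib.Helper31_PQ
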