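import Mathlib
import Cfsg.Agent.Lib.Helper31_PQ
import Cfsg.Agent.Lib.Helper31_Schreier
import Cfsg.Agent.Lib.Helper21_FStar
import Cfsg.Agent.Lib.Helper33_Alperin
import Cfsg.Agent.Lib.Helper22_Cores

/-!
# `L_{p'}`-balance under the Schreier property (helper31)
-/

set_option autoImplicit false

universe u

namespace Cfsg.Agent.Lib.Helper31_LBalance

open Cfsg Cfsg.Agent.Lib.Helper23_Layer Cfsg.Agent.Lib.Helper23_PComp
  Cfsg.Agent.Lib.Helper31_PQ
open scoped commutatorElement

/-! ### generalities -/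

/-- If `O_{p'}(G) = 1` then `F(G) ≤ O_p(G)`. -/
theorem fitting_le_pCore {G : Type*} [Group G] [Finite G] (p : ℕ) [Fact p.Prime]
    (h0 : pPrimeCore p G = ⊥) : fittingSubgroup G ≤ pCore p G := by
  rw [Cfsg.Agent.Lib.Helper1_Cores.fittingSubgroup_eq_iSup_pCore]
  refine iSup_le (fun q => ?_)
  by_cases hq : (q : ℕ) = p
  · rw [hq]
  · have : Fact (q : ℕ).Prime := ⟨q.2⟩
    have h1 : pCore (q : ℕ) G ≤ pPrimeCore p G :=
      le_pPrimeCore (Cfsg.Agent.Lib.Helper1_Cores.pCore_normal (q : ℕ))
        (Cfsg.Agent.Lib.Helper1_Cores.pCore_card_coprime hq)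
    rw [h0] at h1
    exact h1.trans bot_le

theorem subnormal_subgroupOf_of_le {G : Type*} [Group G] {J C Y : Subgroup G} (hCY : C ≤ Y)
    (h : (J.subgroupOf Y).IsSubnormal) : (J.subgroupOf C).IsSubnormal := by
  have h1 := h.comap (Subgroup.inclusion hCY)
  have h2 : (J.subgroupOf Y).comap (Subgroup.inclusion hCY) = J.subgroupOf C := by
    ext c
    rw [Subgroup.mem_comap, Subgroup.mem_subgroupOf, Subgroup.mem_subgroupOf]
    rfl
  rwa [h2] at h1

theorem subnormal_subgroupOf_trans {G : Type*} [Group G] {J C Y : Subgroup G} (hJC : J ≤ C)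
    (hCY : C ≤ Y) (h1 : (J.subgroupOf C).IsSubnormal) (h2 : (C.subgroupOf Y).IsSubnormal) :
    (J.subgroupOf Y).IsSubnormal := by
  have hle : J.subgroupOf Y ≤ C.subgroupOf Y := by
    intro y hy
    rw [Subgroup.mem_subgroupOf] at hy ⊢
    exact hJC hy
  refine Subgroup.IsSubnormal.trans hle ?_ h2
  have h3 := h1.comap (Subgroup.subgroupOfEquivOfLe hCY).toMonoidHom
  have h4 : (J.subgroupOf C).comap (Subgroup.subgroupOfEquivOfLe hCY).toMonoidHom =
      (J.subgroupOf Y).subgroupOf (C.subgroupOf Y) := by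
    ext c
    rw [Subgroup.mem_comap, Subgroup.mem_subgroupOf, Subgroup.mem_subgroupOf,
      Subgroup.mem_subgroupOf]
    rfl
  rwa [h4] at h3

/-- If `P` normalizes `T` then every element of `P ⊔ T` is a product `x * t`. -/
theorem exists_mul_of_mem_sup {G : Type*} [Group G] {P T : Subgroup G}
    (hPT : P ≤ Subgroup.normalizer (T : Set G)) {r : G} (hr : r ∈ P ⊔ T) :
    ∃ x ∈ P, ∃ t ∈ T, r = x * t := by
  let S : Subgroup G :=
    { carrier := {g | ∃ x ∈ P, ∃ t ∈ T, g = x * t}
      one_mem' := ⟨1, one_mem _, 1, one_mem _, by simp⟩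
      mul_mem' := by
        rintro _ _ ⟨x, hx, t, ht, rfl⟩ ⟨x', hx', t', ht', rfl⟩
        refine ⟨x * x', mul_mem hx hx', (x'⁻¹ * t * x') * t', mul_mem ?_ ht', by group⟩
        have := (Subgroup.mem_normalizer_iff.mp (hPT (inv_mem hx')) t).mp ht
        simpa using this
      inv_mem' := by
        rintro _ ⟨x, hx, t, ht, rfl⟩
        refine ⟨x⁻¹, inv_mem hx, x * t⁻¹ * x⁻¹, ?_, by group⟩
        exact (Subgroup.mem_normalizer_iff.mp (hPT hx) t⁻¹).mp (inv_mem ht) }
  have hle : P ⊔ T ≤ S := by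
    apply sup_le
    · intro x hx
      exact ⟨x, hx, 1, one_mem _, by simp⟩
    · intro t ht
      exact ⟨1, one_mem _, t, ht, by simp⟩
  exact hle hr

theorem cj_mul' {G : Type*} [Group G] (a b : G) (A : Subgroup G) :
    cj (a * b) A = cj a (cj b A) := Cfsg.Agent.Lib.Helper23_Locals.cj_mul a b A

theorem cj_one {G : Type*} [Group G] (A : Subgroup G) : cj 1 A = A := by
  ext x
  rw [mem_cj]
  simp

theorem isComponent_cj {G : Type*} [Group G] (g : G) {K : Subgroup G} (hK : IsComponent K) :
    IsComponent (cj g K) :=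
  Cfsg.Agent.Lib.Helper29_Local.isComponent_map_mulEquiv (MulAut.conj g) hK

theorem cj_iSup {G : Type*} [Group G] {ι : Sort*} (g : G) (A : ι → Subgroup G) :
    cj g (⨆ i, A i) = ⨆ i, cj g (A i) := Subgroup.map_iSup _ _

theorem cj_iSup_cj {G : Type*} [Group G] (P : Subgroup G) (K : Subgroup G) {y : G} (hy : y ∈ P) :
    cj y (⨆ x : P, cj (x : G) K) = ⨆ x : P, cj (x : G) K := by
  rw [cj_iSup]
  have h1 : ∀ x : P, cj y (cj (x : G) K) = cj (((Equiv.mulLeft (⟨y, hy⟩ : P)) x : P) : G) K := by
    intro x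
    rw [← cj_mul']
    rfl
  rw [iSup_congr h1]
  exact (Equiv.mulLeft (⟨y, hy⟩ : P)).iSup_comp (g := fun x : P => cj (x : G) K)

/-! ### normalizing the components -/

/-- Let `O_{p'}(G) = 1`, `P` a `p`-subgroup containing `O_p(G)`, `g` a `p'`-element centralizing `P`
such that `[t, g]` lies in a fixed `p'`-subgroup `D` for all `t ∈ E(G) ∩ N_G(P)`.  Then `g`
normalizes every component of `G`. -/
theorem mem_normalizer_component {G : Type u} [Group G] [Finite G] {p : ℕ} [Fact p.Prime]
    (h0 : pPrimeCore p G = ⊥) (P : Subgroup G) (hP : IsPGroup p P) (hFP : pCore p G ≤ P)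
    (D : Subgroup G) (hD : (Nat.card D).Coprime p)
    (g : G) (hgP : g ∈ Subgroup.centralizer (P : Set G)) (hgo : (orderOf g).Coprime p)
    (hgt : ∀ t ∈ layer G ⊓ Subgroup.normalizer (P : Set G), ⁅t, g⁆ ∈ D)
    {K : Subgroup G} (hK : IsComponent K) : g ∈ Subgroup.normalizer (K : Set G) := by
  have hp : p.Prime := Fact.out
  set M : Subgroup G := ⨆ x : P, cj (x : G) K with hM
  have hcomp : ∀ x : G, IsComponent (cj x K) := fun x => isComponent_cj x hK
  have hKM : K ≤ M := by
    have := le_iSup (fun x : P => cj (x : G) K) 1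
    simpa [cj_one] using this
  have hME : M ≤ layer G :=
    iSup_le fun x => Cfsg.Agent.Lib.Helper29_Local.IsComponent.le_layer (hcomp x)
  have hEM : layer G ≤ Subgroup.normalizer (M : Set G) := by
    intro e he
    apply mem_normalizer_of_cj_eq
    rw [hM, cj_iSup]
    apply iSup_congr
    intro x
    exact cj_eq_of_mem_normalizer
      (Cfsg.Agent.Lib.Helper22_Layer.IsComponent.le_normalizer_layer (hcomp x) he)
  have hMsn : M.IsSubnormal := by
    have h1 : (M.subgroupOf (layer G)).Normal :=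
      (Subgroup.normal_subgroupOf_iff_le_normalizer hME).mpr hEM
    exact Subgroup.IsSubnormal.trans hME h1.isSubnormal
      (Cfsg.Agent.Lib.Helper29_Local.layer_normal G).isSubnormal
  have hPM : P ≤ Subgroup.normalizer (M : Set G) := by
    intro y hy
    apply mem_normalizer_of_cj_eq
    rw [hM]
    exact cj_iSup_cj P K hy
  have hMperf : ⁅M, M⁆ = M := by
    apply le_antisymm (Cfsg.Agent.Lib.Helper21_Fitting.commutator_self_le M)
    rw [hM]
    apply iSup_le
    intro x
    calc cj (x : G) K = ⁅cj (x : G) K, cj (x : G) K⁆ :=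
          (Cfsg.Agent.Lib.Helper21_Components.IsComponent.commutator_self (hcomp x)).symm
      _ ≤ _ := Subgroup.commutator_mono (le_iSup (fun x : P => cj (x : G) K) x)
          (le_iSup (fun x : P => cj (x : G) K) x)
  have hpM : p ∣ Nat.card M :=
    dvd_trans (component_dvd_card p h0 hK) (Subgroup.card_dvd_of_le hKM)
  obtain ⟨Q, hPQ⟩ := hP.exists_le_sylow
  set T : Subgroup G := (Q : Subgroup G) ⊓ M with hT
  have hTidx : ¬ p ∣ T.relIndex M := by
    have := not_dvd_relIndex_of_subnormal p (Q : Subgroup G) Q.not_dvd_index hMsn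
    rwa [hT, Subgroup.inf_relIndex_right]
  have hTnc : ¬ T ≤ Subgroup.centralizer (M : Set G) := by
    intro hTc
    have hperf' : Group.IsPerfect ↥M := Subgroup.isPerfect_iff.mpr hMperf
    have hle : T.subgroupOf M ≤ Subgroup.center ↥M := by
      intro m hm
      rw [Subgroup.mem_subgroupOf] at hm
      rw [Subgroup.mem_center_iff]
      intro m'
      have := Subgroup.mem_centralizer_iff.mp (hTc hm) m' m'.2
      exact Subtype.ext this
    have hidx : ((Subgroup.center ↥M).index).Coprime p := by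
      have h1 : (Subgroup.center ↥M).index ∣ (T.subgroupOf M).index :=
        Subgroup.index_dvd_of_le hle
      have h2 : ¬ p ∣ (Subgroup.center ↥M).index := fun h => hTidx (dvd_trans h h1)
      exact ((Nat.Prime.coprime_iff_not_dvd hp).mpr h2).symm
    exact not_dvd_card_of_perfect_of_center_index p hperf' hidx hpM
  have hTp : IsPGroup p T := Q.isPGroup'.to_le inf_le_left
  have hPT : P ≤ Subgroup.normalizer (T : Set G) := by
    intro y hy
    apply mem_normalizer_of_cj_eq
    rw [hT, cj, Subgroup.map_inf _ _ _ (MulAut.conj y).injective]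
    have h1 : cj y (Q : Subgroup G) = Q := cj_eq_of_mem (hPQ hy)
    have h2 : cj y M = M := cj_eq_of_mem_normalizer (hPM hy)
    rw [cj] at h1 h2
    rw [h1, h2]
  obtain ⟨t, htM, htN, htp, htc⟩ : ∃ t, t ∈ M ∧ t ∈ Subgroup.normalizer (P : Set G) ∧
      (∃ k : ℕ, t ^ p ^ k = 1) ∧ t ∉ Subgroup.centralizer (M : Set G) := by
    have hpow : ∀ t ∈ T, ∃ k : ℕ, t ^ p ^ k = 1 := by
      intro t ht
      obtain ⟨k, hk⟩ := hTp ⟨t, ht⟩
      exact ⟨k, by simpa using congrArg Subtype.val hk⟩
    by_cases hTP : T ≤ P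
    · obtain ⟨t, htT, htc⟩ := SetLike.not_le_iff_exists.mp hTnc
      exact ⟨t, htT.2, Subgroup.le_normalizer (hTP htT), hpow t htT, htc⟩
    · have hlt : P < P ⊔ T :=
        lt_of_le_of_ne le_sup_left (fun h => hTP (h ▸ le_sup_right))
      have hRp : IsPGroup p (P ⊔ T : Subgroup G) := Q.isPGroup'.to_le (sup_le hPQ inf_le_left)
      have h2 := Cfsg.Agent.Lib.Helper33_Alperin.lt_inf_normalizer hRp hlt
      obtain ⟨r, hr, hrP⟩ := SetLike.exists_of_lt h2
      obtain ⟨x, hx, t, ht, rfl⟩ := exists_mul_of_mem_sup hPT hr.1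
      have htN : t ∈ Subgroup.normalizer (P : Set G) := by
        have : t = x⁻¹ * (x * t) := by group
        rw [this]
        exact mul_mem (inv_mem (Subgroup.le_normalizer hx)) hr.2
      have htP : t ∉ P := fun h => hrP (mul_mem hx h)
      refine ⟨t, ht.2, htN, hpow t ht, ?_⟩
      intro htc
      apply htP
      apply hFP
      have hz : Subgroup.zpowers t ≤ pCore p G := by
        apply Cfsg.Agent.Lib.Helper22_Cores.le_pCore_of_isSubnormal p
        · have hle : Subgroup.zpowers t ≤ M := (Subgroup.zpowers_le).mpr ht.2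
          have hn : ((Subgroup.zpowers t).subgroupOf M).Normal := by
            rw [Subgroup.normal_subgroupOf_iff_le_normalizer hle]
            intro m hm
            apply Subgroup.centralizer_le_normalizer
            rw [Subgroup.mem_centralizer_iff]
            intro z hz
            obtain ⟨k, rfl⟩ := Subgroup.mem_zpowers_iff.mp hz
            have hc : Commute t m := (Subgroup.mem_centralizer_iff.mp htc m hm).symm
            exact (hc.zpow_left k)
          exact Subgroup.IsSubnormal.trans hle hn.isSubnormal hMsn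
        · exact hTp.to_le ((Subgroup.zpowers_le).mpr ht)
      exact hz (Subgroup.mem_zpowers t)
  by_cases hex : ∃ x ∈ P, cj g K = cj x K
  · obtain ⟨x, hx, hgx⟩ := hex
    have hxg : Commute x g := Subgroup.mem_centralizer_iff.mp hgP x hx
    have h1 : x⁻¹ * g ∈ Subgroup.normalizer (K : Set G) := by
      apply mem_normalizer_of_cj_eq
      rw [cj_mul', hgx, ← cj_mul', inv_mul_cancel, cj_one]
    obtain ⟨k, hk⟩ := hP ⟨x, hx⟩
    have hxk : x ^ p ^ k = 1 := by simpa using congrArg Subtype.val hk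
    have h2 : g ^ p ^ k ∈ Subgroup.normalizer (K : Set G) := by
      have := pow_mem h1 (p ^ k)
      rw [(hxg.inv_left).mul_pow, inv_pow, hxk, inv_one, one_mul] at this
      exact this
    have hcop : (p ^ k).Coprime (orderOf g) := Nat.Coprime.pow_left k hgo.symm
    obtain ⟨m, hm⟩ := exists_pow_eq_self_of_coprime hcop
    rw [← hm]
    exact pow_mem h2 m
  · exfalso
    push Not at hex
    have hcomm : cj g M ≤ Subgroup.centralizer (M : Set G) := by
      rw [hM, cj_iSup]
      apply iSup_le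
      intro y
      rw [Subgroup.le_centralizer_iff]
      apply iSup_le
      intro x
      have hne : cj (x : G) K ≠ cj g (cj (y : G) K) := by
        intro heq
        apply hex ((y : G)⁻¹ * x) (mul_mem (inv_mem y.2) x.2)
        have hyg : g * (y : G) = (y : G) * g :=
          (Subgroup.mem_centralizer_iff.mp hgP y y.2).symm
        rw [← cj_mul', hyg, cj_mul'] at heq
        calc cj g K = cj (y : G)⁻¹ (cj (y : G) (cj g K)) := by
              rw [← cj_mul', inv_mul_cancel, cj_one]
          _ = cj (y : G)⁻¹ (cj (x : G) K) := by rw [heq]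
          _ = cj ((y : G)⁻¹ * x) K := (cj_mul' _ _ _).symm
      have := Cfsg.Agent.Lib.Helper21_Components.IsComponent.commutator_eq_bot_of_ne (hcomp x)
        (isComponent_cj g (hcomp y)) hne
      rwa [Subgroup.commutator_eq_bot_iff_le_centralizer] at this
    have hu : g * t⁻¹ * g⁻¹ ∈ cj g M := conj_mem_cj (inv_mem htM)
    have hcomm_tu : Commute t (g * t⁻¹ * g⁻¹) :=
      Subgroup.mem_centralizer_iff.mp (hcomm hu) t htM
    have hbr : ⁅t, g⁆ = t * (g * t⁻¹ * g⁻¹) := by
      rw [commutatorElement_def]; group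
    have hmemD := hgt t ⟨hME htM, htN⟩
    obtain ⟨k, hk⟩ := htp
    have hpow : ⁅t, g⁆ ^ p ^ k = 1 := by
      rw [hbr, hcomm_tu.mul_pow, hk, one_mul, conj_pow, inv_pow, hk]
      simp
    have hone : ⁅t, g⁆ = 1 := by
      have h1 : orderOf ⁅t, g⁆ ∣ p ^ k := orderOf_dvd_of_pow_eq_one hpow
      have h2 : orderOf ⁅t, g⁆ ∣ Nat.card D := orderOf_dvd_card_subgroup hmemD
      have h3 : (orderOf ⁅t, g⁆).Coprime (p ^ k) :=
        Nat.Coprime.coprime_dvd_left h2 (Nat.Coprime.pow_right k hD)
      exact orderOf_eq_one_iff.mp (Nat.Coprime.eq_one_of_dvd h3 h1)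
    have htg : t ∈ cj g M := by
      have h4 : t = g * t * g⁻¹ := by
        have h5 := hone
        rw [hbr] at h5
        have h6 := eq_inv_of_mul_eq_one_left h5
        calc t = (g * t⁻¹ * g⁻¹)⁻¹ := h6
          _ = g * t * g⁻¹ := by group
      rw [h4]
      exact conj_mem_cj htM
    exact htc (hcomm htg)

/-- The kernel of the permutation action of `G` on its components. -/
def compKer (G : Type*) [Group G] : Subgroup G :=
  ⨅ K : {K : Subgroup G // IsComponent K}, Subgroup.normalizer ((K : Subgroup G) : Set G)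

theorem mem_compKer {G : Type*} [Group G] {g : G} :
    g ∈ compKer G ↔ ∀ K : Subgroup G, IsComponent K → g ∈ Subgroup.normalizer (K : Set G) := by
  rw [compKer, Subgroup.mem_iInf]
  constructor
  · intro h K hK
    exact h ⟨K, hK⟩
  · intro h K
    exact h K.1 K.2

instance compKer_normal (G : Type*) [Group G] : (compKer G).Normal := by
  constructor
  intro n hn g
  rw [mem_compKer] at hn ⊢
  intro K hK
  apply mem_normalizer_of_cj_eq
  have h1 : cj n (cj g⁻¹ K) = cj g⁻¹ K :=
    cj_eq_of_mem_normalizer (hn _ (isComponent_cj g⁻¹ hK))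
  rw [cj_mul', cj_mul', h1, ← cj_mul', mul_inv_cancel, cj_one]

/-- A perfect subgroup `J ≤ C_G(P)` with `[E(G) ∩ N_G(P), J]` inside a `p'`-subgroup normalizes
every component (`O_{p'}(G) = 1`, `O_p(G) ≤ P`). -/
theorem le_compKer {G : Type u} [Group G] [Finite G] {p : ℕ} [Fact p.Prime]
    (h0 : pPrimeCore p G = ⊥) (P : Subgroup G) (hP : IsPGroup p P) (hFP : pCore p G ≤ P)
    (D : Subgroup G) (hD : (Nat.card D).Coprime p) (J : Subgroup G) (hJperf : ⁅J, J⁆ = J)
    (hJP : J ≤ Subgroup.centralizer (P : Set G))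
    (hJt : ∀ t ∈ layer G ⊓ Subgroup.normalizer (P : Set G), ∀ g ∈ J, ⁅t, g⁆ ∈ D) :
    J ≤ compKer G := by
  apply Cfsg.Agent.Lib.Helper23_LocalLayer.perfect_le_of_coprime_mem p J _ hJperf
  · rw [Subgroup.normalizer_eq_top_iff.mpr (compKer_normal G)]
    exact le_top
  · intro g hg hgo
    rw [mem_compKer]
    intro K hK
    exact mem_normalizer_component h0 P hP hFP D hD g (hJP hg) hgo
      (fun t ht => hJt t ht g hg) hK

theorem commutatorElement_mul_mul {G : Type*} [Group G] {a b c d : G} (h1 : c * b = b * c)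
    (h2 : c * d = d * c) (h3 : d * a⁻¹ = a⁻¹ * d) : ⁅a * c, b * d⁆ = ⁅a, b⁆ := by
  rw [commutatorElement_def, commutatorElement_def]
  calc a * c * (b * d) * (a * c)⁻¹ * (b * d)⁻¹
      = a * (c * b) * d * c⁻¹ * a⁻¹ * d⁻¹ * b⁻¹ := by group
    _ = a * (b * c) * d * c⁻¹ * a⁻¹ * d⁻¹ * b⁻¹ := by rw [h1]
    _ = a * b * (c * d) * c⁻¹ * a⁻¹ * d⁻¹ * b⁻¹ := by group
    _ = a * b * (d * c) * c⁻¹ * a⁻¹ * d⁻¹ * b⁻¹ := by rw [h2]
    _ = a * b * (d * a⁻¹) * d⁻¹ * b⁻¹ := by group
    _ = a * b * (a⁻¹ * d) * d⁻¹ * b⁻¹ := by rw [h3]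
    _ = a * b * a⁻¹ * b⁻¹ := by group

/-- Under the Schreier property, a perfect subgroup normalizing every component and centralizing
`F(G)` lies in `E(G)`. -/
theorem le_layer_of_le_compKer {G : Type u} [Group G] [Finite G]
    (hS : ∀ K : Subgroup G, IsComponent K → Group.IsSolvable (Out (↥K ⧸ Subgroup.center ↥K)))
    (J : Subgroup G) (hJperf : ⁅J, J⁆ = J) (hJK : J ≤ compKer G)
    (hJF : J ≤ Subgroup.centralizer (fittingSubgroup G : Set G)) : J ≤ layer G := by
  classical
  -- Step 1: induction over finite sets of components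
  have step1 : ∀ s : Finset (Subgroup G), (∀ K ∈ s, IsComponent K) → ∀ j ∈ J,
      ∃ e ∈ ⨆ K ∈ s, K, ∀ K ∈ s, e⁻¹ * j ∈ Subgroup.centralizer (K : Set G) := by
    intro s
    induction s using Finset.induction_on with
    | empty =>
      intro _ j _
      exact ⟨1, one_mem _, by simp⟩
    | insert K₀ s hK₀ ih =>
      intro hs j hj
      have hs' : ∀ K ∈ s, IsComponent K := fun K hK => hs K (Finset.mem_insert_of_mem hK)
      have hK₀c : IsComponent K₀ := hs K₀ (Finset.mem_insert_self _ _)
      obtain ⟨e, he, hec⟩ := ih hs' j hj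
      obtain ⟨k, hk, hkc⟩ := Cfsg.Agent.Lib.Helper31_Schreier.exists_mul_mem_centralizer K₀
        (Cfsg.Agent.Lib.Helper21_Components.IsComponent.commutator_self hK₀c) (hS K₀ hK₀c) J hJperf
        (hJK.trans (fun g hg => mem_compKer.mp hg K₀ hK₀c)) j hj
      -- `e` centralizes `K₀`
      have heK₀ : e ∈ Subgroup.centralizer (K₀ : Set G) := by
        have hle : (⨆ K ∈ s, K) ≤ Subgroup.centralizer (K₀ : Set G) := by
          apply iSup₂_le
          intro K hK
          have hne : K ≠ K₀ := fun h => hK₀ (h ▸ hK)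
          have := Cfsg.Agent.Lib.Helper21_Components.IsComponent.commutator_eq_bot_of_ne
            (hs' K hK) hK₀c hne
          rwa [Subgroup.commutator_eq_bot_iff_le_centralizer] at this
        exact hle he
      refine ⟨e * k, ?_, ?_⟩
      · apply mul_mem
        · have hle : (⨆ K ∈ s, K) ≤ ⨆ K ∈ insert K₀ s, K :=
            biSup_mono (fun K hK => Finset.mem_insert_of_mem hK)
          exact hle he
        · have hle : K₀ ≤ ⨆ K ∈ insert K₀ s, K :=
            le_biSup (fun K : Subgroup G => K) (Finset.mem_insert_self K₀ s)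
          exact hle hk
      · intro K hK
        rcases Finset.mem_insert.mp hK with rfl | hK
        · have hek : e * k = k * e := (Subgroup.mem_centralizer_iff.mp heK₀ k hk).symm
          have : (e * k)⁻¹ * j = e⁻¹ * (k⁻¹ * j) := by
            rw [hek]; group
          rw [this]
          exact mul_mem (inv_mem heK₀) hkc
        · have hne : K₀ ≠ K := fun h => hK₀ (h ▸ hK)
          have hcomm := Cfsg.Agent.Lib.Helper21_Components.IsComponent.commutator_eq_bot_of_ne
            hK₀c (hs' K hK) hne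
          rw [Subgroup.commutator_eq_bot_iff_le_centralizer] at hcomm
          have : (e * k)⁻¹ * j = k⁻¹ * (e⁻¹ * j) := by group
          rw [this]
          exact mul_mem (inv_mem (hcomm hk)) (hec K hK)
  -- Step 2: all components at once
  have hfin : Set.Finite {K : Subgroup G | IsComponent K} := Set.toFinite _
  have step2 : ∀ j ∈ J, ∃ e ∈ layer G, e⁻¹ * j ∈ Subgroup.centralizer (layer G : Set G) := by
    intro j hj
    obtain ⟨e, he, hec⟩ := step1 hfin.toFinset (fun K hK => by simpa using hK) j hj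
    have hsup : (⨆ K ∈ hfin.toFinset, K) = layer G := by
      unfold layer
      rw [sSup_eq_iSup]
      apply le_antisymm
      · apply iSup₂_le
        intro K hK
        exact le_biSup (fun K : Subgroup G => K) (by simpa using hK)
      · apply iSup₂_le
        intro K hK
        exact le_biSup (fun K : Subgroup G => K) (by simpa using hK)
    refine ⟨e, hsup ▸ he, ?_⟩
    have hz : Subgroup.zpowers (e⁻¹ * j) ≤ Subgroup.centralizer (layer G : Set G) := by
      rw [Subgroup.le_centralizer_iff]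
      unfold layer
      apply sSup_le
      intro K hK
      rw [Subgroup.le_centralizer_iff, Subgroup.zpowers_le]
      exact hec K (by simpa using hK)
    exact hz (Subgroup.mem_zpowers _)
  -- Step 3
  have hEF : layer G ≤ Subgroup.centralizer (fittingSubgroup G : Set G) := by
    have := Cfsg.Agent.Lib.Helper22_Layer.layer_commutator_fitting (X := G)
    rwa [Subgroup.commutator_eq_bot_iff_le_centralizer] at this
  have step3 : ∀ j ∈ J, ∃ e ∈ layer G, ∃ c ∈ generalizedFittingSubgroup G,
      c ∈ Subgroup.centralizer (generalizedFittingSubgroup G : Set G) ∧ j = e * c := by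
    intro j hj
    obtain ⟨e, he, hc⟩ := step2 j hj
    have hcF : e⁻¹ * j ∈ Subgroup.centralizer (fittingSubgroup G : Set G) :=
      mul_mem (inv_mem (hEF he)) (hJF hj)
    have hcFs : e⁻¹ * j ∈ Subgroup.centralizer (generalizedFittingSubgroup G : Set G) := by
      have hz : Subgroup.zpowers (e⁻¹ * j) ≤
          Subgroup.centralizer (generalizedFittingSubgroup G : Set G) := by
        rw [Subgroup.le_centralizer_iff]
        unfold generalizedFittingSubgroup
        apply sup_le
        · rw [Subgroup.le_centralizer_iff, Subgroup.zpowers_le]; exact hc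
        · rw [Subgroup.le_centralizer_iff, Subgroup.zpowers_le]; exact hcF
      exact hz (Subgroup.mem_zpowers _)
    refine ⟨e, he, e⁻¹ * j,
      Cfsg.Agent.Lib.Helper21_FStar.centralizer_generalizedFitting_le hcFs, hcFs, by group⟩
  -- Step 4
  rw [← hJperf, Subgroup.commutator_le]
  intro j₁ hj₁ j₂ hj₂
  obtain ⟨e₁, he₁, c₁, hc₁, hc₁', rfl⟩ := step3 j₁ hj₁
  obtain ⟨e₂, he₂, c₂, hc₂, hc₂', rfl⟩ := step3 j₂ hj₂
  have hEFs : layer G ≤ generalizedFittingSubgroup G :=
    Cfsg.Agent.Lib.Helper29_Local.layer_le_generalizedFittingSubgroup G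
  rw [commutatorElement_mul_mul]
  · exact (Subgroup.commutator_mem_commutator he₁ he₂ : ⁅e₁, e₂⁆ ∈ ⁅layer G, layer G⁆) |>
      (Cfsg.Agent.Lib.Helper21_Fitting.commutator_self_le (layer G) ·)
  · exact (Subgroup.mem_centralizer_iff.mp hc₁' e₂ (hEFs he₂)).symm
  · exact (Subgroup.mem_centralizer_iff.mp hc₁' c₂ hc₂).symm
  · exact (Subgroup.mem_centralizer_iff.mp hc₂' e₁⁻¹ (hEFs (inv_mem he₁))).symm

/-! ### the main theorem when `O_{p'}(G) = 1` -/

/-- A subnormal `PQ`-subgroup lies in, or centralizes, each normal `p`-subgroup. -/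
theorem PQ.le_or_commutator_eq_bot {H : Type u} [Group H] [Finite H] {p : ℕ} [Fact p.Prime]
    {J : Subgroup H} (hPQ : PQ p J) (hJ : J.IsSubnormal) (N : Subgroup H) [hN : N.Normal]
    (hNp : IsPGroup p N) : J ≤ N ∨ ⁅N, J⁆ = ⊥ := by
  rcases hPQ.le_or_commutator_le hJ N with h | h
  · left; exact h
  · right
    have h1 : ⁅N, J⁆ ≤ N := Subgroup.commutator_le_left N J
    have h2 := Cfsg.Agent.Lib.Helper23_PConstrained.pPrimeCore_inf_eq_bot (X := H) p hNp
    rw [← le_bot_iff, ← h2]
    exact le_inf h h1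

theorem normalizer_le_normalizer_centralizer' {G : Type*} [Group G] (P : Subgroup G) :
    Subgroup.normalizer (P : Set G) ≤
      Subgroup.normalizer ((Subgroup.centralizer (P : Set G) : Subgroup G) : Set G) := by
  intro y hy
  apply mem_normalizer_of_cj_eq
  rw [cj_centralizer, cj_eq_of_mem_normalizer hy]

/-- **Main theorem, core-free case.** Let `O_{p'}(G) = 1` and assume the Schreier property for the
components of `G`.  If `P₀` is a `p`-subgroup and `J` a subnormal `PQ`-subgroup of `N_G(P₀)`, then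
`J ≤ E(G)`. -/
theorem le_layer_of_local {G : Type u} [Group G] [Finite G] {p : ℕ} [Fact p.Prime]
    (h0 : pPrimeCore p G = ⊥)
    (hS : ∀ K : Subgroup G, IsComponent K → Group.IsSolvable (Out (↥K ⧸ Subgroup.center ↥K)))
    (P₀ : Subgroup G) (hP₀ : IsPGroup p P₀) (J : Subgroup G)
    (hJY : J ≤ Subgroup.normalizer (P₀ : Set G))
    (hJsn : (J.subgroupOf (Subgroup.normalizer (P₀ : Set G))).IsSubnormal) (hPQ : PQ p J) :
    J ≤ layer G := by
  by_cases hJbot : J = ⊥
  · rw [hJbot]; exact bot_le
  set Y₀ := Subgroup.normalizer (P₀ : Set G) with hY₀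
  set F := pCore p G with hF
  have hFn : F.Normal := Cfsg.Agent.Lib.Helper1_Cores.pCore_normal p
  have hFp : IsPGroup p F := Cfsg.Agent.Lib.Helper1_Cores.pCore_isPGroup p
  have hPQ' : PQ p (J.subgroupOf Y₀) := hPQ.subgroupOf hJY
  -- a general principle: `J` centralizes `N ∩ Y₀` for `N` a `p`-subgroup normalized by `Y₀`
  have key : ∀ N : Subgroup G, IsPGroup p N → (N.subgroupOf Y₀).Normal →
      ∀ x ∈ N, x ∈ Y₀ → ∀ j ∈ J, x * j = j * x := by
    intro N hNp hNn x hxN hxY j hj
    rcases PQ.le_or_commutator_eq_bot hPQ' hJsn (N.subgroupOf Y₀) hNp.comap_subtype with h | h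
    · exfalso
      apply hJbot
      have hle : J ≤ N := by
        intro j hj
        have hj' : (⟨j, hJY hj⟩ : ↥Y₀) ∈ J.subgroupOf Y₀ := by
          rw [Subgroup.mem_subgroupOf]; exact hj
        have := h hj'
        rwa [Subgroup.mem_subgroupOf] at this
      exact hPQ.eq_bot_of_isNilpotent (hNp.to_le hle).isNilpotent
    · have hx' : (⟨x, hxY⟩ : ↥Y₀) ∈ N.subgroupOf Y₀ := by
        rw [Subgroup.mem_subgroupOf]; exact hxN
      have hj' : (⟨j, hJY hj⟩ : ↥Y₀) ∈ J.subgroupOf Y₀ := by
        rw [Subgroup.mem_subgroupOf]; exact hj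
      have hmem := Subgroup.commutator_mem_commutator hx' hj'
      rw [h, Subgroup.mem_bot, commutatorElement_eq_one_iff_commute] at hmem
      exact congrArg Subtype.val hmem.eq
  have hJP₀ : J ≤ Subgroup.centralizer (P₀ : Set G) := by
    intro j hj
    rw [Subgroup.mem_centralizer_iff]
    intro x hx
    exact key P₀ hP₀ Subgroup.normal_in_normalizer x hx (Subgroup.le_normalizer hx) j hj
  have hJF : J ≤ Subgroup.centralizer (F : Set G) := by
    apply Cfsg.Agent.Lib.Helper23_LocalLayer.perfect_le_of_coprime_mem p J _ hPQ.1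
    · rw [Subgroup.normalizer_eq_top_iff.mpr (Subgroup.normal_centralizer (H := F))]
      exact le_top
    · intro y hy hyo
      have hyo' : (orderOf (⟨y, hJY hy⟩ : ↥Y₀)).Coprime p := by
        rwa [Subgroup.orderOf_mk]
      refine Cfsg.Agent.Lib.Helper23_LocalLayer.coe_mem_centralizer_pCore P₀ hP₀ ⟨y, hJY hy⟩ hyo'
        ?_ ?_
      · intro r hr
        rw [Subgroup.mem_subgroupOf] at hr
        apply Subtype.ext
        exact (key F hFp (hFn.subgroupOf Y₀) r hr r.2 y hy).symm
      · intro r hr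
        rw [Subgroup.mem_subgroupOf] at hr
        apply Subtype.ext
        exact (key P₀ hP₀ Subgroup.normal_in_normalizer r hr r.2 y hy).symm
  -- enlarge `P₀`
  set P := P₀ ⊔ F with hPdef
  have hPp : IsPGroup p P := hP₀.to_sup_of_normal_right hFp
  have hFP : F ≤ P := le_sup_right
  have hJP : J ≤ Subgroup.centralizer (P : Set G) := by
    rw [Subgroup.le_centralizer_iff]
    exact sup_le (Subgroup.le_centralizer_iff.mp hJP₀) (Subgroup.le_centralizer_iff.mp hJF)
  set Y' := Subgroup.normalizer (P : Set G) with hY'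
  have hCY₀ : Subgroup.centralizer (P : Set G) ≤ Y₀ :=
    (Subgroup.centralizer_le (show (P₀ : Set G) ⊆ P from (le_sup_left : P₀ ≤ P))).trans
      (Subgroup.centralizer_le_normalizer _)
  have hCY' : Subgroup.centralizer (P : Set G) ≤ Y' := Subgroup.centralizer_le_normalizer _
  have hCn : ((Subgroup.centralizer (P : Set G)).subgroupOf Y').Normal :=
    (Subgroup.normal_subgroupOf_iff_le_normalizer hCY').mpr
      (normalizer_le_normalizer_centralizer' P)
  have hJsn' : (J.subgroupOf Y').IsSubnormal :=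
    subnormal_subgroupOf_trans hJP hCY' (subnormal_subgroupOf_of_le hCY₀ hJsn) hCn.isSubnormal
  have hJY' : J ≤ Y' := hJP.trans hCY'
  have hEn : ((layer G).subgroupOf Y').Normal :=
    (Cfsg.Agent.Lib.Helper29_Local.layer_normal G).subgroupOf Y'
  rcases (hPQ.subgroupOf hJY').le_or_commutator_le hJsn' ((layer G).subgroupOf Y') with h | h
  · intro j hj
    have hj' : (⟨j, hJY' hj⟩ : ↥Y') ∈ J.subgroupOf Y' := by
      rw [Subgroup.mem_subgroupOf]; exact hj
    have := h hj'
    rwa [Subgroup.mem_subgroupOf] at this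
  · set D := (pPrimeCore p ↥Y').map Y'.subtype with hDdef
    have hD : (Nat.card D).Coprime p := by
      rw [hDdef, Subgroup.card_map_of_injective (Subgroup.subtype_injective Y')]
      exact pPrimeCore_coprime p
    have hJt : ∀ t ∈ layer G ⊓ Y', ∀ g ∈ J, ⁅t, g⁆ ∈ D := by
      intro t ht g hg
      have ht' : (⟨t, ht.2⟩ : ↥Y') ∈ (layer G).subgroupOf Y' := by
        rw [Subgroup.mem_subgroupOf]; exact ht.1
      have hg' : (⟨g, hJY' hg⟩ : ↥Y') ∈ J.subgroupOf Y' := by
        rw [Subgroup.mem_subgroupOf]; exact hg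
      exact ⟨⁅(⟨t, ht.2⟩ : ↥Y'), ⟨g, hJY' hg⟩⁆, h (Subgroup.commutator_mem_commutator ht' hg'),
        by simp [commutatorElement_def]⟩
    have hK := le_compKer h0 P hPp hFP D hD J hPQ.1 hJP hJt
    apply le_layer_of_le_compKer hS J hPQ.1 hK
    exact hJF.trans (Subgroup.centralizer_le (fitting_le_pCore p h0))

/-! ### reduction modulo `O_{p'}(X)` -/

/-- The image in `X / O_{p'}(X)` of a subnormal subgroup of `N_X(R)` (`R` a `p`-subgroup) is a
subnormal subgroup of the normalizer of the image of `R`. -/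
theorem image_local_subnormal {X : Type*} [Group X] [Finite X] {p : ℕ} [Fact p.Prime]
    (R : Subgroup X) (hR : IsPGroup p R) (J : Subgroup ↥(Subgroup.normalizer (R : Set X)))
    (hJsn : J.IsSubnormal) :
    ∃ hle : (J.map (Subgroup.normalizer (R : Set X)).subtype).map
        (QuotientGroup.mk' (pPrimeCore p X)) ≤
        Subgroup.normalizer ((R.map (QuotientGroup.mk' (pPrimeCore p X)) : Subgroup _) : Set _),
      (((J.map (Subgroup.normalizer (R : Set X)).subtype).map
        (QuotientGroup.mk' (pPrimeCore p X))).subgroupOf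
        (Subgroup.normalizer ((R.map (QuotientGroup.mk' (pPrimeCore p X)) : Subgroup _) :
          Set _))).IsSubnormal := by
  set π := QuotientGroup.mk' (pPrimeCore p X) with hπ
  set Yb := Subgroup.normalizer ((R.map π : Subgroup (X ⧸ pPrimeCore p X)) :
    Set (X ⧸ pPrimeCore p X)) with hYb
  have hYmap : (Subgroup.normalizer (R : Set X)).map π ≤ Yb := Subgroup.le_normalizer_map π
  have hle : (J.map (Subgroup.normalizer (R : Set X)).subtype).map π ≤ Yb := by
    refine (Subgroup.map_mono ?_).trans hYmap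
    rintro _ ⟨j, _, rfl⟩
    exact j.2
  refine ⟨hle, ?_⟩
  let φ : ↥(Subgroup.normalizer (R : Set X)) →* ↥Yb := (π.comp (Subgroup.normalizer (R : Set X)).subtype).codRestrict Yb (fun y => hYmap ⟨y, y.2, rfl⟩)
  have hφ : Function.Surjective φ := by
    rintro ⟨yb, hyb⟩
    obtain ⟨y, hy, hyy⟩ := Cfsg.Agent.Lib.Helper23_Locals.normalizer_map_mk_le (pPrimeCore p X)
      (pPrimeCore_coprime p) R hR hyb
    exact ⟨⟨y, hy⟩, Subtype.ext hyy⟩
  have hmap : J.map φ = ((J.map (Subgroup.normalizer (R : Set X)).subtype).map π).subgroupOf Yb := by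
    ext z
    rw [Subgroup.mem_subgroupOf]
    constructor
    · rintro ⟨j, hj, rfl⟩
      exact ⟨(j : X), ⟨j, hj, rfl⟩, rfl⟩
    · rintro ⟨_, ⟨j, hj, rfl⟩, hz⟩
      exact ⟨j, hj, Subtype.ext hz⟩
  rw [← hmap]
  exact Subgroup.IsSubnormal.map hφ hJsn

/-- **`L_{p'}`-balance under the Schreier property.** -/
theorem pLayer_local_le {X : Type u} [Group X] [Finite X] {p : ℕ} [Fact p.Prime]
    (hS : ∀ K : Subgroup (X ⧸ pPrimeCore p X), IsComponent K →
      Group.IsSolvable (Out (↥K ⧸ Subgroup.center ↥K)))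
    (R : Subgroup X) (hR : IsPGroup p R) :
    (pLayer p ↥(Subgroup.normalizer (R : Set X))).map (Subgroup.normalizer (R : Set X)).subtype ≤
      pLayer p X := by
  set Y := Subgroup.normalizer (R : Set X) with hY
  set π := QuotientGroup.mk' (pPrimeCore p X) with hπ
  have h0 : pPrimeCore p (X ⧸ pPrimeCore p X) = ⊥ := pPrimeCore_quotient_eq_bot X p
  unfold pLayer
  rw [Subgroup.map_le_iff_le_comap, sSup_le_iff]
  intro J hJ
  rw [← Subgroup.map_le_iff_le_comap]
  have hJ' : IsPComponent p J := hJ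
  change J.map Y.subtype ≤ pLayer p X
  have hPQ : PQ p J := PQ.of_isPComponent p hJ'
  have hPQ2 : PQ p ((J.map Y.subtype).map π) := (hPQ.map Y.subtype).map π
  obtain ⟨hle, hsn⟩ := image_local_subnormal R hR J hJ'.1
  have hmain := le_layer_of_local h0 hS (R.map π) (hR.map π) _ hle hsn hPQ2
  rw [← pLayer_map_eq_layer] at hmain
  have h1 : J.map Y.subtype ≤ pLayer p X ⊔ pPrimeCore p X := le_sup_pPrimeCore_of_map_le p hmain
  -- now use that `J` has no proper normal subgroup of `p'`-index
  have hLn : (pLayer p X).Normal := inferInstance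
  have hidx : ((pLayer p X).relIndex (J.map Y.subtype)).Coprime p := by
    have h2 := relIndex_dvd_card_of_le_sup (pLayer p X) (pPrimeCore p X) (J.map Y.subtype)
      (by rw [Subgroup.normalizer_eq_top_iff.mpr hLn]; exact le_top) (by rwa [sup_comm])
    exact Nat.Coprime.coprime_dvd_left h2 (pPrimeCore_coprime p)
  set A : Subgroup ↥Y := (pLayer p X).subgroupOf Y with hA
  have hAn : A.Normal := hLn.subgroupOf Y
  have hN : A ⊓ J = J := by
    apply pcomp_eq_of_normal_coprime p hJ' inf_le_right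
    · rw [Subgroup.inf_subgroupOf_right]
      exact hAn.subgroupOf J
    · rw [Subgroup.inf_relIndex_right]
      have : A.relIndex J = (pLayer p X).relIndex (J.map Y.subtype) :=
        Subgroup.relIndex_comap (pLayer p X) Y.subtype J
      rw [this]
      exact hidx
  rintro _ ⟨j, hj, rfl⟩
  have : j ∈ A ⊓ J := by rw [hN]; exact hj
  exact Subgroup.mem_subgroupOf.mp this.1

end Cfsg.Agent.Lib.Helper31_LBalance
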