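import Mathlib
import Cfsg.Agent.Lib.Helper1_GlaubAut
import Cfsg.Agent.Lib.Helper21_Components
import Cfsg.Agent.Lib.Helper31_LBalance
import Cfsg.Agent.Lib.Helper32_Sylow

/-!
# `L_{2'}`-balance, Theorem B: climbing to a Sylow subgroup (helper1)

Theorem B of `pending/lead/S1301_proof.md`, on top of Glauberman's theorem
(`Helper1_GlaubAut`).  Let `K ≤ Γ` with `O(K) = 1`, `Q ≤ N(K)` a `2`-subgroup and
`J ≤ N(K) ∩ C(Q)` a perfect subgroup with `[C_K(Q), J] ≤ O(C_K(Q))`.  Then `J` acts on `K` as a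
group of odd exponent (`climb`); if moreover `J` is generated by `2`-elements, `J` centralizes
`K` (`le_centralizer_of_climb`).

Proof: induction on `|T : Q|` for a fixed `2`-subgroup `T ≤ KQ` containing `Q` and a Sylow
`2`-subgroup of `K`.  `Q = T`: Glauberman.  Otherwise `[N_K(Q), J] ≤ O := O(C_K(Q))` (three
subgroups lemma, twice), so for `x ∈ N_T(Q) ∖ Q` the group `Q₁ = Q⟨x⟩` satisfies `[Q₁, J] ≤ O`; a
fixed point argument gives `J ≤ O · C_{OJ}(Q₁)`, a minimal supplement `J₁ ≤ C_{OJ}(Q₁)` is perfect,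
and the induction hypothesis applies to `(Q₁, J₁)`.
-/

set_option autoImplicit false
set_option linter.unusedSectionVars false

namespace Cfsg.Agent.Lib.Helper1_LBal2B

open Subgroup Cfsg
open scoped commutatorElement
open Cfsg.Agent.Lib.Helper31_Schreier Cfsg.Agent.Lib.Helper1_GlaubAut



section OddCore

variable {Γ : Type*} [Group Γ] [Finite Γ]

/-- The odd core `O(H)` of a subgroup `H`, as a subgroup of the ambient group. -/
def oc (H : Subgroup Γ) : Subgroup Γ := (pPrimeCore 2 ↥H).map H.subtype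

theorem oc_le (H : Subgroup Γ) : oc H ≤ H := by
  rintro _ ⟨w, -, rfl⟩
  exact w.2

theorem oc_card (H : Subgroup Γ) : (Nat.card (oc H)).Coprime 2 := by
  unfold oc
  rw [Subgroup.card_map_of_injective (Subgroup.subtype_injective _)]
  exact Cfsg.Agent.Lib.Helper1_Cores.pPrimeCore_card_coprime 2

theorem oc_odd (H : Subgroup Γ) : Odd (Nat.card (oc H)) :=
  Nat.coprime_two_left.mp (oc_card H).symm

/-- Conjugation by an element normalizing `H` maps `O(H)` into itself. -/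
theorem oc_conj_mem {H : Subgroup Γ} {g : Γ} (hg : g ∈ normalizer (H : Set Γ)) {o : Γ}
    (ho : o ∈ oc H) : g * o * g⁻¹ ∈ oc H := by
  obtain ⟨w, hw, rfl⟩ := ho
  have h1 : (pPrimeCore 2 ↥H).map (conjAut H ⟨g, hg⟩).toMonoidHom ≤ pPrimeCore 2 ↥H :=
    Cfsg.Agent.Lib.Helper1_Cores.pPrimeCore_map_le 2 (conjAut H ⟨g, hg⟩)
  have h2 : conjAut H ⟨g, hg⟩ w ∈ pPrimeCore 2 ↥H := h1 ⟨w, hw, rfl⟩
  exact ⟨conjAut H ⟨g, hg⟩ w, h2, rfl⟩

theorem normalizer_le_normalizer_oc (H : Subgroup Γ) :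
    normalizer (H : Set Γ) ≤ normalizer ((oc H : Subgroup Γ) : Set Γ) := by
  intro g hg
  rw [mem_normalizer_iff]
  intro o
  constructor
  · exact oc_conj_mem hg
  · intro h
    have := oc_conj_mem (inv_mem hg) h
    have e : g⁻¹ * (g * o * g⁻¹) * g⁻¹⁻¹ = o := by group
    rwa [e] at this

/-- A subgroup of odd order of `H` normalized by `H` lies in `O(H)`. -/
theorem le_oc {H M : Subgroup Γ} (hMH : M ≤ H) (hn : H ≤ normalizer (M : Set Γ))
    (hodd : (Nat.card M).Coprime 2) : M ≤ oc H := by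
  have hN : (M.subgroupOf H).Normal := (Subgroup.normal_subgroupOf_iff_le_normalizer hMH).mpr hn
  have hcard : Nat.card (M.subgroupOf H) = Nat.card M :=
    Nat.card_congr (Subgroup.subgroupOfEquivOfLe hMH).toEquiv
  have hle := Cfsg.Agent.Lib.Helper1_Cores.le_pPrimeCore hN (by rw [hcard]; exact hodd)
  intro m hm
  exact ⟨⟨m, hMH hm⟩, hle (Subgroup.mem_subgroupOf.mpr hm), rfl⟩

end OddCore





section ModNormal

variable {Γ : Type*} [Group Γ]

/-- Three subgroups lemma for a perfect `J`, modulo a subgroup `O` normalized by `A` and `J`: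
if `[A, J, J] ≤ O` then `[A, J] ≤ O`. -/
theorem commutator_le_of_perfect {A J O : Subgroup Γ} (hJ : ⁅J, J⁆ = J)
    (hAO : A ≤ normalizer (O : Set Γ)) (hJO : J ≤ normalizer (O : Set Γ))
    (h : ⁅⁅A, J⁆, J⁆ ≤ O) : ⁅A, J⁆ ≤ O := by
  set W := normalizer (O : Set Γ) with hW
  let O' : Subgroup ↥W := O.subgroupOf W
  have hO'n : O'.Normal := Subgroup.normal_in_normalizer
  let π := QuotientGroup.mk' O'
  let img : Subgroup Γ → Subgroup (↥W ⧸ O') := fun X => (X.subgroupOf W).map π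
  have hWW : ⁅W, W⁆ ≤ W := Subgroup.commutator_le_self W
  have himg_comm : ∀ X Y : Subgroup Γ, X ≤ W → Y ≤ W → ⁅img X, img Y⁆ = img ⁅X, Y⁆ := by
    intro X Y hX hY
    show ⁅(X.subgroupOf W).map π, (Y.subgroupOf W).map π⁆ = (⁅X, Y⁆.subgroupOf W).map π
    rw [← Subgroup.map_commutator]
    congr 1
    apply Subgroup.map_injective (Subgroup.subtype_injective W)
    rw [Subgroup.map_commutator, Subgroup.map_subgroupOf_eq_of_le hX,
      Subgroup.map_subgroupOf_eq_of_le hY,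
      Subgroup.map_subgroupOf_eq_of_le ((Subgroup.commutator_mono hX hY).trans hWW)]
  have himg_bot : ∀ X : Subgroup Γ, X ≤ W → (img X = ⊥ ↔ X ≤ O) := by
    intro X hX
    show (X.subgroupOf W).map π = ⊥ ↔ X ≤ O
    rw [Subgroup.map_eq_bot_iff, QuotientGroup.ker_mk']
    constructor
    · intro hle x hx
      have : (⟨x, hX hx⟩ : ↥W) ∈ O' := hle (Subgroup.mem_subgroupOf.mpr hx)
      exact Subgroup.mem_subgroupOf.mp this
    · intro hle x hx
      exact Subgroup.mem_subgroupOf.mpr (hle (Subgroup.mem_subgroupOf.mp hx))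
  have hAJW : ⁅A, J⁆ ≤ W := (Subgroup.commutator_mono hAO hJO).trans hWW
  have hJ' : ⁅img J, img J⁆ = img J := by rw [himg_comm J J hJO hJO, hJ]
  have h1 : ⁅⁅img A, img J⁆, img J⁆ = ⊥ := by
    rw [himg_comm A J hAO hJO, himg_comm _ J hAJW hJO, himg_bot _ ((Subgroup.commutator_mono hAJW hJO).trans hWW)]
    exact h
  have h2 := Cfsg.Agent.Lib.Helper21_Components.commutator_eq_bot_of_perfect hJ' h1
  rw [Subgroup.commutator_comm, himg_comm A J hAO hJO, himg_bot _ hAJW] at h2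
  exact h2

/-- If `X` normalizes `O` then `[OX, OX] ≤ O [X, X]`. -/
theorem commutator_sup_le {O X : Subgroup Γ} (hX : X ≤ normalizer (O : Set Γ)) :
    ⁅X ⊔ O, X ⊔ O⁆ ≤ ⁅X, X⁆ ⊔ O := by
  rw [Subgroup.commutator_le]
  intro g₁ hg₁ g₂ hg₂
  obtain ⟨x₁, hx₁, o₁, ho₁, rfl⟩ := Cfsg.Agent.Lib.Helper31_LBalance.exists_mul_of_mem_sup hX hg₁
  obtain ⟨x₂, hx₂, o₂, ho₂, rfl⟩ := Cfsg.Agent.Lib.Helper31_LBalance.exists_mul_of_mem_sup hX hg₂
  have key : ⁅x₁ * o₁, x₂ * o₂⁆ = ⁅x₁, x₂⁆ *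
      (x₂ * (x₁ * (x₂⁻¹ * o₁ * x₂ * o₂ * o₁⁻¹) * x₁⁻¹ * o₂⁻¹) * x₂⁻¹) := by
    simp only [commutatorElement_def]; group
  rw [key]
  have hc : ∀ x ∈ X, ∀ o ∈ O, x * o * x⁻¹ ∈ O := fun x hx o ho =>
    (mem_normalizer_iff.mp (hX hx) o).mp ho
  have hc' : ∀ x ∈ X, ∀ o ∈ O, x⁻¹ * o * x ∈ O := fun x hx o ho => by
    have := hc x⁻¹ (inv_mem hx) o ho
    simpa using this
  apply mul_mem
  · exact Subgroup.mem_sup_left (Subgroup.commutator_mem_commutator hx₁ hx₂)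
  · apply Subgroup.mem_sup_right
    apply hc x₂ hx₂
    apply mul_mem _ (inv_mem ho₂)
    apply hc x₁ hx₁
    exact mul_mem (mul_mem (hc' x₂ hx₂ o₁ ho₁) ho₂) (inv_mem ho₁)

end ModNormal





section FixedPoint

variable {Γ : Type*} [Group Γ] [Finite Γ]

/-- Fixed point argument: if the `2`-group `Q₁` normalizes the odd-order subgroup `O` and
`[y, j] ∈ O` for all `y ∈ Q₁`, then the coset `O j` contains an element centralizing `Q₁`. -/
theorem exists_mul_mem_centralizer {Q₁ O : Subgroup Γ} (hQ : IsPGroup 2 Q₁)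
    (hO : (Nat.card O).Coprime 2) (hQO : Q₁ ≤ normalizer (O : Set Γ)) {j : Γ}
    (hj : ∀ y ∈ Q₁, y * j * y⁻¹ * j⁻¹ ∈ O) : ∃ o ∈ O, o * j ∈ centralizer (Q₁ : Set Γ) := by
  classical
  let X := {g : Γ // g * j⁻¹ ∈ O}
  have hsm : ∀ (y : ↥Q₁) (g : X), (y : Γ) * g.1 * (y : Γ)⁻¹ * j⁻¹ ∈ O := by
    intro y g
    have h1 : (y : Γ) * (g.1 * j⁻¹) * (y : Γ)⁻¹ ∈ O :=
      (mem_normalizer_iff.mp (hQO y.2) _).mp g.2
    have h2 := hj y y.2
    have e : (y : Γ) * g.1 * (y : Γ)⁻¹ * j⁻¹ =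
        ((y : Γ) * (g.1 * j⁻¹) * (y : Γ)⁻¹) * ((y : Γ) * j * (y : Γ)⁻¹ * j⁻¹) := by group
    rw [e]; exact mul_mem h1 h2
  letI : MulAction ↥Q₁ X :=
    { smul := fun y g => ⟨(y : Γ) * g.1 * (y : Γ)⁻¹, hsm y g⟩
      one_smul := by
        intro g
        apply Subtype.ext
        show ((1 : ↥Q₁) : Γ) * g.1 * ((1 : ↥Q₁) : Γ)⁻¹ = g.1
        simp
      mul_smul := by
        intro y z g
        apply Subtype.ext
        show ((y * z : ↥Q₁) : Γ) * g.1 * ((y * z : ↥Q₁) : Γ)⁻¹ =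
          (y : Γ) * ((z : Γ) * g.1 * (z : Γ)⁻¹) * (y : Γ)⁻¹
        rw [Subgroup.coe_mul]; group }
  have hcard : Nat.card X = Nat.card O := by
    apply Nat.card_congr
    exact
      { toFun := fun g => ⟨g.1 * j⁻¹, g.2⟩
        invFun := fun o => ⟨o.1 * j, by simpa using o.2⟩
        left_inv := by intro g; apply Subtype.ext; simp
        right_inv := by intro o; apply Subtype.ext; simp }
  have hnd : ¬ 2 ∣ Nat.card X := by
    rw [hcard]
    intro h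
    have := Nat.Coprime.eq_one_of_dvd hO.symm h
    omega
  obtain ⟨g, hg⟩ := hQ.nonempty_fixed_point_of_prime_not_dvd_card X hnd
  refine ⟨g.1 * j⁻¹, g.2, ?_⟩
  rw [mem_centralizer_iff]
  intro y hy
  have h1 : (⟨y, hy⟩ : ↥Q₁) • g = g := hg ⟨y, hy⟩
  have h2 : y * g.1 * y⁻¹ = g.1 := congrArg Subtype.val h1
  have e : g.1 * j⁻¹ * j = g.1 := by group
  rw [e]
  calc y * g.1 = (y * g.1 * y⁻¹) * y := by group
    _ = g.1 * y := by rw [h2]

end FixedPoint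





section Small

variable {Γ : Type*} [Group Γ]

/-- An element normalizing `K` and `Q` normalizes `C_K(Q)`. -/
theorem mem_normalizer_inf_centralizer {K Q : Subgroup Γ} {g : Γ}
    (hgK : g ∈ normalizer (K : Set Γ)) (hgQ : g ∈ normalizer (Q : Set Γ)) :
    g ∈ normalizer ((K ⊓ centralizer (Q : Set Γ) : Subgroup Γ) : Set Γ) := by
  have key : ∀ g : Γ, g ∈ normalizer (K : Set Γ) → g ∈ normalizer (Q : Set Γ) →
      ∀ h ∈ K ⊓ centralizer (Q : Set Γ), g * h * g⁻¹ ∈ K ⊓ centralizer (Q : Set Γ) := by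
    intro g hgK hgQ h hh
    refine ⟨(mem_normalizer_iff.mp hgK h).mp hh.1, ?_⟩
    show g * h * g⁻¹ ∈ centralizer (Q : Set Γ)
    rw [mem_centralizer_iff]
    intro q hq
    have hq' : g⁻¹ * q * g ∈ Q := by
      have := (mem_normalizer_iff.mp (inv_mem hgQ) q).mp hq
      simpa using this
    have h1 := mem_centralizer_iff.mp hh.2 _ hq'
    calc q * (g * h * g⁻¹) = g * ((g⁻¹ * q * g) * h) * g⁻¹ := by group
      _ = g * (h * (g⁻¹ * q * g)) * g⁻¹ := by rw [h1]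
      _ = g * h * g⁻¹ * q := by group
  rw [mem_normalizer_iff]
  intro h
  constructor
  · exact key g hgK hgQ h
  · intro hh
    have := key g⁻¹ (inv_mem hgK) (inv_mem hgQ) _ hh
    have e : g⁻¹ * (g * h * g⁻¹) * g⁻¹⁻¹ = h := by group
    rwa [e] at this

/-- If `x` normalizes `O` then `(x o)^n ∈ x^n O`. -/
theorem exists_pow_mul_eq {O : Subgroup Γ} {x o : Γ} (hx : x ∈ normalizer (O : Set Γ))
    (ho : o ∈ O) (n : ℕ) : ∃ o' ∈ O, (x * o) ^ n = x ^ n * o' := by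
  induction n with
  | zero => exact ⟨1, O.one_mem, by simp⟩
  | succ n ih =>
    obtain ⟨o', ho', h⟩ := ih
    have h1 : x⁻¹ * o' * x ∈ O := by
      have := (mem_normalizer_iff.mp (inv_mem hx) o').mp ho'
      simpa using this
    refine ⟨(x⁻¹ * o' * x) * o, O.mul_mem h1 ho, ?_⟩
    rw [pow_succ, h, pow_succ]; group

/-- The subgroup of elements `y ∈ N(O)` with `[y, J] ⊆ O`. -/
def commSub (O J : Subgroup Γ) : Subgroup Γ where
  carrier := {y | y ∈ normalizer (O : Set Γ) ∧ ∀ j ∈ J, y * j * y⁻¹ * j⁻¹ ∈ O}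
  one_mem' := ⟨one_mem _, fun j _ => by simp⟩
  mul_mem' := by
    rintro a b ⟨ha, ha'⟩ ⟨hb, hb'⟩
    refine ⟨mul_mem ha hb, fun j hj => ?_⟩
    have h1 : a * (b * j * b⁻¹ * j⁻¹) * a⁻¹ ∈ O := (mem_normalizer_iff.mp ha _).mp (hb' j hj)
    have e : a * b * j * (a * b)⁻¹ * j⁻¹ = (a * (b * j * b⁻¹ * j⁻¹) * a⁻¹) * (a * j * a⁻¹ * j⁻¹) := by
      group
    rw [e]; exact mul_mem h1 (ha' j hj)
  inv_mem' := by
    rintro a ⟨ha, ha'⟩
    refine ⟨inv_mem ha, fun j hj => ?_⟩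
    have h1 : a⁻¹ * (a * j * a⁻¹ * j⁻¹)⁻¹ * a⁻¹⁻¹ ∈ O :=
      (mem_normalizer_iff.mp (inv_mem ha) _).mp (inv_mem (ha' j hj))
    have e : a⁻¹ * j * a⁻¹⁻¹ * j⁻¹ = a⁻¹ * (a * j * a⁻¹ * j⁻¹)⁻¹ * a⁻¹⁻¹ := by group
    rw [e]; exact h1

theorem mem_commSub {O J : Subgroup Γ} {y : Γ} :
    y ∈ commSub O J ↔ y ∈ normalizer (O : Set Γ) ∧ ∀ j ∈ J, y * j * y⁻¹ * j⁻¹ ∈ O := Iff.rfl

end Small





section Base

variable {Γ : Type*} [Group Γ] [Finite Γ]

/-- Exponent form of Glauberman's theorem: a perfect subgroup of `N(K)` centralizing a Sylow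
`2`-subgroup of `K` (`O(K) = 1`) acts on `K` as a group of odd exponent. -/
theorem exists_odd_pow_mem_centralizer (K : Subgroup Γ) (hcore : pPrimeCore 2 ↥K = ⊥)
    (S : Sylow 2 ↥K) (J : Subgroup Γ) (hJN : J ≤ normalizer (K : Set Γ))
    (hJS : ∀ j ∈ J, ∀ s ∈ (S : Subgroup ↥K), j * (s : Γ) = (s : Γ) * j)
    (hJ : ⁅J, J⁆ = J) : ∃ m : ℕ, Odd m ∧ ∀ j ∈ J, j ^ m ∈ centralizer (K : Set Γ) := by
  set N := normalizer (K : Set Γ) with hN
  set J' : Subgroup (MulAut ↥K) := (J.subgroupOf N).map (conjHom K) with hJ'def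
  have hJ' : ⁅J', J'⁆ = J' := by
    rw [hJ'def, ← Subgroup.map_commutator]
    congr 1
    apply Subgroup.map_injective (Subgroup.subtype_injective N)
    rw [Subgroup.map_commutator, Subgroup.map_subgroupOf_eq_of_le hJN, hJ]
  have hJ'S : ∀ a ∈ J', ∀ x ∈ (S : Subgroup ↥K), a x = x := by
    rintro _ ⟨n, hn, rfl⟩ x hx
    apply Subtype.ext
    rw [conjHom_apply_coe]
    have h1 : (n : Γ) ∈ J := Subgroup.mem_subgroupOf.mp hn
    have h2 := hJS _ h1 x hx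
    rw [h2]; group
  have hodd := odd_card_of_perfect hcore S J' hJ'S hJ'
  refine ⟨Nat.card J', hodd, fun j hj => ?_⟩
  have hjN : j ∈ N := hJN hj
  have hmem : conjHom K ⟨j, hjN⟩ ∈ J' :=
    ⟨⟨j, hjN⟩, Subgroup.mem_subgroupOf.mpr hj, rfl⟩
  have hpow : (conjHom K ⟨j, hjN⟩) ^ Nat.card J' = 1 := by
    have h0 := pow_card_eq_one' (G := J') (x := ⟨_, hmem⟩)
    have h1 := congrArg Subtype.val h0
    rw [SubgroupClass.coe_pow] at h1
    exact h1
  rw [← map_pow] at hpow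
  rw [mem_centralizer_iff]
  intro x hx
  have h3 : (conjHom K (⟨j, hjN⟩ ^ Nat.card J')) ⟨x, hx⟩ = ⟨x, hx⟩ := by rw [hpow]; rfl
  have h4 : j ^ Nat.card J' * x * (j ^ Nat.card J')⁻¹ = x := by
    have := congrArg Subtype.val h3
    rwa [conjHom_apply_coe] at this
  calc x * j ^ Nat.card J' = (j ^ Nat.card J' * x * (j ^ Nat.card J')⁻¹) * j ^ Nat.card J' := by
        rw [h4]
    _ = j ^ Nat.card J' * x := by group

/-- A `2`-subgroup `Q` normalizing `K` lies in a `2`-subgroup `T ≤ KQ` containing a Sylow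
`2`-subgroup of `K`. -/
theorem exists_sylow_sup (K Q : Subgroup Γ) (hQ : IsPGroup 2 Q)
    (hQK : Q ≤ normalizer (K : Set Γ)) :
    ∃ T : Subgroup Γ, IsPGroup 2 T ∧ Q ≤ T ∧ T ≤ K ⊔ Q ∧
      ∃ S : Sylow 2 ↥K, (S : Subgroup ↥K).map K.subtype ≤ T := by
  classical
  set H : Subgroup Γ := K ⊔ Q with hH
  have hKH : K ≤ H := le_sup_left
  have hQH : Q ≤ H := le_sup_right
  have hHN : H ≤ normalizer (K : Set Γ) := sup_le le_normalizer hQK
  have hNn : (K.subgroupOf H).Normal := (Subgroup.normal_subgroupOf_iff_le_normalizer hKH).mpr hHN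
  have hQ' : IsPGroup 2 (Q.subgroupOf H) := hQ.comap_subtype
  obtain ⟨T₀, hT₀⟩ := hQ'.exists_le_sylow
  set T : Subgroup Γ := (T₀ : Subgroup ↥H).map H.subtype with hTdef
  have hT2 : IsPGroup 2 T := T₀.2.map _
  have hQT : Q ≤ T := by
    intro q hq
    exact ⟨⟨q, hQH hq⟩, hT₀ (Subgroup.mem_subgroupOf.mpr hq), rfl⟩
  have hTH : T ≤ H := by
    rintro _ ⟨t, -, rfl⟩
    exact t.2
  refine ⟨T, hT2, hQT, hTH, ?_⟩
  -- `T ∩ K` has odd index in `K`
  have hidx := Cfsg.Agent.Lib.Helper32_Sylow.not_dvd_relIndex_inf_normal T₀ (K.subgroupOf H)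
  have hmap1 : ((T₀ : Subgroup ↥H) ⊓ K.subgroupOf H).map H.subtype = T ⊓ K := by
    rw [Subgroup.map_inf _ _ _ (Subgroup.subtype_injective H),
      Subgroup.map_subgroupOf_eq_of_le hKH]
  have hmap2 : (K.subgroupOf H).map H.subtype = K := Subgroup.map_subgroupOf_eq_of_le hKH
  have hrel : (T ⊓ K).relIndex K = ((T₀ : Subgroup ↥H) ⊓ K.subgroupOf H).relIndex (K.subgroupOf H) := by
    have h0 := Subgroup.relIndex_map_map_of_injective ((T₀ : Subgroup ↥H) ⊓ K.subgroupOf H)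
      (K.subgroupOf H) (Subgroup.subtype_injective H)
    rw [hmap1, hmap2] at h0
    exact h0
  have hP : IsPGroup 2 ((T ⊓ K).subgroupOf K) := (hT2.to_le inf_le_left).comap_subtype
  have hnd : ¬ 2 ∣ ((T ⊓ K).subgroupOf K).index := by
    change ¬ 2 ∣ (T ⊓ K).relIndex K
    rw [hrel]; exact hidx
  refine ⟨hP.toSylow hnd, ?_⟩
  rw [IsPGroup.toSylow_coe, Subgroup.subgroupOf_map_subtype]
  exact inf_le_left.trans inf_le_left

end Base



section Climb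

variable {Γ : Type*} [Group Γ] [Finite Γ]

/-- **Theorem B (climbing), inductive form.** -/
theorem climb_aux (K : Subgroup Γ) (hcore : pPrimeCore 2 ↥K = ⊥) (S : Sylow 2 ↥K)
    (T : Subgroup Γ) (hT : IsPGroup 2 T) (hST : (S : Subgroup ↥K).map K.subtype ≤ T) :
    ∀ n : ℕ, ∀ Q J : Subgroup Γ, Nat.card T - Nat.card Q = n → Q ≤ T → T ≤ K ⊔ Q →
      Q ≤ normalizer (K : Set Γ) → J ≤ normalizer (K : Set Γ) → J ≤ centralizer (Q : Set Γ) →
      ⁅J, J⁆ = J →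
      ⁅K ⊓ centralizer (Q : Set Γ), J⁆ ≤ oc (K ⊓ centralizer (Q : Set Γ)) →
      ∃ m : ℕ, Odd m ∧ ∀ j ∈ J, j ^ m ∈ centralizer (K : Set Γ) := by
  intro n
  induction n using Nat.strong_induction_on with
  | _ n ih =>
  intro Q J hn hQT hTKQ hQK hJK hJQ hJ hCJ
  by_cases hQeq : Q = T
  · -- base case
    apply exists_odd_pow_mem_centralizer K hcore S J hJK _ hJ
    intro j hj s hs
    have hsQ : (s : Γ) ∈ Q := by
      rw [hQeq]; exact hST ⟨s, hs, rfl⟩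
    exact (mem_centralizer_iff.mp (hJQ hj) _ hsQ).symm
  -- the step
  have hQlt : Q < T := lt_of_le_of_ne hQT hQeq
  obtain ⟨x, hx, hxQ⟩ := SetLike.exists_of_lt
    (Cfsg.Agent.Lib.Helper33_Alperin.lt_inf_normalizer hT hQlt)
  have hxT : x ∈ T := hx.1
  have hxNQ : x ∈ normalizer (Q : Set Γ) := hx.2
  set N : Subgroup Γ := K ⊓ normalizer (Q : Set Γ) with hNdef
  set C : Subgroup Γ := K ⊓ centralizer (Q : Set Γ) with hCdef
  set O : Subgroup Γ := oc C with hOdef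
  have hOC : O ≤ C := oc_le C
  have hCK : C ≤ K := inf_le_left
  have hKQN : K ⊔ Q ≤ normalizer (K : Set Γ) := sup_le le_normalizer hQK
  have hTK : T ≤ normalizer (K : Set Γ) := hTKQ.trans hKQN
  have hcentnorm : centralizer (Q : Set Γ) ≤ normalizer (Q : Set Γ) := centralizer_le_normalizer _
  -- normalizing `O`
  have hnormO : ∀ g : Γ, g ∈ normalizer (K : Set Γ) → g ∈ normalizer (Q : Set Γ) →
      g ∈ normalizer (O : Set Γ) := fun g h1 h2 =>
    normalizer_le_normalizer_oc C (mem_normalizer_inf_centralizer h1 h2)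
  have hJO : J ≤ normalizer (O : Set Γ) := fun j hj => hnormO j (hJK hj) (hcentnorm (hJQ hj))
  have hNO : N ≤ normalizer (O : Set Γ) := fun g hg => hnormO g (le_normalizer hg.1) hg.2
  have hQO : Q ≤ normalizer (O : Set Γ) := fun g hg => hnormO g (hQK hg) (le_normalizer hg)
  have hxO : x ∈ normalizer (O : Set Γ) := hnormO x (hTK hxT) hxNQ
  have hCO : C ≤ normalizer (O : Set Γ) := fun g hg => hnormO g (le_normalizer hg.1) (hcentnorm hg.2)
  -- B1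
  have hNJC : ⁅N, J⁆ ≤ C := by
    apply le_inf
    · rw [Subgroup.commutator_le]
      intro g hg j hj
      have h1 : j * g⁻¹ * j⁻¹ ∈ K := (mem_normalizer_iff.mp (hJK hj) _).mp (K.inv_mem hg.1)
      have e : ⁅g, j⁆ = g * (j * g⁻¹ * j⁻¹) := by rw [commutatorElement_def]; group
      rw [e]; exact K.mul_mem hg.1 h1
    · rw [← Subgroup.commutator_eq_bot_iff_le_centralizer]
      have hJQbot : ⁅J, Q⁆ = ⊥ := (Subgroup.commutator_eq_bot_iff_le_centralizer).mpr hJQ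
      have hQJbot : ⁅Q, J⁆ = ⊥ := by rw [Subgroup.commutator_comm]; exact hJQbot
      have h1 : ⁅⁅J, Q⁆, N⁆ = ⊥ := by rw [hJQbot]; exact Subgroup.commutator_bot_left N
      have hQN : ⁅Q, N⁆ ≤ Q := by
        rw [Subgroup.commutator_le]
        intro q hq g hg
        have h3 : g * q⁻¹ * g⁻¹ ∈ Q := (mem_normalizer_iff.mp hg.2 _).mp (Q.inv_mem hq)
        have e : ⁅q, g⁆ = q * (g * q⁻¹ * g⁻¹) := by rw [commutatorElement_def]; group
        rw [e]; exact Q.mul_mem hq h3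
      have h2 : ⁅⁅Q, N⁆, J⁆ = ⊥ := by
        rw [eq_bot_iff, ← hQJbot]
        exact Subgroup.commutator_mono hQN le_rfl
      exact Subgroup.commutator_commutator_eq_bot_of_rotate h1 h2
  have hNJ : ⁅N, J⁆ ≤ O := by
    apply commutator_le_of_perfect hJ hNO hJO
    exact (Subgroup.commutator_mono hNJC le_rfl).trans hCJ
  -- `[x, J] ⊆ O`
  have hxJ : ∀ j ∈ J, x * j * x⁻¹ * j⁻¹ ∈ O := by
    intro j hj
    have hxKQ : x ∈ Q ⊔ K := by rw [sup_comm]; exact hTKQ hxT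
    obtain ⟨q, hq, k, hk, rfl⟩ :=
      Cfsg.Agent.Lib.Helper31_LBalance.exists_mul_of_mem_sup hQK hxKQ
    have hkN : k ∈ N := by
      refine ⟨hk, ?_⟩
      show k ∈ normalizer (Q : Set Γ)
      have : k = q⁻¹ * (q * k) := by group
      rw [this]; exact mul_mem (inv_mem (le_normalizer hq)) hxNQ
    have h1 : ⁅k, j⁆ ∈ O := hNJ (Subgroup.commutator_mem_commutator hkN hj)
    have h2 : q * j = j * q := mem_centralizer_iff.mp (hJQ hj) q hq
    have h3 : q * ⁅k, j⁆ * q⁻¹ ∈ O := (mem_normalizer_iff.mp (hQO hq) _).mp h1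
    have e : q * k * j * (q * k)⁻¹ * j⁻¹ = (q * ⁅k, j⁆ * q⁻¹) * (q * j * q⁻¹ * j⁻¹) := by
      rw [commutatorElement_def]; group
    have e2 : q * j * q⁻¹ * j⁻¹ = 1 := by rw [h2]; group
    rw [e, e2, mul_one]; exact h3
  -- the bigger group `Q₁`
  set Q₁ : Subgroup Γ := Q ⊔ zpowers x with hQ₁def
  have hQQ₁ : Q ≤ Q₁ := le_sup_left
  have hxQ₁ : x ∈ Q₁ := Subgroup.mem_sup_right (mem_zpowers x)
  have hQ₁T : Q₁ ≤ T := sup_le hQT ((zpowers_le).mpr hxT)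
  have hQ₁2 : IsPGroup 2 Q₁ := hT.to_le hQ₁T
  have hQ₁A : Q₁ ≤ commSub O J := by
    apply sup_le
    · intro q hq
      refine ⟨hQO hq, fun j hj => ?_⟩
      have h2 : q * j = j * q := mem_centralizer_iff.mp (hJQ hj) q hq
      have e2 : q * j * q⁻¹ * j⁻¹ = 1 := by rw [h2]; group
      rw [e2]; exact O.one_mem
    · rw [zpowers_le]
      exact ⟨hxO, hxJ⟩
  have hQ₁O : Q₁ ≤ normalizer (O : Set Γ) := fun y hy => (hQ₁A hy).1
  have hQ₁K : Q₁ ≤ normalizer (K : Set Γ) := hQ₁T.trans hTK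
  have hQltQ₁ : Q < Q₁ := lt_of_le_of_ne hQQ₁ (fun h => hxQ (by rw [h]; exact hxQ₁))
  -- the supplement
  set C₁ : Subgroup Γ := centralizer (Q₁ : Set Γ) ⊓ (J ⊔ O) with hC₁def
  let p : Subgroup Γ → Prop := fun X => X ≤ C₁ ∧ J ≤ X ⊔ O
  have hpC₁ : p C₁ := by
    refine ⟨le_rfl, fun j hj => ?_⟩
    obtain ⟨o, ho, hoj⟩ := exists_mul_mem_centralizer hQ₁2 (oc_card C) hQ₁O
      (fun y hy => (hQ₁A hy).2 j hj)
    have h1 : o * j ∈ C₁ :=
      ⟨hoj, mul_mem (Subgroup.mem_sup_right ho) (Subgroup.mem_sup_left hj)⟩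
    have e : j = o⁻¹ * (o * j) := by group
    rw [e]
    exact mul_mem (Subgroup.mem_sup_right (O.inv_mem ho)) (Subgroup.mem_sup_left h1)
  obtain ⟨J₁, -, hJ₁min⟩ := Finite.exists_le_minimal hpC₁
  have hJ₁C₁ : J₁ ≤ C₁ := hJ₁min.prop.1
  have hJJ₁ : J ≤ J₁ ⊔ O := hJ₁min.prop.2
  have hJOO : J ⊔ O ≤ normalizer (O : Set Γ) := sup_le hJO le_normalizer
  have hJ₁O : J₁ ≤ normalizer (O : Set Γ) := fun g hg => hJOO (hJ₁C₁ hg).2
  have hJ₁perf : ⁅J₁, J₁⁆ = J₁ := by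
    have hp' : p ⁅J₁, J₁⁆ := by
      refine ⟨(Subgroup.commutator_le_self J₁).trans hJ₁C₁, ?_⟩
      calc J = ⁅J, J⁆ := hJ.symm
        _ ≤ ⁅J₁ ⊔ O, J₁ ⊔ O⁆ := Subgroup.commutator_mono hJJ₁ hJJ₁
        _ ≤ ⁅J₁, J₁⁆ ⊔ O := commutator_sup_le hJ₁O
    exact le_antisymm (Subgroup.commutator_le_self J₁)
      (hJ₁min.le_of_le hp' (Subgroup.commutator_le_self J₁))
  have hOK : O ≤ normalizer (K : Set Γ) := (hOC.trans hCK).trans le_normalizer
  have hJ₁K : J₁ ≤ normalizer (K : Set Γ) := fun g hg => (sup_le hJK hOK) (hJ₁C₁ hg).2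
  have hJ₁Q₁ : J₁ ≤ centralizer (Q₁ : Set Γ) := fun g hg => (hJ₁C₁ hg).1
  -- the commutator hypothesis for `(Q₁, J₁)`
  set C' : Subgroup Γ := K ⊓ centralizer (Q₁ : Set Γ) with hC'def
  have hC'C : C' ≤ C := inf_le_inf_left K (Subgroup.centralizer_le (by exact_mod_cast hQQ₁))
  have hCJ₁ : ⁅C', J₁⁆ ≤ oc C' := by
    have hM : O ⊓ C' ≤ oc C' := by
      apply le_oc inf_le_right
      · intro c hc
        rw [mem_normalizer_iff]
        intro h
        have hcO := hCO (hC'C hc)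
        constructor
        · rintro ⟨h1, h2⟩
          exact ⟨(mem_normalizer_iff.mp hcO h).mp h1, C'.mul_mem (C'.mul_mem hc h2) (C'.inv_mem hc)⟩
        · rintro ⟨h1, h2⟩
          refine ⟨(mem_normalizer_iff.mp hcO h).mpr h1, ?_⟩
          have := C'.mul_mem (C'.mul_mem (C'.inv_mem hc) h2) hc
          have e : c⁻¹ * (c * h * c⁻¹) * c = h := by group
          rwa [e] at this
      · exact Nat.Coprime.coprime_dvd_left (Subgroup.card_dvd_of_le inf_le_left) (oc_card C)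
    refine le_trans ?_ hM
    rw [Subgroup.commutator_le]
    intro c hc j₁ hj₁
    refine ⟨?_, ?_⟩
    · -- in `O`
      have hj₁' : j₁ ∈ J ⊔ O := (hJ₁C₁ hj₁).2
      obtain ⟨j, hj, o, ho, rfl⟩ :=
        Cfsg.Agent.Lib.Helper31_LBalance.exists_mul_of_mem_sup hJO hj₁'
      have hcC : c ∈ C := hC'C hc
      have h1 : ⁅c, j⁆ ∈ O := hCJ (Subgroup.commutator_mem_commutator hcC hj)
      have h2 : c * o * c⁻¹ ∈ O := (mem_normalizer_iff.mp (hCO hcC) o).mp ho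
      have h3 : j * (c * o * c⁻¹ * o⁻¹) * j⁻¹ ∈ O :=
        (mem_normalizer_iff.mp (hJO hj) _).mp (O.mul_mem h2 (O.inv_mem ho))
      have e : ⁅c, j * o⁆ = ⁅c, j⁆ * (j * (c * o * c⁻¹ * o⁻¹) * j⁻¹) := by
        simp only [commutatorElement_def]; group
      rw [e]; exact O.mul_mem h1 h3
    · -- in `C'`
      have hn : j₁ ∈ normalizer (C' : Set Γ) :=
        mem_normalizer_inf_centralizer (hJ₁K hj₁) (centralizer_le_normalizer _ (hJ₁Q₁ hj₁))
      have h1 : j₁ * c⁻¹ * j₁⁻¹ ∈ C' := (mem_normalizer_iff.mp hn _).mp (C'.inv_mem hc)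
      have e : ⁅c, j₁⁆ = c * (j₁ * c⁻¹ * j₁⁻¹) := by rw [commutatorElement_def]; group
      rw [e]; exact C'.mul_mem hc h1
  -- apply the induction hypothesis
  have hcardlt : Nat.card Q < Nat.card Q₁ := Cfsg.Agent.Lib.Helper33_Alperin.card_lt_of_lt hQltQ₁
  have hcardle : Nat.card Q₁ ≤ Nat.card T := Subgroup.card_le_of_le hQ₁T
  have hmeas : Nat.card T - Nat.card Q₁ < n := by omega
  obtain ⟨m₁, hm₁odd, hm₁⟩ := ih _ hmeas Q₁ J₁ rfl hQ₁T
    (hTKQ.trans (sup_le_sup_left hQQ₁ K)) hQ₁K hJ₁K hJ₁Q₁ hJ₁perf hCJ₁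
  -- conclusion
  refine ⟨m₁ * Nat.card O, hm₁odd.mul (oc_odd C), fun j hj => ?_⟩
  obtain ⟨j₁, hj₁, o, ho, rfl⟩ :=
    Cfsg.Agent.Lib.Helper31_LBalance.exists_mul_of_mem_sup hJ₁O (hJJ₁ hj)
  obtain ⟨o', ho', hpow⟩ := exists_pow_mul_eq (hJ₁O hj₁) ho m₁
  have hc := hm₁ j₁ hj₁
  have hcomm : Commute (j₁ ^ m₁) o' :=
    (mem_centralizer_iff.mp hc o' (hCK (hOC ho'))).symm
  have ho'1 : o' ^ Nat.card O = 1 := by
    have h0 := pow_card_eq_one' (G := O) (x := ⟨o', ho'⟩)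
    have h1 := congrArg Subtype.val h0
    rw [SubgroupClass.coe_pow] at h1
    exact h1
  rw [pow_mul, hpow, hcomm.mul_pow, ho'1, mul_one]
  exact pow_mem hc _

/-- **Theorem B (climbing).**  Let `K ≤ Γ` with `O(K) = 1`, `Q ≤ N(K)` a `2`-subgroup and
`J ≤ N(K) ∩ C(Q)` a perfect subgroup with `[C_K(Q), J] ≤ O(C_K(Q))`.  Then `J` acts on `K` as a
group of odd exponent. -/
theorem climb (K : Subgroup Γ) (hcore : pPrimeCore 2 ↥K = ⊥) (Q J : Subgroup Γ)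
    (hQ : IsPGroup 2 Q) (hQK : Q ≤ normalizer (K : Set Γ)) (hJK : J ≤ normalizer (K : Set Γ))
    (hJQ : J ≤ centralizer (Q : Set Γ)) (hJ : ⁅J, J⁆ = J)
    (hCJ : ⁅K ⊓ centralizer (Q : Set Γ), J⁆ ≤ oc (K ⊓ centralizer (Q : Set Γ))) :
    ∃ m : ℕ, Odd m ∧ ∀ j ∈ J, j ^ m ∈ centralizer (K : Set Γ) := by
  obtain ⟨T, hT2, hQT, hTKQ, S, hST⟩ := exists_sylow_sup K Q hQ hQK
  exact climb_aux K hcore S T hT2 hST _ Q J rfl hQT hTKQ hQK hJK hJQ hJ hCJ

/-- **Theorem B**, final form: if moreover `J` is generated by `2`-elements then `J`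
centralizes `K`. -/
theorem le_centralizer_of_climb (K : Subgroup Γ) (hcore : pPrimeCore 2 ↥K = ⊥) (Q J : Subgroup Γ)
    (hQ : IsPGroup 2 Q) (hQK : Q ≤ normalizer (K : Set Γ)) (hJK : J ≤ normalizer (K : Set Γ))
    (hJQ : J ≤ centralizer (Q : Set Γ)) (hJ : ⁅J, J⁆ = J)
    (hgen : J ≤ closure {a | a ∈ J ∧ ∃ k : ℕ, a ^ 2 ^ k = 1})
    (hCJ : ⁅K ⊓ centralizer (Q : Set Γ), J⁆ ≤ oc (K ⊓ centralizer (Q : Set Γ))) :
    J ≤ centralizer (K : Set Γ) := by
  obtain ⟨m, hm, hpow⟩ := climb K hcore Q J hQ hQK hJK hJQ hJ hCJ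
  refine hgen.trans ((closure_le _).mpr ?_)
  rintro a ⟨haJ, k, hk⟩
  -- `a` is a power of `a ^ m`
  have hcop : Nat.Coprime m (2 ^ k) := Nat.Coprime.pow_right k (Nat.coprime_two_right.mpr hm)
  have hcop' : Nat.Coprime m (orderOf a) :=
    Nat.Coprime.coprime_dvd_right (orderOf_dvd_of_pow_eq_one hk) hcop
  obtain ⟨i, hi⟩ := exists_pow_eq_self_of_coprime hcop'
  have : a ∈ centralizer (K : Set Γ) := by
    rw [← hi]; exact pow_mem (hpow a haJ) i
  exact this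

end Climb

end Cfsg.Agent.Lib.Helper1_LBal2B
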