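import Mathlib
import Cfsg.Agent.Lib.Helper31_LBalance

/-!
# `L_{2'}`-balance without the Schreier property: definitions (lead)

Class `IsJ2`: perfect and generated by `2`-elements.  See `pending/lead/S1301_proof.md`.
-/

set_option autoImplicit false

universe u

namespace Cfsg.Agent.Lib.Lead_LBal2

open Cfsg
open scoped commutatorElement

/-- The class `𝒥`: `J` is perfect and is generated by its elements of `2`-power order. -/
def IsJ2 {G : Type*} [Group G] (J : Subgroup G) : Prop :=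
  ⁅J, J⁆ = J ∧ Subgroup.closure {x : G | x ∈ J ∧ ∃ n : ℕ, x ^ (2 ^ n) = 1} = J

/-- `S` is a Sylow `2`-subgroup of the subgroup `K` (both subgroups of the ambient group). -/
def IsSyl2In {G : Type*} [Group G] (S K : Subgroup G) : Prop :=
  S ≤ K ∧ IsPGroup 2 ↥S ∧ ¬ 2 ∣ S.relIndex K

/-- `O(H)` of a subgroup `H`, as a subgroup of the ambient group. -/
def oddCoreOf {G : Type*} [Group G] (H : Subgroup G) : Subgroup G :=
  (pPrimeCore 2 ↥H).map H.subtype

/-- Statement of Theorem A (Glauberman): a `𝒥`-group of automorphisms centralizing a Sylow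
`2`-subgroup of a core-free group is trivial. -/
def ThmA_Statement : Prop :=
  ∀ {Γ : Type u} [Group Γ] [Finite Γ] (K S J : Subgroup Γ), pPrimeCore 2 ↥K = ⊥ → IsSyl2In S K →
    J ≤ Subgroup.normalizer (K : Set Γ) → J ≤ Subgroup.centralizer (S : Set Γ) → IsJ2 J →
    ∀ k ∈ K, ∀ j ∈ J, k * j = j * k

/-- Statement of Theorem B (climbing). -/
def ThmB_Statement : Prop :=
  ∀ {Γ : Type u} [Group Γ] [Finite Γ] (K Q J : Subgroup Γ), pPrimeCore 2 ↥K = ⊥ → IsPGroup 2 ↥Q →
    Q ≤ Subgroup.normalizer (K : Set Γ) → J ≤ Subgroup.normalizer (K : Set Γ) →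
    J ≤ Subgroup.centralizer (Q : Set Γ) → IsJ2 J →
    (∀ c ∈ K ⊓ Subgroup.centralizer (Q : Set Γ), ∀ j ∈ J,
      ⁅c, j⁆ ∈ oddCoreOf (K ⊓ Subgroup.centralizer (Q : Set Γ))) →
    ∀ k ∈ K, ∀ j ∈ J, k * j = j * k

/-- Statement of Theorem C (the replacement of `le_layer_of_le_compKer` for `p = 2`). -/
def ThmC_Statement : Prop :=
  ∀ {G : Type u} [Group G] [Finite G], pPrimeCore 2 G = ⊥ → ∀ (P : Subgroup G), IsPGroup 2 ↥P →
    pCore 2 G ≤ P → ∀ (D : Subgroup G), (Nat.card D).Coprime 2 → ∀ (J : Subgroup G), IsJ2 J →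
    J ≤ Subgroup.centralizer (P : Set G) → J ≤ Helper31_LBalance.compKer G →
    (∀ t ∈ layer G ⊓ Subgroup.normalizer (P : Set G), ∀ g ∈ J, ⁅t, g⁆ ∈ D) →
    ∀ K : Subgroup G, IsComponent K → J ≤ Subgroup.centralizer (K : Set G)

end Cfsg.Agent.Lib.Lead_LBal2
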