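import Mathlib
import Cfsg.Agent.Lib.Lead_LBal2Defs
import Cfsg.Agent.Lib.Helper1_GlaubAut
import Cfsg.Agent.Lib.Helper1_LBal2B

/-!
# `L_{2'}`-balance: Theorems A and B in the interface form of `Lead_LBal2Defs` (helper1)
-/

set_option autoImplicit false

universe u

namespace Cfsg.Agent.Lib.Helper1_LBal2_AB

open Subgroup Cfsg
open scoped commutatorElement
open Cfsg.Agent.Lib.Lead_LBal2

theorem le_closure_of_isJ2 {G : Type*} [Group G] {J : Subgroup G} (h : Lead_LBal2.IsJ2 J) :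
    J ≤ closure {a | a ∈ J ∧ ∃ k : ℕ, a ^ 2 ^ k = 1} := by
  have := h.2
  exact le_of_eq this.symm

/-- Theorem A (Glauberman) in interface form. -/
theorem thmA : ThmA_Statement.{u} := by
  intro Γ _ _ K S J hcore hS hJK hJS hJ2 k hk j hj
  obtain ⟨hSK, hS2, hSidx⟩ := hS
  have hP : IsPGroup 2 (S.subgroupOf K) := hS2.comap_subtype
  have hnd : ¬ 2 ∣ (S.subgroupOf K).index := hSidx
  have hcoe : ((hP.toSylow hnd : Sylow 2 ↥K) : Subgroup ↥K) = S.subgroupOf K :=
    IsPGroup.toSylow_coe _ _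
  have hJS' : ∀ j ∈ J, ∀ s ∈ ((hP.toSylow hnd : Sylow 2 ↥K) : Subgroup ↥K),
      j * (s : Γ) = (s : Γ) * j := by
    intro j hj s hs
    rw [hcoe, Subgroup.mem_subgroupOf] at hs
    exact (mem_centralizer_iff.mp (hJS hj) _ hs).symm
  have hle := Cfsg.Agent.Lib.Helper1_GlaubAut.le_centralizer_of_perfect_of_gen K hcore
    (hP.toSylow hnd) J hJK hJS' hJ2.1 (le_closure_of_isJ2 hJ2)
  exact mem_centralizer_iff.mp (hle hj) k hk

/-- Theorem B (climbing) in interface form. -/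
theorem thmB : ThmB_Statement.{u} := by
  intro Γ _ _ K Q J hcore hQ hQK hJK hJQ hJ2 h k hk j hj
  have hCJ : ⁅K ⊓ centralizer (Q : Set Γ), J⁆ ≤
      Cfsg.Agent.Lib.Helper1_LBal2B.oc (K ⊓ centralizer (Q : Set Γ)) := by
    rw [Subgroup.commutator_le]
    intro c hc j hj
    exact h c hc j hj
  have hle := Cfsg.Agent.Lib.Helper1_LBal2B.le_centralizer_of_climb K hcore Q J hQ hQK hJK hJQ
    hJ2.1 (le_closure_of_isJ2 hJ2) hCJ
  exact mem_centralizer_iff.mp (hle hj) k hk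

end Cfsg.Agent.Lib.Helper1_LBal2_AB
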