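import Mathlib
import Cfsg.Agent.Lib.Lead_LBal2Defs
import Cfsg.Agent.Lib.Helper1_LBal2B
import Cfsg.Agent.Lib.Helper1_LBal2_AB
import Cfsg.Agent.Lib.Helper31_AG
import Cfsg.Agent.Lib.Helper22_Cores

/-!
# `L_{2'}`-balance, Theorem C (helper1)

Theorem C of `pending/lead/S1301_proof.md`: the replacement of `le_layer_of_le_compKer` for
`p = 2`.  For a component `K` and `c ∈ C_K(N_P(K))` the product `e` of the `P`-conjugates of `c`
lies in `E(G) ∩ C_G(P)` (`exists_diag`), so `[c, j] ∈ K ∩ D₁ C_G(K)` for `j ∈ J`; hence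
`B = [C_K(N_P(K)), J]` has odd exponent modulo `Z(K)`, its `2`-elements lie in
`Z(K) ≤ O₂(G) ≤ P`, `B ⊆ O(C) · Z(K)` (Burnside step `exists_mul_of_central_sylow`), so
`[B, J] ≤ O(C)`, `[C, J] ≤ O(C)` (three subgroups) and Theorem B (`le_centralizer_of_climb`)
applies.
-/

set_option autoImplicit false
set_option linter.unusedSectionVars false

universe u

namespace Cfsg.Agent.Lib.Helper1_LBal2_C

open Subgroup Cfsg
open scoped commutatorElement
open Cfsg.Agent.Lib.Lead_LBal2 Cfsg.Agent.Lib.Helper33_Conj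

section Reindex

variable {ι : Type*} [Fintype ι] {M : Type*} [Monoid M]

theorem multiset_noncommProd_congr {s t : Multiset M} (h : s = t) (cs) (ct) :
    Multiset.noncommProd s cs = Multiset.noncommProd t ct := by
  subst h; rfl

/-- Reindexing a noncommutative product over a finite type by a permutation. -/
theorem noncommProd_univ_equiv (σ : ι ≃ ι) (f : ι → M) (comm) (comm') :
    Finset.univ.noncommProd (fun i => f (σ i)) comm' = Finset.univ.noncommProd f comm := by
  unfold Finset.noncommProd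
  apply multiset_noncommProd_congr
  have h1 : Multiset.map (fun i => f (σ i)) (Finset.univ : Finset ι).val =
      Multiset.map f (Multiset.map σ (Finset.univ : Finset ι).val) := by
    rw [Multiset.map_map]; rfl
  rw [h1, Multiset.map_univ_val_equiv]

end Reindex


section Diag

variable {G : Type u} [Group G] [Finite G]

/-- Distinct components commute elementwise. -/
theorem commute_of_components_ne {K₁ K₂ : Subgroup G} (h₁ : IsComponent K₁) (h₂ : IsComponent K₂)
    (hne : K₁ ≠ K₂) {a b : G} (ha : a ∈ K₁) (hb : b ∈ K₂) : Commute a b := by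
  have h := Cfsg.Agent.Lib.Helper21_Components.IsComponent.commutator_eq_bot_of_ne h₁ h₂ hne
  rw [Subgroup.commutator_eq_bot_iff_le_centralizer] at h
  exact (mem_centralizer_iff.mp (h ha) b hb).symm

/-- **The diagonal element.**  For a component `K`, a subgroup `P` and `c ∈ C_K(N_P(K))` there is
`e ∈ E(G) ∩ C_G(P)` with `e ∈ c · C_G(K)` (the product of the `P`-conjugates of `c`). -/
theorem exists_diag {K : Subgroup G} (hK : IsComponent K) (P : Subgroup G) {c : G} (hcK : c ∈ K)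
    (hcQ : c ∈ centralizer ((P ⊓ normalizer (K : Set G) : Subgroup G) : Set G)) :
    ∃ e ∈ layer G, e ∈ centralizer (P : Set G) ∧ ∃ f ∈ centralizer (K : Set G), e = c * f := by
  classical
  set Q : Subgroup G := P ⊓ normalizer (K : Set G) with hQ
  let H : Subgroup ↥P := Q.subgroupOf P
  let ι := ↥P ⧸ H
  haveI : Fintype ι := Fintype.ofFinite ι
  let g : ι → G := fun i => ((Quotient.out i : ↥P) : G) * c * ((Quotient.out i : ↥P) : G)⁻¹
  -- the conjugate depends only on the coset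
  have key1 : ∀ a b : ↥P, (QuotientGroup.mk a : ι) = QuotientGroup.mk b →
      (a : G) * c * (a : G)⁻¹ = (b : G) * c * (b : G)⁻¹ := by
    intro a b hab
    have h1 : a⁻¹ * b ∈ H := QuotientGroup.eq.mp hab
    have h2 : ((a⁻¹ * b : ↥P) : G) ∈ Q := Subgroup.mem_subgroupOf.mp h1
    have h3 := mem_centralizer_iff.mp hcQ _ h2
    have e1 : ((a⁻¹ * b : ↥P) : G) = (a : G)⁻¹ * (b : G) := by simp
    rw [e1] at h3
    calc (a : G) * c * (a : G)⁻¹ = (a : G) * (c * ((a : G)⁻¹ * (b : G))) * (b : G)⁻¹ := by group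
      _ = (a : G) * (((a : G)⁻¹ * (b : G)) * c) * (b : G)⁻¹ := by rw [h3]
      _ = (b : G) * c * (b : G)⁻¹ := by group
  -- conjugates of `K` by representatives of different cosets are different
  have key0 : ∀ a b : ↥P, cj (a : G) K = cj (b : G) K → (QuotientGroup.mk a : ι) = QuotientGroup.mk b := by
    intro a b hab
    apply QuotientGroup.eq.mpr
    rw [Subgroup.mem_subgroupOf]
    refine ⟨(a⁻¹ * b : ↥P).2, ?_⟩
    have e1 : ((a⁻¹ * b : ↥P) : G) = (a : G)⁻¹ * (b : G) := by simp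
    rw [e1]
    show (a : G)⁻¹ * (b : G) ∈ normalizer (K : Set G)
    rw [mem_normalizer_iff_cj, cj_mul, ← hab, cj_inv_cj]
  have hcomp : ∀ a : ↥P, IsComponent (cj (a : G) K) := fun a =>
    Cfsg.Agent.Lib.Helper31_LBalance.isComponent_cj (a : G) hK
  have hmem : ∀ a : ↥P, (a : G) * c * (a : G)⁻¹ ∈ cj (a : G) K := fun a => conj_mem_cj hcK
  have key2 : ∀ a b : ↥P, (QuotientGroup.mk a : ι) ≠ QuotientGroup.mk b →
      Commute ((a : G) * c * (a : G)⁻¹) ((b : G) * c * (b : G)⁻¹) := by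
    intro a b hab
    have hne : cj (a : G) K ≠ cj (b : G) K := fun h => hab (key0 a b h)
    exact commute_of_components_ne (hcomp a) (hcomp b) hne (hmem a) (hmem b)
  have hout : ∀ i : ι, (QuotientGroup.mk (Quotient.out i : ↥P) : ι) = i := fun i =>
    QuotientGroup.out_eq' i
  have hcomm : ((Finset.univ : Finset ι) : Set ι).Pairwise (fun i j => Commute (g i) (g j)) := by
    intro i _ j _ hij
    apply key2
    rw [hout, hout]; exact hij
  refine ⟨Finset.univ.noncommProd g hcomm, ?_, ?_, ?_⟩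
  · -- in the layer
    apply Subgroup.noncommProd_mem
    intro i _
    exact (Cfsg.Agent.Lib.Helper29_Local.IsComponent.le_layer (hcomp (Quotient.out i)))
      (hmem (Quotient.out i))
  · -- centralized by `P`
    rw [mem_centralizer_iff]
    intro y hy
    have hconj : (MulAut.conj y) (Finset.univ.noncommProd g hcomm) =
        Finset.univ.noncommProd g hcomm := by
      rw [Finset.map_noncommProd]
      let σ : ι ≃ ι := MulAction.toPerm (⟨y, hy⟩ : ↥P)
      have hσ : ∀ i : ι, (MulAut.conj y) (g i) = g (σ i) := by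
        intro i
        have h1 : (QuotientGroup.mk ((⟨y, hy⟩ : ↥P) * (Quotient.out i : ↥P)) : ι) =
            QuotientGroup.mk (Quotient.out (σ i) : ↥P) := by
          rw [hout]
          show _ = (⟨y, hy⟩ : ↥P) • i
          conv_rhs => rw [← hout i]
          rfl
        have h2 := key1 _ _ h1
        show y * (((Quotient.out i : ↥P) : G) * c * ((Quotient.out i : ↥P) : G)⁻¹) * y⁻¹ = g (σ i)
        have e2 : (((⟨y, hy⟩ : ↥P) * (Quotient.out i : ↥P) : ↥P) : G) =
            y * ((Quotient.out i : ↥P) : G) := rfl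
        rw [e2] at h2
        show _ = ((Quotient.out (σ i) : ↥P) : G) * c * ((Quotient.out (σ i) : ↥P) : G)⁻¹
        rw [← h2]; group
      have hcomm' : ((Finset.univ : Finset ι) : Set ι).Pairwise
          (fun i j => Commute (g (σ i)) (g (σ j))) := by
        intro i _ j _ hij
        exact hcomm (Finset.mem_coe.mpr (Finset.mem_univ _)) (Finset.mem_coe.mpr (Finset.mem_univ _))
          (fun h => hij (σ.injective h))
      exact (Finset.noncommProd_congr rfl (fun i _ => hσ i) _).trans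
        (noncommProd_univ_equiv σ g hcomm _)
    have hconj' : y * Finset.univ.noncommProd g hcomm * y⁻¹ = Finset.univ.noncommProd g hcomm :=
      hconj
    calc y * Finset.univ.noncommProd g hcomm
        = (y * Finset.univ.noncommProd g hcomm * y⁻¹) * y := by group
      _ = Finset.univ.noncommProd g hcomm * y := by rw [hconj']
  · -- the `K`-component is `c`
    let i₀ : ι := QuotientGroup.mk (1 : ↥P)
    have hg₀ : g i₀ = c := by
      have := key1 (Quotient.out i₀ : ↥P) 1 (hout i₀)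
      show ((Quotient.out i₀ : ↥P) : G) * c * ((Quotient.out i₀ : ↥P) : G)⁻¹ = c
      rw [this]; simp
    have herase := Finset.mul_noncommProd_erase Finset.univ (Finset.mem_univ i₀) g hcomm
    refine ⟨_, ?_, (by rw [← herase, hg₀])⟩
    apply Subgroup.noncommProd_mem
    intro i hi
    have hi' : i ≠ i₀ := (Finset.mem_erase.mp hi).1
    have hne : cj ((Quotient.out i : ↥P) : G) K ≠ K := by
      intro h
      apply hi'
      have h1 : cj ((Quotient.out i : ↥P) : G) K = cj ((1 : ↥P) : G) K := by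
        rw [h]; simp [cj_one]
      have := key0 _ _ h1
      rw [hout] at this
      exact this
    have hcommK := Cfsg.Agent.Lib.Helper21_Components.IsComponent.commutator_eq_bot_of_ne
      (hcomp (Quotient.out i)) hK hne
    rw [Subgroup.commutator_eq_bot_iff_le_centralizer] at hcommK
    exact hcommK (hmem (Quotient.out i))

end Diag


section Main

open Cfsg.Agent.Lib.Helper1_LBal2B Cfsg.Agent.Lib.Helper31_LBalance

variable {G : Type u} [Group G] [Finite G]

/-- A subgroup generated by a set whose conjugates under `g`, `g⁻¹` stay in the subgroup is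
normalized by `g`. -/
theorem mem_normalizer_closure' {S : Set G} {g : G}
    (h1 : ∀ s ∈ S, g * s * g⁻¹ ∈ closure S) (h2 : ∀ s ∈ S, g⁻¹ * s * g ∈ closure S) :
    g ∈ normalizer ((closure S : Subgroup G) : Set G) := by
  have key : ∀ g : G, (∀ s ∈ S, g * s * g⁻¹ ∈ closure S) →
      ∀ h ∈ closure S, g * h * g⁻¹ ∈ closure S := by
    intro g hg h hh
    induction hh using Subgroup.closure_induction with
    | mem x hx => exact hg x hx
    | one => simp
    | mul x y _ _ hx hy =>
      have e : g * (x * y) * g⁻¹ = (g * x * g⁻¹) * (g * y * g⁻¹) := by group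
      rw [e]; exact mul_mem hx hy
    | inv x _ hx =>
      have e : g * x⁻¹ * g⁻¹ = (g * x * g⁻¹)⁻¹ := by group
      rw [e]; exact inv_mem hx
  rw [mem_normalizer_iff]
  intro h
  constructor
  · exact key g h1 h
  · intro hh
    have h2' : ∀ s ∈ S, g⁻¹ * s * g⁻¹⁻¹ ∈ closure S := by
      intro s hs
      have := h2 s hs
      simpa using this
    have := key g⁻¹ h2' _ hh
    have e : g⁻¹ * (g * h * g⁻¹) * g⁻¹⁻¹ = h := by group
    rwa [e] at this

/-- `[A, B]` is normalized by `A`. -/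
theorem le_normalizer_commutator (A B : Subgroup G) :
    A ≤ normalizer ((⁅A, B⁆ : Subgroup G) : Set G) := by
  intro a ha
  rw [Subgroup.commutator_def]
  have key : ∀ a ∈ A, ∀ s ∈ {g | ∃ g₁ ∈ A, ∃ g₂ ∈ B, ⁅g₁, g₂⁆ = g},
      a * s * a⁻¹ ∈ closure {g | ∃ g₁ ∈ A, ∃ g₂ ∈ B, ⁅g₁, g₂⁆ = g} := by
    rintro a ha _ ⟨g₁, hg₁, g₂, hg₂, rfl⟩
    have e : a * ⁅g₁, g₂⁆ * a⁻¹ = ⁅a * g₁, g₂⁆ * ⁅a, g₂⁆⁻¹ := by
      simp only [commutatorElement_def]; group
    rw [e]
    apply mul_mem
    · exact Subgroup.subset_closure ⟨a * g₁, A.mul_mem ha hg₁, g₂, hg₂, rfl⟩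
    · exact inv_mem (Subgroup.subset_closure ⟨a, ha, g₂, hg₂, rfl⟩)
  apply mem_normalizer_closure'
  · exact key a ha
  · intro s hs
    have := key a⁻¹ (A.inv_mem ha) s hs
    simpa using this

/-- **Theorem C.** -/
theorem thmC : ThmC_Statement.{u} := by
  intro G _ _ h0 P hP hFP D hD J hJ2 hJP hJK hJt K hK
  have hKsn : K.IsSubnormal := hK.1
  have hcoreK : pPrimeCore 2 ↥K = ⊥ := by
    have h1 := Cfsg.Agent.Lib.Helper22_Cores.map_pPrimeCore_of_isSubnormal 2 hKsn
    rw [h0, inf_bot_eq] at h1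
    exact (Subgroup.map_eq_bot_iff_of_injective _ (Subgroup.subtype_injective K)).mp h1
  have hJNK : J ≤ normalizer (K : Set G) := fun j hj => mem_compKer.mp (hJK hj) K hK
  set Q : Subgroup G := P ⊓ normalizer (K : Set G) with hQdef
  have hQ2 : IsPGroup 2 Q := hP.to_le inf_le_left
  have hQK : Q ≤ normalizer (K : Set G) := inf_le_right
  have hJQ : J ≤ centralizer (Q : Set G) :=
    hJP.trans (Subgroup.centralizer_le (by exact_mod_cast (inf_le_left : Q ≤ P)))
  apply le_centralizer_of_climb K hcoreK Q J hQ2 hQK hJNK hJQ hJ2.1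
    (Cfsg.Agent.Lib.Helper1_LBal2_AB.le_closure_of_isJ2 hJ2)
  set C : Subgroup G := K ⊓ centralizer (Q : Set G) with hCdef
  set O : Subgroup G := oc C with hOdef
  have hCK : C ≤ K := inf_le_left
  have hKNK : K ≤ normalizer (K : Set G) := le_normalizer
  have hJC : J ≤ normalizer (C : Set G) := fun j hj =>
    mem_normalizer_inf_centralizer (hJNK hj) (centralizer_le_normalizer _ (hJQ hj))
  have hJO : J ≤ normalizer (O : Set G) := fun j hj => normalizer_le_normalizer_oc C (hJC hj)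
  have hCO : C ≤ normalizer (O : Set G) := fun c hc => normalizer_le_normalizer_oc C (le_normalizer hc)
  set B : Subgroup G := ⁅C, J⁆ with hBdef
  have hBC : B ≤ C := by
    rw [hBdef, Subgroup.commutator_le]
    intro c hc j hj
    have h1 : j * c⁻¹ * j⁻¹ ∈ C := (mem_normalizer_iff.mp (hJC hj) _).mp (C.inv_mem hc)
    have e : ⁅c, j⁆ = c * (j * c⁻¹ * j⁻¹) := by rw [commutatorElement_def]; group
    rw [e]; exact C.mul_mem hc h1
  -- the subgroup `M`
  set CK : Subgroup G := centralizer (K : Set G) with hCKdef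
  set D₁ : Subgroup G := D ⊓ normalizer (K : Set G) with hD₁def
  have hNCK : normalizer (K : Set G) ≤ normalizer (CK : Set G) :=
    normalizer_le_normalizer_centralizer' K
  have hCKN : CK ≤ normalizer (K : Set G) := centralizer_le_normalizer _
  have hD₁CK : D₁ ≤ normalizer (CK : Set G) := inf_le_right.trans hNCK
  have hconjCK : ∀ g ∈ normalizer (K : Set G), ∀ z ∈ CK, g * z * g⁻¹ ∈ CK := fun g hg z hz =>
    (mem_normalizer_iff.mp (hNCK hg) z).mp hz
  have hgenM : ∀ c ∈ C, ∀ j ∈ J, ⁅c, j⁆ ∈ K ⊓ (D₁ ⊔ CK) := by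
    intro c hc j hj
    obtain ⟨e, heL, heP, f, hf, rfl⟩ := exists_diag hK P hc.1 hc.2
    have hd : ⁅c * f, j⁆ ∈ D := hJt (c * f) ⟨heL, centralizer_le_normalizer _ heP⟩ j hj
    have hcjK : ⁅c, j⁆ ∈ K := by
      have h1 : j * c⁻¹ * j⁻¹ ∈ K := (mem_normalizer_iff.mp (hJNK hj) _).mp (K.inv_mem hc.1)
      have e : ⁅c, j⁆ = c * (j * c⁻¹ * j⁻¹) := by rw [commutatorElement_def]; group
      rw [e]; exact K.mul_mem hc.1 h1
    have hz : c * ⁅f, j⁆ * c⁻¹ ∈ CK := by
      apply hconjCK c (hKNK hc.1)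
      have h1 : j * f⁻¹ * j⁻¹ ∈ CK := hconjCK j (hJNK hj) _ (CK.inv_mem hf)
      have e : ⁅f, j⁆ = f * (j * f⁻¹ * j⁻¹) := by rw [commutatorElement_def]; group
      rw [e]; exact CK.mul_mem hf h1
    have hid : ⁅c * f, j⁆ = (c * ⁅f, j⁆ * c⁻¹) * ⁅c, j⁆ := by
      simp only [commutatorElement_def]; group
    have hdN : ⁅c * f, j⁆ ∈ normalizer (K : Set G) := by
      rw [hid]; exact mul_mem (hCKN hz) (hKNK hcjK)
    refine ⟨hcjK, ?_⟩
    have e2 : ⁅c, j⁆ = (c * ⁅f, j⁆ * c⁻¹)⁻¹ * ⁅c * f, j⁆ := by rw [hid]; group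
    rw [e2]
    exact mul_mem (Subgroup.mem_sup_right (CK.inv_mem hz)) (Subgroup.mem_sup_left ⟨hd, hdN⟩)
  have hBM : B ≤ K ⊓ (D₁ ⊔ CK) := by
    rw [hBdef, Subgroup.commutator_le]; exact hgenM
  -- odd exponent modulo `Z(K)`
  have hr : (Nat.card D₁).Coprime 2 :=
    Nat.Coprime.coprime_dvd_left (Subgroup.card_dvd_of_le inf_le_left) hD
  have hpowM : ∀ m ∈ K ⊓ (D₁ ⊔ CK), m ^ Nat.card D₁ ∈ K ⊓ CK := by
    rintro m ⟨hmK, hm⟩
    refine ⟨pow_mem hmK _, ?_⟩
    obtain ⟨d', hd', z, hz, rfl⟩ := exists_mul_of_mem_sup hD₁CK hm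
    obtain ⟨z', hz', hpow⟩ := exists_pow_mul_eq (hD₁CK hd') hz (Nat.card D₁)
    have hd1 : d' ^ Nat.card D₁ = 1 := by
      have h0' := pow_card_eq_one' (G := D₁) (x := ⟨d', hd'⟩)
      have h1 := congrArg Subtype.val h0'
      rw [SubgroupClass.coe_pow] at h1
      exact h1
    rw [hpow, hd1, one_mul]; exact hz'
  have h2elt : ∀ b ∈ B, ∀ k : ℕ, b ^ 2 ^ k = 1 → b ∈ K ⊓ CK := by
    intro b hb k hk
    have h1 := hpowM b (hBM hb)
    have hcop : Nat.Coprime (Nat.card D₁) (orderOf b) :=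
      Nat.Coprime.coprime_dvd_right (orderOf_dvd_of_pow_eq_one hk) (Nat.Coprime.pow_right k hr)
    obtain ⟨i, hi⟩ := exists_pow_eq_self_of_coprime hcop
    rw [← hi]; exact pow_mem h1 i
  -- `2`-elements of `Z(K)` lie in `O₂(G) ≤ P`, hence are centralized by `J`
  have hZJ : ∀ z ∈ K ⊓ CK, ∀ k : ℕ, z ^ 2 ^ k = 1 → ∀ j ∈ J, z * j = j * z := by
    intro z hz k hk j hj
    have hzp : zpowers z ≤ pCore 2 G := by
      apply Cfsg.Agent.Lib.Helper22_Cores.le_pCore_of_le_isSubnormal 2 hKsn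
      · exact (zpowers_le).mpr hz.1
      · intro x hx
        apply centralizer_le_normalizer
        rw [mem_centralizer_iff]
        rintro _ ⟨i, rfl⟩
        have h1 : x * z = z * x := mem_centralizer_iff.mp hz.2 x hx
        have h2 : Commute z x := h1.symm
        exact (h2.zpow_left i).eq
      · rintro ⟨w, hw⟩
        obtain ⟨i, rfl⟩ := mem_zpowers_iff.mp hw
        refine ⟨k, Subtype.ext ?_⟩
        rw [SubgroupClass.coe_pow]
        show (z ^ i) ^ 2 ^ k = 1
        rw [← zpow_natCast, ← zpow_mul, mul_comm, zpow_mul, zpow_natCast, hk, one_zpow]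
    have hzP : z ∈ P := hFP (hzp (mem_zpowers z))
    exact mem_centralizer_iff.mp (hJP hj) z hzP
  -- decomposition of `B` inside `↥C`
  have hBn : (B.subgroupOf C).Normal :=
    (Subgroup.normal_subgroupOf_iff_le_normalizer hBC).mpr (le_normalizer_commutator C J)
  obtain ⟨S⟩ : Nonempty (Sylow 2 ↥C) := inferInstance
  have hcen : ∀ z ∈ (S : Subgroup ↥C) ⊓ B.subgroupOf C, ∀ c ∈ B.subgroupOf C, z * c = c * z := by
    intro z hz c hc
    obtain ⟨k, hk⟩ := S.2 ⟨z, hz.1⟩
    have hk' : ((z : ↥C) : G) ^ 2 ^ k = 1 := by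
      have h1 := congrArg Subtype.val hk
      have h2 : ((z : ↥C) ^ 2 ^ k : ↥C) = 1 := by simpa using h1
      have h3 := congrArg Subtype.val h2
      simpa using h3
    have hzZ := h2elt (z : G) (Subgroup.mem_subgroupOf.mp hz.2) k hk'
    apply Subtype.ext
    have := mem_centralizer_iff.mp hzZ.2 (c : G) (hCK c.2)
    exact this.symm
  have hBJ : ⁅B, J⁆ ≤ O := by
    rw [Subgroup.commutator_le]
    intro b hb j hj
    have hb' : (⟨b, hBC hb⟩ : ↥C) ∈ B.subgroupOf C := Subgroup.mem_subgroupOf.mpr hb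
    obtain ⟨t, ht, z, hz, hbtz⟩ :=
      Cfsg.Agent.Lib.Helper31_AG.exists_mul_of_central_sylow S (B.subgroupOf C) hcen hb'
    have hbtz' : b = (t : G) * (z : G) := congrArg Subtype.val hbtz
    have htO : (t : G) ∈ O := ⟨t, ht, rfl⟩
    obtain ⟨k, hk⟩ := S.2 ⟨z, hz.1⟩
    have hk' : ((z : ↥C) : G) ^ 2 ^ k = 1 := by
      have h1 := congrArg Subtype.val hk
      have h2 : ((z : ↥C) ^ 2 ^ k : ↥C) = 1 := by simpa using h1
      have h3 := congrArg Subtype.val h2
      simpa using h3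
    have hzZ := h2elt (z : G) (Subgroup.mem_subgroupOf.mp hz.2) k hk'
    have hzj : (z : G) * j = j * (z : G) := hZJ (z : G) hzZ k hk' j hj
    have h1 : j * (t : G)⁻¹ * j⁻¹ ∈ O := (mem_normalizer_iff.mp (hJO hj) _).mp (O.inv_mem htO)
    have e : ⁅b, j⁆ = (t : G) * (j * (t : G)⁻¹ * j⁻¹) := by
      rw [hbtz', commutatorElement_def]
      calc (t : G) * (z : G) * j * ((t : G) * (z : G))⁻¹ * j⁻¹
          = (t : G) * ((z : G) * j) * (z : G)⁻¹ * (t : G)⁻¹ * j⁻¹ := by group
        _ = (t : G) * (j * (z : G)) * (z : G)⁻¹ * (t : G)⁻¹ * j⁻¹ := by rw [hzj]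
        _ = (t : G) * (j * (t : G)⁻¹ * j⁻¹) := by group
    rw [e]; exact O.mul_mem htO h1
  exact commutator_le_of_perfect hJ2.1 hCO hJO hBJ

end Main

end Cfsg.Agent.Lib.Helper1_LBal2_C
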