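import Mathlib
import Cfsg.Agent.Lib.Lead_LBal2Defs
import Cfsg.Agent.Lib.Helper23_PComp

/-!
# `L_{2'}`-balance: every `2`-component is perfect and generated by `2`-elements (helper1)

This is (J4) of `pending/lead/S1301_proof.md`: the subgroup generated by the `2`-elements of a
`2`-component `L` is normal of odd index in `L`, hence equal to `L`
(`Helper23_PComp.pcomp_eq_of_normal_coprime`).
-/

set_option autoImplicit false

universe u

namespace Cfsg.Agent.Lib.Helper1_LBal2_J4

open Subgroup Cfsg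
open scoped commutatorElement
open Cfsg.Agent.Lib.Lead_LBal2

/-- The subgroup generated by a conjugation-invariant set is normalized. -/
theorem mem_normalizer_closure {G : Type*} [Group G] {S : Set G} {g : G}
    (h1 : ∀ s ∈ S, g * s * g⁻¹ ∈ S) (h2 : ∀ s ∈ S, g⁻¹ * s * g ∈ S) :
    g ∈ normalizer ((closure S : Subgroup G) : Set G) := by
  have key : ∀ g : G, (∀ s ∈ S, g * s * g⁻¹ ∈ S) → ∀ h ∈ closure S, g * h * g⁻¹ ∈ closure S := by
    intro g hg h hh
    induction hh using Subgroup.closure_induction with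
    | mem x hx => exact Subgroup.subset_closure (hg x hx)
    | one => simp
    | mul x y _ _ hx hy =>
      have e : g * (x * y) * g⁻¹ = (g * x * g⁻¹) * (g * y * g⁻¹) := by group
      rw [e]; exact mul_mem hx hy
    | inv x _ hx =>
      have e : g * x⁻¹ * g⁻¹ = (g * x * g⁻¹)⁻¹ := by group
      rw [e]; exact inv_mem hx
  rw [mem_normalizer_iff]
  intro h
  constructor
  · exact key g h1 h
  · intro hh
    have h2' : ∀ s ∈ S, g⁻¹ * s * g⁻¹⁻¹ ∈ S := by
      intro s hs
      have := h2 s hs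
      simpa using this
    have := key g⁻¹ h2' _ hh
    have e : g⁻¹ * (g * h * g⁻¹) * g⁻¹⁻¹ = h := by group
    rwa [e] at this

/-- **(J4)** Every `2`-component of a finite group is perfect and generated by its elements of
`2`-power order. -/
theorem j4 {Y : Type u} [Group Y] [Finite Y] (L : Subgroup Y) (hL : IsPComponent 2 L) :
    Lead_LBal2.IsJ2 L := by
  refine ⟨Cfsg.Agent.Lib.Helper23_PComp.pcomp_perfect 2 hL, ?_⟩
  set S : Set Y := {x : Y | x ∈ L ∧ ∃ n : ℕ, x ^ (2 ^ n) = 1} with hS
  set L₀ : Subgroup Y := closure S with hL₀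
  have hle : L₀ ≤ L := (closure_le L).mpr (fun x hx => hx.1)
  have hnorm : L ≤ normalizer (L₀ : Set Y) := by
    intro g hg
    apply mem_normalizer_closure
    · rintro s ⟨hsL, n, hn⟩
      refine ⟨L.mul_mem (L.mul_mem hg hsL) (L.inv_mem hg), n, ?_⟩
      rw [conj_pow, hn]; group
    · rintro s ⟨hsL, n, hn⟩
      refine ⟨L.mul_mem (L.mul_mem (L.inv_mem hg) hsL) hg, n, ?_⟩
      have e : g⁻¹ * s * g = g⁻¹ * s * g⁻¹⁻¹ := by group
      rw [e, conj_pow, hn]; group
  have hNn : (L₀.subgroupOf L).Normal := (Subgroup.normal_subgroupOf_iff_le_normalizer hle).mpr hnorm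
  have hidx : (L₀.relIndex L).Coprime 2 := by
    obtain ⟨P⟩ : Nonempty (Sylow 2 ↥L) := inferInstance
    have hPle : (P : Subgroup ↥L) ≤ L₀.subgroupOf L := by
      intro x hx
      rw [Subgroup.mem_subgroupOf]
      apply Subgroup.subset_closure
      refine ⟨x.2, ?_⟩
      obtain ⟨n, hn⟩ := P.2 ⟨x, hx⟩
      refine ⟨n, ?_⟩
      have h1 := congrArg Subtype.val hn
      have h2 : ((x : ↥L) ^ 2 ^ n : ↥L) = 1 := by simpa using h1
      have h3 := congrArg Subtype.val h2
      simpa using h3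
    have hdvd : (L₀.subgroupOf L).index ∣ (P : Subgroup ↥L).index := Subgroup.index_dvd_of_le hPle
    have hnd : ¬ 2 ∣ (P : Subgroup ↥L).index := P.not_dvd_index
    have hnd' : ¬ 2 ∣ L₀.relIndex L := fun h => hnd (h.trans hdvd)
    exact (Nat.Prime.coprime_iff_not_dvd Nat.prime_two).mpr hnd' |>.symm
  exact Cfsg.Agent.Lib.Helper23_PComp.pcomp_eq_of_normal_coprime 2 hL hle hNn hidx

end Cfsg.Agent.Lib.Helper1_LBal2_J4
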