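import Mathlib
import Cfsg.Agent.S0653
import Cfsg.Agent.Lib.Helper11_ZJ
import Cfsg.Agent.Lib.Helper1_Cores
import Cfsg.Agent.Lib.Helper1_ZJFunctor
import Cfsg.Agent.Lib.Helper34_NPC
import Cfsg.Prelude.Def_Local

/-!
# Glauberman's ZJ-theorem in Gorenstein's setting (helper1)

If `O_{p'}(X) = 1`, `X` is `p`-constrained and `p`-stable (in the sense of `Cfsg.IsPStable`), `p` odd,
then `Z(J_A(T))` is normal in `X` for every Sylow `p`-subgroup `T`.  Also: basic API for
`Cfsg.centerThompsonAOf` as a conjugacy functor.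
-/

set_option autoImplicit false

namespace Cfsg.Agent.Lib.Helper1_LocalZJ

open Subgroup Cfsg Cfsg.Agent.Lib.Helper11_ZJ Cfsg.Agent.Lib.Helper1_ZJFunctor

universe u

section API

variable {G : Type u} [Group G] {p : ℕ} [hp : Fact p.Prime]

theorem zj_le (T : Subgroup G) : centerThompsonAOf T ≤ T := by
  rw [← inducedFunctor_WZJ]
  exact Cfsg.Agent.Lib.Helper34_NPC.inducedFunctor_le WZJ T

theorem zj_ne_bot [Finite G] {T : Subgroup G} (hT : IsPGroup p T) (h : T ≠ ⊥) :
    centerThompsonAOf T ≠ ⊥ := by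
  rw [← inducedFunctor_WZJ]
  exact Cfsg.Agent.Lib.Helper34_NPC.inducedFunctor_ne_bot (isCharPFunctor_WZJ p) hT h

theorem zj_map_subtype [Finite G] (N : Subgroup G) {T : Subgroup N} (hT : IsPGroup p T) :
    centerThompsonAOf (T.map N.subtype) = (centerThompsonAOf T).map N.subtype := by
  rw [← inducedFunctor_WZJ, ← inducedFunctor_WZJ]
  exact Cfsg.Agent.Lib.Helper34_NPC.inducedFunctor_map (isCharPFunctor_WZJ p) N.subtype T hT
    (fun x _ hx => Subtype.ext (by simpa using hx))

theorem zj_conj [Finite G] {T : Subgroup G} (hT : IsPGroup p T) (g : G) :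
    centerThompsonAOf (T.map (MulAut.conj g).toMonoidHom) =
      (centerThompsonAOf T).map (MulAut.conj g).toMonoidHom := by
  rw [← inducedFunctor_WZJ, ← inducedFunctor_WZJ]
  exact Cfsg.Agent.Lib.Helper34_NPC.inducedFunctor_conj (isCharPFunctor_WZJ p) T hT g

theorem normalizer_le_normalizer_zj [Finite G] {T : Subgroup G} (hT : IsPGroup p T) :
    normalizer (T : Set G) ≤ normalizer (centerThompsonAOf T : Set G) := by
  rw [← inducedFunctor_WZJ]
  exact Cfsg.Agent.Lib.Helper34_NPC.normalizer_le_normalizer_inducedFunctor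
    (isCharPFunctor_WZJ p) T hT

end API

section Local

variable {X : Type u} [Group X] [Finite X] {p : ℕ} [hp : Fact p.Prime]

omit [Finite X] in
/-- With `O_{p'}(X) = 1`, `O_{p',p}(X) = O_p(X)`. -/
theorem pPrimePCore_eq_pCore (h1 : pPrimeCore p X = ⊥) : pPrimePCore p X = pCore p X := by
  apply le_antisymm
  · have hn : (pPrimePCore p X).Normal :=
      Subgroup.Normal.comap (Cfsg.Agent.Lib.Helper1_Cores.pCore_normal p) _
    have hinj : Function.Injective (QuotientGroup.mk' (pPrimeCore p X)) := by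
      rw [← MonoidHom.ker_eq_bot_iff, QuotientGroup.ker_mk', h1]
    have hpg : IsPGroup p (pPrimePCore p X) :=
      (Cfsg.Agent.Lib.Helper1_Cores.pCore_isPGroup p).comap_of_injective _ hinj
    exact Cfsg.Agent.Lib.Helper1_Cores.le_pCore hn hpg
  · unfold pPrimePCore
    rw [← Subgroup.map_le_iff_le_comap]
    have hn : ((pCore p X).map (QuotientGroup.mk' (pPrimeCore p X))).Normal :=
      Subgroup.Normal.map (Cfsg.Agent.Lib.Helper1_Cores.pCore_normal p) _
        (QuotientGroup.mk'_surjective _)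
    exact Cfsg.Agent.Lib.Helper1_Cores.le_pCore hn
      ((Cfsg.Agent.Lib.Helper1_Cores.pCore_isPGroup p).map _)

/-- `p`-stability in Gorenstein's sense (`Cfsg.IsPStable`) gives `StableOn`, when
`O_{p'}(X) = 1`. -/
theorem stableOn_of_isPStable (h1 : pPrimeCore p X = ⊥) (h3 : IsPStable p X)
    (S B : Subgroup X) (hS : IsPGroup p S) [hBn : B.Normal] (hBp : IsPGroup p B) :
    StableOn p S B := by
  have hNtop : Subgroup.normalizer (B : Set X) = ⊤ := Subgroup.normalizer_eq_top B
  set N := Subgroup.normalizer (B : Set X) with hN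
  set C' := (Subgroup.centralizer (B : Set X)).subgroupOf N with hC'
  have hCN : Subgroup.centralizer (B : Set X) ≤ N := by rw [hNtop]; exact le_top
  have hC'n : C'.Normal := by
    have : (Subgroup.centralizer (B : Set X)).Normal := Subgroup.normal_centralizer
    exact Subgroup.Normal.subgroupOf this N
  have hQp : IsPGroup p (pCore p (↥N ⧸ C')) := Cfsg.Agent.Lib.Helper1_Cores.pCore_isPGroup p
  have hQn : (pCore p (↥N ⧸ C')).Normal := Cfsg.Agent.Lib.Helper1_Cores.pCore_normal p
  set L' := (pCore p (↥N ⧸ C')).comap (QuotientGroup.mk' C') with hL'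
  have hL'n : L'.Normal := Subgroup.Normal.comap hQn _
  have hC'L' : C' ≤ L' := by
    have := Subgroup.ker_le_comap (QuotientGroup.mk' C') (pCore p (↥N ⧸ C'))
    rwa [QuotientGroup.ker_mk'] at this
  have hmapC : C'.map N.subtype = Subgroup.centralizer (B : Set X) :=
    Subgroup.map_subgroupOf_eq_of_le hCN
  refine ⟨L'.map N.subtype, ?_, ?_, ?_, ?_⟩
  · apply normal_of_conj_mem
    rintro g _ ⟨x, hx, rfl⟩
    have hg : g ∈ N := by rw [hNtop]; exact Subgroup.mem_top g
    exact ⟨⟨g, hg⟩ * x * ⟨g, hg⟩⁻¹, hL'n.conj_mem x hx ⟨g, hg⟩, rfl⟩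
  · rw [← hmapC]
    exact Subgroup.map_mono hC'L'
  · obtain ⟨k, hk⟩ := IsPGroup.iff_card.mp hQp
    refine ⟨k, ?_⟩
    have h1' := Subgroup.relIndex_comap (⊥ : Subgroup (↥N ⧸ C')) (QuotientGroup.mk' C') L'
    have h2 : (⊥ : Subgroup (↥N ⧸ C')).comap (QuotientGroup.mk' C') = C' := by
      rw [MonoidHom.comap_bot, QuotientGroup.ker_mk']
    rw [h2, Subgroup.relIndex_bot_left, hL', Subgroup.map_comap_eq_self_of_surjective
      (QuotientGroup.mk'_surjective _), hk] at h1'
    rw [← hmapC, ← h1']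
    exact Subgroup.relIndex_map_map_of_injective _ _ N.subtype_injective
  · intro a haS ha
    have ha' : a ∈ N := by rw [hNtop]; exact Subgroup.mem_top a
    have hAp : IsPGroup p (zpowers a) := hS.to_le ((zpowers_le).mpr haS)
    have hBle : B ≤ pPrimePCore p X := by
      rw [pPrimePCore_eq_pCore h1]
      exact Cfsg.Agent.Lib.Helper1_Cores.le_pCore hBn hBp
    have hsupn : (pPrimeCore p X ⊔ B).Normal := by
      rw [h1, bot_sup_eq]; exact hBn
    have hmain := h3.2.2 (zpowers a) B hAp hBp (fun x _ y hy => hBn.conj_mem y hy x) hBle hsupn ha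
    refine ⟨⟨a, ha'⟩, ?_, rfl⟩
    show (⟨a, ha'⟩ : N) ∈ L'
    rw [hL', Subgroup.mem_comap]
    apply hmain
    exact ⟨⟨a, ha'⟩, Subgroup.mem_subgroupOf.mpr (mem_zpowers a), rfl⟩

/-- **Glauberman's ZJ-theorem** in Gorenstein's setting. -/
theorem zj_normal (hp2 : p ≠ 2) (h1 : pPrimeCore p X = ⊥) (h2 : IsPConstrained p X)
    (h3 : IsPStable p X) (T : Sylow p X) : (centerThompsonAOf (T : Subgroup X)).Normal := by
  have hPP := pPrimePCore_eq_pCore (p := p) h1
  have hc : centralizer (pCore p X : Set X) ≤ pCore p X := by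
    obtain ⟨P₀⟩ : Nonempty (Sylow p ↥(pPrimePCore p X)) := inferInstance
    have h := h2 P₀
    rw [← hPP]
    refine le_trans (centralizer_le ?_) h
    exact SetLike.coe_subset_coe.mpr (map_subtype_le _)
  rw [Cfsg.Agent.S0653.centerThompsonAOf_eq]
  apply W_normal (Cfsg.Agent.S0653.admissible hp2) T hc
  intro B hBn hBp
  exact stableOn_of_isPStable h1 h3 _ B T.isPGroup' hBp

end Local

end Cfsg.Agent.Lib.Helper1_LocalZJ
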