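import Mathlib
import Cfsg.Agent.Lib.Helper38_MIODefs
import Cfsg.Agent.Lib.Helper10_MIO_CNTD

set_option autoImplicit false
set_option linter.unusedVariables false
set_option linter.unusedSectionVars false

/-!
MIO-ANISO6M (helper38's market): a 6-dimensional space of minus type (recognised by its number of singular
vectors) has an anisotropic plane orthogonal to any two orthogonal hyperbolic pairs.
-/

namespace Cfsg.Agent.Lib.Helper1_MIO_ANISO6M

open Module Cfsg.Agent.Lib.Helper94_OrthSmall Cfsg.Agent.Lib.Helper44_QuadClass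
  Cfsg.Agent.Lib.Helper14_OmegaSimple Cfsg.Agent.Lib.Helper38_MIODefs
  Cfsg.Agent.Lib.Helper10_MIO_CNTD

variable {F W : Type*} [Field F] [Fintype F] [AddCommGroup W] [Module F W] [FiniteDimensional F W]

theorem aniso_minus6 (Q : QuadraticForm F W) (hQ : (QuadraticMap.polarBilin Q).Nondegenerate)
    (hdim : finrank F W = 6)
    (hZ : Nat.card {x : W // Q x = 0} =
      Fintype.card F ^ 5 - Fintype.card F ^ 3 + Fintype.card F ^ 2) : HasAniso Q := by
  intro a b c e ha hb hab hc he hce hac hae hbc hbe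
  classical
  have hq1 : 1 < Fintype.card F := Fintype.one_lt_card
  have hcW : c ∈ perp Q a b := (mem_perp Q a b).2 ⟨hac, hbc⟩
  have heW : e ∈ perp Q a b := (mem_perp Q a b).2 ⟨hae, hbe⟩
  have hpol : ∀ x y : ↥(perp Q a b),
      QuadraticMap.polar (⇑(Qp Q a b)) x y = QuadraticMap.polar (⇑Q) (x : W) (y : W) := by
    intro x y
    rfl
  have hc1 : Qp Q a b ⟨c, hcW⟩ = 0 := hc
  have he1 : Qp Q a b ⟨e, heW⟩ = 0 := he
  have hce1 : QuadraticMap.polar (⇑(Qp Q a b)) ⟨c, hcW⟩ ⟨e, heW⟩ = 1 := by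
    rw [hpol]; exact hce
  have hd1 : finrank F ↥(perp Q a b) = 4 := by
    have := finrank_perp (Q := Q) ha hb hab
    omega
  have hd2 : finrank F ↥(perp (Qp Q a b) ⟨c, hcW⟩ ⟨e, heW⟩) = 2 := by
    have := finrank_perp (Q := Qp Q a b) hc1 he1 hce1
    omega
  have hcnt1 := card_level_perp Q ha hb hab 0
  have hcnt2 := card_level_perp (Qp Q a b) hc1 he1 hce1 0
  rw [hd1] at hcnt1
  rw [hd2] at hcnt2
  -- the number of singular vectors of `U` is one
  have hN2 : Nat.card {w : ↥(perp (Qp Q a b) ⟨c, hcW⟩ ⟨e, heW⟩) //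
      Qp Q a b (w : ↥(perp Q a b)) = 0} = 1 := by
    set N0 := Nat.card {x : W // Q x = 0} with hN0
    set N1 := Nat.card {w : ↥(perp Q a b) // Q (w : W) = 0} with hN1
    set N2 := Nat.card {w : ↥(perp (Qp Q a b) ⟨c, hcW⟩ ⟨e, heW⟩) //
      Qp Q a b (w : ↥(perp Q a b)) = 0} with hN2
    have hcnt2' : N1 = Fintype.card F * N2 + (Fintype.card F - 1) * Fintype.card F ^ 2 := hcnt2
    set q := Fintype.card F with hq
    have h35 : q ^ 3 ≤ q ^ 5 := Nat.pow_le_pow_right (by omega) (by norm_num)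
    have h0 : N0 + q ^ 3 = q ^ 5 + q ^ 2 := by omega
    have h0' : (N0 : ℤ) + (q : ℤ) ^ 3 = (q : ℤ) ^ 5 + (q : ℤ) ^ 2 := by exact_mod_cast h0
    have h1' : (N0 : ℤ) = (q : ℤ) * N1 + ((q : ℤ) - 1) * (q : ℤ) ^ 4 := by
      have := hcnt1
      zify [hq1.le] at this
      exact this
    have h2' : (N1 : ℤ) = (q : ℤ) * N2 + ((q : ℤ) - 1) * (q : ℤ) ^ 2 := by
      have := hcnt2'
      zify [hq1.le] at this
      exact this
    have h3 : (q : ℤ) ^ 2 * N2 = (q : ℤ) ^ 2 := by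
      linear_combination h0' - h1' - (q : ℤ) * h2'
    have hq0 : (q : ℤ) ^ 2 ≠ 0 := by
      apply pow_ne_zero
      have : (0 : ℤ) < q := by exact_mod_cast (by omega : 0 < q)
      exact this.ne'
    have h4 : (N2 : ℤ) = 1 := by
      have := mul_left_cancel₀ hq0 (h3.trans (mul_one _).symm)
      exact this
    exact_mod_cast h4
  obtain ⟨hsub, _⟩ := Nat.card_eq_one_iff_unique.mp hN2
  have hzero : ∀ w : ↥(perp (Qp Q a b) ⟨c, hcW⟩ ⟨e, heW⟩),
      Qp Q a b (w : ↥(perp Q a b)) = 0 → w = 0 := by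
    intro w hw
    have := hsub.elim ⟨w, hw⟩ ⟨0, by simp⟩
    exact congrArg Subtype.val this
  -- a basis of `U`
  let bs := Module.finBasisOfFinrankEq F ↥(perp (Qp Q a b) ⟨c, hcW⟩ ⟨e, heW⟩) hd2
  have hli : LinearIndependent F ![bs 0, bs 1] := by
    have h := bs.linearIndependent
    have : (⇑bs : Fin 2 → _) = ![bs 0, bs 1] := by
      funext i
      fin_cases i <;> rfl
    rw [this] at h
    exact h
  have hpair := LinearIndependent.pair_iff.mp hli
  have hmem : ∀ w : ↥(perp (Qp Q a b) ⟨c, hcW⟩ ⟨e, heW⟩),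
      QuadraticMap.polar (⇑Q) a ((w : ↥(perp Q a b)) : W) = 0 ∧
      QuadraticMap.polar (⇑Q) b ((w : ↥(perp Q a b)) : W) = 0 ∧
      QuadraticMap.polar (⇑Q) c ((w : ↥(perp Q a b)) : W) = 0 ∧
      QuadraticMap.polar (⇑Q) e ((w : ↥(perp Q a b)) : W) = 0 := by
    intro w
    obtain ⟨h1, h2⟩ := (mem_perp Q a b).1 (w : ↥(perp Q a b)).2
    obtain ⟨h3, h4⟩ := (mem_perp (Qp Q a b) ⟨c, hcW⟩ ⟨e, heW⟩).1 w.2
    rw [hpol] at h3 h4
    exact ⟨h1, h2, h3, h4⟩
  refine ⟨(((bs 0 : ↥(perp (Qp Q a b) ⟨c, hcW⟩ ⟨e, heW⟩)) : ↥(perp Q a b)) : W),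
    (((bs 1 : ↥(perp (Qp Q a b) ⟨c, hcW⟩ ⟨e, heW⟩)) : ↥(perp Q a b)) : W), hmem _, hmem _, ?_⟩
  intro s t hst
  apply hpair s t
  apply hzero
  show Q ((((s • bs 0 + t • bs 1 : ↥(perp (Qp Q a b) ⟨c, hcW⟩ ⟨e, heW⟩)) : ↥(perp Q a b)) : W)) = 0
  simpa using hst

end Cfsg.Agent.Lib.Helper1_MIO_ANISO6M
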