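import Mathlib
import Cfsg.Agent.Lib.Helper38_MIODefs

set_option autoImplicit false
set_option linter.unusedVariables false
set_option linter.unusedSectionVars false

/-!
MIO-INVNS2 (helper38's S2143/S2145/S2147 market): characteristic 2, `l` non-singular; an additive subgroup
`S ∋ l` invariant under the Siegel elements fixing `l` lies in `F l` or contains `l^⊥`.
-/

namespace Cfsg.Agent.Lib.Helper1_MIO_INVNS2

open Module Cfsg.Agent.Lib.Helper94_OrthSmall Cfsg.Agent.Lib.Helper44_QuadClass
  Cfsg.Agent.Lib.Helper14_OmegaSimple Cfsg.Agent.Lib.Helper38_MIODefs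

variable {F W : Type*} [Field F] [Fintype F] [AddCommGroup W] [Module F W] [FiniteDimensional F W]

theorem invns2 (Q : QuadraticForm F W) (hQ : (QuadraticMap.polarBilin Q).Nondegenerate)
    (h2 : (2 : F) = 0) (hdim : 5 ≤ finrank F W) (S : AddSubgroup W) {l : W} (hl : l ∈ S)
    (hQl : Q l ≠ 0)
    (hinv : ∀ u z : W, Q u = 0 → QuadraticMap.polar (⇑Q) u z = 0 → E Q u z l = l →
      ∀ x ∈ S, E Q u z x ∈ S) :
    (∀ x ∈ S, ∃ a : F, x = a • l) ∨ (∀ x : W, QuadraticMap.polar (⇑Q) l x = 0 → x ∈ S) := by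
  classical
  by_cases hline : ∀ x ∈ S, ∃ a : F, x = a • l
  · exact Or.inl hline
  right
  push Not at hline
  obtain ⟨x, hxS, hxl⟩ := hline
  have P : ∀ a b : W, QuadraticMap.polar (⇑Q) a b = QuadraticMap.polar (⇑Q) b a :=
    fun a b => QuadraticMap.polar_comm _ a b
  have hll : QuadraticMap.polar (⇑Q) l l = 0 := by
    rw [polar_self', h2, zero_mul]
  -- Step A: a singular `u ⟂ l` with `B(u,x) = 1`
  have hxspan : x ∉ Submodule.span F {l} := by
    intro h
    obtain ⟨a, ha⟩ := Submodule.mem_span_singleton.mp h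
    exact hxl a ha.symm
  obtain ⟨u, hQu, hul, hux⟩ := exists_singular_orth_polar_ns Q hQ hdim hQl hxspan 1
  have hlu : QuadraticMap.polar (⇑Q) l u = 0 := by rw [P]; exact hul
  have hxu : QuadraticMap.polar (⇑Q) x u = 1 := by rw [P]; exact hux
  have huu : QuadraticMap.polar (⇑Q) u u = 0 := by rw [polar_self', hQu, mul_zero]
  have hu0 : u ≠ 0 := by
    intro h
    rw [h] at hux
    simp [QuadraticMap.polar] at hux
  have huspan : u ∉ Submodule.span F {l} := by
    intro h
    obtain ⟨a, ha⟩ := Submodule.mem_span_singleton.mp h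
    have h1 : Q u = a * a * Q l := by rw [← ha, QuadraticMap.map_smul, smul_eq_mul]
    rw [hQu] at h1
    have ha0 : a = 0 := by
      rcases mul_eq_zero.mp h1.symm with h3 | h3
      · exact mul_self_eq_zero.mp h3
      · exact absurd h3 hQl
    rw [ha0, zero_smul] at ha
    exact hu0 ha.symm
  -- a singular `u' ⟂ l` with `B(u',u) = 1`
  obtain ⟨u', hQu', hu'l, hu'u⟩ := exists_singular_orth_polar_ns Q hQ hdim hQl huspan 1
  have hlu' : QuadraticMap.polar (⇑Q) l u' = 0 := by rw [P]; exact hu'l
  have huu' : QuadraticMap.polar (⇑Q) u u' = 1 := by rw [P]; exact hu'u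
  have hu'u' : QuadraticMap.polar (⇑Q) u' u' = 0 := by rw [polar_self', hQu', mul_zero]
  -- Step B
  have hφ : ∀ z : W, QuadraticMap.polar (⇑Q) l z = 0 → QuadraticMap.polar (⇑Q) u z = 0 →
      z - (QuadraticMap.polar (⇑Q) x z + Q z) • u ∈ S := by
    intro z hlz huz
    have hfix : E Q u z l = l := by
      rw [E_apply Q hQu huz, hlu, hlz]
      simp
    have h1 := hinv u z hQu huz hfix x hxS
    rw [E_apply Q hQu huz, hxu] at h1
    have h3 := S.sub_mem h1 hxS
    have : z - (QuadraticMap.polar (⇑Q) x z + Q z) • u =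
        x + (1 : F) • z - QuadraticMap.polar (⇑Q) x z • u - (Q z * 1) • u - x := by
      module
    rw [this]
    exact h3
  -- Step C: `F u ⊆ S`
  have hkey : ∀ z z' : W, QuadraticMap.polar (⇑Q) l z = 0 → QuadraticMap.polar (⇑Q) u z = 0 →
      QuadraticMap.polar (⇑Q) l z' = 0 → QuadraticMap.polar (⇑Q) u z' = 0 →
      QuadraticMap.polar (⇑Q) z z' • u ∈ S := by
    intro z z' hlz huz hlz' huz'
    have h1 := hφ (z + z') (by rw [QuadraticMap.polar_add_right, hlz, hlz', add_zero])
      (by rw [QuadraticMap.polar_add_right, huz, huz', add_zero])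
    have h3 := hφ z hlz huz
    have h4 := hφ z' hlz' huz'
    have h5 := S.neg_mem (S.sub_mem (S.sub_mem h1 h3) h4)
    have h6 : Q (z + z') = Q z + Q z' + QuadraticMap.polar (⇑Q) z z' := by
      rw [QuadraticMap.polar]; ring
    have : QuadraticMap.polar (⇑Q) z z' • u =
        -(z + z' - (QuadraticMap.polar (⇑Q) x (z + z') + Q (z + z')) • u -
          (z - (QuadraticMap.polar (⇑Q) x z + Q z) • u) -
          (z' - (QuadraticMap.polar (⇑Q) x z' + Q z') • u)) := by
      rw [h6, QuadraticMap.polar_add_right]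
      module
    rw [this]
    exact h5
  obtain ⟨p, q, hlp, hup, hlq, huq, hqp⟩ := exists_pair_orth Q hQ hdim l u
  have hFu : ∀ c : F, c • u ∈ S := by
    intro c
    have h1 := hkey q ((-c) • p) hlq huq
      (by rw [QuadraticMap.polar_smul_right, hlp, smul_zero])
      (by rw [QuadraticMap.polar_smul_right, hup, smul_zero])
    rw [QuadraticMap.polar_smul_right, hqp, smul_eq_mul] at h1
    have : -c * -1 = c := by ring
    rw [this] at h1
    exact h1
  -- Step D: `{l,u}^⊥ ⊆ S`
  have hZ : ∀ z : W, QuadraticMap.polar (⇑Q) l z = 0 → QuadraticMap.polar (⇑Q) u z = 0 → z ∈ S := by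
    intro z hlz huz
    have h1 := S.add_mem (hφ z hlz huz) (hFu (QuadraticMap.polar (⇑Q) x z + Q z))
    rwa [sub_add_cancel] at h1
  -- Step E: `F u' ⊆ S`, using `z₁ = l`
  have hFu' : ∀ c : F, c • u' ∈ S := by
    intro c
    set a : F := c / Q l with ha
    have hu'z₁ : QuadraticMap.polar (⇑Q) u' l = 0 := hu'l
    have hfix : E Q u' l l = l := by
      rw [E_apply Q hQu' hu'z₁, hlu', hll]
      simp
    have h1 := hinv u' l hQu' hu'z₁ hfix (a • u) (hFu a)
    rw [E_apply Q hQu' hu'z₁, QuadraticMap.polar_smul_left, QuadraticMap.polar_smul_left, huu',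
      hul] at h1
    have h3 : a • l ∈ S := hZ _ (by rw [QuadraticMap.polar_smul_right, hll, smul_zero])
      (by rw [QuadraticMap.polar_smul_right, hul, smul_zero])
    have h4 := S.neg_mem (S.sub_mem (S.sub_mem h1 (hFu a)) h3)
    have : c • u' = -(a • u + (a • (1 : F)) • l - (a • (0 : F)) • u' - (Q l * a • (1 : F)) • u' -
        a • u - a • l) := by
      have hc : c = Q l * a := by
        rw [ha]; field_simp
      rw [hc]
      simp only [smul_eq_mul, mul_one, mul_zero, zero_smul, sub_zero]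
      module
    rw [this]
    exact h4
  -- Step F
  intro y hly
  set r : W := y - QuadraticMap.polar (⇑Q) y u' • u - QuadraticMap.polar (⇑Q) y u • u' with hr
  have hrl : QuadraticMap.polar (⇑Q) l r = 0 := by
    rw [hr]
    simp only [QuadraticMap.polar_sub_right, QuadraticMap.polar_smul_right, hly, hlu, hlu',
      smul_eq_mul, mul_zero, sub_zero]
  have hru : QuadraticMap.polar (⇑Q) u r = 0 := by
    rw [hr]
    simp only [QuadraticMap.polar_sub_right, QuadraticMap.polar_smul_right, huu, huu',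
      smul_eq_mul, mul_zero, sub_zero, mul_one]
    rw [P u y, sub_self]
  have hrS := hZ r hrl hru
  have : y = r + QuadraticMap.polar (⇑Q) y u' • u + QuadraticMap.polar (⇑Q) y u • u' := by
    rw [hr]; abel
  rw [this]
  exact S.add_mem (S.add_mem hrS (hFu _)) (hFu' _)

end Cfsg.Agent.Lib.Helper1_MIO_INVNS2
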