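import Mathlib
import Cfsg.Agent.Lib.Helper22_Coprime

/-! T2 of helper71's S4305 plan: three conjugate kernels with trivial triple intersection. -/

namespace Cfsg.Agent.Lib.Helper1_S3T2

open scoped Pointwise

section
variable {𝒢 : Type*} [Group 𝒢]

theorem comm_closure (S : Set 𝒢) (hS : ∀ x ∈ S, ∀ y ∈ S, x * y = y * x) :
    ∀ x ∈ Subgroup.closure S, ∀ y ∈ Subgroup.closure S, x * y = y * x := by
  have h1 : Subgroup.closure S ≤ Subgroup.centralizer S := by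
    rw [Subgroup.closure_le]
    intro x hx
    rw [SetLike.mem_coe, Subgroup.mem_centralizer_iff]
    intro y hy
    exact hS y hy x hx
  have h2 : Subgroup.closure S ≤ Subgroup.centralizer (Subgroup.closure S : Set 𝒢) := by
    rw [Subgroup.closure_le]
    intro x hx
    rw [SetLike.mem_coe, Subgroup.mem_centralizer_iff]
    intro y hy
    exact (Subgroup.mem_centralizer_iff.mp (h1 hy) x hx).symm
  intro x hx y hy
  exact (Subgroup.mem_centralizer_iff.mp (h2 hx) y hy).symm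

theorem comm_of_normal_inf (K A B : Subgroup 𝒢) (hA : A ≤ K) (hB : B ≤ K)
    (hAn : ∀ k ∈ K, ∀ x ∈ A, k * x * k⁻¹ ∈ A) (hBn : ∀ k ∈ K, ∀ x ∈ B, k * x * k⁻¹ ∈ B)
    (hAB : ∀ x, x ∈ A → x ∈ B → x = 1) : ∀ a ∈ A, ∀ b ∈ B, a * b = b * a := by
  intro a ha b hb
  have h1 : a * b * a⁻¹ * b⁻¹ ∈ A := by
    have := A.mul_mem ha (hAn b (hB hb) a⁻¹ (A.inv_mem ha))
    convert this using 1; group
  have h2 : a * b * a⁻¹ * b⁻¹ ∈ B := B.mul_mem (hBn a (hA ha) b hb) (B.inv_mem hb)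
  have h3 := hAB _ h1 h2
  calc a * b = (a * b * a⁻¹ * b⁻¹) * (b * a) := by group
    _ = b * a := by rw [h3, one_mul]

theorem comm_of_three (K A B C : Subgroup 𝒢)
    (hAn : ∀ k ∈ K, ∀ x ∈ A, k * x * k⁻¹ ∈ A) (hCn : ∀ k ∈ K, ∀ x ∈ C, k * x * k⁻¹ ∈ C)
    (h3 : ∀ c, c ∈ A → c ∈ B → c ∈ C → c = 1)
    (a b : 𝒢) (haK : a ∈ K) (hbK : b ∈ K) (haA : a ∈ A) (haB : a ∈ B) (hbB : b ∈ B)
    (hbC : b ∈ C) : a * b = b * a := by
  have h1 : a * b * a⁻¹ * b⁻¹ ∈ A := by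
    have := A.mul_mem haA (hAn b hbK a⁻¹ (A.inv_mem haA))
    convert this using 1; group
  have h2 : a * b * a⁻¹ * b⁻¹ ∈ B :=
    B.mul_mem (B.mul_mem (B.mul_mem haB hbB) (B.inv_mem haB)) (B.inv_mem hbB)
  have h4 : a * b * a⁻¹ * b⁻¹ ∈ C := C.mul_mem (hCn a haK b hbC) (C.inv_mem hbC)
  have h5 := h3 _ h1 h2 h4
  calc a * b = (a * b * a⁻¹ * b⁻¹) * (b * a) := by group
    _ = b * a := by rw [h5, one_mul]

/-- the abstract (automorphism) form of steps (a)-(f) and the first half of (g). -/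
theorem exists_abelian_normal (K : Subgroup 𝒢) (F H : MulAut 𝒢) (hF3 : F ^ 3 = 1)
    (hH2 : H ^ 2 = 1) (hHF : H * F = F⁻¹ * H)
    (hFK : ∀ k ∈ K, F k ∈ K) (hHK : ∀ k ∈ K, H k ∈ K)
    (hfix : ∀ k ∈ K, F k = k → H k = k → k = 1)
    (K₀ : Subgroup 𝒢) (hK₀K : K₀ ≤ K) (hK₀n : ∀ k ∈ K, ∀ x ∈ K₀, k * x * k⁻¹ ∈ K₀)
    (hK₀H : ∀ x ∈ K₀, H x ∈ K₀) (hcomm : ∀ k ∈ K, H k * k⁻¹ ∈ K₀)
    (htriv : ∀ x ∈ K₀, F (F x) ∈ K₀ → F x ∈ K₀ → x = 1) :
    ∃ P : Subgroup 𝒢, P ≤ K ∧ (∀ x ∈ P, ∀ y ∈ P, x * y = y * x) ∧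
      (∀ k ∈ K, ∀ x ∈ P, k * x * k⁻¹ ∈ P) ∧ (∀ x ∈ P, F x ∈ P) ∧ (∀ x ∈ P, H x ∈ P) ∧
      (∀ k ∈ K, F k * k⁻¹ ∈ P) ∧ (∀ k ∈ K, H k * k⁻¹ ∈ P) := by
  -- basic identities
  have hFFF : ∀ y, F (F (F y)) = y := by
    intro y
    have := congrArg (fun φ : MulAut 𝒢 => φ y) hF3
    simpa [pow_succ, MulAut.mul_apply] using this
  have hHH : ∀ y, H (H y) = y := by
    intro y
    have := congrArg (fun φ : MulAut 𝒢 => φ y) hH2
    simpa [pow_succ, MulAut.mul_apply] using this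
  have hFinv : F⁻¹ = F * F := by
    apply inv_eq_of_mul_eq_one_right
    rw [← hF3]; simp [pow_succ, mul_assoc]
  have hHFx : ∀ y, H (F y) = F (F (H y)) := by
    intro y
    have := congrArg (fun φ : MulAut 𝒢 => φ y) hHF
    simpa [hFinv, MulAut.mul_apply] using this
  have hHFFx : ∀ y, H (F (F y)) = F (H y) := by
    intro y
    rw [hHFx, hHFx, hFFF]
  -- the three subgroups
  obtain ⟨K1, hK1⟩ : ∃ K1 : Subgroup 𝒢, K1 = F • K₀ := ⟨_, rfl⟩
  obtain ⟨K2, hK2⟩ : ∃ K2 : Subgroup 𝒢, K2 = F • K1 := ⟨_, rfl⟩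
  have m01 : ∀ x, x ∈ K₀ ↔ F x ∈ K1 := by
    intro x
    rw [hK1, ← MulAut.smul_def, Subgroup.smul_mem_pointwise_smul_iff]
  have m12 : ∀ x, x ∈ K1 ↔ F x ∈ K2 := by
    intro x
    rw [hK2, ← MulAut.smul_def, Subgroup.smul_mem_pointwise_smul_iff]
  have m20 : ∀ x, x ∈ K2 ↔ F x ∈ K₀ := by
    intro x
    constructor
    · intro hx
      rw [m01, m12, hFFF]; exact hx
    · intro hx
      rw [m01, m12, hFFF] at hx; exact hx
  -- H permutes them
  have hH12 : ∀ x ∈ K1, H x ∈ K2 := by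
    intro x hx
    have hy : F (F x) ∈ K₀ := (m20 _).mp ((m12 _).mp hx)
    have hx' : x = F (F (F x)) := (hFFF x).symm
    rw [hx', hHFx]
    exact (m12 _).mp ((m01 _).mp (hK₀H _ hy))
  have hH21 : ∀ x ∈ K2, H x ∈ K1 := by
    intro x hx
    have hy : F x ∈ K₀ := (m20 _).mp hx
    have hx' : x = F (F (F x)) := (hFFF x).symm
    rw [hx', hHFFx]
    exact (m01 _).mp (hK₀H _ hy)
  -- inside K
  have hK1K : K1 ≤ K := by
    intro x hx
    have hy : F (F x) ∈ K₀ := (m20 _).mp ((m12 _).mp hx)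
    have := hFK _ (hK₀K hy)
    rwa [hFFF] at this
  have hK2K : K2 ≤ K := by
    intro x hx
    have hy : F x ∈ K₀ := (m20 _).mp hx
    have := hFK _ (hFK _ (hK₀K hy))
    rwa [hFFF] at this
  -- normal in K
  have hK1n : ∀ k ∈ K, ∀ x ∈ K1, k * x * k⁻¹ ∈ K1 := by
    intro k hk x hx
    rw [m12, m20]
    have hy : F (F x) ∈ K₀ := (m20 _).mp ((m12 _).mp hx)
    have := hK₀n _ (hFK _ (hFK _ hk)) _ hy
    simpa using this
  have hK2n : ∀ k ∈ K, ∀ x ∈ K2, k * x * k⁻¹ ∈ K2 := by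
    intro k hk x hx
    rw [m20]
    have hy : F x ∈ K₀ := (m20 _).mp hx
    have := hK₀n _ (hFK _ hk) _ hy
    simpa using this
  -- triple intersection
  have h012 : ∀ x, x ∈ K₀ → x ∈ K1 → x ∈ K2 → x = 1 := by
    intro x h0 h1 h2
    exact htriv x h0 ((m20 _).mp ((m12 _).mp h1)) ((m20 _).mp h2)
  -- (d)
  have hd12 : ∀ x, x ∈ K1 → x ∈ K2 → x = 1 := by
    intro x h1 h2
    have hxK : x ∈ K := hK1K h1
    have hHx : H x = x := by
      have hc0 : H x * x⁻¹ ∈ K₀ := hcomm x hxK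
      have hc1 : H x * x⁻¹ ∈ K1 := K1.mul_mem (hH21 x h2) (K1.inv_mem h1)
      have hc2 : H x * x⁻¹ ∈ K2 := K2.mul_mem (hH12 x h1) (K2.inv_mem h2)
      exact mul_inv_eq_one.mp (h012 _ hc0 hc1 hc2)
    have hy2 : F x ∈ K2 := (m12 x).mp h1
    have hy0 : F x ∈ K₀ := (m20 x).mp h2
    have hz0 : F (F x) ∈ K₀ := (m20 _).mp hy2
    have hz1 : F (F x) ∈ K1 := (m01 _).mp hy0
    have hyK : F x ∈ K := hFK _ hxK
    have hzK : F (F x) ∈ K := hFK _ hyK
    have cxy : x * F x = F x * x :=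
      comm_of_three K K1 K2 K₀ hK1n hK₀n (fun c c1 c2 c0 => h012 c c0 c1 c2) x (F x) hxK hyK
        h1 h2 hy2 hy0
    have cxz : x * F (F x) = F (F x) * x :=
      comm_of_three K K2 K1 K₀ hK2n hK₀n (fun c c2 c1 c0 => h012 c c0 c1 c2) x (F (F x)) hxK hzK
        h2 h1 hz1 hz0
    have cyz : F x * F (F x) = F (F x) * F x :=
      comm_of_three K K2 K₀ K1 hK2n hK1n (fun c c2 c0 c1 => h012 c c0 c1 c2) (F x) (F (F x))
        hyK hzK hy2 hy0 hz0 hz1
    have hwK : x * F x * F (F x) ∈ K := K.mul_mem (K.mul_mem hxK hyK) hzK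
    have hFw : F (x * F x * F (F x)) = x * F x * F (F x) := by
      rw [map_mul, map_mul, hFFF]
      calc F x * F (F x) * x = F x * (F (F x) * x) := by rw [mul_assoc]
        _ = F x * (x * F (F x)) := by rw [cxz]
        _ = (F x * x) * F (F x) := by rw [mul_assoc]
        _ = x * F x * F (F x) := by rw [cxy]
    have hHw : H (x * F x * F (F x)) = x * F x * F (F x) := by
      rw [map_mul, map_mul, hHFFx, hHFx, hHx]
      calc x * F (F x) * F x = x * (F (F x) * F x) := by rw [mul_assoc]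
        _ = x * (F x * F (F x)) := by rw [cyz]
        _ = x * F x * F (F x) := by rw [mul_assoc]
    have hw1 := hfix _ hwK hFw hHw
    have hx0 : x ∈ K₀ := by
      have : x = (F x * F (F x))⁻¹ := by
        apply eq_inv_of_mul_eq_one_left
        rw [← mul_assoc]; exact hw1
      rw [this]
      exact K₀.inv_mem (K₀.mul_mem hy0 hz0)
    exact h012 x hx0 h1 h2
  have hd20 : ∀ x, x ∈ K2 → x ∈ K₀ → x = 1 := by
    intro x h2 h0
    have hu1 : F (F x) ∈ K1 := (m01 _).mp ((m20 _).mp h2)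
    have hu2 : F (F x) ∈ K2 := (m12 _).mp ((m01 _).mp h0)
    have hu := hd12 _ hu1 hu2
    have : F (F (F x)) = 1 := by rw [hu, map_one]
    rwa [hFFF] at this
  have hd01 : ∀ x, x ∈ K₀ → x ∈ K1 → x = 1 := by
    intro x h0 h1
    have hu := hd12 _ ((m01 _).mp h0) ((m12 _).mp h1)
    exact (MulEquiv.map_eq_one_iff F).mp hu
  -- (e)
  have c01 := comm_of_normal_inf K K₀ K1 hK₀K hK1K hK₀n hK1n hd01
  have c12 := comm_of_normal_inf K K1 K2 hK1K hK2K hK1n hK2n hd12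
  have c20 := comm_of_normal_inf K K2 K₀ hK2K hK₀K hK2n hK₀n hd20
  -- (f)
  have c11 : ∀ x ∈ K1, ∀ y ∈ K1, x * y = y * x := by
    intro x hx y hy
    have hy' : y = (H y * y⁻¹)⁻¹ * H y := by group
    have hc : H y * y⁻¹ ∈ K₀ := hcomm y (hK1K hy)
    have h1 : Commute x (H y * y⁻¹)⁻¹ := (Commute.inv_right (c01 _ hc x hx).symm)
    have h2 : Commute x (H y) := c12 x hx _ (hH12 y hy)
    have h3 : Commute x ((H y * y⁻¹)⁻¹ * H y) := h1.mul_right h2
    rw [← hy'] at h3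
    exact h3
  have c00 : ∀ x ∈ K₀, ∀ y ∈ K₀, x * y = y * x := by
    intro x hx y hy
    have := c11 _ ((m01 _).mp hx) _ ((m01 _).mp hy)
    rw [← map_mul, ← map_mul] at this
    exact F.injective this
  have c22 : ∀ x ∈ K2, ∀ y ∈ K2, x * y = y * x := by
    intro x hx y hy
    have := c00 _ ((m20 _).mp hx) _ ((m20 _).mp hy)
    rw [← map_mul, ← map_mul] at this
    exact F.injective this
  -- P
  refine ⟨K₀ ⊔ K1 ⊔ K2, sup_le (sup_le hK₀K hK1K) hK2K, ?_, ?_, ?_, ?_, ?_, ?_⟩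
  · have hP : K₀ ⊔ K1 ⊔ K2 = Subgroup.closure ((K₀ : Set 𝒢) ∪ K1 ∪ K2) := by
      simp [Subgroup.closure_union]
    rw [hP]
    apply comm_closure
    rintro x ((hx | hx) | hx) y ((hy | hy) | hy)
    · exact c00 x hx y hy
    · exact c01 x hx y hy
    · exact (c20 y hy x hx).symm
    · exact (c01 y hy x hx).symm
    · exact c11 x hx y hy
    · exact c12 x hx y hy
    · exact c20 x hx y hy
    · exact (c12 y hy x hx).symm
    · exact c22 x hx y hy
  · intro k hk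
    have : K₀ ⊔ K1 ⊔ K2 ≤ (K₀ ⊔ K1 ⊔ K2).comap (MulAut.conj k).toMonoidHom := by
      refine sup_le (sup_le ?_ ?_) ?_
      · intro x hx
        rw [Subgroup.mem_comap]
        have : k * x * k⁻¹ ∈ K₀ ⊔ K1 ⊔ K2 :=
          (le_sup_left.trans le_sup_left : K₀ ≤ K₀ ⊔ K1 ⊔ K2) (hK₀n k hk x hx)
        simpa using this
      · intro x hx
        rw [Subgroup.mem_comap]
        have : k * x * k⁻¹ ∈ K₀ ⊔ K1 ⊔ K2 :=
          (le_sup_right.trans le_sup_left : K1 ≤ K₀ ⊔ K1 ⊔ K2) (hK1n k hk x hx)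
        simpa using this
      · intro x hx
        rw [Subgroup.mem_comap]
        have : k * x * k⁻¹ ∈ K₀ ⊔ K1 ⊔ K2 :=
          (le_sup_right : K2 ≤ K₀ ⊔ K1 ⊔ K2) (hK2n k hk x hx)
        simpa using this
    intro x hx
    have := this hx
    rw [Subgroup.mem_comap] at this
    simpa using this
  · have : K₀ ⊔ K1 ⊔ K2 ≤ (K₀ ⊔ K1 ⊔ K2).comap F.toMonoidHom := by
      refine sup_le (sup_le ?_ ?_) ?_
      · intro x hx
        rw [Subgroup.mem_comap]
        exact (le_sup_right.trans le_sup_left : K1 ≤ K₀ ⊔ K1 ⊔ K2) ((m01 _).mp hx)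
      · intro x hx
        rw [Subgroup.mem_comap]
        exact (le_sup_right : K2 ≤ K₀ ⊔ K1 ⊔ K2) ((m12 _).mp hx)
      · intro x hx
        rw [Subgroup.mem_comap]
        exact (le_sup_left.trans le_sup_left : K₀ ≤ K₀ ⊔ K1 ⊔ K2) ((m20 _).mp hx)
    intro x hx
    exact this hx
  · have : K₀ ⊔ K1 ⊔ K2 ≤ (K₀ ⊔ K1 ⊔ K2).comap H.toMonoidHom := by
      refine sup_le (sup_le ?_ ?_) ?_
      · intro x hx
        rw [Subgroup.mem_comap]
        exact (le_sup_left.trans le_sup_left : K₀ ≤ K₀ ⊔ K1 ⊔ K2) (hK₀H _ hx)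
      · intro x hx
        rw [Subgroup.mem_comap]
        exact (le_sup_right : K2 ≤ K₀ ⊔ K1 ⊔ K2) (hH12 _ hx)
      · intro x hx
        rw [Subgroup.mem_comap]
        exact (le_sup_right.trans le_sup_left : K1 ≤ K₀ ⊔ K1 ⊔ K2) (hH21 _ hx)
    intro x hx
    exact this hx
  · -- F k * k⁻¹ ∈ P
    have le0 : K₀ ≤ K₀ ⊔ K1 ⊔ K2 := le_sup_left.trans le_sup_left
    have le1 : K1 ≤ K₀ ⊔ K1 ⊔ K2 := le_sup_right.trans le_sup_left
    have le2 : K2 ≤ K₀ ⊔ K1 ⊔ K2 := le_sup_right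
    have hFF : ∀ k ∈ K, F (F k) * k⁻¹ ∈ K₀ ⊔ K1 ⊔ K2 := by
      intro k hk
      have hc0 : H k * k⁻¹ ∈ K₀ := hcomm k hk
      have hk2 : F (F k) ∈ K := hFK _ (hFK _ hk)
      have hc : H (F (F k)) * (F (F k))⁻¹ ∈ K₀ := hcomm _ hk2
      -- F (H (F (F k))) = F (F (H k))
      have e1 : F (H (F (F k))) = F (F (H k)) := by rw [hHFFx]
      have e2 : F (F k) * k⁻¹ =
          (F (F (H k * k⁻¹)))⁻¹ * F (H (F (F k)) * (F (F k))⁻¹) := by
        rw [map_mul F (H (F (F k))), e1]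
        simp only [map_mul, map_inv, hFFF]
        group
      rw [e2]
      exact Subgroup.mul_mem _ (Subgroup.inv_mem _ (le2 ((m12 _).mp ((m01 _).mp hc0))))
        (le1 ((m01 _).mp hc))
    intro k hk
    have h1 := hFF _ (hFK _ (hFK _ hk))
    have h2 := hFF k hk
    have := Subgroup.mul_mem _ h1 h2
    rw [hFFF] at this
    convert this using 1
    group
  · intro k hk
    exact (le_sup_left.trans le_sup_left : K₀ ≤ K₀ ⊔ K1 ⊔ K2) (hcomm k hk)

end

theorem comm_of_three_kernels {𝒢 : Type*} [Group 𝒢] (K : Subgroup 𝒢) [Finite K]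
    (hcop : (Nat.card K).Coprime 6) (f h : 𝒢) (hf3 : f ^ 3 = 1) (hh2 : h ^ 2 = 1)
    (hfh : h * f * h⁻¹ = f⁻¹)
    (hnf : ∀ k ∈ K, f * k * f⁻¹ ∈ K) (hnh : ∀ k ∈ K, h * k * h⁻¹ ∈ K)
    (hfixK : ∀ k ∈ K, f * k * f⁻¹ = k → h * k * h⁻¹ = k → k = 1)
    (K₀ : Subgroup 𝒢) (hK₀K : K₀ ≤ K) (hK₀n : ∀ k ∈ K, ∀ x ∈ K₀, k * x * k⁻¹ ∈ K₀)
    (hK₀h : ∀ x ∈ K₀, h * x * h⁻¹ ∈ K₀)
    (hcomm : ∀ k ∈ K, h * k * h⁻¹ * k⁻¹ ∈ K₀)
    (htriv : ∀ x ∈ K₀, f⁻¹ * x * f ∈ K₀ → (f ^ 2)⁻¹ * x * f ^ 2 ∈ K₀ → x = 1) :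
    ∀ x ∈ K, ∀ y ∈ K, x * y = y * x := by
  classical
  have hf3' : f * f * f = 1 := by rw [← hf3, pow_succ, pow_succ, pow_one]
  have hh2' : h * h = 1 := by rw [← hh2, sq]
  have hff : f * f = f⁻¹ := eq_inv_of_mul_eq_one_left hf3'
  have hfinv : f⁻¹ = f ^ 2 := by rw [sq, hff]
  have hhinv : h⁻¹ = h := inv_eq_of_mul_eq_one_right hh2'
  obtain ⟨P, hPK, hPc, hPn, hPF, hPH, hFP, hHP⟩ :=
    exists_abelian_normal K (MulAut.conj f) (MulAut.conj h)
      (by rw [← map_pow, hf3, map_one]) (by rw [← map_pow, hh2, map_one])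
      (by
        have : h * f = f⁻¹ * h := by rw [← hfh]; group
        rw [← map_mul, this, map_mul, map_inv])
      (fun k hk => by simpa using hnf k hk) (fun k hk => by simpa using hnh k hk)
      (fun k hk h1 h2 => hfixK k hk (by simpa using h1) (by simpa using h2))
      K₀ hK₀K hK₀n (fun x hx => by simpa using hK₀h x hx)
      (fun k hk => by simpa using hcomm k hk)
      (fun x hx h1 h2 => by
        apply htriv x hx
        · have e : f⁻¹ * x * f = f * (f * x * f⁻¹) * f⁻¹ := by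
            symm
            calc f * (f * x * f⁻¹) * f⁻¹ = (f * f) * x * (f * f)⁻¹ := by group
              _ = f⁻¹ * x * f := by rw [hff, inv_inv]
          rw [e]; simpa using h1
        · have e : (f ^ 2)⁻¹ * x * f ^ 2 = f * x * f⁻¹ := by
            rw [← hfinv, inv_inv]
          rw [e]; simpa using h2)
  -- it suffices to show K ≤ P
  suffices hKP : K ≤ P from fun x hx y hy => hPc x (hKP hx) y (hKP hy)
  haveI : Finite P := Finite.of_injective (Subgroup.inclusion hPK) (Subgroup.inclusion_injective hPK)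
  have hcardP : Nat.card P ∣ Nat.card K := Subgroup.card_dvd_of_le hPK
  have hP3 : ¬ 3 ∣ Nat.card P := by
    intro h3
    have : 3 ∣ Nat.gcd (Nat.card K) 6 := Nat.dvd_gcd (h3.trans hcardP) (by norm_num)
    rw [hcop] at this
    norm_num at this
  have hP2 : ¬ 2 ∣ Nat.card P := by
    intro h3
    have : 2 ∣ Nat.gcd (Nat.card K) 6 := Nat.dvd_gcd (h3.trans hcardP) (by norm_num)
    rw [hcop] at this
    norm_num at this
  -- conjugation forms
  have hPF' : ∀ x ∈ P, f * x * f⁻¹ ∈ P := fun x hx => by simpa using hPF x hx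
  have hPH' : ∀ x ∈ P, h * x * h⁻¹ ∈ P := fun x hx => by simpa using hPH x hx
  have hFP' : ∀ k ∈ K, f * k * f⁻¹ * k⁻¹ ∈ P := fun k hk => by simpa using hFP k hk
  have hHP' : ∀ k ∈ K, h * k * h⁻¹ * k⁻¹ ∈ P := fun k hk => by simpa using hHP k hk
  -- subgroup of elements acting trivially on K/P and normalising K and P
  let T : Subgroup 𝒢 :=
    { carrier := {g | (∀ k, k ∈ K ↔ g * k * g⁻¹ ∈ K) ∧ (∀ x, x ∈ P ↔ g * x * g⁻¹ ∈ P) ∧
        ∀ k ∈ K, g * k * g⁻¹ * k⁻¹ ∈ P}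
      one_mem' := by
        refine ⟨fun k => by simp, fun k => by simp, fun k _ => by simp⟩
      mul_mem' := by
        rintro a b ⟨ha1, ha2, ha3⟩ ⟨hb1, hb2, hb3⟩
        refine ⟨fun k => ?_, fun k => ?_, fun k hk => ?_⟩
        · rw [hb1 k, ha1 (b * k * b⁻¹)]
          have : a * b * k * (a * b)⁻¹ = a * (b * k * b⁻¹) * a⁻¹ := by group
          rw [this]
        · rw [hb2 k, ha2 (b * k * b⁻¹)]
          have : a * b * k * (a * b)⁻¹ = a * (b * k * b⁻¹) * a⁻¹ := by group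
          rw [this]
        · have h1 := (ha2 _).mp (hb3 k hk)
          have h2 := ha3 k hk
          have := P.mul_mem h1 h2
          convert this using 1
          group
      inv_mem' := by
        rintro a ⟨ha1, ha2, ha3⟩
        refine ⟨fun k => ?_, fun k => ?_, fun k hk => ?_⟩
        · rw [ha1 (a⁻¹ * k * a⁻¹⁻¹)]
          have : a * (a⁻¹ * k * a⁻¹⁻¹) * a⁻¹ = k := by group
          rw [this]
        · rw [ha2 (a⁻¹ * k * a⁻¹⁻¹)]
          have : a * (a⁻¹ * k * a⁻¹⁻¹) * a⁻¹ = k := by group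
          rw [this]
        · rw [ha2]
          have hk' : a⁻¹ * k * a ∈ K := by
            rw [ha1]
            have : a * (a⁻¹ * k * a) * a⁻¹ = k := by group
            rw [this]; exact hk
          have h2 := P.inv_mem (ha3 k hk)
          convert h2 using 1
          group }
  have hfT : f ∈ T := by
    refine ⟨fun k => ⟨hnf k, fun hk => ?_⟩, fun x => ⟨hPF' x, fun hx => ?_⟩, hFP'⟩
    · have := hnf _ (hnf _ hk)
      have e : f * (f * (f * k * f⁻¹) * f⁻¹) * f⁻¹ = k := by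
        have : f * (f * (f * k * f⁻¹) * f⁻¹) * f⁻¹ = (f * f * f) * k * (f * f * f)⁻¹ := by group
        rw [this, hf3']; simp
      rwa [e] at this
    · have := hPF' _ (hPF' _ hx)
      have e : f * (f * (f * x * f⁻¹) * f⁻¹) * f⁻¹ = x := by
        have : f * (f * (f * x * f⁻¹) * f⁻¹) * f⁻¹ = (f * f * f) * x * (f * f * f)⁻¹ := by group
        rw [this, hf3']; simp
      rwa [e] at this
  have hhT : h ∈ T := by
    refine ⟨fun k => ⟨hnh k, fun hk => ?_⟩, fun x => ⟨hPH' x, fun hx => ?_⟩, hHP'⟩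
    · have := hnh _ hk
      have e : h * (h * k * h⁻¹) * h⁻¹ = k := by
        have : h * (h * k * h⁻¹) * h⁻¹ = (h * h) * k * (h * h)⁻¹ := by group
        rw [this, hh2']; simp
      rwa [e] at this
    · have := hPH' _ hx
      have e : h * (h * x * h⁻¹) * h⁻¹ = x := by
        have : h * (h * x * h⁻¹) * h⁻¹ = (h * h) * x * (h * h)⁻¹ := by group
        rw [this, hh2']; simp
      rwa [e] at this
  have hzfT : Subgroup.zpowers f ≤ T := Subgroup.zpowers_le.mpr hfT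
  have hzhT : Subgroup.zpowers h ≤ T := Subgroup.zpowers_le.mpr hhT
  intro k hk
  -- first lift: fixed by f
  haveI : Fact (Nat.Prime 3) := ⟨Nat.prime_three⟩
  haveI : Fact (Nat.Prime 2) := ⟨Nat.prime_two⟩
  have hPg3 : IsPGroup 3 (Subgroup.zpowers f) := by
    rintro ⟨g, hg⟩
    obtain ⟨n, rfl⟩ := Subgroup.mem_zpowers_iff.mp hg
    refine ⟨1, ?_⟩
    apply Subtype.ext
    simp only [pow_one, Subgroup.coe_pow, Subgroup.coe_one]
    rw [← zpow_natCast, ← zpow_mul, mul_comm, zpow_mul, zpow_natCast, hf3, one_zpow]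
  have hPg2 : IsPGroup 2 (Subgroup.zpowers h) := by
    rintro ⟨g, hg⟩
    obtain ⟨n, rfl⟩ := Subgroup.mem_zpowers_iff.mp hg
    refine ⟨1, ?_⟩
    apply Subtype.ext
    simp only [pow_one, Subgroup.coe_pow, Subgroup.coe_one]
    rw [← zpow_natCast, ← zpow_mul, mul_comm, zpow_mul, zpow_natCast, hh2, one_zpow]
  have hTnorm : ∀ g ∈ T, g ∈ Subgroup.normalizer (P : Set 𝒢) := by
    intro g hg
    rw [Subgroup.mem_normalizer_iff]
    exact hg.2.1
  obtain ⟨m, hmP, hm⟩ := Cfsg.Agent.Lib.Helper22_Coprime.exists_fixed_in_coset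
    (Subgroup.zpowers f) P hPg3 hP3 (fun g hg => hTnorm g (hzfT hg)) k
    (fun g hg => by
      have h1 := (hzfT hg).2.2 k hk
      have h2 := hPn k⁻¹ (K.inv_mem hk) _ h1
      convert h2 using 1
      group)
  have hxK : k * m ∈ K := K.mul_mem hk (hPK hmP)
  have hxf : f * (k * m) * f⁻¹ = k * m := hm f (Subgroup.mem_zpowers f)
  have hxf' : f * (k * m) = (k * m) * f := mul_inv_eq_iff_eq_mul.mp hxf
  -- second lift
  have key : ∀ y, y ∈ Subgroup.centralizer {f} →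
      h * y * h⁻¹ ∈ Subgroup.centralizer ({f} : Set 𝒢) := by
    intro y hy
    rw [Subgroup.mem_centralizer_iff] at hy ⊢
    intro g hg
    rw [Set.mem_singleton_iff] at hg
    subst hg
    have hy' := hy g rfl
    have e1 : h⁻¹ * g * h = g⁻¹ := by
      rw [hhinv]
      have : h * g * h = h * g * h⁻¹ := by rw [hhinv]
      rw [this, hfh]
    have hy'' : g⁻¹ * y = y * g⁻¹ := by
      have : g⁻¹ * y = g⁻¹ * (y * g) * g⁻¹ := by group
      rw [this, ← hy']; group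
    calc g * (h * y * h⁻¹) = h * ((h⁻¹ * g * h) * y) * h⁻¹ := by group
      _ = h * (y * (h⁻¹ * g * h)) * h⁻¹ := by rw [e1, hy'']
      _ = h * y * h⁻¹ * g := by group
  have hhNC : h ∈ Subgroup.normalizer ((Subgroup.centralizer {f} : Subgroup 𝒢) : Set 𝒢) := by
    rw [Subgroup.mem_normalizer_iff]
    intro y
    refine ⟨key y, fun hy2 => ?_⟩
    have e : h * (h * y * h⁻¹) * h⁻¹ = y := by
      have : h * (h * y * h⁻¹) * h⁻¹ = (h * h) * y * (h * h)⁻¹ := by group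
      rw [this, hh2']; simp
    have h2 := key _ hy2
    rwa [e] at h2
  have hzhNC : Subgroup.zpowers h ≤
      Subgroup.normalizer ((Subgroup.centralizer {f} : Subgroup 𝒢) : Set 𝒢) :=
    Subgroup.zpowers_le.mpr hhNC
  have hMn : Subgroup.zpowers h ≤
      Subgroup.normalizer ((P ⊓ Subgroup.centralizer {f} : Subgroup 𝒢) : Set 𝒢) := by
    intro g hg
    rw [Subgroup.mem_normalizer_iff]
    intro y
    have h1 := (hzhT hg).2.1 y
    have h2 := Subgroup.mem_normalizer_iff.mp (hzhNC hg) y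
    rw [Subgroup.mem_inf, Subgroup.mem_inf, h1, h2]
  have hM2 : ¬ 2 ∣ Nat.card (P ⊓ Subgroup.centralizer {f} : Subgroup 𝒢) := by
    intro h2
    exact hP2 (h2.trans (Subgroup.card_dvd_of_le inf_le_left))
  have hxC : k * m ∈ Subgroup.centralizer ({f} : Set 𝒢) := by
    rw [Subgroup.mem_centralizer_iff]
    intro g hg
    rw [Set.mem_singleton_iff] at hg
    subst hg
    exact hxf'
  obtain ⟨m', hm'M, hm'⟩ := Cfsg.Agent.Lib.Helper22_Coprime.exists_fixed_in_coset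
    (Subgroup.zpowers h) (P ⊓ Subgroup.centralizer {f}) hPg2 hM2 hMn (k * m)
    (fun g hg => by
      refine Subgroup.mem_inf.mpr ⟨?_, ?_⟩
      · have h1 := (hzhT hg).2.2 (k * m) hxK
        have h2 := hPn (k * m)⁻¹ (K.inv_mem hxK) _ h1
        convert h2 using 1
        group
      · have h1 := (Subgroup.mem_normalizer_iff.mp (hzhNC hg) (k * m)).mp hxC
        have h2 := Subgroup.mul_mem _ (Subgroup.inv_mem _ hxC) h1
        convert h2 using 1
        group)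
  have hm'P : m' ∈ P := hm'M.1
  have hm'C : m' ∈ Subgroup.centralizer ({f} : Set 𝒢) := hm'M.2
  have hyK : k * m * m' ∈ K := K.mul_mem hxK (hPK hm'P)
  have hyf : f * (k * m * m') * f⁻¹ = k * m * m' := by
    have hc : k * m * m' ∈ Subgroup.centralizer ({f} : Set 𝒢) := Subgroup.mul_mem _ hxC hm'C
    rw [Subgroup.mem_centralizer_iff] at hc
    have := hc f rfl
    exact mul_inv_eq_iff_eq_mul.mpr this
  have hyh : h * (k * m * m') * h⁻¹ = k * m * m' := hm' h (Subgroup.mem_zpowers h)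
  have h1 := hfixK _ hyK hyf hyh
  have hk' : k = (m * m')⁻¹ := by
    apply eq_inv_of_mul_eq_one_left
    rw [← mul_assoc]; exact h1
  rw [hk']
  exact P.inv_mem (P.mul_mem hmP hm'P)

end Cfsg.Agent.Lib.Helper1_S3T2
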