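import Mathlib

/-!
# Arithmetic for the exceptional case of Shult's theorem (helper64)
-/

set_option autoImplicit false

namespace Cfsg.Agent.Lib.Helper64_ShultArith

/-- if `p` is an odd prime, `p ^ m ∥ A - 1` and `p ^ (m + k) ∣ A ^ j - 1` then `p ^ k ∣ j` -/
theorem pow_dvd_of_lte (p : ℕ) (hp : p.Prime) (hp2 : p ≠ 2) (A m k j : ℕ) (hm : 1 ≤ m)
    (hA1 : p ^ m ∣ A - 1) (hA2 : ¬ p ^ (m + 1) ∣ A - 1) (hA0 : 1 ≤ A)
    (h : p ^ (m + k) ∣ A ^ j - 1) : p ^ k ∣ j := by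
  have hodd : Odd p := hp.odd_of_ne_two hp2
  have hpA1 : p ∣ A - 1 := dvd_trans (dvd_pow_self p (by omega)) hA1
  have hpA : ¬ p ∣ A := by
    intro hpA
    have h1 : p ∣ A - (A - 1) := Nat.dvd_sub hpA hpA1
    have : A - (A - 1) = 1 := by omega
    rw [this] at h1
    exact hp.one_lt.ne' (Nat.dvd_one.1 h1)
  have key := Nat.emultiplicity_pow_sub_pow hp hodd (x := A) (y := 1) (by simpa using hpA1) hpA j
  rw [one_pow] at key
  have h1 : emultiplicity p (A - 1) = (m : ℕ∞) := by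
    rw [emultiplicity_eq_coe]
    exact ⟨hA1, hA2⟩
  rw [h1] at key
  have h2 : ((m + k : ℕ) : ℕ∞) ≤ emultiplicity p (A ^ j - 1) := by
    rw [← pow_dvd_iff_le_emultiplicity]
    exact h
  rw [key, Nat.cast_add] at h2
  have h3 : (k : ℕ∞) ≤ emultiplicity p j := by
    exact (WithTop.add_le_add_iff_left (ENat.natCast_ne_top m)).1 h2
  rw [← pow_dvd_iff_le_emultiplicity] at h3
  exact h3

theorem arith_main (p q : ℕ) (hp : p.Prime) (hp2 : p ≠ 2) (hq : q.Prime) (m k e a : ℕ)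
    (hm : 1 ≤ m) (hD : (p ^ m - 1) ^ 2 = q ^ a) (he1 : 1 ≤ e)
    (hle : q ^ e ≤ (p ^ m - 1) ^ (2 * p ^ k)) (hdvd : p ^ (m + k) ∣ q ^ e - 1) :
    q ^ e = (p ^ m - 1) ^ (2 * p ^ k) := by
  have hp3 : 3 ≤ p := by
    have := hp.two_le
    omega
  have hpm3 : 3 ≤ p ^ m := by
    calc 3 ≤ p := hp3
      _ = p ^ 1 := (pow_one p).symm
      _ ≤ p ^ m := Nat.pow_le_pow_right hp.pos hm
  have hodd : Odd p := hp.odd_of_ne_two hp2
  have hpmodd : Odd (p ^ m) := hodd.pow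
  have heven : Even (p ^ m - 1) := by
    obtain ⟨c, hc⟩ := hpmodd
    exact ⟨c, by omega⟩
  -- `q = 2`
  have h2q : 2 ∣ q ^ a := by
    rw [← hD]
    exact dvd_pow (even_iff_two_dvd.1 heven) (by norm_num)
  have hq2 : q = 2 := by
    have := (Nat.prime_dvd_prime_iff_eq Nat.prime_two hq).1 (Nat.prime_two.dvd_of_dvd_pow h2q)
    exact this.symm
  subst hq2
  -- `p ^ m - 1 = 2 ^ d`
  obtain ⟨d, hda, hd⟩ : ∃ d, d ≤ a ∧ p ^ m - 1 = 2 ^ d := by
    have : p ^ m - 1 ∣ 2 ^ a := by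
      rw [← hD]
      exact dvd_pow_self _ (by norm_num)
    exact (Nat.dvd_prime_pow Nat.prime_two).1 this
  have hd1 : 1 ≤ d := by
    rcases Nat.eq_zero_or_pos d with h0 | h0
    · rw [h0, pow_zero] at hd
      omega
    · exact h0
  rw [hd] at hle ⊢
  rw [← pow_mul] at hle ⊢
  have hpm : p ^ m = 2 ^ d + 1 := by omega
  have hele : e ≤ d * (2 * p ^ k) := (Nat.pow_le_pow_iff_right (by norm_num)).1 hle
  -- `p ^ m ∣ 2 ^ gcd - 1`
  have h1 : p ^ m ∣ 2 ^ e - 1 := dvd_trans (pow_dvd_pow p (by omega)) hdvd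
  have hfac : 2 ^ (2 * d) - 1 = (2 ^ d - 1) * (2 ^ d + 1) := by
    have h1 : 1 ≤ 2 ^ d := Nat.one_le_two_pow
    obtain ⟨c, hc⟩ : ∃ c, 2 ^ d = c + 1 := ⟨2 ^ d - 1, by omega⟩
    rw [two_mul, pow_add, hc]
    have : (c + 1) * (c + 1) - 1 = c * (c + 1 + 1) := by
      have : (c + 1) * (c + 1) = c * (c + 1 + 1) + 1 := by ring
      omega
    rw [this]
    simp
  have h2 : p ^ m ∣ 2 ^ (2 * d) - 1 := by
    rw [hfac, ← hpm]
    exact dvd_mul_left _ _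
  have h3 : p ^ m ∣ 2 ^ (Nat.gcd e (2 * d)) - 1 := by
    rw [← Nat.pow_sub_one_gcd_pow_sub_one]
    exact Nat.dvd_gcd h1 h2
  have hg : Nat.gcd e (2 * d) = 2 * d := by
    by_contra hne
    have hgd : Nat.gcd e (2 * d) ∣ 2 * d := Nat.gcd_dvd_right _ _
    obtain ⟨c, hc⟩ := hgd
    have hgpos : 0 < Nat.gcd e (2 * d) := Nat.gcd_pos_of_pos_left _ (by omega)
    have hc2 : 2 ≤ c := by
      rcases c with _ | _ | c
      · omega
      · exfalso; apply hne; omega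
      · omega
    have hgle : Nat.gcd e (2 * d) ≤ d := by nlinarith
    have h4 : 2 ^ (Nat.gcd e (2 * d)) ≤ 2 ^ d := Nat.pow_le_pow_right (by norm_num) hgle
    have h5 : 2 ≤ 2 ^ (Nat.gcd e (2 * d)) := by
      calc 2 = 2 ^ 1 := (pow_one 2).symm
        _ ≤ 2 ^ (Nat.gcd e (2 * d)) := Nat.pow_le_pow_right (by norm_num) hgpos
    have h6 := Nat.le_of_dvd (by omega) h3
    omega
  have h2de : 2 * d ∣ e := by
    rw [← hg]
    exact Nat.gcd_dvd_left _ _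
  obtain ⟨j, hj⟩ := h2de
  have hj1 : 1 ≤ j := by
    rcases Nat.eq_zero_or_pos j with h0 | h0
    · rw [h0, mul_zero] at hj
      omega
    · exact h0
  have hjle : j ≤ p ^ k := by
    rw [hj] at hele
    have : 2 * d * j ≤ 2 * d * p ^ k := by
      calc 2 * d * j ≤ d * (2 * p ^ k) := hele
        _ = 2 * d * p ^ k := by ring
    exact Nat.le_of_mul_le_mul_left this (by omega)
  -- lifting the exponent
  have hA1 : p ^ m ∣ 2 ^ (2 * d) - 1 := h2
  have hA2 : ¬ p ^ (m + 1) ∣ 2 ^ (2 * d) - 1 := by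
    intro h
    rw [hfac, ← hpm, pow_succ] at h
    have h7 : p ∣ 2 ^ d - 1 := by
      rw [mul_comm (2 ^ d - 1)] at h
      exact Nat.dvd_of_mul_dvd_mul_left (pow_pos hp.pos m) h
    have h8 : p ∣ 2 ^ d + 1 := by
      rw [← hpm]
      exact dvd_pow_self p (by omega)
    have h9 : p ∣ (2 ^ d + 1) - (2 ^ d - 1) := Nat.dvd_sub h8 h7
    have h10 : (2 ^ d + 1) - (2 ^ d - 1) = 2 := by
      have : 1 ≤ 2 ^ d := Nat.one_le_two_pow
      omega
    rw [h10] at h9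
    have := Nat.le_of_dvd (by norm_num) h9
    omega
  have h11 : p ^ (m + k) ∣ (2 ^ (2 * d)) ^ j - 1 := by
    rw [← pow_mul, ← hj]
    exact hdvd
  have h12 := pow_dvd_of_lte p hp hp2 (2 ^ (2 * d)) m k j hm hA1 hA2 Nat.one_le_two_pow h11
  have h13 : p ^ k ≤ j := Nat.le_of_dvd hj1 h12
  have hjeq : j = p ^ k := le_antisymm hjle h13
  rw [hj, hjeq]
  congr 1
  ring

end Cfsg.Agent.Lib.Helper64_ShultArith
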