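import Mathlib
import Cfsg.Agent.Lib.Helper71_ESLinear

/-!
# Representations of extraspecial type and operators of odd prime power order (helper64)

Generalisation of `Helper71_ESLinear.ESRep.finrank_succ_eq` from prime order to odd prime power
order: an operator `t` with `t ^ (p ^ m) = 1` normalising an irreducible representation of
extraspecial type, all of whose non-trivial powers act semiregularly on `Q / Z`, and without
non-zero fixed vectors, forces `dim U + 1 = p ^ m`.
-/

set_option autoImplicit false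
set_option linter.unusedSectionVars false

namespace Cfsg.Agent.Lib.Helper64_ShultES

open Module Cfsg.Agent.Lib.Helper71_ESLinear

theorem arith_pp (p m d ω c : ℕ) (hp : p.Prime) (hp2 : p ≠ 2) (hm : 1 ≤ m) (hd1 : 1 ≤ d)
    (hdne1 : d ≠ 1) (horb : ω * p ^ m = d ^ 2 + (p ^ m - 1)) (hsq : d ^ 2 ≤ (p ^ m - 1) * c)
    (hc : c ≤ ω) : d + 1 = p ^ m := by
  obtain ⟨r, hr⟩ : ∃ r, r = p ^ m := ⟨_, rfl⟩
  rw [← hr] at horb hsq ⊢
  have hr2 : 3 ≤ r := by
    rw [hr]
    have h3 : 3 ≤ p := by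
      have := hp.two_le
      omega
    calc 3 ≤ p := h3
      _ = p ^ 1 := (pow_one p).symm
      _ ≤ p ^ m := Nat.pow_le_pow_right hp.pos hm
  have h1 : d ^ 2 * r ≤ (r - 1) * (d ^ 2 + (r - 1)) := by
    calc d ^ 2 * r ≤ ((r - 1) * c) * r := Nat.mul_le_mul_right r hsq
      _ ≤ ((r - 1) * ω) * r := by
        apply Nat.mul_le_mul_right
        exact Nat.mul_le_mul_left _ hc
      _ = (r - 1) * (ω * r) := by ring
      _ = (r - 1) * (d ^ 2 + (r - 1)) := by rw [horb]
  have h4 : r ∣ d ^ 2 + (r - 1) := ⟨ω, by rw [← horb]; ring⟩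
  obtain ⟨s, hs⟩ : ∃ s, r = s + 1 := ⟨r - 1, by omega⟩
  obtain ⟨e', rfl⟩ : ∃ e', d = e' + 1 := ⟨d - 1, by omega⟩
  rw [hs] at h1 h4 ⊢
  simp only [Nat.add_sub_cancel] at h1 h4
  have h2 : (e' + 1) ^ 2 ≤ s ^ 2 := by nlinarith
  have h3 : e' + 1 ≤ s := by
    by_contra hcon
    push Not at hcon
    have : s ^ 2 < (e' + 1) ^ 2 := Nat.pow_lt_pow_left hcon (by norm_num)
    omega
  have h5 : (s + 1) ∣ e' * (e' + 2) := by
    have e : e' * (e' + 2) + (s + 1) = (e' + 1) ^ 2 + s := by ring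
    rw [← e] at h4
    exact (Nat.dvd_add_left (dvd_refl (s + 1))).1 h4
  -- `p` cannot divide both `e'` and `e' + 2`
  have he'pos : 0 < e' := by omega
  by_cases hpe : p ∣ e'
  · -- then `p ∤ e' + 2`, so `p ^ m ∣ e'`, impossible as `e' < r`
    exfalso
    have hcop : Nat.Coprime (p ^ m) (e' + 2) := by
      apply Nat.Coprime.pow_left
      rw [Nat.Prime.coprime_iff_not_dvd hp]
      intro h
      have : p ∣ 2 := (Nat.dvd_add_right hpe).1 h
      have := Nat.le_of_dvd (by norm_num) this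
      have := hp.two_le
      omega
    rw [← hs, hr] at h5
    have h6 : p ^ m ∣ e' := hcop.dvd_of_dvd_mul_right h5
    have := Nat.le_of_dvd he'pos h6
    rw [← hr] at this
    omega
  · have hcop : Nat.Coprime (p ^ m) e' := by
      apply Nat.Coprime.pow_left
      rw [Nat.Prime.coprime_iff_not_dvd hp]
      exact hpe
    rw [← hs, hr] at h5
    have h6 : p ^ m ∣ e' + 2 := hcop.dvd_of_dvd_mul_left h5
    have := Nat.le_of_dvd (by omega) h6
    rw [← hr] at this
    omega

variable {K : Type*} [Field K] {U : Type*} [AddCommGroup U] [Module K U]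
variable {Q : Type*} [Group Q]

/-- **Main linear theorem, irreducible case, odd prime power order.** -/
theorem finrank_succ_eq_pp [IsAlgClosed K] [FiniteDimensional K U] [Finite Q]
    {ρ : Representation K Q U} {t : End K U} (σ : MulAut Q)
    (hρ : ESRep ρ) (hirr : Irr ρ) {p m : ℕ} (hp : p.Prime) (hp2 : p ≠ 2) (hm : 1 ≤ m)
    (hrK : ((p ^ m : ℕ) : K) ≠ 0) (ht : t ^ (p ^ m) = 1)
    (hσ : ∀ g, t * ρ g = ρ (σ g) * t)
    (hsemi : ∀ j, 0 < j → j < p ^ m → ∀ g, (σ ^ j) g * g⁻¹ ∈ scSubgroup ρ → g ∈ scSubgroup ρ)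
    (hne : ∃ g, g ∉ scSubgroup ρ)
    (hfix : ∀ u, t u = u → u = 0) : finrank K U + 1 = p ^ m := by
  classical
  obtain ⟨g₀, hg₀⟩ := hne
  have hnt : Nontrivial U := by
    by_contra hU
    rw [not_nontrivial_iff_subsingleton] at hU
    apply hg₀
    refine ⟨0, ?_⟩
    ext u
    exact Subsingleton.elim _ _
  obtain ⟨r, hr⟩ : ∃ r, r = p ^ m := ⟨_, rfl⟩
  rw [← hr] at hrK ht hsemi ⊢
  have hr0 : 0 < r := by rw [hr]; exact pow_pos hp.pos m
  set τ := sigmaBar σ hr0 ht hσ with hτ
  have hτr : τ ^ r = 1 := sigmaBar_pow_eq_one σ hr0 ht hσ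
  have hτfix : ∀ j, 0 < j → j < r → ∀ q, (τ ^ j) q = q → q = 1 := by
    intro j hj0 hjr q hq
    obtain ⟨g, rfl⟩ := QuotientGroup.mk_surjective q
    rw [hτ, sigmaBar_pow_mk, QuotientGroup.eq] at hq
    have h1 : g⁻¹ * (σ ^ j) g ∈ scSubgroup ρ := by
      have := (scSubgroup ρ).inv_mem hq
      simpa using this
    have h2 : (σ ^ j) g * g⁻¹ ∈ scSubgroup ρ := by
      have := (scSubgroup_normal ρ).conj_mem _ h1 g
      simpa [mul_assoc] using this
    exact (QuotientGroup.eq_one_iff g).2 (hsemi j hj0 hjr g h2)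
  have hq₀ : (g₀ : Q ⧸ scSubgroup ρ) ≠ 1 := fun h => hg₀ ((QuotientGroup.eq_one_iff g₀).1 h)
  have hord : orderOf τ = r := by
    have hdvd : orderOf τ ∣ r := orderOf_dvd_of_pow_eq_one hτr
    have hpos : 0 < orderOf τ := Nat.pos_of_dvd_of_pos hdvd hr0
    rcases Nat.lt_or_ge (orderOf τ) r with hlt | hge
    · exfalso
      apply hq₀
      apply hτfix (orderOf τ) hpos hlt
      rw [pow_orderOf_eq_one, MulAut.one_apply]
    · exact le_antisymm (Nat.le_of_dvd hr0 hdvd) hge
  have hcardG : Nat.card (Subgroup.zpowers τ) = r := by rw [Nat.card_zpowers, hord]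
  have hfixBy : ∀ a : Subgroup.zpowers τ, a ≠ 1 →
      Nat.card (MulAction.fixedBy (Q ⧸ scSubgroup ρ) a) = 1 := by
    intro a ha
    have hfin : IsOfFinOrder τ := isOfFinOrder_iff_pow_eq_one.2 ⟨r, hr0, hτr⟩
    obtain ⟨j, hj, hja⟩ : ∃ j, j < r ∧ τ ^ j = (a : MulAut (Q ⧸ scSubgroup ρ)) := by
      have := (hfin.mem_zpowers_iff_mem_range_orderOf).1 a.2
      rw [Finset.mem_image] at this
      obtain ⟨j, hj, hja⟩ := this
      rw [Finset.mem_range, hord] at hj
      exact ⟨j, hj, hja⟩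
    have hj0 : 0 < j := by
      rcases Nat.eq_zero_or_pos j with h0 | h0
      · exfalso
        apply ha
        apply Subtype.ext
        rw [← hja, h0, pow_zero]
        rfl
      · exact h0
    have huniq : ∀ q : Q ⧸ scSubgroup ρ, q ∈ MulAction.fixedBy (Q ⧸ scSubgroup ρ) a ↔ q = 1 := by
      intro q
      constructor
      · intro hq
        apply hτfix j hj0 hj
        rw [hja]
        exact hq
      · rintro rfl
        show a • (1 : Q ⧸ scSubgroup ρ) = 1
        exact map_one (a : MulAut (Q ⧸ scSubgroup ρ))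
    rw [Nat.card_eq_one_iff_unique]
    refine ⟨⟨?_⟩, ⟨⟨1, (huniq 1).2 rfl⟩⟩⟩
    intro x y
    apply Subtype.ext
    rw [(huniq x.1).1 x.2, (huniq y.1).1 y.2]
  have horb := card_orbits_mul (S := Q ⧸ scSubgroup ρ) hcardG hfixBy
  have hc := finrank_commutant_le σ hirr hr0 hrK ht hσ
  have hsq := sq_finrank_le hr0 hrK t ht hfix
  have hN := hρ.card_quot hirr
  rw [hN] at horb
  have hd1 : 1 ≤ finrank K U := Module.finrank_pos
  have hdne1 : finrank K U ≠ 1 := by
    intro h1
    rw [h1, one_pow] at hN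
    have : Subsingleton (Q ⧸ scSubgroup ρ) := (Nat.card_eq_one_iff_unique.1 hN).1
    exact hq₀ (Subsingleton.elim _ _)
  rw [hr] at horb hsq ⊢
  exact arith_pp p m _ _ _ hp hp2 hm hd1 hdne1 horb hsq hc

/-- a cyclic group of automorphisms of order dividing `r`, all of whose powers `τ ^ j`
(`0 < j < r`) fix only the identity, has all non-trivial orbits regular -/
theorem dvd_card_sub_one_of_semiregular {S : Type*} [Group S] [Finite S] (τ : MulAut S) (r : ℕ)
    (hr0 : 0 < r) (hτr : τ ^ r = 1) (hτfix : ∀ j, 0 < j → j < r → ∀ s, (τ ^ j) s = s → s = 1)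
    (hne : ∃ s : S, s ≠ 1) : r ∣ Nat.card S - 1 := by
  classical
  obtain ⟨s₀, hs₀⟩ := hne
  have hord : orderOf τ = r := by
    have hdvd : orderOf τ ∣ r := orderOf_dvd_of_pow_eq_one hτr
    have hpos : 0 < orderOf τ := Nat.pos_of_dvd_of_pos hdvd hr0
    rcases Nat.lt_or_ge (orderOf τ) r with hlt | hge
    · exfalso
      apply hs₀
      apply hτfix (orderOf τ) hpos hlt
      rw [pow_orderOf_eq_one, MulAut.one_apply]
    · exact le_antisymm (Nat.le_of_dvd hr0 hdvd) hge
  have hcardG : Nat.card (Subgroup.zpowers τ) = r := by rw [Nat.card_zpowers, hord]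
  have hfixBy : ∀ a : Subgroup.zpowers τ, a ≠ 1 →
      Nat.card (MulAction.fixedBy S a) = 1 := by
    intro a ha
    have hfin : IsOfFinOrder τ := isOfFinOrder_iff_pow_eq_one.2 ⟨r, hr0, hτr⟩
    obtain ⟨j, hj, hja⟩ : ∃ j, j < r ∧ τ ^ j = (a : MulAut S) := by
      have := (hfin.mem_zpowers_iff_mem_range_orderOf).1 a.2
      rw [Finset.mem_image] at this
      obtain ⟨j, hj, hja⟩ := this
      rw [Finset.mem_range, hord] at hj
      exact ⟨j, hj, hja⟩
    have hj0 : 0 < j := by
      rcases Nat.eq_zero_or_pos j with h0 | h0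
      · exfalso
        apply ha
        apply Subtype.ext
        rw [← hja, h0, pow_zero]
        rfl
      · exact h0
    have huniq : ∀ q : S, q ∈ MulAction.fixedBy S a ↔ q = 1 := by
      intro q
      constructor
      · intro hq
        apply hτfix j hj0 hj
        rw [hja]
        exact hq
      · rintro rfl
        show a • (1 : S) = 1
        exact map_one (a : MulAut S)
    rw [Nat.card_eq_one_iff_unique]
    refine ⟨⟨?_⟩, ⟨⟨1, (huniq 1).2 rfl⟩⟩⟩
    intro x y
    apply Subtype.ext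
    rw [(huniq x.1).1 x.2, (huniq y.1).1 y.2]
  have horb := card_orbits_mul (S := S) hcardG hfixBy
  have hpos : 0 < Nat.card S := Nat.card_pos
  have h1 : r ∣ Nat.card S + (r - 1) := ⟨_, by rw [← horb]; ring⟩
  have h2 : Nat.card S + (r - 1) = (Nat.card S - 1) + r := by omega
  rw [h2] at h1
  exact (Nat.dvd_add_left (dvd_refl r)).1 h1

end Cfsg.Agent.Lib.Helper64_ShultES
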