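import Mathlib

/-!
# Group-theoretic lemmas for Shult's theorem (helper64)

* `exists_fixed_mul`: fixed points of a coprime automorphism lift through an invariant subgroup.
* `pow_fixed_of_pow_fixed`: an element fixed by `α ^ a` (`0 < a < p ^ (n+1)`, `α ^ p ^ (n+1) = 1`)
  is fixed by `α ^ p ^ n`.
* `nrm`: the (non-commutative) norm `g * α g * ⋯ * α^(n-1) g`.
-/

set_option autoImplicit false

namespace Cfsg.Agent.Lib.Helper64_ShultGrp

variable {P : Type*} [Group P]

theorem inv_mul_pow_apply_mem (β : MulAut P) (N : Subgroup P) (hN : ∀ n ∈ N, β n ∈ N) (g : P)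
    (hg : g⁻¹ * β g ∈ N) (i : ℕ) : g⁻¹ * (β ^ i) g ∈ N := by
  induction i with
  | zero => simp
  | succ i ih =>
    have e : g⁻¹ * (β ^ (i + 1)) g = (g⁻¹ * β g) * β (g⁻¹ * (β ^ i) g) := by
      rw [pow_succ', MulAut.mul_apply, map_mul, map_inv]
      group
    rw [e]
    exact N.mul_mem hg (hN _ ih)

theorem pow_apply_mem (β : MulAut P) (N : Subgroup P) (hN : ∀ n ∈ N, β n ∈ N) (i : ℕ) :
    ∀ n ∈ N, (β ^ i) n ∈ N := by
  induction i with
  | zero => intro n hn; simpa using hn
  | succ i ih =>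
    intro n hn
    rw [pow_succ', MulAut.mul_apply]
    exact hN _ (ih n hn)

/-- fixed points of an automorphism of `p`-power order lift through an invariant subgroup of
order prime to `p` -/
theorem exists_fixed_mul [Finite P] (p : ℕ) [Fact p.Prime] (β : MulAut P) (j : ℕ)
    (hβ : β ^ p ^ j = 1) (N : Subgroup P) (hNp : ¬ p ∣ Nat.card N) (hN : ∀ n ∈ N, β n ∈ N)
    (g : P) (hg : g⁻¹ * β g ∈ N) : ∃ n ∈ N, β (g * n) = g * n := by
  classical
  have := Fintype.ofFinite N
  let f : Function.End N := fun n =>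
    ⟨g⁻¹ * β (g * n), by
      have e : g⁻¹ * β (g * n) = (g⁻¹ * β g) * β n := by rw [map_mul]; group
      rw [e]
      exact N.mul_mem hg (hN _ n.2)⟩
  have hfi : ∀ (i : ℕ) (n : N), ((f ^ i) n : P) = g⁻¹ * (β ^ i) (g * n) := by
    intro i
    induction i with
    | zero =>
      intro n
      rw [pow_zero, pow_zero]
      show (n : P) = g⁻¹ * (g * n)
      group
    | succ i ih =>
      intro n
      have e1 : (f ^ (i + 1)) n = f ((f ^ i) n) := by
        rw [pow_succ']
        rfl
      rw [e1]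
      show g⁻¹ * β (g * ((f ^ i) n : P)) = _
      rw [ih, pow_succ', MulAut.mul_apply]
      congr 2
      group
  have hf : f ^ p ^ j = 1 := by
    funext n
    apply Subtype.ext
    rw [hfi, hβ]
    show g⁻¹ * (g * n) = ((1 : Function.End N) n : P)
    have : (1 : Function.End N) n = n := rfl
    rw [this]
    group
  have h1 := Equiv.Perm.card_fixedPoints_modEq (f := f) (p := p) (n := j) hf
  have h2 : Fintype.card (Function.fixedPoints f) ≠ 0 := by
    intro h0
    rw [h0] at h1
    apply hNp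
    rw [Nat.card_eq_fintype_card]
    exact (Nat.modEq_zero_iff_dvd).1 h1
  obtain ⟨⟨n, hn⟩⟩ := Fintype.card_pos_iff.1 (Nat.pos_of_ne_zero h2)
  refine ⟨n, n.2, ?_⟩
  have h3 : (f n : P) = n := congrArg Subtype.val hn
  have h4 : g⁻¹ * β (g * n) = n := h3
  calc β (g * n) = g * (g⁻¹ * β (g * n)) := by group
    _ = g * n := by rw [h4]

/-- in a cyclic `p`-group of automorphisms every non-trivial element has the generator of the
subgroup of order `p` among its powers -/
theorem pow_fixed_of_pow_fixed (p : ℕ) [Fact p.Prime] (α : MulAut P) (n : ℕ)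
    (hα : α ^ p ^ (n + 1) = 1) (a : ℕ) (ha0 : 0 < a) (ha : a < p ^ (n + 1)) (h : P)
    (hh : (α ^ a) h = h) : (α ^ p ^ n) h = h := by
  have hp : p.Prime := Fact.out
  let St : Subgroup (MulAut P) := MulAction.stabilizer (MulAut P) h
  have h1 : α ^ a ∈ St := hh
  have h2 : α ^ p ^ (n + 1) ∈ St := by rw [hα]; exact St.one_mem
  have h3 : α ^ (Nat.gcd a (p ^ (n + 1))) ∈ St := by
    have e := Nat.gcd_eq_gcd_ab a (p ^ (n + 1))
    have e2 : α ^ (Nat.gcd a (p ^ (n + 1))) =
        (α ^ a) ^ (Nat.gcdA a (p ^ (n + 1))) * (α ^ p ^ (n + 1)) ^ (Nat.gcdB a (p ^ (n + 1))) := by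
      rw [← zpow_natCast, e, zpow_add, zpow_mul, zpow_mul, zpow_natCast, zpow_natCast]
    rw [e2]
    exact St.mul_mem (St.zpow_mem h1 _) (St.zpow_mem h2 _)
  obtain ⟨s, hs, hgs⟩ := (Nat.dvd_prime_pow hp).1 (Nat.gcd_dvd_right a (p ^ (n + 1)))
  have hsn : s ≤ n := by
    by_contra hcon
    have : s = n + 1 := by omega
    rw [this] at hgs
    have h4 : p ^ (n + 1) ∣ a := by
      rw [← hgs]
      exact Nat.gcd_dvd_left _ _
    have := Nat.le_of_dvd ha0 h4
    omega
  rw [hgs] at h3
  have h5 : α ^ p ^ n = (α ^ p ^ s) ^ p ^ (n - s) := by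
    rw [← pow_mul, ← pow_add]
    congr 2
    omega
  have h6 : α ^ p ^ n ∈ St := by
    rw [h5]
    exact St.pow_mem h3 _
  exact h6

/-- the non-commutative norm -/
def nrm (α : MulAut P) (n : ℕ) (g : P) : P := ((List.range n).map (fun i => (α ^ i) g)).prod

@[simp] theorem nrm_zero (α : MulAut P) (g : P) : nrm α 0 g = 1 := by simp [nrm]

theorem nrm_succ (α : MulAut P) (n : ℕ) (g : P) : nrm α (n + 1) g = nrm α n g * (α ^ n) g := by
  simp [nrm, List.range_succ]

theorem nrm_add (α : MulAut P) (s a : ℕ) (g : P) :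
    nrm α (s + a) g = nrm α s g * (α ^ s) (nrm α a g) := by
  induction a with
  | zero => simp
  | succ a ih =>
    rw [← add_assoc, nrm_succ, ih, nrm_succ, map_mul, mul_assoc]
    congr 2
    rw [pow_add, MulAut.mul_apply]

theorem nrm_succ' (α : MulAut P) (n : ℕ) (g : P) : nrm α (n + 1) g = g * α (nrm α n g) := by
  have := nrm_add α 1 n g
  rw [add_comm] at this
  rw [this]
  simp [nrm]

theorem apply_nrm (α : MulAut P) (n : ℕ) (g : P) : α (nrm α n g) = g⁻¹ * nrm α n g * (α ^ n) g := by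
  have h1 := nrm_succ α n g
  have h2 := nrm_succ' α n g
  rw [h1] at h2
  calc α (nrm α n g) = g⁻¹ * (g * α (nrm α n g)) := by group
    _ = g⁻¹ * (nrm α n g * (α ^ n) g) := by rw [h2]
    _ = g⁻¹ * nrm α n g * (α ^ n) g := by group

theorem nrm_mul (α : MulAut P) (a b : ℕ) (g : P) :
    nrm α (a * b) g = nrm (α ^ a) b (nrm α a g) := by
  induction b with
  | zero => simp
  | succ b ih =>
    rw [Nat.mul_succ, nrm_add, ih, nrm_succ, ← pow_mul]

theorem map_nrm {M : Type*} [Monoid M] (f : P →* M) (α : MulAut P) (n : ℕ) (g : P) :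
    f (nrm α n g) = ((List.range n).map (fun i => f ((α ^ i) g))).prod := by
  rw [nrm, map_list_prod, List.map_map]
  rfl

/-- a central element fixed by `α ^ n` has an `α`-fixed norm -/
theorem apply_nrm_of_central (α : MulAut P) (n : ℕ) (g : P) (hg : g ∈ Subgroup.center P)
    (hn : (α ^ n) g = g) : α (nrm α n g) = nrm α n g := by
  rw [apply_nrm, hn]
  have := (Subgroup.mem_center_iff.1 hg) (nrm α n g)
  calc g⁻¹ * nrm α n g * g = g⁻¹ * (nrm α n g * g) := by group
    _ = g⁻¹ * (g * nrm α n g) := by rw [this]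
    _ = nrm α n g := by group

end Cfsg.Agent.Lib.Helper64_ShultGrp
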