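import Mathlib
import Cfsg.Agent.Lib.Helper71_ESLinear
import Cfsg.Agent.Lib.Helper71_HHRep
import Cfsg.Agent.Lib.Helper64_ShultES
import Cfsg.Agent.Lib.Helper64_ShultArith
import Cfsg.Agent.Lib.Helper64_ShultGrp

/-!
# The exceptional configuration has a fixed point in the group (helper64)

Abstract form of Gross' argument: in the critical configuration of Shult's theorem (a minimal
`q`-group `P` with an automorphism `α` of odd prime power order `p ^ (n+1)`, an irreducible
representation of `P` normalised by an operator `t` inducing `α ^ p ^ k`, without non-zero fixed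
vectors), the automorphism `α` fixes a non-identity element of `P`.
-/

set_option autoImplicit false
set_option linter.unusedSectionVars false
set_option maxHeartbeats 1000000

namespace Cfsg.Agent.Lib.Helper64_ShultExc

open Module Cfsg.Agent.Lib.Helper71_ESLinear Cfsg.Agent.Lib.Helper64_ShultES
  Cfsg.Agent.Lib.Helper64_ShultArith Cfsg.Agent.Lib.Helper64_ShultGrp

open scoped commutatorElement

variable {K : Type*} [Field K] {U : Type*} [AddCommGroup U] [Module K U]
variable {P : Type*} [Group P]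

/-- lifting lemma in the critical configuration -/
theorem mem_of_inv_mul_apply_mem [Finite P] (p q : ℕ) [Fact p.Prime] [Fact q.Prime] (hpq : p ≠ q)
    (hP : IsPGroup q P) (α : MulAut P) (n : ℕ) (hα : α ^ p ^ (n + 1) = 1)
    (hc : ∀ h : P, (α ^ p ^ n) h = h → h ∈ Subgroup.center P)
    (a : ℕ) (ha0 : 0 < a) (ha : a < p ^ (n + 1)) (N : Subgroup P)
    (hN : ∀ g ∈ N, (α ^ a) g ∈ N) (hZN : Subgroup.center P ≤ N) (g : P)
    (hg : g⁻¹ * (α ^ a) g ∈ N) : g ∈ N := by
  have hp : p.Prime := Fact.out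
  have hq : q.Prime := Fact.out
  have hβ : (α ^ a) ^ p ^ (n + 1) = 1 := by
    rw [← pow_mul, mul_comm, pow_mul, hα, one_pow]
  have hNp : ¬ p ∣ Nat.card N := by
    obtain ⟨e, he⟩ := IsPGroup.iff_card.1 (hP.to_subgroup N)
    rw [he]
    intro h
    have := hp.dvd_of_dvd_pow h
    exact hpq ((Nat.prime_dvd_prime_iff_eq hp hq).1 this)
  obtain ⟨n₀, hn₀, hfix⟩ := exists_fixed_mul p (α ^ a) (n + 1) hβ N hNp hN g hg
  have h1 := pow_fixed_of_pow_fixed p α n hα a ha0 ha (g * n₀) hfix
  have h2 := hZN (hc _ h1)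
  have : g = (g * n₀) * n₀⁻¹ := by group
  rw [this]
  exact N.mul_mem h2 (N.inv_mem hn₀)

theorem rho_comm_eq_one_iff (ρ : Representation K P U) (a b : P) :
    ρ ⁅a, b⁆ = 1 ↔ Commute (ρ a) (ρ b) := by
  constructor
  · intro h
    have e : a * b = ⁅a, b⁆ * (b * a) := by
      rw [commutatorElement_def]; group
    show ρ a * ρ b = ρ b * ρ a
    rw [← map_mul, e, map_mul, h, one_mul, map_mul]
  · intro h
    have e : ⁅a, b⁆ = (a * b) * (b * a)⁻¹ := by
      rw [commutatorElement_def]; group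
    have h' : ρ (a * b) = ρ (b * a) := by
      rw [map_mul, map_mul]; exact h
    rw [e, map_mul, h', ← map_mul, mul_inv_cancel, map_one]

theorem exceptional_fixed [IsAlgClosed K] [FiniteDimensional K U] [Finite P]
    (p q : ℕ) [Fact p.Prime] [Fact q.Prime] (hpq : p ≠ q) (hp2 : p ≠ 2)
    (hpK : (p : K) ≠ 0) (hP : IsPGroup q P) (ρ : Representation K P U) (hirr : Irr ρ)
    (α : MulAut P) (n k : ℕ) (hkn : k ≤ n) (hα : α ^ p ^ (n + 1) = 1)
    (t : End K U) (ht : t ^ p ^ (n + 1 - k) = 1) (hσ : ∀ g, t * ρ g = ρ ((α ^ p ^ k) g) * t)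
    (hc : ∀ h : P, (α ^ p ^ n) h = h → h ∈ Subgroup.center P)
    (hT : ∀ T : Subgroup P, (∀ g ∈ T, α g ∈ T) → T ≠ ⊤ → ∀ g ∈ T, (α ^ p ^ n) g = g)
    (hne : ∃ g, g ∉ scSubgroup ρ) (hfix : ∀ u, t u = u → u = 0) :
    ∃ c : P, c ≠ 1 ∧ α c = c := by
  classical
  have hp : p.Prime := Fact.out
  have hq : q.Prime := Fact.out
  obtain ⟨g₀, hg₀⟩ := hne
  have hnt : Nontrivial U := by
    by_contra hU
    rw [not_nontrivial_iff_subsingleton] at hU
    apply hg₀
    refine ⟨0, ?_⟩
    ext u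
    exact Subsingleton.elim _ _
  obtain ⟨m, hm⟩ : ∃ m, m = n + 1 - k := ⟨_, rfl⟩
  have hm1 : 1 ≤ m := by omega
  have hmk : m + k = n + 1 := by omega
  rw [← hm] at ht
  obtain ⟨σ, hσdef⟩ : ∃ σ : MulAut P, σ = α ^ p ^ k := ⟨_, rfl⟩
  rw [← hσdef] at hσ
  obtain ⟨r, hr⟩ : ∃ r, r = p ^ m := ⟨_, rfl⟩
  have hr0 : 0 < r := by rw [hr]; exact pow_pos hp.pos m
  have hrK : ((p ^ m : ℕ) : K) ≠ 0 := by
    rw [Nat.cast_pow]
    exact pow_ne_zero _ hpK
  have ht' : t ^ r = 1 := by rw [hr]; exact ht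
  set Y := scSubgroup ρ with hY
  -- centre acts by scalars
  have hZY : Subgroup.center P ≤ Y := by
    intro z hz
    apply Cfsg.Agent.Lib.Helper71_HHRep.isSc_of_commute hirr
    intro g
    rw [← map_mul, ← map_mul, (Subgroup.mem_center_iff.1 hz) g]
  -- `P` is nontrivial and solvable
  have hPnt : Nontrivial P := by
    refine ⟨⟨g₀, 1, ?_⟩⟩
    intro h
    apply hg₀
    rw [h]
    exact Y.one_mem
  have hnil : Group.IsNilpotent P := hP.isNilpotent
  -- commutators are central
  have hcomm : ∀ g h : P, ⁅g, h⁆ ∈ Subgroup.center P := by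
    intro g h
    apply hc
    apply hT (commutator P)
    · intro c hcm
      have hchar : (commutator P).Characteristic := inferInstance
      have := (Subgroup.characteristic_iff_map_eq.1 hchar) α
      rw [← this]
      exact ⟨c, hcm, rfl⟩
    · exact (Group.IsSolvable.commutator_lt_top_of_nontrivial P).ne
    · exact Subgroup.commutator_mem_commutator (Subgroup.mem_top g) (Subgroup.mem_top h)
  -- extraspecial type
  have hES : ESRep ρ := by
    constructor
    · intro g h
      obtain ⟨c, hcz⟩ := hZY (hcomm g h)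
      refine ⟨c, ?_⟩
      have e : g * h = ⁅g, h⁆ * (h * g) := by
        rw [commutatorElement_def]; group
      rw [← map_mul, e, map_mul, hcz, map_mul]
      simp
    · intro g hg
      apply Cfsg.Agent.Lib.Helper71_HHRep.isSc_of_commute hirr
      intro h
      exact (hg h).eq
  -- `Y` is invariant under `σ`
  have hYσ : ∀ g ∈ Y, σ g ∈ Y := fun g hg => sigma_mem_sc σ hr0 ht' hσ g hg
  -- semiregularity
  have hsemi : ∀ j, 0 < j → j < p ^ m → ∀ g, (σ ^ j) g * g⁻¹ ∈ Y → g ∈ Y := by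
    intro j hj0 hj g hg
    have e1 : σ ^ j = α ^ (p ^ k * j) := by rw [hσdef, ← pow_mul]
    have ha0 : 0 < p ^ k * j := Nat.mul_pos (pow_pos hp.pos k) hj0
    have ha : p ^ k * j < p ^ (n + 1) := by
      rw [← hmk, add_comm, pow_add]
      exact Nat.mul_lt_mul_of_pos_left hj (pow_pos hp.pos k)
    apply mem_of_inv_mul_apply_mem p q hpq hP α n hα hc (p ^ k * j) ha0 ha Y _ hZY g
    · rw [← e1]
      have := (scSubgroup_normal ρ).conj_mem _ hg g⁻¹
      simpa [mul_assoc] using this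
    · rw [← e1]
      exact pow_apply_mem σ Y hYσ j
  have hdim := finrank_succ_eq_pp σ hES hirr hp hp2 hm1 hrK ht hσ hsemi ⟨g₀, hg₀⟩ hfix
  have hN := hES.card_quot hirr
  obtain ⟨d, hd⟩ : ∃ d, d = finrank K U := ⟨_, rfl⟩
  rw [← hd] at hdim hN
  have hd' : d = p ^ m - 1 := by omega
  -- the product map
  let f : P →* (Fin (p ^ k) → P ⧸ Y) :=
    MonoidHom.pi fun i => (QuotientGroup.mk' Y).comp ((α ^ (i : ℕ)).toMonoidHom)
  have hfapp : ∀ (g : P) (i : Fin (p ^ k)), f g i = (((α ^ (i : ℕ)) g : P) : P ⧸ Y) := fun _ _ => rfl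
  have hmemT : ∀ g : P, g ∈ f.ker ↔ ∀ i : Fin (p ^ k), (α ^ (i : ℕ)) g ∈ Y := by
    intro g
    rw [MonoidHom.mem_ker]
    constructor
    · intro h i
      have := congrFun h i
      rw [hfapp] at this
      exact (QuotientGroup.eq_one_iff _).1 this
    · intro h
      funext i
      rw [hfapp]
      exact (QuotientGroup.eq_one_iff _).2 (h i)
  have hpk0 : 0 < p ^ k := pow_pos hp.pos k
  let i0 : Fin (p ^ k) := ⟨0, hpk0⟩
  have hTY : f.ker ≤ Y := by
    intro g hg
    have := (hmemT g).1 hg i0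
    simpa [i0] using this
  have hTne : f.ker ≠ ⊤ := by
    intro h
    apply hg₀
    apply hTY
    rw [h]
    trivial
  have hTinv : ∀ g ∈ f.ker, α g ∈ f.ker := by
    intro g hg
    rw [hmemT] at hg ⊢
    intro i
    have e : (α ^ (i : ℕ)) (α g) = (α ^ ((i : ℕ) + 1)) g := by
      rw [pow_succ, MulAut.mul_apply]
    rw [e]
    by_cases hi : (i : ℕ) + 1 < p ^ k
    · exact hg ⟨(i : ℕ) + 1, hi⟩
    · have hi' : (i : ℕ) + 1 = p ^ k := by
        have := i.2
        omega
      rw [hi', ← hσdef]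
      apply hYσ
      have := hg i0
      simpa [i0] using this
  have hTc : f.ker ≤ Subgroup.center P := by
    intro g hg
    exact hc g (hT f.ker hTinv hTne g hg)
  -- indices
  have hcardcod : Nat.card (Fin (p ^ k) → P ⧸ Y) = (d ^ 2) ^ (p ^ k) := by
    rw [Nat.card_fun, hN, Nat.card_eq_fintype_card, Fintype.card_fin]
  have hTidx : f.ker.index = Nat.card f.range := Subgroup.index_ker f
  have hTle : f.ker.index ≤ (d ^ 2) ^ (p ^ k) := by
    rw [hTidx, ← hcardcod]
    exact Subgroup.card_le_card_group f.range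
  have hCdvd : (Subgroup.center P).index ∣ f.ker.index := Subgroup.index_dvd_of_le hTc
  have hTpos : 0 < f.ker.index := Nat.pos_of_ne_zero Subgroup.FiniteIndex.index_ne_zero
  have hCle : (Subgroup.center P).index ≤ f.ker.index := Nat.le_of_dvd hTpos hCdvd
  obtain ⟨e, he⟩ := hP.index (Subgroup.center P)
  obtain ⟨a, ha⟩ := hP.index Y
  have hYidx : Y.index = d ^ 2 := by
    rw [Subgroup.index_eq_card, hN]
  have hcne : Subgroup.center P ≠ ⊤ := by
    intro h
    apply hg₀
    apply hZY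
    rw [h]
    trivial
  have he1 : 1 ≤ e := by
    rcases Nat.eq_zero_or_pos e with h0 | h0
    · exfalso
      rw [h0, pow_zero] at he
      exact hcne (Subgroup.index_eq_one.1 he)
    · exact h0
  -- congruence
  have hchar : (Subgroup.center P).map (α : P ≃* P).toMonoidHom = Subgroup.center P := by
    have hch : (Subgroup.center P).Characteristic := inferInstance
    exact (Subgroup.characteristic_iff_map_eq.1 hch) α
  let τ : MulAut (P ⧸ Subgroup.center P) :=
    QuotientGroup.congr (Subgroup.center P) (Subgroup.center P) α hchar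
  have hτmk : ∀ g : P, τ (g : P ⧸ Subgroup.center P) = ((α g : P) : P ⧸ Subgroup.center P) :=
    fun _ => rfl
  have hτpow : ∀ (j : ℕ) (g : P), (τ ^ j) (g : P ⧸ Subgroup.center P) =
      (((α ^ j) g : P) : P ⧸ Subgroup.center P) := by
    intro j
    induction j with
    | zero => intro g; simp
    | succ j ih =>
      intro g
      rw [pow_succ', MulAut.mul_apply, ih, hτmk, pow_succ' α, MulAut.mul_apply]
  have hτr : τ ^ p ^ (n + 1) = 1 := by
    ext s
    obtain ⟨g, rfl⟩ := QuotientGroup.mk_surjective s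
    rw [hτpow, hα]
    rfl
  have hτfix : ∀ j, 0 < j → j < p ^ (n + 1) → ∀ s, (τ ^ j) s = s → s = 1 := by
    intro j hj0 hj s hs
    obtain ⟨g, rfl⟩ := QuotientGroup.mk_surjective s
    rw [hτpow, eq_comm, QuotientGroup.eq] at hs
    rw [QuotientGroup.eq_one_iff]
    apply mem_of_inv_mul_apply_mem p q hpq hP α n hα hc j hj0 hj (Subgroup.center P) _ le_rfl g hs
    intro z hz
    have hch : (Subgroup.center P).Characteristic := inferInstance
    have := (Subgroup.characteristic_iff_map_eq.1 hch) (α ^ j)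
    rw [← this]
    exact ⟨z, hz, rfl⟩
  have hSne : ∃ s : P ⧸ Subgroup.center P, s ≠ 1 := by
    by_contra hcon
    push Not at hcon
    apply hcne
    rw [eq_top_iff]
    intro g _
    exact (QuotientGroup.eq_one_iff g).1 (hcon g)
  have hdvd := dvd_card_sub_one_of_semiregular τ (p ^ (n + 1)) (pow_pos hp.pos _) hτr hτfix hSne
  rw [← Subgroup.index_eq_card, he, ← hmk] at hdvd
  -- arithmetic
  have hD : (p ^ m - 1) ^ 2 = q ^ a := by
    rw [← hd', ← hYidx, ha]
  have hle : q ^ e ≤ (p ^ m - 1) ^ (2 * p ^ k) := by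
    rw [← he, ← hd', pow_mul]
    exact hCle.trans hTle
  have harith := arith_main p q hp hp2 hq m k e a hm1 hD he1 hle hdvd
  have hTeq : f.ker.index = (d ^ 2) ^ (p ^ k) := by
    apply le_antisymm hTle
    rw [← pow_mul, hd', ← harith, ← he]
    exact hCle
  have hsurj : Function.Surjective f := by
    rw [← MonoidHom.range_eq_top, ← Subgroup.card_eq_iff_eq_top, ← hTidx, hTeq, hcardcod]
  -- the elements
  obtain ⟨h₀, hh₀⟩ : ∃ h₀ : P, ¬ Commute (ρ g₀) (ρ h₀) := by
    by_contra hcon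
    push Not at hcon
    exact hg₀ (hES.nondeg g₀ hcon)
  obtain ⟨ea, hea⟩ := hsurj (Pi.mulSingle i0 ((g₀ : P) : P ⧸ Y))
  obtain ⟨eb, heb⟩ := hsurj (Pi.mulSingle i0 ((h₀ : P) : P ⧸ Y))
  have hea0 : ea⁻¹ * g₀ ∈ Y := by
    have := congrFun hea i0
    rw [hfapp, Pi.mulSingle_eq_same] at this
    simp only [i0, pow_zero, MulAut.one_apply] at this
    exact QuotientGroup.eq.1 this
  have heb0 : eb⁻¹ * h₀ ∈ Y := by
    have := congrFun heb i0
    rw [hfapp, Pi.mulSingle_eq_same] at this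
    simp only [i0, pow_zero, MulAut.one_apply] at this
    exact QuotientGroup.eq.1 this
  have heai : ∀ i, 0 < i → i < p ^ k → (α ^ i) ea ∈ Y := by
    intro i hi0 hi
    have := congrFun hea ⟨i, hi⟩
    rw [hfapp, Pi.mulSingle_eq_of_ne] at this
    · exact (QuotientGroup.eq_one_iff _).1 this
    · intro h
      have := congrArg Fin.val h
      simp [i0] at this
      omega
  have hebi : ∀ i, 0 < i → i < p ^ k → (α ^ i) eb ∈ Y := by
    intro i hi0 hi
    have := congrFun heb ⟨i, hi⟩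
    rw [hfapp, Pi.mulSingle_eq_of_ne] at this
    · exact (QuotientGroup.eq_one_iff _).1 this
    · intro h
      have := congrArg Fin.val h
      simp [i0] at this
      omega
  have hnc : ¬ Commute (ρ ea) (ρ eb) := by
    intro hcm
    apply hh₀
    have e1 : ρ g₀ = ρ ea * ρ (ea⁻¹ * g₀) := by rw [← map_mul]; congr 1; group
    have e2 : ρ h₀ = ρ eb * ρ (eb⁻¹ * h₀) := by rw [← map_mul]; congr 1; group
    have s1 : IsSc (ρ (ea⁻¹ * g₀)) := hea0
    have s2 : IsSc (ρ (eb⁻¹ * h₀)) := heb0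
    rw [e1, e2]
    apply Commute.mul_left
    · apply Commute.mul_right hcm
      exact (s2.commute _).symm
    · exact s1.commute _
  obtain ⟨c, hcdef⟩ : ∃ c : P, c = ⁅ea, eb⁆ := ⟨_, rfl⟩
  have hcz : c ∈ Subgroup.center P := by rw [hcdef]; exact hcomm ea eb
  have hρc1 : ρ c ≠ 1 := by
    intro h
    apply hnc
    rw [hcdef] at h
    exact (rho_comm_eq_one_iff ρ ea eb).1 h
  obtain ⟨ω, hω⟩ : IsSc (ρ c) := hZY hcz
  have hω1 : ω ≠ 1 := by
    intro h
    apply hρc1
    rw [hω, h, one_smul]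
  have hρci : ∀ i, 0 < i → i < p ^ k → ρ ((α ^ i) c) = 1 := by
    intro i hi0 hi
    rw [hcdef, map_commutatorElement]
    apply (rho_comm_eq_one_iff ρ _ _).2
    exact (IsSc.commute (heai i hi0 hi) _)
  -- first norm
  have hρc1' : ∀ i, 1 ≤ i → i ≤ p ^ k → ρ (nrm α i c) = ρ c := by
    intro i hi1
    induction i, hi1 using Nat.le_induction with
    | base =>
      intro _
      rw [nrm_succ, nrm_zero, one_mul, pow_zero, MulAut.one_apply]
    | succ i hi1 ih =>
      intro hi
      rw [nrm_succ, map_mul, ih (by omega), hρci i (by omega) (by omega), mul_one]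
  obtain ⟨c₁, hc₁⟩ : ∃ c₁, c₁ = nrm α (p ^ k) c := ⟨_, rfl⟩
  have hρc₁ : ρ c₁ = ω • 1 := by
    rw [hc₁, hρc1' (p ^ k) hpk0 le_rfl, hω]
  -- second norm
  have hρσ : ∀ l : ℕ, ρ ((σ ^ l) c₁) = ω • 1 := by
    intro l
    rw [rho_sigma_pow σ hr0 ht' hσ l c₁, hρc₁]
    simp only [Algebra.mul_smul_comm, mul_one, Algebra.smul_mul_assoc]
    congr 1
    rw [← pow_mul, ← pow_add]
    have : l + (r - 1) * l = r * l := by
      have : r = (r - 1) + 1 := by omega
      nlinarith
    rw [this, pow_mul, ht', one_pow]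
  have hρc₂ : ∀ l : ℕ, ρ (nrm σ l c₁) = (ω ^ l) • 1 := by
    intro l
    induction l with
    | zero => simp
    | succ l ih =>
      rw [nrm_succ, map_mul, ih, hρσ, pow_succ]
      simp [smul_smul, mul_comm]
  obtain ⟨c₂, hc₂⟩ : ∃ c₂, c₂ = nrm α (p ^ (n + 1)) c := ⟨_, rfl⟩
  have hc₂' : c₂ = nrm σ (p ^ m) c₁ := by
    rw [hc₂, hc₁, hσdef, ← nrm_mul, ← pow_add, add_comm k m, hmk]
  have hωpow : ω ^ p ^ m ≠ 1 := by
    intro h
    apply hω1
    obtain ⟨s, hs⟩ := IsPGroup.iff_card.1 hP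
    have h1 : ω ^ (q ^ s) = 1 := by
      have h2 : c ^ (q ^ s) = 1 := by rw [← hs]; exact pow_card_eq_one'
      have h3 : ρ c ^ (q ^ s) = 1 := by rw [← map_pow, h2, map_one]
      rw [hω, smul_pow, one_pow] at h3
      have h4 : (ω ^ q ^ s - 1) • (1 : End K U) = 0 := by
        rw [sub_smul, h3, one_smul, sub_self]
      rcases smul_eq_zero.1 h4 with h5 | h5
      · exact sub_eq_zero.1 h5
      · exact absurd h5 one_ne_zero
    have hcop : Nat.Coprime (p ^ m) (q ^ s) := by
      apply Nat.Coprime.pow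
      exact (Nat.coprime_primes hp hq).2 hpq
    have := pow_gcd_eq_one.2 ⟨h, h1⟩
    rw [hcop.gcd_eq_one, pow_one] at this
    exact this
  refine ⟨c₂, ?_, ?_⟩
  · intro h
    apply hωpow
    have h1 := hρc₂ (p ^ m)
    rw [← hc₂', h, map_one] at h1
    have h4 : (ω ^ p ^ m - 1) • (1 : End K U) = 0 := by
      rw [sub_smul, ← h1, one_smul, sub_self]
    rcases smul_eq_zero.1 h4 with h5 | h5
    · exact sub_eq_zero.1 h5
    · exact absurd h5 one_ne_zero
  · rw [hc₂]
    apply apply_nrm_of_central α _ c hcz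
    rw [hα, MulAut.one_apply]

end Cfsg.Agent.Lib.Helper64_ShultExc
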