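import Mathlib
import Cfsg.Agent.Lib.Helper71_HHBTwist

/-!
# Equivariantly isomorphic simple subspaces lie in the same isotypic component (helper64)
-/

set_option autoImplicit false

namespace Cfsg.Agent.Lib.Helper64_ShultIso
open Cfsg.Agent.Lib.Helper71_HHBTwist
open scoped MonoidAlgebra

variable {K : Type*} [Field K] {Q : Type*} [Group Q] {V : Type*} [AddCommGroup V] [Module K V]

theorem linearEquiv_of_equivIso {ρ : Representation K Q V} {U U' : Submodule K V}
    (hU : ∀ g, ∀ u ∈ U, ρ g u ∈ U) (hU' : ∀ g, ∀ u ∈ U', ρ g u ∈ U') (h : EquivIso ρ U U') :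
    Nonempty ((ofInv ρ U hU) ≃ₗ[K[Q]] (ofInv ρ U' hU')) := by
  obtain ⟨e, he⟩ := h
  let toOf : U → ofInv ρ U hU := fun u => ⟨ρ.asModuleEquiv.symm u.1, u.2⟩
  let toOf' : U' → ofInv ρ U' hU' := fun u => ⟨ρ.asModuleEquiv.symm u.1, u.2⟩
  let fromOf : ofInv ρ U hU → U := fun m => ⟨ρ.asModuleEquiv m.1, m.2⟩
  let fromOf' : ofInv ρ U' hU' → U' := fun m => ⟨ρ.asModuleEquiv m.1, m.2⟩
  let E : ofInv ρ U hU → ofInv ρ U' hU' := fun m => toOf' (e (fromOf m))
  have hEadd : ∀ a b, E (a + b) = E a + E b := by
    intro a b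
    have : fromOf (a + b) = fromOf a + fromOf b := rfl
    show toOf' (e (fromOf (a + b))) = _
    rw [this, map_add]
    rfl
  have hEsingle : ∀ (g : Q) (a : K) (m : ofInv ρ U hU),
      E (MonoidAlgebra.single g a • m) = MonoidAlgebra.single g a • E m := by
    intro g a m
    apply Subtype.ext
    show ρ.asModuleEquiv.symm ((e (fromOf (MonoidAlgebra.single g a • m)) : U') : V) =
      MonoidAlgebra.single g a • ρ.asModuleEquiv.symm ((e (fromOf m) : U') : V)
    rw [Representation.single_smul]
    have h1 : ((fromOf (MonoidAlgebra.single g a • m) : U) : V) = a • ρ g ((fromOf m : U) : V) := by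
      show ρ.asModuleEquiv ((MonoidAlgebra.single g a • m : ofInv ρ U hU) : ρ.asModule) = _
      rw [Submodule.coe_smul, Representation.single_smul]
      rfl
    have h2 : fromOf (MonoidAlgebra.single g a • m) = a • (⟨ρ g (fromOf m : U), hU g _ (fromOf m).2⟩ : U) :=
      Subtype.ext h1
    rw [h2, map_smul]
    have h3 := he g (fromOf m) ⟨ρ g (fromOf m : U), hU g _ (fromOf m).2⟩ rfl
    rw [Submodule.coe_smul, h3]
    rfl
  have hEsmul : ∀ (r : K[Q]) (m : ofInv ρ U hU), E (r • m) = r • E m := by
    intro r m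
    induction r using MonoidAlgebra.induction_linear with
    | zero =>
      rw [zero_smul, zero_smul]
      show toOf' (e (fromOf 0)) = 0
      have : fromOf 0 = 0 := rfl
      rw [this, map_zero]
      rfl
    | add a b ha hb => rw [add_smul, add_smul, hEadd, ha, hb]
    | single g a => exact hEsingle g a m
  let E' : ofInv ρ U' hU' → ofInv ρ U hU := fun m => toOf (e.symm (fromOf' m))
  refine ⟨{ toFun := E
            map_add' := hEadd
            map_smul' := hEsmul
            invFun := E'
            left_inv := ?_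
            right_inv := ?_ }⟩
  · intro m
    show toOf (e.symm (fromOf' (toOf' (e (fromOf m))))) = m
    have : fromOf' (toOf' (e (fromOf m))) = e (fromOf m) := by
      apply Subtype.ext
      show ρ.asModuleEquiv (ρ.asModuleEquiv.symm ((e (fromOf m) : U') : V)) = _
      rw [LinearEquiv.apply_symm_apply]
    rw [this, LinearEquiv.symm_apply_apply]
    apply Subtype.ext
    show ρ.asModuleEquiv.symm (ρ.asModuleEquiv m.1) = m.1
    rw [LinearEquiv.symm_apply_apply]
  · intro m
    show toOf' (e (fromOf (toOf (e.symm (fromOf' m))))) = m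
    have : fromOf (toOf (e.symm (fromOf' m))) = e.symm (fromOf' m) := by
      apply Subtype.ext
      show ρ.asModuleEquiv (ρ.asModuleEquiv.symm ((e.symm (fromOf' m) : U) : V)) = _
      rw [LinearEquiv.apply_symm_apply]
    rw [this, LinearEquiv.apply_symm_apply]
    apply Subtype.ext
    show ρ.asModuleEquiv.symm (ρ.asModuleEquiv m.1) = m.1
    rw [LinearEquiv.symm_apply_apply]

/-- a simple invariant subspace equivariantly isomorphic to one inside an isotypic component lies
in that isotypic component -/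
theorem le_of_equivIso {ρ : Representation K Q V} {W U U' : Submodule K V}
    (hW : IsIsoComp ρ W) (hU : IsSimpleInv ρ U) (hU' : IsSimpleInv ρ U') (hUW : U ≤ W)
    (h : EquivIso ρ U U') : U' ≤ W := by
  obtain ⟨c, hc, rfl⟩ := hW
  have h1 := isSimpleModule_ofInv hU
  have h2 := isSimpleModule_ofInv hU'
  have hle : ofInv ρ U hU.1 ≤ c := hUW
  have hc1 : c = isotypicComponent K[Q] ρ.asModule (ofInv ρ U hU.1) :=
    eq_isotypicComponent_of_le hc hle
  obtain ⟨e⟩ := linearEquiv_of_equivIso hU.1 hU'.1 h
  have hc2 : isotypicComponent K[Q] ρ.asModule (ofInv ρ U hU.1) =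
      isotypicComponent K[Q] ρ.asModule (ofInv ρ U' hU'.1) := e.isotypicComponent_eq
  have h3 : ofInv ρ U' hU'.1 ≤ c := by
    rw [hc1, hc2]
    exact Submodule.le_isotypicComponent _
  exact h3

end Cfsg.Agent.Lib.Helper64_ShultIso
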