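import Mathlib
import Cfsg.Agent.Lib.Helper71_HHB
import Cfsg.Agent.Lib.Helper71_ESLinear
import Cfsg.Agent.Lib.Helper71_HHRep
import Cfsg.Agent.Lib.Helper64_ShultIso
import Cfsg.Agent.Lib.Helper64_ShultES
import Cfsg.Agent.Lib.Helper64_ShultArith
import Cfsg.Agent.Lib.Helper64_ShultGrp
import Cfsg.Agent.Lib.Helper64_ShultExc
import Cfsg.Agent.Lib.Helper64_ShultCore

/-!
# Shult's linear core for `q` odd, without the escape clause (helper88, T1 of helper71's S4305 plan)

Copy of helper64's `Helper64_ShultCore.shult_core` / `Helper64_ShultExc.exceptional_fixed`: in the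
exceptional configuration `finrank + 1 = p ^ m` and `finrank ^ 2 = |P/Y|` is a power of the odd
prime `q`, so `p ^ m` is even, contradicting `p ≠ 2`.
-/

set_option autoImplicit false
set_option linter.unusedSectionVars false
set_option maxHeartbeats 1000000

namespace Cfsg.Agent.Lib.Helper88_S3Odd

section Exc

open Module Cfsg.Agent.Lib.Helper71_ESLinear Cfsg.Agent.Lib.Helper64_ShultES
  Cfsg.Agent.Lib.Helper64_ShultArith Cfsg.Agent.Lib.Helper64_ShultGrp
  Cfsg.Agent.Lib.Helper64_ShultExc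

open scoped commutatorElement

variable {K : Type*} [Field K] {U : Type*} [AddCommGroup U] [Module K U]
variable {P : Type*} [Group P]

theorem exceptional_contra [IsAlgClosed K] [FiniteDimensional K U] [Finite P]
    (p q : ℕ) [Fact p.Prime] [Fact q.Prime] (hpq : p ≠ q) (hp2 : p ≠ 2) (hq2 : q ≠ 2)
    (hpK : (p : K) ≠ 0) (hP : IsPGroup q P) (ρ : Representation K P U) (hirr : Irr ρ)
    (α : MulAut P) (n k : ℕ) (hkn : k ≤ n) (hα : α ^ p ^ (n + 1) = 1)
    (t : End K U) (ht : t ^ p ^ (n + 1 - k) = 1) (hσ : ∀ g, t * ρ g = ρ ((α ^ p ^ k) g) * t)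
    (hc : ∀ h : P, (α ^ p ^ n) h = h → h ∈ Subgroup.center P)
    (hT : ∀ T : Subgroup P, (∀ g ∈ T, α g ∈ T) → T ≠ ⊤ → ∀ g ∈ T, (α ^ p ^ n) g = g)
    (hne : ∃ g, g ∉ scSubgroup ρ) (hfix : ∀ u, t u = u → u = 0) :
    False := by
  classical
  have hp : p.Prime := Fact.out
  have hq : q.Prime := Fact.out
  obtain ⟨g₀, hg₀⟩ := hne
  have hnt : Nontrivial U := by
    by_contra hU
    rw [not_nontrivial_iff_subsingleton] at hU
    apply hg₀
    refine ⟨0, ?_⟩
    ext u
    exact Subsingleton.elim _ _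
  obtain ⟨m, hm⟩ : ∃ m, m = n + 1 - k := ⟨_, rfl⟩
  have hm1 : 1 ≤ m := by omega
  have hmk : m + k = n + 1 := by omega
  rw [← hm] at ht
  obtain ⟨σ, hσdef⟩ : ∃ σ : MulAut P, σ = α ^ p ^ k := ⟨_, rfl⟩
  rw [← hσdef] at hσ
  obtain ⟨r, hr⟩ : ∃ r, r = p ^ m := ⟨_, rfl⟩
  have hr0 : 0 < r := by rw [hr]; exact pow_pos hp.pos m
  have hrK : ((p ^ m : ℕ) : K) ≠ 0 := by
    rw [Nat.cast_pow]
    exact pow_ne_zero _ hpK
  have ht' : t ^ r = 1 := by rw [hr]; exact ht
  set Y := scSubgroup ρ with hY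
  -- centre acts by scalars
  have hZY : Subgroup.center P ≤ Y := by
    intro z hz
    apply Cfsg.Agent.Lib.Helper71_HHRep.isSc_of_commute hirr
    intro g
    rw [← map_mul, ← map_mul, (Subgroup.mem_center_iff.1 hz) g]
  -- `P` is nontrivial and solvable
  have hPnt : Nontrivial P := by
    refine ⟨⟨g₀, 1, ?_⟩⟩
    intro h
    apply hg₀
    rw [h]
    exact Y.one_mem
  have hnil : Group.IsNilpotent P := hP.isNilpotent
  -- commutators are central
  have hcomm : ∀ g h : P, ⁅g, h⁆ ∈ Subgroup.center P := by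
    intro g h
    apply hc
    apply hT (commutator P)
    · intro c hcm
      have hchar : (commutator P).Characteristic := inferInstance
      have := (Subgroup.characteristic_iff_map_eq.1 hchar) α
      rw [← this]
      exact ⟨c, hcm, rfl⟩
    · exact (Group.IsSolvable.commutator_lt_top_of_nontrivial P).ne
    · exact Subgroup.commutator_mem_commutator (Subgroup.mem_top g) (Subgroup.mem_top h)
  -- extraspecial type
  have hES : ESRep ρ := by
    constructor
    · intro g h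
      obtain ⟨c, hcz⟩ := hZY (hcomm g h)
      refine ⟨c, ?_⟩
      have e : g * h = ⁅g, h⁆ * (h * g) := by
        rw [commutatorElement_def]; group
      rw [← map_mul, e, map_mul, hcz, map_mul]
      simp
    · intro g hg
      apply Cfsg.Agent.Lib.Helper71_HHRep.isSc_of_commute hirr
      intro h
      exact (hg h).eq
  -- `Y` is invariant under `σ`
  have hYσ : ∀ g ∈ Y, σ g ∈ Y := fun g hg => sigma_mem_sc σ hr0 ht' hσ g hg
  -- semiregularity
  have hsemi : ∀ j, 0 < j → j < p ^ m → ∀ g, (σ ^ j) g * g⁻¹ ∈ Y → g ∈ Y := by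
    intro j hj0 hj g hg
    have e1 : σ ^ j = α ^ (p ^ k * j) := by rw [hσdef, ← pow_mul]
    have ha0 : 0 < p ^ k * j := Nat.mul_pos (pow_pos hp.pos k) hj0
    have ha : p ^ k * j < p ^ (n + 1) := by
      rw [← hmk, add_comm, pow_add]
      exact Nat.mul_lt_mul_of_pos_left hj (pow_pos hp.pos k)
    apply mem_of_inv_mul_apply_mem p q hpq hP α n hα hc (p ^ k * j) ha0 ha Y _ hZY g
    · rw [← e1]
      have := (scSubgroup_normal ρ).conj_mem _ hg g⁻¹
      simpa [mul_assoc] using this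
    · rw [← e1]
      exact pow_apply_mem σ Y hYσ j
  have hdim := finrank_succ_eq_pp σ hES hirr hp hp2 hm1 hrK ht hσ hsemi ⟨g₀, hg₀⟩ hfix
  have hN := hES.card_quot hirr
  -- parity: `d ^ 2 = q ^ a` is odd, so `p ^ m = d + 1` is even
  obtain ⟨a, ha⟩ := hP.index Y
  have hYidx : Y.index = (finrank K U) ^ 2 := by
    rw [Subgroup.index_eq_card, hN]
  have hqodd : Odd q := hq.odd_of_ne_two hq2
  have hd2odd : Odd ((finrank K U) ^ 2) := by
    rw [← hYidx, ha]
    exact hqodd.pow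
  have hdodd : Odd (finrank K U) := by
    exact Nat.Odd.of_mul_right (by rw [← sq]; exact hd2odd)
  have hpm_even : Even (p ^ m) := by
    rw [← hdim]
    exact hdodd.add_one
  have hpeven : Even p := (Nat.even_pow.1 hpm_even).1
  exact hp2 ((Nat.Prime.even_iff hp).1 hpeven)

end Exc

section Core

open Cfsg.Agent.Lib.Helper71_HHBTwist Cfsg.Agent.Lib.Helper71_HHBGroup
  Cfsg.Agent.Lib.Helper71_HHBInd Cfsg.Agent.Lib.Helper71_HHBEigen Cfsg.Agent.Lib.Helper71_HHBCrit
  Cfsg.Agent.Lib.Helper71_HHB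

/-- T1 of helper71's plan for S4305 (statement verbatim from `pending/helper71/S3/T1.lean.txt`):
`shult_core` for `q` odd, without the escape clause. -/
theorem shult_core_odd {K : Type*} [Field K] {V : Type*} [AddCommGroup V] [Module K V]
    [IsAlgClosed K] [FiniteDimensional K V] (p q : ℕ) [Fact p.Prime]
    [Fact q.Prime] (hpq : p ≠ q) (hp2 : p ≠ 2) (hq2 : q ≠ 2) (hpK : (p : K) ≠ 0) (hqK : (q : K) ≠ 0)
    (n : ℕ) (x : V ≃ₗ[K] V) (hx : x ^ p ^ (n + 1) = 1) (Q : Subgroup (V ≃ₗ[K] V)) [Finite Q]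
    (hQ : IsPGroup q Q) (hnorm : ∀ g ∈ Q, x * g * x⁻¹ ∈ Q)
    (hy : ∃ g ∈ Q, ¬ Commute (x ^ p ^ n) g) :
    ∃ v : V, v ≠ 0 ∧ x v = v := by
  classical
  have hp : p.Prime := Fact.out
  -- Step A: the minimal subgroup
  obtain ⟨y, hydef⟩ : ∃ y, y = x ^ p ^ n := ⟨_, rfl⟩
  rw [← hydef] at hy
  have hxy : Commute x y := by rw [hydef]; exact (Commute.refl x).pow_right _
  have hyp : y ^ p ^ 1 = 1 := by rw [pow_one, hydef, ← pow_mul, ← pow_succ, hx]
  obtain ⟨Q₁, hQ₁Q, hQ₁x, hQ₁y, hQ₁min⟩ := exists_minimal_moved x y Q hnorm hy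
  have hQ₁fin : Finite Q₁ :=
    Finite.of_injective (Subgroup.inclusion hQ₁Q) (Subgroup.inclusion_injective hQ₁Q)
  have hQ₁p : IsPGroup q Q₁ := hQ.to_le hQ₁Q
  have hQ₁yn : ∀ g ∈ Q₁, y * g * y⁻¹ ∈ Q₁ := by rw [hydef]; exact pow_conj_mem Q₁ x hQ₁x _
  obtain ⟨hgen, hcent⟩ :=
    minimal_moved_props p q hpq x y hxy 1 hyp Q₁ hQ₁p hQ₁x hQ₁yn hQ₁y hQ₁min
  -- Step B: a simple subspace with nontrivial action and its isotypic component
  have hx' := inv_conj_mem_of_finite Q₁ x hQ₁x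
  obtain ⟨ρ₁, hρ₁⟩ : ∃ ρ₁ : Representation K Q₁ V, ρ₁ = tautRep Q₁ := ⟨_, rfl⟩
  have : NeZero (Nat.card Q₁ : K) := ⟨by
    obtain ⟨e, he⟩ := IsPGroup.iff_card.1 hQ₁p
    rw [he, Nat.cast_pow]
    exact pow_ne_zero _ hqK⟩
  have hnt : ∃ (g : Q₁) (v : V), ρ₁ g v ≠ v := by
    obtain ⟨g, hg, hgy⟩ := hQ₁y
    by_contra hcon
    push Not at hcon
    apply hgy
    have : g = 1 := by
      ext v
      have := hcon ⟨g, hg⟩ v
      rw [hρ₁] at this
      exact this
    rw [this]
    exact Commute.one_right y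
  obtain ⟨U₀, hU₀, g₀, u₀, hu₀, hgu₀⟩ := exists_simple_nontrivial ρ₁ hnt
  obtain ⟨W, hW, hU₀W⟩ := exists_isIsoComp hU₀
  -- Step C: the orbit of `W`
  have hcompi : ∀ (i : ℕ) (g : Q₁) (v : V),
      (x ^ i) (ρ₁ g v) = ρ₁ (((conjAut Q₁ x hQ₁x hx') ^ i) g) ((x ^ i) v) := by
    intro i g v
    rw [hρ₁, tautRep_apply, tautRep_apply, conjAut_pow_apply]
    show (x ^ i) ((g : V ≃ₗ[K] V) v) = (x ^ i) ((g : V ≃ₗ[K] V) ((x ^ i)⁻¹ ((x ^ i) v)))
    congr 2
    exact ((x ^ i).symm_apply_apply v).symm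
  have hWi : ∀ i : ℕ, IsIsoComp ρ₁ (W.map ((x ^ i : V ≃ₗ[K] V) : V →ₗ[K] V)) :=
    fun i => hW.map (x ^ i) _ (hcompi i)
  obtain ⟨k, hkn, hkW, hkinj⟩ := orbit_structure p (n + 1) x hx W
  have hind : ∀ v : Fin (p ^ k) → V, (∀ i, v i ∈ W.map ((x : V →ₗ[K] V) ^ i.val)) →
      ∑ i, v i = 0 → ∀ i, v i = 0 := by
    intro v hv hsum i
    refine isIsoComp_indep (ρ := ρ₁)
      (fun i : Fin (p ^ k) => W.map ((x ^ i.val : V ≃ₗ[K] V) : V →ₗ[K] V))
      (fun i => hWi i.val) ?_ v ?_ hsum i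
    · intro i j hij
      exact Fin.ext (hkinj i.val j.val i.2 j.2 hij)
    · intro i
      rw [coe_pow_eq]
      exact hv i
  rcases Nat.lt_or_ge n k with hnk | hkn'
  · -- `k = n + 1`: a free orbit
    have hk : k = n + 1 := by omega
    obtain ⟨w, hw, hw0⟩ := Submodule.exists_mem_ne_zero_of_ne_bot hW.ne_bot
    exact Cfsg.Agent.Lib.Helper64_ShultCore.exists_fixed_of_orbit x (p ^ k) (pow_pos hp.pos k) W hind w hw hw0
      (by rw [hk, hx]; rfl)
  · -- `k ≤ n`
    obtain ⟨ξ, hξ⟩ : ∃ ξ : V ≃ₗ[K] V, ξ = x ^ p ^ k := ⟨_, rfl⟩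
    obtain ⟨α, hα⟩ : ∃ α : MulAut Q₁, α = conjAut Q₁ x hQ₁x hx' := ⟨_, rfl⟩
    have hcompξ : ∀ (g : Q₁) (v : V), ξ (ρ₁ g v) = ρ₁ ((α ^ p ^ k) g) (ξ v) := by
      rw [hξ, hα]
      exact hcompi (p ^ k)
    have hξW : W.map (ξ : V →ₗ[K] V) = W := by
      rw [hξ]
      exact mem_stab.1 hkW
    have hξU₀ : IsSimpleInv ρ₁ (U₀.map (ξ : V →ₗ[K] V)) :=
      Cfsg.Agent.Lib.Helper71_HHBEigen.IsSimpleInv.map hU₀ ξ _ hcompξ
    have hξU₀W : U₀.map (ξ : V →ₗ[K] V) ≤ W := by
      rw [← hξW]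
      exact Submodule.map_mono hU₀W
    have hiso := hW.equivIso hU₀ hξU₀ hU₀W hξU₀W
    obtain ⟨U', hU', hξU', hisoU'⟩ := exists_invariant_simple ρ₁ ξ _ hcompξ U₀ hU₀ hiso
    have hU'W : U' ≤ W :=
      Cfsg.Agent.Lib.Helper64_ShultIso.le_of_equivIso hW hU₀ hU' hU₀W hisoU'
    by_cases hfixU' : ∃ u ∈ U', u ≠ 0 ∧ ξ u = u
    · obtain ⟨u, huU', hu0, hξu⟩ := hfixU'
      rw [hξ] at hξu
      exact Cfsg.Agent.Lib.Helper64_ShultCore.exists_fixed_of_orbit x (p ^ k) (pow_pos hp.pos k) W hind u (hU'W huU') hu0 hξu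
    · exfalso
      push Not at hfixU'
      -- the restricted representation and operator
      obtain ⟨ρ, hρ⟩ : ∃ ρ : Representation K Q₁ U',
          ρ = Cfsg.Agent.Lib.Helper71_ESLinear.subRep ρ₁ U' hU'.1 := ⟨_, rfl⟩
      have hρa : ∀ (g : Q₁) (u : U'), ((ρ g u : U') : V) = ρ₁ g (u : V) := by
        intro g u
        rw [hρ]
        rfl
      have hirr : Cfsg.Agent.Lib.Helper71_ESLinear.Irr ρ := by
        rw [hρ]
        apply Cfsg.Agent.Lib.Helper71_ESLinear.irr_subRep_of_minimal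
        intro M' hM'U' hM'0 hM'inv
        rcases hU'.2.2 M' hM'U' hM'inv with h | h
        · exact absurd h hM'0
        · exact h
      obtain ⟨t, ht⟩ : ∃ t : Module.End K U',
          t = (ξ : V →ₗ[K] V).restrict (p := U') (q := U') hξU' := ⟨_, rfl⟩
      have hta : ∀ u : U', ((t u : U') : V) = ξ (u : V) := by
        intro u
        rw [ht]
        rfl
      have htpow : ∀ (j : ℕ) (u : U'), (((t ^ j) u : U') : V) = (ξ ^ j) (u : V) := by
        intro j
        induction j with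
        | zero => intro u; rfl
        | succ j ih =>
          intro u
          rw [pow_succ', Module.End.mul_apply, hta, ih, pow_succ']
          rfl
      have hξpow : ξ ^ p ^ (n + 1 - k) = 1 := by
        rw [hξ, ← pow_mul, ← pow_add, ← hx]
        congr 2
        omega
      have htp : t ^ p ^ (n + 1 - k) = 1 := by
        ext u
        rw [htpow, hξpow]
        rfl
      have hσ : ∀ g, t * ρ g = ρ ((α ^ p ^ k) g) * t := by
        intro g
        ext u
        rw [Module.End.mul_apply, Module.End.mul_apply, hta, hρa, hρa, hta]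
        exact hcompξ g u
      have hαp : α ^ p ^ (n + 1) = 1 := by
        ext g
        rw [hα, conjAut_pow_apply, hx]
        simp
      have hαy : ∀ h : Q₁, (α ^ p ^ n) h = h ↔ Commute y (h : V ≃ₗ[K] V) := by
        intro h
        constructor
        · intro hh
          have h1 := congrArg Subtype.val hh
          rw [hα, conjAut_pow_apply, ← hydef] at h1
          show y * (h : V ≃ₗ[K] V) = h * y
          calc y * (h : V ≃ₗ[K] V) = (y * h * y⁻¹) * y := by group
            _ = h * y := by rw [h1]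
        · intro hh
          apply Subtype.ext
          rw [hα, conjAut_pow_apply, ← hydef]
          have h5 : y * (h : V ≃ₗ[K] V) = h * y := hh.eq
          rw [h5]
          group
      have hc : ∀ h : Q₁, (α ^ p ^ n) h = h → h ∈ Subgroup.center Q₁ := by
        intro h hh
        rw [Subgroup.mem_center_iff]
        intro g
        have h1 := hcent h h.2 ((hαy h).1 hh) g g.2
        apply Subtype.ext
        rw [Subgroup.coe_mul, Subgroup.coe_mul]
        exact h1.eq.symm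
      have hαa : ∀ g : Q₁, ((α g : Q₁) : V ≃ₗ[K] V) = x * g * x⁻¹ := by
        intro g
        rw [hα]
        rfl
      have hT : ∀ T : Subgroup Q₁, (∀ g ∈ T, α g ∈ T) → T ≠ ⊤ →
          ∀ g ∈ T, (α ^ p ^ n) g = g := by
        intro S hS hStop s hs
        have h1 : S.map Q₁.subtype ≤ Q₁ := Subgroup.map_subtype_le S
        have h2 : ∀ g ∈ S.map Q₁.subtype, x * g * x⁻¹ ∈ S.map Q₁.subtype := by
          rintro _ ⟨s, hs, rfl⟩
          exact ⟨α s, hS s hs, hαa s⟩
        have h3 : S.map Q₁.subtype ≠ Q₁ := by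
          intro h
          apply hStop
          rw [eq_top_iff]
          intro s _
          have : (s : V ≃ₗ[K] V) ∈ S.map Q₁.subtype := by rw [h]; exact s.2
          obtain ⟨s', hs', hss'⟩ := this
          have : s' = s := Subtype.ext hss'
          rw [← this]
          exact hs'
        have h4 := hQ₁min _ h1 h2 h3 s ⟨s, hs, rfl⟩
        exact (hαy s).2 h4
      -- `y` preserves `U'`
      have hyξ : y = ξ ^ p ^ (n - k) := by
        rw [hydef, hξ, ← pow_mul, ← pow_add]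
        congr 2
        omega
      have hyU' : ∀ u ∈ U', y u ∈ U' := by
        intro u hu
        rw [hyξ]
        have := htpow (p ^ (n - k)) ⟨u, hu⟩
        rw [← this]
        exact ((t ^ p ^ (n - k)) ⟨u, hu⟩).2
      have hyinvU' : ∀ u ∈ U', y⁻¹ u ∈ U' := by
        intro u hu
        have e : y⁻¹ = y ^ (p - 1) := by
          have h1 : y ^ (p - 1) * y = 1 := by
            rw [← pow_succ, Nat.sub_add_cancel hp.pos]
            simpa using hyp
          exact (eq_inv_of_mul_eq_one_left h1).symm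
        rw [e]
        have hpowU' : ∀ j : ℕ, ∀ u ∈ U', (y ^ j) u ∈ U' := by
          intro j
          induction j with
          | zero => intro u hu; exact hu
          | succ j ih =>
            intro u hu
            rw [pow_succ']
            exact hyU' _ (ih u hu)
        exact hpowU' _ u hu
      -- `Q₁` acts nontrivially on `U'`
      obtain ⟨e, he⟩ := hisoU'
      have hntU' : ¬ (Q₁ ≤ fixer U') := by
        intro hfix
        apply hgu₀
        have h1 := he g₀ ⟨u₀, hu₀⟩ ⟨ρ₁ g₀ u₀, hU₀.1 g₀ u₀ hu₀⟩ rfl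
        have h2 : ρ₁ g₀ ((e ⟨u₀, hu₀⟩ : U') : V) = ((e ⟨u₀, hu₀⟩ : U') : V) := by
          rw [hρ₁]
          exact mem_fixer.1 (hfix g₀.2) _ (e ⟨u₀, hu₀⟩).2
        rw [h2] at h1
        have h3 : e ⟨ρ₁ g₀ u₀, hU₀.1 g₀ u₀ hu₀⟩ = e ⟨u₀, hu₀⟩ := Subtype.ext h1
        have h4 := e.injective h3
        exact congrArg Subtype.val h4
      have hne : ∃ g, g ∉ Cfsg.Agent.Lib.Helper71_ESLinear.scSubgroup ρ := by
        by_contra hcon
        push Not at hcon
        apply hntU'
        apply hgen (fixer U')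
        intro a ha
        rw [mem_fixer]
        intro w hw
        obtain ⟨c, hc⟩ := hcon ⟨a, ha⟩
        have hact : ∀ u ∈ U', a u = c • u := by
          intro u hu
          have h1 := congrArg (fun f : Module.End K U' => ((f ⟨u, hu⟩ : U') : V)) hc
          simp only [LinearMap.smul_apply, Module.End.one_apply, Submodule.coe_smul] at h1
          rw [hρa, hρ₁] at h1
          exact h1
        have h1 : a⁻¹ w ∈ U' := by
          have := hU'.1 ⟨a⁻¹, Q₁.inv_mem ha⟩ w hw
          rw [hρ₁] at this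
          exact this
        have h2 : y⁻¹ (a⁻¹ w) ∈ U' := hyinvU' _ h1
        show y (a (y⁻¹ (a⁻¹ w))) = w
        rw [hact _ h2, map_smul]
        have h3 : y (y⁻¹ (a⁻¹ w)) = a⁻¹ w := by
          show (y * y⁻¹) (a⁻¹ w) = a⁻¹ w
          rw [mul_inv_cancel]
          rfl
        rw [h3, ← hact _ h1]
        show (a * a⁻¹) w = w
        rw [mul_inv_cancel]
        rfl
      have hfix : ∀ u : U', t u = u → u = 0 := by
        intro u hu
        by_contra hu0
        have h1 : (u : V) ≠ 0 := fun h => hu0 (Subtype.ext h)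
        apply hfixU' (u : V) u.2 h1
        rw [← hta, hu]
      exact exceptional_contra p q hpq hp2 hq2 hpK
        hQ₁p ρ hirr α n k hkn' hαp t htp hσ hc hT hne hfix

end Core

end Cfsg.Agent.Lib.Helper88_S3Odd
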