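import Mathlib
import Cfsg.Agent.S0044
import Cfsg.Agent.Lib.Helper1_Cores
import Cfsg.Agent.Lib.Helper71_HHBGroup
import Cfsg.Agent.Lib.Helper88_S3Odd

/-! T3 of helper71's S4305 plan: an operator of order 3 without fixed vectors centralises a
solvable `K ≤ GL(W)` of order prime to 6 that it normalises (given T1 = `shult_core_odd`). -/

set_option autoImplicit false

namespace Cfsg.Agent.Lib.Helper1_S3T3

open Cfsg

section grp
variable {𝒢 : Type*} [Group 𝒢]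

/-- conjugation by an element normalising the finite subgroup `K` preserves `O_v(K)`. -/
theorem core_conj_mem (K : Subgroup 𝒢) [Finite K] (v : ℕ) [Fact v.Prime] (g : 𝒢)
    (hg : ∀ k ∈ K, g * k * g⁻¹ ∈ K) :
    ∀ x ∈ (pCore v K).map K.subtype, g * x * g⁻¹ ∈ (pCore v K).map K.subtype := by
  rintro _ ⟨y, hy, rfl⟩
  refine ⟨Cfsg.Agent.Lib.Helper71_HHBGroup.conjAut K g hg
    (Cfsg.Agent.Lib.Helper71_HHBGroup.inv_conj_mem_of_finite K g hg) y, ?_, rfl⟩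
  exact Cfsg.Agent.Lib.Helper1_Cores.pCore_map_le v _ (Subgroup.mem_map_of_mem _ hy)

/-- if `f` (of order 3, normalising the finite solvable 3'-group `K`) centralises every `O_v(K)`,
it centralises `K`. -/
theorem commute_of_centralizes_cores (K : Subgroup 𝒢) [Finite K]
    [hsolv : Group.IsSolvable K] (hcop : (Nat.card K).Coprime 3) (f : 𝒢) (hf3 : f ^ 3 = 1)
    (hnorm : ∀ k ∈ K, f * k * f⁻¹ ∈ K)
    (hcore : ∀ v : ℕ, v.Prime → ∀ x ∈ pCore v K, f * (x : 𝒢) = x * f) :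
    ∀ k ∈ K, f * k = k * f := by
  have hf3' : f * f * f = 1 := by rw [← hf3, pow_succ, pow_succ, pow_one]
  -- f centralises F(K)
  have hF : ∀ x ∈ fittingSubgroup K, f * (x : 𝒢) = x * f := by
    have hle : fittingSubgroup K ≤ (Subgroup.centralizer ({f} : Set 𝒢)).comap K.subtype := by
      rw [Cfsg.Agent.Lib.Helper1_Cores.fittingSubgroup_eq_iSup_pCore]
      refine iSup_le (fun v => ?_)
      intro x hx
      rw [Subgroup.mem_comap, Subgroup.mem_centralizer_iff]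
      intro g hg
      rw [Set.mem_singleton_iff] at hg; subst hg
      exact hcore v v.2 x hx
    intro x hx
    have := hle hx
    rw [Subgroup.mem_comap, Subgroup.mem_centralizer_iff] at this
    exact this f rfl
  intro k hk
  have hc : f * k * f⁻¹ * k⁻¹ ∈ K := K.mul_mem (hnorm k hk) (K.inv_mem hk)
  have hcF : (⟨f * k * f⁻¹ * k⁻¹, hc⟩ : K) ∈ fittingSubgroup K := by
    apply Cfsg.Agent.S0044.result
    rw [Subgroup.mem_centralizer_iff]
    intro x hx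
    apply Subtype.ext
    simp only [Subgroup.coe_mul]
    have hy : (⟨k, hk⟩ : K)⁻¹ * x * (⟨k, hk⟩ : K) ∈ fittingSubgroup K := by
      have := (Cfsg.Agent.Lib.Helper1_Cores.fittingSubgroup_normal (G := K)).conj_mem x hx
        ((⟨k, hk⟩ : K)⁻¹)
      simpa using this
    have hyf := hF _ hy
    have hxf := hF x hx
    simp only [Subgroup.coe_mul, Subgroup.coe_inv] at hyf
    have hyf' : f⁻¹ * (k⁻¹ * (x : 𝒢) * k) = (k⁻¹ * (x : 𝒢) * k) * f⁻¹ := by
      have : f⁻¹ * (k⁻¹ * (x : 𝒢) * k) = f⁻¹ * ((k⁻¹ * (x : 𝒢) * k) * f) * f⁻¹ := by group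
      rw [this, ← hyf]; group
    symm
    calc (f * k * f⁻¹ * k⁻¹) * (x : 𝒢) = f * k * (f⁻¹ * (k⁻¹ * (x : 𝒢) * k)) * k⁻¹ := by group
      _ = f * k * ((k⁻¹ * (x : 𝒢) * k) * f⁻¹) * k⁻¹ := by rw [hyf']
      _ = (f * (x : 𝒢)) * k * f⁻¹ * k⁻¹ := by group
      _ = ((x : 𝒢) * f) * k * f⁻¹ * k⁻¹ := by rw [hxf]
      _ = (x : 𝒢) * (f * k * f⁻¹ * k⁻¹) := by group
  have hfd := hF _ hcF
  simp only at hfd
  obtain ⟨d, hd⟩ : ∃ d : 𝒢, d = f * k * f⁻¹ * k⁻¹ := ⟨_, rfl⟩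
  rw [← hd] at hfd
  have h1 : f * k * f⁻¹ = d * k := by rw [hd]; group
  have hfd' : f * d * f⁻¹ = d := by rw [hfd]; group
  have h2 : f * (f * k * f⁻¹) * f⁻¹ = d * d * k := by
    rw [h1]
    calc f * (d * k) * f⁻¹ = (f * d * f⁻¹) * (f * k * f⁻¹) := by group
      _ = d * (d * k) := by rw [hfd', h1]
      _ = d * d * k := by group
  have h3 : f * (f * (f * k * f⁻¹) * f⁻¹) * f⁻¹ = d * d * d * k := by
    rw [h2]
    calc f * (d * d * k) * f⁻¹ = (f * d * f⁻¹) * (f * d * f⁻¹) * (f * k * f⁻¹) := by group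
      _ = d * d * (d * k) := by rw [hfd', h1]
      _ = d * d * d * k := by group
  have h4 : f * (f * (f * k * f⁻¹) * f⁻¹) * f⁻¹ = k := by
    have : f * (f * (f * k * f⁻¹) * f⁻¹) * f⁻¹ = (f * f * f) * k * (f * f * f)⁻¹ := by group
    rw [this, hf3']; simp
  have hd3 : d ^ 3 = 1 := by
    have : d * d * d * k = k := by rw [← h3, h4]
    have h5 : d * d * d = 1 := by
      have := mul_right_cancel (b := k) (a := d * d * d) (c := 1) (by rw [this, one_mul])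
      exact this
    rw [← h5, pow_succ, pow_succ, pow_one]
  have hd1 : d = 1 := by
    have ho3 : orderOf d ∣ 3 := orderOf_dvd_of_pow_eq_one hd3
    have hoK : orderOf d ∣ Nat.card K := by
      have : orderOf (⟨f * k * f⁻¹ * k⁻¹, hc⟩ : K) ∣ Nat.card K := orderOf_dvd_natCard _
      rw [← Subgroup.orderOf_coe] at this
      simp only at this
      rwa [← hd] at this
    have : orderOf d ∣ Nat.gcd (Nat.card K) 3 := Nat.dvd_gcd hoK ho3
    rw [hcop] at this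
    exact orderOf_eq_one_iff.mp (Nat.dvd_one.mp this)
  rw [hd1, one_mul] at h1
  calc f * k = (f * k * f⁻¹) * f := by group
    _ = k * f := by rw [h1]

end grp

/-- T3 with T1 (`shult_core_odd`, specialised to `p = 3`, `n = 0`, `x = f`) as a hypothesis. -/
theorem commute_of_fpf3_of {𝔽 : Type*} [Field 𝔽] [IsAlgClosed 𝔽] (t : ℕ) [Fact t.Prime] [CharP 𝔽 t]
    (ht3 : t ≠ 3)
    {W : Type*} [AddCommGroup W] [Module 𝔽 W] [FiniteDimensional 𝔽 W]
    (K : Subgroup (W ≃ₗ[𝔽] W)) [Finite K] (hsolv : Group.IsSolvable K)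
    (hcop : (Nat.card K).Coprime 6)
    (f : W ≃ₗ[𝔽] W) (hf3 : f ^ 3 = 1) (hnorm : ∀ k ∈ K, f * k * f⁻¹ ∈ K)
    (hOt : ∀ T : Subgroup (W ≃ₗ[𝔽] W), T ≤ K → IsPGroup t T →
      (∀ g : W ≃ₗ[𝔽] W, (∀ k ∈ K, g * k * g⁻¹ ∈ K) → ∀ x ∈ T, g * x * g⁻¹ ∈ T) → T = ⊥)
    (hfix : ∀ w : W, f w = w → w = 0)
    (hT1 : ∀ (q : ℕ) [Fact q.Prime], 3 ≠ q → q ≠ 2 → (q : 𝔽) ≠ 0 →
      ∀ (Q : Subgroup (W ≃ₗ[𝔽] W)) [Finite Q], IsPGroup q Q → (∀ g ∈ Q, f * g * f⁻¹ ∈ Q) →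
      (∃ g ∈ Q, ¬ Commute f g) → ∃ v : W, v ≠ 0 ∧ f v = v) :
    ∀ k ∈ K, f * k = k * f := by
  haveI := hsolv
  have hcop3 : (Nat.card K).Coprime 3 := Nat.Coprime.coprime_dvd_right (by norm_num : 3 ∣ 6) hcop
  have hcop2 : (Nat.card K).Coprime 2 := Nat.Coprime.coprime_dvd_right (by norm_num : 2 ∣ 6) hcop
  apply commute_of_centralizes_cores K hcop3 f hf3 hnorm
  intro v hv x hx
  haveI : Fact v.Prime := ⟨hv⟩
  have hQp : IsPGroup v ((pCore v K).map K.subtype) :=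
    (Cfsg.Agent.Lib.Helper1_Cores.pCore_isPGroup v).map _
  have hQK : (pCore v K).map K.subtype ≤ K := by
    rintro _ ⟨y, _, rfl⟩
    exact y.2
  have hxQ : (x : W ≃ₗ[𝔽] W) ∈ (pCore v K).map K.subtype := ⟨x, hx, rfl⟩
  -- trivial cores
  have htrivial : ¬ v ∣ Nat.card K → x = 1 := by
    intro hvK
    have h1 : Nat.card (pCore v K) ∣ Nat.card K := Subgroup.card_subgroup_dvd_card _
    have h2 : pCore v K = ⊥ := by
      rcases (Cfsg.Agent.Lib.Helper1_Cores.pCore_isPGroup (G := K) v).card_eq_or_dvd with h | h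
      · exact Subgroup.card_eq_one.mp h
      · exact absurd (h.trans h1) hvK
    rw [h2, Subgroup.mem_bot] at hx
    exact hx
  by_cases hvt : v = t
  · subst hvt
    have := hOt _ hQK hQp (fun g hg => core_conj_mem K v g hg)
    rw [this, Subgroup.mem_bot] at hxQ
    rw [hxQ, mul_one, one_mul]
  by_cases hv2 : v = 2
  · subst hv2
    have := htrivial (fun h => by
      have := Nat.Coprime.eq_one_of_dvd hcop2.symm h
      norm_num at this)
    rw [this]; simp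
  by_cases hv3 : v = 3
  · subst hv3
    have := htrivial (fun h => by
      have := Nat.Coprime.eq_one_of_dvd hcop3.symm h
      norm_num at this)
    rw [this]; simp
  by_contra hne
  have hvF : (v : 𝔽) ≠ 0 := by
    intro h0
    rw [CharP.cast_eq_zero_iff 𝔽 t v] at h0
    exact hvt ((Nat.prime_dvd_prime_iff_eq (Fact.out : t.Prime) hv).mp h0).symm
  haveI : Finite ((pCore v K).map K.subtype : Subgroup (W ≃ₗ[𝔽] W)) :=
    Finite.of_injective (Subgroup.inclusion hQK) (Subgroup.inclusion_injective hQK)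
  obtain ⟨w, hw0, hw⟩ := hT1 v (fun h => hv3 h.symm) hv2 hvF ((pCore v K).map K.subtype) hQp
    (core_conj_mem K v f hnorm) ⟨x, hxQ, hne⟩
  exact hw0 (hfix w hw)

/-- T3 (statement verbatim from `pending/helper71/S3/T3.lean.txt`). -/
theorem commute_of_fpf3 {𝔽 : Type*} [Field 𝔽] [IsAlgClosed 𝔽] (t : ℕ) [Fact t.Prime] [CharP 𝔽 t]
    (ht3 : t ≠ 3)
    {W : Type*} [AddCommGroup W] [Module 𝔽 W] [FiniteDimensional 𝔽 W]
    (K : Subgroup (W ≃ₗ[𝔽] W)) [Finite K] (hsolv : Group.IsSolvable K)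
    (hcop : (Nat.card K).Coprime 6)
    (f : W ≃ₗ[𝔽] W) (hf3 : f ^ 3 = 1) (hnorm : ∀ k ∈ K, f * k * f⁻¹ ∈ K)
    (hOt : ∀ T : Subgroup (W ≃ₗ[𝔽] W), T ≤ K → IsPGroup t T →
      (∀ g : W ≃ₗ[𝔽] W, (∀ k ∈ K, g * k * g⁻¹ ∈ K) → ∀ x ∈ T, g * x * g⁻¹ ∈ T) → T = ⊥)
    (hfix : ∀ w : W, f w = w → w = 0) :
    ∀ k ∈ K, f * k = k * f := by
  have h3F : ((3 : ℕ) : 𝔽) ≠ 0 := by
    intro h0
    rw [CharP.cast_eq_zero_iff 𝔽 t 3] at h0
    exact ht3 ((Nat.prime_dvd_prime_iff_eq (Fact.out : t.Prime) Nat.prime_three).mp h0)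
  haveI : Fact (Nat.Prime 3) := ⟨Nat.prime_three⟩
  refine commute_of_fpf3_of t ht3 K hsolv hcop f hf3 hnorm hOt hfix ?_
  intro q _ h3q hq2 hqF Q _ hQ hn hy
  refine Cfsg.Agent.Lib.Helper88_S3Odd.shult_core_odd 3 q h3q (by norm_num) hq2 h3F hqF 0 f
    (by simpa using hf3) Q hQ hn ?_
  simpa using hy

end Cfsg.Agent.Lib.Helper1_S3T3
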