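import Mathlib
import Cfsg.Agent.Lib.Helper22_Coprime
import Cfsg.Agent.Lib.Helper71_S3LinB

set_option autoImplicit false

namespace Cfsg.Agent.Lib.Helper71_S3Lift

open Cfsg.Agent.Lib.Helper71_S3LinB

variable {𝒢 : Type*} [Group 𝒢]

theorem isPGroup_zpowers (p : ℕ) (g : 𝒢) (n : ℕ) (hg : g ^ p ^ n = 1) :
    IsPGroup p (Subgroup.zpowers g) := by
  rintro ⟨y, hy⟩
  obtain ⟨i, rfl⟩ := Subgroup.mem_zpowers_iff.1 hy
  refine ⟨n, Subtype.ext ?_⟩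
  show (g ^ i) ^ p ^ n = 1
  rw [← zpow_natCast, ← zpow_mul, mul_comm, zpow_mul, zpow_natCast, hg, one_zpow]

/-- the elements `g` normalising `M` such that the coset `x M` is fixed by `g` -/
def cosetStab (M : Subgroup 𝒢) (x : 𝒢) : Subgroup 𝒢 where
  carrier := {g | g ∈ Subgroup.normalizer (M : Set 𝒢) ∧ x⁻¹ * g * x * g⁻¹ ∈ M}
  mul_mem' := by
    rintro a b ⟨ha, ha'⟩ ⟨hb, hb'⟩
    refine ⟨Subgroup.mul_mem _ ha hb, ?_⟩
    have e : x⁻¹ * (a * b) * x * (a * b)⁻¹ = (x⁻¹ * a * x * a⁻¹) * (a * (x⁻¹ * b * x * b⁻¹) * a⁻¹) := by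
      group
    rw [e]
    exact M.mul_mem ha' (conj_mem_of_mem_normalizer ha hb')
  one_mem' := by
    refine ⟨Subgroup.one_mem _, ?_⟩
    have e : x⁻¹ * 1 * x * (1 : 𝒢)⁻¹ = 1 := by group
    show x⁻¹ * 1 * x * (1 : 𝒢)⁻¹ ∈ M
    rw [e]
    exact M.one_mem
  inv_mem' := by
    rintro a ⟨ha, ha'⟩
    refine ⟨Subgroup.inv_mem _ ha, ?_⟩
    have e : x⁻¹ * a⁻¹ * x * a⁻¹⁻¹ = a⁻¹ * (x⁻¹ * a * x * a⁻¹)⁻¹ * a := by group
    show x⁻¹ * a⁻¹ * x * a⁻¹⁻¹ ∈ M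
    rw [e]
    exact inv_conj_mem_of_mem_normalizer ha (M.inv_mem ha')

/-- **Lifting of fixed points** for a group `⟨f, h⟩ ≅ S₃` (or a quotient of it) acting by
conjugation: a coset `x M` of a subgroup `M` of order prime to `6` normalised by `f` and `h`, which is
fixed by `f` and `h`, contains an element commuting with `f` and `h`. -/
theorem exists_fixed_s3 (f h : 𝒢) (hf3 : f ^ 3 = 1) (hh2 : h ^ 2 = 1) (hfh : h * f * h⁻¹ = f⁻¹)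
    (M : Subgroup 𝒢) [Finite M] (hM : (Nat.card M).Coprime 6)
    (hfM : f ∈ Subgroup.normalizer (M : Set 𝒢)) (hhM : h ∈ Subgroup.normalizer (M : Set 𝒢))
    (x : 𝒢) (hxf : x⁻¹ * f * x * f⁻¹ ∈ M) (hxh : x⁻¹ * h * x * h⁻¹ ∈ M) :
    ∃ m ∈ M, f * (x * m) * f⁻¹ = x * m ∧ h * (x * m) * h⁻¹ = x * m := by
  have h3 : Fact (Nat.Prime 3) := ⟨Nat.prime_three⟩
  have h2 : Fact (Nat.Prime 2) := ⟨Nat.prime_two⟩
  -- step 1: `f`
  have hP3 : IsPGroup 3 (Subgroup.zpowers f) := isPGroup_zpowers 3 f 1 (by rw [pow_one]; exact hf3)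
  have hM3 : ¬ 3 ∣ Nat.card M := by
    intro hd
    have := Nat.Coprime.coprime_dvd_right (show 3 ∣ 6 by norm_num) hM
    exact Nat.Prime.one_lt Nat.prime_three |>.ne' (Nat.Coprime.eq_one_of_dvd this.symm hd)
  have hfT : Subgroup.zpowers f ≤ cosetStab M x := by
    rw [Subgroup.zpowers_le]
    exact ⟨hfM, hxf⟩
  obtain ⟨m₁, hm₁, hfix₁⟩ := Cfsg.Agent.Lib.Helper22_Coprime.exists_fixed_in_coset
    (Subgroup.zpowers f) M hP3 hM3 (fun g hg => (hfT hg).1) x (fun g hg => (hfT hg).2)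
  have hf₁ : f * (x * m₁) * f⁻¹ = x * m₁ := hfix₁ f (Subgroup.mem_zpowers f)
  -- step 2: `h`
  have hinv : h⁻¹ = h := inv_eq_of_mul_eq_one_left (by rw [← pow_two, hh2])
  have hhf : h⁻¹ * f * h = f⁻¹ := by
    have e1 : h⁻¹ * f * h = h * f * h⁻¹ := by rw [hinv]
    rw [e1, hfh]
  obtain ⟨M₂, hM₂⟩ : ∃ M₂ : Subgroup 𝒢, M₂ = M ⊓ Subgroup.centralizer {f} := ⟨_, rfl⟩
  have hmemM₂ : ∀ y, y ∈ M₂ ↔ y ∈ M ∧ f * y = y * f := by
    intro y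
    rw [hM₂, Subgroup.mem_inf, Subgroup.mem_centralizer_singleton_iff]
    constructor
    · rintro ⟨h1, h2⟩
      exact ⟨h1, h2.symm⟩
    · rintro ⟨h1, h2⟩
      exact ⟨h1, h2.symm⟩
  have hM₂le : M₂ ≤ M := by rw [hM₂]; exact inf_le_left
  have hfinM₂ : Finite M₂ := Finite.of_injective (Subgroup.inclusion hM₂le)
    (Subgroup.inclusion_injective hM₂le)
  have hP2 : IsPGroup 2 (Subgroup.zpowers h) := isPGroup_zpowers 2 h 1 (by rw [pow_one]; exact hh2)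
  have hM₂2 : ¬ 2 ∣ Nat.card M₂ := by
    intro hd
    have hd' : 2 ∣ Nat.card M := hd.trans (Subgroup.card_dvd_of_le hM₂le)
    have := Nat.Coprime.coprime_dvd_right (show 2 ∣ 6 by norm_num) hM
    exact Nat.Prime.one_lt Nat.prime_two |>.ne' (Nat.Coprime.eq_one_of_dvd this.symm hd')
  -- conjugation by `h` inverts `f`, so it preserves commuting with `f`
  have hcomm_conj : ∀ y : 𝒢, f * y = y * f → f * (h * y * h⁻¹) = (h * y * h⁻¹) * f := by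
    intro y hy
    have hy' : f⁻¹ * y = y * f⁻¹ := by
      calc f⁻¹ * y = f⁻¹ * (y * f) * f⁻¹ := by group
        _ = f⁻¹ * (f * y) * f⁻¹ := by rw [hy]
        _ = y * f⁻¹ := by group
    calc f * (h * y * h⁻¹) = h * ((h⁻¹ * f * h) * y) * h⁻¹ := by group
      _ = h * (f⁻¹ * y) * h⁻¹ := by rw [hhf]
      _ = h * (y * f⁻¹) * h⁻¹ := by rw [hy']
      _ = h * (y * (h⁻¹ * f * h)) * h⁻¹ := by rw [hhf]
      _ = (h * y * h⁻¹) * f := by group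
  have hcomm_conj' : ∀ y : 𝒢, f * y = y * f → f * (h⁻¹ * y * h) = (h⁻¹ * y * h) * f := by
    intro y hy
    have := hcomm_conj y hy
    rw [hinv]
    rw [hinv] at this
    exact this
  have hhM₂ : h ∈ Subgroup.normalizer (M₂ : Set 𝒢) := by
    apply mem_normalizer_of_forall
    · intro y hy
      rw [hmemM₂] at hy ⊢
      exact ⟨conj_mem_of_mem_normalizer hhM hy.1, hcomm_conj y hy.2⟩
    · intro y hy
      rw [hmemM₂] at hy ⊢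
      exact ⟨inv_conj_mem_of_mem_normalizer hhM hy.1, hcomm_conj' y hy.2⟩
  obtain ⟨x₁, hx₁⟩ : ∃ x₁, x₁ = x * m₁ := ⟨_, rfl⟩
  rw [← hx₁] at hf₁
  have hx₁f : f * x₁ = x₁ * f := by
    calc f * x₁ = (f * x₁ * f⁻¹) * f := by group
      _ = x₁ * f := by rw [hf₁]
  have hx₁h : x₁⁻¹ * h * x₁ * h⁻¹ ∈ M₂ := by
    rw [hmemM₂]
    constructor
    · have e : x₁⁻¹ * h * x₁ * h⁻¹ = m₁⁻¹ * (x⁻¹ * h * x * h⁻¹) * (h * m₁ * h⁻¹) := by
        rw [hx₁]; group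
      rw [e]
      exact M.mul_mem (M.mul_mem (M.inv_mem hm₁) hxh) (conj_mem_of_mem_normalizer hhM hm₁)
    · have h1 : f * x₁⁻¹ = x₁⁻¹ * f := by
        calc f * x₁⁻¹ = x₁⁻¹ * (x₁ * f) * x₁⁻¹ := by group
          _ = x₁⁻¹ * (f * x₁) * x₁⁻¹ := by rw [hx₁f]
          _ = x₁⁻¹ * f := by group
      have h2 := hcomm_conj x₁ hx₁f
      calc f * (x₁⁻¹ * h * x₁ * h⁻¹) = (f * x₁⁻¹) * (h * x₁ * h⁻¹) := by group
        _ = x₁⁻¹ * (f * (h * x₁ * h⁻¹)) := by rw [h1]; group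
        _ = x₁⁻¹ * ((h * x₁ * h⁻¹) * f) := by rw [h2]
        _ = x₁⁻¹ * h * x₁ * h⁻¹ * f := by group
  have hhT : Subgroup.zpowers h ≤ cosetStab M₂ x₁ := by
    rw [Subgroup.zpowers_le]
    exact ⟨hhM₂, hx₁h⟩
  obtain ⟨m₂, hm₂, hfix₂⟩ := Cfsg.Agent.Lib.Helper22_Coprime.exists_fixed_in_coset
    (Subgroup.zpowers h) M₂ hP2 hM₂2 (fun g hg => (hhT hg).1) x₁ (fun g hg => (hhT hg).2)
  have hh₂ : h * (x₁ * m₂) * h⁻¹ = x₁ * m₂ := hfix₂ h (Subgroup.mem_zpowers h)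
  have hm₂' := (hmemM₂ m₂).1 hm₂
  refine ⟨m₁ * m₂, M.mul_mem hm₁ hm₂'.1, ?_, ?_⟩
  · have e : x * (m₁ * m₂) = x₁ * m₂ := by rw [hx₁]; group
    rw [e]
    calc f * (x₁ * m₂) * f⁻¹ = (f * x₁) * m₂ * f⁻¹ := by group
      _ = x₁ * (f * m₂) * f⁻¹ := by rw [hx₁f]; group
      _ = x₁ * (m₂ * f) * f⁻¹ := by rw [hm₂'.2]
      _ = x₁ * m₂ := by group
  · have e : x * (m₁ * m₂) = x₁ * m₂ := by rw [hx₁]; group
    rw [e]
    exact hh₂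

end Cfsg.Agent.Lib.Helper71_S3Lift
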