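import Mathlib
import Cfsg.Agent.Lib.Helper71_S3Wt
import Cfsg.Agent.Lib.Helper71_S3LinA
import Cfsg.Agent.Lib.Helper71_S3Lift
import Cfsg.Agent.Lib.Helper1_Glauberman

/-! T5 of helper71's S4305 plan: the case where `K` is transitive on the weights of `Z`. -/

set_option autoImplicit false

namespace Cfsg.Agent.Lib.Helper1_S3T5

open Cfsg.Agent.Lib.Helper71_S3Wt Cfsg.Agent.Lib.Helper71_S3LinA

universe u v

section acts
variable {𝔽 : Type v} [Field 𝔽] {W : Type u} [AddCommGroup W] [Module 𝔽 W]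

/-- the weights of `Z` with non-zero weight space -/
abbrev Wts (Z : Subgroup (W ≃ₗ[𝔽] W)) : Type (max u v) := {χ : Z → 𝔽 // wt Z χ ≠ ⊥}

theorem wt_tw_ne_bot (Z : Subgroup (W ≃ₗ[𝔽] W)) (g : W ≃ₗ[𝔽] W)
    (hg : g ∈ Subgroup.normalizer (Z : Set (W ≃ₗ[𝔽] W))) (χ : Z → 𝔽) (h : wt Z χ ≠ ⊥) :
    wt Z (tw Z g hg χ) ≠ ⊥ := by
  rw [← map_wt Z g hg χ]
  intro h0
  exact h (Submodule.map_eq_bot_iff.mp h0)

/-- a subgroup of the normaliser of `Z` acts on the weights -/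
@[reducible] def twAct (Z S : Subgroup (W ≃ₗ[𝔽] W))
    (hS : S ≤ Subgroup.normalizer (Z : Set (W ≃ₗ[𝔽] W))) : MulAction S (Wts Z) where
  smul s x := ⟨tw Z s (hS s.2) x.1, wt_tw_ne_bot Z s (hS s.2) x.1 x.2⟩
  one_smul x := by
    apply Subtype.ext
    change tw Z ((1 : S) : W ≃ₗ[𝔽] W) (hS (1 : S).2) x.1 = x.1
    exact (tw_congr Z rfl _ (Subgroup.one_mem _) x.1).trans (tw_one Z x.1)
  mul_smul s s' x := by
    apply Subtype.ext
    change tw Z ((s * s' : S) : W ≃ₗ[𝔽] W) (hS (s * s').2) x.1 =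
      tw Z s (hS s.2) (tw Z s' (hS s'.2) x.1)
    rw [tw_tw]
    exact tw_congr Z rfl _ _ x.1

/-- a subgroup normalising `K` acts on `K` by conjugation -/
@[reducible] def conjAct {𝒢 : Type*} [Group 𝒢] (A K : Subgroup 𝒢)
    (hAK : A ≤ Subgroup.normalizer (K : Set 𝒢)) : MulDistribMulAction A K where
  smul a k := ⟨a * k * (a : 𝒢)⁻¹, (Subgroup.mem_normalizer_iff.mp (hAK a.2) k).mp k.2⟩
  one_smul k := by
    apply Subtype.ext
    change ((1 : A) : 𝒢) * k * ((1 : A) : 𝒢)⁻¹ = k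
    simp
  mul_smul a b k := by
    apply Subtype.ext
    change ((a * b : A) : 𝒢) * k * ((a * b : A) : 𝒢)⁻¹ = a * (b * k * (b : 𝒢)⁻¹) * (a : 𝒢)⁻¹
    simp [mul_assoc]
  smul_mul a k k' := by
    apply Subtype.ext
    change (a : 𝒢) * ((k * k' : K) : 𝒢) * (a : 𝒢)⁻¹ =
      (a * k * (a : 𝒢)⁻¹) * (a * k' * (a : 𝒢)⁻¹)
    simp [mul_assoc]
  smul_one a := by
    apply Subtype.ext
    change (a : 𝒢) * ((1 : K) : 𝒢) * (a : 𝒢)⁻¹ = 1
    simp

end acts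

section main
variable {𝔽 : Type v} [Field 𝔽] {W : Type u} [AddCommGroup W] [Module 𝔽 W]

/-- Glauberman: if `K` is transitive on the weights of `Z`, some weight is `A`-invariant. -/
theorem exists_invariant_weight {K Z : Subgroup (W ≃ₗ[𝔽] W)}
    {α : Equiv.Perm (Fin 3) →* (W ≃ₗ[𝔽] W)}
    (hnorm : ∀ a, α a ∈ Subgroup.normalizer (K : Set (W ≃ₗ[𝔽] W))) [Finite K]
    (hsolv : Group.IsSolvable K) (hcop : (Nat.card K).Coprime 6)
    (hKZ : K ≤ Subgroup.normalizer (Z : Set (W ≃ₗ[𝔽] W)))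
    (hAZ : ∀ a, α a ∈ Subgroup.normalizer (Z : Set (W ≃ₗ[𝔽] W)))
    (hZc : ∀ x ∈ Z, ∀ y ∈ Z, x * y = y * x) (χ₀ : Z → 𝔽) (hχ₀ : wt Z χ₀ ≠ ⊥)
    (htop : blk Z (orb Z K hKZ χ₀) = ⊤) :
    ∃ χ₁ : Z → 𝔽, wt Z χ₁ ≠ ⊥ ∧ ∀ a, tw Z (α a) (hAZ a) χ₁ = χ₁ := by
  have hAK : α.range ≤ Subgroup.normalizer (K : Set (W ≃ₗ[𝔽] W)) := by
    rintro _ ⟨a, rfl⟩; exact hnorm a
  have hAZ' : α.range ≤ Subgroup.normalizer (Z : Set (W ≃ₗ[𝔽] W)) := by
    rintro _ ⟨a, rfl⟩; exact hAZ a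
  letI i1 : MulDistribMulAction α.range K := conjAct α.range K hAK
  letI i2 : MulAction α.range (Wts Z) := twAct Z α.range hAZ'
  letI i3 : MulAction K (Wts Z) := twAct Z K hKZ
  haveI : Nonempty (Wts Z) := ⟨⟨χ₀, hχ₀⟩⟩
  haveI : Finite α.range := Finite.of_surjective α.rangeRestrict α.rangeRestrict_surjective
  have hall : ∀ x : Wts Z, x.1 ∈ orb Z K hKZ χ₀ := fun x =>
    (wt_indep Z hZc).mem_of_biSup_eq_top htop x.2
  have htrans : MulAction.IsPretransitive K (Wts Z) := by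
    refine ⟨fun x y => ?_⟩
    have hy : y.1 ∈ orb Z K hKZ x.1 := by
      rw [orb_eq_of_mem Z K hKZ (hall x)]
      exact hall y
    obtain ⟨k, hk, hky⟩ := hy
    refine ⟨⟨k, hk⟩, Subtype.ext ?_⟩
    change tw Z k (hKZ hk) x.1 = y.1
    exact hky.symm
  have hcompat : ∀ (a : α.range) (n : K) (x : Wts Z), a • (n • x) = (a • n) • (a • x) := by
    intro a n x
    apply Subtype.ext
    change tw Z a (hAZ' a.2) (tw Z n (hKZ n.2) x.1) =
      tw Z ((a : W ≃ₗ[𝔽] W) * n * (a : W ≃ₗ[𝔽] W)⁻¹)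
        (hKZ ((Subgroup.mem_normalizer_iff.mp (hAK a.2) n).mp n.2)) (tw Z a (hAZ' a.2) x.1)
    rw [tw_tw, tw_tw]
    exact tw_congr Z (by group) _ _ _
  have hcop' : (Nat.card α.range).Coprime (Nat.card K) := by
    have h1 : Nat.card α.range ∣ 6 := by
      have := Subgroup.card_range_dvd α
      rwa [card_s3] at this
    exact (Nat.Coprime.coprime_dvd_right h1 hcop).symm
  obtain ⟨⟨x₁, hx₁⟩, -⟩ := Cfsg.Agent.Lib.Helper1_Glauberman.glauberman_ext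
    (A := α.range) (N := K) (X := Wts Z) hcompat hcop' (Or.inr hsolv) htrans
  refine ⟨x₁.1, x₁.2, fun a => ?_⟩
  have := hx₁ ⟨α a, ⟨a, rfl⟩⟩
  exact congrArg Subtype.val this

end main

/-- T5 (statement verbatim from `pending/helper71/S3/T5.lean.txt`). -/
theorem false_of_blk_eq_top {𝔽 : Type*} [Field 𝔽] {W : Type*} [AddCommGroup W] [Module 𝔽 W]
    {K Z : Subgroup (W ≃ₗ[𝔽] W)}
    {α : Equiv.Perm (Fin 3) →* (W ≃ₗ[𝔽] W)} (H : Hyp K α) [Finite K]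
    (hsolv : Group.IsSolvable K) (hcop : (Nat.card K).Coprime 6)
    (hZK : Z ≤ K) (hZ0 : Z ≠ ⊥)
    (hKZ : K ≤ Subgroup.normalizer (Z : Set (W ≃ₗ[𝔽] W)))
    (hAZ : ∀ a, α a ∈ Subgroup.normalizer (Z : Set (W ≃ₗ[𝔽] W)))
    (hZc : ∀ x ∈ Z, ∀ y ∈ Z, x * y = y * x) (χ₀ : Z → 𝔽) (hχ₀ : wt Z χ₀ ≠ ⊥)
    (htop : blk Z (orb Z K hKZ χ₀) = ⊤) : False := by
  obtain ⟨χ₁, hχ₁, hinv⟩ := exists_invariant_weight H.norm hsolv hcop hKZ hAZ hZc χ₀ hχ₀ htop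
  obtain ⟨w, hw, hw0⟩ := Submodule.exists_mem_ne_zero_of_ne_bot hχ₁
  have hF1 : ∀ a, ∀ z, z ∈ Z → (α a * z * (α a)⁻¹) w = z w := by
    intro a z hz
    have hz' : α a * z * (α a)⁻¹ ∈ Z := (Subgroup.mem_normalizer_iff.mp (hAZ a) z).mp hz
    have h1 := mem_wt.mp hw ⟨_, hz'⟩
    have h2 := mem_wt.mp hw ⟨z, hz⟩
    simp only at h1 h2
    rw [h1, h2]
    congr 1
    have h3 := congrFun (hinv a⁻¹) ⟨z, hz⟩
    rw [tw_apply] at h3
    rw [← h3]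
    refine congrArg χ₁ (Subtype.ext ?_)
    simp [map_inv]
  -- the stabiliser of `w` in `Z`
  let Z₁ : Subgroup (W ≃ₗ[𝔽] W) :=
    { carrier := {g | g ∈ Z ∧ g w = w}
      one_mem' := ⟨Z.one_mem, rfl⟩
      mul_mem' := by
        rintro a b ⟨ha, haw⟩ ⟨hb, hbw⟩
        refine ⟨Z.mul_mem ha hb, ?_⟩
        show a (b w) = w
        rw [hbw, haw]
      inv_mem' := by
        rintro a ⟨ha, haw⟩
        refine ⟨Z.inv_mem ha, ?_⟩
        have : a⁻¹ (a w) = w := by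
          show (a⁻¹ * a) w = w
          rw [inv_mul_cancel]; rfl
        rw [haw] at this
        exact this }
  have hZ₁Z : Z₁ ≤ Z := fun g hg => hg.1
  have hZ₁K : Z₁ ≤ K := hZ₁Z.trans hZK
  haveI : Finite Z₁ := Finite.of_injective (Subgroup.inclusion hZ₁K) (Subgroup.inclusion_injective hZ₁K)
  have hZ₁cop : (Nat.card Z₁).Coprime 6 :=
    Nat.Coprime.coprime_dvd_left (Subgroup.card_dvd_of_le hZ₁K) hcop
  have hZ₁n : ∀ a, α a ∈ Subgroup.normalizer (Z₁ : Set (W ≃ₗ[𝔽] W)) := by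
    intro a
    rw [Subgroup.mem_normalizer_iff]
    intro g
    constructor
    · rintro ⟨hg, hgw⟩
      exact ⟨(Subgroup.mem_normalizer_iff.mp (hAZ a) g).mp hg, by rw [hF1 a g hg, hgw]⟩
    · rintro ⟨hg', hgw'⟩
      have hg : g ∈ Z := (Subgroup.mem_normalizer_iff.mp (hAZ a) g).mpr hg'
      exact ⟨hg, by rw [← hF1 a g hg, hgw']⟩
  have hf3 : (α c3) ^ 3 = 1 := by rw [← map_pow, c3_pow, map_one]
  have hh2 : (α s2) ^ 2 = 1 := by rw [← map_pow, s2_pow, map_one]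
  have hfh : α s2 * α c3 * (α s2)⁻¹ = (α c3)⁻¹ := by
    rw [← map_inv, ← map_mul, ← map_mul, s2_c3, map_inv]
  have hall : ∀ z ∈ Z, z w = w := by
    intro z hz
    have hmem : ∀ a, z⁻¹ * α a * z * (α a)⁻¹ ∈ Z₁ := by
      intro a
      have e : z⁻¹ * α a * z * (α a)⁻¹ = z⁻¹ * (α a * z * (α a)⁻¹) := by group
      rw [e]
      refine ⟨Z.mul_mem (Z.inv_mem hz) ((Subgroup.mem_normalizer_iff.mp (hAZ a) z).mp hz), ?_⟩
      show z⁻¹ ((α a * z * (α a)⁻¹) w) = w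
      rw [hF1 a z hz]
      show (z⁻¹ * z) w = w
      rw [inv_mul_cancel]; rfl
    obtain ⟨m, hm, hmf, hmh⟩ := Cfsg.Agent.Lib.Helper71_S3Lift.exists_fixed_s3 (α c3) (α s2)
      hf3 hh2 hfh Z₁ hZ₁cop (hZ₁n c3) (hZ₁n s2) z (hmem c3) (hmem s2)
    have hfixall : ∀ a, α a * (z * m) * (α a)⁻¹ = z * m := by
      apply s3_induction
      · simp
      · intro a b ha hb
        rw [map_mul]
        calc α a * α b * (z * m) * (α a * α b)⁻¹
            = α a * (α b * (z * m) * (α b)⁻¹) * (α a)⁻¹ := by group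
          _ = z * m := by rw [hb, ha]
      · exact hmf
      · exact hmh
    have h1 := H.fixK (z * m) (K.mul_mem (hZK hz) (hZ₁K hm)) hfixall
    have hz' : z = m⁻¹ := eq_inv_of_mul_eq_one_left h1
    rw [hz']
    exact (Z₁.inv_mem hm).2
  have hfix : fixSp Z ≠ ⊥ := by
    intro h0
    have : w ∈ fixSp Z := hall
    rw [h0] at this
    exact hw0 this
  exact hZ0 (eq_bot_of_fixSp_ne_bot H Z hKZ hAZ hfix)

end Cfsg.Agent.Lib.Helper1_S3T5
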