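import Mathlib
import Cfsg.Prelude.Def_Classical
import Cfsg.Agent.Lib.Helper5_HermCount
import Cfsg.Agent.Lib.Helper44_HermOrtho
import Cfsg.Agent.Lib.Helper94_HermBridge

set_option autoImplicit false
set_option linter.unusedSectionVars false
set_option linter.unusedSimpArgs false

/-!
Counting nondegenerate subspaces of a nondegenerate hermitian space over a finite field, via
orthonormal frames (package PU4 of S5954-UD2, for helper99).
-/

namespace Cfsg.Agent.Lib.Helper1_SUND_PU4

open Module
open Cfsg.Agent.Lib.Helper94_Herm Cfsg.Agent.Lib.Helper94_HermWitt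
  Cfsg.Agent.Lib.Helper94_HermBridge Cfsg.Agent.Lib.Helper44_HermOrtho

section abstract

variable {F V : Type*} [Field F] [AddCommGroup V] [Module F V] {σ : F →+* F}
variable (B : V →ₗ[F] V →ₛₗ[σ] F)

/-- orthonormal families. -/
def IsON {m : ℕ} (s : Fin m → V) : Prop := ∀ a b, B (s a) (s b) = if a = b then 1 else 0

/-- the vectors orthogonal to all members of a family. -/
def perp {m : ℕ} (s : Fin m → V) : Submodule F V := ⨅ a, orthV B (s a)

theorem mem_perp {m : ℕ} (s : Fin m → V) (x : V) : x ∈ perp B s ↔ ∀ a, B x (s a) = 0 := by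
  unfold perp
  rw [Submodule.mem_iInf]
  exact forall_congr' fun a => mem_orthV

theorem isON_tail {m : ℕ} (s : Fin (m + 1) → V) (hs : IsON B s) : IsON B (Fin.tail s) := by
  intro a b
  have := hs a.succ b.succ
  simp only [Fin.succ_inj] at this
  exact this

theorem isON_cons (hB : IsHerm B) {m : ℕ} (s : Fin m → V) (hs : IsON B s) (x : V)
    (hx : x ∈ perp B s) (hxx : B x x = 1) : IsON B (Fin.cons x s : Fin (m + 1) → V) := by
  rw [mem_perp] at hx
  intro a b
  refine Fin.cases ?_ (fun a' => ?_) a <;> refine Fin.cases ?_ (fun b' => ?_) b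
  · simp only [Fin.cons_zero, if_true]
    exact hxx
  · simp only [Fin.cons_zero, Fin.cons_succ, if_neg (Fin.succ_ne_zero b').symm]
    exact hx b'
  · simp only [Fin.cons_zero, Fin.cons_succ, if_neg (Fin.succ_ne_zero a')]
    exact herm_eq_zero hB (hx a')
  · simp only [Fin.cons_succ, Fin.succ_inj]
    exact hs a' b'

/-- splitting off an orthonormal family from a nondegenerate subspace. -/
theorem nondeg_perp [FiniteDimensional F V] (hB : IsHerm B) :
    ∀ (m : ℕ) (U : Submodule F V), NondegOn B U → ∀ s : Fin m → V, IsON B s → (∀ a, s a ∈ U) →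
      NondegOn B (U ⊓ perp B s) ∧
        finrank F (U ⊓ perp B s : Submodule F V) + m = finrank F U := by
  intro m
  induction m with
  | zero =>
    intro U hU s _ _
    have : perp B s = ⊤ := by
      rw [eq_top_iff]; intro x _; rw [mem_perp]; intro a; exact a.elim0
    rw [this, inf_top_eq]
    exact ⟨hU, rfl⟩
  | succ m ih =>
    intro U hU s hs hsU
    have hv : B (s 0) (s 0) = 1 := by rw [hs 0 0, if_pos rfl]
    have hvne : B (s 0) (s 0) ≠ 0 := by rw [hv]; exact one_ne_zero
    have hU' := nondegOn_orthV hB hU (hsU 0) hvne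
    have hk' : finrank F (U ⊓ orthV B (s 0) : Submodule F V) + 1 = finrank F U := by
      have h1 := finrank_le_inf_orthV_add_one (B := B) U (s 0)
      have h2 : finrank F (U ⊓ orthV B (s 0) : Submodule F V) < finrank F U := by
        apply Submodule.finrank_lt_finrank_of_lt
        refine lt_of_le_of_ne inf_le_left ?_
        intro heq
        have : s 0 ∈ U ⊓ orthV B (s 0) := by rw [heq]; exact hsU 0
        exact hvne (mem_orthV.mp this.2)
      omega
    have htU : ∀ a, Fin.tail s a ∈ U ⊓ orthV B (s 0) := by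
      intro a
      refine Submodule.mem_inf.mpr ⟨hsU a.succ, mem_orthV.mpr ?_⟩
      show B (s a.succ) (s 0) = 0
      rw [hs a.succ 0, if_neg (Fin.succ_ne_zero a)]
    obtain ⟨h1, h2⟩ := ih _ hU' (Fin.tail s) (isON_tail B s hs) htU
    have heq : U ⊓ perp B s = U ⊓ orthV B (s 0) ⊓ perp B (Fin.tail s) := by
      ext x
      simp only [Submodule.mem_inf, mem_perp, mem_orthV]
      rw [Fin.forall_fin_succ]
      simp only [Fin.tail]
      tauto
    rw [heq]
    exact ⟨h1, by omega⟩

theorem eq_sum_of_mem_span {m : ℕ} (s : Fin m → V) (hs : IsON B s) {x : V}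
    (hx : x ∈ Submodule.span F (Set.range s)) : x = ∑ a, B x (s a) • s a := by
  classical
  induction hx using Submodule.span_induction with
  | mem z hz =>
    obtain ⟨b, rfl⟩ := hz
    simp only [hs b]
    rw [Finset.sum_eq_single b]
    · simp
    · intro a _ hab; rw [if_neg (Ne.symm hab), zero_smul]
    · intro h; exact absurd (Finset.mem_univ b) h
  | zero => simp
  | add z w _ _ hz hw =>
    simp only [map_add, LinearMap.add_apply, add_smul, Finset.sum_add_distrib]
    rw [← hz, ← hw]
  | smul c z _ hz =>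
    simp only [map_smul, LinearMap.smul_apply, smul_eq_mul, mul_smul]
    rw [← Finset.smul_sum, ← hz]

theorem linearIndependent_of_isON {m : ℕ} (s : Fin m → V) (hs : IsON B s) :
    LinearIndependent F s := by
  classical
  rw [Fintype.linearIndependent_iff]
  intro γ hγ b
  have hs' : ∀ a b, B (s a) (s b) = if a = b then 1 else 0 := hs
  have h1 := congrArg (fun x => B x (s b)) hγ
  simp only [map_sum, map_smul, LinearMap.sum_apply, LinearMap.smul_apply, hs', smul_eq_mul,
    mul_ite, mul_one, mul_zero, Finset.sum_ite_eq', Finset.sum_ite_eq, Finset.mem_univ, if_true,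
    map_zero, LinearMap.zero_apply] at h1
  exact h1

theorem nondegOn_span {m : ℕ} (s : Fin m → V) (hs : IsON B s) :
    NondegOn B (Submodule.span F (Set.range s)) := by
  intro x hx hx0
  by_contra hcon
  push Not at hcon
  apply hx0
  rw [eq_sum_of_mem_span B s hs hx]
  apply Finset.sum_eq_zero
  intro a _
  rw [hcon (s a) (Submodule.subset_span ⟨a, rfl⟩), zero_smul]

theorem finrank_span_of_isON {m : ℕ} (s : Fin m → V) (hs : IsON B s) :
    finrank F (Submodule.span F (Set.range s)) = m := by
  rw [finrank_span_eq_card (linearIndependent_of_isON B s hs), Fintype.card_fin]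

/-- the number of unit vectors of a nondegenerate hermitian `k`-space over `F_{q^2}`. -/
def ucount (q k : ℕ) : ℕ :=
  if Even k then q ^ (k - 1) * (q ^ k - 1) else q ^ (k - 1) * (q ^ k + 1)

section counting

variable [Fintype F] [Finite V] {q : ℕ}

/-- the number of unit vectors of a nondegenerate subspace. -/
theorem card_unit (hF : Fintype.card F = q ^ 2) (hσq : ∀ x, σ x = x ^ q) (hσ : Invol σ)
    (hB : IsHerm B) {N : Submodule F V} (hN : NondegOn B N) :
    Nat.card {x : V // x ∈ N ∧ B x x = 1} = ucount q (finrank F N) := by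
  classical
  have : FiniteDimensional F V := inferInstance
  obtain ⟨w, hwN, hw⟩ := exists_orthonormal hσ hB (finrank F N) N hN rfl
  have hwON : IsON B w := hw
  obtain ⟨-, hfr⟩ := nondeg_perp B hB (finrank F N) N hN w hwON hwN
  have hbot : N ⊓ perp B w = ⊥ := by
    apply Submodule.finrank_eq_zero.mp
    omega
  set φ : (Fin (finrank F N) → F) → V := fun c => ∑ i, c i • w i with hφ
  have hφN : ∀ c, φ c ∈ N := fun c => Submodule.sum_mem _ (fun i _ => N.smul_mem _ (hwN i))
  have hcoef : ∀ c j, B (φ c) (w j) = c j := by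
    intro c j
    simp only [hφ, map_sum, map_smul, LinearMap.sum_apply, LinearMap.smul_apply, hw, smul_eq_mul,
      mul_ite, mul_one, mul_zero, Finset.sum_ite_eq', Finset.sum_ite_eq, Finset.mem_univ, if_true]
  have hφB : ∀ c d, B (φ c) (φ d) = Cfsg.hermForm (finrank F N) F q c d := by
    intro c d
    have h1 : B (φ c) (φ d) = ∑ j, σ (d j) * B (φ c) (w j) := by
      conv_lhs => rw [show φ d = ∑ j, d j • w j from rfl]
      rw [map_sum]
      refine Finset.sum_congr rfl fun j _ => ?_
      rw [map_smulₛₗ, smul_eq_mul]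
    rw [h1]
    unfold Cfsg.hermForm
    refine Finset.sum_congr rfl fun j _ => ?_
    rw [hcoef, hσq, mul_comm]
  have hrep : ∀ x ∈ N, φ (fun i => B x (w i)) = x := by
    intro x hx
    have h1 : x - φ (fun i => B x (w i)) ∈ N ⊓ perp B w := by
      refine Submodule.mem_inf.mpr ⟨N.sub_mem hx (hφN _), ?_⟩
      rw [mem_perp]
      intro a
      rw [map_sub, LinearMap.sub_apply, hcoef, sub_self]
    rw [hbot, Submodule.mem_bot, sub_eq_zero] at h1
    exact h1.symm
  let e : {c : Fin (finrank F N) → F // Cfsg.hermForm (finrank F N) F q c c = 1} ≃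
      {x : V // x ∈ N ∧ B x x = 1} :=
    { toFun := fun c => ⟨φ c.1, hφN c.1, by rw [hφB]; exact c.2⟩
      invFun := fun x => ⟨fun i => B x.1 (w i), by
        rw [← hφB, hrep x.1 x.2.1]; exact x.2.2⟩
      left_inv := fun c => by
        apply Subtype.ext
        funext j
        exact hcoef c.1 j
      right_inv := fun x => by
        apply Subtype.ext
        exact hrep x.1 x.2.1 }
  rw [← Nat.card_congr e, Cfsg.Agent.Lib.Helper5_HermCount.card_norm_one hF]
  rfl

/-- orthonormal frames of length `m` inside a subspace. -/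
abbrev FrameIn (U : Submodule F V) (m : ℕ) := {s : Fin m → V // IsON B s ∧ ∀ a, s a ∈ U}

omit [Fintype F] [Finite V] in
theorem head_mem {U : Submodule F V} {m : ℕ} (s : FrameIn B U (m + 1)) :
    s.1 0 ∈ U ⊓ perp B (Fin.tail s.1) ∧ B (s.1 0) (s.1 0) = 1 := by
  refine ⟨Submodule.mem_inf.mpr ⟨s.2.2 0, ?_⟩, ?_⟩
  · rw [mem_perp]
    intro a
    show B (s.1 0) (s.1 a.succ) = 0
    rw [s.2.1 0 a.succ, if_neg (Fin.succ_ne_zero a).symm]
  · rw [s.2.1 0 0, if_pos rfl]

/-- extending an orthonormal frame by one unit vector. -/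
def consEquiv (hB : IsHerm B) (U : Submodule F V) (m : ℕ) :
    FrameIn B U (m + 1) ≃ Σ s : FrameIn B U m, {x : V // x ∈ U ⊓ perp B s.1 ∧ B x x = 1} where
  toFun s := ⟨⟨Fin.tail s.1, isON_tail B s.1 s.2.1, fun a => s.2.2 a.succ⟩, ⟨s.1 0, head_mem B s⟩⟩
  invFun s := ⟨Fin.cons s.2.1 s.1.1,
    isON_cons B hB s.1.1 s.1.2.1 s.2.1 (Submodule.mem_inf.mp s.2.2.1).2 s.2.2.2,
    fun a => Fin.cases (Submodule.mem_inf.mp s.2.2.1).1 (fun a' => s.1.2.2 a') a⟩
  left_inv s := by
    apply Subtype.ext
    simp only [Fin.cons_self_tail]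
  right_inv := fun ⟨s, x⟩ => by
    simp only [Fin.cons_zero, Subtype.coe_eta, Sigma.mk.inj_iff, Fin.tail_cons]
    exact ⟨trivial, heq_of_eq (Subtype.ext rfl)⟩

/-- the number of orthonormal `m`-frames of a nondegenerate subspace. -/
theorem card_frameIn (hF : Fintype.card F = q ^ 2) (hσq : ∀ x, σ x = x ^ q) (hσ : Invol σ)
    (hB : IsHerm B) {U : Submodule F V} (hU : NondegOn B U) (m : ℕ) :
    Nat.card (FrameIn B U m) = ∏ j ∈ Finset.range m, ucount q (finrank F U - j) := by
  classical
  have : FiniteDimensional F V := inferInstance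
  induction m with
  | zero =>
    rw [Finset.prod_range_zero]
    have : Unique (FrameIn B U 0) :=
      { default := ⟨fun a => a.elim0, fun a => a.elim0, fun a => a.elim0⟩
        uniq := fun s => Subtype.ext (funext fun a => a.elim0) }
    exact Nat.card_unique
  | succ m ih =>
    have : Fintype (FrameIn B U m) := Fintype.ofFinite _
    have hfib : ∀ s : FrameIn B U m,
        Nat.card {x : V // x ∈ U ⊓ perp B s.1 ∧ B x x = 1} = ucount q (finrank F U - m) := by
      intro s
      obtain ⟨h1, h2⟩ := nondeg_perp B hB m U hU s.1 s.2.1 s.2.2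
      rw [card_unit B hF hσq hσ hB h1]
      congr 1
      omega
    rw [Nat.card_congr (consEquiv B hB U m), Nat.card_sigma,
      Finset.sum_congr rfl (fun s _ => hfib s), Finset.sum_const, smul_eq_mul,
      Finset.card_univ, ← Nat.card_eq_fintype_card, ih, Finset.prod_range_succ]

omit [Fintype F] in
/-- frames spanning a given subspace of dimension `m` are the frames of that subspace. -/
def fibreEquiv (m : ℕ) (W : Submodule F V) (hWd : finrank F W = m) :
    {s : FrameIn B ⊤ m // Submodule.span F (Set.range s.1) = W} ≃ FrameIn B W m where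
  toFun s := ⟨s.1.1, s.1.2.1, fun a => s.2.le (Submodule.subset_span ⟨a, rfl⟩)⟩
  invFun s := ⟨⟨s.1, s.2.1, fun _ => trivial⟩, by
    have : FiniteDimensional F V := inferInstance
    apply Submodule.eq_of_le_of_finrank_eq
      (Submodule.span_le.2 (by rintro _ ⟨a, rfl⟩; exact s.2.2 a))
    rw [finrank_span_of_isON B s.1 s.2.1, hWd]⟩
  left_inv s := rfl
  right_inv s := rfl

/-- the number of nondegenerate `m`-subspaces. -/
theorem card_nd_mul (hF : Fintype.card F = q ^ 2) (hσq : ∀ x, σ x = x ^ q) (hσ : Invol σ)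
    (hB : IsHerm B) (hV : NondegOn B ⊤) (m : ℕ) :
    Nat.card {W : Submodule F V // finrank F W = m ∧ NondegOn B W} *
        (∏ j ∈ Finset.range m, ucount q (m - j)) =
      ∏ j ∈ Finset.range m, ucount q (finrank F V - j) := by
  classical
  have : Fintype {W : Submodule F V // finrank F W = m ∧ NondegOn B W} := Fintype.ofFinite _
  let π : FrameIn B ⊤ m → {W : Submodule F V // finrank F W = m ∧ NondegOn B W} :=
    fun s => ⟨Submodule.span F (Set.range s.1), finrank_span_of_isON B s.1 s.2.1,
      nondegOn_span B s.1 s.2.1⟩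
  have h2 : Nat.card (FrameIn B ⊤ m) = ∑ W, Nat.card {s // π s = W} := by
    rw [← Nat.card_sigma]; exact Nat.card_congr (Equiv.sigmaFiberEquiv π).symm
  have h3 : ∀ W, Nat.card {s // π s = W} = ∏ j ∈ Finset.range m, ucount q (m - j) := fun W => by
    have e : {s // π s = W} ≃ {s : FrameIn B ⊤ m // Submodule.span F (Set.range s.1) = W.1} :=
      { toFun := fun s => ⟨s.1, congrArg Subtype.val s.2⟩
        invFun := fun s => ⟨s.1, Subtype.ext s.2⟩
        left_inv := fun s => rfl
        right_inv := fun s => rfl }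
    rw [Nat.card_congr (e.trans (fibreEquiv B m W.1 W.2.1)),
      card_frameIn B hF hσq hσ hB W.2.2 m, W.2.1]
  have h4 := card_frameIn B hF hσq hσ hB hV m
  rw [finrank_top] at h4
  rw [← h4, h2, Finset.sum_congr rfl (fun W _ => h3 W), Finset.sum_const,
    smul_eq_mul, Finset.card_univ, Nat.card_eq_fintype_card]

end counting

end abstract

universe u

/-- PU4: a prime `r ≠ p` dividing the number of nondegenerate `m`-spaces of the standard hermitian
`n`-space over `F_{q^2}` divides `q ^ k - (-1) ^ k` for some `n - m < k ≤ n`. -/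
theorem PU4 {K : Type u} [Field K] [Fintype K] {p : ℕ} [Fact p.Prime] [CharP K p] {q : ℕ}
    (hK : Fintype.card K = q ^ 2) (n m : ℕ) (hm : 1 ≤ m) (hmn : m ≤ n) {r : ℕ} (hr : r.Prime)
    (hrp : r ≠ p)
    (hrΩ : r ∣ Nat.card {W : Submodule K (Fin n → K) // Module.finrank K ↥W = m ∧
      (∀ u ∈ W, u ≠ 0 → ∃ v ∈ W, Cfsg.hermForm n K q u v ≠ 0)}) :
    ∃ k : ℕ, n - m < k ∧ k ≤ n ∧ r ∣ (if Even k then q ^ k - 1 else q ^ k + 1) := by
  obtain ⟨σ, hσq, hσ⟩ := exists_frob hK
  have hB : IsHerm (hermB n σ hσq) := hermB_isHerm σ hσq hσ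
  have hV : NondegOn (hermB n σ hσq) ⊤ := hermB_nondeg σ hσq
  have hmul := card_nd_mul (hermB n σ hσq) hK hσq hσ hB hV m
  rw [Module.finrank_fintype_fun_eq_card, Fintype.card_fin] at hmul
  have hrq : ¬ r ∣ q := by
    intro h
    have h1 : r ∣ Fintype.card K := by rw [hK]; exact h.trans (dvd_pow_self q two_ne_zero)
    obtain ⟨e, hp, he⟩ := FiniteField.card K p
    rw [he] at h1
    exact hrp ((Nat.prime_dvd_prime_iff_eq hr hp).mp (hr.dvd_of_dvd_pow h1))
  have h1 : r ∣ ∏ j ∈ Finset.range m, ucount q (n - j) := by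
    rw [← hmul]
    exact Dvd.dvd.mul_right hrΩ _
  rw [hr.prime.dvd_finsetProd_iff] at h1
  obtain ⟨j, hj, hdj⟩ := h1
  rw [Finset.mem_range] at hj
  refine ⟨n - j, by omega, by omega, ?_⟩
  unfold ucount at hdj
  split_ifs at hdj ⊢ with he
  · rcases hr.dvd_mul.1 hdj with h2 | h2
    · exact absurd (hr.dvd_of_dvd_pow h2) hrq
    · exact h2
  · rcases hr.dvd_mul.1 hdj with h2 | h2
    · exact absurd (hr.dvd_of_dvd_pow h2) hrq
    · exact h2

end Cfsg.Agent.Lib.Helper1_SUND_PU4
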