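import Mathlib
import Cfsg.Prelude.Def_Characters
import Cfsg.Prelude.Def_Blocks
import Cfsg.Agent.Lib.Helper80_CharBasic
import Cfsg.Agent.Lib.Helper17_Sylow
import Cfsg.Agent.Lib.Helper77_BlockBasics
import Cfsg.Agent.Lib.Helper16_SO_Brauer

/-!
# Helper20_A7_DEG7: package DEG7 of the S0984 market (architect helper62)

`G` simple of order `2520`, `|N(P₇)| = 21`, `C(P₇) = P₇`: Brauer's defect-one data for `p = 7`,
`e = 3` give block degrees `(1,6,8;3)`, `(1,6,15;10)`, `(1,8,15;24)` or `(1,15,20;4)`.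
-/

set_option autoImplicit false
open Cfsg Cfsg.Agent.Lib.Helper80_CharBasic

namespace Cfsg.Agent.Lib.Helper20_A7_DEG7

open Subgroup Cfsg.Agent.Lib.Helper17_Sylow

/-- Divisors of `2520` that are `≡ ±1 (mod 7)` with square at most `2520`. -/
theorem divisor_list7 : ∀ d : ℕ, d ≤ 50 → d ∣ 2520 → (d % 7 = 1 ∨ d % 7 = 6) →
    (d % 7 = 1 ∧ (d = 1 ∨ d = 8 ∨ d = 15 ∨ d = 36)) ∨ (d % 7 = 6 ∧ (d = 6 ∨ d = 20)) := by
  intro d hd hdvd hmod
  interval_cases d <;> omega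

theorem le_50_of_sq_le {d : ℕ} (h : d ^ 2 ≤ 2520) : d ≤ 50 := by
  by_contra hc
  have : 51 ≤ d := by omega
  nlinarith

/-- The arithmetic of the degree equation. -/
theorem arith (d1 d2 D : ℕ) (s1 s2 ε : ℤ)
    (h1 : (d1 = 8 ∧ s1 = 1) ∨ (d1 = 15 ∧ s1 = 1) ∨ (d1 = 36 ∧ s1 = 1) ∨ (d1 = 6 ∧ s1 = -1) ∨
      (d1 = 20 ∧ s1 = -1))
    (h2 : (d2 = 8 ∧ s2 = 1) ∨ (d2 = 15 ∧ s2 = 1) ∨ (d2 = 36 ∧ s2 = 1) ∨ (d2 = 6 ∧ s2 = -1) ∨
      (d2 = 20 ∧ s2 = -1))
    (hε : ε = 1 ∨ ε = -1) (hrel : ε * (D : ℤ) = 1 + s1 * (d1 : ℤ) + s2 * (d2 : ℤ))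
    (hD : D ∣ 2520) (hsq : 1 + d1 ^ 2 + d2 ^ 2 + 2 * D ^ 2 ≤ 2520) :
    d1 = 6 ∨ d2 = 6 ∨ d1 = 8 ∨ d2 = 8 ∨
      (D = 4 ∧ ((d1 = 15 ∧ d2 = 20) ∨ (d1 = 20 ∧ d2 = 15))) := by
  have hD35 : D ≤ 35 := by
    by_contra hc
    have : 36 ≤ D := by omega
    nlinarith
  rcases h1 with ⟨rfl, rfl⟩ | ⟨rfl, rfl⟩ | ⟨rfl, rfl⟩ | ⟨rfl, rfl⟩ | ⟨rfl, rfl⟩
  · right; right; left; rfl
  · rcases h2 with ⟨rfl, rfl⟩ | ⟨rfl, rfl⟩ | ⟨rfl, rfl⟩ | ⟨rfl, rfl⟩ | ⟨rfl, rfl⟩
    · right; right; right; left; rfl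
    · exfalso; rcases hε with rfl | rfl <;> push_cast at hrel <;> interval_cases D <;> omega
    · exfalso; rcases hε with rfl | rfl <;> push_cast at hrel <;> interval_cases D <;> omega
    · right; left; rfl
    · rcases hε with rfl | rfl <;> push_cast at hrel <;> interval_cases D <;> omega
  · rcases h2 with ⟨rfl, rfl⟩ | ⟨rfl, rfl⟩ | ⟨rfl, rfl⟩ | ⟨rfl, rfl⟩ | ⟨rfl, rfl⟩
    · right; right; right; left; rfl
    · exfalso; rcases hε with rfl | rfl <;> push_cast at hrel <;> interval_cases D <;> omega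
    · exfalso; rcases hε with rfl | rfl <;> push_cast at hrel <;> interval_cases D <;> omega
    · right; left; rfl
    · exfalso; rcases hε with rfl | rfl <;> push_cast at hrel <;> interval_cases D <;> omega
  · left; rfl
  · rcases h2 with ⟨rfl, rfl⟩ | ⟨rfl, rfl⟩ | ⟨rfl, rfl⟩ | ⟨rfl, rfl⟩ | ⟨rfl, rfl⟩
    · right; right; right; left; rfl
    · rcases hε with rfl | rfl <;> push_cast at hrel <;> interval_cases D <;> omega
    · exfalso; rcases hε with rfl | rfl <;> push_cast at hrel <;> interval_cases D <;> omega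
    · right; left; rfl
    · exfalso; rcases hε with rfl | rfl <;> push_cast at hrel <;> interval_cases D <;> omega

theorem deg7 {G : Type*} [Group G] [Finite G] [IsSimpleGroup G] [Fact (Nat.Prime 7)]
    (hG : Nat.card G = 2520) (P : Sylow 7 G) (hP : Nat.card P = 7)
    (hN : Nat.card (Subgroup.normalizer ((P : Subgroup G) : Set G)) = 21)
    (hC : Subgroup.centralizer ((P : Subgroup G) : Set G) = (P : Subgroup G)) :
    (∃ χ : Cfsg.IrrCharacter G, Cfsg.charDegree (χ : G → ℂ) = 6) ∨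
    (∃ χ : Cfsg.IrrCharacter G, Cfsg.charDegree (χ : G → ℂ) = 8) ∨
    ((∃ θ : Cfsg.IrrCharacter G, Cfsg.charDegree (θ : G → ℂ) = 4) ∧
      ∀ ψ : Cfsg.IrrCharacter G, ¬ 7 ∣ Cfsg.charDegree (ψ : G → ℂ) →
        Cfsg.charDegree (ψ : G → ℂ) = 1 ∨ Cfsg.charDegree (ψ : G → ℂ) = 4 ∨
        Cfsg.charDegree (ψ : G → ℂ) = 15 ∨ Cfsg.charDegree (ψ : G → ℂ) = 20) := by
  classical
  have hnc : ¬ IsMulCommutative G :=
    not_isMulCommutative_of_not_prime (by rw [hG]; norm_num)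
  have hna : ¬ ∀ a b : G, a * b = b * a :=
    Cfsg.Agent.Lib.Helper16_SO_Brauer.not_comm_of_not_isMulCommutative hnc
  -- `e = 3`
  have hCN : centralizer ((P : Subgroup G) : Set G) ≤ normalizer ((P : Subgroup G) : Set G) :=
    centralizer_le_normalizer _
  have h1 := card_mul_relIndex_of_le hCN
  have hcardC : Nat.card (centralizer ((P : Subgroup G) : Set G)) = 7 := by rw [hC]; exact hP
  rw [hN, hcardC] at h1
  have he : (centralizer ((P : Subgroup G) : Set G)).relIndex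
      (normalizer ((P : Subgroup G) : Set G)) = 3 := by omega
  obtain ⟨X, εX, θ, ε, hXc, hθX, hone, hX, hε, -, hrel, -, hsq, hlast⟩ :=
    Cfsg.Agent.Lib.Helper16_SO_Brauer.brauer_data (by norm_num) P hP 3 he (by norm_num)
  have h1X : oneIrr G ∈ X ∧ εX (oneIrr G) = 1 := by
    rcases hone with h | ⟨-, -, h⟩
    · exact h
    · omega
  have hdeg1 := Cfsg.Agent.Lib.Helper16_SO_Brauer.charDegree_oneIrr G
  have hX' : (X.erase (oneIrr G)).card = 2 := by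
    rw [Finset.card_erase_of_mem h1X.1, hXc]
  obtain ⟨χ₁, χ₂, hne, hX'eq⟩ := Finset.card_eq_two.mp hX'
  have hmem₁ : χ₁ ∈ X.erase (oneIrr G) := by rw [hX'eq]; exact Finset.mem_insert_self _ _
  have hmem₂ : χ₂ ∈ X.erase (oneIrr G) := by
    rw [hX'eq]; exact Finset.mem_insert_of_mem (Finset.mem_singleton_self _)
  have hsumf : ∑ φ ∈ X, εX φ * (charDegree (φ : G → ℂ) : ℤ) =
      1 + εX χ₁ * (charDegree (χ₁ : G → ℂ) : ℤ) + εX χ₂ * (charDegree (χ₂ : G → ℂ) : ℤ) := by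
    rw [← Finset.add_sum_erase X _ h1X.1, hX'eq, Finset.sum_pair hne, h1X.2, hdeg1]
    push_cast
    ring
  have hsumg : ∑ φ ∈ X, charDegree (φ : G → ℂ) ^ 2 =
      1 + charDegree (χ₁ : G → ℂ) ^ 2 + charDegree (χ₂ : G → ℂ) ^ 2 := by
    rw [← Finset.add_sum_erase X _ h1X.1, hX'eq, Finset.sum_pair hne, hdeg1]
    ring
  rw [hsumf] at hrel
  rw [hsumg, hG] at hsq
  -- classification of the members of `X` other than the principal character
  have hclass : ∀ χ ∈ X.erase (oneIrr G),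
      (charDegree (χ : G → ℂ) = 8 ∧ εX χ = 1) ∨ (charDegree (χ : G → ℂ) = 15 ∧ εX χ = 1) ∨
      (charDegree (χ : G → ℂ) = 36 ∧ εX χ = 1) ∨ (charDegree (χ : G → ℂ) = 6 ∧ εX χ = -1) ∨
      (charDegree (χ : G → ℂ) = 20 ∧ εX χ = -1) := by
    intro χ hχ
    have hχ1 : χ ≠ oneIrr G := (Finset.mem_erase.mp hχ).1
    have hχX : χ ∈ X := (Finset.mem_erase.mp hχ).2
    obtain ⟨hs, hmod, -⟩ := hX χ hχX
    have hdvd : charDegree (χ : G → ℂ) ∣ 2520 := by
      rw [← hG]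
      exact Cfsg.Agent.Lib.Helper77_BlockBasics.charDegree_dvd_card χ
    have hsq' : charDegree (χ : G → ℂ) ^ 2 ≤ 2520 := by
      rw [← hG]
      exact Cfsg.Agent.Lib.Helper74_CharTools.charDegree_sq_le χ
    have hne1 : charDegree (χ : G → ℂ) ≠ 1 := fun h =>
      hχ1 (Cfsg.Agent.Lib.Helper74_CharTools.eq_oneIrr_of_degree_one hna χ h)
    obtain ⟨d, hdd⟩ : ∃ d : ℕ, d = charDegree (χ : G → ℂ) := ⟨_, rfl⟩
    rw [← hdd] at hdvd hsq' hne1 hmod ⊢
    have hle := le_50_of_sq_le hsq'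
    unfold Int.ModEq at hmod
    rcases hs with hs | hs
    · rw [hs] at hmod ⊢
      have hm1 : d % 7 = 1 := by push_cast at hmod; omega
      rcases divisor_list7 d hle hdvd (Or.inl hm1) with ⟨-, h | h | h | h⟩ | ⟨h, -⟩
      · exact absurd h hne1
      · left; exact ⟨h, rfl⟩
      · right; left; exact ⟨h, rfl⟩
      · right; right; left; exact ⟨h, rfl⟩
      · omega
    · rw [hs] at hmod ⊢
      have hm1 : d % 7 = 6 := by push_cast at hmod; omega
      rcases divisor_list7 d hle hdvd (Or.inr hm1) with ⟨h, -⟩ | ⟨-, h | h⟩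
      · omega
      · right; right; right; left; exact ⟨h, rfl⟩
      · right; right; right; right; exact ⟨h, rfl⟩
  have hDdvd : charDegree (θ : G → ℂ) ∣ 2520 := by
    rw [← hG]
    exact Cfsg.Agent.Lib.Helper77_BlockBasics.charDegree_dvd_card θ
  have hsq2 : 1 + charDegree (χ₁ : G → ℂ) ^ 2 + charDegree (χ₂ : G → ℂ) ^ 2 +
      2 * charDegree (θ : G → ℂ) ^ 2 ≤ 2520 := by
    have : (7 - 1) / 3 = 2 := by norm_num
    rw [this] at hsq
    exact hsq
  rcases arith _ _ _ _ _ _ (hclass χ₁ hmem₁) (hclass χ₂ hmem₂) hε hrel hDdvd hsq2 with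
    h | h | h | h | ⟨hD4, h⟩
  · exact Or.inl ⟨χ₁, h⟩
  · exact Or.inl ⟨χ₂, h⟩
  · exact Or.inr (Or.inl ⟨χ₁, h⟩)
  · exact Or.inr (Or.inl ⟨χ₂, h⟩)
  · refine Or.inr (Or.inr ⟨⟨θ, hD4⟩, ?_⟩)
    intro ψ hψ
    rcases hlast hC ψ hψ with hψX | hψD
    · by_cases hψ1 : ψ = oneIrr G
      · left; rw [hψ1]; exact hdeg1
      · have hψm : ψ ∈ X.erase (oneIrr G) := Finset.mem_erase.mpr ⟨hψ1, hψX⟩
        rw [hX'eq, Finset.mem_insert, Finset.mem_singleton] at hψm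
        rcases hψm with rfl | rfl
        · rcases h with ⟨h15, -⟩ | ⟨h20, -⟩
          · right; right; left; exact h15
          · right; right; right; exact h20
        · rcases h with ⟨-, h20⟩ | ⟨-, h15⟩
          · right; right; right; exact h20
          · right; right; left; exact h15
    · right; left; rw [hψD]; exact hD4

end Cfsg.Agent.Lib.Helper20_A7_DEG7
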