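import Mathlib

set_option autoImplicit false

namespace Cfsg.Agent.Lib.Helper20_AbelFourier

open scoped ComplexConjugate
open Finset

section basic

variable {A : Type*} [AddCommGroup A] [Fintype A]

open Classical in
theorem sum_mul_conj (ψ₁ ψ₂ : AddChar A ℂ) :
    ∑ x, ψ₁ x * conj (ψ₂ x) = if ψ₁ = ψ₂ then (Fintype.card A : ℂ) else 0 := by
  have h : ∀ x, ψ₁ x * conj (ψ₂ x) = (ψ₁ * ψ₂⁻¹) x := by
    intro x
    rw [AddChar.mul_apply, AddChar.inv_apply', AddChar.inv_apply_eq_conj]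
  simp_rw [h]
  rw [AddChar.sum_eq_ite]
  by_cases h12 : ψ₁ = ψ₂
  · subst h12
    have : ψ₁ * ψ₁⁻¹ = 0 := mul_inv_cancel ψ₁
    simp [this]
  · have : ψ₁ * ψ₂⁻¹ ≠ 0 := by
      intro h0
      apply h12
      have : ψ₁ * ψ₂⁻¹ = 1 := h0
      rwa [mul_inv_eq_one] at this
    simp [h12, this]

open Classical in
theorem sum_char_mul_conj (x y : A) :
    ∑ ψ : AddChar A ℂ, ψ x * conj (ψ y) = if x = y then (Fintype.card A : ℂ) else 0 := by
  have h : ∀ ψ : AddChar A ℂ, ψ x * conj (ψ y) = ψ (x - y) := by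
    intro ψ
    rw [sub_eq_add_neg, AddChar.map_add_eq_mul, AddChar.map_neg_eq_conj]
  simp_rw [h]
  rw [AddChar.sum_apply_eq_ite]
  simp [sub_eq_zero]

/-- unnormalised Fourier coefficient -/
noncomputable def coeff (f : A → ℂ) (ψ : AddChar A ℂ) : ℂ := ∑ x, f x * conj (ψ x)

/-- generalized characters of a finite abelian group: integral Fourier coefficients -/
def IsGC (f : A → ℂ) : Prop :=
  ∀ ψ : AddChar A ℂ, ∃ a : ℤ, coeff f ψ = (Fintype.card A : ℂ) * a

theorem inversion (f : A → ℂ) (x : A) :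
    (Fintype.card A : ℂ) * f x = ∑ ψ : AddChar A ℂ, coeff f ψ * ψ x := by
  classical
  simp only [coeff, Finset.sum_mul]
  rw [Finset.sum_comm]
  have h : ∀ y : A, ∑ ψ : AddChar A ℂ, f y * conj (ψ y) * ψ x =
      f y * (if x = y then (Fintype.card A : ℂ) else 0) := by
    intro y
    rw [← sum_char_mul_conj x y, Finset.mul_sum]
    apply Finset.sum_congr rfl
    intro ψ _
    ring
  simp_rw [h]
  simp [mul_comm]

theorem coeff_addChar (ψ ψ' : AddChar A ℂ) [Decidable (ψ = ψ')] :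
    coeff (ψ : A → ℂ) ψ' = if ψ = ψ' then (Fintype.card A : ℂ) else 0 := by
  unfold coeff
  rw [sum_mul_conj]
  congr

theorem isGC_addChar (ψ : AddChar A ℂ) : IsGC (ψ : A → ℂ) := by
  classical
  intro ψ'
  rw [coeff_addChar]
  by_cases h : ψ = ψ'
  · exact ⟨1, by simp [h]⟩
  · exact ⟨0, by simp [h]⟩

theorem isGC_zero : IsGC (0 : A → ℂ) := by
  intro ψ
  exact ⟨0, by simp [coeff]⟩

theorem coeff_add (f g : A → ℂ) (ψ : AddChar A ℂ) : coeff (f + g) ψ = coeff f ψ + coeff g ψ := by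
  simp [coeff, add_mul, Finset.sum_add_distrib]

theorem coeff_sub (f g : A → ℂ) (ψ : AddChar A ℂ) : coeff (f - g) ψ = coeff f ψ - coeff g ψ := by
  simp [coeff, sub_mul, Finset.sum_sub_distrib]

theorem coeff_smul (c : ℂ) (f : A → ℂ) (ψ : AddChar A ℂ) : coeff (c • f) ψ = c * coeff f ψ := by
  simp [coeff, Finset.mul_sum, mul_assoc]

theorem IsGC.add {f g : A → ℂ} (hf : IsGC f) (hg : IsGC g) : IsGC (f + g) := by
  intro ψ
  obtain ⟨a, ha⟩ := hf ψ
  obtain ⟨b, hb⟩ := hg ψ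
  exact ⟨a + b, by rw [coeff_add, ha, hb]; push_cast; ring⟩

theorem IsGC.sub {f g : A → ℂ} (hf : IsGC f) (hg : IsGC g) : IsGC (f - g) := by
  intro ψ
  obtain ⟨a, ha⟩ := hf ψ
  obtain ⟨b, hb⟩ := hg ψ
  exact ⟨a - b, by rw [coeff_sub, ha, hb]; push_cast; ring⟩

theorem IsGC.int_smul {f : A → ℂ} (hf : IsGC f) (k : ℤ) : IsGC ((k : ℂ) • f) := by
  intro ψ
  obtain ⟨a, ha⟩ := hf ψ
  exact ⟨k * a, by rw [coeff_smul, ha]; push_cast; ring⟩

theorem IsGC.sum {ι : Type*} (s : Finset ι) (f : ι → A → ℂ) (hf : ∀ i ∈ s, IsGC (f i)) :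
    IsGC (∑ i ∈ s, f i) := by
  classical
  induction s using Finset.induction_on with
  | empty => simpa using isGC_zero
  | insert i s hi ih =>
    rw [Finset.sum_insert hi]
    exact (hf i (Finset.mem_insert_self i s)).add
      (ih (fun j hj => hf j (Finset.mem_insert_of_mem hj)))

theorem IsGC.apply_zero {f : A → ℂ} (hf : IsGC f) : ∃ a : ℤ, f 0 = a := by
  choose a ha using hf
  refine ⟨∑ ψ : AddChar A ℂ, a ψ, ?_⟩
  have h := inversion f 0
  simp only [AddChar.map_zero_eq_one, mul_one] at h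
  simp_rw [ha] at h
  rw [← Finset.mul_sum] at h
  have hne : (Fintype.card A : ℂ) ≠ 0 := by
    exact_mod_cast Fintype.card_ne_zero
  have := mul_left_cancel₀ hne h
  rw [this]
  push_cast
  rfl

/-- Parseval for finite abelian groups -/
theorem parseval (a : AddChar A ℂ → ℂ) :
    ∑ x : A, ‖∑ ψ : AddChar A ℂ, a ψ * ψ x‖ ^ 2 =
      (Fintype.card A : ℝ) * ∑ ψ : AddChar A ℂ, ‖a ψ‖ ^ 2 := by
  classical
  apply Complex.ofReal_injective
  push_cast
  simp only [← Complex.mul_conj', map_sum, map_mul]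
  simp only [Finset.sum_mul, Finset.mul_sum]
  rw [Finset.sum_comm]
  apply Finset.sum_congr rfl
  intro ψ _
  rw [Finset.sum_comm]
  have h : ∀ ψ' : AddChar A ℂ, ∑ x : A, a ψ' * ψ' x * (conj (a ψ) * conj (ψ x)) =
      a ψ' * conj (a ψ) * (if ψ' = ψ then (Fintype.card A : ℂ) else 0) := by
    intro ψ'
    rw [← sum_mul_conj ψ' ψ, Finset.mul_sum]
    apply Finset.sum_congr rfl
    intro x _
    ring
  simp_rw [h]
  simp [mul_comm]

end basic

section slice

variable {A Z : Type*} [AddCommGroup A] [Fintype A] [AddCommGroup Z] [Fintype Z]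

/-- product character -/
noncomputable def prodChar (Φ : AddChar A ℂ) (ψ : AddChar Z ℂ) : AddChar (A × Z) ℂ :=
  (Φ.compAddMonoidHom (AddMonoidHom.fst A Z)) * (ψ.compAddMonoidHom (AddMonoidHom.snd A Z))

theorem prodChar_apply (Φ : AddChar A ℂ) (ψ : AddChar Z ℂ) (x : A) (z : Z) :
    prodChar Φ ψ (x, z) = Φ x * ψ z := by
  simp [prodChar]

/-- the `ψ`-slice of a function on a product -/
noncomputable def slice (F : A × Z → ℂ) (ψ : AddChar Z ℂ) : A → ℂ :=
  fun x => (Fintype.card Z : ℂ)⁻¹ * ∑ z, F (x, z) * conj (ψ z)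

theorem slice_inversion (F : A × Z → ℂ) (x : A) (z : Z) :
    F (x, z) = ∑ ψ : AddChar Z ℂ, slice F ψ x * ψ z := by
  have h := inversion (fun z => F (x, z)) z
  have hne : (Fintype.card Z : ℂ) ≠ 0 := by
    exact_mod_cast Fintype.card_ne_zero
  have h2 : ∑ ψ : AddChar Z ℂ, slice F ψ x * ψ z =
      (Fintype.card Z : ℂ)⁻¹ * ∑ ψ : AddChar Z ℂ, coeff (fun z => F (x, z)) ψ * ψ z := by
    rw [Finset.mul_sum]
    apply Finset.sum_congr rfl
    intro ψ _
    simp only [slice, coeff]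
    ring
  rw [h2, ← h, ← mul_assoc, inv_mul_cancel₀ hne, one_mul]

theorem isGC_slice {F : A × Z → ℂ} (hF : IsGC F) (ψ : AddChar Z ℂ) : IsGC (slice F ψ) := by
  intro Φ
  obtain ⟨a, ha⟩ := hF (prodChar Φ ψ)
  refine ⟨a, ?_⟩
  have hne : (Fintype.card Z : ℂ) ≠ 0 := by
    exact_mod_cast Fintype.card_ne_zero
  have h1 : coeff (slice F ψ) Φ = (Fintype.card Z : ℂ)⁻¹ * coeff F (prodChar Φ ψ) := by
    simp only [coeff, slice]
    rw [Fintype.sum_prod_type, Finset.mul_sum]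
    apply Finset.sum_congr rfl
    intro x _
    rw [Finset.mul_sum, Finset.mul_sum, Finset.sum_mul]
    apply Finset.sum_congr rfl
    intro z _
    rw [prodChar_apply, map_mul]
    ring
  rw [h1, ha, Fintype.card_prod]
  push_cast
  field_simp

open Classical in
theorem slice_ineq (ω : A → ℝ) (hω : ∀ x, 0 ≤ ω x) (α β m : ℝ) (hβ : 0 ≤ β)
    (hm : ∀ g : A → ℂ, IsGC g → g ≠ 0 → m ≤ ∑ x, ω x * ‖g x‖ ^ 2)
    (Gs : AddChar Z ℂ → A → ℂ) (hG : ∀ ψ, IsGC (Gs ψ))
    (T : Finset (AddChar Z ℂ)) (hT : ∀ ψ, ψ ∈ T ↔ Gs ψ ≠ 0)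
    (hr : 0 ≤ α * Fintype.card Z - β * T.card) :
    (α * Fintype.card Z - β * T.card) * (T.card * m) ≤
      ∑ x : A, ∑ z : Z, ω x * (if z = 0 then α - β else α) *
        ‖∑ ψ : AddChar Z ℂ, Gs ψ x * ψ z‖ ^ 2 := by
  have hzero : ∀ ψ, ψ ∉ T → ∀ x, Gs ψ x = 0 := by
    intro ψ hψ x
    have : Gs ψ = 0 := by
      by_contra h
      exact hψ ((hT ψ).mpr h)
    rw [this]; rfl
  -- pointwise estimate
  have hpt : ∀ x : A, (α * Fintype.card Z - β * T.card) * ∑ ψ ∈ T, ‖Gs ψ x‖ ^ 2 ≤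
      ∑ z : Z, (if z = 0 then α - β else α) * ‖∑ ψ : AddChar Z ℂ, Gs ψ x * ψ z‖ ^ 2 := by
    intro x
    have h1 : ∑ z : Z, (if z = 0 then α - β else α) * ‖∑ ψ : AddChar Z ℂ, Gs ψ x * ψ z‖ ^ 2 =
        α * ∑ z : Z, ‖∑ ψ : AddChar Z ℂ, Gs ψ x * ψ z‖ ^ 2 -
          β * ‖∑ ψ : AddChar Z ℂ, Gs ψ x * ψ (0 : Z)‖ ^ 2 := by
      have : ∀ z : Z, (if z = 0 then α - β else α) * ‖∑ ψ : AddChar Z ℂ, Gs ψ x * ψ z‖ ^ 2 =
          α * ‖∑ ψ : AddChar Z ℂ, Gs ψ x * ψ z‖ ^ 2 -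
            (if z = 0 then β * ‖∑ ψ : AddChar Z ℂ, Gs ψ x * ψ z‖ ^ 2 else 0) := by
        intro z
        split_ifs <;> ring
      simp_rw [this]
      rw [Finset.sum_sub_distrib, Finset.mul_sum, Finset.sum_ite_eq' Finset.univ (0 : Z)]
      simp
    rw [h1, parseval (fun ψ => Gs ψ x)]
    have h2 : ∑ ψ : AddChar Z ℂ, ‖Gs ψ x‖ ^ 2 = ∑ ψ ∈ T, ‖Gs ψ x‖ ^ 2 := by
      symm
      apply Finset.sum_subset (Finset.subset_univ T)
      intro ψ _ hψ
      rw [hzero ψ hψ x]; simp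
    have h3 : ∑ ψ : AddChar Z ℂ, Gs ψ x * ψ (0 : Z) = ∑ ψ ∈ T, Gs ψ x := by
      simp only [AddChar.map_zero_eq_one, mul_one]
      symm
      apply Finset.sum_subset (Finset.subset_univ T)
      intro ψ _ hψ
      exact hzero ψ hψ x
    rw [h2, h3]
    have h4 : ‖∑ ψ ∈ T, Gs ψ x‖ ^ 2 ≤ (T.card : ℝ) * ∑ ψ ∈ T, ‖Gs ψ x‖ ^ 2 := by
      calc ‖∑ ψ ∈ T, Gs ψ x‖ ^ 2 ≤ (∑ ψ ∈ T, ‖Gs ψ x‖) ^ 2 := by
            apply pow_le_pow_left₀ (norm_nonneg _) (norm_sum_le _ _)
        _ ≤ (T.card : ℝ) * ∑ ψ ∈ T, ‖Gs ψ x‖ ^ 2 := sq_sum_le_card_mul_sum_sq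
    nlinarith [mul_le_mul_of_nonneg_left h4 hβ]
  -- summing
  have hsum : ∑ x : A, ∑ z : Z, ω x * (if z = 0 then α - β else α) *
        ‖∑ ψ : AddChar Z ℂ, Gs ψ x * ψ z‖ ^ 2 =
      ∑ x : A, ω x * ∑ z : Z, (if z = 0 then α - β else α) *
        ‖∑ ψ : AddChar Z ℂ, Gs ψ x * ψ z‖ ^ 2 := by
    apply Finset.sum_congr rfl
    intro x _
    rw [Finset.mul_sum]
    apply Finset.sum_congr rfl
    intro z _
    ring
  rw [hsum]
  calc (α * Fintype.card Z - β * T.card) * (T.card * m)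
      = (α * Fintype.card Z - β * T.card) * ∑ ψ ∈ T, m := by
        rw [Finset.sum_const, nsmul_eq_mul]
    _ ≤ (α * Fintype.card Z - β * T.card) * ∑ ψ ∈ T, ∑ x : A, ω x * ‖Gs ψ x‖ ^ 2 := by
        apply mul_le_mul_of_nonneg_left _ hr
        apply Finset.sum_le_sum
        intro ψ hψ
        exact hm (Gs ψ) (hG ψ) ((hT ψ).mp hψ)
    _ = ∑ x : A, ω x * ((α * Fintype.card Z - β * T.card) * ∑ ψ ∈ T, ‖Gs ψ x‖ ^ 2) := by
        rw [Finset.sum_comm, Finset.mul_sum]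
        apply Finset.sum_congr rfl
        intro x _
        rw [← Finset.mul_sum]
        ring
    _ ≤ _ := by
        apply Finset.sum_le_sum
        intro x _
        exact mul_le_mul_of_nonneg_left (hpt x) (hω x)

end slice


section KI

/-- the key inequality property of a weight function on a finite abelian group -/
def KI {A : Type*} [AddCommGroup A] [Fintype A] (ω : A → ℝ) : Prop :=
  ∀ f : A → ℂ, IsGC f → f ≠ 0 → (Fintype.card A : ℝ) ^ 2 ≤ ∑ x, ω x * ‖f x‖ ^ 2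

theorem KI_base {A : Type*} [AddCommGroup A] [Fintype A] [Unique A] :
    KI (fun _ : A => (1 : ℝ)) := by
  intro f hf hf0
  obtain ⟨a, ha⟩ := hf.apply_zero
  have h0 : (0 : A) = default := Subsingleton.elim _ _
  have hfd : f default ≠ 0 := by
    intro h
    apply hf0
    funext x
    rw [Unique.eq_default x, h]; rfl
  rw [Fintype.sum_unique, Fintype.card_unique, ← h0, ha]
  have ha0 : a ≠ 0 := by
    intro h
    apply hfd
    rw [← h0, ha, h]; simp
  have h1 : (1 : ℝ) ≤ |(a : ℝ)| := by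
    have : (1 : ℤ) ≤ |a| := Int.one_le_abs ha0
    exact_mod_cast this
  have h2 : ‖(a : ℂ)‖ = |(a : ℝ)| := by
    rw [← Complex.ofReal_intCast, Complex.norm_real, Real.norm_eq_abs]
  rw [h2]
  simp only [Nat.cast_one, one_pow, one_mul]
  nlinarith [abs_nonneg (a : ℝ)]

open Classical in
/-- the product weight: `ω x` on `A × {0}`, `ω x * q` elsewhere -/
noncomputable def prodWeight {A Z : Type*} [AddCommGroup Z] (ω : A → ℝ) (q : ℝ) : A × Z → ℝ :=
  fun xz => ω xz.1 * (if xz.2 = 0 then 1 else q)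

theorem prodWeight_zero {A Z : Type*} [AddCommGroup Z] (ω : A → ℝ) (q : ℝ) (x : A) :
    prodWeight (Z := Z) ω q (x, 0) = ω x := by
  simp [prodWeight]

theorem prodWeight_ne {A Z : Type*} [AddCommGroup Z] (ω : A → ℝ) (q : ℝ) (x : A) {z : Z}
    (hz : z ≠ 0) : prodWeight ω q (x, z) = ω x * q := by
  simp [prodWeight, hz]

theorem prodWeight_nonneg {A Z : Type*} [AddCommGroup Z] (ω : A → ℝ) (hω : ∀ x, 0 ≤ ω x) (q : ℝ)
    (hq : 0 ≤ q) (xz : A × Z) : 0 ≤ prodWeight ω q xz := by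
  unfold prodWeight
  apply mul_nonneg (hω _)
  split_ifs
  · exact zero_le_one
  · exact hq

open Classical in
theorem KI_prod {A Z : Type*} [AddCommGroup A] [Fintype A] [AddCommGroup Z] [Fintype Z]
    (ω : A → ℝ) (hω : ∀ x, 0 ≤ ω x) (hKI : KI ω) (q : ℝ)
    (hq : (Fintype.card Z : ℝ) + 1 ≤ q) :
    KI (prodWeight (Z := Z) ω q) := by
  intro F hF hF0
  unfold prodWeight
  set T : Finset (AddChar Z ℂ) := Finset.univ.filter (fun ψ => slice F ψ ≠ 0) with hTdef
  have hT : ∀ ψ, ψ ∈ T ↔ slice F ψ ≠ 0 := by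
    intro ψ; simp [hTdef]
  have hr1 : 1 ≤ T.card := by
    rw [Nat.one_le_iff_ne_zero, Ne, Finset.card_eq_zero]
    intro hempty
    apply hF0
    funext xz
    obtain ⟨x, z⟩ := xz
    rw [slice_inversion F x z]
    apply Finset.sum_eq_zero
    intro ψ _
    have : slice F ψ = 0 := by
      by_contra h
      have := (hT ψ).mpr h
      rw [hempty] at this
      exact absurd this (Finset.notMem_empty ψ)
    rw [this]; simp
  have hr2 : T.card ≤ Fintype.card Z := by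
    calc T.card ≤ (Finset.univ : Finset (AddChar Z ℂ)).card := Finset.card_le_card (Finset.subset_univ T)
      _ = Fintype.card Z := by rw [Finset.card_univ, AddChar.card_eq]
  have hr1' : (1 : ℝ) ≤ T.card := by exact_mod_cast hr1
  have hr2' : (T.card : ℝ) ≤ Fintype.card Z := by exact_mod_cast hr2
  have hn0 : (0 : ℝ) ≤ Fintype.card Z := Nat.cast_nonneg _
  have hr : 0 ≤ q * Fintype.card Z - (q - 1) * T.card := by nlinarith
  have hq1 : (0 : ℝ) ≤ q - 1 := by linarith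
  have key := slice_ineq ω hω q (q - 1) ((Fintype.card A : ℝ) ^ 2) hq1 hKI
    (fun ψ => slice F ψ) (fun ψ => isGC_slice hF ψ) T hT hr
  have hrhs : ∑ x : A, ∑ z : Z, ω x * (if z = 0 then q - (q - 1) else q) *
        ‖∑ ψ : AddChar Z ℂ, slice F ψ x * ψ z‖ ^ 2 =
      ∑ xz : A × Z, ω xz.1 * (if xz.2 = 0 then 1 else q) * ‖F xz‖ ^ 2 := by
    rw [Fintype.sum_prod_type]
    apply Finset.sum_congr rfl
    intro x _
    apply Finset.sum_congr rfl
    intro z _
    rw [← slice_inversion F x z]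
    congr 2
    split_ifs <;> ring
  rw [hrhs] at key
  refine le_trans ?_ key
  rw [Fintype.card_prod]
  push_cast
  have h5 : 0 ≤ q * T.card - Fintype.card Z - T.card := by nlinarith
  have h6 : 0 ≤ ((Fintype.card Z : ℝ) - T.card) * (q * T.card - Fintype.card Z - T.card) :=
    mul_nonneg (by linarith) h5
  have h7 : (Fintype.card Z : ℝ) ^ 2 ≤ (q * Fintype.card Z - (q - 1) * T.card) * T.card := by
    nlinarith
  have h8 : (0 : ℝ) ≤ (Fintype.card A : ℝ) ^ 2 := sq_nonneg _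
  calc ((Fintype.card A : ℝ) * Fintype.card Z) ^ 2
      = (Fintype.card Z : ℝ) ^ 2 * (Fintype.card A : ℝ) ^ 2 := by ring
    _ ≤ ((q * Fintype.card Z - (q - 1) * T.card) * T.card) * (Fintype.card A : ℝ) ^ 2 :=
        mul_le_mul_of_nonneg_right h7 h8
    _ = _ := by ring

theorem KI_mono {A : Type*} [AddCommGroup A] [Fintype A] {ω ω' : A → ℝ} (h : ∀ x, ω x ≤ ω' x)
    (hKI : KI ω) : KI ω' := by
  intro f hf hf0
  refine le_trans (hKI f hf hf0) ?_
  apply Finset.sum_le_sum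
  intro x _
  exact mul_le_mul_of_nonneg_right (h x) (sq_nonneg _)

theorem KI_pullback {A B : Type*} [AddCommGroup A] [Fintype A] [AddCommGroup B] [Fintype B]
    (φ : A →+ B) (hφ : Function.Injective φ) (ω : B → ℝ) (hKI : KI ω) :
    KI (fun a => ω (φ a)) := by
  classical
  intro f hf hf0
  have hA : (Fintype.card A : ℂ) ≠ 0 := by exact_mod_cast Fintype.card_ne_zero
  have hB : (Fintype.card B : ℂ) ≠ 0 := by exact_mod_cast Fintype.card_ne_zero
  set t : ℂ := (Fintype.card B : ℂ) / (Fintype.card A : ℂ) with ht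
  have ht0 : t ≠ 0 := div_ne_zero hB hA
  set F : B → ℂ := fun b => t * ∑ a : A, (if φ a = b then f a else 0) with hFdef
  have hFφ : ∀ a0, F (φ a0) = t * f a0 := by
    intro a0
    simp only [hFdef, hφ.eq_iff]
    rw [Finset.sum_ite_eq' Finset.univ a0]
    simp
  have hcoeff : ∀ ψ : AddChar B ℂ, coeff F ψ = t * coeff f (ψ.compAddMonoidHom φ) := by
    intro ψ
    simp only [coeff, hFdef, Finset.mul_sum, Finset.sum_mul]
    rw [Finset.sum_comm]
    apply Finset.sum_congr rfl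
    intro a _
    have : ∀ b : B, t * (if φ a = b then f a else 0) * conj (ψ b) =
        if φ a = b then t * f a * conj (ψ b) else 0 := by
      intro b; split_ifs <;> ring
    simp_rw [this]
    rw [Finset.sum_ite_eq Finset.univ (φ a)]
    simp [mul_assoc]
  have hFgc : IsGC F := by
    intro ψ
    obtain ⟨k, hk⟩ := hf (ψ.compAddMonoidHom φ)
    refine ⟨k, ?_⟩
    rw [hcoeff, hk, ht]
    field_simp
  have hF0 : F ≠ 0 := by
    intro h
    apply hf0
    funext a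
    have := congrFun h (φ a)
    rw [hFφ] at this
    simpa [ht0] using this
  have hfiber : ∀ b : B, ‖∑ a : A, (if φ a = b then f a else 0)‖ ^ 2 =
      ∑ a : A, (if φ a = b then ‖f a‖ ^ 2 else 0) := by
    intro b
    by_cases hb : ∃ a0, φ a0 = b
    · obtain ⟨a0, rfl⟩ := hb
      simp only [hφ.eq_iff]
      rw [Finset.sum_ite_eq' Finset.univ a0, Finset.sum_ite_eq' Finset.univ a0]
      simp
    · push Not at hb
      have h1 : ∀ a : A, (if φ a = b then f a else 0) = 0 := fun a => if_neg (hb a)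
      have h2 : ∀ a : A, (if φ a = b then ‖f a‖ ^ 2 else 0) = 0 := fun a => if_neg (hb a)
      simp [h1, h2]
  have hsum : ∑ b : B, ω b * ‖F b‖ ^ 2 = ‖t‖ ^ 2 * ∑ a : A, ω (φ a) * ‖f a‖ ^ 2 := by
    simp only [hFdef, norm_mul, mul_pow, hfiber]
    rw [Finset.mul_sum]
    have : ∀ b : B, ω b * (‖t‖ ^ 2 * ∑ a : A, (if φ a = b then ‖f a‖ ^ 2 else 0)) =
        ∑ a : A, (if φ a = b then ‖t‖ ^ 2 * (ω (φ a) * ‖f a‖ ^ 2) else 0) := by
      intro b
      rw [Finset.mul_sum, Finset.mul_sum]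
      apply Finset.sum_congr rfl
      intro a _
      split_ifs with h
      · rw [h]; ring
      · ring
    simp_rw [this]
    rw [Finset.sum_comm]
    apply Finset.sum_congr rfl
    intro a _
    rw [Finset.sum_ite_eq Finset.univ (φ a)]
    simp
  have key := hKI F hFgc hF0
  rw [hsum] at key
  have hnt : ‖t‖ = (Fintype.card B : ℝ) / (Fintype.card A : ℝ) := by
    rw [ht, norm_div]
    simp
  have hA' : (0 : ℝ) < Fintype.card A := by exact_mod_cast Fintype.card_pos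
  have hB' : (0 : ℝ) < Fintype.card B := by exact_mod_cast Fintype.card_pos
  rw [hnt, div_pow, div_mul_eq_mul_div, le_div_iff₀ (by positivity)] at key
  have hB2 : (0 : ℝ) < (Fintype.card B : ℝ) ^ 2 := by positivity
  nlinarith [key]

open Classical in
/-- the "vertical" step: a generalized character of `A × Z` whose value at `0` is not divisible
by `|Z|` has large weighted norm off `A × {0}`. -/
theorem KI_vstep {A Z : Type*} [AddCommGroup A] [Fintype A] [AddCommGroup Z] [Fintype Z]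
    (ω : A → ℝ) (hω : ∀ x, 0 ≤ ω x) (hKI : KI ω) (F : A × Z → ℂ) (hF : IsGC F)
    (hnd : ¬ ∃ k : ℤ, F (0, 0) = (Fintype.card Z : ℂ) * k) :
    ((Fintype.card Z : ℝ) - 1) * (Fintype.card A : ℝ) ^ 2 ≤
      ∑ x : A, ∑ z : Z, ω x * (if z = 0 then 0 else 1) * ‖F (x, z)‖ ^ 2 := by
  set Gs : AddChar Z ℂ → A → ℂ := fun ψ => slice F ψ - slice F 0 with hGs
  have hG : ∀ ψ, IsGC (Gs ψ) := fun ψ => (isGC_slice hF ψ).sub (isGC_slice hF 0)
  set T : Finset (AddChar Z ℂ) := Finset.univ.filter (fun ψ => Gs ψ ≠ 0) with hTdef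
  have hT : ∀ ψ, ψ ∈ T ↔ Gs ψ ≠ 0 := by
    intro ψ; simp [hTdef]
  have h0T : (0 : AddChar Z ℂ) ∉ T := by
    rw [hT]
    simp [hGs]
  have hr2 : T.card + 1 ≤ Fintype.card Z := by
    have h1 : (insert (0 : AddChar Z ℂ) T).card = T.card + 1 := Finset.card_insert_of_notMem h0T
    rw [← h1]
    calc (insert (0 : AddChar Z ℂ) T).card ≤ (Finset.univ : Finset (AddChar Z ℂ)).card :=
          Finset.card_le_card (Finset.subset_univ _)
      _ = Fintype.card Z := by rw [Finset.card_univ, AddChar.card_eq]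
  have hr1 : 1 ≤ T.card := by
    rw [Nat.one_le_iff_ne_zero, Ne, Finset.card_eq_zero]
    intro hempty
    apply hnd
    have hall : ∀ ψ : AddChar Z ℂ, slice F ψ = slice F 0 := by
      intro ψ
      by_contra h
      have h' : Gs ψ ≠ 0 := by
        simp only [hGs]
        intro h2
        exact h (sub_eq_zero.mp h2)
      have := (hT ψ).mpr h'
      rw [hempty] at this
      exact absurd this (Finset.notMem_empty ψ)
    obtain ⟨k, hk⟩ := (isGC_slice hF (0 : AddChar Z ℂ)).apply_zero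
    refine ⟨k, ?_⟩
    rw [slice_inversion F 0 0]
    simp only [AddChar.map_zero_eq_one, mul_one]
    simp_rw [hall]
    rw [Finset.sum_const, Finset.card_univ, AddChar.card_eq, nsmul_eq_mul, hk]
  have hr1' : (1 : ℝ) ≤ T.card := by exact_mod_cast hr1
  have hr2' : (T.card : ℝ) + 1 ≤ Fintype.card Z := by exact_mod_cast hr2
  have hr : 0 ≤ (1 : ℝ) * Fintype.card Z - 1 * T.card := by linarith
  have key := slice_ineq ω hω 1 1 ((Fintype.card A : ℝ) ^ 2) zero_le_one hKI Gs hG T hT hr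
  have hrhs : ∑ x : A, ∑ z : Z, ω x * (if z = 0 then (1 : ℝ) - 1 else 1) *
        ‖∑ ψ : AddChar Z ℂ, Gs ψ x * ψ z‖ ^ 2 =
      ∑ x : A, ∑ z : Z, ω x * (if z = 0 then 0 else 1) * ‖F (x, z)‖ ^ 2 := by
    apply Finset.sum_congr rfl
    intro x _
    apply Finset.sum_congr rfl
    intro z _
    by_cases hz : z = 0
    · simp [hz]
    · rw [if_neg hz, if_neg hz]
      congr 2
      rw [slice_inversion F x z]
      simp only [hGs, Pi.sub_apply, sub_mul]
      rw [Finset.sum_sub_distrib, ← Finset.mul_sum]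
      have : ∑ ψ : AddChar Z ℂ, ψ z = 0 := by
        rw [AddChar.sum_apply_eq_ite, if_neg hz]
      rw [this, mul_zero, sub_zero]
  rw [hrhs] at key
  refine le_trans ?_ key
  have h8 : (0 : ℝ) ≤ (Fintype.card A : ℝ) ^ 2 := sq_nonneg _
  have h6 : 0 ≤ ((T.card : ℝ) - 1) * ((Fintype.card Z : ℝ) - 1 - T.card) :=
    mul_nonneg (by linarith) (by linarith)
  have h7 : (Fintype.card Z : ℝ) - 1 ≤ (1 * Fintype.card Z - 1 * T.card) * T.card := by
    nlinarith
  calc ((Fintype.card Z : ℝ) - 1) * (Fintype.card A : ℝ) ^ 2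
      ≤ ((1 * Fintype.card Z - 1 * T.card) * T.card) * (Fintype.card A : ℝ) ^ 2 :=
        mul_le_mul_of_nonneg_right h7 h8
    _ = _ := by ring

end KI

end Cfsg.Agent.Lib.Helper20_AbelFourier
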