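import Mathlib.GroupTheory.Sylow
import Mathlib.Data.Fintype.Lattice
import Cfsg.Prelude.Def_Transfer

/-!
helper49: the Thompson subgroup `Cfsg.thompsonSubgroupOf` described inside the ambient group and its
behaviour under automorphisms. The first part (up to `sylow_smul_eq_map`) is copied from helper88's
`Cfsg/Agent/S5306.lean` (so that this file does not depend on a statement file); the rest is new.
-/

set_option autoImplicit false

namespace Cfsg.Agent.Lib.Helper49_Thompson

open Cfsg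

variable {X : Type*} [Group X]

/-- elementwise form of elementary abelian -/
def EA (p : ℕ) (B : Subgroup X) : Prop :=
  (∀ a ∈ B, ∀ b ∈ B, a * b = b * a) ∧ ∀ a ∈ B, a ^ p = 1

theorem isEA_iff {Y : Type*} [Group Y] (p : ℕ) (B : Subgroup Y) : Cfsg.IsElementaryAbelian p B ↔ EA p B := by
  unfold Cfsg.IsElementaryAbelian EA
  constructor
  · rintro ⟨h1, h2⟩
    refine ⟨fun a ha b hb => ?_, h2⟩
    have := h1.is_comm.comm ⟨a, ha⟩ ⟨b, hb⟩
    exact congrArg Subtype.val this
  · rintro ⟨h1, h2⟩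
    refine ⟨⟨⟨fun a b => ?_⟩⟩, h2⟩
    exact Subtype.ext (h1 a a.2 b b.2)

/-- The family of elementary abelian subgroups of `Q` of largest order. -/
def maxEA (p : ℕ) (Q : Subgroup X) : Set (Subgroup X) :=
  {B | B ≤ Q ∧ EA p B ∧ ∀ C : Subgroup X, C ≤ Q → EA p C → Nat.card C ≤ Nat.card B}

/-- Thompson subgroup, described inside the ambient group. -/
def JJ (p : ℕ) (Q : Subgroup X) : Subgroup X := sSup (maxEA p Q)

theorem EA_map_subtype (p : ℕ) (Q : Subgroup X) (A : Subgroup Q) :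
    EA p (A.map Q.subtype) ↔ EA p A := by
  unfold EA
  constructor
  · rintro ⟨h1, h2⟩
    refine ⟨fun a ha b hb => ?_, fun a ha => ?_⟩
    · apply Subtype.ext
      exact h1 a ⟨a, ha, rfl⟩ b ⟨b, hb, rfl⟩
    · apply Subtype.ext
      have := h2 a ⟨a, ha, rfl⟩
      simpa using this
  · rintro ⟨h1, h2⟩
    refine ⟨?_, ?_⟩
    · rintro _ ⟨a, ha, rfl⟩ _ ⟨b, hb, rfl⟩
      exact congrArg Subtype.val (h1 a ha b hb)
    · rintro _ ⟨a, ha, rfl⟩
      have := congrArg Subtype.val (h2 a ha)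
      simpa using this

theorem card_map_subtype (Q : Subgroup X) (A : Subgroup Q) :
    Nat.card (A.map Q.subtype) = Nat.card A :=
  (Nat.card_congr (A.equivMapOfInjective Q.subtype Q.subtype_injective).toEquiv).symm

theorem thompson_eq_JJ (p : ℕ) (Q : Subgroup X) : Cfsg.thompsonSubgroupOf p Q = JJ p Q := by
  unfold Cfsg.thompsonSubgroupOf Cfsg.thompsonSubgroup JJ
  rw [(Subgroup.gc_map_comap Q.subtype).l_sSup]
  apply le_antisymm
  · refine iSup₂_le fun A hA => ?_
    apply le_sSup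
    obtain ⟨hA1, hA2⟩ := hA
    refine ⟨?_, ?_, ?_⟩
    · exact Subgroup.map_subtype_le A
    · exact (EA_map_subtype p Q A).2 ((isEA_iff p A).1 hA1)
    · intro C hC hCE
      have hC' : C = (C.subgroupOf Q).map Q.subtype := by
        rw [Subgroup.map_subgroupOf_eq_of_le hC]
      rw [hC', card_map_subtype, card_map_subtype]
      apply hA2
      rw [isEA_iff, ← EA_map_subtype, ← hC']
      exact hCE
  · refine sSup_le fun B hB => ?_
    obtain ⟨hB1, hB2, hB3⟩ := hB
    have hB' : B = (B.subgroupOf Q).map Q.subtype := by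
      rw [Subgroup.map_subgroupOf_eq_of_le hB1]
    rw [hB']
    refine le_iSup₂_of_le (B.subgroupOf Q) ?_ le_rfl
    refine ⟨?_, ?_⟩
    · rw [isEA_iff, ← EA_map_subtype, ← hB']
      exact hB2
    · intro A hA
      rw [← card_map_subtype Q A, ← card_map_subtype Q (B.subgroupOf Q), ← hB']
      apply hB3
      · exact Subgroup.map_subtype_le A
      · exact (EA_map_subtype p Q A).2 ((isEA_iff p A).1 hA)


theorem EA_map_equiv (p : ℕ) (e : X ≃* X) (B : Subgroup X) :
    EA p (B.map e.toMonoidHom) ↔ EA p B := by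
  unfold EA
  constructor
  · rintro ⟨h1, h2⟩
    refine ⟨fun a ha b hb => ?_, fun a ha => ?_⟩
    · apply e.injective
      have := h1 (e a) ⟨a, ha, rfl⟩ (e b) ⟨b, hb, rfl⟩
      simpa using this
    · apply e.injective
      have := h2 (e a) ⟨a, ha, rfl⟩
      simpa using this
  · rintro ⟨h1, h2⟩
    refine ⟨?_, ?_⟩
    · rintro _ ⟨a, ha, rfl⟩ _ ⟨b, hb, rfl⟩
      have := congrArg e (h1 a ha b hb)
      simpa using this
    · rintro _ ⟨a, ha, rfl⟩
      have := congrArg e (h2 a ha)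
      simpa using this

theorem card_map_equiv (e : X ≃* X) (B : Subgroup X) :
    Nat.card (B.map e.toMonoidHom) = Nat.card B :=
  (Nat.card_congr (B.equivMapOfInjective e.toMonoidHom e.injective).toEquiv).symm

theorem map_symm_map (e : X ≃* X) (B : Subgroup X) :
    (B.map e.symm.toMonoidHom).map e.toMonoidHom = B := by
  ext x
  constructor
  · rintro ⟨_, ⟨b, hb, rfl⟩, rfl⟩
    simpa using hb
  · intro hx
    exact ⟨e.symm x, ⟨x, hx, rfl⟩, by simp⟩

theorem map_map_symm (e : X ≃* X) (B : Subgroup X) :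
    (B.map e.toMonoidHom).map e.symm.toMonoidHom = B := by
  have := map_symm_map e.symm B
  simpa using this

theorem maxEA_map (p : ℕ) (e : X ≃* X) (Q B : Subgroup X) (hB : B ∈ maxEA p Q) :
    B.map e.toMonoidHom ∈ maxEA p (Q.map e.toMonoidHom) := by
  obtain ⟨h1, h2, h3⟩ := hB
  refine ⟨Subgroup.map_mono h1, (EA_map_equiv p e B).2 h2, ?_⟩
  intro C hC hCE
  rw [card_map_equiv, ← card_map_equiv e.symm C]
  apply h3
  · have := Subgroup.map_mono (f := e.symm.toMonoidHom) hC
    rwa [map_map_symm] at this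
  · exact (EA_map_equiv p e.symm C).2 hCE

theorem JJ_map (p : ℕ) (e : X ≃* X) (Q : Subgroup X) :
    JJ p (Q.map e.toMonoidHom) = (JJ p Q).map e.toMonoidHom := by
  unfold JJ
  rw [(Subgroup.gc_map_comap e.toMonoidHom).l_sSup]
  apply le_antisymm
  · refine sSup_le fun B hB => ?_
    have h := maxEA_map p e.symm _ B hB
    rw [map_map_symm] at h
    rw [← map_symm_map e B]
    exact le_iSup₂_of_le _ h le_rfl
  · refine iSup₂_le fun B hB => ?_
    exact le_sSup (maxEA_map p e Q B hB)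

theorem JJ_le (p : ℕ) (Q : Subgroup X) : JJ p Q ≤ Q :=
  sSup_le fun _ hB => hB.1

theorem exists_maxEA [Finite X] (p : ℕ) (Q : Subgroup X) : ∃ B, B ∈ maxEA p Q := by
  have hne : Nonempty {B : Subgroup X // B ≤ Q ∧ EA p B} :=
    ⟨⟨⊥, bot_le, by
      refine ⟨?_, ?_⟩
      · intro a ha b hb
        rw [Subgroup.mem_bot] at ha hb
        rw [ha, hb]
      · intro a ha
        rw [Subgroup.mem_bot] at ha
        rw [ha, one_pow]⟩⟩
  obtain ⟨B₀, hB₀⟩ := Finite.exists_max (fun B : {B : Subgroup X // B ≤ Q ∧ EA p B} => Nat.card B.1)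
  exact ⟨B₀.1, B₀.2.1, B₀.2.2, fun C hC hCE => hB₀ ⟨C, hC, hCE⟩⟩

/-- Key lemma: a subgroup between `J(P₁)` and a conjugate of `P₁` has the same Thompson subgroup. -/
theorem JJ_eq_of_le [Finite X] (p : ℕ) (P₁ Q : Subgroup X) (e : X ≃* X) (h1 : JJ p P₁ ≤ Q)
    (h2 : Q ≤ P₁.map e.toMonoidHom) : JJ p Q = JJ p P₁ := by
  obtain ⟨B₀, hB₀⟩ := exists_maxEA p P₁
  have hsub1 : maxEA p P₁ ⊆ maxEA p Q := by
    intro B hB
    refine ⟨le_trans (le_sSup hB) h1, hB.2.1, ?_⟩
    intro C hC hCE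
    rw [← card_map_equiv e.symm C]
    apply hB.2.2
    · have := Subgroup.map_mono (f := e.symm.toMonoidHom) (le_trans hC h2)
      rwa [map_map_symm] at this
    · exact (EA_map_equiv p e.symm C).2 hCE
  have hsub2 : maxEA p Q ⊆ maxEA p (P₁.map e.toMonoidHom) := by
    intro B hB
    refine ⟨le_trans hB.1 h2, hB.2.1, ?_⟩
    intro C hC hCE
    have hB₀Q := hsub1 hB₀
    refine le_trans ?_ (hB.2.2 B₀ hB₀Q.1 hB₀Q.2.1)
    rw [← card_map_equiv e.symm C]
    apply hB₀.2.2
    · have := Subgroup.map_mono (f := e.symm.toMonoidHom) hC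
      rwa [map_map_symm] at this
    · exact (EA_map_equiv p e.symm C).2 hCE
  have hle1 : JJ p P₁ ≤ JJ p Q := sSup_le_sSup hsub1
  have hle2 : JJ p Q ≤ JJ p (P₁.map e.toMonoidHom) := sSup_le_sSup hsub2
  symm
  apply Subgroup.eq_of_le_of_card_ge hle1
  calc Nat.card (JJ p Q) ≤ Nat.card (JJ p (P₁.map e.toMonoidHom)) := Subgroup.card_le_of_le hle2
    _ = Nat.card (JJ p P₁) := by rw [JJ_map, card_map_equiv]


theorem conj_map_mem_iff (n : X) (J : Subgroup X) (z : X) :
    z ∈ J.map (MulAut.conj n).toMonoidHom ↔ n⁻¹ * z * n ∈ J := by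
  constructor
  · rintro ⟨j, hj, rfl⟩
    simpa [mul_assoc] using hj
  · intro h
    refine ⟨n⁻¹ * z * n, h, ?_⟩
    simp [mul_assoc]

theorem sylow_smul_eq_map {p : ℕ} (h : X) (P : Sylow p X) :
    ((h • P : Sylow p X) : Subgroup X) = (P : Subgroup X).map (MulAut.conj h).toMonoidHom := by
  rw [Sylow.coe_subgroup_smul, Subgroup.pointwise_smul_def]
  rfl


/-- The Thompson subgroup commutes with automorphisms of the ambient group. -/
theorem thompsonSubgroupOf_map (p : ℕ) (e : X ≃* X) (Q : Subgroup X) :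
    Cfsg.thompsonSubgroupOf p (Q.map e.toMonoidHom) =
      (Cfsg.thompsonSubgroupOf p Q).map e.toMonoidHom := by
  rw [thompson_eq_JJ, thompson_eq_JJ, JJ_map]

theorem thompsonSubgroupOf_le (p : ℕ) (Q : Subgroup X) : Cfsg.thompsonSubgroupOf p Q ≤ Q := by
  rw [thompson_eq_JJ]; exact JJ_le p Q

/-- If `g` normalizes `Q` then conjugation by `g` fixes `Q`. -/
theorem map_conj_eq_of_mem_normalizer {Q : Subgroup X} {g : X}
    (hg : g ∈ Subgroup.normalizer (Q : Set X)) : Q.map (MulAut.conj g).toMonoidHom = Q := by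
  ext z
  rw [conj_map_mem_iff]
  exact ((Subgroup.mem_normalizer_iff''.mp hg) z).symm

/-- If conjugation by `g` fixes `Q` then `g` normalizes `Q`. -/
theorem mem_normalizer_of_map_conj_eq {Q : Subgroup X} {g : X}
    (hg : Q.map (MulAut.conj g).toMonoidHom = Q) : g ∈ Subgroup.normalizer (Q : Set X) := by
  rw [Subgroup.mem_normalizer_iff'']
  intro z
  rw [← conj_map_mem_iff, hg]

/-- The normalizer of `Q` normalizes the Thompson subgroup of `Q`. -/
theorem normalizer_le_normalizer_thompson (p : ℕ) (Q : Subgroup X) :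
    Subgroup.normalizer (Q : Set X) ≤ Subgroup.normalizer (Cfsg.thompsonSubgroupOf p Q : Set X) := by
  intro g hg
  apply mem_normalizer_of_map_conj_eq
  rw [← thompsonSubgroupOf_map, map_conj_eq_of_mem_normalizer hg]

end Cfsg.Agent.Lib.Helper49_Thompson
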