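import Mathlib
import Cfsg.Prelude.Def_Solvable
import Cfsg.Prelude.Def_Transfer

/-!
# S3905 (normal subgroup with maximal centralizers): abstract action set-up (helper51)

`Γ` is the group `N / Z(N)`, `G` acts on it through `ρ : G →* MulAut Γ`.
* `St ρ x`   : the stabilizer in `G` of the point `x : Γ`;
* `Hyp ρ`    : every inner automorphism of `Γ` is induced by `G`, `Z(Γ) = 1`, and all point
               stabilizers `St ρ x` (`x ≠ 1`) are maximal subgroups of `G`;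
* `Inv ρ x T`: the subgroup `T ≤ Γ` is stable under `St ρ x`;
* `Comp ρ x` : the fixed points in `Γ` of `St ρ x`;
* `Cn x`     : the centralizer of `x` in `Γ`.
Paper proof: `pending/helper51/S3905_proof.md`.
-/

set_option autoImplicit false

namespace Cfsg.Agent.Lib.Helper51_CMDefs

variable {G Γ : Type*} [Group G] [Group Γ]

/-- The stabilizer in `G` of the point `x : Γ`. -/
def St (ρ : G →* MulAut Γ) (x : Γ) : Subgroup G where
  carrier := {g | ρ g x = x}
  mul_mem' := by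
    intro a b ha hb
    change ρ (a * b) x = x
    rw [map_mul, MulAut.mul_apply, show ρ b x = x from hb, show ρ a x = x from ha]
  one_mem' := by simp
  inv_mem' := by
    intro a ha
    change ρ a⁻¹ x = x
    have h1 : ρ a x = x := ha
    rw [map_inv]
    calc (ρ a)⁻¹ x = (ρ a)⁻¹ (ρ a x) := by rw [h1]
      _ = x := MulAut.inv_apply_self _ _ _

theorem mem_St {ρ : G →* MulAut Γ} {x : Γ} {g : G} : g ∈ St ρ x ↔ ρ g x = x := Iff.rfl

/-- The centralizer of the element `x`. -/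
abbrev Cn (x : Γ) : Subgroup Γ := Subgroup.centralizer ({x} : Set Γ)

theorem mem_Cn {x c : Γ} : c ∈ Cn x ↔ c * x = x * c :=
  Subgroup.mem_centralizer_singleton_iff

theorem self_mem_Cn (x : Γ) : x ∈ Cn x := mem_Cn.mpr rfl

/-- The hypotheses on the action. -/
structure Hyp (ρ : G →* MulAut Γ) : Prop where
  inn : ∀ n : Γ, ∃ g : G, ρ g = MulAut.conj n
  cz : ∀ n : Γ, (∀ m : Γ, m * n = n * m) → n = 1
  max : ∀ x : Γ, x ≠ 1 → IsCoatom (St ρ x)

/-- `T` is stable under the stabilizer of `x`. -/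
def Inv (ρ : G →* MulAut Γ) (x : Γ) (T : Subgroup Γ) : Prop :=
  ∀ g ∈ St ρ x, ∀ t ∈ T, ρ g t ∈ T

/-- The fixed points of the stabilizer of `x`. -/
def Comp (ρ : G →* MulAut Γ) (x : Γ) : Subgroup Γ where
  carrier := {y | ∀ g ∈ St ρ x, ρ g y = y}
  mul_mem' := by
    intro a b ha hb g hg
    rw [map_mul, ha g hg, hb g hg]
  one_mem' := by
    intro g _
    exact map_one _
  inv_mem' := by
    intro a ha g hg
    rw [map_inv, ha g hg]

theorem mem_Comp {ρ : G →* MulAut Γ} {x y : Γ} : y ∈ Comp ρ x ↔ ∀ g ∈ St ρ x, ρ g y = y :=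
  Iff.rfl

theorem self_mem_Comp (ρ : G →* MulAut Γ) (x : Γ) : x ∈ Comp ρ x := fun _ hg => hg

/-- An automorphism maps the centralizer of `x` onto the centralizer of its image. -/
theorem map_mem_Cn (α : MulAut Γ) {x c : Γ} (hc : c ∈ Cn x) : α c ∈ Cn (α x) := by
  rw [mem_Cn] at hc ⊢
  rw [← map_mul, ← map_mul, hc]

theorem map_mem_Cn_iff (α : MulAut Γ) {x c : Γ} : α c ∈ Cn (α x) ↔ c ∈ Cn x := by
  refine ⟨fun h => ?_, map_mem_Cn α⟩
  have := map_mem_Cn α⁻¹ h
  simpa using this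

/-- The centralizer of `x` is stable under the stabilizer of `x`. -/
theorem inv_Cn (ρ : G →* MulAut Γ) (x : Γ) : Inv ρ x (Cn x) := by
  intro g hg t ht
  have := map_mem_Cn (ρ g) ht
  rwa [mem_St.mp hg] at this

/-- If `ρ g` is conjugation by `n`, then `g` fixes `x` iff `n` centralizes `x`. -/
theorem mem_St_iff_of_conj {ρ : G →* MulAut Γ} {g : G} {n : Γ} (hg : ρ g = MulAut.conj n)
    (x : Γ) : g ∈ St ρ x ↔ n ∈ Cn x := by
  rw [mem_St, hg, MulAut.conj_apply, mem_Cn, mul_inv_eq_iff_eq_mul]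

/-- `O_p(Γ)`, as the normal core of a Sylow `p`-subgroup. -/
abbrev Op {p : ℕ} (P : Sylow p Γ) : Subgroup Γ := (P : Subgroup Γ).normalCore

/-- The image of the Sylow subgroup `P` in `Γ ⧸ O_p(Γ)`. -/
abbrev Pbar {p : ℕ} (P : Sylow p Γ) : Subgroup (Γ ⧸ Op P) :=
  (P : Subgroup Γ).map (QuotientGroup.mk' (Op P))

/-- "No between": a subgroup `T ≥ P` stable under all automorphisms stabilizing `P` is `P` or `⊤`. -/
def NB (P : Subgroup Γ) : Prop :=
  ∀ T : Subgroup Γ, P ≤ T →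
    (∀ α : MulAut Γ, (∀ x ∈ P, α x ∈ P) → ∀ t ∈ T, α t ∈ T) → T = P ∨ T = ⊤

/-- Centralizers of non-trivial elements of order `p` have exponent `p`. -/
def CentP (Γ : Type*) [Group Γ] (p : ℕ) : Prop :=
  ∀ u : Γ, u ≠ 1 → u ^ p = 1 → ∀ c : Γ, c * u = u * c → c ^ p = 1

/-- The bad configuration of Part 2 of the proof (shown to be impossible). -/
structure Bad (p : ℕ) (P : Sylow p Γ) : Prop where
  hp : p.Prime
  hp2 : p ≠ 2
  exp : ∀ x ∈ (P : Subgroup Γ), x ^ p = 1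
  nonab : ∃ a ∈ (P : Subgroup Γ), ∃ b ∈ (P : Subgroup Γ), a * b ≠ b * a
  cent : CentP Γ p
  nb : NB (P : Subgroup Γ)
  nn : ¬ (P : Subgroup Γ).Normal

/-- All centralizers of non-identity elements are abelian. -/
def CA (Γ : Type*) [Group Γ] : Prop :=
  ∀ x : Γ, x ≠ 1 → ∀ a ∈ Cn x, ∀ b ∈ Cn x, a * b = b * a

/-- The Frobenius configuration produced by Part 3 of the proof. -/
structure FrobData (ρ : G →* MulAut Γ) (A B : Subgroup Γ) : Prop where
  normalA : A.Normal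
  neA : A ≠ ⊥
  neB : B ≠ ⊥
  inf : A ⊓ B = ⊥
  card : Nat.card A * Nat.card B = Nat.card Γ
  cnA : ∀ a ∈ A, a ≠ 1 → Cn a = A
  cnB : ∀ b ∈ B, b ≠ 1 → Cn b = B
  stabA : ∀ g : G, ∀ a ∈ A, ρ g a ∈ A
  cover : ∀ x : Γ, x ∈ A ∨ ∃ g : Γ, g⁻¹ * x * g ∈ B
  frob : Cfsg.IsFrobeniusComplement B
  ker : (A : Set Γ) = Cfsg.frobeniusKernel B

end Cfsg.Agent.Lib.Helper51_CMDefs
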