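import Mathlib
import Cfsg.Prelude.Def_Solvable
import Cfsg.Prelude.Def_Transfer
import Cfsg.Agent.Lib.Helper51_CMDefs
import Cfsg.Agent.Lib.Helper49_Thompson

/-!
# S3905 package CM-DQ-CHAR (architect helper51): the Thompson subgroup `J(R)` and the centre `Z(R)`
are characteristic in `R`: automorphisms of the ambient group stabilising `R` stabilise `N(J(R))`
and `C(Z(R))`; `R ≤ N(J(R))`.
-/

set_option autoImplicit false
open Cfsg Cfsg.Agent.Lib.Helper51_CMDefs

namespace Cfsg.Agent.Lib.Helper31_CM_DQ_CHAR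

variable {G Γ : Type*} [Group G] [Group Γ] {ρ : G →* MulAut Γ}

/-- membership in a subgroup stable under an automorphism -/
theorem apply_mem_iff_of_map_eq {X : Type*} [Group X] (β : MulAut X) {J : Subgroup X}
    (hJ : J.map β.toMonoidHom = J) (n : X) : β n ∈ J ↔ n ∈ J := by
  conv_lhs => rw [← hJ]
  exact Subgroup.mem_map_iff_mem (f := β.toMonoidHom) β.injective

theorem normalizer_thompson_stable {X : Type*} [Group X] (p : ℕ) (β : MulAut X) (R : Subgroup X)
    (hR : R.map β.toMonoidHom = R) (y : X)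
    (hy : y ∈ Subgroup.normalizer (Cfsg.thompsonSubgroupOf p R : Set X)) :
    β y ∈ Subgroup.normalizer (Cfsg.thompsonSubgroupOf p R : Set X) := by
  have hJ : (Cfsg.thompsonSubgroupOf p R).map β.toMonoidHom = Cfsg.thompsonSubgroupOf p R := by
    rw [← Cfsg.Agent.Lib.Helper49_Thompson.thompsonSubgroupOf_map p β R, hR]
  rw [Subgroup.mem_normalizer_iff] at hy ⊢
  intro n
  obtain ⟨n', rfl⟩ := β.surjective n
  have e : β y * β n' * (β y)⁻¹ = β (y * n' * y⁻¹) := by
    rw [map_mul, map_mul, map_inv]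
  rw [e, apply_mem_iff_of_map_eq β hJ, apply_mem_iff_of_map_eq β hJ]
  exact hy n'

theorem centralizer_center_stable {X : Type*} [Group X] (β : MulAut X) (R : Subgroup X)
    (hR : R.map β.toMonoidHom = R) (y : X)
    (hy : y ∈ Subgroup.centralizer ((R ⊓ Subgroup.centralizer (R : Set X) : Subgroup X) : Set X)) :
    β y ∈ Subgroup.centralizer ((R ⊓ Subgroup.centralizer (R : Set X) : Subgroup X) : Set X) := by
  rw [Subgroup.mem_centralizer_iff] at hy ⊢
  intro z hz
  obtain ⟨z', rfl⟩ := β.surjective z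
  have hz' : z' ∈ (R ⊓ Subgroup.centralizer (R : Set X) : Subgroup X) := by
    have hz1 : β z' ∈ R := hz.1
    have hz2 : β z' ∈ Subgroup.centralizer (R : Set X) := hz.2
    refine ⟨(apply_mem_iff_of_map_eq β hR z').mp hz1, ?_⟩
    show z' ∈ Subgroup.centralizer (R : Set X)
    rw [Subgroup.mem_centralizer_iff] at hz2 ⊢
    intro r hr
    have hr' : β r ∈ R := (apply_mem_iff_of_map_eq β hR r).mpr hr
    have h1 := hz2 (β r) hr'
    rw [← map_mul, ← map_mul] at h1
    exact β.injective h1
  have h1 := hy z' hz'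
  rw [← map_mul, ← map_mul, h1]

theorem le_normalizer_thompson {X : Type*} [Group X] (p : ℕ) (R : Subgroup X) :
    R ≤ Subgroup.normalizer (Cfsg.thompsonSubgroupOf p R : Set X) := by
  intro r hr
  apply Cfsg.Agent.Lib.Helper49_Thompson.mem_normalizer_of_map_conj_eq
  rw [← Cfsg.Agent.Lib.Helper49_Thompson.thompsonSubgroupOf_map p (MulAut.conj r) R,
    Cfsg.Agent.Lib.Helper49_Thompson.map_conj_eq_of_mem_normalizer (Subgroup.le_normalizer hr)]

end Cfsg.Agent.Lib.Helper31_CM_DQ_CHAR
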