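import Mathlib
import Cfsg.Prelude.Def_Solvable
import Cfsg.Prelude.Def_Transfer
import Cfsg.Agent.Lib.Helper51_CMDefs

/-!
# S3905 package CM-DQ-IND (architect helper51): an automorphism stabilising a Sylow subgroup `P`
stabilises its normal core `Op P` and induces an automorphism of the quotient stabilising the image
of `P`.
-/

set_option autoImplicit false
open Cfsg Cfsg.Agent.Lib.Helper51_CMDefs

namespace Cfsg.Agent.Lib.Helper31_CM_DQ_IND

variable {G Γ : Type*} [Group G] [Group Γ] {ρ : G →* MulAut Γ}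

/-- in a finite group, an automorphism mapping a subgroup into itself maps it onto itself -/
theorem map_eq_of_forall_mem [Finite Γ] (H : Subgroup Γ) (α : MulAut Γ)
    (hα : ∀ x ∈ H, α x ∈ H) : H.map α.toMonoidHom = H := by
  have hle : H.map α.toMonoidHom ≤ H := by
    rintro _ ⟨x, hx, rfl⟩
    exact hα x hx
  have hcard : Nat.card ↥(H.map α.toMonoidHom) = Nat.card ↥H :=
    Nat.card_congr (H.equivMapOfInjective α.toMonoidHom α.injective).toEquiv.symm
  exact Subgroup.eq_of_le_of_card_ge hle (le_of_eq hcard.symm)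

/-- the normal core of a subgroup stable under an automorphism is stable -/
theorem normalCore_map_eq [Finite Γ] (H : Subgroup Γ) (α : MulAut Γ)
    (hα : ∀ x ∈ H, α x ∈ H) : H.normalCore.map α.toMonoidHom = H.normalCore := by
  apply map_eq_of_forall_mem
  intro a ha b
  obtain ⟨b', rfl⟩ := α.surjective b
  have h1 : α b' * α a * (α b')⁻¹ = α (b' * a * b'⁻¹) := by
    rw [map_mul, map_mul, map_inv]
  rw [h1]
  exact hα _ (ha b')

/-- CM-DQ-IND.  An automorphism stabilizing `P` stabilizes `Op P` and induces an automorphism of the quotient. -/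
theorem exists_induced [Finite Γ] {p : ℕ} (P : Sylow p Γ) (α : MulAut Γ)
    (hα : ∀ x ∈ (P : Subgroup Γ), α x ∈ (P : Subgroup Γ)) :
    ∃ β : MulAut (Γ ⧸ Op P), (∀ x : Γ, β (QuotientGroup.mk x) = QuotientGroup.mk (α x)) ∧
      (Pbar P).map β.toMonoidHom = Pbar P := by
  have hP : (P : Subgroup Γ).map α.toMonoidHom = (P : Subgroup Γ) :=
    map_eq_of_forall_mem (P : Subgroup Γ) α hα
  have hOp : (Op P).map (α : Γ →* Γ) = Op P := normalCore_map_eq (P : Subgroup Γ) α hα
  refine ⟨QuotientGroup.congr (Op P) (Op P) α hOp, fun x => rfl, ?_⟩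
  have hcomp : (QuotientGroup.congr (Op P) (Op P) α hOp).toMonoidHom.comp (QuotientGroup.mk' (Op P))
      = (QuotientGroup.mk' (Op P)).comp α.toMonoidHom := by
    ext x
    rfl
  show ((P : Subgroup Γ).map (QuotientGroup.mk' (Op P))).map
      (QuotientGroup.congr (Op P) (Op P) α hOp).toMonoidHom
    = (P : Subgroup Γ).map (QuotientGroup.mk' (Op P))
  rw [Subgroup.map_map, hcomp, ← Subgroup.map_map, hP]

end Cfsg.Agent.Lib.Helper31_CM_DQ_IND
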