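import Mathlib
import Cfsg.Prelude.Def_Solvable
import Cfsg.Prelude.Def_Transfer
import Cfsg.Agent.Lib.Helper51_CMDefs

/-!
# S3905 market (architect helper51), package CM-DQ-PC: a `p`-group has a normal `p`-complement
-/

set_option autoImplicit false
open Cfsg Cfsg.Agent.Lib.Helper51_CMDefs

namespace Cfsg.Agent.Lib.Helper82_CM_DQ_PC

variable {G Γ : Type*} [Group G] [Group Γ] {ρ : G →* MulAut Γ}

/- ===== CM-DQ-PC (S) : pure.  A `p`-group has a normal `p`-complement (Sylow = ⊤, complement ⊥). -/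
theorem hasNormalPComplement_of_isPGroup {X : Type*} [Group X] [Finite X] {p : ℕ} [Fact p.Prime]
    (hX : IsPGroup p X) : Cfsg.HasNormalPComplement p X := by
  have hT : IsPGroup p ↥(⊤ : Subgroup X) := hX.to_subgroup _
  obtain ⟨Q, hQ⟩ := hT.exists_le_sylow
  have hQtop : (Q : Subgroup X) = ⊤ := top_le_iff.mp hQ
  refine ⟨Q, ⊥, inferInstance, ?_⟩
  rw [hQtop]
  exact Subgroup.isComplement'_bot_top

end Cfsg.Agent.Lib.Helper82_CM_DQ_PC
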