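import Mathlib

/-!
Helper library (helper72): quadratic action of a `p`-element (`p` odd).

* `quadratic_commute`: ring-theoretic core.  In a ring with `p = 0`, `p` odd, let `ρ : X →* R`,
  `x` with `(ρ x - 1)^2 = 0`, and `K ≤ X` normalised by `x` with `ρ K` commutative of exponent
  `m` prime to `p`.  Then `ρ x` commutes with `ρ K`.
  (Proof: with `N = ρ x - 1`, `e = ρ k`, the second difference of `i ↦ x⁻ⁱ e xⁱ` is `-2 N e N`,
  a nilpotent element of the commutative reduced algebra spanned by `ρ K`, hence `0`; then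
  `e N - N e` is nilpotent as well.  Reducedness is seen via Frobenius: `r ^ (p ^ j) = r` for
  `p ^ j ≡ 1 mod m`.)
* `conj_eq_of_conj_eq_on_omega`: a `p'`-element normalising an abelian `p`-group `A` and
  centralising `Ω₁(A)` centralises `A`.
-/

set_option autoImplicit false

namespace Cfsg.Agent.Lib.Helper72_Quadratic

section Ring

variable {R : Type*} [Ring R] {p : ℕ} [hp : Fact p.Prime]

/-- Frobenius for commuting elements, from `(p : R) = 0` only -/
theorem sub_pow_of_commute (hp0 : (p : R) = 0) (j : ℕ) {a b : R} (h : Commute a b) :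
    (a - b) ^ p ^ j = a ^ p ^ j - b ^ p ^ j := by
  rcases subsingleton_or_nontrivial R with hs | hn
  · exact Subsingleton.elim _ _
  · have : CharP R p := (CharP.charP_iff_prime_eq_zero hp.out).mpr hp0
    exact sub_pow_char_pow_of_commute p j h

/-- an element fixed by a Frobenius power and of square zero vanishes -/
theorem eq_zero_of_sq_eq_zero {r : R} {P : ℕ} (hP : 2 ≤ P) (hr : r ^ P = r) (h2 : r * r = 0) :
    r = 0 := by
  rw [← hr]
  obtain ⟨t, rfl⟩ := Nat.exists_eq_add_of_le hP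
  rw [pow_add, pow_two, h2, zero_mul]

theorem quadratic_commute (hp2 : p ≠ 2) (hp0 : (p : R) = 0)
    {X : Type*} [Group X] (ρ : X →* R) (x : X) (hq : (ρ x - 1) * (ρ x - 1) = 0)
    (K : Subgroup X) (hKx : ∀ k ∈ K, x⁻¹ * k * x ∈ K)
    (hcomm : ∀ k₁ ∈ K, ∀ k₂ ∈ K, ρ k₁ * ρ k₂ = ρ k₂ * ρ k₁)
    (m : ℕ) (hm : m.Coprime p) (hpow : ∀ k ∈ K, ρ k ^ m = 1) :
    ∀ k ∈ K, ρ k * ρ x = ρ x * ρ k := by
  set N : R := ρ x - 1 with hN
  have hx : ρ x = 1 + N := by rw [hN]; abel
  have hNN : N * N = 0 := hq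
  have hNNl : ∀ a : R, N * (N * a) = 0 := fun a => by rw [← mul_assoc, hNN, zero_mul]
  have hxinv : ρ x⁻¹ = 1 - N := by
    have h1 : ρ x⁻¹ * ρ x = 1 := by rw [← map_mul, inv_mul_cancel, map_one]
    have h2 : (1 + N) * (1 - N) = 1 := by
      have : (1 + N) * (1 - N) = 1 - N * N := by noncomm_ring
      rw [this, hNN, sub_zero]
    calc ρ x⁻¹ = ρ x⁻¹ * ((1 + N) * (1 - N)) := by rw [h2, mul_one]
      _ = (ρ x⁻¹ * ρ x) * (1 - N) := by rw [hx, mul_assoc]
      _ = 1 - N := by rw [h1, one_mul]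
  -- the Frobenius power
  have hm0 : m ≠ 0 := by
    rintro rfl
    rw [Nat.coprime_zero_left] at hm
    exact hp.out.one_lt.ne' hm
  set j := Nat.totient m with hj
  have hjpos : 0 < j := Nat.totient_pos.mpr (Nat.pos_of_ne_zero hm0)
  set P := p ^ j with hPdef
  have hP2 : 2 ≤ P := by
    calc 2 ≤ p := hp.out.two_le
      _ = p ^ 1 := (pow_one p).symm
      _ ≤ p ^ j := Nat.pow_le_pow_right hp.out.pos hjpos
  have hPmod : P % m = 1 % m := Nat.ModEq.pow_totient hm.symm
  have hfix : ∀ k ∈ K, ρ k ^ P = ρ k := by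
    intro k hk
    have h1 : P = 1 + m * ((P - 1) / m) := by
      have h2 : m ∣ P - 1 := (Nat.modEq_iff_dvd' (by omega)).mp hPmod.symm
      have := Nat.mul_div_cancel' h2
      omega
    rw [h1, pow_add, pow_one, pow_mul, hpow k hk, one_pow, mul_one]
  -- conjugate
  have hconj : ∀ k : X, ρ (x⁻¹ * k * x) = (1 - N) * ρ k * (1 + N) := by
    intro k
    rw [map_mul, map_mul, hxinv, hx]
  have hcom : ∀ k₁ ∈ K, ∀ k₂ ∈ K, Commute (ρ k₁) (ρ k₂) := fun k₁ h₁ k₂ h₂ => hcomm k₁ h₁ k₂ h₂
  -- fixed by Frobenius: differences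
  have hfixsub : ∀ k₁ ∈ K, ∀ k₂ ∈ K, (ρ k₁ - ρ k₂) ^ P = ρ k₁ - ρ k₂ := by
    intro k₁ h₁ k₂ h₂
    rw [hPdef, sub_pow_of_commute hp0 j (hcom k₁ h₁ k₂ h₂), ← hPdef, hfix k₁ h₁, hfix k₂ h₂]
  -- claim 1
  have claim1 : ∀ k ∈ K, N * ρ k * N = 0 := by
    intro k hk
    set e := ρ k with he
    set k₁ := x⁻¹ * k * x with hk₁
    set k₂ := x⁻¹ * k₁ * x with hk₂
    have hk₁K : k₁ ∈ K := hKx k hk
    have hk₂K : k₂ ∈ K := hKx k₁ hk₁K
    have he₁ : ρ k₁ = e + e * N - N * e - N * e * N := by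
      rw [hconj k]; noncomm_ring
    have he₂ : ρ k₂ - ρ k₁ = e * N - N * e - (N * e * N + N * e * N + N * e * N) := by
      rw [hconj k₁, he₁]
      noncomm_ring
      simp [hNN, hNNl]
    set r := (ρ k₂ - ρ k₁) - (ρ k₁ - ρ k) with hr
    have hr1 : r = -(N * e * N + N * e * N) := by
      rw [hr, he₂, he₁]; noncomm_ring
    have hrr : r * r = 0 := by
      rw [hr1]
      have : -(N * e * N + N * e * N) * -(N * e * N + N * e * N) =
          N * e * (N * N) * e * N + N * e * (N * N) * e * N + N * e * (N * N) * e * N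
            + N * e * (N * N) * e * N := by noncomm_ring
      rw [this, hNN]; simp
    have hrP : r ^ P = r := by
      have hc : Commute (ρ k₂ - ρ k₁) (ρ k₁ - ρ k) :=
        Commute.sub_left (Commute.sub_right (hcom k₂ hk₂K k₁ hk₁K) (hcom k₂ hk₂K k hk))
          (Commute.sub_right (hcom k₁ hk₁K k₁ hk₁K) (hcom k₁ hk₁K k hk))
      rw [hr, hPdef, sub_pow_of_commute hp0 j hc, ← hPdef, hfixsub k₂ hk₂K k₁ hk₁K,
        hfixsub k₁ hk₁K k hk]
    have hr0 : r = 0 := eq_zero_of_sq_eq_zero hP2 hrP hrr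
    -- 2 y = 0 and p y = 0
    set y := N * e * N with hy
    have h2y : y + y = 0 := by
      have := hr1
      rw [hr0] at this
      exact neg_eq_zero.mp this.symm
    have hpy : (p : R) * y = 0 := by rw [hp0, zero_mul]
    obtain ⟨t, ht⟩ := hp.out.eq_two_or_odd'.resolve_left hp2
    have h3 : ((2 * t + 1 : ℕ) : R) * y = 0 := by rw [← ht]; exact hpy
    have h4 : ((2 * t + 1 : ℕ) : R) * y = (t : R) * (y + y) + y := by
      push_cast; noncomm_ring
    rw [h4, h2y, mul_zero, zero_add] at h3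
    exact h3
  -- claim 2
  intro k hk
  set e := ρ k with he
  set k₁ := x⁻¹ * k * x with hk₁
  have hk₁K : k₁ ∈ K := hKx k hk
  have hNeN : N * e * N = 0 := claim1 k hk
  have he₁ : ρ k₁ = e + e * N - N * e - N * e * N := by
    rw [hconj k]; noncomm_ring
  set c := ρ k₁ - ρ k with hc
  have hc1 : c = e * N - N * e := by
    rw [hc, he₁, hNeN]; noncomm_ring
  have hkk : N * ρ (k * k) * N = 0 := claim1 (k * k) (K.mul_mem hk hk)
  have hcc : c * c = 0 := by
    rw [hc1]
    have : (e * N - N * e) * (e * N - N * e) =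
        e * (N * e * N) - e * (N * N) * e - N * (e * e) * N + (N * e * N) * e := by noncomm_ring
    rw [this, hNeN, hNN]
    rw [map_mul] at hkk
    rw [hkk]; simp
  have hcP : c ^ P = c := hfixsub k₁ hk₁K k hk
  have hc0 : c = 0 := eq_zero_of_sq_eq_zero hP2 hcP hcc
  rw [hc1] at hc0
  rw [hx]
  have : e * N = N * e := sub_eq_zero.mp hc0
  rw [mul_add, add_mul, mul_one, one_mul, this]

end Ring

section Omega

variable {X : Type*} [Group X] {p : ℕ} [hp : Fact p.Prime]

/-- a `p'`-element normalising the abelian `p`-group `A` and centralising `Ω₁(A)` centralises `A` -/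
theorem conj_eq_of_conj_eq_on_omega (A : Subgroup X) (hA : IsPGroup p A)
    (hAc : ∀ a ∈ A, ∀ b ∈ A, a * b = b * a) (g : X) (hgA : ∀ a ∈ A, g * a * g⁻¹ ∈ A)
    (hg : (orderOf g).Coprime p)
    (hΩ : ∀ a ∈ A, a ^ p = 1 → g * a * g⁻¹ = a) : ∀ a ∈ A, g * a * g⁻¹ = a := by
  have key : ∀ k : ℕ, ∀ a ∈ A, a ^ p ^ k = 1 → g * a * g⁻¹ = a := by
    intro k
    induction k with
    | zero =>
      intro a _ h
      rw [pow_zero, pow_one] at h
      rw [h]; group
    | succ k ih =>
      intro a ha h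
      have hap : g * a ^ p * g⁻¹ = a ^ p := by
        apply ih _ (A.pow_mem ha p)
        rw [← pow_mul, ← pow_succ']
        exact h
      set z := a⁻¹ * (g * a * g⁻¹) with hz
      have hzA : z ∈ A := A.mul_mem (A.inv_mem ha) (hgA a ha)
      have hzp : z ^ p = 1 := by
        have hcm : Commute a⁻¹ (g * a * g⁻¹) := hAc _ (A.inv_mem ha) _ (hgA a ha)
        rw [hz, hcm.mul_pow, conj_pow, hap, inv_pow, inv_mul_cancel]
      have hzg : g * z * g⁻¹ = z := hΩ z hzA hzp
      have hpow : ∀ n : ℕ, g ^ n * a * (g ^ n)⁻¹ = a * z ^ n := by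
        intro n
        induction n with
        | zero => simp
        | succ n ihn =>
          have e1 : g ^ (n + 1) * a * (g ^ (n + 1))⁻¹ = g * (g ^ n * a * (g ^ n)⁻¹) * g⁻¹ := by
            rw [pow_succ']; group
          rw [e1, ihn]
          have e2 : g * (a * z ^ n) * g⁻¹ = (g * a * g⁻¹) * (g * z * g⁻¹) ^ n := by
            rw [conj_pow]; group
          rw [e2, hzg]
          have e3 : g * a * g⁻¹ = a * z := by rw [hz]; group
          rw [e3, mul_assoc, ← pow_succ']
      have h1 := hpow (orderOf g)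
      rw [pow_orderOf_eq_one] at h1
      have h2 : z ^ orderOf g = 1 := by
        have : a = a * z ^ orderOf g := by simpa using h1
        exact (mul_eq_left.mp this.symm)
      have h3 : orderOf z ∣ Nat.gcd (orderOf g) p :=
        Nat.dvd_gcd (orderOf_dvd_of_pow_eq_one h2) (orderOf_dvd_of_pow_eq_one hzp)
      rw [hg, Nat.dvd_one, orderOf_eq_one_iff] at h3
      rw [h3] at hz
      have : g * a * g⁻¹ = a * (a⁻¹ * (g * a * g⁻¹)) := by group
      rw [this, ← hz, mul_one]
  intro a ha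
  obtain ⟨k, hk⟩ := (IsPGroup.iff_orderOf.mp hA) ⟨a, ha⟩
  apply key k a ha
  have h1 : (⟨a, ha⟩ : A) ^ p ^ k = 1 := by
    rw [← hk]; exact pow_orderOf_eq_one _
  have := congrArg (fun y : A => (y : X)) h1
  simpa using this

end Omega

section Group

variable {X : Type*} [Group X] {p : ℕ} [hp : Fact p.Prime]

/-- group-theoretic form of `quadratic_commute`: `V` an elementary abelian normal `p`-subgroup
(`p` odd), `x` acting quadratically on `V`, `K` a subgroup normalised by `x` acting on `V` as an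
abelian group of exponent `m` prime to `p`; then `[K, x]` centralises `V`. -/
theorem commutator_mem_centralizer_of_quadratic (hp2 : p ≠ 2)
    (V : Subgroup X) [hVn : V.Normal] (hVc : ∀ a ∈ V, ∀ b ∈ V, a * b = b * a)
    (hVp : ∀ a ∈ V, a ^ p = 1)
    (x : X) (hq : ∀ v ∈ V, x * (x * v * x⁻¹ * v⁻¹) = (x * v * x⁻¹ * v⁻¹) * x)
    (K : Subgroup X) (hKx : ∀ k ∈ K, x⁻¹ * k * x ∈ K)
    (hKc : ∀ k₁ ∈ K, ∀ k₂ ∈ K, k₁ * k₂ * k₁⁻¹ * k₂⁻¹ ∈ Subgroup.centralizer (V : Set X))
    (m : ℕ) (hm : m.Coprime p) (hpow : ∀ k ∈ K, k ^ m ∈ Subgroup.centralizer (V : Set X)) :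
    ∀ k ∈ K, k * x * k⁻¹ * x⁻¹ ∈ Subgroup.centralizer (V : Set X) := by
  let inst : CommGroup V :=
    { (inferInstance : Group V) with mul_comm := fun a b => Subtype.ext (hVc a a.2 b b.2) }
  let cj : X → V → V := fun g v => ⟨g * v * g⁻¹, hVn.conj_mem v v.2 g⟩
  have cj_mul : ∀ g (v w : V), cj g (v * w) = cj g v * cj g w := by
    intro g v w
    apply Subtype.ext
    show g * (v * w : X) * g⁻¹ = (g * v * g⁻¹) * (g * w * g⁻¹)
    group
  have cj_one : ∀ g, cj g 1 = 1 := by
    intro g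
    apply Subtype.ext
    show g * (1 : X) * g⁻¹ = 1
    group
  let ρ : X →* AddMonoid.End (Additive V) :=
    { toFun := fun g =>
        { toFun := fun a => Additive.ofMul (cj g (Additive.toMul a))
          map_zero' := by
            show Additive.ofMul (cj g 1) = 0
            rw [cj_one]; rfl
          map_add' := by
            intro a b
            show Additive.ofMul (cj g (Additive.toMul a * Additive.toMul b)) = _
            rw [cj_mul]; rfl }
      map_one' := by
        refine AddMonoidHom.ext fun a => ?_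
        show Additive.ofMul (cj 1 (Additive.toMul a)) = a
        have : cj 1 (Additive.toMul a) = Additive.toMul a := by
          apply Subtype.ext
          show (1 : X) * _ * 1⁻¹ = _
          group
        rw [this]; rfl
      map_mul' := by
        intro g h
        refine AddMonoidHom.ext fun a => ?_
        show Additive.ofMul (cj (g * h) (Additive.toMul a)) =
          Additive.ofMul (cj g (cj h (Additive.toMul a)))
        congr 1
        apply Subtype.ext
        show g * h * _ * (g * h)⁻¹ = g * (h * _ * h⁻¹) * g⁻¹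
        group }
  have hρ : ∀ (g : X) (a : Additive V), ρ g a = Additive.ofMul (cj g (Additive.toMul a)) :=
    fun g a => rfl
  have hone : ∀ g : X, ρ g = 1 ↔ g ∈ Subgroup.centralizer (V : Set X) := by
    intro g
    rw [Subgroup.mem_centralizer_iff]
    constructor
    · intro h v hv
      have h1 : ρ g (Additive.ofMul ⟨v, hv⟩) = Additive.ofMul ⟨v, hv⟩ := by rw [h]; rfl
      rw [hρ] at h1
      have h2 : cj g ⟨v, hv⟩ = ⟨v, hv⟩ := Additive.ofMul.injective h1
      have h3 : g * v * g⁻¹ = v := congrArg Subtype.val h2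
      calc v * g = (g * v * g⁻¹) * g := by rw [h3]
        _ = g * v := by group
    · intro h
      refine AddMonoidHom.ext fun a => ?_
      show Additive.ofMul (cj g (Additive.toMul a)) = a
      have : cj g (Additive.toMul a) = Additive.toMul a := by
        apply Subtype.ext
        show g * (Additive.toMul a : V) * g⁻¹ = (Additive.toMul a : V)
        have := h _ (Additive.toMul a).2
        rw [← this]; group
      rw [this]; rfl
  have hp0 : ((p : ℕ) : AddMonoid.End (Additive V)) = 0 := by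
    refine AddMonoidHom.ext fun a => ?_
    show p • a = 0
    have h1 : (Additive.toMul a) ^ p = 1 := by
      apply Subtype.ext
      rw [Subgroup.coe_pow]
      exact hVp _ (Additive.toMul a).2
    have h2 : p • a = Additive.ofMul ((Additive.toMul a) ^ p) := rfl
    rw [h2, h1]; rfl
  have hqq : (ρ x - 1) * (ρ x - 1) = 0 := by
    refine AddMonoidHom.ext fun a => ?_
    show ρ x (ρ x a - a) - (ρ x a - a) = 0
    rw [sub_eq_zero]
    set v : V := Additive.toMul a with hv
    have h1 : ρ x a - a = Additive.ofMul (⟨x * (v : X) * x⁻¹ * (v : X)⁻¹,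
        V.mul_mem (hVn.conj_mem v v.2 x) (V.inv_mem v.2)⟩ : V) := by
      apply Additive.toMul.injective
      apply Subtype.ext
      show (x * (v : X) * x⁻¹) / (v : X) = x * v * x⁻¹ * (v : X)⁻¹
      rw [div_eq_mul_inv]
    rw [h1]
    show Additive.ofMul (cj x _) = _
    congr 1
    apply Subtype.ext
    show x * (x * (v : X) * x⁻¹ * (v : X)⁻¹) * x⁻¹ = x * (v : X) * x⁻¹ * (v : X)⁻¹
    rw [hq v v.2]; group
  have hcomm : ∀ k₁ ∈ K, ∀ k₂ ∈ K, ρ k₁ * ρ k₂ = ρ k₂ * ρ k₁ := by
    intro k₁ h₁ k₂ h₂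
    have h1 := (hone _).mpr (hKc k₁ h₁ k₂ h₂)
    have h2 : k₁ * k₂ = (k₁ * k₂ * k₁⁻¹ * k₂⁻¹) * (k₂ * k₁) := by group
    rw [← map_mul, ← map_mul, h2, map_mul, h1, one_mul]
  have hpow' : ∀ k ∈ K, ρ k ^ m = 1 := by
    intro k hk
    rw [← map_pow]
    exact (hone _).mpr (hpow k hk)
  have key := quadratic_commute hp2 hp0 ρ x hqq K hKx hcomm m hm hpow'
  intro k hk
  rw [← hone]
  have h1 := key k hk
  have h2 : k * x * k⁻¹ * x⁻¹ = (k * x) * (x * k)⁻¹ := by group
  rw [h2, map_mul, map_mul, h1, ← map_mul, ← map_mul, mul_inv_cancel, map_one]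

end Group

end Cfsg.Agent.Lib.Helper72_Quadratic
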