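import Cfsg.Agent.Lib.Helper72_NPCReduction
import Cfsg.Agent.Lib.Helper72_Quadratic
import Cfsg.Agent.Lib.Helper10_Thompson

/-!
Helper library (helper72): the terminal configuration of Thompson's normal `p`-complement theorem.

`X` finite, `T` a Sylow `p`-subgroup which is a maximal subgroup, `R = O_p(X)`, `C_X(R) ≤ R`,
`X/R` has a normal `p`-complement, `C_X(Z(T))` has a normal `p`-complement, `X` has none, `p` odd.
Then `V = Ω₁(Z(R))` is an elementary abelian normal subgroup with `C_X(V) = R` on which no element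
of `T ∖ R` acts quadratically (`terminal_quadratic`).
-/

set_option autoImplicit false
universe u
open Cfsg

namespace Cfsg.Agent.Lib.Helper72_ThompsonTerminal

open Cfsg.Agent.Lib.Helper34_NPC Cfsg.Agent.Lib.Helper35_FrobeniusNPC
  Cfsg.Agent.Lib.Helper33_Conj Cfsg.Agent.Lib.Helper33_Alperin
  Cfsg.Agent.Lib.Helper72_Quadratic

section Coatom

open scoped commutatorElement

variable {Y : Type*} [Group Y] [Finite Y] {p : ℕ} [Fact p.Prime]

/-- a subgroup of index prime to `p` contains a conjugate of any `p`-subgroup -/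
theorem exists_cj_le_of_index (M : Subgroup Y) (hM : ¬ p ∣ M.index) (P : Subgroup Y)
    (hP : IsPGroup p P) : ∃ g : Y, cj g P ≤ M := by
  obtain ⟨SM⟩ : Nonempty (Sylow p M) := inferInstance
  set Q₀ : Subgroup Y := (SM : Subgroup M).map M.subtype with hQ₀
  have hQ₀M : Q₀ ≤ M := Subgroup.map_subtype_le _
  have hQ₀p : IsPGroup p Q₀ := SM.2.map _
  have hidx : ¬ p ∣ Q₀.relIndex ⊤ := by
    rw [Subgroup.relIndex_top_right, ← Subgroup.relIndex_mul_index hQ₀M]
    intro h
    rcases (Nat.Prime.dvd_mul (Fact.out : p.Prime)).mp h with h1 | h1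
    · apply SM.not_dvd_index
      have : Q₀.relIndex M = (SM : Subgroup M).index := by
        unfold Subgroup.relIndex
        congr 1
        rw [hQ₀]
        ext x
        rw [Subgroup.mem_subgroupOf]
        constructor
        · rintro ⟨y, hy, hyx⟩
          have : y = x := Subtype.ext hyx
          rwa [← this]
        · intro hx
          exact ⟨x, hx, rfl⟩
      rwa [← this]
    · exact hM h1
  obtain ⟨m, -, hm⟩ := exists_cj_le_of_relIndex (H := ⊤) le_top hQ₀p hidx (le_top : P ≤ ⊤) hP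
  exact ⟨m, hm.trans hQ₀M⟩

/-- if a Sylow `p`-subgroup `T` is a maximal subgroup, every normal `p'`-subgroup is abelian -/
theorem comm_of_coatom (K : Subgroup Y) [hKn : K.Normal] (hKc : (Nat.card K).Coprime p)
    (T : Sylow p Y) (hco : IsCoatom (T : Subgroup Y)) : ∀ a ∈ K, ∀ b ∈ K, a * b = b * a := by
  have hKT : K ⊓ (T : Subgroup Y) = ⊥ := by
    obtain ⟨k, hk⟩ := T.2.exists_card_eq
    have hc : (Nat.card K).Coprime (Nat.card (T : Subgroup Y)) := by
      rw [hk]
      exact Nat.Coprime.pow_right k hKc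
    exact (Subgroup.disjoint_of_coprime_natCard hc).eq_bot
  -- invariant subgroups
  have E1 : ∀ D : Subgroup Y, D ≤ K → (T : Subgroup Y) ≤ Subgroup.normalizer (D : Set Y) →
      D = ⊥ ∨ D = K := by
    intro D hDK hTD
    have h1 : (T : Subgroup Y) ≤ D ⊔ T := le_sup_right
    rcases eq_or_lt_of_le h1 with h | h
    · left
      have hDT : D ≤ T := by rw [h]; exact le_sup_left
      have : D ≤ K ⊓ T := le_inf hDK hDT
      rw [hKT] at this
      exact le_bot_iff.mp this
    · right
      have htop : D ⊔ T = ⊤ := hco.2 _ h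
      have hDn : D.Normal := by
        rw [← Subgroup.normalizer_eq_top_iff, eq_top_iff, ← htop]
        exact sup_le Subgroup.le_normalizer hTD
      apply le_antisymm hDK
      intro k hk
      have hk' : k ∈ ((T : Subgroup Y) ⊔ D : Subgroup Y) := by
        rw [sup_comm, htop]; trivial
      rw [← SetLike.mem_coe, Subgroup.mul_normal] at hk'
      obtain ⟨t, ht, d, hd, rfl⟩ := hk'
      have htK : t ∈ K := by
        have := K.mul_mem hk (K.inv_mem (hDK hd))
        simpa using this
      have : t ∈ K ⊓ (T : Subgroup Y) := ⟨htK, ht⟩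
      rw [hKT, Subgroup.mem_bot] at this
      show t * d ∈ D
      rw [this, one_mul]
      exact hd
  by_cases hK1 : K = ⊥
  · intro a ha b hb
    rw [hK1, Subgroup.mem_bot] at ha hb
    rw [ha, hb]
  -- `K` is a `q`-group
  have hcard : Nat.card K ≠ 1 := fun h => hK1 (Subgroup.card_eq_one.mp h)
  obtain ⟨q, hq, hqd⟩ := Nat.exists_prime_and_dvd hcard
  have : Fact q.Prime := ⟨hq⟩
  obtain ⟨Q⟩ : Nonempty (Sylow q K) := inferInstance
  set Q' : Subgroup Y := (Q : Subgroup K).map K.subtype with hQ'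
  have hQ'K : Q' ≤ K := Subgroup.map_subtype_le _
  have hQ'q : IsPGroup q Q' := Q.2.map _
  have hQ'ne : Q' ≠ ⊥ := by
    intro h
    have h1 : (Q : Subgroup K) ≠ ⊥ := Q.ne_bot_of_dvd_card hqd
    exact h1 ((Subgroup.map_eq_bot_iff_of_injective _ K.subtype_injective).mp h)
  have hfr : Subgroup.normalizer (Q' : Set Y) ⊔ K = ⊤ := Sylow.normalizer_sup_eq_top Q
  set M := Subgroup.normalizer (Q' : Set Y) with hM
  have hidx : ¬ p ∣ M.index := by
    have h1 : (M ⊓ K).relIndex K = M.relIndex (M ⊔ K) :=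
      Cfsg.Agent.Lib.Helper32_Sylow.relIndex_inf_of_normal M K
    rw [hfr, Subgroup.relIndex_top_right] at h1
    rw [← h1]
    intro h
    have h2 : p ∣ Nat.card K := h.trans (Subgroup.relIndex_dvd_card _ _)
    have h3 : p ∣ Nat.gcd (Nat.card K) p := Nat.dvd_gcd h2 dvd_rfl
    rw [hKc] at h3
    exact (Fact.out : p.Prime).one_lt.ne' (Nat.dvd_one.mp h3)
  obtain ⟨g, hg⟩ := exists_cj_le_of_index M hidx (T : Subgroup Y) T.2
  set D := cj g⁻¹ Q' with hD
  have hTD : (T : Subgroup Y) ≤ Subgroup.normalizer (D : Set Y) := by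
    rw [hD, ← cj_normalizer, ← cj_le_iff]
    exact hg
  have hDK : D ≤ K := by
    have h1 : cj g⁻¹ Q' ≤ cj g⁻¹ K := cj_mono hQ'K
    have h2 : cj g⁻¹ K = K := by
      have := (Subgroup.normalizer_eq_top_iff.mpr hKn)
      exact mem_normalizer_iff_cj.mp (this ▸ Subgroup.mem_top g⁻¹)
    rwa [h2] at h1
  have hDne : D ≠ ⊥ := by
    intro h
    apply hQ'ne
    apply Subgroup.card_eq_one.mp
    rw [← card_cj g⁻¹ Q', ← hD, h, Subgroup.card_bot]
  have hDeq : D = K := (E1 D hDK hTD).resolve_left hDne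
  have hKq : IsPGroup q K := hDeq ▸ isPGroup_cj hQ'q
  -- commutator
  have hlt : ⁅K, K⁆ < K := commutator_lt_of_ne_bot hKq hK1
  have hcn : (⁅K, K⁆ : Subgroup Y).Normal := Subgroup.commutator_normal K K
  have hT' : (T : Subgroup Y) ≤ Subgroup.normalizer ((⁅K, K⁆ : Subgroup Y) : Set Y) := by
    rw [Subgroup.normalizer_eq_top_iff.mpr hcn]; exact le_top
  have hbot : ⁅K, K⁆ = ⊥ := (E1 _ hlt.le hT').resolve_right hlt.ne
  intro a ha b hb
  have h1 : ⁅a, b⁆ ∈ ⁅K, K⁆ := Subgroup.commutator_mem_commutator ha hb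
  rw [hbot, Subgroup.mem_bot, commutatorElement_def] at h1
  calc a * b = (a * b * a⁻¹ * b⁻¹) * (b * a) := by group
    _ = b * a := by rw [h1, one_mul]

end Coatom

section Terminal

variable {X : Type u} [Group X] [Finite X] {p : ℕ} [Fact p.Prime]

theorem terminal_quadratic (hp2 : p ≠ 2)
    (T : Sylow p X) (hco : IsCoatom (T : Subgroup X))
    (hcen : Subgroup.centralizer ((Cfsg.pCore p X : Subgroup X) : Set X) ≤ Cfsg.pCore p X)
    (hq : HasNPC p (X ⧸ Cfsg.pCore p X))
    (hZ : HasNPC p ↥(Subgroup.centralizer (((T : Subgroup X) ⊓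
      Subgroup.centralizer ((T : Subgroup X) : Set X) : Subgroup X) : Set X)))
    (hnot : ¬ HasNPC p X) :
    ∃ V : Subgroup X, V.Normal ∧ Cfsg.IsElementaryAbelian p V ∧
      Subgroup.centralizer (V : Set X) = Cfsg.pCore p X ∧
      ∀ x ∈ (T : Subgroup X),
        (∀ v ∈ V, x * (x * v * x⁻¹ * v⁻¹) = (x * v * x⁻¹ * v⁻¹) * x) → x ∈ Cfsg.pCore p X := by
  have hRn : (Cfsg.pCore p X).Normal := Cfsg.pCore_normal p X
  set R := Cfsg.pCore p X with hR
  have hRp : IsPGroup p R := Cfsg.Agent.Lib.Helper76_PSolvable.pCore_isPGroup p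
  have hRT : R ≤ (T : Subgroup X) := hRp.le_sylow_of_normal T
  have hπ : Function.Surjective (QuotientGroup.mk' R) := QuotientGroup.mk'_surjective R
  have hker : ∀ x : X, QuotientGroup.mk' R x = 1 ↔ x ∈ R := by
    intro x
    rw [← MonoidHom.mem_ker, QuotientGroup.ker_mk']
  -- Step A: `C_X(Z(T)) = T`
  set Z := (T : Subgroup X) ⊓ Subgroup.centralizer ((T : Subgroup X) : Set X) with hZdef
  have hTCZ : (T : Subgroup X) ≤ Subgroup.centralizer (Z : Set X) := by
    intro t ht
    rw [Subgroup.mem_centralizer_iff]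
    intro z hz
    exact ((Subgroup.mem_centralizer_iff.mp hz.2) t ht).symm
  have hCZ : Subgroup.centralizer (Z : Set X) = (T : Subgroup X) := by
    rcases eq_or_lt_of_le hTCZ with h | h
    · exact h.symm
    · exfalso
      have := hco.2 _ h
      exact hnot (hasNPC_top_iff.mp (hasNPC_of_eq this hZ))
  -- Step B: `V = Ω₁(Z(R))`
  let V : Subgroup X :=
    { carrier := {z | z ∈ R ∧ z ∈ Subgroup.centralizer (R : Set X) ∧ z ^ p = 1}
      mul_mem' := by
        rintro a b ⟨ha1, ha2, ha3⟩ ⟨hb1, hb2, hb3⟩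
        refine ⟨R.mul_mem ha1 hb1, (Subgroup.centralizer _).mul_mem ha2 hb2, ?_⟩
        have hc : Commute a b := Subgroup.mem_centralizer_iff.mp hb2 a ha1
        rw [hc.mul_pow, ha3, hb3, one_mul]
      one_mem' := ⟨R.one_mem, Subgroup.one_mem _, one_pow p⟩
      inv_mem' := by
        rintro a ⟨h1, h2, h3⟩
        exact ⟨R.inv_mem h1, Subgroup.inv_mem _ h2, by rw [inv_pow, h3, inv_one]⟩ }
  have hVmem : ∀ z, z ∈ V ↔ z ∈ R ∧ z ∈ Subgroup.centralizer (R : Set X) ∧ z ^ p = 1 :=
    fun z => Iff.rfl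
  have hCRn : (Subgroup.centralizer (R : Set X)).Normal := Subgroup.normal_centralizer
  have hVn : V.Normal := by
    constructor
    intro z hz g
    obtain ⟨h1, h2, h3⟩ := hz
    refine ⟨hRn.conj_mem z h1 g, hCRn.conj_mem z h2 g, ?_⟩
    rw [conj_pow, h3]; group
  have hVc : ∀ a ∈ V, ∀ b ∈ V, a * b = b * a := by
    intro a ha b hb
    exact Subgroup.mem_centralizer_iff.mp hb.2.1 a ha.1
  have hVp : ∀ a ∈ V, a ^ p = 1 := fun a ha => ha.2.2
  have hVea : Cfsg.IsElementaryAbelian p V :=
    Cfsg.Agent.Lib.Helper10_Thompson.isElementaryAbelian_of_forall hVc hVp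
  have hVR : V ≤ R := fun z hz => hz.1
  have hRCV : R ≤ Subgroup.centralizer (V : Set X) := by
    intro r hr
    rw [Subgroup.mem_centralizer_iff]
    intro v hv
    exact (Subgroup.mem_centralizer_iff.mp hv.2.1 r hr).symm
  -- Step C: `C_X(V) ≤ R`
  have hCVn : (Subgroup.centralizer (V : Set X)).Normal := Subgroup.normal_centralizer
  set ZR := R ⊓ Subgroup.centralizer (R : Set X) with hZR
  have hZRn : ZR.Normal := Subgroup.normal_inf_normal _ _
  have hZZR : Z ≤ ZR := by
    intro z hz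
    have h1 : z ∈ Subgroup.centralizer (R : Set X) :=
      Subgroup.centralizer_le (SetLike.coe_subset_coe.mpr hRT) hz.2
    exact ⟨hcen h1, h1⟩
  have hCVp : IsPGroup p (Subgroup.centralizer (V : Set X)) := by
    set C := Subgroup.centralizer (V : Set X) with hC
    have hprime : ∀ q : ℕ, q.Prime → q ∣ Nat.card C → q = p := by
      intro q hq hqd
      by_contra hne
      have : Fact q.Prime := ⟨hq⟩
      obtain ⟨c, hc⟩ := exists_prime_orderOf_dvd_card' (G := C) q hqd
      set g : X := (c : X) with hg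
      have hgo : orderOf g = q := by rw [hg, Subgroup.orderOf_coe, hc]
      have hgcop : (orderOf g).Coprime p := by
        rw [hgo]
        exact (Nat.coprime_primes hq (Fact.out : p.Prime)).mpr hne
      have hgcen : ∀ a ∈ ZR, g * a * g⁻¹ = a := by
        apply conj_eq_of_conj_eq_on_omega ZR (hRp.to_le inf_le_left)
          (fun a ha b hb => Subgroup.mem_centralizer_iff.mp hb.2 a ha.1) g
          (fun a ha => hZRn.conj_mem a ha g) hgcop
        intro a ha hap
        have haV : a ∈ V := ⟨ha.1, ha.2, hap⟩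
        have h1 : a * g = g * a := Subgroup.mem_centralizer_iff.mp c.2 a haV
        calc g * a * g⁻¹ = a * g * g⁻¹ := by rw [h1]
          _ = a := by group
      have hgZ : g ∈ Subgroup.centralizer (Z : Set X) := by
        rw [Subgroup.mem_centralizer_iff]
        intro z hz
        have := hgcen z (hZZR hz)
        calc z * g = (g * z * g⁻¹) * g := by rw [this]
          _ = g * z := by group
      rw [hCZ] at hgZ
      obtain ⟨k, hk⟩ := (IsPGroup.iff_orderOf.mp T.2) ⟨g, hgZ⟩
      rw [Subgroup.orderOf_mk, hgo] at hk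
      have : q ∣ p ^ k := hk ▸ dvd_rfl
      exact hne ((Nat.prime_dvd_prime_iff_eq hq (Fact.out : p.Prime)).mp
        (hq.dvd_of_dvd_pow this))
    have hcardC : ∃ n, Nat.card C = p ^ n := by
      by_cases h1 : Nat.card C = 1
      · exact ⟨0, by rw [h1, pow_zero]⟩
      · have hpd : p ∣ Nat.card C := by
          obtain ⟨q, hq, hqd⟩ := Nat.exists_prime_and_dvd h1
          rwa [← hprime q hq hqd]
        exact ⟨_, Nat.eq_prime_pow_of_unique_prime_dvd Nat.card_pos.ne'
          (fun {q} hq hqd => hprime q hq hqd)⟩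
    obtain ⟨n, hn⟩ := hcardC
    exact IsPGroup.of_card hn
  have hCVR : Subgroup.centralizer (V : Set X) ≤ R :=
    Cfsg.Agent.Lib.Helper76_PSolvable.le_pCore p _ hCVp
  have hCVeq : Subgroup.centralizer (V : Set X) = R := le_antisymm hCVR hRCV
  refine ⟨V, hVn, hVea, hCVeq, ?_⟩
  -- Step D: the normal `p`-complement of `X/R`
  obtain ⟨Kbar, hKbn, hKbc, n, hKbi⟩ := hq
  set K := Kbar.comap (QuotientGroup.mk' R) with hK
  have hKn : K.Normal := hKbn.comap _
  have hRK : R ≤ K := by
    conv_lhs => rw [← QuotientGroup.ker_mk' R]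
    exact Subgroup.ker_le_comap _ _
  have hKT : K ⊔ (T : Subgroup X) = ⊤ := by
    have h1 : (T : Subgroup X) ≤ K ⊔ T := le_sup_right
    rcases eq_or_lt_of_le h1 with h | h
    · exfalso
      apply hnot
      have hKleT : K ≤ T := by rw [h]; exact le_sup_left
      have hKp : IsPGroup p K := T.2.to_le hKleT
      have hKidx : K.index = p ^ n := by
        rw [hK, Subgroup.index_comap_of_surjective _ hπ]; exact hKbi
      obtain ⟨k, hk⟩ := hKp.exists_card_eq
      have hcardX : Nat.card X = p ^ (k + n) := by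
        rw [← Subgroup.card_mul_index K, hk, hKidx, pow_add]
      exact hasNPC_of_isPGroup (IsPGroup.of_card hcardX)
    · exact hco.2 _ h
  -- `T̄` is a Sylow subgroup and a coatom of `X/R`
  let Tbar : Sylow p (X ⧸ R) := T.mapSurjective hπ
  have hTbar : (Tbar : Subgroup (X ⧸ R)) = (T : Subgroup X).map (QuotientGroup.mk' R) := rfl
  have hTbarco : IsCoatom (Tbar : Subgroup (X ⧸ R)) := by
    have hcomap : (Tbar : Subgroup (X ⧸ R)).comap (QuotientGroup.mk' R) = (T : Subgroup X) := by
      rw [hTbar, Subgroup.comap_map_eq, QuotientGroup.ker_mk', sup_eq_left.mpr hRT]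
    constructor
    · intro h
      apply hco.1
      rw [← hcomap, h, Subgroup.comap_top]
    · intro B hB
      have h1 : (T : Subgroup X) < B.comap (QuotientGroup.mk' R) := by
        rw [← hcomap]
        refine lt_of_le_of_ne (Subgroup.comap_mono hB.le) ?_
        intro h
        apply hB.ne
        rw [← Subgroup.map_comap_eq_self_of_surjective hπ (Tbar : Subgroup (X ⧸ R)),
          ← Subgroup.map_comap_eq_self_of_surjective hπ B, h]
      have h2 := hco.2 _ h1
      rw [← Subgroup.map_comap_eq_self_of_surjective hπ B, h2, Subgroup.map_top_of_surjective _ hπ]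
  have hKbcomm := comm_of_coatom Kbar hKbc Tbar hTbarco
  have hKcomm : ∀ k₁ ∈ K, ∀ k₂ ∈ K, k₁ * k₂ * k₁⁻¹ * k₂⁻¹ ∈ R := by
    intro k₁ h₁ k₂ h₂
    rw [← hker]
    simp only [map_mul, map_inv]
    have := hKbcomm _ h₁ _ h₂
    rw [this]; group
  -- Step F
  have stepF : ∀ x ∈ (T : Subgroup X), (∀ k ∈ K, k * x * k⁻¹ * x⁻¹ ∈ R) → x ∈ R := by
    intro x hxT hx
    let P₁ : Subgroup X :=
      { carrier := {t | t ∈ (T : Subgroup X) ∧ ∀ k ∈ K, k * t * k⁻¹ * t⁻¹ ∈ R}
        mul_mem' := by
          rintro a b ⟨ha, ha'⟩ ⟨hb, hb'⟩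
          refine ⟨(T : Subgroup X).mul_mem ha hb, ?_⟩
          intro k hk
          have h1 : k * (a * b) * k⁻¹ * (a * b)⁻¹ =
              (k * a * k⁻¹ * a⁻¹) * (a * (k * b * k⁻¹ * b⁻¹) * a⁻¹) := by group
          rw [h1]
          exact R.mul_mem (ha' k hk) (hRn.conj_mem _ (hb' k hk) a)
        one_mem' := by
          refine ⟨(T : Subgroup X).one_mem, ?_⟩
          intro k _
          have : k * 1 * k⁻¹ * (1 : X)⁻¹ = 1 := by group
          rw [this]; exact R.one_mem
        inv_mem' := by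
          rintro a ⟨ha, ha'⟩
          refine ⟨(T : Subgroup X).inv_mem ha, ?_⟩
          intro k hk
          have h1 : k * a⁻¹ * k⁻¹ * a⁻¹⁻¹ = a⁻¹ * (k * a * k⁻¹ * a⁻¹)⁻¹ * a := by group
          rw [h1]
          have := hRn.conj_mem _ (R.inv_mem (ha' k hk)) a⁻¹
          simpa using this }
    have hP₁T : P₁ ≤ (T : Subgroup X) := fun t ht => ht.1
    have hRP₁ : R ≤ P₁ := by
      intro r hr
      refine ⟨hRT hr, ?_⟩
      intro k _
      have := R.mul_mem (hRn.conj_mem r hr k) (R.inv_mem hr)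
      exact this
    have hP₁n : P₁.Normal := by
      rw [← Subgroup.normalizer_eq_top_iff, eq_top_iff, ← hKT]
      apply sup_le
      · -- `K` normalizes
        intro k hk
        rw [Subgroup.mem_normalizer_iff]
        have hconj : ∀ k ∈ K, ∀ t ∈ P₁, k * t * k⁻¹ ∈ P₁ := by
          intro k hk t ht
          have h1 : k * t * k⁻¹ = (k * t * k⁻¹ * t⁻¹) * t := by group
          rw [h1]
          exact P₁.mul_mem (hRP₁ (ht.2 k hk)) ht
        intro t
        constructor
        · intro ht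
          exact hconj k hk t ht
        · intro ht
          have := hconj k⁻¹ (K.inv_mem hk) _ ht
          have e : k⁻¹ * (k * t * k⁻¹) * k⁻¹⁻¹ = t := by group
          rwa [e] at this
      · -- `T` normalizes
        intro s hs
        rw [Subgroup.mem_normalizer_iff]
        have hconj : ∀ s ∈ (T : Subgroup X), ∀ t ∈ P₁, s * t * s⁻¹ ∈ P₁ := by
          intro s hs t ht
          refine ⟨(T : Subgroup X).mul_mem ((T : Subgroup X).mul_mem hs ht.1)
            ((T : Subgroup X).inv_mem hs), ?_⟩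
          intro k hk
          have hk' : s⁻¹ * k * s ∈ K := by
            have := hKn.conj_mem k hk s⁻¹
            simpa using this
          have h1 : k * (s * t * s⁻¹) * k⁻¹ * (s * t * s⁻¹)⁻¹ =
              s * ((s⁻¹ * k * s) * t * (s⁻¹ * k * s)⁻¹ * t⁻¹) * s⁻¹ := by group
          rw [h1]
          exact hRn.conj_mem _ (ht.2 _ hk') s
        intro t
        constructor
        · intro ht
          exact hconj s hs t ht
        · intro ht
          have := hconj s⁻¹ ((T : Subgroup X).inv_mem hs) _ ht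
          have e : s⁻¹ * (s * t * s⁻¹) * s⁻¹⁻¹ = t := by group
          rwa [e] at this
    have hP₁p : IsPGroup p P₁ := T.2.to_le hP₁T
    have hP₁R : P₁ ≤ R := Cfsg.Agent.Lib.Helper76_PSolvable.le_pCore p _ hP₁p
    exact hP₁R ⟨hxT, hx⟩
  -- Step G
  intro x hxT hxq
  apply stepF x hxT
  have hKx : ∀ k ∈ K, x⁻¹ * k * x ∈ K := by
    intro k hk
    have := hKn.conj_mem k hk x⁻¹
    simpa using this
  have hKc' : ∀ k₁ ∈ K, ∀ k₂ ∈ K,
      k₁ * k₂ * k₁⁻¹ * k₂⁻¹ ∈ Subgroup.centralizer (V : Set X) := by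
    intro k₁ h₁ k₂ h₂
    exact hRCV (hKcomm k₁ h₁ k₂ h₂)
  have hm : (Nat.card Kbar).Coprime p := hKbc
  have hpow : ∀ k ∈ K, k ^ Nat.card Kbar ∈ Subgroup.centralizer (V : Set X) := by
    intro k hk
    apply hRCV
    rw [← hker, map_pow]
    have h1 : (⟨QuotientGroup.mk' R k, hk⟩ : Kbar) ^ Nat.card Kbar = 1 := pow_card_eq_one'
    have h2 := congrArg Subtype.val h1
    rw [Subgroup.coe_pow] at h2
    exact h2
  have key := commutator_mem_centralizer_of_quadratic hp2 V hVc hVp x hxq K hKx hKc'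
    (Nat.card Kbar) hm hpow
  intro k hk
  rw [← hCVeq]
  exact key k hk

end Terminal

end Cfsg.Agent.Lib.Helper72_ThompsonTerminal
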