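import Mathlib
import Cfsg.Prelude.Def_Solvable
import Cfsg.Prelude.Def_Transfer
import Cfsg.Agent.Lib.Helper51_CMDefs
import Cfsg.Agent.Lib.Helper31_CM_DQ_IND
import Cfsg.Agent.Lib.Helper31_CM_DQ_CHAR
import Cfsg.Agent.Lib.Helper82_CM_DQ_PC
import Cfsg.Agent.S0108

/-!
S3905 market (architect helper51), package CM-DQ-TH: Thompson's normal `p`-complement theorem (S0108) applied to
`Γ ⧸ O_p(Γ)` (helper20).
-/

set_option autoImplicit false
open Cfsg Cfsg.Agent.Lib.Helper51_CMDefs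

namespace Cfsg.Agent.Lib.Helper20_CM_DQ_THcore

variable {G Γ : Type*} [Group G] [Group Γ] {ρ : G →* MulAut Γ}

/-- a subgroup `K̄ ≥ P̄` of `Γ ⧸ O_p(Γ)`, stable under the automorphisms induced from the automorphisms of `Γ` stabilizing `P`,
is `P̄` or `⊤`. -/
theorem eq_Pbar_or_top [Finite Γ] {p : ℕ} (P : Sylow p Γ) (nb : NB (P : Subgroup Γ))
    (K : Subgroup (Γ ⧸ Op P)) (hPK : Pbar P ≤ K)
    (hst : ∀ β : MulAut (Γ ⧸ Op P), (Pbar P).map β.toMonoidHom = Pbar P → ∀ y ∈ K, β y ∈ K) :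
    K = Pbar P ∨ K = ⊤ := by
  have hsurj : Function.Surjective (QuotientGroup.mk' (Op P)) := QuotientGroup.mk'_surjective _
  have hPT : (P : Subgroup Γ) ≤ K.comap (QuotientGroup.mk' (Op P)) := by
    intro x hx
    rw [Subgroup.mem_comap]
    exact hPK (Subgroup.mem_map_of_mem _ hx)
  have hstab : ∀ α : MulAut Γ, (∀ x ∈ (P : Subgroup Γ), α x ∈ (P : Subgroup Γ)) →
      ∀ t ∈ K.comap (QuotientGroup.mk' (Op P)), α t ∈ K.comap (QuotientGroup.mk' (Op P)) := by
    intro α hα t ht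
    obtain ⟨β, hβ, hβP⟩ := Cfsg.Agent.Lib.Helper31_CM_DQ_IND.exists_induced P α hα
    rw [Subgroup.mem_comap] at ht ⊢
    have h1 := hst β hβP _ ht
    rw [QuotientGroup.mk'_apply, hβ] at h1
    exact h1
  rcases nb _ hPT hstab with h | h
  · left
    rw [← Subgroup.map_comap_eq_self_of_surjective hsurj K, h]
  · right
    rw [← Subgroup.map_comap_eq_self_of_surjective hsurj K, h]
    exact Subgroup.map_top_of_surjective _ hsurj

/-- core of the package, with the two statements of CM-DQ-TOP as hypotheses -/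
theorem quot_hasNormalPComplement_core [Finite Γ] {p : ℕ} [Fact p.Prime] (hp2 : p ≠ 2) (P : Sylow p Γ)
    (nb : NB (P : Subgroup Γ))
    (hJ : Subgroup.normalizer (Cfsg.thompsonSubgroupOf p (Pbar P) : Set (Γ ⧸ Op P)) ≠ ⊤)
    (hZ : Subgroup.centralizer ((Pbar P ⊓ Subgroup.centralizer (Pbar P : Set (Γ ⧸ Op P)) :
      Subgroup (Γ ⧸ Op P)) : Set (Γ ⧸ Op P)) ≠ ⊤) :
    Cfsg.HasNormalPComplement p (Γ ⧸ Op P) := by
  have hsurj : Function.Surjective (QuotientGroup.mk' (Op P)) := QuotientGroup.mk'_surjective _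
  have hPb : IsPGroup p ↥(Pbar P) := P.2.map _
  have key : ∀ K : Subgroup (Γ ⧸ Op P), K = Pbar P → Cfsg.HasNormalPComplement p ↥K := by
    intro K hK
    subst hK
    exact Cfsg.Agent.Lib.Helper82_CM_DQ_PC.hasNormalPComplement_of_isPGroup hPb
  have hcoe : ((P.mapSurjective hsurj : Sylow p (Γ ⧸ Op P)) : Subgroup (Γ ⧸ Op P)) = Pbar P := rfl
  refine (Cfsg.Agent.S0108.result hp2 (P.mapSurjective hsurj)).mpr ⟨?_, ?_⟩
  · rw [hcoe]
    apply key
    rcases eq_Pbar_or_top P nb _ (Cfsg.Agent.Lib.Helper31_CM_DQ_CHAR.le_normalizer_thompson p (Pbar P))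
      (fun β hβ y hy => Cfsg.Agent.Lib.Helper31_CM_DQ_CHAR.normalizer_thompson_stable p β _ hβ y hy) with h | h
    · exact h
    · exact absurd h hJ
  · rw [hcoe]
    apply key
    have hle : Pbar P ≤ Subgroup.centralizer ((Pbar P ⊓ Subgroup.centralizer (Pbar P : Set (Γ ⧸ Op P)) :
        Subgroup (Γ ⧸ Op P)) : Set (Γ ⧸ Op P)) := by
      intro y hy
      rw [Subgroup.mem_centralizer_iff]
      intro z hz
      have hz2 : z ∈ Subgroup.centralizer (Pbar P : Set (Γ ⧸ Op P)) := hz.2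
      rw [Subgroup.mem_centralizer_iff] at hz2
      exact (hz2 y hy).symm
    rcases eq_Pbar_or_top P nb _ hle
      (fun β hβ y hy => Cfsg.Agent.Lib.Helper31_CM_DQ_CHAR.centralizer_center_stable β _ hβ y hy) with h | h
    · exact h
    · exact absurd h hZ

end Cfsg.Agent.Lib.Helper20_CM_DQ_THcore
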