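import Mathlib
import Cfsg.Agent.S0654
import Cfsg.Agent.Lib.Helper11_ZJ
import Cfsg.Agent.Lib.Helper11_ZJ3
import Cfsg.Agent.Lib.Helper49_Thompson
import Cfsg.Agent.Lib.Helper1_Cores

/-!
# The elementary abelian Thompson subgroup: basic facts (helper32)

`fam p T` is the family of elementary abelian subgroups of `T` of the largest order
(`Helper11_ZJ.maxFam (S0654.PrEA p) T`).  Basic closure properties, transport to subgroup types, and
the description `thompsonSubgroupOf p T = sSup (fam p T)`.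
-/

set_option autoImplicit false

namespace Cfsg.Agent.Lib.Helper32_ZJe

open Cfsg Cfsg.Agent.Lib.Helper11_ZJ Cfsg.Agent.S0654

variable {G : Type*} [Group G]

/-- elementwise form of elementary abelian -/
theorem prEA_iff {p : ℕ} {A : Subgroup G} :
    PrEA p A ↔ (∀ a ∈ A, ∀ b ∈ A, a * b = b * a) ∧ ∀ a ∈ A, a ^ p = 1 :=
  Cfsg.Agent.Lib.Helper49_Thompson.isEA_iff p A

theorem prEA_of_le {p : ℕ} {A B : Subgroup G} (hA : PrEA p A) (hBA : B ≤ A) : PrEA p B := by
  rw [prEA_iff] at hA ⊢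
  exact ⟨fun a ha b hb => hA.1 a (hBA ha) b (hBA hb), fun a ha => hA.2 a (hBA ha)⟩

theorem prEA_sup {p : ℕ} {A B : Subgroup G} (hA : PrEA p A) (hB : PrEA p B)
    (hAB : ∀ a ∈ A, ∀ b ∈ B, a * b = b * a) : PrEA p (A ⊔ B) := by
  rw [prEA_iff] at hA hB ⊢
  have hAc : A ≤ Subgroup.centralizer ((A ⊔ B : Subgroup G) : Set G) := by
    rw [Subgroup.le_centralizer_iff]
    refine sup_le ?_ ?_
    · intro a ha
      rw [Subgroup.mem_centralizer_iff]
      intro x hx
      exact hA.1 x hx a ha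
    · intro b hb
      rw [Subgroup.mem_centralizer_iff]
      intro x hx
      exact hAB x hx b hb
  have hBc : B ≤ Subgroup.centralizer ((A ⊔ B : Subgroup G) : Set G) := by
    rw [Subgroup.le_centralizer_iff]
    refine sup_le ?_ ?_
    · intro a ha
      rw [Subgroup.mem_centralizer_iff]
      intro x hx
      exact (hAB a ha x hx).symm
    · intro b hb
      rw [Subgroup.mem_centralizer_iff]
      intro x hx
      exact hB.1 x hx b hb
  have hc : A ⊔ B ≤ Subgroup.centralizer ((A ⊔ B : Subgroup G) : Set G) := sup_le hAc hBc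
  have hcomm : ∀ a ∈ A ⊔ B, ∀ b ∈ A ⊔ B, a * b = b * a := by
    intro a ha b hb
    exact (Subgroup.mem_centralizer_iff.mp (hc hb)) a ha
  refine ⟨hcomm, ?_⟩
  intro x hx
  have hle : A ⊔ B ≤ (Subgroup.closure {y : G | y ∈ A ⊔ B ∧ y ^ p = 1}) := by
    refine sup_le ?_ ?_
    · intro a ha
      exact Subgroup.subset_closure ⟨Subgroup.mem_sup_left ha, hA.2 a ha⟩
    · intro b hb
      exact Subgroup.subset_closure ⟨Subgroup.mem_sup_right hb, hB.2 b hb⟩
  have hx' := hle hx
  have key : ∀ y ∈ Subgroup.closure {y : G | y ∈ A ⊔ B ∧ y ^ p = 1}, y ∈ A ⊔ B ∧ y ^ p = 1 := by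
    intro y hy
    induction hy using Subgroup.closure_induction with
    | mem y hy => exact hy
    | one => exact ⟨Subgroup.one_mem _, one_pow _⟩
    | mul y z _ _ hy hz =>
      refine ⟨Subgroup.mul_mem _ hy.1 hz.1, ?_⟩
      have hcz : Commute y z := hcomm y hy.1 z hz.1
      rw [hcz.mul_pow, hy.2, hz.2, one_mul]
    | inv y _ hy =>
      exact ⟨Subgroup.inv_mem _ hy.1, by rw [inv_pow, hy.2, inv_one]⟩
  exact (key x hx').2

/-- the family of elementary abelian subgroups of `T` of the largest order -/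
abbrev fam (p : ℕ) (T : Subgroup G) : Set (Subgroup G) := maxFam (PrEA (G := G) p) T

theorem fam_nonempty [Finite G] (p : ℕ) (T : Subgroup G) : (fam p T).Nonempty :=
  maxFam_nonempty (Cfsg.Agent.S0655.bot_isElementaryAbelian p) T

/-- an elementary abelian subgroup of `T` centralizing a member of the family lies in it -/
theorem le_of_mem_fam [Finite G] {p : ℕ} {T A B : Subgroup G} (hA : A ∈ fam p T) (hBT : B ≤ T)
    (hB : PrEA p B) (hAB : ∀ a ∈ A, ∀ b ∈ B, a * b = b * a) : B ≤ A := by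
  have h1 : PrEA p (A ⊔ B) := prEA_sup hA.2.1 hB hAB
  have h2 : Nat.card (A ⊔ B : Subgroup G) ≤ Nat.card A := hA.2.2 _ (sup_le hA.1 hBT) h1
  have h3 : A ⊔ B = A := (Subgroup.eq_of_le_of_card_ge le_sup_left h2).symm
  rw [← h3]
  exact le_sup_right

theorem prEA_zpowers {p : ℕ} {x : G} (hx : x ^ p = 1) : PrEA p (Subgroup.zpowers x) := by
  rw [prEA_iff]
  refine ⟨?_, ?_⟩
  · intro a ha b hb
    obtain ⟨i, rfl⟩ := Subgroup.mem_zpowers_iff.mp ha
    obtain ⟨j, rfl⟩ := Subgroup.mem_zpowers_iff.mp hb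
    exact (Commute.zpow_zpow_self x i j).eq
  · intro a ha
    obtain ⟨i, rfl⟩ := Subgroup.mem_zpowers_iff.mp ha
    rw [← zpow_natCast, ← zpow_mul, mul_comm, zpow_mul, zpow_natCast, hx, one_zpow]

/-- an element of order dividing `p` of `T` centralizing a member of the family lies in it -/
theorem mem_of_mem_fam [Finite G] {p : ℕ} {T A : Subgroup G} (hA : A ∈ fam p T) {x : G}
    (hxT : x ∈ T) (hxp : x ^ p = 1) (hAx : ∀ a ∈ A, a * x = x * a) : x ∈ A := by
  have h1 : Subgroup.zpowers x ≤ A := by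
    apply le_of_mem_fam hA (by rw [Subgroup.zpowers_le]; exact hxT) (prEA_zpowers hxp)
    intro a ha b hb
    obtain ⟨i, rfl⟩ := Subgroup.mem_zpowers_iff.mp hb
    exact ((Commute.zpow_right (hAx a ha) i)).eq
  exact h1 (Subgroup.mem_zpowers x)

/-- a member of the family of `T` lying in `T' ≤ T` is a member of the family of `T'` -/
theorem mem_fam_of_le {p : ℕ} {T T' A : Subgroup G} (hT : T' ≤ T) (hA : A ∈ fam p T)
    (hAT' : A ≤ T') : A ∈ fam p T' :=
  (mem_maxFam_restrict hT hA hAT' A).mpr ⟨hA, hAT'⟩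

/-- if the family of `T` has a member inside `T' ≤ T`, then the family of `T'` is contained in that of `T` -/
theorem mem_fam_of_mem_fam_le {p : ℕ} {T T' A A' : Subgroup G} (hT : T' ≤ T) (hA : A ∈ fam p T)
    (hAT' : A ≤ T') (hA' : A' ∈ fam p T') : A' ∈ fam p T :=
  ((mem_maxFam_restrict hT hA hAT' A').mp hA').1

/-- members of the family have the same order -/
theorem card_eq_of_mem_fam {p : ℕ} {T A A' : Subgroup G} (hA : A ∈ fam p T) (hA' : A' ∈ fam p T) :
    Nat.card A = Nat.card A' :=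
  le_antisymm (hA'.2.2 A hA.1 hA.2.1) (hA.2.2 A' hA'.1 hA'.2.1)

/-- an elementary abelian subgroup of `T` of order at least that of a member is a member -/
theorem mem_fam_of_card_le {p : ℕ} {T A A' : Subgroup G} (hA : A ∈ fam p T) (hA'T : A' ≤ T)
    (hA' : PrEA p A') (hcard : Nat.card A ≤ Nat.card A') : A' ∈ fam p T :=
  ⟨hA'T, hA', fun A'' hA''T hA'' => (hA.2.2 A'' hA''T hA'').trans hcard⟩

/-- conjugation invariance -/
theorem map_conj_mem_fam [Finite G] {p : ℕ} {T A : Subgroup G} (hA : A ∈ fam p T) (g : G)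
    (hg : g ∈ Subgroup.normalizer (T : Set G)) :
    A.map (MulAut.conj g).toMonoidHom ∈ fam p T := by
  have h1 := map_mem_maxFam (Pr := PrEA (G := G) p)
    (fun φ A hA => Cfsg.Agent.S0622.isElementaryAbelian_map φ.toMonoidHom hA) (MulAut.conj g) hA
  have h2 : T.map (MulAut.conj g).toMonoidHom = T :=
    Cfsg.Agent.Lib.Helper34_Sylow.cj_eq_self_of_mem_normalizer hg
  rwa [h2] at h1

/-- transport to a subgroup type -/
theorem fam_map_subtype (p : ℕ) (Y : Subgroup G) (T' : Subgroup ↥Y) :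
    fam p (T'.map Y.subtype) = Set.image (fun A : Subgroup ↥Y => A.map Y.subtype) (fam p T') := by
  apply Cfsg.Agent.Lib.Helper11_ZJ3.maxFam_map_of_injOn Y.subtype T'
  · intro x _ hx
    exact Subtype.ext (by simpa using hx)
  · intro A _
    show Cfsg.IsElementaryAbelian p (A.map Y.subtype) ↔ Cfsg.IsElementaryAbelian p A
    rw [Cfsg.Agent.Lib.Helper49_Thompson.isEA_iff, Cfsg.Agent.Lib.Helper49_Thompson.isEA_iff,
      Cfsg.Agent.Lib.Helper49_Thompson.EA_map_subtype]

/-- the Thompson subgroup is generated by the family -/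
theorem thompsonSubgroupOf_eq_sSup (p : ℕ) (T : Subgroup G) :
    Cfsg.thompsonSubgroupOf p T = sSup (fam p T) := by
  rw [Cfsg.Agent.Lib.Helper49_Thompson.thompson_eq_JJ]
  unfold Cfsg.Agent.Lib.Helper49_Thompson.JJ
  congr 1
  ext A
  constructor
  · rintro ⟨h1, h2, h3⟩
    refine ⟨h1, (Cfsg.Agent.Lib.Helper49_Thompson.isEA_iff p A).mpr h2, ?_⟩
    intro A' hA' hPr
    exact h3 A' hA' ((Cfsg.Agent.Lib.Helper49_Thompson.isEA_iff p A').mp hPr)
  · rintro ⟨h1, h2, h3⟩
    refine ⟨h1, (Cfsg.Agent.Lib.Helper49_Thompson.isEA_iff p A).mp h2, ?_⟩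
    intro A' hA' hPr
    exact h3 A' hA' ((Cfsg.Agent.Lib.Helper49_Thompson.isEA_iff p A').mpr hPr)

theorem le_thompsonSubgroupOf {p : ℕ} {T A : Subgroup G} (hA : A ∈ fam p T) :
    A ≤ Cfsg.thompsonSubgroupOf p T := by
  rw [thompsonSubgroupOf_eq_sSup]
  exact le_sSup hA

end Cfsg.Agent.Lib.Helper32_ZJe
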