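import Mathlib
import Cfsg.Agent.Lib.Helper32_ZJe1
import Cfsg.Agent.Lib.Helper1_PStable3
import Cfsg.Agent.Lib.Helper24_Coprime
import Cfsg.Agent.Lib.Helper34_Sylow

/-!
# Consequences of the hypotheses `Hyp` relative to `O_p(X)` (helper32)

For a finite group `X` with `Hyp p K H` (`H ≤ K` normal, `H` a `p`-group, `K / H` abelian of
exponent prime to `p`, `X / K` a `p`-group) we put `H₁ = O_p(X)` and `K₁ = K ⊔ H₁` and record:
`p`-elements of `K₁` lie in `H₁`; `K₁ ⊔ T = ⊤` for a Sylow `p`-subgroup `T`; an element of `T`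
centralizing `K₁` modulo `H₁` lies in `H₁`.
-/

set_option autoImplicit false

namespace Cfsg.Agent.Lib.Helper32_ZJe

open Cfsg Cfsg.Agent.Lib.Helper11_ZJ Cfsg.Agent.S0654 Cfsg.Agent.Lib.Helper1_PStable

universe u

variable {X : Type u} [Group X]

/-- the subgroup `K₁ = K ⊔ O_p(X)` -/
abbrev K1 (p : ℕ) (K : Subgroup X) : Subgroup X := K ⊔ pCore p X

theorem pCore_le_K1 (p : ℕ) (K : Subgroup X) : pCore p X ≤ K1 p K := le_sup_right

theorem K1_normal (p : ℕ) {K H : Subgroup X} (hyp : Hyp p K H) : (K1 p K).Normal := by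
  have := hyp.Kn
  have : (pCore p X).Normal := Cfsg.Agent.Lib.Helper1_Cores.pCore_normal p
  exact Subgroup.sup_normal K (pCore p X)

/-- the image of `K₁` modulo `O_p(X)` has exponent prime to `p` -/
theorem exists_exponent {p : ℕ} [Fact p.Prime] {K H : Subgroup X} (hyp : Hyp p K H) :
    ∃ e : ℕ, e.Coprime p ∧ ∀ k ∈ K1 p K, k ^ e ∈ pCore p X := by
  have hH1n : (pCore p X).Normal := Cfsg.Agent.Lib.Helper1_Cores.pCore_normal p
  have hHH1 : H ≤ pCore p X := Cfsg.Agent.Lib.Helper1_Cores.le_pCore hyp.Hn hyp.Hp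
  obtain ⟨e, he, hKe⟩ := hyp.Kexp
  refine ⟨e, he, ?_⟩
  intro k hk
  have h1 : (QuotientGroup.mk' (pCore p X)) k ∈ (K1 p K).map (QuotientGroup.mk' (pCore p X)) :=
    ⟨k, hk, rfl⟩
  rw [Subgroup.map_sup, QuotientGroup.map_mk'_self, sup_bot_eq] at h1
  obtain ⟨k', hk', hkk'⟩ := h1
  rw [← QuotientGroup.eq_one_iff, QuotientGroup.mk_pow]
  have h2 : (QuotientGroup.mk' (pCore p X)) k' ^ e = 1 := by
    rw [← map_pow]
    exact (QuotientGroup.eq_one_iff _).mpr (hHH1 (hKe k' hk'))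
  rw [hkk'] at h2
  exact h2

/-- `p`-elements of `K₁` lie in `O_p(X)` -/
theorem mem_pCore_of_mem_K1 {p : ℕ} [Fact p.Prime] {K H : Subgroup X} (hyp : Hyp p K H)
    {x : X} (hx : x ∈ K1 p K) {n : ℕ} (hxp : x ^ (p ^ n) = 1) : x ∈ pCore p X := by
  have hH1n : (pCore p X).Normal := Cfsg.Agent.Lib.Helper1_Cores.pCore_normal p
  obtain ⟨e, he, hKe⟩ := exists_exponent hyp
  have h1 : ((x : X) : X ⧸ pCore p X) ^ e = 1 := by
    rw [← QuotientGroup.mk_pow]
    exact (QuotientGroup.eq_one_iff _).mpr (hKe x hx)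
  have h2 : ((x : X) : X ⧸ pCore p X) ^ (p ^ n) = 1 := by
    rw [← QuotientGroup.mk_pow, hxp]
    rfl
  have h3 : orderOf ((x : X) : X ⧸ pCore p X) ∣ e := orderOf_dvd_of_pow_eq_one h1
  have h4 : orderOf ((x : X) : X ⧸ pCore p X) ∣ p ^ n := orderOf_dvd_of_pow_eq_one h2
  have h5 : orderOf ((x : X) : X ⧸ pCore p X) = 1 :=
    Nat.eq_one_of_dvd_coprimes (Nat.Coprime.pow_right n he) h3 h4
  exact (QuotientGroup.eq_one_iff _).mp (orderOf_eq_one_iff.mp h5)

/-- a `p`-subgroup of `K₁` lies in `O_p(X)` -/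
theorem le_pCore_of_le_K1 {p : ℕ} [Fact p.Prime] {K H : Subgroup X} (hyp : Hyp p K H)
    {P : Subgroup X} (hP : IsPGroup p P) (hPK : P ≤ K1 p K) : P ≤ pCore p X := by
  intro x hx
  obtain ⟨n, hn⟩ := hP ⟨x, hx⟩
  have hn' : x ^ (p ^ n) = 1 := by simpa using congrArg Subtype.val hn
  exact mem_pCore_of_mem_K1 hyp (hPK hx) hn'

/-- `K₁ ⊔ T = ⊤` -/
theorem K1_sup_sylow [Finite X] {p : ℕ} [Fact p.Prime] {K H : Subgroup X} (hyp : Hyp p K H)
    (T : Sylow p X) : K1 p K ⊔ (T : Subgroup X) = ⊤ := by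
  have hn := K1_normal p hyp
  have hq : IsPGroup p (X ⧸ K1 p K) := by
    intro g
    obtain ⟨g, rfl⟩ := QuotientGroup.mk_surjective g
    obtain ⟨n, hn⟩ := hyp.XK g
    refine ⟨n, ?_⟩
    rw [← QuotientGroup.mk_pow]
    exact (QuotientGroup.eq_one_iff _).mpr (Subgroup.mem_sup_left hn)
  rw [sup_comm]
  exact Cfsg.Agent.Lib.Helper34_Sylow.sup_eq_top_of_index (T : Subgroup X) (K1 p K)
    T.not_dvd_index hq

/-- every element is a product of an element of `K₁` and an element of `T` -/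
theorem exists_mul_of_K1 [Finite X] {p : ℕ} [Fact p.Prime] {K H : Subgroup X} (hyp : Hyp p K H)
    (T : Sylow p X) (g : X) : ∃ k ∈ K1 p K, ∃ t ∈ (T : Subgroup X), g = k * t := by
  have hn := K1_normal p hyp
  have hg : g ∈ K1 p K ⊔ (T : Subgroup X) := by rw [K1_sup_sylow hyp T]; exact Subgroup.mem_top g
  rw [← SetLike.mem_coe, Subgroup.normal_mul] at hg
  obtain ⟨k, hk, t, ht, rfl⟩ := hg
  exact ⟨k, hk, t, ht, rfl⟩

open scoped commutatorElement

/-- an element of `T` centralizing `K₁` modulo `O_p(X)` lies in `O_p(X)` -/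
theorem mem_pCore_of_centralizes [Finite X] {p : ℕ} [Fact p.Prime] {K H : Subgroup X}
    (hyp : Hyp p K H) (T : Sylow p X) {x : X} (hxT : x ∈ (T : Subgroup X))
    (hx : ∀ k ∈ K1 p K, ⁅x, k⁆ ∈ pCore p X) : x ∈ pCore p X := by
  have hH1n : (pCore p X).Normal := Cfsg.Agent.Lib.Helper1_Cores.pCore_normal p
  have hK1n := K1_normal p hyp
  have hH1T : pCore p X ≤ (T : Subgroup X) := Cfsg.Agent.Lib.Helper1_Cores.pCore_le_sylow p T
  -- the subgroup of such elements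
  have hQn : ((K1 p K).map (QuotientGroup.mk' (pCore p X))).Normal :=
    Subgroup.Normal.map hK1n _ (QuotientGroup.mk'_surjective _)
  have hcomm_iff : ∀ y k : X, ⁅y, k⁆ ∈ pCore p X ↔
      ((k : X) : X ⧸ pCore p X) * ((y : X) : X ⧸ pCore p X) =
        ((y : X) : X ⧸ pCore p X) * ((k : X) : X ⧸ pCore p X) := by
    intro y k
    rw [← QuotientGroup.eq_one_iff, commutatorElement_def, QuotientGroup.mk_mul,
      QuotientGroup.mk_mul, QuotientGroup.mk_mul, QuotientGroup.mk_inv, QuotientGroup.mk_inv]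
    constructor
    · intro h3
      have := congrArg (fun z => z * ((k : X) : X ⧸ pCore p X) * ((y : X) : X ⧸ pCore p X)) h3
      simp only [mul_assoc, inv_mul_cancel, mul_one, one_mul] at this
      exact this.symm
    · intro h3
      rw [← h3, mul_inv_cancel_right, mul_inv_cancel]
  obtain ⟨P, hmemP⟩ : ∃ P : Subgroup X, ∀ y : X, y ∈ P ↔
      y ∈ (T : Subgroup X) ∧ ∀ k ∈ K1 p K, ⁅y, k⁆ ∈ pCore p X := by
    refine ⟨(T : Subgroup X) ⊓ (Subgroup.centralizer
      (((K1 p K).map (QuotientGroup.mk' (pCore p X)) : Subgroup (X ⧸ pCore p X)) :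
        Set (X ⧸ pCore p X))).comap (QuotientGroup.mk' (pCore p X)), ?_⟩
    intro y
    rw [Subgroup.mem_inf, Subgroup.mem_comap, Subgroup.mem_centralizer_iff]
    constructor
    · rintro ⟨h1, h2⟩
      refine ⟨h1, ?_⟩
      intro k hk
      rw [hcomm_iff]
      exact h2 _ ⟨k, hk, rfl⟩
    · rintro ⟨h1, h2⟩
      refine ⟨h1, ?_⟩
      rintro _ ⟨k, hk, rfl⟩
      exact (hcomm_iff y k).mp (h2 k hk)
  have hH1P : pCore p X ≤ P := by
    intro h hh
    rw [hmemP]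
    refine ⟨hH1T hh, fun k _ => ?_⟩
    have : ⁅h, k⁆ = h * (k * h⁻¹ * k⁻¹) := by rw [commutatorElement_def]; group
    rw [this]
    exact Subgroup.mul_mem _ hh (hH1n.conj_mem _ (Subgroup.inv_mem _ hh) k)
  have hPp : IsPGroup p P := T.isPGroup'.to_le (fun y hy => ((hmemP y).mp hy).1)
  have hPn : P.Normal := by
    apply normal_of_conj_mem
    intro g y hy
    obtain ⟨k, hk, t, ht, rfl⟩ := exists_mul_of_K1 hyp T g
    have hy' := (hmemP y).mp hy
    -- conjugate by `t`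
    have h1 : t * y * t⁻¹ ∈ P := by
      rw [hmemP]
      refine ⟨Subgroup.mul_mem _ (Subgroup.mul_mem _ ht hy'.1) (Subgroup.inv_mem _ ht), ?_⟩
      intro k' hk'
      have h5 : ⁅t * y * t⁻¹, k'⁆ = t * ⁅y, t⁻¹ * k' * t⁆ * t⁻¹ := by
        rw [commutatorElement_def, commutatorElement_def]; group
      rw [h5]
      apply hH1n.conj_mem
      apply hy'.2
      have := hK1n.conj_mem k' hk' t⁻¹
      simpa using this
    -- conjugate by `k`
    have h2 : k * (t * y * t⁻¹) * k⁻¹ = ⁅t * y * t⁻¹, k⁆⁻¹ * (t * y * t⁻¹) := by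
      rw [commutatorElement_def]; group
    have h3 : k * t * y * (k * t)⁻¹ = k * (t * y * t⁻¹) * k⁻¹ := by group
    rw [h3, h2]
    refine Subgroup.mul_mem _ (Subgroup.inv_mem _ (hH1P ?_)) h1
    exact ((hmemP _).mp h1).2 k hk
  have hle := Cfsg.Agent.Lib.Helper1_Cores.le_pCore hPn hPp
  exact hle ((hmemP x).mpr ⟨hxT, hx⟩)

end Cfsg.Agent.Lib.Helper32_ZJe
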