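import Mathlib
import Cfsg.Agent.Lib.Helper32_ZJe3
import Cfsg.Agent.Lib.Helper38_HyperplaneGen
import Cfsg.Agent.Lib.Helper48_Generation

/-!
# The minimal counterexample: `|T : O_p(X)| = p` (helper32)

In a counterexample `X` to `Goal` all of whose proper subgroups satisfy `Goal`:
* `K₁ ⊔ A = ⊤` and `T = O_p(X) A` for every member `A` of the family of `T`;
* `|A : A ∩ O_p(X)| ≤ p`, hence `A ∩ O_p(X)` is a member of the family of `O_p(X)`.
-/

set_option autoImplicit false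

namespace Cfsg.Agent.Lib.Helper32_ZJe

open Cfsg Cfsg.Agent.Lib.Helper11_ZJ Cfsg.Agent.S0654 Cfsg.Agent.Lib.Helper1_PStable

open scoped commutatorElement

universe u

variable {X : Type u} [Group X]

/-- commutators modulo a normal subgroup -/
theorem comm_mem_iff (M : Subgroup X) [M.Normal] (y k : X) :
    ⁅y, k⁆ ∈ M ↔ ((k : X) : X ⧸ M) * ((y : X) : X ⧸ M) = ((y : X) : X ⧸ M) * ((k : X) : X ⧸ M) := by
  rw [← QuotientGroup.eq_one_iff, commutatorElement_def, QuotientGroup.mk_mul,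
    QuotientGroup.mk_mul, QuotientGroup.mk_mul, QuotientGroup.mk_inv, QuotientGroup.mk_inv]
  constructor
  · intro h3
    have := congrArg (fun z => z * ((k : X) : X ⧸ M) * ((y : X) : X ⧸ M)) h3
    simp only [mul_assoc, inv_mul_cancel, mul_one, one_mul] at this
    exact this.symm
  · intro h3
    rw [← h3, mul_inv_cancel_right, mul_inv_cancel]

theorem comm_mem_symm (M : Subgroup X) [M.Normal] {y k : X} (h : ⁅y, k⁆ ∈ M) : ⁅k, y⁆ ∈ M := by
  rw [comm_mem_iff] at h ⊢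
  exact h.symm

/-- the hypotheses of the minimal counterexample -/
structure MinCE (p : ℕ) [Fact p.Prime] (X : Type u) [Group X] (K H : Subgroup X)
    (T : Sylow p X) : Prop where
  hyp : Hyp p K H
  hc : Subgroup.centralizer (pCore p X : Set X) ≤ pCore p X
  ih : ∀ Y : Subgroup X, Y ≠ ⊤ → Goal p ↥Y
  hno : ∀ A ∈ fam p (T : Subgroup X), ¬ A ≤ pCore p X

variable [Finite X] {p : ℕ} [Fact p.Prime] {K H : Subgroup X} {T : Sylow p X}

/-- Step A: `K₁ ⊔ A = ⊤` -/
theorem MinCE.sup_eq_top (h : MinCE p X K H T) {A : Subgroup X}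
    (hA : A ∈ fam p (T : Subgroup X)) : K1 p K ⊔ A = ⊤ := by
  by_contra hne
  have hK1n := K1_normal p h.hyp
  have hAN : A ≤ Subgroup.normalizer ((K1 p K : Subgroup X) : Set X) := by
    rw [Subgroup.normalizer_eq_top]; exact le_top
  obtain ⟨A₁, hA₁, hcent⟩ := subconfig h.hyp h.hc T hA (K1 p K) (pCore_le_K1 p K) le_rfl hAN
    (h.ih _ hne)
  apply h.hno A₁ hA₁
  intro x hx
  exact mem_pCore_of_centralizes h.hyp T (hA₁.1 hx) (hcent x hx)

/-- Step A': `T = O_p(X) A` -/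
theorem MinCE.exists_mul (h : MinCE p X K H T) {A : Subgroup X}
    (hA : A ∈ fam p (T : Subgroup X)) {t : X} (ht : t ∈ (T : Subgroup X)) :
    ∃ h₁ ∈ pCore p X, ∃ a ∈ A, t = h₁ * a := by
  have hK1n := K1_normal p h.hyp
  have ht' : t ∈ K1 p K ⊔ A := by rw [h.sup_eq_top hA]; exact Subgroup.mem_top t
  rw [← SetLike.mem_coe, Subgroup.normal_mul] at ht'
  obtain ⟨k, hk, a, ha, rfl⟩ := ht'
  refine ⟨k, ?_, a, ha, rfl⟩
  have hkT : k ∈ (T : Subgroup X) := by
    have : k = k * a * a⁻¹ := by group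
    rw [this]
    exact Subgroup.mul_mem _ ht (Subgroup.inv_mem _ (hA.1 ha))
  have hQp : IsPGroup p (((T : Subgroup X) ⊓ K1 p K : Subgroup X)) := T.isPGroup'.to_le inf_le_left
  exact le_pCore_of_le_K1 h.hyp hQp inf_le_right ⟨hkT, hk⟩

/-- the key consequence of the sub-configuration lemma: an element of `K₁` commuting modulo `O_p(X)`
with an element `c ∈ A` outside `O_p(X)` commutes modulo `O_p(X)` with all of `A`. -/
theorem MinCE.centralizes (h : MinCE p X K H T) {A : Subgroup X}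
    (hA : A ∈ fam p (T : Subgroup X)) {c : X} (hcA : c ∈ A) (hcH : c ∉ pCore p X)
    {k : X} (hk : k ∈ K1 p K) (hkc : ⁅k, c⁆ ∈ pCore p X) :
    ∀ x ∈ A, ⁅x, k⁆ ∈ pCore p X := by
  have hH1n : (pCore p X).Normal := Cfsg.Agent.Lib.Helper1_Cores.pCore_normal p
  have hK1n := K1_normal p h.hyp
  have hAcomm : ∀ a ∈ A, ∀ b ∈ A, a * b = b * a := (prEA_iff.mp hA.2.1).1
  -- the subgroup `N_c`
  obtain ⟨N, hmemN⟩ : ∃ N : Subgroup X, ∀ y : X, y ∈ N ↔ y ∈ K1 p K ∧ ⁅y, c⁆ ∈ pCore p X := by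
    refine ⟨K1 p K ⊓ (Subgroup.centralizer
      ({((c : X) : X ⧸ pCore p X)} : Set (X ⧸ pCore p X))).comap (QuotientGroup.mk' (pCore p X)), ?_⟩
    intro y
    rw [Subgroup.mem_inf, Subgroup.mem_comap, Subgroup.mem_centralizer_iff, comm_mem_iff]
    constructor
    · rintro ⟨h1, h2⟩
      exact ⟨h1, h2 _ rfl⟩
    · rintro ⟨h1, h2⟩
      refine ⟨h1, ?_⟩
      intro z hz
      rw [Set.mem_singleton_iff] at hz
      rw [hz]
      exact h2
  have hHN : pCore p X ≤ N := by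
    intro y hy
    rw [hmemN]
    refine ⟨pCore_le_K1 p K hy, ?_⟩
    have : ⁅y, c⁆ = y * (c * y⁻¹ * c⁻¹) := by rw [commutatorElement_def]; group
    rw [this]
    exact Subgroup.mul_mem _ hy (hH1n.conj_mem _ (Subgroup.inv_mem _ hy) c)
  have hNK : N ≤ K1 p K := fun y hy => ((hmemN y).mp hy).1
  have hconj : ∀ x ∈ A, ∀ y ∈ N, x * y * x⁻¹ ∈ N := by
    intro x hx y hy
    rw [hmemN] at hy ⊢
    refine ⟨hK1n.conj_mem y hy.1 x, ?_⟩
    have hxc : x⁻¹ * c * x = c := by
      rw [mul_assoc, ← hAcomm x hx c hcA, inv_mul_cancel_left]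
    have : ⁅x * y * x⁻¹, c⁆ = x * ⁅y, x⁻¹ * c * x⁆ * x⁻¹ := by
      rw [commutatorElement_def, commutatorElement_def]; group
    rw [this, hxc]
    exact hH1n.conj_mem _ hy.2 x
  have hAN : A ≤ Subgroup.normalizer (N : Set X) := by
    intro x hx
    rw [Subgroup.mem_normalizer_iff]
    intro y
    constructor
    · exact hconj x hx y
    · intro hy
      have := hconj x⁻¹ (Subgroup.inv_mem _ hx) _ hy
      simpa [mul_assoc] using this
  have hne : N ⊔ A ≠ ⊤ := by
    intro htop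
    apply hcH
    apply mem_pCore_of_centralizes h.hyp T (hA.1 hcA)
    intro k' hk'
    apply comm_mem_symm
    have hk'' : k' ∈ ((N ⊔ A : Subgroup X) : Set X) := by rw [htop]; exact Set.mem_univ _
    rw [Subgroup.coe_mul_of_right_le_normalizer_left N A hAN] at hk''
    obtain ⟨n, hn, a, ha, hna⟩ := hk''
    have haK : a ∈ K1 p K := by
      have : a = n⁻¹ * k' := by rw [← hna]; simp
      rw [this]
      exact Subgroup.mul_mem _ (Subgroup.inv_mem _ (hNK hn)) hk'
    have hQp : IsPGroup p (((T : Subgroup X) ⊓ K1 p K : Subgroup X)) :=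
      T.isPGroup'.to_le inf_le_left
    have haH : a ∈ pCore p X := le_pCore_of_le_K1 h.hyp hQp inf_le_right ⟨hA.1 ha, haK⟩
    have hk'N : k' ∈ N := by
      rw [← hna]
      exact Subgroup.mul_mem _ hn (hHN haH)
    exact ((hmemN k').mp hk'N).2
  obtain ⟨A₁, hA₁, hcent⟩ := subconfig h.hyp h.hc T hA N hHN hNK hAN (h.ih _ hne)
  have hkN : k ∈ N := (hmemN k).mpr ⟨hk, hkc⟩
  intro x hx
  obtain ⟨h₁, hh₁, a₁, ha₁, rfl⟩ := h.exists_mul hA₁ (hA.1 hx)
  have h2 := hcent a₁ ha₁ k hkN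
  rw [comm_mem_iff] at h2 ⊢
  have h3 : ((h₁ * a₁ : X) : X ⧸ pCore p X) = ((a₁ : X) : X ⧸ pCore p X) := by
    rw [QuotientGroup.mk_mul, (QuotientGroup.eq_one_iff h₁).mpr hh₁, one_mul]
  rw [h3]
  exact h2

/-- the image of `K₁` modulo `O_p(X)` is a `p'`-group -/
theorem not_dvd_card_map_K1 (hyp : Hyp p K H) :
    ¬ p ∣ Nat.card ((K1 p K).map (QuotientGroup.mk' (pCore p X))) := by
  have hH1n : (pCore p X).Normal := Cfsg.Agent.Lib.Helper1_Cores.pCore_normal p
  have hp : p.Prime := Fact.out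
  intro hdvd
  obtain ⟨e, he, hKe⟩ := exists_exponent hyp
  obtain ⟨⟨_, k, hk, rfl⟩, hx⟩ := exists_prime_orderOf_dvd_card' p hdvd
  have h1 : (⟨QuotientGroup.mk' (pCore p X) k, ⟨k, hk, rfl⟩⟩ :
      ((K1 p K).map (QuotientGroup.mk' (pCore p X)))) ^ e = 1 := by
    apply Subtype.ext
    rw [SubgroupClass.coe_pow, OneMemClass.coe_one]
    show (QuotientGroup.mk' (pCore p X) k) ^ e = 1
    rw [← map_pow]
    exact (QuotientGroup.eq_one_iff _).mpr (hKe k hk)
  have h2 : p ∣ e := by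
    rw [← hx]
    exact orderOf_dvd_of_pow_eq_one h1
  exact (Nat.Prime.coprime_iff_not_dvd hp).mp he.symm h2

/-- Step B: `|A : A ∩ O_p(X)| ≤ p` -/
theorem MinCE.relIndex_le (h : MinCE p X K H T) {A : Subgroup X}
    (hA : A ∈ fam p (T : Subgroup X)) : (pCore p X).relIndex A ≤ p := by
  have hH1n : (pCore p X).Normal := Cfsg.Agent.Lib.Helper1_Cores.pCore_normal p
  have hK1n := K1_normal p h.hyp
  by_contra hnot
  obtain ⟨a, ha, b, hb, hbH, habH⟩ :=
    Cfsg.Agent.Lib.Helper38_HyperplaneGen.exists_indep A (pCore p X) hA.2.1 hnot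
  have hAea := prEA_iff.mp hA.2.1
  have hQn : ((K1 p K).map (QuotientGroup.mk' (pCore p X))).Normal :=
    Subgroup.Normal.map hK1n _ (QuotientGroup.mk'_surjective _)
  have hQeq : (K1 p K).map (QuotientGroup.mk' (pCore p X)) =
      K.map (QuotientGroup.mk' (pCore p X)) := by
    rw [Subgroup.map_sup, QuotientGroup.map_mk'_self, sup_bot_eq]
  have hHH1 : H ≤ pCore p X := Cfsg.Agent.Lib.Helper1_Cores.le_pCore h.hyp.Hn h.hyp.Hp
  have hQcomm : ∀ x y : ((K1 p K).map (QuotientGroup.mk' (pCore p X))), x * y = y * x := by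
    rintro ⟨x, hx⟩ ⟨y, hy⟩
    rw [hQeq] at hx hy
    obtain ⟨k₁, hk₁, rfl⟩ := hx
    obtain ⟨k₂, hk₂, rfl⟩ := hy
    apply Subtype.ext
    show QuotientGroup.mk' (pCore p X) k₁ * QuotientGroup.mk' (pCore p X) k₂ =
      QuotientGroup.mk' (pCore p X) k₂ * QuotientGroup.mk' (pCore p X) k₁
    have h1 : ⁅k₁, k₂⁆ ∈ pCore p X := by
      rw [commutatorElement_def]
      exact hHH1 (h.hyp.Kab k₁ hk₁ k₂ hk₂)
    rw [comm_mem_iff] at h1
    exact h1.symm
  let _ : CommGroup ((K1 p K).map (QuotientGroup.mk' (pCore p X))) :=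
    { (inferInstance : Group ((K1 p K).map (QuotientGroup.mk' (pCore p X)))) with
      mul_comm := hQcomm }
  have hnil : Group.IsNilpotent ((K1 p K).map (QuotientGroup.mk' (pCore p X))) :=
    CommGroup.isNilpotent
  have hcop := not_dvd_card_map_K1 h.hyp
  have hmem : ∀ c ∈ A, c ∉ pCore p X →
      (K1 p K).map (QuotientGroup.mk' (pCore p X)) ⊓
        Subgroup.centralizer ({QuotientGroup.mk' (pCore p X) c} : Set (X ⧸ pCore p X)) ≤
      Subgroup.centralizer ((A.map (QuotientGroup.mk' (pCore p X)) : Subgroup (X ⧸ pCore p X)) :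
        Set (X ⧸ pCore p X)) := by
    intro c hcA hcH y hy
    obtain ⟨hyQ, hyc⟩ := Subgroup.mem_inf.mp hy
    obtain ⟨k, hk, rfl⟩ := hyQ
    have hkc : ⁅k, c⁆ ∈ pCore p X := by
      rw [comm_mem_iff]
      exact (Subgroup.mem_centralizer_iff.mp hyc _ rfl)
    have h3 := h.centralizes hA hcA hcH hk hkc
    rw [Subgroup.mem_centralizer_iff]
    rintro _ ⟨x, hx, rfl⟩
    have h4 := h3 x hx
    rw [comm_mem_iff] at h4
    exact h4.symm
  have hnorm : ∀ g : X ⧸ pCore p X, g ∈ Subgroup.normalizer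
      (((K1 p K).map (QuotientGroup.mk' (pCore p X)) : Subgroup (X ⧸ pCore p X)) :
        Set (X ⧸ pCore p X)) := by
    intro g
    rw [Subgroup.normalizer_eq_top]
    exact Subgroup.mem_top g
  have key := Cfsg.Agent.Lib.Helper48_Generation.le_of_centralizers_le_of_nilpotent (p := p)
    ((K1 p K).map (QuotientGroup.mk' (pCore p X))) hcop
    (QuotientGroup.mk' (pCore p X) a) (QuotientGroup.mk' (pCore p X) b) (hnorm _) (hnorm _)
    (by rw [← map_pow, hAea.2 a ha, map_one]) (by rw [← map_pow, hAea.2 b hb, map_one])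
    (by rw [← map_mul, ← map_mul, hAea.1 a ha b hb])
    (Subgroup.centralizer ((A.map (QuotientGroup.mk' (pCore p X)) : Subgroup (X ⧸ pCore p X)) :
        Set (X ⧸ pCore p X)))
    (hmem b hb hbH)
    (by
      intro i
      have := hmem (a * b ^ i) (Subgroup.mul_mem _ ha (Subgroup.pow_mem _ hb i)) (habH i)
      rwa [map_mul, map_pow] at this)
  apply h.hno A hA
  intro x hx
  apply mem_pCore_of_centralizes h.hyp T (hA.1 hx)
  intro k hk
  rw [comm_mem_iff]
  have h5 := key ⟨k, hk, rfl⟩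
  exact Subgroup.mem_centralizer_iff.mp h5 _ ⟨x, hx, rfl⟩ |>.symm

/-- Step B': `A ∩ O_p(X)` is a member of the family of `O_p(X)` -/
theorem MinCE.inf_mem_fam (h : MinCE p X K H T) {A : Subgroup X}
    (hA : A ∈ fam p (T : Subgroup X)) : A ⊓ pCore p X ∈ fam p (pCore p X) := by
  have hp : p.Prime := Fact.out
  have hH1T : pCore p X ≤ (T : Subgroup X) := Cfsg.Agent.Lib.Helper1_Cores.pCore_le_sylow p T
  obtain ⟨E, hE⟩ := fam_nonempty p (pCore p X)
  have hET : E ≤ (T : Subgroup X) := hE.1.trans hH1T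
  have hle : Nat.card E ≤ Nat.card A := hA.2.2 E hET hE.2.1
  have hne : Nat.card E ≠ Nat.card A := by
    intro heq
    exact h.hno E (mem_fam_of_card_le hA hET hE.2.1 heq.ge) hE.1
  obtain ⟨i, hi⟩ := IsPGroup.iff_card.mp (T.isPGroup'.to_le hET)
  obtain ⟨j, hj⟩ := IsPGroup.iff_card.mp (T.isPGroup'.to_le hA.1)
  have hij : i < j := by
    have h1 : p ^ i < p ^ j := by rw [← hi, ← hj]; exact lt_of_le_of_ne hle hne
    exact (Nat.pow_lt_pow_iff_right hp.one_lt).mp h1
  have h2 : Nat.card E * p ≤ Nat.card A := by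
    rw [hi, hj, ← pow_succ]
    exact Nat.pow_le_pow_right hp.pos hij
  have h3 : Nat.card (A ⊓ pCore p X : Subgroup X) * (pCore p X).relIndex A = Nat.card A := by
    have := Subgroup.relIndex_mul_relIndex ⊥ (A ⊓ pCore p X) A bot_le inf_le_left
    rwa [Subgroup.relIndex_bot_left, Subgroup.relIndex_bot_left, Subgroup.inf_relIndex_left] at this
  have h4 : Nat.card E * p ≤ Nat.card (A ⊓ pCore p X : Subgroup X) * p := by
    calc Nat.card E * p ≤ Nat.card A := h2
      _ = Nat.card (A ⊓ pCore p X : Subgroup X) * (pCore p X).relIndex A := h3.symm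
      _ ≤ Nat.card (A ⊓ pCore p X : Subgroup X) * p := Nat.mul_le_mul_left _ (h.relIndex_le hA)
  have h5 : Nat.card E ≤ Nat.card (A ⊓ pCore p X : Subgroup X) :=
    Nat.le_of_mul_le_mul_right h4 hp.pos
  exact mem_fam_of_card_le hE inf_le_right (prEA_of_le hA.2.1 inf_le_left) h5

end Cfsg.Agent.Lib.Helper32_ZJe
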