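import Mathlib
import Cfsg.Agent.Lib.Helper32_ZJe4
import Cfsg.Agent.Lib.Helper95_Uniserial

/-!
# `O_p(X)` contains an elementary abelian subgroup of `T` of the largest order (helper32)

The minimal counterexample of `Helper32_ZJe4` does not exist (`MinCE.false`); hence `Goal p X` holds
for every finite group `X` (`goal`), for `p` odd.
-/

set_option autoImplicit false

namespace Cfsg.Agent.Lib.Helper32_ZJe

open Cfsg Cfsg.Agent.Lib.Helper11_ZJ Cfsg.Agent.S0654 Cfsg.Agent.Lib.Helper1_PStable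

open scoped commutatorElement

universe u

variable {X : Type u} [Group X]

/-- if the commutators of `B` are central in `B` and `p`-th powers are central in `B`, then commutators
of `B` have order dividing `p` -/
theorem commutator_pow_eq_one {p : ℕ} {B : Subgroup X}
    (hDc : ∀ z ∈ ⁅B, B⁆, ∀ y ∈ B, y * z = z * y)
    (hpowc : ∀ x ∈ B, ∀ y ∈ B, x ^ p * y = y * x ^ p) {x y : X} (hx : x ∈ B) (hy : y ∈ B) :
    ⁅x, y⁆ ^ p = 1 := by
  have hz : x * ⁅x, y⁆ = ⁅x, y⁆ * x :=
    hDc _ (Subgroup.commutator_mem_commutator hx hy) x hx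
  have hah : x * y * x⁻¹ = ⁅x, y⁆ * y := by rw [commutatorElement_def]; group
  have h1 := Cfsg.Agent.Lib.Helper24_Coprime.conj_pow_eq x y ⁅x, y⁆ hz hah p
  rw [hpowc x hx y hy, mul_inv_cancel_right] at h1
  have h2 : 1 * y = ⁅x, y⁆ ^ p * y := by rw [one_mul]; exact h1
  exact (mul_right_cancel h2).symm

variable [Finite X] {p : ℕ} [Fact p.Prime] {K H : Subgroup X} {T : Sylow p X}

/-- the minimal counterexample does not exist -/
theorem MinCE.false (hp2 : p ≠ 2) (h : MinCE p X K H T) : False := by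
  have hp : p.Prime := Fact.out
  have hH1n : (pCore p X).Normal := Cfsg.Agent.Lib.Helper1_Cores.pCore_normal p
  have hH1p : IsPGroup p (pCore p X) := Cfsg.Agent.Lib.Helper1_Cores.pCore_isPGroup p
  have hH1T : pCore p X ≤ (T : Subgroup X) := Cfsg.Agent.Lib.Helper1_Cores.pCore_le_sylow p T
  obtain ⟨A, hA⟩ := fam_nonempty p (T : Subgroup X)
  -- the subgroup `R` generated by the `p'`-elements of the normal closure of `T`
  obtain ⟨S, hS⟩ : ∃ S : Set X, S = {x | x ∈ Subgroup.normalClosure ((T : Subgroup X) : Set X) ∧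
      (orderOf x).Coprime p} := ⟨_, rfl⟩
  obtain ⟨R, hR⟩ : ∃ R : Subgroup X, R = Subgroup.closure S := ⟨_, rfl⟩
  have hSR : S ⊆ R := by rw [hR]; exact Subgroup.subset_closure
  have hRn : R.Normal := by
    rw [hR]
    apply Cfsg.Agent.Lib.Helper34_Sylow.normal_closure_of_conj_inv
    intro g x hx
    rw [hS] at hx ⊢
    exact ⟨Subgroup.normalClosure_normal.conj_mem x hx.1 g,
      by rw [Cfsg.Agent.Lib.Helper34_Sylow.orderOf_conj']; exact hx.2⟩
  -- `R ≤ C` whenever `T` maps into `O_p(X / C)`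
  have hR_le : ∀ (C : Subgroup X) [C.Normal],
      (∀ t ∈ (T : Subgroup X), QuotientGroup.mk' C t ∈ pCore p (X ⧸ C)) → R ≤ C := by
    intro C _ hT
    have hLn : ((pCore p (X ⧸ C)).comap (QuotientGroup.mk' C)).Normal :=
      Subgroup.Normal.comap (Cfsg.Agent.Lib.Helper1_Cores.pCore_normal p) _
    have hTL : Subgroup.normalClosure ((T : Subgroup X) : Set X) ≤
        (pCore p (X ⧸ C)).comap (QuotientGroup.mk' C) :=
      Subgroup.normalClosure_le_normal (fun t ht => hT t ht)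
    rw [hR, Subgroup.closure_le]
    intro x hx
    rw [hS] at hx
    have hxL : QuotientGroup.mk' C x ∈ pCore p (X ⧸ C) := hTL hx.1
    obtain ⟨n, hn⟩ := (Cfsg.Agent.Lib.Helper1_Cores.pCore_isPGroup p (G := X ⧸ C)) ⟨_, hxL⟩
    have hn' : (QuotientGroup.mk' C x) ^ (p ^ n) = 1 := by simpa using congrArg Subtype.val hn
    have h1 : orderOf (QuotientGroup.mk' C x) ∣ p ^ n := orderOf_dvd_of_pow_eq_one hn'
    have h2 : orderOf (QuotientGroup.mk' C x) ∣ orderOf x := orderOf_map_dvd _ x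
    have h3 : orderOf (QuotientGroup.mk' C x) = 1 :=
      Nat.eq_one_of_dvd_coprimes (Nat.Coprime.pow_right n hx.2) h2 h1
    exact (QuotientGroup.eq_one_iff x).mp (orderOf_eq_one_iff.mp h3)
  -- `R` does not centralize `O_p(X)`
  have hR_not : ¬ R ≤ Subgroup.centralizer ((pCore p X : Subgroup X) : Set X) := by
    intro hle
    have hRH : R ≤ pCore p X := hle.trans h.hc
    have hNp : IsPGroup p (Subgroup.normalClosure ((T : Subgroup X) : Set X)) := by
      rintro ⟨g, hg⟩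
      have hg0 : orderOf g ≠ 0 := (orderOf_pos g).ne'
      obtain ⟨e, m, hm, hem⟩ := Nat.exists_eq_pow_mul_and_not_dvd hg0 p hp.one_lt.ne'
      refine ⟨e, ?_⟩
      apply Subtype.ext
      rw [SubgroupClass.coe_pow, OneMemClass.coe_one]
      have hpe : p ^ e ≠ 0 := pow_ne_zero _ hp.pos.ne'
      have hord : orderOf (g ^ (p ^ e)) = m := by
        rw [orderOf_pow_of_dvd hpe ⟨m, hem⟩, hem, Nat.mul_div_cancel_left m (Nat.pos_of_ne_zero hpe)]
      have hcop : (orderOf (g ^ (p ^ e))).Coprime p := by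
        rw [hord]
        exact ((Nat.Prime.coprime_iff_not_dvd hp).mpr hm).symm
      have hxS : g ^ (p ^ e) ∈ S := by
        rw [hS]
        exact ⟨Subgroup.pow_mem _ hg _, hcop⟩
      have hxH : g ^ (p ^ e) ∈ pCore p X := hRH (hSR hxS)
      obtain ⟨n, hn⟩ := hH1p ⟨_, hxH⟩
      have hn' : (g ^ (p ^ e)) ^ (p ^ n) = 1 := by simpa using congrArg Subtype.val hn
      have h1 : orderOf (g ^ (p ^ e)) ∣ p ^ n := orderOf_dvd_of_pow_eq_one hn'
      have h3 : orderOf (g ^ (p ^ e)) = 1 :=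
        Nat.eq_one_of_dvd_coprimes (Nat.Coprime.pow_right n hcop) dvd_rfl h1
      exact orderOf_eq_one_iff.mp h3
    have hNH : Subgroup.normalClosure ((T : Subgroup X) : Set X) ≤ pCore p X :=
      Cfsg.Agent.Lib.Helper1_Cores.le_pCore Subgroup.normalClosure_normal hNp
    exact h.hno A hA (hA.1.trans (Subgroup.le_normalClosure.trans hNH))
  -- the minimal normal subgroup `B` of `O_p(X)` not centralized by `R`
  obtain ⟨B, ⟨hBn, hBH, hBR⟩, hBmin⟩ := Set.exists_min_image
    {N : Subgroup X | N.Normal ∧ N ≤ pCore p X ∧ ¬ R ≤ Subgroup.centralizer (N : Set X)}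
    (fun N => Nat.card N) (Set.toFinite _) ⟨pCore p X, hH1n, le_rfl, hR_not⟩
  have hBp : IsPGroup p B := hH1p.to_le hBH
  have hBT : B ≤ (T : Subgroup X) := hBH.trans hH1T
  have hBne : B ≠ ⊥ := by
    rintro rfl
    apply hBR
    intro x _
    rw [Subgroup.mem_centralizer_iff]
    intro y hy
    have : y = 1 := by simpa using hy
    rw [this, one_mul, mul_one]
  have hprop : ∀ N : Subgroup X, N.Normal → N ≤ B → N ≠ B →
      R ≤ Subgroup.centralizer (N : Set X) := by
    intro N hNn hNB hne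
    by_contra hcon
    have h1 := hBmin N ⟨hNn, hNB.trans hBH, hcon⟩
    exact hne (Subgroup.eq_of_le_of_card_ge hNB h1)
  -- `B = [B, R]`
  have hBRc : ⁅B, R⁆ = B := by
    by_contra hne
    have h1 := hprop ⁅B, R⁆ inferInstance (Subgroup.commutator_le_left B R) hne
    apply hBR
    rw [hR, Subgroup.closure_le]
    intro x hx
    have hxR : x ∈ R := hSR hx
    rw [hS] at hx
    rw [SetLike.mem_coe, Subgroup.mem_centralizer_iff]
    intro b hb
    have hzmem : x * b * x⁻¹ * b⁻¹ ∈ ⁅B, R⁆ := by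
      rw [Subgroup.commutator_comm]
      have := Subgroup.commutator_mem_commutator hxR hb
      rwa [commutatorElement_def] at this
    have hz : x * (x * b * x⁻¹ * b⁻¹) = (x * b * x⁻¹ * b⁻¹) * x :=
      (Subgroup.mem_centralizer_iff.mp (h1 hxR) _ hzmem).symm
    obtain ⟨n, hn⟩ := hBp ⟨_, (Subgroup.commutator_le_left B R) hzmem⟩
    have hn' : (x * b * x⁻¹ * b⁻¹) ^ (p ^ n) = 1 := by simpa using congrArg Subtype.val hn
    exact (Cfsg.Agent.Lib.Helper24_Coprime.commute_of_coprime_commutator x b hz (p ^ n) hn'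
      (Nat.Coprime.pow_right n hx.2)).symm
  -- proper normal subgroups of `B` are central in `B`
  have hcent : ∀ N : Subgroup X, N.Normal → N ≤ B → N ≠ B → ⁅N, B⁆ = ⊥ := by
    intro N hNn hNB hne
    have hRN := hprop N hNn hNB hne
    have hRN' : ⁅R, N⁆ = ⊥ := Subgroup.commutator_eq_bot_iff_le_centralizer.mpr hRN
    have e1 : ⁅⁅R, N⁆, B⁆ = ⊥ := by rw [hRN', Subgroup.commutator_bot_left]
    have e2 : ⁅⁅N, B⁆, R⁆ = ⊥ := by
      rw [eq_bot_iff]
      calc ⁅⁅N, B⁆, R⁆ ≤ ⁅N, R⁆ := Subgroup.commutator_mono (Subgroup.commutator_le_left N B) le_rfl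
        _ = ⊥ := by rw [Subgroup.commutator_comm, hRN']
    have e3 := Subgroup.commutator_commutator_eq_bot_of_rotate (H₁ := B) (H₂ := R) (H₃ := N) e1 e2
    rw [hBRc] at e3
    rw [Subgroup.commutator_comm]
    exact e3
  have hcl2 : ⁅⁅B, B⁆, B⁆ = ⊥ :=
    hcent ⁅B, B⁆ inferInstance (Subgroup.commutator_le_left B B) (commutator_lt hBp hBne).ne
  have hBH1 : ⁅⁅B, pCore p X⁆, B⁆ = ⊥ := by
    apply hcent ⁅B, pCore p X⁆ inferInstance (Subgroup.commutator_le_left B _)
    apply Cfsg.Agent.Lib.Helper95_Uniserial.commutator_ne_self hBp hH1p _ hBne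
    rw [Subgroup.normalizer_eq_top]
    exact le_top
  have hDZ : ⁅⁅B, B⁆, pCore p X⁆ = ⊥ := by
    apply Subgroup.commutator_commutator_eq_bot_of_rotate (H₁ := B) (H₂ := B) (H₃ := pCore p X) hBH1
    rw [Subgroup.commutator_comm (pCore p X) B]
    exact hBH1
  -- `p`-th powers of `B` are central in `B`
  obtain ⟨Np, hNp⟩ : ∃ Np : Subgroup X,
      Np = Subgroup.closure {z : X | ∃ x ∈ B, z = x ^ p} ⊔ ⁅B, B⁆ := ⟨_, rfl⟩
  have hNpn : Np.Normal := by
    rw [hNp]
    have h1 : (Subgroup.closure {z : X | ∃ x ∈ B, z = x ^ p}).Normal := by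
      apply Cfsg.Agent.Lib.Helper34_Sylow.normal_closure_of_conj_inv
      rintro g _ ⟨x, hx, rfl⟩
      exact ⟨g * x * g⁻¹, hBn.conj_mem x hx g, by rw [conj_pow]⟩
    exact Subgroup.sup_normal _ _
  have hNpB : Np ≤ B := by
    rw [hNp]
    refine sup_le ?_ (Subgroup.commutator_le_left B B)
    rw [Subgroup.closure_le]
    rintro _ ⟨x, hx, rfl⟩
    exact Subgroup.pow_mem _ hx _
  have hNpne : Np ≠ B := by
    intro heq
    have hnt : Nontrivial ↥B := (Subgroup.nontrivial_iff_ne_bot B).mpr hBne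
    obtain ⟨M, -, hMtop, hMcomm, hMpow⟩ :=
      Cfsg.Agent.Lib.Helper24_Coprime.exists_proper_normal_comm_pow (P := ↥B) hBp
    apply hMtop
    have hle : Np ≤ M.map B.subtype := by
      rw [hNp]
      refine sup_le ?_ ?_
      · rw [Subgroup.closure_le]
        rintro _ ⟨x, hx, rfl⟩
        exact ⟨⟨x, hx⟩ ^ p, hMpow _, by simp⟩
      · rw [Subgroup.commutator_le]
        intro g₁ hg₁ g₂ hg₂
        refine ⟨(⟨g₁, hg₁⟩ : ↥B) * ⟨g₂, hg₂⟩ * (⟨g₁, hg₁⟩ : ↥B)⁻¹ * (⟨g₂, hg₂⟩ : ↥B)⁻¹,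
          hMcomm _ _, ?_⟩
        simp [commutatorElement_def]
    rw [eq_top_iff]
    intro y _
    have hy : (y : X) ∈ Np := by rw [heq]; exact y.2
    obtain ⟨m, hm, hmy⟩ := hle hy
    have : m = y := Subtype.ext hmy
    rwa [← this]
  have hNpc : ⁅Np, B⁆ = ⊥ := hcent Np hNpn hNpB hNpne
  have hpowc : ∀ x ∈ B, ∀ y ∈ B, x ^ p * y = y * x ^ p := by
    intro x hx y hy
    have h1 : x ^ p ∈ Np := by
      rw [hNp]
      exact Subgroup.mem_sup_left (Subgroup.subset_closure ⟨x, hx, rfl⟩)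
    have h2 := Subgroup.commutator_eq_bot_iff_le_centralizer.mp hNpc h1
    exact (Subgroup.mem_centralizer_iff.mp h2 y hy).symm
  have hDc : ∀ z ∈ ⁅B, B⁆, ∀ y ∈ B, y * z = z * y := by
    intro z hz y hy
    have h2 := Subgroup.commutator_eq_bot_iff_le_centralizer.mp hcl2 hz
    exact Subgroup.mem_centralizer_iff.mp h2 y hy
  have hDB : ⁅B, B⁆ ≤ B := Subgroup.commutator_le_left B B
  -- `[B, B]` is elementary abelian
  have hDea : PrEA p (⁅B, B⁆ : Subgroup X) := by
    rw [prEA_iff]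
    refine ⟨fun a ha b hb => hDc b hb a (hDB ha), ?_⟩
    intro z hz
    rw [Subgroup.commutator_def] at hz
    have key : ∀ y ∈ Subgroup.closure {g : X | ∃ g₁ ∈ B, ∃ g₂ ∈ B, ⁅g₁, g₂⁆ = g},
        y ∈ ⁅B, B⁆ ∧ y ^ p = 1 := by
      intro y hy
      induction hy using Subgroup.closure_induction with
      | mem y hy =>
        obtain ⟨g₁, hg₁, g₂, hg₂, rfl⟩ := hy
        exact ⟨Subgroup.commutator_mem_commutator hg₁ hg₂,
          commutator_pow_eq_one hDc hpowc hg₁ hg₂⟩
      | one => exact ⟨Subgroup.one_mem _, one_pow _⟩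
      | mul y z _ _ hy hz =>
        refine ⟨Subgroup.mul_mem _ hy.1 hz.1, ?_⟩
        have hcz : Commute y z := hDc z hz.1 y (hDB hy.1)
        rw [hcz.mul_pow, hy.2, hz.2, one_mul]
      | inv y _ hy =>
        exact ⟨Subgroup.inv_mem _ hy.1, by rw [inv_pow, hy.2, inv_one]⟩
    exact (key z hz).2
  -- `[B, B]` lies in every member of the family of `O_p(X)`
  have hDE : ∀ E ∈ fam p (pCore p X), ⁅B, B⁆ ≤ E := by
    intro E hE
    apply le_of_mem_fam hE (hDB.trans hBH) hDea
    intro a ha b hb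
    have h2 := Subgroup.commutator_eq_bot_iff_le_centralizer.mp hDZ hb
    exact Subgroup.mem_centralizer_iff.mp h2 a (hE.1 ha)
  have hDA : ⁅B, B⁆ ≤ A := (hDE _ (h.inf_mem_fam hA)).trans inf_le_left
  -- a member of the family mapping into `O_p(X / C_X(B))`
  have hCn : (Subgroup.centralizer (B : Set X)).Normal := Subgroup.normal_centralizer
  have hex : ∃ A₃ ∈ fam p (T : Subgroup X), ∀ a ∈ A₃,
      QuotientGroup.mk' (Subgroup.centralizer (B : Set X)) a ∈
        pCore p (X ⧸ Subgroup.centralizer (B : Set X)) := by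
    by_cases hBA : B ≤ A
    · refine ⟨A, hA, ?_⟩
      intro a ha
      have haC : a ∈ Subgroup.centralizer (B : Set X) := by
        rw [Subgroup.mem_centralizer_iff]
        intro b hb
        exact (prEA_iff.mp hA.2.1).1 b (hBA hb) a ha
      have : QuotientGroup.mk' (Subgroup.centralizer (B : Set X)) a = 1 :=
        (QuotientGroup.eq_one_iff a).mpr haC
      rw [this]
      exact Subgroup.one_mem _
    · have hTB : (T : Subgroup X) ≤ Subgroup.normalizer (B : Set X) := by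
        rw [Subgroup.normalizer_eq_top]; exact le_top
      obtain ⟨A₂, hA₂, -, hBA₂⟩ := (Cfsg.Agent.S0654.admissible hp2).replace T B hBT hTB hcl2
        ⟨A, hA, hDA, hBA⟩
      refine ⟨A₂, hA₂, ?_⟩
      intro a ha
      have hea := prEA_iff.mp hA₂.2.1
      have hq := quadratic_of_normalizes hea.1 hBA₂ ha
      exact Cfsg.Agent.Lib.Helper1_PStable3.mem_pCore_of_quadratic hp2 h.hyp B hBp a
        ⟨1, by rw [pow_one]; exact hea.2 a ha⟩ hq
  obtain ⟨A₃, hA₃, hA₃L⟩ := hex
  apply hBR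
  apply hR_le (Subgroup.centralizer (B : Set X))
  intro t ht
  obtain ⟨h₁, hh₁, a, ha, rfl⟩ := h.exists_mul hA₃ ht
  rw [map_mul]
  refine Subgroup.mul_mem _ ?_ (hA₃L a ha)
  have hle : (pCore p X).map (QuotientGroup.mk' (Subgroup.centralizer (B : Set X))) ≤
      pCore p (X ⧸ Subgroup.centralizer (B : Set X)) :=
    Cfsg.Agent.Lib.Helper1_Cores.le_pCore
      (Subgroup.Normal.map hH1n _ (QuotientGroup.mk'_surjective _)) (hH1p.map _)
  exact hle ⟨h₁, hh₁, rfl⟩

/-- the inductive step -/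
theorem goal_step (hp2 : p ≠ 2) (ih : ∀ Y : Subgroup X, Y ≠ ⊤ → Goal p ↥Y) : Goal p X := by
  intro K H hyp hc T
  by_contra hno
  have hno' : ∀ A ∈ fam p (T : Subgroup X), ¬ A ≤ pCore p X := fun A hA hle => hno ⟨A, hA, hle⟩
  exact MinCE.false hp2 (⟨hyp, hc, ih, hno'⟩ : MinCE p X K H T)

/-- **`O_p(X)` contains an elementary abelian subgroup of `T` of the largest order** (`p` odd,
`X / O_p(X)` with an abelian normal `p`-complement, `C_X(O_p(X)) ≤ O_p(X)`). -/
theorem goal {p : ℕ} [Fact p.Prime] (hp2 : p ≠ 2) :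
    ∀ (n : ℕ) (X : Type u) [Group X] [Finite X], Nat.card X = n → Goal p X := by
  intro n
  induction n using Nat.strong_induction_on with
  | _ n ih =>
    intro X _ _ hn
    apply goal_step hp2
    intro Y hY
    apply ih (Nat.card Y) _ ↥Y rfl
    rw [← hn]
    have hlt : Y < ⊤ := lt_top_iff_ne_top.mpr hY
    have := Subgroup.card_le_of_le (le_top : Y ≤ ⊤)
    by_contra hcon
    have hge : Nat.card (⊤ : Subgroup X) ≤ Nat.card Y := by
      rw [Subgroup.card_top]; exact not_lt.mp hcon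
    exact hY (Subgroup.eq_of_le_of_card_ge le_top hge)

theorem exists_le_pCore {p : ℕ} [Fact p.Prime] (hp2 : p ≠ 2) {X : Type u} [Group X] [Finite X]
    {K H : Subgroup X} (hyp : Hyp p K H)
    (hc : Subgroup.centralizer (pCore p X : Set X) ≤ pCore p X) (T : Sylow p X) :
    ∃ A ∈ fam p (T : Subgroup X), A ≤ pCore p X :=
  goal hp2 (Nat.card X) X rfl K H hyp hc T

end Cfsg.Agent.Lib.Helper32_ZJe
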