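import Mathlib
import Cfsg.Agent.Lib.Helper32_ZJe5
import Cfsg.Agent.Lib.Helper1_PStable4
import Cfsg.Agent.S0622

/-!
# `Z(J_e(T))` is normal in the minimal configuration (helper32)

Let `p` be odd, `X` a finite group with `C_X(O_p(X)) ≤ O_p(X)` such that `X / O_p(X)` has a normal
`p`-complement, and `T` a Sylow `p`-subgroup of `X` which is a maximal subgroup.  Then
`Z(J_e(T)) = Cfsg.centerThompsonOf p T` (elementary abelian version of the Thompson subgroup) is
normal in `X`.
-/

set_option autoImplicit false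

namespace Cfsg.Agent.Lib.Helper32_ZJe

open Cfsg Cfsg.Agent.Lib.Helper11_ZJ Cfsg.Agent.S0654 Cfsg.Agent.Lib.Helper1_PStable

open scoped commutatorElement

universe u

variable {X : Type u} [Group X]

/-- `Z(J_e(T))` is normalized by the normalizer of `T` -/
theorem normalizer_le_normalizer_centerThompsonOf (p : ℕ) (T : Subgroup X) :
    Subgroup.normalizer (T : Set X) ≤
      Subgroup.normalizer ((Cfsg.centerThompsonOf p T : Subgroup X) : Set X) := by
  intro g hg
  apply Cfsg.Agent.Lib.Helper49_Thompson.mem_normalizer_of_map_conj_eq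
  unfold Cfsg.centerThompsonOf
  rw [Cfsg.Agent.S0622.map_inf_centralizer_of_injective _ (MulAut.conj g).injective,
    ← Cfsg.Agent.Lib.Helper49_Thompson.thompsonSubgroupOf_map,
    Cfsg.Agent.Lib.Helper49_Thompson.map_conj_eq_of_mem_normalizer hg]

/-- stability: a `p`-element acting quadratically on a normal `p`-subgroup `B` with
`C_X(B) ≤ O_p(X)` lies in `O_p(X)` -/
theorem mem_pCore_of_quadratic' [Finite X] {p : ℕ} [Fact p.Prime] (hp2 : p ≠ 2)
    {K H : Subgroup X} (hyp : Hyp p K H) (B : Subgroup X) [B.Normal] (hBp : IsPGroup p B)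
    (hCB : Subgroup.centralizer (B : Set X) ≤ pCore p X) {a : X} {n : ℕ} (hap : a ^ (p ^ n) = 1)
    (haq : ⁅⁅B, Subgroup.zpowers a⁆, Subgroup.zpowers a⁆ = ⊥) : a ∈ pCore p X := by
  have hH1p : IsPGroup p (pCore p X) := Cfsg.Agent.Lib.Helper1_Cores.pCore_isPGroup p
  have h1 := Cfsg.Agent.Lib.Helper1_PStable3.mem_pCore_of_quadratic hp2 hyp B hBp a ⟨n, hap⟩ haq
  have hLn : ((pCore p (X ⧸ Subgroup.centralizer (B : Set X))).comap
      (QuotientGroup.mk' (Subgroup.centralizer (B : Set X)))).Normal :=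
    Subgroup.Normal.comap (Cfsg.Agent.Lib.Helper1_Cores.pCore_normal p) _
  have hLp : IsPGroup p ((pCore p (X ⧸ Subgroup.centralizer (B : Set X))).comap
      (QuotientGroup.mk' (Subgroup.centralizer (B : Set X)))) := by
    rintro ⟨x, hx⟩
    rw [Subgroup.mem_comap] at hx
    obtain ⟨m, hm⟩ := (Cfsg.Agent.Lib.Helper1_Cores.pCore_isPGroup p
      (G := X ⧸ Subgroup.centralizer (B : Set X))) ⟨_, hx⟩
    have hm' : (QuotientGroup.mk' (Subgroup.centralizer (B : Set X)) x) ^ (p ^ m) = 1 := by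
      simpa using congrArg Subtype.val hm
    rw [← map_pow] at hm'
    have hxC : x ^ (p ^ m) ∈ pCore p X := hCB ((QuotientGroup.eq_one_iff _).mp hm')
    obtain ⟨l, hl⟩ := hH1p ⟨_, hxC⟩
    have hl' : (x ^ (p ^ m)) ^ (p ^ l) = 1 := by simpa using congrArg Subtype.val hl
    refine ⟨m + l, ?_⟩
    apply Subtype.ext
    rw [SubgroupClass.coe_pow, OneMemClass.coe_one, pow_add, pow_mul]
    exact hl'
  exact Cfsg.Agent.Lib.Helper1_Cores.le_pCore hLn hLp h1

/-- a finite group all of whose elements of order prime to `p` are trivial is a `p`-group -/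
theorem isPGroup_of_forall_coprime {p : ℕ} [hp : Fact p.Prime] (C : Subgroup X)
    (h : ∀ c ∈ C, (orderOf c).Coprime p → c = 1) (hfin : ∀ c ∈ C, 0 < orderOf c) :
    IsPGroup p C := by
  rintro ⟨g, hg⟩
  have hg0 : orderOf g ≠ 0 := (hfin g hg).ne'
  obtain ⟨e, m, hm, hem⟩ := Nat.exists_eq_pow_mul_and_not_dvd hg0 p hp.out.one_lt.ne'
  refine ⟨e, ?_⟩
  apply Subtype.ext
  rw [SubgroupClass.coe_pow, OneMemClass.coe_one]
  have hpe : p ^ e ≠ 0 := pow_ne_zero _ hp.out.pos.ne'
  have hord : orderOf (g ^ (p ^ e)) = m := by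
    rw [orderOf_pow_of_dvd hpe ⟨m, hem⟩, hem, Nat.mul_div_cancel_left m (Nat.pos_of_ne_zero hpe)]
  apply h _ (Subgroup.pow_mem _ hg _)
  rw [hord]
  exact ((Nat.Prime.coprime_iff_not_dvd hp.out).mpr hm).symm

theorem centerThompsonOf_normal [Finite X] {p : ℕ} [Fact p.Prime] (hp2 : p ≠ 2)
    (hc : Subgroup.centralizer (pCore p X : Set X) ≤ pCore p X)
    (hnpc : HasNormalPComplement p (X ⧸ pCore p X)) (T : Sylow p X)
    (hT : IsCoatom (T : Subgroup X)) : (Cfsg.centerThompsonOf p (T : Subgroup X)).Normal := by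
  have hp : p.Prime := Fact.out
  have hH1n : (pCore p X).Normal := Cfsg.Agent.Lib.Helper1_Cores.pCore_normal p
  have hH1p : IsPGroup p (pCore p X) := Cfsg.Agent.Lib.Helper1_Cores.pCore_isPGroup p
  have hH1T : pCore p X ≤ (T : Subgroup X) := Cfsg.Agent.Lib.Helper1_Cores.pCore_le_sylow p T
  obtain ⟨K, H, hyp⟩ := Cfsg.Agent.Lib.Helper1_PStable4.exists_hyp_of_local hnpc T hT
  obtain ⟨A₀, hA₀, hA₀H⟩ := exists_le_pCore hp2 hyp hc T
  -- notation
  obtain ⟨J, hJ⟩ : ∃ J : Subgroup X, J = Cfsg.thompsonSubgroupOf p (T : Subgroup X) := ⟨_, rfl⟩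
  obtain ⟨Z, hZ⟩ : ∃ Z : Subgroup X, Z = Cfsg.centerThompsonOf p (T : Subgroup X) := ⟨_, rfl⟩
  have hZdef : Z = J ⊓ Subgroup.centralizer (J : Set X) := by rw [hZ, hJ]; rfl
  have hJsup : J = sSup (fam p (T : Subgroup X)) := by rw [hJ, thompsonSubgroupOf_eq_sSup]
  rw [← hZ]
  have hfamH : ∀ A' : Subgroup X, A' ∈ fam p (pCore p X) ↔
      A' ∈ fam p (T : Subgroup X) ∧ A' ≤ pCore p X :=
    fun A' => mem_maxFam_restrict hH1T hA₀ hA₀H A'
  have hA₀' : A₀ ∈ fam p (pCore p X) := (hfamH A₀).mpr ⟨hA₀, hA₀H⟩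
  obtain ⟨JH, hJH⟩ : ∃ JH : Subgroup X, JH = sSup (fam p (pCore p X)) := ⟨_, rfl⟩
  obtain ⟨V, hV⟩ : ∃ V : Subgroup X, V = sInf (fam p (pCore p X)) := ⟨_, rfl⟩
  have hJHJ : JH ≤ J := by
    rw [hJH, hJsup]
    exact sSup_le (fun A' hA' => le_sSup ((hfamH A').mp hA').1)
  have hJHH : JH ≤ pCore p X := by
    rw [hJH]
    exact sSup_le (fun A' hA' => hA'.1)
  have hconjfam : ∀ g : X, ∀ A' ∈ fam p (pCore p X),
      A'.map (MulAut.conj g).toMonoidHom ∈ fam p (pCore p X) := by
    intro g A' hA'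
    apply map_conj_mem_fam hA' g
    rw [Subgroup.normalizer_eq_top]
    exact Subgroup.mem_top g
  have hJHn : JH.Normal := by
    apply normal_of_conj_mem
    intro g x hx
    have h1 : JH.map (MulAut.conj g).toMonoidHom ≤ JH := by
      rw [hJH, (Subgroup.gc_map_comap (MulAut.conj g).toMonoidHom).l_sSup]
      exact iSup₂_le (fun A' hA' => le_sSup (hconjfam g A' hA'))
    exact h1 ⟨x, hx, by simp [MulAut.conj_apply]⟩
  have hVn : V.Normal := by
    apply normal_of_conj_mem
    intro g x hx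
    rw [hV, Subgroup.mem_sInf] at hx ⊢
    intro A' hA'
    have h1 := hx _ (hconjfam g⁻¹ A' hA')
    obtain ⟨y, hy, hyx⟩ := h1
    have : g * x * g⁻¹ = y := by
      rw [← hyx, MulEquiv.coe_toMonoidHom, MulAut.conj_apply]; group
    rw [this]
    exact hy
  have hVA : ∀ A' ∈ fam p (pCore p X), V ≤ A' := fun A' hA' => by rw [hV]; exact sInf_le hA'
  have hVH : V ≤ pCore p X := (hVA A₀ hA₀').trans hA₀H
  have hVp : IsPGroup p V := hH1p.to_le hVH
  have hVcomm : ∀ v ∈ V, ∀ w ∈ V, v * w = w * v := fun v hv w hw =>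
    (prEA_iff.mp hA₀.2.1).1 v (hVA A₀ hA₀' hv) w (hVA A₀ hA₀' hw)
  -- `C₀ = C_H(J_e(H))`
  obtain ⟨C₀, hC₀⟩ : ∃ C₀ : Subgroup X, C₀ = pCore p X ⊓ Subgroup.centralizer (JH : Set X) :=
    ⟨_, rfl⟩
  have hC₀n : C₀.Normal := by
    rw [hC₀]
    have : (Subgroup.centralizer (JH : Set X)).Normal := Subgroup.normal_centralizer
    exact Subgroup.normal_inf_normal _ _
  have hC₀p : IsPGroup p C₀ := hH1p.to_le (by rw [hC₀]; exact inf_le_left)
  -- elements of order `p` of `C₀` lie in `V`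
  have hC₀V : ∀ x ∈ C₀, x ^ p = 1 → x ∈ V := by
    intro x hx hxp
    rw [hC₀] at hx
    obtain ⟨hxH, hxc⟩ := Subgroup.mem_inf.mp hx
    rw [hV, Subgroup.mem_sInf]
    intro A' hA'
    apply mem_of_mem_fam hA' hxH hxp
    intro a ha
    have haJ : a ∈ JH := by rw [hJH]; exact (le_sSup hA') ha
    exact Subgroup.mem_centralizer_iff.mp hxc a haJ
  -- `T` normalizes `Z`
  have hTZ : (T : Subgroup X) ≤ Subgroup.normalizer (Z : Set X) := by
    rw [hZ]
    exact Subgroup.le_normalizer.trans (normalizer_le_normalizer_centerThompsonOf p _)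
  have hZT : Z ≤ (T : Subgroup X) := by
    rw [hZdef, hJ]
    exact inf_le_left.trans (Cfsg.Agent.Lib.Helper49_Thompson.thompsonSubgroupOf_le p _)
  have hZcomm : ∀ x ∈ Z, ∀ y ∈ Z, x * y = y * x := by
    intro x hx y hy
    rw [hZdef] at hx hy
    exact (Subgroup.mem_centralizer_iff.mp (Subgroup.mem_inf.mp hx).2 y (Subgroup.mem_inf.mp hy).1).symm
  -- `Z ≤ O_p(X)`
  have hZH : Z ≤ pCore p X := by
    intro z hz
    obtain ⟨n, hn⟩ := T.isPGroup' ⟨z, hZT hz⟩
    have hn' : z ^ (p ^ n) = 1 := by simpa using congrArg Subtype.val hn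
    apply mem_pCore_of_quadratic' hp2 hyp (pCore p X) hH1p hc hn'
    have hzZ : Subgroup.zpowers z ≤ Z := by
      rw [Subgroup.zpowers_le]; exact hz
    have h1 : ⁅pCore p X, Subgroup.zpowers z⁆ ≤ Z := by
      rw [Subgroup.commutator_le]
      intro q hq x hx
      have h2 : q * x * q⁻¹ ∈ Z :=
        (Subgroup.mem_normalizer_iff.mp (hTZ (hH1T hq)) x).mp (hzZ hx)
      rw [commutatorElement_def]
      exact Subgroup.mul_mem _ h2 (Subgroup.inv_mem _ (hzZ hx))
    rw [eq_bot_iff]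
    refine (Subgroup.commutator_mono h1 hzZ).trans ?_
    rw [Subgroup.commutator_le]
    intro x hx y hy
    rw [Subgroup.mem_bot, commutatorElement_def, hZcomm x hx y hy]
    group
  have hZC₀ : Z ≤ C₀ := by
    rw [hC₀]
    refine le_inf hZH ?_
    rw [hZdef]
    exact inf_le_right.trans (Subgroup.centralizer_le hJHJ)
  by_cases hCV : Subgroup.centralizer (V : Set X) ≤ pCore p X
  · -- Case 2: `J_e(T) ≤ O_p(X)`
    have hVU : ∀ U ∈ fam p (T : Subgroup X), V ≤ U := by
      by_contra hcon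
      push Not at hcon
      obtain ⟨U, hU, hVU⟩ := hcon
      have hVV : ⁅V, V⁆ = ⊥ := by
        rw [Subgroup.commutator_eq_bot_iff_le_centralizer]
        intro v hv
        rw [Subgroup.mem_centralizer_iff]
        intro w hw
        exact hVcomm w hw v hv
      have hTV : (T : Subgroup X) ≤ Subgroup.normalizer (V : Set X) := by
        rw [Subgroup.normalizer_eq_top]; exact le_top
      obtain ⟨A₂, hA₂, hVA₂, hVNA₂⟩ := (Cfsg.Agent.S0654.admissible hp2).replace T V
        (hVH.trans hH1T) hTV (by rw [hVV, Subgroup.commutator_bot_left])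
        ⟨U, hU, by rw [hVV]; exact bot_le, hVU⟩
      apply hVA₂
      apply hVA
      rw [hfamH]
      refine ⟨hA₂, ?_⟩
      intro a ha
      have hea := prEA_iff.mp hA₂.2.1
      have hq := quadratic_of_normalizes hea.1 hVNA₂ ha
      exact mem_pCore_of_quadratic' hp2 hyp V hVp hCV (n := 1)
        (by rw [pow_one]; exact hea.2 a ha) hq
    have hUH : ∀ U ∈ fam p (T : Subgroup X), U ≤ pCore p X := by
      intro U hU u hu
      apply hCV
      rw [Subgroup.mem_centralizer_iff]
      intro v hv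
      exact (prEA_iff.mp hU.2.1).1 v (hVU U hU hv) u hu
    have hJeq : J = JH := by
      apply le_antisymm _ hJHJ
      rw [hJsup, hJH]
      exact sSup_le (fun U hU => le_sSup ((hfamH U).mpr ⟨hU, hUH U hU⟩))
    rw [hZdef, hJeq]
    have : (Subgroup.centralizer (JH : Set X)).Normal := Subgroup.normal_centralizer
    exact Subgroup.normal_inf_normal _ _
  · -- Case 1: the `p'`-elements of `C_X(V)` centralize `Z`
    rw [← Subgroup.normalizer_eq_top_iff]
    by_contra hne
    have hNT : Subgroup.normalizer (Z : Set X) = (T : Subgroup X) := by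
      rcases hT.le_iff.mp hTZ with h1 | h1
      · exact absurd h1 hne
      · exact h1
    apply hCV
    have hCn : (Subgroup.centralizer (V : Set X)).Normal := Subgroup.normal_centralizer
    apply Cfsg.Agent.Lib.Helper1_Cores.le_pCore hCn
    apply isPGroup_of_forall_coprime (Subgroup.centralizer (V : Set X)) ?_
      (fun c _ => orderOf_pos c)
    intro c hc hcop
    -- `c` centralizes `C₀`
    have h1 := Cfsg.Agent.Lib.Helper24_Coprime.centralizes_pgroup_of_centralizes_omega p hp2 c hcop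
      C₀ hC₀p (fun x hx => hC₀n.conj_mem x hx c)
      (fun x hx hxp => (Subgroup.mem_centralizer_iff.mp hc x (hC₀V x hx hxp)).symm)
    have hcN : c ∈ Subgroup.normalizer (Z : Set X) := by
      rw [Subgroup.mem_normalizer_iff]
      intro z
      constructor
      · intro hz
        rw [h1 z (hZC₀ hz), mul_inv_cancel_right]
        exact hz
      · intro hz
        have h2 : c * z = z * c := by
          have hzC : c * z * c⁻¹ ∈ C₀ := hZC₀ hz
          have hzC' : z ∈ C₀ := by
            have := hC₀n.conj_mem _ hzC c⁻¹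
            simpa [mul_assoc] using this
          exact h1 z hzC'
        rw [h2, mul_inv_cancel_right] at hz
        exact hz
    rw [hNT] at hcN
    obtain ⟨n, hn⟩ := T.isPGroup' ⟨c, hcN⟩
    have hn' : c ^ (p ^ n) = 1 := by simpa using congrArg Subtype.val hn
    have h2 : orderOf c ∣ p ^ n := orderOf_dvd_of_pow_eq_one hn'
    have h3 : orderOf c = 1 := Nat.eq_one_of_dvd_coprimes (Nat.Coprime.pow_right n hcop) dvd_rfl h2
    exact orderOf_eq_one_iff.mp h3

end Cfsg.Agent.Lib.Helper32_ZJe
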