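import Mathlib
import Cfsg.Agent.Lib.Helper32_ZJe6
import Cfsg.Prelude.Def_ConjugacyFunctors

/-!
# The functor `Q ↦ Z(J_e(Q))` (helper32)

`WZJe p Q` is the centre of the elementary-abelian-version Thompson subgroup of the group `Q`.  It is
an isomorphism-invariant `p`-group functor (`Cfsg.IsCharPFunctor`), and the subgroup map induced by
it is `Cfsg.centerThompsonOf p`.
-/

set_option autoImplicit false

namespace Cfsg.Agent.Lib.Helper32_ZJe

open Subgroup Cfsg

universe u

/-- The functor `Q ↦ Z(J_e(Q))`. -/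
def WZJe (p : ℕ) (Q : Type u) [Group Q] : Subgroup Q :=
  thompsonSubgroup p Q ⊓ centralizer (thompsonSubgroup p Q : Set Q)

/-- The image of a largest elementary abelian subgroup under an isomorphism is one. -/
theorem map_mem_maxElementaryAbelianSubgroups {p : ℕ} {Q R : Type u} [Group Q] [Group R]
    (φ : Q ≃* R) {A : Subgroup Q} (hA : A ∈ maxElementaryAbelianSubgroups p Q) :
    A.map φ.toMonoidHom ∈ maxElementaryAbelianSubgroups p R := by
  obtain ⟨hA1, hA2⟩ := hA
  refine ⟨Cfsg.Agent.S0622.isElementaryAbelian_map φ.toMonoidHom hA1, ?_⟩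
  intro B hB
  have h1 : IsElementaryAbelian p (B.map φ.symm.toMonoidHom) :=
    Cfsg.Agent.S0622.isElementaryAbelian_map φ.symm.toMonoidHom hB
  have h2 := hA2 _ h1
  rw [Subgroup.card_map_of_injective φ.symm.injective] at h2
  rw [Subgroup.card_map_of_injective φ.injective]
  exact h2

theorem thompsonSubgroup_map_le {p : ℕ} {Q R : Type u} [Group Q] [Group R] (φ : Q ≃* R) :
    (thompsonSubgroup p Q).map φ.toMonoidHom ≤ thompsonSubgroup p R := by
  rw [Subgroup.map_le_iff_le_comap]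
  unfold thompsonSubgroup
  apply sSup_le
  intro A hA
  rw [← Subgroup.map_le_iff_le_comap]
  exact le_sSup (map_mem_maxElementaryAbelianSubgroups φ hA)

/-- `J_e` commutes with isomorphisms. -/
theorem thompsonSubgroup_map {p : ℕ} {Q R : Type u} [Group Q] [Group R] (φ : Q ≃* R) :
    (thompsonSubgroup p Q).map φ.toMonoidHom = thompsonSubgroup p R := by
  apply le_antisymm (thompsonSubgroup_map_le φ)
  have h1 := Subgroup.map_mono (f := φ.toMonoidHom) (thompsonSubgroup_map_le (p := p) φ.symm)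
  rwa [Subgroup.map_map, show φ.toMonoidHom.comp φ.symm.toMonoidHom = MonoidHom.id R from by
    ext x; simp, Subgroup.map_id] at h1

/-- `Z(J_e)` commutes with isomorphisms. -/
theorem WZJe_map {p : ℕ} {Q R : Type u} [Group Q] [Group R] (φ : Q ≃* R) :
    (WZJe p Q).map φ.toMonoidHom = WZJe p R := by
  unfold WZJe
  rw [Cfsg.Agent.S0622.map_inf_centralizer_of_injective φ.toMonoidHom φ.injective,
    thompsonSubgroup_map]

/-- `J_e(Q) ≠ 1` for a nontrivial finite `p`-group. -/
theorem thompsonSubgroup_ne_bot {p : ℕ} [hp : Fact p.Prime] (Q : Type u) [Group Q] [Finite Q]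
    (hQ : IsPGroup p Q) [Nontrivial Q] : thompsonSubgroup p Q ≠ ⊥ := by
  obtain ⟨A, hA⟩ := Cfsg.Agent.S0655.nonempty_max (S := Q) p
  obtain ⟨n, hn0, hn⟩ := hQ.nontrivial_iff_card.mp inferInstance
  have hdvd : p ∣ Nat.card Q := by rw [hn]; exact dvd_pow_self p hn0.ne'
  obtain ⟨g, hg⟩ := exists_prime_orderOf_dvd_card' p hdvd
  have h1 : IsElementaryAbelian p (zpowers g) := by
    rw [Cfsg.Agent.Lib.Helper49_Thompson.isEA_iff]
    refine ⟨?_, ?_⟩
    · intro a ha b hb
      obtain ⟨i, rfl⟩ := Subgroup.mem_zpowers_iff.mp ha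
      obtain ⟨j, rfl⟩ := Subgroup.mem_zpowers_iff.mp hb
      exact (Commute.zpow_zpow_self g i j).eq
    · intro a ha
      obtain ⟨i, rfl⟩ := Subgroup.mem_zpowers_iff.mp ha
      rw [← zpow_natCast, ← zpow_mul, mul_comm, zpow_mul, zpow_natCast, ← hg, pow_orderOf_eq_one,
        one_zpow]
  have h2 := hA.2 _ h1
  have hAJ : A ≤ thompsonSubgroup p Q := le_sSup hA
  intro h
  rw [h, le_bot_iff] at hAJ
  rw [hAJ, card_bot, Nat.card_zpowers, hg] at h2
  exact absurd h2 (not_le.mpr hp.out.one_lt)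

/-- `Z(J_e(Q)) ≠ 1` for a nontrivial finite `p`-group. -/
theorem WZJe_ne_bot {p : ℕ} [hp : Fact p.Prime] (Q : Type u) [Group Q] [Finite Q]
    (hQ : IsPGroup p Q) (hnt : Nontrivial Q) : WZJe p Q ≠ ⊥ := by
  have hJ := thompsonSubgroup_ne_bot Q hQ
  have hJp : IsPGroup p (thompsonSubgroup p Q) := hQ.to_subgroup _
  have hnt' : Nontrivial (thompsonSubgroup p Q) := (nontrivial_iff_ne_bot _).mpr hJ
  have hc : Nontrivial (center (thompsonSubgroup p Q)) := hJp.center_nontrivial
  obtain ⟨⟨z, hz⟩, hz1⟩ := exists_ne (1 : center (thompsonSubgroup p Q))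
  intro h
  have hmem : (z : Q) ∈ WZJe p Q := by
    refine mem_inf.mpr ⟨z.2, ?_⟩
    rw [mem_centralizer_iff]
    intro x hx
    have := (mem_center_iff.mp hz) ⟨x, hx⟩
    exact congrArg Subtype.val this
  rw [h, mem_bot] at hmem
  apply hz1
  apply Subtype.ext
  apply Subtype.ext
  exact hmem

/-- `Q ↦ Z(J_e(Q))` is an isomorphism-invariant `p`-group functor. -/
theorem isCharPFunctor_WZJe (p : ℕ) [hp : Fact p.Prime] : IsCharPFunctor.{u} p (WZJe p) :=
  ⟨fun Q _ _ hQ hnt => WZJe_ne_bot Q hQ hnt, fun _ _ _ _ _ _ φ => WZJe_map φ⟩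

/-- The subgroup map induced by `WZJe p` is `Cfsg.centerThompsonOf p`. -/
theorem inducedFunctor_WZJe {G : Type u} [Group G] (p : ℕ) (P : Subgroup G) :
    inducedFunctor (WZJe p) P = centerThompsonOf p P := by
  unfold inducedFunctor WZJe centerThompsonOf thompsonSubgroupOf
  exact Cfsg.Agent.S0622.map_inf_centralizer_of_injective P.subtype P.subtype_injective _

end Cfsg.Agent.Lib.Helper32_ZJe
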