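import Mathlib
import Cfsg.Prelude.Def_Solvable
import Cfsg.Prelude.Def_Transfer
import Cfsg.Agent.Lib.Helper51_CMDefs
import Cfsg.Agent.Lib.Helper32_ZJe7

/-!
# S3905 package CM-DQ-TOP (helper95)

`Γ ⧸ O_p(Γ)` has no non-trivial normal `p`-subgroup; hence neither `J(P̄)` nor `Z(P̄)` is normal
when the Sylow subgroup `P` is not normal.
-/

set_option autoImplicit false
open Cfsg Cfsg.Agent.Lib.Helper51_CMDefs

namespace Cfsg.Agent.Lib.Helper95_CM_DQ_TOP

variable {G Γ : Type*} [Group G] [Group Γ] {ρ : G →* MulAut Γ}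

/-- every normal `p`-subgroup lies in `Op P` (same statement as CM-SYLEXP `le_Op`). -/
theorem le_Op' [Finite Γ] {p : ℕ} [Fact p.Prime] (P : Sylow p Γ) (K : Subgroup Γ) [hKn : K.Normal]
    (hK : IsPGroup p K) : K ≤ Op P := by
  rw [Subgroup.normal_le_normalCore]
  obtain ⟨P', hP'⟩ := hK.exists_le_sylow
  obtain ⟨g, hg⟩ := MulAction.exists_smul_eq Γ P' P
  intro x hx
  have h1 : g⁻¹ * x * g ∈ K := by
    have := hKn.conj_mem x hx g⁻¹
    simpa using this
  have h2 : g⁻¹ * x * g ∈ (P' : Subgroup Γ) := hP' h1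
  have h3 : g * (g⁻¹ * x * g) * g⁻¹ ∈ ((g • P' : Sylow p Γ) : Subgroup Γ) := by
    rw [Sylow.coe_subgroup_smul]
    rw [Subgroup.mem_pointwise_smul_iff_inv_smul_mem]
    simp only [MulAut.smul_def, ← map_inv, MulAut.conj_apply]
    simpa [mul_assoc] using h2
  rw [hg] at h3
  simpa [mul_assoc] using h3

theorem isPGroup_Op {p : ℕ} (P : Sylow p Γ) : IsPGroup p (Op P) :=
  P.isPGroup'.to_le (Subgroup.normalCore_le _)

theorem isPGroup_Pbar {p : ℕ} (P : Sylow p Γ) : IsPGroup p (Pbar P) :=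
  P.isPGroup'.map _

theorem quot_normal_pgroup_eq_bot [Finite Γ] {p : ℕ} [Fact p.Prime] (P : Sylow p Γ)
    (K : Subgroup (Γ ⧸ Op P)) [K.Normal] (hK : IsPGroup p K) : K = ⊥ := by
  have h1 : IsPGroup p (K.comap (QuotientGroup.mk' (Op P))) := by
    apply hK.comap_of_ker_isPGroup
    rw [QuotientGroup.ker_mk']
    exact isPGroup_Op P
  have h2 : K.comap (QuotientGroup.mk' (Op P)) ≤ Op P := le_Op' P _ h1
  rw [eq_bot_iff]
  intro y hy
  obtain ⟨x, rfl⟩ := QuotientGroup.mk_surjective y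
  have hx : x ∈ K.comap (QuotientGroup.mk' (Op P)) := hy
  have := h2 hx
  rw [Subgroup.mem_bot]
  exact (QuotientGroup.eq_one_iff x).mpr this

/-- `P̄ ≠ ⊥` when `P` is not normal. -/
theorem Pbar_ne_bot {p : ℕ} (P : Sylow p Γ) (nn : ¬ (P : Subgroup Γ).Normal) : Pbar P ≠ ⊥ := by
  intro h
  apply nn
  have h1 : (P : Subgroup Γ) ≤ Op P := by
    intro x hx
    have : (QuotientGroup.mk' (Op P)) x ∈ Pbar P := Subgroup.mem_map_of_mem _ hx
    rw [h, Subgroup.mem_bot] at this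
    exact (QuotientGroup.eq_one_iff x).mp this
  have h2 : Op P = (P : Subgroup Γ) := le_antisymm (Subgroup.normalCore_le _) h1
  rw [← h2]
  infer_instance

theorem thompsonOf_le {X : Type*} [Group X] (p : ℕ) (R : Subgroup X) :
    Cfsg.thompsonSubgroupOf p R ≤ R := by
  unfold Cfsg.thompsonSubgroupOf
  intro x hx
  obtain ⟨y, _, rfl⟩ := Subgroup.mem_map.mp hx
  exact y.2

theorem thompsonOf_ne_bot {X : Type*} [Group X] [Finite X] {p : ℕ} [Fact p.Prime]
    (R : Subgroup X) (hR : IsPGroup p R) (hR1 : R ≠ ⊥) : Cfsg.thompsonSubgroupOf p R ≠ ⊥ := by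
  have : Nontrivial R := (Subgroup.nontrivial_iff_ne_bot R).mpr hR1
  have h := Cfsg.Agent.Lib.Helper32_ZJe.thompsonSubgroup_ne_bot (p := p) R hR
  unfold Cfsg.thompsonSubgroupOf
  intro h0
  apply h
  rw [eq_bot_iff]
  intro y hy
  have : R.subtype y ∈ (Cfsg.thompsonSubgroup p R).map R.subtype := Subgroup.mem_map_of_mem _ hy
  rw [h0, Subgroup.mem_bot] at this
  rw [Subgroup.mem_bot]
  exact Subtype.ext this

theorem normalizer_thompson_ne_top [Finite Γ] {p : ℕ} [Fact p.Prime] (P : Sylow p Γ)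
    (nn : ¬ (P : Subgroup Γ).Normal) :
    Subgroup.normalizer (Cfsg.thompsonSubgroupOf p (Pbar P) : Set (Γ ⧸ Op P)) ≠ ⊤ := by
  intro h
  have : (Cfsg.thompsonSubgroupOf p (Pbar P)).Normal := Subgroup.normalizer_eq_top_iff.mp h
  have h1 : IsPGroup p (Cfsg.thompsonSubgroupOf p (Pbar P)) :=
    (isPGroup_Pbar P).to_le (thompsonOf_le p _)
  have h2 := quot_normal_pgroup_eq_bot P _ h1
  exact thompsonOf_ne_bot (Pbar P) (isPGroup_Pbar P) (Pbar_ne_bot P nn) h2

theorem centralizer_center_ne_top [Finite Γ] {p : ℕ} [Fact p.Prime] (P : Sylow p Γ)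
    (nn : ¬ (P : Subgroup Γ).Normal) :
    Subgroup.centralizer ((Pbar P ⊓ Subgroup.centralizer (Pbar P : Set (Γ ⧸ Op P)) :
      Subgroup (Γ ⧸ Op P)) : Set (Γ ⧸ Op P)) ≠ ⊤ := by
  intro h
  set Z : Subgroup (Γ ⧸ Op P) := Pbar P ⊓ Subgroup.centralizer (Pbar P : Set (Γ ⧸ Op P)) with hZ
  have hcen : Z ≤ Subgroup.center (Γ ⧸ Op P) := by
    exact Subgroup.centralizer_eq_top_iff_subset.mp h
  have : Z.Normal := by
    constructor
    intro n hn g
    have := Subgroup.mem_center_iff.mp (hcen hn) g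
    rw [this, mul_inv_cancel_right]
    exact hn
  have h1 : IsPGroup p Z := (isPGroup_Pbar P).to_le inf_le_left
  have h2 : Z = ⊥ := quot_normal_pgroup_eq_bot P Z h1
  have hR1 := Pbar_ne_bot P nn
  have : Nontrivial (Pbar P) := (Subgroup.nontrivial_iff_ne_bot _).mpr hR1
  have hc : Nontrivial (Subgroup.center (Pbar P)) := (isPGroup_Pbar P).center_nontrivial
  obtain ⟨⟨z, hz⟩, hz1⟩ := exists_ne (1 : Subgroup.center (Pbar P))
  have hmem : (z : Γ ⧸ Op P) ∈ Z := by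
    refine Subgroup.mem_inf.mpr ⟨z.2, ?_⟩
    rw [Subgroup.mem_centralizer_iff]
    intro x hx
    have := (Subgroup.mem_center_iff.mp hz) ⟨x, hx⟩
    exact congrArg Subtype.val this
  rw [h2, Subgroup.mem_bot] at hmem
  apply hz1
  apply Subtype.ext
  apply Subtype.ext
  exact hmem

end Cfsg.Agent.Lib.Helper95_CM_DQ_TOP
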