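import Mathlib
import Cfsg.Prelude.Def_Solvable
import Cfsg.Prelude.Def_Transfer
import Cfsg.Agent.Lib.Helper51_CMDefs
import Cfsg.Agent.Lib.Helper20_CM_DQ_THcore
import Cfsg.Agent.Lib.Helper95_CM_DQ_TOP

/-!
S3905 market (architect helper51), package CM-DQ-TH: Thompson's normal `p`-complement theorem (S0108) applied to
`Γ ⧸ O_p(Γ)` (helper20).  The proof is in `Helper20_CM_DQ_THcore`; the two non-normality facts are helper95's CM-DQ-TOP.
-/

set_option autoImplicit false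
open Cfsg Cfsg.Agent.Lib.Helper51_CMDefs

namespace Cfsg.Agent.Lib.Helper20_CM_DQ_TH

variable {G Γ : Type*} [Group G] [Group Γ] {ρ : G →* MulAut Γ}

theorem quot_hasNormalPComplement [Finite Γ] {p : ℕ} [Fact p.Prime] (hp2 : p ≠ 2) (P : Sylow p Γ)
    (nb : NB (P : Subgroup Γ)) (nn : ¬ (P : Subgroup Γ).Normal) :
    Cfsg.HasNormalPComplement p (Γ ⧸ Op P) :=
  Cfsg.Agent.Lib.Helper20_CM_DQ_THcore.quot_hasNormalPComplement_core hp2 P nb
    (Cfsg.Agent.Lib.Helper95_CM_DQ_TOP.normalizer_thompson_ne_top P nn)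
    (Cfsg.Agent.Lib.Helper95_CM_DQ_TOP.centralizer_center_ne_top P nn)

end Cfsg.Agent.Lib.Helper20_CM_DQ_TH
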