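import Mathlib

/-!
# Groups of order `p^n` with a cyclic subgroup of index `p`: common setup
-/

set_option autoImplicit false

namespace Cfsg.Agent.Lib.Helper20_CyclicMax

section
variable {G : Type*} [Group G]

theorem conj_pow_iter {a b : G} {r : ℕ} (h : b * a * b⁻¹ = a ^ r) (k : ℕ) :
    b ^ k * a * (b ^ k)⁻¹ = a ^ (r ^ k) := by
  induction k with
  | zero => simp
  | succ k ih =>
    calc b ^ (k + 1) * a * (b ^ (k + 1))⁻¹ = b * (b ^ k * a * (b ^ k)⁻¹) * b⁻¹ := by
          rw [pow_succ']; group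
      _ = b * a ^ (r ^ k) * b⁻¹ := by rw [ih]
      _ = (b * a * b⁻¹) ^ (r ^ k) := (conj_pow).symm
      _ = a ^ (r ^ (k + 1)) := by rw [h, ← pow_mul, pow_succ']

/-- A subgroup of prime index is maximal. -/
theorem isCoatom_of_index_prime' (C : Subgroup G) (h : C.index.Prime) : IsCoatom C := by
  constructor
  · intro htop
    rw [htop, Subgroup.index_top] at h
    exact Nat.not_prime_one h
  · intro K hK
    have h1 := Subgroup.relIndex_mul_index hK.le
    rcases (Nat.dvd_prime h).mp (Dvd.intro_left _ h1) with h2 | h2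
    · exact Subgroup.index_eq_one.mp h2
    · rw [h2] at h1
      have h3 : C.relIndex K = 1 := by
        have hpos : 0 < C.index := h.pos
        nlinarith
      exact absurd (Subgroup.relIndex_eq_one.mp h3) (not_le_of_gt hK)

end

/-- Common setup for a non-abelian group of order `p ^ n` with a cyclic subgroup `C` of index `p`:
a generator `a` of `C`, an element `b₀ ∉ C`, and the exponent `r` with `b₀ a b₀⁻¹ = a ^ r`. -/
theorem setup {G : Type*} [Group G] [Finite G] {p : ℕ} [Fact p.Prime] (n : ℕ) (hn : 2 ≤ n)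
    (hG : Nat.card G = p ^ n) (C : Subgroup G) (hC : IsCyclic C) (hCi : C.index = p)
    (hna : ∃ x y : G, x * y ≠ y * x) :
    ∃ (a b₀ : G) (r : ℕ), orderOf a = p ^ (n - 1) ∧ (∀ x : G, x ∈ C ↔ x ∈ Subgroup.zpowers a) ∧
      (∀ x : G, x ∈ C → ∃ k : ℕ, a ^ k = x) ∧ C.Normal ∧ b₀ ∉ C ∧ b₀ * a * b₀⁻¹ = a ^ r ∧
      1 < r ∧ r < p ^ (n - 1) ∧ b₀ ^ p ∈ C ∧ r ^ p ≡ 1 [MOD p ^ (n - 1)] ∧ b₀ * a ≠ a * b₀ := by
  have hpP : p.Prime := Fact.out
  have hCn : C.Normal := by
    apply Subgroup.normal_of_index_eq_minFac_card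
    rw [hCi, hG, Nat.Prime.pow_minFac hpP (by omega)]
  have hCcard : Nat.card C = p ^ (n - 1) := by
    have h1 := C.card_mul_index
    rw [hCi, hG] at h1
    have hn' : n = (n - 1) + 1 := by omega
    rw [hn', pow_succ] at h1
    have := Nat.eq_of_mul_eq_mul_right hpP.pos h1
    rw [this]
  obtain ⟨a₀, ha₀⟩ := hC.exists_generator
  have hoa₀ : orderOf a₀ = Nat.card C := orderOf_eq_card_of_forall_mem_zpowers ha₀
  obtain ⟨a, haC⟩ := a₀
  have hoa : orderOf a = p ^ (n - 1) := by
    rw [← hCcard, ← hoa₀]; exact (Subgroup.orderOf_mk a haC).symm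
  have hCa : ∀ x : G, x ∈ C ↔ x ∈ Subgroup.zpowers a := by
    intro x
    constructor
    · intro hx
      obtain ⟨k, hk⟩ := Subgroup.mem_zpowers_iff.mp (ha₀ ⟨x, hx⟩)
      have := congrArg Subtype.val hk
      rw [Subgroup.mem_zpowers_iff]
      exact ⟨k, by simpa using this⟩
    · intro hx
      exact (Subgroup.zpowers_le.mpr haC) hx
  have hpowC : ∀ x : G, x ∈ C → ∃ k : ℕ, a ^ k = x := by
    intro x hx
    have := (hCa x).mp hx
    rw [← mem_powers_iff_mem_zpowers] at this
    exact (Submonoid.mem_powers_iff _ _).mp this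
  have hcommC : ∀ x : G, x ∈ C → x * a = a * x := by
    intro x hx
    obtain ⟨k, rfl⟩ := hpowC x hx
    rw [← pow_succ, ← pow_succ']
  have hCtop : C ≠ ⊤ := by
    intro h
    rw [h, Subgroup.index_top] at hCi
    exact hpP.one_lt.ne hCi
  obtain ⟨b₀, hb₀⟩ : ∃ b₀ : G, b₀ ∉ C := by
    by_contra hall
    push Not at hall
    exact hCtop (eq_top_iff.mpr (fun x _ => hall x))
  have hgen : ∀ x : G, x * a = a * x → x * b₀ = b₀ * x → x ∈ Subgroup.center G := by
    intro x hxa hxb
    have hle : C ⊔ Subgroup.zpowers b₀ ≤ Subgroup.centralizer {x} := by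
      apply sup_le
      · intro y hy
        obtain ⟨k, rfl⟩ := hpowC y hy
        rw [Subgroup.mem_centralizer_singleton_iff]
        exact ((Commute.pow_right (show Commute x a from hxa) k).eq).symm
      · rw [Subgroup.zpowers_le, Subgroup.mem_centralizer_singleton_iff]
        exact hxb.symm
    have htop : C ⊔ Subgroup.zpowers b₀ = ⊤ := by
      have hco : IsCoatom C := isCoatom_of_index_prime' C (by rw [hCi]; exact hpP)
      by_contra hne
      have hlt : C < C ⊔ Subgroup.zpowers b₀ := by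
        apply lt_of_le_of_ne le_sup_left
        intro h
        apply hb₀
        rw [h]
        exact Subgroup.mem_sup_right (Subgroup.mem_zpowers b₀)
      exact hne (hco.2 _ hlt)
    rw [htop] at hle
    rw [Subgroup.mem_center_iff]
    intro g
    have := hle (Subgroup.mem_top g)
    rw [Subgroup.mem_centralizer_singleton_iff] at this
    exact this
  have hncomm : b₀ * a ≠ a * b₀ := by
    intro hcomm
    have ha_c : a ∈ Subgroup.center G := hgen a rfl hcomm.symm
    have hb_c : b₀ ∈ Subgroup.center G := hgen b₀ hcomm rfl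
    obtain ⟨x, y, hxy⟩ := hna
    have hall : ∀ g : G, g ∈ Subgroup.center G := by
      intro g
      apply hgen g
      · exact (Subgroup.mem_center_iff.mp ha_c g)
      · exact (Subgroup.mem_center_iff.mp hb_c g)
    exact hxy ((Subgroup.mem_center_iff.mp (hall y) x))
  obtain ⟨r₀, hr₀⟩ := hpowC (b₀ * a * b₀⁻¹) (hCn.conj_mem a haC b₀)
  -- reduce the exponent modulo the order of `a`
  have hopos : 0 < p ^ (n - 1) := pow_pos hpP.pos _
  have hr' : b₀ * a * b₀⁻¹ = a ^ (r₀ % p ^ (n - 1)) := by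
    rw [← hr₀, ← hoa, pow_mod_orderOf]
  have hrlt : r₀ % p ^ (n - 1) < p ^ (n - 1) := Nat.mod_lt _ hopos
  generalize r₀ % p ^ (n - 1) = r at hr' hrlt
  have ha1 : a ≠ 1 := by
    intro h
    rw [h, orderOf_one] at hoa
    have : 1 < p ^ (n - 1) := Nat.one_lt_pow (by omega) hpP.one_lt
    omega
  have hr0 : r ≠ 0 := by
    rintro rfl
    rw [pow_zero] at hr'
    apply ha1
    have : a = b₀⁻¹ * (b₀ * a * b₀⁻¹) * b₀ := by group
    rw [this, hr']; group
  have hr1 : r ≠ 1 := by
    rintro rfl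
    rw [pow_one] at hr'
    apply hncomm
    calc b₀ * a = (b₀ * a * b₀⁻¹) * b₀ := by group
      _ = a * b₀ := by rw [hr']
  have hr2 : 1 < r := by omega
  have hbp : b₀ ^ p ∈ C := by
    have := Subgroup.pow_index_mem C b₀
    rwa [hCi] at this
  have hrp : r ^ p ≡ 1 [MOD p ^ (n - 1)] := by
    have h1 := conj_pow_iter hr' p
    rw [hcommC _ hbp, mul_inv_cancel_right] at h1
    have h2 : a ^ (r ^ p) = a ^ 1 := by rw [← h1, pow_one]
    have := pow_eq_pow_iff_modEq.mp h2
    rwa [hoa] at this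
  exact ⟨a, b₀, r, hoa, hCa, hpowC, hCn, hb₀, hr', hr2, hrlt, hbp, hrp, hncomm⟩

end Cfsg.Agent.Lib.Helper20_CyclicMax
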