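import Mathlib
import Cfsg.Agent.Lib.Helper1_D8Defs

/-!
S3716 market `d8_packages` (architect helper1), package CL-DFS (helper20): the multisets of row types with the right
Gram matrix, by a verified exhaustive search (`search`, complete by `complete`, evaluated by the kernel).
-/

set_option autoImplicit false

namespace Cfsg.Agent.Lib.Helper20_D8_CLDFS

open Cfsg Cfsg.Agent.Lib.Helper1_D8Defs

/-- a vector of `ℤ⁴` -/
structure V4 where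
  x0 : ℤ
  x1 : ℤ
  x2 : ℤ
  x3 : ℤ
deriving DecidableEq

/-- a symmetric `4 × 4` matrix (upper triangle) -/
structure M10 where
  a00 : ℤ
  a01 : ℤ
  a02 : ℤ
  a03 : ℤ
  a11 : ℤ
  a12 : ℤ
  a13 : ℤ
  a22 : ℤ
  a23 : ℤ
  a33 : ℤ
deriving DecidableEq

/-- `r - n • w wᵀ` -/
def M10.subMul (r : M10) (n : ℤ) (w : V4) : M10 :=
  { a00 := r.a00 - n * (w.x0 * w.x0)
    a01 := r.a01 - n * (w.x0 * w.x1)
    a02 := r.a02 - n * (w.x0 * w.x2)
    a03 := r.a03 - n * (w.x0 * w.x3)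
    a11 := r.a11 - n * (w.x1 * w.x1)
    a12 := r.a12 - n * (w.x1 * w.x2)
    a13 := r.a13 - n * (w.x1 * w.x3)
    a22 := r.a22 - n * (w.x2 * w.x2)
    a23 := r.a23 - n * (w.x2 * w.x3)
    a33 := r.a33 - n * (w.x3 * w.x3) }

/-- `|x| ≤ y` -/
def bd (x y : ℤ) : Bool := decide (-y ≤ x) && decide (x ≤ y)

/-- the pruning test: nonnegative diagonal, off-diagonal entries bounded by the diagonal ones -/
def M10.ok (r : M10) : Bool :=
  decide (0 ≤ r.a00) && decide (0 ≤ r.a11) && decide (0 ≤ r.a22) && decide (0 ≤ r.a33) &&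
  bd r.a01 r.a00 && bd r.a01 r.a11 && bd r.a02 r.a00 && bd r.a02 r.a22 &&
  bd r.a03 r.a00 && bd r.a03 r.a33 && bd r.a12 r.a11 && bd r.a12 r.a22 &&
  bd r.a13 r.a11 && bd r.a13 r.a33 && bd r.a23 r.a22 && bd r.a23 r.a33

def M10.zero : M10 := ⟨0, 0, 0, 0, 0, 0, 0, 0, 0, 0⟩

/-- a bound for the multiplicity of `w` -/
def M10.bound (r : M10) (w : V4) : ℕ :=
  if w.x0 ≠ 0 then r.a00.toNat else if w.x1 ≠ 0 then r.a11.toNat else
    if w.x2 ≠ 0 then r.a22.toNat else r.a33.toNat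

/-- the exhaustive search -/
def search : List V4 → M10 → List (List ℕ)
  | [], r => if r = M10.zero then [[]] else []
  | w :: ws, r => (List.range (r.bound w + 1)).flatMap fun (n : ℕ) =>
      if (r.subMul (n : ℤ) w).ok then (search ws (r.subMul (n : ℤ) w)).map (fun l => n :: l) else []

/-- admissible vectors: non-zero, entries in `{-1, 0, 1}` -/
def V4.Good (w : V4) : Prop :=
  (w.x0 = -1 ∨ w.x0 = 0 ∨ w.x0 = 1) ∧ (w.x1 = -1 ∨ w.x1 = 0 ∨ w.x1 = 1) ∧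
  (w.x2 = -1 ∨ w.x2 = 0 ∨ w.x2 = 1) ∧ (w.x3 = -1 ∨ w.x3 = 0 ∨ w.x3 = 1) ∧
  (w.x0 ≠ 0 ∨ w.x1 ≠ 0 ∨ w.x2 ≠ 0 ∨ w.x3 ≠ 0)

instance : DecidablePred V4.Good := fun w => by unfold V4.Good; infer_instance

/-- `ns` is a solution: `∑ nᵢ • wᵢ wᵢᵀ = r` -/
def Sol : List V4 → List ℕ → M10 → Prop
  | [], [], r => r = M10.zero
  | w :: ws, n :: ns, r => Sol ws ns (r.subMul (n : ℤ) w)
  | [], _ :: _, _ => False
  | _ :: _, [], _ => False

theorem pair_left (a d : ℤ) (n : ℕ) (x y : ℤ) (hx : x = -1 ∨ x = 0 ∨ x = 1)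
    (hy : y = -1 ∨ y = 0 ∨ y = 1)
    (h : bd (a - n * (x * y)) (d - n * (x * x)) = true) : bd a d = true := by
  simp only [bd, Bool.and_eq_true, decide_eq_true_eq] at h ⊢
  rcases hx with rfl | rfl | rfl <;> rcases hy with rfl | rfl | rfl <;> norm_num at h <;>
    constructor <;> omega

theorem pair_right (a d : ℤ) (n : ℕ) (x y : ℤ) (hx : x = -1 ∨ x = 0 ∨ x = 1)
    (hy : y = -1 ∨ y = 0 ∨ y = 1)
    (h : bd (a - n * (x * y)) (d - n * (y * y)) = true) : bd a d = true := by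
  simp only [bd, Bool.and_eq_true, decide_eq_true_eq] at h ⊢
  rcases hx with rfl | rfl | rfl <;> rcases hy with rfl | rfl | rfl <;> norm_num at h <;>
    constructor <;> omega

theorem diag_nonneg (d : ℤ) (n : ℕ) (x : ℤ) (h : 0 ≤ d - n * (x * x)) : 0 ≤ d := by
  have : (0 : ℤ) ≤ n * (x * x) := mul_nonneg (Int.natCast_nonneg n) (mul_self_nonneg x)
  omega

theorem ok_of_subMul (r : M10) (n : ℕ) (w : V4) (hw : w.Good)
    (h : (r.subMul (n : ℤ) w).ok = true) : r.ok = true := by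
  obtain ⟨h0, h1, h2, h3, -⟩ := hw
  simp only [M10.ok, M10.subMul, Bool.and_eq_true, decide_eq_true_eq] at h ⊢
  obtain ⟨⟨⟨⟨⟨⟨⟨⟨⟨⟨⟨⟨⟨⟨⟨d0, d1⟩, d2⟩, d3⟩, p1⟩, p2⟩, p3⟩, p4⟩, p5⟩, p6⟩, p7⟩, p8⟩, p9⟩, p10⟩, p11⟩, p12⟩ := h
  refine ⟨⟨⟨⟨⟨⟨⟨⟨⟨⟨⟨⟨⟨⟨⟨?_, ?_⟩, ?_⟩, ?_⟩, ?_⟩, ?_⟩, ?_⟩, ?_⟩, ?_⟩, ?_⟩, ?_⟩, ?_⟩, ?_⟩, ?_⟩, ?_⟩, ?_⟩
  · exact diag_nonneg _ _ _ (of_decide_eq_true d0)
  · exact diag_nonneg _ _ _ (of_decide_eq_true d1)
  · exact diag_nonneg _ _ _ (of_decide_eq_true d2)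
  · exact diag_nonneg _ _ _ (of_decide_eq_true d3)
  · exact pair_left _ _ _ _ _ h0 h1 p1
  · exact pair_right _ _ _ _ _ h0 h1 p2
  · exact pair_left _ _ _ _ _ h0 h2 p3
  · exact pair_right _ _ _ _ _ h0 h2 p4
  · exact pair_left _ _ _ _ _ h0 h3 p5
  · exact pair_right _ _ _ _ _ h0 h3 p6
  · exact pair_left _ _ _ _ _ h1 h2 p7
  · exact pair_right _ _ _ _ _ h1 h2 p8
  · exact pair_left _ _ _ _ _ h1 h3 p9
  · exact pair_right _ _ _ _ _ h1 h3 p10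
  · exact pair_left _ _ _ _ _ h2 h3 p11
  · exact pair_right _ _ _ _ _ h2 h3 p12

theorem ok_of_Sol : ∀ (ws : List V4), (∀ w ∈ ws, w.Good) → ∀ (ns : List ℕ) (r : M10),
    Sol ws ns r → r.ok = true
  | [], _, [], r, h => by
    have hr : r = M10.zero := h
    rw [hr]
    decide
  | [], _, _ :: _, _, h => absurd h (by simp [Sol])
  | _ :: _, _, [], _, h => absurd h (by simp [Sol])
  | w :: ws, hws, n :: ns, r, h => by
    have h1 : Sol ws ns (r.subMul (n : ℤ) w) := h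
    have h2 := ok_of_Sol ws (fun w' hw' => hws w' (List.mem_cons_of_mem _ hw')) ns _ h1
    exact ok_of_subMul r n w (hws w List.mem_cons_self) h2

theorem le_bound (r : M10) (n : ℕ) (w : V4) (hw : w.Good)
    (h : (r.subMul (n : ℤ) w).ok = true) : n ≤ r.bound w := by
  obtain ⟨h0, h1, h2, h3, hne⟩ := hw
  simp only [M10.ok, M10.subMul, Bool.and_eq_true] at h
  obtain ⟨⟨⟨⟨⟨⟨⟨⟨⟨⟨⟨⟨⟨⟨⟨d0, d1⟩, d2⟩, d3⟩, -⟩, -⟩, -⟩, -⟩, -⟩, -⟩, -⟩, -⟩, -⟩, -⟩, -⟩, -⟩ := h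
  replace d0 := of_decide_eq_true d0
  replace d1 := of_decide_eq_true d1
  replace d2 := of_decide_eq_true d2
  replace d3 := of_decide_eq_true d3
  unfold M10.bound
  split_ifs with c0 c1 c2
  · rcases h0 with e | e | e <;> rw [e] at d0 <;> first | exact absurd e c0 | (norm_num at d0; omega)
  · rcases h1 with e | e | e <;> rw [e] at d1 <;> first | exact absurd e c1 | (norm_num at d1; omega)
  · rcases h2 with e | e | e <;> rw [e] at d2 <;> first | exact absurd e c2 | (norm_num at d2; omega)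
  · have c3 : w.x3 ≠ 0 := by
      rcases hne with e | e | e | e
      · exact absurd e (by simpa using c0)
      · exact absurd e (by simpa using c1)
      · exact absurd e (by simpa using c2)
      · exact e
    rcases h3 with e | e | e <;> rw [e] at d3 <;> first | exact absurd e c3 | (norm_num at d3; omega)

theorem complete : ∀ (ws : List V4), (∀ w ∈ ws, w.Good) → ∀ (ns : List ℕ) (r : M10),
    Sol ws ns r → ns ∈ search ws r
  | [], _, [], r, h => by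
    have hr : r = M10.zero := h
    rw [hr]
    simp [search]
  | [], _, _ :: _, _, h => absurd h (by simp [Sol])
  | _ :: _, _, [], _, h => absurd h (by simp [Sol])
  | w :: ws, hws, n :: ns, r, h => by
    have hws' : ∀ w' ∈ ws, w'.Good := fun w' hw' => hws w' (List.mem_cons_of_mem _ hw')
    have hw : w.Good := hws w List.mem_cons_self
    have h1 : Sol ws ns (r.subMul (n : ℤ) w) := h
    have hok := ok_of_Sol ws hws' ns _ h1
    have hb := le_bound r n w hw hok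
    have ih := complete ws hws' ns _ h1
    unfold search
    rw [List.mem_flatMap]
    refine ⟨n, List.mem_range.mpr (by omega), ?_⟩
    rw [if_pos hok]
    exact List.mem_map.mpr ⟨ns, ih, rfl⟩

/-- the total `∑ cₜ • wₜ wₜᵀ` of a family -/
def Tot {k : ℕ} (wv : Fin k → V4) (c : Fin k → ℕ) : M10 :=
  { a00 := ∑ t, (c t : ℤ) * ((wv t).x0 * (wv t).x0)
    a01 := ∑ t, (c t : ℤ) * ((wv t).x0 * (wv t).x1)
    a02 := ∑ t, (c t : ℤ) * ((wv t).x0 * (wv t).x2)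
    a03 := ∑ t, (c t : ℤ) * ((wv t).x0 * (wv t).x3)
    a11 := ∑ t, (c t : ℤ) * ((wv t).x1 * (wv t).x1)
    a12 := ∑ t, (c t : ℤ) * ((wv t).x1 * (wv t).x2)
    a13 := ∑ t, (c t : ℤ) * ((wv t).x1 * (wv t).x3)
    a22 := ∑ t, (c t : ℤ) * ((wv t).x2 * (wv t).x2)
    a23 := ∑ t, (c t : ℤ) * ((wv t).x2 * (wv t).x3)
    a33 := ∑ t, (c t : ℤ) * ((wv t).x3 * (wv t).x3) }

theorem sol_ofFn : ∀ (k : ℕ) (wv : Fin k → V4) (c : Fin k → ℕ) (r : M10), r = Tot wv c →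
    Sol (List.ofFn wv) (List.ofFn c) r
  | 0, wv, c, r, h => by
    rw [List.ofFn_zero, List.ofFn_zero]
    show r = M10.zero
    rw [h]
    simp [Tot, M10.zero]
  | k + 1, wv, c, r, h => by
    rw [List.ofFn_succ, List.ofFn_succ]
    show Sol (List.ofFn fun i => wv i.succ) (List.ofFn fun i => c i.succ)
      (r.subMul ((c 0 : ℕ) : ℤ) (wv 0))
    apply sol_ofFn k
    rw [h]
    simp only [Tot, M10.subMul, Fin.sum_univ_succ, add_sub_cancel_left]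

/-- the 40 row types -/
def WL : List V4 :=
  [⟨1, 1, 1, 1⟩, ⟨1, 1, 1, 0⟩, ⟨1, 1, 1, -1⟩, ⟨1, 1, 0, 1⟩, ⟨1, 1, 0, 0⟩, ⟨1, 1, 0, -1⟩, ⟨1, 1, -1, 1⟩,
    ⟨1, 1, -1, 0⟩, ⟨1, 1, -1, -1⟩, ⟨1, 0, 1, 1⟩, ⟨1, 0, 1, 0⟩, ⟨1, 0, 1, -1⟩, ⟨1, 0, 0, 1⟩, ⟨1, 0, 0, 0⟩,
    ⟨1, 0, 0, -1⟩, ⟨1, 0, -1, 1⟩, ⟨1, 0, -1, 0⟩, ⟨1, 0, -1, -1⟩, ⟨1, -1, 1, 1⟩, ⟨1, -1, 1, 0⟩, ⟨1, -1, 1, -1⟩,
    ⟨1, -1, 0, 1⟩, ⟨1, -1, 0, 0⟩, ⟨1, -1, 0, -1⟩, ⟨1, -1, -1, 1⟩, ⟨1, -1, -1, 0⟩, ⟨1, -1, -1, -1⟩,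
    ⟨0, 1, 1, 1⟩, ⟨0, 1, 1, 0⟩, ⟨0, 1, 1, -1⟩, ⟨0, 1, 0, 1⟩, ⟨0, 1, 0, 0⟩, ⟨0, 1, 0, -1⟩, ⟨0, 1, -1, 1⟩,
    ⟨0, 1, -1, 0⟩, ⟨0, 1, -1, -1⟩, ⟨0, 0, 1, 1⟩, ⟨0, 0, 1, 0⟩, ⟨0, 0, 1, -1⟩, ⟨0, 0, 0, 1⟩]

/-- the row types as elements of `V4` -/
def W' (t : Fin 40) : V4 := ⟨W t 0, W t 1, W t 2, W t 3⟩

theorem WL_eq : WL = List.ofFn W' := by decide +kernel

theorem WL_good : ∀ w ∈ WL, w.Good := by decide +kernel

/-- the target matrix `gram - v vᵀ`, `v = (1, 0, 1, 0)` -/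
def G0 : M10 := ⟨3, 1, 1, 2, 4, 2, 2, 3, 1, 4⟩

/-- the six solutions, in the order of the search -/
def sols : List (List ℕ) :=
  [[0, 0, 0, 1, 0, 0, 0, 0, 0, 0, 1, 0, 1, 0, 0, 0, 0, 0, 0, 0, 0, 0, 0, 0, 0, 0, 0, 1, 1, 0, 0, 1, 0, 0, 0, 0, 0, 0, 0, 1],
    [0, 0, 0, 1, 0, 0, 0, 0, 0, 1, 0, 0, 0, 1, 0, 0, 0, 0, 0, 0, 0, 0, 0, 0, 0, 0, 0, 0, 2, 0, 1, 0, 0, 0, 0, 0, 0, 0, 0, 1],
    [0, 1, 0, 0, 0, 0, 0, 0, 0, 0, 0, 0, 2, 0, 0, 0, 0, 0, 0, 0, 0, 0, 0, 0, 0, 0, 0, 1, 0, 0, 1, 1, 0, 0, 0, 0, 0, 1, 0, 0],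
    [1, 0, 0, 0, 0, 0, 0, 0, 0, 0, 0, 0, 1, 1, 0, 0, 0, 0, 0, 0, 0, 0, 0, 0, 0, 0, 0, 0, 1, 0, 1, 1, 0, 0, 0, 0, 0, 1, 0, 1],
    [1, 0, 0, 0, 0, 0, 0, 0, 0, 0, 0, 0, 1, 1, 0, 0, 0, 0, 0, 0, 0, 0, 0, 0, 0, 0, 0, 1, 0, 0, 0, 2, 0, 0, 0, 0, 0, 0, 1, 0],
    [1, 0, 0, 1, 0, 0, 0, 0, 0, 0, 0, 0, 0, 0, 0, 0, 0, 0, 0, 0, 0, 0, 1, 0, 0, 0, 0, 0, 1, 0, 0, 0, 0, 0, 0, 0, 0, 1, 0, 2]]

set_option maxRecDepth 100000 in
theorem search_eq : search WL G0 = sols := by decide +kernel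

theorem get_of_ofFn_eq {n : ℕ} (c : Fin n → ℕ) (L : List ℕ) (e : List.ofFn c = L) (t : Fin n) :
    c t = L.getD t.val 0 := by
  rw [← e, List.getD_eq_getElem?_getD, List.getElem?_ofFn]
  simp

theorem fib0 : ∀ t : Fin 40, (sols.getD 2 []).getD t.val 0 =
    (Finset.univ.filter (fun k => T0 k = t)).card := by decide +kernel
theorem fib1 : ∀ t : Fin 40, (sols.getD 4 []).getD t.val 0 =
    (Finset.univ.filter (fun k => T1 k = t)).card := by decide +kernel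
theorem fib2 : ∀ t : Fin 40, (sols.getD 1 []).getD t.val 0 =
    (Finset.univ.filter (fun k => T2 k = t)).card := by decide +kernel
theorem fib3 : ∀ t : Fin 40, (sols.getD 0 []).getD t.val 0 =
    (Finset.univ.filter (fun k => T3 k = t)).card := by decide +kernel
theorem fib4 : ∀ t : Fin 40, (sols.getD 3 []).getD t.val 0 =
    (Finset.univ.filter (fun k => T4 k = t)).card := by decide +kernel
theorem fib5 : ∀ t : Fin 40, (sols.getD 5 []).getD t.val 0 =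
    (Finset.univ.filter (fun k => T5 k = t)).card := by decide +kernel

theorem count_solutions (c : Fin 40 → ℕ)
    (h : ∀ j k, ∑ t, (c t : ℤ) * (W t j * W t k) =
      gram j k - (![1, 0, 1, 0] : Fin 4 → ℤ) j * (![1, 0, 1, 0] : Fin 4 → ℤ) k) :
    (∀ t, c t = (Finset.univ.filter (fun k => T0 k = t)).card) ∨
    (∀ t, c t = (Finset.univ.filter (fun k => T1 k = t)).card) ∨
    (∀ t, c t = (Finset.univ.filter (fun k => T2 k = t)).card) ∨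
    (∀ t, c t = (Finset.univ.filter (fun k => T3 k = t)).card) ∨
    (∀ t, c t = (Finset.univ.filter (fun k => T4 k = t)).card) ∨
    (∀ t, c t = (Finset.univ.filter (fun k => T5 k = t)).card) := by
  have hT : G0 = Tot W' c := by
    have e : ∀ j k : Fin 4, ∀ z : ℤ,
        z = gram j k - (![1, 0, 1, 0] : Fin 4 → ℤ) j * (![1, 0, 1, 0] : Fin 4 → ℤ) k →
        z = ∑ t, (c t : ℤ) * (W t j * W t k) := fun j k z hz => by rw [h j k, hz]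
    unfold G0 Tot
    rw [M10.mk.injEq]
    exact ⟨e 0 0 3 (by decide), e 0 1 1 (by decide), e 0 2 1 (by decide), e 0 3 2 (by decide),
      e 1 1 4 (by decide), e 1 2 2 (by decide), e 1 3 2 (by decide), e 2 2 3 (by decide),
      e 2 3 1 (by decide), e 3 3 4 (by decide)⟩
  have hsol : Sol WL (List.ofFn c) G0 := by
    rw [WL_eq]
    exact sol_ofFn 40 W' c G0 hT
  have hmem := complete WL WL_good _ _ hsol
  rw [search_eq] at hmem
  have hcases : List.ofFn c = sols.getD 0 [] ∨ List.ofFn c = sols.getD 1 [] ∨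
      List.ofFn c = sols.getD 2 [] ∨ List.ofFn c = sols.getD 3 [] ∨
      List.ofFn c = sols.getD 4 [] ∨ List.ofFn c = sols.getD 5 [] := by
    simpa [sols] using hmem
  rcases hcases with e | e | e | e | e | e
  · right; right; right; left
    intro t
    rw [get_of_ofFn_eq c _ e t]
    exact fib3 t
  · right; right; left
    intro t
    rw [get_of_ofFn_eq c _ e t]
    exact fib2 t
  · left
    intro t
    rw [get_of_ofFn_eq c _ e t]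
    exact fib0 t
  · right; right; right; right; left
    intro t
    rw [get_of_ofFn_eq c _ e t]
    exact fib4 t
  · right; left
    intro t
    rw [get_of_ofFn_eq c _ e t]
    exact fib1 t
  · right; right; right; right; right
    intro t
    rw [get_of_ofFn_eq c _ e t]
    exact fib5 t

end Cfsg.Agent.Lib.Helper20_D8_CLDFS
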