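import Mathlib

set_option autoImplicit false

/-!
# Orbit counting for S4025 (helper20)

A group `Γ` of `ZMod p`-linear maps of `M` (order `p ^ n`) containing the scalars, transitive on
nonzero vectors and on subgroups of order `p ^ 2`: `p ^ n - 1` and `N₂ (p - 1)` divide `|Γ|`.
-/

namespace Cfsg.Agent.Lib.Helper20_EqOrdCount

open Pointwise MulAction

variable {p n : ℕ} [Fact p.Prime] {M : Type*} [AddCommGroup M] [Module (ZMod p) M] [Finite M]

/-- scalars of `ZMod p` preserve additive subgroups -/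
theorem zmod_smul_mem (W : AddSubgroup M) (c : ZMod p) {w : M} (hw : w ∈ W) : c • w ∈ W := by
  have h1 : c • w = (c.val : ℕ) • w := by
    rw [← Nat.cast_smul_eq_nsmul (ZMod p), ZMod.natCast_zmod_val]
  rw [h1]
  exact W.nsmul_mem hw _

/-- orbit counting for a group of linear maps containing the scalars -/
theorem orbit_counting (hM : Nat.card M = p ^ n) (hn : 1 ≤ n)
    (Γ : Subgroup (M ≃ₗ[ZMod p] M))
    (hscal : ∀ z : (ZMod p)ˣ, DistribMulAction.toModuleAut (ZMod p) M z ∈ Γ)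
    (htv : ∀ v w : M, v ≠ 0 → w ≠ 0 → ∃ g ∈ Γ, g v = w)
    (hts : ∀ W W' : AddSubgroup M, Nat.card W = p ^ 2 → Nat.card W' = p ^ 2 →
      ∃ g ∈ Γ, W' = W.map ((g : M ≃ₗ[ZMod p] M) : M →ₗ[ZMod p] M).toAddMonoidHom) :
    (p ^ n - 1) ∣ Nat.card Γ ∧
      ∀ W₀ : AddSubgroup M, Nat.card W₀ = p ^ 2 →
        Nat.card {W : AddSubgroup M // Nat.card W = p ^ 2} * (p - 1) ∣ Nat.card Γ := by
  classical
  have hp : p.Prime := Fact.out
  haveI : Finite (M ≃ₗ[ZMod p] M) :=
    Finite.of_injective (fun g : M ≃ₗ[ZMod p] M => (g : M → M)) DFunLike.coe_injective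
  have hnt : Nontrivial M := by
    rw [← Finite.one_lt_card_iff_nontrivial, hM]
    exact Nat.one_lt_pow (by omega) hp.one_lt
  constructor
  · obtain ⟨v₀, hv₀⟩ := exists_ne (0 : M)
    have horb : orbit Γ v₀ = {w : M | w ≠ 0} := by
      ext w
      constructor
      · rintro ⟨g, rfl⟩
        intro h0
        apply hv₀
        have : (g : M ≃ₗ[ZMod p] M) v₀ = 0 := h0
        exact (LinearEquiv.map_eq_zero_iff _).1 this
      · intro hw
        obtain ⟨g, hg, hgv⟩ := htv v₀ w hv₀ hw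
        exact ⟨⟨g, hg⟩, hgv⟩
    have h1 := MulAction.index_stabilizer Γ v₀
    rw [horb] at h1
    have h2 : Set.ncard {w : M | w ≠ 0} = p ^ n - 1 := by
      have : {w : M | w ≠ 0} = ({0} : Set M)ᶜ := by ext; simp
      rw [this, Set.ncard_compl, Set.ncard_singleton, hM]
    rw [h2] at h1
    rw [← h1]
    exact Subgroup.index_dvd_card _
  · intro W₀ hW₀
    have horb : orbit Γ W₀ = {W : AddSubgroup M | Nat.card W = p ^ 2} := by
      ext W
      constructor
      · rintro ⟨g, rfl⟩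
        change Nat.card ((g • W₀ : AddSubgroup M)) = p ^ 2
        rw [← hW₀]
        exact AddSubgroup.card_map_of_injective (LinearEquiv.injective (g : M ≃ₗ[ZMod p] M))
      · intro hW
        obtain ⟨g, hg, hgW⟩ := hts W₀ W hW₀ hW
        refine ⟨⟨g, hg⟩, ?_⟩
        rw [hgW]
        rfl
    have h1 := MulAction.index_stabilizer Γ W₀
    rw [horb] at h1
    have h2 : Set.ncard {W : AddSubgroup M | Nat.card W = p ^ 2} =
        Nat.card {W : AddSubgroup M // Nat.card W = p ^ 2} := rfl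
    rw [h2] at h1
    -- the scalars stabilise `W₀`
    let sc : (ZMod p)ˣ →* Γ :=
      (DistribMulAction.toModuleAut (ZMod p) M).codRestrict Γ hscal
    have hscinj : Function.Injective sc := by
      rw [injective_iff_map_eq_one]
      intro z hz
      obtain ⟨v₀, hv₀⟩ := exists_ne (0 : M)
      have h3 : (DistribMulAction.toModuleAut (ZMod p) M z) v₀ = v₀ := by
        have := congrArg (fun g : Γ => (g : M ≃ₗ[ZMod p] M) v₀) hz
        exact this
      have h4 : (z : ZMod p) • v₀ = v₀ := h3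
      have h5 : ((z : ZMod p) - 1) • v₀ = 0 := by rw [sub_smul, h4, one_smul, sub_self]
      rcases smul_eq_zero.1 h5 with h6 | h6
      · exact Units.ext (sub_eq_zero.1 h6)
      · exact absurd h6 hv₀
    have hle : sc.range ≤ stabilizer Γ W₀ := by
      rintro - ⟨z, rfl⟩
      rw [mem_stabilizer_iff]
      apply le_antisymm
      · rintro - ⟨w, hw, rfl⟩
        exact zmod_smul_mem W₀ (z : ZMod p) hw
      · intro w hw
        refine ⟨((z⁻¹ : (ZMod p)ˣ) : ZMod p) • w, zmod_smul_mem W₀ _ hw, ?_⟩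
        change (z : ZMod p) • (((z⁻¹ : (ZMod p)ˣ) : ZMod p) • w) = w
        rw [smul_smul, Units.mul_inv, one_smul]
    have hcard : Nat.card sc.range = p - 1 := by
      rw [Nat.card_congr (MonoidHom.ofInjective hscinj).symm.toEquiv, Nat.card_eq_fintype_card,
        ZMod.card_units_eq_totient, Nat.totient_prime hp]
    have h3 : (p - 1) ∣ Nat.card (stabilizer Γ W₀) := by
      rw [← hcard]
      exact Subgroup.card_dvd_of_le hle
    rw [← h1, ← Subgroup.index_mul_card (stabilizer Γ W₀)]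
    exact Nat.mul_dvd_mul_left _ h3


section count

variable {p n : ℕ} [Fact p.Prime] {M : Type*} [AddCommGroup M]

theorem count_addSubgroups 
    (hB : Nat.card {W : Subgroup (Multiplicative M) // W ≤ ⊤ ∧ Nat.card W = p ^ 2} *
      ((p ^ 2 - 1) * (p ^ 2 - p)) = (p ^ n - 1) * (p ^ n - p)) :
    Nat.card {W : AddSubgroup M // Nat.card W = p ^ 2} * ((p ^ 2 - 1) * (p ^ 2 - p)) =
      (p ^ n - 1) * (p ^ n - p) := by
  rw [← hB]
  congr 1
  apply Nat.card_congr
  refine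
    { toFun := fun W => ⟨AddSubgroup.toSubgroup W.1, le_top, ?_⟩
      invFun := fun W => ⟨AddSubgroup.toSubgroup.symm W.1, ?_⟩
      left_inv := fun W => by simp
      right_inv := fun W => by simp }
  · exact (Nat.card_congr (Equiv.refl _)).trans W.2
  · exact (Nat.card_congr (Equiv.refl _)).trans W.2.2

/-- the arithmetic consequence -/
theorem arith {N₂ c : ℕ} (hp : p.Prime) (hn : 2 ≤ n)
    (hcount : N₂ * ((p ^ 2 - 1) * (p ^ 2 - p)) = (p ^ n - 1) * (p ^ n - p))
    (h1 : N₂ * (p - 1) ∣ c) (h2 : c ∣ n * (p ^ n - 1)) :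
    p ^ (n - 1) - 1 ∣ n * (p ^ 2 - 1) := by
  obtain ⟨k, hk⟩ := h1.trans h2
  -- write everything with `a = p^(n-1)`
  obtain ⟨m, rfl⟩ : ∃ m, n = m + 2 := ⟨n - 2, by omega⟩
  have hp1 : 1 ≤ p := hp.one_lt.le
  have hp2 : 2 ≤ p := hp.two_le
  have hsimp : m + 2 - 1 = m + 1 := by omega
  rw [hsimp]
  set a := p ^ (m + 1) with ha
  have ha1 : 1 ≤ a := Nat.one_le_pow _ _ hp.pos
  have hpn : p ^ (m + 2) = p * a := by rw [ha]; ring
  refine ⟨k, ?_⟩
  -- move to integers
  have hpa : 1 ≤ p * a := Nat.one_le_iff_ne_zero.2 (Nat.mul_ne_zero (by omega) (by omega))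
  have hppa : p ≤ p * a := Nat.le_mul_of_pos_right p ha1
  have hpp : p ≤ p ^ 2 := by nlinarith
  have hp21 : 1 ≤ p ^ 2 := by nlinarith
  rw [hpn] at hcount hk
  zify [hpa, hppa, hpp, hp21, hp1, ha1] at hcount hk ⊢
  have hq1 : ((p : ℤ) * a - 1) ≠ 0 := by
    have : (2 : ℤ) ≤ p * a := by
      have h2' : (2 : ℤ) ≤ p := by exact_mod_cast hp2
      have h1' : (1 : ℤ) ≤ a := by exact_mod_cast ha1
      nlinarith
    omega
  have hp0 : (p : ℤ) ≠ 0 := by exact_mod_cast (show p ≠ 0 by omega)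
  have hpm : ((p : ℤ) - 1) ≠ 0 := by
    have h2' : (2 : ℤ) ≤ p := by exact_mod_cast hp2
    omega
  -- hcount: N₂ (p²-1)(p²-p) = (pa-1)(pa-p);  hk: (m+2)(pa-1) = N₂ (p-1) k
  push_cast at hk ⊢
  have key : ((p : ℤ) * a - 1) * (p * (p - 1)) * (((m : ℤ) + 2) * ((p : ℤ) ^ 2 - 1)) =
      ((p : ℤ) * a - 1) * (p * (p - 1)) * (((a : ℤ) - 1) * k) := by
    have e1 : ((p : ℤ) * a - 1) * (p * (p - 1)) * (((m : ℤ) + 2) * ((p : ℤ) ^ 2 - 1)) =
        (((m : ℤ) + 2) * ((p : ℤ) * a - 1)) * (((p : ℤ) ^ 2 - 1) * ((p : ℤ) ^ 2 - p)) := by ring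
    rw [e1, hk]
    have e2 : (N₂ : ℤ) * ((p : ℤ) - 1) * k * (((p : ℤ) ^ 2 - 1) * ((p : ℤ) ^ 2 - p)) =
        ((N₂ : ℤ) * (((p : ℤ) ^ 2 - 1) * ((p : ℤ) ^ 2 - p))) * (((p : ℤ) - 1) * k) := by ring
    rw [e2, hcount]
    ring
  have := mul_left_cancel₀ (mul_ne_zero hq1 (mul_ne_zero hp0 hpm)) key
  linarith [this]


end count

end Cfsg.Agent.Lib.Helper20_EqOrdCount
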