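import Mathlib

/-!
# Package EO-A of S4025 (helper27 for helper20): the arithmetic

If `p ^ (n - 1) - 1` divides `n * (p ^ 2 - 1)` with `n ≥ 3`, then `n = 3` or `(n, p) = (5, 2)`.
-/

set_option autoImplicit false

namespace Cfsg.Agent.Lib.Helper27_EqOrd_EOA

theorem two_pow_ge (k : ℕ) : k + 6 ≤ 2 ^ (k + 3) := by
  induction k with
  | zero => norm_num
  | succ k ih =>
    rw [show k + 1 + 3 = (k + 3) + 1 from by ring, pow_succ]
    omega

/-- EO-A: arithmetic -/
theorem EOA {p n : ℕ} (hp : p.Prime) (hn : 3 ≤ n) (h : p ^ (n - 1) - 1 ∣ n * (p ^ 2 - 1)) :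
    n = 3 ∨ (n = 5 ∧ p = 2) := by
  have hp2 : 2 ≤ p := hp.two_le
  have hsq : 4 ≤ p ^ 2 := by nlinarith
  have hpos : 0 < n * (p ^ 2 - 1) := Nat.mul_pos (by omega) (by omega)
  have hle := Nat.le_of_dvd hpos h
  rcases Nat.lt_or_ge n 6 with hn6 | hn6
  · interval_cases n
    · exact Or.inl rfl
    · -- n = 4
      exfalso
      have e : 4 - 1 = 3 := rfl
      rw [e] at h hle
      have hp3 : p ≤ 3 := by
        by_contra hcon
        have h4 : 4 ≤ p := by omega
        have h1 : 4 * p ^ 2 ≤ p ^ 3 := by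
          have : p ^ 3 = p * p ^ 2 := by ring
          rw [this]
          exact Nat.mul_le_mul_right _ h4
        omega
      interval_cases p
      · norm_num at h
      · norm_num at h
    · -- n = 5
      right
      refine ⟨rfl, ?_⟩
      have e : 5 - 1 = 4 := rfl
      rw [e] at h
      have hfac : p ^ 4 - 1 = (p ^ 2 + 1) * (p ^ 2 - 1) := by
        have h1 : 1 ≤ p ^ 2 := by omega
        have h2 : 1 ≤ p ^ 4 := Nat.one_le_pow _ _ (by omega)
        zify [h1, h2]
        ring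
      rw [hfac] at h
      have h5 : p ^ 2 + 1 ∣ 5 := Nat.dvd_of_mul_dvd_mul_right (by omega) h
      have hle5 := Nat.le_of_dvd (by norm_num) h5
      have : p ≤ 2 := by
        by_contra hcon
        have h3 : 3 ≤ p := by omega
        nlinarith
      omega
  · exfalso
    obtain ⟨k, rfl⟩ : ∃ k, n = k + 6 := ⟨n - 6, by omega⟩
    have e : k + 6 - 1 = (k + 3) + 2 := by omega
    rw [e, pow_add] at hle
    have h1 : (k + 6) * p ^ 2 ≤ p ^ (k + 3) * p ^ 2 := by
      apply Nat.mul_le_mul_right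
      calc k + 6 ≤ 2 ^ (k + 3) := two_pow_ge k
        _ ≤ p ^ (k + 3) := Nat.pow_le_pow_left hp2 _
    have h2 : (k + 6) * (p ^ 2 - 1) = (k + 6) * p ^ 2 - (k + 6) := by
      rw [Nat.mul_sub, mul_one]
    have h3 : k + 6 ≤ (k + 6) * p ^ 2 := Nat.le_mul_of_pos_right _ (by omega)
    omega

end Cfsg.Agent.Lib.Helper27_EqOrd_EOA
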