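import Mathlib
import Cfsg.Agent.Lib.Helper1_Hall

/-!
# Package EO-E of S4025 (helper27 for helper20)

A solvable group of linear maps of the space with 81 elements over the field with three elements
has order prime to 5 or to 13.
-/

set_option autoImplicit false

namespace Cfsg.Agent.Lib.Helper27_EqOrd_EOE

open scoped MatrixGroups

variable {V : Type*} [AddCommGroup V] [Module (ZMod 3) V]

/-- the fixed points of a linear map -/
def fixSub (f : V ≃ₗ[ZMod 3] V) : AddSubgroup V where
  carrier := {v | f v = v}
  add_mem' := by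
    intro a b ha hb
    show f (a + b) = a + b
    rw [map_add, ha, hb]
  zero_mem' := map_zero f
  neg_mem' := by
    intro a ha
    show f (-a) = -a
    rw [map_neg, ha]

theorem mem_fixSub (f : V ≃ₗ[ZMod 3] V) (v : V) : v ∈ fixSub f ↔ f v = v := Iff.rfl

/-- the number of the fixed points of a map of prime order -/
theorem card_fixSub_modEq [Finite V] (f : V ≃ₗ[ZMod 3] V) (r : ℕ) [hr : Fact r.Prime]
    (hf : f ^ r = 1) : Nat.card V ≡ Nat.card (fixSub f) [MOD r] := by
  classical
  have : Fintype V := Fintype.ofFinite V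
  let σ : Function.End V := fun v => f v
  have h1 : ∀ k : ℕ, ∀ v : V, (σ ^ k) v = (f ^ k) v := by
    intro k
    induction k with
    | zero => intro v; rfl
    | succ k ih =>
      intro v
      rw [pow_succ', pow_succ']
      show σ ((σ ^ k) v) = f ((f ^ k) v)
      rw [ih]
  have hσ : σ ^ r ^ 1 = 1 := by
    rw [pow_one]
    funext v
    rw [h1, hf]
    rfl
  have h := Equiv.Perm.card_fixedPoints_modEq (p := r) (n := 1) hσ
  rw [Nat.card_eq_fintype_card]
  refine h.trans ?_
  have : Fintype.card (Function.fixedPoints σ) = Nat.card (fixSub f) := by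
    rw [← Nat.card_eq_fintype_card]
    rfl
  rw [this]

/-- the number of the fixed points of a non-trivial map of prime order 5 or 13 -/
theorem card_fixSub [Finite V] (hV : Nat.card V = 81) (f : V ≃ₗ[ZMod 3] V) (hf1 : f ≠ 1) :
    (f ^ 5 = 1 → Nat.card (fixSub f) = 1) ∧ (f ^ 13 = 1 → Nat.card (fixSub f) = 3) := by
  have hdvd : Nat.card (fixSub f) ∣ 81 := by
    rw [← hV]
    exact AddSubgroup.card_addSubgroup_dvd_card _
  have hne : Nat.card (fixSub f) ≠ 81 := by
    intro h
    apply hf1
    have htop : fixSub f = ⊤ := by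
      apply AddSubgroup.eq_top_of_card_eq
      rw [h, hV]
    ext v
    have : v ∈ fixSub f := by rw [htop]; trivial
    exact this
  obtain ⟨k, hk, hkc⟩ := (Nat.dvd_prime_pow Nat.prime_three (m := 4)).1 (by norm_num; exact hdvd)
  constructor
  · intro h5
    have : Fact (Nat.Prime 5) := ⟨by norm_num⟩
    have h := card_fixSub_modEq f 5 h5
    rw [hV, hkc] at h
    rw [hkc] at hne ⊢
    interval_cases k
    · rfl
    · exact absurd h (by decide)
    · exact absurd h (by decide)
    · exact absurd h (by decide)
    · exact absurd rfl hne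
  · intro h13
    have : Fact (Nat.Prime 13) := ⟨by norm_num⟩
    have h := card_fixSub_modEq f 13 h13
    rw [hV, hkc] at h
    rw [hkc] at hne ⊢
    interval_cases k
    · exact absurd h (by decide)
    · rfl
    · exact absurd h (by decide)
    · exact absurd h (by decide)
    · exact absurd rfl hne

/-- the order of the group of the linear maps -/
theorem card_linearEquiv [Finite V] (hV : Nat.card V = 81) :
    Nat.card (V ≃ₗ[ZMod 3] V) = 24261120 := by
  classical
  have : Fintype V := Fintype.ofFinite V
  have hfr : Module.finrank (ZMod 3) V = 4 := by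
    have h := Module.card_eq_pow_finrank (K := ZMod 3) (V := V)
    rw [← Nat.card_eq_fintype_card, hV, ZMod.card] at h
    have : (3 : ℕ) ^ 4 = 3 ^ Module.finrank (ZMod 3) V := by rw [← h]; norm_num
    exact (Nat.pow_right_injective (show 2 ≤ 3 by norm_num) this).symm
  let b : Module.Basis (Fin 4) (ZMod 3) V := Module.finBasisOfFinrankEq (ZMod 3) V hfr
  let E : GL (Fin 4) (ZMod 3) ≃* (V ≃ₗ[ZMod 3] V) :=
    (Matrix.GeneralLinearGroup.toLin' b).trans
      (LinearMap.GeneralLinearGroup.generalLinearEquiv (ZMod 3) V)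
  rw [← Nat.card_congr E.toEquiv, Matrix.card_GL_field, ZMod.card]
  decide

/-- EO-E: a solvable group of linear maps of `F_3^4` has order prime to 5 or to 13 -/
theorem EOE {V : Type*} [AddCommGroup V] [Module (ZMod 3) V] [Finite V] (hV : Nat.card V = 81)
    {G : Type*} [Group G] [Finite G] (hsol : Group.IsSolvable G)
    (ρ : G →* (V ≃ₗ[ZMod 3] V)) (hρ : Function.Injective ρ) (h5 : 5 ∣ Nat.card G)
    (h13 : 13 ∣ Nat.card G) : False := by
  classical
  have hp5 : Fact (Nat.Prime 5) := ⟨by norm_num⟩
  have hp13 : Fact (Nat.Prime 13) := ⟨by norm_num⟩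
  -- the order of `G`
  have hfinL : Finite (V ≃ₗ[ZMod 3] V) :=
    Nat.finite_of_card_ne_zero (by rw [card_linearEquiv hV]; norm_num)
  have hdvd : Nat.card G ∣ 24261120 := by
    rw [← card_linearEquiv hV]
    exact Subgroup.card_dvd_of_injective ρ hρ
  have h65 : 65 ∣ Nat.card G := Nat.Coprime.mul_dvd_of_dvd_of_dvd (by norm_num) h5 h13
  obtain ⟨m, hm⟩ := h65
  have hm' : m ∣ 373248 := by
    rw [hm, show (24261120 : ℕ) = 65 * 373248 by norm_num] at hdvd
    exact Nat.dvd_of_mul_dvd_mul_left (by norm_num) hdvd
  have hcop : Nat.Coprime 65 m :=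
    Nat.Coprime.coprime_dvd_right hm' (by norm_num)
  -- a Hall subgroup of order 65
  obtain ⟨K, hK⟩ := Cfsg.Agent.Lib.Helper1_Hall.hall_exists (G := G) 65 m hm hcop
  have hK5 : 5 ∣ Nat.card K := by rw [hK]; norm_num
  have hK13 : 13 ∣ Nat.card K := by rw [hK]; norm_num
  obtain ⟨x, hx⟩ := exists_prime_orderOf_dvd_card' 13 hK13
  obtain ⟨y, hy⟩ := exists_prime_orderOf_dvd_card' 5 hK5
  -- the Sylow 13-subgroup of `K` is normal
  have hfac : (Nat.card K).factorization 13 = 1 := by
    rw [hK, show (65 : ℕ) = 5 * 13 by norm_num, Nat.factorization_mul (by norm_num) (by norm_num)]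
    simp [Nat.factorization_eq_zero_of_not_dvd (show ¬ 13 ∣ 5 by norm_num),
      Nat.Prime.factorization_self hp13.out]
  let P : Sylow 13 K := Sylow.ofCard (Subgroup.zpowers x) (by
    rw [Nat.card_zpowers, hx, hfac, pow_one])
  have hn13 : Nat.card (Sylow 13 K) = 1 := by
    have h1 := card_sylow_modEq_one 13 K
    have h2 : Nat.card (Sylow 13 K) ∣ 5 := by
      have h3 := Sylow.card_dvd_index P
      have h4 : (P : Subgroup K).index = 5 := by
        have h5' := (P : Subgroup K).card_mul_index
        have h6 : Nat.card (P : Subgroup K) = 13 := by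
          show Nat.card (Subgroup.zpowers x) = 13
          rw [Nat.card_zpowers, hx]
        rw [h6, hK] at h5'
        omega
      rwa [h4] at h3
    have h5le := Nat.le_of_dvd (by norm_num) h2
    have hpos : 0 < Nat.card (Sylow 13 K) := Nat.card_pos
    unfold Nat.ModEq at h1
    interval_cases (Nat.card (Sylow 13 K)) <;> simp_all
  have hnormal : (Subgroup.zpowers x).Normal := by
    have hsub : Subsingleton (Sylow 13 K) := (Nat.card_eq_one_iff_unique.1 hn13).1
    have : ((P : Subgroup K)).Normal := Sylow.normal_of_subsingleton P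
    exact this
  -- the fixed points
  set fx : V ≃ₗ[ZMod 3] V := ρ (x : G) with hfx
  set fy : V ≃ₗ[ZMod 3] V := ρ (y : G) with hfy
  have hxo : orderOf (x : G) = 13 := by rw [Subgroup.orderOf_coe]; exact hx
  have hyo : orderOf (y : G) = 5 := by rw [Subgroup.orderOf_coe]; exact hy
  have hfx13 : fx ^ 13 = 1 := by
    rw [hfx, ← map_pow, ← hxo, pow_orderOf_eq_one, map_one]
  have hfy5 : fy ^ 5 = 1 := by
    rw [hfy, ← map_pow, ← hyo, pow_orderOf_eq_one, map_one]
  have hfx1 : fx ≠ 1 := by
    intro h
    have : (x : G) = 1 := hρ (by rw [map_one]; exact h)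
    rw [this, orderOf_one] at hxo
    omega
  have hfy1 : fy ≠ 1 := by
    intro h
    have : (y : G) = 1 := hρ (by rw [map_one]; exact h)
    rw [this, orderOf_one] at hyo
    omega
  have hcx : Nat.card (fixSub fx) = 3 := (card_fixSub hV fx hfx1).2 hfx13
  have hcy : Nat.card (fixSub fy) = 1 := (card_fixSub hV fy hfy1).1 hfy5
  -- `y` normalises the group of `x`
  have hconj : y⁻¹ * x * y ∈ Subgroup.zpowers x := by
    have := hnormal.conj_mem x (Subgroup.mem_zpowers x) y⁻¹
    rwa [inv_inv] at this
  obtain ⟨k, hk⟩ := Subgroup.mem_zpowers_iff.1 hconj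
  have hk' : (x : G) ^ k = (y : G)⁻¹ * (x : G) * (y : G) := by
    have := congrArg (Subtype.val : K → G) hk
    simpa using this
  have hfixpow : ∀ v ∈ fixSub fx, ∀ z : ℤ, (ρ ((x : G) ^ z)) v = v := by
    intro v hv z
    have h1 : ∀ n : ℕ, (ρ ((x : G) ^ n)) v = v := by
      intro n
      induction n with
      | zero => rw [pow_zero, map_one]; rfl
      | succ n ih =>
        rw [pow_succ, map_mul]
        show (ρ ((x : G) ^ n)) ((ρ (x : G)) v) = v
        have : (ρ (x : G)) v = v := hv
        rw [this, ih]
    cases z with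
    | ofNat n => simpa using h1 n
    | negSucc n =>
      rw [zpow_negSucc, map_inv]
      have h2 := h1 (n + 1)
      have h3 : (ρ ((x : G) ^ (n + 1)))⁻¹ ((ρ ((x : G) ^ (n + 1))) v) = v :=
        (ρ ((x : G) ^ (n + 1))).symm_apply_apply v
      rw [h2] at h3
      exact h3
  -- `y` maps the fixed points of `x` to themselves
  have hmaps : ∀ v ∈ fixSub fx, fy v ∈ fixSub fx := by
    intro v hv
    rw [mem_fixSub]
    have h1 := hfixpow v hv k
    rw [hk', map_mul, map_mul, map_inv] at h1
    have h2 : (ρ (y : G))⁻¹ ((ρ (x : G)) ((ρ (y : G)) v)) = v := h1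
    have h3 : (ρ (y : G)) ((ρ (y : G))⁻¹ ((ρ (x : G)) ((ρ (y : G)) v))) =
        (ρ (x : G)) ((ρ (y : G)) v) := (ρ (y : G)).apply_symm_apply _
    rw [h2] at h3
    exact h3.symm
  -- the permutation of the fixed points of `x` given by `y`
  have hfinC : Finite (fixSub fx) := inferInstance
  have : Fintype (fixSub fx) := Fintype.ofFinite _
  have hpowmaps : ∀ n : ℕ, ∀ v ∈ fixSub fx, (fy ^ n) v ∈ fixSub fx := by
    intro n
    induction n with
    | zero => intro v hv; exact hv
    | succ n ih =>
      intro v hv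
      rw [pow_succ']
      exact hmaps _ (ih v hv)
  let τ : Function.End (fixSub fx) := fun v => ⟨fy v, hmaps v v.2⟩
  have hτpow : ∀ n : ℕ, ∀ v : fixSub fx, ((τ ^ n) v : V) = (fy ^ n) v := by
    intro n
    induction n with
    | zero => intro v; rfl
    | succ n ih =>
      intro v
      rw [pow_succ', pow_succ']
      show fy ((τ ^ n) v : V) = fy ((fy ^ n) v)
      rw [ih]
  have hτ5 : τ ^ 5 ^ 1 = 1 := by
    rw [pow_one]
    funext v
    apply Subtype.ext
    rw [hτpow, hfy5]
    rfl
  have hmod := Equiv.Perm.card_fixedPoints_modEq (p := 5) (n := 1) hτ5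
  -- the fixed points of `τ` are fixed points of `y`
  have hle : Fintype.card (Function.fixedPoints τ) ≤ 1 := by
    have hinj : Function.Injective
        (fun v : Function.fixedPoints τ => (⟨((v : fixSub fx) : V), by
          have h := v.2
          have h' : τ (v : fixSub fx) = (v : fixSub fx) := h
          have := congrArg (Subtype.val : fixSub fx → V) h'
          exact this⟩ : fixSub fy)) := by
      intro a b hab
      apply Subtype.ext
      apply Subtype.ext
      exact congrArg (Subtype.val : fixSub fy → V) hab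
    have h := Nat.card_le_card_of_injective _ hinj
    rw [hcy, Nat.card_eq_fintype_card] at h
    exact h
  have hc3 : Fintype.card (fixSub fx) = 3 := by
    rw [← Nat.card_eq_fintype_card]
    exact hcx
  rw [hc3] at hmod
  unfold Nat.ModEq at hmod
  have : Fintype.card (Function.fixedPoints τ) = 0 ∨ Fintype.card (Function.fixedPoints τ) = 1 := by
    omega
  rcases this with h | h <;> rw [h] at hmod <;> norm_num at hmod

end Cfsg.Agent.Lib.Helper27_EqOrd_EOE
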