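/-
S4025 package EO-B (helper20's cut, pending/helper20/S4025_packages.lean.txt), by helper29.
Double counting: the number of subgroups of order p^2 of an elementary abelian group of order p^n,
times (p^2-1)(p^2-p), equals (p^n-1)(p^n-p).
-/
import Mathlib

set_option autoImplicit false

namespace Cfsg.Agent.Lib.Helper29_EqOrd_EOB

/-- `|K ⊔ A| = |K| |A|` when `A` normalizes `K` and `K ⊓ A = ⊥`. -/
theorem card_sup_of_disjoint_normalizes {G : Type*} [Group G] [Finite G] (A K : Subgroup G)
    (hAK : A ≤ Subgroup.normalizer (K : Set G)) (hdisj : K ⊓ A = ⊥) :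
    Nat.card ↥(K ⊔ A) = Nat.card K * Nat.card A := by
  have hKn : (K.subgroupOf (K ⊔ A)).Normal :=
    (Subgroup.normal_subgroupOf_iff_le_normalizer le_sup_left).mpr
      (sup_le Subgroup.le_normalizer hAK)
  have hc : Subgroup.IsComplement' (K.subgroupOf (K ⊔ A)) (A.subgroupOf (K ⊔ A)) := by
    apply Subgroup.isComplement'_of_disjoint_and_mul_eq_univ
    · rw [disjoint_iff, eq_bot_iff]
      intro x hx
      rw [Subgroup.mem_inf, Subgroup.mem_subgroupOf, Subgroup.mem_subgroupOf] at hx
      have : (x : G) ∈ K ⊓ A := hx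
      rw [hdisj, Subgroup.mem_bot] at this
      rw [Subgroup.mem_bot]
      exact Subtype.ext this
    · have h1 : K.subgroupOf (K ⊔ A) ⊔ A.subgroupOf (K ⊔ A) = ⊤ := by
        rw [← Subgroup.subgroupOf_sup le_sup_left le_sup_right, Subgroup.subgroupOf_self]
      rw [← Subgroup.normal_mul, h1, Subgroup.coe_top]
  rw [← hc.card_mul_card,
    Nat.card_congr (Subgroup.subgroupOfEquivOfLe (le_sup_left : K ≤ K ⊔ A)).toEquiv,
    Nat.card_congr (Subgroup.subgroupOfEquivOfLe (le_sup_right : A ≤ K ⊔ A)).toEquiv]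

/-- two independent elements of order `p` that commute generate a subgroup of order `p ^ 2` -/
theorem card_zpowers_sup_zpowers {X : Type*} [Group X] [Finite X] {p : ℕ} [Fact p.Prime]
    {u v : X} (hcomm : u * v = v * u) (hu : u ^ p = 1) (hv : v ^ p = 1) (hu1 : u ≠ 1)
    (hvu : v ∉ Subgroup.zpowers u) :
    Nat.card ↥(Subgroup.zpowers u ⊔ Subgroup.zpowers v) = p ^ 2 := by
  have hp : p.Prime := Fact.out
  have hv1 : v ≠ 1 := fun h => hvu (h ▸ one_mem _)
  have hou : Nat.card (Subgroup.zpowers u) = p := by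
    rw [Nat.card_zpowers]; exact orderOf_eq_prime hu hu1
  have hov : Nat.card (Subgroup.zpowers v) = p := by
    rw [Nat.card_zpowers]; exact orderOf_eq_prime hv hv1
  have hdisj : Subgroup.zpowers u ⊓ Subgroup.zpowers v = ⊥ := by
    have hdvd : Nat.card ↥(Subgroup.zpowers u ⊓ Subgroup.zpowers v) ∣ p := by
      rw [← hov]; exact Subgroup.card_dvd_of_le inf_le_right
    rcases (Nat.dvd_prime hp).mp hdvd with h1 | h1
    · exact Subgroup.eq_bot_of_card_eq _ h1
    · exfalso
      have heq : Subgroup.zpowers u ⊓ Subgroup.zpowers v = Subgroup.zpowers v :=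
        Subgroup.eq_of_le_of_card_ge inf_le_right (by rw [h1, hov])
      have : Subgroup.zpowers v ≤ Subgroup.zpowers u := by
        rw [← heq]; exact inf_le_left
      exact hvu (this (Subgroup.mem_zpowers v))
  have hnorm : Subgroup.zpowers v ≤ Subgroup.normalizer (Subgroup.zpowers u : Set X) := by
    rw [Subgroup.zpowers_le]
    have hfix : ∀ h ∈ Subgroup.zpowers u, v * h * v⁻¹ = h := by
      intro h hh
      obtain ⟨k, rfl⟩ := Subgroup.mem_zpowers_iff.mp hh
      have hc : Commute v (u ^ k) := (show Commute v u from hcomm.symm).zpow_right k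
      rw [hc.eq, mul_inv_cancel_right]
    rw [Subgroup.mem_normalizer_iff]
    intro h
    constructor
    · intro hh; rw [hfix h hh]; exact hh
    · intro hh
      have h3 := hfix _ hh
      have h5 : v * h * v⁻¹ = h := by
        have h6 : v * (v * h * v⁻¹) = (v * h * v⁻¹) * v := by
          calc v * (v * h * v⁻¹) = (v * (v * h * v⁻¹) * v⁻¹) * v := by group
            _ = (v * h * v⁻¹) * v := by rw [h3]
        calc v * h * v⁻¹ = v⁻¹ * (v * (v * h * v⁻¹)) := by group
          _ = v⁻¹ * ((v * h * v⁻¹) * v) := by rw [h6]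
          _ = h := by group
      rw [← h5]; exact hh
  rw [card_sup_of_disjoint_normalizes _ _ hnorm hdisj, hou, hov, sq]

/-- EO-B: the number of subgroups of order `p ^ 2` of an elementary abelian group of order `p ^ n` -/
theorem EOB {X : Type*} [Group X] [Finite X] {p n : ℕ} [Fact p.Prime] (V : Subgroup X)
    (hVcomm : ∀ a ∈ V, ∀ b ∈ V, a * b = b * a) (hVexp : ∀ a ∈ V, a ^ p = 1)
    (hVcard : Nat.card V = p ^ n) :
    Nat.card {W : Subgroup X // W ≤ V ∧ Nat.card W = p ^ 2} * ((p ^ 2 - 1) * (p ^ 2 - p)) =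
      (p ^ n - 1) * (p ^ n - p) := by
  classical
  have hp : p.Prime := Fact.out
  cases nonempty_fintype X
  have : Fintype (Subgroup X) := Fintype.ofFinite _
  -- the finset of elements of a subgroup
  let E : Subgroup X → Finset X := fun W => Finset.univ.filter (fun x => x ∈ W)
  have hE : ∀ W : Subgroup X, (E W).card = Nat.card W := by
    intro W
    rw [Nat.card_eq_fintype_card, Fintype.card_subtype]
  -- the pairs
  let T : Subgroup X → Finset (X × X) := fun W =>
    Finset.univ.filter (fun t : X × X => t.1 ∈ W ∧ t.2 ∈ W ∧ t.1 ≠ 1 ∧ t.2 ∉ Subgroup.zpowers t.1)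
  have hT : ∀ (W : Subgroup X) (t : X × X), t ∈ T W ↔
      t.1 ∈ W ∧ t.2 ∈ W ∧ t.1 ≠ 1 ∧ t.2 ∉ Subgroup.zpowers t.1 := by
    intro W t; simp [T]
  -- the count of pairs
  have hcount : ∀ (W : Subgroup X) (m : ℕ), (∀ a ∈ W, a ^ p = 1) → Nat.card W = p ^ m →
      (T W).card = (p ^ m - 1) * (p ^ m - p) := by
    intro W m hexp hcard
    let A : Finset X := (E W).erase 1
    have hA : A.card = p ^ m - 1 := by
      rw [Finset.card_erase_of_mem (by simp [E, one_mem]), hE, hcard]
    have hmaps : ∀ t ∈ T W, t.1 ∈ A := by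
      intro t ht
      rw [hT] at ht
      simp only [A, E, Finset.mem_erase, Finset.mem_filter, Finset.mem_univ, true_and]
      exact ⟨ht.2.2.1, ht.1⟩
    rw [Finset.card_eq_sum_card_fiberwise hmaps]
    have hfib : ∀ u ∈ A, ((T W).filter (fun t => t.1 = u)).card = p ^ m - p := by
      intro u hu
      simp only [A, E, Finset.mem_erase, Finset.mem_filter, Finset.mem_univ, true_and] at hu
      obtain ⟨hu1, huW⟩ := hu
      have hzle : Subgroup.zpowers u ≤ W := (Subgroup.zpowers_le).mpr huW
      have hsub : E (Subgroup.zpowers u) ⊆ E W := by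
        intro x hx
        simp only [E, Finset.mem_filter, Finset.mem_univ, true_and] at hx ⊢
        exact hzle hx
      have heq : (T W).filter (fun t => t.1 = u) =
          ((E W) \ (E (Subgroup.zpowers u))).image (fun v => (u, v)) := by
        ext t
        simp only [Finset.mem_filter, hT, Finset.mem_image, Finset.mem_sdiff, E, Finset.mem_univ,
          true_and]
        constructor
        · rintro ⟨⟨h1, h2, h3, h4⟩, h5⟩
          refine ⟨t.2, ⟨h2, ?_⟩, ?_⟩
          · rw [← h5]; exact h4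
          · rw [← h5]
        · rintro ⟨v, ⟨h1, h2⟩, rfl⟩
          exact ⟨⟨huW, h1, hu1, h2⟩, rfl⟩
      rw [heq, Finset.card_image_of_injective _ (fun a b h => (Prod.mk.inj h).2),
        Finset.card_sdiff_of_subset hsub, hE, hE, hcard, Nat.card_zpowers,
        orderOf_eq_prime (hexp u huW) hu1]
    rw [Finset.sum_congr rfl hfib, Finset.sum_const, hA, smul_eq_mul]
  -- the set of subgroups
  let S : Finset (Subgroup X) := Finset.univ.filter (fun W => W ≤ V ∧ Nat.card W = p ^ 2)
  have hS : Nat.card {W : Subgroup X // W ≤ V ∧ Nat.card W = p ^ 2} = S.card := by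
    rw [Nat.card_eq_fintype_card, Fintype.card_subtype]
  let f : X × X → Subgroup X := fun t => Subgroup.zpowers t.1 ⊔ Subgroup.zpowers t.2
  have hgen : ∀ (W : Subgroup X), W ≤ V → ∀ t ∈ T W, f t ≤ W ∧ Nat.card (f t) = p ^ 2 := by
    intro W hWV t ht
    rw [hT] at ht
    obtain ⟨h1, h2, h3, h4⟩ := ht
    refine ⟨sup_le ((Subgroup.zpowers_le).mpr h1) ((Subgroup.zpowers_le).mpr h2), ?_⟩
    exact card_zpowers_sup_zpowers (hVcomm _ (hWV h1) _ (hWV h2)) (hVexp _ (hWV h1))
      (hVexp _ (hWV h2)) h3 h4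
  have hmaps : ∀ t ∈ T V, f t ∈ S := by
    intro t ht
    have := hgen V le_rfl t ht
    simp only [S, Finset.mem_filter, Finset.mem_univ, true_and]
    exact this
  have hfib : ∀ W ∈ S, ((T V).filter (fun t => f t = W)).card = (p ^ 2 - 1) * (p ^ 2 - p) := by
    intro W hW
    simp only [S, Finset.mem_filter, Finset.mem_univ, true_and] at hW
    obtain ⟨hWV, hWc⟩ := hW
    have heq : (T V).filter (fun t => f t = W) = T W := by
      ext t
      rw [Finset.mem_filter]
      constructor
      · rintro ⟨ht, hft⟩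
        rw [hT] at ht ⊢
        refine ⟨?_, ?_, ht.2.2.1, ht.2.2.2⟩
        · rw [← hft]; exact (le_sup_left : Subgroup.zpowers t.1 ≤ f t) (Subgroup.mem_zpowers _)
        · rw [← hft]; exact (le_sup_right : Subgroup.zpowers t.2 ≤ f t) (Subgroup.mem_zpowers _)
      · intro ht
        have h1 := hgen W hWV t ht
        refine ⟨?_, Subgroup.eq_of_le_of_card_ge h1.1 (by rw [h1.2, hWc])⟩
        rw [hT] at ht ⊢
        exact ⟨hWV ht.1, hWV ht.2.1, ht.2.2.1, ht.2.2.2⟩
    rw [heq]
    exact hcount W 2 (fun a ha => hVexp a (hWV ha)) hWc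
  have h1 := hcount V n hVexp hVcard
  rw [Finset.card_eq_sum_card_fiberwise hmaps, Finset.sum_congr rfl hfib, Finset.sum_const,
    smul_eq_mul] at h1
  rw [hS, h1]

end Cfsg.Agent.Lib.Helper29_EqOrd_EOB
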