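/-
S4025 package EO-C (helper20's cut, pending/helper20/S4025_packages.lean.txt), by helper29.
EOC1: a field with p^n elements has exactly n ring automorphisms.
EOC2/EOC3: order bounds for semiaffineGroup / affineGroup of a finite field.
EOC4: ring isomorphisms transport semiaffineGroup / affineGroup.
-/
import Mathlib
import Cfsg.Prelude.Def_Perm

set_option autoImplicit false

namespace Cfsg.Agent.Lib.Helper29_EqOrd_EOC

/-- EO-C1: a field with `p ^ n` elements has exactly `n` ring automorphisms -/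
theorem EOC1 {F : Type*} [Field F] [Fintype F] {p n : ℕ} [Fact p.Prime] (hF : Fintype.card F = p ^ n) :
    Nat.card (F ≃+* F) = n := by
  classical
  have hp : p.Prime := Fact.out
  -- characteristic
  obtain ⟨q, hq⟩ := CharP.exists F
  have : CharP F q := hq
  have hqp : q = p := by
    obtain ⟨m, hqprime, hm⟩ := FiniteField.card F q
    rw [hF] at hm
    have h1 : q ∣ p ^ n := by rw [hm]; exact dvd_pow_self q m.ne_zero
    exact ((Nat.prime_dvd_prime_iff_eq hqprime hp).mp (hqprime.dvd_of_dvd_pow h1))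
  subst hqp
  let _ : Algebra (ZMod q) F := ZMod.algebra F q
  have hfr : Module.finrank (ZMod q) F = n := by
    have h1 := Module.card_eq_pow_finrank (K := ZMod q) (V := F)
    rw [hF, ZMod.card] at h1
    exact (Nat.pow_right_injective hp.two_le h1).symm
  have h2 : Nat.card (F ≃ₐ[ZMod q] F) = n := by
    rw [IsGalois.card_aut_eq_finrank, hfr]
  rw [← h2]
  refine Nat.card_congr ?_
  refine ⟨fun f => AlgEquiv.ofRingEquiv (f := f) ?_, fun f => f.toRingEquiv, ?_, ?_⟩
  · intro x
    obtain ⟨k, rfl⟩ := ZMod.natCast_zmod_surjective x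
    simp
  · intro f; ext x; rfl
  · intro f; ext x; rfl

/-- EO-C2: upper bound for the order of the semiaffine group of a finite field -/
theorem EOC2 {F : Type*} [Field F] [Fintype F] {p n : ℕ} [Fact p.Prime] (hF : Fintype.card F = p ^ n) :
    Nat.card (Cfsg.semiaffineGroup F) ≤ p ^ n * (p ^ n - 1) * n := by
  classical
  have hfin : Finite (F ≃+* F) := Finite.of_injective (fun f : F ≃+* F => (f : F → F))
    (fun f g h => RingEquiv.ext (fun x => congrFun h x))
  have hmem : ∀ σ : Cfsg.semiaffineGroup F, ∃ t : F × Fˣ × (F ≃+* F),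
      ∀ x, (σ : Equiv.Perm F) x = (t.2.1 : F) * t.2.2 x + t.1 := by
    rintro ⟨σ, a, b, φ, h⟩
    exact ⟨(b, a, φ), h⟩
  choose f hf using hmem
  have hinj : Function.Injective f := by
    intro σ τ h
    apply Subtype.ext
    apply Equiv.ext
    intro x
    rw [hf σ x, hf τ x, h]
  calc Nat.card (Cfsg.semiaffineGroup F) ≤ Nat.card (F × Fˣ × (F ≃+* F)) :=
        Nat.card_le_card_of_injective f hinj
    _ = p ^ n * (p ^ n - 1) * n := by
        rw [Nat.card_prod, Nat.card_prod, Nat.card_units, EOC1 hF, Nat.card_eq_fintype_card, hF,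
          mul_assoc]

/-- EO-C3: upper bound for the order of the affine group of a finite field -/
theorem EOC3 {F : Type*} [Field F] [Fintype F] :
    Nat.card (Cfsg.affineGroup F) ≤ Fintype.card F * (Fintype.card F - 1) := by
  classical
  have hmem : ∀ σ : Cfsg.affineGroup F, ∃ t : F × Fˣ,
      ∀ x, (σ : Equiv.Perm F) x = (t.2 : F) * x + t.1 := by
    rintro ⟨σ, a, b, h⟩
    exact ⟨(b, a), h⟩
  choose f hf using hmem
  have hinj : Function.Injective f := by
    intro σ τ h
    apply Subtype.ext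
    apply Equiv.ext
    intro x
    rw [hf σ x, hf τ x, h]
  calc Nat.card (Cfsg.affineGroup F) ≤ Nat.card (F × Fˣ) :=
        Nat.card_le_card_of_injective f hinj
    _ = Fintype.card F * (Fintype.card F - 1) := by
        rw [Nat.card_prod, Nat.card_units, Nat.card_eq_fintype_card]

theorem permCongr_mem_semiaffine {R S : Type*} [Ring R] [Ring S] (φ : R ≃+* S)
    {σ : Equiv.Perm R} (hσ : σ ∈ Cfsg.semiaffineGroup R) :
    φ.toEquiv.permCongrHom σ ∈ Cfsg.semiaffineGroup S := by
  obtain ⟨a, b, ψ, h⟩ := hσ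
  refine ⟨Units.map (φ : R →* S) a, φ b, φ.symm.trans (ψ.trans φ), fun y => ?_⟩
  simp [Equiv.permCongrHom, Equiv.permCongr_apply, h]

theorem permCongr_mem_affine {R S : Type*} [Ring R] [Ring S] (φ : R ≃+* S)
    {σ : Equiv.Perm R} (hσ : σ ∈ Cfsg.affineGroup R) :
    φ.toEquiv.permCongrHom σ ∈ Cfsg.affineGroup S := by
  obtain ⟨a, b, h⟩ := hσ
  refine ⟨Units.map (φ : R →* S) a, φ b, fun y => ?_⟩
  simp [Equiv.permCongrHom, Equiv.permCongr_apply, h]

/-- EO-C4: ring isomorphisms transport the semiaffine and the affine group -/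
theorem EOC4 {R S : Type*} [Ring R] [Ring S] (φ : R ≃+* S) :
    Nonempty (Cfsg.semiaffineGroup R ≃* Cfsg.semiaffineGroup S) ∧
      Nonempty (Cfsg.affineGroup R ≃* Cfsg.affineGroup S) := by
  have key : ∀ (A : Subgroup (Equiv.Perm R)) (B : Subgroup (Equiv.Perm S)),
      (∀ σ ∈ A, φ.toEquiv.permCongrHom σ ∈ B) →
      (∀ τ ∈ B, φ.symm.toEquiv.permCongrHom τ ∈ A) → Nonempty (A ≃* B) := by
    intro A B h1 h2
    have hmap : A.map (φ.toEquiv.permCongrHom : Equiv.Perm R →* Equiv.Perm S) = B := by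
      ext τ
      constructor
      · rintro ⟨σ, hσ, rfl⟩
        exact h1 σ hσ
      · intro hτ
        refine ⟨φ.symm.toEquiv.permCongrHom τ, h2 τ hτ, ?_⟩
        ext y
        simp [Equiv.permCongrHom, Equiv.permCongr_apply]
    exact ⟨(φ.toEquiv.permCongrHom.subgroupMap A).trans (MulEquiv.subgroupCongr hmap)⟩
  exact ⟨key _ _ (fun σ hσ => permCongr_mem_semiaffine φ hσ)
      (fun τ hτ => permCongr_mem_semiaffine φ.symm hτ),
    key _ _ (fun σ hσ => permCongr_mem_affine φ hσ)
      (fun τ hτ => permCongr_mem_affine φ.symm hτ)⟩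

end Cfsg.Agent.Lib.Helper29_EqOrd_EOC
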