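import Mathlib
import Cfsg.Agent.Lib.Helper12_Hup1
import Cfsg.Agent.Lib.Helper12_Hup4

/-!
# Huppert's theorem, the plane case (package S3360-M3 of helper12) — helper31

A solvable subgroup `H` of `GL(V)`, `V` of dimension 2 over `𝔽_p`, `p` odd, transitive on the non-zero
vectors, either has an irreducible cyclic normal subgroup or `(p + 1) ∣ 24`.
-/

set_option autoImplicit false
set_option linter.unusedSectionVars false
set_option linter.unusedSimpArgs false
set_option linter.style.haveILetI false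

namespace Cfsg.Agent.Lib.Helper31_HupPlane

open Module Cfsg.Agent.Lib.Helper12_Hup1 Cfsg.Agent.Lib.Helper12_Hup4

section Core

variable {G : Type*} [Group G]

theorem relIndex_dvd_two (S K : Subgroup G)
    (h : ∀ x ∈ K, ∀ y ∈ K, x ∉ S → y ∉ S → x⁻¹ * y ∈ S) : S.relIndex K ∣ 2 := by
  by_cases hKS : K ≤ S
  · rw [Subgroup.relIndex_eq_one.2 hKS]; exact one_dvd _
  · obtain ⟨a, haK, haS⟩ := SetLike.not_le_iff_exists.1 hKS
    have h2 : S.relIndex K = 2 := by
      rw [Subgroup.relIndex, Subgroup.index_eq_two_iff]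
      refine ⟨⟨a, haK⟩, fun b => ?_⟩
      by_cases hb : (b : G) ∈ S
      · refine Or.inr ⟨Subgroup.mem_subgroupOf.2 hb, fun hba => haS ?_⟩
        have hba' : (b : G) * a ∈ S := Subgroup.mem_subgroupOf.1 hba
        exact (Subgroup.mul_mem_cancel_left S hb).1 hba'
      · refine Or.inl ⟨Subgroup.mem_subgroupOf.2 ?_, fun hb' => hb (Subgroup.mem_subgroupOf.1 hb')⟩
        have h3 := h (b : G)⁻¹ (K.inv_mem b.2) a haK (fun hh => hb ((S.inv_mem_iff).1 hh)) haS
        rwa [inv_inv] at h3
    rw [h2]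

theorem comm_of_conj_eq {h h' x y : G} (h1 : h * x * h⁻¹ = y) (h2 : h' * x * h'⁻¹ = y) :
    (h⁻¹ * h') * x = x * (h⁻¹ * h') := by
  have e2 : h' * x = y * h' := by rw [← h2]; group
  have e3 : x * h⁻¹ = h⁻¹ * y := by rw [← h1]; group
  calc h⁻¹ * h' * x = h⁻¹ * (h' * x) := by group
    _ = h⁻¹ * (y * h') := by rw [e2]
    _ = (h⁻¹ * y) * h' := by group
    _ = x * h⁻¹ * h' := by rw [e3]
    _ = x * (h⁻¹ * h') := by group

open Classical in
/-- the commutation type of `h` with respect to `b`, `c` -/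
noncomputable def ty (b c h : G) : Bool × Bool :=
  (decide (h * b = b * h), decide (h * c = c * h))

/-- representatives of the four types -/
def rep (b c : G) : Bool × Bool → G
  | (true, true) => 1
  | (true, false) => b
  | (false, true) => c
  | (false, false) => b * c

theorem ty_fst_iff (b c h : G) : (ty b c h).1 = true ↔ h * b = b * h := by
  unfold ty; simp

theorem ty_snd_iff (b c h : G) : (ty b c h).2 = true ↔ h * c = c * h := by
  unfold ty; simp

theorem card_dvd_core [Finite G] (Z D : Subgroup G) (b c m : G)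
    (hZc : ∀ z ∈ Z, ∀ h : G, z * h = h * z)
    (hDn : D.Normal) (hb : b ∈ D) (hc : c ∈ D)
    (hsign : ∀ z ∈ Z, ∀ h x : G, h * x * h⁻¹ = z * x → z = 1 ∨ z = m)
    (hDD : ∀ d ∈ D, ∀ e ∈ D, d * e * d⁻¹ * e⁻¹ ∈ Z)
    (hcent : ∀ h : G, h * b = b * h → h * c = c * h → h ∈ Z)
    (hbc : b * c ≠ c * b) :
    Nat.card G ∣ 24 * Nat.card Z := by
  classical
  -- `m ≠ 1`
  have hm1 : m ≠ 1 := by
    intro hm
    have e : b * c * b⁻¹ = (b * c * b⁻¹ * c⁻¹) * c := by group
    have h1 : b * c * b⁻¹ * c⁻¹ = 1 := by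
      rcases hsign _ (hDD b hb c hc) b c e with h1 | h1
      · exact h1
      · rw [h1, hm]
    apply hbc
    have h2 : b * c = (b * c * b⁻¹ * c⁻¹) * (c * b) := by group
    rw [h2, h1, one_mul]
  -- conjugates of elements of `D` under elements normalising up to `Z`
  have P0 : ∀ h x : G, h * x * h⁻¹ * x⁻¹ ∈ Z → h * x * h⁻¹ = x ∨ h * x * h⁻¹ = m * x := by
    intro h x hz
    have e : h * x * h⁻¹ = (h * x * h⁻¹ * x⁻¹) * x := by group
    rcases hsign _ hz h x e with h1 | h1
    · left
      calc h * x * h⁻¹ = (h * x * h⁻¹ * x⁻¹) * x := e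
        _ = x := by rw [h1, one_mul]
    · right
      calc h * x * h⁻¹ = (h * x * h⁻¹ * x⁻¹) * x := e
        _ = m * x := by rw [h1]
  have P1 : ∀ d ∈ D, ∀ x ∈ D, d * x * d⁻¹ = x ∨ d * x * d⁻¹ = m * x :=
    fun d hd x hx => P0 d x (hDD d hd x hx)
  have hconj_iff : ∀ h x : G, h * x * h⁻¹ = x ↔ h * x = x * h := fun h x => mul_inv_eq_iff_eq_mul
  have hnot : ∀ h x : G, h * x * h⁻¹ = m * x → ¬ (h * x = x * h) := by
    intro h x h1 h2
    rw [(hconj_iff h x).2 h2] at h1
    apply hm1
    have h3 : m * x = 1 * x := by rw [one_mul]; exact h1.symm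
    exact mul_right_cancel h3
  -- same type ⇒ differ by an element of `Z`
  have Pkey : ∀ x ∈ D, ∀ d ∈ D, ∀ d' ∈ D, (d * x = x * d ↔ d' * x = x * d') →
      (d⁻¹ * d') * x = x * (d⁻¹ * d') := by
    intro x hx d hd d' hd' hiff
    rcases P1 d hd x hx with h1 | h1 <;> rcases P1 d' hd' x hx with h2 | h2
    · exact comm_of_conj_eq h1 h2
    · exact absurd (hiff.1 ((hconj_iff d x).1 h1)) (hnot d' x h2)
    · exact absurd (hiff.2 ((hconj_iff d' x).1 h2)) (hnot d x h1)
    · exact comm_of_conj_eq h1 h2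
  have P3 : ∀ d ∈ D, ∀ d' ∈ D, ty b c d = ty b c d' → d⁻¹ * d' ∈ Z := by
    intro d hd d' hd' hty
    apply hcent
    · apply Pkey b hb d hd d' hd'
      rw [← ty_fst_iff b c d, ← ty_fst_iff b c d', hty]
    · apply Pkey c hc d hd d' hd'
      rw [← ty_snd_iff b c d, ← ty_snd_iff b c d', hty]
  have P4 : ∀ z ∈ Z, ∀ d : G, ty b c (z * d) = ty b c d := by
    intro z hz d
    have h1 : ∀ x : G, z * d * x = x * (z * d) ↔ d * x = x * d := by
      intro x
      rw [← mul_assoc x z d, ← hZc z hz x, mul_assoc, mul_assoc, mul_left_cancel_iff]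
    apply Prod.ext
    · rw [Bool.eq_iff_iff, ty_fst_iff, ty_fst_iff, h1]
    · rw [Bool.eq_iff_iff, ty_snd_iff, ty_snd_iff, h1]
  have rep_mem : ∀ t, rep b c t ∈ D := by
    rintro ⟨_ | _, _ | _⟩
    · exact D.mul_mem hb hc
    · exact hc
    · exact hb
    · exact D.one_mem
  have ty_rep : ∀ t, ty b c (rep b c t) = t := by
    rintro ⟨_ | _, _ | _⟩
    · apply Prod.ext
      · rw [Bool.eq_false_iff, Ne, ty_fst_iff]
        show ¬ (b * c * b = b * (b * c))
        rw [mul_assoc, mul_left_cancel_iff]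
        exact fun h => hbc h.symm
      · rw [Bool.eq_false_iff, Ne, ty_snd_iff]
        show ¬ (b * c * c = c * (b * c))
        rw [← mul_assoc, mul_right_cancel_iff]
        exact hbc
    · apply Prod.ext
      · rw [Bool.eq_false_iff, Ne, ty_fst_iff]
        exact fun h => hbc h.symm
      · rw [ty_snd_iff]; rfl
    · apply Prod.ext
      · rw [ty_fst_iff]; rfl
      · rw [Bool.eq_false_iff, Ne, ty_snd_iff]
        exact hbc
    · apply Prod.ext
      · rw [ty_fst_iff]; show 1 * b = b * 1; rw [one_mul, mul_one]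
      · rw [ty_snd_iff]; show 1 * c = c * 1; rw [one_mul, mul_one]
  -- the action on types
  let act : G → Bool × Bool → Bool × Bool := fun h t => ty b c (h * rep b c t * h⁻¹)
  have act_one : ∀ t, act 1 t = t := by
    intro t
    show ty b c (1 * rep b c t * 1⁻¹) = t
    rw [one_mul, inv_one, mul_one, ty_rep]
  have act_mul : ∀ h h' t, act (h * h') t = act h (act h' t) := by
    intro h h' t
    have he : h' * rep b c t * h'⁻¹ ∈ D := hDn.conj_mem _ (rep_mem t) h'
    have hz : (rep b c (act h' t))⁻¹ * (h' * rep b c t * h'⁻¹) ∈ Z :=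
      P3 _ (rep_mem _) _ he (ty_rep _)
    obtain ⟨z, hzZ, hzeq⟩ : ∃ z ∈ Z, h' * rep b c t * h'⁻¹ = z * rep b c (act h' t) := by
      refine ⟨_, hz, ?_⟩
      rw [hZc _ hz]
      group
    have e1 : h * h' * rep b c t * (h * h')⁻¹ = z * (h * rep b c (act h' t) * h⁻¹) := by
      calc h * h' * rep b c t * (h * h')⁻¹ = h * (h' * rep b c t * h'⁻¹) * h⁻¹ := by group
        _ = (h * z) * rep b c (act h' t) * h⁻¹ := by rw [hzeq, mul_assoc h z]
        _ = (z * h) * rep b c (act h' t) * h⁻¹ := by rw [hZc z hzZ h]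
        _ = z * (h * rep b c (act h' t) * h⁻¹) := by simp only [mul_assoc]
    show ty b c (h * h' * rep b c t * (h * h')⁻¹) = ty b c (h * rep b c (act h' t) * h⁻¹)
    rw [e1, P4 _ hzZ]
  have act_ne : ∀ h t, t ≠ (true, true) → act h t ≠ (true, true) := by
    intro h t ht hcon
    apply ht
    have h1 : h * rep b c t * h⁻¹ ∈ Z := by
      apply hcent
      · rw [← ty_fst_iff b c]; show (act h t).1 = true; rw [hcon]
      · rw [← ty_snd_iff b c]; show (act h t).2 = true; rw [hcon]
    have h2 : rep b c t ∈ Z := by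
      have e : h * rep b c t * h⁻¹ * h = h * (h * rep b c t * h⁻¹) := hZc _ h1 h
      have e' : rep b c t = h * rep b c t * h⁻¹ := by
        apply mul_left_cancel (a := h)
        rw [← e]
        group
      rw [e']
      exact h1
    rw [← ty_rep t]
    apply Prod.ext
    · rw [ty_fst_iff]; exact hZc _ h2 b
    · rw [ty_snd_iff]; exact hZc _ h2 c
  let T3 := {t : Bool × Bool // t ≠ (true, true)}
  let φ₀ : G →* Function.End T3 :=
    { toFun := fun h t => ⟨act h t.1, act_ne h t.1 t.2⟩
      map_one' := by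
        funext t
        exact Subtype.ext (act_one t.1)
      map_mul' := by
        intro h h'
        funext t
        exact Subtype.ext (act_mul h h' t.1) }
  let φ : G →* Equiv.Perm T3 := φ₀.toHomPerm
  have hφ : ∀ h (t : T3), ((φ h) t).1 = act h t.1 := fun h t => rfl
  have hK6 : φ.ker.index ∣ 6 := by
    rw [Subgroup.index_ker]
    have h1 : Nat.card φ.range ∣ Nat.card (Equiv.Perm T3) := Subgroup.card_subgroup_dvd_card _
    have h2 : Nat.card (Equiv.Perm T3) = 6 := by
      rw [Nat.card_perm]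
      have : Nat.card T3 = 3 := by
        rw [Nat.card_eq_fintype_card]
        rfl
      rw [this]
      rfl
    rwa [h2] at h1
  -- elements of the kernel fix `b`, `c` up to the sign `m`
  have hKx : ∀ k ∈ φ.ker, ∀ t : T3, k * rep b c t.1 * k⁻¹ = rep b c t.1 ∨
      k * rep b c t.1 * k⁻¹ = m * rep b c t.1 := by
    intro k hk t
    have h1 : φ k = 1 := hk
    have h2 : act k t.1 = t.1 := by rw [← hφ k t, h1]; rfl
    have h3 : ty b c (rep b c t.1) = ty b c (k * rep b c t.1 * k⁻¹) := by
      rw [ty_rep]; exact h2.symm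
    have hz := P3 _ (rep_mem t.1) _ (hDn.conj_mem _ (rep_mem t.1) k) h3
    have e : k * rep b c t.1 * k⁻¹ = ((rep b c t.1)⁻¹ * (k * rep b c t.1 * k⁻¹)) * rep b c t.1 := by
      rw [hZc _ hz]
      group
    rcases hsign _ hz k _ e with h4 | h4
    · left; rw [e, h4, one_mul]
    · right; rw [e, h4]
  have hKb : ∀ k ∈ φ.ker, k * b * k⁻¹ = b ∨ k * b * k⁻¹ = m * b := fun k hk =>
    hKx k hk ⟨(true, false), by decide⟩
  have hKc : ∀ k ∈ φ.ker, k * c * k⁻¹ = c ∨ k * c * k⁻¹ = m * c := fun k hk =>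
    hKx k hk ⟨(false, true), by decide⟩
  have hmemC : ∀ (x k : G), k ∈ Subgroup.centralizer {x} ↔ k * x = x * k := by
    intro x k
    rw [Subgroup.mem_centralizer_iff]
    constructor
    · intro h; exact (h x rfl).symm
    · rintro h y rfl; exact h.symm
  have hstep : ∀ (x : G) (L : Subgroup G), (∀ k ∈ L, k * x * k⁻¹ = x ∨ k * x * k⁻¹ = m * x) →
      (L ⊓ Subgroup.centralizer {x}).relIndex L ∣ 2 := by
    intro x L hL
    apply relIndex_dvd_two
    intro k hk k' hk' hkn hkn'
    have h1 : k * x * k⁻¹ = m * x := by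
      rcases hL k hk with h | h
      · exact absurd ⟨hk, (hmemC x k).2 ((hconj_iff k x).1 h)⟩ hkn
      · exact h
    have h2 : k' * x * k'⁻¹ = m * x := by
      rcases hL k' hk' with h | h
      · exact absurd ⟨hk', (hmemC x k').2 ((hconj_iff k' x).1 h)⟩ hkn'
      · exact h
    exact ⟨L.mul_mem (L.inv_mem hk) hk', (hmemC x _).2 (comm_of_conj_eq h1 h2)⟩
  let K := φ.ker
  let K₂ := K ⊓ Subgroup.centralizer {b}
  let Z' := K₂ ⊓ Subgroup.centralizer {c}
  have i1 : K₂.relIndex K ∣ 2 := hstep b K hKb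
  have i2 : Z'.relIndex K₂ ∣ 2 := hstep c K₂ (fun k hk => hKc k hk.1)
  have hZ'Z : Z' ≤ Z := by
    intro k hk
    exact hcent k ((hmemC b k).1 hk.1.2) ((hmemC c k).1 hk.2)
  have i3 : Z'.index ∣ 24 := by
    rw [← Subgroup.relIndex_mul_index (inf_le_left : Z' ≤ K₂),
      ← Subgroup.relIndex_mul_index (inf_le_left : K₂ ≤ K)]
    exact mul_dvd_mul i2 (mul_dvd_mul i1 hK6)
  rw [← Subgroup.card_mul_index Z', mul_comm]
  exact mul_dvd_mul i3 (Subgroup.card_dvd_of_le hZ'Z)

end Core

universe u

variable {p : ℕ} [Fact p.Prime] {V : Type u} [AddCommGroup V] [Module (ZMod p) V]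
variable (H : Subgroup (V ≃ₗ[ZMod p] V))

/-- `f` is a scalar endomorphism -/
def IsScal (f : Module.End (ZMod p) V) : Prop := ∃ α : ZMod p, f = α • (1 : Module.End (ZMod p) V)

theorem isScal_iff_mem_bot (f : Module.End (ZMod p) V) :
    IsScal f ↔ f ∈ (⊥ : Subalgebra (ZMod p) (Module.End (ZMod p) V)) := by
  rw [Algebra.mem_bot]
  constructor
  · rintro ⟨α, rfl⟩
    exact ⟨α, by rw [Algebra.algebraMap_eq_smul_one]⟩
  · rintro ⟨α, rfl⟩
    exact ⟨α, by rw [Algebra.algebraMap_eq_smul_one]⟩

theorem IsScal.commute {f : Module.End (ZMod p) V} (hf : IsScal f) (g : Module.End (ZMod p) V) :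
    f * g = g * f := by
  obtain ⟨α, rfl⟩ := hf
  rw [smul_mul_assoc, one_mul, mul_smul_comm, mul_one]

theorem isScal_inv {f g : Module.End (ZMod p) V} (hf : IsScal f) (hfg : f * g = 1) : IsScal g := by
  obtain ⟨α, rfl⟩ := hf
  rw [smul_mul_assoc, one_mul] at hfg
  refine ⟨α⁻¹, ?_⟩
  by_cases hα : α = 0
  · rw [hα, zero_smul] at hfg
    rw [hα, inv_zero, zero_smul, ← mul_one g, ← hfg, mul_zero]
  · rw [← hfg, smul_smul, inv_mul_cancel₀ hα, one_smul]

/-- the subgroup of the scalar elements of `H` -/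
def scal : Subgroup H where
  carrier := {h | IsScal (toEnd H h)}
  one_mem' := ⟨1, by rw [map_one, one_smul]⟩
  mul_mem' := by
    rintro a b ⟨α, ha⟩ ⟨β, hb⟩
    exact ⟨α * β, by rw [map_mul, ha, hb, smul_mul_smul_comm, mul_one]⟩
  inv_mem' := by
    intro a ha
    apply isScal_inv ha
    rw [← map_mul, mul_inv_cancel, map_one]

theorem mem_scal {h : H} : h ∈ scal H ↔ IsScal (toEnd H h) := Iff.rfl

theorem scal_central (z : H) (hz : z ∈ scal H) (h : H) : z * h = h * z := by
  apply toEnd_injective H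
  rw [map_mul, map_mul]
  exact IsScal.commute hz _

/-- the determinant as a homomorphism on `H` -/
noncomputable def detH : H →* ZMod p := LinearMap.det.comp (toEnd H)

theorem detH_mul_inv (h : H) : detH H h * detH H h⁻¹ = 1 := by
  rw [← map_mul, mul_inv_cancel, map_one]

theorem detH_eq_one_of_conj {h x z : H} (hz : h * x * h⁻¹ = z * x) : detH H z = 1 := by
  have h1 : detH H (h * x * h⁻¹) = detH H x := by
    rw [map_mul, map_mul, mul_comm (detH H h), mul_assoc, detH_mul_inv, mul_one]
  rw [hz, map_mul] at h1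
  have h2 : detH H z * (detH H x * detH H x⁻¹) = detH H x * detH H x⁻¹ := by
    rw [← mul_assoc, h1]
  rwa [detH_mul_inv, mul_one] at h2

theorem toEnd_ne_zero [Nontrivial V] (h : H) : toEnd H h ≠ 0 := by
  intro h0
  have h1 : toEnd H h * toEnd H h⁻¹ = 1 := by rw [← map_mul, mul_inv_cancel, map_one]
  rw [h0, zero_mul] at h1
  exact zero_ne_one h1

section Plane

variable [Finite V] (hdim : Module.finrank (ZMod p) V = 2)
include hdim

theorem nontrivial_of_dim : Nontrivial V :=
  Module.nontrivial_of_finrank_pos (R := ZMod p) (by omega)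

theorem card_V : Nat.card V = p ^ 2 := by
  rw [Module.natCard_eq_pow_finrank (K := ZMod p), hdim, Nat.card_zmod]

theorem card_bot : Nat.card (⊥ : Subalgebra (ZMod p) (Module.End (ZMod p) V)) = p := by
  have := nontrivial_of_dim hdim
  rw [Nat.card_congr (Algebra.botEquiv (ZMod p) (Module.End (ZMod p) V)).toEquiv, Nat.card_zmod]

/-- **Claim X**: the algebra of a normal abelian subgroup of `H` has `p` elements, unless
`HasIrrCyc H`. -/
theorem card_alg_of_normal_abelian (htr : Trans H) (hno : ¬ HasIrrCyc H) (A : Subgroup H)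
    (hAn : A.Normal) (hAc : ∀ a ∈ A, ∀ b ∈ A, a * b = b * a) : Nat.card (alg H A) = p := by
  have hnt := nontrivial_of_dim hdim
  have hpp : p.Prime := Fact.out
  obtain ⟨k, hk0, hk⟩ := exists_card_eq_pow H htr A hAn hAc
  rw [card_V hdim] at hk
  have hfin := finite_alg H A
  have hdvd : Nat.card (alg H A) ∣ p ^ 2 := by
    rw [hk]
    exact dvd_pow_self _ hk0.ne'
  obtain ⟨m, hm2, hm⟩ := (Nat.dvd_prime_pow hpp).1 hdvd
  have hbotle : (⊥ : Subalgebra (ZMod p) (Module.End (ZMod p) V)) ≤ alg H A := bot_le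
  have hple : p ≤ Nat.card (alg H A) := by
    have h1 : Nat.card (⊥ : Subalgebra (ZMod p) (Module.End (ZMod p) V)) ≤ Nat.card (alg H A) :=
      Nat.card_le_card_of_injective (Subalgebra.inclusion hbotle)
        (Subalgebra.inclusion_injective hbotle)
    have h2 := card_bot hdim
    omega
  have hm1 : m = 1 ∨ m = 2 := by
    have : m ≠ 0 := by
      rintro rfl
      rw [hm, pow_zero] at hple
      exact absurd hple (not_le.mpr hpp.one_lt)
    omega
  rcases hm1 with rfl | rfl
  · rw [hm, pow_one]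
  · exfalso
    apply hno
    refine ⟨A, hAn, isCyclic_of_abelian_normal H htr A hAn hAc, ?_⟩
    apply irreducible_of_card_alg H htr A hAn hAc
    have h2 := card_V hdim
    omega

/-- a normal abelian subgroup of `H` consists of scalars, unless `HasIrrCyc H`. -/
theorem scal_of_normal_abelian (htr : Trans H) (hno : ¬ HasIrrCyc H) (A : Subgroup H) (hAn : A.Normal)
    (hAc : ∀ a ∈ A, ∀ b ∈ A, a * b = b * a) : ∀ a ∈ A, IsScal (toEnd H a) := by
  have hm := card_alg_of_normal_abelian H hdim htr hno A hAn hAc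
  have hfin := finite_alg H A
  have hbotle : (⊥ : Subalgebra (ZMod p) (Module.End (ZMod p) V)) ≤ alg H A := bot_le
  intro a ha
  rw [isScal_iff_mem_bot]
  have hset : ((⊥ : Subalgebra (ZMod p) (Module.End (ZMod p) V)) : Set (Module.End (ZMod p) V)) =
      (alg H A : Set (Module.End (ZMod p) V)) := by
    apply Set.eq_of_subset_of_ncard_le hbotle _ (Set.toFinite _)
    rw [← Nat.card_coe_set_eq, ← Nat.card_coe_set_eq]
    show Nat.card (alg H A) ≤ Nat.card (⊥ : Subalgebra (ZMod p) (Module.End (ZMod p) V))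
    have h2 := card_bot hdim
    omega
  have : toEnd H a ∈ (alg H A : Set (Module.End (ZMod p) V)) := toEnd_mem_alg H ha
  rw [← hset] at this
  exact this

omit hdim in
theorem two_ne_zero_of_ne (hp2 : p ≠ 2) : (2 : ZMod p) ≠ 0 := by
  have hpp : p.Prime := Fact.out
  intro h
  have h1 : ((2 : ℕ) : ZMod p) = 0 := by exact_mod_cast h
  rw [ZMod.natCast_eq_zero_iff] at h1
  have h2 := Nat.le_of_dvd (by norm_num) h1
  have h3 := hpp.two_le
  omega

/-- an endomorphism of the plane commuting with two anticommuting invertible endomorphisms is a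
scalar -/
theorem isScal_of_commute (hp2 : p ≠ 2) {B C f : Module.End (ZMod p) V}
    (hanti : B * C = -(C * B)) (hCB : C * B ≠ 0) (hfB : f * B = B * f) (hfC : f * C = C * f) :
    IsScal f := by
  have h2 := two_ne_zero_of_ne hp2
  have hfd : FiniteDimensional (ZMod p) V := Module.finite_of_finrank_pos (by omega)
  have hkey : ∀ y : ZMod p, y • (B * C) = y • (C * B) → y = 0 := by
    intro y hy
    rw [hanti, smul_neg, neg_eq_iff_add_eq_zero, ← add_smul, smul_eq_zero] at hy
    rcases hy with hy | hy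
    · have : (2 : ZMod p) * y = 0 := by rw [two_mul]; exact hy
      rcases mul_eq_zero.1 this with h | h
      · exact absurd h h2
      · exact h
    · exact absurd hy hCB
  -- `B` is not a scalar
  have hB : ¬ IsScal B := by
    intro hB
    have h1 : B * C = C * B := hB.commute C
    have h3 := hkey 1 (by rw [one_smul, one_smul, h1])
    exact one_ne_zero h3
  obtain ⟨v, hv⟩ : ∃ v, LinearIndependent (ZMod p) ![v, B v] := by
    by_contra hcon
    push Not at hcon
    exact hB (LinearMap.exists_eq_smul_id_of_forall_notLinearIndependent hcon)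
  have hspan : Submodule.span (ZMod p) (Set.range ![v, B v]) = ⊤ :=
    hv.span_eq_top_of_card_eq_finrank' (by rw [hdim]; rfl)
  have hrange : Set.range ![v, B v] = {v, B v} := by
    ext w
    simp only [Set.mem_range, Set.mem_insert_iff, Set.mem_singleton_iff]
    constructor
    · rintro ⟨i, rfl⟩
      fin_cases i
      · left; rfl
      · right; rfl
    · rintro (rfl | rfl)
      · exact ⟨0, rfl⟩
      · exact ⟨1, rfl⟩
  rw [hrange] at hspan
  obtain ⟨x, y, hxy⟩ : ∃ x y : ZMod p, x • v + y • B v = f v := by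
    rw [← Submodule.mem_span_pair, hspan]
    exact Submodule.mem_top
  have hf : f = x • (1 : Module.End (ZMod p) V) + y • B := by
    apply LinearMap.ext_on hspan
    intro w hw
    rcases hw with hw | hw
    · rw [hw, ← hxy]; simp
    · have h3 : f (B v) = B (f v) := by
        rw [← Module.End.mul_apply, hfB, Module.End.mul_apply]
      rw [Set.mem_singleton_iff.1 hw, h3, ← hxy]
      simp
  have hy : y = 0 := by
    apply hkey
    have h3 := hfC
    rw [hf, add_mul, mul_add, smul_mul_assoc, one_mul, mul_smul_comm, mul_one, smul_mul_assoc,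
      mul_smul_comm] at h3
    exact add_left_cancel h3
  exact ⟨x, by rw [hf, hy, zero_smul, add_zero]⟩

theorem sign_of_det (z : H) (hz : z ∈ scal H) (hdet : detH H z = 1) :
    toEnd H z = 1 ∨ toEnd H z = -1 := by
  obtain ⟨α, hα⟩ := hz
  have h1 : detH H z = α ^ 2 := by
    show LinearMap.det (toEnd H z) = α ^ 2
    rw [hα, LinearMap.det_smul, hdim, map_one, mul_one]
  rw [hdet, sq] at h1
  rcases mul_self_eq_one_iff.1 h1.symm with h | h
  · left; rw [hα, h, one_smul]
  · right; rw [hα, h, neg_smul, one_smul]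

end Plane

/-- **Huppert, the plane case**: a solvable subgroup of `GL(2, p)`, `p` odd, transitive on the
non-zero vectors, has an irreducible cyclic normal subgroup or `(p + 1) ∣ 24`. -/
theorem plane_case {p : ℕ} [Fact p.Prime] {V : Type u} [AddCommGroup V] [Module (ZMod p) V]
    [Finite V] (H : Subgroup (V ≃ₗ[ZMod p] V)) (hp2 : p ≠ 2)
    (hdim : Module.finrank (ZMod p) V = 2) (hsolv : Group.IsSolvable H) (htr : Trans H) :
    HasIrrCyc H ∨ (p + 1) ∣ 24 := by
  by_cases hno : HasIrrCyc H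
  · exact Or.inl hno
  right
  have hpp : p.Prime := Fact.out
  have hnt := nontrivial_of_dim hdim
  have hfinL : Finite (V ≃ₗ[ZMod p] V) := Cfsg.Agent.Lib.Helper12_SolvReg.finite_equiv
  -- the scalars
  have hZc := scal_central H
  have hZn : (scal H).Normal := ⟨fun z hz h => by
    have h1 : h * z * h⁻¹ = z := by rw [← hZc z hz h, mul_inv_cancel_right]
    rw [h1]; exact hz⟩
  have hZab : ∀ a ∈ scal H, ∀ b ∈ scal H, a * b = b * a := fun a ha b _ => hZc a ha b
  have hZcard : Nat.card (scal H) ∣ p - 1 := by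
    have h1 := card_dvd_card_alg_sub_one H htr (scal H) hZn hZab
    rwa [card_alg_of_normal_abelian H hdim htr hno (scal H) hZn hZab] at h1
  have hdvdH : p ^ 2 - 1 ∣ Nat.card H := by
    have h1 := card_sub_one_dvd H htr
    rwa [card_V hdim] at h1
  have hp1 : 0 < p - 1 := by have := hpp.two_le; omega
  -- the last term of the derived series not inside the scalars
  have hex : ∃ n, derivedSeries H n ≤ scal H := by
    obtain ⟨n, hn⟩ := hsolv.solvable
    exact ⟨n, by rw [hn]; exact bot_le⟩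
  classical
  have hn0 : Nat.find hex ≠ 0 := by
    intro h0
    have h1 : derivedSeries H 0 ≤ scal H := by rw [← h0]; exact Nat.find_spec hex
    rw [derivedSeries_zero] at h1
    have h2 : Nat.card H ∣ Nat.card (scal H) := by
      rw [← Subgroup.card_top (G := H)]
      exact Subgroup.card_dvd_of_le h1
    have h3 : p ^ 2 - 1 ∣ p - 1 := hdvdH.trans (h2.trans hZcard)
    have h4 := Nat.le_of_dvd hp1 h3
    have h5 : p < p ^ 2 := by nlinarith [hpp.two_le]
    omega
  obtain ⟨m, hm⟩ := Nat.exists_eq_succ_of_ne_zero hn0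
  have hDZ : ¬ derivedSeries H m ≤ scal H := Nat.find_min hex (by omega)
  have hDD' : derivedSeries H (m + 1) ≤ scal H := by
    have h1 := Nat.find_spec hex
    rwa [hm] at h1
  have hDn : (derivedSeries H m).Normal := derivedSeries_normal H m
  have hDD : ∀ d ∈ derivedSeries H m, ∀ e ∈ derivedSeries H m, d * e * d⁻¹ * e⁻¹ ∈ scal H := by
    intro d hd e he
    apply hDD'
    rw [derivedSeries_succ, ← commutatorElement_def]
    exact Subgroup.commutator_mem_commutator hd he
  -- `D` is not abelian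
  obtain ⟨b, hb, c, hc, hbc⟩ : ∃ b ∈ derivedSeries H m, ∃ c ∈ derivedSeries H m, b * c ≠ c * b := by
    by_contra hcon
    push Not at hcon
    exact hDZ (fun d hd => scal_of_normal_abelian H hdim htr hno _ hDn hcon d hd)
  -- the element `-1`
  have hm₀Z : b * c * b⁻¹ * c⁻¹ ∈ scal H := hDD b hb c hc
  have hm₀conj : b * c * b⁻¹ = (b * c * b⁻¹ * c⁻¹) * c := by group
  have hm₀bc : b * c = (b * c * b⁻¹ * c⁻¹) * (c * b) := by group
  have hm₀T : toEnd H (b * c * b⁻¹ * c⁻¹) = -1 := by
    rcases sign_of_det H hdim _ hm₀Z (detH_eq_one_of_conj H hm₀conj) with h | h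
    · exfalso
      apply hbc
      have h1 : b * c * b⁻¹ * c⁻¹ = 1 := toEnd_injective H (by rw [h, map_one])
      rw [hm₀bc, h1, one_mul]
    · exact h
  have hsign : ∀ z ∈ scal H, ∀ h x : H, h * x * h⁻¹ = z * x → z = 1 ∨ z = b * c * b⁻¹ * c⁻¹ := by
    intro z hz h x hconj
    rcases sign_of_det H hdim z hz (detH_eq_one_of_conj H hconj) with h1 | h1
    · left; exact toEnd_injective H (by rw [h1, map_one])
    · right; exact toEnd_injective H (by rw [h1, hm₀T])
  have hanti : toEnd H b * toEnd H c = -(toEnd H c * toEnd H b) := by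
    rw [← map_mul, ← map_mul, hm₀bc, map_mul, hm₀T, neg_one_mul]
  have hcent : ∀ h : H, h * b = b * h → h * c = c * h → h ∈ scal H := by
    intro h h1 h2
    apply isScal_of_commute hdim hp2 hanti
    · rw [← map_mul]; exact toEnd_ne_zero H _
    · rw [← map_mul, ← map_mul, h1]
    · rw [← map_mul, ← map_mul, h2]
  have hcore := card_dvd_core (scal H) (derivedSeries H m) b c (b * c * b⁻¹ * c⁻¹) hZc hDn hb hc
    hsign hDD hcent hbc
  -- arithmetic
  have h1 : p ^ 2 - 1 ∣ 24 * (p - 1) := hdvdH.trans (hcore.trans (mul_dvd_mul_left 24 hZcard))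
  have h2 : p ^ 2 - 1 = (p + 1) * (p - 1) := by
    have h3 := Nat.sq_sub_sq p 1
    rwa [one_pow] at h3
  rw [h2] at h1
  exact Nat.dvd_of_mul_dvd_mul_right hp1 h1

end Cfsg.Agent.Lib.Helper31_HupPlane
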