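import Mathlib
import Cfsg.Agent.Lib.Helper12_Hup1
import Cfsg.Agent.Lib.Helper12_Hup4
import Cfsg.Agent.Lib.Helper1_Cores
import Cfsg.Agent.Lib.Helper55_Fitting

/-!
# Huppert's theorem, the case `|V| = 2^6` (package S3360-M4 for helper12)

A solvable subgroup `H` of `GL(6,2)` that is transitive on the non-zero vectors has an
irreducible cyclic normal subgroup.  The three lemmas `G0, G1, G2` of `Helper12_Hup4` are taken as
hypotheses in `case_two_six_aux`.
-/

set_option autoImplicit false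
set_option linter.unusedSectionVars false
set_option linter.unusedVariables false
set_option linter.deprecated false

namespace Cfsg.Agent.Lib.Helper51_HupTwoSix

open Cfsg.Agent.Lib.Helper12_Hup1 Cfsg.Agent.Lib

universe u

/-! ### Arithmetic -/

theorem pow_eq_sixtyfour (n k : ℕ) (hk : 0 < k) (h : 64 = n ^ k) :
    n = 2 ∨ n = 4 ∨ n = 8 ∨ n = 64 := by
  have hn : n ∣ 2 ^ 6 := by
    have : n ∣ n ^ k := dvd_pow_self n hk.ne'
    rw [← h] at this
    exact this
  obtain ⟨j, hj, rfl⟩ := (Nat.dvd_prime_pow Nat.prime_two).1 hn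
  rw [← pow_mul] at h
  have h6 : j * k = 6 := by
    have : (2 : ℕ) ^ 6 = 2 ^ (j * k) := h
    exact (Nat.pow_right_injective (le_refl 2) this).symm
  have hj6 : j ∣ 6 := ⟨k, h6.symm⟩
  have : j ≤ 6 := hj
  interval_cases j <;> simp_all

theorem dvd_sixtythree_cases (n a : ℕ) (hn : n = 2 ∨ n = 4 ∨ n = 8 ∨ n = 64) (ha : a ∣ n - 1) :
    a ∣ 63 ∧ (21 ∣ a → n = 64) := by
  rcases hn with rfl | rfl | rfl | rfl
  · refine ⟨ha.trans (by norm_num), fun h => ?_⟩
    have := Nat.le_of_dvd (by norm_num) (h.trans ha)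
    omega
  · refine ⟨ha.trans (by norm_num), fun h => ?_⟩
    have := Nat.le_of_dvd (by norm_num) (h.trans ha)
    omega
  · refine ⟨ha.trans (by norm_num), fun h => ?_⟩
    have := Nat.le_of_dvd (by norm_num) (h.trans ha)
    omega
  · exact ⟨ha, fun _ => rfl⟩

theorem prime_dvd_sixtythree (q : ℕ) (hq : q.Prime) (h : q ∣ 63) : q = 3 ∨ q = 7 := by
  have h63 : (63 : ℕ) = 3 * 3 * 7 := by norm_num
  rw [h63] at h
  rcases (Nat.Prime.dvd_mul hq).1 h with h | h
  · rcases (Nat.Prime.dvd_mul hq).1 h with h | h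
    · exact Or.inl ((Nat.prime_dvd_prime_iff_eq hq Nat.prime_three).1 h)
    · exact Or.inl ((Nat.prime_dvd_prime_iff_eq hq Nat.prime_three).1 h)
  · exact Or.inr ((Nat.prime_dvd_prime_iff_eq hq (by norm_num)).1 h)

theorem three_pow_le (k : ℕ) (h : 3 ^ k ∣ 20158709760) : k ≤ 4 := by
  have h1 : (20158709760 : ℕ) = 3 ^ 4 * 248872960 := by norm_num
  rw [h1] at h
  have hc : Nat.Coprime (3 ^ k) 248872960 := Nat.Coprime.pow_left _ (by norm_num)
  have h2 : 3 ^ k ∣ 3 ^ 4 := hc.dvd_of_dvd_mul_right h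
  exact (Nat.pow_dvd_pow_iff_le_right (by norm_num)).1 h2

theorem seven_pow_le (k : ℕ) (h : 7 ^ k ∣ 20158709760) : k ≤ 2 := by
  have h1 : (20158709760 : ℕ) = 7 ^ 2 * 411402240 := by norm_num
  rw [h1] at h
  have hc : Nat.Coprime (7 ^ k) 411402240 := Nat.Coprime.pow_left _ (by norm_num)
  have h2 : 7 ^ k ∣ 7 ^ 2 := hc.dvd_of_dvd_mul_right h
  exact (Nat.pow_dvd_pow_iff_le_right (by norm_num)).1 h2

theorem three_pow_modEq (j k : ℕ) (hjk : j ≤ k) (hk : k ≤ 4) (h : 3 ^ k ≡ 3 ^ j [MOD 7]) :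
    j = k := by
  interval_cases k <;> interval_cases j <;> first | rfl | (exfalso; revert h; decide)

/-! ### The order of `GL(6,2)` -/

theorem card_linearEquiv {V : Type u} [AddCommGroup V] [Module (ZMod 2) V] [Finite V]
    (hdim : Module.finrank (ZMod 2) V = 6) :
    Nat.card (V ≃ₗ[ZMod 2] V) = 20158709760 := by
  classical
  have : Module.Finite (ZMod 2) V := Module.Finite.of_finite
  let b : Module.Basis (Fin 6) (ZMod 2) V := Module.finBasisOfFinrankEq (ZMod 2) V hdim
  let e1 : (V ≃ₗ[ZMod 2] V) ≃ (V →ₗ[ZMod 2] V)ˣ :=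
    (LinearMap.GeneralLinearGroup.generalLinearEquiv (ZMod 2) V).symm.toEquiv
  let e2 : (V →ₗ[ZMod 2] V)ˣ ≃ (Matrix (Fin 6) (Fin 6) (ZMod 2))ˣ :=
    (Units.mapEquiv (LinearMap.toMatrixAlgEquiv b).toMulEquiv).toEquiv
  rw [Nat.card_congr (e1.trans e2)]
  have h := Matrix.card_GL_field (𝔽 := ZMod 2) 6
  rw [ZMod.card] at h
  rw [show Nat.card (Matrix (Fin 6) (Fin 6) (ZMod 2))ˣ = Nat.card (GL (Fin 6) (ZMod 2)) from rfl, h]
  simp [Fin.prod_univ_succ]

/-! ### An element of order 7 normalising a small 3-group centralises it -/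

theorem commute_of_order_seven {G : Type*} [Group G] (P : Subgroup G) [P.Normal] [Finite P]
    (k : ℕ) (hk : k ≤ 4) (hP : Nat.card P = 3 ^ k) (x : G) (hx : orderOf x = 7) :
    ∀ a ∈ P, a * x = x * a := by
  have : Fact (Nat.Prime 7) := ⟨by norm_num⟩
  obtain ⟨K, hKdef⟩ : ∃ K : Subgroup (ConjAct G), K = Subgroup.zpowers (ConjAct.toConjAct x) :=
    ⟨_, rfl⟩
  have hord : orderOf (ConjAct.toConjAct x) = 7 := by
    rw [← hx]
    exact MulEquiv.orderOf_eq ConjAct.toConjAct x
  have hK : IsPGroup 7 K := by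
    apply IsPGroup.of_card (n := 1)
    rw [hKdef, Nat.card_zpowers, hord, pow_one]
  have hmod := hK.card_modEq_card_fixedPoints P
  obtain ⟨C, hC⟩ : ∃ C : Subgroup P, C = (Subgroup.centralizer {x}).subgroupOf P := ⟨_, rfl⟩
  have hfix : (MulAction.fixedPoints K P : Set P) = C := by
    ext a
    rw [MulAction.mem_fixedPoints, hC, SetLike.mem_coe, Subgroup.mem_subgroupOf,
      Subgroup.mem_centralizer_iff]
    constructor
    · intro h y hy
      rw [Set.mem_singleton_iff] at hy
      subst hy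
      have h1 := h ⟨ConjAct.toConjAct y, by rw [hKdef]; exact Subgroup.mem_zpowers _⟩
      have h2 := congrArg (Subtype.val) h1
      rw [Subgroup.smul_def, ConjAct.Subgroup.val_conj_smul, ConjAct.smul_def] at h2
      simp only [ConjAct.ofConjAct_toConjAct] at h2
      rw [mul_inv_eq_iff_eq_mul] at h2
      exact h2
    · intro h g
      have hx' : ConjAct.toConjAct x ∈ MulAction.stabilizer (ConjAct G) a := by
        rw [MulAction.mem_stabilizer_iff]
        apply Subtype.ext
        rw [ConjAct.Subgroup.val_conj_smul, ConjAct.smul_def]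
        simp only [ConjAct.ofConjAct_toConjAct]
        rw [mul_inv_eq_iff_eq_mul]
        exact h x rfl
      have hle : K ≤ MulAction.stabilizer (ConjAct G) a := by
        rw [hKdef]
        exact (Subgroup.zpowers_le).2 hx'
      have := hle g.2
      rw [MulAction.mem_stabilizer_iff] at this
      rw [Subgroup.smul_def]
      exact this
  have hcardfix : Nat.card (MulAction.fixedPoints K P) = Nat.card C := by
    rw [← SetLike.coe_sort_coe C, hfix]
  rw [hcardfix] at hmod
  have hdvd : Nat.card C ∣ Nat.card P := Subgroup.card_subgroup_dvd_card C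
  rw [hP] at hdvd hmod
  obtain ⟨j, hj, hCj⟩ := (Nat.dvd_prime_pow Nat.prime_three).1 hdvd
  rw [hCj] at hmod
  have hjk := three_pow_modEq j k hj hk hmod
  have htop : C = ⊤ := by
    rw [← Subgroup.card_eq_iff_eq_top, hCj, hjk, hP]
  intro a ha
  have h1 : (⟨a, ha⟩ : P) ∈ C := by rw [htop]; exact Subgroup.mem_top _
  rw [hC, Subgroup.mem_subgroupOf, Subgroup.mem_centralizer_iff] at h1
  exact (h1 x rfl).symm

/-! ### The group-theoretic argument -/

section main

variable [Fact (Nat.Prime 2)] {V : Type u} [AddCommGroup V] [Module (ZMod 2) V] [Finite V]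
variable (H : Subgroup (V ≃ₗ[ZMod 2] V))

theorem card_V (hdim : Module.finrank (ZMod 2) V = 6) : Nat.card V = 64 := by
  classical
  have : Fintype V := Fintype.ofFinite V
  rw [Nat.card_eq_fintype_card, Module.card_eq_pow_finrank (K := ZMod 2), ZMod.card, hdim]
  norm_num

/-- the orders of the normal abelian subgroups -/
theorem card_normal_abelian (hdim : Module.finrank (ZMod 2) V = 6)
    (G0 : ∀ A : Subgroup H, A.Normal → (∀ a ∈ A, ∀ b ∈ A, a * b = b * a) →
      ∃ k, 0 < k ∧ Nat.card V = Nat.card (alg H A) ^ k)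
    (G2 : ∀ A : Subgroup H, A.Normal → (∀ a ∈ A, ∀ b ∈ A, a * b = b * a) →
      Nat.card A ∣ Nat.card (alg H A) - 1)
    (A : Subgroup H) (hAn : A.Normal) (hAc : ∀ a ∈ A, ∀ b ∈ A, a * b = b * a) :
    Nat.card A ∣ 63 ∧ (21 ∣ Nat.card A → Nat.card (alg H A) = Nat.card V) := by
  obtain ⟨k, hk, hVk⟩ := G0 A hAn hAc
  rw [card_V hdim] at hVk
  have hn := pow_eq_sixtyfour _ k hk hVk
  have h := dvd_sixtythree_cases _ _ hn (G2 A hAn hAc)
  rw [card_V hdim]
  exact h

/-- the centre of `O_q(H)`, as a subgroup of `H` -/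
def zq (q : ℕ) : Subgroup H :=
  (Subgroup.center (Cfsg.pCore q H)).map (Cfsg.pCore q H).subtype

theorem zq_normal (q : ℕ) [Fact q.Prime] : (zq H q).Normal :=
  ConjAct.normal_of_characteristic_of_normal

theorem zq_le (q : ℕ) : zq H q ≤ Cfsg.pCore q H := by
  rintro _ ⟨x, _, rfl⟩
  exact x.2

theorem zq_comm (q : ℕ) : ∀ a ∈ zq H q, ∀ b ∈ zq H q, a * b = b * a := by
  rintro _ ⟨x, hx, rfl⟩ _ ⟨y, hy, rfl⟩
  have h := Subgroup.mem_center_iff.1 hx y
  have := congrArg (Cfsg.pCore q H).subtype h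
  simpa using this.symm

theorem card_zq (q : ℕ) [Fact q.Prime] (h : Cfsg.pCore q H ≠ ⊥) :
    ∃ j, 0 < j ∧ Nat.card (zq H q) = q ^ j := by
  have hfin : Finite (V ≃ₗ[ZMod 2] V) := Helper12_SolvReg.finite_equiv
  have hP : IsPGroup q (Cfsg.pCore q H) := Helper1_Cores.pCore_isPGroup q
  have hnt : Nontrivial (Cfsg.pCore q H) := (Subgroup.nontrivial_iff_ne_bot _).2 h
  have hZnt : Nontrivial (Subgroup.center (Cfsg.pCore q H)) := hP.center_nontrivial
  have hcard : Nat.card (zq H q) = Nat.card (Subgroup.center (Cfsg.pCore q H)) := by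
    apply Nat.card_congr
    exact ((Subgroup.center (Cfsg.pCore q H)).equivMapOfInjective _
      (Subgroup.subtype_injective _)).symm.toEquiv
  have hPZ : IsPGroup q (Subgroup.center (Cfsg.pCore q H)) := hP.to_subgroup _
  obtain ⟨j, hj⟩ := IsPGroup.iff_card.1 hPZ
  refine ⟨j, ?_, by rw [hcard, hj]⟩
  rcases Nat.eq_zero_or_pos j with rfl | hpos
  · rw [pow_zero] at hj
    have := (Nat.card_eq_one_iff_unique.1 hj).1
    exact absurd hZnt (not_nontrivial _)
  · exact hpos

/-- step (1): only `O_3(H)` and `O_7(H)` can be non-trivial -/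
theorem pCore_eq_bot_of_ne (hdim : Module.finrank (ZMod 2) V = 6)
    (G0 : ∀ A : Subgroup H, A.Normal → (∀ a ∈ A, ∀ b ∈ A, a * b = b * a) →
      ∃ k, 0 < k ∧ Nat.card V = Nat.card (alg H A) ^ k)
    (G2 : ∀ A : Subgroup H, A.Normal → (∀ a ∈ A, ∀ b ∈ A, a * b = b * a) →
      Nat.card A ∣ Nat.card (alg H A) - 1)
    (q : ℕ) [Fact q.Prime] (hq3 : q ≠ 3) (hq7 : q ≠ 7) : Cfsg.pCore q H = ⊥ := by
  by_contra h
  obtain ⟨j, hj, hcard⟩ := card_zq H q h
  have h63 := (card_normal_abelian H hdim G0 G2 (zq H q) (zq_normal H q) (zq_comm H q)).1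
  rw [hcard] at h63
  have hq : q ∣ 63 := (dvd_pow_self q hj.ne').trans h63
  rcases prime_dvd_sixtythree q Fact.out hq with h | h
  · exact hq3 h
  · exact hq7 h

theorem nontrivial_V (hdim : Module.finrank (ZMod 2) V = 6) : Nontrivial V := by
  apply Module.nontrivial_of_finrank_pos (R := ZMod 2)
  rw [hdim]
  norm_num

/-- step (2): if `O_3(H)` and `O_7(H)` are both non-trivial, we are done -/
theorem hasIrrCyc_of_both (hdim : Module.finrank (ZMod 2) V = 6) (htr : Trans H)
    (G0 : ∀ A : Subgroup H, A.Normal → (∀ a ∈ A, ∀ b ∈ A, a * b = b * a) →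
      ∃ k, 0 < k ∧ Nat.card V = Nat.card (alg H A) ^ k)
    (G2 : ∀ A : Subgroup H, A.Normal → (∀ a ∈ A, ∀ b ∈ A, a * b = b * a) →
      Nat.card A ∣ Nat.card (alg H A) - 1)
    (h3 : Cfsg.pCore 3 H ≠ ⊥) (h7 : Cfsg.pCore 7 H ≠ ⊥) : HasIrrCyc H := by
  have hfin : Finite (V ≃ₗ[ZMod 2] V) := Helper12_SolvReg.finite_equiv
  have : Fact (Nat.Prime 3) := ⟨Nat.prime_three⟩
  have : Fact (Nat.Prime 7) := ⟨by norm_num⟩
  have hntV := nontrivial_V (V := V) hdim
  have hn3 := zq_normal H 3
  have hn7 := zq_normal H 7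
  obtain ⟨A, hA⟩ : ∃ A : Subgroup H, A = zq H 3 ⊔ zq H 7 := ⟨_, rfl⟩
  have hAn : A.Normal := by rw [hA]; infer_instance
  have hdis : Disjoint (Cfsg.pCore 3 H) (Cfsg.pCore 7 H) :=
    IsPGroup.disjoint_of_ne 3 7 (by norm_num) _ _ (Helper1_Cores.pCore_isPGroup 3)
      (Helper1_Cores.pCore_isPGroup 7)
  have hcomm : ∀ a ∈ zq H 3, ∀ b ∈ zq H 7, a * b = b * a := by
    intro a ha b hb
    exact (Subgroup.commute_of_normal_of_disjoint _ _ (Helper1_Cores.pCore_normal 3)
      (Helper1_Cores.pCore_normal 7) hdis a b (zq_le H 3 ha) (zq_le H 7 hb)).eq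
  have hAc' : A ≤ Subgroup.centralizer (A : Set H) := by
    have h3c : zq H 3 ≤ Subgroup.centralizer (A : Set H) := by
      rw [Subgroup.le_centralizer_iff, hA]
      apply sup_le
      · intro a ha b hb
        exact zq_comm H 3 b hb a ha
      · intro b hb a ha
        exact hcomm a ha b hb
    have h7c : zq H 7 ≤ Subgroup.centralizer (A : Set H) := by
      rw [Subgroup.le_centralizer_iff, hA]
      apply sup_le
      · intro a ha b hb
        exact (hcomm a ha b hb).symm
      · intro a ha b hb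
        exact zq_comm H 7 b hb a ha
    rw [hA]
    exact sup_le (by rw [← hA]; exact h3c) (by rw [← hA]; exact h7c)
  have hAc : ∀ a ∈ A, ∀ b ∈ A, a * b = b * a := by
    intro a ha b hb
    exact hAc' hb a ha
  obtain ⟨j3, hj3, hc3⟩ := card_zq H 3 h3
  obtain ⟨j7, hj7, hc7⟩ := card_zq H 7 h7
  have hd3 : 3 ∣ Nat.card A := by
    have : Nat.card (zq H 3) ∣ Nat.card A := Subgroup.card_dvd_of_le (by rw [hA]; exact le_sup_left)
    rw [hc3] at this
    exact (dvd_pow_self 3 hj3.ne').trans this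
  have hd7 : 7 ∣ Nat.card A := by
    have : Nat.card (zq H 7) ∣ Nat.card A := Subgroup.card_dvd_of_le (by rw [hA]; exact le_sup_right)
    rw [hc7] at this
    exact (dvd_pow_self 7 hj7.ne').trans this
  have hd21 : 21 ∣ Nat.card A := by
    have : Nat.Coprime 3 7 := by norm_num
    exact this.mul_dvd_of_dvd_of_dvd hd3 hd7
  have hcard := (card_normal_abelian H hdim G0 G2 A hAn hAc).2 hd21
  exact ⟨A, hAn, isCyclic_of_abelian_normal H htr A hAn hAc,
    fun W hW => irreducible_of_card_alg H htr A hAn hAc hcard W hW⟩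

/-- step (3): the Fitting subgroup is `O_q(H)` when the other core vanishes -/
theorem fitting_eq_pCore (hdim : Module.finrank (ZMod 2) V = 6)
    (G0 : ∀ A : Subgroup H, A.Normal → (∀ a ∈ A, ∀ b ∈ A, a * b = b * a) →
      ∃ k, 0 < k ∧ Nat.card V = Nat.card (alg H A) ^ k)
    (G2 : ∀ A : Subgroup H, A.Normal → (∀ a ∈ A, ∀ b ∈ A, a * b = b * a) →
      Nat.card A ∣ Nat.card (alg H A) - 1)
    (q q' : ℕ) [Fact q.Prime] (hqq' : (q = 3 ∧ q' = 7) ∨ (q = 7 ∧ q' = 3))
    (h' : Cfsg.pCore q' H = ⊥) : Cfsg.fittingSubgroup H = Cfsg.pCore q H := by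
  have hfin : Finite (V ≃ₗ[ZMod 2] V) := Helper12_SolvReg.finite_equiv
  apply le_antisymm
  · rw [Helper1_Cores.fittingSubgroup_eq_iSup_pCore]
    apply iSup_le
    intro r
    have : Fact (r : ℕ).Prime := ⟨r.2⟩
    by_cases hrq : (r : ℕ) = q
    · rw [hrq]
    · by_cases hrq' : (r : ℕ) = q'
      · rw [hrq', h']
        exact bot_le
      · have : Cfsg.pCore (r : ℕ) H = ⊥ := by
          apply pCore_eq_bot_of_ne H hdim G0 G2
          · rcases hqq' with ⟨h1, h2⟩ | ⟨h1, h2⟩
            · rw [← h1]; exact hrq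
            · rw [← h2]; exact hrq'
          · rcases hqq' with ⟨h1, h2⟩ | ⟨h1, h2⟩
            · rw [← h2]; exact hrq'
            · rw [← h1]; exact hrq
        rw [this]
        exact bot_le
  · exact Helper1_Cores.pCore_le_fittingSubgroup q

theorem card_H_dvd (hdim : Module.finrank (ZMod 2) V = 6) : Nat.card H ∣ 20158709760 := by
  have hfin : Finite (V ≃ₗ[ZMod 2] V) := Helper12_SolvReg.finite_equiv
  rw [← card_linearEquiv (V := V) hdim]
  exact Subgroup.card_subgroup_dvd_card H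

/-- the main theorem, with the three lemmas `G0, G1, G2` of `Helper12_Hup4` as hypotheses -/
theorem case_two_six_aux (hdim : Module.finrank (ZMod 2) V = 6) (hsolv : Group.IsSolvable H)
    (htr : Trans H)
    (G0 : ∀ A : Subgroup H, A.Normal → (∀ a ∈ A, ∀ b ∈ A, a * b = b * a) →
      ∃ k, 0 < k ∧ Nat.card V = Nat.card (alg H A) ^ k)
    (G1 : ∀ A : Subgroup H, A.Normal → (∀ a ∈ A, ∀ b ∈ A, a * b = b * a) →
      (∀ h : H, (∀ a ∈ A, h * a = a * h) → h ∈ A) → HasIrrCyc H)
    (G2 : ∀ A : Subgroup H, A.Normal → (∀ a ∈ A, ∀ b ∈ A, a * b = b * a) →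
      Nat.card A ∣ Nat.card (alg H A) - 1) : HasIrrCyc H := by
  have hfin : Finite (V ≃ₗ[ZMod 2] V) := Helper12_SolvReg.finite_equiv
  have h3p : Fact (Nat.Prime 3) := ⟨Nat.prime_three⟩
  have h7p : Fact (Nat.Prime 7) := ⟨by norm_num⟩
  have hntV := nontrivial_V (V := V) hdim
  have h63 : 63 ∣ Nat.card H := by
    have := card_sub_one_dvd H htr
    rwa [card_V hdim] at this
  have hHdvd := card_H_dvd H hdim
  have hcent : ∀ h : H, (∀ a ∈ Cfsg.fittingSubgroup H, h * a = a * h) →
      h ∈ Cfsg.fittingSubgroup H := by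
    intro h hh
    apply Helper55_Fitting.centralizer_fittingSubgroup_le
    rw [Subgroup.mem_centralizer_iff]
    intro a ha
    exact (hh a ha).symm
  by_cases h3 : Cfsg.pCore 3 H = ⊥
  · by_cases h7 : Cfsg.pCore 7 H = ⊥
    · -- the Fitting subgroup is trivial: impossible
      exfalso
      have hF := fitting_eq_pCore H hdim G0 G2 7 3 (Or.inr ⟨rfl, rfl⟩) h3
      rw [h7] at hF
      have htop : ∀ h : H, h = 1 := by
        intro h
        have := hcent h (by
          intro a ha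
          rw [hF, Subgroup.mem_bot] at ha
          rw [ha, mul_one, one_mul])
        rwa [hF, Subgroup.mem_bot] at this
      have hc1 : Nat.card H = 1 := by
        rw [Nat.card_eq_one_iff_unique]
        exact ⟨⟨fun a b => (htop a).trans (htop b).symm⟩, ⟨1⟩⟩
      rw [hc1] at h63
      have := Nat.le_of_dvd (by norm_num) h63
      omega
    · -- step (4): `F = O_7(H)`
      have hF := fitting_eq_pCore H hdim G0 G2 7 3 (Or.inr ⟨rfl, rfl⟩) h3
      obtain ⟨k, hk⟩ := IsPGroup.iff_card.1 (Helper1_Cores.pCore_isPGroup (G := H) 7)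
      have hk2 : k ≤ 2 := by
        apply seven_pow_le
        rw [← hk]
        exact (Subgroup.card_subgroup_dvd_card _).trans hHdvd
      have hk0 : k ≠ 0 := by
        rintro rfl
        rw [pow_zero] at hk
        exact h7 (Subgroup.card_eq_one.1 hk)
      have hcomm : IsMulCommutative (Cfsg.pCore 7 H) := by
        have hk12 : k = 1 ∨ k = 2 := by omega
        rcases hk12 with rfl | rfl
        · rw [pow_one] at hk
          have := isCyclic_of_prime_card hk
          exact IsCyclic.isMulCommutative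
        · exact IsPGroup.isMulCommutative_of_card_eq_prime_sq hk
      have hAc : ∀ a ∈ Cfsg.pCore 7 H, ∀ b ∈ Cfsg.pCore 7 H, a * b = b * a := by
        intro a ha b hb
        have := hcomm.is_comm.comm (⟨a, ha⟩ : Cfsg.pCore 7 H) ⟨b, hb⟩
        exact congrArg Subtype.val this
      apply G1 (Cfsg.pCore 7 H) (Helper1_Cores.pCore_normal 7) hAc
      intro h hh
      rw [← hF]
      apply hcent
      rw [hF]
      exact hh
  · by_cases h7 : Cfsg.pCore 7 H = ⊥
    · -- step (5): `F = O_3(H)` is impossible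
      exfalso
      have hF := fitting_eq_pCore H hdim G0 G2 3 7 (Or.inl ⟨rfl, rfl⟩) h7
      obtain ⟨k, hk⟩ := IsPGroup.iff_card.1 (Helper1_Cores.pCore_isPGroup (G := H) 3)
      have hk4 : k ≤ 4 := by
        apply three_pow_le
        rw [← hk]
        exact (Subgroup.card_subgroup_dvd_card _).trans hHdvd
      have h7d : 7 ∣ Nat.card H := Dvd.dvd.trans (by norm_num) h63
      obtain ⟨x, hx⟩ := exists_prime_orderOf_dvd_card' 7 h7d
      have hxc := commute_of_order_seven (Cfsg.pCore 3 H) k hk4 hk x hx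
      have hxF : x ∈ Cfsg.pCore 3 H := by
        rw [← hF]
        apply hcent
        intro a ha
        rw [hF] at ha
        exact (hxc a ha).symm
      have hdvd : orderOf (⟨x, hxF⟩ : Cfsg.pCore 3 H) ∣ 3 ^ k := by
        rw [← hk]
        exact orderOf_dvd_natCard _
      have hord : orderOf (⟨x, hxF⟩ : Cfsg.pCore 3 H) = 7 := by
        rw [← hx]
        exact Subgroup.orderOf_mk x hxF
      rw [hord] at hdvd
      have := (Nat.Prime.dvd_of_dvd_pow (by norm_num) hdvd)
      omega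
    · exact hasIrrCyc_of_both H hdim htr G0 G2 h3 h7

end main

/-- **Package S3360-M4**: the case `|V| = 2^6` of Huppert's theorem. -/
theorem case_two_six {p : ℕ} [Fact p.Prime] {V : Type u} [AddCommGroup V] [Module (ZMod p) V]
    [Finite V] (H : Subgroup (V ≃ₗ[ZMod p] V)) (hp : p = 2)
    (hdim : Module.finrank (ZMod p) V = 6) (hsolv : IsSolvable H) (htr : Trans H) :
    HasIrrCyc H := by
  subst hp
  have hntV := nontrivial_V (V := V) hdim
  exact case_two_six_aux H hdim hsolv htr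
    (fun A hAn hAc => Helper12_Hup4.exists_card_eq_pow H htr A hAn hAc)
    (fun A hAn hAc hself => Helper12_Hup4.hasIrrCyc_of_self_centralizing H htr A hAn hAc hself)
    (fun A hAn hAc => Helper12_Hup4.card_dvd_card_alg_sub_one H htr A hAn hAc)

end Cfsg.Agent.Lib.Helper51_HupTwoSix
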