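import Mathlib
import Cfsg.Prelude.Def_Perm
import Cfsg.Agent.S3360
import Cfsg.Agent.Lib.Helper20_EqOrdCount
import Cfsg.Agent.Lib.Helper23_EqOrd_EOD
import Cfsg.Agent.Lib.Helper27_EqOrd_EOA
import Cfsg.Agent.Lib.Helper27_EqOrd_EOE
import Cfsg.Agent.Lib.Helper29_EqOrd_EOB
import Cfsg.Agent.Lib.Helper29_EqOrd_EOC

set_option autoImplicit false

namespace Cfsg.Agent.Lib.Helper20_EqOrdCore

open scoped IsMulCommutative

section setup

variable {X : Type*} [Group X] (V : Subgroup X) [V.Normal] [IsMulCommutative V] (p : ℕ)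
  [Module (ZMod p) (Additive V)]

/-- conjugation by `x` on `Additive V` as a linear equivalence -/
noncomputable def conjLin (x : X) : Additive V ≃ₗ[ZMod p] Additive V :=
  { MulEquiv.toAdditive (MulAut.conjNormal x : V ≃* V) with
    map_smul' := fun c v => ZMod.map_smul (MulEquiv.toAdditive (MulAut.conjNormal x : V ≃* V)) c v }

theorem conjLin_apply (x : X) (v : Additive V) :
    conjLin V p x v = Additive.ofMul (MulAut.conjNormal x (Additive.toMul v)) := rfl

theorem coe_conjLin_apply (x : X) (v : Additive V) :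
    ((Additive.toMul (conjLin V p x v) : V) : X) = x * ((Additive.toMul v : V) : X) * x⁻¹ := by
  rw [conjLin_apply, toMul_ofMul, MulAut.conjNormal_apply]

/-- conjugation as a homomorphism into the linear group of `Additive V` -/
noncomputable def conjL : X →* (Additive V ≃ₗ[ZMod p] Additive V) where
  toFun := conjLin V p
  map_one' := by
    ext v
    rw [conjLin_apply, map_one]
    rfl
  map_mul' x y := by
    ext v
    rw [conjLin_apply, map_mul]
    rfl

theorem conjL_apply (x : X) (v : Additive V) :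
    conjL V p x v = Additive.ofMul (MulAut.conjNormal x (Additive.toMul v)) := rfl

theorem coe_conjL_apply (x : X) (v : Additive V) :
    ((Additive.toMul (conjL V p x v) : V) : X) = x * ((Additive.toMul v : V) : X) * x⁻¹ :=
  coe_conjLin_apply V p x v

/-- the group generated by the conjugations and the scalars -/
noncomputable def rhoT : X × (ZMod p)ˣ →* (Additive V ≃ₗ[ZMod p] Additive V) :=
  (conjL V p).noncommCoprod (DistribMulAction.toModuleAut (ZMod p) (Additive V)) (by
    intro x z
    apply LinearEquiv.ext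
    intro v
    change conjL V p x ((z : ZMod p) • v) = (z : ZMod p) • conjL V p x v
    rw [map_smul])

theorem rhoT_apply (x : X) (z : (ZMod p)ˣ) (v : Additive V) :
    rhoT V p (x, z) v = conjL V p x ((z : ZMod p) • v) := rfl

/-- an additive subgroup of `Additive V` as a subgroup of `X` -/
def toX (W : AddSubgroup (Additive V)) : Subgroup X := (AddSubgroup.toSubgroup' W).map V.subtype

theorem mem_toX (W : AddSubgroup (Additive V)) (y : X) :
    y ∈ toX V W ↔ ∃ w ∈ W, ((Additive.toMul w : V) : X) = y := by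
  constructor
  · rintro ⟨u, hu, rfl⟩
    exact ⟨Additive.ofMul u, hu, rfl⟩
  · rintro ⟨w, hw, rfl⟩
    exact ⟨Additive.toMul w, hw, rfl⟩

theorem toX_le (W : AddSubgroup (Additive V)) : toX V W ≤ V := by
  rintro - ⟨u, _, rfl⟩
  exact u.2

theorem card_toX (W : AddSubgroup (Additive V)) : Nat.card (toX V W) = Nat.card W := by
  unfold toX
  rw [Subgroup.card_map_of_injective V.subtype_injective]
  exact Nat.card_congr (Equiv.refl _)

/-- transitivity on subgroups of `V`, in additive form -/
theorem exists_conjL_map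
    (htr : ∀ H K : Subgroup X, H ≤ V → K ≤ V → Nat.card H = Nat.card K →
      ∃ x : X, K = H.map (MulAut.conj x).toMonoidHom)
    (W W' : AddSubgroup (Additive V)) (h : Nat.card W = Nat.card W') :
    ∃ x : X, W' = W.map ((conjL V p x : Additive V ≃ₗ[ZMod p] Additive V) :
      Additive V →ₗ[ZMod p] Additive V).toAddMonoidHom := by
  obtain ⟨x, hx⟩ := htr (toX V W) (toX V W') (toX_le V W) (toX_le V W')
    (by rw [card_toX, card_toX, h])
  refine ⟨x, ?_⟩
  ext w'
  constructor
  · intro hw'
    have h1 : ((Additive.toMul w' : V) : X) ∈ toX V W' := (mem_toX V W' _).2 ⟨w', hw', rfl⟩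
    rw [hx] at h1
    obtain ⟨u, hu, hux⟩ := h1
    obtain ⟨w, hw, rfl⟩ := (mem_toX V W u).1 hu
    refine ⟨w, hw, ?_⟩
    change conjL V p x w = w'
    apply Additive.toMul.injective
    apply Subtype.ext
    rw [coe_conjL_apply]
    simpa using hux
  · rintro ⟨w, hw, rfl⟩
    change conjL V p x w ∈ W'
    have h1 : x * ((Additive.toMul w : V) : X) * x⁻¹ ∈ toX V W' := by
      rw [hx]
      exact ⟨_, (mem_toX V W _).2 ⟨w, hw, rfl⟩, by simp⟩
    obtain ⟨w'', hw'', hww⟩ := (mem_toX V W' _).1 h1
    have : conjL V p x w = w'' := by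
      apply Additive.toMul.injective
      apply Subtype.ext
      rw [coe_conjL_apply, hww]
    rw [this]
    exact hw''

end setup

theorem prime_pow_eq {p q n m : ℕ} (hp : p.Prime) (hq : q.Prime) (hn : 1 ≤ n)
    (h : p ^ n = q ^ m) : p = q ∧ n = m := by
  have h1 : p ∣ q ^ m := h ▸ dvd_pow_self p (by omega)
  have h2 : p = q := (Nat.prime_dvd_prime_iff_eq hp hq).1 (hp.dvd_of_dvd_pow h1)
  subst h2
  exact ⟨rfl, Nat.pow_right_injective hp.two_le h⟩

open Cfsg.Agent.Lib.Helper20_EqOrdCount in
/-- the numerical and semilinear part of S4025 -/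
theorem core1 {X : Type*} [Group X] [Finite X] [hsol : Group.IsSolvable X] {p n : ℕ} [Fact p.Prime]
    (hn : 3 ≤ n) (V : Subgroup X) [V.Normal] [IsMulCommutative V] [Module (ZMod p) (Additive V)]
    (hVcard : Nat.card V = p ^ n)
    (htr : ∀ H K : Subgroup X, H ≤ V → K ≤ V → Nat.card H = Nat.card K →
      ∃ x : X, K = H.map (MulAut.conj x).toMonoidHom) :
    (n = 3 ∨ (n = 5 ∧ p = 2)) ∧
    Nat.card {W : AddSubgroup (Additive V) // Nat.card W = p ^ 2} * ((p ^ 2 - 1) * (p ^ 2 - p)) =
      (p ^ n - 1) * (p ^ n - p) ∧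
    ∃ (F : Type) (_ : Field F) (_ : Fintype F) (e : Additive V ≃+ F),
      (∀ x : X, ∃ (a : F) (σ : F ≃+* F), ∀ v, e (conjL V p x v) = a * σ (e v)) ∧
      Nat.card (rhoT V p).range ∣ n * (p ^ n - 1) ∧ (p ^ n - 1) ∣ Nat.card (rhoT V p).range ∧
      Nat.card {W : AddSubgroup (Additive V) // Nat.card W = p ^ 2} * (p - 1) ∣
        Nat.card (rhoT V p).range := by
  classical
  have hp : p.Prime := Fact.out
  set Γ := (rhoT V p).range with hΓ
  haveI : Finite (Additive V) := inferInstanceAs (Finite V)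
  have hMcard : Nat.card (Additive V) = p ^ n := hVcard
  have hnt : Nontrivial (Additive V) := by
    rw [← Finite.one_lt_card_iff_nontrivial, hMcard]
    exact Nat.one_lt_pow (by omega) hp.one_lt
  haveI : Finite Γ := Finite.of_surjective _ (rhoT V p).rangeRestrict_surjective
  have hsolΓ : Group.IsSolvable Γ := Group.isSolvable_of_surjective (rhoT V p).rangeRestrict_surjective
  have hscal : ∀ z : (ZMod p)ˣ, DistribMulAction.toModuleAut (ZMod p) (Additive V) z ∈ Γ := by
    intro z
    refine ⟨(1, z), ?_⟩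
    apply LinearEquiv.ext
    intro v
    rw [rhoT_apply, map_one]
    rfl
  have hconj : ∀ x : X, conjL V p x ∈ Γ := by
    intro x
    refine ⟨(x, 1), ?_⟩
    apply LinearEquiv.ext
    intro v
    rw [rhoT_apply, Units.val_one, one_smul]
  have hts : ∀ W W' : AddSubgroup (Additive V), Nat.card W = p ^ 2 → Nat.card W' = p ^ 2 →
      ∃ g ∈ Γ, W' = W.map ((g : Additive V ≃ₗ[ZMod p] Additive V) :
        Additive V →ₗ[ZMod p] Additive V).toAddMonoidHom := by
    intro W W' hW hW'
    obtain ⟨x, hx⟩ := exists_conjL_map V p htr W W' (hW.trans hW'.symm)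
    exact ⟨conjL V p x, hconj x, hx⟩
  have hpsmul : ∀ v : Additive V, p • v = 0 := by
    intro v
    rw [← Nat.cast_smul_eq_nsmul (ZMod p), ZMod.natCast_self, zero_smul]
  have htv : ∀ v w : Additive V, v ≠ 0 → w ≠ 0 → ∃ g ∈ Γ, g v = w := by
    intro v w hv hw
    have hcv : Nat.card (AddSubgroup.zmultiples v) = p := by
      rw [Nat.card_zmultiples]
      exact addOrderOf_eq_prime (hpsmul v) hv
    have hcw : Nat.card (AddSubgroup.zmultiples w) = p := by
      rw [Nat.card_zmultiples]
      exact addOrderOf_eq_prime (hpsmul w) hw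
    obtain ⟨x, hx⟩ := exists_conjL_map V p htr _ _ (hcv.trans hcw.symm)
    have hw' : w ∈ AddSubgroup.zmultiples w := AddSubgroup.mem_zmultiples w
    rw [hx] at hw'
    obtain ⟨u, hu, huw⟩ := hw'
    obtain ⟨k, rfl⟩ := AddSubgroup.mem_zmultiples_iff.1 hu
    have h1 : conjL V p x (k • v) = w := huw
    have h2 : ((k : ZMod p)) • conjL V p x v = w := by
      rw [Int.cast_smul_eq_zsmul, ← map_zsmul]
      exact h1
    have hk0 : (k : ZMod p) ≠ 0 := by
      intro h0
      rw [h0, zero_smul] at h2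
      exact hw h2.symm
    refine ⟨DistribMulAction.toModuleAut (ZMod p) (Additive V) (Units.mk0 _ hk0) * conjL V p x,
      Γ.mul_mem (hscal _) (hconj x), ?_⟩
    exact h2
  -- counting
  have hB := Cfsg.Agent.Lib.Helper29_EqOrd_EOB.EOB (X := Multiplicative (Additive V)) (p := p) (n := n) ⊤
    (fun a _ b _ => mul_comm a b)
    (fun a _ => by
      have := hpsmul (Multiplicative.toAdd a)
      exact congrArg Multiplicative.ofAdd this)
    (by rw [Subgroup.card_top]; exact hMcard)
  have hcount := count_addSubgroups (M := Additive V) hB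
  set N₂ := Nat.card {W : AddSubgroup (Additive V) // Nat.card W = p ^ 2} with hN₂
  have hpn : p ^ 2 ≤ p ^ n := Nat.pow_le_pow_right hp.pos (by omega)
  have hN₂pos : 0 < N₂ := by
    rcases Nat.eq_zero_or_pos N₂ with h0 | h0
    · exfalso
      rw [h0, zero_mul] at hcount
      have h1 : 0 < p ^ n - 1 := by
        have : 2 ≤ p ^ 2 := by nlinarith [hp.two_le]
        omega
      have h2 : 0 < p ^ n - p := by
        have : p < p ^ 2 := by nlinarith [hp.two_le]
        omega
      exact absurd hcount.symm (Nat.mul_ne_zero h1.ne' h2.ne')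
    · exact h0
  obtain ⟨W₀⟩ : Nonempty {W : AddSubgroup (Additive V) // Nat.card W = p ^ 2} := by
    rw [← Finite.card_pos_iff]
    exact hN₂pos
  obtain ⟨hΓ1, hΓ2'⟩ := orbit_counting (M := Additive V) hMcard (by omega) Γ hscal htv hts
  have hΓ2 := hΓ2' W₀.1 W₀.2
  -- Huppert
  have hHup := Cfsg.Agent.S3360.result p (V := Additive V) (G := Γ) hsolΓ Γ.subtype
    Γ.subtype_injective (by
      intro v w hv hw
      obtain ⟨g, hg, hgv⟩ := htv v w hv hw
      exact ⟨⟨g, hg⟩, hgv⟩)
  rcases hHup with ⟨F, hFf, hFt, e, hsem⟩ | hexc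
  · have hF : Fintype.card F = p ^ n := by
      rw [← Nat.card_eq_fintype_card, ← Nat.card_congr e.toEquiv, hMcard]
    have hΓ3 : Nat.card Γ ∣ n * (p ^ n - 1) :=
      Cfsg.Agent.Lib.Helper23_EqOrd_EOD.EOD hF Γ.subtype Γ.subtype_injective e hsem
    have har := arith hp (by omega) hcount hΓ2 hΓ3
    refine ⟨Cfsg.Agent.Lib.Helper27_EqOrd_EOA.EOA hp hn har, hcount, F, hFf, hFt, e, ?_, hΓ3, hΓ1, hΓ2⟩
    intro x
    exact hsem ⟨conjL V p x, hconj x⟩
  · exfalso
    rw [hMcard] at hexc
    have h34 : p = 3 ∧ n = 4 := by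
      simp only [Set.mem_insert_iff, Set.mem_singleton_iff] at hexc
      rcases hexc with h | h | h | h | h | h
      · have h2 := prime_pow_eq hp (by norm_num : (3 : ℕ).Prime) (show 1 ≤ n by omega) (m := 2) (by rw [h]; norm_num)
        exact absurd h2.2 (by omega)
      · have h2 := prime_pow_eq hp (by norm_num : (5 : ℕ).Prime) (show 1 ≤ n by omega) (m := 2) (by rw [h]; norm_num)
        exact absurd h2.2 (by omega)
      · have h2 := prime_pow_eq hp (by norm_num : (7 : ℕ).Prime) (show 1 ≤ n by omega) (m := 2) (by rw [h]; norm_num)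
        exact absurd h2.2 (by omega)
      · have h2 := prime_pow_eq hp (by norm_num : (11 : ℕ).Prime) (show 1 ≤ n by omega) (m := 2) (by rw [h]; norm_num)
        exact absurd h2.2 (by omega)
      · have h2 := prime_pow_eq hp (by norm_num : (23 : ℕ).Prime) (show 1 ≤ n by omega) (m := 2) (by rw [h]; norm_num)
        exact absurd h2.2 (by omega)
      · exact prime_pow_eq hp (by norm_num : (3 : ℕ).Prime) (show 1 ≤ n by omega) (m := 4) (by rw [h]; norm_num)
    obtain ⟨rfl, rfl⟩ := h34
    have h80 : (80 : ℕ) ∣ Nat.card Γ := by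
      have : (3 : ℕ) ^ 4 - 1 = 80 := by norm_num
      rw [← this]
      exact hΓ1
    have hN130 : N₂ = 130 := by
      have h1 : N₂ * 48 = 6240 := by
        have : ((3 : ℕ) ^ 2 - 1) * (3 ^ 2 - 3) = 48 := by norm_num
        rw [← this, hcount]
        norm_num
      omega
    have h260 : (260 : ℕ) ∣ Nat.card Γ := by
      have : N₂ * (3 - 1) = 260 := by rw [hN130]
      rw [← this]
      exact hΓ2
    exact Cfsg.Agent.Lib.Helper27_EqOrd_EOE.EOE (V := Additive V) (by rw [hMcard]; norm_num) hsolΓ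
      Γ.subtype Γ.subtype_injective (Dvd.dvd.trans (by norm_num) h80)
      (Dvd.dvd.trans (by norm_num) h260)

end Cfsg.Agent.Lib.Helper20_EqOrdCore
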