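import Cfsg.Agent.Lib.Helper20_EqOrdCore

set_option autoImplicit false

namespace Cfsg.Agent.Lib.Helper20_EqOrdCore2

open Cfsg.Agent.Lib.Helper20_EqOrdCore

open scoped IsMulCommutative

/-- the embedding into the group of permutations of `F`: the action on the cosets of a complement -/
theorem core2 {X : Type*} [Group X] [Finite X] {p n : ℕ} [Fact p.Prime]
    (V : Subgroup X) [V.Normal] [IsMulCommutative V] [Module (ZMod p) (Additive V)]
    (hVcard : Nat.card V = p ^ n) (hindex : ¬ p ∣ V.index)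
    (hCV : Subgroup.centralizer (V : Set X) ≤ V)
    {F : Type} [Field F] (e : Additive V ≃+ F)
    (hsem : ∀ x : X, ∃ (a : F) (σ : F ≃+* F), ∀ v, e (conjL V p x v) = a * σ (e v)) :
    ∃ (f : X →* Equiv.Perm F) (A₀ : Subgroup X), Function.Injective f ∧
      (∀ x, f x ∈ Cfsg.semiaffineGroup F) ∧ Nat.card A₀ = V.index ∧
      (∀ (v : V) (g : X), g ∈ A₀ → ∀ w : F,
        f ((v : X) * g) w = e (Additive.ofMul v) + e (conjL V p g (e.symm w))) ∧
      (∀ x : X, ∃ (v : V) (g : X), g ∈ A₀ ∧ x = (v : X) * g) := by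
  classical
  have hp : p.Prime := Fact.out
  have hcop : Nat.Coprime (Nat.card V) V.index := by
    rw [hVcard]
    exact Nat.Coprime.pow_left n ((Nat.Prime.coprime_iff_not_dvd hp).2 hindex)
  obtain ⟨A₀, hcompl⟩ := Subgroup.exists_right_complement'_of_coprime hcop
  have hdisj : Disjoint V A₀ := hcompl.disjoint
  have hdec : ∀ x : X, ∃ (v : V) (g : X), g ∈ A₀ ∧ x = (v : X) * g := by
    intro x
    obtain ⟨⟨v, g⟩, hvg, -⟩ := (Subgroup.isComplement_iff_existsUnique.1 hcompl) x
    exact ⟨v, g.1, g.2, hvg.symm⟩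
  -- the bijection `V ≃ X ⧸ A₀`
  let vq : V → X ⧸ A₀ := fun v => ((v : X) : X ⧸ A₀)
  have hvq : Function.Bijective vq := by
    constructor
    · intro v v' hvv
      have h1 : (v : X)⁻¹ * (v' : X) ∈ A₀ := QuotientGroup.eq.1 hvv
      have h2 : (v : X)⁻¹ * (v' : X) ∈ V := V.mul_mem (V.inv_mem v.2) v'.2
      have h3 : (v : X)⁻¹ * (v' : X) = 1 := by
        have : (v : X)⁻¹ * (v' : X) ∈ V ⊓ A₀ := Subgroup.mem_inf.2 ⟨h2, h1⟩
        rw [hdisj.eq_bot, Subgroup.mem_bot] at this
        exact this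
      exact Subtype.ext (inv_mul_eq_one.1 h3)
    · intro q
      induction q using QuotientGroup.induction_on with
      | H x =>
        obtain ⟨v, g, hg, rfl⟩ := hdec x
        refine ⟨v, ?_⟩
        apply QuotientGroup.eq.2
        have : (v : X)⁻¹ * ((v : X) * g) = g := by group
        rw [this]
        exact hg
  let γ : X ⧸ A₀ ≃ F :=
    (Equiv.ofBijective vq hvq).symm.trans (Additive.ofMul.trans e.toEquiv)
  have hγ : ∀ v : V, γ ((v : X) : X ⧸ A₀) = e (Additive.ofMul v) := by
    intro v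
    change e (Additive.ofMul ((Equiv.ofBijective vq hvq).symm (vq v))) = _
    rw [Equiv.ofBijective_symm_apply_apply]
  have hγs : ∀ w : F, γ.symm w = (((Additive.toMul (e.symm w) : V) : X) : X ⧸ A₀) := by
    intro w
    rw [Equiv.symm_apply_eq, hγ]
    simp
  let f : X →* Equiv.Perm F := (γ.permCongrHom).toMonoidHom.comp (MulAction.toPermHom X (X ⧸ A₀))
  have hf : ∀ (x : X) (w : F), f x w = γ (x • γ.symm w) := fun x w => rfl
  have hform : ∀ (v : V) (g : X), g ∈ A₀ → ∀ w : F,
      f ((v : X) * g) w = e (Additive.ofMul v) + e (conjL V p g (e.symm w)) := by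
    intro v g hg w
    rw [hf, hγs]
    set u : V := Additive.toMul (e.symm w) with hu
    have h1 : ((v : X) * g) • (((u : X)) : X ⧸ A₀) =
        (((v * (MulAut.conjNormal g u) : V) : X) : X ⧸ A₀) := by
      rw [MulAction.Quotient.smul_mk, smul_eq_mul]
      apply QuotientGroup.eq.2
      rw [Subgroup.coe_mul, MulAut.conjNormal_apply]
      have : ((v : X) * g * (u : X))⁻¹ * ((v : X) * (g * (u : X) * g⁻¹)) = g⁻¹ := by group
      rw [this]
      exact A₀.inv_mem hg
    rw [h1, hγ, ofMul_mul, map_add]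
    rfl
  refine ⟨f, A₀, ?_, ?_, ?_, hform, hdec⟩
  · -- injectivity
    rw [injective_iff_map_eq_one]
    intro x hx
    have hx1 : x ∈ (MulAction.toPermHom X (X ⧸ A₀)).ker := by
      rw [MonoidHom.mem_ker]
      have : γ.permCongrHom (MulAction.toPermHom X (X ⧸ A₀) x) = 1 := hx
      exact (MulEquiv.map_eq_one_iff _).1 this
    rw [← Subgroup.normalCore_eq_ker] at hx1
    set K := A₀.normalCore with hK
    have hKA : K ≤ A₀ := Subgroup.normalCore_le A₀
    have hKV : Disjoint K V := (hdisj.mono_right hKA).symm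
    have hcomm : ∀ v ∈ V, v * x = x * v := by
      intro v hv
      exact (Subgroup.commute_of_normal_of_disjoint K V inferInstance inferInstance hKV x v hx1 hv).eq.symm
    have hxV : x ∈ V := hCV (Subgroup.mem_centralizer_iff.2 hcomm)
    have : x ∈ V ⊓ A₀ := Subgroup.mem_inf.2 ⟨hxV, hKA hx1⟩
    rw [hdisj.eq_bot, Subgroup.mem_bot] at this
    exact this
  · -- semiaffine
    intro x
    obtain ⟨v, g, hg, rfl⟩ := hdec x
    obtain ⟨a, σ, haσ⟩ := hsem g
    have ha0 : a ≠ 0 := by
      intro h0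
      have h1 := haσ (e.symm 1)
      rw [h0, zero_mul] at h1
      have h2 : conjL V p g (e.symm 1) = 0 := by
        apply e.injective
        rw [h1, map_zero]
      have h3 : e.symm 1 = 0 := (LinearEquiv.map_eq_zero_iff _).1 h2
      have h4 : (1 : F) = 0 := by
        have := congrArg e h3
        rwa [AddEquiv.apply_symm_apply, map_zero] at this
      exact one_ne_zero h4
    refine ⟨Units.mk0 a ha0, e (Additive.ofMul v), σ, fun w => ?_⟩
    rw [hform v g hg w, haσ, AddEquiv.apply_symm_apply, add_comm]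
    rfl
  · have := hcompl.card_mul_card
    have h2 := V.card_mul_index
    have hV0 : 0 < Nat.card V := Nat.card_pos
    exact Nat.eq_of_mul_eq_mul_left hV0 (this.trans h2.symm)

end Cfsg.Agent.Lib.Helper20_EqOrdCore2
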