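import Cfsg.Agent.Lib.Helper20_EqOrdCore2

set_option autoImplicit false

namespace Cfsg.Agent.Lib.Helper20_EqOrdCore3

open Cfsg.Agent.Lib.Helper20_EqOrdCore Cfsg.Agent.Lib.Helper20_EqOrdCore2

open scoped IsMulCommutative

section setup

variable {X : Type*} [Group X] (V : Subgroup X) [V.Normal] [IsMulCommutative V] (p : ℕ)
  [Module (ZMod p) (Additive V)]

/-- the kernel of the conjugation action is `V` when `V` is self-centralizing -/
theorem conjL_ker (hCV : Subgroup.centralizer (V : Set X) ≤ V) : (conjL V p).ker = V := by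
  ext x
  rw [MonoidHom.mem_ker]
  constructor
  · intro hx
    apply hCV
    rw [Subgroup.mem_centralizer_iff]
    intro v hv
    have h1 := coe_conjL_apply V p x (Additive.ofMul ⟨v, hv⟩)
    rw [hx] at h1
    have h2 : v = x * v * x⁻¹ := h1
    calc v * x = (x * v * x⁻¹) * x := by rw [← h2]
      _ = x * v := by group
  · intro hx
    apply LinearEquiv.ext
    intro v
    apply Additive.toMul.injective
    apply Subtype.ext
    rw [coe_conjL_apply]
    have h1 : (⟨x, hx⟩ : V) * Additive.toMul v = Additive.toMul v * ⟨x, hx⟩ := mul_comm _ _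
    have h2 : x * ((Additive.toMul v : V) : X) = ((Additive.toMul v : V) : X) * x :=
      congrArg Subtype.val h1
    rw [h2]
    change _ = ((Additive.toMul v : V) : X)
    group

theorem card_range_conjL (hCV : Subgroup.centralizer (V : Set X) ≤ V) :
    Nat.card (conjL V p).range = V.index := by
  rw [← Subgroup.index_ker, conjL_ker V p hCV]

/-- powers of an element acting by a scalar act by the power of the scalar -/
theorem lin_pow {F : Type*} [Field F] (e : Additive V ≃+ F) (g : X) (c : F)
    (h : ∀ v, e (conjL V p g v) = c * e v) (k : ℕ) :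
    ∀ v, e (conjL V p (g ^ k) v) = c ^ k * e v := by
  induction k with
  | zero =>
    intro v
    rw [pow_zero, map_one, pow_zero, one_mul]
    rfl
  | succ k ih =>
    intro v
    rw [pow_succ, map_mul, pow_succ]
    change e (conjL V p (g ^ k) (conjL V p g v)) = _
    rw [ih, h]
    ring

/-- the cube of a semilinear map whose field automorphism has order dividing 3 is linear -/
theorem semi_cube {F : Type*} [Field F] (e : Additive V ≃+ F) (g : X) (a : F) (σ : F ≃+* F)
    (h : ∀ v, e (conjL V p g v) = a * σ (e v)) (hσ : ∀ w, σ (σ (σ w)) = w) :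
    ∀ v, e (conjL V p (g ^ 3) v) = (a * σ a * σ (σ a)) * e v := by
  intro v
  have h3 : g ^ 3 = g * g * g := by rw [pow_succ, pow_two]
  rw [h3, map_mul, map_mul]
  change e (conjL V p g (conjL V p g (conjL V p g v))) = _
  rw [h, h, h, map_mul, map_mul, map_mul, hσ]
  ring

end setup

/-- a finite field with `p ^ n` elements is isomorphic to the Galois field -/
theorem exists_ringEquiv_galoisField {F : Type*} [Field F] [Fintype F] {p n : ℕ} [Fact p.Prime]
    (hF : Fintype.card F = p ^ n) (hn : n ≠ 0) : Nonempty (F ≃+* GaloisField p n) := by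
  have hp : p.Prime := Fact.out
  obtain ⟨q, hq⟩ := CharP.exists F
  obtain ⟨m, hqp, hm⟩ := FiniteField.card F q
  have hpq : p = q := by
    have h1 : p ∣ q ^ (m : ℕ) := by
      rw [← hm, hF]; exact dvd_pow_self p hn
    exact (Nat.prime_dvd_prime_iff_eq hp hqp).1 (hp.dvd_of_dvd_pow h1)
  subst hpq
  let _ : Algebra (ZMod p) F := ZMod.algebra F p
  exact ⟨(GaloisField.algEquivGaloisFieldOfFintype p n hF).toRingEquiv⟩

/-- the embedding into the semiaffine group of the Galois field -/
theorem core_gen {X : Type*} [Group X] [Finite X] [Group.IsSolvable X] {p n : ℕ} [Fact p.Prime]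
    (hn : 3 ≤ n) (V : Subgroup X) [V.Normal] [IsMulCommutative V] [Module (ZMod p) (Additive V)]
    (hVcard : Nat.card V = p ^ n) (hindex : ¬ p ∣ V.index)
    (hCV : Subgroup.centralizer (V : Set X) ≤ V)
    (htr : ∀ H K : Subgroup X, H ≤ V → K ≤ V → Nat.card H = Nat.card K →
      ∃ x : X, K = H.map (MulAut.conj x).toMonoidHom) :
    ∃ f : X →* ↥(Cfsg.semiaffineGroup (GaloisField p n)), Function.Injective f := by
  classical
  obtain ⟨-, -, F, hFf, hFt, e, hsem, -, -, -⟩ := core1 hn V hVcard htr
  obtain ⟨f, A₀, hfinj, hfsem, -, -, -⟩ := core2 V hVcard hindex hCV e hsem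
  have hF : Fintype.card F = p ^ n := by
    rw [← Nat.card_eq_fintype_card, ← Nat.card_congr e.toEquiv]
    exact hVcard
  obtain ⟨φ⟩ := exists_ringEquiv_galoisField hF (by omega)
  obtain ⟨⟨ψs⟩, -⟩ := Cfsg.Agent.Lib.Helper29_EqOrd_EOC.EOC4 φ
  refine ⟨ψs.toMonoidHom.comp (f.codRestrict _ hfsem), ?_⟩
  intro x y hxy
  have h1 : f.codRestrict _ hfsem x = f.codRestrict _ hfsem y := ψs.injective hxy
  exact hfinj (congrArg Subtype.val h1)

/-- the case `p = 2` -/
theorem core_two {X : Type*} [Group X] [Finite X] [Group.IsSolvable X] {n : ℕ}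
    (hn : 3 ≤ n) (V : Subgroup X) [V.Normal] [IsMulCommutative V] [Module (ZMod 2) (Additive V)]
    (hVcard : Nat.card V = 2 ^ n) (hindex : ¬ 2 ∣ V.index)
    (hCV : Subgroup.centralizer (V : Set X) ≤ V)
    (htr : ∀ H K : Subgroup X, H ≤ V → K ≤ V → Nat.card H = Nat.card K →
      ∃ x : X, K = H.map (MulAut.conj x).toMonoidHom) :
    (n = 3 ∧ (Nonempty (X ≃* Cfsg.semiaffineGroup (GaloisField 2 3)) ∨
               Nonempty (X ≃* Cfsg.affineGroup (GaloisField 2 3)))) ∨
    (n = 5 ∧ Nonempty (X ≃* Cfsg.semiaffineGroup (GaloisField 2 5))) := by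
  classical
  obtain ⟨hn35, hcount, F, hFf, hFt, e, hsem, hΓ3, hΓ1, hΓ2⟩ := core1 (p := 2) hn V hVcard htr
  obtain ⟨f, A₀, hfinj, hfsem, hA₀, hform, hdec⟩ := core2 (p := 2) V hVcard hindex hCV e hsem
  have hF : Fintype.card F = 2 ^ n := by
    rw [← Nat.card_eq_fintype_card, ← Nat.card_congr e.toEquiv]
    exact hVcard
  have hΓ : Nat.card (rhoT V 2).range = V.index := by
    have h1 : (rhoT V 2).range = (conjL V 2).range := by
      ext g
      constructor
      · rintro ⟨⟨x, z⟩, rfl⟩
        refine ⟨x, ?_⟩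
        apply LinearEquiv.ext
        intro v
        have hz : z = 1 := Subsingleton.elim _ _
        rw [rhoT_apply, hz, Units.val_one, one_smul]
      · rintro ⟨x, rfl⟩
        refine ⟨(x, 1), ?_⟩
        apply LinearEquiv.ext
        intro v
        rw [rhoT_apply, Units.val_one, one_smul]
    rw [h1, card_range_conjL V 2 hCV]
  rw [hΓ] at hΓ3 hΓ1 hΓ2
  have hX : Nat.card X = 2 ^ n * V.index := by
    rw [← hVcard]
    exact (V.card_mul_index).symm
  obtain ⟨φ⟩ := exists_ringEquiv_galoisField hF (by omega)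
  obtain ⟨⟨ψs⟩, ⟨ψa⟩⟩ := Cfsg.Agent.Lib.Helper29_EqOrd_EOC.EOC4 φ
  have hfS : Function.Injective (f.codRestrict _ hfsem) := by
    intro x y hxy
    exact hfinj (congrArg Subtype.val hxy)
  have hSle := Cfsg.Agent.Lib.Helper29_EqOrd_EOC.EOC2 hF
  rcases hn35 with rfl | ⟨rfl, -⟩
  · left
    refine ⟨rfl, ?_⟩
    have h7 : 7 ∣ V.index := by
      norm_num at hΓ1
      exact hΓ1
    have h21 : V.index ∣ 21 := by
      norm_num at hΓ3
      exact hΓ3
    have hidx : V.index = 7 ∨ V.index = 21 := by
      obtain ⟨k, hk⟩ := h7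
      rw [hk] at h21 ⊢
      have hk3 : k ∣ 3 := by
        have : 7 * k ∣ 7 * 3 := h21
        exact Nat.dvd_of_mul_dvd_mul_left (by norm_num) this
      have hk' : k = 1 ∨ k = 3 := (Nat.dvd_prime (by norm_num)).1 hk3
      rcases hk' with rfl | rfl
      · left; rfl
      · right; rfl
    rcases hidx with h | h
    · right
      have hA7 : Nat.card A₀ = 7 := hA₀.trans h
      have hRA : Nat.card (RingAut F) = 3 := Cfsg.Agent.Lib.Helper29_EqOrd_EOC.EOC1 hF
      have haff : ∀ x, f x ∈ Cfsg.affineGroup F := by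
        intro x
        obtain ⟨v, g, hg, rfl⟩ := hdec x
        obtain ⟨a, σ, haσ⟩ := hsem g
        have hσ3 : ∀ w, σ (σ (σ w)) = w := by
          intro w
          have h3 : (σ : RingAut F) ^ 3 = 1 := by
            have := pow_card_eq_one' (G := RingAut F) (x := σ)
            rwa [hRA] at this
          have h4 := congrArg (fun τ : RingAut F => τ w) h3
          simpa [pow_succ, RingAut.mul_apply] using h4
        have hg7 : g ^ 7 = 1 := by
          have h1 := pow_card_eq_one' (G := A₀) (x := ⟨g, hg⟩)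
          rw [hA7] at h1
          have h2 := congrArg Subtype.val h1
          simpa using h2
        have hcube := semi_cube V 2 e g a σ haσ hσ3
        have hpow := lin_pow V 2 e (g ^ 3) _ hcube 5
        have hg15 : (g ^ 3) ^ 5 = g := by
          rw [← pow_mul]
          calc g ^ (3 * 5) = (g ^ 7) ^ 2 * g := by rw [← pow_mul, ← pow_succ]
            _ = g := by rw [hg7, one_pow, one_mul]
        rw [hg15] at hpow
        set c := (a * σ a * σ (σ a)) ^ 5 with hc
        have hc0 : c ≠ 0 := by
          intro h0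
          have h1 := hpow (e.symm 1)
          rw [h0, zero_mul] at h1
          have h2 : conjL V 2 g (e.symm 1) = 0 := by
            apply e.injective
            rw [h1, map_zero]
          have h3 : e.symm 1 = 0 := (LinearEquiv.map_eq_zero_iff _).1 h2
          have h4 : (1 : F) = 0 := by
            have := congrArg e h3
            rwa [AddEquiv.apply_symm_apply, map_zero] at this
          exact one_ne_zero h4
        refine ⟨Units.mk0 c hc0, e (Additive.ofMul v), fun w => ?_⟩
        rw [hform v g hg w, hpow, AddEquiv.apply_symm_apply, add_comm]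
        rfl
      have hfA : Function.Injective (f.codRestrict _ haff) := by
        intro x y hxy
        exact hfinj (congrArg Subtype.val hxy)
      have hAle := Cfsg.Agent.Lib.Helper29_EqOrd_EOC.EOC3 (F := F)
      rw [hF] at hAle
      have hXcard : Nat.card X = 56 := by rw [hX, h]; norm_num
      have hbij : Function.Bijective (f.codRestrict _ haff) :=
        hfA.bijective_of_nat_card_le (by rw [hXcard]; exact hAle.trans (by norm_num))
      exact ⟨(MulEquiv.ofBijective _ hbij).trans ψa⟩
    · left
      have hXcard : Nat.card X = 168 := by rw [hX, h]; norm_num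
      have hbij : Function.Bijective (f.codRestrict _ hfsem) :=
        hfS.bijective_of_nat_card_le (by rw [hXcard]; exact hSle.trans (by norm_num))
      exact ⟨(MulEquiv.ofBijective _ hbij).trans ψs⟩
  · right
    refine ⟨rfl, ?_⟩
    set N₂ := Nat.card {W : AddSubgroup (Additive V) // Nat.card W = 2 ^ 2} with hN₂
    have hN155 : N₂ = 155 := by
      norm_num at hcount
      omega
    have h155 : V.index = 155 := by
      apply Nat.dvd_antisymm
      · norm_num at hΓ3
        exact hΓ3
      · rw [hN155] at hΓ2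
        norm_num at hΓ2
        exact hΓ2
    have hXcard : Nat.card X = 4960 := by rw [hX, h155]; norm_num
    have hbij : Function.Bijective (f.codRestrict _ hfsem) :=
      hfS.bijective_of_nat_card_le (by rw [hXcard]; exact hSle.trans (by norm_num))
    exact ⟨(MulEquiv.ofBijective _ hbij).trans ψs⟩

/-- the abstract form of S4025 -/
theorem core3 {X : Type*} [Group X] [Finite X] [Group.IsSolvable X] {p n : ℕ} [Fact p.Prime]
    (hn : 3 ≤ n) (V : Subgroup X) [V.Normal]
    (hVcomm : ∀ a ∈ V, ∀ b ∈ V, a * b = b * a) (hVexp : ∀ a ∈ V, a ^ p = 1)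
    (hVcard : Nat.card V = p ^ n) (hindex : ¬ p ∣ V.index)
    (hCV : Subgroup.centralizer (V : Set X) ≤ V)
    (htr : ∀ H K : Subgroup X, H ≤ V → K ≤ V → Nat.card H = Nat.card K →
      ∃ x : X, K = H.map (MulAut.conj x).toMonoidHom) :
    (n = 3 ∧ (∃ f : X →* ↥(Cfsg.semiaffineGroup (GaloisField p 3)), Function.Injective f) ∧
      (p = 2 → Nonempty (X ≃* Cfsg.semiaffineGroup (GaloisField 2 3)) ∨
               Nonempty (X ≃* Cfsg.affineGroup (GaloisField 2 3)))) ∨
    (n = 5 ∧ p = 2 ∧ Nonempty (X ≃* Cfsg.semiaffineGroup (GaloisField 2 5))) := by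
  classical
  haveI : IsMulCommutative V := ⟨⟨fun a b => Subtype.ext (hVcomm a a.2 b b.2)⟩⟩
  letI : Module (ZMod p) (Additive V) := AddCommGroup.zmodModule (by
    intro v
    have h1 := hVexp (Additive.toMul v : V) (Additive.toMul v : V).2
    apply Additive.toMul.injective
    apply Subtype.ext
    simpa using h1)
  obtain ⟨hn35, -⟩ := core1 hn V hVcard htr
  rcases hn35 with rfl | ⟨rfl, rfl⟩
  · left
    refine ⟨rfl, core_gen hn V hVcard hindex hCV htr, ?_⟩
    intro hp2
    subst hp2
    rcases core_two hn V hVcard hindex hCV htr with ⟨-, h⟩ | ⟨h5, -⟩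
    · exact h
    · omega
  · right
    refine ⟨rfl, rfl, ?_⟩
    rcases core_two hn V hVcard hindex hCV htr with ⟨h3, -⟩ | ⟨-, h⟩
    · omega
    · exact h

end Cfsg.Agent.Lib.Helper20_EqOrdCore3
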