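import Mathlib
import Cfsg.Prelude.Def_Solvable
import Cfsg.Prelude.Def_CaseTheorems
import Cfsg.Prelude.Def_Transfer
import Cfsg.Agent.Lib.Helper32_Cores

set_option autoImplicit false

/-!
# Reduction for S4025 (helper20)

`centralizer_le_of_normal_abelian_sylow`, Burnside's fusion lemma for subgroups of an abelian Sylow
subgroup, and the passage from `G` to `N_G(P) / O_{p'}(N_G(P))`.
-/

namespace Cfsg.Agent.Lib.Helper20_EqOrdRed

open Subgroup

/-- In a finite group with trivial `p'`-core, a normal abelian Sylow `p`-subgroup is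
self-centralising. -/
theorem centralizer_le_of_normal_abelian_sylow {X : Type*} [Group X] [Finite X] {p : ℕ} [Fact p.Prime]
    (V : Subgroup X) [V.Normal] (hVp : IsPGroup p V) (hVcomm : ∀ a ∈ V, ∀ b ∈ V, a * b = b * a)
    (hindex : ¬ p ∣ V.index) (hO : Cfsg.pPrimeCore p X = ⊥) :
    centralizer (V : Set X) ≤ V := by
  classical
  set C := centralizer (V : Set X) with hC
  have hVC : V ≤ C := fun v hv => by
    rw [hC, mem_centralizer_iff]
    intro w hw
    exact hVcomm w hw v hv
  have hQp : IsPGroup p (V.subgroupOf C) := hVp.comap_subtype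
  have hQi : ¬ p ∣ (V.subgroupOf C).index := by
    intro h
    apply hindex
    rw [← relIndex_mul_index hVC]
    exact Dvd.dvd.mul_right h _
  let Q : Sylow p C := hQp.toSylow hQi
  have hQ : (Q : Subgroup C) = V.subgroupOf C := rfl
  have hQN : normalizer ((Q : Subgroup C) : Set C) ≤ centralizer ((Q : Subgroup C) : Set C) := by
    intro c _
    rw [mem_centralizer_iff]
    intro v hv
    rw [SetLike.mem_coe, hQ, mem_subgroupOf] at hv
    have := mem_centralizer_iff.1 (show (c : X) ∈ centralizer (V : Set X) from c.2)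
    exact Subtype.ext (this v.1 hv)
  have hcompl := MonoidHom.ker_transferSylow_isComplement' Q hQN
  have hnd := MonoidHom.not_dvd_card_ker_transferSylow Q hQN
  set M : Subgroup C := (MonoidHom.transferSylow Q hQN).ker with hM
  have hMn : M.Normal := by rw [hM]; infer_instance
  -- `M` is trivial
  have hMbot : M = ⊥ := by
    have hsub : (M.map C.subtype).IsSubnormal := by
      refine IsSubnormal.step _ C (map_subtype_le M) ?_ ?_
      · exact Subgroup.Normal.isSubnormal inferInstance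
      · have : (M.map C.subtype).subgroupOf C = M :=
          comap_map_eq_self_of_injective C.subtype_injective M
        rw [this]
        exact hMn
    have hcop : (Nat.card (M.map C.subtype)).Coprime p := by
      rw [card_subtype, Nat.coprime_comm]
      exact (Nat.Prime.coprime_iff_not_dvd Fact.out).2 hnd
    have h1 := Cfsg.Agent.Lib.Helper32_Cores.le_pPrimeCore_of_isSubnormal p _ hsub hcop
    rw [hO, le_bot_iff] at h1
    exact (map_eq_bot_iff_of_injective M C.subtype_injective).1 h1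
  rw [hMbot] at hcompl
  have hQtop : (Q : Subgroup C) = ⊤ := (isComplement'_bot_left).1 hcompl
  intro c hc
  have : (⟨c, hc⟩ : C) ∈ (Q : Subgroup C) := by rw [hQtop]; exact mem_top _
  rw [hQ, mem_subgroupOf] at this
  exact this

/-- Burnside: with an abelian Sylow `p`-subgroup `P`, subgroups of `P` that are conjugate in `G`
are conjugate in `N_G(P)`. -/
theorem exists_normalizer_conj {G : Type*} [Group G] [Finite G] {p : ℕ} [Fact p.Prime] (P : Sylow p G)
    (hP : ∀ a ∈ P, ∀ b ∈ P, a * b = b * a) (H K : Subgroup G) (hH : H ≤ P) (hK : K ≤ P) (g : G)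
    (hg : K = H.map (MulAut.conj g).toMonoidHom) :
    ∃ m ∈ normalizer ((P : Subgroup G) : Set G), K = H.map (MulAut.conj m).toMonoidHom := by
  have h1 : (P : Subgroup G) ≤ centralizer (K : Set G) := by
    intro x hx
    rw [mem_centralizer_iff]
    intro k hk
    exact hP k (hK hk) x hx
  have h2 : ((g • P : Sylow p G) : Subgroup G) ≤ centralizer (K : Set G) := by
    rintro - ⟨z, hz, rfl⟩
    rw [mem_centralizer_iff]
    intro k hk
    rw [SetLike.mem_coe, hg] at hk
    obtain ⟨h, hh, rfl⟩ := hk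
    have := hP h (hH hh) z hz
    simp only [MulEquiv.coe_toMonoidHom, MulAut.conj_apply, MulDistribMulAction.toMonoidEnd_apply,
      MulDistribMulAction.toMonoidHom_apply, MulAut.smul_def]
    calc g * h * g⁻¹ * (g * z * g⁻¹) = g * (h * z) * g⁻¹ := by group
      _ = g * (z * h) * g⁻¹ := by rw [this]
      _ = g * z * g⁻¹ * (g * h * g⁻¹) := by group
  obtain ⟨c, hc⟩ :=
    MulAction.exists_smul_eq (centralizer (K : Set G)) ((g • P).subtype h2) (P.subtype h1)
  simp_rw [Sylow.smul_subtype, Subgroup.smul_def, smul_smul] at hc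
  refine ⟨c * g, Sylow.smul_eq_iff_mem_normalizer.mp (Sylow.subtype_injective hc), ?_⟩
  ext x
  constructor
  · intro hx
    have hx' := hx
    rw [hg] at hx'
    obtain ⟨h, hh, rfl⟩ := hx'
    refine ⟨h, hh, ?_⟩
    have hcx := (mem_centralizer_iff.1 c.2) _ hx
    simp only [MulEquiv.coe_toMonoidHom, MulAut.conj_apply] at hcx ⊢
    calc (c : G) * g * h * ((c : G) * g)⁻¹ = (c : G) * (g * h * g⁻¹) * (c : G)⁻¹ := by group
      _ = (g * h * g⁻¹) * (c : G) * (c : G)⁻¹ := by rw [← hcx]
      _ = g * h * g⁻¹ := by group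
  · rintro ⟨h, hh, rfl⟩
    have hk : g * h * g⁻¹ ∈ K := by
      rw [hg]
      exact ⟨h, hh, rfl⟩
    have hcx := (mem_centralizer_iff.1 c.2) _ hk
    simp only [MulEquiv.coe_toMonoidHom, MulAut.conj_apply]
    have : (c : G) * g * h * ((c : G) * g)⁻¹ = g * h * g⁻¹ := by
      calc (c : G) * g * h * ((c : G) * g)⁻¹ = (c : G) * (g * h * g⁻¹) * (c : G)⁻¹ := by group
        _ = (g * h * g⁻¹) * (c : G) * (c : G)⁻¹ := by rw [← hcx]
        _ = g * h * g⁻¹ := by group
    rw [this]
    exact hk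

section lift

variable {N X : Type*} [Group N] [Group X] (π : N →* X) (PN : Subgroup N)

/-- lifting a subgroup of the image of `PN` along a hom injective on `PN` keeps the order -/
theorem card_lift (hinj : ∀ u ∈ PN, π u = 1 → u = 1) (H : Subgroup X) (hH : H ≤ PN.map π) :
    Nat.card ((H.comap π ⊓ PN : Subgroup N)) = Nat.card H := by
  let f : (H.comap π ⊓ PN : Subgroup N) → H := fun u => ⟨π u.1, (mem_inf.1 u.2).1⟩
  apply Nat.card_congr
  refine Equiv.ofBijective f ⟨?_, ?_⟩
  · intro u u' huu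
    have h1 : π u.1 = π u'.1 := congrArg Subtype.val huu
    have h2 : π (u.1 * u'.1⁻¹) = 1 := by rw [map_mul, map_inv, h1, mul_inv_cancel]
    have h3 := hinj _ (PN.mul_mem (mem_inf.1 u.2).2 (PN.inv_mem (mem_inf.1 u'.2).2)) h2
    exact Subtype.ext (mul_inv_eq_one.1 h3)
  · intro h
    obtain ⟨u, hu, huh⟩ := hH h.2
    exact ⟨⟨u, mem_inf.2 ⟨by rw [mem_comap, huh]; exact h.2, hu⟩⟩, Subtype.ext huh⟩

theorem map_lift (H : Subgroup X) (hH : H ≤ PN.map π) :
    (H.comap π ⊓ PN : Subgroup N).map π = H := by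
  ext x
  constructor
  · rintro ⟨u, hu, rfl⟩
    exact (mem_inf.1 hu).1
  · intro hx
    obtain ⟨u, hu, rfl⟩ := hH hx
    exact ⟨u, mem_inf.2 ⟨hx, hu⟩, rfl⟩

end lift

/-- The reduction of S4025 to the group `X = N / O_{p'}(N)`. -/
theorem reduction {G : Type*} [Group G] [Finite G] {p : ℕ} [Fact p.Prime]
    (hC : ∀ H K : Subgroup G, IsPGroup p H → IsPGroup p K → Nat.card H = Nat.card K →
      ∃ g : G, K = H.map (MulAut.conj g).toMonoidHom) (P : Sylow p G) (n : ℕ)
    (hel : Cfsg.IsElementaryAbelian p (P : Subgroup G)) (hcard : Nat.card P = p ^ n)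
    (N : Subgroup G) (hN : N = Subgroup.normalizer ((P : Subgroup G) : Set G)) :
    ∃ V : Subgroup (N ⧸ Cfsg.pPrimeCore p N), V.Normal ∧ (∀ a ∈ V, ∀ b ∈ V, a * b = b * a) ∧
      (∀ a ∈ V, a ^ p = 1) ∧ Nat.card V = p ^ n ∧ (¬ p ∣ V.index) ∧
      centralizer (V : Set (N ⧸ Cfsg.pPrimeCore p N)) ≤ V ∧
      ∀ H K : Subgroup (N ⧸ Cfsg.pPrimeCore p N), H ≤ V → K ≤ V → Nat.card H = Nat.card K →
        ∃ x, K = H.map (MulAut.conj x).toMonoidHom := by
  classical
  subst hN
  set N := Subgroup.normalizer ((P : Subgroup G) : Set G) with hNdef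
  obtain ⟨hcomm, hexp⟩ := hel
  have hPcomm : ∀ a ∈ P, ∀ b ∈ P, a * b = b * a := fun a ha b hb =>
    congrArg Subtype.val (hcomm.is_comm.comm (⟨a, ha⟩ : (P : Subgroup G)) ⟨b, hb⟩)
  have hPN : (P : Subgroup G) ≤ N := le_normalizer
  set K := Cfsg.pPrimeCore p N with hK
  set π := QuotientGroup.mk' K with hπ
  have hπs : Function.Surjective π := QuotientGroup.mk'_surjective K
  set PN : Subgroup N := (P : Subgroup G).subgroupOf N with hPNdef
  have hPNn : PN.Normal := Subgroup.normal_in_normalizer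
  have hPNcard : Nat.card PN = p ^ n := by
    rw [← hcard]
    exact Nat.card_congr (Subgroup.subgroupOfEquivOfLe hPN).toEquiv
  have hKcop : (Nat.card K).Coprime p := Cfsg.Agent.Lib.Helper32_Cores.card_pPrimeCore_coprime p
  have hdisj : PN ⊓ K = ⊥ := by
    apply Disjoint.eq_bot
    apply Subgroup.disjoint_of_coprime_natCard
    rw [hPNcard]
    exact (Nat.Coprime.pow_left n hKcop.symm)
  have hinj : ∀ u ∈ PN, π u = 1 → u = 1 := by
    intro u hu hu1
    have : u ∈ K := by
      rw [hπ, QuotientGroup.mk'_apply, QuotientGroup.eq_one_iff] at hu1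
      exact hu1
    have h2 : u ∈ PN ⊓ K := mem_inf.2 ⟨hu, this⟩
    rw [hdisj, mem_bot] at h2
    exact h2
  set V := PN.map π with hV
  have hVn : V.Normal := Subgroup.Normal.map hPNn π hπs
  have hVcomm : ∀ a ∈ V, ∀ b ∈ V, a * b = b * a := by
    rintro - ⟨a, ha, rfl⟩ - ⟨b, hb, rfl⟩
    rw [← map_mul, ← map_mul]
    congr 1
    apply Subtype.ext
    exact hPcomm a.1 (mem_subgroupOf.1 ha) b.1 (mem_subgroupOf.1 hb)
  have hVexp : ∀ a ∈ V, a ^ p = 1 := by
    rintro - ⟨a, ha, rfl⟩
    rw [← map_pow]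
    have : a ^ p = 1 := Subtype.ext (by rw [Subgroup.coe_pow]; exact hexp a.1 (mem_subgroupOf.1 ha))
    rw [this, map_one]
  have hVcard : Nat.card V = p ^ n := by
    have h1 := card_lift π PN hinj V le_rfl
    have h2 : (V.comap π ⊓ PN : Subgroup N) = PN := by
      apply inf_of_le_right
      intro u hu
      exact ⟨u, hu, rfl⟩
    rw [h2] at h1
    rw [← h1, hPNcard]
  have hVindex : ¬ p ∣ V.index := by
    intro h
    have h1 : V.index ∣ PN.index := Subgroup.index_map_dvd PN hπs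
    have h2 : PN.index ∣ (P : Subgroup G).index := by
      have := relIndex_mul_index hPN
      exact Dvd.intro _ this
    exact P.not_dvd_index (h.trans (h1.trans h2))
  have hVp : IsPGroup p V := IsPGroup.of_card hVcard
  have hO : Cfsg.pPrimeCore p (N ⧸ K) = ⊥ :=
    Cfsg.Agent.Lib.Helper32_Cores.pPrimeCore_quotient_eq_bot p
  refine ⟨V, hVn, hVcomm, hVexp, hVcard, hVindex,
    @centralizer_le_of_normal_abelian_sylow _ _ _ p _ V hVn hVp hVcomm hVindex hO, ?_⟩
  intro H L hHV hLV hHL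
  -- lifts
  set H1 : Subgroup N := H.comap π ⊓ PN with hH1
  set L1 : Subgroup N := L.comap π ⊓ PN with hL1
  have hH1c : Nat.card H1 = Nat.card H := card_lift π PN hinj H hHV
  have hL1c : Nat.card L1 = Nat.card L := card_lift π PN hinj L hLV
  have hH1m : H1.map π = H := map_lift π PN H hHV
  have hL1m : L1.map π = L := map_lift π PN L hLV
  set H0 : Subgroup G := H1.map N.subtype with hH0
  set L0 : Subgroup G := L1.map N.subtype with hL0
  have hH0P : H0 ≤ P := by
    rintro - ⟨u, hu, rfl⟩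
    exact mem_subgroupOf.1 (mem_inf.1 hu).2
  have hL0P : L0 ≤ P := by
    rintro - ⟨u, hu, rfl⟩
    exact mem_subgroupOf.1 (mem_inf.1 hu).2
  have hH0c : Nat.card H0 = Nat.card H1 := Subgroup.card_map_of_injective N.subtype_injective
  have hL0c : Nat.card L0 = Nat.card L1 := Subgroup.card_map_of_injective N.subtype_injective
  obtain ⟨g, hg⟩ := hC H0 L0 (P.2.to_le hH0P) (P.2.to_le hL0P)
    (by rw [hH0c, hL0c, hH1c, hL1c, hHL])
  obtain ⟨m, hm, hmL⟩ := exists_normalizer_conj P hPcomm H0 L0 hH0P hL0P g hg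
  refine ⟨π ⟨m, hm⟩, ?_⟩
  rw [← hL1m, ← hH1m]
  ext x
  constructor
  · rintro ⟨u, hu, rfl⟩
    have hu0 : (u : G) ∈ L0 := ⟨u, hu, rfl⟩
    rw [hmL] at hu0
    obtain ⟨w, ⟨w1, hw1, rfl⟩, hwu⟩ := hu0
    refine ⟨π w1, ⟨w1, hw1, rfl⟩, ?_⟩
    simp only [MulEquiv.coe_toMonoidHom, MulAut.conj_apply] at hwu ⊢
    rw [← map_mul, ← map_inv, ← map_mul]
    congr 1
    apply Subtype.ext
    simpa using hwu
  · rintro ⟨-, ⟨w1, hw1, rfl⟩, rfl⟩
    have hw0 : m * (w1 : G) * m⁻¹ ∈ L0 := by
      rw [hmL]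
      exact ⟨w1, ⟨w1, hw1, rfl⟩, rfl⟩
    obtain ⟨u, hu, huw⟩ := hw0
    refine ⟨u, hu, ?_⟩
    simp only [MulEquiv.coe_toMonoidHom, MulAut.conj_apply]
    rw [← map_mul, ← map_inv, ← map_mul]
    congr 1
    apply Subtype.ext
    simpa using huw

end Cfsg.Agent.Lib.Helper20_EqOrdRed
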