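import Mathlib
import Cfsg.Prelude.Def_FusionSystem
import Cfsg.Agent.Lib.Helper87_F2L3Defs

/-!
# F2L3-ARITH3 (S5318, architect helper87): the 2-part of `|GL₂(F)|` when `|F| + 1 = 2^m u`, `u` odd, `m ≥ 2`.
-/

set_option autoImplicit false

open Matrix Cfsg.Agent.Lib.Helper87_F2L3

namespace Cfsg.Agent.Lib.Helper20_F2L3_ARITH3

variable {F : Type*} [Field F]

theorem arith3 [Fintype F] {m u : ℕ} (hm : 2 ≤ m) (hu : Odd u)
    (hq : Fintype.card F + 1 = 2 ^ m * u) :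
    (Nat.card (GL (Fin 2) F)).factorization 2 = m + 2 := by
  classical
  obtain ⟨m', rfl⟩ : ∃ m', m = m' + 2 := ⟨m - 2, by omega⟩
  have hu1 : 1 ≤ u := by
    rcases hu with ⟨j, rfl⟩
    omega
  have ht1 : 1 ≤ 2 ^ m' * u := Nat.mul_pos (by positivity) hu1
  obtain ⟨s, hs⟩ : ∃ s, 2 ^ m' * u = s + 1 := ⟨2 ^ m' * u - 1, by omega⟩
  have hq' : Fintype.card F = 4 * s + 3 := by
    have : 2 ^ (m' + 2) * u = 4 * (2 ^ m' * u) := by ring
    rw [this, hs] at hq
    omega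
  have hcard : Nat.card (GL (Fin 2) F) =
      2 ^ (m' + 2 + 2) * (u * ((2 * s + 1) ^ 2 * (4 * s + 3))) := by
    rw [Matrix.card_GL_field, Fin.prod_univ_two, hq']
    have e1 : (4 * s + 3) ^ 2 - (4 * s + 3) ^ ((0 : Fin 2) : ℕ) = 8 * (s + 1) * (2 * s + 1) := by
      apply Nat.sub_eq_of_eq_add
      simp only [Fin.val_zero, pow_zero]
      ring
    have e2 : (4 * s + 3) ^ 2 - (4 * s + 3) ^ ((1 : Fin 2) : ℕ) = 2 * (4 * s + 3) * (2 * s + 1) := by
      apply Nat.sub_eq_of_eq_add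
      simp only [Fin.val_one, pow_one]
      ring
    rw [e1, e2, ← hs]
    ring
  rw [hcard]
  have hodd : Odd (u * ((2 * s + 1) ^ 2 * (4 * s + 3))) := by
    apply Odd.mul hu
    apply Odd.mul
    · exact Odd.pow ⟨s, by ring⟩
    · exact ⟨2 * s + 1, by ring⟩
  have hne1 : 2 ^ (m' + 2 + 2) ≠ 0 := by positivity
  have hne2 : u * ((2 * s + 1) ^ 2 * (4 * s + 3)) ≠ 0 := by
    intro h
    rw [h] at hodd
    exact absurd hodd (by decide)
  rw [Nat.factorization_mul hne1 hne2, Finsupp.add_apply, Nat.factorization_pow,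
    Finsupp.smul_apply, Nat.prime_two.factorization_self, smul_eq_mul, mul_one,
    Nat.factorization_eq_zero_of_not_dvd hodd.not_two_dvd_nat]

end Cfsg.Agent.Lib.Helper20_F2L3_ARITH3
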