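import Mathlib
import Cfsg.Prelude.Def_FusionSystem
import Cfsg.Agent.Lib.Helper87_F2L3Defs

/-!
# F2L3-WNORM (S5318, architect helper87): the normaliser of the wreathed group `Wr μ` in `GL₂(F)`
is `Wr μ` times the scalars, when `μ` contains a square root of `-1`.
-/

set_option autoImplicit false

open Matrix Cfsg.Agent.Lib.Helper87_F2L3

namespace Cfsg.Agent.Lib.Helper20_F2L3_WNORM

variable {F : Type*} [Field F]

theorem dg_val (a b : Fˣ) : ((dg a b : GL (Fin 2) F) : Matrix (Fin 2) (Fin 2) F) =
    !![(a : F), 0; 0, (b : F)] := rfl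

theorem wsw_val : ((wsw : GL (Fin 2) F) : Matrix (Fin 2) (Fin 2) F) = !![0, 1; 1, 0] := rfl

theorem dg_wsw_val (a b : Fˣ) : ((dg a b * wsw : GL (Fin 2) F) : Matrix (Fin 2) (Fin 2) F) =
    !![0, (a : F); (b : F), 0] := by
  rw [Units.val_mul, dg_val, wsw_val]
  ext i j
  fin_cases i <;> fin_cases j <;> simp [Matrix.mul_apply, Fin.sum_univ_two]

theorem wsw_mem_Wr (μ : Subgroup Fˣ) : (wsw : GL (Fin 2) F) ∈ Wr μ :=
  ⟨1, μ.one_mem, 1, μ.one_mem, Or.inr (by rw [dg_one, one_mul])⟩

/-- membership of an antidiagonal element -/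
theorem mem_of_dg_wsw_mem {μ : Subgroup Fˣ} {p q : Fˣ} (h : dg p q * wsw ∈ Wr μ) : p ∈ μ := by
  obtain ⟨a, ha, b, hb, h1 | h1⟩ := h
  · exfalso
    have h2 := congrArg (fun g : GL (Fin 2) F => (g : Matrix (Fin 2) (Fin 2) F) 0 0) h1
    simp only [dg_wsw_val, dg_val] at h2
    simp at h2
    exact a.ne_zero h2.symm
  · have h2 := congrArg (fun g : GL (Fin 2) F => (g : Matrix (Fin 2) (Fin 2) F) 0 1) h1
    simp only [dg_wsw_val] at h2
    simp at h2
    have : p = a := Units.ext h2
    rw [this]
    exact ha

/-- a diagonal or antidiagonal normalising element -/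
theorem key (μ : Subgroup Fˣ) (x y : Fˣ)
    (h : dg x y * wsw * (dg x y)⁻¹ ∈ Wr μ) : x * y⁻¹ ∈ μ := by
  have e : dg x y * wsw * (dg x y)⁻¹ = dg (x * y⁻¹) (y * x⁻¹) * wsw := by
    rw [dg_inv, mul_assoc, wsw_mul_dg, ← mul_assoc, dg_mul]
  rw [e] at h
  exact mem_of_dg_wsw_mem h

theorem sc_comm_wsw (c : Fˣ) : sc c * (wsw : GL (Fin 2) F) = wsw * sc c := by
  unfold sc
  rw [wsw_mul_dg]

theorem norm_Wr (h2 : (2 : F) ≠ 0) (μ : Subgroup Fˣ) (i : Fˣ) (hi : i ∈ μ) (hii : i * i = -1)
    (n : GL (Fin 2) F) (hn : ∀ s ∈ Wr μ, n * s * n⁻¹ ∈ Wr μ) :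
    ∃ s₀ ∈ Wr μ, ∃ c : Fˣ, n = s₀ * sc c := by
  -- facts on `i`
  have hiiF : (i : F) * (i : F) = -1 := by
    have := congrArg (fun u : Fˣ => (u : F)) hii
    simpa using this
  have hi1 : (i : F) ≠ 1 := by
    intro h
    rw [h] at hiiF
    apply h2
    linear_combination hiiF
  -- the determinant
  have hdet : (n : Matrix (Fin 2) (Fin 2) F) 0 0 * (n : Matrix (Fin 2) (Fin 2) F) 1 1 -
      (n : Matrix (Fin 2) (Fin 2) F) 0 1 * (n : Matrix (Fin 2) (Fin 2) F) 1 0 ≠ 0 := by
    have := (Matrix.GeneralLinearGroup.det n).ne_zero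
    rw [Matrix.GeneralLinearGroup.val_det_apply, Matrix.det_fin_two] at this
    exact this
  set N : Matrix (Fin 2) (Fin 2) F := (n : Matrix (Fin 2) (Fin 2) F) with hN
  -- the element `e`
  have he : dg i 1 ∈ Wr μ := ⟨i, hi, 1, μ.one_mem, Or.inl rfl⟩
  obtain ⟨a, ha, b, hb, h1 | h1⟩ := hn _ he
  · -- `n e n⁻¹ = dg a b`
    rw [mul_inv_eq_iff_eq_mul] at h1
    have h1' := congrArg (fun g : GL (Fin 2) F => (g : Matrix (Fin 2) (Fin 2) F)) h1
    simp only [Units.val_mul, dg_val] at h1'
    have e00 := congrFun (congrFun h1' 0) 0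
    have e01 := congrFun (congrFun h1' 0) 1
    have e10 := congrFun (congrFun h1' 1) 0
    have e11 := congrFun (congrFun h1' 1) 1
    simp [Matrix.mul_apply, Fin.sum_univ_two] at e00 e01 e10 e11
    -- e00 : N 0 0 * i = a * N 0 0 ; e01 : N 0 1 = a * N 0 1 ; e10 : N 1 0 * i = b * N 1 0 ;
    -- e11 : N 1 1 = b * N 1 1
    have hw := hn _ (wsw_mem_Wr μ)
    by_cases h00 : N 0 0 = 0
    · -- antidiagonal case
      have h01 : N 0 1 ≠ 0 := by
        intro h
        apply hdet
        rw [h00, h]
        ring
      have h10 : N 1 0 ≠ 0 := by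
        intro h
        apply hdet
        rw [h00, h]
        ring
      have ha1 : (a : F) = 1 := by
        have : N 0 1 * (1 - (a : F)) = 0 := by linear_combination e01
        rcases mul_eq_zero.mp this with h | h
        · exact absurd h h01
        · linear_combination -h
      have hbi : (b : F) = i := by
        have : N 1 0 * ((i : F) - (b : F)) = 0 := by linear_combination e10
        rcases mul_eq_zero.mp this with h | h
        · exact absurd h h10
        · linear_combination -h
      have h11 : N 1 1 = 0 := by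
        rw [hbi] at e11
        have : N 1 1 * (1 - (i : F)) = 0 := by linear_combination e11
        rcases mul_eq_zero.mp this with h | h
        · exact h
        · exfalso; apply hi1; linear_combination -h
      set x : Fˣ := Units.mk0 (N 0 1) h01 with hx
      set y : Fˣ := Units.mk0 (N 1 0) h10 with hy
      have hnxy : n = dg x y * wsw := by
        apply Units.ext
        rw [dg_wsw_val]
        ext p q
        fin_cases p <;> fin_cases q <;> simp [hx, hy, ← hN, h00, h11]
      have hmem : x * y⁻¹ ∈ μ := by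
        apply key μ x y
        have : dg x y * wsw * (dg x y)⁻¹ = n * wsw * n⁻¹ := by
          rw [hnxy, _root_.mul_inv_rev, wsw_inv, mul_assoc (dg x y) wsw wsw, wsw_mul_wsw, mul_one,
            ← mul_assoc]
        rw [this]
        exact hw
      refine ⟨dg (x * y⁻¹) 1 * wsw, ⟨x * y⁻¹, hmem, 1, μ.one_mem, Or.inr rfl⟩, y, ?_⟩
      rw [hnxy, mul_assoc, ← sc_comm_wsw, ← mul_assoc]
      unfold sc
      rw [dg_mul, inv_mul_cancel_right, one_mul]
    · -- diagonal case
      have hai : (a : F) = i := by
        have : N 0 0 * ((i : F) - (a : F)) = 0 := by linear_combination e00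
        rcases mul_eq_zero.mp this with h | h
        · exact absurd h h00
        · linear_combination -h
      have h01 : N 0 1 = 0 := by
        rw [hai] at e01
        have : N 0 1 * (1 - (i : F)) = 0 := by linear_combination e01
        rcases mul_eq_zero.mp this with h | h
        · exact h
        · exfalso; apply hi1; linear_combination -h
      have h11 : N 1 1 ≠ 0 := by
        intro h
        apply hdet
        rw [h01, h]
        ring
      have hb1 : (b : F) = 1 := by
        have : N 1 1 * (1 - (b : F)) = 0 := by linear_combination e11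
        rcases mul_eq_zero.mp this with h | h
        · exact absurd h h11
        · linear_combination -h
      have h10 : N 1 0 = 0 := by
        rw [hb1] at e10
        have : N 1 0 * ((i : F) - 1) = 0 := by linear_combination e10
        rcases mul_eq_zero.mp this with h | h
        · exact h
        · exfalso; apply hi1; linear_combination h
      set x : Fˣ := Units.mk0 (N 0 0) h00 with hx
      set y : Fˣ := Units.mk0 (N 1 1) h11 with hy
      have hnxy : n = dg x y := by
        apply Units.ext
        rw [dg_val]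
        ext p q
        fin_cases p <;> fin_cases q <;> simp [hx, hy, ← hN, h01, h10]
      have hmem : x * y⁻¹ ∈ μ := by
        apply key μ x y
        rw [← hnxy]
        exact hw
      refine ⟨dg (x * y⁻¹) 1, ⟨x * y⁻¹, hmem, 1, μ.one_mem, Or.inl rfl⟩, y, ?_⟩
      rw [hnxy]
      unfold sc
      rw [dg_mul, inv_mul_cancel_right, one_mul]
  · -- `n e n⁻¹ = dg a b * wsw` is impossible
    exfalso
    rw [mul_inv_eq_iff_eq_mul] at h1
    have h1' := congrArg (fun g : GL (Fin 2) F => (g : Matrix (Fin 2) (Fin 2) F)) h1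
    simp only [Units.val_mul (dg a b * wsw) n, Units.val_mul n (dg i 1), dg_wsw_val, dg_val] at h1'
    have e00 := congrFun (congrFun h1' 0) 0
    have e01 := congrFun (congrFun h1' 0) 1
    have e10 := congrFun (congrFun h1' 1) 0
    have e11 := congrFun (congrFun h1' 1) 1
    simp [Matrix.mul_apply, Fin.sum_univ_two] at e00 e01 e10 e11
    -- e00 : N 0 0 * i = a * N 1 0 ; e01 : N 0 1 = a * N 1 1 ; e10 : N 1 0 * i = b * N 0 0 ;
    -- e11 : N 1 1 = b * N 0 1
    have k1 : N 0 1 * (1 - (a : F) * (b : F)) = 0 := by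
      linear_combination e01 + (a : F) * e11
    have k2 : N 1 1 * (1 - (a : F) * (b : F)) = 0 := by
      linear_combination e11 + (b : F) * e01
    have k3 : N 0 0 * (-1 - (a : F) * (b : F)) = 0 := by
      linear_combination (i : F) * e00 + (a : F) * e10 - N 0 0 * hiiF
    have k4 : N 1 0 * (-1 - (a : F) * (b : F)) = 0 := by
      linear_combination (i : F) * e10 + (b : F) * e00 - N 1 0 * hiiF
    by_cases hab : (a : F) * (b : F) = 1
    · have hne : (-1 - (a : F) * (b : F)) ≠ 0 := by
        rw [hab]
        intro h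
        apply h2
        linear_combination -h
      have z00 : N 0 0 = 0 := by
        rcases mul_eq_zero.mp k3 with h | h
        · exact h
        · exact absurd h hne
      have z10 : N 1 0 = 0 := by
        rcases mul_eq_zero.mp k4 with h | h
        · exact h
        · exact absurd h hne
      apply hdet
      rw [z00, z10]
      ring
    · have hne : (1 - (a : F) * (b : F)) ≠ 0 := by
        intro h
        apply hab
        linear_combination -h
      have z01 : N 0 1 = 0 := by
        rcases mul_eq_zero.mp k1 with h | h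
        · exact h
        · exact absurd h hne
      have z11 : N 1 1 = 0 := by
        rcases mul_eq_zero.mp k2 with h | h
        · exact h
        · exact absurd h hne
      apply hdet
      rw [z01, z11]
      ring

end Cfsg.Agent.Lib.Helper20_F2L3_WNORM
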