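import Mathlib
import Cfsg.Agent.Lib.Helper94_UDDefs
import Cfsg.Agent.Lib.Helper27_UQ_KISO

set_option autoImplicit false
set_option linter.unusedSimpArgs false
set_option linter.unusedVariables false
set_option linter.unusedSectionVars false

/-!
More definitions for the frame-stabiliser theorem (S5655, blocks of dimension one): the context
of the theorem on overgroups of the full monomial group, supports with respect to an orthonormal
frame, and the group induced on the orthogonal complement of an anisotropic vector by the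
stabiliser of its span.
-/

namespace Cfsg.Agent.Lib.Helper94_FrmDefs2

open Module Cfsg.Agent.Lib.Helper94_Symp Cfsg.Agent.Lib.Helper94_Herm
  Cfsg.Agent.Lib.Helper13_PSUSimple Cfsg.Agent.Lib.Helper27_UQDefs
  Cfsg.Agent.Lib.Helper94_FrmDefs Cfsg.Agent.Lib.Helper94_UDDefs
  Cfsg.Agent.Lib.Helper27_UQ_KISO

variable {F W : Type*} [Field F] [AddCommGroup W] [Module F W]
variable {σ : F →+* F}

/-- the standing hypotheses of the theorem on overgroups of the full monomial group -/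
structure FCtx (B : W →ₗ[F] W →ₛₗ[σ] F) {ι : Type*} (e : ι → W) (L : Subgroup (W ≃ₗ[F] W)) :
    Prop where
  hσ : Invol σ
  hB : IsHerm B
  he : OFrame B e
  hML : Mono B e ≤ L
  hLU : L ≤ uG B

open Classical in
/-- the support of a vector with respect to a frame -/
noncomputable def supp (B : W →ₗ[F] W →ₛₗ[σ] F) {ι : Type*} [Fintype ι] (e : ι → W) (w : W) :
    Finset ι :=
  Finset.univ.filter (fun i => B w (e i) ≠ 0)

lemma mem_supp {B : W →ₗ[F] W →ₛₗ[σ] F} {ι : Type*} [Fintype ι] {e : ι → W} {w : W} {i : ι} :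
    i ∈ supp B e w ↔ B w (e i) ≠ 0 := by
  classical
  simp [supp]

/-- the group induced on `x^⊥` by the stabiliser of the span of `x` in `M` -/
def resSub (B : W →ₗ[F] W →ₛₗ[σ] F) (M : Subgroup (W ≃ₗ[F] W)) (x : W) :
    Subgroup (↥(orthV B x) ≃ₗ[F] ↥(orthV B x)) where
  carrier := {l | ∃ g ∈ M, (∃ c : F, c ≠ 0 ∧ g x = c • x) ∧
    ∀ w : ↥(orthV B x), ((l w : ↥(orthV B x)) : W) = g (w : W)}
  mul_mem' := by
    rintro a b ⟨g, hg, ⟨c, hc, hgx⟩, hga⟩ ⟨h, hh, ⟨d, hd, hhx⟩, hhb⟩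
    refine ⟨g * h, M.mul_mem hg hh, ⟨d * c, mul_ne_zero hd hc, ?_⟩, fun w => ?_⟩
    · rw [LinearEquiv.mul_apply, hhx, map_smul, hgx, smul_smul]
    · rw [LinearEquiv.mul_apply, LinearEquiv.mul_apply, hga, hhb]
  one_mem' := ⟨1, M.one_mem, ⟨1, one_ne_zero, by simp⟩, fun w => rfl⟩
  inv_mem' := by
    rintro a ⟨g, hg, ⟨c, hc, hgx⟩, hga⟩
    refine ⟨g⁻¹, M.inv_mem hg, ⟨c⁻¹, inv_ne_zero hc, ?_⟩, fun w => ?_⟩
    · have h0 : g⁻¹ (c • x) = x := by rw [← hgx, inv_apply_apply']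
      rw [map_smul] at h0
      have h1 : c⁻¹ • (c • g⁻¹ x) = c⁻¹ • x := by rw [h0]
      rwa [smul_smul, inv_mul_cancel₀ hc, one_smul] at h1
    · have h1 := hga (a⁻¹ w)
      rw [apply_inv_apply'] at h1
      rw [h1, inv_apply_apply']

lemma mem_resSub {B : W →ₗ[F] W →ₛₗ[σ] F} {M : Subgroup (W ≃ₗ[F] W)} {x : W}
    {l : ↥(orthV B x) ≃ₗ[F] ↥(orthV B x)} :
    l ∈ resSub B M x ↔ ∃ g ∈ M, (∃ c : F, c ≠ 0 ∧ g x = c • x) ∧
      ∀ w : ↥(orthV B x), ((l w : ↥(orthV B x)) : W) = g (w : W) := Iff.rfl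

/-- the frame of `(e k)^⊥` obtained by deleting `e k` -/
def delFrame {B : W →ₗ[F] W →ₛₗ[σ] F} {ι : Type*} {e : ι → W} (he : OFrame B e) (k : ι) :
    {i : ι // i ≠ k} → ↥(orthV B (e k)) :=
  fun i => ⟨e i.1, mem_orthV.mpr (he.orth i.1 k i.2)⟩

end Cfsg.Agent.Lib.Helper94_FrmDefs2
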