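import Mathlib
import Cfsg.Agent.Lib.Helper94_FrmDefs2
import Cfsg.Agent.Lib.Helper16_UD_REP
import Cfsg.Agent.Lib.Helper94_HermWitt

/-!
# Helper20_FR_FIN: package FR-FIN of the FR market (S5655, architect helper94)

From the hyperplanes `(e j)^⊥` to all isotropic vectors.
-/

set_option autoImplicit false

namespace Cfsg.Agent.Lib.Helper20_FR_FIN

open Module Cfsg.Agent.Lib.Helper94_Symp Cfsg.Agent.Lib.Helper94_Herm
  Cfsg.Agent.Lib.Helper13_PSUSimple Cfsg.Agent.Lib.Helper27_UQDefs
  Cfsg.Agent.Lib.Helper94_FrmDefs Cfsg.Agent.Lib.Helper94_UDDefs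
  Cfsg.Agent.Lib.Helper94_FrmDefs2 Cfsg.Agent.Lib.Helper27_UQ_KISO

variable {F V : Type*} [Field F] [AddCommGroup V] [Module F V]
variable {σ : F →+* F} {B : V →ₗ[F] V →ₛₗ[σ] F}
variable {ι : Type*} [Fintype ι] [DecidableEq ι] {e : ι → V} {M : Subgroup (V ≃ₗ[F] V)}

/-- the coordinates of a combination of the frame -/
theorem coord_sum (he : OFrame B e) (a : ι → F) (i : ι) : B (∑ j, a j • e j) (e i) = a i := by
  rw [map_sum, LinearMap.sum_apply, Finset.sum_eq_single i]
  · rw [map_smul, LinearMap.smul_apply, he.unit, smul_eq_mul, mul_one]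
  · intro j _ hji
    rw [map_smul, LinearMap.smul_apply, he.orth j i hji, smul_zero]
  · intro h
    exact absurd (Finset.mem_univ i) h

/-- the expansion in an orthonormal frame -/
theorem expand (he : OFrame B e) (w : V) : w = ∑ i, B w (e i) • e i := by
  have hw : w ∈ Submodule.span F (Set.range e) := by rw [he.span]; exact Submodule.mem_top
  obtain ⟨c, hc⟩ := (Submodule.mem_span_range_iff_exists_fun F).mp hw
  have hci : ∀ i, B w (e i) = c i := fun i => by rw [← hc, coord_sum he]
  rw [← hc]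
  refine Finset.sum_congr rfl (fun i _ => ?_)
  rw [hc, hci]

theorem linearIndependent_frame (he : OFrame B e) : LinearIndependent F e := by
  rw [Fintype.linearIndependent_iff]
  intro g hg i
  have := coord_sum he g i
  rw [hg, map_zero, LinearMap.zero_apply] at this
  exact this.symm

theorem nondegOn_top (he : OFrame B e) : NondegOn B ⊤ := by
  intro x _ hx0
  by_contra hcon
  push Not at hcon
  apply hx0
  rw [expand he x]
  refine Finset.sum_eq_zero (fun i _ => ?_)
  rw [hcon (e i) Submodule.mem_top, zero_smul]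

variable [Finite F] [FiniteDimensional F V]

theorem FIN (hσ : Invol σ) (hB : IsHerm B) (he : OFrame B e) (h5 : 5 ≤ Fintype.card ι)
    (hM : M ≤ uG B) (h : ∀ j : ι, ∀ u : V, B u u = 0 → B u (e j) = 0 → u ∈ UU B M) :
    ∀ x : V, B x x = 0 → x ∈ UU B M := by
  intro x hx
  by_cases hall : ∃ k, B x (e k) = 0
  · obtain ⟨k, hk⟩ := hall
    exact h k x hx hk
  push Not at hall
  obtain ⟨k, j, l, hkj, hkl, hjl⟩ := Fintype.two_lt_card_iff.mp (by omega : 2 < Fintype.card ι)
  set a : F := B x (e k) with ha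
  set b : F := B x (e j) with hb
  set x'' : V := x - a • e k - b • e j with hx''
  set U : Submodule F V := (⊤ ⊓ orthV B (e k)) ⊓ orthV B (e j) with hU
  have hkk : B (e k) (e k) = 1 := he.unit k
  have hjj : B (e j) (e j) = 1 := he.unit j
  have hkj0 : B (e k) (e j) = 0 := he.orth k j hkj
  have hjk0 : B (e j) (e k) = 0 := he.orth j k (Ne.symm hkj)
  have hx''k : B x'' (e k) = 0 := by
    rw [hx'']
    simp only [map_sub, map_smul, LinearMap.sub_apply, LinearMap.smul_apply, smul_eq_mul, hkk, hjk0]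
    ring
  have hx''j : B x'' (e j) = 0 := by
    rw [hx'']
    simp only [map_sub, map_smul, LinearMap.sub_apply, LinearMap.smul_apply, smul_eq_mul, hjj, hkj0]
    ring
  have hx''U : x'' ∈ U :=
    Submodule.mem_inf.mpr ⟨Submodule.mem_inf.mpr ⟨Submodule.mem_top, mem_orthV.mpr hx''k⟩,
      mem_orthV.mpr hx''j⟩
  have hx''0 : x'' ≠ 0 := by
    intro h0
    have h1 : B x'' (e l) = B x (e l) := by
      rw [hx'']
      simp only [map_sub, map_smul, LinearMap.sub_apply, LinearMap.smul_apply, smul_eq_mul,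
        he.orth k l hkl, he.orth j l hjl]
      ring
    rw [h0, map_zero, LinearMap.zero_apply] at h1
    exact hall l h1.symm
  have hUnd : NondegOn B U := by
    apply nondegOn_orthV hB (nondegOn_orthV hB (nondegOn_top he) Submodule.mem_top
      (by rw [hkk]; exact one_ne_zero))
      (Submodule.mem_inf.mpr ⟨Submodule.mem_top, mem_orthV.mpr hjk0⟩)
    rw [hjj]; exact one_ne_zero
  have hdim : 3 ≤ finrank F U := by
    have h1 := Cfsg.Agent.Lib.Helper94_HermWitt.finrank_le_inf_orthV_add_one (B := B) (⊤ : Submodule F V) (e k)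
    have h2 : finrank F (⊤ ⊓ orthV B (e k) : Submodule F V) ≤ finrank F U + 1 :=
      Cfsg.Agent.Lib.Helper94_HermWitt.finrank_le_inf_orthV_add_one (B := B)
        (⊤ ⊓ orthV B (e k) : Submodule F V) (e j)
    have h3 : Fintype.card ι ≤ finrank F V := (linearIndependent_frame he).fintype_card_le_finrank
    rw [finrank_top] at h1
    omega
  have hν : σ (a * σ a) = a * σ a := by rw [map_mul, hσ.invol, mul_comm]
  obtain ⟨d, hdU, ζ, hζ0, hζs, hbd, hdd⟩ :=
    Cfsg.Agent.Lib.Helper16_UD_REP.REP hσ hB hUnd (finrank F U) rfl (by omega) (by omega)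
      hx''U hx''0 hν
  have hdk : B d (e k) = 0 := mem_orthV.mp (Submodule.mem_inf.mp (Submodule.mem_inf.mp hdU).1).2
  have hdj : B d (e j) = 0 := mem_orthV.mp (Submodule.mem_inf.mp hdU).2
  have hkd : B (e k) d = 0 := herm_eq_zero hB hdk
  have hjd : B (e j) d = 0 := herm_eq_zero hB hdj
  set z0 : V := a • e k + d with hz0
  have hz0N : B z0 z0 = 0 := by
    rw [hz0]
    simp only [map_add, map_smul, map_smulₛₗ, LinearMap.add_apply, LinearMap.smul_apply,
      smul_eq_mul, hkk, hkd, hdk, hdd]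
    ring
  have hz0j : B z0 (e j) = 0 := by
    rw [hz0]
    simp only [map_add, map_smul, LinearMap.add_apply, LinearMap.smul_apply, smul_eq_mul, hkj0, hdj]
    ring
  have hz0U : z0 ∈ UU B M := h j z0 hz0N hz0j
  have hxd : B x d = -(a * σ a) + ζ := by
    have hxe : x = x'' + a • e k + b • e j := by rw [hx'']; abel
    rw [hxe]
    simp only [map_add, map_smul, LinearMap.add_apply, LinearMap.smul_apply, smul_eq_mul, hkd, hjd,
      hbd]
    ring
  have hxz0 : B x z0 = ζ := by
    rw [hz0, map_add, map_smulₛₗ, hxd, smul_eq_mul, ← ha]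
    ring
  have hz0x : B z0 x = -ζ := by rw [hB x z0, hxz0, hζs]
  set y' : V := x - z0 with hy'
  have hy'N : B y' y' = 0 := by
    rw [hy']
    simp only [map_sub, LinearMap.sub_apply, hx, hxz0, hz0x, hz0N]
    ring
  have hy'k : B y' (e k) = 0 := by
    rw [hy', hz0]
    simp only [map_sub, map_add, map_smul, LinearMap.sub_apply, LinearMap.add_apply,
      LinearMap.smul_apply, smul_eq_mul, hkk, hdk, ← ha]
    ring
  have hy'U : y' ∈ UU B M := h k y' hy'N hy'k
  have hne : B y' z0 ≠ 0 := by
    rw [hy', map_sub, LinearMap.sub_apply, hxz0, hz0N, sub_zero]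
    exact hζ0
  have hsum : y' + z0 = x := by rw [hy']; abel
  have := UU_add hσ hB hM hy'U hz0U hne (by rw [hsum]; exact hx)
  rwa [hsum] at this

end Cfsg.Agent.Lib.Helper20_FR_FIN
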