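import Mathlib
import Cfsg.Agent.Lib.Helper50_UQAbsDefs
import Cfsg.Agent.Lib.Helper27_UQDefs
import Cfsg.Agent.Lib.Helper27_UQ_KISO
import Cfsg.Agent.Lib.Helper27_UQ_CARD
import Cfsg.Agent.Lib.Helper95_UQ_COUNT

set_option autoImplicit false

/-!
# S2151-CNT: closed forms for the number of vectors of a given norm in a nondegenerate
hermitian space of any dimension `n ≥ 1` over a field with `q^2` elements.
-/

namespace Cfsg.Agent.Lib.Helper9_S2151_CNT

open Module Cfsg.Agent.Lib.Helper94_Symp Cfsg.Agent.Lib.Helper94_Herm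
  Cfsg.Agent.Lib.Helper13_SUGen Cfsg.Agent.Lib.Helper14_PSULocal1
  Cfsg.Agent.Lib.Helper27_UQDefs Cfsg.Agent.Lib.Helper27_UQ_KISO

universe u

variable {F : Type*} [Field F] {σ : F →+* F}

/-! ### the field: norm fibres -/

theorem two_le_q [Finite F] {q : ℕ} (hF : Nat.card F = q ^ 2) : 2 ≤ q := by
  have h1 : 1 < Nat.card F := Finite.one_lt_card
  rw [hF] at h1
  by_contra hlt
  have : q ≤ 1 := by omega
  have : q ^ 2 ≤ 1 ^ 2 := Nat.pow_le_pow_left this 2
  omega

theorem sigma_eq_zero {x : F} (h : σ x = 0) : x = 0 := by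
  by_contra hx
  exact (map_ne_zero σ).2 hx h

/-- the norm fibre over zero -/
theorem card_norm_fiber_zero : Nat.card {l : F // l * σ l = 0} = 1 := by
  rw [Nat.card_eq_one_iff_unique]
  refine ⟨⟨?_⟩, ⟨⟨0, by simp⟩⟩⟩
  rintro ⟨a, ha⟩ ⟨b, hb⟩
  apply Subtype.ext
  have ha' : a = 0 := by
    rcases mul_eq_zero.1 ha with h | h
    · exact h
    · exact sigma_eq_zero h
  have hb' : b = 0 := by
    rcases mul_eq_zero.1 hb with h | h
    · exact h
    · exact sigma_eq_zero h
  simp [ha', hb']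

/-- two norm fibres over nonzero fixed elements have the same size -/
theorem card_norm_fiber_eq [Finite F] (hσ : Invol σ) {t y : F} (ht : σ t = t) (ht0 : t ≠ 0)
    (hy : σ y = y) (hy0 : y ≠ 0) :
    Nat.card {l : F // l * σ l = y} = Nat.card {l : F // l * σ l = t} := by
  obtain ⟨μ, hμ⟩ := norm_surj hσ (y / t) (by rw [map_div₀, hy, ht])
  have hμ0 : μ ≠ 0 := by
    rintro rfl
    rw [zero_mul] at hμ
    exact (div_ne_zero hy0 ht0) hμ.symm
  have hσμ0 : σ μ ≠ 0 := (map_ne_zero σ).2 hμ0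
  apply Nat.card_congr
  refine ⟨fun l => ⟨(l : F) / μ, ?_⟩, fun l => ⟨μ * (l : F), ?_⟩, ?_, ?_⟩
  · have h := l.2
    rw [map_div₀]
    have : (l : F) / μ * (σ (l : F) / σ μ) = ((l : F) * σ (l : F)) / (μ * σ μ) := by
      field_simp
    rw [this, h, hμ]
    field_simp
  · have h := l.2
    rw [map_mul]
    have : μ * (l : F) * (σ μ * σ (l : F)) = (μ * σ μ) * ((l : F) * σ (l : F)) := by ring
    rw [this, h, hμ]
    field_simp
  · intro l
    apply Subtype.ext
    simp only
    field_simp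
  · intro l
    apply Subtype.ext
    simp only
    field_simp

/-- the norm fibres over nonzero fixed elements have `q + 1` elements -/
theorem card_norm_fiber [Finite F] (hσ : Invol σ) {q : ℕ} (hF : Nat.card F = q ^ 2) {t : F}
    (ht : σ t = t) (ht0 : t ≠ 0) : Nat.card {l : F // l * σ l = t} = q + 1 := by
  classical
  let _ : Fintype F := Fintype.ofFinite F
  have hq2 := two_le_q hF
  set ν := Nat.card {l : F // l * σ l = t} with hν
  let f : F → {a : F // σ a = a} := fun l => ⟨l * σ l, by rw [map_mul, hσ.invol, mul_comm]⟩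
  have h1 : Nat.card F = Nat.card (Σ y : {a : F // σ a = a}, {x : F // f x = y}) :=
    (Nat.card_congr (Equiv.sigmaFiberEquiv f)).symm
  rw [Nat.card_sigma] at h1
  have hfib : ∀ y : {a : F // σ a = a}, Nat.card {x : F // f x = y}
      = Nat.card {l : F // l * σ l = (y : F)} := by
    intro y
    apply Nat.card_congr
    exact Equiv.subtypeEquivRight (fun l => Subtype.ext_iff)
  have h0 : Nat.card {x : F // f x = ⟨0, map_zero σ⟩} = 1 := by
    rw [hfib]
    exact card_norm_fiber_zero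
  have hne : ∀ y ∈ (Finset.univ.erase (⟨0, map_zero σ⟩ : {a : F // σ a = a})),
      Nat.card {x : F // f x = y} = ν := by
    intro y hy
    rw [hfib]
    have hy0 : (y : F) ≠ 0 := by
      intro h
      exact Finset.ne_of_mem_erase hy (Subtype.ext h)
    exact card_norm_fiber_eq hσ ht ht0 y.2 hy0
  rw [← Finset.sum_erase_add _ _ (Finset.mem_univ (⟨0, map_zero σ⟩ : {a : F // σ a = a})), h0,
    Finset.sum_congr rfl hne, Finset.sum_const, Finset.card_erase_of_mem (Finset.mem_univ _),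
    Finset.card_univ, ← Nat.card_eq_fintype_card, Cfsg.Agent.Lib.Helper95_UQ_FLD.card_fixed hσ hF,
    hF, smul_eq_mul] at h1
  -- q^2 = (q-1) ν + 1
  obtain ⟨k, rfl⟩ : ∃ k, q = k + 2 := ⟨q - 2, by omega⟩
  have h2 : (k + 1) * ν = (k + 1) * (k + 2 + 1) := by
    have : k + 2 - 1 = k + 1 := by omega
    rw [this] at h1
    nlinarith
  exact Nat.eq_of_mul_eq_mul_left (by omega) h2

/-! ### arithmetic -/

/-- the closed form for isotropic vectors, multiplied by `q` -/
def PA (q n c : ℕ) : Prop :=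
  q * c + (if Even n then q ^ n else q ^ (n + 1)) =
    q ^ (2 * n) + (if Even n then q ^ (n + 1) else q ^ n)

/-- the closed form for vectors of a nonzero norm, multiplied by `q` -/
def PB (q n c : ℕ) : Prop :=
  q * c + (if Even n then q ^ n else 0) = q ^ (2 * n) + (if Even n then 0 else q ^ n)

theorem PA_step {q m c : ℕ} (hq : 1 ≤ q) (h : PA q m c) :
    PA q (m + 2) ((q ^ 2 - 1) * q * q ^ (2 * m) + q ^ 2 * c) := by
  obtain ⟨K, hK⟩ : ∃ K, K + 1 = q ^ 2 := ⟨q ^ 2 - 1, Nat.sub_add_cancel (Nat.one_le_pow _ _ hq)⟩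
  have hK' : q ^ 2 - 1 = K := by omega
  unfold PA at h ⊢
  rw [hK']
  have hpar : Even (m + 2) ↔ Even m := by
    rw [Nat.even_add]; simp
  by_cases hm : Even m
  · rw [if_pos hm, if_pos hm] at h
    rw [if_pos (hpar.2 hm), if_pos (hpar.2 hm)]
    zify at h hK ⊢
    linear_combination (q : ℤ) ^ 2 * h + ((q : ℤ) ^ 2 * (q : ℤ) ^ (2 * m)) * hK
  · rw [if_neg hm, if_neg hm] at h
    rw [if_neg (fun h' => hm (hpar.1 h')), if_neg (fun h' => hm (hpar.1 h'))]
    zify at h hK ⊢
    linear_combination (q : ℤ) ^ 2 * h + ((q : ℤ) ^ 2 * (q : ℤ) ^ (2 * m)) * hK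

theorem PB_step {q m c : ℕ} (hq : 1 ≤ q) (h : PB q m c) :
    PB q (m + 2) ((q ^ 2 - 1) * q * q ^ (2 * m) + q ^ 2 * c) := by
  obtain ⟨K, hK⟩ : ∃ K, K + 1 = q ^ 2 := ⟨q ^ 2 - 1, Nat.sub_add_cancel (Nat.one_le_pow _ _ hq)⟩
  have hK' : q ^ 2 - 1 = K := by omega
  unfold PB at h ⊢
  rw [hK']
  have hpar : Even (m + 2) ↔ Even m := by
    rw [Nat.even_add]; simp
  by_cases hm : Even m
  · rw [if_pos hm, if_pos hm] at h
    rw [if_pos (hpar.2 hm), if_pos (hpar.2 hm)]
    zify at h hK ⊢
    linear_combination (q : ℤ) ^ 2 * h + ((q : ℤ) ^ 2 * (q : ℤ) ^ (2 * m)) * hK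
  · rw [if_neg hm, if_neg hm] at h
    rw [if_neg (fun h' => hm (hpar.1 h')), if_neg (fun h' => hm (hpar.1 h'))]
    zify at h hK ⊢
    linear_combination (q : ℤ) ^ 2 * h + ((q : ℤ) ^ 2 * (q : ℤ) ^ (2 * m)) * hK

/-! ### the base cases -/

section geom

variable {V : Type u} [AddCommGroup V] [Module F V]

/-- dimension zero -/
theorem base_zero [FiniteDimensional F V] (B : V →ₗ[F] V →ₛₗ[σ] F) {q : ℕ}
    (h0 : finrank F V = 0) :
    PA q 0 (Nat.card {x : V // B x x = 0}) ∧
      ∀ s : F, σ s = s → s ≠ 0 → PB q 0 (Nat.card {x : V // B x x = s}) := by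
  have hall : ∀ x : V, x = 0 := finrank_zero_iff_forall_zero.1 h0
  constructor
  · have : Nat.card {x : V // B x x = 0} = 1 := by
      rw [Nat.card_eq_one_iff_unique]
      refine ⟨⟨?_⟩, ⟨⟨0, by simp⟩⟩⟩
      rintro ⟨a, _⟩ ⟨b, _⟩
      apply Subtype.ext
      simp [hall a, hall b]
    rw [this]
    unfold PA
    simp
    ring
  · intro s _ hs0
    have : Nat.card {x : V // B x x = s} = 0 := by
      rw [Nat.card_eq_zero]
      left
      constructor
      rintro ⟨x, hx⟩
      rw [hall x] at hx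
      simp at hx
      exact hs0 hx.symm
    rw [this]
    unfold PB
    simp

/-- dimension one -/
theorem base_one [Finite F] [FiniteDimensional F V] (B : V →ₗ[F] V →ₛₗ[σ] F) (hσ : Invol σ)
    (hB : IsHerm B) (hN : NondegOn B ⊤) {q : ℕ} (hF : Nat.card F = q ^ 2)
    (h1 : finrank F V = 1) :
    PA q 1 (Nat.card {x : V // B x x = 0}) ∧
      ∀ s : F, σ s = s → s ≠ 0 → PB q 1 (Nat.card {x : V // B x x = s}) := by
  obtain ⟨e, he0, hspan⟩ := finrank_eq_one_iff'.1 h1
  have ha : σ (B e e) = B e e := herm_self hB e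
  have ha0 : B e e ≠ 0 := by
    obtain ⟨y, _, hy⟩ := hN e Submodule.mem_top he0
    obtain ⟨c, rfl⟩ := hspan y
    intro h
    apply hy
    rw [map_smulₛₗ, smul_eq_mul, h, mul_zero]
  -- the coordinate
  let φ : F ≃ V :=
    Equiv.ofBijective (fun l => l • e) ⟨fun a b hab => by
        have : (a - b) • e = 0 := by rw [sub_smul]; exact sub_eq_zero.2 hab
        rcases smul_eq_zero.1 this with h | h
        · exact sub_eq_zero.1 h
        · exact absurd h he0, fun w => hspan w⟩
  have hφ : ∀ l : F, B (φ l) (φ l) = l * σ l * B e e := fun l => self_smul e l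
  have hcount : ∀ s : F, Nat.card {x : V // B x x = s}
      = Nat.card {l : F // l * σ l = s / B e e} := by
    intro s
    apply Nat.card_congr
    refine (φ.symm.subtypeEquiv ?_)
    intro x
    obtain ⟨l, rfl⟩ := φ.surjective x
    rw [Equiv.symm_apply_apply, hφ]
    constructor
    · intro h
      rw [← h]
      field_simp
    · intro h
      rw [h]
      field_simp
  constructor
  · rw [hcount, zero_div, card_norm_fiber_zero]
    unfold PA
    simp
    ring
  · intro s hs hs0
    rw [hcount, card_norm_fiber hσ hF (by rw [map_div₀, hs, ha]) (div_ne_zero hs0 ha0)]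
    unfold PB
    simp
    ring

/-! ### the induction step -/

/-- a space of dimension at least two contains a hyperbolic pair -/
theorem exists_hypPair [Finite F] [FiniteDimensional F V] (B : V →ₗ[F] V →ₛₗ[σ] F)
    (hσ : Invol σ) (hB : IsHerm B) (hN : NondegOn B ⊤) (h2 : 2 ≤ finrank F V) :
    ∃ v v' : V, HypPair B v v' := by
  have hpos : 0 < finrank F V := by omega
  have : Nontrivial V := Module.finrank_pos_iff.1 hpos
  obtain ⟨x, hx⟩ := exists_ne (0 : V)
  have hy : ∃ y : V, y ∉ Submodule.span F {x} := by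
    by_contra hcon
    push Not at hcon
    have htop : Submodule.span F {x} = ⊤ := by
      rw [eq_top_iff]
      intro y _
      exact hcon y
    have h1 : finrank F ↥(Submodule.span F {x}) = 1 := finrank_span_singleton hx
    rw [htop, finrank_top] at h1
    omega
  obtain ⟨y, hy⟩ := hy
  obtain ⟨a, b, hne, hiso⟩ := exists_iso hσ hB hx hy
  obtain ⟨f, _, hff, huf⟩ := exists_partner hσ hB hN (U := ⊤) Submodule.mem_top hne hiso
  exact ⟨_, f, hypPair_mk hB hiso hff huf⟩

/-- the counts for all dimensions, multiplied by `q` -/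
theorem aux [Finite F] (hσ : Invol σ) {q : ℕ} (hF : Nat.card F = q ^ 2) (n : ℕ) :
    ∀ (V : Type u) [AddCommGroup V] [Module F V] [FiniteDimensional F V]
      (B : V →ₗ[F] V →ₛₗ[σ] F), IsHerm B → NondegOn B ⊤ → finrank F V = n →
      PA q n (Nat.card {x : V // B x x = 0}) ∧
        ∀ s : F, σ s = s → s ≠ 0 → PB q n (Nat.card {x : V // B x x = s}) := by
  induction n using Nat.strong_induction_on with
  | _ n ih =>
    intro V _ _ _ B hB hN hn
    have hq2 := two_le_q hF
    rcases Nat.lt_or_ge n 2 with hlt | hge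
    · interval_cases n
      · exact base_zero B hn
      · exact base_one B hσ hB hN hF hn
    · obtain ⟨m, rfl⟩ : ∃ m, n = m + 2 := ⟨n - 2, by omega⟩
      obtain ⟨v, v', h⟩ := exists_hypPair B hσ hB hN (by omega)
      have hWnd : NondegOn B (Wsub B v v') := by
        rw [Wsub_eq_Wp]
        exact nondegOn_Wp hB hN h
      have hfr : finrank F ↥(Wsub B v v') = m := by
        have := Cfsg.Agent.Lib.Helper27_UQ_CARD.finrank_Wsub h
        omega
      have hcW : Nat.card ↥(Wsub B v v') = q ^ (2 * m) := by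
        rw [Cfsg.Agent.Lib.Helper27_UQ_CARD.card_Wsub hF h, hn]
        simp
      have hIH := ih m (by omega) ↥(Wsub B v v') (Bw B (Wsub B v v'))
        (isHerm_Bw hB _) (nondeg_Bw hWnd) hfr
      constructor
      · have hrec := Cfsg.Agent.Lib.Helper95_UQ_COUNT.card_norm_rec hσ hB hF h (s := 0)
          (map_zero σ)
        rw [hrec, hcW]
        exact PA_step (by omega) hIH.1
      · intro s hs hs0
        have hrec := Cfsg.Agent.Lib.Helper95_UQ_COUNT.card_norm_rec hσ hB hF h (s := s) hs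
        rw [hrec, hcW]
        exact PB_step (by omega) (hIH.2 s hs hs0)

/-! ### dividing by `q` -/

theorem PA_div {q n c : ℕ} (hq : 1 ≤ q) (hn1 : 1 ≤ n) (h : PA q n c) :
    c + (if Even n then q ^ (n - 1) else q ^ n) =
      q ^ (2 * n - 1) + (if Even n then q ^ n else q ^ (n - 1)) := by
  obtain ⟨k, rfl⟩ : ∃ k, n = k + 1 := ⟨n - 1, by omega⟩
  have e1 : k + 1 - 1 = k := by omega
  have e2 : 2 * (k + 1) - 1 = 2 * k + 1 := by omega
  rw [e1, e2]
  unfold PA at h
  apply Nat.eq_of_mul_eq_mul_left (show 0 < q by omega)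
  by_cases hk : Even (k + 1)
  · rw [if_pos hk, if_pos hk] at h ⊢
    zify at h ⊢
    linear_combination h
  · rw [if_neg hk, if_neg hk] at h ⊢
    zify at h ⊢
    linear_combination h

theorem PB_div {q n c : ℕ} (hq : 1 ≤ q) (hn1 : 1 ≤ n) (h : PB q n c) :
    c + (if Even n then q ^ (n - 1) else 0) =
      q ^ (2 * n - 1) + (if Even n then 0 else q ^ (n - 1)) := by
  obtain ⟨k, rfl⟩ : ∃ k, n = k + 1 := ⟨n - 1, by omega⟩
  have e1 : k + 1 - 1 = k := by omega
  have e2 : 2 * (k + 1) - 1 = 2 * k + 1 := by omega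
  rw [e1, e2]
  unfold PB at h
  apply Nat.eq_of_mul_eq_mul_left (show 0 < q by omega)
  by_cases hk : Even (k + 1)
  · rw [if_pos hk, if_pos hk] at h ⊢
    zify at h ⊢
    linear_combination h
  · rw [if_neg hk, if_neg hk] at h ⊢
    zify at h ⊢
    linear_combination h

/-- **S2151-CNT**. -/
theorem CNT {V : Type u} [AddCommGroup V] [Module F V] [Finite F] [FiniteDimensional F V]
    (B : V →ₗ[F] V →ₛₗ[σ] F) (hσ : Invol σ) (hB : IsHerm B) (hN : NondegOn B ⊤) {q : ℕ}
    (hF : Nat.card F = q ^ 2) (n : ℕ) (hn : finrank F V = n) (hn1 : 1 ≤ n) :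
    (Nat.card {x : V // B x x = 0} + (if Even n then q ^ (n - 1) else q ^ n) =
      q ^ (2 * n - 1) + (if Even n then q ^ n else q ^ (n - 1))) ∧
    (∀ s : F, σ s = s → s ≠ 0 →
      Nat.card {x : V // B x x = s} + (if Even n then q ^ (n - 1) else 0) =
        q ^ (2 * n - 1) + (if Even n then 0 else q ^ (n - 1))) := by
  have hq2 := two_le_q hF
  have h := aux hσ hF n V B hB hN hn
  exact ⟨PA_div (by omega) hn1 h.1, fun s hs hs0 => PB_div (by omega) hn1 (h.2 s hs hs0)⟩

end geom

end Cfsg.Agent.Lib.Helper9_S2151_CNT
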