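import Mathlib
import Cfsg.Agent.Lib.Helper94_FrmDefs2
import Cfsg.Agent.Lib.Helper9_S2151_CNT
import Cfsg.Agent.Lib.Helper14_PSULocal1

/-!
# FR-ROOT1 (helper94's FR market for S5655): root elements from a tangent pair
-/

set_option autoImplicit false

namespace Cfsg.Agent.Lib.Helper32_FR_ROOT1

open Module Cfsg.Agent.Lib.Helper94_Symp Cfsg.Agent.Lib.Helper94_Herm
  Cfsg.Agent.Lib.Helper13_PSUSimple Cfsg.Agent.Lib.Helper27_UQDefs
  Cfsg.Agent.Lib.Helper94_FrmDefs Cfsg.Agent.Lib.Helper94_UDDefs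
  Cfsg.Agent.Lib.Helper94_FrmDefs2 Cfsg.Agent.Lib.Helper27_UQ_KISO
  Cfsg.Agent.Lib.Helper94_HermTrans Cfsg.Agent.Lib.Helper94_HermEich
  Cfsg.Agent.Lib.Helper14_PSULocal1

variable {F W : Type*} [Field F] [AddCommGroup W] [Module F W] [Finite F] [FiniteDimensional F W]
variable {σ : F →+* F} {B : W →ₗ[F] W →ₛₗ[σ] F}
variable {ι : Type*} [Fintype ι] [DecidableEq ι] {e : ι → W} {L : Subgroup (W ≃ₗ[F] W)}

/-- the product of two quasi-reflections with tangent centres is an Eichler element -/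
lemma qr_mul_qr_eq_eich (hσ : Invol σ) (hB : IsHerm B) {y y' : W} (hyy : B y y = 1)
    (hyy' : B y' y' = 1) (h1 : B y y' = 1) {ζ : F} (hζ : ζ * σ ζ = 1) :
    qr B y ζ * qr B y' ζ⁻¹ = eich B (y - y') ((ζ - 1) • y) (ζ⁻¹ - 1) := by
  have hζ0 : ζ ≠ 0 := by
    rintro rfl
    simp at hζ
  have hζi : ζ⁻¹ ≠ 0 := inv_ne_zero hζ0
  have hσζ : σ ζ = ζ⁻¹ := eq_inv_of_mul_eq_one_right hζ
  have h1' : B y' y = 1 := by rw [hB y y', h1, map_one]
  have huu : B (y - y') (y - y') = 0 := by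
    simp only [map_sub, LinearMap.sub_apply, hyy, hyy', h1, h1']
    ring
  have hyu : B y (y - y') = 0 := by
    simp only [map_sub, hyy, h1]
    ring
  have huy : B (y - y') y = 0 := by
    simp only [map_sub, LinearMap.sub_apply, hyy, h1']
    ring
  have hwu : B ((ζ - 1) • y) (y - y') = 0 := by
    rw [map_smul, LinearMap.smul_apply, hyu, smul_zero]
  have huw : B (y - y') ((ζ - 1) • y) = 0 := by
    rw [map_smulₛₗ, huy, smul_zero]
  ext v
  rw [LinearEquiv.mul_apply, qr_apply B y' hζi, qr_apply B y hζ0, eich_apply B huu hwu huw]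
  simp only [map_add, map_sub, map_smul, map_smulₛₗ, LinearMap.add_apply, LinearMap.sub_apply,
    LinearMap.smul_apply, hyy, hyy', h1, h1', smul_eq_mul, RingHom.id_apply, hσζ, map_one,
    inv_one, mul_one]
  match_scalars <;> field_simp <;> ring

theorem ROOT1 (hσ : Invol σ) (hB : IsHerm B) {y y' : W} (hy : y ∈ Rc B (mu1 σ) L)
    (hy' : y' ∈ Rc B (mu1 σ) L) (h1 : B y y' = 1) :
    ∀ ζ ∈ mu1 σ, ∀ ξ ∈ mu1 σ,
      utv B (y - y') ((1 - ζ) * σ (1 - ζ) * (σ ξ - ξ)) ∈ L := by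
  intro ζ hζ ξ hξ
  obtain ⟨hyy, hyL⟩ := hy
  obtain ⟨hyy', hyL'⟩ := hy'
  have hζ' : ζ * σ ζ = 1 := hζ
  have hξ' : ξ * σ ξ = 1 := hξ
  have hζ0 : ζ ≠ 0 := by
    rintro rfl
    simp at hζ'
  have hξ0 : ξ ≠ 0 := by
    rintro rfl
    simp at hξ'
  have hσζ : σ ζ = ζ⁻¹ := eq_inv_of_mul_eq_one_right hζ'
  have hζinv : ζ⁻¹ ∈ mu1 σ := by
    show ζ⁻¹ * σ ζ⁻¹ = 1
    rw [map_inv₀, hσζ, inv_inv, inv_mul_cancel₀ hζ0]
  have h1' : B y' y = 1 := by rw [hB y y', h1, map_one]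
  have huu : B (y - y') (y - y') = 0 := by
    simp only [map_sub, LinearMap.sub_apply, hyy, hyy', h1, h1']
    ring
  have hyu : B y (y - y') = 0 := by
    simp only [map_sub, hyy, h1]
    ring
  have huy : B (y - y') y = 0 := by
    simp only [map_sub, LinearMap.sub_apply, hyy, h1']
    ring
  set u := y - y' with hu
  set w := (ζ - 1) • y with hw
  have hwu : B w u = 0 := by
    rw [hw, map_smul, LinearMap.smul_apply, hyu, smul_zero]
  have hwu' : B (ξ • w) u = 0 := by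
    rw [map_smul, LinearMap.smul_apply, hwu, smul_zero]
  -- the element `b`
  have hb : eich B u w (ζ⁻¹ - 1) ∈ L := by
    rw [hw, hu, ← qr_mul_qr_eq_eich hσ hB hyy hyy' h1 hζ']
    exact L.mul_mem (hyL ζ hζ) (hyL' ζ⁻¹ hζinv)
  -- its conjugate
  have hs : qr B y ξ ∈ uG B := qr_mem_uG hB y hξ'
  have hsL : qr B y ξ ∈ L := hyL ξ hξ
  have hsu : qr B y ξ u = u := qr_fix B y ξ huy
  have hsw : qr B y ξ w = ξ • w := by
    rw [hw, map_smul, qr_self B (by rw [hyy]; exact one_ne_zero) hξ0, smul_comm]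
  have hb' : eich B u (ξ • w) (ζ⁻¹ - 1) ∈ L := by
    have := conj_eich (B := B) hs u w (ζ⁻¹ - 1)
    rw [hsu, hsw] at this
    rw [← this]
    exact L.mul_mem (L.mul_mem hsL hb) (L.inv_mem hsL)
  have hcomm := eich_comm' hB huu hwu hwu' (ζ⁻¹ - 1) (ζ⁻¹ - 1)
  have hval : B w (ξ • w) - B (ξ • w) w = (1 - ζ) * σ (1 - ζ) * (σ ξ - ξ) := by
    rw [hw]
    simp only [map_smul, map_smulₛₗ, LinearMap.smul_apply, hyy, smul_eq_mul, map_sub, map_one]
    ring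
  rw [hval] at hcomm
  have : utv B u ((1 - ζ) * σ (1 - ζ) * (σ ξ - ξ)) =
      (eich B u (ξ • w) (ζ⁻¹ - 1) * eich B u w (ζ⁻¹ - 1))⁻¹ *
        (eich B u w (ζ⁻¹ - 1) * eich B u (ξ • w) (ζ⁻¹ - 1)) := by
    rw [hcomm]
    group
  rw [this]
  exact L.mul_mem (L.inv_mem (L.mul_mem hb' hb)) (L.mul_mem hb hb')

end Cfsg.Agent.Lib.Helper32_FR_ROOT1
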