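import Mathlib
import Cfsg.Agent.Lib.Helper94_UDDefs
import Cfsg.Agent.Lib.Helper44_HermOrtho

/-!
# S5655, market "UD" (architect helper94): package UD-ZETA

Norm-one elements `ζ` of a field with involution with `ζ * ζ ≠ 1` (resp. `ζ ≠ 1`):
`ζ = θ / σ θ` with `θ = 1 + s`, `s` a nonzero skew element (characteristic not two), resp.
`θ` not fixed by `σ` (characteristic two).
-/

set_option autoImplicit false
set_option linter.unusedSectionVars false
set_option linter.unusedVariables false

namespace Cfsg.Agent.Lib.Helper73_UD_ZETA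

open Module Cfsg.Agent.Lib.Helper94_Symp Cfsg.Agent.Lib.Helper94_Herm
  Cfsg.Agent.Lib.Helper13_PSUSimple Cfsg.Agent.Lib.Helper27_UQDefs
  Cfsg.Agent.Lib.Helper94_FrmDefs Cfsg.Agent.Lib.Helper94_UDDefs

/-- no finiteness needed: a norm-one element whose square is not one -/
theorem exists_norm_one_sq_ne {F : Type*} [Field F] {σ : F →+* F} (hσ : Invol σ) :
    ∃ ζ : F, ζ * σ ζ = 1 ∧ ζ * ζ ≠ 1 := by
  by_cases h2 : (2 : F) = 0
  · obtain ⟨θ, hθ⟩ := hσ.ne_id
    have hθ0 : θ ≠ 0 := by
      rintro rfl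
      exact hθ (map_zero σ)
    have hσθ0 : σ θ ≠ 0 := (map_ne_zero σ).2 hθ0
    refine ⟨θ / σ θ, ?_, ?_⟩
    · rw [map_div₀, hσ.invol]
      field_simp
    · intro h
      apply hθ
      have h1 : θ * θ = σ θ * σ θ := by
        field_simp at h
        linear_combination h
      have h3 : (σ θ - θ) * (σ θ - θ) = 0 := by
        linear_combination (-1 : F) * h1 + (-(σ θ * θ)) * h2 + (θ * θ) * h2
      have h4 : σ θ - θ = 0 := by
        rcases mul_eq_zero.mp h3 with h | h <;> exact h
      exact sub_eq_zero.mp h4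
  · obtain ⟨s, hs0, hs⟩ := exists_skew hσ
    have hp : 1 + s ≠ 0 := by
      intro h
      have hs1 : s = -1 := by linear_combination h
      rw [hs1, map_neg, map_one] at hs
      apply h2
      linear_combination (-1 : F) * hs
    have hm : 1 - s ≠ 0 := by
      intro h
      have hs1 : s = 1 := by linear_combination (-1 : F) * h
      rw [hs1, map_one] at hs
      apply h2
      linear_combination hs
    refine ⟨(1 + s) / (1 - s), ?_, ?_⟩
    · rw [map_div₀, map_add, map_sub, map_one, hs]
      have : (1 : F) - -s = 1 + s := by ring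
      rw [this, ← sub_eq_add_neg]
      field_simp
    · intro h
      apply hs0
      have h1 : (1 + s) * (1 + s) = (1 - s) * (1 - s) := by
        field_simp at h
        linear_combination h
      have h3 : (2 : F) * (2 * s) = 0 := by linear_combination h1
      rcases mul_eq_zero.mp h3 with h | h
      · exact absurd h h2
      · rcases mul_eq_zero.mp h with h | h
        · exact absurd h h2
        · exact h

section

variable {F V : Type*} [Field F] [AddCommGroup V] [Module F V] [Finite F] [FiniteDimensional F V]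
variable {σ : F →+* F} {B : V →ₗ[F] V →ₛₗ[σ] F}
variable {t k : ℕ} {D : Fin t → Submodule F V} {S M : Subgroup (V ≃ₗ[F] V)}

/-- UD-ZETA. -/
theorem ZETA (hσ : Invol σ) : (∃ ζ : F, ζ * σ ζ = 1 ∧ ζ * ζ ≠ 1) ∧
    (∃ ζ : F, ζ * σ ζ = 1 ∧ ζ ≠ 1) := by
  obtain ⟨ζ, h1, h2⟩ := exists_norm_one_sq_ne hσ
  refine ⟨⟨ζ, h1, h2⟩, ⟨ζ, h1, ?_⟩⟩
  rintro rfl
  exact h2 (one_mul 1)

end

end Cfsg.Agent.Lib.Helper73_UD_ZETA
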