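import Mathlib
import Cfsg.Agent.Lib.Helper94_FrmDefs2
import Cfsg.Agent.Lib.Helper73_UD_ZETA

/-!
helper73 — common lemmas for the packages FR-S2A / FR-S5A of helper94's S5655 frames market:
quasi-reflections with centre a frame vector are monomial; the diagonal element
`diag(l at i, l' at j) = qr B (e i) l * qr B (e j) l'` and its action on a vector; membership
of `Rc` under monomial elements and norm-one scalars.
-/

set_option autoImplicit false
set_option linter.unusedSectionVars false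
set_option linter.unusedVariables false

namespace Cfsg.Agent.Lib.Helper73_FR_Diag2

open Module Cfsg.Agent.Lib.Helper94_Symp Cfsg.Agent.Lib.Helper94_Herm
  Cfsg.Agent.Lib.Helper13_PSUSimple Cfsg.Agent.Lib.Helper27_UQDefs
  Cfsg.Agent.Lib.Helper94_FrmDefs Cfsg.Agent.Lib.Helper94_UDDefs
  Cfsg.Agent.Lib.Helper94_FrmDefs2

variable {F W : Type*} [Field F] [AddCommGroup W] [Module F W]
variable {σ : F →+* F} {B : W →ₗ[F] W →ₛₗ[σ] F}
variable {ι : Type*} [DecidableEq ι] {e : ι → W} {L : Subgroup (W ≃ₗ[F] W)}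

lemma ne_zero_of_norm {l : F} (hl : l * σ l = 1) : l ≠ 0 := by
  rintro rfl
  rw [zero_mul] at hl
  exact zero_ne_one hl

/-- a quasi-reflection with centre a frame vector is monomial -/
lemma qr_frame_mem_Mono (hB : IsHerm B) (he : OFrame B e) (i : ι) {l : F} (hl : l * σ l = 1) :
    qr B (e i) l ∈ Mono B e := by
  have hl0 := ne_zero_of_norm hl
  refine ⟨qr_mem_uG hB (e i) hl, 1, fun r => ?_⟩
  by_cases hr : r = i
  · subst hr
    refine ⟨l, hl0, ?_⟩
    rw [qr_self B (by rw [he.unit r]; exact one_ne_zero) hl0]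
    rfl
  · refine ⟨1, one_ne_zero, ?_⟩
    rw [qr_fix B (e i) l (he.orth r i hr), one_smul]
    rfl

/-- the diagonal element `diag(l at i, l' at j)` -/
noncomputable def dg (B : W →ₗ[F] W →ₛₗ[σ] F) (e : ι → W) (i j : ι) (l l' : F) : W ≃ₗ[F] W :=
  qr B (e i) l * qr B (e j) l'

lemma dg_mem_Mono (hB : IsHerm B) (he : OFrame B e) (i j : ι) {l l' : F} (hl : l * σ l = 1)
    (hl' : l' * σ l' = 1) : dg B e i j l l' ∈ Mono B e :=
  (Mono B e).mul_mem (qr_frame_mem_Mono hB he i hl) (qr_frame_mem_Mono hB he j hl')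

lemma dg_apply (he : OFrame B e) {i j : ι} (hij : i ≠ j) {l l' : F} (hl : l * σ l = 1)
    (hl' : l' * σ l' = 1) (v : W) :
    dg B e i j l l' v = v + ((l - 1) * B v (e i)) • e i + ((l' - 1) * B v (e j)) • e j := by
  rw [dg, LinearEquiv.mul_apply, qr_apply B _ (ne_zero_of_norm hl'), qr_apply B _ (ne_zero_of_norm hl)]
  simp only [he.unit, inv_one, mul_one, map_add, map_smul, LinearMap.add_apply,
    LinearMap.smul_apply, smul_eq_mul, he.orth j i (Ne.symm hij), mul_zero, add_zero]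
  abel

/-- `Rc` is invariant under the elements of `L` -/
lemma Rc_map (hLU : L ≤ uG B) {x : W} (hx : x ∈ Rc B (mu1 σ) L) {g : W ≃ₗ[F] W} (hg : g ∈ L) :
    g x ∈ Rc B (mu1 σ) L := by
  refine ⟨by rw [hLU hg, hx.1], fun ζ hζ => ?_⟩
  rw [← conj_qr (hLU hg)]
  exact L.mul_mem (L.mul_mem hg (hx.2 ζ hζ)) (L.inv_mem hg)

/-- `Rc` is invariant under norm-one scalars -/
lemma Rc_smul {x : W} (hx : x ∈ Rc B (mu1 σ) L) {c : F} (hc : c * σ c = 1) :
    c • x ∈ Rc B (mu1 σ) L := by
  refine ⟨by rw [self_smul, hc, hx.1, one_mul], fun ζ hζ => ?_⟩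
  rw [qr_smul x (ne_zero_of_norm hc)]
  exact hx.2 ζ hζ

end Cfsg.Agent.Lib.Helper73_FR_Diag2
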