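import Mathlib
import Cfsg.Agent.Lib.Helper83_FrCDefs

set_option autoImplicit false
set_option linter.unusedVariables false
set_option linter.unusedSectionVars false

/-!
S5655 case (C), package PK01 (helper7): determinant of a monomial map and existence of the
monomial maps inside `frH B e`.
-/

namespace Cfsg.Agent.Lib.Helper7_FrC_PK01

open Module Cfsg.Agent.Lib.Helper94_Herm Cfsg.Agent.Lib.Helper13_PSUSimple
  Cfsg.Agent.Lib.Helper94_FrmDefs Cfsg.Agent.Lib.Helper83_FrCDefs

variable {F V ι : Type*} [Field F] [AddCommGroup V] [Module F V] [Fintype ι] [DecidableEq ι]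
variable {σ : F →+* F} {B : V →ₗ[F] V →ₛₗ[σ] F} {e : ι → V}

/-- PK01a. `det g = sign π * ∏ w` for a monomial map. -/
theorem hasDet (hfr : OFrame B e) : HasDet F e := by
  intro g π w hg
  rw [LinearEquiv.coe_det, ← LinearMap.det_toMatrix (fr_basis hfr)]
  have hM : ∀ i j, LinearMap.toMatrix (fr_basis hfr) (fr_basis hfr) (g : V →ₗ[F] V) i j
      = if i = π j then w j else 0 := by
    intro i j
    rw [LinearMap.toMatrix_apply, fr_basis_apply, LinearEquiv.coe_coe, hg j, fr_repr_apply hfr,
      map_smul, LinearMap.smul_apply, smul_eq_mul, fr_apply_eq hfr]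
    by_cases h : i = π j
    · rw [if_pos h, if_pos h.symm, mul_one]
    · rw [if_neg h, if_neg (fun h' => h h'.symm), mul_zero]
  rw [Matrix.det_apply']
  rw [Finset.sum_eq_single π]
  · congr 1
    refine Finset.prod_congr rfl (fun i _ => ?_)
    rw [hM, if_pos rfl]
  · intro τ _ hτ
    have : ∃ i, τ i ≠ π i := by
      by_contra hcon
      push Not at hcon
      exact hτ (Equiv.ext hcon)
    obtain ⟨i, hi⟩ := this
    rw [Finset.prod_eq_zero (Finset.mem_univ i), mul_zero]
    rw [hM, if_neg hi]
  · intro h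
    exact absurd (Finset.mem_univ π) h

/-- an `F`-linear equivalence preserving the form on the frame is an isometry -/
lemma mem_uG_of_frame (hfr : OFrame B e) (g : V ≃ₗ[F] V)
    (h : ∀ i j, B (g (e i)) (g (e j)) = B (e i) (e j)) : g ∈ uG B := by
  intro x y
  have h1 : (B.comp (g : V →ₗ[F] V)).compl₂ (g : V →ₗ[F] V) = B := by
    refine (fr_basis hfr).ext (fun i => ?_)
    refine (fr_basis hfr).ext (fun j => ?_)
    simp only [fr_basis_apply, LinearMap.compl₂_apply, LinearMap.comp_apply, LinearEquiv.coe_coe]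
    exact h i j
  have h2 := LinearMap.congr_fun (LinearMap.congr_fun h1 x) y
  simpa only [LinearMap.compl₂_apply, LinearMap.comp_apply, LinearEquiv.coe_coe] using h2

/-- PK01b. existence of the monomial map inside `frH B e = Mono B e ⊓ SUg B`. -/
theorem hasMono (hσ : Invol σ) (hB : IsHerm B) (hfr : OFrame B e) (hdet : HasDet F e) :
    HasMono B e := by
  intro π w hw hdet1
  have hw0 : ∀ i, w i ≠ 0 := by
    intro i h0
    have := hw i
    rw [h0, zero_mul] at this
    exact zero_ne_one this
  let b := fr_basis hfr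
  let b' : Basis ι F V := (b.reindex π.symm).unitsSMul (fun i => Units.mk0 (w i) (hw0 i))
  have hb' : ∀ i, b' i = w i • e (π i) := by
    intro i
    show ((b.reindex π.symm).unitsSMul (fun i => Units.mk0 (w i) (hw0 i))) i = _
    rw [Basis.unitsSMul_apply, Basis.reindex_apply, Equiv.symm_symm, fr_basis_apply]
    rfl
  let g : V ≃ₗ[F] V := b.equiv b' (Equiv.refl ι)
  have hg : ∀ i, g (e i) = w i • e (π i) := by
    intro i
    have := Basis.equiv_apply b i b' (Equiv.refl ι)
    rw [fr_basis_apply, Equiv.refl_apply, hb'] at this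
    exact this
  have hgU : g ∈ uG B := by
    apply mem_uG_of_frame hfr
    intro i j
    rw [hg i, hg j]
    simp only [map_smul, map_smulₛₗ, LinearMap.smul_apply, smul_eq_mul]
    rw [fr_apply_eq hfr, fr_apply_eq hfr]
    by_cases hij : i = j
    · subst hij
      rw [if_pos rfl, if_pos rfl, mul_one, mul_comm (σ (w i)), hw i]
    · rw [if_neg hij, if_neg (fun h => hij (π.injective h)), mul_zero, mul_zero]
  refine ⟨g, ?_, hg⟩
  rw [mem_frH]
  refine ⟨⟨hgU, π, fun i => ⟨w i, hw0 i, hg i⟩⟩, ?_⟩
  rw [mem_SUg]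
  refine ⟨hgU, ?_⟩
  apply Units.ext
  rw [hdet g π w hg, hdet1, Units.val_one]

end Cfsg.Agent.Lib.Helper7_FrC_PK01
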