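/-
helper79 — package FR-FRAME of helper94's FR market (S5655, blocks of dimension one, case (A)):
algebra of an orthonormal frame: expansion, Parseval, coordinates, diagonal and permutation
elements of the full monomial group.
-/
import Mathlib
import Cfsg.Agent.Lib.Helper94_FrmDefs2
import Cfsg.Agent.Lib.Helper83_FrCDefs
import Cfsg.Agent.Lib.Helper7_FrC_PK01

set_option autoImplicit false
set_option linter.unusedVariables false
set_option linter.unusedSectionVars false

namespace Cfsg.Agent.Lib.Helper79_FR_FRAME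

open Module Cfsg.Agent.Lib.Helper94_Symp Cfsg.Agent.Lib.Helper94_Herm
  Cfsg.Agent.Lib.Helper13_PSUSimple Cfsg.Agent.Lib.Helper27_UQDefs
  Cfsg.Agent.Lib.Helper94_FrmDefs Cfsg.Agent.Lib.Helper94_UDDefs
  Cfsg.Agent.Lib.Helper94_FrmDefs2 Cfsg.Agent.Lib.Helper27_UQ_KISO
  Cfsg.Agent.Lib.Helper83_FrCDefs

variable {F W : Type*} [Field F] [AddCommGroup W] [Module F W]
variable {σ : F →+* F} {B : W →ₗ[F] W →ₛₗ[σ] F}
variable {ι : Type*} [Fintype ι] [DecidableEq ι] {e : ι → W} {L : Subgroup (W ≃ₗ[F] W)}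

/-- the monomial element with permutation `π` and norm-one weights `w` -/
theorem exists_mono (he : OFrame B e) (π : Equiv.Perm ι) (w : ι → F)
    (hw : ∀ i, w i * σ (w i) = 1) :
    ∃ g ∈ Mono B e, ∀ i, g (e i) = w i • e (π i) := by
  have hw0 : ∀ i, w i ≠ 0 := by
    intro i h0
    have := hw i
    rw [h0, zero_mul] at this
    exact zero_ne_one this
  let b := fr_basis he
  let b' : Basis ι F W := (b.reindex π.symm).unitsSMul (fun i => Units.mk0 (w i) (hw0 i))
  have hb' : ∀ i, b' i = w i • e (π i) := by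
    intro i
    show ((b.reindex π.symm).unitsSMul (fun i => Units.mk0 (w i) (hw0 i))) i = _
    rw [Basis.unitsSMul_apply, Basis.reindex_apply, Equiv.symm_symm, fr_basis_apply]
    rfl
  let g : W ≃ₗ[F] W := b.equiv b' (Equiv.refl ι)
  have hg : ∀ i, g (e i) = w i • e (π i) := by
    intro i
    have := Basis.equiv_apply b i b' (Equiv.refl ι)
    rw [fr_basis_apply, Equiv.refl_apply, hb'] at this
    exact this
  have hgU : g ∈ uG B := by
    apply Cfsg.Agent.Lib.Helper7_FrC_PK01.mem_uG_of_frame he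
    intro i j
    rw [hg i, hg j]
    simp only [map_smul, map_smulₛₗ, LinearMap.smul_apply, smul_eq_mul]
    rw [fr_apply_eq he, fr_apply_eq he]
    by_cases hij : i = j
    · subst hij
      rw [if_pos rfl, if_pos rfl, mul_one, mul_comm (σ (w i)), hw i]
    · rw [if_neg hij, if_neg (fun h => hij (π.injective h)), mul_zero, mul_zero]
  exact ⟨g, ⟨hgU, π, fun i => ⟨w i, hw0 i, hg i⟩⟩, hg⟩

/-- FR-FRAME.  Expansion, Parseval, diagonal and permutation elements of the monomial group. -/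
theorem FRAME (hσ : Invol σ) (hB : IsHerm B) (he : OFrame B e) :
    (∀ w : W, w = ∑ i, B w (e i) • e i) ∧
    (∀ v w : W, B v w = ∑ i, B v (e i) * σ (B w (e i))) ∧
    (∀ a : ι → F, ∀ i, B (∑ j, a j • e j) (e i) = a i) ∧
    (∀ ζ : ι → F, (∀ i, ζ i * σ (ζ i) = 1) → ∃ d ∈ Mono B e, ∀ i, d (e i) = ζ i • e i) ∧
    (∀ π : Equiv.Perm ι, ∃ p ∈ Mono B e, ∀ i, p (e i) = e (π i)) := by
  refine ⟨fr_expand he, fr_form_eq he, fun a i => fr_coord_sum he a i, ?_, ?_⟩
  · intro ζ hζ
    obtain ⟨g, hg, hge⟩ := exists_mono he 1 ζ hζ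
    exact ⟨g, hg, fun i => by rw [hge i, Equiv.Perm.one_apply]⟩
  · intro π
    obtain ⟨g, hg, hge⟩ := exists_mono he π (fun _ => 1) (fun i => by rw [map_one, mul_one])
    exact ⟨g, hg, fun i => by rw [hge i, one_smul]⟩

end Cfsg.Agent.Lib.Helper79_FR_FRAME
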