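import Mathlib
import Cfsg.Agent.Lib.Helper94_Herm
import Cfsg.Agent.Lib.Helper95_UQ_FLD
import Cfsg.Agent.Lib.Helper13_Herm

/-!
# S2152 part B package UQ-FROB (architect helper50, proof helper91)

On a field with `q ^ 2` elements an involution `σ ≠ id` is `x ↦ x ^ q`.
-/

set_option autoImplicit false

namespace Cfsg.Agent.Lib.Helper91_UQ_FROB

open Cfsg.Agent.Lib.Helper94_Herm Cfsg.Agent.Lib.Helper95_UQ_FLD

variable {F : Type*} [Field F] {σ : F →+* F}

/-- elements of the fixed field satisfy `a ^ q = a` -/
theorem pow_q_of_fixed [Finite F] (hσ : Invol σ) {q : ℕ} (hF : Nat.card F = q ^ 2) {a : F}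
    (ha : σ a = a) : a ^ q = a := by
  classical
  let K : Subfield F := RingHom.eqLocusField σ (RingHom.id F)
  have : Fintype K := Fintype.ofFinite K
  have hK : Fintype.card K = q := by
    rw [← Nat.card_eq_fintype_card, ← card_fixed hσ hF]
    exact Nat.card_congr (Equiv.subtypeEquivRight (fun x => Iff.rfl))
  have h := FiniteField.pow_card (⟨a, ha⟩ : K)
  rw [hK] at h
  simpa using congrArg Subtype.val h

/-- UQ-FROB (M; Helper94_Herm + Helper95_UQ_FLD).  On a field with `q^2` elements an involution `σ ≠ id` is `x ↦ x^q`. -/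
theorem FROB [Finite F] (hσ : Invol σ) {q : ℕ} (hF : Nat.card F = q ^ 2) : ∀ x : F, σ x = x ^ q := by
  classical
  have : Fintype F := Fintype.ofFinite F
  have hF' : Fintype.card F = q ^ 2 := by
    rw [← Nat.card_eq_fintype_card]
    exact hF
  have hq2 : 2 ≤ q := Cfsg.Agent.Lib.Helper13_Herm.two_le_q hF'
  have hq0 : q ≠ 0 := by omega
  -- the `q`-th power map as a ring hom
  let τ : F →+* F :=
    { toFun := fun x => x ^ q
      map_one' := one_pow q
      map_mul' := fun x y => mul_pow x y q
      map_zero' := zero_pow hq0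
      map_add' := Cfsg.Agent.Lib.Helper13_Herm.add_pow_q hF' }
  have hτ : ∀ x, τ x = x ^ q := fun _ => rfl
  have hfix : ∀ a, σ a = a → τ a = a := fun a ha => pow_q_of_fixed hσ hF ha
  obtain ⟨ω, hω⟩ := hσ.ne_id
  have ht : σ (ω + σ ω) = ω + σ ω := by rw [map_add, hσ.invol, add_comm]
  have hn : σ (ω * σ ω) = ω * σ ω := by rw [map_mul, hσ.invol, mul_comm]
  have hprod : (τ ω - ω) * (τ ω - σ ω) = 0 := by
    have h0 : ω ^ 2 - (ω + σ ω) * ω + ω * σ ω = 0 := by ring
    have h1 := congrArg τ h0
    rw [map_add, map_sub, map_mul, map_pow, hfix _ ht, hfix _ hn, map_zero] at h1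
    linear_combination h1
  have hkey : τ ω = σ ω := by
    rcases mul_eq_zero.mp hprod with h | h
    · exfalso
      have hωq : τ ω = ω := sub_eq_zero.mp h
      have hall : ∀ x : F, x ^ q = x := by
        intro x
        obtain ⟨r, s, hr, hs, rfl⟩ := decomp hσ hω x
        rw [← hτ, map_add, map_mul, hfix r hr, hfix s hs, hωq]
      have hne : (Polynomial.X ^ q - Polynomial.X : Polynomial F) ≠ 0 :=
        FiniteField.X_pow_card_sub_X_ne_zero F (by omega)
      have hdeg := FiniteField.X_pow_card_sub_X_natDegree_eq F (p := q) (by omega)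
      have hsub : (Finset.univ : Finset F) ⊆
          (Polynomial.X ^ q - Polynomial.X : Polynomial F).roots.toFinset := by
        intro x _
        rw [Multiset.mem_toFinset, Polynomial.mem_roots hne, Polynomial.IsRoot.def,
          Polynomial.eval_sub, Polynomial.eval_pow, Polynomial.eval_X, hall x, sub_self]
      have h1 := Finset.card_le_card hsub
      have h2 := Multiset.toFinset_card_le (Polynomial.X ^ q - Polynomial.X : Polynomial F).roots
      have h3 := Polynomial.card_roots' (Polynomial.X ^ q - Polynomial.X : Polynomial F)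
      rw [Finset.card_univ, hF'] at h1
      rw [hdeg] at h3
      nlinarith
    · exact sub_eq_zero.mp h
  intro x
  obtain ⟨r, s, hr, hs, rfl⟩ := decomp hσ hω x
  rw [← hτ, map_add, map_mul, map_add, map_mul, hr, hs, hfix r hr, hfix s hs, hkey]

end Cfsg.Agent.Lib.Helper91_UQ_FROB
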