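import Mathlib
import Cfsg.Agent.Lib.Helper94_FrmDefs2
import Cfsg.Agent.Lib.Helper83_FrCDefs
import Cfsg.Agent.Lib.Helper91_UQ_FROB

/-!
# S5655, blocks of dimension one (architect helper94), package FR-Q2E

`|F| = 4`: an isotropic vector has even support, a nonzero one has support at least two.
-/

set_option autoImplicit false
set_option linter.unusedSectionVars false
set_option linter.unusedVariables false

namespace Cfsg.Agent.Lib.Helper8_FR_Q2E

open Module Cfsg.Agent.Lib.Helper94_Symp Cfsg.Agent.Lib.Helper94_Herm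
  Cfsg.Agent.Lib.Helper13_PSUSimple Cfsg.Agent.Lib.Helper27_UQDefs
  Cfsg.Agent.Lib.Helper94_FrmDefs Cfsg.Agent.Lib.Helper94_UDDefs
  Cfsg.Agent.Lib.Helper94_FrmDefs2

variable {F W : Type*} [Field F] [AddCommGroup W] [Module F W] [Finite F] [FiniteDimensional F W]
variable {σ : F →+* F} {B : W →ₗ[F] W →ₛₗ[σ] F}
variable {ι : Type*} [Fintype ι] [DecidableEq ι] {e : ι → W} {L : Subgroup (W ≃ₗ[F] W)}

/-- in the field with four elements every nonzero element has norm one -/
theorem norm_eq_one_of_card_four (hσ : Invol σ) (hF4 : Nat.card F = 4) {x : F} (hx : x ≠ 0) :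
    x * σ x = 1 := by
  classical
  have : Fintype F := Fintype.ofFinite F
  have hF' : Fintype.card F = 4 := by rw [← Nat.card_eq_fintype_card]; exact hF4
  rw [Cfsg.Agent.Lib.Helper91_UQ_FROB.FROB hσ (q := 2) (by rw [hF4]; norm_num) x]
  have := FiniteField.pow_card_sub_one_eq_one x hx
  rw [hF'] at this
  calc x * x ^ 2 = x ^ (4 - 1) := by ring
    _ = 1 := this

/-- in the field with four elements `2 = 0` -/
theorem two_eq_zero_of_card_four (hF4 : Nat.card F = 4) : (2 : F) = 0 := by
  classical
  have : Fintype F := Fintype.ofFinite F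
  have hF' : Fintype.card F = 4 := by rw [← Nat.card_eq_fintype_card]; exact hF4
  have h4 : ((4 : ℕ) : F) = 0 := by
    rw [← hF']
    exact Nat.cast_card_eq_zero F
  have h22 : (2 : F) * 2 = 0 := by
    have : ((4 : ℕ) : F) = 2 * 2 := by norm_num
    rw [← this]; exact h4
  exact mul_self_eq_zero.mp h22

/-- FR-Q2E (S).  `|F| = 4`: an isotropic vector has even support (`N u = |supp u|` in `F`), a nonzero
one has support ≥ 2. -/
theorem Q2E (hσ : Invol σ) (hB : IsHerm B) (he : OFrame B e) (hF4 : Nat.card F = 4) {u : W}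
    (hu : B u u = 0) (hu0 : u ≠ 0) : Even (supp B e u).card ∧ 2 ≤ (supp B e u).card := by
  classical
  have h2 := two_eq_zero_of_card_four (F := F) hF4
  -- the norm of `u` is the cardinality of the support
  have hN : B u u = ((supp B e u).card : F) := by
    rw [Cfsg.Agent.Lib.Helper83_FrCDefs.fr_form_eq he u u]
    have : ∀ i, B u (e i) * σ (B u (e i)) = if i ∈ supp B e u then 1 else 0 := by
      intro i
      by_cases hi : B u (e i) = 0
      · rw [if_neg (fun h => (mem_supp.mp h) hi), hi, zero_mul]
      · rw [if_pos (mem_supp.mpr hi)]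
        exact norm_eq_one_of_card_four hσ hF4 hi
    rw [Finset.sum_congr rfl (fun i _ => this i), Finset.sum_ite_mem, Finset.univ_inter,
      Finset.sum_const, nsmul_eq_mul, mul_one]
  have hcard0 : ((supp B e u).card : F) = 0 := by rw [← hN, hu]
  have heven : Even (supp B e u).card := by
    rcases Nat.even_or_odd (supp B e u).card with h | h
    · exact h
    · exfalso
      obtain ⟨m, hm⟩ := h
      rw [hm] at hcard0
      push_cast at hcard0
      rw [h2, zero_mul, zero_add] at hcard0
      exact one_ne_zero hcard0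
  refine ⟨heven, ?_⟩
  have hpos : 0 < (supp B e u).card := by
    rw [Finset.card_pos]
    by_contra hemp
    rw [Finset.not_nonempty_iff_eq_empty] at hemp
    apply hu0
    apply Cfsg.Agent.Lib.Helper83_FrCDefs.fr_ext_coord he
    intro i
    have : i ∉ supp B e u := by rw [hemp]; exact Finset.notMem_empty i
    rw [mem_supp, not_not] at this
    rw [this, map_zero, LinearMap.zero_apply]
  obtain ⟨m, hm⟩ := heven
  omega

end Cfsg.Agent.Lib.Helper8_FR_Q2E
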