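import Mathlib
import Cfsg.Agent.Lib.Helper94_FrmDefs2
import Cfsg.Agent.Lib.Helper14_PSULocal1
import Cfsg.Agent.Lib.Helper32_FR_ROOT1
import Cfsg.Agent.Lib.Helper79_FR_FRAME
import Cfsg.Agent.Lib.Helper73_FR_Diag2
import Cfsg.Agent.Lib.Helper8_FR_Q2E

/-!
# Helper20_FR_Q2B: package FR-Q2B of the FR market (S5655, architect helper94)

`|F| = 4`: a tangent pair of reflection centres whose difference has support of size two gives a
root vector with support of size four.
-/

set_option autoImplicit false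

namespace Cfsg.Agent.Lib.Helper20_FR_Q2B

open Module Cfsg.Agent.Lib.Helper94_Symp Cfsg.Agent.Lib.Helper94_Herm
  Cfsg.Agent.Lib.Helper13_PSUSimple Cfsg.Agent.Lib.Helper27_UQDefs
  Cfsg.Agent.Lib.Helper94_FrmDefs Cfsg.Agent.Lib.Helper94_UDDefs
  Cfsg.Agent.Lib.Helper94_FrmDefs2 Cfsg.Agent.Lib.Helper27_UQ_KISO
  Cfsg.Agent.Lib.Helper94_HermTrans Cfsg.Agent.Lib.Helper83_FrCDefs
  Cfsg.Agent.Lib.Helper14_PSULocal1 Cfsg.Agent.Lib.Helper94_HermEich

variable {F W : Type*} [Field F] [AddCommGroup W] [Module F W]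
variable {σ : F →+* F} {B : W →ₗ[F] W →ₛₗ[σ] F}
variable {ι : Type*} [Fintype ι] [DecidableEq ι] {e : ι → W} {L : Subgroup (W ≃ₗ[F] W)}

/-! ### characteristic two -/

theorem add_self_vec (h20 : (2 : F) = 0) (w : W) : w + w = 0 := by
  rw [← two_smul F w, h20, zero_smul]

theorem neg_eq_self (h20 : (2 : F) = 0) (x : F) : -x = x := by
  have : x + x = 0 := by rw [← two_mul, h20, zero_mul]
  exact neg_eq_of_add_eq_zero_left this

/-! ### the Eichler elements -/

/-- shifting the vector of an Eichler element by a multiple of its centre -/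
theorem eich_shift {u w : W} (hu : B u u = 0) (hwu : B w u = 0) (huw : B u w = 0) (μ c : F) :
    eich B u (w + μ • u) c = eich B u w (c + μ - σ μ) := by
  ext v
  have h1 : B (w + μ • u) u = 0 := by
    rw [map_add, map_smul, LinearMap.add_apply, LinearMap.smul_apply, hwu, hu, smul_zero, add_zero]
  have h2 : B u (w + μ • u) = 0 := by
    rw [map_add, map_smulₛₗ, huw, hu, smul_zero, add_zero]
  rw [eich_apply B hu h1 h2, eich_apply B hu hwu huw]
  simp only [map_add, map_smulₛₗ, smul_eq_mul]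
  module

/-- in characteristic two an Eichler element with isotropic vector is a product of transvections -/
theorem eich_eq_utv (h20 : (2 : F) = 0) {u w : W} (hu : B u u = 0) (hw : B w w = 0)
    (hwu : B w u = 0) (huw : B u w = 0) (c : F) :
    eich B u w c = utv B (u + w) 1 * utv B u 1 * utv B w 1 * utv B u c := by
  ext v
  have huw' : B (u + w) (u + w) = 0 := by
    simp only [map_add, LinearMap.add_apply, hu, hw, hwu, huw, add_zero]
  rw [LinearEquiv.mul_apply, LinearEquiv.mul_apply, LinearEquiv.mul_apply, utv_apply B hu c v,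
    utv_apply B hw, utv_apply B hu, utv_apply B huw', eich_apply B hu hwu huw]
  simp only [map_add, map_smul, LinearMap.add_apply, LinearMap.smul_apply, smul_eq_mul, hu, hw, hwu,
    huw, mul_zero, add_zero, one_mul]
  have e1 := add_self_vec h20 (B v u • u)
  have e2 := add_self_vec h20 (B v w • w)
  have e3 := add_self_vec h20 (B v w • u)
  linear_combination (norm := module) -e1 - e2 - e3


/-! ### support-two transvections are monomial -/

theorem utv_two_mem_Mono (hB : IsHerm B) (he : OFrame B e) (h20 : (2 : F) = 0)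
    (hnorm : ∀ a : F, a ≠ 0 → a * σ a = 1) {i j : ι} (hij : i ≠ j) {a b : F} (ha : a ≠ 0)
    (hb : b ≠ 0) : utv B (a • e i + b • e j) 1 ∈ Mono B e := by
  have hji : j ≠ i := Ne.symm hij
  have hzz : B (a • e i + b • e j) (a • e i + b • e j) = 0 := by
    simp only [map_add, map_smul, map_smulₛₗ, LinearMap.add_apply, LinearMap.smul_apply,
      smul_eq_mul, he.unit, he.orth i j hij, he.orth j i hji, mul_zero, mul_one, add_zero, zero_add]
    rw [mul_comm (σ a), mul_comm (σ b), hnorm a ha, hnorm b hb, ← two_mul, h20, zero_mul]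
  have hσ1 : σ (1 : F) = -1 := by rw [map_one, neg_eq_self h20]
  have hcoord : ∀ r, B (e r) (a • e i + b • e j) = σ a * B (e r) (e i) + σ b * B (e r) (e j) := by
    intro r
    rw [map_add, map_smulₛₗ, map_smulₛₗ, smul_eq_mul, smul_eq_mul]
  refine ⟨utv_mem_uG hB _ hσ1, Equiv.swap i j, fun r => ?_⟩
  by_cases hri : r = i
  · rw [hri]
    refine ⟨σ a * b, mul_ne_zero ((map_ne_zero σ).2 ha) hb, ?_⟩
    rw [Equiv.swap_apply_left, utv_apply B hzz, hcoord, he.unit, he.orth i j hij, mul_zero,
      add_zero, mul_one, one_mul, smul_add, smul_smul, smul_smul]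
    have h1 : σ a * a = 1 := by rw [mul_comm]; exact hnorm a ha
    rw [h1, one_smul, ← add_assoc, add_self_vec h20, zero_add]
  · by_cases hrj : r = j
    · rw [hrj]
      refine ⟨σ b * a, mul_ne_zero ((map_ne_zero σ).2 hb) ha, ?_⟩
      rw [Equiv.swap_apply_right, utv_apply B hzz, hcoord, he.unit, he.orth j i hji, mul_zero,
        zero_add, mul_one, one_mul, smul_add, smul_smul, smul_smul]
      have h1 : σ b * b = 1 := by rw [mul_comm]; exact hnorm b hb
      rw [h1, one_smul, add_comm ((σ b * a) • e i), ← add_assoc, add_self_vec h20, zero_add]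
    · refine ⟨1, one_ne_zero, ?_⟩
      rw [Equiv.swap_apply_of_ne_of_ne hri hrj, one_smul]
      apply utv_fix
      rw [hcoord, he.orth r i hri, he.orth r j hrj, mul_zero, mul_zero, add_zero]

/-! ### the set `I` -/

/-- the vectors `w ⊥ e i, e j` some Eichler element `eich B u w c` of which lies in `L` -/
def II (B : W →ₗ[F] W →ₛₗ[σ] F) (e : ι → W) (L : Subgroup (W ≃ₗ[F] W)) (u : W) (i j : ι)
    (w : W) : Prop :=
  B w (e i) = 0 ∧ B w (e j) = 0 ∧ ∃ c : F, c + σ c = -(B w w) ∧ eich B u w c ∈ L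

theorem perp_two {i j : ι} (a b : F) {w : W} (hwi : B w (e i) = 0) (hwj : B w (e j) = 0) :
    B w (a • e i + b • e j) = 0 := by
  rw [map_add, map_smulₛₗ, map_smulₛₗ, hwi, hwj, smul_zero, smul_zero, add_zero]

theorem II_add (hB : IsHerm B) {u : W} {i j : ι} (huu : B u u = 0)
    (hperp : ∀ w, B w (e i) = 0 → B w (e j) = 0 → B w u = 0) {w w' : W}
    (hw : II B e L u i j w) (hw' : II B e L u i j w') : II B e L u i j (w + w') := by
  obtain ⟨hwi, hwj, c, hc, hcL⟩ := hw
  obtain ⟨hwi', hwj', c', hc', hcL'⟩ := hw'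
  refine ⟨by rw [map_add, LinearMap.add_apply, hwi, hwi', add_zero],
    by rw [map_add, LinearMap.add_apply, hwj, hwj', add_zero], c + c' - B w' w, ?_, ?_⟩
  · rw [self_add hB, map_sub, map_add, ← hB w w']
    have e1 : σ (B w' w) = B w w' := (hB w' w).symm
    rw [e1]
    linear_combination hc + hc'
  · rw [← eich_mul' hB huu (hperp w hwi hwj) (hperp w' hwi' hwj')]
    exact L.mul_mem hcL hcL'

theorem II_map {u : W} {i j : ι} {g : W ≃ₗ[F] W} (hgL : g ∈ L) (hgU : g ∈ uG B)
    (hgi : g (e i) = e i) (hgj : g (e j) = e j) (hgu : g u = u) {w : W}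
    (hw : II B e L u i j w) : II B e L u i j (g w) := by
  obtain ⟨hwi, hwj, c, hc, hcL⟩ := hw
  have h1 : B (g w) (e i) = B (g w) (g (e i)) := by rw [hgi]
  have h2 : B (g w) (e j) = B (g w) (g (e j)) := by rw [hgj]
  refine ⟨by rw [h1, hgU, hwi], by rw [h2, hgU, hwj], c, by rw [hgU]; exact hc, ?_⟩
  have := conj_eich hgU u w c
  rw [hgu] at this
  rw [← this]
  exact L.mul_mem (L.mul_mem hgL hcL) (L.inv_mem hgL)


theorem two_iso (he : OFrame B e) (h20 : (2 : F) = 0) (hnorm : ∀ a : F, a ≠ 0 → a * σ a = 1)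
    {i j : ι} (hij : i ≠ j) {a b : F} (ha : a ≠ 0) (hb : b ≠ 0) :
    B (a • e i + b • e j) (a • e i + b • e j) = 0 := by
  have hji : j ≠ i := Ne.symm hij
  simp only [map_add, map_smul, map_smulₛₗ, LinearMap.add_apply, LinearMap.smul_apply,
    smul_eq_mul, he.unit, he.orth i j hij, he.orth j i hji, mul_zero, mul_one, add_zero, zero_add]
  rw [mul_comm (σ a), mul_comm (σ b), hnorm a ha, hnorm b hb, ← two_mul, h20, zero_mul]

theorem II_frame (hB : IsHerm B) (he : OFrame B e) (hML : Mono B e ≤ L) (h20 : (2 : F) = 0)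
    (hnorm : ∀ a : F, a ≠ 0 → a * σ a = 1) {ω : F} (hω0 : ω ≠ 0) (hω1 : ω ≠ 1)
    {i j : ι} {a b : F} (huu : B (a • e i + b • e j) (a • e i + b • e j) = 0)
    {w0 : W} (hw0 : w0 ≠ 0) (hI : II B e L (a • e i + b • e j) i j w0) :
    ∃ k, k ≠ i ∧ k ≠ j ∧ II B e L (a • e i + b • e j) i j (e k) := by
  obtain ⟨k, hk⟩ : ∃ k, B w0 (e k) ≠ 0 := by
    by_contra hcon
    push Not at hcon
    apply hw0
    rw [fr_expand he w0]
    exact Finset.sum_eq_zero (fun r _ => by rw [hcon r, zero_smul])
  have hki : k ≠ i := by rintro rfl; exact hk hI.1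
  have hkj : k ≠ j := by rintro rfl; exact hk hI.2.1
  refine ⟨k, hki, hkj, ?_⟩
  have hperp : ∀ w, B w (e i) = 0 → B w (e j) = 0 → B w (a • e i + b • e j) = 0 :=
    fun w h1 h2 => perp_two a b h1 h2
  have hkk : B (e k) (e k) ≠ 0 := by rw [he.unit]; exact one_ne_zero
  have hdiag : ∀ l : F, l ≠ 0 → ∀ w, II B e L (a • e i + b • e j) i j w →
      II B e L (a • e i + b • e j) i j (qr B (e k) l w) := by
    intro l hl w hw
    have hM : qr B (e k) l ∈ Mono B e :=
      Cfsg.Agent.Lib.Helper73_FR_Diag2.qr_frame_mem_Mono hB he k (hnorm l hl)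
    have hgi : qr B (e k) l (e i) = e i := qr_fix B (e k) l (he.orth i k (Ne.symm hki))
    have hgj : qr B (e k) l (e j) = e j := qr_fix B (e k) l (he.orth j k (Ne.symm hkj))
    have hgu : qr B (e k) l (a • e i + b • e j) = a • e i + b • e j := by
      rw [map_add, map_smul, map_smul, hgi, hgj]
    exact II_map (hML hM) hM.1 hgi hgj hgu hw
  have h1 := hdiag ω hω0 w0 hI
  have h2 := II_add hB huu hperp hI h1
  rw [qr_apply B (e k) hω0, he.unit, inv_one, mul_one, ← add_assoc, add_self_vec h20, zero_add] at h2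
  have hs0 : (ω - 1) * B w0 (e k) ≠ 0 := mul_ne_zero (sub_ne_zero.mpr hω1) hk
  have h3 := hdiag ((ω - 1) * B w0 (e k))⁻¹ (inv_ne_zero hs0) _ h2
  rw [map_smul, qr_self B hkk (inv_ne_zero hs0), smul_smul, mul_inv_cancel₀ hs0, one_smul] at h3
  exact h3

theorem II_swap (he : OFrame B e) (hML : Mono B e ≤ L)
    {i j k l : ι} (hki : k ≠ i) (hkj : k ≠ j) (hli : l ≠ i) (hlj : l ≠ j) {a b : F}
    (hI : II B e L (a • e i + b • e j) i j (e k)) : II B e L (a • e i + b • e j) i j (e l) := by
  obtain ⟨p, hpM, hp⟩ := Cfsg.Agent.Lib.Helper79_FR_FRAME.exists_mono (σ := σ) (B := B) he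
    (Equiv.swap k l) (fun _ => (1 : F)) (fun _ => by rw [one_mul, map_one])
  have hpi : p (e i) = e i := by
    rw [hp, one_smul, Equiv.swap_apply_of_ne_of_ne (Ne.symm hki) (Ne.symm hli)]
  have hpj : p (e j) = e j := by
    rw [hp, one_smul, Equiv.swap_apply_of_ne_of_ne (Ne.symm hkj) (Ne.symm hlj)]
  have hpk : p (e k) = e l := by rw [hp, one_smul, Equiv.swap_apply_left]
  have hpu : p (a • e i + b • e j) = a • e i + b • e j := by
    rw [map_add, map_smul, map_smul, hpi, hpj]
  have := II_map (hML hpM) hpM.1 hpi hpj hpu hI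
  rwa [hpk] at this

theorem final_step (hB : IsHerm B) (he : OFrame B e) (hML : Mono B e ≤ L) (h20 : (2 : F) = 0)
    (hnorm : ∀ a : F, a ≠ 0 → a * σ a = 1) (hskew : ∀ c : F, σ c = -c → c = 0 ∨ c = 1)
    {i j k l : ι} (hij : i ≠ j) (hki : k ≠ i) (hkj : k ≠ j) (hli : l ≠ i) (hlj : l ≠ j)
    (hkl : k ≠ l) {a b : F} (ha : a ≠ 0) (hb : b ≠ 0)
    (hI : II B e L (a • e i + b • e j) i j (e k + e l)) :
    (a • e i + b • e j) + (e k + e l) ∈ UU B L ∧
      (supp B e ((a • e i + b • e j) + (e k + e l))).card = 4 := by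
  have huu := two_iso (B := B) he h20 hnorm hij ha hb
  have hw1 : e k + e l = (1 : F) • e k + (1 : F) • e l := by rw [one_smul, one_smul]
  have hww : B (e k + e l) (e k + e l) = 0 := by
    rw [hw1]
    exact two_iso he h20 hnorm hkl one_ne_zero one_ne_zero
  obtain ⟨hwi, hwj, c, hc, hcL⟩ := hI
  have hwu : B (e k + e l) (a • e i + b • e j) = 0 := perp_two a b hwi hwj
  have huw : B (a • e i + b • e j) (e k + e l) = 0 := herm_eq_zero hB hwu
  have hcs : σ c = -c := by
    rw [hww, neg_zero] at hc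
    exact (neg_eq_of_add_eq_zero_right hc).symm
  have hU1 : utv B (a • e i + b • e j) 1 ∈ L := hML (utv_two_mem_Mono hB he h20 hnorm hij ha hb)
  have hW1 : utv B (e k + e l) 1 ∈ L := by
    rw [hw1]
    exact hML (utv_two_mem_Mono hB he h20 hnorm hkl one_ne_zero one_ne_zero)
  have hUc : utv B (a • e i + b • e j) c ∈ L := by
    rcases hskew c hcs with rfl | rfl
    · rw [utv_zero_right]
      exact L.one_mem
    · exact hU1
  have heq := eich_eq_utv h20 huu hww hwu huw c
  rw [heq, mul_assoc, mul_assoc] at hcL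
  have hX : utv B ((a • e i + b • e j) + (e k + e l)) 1 ∈ L :=
    (Subgroup.mul_mem_cancel_right L (L.mul_mem hU1 (L.mul_mem hW1 hUc))).mp hcL
  have hNN : B ((a • e i + b • e j) + (e k + e l)) ((a • e i + b • e j) + (e k + e l)) = 0 := by
    rw [self_add hB, huu, hww, huw, map_zero, add_zero, add_zero]
  refine ⟨⟨hNN, fun c' hc' => ?_⟩, ?_⟩
  · rcases hskew c' hc' with rfl | rfl
    · rw [utv_zero_right]
      exact L.one_mem
    · exact hX
  · have hcoord : ∀ r, B ((a • e i + b • e j) + (e k + e l)) (e r) =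
        a * B (e i) (e r) + b * B (e j) (e r) + (B (e k) (e r) + B (e l) (e r)) := by
      intro r
      simp only [map_add, map_smul, LinearMap.add_apply, LinearMap.smul_apply, smul_eq_mul]
    have hsupp : supp B e ((a • e i + b • e j) + (e k + e l)) = {i, j, k, l} := by
      ext r
      rw [mem_supp, hcoord, Finset.mem_insert, Finset.mem_insert, Finset.mem_insert,
        Finset.mem_singleton]
      constructor
      · intro hr
        by_contra hcon
        push Not at hcon
        obtain ⟨h1, h2, h3, h4⟩ := hcon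
        apply hr
        rw [he.orth i r (Ne.symm h1), he.orth j r (Ne.symm h2), he.orth k r (Ne.symm h3),
          he.orth l r (Ne.symm h4)]
        ring
      · rintro (rfl | rfl | rfl | rfl)
        · rw [he.unit, he.orth j r (Ne.symm hij), he.orth k r hki, he.orth l r hli]
          simpa using ha
        · rw [he.unit, he.orth i r hij, he.orth k r hkj, he.orth l r hlj]
          simpa using hb
        · rw [he.unit, he.orth i r (Ne.symm hki), he.orth j r (Ne.symm hkj),
            he.orth l r (Ne.symm hkl)]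
          simp
        · rw [he.unit, he.orth i r (Ne.symm hli), he.orth j r (Ne.symm hlj), he.orth k r hkl]
          simp
    rw [hsupp, Finset.card_insert_of_notMem, Finset.card_insert_of_notMem, Finset.card_pair hkl]
    · simp [Ne.symm hkj, Ne.symm hlj]
    · simp [hij, Ne.symm hki, Ne.symm hli]


variable [Finite F] [FiniteDimensional F W]

/-- FR-Q2B. -/
theorem Q2B (hC : FCtx B e L) (hF4 : Nat.card F = 4) (h4 : 4 ≤ Fintype.card ι) {y y' : W}
    (hy : y ∈ Rc B (mu1 σ) L) (hy' : y' ∈ Rc B (mu1 σ) L) (h1 : B y y' = 1) (hne : y ≠ y')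
    (h2 : (supp B e (y - y')).card = 2) :
    ∃ u ∈ UU B L, (supp B e u).card = 4 := by
  obtain ⟨hσ, hB, he, hML, hLU⟩ := hC
  have h20 : (2 : F) = 0 := Cfsg.Agent.Lib.Helper8_FR_Q2E.two_eq_zero_of_card_four hF4
  have hnorm : ∀ a : F, a ≠ 0 → a * σ a = 1 := fun a ha =>
    Cfsg.Agent.Lib.Helper8_FR_Q2E.norm_eq_one_of_card_four hσ hF4 ha
  have hneg : ∀ x : F, -x = x := neg_eq_self h20
  have hskew : ∀ c : F, σ c = -c → c = 0 ∨ c = 1 := by
    intro c hc
    rw [hneg, Cfsg.Agent.Lib.Helper91_UQ_FROB.FROB hσ (q := 2) (by rw [hF4]; norm_num) c] at hc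
    by_cases h0 : c = 0
    · left; exact h0
    · right
      have h3 : c * (c - 1) = 0 := by linear_combination hc
      rcases mul_eq_zero.mp h3 with h | h
      · exact absurd h h0
      · exact sub_eq_zero.mp h
  obtain ⟨ω, hω0, hω1⟩ : ∃ ω : F, ω ≠ 0 ∧ ω ≠ 1 := by
    by_contra hcon
    push Not at hcon
    have hle : Nat.card F ≤ 2 := by
      classical
      have : Fintype F := Fintype.ofFinite F
      rw [Nat.card_eq_fintype_card]
      calc Fintype.card F = (Finset.univ : Finset F).card := rfl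
        _ ≤ ({0, 1} : Finset F).card := Finset.card_le_card (fun x _ => by
            by_cases hx : x = 0
            · simp [hx]
            · simp [hcon x hx])
        _ ≤ 2 := Finset.card_le_two
    omega
  -- the support of `y - y'`
  have h1' : B y' y = 1 := by rw [hB y y', h1, map_one]
  have hyu : B y (y - y') = 0 := by rw [map_sub, hy.1, h1, sub_self]
  obtain ⟨i, j, hij, hsupp⟩ := Finset.card_eq_two.mp h2
  have hai : B (y - y') (e i) ≠ 0 :=
    mem_supp.mp (by rw [hsupp]; exact Finset.mem_insert_self _ _)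
  have hbj : B (y - y') (e j) ≠ 0 :=
    mem_supp.mp (by rw [hsupp]; exact Finset.mem_insert_of_mem (Finset.mem_singleton_self _))
  have h0 : ∀ r, r ≠ i → r ≠ j → B (y - y') (e r) = 0 := by
    intro r hri hrj
    by_contra hr
    have : r ∈ supp B e (y - y') := mem_supp.mpr hr
    rw [hsupp, Finset.mem_insert, Finset.mem_singleton] at this
    rcases this with h | h
    · exact hri h
    · exact hrj h
  obtain ⟨a, ha⟩ : ∃ a, a = B (y - y') (e i) := ⟨_, rfl⟩
  obtain ⟨b, hb⟩ : ∃ b, b = B (y - y') (e j) := ⟨_, rfl⟩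
  rw [← ha] at hai
  rw [← hb] at hbj
  have huexp : y - y' = a • e i + b • e j := by
    have hexp := fr_expand he (y - y')
    rw [Finset.sum_eq_add i j hij (fun r _ hr => by rw [h0 r hr.1 hr.2, zero_smul])
      (fun h => absurd (Finset.mem_univ i) h) (fun h => absurd (Finset.mem_univ j) h),
      ← ha, ← hb] at hexp
    exact hexp
  have huu : B (a • e i + b • e j) (a • e i + b • e j) = 0 := two_iso he h20 hnorm hij hai hbj
  have hyuu : B y (a • e i + b • e j) = 0 := by rw [← huexp]; exact hyu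
  have huuy : B (a • e i + b • e j) y = 0 := herm_eq_zero hB hyuu
  have hyi' : σ a * B y (e i) + σ b * B y (e j) = 0 := by
    have := hyuu
    rw [map_add, map_smulₛₗ, map_smulₛₗ, smul_eq_mul, smul_eq_mul] at this
    exact this
  have hna : a * σ a = 1 := hnorm a hai
  have hnb : b * σ b = 1 := hnorm b hbj
  have hcross : a * B y (e j) = b * B y (e i) := by
    have h3 : b * B y (e i) + a * B y (e j) = 0 := by
      linear_combination (a * b) * hyi' - (b * B y (e i)) * hna - (a * B y (e j)) * hnb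
    rw [← hneg (b * B y (e i))]
    linear_combination h3
  obtain ⟨lam, hlam⟩ : ∃ lam, lam = B y (e i) / a := ⟨_, rfl⟩
  have hlama : lam * a = B y (e i) := by rw [hlam, div_mul_cancel₀ _ hai]
  have hlamb : lam * b = B y (e j) := by
    rw [hlam]
    field_simp
    linear_combination -hcross
  obtain ⟨yr, hyr⟩ : ∃ yr, yr = y - lam • (a • e i + b • e j) := ⟨_, rfl⟩
  have hji : j ≠ i := Ne.symm hij
  have hyri : B yr (e i) = 0 := by
    rw [hyr]
    simp only [map_sub, map_add, map_smul, LinearMap.sub_apply, LinearMap.add_apply,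
      LinearMap.smul_apply, smul_eq_mul, he.unit, he.orth j i hji, mul_zero, add_zero, mul_one]
    rw [hlama, sub_self]
  have hyrj : B yr (e j) = 0 := by
    rw [hyr]
    simp only [map_sub, map_add, map_smul, LinearMap.sub_apply, LinearMap.add_apply,
      LinearMap.smul_apply, smul_eq_mul, he.unit, he.orth i j hij, mul_zero, zero_add, mul_one]
    rw [hlamb, sub_self]
  have hyrN : B yr yr = 1 := by
    rw [hyr]
    simp only [map_sub, map_smul, map_smulₛₗ, LinearMap.sub_apply, LinearMap.smul_apply,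
      smul_eq_mul, hy.1, hyuu, huuy, huu]
    ring
  have hyr0 : yr ≠ 0 := by
    intro h00
    rw [h00, map_zero] at hyrN
    exact zero_ne_one hyrN
  -- the element `b_ω`
  have hωn : ω * σ ω = 1 := hnorm ω hω0
  have hσω : σ ω = ω⁻¹ := eq_inv_of_mul_eq_one_right hωn
  have hbL : qr B y ω * qr B y' ω⁻¹ ∈ L :=
    L.mul_mem (hy.2 ω hωn) (hy'.2 ω⁻¹ (hnorm _ (inv_ne_zero hω0)))
  rw [Cfsg.Agent.Lib.Helper32_FR_ROOT1.qr_mul_qr_eq_eich hσ hB hy.1 hy'.1 h1 hωn, huexp] at hbL
  have hdec : (ω - 1) • y = (ω - 1) • yr + ((ω - 1) * lam) • (a • e i + b • e j) := by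
    rw [hyr]
    module
  have hwi : B ((ω - 1) • yr) (e i) = 0 := by
    rw [map_smul, LinearMap.smul_apply, hyri, smul_zero]
  have hwj : B ((ω - 1) • yr) (e j) = 0 := by
    rw [map_smul, LinearMap.smul_apply, hyrj, smul_zero]
  have hwu : B ((ω - 1) • yr) (a • e i + b • e j) = 0 := perp_two a b hwi hwj
  have huw : B (a • e i + b • e j) ((ω - 1) • yr) = 0 := herm_eq_zero hB hwu
  rw [hdec, eich_shift huu hwu huw] at hbL
  have hI0 : II B e L (a • e i + b • e j) i j ((ω - 1) • yr) := by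
    refine ⟨hwi, hwj, _, ?_, hbL⟩
    rw [self_smul, hyrN, mul_one]
    simp only [map_sub, map_add, map_mul, map_one, map_inv₀, hσ.invol, hσω, inv_inv]
    field_simp
    ring
  have hw00 : (ω - 1) • yr ≠ 0 := smul_ne_zero (sub_ne_zero.mpr hω1) hyr0
  -- the frame vectors
  obtain ⟨k, hki, hkj, hIk⟩ := II_frame hB he hML h20 hnorm hω0 hω1 huu hw00 hI0
  obtain ⟨l, hl⟩ : ∃ l, l ∉ ({i, j, k} : Finset ι) := by
    by_contra hcon
    push Not at hcon
    have h3 := Finset.card_le_card (s := Finset.univ) (t := ({i, j, k} : Finset ι))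
      (fun x _ => hcon x)
    have h5 : ({i, j, k} : Finset ι).card ≤ 3 := Finset.card_le_three
    rw [Finset.card_univ] at h3
    omega
  rw [Finset.mem_insert, Finset.mem_insert, Finset.mem_singleton] at hl
  push Not at hl
  obtain ⟨hli, hlj, hlk⟩ := hl
  have hIl := II_swap he hML hki hkj hli hlj hIk
  have hperp : ∀ w, B w (e i) = 0 → B w (e j) = 0 → B w (a • e i + b • e j) = 0 :=
    fun w h1 h2 => perp_two a b h1 h2
  have hIkl := II_add hB huu hperp hIk hIl
  obtain ⟨hUU, hcard⟩ := final_step hB he hML h20 hnorm hskew hij hki hkj hli hlj (Ne.symm hlk)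
    hai hbj hIkl
  exact ⟨_, hUU, hcard⟩

end Cfsg.Agent.Lib.Helper20_FR_Q2B
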