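import Mathlib
import Cfsg.Prelude.Def_Characters
import Cfsg.Agent.Lib.Helper3_Exceptional
import Cfsg.Agent.Lib.Helper17_FrobChar
import Cfsg.Agent.Lib.Helper75_LinChar

set_option autoImplicit false
open scoped ComplexConjugate

namespace Cfsg.Agent.Lib.Helper20_FeitAbelian

open Cfsg.Agent.Lib.Helper3_CharBridge Cfsg.Agent.Lib.Helper3_CharOrtho
  Cfsg.Agent.Lib.Helper3_CharComplete Cfsg.Agent.Lib.Helper3_CharColumn
open Cfsg.Agent.Lib.Helper75_Induced Cfsg.Agent.Lib.Helper75_CharArith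
  Cfsg.Agent.Lib.Helper75_IndChar Cfsg.Agent.Lib.Helper75_TISubset
open Cfsg.Agent.Lib.Helper80_CharBasic Cfsg.Agent.Lib.Helper75_LinChar

section IndexTwo

variable {D : Type*} [Group D]

/-- The sign homomorphism of a subgroup of index two. -/
theorem exists_sign_hom (K : Subgroup D) (hK : K.index = 2) :
    ∃ f : D →* ℂ, (∀ k ∈ K, f k = 1) ∧ ∀ d, d ∉ K → f d = -1 := by
  classical
  refine ⟨{ toFun := fun d => if d ∈ K then 1 else -1
            map_one' := by simp [K.one_mem]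
            map_mul' := ?_ }, ?_, ?_⟩
  · intro a b
    have h := Subgroup.mul_mem_iff_of_index_two hK (a := a) (b := b)
    by_cases ha : a ∈ K <;> by_cases hb : b ∈ K <;> simp [h, ha, hb]
  · intro k hk
    simp [hk]
  · intro d hd
    simp [hd]

variable [Fintype D]

theorem sum_split_index_two (K : Subgroup D) (hK : K.index = 2) (ψ : D → ℂ) (c : ℂ)
    (hc : ∀ d, d ∉ K → ψ d = c) (h0 : ∀ k ∈ K, k ≠ 1 → ψ k = 0) (w : D → ℂ)
    (w1 : ℂ) (hw1 : ∀ k ∈ K, w k = 1) (hw2 : ∀ d, d ∉ K → w d = w1) :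
    ∑ d : D, ψ d * w d = ψ 1 + (Nat.card K : ℂ) * (c * w1) := by
  classical
  rw [← Finset.sum_filter_add_sum_filter_not Finset.univ (fun d => d ∈ K)]
  congr 1
  · rw [Finset.sum_eq_single (1 : D)]
    · rw [hw1 1 K.one_mem, mul_one]
    · intro d hd hd1
      rw [Finset.mem_filter] at hd
      rw [h0 d hd.2 hd1, zero_mul]
    · intro h
      exact absurd (Finset.mem_filter.mpr ⟨Finset.mem_univ _, K.one_mem⟩) h
  · have h1 : ∀ d ∈ Finset.univ.filter (fun d : D => ¬ d ∈ K), ψ d * w d = c * w1 := by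
      intro d hd
      rw [Finset.mem_filter] at hd
      rw [hc d hd.2, hw2 d hd.2]
    rw [Finset.sum_congr rfl h1, Finset.sum_const, nsmul_eq_mul]
    congr 1
    have h2 : (Finset.univ.filter (fun d : D => ¬ d ∈ K)).card + (Finset.univ.filter (fun d : D => d ∈ K)).card
        = Fintype.card D := by
      rw [add_comm, Finset.card_filter_add_card_filter_not, Finset.card_univ]
    have h3 : (Finset.univ.filter (fun d : D => d ∈ K)).card = Nat.card K := by
      rw [Nat.card_eq_fintype_card, Fintype.card_subtype]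
    have h4 : Nat.card D = Nat.card K * 2 := by
      rw [← hK, Subgroup.card_mul_index]
    rw [Nat.card_eq_fintype_card] at h4
    have : (Finset.univ.filter (fun d : D => ¬ d ∈ K)).card = Nat.card K := by omega
    rw [this]

/-- A character of `D` vanishing on `K ∖ {1}`, of degree `|K|` and constant `= c` off the
index-two subgroup `K` has `c = ±1`. -/
theorem val_of_index_two (K : Subgroup D) (hK : K.index = 2) (ψ : D → ℂ)
    (hψ : Cfsg.IsCharacter D ψ) (c : ℂ) (hc : ∀ d, d ∉ K → ψ d = c)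
    (h0 : ∀ k ∈ K, k ≠ 1 → ψ k = 0) (h1 : ψ 1 = Nat.card K) :
    c = 1 ∨ c = -1 := by
  classical
  obtain ⟨f, hf1, hf2⟩ := exists_sign_hom K hK
  have hσ : Cfsg.IsCharacter D (fun d => f d) := (isLin_of_hom f).1
  have hone : Cfsg.IsCharacter D (fun _ => (1 : ℂ)) := (isLin_one (G := D)).1
  obtain ⟨n1, hn1⟩ := classInner_isCharacter_nat hψ hone
  obtain ⟨n2, hn2⟩ := classInner_isCharacter_nat hψ hσ
  have hk : (Nat.card K : ℂ) ≠ 0 := by
    rw [Nat.cast_ne_zero]; exact Nat.card_pos.ne'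
  have hD : (Nat.card D : ℂ) = (Nat.card K : ℂ) * 2 := by
    have h4 : Nat.card D = Nat.card K * 2 := by
      rw [← hK, Subgroup.card_mul_index]
    rw [h4]; push_cast; ring
  have e1 : Cfsg.classInner ψ (fun _ => (1 : ℂ)) = (Nat.card D : ℂ)⁻¹ * (ψ 1 + (Nat.card K : ℂ) * (c * 1)) := by
    unfold Cfsg.classInner
    congr 1
    have := sum_split_index_two K hK ψ c hc h0 (fun _ => (1 : ℂ)) 1 (fun _ _ => rfl) (fun _ _ => rfl)
    simpa using this
  have e2 : Cfsg.classInner ψ (fun d => f d) = (Nat.card D : ℂ)⁻¹ * (ψ 1 + (Nat.card K : ℂ) * (c * (-1))) := by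
    unfold Cfsg.classInner
    congr 1
    have := sum_split_index_two K hK ψ c hc h0 (fun d => conj (f d)) (-1)
      (fun k hk => by simp [hf1 k hk]) (fun d hd => by simp [hf2 d hd])
    simpa using this
  rw [hn1, h1, hD] at e1
  rw [hn2, h1, hD] at e2
  have e3 : (n1 : ℂ) + (n2 : ℂ) = 1 := by
    rw [e1, e2]
    field_simp
    ring
  have e4 : (n1 : ℂ) - (n2 : ℂ) = c := by
    rw [e1, e2]
    field_simp
    ring
  have e5 : n1 + n2 = 1 := by exact_mod_cast e3
  have : (n1 = 1 ∧ n2 = 0) ∨ (n1 = 0 ∧ n2 = 1) := by omega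
  rcases this with ⟨a, b⟩ | ⟨a, b⟩
  · left; rw [← e4, a, b]; simp
  · right; rw [← e4, a, b]; simp

end IndexTwo

section FrobKernel

variable {M : Type*} [Group M] [Fintype M] (A : Subgroup M) [hA : A.Normal] [Fintype A]
  (hab : ∀ a b : A, a * b = b * a)
  (hC : ∀ a ∈ A, a ≠ 1 → ∀ m : M, m * a = a * m → m ∈ A)

/-- relevant irreducible characters: those not constant on `A`. -/
def Rel (ψ : Cfsg.IrrCharacter M) : Prop := ∃ a : M, a ∈ A ∧ (ψ : M → ℂ) a ≠ (ψ : M → ℂ) 1

theorem not_rel_apply {ψ : Cfsg.IrrCharacter M} (h : ¬ Rel A ψ) (a : M) (ha : a ∈ A) :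
    (ψ : M → ℂ) a = (ψ : M → ℂ) 1 := by
  by_contra hne
  exact h ⟨a, ha, hne⟩

include hab hC in
theorem rel_vanish {ψ : Cfsg.IrrCharacter M} (h : Rel A ψ) (m : M) (hm : m ∉ A) :
    (ψ : M → ℂ) m = 0 :=
  Cfsg.Agent.Lib.Helper17_FrobChar.eq_zero_of_not_mem A hab hC ψ h m hm

include hab hC in
theorem rel_deg {ψ : Cfsg.IrrCharacter M} (h : Rel A ψ) :
    (ψ : M → ℂ) 1 = (Nat.card A : ℂ)⁻¹ * (Nat.card M : ℂ) :=
  Cfsg.Agent.Lib.Helper17_FrobChar.apply_one_of_relevant A hab hC ψ h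

include hab hC in
theorem rel_sum_eq_zero {ψ : Cfsg.IrrCharacter M} (h : Rel A ψ) :
    ∑ a : A, (ψ : M → ℂ) a = 0 := by
  classical
  obtain ⟨lam, hne, hψ⟩ := Cfsg.Agent.Lib.Helper17_FrobChar.exists_eq_indFun A hab hC ψ h
  have hAc : (Nat.card A : ℂ) ≠ 0 := by
    rw [Nat.cast_ne_zero]; exact Nat.card_pos.ne'
  have hlam : ∑ a : A, (lam : A → ℂ) a = 0 := by
    have h1 := classInner_irr lam.2 (oneIrr A).2
    have h2 : ¬ ((lam : A → ℂ) = ((oneIrr A : Cfsg.IrrCharacter A) : A → ℂ)) := fun hh => hne (Subtype.ext hh)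
    rw [if_neg h2] at h1
    unfold Cfsg.classInner at h1
    rcases mul_eq_zero.mp h1 with h3 | h3
    · exact absurd (inv_eq_zero.mp h3) hAc
    · have : ∀ a : A, (lam : A → ℂ) a * conj (((oneIrr A : Cfsg.IrrCharacter A) : A → ℂ) a) = (lam : A → ℂ) a := by
        intro a
        simp [oneIrr]
      simpa [this] using h3
  rw [hψ]
  simp_rw [Cfsg.Agent.Lib.Helper17_FrobChar.indFun_apply_normal A (lam : A → ℂ)]
  rw [← Finset.mul_sum, Finset.sum_comm]
  have : ∀ m : M, ∑ a : A, (lam : A → ℂ) (MulAut.conjNormal m a) = 0 := by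
    intro m
    rw [← hlam]
    exact Fintype.sum_equiv (MulAut.conjNormal m).toEquiv _ _ (fun a => rfl)
  simp [this]

open Classical in
include hab hC in
/-- `C = e`: the non-relevant characters have squared degrees summing to `e`. -/
theorem sum_not_rel_sq (q e : ℕ) (hq : Nat.card A = q) (hM : Nat.card M = q * e) :
    ∑ ψ ∈ Finset.univ.filter (fun ψ : Cfsg.IrrCharacter M => ¬ Rel A ψ), (ψ : M → ℂ) 1 ^ 2 = (e : ℂ) := by
  have hq0 : q ≠ 0 := by
    rw [← hq]; exact Nat.card_pos.ne'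
  have hqc : (q : ℂ) ≠ 0 := by exact_mod_cast hq0
  -- column orthogonality against 1, summed over `A`
  have key : ∀ a : A, ∑ ψ : Cfsg.IrrCharacter M, (ψ : M → ℂ) a * conj ((ψ : M → ℂ) 1) =
      if a = 1 then (Nat.card M : ℂ) else 0 := by
    intro a
    rw [column_orthogonality (a : M) 1]
    have h1 : IsConj (a : M) 1 ↔ a = 1 := by
      rw [isConj_one_left]
      exact ⟨fun h => Subtype.ext h, fun h => by rw [h]; rfl⟩
    by_cases ha : a = 1
    · rw [if_pos ha, if_pos (h1.mpr ha)]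
      have h2 : Subgroup.centralizer ({((a : A) : M)} : Set M) = ⊤ := by
        rw [ha]
        ext x
        simp [Subgroup.mem_centralizer_singleton_iff]
      rw [h2, Subgroup.card_top]
    · rw [if_neg ha, if_neg (fun h => ha (h1.mp h))]
  have hsum : ∑ a : A, ∑ ψ : Cfsg.IrrCharacter M, (ψ : M → ℂ) a * conj ((ψ : M → ℂ) 1) =
      (Nat.card M : ℂ) := by
    simp_rw [key]
    simp
  rw [Finset.sum_comm] at hsum
  have hreal : ∀ ψ : Cfsg.IrrCharacter M, conj ((ψ : M → ℂ) 1) = (ψ : M → ℂ) 1 := by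
    intro ψ
    obtain ⟨n, _, hn⟩ := irr_one_eq_natCast ψ.2
    rw [hn, Complex.conj_natCast]
  have hterm : ∀ ψ : Cfsg.IrrCharacter M, ∑ a : A, (ψ : M → ℂ) a * conj ((ψ : M → ℂ) 1) =
      if Rel A ψ then 0 else (q : ℂ) * (ψ : M → ℂ) 1 ^ 2 := by
    intro ψ
    rw [← Finset.sum_mul]
    split_ifs with h
    · rw [rel_sum_eq_zero A hab hC h, zero_mul]
    · have : ∀ a : A, (ψ : M → ℂ) a = (ψ : M → ℂ) 1 := fun a => not_rel_apply A h a a.2
      simp_rw [this]
      rw [Finset.sum_const, Finset.card_univ, ← Nat.card_eq_fintype_card, hq, hreal, nsmul_eq_mul]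
      ring
  simp_rw [hterm] at hsum
  rw [Finset.sum_ite, Finset.sum_const_zero, zero_add, ← Finset.mul_sum, hM] at hsum
  push_cast at hsum
  exact mul_left_cancel₀ hqc hsum

omit [Fintype M] hA in
theorem sum_eq_sum_subgroup [Fintype M] (f : M → ℂ) (hf : ∀ m, m ∉ A → f m = 0) :
    ∑ m : M, f m = ∑ a : A, f a := by
  classical
  rw [← Finset.sum_subtype (Finset.univ.filter (fun m : M => m ∈ A)) (by simp) f]
  symm
  apply Finset.sum_subset (Finset.filter_subset _ _)
  intro m _ hm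
  apply hf
  simpa using hm

open Classical in
include hab hC in
theorem card_rel (q e : ℕ) (hq : Nat.card A = q) (hM : Nat.card M = q * e) :
    (Finset.univ.filter (fun ψ : Cfsg.IrrCharacter M => Rel A ψ)).card * e + 1 = q := by
  have hq0 : q ≠ 0 := by
    rw [← hq]; exact Nat.card_pos.ne'
  have he0 : e ≠ 0 := by
    rintro rfl
    rw [mul_zero] at hM
    exact Nat.card_pos.ne' hM
  have hqc : (q : ℂ) ≠ 0 := by exact_mod_cast hq0
  have h1 := sum_sq_irr_one (G := M)
  rw [← Finset.sum_filter_add_sum_filter_not Finset.univ (fun ψ : Cfsg.IrrCharacter M => Rel A ψ),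
    sum_not_rel_sq A hab hC q e hq hM] at h1
  have h2 : ∀ ψ ∈ Finset.univ.filter (fun ψ : Cfsg.IrrCharacter M => Rel A ψ),
      (ψ : M → ℂ) 1 ^ 2 = (e : ℂ) ^ 2 := by
    intro ψ hψ
    rw [Finset.mem_filter] at hψ
    rw [rel_deg A hab hC hψ.2, hq, hM]
    push_cast
    field_simp
  rw [Finset.sum_congr rfl h2, Finset.sum_const, nsmul_eq_mul, hM] at h1
  have h3 : ((Finset.univ.filter (fun ψ : Cfsg.IrrCharacter M => Rel A ψ)).card * e ^ 2 + e : ℕ)
      = q * e := by exact_mod_cast h1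
  have h4 : ((Finset.univ.filter (fun ψ : Cfsg.IrrCharacter M => Rel A ψ)).card * e + 1) * e
      = q * e := by rw [← h3]; ring
  exact Nat.eq_of_mul_eq_mul_right (Nat.pos_of_ne_zero he0) h4

open Classical in
include hab hC in
theorem sum_rel_apply (q e : ℕ) (hq : Nat.card A = q) (hM : Nat.card M = q * e)
    (a : M) (ha : a ∈ A) (ha1 : a ≠ 1) :
    ∑ ψ ∈ Finset.univ.filter (fun ψ : Cfsg.IrrCharacter M => Rel A ψ), (ψ : M → ℂ) a = -1 := by
  have hq0 : q ≠ 0 := by
    rw [← hq]; exact Nat.card_pos.ne'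
  have he0 : e ≠ 0 := by
    rintro rfl
    rw [mul_zero] at hM
    exact Nat.card_pos.ne' hM
  have hqc : (q : ℂ) ≠ 0 := by exact_mod_cast hq0
  have hec : (e : ℂ) ≠ 0 := by exact_mod_cast he0
  have h1 := column_orthogonality a (1 : M)
  rw [if_neg (by rw [isConj_one_left]; exact ha1)] at h1
  have hreal : ∀ ψ : Cfsg.IrrCharacter M, conj ((ψ : M → ℂ) 1) = (ψ : M → ℂ) 1 := by
    intro ψ
    obtain ⟨n, _, hn⟩ := irr_one_eq_natCast ψ.2
    rw [hn, Complex.conj_natCast]
  rw [← Finset.sum_filter_add_sum_filter_not Finset.univ (fun ψ : Cfsg.IrrCharacter M => Rel A ψ)] at h1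
  have h2 : ∀ ψ ∈ Finset.univ.filter (fun ψ : Cfsg.IrrCharacter M => Rel A ψ),
      (ψ : M → ℂ) a * conj ((ψ : M → ℂ) 1) = (ψ : M → ℂ) a * (e : ℂ) := by
    intro ψ hψ
    rw [Finset.mem_filter] at hψ
    rw [hreal, rel_deg A hab hC hψ.2, hq, hM]
    push_cast
    field_simp
  have h3 : ∀ ψ ∈ Finset.univ.filter (fun ψ : Cfsg.IrrCharacter M => ¬ Rel A ψ),
      (ψ : M → ℂ) a * conj ((ψ : M → ℂ) 1) = (ψ : M → ℂ) 1 ^ 2 := by
    intro ψ hψ
    rw [Finset.mem_filter] at hψ
    rw [hreal, not_rel_apply A hψ.2 a ha, sq]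
  rw [Finset.sum_congr rfl h2, Finset.sum_congr rfl h3, sum_not_rel_sq A hab hC q e hq hM,
    ← Finset.sum_mul] at h1
  have h4 : (∑ ψ ∈ Finset.univ.filter (fun ψ : Cfsg.IrrCharacter M => Rel A ψ), (ψ : M → ℂ) a + 1)
      * (e : ℂ) = 0 := by rw [← h1]; ring
  rcases mul_eq_zero.mp h4 with h5 | h5
  · exact eq_neg_of_add_eq_zero_left h5
  · exact absurd h5 hec

open Classical in
include hab hC in
theorem sum_rel_normSq (q e : ℕ) (hq : Nat.card A = q) (hM : Nat.card M = q * e)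
    (a : M) (ha : a ∈ A) (ha1 : a ≠ 1) :
    ∑ ψ ∈ Finset.univ.filter (fun ψ : Cfsg.IrrCharacter M => Rel A ψ),
      (ψ : M → ℂ) a * conj ((ψ : M → ℂ) a) = (q : ℂ) - (e : ℂ) := by
  have h1 := column_orthogonality_self a
  have hcent : Subgroup.centralizer ({a} : Set M) = A := by
    ext m
    rw [Subgroup.mem_centralizer_singleton_iff]
    constructor
    · intro h
      exact hC a ha ha1 m h
    · intro hm
      have := hab ⟨m, hm⟩ ⟨a, ha⟩
      have h2 := congrArg Subtype.val this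
      simpa using h2
  rw [hcent, hq] at h1
  have hreal : ∀ ψ : Cfsg.IrrCharacter M, conj ((ψ : M → ℂ) 1) = (ψ : M → ℂ) 1 := by
    intro ψ
    obtain ⟨n, _, hn⟩ := irr_one_eq_natCast ψ.2
    rw [hn, Complex.conj_natCast]
  rw [← Finset.sum_filter_add_sum_filter_not Finset.univ (fun ψ : Cfsg.IrrCharacter M => Rel A ψ)] at h1
  have h3 : ∀ ψ ∈ Finset.univ.filter (fun ψ : Cfsg.IrrCharacter M => ¬ Rel A ψ),
      (ψ : M → ℂ) a * conj ((ψ : M → ℂ) a) = (ψ : M → ℂ) 1 ^ 2 := by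
    intro ψ hψ
    rw [Finset.mem_filter] at hψ
    rw [not_rel_apply A hψ.2 a ha, hreal, sq]
  rw [Finset.sum_congr rfl h3, sum_not_rel_sq A hab hC q e hq hM] at h1
  rw [← h1]; ring

include hab hC in
theorem rel_normSq_sum {ψ : Cfsg.IrrCharacter M} (h : Rel A ψ) :
    ∑ a : A, (ψ : M → ℂ) a * conj ((ψ : M → ℂ) a) = (Nat.card M : ℂ) := by
  have h1 := classInner_self_of_isIrrCharacter ψ.2
  unfold Cfsg.classInner at h1
  have hMc : (Nat.card M : ℂ) ≠ 0 := card_ne_zero_complex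
  rw [sum_eq_sum_subgroup A (fun m => (ψ : M → ℂ) m * conj ((ψ : M → ℂ) m))
    (fun m hm => by rw [rel_vanish A hab hC h m hm, zero_mul])] at h1
  field_simp at h1
  exact h1

open Classical in
include hab hC in
/-- values of a character of `M` with prescribed multiplicities at the relevant characters -/
theorem char_values (q e : ℕ) (hq : Nat.card A = q) (hM : Nat.card M = q * e)
    (Ξ : M → ℂ) (hΞ : Cfsg.IsCharacter M Ξ) (ψ₀ : Cfsg.IrrCharacter M) (hψ₀ : Rel A ψ₀)
    (E : ℤ) (a : ℕ)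
    (hm : ∀ ψ : Cfsg.IrrCharacter M, Rel A ψ →
      Cfsg.classInner Ξ (ψ : M → ℂ) = ((a + if ψ = ψ₀ then E else 0 : ℤ) : ℂ)) :
    ∃ l : ℕ, (∀ n : M, n ∈ A → n ≠ 1 → Ξ n = (E : ℂ) * (ψ₀ : M → ℂ) n + ((l : ℂ) - (a : ℂ))) ∧
      Ξ 1 = ((((Finset.univ.filter (fun ψ : Cfsg.IrrCharacter M => Rel A ψ)).card : ℤ) * a + E) * e + l : ℤ) ∧
      (l = 0 → a = 0 → E = 1 → ∀ n : M, Ξ n = (ψ₀ : M → ℂ) n) := by
  have hq0 : q ≠ 0 := by rw [← hq]; exact Nat.card_pos.ne'
  have hqc : (q : ℂ) ≠ 0 := by exact_mod_cast hq0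
  have he0 : e ≠ 0 := by
    rintro rfl
    rw [mul_zero] at hM
    exact Nat.card_pos.ne' hM
  have hec : (e : ℂ) ≠ 0 := by exact_mod_cast he0
  obtain ⟨m, hmul, hsum⟩ := exists_multiplicities hΞ
  choose deg hdegpos hdeg using fun ψ : Cfsg.IrrCharacter M => irr_one_eq_natCast ψ.2
  set R := Finset.univ.filter (fun ψ : Cfsg.IrrCharacter M => Rel A ψ) with hR
  set R' := Finset.univ.filter (fun ψ : Cfsg.IrrCharacter M => ¬ Rel A ψ) with hR'
  have hmR : ∀ ψ ∈ R, (m ψ : ℂ) = ((a + if ψ = ψ₀ then E else 0 : ℤ) : ℂ) := by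
    intro ψ hψ
    rw [← hmul ψ]
    exact hm ψ (Finset.mem_filter.mp hψ).2
  have hψ₀R : ψ₀ ∈ R := Finset.mem_filter.mpr ⟨Finset.mem_univ _, hψ₀⟩
  have hval : ∀ n : M, Ξ n = ∑ ψ : Cfsg.IrrCharacter M, (m ψ : ℂ) * (ψ : M → ℂ) n := by
    intro n
    have := congrFun hsum n
    simp only [Finset.sum_apply, Pi.smul_apply, smul_eq_mul] at this
    exact this
  have hsplit : ∀ n : M, Ξ n = (a : ℂ) * (∑ ψ ∈ R, (ψ : M → ℂ) n) + (E : ℂ) * (ψ₀ : M → ℂ) n +
      ∑ ψ ∈ R', (m ψ : ℂ) * (ψ : M → ℂ) n := by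
    intro n
    rw [hval n, ← Finset.sum_filter_add_sum_filter_not Finset.univ (fun ψ : Cfsg.IrrCharacter M => Rel A ψ)]
    congr 1
    rw [Finset.mul_sum]
    have : ∀ ψ ∈ R, (m ψ : ℂ) * (ψ : M → ℂ) n = (a : ℂ) * (ψ : M → ℂ) n +
        (if ψ = ψ₀ then (E : ℂ) * (ψ₀ : M → ℂ) n else 0) := by
      intro ψ hψ
      rw [hmR ψ hψ]
      split_ifs with h
      · rw [h]; push_cast; ring
      · push_cast; ring
    rw [Finset.sum_congr rfl this, Finset.sum_add_distrib, Finset.sum_ite_eq' R ψ₀, if_pos hψ₀R]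
  refine ⟨∑ ψ ∈ R', m ψ * deg ψ, ?_, ?_, ?_⟩
  · intro n hn hn1
    have hR'val : ∑ ψ ∈ R', (m ψ : ℂ) * (ψ : M → ℂ) n = ((∑ ψ ∈ R', m ψ * deg ψ : ℕ) : ℂ) := by
      push_cast
      refine Finset.sum_congr rfl (fun ψ hψ => ?_)
      rw [not_rel_apply A (Finset.mem_filter.mp hψ).2 n hn, hdeg]
    rw [hsplit n, hR'val, sum_rel_apply A hab hC q e hq hM n hn hn1]
    ring
  · have hR'val : ∑ ψ ∈ R', (m ψ : ℂ) * (ψ : M → ℂ) 1 = ((∑ ψ ∈ R', m ψ * deg ψ : ℕ) : ℂ) := by
      push_cast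
      refine Finset.sum_congr rfl (fun ψ hψ => ?_)
      rw [hdeg]
    have h1 := hsplit 1
    rw [hR'val] at h1
    have hdegR : ∀ ψ ∈ R, (ψ : M → ℂ) 1 = (e : ℂ) := by
      intro ψ hψ
      rw [rel_deg A hab hC (Finset.mem_filter.mp hψ).2, hq, hM]
      push_cast
      field_simp
    have h2 : ∑ ψ ∈ R, (ψ : M → ℂ) 1 = (R.card : ℂ) * (e : ℂ) := by
      rw [Finset.sum_congr rfl hdegR, Finset.sum_const, nsmul_eq_mul]
    rw [h2, hdegR ψ₀ hψ₀R] at h1
    rw [h1]
    push_cast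
    ring
  · intro hl0 ha0 hE1 n
    have hm0 : ∀ ψ ∈ R', m ψ = 0 := by
      intro ψ hψ
      have := (Finset.sum_eq_zero_iff.mp hl0) ψ hψ
      rcases Nat.mul_eq_zero.mp this with h | h
      · exact h
      · exact absurd h (hdegpos ψ).ne'
    rw [hsplit n, ha0, hE1]
    have : ∑ ψ ∈ R', (m ψ : ℂ) * (ψ : M → ℂ) n = 0 := by
      apply Finset.sum_eq_zero
      intro ψ hψ
      rw [hm0 ψ hψ]
      simp
    rw [this]
    simp

open Classical in
include hab hC in
/-- the sum of `|Ξ|²` over `A ∖ 1` when `Ξ = E ψ₀ + d` there -/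
theorem sum_normSq_values (q e : ℕ) (hq : Nat.card A = q) (hM : Nat.card M = q * e)
    (Ξ : M → ℂ) (ψ₀ : Cfsg.IrrCharacter M) (hψ₀ : Rel A ψ₀)
    (E : ℤ) (hE : E = 1 ∨ E = -1) (d : ℤ)
    (hΞ : ∀ n : M, n ∈ A → n ≠ 1 → Ξ n = (E : ℂ) * (ψ₀ : M → ℂ) n + (d : ℂ)) :
    (∑ a : A, (if a ≠ 1 then Ξ a * conj (Ξ a) else 0)) =
      (((q : ℤ) * e - (e : ℤ) ^ 2 - 2 * E * d * e + ((q : ℤ) - 1) * d ^ 2 : ℤ) : ℂ) := by
  classical
  have hq0 : q ≠ 0 := by rw [← hq]; exact Nat.card_pos.ne'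
  have hqc : (q : ℂ) ≠ 0 := by exact_mod_cast hq0
  have hψ₀1 : (ψ₀ : M → ℂ) 1 = (e : ℂ) := by
    rw [rel_deg A hab hC hψ₀, hq, hM]
    push_cast
    field_simp
  have hEc : (E : ℂ) * (E : ℂ) = 1 := by
    rcases hE with h | h <;> rw [h] <;> norm_num
  have hEconj : conj (E : ℂ) = (E : ℂ) := by simp
  have hdconj : conj (d : ℂ) = (d : ℂ) := by simp
  have h1 : ∀ a : A, (if a ≠ 1 then Ξ a * conj (Ξ a) else 0) =
      ((ψ₀ : M → ℂ) a * conj ((ψ₀ : M → ℂ) a) + (E : ℂ) * (d : ℂ) * ((ψ₀ : M → ℂ) a + conj ((ψ₀ : M → ℂ) a))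
        + (d : ℂ) ^ 2) -
      (if a = 1 then ((ψ₀ : M → ℂ) a * conj ((ψ₀ : M → ℂ) a) +
        (E : ℂ) * (d : ℂ) * ((ψ₀ : M → ℂ) a + conj ((ψ₀ : M → ℂ) a)) + (d : ℂ) ^ 2) else 0) := by
    intro a
    by_cases ha : a = 1
    · rw [if_neg (not_not.mpr ha), if_pos ha, sub_self]
    · rw [if_pos ha, if_neg ha, sub_zero, hΞ a a.2 (fun h => ha (Subtype.ext h))]
      rw [map_add, map_mul, hEconj, hdconj]
      linear_combination ((ψ₀ : M → ℂ) a * conj ((ψ₀ : M → ℂ) a)) * hEc
  rw [Finset.sum_congr rfl (fun a _ => h1 a), Finset.sum_sub_distrib, Finset.sum_ite_eq' Finset.univ (1 : A),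
    if_pos (Finset.mem_univ _), Finset.sum_add_distrib, Finset.sum_add_distrib, ← Finset.mul_sum,
    Finset.sum_add_distrib, rel_normSq_sum A hab hC hψ₀, rel_sum_eq_zero A hab hC hψ₀]
  have h2 : ∑ a : A, conj ((ψ₀ : M → ℂ) a) = 0 := by
    rw [← map_sum, rel_sum_eq_zero A hab hC hψ₀, map_zero]
  rw [h2, Finset.sum_const, Finset.card_univ, ← Nat.card_eq_fintype_card, hq, hM]
  have h3 : ((ψ₀ : M → ℂ) ((1 : A) : M)) = (e : ℂ) := hψ₀1
  rw [h3, Complex.conj_natCast]
  push_cast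
  ring

end FrobKernel

section Arith


theorem fac_nonneg (e d E : ℤ) (he : 1 ≤ e) (hE : E = 1 ∨ E = -1) (hd : 1 ≤ d ∨ d ≤ -1) :
    0 ≤ ((e + 1) * d - e - E * d) * ((e + 1) * d + e + E * d) := by
  rcases hE with h | h <;> rcases hd with h' | h' <;> subst h
  · have h1 : (e + 1) * d - e - 1 * d = e * (d - 1) := by ring
    have h2 : (e + 1) * d + e + 1 * d = e * (d + 1) + 2 * d := by ring
    rw [h1, h2]
    apply mul_nonneg
    · exact mul_nonneg (by linarith) (by linarith)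
    · have := mul_nonneg (by linarith : (0:ℤ) ≤ e) (by linarith : (0:ℤ) ≤ d + 1)
      linarith
  · have h1 : (e + 1) * d - e - 1 * d = - (e * (1 - d)) := by ring
    have h2 : (e + 1) * d + e + 1 * d = - (e * (-1 - d) + 2 * (-d)) := by ring
    rw [h1, h2, neg_mul_neg]
    apply mul_nonneg
    · exact mul_nonneg (by linarith) (by linarith)
    · have := mul_nonneg (by linarith : (0:ℤ) ≤ e) (by linarith : (0:ℤ) ≤ -1 - d)
      linarith
  · have h1 : (e + 1) * d - e - -1 * d = e * (d - 1) + 2 * d := by ring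
    have h2 : (e + 1) * d + e + -1 * d = e * (d + 1) := by ring
    rw [h1, h2]
    apply mul_nonneg
    · have := mul_nonneg (by linarith : (0:ℤ) ≤ e) (by linarith : (0:ℤ) ≤ d - 1)
      linarith
    · exact mul_nonneg (by linarith) (by linarith)
  · have h1 : (e + 1) * d - e - -1 * d = - (e * (1 - d) + 2 * (-d)) := by ring
    have h2 : (e + 1) * d + e + -1 * d = - (e * (-1 - d)) := by ring
    rw [h1, h2, neg_mul_neg]
    apply mul_nonneg
    · have := mul_nonneg (by linarith : (0:ℤ) ≤ e) (by linarith : (0:ℤ) ≤ 1 - d)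
      linarith
    · exact mul_nonneg (by linarith) (by linarith)

theorem arith_key (q e a l s : ℕ) (E : ℤ) (hE : E = 1 ∨ E = -1) (he : 1 ≤ e)
    (hqe : (e + 1) ^ 2 ≤ q) (hs : s * e + 1 = q)
    (x : ℤ) (hx : x = ((s : ℤ) * a + E) * e + l) (hxpos : 0 < x)
    (hineq : x ^ 2 + ((q : ℤ) + 1) * ((q : ℤ) * e - (e : ℤ) ^ 2 - 2 * E * ((l : ℤ) - a) * e +
      ((q : ℤ) - 1) * ((l : ℤ) - a) ^ 2) ≤ ((q : ℤ) + 1) * q * e) :
    a = 0 ∧ l = 0 ∧ E = 1 := by
  have hsz : (s : ℤ) * e + 1 = q := by exact_mod_cast hs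
  have hqez : ((e : ℤ) + 1) ^ 2 ≤ q := by exact_mod_cast hqe
  have hez : (1 : ℤ) ≤ e := by exact_mod_cast he
  have hE2 : E ^ 2 = 1 := by rcases hE with h | h <;> rw [h] <;> norm_num
  set d : ℤ := (l : ℤ) - a with hd
  have hx' : x = (a : ℤ) * q + E * e + d := by
    rw [hx, hd, ← hsz]; ring
  have hq0 : (0 : ℤ) ≤ q := by positivity
  have hmain : x ^ 2 ≤ ((q : ℤ) + 1) * ((e + E * d) ^ 2 - q * d ^ 2) := by
    have : ((e : ℤ) + E * d) ^ 2 = (e : ℤ) ^ 2 + 2 * E * d * e + E ^ 2 * d ^ 2 := by ring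
    rw [this, hE2]
    nlinarith [hineq]
  -- Step 1 : d = 0
  have hd0 : d = 0 := by
    by_contra hne
    have hx2 : 0 < x ^ 2 := by positivity
    have h1 : (q : ℤ) * d ^ 2 < (e + E * d) ^ 2 := by
      have hq1 : (0 : ℤ) < (q : ℤ) + 1 := by linarith
      by_contra hcon
      push Not at hcon
      have : ((q : ℤ) + 1) * ((e + E * d) ^ 2 - q * d ^ 2) ≤ 0 :=
        mul_nonpos_of_nonneg_of_nonpos hq1.le (by linarith)
      linarith
    have h2 : ((e : ℤ) + E * d) ^ 2 ≤ ((e : ℤ) + 1) ^ 2 * d ^ 2 := by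
      have hd1 : 1 ≤ d ∨ d ≤ -1 := by omega
      have hfac : ((e : ℤ) + 1) ^ 2 * d ^ 2 - ((e : ℤ) + E * d) ^ 2 =
          (((e : ℤ) + 1) * d - e - E * d) * (((e : ℤ) + 1) * d + e + E * d) := by ring
      have hprod := fac_nonneg (e : ℤ) d E hez hE hd1
      linarith
    have h3 : ((e : ℤ) + 1) ^ 2 * d ^ 2 ≤ q * d ^ 2 :=
      mul_le_mul_of_nonneg_right hqez (by positivity)
    linarith
  have hla : (l : ℤ) = a := by
    have : (l : ℤ) - a = 0 := hd0
    linarith
  rw [hd0] at hx' hmain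
  simp only [mul_zero, add_zero, ne_eq, OfNat.ofNat_ne_zero, not_false_eq_true, zero_pow,
    sub_zero] at hx' hmain
  -- Step 2 : a = 0
  have ha0 : a = 0 := by
    by_contra hne
    have ha1 : (1 : ℤ) ≤ a := by
      have : 1 ≤ a := Nat.one_le_iff_ne_zero.mpr hne
      exact_mod_cast this
    have hxge : (q : ℤ) - e ≤ x := by
      rw [hx']
      rcases hE with h | h <;> rw [h] <;> nlinarith
    have hpos : (0 : ℤ) < (q : ℤ) - e := by nlinarith
    have : ((q : ℤ) - e) ^ 2 ≤ x ^ 2 := by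
      apply pow_le_pow_left₀ hpos.le hxge
    nlinarith
  have hl0 : l = 0 := by
    rw [ha0] at hla
    exact_mod_cast hla
  refine ⟨ha0, hl0, ?_⟩
  rw [ha0] at hx'
  rcases hE with h | h
  · exact h
  · rw [h] at hx'
    simp at hx'
    linarith

end Arith

section Main

variable {G : Type*} [Group G] [Fintype G] (U : Subgroup G)
  [Fintype (Subgroup.normalizer (U : Set G))]

open Classical in
/-- Norm inequality: the part of `‖X‖² = 1` coming from `1` and the conjugates of `U ∖ 1`. -/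
theorem norm_ineq
    (hTI : ∀ g : G, g ∉ Subgroup.normalizer (U : Set G) → ∀ s ∈ (U : Set G), g * s * g⁻¹ ∈ (U : Set G) → s = 1)
    (X : G → ℂ) (hX : Cfsg.IsIrrCharacter G X) :
    ∃ r : ℝ, 0 ≤ r ∧ (Nat.card G : ℂ) = X 1 * conj (X 1) +
      (Nat.card G : ℂ) * (Nat.card (Subgroup.normalizer (U : Set G)) : ℂ)⁻¹ *
        (∑ n : Subgroup.normalizer (U : Set G),
          if (n : G) ∈ U ∧ n ≠ 1 then X n * conj (X n) else 0) + (r : ℂ) := by
  classical
  have hGc : (Nat.card G : ℂ) ≠ 0 := card_ne_zero_complex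
  set φ : Subgroup.normalizer (U : Set G) → ℂ :=
    fun n => if (n : G) ∈ U ∧ n ≠ 1 then X n else 0 with hφ
  have hXcl : Cfsg.IsClassFunction G X := isClassFunction_of_isIrrCharacter hX
  have hφcl : Cfsg.IsClassFunction (Subgroup.normalizer (U : Set G)) φ := by
    intro n h
    simp only [hφ]
    have h1 : ((h * n * h⁻¹ : Subgroup.normalizer (U : Set G)) : G) ∈ U ↔ (n : G) ∈ U := by
      have := (Subgroup.mem_normalizer_iff.mp h.2 (n : G))
      simpa using this.symm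
    have h2 : h * n * h⁻¹ ≠ 1 ↔ n ≠ 1 := by
      rw [not_iff_not]
      constructor
      · intro hh
        have : n = h⁻¹ * (h * n * h⁻¹) * h := by group
        rw [this, hh]; group
      · intro hh; rw [hh]; group
    have h3 : X ((h * n * h⁻¹ : Subgroup.normalizer (U : Set G)) : G) = X n := by
      have := hXcl (n : G) (h : G)
      simpa using this
    by_cases hc : (n : G) ∈ U ∧ n ≠ 1
    · rw [if_pos hc, if_pos ⟨h1.mpr hc.1, h2.mpr hc.2⟩, h3]
    · rw [if_neg hc, if_neg (fun hh => hc ⟨h1.mp hh.1, h2.mp hh.2⟩)]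
  have hφT : ∀ x : Subgroup.normalizer (U : Set G), (x : G) ∉ (U : Set G) → φ x = 0 := by
    intro x hx
    simp only [hφ]
    rw [if_neg (fun hh => hx hh.1)]
  have hφ1 : φ 1 = 0 := by
    simp only [hφ]
    rw [if_neg (fun hh => hh.2 rfl)]
  have I1 : Cfsg.classInner (Cfsg.indFun _ φ) (Cfsg.indFun _ φ) = Cfsg.classInner φ φ :=
    classInner_indFun_of_TI (U : Set G) hTI φ φ hφcl hφT hφT hφ1
  have I2 : Cfsg.classInner (Cfsg.indFun _ φ) X = Cfsg.classInner φ φ := by
    rw [frobenius_reciprocity _ φ X hXcl]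
    unfold Cfsg.classInner
    congr 1
    refine Finset.sum_congr rfl (fun n _ => ?_)
    simp only [hφ]
    split_ifs <;> simp
  set A0 := Cfsg.classInner φ φ with hA0
  have hA0conj : conj A0 = A0 := by
    rw [hA0, classInner_conj_symm]
  have hA0val : A0 = (Nat.card (Subgroup.normalizer (U : Set G)) : ℂ)⁻¹ *
      (∑ n : Subgroup.normalizer (U : Set G),
          if (n : G) ∈ U ∧ n ≠ 1 then X n * conj (X n) else 0) := by
    rw [hA0]
    unfold Cfsg.classInner
    congr 1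
    refine Finset.sum_congr rfl (fun n _ => ?_)
    simp only [hφ]
    split_ifs <;> simp
  set Y : G → ℂ := X - Cfsg.indFun _ φ with hY
  have hYY : Cfsg.classInner Y Y = 1 - A0 := by
    rw [hY, classInner_sub_left, Cfsg.Agent.Lib.Helper3_Exceptional.classInner_sub_right',
      Cfsg.Agent.Lib.Helper3_Exceptional.classInner_sub_right',
      classInner_self_of_isIrrCharacter hX, I1, I2, ← classInner_conj_symm (Cfsg.indFun _ φ) X, I2, hA0conj]
    ring
  have hY1 : Y 1 = X 1 := by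
    rw [hY, Pi.sub_apply, Cfsg.Agent.Lib.Helper80_CharInd.indFun_one, hφ1, mul_zero, sub_zero]
  refine ⟨∑ g ∈ Finset.univ.erase (1 : G), Complex.normSq (Y g), Finset.sum_nonneg (fun g _ => Complex.normSq_nonneg _), ?_⟩
  have h5 : ∑ g : G, Y g * conj (Y g) = Y 1 * conj (Y 1) +
      ((∑ g ∈ Finset.univ.erase (1 : G), Complex.normSq (Y g) : ℝ) : ℂ) := by
    rw [← Finset.add_sum_erase Finset.univ _ (Finset.mem_univ (1 : G))]
    congr 1
    push_cast
    refine Finset.sum_congr rfl (fun g _ => ?_)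
    rw [Complex.mul_conj]
  have h6 : (Nat.card G : ℂ) * (1 - A0) = ∑ g : G, Y g * conj (Y g) := by
    rw [← hYY]
    unfold Cfsg.classInner
    field_simp
  rw [h5, hY1] at h6
  rw [mul_assoc, ← hA0val]
  linear_combination h6

open Classical in
theorem sum_cond_eq (g : Subgroup.normalizer (U : Set G) → ℂ)
    [Fintype (U.subgroupOf (Subgroup.normalizer (U : Set G)))] :
    (∑ n : Subgroup.normalizer (U : Set G), if (n : G) ∈ U ∧ n ≠ 1 then g n else 0) =
      ∑ a : U.subgroupOf (Subgroup.normalizer (U : Set G)), (if a ≠ 1 then g a else 0) := by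
  rw [sum_eq_sum_subgroup (U.subgroupOf (Subgroup.normalizer (U : Set G)))
    (fun n => if (n : G) ∈ U ∧ n ≠ 1 then g n else 0)
    (fun m hm => by
      rw [if_neg]
      intro hh
      exact hm (Subgroup.mem_subgroupOf.mpr hh.1))]
  refine Finset.sum_congr rfl (fun a _ => ?_)
  by_cases ha : a = 1
  · rw [if_neg (not_not.mpr ha), if_neg]
    intro hh
    exact hh.2 (by rw [ha]; rfl)
  · rw [if_pos ha, if_pos]
    exact ⟨Subgroup.mem_subgroupOf.mp a.2, fun hh => ha (Subtype.ext hh)⟩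

open Classical in
/-- Key step: an irreducible character of `G` whose restriction to `N` has multiplicity
`a + E` at the relevant character `ψ₀` and `a` at every other relevant character restricts
to `ψ₀`. -/
theorem restrict_eq
    [Fintype (U.subgroupOf (Subgroup.normalizer (U : Set G)))]
    (hab : ∀ a b : U.subgroupOf (Subgroup.normalizer (U : Set G)), a * b = b * a)
    (hTI : ∀ g : G, g ∉ Subgroup.normalizer (U : Set G) → ∀ s ∈ (U : Set G), g * s * g⁻¹ ∈ (U : Set G) → s = 1)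
    (hC : ∀ a ∈ U.subgroupOf (Subgroup.normalizer (U : Set G)), a ≠ 1 →
      ∀ m : Subgroup.normalizer (U : Set G), m * a = a * m → m ∈ U.subgroupOf (Subgroup.normalizer (U : Set G)))
    (q e : ℕ) (hq : Nat.card (U.subgroupOf (Subgroup.normalizer (U : Set G))) = q)
    (hN : Nat.card (Subgroup.normalizer (U : Set G)) = q * e)
    (hG : Nat.card G = (q + 1) * q * e) (he : 1 ≤ e) (hqe : (e + 1) ^ 2 ≤ q)
    (X : G → ℂ) (hX : Cfsg.IsIrrCharacter G X)
    (ψ₀ : Cfsg.IrrCharacter (Subgroup.normalizer (U : Set G)))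
    (hψ₀ : Rel (U.subgroupOf (Subgroup.normalizer (U : Set G))) ψ₀)
    (E : ℤ) (hE : E = 1 ∨ E = -1) (a : ℕ)
    (hm : ∀ ψ : Cfsg.IrrCharacter (Subgroup.normalizer (U : Set G)),
      Rel (U.subgroupOf (Subgroup.normalizer (U : Set G))) ψ →
      Cfsg.classInner (fun n : Subgroup.normalizer (U : Set G) => X n) (ψ : _ → ℂ) =
        ((a + if ψ = ψ₀ then E else 0 : ℤ) : ℂ)) :
    ∀ n : Subgroup.normalizer (U : Set G), X n = (ψ₀ : _ → ℂ) n := by
  haveI : (U.subgroupOf (Subgroup.normalizer (U : Set G))).Normal := Subgroup.normal_in_normalizer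
  have hq0 : q ≠ 0 := by rw [← hq]; exact Nat.card_pos.ne'
  have hqc : (q : ℂ) ≠ 0 := by exact_mod_cast hq0
  have he0 : e ≠ 0 := by omega
  have hec : (e : ℂ) ≠ 0 := by exact_mod_cast he0
  have hXch : Cfsg.IsCharacter G X := isCharacter_of_isIrrCharacter hX
  obtain ⟨l, hval, h1, hfin⟩ := char_values (U.subgroupOf (Subgroup.normalizer (U : Set G))) hab hC q e hq hN
    (fun n : Subgroup.normalizer (U : Set G) => X n)
    (isCharacter_restrict (Subgroup.normalizer (U : Set G)) hXch) ψ₀ hψ₀ E a hm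
  have hs := card_rel (U.subgroupOf (Subgroup.normalizer (U : Set G))) hab hC q e hq hN
  obtain ⟨r, hr0, hr⟩ := norm_ineq U hTI X hX
  rw [sum_cond_eq U (fun n => X n * conj (X n))] at hr
  have hval' : ∀ n : Subgroup.normalizer (U : Set G), n ∈ U.subgroupOf (Subgroup.normalizer (U : Set G)) →
      n ≠ 1 → (fun n : Subgroup.normalizer (U : Set G) => X n) n =
        (E : ℂ) * (ψ₀ : _ → ℂ) n + (((l : ℤ) - (a : ℤ) : ℤ) : ℂ) := by
    intro n hn hn1
    show X n = _
    rw [hval n hn hn1]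
    push_cast
    ring
  have hsumv := sum_normSq_values (U.subgroupOf (Subgroup.normalizer (U : Set G))) hab hC q e hq hN
    (fun n : Subgroup.normalizer (U : Set G) => X n) ψ₀ hψ₀ E hE ((l : ℤ) - (a : ℤ)) hval'
  have hsumv' : (∑ a : U.subgroupOf (Subgroup.normalizer (U : Set G)),
      (if a ≠ 1 then X a * conj (X a) else 0)) =
      (((q : ℤ) * e - (e : ℤ) ^ 2 - 2 * E * ((l : ℤ) - (a : ℤ)) * e +
        ((q : ℤ) - 1) * ((l : ℤ) - (a : ℤ)) ^ 2 : ℤ) : ℂ) := by
    rw [← hsumv]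
    refine Finset.sum_congr rfl (fun a _ => ?_)
    by_cases ha : a = 1
    · rw [if_neg (not_not.mpr ha), if_neg (not_not.mpr ha)]
    · rw [if_pos ha, if_pos ha]
  rw [hsumv'] at hr
  set s := (Finset.univ.filter (fun ψ : Cfsg.IrrCharacter (Subgroup.normalizer (U : Set G)) =>
    Rel (U.subgroupOf (Subgroup.normalizer (U : Set G))) ψ)).card with hsdef
  set x : ℤ := ((s : ℤ) * a + E) * e + l with hx
  have h1' : X 1 = (x : ℂ) := h1
  obtain ⟨dg, hdgpos, hdg⟩ := irr_one_eq_natCast hX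
  have hxpos : 0 < x := by
    have : (x : ℂ) = ((dg : ℤ) : ℂ) := by rw [← h1', hdg]; simp
    have h2 : x = (dg : ℤ) := by exact_mod_cast this
    rw [h2]; exact_mod_cast hdgpos
  rw [h1', hG, hN] at hr
  have hconjx : conj (x : ℂ) = (x : ℂ) := by simp
  rw [hconjx] at hr
  have hr' : (r : ℂ) = (((((q : ℤ) + 1) * q * e - x ^ 2 - ((q : ℤ) + 1) * ((q : ℤ) * e - (e : ℤ) ^ 2 -
      2 * E * ((l : ℤ) - a) * e + ((q : ℤ) - 1) * ((l : ℤ) - a) ^ 2) : ℤ) : ℝ) : ℂ) := by
    push_cast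
    push_cast at hr
    field_simp at hr
    linear_combination -hr
  have hr'' := Complex.ofReal_injective hr'
  have hZ : (0 : ℤ) ≤ (((q : ℤ) + 1) * q * e - x ^ 2 - ((q : ℤ) + 1) * ((q : ℤ) * e - (e : ℤ) ^ 2 -
      2 * E * ((l : ℤ) - a) * e + ((q : ℤ) - 1) * ((l : ℤ) - a) ^ 2)) := by
    have : (0 : ℝ) ≤ (((((q : ℤ) + 1) * q * e - x ^ 2 - ((q : ℤ) + 1) * ((q : ℤ) * e - (e : ℤ) ^ 2 -
      2 * E * ((l : ℤ) - a) * e + ((q : ℤ) - 1) * ((l : ℤ) - a) ^ 2) : ℤ)) : ℝ) := by
      rw [← hr'']; exact hr0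
    exact_mod_cast this
  obtain ⟨ha0, hl0, hE1⟩ := arith_key q e a l s E hE he hqe hs x hx hxpos (by linarith)
  exact hfin hl0 ha0 hE1

omit [Fintype (Subgroup.normalizer (U : Set G))] in
/-- **Feit's inequality, abelian case** (in the form needed for Zassenhaus groups).
Let `U` be an abelian TI-subgroup of `G` with normalizer `N` of order `qe`, a Frobenius group
with kernel `U` of order `q` and complement `H` of order `e ≥ 2`, `|G| = (q+1)qe`, and suppose
`H` has index two in a subgroup `D` all of whose elements outside `H` are conjugate to a fixed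
nonidentity element of `U`.  Then `q < (e+1)²`. -/
theorem feit_abelian (H D : Subgroup G)
    (hab : ∀ a b : U, a * b = b * a)
    (hTI : ∀ g : G, g ∉ Subgroup.normalizer (U : Set G) → ∀ s ∈ (U : Set G), g * s * g⁻¹ ∈ (U : Set G) → s = 1)
    (hC : ∀ u ∈ U, u ≠ 1 → ∀ g ∈ Subgroup.normalizer (U : Set G), g * u = u * g → g ∈ U)
    (q e : ℕ) (hq : Nat.card U = q) (hN : Nat.card (Subgroup.normalizer (U : Set G)) = q * e)
    (hG : Nat.card G = (q + 1) * q * e) (he : 2 ≤ e) (hqe : (e + 1) ^ 2 ≤ q)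
    (hHN : H ≤ Subgroup.normalizer (U : Set G)) (hHU : ∀ h ∈ H, h ∈ U → h = 1)
    (hHc : Nat.card H = e) (hHD : H ≤ D) (hDc : Nat.card D = 2 * e)
    (t : G) (ht : t ∈ U) (ht1 : t ≠ 1) (hconj : ∀ d ∈ D, d ∉ H → IsConj d t) : False := by
  classical
  haveI : Fintype (Subgroup.normalizer (U : Set G)) := Fintype.ofFinite _
  haveI : Fintype (U.subgroupOf (Subgroup.normalizer (U : Set G))) := Fintype.ofFinite _
  haveI : (U.subgroupOf (Subgroup.normalizer (U : Set G))).Normal := Subgroup.normal_in_normalizer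
  have hUN : U ≤ Subgroup.normalizer (U : Set G) := Subgroup.le_normalizer
  have habA : ∀ a b : U.subgroupOf (Subgroup.normalizer (U : Set G)), a * b = b * a := by
    intro a b
    have := hab ⟨(a : G), Subgroup.mem_subgroupOf.mp a.2⟩ ⟨(b : G), Subgroup.mem_subgroupOf.mp b.2⟩
    have h2 := congrArg Subtype.val this
    apply Subtype.ext
    apply Subtype.ext
    simpa using h2
  have hCA : ∀ a ∈ U.subgroupOf (Subgroup.normalizer (U : Set G)), a ≠ 1 →
      ∀ m : Subgroup.normalizer (U : Set G), m * a = a * m →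
        m ∈ U.subgroupOf (Subgroup.normalizer (U : Set G)) := by
    intro a ha ha1 m hm
    rw [Subgroup.mem_subgroupOf]
    apply hC (a : G) (Subgroup.mem_subgroupOf.mp ha) (fun h => ha1 (Subtype.ext h)) (m : G) m.2
    have := congrArg Subtype.val hm
    simpa using this
  have hqA : Nat.card (U.subgroupOf (Subgroup.normalizer (U : Set G))) = q := by
    rw [← hq]
    exact Nat.card_congr (Subgroup.subgroupOfEquivOfLe hUN).toEquiv
  set R := Finset.univ.filter (fun ψ : Cfsg.IrrCharacter (Subgroup.normalizer (U : Set G)) =>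
    Rel (U.subgroupOf (Subgroup.normalizer (U : Set G))) ψ) with hR
  have hs := card_rel (U.subgroupOf (Subgroup.normalizer (U : Set G))) habA hCA q e hqA hN
  have hs2 : 2 ≤ R.card := by
    by_contra hlt
    have h1 : R.card ≤ 1 := by omega
    have h2 : R.card * e ≤ 1 * e := Nat.mul_le_mul_right e h1
    nlinarith
  let eR : Fin R.card ≃ R := R.equivFin.symm
  let χ : Fin R.card → (Subgroup.normalizer (U : Set G) → ℂ) := fun i => ((eR i : R) : Cfsg.IrrCharacter (Subgroup.normalizer (U : Set G))).1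
  have hrel : ∀ i, Rel (U.subgroupOf (Subgroup.normalizer (U : Set G))) (eR i : R).1 := fun i =>
    (Finset.mem_filter.mp (eR i).2).2
  have hirr : ∀ i, Cfsg.IsIrrCharacter (Subgroup.normalizer (U : Set G)) (χ i) := fun i =>
    ((eR i : R) : Cfsg.IrrCharacter (Subgroup.normalizer (U : Set G))).2
  have hinj : Function.Injective χ := by
    intro i j hij
    have : ((eR i : R) : Cfsg.IrrCharacter (Subgroup.normalizer (U : Set G))) = ((eR j : R) : Cfsg.IrrCharacter (Subgroup.normalizer (U : Set G))) := Subtype.ext hij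
    exact eR.injective (Subtype.ext this)
  have hvan : ∀ i, ∀ x : Subgroup.normalizer (U : Set G), (x : G) ∉ (U : Set G) → χ i x = 0 := by
    intro i x hx
    exact rel_vanish (U.subgroupOf (Subgroup.normalizer (U : Set G))) habA hCA (hrel i) x
      (fun h => hx (Subgroup.mem_subgroupOf.mp h))
  have hdeg : ∀ i j, χ i 1 = χ j 1 := by
    intro i j
    show ((eR i : R) : Cfsg.IrrCharacter (Subgroup.normalizer (U : Set G))).1 1 = ((eR j : R) : Cfsg.IrrCharacter (Subgroup.normalizer (U : Set G))).1 1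
    rw [rel_deg (U.subgroupOf (Subgroup.normalizer (U : Set G))) habA hCA (hrel i),
      rel_deg (U.subgroupOf (Subgroup.normalizer (U : Set G))) habA hCA (hrel j)]
  obtain ⟨ε, hε, X, hXirr, hXinj, hXeq⟩ :=
    Cfsg.Agent.Lib.Helper3_Exceptional.exceptional (U : Set G) hTI R.card hs2 χ hirr hinj hvan hdeg
  obtain ⟨E, hE, hEε⟩ : ∃ E : ℤ, (E = 1 ∨ E = -1) ∧ ε = (E : ℂ) := by
    rcases hε with h | h
    · exact ⟨1, Or.inl rfl, by rw [h]; simp⟩
    · exact ⟨-1, Or.inr rfl, by rw [h]; simp⟩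
  -- the reciprocity relation
  have hrec : ∀ i j k : Fin R.card,
      Cfsg.classInner (fun n : Subgroup.normalizer (U : Set G) => X i n) (χ j) -
        Cfsg.classInner (fun n : Subgroup.normalizer (U : Set G) => X i n) (χ k) =
      ε * ((if j = i then 1 else 0) - (if k = i then 1 else 0)) := by
    intro i j k
    have h1 : Cfsg.classInner (Cfsg.indFun (Subgroup.normalizer (U : Set G)) (χ j) -
        Cfsg.indFun (Subgroup.normalizer (U : Set G)) (χ k)) (X i) =
        ε * ((if j = i then 1 else 0) - (if k = i then 1 else 0)) := by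
      rw [hXeq j k, classInner_smul_left, classInner_sub_left, classInner_irr (hXirr j) (hXirr i),
        classInner_irr (hXirr k) (hXirr i)]
      simp only [hXinj.eq_iff]
    rw [classInner_sub_left,
      frobenius_reciprocity _ (χ j) (X i) (isClassFunction_of_isIrrCharacter (hXirr i)),
      frobenius_reciprocity _ (χ k) (X i) (isClassFunction_of_isIrrCharacter (hXirr i))] at h1
    obtain ⟨nj, hnj⟩ := classInner_isCharacter_nat
      (isCharacter_restrict (Subgroup.normalizer (U : Set G)) (isCharacter_of_isIrrCharacter (hXirr i)))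
      (isCharacter_of_isIrrCharacter (hirr j))
    obtain ⟨nk, hnk⟩ := classInner_isCharacter_nat
      (isCharacter_restrict (Subgroup.normalizer (U : Set G)) (isCharacter_of_isIrrCharacter (hXirr i)))
      (isCharacter_of_isIrrCharacter (hirr k))
    rw [← classInner_conj_symm (fun h : Subgroup.normalizer (U : Set G) => X i h) (χ j),
      ← classInner_conj_symm (fun h : Subgroup.normalizer (U : Set G) => X i h) (χ k), hnj, hnk] at h1
    rw [hnj, hnk]
    simpa using h1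
  -- restriction of the exceptional characters
  have hres : ∀ i : Fin R.card, ∀ n : Subgroup.normalizer (U : Set G), X i n = χ i n := by
    intro i
    obtain ⟨j₀, hj₀⟩ : ∃ j₀ : Fin R.card, j₀ ≠ i := by
      by_cases hi : i = ⟨0, by omega⟩
      · exact ⟨⟨1, by omega⟩, by rw [hi]; simp [Fin.ext_iff]⟩
      · exact ⟨⟨0, by omega⟩, fun h => hi h.symm⟩
    obtain ⟨a, ha⟩ := classInner_isCharacter_nat
      (isCharacter_restrict (Subgroup.normalizer (U : Set G)) (isCharacter_of_isIrrCharacter (hXirr i)))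
      (isCharacter_of_isIrrCharacter (hirr j₀))
    apply restrict_eq U habA hTI hCA q e hqA hN hG (by omega) hqe (X i) (hXirr i) (eR i : R).1 (hrel i) E hE a
    intro ψ hψ
    have hψR : ψ ∈ R := Finset.mem_filter.mpr ⟨Finset.mem_univ _, hψ⟩
    obtain ⟨k, hk⟩ : ∃ k : Fin R.card, (eR k : R).1 = ψ := ⟨eR.symm ⟨ψ, hψR⟩, by simp⟩
    have hχk : χ k = (ψ : _ → ℂ) := by rw [← hk]
    rw [← hχk]
    by_cases hki : k = i
    · have h1 := hrec i i j₀
      rw [if_pos rfl, if_neg hj₀, ha] at h1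
      have hψeq : ψ = (eR i : R).1 := by rw [← hk, hki]
      rw [if_pos hψeq, hki]
      push_cast
      rw [← hEε]
      linear_combination h1
    · have h1 := hrec i j₀ k
      rw [if_neg hj₀, if_neg hki, ha] at h1
      have hψne : ¬ (ψ = (eR i : R).1) := by
        intro h
        apply hki
        have : (eR k : R) = eR i := Subtype.ext (by rw [hk, h])
        exact eR.injective this
      rw [if_neg hψne]
      push_cast
      linear_combination -h1
  -- values at `t` have absolute value one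
  have hK2 : (H.subgroupOf D).index = 2 := by
    have h1 : Nat.card (H.subgroupOf D) = e := by
      rw [← hHc]
      exact Nat.card_congr (Subgroup.subgroupOfEquivOfLe hHD).toEquiv
    have h2 := (H.subgroupOf D).card_mul_index
    rw [h1, hDc] at h2
    have he0 : 0 < e := by omega
    have : e * (H.subgroupOf D).index = e * 2 := by rw [h2]; ring
    exact Nat.eq_of_mul_eq_mul_left he0 this
  have hKcard : Nat.card (H.subgroupOf D) = e := by
    rw [← hHc]
    exact Nat.card_congr (Subgroup.subgroupOfEquivOfLe hHD).toEquiv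
  have hq0 : q ≠ 0 := by rw [← hq]; exact Nat.card_pos.ne'
  have hqc : (q : ℂ) ≠ 0 := by exact_mod_cast hq0
  have hone : ∀ i : Fin R.card, χ i ⟨t, hUN ht⟩ * conj (χ i ⟨t, hUN ht⟩) = 1 := by
    intro i
    haveI : Fintype D := Fintype.ofFinite _
    have hch : Cfsg.IsCharacter D (fun d : D => X i d) :=
      isCharacter_restrict D (isCharacter_of_isIrrCharacter (hXirr i))
    have hcl := isClassFunction_of_isIrrCharacter (hXirr i)
    have h1 : ∀ d : D, d ∉ H.subgroupOf D → (fun d : D => X i d) d = X i t := by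
      intro d hd
      have hd' : (d : G) ∉ H := fun h => hd (Subgroup.mem_subgroupOf.mpr h)
      obtain ⟨c, hc⟩ := isConj_iff.mp (hconj d d.2 hd')
      show X i d = X i t
      rw [← hc, hcl]
    have h2 : ∀ k ∈ H.subgroupOf D, k ≠ 1 → (fun d : D => X i d) k = 0 := by
      intro k hk hk1
      have hkH : (k : G) ∈ H := Subgroup.mem_subgroupOf.mp hk
      have hkN : (k : G) ∈ Subgroup.normalizer (U : Set G) := hHN hkH
      have hkU : (k : G) ∉ (U : Set G) := fun h => hk1 (Subtype.ext (hHU _ hkH h))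
      show X i k = 0
      have := hres i ⟨(k : G), hkN⟩
      rw [this]
      exact hvan i ⟨(k : G), hkN⟩ hkU
    have h3 : (fun d : D => X i d) 1 = (Nat.card (H.subgroupOf D) : ℂ) := by
      show X i ((1 : D) : G) = _
      have := hres i 1
      have h4 : X i ((1 : D) : G) = X i ((1 : Subgroup.normalizer (U : Set G)) : G) := rfl
      rw [h4, this, hKcard]
      show ((eR i : R) : Cfsg.IrrCharacter (Subgroup.normalizer (U : Set G))).1 1 = _
      rw [rel_deg (U.subgroupOf (Subgroup.normalizer (U : Set G))) habA hCA (hrel i), hqA, hN]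
      push_cast
      field_simp
    have h5 := val_of_index_two (H.subgroupOf D) hK2 (fun d : D => X i d) hch (X i t) h1 h2 h3
    have h6 : χ i ⟨t, hUN ht⟩ = X i t := (hres i ⟨t, hUN ht⟩).symm
    rw [h6]
    rcases h5 with h | h <;> rw [h] <;> simp
  -- final count
  have hsum := sum_rel_normSq (U.subgroupOf (Subgroup.normalizer (U : Set G))) habA hCA q e hqA hN
    ⟨t, hUN ht⟩ (Subgroup.mem_subgroupOf.mpr ht) (fun h => ht1 (congrArg Subtype.val h))
  have hterm : ∀ ψ ∈ R, (ψ : Subgroup.normalizer (U : Set G) → ℂ) ⟨t, hUN ht⟩ *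
      conj ((ψ : Subgroup.normalizer (U : Set G) → ℂ) ⟨t, hUN ht⟩) = 1 := by
    intro ψ hψ
    have h1 := hone (eR.symm ⟨ψ, hψ⟩)
    have h2 : χ (eR.symm ⟨ψ, hψ⟩) = (ψ : Subgroup.normalizer (U : Set G) → ℂ) := by
      show ((eR (eR.symm ⟨ψ, hψ⟩) : R) : Cfsg.IrrCharacter (Subgroup.normalizer (U : Set G))).1 = _
      rw [Equiv.apply_symm_apply]
    rw [h2] at h1
    exact h1
  rw [Finset.sum_congr rfl hterm, Finset.sum_const, nsmul_eq_mul, mul_one] at hsum
  have hfin : (R.card : ℤ) = (q : ℤ) - (e : ℤ) := by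
    have : ((R.card : ℤ) : ℂ) = (((q : ℤ) - (e : ℤ) : ℤ) : ℂ) := by
      push_cast
      exact hsum
    exact_mod_cast this
  have hs' : (R.card : ℤ) * e + 1 = q := by exact_mod_cast hs
  have hs2' : (2 : ℤ) ≤ R.card := by exact_mod_cast hs2
  have he' : (2 : ℤ) ≤ e := by exact_mod_cast he
  nlinarith

end Main

end Cfsg.Agent.Lib.Helper20_FeitAbelian
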