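import Mathlib
import Cfsg.Prelude.Def_Solvable
import Cfsg.Agent.Lib.Helper71_HHB
import Cfsg.Agent.Lib.Helper71_HHBTwist
import Cfsg.Agent.Lib.Helper1_Cores

/-!
# Definitions for Gross' theorem on fixed-point-free automorphisms of 2-power order (helper9)

* `ScOn U g`: the operator `g` acts on the subspace `U` as a scalar.
* `Nice s E y U`: the output of the linear core lemma: `U` is a simple `E`-subspace, stable
  under `y`, `|E : scalars on U| = (dim U)^2`, and either `dim U = 1` or `dim U = s` with the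
  `(-1)`-eigenspace of `y` on `U` of dimension `(s + 1) / 2`.
* `fit2 G`: the second Fitting subgroup.
* `HasChain G k`: a normal series of length `k` with nilpotent factors.
-/

set_option autoImplicit false

namespace Cfsg.Agent.Lib.Helper9_GrossDefs

open Module Cfsg.Agent.Lib.Helper71_HHB Cfsg.Agent.Lib.Helper71_HHBTwist
  Cfsg.Agent.Lib.Helper1_Cores

section linear
variable {K : Type*} [Field K] {V : Type*} [AddCommGroup V] [Module K V]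

/-- `g` acts on `U` as a scalar -/
def ScOn (U : Submodule K V) (g : V ≃ₗ[K] V) : Prop := ∃ c : K, ∀ u ∈ U, g u = c • u

/-- the conclusion of the linear core lemma for one simple subspace -/
structure Nice (s : ℕ) (E : Subgroup (V ≃ₗ[K] V)) (y : V ≃ₗ[K] V) (U : Submodule K V) : Prop where
  simple : IsSimpleInv (tautRep E) U
  ystab : ∀ u ∈ U, y u ∈ U
  card : Nat.card E = Nat.card {g : E // ScOn U (g : V ≃ₗ[K] V)} * (finrank K U) ^ 2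
  dim : finrank K U = 1 ∨
    (finrank K U = s ∧
      2 * finrank K ↥(LinearMap.ker ((y : V →ₗ[K] V) + 1) ⊓ U) = s + 1)

end linear

section group
variable (G : Type*) [Group G]

/-- the second Fitting subgroup -/
def fit2 : Subgroup G :=
  (Cfsg.fittingSubgroup (G ⧸ Cfsg.fittingSubgroup G)).comap
    (QuotientGroup.mk' (Cfsg.fittingSubgroup G))

/-- a normal series of length `k` with nilpotent factors -/
def HasChain (k : ℕ) : Prop :=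
  ∃ F : Fin (k + 1) → Subgroup G, F 0 = ⊥ ∧ F (Fin.last k) = ⊤ ∧ Monotone F ∧
    (∀ i, (F i).Normal) ∧
    ∀ i : Fin k, ∃ j : ℕ, (F i.succ).lowerCentralSeries j ≤ F i.castSucc

end group

section cfg
variable {G : Type*} [Group G]

/-- a minimal configuration: `Q₁` (a `q`-group) and `R₁` (an `r₁`-group) are `τ`-invariant,
`Q₁` normalises `R₁`, `[Q₁, τ₀]` (`τ₀ = τ ^ 2 ^ N`) does not centralise `R₁`, and the pair is
minimal with these properties. -/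
structure GCfg (q r₁ N : ℕ) (τ : G) (Q₁ R₁ : Subgroup G) : Prop where
  hτ : τ ^ 2 ^ (N + 1) = 1
  hQ : IsPGroup q Q₁
  hR : IsPGroup r₁ R₁
  hτQ : ∀ g ∈ Q₁, τ * g * τ⁻¹ ∈ Q₁
  hτR : ∀ a ∈ R₁, τ * a * τ⁻¹ ∈ R₁
  hQR : ∀ g ∈ Q₁, ∀ a ∈ R₁, g * a * g⁻¹ ∈ R₁
  hmoved : ∃ g ∈ Q₁, ∃ a ∈ R₁, ¬ Commute (τ ^ 2 ^ N * g * (τ ^ 2 ^ N)⁻¹ * g⁻¹) a
  m1 : ∀ T ≤ Q₁, (∀ g ∈ T, τ * g * τ⁻¹ ∈ T) → T ≠ Q₁ →
    ∀ g ∈ T, ∀ a ∈ R₁, Commute (τ ^ 2 ^ N * g * (τ ^ 2 ^ N)⁻¹ * g⁻¹) a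
  m2 : ∀ R₂ ≤ R₁, (∀ a ∈ R₂, τ * a * τ⁻¹ ∈ R₂) → (∀ g ∈ Q₁, ∀ a ∈ R₂, g * a * g⁻¹ ∈ R₂) →
    R₂ ≠ R₁ → ∀ g ∈ Q₁, ∀ a ∈ R₂, Commute (τ ^ 2 ^ N * g * (τ ^ 2 ^ N)⁻¹ * g⁻¹) a

/-- the subgroup of `R₁` centralised by `Q₁` -/
def fixF (Q₁ R₁ : Subgroup G) : Subgroup G := R₁ ⊓ Subgroup.centralizer (Q₁ : Set G)

theorem mem_fixF {Q₁ R₁ : Subgroup G} {a : G} :
    a ∈ fixF Q₁ R₁ ↔ a ∈ R₁ ∧ ∀ g ∈ Q₁, g * a = a * g := by
  unfold fixF
  rw [Subgroup.mem_inf, Subgroup.mem_centralizer_iff]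
  rfl

end cfg

end Cfsg.Agent.Lib.Helper9_GrossDefs
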