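import Mathlib
import Cfsg.Agent.Lib.Helper9_GrossDefs
import Cfsg.Agent.Lib.Helper71_ESLinear

/-!
# GROSS-GES (helper20, for helper9's S3795)

`2`-power version of `Helper64_ShultES.finrank_succ_eq_pp`: an operator `t` with `t ^ (2 ^ m) = 1`
normalising an irreducible representation of extraspecial type, all of whose non-trivial powers
act semiregularly on `Q / Z`, without non-zero fixed vectors, forces `dim U + 1 = 2 ^ m`, and the
`(-1)`-eigenspace of `t ^ (2 ^ (m - 1))` has dimension `2 ^ (m - 1)`.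
-/

set_option autoImplicit false
set_option linter.unusedSectionVars false
set_option linter.unusedVariables false

namespace Cfsg.Agent.Lib.Helper20_Gross_GES

open Module Cfsg.Agent.Lib.Helper9_GrossDefs Cfsg.Agent.Lib.Helper71_ESLinear
open scoped commutatorElement

universe u

section aux
variable {K : Type*} [Field K] {U : Type*} [AddCommGroup U] [Module K U]

/-- the arithmetic of the `2`-power case (any `r > 0`, given the extra inequality `d ≤ c`) -/
theorem arith_two (r d ω c : ℕ) (hr : 0 < r) (hd2 : 2 ≤ d)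
    (horb : ω * r = d ^ 2 + (r - 1)) (hsq : d ^ 2 ≤ (r - 1) * c) (hc : c ≤ ω) (hdc : d ≤ c) :
    d + 1 = r ∧ c = d := by
  have h1 : d ^ 2 * r ≤ (r - 1) * (d ^ 2 + (r - 1)) := by
    calc d ^ 2 * r ≤ ((r - 1) * c) * r := Nat.mul_le_mul_right r hsq
      _ ≤ ((r - 1) * ω) * r := by
        apply Nat.mul_le_mul_right
        exact Nat.mul_le_mul_left _ hc
      _ = (r - 1) * (ω * r) := by ring
      _ = (r - 1) * (d ^ 2 + (r - 1)) := by rw [horb]
  have h2 : d * r ≤ d ^ 2 + (r - 1) := by
    calc d * r ≤ ω * r := Nat.mul_le_mul_right r (hdc.trans hc)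
      _ = d ^ 2 + (r - 1) := horb
  obtain ⟨s, rfl⟩ : ∃ s, r = s + 1 := ⟨r - 1, by omega⟩
  simp only [Nat.add_sub_cancel] at h1 h2 horb hsq
  have h3 : d ^ 2 ≤ s ^ 2 := by nlinarith
  have h4 : d ≤ s := by
    by_contra hcon
    push Not at hcon
    have : s ^ 2 < d ^ 2 := Nat.pow_lt_pow_left hcon (by norm_num)
    omega
  obtain ⟨e, rfl⟩ : ∃ e, d = e + 2 := ⟨d - 2, by omega⟩
  obtain ⟨f, rfl⟩ : ∃ f, s = e + 2 + f := ⟨s - (e + 2), by omega⟩
  have hf : f = 0 := by
    by_contra hf
    have hf1 : 1 ≤ f := Nat.one_le_iff_ne_zero.2 hf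
    nlinarith
  subst hf
  refine ⟨rfl, ?_⟩
  have h5 : ω = e + 2 := by
    have : ω * (e + 2 + 0 + 1) = (e + 2) * (e + 2 + 0 + 1) := by rw [horb]; ring
    exact Nat.eq_of_mul_eq_mul_right (by omega) this
  omega

/-- powers of `t` on an eigenvector -/
theorem pow_apply_eigen {ι : Type*} (b : Basis ι K U) (ev : ι → K) (t : End K U)
    (hb : ∀ i, t (b i) = ev i • b i) (n : ℕ) (i : ι) : (t ^ n) (b i) = ev i ^ n • b i := by
  induction n with
  | zero => simp
  | succ n ih => rw [pow_succ', Module.End.mul_apply, ih, map_smul, hb, smul_smul, pow_succ]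

/-- the number of pairs of equal eigenvalues is at most the dimension of the commutant -/
theorem card_pairs_le [FiniteDimensional K U] {ι : Type*} [Fintype ι] [DecidableEq ι]
    [DecidableEq K] (b : Basis ι K U)
    (ev : ι → K) (t : End K U) (hb : ∀ i, t (b i) = ev i • b i) :
    Fintype.card {p : ι × ι // ev p.1 = ev p.2}
      ≤ finrank K (Subalgebra.centralizer K ({t} : Set (End K U))) := by
  classical
  let E : Basis (ι × ι) K (End K U) := b.linearMap b
  let P := {p : ι × ι // ev p.1 = ev p.2}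
  have hEcomm : ∀ p : P, E p.1 ∈ Subalgebra.centralizer K ({t} : Set (End K U)) := by
    intro p
    rw [Subalgebra.mem_centralizer_iff]
    intro g hg
    rw [Set.mem_singleton_iff] at hg
    subst hg
    apply b.ext
    intro k
    rw [Module.End.mul_apply, Module.End.mul_apply, hb, map_smul]
    show g ((b.linearMap b p.1) (b k)) = ev k • (b.linearMap b p.1) (b k)
    rw [Basis.linearMap_apply_apply]
    split_ifs with h
    · rw [hb, p.2, h]
    · simp
  have hli : LinearIndependent K (fun p : P => (⟨E p.1, hEcomm p⟩ :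
      Subalgebra.centralizer K ({t} : Set (End K U)))) := by
    apply LinearIndependent.of_comp (Subalgebra.centralizer K ({t} : Set (End K U))).val.toLinearMap
    exact E.linearIndependent.comp Subtype.val Subtype.val_injective
  exact hli.fintype_card_le_finrank

/-- the dimension of the `(-1)`-eigenspace of `t ^ n` when the eigenvalues of `t` are pairwise
distinct non-trivial `2n`-th roots of unity and there are `2n - 1` of them -/
theorem finrank_ker_of_eigenbasis [FiniteDimensional K U] {ι : Type*} [Fintype ι]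
    (b : Basis ι K U) (ev : ι → K) (t : End K U) (hb : ∀ i, t (b i) = ev i • b i)
    (hinj : Function.Injective ev) {n : ℕ} (hn : 0 < n) (h2K : (2 : K) ≠ 0)
    (hpow : ∀ i, ev i ^ (n * 2) = 1) (hne1 : ∀ i, ev i ≠ 1) (hcard : Fintype.card ι + 1 = n * 2) :
    finrank K (LinearMap.ker (t ^ n + 1)) = n := by
  classical
  have hpm : ∀ i, ev i ^ n = 1 ∨ ev i ^ n = -1 := by
    intro i
    have : ev i ^ n * ev i ^ n = 1 := by rw [← pow_add, ← hpow i]; congr 1; ring
    exact mul_self_eq_one_iff.1 this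
  have h1ne : (1 : K) ≠ -1 := by
    intro h
    apply h2K
    have : (2 : K) = 1 + 1 := by norm_num
    rw [this]
    nth_rewrite 1 [h]
    simp
  set A : Finset ι := Finset.univ.filter fun i => ev i ^ n = 1 with hA
  set B : Finset ι := Finset.univ.filter fun i => ¬ ev i ^ n = 1 with hB
  have hAB : A.card + B.card = Fintype.card ι := by
    rw [hA, hB, Finset.card_filter_add_card_filter_not, Finset.card_univ]
  have hBm : ∀ i ∈ B, ev i ^ n = -1 := by
    intro i hi
    rw [hB, Finset.mem_filter] at hi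
    rcases hpm i with h | h
    · exact absurd h hi.2
    · exact h
  -- `|A| ≤ n - 1`
  have hAcard : A.card + 1 ≤ n := by
    have h1 : (1 : K) ∈ Polynomial.nthRootsFinset n (1 : K) :=
      (Polynomial.mem_nthRootsFinset hn 1).2 (one_pow n)
    have h2 : (Polynomial.nthRootsFinset n (1 : K)).card ≤ n := by
      unfold Polynomial.nthRootsFinset
      exact (Multiset.toFinset_card_le _).trans (Polynomial.card_nthRoots n 1)
    have h3 : ((Polynomial.nthRootsFinset n (1 : K)).erase 1).card + 1 ≤ n := by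
      have := Finset.card_erase_add_one h1
      omega
    have h4 : A.card ≤ ((Polynomial.nthRootsFinset n (1 : K)).erase 1).card := by
      apply Finset.card_le_card_of_injOn ev
      · intro i hi
        rw [Finset.mem_coe, hA, Finset.mem_filter] at hi
        rw [Finset.mem_coe, Finset.mem_erase]
        exact ⟨hne1 i, (Polynomial.mem_nthRootsFinset hn 1).2 hi.2⟩
      · exact hinj.injOn
    omega
  -- `|B| ≤ n`
  have hBcard : B.card ≤ n := by
    have hp0 : (Polynomial.X ^ n + Polynomial.C (1 : K)) ≠ 0 := Polynomial.X_pow_add_C_ne_zero hn 1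
    have h2 : (Polynomial.X ^ n + Polynomial.C (1 : K)).roots.toFinset.card ≤ n := by
      refine (Multiset.toFinset_card_le _).trans ?_
      refine (Polynomial.card_roots' _).trans ?_
      rw [Polynomial.natDegree_X_pow_add_C]
    refine le_trans ?_ h2
    apply Finset.card_le_card_of_injOn ev
    · intro i hi
      rw [Finset.mem_coe] at hi
      rw [Finset.mem_coe, Multiset.mem_toFinset, Polynomial.mem_roots hp0, Polynomial.IsRoot.def]
      simp [hBm i hi]
    · exact hinj.injOn
  have hBn : B.card = n := by omega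
  have hAn : A.card + 1 = n := by omega
  -- the eigenvectors in `B` lie in `ker (t ^ n + 1)`, those in `A` in `ker (t ^ n - 1)`
  have hBle : Submodule.span K (Set.range (b ∘ (Subtype.val : B → ι))) ≤
      LinearMap.ker (t ^ n + 1) := by
    rw [Submodule.span_le]
    rintro _ ⟨i, rfl⟩
    rw [SetLike.mem_coe, LinearMap.mem_ker, LinearMap.add_apply, Function.comp_apply,
      pow_apply_eigen b ev t hb, hBm i i.2]
    simp
  have hAle : Submodule.span K (Set.range (b ∘ (Subtype.val : A → ι))) ≤
      LinearMap.ker (t ^ n - 1) := by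
    rw [Submodule.span_le]
    rintro _ ⟨i, rfl⟩
    have hi : ev i ^ n = 1 := (Finset.mem_filter.1 i.2).2
    rw [SetLike.mem_coe, LinearMap.mem_ker, LinearMap.sub_apply, Function.comp_apply,
      pow_apply_eigen b ev t hb, hi]
    simp
  have hBfr : finrank K (Submodule.span K (Set.range (b ∘ (Subtype.val : B → ι)))) = B.card := by
    rw [finrank_span_eq_card (b.linearIndependent.comp Subtype.val Subtype.val_injective)]
    simp
  have hAfr : finrank K (Submodule.span K (Set.range (b ∘ (Subtype.val : A → ι)))) = A.card := by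
    rw [finrank_span_eq_card (b.linearIndependent.comp Subtype.val Subtype.val_injective)]
    simp
  have hdisj : Disjoint (LinearMap.ker (t ^ n + 1)) (LinearMap.ker (t ^ n - 1)) := by
    rw [Submodule.disjoint_def]
    intro u hu1 hu2
    rw [LinearMap.mem_ker, LinearMap.add_apply, Module.End.one_apply] at hu1
    rw [LinearMap.mem_ker, LinearMap.sub_apply, Module.End.one_apply] at hu2
    have h3 : (2 : K) • u = 0 := by
      rw [two_smul]
      calc u + u = ((t ^ n) u + u) - ((t ^ n) u - u) := by abel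
        _ = 0 := by rw [hu1, hu2, sub_zero]
    rcases smul_eq_zero.1 h3 with h | h
    · exact absurd h h2K
    · exact h
  have hsum := Submodule.finrank_add_finrank_le_of_disjoint hdisj
  have h5 := Submodule.finrank_mono hBle
  have h6 := Submodule.finrank_mono hAle
  have hd : finrank K U = Fintype.card ι := Module.finrank_eq_card_basis b
  omega

end aux

section GES
variable {K : Type*} [Field K] {U : Type*} [AddCommGroup U] [Module K U]
variable {Q : Type*} [Group Q]

theorem finrank_succ_eq_two_pow [IsAlgClosed K] [FiniteDimensional K U] [Finite Q]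
    {ρ : Representation K Q U} {t : End K U} (σ : MulAut Q)
    (hρ : ESRep ρ) (hirr : Irr ρ) {m : ℕ} (hm : 1 ≤ m) (h2K : (2 : K) ≠ 0)
    (ht : t ^ (2 ^ m) = 1) (hσ : ∀ g, t * ρ g = ρ (σ g) * t)
    (hsemi : ∀ j, 0 < j → j < 2 ^ m → ∀ g, (σ ^ j) g * g⁻¹ ∈ scSubgroup ρ → g ∈ scSubgroup ρ)
    (hne : ∃ g, g ∉ scSubgroup ρ) (hfix : ∀ u, t u = u → u = 0) :
    finrank K U + 1 = 2 ^ m ∧
      finrank K (LinearMap.ker (t ^ (2 ^ (m - 1)) + 1)) = 2 ^ (m - 1) := by
  classical
  obtain ⟨g₀, hg₀⟩ := hne
  have hnt : Nontrivial U := by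
    by_contra hU
    rw [not_nontrivial_iff_subsingleton] at hU
    apply hg₀
    refine ⟨0, ?_⟩
    ext u
    exact Subsingleton.elim _ _
  have hrK : ((2 ^ m : ℕ) : K) ≠ 0 := by
    rw [Nat.cast_pow, Nat.cast_ofNat]
    exact pow_ne_zero m h2K
  have hrn : 2 ^ m = 2 ^ (m - 1) * 2 := by
    rw [← pow_succ]
    congr 1
    omega
  obtain ⟨n, hn⟩ : ∃ n, n = 2 ^ (m - 1) := ⟨_, rfl⟩
  rw [← hn] at hrn ⊢
  have hn0 : 0 < n := by rw [hn]; positivity
  obtain ⟨r, hr⟩ : ∃ r, r = 2 ^ m := ⟨_, rfl⟩
  rw [← hr] at hrK ht hsemi hrn ⊢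
  have hr0 : 0 < r := by rw [hr]; positivity
  set τ := sigmaBar σ hr0 ht hσ with hτ
  have hτr : τ ^ r = 1 := sigmaBar_pow_eq_one σ hr0 ht hσ
  have hτfix : ∀ j, 0 < j → j < r → ∀ q, (τ ^ j) q = q → q = 1 := by
    intro j hj0 hjr q hq
    obtain ⟨g, rfl⟩ := QuotientGroup.mk_surjective q
    rw [hτ, sigmaBar_pow_mk, QuotientGroup.eq] at hq
    have h1 : g⁻¹ * (σ ^ j) g ∈ scSubgroup ρ := by
      have := (scSubgroup ρ).inv_mem hq
      simpa using this
    have h2 : (σ ^ j) g * g⁻¹ ∈ scSubgroup ρ := by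
      have := (scSubgroup_normal ρ).conj_mem _ h1 g
      simpa [mul_assoc] using this
    exact (QuotientGroup.eq_one_iff g).2 (hsemi j hj0 hjr g h2)
  have hq₀ : (g₀ : Q ⧸ scSubgroup ρ) ≠ 1 := fun h => hg₀ ((QuotientGroup.eq_one_iff g₀).1 h)
  have hord : orderOf τ = r := by
    have hdvd : orderOf τ ∣ r := orderOf_dvd_of_pow_eq_one hτr
    have hpos : 0 < orderOf τ := Nat.pos_of_dvd_of_pos hdvd hr0
    rcases Nat.lt_or_ge (orderOf τ) r with hlt | hge
    · exfalso
      apply hq₀
      apply hτfix (orderOf τ) hpos hlt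
      rw [pow_orderOf_eq_one, MulAut.one_apply]
    · exact le_antisymm (Nat.le_of_dvd hr0 hdvd) hge
  have hcardG : Nat.card (Subgroup.zpowers τ) = r := by rw [Nat.card_zpowers, hord]
  have hfixBy : ∀ a : Subgroup.zpowers τ, a ≠ 1 →
      Nat.card (MulAction.fixedBy (Q ⧸ scSubgroup ρ) a) = 1 := by
    intro a ha
    have hfin : IsOfFinOrder τ := isOfFinOrder_iff_pow_eq_one.2 ⟨r, hr0, hτr⟩
    obtain ⟨j, hj, hja⟩ : ∃ j, j < r ∧ τ ^ j = (a : MulAut (Q ⧸ scSubgroup ρ)) := by
      have := (hfin.mem_zpowers_iff_mem_range_orderOf).1 a.2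
      rw [Finset.mem_image] at this
      obtain ⟨j, hj, hja⟩ := this
      rw [Finset.mem_range, hord] at hj
      exact ⟨j, hj, hja⟩
    have hj0 : 0 < j := by
      rcases Nat.eq_zero_or_pos j with h0 | h0
      · exfalso
        apply ha
        apply Subtype.ext
        rw [← hja, h0, pow_zero]
        rfl
      · exact h0
    have huniq : ∀ q : Q ⧸ scSubgroup ρ, q ∈ MulAction.fixedBy (Q ⧸ scSubgroup ρ) a ↔ q = 1 := by
      intro q
      constructor
      · intro hq
        apply hτfix j hj0 hj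
        rw [hja]
        exact hq
      · rintro rfl
        show a • (1 : Q ⧸ scSubgroup ρ) = 1
        exact map_one (a : MulAut (Q ⧸ scSubgroup ρ))
    rw [Nat.card_eq_one_iff_unique]
    refine ⟨⟨?_⟩, ⟨⟨1, (huniq 1).2 rfl⟩⟩⟩
    intro x y
    apply Subtype.ext
    rw [(huniq x.1).1 x.2, (huniq y.1).1 y.2]
  have horb := card_orbits_mul (S := Q ⧸ scSubgroup ρ) hcardG hfixBy
  have hc := finrank_commutant_le σ hirr hr0 hrK ht hσ
  have hsq := sq_finrank_le hr0 hrK t ht hfix
  have hN := hρ.card_quot hirr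
  rw [hN] at horb
  have hd1 : 1 ≤ finrank K U := Module.finrank_pos
  have hdne1 : finrank K U ≠ 1 := by
    intro h1
    rw [h1, one_pow] at hN
    have : Subsingleton (Q ⧸ scSubgroup ρ) := (Nat.card_eq_one_iff_unique.1 hN).1
    exact hq₀ (Subsingleton.elim _ _)
  -- the eigenbasis
  obtain ⟨ι, _, b, ev, hb⟩ := exists_eigenbasis hrK t ht
  have hd : finrank K U = Fintype.card ι := Module.finrank_eq_card_basis b
  have hP := card_pairs_le b ev t hb
  have hdiag : Fintype.card ι ≤ Fintype.card {p : ι × ι // ev p.1 = ev p.2} :=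
    Fintype.card_le_of_injective (fun i => ⟨(i, i), rfl⟩) (by
      intro i j hij
      have := congrArg (fun p : {p : ι × ι // ev p.1 = ev p.2} => p.1.1) hij
      exact this)
  have hdc : finrank K U ≤ finrank K (Subalgebra.centralizer K ({t} : Set (End K U))) := by
    rw [hd]; exact hdiag.trans hP
  obtain ⟨hdr, hcd⟩ := arith_two r _ _ _ hr0 (by omega) horb hsq hc hdc
  refine ⟨hdr, ?_⟩
  -- `ev` is injective
  have hbij : Function.Bijective (fun i : ι => (⟨(i, i), rfl⟩ : {p : ι × ι // ev p.1 = ev p.2})) := by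
    rw [Fintype.bijective_iff_injective_and_card]
    refine ⟨?_, ?_⟩
    · intro i j hij
      have := congrArg (fun p : {p : ι × ι // ev p.1 = ev p.2} => p.1.1) hij
      exact this
    · apply le_antisymm hdiag
      rw [← hd, ← hcd]
      exact hP
  have hinj : Function.Injective ev := by
    intro i j hij
    obtain ⟨k, hk⟩ := hbij.2 ⟨(i, j), hij⟩
    have h1 := congrArg (fun p : {p : ι × ι // ev p.1 = ev p.2} => p.1.1) hk
    have h2 := congrArg (fun p : {p : ι × ι // ev p.1 = ev p.2} => p.1.2) hk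
    simp only at h1 h2
    rw [← h1, ← h2]
  have hpow : ∀ i, ev i ^ (n * 2) = 1 := by
    intro i
    have h1 : (t ^ r) (b i) = ev i ^ r • b i := pow_apply_eigen b ev t hb r i
    rw [ht, Module.End.one_apply] at h1
    have h2 : (ev i ^ r - 1) • b i = 0 := by rw [sub_smul, ← h1, one_smul, sub_self]
    rw [← hrn]
    rcases smul_eq_zero.1 h2 with h3 | h3
    · exact sub_eq_zero.1 h3
    · exact absurd h3 (b.ne_zero i)
  have hne1 : ∀ i, ev i ≠ 1 := by
    intro i h1
    apply b.ne_zero i
    apply hfix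
    rw [hb, h1, one_smul]
  exact finrank_ker_of_eigenbasis b ev t hb hinj hn0 h2K hpow hne1 (by rw [← hd, hdr, hrn])

end GES

end Cfsg.Agent.Lib.Helper20_Gross_GES
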