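import Mathlib

set_option autoImplicit false

/-!
HI market (helper76, S4563/S4564), package ABS: a normal subgroup having a subgroup of `p'`-index which acts
trivially, acts trivially on a transitive set of `p`-power size.  (helper20)
-/

namespace Cfsg.Agent.Lib.Helper20_HI_ABS

/-- **ABS** -/
theorem normal_trivial {M Ω : Type*} [Group M] [Finite M] [MulAction M Ω] [Finite Ω]
    [MulAction.IsPretransitive M Ω] (p : ℕ) (hp : p.Prime) (v : ℕ) (hΩ : Nat.card Ω = p ^ v)
    (N N₀ : Subgroup M) [N.Normal] (hle : N₀ ≤ N) (hfix : ∀ n ∈ N₀, ∀ ω : Ω, n • ω = ω)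
    (hpN : ¬ p ∣ N₀.relIndex N) : ∀ n ∈ N, ∀ ω : Ω, n • ω = ω := by
  intro n hn ω
  -- the orbit of `ω` under `N` is a block
  have hB : MulAction.IsBlock M (MulAction.orbit N ω) := MulAction.IsBlock.orbit_of_normal ω
  have hne : (MulAction.orbit N ω).Nonempty := ⟨ω, MulAction.mem_orbit_self ω⟩
  have h1 : (MulAction.orbit N ω).ncard ∣ p ^ v := by
    rw [← hΩ]
    exact hB.ncard_dvd_card hne
  have h2 : (MulAction.orbit N ω).ncard ∣ N₀.relIndex N := by
    rw [← MulAction.index_stabilizer]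
    unfold Subgroup.relIndex
    apply Subgroup.index_dvd_of_le
    intro x hx
    rw [MulAction.mem_stabilizer_iff]
    exact hfix x.1 (Subgroup.mem_subgroupOf.mp hx) ω
  have h3 : (MulAction.orbit N ω).ncard = 1 := by
    obtain ⟨k, hk, hk'⟩ := (Nat.dvd_prime_pow hp).mp h1
    rcases Nat.eq_zero_or_pos k with rfl | hkpos
    · rw [hk', pow_zero]
    · exfalso
      apply hpN
      refine dvd_trans ?_ h2
      rw [hk']
      exact dvd_pow_self p hkpos.ne'
  have h4 : (⟨n, hn⟩ : N) • ω ∈ MulAction.orbit N ω := MulAction.mem_orbit ω _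
  have h5 : ω ∈ MulAction.orbit N ω := MulAction.mem_orbit_self ω
  obtain ⟨a, ha⟩ := Set.ncard_eq_one.mp h3
  rw [ha] at h4 h5
  exact (Set.mem_singleton_iff.mp h4).trans (Set.mem_singleton_iff.mp h5).symm

end Cfsg.Agent.Lib.Helper20_HI_ABS
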