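import Mathlib
import Cfsg.Agent.Lib.Helper83_HP2Defs
import Cfsg.Agent.Lib.Helper16_Q2_BRISO

set_option autoImplicit false
set_option linter.unusedSectionVars false
set_option linter.unusedVariables false

/-!
HP2 market (helper83), package HP2-BRISO: an orthogonal decomposition into isometric hyperbolic planes is isometric to the
model `(F × F)^t` with its coordinate planes.  Port of helper16's `Helper16_Q2_BRISO`.  (helper20)
-/

namespace Cfsg.Agent.Lib.Helper20_HP2_BRISO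

open Module Cfsg.Agent.Lib.Helper94_Symp Cfsg.Agent.Lib.Helper94_OrthSmall
  Cfsg.Agent.Lib.Helper94_OrthSiegel Cfsg.Agent.Lib.Helper94_OrthNondeg
  Cfsg.Agent.Lib.Helper29_ODDefs Cfsg.Agent.Lib.Helper94_Q2Defs Cfsg.Agent.Lib.Helper83_HP2Defs
open Cfsg.Agent.Lib.Helper16_Q2_BRISO (Q_sum_orth Q_comb)

section Abs

variable {F V : Type*} [Field F] [AddCommGroup V] [Module F V]
  {Q : V → F} {B : LinearMap.BilinForm F V}

/-- A nondegenerate plane with a non-zero singular vector has a hyperbolic basis. -/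
lemma exists_hyp_iso [FiniteDimensional F V]
    (hQs : ∀ (c : F) (v : V), Q (c • v) = c * c * Q v)
    (hQp : ∀ u v : V, Q (u + v) = Q u + Q v + B u v) (P : Submodule F V)
    (hfr : finrank F P = 2) (hnd : ∀ a ∈ P, a ≠ 0 → ∃ x ∈ P, B x a ≠ 0)
    (hx : ∃ x ∈ P, x ≠ 0 ∧ Q x = 0) :
    ∃ θ : (F × F) ≃ₗ[F] P, ∀ z, Q (θ z : V) = z.1 * z.2 := by
  obtain ⟨x₀, hx₀P, hx₀0, hQx₀⟩ := hx
  obtain ⟨y₁, hy₁P, hy₁⟩ := hnd x₀ hx₀P hx₀0
  -- normalise `B y x₀ = 1`
  obtain ⟨y₂, hy₂P, hy₂⟩ : ∃ y₂ ∈ P, B y₂ x₀ = 1 := by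
    refine ⟨(B y₁ x₀)⁻¹ • y₁, P.smul_mem _ hy₁P, ?_⟩
    rw [map_smul, LinearMap.smul_apply, smul_eq_mul, inv_mul_cancel₀ hy₁]
  have hBx₀ : B x₀ x₀ = 0 := by rw [B_self Q B hQs hQp, hQx₀, mul_zero]
  -- make it singular
  obtain ⟨y₀, hy₀P, hQy₀, hBxy⟩ : ∃ y₀ ∈ P, Q y₀ = 0 ∧ B x₀ y₀ = 1 := by
    refine ⟨y₂ + (-Q y₂) • x₀, P.add_mem hy₂P (P.smul_mem _ hx₀P), ?_, ?_⟩
    · rw [hQp, hQs, hQx₀, map_smul, smul_eq_mul, hy₂]
      ring
    · rw [map_add, map_smul, hBx₀, smul_zero, add_zero, B_symm Q B hQp, hy₂]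
  have hBy₀ : B y₀ y₀ = 0 := by rw [B_self Q B hQs hQp, hQy₀, mul_zero]
  let θ₀ : (F × F) →ₗ[F] P :=
    { toFun := fun z => z.1 • (⟨x₀, hx₀P⟩ : P) + z.2 • (⟨y₀, hy₀P⟩ : P)
      map_add' := by
        intro z w
        rw [Prod.fst_add, Prod.snd_add, add_smul, add_smul]
        abel
      map_smul' := by
        intro c z
        rw [Prod.smul_fst, Prod.smul_snd, RingHom.id_apply, smul_add, smul_eq_mul, smul_eq_mul,
          mul_smul, mul_smul] }
  have hθ₀ : ∀ z, ((θ₀ z : P) : V) = z.1 • x₀ + z.2 • y₀ := fun z => rfl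
  have hθQ : ∀ z, Q (θ₀ z : V) = z.1 * z.2 := by
    intro z
    rw [hθ₀, Q_comb hQs hQp, hQx₀, hQy₀, hBxy]
    ring
  have hinj : Function.Injective θ₀ := by
    rw [← LinearMap.ker_eq_bot, LinearMap.ker_eq_bot']
    intro z hz
    have h0 : z.1 • x₀ + z.2 • y₀ = 0 := by
      rw [← hθ₀, hz, Submodule.coe_zero]
    have h1 : z.2 = 0 := by
      have := congrArg (fun v => B x₀ v) h0
      simp only [map_add, map_smul, hBx₀, hBxy, smul_eq_mul, mul_zero, mul_one, zero_add,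
        map_zero] at this
      exact this
    have h2 : z.1 = 0 := by
      have := congrArg (fun v => B v y₀) h0
      simp only [map_add, map_smul, LinearMap.add_apply, LinearMap.smul_apply, hBy₀, hBxy,
        smul_eq_mul, mul_zero, mul_one, add_zero, map_zero, LinearMap.zero_apply] at this
      exact this
    exact Prod.ext h2 h1
  have hfin : finrank F (F × F) = finrank F P := by
    rw [hfr, Module.finrank_prod, Module.finrank_self]
  have hsurj : Function.Surjective θ₀ :=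
    (LinearMap.injective_iff_surjective_of_finrank_eq_finrank hfin).mp hinj
  exact ⟨LinearEquiv.ofBijective θ₀ ⟨hinj, hsurj⟩, fun z => hθQ z⟩

/-- Gluing isometries of the model plane onto the blocks into an isometry of the model space. -/
lemma of_family (hQs : ∀ (c : F) (v : V), Q (c • v) = c * c * Q v)
    (hQp : ∀ u v : V, Q (u + v) = Q u + Q v + B u v) {t : ℕ}
    (D : Fin t → Submodule F V) (hD : ODec Q B 2 D)
    (θ : ∀ l, (F × F) ≃ₗ[F] D l)
    (hθ : ∀ l z, Q (θ l z : V) = z.1 * z.2) :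
    ∃ φ : V ≃ₗ[F] PV F t, (∀ v, pQ F t (φ v) = Q v) ∧
      ∀ l, (D l).map (φ : V →ₗ[F] PV F t) = pD F t l := by
  classical
  let ψ : PV F t →ₗ[F] V :=
    { toFun := fun z => ∑ l, (θ l (z l) : V)
      map_add' := by
        intro x y
        simp only [Pi.add_apply, map_add, Submodule.coe_add, Finset.sum_add_distrib]
      map_smul' := by
        intro c x
        simp only [Pi.smul_apply, map_smul, Submodule.coe_smul, Finset.smul_sum,
          RingHom.id_apply] }
  have hψ : ∀ z, ψ z = ∑ l, (θ l (z l) : V) := fun z => rfl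
  have hψQ : ∀ z, Q (ψ z) = pQ F t z := by
    intro z
    rw [hψ, Q_sum_orth hQs hQp, pQ_apply]
    · exact Finset.sum_congr rfl (fun l _ => hθ l (z l))
    · intro i _ j _ hij
      exact hD.orth i j hij _ (θ i (z i)).2 _ (θ j (z j)).2
  have hψs : ∀ l (ζ : F × F), ψ (Pi.single l ζ) = (θ l ζ : V) := by
    intro l ζ
    rw [hψ, Finset.sum_eq_single l]
    · rw [Pi.single_eq_same]
    · intro k _ hk
      rw [Pi.single_eq_of_ne hk, map_zero, Submodule.coe_zero]
    · intro h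
      exact absurd (Finset.mem_univ l) h
  have hinj : Function.Injective ψ := by
    rw [← LinearMap.ker_eq_bot, LinearMap.ker_eq_bot']
    intro z hz
    funext l
    have h1 : ∀ d ∈ D l, B d (θ l (z l) : V) = 0 := by
      intro d hd
      have h2 : B d (ψ z) = B d (θ l (z l) : V) := by
        rw [hψ, map_sum, Finset.sum_eq_single l]
        · intro k _ hk
          exact hD.orth l k (Ne.symm hk) d hd _ (θ k (z k)).2
        · intro h
          exact absurd (Finset.mem_univ l) h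
      rw [← h2, hz, map_zero]
    have h3 : (θ l (z l) : V) = 0 := by
      by_contra hne
      obtain ⟨d, hd, hdn⟩ := hD.nd l _ (θ l (z l)).2 hne
      exact hdn (h1 d hd)
    have h4 : θ l (z l) = 0 := Subtype.ext h3
    rw [Pi.zero_apply]
    exact (θ l).injective (h4.trans (map_zero (θ l)).symm)
  have hsurj : Function.Surjective ψ := by
    rw [← LinearMap.range_eq_top, eq_top_iff, ← hD.sup]
    apply iSup_le
    intro l d hd
    refine ⟨Pi.single l ((θ l).symm ⟨d, hd⟩), ?_⟩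
    rw [hψs, LinearEquiv.apply_symm_apply]
  let Ψ : PV F t ≃ₗ[F] V := LinearEquiv.ofBijective ψ ⟨hinj, hsurj⟩
  have hΨ : ∀ z, Ψ z = ψ z := fun z => rfl
  refine ⟨Ψ.symm, ?_, ?_⟩
  · intro v
    rw [← hψQ, ← hΨ, LinearEquiv.apply_symm_apply]
  · intro l
    ext z
    rw [Submodule.mem_map]
    constructor
    · rintro ⟨v, hv, rfl⟩
      have h1 : Ψ (Pi.single l ((θ l).symm ⟨v, hv⟩)) = v := by
        rw [hΨ, hψs, LinearEquiv.apply_symm_apply]
      have h2 : Ψ.symm v = Pi.single l ((θ l).symm ⟨v, hv⟩) := by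
        rw [LinearEquiv.symm_apply_eq]
        exact h1.symm
      show Ψ.symm v ∈ pD F t l
      rw [h2]
      intro k hk
      exact Pi.single_eq_of_ne hk _
    · intro hz
      refine ⟨Ψ z, ?_, ?_⟩
      · have h1 : z = Pi.single l (z l) := by
          funext k
          by_cases hk : k = l
          · rw [hk, Pi.single_eq_same]
          · rw [Pi.single_eq_of_ne hk, hz k hk]
        rw [h1, hΨ, hψs]
        exact (θ l _).2
      · show Ψ.symm (Ψ z) = z
        rw [LinearEquiv.symm_apply_apply]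

end Abs

/-- **HP2-BRISO** -/
theorem BRISO {F V : Type*} [Field F] [AddCommGroup V] [Module F V] [Finite F]
    [FiniteDimensional F V] {Q : V → F} {B : LinearMap.BilinForm F V}
    (hQs : ∀ (c : F) (v : V), Q (c • v) = c * c * Q v)
    (hQp : ∀ u v : V, Q (u + v) = Q u + Q v + B u v)
    {t : ℕ} (ht : 0 < t) (D : Fin t → Submodule F V) (hD : ODec Q B 2 D)
    (hhyp : ∀ i, ∃ x ∈ D i, x ≠ 0 ∧ Q x = 0) :
    ∃ φ : V ≃ₗ[F] PV F t, (∀ v, pQ F t (φ v) = Q v) ∧
      ∀ l, (D l).map (φ : V →ₗ[F] PV F t) = pD F t l := by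
  obtain ⟨θ, hθ⟩ :=
    exists_hyp_iso hQs hQp (D ⟨0, ht⟩) (hD.fr ⟨0, ht⟩) (hD.nd ⟨0, ht⟩) (hhyp ⟨0, ht⟩)
  choose e he using fun l => hD.iso ⟨0, ht⟩ l
  exact of_family hQs hQp D hD (fun l => θ ≪≫ₗ e l) (fun l z => by
    rw [LinearEquiv.trans_apply, he l, hθ])

end Cfsg.Agent.Lib.Helper20_HP2_BRISO
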