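import Mathlib
import Cfsg.Agent.Lib.Helper83_HP2Defs

set_option autoImplicit false
set_option linter.unusedSectionVars false
set_option linter.unusedVariables false

/-!
HP2 market (helper83), package HP2-BASIC: five small lemmas on the model `PV F t`
(hyperbolic planes).  (helper43)
-/

namespace Cfsg.Agent.Lib.Helper43_HP2_BASIC

open Module Cfsg.Agent.Lib.Helper94_Symp Cfsg.Agent.Lib.Helper94_OrthSmall
  Cfsg.Agent.Lib.Helper94_OrthSiegel Cfsg.Agent.Lib.Helper94_OrthNondeg
  Cfsg.Agent.Lib.Helper29_ODDefs Cfsg.Agent.Lib.Helper94_Q2Defs Cfsg.Agent.Lib.Helper83_HP2Defs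

variable {F : Type*} [Field F] [Finite F] {t : ℕ} {S M L : Subgroup (PV F t ≃ₗ[F] PV F t)}

/-- **HP2-BASIC** [M] (five small lemmas, one file, theorem names as below) -/
theorem pQ_of_mem {l : Fin t} {x : PV F t} (hx : x ∈ pD F t l) :
    pQ F t x = (x l).1 * (x l).2 := by
  rw [pQ_apply]
  refine Finset.sum_eq_single l ?_ ?_
  · intro j _ hj
    rw [hx j hj]
    simp
  · intro h
    exact absurd (Finset.mem_univ l) h

theorem pB_of_mem {l : Fin t} {x : PV F t} (hx : x ∈ pD F t l) (y : PV F t) :
    pB F t y x = (y l).1 * (x l).2 + (y l).2 * (x l).1 := by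
  rw [pB_apply]
  refine Finset.sum_eq_single l ?_ ?_
  · intro j _ hj
    rw [hx j hj]
    simp
  · intro h
    exact absurd (Finset.mem_univ l) h

theorem single_mem (l : Fin t) (ζ : F × F) : (Pi.single l ζ : PV F t) ∈ pD F t l := by
  intro j hj
  simp [hj]

theorem eq_single_of_mem {l : Fin t} {x : PV F t} (hx : x ∈ pD F t l) :
    x = Pi.single l (x l) := by
  funext j
  by_cases hj : j = l
  · subst hj
    rw [Pi.single_eq_same]
  · rw [Pi.single_eq_of_ne hj, hx j hj]

/-- the coordinates of a vector are its inner products with the singular basis vectors -/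
theorem coord_eq (x : PV F t) (l : Fin t) : x l = (pB F t x (pf l), pB F t x (pe l)) := by
  have h1 : pB F t x (pf l) = (x l).1 := by
    have hm : (pf l : PV F t) ∈ pD F t l := single_mem l ((0 : F), (1 : F))
    rw [pB_of_mem hm x]
    unfold pf
    rw [Pi.single_eq_same]
    simp
  have h2 : pB F t x (pe l) = (x l).2 := by
    have hm : (pe l : PV F t) ∈ pD F t l := single_mem l ((1 : F), (0 : F))
    rw [pB_of_mem hm x]
    unfold pe
    rw [Pi.single_eq_same]
    simp
  rw [h1, h2]

end Cfsg.Agent.Lib.Helper43_HP2_BASIC
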