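import Mathlib
import Cfsg.Prelude.Def_TwoFusion

set_option autoImplicit false

namespace Cfsg.Agent.Lib.Helper20_Isolated

variable {G : Type*} [Group G]

theorem inv_eq_self_of_sq {z : G} (h : z * z = 1) : z⁻¹ = z := inv_eq_of_mul_eq_one_left h

theorem sq_of_orderOf_two {z : G} (h : orderOf z = 2) : z * z = 1 := by
  have := pow_orderOf_eq_one z
  rwa [h, pow_two] at this

/-- An involution `a` inverts `a * b` when `b` is an involution. -/
theorem conj_mul_invol {a b : G} (ha : a * a = 1) (hb : b * b = 1) :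
    a * (a * b) * a⁻¹ = (a * b)⁻¹ := by
  rw [inv_eq_self_of_sq ha, mul_inv_rev, inv_eq_self_of_sq ha, inv_eq_self_of_sq hb,
    ← mul_assoc, ha, one_mul]

theorem conj_pow_invol {a b : G} (ha : a * a = 1) (hb : b * b = 1) (n : ℕ) :
    a * (a * b) ^ n * a⁻¹ = ((a * b) ^ n)⁻¹ := by
  rw [← conj_pow, conj_mul_invol ha hb, inv_pow]

/-- `a * (r^n)⁻¹ = r^n * a` for `r = a * b`. -/
theorem invol_mul_pow_inv {a b : G} (ha : a * a = 1) (hb : b * b = 1) (n : ℕ) :
    a * ((a * b) ^ n)⁻¹ = (a * b) ^ n * a := by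
  have h := conj_pow_invol ha hb n
  have h2 : a * (a * b) ^ n = ((a * b) ^ n)⁻¹ * a := by
    have := congrArg (fun x => x * a) h
    simpa [mul_assoc] using this
  have h3 : (a * b) ^ n * (a * ((a * b) ^ n)⁻¹) = (a * b) ^ n * ((a * b) ^ n * a) →
      a * ((a * b) ^ n)⁻¹ = (a * b) ^ n * a := mul_left_cancel
  -- direct: multiply h2 on both sides
  calc a * ((a * b) ^ n)⁻¹ = (a * b) ^ n * (((a * b) ^ n)⁻¹ * a) * ((a * b) ^ n)⁻¹ := by group
    _ = (a * b) ^ n * (a * (a * b) ^ n) * ((a * b) ^ n)⁻¹ := by rw [h2]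
    _ = (a * b) ^ n * a := by group

theorem conj_by_pow {a b : G} (ha : a * a = 1) (hb : b * b = 1) (n : ℕ) :
    (a * b) ^ n * a * ((a * b) ^ n)⁻¹ = (a * b) ^ (2 * n) * a := by
  rw [mul_assoc, invol_mul_pow_inv ha hb, ← mul_assoc, ← pow_add, two_mul]

/-- odd case: `(ab)^(2l+1) * a` is a conjugate of `b`. -/
theorem conj_by_pow_odd {a b : G} (ha : a * a = 1) (hb : b * b = 1) (l : ℕ) :
    ((a * b) ^ l * a) * b * ((a * b) ^ l * a)⁻¹ = (a * b) ^ (2 * l + 1) * a := by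
  have hai := inv_eq_self_of_sq ha
  rw [mul_inv_rev, hai]
  calc (a * b) ^ l * a * b * (a * ((a * b) ^ l)⁻¹)
      = (a * b) ^ l * (a * b) * (a * ((a * b) ^ l)⁻¹) := by simp only [mul_assoc]
    _ = (a * b) ^ l * (a * b) * ((a * b) ^ l * a) := by rw [invol_mul_pow_inv ha hb]
    _ = (a * b) ^ (2 * l + 1) * a := by
        rw [← pow_succ, ← mul_assoc, ← pow_add]; congr 2; omega

theorem conj_sq {g z : G} (hz : z * z = 1) : (g * z * g⁻¹) * (g * z * g⁻¹) = 1 := by
  have : (g * z * g⁻¹) * (g * z * g⁻¹) = g * (z * z) * g⁻¹ := by group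
  rw [this, hz]; group

theorem isolated_conj {z : G} (hz : Cfsg.IsIsolatedInvolution z) (g : G) :
    Cfsg.IsIsolatedInvolution (g * z * g⁻¹) := by
  refine ⟨?_, ?_⟩
  · have : g * z * g⁻¹ = MulAut.conj g z := by simp [MulAut.conj_apply]
    rw [this, MulEquiv.orderOf_eq]; exact hz.1
  · intro h hc
    have h1 : Commute z ((g⁻¹ * h * g) * z * (g⁻¹ * h * g)⁻¹) := by
      have e1 : (g⁻¹ * h * g) * z * (g⁻¹ * h * g)⁻¹ = g⁻¹ * (h * (g * z * g⁻¹) * h⁻¹) * g := by
        group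
      have e2 : z = g⁻¹ * (g * z * g⁻¹) * g := by group
      rw [e1]
      nth_rewrite 1 [e2]
      unfold Commute SemiconjBy at hc ⊢
      calc g⁻¹ * (g * z * g⁻¹) * g * (g⁻¹ * (h * (g * z * g⁻¹) * h⁻¹) * g)
          = g⁻¹ * ((g * z * g⁻¹) * (h * (g * z * g⁻¹) * h⁻¹)) * g := by group
        _ = g⁻¹ * ((h * (g * z * g⁻¹) * h⁻¹) * (g * z * g⁻¹)) * g := by rw [hc]
        _ = _ := by group
    have h2 := hz.2 _ h1
    calc h * (g * z * g⁻¹) * h⁻¹ = g * ((g⁻¹ * h * g) * z * (g⁻¹ * h * g)⁻¹) * g⁻¹ := by group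
      _ = g * z * g⁻¹ := by rw [h2]

/-- Two conjugates `z`, `g z g⁻¹` of an isolated involution have a product of odd order. -/
theorem odd_orderOf_mul_conj [Finite G] {z : G} (hz : Cfsg.IsIsolatedInvolution z) (g : G) :
    Odd (orderOf (z * (g * z * g⁻¹))) := by
  have hzz := sq_of_orderOf_two hz.1
  have hz'z' : (g * z * g⁻¹) * (g * z * g⁻¹) = 1 := conj_sq hzz
  set z' := g * z * g⁻¹ with hz'
  set r := z * z' with hr
  rcases Nat.even_or_odd (orderOf r) with he | ho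
  swap
  · exact ho
  exfalso
  obtain ⟨k, hk⟩ := he
  have hpos : 0 < orderOf r := orderOf_pos r
  have hk0 : k ≠ 0 := by omega
  have hw1 : r ^ k ≠ 1 := pow_ne_one_of_lt_orderOf hk0 (by omega)
  have hww : r ^ k * r ^ k = 1 := by rw [← pow_add, ← hk, pow_orderOf_eq_one]
  have hwinv : (r ^ k)⁻¹ = r ^ k := inv_eq_self_of_sq hww
  -- z commutes with r^k * z
  have hcomm : Commute z (r ^ k * z) := by
    unfold Commute SemiconjBy
    have h1 := invol_mul_pow_inv hzz hz'z' k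
    rw [hwinv] at h1
    rw [← mul_assoc, h1]
  have key : r ^ k * z = z := by
    rcases Nat.even_or_odd' k with ⟨l, hl | hl⟩
    · have h1 := conj_by_pow hzz hz'z' l
      rw [← hl] at h1
      rw [← h1] at hcomm ⊢
      exact hz.2 _ hcomm
    · have h1 := conj_by_pow_odd hzz hz'z' l
      rw [← hl] at h1
      have h2 : (r ^ l * z) * z' * (r ^ l * z)⁻¹ = (r ^ l * z * g) * z * (r ^ l * z * g)⁻¹ := by
        rw [hz']; group
      rw [h2] at h1
      rw [← h1] at hcomm ⊢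
      exact hz.2 _ hcomm
  apply hw1
  have := congrArg (fun x => x * z⁻¹) key
  simpa using this

/-- If `z` is isolated and `z' = g z g⁻¹`, there is an explicit element of `⟨z, z'⟩` conjugating
`z` to `z'`, namely a power of `z * z'`. -/
theorem exists_pow_conj [Finite G] {z : G} (hz : Cfsg.IsIsolatedInvolution z) (g : G) :
    ∃ l : ℕ, (z * (g * z * g⁻¹)) ^ l * z * ((z * (g * z * g⁻¹)) ^ l)⁻¹ = g * z * g⁻¹ := by
  have hzz := sq_of_orderOf_two hz.1
  have hz'z' : (g * z * g⁻¹) * (g * z * g⁻¹) = 1 := conj_sq hzz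
  obtain ⟨l, hl⟩ := odd_orderOf_mul_conj hz g
  refine ⟨l, ?_⟩
  rw [conj_by_pow hzz hz'z']
  set z' := g * z * g⁻¹
  have h1 : (z * z') ^ (2 * l + 1) = 1 := by rw [← hl, pow_orderOf_eq_one]
  have h2 : (z * z') ^ (2 * l) = (z * z')⁻¹ := by
    rw [pow_succ] at h1
    exact eq_inv_of_mul_eq_one_left h1
  rw [h2, mul_inv_rev, inv_eq_self_of_sq hzz, inv_eq_self_of_sq hz'z', mul_assoc, hzz, mul_one]

/-- fusion of an isolated involution is controlled by any subgroup containing it. -/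
theorem conj_in_subgroup [Finite G] {z : G} (hz : Cfsg.IsIsolatedInvolution z) (H : Subgroup G)
    (hzH : z ∈ H) (g : G) (hg : g * z * g⁻¹ ∈ H) : ∃ h ∈ H, h * z * h⁻¹ = g * z * g⁻¹ := by
  obtain ⟨l, hl⟩ := exists_pow_conj hz g
  exact ⟨_, H.pow_mem (H.mul_mem hzH hg) l, hl⟩

theorem pow_eq_of_sq_eq {a b : G} (ha : Odd (orderOf a)) (hb : Odd (orderOf b))
    (h : a ^ 2 = b ^ 2) : a = b := by
  have h1 : orderOf (a ^ 2) = orderOf a := Nat.Coprime.orderOf_pow ha.coprime_two_right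
  have h2 : orderOf (b ^ 2) = orderOf b := Nat.Coprime.orderOf_pow hb.coprime_two_right
  have h3 : orderOf a = orderOf b := by rw [← h1, ← h2, h]
  obtain ⟨j, hj⟩ := ha
  have ea : a = (a ^ 2) ^ (j + 1) := by
    rw [← pow_mul]
    have : 2 * (j + 1) = orderOf a + 1 := by omega
    rw [this, pow_succ, pow_orderOf_eq_one, one_mul]
  have eb : b = (b ^ 2) ^ (j + 1) := by
    rw [← pow_mul]
    have : 2 * (j + 1) = orderOf b + 1 := by omega
    rw [this, pow_succ, pow_orderOf_eq_one, one_mul]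
  rw [ea, eb, h]

end Cfsg.Agent.Lib.Helper20_Isolated
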