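import Mathlib
import Cfsg.Agent.S0660
import Cfsg.Agent.Lib.Helper63_Maschke
import Cfsg.Agent.Lib.Helper20_AbelFourier

set_option autoImplicit false

namespace Cfsg.Agent.Lib.Helper20_KnorrWeight

open Cfsg.Agent.Lib.Helper20_AbelFourier

universe u v

section general

variable {W : Type v} [CommGroup W]

theorem card_sup_of_disjoint (H K : Subgroup W) (h : H ⊓ K = ⊥) :
    Nat.card ↥(H ⊔ K) = Nat.card H * Nat.card K := by
  rw [← Nat.card_prod]
  symm
  apply Nat.card_congr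
  refine Equiv.ofBijective
    (fun hk : H × K => (⟨(hk.1 : W) * hk.2, Subgroup.mul_mem_sup hk.1.2 hk.2.2⟩ : ↥(H ⊔ K)))
    ⟨?_, ?_⟩
  · rintro ⟨a, b⟩ ⟨a', b'⟩ hab
    have hab' : (a : W) * b = a' * b' := congrArg Subtype.val hab
    have h1 : (a' : W)⁻¹ * a = b' * (b : W)⁻¹ := by
      rw [inv_mul_eq_iff_eq_mul, ← mul_assoc, ← hab', mul_assoc, mul_inv_cancel, mul_one]
    have h2 : (a' : W)⁻¹ * a ∈ H ⊓ K :=
      ⟨H.mul_mem (H.inv_mem a'.2) a.2, h1 ▸ K.mul_mem b'.2 (K.inv_mem b.2)⟩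
    rw [h, Subgroup.mem_bot] at h2
    have ha : (a : W) = a' := by
      rw [inv_mul_eq_one] at h2
      exact h2.symm
    have hb : (b : W) = b' := by
      rw [ha] at hab'
      exact mul_left_cancel hab'
    exact Prod.ext (Subtype.ext ha) (Subtype.ext hb)
  · rintro ⟨x, hx⟩
    obtain ⟨a, ha, b, hb, rfl⟩ := Subgroup.mem_sup.mp hx
    exact ⟨(⟨a, ha⟩, ⟨b, hb⟩), rfl⟩

end general

section action

variable (Cg : Type u) [CommGroup Cg] {W : Type v} [CommGroup W] [MulDistribMulAction Cg W]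

/-- `Cg`-invariant subgroups -/
def Invariant (U : Subgroup W) : Prop := ∀ c : Cg, ∀ u ∈ U, c • u ∈ U

variable {Cg}

/-- fixed points of `c` -/
def fixSub (c : Cg) : Subgroup W where
  carrier := {w | c • w = w}
  one_mem' := smul_one c
  mul_mem' := by
    intro a b ha hb
    show c • (a * b) = a * b
    rw [smul_mul', ha, hb]
  inv_mem' := by
    intro a ha
    show c • a⁻¹ = a⁻¹
    rw [smul_inv', ha]

theorem mem_fixSub {c : Cg} {w : W} : w ∈ fixSub c ↔ c • w = w := Iff.rfl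

/-- the kernel of the action on `U` -/
def kerOn (U : Subgroup W) : Subgroup Cg where
  carrier := {c | ∀ u ∈ U, c • u = u}
  one_mem' := fun u _ => one_smul _ u
  mul_mem' := by
    intro a b ha hb u hu
    rw [mul_smul, hb u hu, ha u hu]
  inv_mem' := by
    intro a ha u hu
    rw [inv_smul_eq_iff, ha u hu]

theorem mem_kerOn {U : Subgroup W} {c : Cg} : c ∈ kerOn U ↔ ∀ u ∈ U, c • u = u := Iff.rfl

theorem mem_kerOn_iff_le {U : Subgroup W} {c : Cg} : c ∈ kerOn U ↔ U ≤ fixSub c := Iff.rfl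

theorem kerOn_sup (U U1 : Subgroup W) : kerOn (Cg := Cg) (U ⊔ U1) = kerOn U ⊓ kerOn U1 := by
  ext c
  rw [Subgroup.mem_inf, mem_kerOn_iff_le, mem_kerOn_iff_le, mem_kerOn_iff_le, sup_le_iff]

theorem invariant_inf_fixSub {U : Subgroup W} (hU : Invariant Cg U) (c : Cg) :
    Invariant Cg (U ⊓ fixSub c) := by
  intro c' u hu
  refine ⟨hU c' u hu.1, ?_⟩
  show c • c' • u = c' • u
  rw [← mul_smul, mul_comm, mul_smul, mem_fixSub.mp hu.2]

theorem invariant_sup {U U1 : Subgroup W} (hU : Invariant Cg U) (hU1 : Invariant Cg U1) :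
    Invariant Cg (U ⊔ U1) := by
  intro c x hx
  obtain ⟨a, ha, b, hb, rfl⟩ := Subgroup.mem_sup.mp hx
  rw [smul_mul']
  exact Subgroup.mul_mem_sup (hU c a ha) (hU1 c b hb)

theorem invariant_bot : Invariant Cg (⊥ : Subgroup W) := by
  intro c u hu
  rw [Subgroup.mem_bot] at hu ⊢
  rw [hu, smul_one]

/-- the weight `|U : C_U(c)|` -/
noncomputable def wt (U : Subgroup W) (c : Cg) : ℝ :=
  (Nat.card U : ℝ) / (Nat.card ↥(U ⊓ fixSub c) : ℝ)

theorem sup_inf_fixSub {U U1 : Subgroup W} (hU : Invariant Cg U) (hU1 : Invariant Cg U1)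
    (hd : U ⊓ U1 = ⊥) (c : Cg) :
    (U ⊔ U1) ⊓ fixSub c = (U ⊓ fixSub c) ⊔ (U1 ⊓ fixSub c) := by
  apply le_antisymm
  · rintro x ⟨hx, hxc⟩
    obtain ⟨a, ha, b, hb, rfl⟩ := Subgroup.mem_sup.mp hx
    have h1 : c • a * c • b = a * b := by
      rw [← smul_mul']; exact hxc
    have h2 : a⁻¹ * c • a = b * (c • b)⁻¹ := by
      rw [inv_mul_eq_iff_eq_mul, ← mul_assoc, ← h1, mul_assoc, mul_inv_cancel, mul_one]
    have h3 : a⁻¹ * c • a ∈ U ⊓ U1 :=
      ⟨U.mul_mem (U.inv_mem ha) (hU c a ha), h2 ▸ U1.mul_mem hb (U1.inv_mem (hU1 c b hb))⟩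
    rw [hd, Subgroup.mem_bot] at h3
    have h4 : c • a = a := by
      rw [inv_mul_eq_one] at h3
      exact h3.symm
    have h5 : c • b = b := by
      rw [h4] at h1
      exact mul_left_cancel h1
    exact Subgroup.mul_mem_sup ⟨ha, h4⟩ ⟨hb, h5⟩
  · exact sup_le (inf_le_inf le_sup_left le_rfl) (inf_le_inf le_sup_right le_rfl)

theorem wt_sup [Finite W] {U U1 : Subgroup W} (hU : Invariant Cg U) (hU1 : Invariant Cg U1)
    (hd : U ⊓ U1 = ⊥) (c : Cg) : wt (U ⊔ U1) c = wt U c * wt U1 c := by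
  unfold wt
  rw [sup_inf_fixSub hU hU1 hd c, card_sup_of_disjoint U U1 hd,
    card_sup_of_disjoint (U ⊓ fixSub c) (U1 ⊓ fixSub c)]
  · push_cast
    rw [mul_div_mul_comm]
  · rw [eq_bot_iff, ← hd]
    exact inf_le_inf inf_le_left inf_le_left

end action

section minimal

variable {Cg : Type u} [CommGroup Cg] {W : Type v} [CommGroup W] [MulDistribMulAction Cg W]

/-- minimal nontrivial invariant subgroups -/
def IsMinInv (U1 : Subgroup W) : Prop :=
  Minimal (fun U : Subgroup W => Invariant Cg U ∧ U ≠ ⊥) U1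

theorem IsMinInv.inf_fixSub {U1 : Subgroup W} (h : IsMinInv (Cg := Cg) U1) (c : Cg) :
    U1 ⊓ fixSub c = ⊥ ∨ c ∈ kerOn U1 := by
  by_cases hb : U1 ⊓ fixSub c = ⊥
  · exact Or.inl hb
  · right
    have := h.2 ⟨invariant_inf_fixSub h.1.1 c, hb⟩ inf_le_left
    rw [mem_kerOn_iff_le]
    exact this.trans inf_le_right

theorem IsMinInv.wt_of_mem [Finite W] {U1 : Subgroup W} {c : Cg}
    (hc : c ∈ kerOn U1) : wt U1 c = 1 := by
  unfold wt
  have : U1 ⊓ fixSub c = U1 := inf_eq_left.mpr (mem_kerOn_iff_le.mp hc)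
  rw [this]
  have : (Nat.card U1 : ℝ) ≠ 0 := by
    exact_mod_cast Nat.card_pos.ne'
  exact div_self this

theorem IsMinInv.wt_of_not_mem {U1 : Subgroup W} (h : IsMinInv (Cg := Cg) U1) {c : Cg}
    (hc : c ∉ kerOn U1) : wt U1 c = Nat.card U1 := by
  unfold wt
  have : U1 ⊓ fixSub c = ⊥ := (h.inf_fixSub c).resolve_right hc
  rw [this]
  simp

theorem IsMinInv.card_ge [Finite Cg] [Finite W] {U1 : Subgroup W} (h : IsMinInv (Cg := Cg) U1) :
    (kerOn (Cg := Cg) U1).index + 1 ≤ Nat.card U1 := by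
  obtain ⟨u, hu1⟩ := (Subgroup.ne_bot_iff_exists_ne_one.mp h.1.2)
  have hu1' : (u : W) ≠ 1 := fun h0 => hu1 (Subtype.ext h0)
  set K := kerOn (Cg := Cg) U1 with hK
  let g : Option (Cg ⧸ K) → ↥U1 := fun o =>
    match o with
    | none => 1
    | some q => ⟨q.out • (u : W), h.1.1 q.out u u.2⟩
  have hg : Function.Injective g := by
    intro o o' hoo
    match o, o' with
    | none, none => rfl
    | none, some q =>
      exfalso
      have h1 : (1 : W) = q.out • (u : W) := congrArg Subtype.val hoo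
      apply hu1'
      have : (u : W) = q.out⁻¹ • (1 : W) := by rw [h1, inv_smul_smul]
      rw [this, smul_one]
    | some q, none =>
      exfalso
      have h1 : q.out • (u : W) = (1 : W) := congrArg Subtype.val hoo
      apply hu1'
      have : (u : W) = q.out⁻¹ • (1 : W) := by rw [← h1, inv_smul_smul]
      rw [this, smul_one]
    | some q, some q' =>
      have h1 : q.out • (u : W) = q'.out • (u : W) := congrArg Subtype.val hoo
      have h2 : (q'.out⁻¹ * q.out) • (u : W) = u := by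
        rw [mul_smul, h1, inv_smul_smul]
      have h3 : q'.out⁻¹ * q.out ∈ K := by
        rcases h.inf_fixSub (q'.out⁻¹ * q.out) with hb | hk
        · exfalso
          have : (u : W) ∈ U1 ⊓ fixSub (q'.out⁻¹ * q.out) := ⟨u.2, h2⟩
          rw [hb, Subgroup.mem_bot] at this
          exact hu1' this
        · exact hk
      have h4 : (q'.out : Cg ⧸ K) = (q.out : Cg ⧸ K) := QuotientGroup.eq.mpr h3
      rw [QuotientGroup.out_eq', QuotientGroup.out_eq'] at h4
      rw [h4]
  have := Nat.card_le_card_of_injective g hg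
  rwa [Finite.card_option, ← Subgroup.index_eq_card] at this

end minimal

section main

variable {Cg : Type u} [CommGroup Cg] [Fintype Cg] {W : Type v} [CommGroup W] [Finite W]
  [MulDistribMulAction Cg W]

theorem exists_inv_compl (p : ℕ) [Fact p.Prime] (hexp : ∀ w : W, w ^ p = 1)
    (hcop : (Nat.card Cg).Coprime p) {U : Subgroup W} (hU : Invariant Cg U) :
    ∃ U' : Subgroup W, Invariant Cg U' ∧ U ⊓ U' = ⊥ ∧ U ⊔ U' = ⊤ := by
  obtain ⟨L, -, -, hLN, hsup⟩ := Cfsg.Agent.Lib.Helper63_Maschke.exists_rel_compl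
    (Fact.out : p.Prime) (Y := (⊥ : Subgroup W)) (N := U) (M := ⊤) bot_le
    (fun m _ => by rw [Subgroup.mem_bot]; exact hexp m)
  have hW : IsPGroup p W := by
    intro w
    exact ⟨1, by rw [pow_one]; exact hexp w⟩
  obtain ⟨n, hn⟩ := hW.exists_card_eq
  have hcop' : (Nat.card Cg).Coprime (Nat.card W) := by
    rw [hn]
    exact Nat.Coprime.pow_right n hcop
  exact Cfsg.Agent.S0660.maschke_abstract (A := Cg) (M := W) hcop' U L hU
    (by rw [inf_comm]; exact le_bot_iff.mp hLN) (by rw [sup_comm]; exact top_le_iff.mp hsup)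

/-- the data carried along the induction -/
structure WData (U : Subgroup W) : Type (max (u + 1) v) where
  D : Type u
  [grp : AddCommGroup D]
  [fin : Fintype D]
  ω : D → ℝ
  φ : Additive Cg →+ D
  nonneg : ∀ d, 0 ≤ ω d
  ki : KI ω
  ker : ∀ c : Cg, φ (Additive.ofMul c) = 0 ↔ c ∈ kerOn U
  le : ∀ c : Cg, ω (φ (Additive.ofMul c)) ≤ wt U c

attribute [instance] WData.grp WData.fin

theorem wdata_bot : Nonempty (WData (Cg := Cg) (⊥ : Subgroup W)) := by
  refine ⟨{ D := PUnit.{u + 1}, ω := fun _ => 1, φ := 0, nonneg := fun _ => zero_le_one,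
            ki := KI_base, ker := ?_, le := ?_ }⟩
  · intro c
    simp only [AddMonoidHom.zero_apply, true_iff]
    intro u hu
    rw [Subgroup.mem_bot] at hu
    rw [hu, smul_one]
  · intro c
    unfold wt
    simp

theorem wdata_step {U U1 : Subgroup W} (hU : Invariant Cg U) (hmin : IsMinInv (Cg := Cg) U1)
    (hd : U ⊓ U1 = ⊥) (d : WData (Cg := Cg) U) : Nonempty (WData (Cg := Cg) (U ⊔ U1)) := by
  classical
  set K := kerOn (Cg := Cg) U1 with hK
  letI : Fintype (Additive (Cg ⧸ K)) := Fintype.ofFinite _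
  set q : ℝ := (K.index : ℝ) + 1 with hq
  have hcardZ : Fintype.card (Additive (Cg ⧸ K)) = K.index := by
    rw [← Nat.card_eq_fintype_card, Subgroup.index_eq_card]
    rfl
  let mkA : Additive Cg →+ Additive (Cg ⧸ K) := MonoidHom.toAdditive (QuotientGroup.mk' K)
  have hmk : ∀ c : Cg, mkA (Additive.ofMul c) = 0 ↔ c ∈ K := by
    intro c
    show Additive.ofMul (QuotientGroup.mk' K c) = 0 ↔ c ∈ K
    rw [← ofMul_one, Additive.ofMul.apply_eq_iff_eq]
    exact QuotientGroup.eq_one_iff c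
  refine ⟨{ D := d.D × Additive (Cg ⧸ K), ω := prodWeight d.ω q, φ := d.φ.prod mkA,
            nonneg := prodWeight_nonneg d.ω d.nonneg q (by positivity),
            ki := KI_prod d.ω d.nonneg d.ki q (by rw [hcardZ]),
            ker := ?_, le := ?_ }⟩
  · intro c
    rw [kerOn_sup, Subgroup.mem_inf, ← d.ker c, ← hmk c]
    simp [Prod.ext_iff]
  · intro c
    rw [wt_sup hU hmin.1.1 hd c]
    show prodWeight d.ω q (d.φ (Additive.ofMul c), mkA (Additive.ofMul c)) ≤ _
    have hwU : 0 ≤ wt U c := by unfold wt; positivity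
    by_cases hc : c ∈ K
    · rw [(hmk c).mpr hc, prodWeight_zero, IsMinInv.wt_of_mem hc, mul_one]
      exact d.le c
    · have hne : mkA (Additive.ofMul c) ≠ 0 := fun h0 => hc ((hmk c).mp h0)
      rw [prodWeight_ne _ _ _ hne, hmin.wt_of_not_mem hc]
      have h1 : q ≤ (Nat.card U1 : ℝ) := by
        rw [hq]
        exact_mod_cast hmin.card_ge
      exact mul_le_mul (d.le c) h1 (by positivity) hwU

theorem wdata_top (p : ℕ) [Fact p.Prime] (hexp : ∀ w : W, w ^ p = 1)
    (hcop : (Nat.card Cg).Coprime p) : Nonempty (WData (Cg := Cg) (⊤ : Subgroup W)) := by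
  obtain ⟨U, -, hmax⟩ := Finite.exists_le_maximal
    (p := fun U : Subgroup W => Invariant Cg U ∧ Nonempty (WData (Cg := Cg) U)) (a := ⊥)
    ⟨invariant_bot, wdata_bot⟩
  obtain ⟨hU, ⟨d⟩⟩ := hmax.1
  by_cases htop : U = ⊤
  · rw [← htop]; exact ⟨d⟩
  · exfalso
    obtain ⟨U', hU', hinf, hsup⟩ := exists_inv_compl p hexp hcop hU
    have hU'ne : U' ≠ ⊥ := by
      intro h
      apply htop
      rw [← hsup, h, sup_bot_eq]
    obtain ⟨U1, hU1le, hmin⟩ := Finite.exists_le_minimal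
      (p := fun U : Subgroup W => Invariant Cg U ∧ U ≠ ⊥) (a := U') ⟨hU', hU'ne⟩
    have hd : U ⊓ U1 = ⊥ := by
      rw [eq_bot_iff, ← hinf]
      exact inf_le_inf le_rfl hU1le
    have hnew := wdata_step hU hmin hd d
    have hle : U ⊔ U1 ≤ U := hmax.2 ⟨invariant_sup hU hmin.1.1, hnew⟩ le_sup_left
    have hU1U : U1 ≤ U := le_sup_right.trans hle
    apply hmin.1.2
    rw [eq_bot_iff, ← hd]
    exact le_inf hU1U le_rfl

/-- **Key inequality** for a faithful coprime action of an abelian group `Cg` on an elementary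
abelian `p`-group `W`. -/
theorem knorr_weight (p : ℕ) [Fact p.Prime] (hexp : ∀ w : W, w ^ p = 1)
    (hcop : (Nat.card Cg).Coprime p) (hfaith : ∀ c : Cg, (∀ w : W, c • w = w) → c = 1) :
    KI (fun c : Additive Cg => wt (⊤ : Subgroup W) (Additive.toMul c)) := by
  obtain ⟨d⟩ := wdata_top (Cg := Cg) (W := W) p hexp hcop
  have hinj : Function.Injective d.φ := by
    rw [injective_iff_map_eq_zero]
    intro a ha
    have h1 : Additive.toMul a ∈ kerOn (Cg := Cg) (⊤ : Subgroup W) := (d.ker (Additive.toMul a)).mp ha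
    have h2 : Additive.toMul a = 1 := hfaith _ (fun w => h1 w (Subgroup.mem_top w))
    exact h2
  have h := KI_pullback d.φ hinj d.ω d.ki
  exact KI_mono (fun a => d.le (Additive.toMul a)) h

end main

end Cfsg.Agent.Lib.Helper20_KnorrWeight
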