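import Mathlib
import Cfsg.Agent.Lib.Helper22_MI2Defs

set_option autoImplicit false

/-!
S2146, package MI2-SUB (helper22): for a plus-type quadratic space `V` of dimension `2k ≥ 6` over the field
with two elements and a subspace `S` with `1 ≤ dim S ≤ 2k - 2`:
`|V / S| * |orbit of S under T Q| ≥ Nmin (k + 1)`.   This file: the basic tools.
-/

namespace Cfsg.Agent.Lib.Helper22_MI2_Sub

open Module Cfsg.Agent.Lib.Helper14_OmegaSimple Cfsg.Agent.Lib.Helper22_MI2Defs
  Cfsg.Agent.Lib.Helper44_QuadClass Cfsg.Agent.Lib.Helper94_Symp Cfsg.Agent.Lib.Helper94_OrthSmall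

variable {F V : Type*} [Field F] [AddCommGroup V] [Module F V]

theorem Kstab_le_T [Finite F] [FiniteDimensional F V] (Q : QuadraticForm F V)
    (hnd : (QuadraticMap.polarBilin Q).Nondegenerate) (hdim : 5 ≤ finrank F V) (lam : V) :
    Kstab Q lam ≤ T Q := by
  rw [Kstab, Subgroup.closure_le]
  rintro g ⟨a, b, ha, hab, -, -, rfl⟩
  exact E_mem_T Q hnd hdim ha hab

theorem Kstab_fix (Q : QuadraticForm F V) (lam : V) {g : V ≃ₗ[F] V} (hg : g ∈ Kstab Q lam) :
    g lam = lam := by
  induction hg using Subgroup.closure_induction with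
  | mem g hg =>
    obtain ⟨a, b, ha, hab, hla, hlb, rfl⟩ := hg
    rw [E_apply Q ha hab, hla, hlb]
    simp
  | one => rfl
  | mul x y _ _ hx hy => rw [LinearEquiv.mul_apply, hy, hx]
  | inv x _ hx =>
    have := congrArg (fun z => x⁻¹ z) hx
    simp only [inv_apply_apply'] at this
    exact this.symm

theorem map_mem_subOrbit (Q : QuadraticForm F V) (C : Submodule F V) {C' : Submodule F V}
    (hC' : C' ∈ subOrbit Q C) {g : V ≃ₗ[F] V} (hg : g ∈ T Q) :
    C'.map (g : V →ₗ[F] V) ∈ subOrbit Q C := by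
  obtain ⟨h, hh, rfl⟩ := hC'
  refine ⟨g * h, Subgroup.mul_mem _ hg hh, ?_⟩
  rw [← Submodule.map_comp]
  rfl

theorem self_mem_subOrbit (Q : QuadraticForm F V) (C : Submodule F V) : C ∈ subOrbit Q C :=
  ⟨1, Subgroup.one_mem _, by simp⟩

end Cfsg.Agent.Lib.Helper22_MI2_Sub
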