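import Mathlib
import Cfsg.Agent.S4337

set_option autoImplicit false

namespace Cfsg.Agent.Lib.Helper52_MI2_PERM

theorem derivedSeries_eq_top_of_perfect {G : Type*} [Group G] (hG : commutator G = ⊤) (n : ℕ) :
    derivedSeries G n = ⊤ := by
  induction n with
  | zero => rfl
  | succ n ih =>
    rw [derivedSeries_succ, ih]
    exact hG

theorem perfect_acts_trivially {G : Type*} [Group G] (hG : commutator G = ⊤) {Y : Type*} [Fintype Y]
    [MulAction G Y] (hY : Fintype.card Y ≤ 4) (g : G) (y : Y) : g • y = y := by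
  classical
  have hsol : Group.IsSolvable (Equiv.Perm Y) := Cfsg.Agent.S4337.solvable_perm_of_card_le hY
  obtain ⟨n, hn⟩ := hsol.solvable
  have h1 := map_derivedSeries_le_derivedSeries (MulAction.toPermHom G Y) n
  rw [hn, derivedSeries_eq_top_of_perfect hG n, le_bot_iff] at h1
  have h2 : MulAction.toPermHom G Y g ∈ (⊤ : Subgroup G).map (MulAction.toPermHom G Y) :=
    ⟨g, Subgroup.mem_top g, rfl⟩
  rw [h1, Subgroup.mem_bot] at h2
  have h3 := congrArg (fun σ : Equiv.Perm Y => σ y) h2
  simpa using h3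

end Cfsg.Agent.Lib.Helper52_MI2_PERM
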