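import Mathlib
import Cfsg.Agent.Lib.Helper22_MI2Defs

set_option autoImplicit false

/-!
# MI2-TRNS (helper22's S2146 market): `T Q` is transitive on the vectors of a given nonzero norm
(characteristic two, dimension at least five).
-/

namespace Cfsg.Agent.Lib.Helper42_MI2_TRNS

open Module Cfsg.Agent.Lib.Helper14_OmegaSimple Cfsg.Agent.Lib.Helper22_MI2Defs
open Cfsg.Agent.Lib.Helper14_Siegel Cfsg.Agent.Lib.Helper44_QuadClass

variable {F V : Type*} [Field F] [AddCommGroup V] [Module F V]

/-- One step (any characteristic): if `y - x` is singular and orthogonal to the nonsingular `x`,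
some element of `T Q` maps `x` to `y`. -/
theorem step [Finite F] [FiniteDimensional F V] (Q : QuadraticForm F V)
    (hQ : (QuadraticMap.polarBilin Q).Nondegenerate) (hdim : 5 ≤ finrank F V)
    {x y : V} (hx : Q x ≠ 0) (hd : Q (y - x) = 0)
    (hxd : QuadraticMap.polar (⇑Q) x (y - x) = 0) : ∃ g ∈ T Q, g x = y := by
  by_cases hd0 : y - x = 0
  · refine ⟨1, Subgroup.one_mem _, ?_⟩
    rw [sub_eq_zero] at hd0
    rw [hd0]; rfl
  have hxs : x ∉ Submodule.span F {y - x} := by
    intro h
    obtain ⟨k, hk⟩ := Submodule.mem_span_singleton.mp h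
    apply hx
    rw [← hk, QuadraticMap.map_smul, hd, smul_zero]
  have hdx : QuadraticMap.polar (⇑Q) (y - x) x = 0 := by
    rw [QuadraticMap.polar_comm]; exact hxd
  obtain ⟨s, hs, hds, hsx⟩ := exists_singular_orth_polar Q hQ hdim hd0 hd hdx hxs (-1)
  refine ⟨E Q (y - x) s, E_mem_T Q hQ hdim hd hds, ?_⟩
  rw [E_apply Q hd hds, hxd, QuadraticMap.polar_comm (⇑Q) x s, hsx]
  module

/-- **MI2-TRNS**. -/
theorem exists_mem_T_map_nonsing [Finite F] [FiniteDimensional F V] (Q : QuadraticForm F V)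
    (hQ : (QuadraticMap.polarBilin Q).Nondegenerate) (hdim : 5 ≤ finrank F V) (h2 : (2 : F) = 0)
    {x y : V} (hx : Q x ≠ 0) (hxy : Q x = Q y) : ∃ g ∈ T Q, g x = y := by
  obtain ⟨d, hd⟩ : ∃ d : V, d = y - x := ⟨_, rfl⟩
  have hy : y = x + d := by rw [hd]; abel
  have hadd : ∀ u v : V, Q (u + v) = Q u + Q v + QuadraticMap.polar (⇑Q) u v := by
    intro u v
    rw [QuadraticMap.polar]; ring
  have hQd : Q d + QuadraticMap.polar (⇑Q) x d = 0 := by
    have h1 := hadd x d
    rw [← hy, ← hxy] at h1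
    linear_combination -h1
  by_cases hxd : QuadraticMap.polar (⇑Q) x d = 0
  · have hQd0 : Q d = 0 := by
      rw [hxd, add_zero] at hQd; exact hQd
    exact step Q hQ hdim hx (hd ▸ hQd0) (hd ▸ hxd)
  · have hdx : d ∉ Submodule.span F {x} := by
      intro h
      obtain ⟨k, hk⟩ := Submodule.mem_span_singleton.mp h
      apply hxd
      rw [← hk, QuadraticMap.polar_smul_right, polar_self', h2, zero_mul, smul_zero]
    obtain ⟨a, ha, hax, had⟩ := exists_singular_orth_polar_ns Q hQ hdim hx hdx (Q d)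
    have hxa : QuadraticMap.polar (⇑Q) x a = 0 := by
      rw [QuadraticMap.polar_comm]; exact hax
    have hQz : Q (x + a) = Q x := by
      rw [hadd, ha, hxa, add_zero, add_zero]
    -- first step: x ↦ x + a
    obtain ⟨g₁, hg₁, hg₁x⟩ := step Q hQ hdim hx (y := x + a)
      (by rw [add_sub_cancel_left]; exact ha) (by rw [add_sub_cancel_left]; exact hxa)
    -- second step: x + a ↦ y
    have hsub : y - (x + a) = d - a := by rw [hy]; abel
    have hQda : Q (d - a) = 0 := by
      rw [Cfsg.Agent.Lib.Helper14_OmegaSimple.map_sub', ha, QuadraticMap.polar_comm (⇑Q) d a, had]; ring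
    have hpol : QuadraticMap.polar (⇑Q) (x + a) (d - a) = 0 := by
      rw [QuadraticMap.polar_add_left, QuadraticMap.polar_sub_right, QuadraticMap.polar_sub_right,
        hxa, had, polar_self', ha]
      linear_combination hQd
    obtain ⟨g₂, hg₂, hg₂x⟩ := step Q hQ hdim (x := x + a) (y := y) (by rw [hQz]; exact hx)
      (by rw [hsub]; exact hQda) (by rw [hsub]; exact hpol)
    refine ⟨g₂ * g₁, Subgroup.mul_mem _ hg₂ hg₁, ?_⟩
    rw [LinearEquiv.mul_apply, hg₁x, hg₂x]

end Cfsg.Agent.Lib.Helper42_MI2_TRNS
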