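import Mathlib
import Cfsg.Agent.Lib.Helper22_MI2Defs

/-!
# S2146 (MI2): shared lemmas on the orbit of a subspace under `T Q`
-/

set_option autoImplicit false

namespace Cfsg.Agent.Lib.Helper54_MI2_Orb

open Module Cfsg.Agent.Lib.Helper14_OmegaSimple Cfsg.Agent.Lib.Helper22_MI2Defs

variable {F V : Type*} [Field F] [AddCommGroup V] [Module F V]

theorem mem_map_iff (g : V ≃ₗ[F] V) (S : Submodule F V) (x : V) :
    x ∈ S.map (g : V →ₗ[F] V) ↔ g⁻¹ x ∈ S :=
  Submodule.mem_map_equiv S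

theorem apply_mem_map_iff (g : V ≃ₗ[F] V) (S : Submodule F V) (x : V) :
    g x ∈ S.map (g : V →ₗ[F] V) ↔ x ∈ S := by
  rw [mem_map_iff]
  show g.symm (g x) ∈ S ↔ x ∈ S
  rw [LinearEquiv.symm_apply_apply]

theorem map_mul' (g h : V ≃ₗ[F] V) (S : Submodule F V) :
    S.map ((g * h : V ≃ₗ[F] V) : V →ₗ[F] V) = (S.map (h : V →ₗ[F] V)).map (g : V →ₗ[F] V) := by
  ext x
  rw [mem_map_iff, mem_map_iff, mem_map_iff, mul_inv_rev]
  rfl

theorem map_one' (S : Submodule F V) : S.map ((1 : V ≃ₗ[F] V) : V →ₗ[F] V) = S := by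
  ext x
  rw [mem_map_iff, inv_one]
  rfl

theorem map_inv_map (g : V ≃ₗ[F] V) (S : Submodule F V) :
    (S.map ((g⁻¹ : V ≃ₗ[F] V) : V →ₗ[F] V)).map (g : V →ₗ[F] V) = S := by
  rw [← map_mul', mul_inv_cancel, map_one']

theorem map_map_inv (g : V ≃ₗ[F] V) (S : Submodule F V) :
    (S.map (g : V →ₗ[F] V)).map ((g⁻¹ : V ≃ₗ[F] V) : V →ₗ[F] V) = S := by
  rw [← map_mul', inv_mul_cancel, map_one']

theorem map_injective (g : V ≃ₗ[F] V) :
    Function.Injective (fun S : Submodule F V => S.map (g : V →ₗ[F] V)) := by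
  intro S S' h
  have := congrArg (fun S : Submodule F V => S.map ((g⁻¹ : V ≃ₗ[F] V) : V →ₗ[F] V)) h
  simpa only [map_map_inv] using this

variable (Q : QuadraticForm F V) (C : Submodule F V)

theorem self_mem_subOrbit : C ∈ subOrbit Q C :=
  ⟨1, (T Q).one_mem, (map_one' C).symm⟩

variable {Q C}

theorem map_mem_subOrbit {C' : Submodule F V} (hC' : C' ∈ subOrbit Q C) {g : V ≃ₗ[F] V}
    (hg : g ∈ T Q) : C'.map (g : V →ₗ[F] V) ∈ subOrbit Q C := by
  obtain ⟨h, hh, rfl⟩ := hC'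
  exact ⟨g * h, (T Q).mul_mem hg hh, (map_mul' g h C).symm⟩

/-- the number of members of the orbit through `x` is invariant under `T Q` -/
theorem ncard_through_apply {g : V ≃ₗ[F] V} (hg : g ∈ T Q) (x : V) :
    {C' | C' ∈ subOrbit Q C ∧ g x ∈ C'}.ncard = {C' | C' ∈ subOrbit Q C ∧ x ∈ C'}.ncard := by
  have himg : {C' | C' ∈ subOrbit Q C ∧ g x ∈ C'} =
      (fun S : Submodule F V => S.map (g : V →ₗ[F] V)) '' {C' | C' ∈ subOrbit Q C ∧ x ∈ C'} := by
    ext D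
    constructor
    · rintro ⟨hD, hx⟩
      refine ⟨D.map ((g⁻¹ : V ≃ₗ[F] V) : V →ₗ[F] V), ⟨map_mem_subOrbit hD ((T Q).inv_mem hg), ?_⟩,
        map_inv_map g D⟩
      rw [mem_map_iff, inv_inv]
      exact hx
    · rintro ⟨D', ⟨hD', hx⟩, rfl⟩
      exact ⟨map_mem_subOrbit hD' hg, (apply_mem_map_iff g D' x).2 hx⟩
  rw [himg, Set.ncard_image_of_injective _ (map_injective g)]

/-- the field with two elements: characteristic two -/
theorem two_eq_zero (h2 : ∀ c : F, c = 0 ∨ c = 1) : (2 : F) = 0 := by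
  rcases h2 2 with h | h
  · exact h
  · exfalso
    have : (1 : F) = 0 := by
      have e : (2 : F) = 1 + 1 := by norm_num
      rw [e] at h
      exact add_eq_right.mp h
    exact one_ne_zero this

theorem eq_one_of_ne_zero (h2 : ∀ c : F, c = 0 ∨ c = 1) {c : F} (hc : c ≠ 0) : c = 1 :=
  (h2 c).resolve_left hc

end Cfsg.Agent.Lib.Helper54_MI2_Orb
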