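import Mathlib
import Cfsg.Agent.Lib.Helper22_MI2Defs
import Cfsg.Agent.Lib.Helper42_MI2_TRNS
import Cfsg.Agent.Lib.Helper54_MI2_SUBCNTCore

/-!
# S2146 (MI2), package SUBCNT: double counting over the orbit of a subspace
-/

set_option autoImplicit false

namespace Cfsg.Agent.Lib.Helper54_MI2_SUBCNT

open Module Cfsg.Agent.Lib.Helper14_OmegaSimple Cfsg.Agent.Lib.Helper22_MI2Defs

variable {F V : Type*} [Field F] [AddCommGroup V] [Module F V]

theorem orbit_count [Finite F] [FiniteDimensional F V] (Q : QuadraticForm F V) {k : ℕ}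
    (hS : PlusSetting Q k) (hk : 3 ≤ k) (C : Submodule F V) :
    (subOrbit Q C).Finite ∧
    ∃ bs bn : ℕ,
      (∀ x : V, x ≠ 0 → Q x = 0 → {C' | C' ∈ subOrbit Q C ∧ x ∈ C'}.ncard = bs) ∧
      (∀ x : V, Q x ≠ 0 → {C' | C' ∈ subOrbit Q C ∧ x ∈ C'}.ncard = bn) ∧
      (subOrbit Q C).ncard * Nat.card {x : C // (x : V) ≠ 0 ∧ Q x = 0} =
        Nat.card {x : V // x ≠ 0 ∧ Q x = 0} * bs ∧
      (subOrbit Q C).ncard * Nat.card {x : C // Q x ≠ 0} = Nmin k * bn ∧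
      (subOrbit Q C).ncard * Nat.card C =
        (subOrbit Q C).ncard + Nat.card {x : V // x ≠ 0 ∧ Q x = 0} * bs + Nmin k * bn := by
  have hdim : 5 ≤ finrank F V := by rw [hS.dim]; omega
  exact Cfsg.Agent.Lib.Helper54_MI2_SUBCNTCore.orbit_count_core Q hS hk C
    (fun x y hx hxy => Cfsg.Agent.Lib.Helper42_MI2_TRNS.exists_mem_T_map_nonsing Q hS.nondeg hdim
      (Cfsg.Agent.Lib.Helper54_MI2_Orb.two_eq_zero hS.f2) hx hxy)

end Cfsg.Agent.Lib.Helper54_MI2_SUBCNT
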