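import Mathlib
import Cfsg.Agent.Lib.Helper22_MI2Defs

/-!
# Helper73_MI2_PERF (S2146 package MI2-PERF, architect helper22)

`Kstab Q lam` is perfect for `k ≥ 4` (`lam` singular): every generator `E a b` is a product of
commutators of generators.
-/

set_option autoImplicit false

namespace Cfsg.Agent.Lib.Helper73_MI2_PERF

open Module Cfsg.Agent.Lib.Helper14_OmegaSimple Cfsg.Agent.Lib.Helper22_MI2Defs
open Cfsg.Agent.Lib.Helper44_QuadClass Cfsg.Agent.Lib.Helper14_Siegel
open scoped commutatorElement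

variable {F V : Type*} [Field F] [AddCommGroup V] [Module F V]

/-- Two vectors orthogonal to `u`, `s` and `l` with pairing `-1` (dimension at least seven). -/
theorem exists_pair_orth3 [FiniteDimensional F V] (Q : QuadraticForm F V)
    (hQ : (QuadraticMap.polarBilin Q).Nondegenerate) (hdim : 7 ≤ finrank F V)
    (u s l : V) : ∃ x y : V, QuadraticMap.polar (⇑Q) u x = 0 ∧ QuadraticMap.polar (⇑Q) s x = 0 ∧
      QuadraticMap.polar (⇑Q) l x = 0 ∧
      QuadraticMap.polar (⇑Q) u y = 0 ∧ QuadraticMap.polar (⇑Q) s y = 0 ∧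
      QuadraticMap.polar (⇑Q) l y = 0 ∧
      QuadraticMap.polar (⇑Q) y x = -1 := by
  classical
  obtain ⟨W, hW⟩ : ∃ W, W = Submodule.span F ({u, s, l} : Set V) := ⟨_, rfl⟩
  have hWle : finrank F W ≤ 3 := by
    rw [hW]
    have := finrank_span_finset_le_card (R := F) ({u, s, l} : Finset V)
    rw [Finset.coe_insert, Finset.coe_insert, Finset.coe_singleton] at this
    exact this.trans Finset.card_le_three
  obtain ⟨K, hK⟩ : ∃ K, K = LinearMap.BilinForm.orthogonal (QuadraticMap.polarBilin Q) W := ⟨_, rfl⟩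
  have hKfr : finrank F K = finrank F V - finrank F W := by
    rw [hK]; exact LinearMap.BilinForm.finrank_orthogonal hQ W
  have hex : ∃ x ∈ K, ∃ y ∈ K, QuadraticMap.polar (⇑Q) y x ≠ 0 := by
    by_contra hcon
    push Not at hcon
    have hKK : K ≤ LinearMap.BilinForm.orthogonal (QuadraticMap.polarBilin Q) K := by
      intro x hx
      rw [LinearMap.BilinForm.mem_orthogonal_iff]
      intro y hy
      exact hcon x hx y hy
    have h1 := Submodule.finrank_mono hKK
    have h2 : finrank F (LinearMap.BilinForm.orthogonal (QuadraticMap.polarBilin Q) K) =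
        finrank F V - finrank F K := LinearMap.BilinForm.finrank_orthogonal hQ K
    omega
  obtain ⟨x, hx, y, hy, hxy⟩ := hex
  rw [hK, LinearMap.BilinForm.mem_orthogonal_iff] at hx hy
  have hu : u ∈ W := hW ▸ Submodule.subset_span (by simp)
  have hs : s ∈ W := hW ▸ Submodule.subset_span (by simp)
  have hl : l ∈ W := hW ▸ Submodule.subset_span (by simp)
  have hux : QuadraticMap.polar (⇑Q) u x = 0 := hx u hu
  have hsx : QuadraticMap.polar (⇑Q) s x = 0 := hx s hs
  have hlx : QuadraticMap.polar (⇑Q) l x = 0 := hx l hl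
  refine ⟨(-1 / QuadraticMap.polar (⇑Q) y x) • x, y, ?_, ?_, ?_, hy u hu, hy s hs, hy l hl, ?_⟩
  · rw [QuadraticMap.polar_smul_right, hux, smul_zero]
  · rw [QuadraticMap.polar_smul_right, hsx, smul_zero]
  · rw [QuadraticMap.polar_smul_right, hlx, smul_zero]
  · rw [QuadraticMap.polar_smul_right, smul_eq_mul]
    exact div_mul_cancel₀ _ hxy

theorem gen_mem (Q : QuadraticForm F V) {lam a b : V} (ha : Q a = 0)
    (hab : QuadraticMap.polar (⇑Q) a b = 0) (hla : QuadraticMap.polar (⇑Q) lam a = 0)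
    (hlb : QuadraticMap.polar (⇑Q) lam b = 0) : E Q a b ∈ Kstab Q lam :=
  Subgroup.subset_closure ⟨a, b, ha, hab, hla, hlb, rfl⟩

/-- generators with a singular parameter are commutators in `Kstab` -/
theorem sing_mem_commutator [FiniteDimensional F V] (Q : QuadraticForm F V)
    (hQ : (QuadraticMap.polarBilin Q).Nondegenerate) (hdim : 7 ≤ finrank F V) {lam u s : V}
    (hu : Q u = 0) (hs : Q s = 0) (hus : QuadraticMap.polar (⇑Q) u s = 0)
    (hlu : QuadraticMap.polar (⇑Q) lam u = 0) (hls : QuadraticMap.polar (⇑Q) lam s = 0) :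
    E Q u s ∈ ⁅Kstab Q lam, Kstab Q lam⁆ := by
  obtain ⟨x, y, hux, hsx, hlx, huy, hsy, hly, hyx⟩ := exists_pair_orth3 Q hQ hdim u s lam
  have hg : E Q s x ∈ Kstab Q lam := gen_mem Q hs hsx hls hlx
  have hh : E Q u y ∈ Kstab Q lam := gen_mem Q hu huy hlu hly
  have hgO : E Q s x ∈ Cfsg.Agent.Lib.Helper94_OrthSmall.oG (⇑Q) := E_mem_oG Q hs hsx
  have h1 : E Q s x u = u := by
    rw [E_apply Q hs hsx, hus, hux]
    simp
  have h2 : E Q s x y = y + s := by
    rw [E_apply Q hs hsx, QuadraticMap.polar_comm (⇑Q) y s, hsy, hyx]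
    simp
  have h3 : QuadraticMap.polar (⇑Q) u (y + s) = 0 := by
    rw [QuadraticMap.polar_add_right, huy, hus, add_zero]
  have h4 : QuadraticMap.polar (⇑Q) u (-y) = 0 := by
    rw [QuadraticMap.polar_neg_right, huy, neg_zero]
  have key : ⁅E Q s x, E Q u y⁆ = E Q u s := by
    rw [commutatorElement_def, conj_E Q hgO hu huy, E_inv Q hu huy, h1, h2, E_mul Q hu h3 h4]
    congr 1; abel
  rw [← key]
  exact Subgroup.commutator_mem_commutator hg hh

/-- a singular vector orthogonal to `a` and `lam` with prescribed pairing with `b` -/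
theorem exists_sing_orth2 [Finite F] [FiniteDimensional F V] (Q : QuadraticForm F V)
    (hQ : (QuadraticMap.polarBilin Q).Nondegenerate) (hdim : 7 ≤ finrank F V) {lam a b : V}
    (hlam : lam ≠ 0) (hQl : Q lam = 0) (ha : Q a = 0)
    (hab : QuadraticMap.polar (⇑Q) a b = 0) (hla : QuadraticMap.polar (⇑Q) lam a = 0)
    (hlb : QuadraticMap.polar (⇑Q) lam b = 0) (hb : Q b ≠ 0) (c : F) :
    ∃ s : V, Q s = 0 ∧ QuadraticMap.polar (⇑Q) a s = 0 ∧ QuadraticMap.polar (⇑Q) lam s = 0 ∧
      QuadraticMap.polar (⇑Q) s b = c := by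
  obtain ⟨l', hl', hll'⟩ := exists_hyperbolic_partner Q hQ hlam hQl
  have hl'l : QuadraticMap.polar (⇑Q) l' lam = 1 := by rw [QuadraticMap.polar_comm, hll']
  have hllz : QuadraticMap.polar (⇑Q) lam lam = 0 := by rw [polar_self', hQl, mul_zero]
  have hnd := nondegenerate_perp hQ hQl hl' hll'
  have hfr := finrank_perp (Q := Q) hQl hl' hll'
  obtain ⟨a', ha'⟩ : ∃ a', a' = a - QuadraticMap.polar (⇑Q) l' a • lam := ⟨_, rfl⟩
  obtain ⟨b', hb'⟩ : ∃ b', b' = b - QuadraticMap.polar (⇑Q) l' b • lam := ⟨_, rfl⟩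
  have ha'mem : a' ∈ perp Q lam l' := by
    rw [mem_perp]
    constructor
    · rw [ha', QuadraticMap.polar_sub_right, QuadraticMap.polar_smul_right, hla, hllz]
      simp
    · rw [ha', QuadraticMap.polar_sub_right, QuadraticMap.polar_smul_right, hl'l]
      simp
  have hb'mem : b' ∈ perp Q lam l' := by
    rw [mem_perp]
    constructor
    · rw [hb', QuadraticMap.polar_sub_right, QuadraticMap.polar_smul_right, hlb, hllz]
      simp
    · rw [hb', QuadraticMap.polar_sub_right, QuadraticMap.polar_smul_right, hl'l]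
      simp
  have hQa' : Q a' = 0 := by
    rw [ha', Cfsg.Agent.Lib.Helper14_OmegaSimple.map_sub', ha, QuadraticMap.map_smul, hQl, QuadraticMap.polar_smul_right,
      QuadraticMap.polar_comm (⇑Q) a lam, hla]
    simp
  have hQb' : Q b' = Q b := by
    rw [hb', Cfsg.Agent.Lib.Helper14_OmegaSimple.map_sub', QuadraticMap.map_smul, hQl, QuadraticMap.polar_smul_right,
      QuadraticMap.polar_comm (⇑Q) b lam, hlb]
    simp
  have ha'b' : QuadraticMap.polar (⇑Q) a' b' = 0 := by
    rw [ha', hb', QuadraticMap.polar_sub_left, QuadraticMap.polar_sub_right,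
      QuadraticMap.polar_sub_right, QuadraticMap.polar_smul_right, QuadraticMap.polar_smul_left,
      QuadraticMap.polar_smul_left, QuadraticMap.polar_smul_right, hab, hlb, hllz,
      QuadraticMap.polar_comm (⇑Q) a lam, hla]
    simp
  -- the key vector inside `W`
  have key : ∃ s : perp Q lam l', (Q.comp (perp Q lam l').subtype) s = 0 ∧
      QuadraticMap.polar (⇑Q) a' (s : V) = 0 ∧ QuadraticMap.polar (⇑Q) (s : V) b' = c := by
    have hb'0 : (⟨b', hb'mem⟩ : perp Q lam l') ≠ 0 := by
      intro h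
      have h0 : b' = 0 := congrArg Subtype.val h
      rw [h0, map_zero] at hQb'
      exact hb hQb'.symm
    by_cases ha'0 : a' = 0
    · obtain ⟨s, hs, hsb⟩ := exists_singular_polar (Q.comp (perp Q lam l').subtype) hnd
        (by omega) hb'0 c
      refine ⟨s, hs, ?_, ?_⟩
      · rw [ha'0]; simp [QuadraticMap.polar]
      · rw [polar_comp_subtype] at hsb
        exact hsb
    · have ha'W0 : (⟨a', ha'mem⟩ : perp Q lam l') ≠ 0 := by
        intro h
        exact ha'0 (congrArg Subtype.val h)
      have hQa'W : (Q.comp (perp Q lam l').subtype) ⟨a', ha'mem⟩ = 0 := by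
        simpa using hQa'
      have hpol : QuadraticMap.polar (⇑(Q.comp (perp Q lam l').subtype))
          (⟨a', ha'mem⟩ : perp Q lam l') ⟨b', hb'mem⟩ = 0 := by
        rw [polar_comp_subtype]; exact ha'b'
      have hnot : (⟨b', hb'mem⟩ : perp Q lam l') ∉
          Submodule.span F {(⟨a', ha'mem⟩ : perp Q lam l')} := by
        intro h
        obtain ⟨t, ht⟩ := Submodule.mem_span_singleton.mp h
        have h1 : b' = t • a' := by
          have := congrArg Subtype.val ht
          simpa using this.symm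
        rw [h1, QuadraticMap.map_smul, hQa', smul_zero] at hQb'
        exact hb hQb'.symm
      obtain ⟨s, hs, has, hsb⟩ := exists_singular_orth_polar (Q.comp (perp Q lam l').subtype) hnd
        (by omega) ha'W0 hQa'W hpol hnot c
      refine ⟨s, hs, ?_, ?_⟩
      · rw [polar_comp_subtype] at has
        exact has
      · rw [polar_comp_subtype] at hsb
        exact hsb
  obtain ⟨s, hs, has, hsb⟩ := key
  have hsmem := (mem_perp Q lam l').mp s.2
  refine ⟨(s : V), by simpa using hs, ?_, hsmem.1, ?_⟩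
  · have : a = a' + QuadraticMap.polar (⇑Q) l' a • lam := by rw [ha']; abel
    rw [this, QuadraticMap.polar_add_left, QuadraticMap.polar_smul_left, has, hsmem.1]
    simp
  · have : b = b' + QuadraticMap.polar (⇑Q) l' b • lam := by rw [hb']; abel
    rw [this, QuadraticMap.polar_add_right, QuadraticMap.polar_smul_right, hsb,
      QuadraticMap.polar_comm (⇑Q) (s : V) lam, hsmem.1]
    simp

/-- **MI2-PERF**: `Kstab Q lam` is perfect for `k ≥ 4` (`lam` singular). -/
theorem Kstab_perfect [Finite F] [FiniteDimensional F V] (Q : QuadraticForm F V) {k : ℕ}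
    (hS : PlusSetting Q k) (hk : 4 ≤ k) {lam : V} (hlam : lam ≠ 0) (hQl : Q lam = 0) :
    ⁅Kstab Q lam, Kstab Q lam⁆ = Kstab Q lam := by
  have hQ := hS.nondeg
  have hdim : 7 ≤ finrank F V := by rw [hS.dim]; omega
  apply le_antisymm (Subgroup.commutator_le_self _)
  conv_lhs => rw [Kstab]
  rw [Subgroup.closure_le]
  rintro g ⟨a, b, ha, hab, hla, hlb, rfl⟩
  by_cases hb : Q b = 0
  · exact sing_mem_commutator Q hQ hdim ha hb hab hla hlb
  · obtain ⟨s, hs, has, hls, hsb⟩ :=
      exists_sing_orth2 Q hQ hdim hlam hQl ha hab hla hlb hb (Q b)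
    have hbs : Q (b - s) = 0 := by
      rw [Cfsg.Agent.Lib.Helper14_OmegaSimple.map_sub', hs, QuadraticMap.polar_comm, hsb]; ring
    have habs : QuadraticMap.polar (⇑Q) a (b - s) = 0 := by
      rw [QuadraticMap.polar_sub_right, hab, has, sub_zero]
    have hlbs : QuadraticMap.polar (⇑Q) lam (b - s) = 0 := by
      rw [QuadraticMap.polar_sub_right, hlb, hls, sub_zero]
    have : E Q a b = E Q a s * E Q a (b - s) := by
      rw [E_mul Q ha has habs]
      congr 1; abel
    rw [this]
    exact Subgroup.mul_mem _ (sing_mem_commutator Q hQ hdim ha hs has hla hls)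
      (sing_mem_commutator Q hQ hdim ha hbs habs hla hlbs)

end Cfsg.Agent.Lib.Helper73_MI2_PERF
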