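import Mathlib
import Cfsg.Agent.Lib.Helper22_MI2Defs

/-!
# Helper73_MI2_ROT (S2146 package MI2-ROT, architect helper22)

An element of order three of `Kstab Q lam` moving a totally singular subspace `C ∋ lam` of dimension
at least two: the rotation `E c b * E a b` of the anisotropic plane spanned by `a + b`, `c + b`.
-/

set_option autoImplicit false

namespace Cfsg.Agent.Lib.Helper73_MI2_ROT

open Module Cfsg.Agent.Lib.Helper14_OmegaSimple Cfsg.Agent.Lib.Helper22_MI2Defs
open Cfsg.Agent.Lib.Helper44_QuadClass Cfsg.Agent.Lib.Helper14_Siegel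

variable {F V : Type*} [Field F] [AddCommGroup V] [Module F V]

/-- a nonsingular vector orthogonal to a given vector (dimension at least three) -/
theorem exists_nonsing_orth [FiniteDimensional F V] (Q : QuadraticForm F V)
    (hQ : (QuadraticMap.polarBilin Q).Nondegenerate) (hdim : 3 ≤ finrank F V) (l : V) :
    ∃ b : V, QuadraticMap.polar (⇑Q) l b = 0 ∧ Q b ≠ 0 := by
  classical
  by_contra hcon
  push Not at hcon
  obtain ⟨W, hW⟩ : ∃ W, W = Submodule.span F ({l} : Set V) := ⟨_, rfl⟩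
  have hWle : finrank F W ≤ 1 := by
    rw [hW]
    have := finrank_span_finset_le_card (R := F) ({l} : Finset V)
    rw [Finset.coe_singleton, Finset.card_singleton] at this
    exact this
  obtain ⟨K, hK⟩ : ∃ K, K = LinearMap.BilinForm.orthogonal (QuadraticMap.polarBilin Q) W := ⟨_, rfl⟩
  have hKfr : finrank F K = finrank F V - finrank F W := by
    rw [hK]; exact LinearMap.BilinForm.finrank_orthogonal hQ W
  have hl : l ∈ W := hW ▸ Submodule.mem_span_singleton_self l
  have hKQ : ∀ x ∈ K, Q x = 0 := by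
    intro x hx
    rw [hK, LinearMap.BilinForm.mem_orthogonal_iff] at hx
    exact hcon x (hx l hl)
  have hKK : K ≤ LinearMap.BilinForm.orthogonal (QuadraticMap.polarBilin Q) K := by
    intro x hx
    rw [LinearMap.BilinForm.mem_orthogonal_iff]
    intro y hy
    show QuadraticMap.polar (⇑Q) y x = 0
    rw [QuadraticMap.polar, hKQ _ (K.add_mem hy hx), hKQ _ hy, hKQ _ hx]
    ring
  have h1 := Submodule.finrank_mono hKK
  have h2 : finrank F (LinearMap.BilinForm.orthogonal (QuadraticMap.polarBilin Q) K) =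
      finrank F V - finrank F K := LinearMap.BilinForm.finrank_orthogonal hQ K
  omega

/-- the rotation formula -/
theorem rot_apply (Q : QuadraticForm F V) (h2 : (2 : F) = 0) {a b c : V} (ha : Q a = 0)
    (hc : Q c = 0) (hb : Q b = 1) (hab : QuadraticMap.polar (⇑Q) a b = 0)
    (hcb : QuadraticMap.polar (⇑Q) c b = 0) (hac : QuadraticMap.polar (⇑Q) a c = 1) (v : V) :
    (E Q c b * E Q a b) v = v + QuadraticMap.polar (⇑Q) v (a + b) • (a + b) +
      (QuadraticMap.polar (⇑Q) v (a + b) + QuadraticMap.polar (⇑Q) v (c + b)) • (c + b) := by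
  show E Q c b (E Q a b v) = _
  have hbc : QuadraticMap.polar (⇑Q) b c = 0 := by rw [QuadraticMap.polar_comm, hcb]
  have hbb : QuadraticMap.polar (⇑Q) b b = 2 := by rw [polar_self', hb, mul_one]
  have hw : E Q a b v = v + QuadraticMap.polar (⇑Q) v a • b - QuadraticMap.polar (⇑Q) v b • a -
      QuadraticMap.polar (⇑Q) v a • a := by
    rw [E_apply Q ha hab, hb, one_mul]
  have hwc : QuadraticMap.polar (⇑Q) (E Q a b v) c = QuadraticMap.polar (⇑Q) v c -
      QuadraticMap.polar (⇑Q) v b - QuadraticMap.polar (⇑Q) v a := by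
    rw [hw]
    simp only [QuadraticMap.polar_add_left, QuadraticMap.polar_sub_left,
      QuadraticMap.polar_smul_left, smul_eq_mul, hbc, hac]
    ring
  have hwb : QuadraticMap.polar (⇑Q) (E Q a b v) b = QuadraticMap.polar (⇑Q) v b +
      2 * QuadraticMap.polar (⇑Q) v a := by
    rw [hw]
    simp only [QuadraticMap.polar_add_left, QuadraticMap.polar_sub_left,
      QuadraticMap.polar_smul_left, smul_eq_mul, hbb, hab]
    ring
  rw [E_apply Q hc hcb, hwc, hwb, hw, hb, one_mul, QuadraticMap.polar_add_right,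
    QuadraticMap.polar_add_right]
  obtain ⟨α, hα⟩ : ∃ α, α = QuadraticMap.polar (⇑Q) v a := ⟨_, rfl⟩
  obtain ⟨β, hβ⟩ : ∃ β, β = QuadraticMap.polar (⇑Q) v b := ⟨_, rfl⟩
  obtain ⟨γ, hγ⟩ : ∃ γ, γ = QuadraticMap.polar (⇑Q) v c := ⟨_, rfl⟩
  rw [← hα, ← hβ, ← hγ]
  linear_combination (norm := module) (-(α + β) * h2) • a + (-(α + 2 * β) * h2) • b +
    (-(α + β + γ) * h2) • c

/-- the rotation has order dividing three -/
theorem rot_pow_three (Q : QuadraticForm F V) (h2 : (2 : F) = 0) {x y : V}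
    (hxx : QuadraticMap.polar (⇑Q) x x = 0) (hyy : QuadraticMap.polar (⇑Q) y y = 0)
    (hxy : QuadraticMap.polar (⇑Q) x y = 1) (g : V ≃ₗ[F] V)
    (hg : ∀ v, g v = v + QuadraticMap.polar (⇑Q) v x • x +
      (QuadraticMap.polar (⇑Q) v x + QuadraticMap.polar (⇑Q) v y) • y) : g ^ 3 = 1 := by
  have hyx : QuadraticMap.polar (⇑Q) y x = 1 := by rw [QuadraticMap.polar_comm, hxy]
  ext v
  show (g ^ 3) v = v
  have e0 : (g ^ 3) v = g (g (g v)) := by
    rw [pow_succ, pow_succ, pow_one]
    rfl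
  rw [e0]
  obtain ⟨p, hp⟩ : ∃ p, p = QuadraticMap.polar (⇑Q) v x := ⟨_, rfl⟩
  obtain ⟨r, hr⟩ : ∃ r, r = QuadraticMap.polar (⇑Q) v y := ⟨_, rfl⟩
  have e1 : g v = v + p • x + (p + r) • y := by rw [hg v, ← hp, ← hr]
  have e2 : g (g v) = v + (3 * p + r) • x + (4 * p + 3 * r) • y := by
    rw [hg (g v), e1]
    simp only [QuadraticMap.polar_add_left, QuadraticMap.polar_smul_left, smul_eq_mul, hxx, hyy,
      hxy, hyx, ← hp, ← hr]
    module
  have e3 : g (g (g v)) = v + (8 * p + 4 * r) • x + (12 * p + 8 * r) • y := by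
    rw [hg (g (g v)), e2]
    simp only [QuadraticMap.polar_add_left, QuadraticMap.polar_smul_left, smul_eq_mul, hxx, hyy,
      hxy, hyx, ← hp, ← hr]
    module
  rw [e3]
  linear_combination (norm := module) ((4 * p + 2 * r) * h2) • x + ((6 * p + 4 * r) * h2) • y

/-- **MI2-ROT** -/
theorem exists_rotation_moving [Finite F] [FiniteDimensional F V] (Q : QuadraticForm F V) {k : ℕ}
    (hS : PlusSetting Q k) (hk : 3 ≤ k) {lam : V} (hlam : lam ≠ 0) (hQl : Q lam = 0)
    (C : Submodule F V) (hlC : lam ∈ C) (hts : ∀ x ∈ C, Q x = 0) (hd : 2 ≤ finrank F C) :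
    ∃ g ∈ Kstab Q lam, g ^ 3 = 1 ∧ C.map (g : V →ₗ[F] V) ≠ C := by
  have hQ := hS.nondeg
  have hdim : 5 ≤ finrank F V := by rw [hS.dim]; omega
  have h2 : (2 : F) = 0 := by
    rcases hS.f2 2 with h | h
    · exact h
    · exfalso
      have : (1 : F) = 0 := by linear_combination h
      exact one_ne_zero this
  -- `c ∈ C`, not a multiple of `lam`
  obtain ⟨c, hcC, hcl⟩ : ∃ c ∈ C, c ∉ Submodule.span F {lam} := by
    by_contra hcon
    push Not at hcon
    have hle : C ≤ Submodule.span F {lam} := fun c hc => hcon c hc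
    have h1 := Submodule.finrank_mono hle
    have h3 : finrank F (Submodule.span F {lam}) = 1 := finrank_span_singleton hlam
    omega
  have hQc : Q c = 0 := hts c hcC
  have hlc : QuadraticMap.polar (⇑Q) lam c = 0 := by
    rw [QuadraticMap.polar, hts _ (C.add_mem hlC hcC), hQl, hQc]
    ring
  obtain ⟨a, ha, hla, hac⟩ := exists_singular_orth_polar Q hQ hdim hlam hQl hlc hcl 1
  have hca : QuadraticMap.polar (⇑Q) c a = 1 := by rw [QuadraticMap.polar_comm, hac]
  -- the nonsingular `b`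
  have hnd := nondegenerate_perp hQ ha hQc hac
  have hfr := finrank_perp (Q := Q) ha hQc hac
  have hlmem : lam ∈ perp Q a c := by
    rw [mem_perp]
    exact ⟨by rw [QuadraticMap.polar_comm, hla], by rw [QuadraticMap.polar_comm, hlc]⟩
  obtain ⟨bW, hlb, hbW⟩ := exists_nonsing_orth (Q.comp (perp Q a c).subtype) hnd
    (by rw [hS.dim] at hfr; omega) ⟨lam, hlmem⟩
  rw [polar_comp_subtype] at hlb
  obtain ⟨b, hbdef⟩ : ∃ b : V, b = (bW : V) := ⟨_, rfl⟩
  have hbmem := (mem_perp Q a c).mp bW.2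
  rw [← hbdef] at hbmem
  have hlb' : QuadraticMap.polar (⇑Q) lam b = 0 := by rw [hbdef]; exact hlb
  have hQb : Q b = 1 := by
    have h0 : Q b ≠ 0 := by
      rw [hbdef]
      simpa using hbW
    rcases hS.f2 (Q b) with h | h
    · exact absurd h h0
    · exact h
  have hab : QuadraticMap.polar (⇑Q) a b = 0 := hbmem.1
  have hcb : QuadraticMap.polar (⇑Q) c b = 0 := hbmem.2
  -- the rotation
  have hg1 : E Q c b ∈ Kstab Q lam := Subgroup.subset_closure ⟨c, b, hQc, hcb, hlc, hlb', rfl⟩
  have hg2 : E Q a b ∈ Kstab Q lam := Subgroup.subset_closure ⟨a, b, ha, hab, hla, hlb', rfl⟩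
  have hform := rot_apply Q h2 ha hQc hQb hab hcb hac
  have hxx : QuadraticMap.polar (⇑Q) (a + b) (a + b) = 0 := by
    rw [polar_self', h2, zero_mul]
  have hyy : QuadraticMap.polar (⇑Q) (c + b) (c + b) = 0 := by
    rw [polar_self', h2, zero_mul]
  have hxy : QuadraticMap.polar (⇑Q) (a + b) (c + b) = 1 := by
    have hbb : QuadraticMap.polar (⇑Q) b b = 0 := by rw [polar_self', h2, zero_mul]
    have hbc : QuadraticMap.polar (⇑Q) b c = 0 := by rw [QuadraticMap.polar_comm, hcb]
    rw [QuadraticMap.polar_add_left, QuadraticMap.polar_add_right, QuadraticMap.polar_add_right,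
      hac, hab, hbc, hbb]
    ring
  refine ⟨E Q c b * E Q a b, Subgroup.mul_mem _ hg1 hg2,
    rot_pow_three Q h2 hxx hyy hxy _ hform, ?_⟩
  intro hmap
  -- `g c = a`
  have hgc : (E Q c b * E Q a b) c = a := by
    rw [hform c]
    have hcc : QuadraticMap.polar (⇑Q) c c = 0 := by rw [polar_self', hQc, mul_zero]
    rw [QuadraticMap.polar_add_right, QuadraticMap.polar_add_right, hca, hcb, hcc]
    linear_combination (norm := module) (1 * h2) • c + (1 * h2) • b
  have haC : a ∈ C := by
    rw [← hmap]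
    exact ⟨c, hcC, hgc⟩
  have : QuadraticMap.polar (⇑Q) a c = 0 := by
    rw [QuadraticMap.polar, hts _ (C.add_mem haC hcC), ha, hQc]
    ring
  rw [hac] at this
  exact one_ne_zero this

end Cfsg.Agent.Lib.Helper73_MI2_ROT
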