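import Mathlib
import Cfsg.Agent.Lib.Helper22_MI2Defs

/-!
# MI2-SUBI (helper76, for helper22's S2146 market)

The subspaces through `lam` invariant under `Kstab Q lam` are `span lam`, `lam^⟂` and `⊤`
(plus-type quadratic space of dimension `2k ≥ 6` over the field with two elements).
-/

set_option autoImplicit false

namespace Cfsg.Agent.Lib.Helper76_MI2_SUBI

open Module Cfsg.Agent.Lib.Helper14_OmegaSimple Cfsg.Agent.Lib.Helper22_MI2Defs
  Cfsg.Agent.Lib.Helper94_OrthSmall

variable {F V : Type*} [Field F] [AddCommGroup V] [Module F V]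

/-- In dimension at least six, three linear conditions `B(zᵢ, a) = 0` are satisfied by a nonzero
singular vector. -/
theorem exists_singular_orth3 [Finite F] [FiniteDimensional F V] (Q : QuadraticForm F V)
    (hdim : 6 ≤ finrank F V) (z₁ z₂ z₃ : V) :
    ∃ a : V, a ≠ 0 ∧ Q a = 0 ∧ QuadraticMap.polar (⇑Q) z₁ a = 0 ∧
      QuadraticMap.polar (⇑Q) z₂ a = 0 ∧ QuadraticMap.polar (⇑Q) z₃ a = 0 := by
  set φ : V →ₗ[F] (F × F × F) :=
    (QuadraticMap.polarBilin Q z₁).prod
      ((QuadraticMap.polarBilin Q z₂).prod (QuadraticMap.polarBilin Q z₃)) with hφ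
  have h1 := LinearMap.finrank_range_add_finrank_ker φ
  have h2 : finrank F (LinearMap.range φ) ≤ 3 := by
    have := Submodule.finrank_le (LinearMap.range φ)
    rw [Module.finrank_prod, Module.finrank_prod, Module.finrank_self] at this
    omega
  have h3 : 3 ≤ finrank F (LinearMap.ker φ) := by omega
  obtain ⟨v, hv0, hv⟩ :=
    Cfsg.Agent.Lib.Helper44_QuadClass.exists_singular (Q.comp (LinearMap.ker φ).subtype) h3
  have hmem0 : φ (v : V) = 0 := LinearMap.mem_ker.mp v.2
  have hmem : ((QuadraticMap.polarBilin Q z₁).prod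
      ((QuadraticMap.polarBilin Q z₂).prod (QuadraticMap.polarBilin Q z₃))) (v : V) = 0 := hmem0
  have hm1 : QuadraticMap.polar (⇑Q) z₁ (v : V) = 0 := congrArg Prod.fst hmem
  have hm2 : QuadraticMap.polar (⇑Q) z₂ (v : V) = 0 := congrArg (fun p => p.2.1) hmem
  have hm3 : QuadraticMap.polar (⇑Q) z₃ (v : V) = 0 := congrArg (fun p => p.2.2) hmem
  refine ⟨(v : V), ?_, ?_, hm1, hm2, hm3⟩
  · intro h
    apply hv0
    exact Subtype.ext h
  · simpa using hv

/-- `Kstab Q lam` consists of isometries. -/
theorem Kstab_le_oG (Q : QuadraticForm F V) (lam : V) : Kstab Q lam ≤ oG (⇑Q) := by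
  rw [Kstab, Subgroup.closure_le]
  rintro g ⟨a, b, ha, hab, -, -, rfl⟩
  exact E_mem_oG Q ha hab

/-- `Kstab Q lam` fixes `lam`. -/
theorem Kstab_fix (Q : QuadraticForm F V) (lam : V) : ∀ g ∈ Kstab Q lam, g lam = lam := by
  intro g hg
  rw [Kstab] at hg
  induction hg using Subgroup.closure_induction with
  | mem x hx =>
    obtain ⟨a, b, ha, hab, hla, hlb, rfl⟩ := hx
    rw [E_apply Q ha hab, hla, hlb]
    simp
  | one => rfl
  | mul x y _ _ hx hy => rw [LinearEquiv.mul_apply, hy, hx]
  | inv x _ hx =>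
    have h1 : x⁻¹ (x lam) = lam := by
      rw [← LinearEquiv.mul_apply, inv_mul_cancel]; rfl
    rw [hx] at h1
    exact h1

/-- `Kstab Q lam` preserves `lam^⟂`. -/
theorem Kstab_orth (Q : QuadraticForm F V) (lam : V) {g : V ≃ₗ[F] V} (hg : g ∈ Kstab Q lam) (x : V) :
    QuadraticMap.polar (⇑Q) lam (g x) = QuadraticMap.polar (⇑Q) lam x := by
  have h1 := oG_polar Q (Kstab_le_oG Q lam hg) lam x
  rw [Kstab_fix Q lam g hg] at h1
  exact h1

/-- The heart: an invariant subspace inside `lam^⟂` containing `lam` and a vector outside `span lam`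
contains `lam^⟂`. -/
theorem le_of_orth [Finite F] [FiniteDimensional F V] (Q : QuadraticForm F V) {k : ℕ}
    (hS : PlusSetting Q k) (hk : 3 ≤ k) {lam : V} (hlam : lam ≠ 0) (C : Submodule F V)
    (hinv : ∀ g ∈ Kstab Q lam, ∀ x ∈ C, g x ∈ C)
    (hC : ∀ x ∈ C, QuadraticMap.polar (⇑Q) lam x = 0) {c : V} (hc : c ∈ C)
    (hcl : c ∉ Submodule.span F {lam}) :
    ∀ x : V, QuadraticMap.polar (⇑Q) lam x = 0 → x ∈ C := by
  have hdim5 : 5 ≤ finrank F V := by rw [hS.dim]; omega
  have hnd := hS.nondeg
  have hlc : QuadraticMap.polar (⇑Q) lam c = 0 := hC c hc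
  -- Step 1: the singular vector `a`
  obtain ⟨a, haQ, hla, hac⟩ : ∃ a : V, Q a = 0 ∧ QuadraticMap.polar (⇑Q) lam a = 0 ∧
      QuadraticMap.polar (⇑Q) a c = 1 := by
    by_cases hQl : Q lam = 0
    · obtain ⟨s, hs, hls, hsc⟩ :=
        Cfsg.Agent.Lib.Helper14_Siegel.exists_singular_orth_polar Q hnd hdim5 hlam hQl hlc hcl 1
      exact ⟨s, hs, hls, hsc⟩
    · obtain ⟨s, hs, hsl, hsc⟩ := exists_singular_orth_polar_ns Q hnd hdim5 hQl hcl 1
      exact ⟨s, hs, by rw [QuadraticMap.polar_comm]; exact hsl, hsc⟩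
  have hca : QuadraticMap.polar (⇑Q) c a = 1 := by rw [QuadraticMap.polar_comm]; exact hac
  -- Step 2
  have hstar : ∀ b : V, QuadraticMap.polar (⇑Q) a b = 0 → QuadraticMap.polar (⇑Q) lam b = 0 →
      QuadraticMap.polar (⇑Q) c b = 0 → b - Q b • a ∈ C := by
    intro b hab hlb hcb
    have hg : E Q a b ∈ Kstab Q lam :=
      Subgroup.subset_closure ⟨a, b, haQ, hab, hla, hlb, rfl⟩
    have h1 := hinv _ hg c hc
    rw [E_apply Q haQ hab, hca, hcb] at h1
    have h2 : c + (1 : F) • b - (0 : F) • a - (Q b * 1) • a - c ∈ C := C.sub_mem h1 hc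
    have h3 : c + (1 : F) • b - (0 : F) • a - (Q b * 1) • a - c = b - Q b • a := by
      rw [one_smul, zero_smul, mul_one]; abel
    rw [h3] at h2
    exact h2
  -- Step 3: `a ∈ C`
  have haC : a ∈ C := by
    set φ : V →ₗ[F] (F × F × F) :=
      (QuadraticMap.polarBilin Q a).prod
        ((QuadraticMap.polarBilin Q lam).prod (QuadraticMap.polarBilin Q c)) with hφ
    have hker : ∀ x : V, x ∈ LinearMap.ker φ ↔ (QuadraticMap.polar (⇑Q) a x = 0 ∧
        QuadraticMap.polar (⇑Q) lam x = 0 ∧ QuadraticMap.polar (⇑Q) c x = 0) := by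
      intro x
      rw [LinearMap.mem_ker]
      constructor
      · intro h
        have hmem : ((QuadraticMap.polarBilin Q a).prod
          ((QuadraticMap.polarBilin Q lam).prod (QuadraticMap.polarBilin Q c))) x = 0 := h
        exact ⟨congrArg Prod.fst hmem, congrArg (fun p => p.2.1) hmem,
          congrArg (fun p => p.2.2) hmem⟩
      · rintro ⟨h1, h2, h3⟩
        show ((QuadraticMap.polarBilin Q a).prod
          ((QuadraticMap.polarBilin Q lam).prod (QuadraticMap.polarBilin Q c))) x = 0
        exact Prod.ext h1 (Prod.ext h2 h3)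
    by_contra haC
    -- all pairs in the kernel are orthogonal
    have hiso : ∀ b ∈ LinearMap.ker φ, ∀ b' ∈ LinearMap.ker φ,
        QuadraticMap.polar (⇑Q) b b' = 0 := by
      intro b hb b' hb'
      by_contra hne
      obtain ⟨h1, h2, h3⟩ := (hker b).mp hb
      obtain ⟨h1', h2', h3'⟩ := (hker b').mp hb'
      have e1 := hstar b h1 h2 h3
      have e2 := hstar b' h1' h2' h3'
      have e3 := hstar (b + b') (by rw [QuadraticMap.polar_add_right, h1, h1', add_zero])
        (by rw [QuadraticMap.polar_add_right, h2, h2', add_zero])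
        (by rw [QuadraticMap.polar_add_right, h3, h3', add_zero])
      have e4 : (b - Q b • a) + (b' - Q b' • a) - (b + b' - Q (b + b') • a) ∈ C :=
        C.sub_mem (C.add_mem e1 e2) e3
      have e5 : (b - Q b • a) + (b' - Q b' • a) - (b + b' - Q (b + b') • a)
          = QuadraticMap.polar (⇑Q) b b' • a := by
        rw [QuadraticMap.polar]
        rw [sub_smul, sub_smul]
        abel
      rw [e5] at e4
      apply haC
      have := C.smul_mem (QuadraticMap.polar (⇑Q) b b')⁻¹ e4
      rwa [smul_smul, inv_mul_cancel₀ hne, one_smul] at this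
    have hle : LinearMap.ker φ ≤ LinearMap.BilinForm.orthogonal (QuadraticMap.polarBilin Q) (LinearMap.ker φ) := by
      intro x hx
      rw [LinearMap.BilinForm.mem_orthogonal_iff]
      intro n hn
      exact hiso n hn x hx
    have h1 := LinearMap.finrank_range_add_finrank_ker φ
    have h2 : finrank F (LinearMap.range φ) ≤ 3 := by
      have := Submodule.finrank_le (LinearMap.range φ)
      rw [Module.finrank_prod, Module.finrank_prod, Module.finrank_self] at this
      omega
    have h3 := LinearMap.BilinForm.finrank_orthogonal hnd (LinearMap.ker φ)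
    have h4 := Submodule.finrank_mono hle
    have hdimV := hS.dim
    have h5 : finrank F (LinearMap.BilinForm.orthogonal (QuadraticMap.polarBilin Q) (LinearMap.ker φ))
        ≤ finrank F (LinearMap.ker φ) := by omega
    have heq : LinearMap.ker φ = LinearMap.BilinForm.orthogonal (QuadraticMap.polarBilin Q) (LinearMap.ker φ) :=
      Submodule.eq_of_le_of_finrank_le hle h5
    have ha_orth : a ∈ LinearMap.BilinForm.orthogonal (QuadraticMap.polarBilin Q) (LinearMap.ker φ) := by
      rw [LinearMap.BilinForm.mem_orthogonal_iff]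
      intro n hn
      rw [QuadraticMap.polarBilin_apply_apply, QuadraticMap.polar_comm]
      exact ((hker n).mp hn).1
    rw [← heq] at ha_orth
    have := ((hker a).mp ha_orth).2.2
    rw [hca] at this
    exact one_ne_zero this
  -- Step 4
  intro x hx
  have hcc : QuadraticMap.polar (⇑Q) c c = 0 := by
    have h2 : (2 : F) = 0 := by
      rcases hS.f2 2 with h | h
      · exact h
      · exfalso
        have : (1 : F) = 0 := by linear_combination h
        exact one_ne_zero this
    rw [Cfsg.Agent.Lib.Helper44_QuadClass.polar_self', h2, zero_mul]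
  have haa : QuadraticMap.polar (⇑Q) a a = 0 := by
    rw [Cfsg.Agent.Lib.Helper44_QuadClass.polar_self', haQ, mul_zero]
  set x' : V := x - QuadraticMap.polar (⇑Q) c x • a - QuadraticMap.polar (⇑Q) a x • c with hx'
  have h1 : QuadraticMap.polar (⇑Q) a x' = 0 := by
    rw [hx', QuadraticMap.polar_sub_right, QuadraticMap.polar_sub_right,
      QuadraticMap.polar_smul_right, QuadraticMap.polar_smul_right, haa, hac]
    simp
  have h2 : QuadraticMap.polar (⇑Q) lam x' = 0 := by
    rw [hx', QuadraticMap.polar_sub_right, QuadraticMap.polar_sub_right,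
      QuadraticMap.polar_smul_right, QuadraticMap.polar_smul_right, hla, hlc, hx]
    simp
  have h3 : QuadraticMap.polar (⇑Q) c x' = 0 := by
    rw [hx', QuadraticMap.polar_sub_right, QuadraticMap.polar_sub_right,
      QuadraticMap.polar_smul_right, QuadraticMap.polar_smul_right, hca, hcc]
    simp
  have h4 := hstar x' h1 h2 h3
  have h5 : x' ∈ C := by
    have := C.add_mem h4 (C.smul_mem (Q x') haC)
    rwa [sub_add_cancel] at this
  have h6 : x = x' + QuadraticMap.polar (⇑Q) c x • a + QuadraticMap.polar (⇑Q) a x • c := by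
    rw [hx']; abel
  rw [h6]
  exact C.add_mem (C.add_mem h5 (C.smul_mem _ haC)) (C.smul_mem _ hc)

theorem invariant_of_Kstab [Finite F] [FiniteDimensional F V] (Q : QuadraticForm F V) {k : ℕ}
    (hS : PlusSetting Q k) (hk : 3 ≤ k) {lam : V} (hlam : lam ≠ 0) (C : Submodule F V)
    (hlC : lam ∈ C) (hinv : ∀ g ∈ Kstab Q lam, C.map (g : V →ₗ[F] V) = C) :
    C = Submodule.span F {lam} ∨
      C = LinearMap.BilinForm.orthogonal (QuadraticMap.polarBilin Q) (Submodule.span F {lam}) ∨
      C = ⊤ := by
  have hdim : 6 ≤ finrank F V := by rw [hS.dim]; omega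
  have h2 : (2 : F) = 0 := by
    rcases hS.f2 2 with h | h
    · exact h
    · exfalso
      have : (1 : F) = 0 := by linear_combination h
      exact one_ne_zero this
  have hll : QuadraticMap.polar (⇑Q) lam lam = 0 := by
    rw [Cfsg.Agent.Lib.Helper44_QuadClass.polar_self', h2, zero_mul]
  have hfwd : ∀ g ∈ Kstab Q lam, ∀ x ∈ C, g x ∈ C := by
    intro g hg x hx
    have : g x ∈ C.map (g : V →ₗ[F] V) := ⟨x, hx, rfl⟩
    rwa [hinv g hg] at this
  have hspan_le : Submodule.span F {lam} ≤ C := by
    rw [Submodule.span_le]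
    intro x hx
    rw [Set.mem_singleton_iff.mp hx]
    exact hlC
  -- membership in `lam^⟂`
  have horth : ∀ x : V, x ∈ LinearMap.BilinForm.orthogonal (QuadraticMap.polarBilin Q)
      (Submodule.span F {lam}) ↔ QuadraticMap.polar (⇑Q) lam x = 0 := by
    intro x
    rw [LinearMap.BilinForm.mem_orthogonal_iff]
    constructor
    · intro h
      exact h lam (Submodule.mem_span_singleton_self lam)
    · intro h n hn
      obtain ⟨r, rfl⟩ := Submodule.mem_span_singleton.mp hn
      rw [map_smul, LinearMap.smul_apply, QuadraticMap.polarBilin_apply_apply, h, smul_zero]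
  by_cases hCo : ∀ x ∈ C, QuadraticMap.polar (⇑Q) lam x = 0
  · -- Case 1
    by_cases hCs : C ≤ Submodule.span F {lam}
    · left
      exact le_antisymm hCs hspan_le
    · right; left
      obtain ⟨c, hc, hcl⟩ := Set.not_subset.mp hCs
      apply le_antisymm
      · intro x hx
        exact (horth x).mpr (hCo x hx)
      · intro x hx
        exact le_of_orth Q hS hk hlam C hfwd hCo hc hcl x ((horth x).mp hx)
  · -- Case 2
    right; right
    push Not at hCo
    obtain ⟨c, hc, hlc⟩ := hCo
    have hlc1 : QuadraticMap.polar (⇑Q) lam c = 1 := by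
      rcases hS.f2 (QuadraticMap.polar (⇑Q) lam c) with h | h
      · exact absurd h hlc
      · exact h
    -- it suffices that `lam^⟂ ≤ C`
    have hsuff : (∀ x : V, QuadraticMap.polar (⇑Q) lam x = 0 → x ∈ C) → C = ⊤ := by
      intro h
      rw [eq_top_iff]
      intro x _
      have h1 : QuadraticMap.polar (⇑Q) lam (x - QuadraticMap.polar (⇑Q) lam x • c) = 0 := by
        rw [QuadraticMap.polar_sub_right, QuadraticMap.polar_smul_right, hlc1]
        simp
      have h3 := C.add_mem (h _ h1) (C.smul_mem (QuadraticMap.polar (⇑Q) lam x) hc)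
      rwa [sub_add_cancel] at h3
    apply hsuff
    -- the invariant subspace `C ⊓ lam^⟂`
    set C' : Submodule F V := C ⊓ LinearMap.BilinForm.orthogonal (QuadraticMap.polarBilin Q)
      (Submodule.span F {lam}) with hC'
    have hfwd' : ∀ g ∈ Kstab Q lam, ∀ x ∈ C', g x ∈ C' := by
      intro g hg x hx
      refine ⟨hfwd g hg x hx.1, ?_⟩
      apply (horth _).mpr
      rw [Kstab_orth Q lam hg]
      exact (horth x).mp hx.2
    have hCo' : ∀ x ∈ C', QuadraticMap.polar (⇑Q) lam x = 0 := fun x hx => (horth x).mp hx.2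
    by_cases hCs : C' ≤ Submodule.span F {lam}
    · -- contradiction: produce an element of `C'` outside `span lam`
      exfalso
      obtain ⟨z, hz⟩ : ∃ z : V, QuadraticMap.polar (⇑Q) z lam = 1 := ⟨c, by
        rw [QuadraticMap.polar_comm]; exact hlc1⟩
      obtain ⟨a, ha0, haQ, hla, hca, hza⟩ := exists_singular_orth3 Q hdim lam c z
      have hal : QuadraticMap.polar (⇑Q) a lam = 0 := by rw [QuadraticMap.polar_comm]; exact hla
      have hg : E Q a lam ∈ Kstab Q lam :=
        Subgroup.subset_closure ⟨a, lam, haQ, hal, hla, hll, rfl⟩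
      have h1 := hfwd _ hg c hc
      have hcl1 : QuadraticMap.polar (⇑Q) c lam = 1 := by
        rw [QuadraticMap.polar_comm]; exact hlc1
      rw [E_apply Q haQ hal, hca, hcl1] at h1
      have h3 : a ∈ C := by
        have h4 : c - (c + (0 : F) • lam - (1 : F) • a - (Q lam * 0) • a) ∈ C := C.sub_mem hc h1
        have h5 : c - (c + (0 : F) • lam - (1 : F) • a - (Q lam * 0) • a) = a := by
          rw [zero_smul, one_smul, mul_zero, zero_smul]; abel
        rwa [h5] at h4
      have h4 : a ∈ C' := ⟨h3, (horth a).mpr hla⟩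
      obtain ⟨r, hr⟩ := Submodule.mem_span_singleton.mp (hCs h4)
      rcases hS.f2 r with h | h
      · rw [h, zero_smul] at hr
        exact ha0 hr.symm
      · rw [h, one_smul] at hr
        rw [← hr, hz] at hza
        exact one_ne_zero hza
    · obtain ⟨c', hc', hcl'⟩ := Set.not_subset.mp hCs
      intro x hx
      exact (le_of_orth Q hS hk hlam C' hfwd' hCo' hc' hcl' x hx).1

end Cfsg.Agent.Lib.Helper76_MI2_SUBI
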