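import Mathlib
import Cfsg.Agent.Lib.Helper22_MI2Defs

/-!
# MI2-SUBIII (helper76, for helper22's S2146 market)

Four images of an anisotropic plane through `lam` under `Kstab Q lam`.
-/

set_option autoImplicit false

namespace Cfsg.Agent.Lib.Helper76_MI2_SUBIII

open Module Cfsg.Agent.Lib.Helper14_OmegaSimple Cfsg.Agent.Lib.Helper22_MI2Defs

variable {F V : Type*} [Field F] [AddCommGroup V] [Module F V]

/-- In dimension at least six, three linear conditions `B(zᵢ, a) = 0` are satisfied by a nonzero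
singular vector. -/
theorem exists_singular_orth3 [Finite F] [FiniteDimensional F V] (Q : QuadraticForm F V)
    (hdim : 6 ≤ finrank F V) (z₁ z₂ z₃ : V) :
    ∃ a : V, a ≠ 0 ∧ Q a = 0 ∧ QuadraticMap.polar (⇑Q) z₁ a = 0 ∧
      QuadraticMap.polar (⇑Q) z₂ a = 0 ∧ QuadraticMap.polar (⇑Q) z₃ a = 0 := by
  set φ : V →ₗ[F] (F × F × F) :=
    (QuadraticMap.polarBilin Q z₁).prod
      ((QuadraticMap.polarBilin Q z₂).prod (QuadraticMap.polarBilin Q z₃)) with hφ
  have h1 := LinearMap.finrank_range_add_finrank_ker φ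
  have h2 : finrank F (LinearMap.range φ) ≤ 3 := by
    have := Submodule.finrank_le (LinearMap.range φ)
    rw [Module.finrank_prod, Module.finrank_prod, Module.finrank_self] at this
    omega
  have h3 : 3 ≤ finrank F (LinearMap.ker φ) := by omega
  obtain ⟨v, hv0, hv⟩ :=
    Cfsg.Agent.Lib.Helper44_QuadClass.exists_singular (Q.comp (LinearMap.ker φ).subtype) h3
  have hmem0 : φ (v : V) = 0 := LinearMap.mem_ker.mp v.2
  have hmem : ((QuadraticMap.polarBilin Q z₁).prod
      ((QuadraticMap.polarBilin Q z₂).prod (QuadraticMap.polarBilin Q z₃))) (v : V) = 0 := hmem0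
  have hm1 : QuadraticMap.polar (⇑Q) z₁ (v : V) = 0 := congrArg Prod.fst hmem
  have hm2 : QuadraticMap.polar (⇑Q) z₂ (v : V) = 0 := congrArg (fun p => p.2.1) hmem
  have hm3 : QuadraticMap.polar (⇑Q) z₃ (v : V) = 0 := congrArg (fun p => p.2.2) hmem
  refine ⟨(v : V), ?_, ?_, hm1, hm2, hm3⟩
  · intro h
    apply hv0
    exact Subtype.ext h
  · simpa using hv

theorem four_images_aniso [Finite F] [FiniteDimensional F V] (Q : QuadraticForm F V) {k : ℕ}
    (hS : PlusSetting Q k) (hk : 3 ≤ k) {lam mu : V} (hl : Q lam ≠ 0) (hm : Q mu ≠ 0)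
    (hlm : QuadraticMap.polar (⇑Q) lam mu ≠ 0) :
    ∃ f : Fin 4 → (V ≃ₗ[F] V), (∀ i, f i ∈ Kstab Q lam) ∧
      Function.Injective (fun i => (Submodule.span F {lam, mu}).map (f i : V →ₗ[F] V)) := by
  have hdim : 6 ≤ finrank F V := by rw [hS.dim]; omega
  have h2 : (2 : F) = 0 := by
    rcases hS.f2 2 with h | h
    · exact h
    · exfalso
      have : (1 : F) = 0 := by linear_combination h
      exact one_ne_zero this
  have hll : QuadraticMap.polar (⇑Q) lam lam = 0 := by
    rw [Cfsg.Agent.Lib.Helper44_QuadClass.polar_self', h2, zero_mul]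
  have hnd := hS.nondeg
  -- nonzero vectors pair to `1` with something
  have hone : ∀ a : V, a ≠ 0 → ∃ z : V, QuadraticMap.polar (⇑Q) z a = 1 := by
    intro a ha
    have hex : ∃ y, QuadraticMap.polarBilin Q a y ≠ 0 := by
      by_contra hcon
      push Not at hcon
      exact ha (hnd.1 a hcon)
    obtain ⟨y, hy⟩ := hex
    rw [QuadraticMap.polarBilin_apply_apply] at hy
    refine ⟨y, ?_⟩
    rw [QuadraticMap.polar_comm]
    rcases hS.f2 (QuadraticMap.polar (⇑Q) a y) with h | h
    · exact absurd h hy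
    · exact h
  -- three distinct nonzero singular vectors orthogonal to `lam`, `mu`
  obtain ⟨a₁, ha₁0, ha₁Q, ha₁l, ha₁m, -⟩ := exists_singular_orth3 Q hdim lam mu 0
  obtain ⟨z₁, hz₁⟩ := hone a₁ ha₁0
  obtain ⟨a₂, ha₂0, ha₂Q, ha₂l, ha₂m, ha₂z⟩ := exists_singular_orth3 Q hdim lam mu z₁
  have h12 : a₁ ≠ a₂ := by
    intro h
    rw [h, ha₂z] at hz₁
    exact zero_ne_one hz₁
  obtain ⟨z, hza₁, hza₂⟩ : ∃ z : V, QuadraticMap.polar (⇑Q) z a₁ = 1 ∧
      QuadraticMap.polar (⇑Q) z a₂ = 1 := by
    obtain ⟨z₂, hz₂⟩ := hone a₂ ha₂0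
    rcases hS.f2 (QuadraticMap.polar (⇑Q) z₂ a₁) with h | h
    · refine ⟨z₁ + z₂, ?_, ?_⟩
      · rw [QuadraticMap.polar_add_left, hz₁, h, add_zero]
      · rw [QuadraticMap.polar_add_left, ha₂z, hz₂, zero_add]
    · exact ⟨z₂, h, hz₂⟩
  obtain ⟨a₃, ha₃0, ha₃Q, ha₃l, ha₃m, ha₃z⟩ := exists_singular_orth3 Q hdim lam mu z
  have h13 : a₁ ≠ a₃ := by
    intro h
    rw [h, ha₃z] at hza₁
    exact zero_ne_one hza₁
  have h23 : a₂ ≠ a₃ := by
    intro h
    rw [h, ha₃z] at hza₂
    exact zero_ne_one hza₂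
  -- the family
  set av : Fin 4 → V := ![0, a₁, a₂, a₃] with hav
  have havQ : ∀ i, Q (av i) = 0 := by
    intro i; fin_cases i <;> simp [hav, ha₁Q, ha₂Q, ha₃Q]
  have havl : ∀ i, QuadraticMap.polar (⇑Q) lam (av i) = 0 := by
    intro i; fin_cases i <;> simp [hav, ha₁l, ha₂l, ha₃l, QuadraticMap.polar_zero_right]
  have havm : ∀ i, QuadraticMap.polar (⇑Q) mu (av i) = 0 := by
    intro i; fin_cases i <;> simp [hav, ha₁m, ha₂m, ha₃m, QuadraticMap.polar_zero_right]
  have havinj : Function.Injective av := by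
    intro i j hij
    fin_cases i <;> fin_cases j <;> simp [hav] at hij <;> first
      | rfl
      | (exfalso; first
          | exact ha₁0 hij | exact ha₂0 hij | exact ha₃0 hij
          | exact ha₁0 hij.symm | exact ha₂0 hij.symm | exact ha₃0 hij.symm
          | exact h12 hij | exact h13 hij | exact h23 hij
          | exact h12 hij.symm | exact h13 hij.symm | exact h23 hij.symm)
  have hal : ∀ i, QuadraticMap.polar (⇑Q) (av i) lam = 0 := fun i => by
    rw [QuadraticMap.polar_comm]; exact havl i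
  refine ⟨fun i => E Q (av i) lam, ?_, ?_⟩
  · intro i
    exact Subgroup.subset_closure ⟨av i, lam, havQ i, hal i, havl i, hll, rfl⟩
  · -- images
    have hElam : ∀ i, E Q (av i) lam lam = lam := by
      intro i
      rw [E_apply Q (havQ i) (hal i), havl i, hll]
      simp
    have hEmu : ∀ i, E Q (av i) lam mu = mu - QuadraticMap.polar (⇑Q) mu lam • av i := by
      intro i
      rw [E_apply Q (havQ i) (hal i), havm i]
      simp
    have hmap : ∀ i, (Submodule.span F {lam, mu}).map ((E Q (av i) lam : V ≃ₗ[F] V) : V →ₗ[F] V)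
        = Submodule.span F {lam, mu - QuadraticMap.polar (⇑Q) mu lam • av i} := by
      intro i
      rw [Submodule.map_span, Set.image_pair]
      simp only [LinearEquiv.coe_coe]
      rw [hElam i, hEmu i]
    intro i j hij
    simp only at hij
    rw [hmap i, hmap j] at hij
    apply havinj
    set c := QuadraticMap.polar (⇑Q) mu lam with hc
    have hc0 : c ≠ 0 := by rw [hc, QuadraticMap.polar_comm]; exact hlm
    have hmem : mu - c • av j ∈ Submodule.span F {lam, mu - c • av i} := by
      rw [hij]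
      exact Submodule.subset_span (by simp)
    obtain ⟨x, y, hxy⟩ := Submodule.mem_span_pair.mp hmem
    -- apply `B(lam, ·)`
    have e1 := congrArg (fun v => QuadraticMap.polar (⇑Q) lam v) hxy
    simp only [QuadraticMap.polar_add_right, QuadraticMap.polar_smul_right,
      QuadraticMap.polar_sub_right, hll, havl, smul_eq_mul, mul_zero, sub_zero, zero_add] at e1
    have hy1 : y = 1 := by
      have : (y - 1) * QuadraticMap.polar (⇑Q) lam mu = 0 := by linear_combination e1
      rcases mul_eq_zero.mp this with h | h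
      · linear_combination h
      · exact absurd h hlm
    -- apply `B(mu, ·)`
    have hmm : QuadraticMap.polar (⇑Q) mu mu = 0 := by
      rw [Cfsg.Agent.Lib.Helper44_QuadClass.polar_self', h2, zero_mul]
    have e2 := congrArg (fun v => QuadraticMap.polar (⇑Q) mu v) hxy
    simp only [QuadraticMap.polar_add_right, QuadraticMap.polar_smul_right,
      QuadraticMap.polar_sub_right, hmm, havm, smul_eq_mul, mul_zero, sub_zero, zero_add,
      add_zero] at e2
    have hx0 : x = 0 := by
      rcases mul_eq_zero.mp e2 with h | h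
      · exact h
      · exact absurd h hc0
    rw [hx0, hy1, zero_smul, zero_add, one_smul] at hxy
    have h5 : c • av i = c • av j := by
      have := congrArg (fun v => mu - v) hxy
      simpa using this
    exact smul_right_injective V hc0 h5

end Cfsg.Agent.Lib.Helper76_MI2_SUBIII
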