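import Mathlib
import Cfsg.Agent.Lib.Helper22_MI2Defs
import Cfsg.Agent.Lib.Helper22_MI2_Sub
import Cfsg.Agent.Lib.Helper42_MI2_SCNT
import Cfsg.Agent.Lib.Helper76_MI2_SUBIII
import Cfsg.Agent.Lib.Helper73_MI2_PERF
import Cfsg.Agent.Lib.Helper52_MI2_PERM
import Cfsg.Agent.Lib.Helper76_MI2_SUBI
import Cfsg.Agent.Lib.Helper73_MI2_ROT
import Cfsg.Agent.Lib.Helper54_MI2_SUBCNT

set_option autoImplicit false

/-!
S2146, package MI2-SUB (helper22): tools for the bound in the `C`-form (`C = S^⟂`): numerics `nums`,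
totally singular subspaces, `not_invariant` / `two_le_through` (a subspace `C ∋ lam` of dimension between
`2` and `2k - 2` is moved by `Kstab Q lam`, so at least two members of its orbit contain `lam`).
-/

namespace Cfsg.Agent.Lib.Helper22_MI2_SubC

open Module Cfsg.Agent.Lib.Helper14_OmegaSimple Cfsg.Agent.Lib.Helper22_MI2Defs
  Cfsg.Agent.Lib.Helper44_QuadClass Cfsg.Agent.Lib.Helper94_Symp Cfsg.Agent.Lib.Helper94_OrthSmall
  Cfsg.Agent.Lib.Helper22_MI2_Sub

variable {F V : Type*} [Field F] [AddCommGroup V] [Module F V]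


/-- numerics: `P = 2^(k-1)`. -/
theorem nums (k : ℕ) (hk : 3 ≤ k) : ∃ P : ℕ, 4 ≤ P ∧ 2 ^ (2 * k) = 4 * (P * P) ∧
    Nmin k + P = 2 * (P * P) ∧ Nmin (k + 1) + 2 * P = 8 * (P * P) ∧ 2 ^ k = 2 * P := by
  obtain ⟨j, rfl⟩ : ∃ j, k = j + 3 := ⟨k - 3, by omega⟩
  refine ⟨2 ^ (j + 2), ?_, ?_, ?_, ?_, ?_⟩
  · have : 1 ≤ 2 ^ j := Nat.one_le_two_pow
    calc 4 = 4 * 1 := by norm_num
      _ ≤ 4 * 2 ^ j := Nat.mul_le_mul_left 4 this
      _ = 2 ^ (j + 2) := by ring
  · ring
  · unfold Nmin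
    have e1 : j + 3 - 1 = j + 2 := by omega
    rw [e1]
    have h1 : 1 ≤ 2 ^ (j + 3) := Nat.one_le_two_pow
    obtain ⟨t, ht⟩ : ∃ t, 2 ^ (j + 3) = t + 1 := ⟨2 ^ (j + 3) - 1, by omega⟩
    have e2 : 2 * (2 ^ (j + 2) * 2 ^ (j + 2)) = 2 ^ (j + 2) * 2 ^ (j + 3) := by ring
    rw [e2, ht, Nat.add_sub_cancel]
    ring
  · unfold Nmin
    have e1 : j + 3 + 1 - 1 = j + 3 := by omega
    rw [e1]
    have h1 : 1 ≤ 2 ^ (j + 3 + 1) := Nat.one_le_two_pow
    obtain ⟨t, ht⟩ : ∃ t, 2 ^ (j + 3 + 1) = t + 1 := ⟨2 ^ (j + 3 + 1) - 1, by omega⟩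
    have e2 : 8 * (2 ^ (j + 2) * 2 ^ (j + 2)) = 2 ^ (j + 3) * 2 ^ (j + 3 + 1) := by ring
    have e3 : 2 * 2 ^ (j + 2) = 2 ^ (j + 3) := by ring
    rw [e2, e3, ht, Nat.add_sub_cancel]
    ring
  · ring

theorem polar_eq_zero_of_ts (Q : QuadraticForm F V) (C : Submodule F V) (hts : ∀ x ∈ C, Q x = 0)
    {x y : V} (hx : x ∈ C) (hy : y ∈ C) : QuadraticMap.polar (⇑Q) x y = 0 := by
  rw [QuadraticMap.polar, hts _ (C.add_mem hx hy), hts x hx, hts y hy]
  simp

theorem finrank_le_of_ts [FiniteDimensional F V] (Q : QuadraticForm F V)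
    (hnd : (QuadraticMap.polarBilin Q).Nondegenerate) (C : Submodule F V)
    (hts : ∀ x ∈ C, Q x = 0) : 2 * finrank F C ≤ finrank F V := by
  have hle : C ≤ LinearMap.BilinForm.orthogonal (QuadraticMap.polarBilin Q) C := by
    intro x hx
    rw [LinearMap.BilinForm.mem_orthogonal_iff]
    intro n hn
    show QuadraticMap.polarBilin Q n x = 0
    rw [QuadraticMap.polarBilin_apply_apply]
    exact polar_eq_zero_of_ts Q C hts hn hx
  have h1 := Submodule.finrank_mono hle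
  rw [LinearMap.BilinForm.finrank_orthogonal hnd] at h1
  have h2 := Submodule.finrank_le C
  omega

/-- a permutation of order dividing three of a set with at most two elements is trivial. -/
theorem fix_of_pow_three {α : Type*} (s : Set α) (hs : s.Finite) (hcard : s.ncard ≤ 2)
    (π : α → α) (hπ : ∀ a ∈ s, π a ∈ s) (hinj : ∀ a ∈ s, ∀ b ∈ s, π a = π b → a = b)
    (h3 : ∀ a ∈ s, π (π (π a)) = a) {c : α} (hc : c ∈ s) : π c = c := by
  by_contra hne
  have h1 : π c ∈ s := hπ c hc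
  have h2 : π (π c) ∈ s := hπ _ h1
  have hsub : ({c, π c, π (π c)} : Set α) ⊆ s := by
    intro x hx
    rcases hx with rfl | rfl | rfl
    · exact hc
    · exact h1
    · exact h2
  have hne2 : π (π c) ≠ π c := fun h => hne (hinj _ h1 _ hc h)
  have hne3 : π (π c) ≠ c := by
    intro h
    have := h3 c hc
    rw [h] at this
    exact hne this
  have hcard3 : ({c, π c, π (π c)} : Set α).ncard = 3 := by
    rw [Set.ncard_eq_three]
    exact ⟨c, π c, π (π c), fun h => hne h.symm, fun h => hne3 h.symm, fun h => hne2 h.symm, rfl⟩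
  have := Set.ncard_le_ncard hsub hs
  omega

instance finite_submodule [Finite F] [FiniteDimensional F V] : Finite (Submodule F V) := by
  have : Finite V := Module.finite_of_finite F
  exact Finite.of_injective (fun S : Submodule F V => (S : Set V)) SetLike.coe_injective

/-- a subspace through `lam` of dimension between `2` and `2k - 2` is moved by `Kstab Q lam`. -/
theorem not_invariant [Finite F] [FiniteDimensional F V] (Q : QuadraticForm F V) {k : ℕ}
    (hS : PlusSetting Q k) (hk : 3 ≤ k) {lam : V} (hlam : lam ≠ 0) (C : Submodule F V)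
    (hlC : lam ∈ C) (h2 : 2 ≤ finrank F C) (h2' : finrank F C + 2 ≤ 2 * k) :
    ∃ g ∈ Kstab Q lam, C.map (g : V →ₗ[F] V) ≠ C := by
  by_contra hcon
  push Not at hcon
  rcases Cfsg.Agent.Lib.Helper76_MI2_SUBI.invariant_of_Kstab Q hS hk hlam C hlC hcon with h | h | h
  · rw [h, finrank_span_singleton hlam] at h2
    omega
  · have := LinearMap.BilinForm.finrank_orthogonal hS.nondeg (Submodule.span F {lam})
    rw [← h, finrank_span_singleton hlam, hS.dim] at this
    omega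
  · rw [h, finrank_top, hS.dim] at h2'
    omega

/-- the members of the orbit of `C` through `lam` are permuted by `Kstab Q lam`. -/
theorem through_map [Finite F] [FiniteDimensional F V] (Q : QuadraticForm F V) {k : ℕ}
    (hS : PlusSetting Q k) (hk : 3 ≤ k) {lam : V} (C : Submodule F V) {C' : Submodule F V}
    (hC' : C' ∈ {C' | C' ∈ subOrbit Q C ∧ lam ∈ C'}) {g : V ≃ₗ[F] V} (hg : g ∈ Kstab Q lam) :
    C'.map (g : V →ₗ[F] V) ∈ {C' | C' ∈ subOrbit Q C ∧ lam ∈ C'} := by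
  have hdim : 5 ≤ finrank F V := by rw [hS.dim]; omega
  refine ⟨map_mem_subOrbit Q C hC'.1 (Kstab_le_T Q hS.nondeg hdim lam hg), ?_⟩
  rw [Submodule.mem_map]
  exact ⟨lam, hC'.2, Kstab_fix Q lam hg⟩

/-- at least two members of the orbit of `C` contain `lam ∈ C`. -/
theorem two_le_through [Finite F] [FiniteDimensional F V] (Q : QuadraticForm F V) {k : ℕ}
    (hS : PlusSetting Q k) (hk : 3 ≤ k) {lam : V} (hlam : lam ≠ 0) (C : Submodule F V)
    (hlC : lam ∈ C) (h2 : 2 ≤ finrank F C) (h2' : finrank F C + 2 ≤ 2 * k) :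
    2 ≤ {C' | C' ∈ subOrbit Q C ∧ lam ∈ C'}.ncard := by
  obtain ⟨g, hg, hne⟩ := not_invariant Q hS hk hlam C hlC h2 h2'
  have hC : C ∈ {C' | C' ∈ subOrbit Q C ∧ lam ∈ C'} := ⟨self_mem_subOrbit Q C, hlC⟩
  have hgC := through_map Q hS hk C hC hg
  have hsub : ({C.map (g : V →ₗ[F] V), C} : Set (Submodule F V)) ⊆
      {C' | C' ∈ subOrbit Q C ∧ lam ∈ C'} := by
    intro x hx
    rcases hx with rfl | rfl
    · exact hgC
    · exact hC
  have := Set.ncard_le_ncard hsub (Set.toFinite _)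
  rwa [Set.ncard_pair hne] at this

end Cfsg.Agent.Lib.Helper22_MI2_SubC
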