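import Mathlib
import Cfsg.Agent.Lib.Helper22_MI2Defs
import Cfsg.Agent.Lib.Helper22_MI2_SubC
import Cfsg.Agent.Lib.Helper73_MI2_ROT

set_option autoImplicit false

/-!
# MI2-TSB (S2146, architect helper22): at least three members of the orbit of a totally singular
subspace pass through a given nonzero vector of it (`k ≥ 3`).
-/

namespace Cfsg.Agent.Lib.Helper20_MI2_TSB

open Module Cfsg.Agent.Lib.Helper14_OmegaSimple Cfsg.Agent.Lib.Helper22_MI2Defs
  Cfsg.Agent.Lib.Helper22_MI2_SubC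

variable {F V : Type*} [Field F] [AddCommGroup V] [Module F V]

theorem three_le_through_ts [Finite F] [FiniteDimensional F V] (Q : QuadraticForm F V) {k : ℕ}
    (hS : PlusSetting Q k) (hk : 3 ≤ k) {lam : V} (hlam : lam ≠ 0) (C : Submodule F V)
    (hlC : lam ∈ C) (hts : ∀ x ∈ C, Q x = 0) (h2 : 2 ≤ finrank F C) :
    3 ≤ {C' | C' ∈ subOrbit Q C ∧ lam ∈ C'}.ncard := by
  by_contra hlt
  have hcard : {C' | C' ∈ subOrbit Q C ∧ lam ∈ C'}.ncard ≤ 2 := by omega
  obtain ⟨g, hg, hg3, hne⟩ := Cfsg.Agent.Lib.Helper73_MI2_ROT.exists_rotation_moving Q hS hk hlam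
    (hts lam hlC) C hlC hts h2
  have hC : C ∈ {C' | C' ∈ subOrbit Q C ∧ lam ∈ C'} :=
    ⟨Cfsg.Agent.Lib.Helper22_MI2_Sub.self_mem_subOrbit Q C, hlC⟩
  have h3 : ∀ a : Submodule F V, ((a.map (g : V →ₗ[F] V)).map (g : V →ₗ[F] V)).map
      (g : V →ₗ[F] V) = a := by
    intro a
    rw [← Submodule.map_comp, ← Submodule.map_comp]
    have : (((g : V →ₗ[F] V) ∘ₗ (g : V →ₗ[F] V)) ∘ₗ (g : V →ₗ[F] V)) =
        ((g ^ 3 : V ≃ₗ[F] V) : V →ₗ[F] V) := by
      ext v
      simp [pow_succ]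
    rw [this, hg3]
    exact Submodule.map_id a
  have := fix_of_pow_three {C' | C' ∈ subOrbit Q C ∧ lam ∈ C'} (Set.toFinite _) hcard
    (fun C' => C'.map (g : V →ₗ[F] V))
    (fun a ha => through_map Q hS hk C ha hg)
    (fun a _ b _ hab => Submodule.map_injective_of_injective g.injective hab)
    (fun a _ => h3 a) hC
  exact hne this

end Cfsg.Agent.Lib.Helper20_MI2_TSB
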