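import Mathlib
import Cfsg.Agent.Lib.Helper22_MI2Defs
import Cfsg.Agent.Lib.Helper22_MI2_SubC
import Cfsg.Agent.Lib.Helper54_MI2_SUBCNT
import Cfsg.Agent.Lib.Helper42_MI2_SCNT

set_option autoImplicit false

/-!
# MI2-TSN (S2146, architect helper22): the orbit bound for a totally singular subspace, from the
two incidence bounds.
-/

namespace Cfsg.Agent.Lib.Helper20_MI2_TSN

open Module Cfsg.Agent.Lib.Helper14_OmegaSimple Cfsg.Agent.Lib.Helper22_MI2Defs
  Cfsg.Agent.Lib.Helper22_MI2_SubC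

variable {F V : Type*} [Field F] [AddCommGroup V] [Module F V]

/-- in a totally singular subspace all nonzero vectors are singular -/
theorem card_nonzero_singular_of_ts [Finite F] [FiniteDimensional F V] (Q : QuadraticForm F V)
    (C : Submodule F V) (hts : ∀ x ∈ C, Q x = 0) :
    Nat.card {x : C // (x : V) ≠ 0 ∧ Q x = 0} + 1 = Nat.card C := by
  classical
  haveI : Finite V := Module.finite_of_finite F
  haveI : Fintype C := Fintype.ofFinite _
  have h1 : Nat.card {x : C // (x : V) ≠ 0 ∧ Q x = 0} = Nat.card {x : C // x ≠ 0} := by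
    apply Nat.card_congr
    apply Equiv.subtypeEquivRight
    intro x
    constructor
    · rintro ⟨hx, -⟩ h
      exact hx (by rw [h]; rfl)
    · intro hx
      refine ⟨fun h => hx (Subtype.ext h), hts x x.2⟩
  rw [h1, Nat.card_eq_fintype_card, Nat.card_eq_fintype_card, Fintype.card_subtype_compl,
    Fintype.card_subtype_eq]
  have : 0 < Fintype.card C := Fintype.card_pos
  omega

theorem sub_bound_ts [Finite F] [FiniteDimensional F V] (Q : QuadraticForm F V) {k : ℕ}
    (hS : PlusSetting Q k) (hk : 3 ≤ k) (C : Submodule F V) (h2 : 2 ≤ finrank F C)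
    (hts : ∀ x ∈ C, Q x = 0)
    (h4 : 4 ≤ k → ∀ lam ∈ C, lam ≠ 0 → 4 ≤ {C' | C' ∈ subOrbit Q C ∧ lam ∈ C'}.ncard)
    (h3 : ∀ lam ∈ C, lam ≠ 0 → 3 ≤ {C' | C' ∈ subOrbit Q C ∧ lam ∈ C'}.ncard) :
    Nmin (k + 1) ≤ Nat.card C * (subOrbit Q C).ncard := by
  obtain ⟨hfin, bs, bn, hbs, -, e1, -, e3⟩ :=
    Cfsg.Agent.Lib.Helper54_MI2_SUBCNT.orbit_count Q hS hk C
  obtain ⟨-, hσ⟩ := Cfsg.Agent.Lib.Helper42_MI2_SCNT.card_singular Q hS
  obtain ⟨P, hP4, hP1, hP2, hP3, hP5⟩ := nums k hk
  -- a nonzero vector of `C`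
  have hCne : C ≠ ⊥ := by
    intro h
    rw [h, finrank_bot] at h2
    omega
  obtain ⟨lam, hlC, hlam⟩ := Submodule.exists_mem_ne_zero_of_ne_bot hCne
  have hbs' := hbs lam hlam (hts lam hlC)
  have hn : 1 ≤ (subOrbit Q C).ncard := by
    rw [Nat.succ_le_iff, Set.ncard_pos hfin]
    exact ⟨C, Cfsg.Agent.Lib.Helper22_MI2_Sub.self_mem_subOrbit Q C⟩
  set n := (subOrbit Q C).ncard with hn_def
  set σ := Nat.card {x : V // x ≠ 0 ∧ Q x = 0} with hσ_def
  rw [mul_comm]
  by_cases hb4 : 4 ≤ bs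
  · have hA : σ * 4 ≤ σ * bs := Nat.mul_le_mul_left σ hb4
    generalize σ * bs = A at hA e3
    generalize Nmin k * bn = B at e3
    generalize P * P = X at hP1 hP2 hP3
    omega
  · have hb3 : 3 ≤ bs := by rw [← hbs']; exact h3 lam hlC hlam
    have hk3 : k = 3 := by
      by_contra hne
      have hk4 : 4 ≤ k := by omega
      have := h4 hk4 lam hlC hlam
      rw [hbs'] at this
      exact hb4 this
    subst hk3
    have hbs3 : bs = 3 := by omega
    have hP : P = 4 := by omega
    subst hP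
    have hσ35 : σ = 35 := by omega
    have hN4 : Nmin (3 + 1) = 120 := by omega
    have hd := finrank_le_of_ts Q hS.nondeg C hts
    rw [hS.dim] at hd
    have hcardC : Nat.card C = 2 ^ finrank F C := by
      rw [Module.natCard_eq_pow_finrank (K := F) (V := C),
        Cfsg.Agent.Lib.Helper42_MI2_SCNT.card_field_eq_two hS.f2]
    have hns := card_nonzero_singular_of_ts Q C hts
    rw [hN4]
    have hd23 : finrank F C = 2 ∨ finrank F C = 3 := by omega
    rcases hd23 with hd2 | hd3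
    · rw [hd2] at hcardC
      norm_num at hcardC
      rw [hcardC] at hns ⊢
      have : Nat.card {x : C // (x : V) ≠ 0 ∧ Q x = 0} = 3 := by omega
      rw [this, hσ35, hbs3] at e1
      omega
    · rw [hd3] at hcardC
      norm_num at hcardC
      rw [hcardC] at hns ⊢
      have : Nat.card {x : C // (x : V) ≠ 0 ∧ Q x = 0} = 7 := by omega
      rw [this, hσ35, hbs3] at e1
      omega

end Cfsg.Agent.Lib.Helper20_MI2_TSN
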