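import Mathlib
import Cfsg.Agent.Lib.Helper38_MIODefs
import Cfsg.Agent.Lib.Helper69_MIO_DUAL

/-!
# MIO-FAM (S2143, architect helper38): the orbit family of the root group `A = {E Q v w}` on a finite
`T Q`-set.
-/

set_option autoImplicit false

namespace Cfsg.Agent.Lib.Helper20_MIO_FAM

open Module Cfsg.Agent.Lib.Helper94_OrthSmall Cfsg.Agent.Lib.Helper44_QuadClass
  Cfsg.Agent.Lib.Helper14_OmegaSimple Cfsg.Agent.Lib.Helper38_MIODefs

variable {F V : Type*} [Field F] [Fintype F] [AddCommGroup V] [Module F V] [FiniteDimensional F V]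

/-- the polar form of an element of `perp Q v v'` with `v` vanishes -/
theorem polar_v_perp (Q : QuadraticForm F V) {v v' : V} (w : ↥(perp Q v v')) :
    QuadraticMap.polar (⇑Q) v (w : V) = 0 := ((mem_perp Q v v').1 w.2).1

/-- the action of `perp Q v v'` on `X` through `w ↦ E Q v w` -/
@[instance_reducible]
noncomputable def rootAction (Q : QuadraticForm F V)
    (hQ : (QuadraticMap.polarBilin Q).Nondegenerate) (hdim : 5 ≤ finrank F V) {v v' : V}
    (hv : Q v = 0) (X : Type*) [MulAction ↥(T Q) X] : AddAction ↥(perp Q v v') X where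
  vadd w x := act Q (E Q v (w : V)) x
  zero_vadd x := by
    show act Q (E Q v ((0 : ↥(perp Q v v')) : V)) x = x
    rw [Submodule.coe_zero, E_zero_right Q hv]
    exact act_one Q x
  add_vadd w w' x := by
    show act Q (E Q v ((w + w' : ↥(perp Q v v')) : V)) x =
      act Q (E Q v (w : V)) (act Q (E Q v (w' : V)) x)
    rw [Submodule.coe_add, ← E_mul Q hv (polar_v_perp Q w) (polar_v_perp Q w'),
      act_mul Q (E_mem_T Q hQ hdim hv (polar_v_perp Q w)) (E_mem_T Q hQ hdim hv (polar_v_perp Q w'))]

theorem exists_famData (Q : QuadraticForm F V) (hQ : (QuadraticMap.polarBilin Q).Nondegenerate)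
    (hdim : 5 ≤ finrank F V) {v v' : V} (hv : Q v = 0) (hv' : Q v' = 0)
    (hvv' : QuadraticMap.polar (⇑Q) v v' = 1) {X : Type*} [MulAction ↥(T Q) X] [Finite X] :
    ∃ (𝒪 : Type) (_ : Fintype 𝒪), Nonempty (FamData Q v v' X 𝒪) := by
  classical
  letI : AddAction ↥(perp Q v v') X := rootAction Q hQ hdim hv X
  have hvadd : ∀ (w : ↥(perp Q v v')) (x : X), w +ᵥ x = act Q (E Q v (w : V)) x := fun _ _ => rfl
  -- the pairing
  have hBnd : (Bp Q v v').Nondegenerate := nondegenerate_perp hQ hv hv' hvv'
  have hBs : ∀ x y, Bp Q v v' x y = Bp Q v v' y x := by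
    intro x y
    show QuadraticMap.polarBilin (Qp Q v v') x y = QuadraticMap.polarBilin (Qp Q v v') y x
    rw [QuadraticMap.polarBilin_apply_apply, QuadraticMap.polarBilin_apply_apply,
      QuadraticMap.polar_comm]
  -- the orbit space
  let Ω := AddAction.orbitRel.Quotient ↥(perp Q v v') X
  haveI : Finite Ω := Quotient.finite _
  let n := Nat.card Ω
  let e : Ω ≃ Fin n := Finite.equivFin Ω
  let orb : X → Fin n := fun x => e (Quotient.mk'' x)
  let rep : Fin n → X := fun O => Quotient.out (e.symm O)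
  have horb_rep : ∀ O, orb (rep O) = O := by
    intro O
    show e (Quotient.mk'' (Quotient.out (e.symm O))) = O
    rw [Quotient.mk''_eq_mk, Quotient.out_eq, Equiv.apply_symm_apply]
  have horb_eq : ∀ x y, orb x = orb y ↔ ∃ w : ↥(perp Q v v'), w +ᵥ x = y := by
    intro x y
    show e (Quotient.mk'' x) = e (Quotient.mk'' y) ↔ _
    rw [e.apply_eq_iff_eq, Quotient.eq'', AddAction.orbitRel_apply, AddAction.mem_orbit_iff]
    constructor
    · rintro ⟨w, hw⟩
      refine ⟨-w, ?_⟩
      rw [← hw, neg_vadd_vadd]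
    · rintro ⟨w, hw⟩
      refine ⟨-w, ?_⟩
      rw [← hw, neg_vadd_vadd]
  -- stabilisers are constant on orbits
  have hstab : ∀ x y, orb x = orb y →
      AddAction.stabilizer ↥(perp Q v v') x = AddAction.stabilizer ↥(perp Q v v') y := by
    have hle : ∀ x y, orb x = orb y →
        AddAction.stabilizer ↥(perp Q v v') x ≤ AddAction.stabilizer ↥(perp Q v v') y := by
      intro x y hxy w hw
      obtain ⟨u, rfl⟩ := (horb_eq x y).1 hxy
      rw [AddAction.mem_stabilizer_iff] at hw ⊢
      rw [vadd_vadd, add_comm, ← vadd_vadd, hw]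
    intro x y hxy
    exact le_antisymm (hle x y hxy) (hle y x hxy.symm)
  let C : Fin n → AddSubgroup ↥(perp Q v v') := fun O =>
    ann (Bp Q v v') (AddAction.stabilizer ↥(perp Q v v') (rep O))
  refine ⟨Fin n, inferInstance, ⟨{
    C := C
    orb := orb
    orb_surj := ?_
    orb_eq := ?_
    stab := ?_
    card := ?_ }⟩⟩
  · intro O
    exact ⟨rep O, horb_rep O⟩
  · intro x y
    rw [horb_eq]
    exact Iff.rfl
  · intro x w
    show w +ᵥ x = x ↔ w ∈ ann (Bp Q v v')
      (ann (Bp Q v v') (AddAction.stabilizer ↥(perp Q v v') (rep (orb x))))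
    rw [Cfsg.Agent.Lib.Helper69_MIO_DUAL.ann_ann (Bp Q v v') hBnd hBs,
      ← hstab x (rep (orb x)) (horb_rep (orb x)).symm, AddAction.mem_stabilizer_iff]
  · intro O
    show Nat.card (ann (Bp Q v v') (AddAction.stabilizer ↥(perp Q v v') (rep O))) = _
    have h1 := Cfsg.Agent.Lib.Helper69_MIO_DUAL.card_mul_card_ann (Bp Q v v') hBnd hBs
      (AddAction.stabilizer ↥(perp Q v v') (rep O))
    have h2 : Nat.card (AddAction.orbit ↥(perp Q v v') (rep O)) *
        Nat.card (AddAction.stabilizer ↥(perp Q v v') (rep O)) = Nat.card ↥(perp Q v v') := by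
      rw [Nat.card_congr (AddAction.orbitEquivQuotientStabilizer ↥(perp Q v v') (rep O))]
      exact AddSubgroup.index_mul_card _
    have h3 : Nat.card {x : X // orb x = O} =
        Nat.card (AddAction.orbit ↥(perp Q v v') (rep O)) := by
      apply Nat.card_congr
      apply Equiv.subtypeEquivRight
      intro x
      constructor
      · intro h
        obtain ⟨w, hw⟩ := (horb_eq (rep O) x).1 (by rw [horb_rep, h])
        exact AddAction.mem_orbit_iff.2 ⟨w, hw⟩
      · intro h
        obtain ⟨w, hw⟩ := AddAction.mem_orbit_iff.1 h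
        have := (horb_eq (rep O) x).2 ⟨w, hw⟩
        rw [← this, horb_rep]
    haveI : Finite ↥(perp Q v v') := Module.finite_of_finite F
    have hpos : 0 < Nat.card (AddAction.stabilizer ↥(perp Q v v') (rep O)) := Nat.card_pos
    rw [h3]
    have h4 : Nat.card (AddAction.stabilizer ↥(perp Q v v') (rep O)) *
        Nat.card (ann (Bp Q v v') (AddAction.stabilizer ↥(perp Q v v') (rep O))) =
        Nat.card (AddAction.stabilizer ↥(perp Q v v') (rep O)) *
        Nat.card (AddAction.orbit ↥(perp Q v v') (rep O)) := by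
      rw [h1, mul_comm, h2]
    exact Nat.eq_of_mul_eq_mul_left hpos h4

end Cfsg.Agent.Lib.Helper20_MIO_FAM
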