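import Mathlib

/-!
# Polynomial sequences in a group (Lazard, Leibman) and the Hall-Petresco power formula

For a group `G` with the filtration `L 0 = L 1 = G`, `L (i+1) = γ_{i+1}(G)`, a sequence
`f : ℕ → G` is "polynomial of depth `d` and level `j`" when `f`, `D f`, ..., `D^d f` take their
values in `L j`, `L (j+1)`, ..., `L (j+d)`, where `D f n = f (n+1) * (f n)⁻¹`.
The polynomial sequences form a group (theorem `main`), contain `n ↦ x ^ n` and
`n ↦ g ^ (n.choose i)` for `g ∈ L i`, and a polynomial sequence vanishing at `0, …, k-1`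
takes its values in `L k`.  This gives the Hall-Petresco formula in the form `eval_mem`,
`pow_mul_mem`: in a group of class `c < p`, `(x y)^(p^n) ≡ x^(p^n) y^(p^n)` modulo the subgroup
generated by `p^n`-th powers of elements of the derived subgroup.
-/

set_option autoImplicit false

namespace Cfsg.Agent.Lib.Helper64_PolySeq

open scoped commutatorElement

variable {G : Type*} [Group G]

/-- Three subgroups lemma modulo a normal subgroup. -/
theorem three_subgroups_normal (N : Subgroup G) [N.Normal]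
    (A B C : Subgroup G) (h1 : ⁅⁅B, C⁆, A⁆ ≤ N) (h2 : ⁅⁅C, A⁆, B⁆ ≤ N) :
    ⁅⁅A, B⁆, C⁆ ≤ N := by
  have key : ∀ X : Subgroup G, X ≤ N ↔ X.map (QuotientGroup.mk' N) = ⊥ := by
    intro X
    rw [Subgroup.map_eq_bot_iff, QuotientGroup.ker_mk']
  rw [key, Subgroup.map_commutator, Subgroup.map_commutator] at h1 h2 ⊢
  exact Subgroup.commutator_commutator_eq_bot_of_rotate h1 h2

theorem lcs_normal (n : ℕ) : ((⊤ : Subgroup G).lowerCentralSeries n).Normal := inferInstance

/-- `[γ_{i+1}, γ_{j+1}] ≤ γ_{i+j+2}`. -/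
theorem lcs_comm (i j : ℕ) :
    ⁅(⊤ : Subgroup G).lowerCentralSeries i, (⊤ : Subgroup G).lowerCentralSeries j⁆ ≤
      (⊤ : Subgroup G).lowerCentralSeries (i + j + 1) := by
  induction j generalizing i with
  | zero => exact le_rfl
  | succ j ih =>
    rw [Subgroup.lowerCentralSeries_succ, Subgroup.commutator_comm]
    have := lcs_normal (G := G) (i + (j + 1) + 1)
    apply three_subgroups_normal
    · rw [Subgroup.commutator_comm ⊤ ((⊤ : Subgroup G).lowerCentralSeries i),
        ← Subgroup.lowerCentralSeries_succ]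
      have := ih (i + 1)
      rwa [show i + 1 + j + 1 = i + (j + 1) + 1 by omega] at this
    · calc ⁅⁅(⊤ : Subgroup G).lowerCentralSeries i, (⊤ : Subgroup G).lowerCentralSeries j⁆, ⊤⁆
          ≤ ⁅(⊤ : Subgroup G).lowerCentralSeries (i + j + 1), ⊤⁆ :=
            Subgroup.commutator_mono (ih i) le_rfl
        _ = (⊤ : Subgroup G).lowerCentralSeries (i + (j + 1) + 1) := rfl

/-- The filtration `L 0 = L 1 = G`, `L (i+1) = γ_{i+1}(G)`. -/
def L (G : Type*) [Group G] (i : ℕ) : Subgroup G := (⊤ : Subgroup G).lowerCentralSeries (i - 1)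

theorem L_zero : L G 0 = ⊤ := rfl

theorem L_one : L G 1 = ⊤ := rfl

theorem L_two : L G 2 = commutator G := Subgroup.top_lowerCentralSeries_one

theorem L_succ (i : ℕ) : L G (i + 1) = (⊤ : Subgroup G).lowerCentralSeries i := rfl

instance L_normal (i : ℕ) : (L G i).Normal := lcs_normal _

theorem L_anti {i j : ℕ} (h : i ≤ j) : L G j ≤ L G i :=
  Subgroup.lowerCentralSeries_antitone ⊤ (Nat.sub_le_sub_right h 1)

theorem L_comm_mem {i j : ℕ} {x y : G} (hx : x ∈ L G i) (hy : y ∈ L G j) :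
    ⁅x, y⁆ ∈ L G (i + j) := by
  rcases i with _ | i
  · rw [Nat.zero_add, commutatorElement_def]
    exact (L G j).mul_mem ((L_normal j).conj_mem y hy x) ((L G j).inv_mem hy)
  rcases j with _ | j
  · rw [Nat.add_zero, commutatorElement_def, mul_assoc, mul_assoc]
    refine (L G (i + 1)).mul_mem hx ?_
    rw [← mul_assoc]
    exact (L_normal (i + 1)).conj_mem x⁻¹ ((L G (i + 1)).inv_mem hx) y
  · have h := lcs_comm (G := G) i j (Subgroup.commutator_mem_commutator hx hy)
    have e : i + 1 + (j + 1) = (i + j + 1) + 1 := by omega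
    rw [e]
    exact h

/-! ### Sequences -/

/-- The difference operator. -/
def D (f : ℕ → G) : ℕ → G := fun n => f (n + 1) * (f n)⁻¹

/-- The shift operator. -/
def T (f : ℕ → G) : ℕ → G := fun n => f (n + 1)

theorem D_mul (f g : ℕ → G) : D (f * g) = T f * D g * (T f)⁻¹ * D f := by
  funext n
  simp only [D, T, Pi.mul_apply, Pi.inv_apply]
  group

theorem D_inv (f : ℕ → G) : D f⁻¹ = (T f)⁻¹ * (D f)⁻¹ * ((T f)⁻¹)⁻¹ := by
  funext n
  simp only [D, T, Pi.mul_apply, Pi.inv_apply]
  group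

theorem D_comm (f g : ℕ → G) :
    D ⁅f, g⁆ = (D f * ⁅f, D g⁆ * (D f)⁻¹) * ⁅D f * D g, ⁅f, g⁆⁆ *
      (⁅f, g⁆ * (⁅D f, D g⁆ * (D g * ⁅D f, g⁆ * (D g)⁻¹)) * ⁅f, g⁆⁻¹) := by
  funext n
  simp only [D, commutatorElement_def, Pi.mul_apply, Pi.inv_apply]
  group

/-- `IsPoly d j f`: the iterated differences `D^k f`, `k ≤ d`, take values in `L (j + k)`. -/
def IsPoly : ℕ → ℕ → (ℕ → G) → Prop
  | 0, j, f => ∀ n, f n ∈ L G j
  | d + 1, j, f => (∀ n, f n ∈ L G j) ∧ IsPoly d (j + 1) (D f)

theorem IsPoly.mem {d j : ℕ} {f : ℕ → G} (h : IsPoly d j f) (n : ℕ) : f n ∈ L G j := by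
  cases d with
  | zero => exact h n
  | succ d => exact h.1 n

theorem IsPoly.mono {d j j' : ℕ} {f : ℕ → G} (hj : j' ≤ j) (h : IsPoly d j f) :
    IsPoly d j' f := by
  induction d generalizing j j' f with
  | zero => exact fun n => L_anti hj (h n)
  | succ d ih => exact ⟨fun n => L_anti hj (h.1 n), ih (Nat.succ_le_succ hj) h.2⟩

theorem IsPoly.pred {d j : ℕ} {f : ℕ → G} (h : IsPoly (d + 1) j f) : IsPoly d j f := by
  induction d generalizing j f with
  | zero => exact h.1
  | succ d ih => exact ⟨h.1, ih h.2⟩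

theorem IsPoly.shift {d j : ℕ} {f : ℕ → G} (h : IsPoly d j f) : IsPoly d j (T f) := by
  induction d generalizing j f with
  | zero => exact fun n => h (n + 1)
  | succ d ih => exact ⟨fun n => h.1 (n + 1), ih h.2⟩

/-- Polynomial sequences form a group, and commutators add levels. -/
theorem main (d : ℕ) :
    (∀ (j : ℕ) (f g : ℕ → G), IsPoly d j f → IsPoly d j g → IsPoly d j (f * g)) ∧
    (∀ (j : ℕ) (f : ℕ → G), IsPoly d j f → IsPoly d j f⁻¹) ∧
    (∀ (i j : ℕ) (f g : ℕ → G), IsPoly d i f → IsPoly d j g → IsPoly d (i + j) ⁅f, g⁆) := by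
  induction d with
  | zero =>
    exact ⟨fun j f g hf hg n => (L G j).mul_mem (hf n) (hg n),
      fun j f hf n => (L G j).inv_mem (hf n),
      fun i j f g hf hg n => L_comm_mem (hf n) (hg n)⟩
  | succ d ih =>
    obtain ⟨hM, hI, hC⟩ := ih
    have hconj : ∀ (i m : ℕ) (x y : ℕ → G), IsPoly d i x → IsPoly d m y →
        IsPoly d m (x * y * x⁻¹) := by
      intro i m x y hx hy
      have e : x * y * x⁻¹ = ⁅x, y⁆ * y := by rw [commutatorElement_def]; group
      rw [e]
      exact hM m _ _ ((hC i m x y hx hy).mono (Nat.le_add_left m i)) hy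
    refine ⟨?_, ?_, ?_⟩
    · intro j f g hf hg
      refine ⟨fun n => (L G j).mul_mem (hf.1 n) (hg.1 n), ?_⟩
      rw [D_mul]
      exact hM _ _ _ (hconj j (j + 1) _ _ hf.pred.shift hg.2) hf.2
    · intro j f hf
      refine ⟨fun n => (L G j).inv_mem (hf.1 n), ?_⟩
      rw [D_inv]
      exact hconj j (j + 1) _ _ (hI j _ hf.pred.shift) (hI (j + 1) _ hf.2)
    · intro i j f g hf hg
      refine ⟨fun n => L_comm_mem (hf.1 n) (hg.1 n), ?_⟩
      rw [D_comm]
      have ha : IsPoly d (i + 1) (D f) := hf.2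
      have hb : IsPoly d (j + 1) (D g) := hg.2
      have hf' : IsPoly d i f := hf.pred
      have hg' : IsPoly d j g := hg.pred
      have hu : IsPoly d (i + j) ⁅f, g⁆ := hC i j f g hf' hg'
      have h1 : IsPoly d (i + j + 1) (D f * ⁅f, D g⁆ * (D f)⁻¹) :=
        hconj (i + 1) _ _ _ ha (hC i (j + 1) f (D g) hf' hb)
      have hab : IsPoly d 1 (D f * D g) :=
        hM 1 _ _ (ha.mono (Nat.le_add_left 1 i)) (hb.mono (Nat.le_add_left 1 j))
      have h2 : IsPoly d (i + j + 1) ⁅D f * D g, ⁅f, g⁆⁆ := by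
        have := hC 1 (i + j) _ _ hab hu
        rwa [Nat.add_comm 1 (i + j)] at this
      have h3 : IsPoly d (i + j + 1) ⁅D f, D g⁆ :=
        (hC (i + 1) (j + 1) _ _ ha hb).mono (by omega)
      have h4 : IsPoly d (i + j + 1) (D g * ⁅D f, g⁆ * (D g)⁻¹) := by
        have h := hC (i + 1) j _ _ ha hg'
        exact (hconj (j + 1) (i + 1 + j) _ _ hb h).mono (by omega)
      have h5 := hM _ _ _ h3 h4
      have h6 := hconj (i + j) (i + j + 1) _ _ hu h5
      exact hM _ _ _ (hM _ _ _ h1 h2) h6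

theorem IsPoly.mul {d j : ℕ} {f g : ℕ → G} (hf : IsPoly d j f) (hg : IsPoly d j g) :
    IsPoly d j (f * g) := (main d).1 j f g hf hg

theorem IsPoly.inv {d j : ℕ} {f : ℕ → G} (hf : IsPoly d j f) : IsPoly d j f⁻¹ :=
  (main d).2.1 j f hf

theorem IsPoly.comm {d i j : ℕ} {f g : ℕ → G} (hf : IsPoly d i f) (hg : IsPoly d j g) :
    IsPoly d (i + j) ⁅f, g⁆ := (main d).2.2 i j f g hf hg

/-! ### Basic polynomial sequences -/

theorem isPoly_one (d j : ℕ) : IsPoly d j (1 : ℕ → G) := by
  induction d generalizing j with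
  | zero => exact fun n => (L G j).one_mem
  | succ d ih =>
    refine ⟨fun n => (L G j).one_mem, ?_⟩
    have e : D (1 : ℕ → G) = 1 := by funext n; simp [D]
    rw [e]
    exact ih (j + 1)

theorem isPoly_const (d : ℕ) {j : ℕ} {g : G} (hg : g ∈ L G j) :
    IsPoly d j (fun _ => g) := by
  cases d with
  | zero => exact fun n => hg
  | succ d =>
    refine ⟨fun n => hg, ?_⟩
    have e : D (fun _ : ℕ => g) = 1 := by funext n; simp [D]
    rw [e]
    exact isPoly_one d (j + 1)

theorem isPoly_choose (d : ℕ) {i j : ℕ} {g : G} (hg : g ∈ L G (i + j)) :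
    IsPoly d j (fun n => g ^ (n.choose i)) := by
  induction d generalizing i j with
  | zero => exact fun n => (L G j).pow_mem (L_anti (Nat.le_add_left j i) hg) _
  | succ d ih =>
    refine ⟨fun n => (L G j).pow_mem (L_anti (Nat.le_add_left j i) hg) _, ?_⟩
    cases i with
    | zero =>
      have e : D (fun n : ℕ => g ^ (n.choose 0)) = 1 := by funext n; simp [D]
      rw [e]
      exact isPoly_one d (j + 1)
    | succ i =>
      have e : D (fun n : ℕ => g ^ (n.choose (i + 1))) = fun n => g ^ (n.choose i) := by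
        funext n
        simp only [D]
        rw [Nat.choose_succ_succ', pow_add, mul_inv_cancel_right]
      rw [e]
      exact ih (by rwa [show i + (j + 1) = i + 1 + j by omega])

theorem isPoly_pow (d : ℕ) (x : G) : IsPoly d 0 (fun n => x ^ n) := by
  cases d with
  | zero => exact fun n => Subgroup.mem_top _
  | succ d =>
    refine ⟨fun n => Subgroup.mem_top _, ?_⟩
    have e : D (fun n : ℕ => x ^ n) = fun _ => x := by
      funext n
      simp only [D]
      rw [pow_succ', mul_inv_cancel_right]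
    rw [e]
    exact isPoly_const d (Subgroup.mem_top _)

/-! ### Vanishing and evaluation -/

theorem mem_of_vanish {k j : ℕ} {f : ℕ → G} (h : IsPoly k j f) (h0 : ∀ n < k, f n = 1) :
    ∀ n : ℕ, f n ∈ L G (j + k) := by
  induction k generalizing j f with
  | zero => exact fun n => h n
  | succ k ih =>
    have hD : ∀ m, D f m ∈ L G (j + 1 + k) := by
      refine ih h.2 (fun m hm => ?_)
      simp only [D]
      rw [h0 (m + 1) (by omega), h0 m (by omega), inv_one, mul_one]
    intro n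
    induction n with
    | zero =>
      rw [h0 0 (Nat.succ_pos k)]
      exact Subgroup.one_mem _
    | succ n ihn =>
      have e : f (n + 1) = D f n * f n := by simp [D]
      rw [e]
      have h2 := hD n
      rw [show j + 1 + k = j + (k + 1) by omega] at h2
      exact Subgroup.mul_mem _ h2 ihn

theorem eval_mem_aux {c q : ℕ} (hc : L G (c + 1) = ⊥) (S : Subgroup G)
    (hS : ∀ k, 2 ≤ k → k ≤ c → ∀ g ∈ L G k, g ^ (q.choose k) ∈ S) (m : ℕ) :
    ∀ k, k + m = c + 1 → 2 ≤ k → ∀ f : ℕ → G, (∀ d, IsPoly d 0 f) → (∀ n < k, f n = 1) →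
      f q ∈ S := by
  induction m with
  | zero =>
    intro k hk _ f hf h0
    have h := mem_of_vanish (hf k) h0 q
    rw [Nat.zero_add, show k = c + 1 by omega, hc, Subgroup.mem_bot] at h
    rw [h]
    exact S.one_mem
  | succ m ih =>
    intro k hk hk2 f hf h0
    have hg : f k ∈ L G k := by
      have h := mem_of_vanish (hf k) h0 k
      rwa [Nat.zero_add] at h
    set g := f k with hgdef
    have hr : ∀ d, IsPoly d 0 ((fun n : ℕ => g ^ (n.choose k))⁻¹ * f) := fun d =>
      ((isPoly_choose d (by rwa [Nat.add_zero])).inv).mul (hf d)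
    have hr0 : ∀ n < k + 1, ((fun n : ℕ => g ^ (n.choose k))⁻¹ * f) n = 1 := by
      intro n hn
      simp only [Pi.mul_apply, Pi.inv_apply]
      rcases Nat.lt_succ_iff_lt_or_eq.mp hn with h | h
      · rw [Nat.choose_eq_zero_of_lt h, pow_zero, inv_one, one_mul, h0 n h]
      · rw [h, Nat.choose_self, pow_one, hgdef, inv_mul_cancel]
    have h1 := ih (k + 1) (by omega) (by omega) _ hr hr0
    simp only [Pi.mul_apply, Pi.inv_apply] at h1
    have h2 := hS k hk2 (by omega) g hg
    have h3 := S.mul_mem h2 h1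
    rwa [mul_inv_cancel_left] at h3

/-- Evaluation of a polynomial sequence vanishing at `0` and `1`, in a group of class `c`. -/
theorem eval_mem {c q : ℕ} (hc : (⊤ : Subgroup G).lowerCentralSeries c = ⊥) (S : Subgroup G)
    (hS : ∀ k, 2 ≤ k → k ≤ c → ∀ g ∈ L G k, g ^ (q.choose k) ∈ S)
    (f : ℕ → G) (hf : ∀ d, IsPoly d 0 f) (h0 : f 0 = 1) (h1 : f 1 = 1) : f q ∈ S := by
  rcases Nat.lt_or_ge c 1 with hc1 | hc1
  · have hc0 : c = 0 := by omega
    rw [hc0, Subgroup.lowerCentralSeries_zero] at hc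
    have : f q ∈ (⊤ : Subgroup G) := Subgroup.mem_top _
    rw [hc, Subgroup.mem_bot] at this
    rw [this]
    exact S.one_mem
  · refine eval_mem_aux (c := c) (by rw [L_succ]; exact hc) S hS (c - 1) 2 (by omega) le_rfl f hf ?_
    intro n hn
    interval_cases n
    · exact h0
    · exact h1

theorem pow_dvd_choose {p : ℕ} (hp : p.Prime) (n : ℕ) {k : ℕ} (hk0 : k ≠ 0) (hkp : k < p) :
    p ^ n ∣ (p ^ n).choose k := by
  obtain ⟨k, rfl⟩ := Nat.exists_eq_succ_of_ne_zero hk0
  have hpos : 0 < p ^ n := pow_pos hp.pos n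
  obtain ⟨q, hq⟩ : ∃ q, p ^ n = q + 1 := ⟨p ^ n - 1, by omega⟩
  have h := Nat.add_one_mul_choose_eq q k
  rw [← hq] at h
  have hcop : Nat.Coprime (p ^ n) (k + 1) := by
    apply Nat.Coprime.pow_left
    rw [Nat.Prime.coprime_iff_not_dvd hp]
    intro hd
    have := Nat.le_of_dvd (Nat.succ_pos k) hd
    omega
  rw [hq]
  rw [hq] at hcop
  have h2 : (q + 1) ∣ (q + 1).choose (k + 1) * (k + 1) := ⟨_, by rw [← hq] at *; exact h.symm⟩
  exact hcop.dvd_of_dvd_mul_right h2

/-- **Hall-Petresco**, power form: in a group of class `c < p`, modulo any subgroup `S`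
containing the `p^n`-th powers of the elements of the derived subgroup,
`(x y)^(p^n) ≡ x^(p^n) y^(p^n)`. -/
theorem pow_mul_mem {p : ℕ} (hp : p.Prime) {c : ℕ} (hcp : c < p)
    (hc : (⊤ : Subgroup G).lowerCentralSeries c = ⊥) (n : ℕ) (S : Subgroup G)
    (hS : ∀ h ∈ commutator G, h ^ (p ^ n) ∈ S) (x y : G) :
    ((x * y) ^ (p ^ n))⁻¹ * x ^ (p ^ n) * y ^ (p ^ n) ∈ S := by
  have hf : ∀ d, IsPoly d 0
      ((fun n => (x * y) ^ n)⁻¹ * (fun n => x ^ n) * (fun n => y ^ n) : ℕ → G) := fun d =>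
    (((isPoly_pow d (x * y)).inv).mul (isPoly_pow d x)).mul (isPoly_pow d y)
  have h := eval_mem (q := p ^ n) hc S ?_ _ hf (by simp) (by simp)
  · simpa only [Pi.mul_apply, Pi.inv_apply] using h
  · intro k hk2 hkc g hg
    obtain ⟨m, hm⟩ := pow_dvd_choose hp n (k := k) (by omega) (by omega)
    have hg' : g ∈ commutator G := by
      rw [← L_two]
      exact L_anti hk2 hg
    rw [hm, mul_comm, pow_mul]
    exact hS _ (Subgroup.pow_mem _ hg' m)

end Cfsg.Agent.Lib.Helper64_PolySeq
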