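import Mathlib
import Cfsg.Prelude.Def_PLocal

/-!
Regular `p`-groups (in the sense of `Cfsg.IsRegularPGroup`, which postulates the regularity
identity for all powers `p^n`): the basic theorem `a^q = b^q ↔ (a⁻¹ b)^q = 1` for `q = p^k`.
(helper70)
-/

set_option autoImplicit false

namespace Cfsg.Agent.Lib.Helper70_Regular

open Cfsg
open scoped commutatorElement

/-- If a group is generated by two elements, its commutator subgroup is the normal closure of
their commutator. -/
theorem commutator_le_normalClosure {K : Type*} [Group K] (a b : K)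
    (h : Subgroup.closure ({a, b} : Set K) = ⊤) :
    commutator K ≤ Subgroup.normalClosure {⁅a, b⁆} := by
  set N := Subgroup.normalClosure ({⁅a, b⁆} : Set K) with hN
  rw [← Subgroup.Normal.quotient_commutative_iff_commutator_le]
  -- the images of a and b commute and generate the quotient
  have hab : (QuotientGroup.mk a : K ⧸ N) * QuotientGroup.mk b = QuotientGroup.mk b * QuotientGroup.mk a := by
    rw [← commutatorElement_eq_one_iff_mul_comm, ← QuotientGroup.mk'_apply, ← QuotientGroup.mk'_apply,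
      ← map_commutatorElement, QuotientGroup.mk'_apply, QuotientGroup.eq_one_iff]
    exact Subgroup.subset_normalClosure (Set.mem_singleton _)
  have hgen : Subgroup.closure ({(QuotientGroup.mk a : K ⧸ N), QuotientGroup.mk b} : Set (K ⧸ N)) = ⊤ := by
    have h1 := congrArg (Subgroup.map (QuotientGroup.mk' N)) h
    rw [MonoidHom.map_closure, Subgroup.map_top_of_surjective _ (QuotientGroup.mk'_surjective N)] at h1
    rw [← h1]
    congr 1
    simp [Set.image_insert_eq]
  have hcomm : ∀ x ∈ ({(QuotientGroup.mk a : K ⧸ N), QuotientGroup.mk b} : Set (K ⧸ N)),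
      ∀ y ∈ ({(QuotientGroup.mk a : K ⧸ N), QuotientGroup.mk b} : Set (K ⧸ N)), x * y = y * x := by
    intro x hx y hy
    rcases hx with rfl | rfl <;> rcases hy with rfl | rfl
    · rfl
    · exact hab
    · exact hab.symm
    · rfl
  have hc := Subgroup.isMulCommutative_closure hcomm
  refine ⟨⟨fun x y => ?_⟩⟩
  have hx : x ∈ Subgroup.closure ({(QuotientGroup.mk a : K ⧸ N), QuotientGroup.mk b} : Set (K ⧸ N)) := by
    rw [hgen]; trivial
  have hy : y ∈ Subgroup.closure ({(QuotientGroup.mk a : K ⧸ N), QuotientGroup.mk b} : Set (K ⧸ N)) := by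
    rw [hgen]; trivial
  have := mul_comm' (⟨x, hx⟩ : Subgroup.closure ({(QuotientGroup.mk a : K ⧸ N), QuotientGroup.mk b} : Set (K ⧸ N))) ⟨y, hy⟩
  exact congrArg Subtype.val this

section Main

variable {G : Type*} [Group G]

/-- The statement `a^q = b^q ↔ (a⁻¹ b)^q = 1` for elements of a subgroup `H`. -/
def T (q : ℕ) (H : Subgroup G) : Prop :=
  ∀ a ∈ H, ∀ b ∈ H, a ^ q = b ^ q ↔ (a⁻¹ * b) ^ q = 1

theorem T_of_commute (q : ℕ) (a b : G) (h : Commute a b) :
    a ^ q = b ^ q ↔ (a⁻¹ * b) ^ q = 1 := by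
  rw [(h.inv_left).mul_pow, inv_pow, inv_mul_eq_one]

theorem closure_pair_le {a b x y : G} (hx : a ∈ Subgroup.closure ({x, y} : Set G))
    (hy : b ∈ Subgroup.closure ({x, y} : Set G)) :
    Subgroup.closure ({a, b} : Set G) ≤ Subgroup.closure ({x, y} : Set G) := by
  rw [Subgroup.closure_le]
  intro z hz
  rcases hz with rfl | rfl
  · exact hx
  · exact hy

/-- In a finite `p`-group, an element `x` of a subgroup `H` that does not generate `H` lies in a
proper subgroup `M` of `H` that is normalized by `H`. -/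
theorem exists_maximal_normal [Finite G] {p : ℕ} [Fact p.Prime] (hp : IsPGroup p G)
    (H : Subgroup G) (x : G) (hx : x ∈ H) (hy : ∃ y ∈ H, y ∉ Subgroup.zpowers x) :
    ∃ M : Subgroup G, M < H ∧ x ∈ M ∧ ∀ h ∈ H, ∀ m ∈ M, h⁻¹ * m * h ∈ M := by
  obtain ⟨y, hyH, hyx⟩ := hy
  have hA : Subgroup.zpowers (⟨x, hx⟩ : H) ≠ ⊤ := by
    intro htop
    apply hyx
    have : (⟨y, hyH⟩ : H) ∈ Subgroup.zpowers (⟨x, hx⟩ : H) := by rw [htop]; trivial
    obtain ⟨n, hn⟩ := Subgroup.mem_zpowers_iff.mp this
    exact Subgroup.mem_zpowers_iff.mpr ⟨n, by simpa using congrArg Subtype.val hn⟩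
  obtain ⟨M', hM', hle⟩ := (eq_top_or_exists_le_coatom (Subgroup.zpowers (⟨x, hx⟩ : H))).resolve_left hA
  have hnil : Group.IsNilpotent H := (hp.to_subgroup H).isNilpotent
  have hnorm : M'.Normal :=
    Subgroup.NormalizerCondition.normal_of_coatom M' Group.normalizerCondition_of_isNilpotent hM'
  refine ⟨M'.map H.subtype, ?_, ?_, ?_⟩
  · refine lt_of_le_of_ne (Subgroup.map_subtype_le _) ?_
    intro heq
    apply hM'.1
    rw [eq_top_iff]
    intro z _
    have hz : (z : G) ∈ M'.map H.subtype := by rw [heq]; exact z.2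
    obtain ⟨m, hm, hmz⟩ := Subgroup.mem_map.mp hz
    have : m = z := Subtype.ext hmz
    rwa [← this]
  · exact Subgroup.mem_map.mpr ⟨⟨x, hx⟩, hle (Subgroup.mem_zpowers _), rfl⟩
  · intro h hh m hm
    obtain ⟨m', hm', rfl⟩ := Subgroup.mem_map.mp hm
    have := hnorm.conj_mem m' hm' (⟨h, hh⟩ : H)⁻¹
    refine Subgroup.mem_map.mpr ⟨_, this, ?_⟩
    simp

/-- If `H = ⟨a, b⟩` is a nontrivial subgroup of a finite `p`-group, the commutator `⁅a, b⁆` has
trivial `q`-th power and `T q` holds for all proper subgroups of `H`, then every element of the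
derived subgroup of `H` has trivial `q`-th power. -/
theorem exp_commutator [Finite G] {p : ℕ} [Fact p.Prime] (hp : IsPGroup p G) (q : ℕ)
    (H : Subgroup G) (ih : ∀ H' < H, T q H') (a b : G) (ha : a ∈ H) (hb : b ∈ H)
    (hgen : H ≤ Subgroup.closure ({a, b} : Set G)) (hc : ⁅a, b⁆ ^ q = 1) (hne : H ≠ ⊥) :
    ∀ x ∈ ⁅H, H⁆, x ^ q = 1 := by
  -- generators in the subtype
  set a' : H := ⟨a, ha⟩ with ha'
  set b' : H := ⟨b, hb⟩ with hb'
  have hgen' : Subgroup.closure ({a', b'} : Set H) = ⊤ := by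
    rw [eq_top_iff]
    intro z _
    have h1 : (Subgroup.closure ({a', b'} : Set H)).map H.subtype = Subgroup.closure ({a, b} : Set G) := by
      rw [MonoidHom.map_closure]
      congr 1
      simp [Set.image_insert_eq, ha', hb']
    have h2 : (z : G) ∈ (Subgroup.closure ({a', b'} : Set H)).map H.subtype := by
      rw [h1]; exact hgen z.2
    obtain ⟨w, hw, hwz⟩ := Subgroup.mem_map.mp h2
    have : w = z := Subtype.ext hwz
    rwa [← this]
  have hD' := commutator_le_normalClosure a' b' hgen'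
  -- the derived subgroup is proper
  have hnil : Group.IsNilpotent H := (hp.to_subgroup H).isNilpotent
  have hnt : Nontrivial H := (Subgroup.nontrivial_iff_ne_bot H).mpr hne
  have hlt' : commutator H < ⊤ := Group.IsSolvable.commutator_lt_top_of_nontrivial H
  have hDlt : ⁅H, H⁆ < H := by
    refine lt_of_le_of_ne (Subgroup.commutator_le_self H) ?_
    intro heq
    apply hlt'.ne
    rw [eq_top_iff]
    intro z _
    have hz : (z : G) ∈ (commutator H).map H.subtype := by
      rw [Subgroup.map_subtype_commutator, heq]; exact z.2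
    obtain ⟨m, hm, hmz⟩ := Subgroup.mem_map.mp hz
    have : m = z := Subtype.ext hmz
    rwa [← this]
  have hTD := ih _ hDlt
  have hcmem : (⁅a', b'⁆ : H) ∈ commutator H := by
    rw [commutator_def]
    exact Subgroup.commutator_mem_commutator (Subgroup.mem_top _) (Subgroup.mem_top _)
  have hNle : Subgroup.normalClosure ({⁅a', b'⁆} : Set H) ≤ commutator H :=
    Subgroup.normalClosure_le_normal (Set.singleton_subset_iff.mpr hcmem)
  have key : ∀ y : H, y ∈ Subgroup.normalClosure ({⁅a', b'⁆} : Set H) → (y : G) ^ q = 1 := by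
    intro y hy
    unfold Subgroup.normalClosure at hy
    induction hy using Subgroup.closure_induction with
    | mem y hy =>
      rw [Group.mem_conjugatesOfSet_iff] at hy
      obtain ⟨c, hcs, hconj⟩ := hy
      rw [Set.mem_singleton_iff] at hcs
      subst hcs
      obtain ⟨g, hg⟩ := isConj_iff.mp hconj
      rw [← hg]
      have : ((g * ⁅a', b'⁆ * g⁻¹ : H) : G) = (g : G) * ⁅a, b⁆ * (g : G)⁻¹ := by
        simp [commutatorElement_def, ha', hb']
      rw [this, conj_pow, hc]
      simp
    | one => simp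
    | mul y z hy hz ihy ihz =>
      have hyD : (y : G) ∈ ⁅H, H⁆ := by
        rw [← Subgroup.map_subtype_commutator]
        exact Subgroup.mem_map.mpr ⟨y, hNle hy, rfl⟩
      have hzD : (z : G) ∈ ⁅H, H⁆ := by
        rw [← Subgroup.map_subtype_commutator]
        exact Subgroup.mem_map.mpr ⟨z, hNle hz, rfl⟩
      have h1 : ((y : G)⁻¹) ^ q = (z : G) ^ q := by rw [inv_pow, ihy, ihz, inv_one]
      have := (hTD _ (Subgroup.inv_mem _ hyD) _ hzD).mp h1
      simpa using this
    | inv y hy ihy =>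
      simp [inv_pow, ihy]
  intro x hx
  rw [← Subgroup.map_subtype_commutator] at hx
  obtain ⟨x', hx', rfl⟩ := Subgroup.mem_map.mp hx
  exact key x' (hD' hx')

theorem powerClosure_eq_one {p k : ℕ} (K : Subgroup G) (h : ∀ x ∈ K, x ^ p ^ k = 1) (c : G)
    (hc : c ∈ Cfsg.powerClosure p k K) : c = 1 := by
  have : Cfsg.powerClosure p k K ≤ ⊥ := by
    unfold Cfsg.powerClosure
    rw [Subgroup.closure_le]
    rintro y ⟨x, hx, rfl⟩
    rw [h x hx]
    exact Subgroup.mem_bot.mpr rfl
  exact Subgroup.mem_bot.mp (this hc)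

/-- Regularity at the single level `k`. -/
def RegAt (p k : ℕ) (G : Type*) [Group G] : Prop :=
  ∀ a b : G, ∃ c ∈ Cfsg.powerClosure p k
      ⁅Subgroup.closure ({a, b} : Set G), Subgroup.closure ({a, b} : Set G)⁆,
    (a * b) ^ (p ^ k) = a ^ (p ^ k) * b ^ (p ^ k) * c

theorem T_all_level [Finite G] {p : ℕ} [Fact p.Prime] (hp : IsPGroup p G) (k : ℕ)
    (hreg : RegAt p k G) :
    ∀ H : Subgroup G, T (p ^ k) H := by
  intro H
  induction H using WellFoundedLT.induction with
  | _ H ih =>
  intro a ha b hb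
  by_cases hcomm : Commute a b
  · exact T_of_commute _ a b hcomm
  set L := Subgroup.closure ({a, b} : Set G) with hL
  have haL : a ∈ L := Subgroup.subset_closure (by simp)
  have hbL : b ∈ L := Subgroup.subset_closure (by simp)
  have hLH : L ≤ H := by
    rw [hL, Subgroup.closure_le]
    intro z hz
    rcases hz with rfl | rfl
    · exact ha
    · exact hb
  by_cases hLeq : L = H
  swap
  · exact ih L (lt_of_le_of_ne hLH hLeq) a haL b hbL
  have hHne : H ≠ ⊥ := by
    intro h0
    apply hcomm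
    rw [h0, Subgroup.mem_bot] at ha
    rw [ha]
    exact Commute.one_left b
  constructor
  · intro hab
    -- a does not generate H
    have hy : ∃ y ∈ H, y ∉ Subgroup.zpowers a := by
      refine ⟨b, hb, fun hbz => hcomm ?_⟩
      obtain ⟨n, rfl⟩ := Subgroup.mem_zpowers_iff.mp hbz
      exact (Commute.refl a).zpow_right n
    obtain ⟨M, hMlt, haM, hMn⟩ := exists_maximal_normal hp H a ha hy
    have h2 : b⁻¹ * a * b ∈ M := hMn b hb a haM
    have h3 : a ^ p ^ k = (b⁻¹ * a * b) ^ p ^ k := by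
      have : b⁻¹ * a * b = b⁻¹ * a * (b⁻¹)⁻¹ := by simp
      rw [this, conj_pow, hab, inv_inv, mul_assoc, ← pow_succ, pow_succ', inv_mul_cancel_left]
    have h4 : (a⁻¹ * (b⁻¹ * a * b)) ^ p ^ k = 1 := (ih M hMlt a haM _ h2).mp h3
    have hcomm_el : ⁅a⁻¹, b⁻¹⁆ = a⁻¹ * (b⁻¹ * a * b) := by
      simp [commutatorElement_def, mul_assoc]
    have hgen : H ≤ Subgroup.closure ({a⁻¹, b⁻¹} : Set G) := by
      rw [← hLeq, hL]
      apply closure_pair_le
      · have := Subgroup.inv_mem _ (Subgroup.subset_closure (show a⁻¹ ∈ ({a⁻¹, b⁻¹} : Set G) by simp))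
        simpa using this
      · have := Subgroup.inv_mem _ (Subgroup.subset_closure (show b⁻¹ ∈ ({a⁻¹, b⁻¹} : Set G) by simp))
        simpa using this
    have hexp := exp_commutator hp (p ^ k) H ih a⁻¹ b⁻¹ (H.inv_mem ha) (H.inv_mem hb) hgen
      (by rw [hcomm_el]; exact h4) hHne
    obtain ⟨c, hc, hreg⟩ := hreg a⁻¹ b
    have hsub : Subgroup.closure ({a⁻¹, b} : Set G) ≤ H := by
      rw [Subgroup.closure_le]
      intro z hz
      rcases hz with rfl | rfl
      · exact H.inv_mem ha
      · exact hb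
    have hc1 : c = 1 := powerClosure_eq_one _
      (fun x hx => hexp x (Subgroup.commutator_mono hsub hsub hx)) c hc
    rw [hreg, hc1, mul_one, inv_pow, hab, inv_mul_cancel]
  · intro hd
    set d := a⁻¹ * b with hd_def
    have hdH : d ∈ H := H.mul_mem (H.inv_mem ha) hb
    have hbd : b = a * d := by rw [hd_def]; group
    have hy : ∃ y ∈ H, y ∉ Subgroup.zpowers d := by
      by_contra hcon
      push Not at hcon
      apply hcomm
      obtain ⟨n, hn⟩ := Subgroup.mem_zpowers_iff.mp (hcon a ha)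
      obtain ⟨m, hm⟩ := Subgroup.mem_zpowers_iff.mp (hcon b hb)
      rw [← hn, ← hm]
      exact ((Commute.refl d).zpow_right m).zpow_left n
    obtain ⟨M, hMlt, hdM, hMn⟩ := exists_maximal_normal hp H d hdH hy
    have h2 : a⁻¹ * d * a ∈ M := hMn a ha d hdM
    have h3 : d ^ p ^ k = (a⁻¹ * d * a) ^ p ^ k := by
      have : a⁻¹ * d * a = a⁻¹ * d * (a⁻¹)⁻¹ := by simp
      rw [this, conj_pow, hd]
      simp
    have h4 : (d⁻¹ * (a⁻¹ * d * a)) ^ p ^ k = 1 := (ih M hMlt d hdM _ h2).mp h3
    have hcomm_el : ⁅d⁻¹, a⁻¹⁆ = d⁻¹ * (a⁻¹ * d * a) := by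
      simp [commutatorElement_def, mul_assoc]
    have hgen : H ≤ Subgroup.closure ({d⁻¹, a⁻¹} : Set G) := by
      rw [← hLeq, hL]
      have hd' : d ∈ Subgroup.closure ({d⁻¹, a⁻¹} : Set G) := by
        have := Subgroup.inv_mem _ (Subgroup.subset_closure (show d⁻¹ ∈ ({d⁻¹, a⁻¹} : Set G) by simp))
        simpa using this
      have ha' : a ∈ Subgroup.closure ({d⁻¹, a⁻¹} : Set G) := by
        have := Subgroup.inv_mem _ (Subgroup.subset_closure (show a⁻¹ ∈ ({d⁻¹, a⁻¹} : Set G) by simp))
        simpa using this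
      apply closure_pair_le ha'
      rw [hbd]
      exact Subgroup.mul_mem _ ha' hd'
    have hexp := exp_commutator hp (p ^ k) H ih d⁻¹ a⁻¹ (H.inv_mem hdH) (H.inv_mem ha) hgen
      (by rw [hcomm_el]; exact h4) hHne
    obtain ⟨c, hc, hreg⟩ := hreg a d
    have hsub : Subgroup.closure ({a, d} : Set G) ≤ H := by
      rw [Subgroup.closure_le]
      intro z hz
      rcases hz with rfl | rfl
      · exact ha
      · exact hdH
    have hc1 : c = 1 := powerClosure_eq_one _
      (fun x hx => hexp x (Subgroup.commutator_mono hsub hsub hx)) c hc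
    rw [hbd, hreg, hc1, mul_one, hd, mul_one]

theorem T_all [Finite G] {p : ℕ} [Fact p.Prime] (hG : Cfsg.IsRegularPGroup p G) (k : ℕ) :
    ∀ H : Subgroup G, T (p ^ k) H :=
  T_all_level hG.1 k (fun a b => hG.2 a b k)

/-- The basic theorem on regular `p`-groups. -/
theorem pow_eq_pow_iff [Finite G] {p : ℕ} [Fact p.Prime] (hG : Cfsg.IsRegularPGroup p G)
    (a b : G) (k : ℕ) : a ^ p ^ k = b ^ p ^ k ↔ (a⁻¹ * b) ^ p ^ k = 1 :=
  T_all hG k ⊤ a (Subgroup.mem_top a) b (Subgroup.mem_top b)

end Main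

end Cfsg.Agent.Lib.Helper70_Regular
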