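import Mathlib
import Cfsg.Agent.S4209
import Cfsg.Agent.S4224
import Cfsg.Agent.Lib.Helper70_Regular
import Cfsg.Agent.Lib.Helper95_MaxClass
import Cfsg.Agent.Lib.Helper64_PolySeq
import Cfsg.Agent.Lib.Helper1_Transport

set_option autoImplicit false

namespace Cfsg.Agent.Lib.Helper20_MaxClassExp

open Subgroup
open scoped commutatorElement

variable {G : Type*} [Group G]

/-- the `j`-th term (from `0`) of the lower central series -/
abbrev lc (G : Type*) [Group G] (j : ℕ) : Subgroup G := (⊤ : Subgroup G).lowerCentralSeries j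

instance lc_normal (j : ℕ) : (lc G j).Normal := Cfsg.Agent.Lib.Helper64_PolySeq.lcs_normal j

theorem lc_anti {i j : ℕ} (h : i ≤ j) : lc G j ≤ lc G i :=
  Subgroup.lowerCentralSeries_antitone ⊤ h

theorem lc_succ (j : ℕ) : lc G (j + 1) = ⁅lc G j, ⊤⁆ := rfl

theorem comm_mem_lc_succ {j : ℕ} {g : G} (hg : g ∈ lc G j) (x : G) : ⁅g, x⁆ ∈ lc G (j + 1) :=
  Subgroup.commutator_mem_commutator hg (Subgroup.mem_top x)

theorem comm_mem_lc_succ' {j : ℕ} {g : G} (hg : g ∈ lc G j) (x : G) : ⁅x, g⁆ ∈ lc G (j + 1) := by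
  rw [← commutatorElement_inv]
  exact inv_mem (comm_mem_lc_succ hg x)

/-- sandwich between subgroups of relative index `p` -/
theorem sandwich [Finite G] {p : ℕ} (hp : p.Prime) {A C B : Subgroup G} (hAC : A ≤ C)
    (hCB : C ≤ B) (hcard : Nat.card B = p * Nat.card A) : C = A ∨ C = B := by
  obtain ⟨d, hd⟩ := Subgroup.card_dvd_of_le hAC
  have h2 := Subgroup.card_dvd_of_le hCB
  have hApos : 0 < Nat.card A := Nat.card_pos
  rw [hd, hcard, mul_comm p] at h2
  have h3 : d ∣ p := Nat.dvd_of_mul_dvd_mul_left hApos h2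
  rcases (Nat.dvd_prime hp).1 h3 with h | h
  · left
    symm
    apply Subgroup.eq_of_le_of_card_ge hAC
    rw [hd, h, mul_one]
  · right
    apply Subgroup.eq_of_le_of_card_ge hCB
    rw [hd, h, hcard, mul_comm]

/-- the two-step centralizer of the layer `lc j / lc (j+2)` -/
def K (G : Type*) [Group G] (j : ℕ) : Subgroup G where
  carrier := {x | ∀ g ∈ lc G j, ⁅x, g⁆ ∈ lc G (j + 2)}
  one_mem' := by
    intro g _
    simp
  mul_mem' := by
    intro x y hx hy g hg
    have e : ⁅x * y, g⁆ = (x * ⁅y, g⁆ * x⁻¹) * ⁅x, g⁆ := by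
      simp only [commutatorElement_def]; group
    rw [e]
    exact mul_mem ((lc_normal (j + 2)).conj_mem _ (hy g hg) x) (hx g hg)
  inv_mem' := by
    intro x hx g hg
    have e : ⁅x⁻¹, g⁆ = x⁻¹ * (⁅x, g⁆)⁻¹ * (x⁻¹)⁻¹ := by
      simp only [commutatorElement_def]; group
    rw [e]
    exact (lc_normal (j + 2)).conj_mem _ (inv_mem (hx g hg)) x⁻¹

theorem mem_K {j : ℕ} {x : G} : x ∈ K G j ↔ ∀ g ∈ lc G j, ⁅x, g⁆ ∈ lc G (j + 2) := Iff.rfl

/-- elements `h` with `⁅s, h⁆ ∈ N` for a normal subgroup `N` -/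
def cm (s : G) (N : Subgroup G) [N.Normal] : Subgroup G where
  carrier := {h | ⁅s, h⁆ ∈ N}
  one_mem' := by simp
  mul_mem' := by
    intro h h' hh hh'
    have e : ⁅s, h * h'⁆ = ⁅s, h⁆ * (h * ⁅s, h'⁆ * h⁻¹) := by
      simp only [commutatorElement_def]; group
    show ⁅s, h * h'⁆ ∈ N
    rw [e]
    exact mul_mem hh (‹N.Normal›.conj_mem _ hh' h)
  inv_mem' := by
    intro h hh
    have e : ⁅s, h⁻¹⁆ = h⁻¹ * (⁅s, h⁆)⁻¹ * (h⁻¹)⁻¹ := by
      simp only [commutatorElement_def]; group
    show ⁅s, h⁻¹⁆ ∈ N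
    rw [e]
    exact ‹N.Normal›.conj_mem _ (inv_mem hh) h⁻¹

theorem mem_cm {s h : G} {N : Subgroup G} [N.Normal] : h ∈ cm s N ↔ ⁅s, h⁆ ∈ N := Iff.rfl


/-- `G` is a `p`-group of maximal class of order `p ^ M`, in terms of the orders of the terms of the
lower central series -/
structure MC (p M : ℕ) (G : Type*) [Group G] : Prop where
  hM : 3 ≤ M
  card : Nat.card G = p ^ M
  card_lc : ∀ j, 1 ≤ j → j ≤ M - 1 → Nat.card (lc G j) = p ^ (M - 1 - j)

theorem MC.of_class [Finite G] {p : ℕ} [Fact p.Prime] {M : ℕ} [Group.IsNilpotent G]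
    (hG : Nat.card G = p ^ M) (hcl : Group.nilpotencyClass G = M - 1) (hM : 3 ≤ M) : MC p M G :=
  ⟨hM, hG, fun _ h1 h2 => Cfsg.Agent.Lib.Helper95_MaxClass.card_lcs_of_maxClass hG hcl hM h1 h2⟩

section MCbasic

theorem MC.isPGroup {p : ℕ} [Fact p.Prime] {M : ℕ} (h : MC p M G) : IsPGroup p G :=
  IsPGroup.of_card h.card

variable {p : ℕ} {M : ℕ}

theorem MC.lc_last (h : MC p M G) : lc G (M - 1) = ⊥ := by
  have h1 := h.card_lc (M - 1) (by have := h.hM; omega) le_rfl
  rw [Nat.sub_self, pow_zero] at h1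
  exact Subgroup.card_eq_one.mp h1

/-- `|lc j| = p * |lc (j+1)|` for `1 ≤ j ≤ M - 2` -/
theorem MC.card_step (h : MC p M G) {j : ℕ} (h1 : 1 ≤ j) (h2 : j + 2 ≤ M) :
    Nat.card (lc G j) = p * Nat.card (lc G (j + 1)) := by
  rw [h.card_lc j h1 (by omega), h.card_lc (j + 1) (by omega) (by omega), ← pow_succ']
  congr 1
  omega

theorem MC.card_lc_one (h : MC p M G) : Nat.card (lc G 1) = p ^ (M - 2) := by
  have := h.card_lc 1 le_rfl (by have := h.hM; omega)
  rwa [show M - 1 - 1 = M - 2 by omega] at this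

variable [Finite G] [hp : Fact p.Prime]

theorem MC.lc_lt (h : MC p M G) {j : ℕ} (h2 : j + 2 ≤ M) : ¬ lc G j ≤ lc G (j + 1) := by
  intro hle
  have hpp := hp.out
  have hc := Subgroup.card_le_of_le hle
  rcases Nat.eq_zero_or_pos j with rfl | hj
  · have e0 : Nat.card (lc G 0) = p ^ M := by
      show Nat.card (⊤ : Subgroup G) = p ^ M
      rw [Subgroup.card_top, h.card]
    rw [e0, h.card_lc_one] at hc
    have := Nat.pow_le_pow_iff_right hpp.one_lt |>.mp hc
    have := h.hM
    omega
  · rw [h.card_lc j hj (by omega), h.card_lc (j + 1) (by omega) (by omega)] at hc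
    have := Nat.pow_le_pow_iff_right hpp.one_lt |>.mp hc
    omega

/-- the two-step centralizers are proper -/
theorem MC.K_ne_top (h : MC p M G) {j : ℕ} (h2 : j + 3 ≤ M) : K G j ≠ ⊤ := by
  intro htop
  apply h.lc_lt (j := j + 1) (by omega)
  rw [lc_succ, Subgroup.commutator_le]
  intro g hg x _
  have hx : x ∈ K G j := by rw [htop]; exact Subgroup.mem_top x
  rw [← commutatorElement_inv]
  exact inv_mem (hx g hg)

theorem MC.card_K_le (h : MC p M G) {j : ℕ} (h2 : j + 3 ≤ M) : Nat.card (K G j) ≤ p ^ (M - 1) := by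
  have hpp := hp.out
  have hd : Nat.card (K G j) ∣ p ^ M := by rw [← h.card]; exact Subgroup.card_subgroup_dvd_card _
  obtain ⟨e, he, hcard⟩ := (Nat.dvd_prime_pow hpp).1 hd
  have hne : e ≠ M := by
    intro heq
    apply h.K_ne_top h2
    apply Subgroup.card_eq_iff_eq_top _ |>.mp
    rw [hcard, heq, h.card]
  rw [hcard]
  exact Nat.pow_le_pow_right hpp.pos (by omega)

/-- existence of an element outside fewer than `p` two-step centralizers -/
theorem MC.exists_uniform (h : MC p M G) (J : Finset ℕ) (hJ : ∀ j ∈ J, j + 3 ≤ M)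
    (hcard : J.card < p) : ∃ s : G, ∀ j ∈ J, s ∉ K G j := by
  classical
  by_contra hno
  push Not at hno
  have hpp := hp.out
  haveI : Fintype G := Fintype.ofFinite G
  have hsub : (Finset.univ : Finset G) ⊆ J.biUnion (fun j => Finset.univ.filter (· ∈ K G j)) := by
    intro s _
    obtain ⟨j, hj, hs⟩ := hno s
    rw [Finset.mem_biUnion]
    exact ⟨j, hj, by simp [hs]⟩
  have h1 := Finset.card_le_card hsub
  have h2 := Finset.card_biUnion_le (s := J) (t := fun j => Finset.univ.filter (· ∈ K G j))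
  have h3 : ∀ j ∈ J, (Finset.univ.filter (· ∈ K G j)).card ≤ p ^ (M - 1) := by
    intro j hj
    have : (Finset.univ.filter (· ∈ K G j)).card = Nat.card (K G j) := by
      rw [Nat.card_eq_fintype_card, Fintype.card_subtype]
    rw [this]
    exact h.card_K_le (hJ j hj)
  have h4 := Finset.sum_le_card_nsmul J _ _ h3
  have h5 : Fintype.card G = p ^ M := by rw [← Nat.card_eq_fintype_card, h.card]
  rw [Finset.card_univ, h5] at h1
  have h6 : J.card * p ^ (M - 1) < p * p ^ (M - 1) :=
    Nat.mul_lt_mul_of_pos_right hcard (pow_pos hpp.pos _)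
  have h7 : p * p ^ (M - 1) = p ^ M := by
    rw [← pow_succ']
    congr 1
    have := h.hM
    omega
  rw [smul_eq_mul] at h4
  omega

/-- `p`-th powers lie in the derived subgroup -/
theorem MC.pow_mem_lc_one (h : MC p M G) (x : G) : x ^ p ∈ lc G 1 := by
  have hpp := hp.out
  have hne : lc G 1 ≠ ⊥ := by
    intro hb
    have := h.card_lc_one
    rw [hb, Subgroup.card_bot] at this
    have hM := h.hM
    have : 1 < p ^ (M - 2) := Nat.one_lt_pow (by omega) hpp.one_lt
    omega
  have hnc := Cfsg.Agent.Lib.Helper95_MaxClass.not_isCyclic_quotient_lcs_one h.isPGroup hne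
  have hq : Nat.card (G ⧸ lc G 1) = p ^ 2 := by
    have h1 := Subgroup.card_eq_card_quotient_mul_card_subgroup (lc G 1)
    rw [h.card, h.card_lc_one] at h1
    have h2 : p ^ M = p ^ 2 * p ^ (M - 2) := by
      rw [← pow_add]; congr 1; have := h.hM; omega
    rw [h2] at h1
    exact (Nat.eq_of_mul_eq_mul_right (pow_pos hpp.pos _) h1).symm
  have hx : (QuotientGroup.mk x : G ⧸ lc G 1) ^ p = 1 := by
    have hord : orderOf (QuotientGroup.mk x : G ⧸ lc G 1) ∣ p ^ 2 := by
      rw [← hq]; exact orderOf_dvd_natCard _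
    obtain ⟨e, he, hoe⟩ := (Nat.dvd_prime_pow hpp).1 hord
    have he2 : e ≠ 2 := by
      intro h2
      apply hnc
      apply isCyclic_of_orderOf_eq_card (QuotientGroup.mk x : G ⧸ lc G 1)
      rw [hoe, h2, hq]
    have : orderOf (QuotientGroup.mk x : G ⧸ lc G 1) ∣ p := by
      rw [hoe]
      have : e ≤ 1 := by omega
      exact (pow_dvd_pow p this).trans (by rw [pow_one])
    exact orderOf_dvd_iff_pow_eq_one.mp this
  rwa [← QuotientGroup.mk_pow, QuotientGroup.eq_one_iff] at hx

/-- the layer lemma -/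
theorem MC.layer (h : MC p M G) {j : ℕ} (h1 : 1 ≤ j) (h2 : j + 3 ≤ M) {s g : G}
    (hs : s ∉ K G j) (hg : g ∈ lc G j) (hc : ⁅s, g⁆ ∈ lc G (j + 2)) : g ∈ lc G (j + 1) := by
  by_contra hg'
  set C : Subgroup G := lc G j ⊓ cm s (lc G (j + 2)) with hC
  have hAC : lc G (j + 1) ≤ C := by
    intro x hx
    exact ⟨lc_anti (Nat.le_succ j) hx, comm_mem_lc_succ' hx s⟩
  have hCB : C ≤ lc G j := inf_le_left
  rcases sandwich hp.out hAC hCB (h.card_step h1 (by omega)) with hh | hh
  · apply hg'
    rw [← hh]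
    exact ⟨hg, hc⟩
  · apply hs
    intro x hx
    have : x ∈ C := by rw [hh]; exact hx
    exact this.2

/-- centralizer computation -/
theorem MC.mem_last_of_commute (h : MC p M G) {a : ℕ} (ha : 1 ≤ a) {s g : G}
    (hs : ∀ j, a ≤ j → j + 3 ≤ M → s ∉ K G j) (hg : g ∈ lc G a) (hc : Commute s g) :
    g ∈ lc G (M - 2) := by
  by_cases ham : M - 2 ≤ a
  · exact lc_anti ham hg
  · push Not at ham
    have key : ∀ t, a + t ≤ M - 2 → g ∈ lc G (a + t) := by
      intro t
      induction t with
      | zero => intro _; exact hg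
      | succ t ih =>
        intro ht
        have hgt := ih (by omega)
        have : g ∈ lc G (a + t + 1) := by
          apply h.layer (by omega) (by omega) (hs (a + t) (by omega) (by omega)) hgt
          have : ⁅s, g⁆ = 1 := by
            rw [commutatorElement_eq_one_iff_commute]
            exact hc
          rw [this]
          exact one_mem _
        exact this
    have := key (M - 2 - a) (by omega)
    rwa [show a + (M - 2 - a) = M - 2 by omega] at this

omit [Finite G] hp in
/-- the last nontrivial term of the lower central series is central -/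
theorem MC.last_central (h : MC p M G) {z : G} (hz : z ∈ lc G (M - 2)) (x : G) : Commute z x := by
  have h1 : ⁅z, x⁆ ∈ lc G (M - 2 + 1) := comm_mem_lc_succ hz x
  rw [show M - 2 + 1 = M - 1 by have := h.hM; omega, h.lc_last, Subgroup.mem_bot,
    commutatorElement_eq_one_iff_commute] at h1
  exact h1


/-- a group of maximal class of order at most `p ^ p` is regular -/
theorem MC.regular (h : MC p M G) (hMp : M ≤ p) : Cfsg.IsRegularPGroup p G := by
  apply Cfsg.Agent.S4209.result h.isPGroup
  have h1 : lc G (p - 1) ≤ lc G (M - 1) := lc_anti (by omega)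
  rw [h.lc_last] at h1
  exact le_bot_iff.mp h1

/-- in a group of maximal class of order at most `p ^ p` all `p`-th powers lie in the last
nontrivial term of the lower central series -/
theorem MC.pow_mem_last (h : MC p M G) (hMp : M ≤ p) (t : G) : t ^ p ∈ lc G (M - 2) := by
  have hpp := hp.out
  have hM := h.hM
  have hreg := h.regular hMp
  obtain ⟨s, hs⟩ := h.exists_uniform (Finset.Icc 1 (M - 3))
    (by intro j hj; rw [Finset.mem_Icc] at hj; omega)
    (by rw [Nat.card_Icc]; omega)
  have hs' : ∀ j, 1 ≤ j → j + 3 ≤ M → s ∉ K G j := by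
    intro j h1 h2
    exact hs j (by rw [Finset.mem_Icc]; omega)
  have hsp : s ^ p ∈ lc G (M - 2) :=
    h.mem_last_of_commute le_rfl hs' (h.pow_mem_lc_one s) (Commute.pow_right (Commute.refl s) p)
  have hcen := h.last_central hsp
  -- conjugates of `s` have the same `p`-th power
  have hb : (t⁻¹ * s * t) ^ p = s ^ p := by
    have e : t⁻¹ * s * t = t⁻¹ * s * (t⁻¹)⁻¹ := by rw [inv_inv]
    rw [e, conj_pow, inv_inv]
    have := (hcen t).eq
    rw [mul_assoc, this, ← mul_assoc, inv_mul_cancel, one_mul]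
  have h1 := (Cfsg.Agent.Lib.Helper70_Regular.pow_eq_pow_iff hreg (t⁻¹ * s * t) s 1).mp
    (by rw [pow_one]; exact hb)
  have e2 : (t⁻¹ * s * t)⁻¹ * s = t⁻¹ * s⁻¹ * t * s := by group
  rw [e2] at h1
  have h2 := (Cfsg.Agent.S4224.result hreg t s 1).mpr h1
  rw [pow_one] at h2
  exact h.mem_last_of_commute le_rfl hs' (h.pow_mem_lc_one t) h2.symm

end MCbasic

/-! ### Quotients by terms of the lower central series -/

section Quot

variable [Finite G] {p : ℕ} [hp : Fact p.Prime] {M : ℕ}

omit [Finite G] hp in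
theorem lc_quotient (N : Subgroup G) [N.Normal] (j : ℕ) :
    lc (G ⧸ N) j = (lc G j).map (QuotientGroup.mk' N) := by
  show (⊤ : Subgroup (G ⧸ N)).lowerCentralSeries j = _
  rw [Subgroup.map_lowerCentralSeries,
    Subgroup.map_top_of_surjective _ (QuotientGroup.mk'_surjective N)]

omit [Finite G] in
theorem MC.quotient (h : MC p M G) {c : ℕ} (hc2 : 2 ≤ c) (hcM : c ≤ M - 1) :
    MC p (c + 1) (G ⧸ lc G c) := by
  have hpp := hp.out
  have hM := h.hM
  have hN : Nat.card (lc G c) = p ^ (M - 1 - c) := h.card_lc c (by omega) hcM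
  refine ⟨by omega, ?_, ?_⟩
  · have h1 := Subgroup.card_eq_card_quotient_mul_card_subgroup (lc G c)
    rw [h.card, hN] at h1
    have h2 : p ^ M = p ^ (c + 1) * p ^ (M - 1 - c) := by
      rw [← pow_add]; congr 1; omega
    rw [h2] at h1
    exact (Nat.eq_of_mul_eq_mul_right (pow_pos hpp.pos _) h1).symm
  · intro j hj1 hj2
    rw [lc_quotient]
    have h1 := Cfsg.Agent.Lib.Helper1_Transport.card_map_mk'_of_le (lc G c) (lc G j)
      (lc_anti (by omega))
    rw [hN, h.card_lc j hj1 (by omega)] at h1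
    have h2 : p ^ (M - 1 - j) = p ^ (c + 1 - 1 - j) * p ^ (M - 1 - c) := by
      rw [← pow_add]; congr 1; omega
    rw [h2] at h1
    exact Nat.eq_of_mul_eq_mul_right (pow_pos hpp.pos _) h1

end Quot

/-! ### The main lemma -/

section Main

variable [Finite G] {p : ℕ} [hp : Fact p.Prime] {k : ℕ}

/-- in a group of maximal class of order `p ^ (2k+1)` the term `lc (k-1)` (of order `p ^ (k+1)`)
is abelian -/
theorem MC.commute_of_mem (h : MC p (2 * k + 1) G) (hk : 2 ≤ k) {a b : G}
    (ha : a ∈ lc G (k - 1)) (hb : b ∈ lc G (k - 1)) : Commute a b := by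
  have hlast : lc G (2 * k) = ⊥ := by
    have := h.lc_last
    rwa [show 2 * k + 1 - 1 = 2 * k by omega] at this
  have h0 : ∀ x ∈ lc G (k - 1), ∀ y ∈ lc G k, Commute x y := by
    intro x hx y hy
    have h1 : ⁅x, y⁆ ∈ lc G (k - 1 + k + 1) :=
      Cfsg.Agent.Lib.Helper64_PolySeq.lcs_comm (k - 1) k (Subgroup.commutator_mem_commutator hx hy)
    rw [show k - 1 + k + 1 = 2 * k by omega, hlast, Subgroup.mem_bot,
      commutatorElement_eq_one_iff_commute] at h1
    exact h1
  by_cases ha' : a ∈ lc G k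
  · exact (h0 b hb a ha').symm
  · set C : Subgroup G := lc G (k - 1) ⊓ Subgroup.centralizer {a} with hC
    have hAC : lc G (k - 1 + 1) ≤ C := by
      rw [show k - 1 + 1 = k by omega]
      intro y hy
      refine Subgroup.mem_inf.mpr ⟨lc_anti (by omega) hy, ?_⟩
      rw [Subgroup.mem_centralizer_iff]
      intro z hz
      rw [Set.mem_singleton_iff] at hz
      rw [hz]
      exact (h0 a ha y hy).eq
    have hCB : C ≤ lc G (k - 1) := inf_le_left
    have haC : a ∈ C := by
      refine Subgroup.mem_inf.mpr ⟨ha, ?_⟩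
      rw [Subgroup.mem_centralizer_iff]
      intro z hz
      rw [Set.mem_singleton_iff] at hz
      rw [hz]
    rcases sandwich hp.out hAC hCB (h.card_step (by omega) (by omega)) with hh | hh
    · exfalso
      apply ha'
      rw [hh, show k - 1 + 1 = k by omega] at haC
      exact haC
    · have hbC : b ∈ C := by rw [hh]; exact hb
      have := (Subgroup.mem_inf.mp hbC).2
      rw [Subgroup.mem_centralizer_iff] at this
      exact this a rfl

/-- in a group of maximal class of order `p ^ (2k+1)` with `k + 2 ≤ p` the abelian term `lc (k-1)`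
of the lower central series has exponent `p` -/
theorem MC.pow_eq_one_of_mem (h : MC p (2 * k + 1) G) (hk : 2 ≤ k) (hkp : k + 2 ≤ p) {a : G}
    (ha : a ∈ lc G (k - 1)) : a ^ p = 1 := by
  have hpp := hp.out
  have hlast : lc G (2 * k) = ⊥ := by
    have := h.lc_last
    rwa [show 2 * k + 1 - 1 = 2 * k by omega] at this
  -- a uniform element
  obtain ⟨s, hs⟩ := h.exists_uniform (Finset.Icc (k - 2) (2 * k - 2))
    (by intro j hj; rw [Finset.mem_Icc] at hj; omega)
    (by rw [Nat.card_Icc]; omega)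
  have hs' : ∀ j, k - 2 ≤ j → j + 3 ≤ 2 * k + 1 → s ∉ K G j := by
    intro j h1 h2
    exact hs j (by rw [Finset.mem_Icc]; omega)
  -- all `p`-th powers lie in `lc (k-2)`
  have hx : ∀ x : G, x ^ p ∈ lc G (k - 2) := by
    intro x
    rcases Nat.lt_or_ge k 3 with hk3 | hk3
    · have : k - 2 = 0 := by omega
      rw [this]
      exact Subgroup.mem_top _
    · have hq : MC p k (G ⧸ lc G (k - 1)) := by
        have := h.quotient (c := k - 1) (by omega) (by omega)
        rwa [show k - 1 + 1 = k by omega] at this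
      have h1 := hq.pow_mem_last (by omega) (QuotientGroup.mk' (lc G (k - 1)) x)
      rw [lc_quotient] at h1
      obtain ⟨z, hz, hzx⟩ := h1
      rw [← map_pow] at hzx
      have h2 : z⁻¹ * x ^ p ∈ lc G (k - 1) := by
        rw [← QuotientGroup.ker_mk' (lc G (k - 1)), MonoidHom.mem_ker, map_mul, map_inv, hzx,
          inv_mul_cancel]
      have h3 : x ^ p = z * (z⁻¹ * x ^ p) := by group
      rw [h3]
      exact mul_mem hz (lc_anti (by omega) h2)
  -- `s ^ p` is central
  have hsp : s ^ p ∈ lc G (2 * k + 1 - 2) := by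
    rcases Nat.lt_or_ge k 3 with hk3 | hk3
    · exact h.mem_last_of_commute le_rfl (fun j h1 h2 => hs' j (by omega) h2)
        (h.pow_mem_lc_one s) (Commute.pow_right (Commute.refl s) p)
    · exact h.mem_last_of_commute (a := k - 2) (by omega) (fun j h1 h2 => hs' j h1 h2)
        (hx s) (Commute.pow_right (Commute.refl s) p)
  have hcen := h.last_central hsp
  -- the regular subgroup `T`
  set T : Subgroup G := Subgroup.zpowers s ⊔ lc G (k - 1) with hT
  have hsT : s ∈ T := le_sup_left (a := Subgroup.zpowers s) (Subgroup.mem_zpowers s)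
  have hAT : lc G (k - 1) ≤ T := le_sup_right
  have hnorm : ∀ X : Subgroup G, X ≤ Subgroup.normalizer ((lc G k : Subgroup G) : Set G) := by
    intro X
    rw [Subgroup.normalizer_eq_top]
    exact le_top
  have hAtop : ∀ X : Subgroup G, ⁅lc G (k - 1), X⁆ ≤ lc G k := by
    intro X
    calc ⁅lc G (k - 1), X⁆ ≤ ⁅lc G (k - 1), ⊤⁆ := Subgroup.commutator_mono le_rfl le_top
      _ = lc G (k - 1 + 1) := rfl
      _ = lc G k := by rw [show k - 1 + 1 = k by omega]
  have hZT : ⁅Subgroup.zpowers s, T⁆ ≤ lc G k := by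
    rw [Subgroup.commutator_comm]
    apply Cfsg.Agent.Lib.Helper95_Uniserial.commutator_sup_le (hnorm _) (hnorm _)
    · rw [Subgroup.commutator_le]
      intro x hx y hy
      obtain ⟨i, rfl⟩ := Subgroup.mem_zpowers_iff.mp hx
      obtain ⟨j, rfl⟩ := Subgroup.mem_zpowers_iff.mp hy
      have : ⁅s ^ i, s ^ j⁆ = 1 := by
        rw [commutatorElement_eq_one_iff_commute]
        exact (Commute.refl s).zpow_zpow i j
      rw [this]
      exact one_mem _
    · exact hAtop _
  have hT1 : ⁅T, T⁆ ≤ lc G k :=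
    Cfsg.Agent.Lib.Helper95_Uniserial.commutator_sup_le (hnorm _) (hnorm _) hZT (hAtop _)
  have hTl : ∀ t, T.lowerCentralSeries (t + 1) ≤ lc G (k + t) := by
    intro t
    induction t with
    | zero => exact hT1
    | succ t ih =>
      calc T.lowerCentralSeries (t + 1 + 1) = ⁅T.lowerCentralSeries (t + 1), T⁆ := rfl
        _ ≤ ⁅lc G (k + t), ⊤⁆ := Subgroup.commutator_mono ih le_top
        _ = lc G (k + (t + 1)) := rfl
  have hTbot : T.lowerCentralSeries (p - 1) = ⊥ := by
    have h1 := hTl (p - 2)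
    rw [show p - 2 + 1 = p - 1 by omega] at h1
    have h2 : lc G (k + (p - 2)) ≤ lc G (2 * k) := lc_anti (by omega)
    rw [hlast] at h2
    exact le_bot_iff.mp (h1.trans h2)
  have hregT : Cfsg.IsRegularPGroup p ↥T := by
    apply Cfsg.Agent.S4209.result (h.isPGroup.to_subgroup T)
    have h1 := Subgroup.top_subtype_lowerCentralSeries T (p - 1)
    rw [hTbot] at h1
    exact (Subgroup.map_eq_bot_iff_of_injective _ T.subtype_injective).mp h1
  -- commutators with `s` have order dividing `p`
  have key : ∀ y : G, s⁻¹ * y * s * y⁻¹ ∈ lc G (k - 1) → (s⁻¹ * y * s * y⁻¹) ^ p = 1 := by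
    intro y hc
    have hcT : s⁻¹ * y * s * y⁻¹ ∈ T := hAT hc
    have hb : (s * (s⁻¹ * y * s * y⁻¹)) ^ p = s ^ p := by
      have e : s * (s⁻¹ * y * s * y⁻¹) = y * s * y⁻¹ := by group
      rw [e, conj_pow]
      have := (hcen y).eq
      rw [← this, mul_assoc, mul_inv_cancel, mul_one]
    have h1 := (Cfsg.Agent.Lib.Helper70_Regular.pow_eq_pow_iff hregT ⟨s, hsT⟩
      ⟨s * (s⁻¹ * y * s * y⁻¹), mul_mem hsT hcT⟩ 1).mp (by
        apply Subtype.ext
        rw [pow_one]
        push_cast
        exact hb.symm)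
    have h2 := congrArg Subtype.val h1
    rw [pow_one] at h2
    push_cast at h2
    rw [inv_mul_cancel_left] at h2
    exact h2
  -- descending induction
  have D : ∀ d, d ≤ k + 1 → ∀ a ∈ lc G (2 * k - d), a ^ p = 1 := by
    intro d
    induction d with
    | zero =>
      intro _ a ha
      rw [Nat.sub_zero, hlast, Subgroup.mem_bot] at ha
      rw [ha, one_pow]
    | succ d ih =>
      intro hd a ha
      have ih' := ih (by omega)
      set i := 2 * k - (d + 1) with hi
      have hi1 : 2 * k - d = i + 1 := by omega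
      rw [hi1] at ih'
      have hik : k - 1 ≤ i := by omega
      have hsinv : s⁻¹ ∉ K G (i - 1) := by
        intro hmem
        exact hs' (i - 1) (by omega) (by omega) (by simpa using inv_mem hmem)
      rw [mem_K] at hsinv
      push Not at hsinv
      obtain ⟨y, hy, hyc⟩ := hsinv
      rw [show i - 1 + 2 = i + 1 by omega] at hyc
      have hci : ⁅s⁻¹, y⁆ ∈ lc G i := by
        have := comm_mem_lc_succ' hy s⁻¹
        rwa [show i - 1 + 1 = i by omega] at this
      have hce : ⁅s⁻¹, y⁆ = s⁻¹ * y * s * y⁻¹ := by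
        rw [commutatorElement_def, inv_inv]
      have hcp : (⁅s⁻¹, y⁆) ^ p = 1 := by
        rw [hce]
        apply key
        rw [← hce]
        exact lc_anti hik hci
      let Ω : Subgroup G :=
        { carrier := {a | a ∈ lc G i ∧ a ^ p = 1}
          one_mem' := ⟨one_mem _, one_pow _⟩
          mul_mem' := by
            rintro a b ⟨ha, hap⟩ ⟨hb, hbp⟩
            refine ⟨mul_mem ha hb, ?_⟩
            rw [(h.commute_of_mem hk (lc_anti hik ha) (lc_anti hik hb)).mul_pow, hap, hbp, one_mul]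
          inv_mem' := by
            rintro a ⟨ha, hap⟩
            exact ⟨inv_mem ha, by rw [inv_pow, hap, inv_one]⟩ }
      have hAC : lc G (i + 1) ≤ Ω := fun x hx => ⟨lc_anti (Nat.le_succ i) hx, ih' x hx⟩
      have hCB : Ω ≤ lc G i := fun x hx => hx.1
      rcases sandwich hp.out hAC hCB (h.card_step (by omega) (by omega)) with hh | hh
      · exfalso
        apply hyc
        rw [← hh]
        exact ⟨hci, hcp⟩
      · have : a ∈ Ω := by rw [hh]; exact ha
        exact this.2
  have := D (k + 1) le_rfl a (by rwa [show 2 * k - (k + 1) = k - 1 by omega])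
  exact this

end Main

end Cfsg.Agent.Lib.Helper20_MaxClassExp
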