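import Mathlib
import Cfsg.Prelude.Def_Transfer
import Cfsg.Prelude.Def_Solvable
import Cfsg.Agent.Lib.Helper48_SPE
import Cfsg.Agent.Lib.Helper1_Cores
import Cfsg.Agent.Lib.Helper2_PResidual
import Cfsg.Agent.Lib.Helper2_Coprime
import Cfsg.Agent.Lib.Helper22_Cores
import Cfsg.Agent.Lib.Helper23_PComp
import Cfsg.Agent.Lib.Helper47_WeaklyClosed
import Cfsg.Agent.Lib.Helper47_PClosed
import Cfsg.Agent.Lib.Helper48_Coprime

/-!
# `O^p` of subgroups, inside the ambient group (helper48)

`Op p H` is the subgroup generated by the `p'`-elements of the subgroup `H`. Basic API, behaviour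
under homomorphisms, the index of `O^p(H)` in `H`, and Wielandt's lemma that a subnormal subgroup
`H = O^p(H)` is normalized by `O_p(G)`.
-/

set_option autoImplicit false
open Cfsg
open scoped Pointwise
open Cfsg.Agent.Lib.Helper48_SPE

namespace Cfsg.Agent.Lib.Helper48_Op

variable {G : Type*} [Group G]

/-- `O^p(H)` for a subgroup `H`, inside the ambient group. -/
def Op (p : ℕ) (H : Subgroup G) : Subgroup G :=
  Subgroup.closure {x : G | x ∈ H ∧ (orderOf x).Coprime p}

theorem Op_le (p : ℕ) (H : Subgroup G) : Op p H ≤ H := by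
  unfold Op
  rw [Subgroup.closure_le]
  intro x hx
  exact hx.1

theorem mem_Op {p : ℕ} {H : Subgroup G} {x : G} (hx : x ∈ H) (hc : (orderOf x).Coprime p) :
    x ∈ Op p H := Subgroup.subset_closure ⟨hx, hc⟩

theorem Op_le_iff {p : ℕ} {H K : Subgroup G} :
    Op p H ≤ K ↔ ∀ x ∈ H, (orderOf x).Coprime p → x ∈ K := by
  unfold Op
  rw [Subgroup.closure_le]
  constructor
  · intro h x hx hc
    exact h ⟨hx, hc⟩
  · intro h x hx
    exact h x hx.1 hx.2

theorem Op_mono {p : ℕ} {H K : Subgroup G} (h : H ≤ K) : Op p H ≤ Op p K := by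
  rw [Op_le_iff]
  intro x hx hc
  exact mem_Op (h hx) hc

theorem Op_Op (p : ℕ) (H : Subgroup G) : Op p (Op p H) = Op p H := by
  apply le_antisymm (Op_le p _)
  rw [Op_le_iff]
  intro x hx hc
  exact mem_Op (mem_Op hx hc) hc

theorem Op_sup_le (p : ℕ) (H K : Subgroup G) : Op p H ⊔ Op p K ≤ Op p (H ⊔ K) :=
  sup_le (Op_mono le_sup_left) (Op_mono le_sup_right)

/-- The join of two subgroups generated by `p'`-elements is generated by `p'`-elements. -/
theorem Op_sup_eq_of_eq {p : ℕ} {H K : Subgroup G} (hH : Op p H = H) (hK : Op p K = K) :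
    Op p (H ⊔ K) = H ⊔ K := by
  apply le_antisymm (Op_le p _)
  have := Op_sup_le p H K
  rwa [hH, hK] at this

theorem Op_top (p : ℕ) : Op p (⊤ : Subgroup G) = pResidual p G := by
  unfold Op pResidual
  congr 1
  ext x
  simp

theorem Op_eq_map_pResidual (p : ℕ) (H : Subgroup G) :
    Op p H = (pResidual p ↥H).map H.subtype :=
  (Cfsg.Agent.Lib.Helper47_WeaklyClosed.map_subtype_pResidual H).symm

theorem Op_map_of_injective {G' : Type*} [Group G'] (p : ℕ) (f : G →* G')
    (hf : Function.Injective f) (H : Subgroup G) : (Op p H).map f = Op p (H.map f) := by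
  unfold Op
  rw [MonoidHom.map_closure]
  congr 1
  ext y
  constructor
  · rintro ⟨x, ⟨hx, hc⟩, rfl⟩
    exact ⟨Subgroup.mem_map_of_mem f hx, by rwa [orderOf_injective f hf]⟩
  · rintro ⟨⟨x, hx, rfl⟩, hc⟩
    exact ⟨x, ⟨hx, by rwa [orderOf_injective f hf] at hc⟩, rfl⟩

theorem Op_conj_smul (p : ℕ) (g : G) (H : Subgroup G) :
    MulAut.conj g • Op p H = Op p (MulAut.conj g • H) :=
  Op_map_of_injective p (MulAut.conj g).toMonoidHom (MulAut.conj g).injective H

theorem normalizer_le_normalizer_Op (p : ℕ) (H : Subgroup G) :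
    Subgroup.normalizer (H : Set G) ≤ Subgroup.normalizer ((Op p H : Subgroup G) : Set G) := by
  intro x hx
  rw [Subgroup.mem_normalizer_iff_map_conj_eq] at hx ⊢
  have hx' : Subgroup.map (MulAut.conj x).toMonoidHom H = H := hx
  have h := Op_conj_smul p x H
  rw [conj_smul_eq_map, conj_smul_eq_map, hx'] at h
  exact h

theorem Op_normal (p : ℕ) (H : Subgroup G) [hH : H.Normal] : (Op p H).Normal := by
  rw [← Subgroup.normalizer_eq_top_iff, eq_top_iff]
  refine le_trans ?_ (normalizer_le_normalizer_Op p H)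
  rw [Subgroup.normalizer_eq_top_iff.mpr hH]

/-- Some `p`-power of an element of `H` lies in `O^p(H)`. -/
theorem exists_pow_mem_Op [Finite G] {p : ℕ} [Fact p.Prime] {H : Subgroup G} {x : G} (hx : x ∈ H) :
    ∃ k : ℕ, x ^ (p ^ k) ∈ Op p H := by
  have hp : p.Prime := Fact.out
  have hpos : 0 < orderOf x := orderOf_pos _
  obtain ⟨k, m, hm, hkm⟩ := Nat.exists_eq_pow_mul_and_not_dvd hpos.ne' p hp.ne_one
  refine ⟨k, mem_Op (H.pow_mem hx _) ?_⟩
  have h1 : orderOf (x ^ (p ^ k)) = m := by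
    rw [orderOf_pow' _ (pow_ne_zero k hp.ne_zero), hkm]
    rw [Nat.gcd_eq_right (dvd_mul_right _ _)]
    exact Nat.mul_div_cancel_left m (pow_pos hp.pos k)
  rw [h1]
  exact ((Nat.Prime.coprime_iff_not_dvd hp).mpr hm).symm

/-- `O^p` commutes with images under homomorphisms of finite groups. -/
theorem Op_map [Finite G] {G' : Type*} [Group G'] (p : ℕ) [Fact p.Prime] (f : G →* G')
    (H : Subgroup G) : (Op p H).map f = Op p (H.map f) := by
  apply le_antisymm
  · rw [Subgroup.map_le_iff_le_comap, Op_le_iff]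
    intro x hx hc
    rw [Subgroup.mem_comap]
    exact mem_Op (Subgroup.mem_map_of_mem f hx)
      (Nat.Coprime.coprime_dvd_left (orderOf_map_dvd f x) hc)
  · rw [Op_le_iff]
    rintro _ ⟨x, hx, rfl⟩ hc
    obtain ⟨k, hk⟩ := exists_pow_mem_Op (p := p) hx
    refine Cfsg.Agent.Lib.Helper47_PClosed.mem_of_pow_mem_of_pow_mem_of_coprime
      (a := p ^ k) (b := orderOf (f x)) (Nat.Coprime.pow_left k hc.symm) ?_ ?_
    · rw [← map_pow]
      exact Subgroup.mem_map_of_mem _ hk
    · rw [pow_orderOf_eq_one]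
      exact Subgroup.one_mem _

/-- The index of `O^p(H)` in `H` is a power of `p`. -/
theorem relIndex_Op [Finite G] (p : ℕ) [Fact p.Prime] (H : Subgroup G) :
    ∃ k : ℕ, (Op p H).relIndex H = p ^ k := by
  obtain ⟨k, hk⟩ := IsPGroup.iff_card.mp
    (Cfsg.Agent.Lib.Helper2_PResidual.isPGroup_quotient_pResidual (G := ↥H) (p := p))
  refine ⟨k, ?_⟩
  rw [Op_eq_map_pResidual]
  unfold Subgroup.relIndex
  have h1 : ((pResidual p ↥H).map H.subtype).subgroupOf H = pResidual p ↥H :=
    Subgroup.comap_map_eq_self_of_injective H.subtype_injective _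
  rw [h1, Subgroup.index_eq_card]
  exact hk

/-- A subgroup `K ⊴ H` of `p`-power index contains `O^p(H)`. -/
theorem Op_le_of_normal_of_relIndex [Finite G] {p : ℕ} [Fact p.Prime] {K H : Subgroup G}
    (hKH : K ≤ H) (hn : H ≤ Subgroup.normalizer (K : Set G)) (hidx : ∃ k : ℕ, K.relIndex H = p ^ k) :
    Op p H ≤ K := by
  have hnorm : (K.subgroupOf H).Normal := (Subgroup.normal_subgroupOf_iff_le_normalizer hKH).mpr hn
  obtain ⟨k, hk⟩ := hidx
  have hpg : IsPGroup p (↥H ⧸ K.subgroupOf H) := by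
    apply IsPGroup.of_card (n := k)
    rw [← Subgroup.index_eq_card]
    exact hk
  have h1 := Cfsg.Agent.Lib.Helper2_PResidual.pResidual_le_of_isPGroup_quotient (K.subgroupOf H) hpg
  rw [Op_eq_map_pResidual]
  refine (Subgroup.map_mono h1).trans ?_
  rw [Subgroup.map_subgroupOf_eq_of_le hKH]

/-- A subnormal subgroup of `p`-power index contains `O^p(G)`. -/
theorem pResidual_le_of_isSubnormal_of_index [Finite G] {p : ℕ} [Fact p.Prime] {X : Subgroup G}
    (hX : X.IsSubnormal) : (∃ k : ℕ, X.index = p ^ k) → pResidual p G ≤ X := by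
  have hp : p.Prime := Fact.out
  induction hX with
  | top => intro _; exact le_top
  | step H K hle _ hN ih =>
    rintro ⟨k, hk⟩
    have hK : ∃ j : ℕ, K.index = p ^ j := by
      have h1 : K.index ∣ H.index := Subgroup.index_dvd_of_le hle
      rw [hk] at h1
      obtain ⟨j, -, hj⟩ := (Nat.dvd_prime_pow hp).mp h1
      exact ⟨j, hj⟩
    have h2 := ih hK
    have hrel : ∃ j : ℕ, H.relIndex K = p ^ j := by
      have h1 : H.relIndex K ∣ H.index := Subgroup.relIndex_dvd_index_of_le hle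
      rw [hk] at h1
      obtain ⟨j, -, hj⟩ := (Nat.dvd_prime_pow hp).mp h1
      exact ⟨j, hj⟩
    have hn : K ≤ Subgroup.normalizer (H : Set G) :=
      (Subgroup.normal_subgroupOf_iff_le_normalizer hle).mp hN
    have h3 : Op p K ≤ H := Op_le_of_normal_of_relIndex hle hn hrel
    rw [← Op_top]
    calc Op p (⊤ : Subgroup G) = Op p (Op p (⊤ : Subgroup G)) := (Op_Op p _).symm
      _ ≤ Op p K := Op_mono (by rw [Op_top]; exact h2)
      _ ≤ H := h3

/-- Core of Wielandt's lemma: for `H` subnormal, `O^p(H O_p(G)) ≤ H`. -/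
theorem Op_sup_pCore_le [Finite G] {p : ℕ} [Fact p.Prime] {H : Subgroup G} (hH : H.IsSubnormal) :
    Op p (H ⊔ pCore p G) ≤ H := by
  have hp : p.Prime := Fact.out
  have hsub : (H.subgroupOf (H ⊔ pCore p G)).IsSubnormal := hH.subgroupOf
  have hidx : ∃ k : ℕ, (H.subgroupOf (H ⊔ pCore p G)).index = p ^ k := by
    have h1 : H.relIndex (pCore p G) = H.relIndex (pCore p G ⊔ H) :=
      Cfsg.Agent.Lib.Helper23_PComp.relIndex_eq_relIndex_sup H (pCore p G)
    have h2 : H.relIndex (pCore p G) ∣ Nat.card ↥(pCore p G) := Subgroup.relIndex_dvd_card _ _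
    obtain ⟨n, hn⟩ := IsPGroup.iff_card.mp (Cfsg.Agent.Lib.Helper1_Cores.pCore_isPGroup (G := G) p)
    rw [hn] at h2
    obtain ⟨j, -, hj⟩ := (Nat.dvd_prime_pow hp).mp h2
    refine ⟨j, ?_⟩
    show H.relIndex (H ⊔ pCore p G) = p ^ j
    rw [sup_comm, ← h1]
    exact hj
  have h3 := pResidual_le_of_isSubnormal_of_index hsub hidx
  rw [Op_eq_map_pResidual]
  refine (Subgroup.map_mono h3).trans ?_
  rw [Subgroup.map_subgroupOf_eq_of_le le_sup_left]

/-- **Wielandt**: a subnormal subgroup `H = O^p(H)` is normalized by `O_p(G)`. -/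
theorem pCore_le_normalizer_of_Op_eq [Finite G] {p : ℕ} [Fact p.Prime] {H : Subgroup G}
    (hH : H.IsSubnormal) (hOp : Op p H = H) :
    pCore p G ≤ Subgroup.normalizer (H : Set G) := by
  have h1 : Op p (H ⊔ pCore p G) = H := by
    apply le_antisymm (Op_sup_pCore_le hH)
    have := Op_mono (p := p) (le_sup_left : H ≤ H ⊔ pCore p G)
    rwa [hOp] at this
  have h2 := normalizer_le_normalizer_Op p (H ⊔ pCore p G)
  rw [h1] at h2
  exact (le_sup_right.trans Subgroup.le_normalizer).trans h2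

/-- A subnormal `p`-subgroup normalizes every subnormal subgroup `H = O^p(H)`. -/
theorem le_normalizer_of_Op_eq [Finite G] {p : ℕ} [Fact p.Prime] {H Q : Subgroup G}
    (hH : H.IsSubnormal) (hOp : Op p H = H) (hQ : Q.IsSubnormal) (hQp : IsPGroup p Q) :
    Q ≤ Subgroup.normalizer (H : Set G) :=
  (Cfsg.Agent.Lib.Helper22_Cores.le_pCore_of_isSubnormal p hQ hQp).trans
    (pCore_le_normalizer_of_Op_eq hH hOp)

/-- `H = O^p(H) S` for a Sylow `p`-subgroup `S` of `H`. -/
theorem Op_sup_isSylowIn [Finite G] {p : ℕ} [Fact p.Prime] {S H : Subgroup G}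
    (hS : IsSylowIn p S H) : Op p H ⊔ S = H := by
  have h := Cfsg.Agent.Lib.Helper47_WeaklyClosed.map_pResidual_sup_map_sylow H hS.toSylow
  rw [hS.map_toSylow, ← Op_eq_map_pResidual] at h
  exact h

section Coprime

open scoped commutatorElement

/-- A subgroup of a commutative subgroup is commutative. -/
theorem isMulCommutative_of_le {H K : Subgroup G} [hK : IsMulCommutative K] (h : H ≤ K) :
    IsMulCommutative H := by
  refine ⟨⟨fun a b => Subtype.ext ?_⟩⟩
  have := hK.is_comm.comm (⟨a, h a.2⟩ : K) ⟨b, h b.2⟩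
  have h2 : ((a : G) * (b : G)) = (b : G) * (a : G) := congrArg Subtype.val this
  exact h2

/-- Coprime action on an abelian subgroup: `[Q, S, S] = [Q, S]`. -/
theorem commutator_commutator_eq_of_coprime (Q S : Subgroup G) [IsMulCommutative Q] [Finite S]
    (hS : S ≤ Subgroup.normalizer (Q : Set G)) (hcop : (Nat.card S).Coprime (Nat.card Q)) :
    ⁅⁅Q, S⁆, S⁆ = ⁅Q, S⁆ := by
  have hle : ⁅Q, S⁆ ≤ Q := Cfsg.Agent.Lib.Helper2_Coprime.commutator_le_of_le_normalizer Q S hS
  have hcomm : IsMulCommutative (⁅Q, S⁆ : Subgroup G) := isMulCommutative_of_le hle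
  have hS1 : S ≤ Subgroup.normalizer ((⁅Q, S⁆ : Subgroup G) : Set G) :=
    Cfsg.Agent.Lib.Helper48_Coprime.le_normalizer_commutator hS Subgroup.le_normalizer
  have hcop1 : (Nat.card S).Coprime (Nat.card (⁅Q, S⁆ : Subgroup G)) :=
    Nat.Coprime.coprime_dvd_right (Subgroup.card_dvd_of_le hle) hcop
  have h1 := Cfsg.Agent.Lib.Helper2_Coprime.commutator_sup_centralizer_eq ⁅Q, S⁆ S hS1 hcop1
  have h2 := Cfsg.Agent.Lib.Helper2_Coprime.commutator_inf_centralizer_eq_bot Q S hS hcop
  have h3 : ⁅Q, S⁆ ⊓ Subgroup.centralizer (S : Set G) = ⊥ := by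
    rw [eq_bot_iff, ← h2]
    exact le_inf inf_le_left (le_inf (inf_le_left.trans hle) inf_le_right)
  rw [h3, sup_bot_eq] at h1
  exact h1

/-- If `Q` is a normal abelian `p'`-subgroup and `B` is subnormal, then `[Q, S] ≤ B` for every
`p`-subgroup `S` of `B`. -/
theorem commutator_le_of_isSubnormal_of_coprime [Finite G] {p : ℕ} [Fact p.Prime] (Q : Subgroup G)
    [hQn : Q.Normal] [IsMulCommutative Q] (hQ : ¬ p ∣ Nat.card Q) {B : Subgroup G}
    (hB : B.IsSubnormal) : ∀ S : Subgroup G, S ≤ B → IsPGroup p S → ⁅Q, S⁆ ≤ B := by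
  have hp : p.Prime := Fact.out
  induction hB with
  | top => intro S _ _; exact le_top
  | step H K hle _ hN ih =>
    intro S hSH hSp
    have h1 : ⁅Q, S⁆ ≤ K := ih S (hSH.trans hle) hSp
    have hcop : (Nat.card S).Coprime (Nat.card Q) := by
      obtain ⟨k, hk⟩ := IsPGroup.iff_card.mp hSp
      rw [hk]
      exact Nat.Coprime.pow_left k ((Nat.Prime.coprime_iff_not_dvd hp).mpr hQ)
    have hSn : S ≤ Subgroup.normalizer (Q : Set G) := by
      rw [Subgroup.normalizer_eq_top_iff.mpr hQn]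
      exact le_top
    rw [← commutator_commutator_eq_of_coprime Q S hSn hcop]
    refine (Subgroup.commutator_mono h1 hSH).trans ?_
    have hn : K ≤ Subgroup.normalizer (H : Set G) :=
      (Subgroup.normal_subgroupOf_iff_le_normalizer hle).mp hN
    rw [Subgroup.commutator_le]
    intro k hk h hh
    have := (Subgroup.mem_normalizer_iff.mp (hn hk) h).mp hh
    rw [commutatorElement_def]
    exact H.mul_mem this (H.inv_mem hh)

end Coprime

end Cfsg.Agent.Lib.Helper48_Op
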