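import Mathlib
import Cfsg.Agent.Lib.Helper48_Op
import Cfsg.Agent.Lib.Helper25_CN
import Cfsg.Agent.S3889

/-!
# Minimal covers by nilpotent subgroups (helper20)

A cover of a finite group by proper subgroups with the least possible number of members has the
property that any two distinct members generate the group.  If all members are nilpotent, the
centre is trivial and the Sylow `p`-subgroups are abelian, a non-identity `p`-element lies in a
unique member, and a Sylow `p`-subgroup `P` contained in a member `A` satisfies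
`C_G(x) = A` for all `x ∈ P − 1`, `P` is a TI-subgroup, and `N_G(P)` is the unique maximal
subgroup containing `A`.
-/

set_option autoImplicit false

namespace Cfsg.Agent.Lib.Helper20_NilCover

open Cfsg.Agent.Lib.Helper48_SPE Cfsg.Agent.Lib.Helper48_Op

variable {G : Type*} [Group G]

/-- a cover by proper subgroups of least cardinality -/
structure MinCover (𝓐 : Finset (Subgroup G)) : Prop where
  proper : ∀ A ∈ 𝓐, A ≠ ⊤
  cover : ∀ g : G, ∃ A ∈ 𝓐, g ∈ A
  minimal : ∀ 𝓑 : Finset (Subgroup G),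
    (∀ A ∈ 𝓑, A ≠ ⊤) ∧ (∀ g : G, ∃ A ∈ 𝓑, g ∈ A) → 𝓐.card ≤ 𝓑.card

variable {𝓐 : Finset (Subgroup G)}

/-- two distinct members of a minimal cover generate the group -/
theorem MinCover.eq_top_of_le (h : MinCover 𝓐) {A B H : Subgroup G} (hA : A ∈ 𝓐) (hB : B ∈ 𝓐)
    (hAB : A ≠ B) (hAH : A ≤ H) (hBH : B ≤ H) : H = ⊤ := by
  classical
  by_contra hH
  have hB' : B ∈ 𝓐.erase A := Finset.mem_erase.mpr ⟨fun e => hAB e.symm, hB⟩
  have hcard : (insert H ((𝓐.erase A).erase B)).card < 𝓐.card := by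
    have h1 : ((𝓐.erase A).erase B).card = 𝓐.card - 1 - 1 := by
      rw [Finset.card_erase_of_mem hB', Finset.card_erase_of_mem hA]
    have h2 := Finset.card_insert_le H ((𝓐.erase A).erase B)
    have h3 : 2 ≤ 𝓐.card := by
      have : ({A, B} : Finset (Subgroup G)) ⊆ 𝓐 := by
        intro x hx
        rcases Finset.mem_insert.mp hx with rfl | hx
        · exact hA
        · rw [Finset.mem_singleton.mp hx]; exact hB
      have h4 := Finset.card_le_card this
      rwa [Finset.card_pair hAB] at h4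
    omega
  have := h.minimal (insert H ((𝓐.erase A).erase B)) ⟨?_, ?_⟩
  · omega
  · intro C hC
    rcases Finset.mem_insert.mp hC with rfl | hC
    · exact hH
    · exact h.proper C (Finset.mem_of_mem_erase (Finset.mem_of_mem_erase hC))
  · intro g
    obtain ⟨C, hC, hg⟩ := h.cover g
    by_cases hCA : C = A
    · exact ⟨H, Finset.mem_insert_self _ _, hAH (hCA ▸ hg)⟩
    by_cases hCB : C = B
    · exact ⟨H, Finset.mem_insert_self _ _, hBH (hCB ▸ hg)⟩
    · exact ⟨C, Finset.mem_insert_of_mem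
        (Finset.mem_erase.mpr ⟨hCB, Finset.mem_erase.mpr ⟨hCA, hC⟩⟩), hg⟩

/-- commuting elements of coprime orders are powers of their product -/
theorem mem_zpowers_mul_of_coprime {u k : G} (hc : Commute u k)
    (hcop : (orderOf u).Coprime (orderOf k)) :
    u ∈ Subgroup.zpowers (u * k) ∧ k ∈ Subgroup.zpowers (u * k) := by
  constructor
  · obtain ⟨m, hm⟩ := exists_pow_eq_self_of_coprime hcop.symm
    have h1 : (u * k) ^ orderOf k = u ^ orderOf k := by
      rw [hc.mul_pow, pow_orderOf_eq_one, mul_one]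
    have h2 : ((u * k) ^ orderOf k) ^ m ∈ Subgroup.zpowers (u * k) :=
      Subgroup.pow_mem _ (Subgroup.pow_mem _ (Subgroup.mem_zpowers _) _) _
    rw [h1, hm] at h2
    exact h2
  · obtain ⟨m, hm⟩ := exists_pow_eq_self_of_coprime hcop
    have h1 : (u * k) ^ orderOf u = k ^ orderOf u := by
      rw [hc.mul_pow, pow_orderOf_eq_one, one_mul]
    have h2 : ((u * k) ^ orderOf u) ^ m ∈ Subgroup.zpowers (u * k) :=
      Subgroup.pow_mem _ (Subgroup.pow_mem _ (Subgroup.mem_zpowers _) _) _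
    rw [h1, hm] at h2
    exact h2

section Finite

variable [Finite G] {p : ℕ} [Fact p.Prime]

/-- every `p`-subgroup is abelian when a Sylow `p`-subgroup is -/
theorem comm_of_isPGroup (P : Sylow p G) (hab : ∀ a ∈ (P : Subgroup G), ∀ b ∈ (P : Subgroup G), a * b = b * a)
    (H : Subgroup G) (hH : IsPGroup p H) : ∀ a ∈ H, ∀ b ∈ H, a * b = b * a := by
  obtain ⟨Q, hQ⟩ := hH.exists_le_sylow
  obtain ⟨g, hg⟩ := MulAction.exists_smul_eq G P Q
  have hQ' : (Q : Subgroup G) = (P : Subgroup G).map (MulAut.conj g).toMonoidHom := by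
    rw [← hg]; rfl
  intro a ha b hb
  have ha' := hQ ha
  have hb' := hQ hb
  rw [hQ'] at ha' hb'
  obtain ⟨a₀, ha₀, rfl⟩ := ha'
  obtain ⟨b₀, hb₀, rfl⟩ := hb'
  rw [← map_mul, ← map_mul, hab a₀ ha₀ b₀ hb₀]

/-- in a nilpotent subgroup, a `p`-element is central if all `p`-subgroups are abelian -/
theorem comm_of_nilpotent (hpab : ∀ H : Subgroup G, IsPGroup p H → ∀ a ∈ H, ∀ b ∈ H, a * b = b * a)
    (A : Subgroup G) (hA : Group.IsNilpotent ↥A) {x : G} (hx : x ∈ A) {k : ℕ}
    (hxk : x ^ (p ^ k) = 1) {a : G} (ha : a ∈ A) : a * x = x * a := by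
  have hp : p.Prime := Fact.out
  obtain ⟨T, hTA, hT, hTmem⟩ := Cfsg.Agent.Lib.Helper25_CN.exists_qPart A hA p
  have hpos : 0 < orderOf a := orderOf_pos a
  obtain ⟨j, m, hm, hjm⟩ := Nat.exists_eq_pow_mul_and_not_dvd hpos.ne' p hp.ne_one
  have hcop : (p ^ j).Coprime m := Nat.Coprime.pow_left j ((Nat.Prime.coprime_iff_not_dvd hp).mpr hm)
  have hao : a ^ (p ^ j * m) = 1 := by rw [← hjm, pow_orderOf_eq_one]
  obtain ⟨α, β, hab, hα, hβ, -, -⟩ :=
    Cfsg.Agent.Lib.Helper25_CN.coprime_decomp a (p ^ j) m hcop hao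
  have hαA : a ^ α ∈ A := A.zpow_mem ha α
  have hβA : a ^ β ∈ A := A.zpow_mem ha β
  -- the `p`-part commutes with `x`
  have h1 : a ^ α * x = x * a ^ α :=
    hpab T hT _ (hTmem _ hαA ⟨j, hα⟩) _ (hTmem _ hx ⟨k, hxk⟩)
  -- the `p'`-part commutes with `x`
  have h2 : a ^ β * x = x * a ^ β := by
    have := hA
    have hc := Cfsg.Agent.Lib.Helper32_Nilpotent.commute_of_coprime_pow_eq_one ↥A
      (⟨a ^ β, hβA⟩ : ↥A) ⟨x, hx⟩ m (p ^ k) (Subtype.ext (by simpa using hβ))
      (Subtype.ext (by simpa using hxk))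
      (Nat.Coprime.pow_right k ((Nat.Prime.coprime_iff_not_dvd hp).mpr hm).symm)
    exact congrArg Subtype.val hc.eq
  rw [hab]
  calc a ^ α * a ^ β * x = a ^ α * (a ^ β * x) := by group
    _ = a ^ α * (x * a ^ β) := by rw [h2]
    _ = (a ^ α * x) * a ^ β := by group
    _ = x * a ^ α * a ^ β := by rw [h1]
    _ = x * (a ^ α * a ^ β) := by group

/-- working hypotheses: a minimal cover by nilpotent subgroups of a centreless group with abelian
Sylow `p`-subgroup `P` -/
structure NilCover (𝓐 : Finset (Subgroup G)) (P : Sylow p G) : Prop extends MinCover 𝓐 where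
  nil : ∀ A ∈ 𝓐, Group.IsNilpotent ↥A
  center : Subgroup.center G = ⊥
  comm : ∀ a ∈ (P : Subgroup G), ∀ b ∈ (P : Subgroup G), a * b = b * a

variable {P : Sylow p G}

theorem NilCover.pab (h : NilCover 𝓐 P) (H : Subgroup G) (hH : IsPGroup p H) :
    ∀ a ∈ H, ∀ b ∈ H, a * b = b * a := comm_of_isPGroup P h.comm H hH

/-- a member containing a `p`-element centralizes it -/
theorem NilCover.le_centralizer (h : NilCover 𝓐 P) {A : Subgroup G} (hA : A ∈ 𝓐) {x : G}
    (hx : x ∈ A) {k : ℕ} (hxk : x ^ (p ^ k) = 1) : A ≤ Subgroup.centralizer ({x} : Set G) := by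
  intro a ha
  rw [Subgroup.mem_centralizer_singleton_iff]
  exact comm_of_nilpotent h.pab A (h.nil A hA) hx hxk ha

/-- a non-identity `p`-element lies in a unique member -/
theorem NilCover.unique_member (h : NilCover 𝓐 P) {A B : Subgroup G} (hA : A ∈ 𝓐) (hB : B ∈ 𝓐)
    {x : G} (hx1 : x ≠ 1) {k : ℕ} (hxk : x ^ (p ^ k) = 1) (hxA : x ∈ A) (hxB : x ∈ B) : A = B := by
  by_contra hAB
  have htop := h.toMinCover.eq_top_of_le hA hB hAB (h.le_centralizer hA hxA hxk)
    (h.le_centralizer hB hxB hxk)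
  have hxc : x ∈ Subgroup.center G := by
    rw [Subgroup.mem_center_iff]
    intro g
    have hg : g ∈ Subgroup.centralizer ({x} : Set G) := by rw [htop]; trivial
    exact Subgroup.mem_centralizer_singleton_iff.mp hg
  rw [h.center, Subgroup.mem_bot] at hxc
  exact hx1 hxc

theorem NilCover.exists_pow (P : Sylow p G) {x : G} (hx : x ∈ (P : Subgroup G)) :
    ∃ k : ℕ, x ^ (p ^ k) = 1 := by
  obtain ⟨k, hk⟩ := P.isPGroup' ⟨x, hx⟩
  exact ⟨k, by simpa using congrArg Subtype.val hk⟩

/-- if `P ≤ A` then the centralizer of a non-identity element of `P` lies in `A` -/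
theorem NilCover.centralizer_le (h : NilCover 𝓐 P) {A : Subgroup G} (hA : A ∈ 𝓐)
    (hPA : (P : Subgroup G) ≤ A) {x : G} (hx : x ∈ (P : Subgroup G)) (hx1 : x ≠ 1) :
    Subgroup.centralizer ({x} : Set G) ≤ A := by
  have hp : p.Prime := Fact.out
  obtain ⟨k, hxk⟩ := NilCover.exists_pow P hx
  have hPC : (P : Subgroup G) ≤ Subgroup.centralizer ({x} : Set G) := by
    intro u hu
    rw [Subgroup.mem_centralizer_singleton_iff]
    exact h.comm u hu x hx
  have hSyl : IsSylowIn p (P : Subgroup G) (Subgroup.centralizer ({x} : Set G)) :=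
    (isSylowIn_top P).mono hPC le_top
  rw [← Op_sup_isSylowIn hSyl]
  refine sup_le ?_ hPA
  unfold Op
  rw [Subgroup.closure_le]
  rintro c ⟨hcC, hcop⟩
  rw [Subgroup.mem_centralizer_singleton_iff] at hcC
  -- the member containing `x * c`
  obtain ⟨B, hB, hxcB⟩ := h.cover (x * c)
  have hox : (orderOf x).Coprime (orderOf c) := by
    have h1 : orderOf x ∣ p ^ k := orderOf_dvd_of_pow_eq_one hxk
    exact Nat.Coprime.coprime_dvd_left h1 (Nat.Coprime.pow_left k hcop.symm)
  obtain ⟨h1, h2⟩ := mem_zpowers_mul_of_coprime (show Commute x c from hcC.symm) hox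
  have hzB : Subgroup.zpowers (x * c) ≤ B := by
    rw [Subgroup.zpowers_le]; exact hxcB
  have hBA : B = A := h.unique_member hB hA hx1 hxk (hzB h1) (hPA hx)
  rw [← hBA]
  exact hzB h2

/-- if `P ≤ A` then `C_G(P) = A` -/
theorem NilCover.centralizer_eq (h : NilCover 𝓐 P) {A : Subgroup G} (hA : A ∈ 𝓐)
    (hPA : (P : Subgroup G) ≤ A) (hP1 : (P : Subgroup G) ≠ ⊥) :
    Subgroup.centralizer ((P : Subgroup G) : Set G) = A := by
  apply le_antisymm
  · obtain ⟨x, hx1⟩ := (Subgroup.ne_bot_iff_exists_ne_one.mp hP1)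
    have hx1' : (x : G) ≠ 1 := fun e => hx1 (Subtype.ext e)
    refine le_trans ?_ (h.centralizer_le hA hPA x.2 hx1')
    exact Subgroup.centralizer_le (by simpa using x.2)
  · intro a ha
    rw [Subgroup.mem_centralizer_iff]
    intro u hu
    obtain ⟨k, huk⟩ := NilCover.exists_pow P hu
    have := h.le_centralizer hA (hPA hu) huk ha
    exact (Subgroup.mem_centralizer_singleton_iff.mp this).symm

/-- `p`-elements of a member containing `P` lie in `P` -/
theorem NilCover.mem_of_pow (h : NilCover 𝓐 P) {A : Subgroup G} (hA : A ∈ 𝓐)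
    (hPA : (P : Subgroup G) ≤ A) {y : G} (hy : y ∈ A) {k : ℕ} (hyk : y ^ (p ^ k) = 1) :
    y ∈ (P : Subgroup G) := by
  obtain ⟨T, hTA, hT, hTmem⟩ := Cfsg.Agent.Lib.Helper25_CN.exists_qPart A (h.nil A hA) p
  have hPT : (P : Subgroup G) ≤ T := by
    intro u hu
    exact hTmem u (hPA hu) (NilCover.exists_pow P hu)
  have hTP : T = (P : Subgroup G) := P.is_maximal' hT hPT
  rw [← hTP]
  exact hTmem y hy ⟨k, hyk⟩

/-- `P` is a TI-subgroup when it lies in a member -/
theorem NilCover.mem_normalizer (h : NilCover 𝓐 P) {A : Subgroup G} (hA : A ∈ 𝓐)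
    (hPA : (P : Subgroup G) ≤ A) {u g : G} (hu : u ∈ (P : Subgroup G)) (hu1 : u ≠ 1)
    (hgu : g * u * g⁻¹ ∈ (P : Subgroup G)) :
    g ∈ Subgroup.normalizer ((P : Subgroup G) : Set G) := by
  have hy1 : g * u * g⁻¹ ≠ 1 := by
    intro e
    apply hu1
    calc u = g⁻¹ * (g * u * g⁻¹) * g := by group
      _ = 1 := by rw [e]; group
  -- the conjugate of `P` lies in `A`, hence in `P`
  have hsub : ∀ v ∈ (P : Subgroup G), g * v * g⁻¹ ∈ (P : Subgroup G) := by
    intro v hv
    have hcomm : g * v * g⁻¹ ∈ Subgroup.centralizer ({g * u * g⁻¹} : Set G) := by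
      rw [Subgroup.mem_centralizer_singleton_iff]
      calc g * v * g⁻¹ * (g * u * g⁻¹) = g * (v * u) * g⁻¹ := by group
        _ = g * (u * v) * g⁻¹ := by rw [h.comm v hv u hu]
        _ = g * u * g⁻¹ * (g * v * g⁻¹) := by group
    have hA' := h.centralizer_le hA hPA hgu hy1 hcomm
    obtain ⟨k, hvk⟩ := NilCover.exists_pow P hv
    refine h.mem_of_pow hA hPA hA' (k := k) ?_
    rw [conj_pow, hvk]; group
  have hmap : (P : Subgroup G).map (MulAut.conj g).toMonoidHom = (P : Subgroup G) := by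
    apply Subgroup.eq_of_le_of_card_ge
    · rintro _ ⟨v, hv, rfl⟩
      exact hsub v hv
    · rw [Nat.card_congr ((P : Subgroup G).equivMapOfInjective (MulAut.conj g).toMonoidHom
        (MulAut.conj g).injective).toEquiv]
  rw [Subgroup.mem_normalizer_iff]
  intro v
  constructor
  · exact hsub v
  · intro hv
    rw [← hmap] at hv
    obtain ⟨w, hw, hwv⟩ := hv
    have : w = v := by
      have : g * w * g⁻¹ = g * v * g⁻¹ := hwv
      calc w = g⁻¹ * (g * w * g⁻¹) * g := by group
        _ = g⁻¹ * (g * v * g⁻¹) * g := by rw [this]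
        _ = v := by group
    rw [← this]; exact hw

/-- a proper subgroup containing the member `A ⊇ P` normalizes `P` -/
theorem NilCover.le_normalizer (h : NilCover 𝓐 P) {A : Subgroup G} (hA : A ∈ 𝓐)
    (hPA : (P : Subgroup G) ≤ A) (hP1 : (P : Subgroup G) ≠ ⊥) {M : Subgroup G} (hM : M ≠ ⊤)
    (hAM : A ≤ M) : M ≤ Subgroup.normalizer ((P : Subgroup G) : Set G) := by
  intro x hxM
  obtain ⟨u, hu1⟩ := (Subgroup.ne_bot_iff_exists_ne_one.mp hP1)
  have hu1' : (u : G) ≠ 1 := fun e => hu1 (Subtype.ext e)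
  have hu : (u : G) ∈ (P : Subgroup G) := u.2
  obtain ⟨k, huk⟩ := NilCover.exists_pow P hu
  obtain ⟨B, hB, hB'⟩ := h.cover (x * u * x⁻¹)
  have hyk : (x * (u : G) * x⁻¹) ^ (p ^ k) = 1 := by rw [conj_pow, huk]; group
  -- `B` lies in the centralizer of `x u x⁻¹`, which lies in `x A x⁻¹ ≤ M`
  have hBM : B ≤ M := by
    intro b hb
    have h1 := h.le_centralizer hB hB' hyk hb
    rw [Subgroup.mem_centralizer_singleton_iff] at h1
    have h2 : x⁻¹ * b * x ∈ Subgroup.centralizer ({(u : G)} : Set G) := by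
      rw [Subgroup.mem_centralizer_singleton_iff]
      calc x⁻¹ * b * x * (u : G) = x⁻¹ * (b * (x * (u : G) * x⁻¹)) * x := by group
        _ = x⁻¹ * ((x * (u : G) * x⁻¹) * b) * x := by rw [h1]
        _ = (u : G) * (x⁻¹ * b * x) := by group
    have h3 := hAM (h.centralizer_le hA hPA hu hu1' h2)
    have h4 : b = x * (x⁻¹ * b * x) * x⁻¹ := by group
    rw [h4]
    exact M.mul_mem (M.mul_mem hxM h3) (M.inv_mem hxM)
  have hBA : B = A := by
    by_contra hne
    exact hM (h.toMinCover.eq_top_of_le hB hA hne hBM hAM)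
  rw [hBA] at hB'
  exact h.mem_normalizer hA hPA hu hu1' (h.mem_of_pow hA hPA hB' hyk)

/-- `N_G(P)` is maximal, and is the only maximal subgroup containing `A` -/
theorem NilCover.isCoatom_normalizer (h : NilCover 𝓐 P) {A : Subgroup G} (hA : A ∈ 𝓐)
    (hPA : (P : Subgroup G) ≤ A) (hnn : ¬ (P : Subgroup G).Normal) :
    IsCoatom (Subgroup.normalizer ((P : Subgroup G) : Set G)) ∧
      ∀ M : Subgroup G, IsCoatom M → A ≤ M →
        M = Subgroup.normalizer ((P : Subgroup G) : Set G) := by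
  have hP1 : (P : Subgroup G) ≠ ⊥ := by
    intro e
    apply hnn
    rw [e]; infer_instance
  have hN : Subgroup.normalizer ((P : Subgroup G) : Set G) ≠ ⊤ := by
    intro e
    exact hnn (Subgroup.normalizer_eq_top_iff.mp e)
  have huniq : ∀ M : Subgroup G, IsCoatom M → A ≤ M →
      M = Subgroup.normalizer ((P : Subgroup G) : Set G) := by
    intro M hM hAM
    have h1 := h.le_normalizer hA hPA hP1 hM.1 hAM
    rcases eq_or_lt_of_le h1 with e | hlt
    · exact e
    · exact absurd (hM.2 _ hlt) hN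
  refine ⟨?_, huniq⟩
  obtain ⟨M, hM, hNM⟩ := (eq_top_or_exists_le_coatom
    (Subgroup.normalizer ((P : Subgroup G) : Set G))).resolve_left hN
  have hAN : A ≤ Subgroup.normalizer ((P : Subgroup G) : Set G) := by
    rw [← h.centralizer_eq hA hPA hP1]
    exact Subgroup.centralizer_le_normalizer ((P : Subgroup G) : Set G)
  rw [← huniq M hM (hAN.trans hNM)]
  exact hM

/-- a `p`-element normalizing a Sylow `p`-subgroup lies in it -/
theorem mem_sylow_of_mem_normalizer (P : Sylow p G) {x : G}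
    (hx : x ∈ Subgroup.normalizer ((P : Subgroup G) : Set G)) {k : ℕ} (hxk : x ^ (p ^ k) = 1) :
    x ∈ (P : Subgroup G) := by
  have hz : IsPGroup p (Subgroup.zpowers x) := by
    rw [IsPGroup.iff_card, Nat.card_zpowers]
    exact (Nat.dvd_prime_pow Fact.out).mp (orderOf_dvd_of_pow_eq_one hxk) |>.imp fun _ h => h.2
  have hle : Subgroup.zpowers x ≤ Subgroup.normalizer ((P : Subgroup G) : Set G) := by
    rw [Subgroup.zpowers_le]; exact hx
  have hsup := hz.to_sup_of_normal_right' P.isPGroup' hle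
  have := P.is_maximal' hsup le_sup_right
  rw [← this]
  exact Subgroup.mem_sup_left (Subgroup.mem_zpowers x)

/-- either `P` lies in a member, or it has exponent `p` and order greater than `p` -/
theorem NilCover.exists_le_or (h : NilCover 𝓐 P) (hP1 : (P : Subgroup G) ≠ ⊥) :
    (∃ A ∈ 𝓐, (P : Subgroup G) ≤ A) ∨
      ((∀ a ∈ (P : Subgroup G), a ^ p = 1) ∧ p < Nat.card ↥(P : Subgroup G)) := by
  have hp : p.Prime := Fact.out
  by_cases hex : ∃ A ∈ 𝓐, (P : Subgroup G) ≤ A
  · exact Or.inl hex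
  right
  push Not at hex
  let _ : CommGroup ↥(P : Subgroup G) :=
    { (inferInstance : Group ↥(P : Subgroup G)) with
      mul_comm := fun a b => Subtype.ext (h.comm a a.2 b b.2) }
  have hprime := Cfsg.Agent.S3889.result (G := ↥(P : Subgroup G))
    {B | ∃ A ∈ 𝓐, B = A.subgroupOf (P : Subgroup G)}
    (by
      rintro B ⟨A, hA, rfl⟩ htop
      exact hex A hA (Subgroup.subgroupOf_eq_top.mp htop))
    (by
      intro g
      obtain ⟨A, hA, hg⟩ := h.cover (g : G)
      exact ⟨A.subgroupOf (P : Subgroup G), ⟨A, hA, rfl⟩, Subgroup.mem_subgroupOf.mpr hg⟩)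
    (by
      rintro B ⟨A₁, hA₁, rfl⟩ C ⟨A₂, hA₂, rfl⟩ hne
      rw [eq_bot_iff]
      rintro x ⟨hx1, hx2⟩
      rw [Subgroup.mem_bot]
      by_contra hx
      have hx' : (x : G) ≠ 1 := fun e => hx (Subtype.ext e)
      obtain ⟨k, hk⟩ := NilCover.exists_pow P x.2
      have := h.unique_member hA₁ hA₂ hx' hk (Subgroup.mem_subgroupOf.mp hx1)
        (Subgroup.mem_subgroupOf.mp hx2)
      exact hne (by rw [this]))
  obtain ⟨n, hn⟩ := IsPGroup.iff_card.mp P.isPGroup'
  have hdvd : Monoid.exponent ↥(P : Subgroup G) ∣ p ^ n := by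
    rw [← hn]; exact Group.exponent_dvd_nat_card
  have hexp : Monoid.exponent ↥(P : Subgroup G) = p :=
    (Nat.prime_dvd_prime_iff_eq hprime hp).mp (hprime.dvd_of_dvd_pow hdvd)
  have hpow : ∀ a ∈ (P : Subgroup G), a ^ p = 1 := by
    intro a ha
    have := Monoid.pow_exponent_eq_one (⟨a, ha⟩ : ↥(P : Subgroup G))
    rw [hexp] at this
    exact congrArg Subtype.val this
  refine ⟨hpow, ?_⟩
  rw [hn]
  have hn0 : n ≠ 0 := by
    rintro rfl
    apply hP1
    rw [pow_zero] at hn
    exact Subgroup.eq_bot_of_card_eq _ hn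
  by_cases hn1 : n = 1
  · exfalso
    rw [hn1, pow_one] at hn
    have hcyc : IsCyclic ↥(P : Subgroup G) := isCyclic_of_prime_card hn
    obtain ⟨u, hu⟩ := hcyc.exists_generator
    obtain ⟨A, hA, huA⟩ := h.cover (u : G)
    apply hex A hA
    intro v hv
    obtain ⟨i, hi⟩ := Subgroup.mem_zpowers_iff.mp (hu ⟨v, hv⟩)
    have : v = (u : G) ^ i := by
      have := congrArg Subtype.val hi
      simpa using this.symm
    rw [this]
    exact A.zpow_mem huA i
  · have : 2 ≤ n := by omega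
    calc p = p ^ 1 := (pow_one p).symm
      _ < p ^ n := Nat.pow_lt_pow_right hp.one_lt (by omega)

end Finite

end Cfsg.Agent.Lib.Helper20_NilCover
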