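import Mathlib
import Cfsg.Agent.Lib.Helper95_OPDefs
import Cfsg.Agent.Lib.Helper95_OPBasic
import Cfsg.Agent.Lib.Helper91_MIO_CNTMINUS

set_option autoImplicit false

/-!
Definitions for S2346 (helper30, architect): minimal degree of a non-trivial irreducible complex
representation of `Ω⁻_{2n}(q)`, `n ≥ 4`, all `q`.  Vocabulary of helper95's `Helper95_OPDefs` (`repE`, `wsp`,
`WData`, `LeviHom`, `sigmaRep`, `MinDegT`).  New here: the target degree `dminus`, the count `sminus`, the
count-recognised minus type `IsMinus`, and the one-level weight datum `LData` (the non-zero labels that occur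
are exactly the non-zero vectors `u` of `W` with `Q u = κ`, each with multiplicity one).
-/

namespace Cfsg.Agent.Lib.Helper30_OMDefs

open Module Cfsg.Agent.Lib.Helper94_OrthSmall Cfsg.Agent.Lib.Helper44_QuadClass
  Cfsg.Agent.Lib.Helper14_OmegaSimple Cfsg.Agent.Lib.Helper38_MIODefs
  Cfsg.Agent.Lib.Helper95_OPDefs Cfsg.Agent.Lib.Helper95_OPBasic

/-- The target degree `d⁻_n = (q^n + 1)(q^(n-1) - q)/(q^2 - 1)`. -/
def dminus (q n : ℕ) : ℕ := (q ^ n + 1) * (q ^ (n - 1) - q) / (q ^ 2 - 1)

/-- The number of non-zero singular vectors of a minus-type space of dimension `2m`. -/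
def sminus (q m : ℕ) : ℕ := q ^ (2 * m - 1) - q ^ m + q ^ (m - 1) - 1

section defs

variable {F V : Type*} [Field F] [AddCommGroup V] [Module F V]

/-- Minus type of rank `m` (dimension `2m`, Witt index `m - 1`), recognised by the level-set counts (the
shape used by `Helper91_MIO_CNTMINUS.counts_perp_minus`). -/
structure IsMinus [Fintype F] (Q : QuadraticForm F V) (m : ℕ) : Prop where
  nondeg : (QuadraticMap.polarBilin Q).Nondegenerate
  dim : finrank F V = 2 * m
  zeros : Nat.card {x : V // Q x = 0} =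
    Fintype.card F ^ (2 * m - 1) - Fintype.card F ^ m + Fintype.card F ^ (m - 1)
  level : ∀ c : F, c ≠ 0 →
    Nat.card {x : V // Q x = c} = Fintype.card F ^ (2 * m - 1) + Fintype.card F ^ (m - 1)

variable (Q : QuadraticForm F V)

/-- The one-level weight datum: the labels `u ≠ 0` with `Q u = κ` have multiplicity one, no other non-zero
label occurs, the label `0` has multiplicity `f`. -/
structure LData {X : Type*} [AddCommGroup X] [Module ℂ X] (ρ : Representation ℂ ↥(T Q) X)
    (ψ : AddChar F ℂ) (v v' : V) (κ : F) (f : ℕ) : Prop where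
  h1 : ∀ u : ↥(perp Q v v'), u ≠ 0 → Qp Q v v' u = κ → finrank ℂ (wsp Q ρ ψ v v' u) = 1
  h0 : ∀ u : ↥(perp Q v v'), u ≠ 0 → Qp Q v v' u ≠ κ → wsp Q ρ ψ v v' u = ⊥
  hf : finrank ℂ (wsp Q ρ ψ v v' 0) = f
  hD : finrank ℂ X = f + Nat.card {u : ↥(perp Q v v') // u ≠ 0 ∧ Qp Q v v' u = κ}

/-- The singular one-level datum is helper95's `WData` with `e = 1`. -/
theorem LData.toWData {X : Type*} [AddCommGroup X] [Module ℂ X] {ρ : Representation ℂ ↥(T Q) X}
    {ψ : AddChar F ℂ} {v v' : V} {f : ℕ} (h : LData Q ρ ψ v v' 0 f) : WData Q ρ ψ v v' 1 f where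
  he u hu hQu := h.h1 u hu hQu
  hns u hQu := h.h0 u (by rintro rfl; exact hQu (map_zero _)) hQu
  hf := h.hf
  hD := by rw [h.hD, one_mul]

end defs

section perp

variable {F V : Type*} [Field F] [Fintype F] [AddCommGroup V] [Module F V] [FiniteDimensional F V]

/-- The complement of a hyperbolic pair in a minus-type space of rank `m` is of minus type of rank `m - 1`. -/
theorem isMinus_perp (Q : QuadraticForm F V) (m : ℕ) (hm : 2 ≤ m) (hP : IsMinus Q m) {v v' : V}
    (hv : Q v = 0) (hv' : Q v' = 0) (hvv' : QuadraticMap.polar (⇑Q) v v' = 1) :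
    IsMinus (Qp Q v v') (m - 1) := by
  have hdW : finrank F ↥(perp Q v v') = 2 * (m - 1) := by
    have h1 := finrank_perp hv hv' hvv'
    have h2 := hP.dim
    omega
  obtain ⟨hZ, _, hL⟩ := Cfsg.Agent.Lib.Helper91_MIO_CNTMINUS.counts_perp_minus Q hv hv' hvv' m hm hdW
    hP.zeros hP.level
  exact ⟨nondegenerate_perp hP.nondeg hv hv' hvv', hdW, hZ, hL⟩

/-- The number of non-zero singular vectors of the complement. -/
theorem card_sing_perp (Q : QuadraticForm F V) (m : ℕ) (hm : 2 ≤ m) (hP : IsMinus Q m) {v v' : V}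
    (hv : Q v = 0) (hv' : Q v' = 0) (hvv' : QuadraticMap.polar (⇑Q) v v' = 1) :
    Nat.card {x : ↥(perp Q v v') // x ≠ 0 ∧ Qp Q v v' x = 0} = sminus (Fintype.card F) (m - 1) := by
  have hdW : finrank F ↥(perp Q v v') = 2 * (m - 1) := by
    have h1 := finrank_perp hv hv' hvv'
    have h2 := hP.dim
    omega
  obtain ⟨_, hS, _⟩ := Cfsg.Agent.Lib.Helper91_MIO_CNTMINUS.counts_perp_minus Q hv hv' hvv' m hm hdW
    hP.zeros hP.level
  rw [hS]
  rfl

end perp

end Cfsg.Agent.Lib.Helper30_OMDefs
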