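import Mathlib
import Cfsg.Agent.Lib.Helper99_SubspaceCount

set_option autoImplicit false
set_option linter.unusedSectionVars false

/-!
Counting totally isotropic subspaces of a nondegenerate alternating space over a finite field.
-/

namespace Cfsg.Agent.Lib.Helper99_SpTICount

open Module
open Cfsg.Agent.Lib.Helper99_SubspaceCount

variable {K V : Type*} [Field K] [Fintype K] [AddCommGroup V] [Module K V] [Finite V]
variable (B : LinearMap.BilinForm K V)

/-- totally isotropic frames. -/
abbrev TIFrame (m : ℕ) :=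
  {s : Fin m → V // LinearIndependent K s ∧ ∀ a b, B (s a) (s b) = 0}

omit [Fintype K] [Finite V] in
theorem mem_orthogonal_span_iff {m : ℕ} (s : Fin m → V) (x : V) :
    x ∈ B.orthogonal (Submodule.span K (Set.range s)) ↔ ∀ a, B (s a) x = 0 := by
  rw [LinearMap.BilinForm.mem_orthogonal_iff]
  constructor
  · intro h a
    exact h _ (Submodule.subset_span ⟨a, rfl⟩)
  · intro h n hn
    show B n x = 0
    induction hn using Submodule.span_induction with
    | mem y hy =>
      obtain ⟨a, rfl⟩ := hy
      exact h a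
    | zero => simp
    | add y z _ _ hy hz => rw [map_add, LinearMap.add_apply, hy, hz, add_zero]
    | smul c y _ hy => rw [map_smul, LinearMap.smul_apply, hy, smul_zero]

omit [Fintype K] [Finite V] in
theorem span_le_orthogonal {m : ℕ} (s : Fin m → V) (h : ∀ a b, B (s a) (s b) = 0) :
    Submodule.span K (Set.range s) ≤ B.orthogonal (Submodule.span K (Set.range s)) := by
  rw [Submodule.span_le]
  rintro _ ⟨b, rfl⟩
  rw [SetLike.mem_coe, mem_orthogonal_span_iff]
  intro a
  exact h a b

/-- extending a totally isotropic frame by one vector. -/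
def equivTI (halt : ∀ x, B x x = 0) (m : ℕ) :
    TIFrame B (m + 1) ≃ Σ s : TIFrame B m,
      {x : V // x ∈ B.orthogonal (Submodule.span K (Set.range s.1)) ∧
        x ∉ Submodule.span K (Set.range s.1)} where
  toFun s := ⟨⟨Fin.tail s.1, (linearIndependent_finSucc.mp s.2.1).1,
      fun a b => s.2.2 a.succ b.succ⟩,
    ⟨s.1 0, (mem_orthogonal_span_iff B _ _).2 (fun a => s.2.2 a.succ 0),
      (linearIndependent_finSucc.mp s.2.1).2⟩⟩
  invFun s := ⟨Fin.cons s.2.1 s.1.1, linearIndependent_finCons.mpr ⟨s.1.2.1, s.2.2.2⟩, by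
    have hskew : ∀ x y, B x y = - B y x := by
      intro x y
      have h1 := halt (x + y)
      simp only [map_add, LinearMap.add_apply, halt, zero_add, add_zero] at h1
      exact eq_neg_of_add_eq_zero_right h1
    have hx := (mem_orthogonal_span_iff B _ _).1 s.2.2.1
    intro a b
    refine Fin.cases ?_ (fun a' => ?_) a <;> refine Fin.cases ?_ (fun b' => ?_) b
    · simp only [Fin.cons_zero]; exact halt _
    · simp only [Fin.cons_zero, Fin.cons_succ]; rw [hskew, hx b', neg_zero]
    · simp only [Fin.cons_zero, Fin.cons_succ]; exact hx a'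
    · simp only [Fin.cons_succ]; exact s.1.2.2 a' b'⟩
  left_inv s := by
    apply Subtype.ext
    simp only [Fin.cons_self_tail]
  right_inv := fun ⟨s, x⟩ => by
    simp only [Fin.cons_zero, Subtype.coe_eta, Sigma.mk.inj_iff, Fin.tail_cons]
    exact ⟨trivial, heq_of_eq (Subtype.ext rfl)⟩

/-- the number of vectors orthogonal to a totally isotropic frame and outside its span. -/
theorem card_fibre (hB : B.Nondegenerate) {m : ℕ} (s : TIFrame B m) :
    Nat.card {x : V // x ∈ B.orthogonal (Submodule.span K (Set.range s.1)) ∧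
        x ∉ Submodule.span K (Set.range s.1)} =
      Fintype.card K ^ (finrank K V - m) - Fintype.card K ^ m := by
  classical
  have : Fintype V := Fintype.ofFinite V
  set U := Submodule.span K (Set.range s.1) with hU
  set O := B.orthogonal U with hO
  have hUO : U ≤ O := span_le_orthogonal B s.1 s.2.2
  have hUd : finrank K U = m := by rw [hU, finrank_span_eq_card s.2.1, Fintype.card_fin]
  have hOd : finrank K O = finrank K V - m := by
    rw [hO, LinearMap.BilinForm.finrank_orthogonal hB, hUd]
  have h1 : Nat.card {x : V // x ∈ O ∧ x ∉ U} = ((O : Set V) \ (U : Set V)).ncard := by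
    rw [← Nat.card_coe_set_eq]
    rfl
  rw [h1, Set.ncard_sdiff (fun x hx => hUO hx) (Set.toFinite _)]
  have h2 : (O : Set V).ncard = Fintype.card K ^ (finrank K V - m) := by
    rw [← Nat.card_coe_set_eq, ← hOd]
    show Nat.card ↥O = _
    rw [Nat.card_eq_fintype_card, Module.card_eq_pow_finrank (K := K) (V := ↥O)]
  have h3 : (U : Set V).ncard = Fintype.card K ^ m := by
    rw [← Nat.card_coe_set_eq]
    show Nat.card ↥U = _
    rw [Nat.card_eq_fintype_card, Module.card_eq_pow_finrank (K := K) (V := ↥U), hUd]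
  rw [h2, h3]

/-- the number of totally isotropic frames. -/
theorem card_tiFrame (halt : ∀ x, B x x = 0) (hB : B.Nondegenerate) (m : ℕ) :
    Nat.card (TIFrame B m) =
      ∏ i ∈ Finset.range m, (Fintype.card K ^ (finrank K V - i) - Fintype.card K ^ i) := by
  classical
  induction m with
  | zero =>
    rw [Finset.prod_range_zero]
    have : Unique (TIFrame B 0) :=
      { default := ⟨fun a => a.elim0, linearIndependent_empty_type, fun a => a.elim0⟩
        uniq := fun s => Subtype.ext (funext fun a => a.elim0) }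
    exact Nat.card_unique
  | succ m ih =>
    have : Fintype (TIFrame B m) := Fintype.ofFinite _
    rw [Nat.card_congr (equivTI B halt m), Nat.card_sigma,
      Finset.sum_congr rfl (fun s _ => card_fibre B hB s), Finset.sum_const, smul_eq_mul,
      Finset.card_univ, ← Nat.card_eq_fintype_card, ih, Finset.prod_range_succ]

/-- the number of totally isotropic `m`-subspaces. -/
theorem card_ti_mul (halt : ∀ x, B x x = 0) (hB : B.Nondegenerate) (m : ℕ) :
    Nat.card {W : Submodule K V // finrank K W = m ∧ ∀ u ∈ W, ∀ v ∈ W, B u v = 0} *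
        ∏ i : Fin m, (Fintype.card K ^ m - Fintype.card K ^ i.val) =
      ∏ i ∈ Finset.range m, (Fintype.card K ^ (finrank K V - i) - Fintype.card K ^ i) := by
  classical
  have : Fintype {W : Submodule K V // finrank K W = m ∧ ∀ u ∈ W, ∀ v ∈ W, B u v = 0} :=
    Fintype.ofFinite _
  let π : TIFrame B m → {W : Submodule K V // finrank K W = m ∧ ∀ u ∈ W, ∀ v ∈ W, B u v = 0} :=
    fun s => ⟨Submodule.span K (Set.range s.1),
      by rw [finrank_span_eq_card s.2.1, Fintype.card_fin], by
        intro u hu v hv
        have := span_le_orthogonal B s.1 s.2.2 hv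
        rw [LinearMap.BilinForm.mem_orthogonal_iff] at this
        exact this u hu⟩
  have h2 : Nat.card (TIFrame B m) = ∑ W, Nat.card {s // π s = W} := by
    rw [← Nat.card_sigma]; exact Nat.card_congr (Equiv.sigmaFiberEquiv π).symm
  have h3 : ∀ W, Nat.card {s // π s = W} =
      ∏ i : Fin m, (Fintype.card K ^ m - Fintype.card K ^ i.val) := fun W => by
    have e : {s // π s = W} ≃
        {s : {s : Fin m → V // LinearIndependent K s} //
          Submodule.span K (Set.range s.1) = W.1} :=
      { toFun := fun s => ⟨⟨s.1.1, s.1.2.1⟩, congrArg Subtype.val s.2⟩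
        invFun := fun s => ⟨⟨s.1.1, s.1.2, by
            intro a b
            have hsub : ∀ c, s.1.1 c ∈ W.1 := by
              intro c
              have h1 : s.1.1 c ∈ Submodule.span K (Set.range s.1.1) :=
                Submodule.subset_span ⟨c, rfl⟩
              exact (le_of_eq s.2) h1
            exact W.2.2 _ (hsub a) _ (hsub b)⟩, Subtype.ext s.2⟩
        left_inv := fun s => rfl
        right_inv := fun s => rfl }
    rw [Nat.card_congr (e.trans (fibreEquiv m W.1 W.2.1))]
    have := card_linearIndependent (K := K) (V := W.1) (k := m) (by rw [W.2.1])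
    rw [this, W.2.1]
  rw [← card_tiFrame B halt hB m, h2, Finset.sum_congr rfl (fun W _ => h3 W), Finset.sum_const,
    smul_eq_mul, Finset.card_univ, Nat.card_eq_fintype_card]

/-- the number of totally isotropic `m`-subspaces, with the powers of `q` removed. -/
theorem card_ti_mul' (halt : ∀ x, B x x = 0) (hB : B.Nondegenerate) (m : ℕ)
    (hm : 2 * m ≤ finrank K V) :
    Nat.card {W : Submodule K V // finrank K W = m ∧ ∀ u ∈ W, ∀ v ∈ W, B u v = 0} *
        P (Fintype.card K) m m =
      ∏ i ∈ Finset.range m, (Fintype.card K ^ (finrank K V - 2 * i) - 1) := by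
  have h := card_ti_mul B halt hB m
  set q := Fintype.card K with hq
  set n := finrank K V with hn
  have hq0 : 0 < q := Fintype.card_pos
  rw [prod_eq q m m le_rfl] at h
  have h2 : ∏ i ∈ Finset.range m, (q ^ (n - i) - q ^ i) =
      (∏ i ∈ Finset.range m, q ^ i) * ∏ i ∈ Finset.range m, (q ^ (n - 2 * i) - 1) := by
    rw [← Finset.prod_mul_distrib]
    apply Finset.prod_congr rfl
    intro i hi
    rw [Finset.mem_range] at hi
    have h1 : q ^ (n - i) = q ^ i * q ^ (n - 2 * i) := by
      rw [← pow_add]; congr 1; omega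
    rw [h1, Nat.mul_sub, mul_one]
  rw [h2] at h
  have hpos : 0 < ∏ i ∈ Finset.range m, q ^ i := Finset.prod_pos fun i _ => pow_pos hq0 i
  apply Nat.eq_of_mul_eq_mul_left hpos
  rw [← h]
  ring

/-- the number of totally isotropic `m`-subspaces is `1` modulo the characteristic. -/
theorem card_ti_modEq_one (halt : ∀ x, B x x = 0) (hB : B.Nondegenerate) (p : ℕ) [Fact p.Prime]
    [CharP K p] (m : ℕ) (hm : 2 * m ≤ finrank K V) :
    Nat.card {W : Submodule K V // finrank K W = m ∧ ∀ u ∈ W, ∀ v ∈ W, B u v = 0} ≡ 1 [MOD p] := by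
  have hpq : p ∣ Fintype.card K := by
    obtain ⟨k, -, hk⟩ := FiniteField.card K p
    rw [hk]; exact dvd_pow_self p k.ne_zero
  have h := congrArg (fun x : ℕ => (x : ZMod p)) (card_ti_mul' B halt hB m hm)
  simp only [Nat.cast_mul, Nat.cast_prod] at h
  have hterm : ∀ i ∈ Finset.range m,
      ((Fintype.card K ^ (finrank K V - 2 * i) - 1 : ℕ) : ZMod p) = -1 := by
    intro i hi
    rw [Finset.mem_range] at hi
    have h0 : ((Fintype.card K : ℕ) : ZMod p) = 0 := (ZMod.natCast_eq_zero_iff _ _).2 hpq
    rw [Nat.cast_sub (Nat.one_le_pow _ _ Fintype.card_pos), Nat.cast_pow, h0,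
      zero_pow (by omega)]
    simp
  rw [P_cast_of_dvd hpq Fintype.card_pos m m le_rfl, Finset.prod_congr rfl hterm,
    Finset.prod_const, Finset.card_range] at h
  have hu : IsUnit ((-1 : ZMod p) ^ m) := (isUnit_one.neg).pow m
  have h2 : (Nat.card {W : Submodule K V // finrank K W = m ∧ ∀ u ∈ W, ∀ v ∈ W, B u v = 0} :
      ZMod p) = 1 := hu.mul_right_cancel (by rw [h, one_mul])
  rw [← ZMod.natCast_eq_natCast_iff, h2, Nat.cast_one]

/-- a prime dividing the number of totally isotropic `m`-subspaces divides some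
`q ^ (n - 2 i) - 1` with `i < m`. -/
theorem exists_dvd_of_dvd_card_ti (halt : ∀ x, B x x = 0) (hB : B.Nondegenerate) (m : ℕ)
    (hm : 2 * m ≤ finrank K V) {r : ℕ} (hr : r.Prime)
    (h : r ∣ Nat.card {W : Submodule K V // finrank K W = m ∧ ∀ u ∈ W, ∀ v ∈ W, B u v = 0}) :
    ∃ i < m, r ∣ Fintype.card K ^ (finrank K V - 2 * i) - 1 := by
  have h1 : r ∣ ∏ i ∈ Finset.range m, (Fintype.card K ^ (finrank K V - 2 * i) - 1) := by
    rw [← card_ti_mul' B halt hB m hm]
    exact h.mul_right _
  rw [hr.prime.dvd_finsetProd_iff] at h1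
  obtain ⟨i, hi, hdi⟩ := h1
  exact ⟨i, Finset.mem_range.1 hi, hdi⟩

end Cfsg.Agent.Lib.Helper99_SpTICount
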