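import Mathlib
import Cfsg.Agent.Lib.Helper43_OrthTS_OQ2
import Cfsg.Agent.Lib.Helper99_SpTICount
import Cfsg.Agent.Lib.Helper5_QuadCount

set_option autoImplicit false
set_option linter.unusedSectionVars false

/-!
ORTH_core OCOUNT (helper99's package): the number of totally singular `m`-spaces of a nondegenerate
quadratic space of dimension `2 d` of plus / minus type over a finite field, all characteristics
(helper60).

Reusable: `card_zeros_qfPlus`, `card_zeros_qfMinus`, `card_zeros_of_type`,
`card_singular_orthogonal`, `TSFrame`, `equivTSF`, `card_tsFrame`, `card_ts_mul`, `card_ts_mul'`.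
-/

namespace Cfsg.Agent.Lib.Helper60_OrthTS_OCOUNT

open Module Matrix
open Cfsg.Agent.Lib.Helper99_SubspaceCount Cfsg.Agent.Lib.Helper99_SpTICount
  Cfsg.Agent.Lib.Helper44_StdForms Cfsg.Agent.Lib.Helper5_QuadCount
  Cfsg.Agent.Lib.Helper40_SpBasic Cfsg.Agent.Lib.Helper40_OConj Cfsg.Agent.Lib.Helper40_QuadIso
  Cfsg.Agent.Lib.Helper99_OrthTSDefs Cfsg.Agent.Lib.Helper43_OrthTS_OQ2
  Cfsg.Agent.Lib.Helper40_QuadStd

universe u

section zeros

variable {F : Type u} [Field F] [Fintype F]

/-- the number of zeros of the plus form -/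
theorem card_zeros_qfPlus (e : ℕ) :
    Nat.card {w : Fin e ⊕ Fin e → F // qfPlus e F w = 0} = osing true (Fintype.card F) e + 1 := by
  classical
  have h := card_pairs (F := F) e 0
  rw [if_pos rfl] at h
  have h1 : Nat.card {w : Fin e ⊕ Fin e → F // qfPlus e F w = 0} =
      Nat.card {p : (Fin e → F) × (Fin e → F) // p.1 ⬝ᵥ p.2 = 0} := by
    refine Nat.card_congr (Equiv.subtypeEquiv (Equiv.sumArrowEquivProdArrow (Fin e) (Fin e) F) ?_)
    intro w
    have : qfPlus e F w = Cfsg.quadFormPlus e F w := by rw [← coe_qfPlus]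
    rw [this]
    rfl
  rw [h1, h, osing_true]
  set A := Fintype.card F ^ e with hA
  set B := Fintype.card F ^ (e - 1) with hB
  have hA1 : 1 ≤ A := Nat.one_le_pow _ _ Fintype.card_pos
  obtain ⟨A', hA'⟩ : ∃ A', A = A' + 1 := ⟨A - 1, by omega⟩
  rw [hA', Nat.add_sub_cancel]
  ring

/-- the number of zeros of the minus form -/
theorem card_zeros_qfMinus (n : ℕ) (a c : F)
    (hac : ∀ z₁ z₂ : F, z₁ ^ 2 + a * z₁ * z₂ + c * z₂ ^ 2 = 0 → z₁ = 0 ∧ z₂ = 0) :
    Nat.card {w : (Fin n ⊕ Fin n) ⊕ Fin 2 → F // qfMinus n F a c w = 0} =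
      osing false (Fintype.card F) (n + 1) + 1 := by
  classical
  let f : (Fin 2 → F) → F := fun z => z 0 ^ 2 + a * z 0 * z 1 + c * z 1 ^ 2
  have hf : ∀ z, f z = 0 ↔ z = 0 := by
    intro z
    constructor
    · intro h
      obtain ⟨h0, h1⟩ := hac (z 0) (z 1) h
      funext i
      fin_cases i
      · exact h0
      · exact h1
    · rintro rfl
      simp [f]
  have eqv : {w : (Fin n ⊕ Fin n) ⊕ Fin 2 → F // qfMinus n F a c w = 0} ≃
      Σ z : Fin 2 → F, {p : (Fin n → F) × (Fin n → F) // p.1 ⬝ᵥ p.2 = - f z} :=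
    { toFun := fun v => ⟨fun k => v.1 (Sum.inr k),
        ⟨(fun i => v.1 (Sum.inl (Sum.inl i)), fun i => v.1 (Sum.inl (Sum.inr i))), by
          have this := congrFun (coe_qfMinus n F a c) v.1
          rw [v.2] at this
          unfold Cfsg.quadFormMinus at this
          simp only [dotProduct, f]
          linear_combination -this⟩⟩
      invFun := fun s => ⟨Sum.elim (Sum.elim s.2.1.1 s.2.1.2) s.1, by
          have := s.2.2
          rw [congrFun (coe_qfMinus n F a c) _]
          unfold Cfsg.quadFormMinus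
          simp only [dotProduct, f] at this
          simp only [Sum.elim_inl, Sum.elim_inr]
          linear_combination this⟩
      left_inv := fun v => by
        apply Subtype.ext
        funext k
        rcases k with (k | k) | k <;> rfl
      right_inv := fun s => by
        rcases s with ⟨z, ⟨⟨x, y⟩, h⟩⟩
        rfl }
  rw [Nat.card_congr eqv, card_sigma_pairs f n 0 hf, osing_false, Nat.add_sub_cancel,
    Fintype.card_fun, Fintype.card_fin]
  rcases n with _ | n
  · simp
  · rw [Nat.add_sub_cancel]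
    set q := Fintype.card F with hq
    have hq1 : 1 ≤ q ^ n * q := by
      rw [← pow_succ]
      exact Nat.one_le_pow _ _ Fintype.card_pos
    obtain ⟨A', hA'⟩ : ∃ A', q ^ n * q = A' + 1 := ⟨q ^ n * q - 1, by omega⟩
    rw [pow_succ q (n + 1), pow_succ q n, hA', Nat.add_sub_cancel]
    have e3 : q ^ 2 * (A' * q ^ n) = A' * q * (A' + 1) := by rw [← hA']; ring
    rw [e3]
    ring

/-- the number of singular vectors of a nondegenerate quadratic space of dimension `2 e`, by type -/
theorem card_zeros_of_type {V : Type u} [AddCommGroup V] [Module F V] [FiniteDimensional F V]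
    (e : ℕ) (he : 1 ≤ e) (hV : finrank F V = 2 * e) (Q : QuadraticForm F V)
    (hQ : (QuadraticMap.polarBilin Q).Nondegenerate) (plus : Bool) (hplus : plus = true ↔ IsHyp Q) :
    Nat.card {v : V // Q v = 0} = osing plus (Fintype.card F) e + 1 := by
  cases plus with
  | true =>
    obtain ⟨φ, hφ⟩ := iso_plus_of_isHyp e he hV Q hQ (hplus.1 rfl)
    rw [← card_zeros_qfPlus (F := F) e]
    refine Nat.card_congr (Equiv.subtypeEquiv φ.toEquiv ?_)
    intro v
    rw [← hφ v]
    rfl
  | false =>
    have hnh : ¬ IsHyp Q := fun h => by simpa using hplus.2 h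
    obtain ⟨ζ, hζ⟩ := exists_aniso (F := F)
    obtain ⟨φ, hφ⟩ := iso_minus_of_not_isHyp e he hV Q hQ hnh 1 ζ hζ
    have h1 := card_zeros_qfMinus (F := F) (e - 1) 1 ζ hζ
    rw [Nat.sub_add_cancel he] at h1
    rw [← h1]
    refine Nat.card_congr (Equiv.subtypeEquiv φ.toEquiv ?_)
    intro v
    rw [← hφ v]
    rfl

end zeros

section perp

variable {K : Type u} [Field K] [Fintype K] {V : Type u} [AddCommGroup V] [Module K V]
  [FiniteDimensional K V]

omit [Fintype K] [FiniteDimensional K V] in
theorem pol_isRefl (Q : QuadraticForm K V) : (pol Q).IsRefl :=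
  fun x y h => by rw [pol_comm, h]

omit [Fintype K] in
theorem oHypOn_top_iff (Q : QuadraticForm K V) : OHypOn Q (⊤ : Submodule K V) ↔ IsHyp Q := by
  constructor
  · rintro ⟨U, -, hU, hd⟩
    exact ⟨U, hU, by rw [← finrank_top K V]; exact hd⟩
  · rintro ⟨U, hU, hd⟩
    exact ⟨U, le_top, hU, by rw [finrank_top]; exact hd⟩

/-- the number of singular vectors orthogonal to a totally singular subspace of dimension `j`
of a nondegenerate quadratic space of dimension `2 d` of given type -/
theorem card_singular_orthogonal (Q : QuadraticForm K V) (hQ : (pol Q).Nondegenerate) (d : ℕ)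
    (hV : finrank K V = 2 * d) (plus : Bool) (hplus : plus = true ↔ IsHyp Q)
    (U : Submodule K V) (hU : ∀ u ∈ U, Q u = 0) (j : ℕ) (hj : finrank K U = j) (hjd : j < d) :
    Nat.card {x : V // x ∈ (pol Q).orthogonal U ∧ Q x = 0} =
      Fintype.card K ^ j * (osing plus (Fintype.card K) (d - j) + 1) := by
  classical
  have hsymm : ∀ x y, pol Q x y = pol Q y x := pol_comm Q
  have hrefl : (pol Q).IsRefl := pol_isRefl Q
  set W := (pol Q).orthogonal U with hW
  have hUU : ∀ u ∈ U, ∀ u' ∈ U, pol Q u u' = 0 := by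
    intro u hu u' hu'
    rw [pol_apply, hU _ (U.add_mem hu hu'), hU u hu, hU u' hu']
    simp
  have hUW : U ≤ W := by
    intro u hu
    rw [hW, LinearMap.BilinForm.mem_orthogonal_iff]
    intro n hn
    exact hUU n hn u hu
  obtain ⟨C₀, hC₀⟩ := Submodule.exists_isCompl U
  set C := C₀ ⊓ W with hC
  have hdisj : U ⊓ C = ⊥ := by
    rw [hC, ← inf_assoc, hC₀.inf_eq_bot, bot_inf_eq]
  have hsup : U ⊔ C = W := by
    rw [hC, ← sup_inf_assoc_of_le _ hUW, hC₀.sup_eq_top, top_inf_eq]
  have hWd : finrank K W = 2 * d - j := by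
    rw [hW, LinearMap.BilinForm.finrank_orthogonal hQ U, hV, hj]
  have hCd : finrank K C = 2 * (d - j) := by
    have := Submodule.finrank_sup_add_finrank_inf_eq U C
    rw [hsup, hdisj, finrank_bot, hWd, hj] at this
    omega
  have hCW : ∀ c ∈ C, ∀ u ∈ U, pol Q u c = 0 := by
    intro c hc u hu
    have h1 : c ∈ W := hc.2
    rw [hW, LinearMap.BilinForm.mem_orthogonal_iff] at h1
    exact h1 u hu
  have hCnd : NDOn (pol Q) C := by
    intro c hcC hc
    have h1 : c ∈ (pol Q).orthogonal W := by
      rw [LinearMap.BilinForm.mem_orthogonal_iff]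
      intro w hw
      rw [← hsup] at hw
      obtain ⟨u, hu, c', hc', rfl⟩ := Submodule.mem_sup.1 hw
      rw [map_add, LinearMap.add_apply, hCW c hcC u hu, zero_add, hsymm]
      exact hc c' hc'
    rw [hW, LinearMap.BilinForm.orthogonal_orthogonal hQ hrefl] at h1
    have h4 : c ∈ U ⊓ C := ⟨h1, hcC⟩
    rw [hdisj] at h4
    exact (Submodule.mem_bot K).1 h4
  -- the orthogonal complement of `C`
  set D := (pol Q).orthogonal C with hD
  have hDd : finrank K D = 2 * j := by
    rw [hD, LinearMap.BilinForm.finrank_orthogonal hQ C, hV, hCd]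
    omega
  have hDC : D ⊓ C = ⊥ := by
    rw [eq_bot_iff]
    rintro x ⟨hxD, hxC⟩
    rw [Submodule.mem_bot]
    apply hCnd x hxC
    intro y hy
    rw [hsymm]
    have hxD' : x ∈ (pol Q).orthogonal C := hxD
    rw [LinearMap.BilinForm.mem_orthogonal_iff] at hxD'
    exact hxD' y hy
  have hDCtop : D ⊔ C = ⊤ := by
    apply Submodule.eq_top_of_finrank_eq
    have := Submodule.finrank_sup_add_finrank_inf_eq D C
    rw [hDC, finrank_bot, hDd, hCd] at this
    rw [hV]
    omega
  have horth : ∀ u ∈ D, ∀ v ∈ C, pol Q u v = 0 := by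
    intro u hu v hv
    rw [hsymm]
    rw [hD, LinearMap.BilinForm.mem_orthogonal_iff] at hu
    exact hu v hv
  have hDnd : NDOn (pol Q) D := by
    intro x hxD hx
    apply hQ.1 x
    intro v
    have hv : v ∈ D ⊔ C := by rw [hDCtop]; exact Submodule.mem_top
    obtain ⟨y, hy, c, hc, rfl⟩ := Submodule.mem_sup.1 hv
    rw [map_add, hx y hy, horth x hxD c hc, add_zero]
  have hUD : U ≤ D := by
    intro u hu
    rw [hD, LinearMap.BilinForm.mem_orthogonal_iff]
    intro c hc
    rw [hsymm]
    exact hCW c hc u hu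
  have hDhyp : OHypOn Q D := ⟨U, hUD, hU, by rw [hDd, hj]⟩
  have hq2 := OQ2 hDnd hCnd horth ⟨j, by rw [hDd]; ring⟩ ⟨d - j, by rw [hCd]; ring⟩
  rw [hDCtop, oHypOn_top_iff] at hq2
  have hplusC : plus = true ↔ IsHyp (resQ Q C) := by
    rw [← oHypOn_iff_isHyp, hplus, hq2]
    exact ⟨fun h => h.1 hDhyp, fun h => ⟨fun _ => h, fun _ => hDhyp⟩⟩
  have hcardC : Nat.card {c : C // (resQ Q C) c = 0} =
      osing plus (Fintype.card K) (d - j) + 1 :=
    card_zeros_of_type (d - j) (by omega) hCd _ (nondegenerate_resQ hCnd) plus hplusC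
  have hQadd : ∀ u ∈ U, ∀ c ∈ C, Q (u + c) = Q c := by
    intro u hu c hc
    have h5 := hCW c hc u hu
    rw [pol_apply] at h5
    rw [hU u hu] at h5
    linear_combination h5
  let f : U × {c : C // (resQ Q C) c = 0} → {x : V // x ∈ W ∧ Q x = 0} := fun p =>
    ⟨(p.1 : V) + ((p.2.1 : C) : V), by
      rw [← hsup]
      exact Submodule.add_mem_sup p.1.2 p.2.1.2, by
      rw [hQadd _ p.1.2 _ p.2.1.2]
      exact p.2.2⟩
  have hf : Function.Bijective f := by
    constructor
    · rintro ⟨u, c, hc⟩ ⟨u', c', hc'⟩ h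
      have h6 : (u : V) + (c : V) = (u' : V) + (c' : V) := congrArg Subtype.val h
      have h7 : (u : V) - (u' : V) ∈ U ⊓ C := by
        refine ⟨U.sub_mem u.2 u'.2, ?_⟩
        have : (u : V) - (u' : V) = (c' : V) - (c : V) := by
          rw [sub_eq_sub_iff_add_eq_add, h6, add_comm]
        rw [this]
        exact C.sub_mem c'.2 c.2
      rw [hdisj, Submodule.mem_bot, sub_eq_zero] at h7
      have h8 : (c : V) = (c' : V) := by
        rw [h7] at h6
        exact add_left_cancel h6
      have e1 : u = u' := Subtype.ext h7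
      have e2 : c = c' := Subtype.ext h8
      subst e1
      subst e2
      rfl
    · rintro ⟨x, hxW, hxQ⟩
      rw [← hsup] at hxW
      obtain ⟨u, hu, c, hc, rfl⟩ := Submodule.mem_sup.1 hxW
      refine ⟨⟨⟨u, hu⟩, ⟨⟨c, hc⟩, ?_⟩⟩, rfl⟩
      rw [hQadd u hu c hc] at hxQ
      exact hxQ
  rw [← Nat.card_congr (Equiv.ofBijective f hf), Nat.card_prod, hcardC,
    Module.natCard_eq_pow_finrank (K := K) (V := U), hj, Nat.card_eq_fintype_card]

end perp

section frames

variable {K : Type u} [Field K] [Fintype K] {V : Type u} [AddCommGroup V] [Module K V]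
  [FiniteDimensional K V] [Finite V]

/-- totally singular frames. -/
abbrev TSFrame (Q : QuadraticForm K V) (m : ℕ) :=
  {s : Fin m → V // LinearIndependent K s ∧ (∀ a, Q (s a) = 0) ∧ ∀ a b, pol Q (s a) (s b) = 0}

omit [Fintype K] [FiniteDimensional K V] [Finite V] in
/-- the span of a totally singular frame is totally singular -/
theorem span_ts (Q : QuadraticForm K V) {m : ℕ} (s : TSFrame Q m) :
    ∀ u ∈ Submodule.span K (Set.range s.1), Q u = 0 := by
  have hle := span_le_orthogonal (pol Q) s.1 s.2.2.2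
  intro u hu
  induction hu using Submodule.span_induction with
  | mem y hy =>
    obtain ⟨a, rfl⟩ := hy
    exact s.2.2.1 a
  | zero => simp
  | add y z hy hz ihy ihz =>
    have h1 := hle hz
    rw [LinearMap.BilinForm.mem_orthogonal_iff] at h1
    have h2 := h1 y hy
    rw [pol_apply, ihy, ihz] at h2
    linear_combination h2
  | smul c y _ ihy =>
    rw [QuadraticMap.map_smul, ihy, smul_zero]

/-- extending a totally singular frame by one singular vector. -/
def equivTSF (Q : QuadraticForm K V) (m : ℕ) :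
    TSFrame Q (m + 1) ≃ Σ s : TSFrame Q m,
      {x : V // x ∈ (pol Q).orthogonal (Submodule.span K (Set.range s.1)) ∧
        x ∉ Submodule.span K (Set.range s.1) ∧ Q x = 0} where
  toFun s := ⟨⟨Fin.tail s.1, (linearIndependent_finSucc.mp s.2.1).1,
      fun a => s.2.2.1 a.succ, fun a b => s.2.2.2 a.succ b.succ⟩,
    ⟨s.1 0, (mem_orthogonal_span_iff (pol Q) _ _).2 (fun a => s.2.2.2 a.succ 0),
      (linearIndependent_finSucc.mp s.2.1).2, s.2.2.1 0⟩⟩
  invFun s := ⟨Fin.cons s.2.1 s.1.1, linearIndependent_finCons.mpr ⟨s.1.2.1, s.2.2.2.1⟩, by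
      intro a
      refine Fin.cases ?_ (fun a' => ?_) a
      · simp only [Fin.cons_zero]; exact s.2.2.2.2
      · simp only [Fin.cons_succ]; exact s.1.2.2.1 a', by
    have hx := (mem_orthogonal_span_iff (pol Q) _ _).1 s.2.2.1
    intro a b
    refine Fin.cases ?_ (fun a' => ?_) a <;> refine Fin.cases ?_ (fun b' => ?_) b
    · simp only [Fin.cons_zero]; rw [pol_self, s.2.2.2.2, mul_zero]
    · simp only [Fin.cons_zero, Fin.cons_succ]; rw [pol_comm, hx b']
    · simp only [Fin.cons_zero, Fin.cons_succ]; exact hx a'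
    · simp only [Fin.cons_succ]; exact s.1.2.2.2 a' b'⟩
  left_inv s := by
    apply Subtype.ext
    simp only [Fin.cons_self_tail]
  right_inv := fun ⟨s, x⟩ => by
    simp only [Fin.cons_zero, Subtype.coe_eta, Sigma.mk.inj_iff, Fin.tail_cons]
    exact ⟨trivial, heq_of_eq (Subtype.ext rfl)⟩

/-- the number of singular vectors orthogonal to a totally singular frame and outside its span. -/
theorem card_fibre_ts (Q : QuadraticForm K V) (hQ : (pol Q).Nondegenerate) (d : ℕ)
    (hV : finrank K V = 2 * d) (plus : Bool) (hplus : plus = true ↔ IsHyp Q)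
    {m : ℕ} (hm : m < d) (s : TSFrame Q m) :
    Nat.card {x : V // x ∈ (pol Q).orthogonal (Submodule.span K (Set.range s.1)) ∧
        x ∉ Submodule.span K (Set.range s.1) ∧ Q x = 0} =
      Fintype.card K ^ m * osing plus (Fintype.card K) (d - m) := by
  classical
  set U := Submodule.span K (Set.range s.1) with hU
  set O := (pol Q).orthogonal U with hO
  have hUO : U ≤ O := span_le_orthogonal (pol Q) s.1 s.2.2.2
  have hUd : finrank K U = m := by rw [hU, finrank_span_eq_card s.2.1, Fintype.card_fin]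
  have hUts : ∀ u ∈ U, Q u = 0 := span_ts Q s
  have h1 : Nat.card {x : V // x ∈ O ∧ x ∉ U ∧ Q x = 0} =
      ({x : V | x ∈ O ∧ Q x = 0} \ (U : Set V)).ncard := by
    rw [← Nat.card_coe_set_eq]
    apply Nat.card_congr
    apply Equiv.subtypeEquivRight
    intro x
    simp only [Set.mem_sdiff, Set.mem_ofPred_eq, SetLike.mem_coe]
    tauto
  have hsub : (U : Set V) ⊆ {x : V | x ∈ O ∧ Q x = 0} := fun x hx => ⟨hUO hx, hUts x hx⟩
  rw [h1, Set.ncard_sdiff hsub (Set.toFinite _)]
  have h3 : ({x : V | x ∈ O ∧ Q x = 0}).ncard =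
      Fintype.card K ^ m * (osing plus (Fintype.card K) (d - m) + 1) := by
    rw [← Nat.card_coe_set_eq]
    exact card_singular_orthogonal Q hQ d hV plus hplus U hUts m hUd hm
  have h4 : (U : Set V).ncard = Fintype.card K ^ m := by
    rw [← Nat.card_coe_set_eq]
    show Nat.card ↥U = _
    rw [Module.natCard_eq_pow_finrank (K := K) (V := U), hUd, Nat.card_eq_fintype_card]
  rw [h3, h4, Nat.mul_add, mul_one, Nat.add_sub_cancel]

/-- the number of totally singular frames. -/
theorem card_tsFrame (Q : QuadraticForm K V) (hQ : (pol Q).Nondegenerate) (d : ℕ)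
    (hV : finrank K V = 2 * d) (plus : Bool) (hplus : plus = true ↔ IsHyp Q)
    (m : ℕ) (hm : m ≤ d) :
    Nat.card (TSFrame Q m) =
      ∏ i ∈ Finset.range m, (Fintype.card K ^ i * osing plus (Fintype.card K) (d - i)) := by
  classical
  induction m with
  | zero =>
    rw [Finset.prod_range_zero]
    have : Unique (TSFrame Q 0) :=
      { default := ⟨fun a => a.elim0, linearIndependent_empty_type, fun a => a.elim0,
          fun a => a.elim0⟩
        uniq := fun s => Subtype.ext (funext fun a => a.elim0) }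
    exact Nat.card_unique
  | succ m ih =>
    have : Fintype (TSFrame Q m) := Fintype.ofFinite _
    rw [Nat.card_congr (equivTSF Q m), Nat.card_sigma,
      Finset.sum_congr rfl (fun s _ => card_fibre_ts Q hQ d hV plus hplus (by omega) s),
      Finset.sum_const, smul_eq_mul, Finset.card_univ, ← Nat.card_eq_fintype_card, ih (by omega),
      Finset.prod_range_succ]

/-- the number of totally singular `m`-subspaces, times the number of bases of an `m`-space. -/
theorem card_ts_mul (Q : QuadraticForm K V) (hQ : (pol Q).Nondegenerate) (d : ℕ)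
    (hV : finrank K V = 2 * d) (plus : Bool) (hplus : plus = true ↔ IsHyp Q)
    (m : ℕ) (hm : m ≤ d) :
    Nat.card {W : Submodule K V // finrank K W = m ∧ ∀ w ∈ W, Q w = 0} *
        ∏ i : Fin m, (Fintype.card K ^ m - Fintype.card K ^ i.val) =
      ∏ i ∈ Finset.range m, (Fintype.card K ^ i * osing plus (Fintype.card K) (d - i)) := by
  classical
  have : Fintype {W : Submodule K V // finrank K W = m ∧ ∀ w ∈ W, Q w = 0} :=
    Fintype.ofFinite _
  let π : TSFrame Q m → {W : Submodule K V // finrank K W = m ∧ ∀ w ∈ W, Q w = 0} :=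
    fun s => ⟨Submodule.span K (Set.range s.1),
      by rw [finrank_span_eq_card s.2.1, Fintype.card_fin], span_ts Q s⟩
  have h2' : Nat.card (TSFrame Q m) = ∑ W, Nat.card {s // π s = W} := by
    rw [← Nat.card_sigma]; exact Nat.card_congr (Equiv.sigmaFiberEquiv π).symm
  have h3 : ∀ W, Nat.card {s // π s = W} =
      ∏ i : Fin m, (Fintype.card K ^ m - Fintype.card K ^ i.val) := fun W => by
    have e : {s // π s = W} ≃
        {s : {s : Fin m → V // LinearIndependent K s} //
          Submodule.span K (Set.range s.1) = W.1} :=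
      { toFun := fun s => ⟨⟨s.1.1, s.1.2.1⟩, congrArg Subtype.val s.2⟩
        invFun := fun s => by
          have hsub : ∀ c, s.1.1 c ∈ W.1 := by
            intro c
            have h1 : s.1.1 c ∈ Submodule.span K (Set.range s.1.1) :=
              Submodule.subset_span ⟨c, rfl⟩
            exact (le_of_eq s.2) h1
          exact ⟨⟨s.1.1, s.1.2, fun a => W.2.2 _ (hsub a), by
            intro a b
            rw [pol_apply, W.2.2 _ (W.1.add_mem (hsub a) (hsub b)), W.2.2 _ (hsub a),
              W.2.2 _ (hsub b)]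
            simp⟩, Subtype.ext s.2⟩
        left_inv := fun s => rfl
        right_inv := fun s => rfl }
    rw [Nat.card_congr (e.trans (fibreEquiv m W.1 W.2.1))]
    have := card_linearIndependent (K := K) (V := W.1) (k := m) (by rw [W.2.1])
    rw [this, W.2.1]
  rw [← card_tsFrame Q hQ d hV plus hplus m hm, h2', Finset.sum_congr rfl (fun W _ => h3 W),
    Finset.sum_const, smul_eq_mul, Finset.card_univ, Nat.card_eq_fintype_card]

/-- the number of totally singular `m`-subspaces, with the powers of `q` removed. -/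
theorem card_ts_mul' (Q : QuadraticForm K V) (hQ : (pol Q).Nondegenerate) (d : ℕ)
    (hV : finrank K V = 2 * d) (plus : Bool) (hplus : plus = true ↔ IsHyp Q)
    (m : ℕ) (hm : m ≤ d) :
    Nat.card {W : Submodule K V // finrank K W = m ∧ ∀ w ∈ W, Q w = 0} *
        ∏ j ∈ Finset.range m, (Fintype.card K ^ (j + 1) - 1) =
      ∏ j ∈ Finset.range m, osing plus (Fintype.card K) (d - j) := by
  have h := card_ts_mul Q hQ d hV plus hplus m hm
  set q := Fintype.card K with hq
  have hq0 : 0 < q := Fintype.card_pos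
  rw [prod_eq q m m le_rfl, Finset.prod_mul_distrib] at h
  have hpos : 0 < ∏ i ∈ Finset.range m, q ^ i := Finset.prod_pos fun i _ => pow_pos hq0 i
  have hP : P q m m = ∏ j ∈ Finset.range m, (q ^ (j + 1) - 1) := by
    unfold P
    rw [← Finset.prod_range_reflect (fun j => q ^ (j + 1) - 1) m]
    apply Finset.prod_congr rfl
    intro i hi
    rw [Finset.mem_range] at hi
    congr 2
    omega
  rw [hP] at h
  apply Nat.eq_of_mul_eq_mul_left hpos
  rw [← h]
  ring

end frames

section matrix

variable {ι : Type} [Fintype ι] [DecidableEq ι]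
variable {F : Type u} [Field F] [Fintype F] {p : ℕ} [Fact p.Prime] [CharP F p]

/-- OCOUNT: the number of totally singular `m`-spaces. -/
theorem OCOUNT (Q₀ : QuadraticForm F (ι → F)) (hQ₀ : (pol Q₀).Nondegenerate) (d : ℕ)
    (hd : Fintype.card ι = 2 * d) (plus : Bool) (hplus : plus = true ↔ IsHyp Q₀)
    (m : ℕ) (hm : 1 ≤ m) (hmd : m ≤ owitt plus (2 * d)) :
    Nat.card {W : Submodule F (ι → F) // finrank F ↥W = m ∧ ∀ w ∈ W, Q₀ w = 0} *
        ∏ j ∈ Finset.range m, (Fintype.card F ^ (j + 1) - 1) =
      ∏ j ∈ Finset.range m, osing plus (Fintype.card F) (d - j) := by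
  have hV : finrank F (ι → F) = 2 * d := by
    rw [Module.finrank_fintype_fun_eq_card, hd]
  have hmd' : m ≤ d := by
    refine hmd.trans ?_
    cases plus
    · rw [owitt_false]; omega
    · rw [owitt_true]; omega
  exact card_ts_mul' Q₀ hQ₀ d hV plus hplus m hmd'

end matrix

end Cfsg.Agent.Lib.Helper60_OrthTS_OCOUNT
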