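import Mathlib
import Cfsg.Agent.Lib.Helper14_POmegaSimple
import Cfsg.Agent.Lib.Helper14_MI2_BRLOW
import Cfsg.Agent.Lib.Helper14_MI2_BREX
import Cfsg.Agent.Lib.Helper5_QuadCount
import Cfsg.Agent.Lib.Helper60_OrthTS_OCOUNT
import Cfsg.Agent.Lib.Helper73_MIOBridge

/-!
# Helper73_MIOEven (bridge side of the even-dimensional orthogonal min-index rows S2145 / S2147)

* `card_bf_level` : a nonzero value of an anisotropic binary form over a finite field is taken exactly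
  `q + 1` times (all characteristics);
* `plus_hyps`, `card_points_plus`, `S2145_of_main`;
* `minus_hyps`, `card_points_minus`, `S2147_of_main`.
-/

set_option autoImplicit false

namespace Cfsg.Agent.Lib.Helper73_MIOEven

open Module Matrix Cfsg.Agent.Lib.Helper5_QuadCount Cfsg.Agent.Lib.Helper14_POmegaSimple
  Cfsg.Agent.Lib.Helper94_OrthSmall Cfsg.Agent.Lib.Helper14_OmegaSimple
  Cfsg.Agent.Lib.Helper14_MI2_BRLOW Cfsg.Agent.Lib.Helper44_StdForms
  Cfsg.Agent.Lib.Helper73_MIOBridge Cfsg.Agent.Lib.Helper99_OrthTSDefs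
open scoped commutatorElement

variable {F : Type*} [Field F] [Fintype F]

/-- the anisotropic binary form -/
def bf (a b : F) (z : Fin 2 → F) : F := z 0 ^ 2 + a * z 0 * z 1 + b * z 1 ^ 2

/-- the polar functional of the binary form, as a vector -/
def bL (a b : F) (u : Fin 2 → F) : Fin 2 → F := ![2 * u 0 + a * u 1, a * u 0 + 2 * b * u 1]

omit [Fintype F] in
theorem bf_add (a b : F) (z u : Fin 2 → F) :
    bf a b (z + u) = bf a b z + bL a b u ⬝ᵥ z + bf a b u := by
  simp only [bf, bL, dotProduct, Fin.sum_univ_two, Pi.add_apply, Matrix.cons_val_zero,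
    Matrix.cons_val_one]
  ring

theorem bL_ne_zero (a b : F)
    (hab : ∀ z₁ z₂ : F, z₁ ^ 2 + a * z₁ * z₂ + b * z₂ ^ 2 = 0 → z₁ = 0 ∧ z₂ = 0)
    (u : Fin 2 → F) (hu : u ≠ 0) : bL a b u ≠ 0 := by
  intro h
  have hd := disc_ne_zero a b hab
  have h0 : 2 * u 0 + a * u 1 = 0 := by
    have := congrFun h 0
    simpa [bL] using this
  have h1 : a * u 0 + 2 * b * u 1 = 0 := by
    have := congrFun h 1
    simpa [bL] using this
  have e0 : (4 * b - a ^ 2) * u 0 = 0 := by linear_combination (2 * b) * h0 - a * h1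
  have e1 : (4 * b - a ^ 2) * u 1 = 0 := by linear_combination 2 * h1 - a * h0
  apply hu
  funext i
  fin_cases i
  · exact (mul_eq_zero.1 e0).resolve_left hd
  · exact (mul_eq_zero.1 e1).resolve_left hd

/-- the number of pairs with equal value -/
theorem card_bf_pairs (a b : F)
    (hab : ∀ z₁ z₂ : F, z₁ ^ 2 + a * z₁ * z₂ + b * z₂ ^ 2 = 0 → z₁ = 0 ∧ z₂ = 0) :
    Nat.card {p : (Fin 2 → F) × (Fin 2 → F) // bf a b p.1 = bf a b p.2} =
      Fintype.card F ^ 2 + (Fintype.card F ^ 2 - 1) * Fintype.card F := by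
  classical
  have e : {p : (Fin 2 → F) × (Fin 2 → F) // bf a b p.1 = bf a b p.2} ≃
      Σ u : Fin 2 → F, {z : Fin 2 → F // bL a b u ⬝ᵥ z = - bf a b u} :=
    { toFun := fun p => ⟨p.1.2 - p.1.1, p.1.1, by
        have h := bf_add a b p.1.1 (p.1.2 - p.1.1)
        rw [add_sub_cancel, ← p.2] at h
        linear_combination -h⟩
      invFun := fun s => ⟨(s.2.1, s.2.1 + s.1), by
        have h := bf_add a b s.2.1 s.1
        rw [s.2.2] at h
        show bf a b s.2.1 = bf a b (s.2.1 + s.1)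
        rw [h]; ring⟩
      left_inv := fun p => by
        apply Subtype.ext
        apply Prod.ext
        · rfl
        · show p.1.1 + (p.1.2 - p.1.1) = p.1.2
          abel
      right_inv := fun s => by
        rcases s with ⟨u, z, hz⟩
        refine Sigma.subtype_ext ?_ rfl
        show z + u - z = u
        abel }
  rw [Nat.card_congr e, Nat.card_sigma,
    ← Finset.add_sum_erase Finset.univ _ (Finset.mem_univ (0 : Fin 2 → F))]
  congr 1
  · have h0 : bL a b (0 : Fin 2 → F) = 0 := by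
      funext i; fin_cases i <;> simp [bL]
    have h1 : bf a b (0 : Fin 2 → F) = 0 := by simp [bf]
    simp only [h0, h1, zero_dotProduct, neg_zero]
    rw [Nat.card_eq_fintype_card, Fintype.card_subtype_true, Fintype.card_fun, Fintype.card_fin]
  · rw [Finset.sum_congr rfl (fun u hu =>
      card_dotProduct_eq (bL a b u) (bL_ne_zero a b hab u (Finset.ne_of_mem_erase hu)) _),
      Finset.sum_const, Finset.card_erase_of_mem (Finset.mem_univ _), Finset.card_univ,
      smul_eq_mul, Fintype.card_fun, Fintype.card_fin]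
    simp

/-- sum of the level set sizes -/
theorem sum_card_bf (a b : F) :
    ∑ c : F, Nat.card {z : Fin 2 → F // bf a b z = c} = Fintype.card F ^ 2 := by
  classical
  rw [← Nat.card_sigma, Nat.card_congr (Equiv.sigmaFiberEquiv (bf a b)), Nat.card_eq_fintype_card,
    Fintype.card_fun, Fintype.card_fin]

/-- sum of the squares of the level set sizes -/
theorem sum_sq_card_bf (a b : F)
    (hab : ∀ z₁ z₂ : F, z₁ ^ 2 + a * z₁ * z₂ + b * z₂ ^ 2 = 0 → z₁ = 0 ∧ z₂ = 0) :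
    ∑ c : F, Nat.card {z : Fin 2 → F // bf a b z = c} ^ 2 =
      Fintype.card F ^ 2 + (Fintype.card F ^ 2 - 1) * Fintype.card F := by
  classical
  rw [← card_bf_pairs a b hab]
  have e : {p : (Fin 2 → F) × (Fin 2 → F) // bf a b p.1 = bf a b p.2} ≃
      Σ c : F, {z : Fin 2 → F // bf a b z = c} × {w : Fin 2 → F // bf a b w = c} :=
    { toFun := fun p => ⟨bf a b p.1.1, ⟨p.1.1, rfl⟩, ⟨p.1.2, p.2.symm⟩⟩
      invFun := fun s => ⟨(s.2.1.1, s.2.2.1), s.2.1.2.trans s.2.2.2.symm⟩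
      left_inv := fun p => rfl
      right_inv := fun s => by
        rcases s with ⟨c, ⟨z, hz⟩, ⟨w, hw⟩⟩
        subst hz
        rfl }
  rw [Nat.card_congr e, Nat.card_sigma]
  apply Finset.sum_congr rfl
  intro c _
  rw [Nat.card_prod, sq]

omit [Fintype F] in
theorem card_bf_zero (a b : F)
    (hab : ∀ z₁ z₂ : F, z₁ ^ 2 + a * z₁ * z₂ + b * z₂ ^ 2 = 0 → z₁ = 0 ∧ z₂ = 0) :
    Nat.card {z : Fin 2 → F // bf a b z = 0} = 1 := by
  have : Unique {z : Fin 2 → F // bf a b z = 0} :=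
    { default := ⟨0, by simp [bf]⟩
      uniq := fun z => by
        apply Subtype.ext
        obtain ⟨h0, h1⟩ := hab _ _ z.2
        funext i
        fin_cases i
        · exact h0
        · exact h1 }
  exact Nat.card_unique

/-- **the norm count**: a nonzero value of an anisotropic binary form over a finite field is taken
exactly `q + 1` times (all characteristics). -/
theorem card_bf_level (a b : F)
    (hab : ∀ z₁ z₂ : F, z₁ ^ 2 + a * z₁ * z₂ + b * z₂ ^ 2 = 0 → z₁ = 0 ∧ z₂ = 0)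
    (c : F) (hc : c ≠ 0) :
    Nat.card {z : Fin 2 → F // bf a b z = c} = Fintype.card F + 1 := by
  classical
  set q := Fintype.card F with hq
  have hq1 : 1 ≤ q := Fintype.card_pos
  set N : F → ℕ := fun c => Nat.card {z : Fin 2 → F // bf a b z = c} with hN
  have h1 : ∑ c : F, N c = q ^ 2 := sum_card_bf a b
  have h2 : ∑ c : F, N c ^ 2 = q ^ 2 + (q ^ 2 - 1) * q := sum_sq_card_bf a b hab
  have h0 : N 0 = 1 := card_bf_zero a b hab
  have hq2 : 1 ≤ q ^ 2 := Nat.one_le_pow _ _ hq1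
  -- the sum of squared deviations
  have hdev : ∑ c : F, ((N c : ℤ) - (q + 1)) ^ 2 = (q : ℤ) ^ 2 := by
    have e1 : ∑ c : F, ((N c : ℤ) - (q + 1)) ^ 2 =
        ∑ c : F, ((N c : ℤ) ^ 2) - 2 * (q + 1) * ∑ c : F, (N c : ℤ) +
          (q : ℤ) * ((q : ℤ) + 1) ^ 2 := by
      rw [Finset.mul_sum, ← Finset.sum_sub_distrib]
      have : (q : ℤ) * ((q : ℤ) + 1) ^ 2 = ∑ _c : F, ((q : ℤ) + 1) ^ 2 := by
        rw [Finset.sum_const, Finset.card_univ, nsmul_eq_mul]
      rw [this, ← Finset.sum_add_distrib]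
      apply Finset.sum_congr rfl
      intro c _
      ring
    have h1' : ∑ c : F, (N c : ℤ) = (q : ℤ) ^ 2 := by exact_mod_cast h1
    have h2' : ∑ c : F, (N c : ℤ) ^ 2 = (q : ℤ) ^ 2 + ((q : ℤ) ^ 2 - 1) * q := by
      have : ((q ^ 2 - 1 : ℕ) : ℤ) = (q : ℤ) ^ 2 - 1 := by
        rw [Nat.cast_sub hq2]; simp
      rw [← this]
      exact_mod_cast h2
    rw [e1, h1', h2']
    ring
  rw [← Finset.add_sum_erase Finset.univ _ (Finset.mem_univ (0 : F)), h0] at hdev
  have hrest : ∑ c ∈ Finset.univ.erase (0 : F), ((N c : ℤ) - (q + 1)) ^ 2 = 0 := by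
    have : (((1 : ℕ) : ℤ) - ((q : ℤ) + 1)) ^ 2 = (q : ℤ) ^ 2 := by push_cast; ring
    rw [this] at hdev
    linarith
  have hz := (Finset.sum_eq_zero_iff_of_nonneg (fun c _ => sq_nonneg _)).1 hrest c
    (Finset.mem_erase.2 ⟨hc, Finset.mem_univ _⟩)
  have hz' : (N c : ℤ) - (q + 1) = 0 := by
    exact pow_eq_zero_iff (two_ne_zero) |>.mp hz
  have : (N c : ℤ) = ((q + 1 : ℕ) : ℤ) := by push_cast; linarith
  exact_mod_cast this

/-! ### plus type -/

theorem card_plusSpace (m : ℕ) : Fintype.card (Fin m ⊕ Fin m) = 2 * m := by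
  simp [Fintype.card_sum]; ring

omit [Fintype F] in
theorem finrank_plusSpace (m : ℕ) : finrank F (Fin m ⊕ Fin m → F) = 2 * m := by
  rw [Module.finrank_fintype_fun_eq_card, card_plusSpace]

/-- level sets of the plus form -/
theorem card_level_qfPlus (m : ℕ) (c : F) (hc : c ≠ 0) :
    Nat.card {w : Fin m ⊕ Fin m → F // qfPlus m F w = c} =
      (Fintype.card F ^ m - 1) * Fintype.card F ^ (m - 1) := by
  classical
  have h := card_pairs (F := F) m c
  rw [if_neg hc, zero_add] at h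
  rw [← h]
  refine Nat.card_congr (Equiv.subtypeEquiv (Equiv.sumArrowEquivProdArrow (Fin m) (Fin m) F) ?_)
  intro w
  have : qfPlus m F w = Cfsg.quadFormPlus m F w := by rw [← coe_qfPlus]
  rw [this]
  rfl

/-- the hypotheses of the abstract theorem for the standard plus form -/
theorem plus_hyps (m : ℕ) (hm : 3 ≤ m) :
    (QuadraticMap.polarBilin (qfPlus m F)).Nondegenerate ∧
    finrank F (Fin m ⊕ Fin m → F) = 2 * m ∧
    ⁅oG (⇑(qfPlus m F)), oG (⇑(qfPlus m F))⁆ ≤ T (qfPlus m F) ∧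
    Nat.card {x : Fin m ⊕ Fin m → F // qfPlus m F x = 0} =
      Fintype.card F ^ (2 * m - 1) + Fintype.card F ^ m - Fintype.card F ^ (m - 1) ∧
    (∀ c : F, c ≠ 0 → Nat.card {x : Fin m ⊕ Fin m → F // qfPlus m F x = c} =
      Fintype.card F ^ (2 * m - 1) - Fintype.card F ^ (m - 1)) := by
  have hQ := nondegenerate_qfPlus (F := F) m
  have hq : 1 ≤ Fintype.card F := Fintype.card_pos
  have e1 : Fintype.card F ^ (2 * m - 1) = Fintype.card F ^ m * Fintype.card F ^ (m - 1) := by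
    rw [← pow_add]; congr 1; omega
  have h1 : 1 ≤ Fintype.card F ^ m := Nat.one_le_pow _ _ hq
  have h2 : 1 ≤ Fintype.card F ^ (m - 1) := Nat.one_le_pow _ _ hq
  refine ⟨hQ, finrank_plusSpace m, ?_, ?_, ?_⟩
  · exact le_of_eq (commutator_oG_eq_T (qfPlus m F) hQ (by rw [card_plusSpace]; omega))
  · rw [Cfsg.Agent.Lib.Helper60_OrthTS_OCOUNT.card_zeros_qfPlus, osing_true, e1]
    obtain ⟨A, hA⟩ : ∃ A, Fintype.card F ^ m = A + 1 := ⟨_, (Nat.sub_add_cancel h1).symm⟩
    obtain ⟨B, hB⟩ : ∃ B, Fintype.card F ^ (m - 1) = B + 1 := ⟨_, (Nat.sub_add_cancel h2).symm⟩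
    rw [hA, hB, Nat.add_sub_cancel]
    have : (A + 1) * (B + 1) + (A + 1) - (B + 1) = A * (B + 1 + 1) + 1 := by
      have : (A + 1) * (B + 1) + (A + 1) = A * (B + 1 + 1) + 1 + (B + 1) := by ring
      rw [this, Nat.add_sub_cancel]
    rw [this]
  · intro c hc
    rw [card_level_qfPlus m c hc, e1, Nat.sub_mul, one_mul]

/-- the number of singular points of the standard plus form -/
theorem card_points_plus (m : ℕ) (hm : 1 ≤ m) :
    Nat.card {W : Submodule F (Fin m ⊕ Fin m → F) //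
      finrank F W = 1 ∧ ∀ w ∈ W, qfPlus m F w = 0} =
      (Fintype.card F ^ m - 1) * (Fintype.card F ^ (m - 1) + 1) / (Fintype.card F - 1) := by
  have hQ := nondegenerate_qfPlus (F := F) m
  have h := Cfsg.Agent.Lib.Helper60_OrthTS_OCOUNT.card_ts_mul (qfPlus m F) hQ m
    (finrank_plusSpace m) true (by simpa using Cfsg.Agent.Lib.Helper40_QuadStd.isHyp_qfPlus m) 1 hm
  rw [Fin.prod_univ_one, Finset.prod_range_one] at h
  simp only [Fin.val_zero, pow_zero, pow_one, Nat.sub_zero, one_mul, osing_true] at h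
  have hq : 1 < Fintype.card F := Fintype.one_lt_card
  exact (Nat.div_eq_of_eq_mul_left (by omega) h.symm).symm

/-- **S2145 from the abstract theorem** -/
theorem S2145_of_main {q : ℕ} (hF : Fintype.card F = q) (m : ℕ) (hm : 4 ≤ m)
    (hmain : ∀ H : Subgroup ((Fin m ⊕ Fin m → F) ≃ₗ[F] (Fin m ⊕ Fin m → F)),
      H ≤ T (qfPlus m F) → H ≠ T (qfPlus m F) →
        (q ^ m - 1) * (q ^ (m - 1) + 1) / (q - 1) ≤ H.relIndex (T (qfPlus m F))) :
    (∀ H : Subgroup (Cfsg.POmega F (Cfsg.quadFormPlus m F)), H ≠ ⊤ →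
      (q ^ m - 1) * (q ^ (m - 1) + 1) / (q - 1) ≤ H.index) ∧
    (∃ H : Subgroup (Cfsg.POmega F (Cfsg.quadFormPlus m F)),
      H.index = (q ^ m - 1) * (q ^ (m - 1) + 1) / (q - 1)) := by
  subst hF
  have hQ := nondegenerate_qfPlus (F := F) m
  have hn : 5 ≤ Fintype.card (Fin m ⊕ Fin m) := by rw [card_plusSpace]; omega
  have hlow := lower_gen (qfPlus m F) hQ hn _ hmain
  have hq : 2 ≤ Fintype.card F := Fintype.one_lt_card
  have hN2 : 2 ≤ (Fintype.card F ^ m - 1) * (Fintype.card F ^ (m - 1) + 1) / (Fintype.card F - 1) := by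
    rw [Nat.le_div_iff_mul_le (by omega)]
    have h1 : Fintype.card F ^ 1 ≤ Fintype.card F ^ m := Nat.pow_le_pow_right (by omega) (by omega)
    have h3 : 1 ≤ Fintype.card F ^ (m - 1) := Nat.one_le_pow _ _ (by omega)
    rw [pow_one] at h1
    calc 2 * (Fintype.card F - 1) = (Fintype.card F - 1) * 2 := by ring
      _ ≤ (Fintype.card F ^ m - 1) * (Fintype.card F ^ (m - 1) + 1) :=
        Nat.mul_le_mul (by omega) (by omega)
  have hex := exists_index_points (qfPlus m F) hQ hn _ hN2 (card_points_plus m (by omega)) hlow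
  rw [coe_qfPlus] at hlow hex
  exact ⟨hlow, hex⟩

/-! ### minus type -/

theorem card_minusSpace (n : ℕ) : Fintype.card ((Fin n ⊕ Fin n) ⊕ Fin 2) = 2 * (n + 1) := by
  simp [Fintype.card_sum]; ring

omit [Fintype F] in
theorem finrank_minusSpace (n : ℕ) :
    finrank F ((Fin n ⊕ Fin n) ⊕ Fin 2 → F) = 2 * (n + 1) := by
  rw [Module.finrank_fintype_fun_eq_card, card_minusSpace]

/-- level sets of the minus form, fibred over the anisotropic part -/
def levelEquivMinus (n : ℕ) (a b c : F) :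
    {w : (Fin n ⊕ Fin n) ⊕ Fin 2 → F // qfMinus n F a b w = c} ≃
      Σ z : Fin 2 → F, {p : (Fin n → F) × (Fin n → F) // p.1 ⬝ᵥ p.2 = c - bf a b z} where
  toFun := fun v => ⟨fun k => v.1 (Sum.inr k),
    ⟨(fun i => v.1 (Sum.inl (Sum.inl i)), fun i => v.1 (Sum.inl (Sum.inr i))), by
      have this := congrFun (coe_qfMinus n F a b) v.1
      rw [v.2] at this
      unfold Cfsg.quadFormMinus at this
      simp only [dotProduct, bf]
      linear_combination -this⟩⟩
  invFun := fun s => ⟨Sum.elim (Sum.elim s.2.1.1 s.2.1.2) s.1, by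
      have := s.2.2
      rw [congrFun (coe_qfMinus n F a b) _]
      unfold Cfsg.quadFormMinus
      simp only [dotProduct, bf] at this
      simp only [Sum.elim_inl, Sum.elim_inr]
      linear_combination this⟩
  left_inv := fun v => by
    apply Subtype.ext
    funext k
    rcases k with (k | k) | k <;> rfl
  right_inv := fun s => by
    rcases s with ⟨z, ⟨⟨x, y⟩, h⟩⟩
    rfl

/-- level sets of the minus form -/
theorem card_level_qfMinus (n : ℕ) (a b : F)
    (hab : ∀ z₁ z₂ : F, z₁ ^ 2 + a * z₁ * z₂ + b * z₂ ^ 2 = 0 → z₁ = 0 ∧ z₂ = 0)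
    (c : F) (hc : c ≠ 0) :
    Nat.card {w : (Fin n ⊕ Fin n) ⊕ Fin 2 → F // qfMinus n F a b w = c} =
      (Fintype.card F + 1) * Fintype.card F ^ n +
        Fintype.card F ^ 2 * ((Fintype.card F ^ n - 1) * Fintype.card F ^ (n - 1)) := by
  classical
  rw [Nat.card_congr (levelEquivMinus n a b c), Nat.card_sigma]
  simp only [card_pairs]
  rw [Finset.sum_add_distrib, Finset.sum_const, Finset.card_univ, smul_eq_mul, Fintype.card_fun,
    Fintype.card_fin]
  congr 1
  rw [← Finset.sum_filter, Finset.sum_const, smul_eq_mul, ← card_bf_level a b hab c hc,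
    Nat.card_eq_fintype_card, Fintype.card_subtype]
  congr 2
  ext z
  simp only [Finset.mem_filter, Finset.mem_univ, true_and]
  constructor
  · intro h; exact (sub_eq_zero.1 h).symm
  · intro h; rw [h, sub_self]

/-- the hypotheses of the abstract theorem for the standard minus form in dimension `2 (n + 1)` -/
theorem minus_hyps' (n : ℕ) (hn : 2 ≤ n) (a b : F)
    (hab : ∀ z₁ z₂ : F, z₁ ^ 2 + a * z₁ * z₂ + b * z₂ ^ 2 = 0 → z₁ = 0 ∧ z₂ = 0) :
    (QuadraticMap.polarBilin (qfMinus n F a b)).Nondegenerate ∧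
    finrank F ((Fin n ⊕ Fin n) ⊕ Fin 2 → F) = 2 * (n + 1) ∧
    ⁅oG (⇑(qfMinus n F a b)), oG (⇑(qfMinus n F a b))⁆ ≤ T (qfMinus n F a b) ∧
    Nat.card {x : (Fin n ⊕ Fin n) ⊕ Fin 2 → F // qfMinus n F a b x = 0} =
      Fintype.card F ^ (2 * (n + 1) - 1) - Fintype.card F ^ (n + 1) + Fintype.card F ^ n ∧
    (∀ c : F, c ≠ 0 →
      Nat.card {x : (Fin n ⊕ Fin n) ⊕ Fin 2 → F // qfMinus n F a b x = c} =
      Fintype.card F ^ (2 * (n + 1) - 1) + Fintype.card F ^ n) := by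
  have hQ := nondegenerate_qfMinus (F := F) n a b hab
  have hq : 1 ≤ Fintype.card F := Fintype.card_pos
  set q := Fintype.card F with hqdef
  have e1 : q ^ (2 * (n + 1) - 1) = q ^ (n + 1) * q ^ n := by
    rw [← pow_add]; congr 1; omega
  have h1 : 1 ≤ q ^ n := Nat.one_le_pow _ _ hq
  refine ⟨hQ, finrank_minusSpace n, ?_, ?_, ?_⟩
  · exact le_of_eq (commutator_oG_eq_T (qfMinus n F a b) hQ (by rw [card_minusSpace]; omega))
  · rw [Cfsg.Agent.Lib.Helper60_OrthTS_OCOUNT.card_zeros_qfMinus n a b hab, osing_false, e1,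
      Nat.add_sub_cancel]
    obtain ⟨B, hB⟩ : ∃ B, q ^ n = B + 1 := ⟨_, (Nat.sub_add_cancel h1).symm⟩
    rw [hB, Nat.add_sub_cancel]
    have : q ^ (n + 1) * (B + 1) - q ^ (n + 1) = q ^ (n + 1) * B := by
      rw [Nat.mul_succ, Nat.add_sub_cancel]
    rw [this]
    ring
  · intro c hc
    rw [card_level_qfMinus n a b hab c hc, e1]
    obtain ⟨k, rfl⟩ : ∃ k, n = k + 1 := ⟨n - 1, by omega⟩
    simp only [Nat.add_sub_cancel]
    have h2 : 1 ≤ q ^ (k + 1) := Nat.one_le_pow _ _ hq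
    obtain ⟨B, hB⟩ : ∃ B, q ^ (k + 1) = B + 1 := ⟨_, (Nat.sub_add_cancel h2).symm⟩
    have e2 : q ^ (k + 1 + 1) = q * (B + 1) := by rw [pow_succ, hB]; ring
    have e3 : q ^ 2 * (B * q ^ k) = q * B * (B + 1) := by
      rw [← hB]; ring
    rw [hB, Nat.add_sub_cancel, e2, e3]
    ring

/-- the hypotheses of the abstract theorem for the standard minus form in dimension `2 m` -/
theorem minus_hyps (m : ℕ) (hm : 3 ≤ m) (a b : F)
    (hab : ∀ z₁ z₂ : F, z₁ ^ 2 + a * z₁ * z₂ + b * z₂ ^ 2 = 0 → z₁ = 0 ∧ z₂ = 0) :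
    (QuadraticMap.polarBilin (qfMinus (m - 1) F a b)).Nondegenerate ∧
    finrank F ((Fin (m - 1) ⊕ Fin (m - 1)) ⊕ Fin 2 → F) = 2 * m ∧
    ⁅oG (⇑(qfMinus (m - 1) F a b)), oG (⇑(qfMinus (m - 1) F a b))⁆ ≤ T (qfMinus (m - 1) F a b) ∧
    Nat.card {x : (Fin (m - 1) ⊕ Fin (m - 1)) ⊕ Fin 2 → F // qfMinus (m - 1) F a b x = 0} =
      Fintype.card F ^ (2 * m - 1) - Fintype.card F ^ m + Fintype.card F ^ (m - 1) ∧
    (∀ c : F, c ≠ 0 →
      Nat.card {x : (Fin (m - 1) ⊕ Fin (m - 1)) ⊕ Fin 2 → F // qfMinus (m - 1) F a b x = c} =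
      Fintype.card F ^ (2 * m - 1) + Fintype.card F ^ (m - 1)) := by
  obtain ⟨n, rfl⟩ : ∃ n, m = n + 1 := ⟨m - 1, by omega⟩
  exact minus_hyps' n (by omega) a b hab

/-- the number of singular points of the standard minus form -/
theorem card_points_minus' (n : ℕ) (a b : F)
    (hab : ∀ z₁ z₂ : F, z₁ ^ 2 + a * z₁ * z₂ + b * z₂ ^ 2 = 0 → z₁ = 0 ∧ z₂ = 0) :
    Nat.card {W : Submodule F ((Fin n ⊕ Fin n) ⊕ Fin 2 → F) //
      finrank F W = 1 ∧ ∀ w ∈ W, qfMinus n F a b w = 0} =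
      (Fintype.card F ^ (n + 1) + 1) * (Fintype.card F ^ n - 1) / (Fintype.card F - 1) := by
  have hQ := nondegenerate_qfMinus (F := F) n a b hab
  have hnh : ¬ Cfsg.Agent.Lib.Helper40_QuadIso.IsHyp (qfMinus n F a b) :=
    Cfsg.Agent.Lib.Helper40_QuadStd.not_isHyp_qfMinus n a b hab
  have h := Cfsg.Agent.Lib.Helper60_OrthTS_OCOUNT.card_ts_mul (qfMinus n F a b) hQ (n + 1)
    (finrank_minusSpace n) false (by simpa using hnh) 1 (by omega)
  rw [Fin.prod_univ_one, Finset.prod_range_one] at h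
  simp only [Fin.val_zero, pow_zero, pow_one, Nat.sub_zero, one_mul, osing_false,
    Nat.add_sub_cancel] at h
  have hq : 1 < Fintype.card F := Fintype.one_lt_card
  exact (Nat.div_eq_of_eq_mul_left (by omega) h.symm).symm

theorem card_points_minus (m : ℕ) (hm : 1 ≤ m) (a b : F)
    (hab : ∀ z₁ z₂ : F, z₁ ^ 2 + a * z₁ * z₂ + b * z₂ ^ 2 = 0 → z₁ = 0 ∧ z₂ = 0) :
    Nat.card {W : Submodule F ((Fin (m - 1) ⊕ Fin (m - 1)) ⊕ Fin 2 → F) //
      finrank F W = 1 ∧ ∀ w ∈ W, qfMinus (m - 1) F a b w = 0} =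
      (Fintype.card F ^ m + 1) * (Fintype.card F ^ (m - 1) - 1) / (Fintype.card F - 1) := by
  obtain ⟨n, rfl⟩ : ∃ n, m = n + 1 := ⟨m - 1, by omega⟩
  exact card_points_minus' n a b hab

/-- **S2147 from the abstract theorem** -/
theorem S2147_of_main {q : ℕ} (hF : Fintype.card F = q) (m : ℕ) (hm : 4 ≤ m) (a b : F)
    (hab : ∀ z₁ z₂ : F, z₁ ^ 2 + a * z₁ * z₂ + b * z₂ ^ 2 = 0 → z₁ = 0 ∧ z₂ = 0)
    (hmain : ∀ H : Subgroup (((Fin (m - 1) ⊕ Fin (m - 1)) ⊕ Fin 2 → F) ≃ₗ[F]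
        ((Fin (m - 1) ⊕ Fin (m - 1)) ⊕ Fin 2 → F)),
      H ≤ T (qfMinus (m - 1) F a b) → H ≠ T (qfMinus (m - 1) F a b) →
        (q ^ m + 1) * (q ^ (m - 1) - 1) / (q - 1) ≤ H.relIndex (T (qfMinus (m - 1) F a b))) :
    (∀ H : Subgroup (Cfsg.POmega F (Cfsg.quadFormMinus (m - 1) F a b)), H ≠ ⊤ →
      (q ^ m + 1) * (q ^ (m - 1) - 1) / (q - 1) ≤ H.index) ∧
    (∃ H : Subgroup (Cfsg.POmega F (Cfsg.quadFormMinus (m - 1) F a b)),
      H.index = (q ^ m + 1) * (q ^ (m - 1) - 1) / (q - 1)) := by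
  subst hF
  have hQ := nondegenerate_qfMinus (F := F) (m - 1) a b hab
  have hn : 5 ≤ Fintype.card ((Fin (m - 1) ⊕ Fin (m - 1)) ⊕ Fin 2) := by
    rw [card_minusSpace]; omega
  have hlow := lower_gen (qfMinus (m - 1) F a b) hQ hn _ hmain
  have hq : 2 ≤ Fintype.card F := Fintype.one_lt_card
  have hN2 : 2 ≤ (Fintype.card F ^ m + 1) * (Fintype.card F ^ (m - 1) - 1) /
      (Fintype.card F - 1) := by
    rw [Nat.le_div_iff_mul_le (by omega)]
    have h1 : Fintype.card F ^ 1 ≤ Fintype.card F ^ (m - 1) :=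
      Nat.pow_le_pow_right (by omega) (by omega)
    have h3 : 1 ≤ Fintype.card F ^ m := Nat.one_le_pow _ _ (by omega)
    rw [pow_one] at h1
    exact Nat.mul_le_mul (by omega) (by omega)
  have hex := exists_index_points (qfMinus (m - 1) F a b) hQ hn _ hN2
    (card_points_minus m (by omega) a b hab) hlow
  rw [coe_qfMinus] at hlow hex
  exact ⟨hlow, hex⟩

end Cfsg.Agent.Lib.Helper73_MIOEven
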