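import Mathlib
import Cfsg.Agent.Lib.Helper30_OMDefs
import Cfsg.Agent.Lib.Helper73_MIOEven
import Cfsg.Agent.Lib.Helper44_StdForms

/-!
# Helper20_OM_BRMINUS: package OM-BRMINUS of the S2346 market (architect helper30)

The standard minus form `qfMinus (m - 1) F a b` is of minus type of rank `m` (`IsMinus`), from the landed
`Helper73_MIOEven.minus_hyps`.
-/

set_option autoImplicit false

namespace Cfsg.Agent.Lib.Helper20_OM_BRMINUS

open Module Cfsg.Agent.Lib.Helper30_OMDefs Cfsg.Agent.Lib.Helper44_StdForms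

universe u

variable {F : Type u} [Field F] [Fintype F]

theorem isMinus_qfMinus (m : ℕ) (hm : 3 ≤ m) (a b : F)
    (hab : ∀ z₁ z₂ : F, z₁ ^ 2 + a * z₁ * z₂ + b * z₂ ^ 2 = 0 → z₁ = 0 ∧ z₂ = 0) :
    IsMinus (qfMinus (m - 1) F a b) m := by
  obtain ⟨h1, h2, _, h4, h5⟩ := Cfsg.Agent.Lib.Helper73_MIOEven.minus_hyps m hm a b hab
  exact ⟨h1, h2, h4, h5⟩

end Cfsg.Agent.Lib.Helper20_OM_BRMINUS
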