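import Mathlib

/-!
# Helper20_OO2_ARITHB: package OO2-ARITHB of the S2344 market

The two class-sum divisibilities of (B4) are impossible (pure arithmetic).
-/

set_option autoImplicit false

namespace Cfsg.Agent.Lib.Helper20_OO2_ARITHB

/-- case `D = q^4 + q^2 - 1`, over the integers -/
theorem case1 (Q : ℤ) (hQ : 3 ≤ Q)
    (h : Q ^ 4 + Q ^ 2 - 1 ∣ (Q ^ 6 - 1) * (Q ^ 5 - Q) * (Q ^ 4 + Q ^ 2 - 1 - Q ^ 4)) : False := by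
  have hcop : IsCoprime (Q ^ 4 + Q ^ 2 - 1) Q := ⟨-1, Q ^ 3 + Q, by ring⟩
  have e1 : (Q ^ 6 - 1) * (Q ^ 5 - Q) * (Q ^ 4 + Q ^ 2 - 1 - Q ^ 4) =
      ((Q ^ 6 - 1) * (Q ^ 4 - 1) * (Q ^ 2 - 1)) * Q := by ring
  rw [e1] at h
  have h2 := hcop.dvd_of_dvd_mul_right h
  have e2 : (Q ^ 6 - 1) * (Q ^ 4 - 1) * (Q ^ 2 - 1) =
      (Q ^ 4 + Q ^ 2 - 1) * (Q ^ 8 - 2 * Q ^ 6 + 2 * Q ^ 4 - 4 * Q ^ 2 + 7) + (6 - 10 * Q ^ 2) := by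
    ring
  rw [e2] at h2
  have h3 : Q ^ 4 + Q ^ 2 - 1 ∣ 6 - 10 * Q ^ 2 := (Int.dvd_add_right (Dvd.intro _ rfl)).mp h2
  have h4 : Q ^ 4 + Q ^ 2 - 1 ∣ 10 * Q ^ 2 - 6 := by
    have := (dvd_neg (a := Q ^ 4 + Q ^ 2 - 1) (b := 6 - 10 * Q ^ 2)).mpr h3
    rwa [neg_sub] at this
  have hQ2 : 9 ≤ Q ^ 2 := by nlinarith
  have h5 := Int.le_of_dvd (by linarith) h4
  have e4 : Q ^ 4 = Q ^ 2 * Q ^ 2 := by ring
  nlinarith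

/-- case `D = q^4 + q^2 - 2`, over the integers: `q^2 + 2` divides `108` -/
theorem case2 (Q k : ℤ) (hk : Q = 2 * k + 1)
    (h : Q ^ 4 + Q ^ 2 - 2 ∣ (Q ^ 6 - 1) * (Q ^ 5 - Q) * (Q ^ 4 + Q ^ 2 - 2 - Q ^ 4)) :
    Q ^ 2 + 2 ∣ 108 := by
  have hcop : IsCoprime (Q ^ 2 + 2) Q := ⟨-k, 1 + k * Q, by rw [hk]; ring⟩
  have h0 : Q ^ 2 + 2 ∣ Q ^ 4 + Q ^ 2 - 2 := ⟨Q ^ 2 - 1, by ring⟩
  have h1 := h0.trans h
  have e1 : (Q ^ 6 - 1) * (Q ^ 5 - Q) * (Q ^ 4 + Q ^ 2 - 2 - Q ^ 4) =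
      ((Q ^ 6 - 1) * (Q ^ 4 - 1) * (Q ^ 2 - 2)) * Q := by ring
  rw [e1] at h1
  have h2 := hcop.dvd_of_dvd_mul_right h1
  have e2 : (Q ^ 6 - 1) * (Q ^ 4 - 1) * (Q ^ 2 - 2) =
      (Q ^ 2 + 2) * (Q ^ 10 - 4 * Q ^ 8 + 7 * Q ^ 6 - 13 * Q ^ 4 + 28 * Q ^ 2 - 55) + 108 := by
    ring
  rw [e2] at h2
  exact (Int.dvd_add_right (Dvd.intro _ rfl)).mp h2

theorem arithB (q D : ℕ) (hq : 3 ≤ q) (hodd : Odd q)
    (hD : D = q ^ 4 + q ^ 2 - 1 ∨ D = q ^ 4 + q ^ 2 - 2)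
    (hdvd : D ∣ (q ^ 6 - 1) * (q ^ 5 - q) * (D - q ^ 4)) : False := by
  have h1 : 1 ≤ q ^ 6 := Nat.one_le_pow _ _ (by omega)
  have h2 : q ≤ q ^ 5 := by
    calc q = q ^ 1 := (pow_one q).symm
      _ ≤ q ^ 5 := Nat.pow_le_pow_right (by omega) (by norm_num)
  have hq2 : 9 ≤ q ^ 2 := by nlinarith
  have hq4 : 1 ≤ q ^ 4 := Nat.one_le_pow _ _ (by omega)
  rcases hD with rfl | rfl
  · have h3 : q ^ 4 ≤ q ^ 4 + q ^ 2 - 1 := by omega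
    have hz := Int.natCast_dvd_natCast.mpr hdvd
    push_cast [Nat.cast_sub h1, Nat.cast_sub h2, Nat.cast_sub h3,
      Nat.cast_sub (show 1 ≤ q ^ 4 + q ^ 2 by omega)] at hz
    exact case1 (q : ℤ) (by exact_mod_cast hq) hz
  · have h3 : q ^ 4 ≤ q ^ 4 + q ^ 2 - 2 := by omega
    have hz := Int.natCast_dvd_natCast.mpr hdvd
    push_cast [Nat.cast_sub h1, Nat.cast_sub h2, Nat.cast_sub h3,
      Nat.cast_sub (show 2 ≤ q ^ 4 + q ^ 2 by omega)] at hz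
    obtain ⟨k, hk⟩ := hodd
    have h108 := case2 (q : ℤ) (k : ℤ) (by rw [hk]; push_cast; ring) hz
    have h108' : q ^ 2 + 2 ∣ 108 := by
      apply Int.natCast_dvd_natCast.mp
      push_cast
      exact h108
    have hle : q ^ 2 + 2 ≤ 108 := Nat.le_of_dvd (by norm_num) h108'
    have hq10 : q ≤ 10 := by nlinarith
    interval_cases q
    · norm_num at h108'
    · omega
    · norm_num at hdvd
    · omega
    · norm_num at h108'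
    · omega
    · norm_num at h108'
    · omega

end Cfsg.Agent.Lib.Helper20_OO2_ARITHB
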