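import Mathlib
import Cfsg.Agent.Lib.Helper64_OOKDefs

/-!
OO-K-NACT (S2344 kill section, architect helper64, owner helper48): the action of
`n(t) = x(-t) y(1/t) x(-t)` on a hyperbolic quadruple and on its orthogonal complement.
-/

set_option autoImplicit false
set_option linter.unusedSectionVars false
set_option linter.unusedVariables false
set_option linter.unusedSimpArgs false

namespace Cfsg.Agent.Lib.Helper53_OO_K_NACT

open Module Cfsg.Agent.Lib.Helper94_OrthSmall Cfsg.Agent.Lib.Helper44_QuadClass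
  Cfsg.Agent.Lib.Helper14_OmegaSimple Cfsg.Agent.Lib.Helper38_MIODefs
  Cfsg.Agent.Lib.Helper95_OPDefs Cfsg.Agent.Lib.Helper95_OPBasic Cfsg.Agent.Lib.Helper48_OODefs
  Cfsg.Agent.Lib.Helper64_OOKDefs

variable {F V : Type*} [Field F] [AddCommGroup V] [Module F V]

theorem polar_self_zero (Q : QuadraticForm F V) {x : V} (hx : Q x = 0) :
    QuadraticMap.polar (⇑Q) x x = 0 := by
  rw [QuadraticMap.polar_self, hx, smul_zero]

/-- the root element `x(s) = E Q v (s • a')` -/
theorem xE_apply (Q : QuadraticForm F V) {v v' a a' : V} (h : HypQuad Q v v' a a') (s : F) (x : V) :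
    E Q v (s • a') x = x + (s * QuadraticMap.polar (⇑Q) x v) • a' -
      (s * QuadraticMap.polar (⇑Q) x a') • v := by
  have h1 : QuadraticMap.polar (⇑Q) v (s • a') = 0 := by
    rw [QuadraticMap.polar_smul_right, h.va', smul_zero]
  rw [E_apply Q h.qv h1, QuadraticMap.map_smul, h.qa', QuadraticMap.polar_smul_right]
  simp only [smul_eq_mul, mul_zero, zero_mul, zero_smul, sub_zero]
  rw [smul_smul, mul_comm]

/-- the root element `y(s) = E Q a (s • v')` -/
theorem yE_apply (Q : QuadraticForm F V) {v v' a a' : V} (h : HypQuad Q v v' a a') (s : F) (x : V) :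
    E Q a (s • v') x = x + (s * QuadraticMap.polar (⇑Q) x a) • v' -
      (s * QuadraticMap.polar (⇑Q) x v') • a := by
  have hav' : QuadraticMap.polar (⇑Q) a v' = 0 := by rw [QuadraticMap.polar_comm]; exact h.v'a
  have h1 : QuadraticMap.polar (⇑Q) a (s • v') = 0 := by
    rw [QuadraticMap.polar_smul_right, hav', smul_zero]
  rw [E_apply Q h.qa h1, QuadraticMap.map_smul, h.qv', QuadraticMap.polar_smul_right]
  simp only [smul_eq_mul, mul_zero, zero_mul, zero_smul, sub_zero]
  rw [smul_smul, mul_comm]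

/-! ## OO-K-NACT (M) -/
theorem nn_apply (Q : QuadraticForm F V) {v v' a a' : V} (h : HypQuad Q v v' a a') (t : F)
    (ht : t ≠ 0) :
    nn Q v v' a a' t v = -(t⁻¹ • a) ∧ nn Q v v' a a' t a = t • v ∧
      nn Q v v' a a' t v' = -(t • a') ∧ nn Q v v' a a' t a' = t⁻¹ • v' ∧
      ∀ w : V, QuadraticMap.polar (⇑Q) w v = 0 → QuadraticMap.polar (⇑Q) w v' = 0 →
        QuadraticMap.polar (⇑Q) w a = 0 → QuadraticMap.polar (⇑Q) w a' = 0 →
        nn Q v v' a a' t w = w := by
  have hvv := polar_self_zero Q h.qv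
  have hv'v' := polar_self_zero Q h.qv'
  have haa := polar_self_zero Q h.qa
  have ha'a' := polar_self_zero Q h.qa'
  have hv'v : QuadraticMap.polar (⇑Q) v' v = 1 := by rw [QuadraticMap.polar_comm]; exact h.vv'
  have ha'a : QuadraticMap.polar (⇑Q) a' a = 1 := by rw [QuadraticMap.polar_comm]; exact h.aa'
  have hav : QuadraticMap.polar (⇑Q) a v = 0 := by rw [QuadraticMap.polar_comm]; exact h.va
  have ha'v : QuadraticMap.polar (⇑Q) a' v = 0 := by rw [QuadraticMap.polar_comm]; exact h.va'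
  have hav' : QuadraticMap.polar (⇑Q) a v' = 0 := by rw [QuadraticMap.polar_comm]; exact h.v'a
  have ha'v' : QuadraticMap.polar (⇑Q) a' v' = 0 := by rw [QuadraticMap.polar_comm]; exact h.v'a'
  -- the images of the frame under `x(-t)` and `y(t⁻¹)`
  have Xv : E Q v ((-t) • a') v = v := by
    rw [xE_apply Q h, hvv, h.va']; simp
  have Xa : E Q v ((-t) • a') a = a + t • v := by
    rw [xE_apply Q h, hav, h.aa']; simp
  have Xv' : E Q v ((-t) • a') v' = v' - t • a' := by
    rw [xE_apply Q h, hv'v, h.v'a']; simp [sub_eq_add_neg]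
  have Xa' : E Q v ((-t) • a') a' = a' := by
    rw [xE_apply Q h, ha'v, ha'a']; simp
  have Yv : E Q a (t⁻¹ • v') v = v - t⁻¹ • a := by
    rw [yE_apply Q h, h.va, h.vv']; simp
  have Ya : E Q a (t⁻¹ • v') a = a := by
    rw [yE_apply Q h, haa, hav']; simp
  have Yv' : E Q a (t⁻¹ • v') v' = v' := by
    rw [yE_apply Q h, h.v'a, hv'v']; simp
  have Ya' : E Q a (t⁻¹ • v') a' = a' + t⁻¹ • v' := by
    rw [yE_apply Q h, ha'a, ha'v']; simp
  have hunf : ∀ x : V, nn Q v v' a a' t x =
      E Q v ((-t) • a') (E Q a (t⁻¹ • v') (E Q v ((-t) • a') x)) := fun x => rfl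
  have htt : t⁻¹ * t = 1 := inv_mul_cancel₀ ht
  have htt' : t * t⁻¹ = 1 := mul_inv_cancel₀ ht
  refine ⟨?_, ?_, ?_, ?_, ?_⟩
  · simp only [hunf, map_add, map_sub, map_smul, Xv, Xa, Xv', Xa', Yv, Ya, Yv', Ya', smul_add,
      smul_sub, smul_smul, htt, htt', one_smul]
    abel
  · simp only [hunf, map_add, map_sub, map_smul, Xv, Xa, Xv', Xa', Yv, Ya, Yv', Ya', smul_add,
      smul_sub, smul_smul, htt, htt', one_smul]
    abel
  · simp only [hunf, map_add, map_sub, map_smul, Xv, Xa, Xv', Xa', Yv, Ya, Yv', Ya', smul_add,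
      smul_sub, smul_smul, htt, htt', one_smul]
    abel
  · simp only [hunf, map_add, map_sub, map_smul, Xv, Xa, Xv', Xa', Yv, Ya, Yv', Ya', smul_add,
      smul_sub, smul_smul, htt, htt', one_smul]
    abel
  · intro w hwv hwv' hwa hwa'
    have Xw : E Q v ((-t) • a') w = w := by
      rw [xE_apply Q h, hwv, hwa']; simp
    have Yw : E Q a (t⁻¹ • v') w = w := by
      rw [yE_apply Q h, hwa, hwv']; simp
    rw [hunf, Xw, Yw, Xw]

end Cfsg.Agent.Lib.Helper53_OO_K_NACT
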