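import Mathlib
import Cfsg.Agent.Lib.Helper64_OOKDefs
import Cfsg.Agent.Lib.Helper53_OO_K_NACT

set_option autoImplicit false

namespace Cfsg.Agent.Lib.Helper52_OO_K_GREL

open Module Cfsg.Agent.Lib.Helper94_OrthSmall Cfsg.Agent.Lib.Helper44_QuadClass
  Cfsg.Agent.Lib.Helper14_OmegaSimple Cfsg.Agent.Lib.Helper38_MIODefs
  Cfsg.Agent.Lib.Helper95_OPDefs Cfsg.Agent.Lib.Helper95_OPBasic Cfsg.Agent.Lib.Helper48_OODefs
  Cfsg.Agent.Lib.Helper64_OOKDefs Cfsg.Agent.Lib.Helper53_OO_K_NACT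

variable {F V : Type*} [Field F] [AddCommGroup V] [Module F V]

/-- EXT5 (local copy): two linear automorphisms agreeing on a hyperbolic quadruple and on its orthogonal
complement agree -/
theorem ext_quad_aux (Q : QuadraticForm F V) {v v' a a' : V} (h : HypQuad Q v v' a a')
    (g g' : V ≃ₗ[F] V) (h1 : g v = g' v) (h2 : g v' = g' v') (h3 : g a = g' a) (h4 : g a' = g' a')
    (h5 : ∀ w : V, QuadraticMap.polar (⇑Q) w v = 0 → QuadraticMap.polar (⇑Q) w v' = 0 →
        QuadraticMap.polar (⇑Q) w a = 0 → QuadraticMap.polar (⇑Q) w a' = 0 → g w = g' w) :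
    g = g' := by
  apply LinearEquiv.ext
  intro x
  have svv : QuadraticMap.polar (⇑Q) v v = 0 := by
    rw [QuadraticMap.polar_self, h.qv, smul_zero]
  have sv'v' : QuadraticMap.polar (⇑Q) v' v' = 0 := by
    rw [QuadraticMap.polar_self, h.qv', smul_zero]
  have saa : QuadraticMap.polar (⇑Q) a a = 0 := by
    rw [QuadraticMap.polar_self, h.qa, smul_zero]
  have sa'a' : QuadraticMap.polar (⇑Q) a' a' = 0 := by
    rw [QuadraticMap.polar_self, h.qa', smul_zero]
  have cv'v : QuadraticMap.polar (⇑Q) v' v = 1 := by rw [QuadraticMap.polar_comm, h.vv']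
  have ca'a : QuadraticMap.polar (⇑Q) a' a = 1 := by rw [QuadraticMap.polar_comm, h.aa']
  have cav : QuadraticMap.polar (⇑Q) a v = 0 := by rw [QuadraticMap.polar_comm, h.va]
  have ca'v : QuadraticMap.polar (⇑Q) a' v = 0 := by rw [QuadraticMap.polar_comm, h.va']
  have cav' : QuadraticMap.polar (⇑Q) a v' = 0 := by rw [QuadraticMap.polar_comm, h.v'a]
  have ca'v' : QuadraticMap.polar (⇑Q) a' v' = 0 := by rw [QuadraticMap.polar_comm, h.v'a']
  set w : V := x - QuadraticMap.polar (⇑Q) x v' • v - QuadraticMap.polar (⇑Q) x v • v'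
    - QuadraticMap.polar (⇑Q) x a' • a - QuadraticMap.polar (⇑Q) x a • a' with hw
  have hx : x = w + QuadraticMap.polar (⇑Q) x v' • v + QuadraticMap.polar (⇑Q) x v • v'
      + QuadraticMap.polar (⇑Q) x a' • a + QuadraticMap.polar (⇑Q) x a • a' := by
    rw [hw]; abel
  have w1 : QuadraticMap.polar (⇑Q) w v = 0 := by
    rw [hw]
    simp only [QuadraticMap.polar_sub_left, QuadraticMap.polar_smul_left, smul_eq_mul, svv, cv'v, cav,
      ca'v]
    ring
  have w2 : QuadraticMap.polar (⇑Q) w v' = 0 := by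
    rw [hw]
    simp only [QuadraticMap.polar_sub_left, QuadraticMap.polar_smul_left, smul_eq_mul, sv'v', h.vv',
      cav', ca'v']
    ring
  have w3 : QuadraticMap.polar (⇑Q) w a = 0 := by
    rw [hw]
    simp only [QuadraticMap.polar_sub_left, QuadraticMap.polar_smul_left, smul_eq_mul, saa, ca'a, h.va,
      h.v'a]
    ring
  have w4 : QuadraticMap.polar (⇑Q) w a' = 0 := by
    rw [hw]
    simp only [QuadraticMap.polar_sub_left, QuadraticMap.polar_smul_left, smul_eq_mul, sa'a', h.aa',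
      h.va', h.v'a']
    ring
  rw [hx]
  simp only [map_add, map_smul, h1, h2, h3, h4, h5 w w1 w2 w3 w4]

theorem inv_apply_eq {g : V ≃ₗ[F] V} {x y : V} (hxy : g y = x) : g⁻¹ x = y := by
  rw [← hxy, ← LinearEquiv.mul_apply, inv_mul_cancel]
  rfl

theorem x_mem_oG (Q : QuadraticForm F V) {v v' a a' : V} (h : HypQuad Q v v' a a') (u : F) :
    E Q v (u • a') ∈ oG (⇑Q) :=
  E_mem_oG Q h.qv (by rw [QuadraticMap.polar_smul_right, h.va', smul_zero])

theorem y_mem_oG (Q : QuadraticForm F V) {v v' a a' : V} (h : HypQuad Q v v' a a') (u : F) :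
    E Q a (u • v') ∈ oG (⇑Q) :=
  E_mem_oG Q h.qa (by rw [QuadraticMap.polar_smul_right, QuadraticMap.polar_comm, h.v'a, smul_zero])

theorem nn_mem_oG (Q : QuadraticForm F V) {v v' a a' : V} (h : HypQuad Q v v' a a') (t : F) :
    nn Q v v' a a' t ∈ oG (⇑Q) := by
  unfold nn
  exact mul_mem (mul_mem (x_mem_oG Q h _) (y_mem_oG Q h _)) (x_mem_oG Q h _)

theorem dd_mem_oG (Q : QuadraticForm F V) {v v' a a' : V} (h : HypQuad Q v v' a a') (t : F) :
    dd Q v v' a a' t ∈ oG (⇑Q) := by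
  unfold dd
  exact mul_mem (nn_mem_oG Q h t) (inv_mem (nn_mem_oG Q h 1))

/-- the inverse of `n(1)` on the quadruple -/
theorem nn_one_inv_apply (Q : QuadraticForm F V) {v v' a a' : V} (h : HypQuad Q v v' a a') :
    (nn Q v v' a a' 1)⁻¹ v = a ∧ (nn Q v v' a a' 1)⁻¹ a = -v ∧
      (nn Q v v' a a' 1)⁻¹ v' = a' ∧ (nn Q v v' a a' 1)⁻¹ a' = -v' ∧
      ∀ w : V, QuadraticMap.polar (⇑Q) w v = 0 → QuadraticMap.polar (⇑Q) w v' = 0 →
        QuadraticMap.polar (⇑Q) w a = 0 → QuadraticMap.polar (⇑Q) w a' = 0 →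
        (nn Q v v' a a' 1)⁻¹ w = w := by
  obtain ⟨h1, h2, h3, h4, h5⟩ := nn_apply Q h 1 one_ne_zero
  rw [inv_one, one_smul] at h1 h4
  rw [one_smul] at h2 h3
  refine ⟨inv_apply_eq h2, inv_apply_eq ?_, inv_apply_eq h4, inv_apply_eq ?_, ?_⟩
  · rw [map_neg, h1, neg_neg]
  · rw [map_neg, h3, neg_neg]
  · intro w w1 w2 w3 w4
    exact inv_apply_eq (h5 w w1 w2 w3 w4)

theorem dd_apply (Q : QuadraticForm F V) {v v' a a' : V} (h : HypQuad Q v v' a a') (t : F)
    (ht : t ≠ 0) :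
    dd Q v v' a a' t v = t • v ∧ dd Q v v' a a' t a = t⁻¹ • a ∧
      dd Q v v' a a' t v' = t⁻¹ • v' ∧ dd Q v v' a a' t a' = t • a' ∧
      ∀ w : V, QuadraticMap.polar (⇑Q) w v = 0 → QuadraticMap.polar (⇑Q) w v' = 0 →
        QuadraticMap.polar (⇑Q) w a = 0 → QuadraticMap.polar (⇑Q) w a' = 0 →
        dd Q v v' a a' t w = w := by
  obtain ⟨h1, h2, h3, h4, h5⟩ := nn_apply Q h t ht
  obtain ⟨k1, k2, k3, k4, k5⟩ := nn_one_inv_apply Q h
  unfold dd
  refine ⟨?_, ?_, ?_, ?_, ?_⟩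
  · rw [LinearEquiv.mul_apply, k1, h2]
  · rw [LinearEquiv.mul_apply, k2, map_neg, h1, neg_neg]
  · rw [LinearEquiv.mul_apply, k3, h4]
  · rw [LinearEquiv.mul_apply, k4, map_neg, h3, neg_neg]
  · intro w w1 w2 w3 w4
    rw [LinearEquiv.mul_apply, k5 w w1 w2 w3 w4, h5 w w1 w2 w3 w4]

theorem grel (Q : QuadraticForm F V) {v v' a a' : V} (h : HypQuad Q v v' a a') :
    (∀ t t' : F, t ≠ 0 → t' ≠ 0 →
      dd Q v v' a a' (t * t') = dd Q v v' a a' t * dd Q v v' a a' t') ∧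
    dd Q v v' a a' 1 = 1 ∧
    (∀ t u : F, t ≠ 0 →
      dd Q v v' a a' t * E Q v (u • a') = E Q v ((t ^ 2 * u) • a') * dd Q v v' a a' t) ∧
    (∀ t : F, t ≠ 0 → dd Q v v' a a' t * nn Q v v' a a' 1 * dd Q v v' a a' t = nn Q v v' a a' 1) ∧
    nn Q v v' a a' 1 * nn Q v v' a a' 1 = dd Q v v' a a' (-1) ∧
    (∀ u : F, u ≠ 0 → E Q v (u • a') * nn Q v v' a a' 1 =
      nn Q v v' a a' 1 * E Q v ((-u⁻¹) • a') * dd Q v v' a a' (-u⁻¹) * nn Q v v' a a' 1 *
        E Q v ((-u⁻¹) • a')) := by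
  obtain ⟨n1, n2, n3, n4, n5⟩ := nn_apply Q h 1 one_ne_zero
  rw [inv_one, one_smul] at n1 n4
  rw [one_smul] at n2 n3
  refine ⟨?_, ?_, ?_, ?_, ?_, ?_⟩
  · -- multiplicativity of `d`
    intro t t' ht ht'
    obtain ⟨p1, p2, p3, p4, p5⟩ := dd_apply Q h (t * t') (mul_ne_zero ht ht')
    obtain ⟨q1, q2, q3, q4, q5⟩ := dd_apply Q h t ht
    obtain ⟨r1, r2, r3, r4, r5⟩ := dd_apply Q h t' ht'
    apply ext_quad_aux Q h
    · rw [LinearEquiv.mul_apply, p1, r1, map_smul, q1, smul_smul, mul_comm]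
    · rw [LinearEquiv.mul_apply, p3, r3, map_smul, q3, smul_smul, mul_inv, mul_comm]
    · rw [LinearEquiv.mul_apply, p2, r2, map_smul, q2, smul_smul, mul_inv, mul_comm]
    · rw [LinearEquiv.mul_apply, p4, r4, map_smul, q4, smul_smul, mul_comm]
    · intro w w1 w2 w3 w4
      rw [LinearEquiv.mul_apply, p5 w w1 w2 w3 w4, r5 w w1 w2 w3 w4, q5 w w1 w2 w3 w4]
  · unfold dd
    rw [mul_inv_cancel]
  · -- `d(t) x(u) d(t)⁻¹ = x(t² u)`
    intro t u ht
    obtain ⟨q1, q2, q3, q4, q5⟩ := dd_apply Q h t ht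
    have hz : QuadraticMap.polar (⇑Q) v (u • a') = 0 := by
      rw [QuadraticMap.polar_smul_right, h.va', smul_zero]
    have hc := conj_E Q (dd_mem_oG Q h t) h.qv hz
    rw [q1, map_smul, q4] at hc
    have hz2 : QuadraticMap.polar (⇑Q) v (u • t • a') = 0 := by
      rw [QuadraticMap.polar_smul_right, QuadraticMap.polar_smul_right, h.va', smul_zero, smul_zero]
    rw [E_smul_left Q h.qv hz2 t, smul_smul, smul_smul] at hc
    have he : t * u * t = t ^ 2 * u := by ring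
    rw [he] at hc
    rw [← hc, inv_mul_cancel_right]
  · -- `d(t) s d(t) = s`
    intro t ht
    obtain ⟨q1, q2, q3, q4, q5⟩ := dd_apply Q h t ht
    apply ext_quad_aux Q h
    · rw [LinearEquiv.mul_apply, LinearEquiv.mul_apply, q1, map_smul, n1, smul_neg, map_neg,
        map_smul, q2, smul_smul, mul_inv_cancel₀ ht, one_smul]
    · rw [LinearEquiv.mul_apply, LinearEquiv.mul_apply, q3, map_smul, n3, smul_neg, map_neg,
        map_smul, q4, smul_smul, inv_mul_cancel₀ ht, one_smul]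
    · rw [LinearEquiv.mul_apply, LinearEquiv.mul_apply, q2, map_smul, n2, map_smul, q1, smul_smul,
        inv_mul_cancel₀ ht, one_smul]
    · rw [LinearEquiv.mul_apply, LinearEquiv.mul_apply, q4, map_smul, n4, map_smul, q3, smul_smul,
        mul_inv_cancel₀ ht, one_smul]
    · intro w w1 w2 w3 w4
      rw [LinearEquiv.mul_apply, LinearEquiv.mul_apply, q5 w w1 w2 w3 w4, n5 w w1 w2 w3 w4,
        q5 w w1 w2 w3 w4]
  · -- `s² = d(-1)`
    obtain ⟨q1, q2, q3, q4, q5⟩ := dd_apply Q h (-1) (neg_ne_zero.mpr one_ne_zero)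
    rw [inv_neg, inv_one, neg_one_smul] at q2 q3
    rw [neg_one_smul] at q1 q4
    apply ext_quad_aux Q h
    · rw [LinearEquiv.mul_apply, n1, map_neg, n2, q1]
    · rw [LinearEquiv.mul_apply, n3, map_neg, n4, q3]
    · rw [LinearEquiv.mul_apply, n2, n1, q2]
    · rw [LinearEquiv.mul_apply, n4, n3, q4]
    · intro w w1 w2 w3 w4
      rw [LinearEquiv.mul_apply, n5 w w1 w2 w3 w4, n5 w w1 w2 w3 w4, q5 w w1 w2 w3 w4]
  · -- Bruhat
    intro u hu
    obtain ⟨k1, k2, k3, k4, k5⟩ := nn_one_inv_apply Q h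
    set c : F := -u⁻¹ with hcdef
    have hc0 : c ≠ 0 := neg_ne_zero.mpr (inv_ne_zero hu)
    have hz : QuadraticMap.polar (⇑Q) v (u • a') = 0 := by
      rw [QuadraticMap.polar_smul_right, h.va', smul_zero]
    -- `s⁻¹ x(u) s = y(-u)`
    have hconj := conj_E Q (inv_mem (nn_mem_oG Q h 1)) h.qv hz
    rw [inv_inv, k1, map_smul, k4] at hconj
    -- `y(1/c) = x(c) n(c) x(c)`
    have hzc : QuadraticMap.polar (⇑Q) v ((-c) • a') = 0 := by
      rw [QuadraticMap.polar_smul_right, h.va', smul_zero]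
    have hxinv : (E Q v ((-c) • a'))⁻¹ = E Q v (c • a') := by
      rw [E_inv Q h.qv hzc, neg_smul, neg_neg]
    have hy : E Q a (c⁻¹ • v') = E Q v (c • a') * nn Q v v' a a' c * E Q v (c • a') := by
      unfold nn
      rw [← hxinv]
      group
    have hcinv : c⁻¹ = -u := by rw [hcdef, inv_neg, inv_inv]
    have hnd : nn Q v v' a a' c = dd Q v v' a a' c * nn Q v v' a a' 1 := by
      unfold dd
      rw [inv_mul_cancel_right]
    rw [hcinv, neg_smul, ← smul_neg] at hy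
    rw [hy, hnd] at hconj
    -- conclude
    calc E Q v (u • a') * nn Q v v' a a' 1
        = nn Q v v' a a' 1 * ((nn Q v v' a a' 1)⁻¹ * E Q v (u • a') * nn Q v v' a a' 1) := by group
      _ = _ := by rw [hconj]; simp only [mul_assoc]

end Cfsg.Agent.Lib.Helper52_OO_K_GREL
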