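import Mathlib
import Cfsg.Agent.Lib.Helper95_OPDefs
import Cfsg.Agent.Lib.Helper95_OPBasic

/-!
# S2346 (architect helper30), package OMB-OPP

A vector fixed by the two opposite radicals `{E(v,w)}`, `{E(v',w)}` of `T Q` is `0`
(in an irreducible representation of degree at least two).
-/

set_option autoImplicit false
set_option linter.unusedSectionVars false
set_option linter.unusedVariables false

namespace Cfsg.Agent.Lib.Helper8_OM_OPP

open Module Cfsg.Agent.Lib.Helper94_OrthSmall Cfsg.Agent.Lib.Helper44_QuadClass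
  Cfsg.Agent.Lib.Helper14_OmegaSimple Cfsg.Agent.Lib.Helper38_MIODefs
  Cfsg.Agent.Lib.Helper95_OPDefs Cfsg.Agent.Lib.Helper95_OPBasic

variable {F V : Type*} [Field F] [Fintype F] [AddCommGroup V] [Module F V] [FiniteDimensional F V]
  {X : Type*} [AddCommGroup X] [Module ℂ X] [FiniteDimensional ℂ X]

/-- the elements of `T Q` fixing `x` (through `repE`) -/
def fixer (Q : QuadraticForm F V) (ρ : Representation ℂ ↥(T Q) X) (x : X) :
    Subgroup (V ≃ₗ[F] V) where
  carrier := {g | g ∈ T Q ∧ repE Q ρ g x = x}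
  mul_mem' := by
    rintro g h ⟨hg, hgx⟩ ⟨hh, hhx⟩
    refine ⟨Subgroup.mul_mem _ hg hh, ?_⟩
    rw [repE_mul Q ρ hg hh, Module.End.mul_apply, hhx, hgx]
  one_mem' := ⟨Subgroup.one_mem _, by rw [repE_one]; rfl⟩
  inv_mem' := by
    rintro g ⟨hg, hgx⟩
    have hgi : g⁻¹ ∈ T Q := Subgroup.inv_mem _ hg
    refine ⟨hgi, ?_⟩
    have h2 : repE Q ρ g⁻¹ * repE Q ρ g = 1 := by
      rw [← repE_mul Q ρ hgi hg, inv_mul_cancel, repE_one]
    calc repE Q ρ g⁻¹ x = repE Q ρ g⁻¹ (repE Q ρ g x) := by rw [hgx]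
      _ = (repE Q ρ g⁻¹ * repE Q ρ g) x := rfl
      _ = x := by rw [h2]; rfl

/-! ## OMB-OPP (M) -/
theorem wsp_zero_inf_opp (Q : QuadraticForm F V) (hQ : (QuadraticMap.polarBilin Q).Nondegenerate)
    (hdim : 5 ≤ finrank F V) {v v' : V} (hv : Q v = 0) (hv' : Q v' = 0)
    (hvv' : QuadraticMap.polar (⇑Q) v v' = 1)
    (hgen : T Q ≤ Subgroup.closure ({g : V ≃ₗ[F] V | ∃ w : ↥(perp Q v v'), g = E Q v (w : V)} ∪
      {g : V ≃ₗ[F] V | ∃ w : ↥(perp Q v v'), g = E Q v' (w : V)}))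
    (ρ : Representation ℂ ↥(T Q) X) (hirr : ρ.IsIrreducible) (h2 : 2 ≤ finrank ℂ X)
    (ψ : AddChar F ℂ) (x : X) (hx : x ∈ wsp Q ρ ψ v v' 0) (hx' : x ∈ wsp Q ρ ψ v' v 0) : x = 0 := by
  have hle : Subgroup.closure ({g : V ≃ₗ[F] V | ∃ w : ↥(perp Q v v'), g = E Q v (w : V)} ∪
      {g : V ≃ₗ[F] V | ∃ w : ↥(perp Q v v'), g = E Q v' (w : V)}) ≤ fixer Q ρ x := by
    rw [Subgroup.closure_le]
    rintro g (⟨w, rfl⟩ | ⟨w, rfl⟩)
    · refine ⟨rad_mem Q hQ hdim hv w, ?_⟩
      have h1 := hx w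
      have h0 : QuadraticMap.polar (⇑Q) (((0 : ↥(perp Q v v')) : V)) (w : V) = 0 := by
        simp [QuadraticMap.polar]
      rw [h0, AddChar.map_zero_eq_one, one_smul] at h1
      exact h1
    · have hw' : (w : V) ∈ perp Q v' v := by
        have := (mem_perp Q v v').mp w.2
        exact (mem_perp Q v' v).mpr ⟨this.2, this.1⟩
      refine ⟨rad_mem Q hQ hdim hv' (⟨(w : V), hw'⟩ : ↥(perp Q v' v)), ?_⟩
      have h1 := hx' ⟨(w : V), hw'⟩
      have h0 : QuadraticMap.polar (⇑Q) (((0 : ↥(perp Q v' v)) : V)) (w : V) = 0 := by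
        simp [QuadraticMap.polar]
      rw [h0, AddChar.map_zero_eq_one, one_smul] at h1
      exact h1
  have hall : ∀ g : ↥(T Q), ρ g x = x := by
    intro g
    have h1 := hle (hgen g.2)
    have h3 := h1.2
    rw [repE_coe] at h3
    exact h3
  by_contra hx0
  let τ : Subrepresentation ρ :=
    ⟨Submodule.span ℂ {x}, fun g y hy => by
      obtain ⟨c, rfl⟩ := Submodule.mem_span_singleton.mp hy
      rw [map_smul, hall g]
      exact Submodule.smul_mem _ _ (Submodule.mem_span_singleton_self _)⟩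
  rcases hirr.eq_bot_or_eq_top τ with h | h
  · have h1 : x ∈ τ.toSubmodule := Submodule.mem_span_singleton_self _
    rw [h] at h1
    exact hx0 ((Submodule.mem_bot ℂ).mp h1)
  · have h1 : τ.toSubmodule = ⊤ := by
      rw [h]
      rfl
    have h4 : Module.finrank ℂ (Submodule.span ℂ {x}) = Module.finrank ℂ X := by
      have h5 : Submodule.span ℂ {x} = ⊤ := h1
      rw [h5, finrank_top]
    rw [finrank_span_singleton hx0] at h4
    omega

end Cfsg.Agent.Lib.Helper8_OM_OPP
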