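import Mathlib
import Cfsg.Agent.Lib.Helper95_OPDefs
import Cfsg.Agent.Lib.Helper95_OPBasic

/-!
# S2346 package OMB-GEN (architect helper30)

The two opposite radicals `{E Q v w}` and `{E Q v' w}` (`w ∈ W = perp Q v v'`) generate `T Q`.
-/

set_option autoImplicit false

namespace Cfsg.Agent.Lib.Helper95_OM_GEN

open Module Cfsg.Agent.Lib.Helper94_OrthSmall Cfsg.Agent.Lib.Helper44_QuadClass
  Cfsg.Agent.Lib.Helper14_OmegaSimple Cfsg.Agent.Lib.Helper38_MIODefs
  Cfsg.Agent.Lib.Helper95_OPDefs Cfsg.Agent.Lib.Helper95_OPBasic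

variable {F V : Type*} [Field F] [Fintype F] [AddCommGroup V] [Module F V] [FiniteDimensional F V]

omit [Fintype F] [FiniteDimensional F V] in
/-- A singular `x` with `B(x,a') = α ≠ 0` is `α • E(a',w) a` for some `w ⊥ a, a'`. -/
theorem exists_rad_apply (Q : QuadraticForm F V) {a a' : V} (ha : Q a = 0) (ha' : Q a' = 0)
    (haa' : QuadraticMap.polar (⇑Q) a a' = 1) {x : V} (hx : Q x = 0)
    (hα : QuadraticMap.polar (⇑Q) x a' ≠ 0) :
    ∃ w : V, QuadraticMap.polar (⇑Q) a w = 0 ∧ QuadraticMap.polar (⇑Q) a' w = 0 ∧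
      x = (QuadraticMap.polar (⇑Q) x a') • E Q a' w a := by
  obtain ⟨α, hαdef⟩ : ∃ α : F, α = QuadraticMap.polar (⇑Q) x a' := ⟨_, rfl⟩
  rw [← hαdef] at hα ⊢
  obtain ⟨x', hx'⟩ : ∃ x' : V, x' = α⁻¹ • x := ⟨_, rfl⟩
  obtain ⟨β, hβ⟩ : ∃ β : F, β = QuadraticMap.polar (⇑Q) x' a := ⟨_, rfl⟩
  have ha'a : QuadraticMap.polar (⇑Q) a' a = 1 := by rw [QuadraticMap.polar_comm, haa']
  have hx'a' : QuadraticMap.polar (⇑Q) x' a' = 1 := by
    rw [hx', QuadraticMap.polar_smul_left, smul_eq_mul, ← hαdef, inv_mul_cancel₀ hα]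
  have hQx' : Q x' = 0 := by
    rw [hx', QuadraticMap.map_smul, hx, smul_zero]
  obtain ⟨w, hw⟩ : ∃ w : V, w = x' - a - β • a' := ⟨_, rfl⟩
  have haw : QuadraticMap.polar (⇑Q) a w = 0 := by
    rw [hw, QuadraticMap.polar_sub_right, QuadraticMap.polar_sub_right,
      QuadraticMap.polar_smul_right, polar_self', ha, haa', QuadraticMap.polar_comm (⇑Q) a x', ← hβ]
    simp
  have ha'w : QuadraticMap.polar (⇑Q) a' w = 0 := by
    rw [hw, QuadraticMap.polar_sub_right, QuadraticMap.polar_sub_right,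
      QuadraticMap.polar_smul_right, polar_self', ha', ha'a, QuadraticMap.polar_comm (⇑Q) a' x',
      hx'a']
    simp
  have hQw : Q w = -β := by
    have h1 : x' = w + (a + β • a') := by rw [hw]; abel
    have h2 : Q (a + β • a') = β := by
      rw [hQp, QuadraticMap.map_smul, ha, ha', QuadraticMap.polarBilin_apply_apply,
        QuadraticMap.polar_smul_right, haa']
      simp
    have h3 : QuadraticMap.polar (⇑Q) w (a + β • a') = 0 := by
      rw [QuadraticMap.polar_add_right, QuadraticMap.polar_smul_right,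
        QuadraticMap.polar_comm (⇑Q) w a, QuadraticMap.polar_comm (⇑Q) w a', haw, ha'w]
      simp
    have h4 : Q x' = Q w + Q (a + β • a') + QuadraticMap.polar (⇑Q) w (a + β • a') := by
      conv_lhs => rw [h1]
      rw [hQp, QuadraticMap.polarBilin_apply_apply]
    rw [hQx', h2, h3] at h4
    linear_combination -h4
  refine ⟨w, haw, ha'w, ?_⟩
  have hE : E Q a' w a = x' := by
    rw [E_apply Q ha' ha'w, haa', haw, hQw, hw]
    simp only [one_smul, zero_smul, sub_zero, mul_one, neg_smul]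
    abel
  rw [hE, hx', smul_smul, mul_inv_cancel₀ hα, one_smul]

omit [Fintype F] [FiniteDimensional F V] in
/-- `B(E(v,w₁) x, v') = B(x,v') - B(x,w₁) - Q(w₁) B(x,v)` for `w₁ ⊥ v, v'`. -/
theorem polar_E_apply (Q : QuadraticForm F V) {v v' : V} (hv : Q v = 0)
    (hvv' : QuadraticMap.polar (⇑Q) v v' = 1) {w₁ : V}
    (hvw : QuadraticMap.polar (⇑Q) v w₁ = 0) (hv'w : QuadraticMap.polar (⇑Q) v' w₁ = 0) (x : V) :
    QuadraticMap.polar (⇑Q) (E Q v w₁ x) v' = QuadraticMap.polar (⇑Q) x v' -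
      QuadraticMap.polar (⇑Q) x w₁ - Q w₁ * QuadraticMap.polar (⇑Q) x v := by
  rw [E_apply Q hv hvw, QuadraticMap.polar_sub_left, QuadraticMap.polar_sub_left,
    QuadraticMap.polar_add_left, QuadraticMap.polar_smul_left, QuadraticMap.polar_smul_left,
    QuadraticMap.polar_smul_left, hvv', QuadraticMap.polar_comm (⇑Q) w₁ v', hv'w]
  simp

/-! ## OMB-GEN (M/L) -/
theorem T_le_closure_rad_opp (Q : QuadraticForm F V) (hQ : (QuadraticMap.polarBilin Q).Nondegenerate)
    (hdim : 5 ≤ finrank F V) {v v' : V} (hv : Q v = 0) (hv' : Q v' = 0)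
    (hvv' : QuadraticMap.polar (⇑Q) v v' = 1) :
    T Q ≤ Subgroup.closure ({g : V ≃ₗ[F] V | ∃ w : ↥(perp Q v v'), g = E Q v (w : V)} ∪
      {g : V ≃ₗ[F] V | ∃ w : ↥(perp Q v v'), g = E Q v' (w : V)}) := by
  set H := Subgroup.closure ({g : V ≃ₗ[F] V | ∃ w : ↥(perp Q v v'), g = E Q v (w : V)} ∪
      {g : V ≃ₗ[F] V | ∃ w : ↥(perp Q v v'), g = E Q v' (w : V)}) with hH
  have hv'v : QuadraticMap.polar (⇑Q) v' v = 1 := by rw [QuadraticMap.polar_comm, hvv']
  have hHO : H ≤ oG (⇑Q) := by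
    rw [hH, Subgroup.closure_le]
    rintro g (⟨w, rfl⟩ | ⟨w, rfl⟩)
    · exact E_mem_oG Q hv ((mem_perp Q v v').1 w.2).1
    · exact E_mem_oG Q hv' ((mem_perp Q v v').1 w.2).2
  have hrad : ∀ w : V, QuadraticMap.polar (⇑Q) v w = 0 → QuadraticMap.polar (⇑Q) v' w = 0 →
      E Q v w ∈ H ∧ E Q v' w ∈ H := by
    intro w h1 h2
    have hw : w ∈ perp Q v v' := (mem_perp Q v v').2 ⟨h1, h2⟩
    exact ⟨Subgroup.subset_closure (Or.inl ⟨⟨w, hw⟩, rfl⟩),
      Subgroup.subset_closure (Or.inr ⟨⟨w, hw⟩, rfl⟩)⟩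
  have hdW : 3 ≤ finrank F ↥(perp Q v v') := by
    have := finrank_perp hv hv' hvv'
    omega
  have hndW := nondegenerate_perp hQ hv hv' hvv'
  -- step (ii'): move a singular vector off `v'^⊥`
  have hmove : ∀ x : V, x ≠ 0 → Q x = 0 → ∃ h ∈ H, QuadraticMap.polar (⇑Q) (h x) v' ≠ 0 := by
    intro x hx0 hQx
    by_cases h1 : QuadraticMap.polar (⇑Q) x v' = 0
    swap
    · exact ⟨1, Subgroup.one_mem _, h1⟩
    obtain ⟨β, hβ⟩ : ∃ β : F, β = QuadraticMap.polar (⇑Q) x v := ⟨_, rfl⟩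
    obtain ⟨w, hw⟩ : ∃ w : V, w = x - β • v' := ⟨_, rfl⟩
    have hvw : QuadraticMap.polar (⇑Q) v w = 0 := by
      rw [hw, QuadraticMap.polar_sub_right, QuadraticMap.polar_smul_right, hvv',
        QuadraticMap.polar_comm (⇑Q) v x, ← hβ]
      simp
    have hv'w : QuadraticMap.polar (⇑Q) v' w = 0 := by
      rw [hw, QuadraticMap.polar_sub_right, QuadraticMap.polar_smul_right, polar_self', hv',
        QuadraticMap.polar_comm (⇑Q) v' x, h1]
      simp
    have hQw : Q w = 0 := by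
      rw [hw, Cfsg.Agent.Lib.Helper14_OmegaSimple.map_sub', hQx, QuadraticMap.map_smul, hv', QuadraticMap.polar_smul_right, h1]
      simp
    have hwW : w ∈ perp Q v v' := (mem_perp Q v v').2 ⟨hvw, hv'w⟩
    by_cases hw0 : w = 0
    · -- `x = β • v'`
      have hxβ : x = β • v' := by
        have : x - β • v' = 0 := by rw [← hw]; exact hw0
        exact sub_eq_zero.mp this
      have hβ0 : β ≠ 0 := by
        intro h
        apply hx0
        rw [hxβ, h, zero_smul]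
      -- a non-singular vector of `W`
      obtain ⟨s, hs0, hQs⟩ := exists_singular (Qp Q v v') hdW
      obtain ⟨s', hQs', hss'⟩ := exists_hyperbolic_partner (Qp Q v v') hndW hs0 hQs
      obtain ⟨w₁, hw₁⟩ : ∃ w₁ : ↥(perp Q v v'), w₁ = s + s' := ⟨_, rfl⟩
      have hQw₁ : Q (w₁ : V) = 1 := by
        have h2 : Qp Q v v' w₁ = 1 := by
          rw [hw₁, hQp, hQs, hQs', QuadraticMap.polarBilin_apply_apply, hss']
          simp
        exact h2
      have hvw₁ := ((mem_perp Q v v').1 w₁.2).1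
      have hv'w₁ := ((mem_perp Q v v').1 w₁.2).2
      refine ⟨E Q v (w₁ : V), (hrad _ hvw₁ hv'w₁).1, ?_⟩
      rw [polar_E_apply Q hv hvv' hvw₁ hv'w₁, h1, hQw₁, ← hβ]
      have h3 : QuadraticMap.polar (⇑Q) x (w₁ : V) = 0 := by
        rw [hxβ, QuadraticMap.polar_smul_left, hv'w₁]
        simp
      rw [h3]
      simpa using hβ0
    · -- `w ≠ 0` singular in `W`: take a singular partner
      have hw0' : (⟨w, hwW⟩ : ↥(perp Q v v')) ≠ 0 := by
        intro h
        apply hw0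
        exact congrArg Subtype.val h
      have hQw' : Qp Q v v' ⟨w, hwW⟩ = 0 := hQw
      obtain ⟨s', hQs', hss'⟩ := exists_hyperbolic_partner (Qp Q v v') hndW hw0' hQw'
      have hss'V : QuadraticMap.polar (⇑Q) w (s' : V) = 1 := by
        have := polar_comp_subtype Q (perp Q v v') ⟨w, hwW⟩ s'
        rw [← this]
        exact hss'
      have hQs'V : Q (s' : V) = 0 := hQs'
      have hvs' := ((mem_perp Q v v').1 s'.2).1
      have hv's' := ((mem_perp Q v v').1 s'.2).2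
      refine ⟨E Q v (s' : V), (hrad _ hvs' hv's').1, ?_⟩
      rw [polar_E_apply Q hv hvv' hvs' hv's', h1, hQs'V]
      have h3 : QuadraticMap.polar (⇑Q) x (s' : V) = 1 := by
        have hx : x = w + β • v' := by rw [hw]; abel
        rw [hx, QuadraticMap.polar_add_left, QuadraticMap.polar_smul_left, hss'V, hv's']
        simp
      rw [h3]
      simp
  -- step (ii): every non-zero singular vector is `c • h v`, `h ∈ H`
  have horbit : ∀ x : V, x ≠ 0 → Q x = 0 → ∃ h ∈ H, ∃ c : F, c ≠ 0 ∧ x = c • h v := by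
    intro x hx0 hQx
    obtain ⟨h, hhH, hne⟩ := hmove x hx0 hQx
    have hhO := hHO hhH
    have hQhx : Q (h x) = 0 := by
      have := hhO x
      rw [this, hQx]
    obtain ⟨w, hvw, hv'w, hxw⟩ := exists_rad_apply Q hv hv' hvv' hQhx hne
    refine ⟨h⁻¹ * E Q v' w, Subgroup.mul_mem _ (Subgroup.inv_mem _ hhH) (hrad w hvw hv'w).2,
      QuadraticMap.polar (⇑Q) (h x) v', hne, ?_⟩
    have h5 : x = h⁻¹ (h x) := (h.symm_apply_apply x).symm
    conv_lhs => rw [h5, hxw]
    rw [map_smul]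
    rfl
  -- step (iii)
  rw [T, Subgroup.closure_le]
  rintro g ⟨y, s, hy, hs, hys, rfl⟩
  by_cases hy0 : y = 0
  · rw [hy0, E_zero_left]
    exact Subgroup.one_mem _
  obtain ⟨h, hhH, c, hc0, hyc⟩ := horbit y hy0 hy
  have hhO := hHO hhH
  have hQhv : Q (h v) = 0 := by
    have := hhO v
    rw [this, hv]
  have hhvs : QuadraticMap.polar (⇑Q) (h v) s = 0 := by
    have h1 : QuadraticMap.polar (⇑Q) y s = c * QuadraticMap.polar (⇑Q) (h v) s := by
      rw [hyc, QuadraticMap.polar_smul_left, smul_eq_mul]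
    rw [hys] at h1
    exact (mul_eq_zero.mp h1.symm).resolve_left hc0
  obtain ⟨z, hz⟩ : ∃ z : V, z = h⁻¹ (c • s) := ⟨_, rfl⟩
  have hhz : h z = c • s := by rw [hz]; exact h.apply_symm_apply _
  have hvz : QuadraticMap.polar (⇑Q) v z = 0 := by
    rw [← oG_polar Q hhO v z, hhz, QuadraticMap.polar_smul_right, hhvs, smul_zero]
  have h1 : E Q y s = h * E Q v z * h⁻¹ := by
    rw [conj_E Q hhO hv hvz, hhz, hyc, E_smul_left Q hQhv hhvs]
  rw [h1]
  -- `z = z_W + α v`
  obtain ⟨α, hα⟩ : ∃ α : F, α = QuadraticMap.polar (⇑Q) z v' := ⟨_, rfl⟩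
  obtain ⟨zW, hzW⟩ : ∃ zW : V, zW = z - α • v := ⟨_, rfl⟩
  have hvzW : QuadraticMap.polar (⇑Q) v zW = 0 := by
    rw [hzW, QuadraticMap.polar_sub_right, QuadraticMap.polar_smul_right, polar_self', hv, hvz]
    simp
  have hv'zW : QuadraticMap.polar (⇑Q) v' zW = 0 := by
    rw [hzW, QuadraticMap.polar_sub_right, QuadraticMap.polar_smul_right, hv'v,
      QuadraticMap.polar_comm (⇑Q) v' z, ← hα]
    simp
  have h2 : E Q v z = E Q v zW := by
    have h3 : z = zW + α • v := by rw [hzW]; abel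
    conv_lhs => rw [h3]
    exact E_add_smul Q hv hvzW α
  rw [h2]
  exact Subgroup.mul_mem _ (Subgroup.mul_mem _ hhH (hrad zW hvzW hv'zW).1) (Subgroup.inv_mem _ hhH)

end Cfsg.Agent.Lib.Helper95_OM_GEN
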