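/-
S2344 kill section (architect helper64), package OO-K-SL2REL, auxiliary form (proof helper63):
`nn_mem_T` (verbatim) and `sl2rel_aux` = `sl2rel` with the statement of OO-K-GREL (`grel`) as a hypothesis.
-/
import Mathlib
import Cfsg.Agent.Lib.Helper64_OOKDefs
import Cfsg.Agent.Lib.Helper8_OM_OPP
import Cfsg.Agent.Lib.Helper95_OM_GEN
import Cfsg.Agent.Lib.Helper17_MIO_TR

set_option autoImplicit false
set_option linter.unusedSectionVars false

namespace Cfsg.Agent.Lib.Helper63_OO_K_SL2RELaux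

open Module Cfsg.Agent.Lib.Helper94_OrthSmall Cfsg.Agent.Lib.Helper44_QuadClass
  Cfsg.Agent.Lib.Helper14_OmegaSimple Cfsg.Agent.Lib.Helper38_MIODefs
  Cfsg.Agent.Lib.Helper95_OPDefs Cfsg.Agent.Lib.Helper95_OPBasic Cfsg.Agent.Lib.Helper48_OODefs
  Cfsg.Agent.Lib.Helper64_OOKDefs

variable {F V : Type*} [Field F] [Fintype F] [AddCommGroup V] [Module F V] [FiniteDimensional F V]
  {X : Type*} [AddCommGroup X] [Module ℂ X]

theorem polar_v_smul (Q : QuadraticForm F V) {v v' a a' : V} (h : HypQuad Q v v' a a') (c : F) :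
    QuadraticMap.polar (⇑Q) v (c • a') = 0 := by
  rw [QuadraticMap.polar_smul_right, h.va', smul_zero]

theorem polar_a_smul (Q : QuadraticForm F V) {v v' a a' : V} (h : HypQuad Q v v' a a') (c : F) :
    QuadraticMap.polar (⇑Q) a (c • v') = 0 := by
  rw [QuadraticMap.polar_smul_right, QuadraticMap.polar_comm, h.v'a, smul_zero]

theorem x_mem_T (Q : QuadraticForm F V) (hQ : (QuadraticMap.polarBilin Q).Nondegenerate)
    (hdim : 5 ≤ finrank F V) {v v' a a' : V} (h : HypQuad Q v v' a a') (c : F) :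
    E Q v (c • a') ∈ T Q :=
  E_mem_T Q hQ hdim h.qv (polar_v_smul Q h c)

theorem y_mem_T (Q : QuadraticForm F V) (hQ : (QuadraticMap.polarBilin Q).Nondegenerate)
    (hdim : 5 ≤ finrank F V) {v v' a a' : V} (h : HypQuad Q v v' a a') (c : F) :
    E Q a (c • v') ∈ T Q :=
  E_mem_T Q hQ hdim h.qa (polar_a_smul Q h c)

theorem nn_mem_T (Q : QuadraticForm F V) (hQ : (QuadraticMap.polarBilin Q).Nondegenerate)
    (hdim : 5 ≤ finrank F V) {v v' a a' : V} (h : HypQuad Q v v' a a') (t : F) :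
    nn Q v v' a a' t ∈ T Q ∧ dd Q v v' a a' t ∈ T Q := by
  have hn : ∀ s : F, nn Q v v' a a' s ∈ T Q := by
    intro s
    unfold nn
    exact (T Q).mul_mem ((T Q).mul_mem (x_mem_T Q hQ hdim h _) (y_mem_T Q hQ hdim h _))
      (x_mem_T Q hQ hdim h _)
  refine ⟨hn t, ?_⟩
  unfold dd
  exact (T Q).mul_mem (hn t) ((T Q).inv_mem (hn 1))

/-- `sl2rel` with the group relations (`grel`, OO-K-GREL) as a hypothesis -/
theorem sl2rel_aux (Q : QuadraticForm F V) (hQ : (QuadraticMap.polarBilin Q).Nondegenerate)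
    (hdim : 5 ≤ finrank F V) {v v' a a' : V} (h : HypQuad Q v v' a a')
    (hgrel : (∀ t t' : F, t ≠ 0 → t' ≠ 0 →
      dd Q v v' a a' (t * t') = dd Q v v' a a' t * dd Q v v' a a' t') ∧
    dd Q v v' a a' 1 = 1 ∧
    (∀ t u : F, t ≠ 0 →
      dd Q v v' a a' t * E Q v (u • a') = E Q v ((t ^ 2 * u) • a') * dd Q v v' a a' t) ∧
    (∀ t : F, t ≠ 0 → dd Q v v' a a' t * nn Q v v' a a' 1 * dd Q v v' a a' t = nn Q v v' a a' 1) ∧
    nn Q v v' a a' 1 * nn Q v v' a a' 1 = dd Q v v' a a' (-1) ∧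
    (∀ u : F, u ≠ 0 → E Q v (u • a') * nn Q v v' a a' 1 =
      nn Q v v' a a' 1 * E Q v ((-u⁻¹) • a') * dd Q v v' a a' (-u⁻¹) * nn Q v v' a a' 1 *
        E Q v ((-u⁻¹) • a')))
    (ρ : Representation ℂ ↥(T Q) X) :
    SL2Rel (opX Q ρ v a') (opS Q ρ v v' a a') (opD Q ρ v v' a a') := by
  obtain ⟨g1, g2, g3, g4, g5, g6⟩ := hgrel
  have hx : ∀ c : F, E Q v (c • a') ∈ T Q := x_mem_T Q hQ hdim h
  have hn : ∀ s : F, nn Q v v' a a' s ∈ T Q := fun s => (nn_mem_T Q hQ hdim h s).1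
  have hd : ∀ s : F, dd Q v v' a a' s ∈ T Q := fun s => (nn_mem_T Q hQ hdim h s).2
  refine ⟨?_, ?_, ?_, ?_, ?_, ?_, ?_, ?_⟩
  · show repE Q ρ (E Q v ((0 : F) • a')) = 1
    rw [zero_smul, E_zero_right Q h.qv, repE_one]
  · intro u u'
    show repE Q ρ (E Q v ((u + u') • a')) = repE Q ρ (E Q v (u • a')) * repE Q ρ (E Q v (u' • a'))
    rw [← repE_mul Q ρ (hx u) (hx u'), E_mul Q h.qv (polar_v_smul Q h u) (polar_v_smul Q h u'),
      add_smul]
  · show repE Q ρ (dd Q v v' a a' 1) = 1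
    rw [g2, repE_one]
  · intro t t' ht ht'
    show repE Q ρ (dd Q v v' a a' (t * t')) =
      repE Q ρ (dd Q v v' a a' t) * repE Q ρ (dd Q v v' a a' t')
    rw [← repE_mul Q ρ (hd t) (hd t'), g1 t t' ht ht']
  · intro t u ht
    show repE Q ρ (dd Q v v' a a' t) * repE Q ρ (E Q v (u • a')) =
      repE Q ρ (E Q v ((t ^ 2 * u) • a')) * repE Q ρ (dd Q v v' a a' t)
    rw [← repE_mul Q ρ (hd t) (hx u), ← repE_mul Q ρ (hx _) (hd t), g3 t u ht]
  · intro t ht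
    show repE Q ρ (dd Q v v' a a' t) * repE Q ρ (nn Q v v' a a' 1) * repE Q ρ (dd Q v v' a a' t) =
      repE Q ρ (nn Q v v' a a' 1)
    rw [← repE_mul Q ρ (hd t) (hn 1), ← repE_mul Q ρ ((T Q).mul_mem (hd t) (hn 1)) (hd t), g4 t ht]
  · show repE Q ρ (nn Q v v' a a' 1) * repE Q ρ (nn Q v v' a a' 1) = repE Q ρ (dd Q v v' a a' (-1))
    rw [← repE_mul Q ρ (hn 1) (hn 1), g5]
  · intro u hu
    show repE Q ρ (E Q v (u • a')) * repE Q ρ (nn Q v v' a a' 1) =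
      repE Q ρ (nn Q v v' a a' 1) * repE Q ρ (E Q v ((-u⁻¹) • a')) *
        repE Q ρ (dd Q v v' a a' (-u⁻¹)) * repE Q ρ (nn Q v v' a a' 1) *
        repE Q ρ (E Q v ((-u⁻¹) • a'))
    have m1 : nn Q v v' a a' 1 * E Q v ((-u⁻¹) • a') ∈ T Q := (T Q).mul_mem (hn 1) (hx _)
    have m2 : nn Q v v' a a' 1 * E Q v ((-u⁻¹) • a') * dd Q v v' a a' (-u⁻¹) ∈ T Q :=
      (T Q).mul_mem m1 (hd _)
    have m3 : nn Q v v' a a' 1 * E Q v ((-u⁻¹) • a') * dd Q v v' a a' (-u⁻¹) *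
        nn Q v v' a a' 1 ∈ T Q := (T Q).mul_mem m2 (hn 1)
    rw [← repE_mul Q ρ (hx u) (hn 1), ← repE_mul Q ρ (hn 1) (hx _), ← repE_mul Q ρ m1 (hd _),
      ← repE_mul Q ρ m2 (hn 1), ← repE_mul Q ρ m3 (hx _), g6 u hu]

end Cfsg.Agent.Lib.Helper63_OO_K_SL2RELaux
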