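import Mathlib
import Cfsg.Agent.Lib.Helper64_OOKDefs
import Cfsg.Agent.Lib.Helper63_OO_K_SL2RELaux
import Cfsg.Agent.Lib.Helper58_MIO_GT
import Cfsg.Agent.Lib.Helper52_OO_K_GREL

/-!
# Helper20_OO_K_DBY: package OO-K-DBY of the S2344 kill market (architect helper64)

`d(t) e = ν(t) e`, `ν` multiplicative, `d(t) b_y = ν(t) b_(y/t)`, with the conclusions of OO-K-GREL
(`grel`, first two items, and `dd_apply`) as hypotheses.
-/

set_option autoImplicit false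

namespace Cfsg.Agent.Lib.Helper20_OO_K_DBY

open Module Cfsg.Agent.Lib.Helper94_OrthSmall Cfsg.Agent.Lib.Helper44_QuadClass
  Cfsg.Agent.Lib.Helper14_OmegaSimple Cfsg.Agent.Lib.Helper38_MIODefs
  Cfsg.Agent.Lib.Helper95_OPDefs Cfsg.Agent.Lib.Helper95_OPBasic Cfsg.Agent.Lib.Helper48_OODefs
  Cfsg.Agent.Lib.Helper64_OOKDefs

section restr

variable {F V : Type*} [Field F] [AddCommGroup V] [Module F V]

/-- an isometry scaling `v` by `t` and `v'` by `t⁻¹` restricts to a linear equivalence of `perp Q v v'` -/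
theorem exists_restr_scale (Q : QuadraticForm F V) {v v' : V} {g : V ≃ₗ[F] V} (hg : g ∈ oG (⇑Q))
    {t : F} (ht : t ≠ 0) (hgv : g v = t • v) (hgv' : g v' = t⁻¹ • v') :
    ∃ φ : ↥(perp Q v v') ≃ₗ[F] ↥(perp Q v v'),
      ∀ w : ↥(perp Q v v'), ((φ w : ↥(perp Q v v')) : V) = g (w : V) := by
  have hti : t⁻¹ ≠ 0 := inv_ne_zero ht
  have hgiv : g⁻¹ v = t⁻¹ • v := by
    have : g (t⁻¹ • v) = v := by rw [map_smul, hgv, smul_smul, inv_mul_cancel₀ ht, one_smul]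
    calc g⁻¹ v = g⁻¹ (g (t⁻¹ • v)) := by rw [this]
      _ = t⁻¹ • v := g.symm_apply_apply _
  have hgiv' : g⁻¹ v' = (t⁻¹)⁻¹ • v' := by
    rw [inv_inv]
    have : g (t • v') = v' := by rw [map_smul, hgv', smul_smul, mul_inv_cancel₀ ht, one_smul]
    calc g⁻¹ v' = g⁻¹ (g (t • v')) := by rw [this]
      _ = t • v' := g.symm_apply_apply _
  have hmap : (perp Q v v').map (g : V →ₗ[F] V) = perp Q v v' := by
    apply le_antisymm
    · rintro _ ⟨w, hw, rfl⟩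
      exact Cfsg.Agent.Lib.Helper58_MIO_GT.map_mem_perp Q hg ht hgv hgv' hw
    · intro w hw
      refine ⟨g⁻¹ w, Cfsg.Agent.Lib.Helper58_MIO_GT.map_mem_perp Q ((oG (⇑Q)).inv_mem hg) hti
        hgiv hgiv' hw, ?_⟩
      exact g.apply_symm_apply w
  exact ⟨LinearEquiv.ofSubmodules g (perp Q v v') (perp Q v v') hmap, fun w => rfl⟩

end restr

variable {F V : Type*} [Field F] [Fintype F] [DecidableEq F] [AddCommGroup V] [Module F V]
  [FiniteDimensional F V] {X : Type*} [AddCommGroup X] [Module ℂ X] [FiniteDimensional ℂ X]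

theorem d_bvec_aux (Q : QuadraticForm F V) (hQ : (QuadraticMap.polarBilin Q).Nondegenerate)
    (hdim : 9 ≤ finrank F V) {v v' : V} (hv : Q v = 0) (hv' : Q v' = 0)
    (hvv' : QuadraticMap.polar (⇑Q) v v' = 1) (a a' : ↥(perp Q v v'))
    (ha : Qp Q v v' a = 0) (ha' : Qp Q v v' a' = 0)
    (haa' : QuadraticMap.polar (⇑(Qp Q v v')) a a' = 1)
    (ρ : Representation ℂ ↥(T Q) X) (ψ : AddChar F ℂ)
    (f : ℕ) (hW : WData Q ρ ψ v v' 1 f)
    (β : F) (hβ : β ≠ 0) (e : X) (he : e ∈ wsp Q ρ ψ v v' (β • a')) (he0 : e ≠ 0)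
    (hmul : ∀ t t' : F, t ≠ 0 → t' ≠ 0 →
      dd Q v v' (a : V) (a' : V) (t * t') = dd Q v v' (a : V) (a' : V) t * dd Q v v' (a : V) (a' : V) t')
    (hone : dd Q v v' (a : V) (a' : V) 1 = 1)
    (hact : ∀ t : F, t ≠ 0 →
      dd Q v v' (a : V) (a' : V) t v = t • v ∧ dd Q v v' (a : V) (a' : V) t (a : V) = t⁻¹ • (a : V) ∧
      dd Q v v' (a : V) (a' : V) t v' = t⁻¹ • v' ∧ dd Q v v' (a : V) (a' : V) t (a' : V) = t • (a' : V) ∧
      ∀ w : V, QuadraticMap.polar (⇑Q) w v = 0 → QuadraticMap.polar (⇑Q) w v' = 0 →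
        QuadraticMap.polar (⇑Q) w (a : V) = 0 → QuadraticMap.polar (⇑Q) w (a' : V) = 0 →
        dd Q v v' (a : V) (a' : V) t w = w) :
    ∃ ν : F → ℂ, (∀ t : F, t ≠ 0 → opD Q ρ v v' (a : V) (a' : V) t e = ν t • e) ∧
      (∀ t t' : F, t ≠ 0 → t' ≠ 0 → ν (t * t') = ν t * ν t') ∧ ν 1 = 1 ∧
      ∀ t : F, t ≠ 0 → ∀ y : ↥(perp (Qp Q v v') a a'),
        opD Q ρ v v' (a : V) (a' : V) t (bvec Q ρ a a' e y) = ν t • bvec Q ρ a a' e (t⁻¹ • y) := by
  classical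
  have h5 : 5 ≤ finrank F V := by omega
  have hq : HypQuad Q v v' (a : V) (a' : V) := hypQuad_of_perp Q hv hv' hvv' a a' ha ha' haa'
  have hdT : ∀ t : F, dd Q v v' (a : V) (a' : V) t ∈ T Q := fun t =>
    (Cfsg.Agent.Lib.Helper63_OO_K_SL2RELaux.nn_mem_T Q hQ h5 hq t).2
  -- `d(t) e` stays in the line
  have hmem : ∀ t : F, t ≠ 0 → opD Q ρ v v' (a : V) (a' : V) t e ∈ wsp Q ρ ψ v v' (β • a') := by
    intro t ht
    obtain ⟨h1, -, h3, h4, -⟩ := hact t ht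
    obtain ⟨φ, hφ⟩ := exists_restr_scale Q (T_le_oG Q (hdT t)) ht h1 h3
    have hm := wsp_map Q hQ h5 hv ρ ψ _ (hdT t) t ht h1 φ hφ (β • a') e he
    have hlab : t⁻¹ • φ (β • a') = β • a' := by
      apply Subtype.ext
      rw [Submodule.coe_smul, hφ, Submodule.coe_smul, map_smul, h4, smul_smul, smul_smul]
      congr 1
      field_simp
    rw [hlab] at hm
    exact hm
  have ha'0 : a' ≠ 0 := by
    rintro rfl
    simp [QuadraticMap.polar] at haa'
  have hline : finrank ℂ ↥(wsp Q ρ ψ v v' (β • a')) = 1 := by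
    apply hW.he (β • a') (smul_ne_zero hβ ha'0)
    rw [QuadraticMap.map_smul, ha', smul_zero]
  have hsc : ∀ t : F, t ≠ 0 → ∃ c : ℂ, opD Q ρ v v' (a : V) (a' : V) t e = c • e := by
    intro t ht
    have he0' : (⟨e, he⟩ : ↥(wsp Q ρ ψ v v' (β • a'))) ≠ 0 := by
      intro h
      exact he0 (congrArg Subtype.val h)
    obtain ⟨c, hc⟩ := (finrank_eq_one_iff_of_nonzero' _ he0').mp hline
      ⟨opD Q ρ v v' (a : V) (a' : V) t e, hmem t ht⟩
    refine ⟨c, ?_⟩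
    have := congrArg Subtype.val hc
    exact this.symm
  choose! ν hν using hsc
  refine ⟨ν, hν, ?_, ?_, ?_⟩
  · intro t t' ht ht'
    have h1 := hν (t * t') (mul_ne_zero ht ht')
    unfold opD at h1
    rw [hmul t t' ht ht', repE_mul Q ρ (hdT t) (hdT t'), Module.End.mul_apply] at h1
    have h2 := hν t' ht'
    have h3 := hν t ht
    unfold opD at h2 h3
    rw [h2, map_smul, h3, smul_smul] at h1
    have := smul_left_injective ℂ he0 h1
    rw [← this, mul_comm]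
  · have h1 := hν 1 one_ne_zero
    unfold opD at h1
    rw [hone, repE_one, Module.End.one_apply] at h1
    have h2 : (1 : ℂ) • e = ν 1 • e := by rw [one_smul]; exact h1
    exact (smul_left_injective ℂ he0 h2).symm
  · intro t ht y
    obtain ⟨-, h2, -, -, h5'⟩ := hact t ht
    have hy := (mem_perp (Qp Q v v') a a').1 y.2
    have hay : QuadraticMap.polar (⇑Q) (a : V) ((y : ↥(perp Q v v')) : V) = 0 := by
      rw [← polar_comp_subtype]
      exact hy.1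
    have ha'y : QuadraticMap.polar (⇑Q) (a' : V) ((y : ↥(perp Q v v')) : V) = 0 := by
      rw [← polar_comp_subtype]
      exact hy.2
    have hvy := (mem_perp Q v v').1 (y : ↥(perp Q v v')).2
    have hfix : dd Q v v' (a : V) (a' : V) t ((y : ↥(perp Q v v')) : V) = ((y : ↥(perp Q v v')) : V) := by
      apply h5'
      · rw [QuadraticMap.polar_comm]; exact hvy.1
      · rw [QuadraticMap.polar_comm]; exact hvy.2
      · rw [QuadraticMap.polar_comm]; exact hay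
      · rw [QuadraticMap.polar_comm]; exact ha'y
    have hET : E Q (a : V) ((y : ↥(perp Q v v')) : V) ∈ T Q := E_mem_T Q hQ h5 hq.qa hay
    have hay' : QuadraticMap.polar (⇑Q) (a : V) (t⁻¹ • ((y : ↥(perp Q v v')) : V)) = 0 := by
      rw [QuadraticMap.polar_smul_right, hay, smul_zero]
    have hET' : E Q (a : V) (t⁻¹ • ((y : ↥(perp Q v v')) : V)) ∈ T Q := E_mem_T Q hQ h5 hq.qa hay'
    have hconj := conj_E Q (T_le_oG Q (hdT t)) hq.qa hay
    rw [h2, hfix, E_smul_left Q hq.qa hay, mul_inv_eq_iff_eq_mul] at hconj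
    unfold bvec opD
    rw [← Module.End.mul_apply, ← repE_mul Q ρ (hdT t) hET, hconj, repE_mul Q ρ hET' (hdT t),
      Module.End.mul_apply]
    have h3 := hν t ht
    unfold opD at h3
    rw [h3, map_smul]
    rfl

/-- OO-K-DBY. -/
theorem d_bvec (Q : QuadraticForm F V) (hQ : (QuadraticMap.polarBilin Q).Nondegenerate)
    (hdim : 9 ≤ finrank F V) {v v' : V} (hv : Q v = 0) (hv' : Q v' = 0)
    (hvv' : QuadraticMap.polar (⇑Q) v v' = 1) (a a' : ↥(perp Q v v'))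
    (ha : Qp Q v v' a = 0) (ha' : Qp Q v v' a' = 0)
    (haa' : QuadraticMap.polar (⇑(Qp Q v v')) a a' = 1)
    (ρ : Representation ℂ ↥(T Q) X) (ψ : AddChar F ℂ)
    (f : ℕ) (hW : WData Q ρ ψ v v' 1 f)
    (β : F) (hβ : β ≠ 0) (e : X) (he : e ∈ wsp Q ρ ψ v v' (β • a')) (he0 : e ≠ 0) :
    ∃ ν : F → ℂ, (∀ t : F, t ≠ 0 → opD Q ρ v v' (a : V) (a' : V) t e = ν t • e) ∧
      (∀ t t' : F, t ≠ 0 → t' ≠ 0 → ν (t * t') = ν t * ν t') ∧ ν 1 = 1 ∧
      ∀ t : F, t ≠ 0 → ∀ y : ↥(perp (Qp Q v v') a a'),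
        opD Q ρ v v' (a : V) (a' : V) t (bvec Q ρ a a' e y) = ν t • bvec Q ρ a a' e (t⁻¹ • y) := by
  have hq : HypQuad Q v v' (a : V) (a' : V) := hypQuad_of_perp Q hv hv' hvv' a a' ha ha' haa'
  have hg := Cfsg.Agent.Lib.Helper52_OO_K_GREL.grel Q hq
  exact d_bvec_aux Q hQ hdim hv hv' hvv' a a' ha ha' haa' ρ ψ f hW β hβ e he he0 hg.1 hg.2.1
    (fun t ht => Cfsg.Agent.Lib.Helper52_OO_K_GREL.dd_apply Q hq t ht)

end Cfsg.Agent.Lib.Helper20_OO_K_DBY
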