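import Mathlib

/-!
# 2-elements of symmetric groups lying in a unique Sylow 2-subgroup (helper20)

Tools for S4349: every 2-subgroup of `Perm α` (`|α|` even) centralizes a fixed-point-free involution;
the quotient of `α` by such an involution; the condition `Good x` and its inheritance.
-/

set_option autoImplicit false

namespace Cfsg.Agent.Lib.Helper20_PermSylow

open Equiv Equiv.Perm

section FpfInvolution

variable {α : Type*} [Fintype α] [DecidableEq α]

theorem odd_doubleFactorial_odd (n : ℕ) : Odd (2 * n + 1).doubleFactorial := by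
  induction n with
  | zero => simp
  | succ n ih =>
    have : 2 * (n + 1) + 1 = (2 * n + 1) + 2 := by ring
    rw [this, Nat.doubleFactorial_add_two]
    exact Odd.mul ⟨n + 1, by ring⟩ ih

/-- `(2k)! = (2^k k!) * odd`. -/
theorem factorial_two_mul_eq (k : ℕ) :
    ∃ d, Odd d ∧ (2 * k).factorial = (2 ^ k * k.factorial) * d := by
  cases k with
  | zero => exact ⟨1, odd_one, by simp⟩
  | succ k =>
    refine ⟨(2 * k + 1).doubleFactorial, odd_doubleFactorial_odd k, ?_⟩
    have h1 : 2 * (k + 1) = (2 * k + 1) + 1 := by ring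
    rw [h1, Nat.factorial_eq_mul_doubleFactorial, ← h1, Nat.doubleFactorial_two_mul]

/-- The number of permutations of cycle type `2^k` on a set of size `2k` is odd. -/
theorem odd_card_cycleType_replicate (k : ℕ) (hk : Fintype.card α = 2 * k) :
    Odd (Finset.univ.filter fun g : Perm α => g.cycleType = Multiset.replicate k 2).card := by
  have h := Equiv.Perm.card_of_cycleType α (Multiset.replicate k 2)
  have hsum : (Multiset.replicate k 2).sum = 2 * k := by
    rw [Multiset.sum_replicate]; simp [mul_comm]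
  have hcond : (Multiset.replicate k 2).sum ≤ Fintype.card α ∧
      ∀ a ∈ Multiset.replicate k 2, 2 ≤ a := by
    refine ⟨by rw [hsum, hk], ?_⟩
    intro a ha
    rw [Multiset.eq_of_mem_replicate ha]
  rw [if_pos hcond, hsum, hk, Nat.sub_self, Nat.factorial_zero, one_mul,
    Multiset.prod_replicate] at h
  have hprod : ∏ n ∈ (Multiset.replicate k 2).toFinset,
      (Multiset.count n (Multiset.replicate k 2)).factorial = k.factorial := by
    rw [Multiset.toFinset_replicate]
    split_ifs with h0
    · subst h0; simp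
    · rw [Finset.prod_singleton, Multiset.count_replicate_self]
  rw [hprod] at h
  obtain ⟨d, hd, hfac⟩ := factorial_two_mul_eq k
  rw [hfac, Nat.mul_div_cancel_left _ (by positivity)] at h
  have h2 : (Finset.univ.filter fun g : Perm α => g.cycleType = Multiset.replicate k 2) =
      ({g | g.cycleType = Multiset.replicate k 2} : Finset (Perm α)) := by
    ext g; simp
  rw [h2, h]
  exact hd

theorem fpf_of_cycleType {k : ℕ} (hk : Fintype.card α = 2 * k) {g : Perm α}
    (hg : g.cycleType = Multiset.replicate k 2) : g * g = 1 ∧ ∀ a, g a ≠ a := by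
  constructor
  · have h1 : orderOf g ∣ 2 := by
      rw [← lcm_cycleType, hg]
      apply Multiset.lcm_dvd.mpr
      intro a ha
      rw [Multiset.eq_of_mem_replicate ha]
    have := orderOf_dvd_iff_pow_eq_one.mp h1
    rwa [pow_two] at this
  · have h1 : g.support.card = Fintype.card α := by
      rw [← sum_cycleType, hg, Multiset.sum_replicate, hk]; simp [mul_comm]
    have h2 : g.support = Finset.univ := (Finset.card_eq_iff_eq_univ _).mp h1
    intro a
    have : a ∈ g.support := by rw [h2]; exact Finset.mem_univ a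
    exact Equiv.Perm.mem_support.mp this

/-- A 2-subgroup of the symmetric group on a set of even size centralizes a fixed-point-free
involution. -/
theorem exists_fpf_involution_commute (hα : Even (Fintype.card α)) (Q : Subgroup (Perm α))
    (hQ : IsPGroup 2 Q) :
    ∃ t : Perm α, t * t = 1 ∧ (∀ a, t a ≠ a) ∧ ∀ g ∈ Q, g * t = t * g := by
  obtain ⟨k, hk⟩ := hα
  have hk' : Fintype.card α = 2 * k := by omega
  let X := {g : Perm α // g.cycleType = Multiset.replicate k 2}
  letI : MulAction Q X :=
    { smul := fun q g => ⟨(q : Perm α) * g.1 * (q : Perm α)⁻¹, by rw [cycleType_conj]; exact g.2⟩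
      one_smul := fun g => by
        apply Subtype.ext
        show ((1 : Q) : Perm α) * g.1 * ((1 : Q) : Perm α)⁻¹ = g.1
        simp
      mul_smul := fun q r g => by
        apply Subtype.ext
        show ((q * r : Q) : Perm α) * g.1 * ((q * r : Q) : Perm α)⁻¹ =
          (q : Perm α) * ((r : Perm α) * g.1 * (r : Perm α)⁻¹) * (q : Perm α)⁻¹
        simp [mul_assoc] }
  haveI : Fact (Nat.Prime 2) := ⟨Nat.prime_two⟩
  have hcard : ¬ 2 ∣ Nat.card X := by
    have h1 : Nat.card X =
        (Finset.univ.filter fun g : Perm α => g.cycleType = Multiset.replicate k 2).card := by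
      rw [Nat.card_eq_fintype_card, Fintype.card_subtype]
    rw [h1]
    exact (odd_card_cycleType_replicate k hk').not_two_dvd_nat
  obtain ⟨t, ht⟩ := hQ.nonempty_fixed_point_of_prime_not_dvd_card X hcard
  obtain ⟨h1, h2⟩ := fpf_of_cycleType hk' t.2
  refine ⟨t.1, h1, h2, ?_⟩
  intro g hg
  have h3 := ht ⟨g, hg⟩
  have h4 : g * t.1 * g⁻¹ = t.1 := congrArg Subtype.val h3
  calc g * t.1 = g * t.1 * g⁻¹ * g := by group
    _ = t.1 * g := by rw [h4]

end FpfInvolution

section Quot

variable {α : Type*} (t : Perm α) (ht : t * t = 1)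

include ht in
theorem inv_apply_apply (a : α) : t (t a) = a := by
  have := congrArg (fun f : Perm α => f a) ht
  simpa using this

/-- The equivalence relation whose classes are the orbits `{a, t a}` of an involution. -/
def tRel : Setoid α where
  r a b := a = b ∨ t a = b
  iseqv :=
    { refl := fun a => Or.inl rfl
      symm := by
        rintro a b (h | h)
        · exact Or.inl h.symm
        · right; rw [← h, inv_apply_apply t ht]
      trans := by
        rintro a b c (h1 | h1) (h2 | h2)
        · exact Or.inl (h1.trans h2)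
        · right; rw [h1]; exact h2
        · right; rw [← h2]; exact h1
        · left; rw [← h2, ← h1, inv_apply_apply t ht] }

theorem tRel_iff (a b : α) : (tRel t ht).r a b ↔ (a = b ∨ t a = b) := Iff.rfl

theorem mk_eq_iff (a b : α) :
    (Quotient.mk (tRel t ht) a = Quotient.mk (tRel t ht) b) ↔ (a = b ∨ t a = b) := by
  rw [Quotient.eq]; rfl

theorem comm_of_mem {g : Perm α} (hg : g ∈ Subgroup.centralizer ({t} : Set (Perm α))) (a : α) :
    g (t a) = t (g a) := by
  have h := Subgroup.mem_centralizer_iff.mp hg t rfl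
  have := congrArg (fun f : Perm α => f a) h
  simpa using this.symm

theorem rel_map {g : Perm α} (hg : g ∈ Subgroup.centralizer ({t} : Set (Perm α))) (a b : α)
    (h : (tRel t ht).r a b) : (tRel t ht).r (g a) (g b) := by
  rcases h with h | h
  · left; rw [h]
  · right; rw [← h, comm_of_mem t hg]

/-- The permutation induced on the quotient by an element commuting with `t`. -/
def quotPerm (g : Subgroup.centralizer ({t} : Set (Perm α))) : Perm (Quotient (tRel t ht)) where
  toFun := Quotient.map (g : Perm α) (rel_map t ht g.2)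
  invFun := Quotient.map ((g⁻¹ : Subgroup.centralizer ({t} : Set (Perm α))) : Perm α)
    (rel_map t ht (g⁻¹).2)
  left_inv := by
    intro q
    induction q using Quotient.inductionOn with
    | _ a => simp [Quotient.map_mk]
  right_inv := by
    intro q
    induction q using Quotient.inductionOn with
    | _ a => simp [Quotient.map_mk]

theorem quotPerm_mk (g : Subgroup.centralizer ({t} : Set (Perm α))) (a : α) :
    quotPerm t ht g (Quotient.mk (tRel t ht) a) = Quotient.mk (tRel t ht) ((g : Perm α) a) := rfl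

/-- The homomorphism from the centralizer of `t` to the symmetric group on the `t`-orbits. -/
def quotHom : Subgroup.centralizer ({t} : Set (Perm α)) →* Perm (Quotient (tRel t ht)) where
  toFun := quotPerm t ht
  map_one' := by
    ext q
    induction q using Quotient.inductionOn with
    | _ a => simp [quotPerm_mk]
  map_mul' := by
    intro g h
    ext q
    induction q using Quotient.inductionOn with
    | _ a => simp [quotPerm_mk]

theorem quotHom_mk (g : Subgroup.centralizer ({t} : Set (Perm α))) (a : α) :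
    quotHom t ht g (Quotient.mk (tRel t ht) a) = Quotient.mk (tRel t ht) ((g : Perm α) a) := rfl

theorem quotHom_pow_mk (g : Subgroup.centralizer ({t} : Set (Perm α))) (n : ℕ) (a : α) :
    ((quotHom t ht g) ^ n) (Quotient.mk (tRel t ht) a) =
      Quotient.mk (tRel t ht) (((g : Perm α) ^ n) a) := by
  rw [← map_pow, quotHom_mk]
  rfl

/-- Elements of the kernel of `quotHom` square to the identity. -/
theorem sq_eq_one_of_quotHom_eq_one (g : Subgroup.centralizer ({t} : Set (Perm α)))
    (hg : quotHom t ht g = 1) : (g : Perm α) * (g : Perm α) = 1 := by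
  ext a
  have h1 : quotHom t ht g (Quotient.mk (tRel t ht) a) = Quotient.mk (tRel t ht) a := by
    rw [hg]; rfl
  rw [quotHom_mk, mk_eq_iff] at h1
  show (g : Perm α) ((g : Perm α) a) = a
  rcases h1 with h1 | h1
  · rw [h1, h1]
  · have h2 : (g : Perm α) a = t a := by
      rw [← inv_apply_apply t ht ((g : Perm α) a), h1]
    rw [h2, comm_of_mem t g.2, h1]

end Quot

section Good

variable {α : Type*}

theorem pow_apply_eq_iff (x : Perm α) (a : α) (n : ℕ) :
    (x ^ n) a = a ↔ MulAction.period x a ∣ n := by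
  rw [← MulAction.pow_smul_eq_iff_period_dvd]; rfl

theorem period_eq_of_iff {β : Type*} (x : Perm α) (y : Perm β) (a : α) (b : β)
    (h : ∀ n : ℕ, (x ^ n) a = a ↔ (y ^ n) b = b) : MulAction.period x a = MulAction.period y b := by
  apply Nat.dvd_antisymm
  · rw [← pow_apply_eq_iff, h, pow_apply_eq_iff]
  · rw [← pow_apply_eq_iff, ← h, pow_apply_eq_iff]

theorem period_eq_one_iff (x : Perm α) (a : α) : MulAction.period x a = 1 ↔ x a = a := by
  rw [MulAction.period_eq_one_iff]; rfl

/-- The condition on a 2-element `x`: distinct nontrivial cycles have distinct lengths, and there are at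
most two fixed points. -/
structure Good (x : Perm α) : Prop where
  two : ∃ k : ℕ, x ^ (2 ^ k) = 1
  same : ∀ a b, x a ≠ a → MulAction.period x a = MulAction.period x b → ∃ i : ℕ, (x ^ i) a = b
  fix : ∀ a b c, x a = a → x b = b → x c = c → a = b ∨ a = c ∨ b = c

theorem Good.period_pos {x : Perm α} (h : Good x) (a : α) : 0 < MulAction.period x a := by
  obtain ⟨k, hk⟩ := h.two
  apply MulAction.period_pos_of_orderOf_pos
  exact orderOf_pos_iff.mpr (isOfFinOrder_iff_pow_eq_one.mpr ⟨2 ^ k, by positivity, hk⟩)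

theorem pow_comm_apply {x t : Perm α} (hxt : x * t = t * x) (n : ℕ) (a : α) :
    (x ^ n) (t a) = t ((x ^ n) a) := by
  have h : Commute x t := hxt
  have := (h.pow_left n).eq
  have h2 := congrArg (fun f : Perm α => f a) this
  simpa using h2

theorem period_comm {x t : Perm α} (hxt : x * t = t * x) (a : α) :
    MulAction.period x (t a) = MulAction.period x a := by
  apply period_eq_of_iff
  intro n
  rw [pow_comm_apply hxt]
  exact t.injective.eq_iff

theorem arith_aux {m i j : ℕ} (hi : m ∣ 2 * i) (hi' : ¬ m ∣ i) (hj : m ∣ 2 * j) (hj' : ¬ m ∣ j) :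
    m ∣ i + j := by
  obtain ⟨c, hc⟩ := hi
  obtain ⟨d, hd⟩ := hj
  have hco : Odd c := by
    rcases Nat.even_or_odd c with h | h
    · exfalso
      obtain ⟨e, he⟩ := h
      apply hi'
      refine ⟨e, ?_⟩
      rw [he] at hc
      have : 2 * i = 2 * (m * e) := by rw [hc]; ring
      omega
    · exact h
  have hdo : Odd d := by
    rcases Nat.even_or_odd d with h | h
    · exfalso
      obtain ⟨e, he⟩ := h
      apply hj'
      refine ⟨e, ?_⟩
      rw [he] at hd
      have : 2 * j = 2 * (m * e) := by rw [hd]; ring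
      omega
    · exact h
  obtain ⟨e, he⟩ : Even (c + d) := hco.add_odd hdo
  refine ⟨e, ?_⟩
  have : 2 * (i + j) = 2 * (m * e) := by
    have h1 : 2 * (i + j) = m * (c + d) := by rw [mul_add, mul_add, hc, hd]
    rw [h1, he]; ring
  omega

/-- Under `Good x`, at most one fixed-point-free involution commutes with `x`. -/
theorem Good.unique_fpf {x : Perm α} (h : Good x) {t t' : Perm α} (ht : t * t = 1)
    (ht' : t' * t' = 1) (hf : ∀ a, t a ≠ a) (hf' : ∀ a, t' a ≠ a) (hxt : x * t = t * x)
    (hxt' : x * t' = t' * x) : t = t' := by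
  have htt : ∀ a, t (t a) = a := fun a => by
    have := congrArg (fun f : Perm α => f a) ht
    simpa using this
  have htt' : ∀ a, t' (t' a) = a := fun a => by
    have := congrArg (fun f : Perm α => f a) ht'
    simpa using this
  have hc : ∀ a, x (t a) = t (x a) := fun a => by
    have := pow_comm_apply hxt 1 a
    simpa using this
  have hc' : ∀ a, x (t' a) = t' (x a) := fun a => by
    have := pow_comm_apply hxt' 1 a
    simpa using this
  ext a
  by_cases hxa : x a = a
  · have h1 : x (t a) = t a := by rw [hc, hxa]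
    have h2 : x (t' a) = t' a := by rw [hc', hxa]
    rcases h.fix a (t a) (t' a) hxa h1 h2 with h3 | h3 | h3
    · exact absurd h3.symm (hf a)
    · exact absurd h3.symm (hf' a)
    · exact h3
  · obtain ⟨i, hi⟩ := h.same a (t a) hxa (period_comm hxt a).symm
    obtain ⟨j, hj⟩ := h.same a (t' a) hxa (period_comm hxt' a).symm
    set m := MulAction.period x a with hm
    have h2i : m ∣ 2 * i := by
      rw [hm, ← pow_apply_eq_iff, two_mul, pow_add, Perm.mul_apply, hi, pow_comm_apply hxt, hi, htt]
    have h2j : m ∣ 2 * j := by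
      rw [hm, ← pow_apply_eq_iff, two_mul, pow_add, Perm.mul_apply, hj, pow_comm_apply hxt', hj,
        htt']
    have hni : ¬ m ∣ i := by
      rw [hm, ← pow_apply_eq_iff, hi]; exact hf a
    have hnj : ¬ m ∣ j := by
      rw [hm, ← pow_apply_eq_iff, hj]; exact hf' a
    have hij : m ∣ i + j := arith_aux h2i hni h2j hnj
    rw [hm, ← pow_apply_eq_iff] at hij
    -- x^i a = x^i (x^(2j) a) = x^(i+j) (x^j a) = x^j (x^(i+j) a) = x^j a
    have h3 : (x ^ (2 * j)) a = a := (pow_apply_eq_iff x a _).mpr h2j
    calc t a = (x ^ i) a := hi.symm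
      _ = (x ^ i) ((x ^ (2 * j)) a) := by rw [h3]
      _ = (x ^ j) ((x ^ (i + j)) a) := by
          rw [← Perm.mul_apply, ← Perm.mul_apply, ← pow_add, ← pow_add]
          congr 2; ring
      _ = (x ^ j) a := by rw [hij]
      _ = t' a := hj

end Good

section QuotGood

variable {α : Type*} (t : Perm α) (ht : t * t = 1)

theorem mem_centralizer_of_comm {x : Perm α} (hxt : x * t = t * x) :
    x ∈ Subgroup.centralizer ({t} : Set (Perm α)) := by
  rw [Subgroup.mem_centralizer_iff]
  intro h hh
  rw [Set.mem_singleton_iff] at hh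
  rw [hh, hxt]

/-- Period doubling: for a point not fixed by `x`, the period of `x` is twice the period of the induced
permutation on the `t`-orbits. -/
theorem Good.period_quot {x : Perm α} (h : Good x) (hf : ∀ a, t a ≠ a) (hxt : x * t = t * x)
    (a : α) (hxa : x a ≠ a) :
    MulAction.period x a = 2 * MulAction.period (quotHom t ht ⟨x, mem_centralizer_of_comm t hxt⟩)
      (Quotient.mk (tRel t ht) a) := by
  set xb := quotHom t ht ⟨x, mem_centralizer_of_comm t hxt⟩ with hxb
  set m := MulAction.period x a with hm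
  set k := MulAction.period xb (Quotient.mk (tRel t ht) a) with hk
  have hpow : ∀ n : ℕ, (xb ^ n) (Quotient.mk (tRel t ht) a) = Quotient.mk (tRel t ht) ((x ^ n) a) :=
    fun n => quotHom_pow_mk t ht ⟨x, mem_centralizer_of_comm t hxt⟩ n a
  have htt : ∀ b, t (t b) = b := inv_apply_apply t ht
  -- k ∣ m
  have h1 : k ∣ m := by
    rw [hk, ← pow_apply_eq_iff, hpow]
    have : (x ^ m) a = a := (pow_apply_eq_iff x a m).mpr dvd_rfl
    rw [this]
  -- m ∣ 2k
  have h2 : m ∣ 2 * k := by
    have h3 : (xb ^ k) (Quotient.mk (tRel t ht) a) = Quotient.mk (tRel t ht) a :=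
      (pow_apply_eq_iff xb _ k).mpr dvd_rfl
    rw [hpow, mk_eq_iff] at h3
    rcases h3 with h3 | h3
    · have : m ∣ k := (pow_apply_eq_iff x a k).mp h3
      exact this.mul_left 2
    · have h4 : (x ^ k) a = t a := by rw [← htt ((x ^ k) a), h3]
      rw [hm, ← pow_apply_eq_iff, two_mul, pow_add, Perm.mul_apply, h4, pow_comm_apply hxt, h4, htt]
  -- some power of x maps a to t a
  obtain ⟨i, hi⟩ := h.same a (t a) hxa (period_comm hxt a).symm
  have h3 : k ∣ i := by
    rw [hk, ← pow_apply_eq_iff, hpow, hi, mk_eq_iff]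
    right; exact htt a
  have h4 : ¬ m ∣ i := by
    rw [hm, ← pow_apply_eq_iff, hi]; exact hf a
  have hkpos : 0 < k := by
    apply MulAction.period_pos_of_orderOf_pos
    obtain ⟨j, hj⟩ := h.two
    apply orderOf_pos_iff.mpr
    apply isOfFinOrder_iff_pow_eq_one.mpr
    refine ⟨2 ^ j, by positivity, ?_⟩
    rw [hxb, ← map_pow]
    have : (⟨x, mem_centralizer_of_comm t hxt⟩ : Subgroup.centralizer ({t} : Set (Perm α))) ^ 2 ^ j
        = 1 := by
      apply Subtype.ext
      simpa using hj
    rw [this, map_one]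
  obtain ⟨c, hc⟩ := h1
  have hc2 : c ∣ 2 := by
    rw [hc] at h2
    have : k * c ∣ k * 2 := by rwa [mul_comm k 2]
    exact (Nat.mul_dvd_mul_iff_left hkpos).mp this
  have hc12 : c = 1 ∨ c = 2 := by
    have := Nat.le_of_dvd (by norm_num) hc2
    have hc0 : c ≠ 0 := by rintro rfl; simp at hc2
    interval_cases c <;> simp_all
  rcases hc12 with rfl | rfl
  · exfalso
    rw [mul_one] at hc
    rw [hc] at h4
    exact h4 h3
  · rw [hc, mul_comm]

theorem Good.quot {x : Perm α} (h : Good x) (hf : ∀ a, t a ≠ a) (hxt : x * t = t * x) :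
    Good (quotHom t ht ⟨x, mem_centralizer_of_comm t hxt⟩) := by
  set xb := quotHom t ht ⟨x, mem_centralizer_of_comm t hxt⟩ with hxb
  have hpow : ∀ (n : ℕ) (a : α), (xb ^ n) (Quotient.mk (tRel t ht) a) =
      Quotient.mk (tRel t ht) ((x ^ n) a) :=
    fun n a => quotHom_pow_mk t ht ⟨x, mem_centralizer_of_comm t hxt⟩ n a
  have hmk : ∀ a, xb (Quotient.mk (tRel t ht) a) = Quotient.mk (tRel t ht) (x a) :=
    fun a => quotHom_mk t ht _ a
  have htt : ∀ b, t (t b) = b := inv_apply_apply t ht
  have hfixed : ∀ a, x a = a → xb (Quotient.mk (tRel t ht) a) = Quotient.mk (tRel t ht) a := by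
    intro a ha; rw [hmk, ha]
  have hF : ∀ a b, x a = a → x b = b →
      Quotient.mk (tRel t ht) a = Quotient.mk (tRel t ht) b := by
    intro a b ha hb
    have h1 : x (t a) = t a := by
      have := pow_comm_apply hxt 1 a
      simp only [pow_one] at this
      rw [this, ha]
    rcases h.fix a (t a) b ha h1 hb with h3 | h3 | h3
    · exact absurd h3.symm (hf a)
    · rw [h3]
    · rw [mk_eq_iff]; right; exact h3
  have hS : ∀ a b, x a ≠ a → x b ≠ b →
      xb (Quotient.mk (tRel t ht) a) = Quotient.mk (tRel t ht) a →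
      xb (Quotient.mk (tRel t ht) b) = Quotient.mk (tRel t ht) b →
      Quotient.mk (tRel t ht) a = Quotient.mk (tRel t ht) b := by
    intro a b ha hb ha' hb'
    have h1 : MulAction.period x a = 2 := by
      rw [h.period_quot t ht hf hxt a ha, (period_eq_one_iff _ _).mpr ha']
    have h2 : MulAction.period x b = 2 := by
      rw [h.period_quot t ht hf hxt b hb, (period_eq_one_iff _ _).mpr hb']
    obtain ⟨i, hi⟩ := h.same a b ha (h1.trans h2.symm)
    rw [← hi, ← hpow]
    symm
    rw [pow_apply_eq_iff, (period_eq_one_iff _ _).mpr ha']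
    exact one_dvd _
  refine ⟨?_, ?_, ?_⟩
  · obtain ⟨k, hk⟩ := h.two
    refine ⟨k, ?_⟩
    rw [hxb, ← map_pow]
    have : (⟨x, mem_centralizer_of_comm t hxt⟩ : Subgroup.centralizer ({t} : Set (Perm α))) ^ 2 ^ k
        = 1 := by
      apply Subtype.ext
      simpa using hk
    rw [this, map_one]
  · intro q r
    induction q using Quotient.inductionOn with
    | _ a =>
    induction r using Quotient.inductionOn with
    | _ b =>
    intro hq hqr
    have ha : x a ≠ a := fun hh => hq (hfixed a hh)
    have hb : x b ≠ b := by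
      intro hh
      have h1 := (period_eq_one_iff _ _).mpr (hfixed b hh)
      rw [← hqr, period_eq_one_iff] at h1
      exact hq h1
    have h1 : MulAction.period x a = MulAction.period x b := by
      rw [h.period_quot t ht hf hxt a ha, h.period_quot t ht hf hxt b hb, hqr]
    obtain ⟨i, hi⟩ := h.same a b ha h1
    exact ⟨i, by rw [hpow, hi]⟩
  · intro q r s
    induction q using Quotient.inductionOn with
    | _ a =>
    induction r using Quotient.inductionOn with
    | _ b =>
    induction s using Quotient.inductionOn with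
    | _ c =>
    intro hq hr hs
    by_cases ha : x a = a <;> by_cases hb : x b = b <;> by_cases hc : x c = c
    · left; exact hF a b ha hb
    · left; exact hF a b ha hb
    · right; left; exact hF a c ha hc
    · right; right; exact hS b c hb hc hr hs
    · right; right; exact hF b c hb hc
    · right; left; exact hS a c ha hc hq hs
    · left; exact hS a b ha hb hq hr
    · left; exact hS a b ha hb hq hr

end QuotGood

section SubtypeGood

variable {α : Type*}

theorem ofSubtype_pow_apply_coe {p : α → Prop} [DecidablePred p] (y : Perm (Subtype p)) (n : ℕ)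
    (a : Subtype p) : ((ofSubtype y) ^ n) (a : α) = ((y ^ n) a : α) := by
  rw [← map_pow, ofSubtype_apply_coe]

theorem Good.of_ofSubtype {p : α → Prop} [DecidablePred p] {y : Perm (Subtype p)}
    (h : Good (ofSubtype y)) : Good y := by
  have hper : ∀ a : Subtype p, MulAction.period y a = MulAction.period (ofSubtype y) (a : α) := by
    intro a
    apply period_eq_of_iff
    intro n
    rw [ofSubtype_pow_apply_coe, Subtype.ext_iff]
  refine ⟨?_, ?_, ?_⟩
  · obtain ⟨k, hk⟩ := h.two
    refine ⟨k, ?_⟩
    apply ofSubtype_injective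
    rw [map_pow, hk, map_one]
  · intro a b ha hab
    have ha' : (ofSubtype y) (a : α) ≠ (a : α) := by
      rw [ofSubtype_apply_coe]
      intro hh
      exact ha (Subtype.ext hh)
    obtain ⟨i, hi⟩ := h.same (a : α) (b : α) ha' (by rw [← hper, ← hper, hab])
    refine ⟨i, ?_⟩
    rw [ofSubtype_pow_apply_coe] at hi
    exact Subtype.ext hi
  · intro a b c ha hb hc
    have h1 : ∀ d : Subtype p, y d = d → (ofSubtype y) (d : α) = (d : α) := by
      intro d hd
      rw [ofSubtype_apply_coe, hd]
    rcases h.fix (a : α) (b : α) (c : α) (h1 a ha) (h1 b hb) (h1 c hc) with h2 | h2 | h2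
    · left; exact Subtype.ext h2
    · right; left; exact Subtype.ext h2
    · right; right; exact Subtype.ext h2

end SubtypeGood

section PGroupLemmas

variable {G : Type*} [Group G]

theorem isPGroup_zpowers_of_pow_eq_one {x : G} {k : ℕ} (hx : x ^ (2 ^ k) = 1) :
    IsPGroup 2 (Subgroup.zpowers x) := by
  intro g
  obtain ⟨g, hg⟩ := g
  obtain ⟨j, rfl⟩ := Subgroup.mem_zpowers_iff.mp hg
  refine ⟨k, ?_⟩
  apply Subtype.ext
  show (x ^ j) ^ (2 ^ k) = 1
  rw [← zpow_natCast, ← zpow_mul, mul_comm, zpow_mul, zpow_natCast, hx, one_zpow]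

end PGroupLemmas

section Main

universe u

theorem isPGroup_comap_quotHom {α : Type*} (t : Perm α) (ht : t * t = 1)
    (S : Subgroup (Perm (Quotient (tRel t ht)))) (hS : IsPGroup 2 S) :
    IsPGroup 2 ((S.comap (quotHom t ht)).map
      (Subgroup.centralizer ({t} : Set (Perm α))).subtype) := by
  apply IsPGroup.map
  apply hS.comap_of_ker_isPGroup
  intro g
  obtain ⟨g, hg⟩ := g
  refine ⟨1, ?_⟩
  apply Subtype.ext
  apply Subtype.ext
  show (g : Perm α) ^ (2 ^ 1) = 1
  rw [pow_one, pow_two]
  exact sq_eq_one_of_quotHom_eq_one t ht g hg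

theorem Good.exists_max_aux (n : ℕ) : ∀ (α : Type u) [Finite α], Nat.card α = n →
    ∀ x : Perm α, Good x →
    ∃ T : Subgroup (Perm α), IsPGroup 2 T ∧
      ∀ Q : Subgroup (Perm α), IsPGroup 2 Q → x ∈ Q → Q ≤ T := by
  induction n using Nat.strong_induction_on with
  | _ n ih =>
  intro α _ hn x hx
  classical
  haveI : Fintype α := Fintype.ofFinite α
  haveI : Fact (Nat.Prime 2) := ⟨Nat.prime_two⟩
  rcases Nat.eq_zero_or_pos n with h0 | hpos
  · -- α empty
    have hemp : IsEmpty α := by
      rw [h0] at hn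
      exact Finite.card_eq_zero_iff.mp hn
    refine ⟨⊤, ?_, fun Q _ _ => le_top⟩
    intro g
    exact ⟨0, Subsingleton.elim _ _⟩
  obtain ⟨k, hk⟩ := hx.two
  have hZ : IsPGroup 2 (Subgroup.zpowers x) := isPGroup_zpowers_of_pow_eq_one hk
  rcases Nat.even_or_odd n with heven | hodd
  · -- even case
    have hα : Even (Fintype.card α) := by
      rw [← Nat.card_eq_fintype_card, hn]; exact heven
    obtain ⟨t₀, ht₀, hf₀, hc₀⟩ := exists_fpf_involution_commute hα _ hZ
    have hxt₀ : x * t₀ = t₀ * x := hc₀ x (Subgroup.mem_zpowers x)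
    have hgood := hx.quot t₀ ht₀ hf₀ hxt₀
    have hcard : Nat.card (Quotient (tRel t₀ ht₀)) < n := by
      rw [← hn, Nat.card_eq_fintype_card, Nat.card_eq_fintype_card]
      apply Fintype.card_lt_of_surjective_not_injective (Quotient.mk (tRel t₀ ht₀))
        Quotient.mk_surjective
      intro hinj
      have hne : Nonempty α := by
        rw [← hn] at hpos
        exact (Finite.card_pos_iff).mp hpos
      obtain ⟨a⟩ := hne
      have : Quotient.mk (tRel t₀ ht₀) a = Quotient.mk (tRel t₀ ht₀) (t₀ a) :=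
        (mk_eq_iff t₀ ht₀ a (t₀ a)).mpr (Or.inr rfl)
      exact hf₀ a (hinj this).symm
    obtain ⟨Tb, hTb, hTb'⟩ := ih _ hcard (Quotient (tRel t₀ ht₀)) rfl _ hgood
    refine ⟨(Tb.comap (quotHom t₀ ht₀)).map
      (Subgroup.centralizer ({t₀} : Set (Perm α))).subtype,
      isPGroup_comap_quotHom _ _ _ hTb, ?_⟩
    intro Q hQ hxQ
    obtain ⟨t, ht, hf, hc⟩ := exists_fpf_involution_commute hα Q hQ
    have htt : t₀ = t := hx.unique_fpf ht₀ ht hf₀ hf hxt₀ (hc x hxQ)
    subst htt
    intro g hg
    have hgc : g ∈ Subgroup.centralizer ({t₀} : Set (Perm α)) :=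
      mem_centralizer_of_comm t₀ (hc g hg)
    rw [Subgroup.mem_map]
    refine ⟨⟨g, hgc⟩, ?_, rfl⟩
    rw [Subgroup.mem_comap]
    have hQ' : IsPGroup 2 ((Q.comap (Subgroup.centralizer ({t₀} : Set (Perm α))).subtype).map
        (quotHom t₀ ht₀)) :=
      (hQ.comap_of_injective _ (Subgroup.subtype_injective _)).map _
    apply hTb' _ hQ'
    · exact Subgroup.mem_map_of_mem _ (show (⟨x, mem_centralizer_of_comm t₀ hxt₀⟩ :
        Subgroup.centralizer ({t₀} : Set (Perm α))) ∈ Q.comap _ from hxQ)
    · exact Subgroup.mem_map_of_mem _ (show (⟨g, hgc⟩ :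
        Subgroup.centralizer ({t₀} : Set (Perm α))) ∈ Q.comap _ from hg)
  · -- odd case
    have hodd' : ¬ 2 ∣ Nat.card α := by rw [hn]; exact hodd.not_two_dvd_nat
    have hfixQ : ∀ Q : Subgroup (Perm α), IsPGroup 2 Q → ∃ a : α, ∀ g ∈ Q, g a = a := by
      intro Q hQ
      obtain ⟨a, ha⟩ := hQ.nonempty_fixed_point_of_prime_not_dvd_card α hodd'
      exact ⟨a, fun g hg => ha ⟨g, hg⟩⟩
    obtain ⟨a₀, ha₀⟩ := hfixQ _ hZ
    have hxa₀ : x a₀ = a₀ := ha₀ x (Subgroup.mem_zpowers x)
    have huniq : ∀ a, x a = a → a = a₀ := by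
      intro a ha
      by_contra hne
      have h1 : x.supportᶜ = {a, a₀} := by
        ext b
        simp only [Finset.mem_compl, Perm.mem_support, not_not, Finset.mem_insert,
          Finset.mem_singleton]
        constructor
        · intro hb
          rcases hx.fix a a₀ b ha hxa₀ hb with h | h | h
          · exact absurd h hne
          · left; exact h.symm
          · right; exact h.symm
        · rintro (rfl | rfl) <;> assumption
      have h2 := card_compl_support_modEq (p := 2) hk
      rw [h1, Finset.card_pair hne, ← Nat.card_eq_fintype_card, hn] at h2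
      have h3 := Nat.odd_iff.mp hodd
      unfold Nat.ModEq at h2
      omega
    let p : α → Prop := fun b => b ≠ a₀
    have hp : ∀ g : Perm α, g a₀ = a₀ → ∀ b, p (g b) ↔ p b := by
      intro g hg b
      show g b ≠ a₀ ↔ b ≠ a₀
      rw [not_iff_not]
      constructor
      · intro h; apply g.injective; rw [h, hg]
      · intro h; rw [h, hg]
    have hp2 : ∀ g : Perm α, g a₀ = a₀ → ∀ b, g b ≠ b → p b := by
      intro g hg b hb hba
      apply hb; rw [hba, hg]
    have hox : ofSubtype (x.subtypePerm (hp x hxa₀)) = x :=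
      ofSubtype_subtypePerm _ (hp2 x hxa₀)
    have hgood : Good (x.subtypePerm (hp x hxa₀)) :=
      Good.of_ofSubtype (by rw [hox]; exact hx)
    have hcard : Nat.card (Subtype p) < n := by
      rw [← hn]
      exact Finite.card_subtype_lt (x := a₀) (by simp)
    obtain ⟨T', hT', hT''⟩ := ih _ hcard (Subtype p) rfl _ hgood
    refine ⟨T'.map ofSubtype, hT'.map _, ?_⟩
    intro Q hQ hxQ
    obtain ⟨a, ha⟩ := hfixQ Q hQ
    have haa : a = a₀ := huniq a (ha x hxQ)
    subst haa
    intro g hg
    have hg0 := ha g hg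
    have hog : ofSubtype (g.subtypePerm (hp g hg0)) = g :=
      ofSubtype_subtypePerm _ (hp2 g hg0)
    rw [Subgroup.mem_map]
    refine ⟨g.subtypePerm (hp g hg0), ?_, hog⟩
    have hQ' : IsPGroup 2 (Q.comap (ofSubtype : Perm (Subtype p) →* Perm α)) :=
      hQ.comap_of_injective _ ofSubtype_injective
    apply hT'' _ hQ'
    · rw [Subgroup.mem_comap, hox]; exact hxQ
    · rw [Subgroup.mem_comap, hog]; exact hg

/-- A `Good` 2-element of a finite symmetric group lies in a largest 2-subgroup. -/
theorem Good.exists_max {α : Type u} [Finite α] {x : Perm α} (hx : Good x) :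
    ∃ T : Subgroup (Perm α), IsPGroup 2 T ∧
      ∀ Q : Subgroup (Perm α), IsPGroup 2 Q → x ∈ Q → Q ≤ T :=
  Good.exists_max_aux _ α rfl x hx

end Main

section CycleBridge

variable {α : Type*} [Fintype α] [DecidableEq α]

theorem card_support_cycleOf_eq_period (x : Perm α) (a : α) (ha : x a ≠ a) :
    (x.cycleOf a).support.card = MulAction.period x a := by
  have hc : IsCycle (x.cycleOf a) := isCycle_cycleOf x ha
  rw [← hc.orderOf]
  have hca : x.cycleOf a a ≠ a := by rw [cycleOf_apply_self]; exact ha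
  apply Nat.dvd_antisymm
  · rw [orderOf_dvd_iff_pow_eq_one, hc.pow_eq_one_iff' hca, cycleOf_pow_apply_self,
      pow_apply_eq_iff]
  · rw [← pow_apply_eq_iff, ← cycleOf_pow_apply_self, pow_orderOf_eq_one]
    rfl

/-- The cycle-type condition implies `Good`. -/
theorem good_of_nodup {x : Perm α} (h2 : ∃ k : ℕ, orderOf x = 2 ^ k)
    (hfix : Fintype.card α ≤ x.support.card + 2) (hnd : x.cycleType.Nodup) : Good x := by
  refine ⟨?_, ?_, ?_⟩
  · obtain ⟨k, hk⟩ := h2
    exact ⟨k, by rw [← hk]; exact pow_orderOf_eq_one x⟩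
  · intro a b ha hab
    have hb : x b ≠ b := by
      intro hb
      rw [← period_eq_one_iff] at hb
      rw [hb, period_eq_one_iff] at hab
      exact ha hab
    rw [cycleType_def] at hnd
    have hinj := (Multiset.nodup_map_iff_inj_on x.cycleFactorsFinset.nodup).mp hnd
    have hca : x.cycleOf a ∈ x.cycleFactorsFinset :=
      cycleOf_mem_cycleFactorsFinset_iff.mpr (mem_support.mpr ha)
    have hcb : x.cycleOf b ∈ x.cycleFactorsFinset :=
      cycleOf_mem_cycleFactorsFinset_iff.mpr (mem_support.mpr hb)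
    have heq : x.cycleOf a = x.cycleOf b := by
      apply hinj _ hca _ hcb
      show (x.cycleOf a).support.card = (x.cycleOf b).support.card
      rw [card_support_cycleOf_eq_period x a ha, card_support_cycleOf_eq_period x b hb, hab]
    have hsc : x.SameCycle a b :=
      (sameCycle_iff_cycleOf_eq_of_mem_support (mem_support.mpr ha) (mem_support.mpr hb)).mpr heq
    exact hsc.exists_nat_pow_eq
  · intro a b c ha hb hc
    by_contra hne
    push Not at hne
    obtain ⟨h1, h2, h3⟩ := hne
    have hsub : ({a, b, c} : Finset α) ⊆ x.supportᶜ := by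
      intro d hd
      simp only [Finset.mem_insert, Finset.mem_singleton] at hd
      rw [Finset.mem_compl, mem_support, not_not]
      rcases hd with rfl | rfl | rfl <;> assumption
    have hcard : ({a, b, c} : Finset α).card = 3 :=
      Finset.card_eq_three.mpr ⟨a, b, c, h1, h2, h3, rfl⟩
    have h4 := Finset.card_le_card hsub
    rw [hcard, Finset.card_compl] at h4
    have h5 := x.support.card_le_univ
    omega

end CycleBridge

section Converse

/-- Commuting 2-elements lie in a common 2-subgroup. -/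
theorem exists_isPGroup_of_commute {G : Type*} [Group G] {x y : G} (hxy : Commute x y) {k l : ℕ}
    (hx : x ^ (2 ^ k) = 1) (hy : y ^ (2 ^ l) = 1) :
    ∃ Q : Subgroup G, IsPGroup 2 Q ∧ x ∈ Q ∧ y ∈ Q := by
  refine ⟨Subgroup.zpowers x ⊔ Subgroup.zpowers y, ?_, ?_, ?_⟩
  · apply IsPGroup.to_sup_of_normal_right' (isPGroup_zpowers_of_pow_eq_one hx)
      (isPGroup_zpowers_of_pow_eq_one hy)
    rw [Subgroup.zpowers_le]
    apply Subgroup.centralizer_le_normalizer
    rw [Subgroup.mem_centralizer_iff]
    intro h hh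
    obtain ⟨j, rfl⟩ := Subgroup.mem_zpowers_iff.mp hh
    exact (hxy.zpow_right j).eq.symm
  · exact Subgroup.mem_sup_left (Subgroup.mem_zpowers x)
  · exact Subgroup.mem_sup_right (Subgroup.mem_zpowers y)

variable {α : Type*} [Fintype α] [DecidableEq α]

theorem not_isThreeCycle_of_mem_isPGroup {P : Subgroup (Perm α)} (hP : IsPGroup 2 P) {g : Perm α}
    (hg : g ∈ P) (h3 : IsThreeCycle g) : False := by
  obtain ⟨j, hj⟩ := hP ⟨g, hg⟩
  have h1 : g ^ (2 ^ j) = 1 := by
    have := congrArg Subtype.val hj
    simpa using this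
  have h2 : 3 ∣ 2 ^ j := by
    rw [← h3.orderOf]
    exact orderOf_dvd_iff_pow_eq_one.mpr h1
  have h4 := Nat.Prime.dvd_of_dvd_pow Nat.prime_three h2
  omega

omit [Fintype α] in
theorem swap_mem_of_fixed {x : Perm α} {k : ℕ} (hk : x ^ (2 ^ k) = 1) (P : Subgroup (Perm α))
    (hP : ∀ Q : Subgroup (Perm α), IsPGroup 2 Q → x ∈ Q → Q ≤ P) {a b : α} (ha : x a = a)
    (hb : x b = b) : swap a b ∈ P := by
  have hcomm : Commute x (swap a b) := by
    have := mul_swap_eq_swap_mul x a b
    rw [ha, hb] at this
    exact this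
  have hs : (swap a b) ^ (2 ^ 1) = 1 := by
    rw [pow_one, pow_two, swap_mul_self]
  obtain ⟨Q, hQ, hxQ, hsQ⟩ := exists_isPGroup_of_commute hcomm hk hs
  exact hP Q hQ hxQ hsQ

theorem three_fixed_contra {x : Perm α} {k : ℕ} (hk : x ^ (2 ^ k) = 1) (P : Subgroup (Perm α))
    (hP2 : IsPGroup 2 P) (hP : ∀ Q : Subgroup (Perm α), IsPGroup 2 Q → x ∈ Q → Q ≤ P)
    {a b c : α} (ha : x a = a) (hb : x b = b) (hc : x c = c) (hab : a ≠ b) (hac : a ≠ c)
    (hbc : b ≠ c) : False := by
  have h1 := swap_mem_of_fixed hk P hP ha hb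
  have h2 := swap_mem_of_fixed hk P hP ha hc
  exact not_isThreeCycle_of_mem_isPGroup hP2 (P.mul_mem h1 h2)
    (isThreeCycle_swap_mul_swap_same hab hac hbc)

open Equiv.Perm.OnCycleFactors in
theorem exists_swap_involution {x : Perm α} {c₁ c₂ : Perm α} (h1 : c₁ ∈ x.cycleFactorsFinset)
    (h2 : c₂ ∈ x.cycleFactorsFinset) (hcard : c₁.support.card = c₂.support.card) :
    ∃ (w : Perm α) (u v : α), w * w = 1 ∧ x * w = w * x ∧ u ∈ c₁.support ∧ v ∈ c₂.support ∧
      w u = v ∧ w v = u := by
  obtain ⟨a⟩ := Basis.nonempty x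
  let C₁ : x.cycleFactorsFinset := ⟨c₁, h1⟩
  let C₂ : x.cycleFactorsFinset := ⟨c₂, h2⟩
  have hτ : swap C₁ C₂ ∈ range_toPermHom' x := by
    rw [mem_range_toPermHom'_iff]
    intro c
    by_cases hc1 : c = C₁
    · rw [hc1, swap_apply_left]; exact hcard.symm
    · by_cases hc2 : c = C₂
      · rw [hc2, swap_apply_right]; exact hcard
      · rw [swap_apply_of_ne_of_ne hc1 hc2]
  let τ : range_toPermHom' x := ⟨swap C₁ C₂, hτ⟩
  refine ⟨a.ofPermHom τ, a C₁, a C₂, ?_, ?_, a.mem_support_self C₁, a.mem_support_self C₂, ?_, ?_⟩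
  · rw [← map_mul]
    have : τ * τ = 1 := Subtype.ext (swap_mul_self _ _)
    rw [this, map_one]
  · have := a.ofPermHom_mem_centralizer τ
    rw [Subgroup.mem_centralizer_singleton_iff] at this
    exact this.symm
  · rw [Basis.ofPermHom_apply,
      Basis.ofPermHomFun_apply_of_cycleOf_mem a τ (a.mem_support_self C₁) (m := 0) rfl]
    show (x ^ (0 : ℤ)) (a (swap C₁ C₂ C₁)) = a C₂
    rw [swap_apply_left, zpow_zero, Perm.one_apply]
  · rw [Basis.ofPermHom_apply,
      Basis.ofPermHomFun_apply_of_cycleOf_mem a τ (a.mem_support_self C₂) (m := 0) rfl]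
    show (x ^ (0 : ℤ)) (a (swap C₁ C₂ C₂)) = a C₁
    rw [swap_apply_right, zpow_zero, Perm.one_apply]

theorem equal_cycles_contra {x : Perm α} {k : ℕ} (hk : x ^ (2 ^ k) = 1) (P : Subgroup (Perm α))
    (hP2 : IsPGroup 2 P) (hP : ∀ Q : Subgroup (Perm α), IsPGroup 2 Q → x ∈ Q → Q ≤ P)
    {c₁ c₂ : Perm α} (h1 : c₁ ∈ x.cycleFactorsFinset) (h2 : c₂ ∈ x.cycleFactorsFinset)
    (hne : c₁ ≠ c₂) (hcard : c₁.support.card = c₂.support.card) : False := by
  obtain ⟨w, u, v, hw, hxw, hu, hv, hwu, hwv⟩ := exists_swap_involution h1 h2 hcard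
  -- c₁ ∈ P
  have hc1comm : Commute x c₁ := (self_mem_cycle_factors_commute h1).symm
  have hc1pow : c₁ ^ (2 ^ k) = 1 := by
    rw [← orderOf_dvd_iff_pow_eq_one]
    have hcyc : IsCycle c₁ := (mem_cycleFactorsFinset_iff.mp h1).1
    have : orderOf c₁ ∣ orderOf x := by
      rw [hcyc.orderOf]
      apply dvd_of_mem_cycleType
      rw [cycleType_def, Multiset.mem_map]
      exact ⟨c₁, h1, rfl⟩
    exact this.trans (orderOf_dvd_iff_pow_eq_one.mpr hk)
  obtain ⟨Q₁, hQ₁, hxQ₁, hcQ₁⟩ := exists_isPGroup_of_commute hc1comm hk hc1pow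
  have hc1P : c₁ ∈ P := hP Q₁ hQ₁ hxQ₁ hcQ₁
  -- disjointness
  have hd := x.cycleFactorsFinset_pairwise_disjoint h1 h2 hne
  have hv1 : v ∉ c₁.support := fun h => (Finset.disjoint_left.mp hd.disjoint_support h) hv
  have huv : u ≠ v := by
    intro h
    rw [h] at hu
    exact hv1 hu
  -- s ∈ P
  have hsw : swap u v * w = w * swap u v := by
    have := mul_swap_eq_swap_mul w u v
    rw [hwu, hwv, swap_comm v u] at this
    exact this.symm
  have hsc : swap u v ∈ Subgroup.centralizer ({w} : Set (Perm α)) :=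
    mem_centralizer_of_comm w hsw
  have hxc : x ∈ Subgroup.centralizer ({w} : Set (Perm α)) := mem_centralizer_of_comm w hxw
  have hxb : (quotHom w hw ⟨x, hxc⟩) ^ (2 ^ k) = 1 := by
    rw [← map_pow]
    have : (⟨x, hxc⟩ : Subgroup.centralizer ({w} : Set (Perm α))) ^ 2 ^ k = 1 := by
      apply Subtype.ext
      simpa using hk
    rw [this, map_one]
  have hsb : quotHom w hw ⟨swap u v, hsc⟩ = 1 := by
    ext q
    induction q using Quotient.inductionOn with
    | _ b =>
    rw [quotHom_mk, Perm.one_apply, mk_eq_iff]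
    show swap u v b = b ∨ w (swap u v b) = b
    by_cases hbu : b = u
    · right; rw [hbu, swap_apply_left, hwv]
    · by_cases hbv : b = v
      · right; rw [hbv, swap_apply_right, hwu]
      · left; exact swap_apply_of_ne_of_ne hbu hbv
  have hQ := isPGroup_comap_quotHom w hw (Subgroup.zpowers (quotHom w hw ⟨x, hxc⟩))
    (isPGroup_zpowers_of_pow_eq_one hxb)
  have hxQ : x ∈ ((Subgroup.zpowers (quotHom w hw ⟨x, hxc⟩)).comap (quotHom w hw)).map
      (Subgroup.centralizer ({w} : Set (Perm α))).subtype :=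
    Subgroup.mem_map.mpr ⟨⟨x, hxc⟩, Subgroup.mem_comap.mpr (Subgroup.mem_zpowers _), rfl⟩
  have hsQ : swap u v ∈ ((Subgroup.zpowers (quotHom w hw ⟨x, hxc⟩)).comap (quotHom w hw)).map
      (Subgroup.centralizer ({w} : Set (Perm α))).subtype := by
    refine Subgroup.mem_map.mpr ⟨⟨swap u v, hsc⟩, ?_, rfl⟩
    rw [Subgroup.mem_comap, hsb]
    exact one_mem _
  have hsP : swap u v ∈ P := hP _ hQ hxQ hsQ
  -- 3-cycle
  have hc1u : c₁ u ≠ u := mem_support.mp hu
  have hc1v : c₁ v = v := notMem_support.mp hv1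
  have hvc : v ≠ c₁ u := by
    intro h
    apply hv1
    rw [h]
    exact Perm.apply_mem_support.mpr hu
  have hs' : swap (c₁ u) v ∈ P := by
    have h5 : swap (c₁ u) (c₁ v) = c₁ * swap u v * c₁⁻¹ := swap_apply_apply c₁ u v
    rw [hc1v] at h5
    rw [h5]
    exact P.mul_mem (P.mul_mem hc1P hsP) (P.inv_mem hc1P)
  have h3 : IsThreeCycle (swap v u * swap v (c₁ u)) :=
    isThreeCycle_swap_mul_swap_same huv.symm hvc hc1u.symm
  have hmem : swap v u * swap v (c₁ u) ∈ P := by
    rw [swap_comm v u, swap_comm v (c₁ u)]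
    exact P.mul_mem hsP hs'
  exact not_isThreeCycle_of_mem_isPGroup hP2 hmem h3

end Converse

end Cfsg.Agent.Lib.Helper20_PermSylow
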