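import Mathlib

/-!
# Helper26_RHTorDefs: the abstract theory of `π`-tori (REEHALL market, S1158/S1159/S2357/S2358)

`G` is a finite group of order `N * M` with `N`, `M` coprime; `π` = the primes dividing `N`.  The
hypotheses say that the centraliser of every element of prime order `p ∈ π` is an abelian `π`-group,
that `|N(⟨x⟩) : C(x)|` divides 6 and that the Sylow `p`-subgroups are cyclic for `p ∈ π`
(for the small Ree groups: `N = q² - q + 1`, `M = q³ (q + 1) (q - 1)`).
-/

set_option autoImplicit false

namespace Cfsg.Agent.Lib.Helper26_RHTorDefs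

/-- Hypotheses of the abstract theory of `π`-tori (`π` = the primes dividing `N`). -/
structure TorHyp (G : Type*) [Group G] (N M : ℕ) : Prop where
  card : Nat.card G = N * M
  cop : Nat.Coprime N M
  comm : ∀ (p : ℕ) (x : G), p.Prime → p ∣ N → orderOf x = p →
    ∀ g ∈ Subgroup.centralizer ({x} : Set G), ∀ k ∈ Subgroup.centralizer ({x} : Set G),
      g * k = k * g
  copM : ∀ (p : ℕ) (x : G), p.Prime → p ∣ N → orderOf x = p →
    Nat.Coprime (Nat.card ↥(Subgroup.centralizer ({x} : Set G))) M
  norm6 : ∀ (p : ℕ) (x : G), p.Prime → p ∣ N → orderOf x = p →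
    Nat.card ↥(Subgroup.normalizer (Subgroup.zpowers x : Set G)) ∣
      6 * Nat.card ↥(Subgroup.centralizer ({x} : Set G))
  syl : ∀ (p : ℕ) [Fact p.Prime], p ∣ N → ∀ P : Sylow p G, IsCyclic P

/-- A torus: the centraliser of an element of prime order dividing `N`. -/
def IsTorus {G : Type*} [Group G] (N : ℕ) (C : Subgroup G) : Prop :=
  ∃ (p : ℕ) (x : G), p.Prime ∧ p ∣ N ∧ orderOf x = p ∧
    C = Subgroup.centralizer ({x} : Set G)

end Cfsg.Agent.Lib.Helper26_RHTorDefs
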