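import Mathlib

set_option autoImplicit false

/-!
REEHALL package ABELCYC (helper89, for helper26's market): an abelian subgroup is cyclic as soon as the Sylow
subgroups of the ambient group are cyclic for the primes dividing its order.
-/

namespace Cfsg.Agent.Lib.Helper89_RH_ABELCYC

/-- An abelian subgroup is cyclic as soon as the Sylow subgroups of the ambient group are cyclic
for the primes dividing its order. -/
theorem isCyclic_of_comm {G : Type*} [Group G] [Finite G] (H : Subgroup G)
    (hcomm : ∀ a ∈ H, ∀ b ∈ H, a * b = b * a)
    (hsyl : ∀ (p : ℕ) [Fact p.Prime], p ∣ Nat.card H → ∀ P : Sylow p G, IsCyclic P) :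
    IsCyclic H := by
  classical
  -- `H` is a Z-group
  have hZ : IsZGroup H := by
    refine ⟨fun p hp P => ?_⟩
    have : Fact p.Prime := ⟨hp⟩
    by_cases hpd : p ∣ Nat.card H
    · -- the image of `P` in `G` lies in a Sylow subgroup of `G`
      have hPG : IsPGroup p ((P : Subgroup H).map H.subtype) := P.2.map H.subtype
      obtain ⟨Q, hQ⟩ := hPG.exists_le_sylow
      have : IsCyclic Q := hsyl p hpd Q
      have : IsCyclic (Q : Subgroup G) := ‹IsCyclic Q›
      -- `P ≃* P.map subtype ≃* subgroup of Q`
      have e1 : (P : Subgroup H) ≃* ((P : Subgroup H).map H.subtype) :=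
        (P : Subgroup H).equivMapOfInjective H.subtype H.subtype_injective
      have hinj : Function.Injective (Subgroup.inclusion hQ) := Subgroup.inclusion_injective hQ
      have : IsCyclic ((P : Subgroup H).map H.subtype) :=
        isCyclic_of_injective (Subgroup.inclusion hQ) hinj
      exact isCyclic_of_surjective e1.symm.toMonoidHom e1.symm.surjective
    · -- `P` is trivial
      have hcard : Nat.card (P : Subgroup H) = 1 := by
        obtain ⟨n, hn⟩ := IsPGroup.iff_card.mp P.2
        have hdvd : Nat.card (P : Subgroup H) ∣ Nat.card H := Subgroup.card_subgroup_dvd_card _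
        rcases Nat.eq_zero_or_pos n with h0 | h0
        · rw [hn, h0, pow_zero]
        · exfalso
          apply hpd
          refine dvd_trans ?_ hdvd
          rw [hn]
          exact dvd_pow_self p h0.ne'
      have : Subsingleton (P : Subgroup H) := (Nat.card_eq_one_iff_unique.mp hcard).1
      exact isCyclic_of_subsingleton
  -- `H` is abelian, hence nilpotent
  let : CommGroup H :=
    { (inferInstance : Group H) with
      mul_comm := fun a b => Subtype.ext (hcomm a a.2 b b.2) }
  have : Group.IsNilpotent H := CommGroup.isNilpotent
  infer_instance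

end Cfsg.Agent.Lib.Helper89_RH_ABELCYC
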