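/-
helper79 — package TOR2 of helper26's REEHALL market, wave 2 (S1158, S1159, S2357, S2358):
tori are cyclic.
-/
import Mathlib
import Cfsg.Agent.Lib.Helper26_RHTorDefs
import Cfsg.Agent.Lib.Helper89_RH_ABELCYC

set_option autoImplicit false

open Cfsg.Agent.Lib.Helper26_RHTorDefs

namespace Cfsg.Agent.Lib.Helper79_RH_TOR2

/-- The order of a torus divides `N` (own copy of TOR1.card_dvd). -/
theorem card_dvd' {G : Type*} [Group G] [Finite G] {N M : ℕ} (H : TorHyp G N M)
    {C : Subgroup G} (hC : IsTorus N C) : Nat.card ↥C ∣ N := by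
  obtain ⟨p, x, hp, hpN, hx, rfl⟩ := hC
  have h1 : Nat.card ↥(Subgroup.centralizer ({x} : Set G)) ∣ N * M := by
    rw [← H.card]
    exact Subgroup.card_subgroup_dvd_card _
  exact (H.copM p x hp hpN hx).dvd_of_dvd_mul_right h1

/-- A torus is abelian (own copy of TOR1.comm). -/
theorem comm' {G : Type*} [Group G] [Finite G] {N M : ℕ} (H : TorHyp G N M)
    {C : Subgroup G} (hC : IsTorus N C) : ∀ g ∈ C, ∀ k ∈ C, g * k = k * g := by
  obtain ⟨p, x, hp, hpN, hx, rfl⟩ := hC
  exact H.comm p x hp hpN hx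

/-- A torus is cyclic. -/
theorem isCyclic {G : Type*} [Group G] [Finite G] {N M : ℕ} (H : TorHyp G N M)
    {C : Subgroup G} (hC : IsTorus N C) : IsCyclic ↥C := by
  apply Cfsg.Agent.Lib.Helper89_RH_ABELCYC.isCyclic_of_comm C (comm' H hC)
  intro p _ hpC P
  exact H.syl p (hpC.trans (card_dvd' H hC)) P

end Cfsg.Agent.Lib.Helper79_RH_TOR2
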