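import Mathlib
import Cfsg.Agent.Lib.Helper26_RHTorDefs

set_option autoImplicit false

open Cfsg.Agent.Lib.Helper26_RHTorDefs

/-!
# REEHALL market, wave 2 (architect helper26), package TOR1

A torus `C(x)` (`x` of prime order dividing `N`) has order dividing `N`, is abelian, is the centraliser of each of
its non-trivial elements; tori are TI and their conjugates are tori.
-/

namespace Cfsg.Agent.Lib.Helper82_RH_TOR1

/-- a non-trivial element of finite order has a power of prime order -/
theorem exists_prime_pow {G : Type*} [Group G] [Finite G] (y : G) (hy1 : y ≠ 1) :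
    ∃ s : ℕ, s.Prime ∧ s ∣ orderOf y ∧ orderOf (y ^ (orderOf y / s)) = s := by
  have h1 : orderOf y ≠ 1 := by
    intro h
    exact hy1 (orderOf_eq_one_iff.mp h)
  obtain ⟨s, hs, hsd⟩ := Nat.exists_prime_and_dvd h1
  exact ⟨s, hs, hsd, orderOf_pow_orderOf_div (orderOf_pos y).ne' hsd⟩

/-- the centraliser of an element lies in the centraliser of each of its powers -/
theorem centralizer_le_pow {G : Type*} [Group G] (y : G) (n : ℕ) :
    Subgroup.centralizer ({y} : Set G) ≤ Subgroup.centralizer ({y ^ n} : Set G) := by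
  intro g hg
  rw [Subgroup.mem_centralizer_singleton_iff] at hg ⊢
  have h : Commute g y := hg
  exact (h.pow_right n)

/-- the conjugate of a centraliser -/
theorem map_conj_centralizer {G : Type*} [Group G] (g x : G) :
    (Subgroup.centralizer ({x} : Set G)).map (MulAut.conj g).toMonoidHom =
      Subgroup.centralizer ({g * x * g⁻¹} : Set G) := by
  ext h
  constructor
  · rintro ⟨k, hk, rfl⟩
    have hk' : k * x = x * k := Subgroup.mem_centralizer_singleton_iff.mp hk
    rw [Subgroup.mem_centralizer_singleton_iff]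
    show g * k * g⁻¹ * (g * x * g⁻¹) = g * x * g⁻¹ * (g * k * g⁻¹)
    have e1 : g * k * g⁻¹ * (g * x * g⁻¹) = g * (k * x) * g⁻¹ := by group
    have e2 : g * x * g⁻¹ * (g * k * g⁻¹) = g * (x * k) * g⁻¹ := by group
    rw [e1, e2, hk']
  · intro hh
    have hh' : h * (g * x * g⁻¹) = g * x * g⁻¹ * h := Subgroup.mem_centralizer_singleton_iff.mp hh
    refine ⟨g⁻¹ * h * g, ?_, ?_⟩
    · rw [SetLike.mem_coe, Subgroup.mem_centralizer_singleton_iff]
      have e1 : g⁻¹ * h * g * x = g⁻¹ * (h * (g * x * g⁻¹)) * g := by group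
      have e2 : x * (g⁻¹ * h * g) = g⁻¹ * (g * x * g⁻¹ * h) * g := by group
      rw [e1, e2, hh']
    · show g * (g⁻¹ * h * g) * g⁻¹ = h
      group

/-- The order of a torus divides `N`. -/
theorem card_dvd {G : Type*} [Group G] [Finite G] {N M : ℕ} (H : TorHyp G N M)
    {C : Subgroup G} (hC : IsTorus N C) : Nat.card ↥C ∣ N := by
  obtain ⟨p, x, hp, hpN, hx, rfl⟩ := hC
  have h1 : Nat.card ↥(Subgroup.centralizer ({x} : Set G)) ∣ N * M := by
    rw [← H.card]
    exact Subgroup.card_subgroup_dvd_card _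
  exact (H.copM p x hp hpN hx).dvd_of_dvd_mul_right h1

/-- A torus is abelian. -/
theorem comm {G : Type*} [Group G] [Finite G] {N M : ℕ} (H : TorHyp G N M)
    {C : Subgroup G} (hC : IsTorus N C) : ∀ g ∈ C, ∀ k ∈ C, g * k = k * g := by
  obtain ⟨p, x, hp, hpN, hx, rfl⟩ := hC
  exact H.comm p x hp hpN hx

/-- A torus is the centraliser of each of its non-trivial elements. -/
theorem centralizer_eq {G : Type*} [Group G] [Finite G] {N M : ℕ} (H : TorHyp G N M)
    {C : Subgroup G} (hC : IsTorus N C) {y : G} (hy : y ∈ C) (hy1 : y ≠ 1) :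
    Subgroup.centralizer ({y} : Set G) = C := by
  have hcomm := comm H hC
  have hdvd := card_dvd H hC
  obtain ⟨p, x, hp, hpN, hx, rfl⟩ := hC
  obtain ⟨s, hs, hsd, hord⟩ := exists_prime_pow y hy1
  have hsN : s ∣ N := hsd.trans ((Subgroup.orderOf_dvd_natCard _ hy).trans hdvd)
  -- `C ≤ C(y)`
  have h1 : Subgroup.centralizer ({x} : Set G) ≤ Subgroup.centralizer ({y} : Set G) := by
    intro g hg
    rw [Subgroup.mem_centralizer_singleton_iff]
    exact hcomm g hg y hy
  have h2 := centralizer_le_pow y (orderOf y / s)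
  -- `x ∈ C(y')`
  have hxx : x ∈ Subgroup.centralizer ({x} : Set G) := Subgroup.mem_centralizer_singleton_iff.mpr rfl
  have hx' : x ∈ Subgroup.centralizer ({y ^ (orderOf y / s)} : Set G) := h2 (h1 hxx)
  -- `C(y') ≤ C`
  have h3 : Subgroup.centralizer ({y ^ (orderOf y / s)} : Set G) ≤
      Subgroup.centralizer ({x} : Set G) := by
    intro g hg
    rw [Subgroup.mem_centralizer_singleton_iff]
    exact H.comm s _ hs hsN hord g hg x hx'
  exact le_antisymm (h2.trans h3) h1

/-- The centraliser of a non-trivial element of order dividing `N` is a torus. -/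
theorem isTorus_centralizer {G : Type*} [Group G] [Finite G] {N M : ℕ} (H : TorHyp G N M)
    (g : G) (hg1 : g ≠ 1) (hg : orderOf g ∣ N) :
    IsTorus N (Subgroup.centralizer ({g} : Set G)) := by
  obtain ⟨s, hs, hsd, hord⟩ := exists_prime_pow g hg1
  have hsN : s ∣ N := hsd.trans hg
  have hT : IsTorus N (Subgroup.centralizer ({g ^ (orderOf g / s)} : Set G)) :=
    ⟨s, _, hs, hsN, hord, rfl⟩
  have hmem : g ∈ Subgroup.centralizer ({g ^ (orderOf g / s)} : Set G) :=
    centralizer_le_pow g _ (Subgroup.mem_centralizer_singleton_iff.mpr rfl)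
  rw [centralizer_eq H hT hmem hg1]
  exact hT

/-- Tori are TI. -/
theorem eq_of_mem_of_mem {G : Type*} [Group G] [Finite G] {N M : ℕ} (H : TorHyp G N M)
    {C C' : Subgroup G} (hC : IsTorus N C) (hC' : IsTorus N C') {y : G} (hy : y ∈ C)
    (hy' : y ∈ C') (hy1 : y ≠ 1) : C = C' := by
  rw [← centralizer_eq H hC hy hy1, ← centralizer_eq H hC' hy' hy1]

/-- Conjugates of tori are tori. -/
theorem isTorus_map_conj {G : Type*} [Group G] {N : ℕ} {C : Subgroup G} (hC : IsTorus N C)
    (g : G) : IsTorus N (C.map (MulAut.conj g).toMonoidHom) := by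
  obtain ⟨p, x, hp, hpN, hx, rfl⟩ := hC
  refine ⟨p, g * x * g⁻¹, hp, hpN, ?_, map_conj_centralizer g x⟩
  have h := (MulAut.conj g).orderOf_eq x
  rw [MulAut.conj_apply] at h
  rw [h, hx]

end Cfsg.Agent.Lib.Helper82_RH_TOR1
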