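import Mathlib
import Cfsg.Agent.Lib.Helper26_RHTorDefs
import Cfsg.Agent.Lib.Helper82_RH_TOR1
import Cfsg.Agent.Lib.Helper79_RH_TOR2

/-!
# Helper20_RH_TOR3: package TOR3 of the REEHALL market, wave 2 (architect helper26)

Every non-trivial subgroup of a torus has the same normaliser as the torus; `|N(C) : C|` divides 6.
-/

set_option autoImplicit false

open Cfsg.Agent.Lib.Helper26_RHTorDefs

namespace Cfsg.Agent.Lib.Helper20_RH_TOR3

/-- in a finite cyclic group a subgroup is determined by its order -/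
theorem eq_of_card_eq_cyc {J : Type*} [Group J] [Finite J] [IsCyclic J] (H K : Subgroup J)
    (h : Nat.card H = Nat.card K) : H = K := by
  classical
  let _ : Fintype J := Fintype.ofFinite J
  have hn0 : 0 < Nat.card H := Nat.card_pos
  have key : ∀ M : Subgroup J, Nat.card M = Nat.card H →
      (M : Set J).toFinset = Finset.univ.filter (fun a : J => a ^ Nat.card H = 1) := by
    intro M hM
    apply Finset.eq_of_subset_of_card_le
    · intro x hx
      simp only [Set.mem_toFinset, SetLike.mem_coe] at hx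
      simp only [Finset.mem_filter, Finset.mem_univ, true_and]
      have := pow_card_eq_one' (G := M) (x := ⟨x, hx⟩)
      rw [hM] at this
      exact congrArg Subtype.val this
    · calc _ ≤ Nat.card H := IsCyclic.card_pow_eq_one_le hn0
        _ = Nat.card M := hM.symm
        _ = _ := by
          rw [Set.toFinset_card, Nat.card_eq_fintype_card]
          rfl
  have h1 := key H rfl
  have h2 := key K h.symm
  have : (H : Set J) = (K : Set J) := Set.toFinset_inj.mp (h1.trans h2.symm)
  exact SetLike.coe_injective this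

/-- in a cyclic subgroup, a subgroup is determined by its order -/
theorem eq_of_card_eq_of_le_cyclic {G : Type*} [Group G] [Finite G] {P X Y : Subgroup G}
    [IsCyclic ↥P] (hX : X ≤ P) (hY : Y ≤ P) (h : Nat.card ↥X = Nat.card ↥Y) : X = Y := by
  have h1 : X.subgroupOf P = Y.subgroupOf P := by
    apply eq_of_card_eq_cyc
    rw [Nat.card_congr (Subgroup.subgroupOfEquivOfLe hX).toEquiv,
      Nat.card_congr (Subgroup.subgroupOfEquivOfLe hY).toEquiv, h]
  rw [← Subgroup.map_subgroupOf_eq_of_le hX, ← Subgroup.map_subgroupOf_eq_of_le hY, h1]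

/-- Every non-trivial subgroup of a torus has the same normaliser as the torus. -/
theorem normalizer_eq {G : Type*} [Group G] [Finite G] {N M : ℕ} (H : TorHyp G N M)
    {C : Subgroup G} (hC : IsTorus N C) (A₀ : Subgroup G) (hA : A₀ ≤ C) (hA0 : A₀ ≠ ⊥) :
    Subgroup.normalizer (A₀ : Set G) = Subgroup.normalizer (C : Set G) := by
  obtain ⟨⟨y, hyA⟩, hy1'⟩ := (Subgroup.ne_bot_iff_exists_ne_one.mp hA0)
  have hy1 : y ≠ 1 := fun h => hy1' (Subtype.ext h)
  apply le_antisymm
  · intro g hg
    rw [Subgroup.mem_normalizer_iff] at hg ⊢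
    have hgy : g * y * g⁻¹ ∈ A₀ := (hg y).mp hyA
    have hgy1 : g * y * g⁻¹ ≠ 1 := fun h => hy1 (conj_eq_one_iff.mp h)
    have e1 := Cfsg.Agent.Lib.Helper82_RH_TOR1.centralizer_eq H hC (hA hyA) hy1
    have e2 := Cfsg.Agent.Lib.Helper82_RH_TOR1.centralizer_eq H hC (hA hgy) hgy1
    intro h
    have e3 : h ∈ C ↔ h * y = y * h := by
      rw [← e1, Subgroup.mem_centralizer_singleton_iff]
    have e4 : g * h * g⁻¹ ∈ C ↔ g * h * g⁻¹ * (g * y * g⁻¹) = g * y * g⁻¹ * (g * h * g⁻¹) := by
      conv_lhs => rw [← e2]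
      rw [Subgroup.mem_centralizer_singleton_iff]
    rw [e3, e4]
    have e5 : g * h * g⁻¹ * (g * y * g⁻¹) = g * (h * y) * g⁻¹ := by group
    have e6 : g * y * g⁻¹ * (g * h * g⁻¹) = g * (y * h) * g⁻¹ := by group
    rw [e5, e6]
    constructor
    · intro e
      rw [e]
    · intro e
      exact mul_left_cancel (mul_right_cancel e)
  · intro g hg
    have hcyc : IsCyclic ↥C := Cfsg.Agent.Lib.Helper79_RH_TOR2.isCyclic H hC
    rw [Subgroup.mem_normalizer_iff] at hg
    have hle : A₀.map (MulAut.conj g).toMonoidHom ≤ C := by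
      rintro _ ⟨k, hk, rfl⟩
      exact (hg k).mp (hA hk)
    have hcard : Nat.card ↥(A₀.map (MulAut.conj g).toMonoidHom) = Nat.card ↥A₀ :=
      Subgroup.card_map_of_injective (MulAut.conj g).injective
    have hmap : A₀.map (MulAut.conj g).toMonoidHom = A₀ :=
      eq_of_card_eq_of_le_cyclic hle hA hcard
    rw [Subgroup.mem_normalizer_iff]
    intro h
    constructor
    · intro hh
      rw [← hmap]
      exact ⟨h, hh, rfl⟩
    · intro hh
      rw [← hmap] at hh
      obtain ⟨k, hk, hkh⟩ := hh
      have : k = h := (MulAut.conj g).injective hkh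
      rwa [← this]

/-- `|N(C) : C|` divides 6. -/
theorem card_normalizer_dvd {G : Type*} [Group G] [Finite G] {N M : ℕ} (H : TorHyp G N M)
    {C : Subgroup G} (hC : IsTorus N C) :
    Nat.card ↥(Subgroup.normalizer (C : Set G)) ∣ 6 * Nat.card ↥C := by
  have hC' := hC
  obtain ⟨p, x, hp, hpN, hx, rfl⟩ := hC
  have hxC : x ∈ Subgroup.centralizer ({x} : Set G) := by
    rw [Subgroup.mem_centralizer_singleton_iff]
  have hle : Subgroup.zpowers x ≤ Subgroup.centralizer ({x} : Set G) :=
    (Subgroup.zpowers_le).mpr hxC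
  have hne : Subgroup.zpowers x ≠ ⊥ := by
    intro h
    rw [Subgroup.zpowers_eq_bot] at h
    rw [h, orderOf_one] at hx
    exact hp.one_lt.ne hx
  rw [← normalizer_eq H hC' (Subgroup.zpowers x) hle hne]
  exact H.norm6 p x hp hpN hx

end Cfsg.Agent.Lib.Helper20_RH_TOR3
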