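import Mathlib
import Cfsg.Agent.Lib.Helper26_RHTorDefs
import Cfsg.Agent.Lib.Helper82_RH_TOR1

/-!
# Helper20_RH_TOR5: package TOR5 of the REEHALL market, wave 2 (architect helper26)

The non-trivial elements of order dividing `N` are partitioned by the tori.
-/

set_option autoImplicit false

open Cfsg.Agent.Lib.Helper26_RHTorDefs

namespace Cfsg.Agent.Lib.Helper20_RH_TOR5

/-- The non-trivial elements of order dividing `N` are partitioned by the tori. -/
theorem card_pi_elements {G : Type*} [Group G] [Finite G] {N M : ℕ} (H : TorHyp G N M) :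
    Nat.card {g : G // g ≠ 1 ∧ orderOf g ∣ N} =
      ∑ᶠ (C : Subgroup G) (_ : IsTorus N C), (Nat.card ↥C - 1) := by
  classical
  have : Fintype G := Fintype.ofFinite G
  have : Fintype (Subgroup G) := Fintype.ofFinite _
  set T : Finset (Subgroup G) := Finset.univ.filter (fun C : Subgroup G => IsTorus N C) with hT
  set S : Finset G := Finset.univ.filter (fun g : G => g ≠ 1 ∧ orderOf g ∣ N) with hS
  have hR : (∑ᶠ (C : Subgroup G) (_ : IsTorus N C), (Nat.card ↥C - 1)) =
      ∑ C ∈ T, (Nat.card ↥C - 1) := by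
    apply finsum_cond_eq_sum_of_cond_iff
    intro C _
    rw [hT, Finset.mem_filter]
    simp
  have hL : Nat.card {g : G // g ≠ 1 ∧ orderOf g ∣ N} = S.card := by
    rw [Nat.card_eq_fintype_card, Fintype.card_subtype]
  rw [hR, hL]
  have hmaps : ∀ g ∈ S, Subgroup.centralizer ({g} : Set G) ∈ T := by
    intro g hg
    rw [hS, Finset.mem_filter] at hg
    rw [hT, Finset.mem_filter]
    exact ⟨Finset.mem_univ _, Cfsg.Agent.Lib.Helper82_RH_TOR1.isTorus_centralizer H g hg.2.1 hg.2.2⟩
  rw [Finset.card_eq_sum_card_fiberwise hmaps]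
  refine Finset.sum_congr rfl (fun C hCT => ?_)
  have hC : IsTorus N C := by
    rw [hT, Finset.mem_filter] at hCT
    exact hCT.2
  have hfib : S.filter (fun g => Subgroup.centralizer ({g} : Set G) = C) =
      (Finset.univ.filter (fun g : G => g ∈ C)).erase 1 := by
    ext g
    rw [Finset.mem_filter, hS, Finset.mem_filter, Finset.mem_erase, Finset.mem_filter]
    constructor
    · rintro ⟨⟨-, hg1, hgN⟩, hgC⟩
      refine ⟨hg1, Finset.mem_univ _, ?_⟩
      rw [← hgC, Subgroup.mem_centralizer_singleton_iff]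
    · rintro ⟨hg1, -, hgC⟩
      refine ⟨⟨Finset.mem_univ _, hg1, ?_⟩,
        Cfsg.Agent.Lib.Helper82_RH_TOR1.centralizer_eq H hC hgC hg1⟩
      have h1 : orderOf g ∣ Nat.card ↥C := by
        have := orderOf_dvd_natCard (⟨g, hgC⟩ : ↥C)
        rwa [Subgroup.orderOf_mk] at this
      exact h1.trans (Cfsg.Agent.Lib.Helper82_RH_TOR1.card_dvd H hC)
  rw [hfib, Finset.card_erase_of_mem (by
    rw [Finset.mem_filter]
    exact ⟨Finset.mem_univ _, C.one_mem⟩)]
  congr 1
  rw [Nat.card_eq_fintype_card, Fintype.card_subtype]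

end Cfsg.Agent.Lib.Helper20_RH_TOR5
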