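import Cfsg.Agent.Lib.Helper36_GraphAutG2
import Cfsg.Agent.Lib.Helper36_ChevDataG2
import Cfsg.Agent.Lib.Helper18_ChevGL
import Cfsg.Agent.Lib.Helper18_ChevDatumG2
import Cfsg.Prelude.Def_LieTwisted

/-!
# Helper20_ReeSylP_EMB7: package EMB7 of the REE-SYLP market (architect helper37, S1156)

The twisted group `²G₂` embeds in `GL` of the 7 short indices: the short diagonal block of the
(block triangular) matrices of `G₂(K)`, `char K = 3`, is a faithful representation as soon as `G₂(K)`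
is simple (`exists_emb7_of_simple`; the simplicity is helper36's `Helper36_GraphAutG2Main.hsimple`,
kept as a hypothesis here so that this file only needs the `G₂` certificates).
-/

set_option autoImplicit false

namespace Cfsg.Agent.Lib.Helper20_ReeSylP_EMB7

open Cfsg Cfsg.Lie Cfsg.Agent.Lib.Helper36_GraphAut
  Cfsg.Agent.Lib.Helper36_GraphAutG2 Cfsg.Agent.Lib.Helper36_GraphPoly
  Cfsg.Agent.Lib.Helper36_ChevAdd

section

variable {K : Type*} [Field K] [CharP K 3]

instance charInst7 : CharP K gdata.p := inferInstanceAs (CharP K 3)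

theorem hinv7 (r : Fin chevG2.nroots) (t : K) : chevG2.xMat K r t * chevG2.xMat K r (-t) = 1 := by
  rw [xMat_add chevG2 Cfsg.Agent.Lib.Helper36_ChevDataG2.lenOK Cfsg.Agent.Lib.Helper36_ChevDataG2.addOK,
    add_neg_cancel, xMat_zero chevG2 Cfsg.Agent.Lib.Helper36_ChevDataG2.lenOK]

theorem polyOK7 : entryPoly chevG2 7 (2 + 7) (2 + 4) = [(2, -1)] ∧ gdata.shC (2 + 7) = true ∧
    gdata.shC (2 + 4) = true := by decide +kernel

/-- The short indices. -/
abbrev Sh : Type := {i : chevG2.Idx // sh chevG2 gdata i = true}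

/-- The short diagonal block of a matrix. -/
def sb (M : Matrix chevG2.Idx chevG2.Idx K) : Matrix Sh Sh K :=
  Matrix.of fun i j => M i.1 j.1

theorem sb_one : sb (1 : Matrix chevG2.Idx chevG2.Idx K) = 1 := by
  ext i j
  unfold sb
  rw [Matrix.of_apply]
  by_cases h : i = j
  · subst h
    simp
  · rw [Matrix.one_apply_ne h, Matrix.one_apply_ne (fun e => h (Subtype.ext e))]

theorem sb_mul {M M' : Matrix chevG2.Idx chevG2.Idx K} (h' : Tri chevG2 gdata M') :
    sb (M * M') = sb M * sb M' := by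
  classical
  ext i j
  unfold sb
  rw [Matrix.of_apply, Matrix.mul_apply, Matrix.mul_apply]
  simp only [Matrix.of_apply]
  rw [← Finset.sum_subtype (Finset.univ.filter (fun k : chevG2.Idx => sh chevG2 gdata k = true))
    (fun x => by simp) (fun k => M i.1 k * M' k j.1)]
  symm
  apply Finset.sum_subset (Finset.filter_subset _ _)
  intro k _ hk
  have hk' : sh chevG2 gdata k = false := by
    cases hkk : sh chevG2 gdata k
    · rfl
    · exfalso
      apply hk
      simp [hkk]
  rw [h' k j.1 hk' j.2, mul_zero]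

/-- The short block as a homomorphism on the Chevalley group. -/
def sbHom : ↥(chevG2.group K) →* Matrix Sh Sh K where
  toFun g := sb ((g : GL chevG2.Idx K) : Matrix chevG2.Idx chevG2.Idx K)
  map_one' := sb_one
  map_mul' a b := by
    show sb (((a * b : ↥(chevG2.group K)) : GL chevG2.Idx K) : Matrix chevG2.Idx chevG2.Idx K) = _
    rw [Subgroup.coe_mul, Units.val_mul]
    exact sb_mul (group_tri gok hinv7 _ b.2)

theorem sbHom_ne_one : ∃ g : ↥(chevG2.group K), sbHom g ≠ 1 := by
  refine ⟨⟨xU hinv7 ⟨7, by decide⟩ 1, xU_mem hinv7 _ _⟩, ?_⟩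
  intro h
  have hs7 : sh chevG2 gdata (Sum.inr ⟨7, by decide⟩) = true := polyOK7.2.1
  have hs4 : sh chevG2 gdata (Sum.inr ⟨4, by decide⟩) = true := polyOK7.2.2
  have h1 := congrFun (congrFun h ⟨Sum.inr ⟨7, by decide⟩, hs7⟩) ⟨Sum.inr ⟨4, by decide⟩, hs4⟩
  have hne : (⟨Sum.inr ⟨7, by decide⟩, hs7⟩ : Sh) ≠ ⟨Sum.inr ⟨4, by decide⟩, hs4⟩ := by
    intro e
    have h74 : (Sum.inr ⟨7, by decide⟩ : chevG2.Idx) = Sum.inr ⟨4, by decide⟩ := congrArg Subtype.val e
    exact absurd h74 (by decide)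
  rw [Matrix.one_apply_ne hne] at h1
  have h3 : sbHom (⟨xU (K := K) hinv7 ⟨7, by decide⟩ 1, xU_mem hinv7 _ _⟩ : ↥(chevG2.group K))
      ⟨Sum.inr ⟨7, by decide⟩, hs7⟩ ⟨Sum.inr ⟨4, by decide⟩, hs4⟩ =
      chevG2.xMat K ⟨7, by decide⟩ 1 (Sum.inr ⟨7, by decide⟩) (Sum.inr ⟨4, by decide⟩) := rfl
  rw [h3, xMat_entry] at h1
  have h4 : entryPoly chevG2 (⟨7, by decide⟩ : Fin chevG2.nroots).val
      (code chevG2 (Sum.inr ⟨7, by decide⟩)) (code chevG2 (Sum.inr ⟨4, by decide⟩)) = [(2, -1)] :=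
    polyOK7.1
  rw [h4] at h1
  simp [evalP] at h1

theorem sbHom_injective (hs : IsSimpleGroup ↥(chevG2.group K)) :
    Function.Injective (sbHom (K := K)) := by
  rw [← MonoidHom.ker_eq_bot_iff]
  rcases (MonoidHom.normal_ker (sbHom (K := K))).eq_bot_or_eq_top with h1 | h1
  · exact h1
  · exfalso
    obtain ⟨g, hg⟩ := sbHom_ne_one (K := K)
    apply hg
    have : g ∈ (sbHom (K := K)).ker := by
      rw [h1]
      exact Subgroup.mem_top _
    exact MonoidHom.mem_ker.mp this

theorem twisted_le_group (e : ℕ) : twistedG2 K e ≤ chevG2.group K := by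
  unfold twistedG2 ChevalleyDatum.genSubgroup
  rw [Subgroup.closure_le]
  rintro g ⟨w, -, hg⟩
  rw [Cfsg.Agent.Lib.Helper18_ChevGL.eq_wordGL Cfsg.Agent.Lib.Helper18_ChevDatumG2.dcert hg]
  exact Cfsg.Agent.Lib.Helper18_ChevGL.wordGL_mem_group _ w

end

section emb

variable {K : Type*} [Field K] [Fintype K] [CharP K 3] {m : ℕ}

theorem exists_emb7_of_simple (hs : IsSimpleGroup ↥(chevG2.group K)) :
    ∃ f : ↥(twistedG2 K (3 ^ m)) →* GL {i : chevG2.Idx // sh chevG2 gdata i = true} K,
      Function.Injective f := by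
  refine ⟨((sbHom (K := K)).toHomUnits).comp (Subgroup.inclusion (twisted_le_group (3 ^ m))), ?_⟩
  intro a b hab
  apply Subgroup.inclusion_injective (twisted_le_group (K := K) (3 ^ m))
  apply sbHom_injective hs
  have := congrArg (fun u : GL {i : chevG2.Idx // sh chevG2 gdata i = true} K =>
    (u : Matrix {i : chevG2.Idx // sh chevG2 gdata i = true}
      {i : chevG2.Idx // sh chevG2 gdata i = true} K)) hab
  exact this

theorem card_short : Fintype.card {i : chevG2.Idx // sh chevG2 gdata i = true} = 7 := by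
  decide

end emb

end Cfsg.Agent.Lib.Helper20_ReeSylP_EMB7
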