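import Mathlib
import Cfsg.Agent.Lib.Helper40_SylowLarge

/-!
# Helper20_ReeSylP_GL7CYC: package GL7CYC of the REE-SYLP market (architect helper37, S1156)

If `p ≠ 3` is a prime dividing `q² - q + 1`, every `p`-subgroup of `GL₇(q)` is cyclic.
-/

set_option autoImplicit false
open scoped MatrixGroups

namespace Cfsg.Agent.Lib.Helper20_ReeSylP_GL7CYC

open Cfsg.Agent.Lib.Helper40_SylowLarge

/-- `q` has order `6` modulo a prime `p ≠ 3` dividing `q² - q + 1`. -/
theorem order_six (p q : ℕ) [hp : Fact p.Prime] (hp3 : p ≠ 3) (hdvd : p ∣ q ^ 2 - q + 1) :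
    ¬ p ∣ q ∧ orderOf (q : ZMod p) = 6 := by
  have hle : q ≤ q ^ 2 := by nlinarith [Nat.zero_le q]
  have hx : ((q : ZMod p)) ^ 2 - (q : ZMod p) + 1 = 0 := by
    have := (ZMod.natCast_eq_zero_iff _ p).mpr hdvd
    rw [Nat.cast_add, Nat.cast_sub hle] at this
    push_cast at this
    exact this
  obtain ⟨x, hxdef⟩ : ∃ x : ZMod p, x = (q : ZMod p) := ⟨_, rfl⟩
  rw [← hxdef] at hx ⊢
  have h10 : (1 : ZMod p) ≠ 0 := one_ne_zero
  have hx0 : x ≠ 0 := by
    rintro rfl
    apply h10
    simpa using hx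
  have hpq : ¬ p ∣ q := by
    intro h
    apply hx0
    rw [hxdef]
    exact (ZMod.natCast_eq_zero_iff q p).mpr h
  refine ⟨hpq, ?_⟩
  have hx3 : x ^ 3 = -1 := by
    have : x ^ 3 + 1 = (x + 1) * (x ^ 2 - x + 1) := by ring
    rw [hx, mul_zero] at this
    exact eq_neg_of_add_eq_zero_left this
  have hx6 : x ^ 6 = 1 := by
    have : x ^ 6 = (x ^ 3) ^ 2 := by ring
    rw [this, hx3]; ring
  have hd : orderOf x ∣ 6 := orderOf_dvd_of_pow_eq_one hx6
  have h6 : orderOf x ≤ 6 := Nat.le_of_dvd (by norm_num) hd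
  have hpos : 0 < orderOf x := Nat.pos_of_dvd_of_pos hd (by norm_num)
  have hne1 : orderOf x ≠ 1 := by
    intro h
    have hx1 : x = 1 := orderOf_eq_one_iff.mp h
    rw [hx1] at hx
    apply h10
    simpa using hx
  have hne2 : orderOf x ≠ 2 := by
    intro h
    have hx2 : x ^ 2 = 1 := by rw [← h]; exact pow_orderOf_eq_one x
    have hxe : x = 2 := by
      rw [hx2] at hx
      have : x = 1 + 1 := by
        have h' : (1 : ZMod p) + 1 - x = 0 := by rw [← hx]; ring
        exact (sub_eq_zero.mp h').symm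
      rw [this]; norm_num
    rw [hxe] at hx2
    have h3 : ((3 : ℕ) : ZMod p) = 0 := by
      have : (2 : ZMod p) ^ 2 - 1 = 0 := by rw [hx2]; ring
      push_cast
      rw [← this]; ring
    have := (ZMod.natCast_eq_zero_iff 3 p).mp h3
    exact hp3 ((Nat.prime_dvd_prime_iff_eq hp.out Nat.prime_three).mp this)
  have hne3 : orderOf x ≠ 3 := by
    intro h
    have hx3' : x ^ 3 = 1 := by rw [← h]; exact pow_orderOf_eq_one x
    rw [hx3] at hx3'
    have h2 : ((2 : ℕ) : ZMod p) = 0 := by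
      push_cast
      have : (1 : ZMod p) + 1 = 1 + (-1) := by rw [hx3']
      rw [show (2 : ZMod p) = 1 + 1 by norm_num, this]; ring
    have hp2 := (ZMod.natCast_eq_zero_iff 2 p).mp h2
    have hpe : p = 2 := (Nat.prime_dvd_prime_iff_eq hp.out Nat.prime_two).mp hp2
    -- `q² - q + 1` is odd
    rw [hpe] at hdvd
    have hodd : (q ^ 2 - q + 1) % 2 = 1 := by
      have h4 : 2 ∣ q ^ 2 - q := by
        have : q ^ 2 - q = q * (q - 1) := by
          rw [Nat.mul_sub, mul_one, sq]
        rw [this]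
        rcases Nat.even_or_odd q with he | ho
        · exact Dvd.dvd.mul_right he.two_dvd _
        · have : Even (q - 1) := by
            obtain ⟨k, hk⟩ := ho
            exact ⟨k, by omega⟩
          exact Dvd.dvd.mul_left this.two_dvd _
      omega
    omega
  interval_cases (orderOf x) <;> simp_all

/-- The `p`-part of `|GL₇(q)|` when `q` has order `6` modulo `p`. -/
theorem factorization_gl7 (p q : ℕ) [hp : Fact p.Prime] (hq : 2 ≤ q) (hpq : ¬ p ∣ q)
    (he : orderOf (q : ZMod p) = 6) :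
    (∏ i : Fin 7, (q ^ 7 - q ^ (i : ℕ))).factorization p = (q ^ 6 - 1).factorization p := by
  rw [Fin.prod_univ_eq_prod_range (fun i => q ^ 7 - q ^ i) 7]
  have hne : ∀ i ∈ Finset.range 7, q ^ 7 - q ^ i ≠ 0 := by
    intro i hi
    have : q ^ i < q ^ 7 := Nat.pow_lt_pow_right (by omega) (Finset.mem_range.mp hi)
    omega
  rw [Nat.factorization_prod hne, Finsupp.finsetSum_apply]
  have h1 : ∀ i ∈ Finset.range 7, (q ^ 7 - q ^ i).factorization p =
      if i = 1 then (q ^ 6 - 1).factorization p else 0 := by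
    intro i hi
    have hi' := Finset.mem_range.mp hi
    obtain ⟨j, hj⟩ : ∃ j, j = 7 - i := ⟨_, rfl⟩
    have e1 : q ^ 7 - q ^ i = q ^ i * (q ^ j - 1) := by
      have : 7 = i + j := by omega
      rw [this, pow_add, Nat.mul_sub, mul_one]
    have h0 : q ^ j - 1 ≠ 0 := by
      have : 1 < q ^ j := Nat.one_lt_pow (by omega) (by omega)
      omega
    rw [e1, Nat.factorization_mul (pow_ne_zero _ (by omega)) h0, Finsupp.add_apply,
      Nat.factorization_pow, Finsupp.smul_apply, Nat.factorization_eq_zero_of_not_dvd hpq,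
      smul_zero, zero_add]
    split_ifs with h
    · have : j = 6 := by omega
      rw [this]
    · apply Nat.factorization_eq_zero_of_not_dvd
      intro hd
      have h2 := (dvd_pow_sub_one_iff p (by omega) j).mp hd
      rw [he] at h2
      omega
  rw [Finset.sum_congr rfl h1, Finset.sum_ite_eq']
  simp

/-- Every Sylow `p`-subgroup of `GL₇(q)` is cyclic. -/
theorem sylow_gl7_cyclic {F : Type*} [Field F] [Fintype F] (p : ℕ) [Fact p.Prime] (hp3 : p ≠ 3)
    (hp : p ∣ Fintype.card F ^ 2 - Fintype.card F + 1) (P : Sylow p (GL (Fin 7) F)) :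
    IsCyclic (P : Subgroup (GL (Fin 7) F)) := by
  classical
  have hq2 : 2 ≤ Fintype.card F := Fintype.one_lt_card
  obtain ⟨hpq, he⟩ := order_six p (Fintype.card F) hp3 hp
  -- the extension field of degree 6
  obtain ⟨p₀, hp₀⟩ := CharP.exists F
  have := hp₀
  have : Fact p₀.Prime := ⟨CharP.char_is_prime F p₀⟩
  have hfr : Module.finrank F (FiniteField.Extension F p₀ 6) = 6 :=
    FiniteField.finrank_extension F p₀ 6
  have hKcard : Nat.card (FiniteField.Extension F p₀ 6)ˣ = Fintype.card F ^ 6 - 1 := by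
    rw [Nat.card_units, FiniteField.natCard_extension, Nat.card_eq_fintype_card]
  have hcardGL : (Nat.card (GL (Fin 7) F)).factorization p =
      (Fintype.card F ^ 6 - 1).factorization p := by
    rw [Matrix.card_GL_field]
    exact factorization_gl7 p (Fintype.card F) hq2 hpq he
  obtain ⟨f, hf⟩ := exists_zmod_embedding (G := (FiniteField.Extension F p₀ 6)ˣ)
    (N := p ^ (Fintype.card F ^ 6 - 1).factorization p)
    (by rw [hKcard]; exact Nat.ordProj_dvd _ _)
  obtain ⟨Φ, hΦ⟩ := exists_torus_embedding (F := F) (K := FiniteField.Extension F p₀ 6) 1 7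
    (by rw [hfr]; norm_num)
  let ι : (FiniteField.Extension F p₀ 6)ˣ →* (Fin 1 → (FiniteField.Extension F p₀ 6)ˣ) :=
    (MulEquiv.funUnique (Fin 1) (FiniteField.Extension F p₀ 6)ˣ).symm.toMonoidHom
  have hι : Function.Injective ι :=
    (MulEquiv.funUnique (Fin 1) (FiniteField.Extension F p₀ 6)ˣ).symm.injective
  obtain ⟨e⟩ := sylow_mulEquiv_of_injective p (Φ.comp (ι.comp f)) (hΦ.comp (hι.comp hf))
    (by
      rw [hcardGL, Nat.card_eq_fintype_card, Fintype.card_multiplicative, ZMod.card]) P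
  have hpos : NeZero (p ^ (Fintype.card F ^ 6 - 1).factorization p) :=
    ⟨pow_ne_zero _ (Fact.out : p.Prime).ne_zero⟩
  have hcyc : IsCyclic (Multiplicative (ZMod (p ^ (Fintype.card F ^ 6 - 1).factorization p))) :=
    inferInstance
  exact isCyclic_of_surjective e.symm.toMonoidHom e.symm.surjective

/-- Every `p`-subgroup of `GL₇(q)` is cyclic. -/
theorem gl7_fin_pgroup_cyclic {F : Type*} [Field F] [Fintype F] (p : ℕ) [Fact p.Prime]
    (hp3 : p ≠ 3) (hp : p ∣ Fintype.card F ^ 2 - Fintype.card F + 1)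
    (Q : Subgroup (GL (Fin 7) F)) (hQ : IsPGroup p Q) : IsCyclic Q := by
  obtain ⟨P, hQP⟩ := hQ.exists_le_sylow
  have hc : IsCyclic (P : Subgroup (GL (Fin 7) F)) := sylow_gl7_cyclic p hp3 hp P
  have : IsCyclic (Q.subgroupOf (P : Subgroup (GL (Fin 7) F))) := inferInstance
  exact isCyclic_of_surjective (Subgroup.subgroupOfEquivOfLe hQP).toMonoidHom
    (Subgroup.subgroupOfEquivOfLe hQP).surjective

theorem gl7_pgroup_cyclic {n : Type*} [Fintype n] [DecidableEq n] (hn : Fintype.card n = 7)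
    {F : Type*} [Field F] [Fintype F] (p : ℕ) [Fact p.Prime] (hp3 : p ≠ 3)
    (hp : p ∣ Fintype.card F ^ 2 - Fintype.card F + 1) (Q : Subgroup (GL n F)) (hQ : IsPGroup p Q) :
    IsCyclic Q := by
  let e : n ≃ Fin 7 := Fintype.equivFinOfCardEq hn
  let φ : GL n F ≃* GL (Fin 7) F := Units.mapEquiv (Matrix.reindexAlgEquiv F F e).toMulEquiv
  have hQ' : IsPGroup p (Q.map φ.toMonoidHom) := hQ.map φ.toMonoidHom
  have hc := gl7_fin_pgroup_cyclic p hp3 hp (Q.map φ.toMonoidHom) hQ'
  let ψ : Q ≃* Q.map φ.toMonoidHom := Q.equivMapOfInjective φ.toMonoidHom φ.injective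
  exact isCyclic_of_surjective ψ.symm.toMonoidHom ψ.symm.surjective

end Cfsg.Agent.Lib.Helper20_ReeSylP_GL7CYC
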