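import Mathlib
import Cfsg.Agent.Lib.Helper91_U3Closure

/-!
# Helper71_S2149Defs: definitions for S2149 (minimal index 50 in `PSU(3,5)`)

helper71.  Generic notions for a permutation representation `θ : G →* Perm U` (point stabiliser,
transitivity of a subgroup, 2-transitivity), and the Borel subgroup `BB`, its unipotent radical `QB`
and the root group `ZB` of `SU(3,5)` in helper91's model (`K25`, `thetaX` on the 126 isotropic
points).
-/

set_option autoImplicit false

namespace Cfsg.Agent.Lib.Helper71_S2149Defs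

open Cfsg.Agent.Lib.Helper91_K25 Cfsg.Agent.Lib.Helper91_U3Pts Cfsg.Agent.Lib.Helper91_U3Theta
  Matrix

/-! ### generic notions -/

section generic

variable {G U : Type*} [Group G]

/-- the stabiliser of the point `u` -/
def Stab (θ : G →* Equiv.Perm U) (u : U) : Subgroup G :=
  (MulAction.stabilizer (Equiv.Perm U) u).comap θ

theorem mem_Stab (θ : G →* Equiv.Perm U) (u : U) (g : G) : g ∈ Stab θ u ↔ θ g u = u := Iff.rfl

/-- the subgroup `H` is transitive -/
def Trans (θ : G →* Equiv.Perm U) (H : Subgroup G) : Prop := ∀ a b : U, ∃ h ∈ H, θ h a = b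

/-- the action is 2-transitive -/
def TwoTrans (θ : G →* Equiv.Perm U) : Prop :=
  ∀ a b c d : U, a ≠ b → c ≠ d → ∃ g : G, θ g a = c ∧ θ g b = d

end generic

/-! ### the model -/

/-- the base isotropic vector `(1, 2, 0)`, spanning the point `0` -/
def u0 : V := pt (iota 0)

theorem hu0 : hf u0 u0 = 0 := (pt_iso (iota 0) (by decide)).1

theorem u0_ne : u0 ≠ 0 := (pt_iso (iota 0) (by decide)).2

/-- the Borel subgroup: the stabiliser of the point `0` -/
noncomputable abbrev BB : Subgroup SU3 := Stab thetaX 0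

theorem mem_BB (g : SU3) : g ∈ BB ↔ thetaX g 0 = 0 := Iff.rfl

/-- the unipotent radical: the elements of `BB` fixing the vector `u0` -/
noncomputable def QB : Subgroup ↥BB where
  carrier := {g | toM (g : SU3) *ᵥ u0 = u0}
  mul_mem' := by
    intro a b ha hb
    show toM ((a * b : ↥BB) : SU3) *ᵥ u0 = u0
    rw [Subgroup.coe_mul, map_mul, ← Matrix.mulVec_mulVec, show toM (b : SU3) *ᵥ u0 = u0 from hb]
    exact ha
  one_mem' := by
    show toM ((1 : ↥BB) : SU3) *ᵥ u0 = u0
    rw [Subgroup.coe_one, map_one, Matrix.one_mulVec]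
  inv_mem' := by
    intro a ha
    show toM ((a⁻¹ : ↥BB) : SU3) *ᵥ u0 = u0
    have h : toM (a : SU3) *ᵥ u0 = u0 := ha
    conv_lhs => rw [← h]
    rw [Matrix.mulVec_mulVec, Subgroup.coe_inv, ← map_mul, inv_mul_cancel, map_one,
      Matrix.one_mulVec]

theorem mem_QB (g : ↥BB) : g ∈ QB ↔ toM (g : SU3) *ᵥ u0 = u0 := Iff.rfl

/-- the root element: the transvection `x ↦ x + s h(x,u0) u0` -/
def t0 : SU3 := T u0 hu0

theorem t0_mem : t0 ∈ BB := by
  rw [mem_BB]
  apply iota_injective
  rw [thetaX_spec]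
  show theta (T u0 hu0) (iota 0) = iota 0
  rw [theta_T]
  have : tv u0 (pt (iota 0)) = u0 := by
    show u0 + (c0 * hf u0 u0) • u0 = u0
    rw [hu0, mul_zero, zero_smul, add_zero]
  rw [this]
  exact nrm_pt _

/-- the root group of the point `0` (of order 5), as a subgroup of `BB` -/
noncomputable def ZB : Subgroup ↥BB := Subgroup.zpowers (⟨t0, t0_mem⟩ : ↥BB)

end Cfsg.Agent.Lib.Helper71_S2149Defs
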