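import Mathlib
import Cfsg.Agent.Lib.Helper71_S2149Defs

/-!
# Helper20_S2149_FISHER: package S2149-FISHER (architect helper71)

Fisher inequality: a subgroup `H` of a 2-transitive group `G` on `U` of index `< |U|` is transitive.
Proof: the linear map `(U → ℚ) → (G ⧸ H → ℚ)` given by summing over the translates of an `H`-invariant
proper nonempty subset is injective.
-/

set_option autoImplicit false

namespace Cfsg.Agent.Lib.Helper20_S2149_FISHER

open Cfsg.Agent.Lib.Helper71_S2149Defs



theorem core_inj {G U : Type*} [Group G] [Fintype G] [Fintype U] [DecidableEq U]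
    (θ : G →* Equiv.Perm U)
    (h2 : TwoTrans θ) (χ : U → ℚ) (h01 : ∀ u, χ u = 0 ∨ χ u = 1) (a b : U)
    (ha : χ a = 1) (hb : χ b = 0) (f : U → ℚ)
    (hf : ∀ g : G, ∑ v, χ (θ g v) * f v = 0) : f = 0 := by
  have hab : a ≠ b := by
    rintro rfl
    rw [ha] at hb
    norm_num at hb
  have h0 : ∀ u, 0 ≤ χ u := by
    intro u
    rcases h01 u with h | h <;> rw [h]
    norm_num
  set N : U → U → ℚ := fun w v => ∑ g : G, χ (θ g w) * χ (θ g v) with hN
  have hNinv : ∀ (k : G) (w v : U), N (θ k w) (θ k v) = N w v := by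
    intro k w v
    simp only [hN]
    symm
    refine Fintype.sum_equiv (Equiv.mulRight k⁻¹) _ _ ?_
    intro g
    simp [map_mul]
  have hkey : ∀ w, ∑ v, N w v * f v = 0 := by
    intro w
    simp only [hN]
    calc ∑ v, (∑ g : G, χ (θ g w) * χ (θ g v)) * f v
        = ∑ v, ∑ g : G, χ (θ g w) * (χ (θ g v) * f v) := by
          refine Finset.sum_congr rfl fun v _ => ?_
          rw [Finset.sum_mul]
          refine Finset.sum_congr rfl fun g _ => by ring
      _ = ∑ g : G, ∑ v, χ (θ g w) * (χ (θ g v) * f v) := Finset.sum_comm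
      _ = ∑ g : G, χ (θ g w) * ∑ v, χ (θ g v) * f v := by
          refine Finset.sum_congr rfl fun g _ => ?_
          rw [Finset.mul_sum]
      _ = 0 := by simp [hf]
  have hl0 : 0 ≤ N a b := Finset.sum_nonneg fun g _ => mul_nonneg (h0 _) (h0 _)
  have hlr : N a b < N a a := by
    have h1 : N a a - N a b = ∑ g : G, χ (θ g a) * (χ (θ g a) - χ (θ g b)) := by
      simp only [hN, ← Finset.sum_sub_distrib, mul_sub]
    have h2' : ∀ g ∈ (Finset.univ : Finset G), 0 ≤ χ (θ g a) * (χ (θ g a) - χ (θ g b)) := by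
      intro g _
      rcases h01 (θ g a) with h | h <;> rcases h01 (θ g b) with h' | h' <;> rw [h, h'] <;> norm_num
    have h3 := Finset.single_le_sum h2' (Finset.mem_univ (1 : G))
    simp only [map_one, Equiv.Perm.coe_one, id_eq, ha, hb] at h3
    linarith
  have hNne : ∀ w v, w ≠ v → N w v = N a b := by
    intro w v hwv
    obtain ⟨k, hk1, hk2⟩ := h2 a b w v hab hwv
    rw [← hk1, ← hk2, hNinv]
  have hNeq : ∀ w, N w w = N a a := by
    intro w
    obtain ⟨d, hd⟩ : ∃ d, w ≠ d := by
      by_cases hwa : w = a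
      · exact ⟨b, by rw [hwa]; exact hab⟩
      · exact ⟨a, hwa⟩
    obtain ⟨k, hk1, _⟩ := h2 a b w d hab hd
    rw [← hk1, hNinv]
  set r := N a a with hr
  set l := N a b with hl
  set S := ∑ v, f v with hS
  have hrow : ∀ w, (r - l) * f w + l * S = 0 := by
    intro w
    have hNw : ∀ v, N w v = l + (if v = w then r - l else 0) := by
      intro v
      by_cases hvw : v = w
      · rw [hvw, hNeq w, if_pos rfl]; ring
      · rw [hNne w v (Ne.symm hvw), if_neg hvw]; ring
    have := hkey w
    simp only [hNw, add_mul, Finset.sum_add_distrib, ite_mul, zero_mul,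
      Finset.sum_ite_eq', Finset.mem_univ, if_true, ← Finset.mul_sum] at this
    linarith
  have hS0 : S = 0 := by
    have hsum : ∑ w, ((r - l) * f w + l * S) = 0 := Finset.sum_eq_zero fun w _ => hrow w
    rw [Finset.sum_add_distrib, ← Finset.mul_sum, Finset.sum_const, Finset.card_univ,
      nsmul_eq_mul] at hsum
    have hpos : 0 < (r - l) + (Fintype.card U : ℚ) * l := by
      have : (0 : ℚ) ≤ (Fintype.card U : ℚ) * l := mul_nonneg (Nat.cast_nonneg _) hl0
      linarith
    have : ((r - l) + (Fintype.card U : ℚ) * l) * S = 0 := by linarith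
    rcases mul_eq_zero.mp this with h | h
    · linarith
    · exact h
  funext w
  have := hrow w
  rw [hS0, mul_zero, add_zero] at this
  rcases mul_eq_zero.mp this with h | h
  · linarith
  · exact h

theorem fisher {G U : Type*} [Group G] [Finite G] [Fintype U] (θ : G →* Equiv.Perm U)
    (h2 : TwoTrans θ) (H : Subgroup G) (hH : H.index < Fintype.card U) : Trans θ H := by
  classical
  by_contra hnt
  unfold Helper71_S2149Defs.Trans at hnt
  push Not at hnt
  obtain ⟨a, b, hab⟩ := hnt
  haveI : Fintype G := Fintype.ofFinite G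
  haveI : Fintype (G ⧸ H) := Fintype.ofFinite _
  set χ : U → ℚ := fun u => if ∃ k ∈ H, θ k a = u then 1 else 0 with hχ
  have hχa : χ a = 1 := by
    simp only [hχ]
    rw [if_pos]
    exact ⟨1, H.one_mem, by simp⟩
  have hχb : χ b = 0 := by
    simp only [hχ]
    rw [if_neg]
    rintro ⟨k, hk, hkb⟩
    exact hab k hk hkb
  have hχ01 : ∀ u, χ u = 0 ∨ χ u = 1 := by
    intro u
    simp only [hχ]
    split_ifs
    · right; rfl
    · left; rfl
  have hχinv : ∀ h ∈ H, ∀ u, χ (θ h u) = χ u := by
    intro h hh u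
    simp only [hχ]
    have : (∃ k ∈ H, θ k a = θ h u) ↔ (∃ k ∈ H, θ k a = u) := by
      constructor
      · rintro ⟨k, hk, hku⟩
        refine ⟨h⁻¹ * k, H.mul_mem (H.inv_mem hh) hk, ?_⟩
        rw [map_mul, Equiv.Perm.mul_apply, hku, ← Equiv.Perm.mul_apply, ← map_mul,
          inv_mul_cancel, map_one, Equiv.Perm.one_apply]
      · rintro ⟨k, hk, hku⟩
        refine ⟨h * k, H.mul_mem hh hk, ?_⟩
        rw [map_mul, Equiv.Perm.mul_apply, hku]
    simp only [this]
  let Φ : (U → ℚ) →ₗ[ℚ] ((G ⧸ H) → ℚ) :=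
    { toFun := fun f c => ∑ v, χ (θ (c.out)⁻¹ v) * f v
      map_add' := by
        intro f g
        funext c
        simp [mul_add, Finset.sum_add_distrib]
      map_smul' := by
        intro r f
        funext c
        simp [Finset.mul_sum, mul_left_comm] }
  have hinj : Function.Injective Φ := by
    rw [← LinearMap.ker_eq_bot, LinearMap.ker_eq_bot']
    intro f hf
    apply core_inj θ h2 χ hχ01 a b hχa hχb f
    intro g
    have h1 := congrFun hf (QuotientGroup.mk g⁻¹ : G ⧸ H)
    change ∑ v, χ (θ ((QuotientGroup.mk g⁻¹ : G ⧸ H).out)⁻¹ v) * f v = 0 at h1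
    rw [← h1]
    refine Finset.sum_congr rfl fun v _ => ?_
    congr 1
    have hmem : g * (QuotientGroup.mk g⁻¹ : G ⧸ H).out ∈ H := by
      have := QuotientGroup.mk_out_eq_mul H g⁻¹
      obtain ⟨h, hh⟩ := this
      rw [hh, ← mul_assoc, mul_inv_cancel, one_mul]
      exact h.2
    have := hχinv _ hmem (θ ((QuotientGroup.mk g⁻¹ : G ⧸ H).out)⁻¹ v)
    rw [← this, ← Equiv.Perm.mul_apply, ← map_mul, mul_assoc, mul_inv_cancel, mul_one]
  have hle := LinearMap.finrank_le_finrank_of_injective hinj
  simp only [Module.finrank_fintype_fun_eq_card] at hle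
  rw [Subgroup.index, Nat.card_eq_fintype_card] at hH
  omega

end Cfsg.Agent.Lib.Helper20_S2149_FISHER
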