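import Mathlib
import Cfsg.Agent.Lib.Helper71_S2149Defs

/-!
# Helper20_S2149_MSTAR: package S2149-MSTAR (architect helper71)

No involution of the Borel subgroup `BB` of `SU(3,5)` commutes with an element of `QB` outside the
root group `ZB`.  Proof in the adapted basis `u0 = (1,2,0)`, `w1 = (0,0,1)`, `u1 = (3,4,0)`
(Gram matrix antidiagonal): elements of `BB` are upper triangular.
-/

set_option autoImplicit false

namespace Cfsg.Agent.Lib.Helper20_S2149_MSTAR

open Cfsg.Agent.Lib.Helper91_K25 Cfsg.Agent.Lib.Helper91_U3Pts Cfsg.Agent.Lib.Helper91_U3Theta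
  Cfsg.Agent.Lib.Helper71_S2149Defs Matrix

/-- the vector `(0,0,1)` -/
def w1 : V := ![0, 0, 1]

/-- the isotropic vector `(3,4,0)` -/
def u1 : V := ![⟨3⟩, ⟨4⟩, 0]

theorem u0_eq : u0 = ![1, ⟨2⟩, 0] := by decide +kernel

/-- the vector with coordinates `p q r` in the adapted basis -/
def co (p q r : K25) : V := p • u0 + q • w1 + r • u1

theorem hf_add_left (x y z : V) : hf (x + y) z = hf x z + hf y z := by
  unfold hf
  simp only [Pi.add_apply]
  ring

theorem hf_smul_left (c : K25) (x z : V) : hf (c • x) z = c * hf x z := by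
  unfold hf
  simp only [Pi.smul_apply, smul_eq_mul]
  ring

theorem hf_vals : hf u0 u1 = 1 ∧ hf w1 u1 = 0 ∧ hf u1 u1 = 0 ∧ hf u0 w1 = 0 ∧ hf w1 w1 = 1 ∧
    hf u1 w1 = 0 ∧ hf u0 u0 = 0 ∧ hf w1 u0 = 0 ∧ hf u1 u0 = 1 := by decide +kernel

theorem hf_co (p q r : K25) :
    hf (co p q r) u1 = p ∧ hf (co p q r) w1 = q ∧ hf (co p q r) u0 = r := by
  obtain ⟨h1, h2, h3, h4, h5, h6, h7, h8, h9⟩ := hf_vals
  unfold co
  simp only [hf_add_left, hf_smul_left, h1, h2, h3, h4, h5, h6, h7, h8, h9, mul_one, mul_zero,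
    add_zero, zero_add, and_self]

theorem co_inj {p q r p' q' r' : K25} (h : co p q r = co p' q' r') : p = p' ∧ q = q' ∧ r = r' := by
  obtain ⟨h1, h2, h3⟩ := hf_co p q r
  obtain ⟨h1', h2', h3'⟩ := hf_co p' q' r'
  rw [h] at h1 h2 h3
  exact ⟨h1.symm.trans h1', h2.symm.trans h2', h3.symm.trans h3'⟩

theorem co_surj (v : V) : ∃ p q r : K25, v = co p q r := by
  have hinj : Function.Injective (fun x : K25 × K25 × K25 => co x.1 x.2.1 x.2.2) := by
    intro x y h
    obtain ⟨h1, h2, h3⟩ := co_inj h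
    exact Prod.ext h1 (Prod.ext h2 h3)
  have hcard : Fintype.card (K25 × K25 × K25) = Fintype.card V := by
    simp only [Fintype.card_prod, Fintype.card_pi, K25.card, Finset.prod_const, Finset.card_univ,
      Fintype.card_fin]
    norm_num
  have hbij := (Fintype.bijective_iff_injective_and_card _).2 ⟨hinj, hcard⟩
  obtain ⟨x, hx⟩ := hbij.2 v
  exact ⟨x.1, x.2.1, x.2.2, hx.symm⟩

theorem decomp (v : V) : v = co (hf v u1) (hf v w1) (hf v u0) := by
  obtain ⟨p, q, r, rfl⟩ := co_surj v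
  obtain ⟨h1, h2, h3⟩ := hf_co p q r
  rw [h1, h2, h3]

theorem co_add (p q r p' q' r' : K25) : co p q r + co p' q' r' = co (p + p') (q + q') (r + r') := by
  unfold co
  module

theorem co_smul (s p q r : K25) : s • co p q r = co (s * p) (s * q) (s * r) := by
  unfold co
  simp only [smul_add, smul_smul]

theorem u0_co : u0 = co 1 0 0 := by
  unfold co
  simp

theorem w1_co : w1 = co 0 1 0 := by
  unfold co
  simp

theorem u1_co : u1 = co 0 0 1 := by
  unfold co
  simp

theorem mulVec_co (A : M3) (p q r : K25) :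
    A *ᵥ co p q r = p • (A *ᵥ u0) + q • (A *ᵥ w1) + r • (A *ᵥ u1) := by
  unfold co
  rw [Matrix.mulVec_add, Matrix.mulVec_add, Matrix.mulVec_smul, Matrix.mulVec_smul,
    Matrix.mulVec_smul]

theorem hf_smul_right (c : K25) (x z : V) : hf x (c • z) = K25.cj c * hf x z := by
  have hm : ∀ a b : K25, K25.cj (a * b) = K25.cj a * K25.cj b := by decide +kernel
  unfold hf
  simp only [Pi.smul_apply, smul_eq_mul, hm]
  ring

theorem cj_of_sq : ∀ c : K25, c * c = 1 → K25.cj c = c ∧ (c = 1 ∨ c = -1) := by decide +kernel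

theorem hf_w1_u0 : hf w1 u0 = 0 := hf_vals.2.2.2.2.2.2.2.1

theorem hf_u1_u0 : hf u1 u0 = 1 := hf_vals.2.2.2.2.2.2.2.2

theorem hf_u1_u1 : hf u1 u1 = 0 := hf_vals.2.2.1

/-- the matrix with columns `u0 w1 u1` -/
def Pm : M3 := !![1, 0, ⟨3⟩; ⟨2⟩, 0, ⟨4⟩; 0, 1, 0]

theorem det_Pm : Pm.det ≠ 0 := by
  rw [Matrix.det_fin_three]
  decide +kernel

theorem Pm_col0 : (fun k => Pm k 0) = u0 := by decide +kernel
theorem Pm_col1 : (fun k => Pm k 1) = w1 := by decide +kernel
theorem Pm_col2 : (fun k => Pm k 2) = u1 := by decide +kernel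

theorem co_apply (p q r : K25) (i : Fin 3) : co p q r i = Pm i 0 * p + Pm i 1 * q + Pm i 2 * r := by
  have h0 := congrFun Pm_col0 i
  have h1 := congrFun Pm_col1 i
  have h2 := congrFun Pm_col2 i
  rw [h0, h1, h2]
  unfold co
  simp only [Pi.add_apply, Pi.smul_apply, smul_eq_mul]
  ring

/-- the matrix equation from the images of the adapted basis -/
theorem mul_Pm (G : M3) (a00 a10 a20 a01 a11 a21 a02 a12 a22 : K25)
    (h0 : G *ᵥ u0 = co a00 a10 a20) (h1 : G *ᵥ w1 = co a01 a11 a21)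
    (h2 : G *ᵥ u1 = co a02 a12 a22) :
    G * Pm = Pm * !![a00, a01, a02; a10, a11, a12; a20, a21, a22] := by
  ext i j
  have hL : (G * Pm) i j = (G *ᵥ (fun k => Pm k j)) i := rfl
  rw [hL, Matrix.mul_apply, Fin.sum_univ_three]
  fin_cases j
  · show (G *ᵥ (fun k => Pm k 0)) i = _
    rw [Pm_col0, h0, co_apply]
    rfl
  · show (G *ᵥ (fun k => Pm k 1)) i = _
    rw [Pm_col1, h1, co_apply]
    rfl
  · show (G *ᵥ (fun k => Pm k 2)) i = _
    rw [Pm_col2, h2, co_apply]
    rfl

theorem det_tri (a00 a01 a02 a11 a12 a22 : K25) :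
    (!![a00, a01, a02; 0, a11, a12; 0, 0, a22] : M3).det = a00 * a11 * a22 := by
  rw [Matrix.det_fin_three]
  simp

/-- elements of `SU3` fixing the point of `u0` with eigenvalue `±1` are unitriangular-like -/
theorem tri (g : SU3) (lam : K25) (h1 : lam * lam = 1) (hg : toM g *ᵥ u0 = lam • u0) :
    ∃ a e b : K25, toM g *ᵥ w1 = co a 1 0 ∧ toM g *ᵥ u1 = co b e lam := by
  obtain ⟨hcj, -⟩ := cj_of_sq lam h1
  have hw : hf (toM g *ᵥ w1) u0 = 0 := by
    have h := toM_preserves g w1 u0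
    rw [hg, hf_smul_right, hcj, hf_w1_u0] at h
    calc hf (toM g *ᵥ w1) u0 = (lam * lam) * hf (toM g *ᵥ w1) u0 := by rw [h1, one_mul]
      _ = lam * (lam * hf (toM g *ᵥ w1) u0) := by ring
      _ = 0 := by rw [h, mul_zero]
  have hu : hf (toM g *ᵥ u1) u0 = lam := by
    have h := toM_preserves g u1 u0
    rw [hg, hf_smul_right, hcj, hf_u1_u0] at h
    calc hf (toM g *ᵥ u1) u0 = (lam * lam) * hf (toM g *ᵥ u1) u0 := by rw [h1, one_mul]
      _ = lam * (lam * hf (toM g *ᵥ u1) u0) := by ring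
      _ = lam := by rw [h, mul_one]
  have d1 := decomp (toM g *ᵥ w1)
  have d2 := decomp (toM g *ᵥ u1)
  rw [hw] at d1
  rw [hu] at d2
  have d0 : toM g *ᵥ u0 = co lam 0 0 := by
    rw [hg, u0_co, co_smul, mul_one, mul_zero]
  have hmat := mul_Pm (toM g) _ _ _ _ _ _ _ _ _ d0 d1 d2
  have hdet := congrArg Matrix.det hmat
  rw [Matrix.det_mul, Matrix.det_mul] at hdet
  have hdetg : (toM g).det = 1 := by
    show ((g : Matrix.SpecialLinearGroup (Fin 3) K25) : M3).det = 1
    exact (g : Matrix.SpecialLinearGroup (Fin 3) K25).2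
  rw [hdetg, one_mul, det_tri] at hdet
  have hnu : hf (toM g *ᵥ w1) w1 = 1 := by
    have h3 : Pm.det * (lam * lam * hf (toM g *ᵥ w1) w1) = Pm.det * 1 := by
      rw [mul_one]
      conv_rhs => rw [hdet]
      ring
    have h4 := mul_left_cancel₀ det_Pm h3
    rw [h1, one_mul] at h4
    exact h4
  rw [hnu] at d1
  exact ⟨_, _, _, d1, d2⟩

/-- from membership in `BB`: the vector `u0` is an eigenvector -/
theorem eig_of_mem_BB (g : SU3) (hg : g ∈ BB) : ∃ c : K25, c ≠ 0 ∧ toM g *ᵥ u0 = c • u0 := by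
  rw [mem_BB] at hg
  have h1 : theta g (iota 0) = iota 0 := by rw [← thetaX_spec, hg]
  rw [theta_apply] at h1
  obtain ⟨s, hs, h2⟩ := pt_nrm (toM g *ᵥ pt (iota 0))
  rw [h1] at h2
  refine ⟨s⁻¹, inv_ne_zero hs, ?_⟩
  show toM g *ᵥ pt (iota 0) = s⁻¹ • pt (iota 0)
  conv_rhs => rw [h2, smul_smul, inv_mul_cancel₀ hs, one_smul]

theorem sq_of_smul (c : K25) (h : (c * c) • u0 = u0) : c * c = 1 := by
  have h0 := congrFun h 0
  rw [u0_eq] at h0
  simpa using h0

theorem two_mul_eq_zero : ∀ a : K25, a + a = 0 → a = 0 := by decide +kernel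

theorem neg_one_mul_eq : ∀ a : K25, a * (-1) = a → a = 0 := by decide +kernel

theorem eq_neg_one_mul : ∀ a : K25, a = (-1) * a → a = 0 := by decide +kernel

theorem trace_zero : ∀ b : K25, b + K25.cj b = 0 → ∃ k : Fin 5, b = (k.val : K25) * c0 := by
  decide +kernel

set_option maxRecDepth 100000 in
theorem hf_co_b : ∀ b : K25, hf (co b 0 1) (co b 0 1) = b + K25.cj b := by decide +kernel

theorem hf_add_u0 (v : V) (s : K25) : hf (v + s • u0) u0 = hf v u0 := by
  have h : hf (v + s • u0) u0 = hf v u0 + s * hf u0 u0 := by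
    unfold hf
    simp only [Pi.add_apply, Pi.smul_apply, smul_eq_mul]
    ring
  rw [h, hu0, mul_zero, add_zero]

theorem t0_pow_mulVec (k : ℕ) (v : V) :
    toM (t0 ^ k) *ᵥ v = v + ((k : K25) * c0 * hf v u0) • u0 := by
  induction k generalizing v with
  | zero => simp
  | succ k ih =>
    rw [pow_succ, map_mul, ← Matrix.mulVec_mulVec]
    have h1 : toM t0 *ᵥ v = v + (c0 * hf v u0) • u0 := by
      show toM (T u0 hu0) *ᵥ v = _
      rw [T_mulVec]
      rfl
    rw [h1, ih, hf_add_u0, add_assoc, ← add_smul]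
    congr 2
    push_cast
    ring

theorem mulVec_formula (X : M3) (p0 b : K25) (h0 : X *ᵥ u0 = co p0 0 0) (h1 : X *ᵥ w1 = co 0 1 0)
    (h2 : X *ᵥ u1 = co b 0 p0) (hp : p0 = 1) (v : V) : X *ᵥ v = v + (b * hf v u0) • u0 := by
  subst hp
  obtain ⟨p, q, r, rfl⟩ := co_surj v
  obtain ⟨-, -, h3⟩ := hf_co p q r
  have h4 : (b * r) • u0 = co (b * r) 0 0 := by
    conv_lhs => rw [u0_co, co_smul, mul_one, mul_zero]
  rw [h3, mulVec_co, h0, h1, h2, h4]
  simp only [co_smul, co_add]
  congr 1 <;> ring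

theorem hstar : ∀ t : ↥BB, t ≠ 1 → t ^ 2 = 1 → ∀ x ∈ QB, x ∉ ZB → t * x ≠ x * t := by
  intro t ht1 ht2 x hxQ hxZ hcomm
  apply hxZ
  -- matrices
  have hTT : toM (t : SU3) * toM (t : SU3) = 1 := by
    have := congrArg (fun y : ↥BB => toM (y : SU3)) ht2
    simpa [pow_two] using this
  have hTX : toM (t : SU3) * toM (x : SU3) = toM (x : SU3) * toM (t : SU3) := by
    have := congrArg (fun y : ↥BB => toM (y : SU3)) hcomm
    simpa using this
  obtain ⟨c, hc0, hTu⟩ := eig_of_mem_BB (t : SU3) t.2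
  have hTTv : ∀ v : V, toM (t : SU3) *ᵥ (toM (t : SU3) *ᵥ v) = v := by
    intro v
    rw [Matrix.mulVec_mulVec, hTT, Matrix.one_mulVec]
  have hTXv : ∀ v : V, toM (t : SU3) *ᵥ (toM (x : SU3) *ᵥ v) =
      toM (x : SU3) *ᵥ (toM (t : SU3) *ᵥ v) := by
    intro v
    rw [Matrix.mulVec_mulVec, Matrix.mulVec_mulVec, hTX]
  have hcc : c * c = 1 := by
    apply sq_of_smul
    have := hTTv u0
    rw [hTu, Matrix.mulVec_smul, hTu, smul_smul] at this
    exact this
  obtain ⟨al, ga, be, hTw, hTu1⟩ := tri (t : SU3) c hcc hTu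
  have hXu : toM (x : SU3) *ᵥ u0 = (1 : K25) • u0 := by
    rw [one_smul]
    exact (mem_QB x).1 hxQ
  obtain ⟨a, e, b, hXw, hXu1⟩ := tri (x : SU3) 1 (one_mul 1) hXu
  rw [one_smul] at hXu
  have hTu' : toM (t : SU3) *ᵥ u0 = co c 0 0 := by
    rw [hTu, u0_co, co_smul, mul_one, mul_zero]
  have hXu' : toM (x : SU3) *ᵥ u0 = co 1 0 0 := by
    rw [hXu, ← u0_co]
  -- the case c = 1 is impossible
  have hcneg : c = -1 := by
    rcases (cj_of_sq c hcc).2 with h | h
    · exfalso
      subst h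
      have e1 := hTTv w1
      rw [hTw, mulVec_co, hTu', hTw, hTu1] at e1
      simp only [co_smul, co_add, w1_co] at e1
      obtain ⟨e1a, -, -⟩ := co_inj e1
      have hal : al = 0 := by
        apply two_mul_eq_zero
        simpa using e1a
      subst hal
      have e2 := hTTv u1
      rw [hTu1, mulVec_co, hTu', hTw, hTu1] at e2
      simp only [co_smul, co_add, u1_co] at e2
      obtain ⟨e2a, e2b, -⟩ := co_inj e2
      have hga : ga = 0 := by
        apply two_mul_eq_zero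
        simpa using e2b
      subst hga
      have hbe : be = 0 := by
        apply two_mul_eq_zero
        simpa using e2a
      subst hbe
      apply ht1
      apply Subtype.ext
      apply ext_toM
      rw [Subgroup.coe_one, map_one]
      apply Matrix.mulVec_injective
      funext v
      rw [Matrix.one_mulVec, mulVec_formula _ 1 0 hTu' hTw hTu1 rfl v, zero_mul, zero_smul,
        add_zero]
    · exact h
  subst hcneg
  -- commutation on w1 and u1
  have c1 := hTXv w1
  rw [hXw, hTw, mulVec_co, mulVec_co, hTu', hTw, hTu1, hXu', hXw, hXu1] at c1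
  simp only [co_smul, co_add] at c1
  obtain ⟨c1a, -, -⟩ := co_inj c1
  have ha : a = 0 := by
    apply neg_one_mul_eq
    have : a * -1 + al = al + a := by simpa using c1a
    linear_combination this
  subst ha
  have c2 := hTXv u1
  rw [hXu1, hTu1, mulVec_co, mulVec_co, hTu', hTw, hTu1, hXu', hXw, hXu1] at c2
  simp only [co_smul, co_add] at c2
  obtain ⟨-, c2b, -⟩ := co_inj c2
  have he : e = 0 := by
    apply eq_neg_one_mul
    have : e + ga = ga + -1 * e := by simpa using c2b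
    linear_combination this
  subst he
  -- unitarity gives b
  have hb : b + K25.cj b = 0 := by
    have h := toM_preserves (x : SU3) u1 u1
    rw [hXu1, hf_co_b, hf_u1_u1] at h
    exact h
  obtain ⟨k, hk⟩ := trace_zero b hb
  have hx : x = (⟨t0, t0_mem⟩ : ↥BB) ^ k.val := by
    apply Subtype.ext
    apply ext_toM
    rw [Subgroup.coe_pow]
    apply Matrix.mulVec_injective
    funext v
    show toM (x : SU3) *ᵥ v = toM (t0 ^ k.val) *ᵥ v
    rw [t0_pow_mulVec, mulVec_formula _ 1 b hXu' hXw hXu1 rfl v, hk]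
  rw [hx]
  exact Subgroup.pow_mem _ (Subgroup.mem_zpowers _) _

end Cfsg.Agent.Lib.Helper20_S2149_MSTAR
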