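import Mathlib
import Cfsg.Agent.Lib.Helper68_StAbs
import Cfsg.Agent.Lib.Helper6_BNPairB

/-!
Package DESC of the market `s2316_packages` (architect helper30; proved by helper20): abstract lemma on root-subgroup
data: a left descent `ℓ(s_i n) < ℓ(n)` means that `n⁻¹` does not conjugate the `i`-th root subgroup into `B`.
-/

set_option autoImplicit false
set_option linter.unusedSectionVars false
set_option linter.unusedVariables false

namespace Cfsg.Agent.Lib.Helper30_S2316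

open Cfsg Cfsg.Agent.Lib.Helper68_StAbs Cfsg.Agent.Lib.Helper6_Word Cfsg.Agent.Lib.Helper6_BNPair
  Cfsg.Agent.Lib.Helper81_BNSteinberg Cfsg.Agent.Lib.Helper81_BNIndex Cfsg.Agent.Lib.Helper81_BNBorel

/-! ## DESC (M): ABSTRACT lemma on root-subgroup data: a left descent `ℓ(s_i n) < ℓ(n)` means that `n⁻¹` does
not conjugate the `i`-th root subgroup into `B` -/

theorem exists_not_mem_of_descent {G : Type*} [Group G] {r : ℕ} (D : RDat G r) (i : Fin r)
    (n : (bnPair D).N)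
    (hlt : ℓ (bnPair D) ((⟨D.s i, D.s_mem i⟩ : (bnPair D).N) * n) < ℓ (bnPair D) n) :
    ∃ u ∈ D.U i, ((n : G))⁻¹ * u * (n : G) ∉ D.B := by
  by_contra hcon
  push Not at hcon
  have hσ : IsSimple (bnPair D) (⟨D.s i, D.s_mem i⟩ : (bnPair D).N) :=
    isSimple_of_mem (bnPair D) ⟨i, rfl⟩
  obtain ⟨b, hb, h1⟩ := Cfsg.Agent.Lib.Helper6_BNPair.exists_simple_mul_mem_of_le (bnPair D) hσ hlt.le
  -- `s b n ∈ B (s n) B`
  have h2 : D.s i * b * (n : G) ∈ C (bnPair D) (D.s i * (n : G)) := by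
    obtain ⟨u, hu, hc⟩ := D.r1 i b hb
    rw [mem_C]
    refine ⟨D.s i * (b * u⁻¹) * (D.s i)⁻¹, hc, (n : G)⁻¹ * u * (n : G), hcon u hu, ?_⟩
    group
  have h3 : C (bnPair D) ((((⟨D.s i, D.s_mem i⟩ : (bnPair D).N) * n : (bnPair D).N)) : G) =
      C (bnPair D) (n : G) := C_eq_of_mem_of_mem (bnPair D) h2 h1
  have h4 := (C_eq_iff (bnPair D)).1 h3
  rw [map_mul] at h4
  exact one_not_mem_SW (bnPair D) ((mul_eq_right.1 h4) ▸ hσ)

end Cfsg.Agent.Lib.Helper30_S2316
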