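import Mathlib
import Cfsg.Prelude.Def_Blocks
import Cfsg.Agent.Lib.Helper78_LocalRing

/-!
# The local ring `O_M` as a subring of `ℂ` (helper62)

`localSubring M hM : Subring ℂ` has carrier `{z | MemLocalRing M z}`; its non-units are exactly the
elements of the local ideal.  Shared definition for the S4427 project (projective idempotents).
-/

set_option autoImplicit false

namespace Cfsg.Agent.Lib.Helper62_LocalSubring

open Cfsg Cfsg.Agent.Lib.Helper78_LocalRing

variable {M : Ideal AlgInt}

/-- The ring of local integers at the prime ideal `M`, as a subring of `ℂ`. -/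
def localSubring (M : Ideal AlgInt) (hM : M.IsPrime) : Subring ℂ where
  carrier := {z | MemLocalRing M z}
  mul_mem' := fun hx hy => memLocalRing_mul hM hx hy
  one_mem' := memLocalRing_one hM
  add_mem' := fun hx hy => memLocalRing_add hM hx hy
  zero_mem' := memLocalRing_zero hM
  neg_mem' := fun hx => memLocalRing_neg hx

theorem mem_localSubring (hM : M.IsPrime) (z : ℂ) :
    z ∈ localSubring M hM ↔ MemLocalRing M z := Iff.rfl

/-- An element of the local ring is a unit iff it is outside the local ideal. -/
theorem isUnit_iff (hM : M.IsPrime) (x : localSubring M hM) :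
    IsUnit x ↔ ¬ MemLocalIdeal M (x : ℂ) := by
  constructor
  · rintro ⟨u, rfl⟩ h
    have h1 : MemLocalIdeal M (((u⁻¹ : (localSubring M hM)ˣ) : localSubring M hM) * (u : localSubring M hM) : ℂ) :=
      memLocalIdeal_mul_left hM ((u⁻¹ : (localSubring M hM)ˣ) : localSubring M hM).2 h
    have h2 : ((((u⁻¹ : (localSubring M hM)ˣ) : localSubring M hM) : ℂ) * ((u : localSubring M hM) : ℂ)) = 1 := by
      have h3 : (((u⁻¹ : (localSubring M hM)ˣ) : localSubring M hM) * (u : localSubring M hM)) = 1 :=
        Units.inv_mul u
      have h4 := congrArg (Subtype.val) h3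
      rw [Subring.coe_mul, Subring.coe_one] at h4
      exact h4
    rw [h2] at h1
    exact not_memLocalIdeal_one hM h1
  · intro h
    have hx0 : (x : ℂ) ≠ 0 := fun h0 => h (h0 ▸ memLocalIdeal_zero hM)
    refine ⟨⟨x, ⟨(x : ℂ)⁻¹, memLocalRing_inv hM x.2 h⟩, ?_, ?_⟩, rfl⟩
    · apply Subtype.ext
      simp [hx0]
    · apply Subtype.ext
      simp [hx0]

end Cfsg.Agent.Lib.Helper62_LocalSubring
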