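import Mathlib
import Cfsg.Prelude.Def_Blocks
import Cfsg.Agent.Lib.Helper78_LocalRing
import Cfsg.Agent.Lib.Helper62_LocalSubring

set_option autoImplicit false

namespace Cfsg.Agent.Lib.Helper20_S4427_Common

open Cfsg Cfsg.Agent.Lib.Helper62_LocalSubring Cfsg.Agent.Lib.Helper78_LocalRing

variable {M : Ideal AlgInt} (hM : M.IsPrime) {G : Type*} [Group G]

example (x : localSubring M hM) : algebraMap (localSubring M hM) ℂ x = (x : ℂ) := rfl

/-- the inclusion of the group algebra over the local ring into the complex group algebra -/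
noncomputable def incl :
    MonoidAlgebra (localSubring M hM) G →ₐ[localSubring M hM] MonoidAlgebra ℂ G :=
  MonoidAlgebra.mapAlgHom G (Algebra.ofId (localSubring M hM) ℂ)

theorem coeff_incl (x : MonoidAlgebra (localSubring M hM) G) (g : G) :
    (incl hM x).coeff g = ((x.coeff g : localSubring M hM) : ℂ) := by
  unfold incl
  rw [MonoidAlgebra.coeff_mapAlgHom]
  rfl

theorem incl_injective : Function.Injective (incl (G := G) hM) := by
  intro x y hxy
  apply MonoidAlgebra.ext
  apply Finsupp.ext
  intro g
  have h := congrArg (fun z => z.coeff g) hxy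
  simp only [coeff_incl] at h
  exact Subtype.ext h

variable [Fintype G]

/-- lifting an element with local coefficients -/
noncomputable def liftElt (u : MonoidAlgebra ℂ G) (hu : ∀ g, MemLocalRing M (u.coeff g)) :
    MonoidAlgebra (localSubring M hM) G :=
  MonoidAlgebra.ofCoeff (Finsupp.equivFunOnFinite.symm (fun g => (⟨u.coeff g, hu g⟩ : localSubring M hM)))

theorem coeff_liftElt (u : MonoidAlgebra ℂ G) (hu : ∀ g, MemLocalRing M (u.coeff g)) (g : G) :
    (((liftElt hM u hu).coeff g : localSubring M hM) : ℂ) = u.coeff g := by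
  unfold liftElt
  simp

theorem incl_liftElt (u : MonoidAlgebra ℂ G) (hu : ∀ g, MemLocalRing M (u.coeff g)) :
    incl hM (liftElt hM u hu) = u := by
  apply MonoidAlgebra.ext
  apply Finsupp.ext
  intro g
  rw [coeff_incl, coeff_liftElt]

/-- the augmentation -/
noncomputable def aug (R : Type*) [CommSemiring R] : MonoidAlgebra R G →ₐ[R] R :=
  MonoidAlgebra.lift R R G (1 : G →* R)

theorem aug_apply (R : Type*) [CommSemiring R] (x : MonoidAlgebra R G) :
    aug R x = ∑ g : G, x.coeff g := by
  unfold aug
  rw [MonoidAlgebra.lift_apply', Finsupp.sum_fintype _ _ (by intro i; simp)]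
  simp

end Cfsg.Agent.Lib.Helper20_S4427_Common
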