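import Mathlib
import Cfsg.Prelude.Def_Blocks
import Cfsg.Agent.Lib.Helper78_LocalRing
import Cfsg.Agent.Lib.Helper62_LocalSubring

/-!
# S4427 packages PKL: the local subring `O_M` of `ℂ` is local and integrally closed in `ℂ` (helper41)
-/

set_option autoImplicit false
open Cfsg Cfsg.Agent.Lib.Helper62_LocalSubring Cfsg.Agent.Lib.Helper78_LocalRing
open scoped Classical

namespace Cfsg.Agent.Lib.Helper41_S4427_PKL

theorem PKL_local {p : ℕ} {M : Ideal AlgInt} (hM : IsPModular p M) :
    IsLocalRing (localSubring M (Cfsg.Agent.Lib.Helper78_LocalRing.isPrime_of_isPModular hM)) := by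
  have hP := isPrime_of_isPModular hM
  apply IsLocalRing.of_nonunits_add
  intro a b ha hb
  rw [mem_nonunits_iff, isUnit_iff hP, not_not] at ha hb ⊢
  rw [Subring.coe_add]
  exact memLocalIdeal_add hP ha hb

/-- a common denominator for finitely many coefficients -/
theorem exists_denominator {M : Ideal AlgInt} (hM : M.IsPrime) (c : ℕ → ℂ)
    (hc : ∀ i, MemLocalRing M (c i)) (s : Finset ℕ) :
    ∃ b : AlgInt, b ∉ M ∧ ∀ i ∈ s, ∃ a : AlgInt, c i * (b : ℂ) = (a : ℂ) := by
  induction s using Finset.induction_on with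
  | empty => exact ⟨1, hM.one_notMem, fun i hi => absurd hi (Finset.notMem_empty i)⟩
  | insert i s _ ih =>
    obtain ⟨b, hb, h⟩ := ih
    obtain ⟨ai, bi, hbi, hi⟩ := hc i
    refine ⟨b * bi, fun hmem => (hM.mem_or_mem hmem).elim hb hbi, ?_⟩
    intro j hj
    rcases Finset.mem_insert.mp hj with rfl | hj
    · refine ⟨ai * b, ?_⟩
      have hne := coe_ne_zero_of_notMem hbi
      rw [← hi]
      push_cast
      field_simp
    · obtain ⟨a, ha⟩ := h j hj
      refine ⟨a * bi, ?_⟩
      push_cast
      rw [← ha]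
      ring

theorem PKL_intClosed {M : Ideal AlgInt} (hM : M.IsPrime) (z : ℂ)
    (hz : IsIntegral (localSubring M hM) z) : z ∈ localSubring M hM := by
  obtain ⟨P, hmonic, hroot⟩ := hz
  -- the polynomial over `ℂ`
  set f : localSubring M hM →+* ℂ := algebraMap (localSubring M hM) ℂ with hf
  set Pc : Polynomial ℂ := P.map f with hPc
  have hPcm : Pc.Monic := hmonic.map f
  have hPc0 : Pc.eval z = 0 := by
    rw [hPc, Polynomial.eval_map]
    exact hroot
  -- a common denominator
  have hcoef : ∀ i, MemLocalRing M (Pc.coeff i) := by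
    intro i
    rw [hPc, Polynomial.coeff_map]
    exact (P.coeff i).2
  obtain ⟨b, hb, hden⟩ := exists_denominator hM (fun i => Pc.coeff i) hcoef
    (Finset.range (Pc.natDegree + 1))
  have hbne : (b : ℂ) ≠ 0 := coe_ne_zero_of_notMem hb
  -- scale the roots
  set Q : Polynomial ℂ := Polynomial.scaleRoots Pc (b : ℂ) with hQ
  have hQm : Q.Monic := (Polynomial.monic_scaleRoots_iff (b : ℂ)).mpr hPcm
  have hQ0 : Q.eval ((b : ℂ) * z) = 0 := by
    have h := Polynomial.scaleRoots_eval₂_eq_zero (p := Pc) (RingHom.id ℂ) (r := z) (s := (b : ℂ))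
      (by rw [Polynomial.eval₂_id]; exact hPc0)
    rw [Polynomial.eval₂_id] at h
    exact h
  -- the coefficients of `Q` are algebraic integers
  have hQc : ∀ i, Q.coeff i ∈ Set.range (algebraMap AlgInt ℂ) := by
    intro i
    rw [hQ, Polynomial.coeff_scaleRoots]
    by_cases hi : i < Pc.natDegree
    · obtain ⟨a, ha⟩ := hden i (Finset.mem_range.mpr (by omega))
      refine ⟨a * b ^ (Pc.natDegree - i - 1), ?_⟩
      have e : Pc.natDegree - i = (Pc.natDegree - i - 1) + 1 := by omega
      rw [e, pow_succ, ← mul_assoc, mul_comm (Pc.coeff i), mul_assoc, mul_comm _ (b : ℂ),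
        ← mul_assoc]
      have ha' : (b : ℂ) * Pc.coeff i = (a : ℂ) := by rw [mul_comm]; exact ha
      show ((a * b ^ (Pc.natDegree - i - 1) : AlgInt) : ℂ) = _
      push_cast
      rw [← ha']
      ring
    · by_cases hi' : i = Pc.natDegree
      · refine ⟨1, ?_⟩
        rw [hi', Nat.sub_self, pow_zero, mul_one, Polynomial.Monic.coeff_natDegree hPcm]
        exact map_one _
      · refine ⟨0, ?_⟩
        rw [Polynomial.coeff_eq_zero_of_natDegree_lt (by omega), zero_mul]
        exact map_zero _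
  -- lift `Q` to a monic polynomial over the algebraic integers
  have hlift : Q ∈ Polynomial.lifts (algebraMap AlgInt ℂ) :=
    (Polynomial.lifts_iff_coeff_lifts Q).mpr hQc
  obtain ⟨R, hR, -, hRm⟩ := Polynomial.lifts_and_natDegree_eq_and_monic hlift hQm
  have hint : IsIntegral AlgInt ((b : ℂ) * z) := by
    refine ⟨R, hRm, ?_⟩
    rw [← Polynomial.eval_map, hR]
    exact hQ0
  have hint' : IsIntegral ℤ ((b : ℂ) * z) := isIntegral_trans _ hint
  -- conclusion
  refine ⟨⟨(b : ℂ) * z, hint'⟩, b, hb, ?_⟩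
  show (b : ℂ) * z / (b : ℂ) = z
  field_simp

end Cfsg.Agent.Lib.Helper41_S4427_PKL
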