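import Mathlib

set_option autoImplicit false

namespace Cfsg.Agent.Lib.Helper52_S4427_PKH

open Polynomial

/-- a monic polynomial over a domain integrally closed (via `hic`) in an algebraically closed field
is a product of linear factors -/
lemma exists_roots_multiset {𝒪 K : Type*} [CommRing 𝒪] [IsDomain 𝒪] [Field K] [IsAlgClosed K]
    [Algebra 𝒪 K] (hinj : Function.Injective (algebraMap 𝒪 K))
    (hic : ∀ z : K, IsIntegral 𝒪 z → z ∈ (algebraMap 𝒪 K).range)
    (f : 𝒪[X]) (hf : f.Monic) :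
    ∃ s : Multiset 𝒪, f = (s.map (fun l => X - C l)).prod := by
  classical
  set φ := algebraMap 𝒪 K with hφ
  have hsplit := IsAlgClosed.splits (f.map φ)
  have hmon : (f.map φ).Monic := hf.map φ
  have h1 := hsplit.eq_prod_roots_of_monic hmon
  have hroot : ∀ a ∈ (f.map φ).roots, ∃ l : 𝒪, φ l = a := by
    intro a ha
    have hint : IsIntegral 𝒪 a := by
      refine ⟨f, hf, ?_⟩
      have := (Polynomial.mem_roots hmon.ne_zero).1 ha
      rwa [IsRoot.def, eval_map] at this
    exact hic a hint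
  have hs : ∃ s : Multiset 𝒪, s.map φ = (f.map φ).roots := by
    refine ⟨(f.map φ).roots.pmap (fun a (h : ∃ l, φ l = a) => h.choose) hroot, ?_⟩
    rw [Multiset.map_pmap]
    have : ∀ (a : K) (h : ∃ l, φ l = a), φ h.choose = a := fun a h => h.choose_spec
    have h2 : Multiset.pmap (fun a (h : ∃ l, φ l = a) => φ h.choose) (f.map φ).roots hroot =
        Multiset.pmap (fun a (_ : ∃ l, φ l = a) => a) (f.map φ).roots hroot :=
      Multiset.pmap_congr _ (fun a _ h1 h2 => this a h1)
    rw [h2, Multiset.pmap_eq_map, Multiset.map_id']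
  obtain ⟨s, hs⟩ := hs
  refine ⟨s, ?_⟩
  apply Polynomial.map_injective φ hinj
  rw [h1, ← hs, Polynomial.map_multiset_prod, Multiset.map_map, Multiset.map_map]
  congr 1
  apply Multiset.map_congr rfl
  intro l _
  simp

lemma isCoprime_prod_left {R : Type*} [CommRing R] (s : Multiset R) (q : R[X])
    (h : ∀ l ∈ s, IsCoprime (X - C l) q) : IsCoprime (s.map (fun l => X - C l)).prod q := by
  induction s using Multiset.induction_on with
  | empty => simp [isCoprime_one_left]
  | cons a s ih =>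
    rw [Multiset.map_cons, Multiset.prod_cons]
    exact IsCoprime.mul_left (h a (Multiset.mem_cons_self a s))
      (ih fun l hl => h l (Multiset.mem_cons_of_mem hl))

/-- PK-H (abstract Hensel-type idempotent; Mathlib only) -/
theorem PKH {𝒪 K : Type*} [CommRing 𝒪] [IsDomain 𝒪] [IsLocalRing 𝒪] [Field K] [IsAlgClosed K]
    [Algebra 𝒪 K] (hinj : Function.Injective (algebraMap 𝒪 K))
    (hic : ∀ z : K, IsIntegral 𝒪 z → z ∈ (algebraMap 𝒪 K).range)
    {n : Type*} [Fintype n] [DecidableEq n] (U : Matrix n n 𝒪) :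
    ∃ P₁ : Polynomial 𝒪,
      IsIdempotentElem (Polynomial.aeval U (Polynomial.X * P₁)) ∧
      ∀ l : 𝒪, IsUnit l → (U.charpoly).IsRoot l → (Polynomial.X * P₁).eval l = 1 := by
  classical
  obtain ⟨s, hs⟩ := exists_roots_multiset hinj hic U.charpoly (Matrix.charpoly_monic U)
  set s₁ := s.filter (fun l => IsUnit l) with hs₁
  set s₀ := s.filter (fun l => ¬ IsUnit l) with hs₀
  set g₁ : 𝒪[X] := (s₁.map (fun l => X - C l)).prod with hg₁
  set g₀ : 𝒪[X] := (s₀.map (fun l => X - C l)).prod with hg₀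
  have hfg : U.charpoly = g₀ * g₁ := by
    rw [hs, hg₀, hg₁, ← Multiset.prod_add, ← Multiset.map_add, add_comm, Multiset.filter_add_not]
  have hcop01 : IsCoprime g₀ g₁ := by
    apply isCoprime_prod_left
    intro l hl
    apply IsCoprime.symm
    apply isCoprime_prod_left
    intro m hm
    have hlu : ¬ IsUnit l := (Multiset.mem_filter.1 hl).2
    have hmu : IsUnit m := (Multiset.mem_filter.1 hm).2
    have hml : IsUnit (m - l) := by
      by_contra hcon
      have h1 : m - l ∈ nonunits 𝒪 := hcon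
      have h2 : l ∈ nonunits 𝒪 := hlu
      have h3 := IsLocalRing.nonunits_add h1 h2
      rw [sub_add_cancel] at h3
      exact h3 hmu
    obtain ⟨u, hu⟩ := hml
    refine ⟨- C ((u⁻¹ : 𝒪ˣ) : 𝒪), C ((u⁻¹ : 𝒪ˣ) : 𝒪), ?_⟩
    have : C ((u⁻¹ : 𝒪ˣ) : 𝒪) * C (m - l) = (1 : 𝒪[X]) := by
      rw [← C_mul, ← hu, Units.inv_mul, C_1]
    rw [C_sub] at this
    linear_combination this
  have hcopX : IsCoprime (X : 𝒪[X]) g₁ := by
    apply IsCoprime.symm
    apply isCoprime_prod_left
    intro m hm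
    have hmu : IsUnit m := (Multiset.mem_filter.1 hm).2
    obtain ⟨u, hu⟩ := hmu
    refine ⟨- C ((u⁻¹ : 𝒪ˣ) : 𝒪), C ((u⁻¹ : 𝒪ˣ) : 𝒪), ?_⟩
    have : C ((u⁻¹ : 𝒪ˣ) : 𝒪) * C m = (1 : 𝒪[X]) := by
      rw [← C_mul, ← hu, Units.inv_mul, C_1]
    linear_combination this
  obtain ⟨a, b, hab⟩ := hcop01
  obtain ⟨h, k, hhk⟩ := hcopX
  have hCH : aeval U U.charpoly = 0 := Matrix.aeval_self_charpoly U
  have hXP : X * (a * g₀ * h) = a * g₀ - a * k * U.charpoly := by
    rw [hfg]
    linear_combination (a * g₀) * hhk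
  have hsq : (a * g₀) * (a * g₀) = a * g₀ - a * b * U.charpoly := by
    rw [hfg]
    linear_combination (a * g₀) * hab
  refine ⟨a * g₀ * h, ?_, ?_⟩
  · have hE : aeval U (X * (a * g₀ * h)) = aeval U (a * g₀) := by
      rw [hXP, map_sub, map_mul (aeval U) (a * k) U.charpoly, hCH, mul_zero, sub_zero]
    rw [hE]
    unfold IsIdempotentElem
    rw [← map_mul, hsq, map_sub, map_mul (aeval U) (a * b), hCH, mul_zero, sub_zero]
  · intro l hl hroot
    have hroot' : U.charpoly.eval l = 0 := hroot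
    have hl_mem : l ∈ s := by
      rw [hs, eval_multiset_prod, Multiset.map_map, Multiset.prod_eq_zero_iff] at hroot'
      obtain ⟨m, hm, hm0⟩ := Multiset.mem_map.1 hroot'
      simp only [Function.comp_apply, eval_sub, eval_X, eval_C] at hm0
      rw [sub_eq_zero.1 hm0]
      exact hm
    have hl1 : l ∈ s₁ := Multiset.mem_filter.2 ⟨hl_mem, hl⟩
    have hg₁l : g₁.eval l = 0 := by
      rw [hg₁, eval_multiset_prod, Multiset.map_map]
      apply Multiset.prod_eq_zero
      apply Multiset.mem_map.2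
      exact ⟨l, hl1, by simp⟩
    rw [hXP, eval_sub, eval_mul (p := a * k) (q := U.charpoly), hroot', mul_zero, sub_zero]
    have h1 : (a * g₀).eval l + (b * g₁).eval l = 1 := by
      rw [← eval_add, hab, eval_one]
    rw [eval_mul (p := b) (q := g₁), hg₁l, mul_zero, add_zero] at h1
    exact h1

end Cfsg.Agent.Lib.Helper52_S4427_PKH
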