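import Mathlib
import Cfsg.Prelude.Def_Blocks
import Cfsg.Agent.Lib.Helper78_LocalRing
import Cfsg.Agent.Lib.Helper62_LocalSubring
import Cfsg.Agent.Lib.Helper20_S4427_Common
import Cfsg.Agent.Lib.Helper41_S4427_PKL
import Cfsg.Agent.Lib.Helper52_S4427_PKH

set_option autoImplicit false
open Cfsg Cfsg.Agent.Lib.Helper62_LocalSubring
open scoped Classical

namespace Cfsg.Agent.Lib.Helper20_S4427_PKE

open Cfsg.Agent.Lib.Helper20_S4427_Common Cfsg.Agent.Lib.Helper78_LocalRing

theorem commute_aeval {R A : Type*} [CommSemiring R] [Semiring A] [Algebra R A] (y u : A)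
    (h : Commute y u) (P : Polynomial R) : Commute y (Polynomial.aeval u P) := by
  induction P using Polynomial.induction_on' with
  | add p q hp hq =>
    rw [map_add]
    exact hp.add_right hq
  | monomial n a =>
    rw [Polynomial.aeval_monomial]
    exact (Algebra.commute_algebraMap_right a y).mul_right (h.pow_right n)

theorem PKE {G : Type*} [Group G] [Fintype G] {p : ℕ} {M : Ideal AlgInt} (hM : IsPModular p M)
    (u : MonoidAlgebra ℂ G) (hu : ∀ g, MemLocalRing M (u.coeff g)) (haug : ∑ g : G, u.coeff g = 1) :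
    ∃ w : MonoidAlgebra ℂ G, (∀ g, MemLocalRing M (w.coeff g)) ∧
      (∀ y : MonoidAlgebra ℂ G, Commute y u → Commute y w) ∧
      IsIdempotentElem (u * w) ∧ ∑ g : G, (u * w).coeff g = 1 := by
  have hMp : M.IsPrime := isPrime_of_isPModular hM
  haveI : IsLocalRing (localSubring M hMp) := Cfsg.Agent.Lib.Helper41_S4427_PKL.PKL_local hM
  set u' := liftElt hMp u hu with hu'
  have hiu : incl hMp u' = u := incl_liftElt hMp u hu
  let B := MonoidAlgebra.basis G (localSubring M hMp)
  set U := Algebra.leftMulMatrix B u' with hU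
  obtain ⟨P₁, hP1, hP2⟩ := Cfsg.Agent.Lib.Helper52_S4427_PKH.PKH (𝒪 := localSubring M hMp) (K := ℂ) Subtype.val_injective
    (fun z hz => ⟨⟨z, Cfsg.Agent.Lib.Helper41_S4427_PKL.PKL_intClosed hMp z hz⟩, rfl⟩) U
  set w' := Polynomial.aeval u' P₁ with hw'
  have haugu : aug (localSubring M hMp) u' = 1 := by
    apply Subtype.ext
    rw [aug_apply]
    have h1 : (((∑ g : G, u'.coeff g : localSubring M hMp)) : ℂ) = ∑ g : G, u.coeff g := by
      rw [← Subring.subtype_apply, map_sum]
      apply Finset.sum_congr rfl
      intro g _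
      exact coeff_liftElt hMp u hu g
    rw [h1, haug]
    rfl
  have hidem : IsIdempotentElem (Polynomial.aeval u' (Polynomial.X * P₁)) := by
    apply Algebra.leftMulMatrix_injective B
    rw [map_mul, ← Polynomial.aeval_algHom_apply]
    exact hP1
  have huw : u * incl hMp w' = incl hMp (Polynomial.aeval u' (Polynomial.X * P₁)) := by
    rw [map_mul (Polynomial.aeval u'), Polynomial.aeval_X, map_mul (incl hMp), hiu]
  refine ⟨incl hMp w', ?_, ?_, ?_, ?_⟩
  · intro g
    rw [coeff_incl]
    exact (w'.coeff g).2
  · intro y hy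
    have h1 : incl hMp w' = Polynomial.aeval u P₁ := by
      rw [hw', ← Polynomial.aeval_algHom_apply, hiu]
    rw [h1]
    exact commute_aeval y u hy P₁
  · rw [huw]
    exact hidem.map (incl hMp)
  · rw [huw]
    set v' := Polynomial.aeval u' (Polynomial.X * P₁) with hv'
    have h1 : (∑ g : G, (incl hMp v').coeff g) = ((aug (localSubring M hMp) v' : localSubring M hMp) : ℂ) := by
      rw [aug_apply, ← Subring.subtype_apply, map_sum]
      apply Finset.sum_congr rfl
      intro g _
      rw [coeff_incl]
      rfl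
    rw [h1]
    have h2 : aug (localSubring M hMp) v' = (Polynomial.X * P₁).eval 1 := by
      rw [hv', ← Polynomial.aeval_algHom_apply, haugu, Polynomial.coe_aeval_eq_eval]
    have hroot : U.charpoly.IsRoot 1 := by
      rw [Polynomial.IsRoot.def, Matrix.eval_charpoly]
      apply Matrix.exists_vecMul_eq_zero_iff.1
      refine ⟨fun _ => 1, ?_, ?_⟩
      · intro h0
        obtain ⟨g⟩ : Nonempty G := ⟨1⟩
        have := congrFun h0 g
        exact one_ne_zero this
      · funext j
        rw [map_one, Matrix.vecMul_sub, Matrix.vecMul_one]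
        have h3 : (Matrix.vecMul (fun _ => (1 : localSubring M hMp)) U) j = 1 := by
          simp only [Matrix.vecMul, dotProduct, one_mul]
          have h4 : ∀ i : G, U i j = u'.coeff (i * j⁻¹) := by
            intro i
            rw [hU, Algebra.leftMulMatrix_eq_repr_mul, MonoidAlgebra.basis_apply]
            change (u' * MonoidAlgebra.single j 1).coeff i = _
            rw [MonoidAlgebra.coeff_mul_single_apply, mul_one]
          rw [Finset.sum_congr rfl (fun i _ => h4 i)]
          rw [Fintype.sum_equiv (Equiv.mulRight j⁻¹) (fun i => u'.coeff (i * j⁻¹)) (fun i => u'.coeff i)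
            (fun i => rfl)]
          rw [← aug_apply, haugu]
        simp only [Pi.sub_apply, h3, Pi.zero_apply]
        exact sub_self 1
    rw [h2, hP2 1 isUnit_one hroot]
    rfl

end Cfsg.Agent.Lib.Helper20_S4427_PKE
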