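import Mathlib
import Cfsg.Prelude.Def_Blocks
import Cfsg.Agent.Lib.Helper78_LocalRing
import Cfsg.Agent.Lib.Helper62_LocalSubring

/-!
# S4427 package PKZ: the intersection of the ideals `p^k O_M` of the local ring is zero (helper41)

A nonzero algebraic integer `a` divides a nonzero rational integer `c₀` (the constant term of a
polynomial with integer coefficients vanishing at `a`); if `a / b` were divisible by all powers of
`p` in the local ring, `c₀` would be divisible by arbitrarily high powers of `p` modulo units.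
-/

set_option autoImplicit false
open Cfsg Cfsg.Agent.Lib.Helper62_LocalSubring Cfsg.Agent.Lib.Helper78_LocalRing
open scoped Classical

namespace Cfsg.Agent.Lib.Helper41_S4427_PKZ

/-- a nonzero algebraic integer divides a nonzero rational integer -/
theorem pow_eq_zero_iff_of_pos' {a : AlgInt} {m : ℕ} (h : a ^ m = 0) : a = 0 :=
  pow_eq_zero_iff (M₀ := AlgInt) (n := m) (by
    intro h0
    rw [h0, pow_zero] at h
    exact one_ne_zero h) |>.mp h

theorem exists_mul_eq_intCast (a : AlgInt) (ha : a ≠ 0) :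
    ∃ (y : AlgInt) (c : ℤ), c ≠ 0 ∧ a * y = (c : AlgInt) := by
  obtain ⟨P, hmonic, hP⟩ := (a.2 : IsIntegral ℤ (a : ℂ))
  have hP0 : P ≠ 0 := hmonic.ne_zero
  obtain ⟨q, hq, hnd⟩ := Polynomial.exists_eq_pow_rootMultiplicity_mul_and_not_dvd P hP0 0
  have hc0 : q.coeff 0 ≠ 0 := by
    intro h
    apply hnd
    rw [Polynomial.C_0, sub_zero]
    exact Polynomial.X_dvd_iff.mpr h
  -- `q` vanishes at `a`
  have hPa : Polynomial.aeval a P = 0 := by
    apply Subtype.ext
    have h := Subalgebra.aeval_coe AlgInt a P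
    rw [← h]
    exact hP
  have hqa : Polynomial.aeval a q = 0 := by
    rw [hq, map_mul, map_pow, map_sub, Polynomial.aeval_X, Polynomial.aeval_C, map_zero,
      sub_zero] at hPa
    rcases mul_eq_zero.mp hPa with h | h
    · exact absurd (pow_eq_zero_iff_of_pos' h) ha
    · exact h
  have hdecomp : Polynomial.aeval a q =
      Polynomial.aeval a q.divX * a + ((q.coeff 0 : ℤ) : AlgInt) := by
    conv_lhs => rw [← Polynomial.divX_mul_X_add q]
    rw [map_add, map_mul, Polynomial.aeval_X, Polynomial.aeval_C, eq_intCast]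
  refine ⟨-Polynomial.aeval a q.divX, q.coeff 0, hc0, ?_⟩
  rw [hqa] at hdecomp
  have : Polynomial.aeval a q.divX * a = -((q.coeff 0 : ℤ) : AlgInt) :=
    eq_neg_of_add_eq_zero_left hdecomp.symm
  rw [mul_neg, mul_comm, this, neg_neg]

theorem PKZ {p : ℕ} {M : Ideal AlgInt} (hM : IsPModular p M) (z : ℂ)
    (h : ∀ k : ℕ, ∃ w : ℂ, MemLocalRing M w ∧ z = (p : ℂ) ^ k * w) : z = 0 := by
  have hP := isPrime_of_isPModular hM
  have hp : p.Prime := hM.1
  by_contra hz
  -- `z = a / b`
  obtain ⟨w0, hw0, hz0⟩ := h 0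
  rw [pow_zero, one_mul] at hz0
  obtain ⟨a, b, hb, hab⟩ := hw0
  rw [← hz0] at hab
  have hbne : (b : ℂ) ≠ 0 := coe_ne_zero_of_notMem hb
  have ha : a ≠ 0 := by
    intro h0
    apply hz
    rw [← hab, h0]
    simp
  obtain ⟨y, c, hc, hay⟩ := exists_mul_eq_intCast a ha
  -- `c = p ^ e * c'`
  have hfin : FiniteMultiplicity (p : ℤ) c := by
    rw [Int.finiteMultiplicity_iff]
    refine ⟨?_, hc⟩
    rw [Int.natAbs_natCast]
    exact hp.one_lt.ne'
  obtain ⟨c', hcc, hndvd⟩ := hfin.exists_eq_pow_mul_and_not_dvd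
  set e := multiplicity (p : ℤ) c with he
  -- use `k = e + 1`
  obtain ⟨w, hw, hzw⟩ := h (e + 1)
  obtain ⟨ak, bk, hbk, hk⟩ := hw
  have hbkne : (bk : ℂ) ≠ 0 := coe_ne_zero_of_notMem hbk
  -- `a * bk = p ^ (e+1) * ak * b` in `AlgInt`
  have h1 : a * bk = (p : AlgInt) ^ (e + 1) * ak * b := by
    apply Subtype.ext
    push_cast
    have : (a : ℂ) / (b : ℂ) = (p : ℂ) ^ (e + 1) * ((ak : ℂ) / (bk : ℂ)) := by
      rw [hab, hk]
      exact hzw
    field_simp at this
    linear_combination this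
  -- multiply by `y`
  have h2 : ((c : ℤ) : AlgInt) * bk = (p : AlgInt) ^ (e + 1) * (y * ak * b) := by
    rw [← hay]
    calc a * y * bk = y * (a * bk) := by ring
      _ = y * ((p : AlgInt) ^ (e + 1) * ak * b) := by rw [h1]
      _ = (p : AlgInt) ^ (e + 1) * (y * ak * b) := by ring
  have h3 : ((c : ℤ) : AlgInt) = (p : AlgInt) ^ e * ((c' : ℤ) : AlgInt) := by
    conv_lhs => rw [hcc]
    push_cast
    rfl
  have hpne : (p : AlgInt) ≠ 0 := by
    intro h0
    have h00 : ((p : AlgInt) : ℂ) = ((0 : AlgInt) : ℂ) := by rw [h0]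
    push_cast at h00
    exact hp.ne_zero (by exact_mod_cast h00)
  have h4 : ((c' : ℤ) : AlgInt) * bk = (p : AlgInt) * (y * ak * b) := by
    have h5 : (p : AlgInt) ^ e * (((c' : ℤ) : AlgInt) * bk) =
        (p : AlgInt) ^ e * ((p : AlgInt) * (y * ak * b)) := by
      rw [← mul_assoc, ← h3, h2, pow_succ]
      ring
    exact mul_left_cancel₀ (pow_ne_zero e hpne) h5
  have h6 : ((c' : ℤ) : AlgInt) * bk ∈ M := by
    rw [h4]
    exact M.mul_mem_right _ hM.2.2
  rcases hP.mem_or_mem h6 with h7 | h7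
  · exact hndvd ((intCast_mem_iff hM c').mp h7)
  · exact hbk h7

end Cfsg.Agent.Lib.Helper41_S4427_PKZ
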