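import Mathlib
import Cfsg.Prelude.Def_Blocks
import Cfsg.Agent.Lib.Helper78_LocalRing
import Cfsg.Agent.Lib.Helper62_LocalSubring
import Cfsg.Agent.Lib.Helper20_S4427_Common
import Cfsg.Agent.Lib.Helper41_S4427_PKZ

set_option autoImplicit false
open Cfsg Cfsg.Agent.Lib.Helper62_LocalSubring
open scoped Classical

namespace Cfsg.Agent.Lib.Helper20_S4427_PKVcore

open Cfsg.Agent.Lib.Helper20_S4427_Common Cfsg.Agent.Lib.Helper78_LocalRing

/-- a `p ^ a₀`-th power is `p`-regular when `a₀` is the exponent of `p` in the group order -/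
theorem not_dvd_orderOf_pow {G : Type*} [Group G] [Fintype G] {p : ℕ} (hp : p.Prime) (g : G) :
    ¬ p ∣ orderOf (g ^ (p ^ (Nat.card G).factorization p)) := by
  set a₀ := (Nat.card G).factorization p with ha₀
  intro hdvd
  have hpos : 0 < p ^ a₀ := pow_pos hp.pos _
  rw [orderOf_pow' g hpos.ne'] at hdvd
  set o := orderOf g with ho
  have ho_pos : 0 < o := orderOf_pos g
  obtain ⟨k, hk, hd⟩ := (Nat.dvd_prime_pow hp).1 (Nat.gcd_dvd_right o (p ^ a₀))
  have hdo : Nat.gcd o (p ^ a₀) ∣ o := Nat.gcd_dvd_left _ _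
  have h1 : p ^ (k + 1) ∣ o := by
    obtain ⟨c, hc⟩ := hdvd
    have : o = Nat.gcd o (p ^ a₀) * (o / Nat.gcd o (p ^ a₀)) := (Nat.mul_div_cancel' hdo).symm
    rw [this, hc, hd, pow_succ, ← mul_assoc]
    exact Dvd.intro _ rfl
  have hka : k = a₀ := by
    by_contra hne
    have hlt : k + 1 ≤ a₀ := by omega
    have h2 : p ^ (k + 1) ∣ p ^ a₀ := pow_dvd_pow p hlt
    have h3 : p ^ (k + 1) ∣ Nat.gcd o (p ^ a₀) := Nat.dvd_gcd h1 h2
    rw [hd] at h3
    have := (Nat.pow_dvd_pow_iff_le_right hp.one_lt).1 h3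
    omega
  rw [hka] at h1
  have h4 : p ^ (a₀ + 1) ∣ Nat.card G := h1.trans (orderOf_dvd_natCard g)
  exact Nat.pow_succ_factorization_not_dvd Nat.card_pos.ne' hp h4

/-- `PKV` with the necklace lemma `PKN` (for the lifted element) as a hypothesis -/
theorem PKV_of {G : Type*} [Group G] [Fintype G] {p : ℕ} {M : Ideal AlgInt} (hM : IsPModular p M)
    (hN : ∀ (x : MonoidAlgebra (localSubring M (isPrime_of_isPModular hM)) G) (n : ℕ) (g : G),
      p ∣ orderOf g → ∃ z : localSubring M (isPrime_of_isPModular hM),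
        (∑ t : G, if IsConj t g then (x ^ (p ^ n)).coeff t else 0) =
          (p : localSubring M (isPrime_of_isPModular hM)) ^ (n + 1 - (Nat.card G).factorization p) * z)
    (e : MonoidAlgebra ℂ G) (he : ∀ g, MemLocalRing M (e.coeff g)) (hid : IsIdempotentElem e)
    (g : G) (hg : p ∣ orderOf g) :
    (∑ t : G, if IsConj t g then e.coeff t else 0) = 0 := by
  have hp : p.Prime := hM.1
  have hMp : M.IsPrime := isPrime_of_isPModular hM
  set e' := liftElt hMp e he with he'
  have hie : incl hMp e' = e := incl_liftElt hMp e he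
  have hid' : IsIdempotentElem e' := by
    apply incl_injective hMp
    rw [map_mul, hie]
    exact hid
  have hpow : ∀ n : ℕ, e' ^ (p ^ n) = e' := fun n => hid'.pow_eq (pow_pos hp.pos n).ne'
  set a₀ := (Nat.card G).factorization p with ha₀
  apply Cfsg.Agent.Lib.Helper41_S4427_PKZ.PKZ hM
  intro k
  obtain ⟨z, hz⟩ := hN e' (k + a₀) g hg
  rw [hpow] at hz
  have hk : k + a₀ + 1 - a₀ = k + 1 := by omega
  rw [hk] at hz
  refine ⟨(p : ℂ) * (z : ℂ), memLocalRing_mul hMp (memLocalRing_natCast hMp p) z.2, ?_⟩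
  have h1 := congrArg (localSubring M hMp).subtype hz
  rw [map_sum, map_mul, map_pow, map_natCast] at h1
  rw [pow_succ, mul_assoc] at h1
  refine Eq.trans ?_ h1
  apply Finset.sum_congr rfl
  intro t _
  split_ifs
  · exact (coeff_liftElt hMp e he t).symm
  · simp

end Cfsg.Agent.Lib.Helper20_S4427_PKVcore
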