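import Mathlib

set_option autoImplicit false
set_option linter.unusedSectionVars false

namespace Cfsg.Agent.Lib.Helper52_S4427_PKN

open scoped Classical

/-- orbit sum lemma: an invariant weight whose support consists of orbits of size divisible by `q`
has total sum divisible by `q` -/
lemma sum_eq_mul_of_orbits {C : Type*} [Group C] {W : Type*} [Fintype W] [MulAction C W]
    {O : Type*} [CommRing O] (f : W → O) (hf : ∀ (c : C) (w : W), f (c • w) = f w) (q : ℕ)
    (hq : ∀ w : W, f w ≠ 0 → q ∣ Nat.card (MulAction.orbit C w)) :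
    ∃ z : O, ∑ w, f w = (q : O) * z := by
  have key : ∀ ω : MulAction.orbitRel.Quotient C W, ∃ z : O, ∑ w : ω.orbit, f (w : W) = (q : O) * z := by
    intro ω
    induction ω using Quotient.inductionOn' with
    | h w₀ =>
      have hconst : ∀ w : (MulAction.orbitRel.Quotient.orbit (Quotient.mk'' w₀ : MulAction.orbitRel.Quotient C W)),
          f (w : W) = f w₀ := by
        rintro ⟨w, hw⟩
        rw [MulAction.orbitRel.Quotient.orbit_mk] at hw
        obtain ⟨c, hc⟩ := hw
        dsimp only
        rw [← hc]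
        exact hf c w₀
      rw [Finset.sum_congr rfl (fun w _ => hconst w), Finset.sum_const, Finset.card_univ]
      by_cases h0 : f w₀ = 0
      · exact ⟨0, by rw [h0]; simp⟩
      · obtain ⟨k, hk⟩ := hq w₀ h0
        refine ⟨(k : O) * f w₀, ?_⟩
        have hcard : Fintype.card (MulAction.orbitRel.Quotient.orbit (Quotient.mk'' w₀ : MulAction.orbitRel.Quotient C W))
            = q * k := by
          rw [← Nat.card_eq_fintype_card, ← hk]
          congr 1
        rw [hcard, nsmul_eq_mul]
        push_cast
        ring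
  choose z hz using key
  refine ⟨∑ ω, z ω, ?_⟩
  rw [Finset.mul_sum, ← Fintype.sum_equiv (MulAction.selfEquivSigmaOrbits' C W).symm
    (fun x => f (x.2 : W)) f (fun x => rfl), Fintype.sum_sigma]
  exact Finset.sum_congr rfl (fun ω _ => hz ω)

/-- a permutation of `p`-power order, an invariant weight whose support contains no point fixed by
`σ ^ (p ^ m)`: the total weight is divisible by `p ^ (m + 1)` -/
lemma sum_eq_mul_of_perm {W : Type*} [Fintype W] {O : Type*} [CommRing O] (p : ℕ) (hp : p.Prime)
    (σ : Equiv.Perm W) (n : ℕ) (hσ : σ ^ (p ^ n) = 1) (f : W → O) (hf : ∀ w, f (σ w) = f w)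
    (m : ℕ) (hfix : ∀ w, f w ≠ 0 → (σ ^ (p ^ m)) w ≠ w) :
    ∃ z : O, ∑ w, f w = (p : O) ^ (m + 1) * z := by
  -- invariance under the cyclic group
  let S : Subgroup (Equiv.Perm W) :=
    { carrier := {τ | ∀ w, f (τ w) = f w}
      mul_mem' := by
        intro a b ha hb w
        rw [Equiv.Perm.mul_apply, ha, hb]
      one_mem' := by intro w; rfl
      inv_mem' := by
        intro a ha w
        have := ha (a⁻¹ w)
        rw [← Equiv.Perm.mul_apply, mul_inv_cancel, Equiv.Perm.one_apply] at this
        exact this.symm }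
  have hS : Subgroup.zpowers σ ≤ S := by
    rw [Subgroup.zpowers_le]
    exact hf
  have hinv : ∀ (c : Subgroup.zpowers σ) (w : W), f (c • w) = f w := by
    intro c w
    exact hS c.2 w
  obtain ⟨z, hz⟩ := sum_eq_mul_of_orbits (C := Subgroup.zpowers σ) f hinv (p ^ (m + 1)) (by
    intro w hw
    have hcard : Nat.card (MulAction.orbit (Subgroup.zpowers σ) w) =
        Function.minimalPeriod (σ • ·) w := by
      rw [Nat.card_eq_fintype_card, MulAction.minimalPeriod_eq_card]
    rw [hcard]
    have hper : Function.IsPeriodicPt (σ • ·) (p ^ n) w := by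
      unfold Function.IsPeriodicPt Function.IsFixedPt
      rw [smul_iterate, hσ]
      exact one_smul _ w
    obtain ⟨j, hj, hjeq⟩ := (Nat.dvd_prime_pow hp).1 hper.minimalPeriod_dvd
    rw [hjeq]
    apply pow_dvd_pow
    by_contra hlt
    push Not at hlt
    have hjm : j ≤ m := by omega
    apply hfix w hw
    have h1 : Function.IsPeriodicPt (σ • ·) (p ^ j) w := by
      rw [← hjeq]
      exact Function.isPeriodicPt_minimalPeriod _ _
    have h2 : Function.IsPeriodicPt (σ • ·) (p ^ m) w := by
      obtain ⟨k, hk⟩ := pow_dvd_pow p hjm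
      rw [hk]
      exact h1.mul_const k
    unfold Function.IsPeriodicPt Function.IsFixedPt at h2
    rw [smul_iterate] at h2
    exact h2)
  exact ⟨z, by rw [hz]; push_cast; ring⟩

section words
variable {O : Type*} [CommRing O] {G : Type*} [Group G] [Fintype G]

lemma sum_single_pow (c : G → O) (N : ℕ) :
    (∑ a : G, MonoidAlgebra.single a (c a)) ^ N =
      ∑ w : Fin N → G, MonoidAlgebra.single (List.ofFn w).prod (∏ i, c (w i)) := by
  induction N with
  | zero => simp [MonoidAlgebra.one_def]
  | succ N ih =>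
    rw [pow_succ', ih, Finset.sum_mul_sum]
    rw [← Fintype.sum_equiv (Fin.consEquiv (fun _ : Fin (N + 1) => G))
      (fun aw : G × (Fin N → G) => MonoidAlgebra.single (aw.1 * (List.ofFn aw.2).prod)
        (c aw.1 * ∏ i, c (aw.2 i)))
      (fun w : Fin (N + 1) → G => MonoidAlgebra.single (List.ofFn w).prod (∏ i, c (w i)))]
    · rw [Fintype.sum_prod_type]
      apply Finset.sum_congr rfl
      intro a _
      apply Finset.sum_congr rfl
      intro w _
      rw [MonoidAlgebra.single_mul_single]
    · rintro ⟨a, w⟩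
      simp only [Fin.consEquiv_apply]
      rw [List.ofFn_succ, List.prod_cons, Fin.prod_univ_succ]
      simp

lemma eq_sum_single (x : MonoidAlgebra O G) : x = ∑ a : G, MonoidAlgebra.single a (x.coeff a) := by
  ext t
  rw [MonoidAlgebra.coeff_sum, Finsupp.finsetSum_apply]
  simp [MonoidAlgebra.coeff_single, Finsupp.single_apply]

/-- the class sum of the coefficients of a power, as a sum over words -/
lemma class_sum_pow (x : MonoidAlgebra O G) (N : ℕ) (g : G) :
    (∑ t : G, if IsConj t g then (x ^ N).coeff t else 0) =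
      ∑ w : Fin N → G, if IsConj (List.ofFn w).prod g then ∏ i, x.coeff (w i) else 0 := by
  have h1 : x ^ N = ∑ w : Fin N → G, MonoidAlgebra.single (List.ofFn w).prod (∏ i, x.coeff (w i)) := by
    conv_lhs => rw [eq_sum_single x]
    exact sum_single_pow (fun a => x.coeff a) N
  have h2 : ∀ t : G, (x ^ N).coeff t =
      ∑ w : Fin N → G, if (List.ofFn w).prod = t then ∏ i, x.coeff (w i) else 0 := by
    intro t
    rw [h1, MonoidAlgebra.coeff_sum, Finsupp.finsetSum_apply]
    apply Finset.sum_congr rfl
    intro w _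
    rw [MonoidAlgebra.coeff_single, Finsupp.single_apply]
  simp only [h2]
  have h3 : ∀ t : G, (if IsConj t g then
      ∑ w : Fin N → G, (if (List.ofFn w).prod = t then ∏ i, x.coeff (w i) else 0) else 0) =
      ∑ w : Fin N → G, (if IsConj t g then
        (if (List.ofFn w).prod = t then ∏ i, x.coeff (w i) else 0) else 0) := by
    intro t
    split_ifs <;> simp
  simp only [h3]
  rw [Finset.sum_comm]
  apply Finset.sum_congr rfl
  intro w _
  rw [Finset.sum_eq_single (List.ofFn w).prod]
  · simp
  · intro t _ ht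
    rw [if_neg (Ne.symm ht)]
    simp
  · intro h
    exact absurd (Finset.mem_univ _) h

end words

section rot
variable {G : Type*} [Group G]

/-- rotation of words -/
def rot (N : ℕ) : Equiv.Perm (Fin N → G) where
  toFun w := w ∘ finRotate N
  invFun w := w ∘ (finRotate N).symm
  left_inv w := by
    ext i
    show w (finRotate N ((finRotate N).symm i)) = w i
    rw [Equiv.apply_symm_apply]
  right_inv w := by
    ext i
    show w ((finRotate N).symm (finRotate N i)) = w i
    rw [Equiv.symm_apply_apply]

lemma rot_apply (N : ℕ) (w : Fin N → G) : rot N w = w ∘ finRotate N := rfl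

lemma rot_pow_apply (N k : ℕ) (w : Fin N → G) : ((rot N) ^ k) w = w ∘ ⇑((finRotate N) ^ k) := by
  induction k generalizing w with
  | zero => rfl
  | succ k ih =>
    rw [pow_succ', Equiv.Perm.mul_apply, ih, rot_apply, pow_succ]
    rfl

lemma finRotate_val (N : ℕ) (i : Fin N) : (finRotate N i).val = (i.val + 1) % N := by
  cases N with
  | zero => exact i.elim0
  | succ n => rw [finRotate_apply, Fin.val_add, Fin.val_one', Nat.add_mod_mod]

lemma finRotate_pow_val (N k : ℕ) (i : Fin N) : (((finRotate N) ^ k) i).val = (i.val + k) % N := by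
  induction k with
  | zero => simp [Nat.mod_eq_of_lt i.2]
  | succ k ih =>
    rw [pow_succ', Equiv.Perm.mul_apply, finRotate_val, ih, Nat.mod_add_mod, add_assoc]

lemma rot_pow_self (N : ℕ) : (rot N : Equiv.Perm (Fin N → G)) ^ N = 1 := by
  ext w i
  rw [rot_pow_apply, Equiv.Perm.one_apply, Function.comp_apply]
  congr 1
  apply Fin.ext
  rw [finRotate_pow_val, Nat.add_mod_right, Nat.mod_eq_of_lt i.2]

lemma isConj_prod_rot (N : ℕ) (w : Fin N → G) :
    IsConj (List.ofFn (rot N w)).prod (List.ofFn w).prod := by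
  cases N with
  | zero => simp
  | succ n =>
    have h1 : List.ofFn (rot (n + 1) w) = (List.ofFn fun i : Fin n => w i.succ).concat (w 0) := by
      rw [List.ofFn_succ']
      congr 1
      · congr 1
        ext i
        rw [rot_apply, Function.comp_apply, finRotate_apply, Fin.coeSucc_eq_succ]
      · rw [rot_apply, Function.comp_apply, finRotate_last]
    rw [h1, List.concat_eq_append, List.prod_append, List.prod_singleton, List.ofFn_succ, List.prod_cons]
    rw [isConj_comm, isConj_iff]
    exact ⟨(w 0)⁻¹, by group⟩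

lemma prod_of_periodic (M d : ℕ) (hM : 0 < M) (w : Fin (M * d) → G)
    (hw : ((rot (M * d)) ^ d) w = w) : ∃ P : G, (List.ofFn w).prod = P ^ M := by
  have hper : ∀ i : Fin (M * d), w (((finRotate (M * d)) ^ d) i) = w i := by
    intro i
    have := congrFun hw i
    rwa [rot_pow_apply] at this
  have hbound : ∀ (i : ℕ) (hi : i < M) (j : Fin d), i * d + j < M * d := by
    intro i hi j
    calc i * d + j < i * d + d := by have := j.2; omega
      _ = (i + 1) * d := by ring
      _ ≤ M * d := Nat.mul_le_mul_right d hi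
  have key : ∀ (i : ℕ) (hi : i < M) (j : Fin d),
      w ⟨i * d + j, hbound i hi j⟩ = w ⟨0 * d + j, hbound 0 hM j⟩ := by
    intro i
    induction i with
    | zero => intro hi j; rfl
    | succ i ih =>
      intro hi j
      have hi' : i < M := by omega
      rw [← ih hi' j, ← hper ⟨i * d + j, hbound i hi' j⟩]
      congr 1
      apply Fin.ext
      rw [finRotate_pow_val]
      dsimp only
      have h1 := hbound (i + 1) hi j
      rw [Nat.mod_eq_of_lt (by rw [show i * d + j + d = (i + 1) * d + j by ring]; exact h1)]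
      ring
  refine ⟨(List.ofFn fun j : Fin d => w ⟨0 * d + j, hbound 0 hM j⟩).prod, ?_⟩
  rw [List.ofFn_mul, List.prod_flatten, List.map_ofFn]
  have h2 : (List.prod ∘ fun i : Fin M => List.ofFn fun j : Fin d => w ⟨↑i * d + ↑j, hbound i i.2 j⟩) =
      fun _ : Fin M => (List.ofFn fun j : Fin d => w ⟨0 * d + j, hbound 0 hM j⟩).prod := by
    ext i
    rw [Function.comp_apply]
    congr 1
    congr 1
    ext j
    exact key i i.2 j
  rw [h2, List.ofFn_const, List.prod_replicate]

end rot

section final
variable {O : Type*} [CommRing O] {G : Type*} [Group G] [Fintype G]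

lemma orderOf_eq_of_isConj {a b : G} (h : IsConj a b) : orderOf a = orderOf b := by
  obtain ⟨c, hc⟩ := isConj_iff.1 h
  rw [← hc]
  have : c * a * c⁻¹ = MulAut.conj c a := rfl
  rw [this]
  exact (orderOf_injective (MulAut.conj c).toMonoidHom (MulAut.conj c).injective a).symm

theorem necklace (p : ℕ) (hp : p.Prime) (a₀ : ℕ)
    (hexp : ∀ g : G, ¬ p ∣ orderOf (g ^ (p ^ a₀))) (x : MonoidAlgebra O G) (g : G)
    (hg : p ∣ orderOf g) (N M d n m : ℕ) (hN : N = M * d) (hNn : N = p ^ n) (hM : M = p ^ a₀)
    (hd : d = p ^ m) :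
    ∃ z : O, (∑ t : G, if IsConj t g then (x ^ N).coeff t else 0) = (p : O) ^ (m + 1) * z := by
  subst hN
  rw [class_sum_pow]
  refine sum_eq_mul_of_perm p hp (rot (M * d)) n (by rw [← hNn]; exact rot_pow_self _) _ ?_ m ?_
  · intro w
    have h1 : IsConj (List.ofFn (rot _ w)).prod g ↔ IsConj (List.ofFn w).prod g :=
      ⟨fun h => (isConj_prod_rot _ w).symm.trans h, fun h => (isConj_prod_rot _ w).trans h⟩
    have h2 : ∏ i, x.coeff (rot _ w i) = ∏ i, x.coeff (w i) :=
      Equiv.prod_comp (finRotate _) (fun i => x.coeff (w i))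
    by_cases hc : IsConj (List.ofFn w).prod g
    · rw [if_pos hc, if_pos (h1.2 hc), h2]
    · rw [if_neg hc, if_neg (fun h => hc (h1.1 h))]
  · intro w hw hfixed
    have hconj : IsConj (List.ofFn w).prod g := by
      by_contra h
      exact hw (if_neg h)
    rw [← hd] at hfixed
    obtain ⟨P, hP⟩ := prod_of_periodic M d (by rw [hM]; exact pow_pos hp.pos _) w hfixed
    have h3 : orderOf (List.ofFn w).prod = orderOf g := orderOf_eq_of_isConj hconj
    rw [hP, hM] at h3
    exact hexp P (h3 ▸ hg)

/-- PK-N (necklace; Mathlib only) -/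
theorem PKN
    (p : ℕ) (hp : p.Prime) (a₀ : ℕ) (hexp : ∀ g : G, ¬ p ∣ orderOf (g ^ (p ^ a₀)))
    (x : MonoidAlgebra O G) (n : ℕ) (g : G) (hg : p ∣ orderOf g) :
    ∃ z : O, (∑ t : G, if IsConj t g then (x ^ (p ^ n)).coeff t else 0) =
      (p : O) ^ (n + 1 - a₀) * z := by
  by_cases h : a₀ ≤ n
  · have h1 : n + 1 - a₀ = (n - a₀) + 1 := by omega
    rw [h1]
    exact necklace p hp a₀ hexp x g hg (p ^ n) (p ^ a₀) (p ^ (n - a₀)) n (n - a₀)
      (by rw [← pow_add]; congr 1; omega) rfl rfl rfl
  · have h1 : n + 1 - a₀ = 0 := by omega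
    rw [h1]
    exact ⟨_, by rw [pow_zero, one_mul]⟩

end final

end Cfsg.Agent.Lib.Helper52_S4427_PKN
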