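import Mathlib
import Cfsg.Prelude.Def_Blocks
import Cfsg.Agent.Lib.Helper78_LocalRing
import Cfsg.Agent.Lib.Helper62_LocalSubring
import Cfsg.Agent.Lib.Helper20_S4427_PKVcore
import Cfsg.Agent.Lib.Helper52_S4427_PKN

set_option autoImplicit false
open Cfsg Cfsg.Agent.Lib.Helper62_LocalSubring
open scoped Classical

namespace Cfsg.Agent.Lib.Helper20_S4427_PKV

theorem PKV {G : Type*} [Group G] [Fintype G] {p : ℕ} {M : Ideal AlgInt} (hM : IsPModular p M)
    (e : MonoidAlgebra ℂ G) (he : ∀ g, MemLocalRing M (e.coeff g)) (hid : IsIdempotentElem e)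
    (g : G) (hg : p ∣ orderOf g) :
    (∑ t : G, if IsConj t g then e.coeff t else 0) = 0 :=
  Cfsg.Agent.Lib.Helper20_S4427_PKVcore.PKV_of hM
    (fun x n g hg => Cfsg.Agent.Lib.Helper52_S4427_PKN.PKN p hM.1 _
      (fun g => Cfsg.Agent.Lib.Helper20_S4427_PKVcore.not_dvd_orderOf_pow hM.1 g) x n g hg)
    e he hid g hg

end Cfsg.Agent.Lib.Helper20_S4427_PKV
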