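import Mathlib
import Cfsg.Agent.Lib.Helper74_BLEdge

/-!
# The Brauer--Leonard degree bound: assembling the edge case (helper74)
-/

set_option autoImplicit false
set_option linter.unusedSectionVars false
set_option linter.unusedVariables false

namespace Cfsg.Agent.Lib.Helper74_BLEdge2

open Cfsg Cfsg.Agent.Lib.Helper74_BLGroup Cfsg.Agent.Lib.Helper74_BLCount
  Cfsg.Agent.Lib.Helper74_BLIso Cfsg.Agent.Lib.Helper74_BLNorm Cfsg.Agent.Lib.Helper74_BLData
  Cfsg.Agent.Lib.Helper74_BLCore Cfsg.Agent.Lib.Helper74_BLMain Cfsg.Agent.Lib.Helper74_BLEdge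
  Cfsg.Agent.Lib.Helper80_CharBasic
open scoped ComplexConjugate Classical

/-- arithmetic of the edge case -/
theorem edge_arith (q e x : ℕ) (he : 1 ≤ e) (hdvd : e ∣ q - 1) (hex : e ≤ x)
    (hdeg : x ^ 2 + 1 < q) (hq : ¬ (e + 1) ^ 2 ≤ q) : q = e ^ 2 + e + 1 ∧ x = e := by
  push Not at hq
  obtain ⟨k, hk⟩ := hdvd
  have hee : e ^ 2 ≤ x ^ 2 := Nat.pow_le_pow_left hex 2
  have h1 : e * e < e * k := by
    have : e ^ 2 + 1 ≤ q - 1 := by omega
    rw [hk] at this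
    nlinarith
  have h2 : e * k < e * (e + 2) := by
    have : q - 1 < e ^ 2 + 2 * e := by
      have : (e + 1) ^ 2 = e ^ 2 + 2 * e + 1 := by ring
      omega
    rw [hk] at this
    nlinarith
  have h3 : e < k := lt_of_mul_lt_mul_left h1 (Nat.zero_le _)
  have h4 : k < e + 2 := lt_of_mul_lt_mul_left h2 (Nat.zero_le _)
  have hk' : k = e + 1 := by omega
  subst hk'
  have hqe : q = e ^ 2 + e + 1 := by
    have : e * (e + 1) = e ^ 2 + e := by ring
    omega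
  refine ⟨hqe, ?_⟩
  have h5 : x < e + 1 := by
    by_contra hcon
    push Not at hcon
    have : (e + 1) ^ 2 ≤ x ^ 2 := Nat.pow_le_pow_left hcon 2
    have h6 : (e + 1) ^ 2 = e ^ 2 + 2 * e + 1 := by ring
    omega
  omega

variable {G : Type*} [Group G] [Fintype G] {p : ℕ} [hp : Fact p.Prime] (P : Sylow p G)

/-- the `P`-trivial part of an irreducible character on `C` has degree `t` -/
theorem comp_one_apply_one (h : Unif P) (Ψ : G → ℂ) (t : ℕ)
    (ht : ∑ u : (P : Subgroup G), Ψ u = (Nat.card (P : Subgroup G) : ℂ) * t) :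
    comp (incl P h) 1 (resC P Ψ) 1 = t := by
  rw [comp_resC_one]
  simp only [MonoidHom.one_apply, Units.val_one, map_one, one_mul]
  rw [ht, ← mul_assoc, inv_mul_cancel₀ card_ne_zero, one_mul]

/-- if a nonnegative combination of characters of `C` is constant equal to its degree then so is
each of the characters involved -/
theorem const_of_sum {Γ ι : Type*} [Group Γ] [Fintype Γ] [Fintype ι] (χ : ι → Γ → ℂ)
    (hχ : ∀ i, IsCharacter Γ (χ i)) (m t : ι → ℕ) (ht : ∀ i, χ i 1 = t i) (E : ℕ)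
    (hE : ∑ i, m i * t i = E) (c : Γ) (hc : ∑ i, (m i : ℂ) * χ i c = E) (i : ι) (hi : m i ≠ 0) :
    χ i c = t i := by
  have hle : ∀ j, ‖χ j c‖ ≤ t j := fun j => norm_le_degree (hχ j) (t j) (ht j) c
  have hre : ∀ j, (χ j c).re ≤ t j := fun j => (Complex.re_le_norm _).trans (hle j)
  have hsum : ∑ j, (m j : ℝ) * (χ j c).re = ∑ j, (m j : ℝ) * (t j : ℝ) := by
    have h1 := congrArg Complex.re hc
    rw [Complex.re_sum] at h1
    simp only [Complex.mul_re, Complex.natCast_re, Complex.natCast_im, zero_mul, sub_zero] at h1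
    rw [h1, ← hE]
    push_cast
    rfl
  have h2 := (Finset.sum_eq_sum_iff_of_le (s := Finset.univ)
    (f := fun j => (m j : ℝ) * (χ j c).re) (g := fun j => (m j : ℝ) * (t j : ℝ))
    (fun j _ => mul_le_mul_of_nonneg_left (hre j) (Nat.cast_nonneg _))).mp hsum i (Finset.mem_univ _)
  have hmpos : (0 : ℝ) < (m i : ℝ) := by
    have : 0 < m i := Nat.pos_of_ne_zero hi
    exact_mod_cast this
  have h3 : (χ i c).re = (t i : ℝ) := mul_left_cancel₀ hmpos.ne' h2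
  have := eq_of_re_eq (hle i) h3
  rw [this]
  push_cast
  rfl

/-- **Edge case** of the Brauer--Leonard degree bound. -/
theorem edge_case (h : Unif P) (ψ : IrrCharacter G) (x : ℕ) (hx : (ψ : G → ℂ) 1 = x)
    (hdeg : x ^ 2 + 1 < Nat.card (P : Subgroup G))
    (hdag : ∀ Ψ : IrrCharacter G, Ψ ≠ oneIrr G →
      ∃ u ∈ (P : Subgroup G), (Ψ : G → ℂ) u ≠ (Ψ : G → ℂ) 1)
    (hψ1 : ψ ≠ oneIrr G) (hq : ¬ (ee P + 1) ^ 2 ≤ Nat.card (P : Subgroup G)) : x = 1 := by
  have hfin : Finite ((P : Subgroup G) →* ℂˣ) :=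
    Cfsg.Agent.Lib.Helper74_GoingUp.finite_dual (comm_P P h)
  have : Fintype ((P : Subgroup G) →* ℂˣ) := Fintype.ofFinite _
  obtain ⟨D, hD, heD, hD1, hxD, hex⟩ := exists_D P h ψ x hx (hdag ψ hψ1)
  obtain ⟨hqe, hxe⟩ := edge_arith (Nat.card (P : Subgroup G)) (ee P) x (ee_pos P)
    (ee_dvd_pred P h) hex hdeg hq
  by_cases he1 : ee P = 1
  · omega
  exfalso
  have he2 : 2 ≤ ee P := by have := ee_pos P; omega
  have hqne : (Nat.card (P : Subgroup G) : ℂ) ≠ 0 := by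
    rw [Nat.cast_ne_zero]; exact Nat.card_pos.ne'
  have hx' : (ψ : G → ℂ) 1 = (ee P : ℕ) := by rw [hx, hxe]
  -- `D = e`
  have hDe : D = ee P := by
    have h1 := comp_one_sq P h ψ hx' (hdag ψ hψ1) 1
    rw [comp_resC_one] at h1
    simp only [MonoidHom.one_apply, Units.val_one, map_one, one_mul] at h1
    have h3 : ∀ z : ℂ, z * conj z = ((‖z‖ ^ 2 : ℝ) : ℂ) := by
      intro z
      rw [Complex.mul_conj, Complex.normSq_eq_norm_sq]
    simp_rw [h3] at h1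
    have h4 : ((∑ u : (P : Subgroup G), ‖(ψ : G → ℂ) u‖ ^ 2 : ℝ) : ℂ) =
        ∑ u : (P : Subgroup G), ((‖(ψ : G → ℂ) u‖ ^ 2 : ℝ) : ℂ) := by
      push_cast; rfl
    rw [← h4, hD] at h1
    push_cast at h1
    rw [← mul_assoc, inv_mul_cancel₀ hqne, one_mul] at h1
    exact_mod_cast h1
  subst hDe
  choose t y ht hy hty using exists_ty P h
  obtain ⟨m, hm1, hmt, hmy, hdecomp⟩ := exists_decomp_sq P h ψ x (ee P) hx hD t y ht hy
  -- the trivial character
  have ht1 : t (oneIrr G) = 1 := by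
    have h1 := ht (oneIrr G)
    simp only [oneIrr, Finset.sum_const, Finset.card_univ, nsmul_eq_mul, mul_one] at h1
    rw [← Nat.card_eq_fintype_card] at h1
    have h2 : (Nat.card (P : Subgroup G) : ℂ) * 1 = (Nat.card (P : Subgroup G) : ℂ) * t (oneIrr G) := by
      rw [mul_one]; exact h1
    have h3 := mul_left_cancel₀ hqne h2
    exact_mod_cast h3.symm
  have hy1 : y (oneIrr G) = 1 := by
    have h1 := hy (oneIrr G)
    simp only [oneIrr] at h1
    exact_mod_cast h1.symm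
  -- the characters `Ψ₁`
  have hχ : ∀ Ψ : IrrCharacter G, IsCharacter (CC P) (comp (incl P h) 1 (resC P (Ψ : G → ℂ))) :=
    fun Ψ => isCharacter_comp (incl P h) (incl_central P h) (isCharacter_resC P
      (Cfsg.Agent.Lib.Helper3_CharBridge.isCharacter_of_isIrrCharacter Ψ.2)) 1
  have hχ1 : ∀ Ψ : IrrCharacter G, comp (incl P h) 1 (resC P (Ψ : G → ℂ)) 1 = t Ψ :=
    fun Ψ => comp_one_apply_one P h _ _ (ht Ψ)
  have hsumc : ∀ c : CC P, ∑ Ψ : IrrCharacter G,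
      (m Ψ : ℂ) * comp (incl P h) 1 (resC P (Ψ : G → ℂ)) c = (ee P : ℕ) := by
    intro c
    have h1 := comp_one_sq P h ψ hx' (hdag ψ hψ1) c
    rw [hdecomp] at h1
    have h2 : resC P (∑ Ψ : IrrCharacter G, (m Ψ : ℂ) • (Ψ : G → ℂ)) =
        ∑ Ψ : IrrCharacter G, (m Ψ : ℂ) • resC P (Ψ : G → ℂ) := by
      funext c
      simp [resC, Finset.sum_apply]
    rw [h2, comp_sum] at h1
    simp_rw [comp_smul] at h1
    rw [Finset.sum_apply] at h1
    simp only [Pi.smul_apply, smul_eq_mul] at h1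
    exact h1
  have hconst : ∀ Ψ : IrrCharacter G, m Ψ ≠ 0 → ∀ c : CC P,
      comp (incl P h) 1 (resC P (Ψ : G → ℂ)) c = t Ψ := by
    intro Ψ hΨ c
    exact const_of_sum (fun Ψ : IrrCharacter G => comp (incl P h) 1 (resC P (Ψ : G → ℂ))) hχ m t hχ1
      (ee P) hmt c (hsumc c) Ψ hΨ
  -- a nonprincipal constituent with fixed points
  obtain ⟨Ψ₀, hΨ₀, hm0, ht0⟩ : ∃ Ψ₀ : IrrCharacter G, Ψ₀ ≠ oneIrr G ∧ m Ψ₀ ≠ 0 ∧ t Ψ₀ ≠ 0 := by
    by_contra hcon
    push Not at hcon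
    have : ∑ Ψ, m Ψ * t Ψ = 1 := by
      rw [Finset.sum_eq_single (oneIrr G)]
      · rw [hm1, ht1]
      · intro Ψ _ hΨ
        by_cases hm0 : m Ψ = 0
        · rw [hm0, zero_mul]
        · rw [hcon Ψ hΨ hm0, mul_zero]
      · intro h0
        exact absurd (Finset.mem_univ _) h0
    omega
  have hdeg0 : 1 + y Ψ₀ ≤ (ee P) ^ 2 := by
    rw [← hxe, ← hmy]
    have h1 : ∑ Ψ ∈ ({oneIrr G, Ψ₀} : Finset (IrrCharacter G)), m Ψ * y Ψ ≤ ∑ Ψ, m Ψ * y Ψ :=
      Finset.sum_le_sum_of_subset (Finset.subset_univ _)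
    rw [Finset.sum_pair (Ne.symm hΨ₀), hm1, hy1] at h1
    have h2 : y Ψ₀ ≤ m Ψ₀ * y Ψ₀ := Nat.le_mul_of_pos_left _ (Nat.pos_of_ne_zero hm0)
    omega
  have hΨ : IsCharacter G (Ψ₀ : G → ℂ) :=
    Cfsg.Agent.Lib.Helper3_CharBridge.isCharacter_of_isIrrCharacter Ψ₀.2
  obtain ⟨d, n, hd, hn, hd0, hnd, hsum, hinv, -⟩ := exists_data P h hΨ
  have hsum' : ∑ lam, d lam = y Ψ₀ := by
    rw [hy Ψ₀] at hsum
    exact_mod_cast hsum
  obtain ⟨hf1, hf2, -⟩ := supp_facts P h d n (y Ψ₀) hnd hsum'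
  obtain ⟨hl, hmm, hn1⟩ := Cfsg.Agent.Lib.Helper74_BLArith.core_edge (Nat.card (P : Subgroup G))
    (ee P) (supp P d).card (∑ lam ∈ supp P d, n lam) (n 1) (y Ψ₀) (ee_pos P)
    (ee_dvd_supp P h d hinv) hqe (supp_nonempty P h _ d hd hsum (hdag Ψ₀ hΨ₀)) hf1 (by omega)
    (by omega) (by
      intro α hα
      have := nat_ineq P h Ψ₀ d n hn hd0 α hα
      push_cast
      exact this)
  -- `t Ψ₀ = 1`
  have htn : (t Ψ₀) ^ 2 = n 1 := by
    have h1 := hn 1
    simp_rw [hconst Ψ₀ hm0] at h1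
    rw [Finset.sum_const, Finset.card_univ, nsmul_eq_mul, ← Nat.card_eq_fintype_card] at h1
    have hCpos : (Nat.card (CC P) : ℝ) ≠ 0 := by
      rw [Nat.cast_ne_zero]; exact Nat.card_pos.ne'
    have h2 := mul_left_cancel₀ hCpos h1
    rw [Complex.norm_natCast] at h2
    exact_mod_cast h2
  have ht01 : t Ψ₀ = 1 := by
    have : 1 ≤ t Ψ₀ := Nat.pos_of_ne_zero ht0
    nlinarith
  exact no_special P h Ψ₀ hΨ₀ d n hn hd0 hl hmm (by
    intro c
    rw [hconst Ψ₀ hm0 c, ht01, Nat.cast_one]) hqe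

/-- **The Brauer--Leonard degree bound**: if centralizers of nontrivial elements of an abelian
Sylow subgroup `P` coincide with `C_G(P)`, no nonprincipal irreducible character has `P` in its
kernel, then an irreducible character `ψ ≠ 1` with `ψ(1)² + 1 < |P|` is linear. -/
theorem degree_bound (h : Unif P) (ψ : IrrCharacter G) (x : ℕ) (hx : (ψ : G → ℂ) 1 = x)
    (hdeg : x ^ 2 + 1 < Nat.card (P : Subgroup G))
    (hdag : ∀ Ψ : IrrCharacter G, Ψ ≠ oneIrr G →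
      ∃ u ∈ (P : Subgroup G), (Ψ : G → ℂ) u ≠ (Ψ : G → ℂ) 1)
    (hψ1 : ψ ≠ oneIrr G) : x = 1 := by
  by_cases hq : (ee P + 1) ^ 2 ≤ Nat.card (P : Subgroup G)
  · exact main_case P h ψ x hx hdeg hdag hψ1 hq
  · exact edge_case P h ψ x hx hdeg hdag hψ1 hq

end Cfsg.Agent.Lib.Helper74_BLEdge2
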