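import Mathlib
import Cfsg.Agent.Lib.Helper74_BLEdge2
import Cfsg.Agent.S4835

/-!
# The Brauer--Leonard alternative (helper74)
-/

set_option autoImplicit false
set_option linter.unusedSectionVars false
set_option linter.unusedVariables false

namespace Cfsg.Agent.Lib.Helper74_BLFinal

open Cfsg Cfsg.Agent.Lib.Helper74_BLGroup Cfsg.Agent.Lib.Helper74_BLCount
  Cfsg.Agent.Lib.Helper74_BLIso Cfsg.Agent.Lib.Helper74_BLNorm Cfsg.Agent.Lib.Helper74_BLData
  Cfsg.Agent.Lib.Helper74_BLCore Cfsg.Agent.Lib.Helper74_BLMain Cfsg.Agent.Lib.Helper74_BLEdge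
  Cfsg.Agent.Lib.Helper74_BLEdge2 Cfsg.Agent.Lib.Helper80_CharBasic
open scoped ComplexConjugate Classical

variable {G : Type*} [Group G] [Finite G] {p : ℕ} [hp : Fact p.Prime] (P : Sylow p G)

/-- the kernel of a nonprincipal irreducible character is a proper subgroup -/
theorem irrKer_ne_top (Ψ : IrrCharacter G) (hΨ : Ψ ≠ oneIrr G) :
    Cfsg.Agent.S4835.irrKer Ψ ≠ ⊤ := by
  have : Fintype G := Fintype.ofFinite G
  intro htop
  have hall : ∀ g : G, (Ψ : G → ℂ) g = (Ψ : G → ℂ) 1 := by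
    intro g
    have : g ∈ Cfsg.Agent.S4835.irrKer Ψ := by rw [htop]; exact Subgroup.mem_top g
    exact (Cfsg.Agent.S4835.mem_irrKer Ψ g).mp this
  have h0 := sum_irr_eq_zero Ψ hΨ
  simp_rw [hall] at h0
  rw [Finset.sum_const, Finset.card_univ, nsmul_eq_mul] at h0
  have h1 := Cfsg.Agent.Lib.Helper74_DegPChar.irr_one_ne_zero Ψ
  have h2 : (Fintype.card G : ℂ) ≠ 0 := by
    rw [Nat.cast_ne_zero]; exact Fintype.card_ne_zero
  exact (mul_ne_zero h2 h1) h0

/-- if no proper normal subgroup contains `P` then no nonprincipal irreducible character has `P`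
in its kernel -/
theorem hdag_of_not (hK : ¬ ∃ K : Subgroup G, K.Normal ∧ K ≠ ⊤ ∧ (P : Subgroup G) ≤ K)
    (Ψ : IrrCharacter G) (hΨ : Ψ ≠ oneIrr G) :
    ∃ u ∈ (P : Subgroup G), (Ψ : G → ℂ) u ≠ (Ψ : G → ℂ) 1 := by
  by_contra hcon
  push Not at hcon
  apply hK
  exact ⟨Cfsg.Agent.S4835.irrKer Ψ, inferInstance, irrKer_ne_top Ψ hΨ,
    fun u hu => (Cfsg.Agent.S4835.mem_irrKer Ψ u).mpr (hcon u hu)⟩

/-- a linear character which is nontrivial on `P` forces `N_G(P) = C_G(P)` and hence a normal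
`p`-complement -/
theorem exists_normal_of_linear (h : Unif P) (χ : IrrCharacter G) (hχ : (χ : G → ℂ) 1 = 1)
    (hker : ∃ u ∈ (P : Subgroup G), (χ : G → ℂ) u ≠ (χ : G → ℂ) 1) :
    ∃ N : Subgroup G, N.Normal ∧ N.index = Nat.card (P : Subgroup G) := by
  obtain ⟨f, hf⟩ := Cfsg.Agent.Lib.Helper74_LinAct.exists_lin_of_one hχ
  have hfχ : ∀ g : G, (χ : G → ℂ) g = ((f g : ℂˣ) : ℂ) := by
    intro g
    rw [hf]; rfl
  obtain ⟨u, hu, hne⟩ := hker
  set lam : (P : Subgroup G) →* ℂˣ := f.comp (P : Subgroup G).subtype with hlam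
  have hlam1 : lam ≠ 1 := by
    intro h0
    apply hne
    have := congrArg (fun g : (P : Subgroup G) →* ℂˣ => g ⟨u, hu⟩) h0
    simp only [hlam, MonoidHom.comp_apply, Subgroup.subtype_apply, MonoidHom.one_apply] at this
    rw [hfχ, hfχ, this, map_one]
  have hNC : Subgroup.normalizer ((P : Subgroup G) : Set G) ≤
      Subgroup.centralizer ((P : Subgroup G) : Set G) := by
    intro s hs
    apply mem_CC_of_fix_dual P h hs lam hlam1
    intro v
    simp only [hlam, MonoidHom.comp_apply, Subgroup.subtype_apply, conjP_coe]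
    rw [map_mul, map_mul, map_inv, mul_comm (f s), mul_assoc, mul_inv_cancel, mul_one]
  have hcompl := MonoidHom.ker_transferSylow_isComplement' P hNC
  refine ⟨(MonoidHom.transferSylow P hNC).ker, inferInstance, ?_⟩
  exact hcompl.symm.index_eq_card

/-- **Brauer--Leonard**: under the uniform centralizer hypothesis, if no proper normal subgroup
contains `P` then a nonprincipal irreducible character of degree `x` with `x² + 1 < |P|` is linear
and `G` has a normal subgroup of index `|P|`. -/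
theorem alternative (h : Unif P)
    (hK : ¬ ∃ K : Subgroup G, K.Normal ∧ K ≠ ⊤ ∧ (P : Subgroup G) ≤ K)
    (χ : IrrCharacter G) (hχ1 : χ ≠ oneIrr G) (x : ℕ) (hx : (χ : G → ℂ) 1 = x)
    (hdeg : x ^ 2 + 1 < Nat.card (P : Subgroup G)) :
    x = 1 ∧ ∃ N : Subgroup G, N.Normal ∧ N.index = Nat.card (P : Subgroup G) := by
  have : Fintype G := Fintype.ofFinite G
  have hdag := hdag_of_not P hK
  have hx1 : x = 1 := degree_bound P h χ x hx hdeg hdag hχ1
  refine ⟨hx1, exists_normal_of_linear P h χ (by rw [hx, hx1, Nat.cast_one]) (hdag χ hχ1)⟩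

/-- the degree of an irreducible character as computed by `charDegree` -/
theorem charDegree_irr (χ : IrrCharacter G) (x : ℕ) (hx : (χ : G → ℂ) 1 = x) :
    Cfsg.charDegree (χ : G → ℂ) = x := by
  unfold Cfsg.charDegree
  rw [hx]
  simp

end Cfsg.Agent.Lib.Helper74_BLFinal
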