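import Mathlib
import Cfsg.Agent.Lib.Helper74_BLFinal

/-!
# Faithful characters of small degree under the uniform centralizer hypothesis (helper74)
-/

set_option autoImplicit false
set_option linter.unusedSectionVars false
set_option linter.unusedVariables false

namespace Cfsg.Agent.Lib.Helper74_BLFaith

open Cfsg Cfsg.Agent.Lib.Helper74_BLGroup Cfsg.Agent.Lib.Helper74_BLFinal
  Cfsg.Agent.Lib.Helper80_CharBasic
open scoped ComplexConjugate Classical commutatorElement

universe u

section Sub

variable {G : Type u} [Group G] [Finite G] {p : ℕ} [hp : Fact p.Prime] (P : Sylow p G)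

/-- the uniform centralizer hypothesis passes to subgroups containing `P` -/
theorem unif_subtype (h : Unif P) (K : Subgroup G) (hPK : (P : Subgroup G) ≤ K) :
    Unif (P.subtype hPK) := by
  intro x hx hx1
  rw [Sylow.coe_subtype, Subgroup.mem_subgroupOf] at hx
  have hx1' : (x : G) ≠ 1 := by
    intro h0
    apply hx1
    exact Subtype.ext h0
  have key := h (x : G) hx hx1'
  ext y
  rw [Subgroup.mem_centralizer_iff, Subgroup.mem_centralizer_iff]
  have h1 : (y : G) ∈ Subgroup.centralizer ({(x : G)} : Set G) ↔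
      (y : G) ∈ Subgroup.centralizer ((P : Subgroup G) : Set G) := by rw [key]
  rw [Subgroup.mem_centralizer_iff, Subgroup.mem_centralizer_iff] at h1
  constructor
  · intro hy u hu
    rw [Sylow.coe_subtype] at hu
    have hu' : (u : G) ∈ (P : Subgroup G) := Subgroup.mem_subgroupOf.mp hu
    have h2 : ∀ z ∈ ({(x : G)} : Set G), z * (y : G) = (y : G) * z := by
      intro z hz
      rw [Set.mem_singleton_iff] at hz
      subst hz
      have := hy x (Set.mem_singleton x)
      exact congrArg Subtype.val this
    have := h1.mp h2 (u : G) hu'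
    exact Subtype.ext this
  · intro hy z hz
    rw [Set.mem_singleton_iff] at hz
    subst hz
    have h2 : ∀ u ∈ ((P : Subgroup G) : Set G), u * (y : G) = (y : G) * u := by
      intro u hu
      have hu' : (⟨u, hPK hu⟩ : K) ∈ ((P.subtype hPK : Sylow p K) : Subgroup K) := by
        rw [Sylow.coe_subtype, Subgroup.mem_subgroupOf]
        exact hu
      have := hy ⟨u, hPK hu⟩ hu'
      exact congrArg Subtype.val this
    have := h1.mpr h2 (z : G) (Set.mem_singleton _)
    exact Subtype.ext this

theorem card_subtype (K : Subgroup G) (hPK : (P : Subgroup G) ≤ K) :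
    Nat.card ((P.subtype hPK : Sylow p K) : Subgroup K) = Nat.card (P : Subgroup G) := by
  rw [Sylow.coe_subtype]
  exact Nat.card_congr (Subgroup.subgroupOfEquivOfLe hPK).toEquiv

/-- if `P` is normal in a normal subgroup `K` then `P` is normal in `G` -/
theorem normal_of_normal_subtype (K : Subgroup G) [K.Normal] (hPK : (P : Subgroup G) ≤ K)
    (hn : ((P.subtype hPK : Sylow p K) : Subgroup K).Normal) : (P : Subgroup G).Normal := by
  haveI hchar : ((P.subtype hPK : Sylow p K) : Subgroup K).Characteristic :=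
    Sylow.characteristic_of_normal _ hn
  have h1 : (((P.subtype hPK : Sylow p K) : Subgroup K).map K.subtype).Normal :=
    ConjAct.normal_of_characteristic_of_normal
  rw [Sylow.coe_subtype, Subgroup.subgroupOf_map_subtype, inf_eq_left.mpr hPK] at h1
  exact h1

end Sub

section Abelian

variable {G : Type u} [Group G] [Finite G]

/-- a faithful character all of whose irreducible constituents are linear forces `G` abelian -/
theorem comm_of_linear_constituents [Fintype G] (χ : G → ℂ) (m : IrrCharacter G → ℕ)
    (hsum : χ = ∑ Ψ : IrrCharacter G, (m Ψ : ℂ) • (Ψ : G → ℂ))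
    (hlin : ∀ Ψ : IrrCharacter G, m Ψ ≠ 0 → (Ψ : G → ℂ) 1 = 1)
    (hfaith : ∀ g : G, χ g = χ 1 → g = 1) (a b : G) : a * b = b * a := by
  have hcomm : ∀ g ∈ commutator G, g = 1 := by
    intro g hg
    apply hfaith
    rw [hsum]
    simp only [Finset.sum_apply, Pi.smul_apply, smul_eq_mul]
    apply Finset.sum_congr rfl
    intro Ψ _
    by_cases hm : m Ψ = 0
    · rw [hm, Nat.cast_zero, zero_mul, zero_mul]
    · obtain ⟨f, hf⟩ := Cfsg.Agent.Lib.Helper74_LinAct.exists_lin_of_one (hlin Ψ hm)
      have hg' : g ∈ f.ker := Abelianization.commutator_subset_ker f hg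
      rw [MonoidHom.mem_ker] at hg'
      rw [hf]
      simp only [Cfsg.Agent.Lib.Helper74_LinAct.lin_apply, hg', map_one]
  have h1 : a * b * a⁻¹ * b⁻¹ = 1 := by
    apply hcomm
    have : ⁅a, b⁆ ∈ commutator G := by
      rw [commutator_def]
      exact Subgroup.commutator_mem_commutator (Subgroup.mem_top a) (Subgroup.mem_top b)
    rwa [commutatorElement_def] at this
  calc a * b = (a * b * a⁻¹ * b⁻¹) * (b * a) := by group
    _ = b * a := by rw [h1, one_mul]

end Abelian

/-- **Brauer--Leonard**: a faithful character of degree `x` with `x² + 1 < |P|` under the uniform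
centralizer hypothesis forces `P` to be normal. -/
theorem normal_of_faithful : ∀ (N : ℕ) {G : Type u} [Group G] [Finite G] (hN : Nat.card G = N)
    {p : ℕ} [hp : Fact p.Prime] (P : Sylow p G) (h : Unif P) (χ : G → ℂ) (hχ : IsCharacter G χ)
    (hfaith : ∀ g : G, χ g = χ 1 → g = 1) (x : ℕ) (hx : χ 1 = x)
    (hdeg : x ^ 2 + 1 < Nat.card (P : Subgroup G)), (P : Subgroup G).Normal := by
  intro N
  induction N using Nat.strong_induction_on with
  | _ N ih =>
  intro G _ _ hN p hp P h χ hχ hfaith x hx hdeg
  by_cases hK : ∃ K : Subgroup G, K.Normal ∧ K ≠ ⊤ ∧ (P : Subgroup G) ≤ K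
  · obtain ⟨K, hKn, hKtop, hPK⟩ := hK
    have := hKn
    have hlt : Nat.card K < N := by
      rw [← hN]
      apply lt_of_le_of_ne (Subgroup.card_le_card_group K)
      intro h0
      exact hKtop (Subgroup.card_eq_iff_eq_top K |>.mp h0)
    have hn := ih (Nat.card K) hlt (G := K) rfl (P.subtype hPK) (unif_subtype P h K hPK)
      (fun k : K => χ k) (Cfsg.Agent.Lib.Helper75_CharArith.isCharacter_restrict K hχ)
      (by
        intro k hk
        have := hfaith (k : G) hk
        exact Subtype.ext this) x hx (by rw [card_subtype]; exact hdeg)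
    exact normal_of_normal_subtype P K hPK hn
  · have : Fintype G := Fintype.ofFinite G
    obtain ⟨m, -, hsum⟩ := Cfsg.Agent.Lib.Helper75_CharArith.exists_multiplicities hχ
    choose y hypos hy using fun Ψ : IrrCharacter G => irr_apply_one Ψ
    have hxy : ∑ Ψ : IrrCharacter G, m Ψ * y Ψ = x := by
      have h1 := congrFun hsum 1
      simp only [Finset.sum_apply, Pi.smul_apply, smul_eq_mul, hy] at h1
      rw [hx] at h1
      have h2 : ((x : ℕ) : ℂ) = ((∑ Ψ : IrrCharacter G, m Ψ * y Ψ : ℕ) : ℂ) := by
        push_cast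
        exact h1
      exact_mod_cast h2.symm
    have hlin : ∀ Ψ : IrrCharacter G, m Ψ ≠ 0 → (Ψ : G → ℂ) 1 = 1 := by
      intro Ψ hm
      by_cases hΨ1 : Ψ = oneIrr G
      · rw [hΨ1]; rfl
      · have hle : y Ψ ≤ x := by
          rw [← hxy]
          have h1 : m Ψ * y Ψ ≤ ∑ Ψ : IrrCharacter G, m Ψ * y Ψ :=
            Finset.single_le_sum (f := fun Ψ => m Ψ * y Ψ) (fun _ _ => Nat.zero_le _)
              (Finset.mem_univ Ψ)
          have h2 : y Ψ ≤ m Ψ * y Ψ := Nat.le_mul_of_pos_left _ (Nat.pos_of_ne_zero hm)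
          omega
        have hdeg' : (y Ψ) ^ 2 + 1 < Nat.card (P : Subgroup G) := by
          have : (y Ψ) ^ 2 ≤ x ^ 2 := Nat.pow_le_pow_left hle 2
          omega
        obtain ⟨h1, -⟩ := alternative P h hK Ψ hΨ1 (y Ψ) (hy Ψ) hdeg'
        rw [hy, h1, Nat.cast_one]
    have hcomm := comm_of_linear_constituents χ m hsum hlin hfaith
    constructor
    intro u hu g
    have : g * u * g⁻¹ = u := by
      rw [hcomm g u, mul_assoc, mul_inv_cancel, mul_one]
    rw [this]
    exact hu

end Cfsg.Agent.Lib.Helper74_BLFaith
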