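import Mathlib
import Cfsg.Prelude.Def_Characters
import Cfsg.Agent.Lib.Helper74_BLFaith
import Cfsg.Agent.Lib.Helper74_TwoDegS
import Cfsg.Agent.Lib.Helper76_GalConj
import Cfsg.Agent.Lib.Helper75_GalConj
import Cfsg.Agent.Lib.Helper75_CommChar
import Cfsg.Agent.Lib.Helper3_Ito
import Cfsg.Agent.Lib.Helper39_CharTools
import Cfsg.Agent.Lib.Helper16_Quot
import Cfsg.Agent.Lib.Helper3_CharEigen

/-!
# Character-theoretic input for Blichfeldt's abelian Hall subgroup theorem (helper74)

* `exists_decomp`: multiplicities and degrees of the irreducible constituents of a character;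
* `comm_of_pgroup`: a `p`-group with a faithful character of degree `< p` is abelian;
* `le_centralizer_of_le_normalizer`: an `r`-subgroup (`r >` degree) normalizing an abelian
  subgroup centralizes it;
* `exists_commute_of_irr`: a faithful irreducible character of degree `n` and two primes
  `p ≠ q`, both `> n + 1`, dividing `|G|` force commuting elements of orders `p` and `q`;
* `exists_quot_faithful`, `exists_split`: reduction tools for reducible characters.
-/

set_option autoImplicit false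
set_option linter.unusedSectionVars false
set_option linter.unusedVariables false

namespace Cfsg.Agent.Lib.Helper74_HallChar

open Cfsg Cfsg.Agent.Lib.Helper80_CharBasic
open scoped ComplexConjugate Classical

universe u

variable {G : Type u} [Group G]

/-- multiplicities and degrees of the irreducible constituents of a character -/
theorem exists_decomp [Fintype G] {χ : G → ℂ} (hχ : IsCharacter G χ) (n : ℕ) (hn : χ 1 = n) :
    ∃ (m y : IrrCharacter G → ℕ), (∀ Ψ : IrrCharacter G, classInner χ Ψ = m Ψ) ∧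
      χ = ∑ Ψ : IrrCharacter G, (m Ψ : ℂ) • (Ψ : G → ℂ) ∧ (∀ Ψ, 0 < y Ψ) ∧
      (∀ Ψ : IrrCharacter G, (Ψ : G → ℂ) 1 = y Ψ) ∧ ∑ Ψ : IrrCharacter G, m Ψ * y Ψ = n := by
  obtain ⟨m, hm, hsum⟩ := Cfsg.Agent.Lib.Helper75_CharArith.exists_multiplicities hχ
  choose y hypos hy using fun Ψ : IrrCharacter G => irr_apply_one Ψ
  refine ⟨m, y, hm, hsum, hypos, hy, ?_⟩
  have h1 := congrFun hsum 1
  simp only [Finset.sum_apply, Pi.smul_apply, smul_eq_mul, hy] at h1
  rw [hn] at h1
  have h2 : ((n : ℕ) : ℂ) = ((∑ Ψ : IrrCharacter G, m Ψ * y Ψ : ℕ) : ℂ) := by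
    push_cast
    exact h1
  exact_mod_cast h2.symm

/-- a constituent has degree at most the degree of the character -/
theorem degree_le_of_decomp [Fintype G] (m y : IrrCharacter G → ℕ) (n : ℕ)
    (hxy : ∑ Ψ : IrrCharacter G, m Ψ * y Ψ = n) (Ψ : IrrCharacter G) (hm : m Ψ ≠ 0) :
    y Ψ ≤ n := by
  rw [← hxy]
  have h1 : m Ψ * y Ψ ≤ ∑ Ψ : IrrCharacter G, m Ψ * y Ψ :=
    Finset.single_le_sum (f := fun Ψ => m Ψ * y Ψ) (fun _ _ => Nat.zero_le _)
      (Finset.mem_univ Ψ)
  have h2 : y Ψ ≤ m Ψ * y Ψ := Nat.le_mul_of_pos_left _ (Nat.pos_of_ne_zero hm)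
  omega

/-- a `p`-group with a faithful character of degree less than `p` is abelian -/
theorem comm_of_pgroup [Finite G] (p : ℕ) [hp : Fact p.Prime] (hG : IsPGroup p G) (χ : G → ℂ)
    (hχ : IsCharacter G χ) (hfaith : ∀ g : G, χ g = χ 1 → g = 1) (n : ℕ) (hn : χ 1 = n)
    (hnp : n < p) (a b : G) : a * b = b * a := by
  have : Fintype G := Fintype.ofFinite G
  obtain ⟨m, y, -, hsum, hypos, hy, hxy⟩ := exists_decomp hχ n hn
  have hlin : ∀ Ψ : IrrCharacter G, m Ψ ≠ 0 → (Ψ : G → ℂ) 1 = 1 := by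
    intro Ψ hm
    have hle := degree_le_of_decomp m y n hxy Ψ hm
    have hdvd := Cfsg.Agent.Lib.Helper74_TwoDegS.degree_dvd_card Ψ (y Ψ) (hy Ψ)
    obtain ⟨k, hk⟩ := hG.exists_card_eq
    rw [hk] at hdvd
    obtain ⟨j, _, hj⟩ := (Nat.dvd_prime_pow hp.out).mp hdvd
    have hj0 : j = 0 := by
      by_contra hj0
      have : p ≤ p ^ j := Nat.le_self_pow hj0 p
      omega
    rw [hy, hj, hj0, pow_zero, Nat.cast_one]
  exact Cfsg.Agent.Lib.Helper74_BLFaith.comm_of_linear_constituents χ m hsum hlin hfaith a b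

/-- an `r`-subgroup normalizing an abelian subgroup centralizes it, when `r` exceeds the degree of a
faithful character -/
theorem le_centralizer_of_le_normalizer [Finite G] (χ : G → ℂ) (hχ : IsCharacter G χ)
    (hfaith : ∀ g : G, χ g = χ 1 → g = 1) (n : ℕ) (hn : χ 1 = n) (r : ℕ) [hr : Fact r.Prime]
    (hnr : n < r) (R A : Subgroup G) (hR : IsPGroup r R)
    (hA : ∀ x ∈ A, ∀ y ∈ A, x * y = y * x)
    (hRA : R ≤ Subgroup.normalizer (A : Set G)) : R ≤ Subgroup.centralizer (A : Set G) := by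
  set B : Subgroup G := A ⊔ R with hB
  have hAB : A ≤ B := le_sup_left
  have hRB : R ≤ B := le_sup_right
  have hBN : B ≤ Subgroup.normalizer (A : Set G) := sup_le Subgroup.le_normalizer hRA
  have hnorm : (A.subgroupOf B).Normal := Subgroup.normal_subgroupOf_of_le_normalizer hBN
  have : Fintype B := Fintype.ofFinite B
  -- the quotient is an `r`-group
  have hquot : IsPGroup r (B ⧸ A.subgroupOf B) := by
    have h1 : IsPGroup r (R.subgroupOf B) := hR.comap_subtype
    have h2 := h1.map (QuotientGroup.mk' (A.subgroupOf B))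
    have h3 : (R.subgroupOf B).map (QuotientGroup.mk' (A.subgroupOf B)) = ⊤ := by
      have h4 : A.subgroupOf B ⊔ R.subgroupOf B = ⊤ := by
        rw [← Subgroup.subgroupOf_sup hAB hRB]
        exact Subgroup.subgroupOf_self B
      have h5 : (A.subgroupOf B ⊔ R.subgroupOf B).map (QuotientGroup.mk' (A.subgroupOf B)) = ⊤ := by
        rw [h4]
        exact Subgroup.map_top_of_surjective _ (QuotientGroup.mk'_surjective _)
      rw [Subgroup.map_sup] at h5
      have h6 : (A.subgroupOf B).map (QuotientGroup.mk' (A.subgroupOf B)) = ⊥ := by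
        rw [Subgroup.map_eq_bot_iff, QuotientGroup.ker_mk']
      rw [h6, bot_sup_eq] at h5
      exact h5
    rw [h3] at h2
    exact IsPGroup.of_equiv h2 Subgroup.topEquiv
  obtain ⟨k, hk⟩ := hquot.exists_card_eq
  have hidx : (A.subgroupOf B).index = r ^ k := by
    rw [Subgroup.index_eq_card]
    exact hk
  -- the restricted character
  have hφ : IsCharacter B (fun b : B => χ b) :=
    Cfsg.Agent.Lib.Helper75_CharArith.isCharacter_restrict B hχ
  have hφfaith : ∀ b : B, (fun b : B => χ b) b = (fun b : B => χ b) 1 → b = 1 := by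
    intro b hb
    exact Subtype.ext (hfaith (b : G) hb)
  obtain ⟨m, y, -, hsum, hypos, hy, hxy⟩ := exists_decomp hφ n hn
  have hab' : ∀ a ∈ A.subgroupOf B, ∀ b ∈ A.subgroupOf B, a * b = b * a := by
    intro a ha b hb
    rw [Subgroup.mem_subgroupOf] at ha hb
    exact Subtype.ext (hA _ ha _ hb)
  have hlin : ∀ Ψ : IrrCharacter B, m Ψ ≠ 0 → (Ψ : B → ℂ) 1 = 1 := by
    intro Ψ hm
    have hle := degree_le_of_decomp m y n hxy Ψ hm
    obtain ⟨d, ρ, hirr, hρ⟩ := Ψ.2
    have := hirr
    have h1 := Cfsg.Agent.Lib.Helper3_Ito.ito ρ (A.subgroupOf B) hab'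
    have h2 : Module.finrank ℂ (Fin d → ℂ) = d := by simp
    have h3 : (Ψ : B → ℂ) 1 = d := by
      rw [← hρ, Representation.char_one]
      simp
    have h4 : y Ψ = d := by
      rw [hy] at h3
      exact_mod_cast h3
    rw [h2, hidx, ← h4] at h1
    obtain ⟨j, _, hj⟩ := (Nat.dvd_prime_pow hr.out).mp h1
    have hj0 : j = 0 := by
      by_contra hj0
      have : r ≤ r ^ j := Nat.le_self_pow hj0 r
      omega
    rw [hy, hj, hj0, pow_zero, Nat.cast_one]
  have hcomm := Cfsg.Agent.Lib.Helper74_BLFaith.comm_of_linear_constituents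
    (fun b : B => χ b) m hsum hlin hφfaith
  intro s hs
  rw [Subgroup.mem_centralizer_iff]
  intro a ha
  have := hcomm ⟨a, hAB ha⟩ ⟨s, hRB hs⟩
  exact congrArg Subtype.val this

section Cyclic

variable {Z : Type u} [Group Z] [Fintype Z]

/-- a character of a commutative group of order `p`, constant off the identity and of degree `n`
with `n + 1 < p`, is constant -/
theorem const_of_const_off_one (hcomm : ∀ a b : Z, a * b = b * a) (p : ℕ)
    (hcard : Fintype.card Z = p) (φ : Z → ℂ) (hφ : IsCharacter Z φ) (n : ℕ) (hn : φ 1 = n)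
    (c : ℂ) (hc : ∀ z : Z, z ≠ 1 → φ z = c) (hnp : n + 1 < p) : c = n := by
  obtain ⟨m, y, hm, hsum, hypos, hy, hxy⟩ := exists_decomp hφ n hn
  have hone : ∀ Ψ : IrrCharacter Z, (Ψ : Z → ℂ) 1 = 1 :=
    fun Ψ => Cfsg.Agent.Lib.Helper75_CommChar.irr_one hcomm Ψ
  have hy1 : ∀ Ψ : IrrCharacter Z, y Ψ = 1 := by
    intro Ψ
    have := hy Ψ
    rw [hone] at this
    exact_mod_cast this.symm
  have hcardC : (Nat.card Z : ℂ) = p := by
    rw [Nat.card_eq_fintype_card, hcard]
  have hp0 : (p : ℂ) ≠ 0 := by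
    rw [Nat.cast_ne_zero]; omega
  have key : ∀ Ψ : IrrCharacter Z, Ψ ≠ oneIrr Z → (m Ψ : ℂ) * p = n - c := by
    intro Ψ hΨ
    have h0 : ∑ z : Z, conj ((Ψ : Z → ℂ) z) = 0 := by
      have h := Cfsg.Agent.Lib.Helper3_CharOrtho.classInner_of_isIrrCharacter_of_ne
        (oneIrr Z).2 Ψ.2 (fun h => hΨ (Subtype.ext h.symm))
      unfold classInner at h
      rw [hcardC] at h
      have h' := (mul_eq_zero.mp h).resolve_left (inv_ne_zero hp0)
      rw [← h']
      apply Finset.sum_congr rfl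
      intro z _
      show _ = (1 : ℂ) * _
      rw [one_mul]
    have herase : ∑ z ∈ Finset.univ.erase (1 : Z), conj ((Ψ : Z → ℂ) z) = -1 := by
      have := Finset.add_sum_erase Finset.univ (fun z => conj ((Ψ : Z → ℂ) z))
        (Finset.mem_univ (1 : Z))
      rw [h0] at this
      simp only [hone, map_one] at this
      linear_combination this
    have h1 : classInner φ Ψ = (p : ℂ)⁻¹ * (n - c) := by
      unfold classInner
      rw [hcardC]
      congr 1
      rw [← Finset.add_sum_erase Finset.univ _ (Finset.mem_univ (1 : Z))]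
      have h2 : ∑ z ∈ Finset.univ.erase (1 : Z), φ z * conj ((Ψ : Z → ℂ) z) =
          c * ∑ z ∈ Finset.univ.erase (1 : Z), conj ((Ψ : Z → ℂ) z) := by
        rw [Finset.mul_sum]
        apply Finset.sum_congr rfl
        intro z hz
        rw [hc z (Finset.ne_of_mem_erase hz)]
      rw [h2, herase, hn, hone, map_one]
      ring
    rw [hm Ψ] at h1
    rw [h1]
    field_simp
  -- there is a nontrivial irreducible character
  have hcardirr : Fintype.card (IrrCharacter Z) = p := by
    rw [Cfsg.Agent.Lib.Helper75_CommChar.card_irr hcomm, hcard]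
  -- all nontrivial multiplicities are equal
  by_contra hne
  have hpos : ∀ Ψ : IrrCharacter Z, Ψ ≠ oneIrr Z → 1 ≤ m Ψ := by
    intro Ψ hΨ
    by_contra h0
    have h0' : m Ψ = 0 := by omega
    have := key Ψ hΨ
    rw [h0', Nat.cast_zero, zero_mul] at this
    apply hne
    linear_combination this
  have hsum' : ∑ Ψ : IrrCharacter Z, m Ψ = n := by
    rw [← hxy]
    apply Finset.sum_congr rfl
    intro Ψ _
    rw [hy1, mul_one]
  have hge : p - 1 ≤ ∑ Ψ ∈ Finset.univ.erase (oneIrr Z), m Ψ := by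
    have h1 : ∑ Ψ ∈ Finset.univ.erase (oneIrr Z), 1 ≤ ∑ Ψ ∈ Finset.univ.erase (oneIrr Z), m Ψ := by
      apply Finset.sum_le_sum
      intro Ψ hΨ
      exact hpos Ψ (Finset.ne_of_mem_erase hΨ)
    rw [Finset.sum_const, Finset.card_erase_of_mem (Finset.mem_univ _), Finset.card_univ,
      hcardirr, smul_eq_mul, mul_one] at h1
    exact h1
  have hle : ∑ Ψ ∈ Finset.univ.erase (oneIrr Z), m Ψ ≤ ∑ Ψ : IrrCharacter Z, m Ψ :=
    Finset.sum_le_sum_of_subset (Finset.erase_subset _ _)
  omega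

end Cyclic

/-- a power map fixing `p`-regular elements which moves a faithful character of small degree -/
theorem exists_twist [Finite G] (χ : G → ℂ) (hχ : IsCharacter G χ)
    (hfaith : ∀ g : G, χ g = χ 1 → g = 1) (n : ℕ) (hn : χ 1 = n) (p : ℕ) [hp : Fact p.Prime]
    (hnp : n + 1 < p) (hpG : p ∣ Nat.card G) :
    ∃ k : ℕ, k.Coprime (Nat.card G) ∧ (∀ g : G, ¬ p ∣ orderOf g → g ^ k = g) ∧
      (fun g => χ (g ^ k)) ≠ χ := by
  obtain ⟨a, N', hN', hNeq⟩ :=
    Nat.exists_eq_pow_mul_and_not_dvd (Nat.card_pos (α := G)).ne' p hp.out.ne_one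
  obtain ⟨u, hu⟩ := IsCyclic.exists_generator (α := (ZMod p)ˣ)
  set r₀ : ℕ := ((u : (ZMod p)ˣ) : ZMod p).val with hr₀
  have co : Nat.Coprime N' p := ((Nat.Prime.coprime_iff_not_dvd hp.out).mpr hN').symm
  obtain ⟨k, hk1, hk2⟩ := Nat.chineseRemainder co 1 r₀
  have hku : ((k : ℕ) : ZMod p) = (u : ZMod p) := by
    rw [(ZMod.natCast_eq_natCast_iff k r₀ p).mpr hk2, hr₀, ZMod.natCast_zmod_val]
  have hkp : ¬ p ∣ k := by
    intro h
    have h0 : ((k : ℕ) : ZMod p) = 0 := (ZMod.natCast_eq_zero_iff k p).mpr h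
    rw [hku] at h0
    exact u.ne_zero h0
  have hcop : k.Coprime (Nat.card G) := by
    rw [hNeq]
    apply Nat.Coprime.mul_right
    · exact Nat.Coprime.pow_right a ((Nat.Prime.coprime_iff_not_dvd hp.out).mpr hkp).symm
    · have := hk1.gcd_eq
      rw [Nat.gcd_one_left] at this
      exact this
  refine ⟨k, hcop, ?_, ?_⟩
  · intro g hg
    have h1 : orderOf g ∣ p ^ a * N' := by
      rw [← hNeq]; exact orderOf_dvd_natCard g
    have h2 : (orderOf g).Coprime (p ^ a) :=
      Nat.Coprime.pow_right a ((Nat.Prime.coprime_iff_not_dvd hp.out).mpr hg).symm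
    have h3 : orderOf g ∣ N' := h2.dvd_of_dvd_mul_left h1
    have h4 : k ≡ 1 [MOD orderOf g] := hk1.of_dvd h3
    have := (pow_eq_pow_iff_modEq (x := g)).mpr h4
    rw [pow_one] at this
    exact this
  · intro heq
    have hk' : ∀ g : G, χ (g ^ k) = χ g := fun g => congrFun heq g
    obtain ⟨x, hx⟩ := exists_prime_orderOf_dvd_card' p hpG
    have iter : ∀ i : ℕ, χ (x ^ (k ^ i)) = χ x := by
      intro i
      induction i with
      | zero => rw [pow_zero, pow_one]
      | succ i ih => rw [pow_succ, pow_mul, hk', ih]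
    have hconst : ∀ t : ℕ, ¬ p ∣ t → χ (x ^ t) = χ x := by
      intro t ht
      have ht0 : ((t : ℕ) : ZMod p) ≠ 0 := fun h => ht ((ZMod.natCast_eq_zero_iff t p).mp h)
      have hmem := hu (Units.mk0 _ ht0)
      rw [← mem_powers_iff_mem_zpowers, Submonoid.mem_powers_iff] at hmem
      obtain ⟨i, hi⟩ := hmem
      have h1 : ((k ^ i : ℕ) : ZMod p) = ((t : ℕ) : ZMod p) := by
        push_cast
        rw [hku]
        have := congrArg (fun v : (ZMod p)ˣ => (v : ZMod p)) hi
        simpa using this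
      have h2 : k ^ i ≡ t [MOD p] := (ZMod.natCast_eq_natCast_iff _ _ p).mp h1
      have h3 : x ^ (k ^ i) = x ^ t := by
        rw [pow_eq_pow_iff_modEq, hx]
        exact h2
      rw [← h3]
      exact iter i
    -- the cyclic group generated by `x`
    set Z : Subgroup G := Subgroup.zpowers x with hZ
    have : Fintype Z := Fintype.ofFinite Z
    have hZcomm : ∀ a b : Z, a * b = b * a := by
      intro a b
      obtain ⟨a, ha⟩ := a
      obtain ⟨b, hb⟩ := b
      rw [hZ, Subgroup.mem_zpowers_iff] at ha hb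
      obtain ⟨i, rfl⟩ := ha
      obtain ⟨j, rfl⟩ := hb
      apply Subtype.ext
      show x ^ i * x ^ j = x ^ j * x ^ i
      rw [← zpow_add, ← zpow_add, add_comm]
    have hZcard : Fintype.card Z = p := by
      rw [← Nat.card_eq_fintype_card, hZ, Nat.card_zpowers, hx]
    have hφ : IsCharacter Z (fun z : Z => χ z) :=
      Cfsg.Agent.Lib.Helper75_CharArith.isCharacter_restrict Z hχ
    have hc : ∀ z : Z, z ≠ 1 → (fun z : Z => χ z) z = χ x := by
      intro z hz
      have hzm : (z : G) ∈ Subgroup.zpowers x := z.2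
      rw [← mem_powers_iff_mem_zpowers, Submonoid.mem_powers_iff] at hzm
      obtain ⟨t, ht⟩ := hzm
      have htp : ¬ p ∣ t := by
        intro h
        apply hz
        apply Subtype.ext
        rw [← ht]
        show x ^ t = 1
        rw [← hx] at h
        exact orderOf_dvd_iff_pow_eq_one.mp h
      show χ (z : G) = χ x
      rw [← ht]
      exact hconst t htp
    have hfin := const_of_const_off_one hZcomm p hZcard (fun z : Z => χ z) hφ n hn (χ x) hc hnp
    have hx1 : x = 1 := hfaith x (by rw [hfin, hn])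
    rw [hx1, orderOf_one] at hx
    exact hp.out.one_lt.ne hx

/-- **Key lemma.** A faithful irreducible character of degree `n` and two primes `p ≠ q`, both larger
than `n + 1` and dividing `|G|`, force commuting elements of orders `p` and `q`. -/
theorem exists_commute_of_irr [Finite G] (χ : G → ℂ) (hχ : IsIrrCharacter G χ)
    (hfaith : ∀ g : G, χ g = χ 1 → g = 1) (n : ℕ) (hn : χ 1 = n) (p q : ℕ)
    [hp : Fact p.Prime] [hq : Fact q.Prime] (hnp : n + 1 < p) (hnq : n + 1 < q)
    (hpG : p ∣ Nat.card G) (hqG : q ∣ Nat.card G) :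
    ∃ x y : G, x * y = y * x ∧ orderOf x = p ∧ orderOf y = q := by
  by_contra hno
  push Not at hno
  have : Fintype G := Fintype.ofFinite G
  have hχc : IsCharacter G χ :=
    Cfsg.Agent.Lib.Helper3_CharBridge.isCharacter_of_isIrrCharacter hχ
  have hnot : ∀ g : G, ¬ p ∣ orderOf g ∨ ¬ q ∣ orderOf g := by
    intro g
    by_contra h
    push Not at h
    obtain ⟨h1, h2⟩ := h
    have hg0 : orderOf g ≠ 0 := (orderOf_pos g).ne'
    refine hno (g ^ (orderOf g / p)) (g ^ (orderOf g / q)) ?_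
      (orderOf_pow_orderOf_div hg0 h1) (orderOf_pow_orderOf_div hg0 h2)
    rw [← pow_add, ← pow_add, add_comm]
  obtain ⟨k, hkc, hkfix, hkne⟩ := exists_twist χ hχc hfaith n hn p hnp hpG
  obtain ⟨l, hlc, hlfix, hlne⟩ := exists_twist χ hχc hfaith n hn q hnq hqG
  have hχk := Cfsg.Agent.Lib.Helper75_GalConj.isIrrCharacter_powMap hχ k hkc
  have hχl := Cfsg.Agent.Lib.Helper75_GalConj.isIrrCharacter_powMap hχ l hlc
  have hzero : classInner ((fun g => χ (g ^ k)) - χ) ((fun g => χ (g ^ l)) - χ) = 0 := by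
    unfold classInner
    rw [Finset.sum_eq_zero, mul_zero]
    intro g _
    rcases hnot g with h | h
    · simp only [Pi.sub_apply]
      rw [hkfix g h, sub_self, zero_mul]
    · simp only [Pi.sub_apply]
      rw [hlfix g h, sub_self, map_zero, mul_zero]
  rw [Cfsg.Agent.Lib.Helper3_CharOrtho.classInner_sub_left] at hzero
  have hsubr : ∀ φ : G → ℂ, classInner φ ((fun g => χ (g ^ l)) - χ) =
      classInner φ (fun g => χ (g ^ l)) - classInner φ χ := by
    intro φ
    unfold classInner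
    rw [← mul_sub, ← Finset.sum_sub_distrib]
    congr 1
    apply Finset.sum_congr rfl
    intro g _
    simp only [Pi.sub_apply, map_sub]
    ring
  rw [hsubr, hsubr] at hzero
  rw [Cfsg.Agent.Lib.Helper3_CharOrtho.classInner_of_isIrrCharacter_of_ne hχk hχ hkne,
    Cfsg.Agent.Lib.Helper3_CharOrtho.classInner_of_isIrrCharacter_of_ne hχ hχl (Ne.symm hlne),
    Cfsg.Agent.Lib.Helper3_CharOrtho.classInner_self_of_isIrrCharacter hχ,
    Cfsg.Agent.Lib.Helper3_CharOrtho.classInner_irr hχk hχl] at hzero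
  split_ifs at hzero with h
  · norm_num at hzero
  · norm_num at hzero

/-- the kernel of a character, and the induced faithful character of the quotient -/
theorem exists_quot_faithful [Finite G] {χ : G → ℂ} (hχ : IsCharacter G χ) :
    ∃ (K : Subgroup G) (_ : K.Normal) (ψ : G ⧸ K → ℂ), IsCharacter (G ⧸ K) ψ ∧
      (∀ g : G, ψ (QuotientGroup.mk g) = χ g) ∧ (∀ g : G, g ∈ K ↔ χ g = χ 1) ∧
      ∀ x : G ⧸ K, ψ x = ψ 1 → x = 1 := by
  obtain ⟨d, ρ, rfl⟩ := hχ
  let K : Subgroup G := MonoidHom.ker ρ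
  have hKn : K.Normal := MonoidHom.normal_ker ρ
  have hmem : ∀ g : G, g ∈ K ↔ ρ.character g = ρ.character 1 := by
    intro g
    rw [Representation.char_one, Cfsg.Agent.Lib.Helper3_CharEigen.char_eq_finrank_iff]
    show ρ g = 1 ↔ _
    rfl
  have htriv : Representation.IsTrivial (ρ.comp K.subtype) := by
    constructor
    intro u
    have h1 : ρ (u : G) = 1 := u.2
    exact h1
  refine ⟨K, hKn, (Representation.ofQuotient ρ K).character,
    ⟨d, Representation.ofQuotient ρ K, rfl⟩, ?_, hmem, ?_⟩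
  · intro g
    exact Cfsg.Agent.Lib.Helper16_Quot.ofQuotient_character ρ K g
  · intro x hx
    induction x using QuotientGroup.induction_on with
    | H g =>
      have h1 := Cfsg.Agent.Lib.Helper16_Quot.ofQuotient_character ρ K g
      have h2 := Cfsg.Agent.Lib.Helper16_Quot.ofQuotient_character ρ K 1
      rw [QuotientGroup.mk_one] at h2
      rw [h1, h2] at hx
      exact (QuotientGroup.eq_one_iff g).mpr ((hmem g).mpr hx)

/-- a reducible character of positive degree splits as a sum of two nonzero characters -/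
theorem exists_split [Finite G] {χ : G → ℂ} (hχ : IsCharacter G χ) (hirr : ¬ IsIrrCharacter G χ)
    (n : ℕ) (hn : χ 1 = n) (hn0 : n ≠ 0) :
    ∃ (χ₁ χ₂ : G → ℂ) (n₁ n₂ : ℕ), IsCharacter G χ₁ ∧ IsCharacter G χ₂ ∧ χ = χ₁ + χ₂ ∧
      χ₁ 1 = n₁ ∧ χ₂ 1 = n₂ ∧ n₁ ≠ 0 ∧ n₂ ≠ 0 ∧ n₁ + n₂ = n := by
  have : Fintype G := Fintype.ofFinite G
  obtain ⟨m, y, hm, hsum, hypos, hy, hxy⟩ := exists_decomp hχ n hn
  have hex : ∃ Ψ : IrrCharacter G, m Ψ ≠ 0 := by
    by_contra h
    push Not at h
    apply hn0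
    rw [← hxy]
    apply Finset.sum_eq_zero
    intro Ψ _
    rw [h Ψ, zero_mul]
  obtain ⟨Ψ, hΨ⟩ := hex
  have h2 : IsCharacter G (χ - (Ψ : G → ℂ)) := by
    apply Cfsg.Agent.Lib.Helper39_CharTools.isCharacter_sub_irr hχ Ψ.2
    rw [hm]
    exact_mod_cast hΨ
  obtain ⟨d, ρ, hρ⟩ := h2
  have hd : (χ - (Ψ : G → ℂ)) 1 = d := by
    rw [← hρ, Representation.char_one]
    simp
  have hadd : y Ψ + d = n := by
    have h3 : ((y Ψ + d : ℕ) : ℂ) = (n : ℂ) := by
      push_cast
      rw [← hy, ← hd, ← hn]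
      simp
    exact_mod_cast h3
  refine ⟨Ψ, χ - (Ψ : G → ℂ), y Ψ, d,
    Cfsg.Agent.Lib.Helper3_CharBridge.isCharacter_of_isIrrCharacter Ψ.2, ⟨d, ρ, hρ⟩, ?_,
    hy Ψ, hd, (hypos Ψ).ne', ?_, hadd⟩
  · funext g
    simp
  · intro hd0
    apply hirr
    have h4 : χ - (Ψ : G → ℂ) = 0 := by
      apply Cfsg.Agent.Lib.Helper39_CharTools.eq_zero_of_isCharacter_of_one_eq_zero ⟨d, ρ, hρ⟩
      rw [hd, hd0, Nat.cast_zero]
    have h5 : χ = (Ψ : G → ℂ) := sub_eq_zero.mp h4
    rw [h5]
    exact Ψ.2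

end Cfsg.Agent.Lib.Helper74_HallChar
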