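import Mathlib
import Cfsg.Prelude.Def_Characters
import Cfsg.Prelude.Def_Blocks
import Cfsg.Agent.Lib.Helper3_CharGaloisAct
import Cfsg.Agent.Lib.Helper79_CharVals
import Cfsg.Agent.Lib.Helper75_CharProd
import Cfsg.Agent.Lib.Helper77_PRoots
import Cfsg.Agent.S0165

/-!
# Schur's bound on the order of a Sylow `p`-subgroup of a finite linear group with a faithful
`p`-rational character (helper76)
-/

set_option autoImplicit false
set_option linter.unusedSectionVars false

namespace Cfsg.Agent.Lib.Helper76_SchurBound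

open Cfsg.Agent.Lib.Helper3_CharEigen Cfsg.Agent.Lib.Helper3_CharGaloisAct

section galois

variable {G : Type*} [Group G] [Finite G] {V : Type*} [AddCommGroup V] [Module ℂ V]
  [FiniteDimensional ℂ V] (ρ : Representation ℂ G V) (N : ℕ) [NeZero N] (hN : Nat.card G ∣ N)

include hN in
theorem eig_pow_of_card_dvd {g : G} {μ : ℂ} (hμ : μ ∈ eigSet (ρ g)) : μ ^ N = 1 := by
  obtain ⟨k, rfl⟩ := hN
  rw [pow_mul, eig_pow_card ρ hμ, one_pow]

/-- The character value `χ(g)` as an element of the cyclotomic field `ℚ(ζ_N)`, `|G| ∣ N`. -/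
noncomputable def charKN (g : G) : cyc N :=
  ∑ μ ∈ (eigSet (ρ g)).attach,
    (Module.finrank ℂ (Module.End.eigenspace (ρ g) μ.1) : cyc N) *
      ⟨μ.1, mem_cyc (NeZero.ne N) (eig_pow_of_card_dvd ρ N hN μ.2)⟩

theorem coe_charKN (g : G) : ((charKN ρ N hN g : cyc N) : ℂ) = ρ.character g := by
  have hφ : ∀ x : cyc N, (x : ℂ) = algebraMap (cyc N) ℂ x := fun x => rfl
  have hφμ : ∀ μ : {μ // μ ∈ eigSet (ρ g)},
      algebraMap (cyc N) ℂ ⟨μ.1, mem_cyc (NeZero.ne N) (eig_pow_of_card_dvd ρ N hN μ.2)⟩ = μ.1 :=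
    fun μ => rfl
  rw [hφ, charKN, map_sum, char_eq_sum ρ g,
    ← Finset.sum_attach (eigSet (ρ g))
      (fun μ => (Module.finrank ℂ (Module.End.eigenspace (ρ g) μ) : ℂ) * μ)]
  refine Finset.sum_congr rfl (fun μ _ => ?_)
  rw [map_mul, map_natCast, hφμ]

theorem coe_aut_charKN (g : G) (σ : cyc N ≃ₐ[ℚ] cyc N) (m : ℕ)
    (hσ : ∀ x : cyc N, x ^ N = 1 → σ x = x ^ m) :
    ((σ (charKN ρ N hN g) : cyc N) : ℂ) = ρ.character (g ^ m) := by
  have hφ : ∀ x : cyc N, (x : ℂ) = algebraMap (cyc N) ℂ x := fun x => rfl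
  have hφμ : ∀ μ : {μ // μ ∈ eigSet (ρ g)},
      algebraMap (cyc N) ℂ ⟨μ.1, mem_cyc (NeZero.ne N) (eig_pow_of_card_dvd ρ N hN μ.2)⟩ = μ.1 :=
    fun μ => rfl
  rw [hφ, charKN, map_sum, map_sum, char_pow_eq_sum ρ g m,
    ← Finset.sum_attach (eigSet (ρ g))
      (fun μ => (Module.finrank ℂ (Module.End.eigenspace (ρ g) μ) : ℂ) * μ ^ m)]
  refine Finset.sum_congr rfl (fun μ _ => ?_)
  have h1 : (⟨μ.1, mem_cyc (NeZero.ne N) (eig_pow_of_card_dvd ρ N hN μ.2)⟩ : cyc N) ^ N = 1 := by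
    apply Subtype.ext
    simp [eig_pow_of_card_dvd ρ N hN μ.2]
  rw [map_mul, map_natCast, hσ _ h1, map_mul, map_natCast, map_pow, hφμ]

include hN in
/-- If `χ(g)` lies in `ℚ(ζ_r)`, `r ∣ N`, `|G| ∣ N`, and `m` is prime to `N` with `m ≡ 1 (mod r)`,
then `χ(g ^ m) = χ(g)`. -/
theorem char_pow_eq_of_mem_adjoin (g : G) (r : ℕ) (hr : 0 < r) (hrN : r ∣ N)
    (hmem : ρ.character g ∈
      IntermediateField.adjoin ℚ ({Complex.exp (2 * Real.pi * Complex.I / r)} : Set ℂ))
    (m : ℕ) (hm : m.Coprime N) (hm1 : m ≡ 1 [MOD r]) :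
    ρ.character (g ^ m) = ρ.character g := by
  obtain ⟨σ, hσ⟩ := exists_aut_pow N m hm
  rw [← coe_aut_charKN ρ N hN g σ m hσ, ← coe_charKN ρ N hN g]
  congr 1
  set ζ : ℂ := Complex.exp (2 * Real.pi * Complex.I / r) with hζ
  have hζr : ζ ^ r = 1 := (Complex.isPrimitiveRoot_exp r hr.ne').pow_eq_one
  have hζN : ζ ^ N = 1 := by
    obtain ⟨k, rfl⟩ := hrN
    rw [pow_mul, hζr, one_pow]
  let z : cyc N := ⟨ζ, mem_cyc (NeZero.ne N) hζN⟩
  have hzN : z ^ N = 1 := by
    apply Subtype.ext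
    simpa [z] using hζN
  have hz : σ z = z := by
    rw [hσ z hzN]
    apply Subtype.ext
    have h1 : ζ ^ m = ζ := by
      rw [pow_eq_pow_mod m hζr, hm1, ← pow_eq_pow_mod 1 hζr, pow_one]
    simpa [z] using h1
  have hfix : ∀ y ∈ IntermediateField.adjoin ℚ ({z} : Set (cyc N)), σ y = y := by
    intro y hy
    induction hy using IntermediateField.adjoin_induction with
    | mem x hx => rw [Set.mem_singleton_iff.mp hx]; exact hz
    | algebraMap q => exact σ.commutes q
    | add x y _ _ hx hy => rw [map_add, hx, hy]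
    | inv x _ hx => rw [map_inv₀, hx]
    | mul x y _ _ hx hy => rw [map_mul, hx, hy]
  apply hfix
  refine (IntermediateField.mem_lift (F := cyc N)
    (E := IntermediateField.adjoin ℚ ({z} : Set (cyc N))) (charKN ρ N hN g)).mp ?_
  rw [IntermediateField.lift_adjoin_simple, coe_charKN]
  exact hmem

/-- A `p`-rational character value at a `p`-element is invariant under powers prime to `p`. -/
theorem char_pow_eq_of_pRational {p : ℕ} (hp : p.Prime) (x : G) (k : ℕ) (hx : orderOf x = p ^ k)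
    (r : ℕ) (hr : 0 < r) (hpr : ¬ p ∣ r)
    (hmem : ρ.character x ∈
      IntermediateField.adjoin ℚ ({Complex.exp (2 * Real.pi * Complex.I / r)} : Set ℂ))
    (m : ℕ) (hm : m.Coprime p) : ρ.character (x ^ m) = ρ.character x := by
  have hNpos : Nat.card G * r ≠ 0 := Nat.mul_ne_zero Nat.card_pos.ne' hr.ne'
  have : NeZero (Nat.card G * r) := ⟨hNpos⟩
  obtain ⟨b, t, ht, hNbt⟩ := Nat.exists_eq_pow_mul_and_not_dvd hNpos p hp.ne_one
  have hpt : p.Coprime t := (Nat.Prime.coprime_iff_not_dvd hp).mpr ht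
  have hcop : (p ^ b).Coprime t := hpt.pow_left b
  have hm'1 : (Nat.chineseRemainder hcop m 1 : ℕ) ≡ m [MOD p ^ b] :=
    (Nat.chineseRemainder hcop m 1).2.1
  have hm'2 : (Nat.chineseRemainder hcop m 1 : ℕ) ≡ 1 [MOD t] :=
    (Nat.chineseRemainder hcop m 1).2.2
  set m' : ℕ := (Nat.chineseRemainder hcop m 1 : ℕ) with hm'
  have hrp : r.Coprime p := ((Nat.Prime.coprime_iff_not_dvd hp).mpr hpr).symm
  have hrt : r ∣ t := by
    have h1 : r ∣ p ^ b * t := hNbt ▸ Dvd.intro_left _ rfl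
    exact (hrp.pow_right b).dvd_of_dvd_mul_left h1
  have hxb : orderOf x ∣ p ^ b := by
    have h1 : orderOf x ∣ p ^ b * t :=
      (orderOf_dvd_natCard x).trans (hNbt ▸ Dvd.intro _ rfl)
    rw [hx] at h1 ⊢
    exact (hpt.pow_left k).dvd_of_dvd_mul_right h1
  have hcopN : m'.Coprime (Nat.card G * r) := by
    rw [hNbt]
    apply Nat.Coprime.mul_right
    · unfold Nat.Coprime
      rw [hm'1.gcd_eq]
      exact hm.pow_right b
    · unfold Nat.Coprime
      rw [hm'2.gcd_eq]
      exact Nat.gcd_one_left t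
  have h1 := char_pow_eq_of_mem_adjoin ρ (Nat.card G * r) ⟨r, rfl⟩ x r hr ⟨Nat.card G, mul_comm _ _⟩
    hmem m' hcopN (hm'2.of_dvd hrt)
  have h2 : x ^ m' = x ^ m := pow_eq_pow_iff_modEq.mpr (hm'1.of_dvd hxb)
  rw [← h2]
  exact h1

end galois

section values

open Cfsg.Agent.Lib.Helper78_LocalRing Cfsg.Agent.Lib.Helper77_PRoots

variable {G : Type*} [Group G] [Finite G] {V : Type*} [AddCommGroup V] [Module ℂ V]
  [FiniteDimensional ℂ V] (ρ : Representation ℂ G V)

/-- If `χ(x ^ m) = χ(x)` for all `m` prime to `p`, `x` a `p`-element, then `χ(x) ∈ ℤ`. -/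
theorem exists_int_of_forall_pow {p : ℕ} (x : G) (k : ℕ) (hx : orderOf x = p ^ k)
    (h : ∀ m : ℕ, m.Coprime p → ρ.character (x ^ m) = ρ.character x) :
    ∃ v : ℤ, ρ.character x = v := by
  have hq : ∃ q : ℚ, ρ.character x = q := by
    apply exists_rat_of_forall_pow
    intro m hm
    rcases Nat.eq_zero_or_pos k with hk | hk
    · have h1 : x = 1 := by rw [← orderOf_eq_one_iff, hx, hk, pow_zero]
      rw [h1, one_pow]
    · apply h
      have hpx : p ∣ orderOf x := by rw [hx]; exact dvd_pow_self p hk.ne'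
      exact Nat.Coprime.coprime_dvd_right (hpx.trans (orderOf_dvd_natCard x)) hm
  obtain ⟨q, hq⟩ := hq
  have hint : IsIntegral ℤ (ρ.character x) := isIntegral_char ρ x
  rw [hq] at hint
  have hint' : IsIntegral ℤ q :=
    (isIntegral_algebraMap_iff (algebraMap ℚ ℂ).injective).mp hint
  obtain ⟨v, hv⟩ := IsIntegrallyClosed.isIntegral_iff.mp hint'
  refine ⟨v, ?_⟩
  rw [hq, ← hv]
  simp

/-- An integer character value at a `p`-element is congruent to the degree modulo `p`. -/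
theorem dvd_finrank_sub_char {p : ℕ} (hp : p.Prime) (x : G) (k : ℕ) (hx : orderOf x = p ^ k)
    (v : ℤ) (hv : ρ.character x = v) : (p : ℤ) ∣ (Module.finrank ℂ V : ℤ) - v := by
  obtain ⟨M, hM⟩ := Cfsg.Agent.S0165.exists_isPModular p hp
  have hMp := isPrime_of_isPModular hM
  rw [← memLocalIdeal_intCast_iff hM]
  push_cast
  rw [← hv, char_eq_sum ρ x]
  have h1 : (Module.finrank ℂ V : ℂ) =
      ∑ μ ∈ eigSet (ρ x), (Module.finrank ℂ (Module.End.eigenspace (ρ x) μ) : ℂ) := by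
    rw [finrank_eq_sum ρ x]
    push_cast
    rfl
  rw [h1, ← Finset.sum_sub_distrib]
  apply memLocalIdeal_sum hMp
  intro μ hμ
  have h2 : (Module.finrank ℂ (Module.End.eigenspace (ρ x) μ) : ℂ) -
      (Module.finrank ℂ (Module.End.eigenspace (ρ x) μ) : ℂ) * μ =
      -((Module.finrank ℂ (Module.End.eigenspace (ρ x) μ) : ℂ) * (μ - 1)) := by ring
  rw [h2]
  apply memLocalIdeal_neg
  apply memLocalIdeal_mul_left hMp (memLocalRing_natCast hMp _)
  apply memLocalIdeal_sub_one_of_pow_eq_one hM μ k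
  rw [← hx]
  exact eig_pow_orderOf ρ hμ

theorem geom_sum_root {μ : ℂ} {q : ℕ} (hμ : μ ^ q = 1) :
    ∑ i ∈ Finset.range q, μ ^ (i + 1) = if μ = 1 then (q : ℂ) else 0 := by
  split_ifs with h
  · subst h
    simp
  · have h1 : (μ - 1) * ∑ i ∈ Finset.range q, μ ^ i = μ ^ q - 1 := mul_geom_sum μ q
    have h2 : ∑ i ∈ Finset.range q, μ ^ i = 0 := by
      rw [hμ, sub_self] at h1
      exact (mul_eq_zero.mp h1).resolve_left (sub_ne_zero.mpr h)
    simp_rw [pow_succ]
    rw [← Finset.sum_mul, h2, zero_mul]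

/-- Lower bound for a real character value at a `p`-element all of whose powers prime to `p`
have the same value. -/
theorem nonneg_of_forall_pow {p : ℕ} (hp : p.Prime) (x : G) (k : ℕ)
    (hx : orderOf x = p ^ (k + 1)) (v : ℝ)
    (hv : ∀ i : ℕ, ¬ p ∣ i → ρ.character (x ^ i) = (v : ℂ)) :
    0 ≤ ((p : ℝ) - 1) * v + Module.finrank ℂ V := by
  classical
  set S : ℂ := ∑ i ∈ Finset.range (p ^ (k + 1)), ρ.character (x ^ (i + 1)) with hS
  have hS1 : ∃ d : ℕ, S = ((p ^ (k + 1) : ℕ) : ℂ) * d := by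
    refine ⟨∑ μ ∈ (eigSet (ρ x)).filter (· = 1),
      Module.finrank ℂ (Module.End.eigenspace (ρ x) μ), ?_⟩
    rw [hS]
    simp_rw [char_pow_eq_sum ρ x]
    rw [Finset.sum_comm]
    simp_rw [← Finset.mul_sum]
    have h1 : ∀ μ ∈ eigSet (ρ x),
        (Module.finrank ℂ (Module.End.eigenspace (ρ x) μ) : ℂ) *
          ∑ i ∈ Finset.range (p ^ (k + 1)), μ ^ (i + 1) =
        if μ = 1 then ((p ^ (k + 1) : ℕ) : ℂ) *
          (Module.finrank ℂ (Module.End.eigenspace (ρ x) μ) : ℂ) else 0 := by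
      intro μ hμ
      rw [geom_sum_root (by rw [← hx]; exact eig_pow_orderOf ρ hμ)]
      split_ifs <;> ring
    rw [Finset.sum_congr rfl h1, ← Finset.sum_filter, Nat.cast_sum, Finset.mul_sum]
  obtain ⟨d, hd⟩ := hS1
  have hre : S.re = ∑ i ∈ Finset.range (p ^ (k + 1)), (ρ.character (x ^ (i + 1))).re := by
    rw [hS, Complex.re_sum]
  have hbound : ∀ i ∈ Finset.range (p ^ (k + 1)), (ρ.character (x ^ (i + 1))).re ≤
      if p ∣ i + 1 then (Module.finrank ℂ V : ℝ) else v := by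
    intro i _
    split_ifs with h
    · exact (Complex.re_le_norm _).trans (norm_char_le ρ _)
    · rw [hv _ h]
      simp
  have h1 : ((p ^ (k + 1) : ℕ) : ℝ) * d ≤
      ∑ i ∈ Finset.range (p ^ (k + 1)),
        if p ∣ i + 1 then (Module.finrank ℂ V : ℝ) else v := by
    have h2 := Finset.sum_le_sum hbound
    have h3 : (((p ^ (k + 1) : ℕ) : ℂ) * (d : ℂ)).re = ((p ^ (k + 1) : ℕ) : ℝ) * d := by
      rw [← Nat.cast_mul, Complex.natCast_re, Nat.cast_mul]
    rw [← hre, hd, h3] at h2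
    exact h2
  rw [Finset.sum_ite, Finset.sum_const, Finset.sum_const, nsmul_eq_mul, nsmul_eq_mul] at h1
  have hc1 : ((Finset.range (p ^ (k + 1))).filter (fun i => p ∣ i + 1)).card = p ^ k := by
    rw [Nat.card_multiples, pow_succ, Nat.mul_div_cancel _ hp.pos]
  have hc2 : ((Finset.range (p ^ (k + 1))).filter (fun i => ¬ p ∣ i + 1)).card =
      p ^ (k + 1) - p ^ k := by
    have h3 := Finset.card_filter_add_card_filter_not
      (s := Finset.range (p ^ (k + 1))) (fun i => p ∣ i + 1)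
    rw [hc1, Finset.card_range] at h3
    omega
  rw [hc1, hc2] at h1
  have h4 : ((p ^ (k + 1) - p ^ k : ℕ) : ℝ) = (p : ℝ) ^ k * ((p : ℝ) - 1) := by
    rw [Nat.cast_sub (Nat.pow_le_pow_right hp.pos (Nat.le_succ k)), Nat.cast_pow, Nat.cast_pow,
      pow_succ]
    ring
  rw [h4] at h1
  have hd0 : (0 : ℝ) ≤ ((p ^ (k + 1) : ℕ) : ℝ) * d := by positivity
  push_cast at hd0
  have hpk : (0 : ℝ) < (p : ℝ) ^ k := by
    have : (0 : ℝ) < p := by exact_mod_cast hp.pos
    positivity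
  have h5 : 0 ≤ (p : ℝ) ^ k * (((p : ℝ) - 1) * v + Module.finrank ℂ V) := by
    push_cast at h1
    linarith
  exact (mul_nonneg_iff_of_pos_left hpk).mp h5

end values

section main

open Polynomial

variable {G : Type*} [Group G] [Finite G]

theorem isCharacter_pow_succ {χ : G → ℂ} (hχ : Cfsg.IsCharacter G χ) (i : ℕ) :
    Cfsg.IsCharacter G (χ ^ (i + 1)) := by
  induction i with
  | zero => simpa using hχ
  | succ i ih =>
    rw [pow_succ]
    exact Cfsg.Agent.Lib.Helper75_CharProd.isCharacter_mul ih hχ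

/-- Schur's bound: a `p`-subgroup `P` on which the character `χ` of degree `n` is faithful and
takes values invariant under powers prime to `p` has order at most `p ^ (M + ν_p(M!))`,
`M = ⌊n / (p - 1)⌋`. -/
theorem schur_bound (p : ℕ) (hp : p.Prime) {n : ℕ} (ρ : Representation ℂ G (Fin n → ℂ))
    (P : Subgroup G) (a : ℕ) (hPa : Nat.card P = p ^ a)
    (hfaith : ∀ x ∈ P, ρ.character x = n → x = 1)
    (hpow : ∀ x ∈ P, ∀ m : ℕ, m.Coprime p → ρ.character (x ^ m) = ρ.character x) :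
    a ≤ n / (p - 1) + (n / (p - 1)).factorial.factorization p := by
  classical
  have := Fintype.ofFinite P
  have hfin : Module.finrank ℂ (Fin n → ℂ) = n := Module.finrank_fin_fun ℂ
  have hχ : Cfsg.IsCharacter G ρ.character := ⟨n, ρ, rfl⟩
  have hord : ∀ x : P, ∃ k, orderOf (x : G) = p ^ k := by
    intro x
    have h1 : orderOf (x : G) ∣ p ^ a := by
      rw [← hPa, Subgroup.orderOf_coe]
      exact orderOf_dvd_natCard x
    obtain ⟨k, -, hk⟩ := (Nat.dvd_prime_pow hp).mp h1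
    exact ⟨k, hk⟩
  have hint : ∀ x : P, ∃ v : ℤ, ρ.character (x : G) = v := by
    intro x
    obtain ⟨k, hk⟩ := hord x
    exact exists_int_of_forall_pow ρ (x : G) k hk (hpow x x.2)
  choose val hval using hint
  have hval1 : val 1 = n := by
    have h1 := hval 1
    rw [Subgroup.coe_one, Representation.char_one, hfin] at h1
    exact_mod_cast h1.symm
  have hp1 : 0 < p - 1 := by have := hp.two_le; omega
  have hnon : ∀ x : P, x ≠ 1 → ∃ m ∈ Finset.Ico 1 (n / (p - 1) + 1), val x = (n : ℤ) - p * (m : ℕ) := by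
    intro x hx1
    obtain ⟨k, hk⟩ := hord x
    have hxG : (x : G) ≠ 1 := fun h => hx1 (Subtype.ext h)
    have hk0 : k ≠ 0 := by
      rintro rfl
      rw [pow_zero, orderOf_eq_one_iff] at hk
      exact hxG hk
    obtain ⟨k', rfl⟩ := Nat.exists_eq_succ_of_ne_zero hk0
    have hdvd := dvd_finrank_sub_char ρ hp (x : G) (k' + 1) hk (val x) (hval x)
    rw [hfin] at hdvd
    have hle : val x ≤ n := by
      have h1 := norm_char_le ρ (x : G)
      rw [hval x, hfin, Complex.norm_intCast] at h1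
      have h2 : ((val x : ℤ) : ℝ) ≤ n := (le_abs_self _).trans h1
      exact_mod_cast h2
    have hne : val x ≠ n := by
      intro h
      apply hxG
      apply hfaith x x.2
      rw [hval x, h]
      simp
    have hlow := nonneg_of_forall_pow ρ hp (x : G) k' hk (val x : ℝ) (by
      intro i hi
      rw [hpow x x.2 i ((Nat.Prime.coprime_iff_not_dvd hp).mpr hi).symm, hval x]
      simp)
    rw [hfin] at hlow
    have hlow' : 0 ≤ ((p : ℤ) - 1) * val x + n := by exact_mod_cast hlow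
    obtain ⟨m, hm⟩ := hdvd
    have hppos : (0 : ℤ) < p := by exact_mod_cast hp.pos
    have hm1 : 1 ≤ m := by
      by_contra h
      have h1 : m ≤ 0 := by omega
      have h2 : (p : ℤ) * m ≤ 0 := mul_nonpos_of_nonneg_of_nonpos hppos.le h1
      omega
    have hm2 : ((p : ℤ) - 1) * m ≤ n := by
      have h1 : (p : ℤ) * (((p : ℤ) - 1) * m) ≤ p * n := by
        have h2 : (p : ℤ) * (((p : ℤ) - 1) * m) = ((p : ℤ) - 1) * ((n : ℤ) - val x) := by
          rw [hm]; ring
        rw [h2]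
        linarith
      exact le_of_mul_le_mul_left h1 hppos
    refine ⟨m.toNat, ?_, ?_⟩
    · rw [Finset.mem_Ico, Nat.lt_succ_iff]
      refine ⟨by omega, ?_⟩
      rw [Nat.le_div_iff_mul_le hp1]
      have h3 : ((m.toNat * (p - 1) : ℕ) : ℤ) ≤ (n : ℤ) := by
        rw [Nat.cast_mul, Nat.cast_sub hp.pos, Int.toNat_of_nonneg (by omega)]
        push_cast
        linarith
      exact_mod_cast h3
    · rw [Int.toNat_of_nonneg (by omega)]
      linarith
  set M := n / (p - 1) with hM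
  set f : Polynomial ℤ := ∏ m ∈ Finset.Ico 1 (M + 1), (X - C ((n : ℤ) - p * (m : ℕ))) with hf
  have hf0 : ∀ x : P, x ≠ 1 → f.eval (val x) = 0 := by
    intro x hx
    obtain ⟨m, hm, hv⟩ := hnon x hx
    rw [hf, Polynomial.eval_prod]
    apply Finset.prod_eq_zero hm
    simp [hv]
  have hf1 : f.eval (val 1) = ((p ^ M * M.factorial : ℕ) : ℤ) := by
    rw [hval1, hf, Polynomial.eval_prod]
    have h1 : ∀ m ∈ Finset.Ico 1 (M + 1), (X - C ((n : ℤ) - p * (m : ℕ))).eval (n : ℤ) =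
        ((p * m : ℕ) : ℤ) := by
      intro m _
      simp
    rw [Finset.prod_congr rfl h1, ← Nat.cast_prod, Finset.prod_mul_distrib, Finset.prod_const,
      Nat.card_Ico, Finset.prod_Ico_id_eq_factorial, Nat.add_sub_cancel]
  have hsum : ∑ x : P, f.eval (val x) = ((p ^ M * M.factorial : ℕ) : ℤ) := by
    rw [Finset.sum_eq_single (1 : P) (fun x _ hx => hf0 x hx) (by simp), hf1]
  have hdvd : ∀ i : ℕ, ((Nat.card P : ℕ) : ℤ) ∣ ∑ x : P, (val x) ^ i := by
    intro i
    rcases Nat.eq_zero_or_pos i with hi | hi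
    · subst hi
      simp [Nat.card_eq_fintype_card]
    · obtain ⟨j, rfl⟩ := Nat.exists_eq_succ_of_ne_zero hi.ne'
      obtain ⟨d, hd⟩ := Cfsg.Agent.Lib.Helper79_CharVals.sum_subgroup_char
        (isCharacter_pow_succ hχ j) P
      refine ⟨(d : ℤ), ?_⟩
      have h1 : ((∑ x : P, (val x) ^ (j + 1) : ℤ) : ℂ) = (((Nat.card P : ℕ) : ℤ) * (d : ℤ) : ℤ) := by
        push_cast
        rw [← hd]
        refine Finset.sum_congr rfl (fun x _ => ?_)
        rw [Pi.pow_apply, hval x]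
      exact_mod_cast h1
  have hdvd2 : ((Nat.card P : ℕ) : ℤ) ∣ ∑ x : P, f.eval (val x) := by
    simp_rw [Polynomial.eval_eq_sum_range]
    rw [Finset.sum_comm]
    apply Finset.dvd_sum
    intro i _
    rw [← Finset.mul_sum]
    exact Dvd.dvd.mul_left (hdvd i) _
  rw [hsum, hPa] at hdvd2
  have h2 : p ^ a ∣ p ^ M * M.factorial := by exact_mod_cast hdvd2
  have h3 : (p ^ M * M.factorial).factorization p = M + M.factorial.factorization p := by
    rw [Nat.factorization_mul (pow_ne_zero _ hp.ne_zero) (Nat.factorial_ne_zero _),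
      Finsupp.add_apply, hp.factorization_pow, Finsupp.single_eq_same]
  rw [← h3]
  exact (hp.pow_dvd_iff_le_factorization
    (Nat.mul_ne_zero (pow_ne_zero _ hp.ne_zero) (Nat.factorial_ne_zero _))).mp h2

end main

end Cfsg.Agent.Lib.Helper76_SchurBound
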