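import Mathlib
import Cfsg.Prelude.Def_Characters
import Cfsg.Agent.Lib.Helper76_SchurBound
import Cfsg.Agent.Lib.Helper74_HallChar

/-!
# Helper20_S4472_PBOUND: package PBOUND of the S4472 market (architect helper74)

Schur's bound for a (not necessarily faithful) power-invariant character of a `p`-group.
-/

set_option autoImplicit false
open Cfsg

universe u

namespace Cfsg.Agent.Lib.Helper20_S4472_PBOUND

open Cfsg.Agent.Lib.Helper76_SchurBound

theorem pbound {P : Type u} [Group P] [Finite P] (p : ℕ) (hp : p.Prime) (hP : IsPGroup p P)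
    (ψ : P → ℂ) (hψ : Cfsg.IsCharacter P ψ) (n : ℕ) (hn : ψ 1 = n)
    (hpow : ∀ x : P, ∀ m : ℕ, m.Coprime p → ψ (x ^ m) = ψ x)
    (K : Subgroup P) (hK : ∀ x : P, ψ x = ψ 1 → x ∈ K) :
    K.index.factorization p ≤ ∑ i ∈ Finset.range (n + 1), n / ((p - 1) * p ^ i) := by
  have : Fact p.Prime := ⟨hp⟩
  obtain ⟨K₀, hK₀n, ψb, hψb, hmk, hmem, hfaith⟩ :=
    Cfsg.Agent.Lib.Helper74_HallChar.exists_quot_faithful hψ
  obtain ⟨n', ρ, rfl⟩ := hψb
  have hfin : Module.finrank ℂ (Fin n' → ℂ) = n' := Module.finrank_fin_fun ℂ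
  have h1 : ρ.character 1 = n' := by rw [Representation.char_one, hfin]
  have hn' : n' = n := by
    have h2 : ρ.character ((1 : P) : P ⧸ K₀) = ψ 1 := hmk 1
    rw [QuotientGroup.mk_one, h1, hn] at h2
    exact_mod_cast h2
  subst hn'
  have hQ : IsPGroup p (P ⧸ K₀) := hP.to_quotient K₀
  obtain ⟨a', ha'⟩ := IsPGroup.iff_card.mp hQ
  have hb := schur_bound p hp ρ ⊤ a' (by rw [Subgroup.card_top]; exact ha')
    (fun x _ hx => hfaith x (by rw [hx, h1]))
    (fun x _ m hm => by
      induction x using QuotientGroup.induction_on with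
      | H g => rw [← QuotientGroup.mk_pow, hmk, hmk, hpow g m hm])
  have hK₀K : K₀ ≤ K := fun x hx => hK x ((hmem x).mp hx)
  have hdvd : K.index ∣ K₀.index := Subgroup.index_dvd_of_le hK₀K
  have hidx : K₀.index = p ^ a' := by rw [Subgroup.index_eq_card, ha']
  rw [hidx] at hdvd
  obtain ⟨b, hb', hbe⟩ := (Nat.dvd_prime_pow hp).mp hdvd
  rw [hbe, Nat.Prime.factorization_pow hp, Finsupp.single_eq_same]
  refine (hb'.trans hb).trans (le_of_eq ?_)
  have hlog : Nat.log p (n' / (p - 1)) < n' + 1 :=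
    Nat.lt_succ_of_le ((Nat.log_le_self _ _).trans (Nat.div_le_self _ _))
  rw [Nat.factorization_factorial hp hlog, Finset.range_eq_Ico,
    Finset.sum_eq_sum_Ico_succ_bot (Nat.succ_pos n')]
  congr 1
  · simp
  · refine Finset.sum_congr rfl (fun i _ => ?_)
    rw [Nat.div_div_eq_div_mul]

end Cfsg.Agent.Lib.Helper20_S4472_PBOUND
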