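import Mathlib
import Cfsg.Agent.Lib.Helper57_ModDefs

set_option autoImplicit false

namespace Cfsg.Agent.Lib.Helper20_S4504_Block

open Polynomial Cfsg.Agent.Lib.Helper57_ModDefs

variable {k : Type*} [Field k] {T : Type*} [AddCommGroup T] [Module k T]

/-- membership in a block in polynomial form -/
theorem mem_block_iff (D : Module.End k T) (t u : T) :
    u ∈ Submodule.span k (Set.range fun i : ℕ => (D ^ i) t) ↔ ∃ P : k[X], aeval D P t = u := by
  constructor
  · intro hu
    induction hu using Submodule.span_induction with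
    | mem x hx =>
      obtain ⟨i, rfl⟩ := hx
      exact ⟨X ^ i, by simp⟩
    | zero => exact ⟨0, by simp⟩
    | add x y _ _ hx hy =>
      obtain ⟨P, rfl⟩ := hx
      obtain ⟨Q, rfl⟩ := hy
      exact ⟨P + Q, by simp⟩
    | smul a x _ hx =>
      obtain ⟨P, rfl⟩ := hx
      exact ⟨C a * P, by simp [Algebra.smul_def]⟩
  · rintro ⟨P, rfl⟩
    rw [aeval_eq_sum_range, LinearMap.sum_apply]
    apply Submodule.sum_mem
    intro i _
    rw [LinearMap.smul_apply]
    exact Submodule.smul_mem _ _ (Submodule.subset_span ⟨i, rfl⟩)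

/-- a block is stable under `D` -/
theorem map_mem_block (D : Module.End k T) (t u : T)
    (hu : u ∈ Submodule.span k (Set.range fun i : ℕ => (D ^ i) t)) :
    D u ∈ Submodule.span k (Set.range fun i : ℕ => (D ^ i) t) := by
  rw [mem_block_iff] at hu ⊢
  obtain ⟨P, rfl⟩ := hu
  exact ⟨X * P, by simp⟩

/-- the annihilator of `t` is generated by `X ^ d`, `d` the least exponent killing `t` -/
theorem X_pow_dvd_of_aeval_eq_zero (D : Module.End k T) (t : T) (d : ℕ)
    (hd : ∀ j < d, (D ^ j) t ≠ 0) (hd0 : (D ^ d) t = 0) (Q : k[X]) (hQ : aeval D Q t = 0) :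
    X ^ d ∣ Q := by
  rw [X_pow_dvd_iff]
  intro i
  induction i using Nat.strong_induction_on with
  | _ i ih =>
    intro hi
    -- apply `D ^ (d - 1 - i)`
    have hkill : ∀ j, d ≤ j → (D ^ j) t = 0 := by
      intro j hj
      obtain ⟨e, rfl⟩ := Nat.exists_eq_add_of_le hj
      rw [add_comm, pow_add, Module.End.mul_apply, hd0, map_zero]
    have h1 : (D ^ (d - 1 - i)) (aeval D Q t) = 0 := by rw [hQ, map_zero]
    rw [aeval_eq_sum_range, LinearMap.sum_apply, map_sum] at h1
    have h2 : ∀ j ∈ Finset.range (Q.natDegree + 1), j ≠ i →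
        (D ^ (d - 1 - i)) ((Q.coeff j • D ^ j) t) = 0 := by
      intro j _ hji
      rw [LinearMap.smul_apply, map_smul]
      rcases Nat.lt_or_gt_of_ne hji with hlt | hgt
      · rw [ih j hlt (by omega), zero_smul]
      · have : (D ^ (d - 1 - i)) ((D ^ j) t) = (D ^ (d - 1 - i + j)) t := by
          rw [pow_add, Module.End.mul_apply]
        rw [this, hkill _ (by omega), smul_zero]
    by_cases hmem : i ∈ Finset.range (Q.natDegree + 1)
    · rw [Finset.sum_eq_single_of_mem i hmem h2, LinearMap.smul_apply, map_smul] at h1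
      have h3 : (D ^ (d - 1 - i)) ((D ^ i) t) = (D ^ (d - 1)) t := by
        rw [← Module.End.mul_apply, ← pow_add]
        congr 2
        omega
      rw [h3] at h1
      rcases smul_eq_zero.1 h1 with h | h
      · exact h
      · exact absurd h (hd _ (by omega))
    · rw [Finset.mem_range, not_lt] at hmem
      exact coeff_eq_zero_of_natDegree_lt (by omega)

theorem aeval_eq_zero_of_X_pow_dvd (D : Module.End k T) (t : T) (d : ℕ) (hd0 : (D ^ d) t = 0)
    (Q : k[X]) (hQ : X ^ d ∣ Q) : aeval D Q t = 0 := by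
  obtain ⟨R, rfl⟩ := hQ
  rw [mul_comm, map_mul, Module.End.mul_apply, map_pow, aeval_X, hd0, map_zero]

end Cfsg.Agent.Lib.Helper20_S4504_Block
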