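import Mathlib
import Cfsg.Prelude.Def_Solvable
import Cfsg.Agent.Lib.Helper71_Frobenius

set_option autoImplicit false

namespace Cfsg.Agent.Lib.Helper71_FrobCount

open scoped Pointwise
open Cfsg.Agent.Lib.Helper71_Frobenius MulAction

variable {G : Type*} [Group G]

/-- `x` fixes the coset `gH` iff `x ∈ gHg⁻¹`. -/
theorem smul_mk_eq_iff (H : Subgroup G) (x g : G) :
    x • (g : G ⧸ H) = (g : G ⧸ H) ↔ x ∈ MulAut.conj g • H := by
  rw [mem_conj_smul, MulAction.Quotient.smul_mk, eq_comm, QuotientGroup.eq, smul_eq_mul, mul_assoc]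

/-- in a Frobenius group a non-identity element fixes at most one coset of the complement -/
theorem fixed_unique (H : Subgroup G) (hH : Cfsg.IsFrobeniusComplement H)
    (x : G) (hx : x ≠ 1) (a b : G ⧸ H) (ha : x • a = a) (hb : x • b = b) : a = b := by
  obtain ⟨g, rfl⟩ := QuotientGroup.mk_surjective a
  obtain ⟨k, rfl⟩ := QuotientGroup.mk_surjective b
  rw [smul_mk_eq_iff, mem_conj_smul] at ha hb
  rw [QuotientGroup.eq]
  by_contra hc
  have h3 := hH.2.2 (g⁻¹ * k) hc
  have hmem : g⁻¹ * x * g ∈ H ⊓ (MulAut.conj (g⁻¹ * k) • H) := by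
    refine Subgroup.mem_inf.mpr ⟨ha, ?_⟩
    rw [mem_conj_smul]
    have : (g⁻¹ * k)⁻¹ * (g⁻¹ * x * g) * (g⁻¹ * k) = k⁻¹ * x * k := by group
    rw [this]; exact hb
  rw [h3, Subgroup.mem_bot] at hmem
  apply hx
  have : x = g * (g⁻¹ * x * g) * g⁻¹ := by group
  rw [this, hmem]; group

theorem mem_frobeniusKernel_iff (H : Subgroup G) (x : G) :
    x ∈ Cfsg.frobeniusKernel H ↔ x = 1 ∨ ∀ a : G ⧸ H, x • a ≠ a := by
  simp only [Cfsg.frobeniusKernel, Set.mem_ofPred_eq]
  constructor
  · rintro (h | h)
    · exact Or.inl h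
    · right
      intro a
      obtain ⟨g, rfl⟩ := QuotientGroup.mk_surjective a
      rw [Ne, smul_mk_eq_iff]
      exact h g
  · rintro (h | h)
    · exact Or.inl h
    · right
      intro g hg
      exact h (g : G ⧸ H) ((smul_mk_eq_iff H x g).mpr hg)

theorem one_mem_frobeniusKernel (H : Subgroup G) : (1 : G) ∈ Cfsg.frobeniusKernel H :=
  Or.inl rfl

section Finite

variable [Finite G]

omit [Finite G] in
open Classical in
/-- number of fixed cosets of an element in a Frobenius group -/
theorem card_fixedBy (H : Subgroup G) (hH : Cfsg.IsFrobeniusComplement H) (x : G) :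
    Nat.card (fixedBy (G ⧸ H) x) =
      (if x = 1 then H.index else 0) + (if x ∈ Cfsg.frobeniusKernel H then 0 else 1) := by
  by_cases hx1 : x = 1
  · subst hx1
    rw [if_pos rfl, if_pos (one_mem_frobeniusKernel H), add_zero, Subgroup.index_eq_card]
    apply Nat.card_congr
    exact ⟨fun a => a.1, fun a => ⟨a, by simp⟩, fun a => rfl, fun a => rfl⟩
  · rw [if_neg hx1, zero_add]
    by_cases hxK : x ∈ Cfsg.frobeniusKernel H
    · rw [if_pos hxK]
      rw [mem_frobeniusKernel_iff] at hxK
      rcases hxK with h | h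
      · exact absurd h hx1
      · have : IsEmpty (fixedBy (G ⧸ H) x) := ⟨fun a => h a.1 a.2⟩
        exact Nat.card_of_isEmpty
    · rw [if_neg hxK]
      rw [mem_frobeniusKernel_iff, not_or] at hxK
      obtain ⟨_, h2⟩ := hxK
      push Not at h2
      obtain ⟨a, ha⟩ := h2
      have hsub : Subsingleton (fixedBy (G ⧸ H) x) :=
        ⟨fun b c => Subtype.ext (fixed_unique H hH x hx1 b.1 c.1 b.2 c.2)⟩
      have hne : Nonempty (fixedBy (G ⧸ H) x) := ⟨⟨a, ha⟩⟩
      exact Nat.card_unique

open Classical in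
/-- **Counting the Frobenius kernel**: it has exactly `[G : H]` elements. -/
theorem card_frobeniusKernel (H : Subgroup G) (hH : Cfsg.IsFrobeniusComplement H) :
    Nat.card (Cfsg.frobeniusKernel H) = H.index := by
  have hFG : Fintype G := Fintype.ofFinite G
  have hFQ : Fintype (G ⧸ H) := Fintype.ofFinite _
  have hFf : ∀ g : G, Fintype (fixedBy (G ⧸ H) g) := fun g => Fintype.ofFinite _
  have hFo : Fintype (Quotient (orbitRel G (G ⧸ H))) := Fintype.ofFinite _
  have hB := sum_card_fixedBy_eq_card_orbits_mul_card_group G (G ⧸ H)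
  have horb : Fintype.card (Quotient (orbitRel G (G ⧸ H))) = 1 := by
    have hsub : Subsingleton (Quotient (orbitRel G (G ⧸ H))) :=
      (pretransitive_iff_subsingleton_quotient G (G ⧸ H)).mp inferInstance
    have hne : Nonempty (Quotient (orbitRel G (G ⧸ H))) := ⟨Quotient.mk _ ((1 : G) : G ⧸ H)⟩
    exact Fintype.card_eq_one_iff.mpr ⟨Quotient.mk _ ((1 : G) : G ⧸ H), fun y => Subsingleton.elim _ _⟩
  rw [horb, one_mul] at hB
  have hterm : ∀ x : G, Fintype.card (fixedBy (G ⧸ H) x) =
      (if x = 1 then H.index else 0) + (if x ∈ Cfsg.frobeniusKernel H then 0 else 1) := by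
    intro x
    rw [← Nat.card_eq_fintype_card]
    exact card_fixedBy H hH x
  simp_rw [hterm] at hB
  rw [Finset.sum_add_distrib, Finset.sum_ite_eq' Finset.univ (1 : G), if_pos (Finset.mem_univ _)]
    at hB
  have h2 : (∑ x : G, if x ∈ Cfsg.frobeniusKernel H then 0 else 1) =
      (Finset.univ.filter (fun x : G => x ∉ Cfsg.frobeniusKernel H)).card := by
    rw [Finset.card_filter]
    apply Finset.sum_congr rfl
    intro x _
    by_cases hx : x ∈ Cfsg.frobeniusKernel H <;> simp [hx]
  rw [h2] at hB
  have h3 : (Finset.univ.filter (fun x : G => x ∈ Cfsg.frobeniusKernel H)).card +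
      (Finset.univ.filter (fun x : G => x ∉ Cfsg.frobeniusKernel H)).card = Fintype.card G := by
    rw [Finset.card_filter_add_card_filter_not]
    rfl
  have h4 : Nat.card (Cfsg.frobeniusKernel H) =
      (Finset.univ.filter (fun x : G => x ∈ Cfsg.frobeniusKernel H)).card := by
    rw [Nat.card_eq_fintype_card, Fintype.card_subtype]
  omega

omit [Finite G] in
/-- elements of the complement other than `1` are not in the kernel -/
theorem not_mem_frobeniusKernel_of_mem (H : Subgroup G) {h : G} (hh : h ∈ H) (h1 : h ≠ 1) :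
    h ∉ Cfsg.frobeniusKernel H := by
  rintro (h2 | h2)
  · exact h1 h2
  · apply h2 1
    rw [mem_conj_smul]
    simpa using hh

open Classical in
/-- **The index of a Frobenius complement is `1` modulo its order.** -/
theorem index_mod_card (H : Subgroup G) (hH : Cfsg.IsFrobeniusComplement H) :
    H.index % Nat.card H = 1 % Nat.card H := by
  have hFH : Fintype H := Fintype.ofFinite H
  have hFQ : Fintype (G ⧸ H) := Fintype.ofFinite _
  have hFf : ∀ g : H, Fintype (fixedBy (G ⧸ H) g) := fun g => Fintype.ofFinite _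
  have hFo : Fintype (Quotient (orbitRel H (G ⧸ H))) := Fintype.ofFinite _
  have hB := sum_card_fixedBy_eq_card_orbits_mul_card_group H (G ⧸ H)
  have hterm : ∀ x : H, Fintype.card (fixedBy (G ⧸ H) x) =
      (if x = 1 then H.index else 0) + (if x = 1 then 0 else 1) := by
    intro x
    rw [← Nat.card_eq_fintype_card]
    have h1 : Nat.card (fixedBy (G ⧸ H) x) = Nat.card (fixedBy (G ⧸ H) (x : G)) := rfl
    rw [h1, card_fixedBy H hH (x : G)]
    by_cases hx : x = 1
    · subst hx
      simp [one_mem_frobeniusKernel]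
    · have hx' : (x : G) ≠ 1 := fun h => hx (Subtype.ext h)
      rw [if_neg hx', if_neg hx, if_neg hx, if_neg (not_mem_frobeniusKernel_of_mem H x.2 hx')]
  simp_rw [hterm] at hB
  rw [Finset.sum_add_distrib, Finset.sum_ite_eq' Finset.univ (1 : H), if_pos (Finset.mem_univ _)]
    at hB
  have h2 : (∑ x : H, if x = 1 then 0 else 1) = Fintype.card H - 1 := by
    have : (∑ x : H, if x = 1 then 0 else 1) =
        (Finset.univ.filter (fun x : H => x ≠ 1)).card := by
      rw [Finset.card_filter]
      apply Finset.sum_congr rfl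
      intro x _
      by_cases hx : x = 1 <;> simp [hx]
    rw [this, Finset.filter_ne' Finset.univ (1 : H), Finset.card_erase_of_mem (Finset.mem_univ _),
      Finset.card_univ]
  rw [h2] at hB
  have hpos : 0 < Fintype.card H := Fintype.card_pos
  rw [Nat.card_eq_fintype_card]
  set c := Fintype.card (Quotient (orbitRel H (G ⧸ H))) with hc
  set m := Fintype.card H with hm
  have h5 : H.index + m = c * m + 1 := by omega
  calc H.index % m = (H.index + m) % m := (Nat.add_mod_right _ _).symm
    _ = (c * m + 1) % m := by rw [h5]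
    _ = 1 % m := by rw [Nat.mul_comm, Nat.mul_add_mod]

section Involution

variable (H : Subgroup G) (t : G)

/-- the conjugate of `t` attached to a coset -/
noncomputable def invOf (a : G ⧸ H) : G := a.out * t * (a.out)⁻¹

omit [Finite G] in
theorem invOf_smul (ht : t ∈ H) (a : G ⧸ H) : invOf H t a • a = a := by
  conv_lhs => rw [← QuotientGroup.out_eq' a]
  conv_rhs => rw [← QuotientGroup.out_eq' a]
  rw [MulAction.Quotient.smul_mk, eq_comm, QuotientGroup.eq, invOf]
  simpa [mul_assoc] using ht

omit [Finite G] in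
theorem invOf_ne_one (ht1 : t ≠ 1) (a : G ⧸ H) : invOf H t a ≠ 1 := by
  intro h
  apply ht1
  have : t = (a.out)⁻¹ * invOf H t a * a.out := by simp [invOf, mul_assoc]
  rw [this, h]; simp

omit [Finite G] in
theorem invOf_mul_self (ht2 : t * t = 1) (a : G ⧸ H) : invOf H t a * invOf H t a = 1 := by
  simp only [invOf]
  calc a.out * t * (a.out)⁻¹ * (a.out * t * (a.out)⁻¹) = a.out * (t * t) * (a.out)⁻¹ := by group
    _ = 1 := by rw [ht2]; group

omit [Finite G] in
theorem invOf_injective (hH : Cfsg.IsFrobeniusComplement H) (ht : t ∈ H) (ht1 : t ≠ 1) :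
    Function.Injective (invOf H t) := by
  intro a b hab
  apply fixed_unique H hH (invOf H t a) (invOf_ne_one H t ht1 a) a b (invOf_smul H t ht a)
  rw [hab]; exact invOf_smul H t ht b

omit [Finite G] in
/-- the product of the involutions attached to two different cosets lies in the kernel -/
theorem invOf_mul_mem (hH : Cfsg.IsFrobeniusComplement H) (ht : t ∈ H) (ht1 : t ≠ 1)
    (ht2 : t * t = 1) (a b : G ⧸ H) : invOf H t a * invOf H t b ∈ Cfsg.frobeniusKernel H := by
  by_cases hab : a = b
  · rw [hab, invOf_mul_self H t ht2]; exact one_mem_frobeniusKernel H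
  rw [mem_frobeniusKernel_iff]
  right
  intro γ hγ
  set s := invOf H t a with hs
  set s' := invOf H t b with hs'
  set u := s * s' with hu
  have hss : s * s = 1 := invOf_mul_self H t ht2 a
  have hss' : s' * s' = 1 := invOf_mul_self H t ht2 b
  have hu1 : u ≠ 1 := by
    intro h
    apply hab
    apply invOf_injective H t hH ht ht1
    have : s = s'⁻¹ := eq_inv_of_mul_eq_one_left h
    rw [← hs, ← hs', this]
    exact inv_eq_of_mul_eq_one_left hss'
  have huinv : u⁻¹ • γ = γ := by rw [inv_smul_eq_iff, hγ]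
  have hsinv : s⁻¹ = s := inv_eq_of_mul_eq_one_left hss
  have hsinv' : s'⁻¹ = s' := inv_eq_of_mul_eq_one_left hss'
  have huinv_eq : u⁻¹ = s' * s := by rw [hu, mul_inv_rev, hsinv, hsinv']
  -- `u` fixes `s • γ`
  have h1 : u • (s • γ) = s • γ := by
    have : u * s = s * u⁻¹ := by
      rw [huinv_eq, hu, mul_assoc]
    rw [← mul_smul, this, mul_smul, huinv]
  have h2 : s • γ = γ := fixed_unique H hH u hu1 _ _ h1 hγ
  have h3 : γ = a := fixed_unique H hH s (invOf_ne_one H t ht1 a) _ _ h2 (invOf_smul H t ht a)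
  -- `u` fixes `s' • γ`
  have h4 : u • (s' • γ) = s' • γ := by
    have : u * s' = s' * u⁻¹ := by
      rw [huinv_eq, hu, mul_assoc, hss', ← mul_assoc, hss', mul_one, one_mul]
    rw [← mul_smul, this, mul_smul, huinv]
  have h5 : s' • γ = γ := fixed_unique H hH u hu1 _ _ h4 hγ
  have h6 : γ = b := fixed_unique H hH s' (invOf_ne_one H t ht1 b) _ _ h5 (invOf_smul H t ht b)
  exact hab (h3.symm.trans h6)

/-- every element of the kernel is `invOf a * invOf b` for any fixed `b` -/
theorem exists_invOf_mul_eq (hH : Cfsg.IsFrobeniusComplement H) (ht : t ∈ H) (ht1 : t ≠ 1)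
    (ht2 : t * t = 1) (b : G ⧸ H) (x : G) (hx : x ∈ Cfsg.frobeniusKernel H) :
    ∃ a : G ⧸ H, invOf H t a * invOf H t b = x := by
  let ψ : G ⧸ H → Cfsg.frobeniusKernel H :=
    fun a => ⟨invOf H t a * invOf H t b, invOf_mul_mem H t hH ht ht1 ht2 a b⟩
  have hinj : Function.Injective ψ := by
    intro a a' h
    have h' : invOf H t a * invOf H t b = invOf H t a' * invOf H t b := congrArg Subtype.val h
    exact invOf_injective H t hH ht ht1 (mul_right_cancel h')
  have hfinK : Finite (Cfsg.frobeniusKernel H) := Subtype.finite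
  have hbij : Function.Bijective ψ := by
    apply hinj.bijective_of_nat_card_le
    rw [card_frobeniusKernel H hH, Subgroup.index_eq_card]
  obtain ⟨a, ha⟩ := hbij.2 ⟨x, hx⟩
  exact ⟨a, congrArg Subtype.val ha⟩

/-- every element of the kernel is `invOf b * invOf a` for any fixed `b` -/
theorem exists_mul_invOf_eq (hH : Cfsg.IsFrobeniusComplement H) (ht : t ∈ H) (ht1 : t ≠ 1)
    (ht2 : t * t = 1) (b : G ⧸ H) (x : G) (hx : x ∈ Cfsg.frobeniusKernel H) :
    ∃ a : G ⧸ H, invOf H t b * invOf H t a = x := by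
  let ψ : G ⧸ H → Cfsg.frobeniusKernel H :=
    fun a => ⟨invOf H t b * invOf H t a, invOf_mul_mem H t hH ht ht1 ht2 b a⟩
  have hinj : Function.Injective ψ := by
    intro a a' h
    have h' : invOf H t b * invOf H t a = invOf H t b * invOf H t a' := congrArg Subtype.val h
    exact invOf_injective H t hH ht ht1 (mul_left_cancel h')
  have hfinK : Finite (Cfsg.frobeniusKernel H) := Subtype.finite
  have hbij : Function.Bijective ψ := by
    apply hinj.bijective_of_nat_card_le
    rw [card_frobeniusKernel H hH, Subgroup.index_eq_card]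
  obtain ⟨a, ha⟩ := hbij.2 ⟨x, hx⟩
  exact ⟨a, congrArg Subtype.val ha⟩

/-- **If the complement contains an involution, the Frobenius kernel is closed under
multiplication.** -/
theorem frobeniusKernel_mul_mem (hH : Cfsg.IsFrobeniusComplement H) (ht : t ∈ H) (ht1 : t ≠ 1)
    (ht2 : t * t = 1) (x y : G) (hx : x ∈ Cfsg.frobeniusKernel H)
    (hy : y ∈ Cfsg.frobeniusKernel H) : x * y ∈ Cfsg.frobeniusKernel H := by
  let b : G ⧸ H := ((1 : G) : G ⧸ H)
  obtain ⟨a, rfl⟩ := exists_invOf_mul_eq H t hH ht ht1 ht2 b x hx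
  obtain ⟨c, rfl⟩ := exists_mul_invOf_eq H t hH ht ht1 ht2 b y hy
  have : invOf H t a * invOf H t b * (invOf H t b * invOf H t c) = invOf H t a * invOf H t c := by
    calc invOf H t a * invOf H t b * (invOf H t b * invOf H t c)
        = invOf H t a * (invOf H t b * invOf H t b) * invOf H t c := by group
      _ = invOf H t a * invOf H t c := by rw [invOf_mul_self H t ht2]; group
  rw [this]
  exact invOf_mul_mem H t hH ht ht1 ht2 a c

end Involution

end Finite

end Cfsg.Agent.Lib.Helper71_FrobCount
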