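import Mathlib
import Cfsg.Prelude.Def_Solvable
import Cfsg.Agent.Lib.Helper71_FrobCount

set_option autoImplicit false

namespace Cfsg.Agent.Lib.Helper20_S4839_FROB

open Pointwise

theorem frob_of_centralizer {G : Type*} [Group G] [Finite G] (N : Subgroup G) [N.Normal]
    (hcop : Nat.Coprime (Nat.card N) N.index) (h1 : 1 < N.index) (hN1 : N ≠ ⊥)
    (hcent : ∀ x ∈ N, x ≠ 1 → Subgroup.centralizer ({x} : Set G) ≤ N) :
    ∃ H : Subgroup G, Cfsg.IsFrobeniusComplement H ∧ Cfsg.frobeniusKernel H = (N : Set G) ∧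
      Nat.card H = N.index := by
  obtain ⟨H, hH⟩ := Subgroup.exists_right_complement'_of_coprime hcop
  have hcard : Nat.card N * Nat.card H = Nat.card G := hH.card_mul_card
  have hidx : Nat.card N * N.index = Nat.card G := Subgroup.card_mul_index N
  have hNpos : 0 < Nat.card N := Nat.card_pos
  have hHcard : Nat.card H = N.index := by
    have : Nat.card N * Nat.card H = Nat.card N * N.index := by rw [hcard, hidx]
    exact Nat.eq_of_mul_eq_mul_left hNpos this
  have hdisj : N ⊓ H = ⊥ := hH.disjoint.eq_bot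
  have hmem_bot : ∀ x, x ∈ N → x ∈ H → x = 1 := by
    intro x hxN hxH
    have : x ∈ N ⊓ H := ⟨hxN, hxH⟩
    rw [hdisj] at this
    exact this
  -- decomposition g = n * h
  have hdecomp : ∀ g : G, ∃ n ∈ N, ∃ h ∈ H, g = n * h := by
    intro g
    have hmul : (N : Set G) * (H : Set G) = Set.univ := hH.mul_eq
    have hg : g ∈ (N : Set G) * (H : Set G) := by rw [hmul]; exact Set.mem_univ g
    obtain ⟨n, hn, h, hh, rfl⟩ := Set.mem_mul.1 hg
    exact ⟨n, hn, h, hh, rfl⟩
  have hfrob : Cfsg.IsFrobeniusComplement H := by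
    refine ⟨?_, ?_, ?_⟩
    · intro hbot
      rw [hbot, Subgroup.card_bot] at hHcard
      omega
    · intro htop
      rw [htop, Subgroup.card_top] at hcard
      have hN1' : Nat.card N = 1 := by
        have hGpos : 0 < Nat.card G := Nat.card_pos
        have : Nat.card N * Nat.card G = 1 * Nat.card G := by rw [hcard, one_mul]
        exact Nat.eq_of_mul_eq_mul_right hGpos this
      exact hN1 (Subgroup.card_eq_one.1 hN1')
    · intro g hg
      rw [eq_bot_iff]
      intro x hx
      rw [Subgroup.mem_inf] at hx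
      obtain ⟨hxH, hxc⟩ := hx
      rw [Subgroup.mem_bot]
      rw [Subgroup.mem_smul_pointwise_iff_exists] at hxc
      obtain ⟨h₂, hh₂, rfl⟩ := hxc
      rw [MulAut.smul_def, MulAut.conj_apply] at hxH ⊢
      obtain ⟨n, hn, h, hh, rfl⟩ := hdecomp g
      have hn1 : n ≠ 1 := by
        rintro rfl
        apply hg
        rw [one_mul]
        exact hh
      set h₃ := h * h₂ * h⁻¹ with hh₃def
      have hh₃ : h₃ ∈ H := H.mul_mem (H.mul_mem hh hh₂) (H.inv_mem hh)
      have hx_eq : n * h * h₂ * (n * h)⁻¹ = n * h₃ * n⁻¹ := by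
        rw [hh₃def]; group
      rw [hx_eq] at hxH ⊢
      -- n h₃ n⁻¹ h₃⁻¹ ∈ N ∩ H
      have hcomN : n * h₃ * n⁻¹ * h₃⁻¹ ∈ N := by
        have : h₃ * n⁻¹ * h₃⁻¹ ∈ N := Subgroup.Normal.conj_mem inferInstance _ (N.inv_mem hn) h₃
        have := N.mul_mem hn this
        have e : n * (h₃ * n⁻¹ * h₃⁻¹) = n * h₃ * n⁻¹ * h₃⁻¹ := by group
        rwa [e] at this
      have hcomH : n * h₃ * n⁻¹ * h₃⁻¹ ∈ H := H.mul_mem hxH (H.inv_mem hh₃)
      have hcom1 := hmem_bot _ hcomN hcomH
      have hcomm : n * h₃ * n⁻¹ = h₃ := by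
        have := mul_inv_eq_one.1 hcom1
        exact this
      have hh₃N : h₃ ∈ N := by
        apply hcent n hn hn1
        rw [Subgroup.mem_centralizer_iff]
        intro y hy
        rw [Set.mem_singleton_iff] at hy
        subst hy
        calc y * h₃ = (y * h₃ * y⁻¹) * y := by group
          _ = h₃ * y := by rw [hcomm]
      have hh₃1 : h₃ = 1 := hmem_bot _ hh₃N hh₃
      rw [hh₃1]
      group
  refine ⟨H, hfrob, ?_, hHcard⟩
  -- kernel
  have hsub : (N : Set G) ⊆ Cfsg.frobeniusKernel H := by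
    intro x hx
    by_cases hx1 : x = 1
    · exact Or.inl hx1
    · right
      intro g hxg
      rw [Subgroup.mem_smul_pointwise_iff_exists] at hxg
      obtain ⟨h, hh, rfl⟩ := hxg
      rw [MulAut.smul_def, MulAut.conj_apply] at hx hx1
      have hhN : h ∈ N := by
        have := Subgroup.Normal.conj_mem (inferInstance : N.Normal) _ hx g⁻¹
        have e : g⁻¹ * (g * h * g⁻¹) * g⁻¹⁻¹ = h := by group
        rwa [e] at this
      have := hmem_bot h hhN hh
      apply hx1
      rw [this]
      group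
  have hkcard : Nat.card (Cfsg.frobeniusKernel H) = H.index :=
    Cfsg.Agent.Lib.Helper71_FrobCount.card_frobeniusKernel H hfrob
  have hHidx : H.index = Nat.card N := by
    have h2 : Nat.card H * H.index = Nat.card G := Subgroup.card_mul_index H
    have hHpos : 0 < Nat.card H := Nat.card_pos
    have : Nat.card H * H.index = Nat.card H * Nat.card N := by rw [h2, ← hcard, mul_comm]
    exact Nat.eq_of_mul_eq_mul_left hHpos this
  symm
  apply Set.eq_of_subset_of_ncard_le hsub _ (Set.toFinite _)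
  rw [← Nat.card_coe_set_eq, ← Nat.card_coe_set_eq, hkcard, hHidx]
  exact le_of_eq rfl

end Cfsg.Agent.Lib.Helper20_S4839_FROB
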