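import Mathlib

set_option autoImplicit false

namespace Cfsg.Agent.Lib.Helper20_S4839_ODD

open Pointwise

theorem odd_split {G : Type*} [Group G] [Finite G] (N : Subgroup G) [N.Normal]
    (hcomm : ∀ a b : N, a * b = b * a) (hodd : Odd (Nat.card N))
    (hCN : Subgroup.centralizer (N : Set G) ≤ N)
    (t : G) (ht : orderOf t = 2) (hfpf : ∀ x ∈ N, x ≠ 1 → t * x ≠ x * t) :
    ∃ H : Subgroup G, H ⊓ N = ⊥ ∧ Nat.card H * Nat.card N = Nat.card G := by
  have ht2 : t * t = 1 := by
    have := pow_orderOf_eq_one t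
    rwa [ht, pow_two] at this
  have htinv : t⁻¹ = t := inv_eq_of_mul_eq_one_right ht2
  have hNcomm : ∀ a ∈ N, ∀ b ∈ N, a * b = b * a := by
    intro a ha b hb
    have := hcomm ⟨a, ha⟩ ⟨b, hb⟩
    exact congrArg Subtype.val this
  -- (1) `t` inverts `N`
  have hinv : ∀ n ∈ N, t * n * t⁻¹ = n⁻¹ := by
    intro n hn
    have hc : t * n * t⁻¹ ∈ N := Subgroup.Normal.conj_mem inferInstance n hn t
    have hm : n * (t * n * t⁻¹) ∈ N := N.mul_mem hn hc
    have hfix : t * (n * (t * n * t⁻¹)) = (n * (t * n * t⁻¹)) * t := by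
      have e1 : t * (n * (t * n * t⁻¹)) = (t * n * t⁻¹) * (t * t) * n * t⁻¹ := by group
      have e2 : (n * (t * n * t⁻¹)) * t = n * (t * n * t⁻¹) * (t * t) * t⁻¹ := by group
      rw [e1, e2, ht2, mul_one, mul_one, hNcomm _ hc _ hn]
    have h1 : n * (t * n * t⁻¹) = 1 := by
      by_contra hne
      exact hfpf _ hm hne hfix
    exact (eq_inv_of_mul_eq_one_right h1)
  -- (2) every conjugate of `t` inverts `N`
  have hinv' : ∀ g : G, ∀ n ∈ N, (g * t * g⁻¹) * n * (g * t * g⁻¹)⁻¹ = n⁻¹ := by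
    intro g n hn
    have hc : g⁻¹ * n * g ∈ N := by
      have := Subgroup.Normal.conj_mem (inferInstance : N.Normal) n hn g⁻¹
      simpa using this
    have h1 := hinv _ hc
    calc (g * t * g⁻¹) * n * (g * t * g⁻¹)⁻¹ = g * (t * (g⁻¹ * n * g) * t⁻¹) * g⁻¹ := by group
      _ = g * (g⁻¹ * n * g)⁻¹ * g⁻¹ := by rw [h1]
      _ = n⁻¹ := by group
  -- (3) `t * (g t g⁻¹) ∈ N`
  have hprod : ∀ g : G, t * (g * t * g⁻¹) ∈ N := by
    intro g
    apply hCN
    rw [Subgroup.mem_centralizer_iff]
    intro n hn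
    have h1 := hinv' g n hn
    have h2 := hinv n⁻¹ (N.inv_mem hn)
    rw [inv_inv] at h2
    -- (t s) n (t s)⁻¹ = n
    have : (t * (g * t * g⁻¹)) * n * (t * (g * t * g⁻¹))⁻¹ = n := by
      calc (t * (g * t * g⁻¹)) * n * (t * (g * t * g⁻¹))⁻¹
          = t * ((g * t * g⁻¹) * n * (g * t * g⁻¹)⁻¹) * t⁻¹ := by group
        _ = t * n⁻¹ * t⁻¹ := by rw [h1]
        _ = n := h2
    calc n * (t * (g * t * g⁻¹)) = ((t * (g * t * g⁻¹)) * n * (t * (g * t * g⁻¹))⁻¹) * (t * (g * t * g⁻¹)) := by
          rw [this]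
      _ = (t * (g * t * g⁻¹)) * n := by group
  refine ⟨Subgroup.centralizer ({t} : Set G), ?_, ?_⟩
  · rw [eq_bot_iff]
    intro x hx
    rw [Subgroup.mem_inf, Subgroup.mem_centralizer_iff] at hx
    rw [Subgroup.mem_bot]
    by_contra hne
    have := hx.1 t (Set.mem_singleton t)
    exact hfpf x hx.2 hne this
  · -- complement
    have hdisj : Disjoint (Subgroup.centralizer ({t} : Set G)) N := by
      rw [disjoint_iff, eq_bot_iff]
      intro x hx
      rw [Subgroup.mem_inf, Subgroup.mem_centralizer_iff] at hx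
      rw [Subgroup.mem_bot]
      by_contra hne
      have := hx.1 t (Set.mem_singleton t)
      exact hfpf x hx.2 hne this
    -- every g ∈ N * H
    have hNH : ∀ g : G, ∃ c ∈ N, c * g ∈ Subgroup.centralizer ({t} : Set G) := by
      intro g
      set s := g * t * g⁻¹ with hs
      have hn := hprod g
      obtain ⟨k, hk⟩ := hodd
      -- c = n^(k+1), c^2 = n
      set n := t * s with hndef
      have hnpow : n ^ (Nat.card N) = 1 := by
        have := pow_card_eq_one' (G := N) (x := ⟨n, hn⟩)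
        exact congrArg Subtype.val this
      refine ⟨n ^ (k + 1), N.pow_mem hn _, ?_⟩
      have hc2 : n ^ (k + 1) * n ^ (k + 1) = n := by
        rw [← pow_add, show k + 1 + (k + 1) = (2 * k + 1) + 1 by ring, pow_succ, ← hk, hnpow, one_mul]
      have hcN : n ^ (k + 1) ∈ N := N.pow_mem hn _
      have hs2 : s * s = 1 := by
        rw [hs]
        calc g * t * g⁻¹ * (g * t * g⁻¹) = g * (t * t) * g⁻¹ := by group
          _ = 1 := by rw [ht2]; group
      have hsinv : s⁻¹ = s := inv_eq_of_mul_eq_one_right hs2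
      have hsc := hinv' g _ hcN
      rw [← hs, hsinv] at hsc
      -- s c s = c⁻¹  ⇒ c s c⁻¹ = c c s
      set c := n ^ (k + 1) with hcdef
      have h3 : c * s * c⁻¹ = t := by
        have e1 : c * s * c⁻¹ = c * (s * c⁻¹ * s) * s := by
          calc c * s * c⁻¹ = c * (s * c⁻¹ * (s * s)) := by rw [hs2, mul_one, mul_assoc]
            _ = c * (s * c⁻¹ * s) * s := by group
        have e2 : s * c⁻¹ * s = c := by
          have := congrArg (fun z => z⁻¹) hsc
          simp only [mul_inv_rev, inv_inv] at this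
          rw [hsinv] at this
          rw [← mul_assoc] at this
          exact this
        rw [e1, e2, hc2, hndef, mul_assoc, hs2, mul_one]
      rw [Subgroup.mem_centralizer_iff]
      intro y hy
      rw [Set.mem_singleton_iff] at hy
      subst hy
      -- (c g) t (c g)⁻¹ = t
      have h4 : (c * g) * y * (c * g)⁻¹ = y := by
        calc (c * g) * y * (c * g)⁻¹ = c * (g * y * g⁻¹) * c⁻¹ := by group
          _ = y := h3
      calc y * (c * g) = ((c * g) * y * (c * g)⁻¹) * (c * g) := by rw [h4]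
        _ = (c * g) * y := by group
    have hmul : ((Subgroup.centralizer ({t} : Set G) : Subgroup G) : Set G) * (N : Set G) = Set.univ := by
      rw [Set.eq_univ_iff_forall]
      intro g
      obtain ⟨c, hc, hcg⟩ := hNH g⁻¹
      rw [Set.mem_mul]
      refine ⟨(c * g⁻¹)⁻¹, (Subgroup.centralizer ({t} : Set G)).inv_mem hcg, c, hc, ?_⟩
      group
    have hcompl := Subgroup.isComplement'_of_disjoint_and_mul_eq_univ hdisj hmul
    exact hcompl.card_mul_card

end Cfsg.Agent.Lib.Helper20_S4839_ODD
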