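import Mathlib
import Cfsg.Agent.Lib.Helper22_S94ODefs

/-!
S2094 MODEL block, ODD case (mini-market `s94o_packages`, architect helper22), package O-UNIQ: an isometry of `Ω_{2m+1}` form of
shape `c` is determined by `c` (Gram equation).  (helper20)
-/

set_option autoImplicit false
set_option linter.unusedSectionVars false
set_option linter.unusedVariables false

namespace Cfsg.Agent.Lib.Helper20_S94O_UNIQ

open Matrix Cfsg.Agent.Lib.Helper68_MatGrp Cfsg.Agent.Lib.Helper68_StOoDefs Cfsg.Agent.Lib.Helper22_S94O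

variable {m : ℕ} {F : Type*} [Field F] [Fintype F] [NeZero (2 : F)]

omit [Fintype F] [NeZero (2 : F)] in
/-- the entries of `Mᵀ * J * M` -/
theorem gram_entry (M : Matrix (I m) (I m) F) (y z : I m) :
    (Mᵀ * (Cfsg.Agent.Lib.Helper68_StOoDefs.J : Matrix (I m) (I m) F) * M) y z =
      ∑ a, M a y * wt a * M (op a) z := by
  rw [Matrix.mul_apply, ← Equiv.sum_comp opE]
  refine Finset.sum_congr rfl (fun a _ => ?_)
  rw [opE_apply, Matrix.mul_apply, Finset.sum_eq_single a]
  · rw [Matrix.transpose_apply, J_apply, if_pos rfl]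
  · intro b _ hb
    rw [J_apply, if_neg (fun e => hb (op_injective e).symm), mul_zero]
  · intro h
    exact absurd (Finset.mem_univ _) h

/-- **O-UNIQ** -/
theorem shp_unique (hm : 0 < m) (g P : OO m F) (c : I m → F)
    (hg : Shp hm (φO m F g) c) (hP : Shp hm (φO m F P) c) : g = P := by
  apply φO_injective
  obtain ⟨M, hM⟩ : ∃ M, M = φO m F g := ⟨_, rfl⟩
  obtain ⟨M', hM'⟩ : ∃ M', M' = φO m F P := ⟨_, rfl⟩
  obtain ⟨e, he⟩ : ∃ e : I m, e = ie ⟨0, hm⟩ := ⟨_, rfl⟩
  obtain ⟨f, hf⟩ : ∃ f : I m, f = jf ⟨0, hm⟩ := ⟨_, rfl⟩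
  have hGM : Mᵀ * Cfsg.Agent.Lib.Helper68_StOoDefs.J * M = Cfsg.Agent.Lib.Helper68_StOoDefs.J := by
    rw [hM]
    exact φO_gram g
  have hGM' : M'ᵀ * Cfsg.Agent.Lib.Helper68_StOoDefs.J * M' = Cfsg.Agent.Lib.Helper68_StOoDefs.J := by
    rw [hM']
    exact φO_gram P
  have hgrow : ∀ x, x ≠ e → ∀ y,
      M x y = (1 : Matrix (I m) (I m) F) x y + if y = f then c x else 0 := by
    rw [he, hf, hM]
    exact hg.row
  have hProw : ∀ x, x ≠ e → ∀ y,
      M' x y = (1 : Matrix (I m) (I m) F) x y + if y = f then c x else 0 := by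
    rw [he, hf, hM']
    exact hP.row
  have hcf : c f = 0 := by
    rw [hf]
    exact hg.cf
  rw [← hM, ← hM']
  have hef : e ≠ f := by rw [he, hf]; exact ie_ne_jf _ _
  have hope : op e = f := by rw [he, hf]; exact op_ie _
  have hopf : op f = e := by rw [he, hf]; exact op_jf _
  have hwe : (wt e : F) = 1 := by rw [he]; exact wt_ie _
  have hwf : (wt f : F) = 1 := by rw [hf]; exact wt_jf _
  have hrow : ∀ x, x ≠ e → ∀ y, M x y = M' x y := fun x hx y => by
    rw [hgrow x hx y, hProw x hx y]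
  have hG : ∀ y z, ∑ a, M a y * wt a * M (op a) z = ∑ a, M' a y * wt a * M' (op a) z := by
    intro y z
    rw [← gram_entry, ← gram_entry, hGM, hGM']
  have hkey : ∀ y z, (M e y - M' e y) * M f z + M f y * (M e z - M' e z) = 0 := by
    intro y z
    have h1 : ∑ a, (M a y * wt a * M (op a) z - M' a y * wt a * M' (op a) z) = 0 := by
      rw [Finset.sum_sub_distrib, hG, sub_self]
    rw [Finset.sum_eq_add e f hef ?_ ?_ ?_] at h1
    · rw [hope, hopf, hwe, hwf, ← hrow f hef.symm y, ← hrow f hef.symm z] at h1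
      linear_combination h1
    · rintro a - ⟨hae, haf⟩
      have hopa : op a ≠ e := fun h => haf (by rw [← op_op a, h, hope])
      rw [hrow a hae y, hrow (op a) hopa z, sub_self]
    · intro h
      exact absurd (Finset.mem_univ _) h
    · intro h
      exact absurd (Finset.mem_univ _) h
  have hff : M f f = 1 := by
    rw [hgrow f hef.symm f, Matrix.one_apply_eq, if_pos rfl, hcf, add_zero]
  have hfy : ∀ y, y ≠ f → M f y = 0 := by
    intro y hy
    rw [hgrow f hef.symm y, Matrix.one_apply_ne (Ne.symm hy), if_neg hy, add_zero]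
  have hlf : M e f - M' e f = 0 := by
    have h3 := hkey f f
    rw [hff] at h3
    have h2 : (2 : F) ≠ 0 := two_ne_zero
    have h4 : 2 * (M e f - M' e f) = 0 := by linear_combination h3
    exact (mul_eq_zero.mp h4).resolve_left h2
  ext x y
  by_cases hx : x = e
  · rw [hx]
    by_cases hy : y = f
    · rw [hy]
      exact sub_eq_zero.mp hlf
    · have h3 := hkey y f
      rw [hff, hfy y hy, zero_mul, add_zero, mul_one] at h3
      exact sub_eq_zero.mp h3
  · exact hrow x hx y

end Cfsg.Agent.Lib.Helper20_S94O_UNIQ
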