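import Mathlib
import Cfsg.Agent.Lib.Helper74_S94Defs2
import Cfsg.Agent.Lib.Helper66_S96Asm
import Cfsg.Agent.Lib.Helper66_S96Rank
import Cfsg.Agent.Lib.Helper5_SLPresA
import Cfsg.Agent.Lib.Helper74_S94_RANKS
import Cfsg.Agent.Lib.Helper20_S94_ACTW

set_option autoImplicit false
set_option linter.unusedVariables false
set_option linter.unusedSectionVars false

/-!
Package B_BASE1 of the market `s94_packages` (helper74; proved by helper20): the presentation theorem for one
index: `G` is the image of `SL₂(L)` acting on the hermitian matrices.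
-/

namespace Cfsg.Agent.Lib.Helper74_S94

open Cfsg.Agent.Lib.Helper5_SteinbergA Cfsg.Agent.Lib.Helper5_SLPresA Cfsg.Agent.Lib.Helper66_StCalc
  Cfsg.Agent.Lib.Helper66_S92 Cfsg.Agent.Lib.Helper66_S96

/-- Bruhat decomposition of `SL₂`. -/
theorem h20_sl2_cases {L : Type*} [Field L] (A : Matrix.SpecialLinearGroup (Fin 2) L) :
    (∃ (t s : L) (hs : s ≠ 0), A = mx (true, t) * Dm s hs) ∨
    (∃ (t₁ t₂ s : L) (hs : s ≠ 0), A = mx (true, t₁) * Wm s hs * mx (true, t₂)) := by
  have hdet : A.1 0 0 * A.1 1 1 - A.1 0 1 * A.1 1 0 = 1 := by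
    rw [← Matrix.det_fin_two]
    exact A.2
  have heta : A.1 = !![A.1 0 0, A.1 0 1; A.1 1 0, A.1 1 1] := Matrix.eta_fin_two A.1
  by_cases hc : A.1 1 0 = 0
  · left
    rw [hc, mul_zero, sub_zero] at hdet
    have ha : A.1 0 0 ≠ 0 := left_ne_zero_of_mul_eq_one hdet
    refine ⟨A.1 0 1 * A.1 0 0, A.1 0 0, ha, ?_⟩
    apply Subtype.ext
    rw [Matrix.SpecialLinearGroup.coe_mul, mx_true, Dm_coe, Matrix.mul_fin_two]
    have hd : A.1 1 1 = (A.1 0 0)⁻¹ := eq_inv_of_mul_eq_one_right hdet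
    conv_lhs => rw [heta]
    rw [hc, hd]
    congr 1
    simp only [one_mul, mul_zero, add_zero, zero_mul, zero_add]
    rw [mul_assoc, mul_inv_cancel₀ ha, mul_one]
  · right
    refine ⟨A.1 0 0 * (A.1 1 0)⁻¹, A.1 1 1 * (A.1 1 0)⁻¹, -(A.1 1 0)⁻¹,
      neg_ne_zero.mpr (inv_ne_zero hc), ?_⟩
    apply Subtype.ext
    rw [Matrix.SpecialLinearGroup.coe_mul, Matrix.SpecialLinearGroup.coe_mul, mx_true, mx_true,
      Wm_coe, Matrix.mul_fin_two, Matrix.mul_fin_two]
    conv_lhs => rw [heta]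
    have hb : A.1 0 1 = (A.1 0 0 * A.1 1 1 - 1) * (A.1 1 0)⁻¹ := by
      rw [eq_mul_inv_iff_mul_eq₀ hc]
      linear_combination (-1 : L) * hdet
    rw [hb]
    congr 1
    ext i j
    fin_cases i <;> fin_cases j <;> simp <;> field_simp <;> ring

section field

variable {ι : Type*} [DecidableEq ι] {K : Type*} [Field K] {L : Type*} [Field L] [Algebra K L]
  {G : Type*} [Group G] {Q0 : QuadraticForm K L} {σ : L → L}
  {X : ι ⊕ ι → ι ⊕ ι → K → G} {XS : ι ⊕ ι → L → G}

/-! ## B_BASE1 : one index, `G = Φ(SL₂(L))` acting on the hermitian matrices -/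

theorem ker_cases_one [Fintype ι] [Finite L] (h : BSt Q0 σ X XS) (hN : IsNrm Q0 σ)
    (hgen : Subgroup.closure ({g | ∃ a c t, g = X a c t} ∪ {g | ∃ a v, g = XS a v}) = ⊤)
    (ρ : G →* Module.End K ((ι ⊕ ι → K) × L)) (hρ : IsActB Q0 X XS ρ)
    (h1 : Fintype.card ι = 1) (g : G) (hg : ρ g = 1) : g = 1 ∨ ∃ a, g = zS σ XS a := by
  obtain ⟨i₀, hi₀⟩ := Fintype.card_eq_one_iff.mp h1
  set a₀ : ι ⊕ ι := Sum.inl i₀ with ha₀
  have hcases : ∀ a : ι ⊕ ι, a = a₀ ∨ a = ng a₀ := by
    rintro (i | i)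
    · left; rw [hi₀ i]
    · right; rw [hi₀ i]; rfl
  have hX1 : ∀ a c t, X a c t = 1 := by
    intro a c t
    rcases hcases a with rfl | rfl <;> rcases hcases c with rfl | rfl
    · exact h.long.diag _ _
    · exact h.long.opp _ _
    · have := h.long.opp (ng a₀) t
      rwa [ng_ng] at this
    · exact h.long.diag _ _
  obtain ⟨Φ, hΦ1, hΦ2, hΦ3, hΦ4⟩ := exists_phiS h a₀
  -- `G = range Φ`
  have hrange : ∀ g : G, ∃ A, Φ A = g := by
    have hle : (⊤ : Subgroup G) ≤ Φ.range := by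
      rw [← hgen, Subgroup.closure_le]
      rintro g (⟨a, c, t, rfl⟩ | ⟨a, v, rfl⟩)
      · rw [hX1]
        exact Φ.range.one_mem
      · rcases hcases a with rfl | rfl
        · exact ⟨mx (true, v), hΦ1 v⟩
        · refine ⟨mx (false, -σ v), ?_⟩
          rw [hΦ2, hN.map_neg, neg_neg, hN.invol]
    intro g
    exact hle (Subgroup.mem_top g)
  obtain ⟨A, rfl⟩ := hrange g
  have hna : ng a₀ ≠ a₀ := ng_ne a₀
  rcases h20_sl2_cases A with ⟨t, s, hs, rfl⟩ | ⟨t₁, t₂, s, hs, rfl⟩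
  · have hQs : Q0 s ≠ 0 := hN.nrm_ne_zero hs
    have hQ1 : Q0 (1 : L) = 1 := by
      apply (algebraMap K L).injective
      rw [hN.nrm, hN.map_one, mul_one, map_one]
    have hQm1 : Q0 (-1 : L) = 1 := by rw [QuadraticMap.map_neg, hQ1]
    have hQm1' : Q0 (-1 : L) ≠ 0 := by rw [hQm1]; exact one_ne_zero
    have hHS : HS σ XS a₀ s = WSg Q0 XS a₀ s * WSg Q0 XS a₀ (-1) := by
      unfold HS
      rw [WS_eq_WSg hN a₀ s hs, ← WS_eq_WSg hN a₀ (-1) (neg_ne_zero.mpr one_ne_zero)]
      congr 1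
      exact (h.rank1S a₀).W_inv true 1
    rw [map_mul Φ, hΦ1, hΦ4, hHS] at hg
    -- apply to `b_{ng a₀}`
    have e1 := congrArg (fun f => (f (bB (ng a₀))).1 (ng a₀)) hg
    have e2 := congrArg (fun f => (f (bB (ng a₀))).2) hg
    simp only [map_mul, Module.End.mul_apply, hρ.short, act_WSg ρ hρ a₀ s hQs,
      act_WSg ρ hρ a₀ (-1) hQm1'] at e1 e2
    simp only [xactS, bB, Pi.add_apply, Pi.single_eq_same, Pi.single_eq_of_ne hna,
      Pi.single_eq_of_ne hna.symm, add_zero,
      Function.update_self, Function.update_of_ne hna.symm, QuadraticMap.polar_zero_left, mul_zero, sub_zero, mul_one,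
      Module.End.one_apply, hQm1, zero_smul, neg_zero, inv_one, zero_sub] at e1 e2
    have hQs1 : Q0 s = 1 := by
      have h3 : (Q0 s)⁻¹ = 1 := by linear_combination e1
      exact inv_eq_one.mp h3
    have ht : t = 0 := by
      rw [e1, one_smul, neg_eq_zero] at e2
      exact e2
    have hp11 : QuadraticMap.polar Q0 (1 : L) 1 = 2 := by
      rw [QuadraticMap.polar_self, hQ1, two_nsmul]
      norm_num
    have e3 := congrArg (fun f => (f ((0 : ι ⊕ ι → K), (1 : L))).2) hg
    simp only [map_mul, Module.End.mul_apply, hρ.short, act_WSg ρ hρ a₀ s hQs,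
      act_WSg ρ hρ a₀ (-1) hQm1'] at e3
    simp only [xactS, Pi.zero_apply, mul_zero, neg_zero, Function.update_self,
      Function.update_of_ne hna.symm, zero_smul, sub_zero, hQm1, hQs1, inv_one, one_mul,
      Module.End.one_apply, QuadraticMap.polar_neg_right, QuadraticMap.polar_neg_left,
      QuadraticMap.polar_sub_left, QuadraticMap.polar_smul_left, hp11] at e3
    have e4 : s * s = 1 := by
      have hpol : algebraMap K L (QuadraticMap.polar Q0 1 s) = s + σ s := by
        unfold QuadraticMap.polar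
        rw [map_sub, map_sub, hN.nrm, hN.nrm, hN.nrm, hN.map_add, hN.map_one]
        ring
      have hss : s * σ s = 1 := by rw [← hN.nrm, hQs1, map_one]
      rw [Algebra.smul_def, Algebra.smul_def, smul_eq_mul, map_sub, map_mul, map_neg, map_neg,
        hpol, map_ofNat] at e3
      linear_combination e3 - hss
    rw [map_mul Φ, hΦ1, hΦ4, ht, h.toBStAB.XS_zero, one_mul]
    rcases mul_self_eq_one_iff.mp e4 with rfl | rfl
    · left
      exact HS_one h a₀
    · right
      exact ⟨a₀, rfl⟩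
  · exfalso
    have hQs : Q0 s ≠ 0 := hN.nrm_ne_zero hs
    rw [map_mul Φ, map_mul Φ, hΦ1, hΦ1, hΦ3, WS_eq_WSg hN a₀ s hs] at hg
    have h2 := congrArg (fun f => (f (bB a₀)).1 (ng a₀)) hg
    simp only [map_mul, Module.End.mul_apply, hρ.short, act_WSg ρ hρ a₀ s hQs] at h2
    simp only [xactS, bB, Pi.add_apply, Pi.single_eq_same, Pi.single_eq_of_ne hna, add_zero,
      Function.update_self, QuadraticMap.polar_zero_left, mul_zero, sub_zero, mul_one,
      Module.End.one_apply, neg_eq_zero, inv_eq_zero] at h2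
    exact hQs h2

end field

end Cfsg.Agent.Lib.Helper74_S94
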