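import Mathlib
import Cfsg.Prelude.Def_Blocks
import Cfsg.Agent.Lib.Helper80_CharBasic
import Cfsg.Agent.Lib.Helper16_SO_Brauer
import Cfsg.Agent.Lib.Helper75_SM_Base

/-!
# Helper20_SO_N4620: package S0983-N4620 (architect helper16)

There is no simple group of order `4620 = 2²·3·5·7·11`.  Brauer's defect-one data at `p = 11`
(`n₁₁ = 210`, `C(P) = P`, `e = 2`) pin all character degrees to `{1, 20, 21} ∪ 11ℕ`; the data at
`p = 7` (`e ∈ {2, 3, 6}`) are then arithmetically impossible.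
-/

set_option autoImplicit false
open Cfsg Cfsg.Agent.Lib.Helper80_CharBasic

namespace Cfsg.Agent.Lib.Helper20_SO_N4620

open Subgroup Cfsg.Agent.Lib.Helper17_Sylow Cfsg.Agent.Lib.Helper75_SM_Base

/-- Counting lemma: a sum over a finset whose terms take one of three (pairs of) values. -/
theorem count3 {α : Type*} [DecidableEq α] (X : Finset α) (f : α → ℤ) (g : α → ℕ)
    (v1 v2 v3 : ℤ) (w1 w2 w3 : ℕ)
    (h : ∀ x ∈ X, (f x = v1 ∧ g x = w1) ∨ (f x = v2 ∧ g x = w2) ∨ (f x = v3 ∧ g x = w3)) :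
    ∃ a b c : ℕ, a + b + c = X.card ∧ ∑ x ∈ X, f x = a * v1 + b * v2 + c * v3 ∧
      ∑ x ∈ X, g x = a * w1 + b * w2 + c * w3 := by
  induction X using Finset.induction_on with
  | empty => exact ⟨0, 0, 0, by simp⟩
  | insert x s hx ih =>
    obtain ⟨a, b, c, h1, h2, h3⟩ := ih (fun y hy => h y (Finset.mem_insert_of_mem hy))
    rw [Finset.sum_insert hx, Finset.sum_insert hx, Finset.card_insert_of_notMem hx, h2, h3]
    rcases h x (Finset.mem_insert_self x s) with ⟨e1, e2⟩ | ⟨e1, e2⟩ | ⟨e1, e2⟩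
    · exact ⟨a + 1, b, c, by omega, by rw [e1]; push_cast; ring, by rw [e2]; ring⟩
    · exact ⟨a, b + 1, c, by omega, by rw [e1]; push_cast; ring, by rw [e2]; ring⟩
    · exact ⟨a, b, c + 1, by omega, by rw [e1]; push_cast; ring, by rw [e2]; ring⟩

/-- Burnside: `|N(P) : C(P)| ≠ 1` for a Sylow subgroup of prime order of a simple group that is
not of that prime order. -/
theorem relIndex_ne_one {G : Type*} [Group G] [Finite G] [IsSimpleGroup G] {p : ℕ}
    [hp : Fact p.Prime] (P : Sylow p G) (hP : Nat.card (P : Subgroup G) = p)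
    (hG : Nat.card G ≠ p) :
    (centralizer ((P : Subgroup G) : Set G)).relIndex
      (normalizer ((P : Subgroup G) : Set G)) ≠ 1 := by
  intro h
  rw [Subgroup.relIndex_eq_one] at h
  rcases sylow_eq_bot_or_top_of_normalizer_le_centralizer P h with h1 | h1
  · rw [h1, Subgroup.card_bot] at hP
    exact hp.out.one_lt.ne hP
  · rw [h1, Subgroup.card_top] at hP
    exact hG hP

/-- Divisors of `4620` that are `≡ ±1 (mod 11)` with square at most `4620`. -/
theorem divisor_list11 : ∀ d : ℕ, d ≤ 67 → d ∣ 4620 → (d % 11 = 1 ∨ d % 11 = 10) →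
    (d % 11 = 1 ∧ (d = 1 ∨ d = 12)) ∨ (d % 11 = 10 ∧ (d = 10 ∨ d = 21)) := by
  intro d hd hdvd hmod
  interval_cases d <;> omega

/-- Divisors of `4620` in `{1, 20, 21} ∪ 11ℕ` that are `≡ ±1 (mod 7)` with square at most `4620`. -/
theorem divisor_list7 : ∀ d : ℕ, d ≤ 67 → d ∣ 4620 → (d % 7 = 1 ∨ d % 7 = 6) →
    (d = 1 ∨ d = 20 ∨ d = 21 ∨ 11 ∣ d) →
    (d % 7 = 1 ∧ (d = 1 ∨ d = 22)) ∨ (d % 7 = 6 ∧ (d = 20 ∨ d = 55)) := by
  intro d hd hdvd hmod hA
  interval_cases d <;> omega

/-- Divisors of `4620` in `{1, 20, 21} ∪ 11ℕ` with square at most `4620`. -/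
theorem divisor_listA : ∀ d : ℕ, d ≤ 67 → d ∣ 4620 → (d = 1 ∨ d = 20 ∨ d = 21 ∨ 11 ∣ d) →
    d = 1 ∨ d = 11 ∨ d = 20 ∨ d = 21 ∨ d = 22 ∨ d = 33 ∨ d = 44 ∨ d = 55 ∨ d = 66 := by
  intro d hd hdvd hA
  interval_cases d <;> omega

theorem le_67_of_sq_le {d : ℕ} (h : d ^ 2 ≤ 4620) : d ≤ 67 := by
  by_contra hc
  have : 68 ≤ d := by omega
  nlinarith

section

variable {G : Type*} [Group G] [Finite G] [IsSimpleGroup G]

theorem not_comm (hG : Nat.card G = 4620) : ¬ IsMulCommutative G :=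
  not_isMulCommutative_of_not_prime (by rw [hG]; norm_num)

theorem not_comm' (hG : Nat.card G = 4620) : ¬ ∀ a b : G, a * b = b * a :=
  Cfsg.Agent.Lib.Helper16_SO_Brauer.not_comm_of_not_isMulCommutative (not_comm hG)

/-- Step `p = 11`: all irreducible character degrees lie in `{1, 20, 21} ∪ 11ℕ`. -/
theorem degrees_4620 (hG : Nat.card G = 4620) (ψ : Cfsg.IrrCharacter G) :
    charDegree (ψ : G → ℂ) = 1 ∨ charDegree (ψ : G → ℂ) = 20 ∨ charDegree (ψ : G → ℂ) = 21 ∨
      11 ∣ charDegree (ψ : G → ℂ) := by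
  classical
  have hnc := not_comm hG
  have hna := not_comm' hG
  have : Fact (Nat.Prime 11) := ⟨by norm_num⟩
  have hc : Nat.card G = 11 ^ 1 * 420 := by rw [hG]; norm_num
  have hm : ¬ 11 ∣ 420 := by norm_num
  have hmem := card_sylow_mem_candidates hc hm
  have hcand : sylowCandidates 11 420 = [1, 12, 210] := by decide
  rw [hcand] at hmem
  simp only [List.mem_cons, List.not_mem_nil, or_false] at hmem
  have hlt := one_lt_card_sylow_of_card hc hm (by norm_num) (by norm_num)
  rcases hmem with hd | hd | hd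
  · omega
  · exact (perm_kill hnc (by norm_num) hc hm hd 385 (by omega) (by decide)).elim
  obtain ⟨P⟩ : Nonempty (Sylow 11 G) := inferInstance
  have hP : Nat.card (P : Subgroup G) = 11 := by
    have := card_sylow_eq_pow hc hm P
    rwa [pow_one] at this
  have hN := card_normalizer_mul_card_sylow P
  rw [hd, hG] at hN
  have hN22 : Nat.card (normalizer ((P : Subgroup G) : Set G)) = 22 := by omega
  have he1 := relIndex_ne_one P hP (by rw [hG]; norm_num)
  have hcyc : IsCyclic (P : Subgroup G) := isCyclic_of_prime_card hP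
  have hPC : (P : Subgroup G) ≤ centralizer ((P : Subgroup G) : Set G) :=
    le_centralizer_of_isCyclic _
  have hCN : centralizer ((P : Subgroup G) : Set G) ≤ normalizer ((P : Subgroup G) : Set G) :=
    centralizer_le_normalizer _
  have h1 := card_mul_relIndex_of_le hCN
  rw [hN22] at h1
  have h2 : 11 ∣ Nat.card (centralizer ((P : Subgroup G) : Set G)) := by
    have := Subgroup.card_dvd_of_le hPC
    rwa [hP] at this
  obtain ⟨c, hcc⟩ := h2
  obtain ⟨e, he⟩ : ∃ e, (centralizer ((P : Subgroup G) : Set G)).relIndex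
      (normalizer ((P : Subgroup G) : Set G)) = e := ⟨_, rfl⟩
  rw [he] at h1 he1
  rw [hcc] at h1
  have hce : c * e = 2 := by
    have : 11 * (c * e) = 11 * 2 := by rw [← mul_assoc]; exact h1
    exact Nat.eq_of_mul_eq_mul_left (by norm_num) this
  have hc1 : c = 1 ∧ e = 2 := by
    have hcpos : 0 < c := Nat.pos_of_ne_zero (by rintro rfl; simp at hce)
    have hepos : 0 < e := Nat.pos_of_ne_zero (by rintro rfl; simp at hce)
    have hle : e ≤ 2 := Nat.le_of_dvd (by norm_num) ⟨c, by rw [← hce, mul_comm]⟩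
    have h2e : e = 2 := by omega
    rw [h2e] at hce
    exact ⟨by omega, h2e⟩
  obtain ⟨rfl, rfl⟩ := hc1
  have hCP : centralizer ((P : Subgroup G) : Set G) = (P : Subgroup G) :=
    (Subgroup.eq_of_le_of_card_ge hPC (by rw [hcc, hP])).symm
  obtain ⟨X, εX, θ, ε, hXc, hθX, hone, hX, hε, -, hrel, -, -, hlast⟩ :=
    Cfsg.Agent.Lib.Helper16_SO_Brauer.brauer_data (by norm_num) P hP 2 he (by norm_num)
  have h1X : oneIrr G ∈ X ∧ εX (oneIrr G) = 1 := by
    rcases hone with h | ⟨-, -, h⟩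
    · exact h
    · omega
  have hdeg1 := Cfsg.Agent.Lib.Helper16_SO_Brauer.charDegree_oneIrr G
  -- the other member of `X`
  have hX' : (X.erase (oneIrr G)).card = 1 := by
    rw [Finset.card_erase_of_mem h1X.1, hXc]
  obtain ⟨χ, hχ⟩ := Finset.card_eq_one.mp hX'
  have hχmem : χ ∈ X.erase (oneIrr G) := by rw [hχ]; exact Finset.mem_singleton_self χ
  have hχ1 : χ ≠ oneIrr G := (Finset.mem_erase.mp hχmem).1
  have hχX : χ ∈ X := (Finset.mem_erase.mp hχmem).2
  have hsum : ∑ φ ∈ X, εX φ * (charDegree (φ : G → ℂ) : ℤ) =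
      1 + εX χ * (charDegree (χ : G → ℂ) : ℤ) := by
    rw [← Finset.add_sum_erase X _ h1X.1, hχ, Finset.sum_singleton, h1X.2, hdeg1]
    simp
  rw [hsum] at hrel
  obtain ⟨hs, hmod, -⟩ := hX χ hχX
  have hdvd : charDegree (χ : G → ℂ) ∣ 4620 := by
    rw [← hG]
    exact Cfsg.Agent.Lib.Helper77_BlockBasics.charDegree_dvd_card χ
  have hsq : charDegree (χ : G → ℂ) ^ 2 ≤ 4620 := by
    rw [← hG]
    exact Cfsg.Agent.Lib.Helper74_CharTools.charDegree_sq_le χ
  have hne1 : charDegree (χ : G → ℂ) ≠ 1 := fun h =>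
    hχ1 (Cfsg.Agent.Lib.Helper74_CharTools.eq_oneIrr_of_degree_one hna χ h)
  have hDdvd : charDegree (θ : G → ℂ) ∣ 4620 := by
    rw [← hG]
    exact Cfsg.Agent.Lib.Helper77_BlockBasics.charDegree_dvd_card θ
  obtain ⟨d, hdd⟩ : ∃ d : ℕ, d = charDegree (χ : G → ℂ) := ⟨_, rfl⟩
  obtain ⟨D, hDD⟩ : ∃ D : ℕ, D = charDegree (θ : G → ℂ) := ⟨_, rfl⟩
  rw [← hdd] at hdvd hsq hne1 hmod hrel
  rw [← hDD] at hDdvd hrel
  have hle := le_67_of_sq_le hsq
  unfold Int.ModEq at hmod
  -- determine `d = 21`, `D = 20`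
  have hkey : d = 21 ∧ D = 20 := by
    rcases hs with hs | hs
    · rw [hs] at hmod hrel
      have hm1 : d % 11 = 1 := by push_cast at hmod; omega
      rcases divisor_list11 d hle hdvd (Or.inl hm1) with ⟨-, h | h⟩ | ⟨h, -⟩
      · exact absurd h hne1
      · exfalso
        rw [h] at hrel
        rcases hε with h3 | h3 <;> rw [h3] at hrel
        · have : D = 13 := by push_cast at hrel; omega
          rw [this] at hDdvd
          omega
        · push_cast at hrel; omega
      · omega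
    · rw [hs] at hmod hrel
      have hm1 : d % 11 = 10 := by push_cast at hmod; omega
      rcases divisor_list11 d hle hdvd (Or.inr hm1) with ⟨h, -⟩ | ⟨-, h | h⟩
      · omega
      · exfalso
        rw [h] at hrel
        rcases hε with h3 | h3 <;> rw [h3] at hrel
        · push_cast at hrel; omega
        · have : D = 9 := by push_cast at hrel; omega
          rw [this] at hDdvd
          omega
      · refine ⟨h, ?_⟩
        rw [h] at hrel
        rcases hε with h3 | h3 <;> rw [h3] at hrel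
        · push_cast at hrel; omega
        · push_cast at hrel; omega
  by_cases h11 : 11 ∣ charDegree (ψ : G → ℂ)
  · exact Or.inr (Or.inr (Or.inr h11))
  rcases hlast hCP ψ h11 with h | h
  · by_cases hψ1 : ψ = oneIrr G
    · left; rw [hψ1]; exact hdeg1
    · have : ψ ∈ X.erase (oneIrr G) := Finset.mem_erase.mpr ⟨hψ1, h⟩
      rw [hχ, Finset.mem_singleton] at this
      right; right; left
      rw [this, ← hdd]
      exact hkey.1
  · right; left
    rw [h, ← hDD]
    exact hkey.2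

/-- Step `p = 7`. -/
theorem no_simple_4620' (hG : Nat.card G = 4620) : False := by
  classical
  have hnc := not_comm hG
  have hna := not_comm' hG
  have hA := degrees_4620 hG
  have : Fact (Nat.Prime 7) := ⟨by norm_num⟩
  have hc : Nat.card G = 7 ^ 1 * 660 := by rw [hG]; norm_num
  have hm : ¬ 7 ∣ 660 := by norm_num
  obtain ⟨P⟩ : Nonempty (Sylow 7 G) := inferInstance
  have hP : Nat.card (P : Subgroup G) = 7 := by
    have := card_sylow_eq_pow hc hm P
    rwa [pow_one] at this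
  have he1 := relIndex_ne_one P hP (by rw [hG]; norm_num)
  have hed := relIndex_centralizer_normalizer_dvd_pred (p := 7) (P : Subgroup G) hP
  obtain ⟨e, he⟩ : ∃ e, (centralizer ((P : Subgroup G) : Set G)).relIndex
      (normalizer ((P : Subgroup G) : Set G)) = e := ⟨_, rfl⟩
  rw [he] at he1 hed
  have he236 : e = 2 ∨ e = 3 ∨ e = 6 := by
    have h6 : e ≤ 6 := Nat.le_of_dvd (by norm_num) hed
    interval_cases e <;> omega
  obtain ⟨X, εX, θ, ε, hXc, hθX, hone, hX, hε, -, hrel, -, hsq, -⟩ :=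
    Cfsg.Agent.Lib.Helper16_SO_Brauer.brauer_data (by norm_num) P hP e he he1
  have hdeg1 := Cfsg.Agent.Lib.Helper16_SO_Brauer.charDegree_oneIrr G
  -- classification of the members of `X` other than the principal character
  have hclass : ∀ χ ∈ X, χ ≠ oneIrr G →
      (εX χ * (charDegree (χ : G → ℂ) : ℤ) = 22 ∧ charDegree (χ : G → ℂ) ^ 2 = 484) ∨
      (εX χ * (charDegree (χ : G → ℂ) : ℤ) = -20 ∧ charDegree (χ : G → ℂ) ^ 2 = 400) ∨
      (εX χ * (charDegree (χ : G → ℂ) : ℤ) = -55 ∧ charDegree (χ : G → ℂ) ^ 2 = 3025) := by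
    intro χ hχX hχ1
    obtain ⟨hs, hmod, -⟩ := hX χ hχX
    have hdvd : charDegree (χ : G → ℂ) ∣ 4620 := by
      rw [← hG]
      exact Cfsg.Agent.Lib.Helper77_BlockBasics.charDegree_dvd_card χ
    have hsq' : charDegree (χ : G → ℂ) ^ 2 ≤ 4620 := by
      rw [← hG]
      exact Cfsg.Agent.Lib.Helper74_CharTools.charDegree_sq_le χ
    have hne1 : charDegree (χ : G → ℂ) ≠ 1 := fun h =>
      hχ1 (Cfsg.Agent.Lib.Helper74_CharTools.eq_oneIrr_of_degree_one hna χ h)
    have hAχ := hA χ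
    obtain ⟨d, hdd⟩ : ∃ d : ℕ, d = charDegree (χ : G → ℂ) := ⟨_, rfl⟩
    rw [← hdd] at hdvd hsq' hne1 hmod hAχ ⊢
    have hle := le_67_of_sq_le hsq'
    unfold Int.ModEq at hmod
    rcases hs with hs | hs
    · rw [hs] at hmod ⊢
      have hm1 : d % 7 = 1 := by push_cast at hmod; omega
      rcases divisor_list7 d hle hdvd (Or.inl hm1) hAχ with ⟨-, h | h⟩ | ⟨h, -⟩
      · exact absurd h hne1
      · left; rw [h]; norm_num
      · omega
    · rw [hs] at hmod ⊢
      have hm1 : d % 7 = 6 := by push_cast at hmod; omega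
      rcases divisor_list7 d hle hdvd (Or.inr hm1) hAχ with ⟨h, -⟩ | ⟨-, h | h⟩
      · omega
      · right; left; rw [h]; norm_num
      · right; right; rw [h]; norm_num
  -- drop the `θ` term of the inequality
  have hsq2 : ∑ χ ∈ X, charDegree (χ : G → ℂ) ^ 2 ≤ 4620 := by
    rw [← hG]
    exact le_trans (Nat.le_add_right _ _) hsq
  rcases hone with ⟨h1X, hε1⟩ | ⟨hθ1, hεm, he6⟩
  · -- the principal character lies in `X`
    obtain ⟨a, b, c, habc, hf, hg⟩ := count3 (X.erase (oneIrr G))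
      (fun χ => εX χ * (charDegree (χ : G → ℂ) : ℤ)) (fun χ => charDegree (χ : G → ℂ) ^ 2)
      22 (-20) (-55) 484 400 3025
      (fun χ hχ => hclass χ (Finset.mem_erase.mp hχ).2 (Finset.mem_erase.mp hχ).1)
    rw [Finset.card_erase_of_mem h1X, hXc] at habc
    have hsumf : ∑ φ ∈ X, εX φ * (charDegree (φ : G → ℂ) : ℤ) =
        1 + ((a : ℤ) * 22 + (b : ℤ) * (-20) + (c : ℤ) * (-55)) := by
      rw [← Finset.add_sum_erase X _ h1X, hf, hε1, hdeg1]
      simp
    have hsumg : ∑ φ ∈ X, charDegree (φ : G → ℂ) ^ 2 = 1 + (a * 484 + b * 400 + c * 3025) := by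
      rw [← Finset.add_sum_erase X _ h1X, hg, hdeg1]
      simp
    rw [hsumf] at hrel
    rw [hsumg] at hsq2
    -- the degree of `θ`
    have hDdvd : charDegree (θ : G → ℂ) ∣ 4620 := by
      rw [← hG]
      exact Cfsg.Agent.Lib.Helper77_BlockBasics.charDegree_dvd_card θ
    have hDsq : charDegree (θ : G → ℂ) ^ 2 ≤ 4620 := by
      rw [← hG]
      exact Cfsg.Agent.Lib.Helper74_CharTools.charDegree_sq_le θ
    have hDne1 : charDegree (θ : G → ℂ) ≠ 1 := fun h =>
      hθX ((Cfsg.Agent.Lib.Helper74_CharTools.eq_oneIrr_of_degree_one hna θ h) ▸ h1X)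
    have hAθ := hA θ
    obtain ⟨D, hDD⟩ : ∃ D : ℕ, D = charDegree (θ : G → ℂ) := ⟨_, rfl⟩
    rw [← hDD] at hDdvd hDsq hDne1 hAθ hrel
    have hDlist := divisor_listA D (le_67_of_sq_le hDsq) hDdvd hAθ
    rcases he236 with rfl | rfl | rfl <;> rcases hε with rfl | rfl <;>
      rcases hDlist with rfl | rfl | rfl | rfl | rfl | rfl | rfl | rfl | rfl <;>
      first
        | exact hDne1 rfl
        | (push_cast at hrel; omega)
  · -- the principal character is exceptional
    obtain ⟨a, b, c, habc, hf, hg⟩ := count3 X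
      (fun χ => εX χ * (charDegree (χ : G → ℂ) : ℤ)) (fun χ => charDegree (χ : G → ℂ) ^ 2)
      22 (-20) (-55) 484 400 3025
      (fun χ hχ => hclass χ hχ (fun h => hθX (hθ1 ▸ h ▸ hχ)))
    rw [hXc] at habc
    rw [hf, hθ1, hdeg1, hεm] at hrel
    rw [hg] at hsq2
    push_cast at hrel
    omega

end

theorem no_simple_4620 {G : Type*} [Group G] [Finite G] [IsSimpleGroup G] : Nat.card G ≠ 4620 :=
  fun h => no_simple_4620' h

end Cfsg.Agent.Lib.Helper20_SO_N4620
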