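import Mathlib
import Cfsg.Prelude.Def_Transfer
import Cfsg.Agent.Lib.Helper49_SlimDefs

/-!
# S4409 package Slim-TRANS (helper31, architect helper49)

The internal centre `zen Y` and derived subgroup `der Y` are the images of `center ↥Y` and
`commutator ↥Y`; translation of `phi X = zen X = der X` to `Cfsg.IsSpecial 2 ↥X`.
-/

set_option autoImplicit false

namespace Cfsg.Agent.Lib.Helper31_Slim_TRANS

open Subgroup Cfsg.Agent.Lib.Helper49_SlimDefs
open scoped commutatorElement

variable {S : Type*} [Group S] [Finite S]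

theorem zen_eq_map (Y : Subgroup S) : zen Y = (center ↥Y).map Y.subtype := by
  ext x
  simp only [zen, Subgroup.mem_inf, Subgroup.mem_centralizer_iff, Subgroup.mem_map,
    Subgroup.mem_center_iff, Subgroup.coe_subtype, SetLike.mem_coe]
  constructor
  · rintro ⟨hxY, hx⟩
    refine ⟨⟨x, hxY⟩, fun g => ?_, rfl⟩
    exact Subtype.ext (hx g g.2)
  · rintro ⟨y, hy, rfl⟩
    refine ⟨y.2, fun g hg => ?_⟩
    exact congrArg Subtype.val (hy ⟨g, hg⟩)

theorem der_eq_map (Y : Subgroup S) : der Y = (commutator ↥Y).map Y.subtype := by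
  rw [der, commutator_def, Subgroup.map_commutator, ← MonoidHom.range_eq_map, Subgroup.range_subtype]

theorem special_of (X : Subgroup S) (hX : IsPGroup 2 ↥X) (h1 : phi X = zen X) (h2 : der X = zen X) :
    Cfsg.IsSpecial 2 ↥X ∧ Nat.card ↥(center ↥X) = Nat.card ↥(zen X) := by
  have hinj := Subgroup.map_injective X.subtype_injective
  refine ⟨⟨hX, ?_, ?_⟩, ?_⟩
  · apply hinj
    rw [← zen_eq_map]
    exact h1
  · apply hinj
    rw [← zen_eq_map, ← der_eq_map]
    exact h2
  · rw [zen_eq_map]
    exact (Nat.card_congr ((center ↥X).equivMapOfInjective X.subtype X.subtype_injective).toEquiv)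

end Cfsg.Agent.Lib.Helper31_Slim_TRANS
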