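import Mathlib
import Cfsg.Agent.Lib.Helper49_SlimDefs

/-!
# S4409 slim package ORD8B (architect helper49)

Nonabelian groups of order `8` inside an ambient finite group `S`:

* `central_aut_inner` : an element `y` with `⁅w, y⁆ ∈ zen W` for all `w ∈ W` lies in `W ⊔ C_S(W)`
  (central automorphisms of a nonabelian group of order `8` are inner);
* `index_central_aut` : for a `2`-group `P` normalizing `W`, the subgroup of all `y ∈ P` acting trivially on
  `W / Z(W)` has index at most `2` in `P` and is normal in `P`.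
-/

set_option autoImplicit false

namespace Cfsg.Agent.Lib.Helper43_Slim_ORD8B

open Subgroup Cfsg.Agent.Lib.Helper49_SlimDefs
open scoped commutatorElement

/-! ### abstract groups of order 8 -/

section abstract8

variable {G : Type*} [Group G]

/-- A subgroup of order `1`, `2` or `4` is commutative. -/
theorem comm_of_card_le_four (D : Subgroup G) (h : Nat.card ↥D = 1 ∨ Nat.card ↥D = 2 ∨ Nat.card ↥D = 4)
    (a b : G) (ha : a ∈ D) (hb : b ∈ D) : a * b = b * a := by
  have : Fact (Nat.Prime 2) := ⟨Nat.prime_two⟩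
  have key : ∀ x y : ↥D, x * y = y * x := by
    rcases h with h | h | h
    · have : Subsingleton ↥D := (Nat.card_eq_one_iff_unique.mp h).1
      intro x y
      rw [Subsingleton.elim x y]
    · have : IsCyclic ↥D := isCyclic_of_prime_card (p := 2) h
      intro x y
      exact (IsCyclic.isMulCommutative).is_comm.comm x y
    · have h' : Nat.card ↥D = 2 ^ 2 := by rw [h]; norm_num
      exact (IsPGroup.isMulCommutative_of_card_eq_prime_sq h').is_comm.comm
  have := key ⟨a, ha⟩ ⟨b, hb⟩
  exact congrArg Subtype.val this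

/-- A subgroup of a group of order `8` containing two noncommuting elements is everything. -/
theorem eq_top_of_noncomm (h8 : Nat.card G = 8) (D : Subgroup G) (a b : G) (ha : a ∈ D) (hb : b ∈ D)
    (hab : a * b ≠ b * a) : D = ⊤ := by
  have : Finite G := Nat.finite_of_card_ne_zero (by omega)
  have hdvd : Nat.card ↥D ∣ 8 := h8 ▸ Subgroup.card_subgroup_dvd_card D
  have hmem : Nat.card ↥D ∈ Nat.divisors 8 := Nat.mem_divisors.mpr ⟨hdvd, by norm_num⟩
  have hdiv : Nat.divisors 8 = {1, 2, 4, 8} := by decide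
  rw [hdiv] at hmem
  simp only [Finset.mem_insert, Finset.mem_singleton] at hmem
  rcases hmem with h | h | h | h
  · exact absurd (comm_of_card_le_four D (Or.inl h) a b ha hb) hab
  · exact absurd (comm_of_card_le_four D (Or.inr (Or.inl h)) a b ha hb) hab
  · exact absurd (comm_of_card_le_four D (Or.inr (Or.inr h)) a b ha hb) hab
  · exact (Subgroup.card_eq_iff_eq_top D).mp (h.trans h8.symm)

/-- The centre of a nonabelian group of order `8` has order `2`. -/
theorem card_center_eq_two (h8 : Nat.card G = 8) (a b : G) (hab : a * b ≠ b * a) :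
    Nat.card ↥(center G) = 2 := by
  have : Finite G := Nat.finite_of_card_ne_zero (by omega)
  have : Fact (Nat.Prime 2) := ⟨Nat.prime_two⟩
  have hp : IsPGroup 2 G := IsPGroup.of_card (n := 3) (by rw [h8]; norm_num)
  have : Nontrivial G := (Finite.one_lt_card_iff_nontrivial).mp (by omega)
  have hnt : Nontrivial ↥(center G) := hp.center_nontrivial
  have h1 : 1 < Nat.card ↥(center G) := Finite.one_lt_card
  have hdvd : Nat.card ↥(center G) ∣ 8 := h8 ▸ Subgroup.card_subgroup_dvd_card (center G)
  have hmem : Nat.card ↥(center G) ∈ Nat.divisors 8 := Nat.mem_divisors.mpr ⟨hdvd, by norm_num⟩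
  have hdiv : Nat.divisors 8 = {1, 2, 4, 8} := by decide
  rw [hdiv] at hmem
  simp only [Finset.mem_insert, Finset.mem_singleton] at hmem
  rcases hmem with h | h | h | h
  · omega
  · exact h
  · exfalso
    have hidx : Nat.card (G ⧸ center G) = 2 := by
      have := Subgroup.card_eq_card_quotient_mul_card_subgroup (center G)
      rw [h8, h] at this
      omega
    have : IsCyclic (G ⧸ center G) := isCyclic_of_prime_card (p := 2) hidx
    exact hab ((MonoidHom.isMulCommutative_of_isCyclic_of_ker_le_center (QuotientGroup.mk' (center G))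
      (QuotientGroup.ker_mk' (center G)).le).is_comm.comm a b)
  · exfalso
    have htop : center G = ⊤ := (Subgroup.card_eq_iff_eq_top (center G)).mp (h.trans h8.symm)
    have : a ∈ center G := htop ▸ Subgroup.mem_top a
    exact hab ((Subgroup.mem_center_iff.mp this b).symm)

/-- In a nonabelian group of order `8` all commutators are central. -/
theorem comm_mem_center (h8 : Nat.card G = 8) (a b : G) (hab : a * b ≠ b * a) (x y : G) :
    x * y * x⁻¹ * y⁻¹ ∈ center G := by
  have : Finite G := Nat.finite_of_card_ne_zero (by omega)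
  have : Fact (Nat.Prime 2) := ⟨Nat.prime_two⟩
  have hc := card_center_eq_two h8 a b hab
  have hidx : Nat.card (G ⧸ center G) = 2 ^ 2 := by
    have := Subgroup.card_eq_card_quotient_mul_card_subgroup (center G)
    rw [h8, hc] at this
    omega
  have hcomm := (IsPGroup.isMulCommutative_of_card_eq_prime_sq hidx).is_comm.comm
  rw [← QuotientGroup.eq_one_iff]
  have : ((x * y * x⁻¹ * y⁻¹ : G) : G ⧸ center G)
      = (x : G ⧸ center G) * (y : G ⧸ center G) * (x : G ⧸ center G)⁻¹ * (y : G ⧸ center G)⁻¹ := by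
    simp
  rw [this, hcomm (x : G ⧸ center G) (y : G ⧸ center G)]
  group

/-- The centre of a nonabelian group of order `8` is `{1, ⁅a,b⁆}` for any noncommuting `a`, `b`. -/
theorem center_cases (h8 : Nat.card G = 8) (a b : G) (hab : a * b ≠ b * a) (t : G)
    (ht : t ∈ center G) : t = 1 ∨ t = a * b * a⁻¹ * b⁻¹ := by
  have hc := card_center_eq_two h8 a b hab
  have hz := comm_mem_center h8 a b hab a b
  have hz1 : a * b * a⁻¹ * b⁻¹ ≠ 1 := by
    intro h
    apply hab
    have : a * b = (a * b * a⁻¹ * b⁻¹) * (b * a) := by group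
    rw [this, h, one_mul]
  obtain ⟨u, hu, huniq⟩ := (Nat.card_eq_two_iff' (1 : ↥(center G))).mp hc
  by_cases ht1 : t = 1
  · exact Or.inl ht1
  · right
    have e1 : (⟨t, ht⟩ : ↥(center G)) = u := huniq _ (fun h => ht1 (congrArg Subtype.val h))
    have e2 : (⟨a * b * a⁻¹ * b⁻¹, hz⟩ : ↥(center G)) = u :=
      huniq _ (fun h => hz1 (congrArg Subtype.val h))
    exact congrArg Subtype.val (e1.trans e2.symm)

end abstract8

/-! ### inside the ambient group -/

variable {S : Type*} [Group S] [Finite S]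

omit [Finite S] in
theorem mem_zen_iff (W : Subgroup S) (t : S) :
    t ∈ zen W ↔ ∃ ht : t ∈ W, (⟨t, ht⟩ : ↥W) ∈ center ↥W := by
  unfold zen
  rw [Subgroup.mem_inf, Subgroup.mem_centralizer_iff]
  constructor
  · rintro ⟨ht, hc⟩
    refine ⟨ht, Subgroup.mem_center_iff.mpr fun g => ?_⟩
    exact Subtype.ext (hc g g.2)
  · rintro ⟨ht, hc⟩
    refine ⟨ht, fun w hw => ?_⟩
    have := Subgroup.mem_center_iff.mp hc ⟨w, hw⟩
    exact congrArg Subtype.val this

omit [Finite S] in
/-- Structure of a nonabelian subgroup `W` of order `8`: noncommuting generators `a`, `b`, whose commutator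
`z` generates `zen W = {1, z}`; anything commuting with `a` and `b` centralizes `W`. -/
theorem ord8_data (W : Subgroup S) (hW : Nat.card ↥W = 8) (hna : ¬ IsMulCommutative ↥W) :
    ∃ a ∈ W, ∃ b ∈ W, a * b ≠ b * a ∧ a * b * a⁻¹ * b⁻¹ ∈ zen W ∧
      (∀ t ∈ zen W, t = 1 ∨ t = a * b * a⁻¹ * b⁻¹) ∧
      (∀ c : S, a * c = c * a → b * c = c * b → c ∈ centralizer (W : Set S)) := by
  rw [isMulCommutative_iff] at hna
  push Not at hna
  obtain ⟨a', b', hab'⟩ := hna
  have hab : (a' : S) * b' ≠ b' * a' := fun h => hab' (Subtype.ext h)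
  refine ⟨a', a'.2, b', b'.2, hab, ?_, ?_, ?_⟩
  · rw [mem_zen_iff]
    refine ⟨mul_mem (mul_mem (mul_mem a'.2 b'.2) (inv_mem a'.2)) (inv_mem b'.2), ?_⟩
    exact comm_mem_center hW a' b' hab' a' b'
  · intro t ht
    rw [mem_zen_iff] at ht
    obtain ⟨htW, htc⟩ := ht
    rcases center_cases hW a' b' hab' ⟨t, htW⟩ htc with h | h
    · exact Or.inl (congrArg Subtype.val h)
    · exact Or.inr (congrArg Subtype.val h)
  · intro c hca hcb
    have htop : (centralizer ({c} : Set S)).subgroupOf W = ⊤ := by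
      apply eq_top_of_noncomm hW _ a' b' _ _ hab'
      · rw [mem_subgroupOf, mem_centralizer_iff]
        intro x hx
        rw [Set.mem_singleton_iff] at hx
        subst hx
        exact hca.symm
      · rw [mem_subgroupOf, mem_centralizer_iff]
        intro x hx
        rw [Set.mem_singleton_iff] at hx
        subst hx
        exact hcb.symm
    rw [subgroupOf_eq_top] at htop
    rw [mem_centralizer_iff]
    intro w hw
    have := htop hw
    rw [mem_centralizer_iff] at this
    exact (this c (Set.mem_singleton c)).symm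

omit [Finite S] in
theorem comm_of_comm_eq (a y v : S) (h : a * y * a⁻¹ * y⁻¹ = a * v * a⁻¹ * v⁻¹) :
    a * (v⁻¹ * y) = (v⁻¹ * y) * a := by
  have h2 : y * a * y⁻¹ = v * a * v⁻¹ := by
    have := congrArg (fun t => (a⁻¹ * t)⁻¹) h
    simpa [mul_assoc] using this
  calc a * (v⁻¹ * y) = v⁻¹ * (v * a * v⁻¹) * y := by group
    _ = v⁻¹ * (y * a * y⁻¹) * y := by rw [h2]
    _ = (v⁻¹ * y) * a := by group

set_option linter.unusedVariables false in
theorem central_aut_inner (W : Subgroup S) (hW : Nat.card ↥W = 8) (hna : ¬ IsMulCommutative ↥W)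
    (y : S) (hy : y ∈ normalizer (W : Set S)) (hyc : ∀ w ∈ W, ⁅w, y⁆ ∈ zen W) :
    y ∈ W ⊔ centralizer (W : Set S) := by
  obtain ⟨a, ha, b, hb, hab, hz, hcases, hgen⟩ := ord8_data W hW hna
  have hzb : b * (a * b * a⁻¹ * b⁻¹) = (a * b * a⁻¹ * b⁻¹) * b := by
    have : a * b * a⁻¹ * b⁻¹ ∈ centralizer (W : Set S) := (Subgroup.mem_inf.mp hz).2
    rw [mem_centralizer_iff] at this
    exact this b hb
  have hzinv : (a * b * a⁻¹ * b⁻¹)⁻¹ = a * b * a⁻¹ * b⁻¹ := by
    rcases hcases _ (inv_mem hz) with h | h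
    · rw [h]
      exact (inv_eq_one.mp h).symm
    · exact h
  have hzinv' : b * a * b⁻¹ * a⁻¹ = a * b * a⁻¹ * b⁻¹ := by
    rw [← hzinv]
    group
  obtain ⟨v, hv, hva, hvb⟩ : ∃ v ∈ W, a * y * a⁻¹ * y⁻¹ = a * v * a⁻¹ * v⁻¹ ∧
      b * y * b⁻¹ * y⁻¹ = b * v * b⁻¹ * v⁻¹ := by
    have h1 := hcases _ (hyc a ha)
    have h2 := hcases _ (hyc b hb)
    rw [commutatorElement_def] at h1 h2
    rcases h1 with h1 | h1 <;> rcases h2 with h2 | h2
    · exact ⟨1, one_mem _, by rw [h1]; group, by rw [h2]; group⟩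
    · refine ⟨a, ha, by rw [h1]; group, ?_⟩
      rw [h2, hzinv']
    · refine ⟨b, hb, h1, by rw [h2]; group⟩
    · refine ⟨b * a, mul_mem hb ha, ?_, ?_⟩
      · rw [h1]
        group
      · rw [h2]
        have : b * (b * a) * b⁻¹ * (b * a)⁻¹ = b * (b * a * b⁻¹ * a⁻¹) * b⁻¹ := by group
        rw [this, hzinv', hzb]
        group
  have hca := comm_of_comm_eq a y v hva
  have hcb := comm_of_comm_eq b y v hvb
  have hc : v⁻¹ * y ∈ centralizer (W : Set S) := hgen _ hca hcb
  have hyv : y = v * (v⁻¹ * y) := by group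
  rw [hyv]
  exact mul_mem_sup hv hc

/-! ### the action on the central quotient -/

/-- The automorphism induced on the central quotient. -/
noncomputable def quotAut {G : Type*} [Group G] : MulAut G →* MulAut (G ⧸ center G) where
  toFun α := QuotientGroup.congr (center G) (center G) α
    (characteristic_iff_map_eq.mp centerCharacteristic α)
  map_one' := by
    ext q
    induction q using QuotientGroup.induction_on
    rfl
  map_mul' α β := by
    ext q
    induction q using QuotientGroup.induction_on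
    rfl

theorem quotAut_mk {G : Type*} [Group G] (α : MulAut G) (g : G) :
    quotAut α (g : G ⧸ center G) = ((α g : G) : G ⧸ center G) := rfl

/-- Automorphisms permute the nonidentity elements. -/
def nonOnePerm {Q : Type*} [Group Q] : MulAut Q →* Equiv.Perm {q : Q // q ≠ 1} where
  toFun α := α.toEquiv.subtypeEquiv (fun q => by simp)
  map_one' := by
    ext q
    rfl
  map_mul' α β := by
    ext q
    rfl

theorem nonOnePerm_apply {Q : Type*} [Group Q] (α : MulAut Q) (q : {q : Q // q ≠ 1}) :
    ((nonOnePerm α q : {q : Q // q ≠ 1}) : Q) = α q := rfl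

theorem nonOnePerm_eq_one_iff {Q : Type*} [Group Q] (α : MulAut Q) :
    nonOnePerm α = 1 ↔ ∀ q : Q, α q = q := by
  constructor
  · intro h q
    by_cases hq : q = 1
    · rw [hq, map_one]
    · have := congrArg (fun f : Equiv.Perm {q : Q // q ≠ 1} => ((f ⟨q, hq⟩ : {q : Q // q ≠ 1}) : Q)) h
      simpa [nonOnePerm_apply] using this
  · intro h
    ext q
    rw [nonOnePerm_apply, h]
    rfl

/-- A `2`-subgroup of the symmetric group on three letters has order at most `2`. -/
theorem card_range_le_two {P X : Type*} [Group P] [Finite P] [Finite X] (hP : IsPGroup 2 P)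
    (hX : Nat.card X = 3) (θ : P →* Equiv.Perm X) : Nat.card ↥θ.range ≤ 2 := by
  have : Fact (Nat.Prime 2) := ⟨Nat.prime_two⟩
  have h6 : Nat.card (Equiv.Perm X) = 6 := by
    rw [Nat.card_perm, hX]
    rfl
  have hdvd : Nat.card ↥θ.range ∣ 6 := h6 ▸ Subgroup.card_subgroup_dvd_card θ.range
  have hp : IsPGroup 2 ↥θ.range := hP.of_surjective θ.rangeRestrict θ.rangeRestrict_surjective
  obtain ⟨n, hn⟩ := IsPGroup.iff_card.mp hp
  rw [hn] at hdvd ⊢
  by_contra hlt
  push Not at hlt
  have h2n : 2 ≤ n := by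
    by_contra hn2
    push Not at hn2
    interval_cases n <;> omega
  have : 2 ^ 2 ∣ 6 := (pow_dvd_pow 2 h2n).trans hdvd
  omega

theorem index_central_aut (P W : Subgroup S) (hP : IsPGroup 2 ↥P) (hW : Nat.card ↥W = 8)
    (hna : ¬ IsMulCommutative ↥W) (hPW : P ≤ normalizer (W : Set S)) :
    ∃ K : Subgroup S, K ≤ P ∧ K.relIndex P ≤ 2 ∧ P ≤ normalizer (K : Set S) ∧
      (∀ y : S, y ∈ K ↔ y ∈ P ∧ ∀ w ∈ W, ⁅w, y⁆ ∈ zen W) := by
  classical
  -- the action on the three nonidentity elements of the central quotient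
  let φ : ↥P →* MulAut (↥W ⧸ center ↥W) :=
    quotAut.comp (W.normalizerMonoidHom.comp (Subgroup.inclusion hPW))
  let θ : ↥P →* Equiv.Perm {q : ↥W ⧸ center ↥W // q ≠ 1} := nonOnePerm.comp φ
  have hφ : ∀ (y : ↥P) (w : ↥W), φ y (w : ↥W ⧸ center ↥W)
      = ((⟨(y : S) * w * (y : S)⁻¹, (mem_normalizer_iff.mp (hPW y.2) w).mp w.2⟩ : ↥W) :
          ↥W ⧸ center ↥W) := by
    intro y w
    change quotAut _ (w : ↥W ⧸ center ↥W) = _
    rw [quotAut_mk]
    rfl
  -- cardinalities
  obtain ⟨a, ha, b, hb, hab, -, -, -⟩ := ord8_data W hW hna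
  have hab' : (⟨a, ha⟩ : ↥W) * ⟨b, hb⟩ ≠ ⟨b, hb⟩ * ⟨a, ha⟩ := fun h => hab (congrArg Subtype.val h)
  have hc2 : Nat.card ↥(center ↥W) = 2 := card_center_eq_two hW _ _ hab'
  have hQ : Nat.card (↥W ⧸ center ↥W) = 4 := by
    have := Subgroup.card_eq_card_quotient_mul_card_subgroup (center ↥W)
    rw [hW, hc2] at this
    omega
  have hX : Nat.card {q : ↥W ⧸ center ↥W // q ≠ 1} = 3 := by
    have h1 := Nat.card_congr (Equiv.optionSubtypeNe (1 : ↥W ⧸ center ↥W))
    rw [Finite.card_option, hQ] at h1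
    omega
  have hrange : Nat.card ↥θ.range ≤ 2 := card_range_le_two hP hX θ
  -- membership in the kernel
  have hker : ∀ y : ↥P, y ∈ θ.ker ↔ ∀ w ∈ W, ⁅w, (y : S)⁆ ∈ zen W := by
    intro y
    rw [MonoidHom.mem_ker]
    change nonOnePerm (φ y) = 1 ↔ _
    rw [nonOnePerm_eq_one_iff]
    constructor
    · intro h w hw
      have h1 := h ((⟨w⁻¹, inv_mem hw⟩ : ↥W) : ↥W ⧸ center ↥W)
      rw [hφ, QuotientGroup.eq] at h1
      rw [mem_zen_iff]
      have hmem : ⁅w, (y : S)⁆ ∈ W := by
        rw [commutatorElement_def]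
        have := (mem_normalizer_iff.mp (hPW y.2) w⁻¹).mp (inv_mem hw)
        have h3 := mul_mem hw this
        simpa [mul_assoc] using h3
      refine ⟨hmem, ?_⟩
      have hinv := inv_mem h1
      convert hinv using 1
      ext
      simp [commutatorElement_def, mul_assoc]
    · intro h q
      induction q using QuotientGroup.induction_on with
      | H w =>
        rw [hφ, QuotientGroup.eq]
        have h1 := h (w : S)⁻¹ (inv_mem w.2)
        rw [mem_zen_iff] at h1
        obtain ⟨hm, hcen⟩ := h1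
        have hinv := inv_mem hcen
        convert hinv using 1
        ext
        simp [commutatorElement_def, mul_assoc]
  refine ⟨θ.ker.map P.subtype, Subgroup.map_subtype_le _, ?_, ?_, ?_⟩
  · have : (θ.ker.map P.subtype).relIndex P = θ.ker.index := by
      rw [relIndex, subgroupOf, comap_map_eq_self_of_injective P.subtype_injective]
    rw [this, index_ker]
    exact hrange
  · have h1 := le_normalizer_map (H := θ.ker) P.subtype
    rw [normalizer_eq_top, ← MonoidHom.range_eq_map, range_subtype] at h1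
    exact h1
  · intro y
    constructor
    · rintro ⟨y', hy', rfl⟩
      exact ⟨y'.2, (hker y').mp hy'⟩
    · rintro ⟨hyP, hy⟩
      exact ⟨⟨y, hyP⟩, (hker ⟨y, hyP⟩).mpr hy, rfl⟩

end Cfsg.Agent.Lib.Helper43_Slim_ORD8B
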