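import Mathlib
import Cfsg.Agent.Lib.Helper49_SlimDefs
import Cfsg.Agent.Lib.Helper54_TwoGroups

set_option autoImplicit false
set_option linter.unusedSectionVars false

/-!
# S4409 package SLIMAB (helper43 for helper49): a slim abelian 2-group is cyclic or has order at most 4.
-/

namespace Cfsg.Agent.Lib.Helper43_Slim_SLIMAB

open Subgroup Cfsg.Agent.Lib.Helper49_SlimDefs
open scoped commutatorElement

/-- a cyclic group has at most one involution -/
theorem involution_unique_of_cyclic {N : Type*} [Group N] [Finite N] [IsCyclic N] (a b : N)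
    (ha : a ^ 2 = 1) (hb : b ^ 2 = 1) (ha1 : a ≠ 1) (hb1 : b ≠ 1) : a = b := by
  classical
  have := Fintype.ofFinite N
  by_contra hab
  have h := IsCyclic.card_pow_eq_one_le (α := N) (n := 2) (by norm_num)
  have hsub : ({1, a, b} : Finset N) ⊆ Finset.univ.filter (fun x : N => x ^ 2 = 1) := by
    intro x hx
    simp only [Finset.mem_insert, Finset.mem_singleton] at hx
    simp only [Finset.mem_filter, Finset.mem_univ, true_and]
    rcases hx with rfl | rfl | rfl
    · exact one_pow 2
    · exact ha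
    · exact hb
  have hcard : ({1, a, b} : Finset N).card = 3 := by
    rw [Finset.card_insert_of_notMem, Finset.card_insert_of_notMem, Finset.card_singleton]
    · simpa using hab
    · simp only [Finset.mem_insert, Finset.mem_singleton, not_or]
      exact ⟨fun h => ha1 h.symm, fun h => hb1 h.symm⟩
  have := Finset.card_le_card hsub
  omega

/-- a noncyclic finite commutative 2-group of order at least 8 has a noncyclic subgroup of order 8 -/
theorem exists_card_eight {N : Type*} [CommGroup N] [Finite N] (hN : IsPGroup 2 N)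
    (hnc : ¬ IsCyclic N) (h8 : 8 ≤ Nat.card N) :
    ∃ B : Subgroup N, Nat.card B = 8 ∧ ¬ IsCyclic B := by
  classical
  have hp : Fact (Nat.Prime 2) := ⟨Nat.prime_two⟩
  -- two distinct involutions
  have hex : ∃ a b : N, a ^ 2 = 1 ∧ b ^ 2 = 1 ∧ a ≠ 1 ∧ b ≠ 1 ∧ a ≠ b := by
    by_contra hcon
    push Not at hcon
    apply hnc
    apply Cfsg.Agent.Lib.Helper54_TwoGroups.isCyclic_of_unique_involution hN
    intro a b ha hb ha1 hb1
    exact hcon a b ha hb ha1 hb1
  obtain ⟨a, b, ha, hb, ha1, hb1, hab⟩ := hex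
  have hoa : orderOf a = 2 := orderOf_eq_prime ha ha1
  have hob : orderOf b = 2 := orderOf_eq_prime hb hb1
  set K : Subgroup N := zpowers a ⊔ zpowers b with hK
  -- `|K| ≤ 4`
  have hK4 : Nat.card K ≤ 4 := by
    let f : zpowers a × zpowers b → K := fun p =>
      ⟨(p.1 : N) * (p.2 : N), Subgroup.mul_mem _ ((le_sup_left : zpowers a ≤ K) p.1.2)
        ((le_sup_right : zpowers b ≤ K) p.2.2)⟩
    have hf : Function.Surjective f := by
      rintro ⟨x, hx⟩
      obtain ⟨y, hy, z, hz, rfl⟩ := Subgroup.mem_sup.1 hx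
      exact ⟨(⟨y, hy⟩, ⟨z, hz⟩), rfl⟩
    have h1 := Nat.card_le_card_of_surjective f hf
    rw [Nat.card_prod, Nat.card_zpowers, Nat.card_zpowers, hoa, hob] at h1
    exact h1
  obtain ⟨n, hn⟩ := (hN.to_subgroup K).exists_card_eq
  have hn2 : n ≤ 3 := by
    by_contra hlt
    push Not at hlt
    have : 2 ^ 4 ≤ 2 ^ n := Nat.pow_le_pow_right (by norm_num) hlt
    omega
  obtain ⟨k, hk⟩ := hN.exists_card_eq
  have h8dvd : 2 ^ 3 ∣ Nat.card N := by
    rw [hk]
    apply pow_dvd_pow
    by_contra hlt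
    push Not at hlt
    have : 2 ^ k ≤ 2 ^ 2 := Nat.pow_le_pow_right (by norm_num) (by omega)
    omega
  obtain ⟨B, hB, hKB⟩ := Sylow.exists_subgroup_card_pow_prime_le 2 h8dvd K hn hn2
  refine ⟨B, by rw [hB]; norm_num, ?_⟩
  intro hcyc
  have haB : a ∈ B := hKB ((le_sup_left : zpowers a ≤ K) (mem_zpowers a))
  have hbB : b ∈ B := hKB ((le_sup_right : zpowers b ≤ K) (mem_zpowers b))
  have := involution_unique_of_cyclic (N := B) ⟨a, haB⟩ ⟨b, hbB⟩ (Subtype.ext ha) (Subtype.ext hb)
    (fun h => ha1 (congrArg Subtype.val h)) (fun h => hb1 (congrArg Subtype.val h))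
  exact hab (congrArg Subtype.val this)

variable {S : Type*} [Group S] [Finite S]

theorem slim_mono {Y T : Subgroup S} (hTY : T ≤ Y) (hs : Slim Y) : Slim T :=
  fun A hA hc h8 => hs A (hA.trans hTY) hc h8

theorem slim_abelian (Y : Subgroup S) (h2 : IsPGroup 2 ↥Y) (hs : Slim Y)
    (hab : IsMulCommutative ↥Y) : IsCyclic ↥Y ∨ Nat.card ↥Y ≤ 4 := by
  by_contra hcon
  push Not at hcon
  obtain ⟨hnc, h4⟩ := hcon
  let _ : CommGroup ↥Y := { (inferInstance : Group ↥Y) with mul_comm := hab.is_comm.comm }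
  obtain ⟨k, hk⟩ := h2.exists_card_eq
  have h8 : 8 ≤ Nat.card ↥Y := by
    rw [hk] at h4 ⊢
    by_contra hlt
    push Not at hlt
    have hk3 : k < 3 := by
      by_contra h3
      push Not at h3
      have : 2 ^ 3 ≤ 2 ^ k := Nat.pow_le_pow_right (by norm_num) h3
      omega
    have : 2 ^ k ≤ 2 ^ 2 := Nat.pow_le_pow_right (by norm_num) (by omega)
    omega
  obtain ⟨B, hB8, hBnc⟩ := exists_card_eight h2 hnc h8
  apply hBnc
  -- transport to `S`
  have e : ↥B ≃* ↥(B.map Y.subtype) := Subgroup.equivMapOfInjective B Y.subtype Y.subtype_injective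
  have hcomm : IsMulCommutative ↥(B.map Y.subtype) := by
    refine ⟨⟨fun x y => ?_⟩⟩
    have := mul_comm (e.symm x) (e.symm y)
    have h1 := congrArg e this
    rwa [map_mul, map_mul, e.apply_symm_apply, e.apply_symm_apply] at h1
  have hcyc := hs (B.map Y.subtype) (Subgroup.map_subtype_le B) hcomm
    (by rw [← Nat.card_congr e.toEquiv]; exact hB8)
  exact e.symm.isCyclic.mp hcyc

theorem not_slim_of_abelian (Y B : Subgroup S) (hBY : B ≤ Y) (h2 : IsPGroup 2 ↥B)
    (hab : IsMulCommutative ↥B) (hnc : ¬ IsCyclic ↥B) (h8 : 8 ≤ Nat.card ↥B) : ¬ Slim Y := by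
  intro hs
  rcases slim_abelian B h2 (slim_mono hBY hs) hab with h | h
  · exact hnc h
  · omega

end Cfsg.Agent.Lib.Helper43_Slim_SLIMAB
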