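import Mathlib
import Cfsg.Agent.Lib.Helper49_SlimDefs

/-!
# S4409 package CYC (architect helper49): an odd-order group normalizing a cyclic `2`-group centralizes it.
-/

set_option autoImplicit false

namespace Cfsg.Agent.Lib.Helper47_Slim_CYC

open Subgroup Cfsg.Agent.Lib.Helper49_SlimDefs
open scoped commutatorElement

variable {S : Type*} [Group S] [Finite S]

/-- PACKAGE CYC.  An odd-order subgroup `H` normalizing a cyclic `2`-subgroup `C` centralizes it
(`Aut C` is a `2`-group). -/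
theorem centralizes_cyclic (H C : Subgroup S) (hodd : (Nat.card ↥H).Coprime 2) (h2 : IsPGroup 2 ↥C)
    (hc : IsCyclic ↥C) (hinv : H ≤ normalizer (C : Set S)) : H ≤ centralizer (C : Set S) := by
  classical
  let φ : ↥H →* MulAut ↥C := (C.normalizerMonoidHom).comp (inclusion hinv)
  have hcard2 : ∃ m, Nat.card (MulAut ↥C) = 2 ^ m := by
    obtain ⟨k, hk⟩ := h2.exists_card_eq
    rcases Nat.eq_zero_or_pos k with h0 | h0
    · exact ⟨0, by rw [IsCyclic.card_mulAut, hk, h0, pow_zero, Nat.totient_one]⟩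
    · refine ⟨k - 1, ?_⟩
      rw [IsCyclic.card_mulAut, hk, Nat.totient_prime_pow Nat.prime_two h0]; simp
  obtain ⟨m, hm⟩ := hcard2
  have hrange : φ.range = ⊥ := by
    have h1 : Nat.card φ.range ∣ Nat.card ↥H := Subgroup.card_range_dvd φ
    have h2' : Nat.card φ.range ∣ 2 ^ m := hm ▸ Subgroup.card_subgroup_dvd_card _
    have h3 : Nat.card φ.range = 1 := Nat.eq_one_of_dvd_coprimes (hodd.pow_right m) h1 h2'
    exact Subgroup.card_eq_one.mp h3
  intro h hh
  rw [mem_centralizer_iff]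
  intro c hcC
  have h4 : φ ⟨h, hh⟩ = 1 := by
    have h5 : φ ⟨h, hh⟩ ∈ φ.range := ⟨_, rfl⟩
    rw [hrange] at h5
    exact Subgroup.mem_bot.mp h5
  have h6 : (φ ⟨h, hh⟩ ⟨c, hcC⟩ : S) = c := by rw [h4]; rfl
  have h7 : h * c * h⁻¹ = c := h6
  calc c * h = (h * c * h⁻¹) * h := by rw [h7]
    _ = h * c := by group

end Cfsg.Agent.Lib.Helper47_Slim_CYC
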