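import Mathlib
import Cfsg.Agent.Lib.Helper49_SlimDefs
import Cfsg.Agent.Lib.Helper24_CoprimeAction
import Cfsg.Agent.Lib.Helper48_Coprime
import Cfsg.Agent.Lib.Helper47_Slim_CYC

/-!
# S4409 package IRR4 (architect helper49): groups of order `4` with operators.
-/

set_option autoImplicit false

namespace Cfsg.Agent.Lib.Helper47_Slim_IRR4

open Subgroup Cfsg.Agent.Lib.Helper49_SlimDefs
open scoped commutatorElement

variable {S : Type*} [Group S] [Finite S]

/-- Two nonidentity elements of a subgroup of order `2` are equal. -/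
theorem eq_of_card_two {T : Subgroup S} (hT : Nat.card ↥T = 2) {x y : S} (hx : x ∈ T) (hy : y ∈ T)
    (hx1 : x ≠ 1) (hy1 : y ≠ 1) : x = y := by
  obtain ⟨z, -, hz⟩ := (Nat.card_eq_two_iff' (1 : ↥T)).mp hT
  have h1 := hz ⟨x, hx⟩ (fun h => hx1 (congrArg Subtype.val h))
  have h2 := hz ⟨y, hy⟩ (fun h => hy1 (congrArg Subtype.val h))
  exact congrArg Subtype.val (h1.trans h2.symm)

/-- A subgroup of a group of order `4` has order `1`, `2` or `4`. -/
theorem card_sub_four {U V : Subgroup S} (hV : Nat.card ↥V = 4) (hUV : U ≤ V) :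
    Nat.card ↥U = 1 ∨ Nat.card ↥U = 2 ∨ Nat.card ↥U = 4 := by
  have h1 : Nat.card ↥U ∣ 4 := hV ▸ Subgroup.card_dvd_of_le hUV
  have h2 : Nat.card ↥U ≤ 4 := Nat.le_of_dvd (by norm_num) h1
  have h3 : 0 < Nat.card ↥U := Nat.card_pos
  interval_cases h : Nat.card ↥U <;> simp_all

/-- In a group of order `4`, the product of two elements outside a subgroup of order `2` lies in it. -/
theorem mul_mem_of_index_two {F V : Subgroup S} (hV : Nat.card ↥V = 4) (hF : Nat.card ↥F = 2)
    (hFV : F ≤ V) {a b : S} (ha : a ∈ V) (hb : b ∈ V) (haF : a ∉ F) (hbF : b ∉ F) :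
    a * b ∈ F := by
  have hidx : (F.subgroupOf V).index = 2 := by
    have h1 := (F.subgroupOf V).card_mul_index
    rw [Helper24_CoprimeAction.card_subgroupOf_of_le hFV, hF, hV] at h1
    omega
  have h2 := (Subgroup.mul_mem_iff_of_index_two hidx (a := ⟨a, ha⟩) (b := ⟨b, hb⟩))
  simp only [mem_subgroupOf] at h2
  exact h2.mpr (iff_of_false haF hbF)

/-- A subgroup of `V` (of order `4`) properly containing a subgroup of order `2` is `V`. -/
theorem eq_of_lt_le {F U V : Subgroup S} (hV : Nat.card ↥V = 4) (hF : Nat.card ↥F = 2)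
    (hFU : F ≤ U) (hUV : U ≤ V) {a : S} (haU : a ∈ U) (haF : a ∉ F) : U = V := by
  rcases card_sub_four hV hUV with h | h | h
  · have := Subgroup.card_le_of_le hFU; omega
  · have h1 : F = U := Subgroup.eq_of_le_of_card_ge hFU (by omega)
    exact absurd (h1 ▸ haU) haF
  · exact Subgroup.eq_of_le_of_card_ge hUV (by omega)

/-- An odd-order group normalizing a group `V` of order `4` and a subgroup `T` of order `2` of `V`
centralizes `V`. -/
theorem centralizes_of_inv_two (H V T : Subgroup S) (hodd : (Nat.card ↥H).Coprime 2)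
    (hV : Nat.card ↥V = 4) (hinv : H ≤ normalizer (V : Set S)) (hTV : T ≤ V)
    (hT : Nat.card ↥T = 2) (hTinv : H ≤ normalizer (T : Set S)) :
    H ≤ centralizer (V : Set S) := by
  have : Fact (Nat.Prime 2) := ⟨Nat.prime_two⟩
  intro h hh
  rw [mem_centralizer_iff]
  intro r hr
  have hordh : (orderOf h).Coprime 2 := by
    have h1 : orderOf h ∣ Nat.card ↥H := by
      rw [← Subgroup.orderOf_mk h hh]; exact orderOf_dvd_natCard _
    exact Nat.Coprime.coprime_dvd_left h1 hodd
  have hTc : ∀ c ∈ T, Commute h c := by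
    intro c hc
    by_cases hc1 : c = 1
    · rw [hc1]; exact Commute.one_right h
    · have h1 : h * c * h⁻¹ ∈ T := (mem_normalizer_iff.mp (hTinv hh) c).mp hc
      have h2 : h * c * h⁻¹ ≠ 1 := by
        intro h3; apply hc1
        calc c = h⁻¹ * (h * c * h⁻¹) * h := by group
          _ = 1 := by rw [h3]; group
      have h3 := eq_of_card_two hT h1 hc h2 hc1
      show h * c = c * h
      calc h * c = (h * c * h⁻¹) * h := by group
        _ = c * h := by rw [h3]
  have hT2 : IsPGroup 2 ↥T := IsPGroup.of_card (n := 1) (by rw [hT]; rfl)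
  have hcomm : ∀ r ∈ V, ⁅r, h⁆ ∈ T := by
    intro r hr
    have e : ⁅r, h⁆ = r * (h * r * h⁻¹)⁻¹ := by rw [commutatorElement_def]; group
    rw [e]
    by_cases hrT : r ∈ T
    · have h1 := (hTc r hrT).eq
      have e2 : h * r * h⁻¹ = r := by rw [h1]; group
      rw [e2, mul_inv_cancel]; exact T.one_mem
    · have h1 : h * r * h⁻¹ ∈ V := (mem_normalizer_iff.mp (hinv hh) r).mp hr
      have h2 : h * r * h⁻¹ ∉ T := fun h3 => hrT ((mem_normalizer_iff.mp (hTinv hh) r).mpr h3)
      exact mul_mem_of_index_two hV hT hTV hr (V.inv_mem h1) hrT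
        (fun h3 => h2 (by simpa using T.inv_mem h3))
  have h9 := Helper48_Coprime.commute_of_coprime_of_commutator_mem V T h hordh hcomm hTc
     (fun c hc => Helper48_Coprime.orderOf_eq_pow_of_mem hT2 hc) r hr
  exact h9.eq.symm

/-- PACKAGE IRR4, first part. -/
theorem irr4 (H V : Subgroup S) (hodd : (Nat.card ↥H).Coprime 2) (hV : Nat.card ↥V = 4)
    (hinv : H ≤ normalizer (V : Set S)) (hnc : ¬ H ≤ centralizer (V : Set S)) :
    ¬ IsCyclic ↥V ∧ IsMulCommutative ↥V ∧ (∀ v ∈ V, v ^ 2 = 1) ∧ ⁅V, H⁆ = V ∧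
      V ⊓ centralizer (H : Set S) = ⊥ ∧
      ∀ T : Subgroup S, T < V → H ≤ normalizer (T : Set S) → T = ⊥ := by
  have : Fact (Nat.Prime 2) := ⟨Nat.prime_two⟩
  have hV2 : IsPGroup 2 ↥V := IsPGroup.of_card (n := 2) (by rw [hV]; rfl)
  have hncyc : ¬ IsCyclic ↥V := fun hc =>
    hnc (Helper47_Slim_CYC.centralizes_cyclic H V hodd hV2 hc hinv)
  have hab : IsMulCommutative ↥V :=
    IsPGroup.isMulCommutative_of_card_eq_prime_sq (p := 2) (by rw [hV]; rfl)
  have hexp : ∀ v ∈ V, v ^ 2 = 1 := by
    intro v hv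
    have h1 : orderOf (⟨v, hv⟩ : ↥V) ∣ 4 := hV ▸ orderOf_dvd_natCard _
    have h2 : orderOf (⟨v, hv⟩ : ↥V) ≠ 4 := fun h =>
      hncyc (isCyclic_of_orderOf_eq_card _ (by rw [h, hV]))
    have h3 : orderOf (⟨v, hv⟩ : ↥V) ∣ 2 := by
      have h5 : orderOf (⟨v, hv⟩ : ↥V) ≤ 4 := Nat.le_of_dvd (by norm_num) h1
      have h6 : 0 < orderOf (⟨v, hv⟩ : ↥V) := orderOf_pos _
      generalize orderOf (⟨v, hv⟩ : ↥V) = n at h1 h2 h5 h6
      interval_cases n <;> simp_all
    have h4 : (⟨v, hv⟩ : ↥V) ^ 2 = 1 := orderOf_dvd_iff_pow_eq_one.mp h3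
    exact congrArg Subtype.val h4
  have hirr : ∀ T : Subgroup S, T < V → H ≤ normalizer (T : Set S) → T = ⊥ := by
    intro T hTV hTinv
    by_contra hTb
    rcases card_sub_four hV hTV.le with h | h | h
    · exact hTb (Subgroup.card_eq_one.mp h)
    · exact hnc (centralizes_of_inv_two H V T hodd hV hinv hTV.le h hTinv)
    · exact hTV.ne (Subgroup.eq_of_le_of_card_ge hTV.le (by omega))
  refine ⟨hncyc, hab, hexp, ?_, ?_, hirr⟩
  · have hle : ⁅V, H⁆ ≤ V := Helper24_CoprimeAction.commutator_le_of_le_normalizer V H hinv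
    by_contra hne
    have hlt : ⁅V, H⁆ < V := lt_of_le_of_ne hle hne
    have hHn : H ≤ normalizer ((⁅V, H⁆ : Subgroup S) : Set S) :=
      Helper48_Coprime.le_normalizer_commutator hinv le_normalizer
    have hb := hirr _ hlt hHn
    apply hnc
    rw [Subgroup.commutator_eq_bot_iff_le_centralizer] at hb
    exact le_centralizer_iff.mp hb
  · apply hirr
    · refine lt_of_le_of_ne inf_le_left ?_
      intro he
      apply hnc
      have h1 : V ≤ centralizer (H : Set S) := by rw [← he]; exact inf_le_right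
      exact le_centralizer_iff.mp h1
    · intro h hh
      rw [mem_normalizer_iff]
      intro x
      constructor
      · intro hx
        have h1 := mem_centralizer_iff.mp hx.2 h hh
        have h2 : h * x * h⁻¹ = x := by rw [h1]; group
        rw [h2]; exact hx
      · intro hx
        have h1 := mem_centralizer_iff.mp hx.2 h hh
        have h2 : x = h * x * h⁻¹ := by
          calc x = h⁻¹ * ((h * x * h⁻¹) * h) := by group
            _ = h⁻¹ * (h * (h * x * h⁻¹)) := by rw [h1]
            _ = h * x * h⁻¹ := by group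
        rw [h2]; exact hx

/-- The conjugation action of `P ≤ N(V)` on `V`. -/
@[reducible] def conjMulAction (P V : Subgroup S) (hPV : P ≤ normalizer (V : Set S)) :
    MulAction ↥P ↥V where
  smul x v := ⟨x * v * (x : S)⁻¹, (mem_normalizer_iff.mp (hPV x.2) v).mp v.2⟩
  one_smul v := by
    apply Subtype.ext
    show ((1 : ↥P) : S) * v * ((1 : ↥P) : S)⁻¹ = v
    simp
  mul_smul x y v := by
    apply Subtype.ext
    show ((x * y : ↥P) : S) * v * ((x * y : ↥P) : S)⁻¹ = x * (y * v * (y : S)⁻¹) * (x : S)⁻¹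
    rw [Subgroup.coe_mul]; group

/-- PACKAGE IRR4, second part. -/
theorem index_centralizer_four (P V : Subgroup S) (hP : IsPGroup 2 ↥P) (hV : Nat.card ↥V = 4)
    (hPV : P ≤ normalizer (V : Set S)) : (P ⊓ centralizer (V : Set S)).relIndex P ≤ 2 := by
  classical
  have : Fact (Nat.Prime 2) := ⟨Nat.prime_two⟩
  let act : MulAction ↥P ↥V := conjMulAction P V hPV
  have hsmul : ∀ (x : ↥P) (v : ↥V), ((x • v : ↥V) : S) = x * v * (x : S)⁻¹ := fun _ _ => rfl
  obtain ⟨b, hbfix, hb1⟩ := hP.exists_fixed_point_of_prime_dvd_card_of_fixed_point ↥V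
    (by rw [hV]; norm_num) (a := (1 : ↥V)) (by
      intro x; apply Subtype.ext; rw [hsmul]; simp)
  obtain ⟨F, hF⟩ : ∃ F : Subgroup S, F = V ⊓ centralizer (P : Set S) := ⟨_, rfl⟩
  have hFV' : F ≤ V := hF ▸ inf_le_left
  have hFc : F ≤ centralizer (P : Set S) := hF ▸ inf_le_right
  have hbF : (b : S) ∈ F := by
    rw [hF]
    refine Subgroup.mem_inf.mpr ⟨b.2, ?_⟩
    rw [mem_centralizer_iff]; intro x hx
    have h1 := congrArg Subtype.val (hbfix ⟨x, hx⟩)
    rw [hsmul] at h1
    have h2 : x * (b : S) * x⁻¹ = b := h1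
    calc x * (b : S) = (x * (b : S) * x⁻¹) * x := by group
      _ = b * x := by rw [h2]
  have hFne : F ≠ ⊥ := by
    intro h
    rw [h, Subgroup.mem_bot] at hbF
    exact hb1 (Subtype.ext hbF.symm)
  rcases card_sub_four hV hFV' with h | h | h
  · exact absurd (Subgroup.card_eq_one.mp h) hFne
  · obtain ⟨a, haV, haF⟩ : ∃ a ∈ V, a ∉ F := by
      by_contra hcon; push Not at hcon
      have h1 : V ≤ F := hcon
      have := Subgroup.card_le_of_le h1; omega
    have hstab : MulAction.stabilizer ↥P (⟨a, haV⟩ : ↥V)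
        = (P ⊓ centralizer (V : Set S)).subgroupOf P := by
      ext x
      rw [MulAction.mem_stabilizer_iff, mem_subgroupOf]
      constructor
      · intro hx
        have hx' : (x : S) * a * (x : S)⁻¹ = a := congrArg Subtype.val hx
        refine ⟨x.2, ?_⟩
        have hU : V ⊓ centralizer ({(x : S)} : Set S) = V := by
          refine eq_of_lt_le hV h ?_ inf_le_left (a := a) ⟨haV, ?_⟩ haF
          · intro f hf
            refine Subgroup.mem_inf.mpr ⟨hFV' hf, ?_⟩
            rw [mem_centralizer_iff]; intro y hy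
            rw [Set.mem_singleton_iff] at hy; subst hy
            exact mem_centralizer_iff.mp (hFc hf) x x.2
          · show a ∈ centralizer ({(x : S)} : Set S)
            rw [mem_centralizer_iff]; intro y hy
            rw [Set.mem_singleton_iff] at hy; subst hy
            calc (x : S) * a = ((x : S) * a * (x : S)⁻¹) * x := by group
              _ = a * x := by rw [hx']
        show (x : S) ∈ centralizer (V : Set S)
        rw [mem_centralizer_iff]; intro v hv
        have h1 : v ∈ V ⊓ centralizer ({(x : S)} : Set S) := by rw [hU]; exact hv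
        exact (mem_centralizer_iff.mp (Subgroup.mem_inf.mp h1).2 x rfl).symm
      · rintro ⟨_, hx⟩
        apply Subtype.ext; rw [hsmul]
        have h1 := mem_centralizer_iff.mp hx a haV
        show (x : S) * a * (x : S)⁻¹ = a
        rw [← h1]; group
    rw [relIndex, ← hstab, MulAction.index_stabilizer]
    have hsub : MulAction.orbit ↥P (⟨a, haV⟩ : ↥V) ⊆ ((F.subgroupOf V : Set ↥V))ᶜ := by
      rintro _ ⟨x, rfl⟩ hmem
      apply haF
      have h1 : (x : S) * a * (x : S)⁻¹ ∈ F := hmem
      have h2 := mem_centralizer_iff.mp (hFc h1) x x.2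
      have h3 : a = (x : S) * a * (x : S)⁻¹ := by
        calc a = (x : S)⁻¹ * (((x : S) * a * (x : S)⁻¹) * x) := by group
          _ = (x : S)⁻¹ * ((x : S) * ((x : S) * a * (x : S)⁻¹)) := by rw [h2]
          _ = (x : S) * a * (x : S)⁻¹ := by group
      rw [h3]; exact h1
    calc (MulAction.orbit ↥P (⟨a, haV⟩ : ↥V)).ncard
        ≤ ((F.subgroupOf V : Set ↥V)ᶜ).ncard := Set.ncard_le_ncard hsub (Set.toFinite _)
      _ = 2 := by
        have h1 := Set.ncard_add_ncard_compl (F.subgroupOf V : Set ↥V)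
        have h2 : (F.subgroupOf V : Set ↥V).ncard = 2 := by
          rw [← h, ← Helper24_CoprimeAction.card_subgroupOf_of_le hFV']
          rfl
        rw [h2, hV] at h1
        omega
  · have hFV : F = V := Subgroup.eq_of_le_of_card_ge hFV' (by omega)
    have h1 : P ≤ centralizer (V : Set S) := by
      have h2 : V ≤ centralizer (P : Set S) := by rw [← hFV]; exact hFc
      exact le_centralizer_iff.mp h2
    rw [inf_eq_left.mpr h1, relIndex_self]; norm_num

end Cfsg.Agent.Lib.Helper47_Slim_IRR4
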