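import Mathlib
import Cfsg.Prelude.Def_Transfer
import Cfsg.Prelude.Def_Solvable
import Cfsg.Agent.Lib.Helper49_SlimDefs
import Cfsg.Agent.Lib.Helper24_CoprimeAction
import Cfsg.Agent.Lib.Helper48_Coprime

/-!
# S4409 package COP (architect helper49): coprime action facts for an odd-order group `H`
normalizing a `2`-group `Y`, inside one ambient group.
-/

set_option autoImplicit false
set_option linter.unusedSectionVars false
set_option linter.unusedVariables false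

namespace Cfsg.Agent.Lib.Helper86_Slim_COP

open Subgroup Cfsg.Agent.Lib.Helper49_SlimDefs
open scoped commutatorElement

variable {S : Type*} [Group S] [Finite S]

theorem coprime_card (H Y : Subgroup S) (hodd : (Nat.card ↥H).Coprime 2) (h2 : IsPGroup 2 ↥Y) :
    (Nat.card ↥H).Coprime (Nat.card ↥Y) := by
  obtain ⟨n, hn⟩ := IsPGroup.exists_card_eq h2
  rw [hn]
  exact Nat.Coprime.pow_right n hodd

theorem solvable_of_two (Y : Subgroup S) (h2 : IsPGroup 2 ↥Y) : Group.IsSolvable ↥Y := by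
  have : Fact (Nat.Prime 2) := ⟨Nat.prime_two⟩
  have := h2.isNilpotent
  infer_instance

theorem comm_le (H Y : Subgroup S) (hinv : H ≤ normalizer (Y : Set S)) : ⁅Y, H⁆ ≤ Y :=
  Cfsg.Agent.Lib.Helper24_CoprimeAction.commutator_le_of_le_normalizer Y H hinv

/-- conjugating `⁅Y, H⁆` by an element of `Y` -/
theorem conj_mem_comm (H Y : Subgroup S) (y : S) (hy : y ∈ Y) :
    ∀ n ∈ ⁅Y, H⁆, y * n * y⁻¹ ∈ ⁅Y, H⁆ := by
  have hle : ⁅Y, H⁆ ≤ (⁅Y, H⁆ : Subgroup S).comap (MulAut.conj y).toMonoidHom := by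
    rw [Subgroup.commutator_le]
    intro k hk h hh
    show y * ⁅k, h⁆ * y⁻¹ ∈ ⁅Y, H⁆
    have e : y * ⁅k, h⁆ * y⁻¹ = ⁅y * k, h⁆ * ⁅y, h⁆⁻¹ := by
      simp only [commutatorElement_def]; group
    rw [e]
    exact (⁅Y, H⁆ : Subgroup S).mul_mem
      (Subgroup.commutator_mem_commutator (Y.mul_mem hy hk) hh)
      ((⁅Y, H⁆ : Subgroup S).inv_mem (Subgroup.commutator_mem_commutator hy hh))
  intro n hn
  exact hle hn

theorem comm_inv (H Y : Subgroup S) (hinv : H ≤ normalizer (Y : Set S)) :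
    H ≤ normalizer ((⁅Y, H⁆ : Subgroup S) : Set S) ∧ Y ≤ normalizer ((⁅Y, H⁆ : Subgroup S) : Set S) := by
  constructor
  · exact Cfsg.Agent.Lib.Helper48_Coprime.le_normalizer_commutator hinv Subgroup.le_normalizer
  · intro y hy
    rw [Subgroup.mem_normalizer_iff]
    intro n
    constructor
    · exact conj_mem_comm H Y y hy n
    · intro h
      have := conj_mem_comm H Y y⁻¹ (Y.inv_mem hy) _ h
      have e : y⁻¹ * (y * n * y⁻¹) * y⁻¹⁻¹ = n := by group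
      rwa [e] at this

theorem decomp (H Y : Subgroup S) (hodd : (Nat.card ↥H).Coprime 2) (h2 : IsPGroup 2 ↥Y)
    (hinv : H ≤ normalizer (Y : Set S)) : ⁅Y, H⁆ ⊔ (Y ⊓ centralizer (H : Set S)) = Y := by
  apply le_antisymm
  · exact sup_le (comm_le H Y hinv) inf_le_left
  · intro y hy
    obtain ⟨d, hd, c, hc, rfl⟩ := Cfsg.Agent.Lib.Helper24_CoprimeAction.coprime_decomp H Y hinv
      (coprime_card H Y hodd h2) (Or.inr (solvable_of_two Y h2)) hy
    exact Subgroup.mul_mem_sup hd hc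

theorem comm_idem (H Y : Subgroup S) (hodd : (Nat.card ↥H).Coprime 2) (h2 : IsPGroup 2 ↥Y)
    (hinv : H ≤ normalizer (Y : Set S)) : ⁅⁅Y, H⁆, H⁆ = ⁅Y, H⁆ := by
  apply le_antisymm
  · exact comm_le H ⁅Y, H⁆ (comm_inv H Y hinv).1
  · rw [Subgroup.commutator_le]
    intro y hy h hh
    obtain ⟨d, hd, c, hc, rfl⟩ := Cfsg.Agent.Lib.Helper24_CoprimeAction.coprime_decomp H Y hinv
      (coprime_card H Y hodd h2) (Or.inr (solvable_of_two Y h2)) hy
    have hch : h * c = c * h := Subgroup.mem_centralizer_iff.mp hc.2 h hh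
    have e : ⁅d * c, h⁆ = ⁅d, h⁆ := by
      simp only [commutatorElement_def]
      have : d * c * h * (d * c)⁻¹ = d * h * d⁻¹ := by
        rw [_root_.mul_inv_rev, mul_assoc d c h, ← hch]; group
      rw [this]
    rw [e]
    exact Subgroup.commutator_mem_commutator hd hh

theorem comm_eq_bot_iff (H Y : Subgroup S) : ⁅Y, H⁆ = ⊥ ↔ H ≤ centralizer (Y : Set S) := by
  rw [Subgroup.commutator_comm, Subgroup.commutator_eq_bot_iff_le_centralizer]

theorem stable (H Y T : Subgroup S) (hodd : (Nat.card ↥H).Coprime 2) (h2 : IsPGroup 2 ↥Y)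
    (hinv : H ≤ normalizer (Y : Set S)) (hTc : H ≤ centralizer (T : Set S)) (hq : ⁅Y, H⁆ ≤ T) :
    H ≤ centralizer (Y : Set S) := by
  rw [← comm_eq_bot_iff, ← comm_idem H Y hodd h2 hinv, eq_bot_iff]
  calc ⁅⁅Y, H⁆, H⁆ ≤ ⁅T, H⁆ := Subgroup.commutator_mono hq le_rfl
    _ = ⊥ := (comm_eq_bot_iff H T).mpr hTc

theorem fixed_quot (H Y T : Subgroup S) (hodd : (Nat.card ↥H).Coprime 2) (h2 : IsPGroup 2 ↥Y)
    (hinv : H ≤ normalizer (Y : Set S)) (hTY : T ≤ Y) (hTn : Y ≤ normalizer (T : Set S))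
    (hTH : H ≤ normalizer (T : Set S)) (y : S) (hy : y ∈ Y) (hyT : ∀ h ∈ H, ⁅y, h⁆ ∈ T) :
    y ∈ T ⊔ (Y ⊓ centralizer (H : Set S)) := by
  have hT2 : IsPGroup 2 ↥T := h2.to_le hTY
  have hfix : ∀ a ∈ H, y⁻¹ * (a * y * a⁻¹) ∈ T := by
    intro a ha
    have h1 : (⁅y, a⁆)⁻¹ ∈ T := T.inv_mem (hyT a ha)
    have h3 : y⁻¹ * (⁅y, a⁆)⁻¹ * y⁻¹⁻¹ ∈ T :=
      (Subgroup.mem_normalizer_iff.mp (hTn (Y.inv_mem hy)) _).mp h1
    have e : y⁻¹ * (⁅y, a⁆)⁻¹ * y⁻¹⁻¹ = y⁻¹ * (a * y * a⁻¹) := by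
      simp only [commutatorElement_def]; group
    rwa [e] at h3
  obtain ⟨d, hd, hcomm⟩ := Cfsg.Agent.Lib.Helper24_CoprimeAction.exists_fixed_in_coset H T hTH
    (coprime_card H T hodd hT2) (Or.inr (solvable_of_two T hT2)) y hfix
  have hyd : y * d ∈ Y ⊓ centralizer (H : Set S) := by
    refine Subgroup.mem_inf.mpr ⟨Y.mul_mem hy (hTY hd), ?_⟩
    rw [Subgroup.mem_centralizer_iff]
    intro a ha
    exact hcomm a ha
  have e : y = (y * d) * d⁻¹ := by group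
  rw [e, sup_comm]
  exact Subgroup.mul_mem_sup hyd (T.inv_mem hd)

end Cfsg.Agent.Lib.Helper86_Slim_COP
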