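import Mathlib
import Cfsg.Agent.Lib.Helper14_GODihedral
import Cfsg.Agent.Lib.Helper12_FpfQ8

/-!
# S3157 package ORD8 (helper86, for architect helper76)

A noncommutative group of order 8 is `D₈` (with two noncommuting involutions) or `Q₈`
(with a quaternion pair).
-/

set_option autoImplicit false

open scoped commutatorElement

namespace Cfsg.Agent.Lib.Helper86_S3157_ORD8

open Cfsg.Agent.Lib.Helper12_FpfQuat

theorem order_eight_dichotomy {C : Type*} [Group C] (hC : Nat.card C = 8)
    (hna : ∃ a b : C, a * b ≠ b * a) :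
    (Nonempty (C ≃* DihedralGroup 4) ∧ ∃ a b : C, a ^ 2 = 1 ∧ b ^ 2 = 1 ∧ a * b ≠ b * a) ∨
    (Nonempty (C ≃* QuaternionGroup 2) ∧
      ∃ t s : C, t ^ 2 = s ^ 2 ∧ ⁅t, s⁆ = t ^ 2 ∧ t ^ 2 ≠ 1) := by
  classical
  obtain ⟨a₀, b₀, hab₀⟩ := hna
  have hfin : Finite C := Nat.finite_of_card_ne_zero (by rw [hC]; norm_num)
  -- no element of order 8
  have h8 : ∀ g : C, orderOf g ≠ 8 := by
    intro g hg
    have hcyc : IsCyclic C := isCyclic_of_orderOf_eq_card g (by rw [hg, hC])
    let _i := hcyc.commGroup
    exact hab₀ (mul_comm a₀ b₀)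
  -- an element of order 4
  have h4 : ∃ t : C, orderOf t = 4 := by
    by_contra hno
    push Not at hno
    have hsq : ∀ g : C, g * g = 1 := by
      intro g
      have hd : orderOf g ∣ 8 := hC ▸ orderOf_dvd_natCard g
      have hle : orderOf g ≤ 8 := Nat.le_of_dvd (by norm_num) hd
      have hpos : 0 < orderOf g := orderOf_pos g
      have h2 : orderOf g ∣ 2 := by
        have := hno g
        have := h8 g
        interval_cases h : orderOf g <;> simp_all
      rw [← pow_two]
      exact orderOf_dvd_iff_pow_eq_one.mp h2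
    have hinv : ∀ g : C, g⁻¹ = g := fun g => inv_eq_of_mul_eq_one_left (hsq g)
    apply hab₀
    calc a₀ * b₀ = (a₀ * b₀)⁻¹ := (hinv _).symm
      _ = b₀ * a₀ := by rw [mul_inv_rev, hinv, hinv]
  obtain ⟨t, ht4⟩ := h4
  have ht4' : t ^ 4 = 1 := by rw [← ht4]; exact pow_orderOf_eq_one t
  have ht2 : t ^ 2 ≠ 1 := by
    intro h
    have := orderOf_dvd_of_pow_eq_one h
    rw [ht4] at this
    norm_num at this
  set H : Subgroup C := Subgroup.zpowers t with hH
  have hHcard : Nat.card H = 4 := by rw [hH, Nat.card_zpowers, ht4]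
  have hidx : H.index = 2 := by
    have := H.index_mul_card
    rw [hHcard, hC] at this
    omega
  have hnorm : H.Normal := Subgroup.normal_of_index_eq_two hidx
  have hmem : ∀ g ∈ H, g = 1 ∨ g = t ∨ g = t ^ 2 ∨ g = t ^ 3 := by
    intro g hg
    obtain ⟨k, rfl⟩ := Subgroup.mem_zpowers_iff.mp hg
    rw [← zpow_mod_orderOf, ht4]
    have h0 : 0 ≤ k % ((4 : ℕ) : ℤ) := Int.emod_nonneg _ (by norm_num)
    have h1 : k % ((4 : ℕ) : ℤ) < 4 := Int.emod_lt_of_pos _ (by norm_num)
    generalize k % ((4 : ℕ) : ℤ) = r at *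
    interval_cases r
    · left; simp
    · right; left; simp
    · right; right; left; exact zpow_ofNat t 2
    · right; right; right; exact zpow_ofNat t 3
  have htH : t ∈ H := Subgroup.mem_zpowers t
  -- s outside H
  have hex : ∃ s : C, s ∉ H := by
    by_contra hno
    push Not at hno
    have : H = ⊤ := (Subgroup.eq_top_iff' H).mpr hno
    rw [this, Subgroup.index_top] at hidx
    norm_num at hidx
  obtain ⟨s, hs⟩ := hex
  have ht3 : t ^ 3 = t⁻¹ := by
    rw [eq_inv_iff_mul_eq_one, ← pow_succ]
    exact ht4'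
  -- every element is t^k or s t^k
  have hdecomp : ∀ g : C, g ∈ H ∨ s⁻¹ * g ∈ H := by
    intro g
    by_cases hg : g ∈ H
    · exact Or.inl hg
    · right
      rw [Subgroup.mul_mem_iff_of_index_two hidx, Subgroup.inv_mem_iff]
      exact ⟨fun h => absurd h hs, fun h => absurd h hg⟩
  have hHcomm : ∀ g ∈ H, g * t = t * g := by
    intro g hg
    obtain ⟨k, rfl⟩ := Subgroup.mem_zpowers_iff.mp hg
    exact ((Commute.refl t).zpow_left k).eq
  -- s t s⁻¹ = t⁻¹
  have hconj : s * t * s⁻¹ = t⁻¹ := by
    have hm : s * t * s⁻¹ ∈ H := hnorm.conj_mem t htH s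
    have ho : orderOf (s * t * s⁻¹) = 4 := by
      have : s * t * s⁻¹ = MulAut.conj s t := by simp [MulAut.conj_apply]
      rw [this, MulEquiv.orderOf_eq, ht4]
    rcases hmem _ hm with h | h | h | h
    · rw [h, orderOf_one] at ho; norm_num at ho
    · -- s commutes with t: C commutative
      exfalso
      have hst : s * t = t * s := by
        have := congrArg (· * s) h
        simpa using this
      have hcomm_t : ∀ g : C, g * t = t * g := by
        intro g
        rcases hdecomp g with hg | hg
        · exact hHcomm g hg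
        · have h1 := hHcomm _ hg
          have : g = s * (s⁻¹ * g) := by group
          rw [this, mul_assoc, h1, ← mul_assoc, hst, mul_assoc]
      have hHcomm_s : ∀ g ∈ H, g * s = s * g := by
        intro g hg
        obtain ⟨k, rfl⟩ := Subgroup.mem_zpowers_iff.mp hg
        exact ((show Commute t s from hst.symm).zpow_left k).eq
      have hcomm_s : ∀ g : C, g * s = s * g := by
        intro g
        rcases hdecomp g with hg | hg
        · exact hHcomm_s g hg
        · have h1 := hHcomm_s _ hg
          have : g = s * (s⁻¹ * g) := by group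
          rw [this, mul_assoc, h1]
      have hHcent : ∀ g ∈ H, ∀ x : C, x * g = g * x := by
        intro g hg x
        obtain ⟨k, rfl⟩ := Subgroup.mem_zpowers_iff.mp hg
        exact ((show Commute x t from hcomm_t x).zpow_right k).eq
      apply hab₀
      rcases hdecomp b₀ with hg | hg
      · exact hHcent b₀ hg a₀
      · have h1 := hHcent _ hg
        have : b₀ = s * (s⁻¹ * b₀) := by group
        rw [this, ← mul_assoc, hcomm_s a₀, mul_assoc, h1 a₀, ← mul_assoc, ← mul_assoc]
    · rw [h] at ho
      have : orderOf (t ^ 2) ∣ 2 := orderOf_dvd_of_pow_eq_one (by rw [← pow_mul]; exact ht4')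
      rw [ho] at this
      norm_num at this
    · rw [h, ht3]
  -- s² ∈ {1, t²}
  have hs2 : s ^ 2 = 1 ∨ s ^ 2 = t ^ 2 := by
    have hm : s ^ 2 ∈ H := Subgroup.sq_mem_of_index_two hidx s
    have hcs : s * s ^ 2 * s⁻¹ = s ^ 2 := by group
    have hbad : s ^ 2 = t ∨ s ^ 2 = t⁻¹ → False := by
      intro hh
      have hst : s * t * s⁻¹ = t := by
        rcases hh with hh | hh
        · rw [← hh]; exact hcs
        · have : t = (s ^ 2)⁻¹ := by rw [hh, inv_inv]
          rw [this]; group
      rw [hconj] at hst
      apply ht2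
      rw [pow_two]
      calc t * t = t * t⁻¹ := by rw [hst]
        _ = 1 := mul_inv_cancel t
    rcases hmem _ hm with h | h | h | h
    · exact Or.inl h
    · exact absurd (Or.inl h) hbad
    · exact Or.inr h
    · exact absurd (Or.inr (h.trans ht3)) hbad
  rcases hs2 with hs2 | hs2
  · -- dihedral
    left
    have hsinv : s⁻¹ = s := inv_eq_of_mul_eq_one_left (by rw [← pow_two]; exact hs2)
    have hsts : s * t * s = t⁻¹ := by
      have := hconj
      rw [hsinv] at this
      exact this
    have hb2 : (s * t) * (s * t) = 1 := by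
      rw [← mul_assoc, hsts, inv_mul_cancel]
    have hne : s * (s * t) ≠ (s * t) * s := by
      rw [hsts, ← mul_assoc, ← pow_two, hs2, one_mul]
      intro h
      apply ht2
      rw [pow_two]
      calc t * t = t * t⁻¹ := by rw [← h]
        _ = 1 := mul_inv_cancel t
    refine ⟨?_, s, s * t, hs2, by rw [pow_two]; exact hb2, hne⟩
    exact Cfsg.Agent.Lib.Helper14_GODihedral.nonempty_mulEquiv_dihedral_four hC s (s * t)
      (by rw [← pow_two]; exact hs2) hb2 hne
  · -- quaternion
    right
    have hq : QPair t s := ⟨ht4', ht2, hs2, hconj⟩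
    refine ⟨?_, t, s, hs2.symm, ?_, ht2⟩
    · have hinj := hq.lift_injective
      have hcard : Nat.card (QuaternionGroup 2) = Nat.card C := by
        rw [hC, Nat.card_eq_fintype_card, QuaternionGroup.card]
      have hbij : Function.Bijective hq.lift :=
        (Nat.bijective_iff_injective_and_card _).mpr ⟨hinj, hcard⟩
      exact ⟨(MulEquiv.ofBijective hq.lift hbij).symm⟩
    · rw [commutatorElement_def]
      have : s * t⁻¹ * s⁻¹ = t := by
        have := congrArg (·⁻¹) hconj
        simp only [mul_inv_rev, inv_inv] at this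
        rw [← mul_assoc] at this
        exact this
      rw [mul_assoc, mul_assoc, ← mul_assoc s, this, pow_two]

end Cfsg.Agent.Lib.Helper86_S3157_ORD8
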