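import Mathlib
import Cfsg.Prelude.Def_Transfer
import Cfsg.Prelude.Def_Solvable
import Cfsg.Agent.Lib.Helper49_SlimDefs
import Cfsg.Agent.Lib.Helper86_S3157_ORD8

/-!
# S4409 package ORD8A (architect helper49): a nonabelian group `W` of order `8` with `[W, H] = W`
is the quaternion group, and its proper `H`-invariant subgroups lie in the centre.
-/

set_option autoImplicit false
set_option linter.unusedSectionVars false
set_option linter.unusedVariables false

namespace Cfsg.Agent.Lib.Helper86_Slim_ORD8A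

open Subgroup Cfsg.Agent.Lib.Helper49_SlimDefs
open scoped commutatorElement

variable {S : Type*} [Group S] [Finite S]

/-- it suffices to check one inclusion for the normalizer -/
theorem le_normalizer_of_conj_mem (H T : Subgroup S)
    (h : ∀ a ∈ H, ∀ t ∈ T, a * t * a⁻¹ ∈ T) : H ≤ normalizer (T : Set S) := by
  intro a ha
  rw [Subgroup.mem_normalizer_iff]
  intro t
  constructor
  · exact h a ha t
  · intro ht
    have := h a⁻¹ (H.inv_mem ha) _ ht
    have e : a⁻¹ * (a * t * a⁻¹) * a⁻¹⁻¹ = t := by group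
    rwa [e] at this

theorem conj_mem_of_le_normalizer (H T : Subgroup S) (hn : H ≤ normalizer (T : Set S))
    {a t : S} (ha : a ∈ H) (ht : t ∈ T) : a * t * a⁻¹ ∈ T :=
  (Subgroup.mem_normalizer_iff.mp (hn ha) t).mp ht

theorem conj_mem_iff_of_le_normalizer (H T : Subgroup S) (hn : H ≤ normalizer (T : Set S))
    {a t : S} (ha : a ∈ H) : a * t * a⁻¹ ∈ T ↔ t ∈ T :=
  (Subgroup.mem_normalizer_iff.mp (hn ha) t).symm

/-- `H` normalizes the centre of `W`. -/
theorem zen_inv (H W : Subgroup S) (hinv : H ≤ normalizer (W : Set S)) :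
    H ≤ normalizer ((zen W : Subgroup S) : Set S) := by
  apply le_normalizer_of_conj_mem
  intro a ha t ht
  have ht' := Subgroup.mem_inf.mp ht
  refine Subgroup.mem_inf.mpr ⟨conj_mem_of_le_normalizer H W hinv ha ht'.1, ?_⟩
  rw [Subgroup.mem_centralizer_iff]
  intro w hw
  have hw' : a⁻¹ * w * a⁻¹⁻¹ ∈ W := conj_mem_of_le_normalizer H W hinv (H.inv_mem ha) hw
  have hc := Subgroup.mem_centralizer_iff.mp ht'.2 _ hw'
  -- hc : a⁻¹ * w * a⁻¹⁻¹ * t = t * (a⁻¹ * w * a⁻¹⁻¹)
  have e1 : w * (a * t * a⁻¹) = a * ((a⁻¹ * w * a⁻¹⁻¹) * t) * a⁻¹ := by group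
  have e2 : a * t * a⁻¹ * w = a * (t * (a⁻¹ * w * a⁻¹⁻¹)) * a⁻¹ := by group
  rw [e1, e2, hc]

/-- `H` normalizes `W ⊓ C(H)`. -/
theorem fix_inv (H W : Subgroup S) (hinv : H ≤ normalizer (W : Set S)) :
    H ≤ normalizer ((W ⊓ centralizer (H : Set S) : Subgroup S) : Set S) := by
  apply le_normalizer_of_conj_mem
  intro a ha t ht
  have ht' := Subgroup.mem_inf.mp ht
  have hc := Subgroup.mem_centralizer_iff.mp ht'.2 a ha
  have e : a * t * a⁻¹ = t := by rw [hc]; group
  rw [e]; exact ht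

/-- a subgroup of index `2` absorbs the commutator with any group normalizing both. -/
theorem comm_le_of_relIndex_two (H W T : Subgroup S) (hTW : T ≤ W) (hidx : T.relIndex W = 2)
    (hinvW : H ≤ normalizer (W : Set S)) (hinvT : H ≤ normalizer (T : Set S)) : ⁅W, H⁆ ≤ T := by
  rw [Subgroup.commutator_le]
  intro w hw a ha
  have hb : a * w⁻¹ * a⁻¹ ∈ W := conj_mem_of_le_normalizer H W hinvW ha (W.inv_mem hw)
  have hidx' : (T.subgroupOf W).index = 2 := hidx
  have key := Subgroup.mul_mem_iff_of_index_two hidx' (a := ⟨w, hw⟩) (b := ⟨a * w⁻¹ * a⁻¹, hb⟩)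
  have e : ⁅w, a⁆ = w * (a * w⁻¹ * a⁻¹) := by
    rw [commutatorElement_def]; group
  rw [e]
  have : (⟨w, hw⟩ * ⟨a * w⁻¹ * a⁻¹, hb⟩ : ↥W) ∈ T.subgroupOf W := by
    rw [key, Subgroup.mem_subgroupOf, Subgroup.mem_subgroupOf]
    show w ∈ T ↔ a * w⁻¹ * a⁻¹ ∈ T
    rw [conj_mem_iff_of_le_normalizer H T hinvT ha, Subgroup.inv_mem_iff]
  exact Subgroup.mem_subgroupOf.mp this

theorem card_center_eq_two {C : Type*} [Group C] (hC : Nat.card C = 8)
    (hna : ¬ IsMulCommutative C) : Nat.card (Subgroup.center C) = 2 := by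
  have hfin : Finite C := Nat.finite_of_card_ne_zero (by rw [hC]; norm_num)
  have : Fact (Nat.Prime 2) := ⟨Nat.prime_two⟩
  have hp : IsPGroup 2 C := IsPGroup.of_card (n := 3) (by rw [hC]; norm_num)
  have hnt : Nontrivial C := by
    rw [← Finite.one_lt_card_iff_nontrivial, hC]; norm_num
  have hcn : Nontrivial (Subgroup.center C) := hp.center_nontrivial
  have h1 : 1 < Nat.card (Subgroup.center C) := Finite.one_lt_card_iff_nontrivial.mpr hcn
  have hdvd : Nat.card (Subgroup.center C) ∣ 8 := hC ▸ Subgroup.card_subgroup_dvd_card _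
  have hidx := (Subgroup.center C).card_mul_index
  rw [hC] at hidx
  have hle : Nat.card (Subgroup.center C) ≤ 8 := Nat.le_of_dvd (by norm_num) hdvd
  interval_cases h : Nat.card (Subgroup.center C)
  · rfl
  · omega
  · exfalso
    have hi : (Subgroup.center C).index = 2 := by omega
    have hq : Nat.card (C ⧸ Subgroup.center C) = 2 := hi
    have hcyc : IsCyclic (C ⧸ Subgroup.center C) := isCyclic_of_prime_card hq
    exact hna (isMulCommutative_of_isCyclic_quotient_center_self C)
  · omega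
  · omega
  · omega
  · exfalso
    have htop : Subgroup.center C = ⊤ := (Subgroup.card_eq_iff_eq_top _).mp (by rw [h, hC])
    apply hna
    rw [isMulCommutative_iff]
    intro a b
    have hb : b ∈ Subgroup.center C := htop ▸ Subgroup.mem_top b
    exact Subgroup.mem_center_iff.mp hb a

theorem zen_eq_center_map (W : Subgroup S) : zen W = (Subgroup.center ↥W).map W.subtype := by
  ext x
  simp only [zen, Subgroup.mem_inf, Subgroup.mem_map, Subgroup.mem_center_iff,
    Subgroup.mem_centralizer_iff]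
  constructor
  · rintro ⟨hx, hc⟩
    refine ⟨⟨x, hx⟩, ?_, rfl⟩
    intro g
    ext
    exact hc g g.2
  · rintro ⟨y, hy, rfl⟩
    refine ⟨y.2, ?_⟩
    intro w hw
    have := hy ⟨w, hw⟩
    exact congrArg Subtype.val this

theorem card_zen (W : Subgroup S) (hW : Nat.card ↥W = 8) (hna : ¬ IsMulCommutative ↥W) :
    Nat.card ↥(zen W) = 2 := by
  rw [zen_eq_center_map, Subgroup.card_subtype]
  exact card_center_eq_two hW hna

/-- a normalized subgroup of order `2` is centralized. -/
theorem le_centralizer_of_card_two (H Z : Subgroup S) (hZ : Nat.card ↥Z = 2)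
    (hn : H ≤ normalizer (Z : Set S)) : H ≤ centralizer (Z : Set S) := by
  intro a ha
  rw [Subgroup.mem_centralizer_iff]
  intro x hx
  obtain ⟨y, hy1, hyu⟩ := (Nat.card_eq_two_iff' (1 : ↥Z)).mp hZ
  by_cases hx1 : x = 1
  · subst hx1; simp
  · have hc : a * x * a⁻¹ ∈ Z := conj_mem_of_le_normalizer H Z hn ha hx
    have hc1 : a * x * a⁻¹ ≠ 1 := by
      intro h
      apply hx1
      have : x = a⁻¹ * (a * x * a⁻¹) * a := by group
      rw [this, h]; group
    have e1 : (⟨x, hx⟩ : ↥Z) = y :=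
      hyu _ (by intro h; apply hx1; exact congrArg Subtype.val h)
    have e2 : (⟨a * x * a⁻¹, hc⟩ : ↥Z) = y :=
      hyu _ (by intro h; apply hc1; exact congrArg Subtype.val h)
    have e3 : a * x * a⁻¹ = x := congrArg Subtype.val (e2.trans e1.symm)
    calc x * a = (a * x * a⁻¹) * a := by rw [e3]
      _ = a * x := by group

theorem no_inv_index_two (H W T : Subgroup S) (hW : Nat.card ↥W = 8)
    (hinv : H ≤ normalizer (W : Set S)) (hfull : ⁅W, H⁆ = W) (hTW : T ≤ W)
    (hT4 : Nat.card ↥T = 4) (hTn : H ≤ normalizer (T : Set S)) : False := by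
  have hcard : Nat.card ↥(T.subgroupOf W) = 4 := by
    rw [Nat.card_congr (Subgroup.subgroupOfEquivOfLe hTW).toEquiv, hT4]
  have hidx : T.relIndex W = 2 := by
    have := (T.subgroupOf W).card_mul_index
    rw [hcard, hW] at this
    show (T.subgroupOf W).index = 2
    omega
  have hle : W ≤ T := by
    have := comm_le_of_relIndex_two H W T hTW hidx hinv hTn
    rwa [hfull] at this
  have := Subgroup.card_le_of_le hle
  omega

/-- proper `H`-invariant subgroups have order at most `2`. -/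
theorem card_le_two_of_inv (H W : Subgroup S) (hW : Nat.card ↥W = 8)
    (hinv : H ≤ normalizer (W : Set S)) (hfull : ⁅W, H⁆ = W)
    (K : Subgroup S) (hK : K < W) (hKn : H ≤ normalizer (K : Set S)) :
    Nat.card ↥K = 1 ∨ Nat.card ↥K = 2 := by
  have hdvd : Nat.card ↥K ∣ 8 := hW ▸ Subgroup.card_dvd_of_le hK.le
  have hle : Nat.card ↥K ≤ 8 := Nat.le_of_dvd (by norm_num) hdvd
  have hpos : 0 < Nat.card ↥K := Nat.card_pos
  have hne8 : Nat.card ↥K ≠ 8 := by
    intro h
    have : K = W := Subgroup.eq_of_le_of_card_ge hK.le (by rw [h, hW])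
    exact hK.ne this
  have hne4 : Nat.card ↥K ≠ 4 := fun h => no_inv_index_two H W K hW hinv hfull hK.le h hKn
  interval_cases h : Nat.card ↥K <;> omega

theorem fix_eq_zen (H W : Subgroup S) (hW : Nat.card ↥W = 8)
    (hna : ¬ IsMulCommutative ↥W) (hinv : H ≤ normalizer (W : Set S)) (hfull : ⁅W, H⁆ = W) :
    W ⊓ centralizer (H : Set S) = zen W := by
  have hZ2 := card_zen W hW hna
  have hHZ : H ≤ centralizer ((zen W : Subgroup S) : Set S) :=
    le_centralizer_of_card_two H (zen W) hZ2 (zen_inv H W hinv)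
  have hZK : zen W ≤ W ⊓ centralizer (H : Set S) :=
    le_inf inf_le_left (Subgroup.le_centralizer_iff.mp hHZ)
  have hKne : W ⊓ centralizer (H : Set S) ≠ W := by
    intro h
    have hWC : W ≤ centralizer (H : Set S) := by
      rw [← h]; exact inf_le_right
    have hbot : ⁅W, H⁆ = ⊥ := by
      rw [Subgroup.commutator_comm, Subgroup.commutator_eq_bot_iff_le_centralizer]
      exact Subgroup.le_centralizer_iff.mp hWC
    rw [hfull] at hbot
    rw [hbot] at hW
    simp at hW
  have hKlt : W ⊓ centralizer (H : Set S) < W := lt_of_le_of_ne inf_le_left hKne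
  have hK2 : Nat.card ↥(W ⊓ centralizer (H : Set S) : Subgroup S) ≤ 2 := by
    rcases card_le_two_of_inv H W hW hinv hfull _ hKlt (fix_inv H W hinv) with h | h <;> omega
  exact (Subgroup.eq_of_le_of_card_ge hZK (by rw [hZ2]; exact hK2)).symm

theorem sub_le_zen (H W : Subgroup S) (hW : Nat.card ↥W = 8)
    (hna : ¬ IsMulCommutative ↥W) (hinv : H ≤ normalizer (W : Set S)) (hfull : ⁅W, H⁆ = W)
    (T : Subgroup S) (hT : T < W) (hTn : H ≤ normalizer (T : Set S)) : T ≤ zen W := by
  rcases card_le_two_of_inv H W hW hinv hfull T hT hTn with h | h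
  · rw [Subgroup.eq_bot_of_card_eq T h]; exact bot_le
  · rw [← fix_eq_zen H W hW hna hinv hfull]
    exact le_inf hT.le (Subgroup.le_centralizer_iff.mp (le_centralizer_of_card_two H T h hTn))

theorem q8_sq_one : ∀ q : QuaternionGroup 2, q ^ 2 = 1 → q = 1 ∨ q = QuaternionGroup.a 2 := by
  decide

theorem q8_pow4 : ∀ q : QuaternionGroup 2, q ^ 4 = 1 := by decide

theorem d4_sq_ne : ∀ q : DihedralGroup 4, q ^ 2 ≠ 1 →
    q = DihedralGroup.r 1 ∨ q = (DihedralGroup.r 1) ^ 3 := by decide

theorem d4_r1_sq : (DihedralGroup.r 1 : DihedralGroup 4) ^ 2 ≠ 1 := by decide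

/-- the dihedral group of order `8` admits no such action. -/
theorem not_dihedral (H W : Subgroup S) (hW : Nat.card ↥W = 8)
    (hinv : H ≤ normalizer (W : Set S)) (hfull : ⁅W, H⁆ = W)
    (e : ↥W ≃* DihedralGroup 4) : False := by
  set v : ↥W := e.symm (DihedralGroup.r 1) with hv
  have hev : e v = DihedralGroup.r 1 := by simp [hv]
  have hT4 : Nat.card ↥(Subgroup.zpowers (v : S)) = 4 := by
    rw [Nat.card_zpowers, Subgroup.orderOf_coe, ← MulEquiv.orderOf_eq e, hev,
      DihedralGroup.orderOf_r_one]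
  have hTW : Subgroup.zpowers (v : S) ≤ W := (Subgroup.zpowers_le).mpr v.2
  have hTn : H ≤ normalizer ((Subgroup.zpowers (v : S) : Subgroup S) : Set S) := by
    apply le_normalizer_of_conj_mem
    intro a ha
    have hle : Subgroup.zpowers (v : S) ≤
        (Subgroup.zpowers (v : S)).comap (MulAut.conj a).toMonoidHom := by
      rw [Subgroup.zpowers_le]
      show a * (v : S) * a⁻¹ ∈ Subgroup.zpowers (v : S)
      have hu : a * (v : S) * a⁻¹ ∈ W := conj_mem_of_le_normalizer H W hinv ha v.2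
      have hu2 : e ⟨a * (v : S) * a⁻¹, hu⟩ ^ 2 ≠ 1 := by
        intro h
        rw [← map_pow, MulEquiv.map_eq_one_iff] at h
        have h' : (a * (v : S) * a⁻¹) ^ 2 = 1 := congrArg Subtype.val h
        have h'' : (v : S) ^ 2 = 1 := by
          have e1 : (a * (v : S) * a⁻¹) ^ 2 = a * (v : S) ^ 2 * a⁻¹ := by
            rw [pow_two, pow_two]; group
          rw [e1] at h'
          have : (v : S) ^ 2 = a⁻¹ * (a * (v : S) ^ 2 * a⁻¹) * a := by group
          rw [this, h']; group
        have h3 : v ^ 2 = 1 := Subtype.ext h''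
        apply d4_r1_sq
        rw [← hev, ← map_pow, h3, map_one]
      rcases d4_sq_ne _ hu2 with h | h
      · have : (⟨a * (v : S) * a⁻¹, hu⟩ : ↥W) = v := e.injective (h.trans hev.symm)
        have h' : a * (v : S) * a⁻¹ = (v : S) := congrArg Subtype.val this
        rw [h']; exact Subgroup.mem_zpowers _
      · have : (⟨a * (v : S) * a⁻¹, hu⟩ : ↥W) = v ^ 3 := by
          apply e.injective
          rw [h, map_pow, hev]
        have h' : a * (v : S) * a⁻¹ = (v : S) ^ 3 := congrArg Subtype.val this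
        rw [h']; exact Subgroup.pow_mem _ (Subgroup.mem_zpowers _) 3
    intro t ht
    exact hle ht
  exact no_inv_index_two H W _ hW hinv hfull hTW hT4 hTn

theorem ord8_struct (H W : Subgroup S) (hodd : (Nat.card ↥H).Coprime 2) (hW : Nat.card ↥W = 8)
    (hna : ¬ IsMulCommutative ↥W) (hinv : H ≤ normalizer (W : Set S)) (hfull : ⁅W, H⁆ = W) :
    Nat.card ↥(zen W) = 2 ∧ H ≤ centralizer ((zen W : Subgroup S) : Set S) ∧
      W ⊓ centralizer (H : Set S) = zen W ∧
      (∀ T : Subgroup S, T < W → H ≤ normalizer (T : Set S) → T ≤ zen W) ∧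
      (∀ w ∈ W, w ∉ zen W → orderOf w = 4) ∧
      Nonempty (↥W ≃* QuaternionGroup 2) := by
  have hZ2 := card_zen W hW hna
  have hna' : ∃ a b : ↥W, a * b ≠ b * a := by
    by_contra hno
    push Not at hno
    exact hna (isMulCommutative_iff.mpr hno)
  have hQ : Nonempty (↥W ≃* QuaternionGroup 2) := by
    rcases Cfsg.Agent.Lib.Helper86_S3157_ORD8.order_eight_dichotomy hW hna' with ⟨⟨e⟩, _⟩ | ⟨h, _⟩
    · exact (not_dihedral H W hW hinv hfull e).elim
    · exact h
  refine ⟨hZ2, le_centralizer_of_card_two H (zen W) hZ2 (zen_inv H W hinv),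
    fix_eq_zen H W hW hna hinv hfull, sub_le_zen H W hW hna hinv hfull, ?_, hQ⟩
  obtain ⟨e⟩ := hQ
  intro w hw hwZ
  have : Fact (Nat.Prime 2) := ⟨Nat.prime_two⟩
  -- the nontrivial central element
  obtain ⟨z, hz1, hzu⟩ := (Nat.card_eq_two_iff' (1 : ↥(zen W))).mp hZ2
  have hzW : (z : S) ∈ W := (Subgroup.mem_inf.mp z.2).1
  have hz2 : (z : S) ^ 2 = 1 := by
    have : z ^ 2 = 1 := by
      rw [← hZ2]; exact pow_card_eq_one'
    exact congrArg Subtype.val this
  have hz1' : (z : S) ≠ 1 := fun h => hz1 (Subtype.ext h)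
  have hez : e ⟨(z : S), hzW⟩ = QuaternionGroup.a 2 := by
    have hsq : e ⟨(z : S), hzW⟩ ^ 2 = 1 := by
      rw [← map_pow]
      have : (⟨(z : S), hzW⟩ : ↥W) ^ 2 = 1 := Subtype.ext hz2
      rw [this, map_one]
    rcases q8_sq_one _ hsq with h | h
    · exfalso
      rw [MulEquiv.map_eq_one_iff] at h
      exact hz1' (congrArg Subtype.val h)
    · exact h
  have hx2 : ¬ (e ⟨w, hw⟩) ^ 2 ^ 1 = 1 := by
    rw [pow_one]
    intro hsq
    rcases q8_sq_one _ hsq with h | h
    · rw [MulEquiv.map_eq_one_iff] at h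
      have : w = 1 := congrArg Subtype.val h
      exact hwZ (this ▸ (zen W).one_mem)
    · have : (⟨w, hw⟩ : ↥W) = ⟨(z : S), hzW⟩ := e.injective (h.trans hez.symm)
      have : w = (z : S) := congrArg Subtype.val this
      exact hwZ (this ▸ z.2)
  have hx4 : (e ⟨w, hw⟩) ^ 2 ^ (1 + 1) = 1 := q8_pow4 _
  have ho := orderOf_eq_prime_pow hx2 hx4
  rw [MulEquiv.orderOf_eq] at ho
  have hco : orderOf w = orderOf (⟨w, hw⟩ : ↥W) := (Subgroup.orderOf_coe (⟨w, hw⟩ : ↥W))
  rw [hco, ho]; norm_num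

end Cfsg.Agent.Lib.Helper86_Slim_ORD8A
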