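import Mathlib
import Cfsg.Agent.Lib.Helper49_SlimDefs
import Cfsg.Agent.Lib.Helper24_CoprimeAction

/-!
# S4409 market (helper49), package PHI (helper8): basic facts on the Frattini subgroup `phi Y` of a subgroup
`Y` of the ambient finite group `S`.
-/

set_option autoImplicit false
set_option linter.unusedSectionVars false

namespace Cfsg.Agent.Lib.Helper8_Slim_PHI

open Subgroup Cfsg.Agent.Lib.Helper49_SlimDefs
open scoped commutatorElement

variable {S : Type*} [Group S] [Finite S]

theorem phi_le (Y : Subgroup S) : phi Y ≤ Y := by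
  unfold phi
  exact Subgroup.map_subtype_le _

theorem phi_lt (Y : Subgroup S) (hY : Y ≠ ⊥) : phi Y < Y := by
  refine lt_of_le_of_ne (phi_le Y) (fun h => hY ?_)
  have hf : frattini ↥Y = ⊤ := by
    apply Subgroup.map_injective Y.subtype_injective
    rw [← MonoidHom.range_eq_map, Subgroup.range_subtype]
    exact h
  have hbot : (⊥ : Subgroup ↥Y) = ⊤ := by
    apply frattini_nongenerating
    rw [hf, bot_sup_eq]
  rw [eq_bot_iff]
  intro y hy
  have : (⟨y, hy⟩ : ↥Y) ∈ (⊥ : Subgroup ↥Y) := by rw [hbot]; exact Subgroup.mem_top _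
  rw [Subgroup.mem_bot] at this
  rw [Subgroup.mem_bot]
  exact congrArg Subtype.val this

theorem phi_inv (H Y : Subgroup S) (hinv : H ≤ normalizer (Y : Set S)) :
    H ≤ normalizer ((phi Y : Subgroup S) : Set S) :=
  hinv.trans
    (Cfsg.Agent.Lib.Helper24_CoprimeAction.normalizer_le_normalizer_map_of_characteristic Y
      (frattini ↥Y))

theorem phi_normal (Y : Subgroup S) : Y ≤ normalizer ((phi Y : Subgroup S) : Set S) :=
  phi_inv Y Y Subgroup.le_normalizer

end Cfsg.Agent.Lib.Helper8_Slim_PHI
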