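import Mathlib
import Cfsg.Prelude.Def_Transfer
import Cfsg.Prelude.Def_Solvable
import Cfsg.Agent.Lib.Helper49_SlimDefs
import Cfsg.Agent.Lib.Helper8_Slim_PHI
import Cfsg.Agent.Lib.Helper31_Slim_TRANS
import Cfsg.Agent.Lib.Helper43_Slim_SLIMAB
import Cfsg.Agent.Lib.Helper86_Slim_COP
import Cfsg.Agent.Lib.Helper47_Slim_CYC
import Cfsg.Agent.Lib.Helper47_Slim_IRR4
import Cfsg.Agent.Lib.Helper86_Slim_ORD8A
import Cfsg.Agent.Lib.Helper43_Slim_ORD8B

/-!
# S4409 (layer-1 tools): re-exports of the landed market packages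
PHI (helper8), TRANS (helper31), SLIMAB (helper43), COP (helper86), CYC (helper47), IRR4 (helper47), ORD8A (helper86), ORD8B (helper43).
-/

set_option autoImplicit false

namespace Cfsg.Agent.Lib.Helper49_SlimTools

open Subgroup Cfsg.Agent.Lib.Helper49_SlimDefs
open scoped commutatorElement

variable {S : Type*} [Group S] [Finite S]

/-- PACKAGE PHI (S, ~40 lines).  phi Y = (frattini ↥Y).map Y.subtype.  phi_le: map_subtype_le.  phi_lt: if phi Y = Y then frattini ↥Y = ⊤; `frattini_nongenerating` with K = ⊥ gives ⊥ = ⊤ in ↥Y, so Y = ⊥.  phi_inv / phi_normal: the Frattini subgroup is characteristic (`frattini_characteristic`); Helper24_CoprimeAction.normalizer_le_normalizer_map_of_characteristic Y (frattini ↥Y), and Y ≤ normalizer Y. -/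
theorem phi_le (Y : Subgroup S) : phi Y ≤ Y :=
  Cfsg.Agent.Lib.Helper8_Slim_PHI.phi_le Y

theorem phi_lt (Y : Subgroup S) (hY : Y ≠ ⊥) : phi Y < Y :=
  Cfsg.Agent.Lib.Helper8_Slim_PHI.phi_lt Y hY

theorem phi_inv (H Y : Subgroup S) (hinv : H ≤ normalizer (Y : Set S)) :
    H ≤ normalizer ((phi Y : Subgroup S) : Set S) :=
  Cfsg.Agent.Lib.Helper8_Slim_PHI.phi_inv H Y hinv

theorem phi_normal (Y : Subgroup S) : Y ≤ normalizer ((phi Y : Subgroup S) : Set S) :=
  Cfsg.Agent.Lib.Helper8_Slim_PHI.phi_normal Y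

/-- PACKAGE TRANS (S/M, ~80 lines; import Cfsg.Prelude.Def_Transfer).  zen_eq_map, der_eq_map: unfold, ext, `Subgroup.mem_center_iff`, `map_commutator`/`commutator_def` (commutator ↥Y = ⁅⊤,⊤⁆, map along Y.subtype, `Subgroup.map_commutator`, `← MonoidHom.range_eq_map`, `Subgroup.range_subtype`).  special_of: Cfsg.IsSpecial 2 ↥X = IsPGroup 2 ↥X ∧ frattini ↥X = center ↥X ∧ commutator ↥X = center ↥X; use injectivity of `Subgroup.map Y.subtype` (`Subgroup.map_injective Y.subtype_injective`) on phi X = zen X and der X = zen X rewritten with zen_eq_map, der_eq_map; the card statement is `Subgroup.card_map_of_injective` (or Nat.card_congr of `Subgroup.equivMapOfInjective`). -/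
theorem zen_eq_map (Y : Subgroup S) : zen Y = (center ↥Y).map Y.subtype :=
  Cfsg.Agent.Lib.Helper31_Slim_TRANS.zen_eq_map Y

theorem der_eq_map (Y : Subgroup S) : der Y = (commutator ↥Y).map Y.subtype :=
  Cfsg.Agent.Lib.Helper31_Slim_TRANS.der_eq_map Y

theorem special_of (X : Subgroup S) (hX : IsPGroup 2 ↥X) (h1 : phi X = zen X) (h2 : der X = zen X) :
    Cfsg.IsSpecial 2 ↥X ∧ Nat.card ↥(center ↥X) = Nat.card ↥(zen X) :=
  Cfsg.Agent.Lib.Helper31_Slim_TRANS.special_of X hX h1 h2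

/-- PACKAGE SLIMAB (M, ~100 lines).  slim_abelian: suppose Y abelian, not cyclic, |Y| >= 8 (|Y| is a power of 2: IsPGroup.exists_card_eq).  A noncyclic abelian 2-group contains two distinct involutions u ≠ v (e.g. a finite abelian p-group with a unique subgroup of order p is cyclic - Mathlib `IsPGroup`/`isCyclic_of_card_pow_eq_one_le`, or Cfsg.Agent.S0016), V = {1,u,v,uv} has order 4; `Sylow.exists_subgroup_card_pow_prime_le` (in ↥Y) gives B with V ≤ B ≤ Y, |B| = 8; B is abelian and not cyclic (a cyclic group has at most one involution), contradiction with hs.  not_slim_of_abelian: apply slim_abelian to B (slim_mono).  slim_mono: trivial. -/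
theorem slim_abelian (Y : Subgroup S) (h2 : IsPGroup 2 ↥Y) (hs : Slim Y)
    (hab : IsMulCommutative ↥Y) : IsCyclic ↥Y ∨ Nat.card ↥Y ≤ 4 :=
  Cfsg.Agent.Lib.Helper43_Slim_SLIMAB.slim_abelian Y h2 hs hab

theorem not_slim_of_abelian (Y B : Subgroup S) (hBY : B ≤ Y) (h2 : IsPGroup 2 ↥B)
    (hab : IsMulCommutative ↥B) (hnc : ¬ IsCyclic ↥B) (h8 : 8 ≤ Nat.card ↥B) : ¬ Slim Y :=
  Cfsg.Agent.Lib.Helper43_Slim_SLIMAB.not_slim_of_abelian Y B hBY h2 hab hnc h8

theorem slim_mono {Y T : Subgroup S} (hTY : T ≤ Y) (hs : Slim Y) : Slim T :=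
  Cfsg.Agent.Lib.Helper43_Slim_SLIMAB.slim_mono hTY hs

/-- PACKAGE COP (M, ~120 lines).  All from Lib/Helper24_CoprimeAction (commutator_le_of_le_normalizer, mem_normalizer_commutator, coprime_decomp, exists_fixed_in_coset) and Helper48_Coprime.le_normalizer_commutator.  Coprimality: |H| odd, |Y| a power of 2; Y is solvable (2-group: nilpotent).  comm_idem: ≤ by comm_le for ⁅Y,H⁆; ≥: y ∈ Y is d*c with d ∈ ⁅Y,H⁆, c ∈ C_Y(H), and ⁅d c, h⁆ = d ⁅c,h⁆ d⁻¹ ⁅d,h⁆ = ⁅d,h⁆ ... so ⁅Y,H⁆ ≤ ⁅⁅Y,H⁆,H⁆ (use that ⁅⁅Y,H⁆,H⁆ is normal in ⁅Y,H⁆, or generators).  comm_eq_bot_iff: `Subgroup.commutator_eq_bot_iff_le_centralizer` (mind the order of the arguments / `commutator_comm`).  stable: ⁅Y,H⁆ = ⁅⁅Y,H⁆,H⁆ ≤ ⁅T,H⁆ = ⊥.  fixed_quot: exists_fixed_in_coset H T ... y gives d ∈ T with y*d centralized by H; y = (y d) d⁻¹ (T is normalized by Y so the product order does not matter). -/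
theorem comm_le (H Y : Subgroup S) (hinv : H ≤ normalizer (Y : Set S)) : ⁅Y, H⁆ ≤ Y :=
  Cfsg.Agent.Lib.Helper86_Slim_COP.comm_le H Y hinv

theorem comm_inv (H Y : Subgroup S) (hinv : H ≤ normalizer (Y : Set S)) :
    H ≤ normalizer ((⁅Y, H⁆ : Subgroup S) : Set S) ∧ Y ≤ normalizer ((⁅Y, H⁆ : Subgroup S) : Set S) :=
  Cfsg.Agent.Lib.Helper86_Slim_COP.comm_inv H Y hinv

theorem decomp (H Y : Subgroup S) (hodd : (Nat.card ↥H).Coprime 2) (h2 : IsPGroup 2 ↥Y)
    (hinv : H ≤ normalizer (Y : Set S)) : ⁅Y, H⁆ ⊔ (Y ⊓ centralizer (H : Set S)) = Y :=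
  Cfsg.Agent.Lib.Helper86_Slim_COP.decomp H Y hodd h2 hinv

theorem comm_idem (H Y : Subgroup S) (hodd : (Nat.card ↥H).Coprime 2) (h2 : IsPGroup 2 ↥Y)
    (hinv : H ≤ normalizer (Y : Set S)) : ⁅⁅Y, H⁆, H⁆ = ⁅Y, H⁆ :=
  Cfsg.Agent.Lib.Helper86_Slim_COP.comm_idem H Y hodd h2 hinv

theorem comm_eq_bot_iff (H Y : Subgroup S) : ⁅Y, H⁆ = ⊥ ↔ H ≤ centralizer (Y : Set S) :=
  Cfsg.Agent.Lib.Helper86_Slim_COP.comm_eq_bot_iff H Y

theorem stable (H Y T : Subgroup S) (hodd : (Nat.card ↥H).Coprime 2) (h2 : IsPGroup 2 ↥Y)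
    (hinv : H ≤ normalizer (Y : Set S)) (hTc : H ≤ centralizer (T : Set S)) (hq : ⁅Y, H⁆ ≤ T) :
    H ≤ centralizer (Y : Set S) :=
  Cfsg.Agent.Lib.Helper86_Slim_COP.stable H Y T hodd h2 hinv hTc hq

theorem fixed_quot (H Y T : Subgroup S) (hodd : (Nat.card ↥H).Coprime 2) (h2 : IsPGroup 2 ↥Y)
    (hinv : H ≤ normalizer (Y : Set S)) (hTY : T ≤ Y) (hTn : Y ≤ normalizer (T : Set S))
    (hTH : H ≤ normalizer (T : Set S)) (y : S) (hy : y ∈ Y) (hyT : ∀ h ∈ H, ⁅y, h⁆ ∈ T) :
    y ∈ T ⊔ (Y ⊓ centralizer (H : Set S)) :=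
  Cfsg.Agent.Lib.Helper86_Slim_COP.fixed_quot H Y T hodd h2 hinv hTY hTn hTH y hy hyT

/-- PACKAGE CYC (S/M, ~60 lines).  h ∈ H acts on the cyclic 2-group C = ⟨c⟩ (|C| = 2^n) by c ↦ c^k, k odd; the order of this automorphism divides φ(2^n) = 2^(n-1) and divides the odd number orderOf h: it is trivial.  Or: Helper17_Sylow.relIndex_centralizer_normalizer_dvd + `IsCyclic.card_mulAut` (|Aut C| = φ(2^n) is a power of 2) and |H / C_H(C)| odd. -/
theorem centralizes_cyclic (H C : Subgroup S) (hodd : (Nat.card ↥H).Coprime 2) (h2 : IsPGroup 2 ↥C)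
    (hc : IsCyclic ↥C) (hinv : H ≤ normalizer (C : Set S)) : H ≤ centralizer (C : Set S) :=
  Cfsg.Agent.Lib.Helper47_Slim_CYC.centralizes_cyclic H C hodd h2 hc hinv

/-- PACKAGE IRR4 (M, ~150 lines).  irr4: V of order 4, H odd normalizes and does not centralize V.  V is not cyclic (CYC); a group of order 4 is abelian and, being noncyclic, has exponent 2.  If T < V is H-invariant and T ≠ ⊥ then |T| = 2, H centralizes T (order 2) and acts trivially on V/T (order 2), so ⁅V,H⁆ ≤ T and H centralizes V (COP.stable): contradiction.  Apply this to T = V ⊓ centralizer H and T = ⁅V,H⁆ (H-invariant; ⁅V,H⁆ ≠ ⊥ since H does not centralize V) to get C_V(H) = ⊥ and ⁅V,H⁆ = V.  index_centralizer_four: P V is a 2-group, V ◁ PV, so V ⊓ center(PV) ≠ ⊥: some 1 ≠ v ∈ V is centralized by P; P permutes the other (at most two) elements of V - {1,v}: the stabilizer of one of them is P ⊓ centralizer V and has index ≤ 2. -/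
theorem irr4 (H V : Subgroup S) (hodd : (Nat.card ↥H).Coprime 2) (hV : Nat.card ↥V = 4)
    (hinv : H ≤ normalizer (V : Set S)) (hnc : ¬ H ≤ centralizer (V : Set S)) :
    ¬ IsCyclic ↥V ∧ IsMulCommutative ↥V ∧ (∀ v ∈ V, v ^ 2 = 1) ∧ ⁅V, H⁆ = V ∧
      V ⊓ centralizer (H : Set S) = ⊥ ∧
      ∀ T : Subgroup S, T < V → H ≤ normalizer (T : Set S) → T = ⊥ :=
  Cfsg.Agent.Lib.Helper47_Slim_IRR4.irr4 H V hodd hV hinv hnc

theorem index_centralizer_four (P V : Subgroup S) (hP : IsPGroup 2 ↥P) (hV : Nat.card ↥V = 4)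
    (hPV : P ≤ normalizer (V : Set S)) : (P ⊓ centralizer (V : Set S)).relIndex P ≤ 2 :=
  Cfsg.Agent.Lib.Helper47_Slim_IRR4.index_centralizer_four P V hP hV hPV

/-- PACKAGE ORD8A (M/L, ~200 lines).  W nonabelian of order 8, ⁅W,H⁆ = W.  Z := zen W has order 2 (nontrivial centre of a 2-group; W/Z cyclic would make W abelian; |Z| = 4 gives W/Z cyclic).  H normalizes Z (characteristic) of order 2, so centralizes it.  W/Z has order 4 and is not cyclic.  If T < W is H-invariant: T Z/Z is an H-invariant subgroup of W/Z: order 2 is impossible (H would centralize T Z/Z and W/TZ, so ⁅W,H⁆ ≤ TZ < W); order 4 means TZ = W, T of index ≤ 2 so T ⊇ Z (Z = Frattini = ⟨squares⟩: x² ∈ Z for all x as W/Z has exponent 2; a subgroup of index 2 contains all squares and Z is generated by a square since W is not of exponent 2) and T = W: no.  So TZ = Z, T ≤ Z.  C_W(H) is H-invariant and proper (⁅W,H⁆ ≠ ⊥): C_W(H) ≤ Z, and Z ≤ C_W(H).  Orders: the elements outside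 Z are not all involutions (else W has exponent 2, abelian); the set I of involutions outside Z is invariant under H and under conjugation by W, and ⟨I, Z⟩ is an H-invariant subgroup: it is ≤ Z (so I = ∅) or = W; if ⟨I,Z⟩ = W ... simpler: H acts on the three subgroups of order 4 containing Z (W/Z = E4 has 3 subgroups of order 2); the action is transitive (an H-fixed one is an H-invariant proper subgroup not inside Z); so the three are isomorphic; if they were all four-groups W would have exponent 2; so all three are cyclic and every element outside Z has order 4.  Then W has a unique involution: Cfsg.Agent.S0016 gives cyclic or generalized quaternion; W nonabelian of order 8: W ≃* QuaternionGroup 2 (see how S0016 states 'generalized quaternion'). -/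
theorem ord8_struct (H W : Subgroup S) (hodd : (Nat.card ↥H).Coprime 2) (hW : Nat.card ↥W = 8)
    (hna : ¬ IsMulCommutative ↥W) (hinv : H ≤ normalizer (W : Set S)) (hfull : ⁅W, H⁆ = W) :
    Nat.card ↥(zen W) = 2 ∧ H ≤ centralizer ((zen W : Subgroup S) : Set S) ∧
      W ⊓ centralizer (H : Set S) = zen W ∧
      (∀ T : Subgroup S, T < W → H ≤ normalizer (T : Set S) → T ≤ zen W) ∧
      (∀ w ∈ W, w ∉ zen W → orderOf w = 4) ∧
      Nonempty (↥W ≃* QuaternionGroup 2) :=
  Cfsg.Agent.Lib.Helper86_Slim_ORD8A.ord8_struct H W hodd hW hna hinv hfull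

/-- PACKAGE ORD8B (M, ~150 lines; no operators).  central_aut_inner: pick a, b ∈ W with a b ≠ b a; z := ⁅a,b⁆ ≠ 1 lies in zen W (W/zen W is abelian of order 4) of order 2, zen W = {1,z}, W = ⟨a,b⟩ (a proper subgroup containing a, b has order ≤ 4 and is abelian).  ⁅a,y⁆ = z^α, ⁅b,y⁆ = z^β.  v := a^β * b^α satisfies ⁅a,v⁆ = z^α, ⁅b,v⁆ = z^β (z central of order 2), so y v⁻¹ centralizes a and b, hence W: y ∈ (centralizer W) * W.  index_central_aut: K := {y ∈ P | ∀ w ∈ W, ⁅w,y⁆ ∈ zen W} is the kernel of the action of P on W/zen W (order 4, zen W is normalized by P); as in IRR4.index_centralizer_four (a 2-group acting on a group of order 4 fixes a nonidentity element) its index is ≤ 2; it is normal in P (kernel). -/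
theorem central_aut_inner (W : Subgroup S) (hW : Nat.card ↥W = 8) (hna : ¬ IsMulCommutative ↥W)
    (y : S) (hy : y ∈ normalizer (W : Set S)) (hyc : ∀ w ∈ W, ⁅w, y⁆ ∈ zen W) :
    y ∈ W ⊔ centralizer (W : Set S) :=
  Cfsg.Agent.Lib.Helper43_Slim_ORD8B.central_aut_inner W hW hna y hy hyc

theorem index_central_aut (P W : Subgroup S) (hP : IsPGroup 2 ↥P) (hW : Nat.card ↥W = 8)
    (hna : ¬ IsMulCommutative ↥W) (hPW : P ≤ normalizer (W : Set S)) :
    ∃ K : Subgroup S, K ≤ P ∧ K.relIndex P ≤ 2 ∧ P ≤ normalizer (K : Set S) ∧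
      (∀ y : S, y ∈ K ↔ y ∈ P ∧ ∀ w ∈ W, ⁅w, y⁆ ∈ zen W) :=
  Cfsg.Agent.Lib.Helper43_Slim_ORD8B.index_central_aut P W hP hW hna hPW

end Cfsg.Agent.Lib.Helper49_SlimTools
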