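import Mathlib
import Cfsg.Agent.Lib.Helper24_CoprimeAction
import Cfsg.Agent.Lib.Helper49_SlimDefs
import Cfsg.Agent.Lib.Helper49_SlimTools

/-!
# Helper20_Slim_CORE8: package CORE8 of the S4409 market (architect helper49)

The minimal configuration `Cfg X H` with `Q = [X, H]` nonabelian of order `8`, `Q < X`:
`X = Q C_X(Q)` has order `16` and `Q ≃ Q₈`.
-/

set_option autoImplicit false

namespace Cfsg.Agent.Lib.Helper20_Slim_CORE8

open Subgroup Cfsg.Agent.Lib.Helper49_SlimDefs Cfsg.Agent.Lib.Helper49_SlimTools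
open scoped commutatorElement

variable {S : Type*} [Group S] [Finite S]

/-- In a `p`-group `X`, a nontrivial subgroup `Q ≤ X` satisfies `[Q, X] ≠ Q`. -/
theorem comm_ne_of_pgroup {p : ℕ} [Fact p.Prime] (X Q : Subgroup S) (hX : IsPGroup p ↥X)
    (hQX : Q ≤ X) (hQ : Q ≠ ⊥) : ⁅Q, X⁆ ≠ Q := by
  intro heq
  have hnil : Group.IsNilpotent ↥X := hX.isNilpotent
  obtain ⟨n, hn⟩ := (Subgroup.isNilpotent_iff_lowerCentralSeries X).mp hnil
  have key : ∀ k, Q ≤ X.lowerCentralSeries k := by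
    intro k
    induction k with
    | zero => exact hQX
    | succ k ih =>
      rw [Subgroup.lowerCentralSeries_succ]
      calc Q = ⁅Q, X⁆ := heq.symm
        _ ≤ ⁅X.lowerCentralSeries k, X⁆ := Subgroup.commutator_mono ih le_rfl
  have h1 := key n
  rw [hn] at h1
  exact hQ (le_bot_iff.mp h1)

/-- Second isomorphism theorem for relative indices, `H` normalizing `K`. -/
theorem relIndex_sup_of_le_normalizer (K H : Subgroup S) (h : H ≤ normalizer (K : Set S)) :
    K.relIndex (K ⊔ H) = K.relIndex H := by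
  have hKN : K ≤ normalizer (K : Set S) := le_normalizer
  have hn : (K.subgroupOf (normalizer (K : Set S))).Normal := Subgroup.normal_in_normalizer
  have h1 := Subgroup.relIndex_sup_left (K := K.subgroupOf (normalizer (K : Set S)))
    (H := H.subgroupOf (normalizer (K : Set S)))
  rw [← Subgroup.subgroupOf_sup hKN h, Subgroup.relIndex_subgroupOf (sup_le hKN h),
    Subgroup.relIndex_subgroupOf h] at h1
  exact h1

/-- `N(Q) ≤ N(C(Q))`. -/
theorem normalizer_le_normalizer_centralizer (Q : Subgroup S) :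
    normalizer (Q : Set S) ≤ normalizer ((centralizer (Q : Set S) : Subgroup S) : Set S) := by
  intro g hg
  rw [Subgroup.mem_normalizer_iff] at hg
  rw [Subgroup.mem_normalizer_iff]
  intro d
  constructor
  · intro hd
    change d ∈ centralizer (Q : Set S) at hd
    change g * d * g⁻¹ ∈ centralizer (Q : Set S)
    rw [Subgroup.mem_centralizer_iff] at hd ⊢
    intro q hq
    have hq' : g⁻¹ * q * g ∈ (Q : Set S) := by
      apply (hg (g⁻¹ * q * g)).mpr
      have : g * (g⁻¹ * q * g) * g⁻¹ = q := by group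
      rw [this]
      exact hq
    have h2 := hd _ hq'
    calc q * (g * d * g⁻¹) = g * ((g⁻¹ * q * g) * d) * g⁻¹ := by group
      _ = g * (d * (g⁻¹ * q * g)) * g⁻¹ := by rw [h2]
      _ = g * d * g⁻¹ * q := by group
  · intro hd
    change g * d * g⁻¹ ∈ centralizer (Q : Set S) at hd
    change d ∈ centralizer (Q : Set S)
    rw [Subgroup.mem_centralizer_iff] at hd ⊢
    intro q hq
    have hq' : g * q * g⁻¹ ∈ (Q : Set S) := (hg q).mp hq
    have h2 := hd _ hq'
    have h3 : g * (q * d) * g⁻¹ = g * (d * q) * g⁻¹ := by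
      calc g * (q * d) * g⁻¹ = (g * q * g⁻¹) * (g * d * g⁻¹) := by group
        _ = (g * d * g⁻¹) * (g * q * g⁻¹) := h2
        _ = g * (d * q) * g⁻¹ := by group
    exact mul_left_cancel (mul_right_cancel h3)

/-- `N(A) ⊓ N(B) ≤ N(A ⊓ B)`. -/
theorem normalizer_inf_le (A B : Subgroup S) :
    normalizer (A : Set S) ⊓ normalizer (B : Set S) ≤
      normalizer ((A ⊓ B : Subgroup S) : Set S) := by
  intro g hg
  obtain ⟨hA, hB⟩ := Subgroup.mem_inf.mp hg
  rw [Subgroup.mem_normalizer_iff] at hA hB ⊢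
  intro x
  change x ∈ A ⊓ B ↔ g * x * g⁻¹ ∈ A ⊓ B
  rw [Subgroup.mem_inf, Subgroup.mem_inf]
  exact and_congr (hA x) (hB x)

/-- A noncyclic abelian subgroup of order `≥ 8` generated by an element `i` of order `4` and a
commuting element `d` with `d ^ 4 = 1` outside `⟨i⟩`. -/
theorem closure_pair_props (X : Subgroup S) (hX2 : IsPGroup 2 ↥X) (i d : S) (hiX : i ∈ X)
    (hdX : d ∈ X) (hi4 : orderOf i = 4) (hd4 : d ^ 4 = 1) (hcomm : i * d = d * i)
    (hd : d ∉ zpowers i) :
    IsPGroup 2 ↥(closure ({i, d} : Set S)) ∧ IsMulCommutative ↥(closure ({i, d} : Set S)) ∧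
      ¬ IsCyclic ↥(closure ({i, d} : Set S)) ∧ 8 ≤ Nat.card ↥(closure ({i, d} : Set S)) := by
  have hBX : closure ({i, d} : Set S) ≤ X := by
    rw [Subgroup.closure_le]
    intro x hx
    rcases hx with rfl | hx
    · exact hiX
    · rw [Set.mem_singleton_iff] at hx
      rw [hx]; exact hdX
  have hab : IsMulCommutative ↥(closure ({i, d} : Set S)) := by
    apply Subgroup.isMulCommutative_closure
    intro x hx y hy
    rcases hx with rfl | hx <;> rcases hy with rfl | hy
    · rfl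
    · rw [Set.mem_singleton_iff] at hy; rw [hy]; exact hcomm
    · rw [Set.mem_singleton_iff] at hx; rw [hx]; exact hcomm.symm
    · rw [Set.mem_singleton_iff] at hx hy; rw [hx, hy]
  have hi4' : i ^ 4 = 1 := by rw [← hi4]; exact pow_orderOf_eq_one i
  have hexp : ∀ b ∈ closure ({i, d} : Set S), b ^ 4 = 1 := by
    intro b hb
    induction hb using Subgroup.closure_induction with
    | mem x hx =>
      rcases hx with rfl | hx
      · exact hi4'
      · rw [Set.mem_singleton_iff] at hx; rw [hx]; exact hd4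
    | one => exact one_pow 4
    | mul x y hx hy ihx ihy =>
      have hc : Commute x y := by
        have := hab.is_comm.comm (⟨x, hx⟩ : closure ({i, d} : Set S)) ⟨y, hy⟩
        exact congrArg Subtype.val this
      rw [hc.mul_pow, ihx, ihy, one_mul]
    | inv x hx ih => rw [inv_pow, ih, inv_one]
  have hile : zpowers i ≤ closure ({i, d} : Set S) := by
    rw [Subgroup.zpowers_le]
    exact Subgroup.subset_closure (Set.mem_insert i _)
  have hdB : d ∈ closure ({i, d} : Set S) :=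
    Subgroup.subset_closure (Set.mem_insert_of_mem i (Set.mem_singleton d))
  have hcard4 : Nat.card (zpowers i) = 4 := by rw [Nat.card_zpowers, hi4]
  have h8 : 8 ≤ Nat.card ↥(closure ({i, d} : Set S)) := by
    have hdvd := Subgroup.card_dvd_of_le hile
    rw [hcard4] at hdvd
    have hne : Nat.card ↥(closure ({i, d} : Set S)) ≠ 4 := by
      intro h4
      have := Subgroup.eq_of_le_of_card_ge hile (by rw [h4, hcard4])
      exact hd (this ▸ hdB)
    have hpos : 0 < Nat.card ↥(closure ({i, d} : Set S)) := Nat.card_pos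
    obtain ⟨m, hm⟩ := hdvd
    rw [hm] at hne hpos ⊢
    omega
  refine ⟨hX2.to_le hBX, hab, ?_, h8⟩
  intro hcyc
  obtain ⟨g, hg⟩ := IsCyclic.exists_ofOrder_eq_natCard (α := ↥(closure ({i, d} : Set S)))
  have h1 : (g : S) ^ 4 = 1 := hexp g g.2
  have h2 : g ^ 4 = 1 := by
    apply Subtype.ext
    rw [Subgroup.coe_pow, h1]; rfl
  have h3 : orderOf g ∣ 4 := orderOf_dvd_of_pow_eq_one h2
  have h4 : orderOf g ≤ 4 := Nat.le_of_dvd (by norm_num) h3
  omega

theorem core_eight (X H : Subgroup S) (h : Cfg X H) (hlt : ⁅X, H⁆ < X)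
    (h8 : Nat.card ↥(⁅X, H⁆ : Subgroup S) = 8) (hna : ¬ IsMulCommutative ↥(⁅X, H⁆ : Subgroup S)) :
    Concl X := by
  have : Fact (Nat.Prime 2) := ⟨Nat.prime_two⟩
  obtain ⟨Q, hQdef⟩ : ∃ Q : Subgroup S, Q = ⁅X, H⁆ := ⟨_, rfl⟩
  rw [← hQdef] at hlt h8 hna
  have hQX : Q ≤ X := hlt.le
  have hinvs := comm_inv H X h.inv
  rw [← hQdef] at hinvs
  obtain ⟨hQH, hQXn⟩ := hinvs
  have hidem : ⁅Q, H⁆ = Q := by rw [hQdef]; exact comm_idem H X h.odd h.two h.inv
  obtain ⟨hZ2, hHZ, hCQ, hTZ, hord4, hiso⟩ := ord8_struct H Q h.odd h8 hna hQH hidem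
  have hQne : Q ≠ ⊥ := by
    intro hb
    rw [hb, Subgroup.card_bot] at h8
    omega
  have hdec : Q ⊔ (X ⊓ centralizer (H : Set S)) = X := by
    rw [hQdef]; exact decomp H X h.odd h.two h.inv
  -- `H` normalizes `C = C_X(H)`
  have hHC : H ≤ normalizer ((X ⊓ centralizer (H : Set S) : Subgroup S) : Set S) := by
    refine le_trans ?_ (normalizer_inf_le X (centralizer (H : Set S)))
    exact le_inf h.inv (le_trans le_normalizer (normalizer_le_normalizer_centralizer H))
  -- `[Q, C] ≤ Z(Q)`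
  have hT : ⁅Q, X ⊓ centralizer (H : Set S)⁆ ≤ zen Q := by
    apply hTZ
    · have h1 : ⁅Q, X ⊓ centralizer (H : Set S)⁆ ≤ ⁅Q, X⁆ :=
        Subgroup.commutator_mono le_rfl inf_le_left
      have h2 : ⁅Q, X⁆ ≤ Q := comm_le X Q hQXn
      refine lt_of_le_of_ne (h1.trans h2) ?_
      intro heq
      apply comm_ne_of_pgroup X Q h.two hQX hQne
      rw [heq] at h1
      exact le_antisymm h2 h1
    · intro g hg
      exact Cfsg.Agent.Lib.Helper24_CoprimeAction.mem_normalizer_commutator Q _ (hQH hg) (hHC hg)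
  -- `X = Q C_X(Q)`
  have hCQn : centralizer (Q : Set S) ≤ normalizer (Q : Set S) := centralizer_le_normalizer _
  have hXD : Q ⊔ (X ⊓ centralizer (Q : Set S)) = X := by
    apply le_antisymm (sup_le hQX inf_le_left)
    have hCle : X ⊓ centralizer (H : Set S) ≤ Q ⊔ (X ⊓ centralizer (Q : Set S)) := by
      intro c hc
      have hcX : c ∈ X := (Subgroup.mem_inf.mp hc).1
      have hcN : c ∈ normalizer (Q : Set S) := hQXn hcX
      have hyc : ∀ w ∈ Q, ⁅w, c⁆ ∈ zen Q := fun w hw =>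
        hT (Subgroup.commutator_mem_commutator hw hc)
      have h1 := central_aut_inner Q h8 hna c hcN hyc
      have h2 : c ∈ ((Q ⊔ centralizer (Q : Set S) : Subgroup S) : Set S) := h1
      rw [Subgroup.coe_mul_of_right_le_normalizer_left Q _ hCQn] at h2
      obtain ⟨q, hq, k, hk, hqk⟩ := h2
      have hkX : k ∈ X := by
        have h3 : k = q⁻¹ * c := by rw [← hqk]; group
        rw [h3]; exact X.mul_mem (X.inv_mem (hQX hq)) hcX
      rw [← hqk]
      exact Subgroup.mul_mem_sup hq (Subgroup.mem_inf.mpr ⟨hkX, hk⟩)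
    calc X = Q ⊔ (X ⊓ centralizer (H : Set S)) := hdec.symm
      _ ≤ _ := sup_le le_sup_left hCle
  -- `D = C_X(Q)`
  obtain ⟨D, hDdef⟩ : ∃ D : Subgroup S, D = X ⊓ centralizer (Q : Set S) := ⟨_, rfl⟩
  have hXD' := hXD
  rw [← hDdef] at hXD'
  have hDX : D ≤ X := by rw [hDdef]; exact inf_le_left
  have hDC : D ≤ centralizer (Q : Set S) := by rw [hDdef]; exact inf_le_right
  have hQD : Q ⊓ D = zen Q := by
    rw [hDdef, ← inf_assoc, inf_of_le_left hQX]; rfl
  have hZD : zen Q ≤ D := by rw [← hQD]; exact inf_le_right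
  have hZQ : zen Q ≤ Q := by rw [← hQD]; exact inf_le_left
  have hHD : H ≤ normalizer (D : Set S) := by
    rw [hDdef]
    refine le_trans ?_ (normalizer_inf_le X (centralizer (Q : Set S)))
    exact le_inf h.inv (le_trans hQH (normalizer_le_normalizer_centralizer Q))
  have hD2 : IsPGroup 2 ↥D := h.two.to_le hDX
  -- `H` centralizes `D`
  have hHcD : H ≤ centralizer (D : Set S) := by
    apply stable H D (zen Q) h.odd hD2 hHD hHZ
    have h1 : ⁅D, H⁆ ≤ Q := by rw [hQdef]; exact Subgroup.commutator_mono hDX le_rfl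
    have h2 : ⁅D, H⁆ ≤ D := comm_le H D hHD
    rw [← hQD]; exact le_inf h1 h2
  have hDneZ : D ≠ zen Q := by
    intro heq
    have h1 : Q ⊔ D = Q := by rw [heq]; exact sup_of_le_left hZQ
    rw [h1] at hXD'
    exact hlt.ne hXD'
  obtain ⟨k, hk⟩ := IsPGroup.iff_card.mp hD2
  have hk2 : 2 ≤ k := by
    by_contra hcon
    have hk1 : k ≤ 1 := by omega
    have hle : Nat.card D ≤ 2 := by
      rw [hk]
      calc 2 ^ k ≤ 2 ^ 1 := Nat.pow_le_pow_right (by norm_num) hk1
        _ = 2 := by norm_num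
    exact hDneZ (Subgroup.eq_of_le_of_card_ge hZD (by rw [hZ2]; exact hle)).symm
  -- a subgroup `D1` of order `4` between `Z(Q)` and `D`
  have hZsub : Nat.card ((zen Q).subgroupOf D) = 2 ^ 1 := by
    rw [Nat.card_congr (Subgroup.subgroupOfEquivOfLe hZD).toEquiv, hZ2]; norm_num
  have hdvd : 2 ^ (1 + 1) ∣ Nat.card D := by
    rw [hk]; exact pow_dvd_pow 2 hk2
  obtain ⟨K, hK4, hZK⟩ := Sylow.exists_subgroup_card_pow_succ hdvd hZsub
  obtain ⟨D1, hD1def⟩ : ∃ D1 : Subgroup S, D1 = K.map D.subtype := ⟨_, rfl⟩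
  have hD1card : Nat.card D1 = 4 := by
    rw [hD1def, Subgroup.card_map_of_injective D.subtype_injective, hK4]; norm_num
  have hD1D : D1 ≤ D := by rw [hD1def]; exact Subgroup.map_subtype_le K
  have hZD1 : zen Q ≤ D1 := by
    rw [hD1def, ← Subgroup.map_subgroupOf_eq_of_le hZD]
    exact Subgroup.map_mono hZK
  have hD1X : D1 ≤ X := hD1D.trans hDX
  have hQD1 : Q ⊓ D1 = zen Q := by
    apply le_antisymm
    · rw [← hQD]; exact inf_le_inf_left Q hD1D
    · exact le_inf hZQ hZD1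
  -- elements `i ∈ Q ∖ Z(Q)` and `d ∈ D1 ∖ Z(Q)`
  obtain ⟨i, hiQ, hiZ⟩ : ∃ i ∈ Q, i ∉ zen Q := by
    by_contra hcon
    push Not at hcon
    have hle : Q ≤ zen Q := hcon
    have := Subgroup.card_le_of_le hle
    rw [h8, hZ2] at this
    omega
  obtain ⟨d, hdD1, hdZ⟩ : ∃ d ∈ D1, d ∉ zen Q := by
    by_contra hcon
    push Not at hcon
    have hle : D1 ≤ zen Q := hcon
    have := Subgroup.card_le_of_le hle
    rw [hD1card, hZ2] at this
    omega
  have hi4 : orderOf i = 4 := hord4 i hiQ hiZ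
  have hdQ : d ∉ Q := fun hdQ => hdZ (by rw [← hQD1]; exact Subgroup.mem_inf.mpr ⟨hdQ, hdD1⟩)
  have hd4 : d ^ 4 = 1 := by
    have h1 : orderOf d ∣ 4 := by
      rw [← hD1card]
      exact Subgroup.orderOf_dvd_natCard D1 hdD1
    exact orderOf_dvd_iff_pow_eq_one.mp h1
  have hcomm : i * d = d * i := by
    have h1 := hDC (hD1D hdD1)
    rw [Subgroup.mem_centralizer_iff] at h1
    exact h1 i hiQ
  have hdzi : d ∉ zpowers i := fun hd => hdQ ((Subgroup.zpowers_le.mpr hiQ) hd)
  obtain ⟨hB2, hBab, hBnc, hB8⟩ := closure_pair_props X h.two i d (hQX hiQ) (hD1X hdD1) hi4 hd4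
    hcomm hdzi
  have hBle : closure ({i, d} : Set S) ≤ Q ⊔ D1 := by
    rw [Subgroup.closure_le]
    intro x hx
    rcases hx with rfl | hx
    · exact (le_sup_left : Q ≤ Q ⊔ D1) hiQ
    · rw [Set.mem_singleton_iff] at hx
      rw [hx]; exact (le_sup_right : D1 ≤ Q ⊔ D1) hdD1
  have hnotslim : ¬ Slim (Q ⊔ D1) :=
    not_slim_of_abelian (Q ⊔ D1) _ hBle hB2 hBab hBnc hB8
  -- so `Q ⊔ D1 = X`
  have hHD1 : H ≤ normalizer (D1 : Set S) := by
    refine le_trans hHcD (le_trans ?_ (centralizer_le_normalizer _))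
    exact Subgroup.centralizer_le (fun x hx => hD1D hx)
  have hHQD1 : H ≤ normalizer ((Q ⊔ D1 : Subgroup S) : Set S) :=
    le_trans (le_inf hQH hHD1) (Subgroup.normalizer_inf_normalizer_le_normalizer_sup Q D1)
  have hQD1X : Q ⊔ D1 = X := by
    by_contra hne
    exact hnotslim (h.min _ (lt_of_le_of_ne (sup_le hQX hD1X) hne) hHQD1)
  -- index
  have hrel : Q.relIndex X = 2 := by
    rw [← hQD1X, relIndex_sup_of_le_normalizer Q D1 (hD1X.trans hQXn),
      ← Subgroup.inf_relIndex_right, hQD1]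
    have h1 := Subgroup.card_mul_index ((zen Q).subgroupOf D1)
    rw [Nat.card_congr (Subgroup.subgroupOfEquivOfLe hZD1).toEquiv, hZ2, hD1card] at h1
    change 2 * (zen Q).relIndex D1 = 4 at h1
    omega
  exact Or.inr (Or.inr (Or.inl ⟨Q, hQX, hrel, hiso, hXD⟩))

end Cfsg.Agent.Lib.Helper20_Slim_CORE8
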