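import Mathlib

/-!
# Package QA of helper13's S5975 project (helper63)

Trace descent of a self-adjoint alternating form to the extension field.
-/

set_option autoImplicit false

namespace Cfsg.Agent.Lib.Helper63_SpExt_QA

/-- An element of a finite separable extension is determined by the traces of its multiples. -/
theorem eq_of_trace {F E : Type*} [Field F] [Field E] [Algebra F E] [FiniteDimensional F E]
    [Algebra.IsSeparable F E] {c c' : E}
    (h : ∀ a : E, Algebra.trace F E (a * c) = Algebra.trace F E (a * c')) : c = c' := by
  have hnd := traceForm_nondegenerate F E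
  rw [← sub_eq_zero]
  apply hnd.2
  intro a
  rw [Algebra.traceForm_apply, mul_sub, map_sub, h a, sub_self]

/-- QA: trace descent of a self-adjoint alternating form to the extension field -/
theorem QA {F E V : Type*} [Field F] [Field E] [Algebra F E] [FiniteDimensional F E]
    [Algebra.IsSeparable F E] [AddCommGroup V] [Module F V] [Module E V] [IsScalarTower F E V]
    (B : LinearMap.BilinForm F V) (hsa : ∀ (a : E) (u v : V), B (a • u) v = B u (a • v))
    (halt : ∀ (a : E) (v : V), B (a • v) v = 0) :
    ∃ BE : LinearMap.BilinForm E V, (∀ v, BE v v = 0) ∧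
      (∀ (a : E) (u v : V), Algebra.trace F E (a * BE u v) = B (a • u) v) ∧
      (B.Nondegenerate → BE.Nondegenerate) := by
  classical
  have hnd := traceForm_nondegenerate F E
  -- the functional `a ↦ B (a • u) v`
  let φ : V → V → (E →ₗ[F] F) := fun u v =>
    { toFun := fun a => B (a • u) v
      map_add' := fun a b => by rw [add_smul, map_add, LinearMap.add_apply]
      map_smul' := fun c a => by
        rw [smul_assoc, map_smul, LinearMap.smul_apply, RingHom.id_apply] }
  let β : V → V → E := fun u v => ((Algebra.traceForm F E).toDual hnd).symm (φ u v)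
  have hβ : ∀ (a : E) (u v : V), Algebra.trace F E (a * β u v) = B (a • u) v := by
    intro a u v
    have h1 := LinearMap.BilinForm.apply_toDual_symm_apply (B := Algebra.traceForm F E)
      (hB := hnd) (φ u v) a
    rw [Algebra.traceForm_apply, mul_comm] at h1
    exact h1
  let BE : LinearMap.BilinForm E V := LinearMap.mk₂ E β
    (fun u u' v => by
      apply eq_of_trace (F := F)
      intro a
      rw [mul_add, map_add, hβ, hβ, hβ, smul_add, map_add, LinearMap.add_apply])
    (fun b u v => by
      apply eq_of_trace (F := F)
      intro a
      rw [smul_eq_mul, ← mul_assoc, hβ, hβ, mul_smul])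
    (fun u v v' => by
      apply eq_of_trace (F := F)
      intro a
      rw [mul_add, map_add, hβ, hβ, hβ, map_add])
    (fun b u v => by
      apply eq_of_trace (F := F)
      intro a
      rw [smul_eq_mul, ← mul_assoc, hβ, hβ, ← hsa, mul_comm, mul_smul])
  have hBE : ∀ u v, BE u v = β u v := fun u v => rfl
  refine ⟨BE, fun v => ?_, fun a u v => ?_, fun hB => ⟨fun u hu => ?_, fun v hv => ?_⟩⟩
  · apply eq_of_trace (F := F)
    intro a
    rw [hBE, hβ, halt, mul_zero, map_zero]
  · rw [hBE, hβ]
  · apply hB.1
    intro v
    have h1 := hβ 1 u v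
    rw [one_smul, ← hBE, hu v, mul_zero, map_zero] at h1
    exact h1.symm
  · apply hB.2
    intro u
    have h1 := hβ 1 u v
    rw [one_smul, ← hBE, hv u, mul_zero, map_zero] at h1
    exact h1.symm

end Cfsg.Agent.Lib.Helper63_SpExt_QA
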