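import Mathlib
import Cfsg.Prelude.Def_GeometricClasses
import Cfsg.Agent.Lib.Helper13_SpExtDefs
import Cfsg.Agent.Lib.Helper63_SpExt_QA
import Cfsg.Agent.Lib.Helper43_AltEven
import Cfsg.Agent.Lib.Helper94_Bridge

/-!
# Package QB2 of helper13's S5975 project (helper20)

A nondegenerate `K`-invariant subspace of the standard alternating space has dimension divisible by
`2k` (`K` a self-adjoint field of matrices of degree `k`).
-/

set_option autoImplicit false

namespace Cfsg.Agent.Lib.Helper20_SpExt_QB2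

open Matrix Cfsg.Agent.Lib.Helper13_GUSpDefs Cfsg.Agent.Lib.Helper13_SpExtDefs
  Cfsg.Agent.Lib.Helper13_Symp

/-- abstract form: a space with a nondegenerate alternating `F`-form for which a separable
extension field `E` acts by self-adjoint, alternating-compatible maps has `F`-dimension divisible
by `2 [E:F]`. -/
theorem two_mul_finrank_dvd {F E V : Type*} [Field F] [Field E] [Algebra F E] [FiniteDimensional F E]
    [Algebra.IsSeparable F E] [AddCommGroup V] [Module F V] [Module E V] [IsScalarTower F E V]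
    [FiniteDimensional F V]
    (B : LinearMap.BilinForm F V) (hnd : B.Nondegenerate)
    (hsa : ∀ (a : E) (u v : V), B (a • u) v = B u (a • v))
    (halt : ∀ (a : E) (v : V), B (a • v) v = 0) :
    2 * Module.finrank F E ∣ Module.finrank F V := by
  obtain ⟨BE, h1, -, h3⟩ := Cfsg.Agent.Lib.Helper63_SpExt_QA.QA B hsa halt
  haveI hfd : FiniteDimensional E V := FiniteDimensional.right F E V
  have heven := Cfsg.Agent.Lib.Helper43_AltEven.even_finrank_of_alt (Module.finrank E V) V BE h1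
    (h3 hnd) rfl
  rw [← Module.finrank_mul_finrank F E V]
  obtain ⟨m, hm⟩ := heven
  exact ⟨m, by rw [hm]; ring⟩

/-- a field subalgebra is a field (any index type) -/
theorem isField {F : Type*} [Field F] {ι : Type} [Fintype ι] [DecidableEq ι] [Nonempty ι]
    (K : Subalgebra F (Matrix ι ι F)) {r : ℕ}
    (hK : Cfsg.Geo.IsFieldSubalgebra r K) : IsField K := by
  refine ⟨⟨0, 1, ?_⟩, ?_, ?_⟩
  · intro h
    have := congrArg Subtype.val h
    simp at this
  · intro x y
    exact Subtype.ext (hK.comm x.1 x.2 y.1 y.2)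
  · intro a ha
    have ha' : (a : Matrix ι ι F) ≠ 0 := fun h => ha (Subtype.ext h)
    obtain ⟨y, hy, hxy⟩ := hK.inv a.1 a.2 ha'
    exact ⟨⟨y, hy⟩, Subtype.ext hxy⟩

/-- the `K`-module structure on a `K`-invariant subspace -/
@[reducible] def invModule {F : Type*} [Field F] {ι : Type} [Fintype ι] [DecidableEq ι]
    (K : Subalgebra F (Matrix ι ι F)) (W : Submodule F (ι → F))
    (hW : ∀ a ∈ K, ∀ w ∈ W, a *ᵥ w ∈ W) : Module K W where
  smul a w := ⟨a.1 *ᵥ w.1, hW a.1 a.2 w.1 w.2⟩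
  one_smul w := Subtype.ext (by
    change (1 : Matrix ι ι F) *ᵥ w.1 = w.1
    rw [Matrix.one_mulVec])
  mul_smul a b w := Subtype.ext (by
    change (a.1 * b.1) *ᵥ w.1 = a.1 *ᵥ (b.1 *ᵥ w.1)
    rw [Matrix.mulVec_mulVec])
  smul_zero a := Subtype.ext (by
    change a.1 *ᵥ (0 : ι → F) = 0
    rw [Matrix.mulVec_zero])
  smul_add a v w := Subtype.ext (by
    change a.1 *ᵥ (v.1 + w.1) = a.1 *ᵥ v.1 + a.1 *ᵥ w.1
    rw [Matrix.mulVec_add])
  add_smul a b w := Subtype.ext (by
    change (a.1 + b.1) *ᵥ w.1 = a.1 *ᵥ w.1 + b.1 *ᵥ w.1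
    rw [Matrix.add_mulVec])
  zero_smul w := Subtype.ext (by
    change (0 : Matrix ι ι F) *ᵥ w.1 = 0
    rw [Matrix.zero_mulVec])

/-- QB2: a nondegenerate `K`-invariant subspace has dimension divisible by `2k` -/
theorem QB2 {F : Type*} [Field F] [Fintype F] (d k : ℕ) (hd : 1 ≤ d)
    (K : Subalgebra F (Matrix (Fin d ⊕ Fin d) (Fin d ⊕ Fin d) F)) (hK : Cfsg.Geo.IsFieldSubalgebra k K)
    (hKf : Cfsg.Geo.IsSelfAdjointFor (Cfsg.sympForm d F) K)
    (hKalt : ∀ a ∈ K, ∀ v : Fin d ⊕ Fin d → F, Cfsg.sympForm d F (a *ᵥ v) v = 0)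
    (W : Submodule F (Fin d ⊕ Fin d → F)) (hW : ∀ a ∈ K, ∀ w ∈ W, a *ᵥ w ∈ W)
    (hnd : ∀ w ∈ W, (∀ w' ∈ W, Cfsg.sympForm d F w w' = 0) → w = 0) :
    2 * k ∣ Module.finrank F W := by
  classical
  haveI : Nonempty (Fin d ⊕ Fin d) := ⟨Sum.inl ⟨0, hd⟩⟩
  letI : Field K := (isField K hK).toField
  letI : Module K W := invModule K W hW
  have hsm : ∀ (a : K) (w : W), ((a • w : W) : Fin d ⊕ Fin d → F) = a.1 *ᵥ w.1 := fun a w => rfl
  haveI : IsScalarTower F K W := ⟨fun c a w => Subtype.ext (by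
    rw [hsm, Submodule.coe_smul, hsm]
    change (c • a.1) *ᵥ w.1 = c • (a.1 *ᵥ w.1)
    rw [Matrix.smul_mulVec])⟩
  haveI : Algebra.IsSeparable F K := Algebra.IsAlgebraic.isSeparable_of_perfectField
  let B : LinearMap.BilinForm F W := (Cfsg.Agent.Lib.Helper94_Bridge.Bsymp d F).restrict W
  have hB : ∀ u v : W, B u v = Cfsg.sympForm d F u.1 v.1 := fun u v => by
    change Cfsg.Agent.Lib.Helper94_Bridge.Bsymp d F u.1 v.1 = _
    rw [Cfsg.Agent.Lib.Helper94_Bridge.Bsymp_apply]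
  have hBnd : B.Nondegenerate := by
    refine ⟨fun u hu => ?_, fun v hv => ?_⟩
    · apply Subtype.ext
      apply hnd u.1 u.2
      intro w' hw'
      have := hu ⟨w', hw'⟩
      rwa [hB] at this
    · apply Subtype.ext
      apply hnd v.1 v.2
      intro w' hw'
      have := hv ⟨w', hw'⟩
      rw [hB] at this
      rw [sympForm_swap, this, neg_zero]
  have h := two_mul_finrank_dvd (F := F) (E := K) (V := W) B hBnd
    (fun a u v => by rw [hB, hB, hsm, hsm]; exact hKf a.1 a.2 u.1 v.1)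
    (fun a v => by rw [hB, hsm]; exact hKalt a.1 a.2 v.1)
  have hk : Module.finrank F K = k := hK.finrank_eq
  rw [hk] at h
  exact h

end Cfsg.Agent.Lib.Helper20_SpExt_QB2
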