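import Mathlib
import Cfsg.Prelude.Def_GeometricClasses
import Cfsg.Agent.Lib.Helper13_SpExtDefs
import Cfsg.Agent.Lib.Helper20_SpExt_QB2

/-!
# Package QB3 of helper13's S5975 project (helper20)

A symplectic matrix `g` of order prime to the characteristic that centralises the self-adjoint field
`K` of degree `k` has `rank (g - 1)` divisible by `2k`.
-/

set_option autoImplicit false

namespace Cfsg.Agent.Lib.Helper20_SpExt_QB3

open Matrix Cfsg.Agent.Lib.Helper13_GUSpDefs Cfsg.Agent.Lib.Helper13_SpExtDefs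
  Cfsg.Agent.Lib.Helper13_Symp

/-- `r • 1 - (1 + g + ... + g^(r-1))` is a left multiple of `g - 1`. -/
theorem exists_smul_one_sub_geom {R : Type*} [Ring R] (g : R) (r : ℕ) :
    ∃ M : R, (r : R) - ∑ i ∈ Finset.range r, g ^ i = (g - 1) * M := by
  refine ⟨-∑ i ∈ Finset.range r, ∑ j ∈ Finset.range i, g ^ j, ?_⟩
  rw [mul_neg, Finset.mul_sum]
  have h : ∀ i ∈ Finset.range r, (g - 1) * ∑ j ∈ Finset.range i, g ^ j = g ^ i - 1 :=
    fun i _ => mul_geom_sum g i
  rw [Finset.sum_congr rfl h, Finset.sum_sub_distrib, Finset.sum_const, Finset.card_range,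
    nsmul_eq_mul, mul_one]
  abel

/-- QB3: a symplectic matrix of order prime to the characteristic centralising `K` -/
theorem QB3 {F : Type*} [Field F] [Fintype F] (d k : ℕ) (hd : 1 ≤ d)
    (K : Subalgebra F (Matrix (Fin d ⊕ Fin d) (Fin d ⊕ Fin d) F)) (hK : Cfsg.Geo.IsFieldSubalgebra k K)
    (hKf : Cfsg.Geo.IsSelfAdjointFor (Cfsg.sympForm d F) K)
    (hKalt : ∀ a ∈ K, ∀ v : Fin d ⊕ Fin d → F, Cfsg.sympForm d F (a *ᵥ v) v = 0)
    (g : Matrix (Fin d ⊕ Fin d) (Fin d ⊕ Fin d) F) (hg : g ∈ symplecticGroup (Fin d) F)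
    (r : ℕ) (hr0 : 0 < r) (hrF : (r : F) ≠ 0) (hgr : g ^ r = 1) (hc : ∀ a ∈ K, g * a = a * g) :
    2 * k ∣ (g - 1).rank := by
  classical
  let W : Submodule F (Fin d ⊕ Fin d → F) := LinearMap.range (g - 1).mulVecLin
  have hWmem : ∀ w, w ∈ W ↔ ∃ x, (g - 1) *ᵥ x = w := fun w => by
    change w ∈ LinearMap.range (g - 1).mulVecLin ↔ _
    rw [LinearMap.mem_range]
    rfl
  have hiso := fun u v => sympForm_mulVec_mulVec_of_mem d hg u v
  -- `W` is orthogonal to the fixed vectors of `g`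
  have hperp : ∀ w ∈ W, ∀ u, g *ᵥ u = u → Cfsg.sympForm d F w u = 0 := by
    intro w hw u hu
    obtain ⟨x, rfl⟩ := (hWmem w).1 hw
    rw [Matrix.sub_mulVec, Matrix.one_mulVec, sympForm_sub_left]
    nth_rewrite 1 [← hu]
    rw [hiso, sub_self]
  -- the norm
  let N : Matrix (Fin d ⊕ Fin d) (Fin d ⊕ Fin d) F := ∑ i ∈ Finset.range r, g ^ i
  have hN : (g - 1) * N = 0 := by
    change (g - 1) * ∑ i ∈ Finset.range r, g ^ i = 0
    rw [mul_geom_sum, hgr, sub_self]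
  obtain ⟨M, hM⟩ := exists_smul_one_sub_geom g r
  have hdec : ∀ v : Fin d ⊕ Fin d → F, (r : F) • v = N *ᵥ v + (g - 1) *ᵥ (M *ᵥ v) := by
    intro v
    rw [Matrix.mulVec_mulVec, ← hM, Matrix.sub_mulVec, add_sub_cancel]
    have : ((r : Matrix (Fin d ⊕ Fin d) (Fin d ⊕ Fin d) F)) = (r : F) • (1 : Matrix (Fin d ⊕ Fin d) (Fin d ⊕ Fin d) F) := by
      rw [Nat.cast_smul_eq_nsmul, nsmul_eq_mul, mul_one]
    rw [this, Matrix.smul_mulVec, Matrix.one_mulVec]
  have hNfix : ∀ v : Fin d ⊕ Fin d → F, g *ᵥ (N *ᵥ v) = N *ᵥ v := by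
    intro v
    have h1 : (g - 1) *ᵥ (N *ᵥ v) = 0 := by
      rw [Matrix.mulVec_mulVec, hN, Matrix.zero_mulVec]
    rw [Matrix.sub_mulVec, Matrix.one_mulVec, sub_eq_zero] at h1
    exact h1
  have hrank : (g - 1).rank = Module.finrank F W := rfl
  rw [hrank]
  apply Cfsg.Agent.Lib.Helper20_SpExt_QB2.QB2 d k hd K hK hKf hKalt W
  · intro a ha w hw
    obtain ⟨x, rfl⟩ := (hWmem w).1 hw
    rw [hWmem]
    refine ⟨a *ᵥ x, ?_⟩
    rw [Matrix.mulVec_mulVec, Matrix.mulVec_mulVec, sub_mul, mul_sub, hc a ha, one_mul, mul_one]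
  · intro w hw hw0
    -- `w` is orthogonal to everything
    have hall : ∀ v, Cfsg.sympForm d F w v = 0 := by
      intro v
      have h1 : Cfsg.sympForm d F w ((r : F) • v) = 0 := by
        rw [hdec v, sympForm_add_right, hperp w hw _ (hNfix v),
          hw0 _ ((hWmem _).2 ⟨M *ᵥ v, rfl⟩), add_zero]
      rw [sympForm_smul_right] at h1
      exact (mul_eq_zero.1 h1).resolve_left hrF
    have hnd := Cfsg.Agent.Lib.Helper94_Bridge.Bsymp_nondegenerate (F := F) d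
    apply hnd.1
    intro v
    rw [Cfsg.Agent.Lib.Helper94_Bridge.Bsymp_apply]
    exact hall v

end Cfsg.Agent.Lib.Helper20_SpExt_QB3
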