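import Mathlib
import Cfsg.Agent.Lib.Helper68_StOpDefs

/-!
S2548 market (architect helper27), package GEN: `Ω⁺_{2m}(q) = ⟨B, N⟩` for `m ≥ 3`, from helper14's theorem that
`Ω` is generated by the Siegel transformations (helper20; port of helper38's `Helper38_StOo_GEN`).
-/

set_option autoImplicit false
set_option linter.unusedSectionVars false

namespace Cfsg.Agent.Lib.Helper20_StOp_GEN

open Matrix Cfsg.Agent.Lib.Helper68_MatGrp Cfsg.Agent.Lib.Helper68_StOpDefs

section general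

variable {ι : Type} [Fintype ι] [DecidableEq ι] {F : Type*} [Field F] [Fintype F]

/-- A subgroup of `Ω` containing every element of `Ω` whose matrix is a Siegel matrix is everything. -/
theorem eq_top_of_siegel (Q : QuadraticForm F (ι → F))
    (hQ : (QuadraticMap.polarBilin Q).Nondegenerate) (hn : 5 ≤ Fintype.card ι)
    (K : Subgroup ↥(Cfsg.Omega F (⇑Q)))
    (hK : ∀ g : ↥(Cfsg.Omega F (⇑Q)), (∃ (u v : ι → F) (c : F), Q u = 0 ∧
      ((g.1 : Matrix.GeneralLinearGroup ι F) : Matrix ι ι F) = Cfsg.siegelMatrix (⇑Q) u v c) → g ∈ K) :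
    K = ⊤ := by
  have hΩ := Cfsg.Agent.Lib.Helper14_SiegelOmega2.omega_eq_siegelGroup Q hQ hn
  have h1 : Cfsg.Agent.Lib.Helper14_Siegel.siegelGroup Q ≤ K.map (Subgroup.subtype _) := by
    rw [Cfsg.Agent.Lib.Helper14_Siegel.siegelGroup, Subgroup.closure_le]
    intro x hx
    have hxΩ : x ∈ Cfsg.Omega F (⇑Q) := by
      rw [hΩ]
      exact Subgroup.subset_closure hx
    obtain ⟨u, v, c, hu, -, -, hxm⟩ := hx
    exact ⟨⟨x, hxΩ⟩, hK ⟨x, hxΩ⟩ ⟨u, v, c, hu, hxm⟩, rfl⟩
  have hle : Cfsg.Omega F (⇑Q) ≤ K.map (Subgroup.subtype _) := by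
    intro x hx
    apply h1
    rw [← hΩ]
    exact hx
  rw [eq_top_iff]
  intro g _
  obtain ⟨k, hk, hkg⟩ := hle g.2
  have : k = g := Subtype.ext hkg
  rw [← this]
  exact hk

end general

variable {m : ℕ} {F : Type*} [Field F] [Fintype F]

theorem siegelMatrix_zero_left (v : I m → F) (c : F) :
    Cfsg.siegelMatrix (⇑(QP m F)) 0 v c = 1 := by
  have hp : Cfsg.polarVec (⇑(QP m F)) 0 = 0 := by
    funext b
    unfold Cfsg.polarVec
    rw [polar_QP]
    simp
  unfold Cfsg.siegelMatrix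
  rw [hp]
  ext a b
  simp

theorem sup_eq_top_of_gen (hm : 3 ≤ m)
    (hA : ∀ a : I m, ∃ n ∈ Subgroup.closure (Set.range (ss (m := m) (F := F))), ∃ ε : F,
      φ m F n *ᵥ (Pi.single (ie ⟨0, by omega⟩) 1) = Pi.single a ε)
    (hB : ∀ w : I m → F, w ≠ 0 → QP m F w = 0 →
      ∃ b ∈ Boo m F, ∃ a : I m, ∃ α : F, φ m F b *ᵥ (Pi.single a α) = w)
    (hX : ∀ g : GO m F, (∃ (v : I m → F) (β c : F), φ m F g =
      Cfsg.siegelMatrix (⇑(QP m F)) (Pi.single (ie ⟨0, by omega⟩) β) v c) → g ∈ Boo m F) :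
    Boo m F ⊔ Noo m F = ⊤ := by
  have hQ := Cfsg.Agent.Lib.Helper14_POmegaSimple.nondegenerate_qfPlus (F := F) m
  have hcard : 5 ≤ Fintype.card (I m) := by
    rw [card_I]; omega
  apply eq_top_of_siegel (QP m F) hQ hcard _
  rintro g ⟨u, v, c, hu, hg⟩
  have hg' : φ m F g = Cfsg.siegelMatrix (⇑(QP m F)) u v c := hg
  by_cases hu0 : u = 0
  · subst hu0
    rw [siegelMatrix_zero_left] at hg'
    have : g = 1 := by
      apply φ_injective
      rw [hg', map_one]
    rw [this]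
    exact one_mem _
  · obtain ⟨b, hb, a, α, hbα⟩ := hB u hu0 hu
    obtain ⟨n, hn, ε, hnε⟩ := hA a
    have hbH : b ∈ Boo m F ⊔ Noo m F := (le_sup_left : Boo m F ≤ _) hb
    have hnH : n ∈ Boo m F ⊔ Noo m F :=
      (le_sup_right : Noo m F ≤ _) ((le_sup_left : _ ≤ Noo m F) hn)
    have hinv : ∀ x : GO m F, φ m F x⁻¹ * φ m F x = 1 := by
      intro x
      rw [← map_mul, inv_mul_cancel, map_one]
    have hε : ε ≠ 0 := by
      rintro rfl
      have h1 : φ m F n *ᵥ (Pi.single (ie ⟨0, by omega⟩) (1 : F)) = 0 := by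
        rw [hnε]; simp
      have h3 := congrArg (fun w => φ m F n⁻¹ *ᵥ w) h1
      simp only [Matrix.mulVec_mulVec, Matrix.mulVec_zero] at h3
      rw [hinv, Matrix.one_mulVec] at h3
      have := congrFun h3 (ie ⟨0, by omega⟩)
      simp at this
    set hh : GO m F := b * n with hhdef
    have hhH : hh ∈ Boo m F ⊔ Noo m F := Subgroup.mul_mem _ hbH hnH
    have hu' : u = φ m F hh *ᵥ (Pi.single (ie ⟨0, by omega⟩) (α / ε)) := by
      have e1 : (Pi.single (ie ⟨0, by omega⟩) (α / ε) : I m → F) =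
          (α / ε) • (Pi.single (ie ⟨0, by omega⟩) (1 : F)) := by
        ext x
        simp only [Pi.smul_apply, Pi.single_apply, smul_eq_mul]
        split_ifs <;> simp
      rw [hhdef, map_mul, ← Matrix.mulVec_mulVec, e1, Matrix.mulVec_smul, hnε, ← hbα]
      congr 1
      ext x
      simp only [Pi.smul_apply, Pi.single_apply, smul_eq_mul]
      split_ifs
      · field_simp
      · simp
    -- the conjugate `hh⁻¹ * g * hh` is a Siegel transformation centred at `e_0`
    have hconj : φ m F (hh⁻¹ * g * hh) = Cfsg.siegelMatrix (⇑(QP m F))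
        (Pi.single (ie ⟨0, by omega⟩) (α / ε)) (φ m F hh⁻¹ *ᵥ v) c := by
      have key := Cfsg.Agent.Lib.Helper14_Siegel.conj_siegelMatrix (QP m F) (hh⁻¹ : GO m F).1 u v c
      have e0 : ((hh⁻¹ : GO m F).1)⁻¹ = hh.1 := by
        rw [InvMemClass.coe_inv, inv_inv]
      rw [e0] at key
      have e2 : φ m F hh⁻¹ *ᵥ u = Pi.single (ie ⟨0, by omega⟩) (α / ε) := by
        rw [hu', Matrix.mulVec_mulVec, hinv, Matrix.one_mulVec]
      rw [map_mul, map_mul, hg', ← e2]
      exact key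
    have hmem : hh⁻¹ * g * hh ∈ Boo m F := hX _ ⟨_, _, _, hconj⟩
    have : g = hh * (hh⁻¹ * g * hh) * hh⁻¹ := by group
    rw [this]
    exact Subgroup.mul_mem _ (Subgroup.mul_mem _ hhH ((le_sup_left : Boo m F ≤ _) hmem))
      (Subgroup.inv_mem _ hhH)

end Cfsg.Agent.Lib.Helper20_StOp_GEN
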