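import Mathlib
import Cfsg.Agent.Lib.Helper22_StOmDefs
import Cfsg.Agent.Lib.Helper14_SiegelOmega2
import Cfsg.Agent.Lib.Helper20_StOp_GEN

/-!
S2549 market (architect helper22), package GEN: `Ω⁻_{2m+2}(q) = ⟨B, N⟩` for `m ≥ 2`, from helper14's theorem that
`Ω` is generated by the Siegel transformations (helper20; port of `Helper38_StOo_GEN` / `Helper20_StOp_GEN`).
-/

set_option autoImplicit false
set_option linter.unusedSectionVars false

namespace Cfsg.Agent.Lib.Helper20_StOm_GEN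

open Matrix Cfsg.Agent.Lib.Helper68_MatGrp Cfsg.Agent.Lib.Helper22_BlkGrp Cfsg.Agent.Lib.Helper22_StOmDefs

variable {m : ℕ} {F : Type*} [Field F] [Fintype F] {A B : F} [Fact (Aniso A B)]

theorem siegelMatrix_zero_left (v : I m → F) (c : F) :
    Cfsg.siegelMatrix (⇑(Qm m F A B)) 0 v c = 1 := by
  have hp : Cfsg.polarVec (⇑(Qm m F A B)) 0 = 0 := by
    funext b
    unfold Cfsg.polarVec
    rw [polar_Qm]
    simp
  unfold Cfsg.siegelMatrix
  rw [hp]
  ext a b
  simp

theorem card_I : Fintype.card (I m) = 2 * m + 2 := by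
  simp [I]; ring

theorem sup_eq_top_of_gen (hm : 2 ≤ m)
    (hA : ∀ a : I m, ¬ IsPl a → ∃ n ∈ Subgroup.closure (Set.range (ss (m := m) (F := F) A B)), ∃ ε : F,
      φ m F A B n *ᵥ (Pi.single (ie ⟨0, by omega⟩) 1) = Pi.single a ε)
    (hB : ∀ w : I m → F, w ≠ 0 → Qm m F A B w = 0 →
      ∃ b ∈ Boo m F A B, ∃ a : I m, ¬ IsPl a ∧ ∃ α : F, φ m F A B b *ᵥ (Pi.single a α) = w)
    (hX : ∀ g : GO m F A B, (∃ (v : I m → F) (β c : F), φ m F A B g =
      Cfsg.siegelMatrix (⇑(Qm m F A B)) (Pi.single (ie ⟨0, by omega⟩) β) v c) → g ∈ Boo m F A B) :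
    Boo m F A B ⊔ Noo m F A B = ⊤ := by
  have hQ := Qm_nondeg (m := m) (F := F) A B
  have hcard : 5 ≤ Fintype.card (I m) := by
    rw [card_I]; omega
  apply Cfsg.Agent.Lib.Helper20_StOp_GEN.eq_top_of_siegel (Qm m F A B) hQ hcard _
  rintro g ⟨u, v, c, hu, hg⟩
  have hg' : φ m F A B g = Cfsg.siegelMatrix (⇑(Qm m F A B)) u v c := hg
  by_cases hu0 : u = 0
  · subst hu0
    rw [siegelMatrix_zero_left] at hg'
    have : g = 1 := by
      apply φ_injective
      rw [hg', map_one]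
    rw [this]
    exact one_mem _
  · obtain ⟨b, hb, a, ha, α, hbα⟩ := hB u hu0 hu
    obtain ⟨n, hn, ε, hnε⟩ := hA a ha
    have hbH : b ∈ Boo m F A B ⊔ Noo m F A B := (le_sup_left : Boo m F A B ≤ _) hb
    have hnH : n ∈ Boo m F A B ⊔ Noo m F A B :=
      (le_sup_right : Noo m F A B ≤ _) ((le_sup_left : _ ≤ Noo m F A B) hn)
    have hinv : ∀ x : GO m F A B, φ m F A B x⁻¹ * φ m F A B x = 1 := by
      intro x
      rw [← map_mul, inv_mul_cancel, map_one]
    have hε : ε ≠ 0 := by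
      rintro rfl
      have h1 : φ m F A B n *ᵥ (Pi.single (ie ⟨0, by omega⟩) (1 : F)) = 0 := by
        rw [hnε]; simp
      have h3 := congrArg (fun w => φ m F A B n⁻¹ *ᵥ w) h1
      simp only [Matrix.mulVec_mulVec, Matrix.mulVec_zero] at h3
      rw [hinv, Matrix.one_mulVec] at h3
      have := congrFun h3 (ie ⟨0, by omega⟩)
      simp at this
    set hh : GO m F A B := b * n with hhdef
    have hhH : hh ∈ Boo m F A B ⊔ Noo m F A B := Subgroup.mul_mem _ hbH hnH
    have hu' : u = φ m F A B hh *ᵥ (Pi.single (ie ⟨0, by omega⟩) (α / ε)) := by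
      have e1 : (Pi.single (ie ⟨0, by omega⟩) (α / ε) : I m → F) =
          (α / ε) • (Pi.single (ie ⟨0, by omega⟩) (1 : F)) := by
        ext x
        simp only [Pi.smul_apply, Pi.single_apply, smul_eq_mul]
        split_ifs <;> simp
      rw [hhdef, map_mul, ← Matrix.mulVec_mulVec, e1, Matrix.mulVec_smul, hnε, ← hbα]
      congr 1
      ext x
      simp only [Pi.smul_apply, Pi.single_apply, smul_eq_mul]
      split_ifs
      · field_simp
      · simp
    -- the conjugate `hh⁻¹ * g * hh` is a Siegel transformation centred at `e_0`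
    have hconj : φ m F A B (hh⁻¹ * g * hh) = Cfsg.siegelMatrix (⇑(Qm m F A B))
        (Pi.single (ie ⟨0, by omega⟩) (α / ε)) (φ m F A B hh⁻¹ *ᵥ v) c := by
      have key := Cfsg.Agent.Lib.Helper14_Siegel.conj_siegelMatrix (Qm m F A B)
        (hh⁻¹ : GO m F A B).1 u v c
      have e0 : ((hh⁻¹ : GO m F A B).1)⁻¹ = hh.1 := by
        rw [InvMemClass.coe_inv, inv_inv]
      rw [e0] at key
      have e2 : φ m F A B hh⁻¹ *ᵥ u = Pi.single (ie ⟨0, by omega⟩) (α / ε) := by
        rw [hu', Matrix.mulVec_mulVec, hinv, Matrix.one_mulVec]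
      rw [map_mul, map_mul, hg', ← e2]
      exact key
    have hmem : hh⁻¹ * g * hh ∈ Boo m F A B := hX _ ⟨_, _, _, hconj⟩
    have : g = hh * (hh⁻¹ * g * hh) * hh⁻¹ := by group
    rw [this]
    exact Subgroup.mul_mem _ (Subgroup.mul_mem _ hhH ((le_sup_left : Boo m F A B ≤ _) hmem))
      (Subgroup.inv_mem _ hhH)

end Cfsg.Agent.Lib.Helper20_StOm_GEN
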