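import Mathlib
import Cfsg.Agent.Lib.Helper22_StOmDefs

/-!
# S2549 market StOm (architect helper22), package GENB (helper20)

Every non-zero singular vector of the minus-type orthogonal space is `b (α e_a)` with `b` in the Borel subgroup `Boo` of
`Ω⁻_{2m+2}(F)` and `a` outside the anisotropic plane.  Port of `Helper61_StOp_GENB` / `Helper88_StOo_GENB`: `a` = the index of
maximal height in the support (not in the plane since the plane is anisotropic); the plane coordinates are killed by one
twisted root element, the other coordinates outside `{a, op a}` one at a time by upper triangular long root elements, and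
the last one vanishes because the vector is singular.
-/

set_option autoImplicit false
set_option linter.unusedSectionVars false
set_option linter.unusedSimpArgs false

namespace Cfsg.Agent.Lib.Helper20_StOm_GENB

open Matrix Cfsg.Agent.Lib.Helper68_MatGrp Cfsg.Agent.Lib.Helper22_BlkGrp Cfsg.Agent.Lib.Helper22_StOmDefs

variable {m : ℕ} {F : Type*} [Field F] [Fintype F] {A B : F} [Fact (Aniso A B)]

/-- long root elements `x_{ε_p - ε_r}` with `ht p < ht r` are upper triangular -/
theorem lx_mem_Boo_of_ht {p r : I m} (h : LxOK p r) (hlt : ht m p < ht m r) (t : F) :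
    lx A B p r t ∈ Boo m F A B := by
  rw [mem_Boo]
  intro a b hab
  rw [lx_val h]
  unfold lxM
  have hab' : a ≠ b := fun h => by rw [h] at hab; exact lt_irrefl _ hab
  rw [Matrix.sub_apply, Matrix.add_apply, Matrix.one_apply_ne hab', Matrix.single_apply,
    Matrix.single_apply, if_neg, if_neg]
  · simp
  · rintro ⟨h1, h2⟩
    rw [← h1, ← h2, ht_op, ht_op] at hab
    have := ht_le r
    have := ht_le p
    omega
  · rintro ⟨h1, h2⟩
    rw [← h1, ← h2] at hab
    omega

/-- twisted root elements `x_{ε_c}` with `ht c < m` are upper triangular -/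
theorem sx_mem_Boo_of_ht {c : I m} (hc : ¬ IsPl c) (hlt : ht m c < m) (s t : F) :
    sx A B c s t ∈ Boo m F A B := by
  rw [mem_Boo]
  intro a b hab
  rw [sx_val hc]
  unfold sxM
  have hab' : a ≠ b := fun h => by rw [h] at hab; exact lt_irrefl _ hab
  have hop : ht m (op c) = 2 * m - ht m c := ht_op c
  simp only [Matrix.sub_apply, Matrix.add_apply, Matrix.one_apply_ne hab', Matrix.single_apply]
  rw [if_neg, if_neg, if_neg, if_neg, if_neg]
  · simp
  all_goals
    rintro ⟨h1, h2⟩
    rw [← h1, ← h2] at hab
    try simp only [ht_d0, ht_d1] at hab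
    omega

/-- the target property -/
def P (A B : F) [Fact (Aniso A B)] (w : I m → F) : Prop :=
  ∃ b ∈ Boo m F A B, ∃ a : I m, ¬ IsPl a ∧ ∃ α : F, φ m F A B b *ᵥ (Pi.single a α) = w

theorem P_of_step (x : GO m F A B) (hx : x ∈ Boo m F A B) (w : I m → F)
    (h : P A B (φ m F A B x *ᵥ w)) : P A B w := by
  obtain ⟨b, hb, a, ha, α, e⟩ := h
  refine ⟨x⁻¹ * b, mul_mem (inv_mem hx) hb, a, ha, α, ?_⟩
  rw [map_mul, ← Matrix.mulVec_mulVec, e, Matrix.mulVec_mulVec, ← map_mul, inv_mul_cancel, map_one,
    Matrix.one_mulVec]

/-- the quadratic form of a vector supported on `{a, op a}`, `a` outside the plane -/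
theorem Q_of_supp (a : I m) (ha : ¬ IsPl a) (w : I m → F)
    (hs : ∀ c, w c ≠ 0 → c = a ∨ c = op a) :
    Qm m F A B w = w a * w (op a) := by
  have hd0 : w d0 = 0 := by
    by_contra h
    rcases hs _ h with e | e
    · exact ha (e ▸ isPl_d0)
    · exact ha (isPl_op.mp (e ▸ isPl_d0))
  have hd1 : w d1 = 0 := by
    by_contra h
    rcases hs _ h with e | e
    · exact ha (e ▸ isPl_d1)
    · exact ha (isPl_op.mp (e ▸ isPl_d1))
  have hn : nrm A B (w d0) (w d1) = 0 := by
    rw [hd0, hd1]; unfold nrm; ring
  have key : ∀ i : Fin m, (a = ie i ∨ a = jf i) → Qm m F A B w = w (ie i) * w (jf i) := by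
    intro i hi
    rw [Qm_apply, hn, add_zero, Finset.sum_eq_single i]
    · intro k _ hk
      have : w (ie k) = 0 := by
        by_contra h
        rcases hi with rfl | rfl
        · rcases hs _ h with e | e
          · exact hk (ie_injective e)
          · rw [op_ie] at e; exact ie_ne_jf k i e
        · rcases hs _ h with e | e
          · exact ie_ne_jf k i e
          · rw [op_jf] at e; exact hk (ie_injective e)
      rw [this, zero_mul]
    · intro h; exact absurd (Finset.mem_univ _) h
  rcases index_cases a with ⟨i, rfl⟩ | ⟨i, rfl⟩ | rfl | rfl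
  · rw [key i (Or.inl rfl), op_ie]
  · rw [key i (Or.inr rfl), op_jf, mul_comm]
  · exact absurd isPl_d0 ha
  · exact absurd isPl_d1 ha

/-- base case: support in `{a, op a}` -/
theorem base0 (a : I m) (ha : ¬ IsPl a) (w : I m → F) (hwa : w a ≠ 0)
    (hQ : Qm m F A B w = 0) (hs : ∀ c, w c ≠ 0 → c = a ∨ c = op a) : P A B w := by
  rw [Q_of_supp a ha w hs] at hQ
  have h0 : w (op a) = 0 := by
    rcases mul_eq_zero.mp hQ with h | h
    · exact absurd h hwa
    · exact h
  refine ⟨1, one_mem _, a, ha, w a, ?_⟩
  rw [map_one, Matrix.one_mulVec]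
  ext c
  rw [Pi.single_apply]
  split_ifs with h
  · rw [h]
  · by_contra hc
    rcases hs c (Ne.symm hc) with e | e
    · exact h e
    · rw [e] at hc; exact hc h0.symm

/-- the induction: kill the coordinates outside `{a, op a}` one at a time -/
theorem main (a : I m) (ha : ¬ IsPl a) (s : Finset (I m)) :
    ∀ w : I m → F, w a ≠ 0 → (∀ x, ht m a < ht m x → w x = 0) →
      Qm m F A B w = 0 → (∀ c, IsPl c → w c = 0) →
      (∀ c, w c ≠ 0 → c = a ∨ c = op a ∨ c ∈ s) → P A B w := by
  classical
  induction s using Finset.induction_on with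
  | empty =>
    intro w hwa htop hQ hpl hs
    refine base0 a ha w hwa hQ fun c hc => ?_
    rcases hs c hc with e | e | e
    · exact Or.inl e
    · exact Or.inr e
    · exact absurd e (Finset.notMem_empty c)
  | insert c s hcs ih =>
    intro w hwa htop hQ hpl hs
    by_cases hc : c = a ∨ c = op a ∨ w c = 0
    · refine ih w hwa htop hQ hpl fun c' hc' => ?_
      rcases hs c' hc' with e | e | e
      · exact Or.inl e
      · exact Or.inr (Or.inl e)
      · rcases Finset.mem_insert.mp e with e | e
        · rw [e] at hc'
          rcases hc with h | h | h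
          · exact Or.inl (e.trans h)
          · exact Or.inr (Or.inl (e.trans h))
          · exact absurd h hc'
        · exact Or.inr (Or.inr e)
    · push Not at hc
      obtain ⟨hca, hcoa, hwc⟩ := hc
      have hopa : op a ≠ a := op_ne_self ha
      have hcpl : ¬ IsPl c := fun h => hwc (hpl c h)
      have hoapl : ¬ IsPl (op a) := fun h => ha (isPl_op.mp h)
      -- `ht c < ht a`
      have h1 : ¬ ht m a < ht m c := fun h => hwc (htop c h)
      have h2 : ht m c ≠ ht m a := fun h => hca (eq_of_ht_eq h hcpl)
      have hlt : ht m c < ht m a := by omega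
      have hok : LxOK c a := ⟨hcpl, ha, fun e => hca e.symm, fun e => hcoa (by rw [e, op_op])⟩
      set t : F := -(w c / w a) with htdef
      have hx : lx A B c a t ∈ Boo m F A B := lx_mem_Boo_of_ht hok hlt t
      apply P_of_step _ hx
      have hw' : φ m F A B (lx A B c a t) *ᵥ w =
          w + Pi.single c (t * w a) - Pi.single (op a) (t * w (op c)) := by
        rw [lx_val hok, lxM_mulVec]
      have hQ' := φ_isom (lx A B c a t) w
      rw [hQ] at hQ'
      rw [hw'] at hQ' ⊢
      have hval : ∀ y, y ≠ op a →
          (w + Pi.single c (t * w a) - Pi.single (op a) (t * w (op c)) : I m → F) y =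
            if y = c then 0 else w y := by
        intro y hy
        simp only [Pi.add_apply, Pi.sub_apply, Pi.single_apply, if_neg hy, sub_zero]
        split_ifs with h
        · rw [h, htdef]; field_simp; ring
        · rw [add_zero]
      refine ih _ ?_ ?_ hQ' ?_ ?_
      · rw [hval a hopa.symm, if_neg (fun e => hca e.symm)]; exact hwa
      · intro y hy
        by_cases hyo : y = op a
        · -- then `w (op c) = 0`
          have h3 : w (op c) = 0 := by
            apply htop
            rw [hyo, ht_op] at hy
            rw [ht_op]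
            have := ht_le a
            have := ht_le c
            omega
          simp only [Pi.add_apply, Pi.sub_apply, Pi.single_apply, h3, mul_zero]
          rw [if_neg (fun e => hcoa (e.symm.trans hyo))]
          simp [htop y hy]
        · rw [hval y hyo]
          split_ifs
          · rfl
          · exact htop y hy
      · intro y hy
        have hyo : y ≠ op a := fun e => hoapl (e ▸ hy)
        rw [hval y hyo]
        split_ifs
        · rfl
        · exact hpl y hy
      · intro y hy
        by_cases hyo : y = op a
        · exact Or.inr (Or.inl hyo)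
        · rw [hval y hyo] at hy
          split_ifs at hy with h
          · exact absurd rfl hy
          · rcases hs y hy with e | e | e
            · exact Or.inl e
            · exact Or.inr (Or.inl e)
            · rcases Finset.mem_insert.mp e with e | e
              · exact absurd e h
              · exact Or.inr (Or.inr e)

/-- GENB. -/
theorem genB (w : I m → F) (hw : w ≠ 0) (hQ : Qm m F A B w = 0) :
    ∃ b ∈ Boo m F A B, ∃ a : I m, ¬ IsPl a ∧ ∃ α : F, φ m F A B b *ᵥ (Pi.single a α) = w := by
  classical
  have hex : ∃ c, w c ≠ 0 := by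
    by_contra h
    push Not at h
    exact hw (funext h)
  obtain ⟨a, hwa, htop⟩ : ∃ a, w a ≠ 0 ∧ ∀ x, ht m a < ht m x → w x = 0 := by
    obtain ⟨c0, hc0⟩ := hex
    have hne : (Finset.univ.filter (fun c : I m => w c ≠ 0)).Nonempty :=
      ⟨c0, Finset.mem_filter.mpr ⟨Finset.mem_univ _, hc0⟩⟩
    obtain ⟨a, ha, hmx⟩ := Finset.exists_max_image _ (fun c : I m => ht m c) hne
    refine ⟨a, (Finset.mem_filter.mp ha).2, fun x hx => ?_⟩
    by_contra hx0
    have := hmx x (Finset.mem_filter.mpr ⟨Finset.mem_univ _, hx0⟩)
    omega
  -- `a` is not in the plane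
  have ha : ¬ IsPl a := by
    intro hpl
    have hta : ht m a = m := ht_of_isPl hpl
    have hjf : ∀ i : Fin m, w (jf i) = 0 := by
      intro i
      apply htop
      rw [hta, ht_jf]
      have := i.2
      omega
    have hst : w d0 ≠ 0 ∨ w d1 ≠ 0 := by
      rcases hpl with rfl | rfl
      · exact Or.inl hwa
      · exact Or.inr hwa
    have h1 : Qm m F A B w = nrm A B (w d0) (w d1) := by
      rw [Qm_apply]
      have : ∑ i : Fin m, w (ie i) * w (jf i) = 0 := by
        apply Finset.sum_eq_zero
        intro i _
        rw [hjf i, mul_zero]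
      rw [this, zero_add]
    rw [h1] at hQ
    exact nrm_ne_zero hst hQ
  have hmain : P A B w := by
    by_cases hlow : ht m a < m
    · -- the plane coordinates vanish
      refine main a ha Finset.univ w hwa htop hQ ?_ fun c _ => Or.inr (Or.inr (Finset.mem_univ c))
      intro c hc
      apply htop
      rw [ht_of_isPl hc]
      exact hlow
    · have hne : ht m a ≠ m := fun h => ha (ht_eq_m_iff.mp h)
      have hhigh : m < ht m a := by omega
      have hoa : ¬ IsPl (op a) := fun h => ha (isPl_op.mp h)
      have hopa : op a ≠ a := op_ne_self ha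
      have hoalt : ht m (op a) < m := by
        rw [ht_op]
        have := ht_le a
        omega
      set s : F := -(w d0 / w a) with hsdef
      set t : F := -(w d1 / w a) with htdef
      have hx : sx A B (op a) s t ∈ Boo m F A B := sx_mem_Boo_of_ht hoa hoalt s t
      apply P_of_step _ hx
      have hQ' := φ_isom (sx A B (op a) s t) w
      rw [hQ] at hQ'
      rw [sx_val hoa, sxM_mulVec, op_op] at hQ' ⊢
      have had0 : a ≠ d0 := fun e => ha (e ▸ isPl_d0)
      have had1 : a ≠ d1 := fun e => ha (e ▸ isPl_d1)
      have hoad0 : op a ≠ d0 := fun e => hoa (e ▸ isPl_d0)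
      have hoad1 : op a ≠ d1 := fun e => hoa (e ▸ isPl_d1)
      have hval : ∀ y, y ≠ op a →
          (w + Pi.single d0 (s * w a) + Pi.single d1 (t * w a)
            - Pi.single (op a) ((2 * s + A * t) * w d0)
            - Pi.single (op a) ((A * s + 2 * B * t) * w d1)
            - Pi.single (op a) (nrm A B s t * w a) : I m → F) y =
            if IsPl y then 0 else w y := by
        intro y hy
        simp only [Pi.add_apply, Pi.sub_apply, Pi.single_apply, if_neg hy, sub_zero]
        by_cases hy0 : y = d0
        · rw [if_pos hy0, if_neg (fun e => d0_ne_d1 (hy0.symm.trans e)), if_pos (show IsPl y from Or.inl hy0), hy0,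
            hsdef]
          field_simp
          ring
        · by_cases hy1 : y = d1
          · rw [if_neg hy0, if_pos hy1, if_pos (show IsPl y from Or.inr hy1), hy1, htdef]
            field_simp
            ring
          · rw [if_neg hy0, if_neg hy1, if_neg (show ¬ IsPl y from fun h => h.elim hy0 hy1), add_zero, add_zero]
      refine main a ha Finset.univ _ ?_ ?_ hQ' ?_ fun c _ => Or.inr (Or.inr (Finset.mem_univ c))
      · rw [hval a hopa.symm, if_neg ha]
        exact hwa
      · intro y hy
        have hyo : y ≠ op a := by
          intro e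
          rw [e] at hy
          omega
        have hypl : ¬ IsPl y := by
          intro h
          rw [ht_of_isPl h] at hy
          omega
        rw [hval y hyo, if_neg hypl]
        exact htop y hy
      · intro y hy
        have hyo : y ≠ op a := fun e => hoa (e ▸ hy)
        rw [hval y hyo, if_pos hy]
  exact hmain

end Cfsg.Agent.Lib.Helper20_StOm_GENB
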