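/-
Helper library (helper20): Higman's theorem on Suzuki 2-groups, first part.
A finite 2-group with more than one involution, admitting an abelian group `K` of automorphisms
permuting the involutions regularly, and whose centre contains an element of order 4, is abelian.
Main results: `quotAction` (induced action on a quotient), `abelian_of_hom` (vanishing of
`K`-equivariant alternating maps), `core`.
-/
import Mathlib

set_option autoImplicit false

namespace Cfsg.Agent.Lib.Helper20_SuzukiTwo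

universe u v

variable {K : Type v} [Group K]

section Pow

variable {P : Type u} [Group P]

/-- the commutator `a⁻¹ b⁻¹ a b` -/
def cm (a b : P) : P := a⁻¹ * b⁻¹ * a * b

theorem sq_central (hc : ∀ a b : P, cm a b ∈ Subgroup.center P)
    (hc2 : ∀ a b : P, cm a b * cm a b = 1) (a : P) : a * a ∈ Subgroup.center P := by
  rw [Subgroup.mem_center_iff]
  intro g
  have h1 : a * g = g * a * cm a g := by unfold cm; group
  have hcc : ∀ x : P, x * cm a g = cm a g * x := Subgroup.mem_center_iff.mp (hc a g)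
  calc g * (a * a) = g * a * cm a g * (cm a g * a) := by
        rw [← hcc a]
        calc g * (a * a) = g * a * 1 * a := by group
          _ = g * a * (cm a g * cm a g) * a := by rw [hc2]
          _ = g * a * cm a g * (cm a g * a) := by group
          _ = g * a * cm a g * (a * cm a g) := by rw [hcc a]
    _ = a * g * (cm a g * a) := by rw [← h1]
    _ = a * g * (a * cm a g) := by rw [hcc a]
    _ = a * (g * a * cm a g) := by group
    _ = a * (a * g) := by rw [← h1]
    _ = a * a * g := by group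

theorem pow_hom (hc : ∀ a b : P, cm a b ∈ Subgroup.center P)
    (hc2 : ∀ a b : P, cm a b * cm a b = 1) (e : ℕ) (he : 2 ≤ e) (a b : P) :
    (a * b) ^ 2 ^ e = a ^ 2 ^ e * b ^ 2 ^ e := by
  have hsa := sq_central hc hc2 a
  have hsb := sq_central hc hc2 b
  have hcc : ∀ x : P, x * cm b a = cm b a * x := Subgroup.mem_center_iff.mp (hc b a)
  have ha2 : ∀ x : P, x * (a * a) = (a * a) * x := Subgroup.mem_center_iff.mp hsa
  have hb2 : ∀ x : P, x * (b * b) = (b * b) * x := Subgroup.mem_center_iff.mp hsb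
  have h1 : b * a = a * b * cm b a := by unfold cm; group
  have h2 : (a * b) * (a * b) = (a * a) * (b * b) * cm b a := by
    calc (a * b) * (a * b) = a * (b * a) * b := by group
      _ = a * (a * b * cm b a) * b := by rw [h1]
      _ = a * a * b * (cm b a * b) := by group
      _ = a * a * b * (b * cm b a) := by rw [hcc b]
      _ = (a * a) * (b * b) * cm b a := by group
  have h4 : (a * b) ^ 4 = a ^ 4 * b ^ 4 := by
    have e4 : ∀ x : P, x ^ 4 = (x * x) * (x * x) := fun x => by rw [show (4 : ℕ) = 2 + 2 from rfl, pow_add, pow_two]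
    rw [e4, e4, e4, h2]
    calc (a * a) * (b * b) * cm b a * ((a * a) * (b * b) * cm b a)
        = (a * a) * (b * b) * (cm b a * ((a * a) * (b * b))) * cm b a := by group
      _ = (a * a) * (b * b) * (((a * a) * (b * b)) * cm b a) * cm b a := by rw [← hcc]
      _ = (a * a) * ((b * b) * (a * a)) * (b * b) * (cm b a * cm b a) := by group
      _ = (a * a) * ((a * a) * (b * b)) * (b * b) * 1 := by rw [ha2 (b * b), hc2]
      _ = (a * a) * (a * a) * ((b * b) * (b * b)) := by group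
  obtain ⟨m, rfl⟩ : ∃ m, e = m + 2 := ⟨e - 2, by omega⟩
  have e1 : ∀ x : P, x ^ 2 ^ (m + 2) = (x ^ 4) ^ 2 ^ m := by
    intro x
    rw [← pow_mul]
    congr 1
    rw [pow_add]; ring
  rw [e1, e1, e1, h4]
  have hcomm : Commute (a ^ 4) (b ^ 4) := by
    have e4 : ∀ x : P, x ^ 4 = (x * x) * (x * x) := fun x => by rw [show (4 : ℕ) = 2 + 2 from rfl, pow_add, pow_two]
    have : a ^ 4 ∈ Subgroup.center P := by
      rw [e4]; exact Subgroup.mul_mem _ hsa hsa
    exact (Subgroup.mem_center_iff.mp this (b ^ 4)).symm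
  exact hcomm.mul_pow _

end Pow

section Action

variable {P : Type u} [Group P] [MulDistribMulAction K P]

/-- The endomorphism of the quotient induced by `k`. -/
def qmap (N : Subgroup P) [N.Normal] (hN : ∀ (k : K) (x : P), x ∈ N → k • x ∈ N) (k : K) :
    P ⧸ N →* P ⧸ N :=
  QuotientGroup.map N N (MulDistribMulAction.toMonoidHom P k)
    (by intro x hx; exact hN k x hx)

theorem qmap_mk (N : Subgroup P) [N.Normal] (hN : ∀ (k : K) (x : P), x ∈ N → k • x ∈ N) (k : K)
    (x : P) : qmap N hN k (x : P ⧸ N) = ((k • x : P) : P ⧸ N) := rfl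

/-- The action induced on the quotient by an invariant normal subgroup. -/
def quotAction (N : Subgroup P) [N.Normal] (hN : ∀ (k : K) (x : P), x ∈ N → k • x ∈ N) :
    MulDistribMulAction K (P ⧸ N) where
  smul k q := qmap N hN k q
  one_smul q := by
    induction q using QuotientGroup.induction_on with
    | H x =>
      show qmap N hN 1 (x : P ⧸ N) = _
      rw [qmap_mk, one_smul]
  mul_smul k k' q := by
    induction q using QuotientGroup.induction_on with
    | H x =>
      show qmap N hN (k * k') (x : P ⧸ N) = qmap N hN k (qmap N hN k' (x : P ⧸ N))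
      rw [qmap_mk, qmap_mk, qmap_mk, mul_smul]
  smul_mul k q q' := by
    show qmap N hN k (q * q') = qmap N hN k q * qmap N hN k q'
    rw [map_mul]
  smul_one k := by
    show qmap N hN k (1 : P ⧸ N) = 1
    rw [map_one]

theorem quotAction_mk (N : Subgroup P) [N.Normal] (hN : ∀ (k : K) (x : P), x ∈ N → k • x ∈ N)
    (k : K) (x : P) :
    letI := quotAction N hN
    k • (x : P ⧸ N) = ((k • x : P) : P ⧸ N) := rfl

theorem smul_mem_center (k : K) {z : P} (hz : z ∈ Subgroup.center P) :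
    k • z ∈ Subgroup.center P := by
  rw [Subgroup.mem_center_iff] at hz ⊢
  intro g
  have h1 : g = k • (k⁻¹ • g) := (smul_inv_smul k g).symm
  rw [h1, ← smul_mul', ← smul_mul', hz]

theorem smul_eq_one_iff' (k : K) (x : P) : k • x = 1 ↔ x = 1 := by
  constructor
  · intro h
    have : k⁻¹ • (k • x) = k⁻¹ • (1 : P) := by rw [h]
    rwa [inv_smul_smul, smul_one] at this
  · rintro rfl
    exact smul_one k

/-- a nontrivial finite `2`-group has a central involution -/
theorem exists_central_involution {Q : Type*} [Group Q] [Finite Q] [Nontrivial Q]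
    (hQ : IsPGroup 2 Q) : ∃ z ∈ Subgroup.center Q, z ≠ 1 ∧ z * z = 1 := by
  haveI : Fact (Nat.Prime 2) := ⟨Nat.prime_two⟩
  haveI := hQ.center_nontrivial
  obtain ⟨⟨z₀, hz₀⟩, hz₀1⟩ := exists_ne (1 : Subgroup.center Q)
  have hz₀1' : z₀ ≠ 1 := fun h => hz₀1 (Subtype.ext h)
  obtain ⟨m, hm⟩ := (IsPGroup.iff_orderOf.mp hQ) z₀
  have hm1 : m ≠ 0 := by
    rintro rfl
    rw [pow_zero, orderOf_eq_one_iff] at hm
    exact hz₀1' hm
  obtain ⟨m', rfl⟩ := Nat.exists_eq_succ_of_ne_zero hm1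
  refine ⟨z₀ ^ 2 ^ m', Subgroup.pow_mem _ hz₀ _, ?_, ?_⟩
  · intro h
    have h1 := orderOf_dvd_of_pow_eq_one h
    rw [hm] at h1
    have h2 := Nat.le_of_dvd (by positivity) h1
    have h3 : 2 ^ m' < 2 ^ (m' + 1) := Nat.pow_lt_pow_right (by norm_num) (Nat.lt_succ_self _)
    omega
  · rw [← pow_add, ← two_mul, ← pow_succ', ← hm, pow_orderOf_eq_one]

/-- involutions are central -/
theorem inv_central [Finite P] (hP : IsPGroup 2 P)
    (htrans : ∀ x y : P, x ≠ 1 → x * x = 1 → y ≠ 1 → y * y = 1 → ∃ k : K, k • x = y) :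
    ∀ x : P, x * x = 1 → x ∈ Subgroup.center P := by
  intro x hx
  by_cases hx1 : x = 1
  · rw [hx1]; exact Subgroup.one_mem _
  haveI : Nontrivial P := ⟨⟨x, 1, hx1⟩⟩
  obtain ⟨z, hz, hz1, hzz⟩ := exists_central_involution hP
  obtain ⟨k, rfl⟩ := htrans z x hz1 hzz hx1 hx
  exact smul_mem_center k hz

/-- `K` has no involutions, hence every element is a square. -/
theorem exists_sq [Finite P] (hKc : ∀ a b : K, a * b = b * a)
    (hcent : ∀ x : P, x * x = 1 → x ∈ Subgroup.center P)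
    {x₀ : P} (hx₀ : x₀ ≠ 1) (hx₀2 : x₀ * x₀ = 1)
    (hreg : ∀ x y : P, x ≠ 1 → x * x = 1 → y ≠ 1 → y * y = 1 → ∃! k : K, k • x = y) :
    ∀ k : K, ∃ h : K, h * h = k := by
  -- uniqueness
  have huniq : ∀ (x : P), x ≠ 1 → x * x = 1 → ∀ k k' : K, k • x = k' • x → k = k' := by
    intro x hx hxx k k' hkk
    have h1 : k • x ≠ 1 := by
      intro h
      apply hx
      have : k⁻¹ • (k • x) = k⁻¹ • (1 : P) := by rw [h]
      rwa [inv_smul_smul, smul_one] at this
    have h2 : (k • x) * (k • x) = 1 := by rw [← smul_mul', hxx, smul_one]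
    obtain ⟨k₀, _, hk₀⟩ := hreg x (k • x) hx hxx h1 h2
    rw [hk₀ k rfl, hk₀ k' hkk.symm]
  haveI : Finite K := Finite.of_injective (fun k : K => k • x₀) (fun k k' h => huniq x₀ hx₀ hx₀2 k k' h)
  -- no involutions in K
  have hnoinv : ∀ t : K, t * t = 1 → t = 1 := by
    intro t ht
    by_cases h1 : t • x₀ = x₀
    · exact huniq x₀ hx₀ hx₀2 t 1 (by rw [h1, one_smul])
    · have htx2 : (t • x₀) * (t • x₀) = 1 := by rw [← smul_mul', hx₀2, smul_one]
      have hcomm : x₀ * (t • x₀) = (t • x₀) * x₀ :=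
        (Subgroup.mem_center_iff.mp (hcent x₀ hx₀2) (t • x₀)).symm
      obtain ⟨y, hy⟩ : ∃ y : P, y = x₀ * (t • x₀) := ⟨_, rfl⟩
      have hy1 : y ≠ 1 := by
        intro h
        apply h1
        have h3 : t • x₀ = x₀⁻¹ := by
          rw [hy] at h
          exact (eq_inv_of_mul_eq_one_right h)
        have h4 : x₀⁻¹ = x₀ := inv_eq_of_mul_eq_one_right hx₀2
        rw [h3, h4]
      have hy2 : y * y = 1 := by
        rw [hy]
        calc x₀ * t • x₀ * (x₀ * t • x₀) = x₀ * (t • x₀ * x₀) * t • x₀ := by group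
          _ = x₀ * (x₀ * t • x₀) * t • x₀ := by rw [hcomm]
          _ = (x₀ * x₀) * (t • x₀ * t • x₀) := by group
          _ = 1 := by rw [hx₀2, htx2, one_mul]
      have hty : t • y = y := by
        rw [hy, smul_mul', ← mul_smul, ht, one_smul, hcomm]
      exact huniq y hy1 hy2 t 1 (by rw [hty, one_smul])
  have hinj : Function.Injective (fun k : K => k * k) := by
    intro k k' h
    simp only at h
    have h1 : (k * k'⁻¹) * (k * k'⁻¹) = 1 := by
      calc (k * k'⁻¹) * (k * k'⁻¹) = k * (k'⁻¹ * k) * k'⁻¹ := by group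
        _ = k * (k * k'⁻¹) * k'⁻¹ := by rw [hKc k'⁻¹ k]
        _ = (k * k) * (k'⁻¹ * k'⁻¹) := by group
        _ = (k' * k') * (k'⁻¹ * k'⁻¹) := by rw [h]
        _ = 1 := by group
    have h2 := hnoinv _ h1
    exact mul_inv_eq_one.mp h2
  have hsurj := Finite.injective_iff_surjective.mp hinj
  intro k
  obtain ⟨h, hh⟩ := hsurj k
  exact ⟨h, hh⟩

/-- an element outside the centre, in the second centre, with central square -/
theorem exists_second_center [Finite P] (hP : IsPGroup 2 P) (hna : ∃ a b : P, a * b ≠ b * a) :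
    ∃ x : P, x ∉ Subgroup.center P ∧ x * x ∈ Subgroup.center P ∧
      ∀ g : P, x⁻¹ * g⁻¹ * x * g ∈ Subgroup.center P := by
  haveI : Nontrivial (P ⧸ Subgroup.center P) := by
    by_contra hnt
    rw [not_nontrivial_iff_subsingleton] at hnt
    obtain ⟨a, b, hab⟩ := hna
    apply hab
    have h1 : ((a : P) : P ⧸ Subgroup.center P) = 1 := Subsingleton.elim _ _
    rw [QuotientGroup.eq_one_iff] at h1
    exact (Subgroup.mem_center_iff.mp h1 b).symm
  obtain ⟨q, hq, hq1, hqq⟩ := exists_central_involution (hP.to_quotient (Subgroup.center P))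
  obtain ⟨x, rfl⟩ := QuotientGroup.mk_surjective q
  refine ⟨x, ?_, ?_, ?_⟩
  · intro hx
    apply hq1
    exact (QuotientGroup.eq_one_iff x).mpr hx
  · rw [← QuotientGroup.eq_one_iff]
    exact hqq
  · intro g
    rw [← QuotientGroup.eq_one_iff]
    have h1 := Subgroup.mem_center_iff.mp hq ((g : P) : P ⧸ Subgroup.center P)
    simp only [QuotientGroup.mk_mul, QuotientGroup.mk_inv]
    calc ((x : P) : P ⧸ Subgroup.center P)⁻¹ * (g : P ⧸ Subgroup.center P)⁻¹ * x * g
        = (x : P ⧸ Subgroup.center P)⁻¹ * (g : P ⧸ Subgroup.center P)⁻¹ * (x * g) := by group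
      _ = (x : P ⧸ Subgroup.center P)⁻¹ * (g : P ⧸ Subgroup.center P)⁻¹ * (g * x) := by rw [h1]
      _ = 1 := by group

theorem exists_exp [Finite P] (hP : IsPGroup 2 P)
    (htrans : ∀ x y : P, x ≠ 1 → x * x = 1 → y ≠ 1 → y * y = 1 → ∃ k : K, k • x = y)
    (hz : ∃ z ∈ Subgroup.center P, z * z ≠ 1) :
    ∃ e : ℕ, 2 ≤ e ∧ (∀ z ∈ Subgroup.center P, z ^ 2 ^ e = 1) ∧
      (∀ g : P, g ^ 2 ^ e = 1 → g ∈ Subgroup.center P) ∧
      (∀ u : P, u * u = 1 → ∃ w ∈ Subgroup.center P, w * w = u) := by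
  obtain ⟨⟨zm, hzm⟩, hmax⟩ := Finite.exists_max (fun z : Subgroup.center P => orderOf (z : P))
  simp only at hmax
  obtain ⟨e, he⟩ := (IsPGroup.iff_orderOf.mp hP) zm
  have hord : ∀ z ∈ Subgroup.center P, ∀ a : ℕ, orderOf z = 2 ^ a → a ≤ e := by
    intro z hz' a ha
    have h1 := hmax ⟨z, hz'⟩
    simp only at h1
    rw [ha, he] at h1
    exact (Nat.pow_le_pow_iff_right (by norm_num)).mp h1
  have hZexp : ∀ z ∈ Subgroup.center P, z ^ 2 ^ e = 1 := by
    intro z hz'
    obtain ⟨a, ha⟩ := (IsPGroup.iff_orderOf.mp hP) z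
    have h1 := hord z hz' a ha
    rw [← orderOf_dvd_iff_pow_eq_one, ha]
    exact pow_dvd_pow 2 h1
  have he2 : 2 ≤ e := by
    obtain ⟨z, hz', hzz⟩ := hz
    obtain ⟨a, ha⟩ := (IsPGroup.iff_orderOf.mp hP) z
    have h1 := hord z hz' a ha
    have h2 : 2 ≤ a := by
      by_contra hlt
      apply hzz
      have h3 : z ^ 2 = 1 := by
        rw [← orderOf_dvd_iff_pow_eq_one, ha]
        have : a ≤ 1 := by omega
        calc 2 ^ a ∣ 2 ^ 1 := pow_dvd_pow 2 this
          _ = 2 := by norm_num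
      rwa [pow_two] at h3
    omega
  -- the involution
  have hι1 : zm ^ 2 ^ (e - 1) ≠ 1 := by
    intro h
    have h1 := orderOf_dvd_of_pow_eq_one h
    rw [he] at h1
    have h2 := Nat.le_of_dvd (by positivity) h1
    have h3 : 2 ^ (e - 1) < 2 ^ e := Nat.pow_lt_pow_right (by norm_num) (by omega)
    omega
  have hι2 : zm ^ 2 ^ (e - 1) * zm ^ 2 ^ (e - 1) = 1 := by
    rw [← pow_add, ← two_mul, ← pow_succ', ← hZexp zm hzm]
    congr 2
    omega
  have hS : ∀ j : ℕ, 1 ≤ j → j ≤ e → ∀ u : P, u * u = 1 →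
      ∃ w ∈ Subgroup.center P, w ^ 2 ^ j = 1 ∧ w ^ 2 ^ (j - 1) = u := by
    intro j hj1 hje u hu
    by_cases hu1 : u = 1
    · exact ⟨1, Subgroup.one_mem _, one_pow _, by rw [one_pow, hu1]⟩
    obtain ⟨k, hk⟩ := htrans _ u hι1 hι2 hu1 hu
    refine ⟨k • (zm ^ 2 ^ (e - j)), smul_mem_center k (Subgroup.pow_mem _ hzm _), ?_, ?_⟩
    · rw [← smul_pow', ← pow_mul, ← pow_add]
      have : e - j + j = e := by omega
      rw [this, hZexp zm hzm, smul_one]
    · rw [← smul_pow', ← pow_mul, ← pow_add]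
      have : e - j + (j - 1) = e - 1 := by omega
      rw [this, hk]
  have hC : ∀ j : ℕ, j ≤ e → ∀ g : P, g ^ 2 ^ j = 1 → g ∈ Subgroup.center P := by
    intro j
    induction j with
    | zero =>
      intro _ g hg
      rw [pow_zero, pow_one] at hg
      rw [hg]; exact Subgroup.one_mem _
    | succ j ih =>
      intro hj g hg
      have hu : g ^ 2 ^ j * g ^ 2 ^ j = 1 := by
        rw [← pow_add, ← two_mul, ← pow_succ', hg]
      obtain ⟨w, hw, hw1, hw2⟩ := hS (j + 1) (by omega) hj _ hu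
      rw [Nat.add_sub_cancel] at hw2
      have hcomm : Commute g w⁻¹ := by
        have := Subgroup.mem_center_iff.mp (Subgroup.inv_mem _ hw) g
        exact this
      have h1 : (g * w⁻¹) ^ 2 ^ j = 1 := by
        rw [hcomm.mul_pow, inv_pow, hw2, mul_inv_cancel]
      have h2 := ih (by omega) _ h1
      have h3 : g = (g * w⁻¹) * w := by group
      rw [h3]
      exact Subgroup.mul_mem _ h2 hw
  refine ⟨e, he2, hZexp, hC e le_rfl, ?_⟩
  intro u hu
  obtain ⟨w, hw, _, hw2⟩ := hS 2 (by norm_num) he2 u hu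
  refine ⟨w, hw, ?_⟩
  have h21 : (2 : ℕ) ^ (2 - 1) = 2 := by norm_num
  rw [h21, pow_two] at hw2
  exact hw2

theorem cm_eq_one_iff (a b : P) : cm a b = 1 ↔ a * b = b * a := by
  unfold cm
  constructor
  · intro h
    calc a * b = b * a * (a⁻¹ * b⁻¹ * a * b) := by group
      _ = b * a := by rw [h, mul_one]
  · intro h
    calc a⁻¹ * b⁻¹ * a * b = a⁻¹ * b⁻¹ * (a * b) := by group
      _ = a⁻¹ * b⁻¹ * (b * a) := by rw [h]
      _ = 1 := by group

theorem cm_smul (k : K) (a b : P) : k • cm a b = cm (k • a) (k • b) := by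
  unfold cm
  rw [smul_mul', smul_mul', smul_mul', smul_inv', smul_inv']

theorem cm_self (a : P) : cm a a = 1 := by unfold cm; group

theorem cm_symm_inv (a b : P) : cm b a = (cm a b)⁻¹ := by unfold cm; group

theorem cm_center_left {z : P} (hz : z ∈ Subgroup.center P) (b : P) : cm z b = 1 := by
  rw [cm_eq_one_iff]
  exact (Subgroup.mem_center_iff.mp hz b).symm

theorem cm_center_right {z : P} (hz : z ∈ Subgroup.center P) (a : P) : cm a z = 1 := by
  rw [cm_eq_one_iff]
  exact Subgroup.mem_center_iff.mp hz a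

theorem cm_mul_right (hc : ∀ a b : P, cm a b ∈ Subgroup.center P) (a b c : P) :
    cm a (b * c) = cm a b * cm a c := by
  have h1 : cm a (b * c) = cm a c * (c⁻¹ * cm a b * c) := by unfold cm; group
  have h2 : c⁻¹ * cm a b * c = cm a b := by
    have := Subgroup.mem_center_iff.mp (hc a b) c⁻¹
    rw [this]; group
  rw [h1, h2]
  exact Subgroup.mem_center_iff.mp (hc a b) (cm a c)

theorem cm_mul_left (hc : ∀ a b : P, cm a b ∈ Subgroup.center P) (a b c : P) :
    cm (a * b) c = cm a c * cm b c := by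
  have h1 : cm (a * b) c = (b⁻¹ * cm a c * b) * cm b c := by unfold cm; group
  have h2 : b⁻¹ * cm a c * b = cm a c := by
    have := Subgroup.mem_center_iff.mp (hc a c) b⁻¹
    rw [this]; group
  rw [h1, h2]

theorem abelian_of_hom (hKc : ∀ a b : K, a * b = b * a) (hsq : ∀ k : K, ∃ h : K, h * h = k)
    (hc : ∀ a b : P, cm a b ∈ Subgroup.center P) (hc2 : ∀ a b : P, cm a b * cm a b = 1)
    (θ : P →* P) (hθK : ∀ (k : K) (g : P), θ (k • g) = k • θ g)
    (hθker : ∀ g : P, θ g = 1 → g ∈ Subgroup.center P)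
    (hθZ : ∀ g ∈ Subgroup.center P, θ g = 1)
    (hθinv : ∀ g : P, θ g * θ g = 1)
    (htrans : ∀ x y : P, x ≠ 1 → x * x = 1 → y ≠ 1 → y * y = 1 → ∃ k : K, k • x = y) :
    ∀ a b : P, a * b = b * a := by
  have hsymm : ∀ a b : P, cm b a = cm a b := by
    intro a b
    rw [cm_symm_inv a b]
    exact inv_eq_of_mul_eq_one_right (hc2 a b)
  -- structure of elements relative to a noncentral `a₀`
  have hstruct : ∀ a₀ : P, a₀ ∉ Subgroup.center P → ∀ y : P, y ∈ Subgroup.center P ∨
      ∃ (j : K) (z : P), z ∈ Subgroup.center P ∧ y = z * (j • a₀) := by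
    intro a₀ ha₀ y
    by_cases hy : y ∈ Subgroup.center P
    · exact Or.inl hy
    right
    have h1 : θ a₀ ≠ 1 := fun h => ha₀ (hθker _ h)
    have h2 : θ y ≠ 1 := fun h => hy (hθker _ h)
    obtain ⟨j, hj⟩ := htrans _ _ h1 (hθinv a₀) h2 (hθinv y)
    have h3 : θ (y * (j • a₀)⁻¹) = 1 := by
      rw [map_mul, map_inv, hθK, hj, mul_inv_cancel]
    refine ⟨j, y * (j • a₀)⁻¹, hθker _ h3, ?_⟩
    group
  -- (∗): for all k
  have hstar : ∀ (k : K) (y y' : P), cm y (k • y') * cm y' (k • y) = 1 := by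
    intro k
    -- multiplicativity of φ
    have hφmul : ∀ y y' : P, cm (y * y') (k • (y * y')) = cm y (k • y) * cm y' (k • y') := by
      by_cases hex : ∃ a₀ : P, a₀ ∉ Subgroup.center P
      swap
      · push Not at hex
        intro y y'
        rw [cm_center_left (hex _), cm_center_left (hex _), cm_center_left (hex _), one_mul]
      obtain ⟨a₀, ha₀⟩ := hex
      have hφZ : ∀ z ∈ Subgroup.center P, cm z (k • z) = 1 := fun z hz => cm_center_left hz _
      have hφzy : ∀ z ∈ Subgroup.center P, ∀ y₁ : P,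
          cm (z * y₁) (k • (z * y₁)) = cm y₁ (k • y₁) := by
        intro z hz y₁
        rw [smul_mul', cm_mul_left hc, cm_center_left hz, one_mul, cm_mul_right hc,
          cm_center_right (smul_mem_center k hz), one_mul]
      have hφj : ∀ (j : K) (y : P), cm (j • y) (k • (j • y)) = j • cm y (k • y) := by
        intro j y
        rw [cm_smul, ← mul_smul, ← mul_smul, hKc j k]
      by_cases hA : cm a₀ (k • a₀) = 1
      · have hall : ∀ y : P, cm y (k • y) = 1 := by
          intro y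
          rcases hstruct a₀ ha₀ y with hy | ⟨j, z, hz, rfl⟩
          · exact hφZ y hy
          · rw [hφzy z hz, hφj, hA, smul_one]
        intro y y'
        rw [hall, hall, hall, one_mul]
      · have h1 : θ a₀ ≠ 1 := fun h => ha₀ (hθker _ h)
        obtain ⟨k₁, hk₁⟩ := htrans _ _ h1 (hθinv a₀) hA (hc2 _ _)
        have hall : ∀ y : P, cm y (k • y) = k₁ • θ y := by
          intro y
          rcases hstruct a₀ ha₀ y with hy | ⟨j, z, hz, rfl⟩
          · rw [hφZ y hy, hθZ y hy, smul_one]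
          · rw [hφzy z hz, hφj, map_mul, hθZ z hz, one_mul, hθK, ← hk₁, ← mul_smul, ← mul_smul,
              hKc j k₁]
        intro y y'
        rw [hall, hall, hall, map_mul, smul_mul']
    intro y y'
    have h1 := hφmul y y'
    rw [smul_mul', cm_mul_left hc, cm_mul_right hc, cm_mul_right hc] at h1
    -- h1 : cm y (k•y) * cm y (k•y') * (cm y' (k•y) * cm y' (k•y')) = cm y (k•y) * cm y' (k•y')
    have h2 : cm y (k • y) * (cm y (k • y') * cm y' (k • y)) * cm y' (k • y') =
        cm y (k • y) * 1 * cm y' (k • y') := by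
      calc cm y (k • y) * (cm y (k • y') * cm y' (k • y)) * cm y' (k • y')
          = cm y (k • y) * cm y (k • y') * (cm y' (k • y) * cm y' (k • y')) := by group
        _ = cm y (k • y) * cm y' (k • y') := h1
        _ = cm y (k • y) * 1 * cm y' (k • y') := by group
    have h3 := mul_right_cancel h2
    exact mul_left_cancel h3
  -- (∗∗)
  have hstar2 : ∀ (k : K) (y : P), cm y (k • y) = 1 := by
    intro k y
    obtain ⟨h, rfl⟩ := hsq k
    have h1 := hstar h y (h • y)
    -- cm y (h • h • y) * cm (h • y) (h • y) = 1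
    rw [cm_self, mul_one, ← mul_smul] at h1
    exact h1
  intro a b
  by_cases ha : a ∈ Subgroup.center P
  · exact (Subgroup.mem_center_iff.mp ha b).symm
  rw [← cm_eq_one_iff]
  rcases hstruct a ha b with hb | ⟨j, z, hz, rfl⟩
  · exact cm_center_right hb a
  · rw [cm_mul_right hc, cm_center_right hz, one_mul, hstar2]


/-- the subgroup of elements of order at most `2`, when these are central -/
def invSubgroup (hcent : ∀ x : P, x * x = 1 → x ∈ Subgroup.center P) : Subgroup P where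
  carrier := {x | x * x = 1}
  mul_mem' := by
    intro x y hx hy
    simp only [Set.mem_setOf_eq] at hx hy ⊢
    have h1 : y * x = x * y := Subgroup.mem_center_iff.mp (hcent x hx) y
    calc x * y * (x * y) = x * (y * x) * y := by group
      _ = x * (x * y) * y := by rw [h1]
      _ = (x * x) * (y * y) := by group
      _ = 1 := by rw [hx, hy, one_mul]
  one_mem' := by simp
  inv_mem' := by
    intro x hx
    simp only [Set.mem_setOf_eq] at hx ⊢
    calc x⁻¹ * x⁻¹ = (x * x)⁻¹ := by group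
      _ = 1 := by rw [hx, inv_one]

theorem mem_invSubgroup (hcent : ∀ x : P, x * x = 1 → x ∈ Subgroup.center P) (x : P) :
    x ∈ invSubgroup hcent ↔ x * x = 1 := Iff.rfl

instance invSubgroup_normal (hcent : ∀ x : P, x * x = 1 → x ∈ Subgroup.center P) :
    (invSubgroup hcent).Normal := by
  constructor
  intro n hn g
  rw [mem_invSubgroup] at hn ⊢
  have h1 : g * n = n * g := Subgroup.mem_center_iff.mp (hcent n hn) g
  calc g * n * g⁻¹ * (g * n * g⁻¹) = g * (n * n) * g⁻¹ := by group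
    _ = 1 := by rw [hn]; group

/-- **Core theorem.** -/
theorem core (hKc : ∀ a b : K, a * b = b * a) :
    ∀ n : ℕ, ∀ (P : Type u) [Group P] [Finite P] [MulDistribMulAction K P],
      Nat.card P = n → IsPGroup 2 P →
      (∃ x y : P, x ≠ y ∧ x ≠ 1 ∧ x * x = 1 ∧ y ≠ 1 ∧ y * y = 1) →
      (∀ x y : P, x ≠ 1 → x * x = 1 → y ≠ 1 → y * y = 1 → ∃! k : K, k • x = y) →
      (∃ z ∈ Subgroup.center P, z * z ≠ 1) → ∀ a b : P, a * b = b * a := by
  intro n
  induction n using Nat.strong_induction_on with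
  | _ n ih =>
  intro P _ _ _ hcard hP htwo hreg hz
  by_contra hab
  push Not at hab
  have htrans : ∀ x y : P, x ≠ 1 → x * x = 1 → y ≠ 1 → y * y = 1 → ∃ k : K, k • x = y :=
    fun x y h1 h2 h3 h4 => (hreg x y h1 h2 h3 h4).exists
  have hcent := inv_central hP htrans
  obtain ⟨x₁, x₂, hx12, hx₁, hx₁2, hx₂, hx₂2⟩ := htwo
  have hsq := exists_sq hKc hcent hx₁ hx₁2 hreg
  obtain ⟨e, he2, hZexp, hCe, hS2⟩ := exists_exp hP htrans hz
  obtain ⟨x, hxZ, hxx, hxg⟩ := exists_second_center hP hab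
  -- elements of order dividing 4 are central
  have hC2 : ∀ g : P, (g * g) * (g * g) = 1 → g ∈ Subgroup.center P := by
    intro g hg
    apply hCe
    obtain ⟨m, rfl⟩ : ∃ m, e = m + 2 := ⟨e - 2, by omega⟩
    have e1 : g ^ 2 ^ (m + 2) = (g ^ 4) ^ 2 ^ m := by
      rw [← pow_mul]
      congr 1
      rw [pow_add]; ring
    have e4 : g ^ 4 = (g * g) * (g * g) := by
      rw [show (4 : ℕ) = 2 + 2 from rfl, pow_add, pow_two]
    rw [e1, e4, hg, one_pow]
  -- commutators with x are involutions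
  have hxg2 : ∀ g : P, (x⁻¹ * g⁻¹ * x * g) * (x⁻¹ * g⁻¹ * x * g) = 1 := by
    intro g
    set c := x⁻¹ * g⁻¹ * x * g with hc
    have hcc : ∀ y : P, y * c = c * y := Subgroup.mem_center_iff.mp (hxg g)
    have h1 : g⁻¹ * x * g = x * c := by rw [hc]; group
    have h2 : g⁻¹ * (x * x) * g = (x * x) * (c * c) := by
      calc g⁻¹ * (x * x) * g = (g⁻¹ * x * g) * (g⁻¹ * x * g) := by group
        _ = (x * c) * (x * c) := by rw [h1]
        _ = x * (c * x) * c := by group
        _ = x * (x * c) * c := by rw [hcc x]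
        _ = (x * x) * (c * c) := by group
    have h3 : g⁻¹ * (x * x) * g = x * x := by
      have := Subgroup.mem_center_iff.mp hxx g⁻¹
      rw [this]; group
    rw [h3] at h2
    have h4 : (x * x) * 1 = (x * x) * (c * c) := by rw [mul_one]; exact h2
    exact (mul_left_cancel h4).symm
  -- the quotient
  set Z₀ := invSubgroup hcent with hZ₀
  have hinv : ∀ (k : K) (y : P), y ∈ Z₀ → k • y ∈ Z₀ := by
    intro k y hy
    rw [hZ₀, mem_invSubgroup] at hy ⊢
    rw [← smul_mul', hy, smul_one]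
  letI : MulDistribMulAction K (P ⧸ Z₀) := quotAction Z₀ hinv
  have hsmk : ∀ (k : K) (y : P), k • (y : P ⧸ Z₀) = ((k • y : P) : P ⧸ Z₀) := fun k y => rfl
  have hmk1 : ∀ y : P, (y : P ⧸ Z₀) = 1 ↔ y * y = 1 := by
    intro y
    rw [QuotientGroup.eq_one_iff, hZ₀, mem_invSubgroup]
  have hlt : Nat.card (P ⧸ Z₀) < n := by
    rw [← hcard, Subgroup.card_eq_card_quotient_mul_card_subgroup Z₀]
    have h1 : 1 < Nat.card Z₀ := by
      rw [Subgroup.one_lt_card_iff_ne_bot]
      intro h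
      have : x₁ ∈ Z₀ := by rw [hZ₀, mem_invSubgroup]; exact hx₁2
      rw [h, Subgroup.mem_bot] at this
      exact hx₁ this
    have h2 : 0 < Nat.card (P ⧸ Z₀) := Nat.card_pos
    nlinarith
  -- facts on involutions of the quotient
  have hQinv : ∀ g : P, (g : P ⧸ Z₀) ≠ 1 → (g : P ⧸ Z₀) * (g : P ⧸ Z₀) = 1 →
      g ∈ Subgroup.center P ∧ g * g ≠ 1 ∧ (g * g) * (g * g) = 1 := by
    intro g hg1 hg2
    have h1 : (g * g) * (g * g) = 1 := by
      rw [← QuotientGroup.mk_mul, hmk1] at hg2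
      exact hg2
    refine ⟨hC2 g h1, ?_, h1⟩
    intro h
    exact hg1 ((hmk1 g).mpr h)
  have hQeq : ∀ a b : P, a ∈ Subgroup.center P → b ∈ Subgroup.center P →
      ((a : P ⧸ Z₀) = (b : P ⧸ Z₀) ↔ a * a = b * b) := by
    intro a b ha hb
    have hab' : a * b⁻¹ = b⁻¹ * a := (Subgroup.mem_center_iff.mp ha b⁻¹).symm
    have h1 : (a * b⁻¹) * (a * b⁻¹) = (a * a) * (b * b)⁻¹ := by
      calc (a * b⁻¹) * (a * b⁻¹) = a * (b⁻¹ * a) * b⁻¹ := by group
        _ = a * (a * b⁻¹) * b⁻¹ := by rw [hab']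
        _ = (a * a) * (b * b)⁻¹ := by group
    rw [← mul_inv_eq_one, ← QuotientGroup.mk_inv, ← QuotientGroup.mk_mul, hmk1, h1, mul_inv_eq_one]
  have hQ := ih (Nat.card (P ⧸ Z₀)) hlt (P ⧸ Z₀) rfl (hP.to_quotient Z₀) ?_ ?_ ?_
  rotate_left
  · -- two involutions
    obtain ⟨w₁, hw₁, hw₁2⟩ := hS2 x₁ hx₁2
    obtain ⟨w₂, hw₂, hw₂2⟩ := hS2 x₂ hx₂2
    refine ⟨(w₁ : P ⧸ Z₀), (w₂ : P ⧸ Z₀), ?_, ?_, ?_, ?_, ?_⟩
    · rw [Ne, hQeq w₁ w₂ hw₁ hw₂, hw₁2, hw₂2]
      exact hx12
    · rw [Ne, hmk1, hw₁2]; exact hx₁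
    · rw [← QuotientGroup.mk_mul, hmk1, hw₁2]; exact hx₁2
    · rw [Ne, hmk1, hw₂2]; exact hx₂
    · rw [← QuotientGroup.mk_mul, hmk1, hw₂2]; exact hx₂2
  · -- regularity
    intro a b ha1 ha2 hb1 hb2
    obtain ⟨a, rfl⟩ := QuotientGroup.mk_surjective a
    obtain ⟨b, rfl⟩ := QuotientGroup.mk_surjective b
    obtain ⟨haZ, haa1, haa2⟩ := hQinv a ha1 ha2
    obtain ⟨hbZ, hbb1, hbb2⟩ := hQinv b hb1 hb2
    obtain ⟨k, hk, hkuniq⟩ := hreg (a * a) (b * b) haa1 haa2 hbb1 hbb2
    have hiff : ∀ k' : K, k' • (a : P ⧸ Z₀) = (b : P ⧸ Z₀) ↔ k' • (a * a) = b * b := by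
      intro k'
      rw [hsmk, hQeq _ _ (smul_mem_center k' haZ) hbZ, ← smul_mul']
    refine ⟨k, (hiff k).mpr hk, ?_⟩
    intro k' hk'
    exact hkuniq k' ((hiff k').mp hk')
  · -- central element of order > 2
    refine ⟨(x : P ⧸ Z₀), ?_, ?_⟩
    · rw [Subgroup.mem_center_iff]
      intro g
      obtain ⟨g, rfl⟩ := QuotientGroup.mk_surjective g
      have h1 : ((x⁻¹ * g⁻¹ * x * g : P) : P ⧸ Z₀) = 1 := (hmk1 _).mpr (hxg2 g)
      simp only [QuotientGroup.mk_mul, QuotientGroup.mk_inv] at h1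
      calc (g : P ⧸ Z₀) * (x : P ⧸ Z₀) = x * g * ((x : P ⧸ Z₀)⁻¹ * (g : P ⧸ Z₀)⁻¹ * x * g)⁻¹ := by
            group
        _ = x * g := by rw [h1, inv_one, mul_one]
    · rw [← QuotientGroup.mk_mul, Ne, hmk1]
      intro h
      exact hxZ (hC2 x h)
  -- now all commutators are involutions
  have hc2 : ∀ a b : P, cm a b * cm a b = 1 := by
    intro a b
    rw [← hmk1]
    unfold cm
    simp only [QuotientGroup.mk_mul, QuotientGroup.mk_inv]
    rw [hQ (a : P ⧸ Z₀)⁻¹ (b : P ⧸ Z₀)⁻¹]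
    group
  have hc : ∀ a b : P, cm a b ∈ Subgroup.center P := fun a b => hcent _ (hc2 a b)
  -- the power map
  let θ : P →* P := MonoidHom.mk' (fun g => g ^ 2 ^ e) (fun a b => pow_hom hc hc2 e he2 a b)
  have hθ : ∀ g : P, θ g = g ^ 2 ^ e := fun g => rfl
  apply hab.choose_spec.choose_spec
  apply abelian_of_hom hKc hsq hc hc2 θ
  · intro k g
    rw [hθ, hθ, smul_pow']
  · intro g hg
    rw [hθ] at hg
    exact hCe g hg
  · intro g hg
    rw [hθ]
    exact hZexp g hg
  · intro g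
    rw [hθ]
    calc g ^ 2 ^ e * g ^ 2 ^ e = g ^ (2 ^ e + 2 ^ e) := (pow_add _ _ _).symm
      _ = g ^ (2 * 2 ^ e) := by rw [two_mul]
      _ = (g ^ 2) ^ 2 ^ e := pow_mul _ _ _
      _ = (g * g) ^ 2 ^ e := by rw [pow_two]
      _ = 1 := hZexp _ (sq_central hc hc2 g)
  · exact htrans

end Action

end Cfsg.Agent.Lib.Helper20_SuzukiTwo
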