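import Mathlib
import Cfsg.Agent.Lib.Helper37_UTDefs
import Cfsg.Agent.Lib.Helper37_UTPairDefs

set_option autoImplicit false
set_option linter.unusedSectionVars false
set_option linter.unusedVariables false

/-!
# UTENS package UT-E1 (architect helper37, formaliser helper63): `e1_odd_order`, verbatim

Characteristic 2: `a = 1 + s₁ N₁`, `b = 1 + s₂ N₂` are involutions (`Nᵢ² = 0`).  If the order of `a b` were
even, `= 2 m'`, then `z = (a b)^m' ≠ 1` commutes with `a` and `b` (`a (a b) a⁻¹ = (a b)⁻¹`, `z² = 1`),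
lies in `Gam σ N₁ N₂`, commutes with `N₁` and `N₂`, hence stabilises `ℓ₁ = range N₁` and `ℓ₂ = range N₂`;
by `hK₁`, `hK₂`: `z = 1 + s N₁ = 1 + s' N₂` with `s, s' ≠ 0`, so `ℓ₁ = ℓ₂`: contradiction.
-/

namespace Cfsg.Agent.Lib.Helper63_UT_E1

open Module
open Cfsg.Agent.Lib.Helper94_Herm Cfsg.Agent.Lib.Helper13_PSUSimple
open Cfsg.Agent.Lib.Helper37_UTPairDefs

variable {F : Type*} [Field F] {V : Type*} [AddCommGroup V] [Module F V] {σ : F →+* F}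
variable {f : V →ₗ[F] V →ₛₗ[σ] F} {ℓ ℓ' : Submodule F V} {N N' : V →ₗ[F] V}

/-- in characteristic 2, `1 + s N` with `N² = 0` is an involution -/
theorem sq_eq_one_of_root (h2 : (2 : F) = 0) {N₁ : V →ₗ[F] V} (hsq : ∀ v, N₁ (N₁ v) = 0)
    {a : V ≃ₗ[F] V} {s : F} (ha : ∀ v, a v = v + s • N₁ v) : a * a = 1 := by
  apply LinearEquiv.ext
  intro v
  show (a * a) v = v
  rw [LinearEquiv.mul_apply, ha (a v), ha v, map_add, map_smul, hsq, smul_zero, add_zero,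
    add_assoc, ← add_smul, ← two_mul, h2, zero_mul, zero_smul, add_zero]

/-- an element commuting with `1 + s N`, `s ≠ 0`, commutes with `N` -/
theorem comm_root {N₁ : V →ₗ[F] V} {a z : V ≃ₗ[F] V} {s : F} (h0 : s ≠ 0)
    (ha : ∀ v, a v = v + s • N₁ v) (hz : z * a = a * z) (v : V) : z (N₁ v) = N₁ (z v) := by
  have h1 := LinearEquiv.congr_fun hz v
  rw [LinearEquiv.mul_apply, LinearEquiv.mul_apply, ha v, ha (z v), map_add, map_smul] at h1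
  have h2 : s • z (N₁ v) = s • N₁ (z v) := add_left_cancel h1
  exact smul_right_injective V h0 h2

/-- if `1 + s N₁ = 1 + s' N₂ ≠ 1` then the ranges agree -/
theorem range_eq_of_root {N₁ N₂ : V →ₗ[F] V} {z : V ≃ₗ[F] V} {s s' : F} (hz1 : z ≠ 1)
    (h1 : ∀ v, z v = v + s • N₁ v) (h2 : ∀ v, z v = v + s' • N₂ v) :
    LinearMap.range N₁ = LinearMap.range N₂ := by
  have hs : s ≠ 0 := by
    rintro rfl
    apply hz1
    apply LinearEquiv.ext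
    intro v
    show z v = v
    rw [h1 v, zero_smul, add_zero]
  have hs' : s' ≠ 0 := by
    rintro rfl
    apply hz1
    apply LinearEquiv.ext
    intro v
    show z v = v
    rw [h2 v, zero_smul, add_zero]
  have key : ∀ v, s • N₁ v = s' • N₂ v := by
    intro v
    have := (h1 v).symm.trans (h2 v)
    exact add_left_cancel this
  apply le_antisymm
  · rintro _ ⟨v, rfl⟩
    refine ⟨(s⁻¹ * s') • v, ?_⟩
    rw [map_smul, mul_smul, ← key v, smul_smul, inv_mul_cancel₀ hs, one_smul]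
  · rintro _ ⟨v, rfl⟩
    refine ⟨(s'⁻¹ * s) • v, ?_⟩
    rw [map_smul, mul_smul, key v, smul_smul, inv_mul_cancel₀ hs', one_smul]

/-! ## E1 (M): products of root involutions of distinct lines have odd order -/

theorem e1_odd_order [Finite F] [FiniteDimensional F V] (h2 : (2 : F) = 0)
    {N₁ N₂ : V →ₗ[F] V} {ℓ₁ ℓ₂ : Submodule F V} (hr₁ : LinearMap.range N₁ = ℓ₁)
    (hr₂ : LinearMap.range N₂ = ℓ₂) (hne : ℓ₁ ≠ ℓ₂)
    (hsq₁ : ∀ v, N₁ (N₁ v) = 0) (hsq₂ : ∀ v, N₂ (N₂ v) = 0)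
    (hK₁ : ∀ γ ∈ Gam σ N₁ N₂, (∀ v ∈ ℓ₁, γ v ∈ ℓ₁) →
      ∃ s : F, σ s = -s ∧ ∀ v, γ v = v + s • N₁ v)
    (hK₂ : ∀ γ ∈ Gam σ N₁ N₂, (∀ v ∈ ℓ₂, γ v ∈ ℓ₂) →
      ∃ s : F, σ s = -s ∧ ∀ v, γ v = v + s • N₂ v)
    {a b : V ≃ₗ[F] V} {s₁ s₂ : F} (hs₁ : σ s₁ = -s₁) (hs₂ : σ s₂ = -s₂) (h0₁ : s₁ ≠ 0)
    (h0₂ : s₂ ≠ 0) (ha : ∀ v, a v = v + s₁ • N₁ v) (hb : ∀ v, b v = v + s₂ • N₂ v) :
    Odd (orderOf (a * b)) := by
  have hVfin : Finite V := Module.finite_of_finite F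
  have hGfin : Finite (V ≃ₗ[F] V) :=
    Finite.of_injective (fun g : V ≃ₗ[F] V => (g : V → V)) DFunLike.coe_injective
  have haa : a * a = 1 := sq_eq_one_of_root h2 hsq₁ ha
  have hbb : b * b = 1 := sq_eq_one_of_root h2 hsq₂ hb
  have hainv : a⁻¹ = a := inv_eq_of_mul_eq_one_right haa
  have hbinv : b⁻¹ = b := inv_eq_of_mul_eq_one_right hbb
  rw [← Nat.not_even_iff_odd]
  rintro ⟨m', hm'⟩
  have hpos : 0 < orderOf (a * b) := orderOf_pos (a * b)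
  have hm'pos : 0 < m' := by omega
  have hm'lt : m' < orderOf (a * b) := by omega
  set z : V ≃ₗ[F] V := (a * b) ^ m' with hz
  have hz1 : z ≠ 1 := pow_ne_one_of_lt_orderOf hm'pos.ne' hm'lt
  have hzz : z * z = 1 := by
    rw [hz, ← pow_add, ← hm', pow_orderOf_eq_one]
  have hzinv : z⁻¹ = z := inv_eq_of_mul_eq_one_right hzz
  -- conjugation by `a` and by `b` inverts `a * b`
  have hca : a * (a * b) * a⁻¹ = (a * b)⁻¹ := by
    rw [mul_inv_rev, hainv, hbinv, ← mul_assoc, haa, one_mul]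
  have hcb : b * (a * b) * b⁻¹ = (a * b)⁻¹ := by
    rw [mul_inv_rev, hainv, hbinv, mul_assoc, mul_assoc, hbb, mul_one]
  have hza : z * a = a * z := by
    have h1 : a * z * a⁻¹ = z := by
      rw [hz, ← conj_pow, hca, inv_pow, ← hz, hzinv]
    exact (mul_inv_eq_iff_eq_mul.mp h1).symm
  have hzb : z * b = b * z := by
    have h1 : b * z * b⁻¹ = z := by
      rw [hz, ← conj_pow, hcb, inv_pow, ← hz, hzinv]
    exact (mul_inv_eq_iff_eq_mul.mp h1).symm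
  -- `z ∈ Gam`
  have haG : a ∈ Gam σ N₁ N₂ := Subgroup.subset_closure ⟨s₁, hs₁, Or.inl ha⟩
  have hbG : b ∈ Gam σ N₁ N₂ := Subgroup.subset_closure ⟨s₂, hs₂, Or.inr hb⟩
  have hzG : z ∈ Gam σ N₁ N₂ := Subgroup.pow_mem _ (Subgroup.mul_mem _ haG hbG) m'
  -- `z` stabilises `ℓ₁` and `ℓ₂`
  have hst₁ : ∀ v ∈ ℓ₁, z v ∈ ℓ₁ := by
    intro v hv
    rw [← hr₁] at hv ⊢
    obtain ⟨w, rfl⟩ := hv
    exact ⟨z w, (comm_root h0₁ ha hza w).symm⟩
  have hst₂ : ∀ v ∈ ℓ₂, z v ∈ ℓ₂ := by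
    intro v hv
    rw [← hr₂] at hv ⊢
    obtain ⟨w, rfl⟩ := hv
    exact ⟨z w, (comm_root h0₂ hb hzb w).symm⟩
  obtain ⟨s, -, h1⟩ := hK₁ z hzG hst₁
  obtain ⟨s', -, h2'⟩ := hK₂ z hzG hst₂
  apply hne
  rw [← hr₁, ← hr₂]
  exact range_eq_of_root hz1 h1 h2'

end Cfsg.Agent.Lib.Helper63_UT_E1
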