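import Mathlib
import Cfsg.Agent.Lib.Helper37_UTDefs
import Cfsg.Agent.Lib.Helper37_UTPairDefs
import Cfsg.Agent.Lib.Helper17_UT_BAS1
import Cfsg.Agent.Lib.Helper31_UT_BAS3
import Cfsg.Agent.Lib.Helper44_UT_BAS4
import Cfsg.Agent.Lib.Helper42_UT_BAS6
import Cfsg.Agent.Lib.Helper14_PSULocal1
import Cfsg.Agent.Lib.Helper53_UT_ZF

set_option autoImplicit false
set_option linter.unusedSectionVars false
set_option linter.unusedVariables false

/-!
# UTENS wave 2, package RL (architect helper37): the lines `Lg x g` are root lines.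
`rtE_apply`, `rtE_mem`, `finrank_Lg`, `rootLine_Lg` (statements verbatim from
`pending/helper37/UTENS_packages3.lean.txt`).
-/

namespace Cfsg.Agent.Lib.Helper85_UT_RL

open Matrix Module
open Cfsg.Agent.Lib.Helper98_ExtDefs Cfsg.Agent.Lib.Helper97_TensDefs
open Cfsg.Agent.Lib.Helper94_Herm Cfsg.Agent.Lib.Helper13_PSUSimple
open Cfsg.Agent.Lib.Helper94_HermEich
open Cfsg.Agent.Lib.Helper67_UT2Defs Cfsg.Agent.Lib.Helper37_UTDefs
open Cfsg.Agent.Lib.Helper37_UTPairDefs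
open Cfsg.Agent.Lib.Helper53_UT_ZF

variable {F : Type*} [Field F] {ι κ : Type*} [Fintype ι] [Fintype κ] [DecidableEq ι]
  [DecidableEq κ] {σ : F →+* F}
variable {α : (ι → F) →ₗ[F] (ι → F) →ₛₗ[σ] F} {β : (κ → F) →ₗ[F] (κ → F) →ₛₗ[σ] F}
variable {M : Subgroup (Matrix ι κ F ≃ₗ[F] Matrix ι κ F)}

theorem rtE_apply {x : ι → F} (hx : α x x = 0) (g : Matrix ι κ F ≃ₗ[F] Matrix ι κ F) (s : F)
    (X : Matrix ι κ F) : rtE α x g s X = X + s • Ng α x g X := by
  unfold rtE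
  rw [LinearEquiv.mul_apply, LinearEquiv.mul_apply, Cfsg.Agent.Lib.Helper42_UT_BAS6.tmE_utv_left hx,
    map_add, map_smul, Ng_apply]
  have h1 : g (g⁻¹ X) = X := LinearEquiv.apply_symm_apply g X
  rw [h1]
  rfl

theorem rtE_mem (hB : UTBase α β M) {x : ι → F} (hx : α x x = 0)
    {g : Matrix ι κ F ≃ₗ[F] Matrix ι κ F} (hg : g ∈ M) {s : F} (hs : σ s = -s) :
    rtE α x g s ∈ M := by
  unfold rtE
  have h1 : tmE (utv α x s) (1 : (κ → F) ≃ₗ[F] (κ → F)) ∈ M :=
    tmE_mem_base hB (Cfsg.Agent.Lib.Helper14_PSULocal1.utv_mem_SUg hB.hα x hs) (Subgroup.one_mem _)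
  exact M.mul_mem (M.mul_mem hg h1) (M.inv_mem hg)

/-- `w ↦ x ⊗ w` is injective for `x ≠ 0` -/
theorem h85_vmR_inj {x : ι → F} (hx0 : x ≠ 0) : Function.Injective (vmR (κ := κ) x) := by
  intro w w' h
  obtain ⟨i, hi⟩ : ∃ i, x i ≠ 0 := by
    by_contra hcon
    push Not at hcon
    exact hx0 (funext hcon)
  ext j
  have := congrFun (congrFun h i) j
  simp only [vmR_apply, vecMulVec_apply] at this
  exact mul_left_cancel₀ hi this

theorem h85_fibB_eq_range (x : ι → F) : fibB (κ := κ) x = LinearMap.range (vmR (κ := κ) x) := by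
  ext X
  rw [mem_fibB, LinearMap.mem_range]
  constructor
  · rintro ⟨w, rfl⟩
    exact ⟨w, rfl⟩
  · rintro ⟨w, rfl⟩
    exact ⟨w, rfl⟩

theorem finrank_Lg {x : ι → F} (hx0 : x ≠ 0) (g : Matrix ι κ F ≃ₗ[F] Matrix ι κ F) :
    finrank F ↥(Lg x g) = Fintype.card κ := by
  unfold Lg
  have h1 : finrank F ↥((fibB (κ := κ) x).map g.toLinearMap) = finrank F ↥(fibB (κ := κ) x) :=
    LinearEquiv.finrank_map_eq g (fibB x)
  rw [h1, h85_fibB_eq_range, LinearMap.finrank_range_of_inj (h85_vmR_inj hx0)]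
  exact Module.finrank_fintype_fun_eq_card F

/-- a vector `x'` with `α x' x = 1` -/
theorem h85_exists_dual (hB : UTBase α β M) {x : ι → F} (hx0 : x ≠ 0) :
    ∃ x' : ι → F, α x' x = 1 := by
  obtain ⟨y, -, hy⟩ := hB.hαN x (Submodule.mem_top) hx0
  have hy' : α y x ≠ 0 := herm_ne_zero hB.hσ hB.hα hy
  refine ⟨(α y x)⁻¹ • y, ?_⟩
  rw [map_smul, LinearMap.smul_apply, smul_eq_mul, inv_mul_cancel₀ hy']

/-- `ctrA α x` is onto for `x ≠ 0` -/
theorem h85_ctrA_surj (hB : UTBase α β M) {x : ι → F} (hx0 : x ≠ 0) (w : κ → F) :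
    ∃ X : Matrix ι κ F, ctrA α x X = w := by
  obtain ⟨x', hx'⟩ := h85_exists_dual hB hx0
  refine ⟨vecMulVec x' w, ?_⟩
  rw [Cfsg.Agent.Lib.Helper17_UT_BAS1.ctrA_pure, hx', one_smul]

/-- `β v · = 0` forces `v = 0` -/
theorem h85_beta_nondeg (hB : UTBase α β M) {v : κ → F} (h : ∀ w, β v w = 0) : v = 0 := by
  by_contra hv
  obtain ⟨y, -, hy⟩ := hB.hβN v (Submodule.mem_top) hv
  exact hy (h y)

theorem h85_vecMulVec_eq_zero {x : ι → F} (hx0 : x ≠ 0) {w : κ → F}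
    (h : vecMulVec x w = 0) : w = 0 := by
  have h0 : vmR (κ := κ) x w = vmR (κ := κ) x 0 := by
    rw [vmR_apply, vmR_apply, h]
    ext i j
    simp [vecMulVec_apply]
  exact h85_vmR_inj hx0 h0

theorem h85_isom (hB : UTBase α β M) {g : Matrix ι κ F ≃ₗ[F] Matrix ι κ F} (hg : g ∈ M)
    (X Y : Matrix ι κ F) : tf α β (g X) (g Y) = tf α β X Y :=
  (mem_SUg.mp (hB.hM hg)).1 X Y

theorem h85_isom' (hB : UTBase α β M) {g : Matrix ι κ F ≃ₗ[F] Matrix ι κ F} (hg : g ∈ M)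
    (X Y : Matrix ι κ F) : tf α β X (g Y) = tf α β (g.symm X) Y := by
  have := h85_isom hB hg (g.symm X) Y
  rw [LinearEquiv.apply_symm_apply] at this
  exact this

/-- `N_x` is self-adjoint -/
theorem h85_nII_sa (hB : UTBase α β M) (x : ι → F) (U W : Matrix ι κ F) :
    tf α β (nII α x U) W = tf α β U (nII α x W) := by
  have hH := Cfsg.Agent.Lib.Helper31_UT_BAS3.tf_isHerm hB.hσ hB.hα hB.hβ
  rw [hH W (nII α x U), Cfsg.Agent.Lib.Helper17_UT_BAS1.nII_apply,
    Cfsg.Agent.Lib.Helper17_UT_BAS1.nII_apply,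
    Cfsg.Agent.Lib.Helper17_UT_BAS1.tf_right_pure', Cfsg.Agent.Lib.Helper17_UT_BAS1.tf_right_pure',
    ← hB.hβ]

theorem rootLine_Lg (hB : UTBase α β M) (hII : RadStdII α M) {x : ι → F} (hx0 : x ≠ 0)
    (hx : α x x = 0) {g : Matrix ι κ F ≃ₗ[F] Matrix ι κ F} (hg : g ∈ M) :
    RootLine (tf α β) M (Lg x g) (Ng α x g) := by
  have hker : ∀ X, X ∈ orthS (tf α β) (Lg x g) ↔ ctrA α x (g.symm X) = 0 := by
    intro X
    rw [mem_orthS]
    constructor
    · intro h
      apply h85_beta_nondeg hB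
      intro w
      have := h (g (vecMulVec x w)) (mem_Lg.mpr ⟨w, rfl⟩)
      rw [h85_isom' hB hg, Cfsg.Agent.Lib.Helper17_UT_BAS1.tf_right_pure'] at this
      exact this
    · intro h Y hY
      obtain ⟨w, rfl⟩ := mem_Lg.mp hY
      rw [h85_isom' hB hg, Cfsg.Agent.Lib.Helper17_UT_BAS1.tf_right_pure', h, map_zero,
        LinearMap.zero_apply]
  refine { range_eq := ?_, ker_eq := ?_, sa := ?_, ti := ?_, mem := ?_, std := ?_ }
  · -- range
    ext X
    rw [LinearMap.mem_range, mem_Lg]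
    constructor
    · rintro ⟨Y, rfl⟩
      refine ⟨ctrA α x (g.symm Y), ?_⟩
      rw [Ng_apply, Cfsg.Agent.Lib.Helper17_UT_BAS1.nII_apply]
    · rintro ⟨w, rfl⟩
      obtain ⟨Y, hY⟩ := h85_ctrA_surj hB hx0 w
      refine ⟨g Y, ?_⟩
      rw [Ng_apply, LinearEquiv.symm_apply_apply, Cfsg.Agent.Lib.Helper17_UT_BAS1.nII_apply, hY]
  · -- kernel
    ext X
    rw [LinearMap.mem_ker, hker, Ng_apply, Cfsg.Agent.Lib.Helper17_UT_BAS1.nII_apply]
    constructor
    · intro h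
      have h2 : vecMulVec x (ctrA α x (g.symm X)) = 0 := by
        have := congrArg g.symm h
        rwa [LinearEquiv.symm_apply_apply, map_zero] at this
      exact h85_vecMulVec_eq_zero hx0 h2
    · intro h
      rw [h]
      have : vecMulVec x (0 : κ → F) = 0 := by
        ext i j
        simp [vecMulVec_apply]
      rw [this, map_zero]
  · -- self-adjoint
    intro U W
    rw [Ng_apply, Ng_apply, h85_isom' hB hg, ← h85_nII_sa hB]
    have h1 : tf α β (g (nII α x (g.symm U))) W = tf α β (nII α x (g.symm U)) (g.symm W) := by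
      have := h85_isom hB hg (nII α x (g.symm U)) (g.symm W)
      rw [LinearEquiv.apply_symm_apply] at this
      exact this
    rw [h1]
  · -- totally isotropic
    intro X hX
    obtain ⟨w, rfl⟩ := mem_Lg.mp hX
    rw [mem_orthS]
    intro Y hY
    obtain ⟨w', rfl⟩ := mem_Lg.mp hY
    rw [h85_isom hB hg, Cfsg.Agent.Lib.Helper17_UT_BAS1.tf_pure, hx, zero_mul]
  · -- mem
    intro s hs
    exact ⟨rtE α x g s, rtE_mem hB hx hg hs, fun v => rtE_apply hx g s v⟩
  · -- std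
    intro h hh hv
    have hh' : g⁻¹ * h * g ∈ M := M.mul_mem (M.mul_mem (M.inv_mem hg) hh) hg
    have hfib : ∀ X, (g⁻¹ * h * g) X - X ∈ fibB (κ := κ) x := by
      intro X
      obtain ⟨w, hw⟩ := mem_Lg.mp (hv (g X))
      refine ⟨w, ?_⟩
      rw [LinearEquiv.mul_apply, LinearEquiv.mul_apply]
      have h1 : g⁻¹ (h (g X)) = g.symm (h (g X)) := rfl
      have h2 : h (g X) = g X + g (vecMulVec x w) := by
        rw [← hw]; abel
      rw [h1, h2, map_add, LinearEquiv.symm_apply_apply, LinearEquiv.symm_apply_apply]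
      abel
    obtain ⟨s, hs, hform⟩ := radII_apply hB hII hx0 hx hh' hfib
    refine ⟨s, hs, fun v => ?_⟩
    have h3 := hform (g.symm v)
    rw [LinearEquiv.mul_apply, LinearEquiv.mul_apply, LinearEquiv.apply_symm_apply] at h3
    have h4 : g⁻¹ (h v) = g.symm (h v) := rfl
    rw [h4] at h3
    have h5 := congrArg g h3
    rw [LinearEquiv.apply_symm_apply, map_add, LinearEquiv.apply_symm_apply, map_smul] at h5
    rw [h5, Ng_apply]

end Cfsg.Agent.Lib.Helper85_UT_RL
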