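import Mathlib
import Cfsg.Agent.Lib.Helper37_UTDefs
import Cfsg.Agent.Lib.Helper37_UTPairDefs

set_option autoImplicit false
set_option linter.unusedSectionVars false
set_option linter.unusedVariables false

/-!
UTENS package KEYG (helper91, for helper37), auxiliary form: `key_aux` takes the statement of `key_base`
(for all `g`, `γ`) as a hypothesis `hKB`.  The final `key` is
`key_aux (fun hp hγ hst => key_base hC hII hS hx0 hx hd hmax hp hγ hst) hp hγ`.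
-/

namespace Cfsg.Agent.Lib.Helper91_UT_KEYGa

open Matrix Module
open Cfsg.Agent.Lib.Helper98_ExtDefs Cfsg.Agent.Lib.Helper97_TensDefs
open Cfsg.Agent.Lib.Helper94_Herm Cfsg.Agent.Lib.Helper13_PSUSimple
open Cfsg.Agent.Lib.Helper67_UT2Defs Cfsg.Agent.Lib.Helper37_UTDefs
open Cfsg.Agent.Lib.Helper37_UTPairDefs

section Abstract

variable {F : Type*} [Field F] {V : Type*} [AddCommGroup V] [Module F V] {σ : F →+* F}

/-- conjugation maps `Gam σ N N'` into `Gam σ (h N h⁻¹) (h N' h⁻¹)` -/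
theorem conj_mem_Gam (h : V ≃ₗ[F] V) (N N' : V →ₗ[F] V) {γ : V ≃ₗ[F] V} (hγ : γ ∈ Gam σ N N') :
    h * γ * h⁻¹ ∈ Gam σ (h.toLinearMap ∘ₗ N ∘ₗ h.symm.toLinearMap)
      (h.toLinearMap ∘ₗ N' ∘ₗ h.symm.toLinearMap) := by
  unfold Gam at hγ
  induction hγ using Subgroup.closure_induction with
  | mem g hg =>
    obtain ⟨s, hs, hg | hg⟩ := hg
    · apply Subgroup.subset_closure
      refine ⟨s, hs, Or.inl ?_⟩
      intro v
      show h (g (h.symm v)) = v + s • h (N (h.symm v))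
      rw [hg, map_add, map_smul, LinearEquiv.apply_symm_apply]
    · apply Subgroup.subset_closure
      refine ⟨s, hs, Or.inr ?_⟩
      intro v
      show h (g (h.symm v)) = v + s • h (N' (h.symm v))
      rw [hg, map_add, map_smul, LinearEquiv.apply_symm_apply]
  | one =>
    rw [mul_one, mul_inv_cancel]
    exact Subgroup.one_mem _
  | mul a b _ _ iha ihb =>
    have : h * (a * b) * h⁻¹ = (h * a * h⁻¹) * (h * b * h⁻¹) := by group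
    rw [this]
    exact Subgroup.mul_mem _ iha ihb
  | inv a _ iha =>
    have : h * a⁻¹ * h⁻¹ = (h * a * h⁻¹)⁻¹ := by group
    rw [this]
    exact Subgroup.inv_mem _ iha

end Abstract

variable {F : Type*} [Field F] {ι κ : Type*} [Fintype ι] [Fintype κ] [DecidableEq ι]
  [DecidableEq κ] {σ : F →+* F}
variable {α : (ι → F) →ₗ[F] (ι → F) →ₛₗ[σ] F} {β : (κ → F) →ₗ[F] (κ → F) →ₛₗ[σ] F}
variable {M : Subgroup (Matrix ι κ F ≃ₗ[F] Matrix ι κ F)}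

theorem conj_Ng_self (x : ι → F) (g₁ : Matrix ι κ F ≃ₗ[F] Matrix ι κ F) :
    (g₁⁻¹ : Matrix ι κ F ≃ₗ[F] Matrix ι κ F).toLinearMap ∘ₗ Ng α x g₁ ∘ₗ
      (g₁⁻¹ : Matrix ι κ F ≃ₗ[F] Matrix ι κ F).symm.toLinearMap = nII (κ := κ) α x := by
  apply LinearMap.ext
  intro X
  show g₁.symm (g₁ (nII α x (g₁.symm (g₁ X)))) = nII α x X
  rw [LinearEquiv.symm_apply_apply, LinearEquiv.symm_apply_apply]

theorem conj_Ng_other (x : ι → F) (g₁ g₂ : Matrix ι κ F ≃ₗ[F] Matrix ι κ F) :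
    (g₁⁻¹ : Matrix ι κ F ≃ₗ[F] Matrix ι κ F).toLinearMap ∘ₗ Ng α x g₂ ∘ₗ
      (g₁⁻¹ : Matrix ι κ F ≃ₗ[F] Matrix ι κ F).symm.toLinearMap = Ng α x (g₁⁻¹ * g₂) := by
  apply LinearMap.ext
  intro X
  rfl

theorem isPair_conj {x : ι → F} {d : ℕ} {g₁ g₂ : Matrix ι κ F ≃ₗ[F] Matrix ι κ F}
    (hp : IsPair x M d g₁ g₂) : IsPair x M d 1 (g₁⁻¹ * g₂) := by
  have e1 : Lg x (1 : Matrix ι κ F ≃ₗ[F] Matrix ι κ F) =
      (Lg x g₁).map (g₁⁻¹ : Matrix ι κ F ≃ₗ[F] Matrix ι κ F).toLinearMap := by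
    rw [← Lg_mul, inv_mul_cancel]
  have e2 : Lg x (g₁⁻¹ * g₂) =
      (Lg x g₂).map (g₁⁻¹ : Matrix ι κ F ≃ₗ[F] Matrix ι κ F).toLinearMap := Lg_mul x g₁⁻¹ g₂
  refine ⟨M.one_mem, M.mul_mem (M.inv_mem hp.mem₁) hp.mem₂, ?_, ?_⟩
  · intro heq
    apply hp.ne
    have h1 := congrArg (fun L => L.map g₁.toLinearMap) heq
    simp only [← Lg_mul] at h1
    rwa [mul_one, mul_inv_cancel_left] at h1
  · rw [e1, e2, ← Submodule.map_inf _ (g₁⁻¹ : Matrix ι κ F ≃ₗ[F] Matrix ι κ F).injective]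
    rw [← hp.dim]
    exact LinearEquiv.finrank_map_eq (g₁⁻¹ : Matrix ι κ F ≃ₗ[F] Matrix ι κ F) _

theorem isPair_symm {x : ι → F} {d : ℕ} {g₁ g₂ : Matrix ι κ F ≃ₗ[F] Matrix ι κ F}
    (hp : IsPair x M d g₁ g₂) : IsPair x M d g₂ g₁ :=
  ⟨hp.mem₂, hp.mem₁, hp.ne.symm, by rw [inf_comm]; exact hp.dim⟩

/-- the key lemma for the first member of a pair, from the key lemma for base pairs -/
theorem key_left {x : ι → F} {d : ℕ}
    (hKB : ∀ {g : Matrix ι κ F ≃ₗ[F] Matrix ι κ F}, IsPair x M d 1 g →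
      ∀ {γ : Matrix ι κ F ≃ₗ[F] Matrix ι κ F}, γ ∈ Gam σ (nII (κ := κ) α x) (Ng α x g) →
      (∀ X ∈ fibB (κ := κ) x, γ X ∈ fibB (κ := κ) x) →
      ∃ s : F, σ s = -s ∧ ∀ X, γ X = X + s • nII α x X)
    {g₁ g₂ : Matrix ι κ F ≃ₗ[F] Matrix ι κ F} (hp : IsPair x M d g₁ g₂)
    {γ : Matrix ι κ F ≃ₗ[F] Matrix ι κ F} (hγ : γ ∈ Gam σ (Ng α x g₁) (Ng α x g₂))
    (hst : ∀ X ∈ Lg x g₁, γ X ∈ Lg x g₁) :
    ∃ s : F, σ s = -s ∧ ∀ X, γ X = X + s • Ng α x g₁ X := by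
  have hγ' : g₁⁻¹ * γ * g₁ ∈ Gam σ (nII (κ := κ) α x) (Ng α x (g₁⁻¹ * g₂)) := by
    have h1 := conj_mem_Gam (g₁⁻¹ : Matrix ι κ F ≃ₗ[F] Matrix ι κ F) _ _ hγ
    rw [inv_inv, conj_Ng_self, conj_Ng_other] at h1
    exact h1
  have hst' : ∀ X ∈ fibB (κ := κ) x, (g₁⁻¹ * γ * g₁) X ∈ fibB (κ := κ) x := by
    intro X hX
    have h1 : g₁ X ∈ Lg x g₁ := Submodule.mem_map_of_mem (f := g₁.toLinearMap) hX
    obtain ⟨Y, hY, hYe⟩ := hst _ h1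
    have h2 : (g₁⁻¹ * γ * g₁) X = Y := by
      show g₁.symm (γ (g₁ X)) = Y
      rw [LinearEquiv.symm_apply_eq]
      exact hYe.symm
    rw [h2]
    exact hY
  obtain ⟨s, hs, h⟩ := hKB (isPair_conj hp) hγ' hst'
  refine ⟨s, hs, fun X => ?_⟩
  have h1 := h (g₁.symm X)
  have h2 : (g₁⁻¹ * γ * g₁) (g₁.symm X) = g₁.symm (γ X) := by
    show g₁.symm (γ (g₁ (g₁.symm X))) = g₁.symm (γ X)
    rw [LinearEquiv.apply_symm_apply]
  rw [h2, LinearEquiv.symm_apply_eq, map_add, map_smul, LinearEquiv.apply_symm_apply] at h1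
  rw [h1, Ng_apply]

/-- KEYG with the statement of KEYB as a hypothesis -/
theorem key_aux {x : ι → F} {d : ℕ}
    (hKB : ∀ {g : Matrix ι κ F ≃ₗ[F] Matrix ι κ F}, IsPair x M d 1 g →
      ∀ {γ : Matrix ι κ F ≃ₗ[F] Matrix ι κ F}, γ ∈ Gam σ (nII (κ := κ) α x) (Ng α x g) →
      (∀ X ∈ fibB (κ := κ) x, γ X ∈ fibB (κ := κ) x) →
      ∃ s : F, σ s = -s ∧ ∀ X, γ X = X + s • nII α x X)
    {g₁ g₂ : Matrix ι κ F ≃ₗ[F] Matrix ι κ F} (hp : IsPair x M d g₁ g₂)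
    {γ : Matrix ι κ F ≃ₗ[F] Matrix ι κ F} (hγ : γ ∈ Gam σ (Ng α x g₁) (Ng α x g₂)) :
    ((∀ X ∈ Lg x g₁, γ X ∈ Lg x g₁) → ∃ s : F, σ s = -s ∧ ∀ X, γ X = X + s • Ng α x g₁ X) ∧
    ((∀ X ∈ Lg x g₂, γ X ∈ Lg x g₂) → ∃ s : F, σ s = -s ∧ ∀ X, γ X = X + s • Ng α x g₂ X) := by
  refine ⟨fun hst => key_left hKB hp hγ hst, fun hst => ?_⟩
  have hγ2 : γ ∈ Gam σ (Ng α x g₂) (Ng α x g₁) := by
    rw [Gam_comm]; exact hγ
  exact key_left hKB (isPair_symm hp) hγ2 hst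

end Cfsg.Agent.Lib.Helper91_UT_KEYGa
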