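import Mathlib
import Cfsg.Agent.Lib.Helper37_UTDefs
import Cfsg.Agent.Lib.Helper37_UTPairDefs
import Cfsg.Agent.Lib.Helper17_UT_BAS1
import Cfsg.Agent.Lib.Helper44_UT_BAS4
import Cfsg.Agent.Lib.Helper42_UT_BAS6
import Cfsg.Agent.Lib.Helper14_PSULocal1
import Cfsg.Agent.Lib.Helper53_UT_ZF
import Cfsg.Agent.Lib.Helper85_UT_RL
import Cfsg.Agent.Lib.Helper17_UT_G2I
import Cfsg.Agent.Lib.Helper63_UT_E1
import Cfsg.Agent.Lib.Helper91_UT_KEYGa

set_option autoImplicit false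
set_option linter.unusedSectionVars false
set_option linter.unusedVariables false

/-!
# UTENS package UT-E2 (architect helper37, formaliser helper20): the dihedral trick

`e2_of` : the statement `e2` of `pending/helper37/UTENS_packages5.lean.txt` with the key lemma for base pairs
(`key_base`, package UT-KEYB) as a hypothesis `hKB` (same form as in `Helper91_UT_KEYGa.key_aux`).
All other dependencies (`rootLine_Lg`, `rtE_apply`, `rtE_mem`, `g2I`, `e1_odd_order`, `radII_apply`,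
`tmE_mem_base`) are landed and imported.  The abstract dihedral lemma is `dihedral_central'` below
(`Helper75_UT_E2G.dihedral_central` without its unused hypotheses).
-/

namespace Cfsg.Agent.Lib.Helper20_UT_E2

open Matrix Module
open Cfsg.Agent.Lib.Helper98_ExtDefs Cfsg.Agent.Lib.Helper97_TensDefs
open Cfsg.Agent.Lib.Helper94_Herm Cfsg.Agent.Lib.Helper13_PSUSimple
open Cfsg.Agent.Lib.Helper67_UT2Defs Cfsg.Agent.Lib.Helper37_UTDefs
open Cfsg.Agent.Lib.Helper37_UTPairDefs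

/-- the dihedral trick (as `Helper75_UT_E2G.dihedral_central`, without the hypotheses `Finite G` and
`¬ IsConj s x'`, which the proof does not use) -/
theorem dihedral_central' {G : Type*} [Group G] (s x' : G) (hs : s * s = 1)
    (hx : x' * x' = 1) (hodd : Odd (orderOf (s * x' * s * x'))) :
    ∃ γ ∈ Subgroup.closure ({x', s * x' * s} : Set G),
      Commute s (γ * x' * γ⁻¹) ∧ (γ * x' * γ⁻¹) * x' * (γ * x' * γ⁻¹)⁻¹ = s * x' * s := by
  obtain ⟨t, ht⟩ := hodd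
  obtain ⟨r, hr⟩ : ∃ r : G, r = s * x' * s * x' := ⟨_, rfl⟩
  rw [← hr] at ht
  have hsinv : s⁻¹ = s := inv_eq_of_mul_eq_one_right hs
  have hxinv : x'⁻¹ = x' := inv_eq_of_mul_eq_one_right hx
  have hrinv : r⁻¹ = x' * s * x' * s := by
    rw [hr]
    simp only [_root_.mul_inv_rev, hsinv, hxinv, mul_assoc]
  have hxr : x' * r * x'⁻¹ = r⁻¹ := by
    rw [hrinv, hxinv, hr]
    calc x' * (s * x' * s * x') * x' = x' * s * x' * s * (x' * x') := by group
      _ = x' * s * x' * s := by rw [hx, mul_one]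
  have hsr : s * r * s⁻¹ = r⁻¹ := by
    rw [hrinv, hsinv, hr]
    calc s * (s * x' * s * x') * s = (s * s) * x' * s * x' * s := by group
      _ = x' * s * x' * s := by rw [hs, one_mul]
  have hxrk : ∀ k : ℕ, x' * r ^ k * x'⁻¹ = (r ^ k)⁻¹ := fun k => by
    rw [← inv_pow, ← hxr, conj_pow]
  have hsrk : ∀ k : ℕ, s * r ^ k * s⁻¹ = (r ^ k)⁻¹ := fun k => by
    rw [← inv_pow, ← hsr, conj_pow]
  have hr2j : r ^ (2 * (t + 1)) = r := by
    have h1 : r ^ (2 * t + 1) = 1 := by rw [← ht]; exact pow_orderOf_eq_one r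
    have : 2 * (t + 1) = (2 * t + 1) + 1 := by ring
    rw [this, pow_succ, h1, one_mul]
  have hxk : ∀ k : ℕ, x' * (r ^ k)⁻¹ = r ^ k * x' := fun k => by
    have h := hxrk k
    have h2 : x' * (r ^ k)⁻¹ * x'⁻¹ = r ^ k := by
      calc x' * (r ^ k)⁻¹ * x'⁻¹ = (x' * r ^ k * x'⁻¹)⁻¹ := by group
        _ = ((r ^ k)⁻¹)⁻¹ := by rw [h]
        _ = r ^ k := inv_inv _
    calc x' * (r ^ k)⁻¹ = (x' * (r ^ k)⁻¹ * x'⁻¹) * x' := by group
      _ = r ^ k * x' := by rw [h2]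
  have hrx : r * x' = s * x' * s := by
    rw [hr]
    calc s * x' * s * x' * x' = s * x' * s * (x' * x') := by group
      _ = s * x' * s := by rw [hx, mul_one]
  have hrmem : r ∈ Subgroup.closure ({x', s * x' * s} : Set G) := by
    rw [hr]
    exact Subgroup.mul_mem _ (Subgroup.subset_closure (by simp)) (Subgroup.subset_closure (by simp))
  refine ⟨r ^ ((t + 1) * (t + 1)), Subgroup.pow_mem _ hrmem _, ?_⟩
  have hδ : r ^ ((t + 1) * (t + 1)) * x' * (r ^ ((t + 1) * (t + 1)))⁻¹ = r ^ (t + 1) * x' := by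
    have hgg : r ^ ((t + 1) * (t + 1)) * r ^ ((t + 1) * (t + 1)) = r ^ (t + 1) := by
      rw [← pow_add]
      have : (t + 1) * (t + 1) + (t + 1) * (t + 1) = (2 * (t + 1)) * (t + 1) := by ring
      rw [this, pow_mul, hr2j]
    calc r ^ ((t + 1) * (t + 1)) * x' * (r ^ ((t + 1) * (t + 1)))⁻¹
        = r ^ ((t + 1) * (t + 1)) * (x' * (r ^ ((t + 1) * (t + 1)))⁻¹) := by group
      _ = r ^ ((t + 1) * (t + 1)) * (r ^ ((t + 1) * (t + 1)) * x') := by rw [hxk]
      _ = (r ^ ((t + 1) * (t + 1)) * r ^ ((t + 1) * (t + 1))) * x' := by group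
      _ = r ^ (t + 1) * x' := by rw [hgg]
  have hjj : r ^ (t + 1) * r ^ (t + 1) = r := by
    rw [← pow_add]
    have : t + 1 + (t + 1) = 2 * (t + 1) := by ring
    rw [this, hr2j]
  rw [hδ]
  constructor
  · show s * (r ^ (t + 1) * x') = r ^ (t + 1) * x' * s
    have h1 : s * r ^ (t + 1) = (r ^ (t + 1))⁻¹ * s := by
      have h := hsrk (t + 1)
      calc s * r ^ (t + 1) = (s * r ^ (t + 1) * s⁻¹) * s := by group
        _ = (r ^ (t + 1))⁻¹ * s := by rw [h]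
    have h2 : s * x' = r ^ (t + 1) * (r ^ (t + 1) * x' * s) := by
      calc s * x' = s * x' * (s * s) := by rw [hs, mul_one]
        _ = (s * x' * s) * s := by group
        _ = r * x' * s := by rw [hrx]
        _ = (r ^ (t + 1) * r ^ (t + 1)) * x' * s := by rw [hjj]
        _ = r ^ (t + 1) * (r ^ (t + 1) * x' * s) := by group
    calc s * (r ^ (t + 1) * x') = (s * r ^ (t + 1)) * x' := by group
      _ = (r ^ (t + 1))⁻¹ * s * x' := by rw [h1]
      _ = (r ^ (t + 1))⁻¹ * (s * x') := by group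
      _ = (r ^ (t + 1))⁻¹ * (r ^ (t + 1) * (r ^ (t + 1) * x' * s)) := by rw [← h2]
      _ = r ^ (t + 1) * x' * s := by group
  · calc r ^ (t + 1) * x' * x' * (r ^ (t + 1) * x')⁻¹
        = r ^ (t + 1) * (x' * x') * (x'⁻¹ * (r ^ (t + 1))⁻¹) := by group
      _ = r ^ (t + 1) * (x' * (r ^ (t + 1))⁻¹) := by rw [hx, hxinv]; group
      _ = r ^ (t + 1) * (r ^ (t + 1) * x') := by rw [hxk]
      _ = (r ^ (t + 1) * r ^ (t + 1)) * x' := by group
      _ = s * x' * s := by rw [hjj, hrx]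

variable {F : Type*} [Field F] {ι κ : Type*} [Fintype ι] [Fintype κ] [DecidableEq ι]
  [DecidableEq κ] {σ : F →+* F}
variable {α : (ι → F) →ₗ[F] (ι → F) →ₛₗ[σ] F} {β : (κ → F) →ₗ[F] (κ → F) →ₛₗ[σ] F}
variable {M : Subgroup (Matrix ι κ F ≃ₗ[F] Matrix ι κ F)}

/-- two fibres `x ⊗ B`, `x'' ⊗ B` with a common nonzero element are equal -/
theorem fibB_eq_of_common {x x'' : ι → F} {X : Matrix ι κ F} (hX0 : X ≠ 0)
    (h1 : X ∈ fibB (κ := κ) x) (h2 : X ∈ fibB (κ := κ) x'') :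
    fibB (κ := κ) x = fibB (κ := κ) x'' := by
  obtain ⟨w, rfl⟩ := h1
  obtain ⟨w', hw'⟩ := h2
  obtain ⟨i, j, hij⟩ : ∃ i j, vecMulVec x w i j ≠ 0 := by
    by_contra hcon
    push Not at hcon
    exact hX0 (Matrix.ext hcon)
  have hij2 : x'' i * w' j ≠ 0 := by
    have := congrFun (congrFun hw' i) j
    rw [vecMulVec_apply] at hij
    rw [vecMulVec_apply, vecMulVec_apply] at this
    rw [← this]; exact hij
  rw [vecMulVec_apply] at hij
  have hwj : w j ≠ 0 := right_ne_zero_of_mul hij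
  have hw'j : w' j ≠ 0 := right_ne_zero_of_mul hij2
  have hxx : x'' = (w j / w' j) • x := by
    ext i'
    have := congrFun (congrFun hw' i') j
    rw [vecMulVec_apply, vecMulVec_apply] at this
    rw [Pi.smul_apply, smul_eq_mul]
    field_simp
    rw [← this]; ring
  have hk : w j / w' j ≠ 0 := div_ne_zero hwj hw'j
  obtain ⟨k, hkdef⟩ : ∃ k : F, k = w j / w' j := ⟨_, rfl⟩
  rw [← hkdef] at hxx hk
  ext Y
  rw [mem_fibB, mem_fibB]
  constructor
  · rintro ⟨v, rfl⟩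
    refine ⟨k⁻¹ • v, ?_⟩
    rw [hxx, smul_vecMulVec, vecMulVec_smul, smul_smul, mul_inv_cancel₀ hk, one_smul]
  · rintro ⟨v, rfl⟩
    refine ⟨k • v, ?_⟩
    rw [hxx, smul_vecMulVec, vecMulVec_smul]

/-- a root operator has square zero -/
theorem rootOp_sq_zero {V : Type*} [AddCommGroup V] [Module F V] {f : V →ₗ[F] V →ₛₗ[σ] F}
    {ℓ : Submodule F V} {N : V →ₗ[F] V} (h : IsRootOp f ℓ N) (v : V) : N (N v) = 0 := by
  have h1 : N v ∈ ℓ := by rw [← h.range_eq]; exact LinearMap.mem_range_self N v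
  have h2 : N v ∈ LinearMap.ker N := by rw [h.ker_eq]; exact h.ti h1
  exact LinearMap.mem_ker.mp h2

/-- a root operator kills its line -/
theorem rootOp_kill {V : Type*} [AddCommGroup V] [Module F V] {f : V →ₗ[F] V →ₛₗ[σ] F}
    {ℓ : Submodule F V} {N : V →ₗ[F] V} (h : IsRootOp f ℓ N) {v : V} (hv : v ∈ ℓ) : N v = 0 := by
  have h2 : v ∈ LinearMap.ker N := by rw [h.ker_eq]; exact h.ti hv
  exact LinearMap.mem_ker.mp h2

theorem nI_sq_zero {y : κ → F} (hy : β y y = 0) (X : Matrix ι κ F) :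
    nI (ι := ι) β y (nI (ι := ι) β y X) = 0 := by
  rw [Cfsg.Agent.Lib.Helper17_UT_BAS1.nI_apply y X, Cfsg.Agent.Lib.Helper17_UT_BAS1.nI_apply,
    Cfsg.Agent.Lib.Helper17_UT_BAS1.ctrB_pure, hy, zero_smul]
  ext i j
  simp [vecMulVec_apply]

theorem rtE_conj (x : ι → F) (h g : Matrix ι κ F ≃ₗ[F] Matrix ι κ F) (t : F) :
    rtE α x (h * g) t = h * rtE α x g t * h⁻¹ := by
  unfold rtE
  rw [_root_.mul_inv_rev]
  simp only [mul_assoc]

/-- E2 with the key lemma for base pairs as a hypothesis -/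
theorem e2_of [Finite F] (hC : UTCtx α β M) (hII : RadStdII α M) (hS : StabII α M)
    (hS' : StabI β M) (h2 : (2 : F) = 0) {x : ι → F} (hx0 : x ≠ 0) (hx : α x x = 0) {d : ℕ}
    (hd : 1 ≤ d) (hmax : MaxD x M d)
    (hKB : ∀ {g : Matrix ι κ F ≃ₗ[F] Matrix ι κ F}, IsPair x M d 1 g →
      ∀ {γ : Matrix ι κ F ≃ₗ[F] Matrix ι κ F}, γ ∈ Gam σ (nII (κ := κ) α x) (Ng α x g) →
      (∀ X ∈ fibB (κ := κ) x, γ X ∈ fibB (κ := κ) x) →
      ∃ s : F, σ s = -s ∧ ∀ X, γ X = X + s • nII α x X)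
    {g : Matrix ι κ F ≃ₗ[F] Matrix ι κ F}
    (hp : IsPair x M d 1 g) {y : κ → F} (hy0 : y ≠ 0) (hy : β y y = 0) {c : F} (hc : σ c = -c)
    (hc0 : c ≠ 0)
    (hsI : ∀ X ∈ fibB x ⊓ Lg x g,
      tmE (1 : (ι → F) ≃ₗ[F] (ι → F)) (utv β y c) X ∈ fibB x ⊓ Lg x g) :
    ∃ s₁ : F, s₁ ≠ 0 ∧ σ s₁ = -s₁ ∧ ∀ X, tmE (utv α x s₁) (utv β y c) (Ng α x g X) =
      Ng α x g (tmE (utv α x s₁) (utv β y c) X) := by
  have hB : UTBase α β M := UTCtx.base hC
  have hneg : ∀ a : F, -a = a := by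
    intro a
    apply neg_eq_of_add_eq_zero_right
    rw [← two_mul, h2, zero_mul]
  have hσ1 : σ (1 : F) = -1 := by rw [map_one, hneg]
  -- the involution `s`
  obtain ⟨s, hsdef⟩ : ∃ s : Matrix ι κ F ≃ₗ[F] Matrix ι κ F,
      s = tmE (1 : (ι → F) ≃ₗ[F] (ι → F)) (utv β y c) := ⟨_, rfl⟩
  rw [← hsdef] at hsI
  have hsM : s ∈ M := by
    rw [hsdef]
    exact Cfsg.Agent.Lib.Helper53_UT_ZF.tmE_mem_base hB (Subgroup.one_mem _)
      (Cfsg.Agent.Lib.Helper14_PSULocal1.utv_mem_SUg hB.hβ y hc)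
  have hs_apply : ∀ X, s X = X + c • nI (ι := ι) β y X := by
    intro X
    rw [hsdef]
    exact Cfsg.Agent.Lib.Helper42_UT_BAS6.tmE_utv_right hy c X
  have hss : s * s = 1 :=
    Cfsg.Agent.Lib.Helper63_UT_E1.sq_eq_one_of_root h2 (nI_sq_zero hy) hs_apply
  have hsinv : s⁻¹ = s := inv_eq_of_mul_eq_one_right hss
  have hssX : ∀ X, s (s X) = X := by
    intro X
    have := congrArg (fun e : Matrix ι κ F ≃ₗ[F] Matrix ι κ F => e X) hss
    simpa using this
  -- the root lines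
  have hgM : g ∈ M := hp.mem₂
  have hsgM : s * g ∈ M := M.mul_mem hsM hgM
  have hR := Cfsg.Agent.Lib.Helper85_UT_RL.rootLine_Lg hB hII hx0 hx hgM
  have hR' := Cfsg.Agent.Lib.Helper85_UT_RL.rootLine_Lg hB hII hx0 hx hsgM
  -- `I`
  have hI_le : fibB x ⊓ Lg x g ≤ Lg x (s * g) := by
    intro X hX
    rw [Lg_mul]
    refine ⟨s X, (hsI X hX).2, ?_⟩
    exact hssX X
  have hIdim : finrank F ↥(fibB (κ := κ) x ⊓ Lg x g) = d := by
    have := hp.dim
    rwa [Lg_one] at this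
  have hIne : ∃ X ∈ fibB (κ := κ) x ⊓ Lg x g, X ≠ 0 := by
    by_contra hcon
    push Not at hcon
    have hbot : fibB (κ := κ) x ⊓ Lg x g = ⊥ := by
      rw [eq_bot_iff]
      intro X hX
      rw [Submodule.mem_bot]
      exact hcon X hX
    rw [hbot, finrank_bot] at hIdim
    omega
  obtain ⟨X₀, hX₀I, hX₀⟩ := hIne
  -- a line through `I` stabilised by `s` is `fibB x`
  have hfib : ∀ h ∈ M, fibB x ⊓ Lg x g ≤ Lg x h → (∀ X ∈ Lg x h, s X ∈ Lg x h) →
      Lg x h = fibB x := by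
    intro h hh hle hst
    rw [hsdef] at hst
    obtain ⟨x'', hx''0, hx''⟩ :=
      Cfsg.Agent.Lib.Helper17_UT_G2I.g2I hC hS hS' hx0 hx hh hy0 hy hc hc0 hst
    rw [hx'']
    refine (fibB_eq_of_common hX₀ hX₀I.1 ?_).symm
    rw [← hx'']
    exact hle hX₀I
  have hne' : Lg x g ≠ Lg x (s * g) := by
    intro heq
    have hst : ∀ X ∈ Lg x g, s X ∈ Lg x g := by
      intro X hX
      rw [heq, Lg_mul]
      exact ⟨X, hX, rfl⟩
    have := hfib g hgM inf_le_right hst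
    apply hp.ne
    rw [Lg_one, this]
  have hdim' : finrank F ↥(Lg x g ⊓ Lg x (s * g)) = d := by
    apply le_antisymm (hmax g hgM (s * g) hsgM hne')
    rw [← hIdim]
    exact Submodule.finrank_mono (le_inf inf_le_right hI_le)
  have hp' : IsPair x M d g (s * g) := ⟨hgM, hsgM, hne', hdim'⟩
  have hp'' : IsPair x M d (s * g) g := Cfsg.Agent.Lib.Helper91_UT_KEYGa.isPair_symm hp'
  -- the root involutions
  obtain ⟨x', hx'def⟩ : ∃ x' : Matrix ι κ F ≃ₗ[F] Matrix ι κ F, x' = rtE α x g 1 := ⟨_, rfl⟩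
  have hx'_apply : ∀ X, x' X = X + (1 : F) • Ng α x g X := by
    intro X
    rw [hx'def]
    exact Cfsg.Agent.Lib.Helper85_UT_RL.rtE_apply hx g 1 X
  have hx'M : x' ∈ M := by
    rw [hx'def]
    exact Cfsg.Agent.Lib.Helper85_UT_RL.rtE_mem hB hx hgM hσ1
  have hx'x' : x' * x' = 1 :=
    Cfsg.Agent.Lib.Helper63_UT_E1.sq_eq_one_of_root h2 (rootOp_sq_zero hR.toIsRootOp) hx'_apply
  have hx'inv : x'⁻¹ = x' := inv_eq_of_mul_eq_one_right hx'x'
  have ha_eq : s * x' * s = rtE α x (s * g) 1 := by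
    rw [rtE_conj, hsinv, hx'def]
  have ha_apply : ∀ X, (s * x' * s) X = X + (1 : F) • Ng α x (s * g) X := by
    intro X
    rw [ha_eq]
    exact Cfsg.Agent.Lib.Helper85_UT_RL.rtE_apply hx (s * g) 1 X
  -- odd order
  have hodd : Odd (orderOf (s * x' * s * x')) := by
    refine Cfsg.Agent.Lib.Helper63_UT_E1.e1_odd_order (σ := σ) h2 (N₁ := Ng α x (s * g))
      (N₂ := Ng α x g) (ℓ₁ := Lg x (s * g)) (ℓ₂ := Lg x g) hR'.range_eq hR.range_eq hne'.symm
      (rootOp_sq_zero hR'.toIsRootOp) (rootOp_sq_zero hR.toIsRootOp) ?_ ?_ hσ1 hσ1 one_ne_zero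
      one_ne_zero ha_apply hx'_apply
    · intro γ hγ hst
      exact (Cfsg.Agent.Lib.Helper91_UT_KEYGa.key_aux hKB hp'' hγ).1 hst
    · intro γ hγ hst
      exact (Cfsg.Agent.Lib.Helper91_UT_KEYGa.key_aux hKB hp'' hγ).2 hst
  -- the dihedral trick
  obtain ⟨γ, hγcl, hcomm, hconj⟩ := dihedral_central' s x' hss hx'x' hodd
  have hγM : γ ∈ M := by
    have hle : Subgroup.closure ({x', s * x' * s} : Set (Matrix ι κ F ≃ₗ[F] Matrix ι κ F)) ≤ M := by
      rw [Subgroup.closure_le]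
      intro e he
      rcases he with rfl | rfl
      · exact hx'M
      · exact M.mul_mem (M.mul_mem hsM hx'M) hsM
    exact hle hγcl
  -- `γ` fixes `I` pointwise
  have hfix : ∀ e ∈ Subgroup.closure ({x', s * x' * s} : Set (Matrix ι κ F ≃ₗ[F] Matrix ι κ F)),
      ∀ X ∈ fibB (κ := κ) x ⊓ Lg x g, e X = X := by
    intro e he
    induction he using Subgroup.closure_induction with
    | mem e he =>
      intro X hX
      rcases he with rfl | rfl
      · rw [hx'_apply, rootOp_kill hR.toIsRootOp hX.2, smul_zero, add_zero]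
      · rw [ha_apply, rootOp_kill hR'.toIsRootOp (hI_le hX), smul_zero, add_zero]
    | one => intro X _; rfl
    | mul a b _ _ ha hb =>
      intro X hX
      rw [LinearEquiv.mul_apply, hb X hX, ha X hX]
    | inv a _ ha =>
      intro X hX
      have h1 : a⁻¹ (a X) = X := LinearEquiv.symm_apply_apply a X
      rw [ha X hX] at h1
      exact h1
  have hγI : ∀ X ∈ fibB (κ := κ) x ⊓ Lg x g, γ X = X := hfix γ hγcl
  -- `δ`
  obtain ⟨δ, hδdef⟩ : ∃ δ : Matrix ι κ F ≃ₗ[F] Matrix ι κ F, δ = γ * x' * γ⁻¹ := ⟨_, rfl⟩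
  rw [← hδdef] at hcomm hconj
  have hγgM : γ * g ∈ M := M.mul_mem hγM hgM
  have hδM : δ ∈ M := by
    rw [hδdef]
    exact M.mul_mem (M.mul_mem hγM hx'M) (M.inv_mem hγM)
  have hR'' := Cfsg.Agent.Lib.Helper85_UT_RL.rootLine_Lg hB hII hx0 hx hγgM
  have hδ_eq : δ = rtE α x (γ * g) 1 := by
    rw [rtE_conj, hδdef, hx'def]
  have hδ_apply : ∀ X, δ X = X + Ng α x (γ * g) X := by
    intro X
    rw [hδ_eq, Cfsg.Agent.Lib.Helper85_UT_RL.rtE_apply hx (γ * g) 1 X, one_smul]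
  have hδδ : δ * δ = 1 := by
    rw [hδdef]
    calc γ * x' * γ⁻¹ * (γ * x' * γ⁻¹) = γ * (x' * x') * γ⁻¹ := by group
      _ = 1 := by rw [hx'x']; group
  have hδinv : δ⁻¹ = δ := inv_eq_of_mul_eq_one_right hδδ
  -- `s` stabilises `Lg x (γ g)`
  have hst'' : ∀ X ∈ Lg x (γ * g), s X ∈ Lg x (γ * g) := by
    intro X hX
    rw [← hR''.range_eq] at hX ⊢
    obtain ⟨v, rfl⟩ := hX
    refine ⟨s v, ?_⟩
    have h1 : s (δ v) = δ (s v) := by
      have := congrArg (fun e : Matrix ι κ F ≃ₗ[F] Matrix ι κ F => e v) hcomm.eq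
      simpa using this
    rw [hδ_apply, hδ_apply, map_add] at h1
    exact (add_left_cancel h1).symm
  have hIγ : fibB x ⊓ Lg x g ≤ Lg x (γ * g) := by
    intro X hX
    rw [Lg_mul]
    exact ⟨X, hX.2, hγI X hX⟩
  have hLγ : Lg x (γ * g) = fibB x := hfib (γ * g) hγgM hIγ hst''
  -- `δ = t_x(s₁) ⊗ 1`
  have hδfib : ∀ X, δ X - X ∈ fibB (κ := κ) x := by
    intro X
    rw [hδ_apply, add_sub_cancel_left, ← hLγ, ← hR''.range_eq]
    exact LinearMap.mem_range_self _ X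
  obtain ⟨s₁, hs₁, hδs₁⟩ := Cfsg.Agent.Lib.Helper53_UT_ZF.radII_apply hB hII hx0 hx hδM hδfib
  have hx'ne : x' ≠ 1 := by
    intro h1
    have h3 : Ng α x g (γ⁻¹ X₀) = 0 := by
      have := hx'_apply (γ⁻¹ X₀)
      rw [h1, one_smul] at this
      have h4 : (1 : Matrix ι κ F ≃ₗ[F] Matrix ι κ F) (γ⁻¹ X₀) = γ⁻¹ X₀ := rfl
      rw [h4] at this
      exact (add_eq_left.mp this.symm)
    -- `X₀ ∈ range (Ng α x g)`, so `Ng ≠ 0`
    have hX₀r : X₀ ∈ LinearMap.range (Ng α x g) := by rw [hR.range_eq]; exact hX₀I.2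
    obtain ⟨v, hv⟩ := hX₀r
    have h5 := hx'_apply v
    rw [h1, one_smul, hv] at h5
    have h6 : (1 : Matrix ι κ F ≃ₗ[F] Matrix ι κ F) v = v := rfl
    rw [h6] at h5
    exact hX₀ (add_eq_left.mp h5.symm)
  have hs₁0 : s₁ ≠ 0 := by
    intro h0
    apply hx'ne
    have hδ1 : δ = 1 := by
      apply LinearEquiv.ext
      intro X
      rw [hδs₁, h0, zero_smul, add_zero]
      rfl
    rw [hδdef] at hδ1
    calc x' = γ⁻¹ * (γ * x' * γ⁻¹) * γ := by group
      _ = 1 := by rw [hδ1]; group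
  have hδtm : δ = tmE (utv α x s₁) (1 : (κ → F) ≃ₗ[F] (κ → F)) := by
    apply LinearEquiv.ext
    intro X
    rw [hδs₁, Cfsg.Agent.Lib.Helper42_UT_BAS6.tmE_utv_left hx s₁ X]
  have hw : tmE (utv α x s₁) (utv β y c) = δ * s := by
    rw [hδtm, hsdef, Cfsg.Agent.Lib.Helper44_UT_BAS4.tmE_mul, mul_one, one_mul]
  refine ⟨s₁, hs₁0, hs₁, ?_⟩
  rw [hw]
  have hwx : δ * s * x' = x' * (δ * s) := by
    rw [hδinv] at hconj
    calc δ * s * x' = δ * (s * x' * (s * s)) := by rw [hss, mul_one, mul_assoc]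
      _ = δ * (s * x' * s) * s := by group
      _ = δ * (δ * x' * δ) * s := by rw [← hconj]
      _ = (δ * δ) * x' * (δ * s) := by group
      _ = x' * (δ * s) := by rw [hδδ, one_mul]
  intro X
  have h1 := congrArg (fun e : Matrix ι κ F ≃ₗ[F] Matrix ι κ F => e X) hwx
  simp only [LinearEquiv.mul_apply] at h1
  rw [hx'_apply, hx'_apply, one_smul, one_smul, map_add, map_add] at h1
  have h7 := add_left_cancel h1
  simpa [LinearEquiv.mul_apply] using h7

end Cfsg.Agent.Lib.Helper20_UT_E2
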