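import Mathlib
import Cfsg.Agent.Lib.Helper37_UTDefs
import Cfsg.Agent.Lib.Helper37_UTPairDefs

set_option autoImplicit false
set_option linter.unusedSectionVars false
set_option linter.unusedVariables false
set_option linter.unusedSimpArgs false

/-!
UTENS wave 2b, package UT-PGEOB (architect helper37): `pairGeoU` (the structure of a maximal pair,
part B).  The decomposition `V = W ⊕ W^⊥` for a nondegenerate finite-dimensional `W` is proved for
an arbitrary field (no finiteness of `F`).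
-/

namespace Cfsg.Agent.Lib.Helper25_UT_PGEOB

open Module
open Cfsg.Agent.Lib.Helper94_Herm Cfsg.Agent.Lib.Helper13_PSUSimple
open Cfsg.Agent.Lib.Helper37_UTPairDefs

variable {F : Type*} [Field F] {V : Type*} [AddCommGroup V] [Module F V] {σ : F →+* F}
variable {f : V →ₗ[F] V →ₛₗ[σ] F} {ℓ ℓ' : Submodule F V} {N N' : V →ₗ[F] V}

/-- `v ↦ f v ·` restricted to `W`, as a linear map into the semilinear functionals of `W` -/
def resMap (f : V →ₗ[F] V →ₛₗ[σ] F) (W : Submodule F V) : V →ₗ[F] (↥W →ₛₗ[σ] F) where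
  toFun v := (f v).comp W.subtype
  map_add' a b := by
    ext w
    simp
  map_smul' c a := by
    ext w
    simp

theorem resMap_apply (W : Submodule F V) (v : V) (w : ↥W) : resMap f W v w = f v (w : V) := rfl

/-- evaluation of semilinear functionals on a basis -/
noncomputable def evalB {n : ℕ} {W : Type*} [AddCommGroup W] [Module F W] (b : Basis (Fin n) F W) :
    (W →ₛₗ[σ] F) →ₗ[F] (Fin n → F) where
  toFun g i := g (b i)
  map_add' a c := by
    funext i
    simp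
  map_smul' c a := by
    funext i
    simp

theorem evalB_injective {n : ℕ} {W : Type*} [AddCommGroup W] [Module F W]
    (b : Basis (Fin n) F W) : Function.Injective (evalB (σ := σ) b) := by
  intro g₁ g₂ h
  apply b.ext
  intro i
  exact congrFun h i

/-- orthogonal decomposition with respect to a nondegenerate finite-dimensional subspace -/
theorem sup_orthS_eq_top [FiniteDimensional F V] (W : Submodule F V) (hW : NondegOn f W) :
    W ⊔ orthS f W = ⊤ := by
  classical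
  obtain ⟨n, hn⟩ : ∃ n, n = finrank F ↥W := ⟨_, rfl⟩
  have b : Basis (Fin n) F ↥W := by
    rw [hn]; exact Module.finBasis F ↥W
  have hfd : FiniteDimensional F (↥W →ₛₗ[σ] F) :=
    FiniteDimensional.of_injective (evalB (σ := σ) b) (evalB_injective b)
  have hle : finrank F (↥W →ₛₗ[σ] F) ≤ finrank F ↥W := by
    have := LinearMap.finrank_le_finrank_of_injective (evalB_injective (σ := σ) b)
    rw [Module.finrank_fin_fun] at this
    rw [← hn]; exact this
  -- the restriction to `W`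
  obtain ⟨Φ, hΦ⟩ : ∃ Φ : ↥W →ₗ[F] (↥W →ₛₗ[σ] F), Φ = (resMap f W).comp W.subtype := ⟨_, rfl⟩
  have hinj : Function.Injective Φ := by
    rw [← LinearMap.ker_eq_bot, LinearMap.ker_eq_bot']
    intro u hu
    by_contra hne
    have hne' : (u : V) ≠ 0 := fun h => hne (Subtype.ext h)
    obtain ⟨y, hy, hfy⟩ := hW (u : V) u.2 hne'
    apply hfy
    have := congrArg (fun g : ↥W →ₛₗ[σ] F => g ⟨y, hy⟩) hu
    rw [hΦ] at this
    simpa [resMap_apply] using this
  have hge : finrank F ↥W ≤ finrank F (↥W →ₛₗ[σ] F) :=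
    LinearMap.finrank_le_finrank_of_injective hinj
  have hsurj : Function.Surjective Φ :=
    (LinearMap.injective_iff_surjective_of_finrank_eq_finrank (le_antisymm hge hle)).1 hinj
  rw [eq_top_iff]
  intro v _
  obtain ⟨u, hu⟩ := hsurj (resMap f W v)
  have hmem : v - (u : V) ∈ orthS f W := by
    intro w hw
    have := congrArg (fun g : ↥W →ₛₗ[σ] F => g ⟨w, hw⟩) hu
    rw [hΦ] at this
    simp only [LinearMap.comp_apply, Submodule.subtype_apply, resMap_apply] at this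
    rw [map_sub, LinearMap.sub_apply, this, sub_self]
  have : v = (u : V) + (v - (u : V)) := by abel
  rw [this]
  exact Submodule.add_mem_sup u.2 hmem

/-- one half of part B (used for `(ℓ, N)` and for `(ℓ', N')`) -/
theorem half (hf : IsHerm f) {I J W ℓ : Submodule F V} {N : V →ₗ[F] V}
    (hJW : J ≤ W) (hJℓ : J ≤ ℓ) (hIℓ : I ≤ ℓ) (hsup : J ⊔ I = ℓ) (hIW : I ≤ orthS f W)
    (hnd : NondegOn f W) (hti : ℓ ≤ orthS f ℓ) (hker : LinearMap.ker N = orthS f ℓ)
    (hrange : LinearMap.range N = ℓ) (hsa : ∀ u v, f (N u) v = f u (N v))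
    (hNW : ∀ w ∈ W, N w ∈ W) (hJorth : orthS f J ⊓ W = J) (hdec : W ⊔ orthS f W = ⊤) :
    (∀ v ∈ orthS f W, N v ∈ I) ∧ (∀ v ∈ orthS f W ⊓ orthS f I, N v = 0) ∧
      orthS f ℓ = J ⊔ (orthS f W ⊓ orthS f I) := by
  have hA : ∀ x ∈ ℓ, x ∈ orthS f W → x ∈ I := by
    intro x hx hxW
    rw [← hsup] at hx
    obtain ⟨u, hu, i, hi, rfl⟩ := Submodule.mem_sup.1 hx
    have huW : u ∈ orthS f W := by
      have : u = (u + i) - i := by abel
      rw [this]; exact (orthS f W).sub_mem hxW (hIW hi)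
    have hu0 : u = 0 := by
      by_contra hne
      obtain ⟨y, hy, hfy⟩ := hnd u (hJW hu) hne
      exact hfy (huW y hy)
    rw [hu0, zero_add]; exact hi
  have hB : orthS f W ⊓ orthS f I ≤ orthS f ℓ := by
    rintro v ⟨hvW, hvI⟩ z hz
    rw [← hsup] at hz
    obtain ⟨u, hu, i, hi, rfl⟩ := Submodule.mem_sup.1 hz
    rw [map_add, hvW u (hJW hu), hvI i hi, add_zero]
  refine ⟨fun v hv => ?_, fun v hv => ?_, ?_⟩
  · apply hA
    · rw [← hrange]; exact LinearMap.mem_range_self N v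
    · intro w hw
      rw [hsa]; exact hv _ (hNW w hw)
  · have : v ∈ LinearMap.ker N := by rw [hker]; exact hB hv
    exact LinearMap.mem_ker.1 this
  · apply le_antisymm
    · intro v hv
      have hvt : v ∈ W ⊔ orthS f W := by rw [hdec]; trivial
      obtain ⟨w, hw, p, hp, rfl⟩ := Submodule.mem_sup.1 hvt
      have hwJ : w ∈ J := by
        rw [← hJorth]
        refine ⟨fun u hu => ?_, hw⟩
        have h1 : f (w + p) u = 0 := hv u (hJℓ hu)
        have h2 : f p u = 0 := hp u (hJW hu)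
        rw [map_add, LinearMap.add_apply, h2, add_zero] at h1
        exact h1
      refine Submodule.add_mem_sup hwJ ⟨hp, fun i hi => ?_⟩
      have h1 : f (w + p) i = 0 := hv i (hIℓ hi)
      have h2 : f w i = 0 := hti (hJℓ hwJ) i (hIℓ hi)
      rw [map_add, LinearMap.add_apply, h2, zero_add] at h1
      exact h1
    · exact sup_le (hJℓ.trans hti) hB

/-! ## PGEOB (M-L): part B -/

theorem pairGeoU [FiniteDimensional F V] (hσ : Invol σ) (hf : IsHerm f) (hfN : NondegOn f ⊤)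
    (hℓ : IsRootOp f ℓ N) (hℓ' : IsRootOp f ℓ' N') (hG : PairGeo f ℓ ℓ' N N') :
    PairGeoU f ℓ ℓ' N N' := by
  have hJℓ : ℓ'.map N ≤ ℓ := by
    rintro x ⟨y, -, rfl⟩
    rw [← hℓ.range_eq]; exact LinearMap.mem_range_self N y
  have hJ'ℓ' : ℓ.map N' ≤ ℓ' := by
    rintro x ⟨y, -, rfl⟩
    rw [← hℓ'.range_eq]; exact LinearMap.mem_range_self N' y
  have hIW : ℓ ⊓ ℓ' ≤ orthS f (ℓ'.map N ⊔ ℓ.map N') := by
    rintro v ⟨hv, hv'⟩ w hw
    obtain ⟨u, hu, u', hu', rfl⟩ := Submodule.mem_sup.1 hw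
    rw [map_add, hℓ.ti hv u (hJℓ hu), hℓ'.ti hv' u' (hJ'ℓ' hu'), add_zero]
  have hNW : ∀ w ∈ ℓ'.map N ⊔ ℓ.map N', N w ∈ ℓ'.map N ⊔ ℓ.map N' := by
    intro w hw
    obtain ⟨u, hu, u', hu', rfl⟩ := Submodule.mem_sup.1 hw
    rw [map_add, hG.N_J u hu, zero_add]
    apply Submodule.mem_sup_left
    rw [← hG.N_J']
    exact Submodule.mem_map_of_mem hu'
  have hNW' : ∀ w ∈ ℓ'.map N ⊔ ℓ.map N', N' w ∈ ℓ'.map N ⊔ ℓ.map N' := by
    intro w hw
    obtain ⟨u, hu, u', hu', rfl⟩ := Submodule.mem_sup.1 hw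
    rw [map_add, hG.N'_J' u' hu', add_zero]
    apply Submodule.mem_sup_right
    rw [← hG.N'_J]
    exact Submodule.mem_map_of_mem hu
  have hdec := sup_orthS_eq_top (f := f) (ℓ'.map N ⊔ ℓ.map N') hG.nondegW
  obtain ⟨a1, a2, a3⟩ := half hf (I := ℓ ⊓ ℓ') (J := ℓ'.map N) (W := ℓ'.map N ⊔ ℓ.map N')
    (ℓ := ℓ) (N := N) le_sup_left hJℓ inf_le_left hG.J_sup hIW hG.nondegW hℓ.ti hℓ.ker_eq
    hℓ.range_eq hℓ.sa hNW hG.J_orth hdec
  obtain ⟨b1, b2, b3⟩ := half hf (I := ℓ ⊓ ℓ') (J := ℓ.map N') (W := ℓ'.map N ⊔ ℓ.map N')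
    (ℓ := ℓ') (N := N') le_sup_right hJ'ℓ' inf_le_right hG.J'_sup hIW hG.nondegW hℓ'.ti hℓ'.ker_eq
    hℓ'.range_eq hℓ'.sa hNW' hG.J'_orth hdec
  refine ⟨hIW, a1, b1, a2, b2, a3, b3, ?_, hdec, ?_⟩
  · refine le_inf hIW ?_
    rintro v ⟨hv, -⟩ w ⟨hw, -⟩
    exact hℓ.ti hv w hw
  · rw [eq_bot_iff]
    rintro x ⟨hxW, hxo⟩
    rw [Submodule.mem_bot]
    by_contra hne
    obtain ⟨y, hy, hfy⟩ := hG.nondegW x hxW hne
    exact hfy (hxo y hy)

end Cfsg.Agent.Lib.Helper25_UT_PGEOB
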