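import Mathlib
import Cfsg.Agent.Lib.Helper73_Tens_TP2

set_option autoImplicit false
set_option linter.unusedSectionVars false
set_option linter.unusedVariables false

/-!
UTENS market (helper37), package UT-KQE: Kronecker elements `P ⊗ Q` with `P ⊗ Q - 1` of rank `b = |κ|`, `|ι| ≥ 3`:
`P` or `Q` is a scalar matrix.  (helper20)

The proof is characteristic free and uses neither `c² = 0` nor finiteness: if `P` is not scalar, take `u` with
`u, P u` independent; `y ↦ c (u ⊗ y)` is injective, so its range is the range of `c` (dimension `b`); a functional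
`f ≠ 0` killing `u` and `P u` (`|ι| ≥ 3`) gives `(f ⬝ P a) Q y = (f ⬝ a) y` for all `a, y`, so `Q` is scalar.
-/

namespace Cfsg.Agent.Lib.Helper20_UT_KQE

open Matrix Module

variable {F : Type*} [Field F] {ι κ : Type*} [Fintype ι] [Fintype κ] [DecidableEq ι]
  [DecidableEq κ]

/-- the core: no hypothesis on the characteristic, no `c² = 0` -/
theorem kq_core (h3 : 3 ≤ Fintype.card ι)
    (P : Matrix ι ι F) (Q : Matrix κ κ F) (c : Matrix ι κ F →ₗ[F] Matrix ι κ F)
    (hc : ∀ X, c X = P * X * Qᵀ - X)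
    (hr : finrank F (LinearMap.range c) = Fintype.card κ) :
    (∃ q : F, Q = q • (1 : Matrix κ κ F)) ∨ (∃ p : F, P = p • (1 : Matrix ι ι F)) := by
  by_cases hP : ∃ p : F, P = p • (1 : Matrix ι ι F)
  · exact Or.inr hP
  left
  -- a vector `u` which is not an eigenvector
  obtain ⟨u, hu⟩ : ∃ u : ι → F, ∀ a : F, P *ᵥ u ≠ a • u := by
    by_contra hcon
    push Not at hcon
    exact hP (Cfsg.Agent.Lib.Helper73_Tens_TP2.scalar_of_forall_eigen P hcon)
  have hu0 : u ≠ 0 := by
    rintro rfl
    exact hu 0 (by rw [Matrix.mulVec_zero, smul_zero])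
  -- the formula for `c` on pure tensors
  have hcv : ∀ (a : ι → F) (y : κ → F),
      c (vecMulVec a y) = vecMulVec (P *ᵥ a) (Q *ᵥ y) - vecMulVec a y := by
    intro a y
    rw [hc, Matrix.mul_vecMulVec, Matrix.vecMulVec_mul, Matrix.vecMul_transpose]
  -- the map `y ↦ c (u ⊗ y)`
  let T : (κ → F) →ₗ[F] Matrix ι κ F :=
    { toFun := fun y => c (vecMulVec u y)
      map_add' := by
        intro y z
        rw [← map_add, Matrix.vecMulVec_add]
      map_smul' := by
        intro s y
        rw [RingHom.id_apply, ← map_smul, Matrix.vecMulVec_smul] }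
  have hT : ∀ y, T y = vecMulVec (P *ᵥ u) (Q *ᵥ y) - vecMulVec u y := fun y => hcv u y
  have hTinj : Function.Injective T := by
    rw [← LinearMap.ker_eq_bot, LinearMap.ker_eq_bot']
    intro y hy
    by_contra hy0
    obtain ⟨k, hk⟩ : ∃ k, y k ≠ 0 := by
      by_contra hcon
      push Not at hcon
      exact hy0 (funext hcon)
    rw [hT, sub_eq_zero] at hy
    have hcol : ∀ i, (P *ᵥ u) i * (Q *ᵥ y) k = u i * y k := by
      intro i
      have := congrFun (congrFun hy i) k
      simpa only [vecMulVec_apply] using this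
    by_cases hq : (Q *ᵥ y) k = 0
    · apply hu0
      funext i
      have := hcol i
      rw [hq, mul_zero] at this
      rcases mul_eq_zero.mp this.symm with h | h
      · exact h
      · exact absurd h hk
    · apply hu (y k * ((Q *ᵥ y) k)⁻¹)
      funext i
      rw [Pi.smul_apply, smul_eq_mul]
      have := hcol i
      field_simp
      linear_combination this
  have hrange : LinearMap.range T = LinearMap.range c := by
    apply Submodule.eq_of_le_of_finrank_eq
    · rintro _ ⟨y, rfl⟩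
      exact ⟨vecMulVec u y, rfl⟩
    · rw [LinearMap.finrank_range_of_inj hTinj, hr, Module.finrank_fintype_fun_eq_card]
  -- a functional killing `u` and `P u`
  obtain ⟨f, hf0, hfu, hfPu⟩ : ∃ f : ι → F, f ≠ 0 ∧ f ⬝ᵥ u = 0 ∧ f ⬝ᵥ (P *ᵥ u) = 0 := by
    let Φ : (ι → F) →ₗ[F] (Fin 2 → F) :=
      { toFun := fun f => ![f ⬝ᵥ u, f ⬝ᵥ (P *ᵥ u)]
        map_add' := by
          intro f g
          ext j
          fin_cases j <;> simp [add_dotProduct]
        map_smul' := by
          intro s f
          ext j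
          fin_cases j <;> simp [smul_dotProduct] }
    have hker : LinearMap.ker Φ ≠ ⊥ := by
      apply LinearMap.ker_ne_bot_of_finrank_lt
      rw [Module.finrank_fintype_fun_eq_card, Module.finrank_fintype_fun_eq_card, Fintype.card_fin]
      omega
    obtain ⟨f, hf, hf0⟩ := (Submodule.ne_bot_iff _).mp hker
    refine ⟨f, hf0, ?_, ?_⟩
    · have := congrFun (LinearMap.mem_ker.mp hf) 0
      simpa [Φ] using this
    · have := congrFun (LinearMap.mem_ker.mp hf) 1
      simpa [Φ] using this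
  -- `f` kills the range of `c`
  have hfv : ∀ (a : ι → F) (y : κ → F), f ᵥ* vecMulVec a y = (f ⬝ᵥ a) • y :=
    fun a y => Matrix.vecMul_vecMulVec f a y
  have hfc : ∀ X, f ᵥ* c X = 0 := by
    intro X
    have hX : c X ∈ LinearMap.range T := by
      rw [hrange]
      exact ⟨X, rfl⟩
    obtain ⟨y, hy⟩ := hX
    rw [← hy, hT, Matrix.vecMul_sub, hfv, hfv, hfu, hfPu, zero_smul, zero_smul, sub_zero]
  have hkey : ∀ (a : ι → F) (y : κ → F), (f ⬝ᵥ (P *ᵥ a)) • (Q *ᵥ y) = (f ⬝ᵥ a) • y := by
    intro a y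
    have := hfc (vecMulVec a y)
    rw [hcv, Matrix.vecMul_sub, hfv, hfv, sub_eq_zero] at this
    exact this
  -- choose `a` with `f ⬝ a ≠ 0`
  obtain ⟨a, hfa⟩ : ∃ a : ι → F, f ⬝ᵥ a ≠ 0 := by
    obtain ⟨i, hi⟩ : ∃ i, f i ≠ 0 := by
      by_contra hcon
      push Not at hcon
      exact hf0 (funext hcon)
    refine ⟨Pi.single i 1, ?_⟩
    rw [dotProduct_single, mul_one]
    exact hi
  by_cases hs : f ⬝ᵥ (P *ᵥ a) = 0
  · -- then `κ` is empty
    have hy0 : ∀ y : κ → F, y = 0 := by
      intro y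
      have := hkey a y
      rw [hs, zero_smul] at this
      exact (smul_eq_zero.mp this.symm).resolve_left hfa
    refine ⟨0, ?_⟩
    ext k k'
    have := congrFun (hy0 (Pi.single k 1)) k
    rw [Pi.single_eq_same, Pi.zero_apply] at this
    exact absurd this one_ne_zero
  · refine ⟨(f ⬝ᵥ (P *ᵥ a))⁻¹ * (f ⬝ᵥ a), ?_⟩
    ext k k'
    have := congrFun (hkey a (Pi.single k' 1)) k
    rw [Pi.smul_apply, Pi.smul_apply, Matrix.mulVec_single_one, Matrix.col_apply, smul_eq_mul,
      smul_eq_mul] at this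
    rw [Matrix.smul_apply, Matrix.one_apply, smul_eq_mul]
    have h1 : Q k k' = (f ⬝ᵥ (P *ᵥ a))⁻¹ * ((f ⬝ᵥ a) * (Pi.single k' (1 : F) : κ → F) k) := by
      rw [← this]
      field_simp
    rw [h1, Pi.single_apply]
    by_cases hkk : k = k'
    · rw [if_pos hkk]
      ring
    · rw [if_neg hkk]
      ring

/-- **UT-KQE** KQ-even (L): Kronecker quadratic elements of rank `b`, characteristic `2`, `a ≥ 3`. -/
theorem kq_even [Finite F] (h2 : (2 : F) = 0) (h3 : 3 ≤ Fintype.card ι)
    (P : Matrix ι ι F) (Q : Matrix κ κ F) (c : Matrix ι κ F →ₗ[F] Matrix ι κ F)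
    (hc : ∀ X, c X = P * X * Qᵀ - X) (hc2 : ∀ X, c (c X) = 0)
    (hr : finrank F (LinearMap.range c) = Fintype.card κ) :
    (∃ q : F, Q = q • (1 : Matrix κ κ F)) ∨ (∃ p : F, P = p • (1 : Matrix ι ι F)) :=
  kq_core h3 P Q c hc hr

end Cfsg.Agent.Lib.Helper20_UT_KQE
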