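import Mathlib
import Cfsg.Agent.Lib.Helper37_UTDefs
import Cfsg.Agent.Lib.Helper94_UDDefs
import Cfsg.Agent.Lib.Helper73_Tens_TP1

set_option autoImplicit false
set_option linter.unusedSectionVars false
set_option linter.unusedVariables false

/-!
UTENS market (helper37), package **UT-KQO**: Kronecker quadratic elements `P ⊗ Q = 1 + c`,
`c² = 0`, in characteristic `≠ 2`: `P` or `Q` is a scalar matrix.  (helper89)
-/

namespace Cfsg.Agent.Lib.Helper89_UT_KQO

open Matrix Module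
open Cfsg.Agent.Lib.Helper98_ExtDefs Cfsg.Agent.Lib.Helper97_TensDefs
open Cfsg.Agent.Lib.Helper94_Herm Cfsg.Agent.Lib.Helper13_PSUSimple
open Cfsg.Agent.Lib.Helper67_UT2Defs Cfsg.Agent.Lib.Helper37_UTDefs
open Cfsg.Agent.Lib.Helper94_FrmDefs

variable {F : Type*} [Field F] {ι κ : Type*} [Fintype ι] [Fintype κ] [DecidableEq ι]
  [DecidableEq κ] {σ : F →+* F}
variable {α : (ι → F) →ₗ[F] (ι → F) →ₛₗ[σ] F} {β : (κ → F) →ₗ[F] (κ → F) →ₛₗ[σ] F}
variable {M : Subgroup (Matrix ι κ F ≃ₗ[F] Matrix ι κ F)}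

/-- entries of `M * E_ij * N` -/
theorem mul_single_mul_apply (A : Matrix ι ι F) (N : Matrix κ κ F) (i k : ι) (j l : κ) :
    (A * Matrix.single i j (1 : F) * N) k l = A k i * N j l := by
  rw [Matrix.mul_apply]
  rw [Finset.sum_eq_single j]
  · rw [Matrix.mul_single_apply_same, mul_one]
  · intro b _ hb
    rw [Matrix.mul_single_apply_of_ne (hbj := hb), zero_mul]
  · intro h
    exact absurd (Finset.mem_univ j) h

/-- the entrywise form of `c² = 0` -/
theorem key_entry (P : Matrix ι ι F) (Q : Matrix κ κ F) (c : Matrix ι κ F →ₗ[F] Matrix ι κ F)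
    (hc : ∀ X, c X = P * X * Qᵀ - X) (hc2 : ∀ X, c (c X) = 0) (j l : κ) :
    (Q * Q) l j • (P * P) - (2 * Q l j) • P + (if l = j then (1 : F) else 0) • (1 : Matrix ι ι F)
      = 0 := by
  ext k i
  have h := congrFun (congrFun (hc2 (Matrix.single i j 1)) k) l
  rw [hc, hc] at h
  have e : P * (P * Matrix.single i j (1 : F) * Qᵀ - Matrix.single i j 1) * Qᵀ
      - (P * Matrix.single i j (1 : F) * Qᵀ - Matrix.single i j 1)
      = (P * P) * Matrix.single i j (1 : F) * (Qᵀ * Qᵀ)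
        - (2 : F) • (P * Matrix.single i j (1 : F) * Qᵀ) + Matrix.single i j 1 := by
    rw [two_smul]
    simp only [Matrix.mul_sub, Matrix.sub_mul, Matrix.mul_assoc]
    abel
  rw [e] at h
  simp only [Matrix.add_apply, Matrix.sub_apply, Matrix.smul_apply, smul_eq_mul,
    mul_single_mul_apply, Matrix.zero_apply] at h
  have e2 : (Qᵀ * Qᵀ) j l = (Q * Q) l j := by
    rw [← Matrix.transpose_mul, Matrix.transpose_apply]
  rw [e2, Matrix.transpose_apply] at h
  simp only [Matrix.add_apply, Matrix.sub_apply, Matrix.smul_apply, smul_eq_mul,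
    Matrix.zero_apply, Matrix.one_apply]
  rw [Matrix.single_apply] at h
  by_cases hki : k = i <;> by_cases hlj : l = j
  · subst hki; subst hlj
    simp only [and_self, if_true] at h ⊢
    linear_combination h
  · subst hki
    have hjl : ¬ j = l := fun e => hlj e.symm
    simp only [hjl, hlj, and_false, if_false, if_true] at h ⊢
    linear_combination h
  · subst hlj
    have hik : ¬ i = k := fun e => hki e.symm
    simp only [hik, hki, and_true, if_false, if_true] at h ⊢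
    linear_combination h
  · have hik : ¬ i = k := fun e => hki e.symm
    simp only [hik, hki, hlj, false_and, if_false] at h ⊢
    linear_combination h

/-- the functional form of `c² = 0` -/
theorem key_dual (P : Matrix ι ι F) (Q : Matrix κ κ F) (c : Matrix ι κ F →ₗ[F] Matrix ι κ F)
    (hc : ∀ X, c X = P * X * Qᵀ - X) (hc2 : ∀ X, c (c X) = 0)
    (Φ : Matrix ι ι F →ₗ[F] F) :
    Φ (P * P) • (Q * Q) - (2 * Φ P) • Q + Φ 1 • (1 : Matrix κ κ F) = 0 := by
  ext l j
  have h := congrArg Φ (key_entry P Q c hc hc2 j l)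
  simp only [map_add, map_sub, map_smul, smul_eq_mul, map_zero] at h
  simp only [Matrix.add_apply, Matrix.sub_apply, Matrix.smul_apply, smul_eq_mul,
    Matrix.zero_apply, Matrix.one_apply]
  by_cases hlj : l = j
  · simp only [hlj, if_true] at h ⊢
    linear_combination h
  · simp only [hlj, if_false] at h ⊢
    linear_combination h

/-- KQ-odd (M): Kronecker quadratic elements of rank `b`, characteristic `≠ 2`. -/
theorem kq_odd (h2 : (2 : F) ≠ 0) (h3 : 2 ≤ Fintype.card ι)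
    (P : Matrix ι ι F) (Q : Matrix κ κ F) (c : Matrix ι κ F →ₗ[F] Matrix ι κ F)
    (hc : ∀ X, c X = P * X * Qᵀ - X) (hc2 : ∀ X, c (c X) = 0) :
    (∃ q : F, Q = q • (1 : Matrix κ κ F)) ∨ (∃ p : F, P = p • (1 : Matrix ι ι F)) := by
  by_contra hcon
  push Not at hcon
  obtain ⟨hQ, hP⟩ := hcon
  have hne : Nonempty ι := by
    by_contra hE
    rw [not_nonempty_iff] at hE
    exact hP 0 (Subsingleton.elim _ _)
  have h1ne : (1 : Matrix ι ι F) ≠ 0 := one_ne_zero
  -- a functional with `Φ P ≠ 0`, `Φ 1 = 0`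
  have hP1 : P ∉ Submodule.span F {(1 : Matrix ι ι F)} := by
    intro hmem
    obtain ⟨p, hp⟩ := Submodule.mem_span_singleton.mp hmem
    exact hP p hp.symm
  have h1P : (1 : Matrix ι ι F) ∉ Submodule.span F {P} := by
    intro hmem
    obtain ⟨t, ht⟩ := Submodule.mem_span_singleton.mp hmem
    have ht0 : t ≠ 0 := by
      intro h0
      rw [h0, zero_smul] at ht
      exact h1ne ht.symm
    apply hP t⁻¹
    rw [← ht, smul_smul, inv_mul_cancel₀ ht0, one_smul]
  obtain ⟨Φ, hΦP, hΦ1⟩ := Submodule.exists_dual_map_eq_bot_of_notMem hP1 inferInstance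
  obtain ⟨Ψ, hΨ1, hΨP⟩ := Submodule.exists_dual_map_eq_bot_of_notMem h1P inferInstance
  have hΦ1' : Φ 1 = 0 := by
    have : Φ 1 ∈ (Submodule.span F {(1 : Matrix ι ι F)}).map Φ :=
      Submodule.mem_map_of_mem (Submodule.mem_span_singleton_self _)
    rw [hΦ1] at this
    exact (Submodule.mem_bot F).mp this
  have hΨP' : Ψ P = 0 := by
    have : Ψ P ∈ (Submodule.span F {P}).map Ψ :=
      Submodule.mem_map_of_mem (Submodule.mem_span_singleton_self _)
    rw [hΨP] at this
    exact (Submodule.mem_bot F).mp this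
  have e1 := key_dual P Q c hc hc2 Φ
  have e2 := key_dual P Q c hc hc2 Ψ
  rw [hΦ1', zero_smul, add_zero] at e1
  rw [hΨP', mul_zero, zero_smul, sub_zero] at e2
  -- `Ψ(P²) Q² = - Ψ 1`, `Φ(P²) Q² = 2 Φ(P) Q`
  have hΨA : Ψ (P * P) ≠ 0 := by
    intro h0
    rw [h0, zero_smul, zero_add] at e2
    rcases isEmpty_or_nonempty κ with hE | hN
    · exact hQ 0 (Subsingleton.elim _ _)
    · have h1κ : (1 : Matrix κ κ F) ≠ 0 := one_ne_zero
      rcases smul_eq_zero.mp e2 with h | h
      · exact hΨ1 h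
      · exact h1κ h
  have hQQ : Q * Q = (-(Ψ (P * P))⁻¹ * Ψ 1) • (1 : Matrix κ κ F) := by
    have : Ψ (P * P) • (Q * Q) = -(Ψ 1 • (1 : Matrix κ κ F)) := eq_neg_of_add_eq_zero_left e2
    calc Q * Q = (Ψ (P * P))⁻¹ • (Ψ (P * P) • (Q * Q)) := by
          rw [smul_smul, inv_mul_cancel₀ hΨA, one_smul]
      _ = _ := by rw [this, smul_neg, smul_smul, neg_mul, neg_smul]
  apply hQ ((2 * Φ P)⁻¹ * (Φ (P * P) * (-(Ψ (P * P))⁻¹ * Ψ 1)))
  have h2Φ : 2 * Φ P ≠ 0 := mul_ne_zero h2 hΦP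
  have : (2 * Φ P) • Q = Φ (P * P) • (Q * Q) := (sub_eq_zero.mp e1).symm
  calc Q = (2 * Φ P)⁻¹ • ((2 * Φ P) • Q) := by rw [smul_smul, inv_mul_cancel₀ h2Φ, one_smul]
    _ = _ := by rw [this, hQQ, smul_smul, smul_smul, mul_assoc]

end Cfsg.Agent.Lib.Helper89_UT_KQO
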