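import Mathlib
import Cfsg.Agent.Lib.Helper37_UTDefs
import Cfsg.Agent.Lib.Helper37_UTPairDefs
import Cfsg.Agent.Lib.Helper17_UT_BAS1
import Cfsg.Agent.Lib.Helper44_UT_BAS4
import Cfsg.Agent.Lib.Helper42_UT_BAS6
import Cfsg.Agent.Lib.Helper89_UT_KQO
import Cfsg.Agent.Lib.Helper20_UT_KQE
import Cfsg.Agent.Lib.Helper14_PSULocal1

set_option autoImplicit false
set_option linter.unusedSectionVars false
set_option linter.unusedVariables false

/-!
# UTENS market (architect helper37), package UT-G2II (helper77): uniqueness, type II.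
Core: `g2II_base_of`, `g2II_of` with the statement of `radII_apply` (UT-ZF) at `x` as a hypothesis.
-/

namespace Cfsg.Agent.Lib.Helper77_UT_G2IIaux

open Matrix Module
open Cfsg.Agent.Lib.Helper98_ExtDefs Cfsg.Agent.Lib.Helper97_TensDefs
open Cfsg.Agent.Lib.Helper94_Herm Cfsg.Agent.Lib.Helper13_PSUSimple
open Cfsg.Agent.Lib.Helper94_HermEich
open Cfsg.Agent.Lib.Helper67_UT2Defs Cfsg.Agent.Lib.Helper37_UTDefs
open Cfsg.Agent.Lib.Helper37_UTPairDefs
open Cfsg.Agent.Lib.Helper17_UT_BAS1 Cfsg.Agent.Lib.Helper44_UT_BAS4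
open Cfsg.Agent.Lib.Helper42_UT_BAS6

variable {F : Type*} [Field F] {ι κ : Type*} [Fintype ι] [Fintype κ] [DecidableEq ι]
  [DecidableEq κ] {σ : F →+* F}
variable {α : (ι → F) →ₗ[F] (ι → F) →ₛₗ[σ] F} {β : (κ → F) →ₗ[F] (κ → F) →ₛₗ[σ] F}
variable {M : Subgroup (Matrix ι κ F ≃ₗ[F] Matrix ι κ F)}

/-! ## generalities -/

theorem inv_app {V : Type*} [AddCommGroup V] [Module F V] (h : V ≃ₗ[F] V) (X : V) :
    h⁻¹ (h X) = X := h.symm_apply_apply X

theorem app_inv {V : Type*} [AddCommGroup V] [Module F V] (h : V ≃ₗ[F] V) (X : V) :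
    h (h⁻¹ X) = X := h.apply_symm_apply X

theorem vmv_ne_zero {x : ι → F} {w : κ → F} (hx : x ≠ 0) (hw : w ≠ 0) : vecMulVec x w ≠ 0 := by
  intro h
  obtain ⟨i, hi⟩ := Function.ne_iff.mp hx
  obtain ⟨j, hj⟩ := Function.ne_iff.mp hw
  have := congrFun (congrFun h i) j
  rw [vecMulVec_apply] at this
  exact mul_ne_zero hi hj this

theorem vmR_injective {x : ι → F} (hx : x ≠ 0) : Function.Injective (vmR (κ := κ) x) := by
  intro w w' h
  obtain ⟨i, hi⟩ := Function.ne_iff.mp hx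
  ext j
  have := congrFun (congrFun h i) j
  rw [vmR_apply, vmR_apply, vecMulVec_apply, vecMulVec_apply] at this
  exact mul_left_cancel₀ hi this

theorem fibB_eq_range (x : ι → F) : fibB (κ := κ) x = LinearMap.range (vmR x) := by
  ext X
  rw [mem_fibB, LinearMap.mem_range]
  constructor
  · rintro ⟨w, rfl⟩; exact ⟨w, rfl⟩
  · rintro ⟨w, rfl⟩; exact ⟨w, rfl⟩

theorem finrank_fibB {x : ι → F} (hx : x ≠ 0) :
    finrank F ↥(fibB (κ := κ) x) = Fintype.card κ := by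
  rw [fibB_eq_range, LinearMap.finrank_range_of_inj (vmR_injective hx),
    Module.finrank_fintype_fun_eq_card]

theorem finrank_Lg' {x : ι → F} (hx : x ≠ 0) (g : Matrix ι κ F ≃ₗ[F] Matrix ι κ F) :
    finrank F ↥(Lg x g) = Fintype.card κ := by
  unfold Lg
  rw [LinearEquiv.finrank_map_eq, finrank_fibB hx]

/-- the linear map `a ↦ a ⊗ y` -/
def vmL (y : κ → F) : (ι → F) →ₗ[F] Matrix ι κ F where
  toFun a := vecMulVec a y
  map_add' a a' := add_vecMulVec a a' y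
  map_smul' c a := smul_vecMulVec c a y

@[simp] theorem vmL_apply (y : κ → F) (a : ι → F) : vmL y a = vecMulVec a y := rfl

theorem fiber_eq_range (y : κ → F) : fiber (ι := ι) y = LinearMap.range (vmL y) := by
  ext X
  rw [mem_fiber, LinearMap.mem_range]
  constructor
  · rintro ⟨w, rfl⟩; exact ⟨w, rfl⟩
  · rintro ⟨w, rfl⟩; exact ⟨w, rfl⟩

theorem finrank_fiber_le (y : κ → F) : finrank F ↥(fiber (ι := ι) y) ≤ Fintype.card ι := by
  rw [fiber_eq_range]
  refine (LinearMap.finrank_range_le _).trans ?_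
  rw [Module.finrank_fintype_fun_eq_card]

theorem exists_mulVec_ne_zero {n : Type*} [Fintype n] [DecidableEq n] {R : Matrix n n F}
    (hR : R ≠ 0) : ∃ v : n → F, R *ᵥ v ≠ 0 := by
  by_contra hcon
  push Not at hcon
  apply hR
  ext i j
  have := congrFun (hcon (Pi.single j 1)) i
  rw [Matrix.mulVec_single_one] at this
  simpa using this

/-- a partner `x*` with `α x* x = 1` -/
theorem exists_dual (hα : IsHerm α) (hαN : NondegOn α ⊤) {x : ι → F} (hx0 : x ≠ 0) :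
    ∃ xs : ι → F, α xs x = 1 := by
  obtain ⟨y, -, hy⟩ := hαN x Submodule.mem_top hx0
  have hy' : α y x ≠ 0 := by
    rw [hα x y]
    intro h0
    exact hy ((map_eq_zero σ).mp h0)
  refine ⟨(α y x)⁻¹ • y, ?_⟩
  rw [map_smul, LinearMap.smul_apply, smul_eq_mul, inv_mul_cancel₀ hy']

theorem exists_form_ne_zero {n : Type*} [Fintype n] [DecidableEq n] [Nonempty n]
    {γ : (n → F) →ₗ[F] (n → F) →ₛₗ[σ] F} (hγN : NondegOn γ ⊤) :
    ∃ w w' : n → F, γ w w' ≠ 0 := by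
  obtain ⟨j⟩ := ‹Nonempty n›
  have h1 : (Pi.single j 1 : n → F) ≠ 0 := by
    intro h
    have := congrFun h j
    simp at this
  obtain ⟨w', -, hw'⟩ := hγN _ Submodule.mem_top h1
  exact ⟨_, w', hw'⟩

theorem nII_nII {x : ι → F} (hx : α x x = 0) (X : Matrix ι κ F) :
    nII α x (nII α x X) = 0 := by
  rw [nII_apply, nII_apply, ctrA_pure, hx, zero_smul]
  ext i j
  simp [vecMulVec_apply]

theorem nII_dual {x xs : ι → F} (hxs : α xs x = 1) (w : κ → F) :
    nII α x (vecMulVec xs w) = vecMulVec x w := by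
  rw [nII_apply, ctrA_pure, hxs, one_smul]

/-- a Kronecker element maps `x ⊗ B` onto a fibre -/
theorem Lg_eq_fibB_of_isKron [Nonempty κ] {x : ι → F} (hx0 : x ≠ 0)
    {h : Matrix ι κ F ≃ₗ[F] Matrix ι κ F} (hk : IsKron h) :
    ∃ x' : ι → F, x' ≠ 0 ∧ Lg x h = fibB x' := by
  obtain ⟨P, Q, hPQ⟩ := hk
  have hpure : ∀ w : κ → F, h (vecMulVec x w) = vecMulVec (P *ᵥ x) (Q *ᵥ w) := by
    intro w
    rw [hPQ, Matrix.mul_vecMulVec, Matrix.vecMulVec_mul, Matrix.vecMul_transpose]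
  have hx' : P *ᵥ x ≠ 0 := by
    intro h0
    obtain ⟨j⟩ := ‹Nonempty κ›
    have h1 : (Pi.single j 1 : κ → F) ≠ 0 := by
      intro h
      have := congrFun h j
      simp at this
    have h2 := hpure (Pi.single j 1)
    rw [h0, zero_vecMulVec] at h2
    have h3 : vecMulVec x (Pi.single j 1 : κ → F) = 0 := by
      have := h.injective (h2.trans (map_zero h).symm)
      exact this
    exact vmv_ne_zero hx0 h1 h3
  refine ⟨P *ᵥ x, hx', ?_⟩
  have hle : Lg x h ≤ fibB (P *ᵥ x) := by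
    intro X hX
    obtain ⟨w, rfl⟩ := mem_Lg.mp hX
    exact ⟨Q *ᵥ w, hpure w⟩
  exact Submodule.eq_of_le_of_finrank_eq hle (by rw [finrank_Lg' hx0, finrank_fibB hx'])

/-- two fibres `x ⊗ B`, `x' ⊗ B` with a common nonzero vector are equal -/
theorem fibB_eq_of_meet {x x' : ι → F} (h : fibB (κ := κ) x ⊓ fibB x' ≠ ⊥) :
    fibB (κ := κ) x = fibB x' := by
  obtain ⟨Z, hZ, hZ0⟩ := (Submodule.ne_bot_iff _).mp h
  obtain ⟨⟨w, hw⟩, ⟨w', hw'⟩⟩ := hZ
  -- `Z = x ⊗ w = x' ⊗ w' ≠ 0`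
  have hne : ∃ i j, Z i j ≠ 0 := by
    by_contra hcon
    push Not at hcon
    exact hZ0 (by ext i j; exact hcon i j)
  obtain ⟨i, j, hij⟩ := hne
  have hxi : x i * w j ≠ 0 := by rw [← vecMulVec_apply, ← hw]; exact hij
  have hx'i : x' i * w' j ≠ 0 := by rw [← vecMulVec_apply, ← hw']; exact hij
  have hwj : w j ≠ 0 := right_ne_zero_of_mul hxi
  have hw'j : w' j ≠ 0 := right_ne_zero_of_mul hx'i
  -- column `j`
  have hcol : w j • x = w' j • x' := by
    ext k
    have h1 : Z k j = x k * w j := by rw [hw, vecMulVec_apply]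
    have h2 : Z k j = x' k * w' j := by rw [hw', vecMulVec_apply]
    simp only [Pi.smul_apply, smul_eq_mul]
    rw [mul_comm, ← h1, h2, mul_comm]
  have hx' : x' = ((w' j)⁻¹ * w j) • x := by
    rw [mul_smul, hcol, smul_smul, inv_mul_cancel₀ hw'j, one_smul]
  have hx : x = ((w j)⁻¹ * w' j) • x' := by
    rw [mul_smul, ← hcol, smul_smul, inv_mul_cancel₀ hwj, one_smul]
  apply le_antisymm
  · rintro X ⟨v, rfl⟩
    refine ⟨((w j)⁻¹ * w' j) • v, ?_⟩
    conv_lhs => rw [hx]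
    rw [smul_vecMulVec, vecMulVec_smul]
  · rintro X ⟨v, rfl⟩
    refine ⟨((w' j)⁻¹ * w j) • v, ?_⟩
    conv_lhs => rw [hx']
    rw [smul_vecMulVec, vecMulVec_smul]

/-! ## the base case -/

/-- G2II base, with the statement of `radII_apply` at `x` as a hypothesis -/
theorem g2II_base_of [Finite F] (hC : UTCtx α β M) (hS : StabII α M)
    {x : ι → F} (hx0 : x ≠ 0) (hx : α x x = 0)
    (hrad : ∀ g : Matrix ι κ F ≃ₗ[F] Matrix ι κ F, g ∈ M → (∀ X, g X - X ∈ fibB (κ := κ) x) →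
      ∃ s : F, σ s = -s ∧ ∀ X, g X = X + s • nII α x X)
    {h : Matrix ι κ F ≃ₗ[F] Matrix ι κ F} (hh : h ∈ M)
    {s : F} (hs : σ s = -s) (hs0 : s ≠ 0)
    (hst : ∀ X ∈ Lg x h, tmE (utv α x s) (1 : (κ → F) ≃ₗ[F] (κ → F)) X ∈ Lg x h) :
    ∃ x' : ι → F, x' ≠ 0 ∧ Lg x h = fibB x' := by
  classical
  have hι : 0 < Fintype.card ι := by have := hC.ha; omega
  have hκ : 0 < Fintype.card κ := by have := hC.ha; have := hC.hab; omega
  haveI : Nonempty ι := Fintype.card_pos_iff.mp hι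
  haveI : Nonempty κ := Fintype.card_pos_iff.mp hκ
  have hhU : h ∈ uG (tf α β) := (mem_SUg.mp (hC.hM hh)).1
  obtain ⟨xs, hxs⟩ := exists_dual hC.hα hC.hαN hx0
  set u : Matrix ι κ F ≃ₗ[F] Matrix ι κ F := tmE (utv α x s) (1 : (κ → F) ≃ₗ[F] (κ → F)) with hu
  have huM : u ∈ M :=
    tmE_mem hC (Cfsg.Agent.Lib.Helper14_PSULocal1.utv_mem_SUg hC.hα x hs) (one_mem _)
  have hu_apply : ∀ X, u X = X + s • nII α x X := fun X => tmE_utv_left hx s X
  -- `u' = h⁻¹ u h` stabilises `x ⊗ B`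
  set u' : Matrix ι κ F ≃ₗ[F] Matrix ι κ F := h⁻¹ * u * h with hu'
  have hu'M : u' ∈ M := M.mul_mem (M.mul_mem (M.inv_mem hh) huM) hh
  have hu'_apply : ∀ X, u' X = h⁻¹ (u (h X)) := fun X => rfl
  have hu'st : ∀ w : κ → F, ∃ w' : κ → F, u' (vecMulVec x w) = vecMulVec x w' := by
    intro w
    have h1 : h (vecMulVec x w) ∈ Lg x h := mem_Lg.mpr ⟨w, rfl⟩
    obtain ⟨w', hw'⟩ := mem_Lg.mp (hst _ h1)
    refine ⟨w', ?_⟩
    rw [hu'_apply, hw', inv_app]
  obtain ⟨P, Q, hPQ⟩ := hS u' hu'M x x hx0 hx0 hx hu'st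
  -- `c = u' - 1`
  set c : Matrix ι κ F →ₗ[F] Matrix ι κ F := u'.toLinearMap - LinearMap.id with hc
  have hc_apply : ∀ X, c X = P * X * Qᵀ - X := by
    intro X
    rw [hc, LinearMap.sub_apply, LinearMap.id_apply, LinearEquiv.coe_coe, hPQ]
  have hhc : ∀ X, h (c X) = s • nII α x (h X) := by
    intro X
    rw [hc, LinearMap.sub_apply, LinearMap.id_apply, LinearEquiv.coe_coe, map_sub, hu'_apply,
      app_inv, hu_apply, add_sub_cancel_left]
  have hc2 : ∀ X, c (c X) = 0 := by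
    intro X
    apply h.injective
    rw [hhc, hhc, map_zero, map_smul, nII_nII hx, smul_zero, smul_zero]
  have hcfib : ∀ X, h (c X) ∈ fibB (κ := κ) x := by
    intro X
    rw [hhc, nII_apply]
    exact ⟨s • ctrA α x (h X), by rw [vecMulVec_smul]⟩
  have hrange : LinearMap.range c = (fibB (κ := κ) x).map h.symm.toLinearMap := by
    ext Y
    rw [LinearMap.mem_range, Submodule.mem_map]
    constructor
    · rintro ⟨X, rfl⟩
      exact ⟨h (c X), hcfib X, h.symm_apply_apply _⟩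
    · rintro ⟨Z, ⟨w, rfl⟩, rfl⟩
      refine ⟨h.symm (s⁻¹ • vecMulVec xs w), ?_⟩
      apply h.injective
      rw [hhc, h.apply_symm_apply, map_smul, nII_dual hxs, smul_smul, mul_inv_cancel₀ hs0,
        one_smul]
      exact (h.apply_symm_apply _).symm
  have hr : finrank F ↥(LinearMap.range c) = Fintype.card κ := by
    rw [hrange, LinearEquiv.finrank_map_eq, finrank_fibB hx0]
  -- `c ≠ 0`
  have hcne : ∃ X, c X ≠ 0 := by
    by_contra hcon
    push Not at hcon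
    have : LinearMap.range c = ⊥ := by
      rw [LinearMap.range_eq_bot]
      exact LinearMap.ext hcon
    rw [this, finrank_bot] at hr
    omega
  have hPQ' : (∃ q : F, Q = q • (1 : Matrix κ κ F)) ∨ (∃ p : F, P = p • (1 : Matrix ι ι F)) := by
    by_cases h2 : (2 : F) = 0
    · exact Cfsg.Agent.Lib.Helper20_UT_KQE.kq_even h2 hC.ha P Q c hc_apply hc2 hr
    · exact Cfsg.Agent.Lib.Helper89_UT_KQO.kq_odd h2 (by have := hC.ha; omega) P Q c hc_apply hc2
  rcases hPQ' with ⟨q, rfl⟩ | ⟨p, rfl⟩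
  · -- case (i): `u' = P' ⊗ 1`
    have hcR : ∀ X, c X = (q • P - 1) * X := by
      intro X
      rw [hc_apply, Matrix.transpose_smul, Matrix.transpose_one, Matrix.mul_smul, Matrix.mul_one,
        Matrix.sub_mul, Matrix.one_mul, Matrix.smul_mul]
    have hR : q • P - 1 ≠ 0 := by
      intro h0
      obtain ⟨X, hX⟩ := hcne
      exact hX (by rw [hcR, h0, Matrix.zero_mul])
    obtain ⟨a', ha'⟩ := exists_mulVec_ne_zero hR
    set x₂ : ι → F := (q • P - 1) *ᵥ a' with hx₂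
    have hcx₂ : ∀ w : κ → F, c (vecMulVec a' w) = vecMulVec x₂ w := by
      intro w
      rw [hcR, Matrix.mul_vecMulVec]
    have hst₂ : ∀ w : κ → F, ∃ w' : κ → F, h (vecMulVec x₂ w) = vecMulVec x w' := by
      intro w
      rw [← hcx₂]
      exact hcfib _
    have hx₂iso : α x₂ x₂ = 0 := by
      obtain ⟨w, w', hww'⟩ := exists_form_ne_zero hC.hβN
      obtain ⟨w₁, hw₁⟩ := hst₂ w
      obtain ⟨w₁', hw₁'⟩ := hst₂ w'
      have h1 := hhU (vecMulVec x₂ w) (vecMulVec x₂ w')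
      rw [hw₁, hw₁', tf_pure, tf_pure, hx, zero_mul] at h1
      rcases mul_eq_zero.mp h1.symm with h2 | h2
      · exact h2
      · exact absurd h2 hww'
    have hk : IsKron h := hS h hh x₂ x ha' hx0 hx₂iso hst₂
    exact Lg_eq_fibB_of_isKron hx0 hk
  · -- case (ii): `u' = 1 ⊗ Q'`, impossible
    exfalso
    have hcR : ∀ X, c X = X * (p • Q - 1)ᵀ := by
      intro X
      rw [hc_apply, Matrix.smul_mul, Matrix.one_mul, Matrix.transpose_sub, Matrix.transpose_smul,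
        Matrix.transpose_one, Matrix.mul_sub, Matrix.mul_one, Matrix.mul_smul, Matrix.smul_mul]
    have hR : p • Q - 1 ≠ 0 := by
      intro h0
      obtain ⟨X, hX⟩ := hcne
      exact hX (by rw [hcR, h0, Matrix.transpose_zero, Matrix.mul_zero])
    obtain ⟨v, hv⟩ := exists_mulVec_ne_zero hR
    set y : κ → F := (p • Q - 1) *ᵥ v with hy
    have hcy : ∀ a : ι → F, c (vecMulVec a v) = vecMulVec a y := by
      intro a
      rw [hcR, Matrix.vecMulVec_mul, Matrix.vecMul_transpose]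
    have hsty : ∀ a : ι → F, h (vecMulVec a y) ∈ fibB (κ := κ) x := by
      intro a
      rw [← hcy]
      exact hcfib _
    have hyiso : β y y = 0 := by
      obtain ⟨a, a', haa'⟩ := exists_form_ne_zero hC.hαN
      obtain ⟨w₁, hw₁⟩ := hsty a
      obtain ⟨w₁', hw₁'⟩ := hsty a'
      have h1 := hhU (vecMulVec a y) (vecMulVec a' y)
      rw [hw₁, hw₁', tf_pure, tf_pure, hx, zero_mul] at h1
      rcases mul_eq_zero.mp h1.symm with h2 | h2
      · exact absurd h2 haa'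
      · exact h2
    set z : Matrix ι κ F ≃ₗ[F] Matrix ι κ F := tmE (1 : (ι → F) ≃ₗ[F] (ι → F)) (utv β y s) with hz
    have hzM : z ∈ M :=
      tmE_mem hC (one_mem _) (Cfsg.Agent.Lib.Helper14_PSULocal1.utv_mem_SUg hC.hβ y hs)
    have hz_apply : ∀ X, z X = X + s • vecMulVec (ctrB β y X) y := by
      intro X
      rw [hz, tmE_utv_right hyiso s X, nI_apply]
    set g : Matrix ι κ F ≃ₗ[F] Matrix ι κ F := h * z * h⁻¹ with hg
    have hgM : g ∈ M := M.mul_mem (M.mul_mem hh hzM) (M.inv_mem hh)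
    have hg_apply : ∀ X, g X = X + s • h (vecMulVec (ctrB β y (h⁻¹ X)) y) := by
      intro X
      have : g X = h (z (h⁻¹ X)) := rfl
      rw [this, hz_apply, map_add, app_inv, map_smul]
    have hgfib : ∀ X, g X - X ∈ fibB (κ := κ) x := by
      intro X
      rw [hg_apply, add_sub_cancel_left]
      exact (fibB x).smul_mem s (hsty _)
    obtain ⟨s', hs', hgs'⟩ := hrad g hgM hgfib
    have hkey : ∀ X, s • h (vecMulVec (ctrB β y (h⁻¹ X)) y) = s' • nII α x X := by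
      intro X
      have := hgs' X
      rw [hg_apply] at this
      exact add_left_cancel this
    by_cases hs'0 : s' = 0
    · -- then `z = 1`
      obtain ⟨y'', -, hy''⟩ := hC.hβN y Submodule.mem_top hv
      have hy''2 : β y'' y ≠ 0 := by
        rw [hC.hβ y y'']
        intro h0
        exact hy'' ((map_eq_zero σ).mp h0)
      obtain ⟨i⟩ := ‹Nonempty ι›
      have ha1 : (Pi.single i 1 : ι → F) ≠ 0 := by
        intro h
        have := congrFun h i
        simp at this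
      have h1 := hkey (h (vecMulVec (Pi.single i 1) y''))
      rw [hs'0, zero_smul, inv_app, ctrB_pure] at h1
      have h2 : h (vecMulVec (β y'' y • (Pi.single i 1 : ι → F)) y) = 0 := by
        rcases smul_eq_zero.mp h1 with h3 | h3
        · exact absurd h3 hs0
        · exact h3
      have h3 : vecMulVec (β y'' y • (Pi.single i 1 : ι → F)) y = 0 :=
        h.injective (h2.trans (map_zero h).symm)
      exact vmv_ne_zero (smul_ne_zero hy''2 ha1) hv h3
    · -- then `x ⊗ B ≤ h (A ⊗ y)`: dimensions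
      have hle : fibB (κ := κ) x ≤ (fiber (ι := ι) y).map h.toLinearMap := by
        rintro X ⟨w, rfl⟩
        have h1 := hkey (vecMulVec xs w)
        rw [nII_dual hxs] at h1
        rw [Submodule.mem_map]
        refine ⟨vecMulVec ((s'⁻¹ * s) • ctrB β y (h⁻¹ (vecMulVec xs w))) y, ⟨_, rfl⟩, ?_⟩
        rw [smul_vecMulVec, LinearEquiv.coe_coe, map_smul, mul_smul, h1, smul_smul,
          inv_mul_cancel₀ hs'0, one_smul]
      have h1 := Submodule.finrank_mono hle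
      rw [finrank_fibB hx0, LinearEquiv.finrank_map_eq] at h1
      have h2 := finrank_fiber_le (ι := ι) y
      have := hC.hab
      omega

/-! ## the general case -/

/-- G2II, with the statement of `radII_apply` at `x` as a hypothesis -/
theorem g2II_of [Finite F] (hC : UTCtx α β M) (hS : StabII α M)
    {x : ι → F} (hx0 : x ≠ 0) (hx : α x x = 0)
    (hrad : ∀ g : Matrix ι κ F ≃ₗ[F] Matrix ι κ F, g ∈ M → (∀ X, g X - X ∈ fibB (κ := κ) x) →
      ∃ s : F, σ s = -s ∧ ∀ X, g X = X + s • nII α x X)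
    {g₁ g₂ : Matrix ι κ F ≃ₗ[F] Matrix ι κ F}
    (hg₁ : g₁ ∈ M) (hg₂ : g₂ ∈ M) {s : F} (hs : σ s = -s) (hs0 : s ≠ 0)
    (hst : ∀ X ∈ Lg x g₂, rtE α x g₁ s X ∈ Lg x g₂) (hmeet : Lg x g₁ ⊓ Lg x g₂ ≠ ⊥) :
    Lg x g₁ = Lg x g₂ := by
  set h : Matrix ι κ F ≃ₗ[F] Matrix ι κ F := g₁⁻¹ * g₂ with hh
  have hhM : h ∈ M := M.mul_mem (M.inv_mem hg₁) hg₂
  have hLh : ∀ X, X ∈ Lg x h ↔ g₁ X ∈ Lg x g₂ := by
    intro X
    rw [mem_Lg, mem_Lg]
    constructor
    · rintro ⟨w, rfl⟩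
      exact ⟨w, app_inv g₁ _⟩
    · rintro ⟨w, hw⟩
      refine ⟨w, ?_⟩
      have : h (vecMulVec x w) = g₁⁻¹ (g₂ (vecMulVec x w)) := rfl
      rw [this, ← hw, inv_app]
  have hsth : ∀ X ∈ Lg x h, tmE (utv α x s) (1 : (κ → F) ≃ₗ[F] (κ → F)) X ∈ Lg x h := by
    intro X hX
    rw [hLh] at hX ⊢
    have h1 := hst _ hX
    have h2 : rtE α x g₁ s (g₁ X) =
        g₁ (tmE (utv α x s) (1 : (κ → F) ≃ₗ[F] (κ → F)) (g₁⁻¹ (g₁ X))) := rfl
    rw [h2, inv_app] at h1
    exact h1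
  obtain ⟨x', hx'0, hx'⟩ := g2II_base_of hC hS hx0 hx hrad hhM hs hs0 hsth
  -- the meet, translated by `g₁⁻¹`
  have hmeet' : fibB (κ := κ) x ⊓ fibB x' ≠ ⊥ := by
    obtain ⟨Z, hZ, hZ0⟩ := (Submodule.ne_bot_iff _).mp hmeet
    obtain ⟨hZ1, hZ2⟩ := hZ
    rw [Submodule.ne_bot_iff]
    refine ⟨g₁⁻¹ Z, Submodule.mem_inf.mpr ⟨?_, ?_⟩, ?_⟩
    · obtain ⟨w, rfl⟩ := mem_Lg.mp hZ1
      rw [inv_app]
      exact ⟨w, rfl⟩
    · rw [← hx', hLh, app_inv]
      exact hZ2
    · intro h0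
      apply hZ0
      have := congrArg g₁ h0
      rwa [app_inv, map_zero] at this
  have hfib : fibB (κ := κ) x = fibB x' := fibB_eq_of_meet hmeet'
  -- conclude
  ext Z
  have h1 : Z ∈ Lg x g₂ ↔ g₁⁻¹ Z ∈ Lg x h := by rw [hLh, app_inv]
  rw [h1, hx', ← hfib, mem_Lg]
  constructor
  · rintro ⟨w, rfl⟩
    rw [inv_app]
    exact ⟨w, rfl⟩
  · rintro ⟨w, hw⟩
    refine ⟨w, ?_⟩
    rw [← hw, app_inv]

end Cfsg.Agent.Lib.Helper77_UT_G2IIaux
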