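import Mathlib
import Cfsg.Agent.Lib.Helper37_UTDefs
import Cfsg.Agent.Lib.Helper37_UTPairDefs
import Cfsg.Agent.Lib.Helper77_UT_G2IIaux
import Cfsg.Agent.Lib.Helper53_UT_ZF

set_option autoImplicit false
set_option linter.unusedSectionVars false
set_option linter.unusedVariables false

/-!
# UTENS market (architect helper37), package UT-G2II (helper77): uniqueness, type II.
`g2II_base`, `g2II` verbatim: `Helper77_UT_G2IIaux` fed with `Helper53_UT_ZF.radII_apply`.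
-/

namespace Cfsg.Agent.Lib.Helper77_UT_G2II

open Matrix Module
open Cfsg.Agent.Lib.Helper98_ExtDefs Cfsg.Agent.Lib.Helper97_TensDefs
open Cfsg.Agent.Lib.Helper94_Herm Cfsg.Agent.Lib.Helper13_PSUSimple
open Cfsg.Agent.Lib.Helper94_HermEich
open Cfsg.Agent.Lib.Helper67_UT2Defs Cfsg.Agent.Lib.Helper37_UTDefs
open Cfsg.Agent.Lib.Helper37_UTPairDefs

variable {F : Type*} [Field F] {ι κ : Type*} [Fintype ι] [Fintype κ] [DecidableEq ι]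
  [DecidableEq κ] {σ : F →+* F}
variable {α : (ι → F) →ₗ[F] (ι → F) →ₛₗ[σ] F} {β : (κ → F) →ₗ[F] (κ → F) →ₛₗ[σ] F}
variable {M : Subgroup (Matrix ι κ F ≃ₗ[F] Matrix ι κ F)}

/-! ## G2II (L): uniqueness, type II -/

theorem g2II_base [Finite F] (hC : UTCtx α β M) (hII : RadStdII α M) (hS : StabII α M)
    {x : ι → F} (hx0 : x ≠ 0) (hx : α x x = 0) {h : Matrix ι κ F ≃ₗ[F] Matrix ι κ F} (hh : h ∈ M)
    {s : F} (hs : σ s = -s) (hs0 : s ≠ 0)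
    (hst : ∀ X ∈ Lg x h, tmE (utv α x s) (1 : (κ → F) ≃ₗ[F] (κ → F)) X ∈ Lg x h) :
    ∃ x' : ι → F, x' ≠ 0 ∧ Lg x h = fibB x' := by
  exact Cfsg.Agent.Lib.Helper77_UT_G2IIaux.g2II_base_of hC hS hx0 hx
    (fun g hg hgX => Cfsg.Agent.Lib.Helper53_UT_ZF.radII_apply (Cfsg.Agent.Lib.Helper37_UTPairDefs.UTCtx.base hC) hII hx0 hx hg hgX)
    hh hs hs0 hst

theorem g2II [Finite F] (hC : UTCtx α β M) (hII : RadStdII α M) (hS : StabII α M)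
    {x : ι → F} (hx0 : x ≠ 0) (hx : α x x = 0) {g₁ g₂ : Matrix ι κ F ≃ₗ[F] Matrix ι κ F}
    (hg₁ : g₁ ∈ M) (hg₂ : g₂ ∈ M) {s : F} (hs : σ s = -s) (hs0 : s ≠ 0)
    (hst : ∀ X ∈ Lg x g₂, rtE α x g₁ s X ∈ Lg x g₂) (hmeet : Lg x g₁ ⊓ Lg x g₂ ≠ ⊥) :
    Lg x g₁ = Lg x g₂ := by
  exact Cfsg.Agent.Lib.Helper77_UT_G2IIaux.g2II_of hC hS hx0 hx
    (fun g hg hgX => Cfsg.Agent.Lib.Helper53_UT_ZF.radII_apply (Cfsg.Agent.Lib.Helper37_UTPairDefs.UTCtx.base hC) hII hx0 hx hg hgX)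
    hg₁ hg₂ hs hs0 hst hmeet

end Cfsg.Agent.Lib.Helper77_UT_G2II
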