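import Mathlib
import Cfsg.Agent.Lib.Helper37_UTDefs
import Cfsg.Agent.Lib.Helper37_UTPairDefs
import Cfsg.Agent.Lib.Helper17_UT_BAS1
import Cfsg.Agent.Lib.Helper89_UT_KEYA

set_option autoImplicit false
set_option linter.unusedSectionVars false
set_option linter.unusedVariables false

/-!
UT-KEYB (helper78), auxiliary form: the key lemma (i) for the base pair, with the facts of the
packages not yet landed (`rootLine_Lg`, `pairGeo_model`, `gam_facts`) as hypotheses.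
-/

namespace Cfsg.Agent.Lib.Helper78_UT_KEYBaux

open Matrix Module
open Cfsg.Agent.Lib.Helper98_ExtDefs Cfsg.Agent.Lib.Helper97_TensDefs
open Cfsg.Agent.Lib.Helper94_Herm Cfsg.Agent.Lib.Helper13_PSUSimple
open Cfsg.Agent.Lib.Helper67_UT2Defs Cfsg.Agent.Lib.Helper37_UTDefs
open Cfsg.Agent.Lib.Helper37_UTPairDefs

variable {F : Type*} [Field F] {ι κ : Type*} [Fintype ι] [Fintype κ] [DecidableEq ι]
  [DecidableEq κ] {σ : F →+* F}
variable {α : (ι → F) →ₗ[F] (ι → F) →ₛₗ[σ] F} {β : (κ → F) →ₗ[F] (κ → F) →ₛₗ[σ] F}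
variable {M : Subgroup (Matrix ι κ F ≃ₗ[F] Matrix ι κ F)}

/-- abstract: the group generated by two root groups of root lines of `M` lies in `M` -/
theorem h78_Gam_le {V : Type*} [AddCommGroup V] [Module F V] {f : V →ₗ[F] V →ₛₗ[σ] F}
    {M : Subgroup (V ≃ₗ[F] V)} {ℓ ℓ' : Submodule F V} {N N' : V →ₗ[F] V}
    (h1 : RootLine f M ℓ N) (h2 : RootLine f M ℓ' N') : Gam σ N N' ≤ M := by
  unfold Gam
  rw [Subgroup.closure_le]
  rintro g ⟨s, hs, h | h⟩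
  · obtain ⟨g', hg', hg'v⟩ := h1.mem s hs
    have : g = g' := by
      ext v
      rw [h v, hg'v v]
    rw [this]
    exact hg'
  · obtain ⟨g', hg', hg'v⟩ := h2.mem s hs
    have : g = g' := by
      ext v
      rw [h v, hg'v v]
    rw [this]
    exact hg'

/-- abstract core of the key lemma: `γ` stabilising `ℓ`, scalar on `ℓ`, with the facts of
`gam_facts`, moves every vector inside `ℓ` -/
theorem h78_key_abs {V : Type*} [AddCommGroup V] [Module F V] {f : V →ₗ[F] V →ₛₗ[σ] F}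
    {ℓ ℓ' : Submodule F V} {N N' : V →ₗ[F] V}
    (hG : PairGeo f ℓ ℓ' N N') (hU : PairGeoU f ℓ ℓ' N N') {γ : V ≃ₗ[F] V}
    (hu : γ ∈ uG f)
    (hW : ∀ w ∈ ℓ'.map N ⊔ ℓ.map N', γ w ∈ ℓ'.map N ⊔ ℓ.map N')
    (hWo : ∀ v ∈ orthS f (ℓ'.map N ⊔ ℓ.map N'), γ v - v ∈ ℓ ⊓ ℓ')
    (hfix : ∀ v ∈ ℓ, γ v = v) :
    ∀ X, γ X - X ∈ ℓ := by
  have hJle : ℓ'.map N ≤ ℓ := by
    rw [← hG.J_sup]
    exact le_sup_left
  have hWpart : ∀ w ∈ ℓ'.map N ⊔ ℓ.map N', γ w - w ∈ ℓ := by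
    intro w hw
    have h1 : γ w - w ∈ orthS f (ℓ'.map N) := by
      intro j hj
      have hjfix : γ j = j := hfix j (hJle hj)
      rw [map_sub, LinearMap.sub_apply]
      have := hu w j
      rw [hjfix] at this
      rw [this, sub_self]
    have h2 : γ w - w ∈ ℓ'.map N ⊔ ℓ.map N' := Submodule.sub_mem _ (hW w hw) hw
    have h3 : γ w - w ∈ orthS f (ℓ'.map N) ⊓ (ℓ'.map N ⊔ ℓ.map N') := ⟨h1, h2⟩
    rw [hG.J_orth] at h3
    exact hJle h3
  intro X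
  have hX : X ∈ (ℓ'.map N ⊔ ℓ.map N') ⊔ orthS f (ℓ'.map N ⊔ ℓ.map N') := by
    rw [hU.W_sup_Worth]
    exact Submodule.mem_top
  obtain ⟨w, hw, v, hv, rfl⟩ := Submodule.mem_sup.mp hX
  have : γ (w + v) - (w + v) = (γ w - w) + (γ v - v) := by
    rw [map_add]
    abel
  rw [this]
  exact Submodule.add_mem _ (hWpart w hw) (hWo v hv).1

theorem key_base_of (hC : UTCtx α β M) (hS : StabII α M)
    {x : ι → F} (hx0 : x ≠ 0) (hx : α x x = 0) {d : ℕ} (hd : 1 ≤ d)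
    {g : Matrix ι κ F ≃ₗ[F] Matrix ι κ F} (hp : IsPair x M d 1 g)
    (hR1 : RootLine (tf α β) M (Lg x 1) (Ng α x 1))
    (hR2 : RootLine (tf α β) M (Lg x g) (Ng α x g))
    (hG : PairGeo (tf α β) (Lg x 1) (Lg x g) (Ng α x 1) (Ng α x g))
    (hU : PairGeoU (tf α β) (Lg x 1) (Lg x g) (Ng α x 1) (Ng α x g))
    {γ : Matrix ι κ F ≃ₗ[F] Matrix ι κ F} (hγ : γ ∈ Gam σ (nII (κ := κ) α x) (Ng α x g))
    (hfacts : γ ∈ uG (tf α β) ∧
      (∀ w ∈ (Lg x g).map (Ng α x 1) ⊔ (Lg x 1).map (Ng α x g),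
        γ w ∈ (Lg x g).map (Ng α x 1) ⊔ (Lg x 1).map (Ng α x g)) ∧
      (∀ v ∈ orthS (tf α β) ((Lg x g).map (Ng α x 1) ⊔ (Lg x 1).map (Ng α x g)),
        γ v - v ∈ Lg x 1 ⊓ Lg x g) ∧
      (∀ v ∈ orthS (tf α β) ((Lg x g).map (Ng α x 1) ⊔ (Lg x 1).map (Ng α x g)) ⊓
        orthS (tf α β) (Lg x 1 ⊓ Lg x g), γ v = v) ∧
      (∀ v ∈ Lg x 1 ⊓ Lg x g, γ v = v))
    (hst : ∀ X ∈ fibB (κ := κ) x, γ X ∈ fibB (κ := κ) x) :
    ∃ s : F, σ s = -s ∧ ∀ X, γ X = X + s • nII α x X := by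
  obtain ⟨hu, hW, hWo, hU0, hI⟩ := hfacts
  have hL1 : Lg (κ := κ) x 1 = fibB x := Lg_one x
  have hN1 : Ng (κ := κ) α x 1 = nII α x := Ng_one α x
  -- γ ∈ M
  have hγM : γ ∈ M := h78_Gam_le hR1 hR2 (by rw [hN1]; exact hγ)
  -- γ is Kronecker
  have hst' : ∀ w : κ → F, ∃ w' : κ → F, γ (vecMulVec x w) = vecMulVec x w' := by
    intro w
    exact hst _ ⟨w, rfl⟩
  have hk : IsKron γ := hS γ hγM x x hx0 hx0 hx hst'
  -- γ - 1 maps ℓ^⊥ into ℓ
  have hJle : (Lg x g).map (Ng α x 1) ≤ Lg x 1 := by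
    rw [← hG.J_sup]
    exact le_sup_left
  have hq : ∀ X : Matrix ι κ F, ctrA α x X = 0 → γ X - X ∈ fibB (κ := κ) x := by
    intro X hX
    have hker : X ∈ LinearMap.ker (Ng (κ := κ) α x 1) := by
      rw [LinearMap.mem_ker, hN1, Cfsg.Agent.Lib.Helper17_UT_BAS1.nII_apply, hX]
      ext i j
      simp [vecMulVec_apply]
    rw [hR1.ker_eq, hU.orth_eq] at hker
    obtain ⟨j, hj, u, hu', rfl⟩ := Submodule.mem_sup.mp hker
    have h1 : γ u = u := hU0 u hu'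
    have h2 : γ j - j ∈ fibB (κ := κ) x := by
      have hjl : j ∈ fibB (κ := κ) x := by
        rw [← hL1]
        exact hJle hj
      exact Submodule.sub_mem _ (hst j hjl) hjl
    have : γ (j + u) - (j + u) = γ j - j := by
      rw [map_add, h1]
      abel
    rw [this]
    exact h2
  obtain ⟨c, hc⟩ := Cfsg.Agent.Lib.Helper89_UT_KEYA.key_a hC.hσ hC.hα hC.hαN hC.ha hx0 hx hk hst' hq
  -- c = 1 since γ fixes I ≠ 0
  have hIne : Lg x 1 ⊓ Lg x g ≠ ⊥ := by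
    intro h0
    have := hp.dim
    rw [h0, finrank_bot] at this
    omega
  obtain ⟨v, hv, hv0⟩ := Submodule.exists_mem_ne_zero_of_ne_bot hIne
  have hc1 : c = 1 := by
    have hvl : v ∈ fibB (κ := κ) x := by
      rw [← hL1]
      exact hv.1
    obtain ⟨w, rfl⟩ := hvl
    have h1 := hI _ hv
    rw [hc w] at h1
    have h2 : (c - 1) • vecMulVec x w = 0 := by
      rw [sub_smul, one_smul, h1, sub_self]
    rcases smul_eq_zero.mp h2 with h3 | h3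
    · exact sub_eq_zero.mp h3
    · exact absurd h3 hv0
  have hfix : ∀ v ∈ Lg (κ := κ) x 1, γ v = v := by
    intro v hv
    rw [hL1] at hv
    obtain ⟨w, rfl⟩ := hv
    rw [hc w, hc1, one_smul]
  have hall := h78_key_abs hG hU hu hW hWo hfix
  obtain ⟨s, hs, hsv⟩ := hR1.std γ hγM hall
  refine ⟨s, hs, fun X => ?_⟩
  rw [hsv X, hN1]

end Cfsg.Agent.Lib.Helper78_UT_KEYBaux
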