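import Mathlib
import Cfsg.Agent.Lib.Helper37_UTDefs
import Cfsg.Agent.Lib.Helper37_UTPairDefs
import Cfsg.Agent.Lib.Helper31_UT_BAS3
import Cfsg.Agent.Lib.Helper10_UT_PGEOA
import Cfsg.Agent.Lib.Helper85_UT_RL
import Cfsg.Agent.Lib.Helper77_UT_G2II
import Cfsg.Agent.Lib.Helper25_UT_PGEOB

set_option autoImplicit false
set_option linter.unusedSectionVars false
set_option linter.unusedVariables false

/-!
# UTENS package UT-PGM (helper89): the geometry of a pair of the orbit meeting in the maximal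
dimension (`pairGeo_model`), reduced to the packages UT-RL, UT-G2II, UT-PGEOB.

* `inter_translate_aux` : the image of `ℓ'` under `1 + s N` meets `ℓ'` in `(1 + s N) K`.
* `pgm_side` : the dimension bound `hm` of `pairGeo` for a pair of the orbit.
* `pairGeo_model_of` : `pairGeo_model` from the statements of the packages not yet landed.
-/

namespace Cfsg.Agent.Lib.Helper89_UT_PGM

open Matrix Module
open Cfsg.Agent.Lib.Helper98_ExtDefs Cfsg.Agent.Lib.Helper97_TensDefs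
open Cfsg.Agent.Lib.Helper94_Herm Cfsg.Agent.Lib.Helper13_PSUSimple
open Cfsg.Agent.Lib.Helper67_UT2Defs Cfsg.Agent.Lib.Helper37_UTDefs
open Cfsg.Agent.Lib.Helper37_UTPairDefs

section Abstract

variable {F : Type*} [Field F] {V : Type*} [AddCommGroup V] [Module F V]

/-- the image of a line under `1 + s N` meets the line in `(1 + s N) K` -/
theorem inter_translate_aux {ℓ ℓ' : Submodule F V} {N : V →ₗ[F] V} {u : V ≃ₗ[F] V} {s : F}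
    (hs : s ≠ 0) (hu : ∀ v, u v = v + s • N v) (hr : LinearMap.range N = ℓ) :
    ℓ'.map u.toLinearMap ⊓ ℓ' = (ℓ' ⊓ (ℓ ⊓ ℓ').comap N).map u.toLinearMap := by
  apply le_antisymm
  · rintro w ⟨⟨v, hv, rfl⟩, hw⟩
    refine ⟨v, ⟨hv, ?_, ?_⟩, rfl⟩
    · rw [← hr]
      exact LinearMap.mem_range_self N v
    · have h1 : u.toLinearMap v = v + s • N v := hu v
      rw [h1] at hw
      have h2 : s • N v ∈ ℓ' := by
        have := ℓ'.sub_mem hw hv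
        rwa [add_sub_cancel_left] at this
      have h3 := ℓ'.smul_mem s⁻¹ h2
      rwa [smul_smul, inv_mul_cancel₀ hs, one_smul] at h3
  · rintro w ⟨v, ⟨hv, hNv⟩, rfl⟩
    refine ⟨⟨v, hv, rfl⟩, ?_⟩
    have h1 : u.toLinearMap v = v + s • N v := hu v
    rw [h1]
    exact ℓ'.add_mem hv (ℓ'.smul_mem s hNv.2)

end Abstract

variable {F : Type*} [Field F] {ι κ : Type*} [Fintype ι] [Fintype κ] [DecidableEq ι]
  [DecidableEq κ] {σ : F →+* F}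
variable {α : (ι → F) →ₗ[F] (ι → F) →ₛₗ[σ] F} {β : (κ → F) →ₗ[F] (κ → F) →ₛₗ[σ] F}
variable {M : Subgroup (Matrix ι κ F ≃ₗ[F] Matrix ι κ F)}

/-- the dimension bound `hm` of `pairGeo`, for a pair of the orbit meeting in the maximal
dimension -/
theorem pgm_side {x : ι → F} {d : ℕ} (hd : 1 ≤ d) (hmax : MaxD x M d)
    {g₁ g₂ : Matrix ι κ F ≃ₗ[F] Matrix ι κ F} (hg₁ : g₁ ∈ M) (hg₂ : g₂ ∈ M)
    (hne : Lg x g₁ ≠ Lg x g₂) (hdim : finrank F ↥(Lg x g₁ ⊓ Lg x g₂) = d)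
    (hr : LinearMap.range (Ng α x g₁) = Lg x g₁) {s : F} (hs0 : s ≠ 0)
    (hra : ∀ X, rtE α x g₁ s X = X + s • Ng α x g₁ X) (hrm : rtE α x g₁ s ∈ M)
    (hg2 : (∀ X ∈ Lg x g₂, rtE α x g₁ s X ∈ Lg x g₂) → Lg x g₁ ⊓ Lg x g₂ ≠ ⊥ →
      Lg x g₁ = Lg x g₂) :
    finrank F ↥(Lg x g₂ ⊓ (Lg x g₁ ⊓ Lg x g₂).comap (Ng α x g₁)) ≤
      finrank F ↥(Lg x g₁ ⊓ Lg x g₂) := by
  have hIT := inter_translate_aux (ℓ' := Lg x g₂) hs0 hra hr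
  rw [← LinearEquiv.finrank_map_eq (rtE α x g₁ s)
    (Lg x g₂ ⊓ (Lg x g₁ ⊓ Lg x g₂).comap (Ng α x g₁))]
  have hIT' : Submodule.map (↑(rtE α x g₁ s) : Matrix ι κ F →ₗ[F] Matrix ι κ F)
      (Lg x g₂ ⊓ (Lg x g₁ ⊓ Lg x g₂).comap (Ng α x g₁)) =
      Lg x (rtE α x g₁ s * g₂) ⊓ Lg x g₂ := by
    rw [Lg_mul]
    exact hIT.symm
  rw [hIT']
  by_cases h : Lg x (rtE α x g₁ s * g₂) = Lg x g₂
  · exfalso
    apply hne
    apply hg2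
    · intro X hX
      rw [← h, Lg_mul]
      exact Submodule.mem_map_of_mem hX
    · intro hbot
      rw [hbot, finrank_bot] at hdim
      omega
  · rw [hdim]
    exact hmax (rtE α x g₁ s * g₂) (M.mul_mem hrm hg₂) g₂ hg₂ h

/-- `pairGeo_model`, from the statements of the packages UT-RL (`rootLine_Lg`, `finrank_Lg`,
`rtE_apply`, `rtE_mem`), UT-G2II (`g2II`) and UT-PGEOB (`pairGeoU`) -/
theorem pairGeo_model_of (hC : UTCtx α β M) {x : ι → F} {d : ℕ} (hd : 1 ≤ d)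
    (hmax : MaxD x M d) {g₁ g₂ : Matrix ι κ F ≃ₗ[F] Matrix ι κ F} (hp : IsPair x M d g₁ g₂)
    (hℓ : IsRootOp (tf α β) (Lg x g₁) (Ng α x g₁))
    (hℓ' : IsRootOp (tf α β) (Lg x g₂) (Ng α x g₂))
    (hfr : finrank F ↥(Lg x g₁) = finrank F ↥(Lg x g₂))
    (hra : ∀ (g : Matrix ι κ F ≃ₗ[F] Matrix ι κ F) (s : F) (X : Matrix ι κ F),
      rtE α x g s X = X + s • Ng α x g X)
    (hrm : ∀ g ∈ M, ∀ s : F, σ s = -s → rtE α x g s ∈ M)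
    (hg2 : ∀ g₁ ∈ M, ∀ g₂ ∈ M, ∀ s : F, σ s = -s → s ≠ 0 →
      (∀ X ∈ Lg x g₂, rtE α x g₁ s X ∈ Lg x g₂) → Lg x g₁ ⊓ Lg x g₂ ≠ ⊥ →
      Lg x g₁ = Lg x g₂)
    (hPGU : PairGeo (tf α β) (Lg x g₁) (Lg x g₂) (Ng α x g₁) (Ng α x g₂) →
      PairGeoU (tf α β) (Lg x g₁) (Lg x g₂) (Ng α x g₁) (Ng α x g₂)) :
    PairGeo (tf α β) (Lg x g₁) (Lg x g₂) (Ng α x g₁) (Ng α x g₂) ∧
      PairGeoU (tf α β) (Lg x g₁) (Lg x g₂) (Ng α x g₁) (Ng α x g₂) := by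
  obtain ⟨s, hs0, hs⟩ := exists_skew hC.hσ
  have hm := pgm_side hd hmax hp.mem₁ hp.mem₂ hp.ne hp.dim hℓ.range_eq hs0 (hra g₁ s)
    (hrm g₁ hp.mem₁ s hs) (hg2 g₁ hp.mem₁ g₂ hp.mem₂ s hs hs0)
  have hdim' : finrank F ↥(Lg x g₂ ⊓ Lg x g₁) = d := by
    rw [inf_comm]
    exact hp.dim
  have hm' := pgm_side hd hmax hp.mem₂ hp.mem₁ hp.ne.symm hdim' hℓ'.range_eq hs0 (hra g₂ s)
    (hrm g₂ hp.mem₂ s hs) (hg2 g₂ hp.mem₂ g₁ hp.mem₁ s hs hs0)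
  rw [inf_comm (Lg x g₂) (Lg x g₁)] at hm'
  have hG : PairGeo (tf α β) (Lg x g₁) (Lg x g₂) (Ng α x g₁) (Ng α x g₂) :=
    Cfsg.Agent.Lib.Helper10_UT_PGEOA.pairGeo hC.hσ
      (Cfsg.Agent.Lib.Helper31_UT_BAS3.tf_isHerm hC.hσ hC.hα hC.hβ)
      (Cfsg.Agent.Lib.Helper31_UT_BAS3.tf_nondeg hC.hσ hC.hα hC.hβ hC.hαN hC.hβN)
      hℓ hℓ' hfr hm hm'
  exact ⟨hG, hPGU hG⟩

/-- UT-PGM, the statement of the package (verbatim): the geometry of a pair of the orbit meeting in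
the maximal dimension -/
theorem pairGeo_model [Finite F] (hC : UTCtx α β M) (hII : RadStdII α M) (hS : StabII α M)
    {x : ι → F} (hx0 : x ≠ 0) (hx : α x x = 0) {d : ℕ} (hd : 1 ≤ d) (hmax : MaxD x M d)
    {g₁ g₂ : Matrix ι κ F ≃ₗ[F] Matrix ι κ F} (hp : IsPair x M d g₁ g₂) :
    PairGeo (tf α β) (Lg x g₁) (Lg x g₂) (Ng α x g₁) (Ng α x g₂) ∧
      PairGeoU (tf α β) (Lg x g₁) (Lg x g₂) (Ng α x g₁) (Ng α x g₂) := by
  have hℓ := (Cfsg.Agent.Lib.Helper85_UT_RL.rootLine_Lg (UTCtx.base hC) hII hx0 hx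
    hp.mem₁).toIsRootOp
  have hℓ' := (Cfsg.Agent.Lib.Helper85_UT_RL.rootLine_Lg (UTCtx.base hC) hII hx0 hx
    hp.mem₂).toIsRootOp
  refine pairGeo_model_of hC hd hmax hp hℓ hℓ' ?_
    (fun g s X => Cfsg.Agent.Lib.Helper85_UT_RL.rtE_apply hx g s X)
    (fun g hg s hs => Cfsg.Agent.Lib.Helper85_UT_RL.rtE_mem (UTCtx.base hC) hx hg hs)
    (fun g₁ hg₁ g₂ hg₂ s hs hs0 hst hmeet =>
      Cfsg.Agent.Lib.Helper77_UT_G2II.g2II hC hII hS hx0 hx hg₁ hg₂ hs hs0 hst hmeet)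
    (fun hG => Cfsg.Agent.Lib.Helper25_UT_PGEOB.pairGeoU hC.hσ
      (Cfsg.Agent.Lib.Helper31_UT_BAS3.tf_isHerm hC.hσ hC.hα hC.hβ)
      (Cfsg.Agent.Lib.Helper31_UT_BAS3.tf_nondeg hC.hσ hC.hα hC.hβ hC.hαN hC.hβN) hℓ hℓ' hG)
  rw [Cfsg.Agent.Lib.Helper85_UT_RL.finrank_Lg hx0, Cfsg.Agent.Lib.Helper85_UT_RL.finrank_Lg hx0]

end Cfsg.Agent.Lib.Helper89_UT_PGM
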