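import Mathlib
import Cfsg.Agent.Lib.Helper37_UTDefs
import Cfsg.Agent.Lib.Helper37_UTPairDefs
import Cfsg.Agent.Lib.Helper31_UT_BAS3
import Cfsg.Agent.Lib.Helper85_UT_RL
import Cfsg.Agent.Lib.Helper77_UT_G2II
import Cfsg.Agent.Lib.Helper25_UT_PGEOB
import Cfsg.Agent.Lib.Helper25_UT_GAM
import Cfsg.Agent.Lib.Helper89_UT_PGM
import Cfsg.Agent.Lib.Helper78_UT_KEYBaux
import Cfsg.Agent.Lib.Helper91_UT_KEYGa
import Cfsg.Agent.Lib.Helper20_UT_E2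

set_option autoImplicit false
set_option linter.unusedSectionVars false
set_option linter.unusedVariables false

/-!
# UTENS package UT-E2 (architect helper37, formaliser helper20): `e2` VERBATIM

Verbatim statements (as in `pending/helper37/UTENS_packages5.lean.txt`) of `pairGeo_model` (PGM),
`key_base` (KEYB), `key` (KEYG) and `e2` (E2), assembled from the landed `_of` / aux forms:
`Helper89_UT_PGM.pairGeo_model_of`, `Helper78_UT_KEYBaux.key_base_of`, `Helper91_UT_KEYGa.key_aux`,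
`Helper20_UT_E2.e2_of`, with `Helper85_UT_RL` (root lines), `Helper77_UT_G2II.g2II`,
`Helper25_UT_PGEOB.pairGeoU`, `Helper25_UT_GAM.gam_facts`.
-/

namespace Cfsg.Agent.Lib.Helper20_UT_E2w

open Matrix Module
open Cfsg.Agent.Lib.Helper98_ExtDefs Cfsg.Agent.Lib.Helper97_TensDefs
open Cfsg.Agent.Lib.Helper94_Herm Cfsg.Agent.Lib.Helper13_PSUSimple
open Cfsg.Agent.Lib.Helper67_UT2Defs Cfsg.Agent.Lib.Helper37_UTDefs
open Cfsg.Agent.Lib.Helper37_UTPairDefs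

variable {F : Type*} [Field F] {ι κ : Type*} [Fintype ι] [Fintype κ] [DecidableEq ι]
  [DecidableEq κ] {σ : F →+* F}
variable {α : (ι → F) →ₗ[F] (ι → F) →ₛₗ[σ] F} {β : (κ → F) →ₗ[F] (κ → F) →ₛₗ[σ] F}
variable {M : Subgroup (Matrix ι κ F ≃ₗ[F] Matrix ι κ F)}

theorem pairGeo_model [Finite F] (hC : UTCtx α β M) (hII : RadStdII α M) (hS : StabII α M)
    {x : ι → F} (hx0 : x ≠ 0) (hx : α x x = 0) {d : ℕ} (hd : 1 ≤ d) (hmax : MaxD x M d)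
    {g₁ g₂ : Matrix ι κ F ≃ₗ[F] Matrix ι κ F} (hp : IsPair x M d g₁ g₂) :
    PairGeo (tf α β) (Lg x g₁) (Lg x g₂) (Ng α x g₁) (Ng α x g₂) ∧
      PairGeoU (tf α β) (Lg x g₁) (Lg x g₂) (Ng α x g₁) (Ng α x g₂) := by
  have hB : UTBase α β M := UTCtx.base hC
  have hR₁ := Cfsg.Agent.Lib.Helper85_UT_RL.rootLine_Lg hB hII hx0 hx hp.mem₁
  have hR₂ := Cfsg.Agent.Lib.Helper85_UT_RL.rootLine_Lg hB hII hx0 hx hp.mem₂
  have hH := Cfsg.Agent.Lib.Helper31_UT_BAS3.tf_isHerm hC.hσ hC.hα hC.hβ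
  have hN := Cfsg.Agent.Lib.Helper31_UT_BAS3.tf_nondeg hC.hσ hC.hα hC.hβ hC.hαN hC.hβN
  refine Cfsg.Agent.Lib.Helper89_UT_PGM.pairGeo_model_of hC hd hmax hp hR₁.toIsRootOp
    hR₂.toIsRootOp ?_ ?_ ?_ ?_ ?_
  · rw [Cfsg.Agent.Lib.Helper85_UT_RL.finrank_Lg hx0, Cfsg.Agent.Lib.Helper85_UT_RL.finrank_Lg hx0]
  · intro g s X
    exact Cfsg.Agent.Lib.Helper85_UT_RL.rtE_apply hx g s X
  · intro g hg s hs
    exact Cfsg.Agent.Lib.Helper85_UT_RL.rtE_mem hB hx hg hs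
  · intro g₁ hg₁ g₂ hg₂ s hs hs0 hst hmeet
    exact Cfsg.Agent.Lib.Helper77_UT_G2II.g2II hC hII hS hx0 hx hg₁ hg₂ hs hs0 hst hmeet
  · intro hG
    exact Cfsg.Agent.Lib.Helper25_UT_PGEOB.pairGeoU hC.hσ hH hN hR₁.toIsRootOp hR₂.toIsRootOp hG

theorem key_base [Finite F] (hC : UTCtx α β M) (hII : RadStdII α M) (hS : StabII α M)
    {x : ι → F} (hx0 : x ≠ 0) (hx : α x x = 0) {d : ℕ} (hd : 1 ≤ d) (hmax : MaxD x M d)
    {g : Matrix ι κ F ≃ₗ[F] Matrix ι κ F} (hp : IsPair x M d 1 g)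
    {γ : Matrix ι κ F ≃ₗ[F] Matrix ι κ F} (hγ : γ ∈ Gam σ (nII (κ := κ) α x) (Ng α x g))
    (hst : ∀ X ∈ fibB (κ := κ) x, γ X ∈ fibB (κ := κ) x) :
    ∃ s : F, σ s = -s ∧ ∀ X, γ X = X + s • nII α x X := by
  have hB : UTBase α β M := UTCtx.base hC
  have hR₁ := Cfsg.Agent.Lib.Helper85_UT_RL.rootLine_Lg hB hII hx0 hx hp.mem₁
  have hR₂ := Cfsg.Agent.Lib.Helper85_UT_RL.rootLine_Lg hB hII hx0 hx hp.mem₂
  have hH := Cfsg.Agent.Lib.Helper31_UT_BAS3.tf_isHerm hC.hσ hC.hα hC.hβ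
  obtain ⟨hG, hU⟩ := pairGeo_model hC hII hS hx0 hx hd hmax hp
  have hγ' : γ ∈ Gam σ (Ng (κ := κ) α x 1) (Ng α x g) := by
    rw [Ng_one]; exact hγ
  have hfacts := Cfsg.Agent.Lib.Helper25_UT_GAM.gam_facts hC.hσ hH hR₁.toIsRootOp hR₂.toIsRootOp
    hG hU hγ'
  exact Cfsg.Agent.Lib.Helper78_UT_KEYBaux.key_base_of hC hS hx0 hx hd hp hR₁ hR₂ hG hU hγ hfacts hst

theorem key [Finite F] (hC : UTCtx α β M) (hII : RadStdII α M) (hS : StabII α M)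
    {x : ι → F} (hx0 : x ≠ 0) (hx : α x x = 0) {d : ℕ} (hd : 1 ≤ d) (hmax : MaxD x M d)
    {g₁ g₂ : Matrix ι κ F ≃ₗ[F] Matrix ι κ F} (hp : IsPair x M d g₁ g₂)
    {γ : Matrix ι κ F ≃ₗ[F] Matrix ι κ F} (hγ : γ ∈ Gam σ (Ng α x g₁) (Ng α x g₂)) :
    ((∀ X ∈ Lg x g₁, γ X ∈ Lg x g₁) → ∃ s : F, σ s = -s ∧ ∀ X, γ X = X + s • Ng α x g₁ X) ∧
    ((∀ X ∈ Lg x g₂, γ X ∈ Lg x g₂) → ∃ s : F, σ s = -s ∧ ∀ X, γ X = X + s • Ng α x g₂ X) := by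
  exact Cfsg.Agent.Lib.Helper91_UT_KEYGa.key_aux
    (fun hp' _ hγ' hst => key_base hC hII hS hx0 hx hd hmax hp' hγ' hst) hp hγ

theorem e2 [Finite F] (hC : UTCtx α β M) (hII : RadStdII α M) (hS : StabII α M)
    (hS' : StabI β M) (h2 : (2 : F) = 0) {x : ι → F} (hx0 : x ≠ 0) (hx : α x x = 0) {d : ℕ}
    (hd : 1 ≤ d) (hmax : MaxD x M d) {g : Matrix ι κ F ≃ₗ[F] Matrix ι κ F}
    (hp : IsPair x M d 1 g) {y : κ → F} (hy0 : y ≠ 0) (hy : β y y = 0) {c : F} (hc : σ c = -c)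
    (hc0 : c ≠ 0)
    (hsI : ∀ X ∈ fibB x ⊓ Lg x g,
      tmE (1 : (ι → F) ≃ₗ[F] (ι → F)) (utv β y c) X ∈ fibB x ⊓ Lg x g) :
    ∃ s₁ : F, s₁ ≠ 0 ∧ σ s₁ = -s₁ ∧ ∀ X, tmE (utv α x s₁) (utv β y c) (Ng α x g X) =
      Ng α x g (tmE (utv α x s₁) (utv β y c) X) := by
  exact Cfsg.Agent.Lib.Helper20_UT_E2.e2_of hC hII hS hS' h2 hx0 hx hd hmax
    (fun hp' _ hγ hst => key_base hC hII hS hx0 hx hd hmax hp' hγ hst) hp hy0 hy hc hc0 hsI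

end Cfsg.Agent.Lib.Helper20_UT_E2w
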