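import Mathlib
import Cfsg.Agent.Lib.Helper97_UExtDefs
import Cfsg.Agent.Lib.Helper94_UDDefs
import Cfsg.Agent.Lib.Helper98_ExtMult
import Cfsg.Agent.Lib.Helper95_UQ_FLD

set_option autoImplicit false
set_option linter.unusedSectionVars false
set_option linter.unusedVariables false

/-!
helper73 — package FLD of helper97's UEXT2 market: `K = K₀ + θ K₀` and the cardinalities of the fixed
and skew parts of a finite field with an involution.
-/

namespace Cfsg.Agent.Lib.Helper73_UX_FLD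

open Module
open Cfsg.Agent.Lib.Helper94_Symp Cfsg.Agent.Lib.Helper94_Herm Cfsg.Agent.Lib.Helper13_PSUSimple
  Cfsg.Agent.Lib.Helper67_Tens2Defs Cfsg.Agent.Lib.Helper67_UT2Defs Cfsg.Agent.Lib.Helper98_ExtDefs
  Cfsg.Agent.Lib.Helper94_FrmDefs Cfsg.Agent.Lib.Helper94_UDDefs Cfsg.Agent.Lib.Helper97_UExtDefs

variable {F K : Type*} [Field F] [Field K] [Algebra F K] [Finite F] [Finite K]
  {σ : F →+* F} {τ : K →+* K}

/-- PKG FLD (M) -/
theorem dec_K0 (h : TauExt σ τ) (hσ : Invol σ) {θ : F} (hθ : σ θ ≠ θ) (x : K) :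
    ∃ a b : K, τ a = a ∧ τ b = b ∧ x = a + θ • b := by
  have hτ : Invol τ := h.toInvol hσ
  have hω : τ (algebraMap F K θ) ≠ algebraMap F K θ := by
    rw [h.ext]
    exact fun hh => hθ ((algebraMap F K).injective hh)
  obtain ⟨r, s, hr, hs, hx⟩ := decomp hτ hω x
  exact ⟨r, s, hr, hs, by rw [hx, Algebra.smul_def, mul_comm]⟩

/-- the skew elements are the multiples of a non-zero skew element by the fixed elements -/
theorem card_skew_eq_card_fix {L : Type*} [Field L] {ρ : L →+* L} (hρ : Invol ρ) :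
    Nat.card {c : L // ρ c = -c} = Nat.card {c : L // ρ c = c} := by
  obtain ⟨ζ, hζ0, hζ⟩ := exists_skew hρ
  refine Nat.card_congr
    { toFun := fun c => ⟨c.1 / ζ, by rw [map_div₀, c.2, hζ, neg_div_neg_eq]⟩
      invFun := fun a => ⟨a.1 * ζ, by rw [map_mul, a.2, hζ, mul_neg]⟩
      left_inv := fun c => Subtype.ext (div_mul_cancel₀ c.1 hζ0)
      right_inv := fun a => Subtype.ext (mul_div_cancel_right₀ a.1 hζ0) }

/-- PKG FLD -/
theorem card_fixF (hσ : Invol σ) : Nat.card {c : F // σ c = c} ^ 2 = Nat.card F := by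
  rw [sq, ← Cfsg.Agent.Lib.Helper95_UQ_FLD.card_fixed_sq hσ]

/-- PKG FLD -/
theorem card_skewF (hσ : Invol σ) : Nat.card {c : F // σ c = -c} ^ 2 = Nat.card F := by
  rw [card_skew_eq_card_fix hσ, card_fixF hσ]

/-- PKG FLD -/
theorem card_skewK (h : TauExt σ τ) (hσ : Invol σ) :
    Nat.card {κ : K // τ κ = -κ} ^ 2 = Nat.card K := by
  have hτ : Invol τ := h.toInvol hσ
  rw [card_skew_eq_card_fix hτ, sq, ← Cfsg.Agent.Lib.Helper95_UQ_FLD.card_fixed_sq hτ]

end Cfsg.Agent.Lib.Helper73_UX_FLD
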