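import Mathlib
import Cfsg.Agent.Lib.Helper97_UExtDefs
import Cfsg.Agent.Lib.Helper94_UDDefs
import Cfsg.Agent.Lib.Helper98_ExtMult
import Cfsg.Agent.Lib.Helper10_UX_BASIC
import Cfsg.Agent.Lib.Helper10_UX_THERM
import Cfsg.Agent.Lib.Helper73_UX_FLD

set_option autoImplicit false
set_option linter.unusedSectionVars false
set_option linter.unusedVariables false

/-!
UEXT2 market (architect helper97), package MEET (helper20): a member `Lg g` of the orbit of `K × 0` which is not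
`K`-invariant meets another member of the orbit non-trivially.  Core: the statement of HSING (for `P = K`) is a hypothesis.
-/

namespace Cfsg.Agent.Lib.Helper20_UX_MEETcore

open Module
open Cfsg.Agent.Lib.Helper94_Symp Cfsg.Agent.Lib.Helper94_Herm Cfsg.Agent.Lib.Helper13_PSUSimple
  Cfsg.Agent.Lib.Helper67_Tens2Defs Cfsg.Agent.Lib.Helper67_UT2Defs Cfsg.Agent.Lib.Helper98_ExtDefs
  Cfsg.Agent.Lib.Helper94_FrmDefs Cfsg.Agent.Lib.Helper94_UDDefs Cfsg.Agent.Lib.Helper97_UExtDefs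

variable {F K : Type*} [Field F] [Field K] [Algebra F K] [Finite F] [Finite K]
  {σ : F →+* F} {τ : K →+* K}

/-- the pencil of forms `(u, v) ↦ a T(φ₁ u, φ₂ v) - T(κ φ₂ u, φ₂ v)` -/
noncomputable def pen (h : TauExt σ τ) (φ1 φ2 : K →ₗ[F] K) (a : F) (κ : K) : K →ₗ[F] K →ₛₗ[σ] F :=
  LinearMap.mk₂'ₛₗ (RingHom.id F) σ
    (fun u v => a * trT h (φ1 u) (φ2 v) - trT h (κ * φ2 u) (φ2 v))
    (by intro u u' v; simp only [map_add, LinearMap.add_apply, mul_add]; ring)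
    (by
      intro c u v
      simp only [map_smul, LinearMap.smul_apply, RingHom.id_apply, smul_eq_mul, mul_smul_comm]
      ring)
    (by intro u v v'; simp only [map_add, mul_add]; ring)
    (by
      intro c u v
      simp only [map_smul, map_smulₛₗ, smul_eq_mul]
      ring)

theorem pen_apply (h : TauExt σ τ) (φ1 φ2 : K →ₗ[F] K) (a : F) (κ : K) (u v : K) :
    pen h φ1 φ2 a κ u v = a * trT h (φ1 u) (φ2 v) - trT h (κ * φ2 u) (φ2 v) := rfl

theorem pen_add (h : TauExt σ τ) (φ1 φ2 : K →ₗ[F] K) (a a' : F) (κ κ' : K) :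
    pen h φ1 φ2 (a + a') (κ + κ') = pen h φ1 φ2 a κ + pen h φ1 φ2 a' κ' := by
  ext u v
  simp only [pen_apply, LinearMap.add_apply, add_mul, map_add]
  ring

theorem pen_zero (h : TauExt σ τ) (φ1 φ2 : K →ₗ[F] K) : pen h φ1 φ2 0 0 = 0 := by
  ext u v
  simp only [pen_apply, LinearMap.zero_apply, zero_mul, map_zero, sub_zero]

theorem pen_neg (h : TauExt σ τ) (φ1 φ2 : K →ₗ[F] K) (a : F) (κ : K) :
    pen h φ1 φ2 (-a) (-κ) = -pen h φ1 φ2 a κ := by
  ext u v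
  simp only [pen_apply, LinearMap.neg_apply, neg_mul, map_neg]
  ring

theorem pen_smul (h : TauExt σ τ) (φ1 φ2 : K →ₗ[F] K) (c a : F) (κ : K) :
    c • pen h φ1 φ2 a κ = pen h φ1 φ2 (c * a) (c • κ) := by
  ext u v
  simp only [pen_apply, LinearMap.smul_apply, smul_eq_mul, smul_mul_assoc, map_smul]
  ring

theorem pen_skew (h : TauExt σ τ) (hherm : IsHerm (trT h)) (φ1 φ2 : K →ₗ[F] K)
    (hiso : ∀ u v, trT h (φ1 u) (φ2 v) + trT h (φ2 u) (φ1 v) = 0)
    (a : F) (κ : K) (ha : σ a = a) (hκ : τ κ = -κ) (u v : K) :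
    pen h φ1 φ2 a κ v u = -σ (pen h φ1 φ2 a κ u v) := by
  rw [pen_apply, pen_apply, map_sub σ, map_mul σ, ha]
  have e1 : trT h (φ1 v) (φ2 u) = -σ (trT h (φ1 u) (φ2 v)) := by
    rw [hherm (φ2 u) (φ1 v)]
    have h2 := hiso u v
    have h3 : trT h (φ2 u) (φ1 v) = -trT h (φ1 u) (φ2 v) := by linear_combination h2
    rw [h3, map_neg]
  have e2 : trT h (κ * φ2 v) (φ2 u) = -σ (trT h (κ * φ2 u) (φ2 v)) := by
    rw [hherm (φ2 u) (κ * φ2 v)]
    have h3 : trT h (φ2 u) (κ * φ2 v) = -trT h (κ * φ2 u) (φ2 v) := by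
      simp only [trT_apply, map_mul, hκ]
      rw [← map_neg]
      congr 1
      ring
    rw [h3, map_neg]
  rw [e1, e2]
  ring

/-- the additive group of the forms `pen a κ`, `a ∈ F₀`, `κ ∈ K⁻` -/
def penGrp (h : TauExt σ τ) (φ1 φ2 : K →ₗ[F] K) : AddSubgroup (K →ₗ[F] K →ₛₗ[σ] F) where
  carrier := {s | ∃ (a : F) (κ : K), σ a = a ∧ τ κ = -κ ∧ s = pen h φ1 φ2 a κ}
  add_mem' := by
    rintro _ _ ⟨a, κ, ha, hκ, rfl⟩ ⟨a', κ', ha', hκ', rfl⟩
    exact ⟨a + a', κ + κ', by rw [map_add, ha, ha'], by rw [map_add, hκ, hκ', neg_add],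
      (pen_add h φ1 φ2 a a' κ κ').symm⟩
  zero_mem' := ⟨0, 0, map_zero σ, by rw [map_zero, neg_zero], (pen_zero h φ1 φ2).symm⟩
  neg_mem' := by
    rintro _ ⟨a, κ, ha, hκ, rfl⟩
    exact ⟨-a, -κ, by rw [map_neg, ha], by rw [map_neg, hκ], (pen_neg h φ1 φ2 a κ).symm⟩

theorem mem_penGrp (h : TauExt σ τ) (φ1 φ2 : K →ₗ[F] K) (s : K →ₗ[F] K →ₛₗ[σ] F) :
    s ∈ penGrp h φ1 φ2 ↔ ∃ (a : F) (κ : K), σ a = a ∧ τ κ = -κ ∧ s = pen h φ1 φ2 a κ := Iff.rfl

theorem card_penGrp (h : TauExt σ τ) (φ1 φ2 : K →ₗ[F] K)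
    (hinj : ∀ a κ, σ a = a → τ κ = -κ → pen h φ1 φ2 a κ = 0 → a = 0 ∧ κ = 0) :
    Nat.card (penGrp h φ1 φ2) = Nat.card {c : F // σ c = c} * Nat.card {κ : K // τ κ = -κ} := by
  rw [← Nat.card_prod]
  symm
  apply Nat.card_congr
  refine Equiv.ofBijective
    (fun x => ⟨pen h φ1 φ2 x.1.1 x.2.1, x.1.1, x.2.1, x.1.2, x.2.2, rfl⟩) ⟨?_, ?_⟩
  · rintro ⟨⟨a, ha⟩, ⟨κ, hκ⟩⟩ ⟨⟨a', ha'⟩, ⟨κ', hκ'⟩⟩ he
    have he' : pen h φ1 φ2 a κ = pen h φ1 φ2 a' κ' := congrArg Subtype.val he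
    have h0 : pen h φ1 φ2 (a - a') (κ - κ') = 0 := by
      rw [sub_eq_add_neg, sub_eq_add_neg, pen_add, pen_neg, he']
      exact add_neg_cancel (pen h φ1 φ2 a' κ')
    obtain ⟨h1, h2⟩ := hinj _ _ (by rw [map_sub, ha, ha']) (by rw [map_sub, hκ, hκ']; ring) h0
    have e1 : a = a' := sub_eq_zero.mp h1
    have e2 : κ = κ' := sub_eq_zero.mp h2
    subst e1 e2
    rfl
  · rintro ⟨s, a, κ, ha, hκ, rfl⟩
    exact ⟨⟨⟨a, ha⟩, ⟨κ, hκ⟩⟩, rfl⟩

theorem eq_zero_of_trT (h : TauExt σ τ) (hnd : NondegOn (trT h) ⊤) (z : K)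
    (hz : ∀ w, trT h z w = 0) : z = 0 := by
  by_contra hz0
  obtain ⟨y, -, hy⟩ := hnd z Submodule.mem_top hz0
  exact hy (hz y)

theorem isKinv_Lg_of_klin (g' : (K × K) ≃ₗ[F] (K × K))
    (hk : ∀ (k : K) (x : K × K), g' (k • x) = k • g' x) : IsKinv (Lg g') := by
  intro k x hx
  rw [mem_Lg] at hx ⊢
  obtain ⟨u, rfl⟩ := hx
  refine ⟨k * u, ?_⟩
  rw [← hk]
  congr 1
  ext <;> simp

theorem Lg_one : Lg (1 : (K × K) ≃ₗ[F] (K × K)) = G0 := by
  ext x
  rw [mem_Lg, mem_G0]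
  constructor
  · rintro ⟨u, rfl⟩
    rfl
  · intro hx
    exact ⟨x.1, Prod.ext rfl hx.symm⟩

/-- MEET, with the statement of HSING (for the space `K`) as a hypothesis -/
theorem exists_meet_core (h : TauExt σ τ) (hσ : Invol σ) {M : Subgroup ((K × K) ≃ₗ[F] (K × K))}
    (hM : HypX h M)
    (hsing : ∀ (A : AddSubgroup (K →ₗ[F] K →ₛₗ[σ] F)), (∀ s ∈ A, ∀ x y, s y x = -σ (s x y)) →
      (∀ s ∈ A, ∀ c : F, σ c = c → c • s ∈ A) → Nat.card F ^ finrank F K < Nat.card A ^ 2 →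
      ∃ s ∈ A, s ≠ 0 ∧ ∃ x : K, x ≠ 0 ∧ ∀ y, s x y = 0)
    (g : (K × K) ≃ₗ[F] (K × K)) (hg : g ∈ M) (hnk : ¬ IsKinv (Lg g)) :
    ∃ g' ∈ M, Lg g' ≠ Lg g ∧ Lg g' ⊓ Lg g ≠ ⊥ := by
  have hherm : IsHerm (trT h) := Cfsg.Agent.Lib.Helper10_UX_THERM.trT_isHerm h
  have hnd : NondegOn (trT h) ⊤ := Cfsg.Agent.Lib.Helper10_UX_THERM.trT_nondeg h
  by_cases hcase : (G0 : Submodule F (K × K)) ⊓ Lg g ≠ ⊥
  · refine ⟨1, M.one_mem, ?_, ?_⟩
    · intro he
      apply hnk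
      rw [← he]
      exact isKinv_Lg_of_klin 1 (fun k x => rfl)
    · rw [Lg_one]
      exact hcase
  · rw [not_not] at hcase
    -- the two coordinates of `g (u, 0)`
    obtain ⟨φ1, φ2, hgu⟩ : ∃ φ1 φ2 : K →ₗ[F] K, ∀ u, g (u, 0) = (φ1 u, φ2 u) :=
      ⟨(LinearMap.fst F K K) ∘ₗ g.toLinearMap ∘ₗ (LinearMap.inl F K K),
        (LinearMap.snd F K K) ∘ₗ g.toLinearMap ∘ₗ (LinearMap.inl F K K), fun u => rfl⟩
    have hφ2inj : Function.Injective φ2 := by
      rw [← LinearMap.ker_eq_bot, LinearMap.ker_eq_bot']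
      intro u hu
      have h1 : g (u, 0) ∈ (G0 : Submodule F (K × K)) ⊓ Lg g := by
        refine Submodule.mem_inf.mpr ⟨?_, mem_Lg.mpr ⟨u, rfl⟩⟩
        rw [mem_G0, hgu]
        exact hu
      rw [hcase, Submodule.mem_bot] at h1
      have h2 : ((u, 0) : K × K) = 0 := by
        have := g.injective (h1.trans (map_zero g).symm)
        exact this
      exact congrArg Prod.fst h2
    have hφ2surj : Function.Surjective φ2 := LinearMap.injective_iff_surjective.mp hφ2inj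
    have hiso : ∀ u v, trT h (φ1 u) (φ2 v) + trT h (φ2 u) (φ1 v) = 0 := by
      intro u v
      have h1 := hM.le hg ((u, 0) : K × K) ((v, 0) : K × K)
      rw [hgu, hgu, uf_apply, uf_apply] at h1
      simpa using h1
    -- a form of the pencil vanishing at `x`
    have key : ∀ (a : F) (κ x : K), (∀ v, pen h φ1 φ2 a κ x v = 0) → a • φ1 x = κ * φ2 x := by
      intro a κ x hx
      have h1 : a • φ1 x - κ * φ2 x = 0 := by
        apply eq_zero_of_trT h hnd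
        intro w
        obtain ⟨v, rfl⟩ := hφ2surj w
        have h2 := hx v
        rw [pen_apply] at h2
        rw [map_sub, LinearMap.sub_apply, map_smul, LinearMap.smul_apply, smul_eq_mul]
        exact h2
      exact sub_eq_zero.mp h1
    have hinj : ∀ a κ, σ a = a → τ κ = -κ → pen h φ1 φ2 a κ = 0 → a = 0 ∧ κ = 0 := by
      intro a κ ha hκ h0
      have h1 : ∀ x, a • φ1 x = κ * φ2 x := by
        intro x
        apply key
        intro v
        rw [h0]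
        rfl
      by_cases ha0 : a = 0
      · refine ⟨ha0, ?_⟩
        obtain ⟨x, hx⟩ := hφ2surj 1
        have h2 := h1 x
        rw [ha0, zero_smul, hx, mul_one] at h2
        exact h2.symm
      · exfalso
        apply hnk
        intro k y hy
        rw [mem_Lg] at hy ⊢
        obtain ⟨u, rfl⟩ := hy
        obtain ⟨u', hu'⟩ := hφ2surj (k * φ2 u)
        refine ⟨u', ?_⟩
        have e1 : ∀ x, φ1 x = (a⁻¹ • κ) * φ2 x := by
          intro x
          rw [smul_mul_assoc, ← h1 x, smul_smul, inv_mul_cancel₀ ha0, one_smul]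
        rw [hgu, hgu, e1, e1, hu']
        ext
        · simp only [Prod.smul_mk, smul_eq_mul]
          ring
        · simp only [Prod.smul_mk, smul_eq_mul]
    have hcard : Nat.card F ^ finrank F K < Nat.card (penGrp h φ1 φ2) ^ 2 := by
      rw [card_penGrp h φ1 φ2 hinj, mul_pow, Cfsg.Agent.Lib.Helper73_UX_FLD.card_fixF hσ,
        Cfsg.Agent.Lib.Helper73_UX_FLD.card_skewK h hσ, ← Module.natCard_eq_pow_finrank]
      have h2 : 1 < Nat.card F := Finite.one_lt_card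
      have hK : 0 < Nat.card K := Nat.card_pos
      nlinarith
    obtain ⟨s, hs, hs0, x, hx0, hx⟩ := hsing (penGrp h φ1 φ2)
      (by
        rintro s ⟨a, κ, ha, hκ, rfl⟩ u v
        exact pen_skew h hherm φ1 φ2 hiso a κ ha hκ u v)
      (by
        rintro s ⟨a, κ, ha, hκ, rfl⟩ c hc
        refine ⟨c * a, c • κ, by rw [map_mul, hc, ha], ?_, pen_smul h φ1 φ2 c a κ⟩
        rw [h.map_smul, hc, hκ, smul_neg])
      hcard
    obtain ⟨a, κ, ha, hκ, rfl⟩ := hs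
    have h1 : a • φ1 x = κ * φ2 x := key a κ x hx
    have hφx : φ2 x ≠ 0 := fun e => hx0 (hφ2inj (e.trans (map_zero φ2).symm))
    have ha0 : a ≠ 0 := by
      intro ha0
      rw [ha0, zero_smul] at h1
      have hκ0 : κ = 0 := by
        rcases mul_eq_zero.mp h1.symm with h2 | h2
        · exact h2
        · exact absurd h2 hφx
      apply hs0
      rw [ha0, hκ0]
      exact pen_zero h φ1 φ2
    have hκ' : τ (a⁻¹ • κ) = -(a⁻¹ • κ) := by
      rw [h.map_smul, map_inv₀, ha, hκ, smul_neg]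
    have e1 : φ1 x = (a⁻¹ • κ) * φ2 x := by
      rw [smul_mul_assoc, ← h1, smul_smul, inv_mul_cancel₀ ha0, one_smul]
    obtain ⟨ζ, hζ0, hζ⟩ := exists_skew (h.toInvol hσ)
    have hwmem : wK (Units.mk0 ζ hζ0) ∈ M :=
      Cfsg.Agent.Lib.Helper10_UX_BASIC.wK_mem h hM (Units.mk0 ζ hζ0) (by rw [Units.val_mk0]; exact hζ)
    have hkinv : IsKinv (Lg (ux (mK (a⁻¹ • κ) : K →ₗ[F] K) * wK (Units.mk0 ζ hζ0))) := by
      apply isKinv_Lg_of_klin
      intro k y
      simp only [LinearEquiv.mul_apply, ux_apply, wK_apply, mK_apply, Prod.smul_mk, smul_eq_mul,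
        Prod.smul_fst, Prod.smul_snd]
      ext
      · simp only
        ring
      · simp only
        ring
    refine ⟨ux (mK (a⁻¹ • κ) : K →ₗ[F] K) * wK (Units.mk0 ζ hζ0),
      M.mul_mem (hM.ux_mem _ hκ') hwmem, ?_, ?_⟩
    · intro he
      apply hnk
      rw [← he]
      exact hkinv
    · rw [Submodule.ne_bot_iff]
      refine ⟨g (x, 0), Submodule.mem_inf.mpr ⟨?_, mem_Lg.mpr ⟨x, rfl⟩⟩, ?_⟩
      · rw [mem_Lg]
        refine ⟨-(ζ * φ2 x), ?_⟩
        rw [hgu, e1]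
        simp only [LinearEquiv.mul_apply, ux_apply, wK_apply, mK_apply, Units.val_mk0,
          Units.val_inv_eq_inv_val]
        ext
        · simp only
          field_simp
          ring
        · simp only
          field_simp
      · intro h0
        have := g.injective (h0.trans (map_zero g).symm)
        exact hx0 (congrArg Prod.fst this)

end Cfsg.Agent.Lib.Helper20_UX_MEETcore
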