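import Mathlib
import Cfsg.Agent.Lib.Helper97_UExtDefs
import Cfsg.Agent.Lib.Helper94_UDDefs
import Cfsg.Agent.Lib.Helper98_ExtMult
import Cfsg.Agent.Lib.Helper20_UX_MEETcore
import Cfsg.Agent.Lib.Helper12_UX_HSING

set_option autoImplicit false
set_option linter.unusedSectionVars false
set_option linter.unusedVariables false

/-!
UEXT2 market (architect helper97), package MEET (helper20).  The proof is in `Helper20_UX_MEETcore`; the
Chevalley–Warning input is helper12's HSING.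
-/

namespace Cfsg.Agent.Lib.Helper20_UX_MEET

open Module
open Cfsg.Agent.Lib.Helper94_Symp Cfsg.Agent.Lib.Helper94_Herm Cfsg.Agent.Lib.Helper13_PSUSimple
  Cfsg.Agent.Lib.Helper67_Tens2Defs Cfsg.Agent.Lib.Helper67_UT2Defs Cfsg.Agent.Lib.Helper98_ExtDefs
  Cfsg.Agent.Lib.Helper94_FrmDefs Cfsg.Agent.Lib.Helper94_UDDefs Cfsg.Agent.Lib.Helper97_UExtDefs

variable {F K : Type*} [Field F] [Field K] [Algebra F K] [Finite F] [Finite K]
  {σ : F →+* F} {τ : K →+* K}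

variable {M : Subgroup ((K × K) ≃ₗ[F] (K × K))}

/-- PKG MEET (L; uses HSING, BASIC, THERM, FLD) -/
theorem exists_meet (h : TauExt σ τ) (hσ : Invol σ) (hM : HypX h M)
    (g : (K × K) ≃ₗ[F] (K × K)) (hg : g ∈ M) (hnk : ¬ IsKinv (Lg g)) :
    ∃ g' ∈ M, Lg g' ≠ Lg g ∧ Lg g' ⊓ Lg g ≠ ⊥ :=
  Cfsg.Agent.Lib.Helper20_UX_MEETcore.exists_meet_core h hσ hM
    (fun A hsk hsm hcard => Cfsg.Agent.Lib.Helper12_UX_HSING.hsing hσ A hsk hsm hcard) g hg hnk

end Cfsg.Agent.Lib.Helper20_UX_MEET
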