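import Mathlib

/-!
# Sylow subgroups of symmetric and alternating groups are generated by elements of order `p`

(helper67) A recursive model of a Sylow `p`-subgroup of `Perm (Fin n)`: with `k = n / p`,
`r = n % p`, inside `Perm ((Fin k × ZMod p) ⊕ Fin r)` take the base group `(ZMod p)^k`
(translations in the second coordinate) together with a Sylow `p`-subgroup of `Perm (Fin k)`
permuting the blocks.  Consequences: every Sylow `p`-subgroup of `Perm (Fin n)` and of
`alternatingGroup (Fin n)` is generated by elements `x` with `x ^ p = 1`, hence has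
elementary abelian abelianization.
-/

set_option autoImplicit false

namespace Cfsg.Agent.Lib.Helper67_SymSylow

section GenPow

variable {G G' : Type*} [Group G] [Group G']

/-- The subgroup `H` is generated by its elements `x` with `x ^ p = 1`. -/
def GenPowSub (p : ℕ) (H : Subgroup G) : Prop :=
  Subgroup.closure {x : G | x ∈ H ∧ x ^ p = 1} = H

theorem genPowSub_of_forall (p : ℕ) (H : Subgroup G) (h : ∀ x ∈ H, x ^ p = 1) :
    GenPowSub p H := by
  unfold GenPowSub
  apply le_antisymm
  · rw [Subgroup.closure_le]
    intro x hx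
    exact hx.1
  · intro x hx
    exact Subgroup.subset_closure ⟨hx, h x hx⟩

theorem GenPowSub.sup {p : ℕ} {H K : Subgroup G} (hH : GenPowSub p H) (hK : GenPowSub p K) :
    GenPowSub p (H ⊔ K) := by
  unfold GenPowSub at *
  apply le_antisymm
  · rw [Subgroup.closure_le]
    intro x hx
    exact hx.1
  · apply sup_le
    · conv_lhs => rw [← hH]
      apply Subgroup.closure_mono
      intro x hx
      exact ⟨le_sup_left (a := H) (b := K) hx.1, hx.2⟩
    · conv_lhs => rw [← hK]
      apply Subgroup.closure_mono
      intro x hx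
      exact ⟨le_sup_right (a := H) (b := K) hx.1, hx.2⟩

theorem GenPowSub.map {p : ℕ} {H : Subgroup G} (hH : GenPowSub p H) (f : G →* G') :
    GenPowSub p (H.map f) := by
  unfold GenPowSub at *
  apply le_antisymm
  · rw [Subgroup.closure_le]
    intro x hx
    exact hx.1
  · conv_lhs => rw [← hH]
    rw [MonoidHom.map_closure]
    apply Subgroup.closure_mono
    rintro _ ⟨x, hx, rfl⟩
    refine ⟨Subgroup.mem_map_of_mem f hx.1, ?_⟩
    rw [← map_pow, hx.2, map_one]

/-- Pull back along an injective homomorphism. -/
theorem GenPowSub.of_map_injective {p : ℕ} {H : Subgroup G} (f : G →* G')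
    (hf : Function.Injective f) (hH : GenPowSub p (H.map f)) : GenPowSub p H := by
  unfold GenPowSub at *
  apply Subgroup.map_injective hf
  rw [MonoidHom.map_closure]
  conv_rhs => rw [← hH]
  congr 1
  ext y
  constructor
  · rintro ⟨x, hx, rfl⟩
    refine ⟨Subgroup.mem_map_of_mem f hx.1, ?_⟩
    rw [← map_pow, hx.2, map_one]
  · rintro ⟨⟨x, hx, rfl⟩, hy⟩
    refine ⟨x, ⟨hx, ?_⟩, rfl⟩
    apply hf
    rw [map_pow, hy, map_one]

/-- If `H` is generated by elements with `x ^ p = 1`, then `x ^ p ∈ H'` for every `x ∈ H`. -/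
theorem GenPowSub.pow_mem_commutator {p : ℕ} {H : Subgroup G} (hH : GenPowSub p H)
    (x : H) : x ^ p ∈ commutator H := by
  -- the subgroup of `H` of elements whose `p`-th power is in the commutator subgroup
  let S : Subgroup H :=
    ((powMonoidHom p : Abelianization H →* Abelianization H).ker).comap Abelianization.of
  have hS : ∀ y : H, y ∈ S ↔ y ^ p ∈ commutator H := by
    intro y
    simp only [S, Subgroup.mem_comap, MonoidHom.mem_ker, powMonoidHom_apply]
    rw [← map_pow, ← MonoidHom.mem_ker, Abelianization.ker_of]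
  rw [← hS]
  -- `S.map H.subtype` contains the generators
  have h1 : H ≤ S.map H.subtype := by
    conv_lhs => rw [← hH]
    rw [Subgroup.closure_le]
    rintro y ⟨hyH, hy⟩
    refine ⟨⟨y, hyH⟩, ?_, rfl⟩
    rw [SetLike.mem_coe, hS]
    have : (⟨y, hyH⟩ : H) ^ p = 1 := by
      apply Subtype.ext
      simpa using hy
    rw [this]
    exact one_mem _
  obtain ⟨z, hz, hzx⟩ := h1 x.2
  have : z = x := Subtype.ext hzx
  rwa [← this]

theorem GenPowSub.of_mulEquiv_image {p : ℕ} {H : Subgroup G} {K : Subgroup G'} (e : H ≃* K)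
    (hH : GenPowSub p H) : GenPowSub p K := by
  -- transport through the top subgroups of `H` and `K`
  have h1 : GenPowSub p (⊤ : Subgroup H) := by
    apply GenPowSub.of_map_injective H.subtype H.subtype_injective
    rw [← MonoidHom.range_eq_map, Subgroup.range_subtype]
    exact hH
  have h2 : GenPowSub p ((⊤ : Subgroup H).map (K.subtype.comp e.toMonoidHom)) := h1.map _
  have h3 : (⊤ : Subgroup H).map (K.subtype.comp e.toMonoidHom) = K := by
    rw [← MonoidHom.range_eq_map, MonoidHom.range_comp]
    have : e.toMonoidHom.range = ⊤ := MonoidHom.range_eq_top.mpr e.surjective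
    rw [this, ← MonoidHom.range_eq_map, Subgroup.range_subtype]
  rwa [h3] at h2

end GenPow

set_option linter.unusedSectionVars false

section Model

variable (p : ℕ) (α : Type)

/-- translations in the fibres -/
def baseHom : Multiplicative (α → ZMod p) →* Equiv.Perm (α × ZMod p) where
  toFun v := Equiv.prodCongrRight fun i => Equiv.addRight (Multiplicative.toAdd v i)
  map_one' := by
    ext ⟨i, a⟩ <;> simp
  map_mul' v w := by
    ext ⟨i, a⟩ <;> simp [add_comm, add_left_comm]

/-- permuting the blocks -/
def topHom : Equiv.Perm α →* Equiv.Perm (α × ZMod p) where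
  toFun σ := Equiv.prodCongrLeft fun _ => σ
  map_one' := by
    ext ⟨i, a⟩ <;> simp
  map_mul' v w := by
    ext ⟨i, a⟩ <;> simp

@[simp] theorem baseHom_apply (v : Multiplicative (α → ZMod p)) (i : α) (a : ZMod p) :
    baseHom p α v (i, a) = (i, a + Multiplicative.toAdd v i) := rfl

@[simp] theorem topHom_apply (σ : Equiv.Perm α) (i : α) (a : ZMod p) :
    topHom p α σ (i, a) = (σ i, a) := rfl

theorem baseHom_injective : Function.Injective (baseHom p α) := by
  intro v w h
  apply Multiplicative.toAdd.injective
  funext i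
  have := congrArg (fun f => (f (i, 0)).2) h
  simpa using this

theorem topHom_injective : Function.Injective (topHom p α) := by
  intro v w h
  ext i
  have := congrArg (fun f => (f (i, 0)).1) h
  simpa using this

theorem baseHom_pow (v : Multiplicative (α → ZMod p)) : (baseHom p α v) ^ p = 1 := by
  rw [← map_pow]
  have : v ^ p = 1 := by
    apply Multiplicative.toAdd.injective
    funext i
    simp
  rw [this, map_one]

theorem top_conj_base (σ : Equiv.Perm α) (v : Multiplicative (α → ZMod p)) :
    topHom p α σ * baseHom p α v * (topHom p α σ)⁻¹ =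
      baseHom p α (Multiplicative.ofAdd fun i => Multiplicative.toAdd v (σ⁻¹ i)) := by
  ext ⟨i, a⟩
  · simp [← map_inv]
  · simp [← map_inv]

/-- the model subgroup `(ZMod p)^α ⋊ P` -/
def wreathSub (V : Subgroup (Multiplicative (α → ZMod p))) (P : Subgroup (Equiv.Perm α)) :
    Subgroup (Equiv.Perm (α × ZMod p)) :=
  V.map (baseHom p α) ⊔ P.map (topHom p α)

theorem wreathSub_mono {V V' : Subgroup (Multiplicative (α → ZMod p))}
    {P P' : Subgroup (Equiv.Perm α)} (hV : V ≤ V') (hP : P ≤ P') :
    wreathSub p α V P ≤ wreathSub p α V' P' :=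
  sup_le_sup (Subgroup.map_mono hV) (Subgroup.map_mono hP)

variable [Fact p.Prime] [Finite α]

theorem isPGroup_wreathSub_top (P : Subgroup (Equiv.Perm α)) (hP : IsPGroup p P) :
    IsPGroup p (wreathSub p α ⊤ P) := by
  unfold wreathSub
  apply IsPGroup.to_sup_of_normal_left'
  · rintro ⟨g, v, -, rfl⟩
    refine ⟨1, ?_⟩
    apply Subtype.ext
    simp [baseHom_pow]
  · exact hP.map _
  · rintro _ ⟨σ, -, rfl⟩
    apply Subgroup.mem_normalizer_fintype
    rintro _ ⟨v, -, rfl⟩
    rw [top_conj_base]
    exact ⟨_, Subgroup.mem_top _, rfl⟩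

theorem isPGroup_wreathSub (V : Subgroup (Multiplicative (α → ZMod p)))
    (P : Subgroup (Equiv.Perm α)) (hP : IsPGroup p P) :
    IsPGroup p (wreathSub p α V P) :=
  (isPGroup_wreathSub_top p α P hP).to_le (wreathSub_mono p α le_top le_rfl)

theorem card_wreathSub_ge (V : Subgroup (Multiplicative (α → ZMod p)))
    (P : Subgroup (Equiv.Perm α)) :
    Nat.card V * Nat.card P ≤ Nat.card (wreathSub p α V P) := by
  classical
  let φ : V × P → wreathSub p α V P := fun x =>
    ⟨baseHom p α x.1 * topHom p α x.2,
      mul_mem (le_sup_left (a := V.map (baseHom p α)) (b := P.map (topHom p α))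
          (Subgroup.mem_map_of_mem _ x.1.2))
        (le_sup_right (a := V.map (baseHom p α)) (b := P.map (topHom p α))
          (Subgroup.mem_map_of_mem _ x.2.2))⟩
  have hφ : Function.Injective φ := by
    rintro ⟨⟨v, hv⟩, ⟨σ, hσ⟩⟩ ⟨⟨w, hw⟩, ⟨τ, hτ⟩⟩ h
    have h1 : baseHom p α v * topHom p α σ = baseHom p α w * topHom p α τ := by
      simpa [φ] using congrArg Subtype.val h
    have h2 : σ = τ := by
      ext i
      have := congrArg (fun f => (f (i, 0)).1) h1
      simpa using this
    subst h2
    have h3 : v = w := by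
      apply Multiplicative.toAdd.injective
      funext i
      have := congrArg (fun f => (f (σ⁻¹ i, 0)).2) h1
      simpa using this
    subst h3
    rfl
  have := Nat.card_le_card_of_injective φ hφ
  rwa [Nat.card_prod] at this

theorem genPowSub_wreathSub (V : Subgroup (Multiplicative (α → ZMod p)))
    (P : Subgroup (Equiv.Perm α)) (hP : GenPowSub p P) : GenPowSub p (wreathSub p α V P) := by
  unfold wreathSub
  apply GenPowSub.sup
  · apply genPowSub_of_forall
    rintro _ ⟨v, -, rfl⟩
    exact baseHom_pow p α v
  · exact hP.map _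

end Model

/-- transfer from one large `p`-subgroup to all Sylow `p`-subgroups -/
theorem genPowSub_sylow_of_large {G : Type*} [Group G] [Finite G] (p : ℕ) [Fact p.Prime]
    (H : Subgroup G) (hH : IsPGroup p H)
    (hcard : p ^ (Nat.card G).factorization p ≤ Nat.card H) (hgen : GenPowSub p H)
    (P : Sylow p G) : GenPowSub p (P : Subgroup G) := by
  obtain ⟨Q, hQ⟩ := hH.exists_le_sylow
  have hHQ : H = Q := by
    apply Subgroup.eq_of_le_of_card_ge hQ
    rw [Q.card_eq_multiplicity]
    exact hcard
  obtain ⟨g, rfl⟩ := MulAction.exists_smul_eq G Q P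
  rw [Sylow.coe_subgroup_smul, Subgroup.pointwise_smul_def, ← hHQ]
  exact hgen.map _


section Main

theorem val_fact (p : ℕ) [Fact p.Prime] (n : ℕ) :
    padicValNat p n.factorial = padicValNat p (n / p).factorial + n / p := by
  rw [← padicValNat_mul_div_factorial n, padicValNat_factorial_mul]

/-- the block-inclusion hom -/
def inlPerm (β γ : Type) : Equiv.Perm β →* Equiv.Perm (β ⊕ γ) :=
  (Equiv.Perm.sumCongrHom β γ).comp (MonoidHom.inl _ _)

theorem inlPerm_injective (β γ : Type) : Function.Injective (inlPerm β γ) := by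
  intro a b h
  have := Equiv.Perm.sumCongrHom_injective h
  simpa using this

variable (p : ℕ) [Fact p.Prime]

/-- the index type of the model -/
abbrev ModelType (n : ℕ) : Type := (Fin (n / p) × ZMod p) ⊕ Fin (n % p)

theorem card_modelType (n : ℕ) : Fintype.card (ModelType p n) = n := by
  simp only [ModelType, Fintype.card_sum, Fintype.card_prod, Fintype.card_fin, ZMod.card]
  rw [mul_comm]
  exact Nat.div_add_mod n p

/-- the model subgroup inside `Perm (Fin n)` -/
noncomputable def modelSub (n : ℕ) (V : Subgroup (Multiplicative (Fin (n / p) → ZMod p)))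
    (P : Subgroup (Equiv.Perm (Fin (n / p)))) : Subgroup (Equiv.Perm (Fin n)) :=
  ((wreathSub p (Fin (n / p)) V P).map (inlPerm _ (Fin (n % p)))).map
    (Fintype.equivFinOfCardEq (card_modelType p n)).permCongrHom.toMonoidHom

theorem card_modelSub (n : ℕ) (V : Subgroup (Multiplicative (Fin (n / p) → ZMod p)))
    (P : Subgroup (Equiv.Perm (Fin (n / p)))) :
    Nat.card (modelSub p n V P) = Nat.card (wreathSub p (Fin (n / p)) V P) := by
  unfold modelSub
  rw [Subgroup.card_map_of_injective (MulEquiv.injective _),
    Subgroup.card_map_of_injective (inlPerm_injective _ _)]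

theorem isPGroup_modelSub (n : ℕ) (V : Subgroup (Multiplicative (Fin (n / p) → ZMod p)))
    (P : Subgroup (Equiv.Perm (Fin (n / p)))) (hP : IsPGroup p P) :
    IsPGroup p (modelSub p n V P) :=
  ((isPGroup_wreathSub p _ V P hP).map _).map _

theorem genPowSub_modelSub (n : ℕ) (V : Subgroup (Multiplicative (Fin (n / p) → ZMod p)))
    (P : Subgroup (Equiv.Perm (Fin (n / p)))) (hP : GenPowSub p P) :
    GenPowSub p (modelSub p n V P) :=
  ((genPowSub_wreathSub p _ V P hP).map _).map _

theorem card_sylow_perm (n : ℕ) (P : Sylow p (Equiv.Perm (Fin n))) :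
    Nat.card P = p ^ padicValNat p n.factorial := by
  rw [P.card_eq_multiplicity, Nat.card_perm, Nat.card_fin, Nat.factorization_def _ Fact.out]

theorem card_top_fun (k : ℕ) :
    Nat.card (⊤ : Subgroup (Multiplicative (Fin k → ZMod p))) = p ^ k := by
  rw [Subgroup.card_top, Nat.card_eq_fintype_card]
  simp

/-- Every Sylow `p`-subgroup of `Perm (Fin n)` is generated by elements with `x ^ p = 1`. -/
theorem genPowSub_sylow_perm :
    ∀ (n : ℕ) (P : Sylow p (Equiv.Perm (Fin n))), GenPowSub p (P : Subgroup (Equiv.Perm (Fin n))) := by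
  intro n
  induction n using Nat.strong_induction_on with
  | _ n ih =>
    intro P
    rcases Nat.eq_zero_or_pos n with hn | hn
    · subst hn
      apply genPowSub_of_forall
      intro x _
      have : x = 1 := Subsingleton.elim _ _
      rw [this, one_pow]
    · have hk : n / p < n := Nat.div_lt_self hn (Fact.out : p.Prime).one_lt
      let Pk : Sylow p (Equiv.Perm (Fin (n / p))) := default
      have hPk := ih (n / p) hk Pk
      apply genPowSub_sylow_of_large p (modelSub p n ⊤ Pk) (isPGroup_modelSub p n ⊤ Pk Pk.isPGroup')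
        ?_ (genPowSub_modelSub p n ⊤ Pk hPk)
      have h1 := card_wreathSub_ge p (Fin (n / p)) ⊤ (Pk : Subgroup (Equiv.Perm (Fin (n / p))))
      rw [card_top_fun, card_sylow_perm] at h1
      rw [card_modelSub, Nat.card_perm, Nat.card_fin, Nat.factorization_def _ Fact.out,
        val_fact p n, pow_add, mul_comm]
      exact h1

end Main

section Alt

/-- sign of a block permutation over `ZMod 2` is trivial -/
theorem sign_topHom_two (α : Type) [Fintype α] [DecidableEq α] (σ : Equiv.Perm α) :
    Equiv.Perm.sign (topHom 2 α σ) = 1 := by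
  have : topHom 2 α σ = Equiv.prodCongrLeft fun _ : ZMod 2 => σ := rfl
  rw [this, Equiv.Perm.sign_prodCongrLeft]
  simp [ZMod.card, Int.units_sq]

/-- the even-weight subgroup: kernel of `sign ∘ baseHom` -/
noncomputable def evenSub (α : Type) [Fintype α] [DecidableEq α] :
    Subgroup (Multiplicative (α → ZMod 2)) :=
  (Equiv.Perm.sign.comp (baseHom 2 α)).ker

theorem card_evenSub_ge (k : ℕ) : 2 ^ k ≤ 2 * Nat.card (evenSub (Fin k)) := by
  have h1 := Subgroup.card_mul_index (evenSub (Fin k))
  have h2 : (evenSub (Fin k)).index ≤ 2 := by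
    unfold evenSub
    rw [Subgroup.index_ker]
    calc Nat.card (Equiv.Perm.sign.comp (baseHom 2 (Fin k))).range ≤ Nat.card ℤˣ :=
          Subgroup.card_le_card_group _
      _ = 2 := by rw [Nat.card_eq_fintype_card, Fintype.card_units_int]
  have h3 : Nat.card (Multiplicative (Fin k → ZMod 2)) = 2 ^ k := by
    rw [← Subgroup.card_top, card_top_fun]
  rw [h3] at h1
  calc 2 ^ k = Nat.card (evenSub (Fin k)) * (evenSub (Fin k)).index := h1.symm
    _ ≤ Nat.card (evenSub (Fin k)) * 2 := Nat.mul_le_mul_left _ h2
    _ = 2 * Nat.card (evenSub (Fin k)) := mul_comm _ _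

theorem wreathSub_even_le (α : Type) [Fintype α] [DecidableEq α] (P : Subgroup (Equiv.Perm α)) :
    wreathSub 2 α (evenSub α) P ≤ alternatingGroup (α × ZMod 2) := by
  unfold wreathSub
  apply sup_le
  · rintro _ ⟨v, hv, rfl⟩
    rw [Equiv.Perm.mem_alternatingGroup]
    exact hv
  · rintro _ ⟨σ, -, rfl⟩
    rw [Equiv.Perm.mem_alternatingGroup]
    exact sign_topHom_two α σ

theorem modelSub_even_le (n : ℕ) (P : Subgroup (Equiv.Perm (Fin (n / 2)))) :
    modelSub 2 n (evenSub _) P ≤ alternatingGroup (Fin n) := by
  unfold modelSub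
  rintro _ ⟨_, ⟨y, hy, rfl⟩, rfl⟩
  have hy' := wreathSub_even_le _ P hy
  rw [Equiv.Perm.mem_alternatingGroup] at hy' ⊢
  simp only [MulEquiv.coe_toMonoidHom, Equiv.permCongrHom_coe, Equiv.Perm.sign_permCongr]
  unfold inlPerm
  simp [hy']

variable (p : ℕ) [Fact p.Prime]

/-- Every Sylow `p`-subgroup of `alternatingGroup (Fin n)` is generated by elements with
`x ^ p = 1`. -/
theorem genPowSub_sylow_alt (n : ℕ) (Q : Sylow p (alternatingGroup (Fin n))) :
    GenPowSub p (Q : Subgroup (alternatingGroup (Fin n))) := by
  rcases Nat.lt_or_ge n 2 with hn | hn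
  · -- trivial group
    have : Subsingleton (Equiv.Perm (Fin n)) := by
      interval_cases n
      · infer_instance
      · infer_instance
    apply genPowSub_of_forall
    intro x _
    have : x = 1 := Subsingleton.elim _ _
    rw [this, one_pow]
  have : Nontrivial (Fin n) := Fin.nontrivial_iff_two_le.mpr hn
  have hcardA : 2 * Nat.card (alternatingGroup (Fin n)) = n.factorial := by
    rw [two_mul_nat_card_alternatingGroup, Nat.card_perm, Nat.card_fin]
  by_cases hp2 : p = 2
  · subst hp2
    let Pk : Sylow 2 (Equiv.Perm (Fin (n / 2))) := default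
    have hPk := genPowSub_sylow_perm 2 (n / 2) Pk
    set H' := modelSub 2 n (evenSub _) Pk with hH'
    have hle : H' ≤ alternatingGroup (Fin n) := modelSub_even_le n Pk
    have hmap : (H'.subgroupOf (alternatingGroup (Fin n))).map (alternatingGroup (Fin n)).subtype
        = H' := Subgroup.map_subgroupOf_eq_of_le hle
    have hgen : GenPowSub 2 (H'.subgroupOf (alternatingGroup (Fin n))) := by
      apply GenPowSub.of_map_injective _ (alternatingGroup (Fin n)).subtype_injective
      rw [hmap]
      exact genPowSub_modelSub 2 n _ Pk hPk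
    have hpg : IsPGroup 2 (H'.subgroupOf (alternatingGroup (Fin n))) :=
      (isPGroup_modelSub 2 n _ Pk Pk.isPGroup').comap_of_injective _
        (alternatingGroup (Fin n)).subtype_injective
    apply genPowSub_sylow_of_large 2 _ hpg ?_ hgen
    have hc1 : Nat.card (H'.subgroupOf (alternatingGroup (Fin n))) = Nat.card H' :=
      Nat.card_congr (Subgroup.subgroupOfEquivOfLe hle).toEquiv
    rw [hc1, hH', card_modelSub]
    have h1 := card_wreathSub_ge 2 (Fin (n / 2)) (evenSub _) (Pk : Subgroup (Equiv.Perm (Fin (n / 2))))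
    rw [card_sylow_perm] at h1
    have h2 := card_evenSub_ge (n / 2)
    -- 2-part of |A_n|
    have h3 : (Nat.card (alternatingGroup (Fin n))).factorization 2 + 1
        = padicValNat 2 (n / 2).factorial + n / 2 := by
      rw [← val_fact 2 n, ← Nat.factorization_def _ Nat.prime_two, ← hcardA,
        Nat.factorization_mul two_ne_zero Nat.card_pos.ne']
      simp [Nat.prime_two.factorization_self, add_comm]
    have h4 : 2 * 2 ^ (Nat.card (alternatingGroup (Fin n))).factorization 2
        = 2 ^ padicValNat 2 (n / 2).factorial * 2 ^ (n / 2) := by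
      rw [← pow_succ', h3, pow_add]
    have h5 : 2 * 2 ^ (Nat.card (alternatingGroup (Fin n))).factorization 2 ≤
        2 * Nat.card (wreathSub 2 (Fin (n / 2)) (evenSub _) (Pk : Subgroup _)) := by
      rw [h4]
      calc 2 ^ padicValNat 2 (n / 2).factorial * 2 ^ (n / 2)
          ≤ 2 ^ padicValNat 2 (n / 2).factorial * (2 * Nat.card (evenSub (Fin (n / 2)))) :=
            Nat.mul_le_mul_left _ h2
        _ = 2 * (Nat.card (evenSub (Fin (n / 2))) * 2 ^ padicValNat 2 (n / 2).factorial) := by ring
        _ ≤ _ := Nat.mul_le_mul_left _ h1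
    exact Nat.le_of_mul_le_mul_left h5 two_pos
  · -- odd `p`: a Sylow subgroup of `S_n` containing `Q` lies in `A_n`
    obtain ⟨P, hP⟩ := (Q.isPGroup'.map (alternatingGroup (Fin n)).subtype).exists_le_sylow
    have hPA : (P : Subgroup (Equiv.Perm (Fin n))) ≤ alternatingGroup (Fin n) := by
      intro x hx
      rw [Equiv.Perm.mem_alternatingGroup]
      obtain ⟨k, hk⟩ := P.isPGroup' ⟨x, hx⟩
      have hk' : x ^ p ^ k = 1 := by simpa using congrArg Subtype.val hk
      have h1 : (Equiv.Perm.sign x) ^ p ^ k = 1 := by rw [← map_pow, hk', map_one]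
      have hodd : Odd (p ^ k) := by
        apply Odd.pow
        exact (Fact.out : p.Prime).odd_of_ne_two hp2
      rcases Int.units_eq_one_or (Equiv.Perm.sign x) with h | h
      · exact h
      · rw [h, hodd.neg_one_pow] at h1
        exact absurd h1 (by decide)
    have hQP : (P : Subgroup (Equiv.Perm (Fin n))).subgroupOf (alternatingGroup (Fin n)) = Q := by
      apply Q.is_maximal'
      · exact P.isPGroup'.comap_of_injective _ (alternatingGroup (Fin n)).subtype_injective
      · intro x hx
        rw [Subgroup.mem_subgroupOf]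
        exact hP (Subgroup.mem_map_of_mem _ hx)
    apply GenPowSub.of_map_injective _ (alternatingGroup (Fin n)).subtype_injective
    rw [← hQP, Subgroup.map_subgroupOf_eq_of_le hPA]
    exact genPowSub_sylow_perm p n P

end Alt

end Cfsg.Agent.Lib.Helper67_SymSylow
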