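import Mathlib
import Cfsg.Agent.Lib.Helper67_SymSylow

/-!
# S5165 (fusion system of the alternating groups): the wreath model (helper21)

Points of the model: `Pt p ℬ r = (ℬ × ZMod p) ⊕ Fin r` (`ℬ` = the blocks, `ZMod p` = the fibre
coordinate, `Fin r` = the left-over points, `r ≤ 1` in all applications).

* `tr f`  : translation `(β, y) ↦ (β, y + f β)`; the base group `BB = range tr ≅ (ZMod p)^ℬ`;
* `lf σ`  : block permutation `(β, y) ↦ (σ β, y)`;
* `sc t`  : fibre scalings `(β, y) ↦ (β, t β * y)`;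
* for an embedding `ι : ZMod p ↪ ℬ` (a "`p²`-block"): `sq ι : ZMod p × ZMod p ↪ Pt`,
  `(x, y) ↦ inl (ι y, x)` (`x` = fibre coordinate, `y` = block index), and
  `bp ι : Perm (ZMod p × ZMod p) →* Perm Pt` (act on the `p²`-block, fix everything else);
* explicit permutations of `ZMod p × ZMod p`: `shX a`, `shY b` (translations), `shear a`
  (`(x,y) ↦ (x + a y, y)`), `shearL b` (`(x,y) ↦ (x, y + b x)`), `dg c` (`(x,y) ↦ (c x, c⁻¹ y)`),
  `rot3` (`(x,y) ↦ (-y, x - y)`, of order 3);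
* `tau ι = bp ι (shY 1)`, `hc ι c = bp ι (dg c)`;
* `QQ ι = {tr f : f constant on range ι} ⊔ ⟨tau ι⟩` : regular `(ZMod p)²` on the `p²`-block, full base
  group on the other blocks.
-/

set_option autoImplicit false
set_option linter.unusedSectionVars false

namespace Cfsg.Agent.Lib.Helper21_AltFusDefs

open Equiv Cfsg.Agent.Lib.Helper67_SymSylow

/-- `x` normalizes `K` (one-sided form, enough in a finite group) -/
def Nz {A : Type*} [Group A] (K : Subgroup A) (x : A) : Prop := ∀ k ∈ K, x * k * x⁻¹ ∈ K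

/-- `x` centralizes `K` -/
def Cz {A : Type*} [Group A] (K : Subgroup A) (x : A) : Prop := ∀ k ∈ K, x * k = k * x

section model

variable (p : ℕ) (ℬ : Type) (r : ℕ)

/-- points of the model -/
abbrev Pt : Type := (ℬ × ZMod p) ⊕ Fin r

/-- fibre scalings on `ℬ × ZMod p` -/
def scHom : (ℬ → (ZMod p)ˣ) →* Perm (ℬ × ZMod p) where
  toFun t := Equiv.prodCongrRight fun β => Units.mulLeft (t β)
  map_one' := by
    ext ⟨β, y⟩ <;> simp
  map_mul' s t := by
    ext ⟨β, y⟩ <;> simp [mul_assoc]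

@[simp] theorem scHom_apply (t : ℬ → (ZMod p)ˣ) (β : ℬ) (y : ZMod p) :
    scHom p ℬ t (β, y) = (β, (t β : ZMod p) * y) := rfl

/-- translations in the fibres: `(β, y) ↦ (β, y + f β)` -/
def tr : Multiplicative (ℬ → ZMod p) →* Perm (Pt p ℬ r) :=
  (inlPerm _ _).comp (baseHom p ℬ)

/-- block permutations: `(β, y) ↦ (σ β, y)` -/
def lf : Perm ℬ →* Perm (Pt p ℬ r) :=
  (inlPerm _ _).comp (topHom p ℬ)

/-- fibre scalings: `(β, y) ↦ (β, t β * y)` -/
def sc : (ℬ → (ZMod p)ˣ) →* Perm (Pt p ℬ r) :=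
  (inlPerm _ _).comp (scHom p ℬ)

@[simp] theorem tr_inl (f : Multiplicative (ℬ → ZMod p)) (β : ℬ) (y : ZMod p) :
    tr p ℬ r f (Sum.inl (β, y)) = Sum.inl (β, y + Multiplicative.toAdd f β) := rfl

@[simp] theorem tr_inr (f : Multiplicative (ℬ → ZMod p)) (i : Fin r) :
    tr p ℬ r f (Sum.inr i) = Sum.inr i := rfl

@[simp] theorem lf_inl (σ : Perm ℬ) (β : ℬ) (y : ZMod p) :
    lf p ℬ r σ (Sum.inl (β, y)) = Sum.inl (σ β, y) := rfl

@[simp] theorem lf_inr (σ : Perm ℬ) (i : Fin r) :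
    lf p ℬ r σ (Sum.inr i) = Sum.inr i := rfl

@[simp] theorem sc_inl (t : ℬ → (ZMod p)ˣ) (β : ℬ) (y : ZMod p) :
    sc p ℬ r t (Sum.inl (β, y)) = Sum.inl (β, (t β : ZMod p) * y) := rfl

@[simp] theorem sc_inr (t : ℬ → (ZMod p)ˣ) (i : Fin r) :
    sc p ℬ r t (Sum.inr i) = Sum.inr i := rfl

/-- the base group `(ZMod p)^ℬ` -/
def BB : Subgroup (Perm (Pt p ℬ r)) := (tr p ℬ r).range

end model

/-! ### explicit permutations of the plane `ZMod p × ZMod p` -/

section plane

variable (p : ℕ) [Fact p.Prime]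

/-- `(x, y) ↦ (x + a, y)` -/
def shX (a : ZMod p) : Perm (ZMod p × ZMod p) where
  toFun v := (v.1 + a, v.2)
  invFun v := (v.1 - a, v.2)
  left_inv v := by ext <;> simp
  right_inv v := by ext <;> simp

/-- `(x, y) ↦ (x, y + b)` -/
def shY (b : ZMod p) : Perm (ZMod p × ZMod p) where
  toFun v := (v.1, v.2 + b)
  invFun v := (v.1, v.2 - b)
  left_inv v := by ext <;> simp
  right_inv v := by ext <;> simp

/-- `(x, y) ↦ (x + a * y, y)` -/
def shear (a : ZMod p) : Perm (ZMod p × ZMod p) where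
  toFun v := (v.1 + a * v.2, v.2)
  invFun v := (v.1 - a * v.2, v.2)
  left_inv v := by ext <;> simp
  right_inv v := by ext <;> simp

/-- `(x, y) ↦ (x, y + b * x)` -/
def shearL (b : ZMod p) : Perm (ZMod p × ZMod p) where
  toFun v := (v.1, v.2 + b * v.1)
  invFun v := (v.1, v.2 - b * v.1)
  left_inv v := by ext <;> simp
  right_inv v := by ext <;> simp

/-- `(x, y) ↦ (c * x, c⁻¹ * y)` -/
def dg (c : (ZMod p)ˣ) : Perm (ZMod p × ZMod p) where
  toFun v := ((c : ZMod p) * v.1, ((c⁻¹ : (ZMod p)ˣ) : ZMod p) * v.2)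
  invFun v := (((c⁻¹ : (ZMod p)ˣ) : ZMod p) * v.1, (c : ZMod p) * v.2)
  left_inv v := by
    refine Prod.ext ?_ ?_
    · show ((c⁻¹ : (ZMod p)ˣ) : ZMod p) * ((c : ZMod p) * v.1) = v.1
      rw [← mul_assoc, ← Units.val_mul, inv_mul_cancel, Units.val_one, one_mul]
    · show (c : ZMod p) * (((c⁻¹ : (ZMod p)ˣ) : ZMod p) * v.2) = v.2
      rw [← mul_assoc, ← Units.val_mul, mul_inv_cancel, Units.val_one, one_mul]
  right_inv v := by
    refine Prod.ext ?_ ?_
    · show (c : ZMod p) * (((c⁻¹ : (ZMod p)ˣ) : ZMod p) * v.1) = v.1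
      rw [← mul_assoc, ← Units.val_mul, mul_inv_cancel, Units.val_one, one_mul]
    · show ((c⁻¹ : (ZMod p)ˣ) : ZMod p) * ((c : ZMod p) * v.2) = v.2
      rw [← mul_assoc, ← Units.val_mul, inv_mul_cancel, Units.val_one, one_mul]

/-- `(x, y) ↦ (-y, x - y)`: of order 3, determinant 1, maps `(1, 0)` to `(0, 1)` -/
def rot3 : Perm (ZMod p × ZMod p) where
  toFun v := (-v.2, v.1 - v.2)
  invFun v := (v.2 - v.1, -v.1)
  left_inv v := by ext <;> simp
  right_inv v := by ext <;> simp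

end plane

section emb

variable {p : ℕ} {ℬ : Type} (r : ℕ) (ι : ZMod p ↪ ℬ)

/-- the `p²`-block: `(x, y) ↦ inl (ι y, x)` -/
def sq : (ZMod p × ZMod p) ↪ Pt p ℬ r where
  toFun v := Sum.inl (ι v.2, v.1)
  inj' := by
    intro v w h
    have h1 := Sum.inl_injective h
    have h2 : ι v.2 = ι w.2 := congrArg Prod.fst h1
    have h3 : v.1 = w.1 := congrArg Prod.snd h1
    exact Prod.ext h3 (ι.injective h2)

@[simp] theorem sq_apply (v : ZMod p × ZMod p) : sq r ι v = Sum.inl (ι v.2, v.1) := rfl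

/-- act on the `p²`-block, fix all other points -/
noncomputable def bp : Perm (ZMod p × ZMod p) →* Perm (Pt p ℬ r) :=
  Equiv.Perm.viaEmbeddingHom (sq r ι)

theorem bp_sq (e : Perm (ZMod p × ZMod p)) (v : ZMod p × ZMod p) :
    bp r ι e (sq r ι v) = sq r ι (e v) :=
  Equiv.Perm.viaEmbedding_apply e (sq r ι) v

theorem bp_of_notMem (e : Perm (ZMod p × ZMod p)) (ω : Pt p ℬ r) (h : ω ∉ Set.range (sq r ι)) :
    bp r ι e ω = ω :=
  Equiv.Perm.viaEmbedding_apply_of_notMem e (sq r ι) ω h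

theorem bp_injective : Function.Injective (bp r ι) :=
  Equiv.Perm.viaEmbeddingHom_injective (sq r ι)

variable [Fact p.Prime]

/-- `(x, y) ↦ (x, y + 1)` on the `p²`-block -/
noncomputable def tau : Perm (Pt p ℬ r) := bp r ι (shY p 1)

/-- `(x, y) ↦ (c x, c⁻¹ y)` on the `p²`-block -/
noncomputable def hc (c : (ZMod p)ˣ) : Perm (Pt p ℬ r) := bp r ι (dg p c)

/-- vectors constant on `range ι` -/
def VQ : Subgroup (Multiplicative (ℬ → ZMod p)) where
  carrier := {f | ∀ y y' : ZMod p, Multiplicative.toAdd f (ι y) = Multiplicative.toAdd f (ι y')}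
  one_mem' := fun _ _ => rfl
  mul_mem' := by
    intro f g hf hg y y'
    show Multiplicative.toAdd f (ι y) + Multiplicative.toAdd g (ι y) =
      Multiplicative.toAdd f (ι y') + Multiplicative.toAdd g (ι y')
    rw [hf y y', hg y y']
  inv_mem' := by
    intro f hf y y'
    show -Multiplicative.toAdd f (ι y) = -Multiplicative.toAdd f (ι y')
    rw [hf y y']

/-- the abelian centric subgroup: regular `(ZMod p)²` on the `p²`-block, full base group on the
other blocks -/
noncomputable def QQ : Subgroup (Perm (Pt p ℬ r)) :=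
  (VQ ι).map (tr p ℬ r) ⊔ Subgroup.zpowers (tau r ι)

end emb

/-! ### the sign character and the `p`-elements of `N(BB) ∩ Alt` -/

section psi

open Equiv.Perm

/-- the sign character of `(ZMod p)ˣ` acting on `ZMod p` by multiplication -/
noncomputable def psi (p : ℕ) [Fact p.Prime] : (ZMod p)ˣ →* ℤˣ where
  toFun u := sign (Units.mulLeft u : Perm (ZMod p))
  map_one' := by
    have : (Units.mulLeft (1 : (ZMod p)ˣ) : Perm (ZMod p)) = 1 := by
      ext y; simp
    rw [this, map_one]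
  map_mul' u v := by
    have : (Units.mulLeft (u * v) : Perm (ZMod p)) = Units.mulLeft u * Units.mulLeft v := by
      ext y; simp [mul_assoc]
    rw [this, map_mul]

/-- the `p`-elements of `N(BB) ∩ Alt` -/
def PEl (p : ℕ) [Fact p.Prime] (ℬ : Type) [Fintype ℬ] [DecidableEq ℬ] (r : ℕ) :
    Set (Perm (Pt p ℬ r)) :=
  {y | Nz (BB p ℬ r) y ∧ y ∈ alternatingGroup (Pt p ℬ r) ∧ ∃ k : ℕ, y ^ p ^ k = 1}

end psi

end Cfsg.Agent.Lib.Helper21_AltFusDefs
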