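import Mathlib
import Cfsg.Prelude.Def_FusionSystem
import Cfsg.Agent.Lib.Helper85_GroupFusion
import Cfsg.Agent.Lib.Helper84_FusionRS
import Cfsg.Agent.Lib.Helper82_Fus_FM

/-!
# A local criterion with NON-NORMAL centric subgroups for the simplicity of `F_S(G)` (helper21)

`CE E P x`: conjugation by `x` on `P` is a map of `E`.  For a subsystem `E` over `S`, normal in
`F_S(G)`:

* `CE.conj` (Frattini + invariance): `A_E(Q) = {x ∈ N_G(Q) | c_x|_Q ∈ E}` is `G`-equivariant;
* `CE.climb` (receptivity of centric subgroups): if `C_G(Q) ≤ Q ≤ R ≤ S ∩ x⁻¹Sx` and `c_x|_Q ∈ E`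
  then `c_x|_R ∈ E`.

`NormGen S`: there is `B ⊴ S` with `C_G(B) ≤ S` such that `N_G(S)` lies in the subgroup generated by
the `N_G(B)`-conjugates of (i) elements of `S`, (ii) elements `x ∈ N_G(B)` lying in
`⟨N_S(Q)^{N_G(Q)}⟩` for some `Q ≤ S` with `C_G(Q) ≤ Q`.  Together with "no proper strongly closed
subgroup" this gives simplicity of `F_S(G)` (`isSimple_of_normGen`).
-/

set_option autoImplicit false

namespace Cfsg.Agent.Lib.Helper21_FusGC

open Cfsg Cfsg.FusionSystem Cfsg.Agent.Lib.Helper85_Fusion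
  Cfsg.Agent.Lib.Helper85_GroupFusion Cfsg.Agent.Lib.Helper82_Fus_FM

universe u

variable {G : Type u} [Group G]

/-- conjugation by `x` on `P` is a map of `E` -/
def CE {S : Subgroup G} (E : FusionSystem S) (P : Subgroup G) (x : G) : Prop :=
  conjHom P x ∈ E.Hom P

section basic

variable {S : Subgroup G} (E : FusionSystem S)

theorem CE.of_mem {P : Subgroup G} (hP : P ≤ S) {s : G} (hs : s ∈ S) : CE E P s :=
  E.conj_mem hP hs

theorem CE.source_le {P : Subgroup G} {x : G} (h : CE E P x) : P ≤ S :=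
  Cfsg.Agent.Lib.Helper85_Fusion.source_le E h

theorem CE.conjSub_le {P : Subgroup G} {x : G} (h : CE E P x) : conjSub x P ≤ S := by
  rw [← range_conjHom]
  exact range_le E h

theorem CE.restrict {P R : Subgroup G} {x : G} (h : CE E P x) (hRP : R ≤ P) : CE E R x :=
  mem_of_eq E (restrict_mem E hRP h) (fun _ => rfl)

theorem CE.cast {P P' : Subgroup G} {x : G} (h : CE E P x) (e : P' = P) : CE E P' x := by
  subst e; exact h

theorem CE.mul {P : Subgroup G} {x y : G} (hx : CE E P x) (hy : CE E (conjSub x P) y) :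
    CE E P (y * x) := by
  have h : ∀ q : P, conjHom P x q ∈ conjSub x P := fun q => conj_mem_conjSub q.2
  refine mem_of_eq E (E.comp_mem hx hy h) (fun q => ?_)
  show (y * x) * (q : G) * (y * x)⁻¹ = y * (x * (q : G) * x⁻¹) * y⁻¹
  group

theorem CE.inv {P : Subgroup G} {x : G} (hx : CE E P x) : CE E (conjSub x P) x⁻¹ := by
  obtain ⟨ψ, hψ, hinv, -⟩ := inv_mem' E hx
  have hr : (conjHom P x).range = conjSub x P := range_conjHom P x
  have hψ' := cast_mem E hr.symm hψ
  refine mem_of_eq E hψ' (fun z => ?_)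
  have hq' : x⁻¹ * (z : G) * x ∈ P := mem_conjSub.mp z.2
  have e : (Subgroup.inclusion hr.symm.le z : (conjHom P x).range) =
      ⟨conjHom P x ⟨x⁻¹ * (z : G) * x, hq'⟩, ⟨_, rfl⟩⟩ := by
    apply Subtype.ext
    show (z : G) = x * (x⁻¹ * (z : G) * x) * x⁻¹
    group
  show x⁻¹ * (z : G) * x⁻¹⁻¹ = ψ (Subgroup.inclusion hr.symm.le z)
  rw [e, hinv, inv_inv]

theorem InA.ce {Q : Subgroup G} {x : G} (h : InA E Q x) : CE E Q x := h.2

end basic

section normal

variable {S : Subgroup G} (E : FusionSystem S)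

/-- invariance: conjugating a map of `E` by an element of `N_G(S)` -/
theorem CE.conj_normalizer {Q : Subgroup G}
    (hinv : InvCond E (groupFusionSystem S)) {n y : G}
    (hn : n ∈ Subgroup.normalizer (S : Set G)) (hy : CE E Q y) :
    CE E (conjSub n Q) (n * y * n⁻¹) := by
  have hQS : Q ≤ S := hy.source_le E
  let α : MulAut S := S.normalizerMonoidHom ⟨n, hn⟩
  have hα : α ∈ (groupFusionSystem S).autGroup S :=
    (group_mem_autGroup_iff le_rfl α).mpr ⟨n, fun x => rfl⟩
  obtain ⟨χ, hχ, hχeq⟩ := hinv Q hQS (conjHom Q y) hy α hα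
  have hQ' : conjSub n Q = (Q.subgroupOf S).map (S.subtype.comp α.toMonoidHom) := by
    ext z
    constructor
    · intro hz
      have hz' : n⁻¹ * z * n ∈ Q := mem_conjSub.mp hz
      refine ⟨⟨n⁻¹ * z * n, hQS hz'⟩, hz', ?_⟩
      show n * (n⁻¹ * z * n) * n⁻¹ = z
      group
    · rintro ⟨⟨w, hwS⟩, hw, rfl⟩
      show n * w * n⁻¹ ∈ conjSub n Q
      exact conj_mem_conjSub hw
  have hχ' := cast_mem E hQ' hχ
  refine mem_of_eq E hχ' (fun z => ?_)
  have hq : n⁻¹ * (z : G) * n ∈ Q := mem_conjSub.mp z.2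
  have hφx : conjHom Q y ⟨n⁻¹ * (z : G) * n, hq⟩ ∈ S := apply_mem E hy _
  have hval : ((α ⟨n⁻¹ * (z : G) * n, hQS hq⟩ : S) : G) = z := by
    show n * (n⁻¹ * (z : G) * n) * n⁻¹ = z
    group
  have hαx : ((α ⟨n⁻¹ * (z : G) * n, hQS hq⟩ : S) : G) ∈
      (Q.subgroupOf S).map (S.subtype.comp α.toMonoidHom) := by
    rw [hval, ← hQ']; exact z.2
  have h1 := hχeq ⟨n⁻¹ * (z : G) * n, hq⟩ hφx hαx
  have e : (Subgroup.inclusion hQ'.le z :
      ↥((Q.subgroupOf S).map (S.subtype.comp α.toMonoidHom))) =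
      ⟨(α ⟨n⁻¹ * (z : G) * n, hQS hq⟩ : S), hαx⟩ := by
    apply Subtype.ext
    exact hval.symm
  show (n * y * n⁻¹) * (z : G) * (n * y * n⁻¹)⁻¹ = χ (Subgroup.inclusion hQ'.le z)
  rw [e, h1]
  show _ = n * (y * (n⁻¹ * (z : G) * n) * y⁻¹) * n⁻¹
  group

/-- Frattini: every `m` with `mQm⁻¹ ≤ S` is `n * a` with `n ∈ N_G(S)` and `c_a|_Q ∈ E` -/
theorem exists_factor' {Q : Subgroup G} (hQS : Q ≤ S)
    (hfrat : FratCond E (groupFusionSystem S)) {m : G} (hm : conjSub m Q ≤ S) :
    ∃ n ∈ Subgroup.normalizer (S : Set G), CE E Q (n⁻¹ * m) := by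
  have hφ : conjHom Q m ∈ (groupFusionSystem S).Hom Q := conjHom_mem_group hQS m hm
  obtain ⟨α, hα, φ₀, hφ₀, hform⟩ := hfrat Q hQS (conjHom Q m) hφ
  obtain ⟨n, hn⟩ := (group_mem_autGroup_iff le_rfl α).mp hα
  have hnS := Cfsg.Agent.Lib.Helper85_GroupFusion.mem_normalizer_of_aut α n hn
  refine ⟨n, hnS, ?_⟩
  refine mem_of_eq E hφ₀ (fun q => ?_)
  have h1 := hform q (apply_mem E hφ₀ q)
  rw [hn] at h1
  have h2 : m * (q : G) * m⁻¹ = n * φ₀ q * n⁻¹ := h1
  show (n⁻¹ * m) * (q : G) * (n⁻¹ * m)⁻¹ = φ₀ q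
  have : φ₀ q = n⁻¹ * (m * (q : G) * m⁻¹) * n := by rw [h2]; group
  rw [this]; group

/-- equivariance of `A_E(Q)` under every `m ∈ G` with `mQm⁻¹ ≤ S` -/
theorem CE.conj {Q : Subgroup G} (hQS : Q ≤ S)
    (hinv : InvCond E (groupFusionSystem S)) (hfrat : FratCond E (groupFusionSystem S))
    {m x : G} (hm : conjSub m Q ≤ S) (hxN : x ∈ Subgroup.normalizer (Q : Set G))
    (hx : CE E Q x) : CE E (conjSub m Q) (m * x * m⁻¹) := by
  obtain ⟨n, hnS, ha⟩ := exists_factor' E hQS hfrat hm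
  set a := n⁻¹ * m with ha_def
  -- `Q' = aQa⁻¹ → Q → Q → Q'`
  have h1 : CE E (conjSub a Q) a⁻¹ := ha.inv E
  have e1 : conjSub a⁻¹ (conjSub a Q) = Q := conjSub_inv_conjSub a Q
  have h2 : CE E (conjSub a⁻¹ (conjSub a Q)) x := hx.cast E e1
  have h3 : CE E (conjSub a Q) (x * a⁻¹) := h1.mul E h2
  have e2 : conjSub (x * a⁻¹) (conjSub a Q) = Q := by
    rw [conjSub_conjSub]
    have : x * a⁻¹ * a = x := by group
    rw [this]
    exact conjSub_eq_of_mem_normalizer hxN
  have h4 : CE E (conjSub (x * a⁻¹) (conjSub a Q)) a := ha.cast E e2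
  have h5 : CE E (conjSub a Q) (a * (x * a⁻¹)) := h3.mul E h4
  have h6 := CE.conj_normalizer E hinv hnS h5
  have e3 : conjSub n (conjSub a Q) = conjSub m Q := by
    rw [conjSub_conjSub]
    have : n * a = m := by rw [ha_def]; group
    rw [this]
  have e4 : n * (a * (x * a⁻¹)) * n⁻¹ = m * x * m⁻¹ := by rw [ha_def]; group
  rw [e4] at h6
  exact h6.cast E e3.symm

end normal

section climb

variable {S : Subgroup G} (E : FusionSystem S)

/-- one step of the climb -/
theorem CE.climb_step [Finite G] {p : ℕ} [Fact p.Prime] (hSp : IsPGroup p S)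
    (hEsat : E.IsSaturated p) (hsub : E.IsSubsystemOf (groupFusionSystem S))
    {Q : Subgroup G} (hcen : ∀ c : G, (∀ q ∈ Q, c * q = q * c) → c ∈ Q)
    {x : G} {R R' : Subgroup G} (hQR : Q ≤ R) (hx : CE E R x)
    (hRR' : R ≤ R') (hR'S : R' ≤ S) (hR'N : R' ≤ Subgroup.normalizer (R : Set G))
    (hR'x : conjSub x R' ≤ S) : CE E R' x := by
  have hRS : R ≤ S := hRR'.trans hR'S
  set R₁ := conjSub x R with hR₁
  have hR₁S : R₁ ≤ S := hx.conjSub_le E
  -- the centralizer of `R₁` lies in `R₁`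
  have hcen₁ : Subgroup.centralizer (R₁ : Set G) ≤ R₁ := by
    intro c hc
    have h1 : x⁻¹ * c * x ∈ Q := by
      apply hcen
      intro q hq
      have hq' : x * q * x⁻¹ ∈ R₁ := conj_mem_conjSub (hQR hq)
      have h2 := (Subgroup.mem_centralizer_iff.mp hc) _ hq'
      -- h2 : x * q * x⁻¹ * c = c * (x * q * x⁻¹)
      calc x⁻¹ * c * x * q = x⁻¹ * (c * (x * q * x⁻¹)) * x := by group
        _ = x⁻¹ * (x * q * x⁻¹ * c) * x := by rw [h2]
        _ = q * (x⁻¹ * c * x) := by group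
    rw [hR₁, mem_conjSub]
    exact hQR h1
  -- `R₁` is fully centralized
  have hfc : E.IsFullyCentralized R₁ := by
    refine ⟨hR₁S, ?_⟩
    rintro R₂ ⟨ψ, hψ, rfl⟩
    obtain ⟨-, -, g, hg⟩ := hsub R₁ hψ
    have hψe : ψ = conjHom R₁ g := MonoidHom.ext hg
    have hr : ψ.range = conjSub g R₁ := by rw [hψe, range_conjHom]
    rw [hr]
    have e1 : centralizerIn S R₁ = Subgroup.centralizer (R₁ : Set G) := by
      unfold centralizerIn
      exact inf_eq_right.mpr (hcen₁.trans hR₁S)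
    rw [e1]
    calc Nat.card (centralizerIn S (conjSub g R₁))
        ≤ Nat.card (Subgroup.centralizer ((conjSub g R₁ : Subgroup G) : Set G)) :=
          Subgroup.card_le_of_le inf_le_right
      _ = Nat.card (conjSub g (Subgroup.centralizer (R₁ : Set G))) := by
          rw [conjSub_centralizer]
      _ = Nat.card (Subgroup.centralizer (R₁ : Set G)) := card_conjSub _ _
  have hrec := Cfsg.Agent.Lib.Helper84_FusionRS.IsSaturated.isReceptive hSp hEsat hfc
  have hr : (conjHom R x).range = R₁ := range_conjHom R x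
  obtain ⟨ψ, hψ, hψeq⟩ := hrec.2 R (conjHom R x) hx hr
  -- `R'` lies in the extender
  have hext : R' ≤ extender S R (conjHom R x) := by
    intro s hs
    rw [Cfsg.Agent.Lib.Helper84_FusionRS.mem_extender_iff]
    refine ⟨hR'S hs, hR'N hs, x * s * x⁻¹, hR'x (conj_mem_conjSub hs), fun y hy => ?_⟩
    show x * (s * (y : G) * s⁻¹) * x⁻¹ = (x * s * x⁻¹) * (x * (y : G) * x⁻¹) * (x * s * x⁻¹)⁻¹
    group
  have hψ' : ψ.comp (Subgroup.inclusion hext) ∈ E.Hom R' := restrict_mem E hext hψ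
  obtain ⟨-, -, n, hn⟩ := hsub R' hψ'
  -- `x⁻¹ n` centralizes `R`, hence lies in `Q`
  have hz : x⁻¹ * n ∈ Q := by
    apply hcen
    intro q hq
    have hqR : q ∈ R := hQR hq
    have h1 := hn ⟨q, hRR' hqR⟩
    have h2 := hψeq q hqR (hext (hRR' hqR))
    have h3 : n * q * n⁻¹ = x * q * x⁻¹ := by
      rw [← h1]
      exact h2
    calc x⁻¹ * n * q = x⁻¹ * (n * q * n⁻¹) * n := by group
      _ = x⁻¹ * (x * q * x⁻¹) * n := by rw [h3]
      _ = q * (x⁻¹ * n) := by group
  have hzR' : (x⁻¹ * n)⁻¹ ∈ R' := R'.inv_mem (hRR' (hQR hz))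
  have hn' : CE E R' n := mem_of_eq E hψ' (fun y => (hn y).symm)
  have hz' : CE E R' (x⁻¹ * n)⁻¹ := CE.of_mem E hR'S (hR'S hzR')
  have e1 : conjSub (x⁻¹ * n)⁻¹ R' = R' :=
    conjSub_eq_of_mem_normalizer (Subgroup.le_normalizer hzR')
  have h4 : CE E R' (n * (x⁻¹ * n)⁻¹) := hz'.mul E (hn'.cast E e1)
  have e2 : n * (x⁻¹ * n)⁻¹ = x := by group
  rwa [e2] at h4

/-- the climb: from a centric `Q` up to any `R` with `Q ≤ R ≤ S`, `xRx⁻¹ ≤ S` -/
theorem CE.climb [Finite G] {p : ℕ} [Fact p.Prime] (hSp : IsPGroup p S)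
    (hEsat : E.IsSaturated p) (hsub : E.IsSubsystemOf (groupFusionSystem S))
    {Q : Subgroup G} (hcen : ∀ c : G, (∀ q ∈ Q, c * q = q * c) → c ∈ Q)
    {x : G} (hx : CE E Q x) {R : Subgroup G} (hQR : Q ≤ R) (hRS : R ≤ S)
    (hRx : conjSub x R ≤ S) : CE E R x := by
  classical
  -- strong induction on the index of the intermediate subgroup
  have key : ∀ k : ℕ, ∀ R₀ : Subgroup G, Q ≤ R₀ → R₀ ≤ R → CE E R₀ x →
      Nat.card R - Nat.card R₀ = k → CE E R x := by
    intro k
    induction k using Nat.strong_induction_on with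
    | _ k ih =>
      intro R₀ hQR₀ hR₀R hx₀ hk
      by_cases heq : R₀ = R
      · rw [← heq]; exact hx₀
      -- the normalizer of `R₀` in `R` is strictly larger
      have hlt : R₀ < R := lt_of_le_of_ne hR₀R heq
      have hRp : IsPGroup p R := hSp.to_le hRS
      set R₁ := R ⊓ Subgroup.normalizer (R₀ : Set G) with hR₁
      have hR₀R₁ : R₀ ≤ R₁ := le_inf hR₀R Subgroup.le_normalizer
      have hne : R₀ ≠ R₁ := by
        intro hcontra
        -- normalizer condition in the `p`-group `R`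
        have : Finite R := inferInstance
        have : Group.IsNilpotent R := hRp.isNilpotent
        have hnc := Group.normalizerCondition_of_isNilpotent (G := R)
        have h1 : (R₀.subgroupOf R) < ⊤ := by
          rw [lt_top_iff_ne_top]
          intro htop
          apply heq
          apply le_antisymm hR₀R
          intro y hy
          have : (⟨y, hy⟩ : R) ∈ R₀.subgroupOf R := by rw [htop]; trivial
          exact this
        have h2 := hnc _ h1
        -- the normalizer of `R₀.subgroupOf R` is `R₁.subgroupOf R = R₀.subgroupOf R`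
        have h3 : Subgroup.normalizer ((R₀.subgroupOf R : Subgroup R) : Set R) ≤
            R₀.subgroupOf R := by
          intro y hy
          have hy' : (y : G) ∈ R₁ := by
            refine ⟨y.2, ?_⟩
            show (y : G) ∈ Subgroup.normalizer (R₀ : Set G)
            rw [Subgroup.mem_normalizer_iff]
            intro z
            constructor
            · intro hz
              have hzR : z ∈ R := hR₀R hz
              have := (Subgroup.mem_normalizer_iff.mp hy ⟨z, hzR⟩).mp hz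
              exact this
            · intro hz
              have hzR : z ∈ R := by
                have h4 : (y : G)⁻¹ * ((y : G) * z * (y : G)⁻¹) * (y : G) ∈ R :=
                  R.mul_mem (R.mul_mem (R.inv_mem y.2) (hR₀R hz)) y.2
                have h5 : (y : G)⁻¹ * ((y : G) * z * (y : G)⁻¹) * (y : G) = z := by group
                rwa [h5] at h4
              have := (Subgroup.mem_normalizer_iff.mp hy ⟨z, hzR⟩).mpr hz
              exact this
          rw [← hcontra] at hy'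
          exact hy'
        exact absurd (lt_of_lt_of_le h2 h3) (lt_irrefl _)
      have hx₁ : CE E R₁ x :=
        CE.climb_step E hSp hEsat hsub hcen hQR₀ hx₀ hR₀R₁ (inf_le_left.trans hRS) inf_le_right
          ((conjSub_mono x inf_le_left).trans hRx)
      have hcard : Nat.card R₀ < Nat.card R₁ := by
        have hle := Subgroup.card_le_of_le hR₀R₁
        rcases lt_or_eq_of_le hle with h | h
        · exact h
        · exfalso
          apply hne
          have : (R₀ : Set G) = R₁ := by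
            apply Set.eq_of_subset_of_ncard_le hR₀R₁ _ (Set.toFinite _)
            rw [← Nat.card_coe_set_eq, ← Nat.card_coe_set_eq]
            exact h.ge
          exact SetLike.coe_injective this
      have hcardR : Nat.card R₁ ≤ Nat.card R := Subgroup.card_le_of_le inf_le_left
      exact ih (Nat.card R - Nat.card R₁) (by omega) R₁ (hQR₀.trans hR₀R₁) inf_le_left hx₁ rfl
  exact key _ Q le_rfl hQR hx rfl

end climb

/-! ### The criterion -/

/-- the generating set of the criterion: `N_G(B)`-conjugates of elements `x ∈ N_G(B)` which lie in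
`S`, or in `⟨N_S(Q)^{N_G(Q)}⟩` for some `Q ≤ S` with `C_G(Q) ≤ Q` -/
def GenSet (S B : Subgroup G) : Set G :=
  {y | ∃ m x : G, (∀ b ∈ B, m * b * m⁻¹ ∈ B) ∧ (∀ b ∈ B, x * b * x⁻¹ ∈ B) ∧ y = m * x * m⁻¹ ∧
    (x ∈ S ∨ ∃ Q : Subgroup G, Q ≤ S ∧ (∀ c : G, (∀ q ∈ Q, c * q = q * c) → c ∈ Q) ∧
      x ∈ Subgroup.closure {z : G | ∃ m' s : G, (∀ q ∈ Q, m' * q * m'⁻¹ ∈ Q) ∧ s ∈ S ∧
        (∀ q ∈ Q, s * q * s⁻¹ ∈ Q) ∧ z = m' * s * m'⁻¹})}

/-- the local hypothesis on `N_G(S)` -/
def NormGen (S : Subgroup G) : Prop :=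
  ∃ B : Subgroup G, B ≤ S ∧ (∀ s ∈ S, ∀ b ∈ B, s * b * s⁻¹ ∈ B) ∧
    (∀ c : G, (∀ b ∈ B, c * b = b * c) → c ∈ S) ∧
    ∀ n : G, (∀ s ∈ S, n * s * n⁻¹ ∈ S) → n ∈ Subgroup.closure (GenSet S B)

/-- no proper non-trivial strongly closed subgroup -/
def NoSC (S : Subgroup G) : Prop :=
  ∀ T : Subgroup G, T ≤ S → T ≠ ⊥ →
    (∀ t ∈ T, ∀ g : G, g * t * g⁻¹ ∈ S → g * t * g⁻¹ ∈ T) → T = S

section main

theorem inA_of_closure {S : Subgroup G} [Finite G]
    (E : FusionSystem S)
    (hinv : InvCond E (groupFusionSystem S)) (hfrat : FratCond E (groupFusionSystem S))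
    {Q : Subgroup G} (hQS : Q ≤ S) {x : G}
    (hxcl : x ∈ Subgroup.closure {z : G | ∃ m' s : G, (∀ q ∈ Q, m' * q * m'⁻¹ ∈ Q) ∧ s ∈ S ∧
        (∀ q ∈ Q, s * q * s⁻¹ ∈ Q) ∧ z = m' * s * m'⁻¹}) : InA E Q x := by
  induction hxcl using Subgroup.closure_induction with
  | mem z hz =>
    obtain ⟨m', s, hm', hsS, hsQ, rfl⟩ := hz
    have hm'N : m' ∈ Subgroup.normalizer (Q : Set G) := mem_normalizer_of_forall hm'
    have hsN : s ∈ Subgroup.normalizer (Q : Set G) := mem_normalizer_of_forall hsQ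
    have em' : conjSub m' Q = Q := conjSub_eq_of_mem_normalizer hm'N
    refine ⟨Subgroup.mul_mem _ (Subgroup.mul_mem _ hm'N hsN) (Subgroup.inv_mem _ hm'N), ?_⟩
    have h1 := CE.conj E hQS hinv hfrat (m := m') (by rw [em']; exact hQS) hsN
      (CE.of_mem E hQS hsS)
    exact h1.cast E em'.symm
  | one =>
    exact ⟨Subgroup.one_mem _, CE.of_mem E hQS (Subgroup.one_mem _)⟩
  | mul a b _ _ ha hb => exact ha.mul E hb
  | inv a _ ha => exact ha.inv E

theorem inA_of_genSet [Finite G] {p : ℕ} [Fact p.Prime] {S : Subgroup G} (hSp : IsPGroup p S)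
    (E : FusionSystem S) (hEsat : E.IsSaturated p)
    (hsub : E.IsSubsystemOf (groupFusionSystem S))
    (hinv : InvCond E (groupFusionSystem S)) (hfrat : FratCond E (groupFusionSystem S))
    {B : Subgroup G} (hBS : B ≤ S) {y : G} (hy : y ∈ GenSet S B) : InA E B y := by
  obtain ⟨m, x, hm, hxB, rfl, hx⟩ := hy
  have hmN : m ∈ Subgroup.normalizer (B : Set G) := mem_normalizer_of_forall hm
  have hxN : x ∈ Subgroup.normalizer (B : Set G) := mem_normalizer_of_forall hxB
  have emB : conjSub m B = B := conjSub_eq_of_mem_normalizer hmN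
  -- it suffices to show `CE E B x`
  have hfin : CE E B x → InA E B (m * x * m⁻¹) := by
    intro h
    refine ⟨Subgroup.mul_mem _ (Subgroup.mul_mem _ hmN hxN) (Subgroup.inv_mem _ hmN), ?_⟩
    have h1 := CE.conj E hBS hinv hfrat (m := m) (by rw [emB]; exact hBS) hxN h
    exact h1.cast E emB.symm
  apply hfin
  rcases hx with hxS | ⟨Q, hQS, hcen, hxcl⟩
  · exact CE.of_mem E hBS hxS
  · -- `x ∈ A_E(Q)`
    have hA : InA E Q x := inA_of_closure E hinv hfrat hQS hxcl
    -- climb to `R = S ∩ x⁻¹Sx`, then restrict to `B`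
    set R := S ⊓ conjSub x⁻¹ S with hR
    have hRx : conjSub x R ≤ S := by
      rintro _ ⟨z, hz, rfl⟩
      have h2 : z ∈ conjSub x⁻¹ S := hz.2
      rw [mem_conjSub, inv_inv] at h2
      exact h2
    have hQR : Q ≤ R := by
      intro q hq
      refine ⟨hQS hq, ?_⟩
      show q ∈ conjSub x⁻¹ S
      rw [mem_conjSub, inv_inv]
      exact hQS (conj_mem_of_mem_normalizer hA.1 hq)
    have hBR : B ≤ R := by
      intro b hb
      refine ⟨hBS hb, ?_⟩
      show b ∈ conjSub x⁻¹ S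
      rw [mem_conjSub, inv_inv]
      exact hBS (hxB b hb)
    have h3 : CE E R x := CE.climb E hSp hEsat hsub hcen hA.2 hQR inf_le_left hRx
    exact h3.restrict E hBR

theorem isSimple_of_normGen [Finite G] (p : ℕ) [Fact p.Prime] (S : Sylow p G)
    (hne : (S : Subgroup G) ≠ ⊥) (hsc : NoSC (S : Subgroup G)) (h : NormGen (S : Subgroup G)) :
    (Cfsg.groupFusionSystem (S : Subgroup G)).IsSimple p := by
  classical
  obtain ⟨B, hBS, hSB, hcenB, hgen⟩ := h
  have hsat := group_isSaturated S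
  refine ⟨hsat, hne, ?_⟩
  intro T E hE
  obtain ⟨⟨hEsat, -, hsub, hstrong, hinv, hfrat⟩, -⟩ := hE
  by_cases hT : T = ⊥
  · left; exact hT
  right
  have hTS : T ≤ (S : Subgroup G) := hstrong.1
  have hSC : ∀ t ∈ T, ∀ g : G, g * t * g⁻¹ ∈ (S : Subgroup G) → g * t * g⁻¹ ∈ T := by
    intro t ht g hg
    have hR : Subgroup.zpowers t ≤ T := Subgroup.zpowers_le.mpr ht
    have hφ : Cfsg.conjHom (Subgroup.zpowers t) g ∈
        (Cfsg.groupFusionSystem (S : Subgroup G)).Hom (Subgroup.zpowers t) := by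
      refine ⟨hR.trans hTS, ?_, g, fun x => rfl⟩
      rintro ⟨x, hx⟩
      obtain ⟨k, rfl⟩ := Subgroup.mem_zpowers_iff.mp hx
      show g * t ^ k * g⁻¹ ∈ (S : Subgroup G)
      have : g * t ^ k * g⁻¹ = (g * t * g⁻¹) ^ k := by rw [conj_zpow]
      rw [this]
      exact Subgroup.zpow_mem _ hg k
    exact hstrong.2 _ hR _ hφ ⟨t, Subgroup.mem_zpowers t⟩
  have hTeq : T = (S : Subgroup G) := hsc T hTS hT hSC
  subst hTeq
  have hinv' : InvCond E (groupFusionSystem (S : Subgroup G)) := hinv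
  have hfrat' : FratCond E (groupFusionSystem (S : Subgroup G)) := hfrat
  have hSN : (S : Subgroup G) ≤ Subgroup.normalizer (B : Set G) := by
    intro s hs
    exact mem_normalizer_of_forall (hSB s hs)
  -- `N_G(S) ⊆ A_E(B)`
  have hA' : ∀ x ∈ Subgroup.closure (GenSet (S : Subgroup G) B), InA E B x := by
    intro x hcl
    induction hcl using Subgroup.closure_induction with
    | mem x hx => exact inA_of_genSet S.isPGroup' E hEsat hsub hinv' hfrat' hBS hx
    | one => exact InA.of_mem E hBS hSN (Subgroup.one_mem _)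
    | mul x y _ _ hx hy => exact hx.mul E hy
    | inv x _ hx => exact hx.inv E
  have hKEY : ∀ m ∈ Subgroup.normalizer ((S : Subgroup G) : Set G),
      conjHom (S : Subgroup G) m ∈ E.Hom (S : Subgroup G) := by
    intro m hm
    have hmA : InA E B m := hA' m (hgen m (fun s hs => conj_mem_of_mem_normalizer hm hs))
    exact conjHom_mem_of_inA E S.isPGroup' hEsat hsub hBS hSN hcenB hm hmA
  refine ⟨rfl, fun P => Set.Subset.antisymm (hsub P) ?_⟩
  intro φ hφ
  have hP : P ≤ (S : Subgroup G) :=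
    ((Cfsg.groupFusionSystem (S : Subgroup G)).le_of_mem hφ).1
  obtain ⟨α, hα, φ₀, hφ₀, hform⟩ := hfrat P hP φ hφ
  obtain ⟨m, hm⟩ := (group_mem_autGroup_iff le_rfl α).mp hα
  have hmN := Cfsg.Agent.Lib.Helper85_GroupFusion.mem_normalizer_of_aut α m hm
  have hconj := hKEY m hmN
  have hφ₀S := (E.le_of_mem hφ₀).2
  have hcomp := E.comp_mem hφ₀ hconj hφ₀S
  have heq : φ = (Cfsg.conjHom (S : Subgroup G) m).comp (φ₀.codRestrict _ hφ₀S) := by
    apply MonoidHom.ext
    intro x
    rw [hform x (hφ₀S x), hm]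
    rfl
  rw [heq]
  exact hcomp

end main

end Cfsg.Agent.Lib.Helper21_FusGC
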