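import Mathlib
import Cfsg.Agent.Lib.Helper21_FusGC

/-!
# The criterion `NormGen`: relative version and transport (helper21)

* `NormGenIn H S`: the hypothesis `NormGen` for `S ≤ H` inside an ambient group `A`
  (all quantifiers restricted to `H`); `normGen_of_in : NormGenIn H S → NormGen (S.subgroupOf H)`.
* `NormGen.map`: transport along a group isomorphism; `NormGen.sylow`: from one Sylow subgroup to
  all of them.
-/

set_option autoImplicit false

namespace Cfsg.Agent.Lib.Helper21_FusGC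

section rel

variable {A : Type*} [Group A]

/-- relative generating set -/
def GenSetIn (H S B : Subgroup A) : Set A :=
  {y | ∃ m x : A, m ∈ H ∧ x ∈ H ∧ (∀ b ∈ B, m * b * m⁻¹ ∈ B) ∧ (∀ b ∈ B, x * b * x⁻¹ ∈ B) ∧
    y = m * x * m⁻¹ ∧
    (x ∈ S ∨ ∃ Q : Subgroup A, Q ≤ S ∧ (∀ c ∈ H, (∀ q ∈ Q, c * q = q * c) → c ∈ Q) ∧
      x ∈ Subgroup.closure {z : A | ∃ m' s : A, m' ∈ H ∧ (∀ q ∈ Q, m' * q * m'⁻¹ ∈ Q) ∧ s ∈ S ∧
        (∀ q ∈ Q, s * q * s⁻¹ ∈ Q) ∧ z = m' * s * m'⁻¹})}

/-- relative version of `NormGen` -/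
def NormGenIn (H S : Subgroup A) : Prop :=
  ∃ B : Subgroup A, B ≤ S ∧ (∀ s ∈ S, ∀ b ∈ B, s * b * s⁻¹ ∈ B) ∧
    (∀ c ∈ H, (∀ b ∈ B, c * b = b * c) → c ∈ S) ∧
    ∀ n ∈ H, (∀ s ∈ S, n * s * n⁻¹ ∈ S) → n ∈ Subgroup.closure (GenSetIn H S B)

theorem closure_subtype_mem (H : Subgroup A) (X : Set A) (hXH : X ⊆ H) {y : A}
    (hy : y ∈ Subgroup.closure X) (hyH : y ∈ H) :
    (⟨y, hyH⟩ : H) ∈ Subgroup.closure {x : H | (x : A) ∈ X} := by
  have hle : Subgroup.closure X ≤ H := (Subgroup.closure_le H).mpr hXH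
  have key : ∀ y ∈ Subgroup.closure X, ∀ hy : y ∈ H,
      (⟨y, hy⟩ : H) ∈ Subgroup.closure {x : H | (x : A) ∈ X} := by
    intro y hy
    induction hy using Subgroup.closure_induction with
    | mem y hy =>
      intro hyH
      exact Subgroup.subset_closure hy
    | one =>
      intro _
      exact Subgroup.one_mem _
    | mul a b ha hb iha ihb =>
      intro hab
      exact Subgroup.mul_mem _ (iha (hle ha)) (ihb (hle hb))
    | inv a ha iha =>
      intro hai
      exact Subgroup.inv_mem _ (iha (hle ha))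
  exact key y hy hyH

theorem normGen_of_in (H S : Subgroup A) (hSH : S ≤ H) (h : NormGenIn H S) :
    NormGen (S.subgroupOf H) := by
  obtain ⟨B, hBS, hSB, hcen, hgen⟩ := h
  refine ⟨B.subgroupOf H, ?_, ?_, ?_, ?_⟩
  · intro b hb
    rw [Subgroup.mem_subgroupOf] at hb ⊢
    exact hBS hb
  · intro s hs b hb
    rw [Subgroup.mem_subgroupOf] at hs hb ⊢
    exact hSB _ hs _ hb
  · intro c hc
    rw [Subgroup.mem_subgroupOf]
    apply hcen c.1 c.2
    intro b hb
    have := hc ⟨b, hSH (hBS hb)⟩ (by rw [Subgroup.mem_subgroupOf]; exact hb)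
    exact congrArg Subtype.val this
  · intro n hn
    have hn' : ∀ s ∈ S, (n : A) * s * (n : A)⁻¹ ∈ S := by
      intro s hs
      have := hn ⟨s, hSH hs⟩ (by rw [Subgroup.mem_subgroupOf]; exact hs)
      rw [Subgroup.mem_subgroupOf] at this
      exact this
    have h1 := hgen n.1 n.2 hn'
    have hXH : GenSetIn H S B ⊆ H := by
      rintro y ⟨m, x, hm, hx, -, -, rfl, -⟩
      exact H.mul_mem (H.mul_mem hm hx) (H.inv_mem hm)
    have h2 := closure_subtype_mem H _ hXH h1 n.2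
    refine (Subgroup.closure_mono ?_) h2
    rintro y ⟨m, x, hm, hx, hmB, hxB, hy, hcase⟩
    refine ⟨⟨m, hm⟩, ⟨x, hx⟩, ?_, ?_, ?_, ?_⟩
    · intro b hb
      rw [Subgroup.mem_subgroupOf] at hb ⊢
      exact hmB _ hb
    · intro b hb
      rw [Subgroup.mem_subgroupOf] at hb ⊢
      exact hxB _ hb
    · exact Subtype.ext hy
    · rcases hcase with hxS | ⟨Q, hQS, hQc, hxcl⟩
      · left
        rw [Subgroup.mem_subgroupOf]
        exact hxS
      · right
        refine ⟨Q.subgroupOf H, ?_, ?_, ?_⟩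
        · intro q hq
          rw [Subgroup.mem_subgroupOf] at hq ⊢
          exact hQS hq
        · intro c hc
          rw [Subgroup.mem_subgroupOf]
          apply hQc c.1 c.2
          intro q hq
          have := hc ⟨q, hSH (hQS hq)⟩ (by rw [Subgroup.mem_subgroupOf]; exact hq)
          exact congrArg Subtype.val this
        · have hXH' : {z : A | ∃ m' s : A, m' ∈ H ∧ (∀ q ∈ Q, m' * q * m'⁻¹ ∈ Q) ∧ s ∈ S ∧
              (∀ q ∈ Q, s * q * s⁻¹ ∈ Q) ∧ z = m' * s * m'⁻¹} ⊆ H := by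
            rintro z ⟨m', s, hm', -, hs, -, rfl⟩
            exact H.mul_mem (H.mul_mem hm' (hSH hs)) (H.inv_mem hm')
          have h3 := closure_subtype_mem H _ hXH' hxcl hx
          refine (Subgroup.closure_mono ?_) h3
          rintro z ⟨m', s, hm', hm'Q, hs, hsQ, hz⟩
          refine ⟨⟨m', hm'⟩, ⟨s, hSH hs⟩, ?_, ?_, ?_, Subtype.ext hz⟩
          · intro q hq
            rw [Subgroup.mem_subgroupOf] at hq ⊢
            exact hm'Q _ hq
          · rw [Subgroup.mem_subgroupOf]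
            exact hs
          · intro q hq
            rw [Subgroup.mem_subgroupOf] at hq ⊢
            exact hsQ _ hq

end rel

section map

variable {G G' : Type*} [Group G] [Group G']

theorem closure_map_mem (e : G ≃* G') (X : Set G) (Y : Set G') (hXY : ∀ x ∈ X, e x ∈ Y) {y : G}
    (hy : y ∈ Subgroup.closure X) : e y ∈ Subgroup.closure Y := by
  have : Subgroup.closure X ≤ (Subgroup.closure Y).comap e.toMonoidHom := by
    rw [Subgroup.closure_le]
    intro x hx
    exact Subgroup.subset_closure (hXY x hx)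
  exact this hy

theorem NormGen.map (e : G ≃* G') {S : Subgroup G} (h : NormGen S) :
    NormGen (S.map e.toMonoidHom) := by
  obtain ⟨B, hBS, hSB, hcen, hgen⟩ := h
  have hmem : ∀ (K : Subgroup G) (y : G'), y ∈ K.map e.toMonoidHom ↔ e.symm y ∈ K :=
    fun K y => Subgroup.mem_map_equiv
  have hmem' : ∀ (K : Subgroup G) (x : G), e x ∈ K.map e.toMonoidHom ↔ x ∈ K := by
    intro K x
    rw [hmem, MulEquiv.symm_apply_apply]
  have hconj : ∀ a b : G', e.symm (a * b * a⁻¹) = e.symm a * e.symm b * (e.symm a)⁻¹ := by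
    intro a b
    rw [map_mul, map_mul, map_inv]
  have hconj' : ∀ a b : G, e (a * b * a⁻¹) = e a * e b * (e a)⁻¹ := by
    intro a b
    rw [map_mul, map_mul, map_inv]
  -- normalizing conditions transport
  have hnz : ∀ (K : Subgroup G) (a : G), (∀ k ∈ K, a * k * a⁻¹ ∈ K) →
      ∀ k ∈ K.map e.toMonoidHom, e a * k * (e a)⁻¹ ∈ K.map e.toMonoidHom := by
    intro K a ha k hk
    rw [hmem] at hk ⊢
    rw [hconj, MulEquiv.symm_apply_apply]
    exact ha _ hk
  have hnz' : ∀ (K : Subgroup G) (a : G'),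
      (∀ k ∈ K.map e.toMonoidHom, a * k * a⁻¹ ∈ K.map e.toMonoidHom) →
      ∀ k ∈ K, e.symm a * k * (e.symm a)⁻¹ ∈ K := by
    intro K a ha k hk
    have h7 := ha (e k) ((hmem' K k).mpr hk)
    rw [hmem, hconj, MulEquiv.symm_apply_apply] at h7
    exact h7
  have hcz' : ∀ (K : Subgroup G) (c : G'), (∀ k ∈ K.map e.toMonoidHom, c * k = k * c) →
      ∀ k ∈ K, e.symm c * k = k * e.symm c := by
    intro K c hc k hk
    have h7 := hc (e k) ((hmem' K k).mpr hk)
    have h8 := congrArg e.symm h7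
    rw [map_mul, map_mul, MulEquiv.symm_apply_apply] at h8
    exact h8
  refine ⟨B.map e.toMonoidHom, Subgroup.map_mono hBS, ?_, ?_, ?_⟩
  · intro s hs b hb
    rw [hmem] at hs hb ⊢
    rw [hconj]
    exact hSB _ hs _ hb
  · intro c hc
    rw [hmem]
    exact hcen _ (hcz' B c hc)
  · intro n hn
    have h1 := hgen (e.symm n) (hnz' S n hn)
    have h2 := closure_map_mem e (GenSet S B)
      (GenSet (S.map e.toMonoidHom) (B.map e.toMonoidHom)) ?_ h1
    · rwa [MulEquiv.apply_symm_apply] at h2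
    · rintro y ⟨m, x, hmB, hxB, rfl, hcase⟩
      refine ⟨e m, e x, hnz B m hmB, hnz B x hxB, hconj' m x, ?_⟩
      rcases hcase with hxS | ⟨Q, hQS, hQc, hxcl⟩
      · left
        exact (hmem' S x).mpr hxS
      · right
        refine ⟨Q.map e.toMonoidHom, Subgroup.map_mono hQS, ?_, ?_⟩
        · intro c hc
          rw [hmem]
          exact hQc _ (hcz' Q c hc)
        · refine closure_map_mem e _ _ ?_ hxcl
          rintro z ⟨m', s, hm'Q, hs, hsQ, rfl⟩
          exact ⟨e m', e s, hnz Q m' hm'Q, (hmem' S s).mpr hs, hnz Q s hsQ, hconj' m' s⟩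

/-- from one Sylow subgroup to all of them -/
theorem NormGen.sylow [Finite G] {p : ℕ} [Fact p.Prime] (S₀ S : Sylow p G)
    (h : NormGen (S₀ : Subgroup G)) : NormGen (S : Subgroup G) := by
  obtain ⟨g, hg⟩ := MulAction.exists_smul_eq G S₀ S
  have h2 := NormGen.map (MulAut.conj g) h
  have h3 : (S : Subgroup G) = (S₀ : Subgroup G).map (MulAut.conj g).toMonoidHom := by
    rw [← hg, Sylow.coe_subgroup_smul]
    ext x
    rw [Subgroup.mem_smul_pointwise_iff_exists, Subgroup.mem_map]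
    rfl
  rw [h3]
  exact h2

end map

section sylowconj

open Cfsg.Agent.Lib.Helper85_GroupFusion

variable {A : Type*} [Group A]

/-- a `p`-element of `K` (with `S ≤ K ≤ H`, `S` a Sylow subgroup of `H`) is `K`-conjugate into `S` -/
theorem exists_conj_of_pElement [Finite A] {p : ℕ} [Fact p.Prime] {H S K : Subgroup A}
    (hS : IsSylowIn p S H) (hSH : S ≤ H) (hSK : S ≤ K) (hKH : K ≤ H) {y : A} (hyK : y ∈ K)
    (hy : ∃ k : ℕ, y ^ p ^ k = 1) : ∃ m ∈ K, ∃ s ∈ S, y = m * s * m⁻¹ := by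
  obtain ⟨k, hk⟩ := hy
  have hSK' : IsSylowIn p S K := hS.of_le hSH hSK hKH
  have hT : IsPGroup p (Subgroup.zpowers y) := by
    rintro ⟨z, hz⟩
    obtain ⟨j, rfl⟩ := Subgroup.mem_zpowers_iff.mp hz
    refine ⟨k, Subtype.ext ?_⟩
    show (y ^ j) ^ p ^ k = 1
    rw [← zpow_natCast, ← zpow_mul, mul_comm, zpow_mul, zpow_natCast, hk, one_zpow]
  have hTK : Subgroup.zpowers y ≤ K := Subgroup.zpowers_le.mpr hyK
  obtain ⟨g, hgK, hg⟩ := hSK'.exists_conj_le hTK hT
  refine ⟨g⁻¹, K.inv_mem hgK, g * y * g⁻¹, hg (conj_mem_conjSub (Subgroup.mem_zpowers y)), ?_⟩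
  group

end sylowconj

end Cfsg.Agent.Lib.Helper21_FusGC
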