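import Mathlib
import Cfsg.Agent.Lib.Helper21_AltFusDefs

/-!
# S5165, package AF-N1 (helper53 for helper21): the normalizer of the base group is `AGL₁(p) ≀ Sym(ℬ)`
-/

set_option autoImplicit false
set_option linter.unusedSectionVars false
set_option linter.unusedVariables false

open Equiv Equiv.Perm Cfsg.Agent.Lib.Helper67_SymSylow Cfsg.Agent.Lib.Helper21_AltFusDefs

namespace Cfsg.Agent.Lib.Helper53_AF_N1

variable {p : ℕ} [Fact p.Prime] {ℬ : Type} [Fintype ℬ] [DecidableEq ℬ] {r : ℕ}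

/-- one-sided normalization by an element of a group implies the same for the inverse, for a finite
subgroup -/
theorem nz_inv {A : Type*} [Group A] (K : Subgroup A) [Finite K] (x : A) (hx : Nz K x) :
    Nz K x⁻¹ := by
  let c : K → K := fun k => ⟨x * k * x⁻¹, hx k k.2⟩
  have hinj : Function.Injective c := by
    intro a b hab
    have h1 : x * a * x⁻¹ = x * b * x⁻¹ := congrArg Subtype.val hab
    apply Subtype.ext
    have h2 := congrArg (fun z => x⁻¹ * z * x) h1
    simpa [mul_assoc] using h2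
  have hsurj := Finite.surjective_of_injective hinj
  intro k hk
  obtain ⟨k', hk'⟩ := hsurj ⟨k, hk⟩
  have h1 : x * k' * x⁻¹ = k := congrArg Subtype.val hk'
  have h2 : x⁻¹ * k * x⁻¹⁻¹ = k' := by
    rw [← h1]; group
  rw [h2]
  exact k'.2

/-- the generator of the base group at the block `β` -/
def bgen (p : ℕ) (ℬ : Type) [DecidableEq ℬ] (β : ℬ) : Multiplicative (ℬ → ZMod p) :=
  Multiplicative.ofAdd (Pi.single β 1)

theorem tr_mem (f : Multiplicative (ℬ → ZMod p)) : tr p ℬ r f ∈ BB p ℬ r := ⟨f, rfl⟩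

/-- the relation "every element of the base group fixing `ω` fixes `ω'`" -/
def Rel (p : ℕ) (ℬ : Type) (r : ℕ) (ω ω' : Pt p ℬ r) : Prop :=
  ∀ b ∈ BB p ℬ r, b ω = ω → b ω' = ω'

theorem rel_inl_iff (β β' : ℬ) (y y' : ZMod p) :
    Rel p ℬ r (Sum.inl (β, y)) (Sum.inl (β', y')) ↔ β = β' := by
  constructor
  · intro h
    by_contra hne
    have h1 := h (tr p ℬ r (bgen p ℬ β')) (tr_mem _) (by
      simp [bgen, hne])
    simp [bgen] at h1
  · rintro rfl b ⟨f, rfl⟩ hb
    simp only [tr_inl, Sum.inl.injEq, Prod.mk.injEq, true_and] at hb ⊢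
    have : Multiplicative.toAdd f β = 0 := by simpa using hb
    rw [this, add_zero]

theorem rel_map (x : Perm (Pt p ℬ r)) (hx' : Nz (BB p ℬ r) x⁻¹) (ω ω' : Pt p ℬ r)
    (h : Rel p ℬ r ω ω') : Rel p ℬ r (x ω) (x ω') := by
  intro b hb hfix
  have hb' : x⁻¹ * b * x⁻¹⁻¹ ∈ BB p ℬ r := hx' b hb
  have h1 : (x⁻¹ * b * x⁻¹⁻¹) ω = ω := by
    simp [Perm.mul_apply, hfix]
  have h2 := h _ hb' h1
  simp only [inv_inv, Perm.mul_apply] at h2
  have h3 := congrArg x h2
  simpa using h3

theorem norm_form (hr : r ≤ 1) (x : Perm (Pt p ℬ r)) (hx : Nz (BB p ℬ r) x) :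
    ∃ (f : Multiplicative (ℬ → ZMod p)) (t : ℬ → (ZMod p)ˣ) (σ : Perm ℬ),
      x = tr p ℬ r f * sc p ℬ r t * lf p ℬ r σ := by
  have hx' : Nz (BB p ℬ r) x⁻¹ := nz_inv _ x hx
  have hx'' : Nz (BB p ℬ r) x⁻¹⁻¹ := by rwa [inv_inv]
  have h10 : (1 : ZMod p) ≠ 0 := one_ne_zero
  -- Step 1: `x` fixes the left-over points
  have hinr : ∀ i : Fin r, x (Sum.inr i) = Sum.inr i := by
    intro i
    have hfix : ∀ b ∈ BB p ℬ r, b (x (Sum.inr i)) = x (Sum.inr i) := by
      intro b hb
      obtain ⟨f, hf⟩ := hx' b hb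
      have h1 : x⁻¹ (b (x (Sum.inr i))) = Sum.inr i := by
        have := congrArg (fun e : Perm (Pt p ℬ r) => e (Sum.inr i)) hf
        simpa [Perm.mul_apply] using this.symm
      have h2 := congrArg x h1
      simpa using h2
    rcases hxi : x (Sum.inr i) with ⟨β, y⟩ | j
    · exfalso
      have h1 := hfix (tr p ℬ r (bgen p ℬ β)) (tr_mem _)
      rw [hxi] at h1
      simp [bgen] at h1
    · congr 1
      have : Subsingleton (Fin r) := by
        interval_cases r
        · infer_instance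
        · infer_instance
      exact Subsingleton.elim _ _
  -- Step 2: `x` maps block points to block points
  have hinl : ∀ (β : ℬ) (y : ZMod p), ∃ (γ : ℬ) (z : ZMod p),
      x (Sum.inl (β, y)) = Sum.inl (γ, z) := by
    intro β y
    rcases hxi : x (Sum.inl (β, y)) with ⟨γ, z⟩ | j
    · exact ⟨γ, z, rfl⟩
    · exfalso
      have := x.injective (hxi.trans (hinr j).symm)
      simp at this
  choose B U hBU using hinl
  -- Step 3: blocks go to blocks
  have hB : ∀ β y y', B β y = B β y' := by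
    intro β y y'
    have h1 : Rel p ℬ r (Sum.inl (β, y)) (Sum.inl (β, y')) := (rel_inl_iff β β y y').mpr rfl
    have h2 := rel_map x hx' _ _ h1
    rw [hBU, hBU] at h2
    exact (rel_inl_iff _ _ _ _).mp h2
  have hBinj : Function.Injective (fun β => B β 0) := by
    intro β β' h
    have h1 : Rel p ℬ r (x (Sum.inl (β, 0))) (x (Sum.inl (β', 0))) := by
      rw [hBU, hBU]
      exact (rel_inl_iff _ _ _ _).mpr h
    have h2 := rel_map x⁻¹ hx'' _ _ h1
    simp at h2
    exact (rel_inl_iff _ _ _ _).mp h2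
  let σ : Perm ℬ := Equiv.ofBijective _ (Finite.injective_iff_bijective.mp hBinj)
  have hσ : ∀ β y, B β y = σ β := fun β y => hB β y 0
  -- Step 4: the fibre maps are affine
  have hstep : ∀ β : ℬ, ∃ s : ZMod p, ∀ y, U β (y + 1) = U β y + s := by
    intro β
    obtain ⟨g, hg⟩ := hx (tr p ℬ r (bgen p ℬ β)) (tr_mem _)
    refine ⟨Multiplicative.toAdd g (σ β), fun y => ?_⟩
    have h1 : x (tr p ℬ r (bgen p ℬ β) (Sum.inl (β, y))) = tr p ℬ r g (x (Sum.inl (β, y))) := by
      rw [hg]
      simp [Perm.mul_apply]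
    have h2 : tr p ℬ r (bgen p ℬ β) (Sum.inl (β, y)) = Sum.inl (β, y + 1) := by
      simp [bgen]
    rw [h2, hBU, hBU, tr_inl, hσ, hσ] at h1
    have h3 := Sum.inl_injective h1
    exact congrArg Prod.snd h3
  choose s hs using hstep
  have haff : ∀ β y, U β y = U β 0 + s β * y := by
    intro β y
    have hn : ∀ n : ℕ, U β (n : ZMod p) = U β 0 + s β * (n : ZMod p) := by
      intro n
      induction n with
      | zero => simp
      | succ n ih =>
        rw [Nat.cast_succ, hs, ih]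
        ring
    have := hn y.val
    rwa [ZMod.natCast_zmod_val] at this
  have hs0 : ∀ β, s β ≠ 0 := by
    intro β h0
    have h1 : U β 1 = U β 0 := by rw [haff β 1, h0]; simp
    have h2 : x (Sum.inl (β, 1)) = x (Sum.inl (β, 0)) := by
      rw [hBU, hBU, hσ, hσ, h1]
    have h3 := x.injective h2
    simp at h3
  -- Step 5: assemble
  refine ⟨Multiplicative.ofAdd (fun γ => U (σ.symm γ) 0),
    fun γ => Units.mk0 (s (σ.symm γ)) (hs0 _), σ, ?_⟩
  ext ω
  rcases ω with ⟨β, y⟩ | i
  · rw [hBU, hσ, haff]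
    simp [Perm.mul_apply]
    ring
  · rw [hinr]
    simp [Perm.mul_apply]

end Cfsg.Agent.Lib.Helper53_AF_N1
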