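import Mathlib
import Cfsg.Agent.Lib.Helper21_AltFusDefs

set_option autoImplicit false
set_option linter.unusedSectionVars false
set_option linter.unusedVariables false

/-!
# S5165 package AF-SIGN (architect helper21): the signs of the elements of the wreath model
-/

open Equiv Equiv.Perm Cfsg.Agent.Lib.Helper67_SymSylow Cfsg.Agent.Lib.Helper21_AltFusDefs

namespace Cfsg.Agent.Lib.Helper70_AF_SIGN

variable {p : ℕ} [Fact p.Prime] {ℬ : Type} [Fintype ℬ] [DecidableEq ℬ] {r : ℕ}

/-- the sign of `inlPerm a` -/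
theorem sign_inlPerm {β γ : Type} [Fintype β] [DecidableEq β] [Fintype γ] [DecidableEq γ]
    (a : Perm β) : sign (inlPerm β γ a) = sign a := by
  have : inlPerm β γ a = sumCongr a 1 := rfl
  rw [this, sign_sumCongr, Equiv.Perm.sign_one, mul_one]

theorem sign_tr (hp : p ≠ 2) (f : Multiplicative (ℬ → ZMod p)) : sign (tr p ℬ r f) = 1 := by
  have hpp : p.Prime := Fact.out
  have hodd : p % 2 = 1 := by
    rcases hpp.eq_two_or_odd with h | h
    · exact absurd h hp
    · exact h
  have hfp : f ^ p = 1 := by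
    apply Multiplicative.toAdd.injective
    rw [toAdd_pow, toAdd_one]
    funext β
    rw [Pi.smul_apply, Pi.zero_apply, nsmul_eq_mul, ZMod.natCast_self, zero_mul]
  have h1 : sign (tr p ℬ r f) ^ p = 1 := by
    rw [← map_pow, ← map_pow, hfp, map_one, map_one]
  rw [Int.units_pow_eq_pow_mod_two, hodd, pow_one] at h1
  exact h1

theorem sign_lf (σ : Perm ℬ) : sign (lf p ℬ r σ) = sign σ ^ p := by
  have h1 : lf p ℬ r σ = inlPerm _ _ (topHom p ℬ σ) := rfl
  have h2 : topHom p ℬ σ = Equiv.prodCongrLeft fun _ : ZMod p => σ := rfl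
  rw [h1, sign_inlPerm, h2, sign_prodCongrLeft, Finset.prod_const, Finset.card_univ, ZMod.card]

theorem sign_sc (t : ℬ → (ZMod p)ˣ) : sign (sc p ℬ r t) = psi p (∏ β, t β) := by
  have h1 : sc p ℬ r t = inlPerm _ _ (scHom p ℬ t) := rfl
  have h2 : scHom p ℬ t = Equiv.prodCongrRight fun β => (Units.mulLeft (t β) : Perm (ZMod p)) := rfl
  rw [h1, sign_inlPerm, h2, sign_prodCongrRight, map_prod]
  rfl

theorem sign_bp (ι : ZMod p ↪ ℬ) (e : Perm (ZMod p × ZMod p)) : sign (bp r ι e) = sign e := by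
  show sign (viaEmbedding e (sq r ι)) = sign e
  unfold viaEmbedding
  let _inst : DecidablePred (· ∈ Set.range (sq r ι).toFun) := fun a => Classical.propDecidable _
  exact sign_extendDomain e _

theorem sign_tr_two (f : Multiplicative (ℬ → ZMod 2)) :
    sign (tr 2 ℬ r f) = ∏ β, (if Multiplicative.toAdd f β = 0 then (1 : ℤˣ) else -1) := by
  have h1 : tr 2 ℬ r f = inlPerm _ _ (baseHom 2 ℬ f) := rfl
  have h2 : baseHom 2 ℬ f =
      Equiv.prodCongrRight fun β => (Equiv.addRight (Multiplicative.toAdd f β) : Perm (ZMod 2)) := rfl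
  rw [h1, sign_inlPerm, h2, sign_prodCongrRight]
  apply Finset.prod_congr rfl
  intro β _
  have key : ∀ a : ZMod 2, sign (Equiv.addRight a : Perm (ZMod 2)) = if a = 0 then (1 : ℤˣ) else -1 := by
    decide
  exact key _

end Cfsg.Agent.Lib.Helper70_AF_SIGN
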