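import Mathlib
import Cfsg.Agent.Lib.Helper21_AltFusDefs

/-!
# S5165 package AF-REL (architect helper21): relations in `AGL_1(p) ≀ Sym(ℬ)`
-/

set_option autoImplicit false
set_option linter.unusedSectionVars false
set_option linter.unusedVariables false

open Equiv Equiv.Perm Cfsg.Agent.Lib.Helper67_SymSylow Cfsg.Agent.Lib.Helper21_AltFusDefs

namespace Cfsg.Agent.Lib.Helper89_AF_REL

variable {p : ℕ} [Fact p.Prime] {ℬ : Type} [Fintype ℬ] [DecidableEq ℬ] {r : ℕ}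

theorem lf_tr (σ : Perm ℬ) (f : Multiplicative (ℬ → ZMod p)) :
    lf p ℬ r σ * tr p ℬ r f =
      tr p ℬ r (Multiplicative.ofAdd fun β => Multiplicative.toAdd f (σ⁻¹ β)) * lf p ℬ r σ := by
  apply Equiv.ext
  rintro (⟨β, y⟩ | i)
  · simp only [Equiv.Perm.mul_apply, tr_inl, lf_inl, toAdd_ofAdd, Equiv.Perm.coe_inv,
      Equiv.symm_apply_apply]
  · simp only [Equiv.Perm.mul_apply, tr_inr, lf_inr]

theorem sc_tr (t : ℬ → (ZMod p)ˣ) (f : Multiplicative (ℬ → ZMod p)) :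
    sc p ℬ r t * tr p ℬ r f =
      tr p ℬ r (Multiplicative.ofAdd fun β => (t β : ZMod p) * Multiplicative.toAdd f β) *
        sc p ℬ r t := by
  apply Equiv.ext
  rintro (⟨β, y⟩ | i)
  · simp only [Equiv.Perm.mul_apply, tr_inl, sc_inl, toAdd_ofAdd, mul_add]
  · simp only [Equiv.Perm.mul_apply, tr_inr, sc_inr]

theorem lf_sc (σ : Perm ℬ) (t : ℬ → (ZMod p)ˣ) :
    lf p ℬ r σ * sc p ℬ r t = sc p ℬ r (fun β => t (σ⁻¹ β)) * lf p ℬ r σ := by
  apply Equiv.ext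
  rintro (⟨β, y⟩ | i)
  · simp only [Equiv.Perm.mul_apply, sc_inl, lf_inl, Equiv.Perm.coe_inv, Equiv.symm_apply_apply]
  · simp only [Equiv.Perm.mul_apply, sc_inr, lf_inr]

/-- the action of a general element on the points of the blocks -/
theorem form_inl (f : Multiplicative (ℬ → ZMod p)) (t : ℬ → (ZMod p)ˣ) (σ : Perm ℬ) (β : ℬ)
    (y : ZMod p) :
    (tr p ℬ r f * sc p ℬ r t * lf p ℬ r σ) (Sum.inl (β, y)) =
      Sum.inl (σ β, (t (σ β) : ZMod p) * y + Multiplicative.toAdd f (σ β)) := by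
  simp only [Equiv.Perm.mul_apply, lf_inl, sc_inl, tr_inl]

theorem form_inr (f : Multiplicative (ℬ → ZMod p)) (t : ℬ → (ZMod p)ˣ) (σ : Perm ℬ) (i : Fin r) :
    (tr p ℬ r f * sc p ℬ r t * lf p ℬ r σ) (Sum.inr i) = Sum.inr i := by
  simp only [Equiv.Perm.mul_apply, lf_inr, sc_inr, tr_inr]

theorem nz_form (f : Multiplicative (ℬ → ZMod p)) (t : ℬ → (ZMod p)ˣ) (σ : Perm ℬ) :
    Nz (BB p ℬ r) (tr p ℬ r f * sc p ℬ r t * lf p ℬ r σ) := by
  rintro k ⟨g, rfl⟩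
  have e : tr p ℬ r f * sc p ℬ r t * lf p ℬ r σ * tr p ℬ r g =
      tr p ℬ r (Multiplicative.ofAdd fun γ => (t γ : ZMod p) * Multiplicative.toAdd g (σ⁻¹ γ)) *
        (tr p ℬ r f * sc p ℬ r t * lf p ℬ r σ) := by
    apply Equiv.ext
    rintro (⟨β, y⟩ | i)
    · simp only [Equiv.Perm.mul_apply, lf_inl, sc_inl, tr_inl, toAdd_ofAdd, Equiv.Perm.coe_inv,
        Equiv.symm_apply_apply]
      congr 2
      ring
    · simp only [Equiv.Perm.mul_apply, lf_inr, sc_inr, tr_inr]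
  rw [e, mul_inv_cancel_right]
  exact ⟨_, rfl⟩

theorem form_mul (f f' : Multiplicative (ℬ → ZMod p)) (t t' : ℬ → (ZMod p)ˣ) (σ σ' : Perm ℬ) :
    ∃ f'' : Multiplicative (ℬ → ZMod p),
      (tr p ℬ r f * sc p ℬ r t * lf p ℬ r σ) * (tr p ℬ r f' * sc p ℬ r t' * lf p ℬ r σ') =
        tr p ℬ r f'' * sc p ℬ r (fun β => t β * t' (σ⁻¹ β)) * lf p ℬ r (σ * σ') := by
  refine ⟨Multiplicative.ofAdd fun γ => (t γ : ZMod p) * Multiplicative.toAdd f' (σ⁻¹ γ) +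
    Multiplicative.toAdd f γ, ?_⟩
  apply Equiv.ext
  rintro (⟨β, y⟩ | i)
  · simp only [Equiv.Perm.mul_apply, lf_inl, sc_inl, tr_inl, toAdd_ofAdd, Equiv.Perm.coe_inv,
      Equiv.symm_apply_apply, Units.val_mul]
    congr 2
    ring
  · simp only [Equiv.Perm.mul_apply, lf_inr, sc_inr, tr_inr]

theorem form_inv (f : Multiplicative (ℬ → ZMod p)) (t : ℬ → (ZMod p)ˣ) (σ : Perm ℬ) :
    ∃ f'' : Multiplicative (ℬ → ZMod p),
      (tr p ℬ r f * sc p ℬ r t * lf p ℬ r σ)⁻¹ =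
        tr p ℬ r f'' * sc p ℬ r (fun β => (t (σ β))⁻¹) * lf p ℬ r σ⁻¹ := by
  refine ⟨Multiplicative.ofAdd fun γ =>
    -((((t (σ γ))⁻¹ : (ZMod p)ˣ) : ZMod p) * Multiplicative.toAdd f (σ γ)), ?_⟩
  apply inv_eq_of_mul_eq_one_right
  apply Equiv.ext
  rintro (⟨β, y⟩ | i)
  · simp only [Equiv.Perm.mul_apply, lf_inl, sc_inl, tr_inl, toAdd_ofAdd, Equiv.Perm.coe_inv,
      Equiv.apply_symm_apply, Equiv.Perm.coe_one, id_eq, mul_add, mul_neg,
      Units.mul_inv_cancel_left]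
    congr 2
    ring
  · simp only [Equiv.Perm.mul_apply, lf_inr, sc_inr, tr_inr, Equiv.Perm.coe_one, id_eq]

theorem form_unique (f f' : Multiplicative (ℬ → ZMod p)) (t t' : ℬ → (ZMod p)ˣ) (σ σ' : Perm ℬ)
    (h : tr p ℬ r f * sc p ℬ r t * lf p ℬ r σ = tr p ℬ r f' * sc p ℬ r t' * lf p ℬ r σ') :
    f = f' ∧ t = t' ∧ σ = σ' := by
  have key : ∀ (β : ℬ) (y : ZMod p),
      σ β = σ' β ∧ (t (σ β) : ZMod p) * y + Multiplicative.toAdd f (σ β) =
        (t' (σ' β) : ZMod p) * y + Multiplicative.toAdd f' (σ' β) := by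
    intro β y
    have := congrArg (fun x => x (Sum.inl (β, y))) h
    simp only [form_inl, Sum.inl.injEq, Prod.mk.injEq] at this
    exact this
  have hσ : σ = σ' := Equiv.ext fun β => (key β 0).1
  subst hσ
  have hf : f = f' := by
    apply Multiplicative.toAdd.injective
    funext β
    have := (key (σ⁻¹ β) 0).2
    simpa using this
  subst hf
  refine ⟨rfl, ?_, rfl⟩
  funext β
  have := (key (σ⁻¹ β) 1).2
  simp only [Equiv.Perm.coe_inv, Equiv.apply_symm_apply, mul_one, add_left_inj] at this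
  exact Units.ext this

end Cfsg.Agent.Lib.Helper89_AF_REL
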