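import Mathlib
import Cfsg.Agent.Lib.Helper21_AltFusDefs
import Cfsg.Agent.Lib.Helper89_AF_REL
import Cfsg.Agent.Lib.Helper53_AF_N1
import Cfsg.Agent.Lib.Helper70_AF_SIGN

set_option autoImplicit false
set_option linter.unusedSectionVars false
set_option linter.unusedVariables false

/-!
S5165 package AF-GEN2 (architect helper21): for `p = 2` the group `N(BB) ∩ Alt` is generated by `2`-elements.
-/

open Equiv Equiv.Perm Cfsg.Agent.Lib.Helper67_SymSylow Cfsg.Agent.Lib.Helper21_AltFusDefs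

namespace Cfsg.Agent.Lib.Helper25_AF_GEN2

variable {p : ℕ} [Fact p.Prime] {ℬ : Type} [Fintype ℬ] [DecidableEq ℬ] {r : ℕ}

/-- block permutations normalize the base group -/
theorem nz_lf (σ : Perm ℬ) : Nz (BB 2 ℬ r) (lf 2 ℬ r σ) := by
  have h := Cfsg.Agent.Lib.Helper89_AF_REL.nz_form (p := 2) (r := r) (1 : Multiplicative (ℬ → ZMod 2))
    (1 : ℬ → (ZMod 2)ˣ) σ
  rwa [map_one, map_one, one_mul, one_mul] at h

/-- block permutations are even when `p = 2` -/
theorem lf_mem_alt (σ : Perm ℬ) : lf 2 ℬ r σ ∈ alternatingGroup (Pt 2 ℬ r) := by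
  rw [Equiv.Perm.mem_alternatingGroup, Cfsg.Agent.Lib.Helper70_AF_SIGN.sign_lf]
  exact Int.units_sq _

/-- the lift of a transposition is one of the generating `2`-elements -/
theorem lf_swap_mem (a b : ℬ) : lf 2 ℬ r (swap a b) ∈ PEl 2 ℬ r := by
  refine ⟨nz_lf _, lf_mem_alt _, 1, ?_⟩
  rw [pow_one, ← map_pow, _root_.sq, swap_mul_self, map_one]

theorem lf_mem_closure (σ : Perm ℬ) : lf 2 ℬ r σ ∈ Subgroup.closure (PEl 2 ℬ r) := by
  induction σ using Equiv.Perm.swap_induction_on with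
  | one => rw [map_one]; exact Subgroup.one_mem _
  | swap_mul f x y hxy ih =>
    rw [map_mul]
    exact Subgroup.mul_mem _ (Subgroup.subset_closure (lf_swap_mem x y)) ih

theorem gen_two (hr : r ≤ 1) (x : Perm (Pt 2 ℬ r)) (hx : Nz (BB 2 ℬ r) x)
    (hxa : x ∈ alternatingGroup (Pt 2 ℬ r)) : x ∈ Subgroup.closure (PEl 2 ℬ r) := by
  obtain ⟨f, t, σ, rfl⟩ := Cfsg.Agent.Lib.Helper53_AF_N1.norm_form hr x hx
  have ht : t = 1 := Subsingleton.elim _ _
  rw [ht, map_one, mul_one] at hxa ⊢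
  have hlf := lf_mem_alt (r := r) σ
  have htr : tr 2 ℬ r f ∈ alternatingGroup (Pt 2 ℬ r) := by
    have := Subgroup.mul_mem _ hxa (Subgroup.inv_mem _ hlf)
    rwa [mul_inv_cancel_right] at this
  refine Subgroup.mul_mem _ (Subgroup.subset_closure ?_) (lf_mem_closure σ)
  refine ⟨?_, htr, 1, ?_⟩
  · intro k hk
    exact Subgroup.mul_mem _ (Subgroup.mul_mem _ ⟨f, rfl⟩ hk) (Subgroup.inv_mem _ ⟨f, rfl⟩)
  · rw [pow_one, ← map_pow]
    have : f ^ 2 = 1 := by
      apply Multiplicative.toAdd.injective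
      rw [toAdd_pow, toAdd_one]
      funext β
      simp only [Pi.smul_apply, nsmul_eq_mul, Nat.cast_ofNat, Pi.zero_apply]
      have h20 : (2 : ZMod 2) = 0 := rfl
      rw [h20, zero_mul]
    rw [this, map_one]

end Cfsg.Agent.Lib.Helper25_AF_GEN2
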