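import Mathlib
import Cfsg.Agent.Lib.Helper21_AltFusDefs
import Cfsg.Agent.Lib.Helper85_GroupFusion

set_option autoImplicit false
set_option linter.unusedSectionVars false
set_option linter.unusedVariables false

/-
helper32: S5165 package AF-SYL (helper21's market), aux file.
`exists_sylow_odd` is VERBATIM; `exists_sylow_two_aux` = `exists_sylow_two` with the AF-PCYC statement `nz_of_conj_le`
(at `p = 2`) as an explicit hypothesis `hnz` (verbatim wrapper in `Helper32_AF_SYL` once AF-PCYC is on main).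
Extras: `tau_eq_lf` (`tau = lf (viaEmbedding (addRight 1) ι)`), `sign_eq_one_of_pow`.
-/

open Equiv Equiv.Perm Cfsg.Agent.Lib.Helper67_SymSylow Cfsg.Agent.Lib.Helper21_AltFusDefs

namespace Cfsg.Agent.Lib.Helper32_AF_SYLaux

variable {p : ℕ} [Fact p.Prime] {ℬ : Type} [Fintype ℬ] [DecidableEq ℬ] {r : ℕ}

/-- `tau` in wreath coordinates -/
theorem tau_eq_lf (ι : ZMod p ↪ ℬ) :
    tau r ι = lf p ℬ r (Equiv.Perm.viaEmbedding (Equiv.addRight (1 : ZMod p)) ι) := by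
  ext ω
  rcases ω with ⟨β, y⟩ | i
  · by_cases hβ : β ∈ Set.range ι
    · obtain ⟨j, rfl⟩ := hβ
      have h1 : (Sum.inl (ι j, y) : Pt p ℬ r) = sq r ι (y, j) := rfl
      rw [h1]
      unfold tau
      rw [bp_sq, ← h1, lf_inl, Equiv.Perm.viaEmbedding_apply]
      rfl
    · have h2 : (Sum.inl (β, y) : Pt p ℬ r) ∉ Set.range (sq r ι) := by
        rintro ⟨v, hv⟩
        apply hβ
        have h3 := Sum.inl_injective hv
        exact ⟨v.2, congrArg Prod.fst h3⟩
      unfold tau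
      rw [bp_of_notMem r ι _ _ h2, lf_inl, Equiv.Perm.viaEmbedding_apply_of_notMem _ _ _ hβ]
  · have h2 : (Sum.inr i : Pt p ℬ r) ∉ Set.range (sq r ι) := by
      rintro ⟨v, hv⟩
      exact Sum.inl_ne_inr hv
    unfold tau
    rw [bp_of_notMem r ι _ _ h2, lf_inr]

/-- an element of odd prime power order is even -/
theorem sign_eq_one_of_pow {α : Type*} [Fintype α] [DecidableEq α] (hp : p ≠ 2)
    (x : Perm α) (k : ℕ) (hx : x ^ p ^ k = 1) : sign x = 1 := by
  have hodd : Odd (p ^ k) := Odd.pow ((Fact.out : p.Prime).odd_of_ne_two hp)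
  have h1 : sign x ^ (p ^ k) = 1 := by rw [← map_pow, hx, map_one]
  rcases Int.units_eq_one_or (sign x) with h | h
  · exact h
  · rw [h, Odd.neg_one_pow hodd] at h1
    exact absurd h1 (by decide)

theorem exists_sylow_odd (hp : p ≠ 2) (ι : ZMod p ↪ ℬ) :
    ∃ P : Sylow p ↥(alternatingGroup (Pt p ℬ r)),
      BB p ℬ r ≤ (P : Subgroup ↥(alternatingGroup (Pt p ℬ r))).map (alternatingGroup _).subtype ∧
      tau r ι ∈ (P : Subgroup ↥(alternatingGroup (Pt p ℬ r))).map (alternatingGroup _).subtype := by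
  classical
  set σ : Perm ℬ := Equiv.Perm.viaEmbedding (Equiv.addRight (1 : ZMod p)) ι with hσ
  have hσp : σ ^ p = 1 := by
    have h1 : σ = Equiv.Perm.viaEmbeddingHom ι (Equiv.addRight (1 : ZMod p)) := rfl
    rw [h1, ← map_pow]
    have h2 : (Equiv.addRight (1 : ZMod p)) ^ p = 1 := by
      ext y
      rw [Equiv.Perm.coe_pow]
      have : ∀ n : ℕ, ((Equiv.addRight (1 : ZMod p)) : ZMod p → ZMod p)^[n] y = y + n := by
        intro n
        induction n with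
        | zero => simp
        | succ n ih =>
          rw [Function.iterate_succ_apply', ih]
          simp [add_assoc]
      rw [this]
      simp
    rw [h2, map_one]
  have hPσ : IsPGroup p (Subgroup.zpowers σ) := by
    rintro ⟨g, hg⟩
    obtain ⟨k, rfl⟩ := Subgroup.mem_zpowers_iff.mp hg
    refine ⟨1, ?_⟩
    apply Subtype.ext
    show (σ ^ k) ^ p ^ 1 = 1
    rw [pow_one, ← zpow_natCast, ← zpow_mul, mul_comm, zpow_mul, zpow_natCast, hσp, one_zpow]
  set K : Subgroup (Perm (Pt p ℬ r)) :=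
    (wreathSub p ℬ ⊤ (Subgroup.zpowers σ)).map (inlPerm _ _) with hK
  have hKp : IsPGroup p K := (isPGroup_wreathSub_top p ℬ _ hPσ).map _
  have hBK : BB p ℬ r ≤ K := by
    rintro _ ⟨f, rfl⟩
    refine ⟨baseHom p ℬ f, ?_, rfl⟩
    exact Subgroup.mem_sup_left ⟨f, Subgroup.mem_top _, rfl⟩
  have htK : tau r ι ∈ K := by
    rw [tau_eq_lf]
    refine ⟨topHom p ℬ σ, ?_, rfl⟩
    exact Subgroup.mem_sup_right ⟨σ, Subgroup.mem_zpowers σ, rfl⟩
  have hKA : K ≤ alternatingGroup (Pt p ℬ r) := by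
    intro x hx
    obtain ⟨k, hk⟩ := hKp ⟨x, hx⟩
    have hk' : x ^ p ^ k = 1 := congrArg Subtype.val hk
    exact Equiv.Perm.mem_alternatingGroup.mpr (sign_eq_one_of_pow hp x k hk')
  have hK'p : IsPGroup p (K.subgroupOf (alternatingGroup (Pt p ℬ r))) :=
    hKp.comap_of_injective _ (Subgroup.subtype_injective _)
  obtain ⟨P, hP⟩ := hK'p.exists_le_sylow
  have hmem : ∀ x ∈ K, x ∈ (P : Subgroup ↥(alternatingGroup (Pt p ℬ r))).map
      (alternatingGroup _).subtype := by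
    intro x hx
    refine ⟨⟨x, hKA hx⟩, hP ?_, rfl⟩
    exact Subgroup.mem_subgroupOf.mpr hx
  exact ⟨P, fun x hx => hmem x (hBK hx), hmem _ htK⟩

/-- `exists_sylow_two` with the AF-PCYC statement `nz_of_conj_le` (for `p = 2`) as a hypothesis -/
theorem exists_sylow_two_aux (hr : r ≤ 1)
    (hnz : ∀ (D : Subgroup (Perm (Pt 2 ℬ r))), IsPGroup 2 D → BB 2 ℬ r ≤ D →
      ∀ g : Perm (Pt 2 ℬ r), (∀ b ∈ BB 2 ℬ r, g * b * g⁻¹ ∈ D) → Nz (BB 2 ℬ r) g) :
    ∃ P : Sylow 2 ↥(alternatingGroup (Pt 2 ℬ r)),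
      BB 2 ℬ r ⊓ alternatingGroup (Pt 2 ℬ r) ≤
        (P : Subgroup ↥(alternatingGroup (Pt 2 ℬ r))).map (alternatingGroup _).subtype ∧
      ∀ s ∈ (P : Subgroup ↥(alternatingGroup (Pt 2 ℬ r))).map (alternatingGroup _).subtype,
        Nz (BB 2 ℬ r) s := by
  classical
  have : Fact (Nat.Prime 2) := ⟨Nat.prime_two⟩
  -- `BB` is a 2-group
  have hBp : IsPGroup 2 (BB 2 ℬ r) := by
    rintro ⟨x, f, rfl⟩
    refine ⟨1, ?_⟩
    apply Subtype.ext
    show (tr 2 ℬ r f) ^ 2 ^ 1 = 1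
    rw [pow_one, ← map_pow]
    have : f ^ 2 = 1 := by
      apply Multiplicative.toAdd.injective
      funext i
      show (2 : ℕ) • Multiplicative.toAdd f i = 0
      rw [nsmul_eq_mul, ZMod.natCast_self, zero_mul]
    rw [this, map_one]
  obtain ⟨P₀, hP₀⟩ := hBp.exists_le_sylow
  have hsyl := Cfsg.Agent.Lib.Helper85_GroupFusion.isSylowIn_of_sylow_le P₀
    (le_top : (P₀ : Subgroup (Perm (Pt 2 ℬ r))) ≤ ⊤)
  have hnormal : (⊤ : Subgroup (Perm (Pt 2 ℬ r))) ≤
      Subgroup.normalizer ((alternatingGroup (Pt 2 ℬ r) : Subgroup _) : Set _) := by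
    rw [Subgroup.normalizer_eq_top]
  have hinf := hsyl.inf_normal le_top le_top hnormal
  obtain ⟨R, hR⟩ := hinf
  refine ⟨R, ?_, ?_⟩
  · intro x hx
    refine ⟨⟨x, hx.2⟩, ?_, rfl⟩
    show (⟨x, hx.2⟩ : ↥(alternatingGroup (Pt 2 ℬ r))) ∈ (R : Subgroup _)
    rw [hR, Subgroup.mem_subgroupOf]
    exact ⟨hP₀ hx.1, hx.2⟩
  · rintro _ ⟨y, hy, rfl⟩
    have hy' : y ∈ (R : Subgroup ↥(alternatingGroup (Pt 2 ℬ r))) := hy
    rw [hR, Subgroup.mem_subgroupOf] at hy'
    have hyP : (y : Perm (Pt 2 ℬ r)) ∈ (P₀ : Subgroup _) := hy'.1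
    apply hnz (P₀ : Subgroup _) P₀.isPGroup' hP₀
    intro b hb
    exact Subgroup.mul_mem _ (Subgroup.mul_mem _ hyP (hP₀ hb)) (Subgroup.inv_mem _ hyP)

end Cfsg.Agent.Lib.Helper32_AF_SYLaux
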