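import Mathlib
import Cfsg.Agent.Lib.Helper21_AltFusDefs

/-!
# S5165 package AF-HFORM (architect helper21): the block elements `hc`, `tau`, `bp (shX a)`, `bp (shear a)`
in wreath coordinates
-/

set_option autoImplicit false
set_option linter.unusedSectionVars false
set_option linter.unusedVariables false

open Equiv Equiv.Perm Cfsg.Agent.Lib.Helper67_SymSylow Cfsg.Agent.Lib.Helper21_AltFusDefs

namespace Cfsg.Agent.Lib.Helper60_AF_HFORM

variable {p : ℕ} [Fact p.Prime] {ℬ : Type} [Fintype ℬ] [DecidableEq ℬ] {r : ℕ}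

/-- a permutation acting as `e` on the `p²`-block and trivially elsewhere is `bp e` -/
theorem bp_eq_of (ι : ZMod p ↪ ℬ) (e : Perm (ZMod p × ZMod p)) (g : Perm (Pt p ℬ r))
    (h1 : ∀ v, g (sq r ι v) = sq r ι (e v))
    (h2 : ∀ (β : ℬ) (x : ZMod p), β ∉ Set.range ι → g (Sum.inl (β, x)) = Sum.inl (β, x))
    (h3 : ∀ i : Fin r, g (Sum.inr i) = Sum.inr i) : bp r ι e = g := by
  apply Equiv.ext
  intro ω
  rcases ω with ⟨β, x⟩ | i
  · by_cases hβ : β ∈ Set.range ι
    · obtain ⟨y, rfl⟩ := hβ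
      have : (Sum.inl (ι y, x) : Pt p ℬ r) = sq r ι (x, y) := rfl
      rw [this, bp_sq, h1]
    · rw [h2 β x hβ]
      apply bp_of_notMem
      rintro ⟨v, hv⟩
      apply hβ
      have := Sum.inl_injective hv
      exact ⟨v.2, congrArg Prod.fst this⟩
  · rw [h3 i]
    apply bp_of_notMem
    rintro ⟨v, hv⟩
    exact Sum.inl_ne_inr hv

theorem extend_of_notMem {γ : Type*} (ι : ZMod p ↪ ℬ) (g : ZMod p → γ) (d : ℬ → γ) (β : ℬ)
    (hβ : β ∉ Set.range ι) : Function.extend ι g d β = d β := by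
  apply Function.extend_apply'
  rintro ⟨y, hy⟩
  exact hβ ⟨y, hy⟩

theorem hc_form (ι : ZMod p ↪ ℬ) (c : (ZMod p)ˣ) :
    ∃ (t : ℬ → (ZMod p)ˣ) (σ : Perm ℬ),
      hc r ι c = sc p ℬ r t * lf p ℬ r σ ∧ ∏ β, t β = c := by
  classical
  refine ⟨Function.extend ι (fun _ => c) 1, Equiv.Perm.viaEmbedding (Units.mulLeft c⁻¹) ι, ?_, ?_⟩
  · unfold hc
    apply bp_eq_of
    · intro v
      rw [Equiv.Perm.mul_apply, sq_apply, lf_inl, Equiv.Perm.viaEmbedding_apply, sc_inl,
        ι.injective.extend_apply]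
      rfl
    · intro β x hβ
      rw [Equiv.Perm.mul_apply, lf_inl, Equiv.Perm.viaEmbedding_apply_of_notMem _ _ _ hβ, sc_inl,
        extend_of_notMem ι _ _ β hβ]
      simp
    · intro i
      rw [Equiv.Perm.mul_apply, lf_inr, sc_inr]
  · have h1 : ∀ β, Function.extend ι (fun _ => c) (1 : ℬ → (ZMod p)ˣ) β =
        if β ∈ Finset.univ.map ι then c else 1 := by
      intro β
      by_cases hβ : β ∈ Set.range ι
      · obtain ⟨y, rfl⟩ := hβ
        rw [ι.injective.extend_apply, if_pos]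
        exact Finset.mem_map_of_mem ι (Finset.mem_univ y)
      · rw [extend_of_notMem ι _ _ β hβ, if_neg]
        · rfl
        · intro h
          obtain ⟨y, -, hy⟩ := Finset.mem_map.1 h
          exact hβ ⟨y, hy⟩
    simp_rw [h1]
    rw [Finset.prod_ite_mem, Finset.prod_const, Finset.univ_inter, Finset.card_map, Finset.card_univ,
      ZMod.card]
    have h2 : c ^ (p - 1) = 1 := ZMod.units_pow_card_sub_one_eq_one p c
    have hp : 1 ≤ p := (Fact.out : p.Prime).one_lt.le
    calc c ^ p = c ^ (p - 1 + 1) := by rw [Nat.sub_add_cancel hp]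
      _ = c := by rw [pow_succ, h2, one_mul]

theorem tau_form (ι : ZMod p ↪ ℬ) :
    ∃ σ : Perm ℬ, tau r ι = lf p ℬ r σ ∧ σ ^ p = 1 ∧ σ ≠ 1 := by
  classical
  refine ⟨Equiv.Perm.viaEmbedding (Equiv.addRight (1 : ZMod p)) ι, ?_, ?_, ?_⟩
  · unfold tau
    apply bp_eq_of
    · intro v
      rw [sq_apply, lf_inl, Equiv.Perm.viaEmbedding_apply]
      rfl
    · intro β x hβ
      rw [lf_inl, Equiv.Perm.viaEmbedding_apply_of_notMem _ _ _ hβ]
    · intro i
      rw [lf_inr]
  · have h1 : Equiv.Perm.viaEmbedding (Equiv.addRight (1 : ZMod p)) ι =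
        Equiv.Perm.viaEmbeddingHom ι (Equiv.addRight (1 : ZMod p)) := rfl
    rw [h1, ← map_pow]
    have h2 : (Equiv.addRight (1 : ZMod p)) ^ p = 1 := by
      apply Equiv.ext
      intro y
      have : ∀ k : ℕ, ((Equiv.addRight (1 : ZMod p)) ^ k) y = y + k := by
        intro k
        induction k with
        | zero => simp
        | succ k ih =>
          rw [pow_succ', Equiv.Perm.mul_apply, ih]
          simp only [Equiv.coe_addRight, Nat.cast_succ]
          ring
      rw [this p]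
      simp
    rw [h2, map_one]
  · intro h
    have h1 := Equiv.Perm.viaEmbedding_apply (Equiv.addRight (1 : ZMod p)) ι 0
    rw [h, Equiv.Perm.one_apply] at h1
    have h2 := ι.injective h1
    simp only [Equiv.coe_addRight, zero_add] at h2
    exact zero_ne_one h2

theorem bp_shX (ι : ZMod p ↪ ℬ) (a : ZMod p) : bp r ι (shX p a) ∈ (VQ ι).map (tr p ℬ r) := by
  classical
  refine ⟨Multiplicative.ofAdd (Function.extend ι (fun _ => a) 0), ?_, ?_⟩
  · intro y y'
    show Function.extend ι (fun _ => a) 0 (ι y) = Function.extend ι (fun _ => a) 0 (ι y')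
    rw [ι.injective.extend_apply, ι.injective.extend_apply]
  · symm
    apply bp_eq_of
    · intro v
      rw [sq_apply, tr_inl]
      show (Sum.inl (ι v.2, v.1 + Function.extend ι (fun _ => a) 0 (ι v.2)) : Pt p ℬ r) = _
      rw [ι.injective.extend_apply]
      rfl
    · intro β x hβ
      rw [tr_inl]
      show (Sum.inl (β, x + Function.extend ι (fun _ => a) 0 β) : Pt p ℬ r) = _
      rw [extend_of_notMem ι _ _ β hβ]
      simp
    · intro i
      rw [tr_inr]

theorem bp_shear (ι : ZMod p ↪ ℬ) (a : ZMod p) : bp r ι (shear p a) ∈ BB p ℬ r := by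
  classical
  refine ⟨Multiplicative.ofAdd (Function.extend ι (fun y => a * y) 0), ?_⟩
  symm
  apply bp_eq_of
  · intro v
    rw [sq_apply, tr_inl]
    show (Sum.inl (ι v.2, v.1 + Function.extend ι (fun y => a * y) 0 (ι v.2)) : Pt p ℬ r) = _
    rw [ι.injective.extend_apply]
    rfl
  · intro β x hβ
    rw [tr_inl]
    show (Sum.inl (β, x + Function.extend ι (fun y => a * y) 0 β) : Pt p ℬ r) = _
    rw [extend_of_notMem ι _ _ β hβ]
    simp
  · intro i
    rw [tr_inr]

end Cfsg.Agent.Lib.Helper60_AF_HFORM
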