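import Mathlib
import Cfsg.Agent.Lib.Helper21_AltFusDefs

/-!
S5165 package AF-PCYC (helper21's market): the `p`-cycles of a `p`-group `D ⊇ BB` lie in `BB`, and
an element conjugating `BB` into such a `D` normalizes `BB`.  helper63.
-/

set_option autoImplicit false
set_option linter.unusedSectionVars false
set_option linter.unusedVariables false

open Equiv Equiv.Perm Cfsg.Agent.Lib.Helper67_SymSylow Cfsg.Agent.Lib.Helper21_AltFusDefs

namespace Cfsg.Agent.Lib.Helper63_AF_PCYC

/-- the setwise stabilizer of a set of points -/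
def stabSet {α : Type*} (U : Set α) : Subgroup (Perm α) where
  carrier := {g | ∀ u, g u ∈ U ↔ u ∈ U}
  one_mem' := fun u => Iff.rfl
  mul_mem' := by
    intro a b ha hb u
    show a (b u) ∈ U ↔ u ∈ U
    rw [ha, hb]
  inv_mem' := by
    intro a ha u
    rw [← ha (a⁻¹ u)]
    simp

theorem mem_stabSet {α : Type*} {U : Set α} {g : Perm α} :
    g ∈ stabSet U ↔ ∀ u, g u ∈ U ↔ u ∈ U := Iff.rfl

/-- a nontrivial `p`-element moves at least `p` points -/
theorem card_support_ge_of_pow {α : Type*} [Fintype α] [DecidableEq α] {p : ℕ} (hp : p.Prime)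
    (z : Perm α) (j : ℕ) (hz : z ^ p ^ j = 1) (hz1 : z ≠ 1) : p ≤ z.support.card := by
  have hne : z.cycleType ≠ 0 := by
    intro h0
    exact hz1 (cycleType_eq_zero.1 h0)
  obtain ⟨n, hn⟩ := Multiset.exists_mem_of_ne_zero hne
  have h1 : n ∣ orderOf z := dvd_of_mem_cycleType hn
  have h2 : orderOf z ∣ p ^ j := orderOf_dvd_of_pow_eq_one hz
  have h3 : 2 ≤ n := two_le_of_mem_cycleType hn
  obtain ⟨k, hk, rfl⟩ := (Nat.dvd_prime_pow hp).1 (h1.trans h2)
  have hk0 : k ≠ 0 := by
    rintro rfl
    simp at h3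
  have h4 : p ≤ p ^ k := by
    calc p = p ^ 1 := (pow_one p).symm
      _ ≤ p ^ k := Nat.pow_le_pow_right hp.pos (Nat.one_le_iff_ne_zero.2 hk0)
  have h5 : p ^ k ≤ z.cycleType.sum := Multiset.le_sum_of_mem hn
  rw [sum_cycleType] at h5
  exact h4.trans h5

variable {p : ℕ} [Fact p.Prime] {ℬ : Type} [Fintype ℬ] [DecidableEq ℬ] {r : ℕ}

/-- translation by `c` in the block `β` -/
def T (r : ℕ) (β : ℬ) (c : ZMod p) : Perm (Pt p ℬ r) :=
  tr p ℬ r (Multiplicative.ofAdd (Pi.single β c))

theorem T_mem_BB (β : ℬ) (c : ZMod p) : T r β c ∈ BB p ℬ r := ⟨_, rfl⟩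

theorem T_inl_same (β : ℬ) (c y : ZMod p) :
    T r β c (Sum.inl (β, y)) = Sum.inl (β, y + c) := by
  unfold T
  rw [tr_inl]
  simp

theorem T_inl_ne (β β' : ℬ) (hne : β' ≠ β) (c y : ZMod p) :
    T r β c (Sum.inl (β', y)) = Sum.inl (β', y) := by
  unfold T
  rw [tr_inl]
  simp [hne]

theorem T_inr (β : ℬ) (c : ZMod p) (i : Fin r) : T r β c (Sum.inr i) = Sum.inr i := rfl

/-- the block `β` as a set of points -/
def blk (r : ℕ) (β : ℬ) : Set (Pt p ℬ r) := Set.range (fun y : ZMod p => Sum.inl (β, y))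

theorem mem_blk {β : ℬ} {u : Pt p ℬ r} : u ∈ blk r β ↔ ∃ y : ZMod p, u = Sum.inl (β, y) := by
  constructor
  · rintro ⟨y, rfl⟩
    exact ⟨y, rfl⟩
  · rintro ⟨y, rfl⟩
    exact ⟨y, rfl⟩

theorem T_of_notMem_blk {β : ℬ} (c : ZMod p) {u : Pt p ℬ r} (hu : u ∉ blk r β) :
    T r β c u = u := by
  rcases u with ⟨β', y⟩ | i
  · by_cases hb : β' = β
    · subst hb
      exact absurd (mem_blk.2 ⟨y, rfl⟩) hu
    · exact T_inl_ne β β' hb c y
  · exact T_inr β c i

theorem T_mem_blk_iff {β : ℬ} (c : ZMod p) (u : Pt p ℬ r) :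
    T r β c u ∈ blk r β ↔ u ∈ blk r β := by
  constructor
  · intro h
    by_contra hu
    rw [T_of_notMem_blk c hu] at h
    exact hu h
  · rintro ⟨y, rfl⟩
    show T r β c (Sum.inl (β, y)) ∈ blk r β
    rw [T_inl_same]
    exact mem_blk.2 ⟨_, rfl⟩

theorem ncard_blk (β : ℬ) : (blk r β : Set (Pt p ℬ r)).ncard = p := by
  unfold blk
  rw [Set.ncard_eq_toFinset_card', Set.toFinset_range,
    Finset.card_image_of_injective _ (fun a b h => by
      have := Sum.inl_injective h
      exact (Prod.ext_iff.1 this).2), Finset.card_univ, ZMod.card]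

theorem pcycle_mem (hr : r < p) (D : Subgroup (Perm (Pt p ℬ r))) (hD : IsPGroup p D)
    (hBD : BB p ℬ r ≤ D) (x : Perm (Pt p ℬ r)) (hx : x ∈ D) (hc : x.cycleType = {p}) :
    x ∈ BB p ℬ r := by
  classical
  have hp : p.Prime := Fact.out
  have hcard : x.support.card = p := by
    rw [← sum_cycleType, hc]
    simp
  have hcyc : x.IsCycle := by
    rw [← card_cycleType_eq_one, hc]
    simp
  -- a point of the support of the form `inl (β, y)`
  obtain ⟨β, y, hω⟩ : ∃ (β : ℬ) (y : ZMod p), (Sum.inl (β, y) : Pt p ℬ r) ∈ x.support := by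
    by_contra hcon
    push Not at hcon
    have hsub : x.support ⊆ Finset.univ.image (Sum.inr : Fin r → Pt p ℬ r) := by
      intro u hu
      rcases u with ⟨β, y⟩ | i
      · exact absurd hu (hcon β y)
      · exact Finset.mem_image_of_mem _ (Finset.mem_univ i)
    have h1 := Finset.card_le_card hsub
    have h2 := Finset.card_image_le (s := Finset.univ) (f := (Sum.inr : Fin r → Pt p ℬ r))
    rw [Finset.card_univ, Fintype.card_fin] at h2
    omega
  have hωx : x (Sum.inl (β, y)) ≠ Sum.inl (β, y) := mem_support.1 hω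
  -- the group `K`
  have hKD : Subgroup.closure (insert x (Set.range (T r β))) ≤ D := by
    rw [Subgroup.closure_le]
    rintro g (rfl | ⟨c, rfl⟩)
    · exact hx
    · exact hBD (T_mem_BB β c)
  have hK : IsPGroup p ↥(Subgroup.closure (insert x (Set.range (T r β)))) := hD.to_le hKD
  -- `K` stabilises `U = supp x ∪ blk β`
  have hstab : Subgroup.closure (insert x (Set.range (T r β))) ≤
      stabSet ((x.support : Set (Pt p ℬ r)) ∪ blk r β) := by
    rw [Subgroup.closure_le]
    rintro g (rfl | ⟨c, rfl⟩)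
    · intro u
      by_cases hu : u ∈ g.support
      · have h1 : g u ∈ g.support := apply_mem_support.2 hu
        constructor
        · intro _
          exact Or.inl hu
        · intro _
          exact Or.inl h1
      · rw [notMem_support.1 hu]
    · intro u
      by_cases hu : u ∈ blk r β
      · have h1 : T r β c u ∈ blk r β := (T_mem_blk_iff c u).2 hu
        constructor
        · intro _
          exact Or.inr hu
        · intro _
          exact Or.inr h1
      · rw [T_of_notMem_blk c hu]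
  -- the orbit of `ω`
  have horb : MulAction.orbit ↥(Subgroup.closure (insert x (Set.range (T r β))))
      (Sum.inl (β, y) : Pt p ℬ r) = (x.support : Set (Pt p ℬ r)) ∪ blk r β := by
    apply Set.Subset.antisymm
    · rintro u ⟨⟨g, hg⟩, rfl⟩
      show g (Sum.inl (β, y)) ∈ _
      exact ((hstab hg) (Sum.inl (β, y))).2 (Or.inl hω)
    · rintro u (hu | hu)
      · obtain ⟨i, hi⟩ := hcyc.exists_pow_eq hωx (mem_support.1 hu)
        refine ⟨⟨x ^ i, Subgroup.pow_mem _ (Subgroup.subset_closure (Set.mem_insert _ _)) i⟩, ?_⟩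
        exact hi
      · obtain ⟨y', rfl⟩ := mem_blk.1 hu
        refine ⟨⟨T r β (y' - y), Subgroup.subset_closure
          (Set.mem_insert_of_mem _ ⟨y' - y, rfl⟩)⟩, ?_⟩
        show T r β (y' - y) (Sum.inl (β, y)) = Sum.inl (β, y')
        rw [T_inl_same]
        congr 2
        ring
  obtain ⟨n, hn⟩ := hK.card_orbit (Sum.inl (β, y) : Pt p ℬ r)
  rw [Nat.card_coe_set_eq, horb] at hn
  -- cardinalities
  have hA : ((x.support : Set (Pt p ℬ r))).ncard = p := by
    rw [Set.ncard_coe_finset, hcard]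
  have hB : (blk r β : Set (Pt p ℬ r)).ncard = p := ncard_blk β
  have hωB : (Sum.inl (β, y) : Pt p ℬ r) ∈ blk r β := mem_blk.2 ⟨y, rfl⟩
  have hui := Set.ncard_union_add_ncard_inter (x.support : Set (Pt p ℬ r)) (blk r β)
  have hint : 0 < ((x.support : Set (Pt p ℬ r)) ∩ blk r β).ncard :=
    (Set.ncard_pos).2 ⟨_, ⟨hω, hωB⟩⟩
  have hge : p ≤ ((x.support : Set (Pt p ℬ r)) ∪ blk r β).ncard := by
    have h1 := Set.ncard_le_ncard
      (Set.subset_union_left : (x.support : Set (Pt p ℬ r)) ⊆ ↑x.support ∪ blk r β)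
    rw [hA] at h1
    exact h1
  have hU : ((x.support : Set (Pt p ℬ r)) ∪ blk r β).ncard = p := by
    rw [hn] at hge hui ⊢
    rw [hA, hB] at hui
    have hp2 := hp.two_le
    rcases n with _ | _ | n
    · simp at hge
      omega
    · simp
    · exfalso
      have h3 : p * p ≤ p ^ (n + 1 + 1) := by
        calc p * p = p ^ 2 := (pow_two p).symm
          _ ≤ p ^ (n + 1 + 1) := Nat.pow_le_pow_right hp.pos (by omega)
      have h4 : 2 * p ≤ p * p := Nat.mul_le_mul_right p hp2
      omega
  have hsupp : (x.support : Set (Pt p ℬ r)) = blk r β := by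
    have e1 : (x.support : Set (Pt p ℬ r)) = (x.support : Set (Pt p ℬ r)) ∪ blk r β :=
      Set.eq_of_subset_of_ncard_le Set.subset_union_left (by rw [hU, hA])
    have e2 : blk r β = (x.support : Set (Pt p ℬ r)) ∪ blk r β :=
      Set.eq_of_subset_of_ncard_le Set.subset_union_right (by rw [hU, hB])
    rw [e2]
    exact e1
  -- `x ω`
  have hxω : x (Sum.inl (β, y)) ∈ blk r β := by
    rw [← hsupp]
    exact apply_mem_support.2 hω
  obtain ⟨y', hy'⟩ := mem_blk.1 hxω
  have hzD : T r β (y - y') * x ∈ D := D.mul_mem (hBD (T_mem_BB β _)) hx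
  obtain ⟨j, hj⟩ := hD ⟨T r β (y - y') * x, hzD⟩
  have hj' : (T r β (y - y') * x) ^ p ^ j = 1 := by
    have := congrArg Subtype.val hj
    simpa using this
  have hzω : (T r β (y - y') * x) (Sum.inl (β, y)) = Sum.inl (β, y) := by
    rw [Perm.mul_apply, hy', T_inl_same]
    congr 2
    ring
  have hz1 : T r β (y - y') * x = 1 := by
    by_contra hne
    have h1 := card_support_ge_of_pow hp _ j hj' hne
    have h2 : ((T r β (y - y') * x).support : Set (Pt p ℬ r)) ⊆
        blk r β \ {Sum.inl (β, y)} := by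
      intro u hu
      have hu' : (T r β (y - y') * x) u ≠ u := mem_support.1 hu
      refine ⟨?_, ?_⟩
      · by_contra hub
        apply hu'
        have hxu : x u = u := by
          have : u ∉ x.support := by
            intro h
            apply hub
            rw [← hsupp]
            exact h
          exact notMem_support.1 this
        rw [Perm.mul_apply, hxu, T_of_notMem_blk _ hub]
      · intro h
        rw [Set.mem_singleton_iff] at h
        rw [h] at hu'
        exact hu' hzω
    have h3 := Set.ncard_le_ncard h2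
    rw [Set.ncard_coe_finset, Set.ncard_sdiff_singleton_of_mem hωB, hB] at h3
    have := hp.two_le
    omega
  have hxe : x = (T r β (y - y'))⁻¹ := eq_inv_of_mul_eq_one_right hz1
  rw [hxe]
  exact (BB p ℬ r).inv_mem (T_mem_BB β _)

theorem T_zero (β : ℬ) : T r β (0 : ZMod p) = 1 := by
  unfold T
  have : (Multiplicative.ofAdd (Pi.single β (0 : ZMod p)) : Multiplicative (ℬ → ZMod p)) = 1 := by
    rw [Pi.single_zero]
    rfl
  rw [this, map_one]

theorem T_pow (β : ℬ) (c : ZMod p) : (T r β c) ^ p = 1 := by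
  unfold T
  rw [← map_pow]
  have : (Multiplicative.ofAdd (Pi.single β c) : Multiplicative (ℬ → ZMod p)) ^ p = 1 := by
    apply Multiplicative.toAdd.injective
    funext i
    simp
  rw [this, map_one]

theorem support_T (β : ℬ) {c : ZMod p} (hc : c ≠ 0) :
    ((T r β c).support : Set (Pt p ℬ r)) = blk r β := by
  ext u
  rw [Finset.mem_coe, mem_support]
  constructor
  · intro h
    by_contra hu
    exact h (T_of_notMem_blk c hu)
  · rintro ⟨y, rfl⟩
    show T r β c (Sum.inl (β, y)) ≠ Sum.inl (β, y)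
    rw [T_inl_same]
    intro h
    have h1 := Sum.inl_injective h
    have h2 : y + c = y := (Prod.ext_iff.1 h1).2
    exact hc (by linear_combination h2)

theorem cycleType_T (β : ℬ) {c : ZMod p} (hc : c ≠ 0) : (T r β c).cycleType = {p} := by
  have hp : p.Prime := Fact.out
  have hne : T r β c ≠ 1 := by
    intro h
    have h1 := congrArg (fun g : Perm (Pt p ℬ r) => g (Sum.inl (β, 0))) h
    simp only [T_inl_same, Perm.one_apply] at h1
    have h2 := Sum.inl_injective h1
    have h3 : (0 : ZMod p) + c = 0 := (Prod.ext_iff.1 h2).2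
    exact hc (by linear_combination h3)
  have hord : orderOf (T r β c) = p := orderOf_eq_prime (T_pow β c) hne
  obtain ⟨n, hn⟩ := cycleType_prime_order (σ := T r β c) (by rw [hord]; exact hp)
  have hs := sum_cycleType (T r β c)
  have hcard : (T r β c).support.card = p := by
    rw [← Set.ncard_coe_finset, support_T β hc, ncard_blk]
  rw [hn, hord, Multiset.sum_replicate, hcard, smul_eq_mul] at hs
  have hn0 : n = 0 := by
    have hp0 := hp.pos
    have : (n + 1) * p = 1 * p := by rw [hs, one_mul]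
    have := Nat.eq_of_mul_eq_mul_right hp0 this
    omega
  rw [hn, hord, hn0]
  rfl

theorem nz_of_conj_le (hr : r < p) (D : Subgroup (Perm (Pt p ℬ r))) (hD : IsPGroup p D)
    (hBD : BB p ℬ r ≤ D) (g : Perm (Pt p ℬ r)) (hg : ∀ b ∈ BB p ℬ r, g * b * g⁻¹ ∈ D) :
    Nz (BB p ℬ r) g := by
  rintro k ⟨f, rfl⟩
  -- the subgroup of all `f` with `g * tr f * g⁻¹ ∈ BB`
  have hM : ∀ f : Multiplicative (ℬ → ZMod p),
      f ∈ (BB p ℬ r).comap ((MulAut.conj g).toMonoidHom.comp (tr p ℬ r)) ↔
        g * tr p ℬ r f * g⁻¹ ∈ BB p ℬ r := by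
    intro f
    rw [Subgroup.mem_comap]
    rfl
  rw [← hM]
  have hf : f = ∏ β, Multiplicative.ofAdd (Pi.single β (Multiplicative.toAdd f β)) := by
    rw [← ofAdd_sum, Finset.univ_sum_single]
    rfl
  rw [hf]
  apply Subgroup.prod_mem
  intro β _
  rw [hM]
  show g * T r β (Multiplicative.toAdd f β) * g⁻¹ ∈ BB p ℬ r
  by_cases hc : Multiplicative.toAdd f β = 0
  · rw [hc, T_zero, mul_one, mul_inv_cancel]
    exact Subgroup.one_mem _
  · apply pcycle_mem hr D hD hBD _ (hg _ (T_mem_BB β _))
    rw [cycleType_conj]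
    exact cycleType_T β hc

end Cfsg.Agent.Lib.Helper63_AF_PCYC
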