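import Mathlib
import Cfsg.Agent.Lib.Helper21_AltFusDefs

set_option autoImplicit false
set_option linter.unusedSectionVars false
set_option linter.unusedVariables false

/-!
# S5165 package AF-CENTB (architect helper21): centralizers of the base group `BB` and of `BB ∩ Alt` (`p = 2`).
-/

open Equiv Equiv.Perm Cfsg.Agent.Lib.Helper67_SymSylow Cfsg.Agent.Lib.Helper21_AltFusDefs

namespace Cfsg.Agent.Lib.Helper71_AF_CENTB

variable {p : ℕ} [Fact p.Prime] {ℬ : Type} [Fintype ℬ] [DecidableEq ℬ] {r : ℕ}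

/-- the translation by `a` in the block `β` -/
def bt (p : ℕ) (ℬ : Type) [DecidableEq ℬ] (r : ℕ) (β : ℬ) (a : ZMod p) : Perm (Pt p ℬ r) :=
  tr p ℬ r (Multiplicative.ofAdd (Pi.single β a))

theorem bt_mem (β : ℬ) (a : ZMod p) : bt p ℬ r β a ∈ BB p ℬ r := ⟨_, rfl⟩

theorem bt_inl_same (β : ℬ) (a y : ZMod p) :
    bt p ℬ r β a (Sum.inl (β, y)) = Sum.inl (β, y + a) := by
  unfold bt
  rw [tr_inl]
  simp

theorem bt_inl_ne {β γ : ℬ} (h : γ ≠ β) (a y : ZMod p) :
    bt p ℬ r β a (Sum.inl (γ, y)) = Sum.inl (γ, y) := by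
  unfold bt
  rw [tr_inl]
  simp [h]

theorem bt_inr (β : ℬ) (a : ZMod p) (i : Fin r) :
    bt p ℬ r β a (Sum.inr i) = Sum.inr i := rfl

/-- a permutation commuting with all `bt β a`, `bt β' a` ... : general block-preservation lemma.
If `x` commutes with `c`, `c` moves `ω`, then `c` moves `x ω`. -/
theorem moves_of_comm {α : Type*} (x c : Perm α) (h : x * c = c * x) {ω : α} (hω : c ω ≠ ω) :
    c (x ω) ≠ x ω := by
  intro h1
  apply hω
  have h2 : x (c ω) = c (x ω) := by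
    have := congrArg (fun g : Perm α => g ω) h
    simpa using this
  rw [h1] at h2
  exact x.injective h2

/-- `1 ≠ 0` in `ZMod p`. -/
theorem one_ne_zero_zmod : (1 : ZMod p) ≠ 0 := by
  have : Fact (1 < p) := ⟨(Fact.out : p.Prime).one_lt⟩
  exact one_ne_zero

/-- `x` centralizing `BB` maps each block into itself. -/
theorem block_of_cz (x : Perm (Pt p ℬ r)) (hx : Cz (BB p ℬ r) x) (β : ℬ) (y : ZMod p) :
    ∃ y' : ZMod p, x (Sum.inl (β, y)) = Sum.inl (β, y') := by
  have hmv : bt p ℬ r β 1 (x (Sum.inl (β, y))) ≠ x (Sum.inl (β, y)) := by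
    apply moves_of_comm x _ (hx _ (bt_mem β 1))
    rw [bt_inl_same]
    intro h
    have h1 := Sum.inl_injective h
    have h2 : y + 1 = y := congrArg Prod.snd h1
    exact one_ne_zero_zmod (p := p) (by linear_combination h2)
  rcases hxo : x (Sum.inl (β, y)) with ⟨γ, y'⟩ | i
  · by_cases hγ : γ = β
    · subst hγ
      exact ⟨y', rfl⟩
    · exfalso
      apply hmv
      rw [hxo, bt_inl_ne hγ]
  · exfalso
    apply hmv
    rw [hxo, bt_inr]

theorem cz_inv {A : Type*} [Group A] (K : Subgroup A) (x : A) (hx : Cz K x) : Cz K x⁻¹ := by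
  intro k hk
  have h := hx k hk
  calc x⁻¹ * k = x⁻¹ * (k * x) * x⁻¹ := by group
    _ = x⁻¹ * (x * k) * x⁻¹ := by rw [h]
    _ = k * x⁻¹ := by group

/-- `Fin r` is a subsingleton for `r ≤ 1`. -/
theorem fin_eq (hr : r ≤ 1) (i j : Fin r) : i = j := by
  apply Fin.ext
  have := i.2
  have := j.2
  omega

/-- general principle: a permutation preserving every block (from both sides) fixes the `inr` points. -/
theorem inr_of_blocks (hr : r ≤ 1) (x : Perm (Pt p ℬ r))
    (hxi : ∀ (β : ℬ) (y : ZMod p), ∃ y' : ZMod p, x⁻¹ (Sum.inl (β, y)) = Sum.inl (β, y'))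
    (i : Fin r) : x (Sum.inr i) = Sum.inr i := by
  rcases hxo : x (Sum.inr i) with ⟨γ, y'⟩ | j
  · exfalso
    obtain ⟨y'', hy''⟩ := hxi γ y'
    rw [← hxo] at hy''
    simp at hy''
  · rw [fin_eq hr j i]

/-- **AF-CENTB**. -/
theorem cent_BB (hr : r ≤ 1) (x : Perm (Pt p ℬ r)) (hx : Cz (BB p ℬ r) x) : x ∈ BB p ℬ r := by
  have hbl := block_of_cz x hx
  have hbli := block_of_cz x⁻¹ (cz_inv _ x hx)
  choose g hg using hbl
  refine ⟨Multiplicative.ofAdd (fun β => g β 0), ?_⟩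
  ext ω
  rcases ω with ⟨β, y⟩ | i
  · rw [tr_inl]
    have h1 : x (bt p ℬ r β y (Sum.inl (β, 0))) = bt p ℬ r β y (x (Sum.inl (β, 0))) := by
      have := congrArg (fun k : Perm (Pt p ℬ r) => k (Sum.inl (β, 0))) (hx _ (bt_mem β y))
      simpa using this
    rw [bt_inl_same, hg β 0, bt_inl_same, zero_add] at h1
    rw [h1]
    simp [add_comm]
  · rw [tr_inr, inr_of_blocks hr x hbli i]

/-! ### `p = 2` -/

section two

theorem zmod2_one_ne_zero : (1 : ZMod 2) ≠ 0 := by decide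

theorem zmod2_zero_ne_one : (0 : ZMod 2) ≠ 1 := by decide

theorem zmod2_key : ∀ a b : ZMod 2, a ≠ b → 1 + b = a := by decide

/-- the product `bt β 1 * bt β' 1` is even (`p = 2`). -/
theorem bt_two_eq_swap (β : ℬ) :
    bt 2 ℬ r β 1 = swap (Sum.inl (β, 0)) (Sum.inl (β, 1)) := by
  ext ω
  rcases ω with ⟨γ, y⟩ | i
  · by_cases hγ : γ = β
    · subst hγ
      rw [bt_inl_same]
      have hy : y = 0 ∨ y = 1 := by
        fin_cases y
        · left; rfl
        · right; rfl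
      rcases hy with rfl | rfl
      · rw [swap_apply_left, zero_add]
      · rw [swap_apply_right]
        have : (1 : ZMod 2) + 1 = 0 := by decide
        rw [this]
    · rw [bt_inl_ne hγ, swap_apply_of_ne_of_ne]
      · intro h
        exact hγ (congrArg Prod.fst (Sum.inl_injective h))
      · intro h
        exact hγ (congrArg Prod.fst (Sum.inl_injective h))
  · rw [bt_inr, swap_apply_of_ne_of_ne] <;> simp

theorem bt_two_mem (β β' : ℬ) :
    bt 2 ℬ r β 1 * bt 2 ℬ r β' 1 ∈ BB 2 ℬ r ⊓ alternatingGroup (Pt 2 ℬ r) := by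
  refine ⟨(BB 2 ℬ r).mul_mem (bt_mem β 1) (bt_mem β' 1), ?_⟩
  show bt 2 ℬ r β 1 * bt 2 ℬ r β' 1 ∈ alternatingGroup (Pt 2 ℬ r)
  rw [Equiv.Perm.mem_alternatingGroup, map_mul, bt_two_eq_swap, bt_two_eq_swap,
    sign_swap, sign_swap]
  · rfl
  · intro h
    exact zmod2_zero_ne_one (congrArg Prod.snd (Sum.inl_injective h))
  · intro h
    exact zmod2_zero_ne_one (congrArg Prod.snd (Sum.inl_injective h))

theorem bt2_moves {β β' : ℬ} (h : β ≠ β') (y : ZMod 2) :
    (bt 2 ℬ r β 1 * bt 2 ℬ r β' 1) (Sum.inl (β, y)) ≠ Sum.inl (β, y) := by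
  rw [Perm.mul_apply, bt_inl_ne h, bt_inl_same]
  intro h1
  have h2 : y + 1 = y := congrArg Prod.snd (Sum.inl_injective h1)
  have : (1 : ZMod 2) = 0 := by linear_combination h2
  exact zmod2_one_ne_zero this

theorem bt2_fix_inl {β β' γ : ℬ} (h1 : γ ≠ β) (h2 : γ ≠ β') (y : ZMod 2) :
    (bt 2 ℬ r β 1 * bt 2 ℬ r β' 1) (Sum.inl (γ, y)) = Sum.inl (γ, y) := by
  rw [Perm.mul_apply, bt_inl_ne h2, bt_inl_ne h1]

/-- `x` centralizing `BB ∩ Alt` maps each block into itself (at least three blocks). -/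
theorem block_of_cz_two (h3 : 3 ≤ Fintype.card ℬ) (x : Perm (Pt 2 ℬ r))
    (hx : Cz (BB 2 ℬ r ⊓ alternatingGroup (Pt 2 ℬ r)) x) (β : ℬ) (y : ZMod 2) :
    ∃ y' : ZMod 2, x (Sum.inl (β, y)) = Sum.inl (β, y') := by
  -- two further blocks
  obtain ⟨β', hβ'⟩ : ∃ β' : ℬ, β' ≠ β := by
    by_contra hcon
    push Not at hcon
    have : Fintype.card ℬ ≤ 1 := Fintype.card_le_one_iff.mpr (fun a b => (hcon a).trans (hcon b).symm)
    omega
  obtain ⟨β'', hβ''1, hβ''2⟩ : ∃ β'' : ℬ, β'' ≠ β ∧ β'' ≠ β' := by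
    by_contra hcon
    push Not at hcon
    have hsub : (Finset.univ : Finset ℬ) ⊆ {β, β'} := by
      intro a _
      by_cases ha : a = β
      · simp [ha]
      · simp [hcon a ha]
    have := Finset.card_le_card hsub
    rw [Finset.card_univ] at this
    have h2 : ({β, β'} : Finset ℬ).card ≤ 2 := Finset.card_le_two
    omega
  have hm1 := moves_of_comm x _ (hx _ (bt_two_mem (r := r) β β')) (bt2_moves hβ'.symm y)
  have hm2 := moves_of_comm x _ (hx _ (bt_two_mem (r := r) β β'')) (bt2_moves hβ''1.symm y)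
  rcases hxo : x (Sum.inl (β, y)) with ⟨γ, y'⟩ | i
  · by_cases hγ : γ = β
    · subst hγ
      exact ⟨y', rfl⟩
    · exfalso
      rw [hxo] at hm1 hm2
      by_cases hγ' : γ = β'
      · subst hγ'
        exact hm2 (bt2_fix_inl hγ hβ''2.symm y')
      · exact hm1 (bt2_fix_inl hγ hγ' y')
  · exfalso
    rw [hxo] at hm1
    exact hm1 rfl

/-- **AF-CENTB**, `p = 2`. -/
theorem cent_BB_alt_two (h3 : 3 ≤ Fintype.card ℬ) (hr : r ≤ 1) (x : Perm (Pt 2 ℬ r))
    (hx : Cz (BB 2 ℬ r ⊓ alternatingGroup (Pt 2 ℬ r)) x) : x ∈ BB 2 ℬ r := by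
  have hbl := block_of_cz_two h3 x hx
  have hbli := block_of_cz_two h3 x⁻¹ (cz_inv _ x hx)
  choose g hg using hbl
  refine ⟨Multiplicative.ofAdd (fun β => g β 0), ?_⟩
  ext ω
  rcases ω with ⟨β, y⟩ | i
  · rw [tr_inl, hg β y]
    show Sum.inl (β, y + g β 0) = Sum.inl (β, g β y)
    congr 2
    have hy : y = 0 ∨ y = 1 := by
      fin_cases y
      · left; rfl
      · right; rfl
    rcases hy with rfl | rfl
    · rw [zero_add]
    · -- `g β 1 ≠ g β 0`
      have hne : g β 1 ≠ g β 0 := by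
        intro h
        have h1 : x (Sum.inl (β, 1)) = x (Sum.inl (β, 0)) := by rw [hg β 1, hg β 0, h]
        have h2 := Sum.inl_injective (x.injective h1)
        have h3 : (1 : ZMod 2) = 0 := congrArg Prod.snd h2
        exact zmod2_one_ne_zero h3
      exact zmod2_key _ _ hne
  · rw [tr_inr, inr_of_blocks (p := 2) hr x hbli i]

end two

end Cfsg.Agent.Lib.Helper71_AF_CENTB
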