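import Mathlib
import Cfsg.Agent.Lib.Helper21_AltFusDefs
import Cfsg.Agent.Lib.Helper71_AF_CENTB

set_option autoImplicit false
set_option linter.unusedSectionVars false
set_option linter.unusedVariables false

/-!
# S5165 package AF-QCENT (architect helper21): `C(QQ) = QQ`.
-/

open Equiv Equiv.Perm Cfsg.Agent.Lib.Helper67_SymSylow Cfsg.Agent.Lib.Helper21_AltFusDefs
open Cfsg.Agent.Lib.Helper71_AF_CENTB

namespace Cfsg.Agent.Lib.Helper71_AF_QCENT

variable {p : ℕ} [Fact p.Prime] {ℬ : Type} [Fintype ℬ] [DecidableEq ℬ] {r : ℕ}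

/-! ### the translations `shY` -/

theorem shY_mul (a b : ZMod p) : shY p a * shY p b = shY p (a + b) := by
  ext v
  · rfl
  · show v.2 + b + a = v.2 + (a + b)
    ring

theorem shY_zero : shY p (0 : ZMod p) = 1 := by
  ext v
  · rfl
  · show v.2 + 0 = v.2
    rw [add_zero]

theorem shY_one_pow (n : ℕ) : (shY p (1 : ZMod p)) ^ n = shY p (n : ZMod p) := by
  induction n with
  | zero => rw [pow_zero, Nat.cast_zero, shY_zero]
  | succ n ih => rw [pow_succ, ih, shY_mul, Nat.cast_succ]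

/-- the block translation `(x, y) ↦ (x, y + k)` on the `p²`-block -/
noncomputable def Tk (r : ℕ) (ι : ZMod p ↪ ℬ) (k : ZMod p) : Perm (Pt p ℬ r) := bp r ι (shY p k)

theorem Tk_mem_zpowers (ι : ZMod p ↪ ℬ) (k : ZMod p) :
    Tk r ι k ∈ Subgroup.zpowers (tau r ι) := by
  refine ⟨(k.val : ℤ), ?_⟩
  show (tau r ι) ^ (k.val : ℤ) = Tk r ι k
  rw [zpow_natCast]
  unfold tau Tk
  rw [← map_pow, shY_one_pow, ZMod.natCast_zmod_val]

theorem Tk_mem (ι : ZMod p ↪ ℬ) (k : ZMod p) : Tk r ι k ∈ QQ r ι :=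
  Subgroup.mem_sup_right (Tk_mem_zpowers ι k)

theorem Tk_sq (ι : ZMod p ↪ ℬ) (k a j : ZMod p) :
    Tk r ι k (Sum.inl (ι j, a)) = Sum.inl (ι (j + k), a) := by
  have h := bp_sq r ι (shY p k) (a, j)
  exact h

theorem Tk_inl_of_notMem (ι : ZMod p ↪ ℬ) (k : ZMod p) {β : ℬ} (hβ : β ∉ Set.range ι)
    (y : ZMod p) : Tk r ι k (Sum.inl (β, y)) = Sum.inl (β, y) := by
  apply bp_of_notMem
  rintro ⟨v, hv⟩
  apply hβ
  have h1 := Sum.inl_injective hv
  exact ⟨v.2, congrArg Prod.fst h1⟩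

theorem Tk_inr (ι : ZMod p ↪ ℬ) (k : ZMod p) (i : Fin r) :
    Tk r ι k (Sum.inr i) = Sum.inr i := by
  apply bp_of_notMem
  rintro ⟨v, hv⟩
  simp at hv

/-! ### the translations `za` -/

open Classical in
/-- the vector `a` on `range ι`, `0` elsewhere -/
noncomputable def zvec (ι : ZMod p ↪ ℬ) (a : ZMod p) : Multiplicative (ℬ → ZMod p) :=
  Multiplicative.ofAdd (fun β => if β ∈ Set.range ι then a else 0)

theorem zvec_mem (ι : ZMod p ↪ ℬ) (a : ZMod p) : zvec ι a ∈ VQ ι := by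
  intro y y'
  show (if ι y ∈ Set.range ι then a else 0) = (if ι y' ∈ Set.range ι then a else 0)
  rw [if_pos ⟨y, rfl⟩, if_pos ⟨y', rfl⟩]

/-- translation by `a` in all fibres of the `p²`-block -/
noncomputable def za (r : ℕ) (ι : ZMod p ↪ ℬ) (a : ZMod p) : Perm (Pt p ℬ r) :=
  tr p ℬ r (zvec ι a)

theorem za_mem (ι : ZMod p ↪ ℬ) (a : ZMod p) : za r ι a ∈ QQ r ι :=
  Subgroup.mem_sup_left (Subgroup.mem_map_of_mem _ (zvec_mem ι a))

theorem za_sq (ι : ZMod p ↪ ℬ) (a y j : ZMod p) :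
    za r ι a (Sum.inl (ι j, y)) = Sum.inl (ι j, y + a) := by
  unfold za
  rw [tr_inl]
  show Sum.inl (ι j, y + (if ι j ∈ Set.range ι then a else 0)) = _
  rw [if_pos ⟨j, rfl⟩]

theorem za_inl_of_notMem (ι : ZMod p ↪ ℬ) (a : ZMod p) {β : ℬ} (hβ : β ∉ Set.range ι)
    (y : ZMod p) : za r ι a (Sum.inl (β, y)) = Sum.inl (β, y) := by
  unfold za
  rw [tr_inl]
  show Sum.inl (β, y + (if β ∈ Set.range ι then a else 0)) = _
  rw [if_neg hβ, add_zero]

theorem bt_mem_QQ (ι : ZMod p ↪ ℬ) {β : ℬ} (hβ : β ∉ Set.range ι) (a : ZMod p) :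
    bt p ℬ r β a ∈ QQ r ι := by
  apply Subgroup.mem_sup_left
  apply Subgroup.mem_map_of_mem
  intro y y'
  show (Pi.single β a : ℬ → ZMod p) (ι y) = (Pi.single β a : ℬ → ZMod p) (ι y')
  rw [Pi.single_apply, Pi.single_apply, if_neg, if_neg]
  · intro h; exact hβ ⟨y', h⟩
  · intro h; exact hβ ⟨y, h⟩

/-! ### the structure of an element centralizing `QQ` -/

/-- outside the `p²`-block, `x` preserves each block. -/
theorem block_out (ι : ZMod p ↪ ℬ) (x : Perm (Pt p ℬ r)) (hx : Cz (QQ r ι) x) {β : ℬ}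
    (hβ : β ∉ Set.range ι) (y : ZMod p) :
    ∃ y' : ZMod p, x (Sum.inl (β, y)) = Sum.inl (β, y') := by
  have hmv : bt p ℬ r β 1 (x (Sum.inl (β, y))) ≠ x (Sum.inl (β, y)) := by
    apply moves_of_comm x _ (hx _ (bt_mem_QQ ι hβ 1))
    rw [bt_inl_same]
    intro h
    have h1 := Sum.inl_injective h
    have h2 : y + 1 = y := congrArg Prod.snd h1
    exact one_ne_zero_zmod (p := p) (by linear_combination h2)
  rcases hxo : x (Sum.inl (β, y)) with ⟨γ, y'⟩ | i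
  · by_cases hγ : γ = β
    · subst hγ
      exact ⟨y', rfl⟩
    · exfalso
      apply hmv
      rw [hxo, bt_inl_ne hγ]
  · exfalso
    apply hmv
    rw [hxo, bt_inr]

/-- `x` preserves the `p²`-block. -/
theorem block_in (ι : ZMod p ↪ ℬ) (x : Perm (Pt p ℬ r)) (hx : Cz (QQ r ι) x) (j y : ZMod p) :
    ∃ j' y' : ZMod p, x (Sum.inl (ι j, y)) = Sum.inl (ι j', y') := by
  have hmv : za r ι 1 (x (Sum.inl (ι j, y))) ≠ x (Sum.inl (ι j, y)) := by
    apply moves_of_comm x _ (hx _ (za_mem ι 1))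
    rw [za_sq]
    intro h
    have h1 := Sum.inl_injective h
    have h2 : y + 1 = y := congrArg Prod.snd h1
    exact one_ne_zero_zmod (p := p) (by linear_combination h2)
  rcases hxo : x (Sum.inl (ι j, y)) with ⟨γ, y'⟩ | i
  · by_cases hγ : γ ∈ Set.range ι
    · obtain ⟨j', rfl⟩ := hγ
      exact ⟨j', y', rfl⟩
    · exfalso
      apply hmv
      rw [hxo, za_inl_of_notMem ι 1 hγ]
  · exfalso
    apply hmv
    rw [hxo]
    rfl

/-- `x` maps `inl` points to `inl` points. -/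
theorem inl_of_cz (ι : ZMod p ↪ ℬ) (x : Perm (Pt p ℬ r)) (hx : Cz (QQ r ι) x)
    (q : ℬ × ZMod p) : ∃ q' : ℬ × ZMod p, x (Sum.inl q) = Sum.inl q' := by
  obtain ⟨β, y⟩ := q
  by_cases hβ : β ∈ Set.range ι
  · obtain ⟨j, rfl⟩ := hβ
    obtain ⟨j', y', h⟩ := block_in ι x hx j y
    exact ⟨_, h⟩
  · obtain ⟨y', h⟩ := block_out ι x hx hβ y
    exact ⟨_, h⟩

theorem inr_of_cz (hr : r ≤ 1) (ι : ZMod p ↪ ℬ) (x : Perm (Pt p ℬ r)) (hx : Cz (QQ r ι) x)
    (i : Fin r) : x (Sum.inr i) = Sum.inr i := by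
  rcases hxo : x (Sum.inr i) with q | j
  · exfalso
    obtain ⟨q', hq'⟩ := inl_of_cz ι x⁻¹ (cz_inv _ x hx) q
    rw [← hxo] at hq'
    simp at hq'
  · rw [fin_eq hr j i]

theorem comm_apply {α : Type*} (x c : Perm α) (h : x * c = c * x) (ω : α) :
    x (c ω) = c (x ω) := by
  have := congrArg (fun g : Perm α => g ω) h
  simpa using this

/-- **AF-QCENT**. -/
theorem cent_QQ (hr : r ≤ 1) (ι : ZMod p ↪ ℬ) (x : Perm (Pt p ℬ r)) (hx : Cz (QQ r ι) x) :
    x ∈ QQ r ι := by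
  classical
  -- the image of the origin of the `p²`-block
  obtain ⟨k0, a0, h0⟩ := block_in ι x hx 0 0
  -- `x` on the `p²`-block
  have hin : ∀ j y : ZMod p, x (Sum.inl (ι j, y)) = Sum.inl (ι (k0 + j), a0 + y) := by
    intro j y
    have e1 : (Sum.inl (ι j, y) : Pt p ℬ r) = za r ι y (Tk r ι j (Sum.inl (ι 0, 0))) := by
      rw [Tk_sq, za_sq, zero_add, zero_add]
    rw [e1, comm_apply x _ (hx _ (za_mem ι y)), comm_apply x _ (hx _ (Tk_mem ι j)), h0, Tk_sq,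
      za_sq]
  -- `x` outside
  obtain ⟨g, hg⟩ : ∃ g : ℬ → ZMod p, ∀ β, β ∉ Set.range ι → ∀ y : ZMod p,
      x (Sum.inl (β, y)) = Sum.inl (β, y + g β) := by
    refine ⟨fun β => Sum.elim (fun q => q.2) (fun _ => 0) (x (Sum.inl (β, 0))), ?_⟩
    intro β hβ y
    obtain ⟨y', hy'⟩ := block_out ι x hx hβ 0
    have e1 : (Sum.inl (β, y) : Pt p ℬ r) = bt p ℬ r β y (Sum.inl (β, 0)) := by
      rw [bt_inl_same, zero_add]
    have hgβ : Sum.elim (fun q : ℬ × ZMod p => q.2) (fun _ : Fin r => (0 : ZMod p))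
        (x (Sum.inl (β, 0))) = y' := by rw [hy']; rfl
    rw [e1, comm_apply x _ (hx _ (bt_mem_QQ ι hβ y)), hy', bt_inl_same]
    show Sum.inl (β, y' + y) = Sum.inl (β, y + Sum.elim (fun q : ℬ × ZMod p => q.2)
      (fun _ : Fin r => (0 : ZMod p)) (x (Sum.inl (β, 0))))
    rw [hgβ, add_comm]
  -- the candidate
  obtain ⟨F, hF⟩ : ∃ F : Multiplicative (ℬ → ZMod p), F =
      Multiplicative.ofAdd (fun β => if β ∈ Set.range ι then a0 else g β) := ⟨_, rfl⟩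
  have hFV : F ∈ VQ ι := by
    intro y y'
    rw [hF]
    show (if ι y ∈ Set.range ι then a0 else g (ι y)) = (if ι y' ∈ Set.range ι then a0 else g (ι y'))
    rw [if_pos ⟨y, rfl⟩, if_pos ⟨y', rfl⟩]
  have hxF : x = tr p ℬ r F * Tk r ι k0 := by
    ext ω
    rcases ω with ⟨β, y⟩ | i
    · by_cases hβ : β ∈ Set.range ι
      · obtain ⟨j, rfl⟩ := hβ
        rw [hin, Perm.mul_apply, Tk_sq, tr_inl, hF]
        show _ = Sum.inl (ι (j + k0), y + (if ι (j + k0) ∈ Set.range ι then a0 else g (ι (j + k0))))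
        rw [if_pos ⟨_, rfl⟩, add_comm k0 j, add_comm a0 y]
      · rw [hg β hβ, Perm.mul_apply, Tk_inl_of_notMem ι k0 hβ, tr_inl, hF]
        show _ = Sum.inl (β, y + (if β ∈ Set.range ι then a0 else g β))
        rw [if_neg hβ]
    · rw [inr_of_cz hr ι x hx, Perm.mul_apply, Tk_inr, tr_inr]
  rw [hxF]
  exact (QQ r ι).mul_mem (Subgroup.mem_sup_left (Subgroup.mem_map_of_mem _ hFV)) (Tk_mem ι k0)

end Cfsg.Agent.Lib.Helper71_AF_QCENT
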