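import Mathlib
import Cfsg.Agent.Lib.Helper21_AltFusDefs

set_option autoImplicit false
set_option linter.unusedSectionVars false
set_option linter.unusedVariables false

/-
helper32: S5165 package AF-GENA (helper21's market): `T0_mem` VERBATIM.
`tr f * sc t` with `∏ t = 1` lies in the subgroup generated by the `p`-elements of `N(BB) ∩ Alt`.
-/

open Equiv Equiv.Perm Cfsg.Agent.Lib.Helper67_SymSylow Cfsg.Agent.Lib.Helper21_AltFusDefs

namespace Cfsg.Agent.Lib.Helper32_AF_GENA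

variable {p : ℕ} [Fact p.Prime] {ℬ : Type} [Fintype ℬ] [DecidableEq ℬ] {r : ℕ}

/-! ### conjugation relations -/

theorem lf_conj_tr (σ : Perm ℬ) (f : Multiplicative (ℬ → ZMod p)) :
    lf p ℬ r σ * tr p ℬ r f * (lf p ℬ r σ)⁻¹ =
      tr p ℬ r (Multiplicative.ofAdd fun β => Multiplicative.toAdd f (σ⁻¹ β)) := by
  show (inlPerm _ _) (topHom p ℬ σ) * (inlPerm _ _) (baseHom p ℬ f) *
      ((inlPerm _ _) (topHom p ℬ σ))⁻¹ = (inlPerm _ _) (baseHom p ℬ _)
  rw [← map_inv, ← map_mul, ← map_mul, top_conj_base]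

theorem perm_inv_apply_self {α : Type*} (ρ : Perm α) (x : α) : ρ⁻¹ (ρ x) = x :=
  Equiv.Perm.inv_eq_iff_eq.mpr rfl

theorem perm_apply_inv_self {α : Type*} (ρ : Perm α) (x : α) : ρ (ρ⁻¹ x) = x :=
  (Equiv.eq_symm_apply ρ).mp rfl

theorem sc_conj_tr (t : ℬ → (ZMod p)ˣ) (f : Multiplicative (ℬ → ZMod p)) :
    sc p ℬ r t * tr p ℬ r f * (sc p ℬ r t)⁻¹ =
      tr p ℬ r (Multiplicative.ofAdd fun β => (t β : ZMod p) * Multiplicative.toAdd f β) := by
  rw [mul_inv_eq_iff_eq_mul]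
  ext ω
  rcases ω with ⟨β, y⟩ | i
  · simp only [Perm.coe_mul, Function.comp_apply, sc_inl, tr_inl, toAdd_ofAdd]
    rw [mul_add]
  · simp

theorem lf_conj_sc (σ : Perm ℬ) (t : ℬ → (ZMod p)ˣ) :
    lf p ℬ r σ * sc p ℬ r t * (lf p ℬ r σ)⁻¹ = sc p ℬ r (fun β => t (σ⁻¹ β)) := by
  rw [mul_inv_eq_iff_eq_mul]
  ext ω
  rcases ω with ⟨β, y⟩ | i
  · simp only [Perm.coe_mul, Function.comp_apply, sc_inl, lf_inl, perm_inv_apply_self]
  · simp

/-! ### normalizing `BB` -/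

theorem nz_mul {A : Type*} [Group A] {K : Subgroup A} {x y : A} (hx : Nz K x) (hy : Nz K y) :
    Nz K (x * y) := by
  intro k hk
  have := hx _ (hy k hk)
  have e : x * y * k * (x * y)⁻¹ = x * (y * k * y⁻¹) * x⁻¹ := by group
  rw [e]; exact this

theorem nz_tr (f : Multiplicative (ℬ → ZMod p)) : Nz (BB p ℬ r) (tr p ℬ r f) := by
  rintro _ ⟨g, rfl⟩
  exact ⟨f * g * f⁻¹, by rw [map_mul, map_mul, map_inv]⟩

theorem nz_lf (σ : Perm ℬ) : Nz (BB p ℬ r) (lf p ℬ r σ) := by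
  rintro _ ⟨g, rfl⟩
  rw [lf_conj_tr]
  exact ⟨_, rfl⟩

theorem nz_sc (t : ℬ → (ZMod p)ˣ) : Nz (BB p ℬ r) (sc p ℬ r t) := by
  rintro _ ⟨g, rfl⟩
  rw [sc_conj_tr]
  exact ⟨_, rfl⟩

/-- an element of odd prime power order is even -/
theorem sign_eq_one_of_pow' {α : Type*} [Fintype α] [DecidableEq α] (hp : p ≠ 2)
    (x : Perm α) (k : ℕ) (hx : x ^ p ^ k = 1) : sign x = 1 := by
  have hodd : Odd (p ^ k) := Odd.pow ((Fact.out : p.Prime).odd_of_ne_two hp)
  have h1 : sign x ^ (p ^ k) = 1 := by rw [← map_pow, hx, map_one]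
  rcases Int.units_eq_one_or (sign x) with h | h
  · exact h
  · rw [h, Odd.neg_one_pow hodd] at h1
    exact absurd h1 (by decide)

theorem tr_pow (f : Multiplicative (ℬ → ZMod p)) : (tr p ℬ r f) ^ p = 1 := by
  rw [← map_pow]
  have : f ^ p = 1 := by
    apply Multiplicative.toAdd.injective
    funext i
    show (p : ℕ) • Multiplicative.toAdd f i = 0
    rw [nsmul_eq_mul, ZMod.natCast_self, zero_mul]
  rw [this, map_one]

theorem tr_mem_PEl (hp : p ≠ 2) (f : Multiplicative (ℬ → ZMod p)) : tr p ℬ r f ∈ PEl p ℬ r := by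
  refine ⟨nz_tr f, ?_, 1, by rw [pow_one]; exact tr_pow f⟩
  exact Equiv.Perm.mem_alternatingGroup.mpr
    (sign_eq_one_of_pow' hp _ 1 (by rw [pow_one]; exact tr_pow f))

/-- conjugates (by elements normalizing `BB`) of `lf ρ`, `ρ ^ p = 1`, are in `PEl` -/
theorem conj_lf_mem_PEl (hp : p ≠ 2) {ρ : Perm ℬ} (hρ : ρ ^ p = 1) (d : Perm (Pt p ℬ r))
    (hd : Nz (BB p ℬ r) d) (hd' : Nz (BB p ℬ r) d⁻¹) :
    d * lf p ℬ r ρ * d⁻¹ ∈ PEl p ℬ r := by
  have hpow : (d * lf p ℬ r ρ * d⁻¹) ^ p = 1 := by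
    rw [conj_pow, ← map_pow, hρ, map_one, mul_one, mul_inv_cancel]
  refine ⟨nz_mul (nz_mul hd (nz_lf ρ)) hd', ?_, 1, by rw [pow_one]; exact hpow⟩
  exact Equiv.Perm.mem_alternatingGroup.mpr
    (sign_eq_one_of_pow' hp _ 1 (by rw [pow_one]; exact hpow))

/-- a permutation with prescribed values at two points -/
theorem exists_perm_two {α : Type*} [DecidableEq α] {a a' b b' : α} (ha : a ≠ a') (hb : b ≠ b') :
    ∃ π : Perm α, π a = b ∧ π a' = b' := by
  set π₁ : Perm α := swap a b with hπ₁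
  have h1 : π₁ a = b := swap_apply_left a b
  have hc : π₁ a' ≠ b := by
    intro h
    rw [← h1] at h
    exact ha (π₁.injective h).symm
  refine ⟨swap (π₁ a') b' * π₁, ?_, ?_⟩
  · rw [Perm.mul_apply, h1, swap_apply_of_ne_of_ne (Ne.symm hc) hb]
  · rw [Perm.mul_apply, swap_apply_left]

/-- an element of order dividing `p` of `Perm ℬ` moving `β` to `β'` -/
theorem exists_rho (hcard : p ≤ Fintype.card ℬ) {β β' : ℬ} (hβ : β ≠ β') :
    ∃ ρ : Perm ℬ, ρ ^ p = 1 ∧ ρ β = β' := by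
  classical
  have hne : Nonempty (ZMod p ↪ ℬ) := by
    apply Function.Embedding.nonempty_of_card_le
    rw [ZMod.card]
    exact hcard
  obtain ⟨κ⟩ := hne
  have h01 : (0 : ZMod p) ≠ 1 := by
    have : Fact (1 < p) := ⟨(Fact.out : p.Prime).one_lt⟩
    exact zero_ne_one
  have hκ : κ 0 ≠ κ 1 := fun h => h01 (κ.injective h)
  obtain ⟨π, hπ0, hπ1⟩ := exists_perm_two hκ hβ
  set ρ₀ : Perm ℬ := Equiv.Perm.viaEmbedding (Equiv.addRight (1 : ZMod p)) κ with hρ₀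
  have hρ₀p : ρ₀ ^ p = 1 := by
    have h1 : ρ₀ = Equiv.Perm.viaEmbeddingHom κ (Equiv.addRight (1 : ZMod p)) := rfl
    rw [h1, ← map_pow]
    have h2 : (Equiv.addRight (1 : ZMod p)) ^ p = 1 := by
      ext y
      rw [Equiv.Perm.coe_pow]
      have : ∀ n : ℕ, ((Equiv.addRight (1 : ZMod p)) : ZMod p → ZMod p)^[n] y = y + n := by
        intro n
        induction n with
        | zero => simp
        | succ n ih =>
          rw [Function.iterate_succ_apply', ih]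
          simp [add_assoc]
      rw [this]
      simp
    rw [h2, map_one]
  refine ⟨π * ρ₀ * π⁻¹, ?_, ?_⟩
  · rw [conj_pow, hρ₀p, mul_one, mul_inv_cancel]
  · rw [Perm.mul_apply, Perm.mul_apply, ← hπ0, perm_inv_apply_self, hρ₀,
      Equiv.Perm.viaEmbedding_apply]
    show π (κ (0 + 1)) = β'
    rw [zero_add, hπ1]

/-- the basic torus elements of `T₀` are products of two `p`-elements -/
theorem sc_pair_mem (hp : p ≠ 2) (hcard : p ≤ Fintype.card ℬ) {β β' : ℬ} (hβ : β ≠ β')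
    (u : (ZMod p)ˣ) :
    sc p ℬ r (Pi.mulSingle β u * Pi.mulSingle β' u⁻¹) ∈ Subgroup.closure (PEl p ℬ r) := by
  obtain ⟨ρ, hρp, hρβ⟩ := exists_rho hcard hβ
  set d : Perm (Pt p ℬ r) := sc p ℬ r (Pi.mulSingle β u) with hd
  have hdinv : d⁻¹ = sc p ℬ r (Pi.mulSingle β u)⁻¹ := (map_inv _ _).symm
  have h1 : d * lf p ℬ r ρ * d⁻¹ ∈ PEl p ℬ r :=
    conj_lf_mem_PEl hp hρp d (nz_sc _) (by rw [hdinv]; exact nz_sc _)
  have h2 : lf p ℬ r ρ ∈ PEl p ℬ r := by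
    have := conj_lf_mem_PEl (r := r) hp hρp 1 (by intro k hk; simpa using hk)
      (by intro k hk; simpa using hk)
    simpa using this
  have h3 : sc p ℬ r (Pi.mulSingle β u * Pi.mulSingle β' u⁻¹) =
      (d * lf p ℬ r ρ * d⁻¹) * (lf p ℬ r ρ)⁻¹ := by
    have e1 : d * lf p ℬ r ρ * d⁻¹ * (lf p ℬ r ρ)⁻¹ =
        d * (lf p ℬ r ρ * d⁻¹ * (lf p ℬ r ρ)⁻¹) := by group
    rw [e1, hdinv, lf_conj_sc, hd, ← map_mul]
    congr 1
    funext γ
    simp only [Pi.mul_apply, Pi.inv_apply]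
    congr 1
    by_cases hγ : γ = β'
    · subst hγ
      have : ρ⁻¹ (ρ β) = β := perm_inv_apply_self ρ β
      rw [← hρβ, this, Pi.mulSingle_eq_same, Pi.mulSingle_eq_same]
    · have : ρ⁻¹ γ ≠ β := by
        intro h
        apply hγ
        rw [← hρβ, ← h, perm_apply_inv_self]
      rw [Pi.mulSingle_eq_of_ne this, Pi.mulSingle_eq_of_ne hγ, inv_one]
  rw [h3]
  exact Subgroup.mul_mem _ (Subgroup.subset_closure h1)
    (Subgroup.inv_mem _ (Subgroup.subset_closure h2))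

theorem T0_mem (hp : p ≠ 2) (hcard : p ≤ Fintype.card ℬ) (f : Multiplicative (ℬ → ZMod p))
    (t : ℬ → (ZMod p)ˣ) (ht : ∏ β, t β = 1) :
    tr p ℬ r f * sc p ℬ r t ∈ Subgroup.closure (PEl p ℬ r) := by
  classical
  refine Subgroup.mul_mem _ (Subgroup.subset_closure (tr_mem_PEl hp f)) ?_
  have hpos : 0 < Fintype.card ℬ := lt_of_lt_of_le (Fact.out : p.Prime).pos hcard
  obtain ⟨β₀⟩ := Fintype.card_pos_iff.mp hpos
  have hdec : t = ∏ β, (Pi.mulSingle β (t β) * Pi.mulSingle β₀ (t β)⁻¹) := by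
    rw [Finset.prod_mul_distrib, Finset.univ_prod_mulSingle]
    have h2 : ∏ β, (Pi.mulSingle β₀ (t β)⁻¹ : ℬ → (ZMod p)ˣ) = 1 := by
      have h3 : ∀ β, (Pi.mulSingle β₀ (t β)⁻¹ : ℬ → (ZMod p)ˣ) =
          MonoidHom.mulSingle (fun _ : ℬ => (ZMod p)ˣ) β₀ ((t β)⁻¹) := fun β => rfl
      simp only [h3]
      rw [← map_prod, Finset.prod_inv_distrib, ht, inv_one, map_one]
    rw [h2, mul_one]
  have hmem : t ∈ (Subgroup.closure (PEl p ℬ r)).comap (sc p ℬ r) := by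
    rw [hdec]
    apply Subgroup.prod_mem
    intro β _
    rw [Subgroup.mem_comap]
    by_cases hβ : β = β₀
    · subst hβ
      have : (Pi.mulSingle β (t β) * Pi.mulSingle β (t β)⁻¹ : ℬ → (ZMod p)ˣ) = 1 := by
        rw [← Pi.mulSingle_mul, mul_inv_cancel, Pi.mulSingle_one]
      rw [this, map_one]
      exact Subgroup.one_mem _
    · exact sc_pair_mem hp hcard hβ (t β)
  exact hmem

end Cfsg.Agent.Lib.Helper32_AF_GENA
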