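import Mathlib
import Cfsg.Agent.Lib.Helper21_AltFusDefs

/-!
# S5165 package AF-GENB (helper42, for architect helper21)

`lf (Alt ℬ) ≤ ⟨PEl⟩`: the block permutations induced by even permutations of the blocks lie in the
subgroup generated by the `p`-elements of `N(BB) ∩ Alt`.
-/

set_option autoImplicit false
set_option linter.unusedSectionVars false
set_option linter.unusedVariables false

open Equiv Equiv.Perm Cfsg.Agent.Lib.Helper67_SymSylow Cfsg.Agent.Lib.Helper21_AltFusDefs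

namespace Cfsg.Agent.Lib.Helper42_AF_GENB

variable {p : ℕ} [Fact p.Prime] {ℬ : Type} [Fintype ℬ] [DecidableEq ℬ] {r : ℕ}

/-- a block permutation times a translation (relation `lf_tr` of AF-REL) -/
theorem lf_mul_tr (σ : Perm ℬ) (f : Multiplicative (ℬ → ZMod p)) :
    lf p ℬ r σ * tr p ℬ r f =
      tr p ℬ r (Multiplicative.ofAdd fun β => Multiplicative.toAdd f (σ⁻¹ β)) * lf p ℬ r σ := by
  ext ω
  rcases ω with ⟨β, y⟩ | i
  · simp
  · simp

/-- conjugating a translation by a block permutation -/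
theorem lf_conj_tr (σ : Perm ℬ) (f : Multiplicative (ℬ → ZMod p)) :
    lf p ℬ r σ * tr p ℬ r f * (lf p ℬ r σ)⁻¹ =
      tr p ℬ r (Multiplicative.ofAdd fun β => Multiplicative.toAdd f (σ⁻¹ β)) := by
  rw [lf_mul_tr, mul_assoc, mul_inv_cancel, mul_one]

/-- block permutations normalize the base group -/
theorem nz_lf (σ : Perm ℬ) : Nz (BB p ℬ r) (lf p ℬ r σ) := by
  rintro k ⟨f, rfl⟩
  rw [lf_conj_tr]
  exact ⟨_, rfl⟩

theorem nz_mul {A : Type*} [Group A] {K : Subgroup A} {x y : A} (hx : Nz K x) (hy : Nz K y) :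
    Nz K (x * y) := by
  intro k hk
  have := hx _ (hy k hk)
  simpa [mul_assoc] using this

/-- conjugation by a block permutation preserves the set of `p`-elements of `N(BB) ∩ Alt` -/
theorem conj_mem_PEl (ρ : Perm ℬ) {y : Perm (Pt p ℬ r)} (hy : y ∈ PEl p ℬ r) :
    lf p ℬ r ρ * y * (lf p ℬ r ρ)⁻¹ ∈ PEl p ℬ r := by
  obtain ⟨h1, h2, k, hk⟩ := hy
  refine ⟨?_, ?_, k, ?_⟩
  · rw [← map_inv]
    exact nz_mul (nz_mul (nz_lf ρ) h1) (nz_lf ρ⁻¹)
  · exact (alternatingGroup.normal (α := Pt p ℬ r)).conj_mem y h2 _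
  · rw [conj_pow, hk, mul_one, mul_inv_cancel]

/-- conjugation by a block permutation preserves `⟨PEl⟩` -/
theorem conj_mem_closure (ρ : Perm ℬ) {y : Perm (Pt p ℬ r)}
    (hy : y ∈ Subgroup.closure (PEl p ℬ r)) :
    lf p ℬ r ρ * y * (lf p ℬ r ρ)⁻¹ ∈ Subgroup.closure (PEl p ℬ r) := by
  have hle : Subgroup.closure (PEl p ℬ r) ≤
      (Subgroup.closure (PEl p ℬ r)).comap (MulAut.conj (lf p ℬ r ρ)).toMonoidHom := by
    rw [Subgroup.closure_le]
    intro z hz
    exact Subgroup.subset_closure (conj_mem_PEl ρ hz)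
  exact hle hy

/-- a block permutation of `p`-power order... here: of order dividing `p`, `p` odd, is in `PEl` -/
theorem lf_mem_PEl (hp : p ≠ 2) (ρ : Perm ℬ) (hρ : ρ ^ p = 1) : lf p ℬ r ρ ∈ PEl p ℬ r := by
  have hpow : (lf p ℬ r ρ) ^ p = 1 := by rw [← map_pow, hρ, map_one]
  refine ⟨nz_lf ρ, ?_, 1, by rw [pow_one]; exact hpow⟩
  rw [Equiv.Perm.mem_alternatingGroup]
  have hs : (sign (lf p ℬ r ρ)) ^ p = 1 := by rw [← map_pow, hpow, map_one]
  have hodd : Odd p := (Fact.out : p.Prime).odd_of_ne_two hp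
  rcases Int.units_eq_one_or (sign (lf p ℬ r ρ)) with h | h
  · exact h
  · rw [h, hodd.neg_one_pow] at hs
    exact absurd hs (by decide)

/-- the subgroup of block permutations landing in `⟨PEl⟩` -/
def NN (p : ℕ) [Fact p.Prime] (ℬ : Type) [Fintype ℬ] [DecidableEq ℬ] (r : ℕ) :
    Subgroup (Perm ℬ) :=
  (Subgroup.closure (PEl p ℬ r)).comap (lf p ℬ r)

instance NN_normal : (NN p ℬ r).Normal := by
  constructor
  intro n hn g
  show lf p ℬ r (g * n * g⁻¹) ∈ Subgroup.closure (PEl p ℬ r)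
  rw [map_mul, map_mul, map_inv]
  exact conj_mem_closure g hn

theorem lf_alt_mem (hp : p ≠ 2) (hcard : p ≤ Fintype.card ℬ) (σ : Perm ℬ)
    (hσ : σ ∈ alternatingGroup ℬ) : lf p ℬ r σ ∈ Subgroup.closure (PEl p ℬ r) := by
  have hpp : p.Prime := Fact.out
  suffices h : alternatingGroup ℬ ≤ NN p ℬ r from h hσ
  by_cases h3 : p = 3
  · -- three-cycles
    rw [← Equiv.Perm.closure_three_cycles_eq_alternating, Subgroup.closure_le]
    intro ρ hρ
    have hρ3 : ρ ^ p = 1 := by
      rw [h3, ← hρ.orderOf]; exact pow_orderOf_eq_one ρ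
    exact Subgroup.subset_closure (lf_mem_PEl hp ρ hρ3)
  · have h5 : 5 ≤ p := by
      have h2 := hpp.two_le
      by_contra hlt
      push Not at hlt
      interval_cases p
      · exact hp rfl
      · exact h3 rfl
      · exact absurd hpp (by decide)
    have hα : 5 ≤ Nat.card ℬ := by
      rw [Nat.card_eq_fintype_card]; omega
    -- a nontrivial element
    have hdvd : p ∣ Fintype.card (Perm ℬ) := by
      rw [Fintype.card_perm]
      exact (Nat.Prime.dvd_factorial hpp).2 hcard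
    obtain ⟨ρ, hρ⟩ := exists_prime_orderOf_dvd_card p hdvd
    have hρp : ρ ^ p = 1 := by rw [← hρ]; exact pow_orderOf_eq_one ρ
    have hρ1 : ρ ≠ 1 := by
      rintro rfl
      rw [orderOf_one] at hρ
      exact hpp.one_lt.ne hρ
    have hmem : ρ ∈ NN p ℬ r := Subgroup.subset_closure (lf_mem_PEl hp ρ hρp)
    have hnt : Nontrivial (NN p ℬ r) := by
      refine ⟨⟨⟨ρ, hmem⟩, 1, ?_⟩⟩
      intro h
      exact hρ1 (congrArg Subtype.val h)
    exact Equiv.Perm.alternatingGroup_le_of_normal hα hnt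

end Cfsg.Agent.Lib.Helper42_AF_GENB
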