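import Mathlib
import Cfsg.Agent.Lib.Helper21_AltFusDefs
import Cfsg.Agent.Lib.Helper53_AF_N1
import Cfsg.Agent.Lib.Helper89_AF_REL
import Cfsg.Agent.Lib.Helper60_AF_HFORM
import Cfsg.Agent.Lib.Helper70_AF_SIGN
import Cfsg.Agent.Lib.Helper32_AF_GENA
import Cfsg.Agent.Lib.Helper42_AF_GENB

/-!
# S5165 package AF-GEN (helper87, for helper21's market):
`N(BB) ∩ Alt = ⟨p-elements⟩ ⟨hc c⟩` for a generator `c` of `(ZMod p)ˣ`.
-/

set_option autoImplicit false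
set_option linter.unusedSectionVars false
set_option linter.unusedVariables false

open Equiv Equiv.Perm Cfsg.Agent.Lib.Helper67_SymSylow Cfsg.Agent.Lib.Helper21_AltFusDefs
open Cfsg.Agent.Lib.Helper53_AF_N1 Cfsg.Agent.Lib.Helper89_AF_REL Cfsg.Agent.Lib.Helper60_AF_HFORM
open Cfsg.Agent.Lib.Helper70_AF_SIGN Cfsg.Agent.Lib.Helper32_AF_GENA Cfsg.Agent.Lib.Helper42_AF_GENB

namespace Cfsg.Agent.Lib.Helper87_AF_GEN

variable {p : ℕ} [Fact p.Prime] {ℬ : Type} [Fintype ℬ] [DecidableEq ℬ] {r : ℕ}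

/-- `y = tr f * sc t * lf σ` with `∏ t = d` -/
def Form (p : ℕ) [Fact p.Prime] (ℬ : Type) [Fintype ℬ] [DecidableEq ℬ] (r : ℕ)
    (d : (ZMod p)ˣ) (y : Perm (Pt p ℬ r)) : Prop :=
  ∃ (f : Multiplicative (ℬ → ZMod p)) (t : ℬ → (ZMod p)ˣ) (σ : Perm ℬ),
    y = tr p ℬ r f * sc p ℬ r t * lf p ℬ r σ ∧ ∏ β, t β = d

theorem form_one : Form p ℬ r 1 (1 : Perm (Pt p ℬ r)) := by
  refine ⟨1, 1, 1, ?_, ?_⟩
  · rw [map_one, map_one, map_one, one_mul, one_mul]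
  · simp

theorem Form.mul {d d' : (ZMod p)ˣ} {y y' : Perm (Pt p ℬ r)} (h : Form p ℬ r d y)
    (h' : Form p ℬ r d' y') : Form p ℬ r (d * d') (y * y') := by
  obtain ⟨f, t, σ, rfl, ht⟩ := h
  obtain ⟨f', t', σ', rfl, ht'⟩ := h'
  obtain ⟨f'', hf''⟩ := form_mul (r := r) f f' t t' σ σ'
  refine ⟨f'', _, _, hf'', ?_⟩
  rw [Finset.prod_mul_distrib, ht, ← ht']
  congr 1
  exact Equiv.prod_comp σ⁻¹ t'

theorem Form.inv {d : (ZMod p)ˣ} {y : Perm (Pt p ℬ r)} (h : Form p ℬ r d y) :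
    Form p ℬ r d⁻¹ y⁻¹ := by
  obtain ⟨f, t, σ, rfl, ht⟩ := h
  obtain ⟨f'', hf''⟩ := form_inv (r := r) f t σ
  refine ⟨f'', _, _, hf'', ?_⟩
  rw [Finset.prod_inv_distrib, ← ht]
  congr 1
  exact Equiv.prod_comp σ t

theorem Form.pow {d : (ZMod p)ˣ} {y : Perm (Pt p ℬ r)} (h : Form p ℬ r d y) (n : ℕ) :
    Form p ℬ r (d ^ n) (y ^ n) := by
  induction n with
  | zero => rw [pow_zero, pow_zero]; exact form_one
  | succ n ih => rw [pow_succ, pow_succ]; exact ih.mul h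

theorem Form.zpow {d : (ZMod p)ˣ} {y : Perm (Pt p ℬ r)} (h : Form p ℬ r d y) (n : ℤ) :
    Form p ℬ r (d ^ n) (y ^ n) := by
  cases n with
  | ofNat n => rw [Int.ofNat_eq_natCast, zpow_natCast, zpow_natCast]; exact h.pow n
  | negSucc n => rw [zpow_negSucc, zpow_negSucc]; exact (h.pow (n + 1)).inv

/-- `dg c` is even -/
theorem sign_dg (c : (ZMod p)ˣ) : sign (dg p c) = 1 := by
  have h : dg p c = (Equiv.prodCongrLeft fun _ : ZMod p => (Units.mulLeft c : Perm (ZMod p))) *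
      (Equiv.prodCongrRight fun _ : ZMod p => (Units.mulLeft c⁻¹ : Perm (ZMod p))) := by
    ext ⟨x, y⟩ <;> rfl
  rw [h, map_mul, sign_prodCongrLeft, sign_prodCongrRight, ← Finset.prod_mul_distrib]
  apply Finset.prod_eq_one
  intro _ _
  have := (psi p).map_mul c c⁻¹
  rw [mul_inv_cancel, map_one] at this
  exact this.symm

theorem gen_odd (hp : p ≠ 2) (hr : r ≤ 1) (ι : ZMod p ↪ ℬ) (c : (ZMod p)ˣ)
    (hgen : ∀ u : (ZMod p)ˣ, u ∈ Subgroup.zpowers c) (x : Perm (Pt p ℬ r))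
    (hx : Nz (BB p ℬ r) x) (hxa : x ∈ alternatingGroup (Pt p ℬ r)) :
    x ∈ Subgroup.closure (PEl p ℬ r ∪ {hc r ι c}) := by
  classical
  have hcard : p ≤ Fintype.card ℬ := by
    have := Fintype.card_le_of_embedding ι
    rwa [ZMod.card] at this
  have hodd : Odd p := (Fact.out : p.Prime).odd_of_ne_two hp
  obtain ⟨f, t, σ, hxf⟩ := norm_form hr x hx
  obtain ⟨t0, σ0, hhc, ht0⟩ := hc_form (r := r) ι c
  have hFx : Form p ℬ r (∏ β, t β) x := ⟨f, t, σ, hxf, rfl⟩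
  have hFh : Form p ℬ r c (hc r ι c) := ⟨1, t0, σ0, by rw [map_one, one_mul]; exact hhc, ht0⟩
  obtain ⟨k, hk⟩ := Subgroup.mem_zpowers_iff.mp (hgen (∏ β, t β))
  -- the corrected element
  have hF1 : Form p ℬ r 1 (x * (hc r ι c) ^ (-k)) := by
    have := hFx.mul (hFh.zpow (-k))
    rwa [← hk, ← zpow_add, add_neg_cancel, zpow_zero] at this
  obtain ⟨f₁, t₁, σ₁, hx1, ht1⟩ := hF1
  -- signs
  have hsh : sign (hc r ι c) = 1 := by
    unfold hc
    rw [sign_bp, sign_dg]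
  have hs1 : sign (x * (hc r ι c) ^ (-k)) = 1 := by
    rw [map_mul, map_zpow, hsh, one_zpow, mul_one]
    exact hxa
  rw [hx1, map_mul, map_mul, sign_tr hp, sign_sc, ht1, map_one, sign_lf, one_mul, one_mul] at hs1
  have hσ1 : sign σ₁ = 1 := by
    rcases Int.units_eq_one_or (sign σ₁) with h | h
    · exact h
    · rw [h, hodd.neg_one_pow] at hs1
      exact absurd hs1 (by decide)
  have hσ1' : σ₁ ∈ alternatingGroup ℬ := hσ1
  have hle : Subgroup.closure (PEl p ℬ r) ≤ Subgroup.closure (PEl p ℬ r ∪ {hc r ι c}) :=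
    Subgroup.closure_mono Set.subset_union_left
  have h1 : x * (hc r ι c) ^ (-k) ∈ Subgroup.closure (PEl p ℬ r ∪ {hc r ι c}) := by
    rw [hx1]
    exact Subgroup.mul_mem _ (hle (T0_mem hp hcard f₁ t₁ ht1)) (hle (lf_alt_mem hp hcard σ₁ hσ1'))
  have h2 : hc r ι c ∈ Subgroup.closure (PEl p ℬ r ∪ {hc r ι c}) :=
    Subgroup.subset_closure (Set.mem_union_right _ rfl)
  have h3 : x = (x * (hc r ι c) ^ (-k)) * (hc r ι c) ^ k := by
    rw [mul_assoc, ← zpow_add, neg_add_cancel, zpow_zero, mul_one]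
  rw [h3]
  exact Subgroup.mul_mem _ h1 (Subgroup.zpow_mem _ h2 k)

end Cfsg.Agent.Lib.Helper87_AF_GEN
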