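import Mathlib
import Cfsg.Agent.Lib.Helper21_AltFusDefs

/-!
# S5165 package AF-NORM2 (helper87, for helper21's market):
`p = 2`: `N(S) ≤ N(BB)` for `BB ∩ Alt ≤ S ≤ N(BB)`, at least three blocks.
-/

set_option autoImplicit false
set_option linter.unusedSectionVars false
set_option linter.unusedVariables false

open Equiv Equiv.Perm Cfsg.Agent.Lib.Helper67_SymSylow Cfsg.Agent.Lib.Helper21_AltFusDefs

namespace Cfsg.Agent.Lib.Helper87_AF_NORM2

variable {p : ℕ} [Fact p.Prime] {ℬ : Type} [Fintype ℬ] [DecidableEq ℬ] {r : ℕ}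

/-- the other point of the block (`inr` points are their own mates) -/
def mate (ℬ : Type) (r : ℕ) : Pt 2 ℬ r → Pt 2 ℬ r
  | Sum.inl (β, y) => Sum.inl (β, y + 1)
  | Sum.inr i => Sum.inr i

@[simp] theorem mate_inl (β : ℬ) (y : ZMod 2) :
    mate ℬ r (Sum.inl (β, y)) = Sum.inl (β, y + 1) := rfl

@[simp] theorem mate_inr (i : Fin r) : mate ℬ r (Sum.inr i) = Sum.inr i := rfl

theorem zmod2_add_one_add_one (y : ZMod 2) : y + 1 + 1 = y := by
  revert y; decide

theorem zmod2_add_one_ne (y : ZMod 2) : y + 1 ≠ y := by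
  revert y; decide

theorem zmod2_cases (y : ZMod 2) : y = 0 ∨ y = 1 := by
  revert y; decide

theorem zmod2_one_ne_zero : ¬ ((1 : ZMod 2) = 0) := by decide

theorem zmod2_zero_ne_one : ¬ ((0 : ZMod 2) = 1) := by decide

theorem mate_mate (ω : Pt 2 ℬ r) : mate ℬ r (mate ℬ r ω) = ω := by
  rcases ω with ⟨β, y⟩ | i
  · simp [zmod2_add_one_add_one]
  · rfl

theorem mate_injective : Function.Injective (mate ℬ r) := by
  intro a b h
  rw [← mate_mate a, h, mate_mate]

theorem mate_inl_ne (β : ℬ) (y : ZMod 2) : mate ℬ r (Sum.inl (β, y)) ≠ Sum.inl (β, y) := by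
  intro h
  have := Sum.inl_injective h
  exact zmod2_add_one_ne y (congrArg Prod.snd this)

/-- the units of `ZMod 2` are trivial -/
theorem unit_zmod2 (u : (ZMod 2)ˣ) : (u : ZMod 2) = 1 := by
  have : u = 1 := Subsingleton.elim _ _
  rw [this, Units.val_one]

/-- membership in the base group, `p = 2` -/
theorem mem_BB_two_iff (x : Perm (Pt 2 ℬ r)) :
    x ∈ BB 2 ℬ r ↔ ∀ ω, x ω = ω ∨ x ω = mate ℬ r ω := by
  constructor
  · rintro ⟨f, rfl⟩ ω
    rcases ω with ⟨β, y⟩ | i
    · rw [tr_inl, mate_inl]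
      rcases zmod2_cases (Multiplicative.toAdd f β) with h | h
      · left; rw [h, add_zero]
      · right; rw [h]
    · left; rfl
  · intro h
    classical
    refine ⟨Multiplicative.ofAdd fun β => if x (Sum.inl (β, 0)) = Sum.inl (β, 0) then 0 else 1, ?_⟩
    apply Equiv.ext
    intro ω
    rcases ω with ⟨β, y⟩ | i
    · rw [tr_inl]
      show Sum.inl (β, y + if x (Sum.inl (β, 0)) = Sum.inl (β, 0) then 0 else 1) = _
      -- the value at the base point of the block
      have h0 : x (Sum.inl (β, 0)) =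
          Sum.inl (β, (0 : ZMod 2) + if x (Sum.inl (β, 0)) = Sum.inl (β, 0) then 0 else 1) := by
        split_ifs with hc
        · rw [add_zero]; exact hc
        · rcases h (Sum.inl (β, 0)) with h1 | h1
          · exact absurd h1 hc
          · rw [h1, mate_inl]
      rcases zmod2_cases y with hy | hy
      · rw [hy]; exact h0.symm
      · -- the other point: use injectivity
        subst hy
        split_ifs with hc
        · rw [add_zero]
          rcases h (Sum.inl (β, 1)) with h1 | h1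
          · exact h1.symm
          · rw [mate_inl] at h1
            have h2 : ((1 : ZMod 2) + 1) = 0 := by decide
            rw [h2, ← hc] at h1
            have := x.injective h1
            exact absurd (congrArg Prod.snd (Sum.inl_injective this)) zmod2_one_ne_zero
        · rcases h (Sum.inl (β, 1)) with h1 | h1
          · rcases h (Sum.inl (β, 0)) with h3 | h3
            · exact absurd h3 hc
            · rw [mate_inl, zero_add, ← h1] at h3
              have := x.injective h3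
              exact absurd (congrArg Prod.snd (Sum.inl_injective this)) zmod2_zero_ne_one
          · rw [h1, mate_inl]
    · rcases h (Sum.inr i) with h1 | h1
      · rw [h1]; rfl
      · rw [h1]; rfl

/-- `mate` as an element of the base group -/
def zz (ℬ : Type) (r : ℕ) : Perm (Pt 2 ℬ r) :=
  tr 2 ℬ r (Multiplicative.ofAdd fun _ => 1)

theorem zz_apply (ω : Pt 2 ℬ r) : zz ℬ r ω = mate ℬ r ω := by
  rcases ω with ⟨β, y⟩ | i <;> rfl

theorem zz_mem_BB : zz ℬ r ∈ BB 2 ℬ r := ⟨_, rfl⟩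

/-- elements of the normalizer of `BB` map `inl` points to `inl` points, compatibly with `mate` -/
theorem maps_inl_of_nz (s : Perm (Pt 2 ℬ r)) (hs : Nz (BB 2 ℬ r) s) (q : ℬ × ZMod 2) :
    (∃ q', s (Sum.inl q) = Sum.inl q') ∧
      s (mate ℬ r (Sum.inl q)) = mate ℬ r (s (Sum.inl q)) := by
  have h := (mem_BB_two_iff _).mp (hs _ (zz_mem_BB (ℬ := ℬ) (r := r))) (s (Sum.inl q))
  have hval : (s * zz ℬ r * s⁻¹) (s (Sum.inl q)) = s (mate ℬ r (Sum.inl q)) := by
    rw [Perm.mul_apply, Perm.mul_apply, Perm.inv_def, Equiv.symm_apply_apply, zz_apply]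
  rw [hval] at h
  have hne : s (mate ℬ r (Sum.inl q)) ≠ s (Sum.inl q) := by
    intro h1
    exact mate_inl_ne q.1 q.2 (s.injective h1)
  have hm : s (mate ℬ r (Sum.inl q)) = mate ℬ r (s (Sum.inl q)) := by
    rcases h with h | h
    · exact absurd h hne
    · exact h
  refine ⟨?_, hm⟩
  rcases hq : s (Sum.inl q) with q' | i
  · exact ⟨q', rfl⟩
  · exfalso
    rw [hq] at hm hne
    exact hne hm

theorem pow_maps_inl_of_nz (s : Perm (Pt 2 ℬ r)) (hs : Nz (BB 2 ℬ r) s) (n : ℕ)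
    (q : ℬ × ZMod 2) : ∃ q', (s ^ n) (Sum.inl q) = Sum.inl q' := by
  induction n generalizing q with
  | zero => exact ⟨q, rfl⟩
  | succ n ih =>
    obtain ⟨q1, hq1⟩ := (maps_inl_of_nz s hs q).1
    obtain ⟨q2, hq2⟩ := ih q1
    refine ⟨q2, ?_⟩
    rw [pow_succ, Perm.mul_apply, hq1, hq2]

/-- elements of the normalizer of `BB` commute with `mate` on the `inl` points -/
theorem mate_comm_of_nz (s : Perm (Pt 2 ℬ r)) (hs : Nz (BB 2 ℬ r) s)
    (q : ℬ × ZMod 2) : s (mate ℬ r (Sum.inl q)) = mate ℬ r (s (Sum.inl q)) :=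
  (maps_inl_of_nz s hs q).2

/-- elements of the normalizer of `BB` fix the `inr` points -/
theorem fix_inr_of_nz (hr : r ≤ 1) (s : Perm (Pt 2 ℬ r)) (hs : Nz (BB 2 ℬ r) s)
    (i : Fin r) : s (Sum.inr i) = Sum.inr i := by
  rcases hq : s (Sum.inr i) with q | j
  · exfalso
    have hpos : 0 < orderOf s := orderOf_pos s
    have h1 : s ^ (orderOf s - 1) * s = 1 := by
      rw [← pow_succ, Nat.sub_add_cancel hpos, pow_orderOf_eq_one]
    obtain ⟨q', hq'⟩ := pow_maps_inl_of_nz s hs (orderOf s - 1) q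
    have h2 : (s ^ (orderOf s - 1) * s) (Sum.inr i) = Sum.inl q' := by
      rw [Perm.mul_apply, hq, hq']
    rw [h1, Perm.one_apply] at h2
    exact Sum.inr_ne_inl h2
  · congr 1
    apply Fin.ext
    have h1 := i.2
    have h2 := j.2
    omega

theorem mate_comm_all (hr : r ≤ 1) (s : Perm (Pt 2 ℬ r)) (hs : Nz (BB 2 ℬ r) s)
    (ω : Pt 2 ℬ r) : s (mate ℬ r ω) = mate ℬ r (s ω) := by
  rcases ω with q | i
  · exact mate_comm_of_nz s hs q
  · rw [mate_inr, fix_inr_of_nz hr s hs i, mate_inr]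

/-- the double transposition on the blocks `β1`, `β2` -/
def kk (ℬ : Type) [DecidableEq ℬ] (r : ℕ) (β1 β2 : ℬ) : Perm (Pt 2 ℬ r) :=
  tr 2 ℬ r (Multiplicative.ofAdd (Pi.single β1 1 + Pi.single β2 1))

theorem kk_inr (β1 β2 : ℬ) (i : Fin r) : kk ℬ r β1 β2 (Sum.inr i) = Sum.inr i := rfl

theorem kk_inl_left (β1 β2 : ℬ) (h : β1 ≠ β2) (y : ZMod 2) :
    kk ℬ r β1 β2 (Sum.inl (β1, y)) = Sum.inl (β1, y + 1) := by
  unfold kk
  rw [tr_inl]
  simp [h]

theorem kk_inl_right (β1 β2 : ℬ) (h : β1 ≠ β2) (y : ZMod 2) :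
    kk ℬ r β1 β2 (Sum.inl (β2, y)) = Sum.inl (β2, y + 1) := by
  unfold kk
  rw [tr_inl]
  simp [h.symm]

theorem kk_inl_other (β1 β2 β : ℬ) (h1 : β ≠ β1) (h2 : β ≠ β2) (y : ZMod 2) :
    kk ℬ r β1 β2 (Sum.inl (β, y)) = Sum.inl (β, y) := by
  unfold kk
  rw [tr_inl]
  simp [h1, h2]

theorem kk_mem_BB (β1 β2 : ℬ) : kk ℬ r β1 β2 ∈ BB 2 ℬ r := ⟨_, rfl⟩

/-- a single block transposition -/
theorem tr_single_eq_swap (β : ℬ) :
    tr 2 ℬ r (Multiplicative.ofAdd (Pi.single β 1)) =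
      swap (Sum.inl (β, 0)) (Sum.inl (β, 1)) := by
  apply Equiv.ext
  intro ω
  rcases ω with ⟨β', y⟩ | i
  · rw [tr_inl]
    by_cases hβ : β' = β
    · subst hβ
      rcases zmod2_cases y with hy | hy
      · subst hy; simp
      · subst hy
        have h2 : ((1 : ZMod 2) + 1) = 0 := by decide
        simp [h2]
    · have h1 : (Sum.inl (β', y) : Pt 2 ℬ r) ≠ Sum.inl (β, 0) := by
        intro h; exact hβ (congrArg Prod.fst (Sum.inl_injective h))
      have h2 : (Sum.inl (β', y) : Pt 2 ℬ r) ≠ Sum.inl (β, 1) := by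
        intro h; exact hβ (congrArg Prod.fst (Sum.inl_injective h))
      rw [swap_apply_of_ne_of_ne h1 h2]
      simp [hβ]
  · rw [tr_inr, swap_apply_of_ne_of_ne] <;> simp

theorem kk_mem_alt (β1 β2 : ℬ) : kk ℬ r β1 β2 ∈ alternatingGroup (Pt 2 ℬ r) := by
  have h : kk ℬ r β1 β2 = tr 2 ℬ r (Multiplicative.ofAdd (Pi.single β1 1)) *
      tr 2 ℬ r (Multiplicative.ofAdd (Pi.single β2 1)) := by
    unfold kk
    rw [← map_mul]
    rfl
  rw [Equiv.Perm.mem_alternatingGroup, h, map_mul, tr_single_eq_swap, tr_single_eq_swap,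
    sign_swap, sign_swap]
  · rfl
  · intro h; exact absurd (congrArg Prod.snd (Sum.inl_injective h)) zmod2_zero_ne_one
  · intro h; exact absurd (congrArg Prod.snd (Sum.inl_injective h)) zmod2_zero_ne_one


theorem zmod2_eq_or (y z : ZMod 2) : z = y ∨ z = y + 1 := by
  revert y z; decide

theorem perm_apply_inv_self {α : Type*} (g : Perm α) (x : α) : g (g⁻¹ x) = x := by
  rw [Perm.inv_def]; exact g.apply_symm_apply x

theorem perm_inv_apply_self {α : Type*} (g : Perm α) (x : α) : g⁻¹ (g x) = x := by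
  rw [Perm.inv_def]; exact g.symm_apply_apply x

/-- the key step: where the mate of `g ω` comes from -/
theorem key_block (hr : r ≤ 1)
    (S : Subgroup (Perm (Pt 2 ℬ r))) (hSN : ∀ s ∈ S, Nz (BB 2 ℬ r) s)
    (hBS : BB 2 ℬ r ⊓ alternatingGroup (Pt 2 ℬ r) ≤ S) (g : Perm (Pt 2 ℬ r)) (hg : Nz S g)
    (β1 β' : ℬ) (hne : β1 ≠ β') (y : ZMod 2) :
    (g * kk ℬ r β1 β' * g⁻¹) (g (Sum.inl (β1, y))) = g (Sum.inl (β1, y + 1)) ∧
    Nz (BB 2 ℬ r) (g * kk ℬ r β1 β' * g⁻¹) ∧
    ∃ β z, g⁻¹ (mate ℬ r (g (Sum.inl (β1, y)))) = Sum.inl (β, z) ∧ (β = β1 ∨ β = β') := by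
  have hsS : g * kk ℬ r β1 β' * g⁻¹ ∈ S := hg _ (hBS ⟨kk_mem_BB β1 β', kk_mem_alt β1 β'⟩)
  have hsN := hSN _ hsS
  have hact : ∀ ζ, (g * kk ℬ r β1 β' * g⁻¹) (g ζ) = g (kk ℬ r β1 β' ζ) := by
    intro ζ
    simp only [Perm.mul_apply, perm_inv_apply_self]
  have hsa : (g * kk ℬ r β1 β' * g⁻¹) (g (Sum.inl (β1, y))) = g (Sum.inl (β1, y + 1)) := by
    rw [hact, kk_inl_left β1 β' hne]
  refine ⟨hsa, hsN, ?_⟩
  have hm := mate_comm_all hr _ hsN (g (Sum.inl (β1, y)))
  rw [hsa] at hm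
  -- `ζ` with `g ζ = mate a`
  have hζ : g (g⁻¹ (mate ℬ r (g (Sum.inl (β1, y))))) = mate ℬ r (g (Sum.inl (β1, y))) :=
    perm_apply_inv_self g _
  -- if `kk` fixes `ζ` we get a contradiction
  have hcontra : kk ℬ r β1 β' (g⁻¹ (mate ℬ r (g (Sum.inl (β1, y))))) =
      g⁻¹ (mate ℬ r (g (Sum.inl (β1, y)))) → False := by
    intro hfix
    have h1 := hact (g⁻¹ (mate ℬ r (g (Sum.inl (β1, y)))))
    rw [hfix, hζ, hm] at h1
    have h2 := g.injective (mate_injective h1)
    have h3 : mate ℬ r (Sum.inl (β1, y)) = Sum.inl (β1, y) := h2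
    exact mate_inl_ne β1 y h3
  rcases hz : g⁻¹ (mate ℬ r (g (Sum.inl (β1, y)))) with ⟨β, z⟩ | j
  · refine ⟨β, z, rfl, ?_⟩
    by_contra hcon
    push Not at hcon
    apply hcontra
    rw [hz]
    exact kk_inl_other β1 β' β hcon.1 hcon.2 z
  · exfalso
    apply hcontra
    rw [hz]
    rfl

theorem nz_of_normalizes_two (h3 : 3 ≤ Fintype.card ℬ) (hr : r ≤ 1)
    (S : Subgroup (Perm (Pt 2 ℬ r))) (hSN : ∀ s ∈ S, Nz (BB 2 ℬ r) s)
    (hBS : BB 2 ℬ r ⊓ alternatingGroup (Pt 2 ℬ r) ≤ S) (g : Perm (Pt 2 ℬ r)) (hg : Nz S g) :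
    Nz (BB 2 ℬ r) g := by
  classical
  -- `g` commutes with `mate` on the `inl` points
  have hstar : ∀ (β1 : ℬ) (y : ZMod 2),
      g (mate ℬ r (Sum.inl (β1, y))) = mate ℬ r (g (Sum.inl (β1, y))) := by
    intro β1 y
    obtain ⟨β2, h21⟩ : ∃ β2, β2 ≠ β1 := Fintype.exists_ne_of_one_lt_card (by omega) β1
    obtain ⟨β3, h31, h32⟩ : ∃ β3, β3 ≠ β1 ∧ β3 ≠ β2 := by
      by_contra hcon
      push Not at hcon
      have hsub : (Finset.univ : Finset ℬ) ⊆ {β1, β2} := by
        intro b _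
        by_cases hb : b = β1
        · rw [hb]; exact Finset.mem_insert_self _ _
        · rw [hcon b hb]; exact Finset.mem_insert_of_mem (Finset.mem_singleton_self _)
      have h1 := Finset.card_le_card hsub
      have h2 : ({β1, β2} : Finset ℬ).card ≤ 2 := Finset.card_le_two
      rw [Finset.card_univ] at h1
      omega
    obtain ⟨hsa2, hsN2, β, z, hz, hβ2⟩ := key_block hr S hSN hBS g hg β1 β2 h21.symm y
    obtain ⟨_, _, β', z', hz', hβ3⟩ := key_block hr S hSN hBS g hg β1 β3 h31.symm y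
    rw [hz] at hz'
    have hββ' : β = β' := congrArg Prod.fst (Sum.inl_injective hz')
    have hβ : β = β1 := by
      rcases hβ2 with h | h
      · exact h
      · rcases hβ3 with h' | h'
        · rw [hββ']; exact h'
        · exfalso
          apply h32
          rw [← h', ← hββ', h]
    subst hβ
    have hz2 : mate ℬ r (g (Sum.inl (β, y))) = g (Sum.inl (β, z)) := by
      rw [← hz, perm_apply_inv_self]
    rcases zmod2_eq_or y z with h | h
    · -- `g ω` is its own mate: impossible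
      exfalso
      subst h
      have hself : mate ℬ r (g (Sum.inl (β, z))) = g (Sum.inl (β, z)) := hz2
      rcases hga : g (Sum.inl (β, z)) with ⟨b, c⟩ | i
      · rw [hga] at hself
        exact mate_inl_ne b c hself
      · have hfix := fix_inr_of_nz hr _ hsN2 i
        rw [← hga, hsa2] at hfix
        have := g.injective hfix
        exact zmod2_add_one_ne z (congrArg Prod.snd (Sum.inl_injective this))
    · rw [hz2, h]
      rfl
  intro k hk
  rw [mem_BB_two_iff]
  intro ω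
  have hkk := (mem_BB_two_iff k).mp hk (g⁻¹ ω)
  have hval : (g * k * g⁻¹) ω = g (k (g⁻¹ ω)) := by
    simp only [Perm.mul_apply]
  rw [hval]
  rcases hω : g⁻¹ ω with ⟨β, y⟩ | i
  · rw [hω] at hkk
    rcases hkk with h | h
    · left
      rw [h, ← hω, perm_apply_inv_self]
    · right
      rw [h, hstar, ← hω, perm_apply_inv_self]
  · rw [hω] at hkk
    left
    have : k (Sum.inr i) = Sum.inr i := by
      rcases hkk with h | h
      · exact h
      · exact h
    rw [this, ← hω, perm_apply_inv_self]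

end Cfsg.Agent.Lib.Helper87_AF_NORM2
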