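import Mathlib
import Cfsg.Agent.Lib.Helper21_AltFusDefs
import Cfsg.Agent.Lib.Helper21_FusGCRel
import Cfsg.Agent.Lib.Helper89_AF_REL
import Cfsg.Agent.Lib.Helper63_AF_PCYC
import Cfsg.Agent.Lib.Helper71_AF_CENTB
import Cfsg.Agent.Lib.Helper60_AF_HFORM
import Cfsg.Agent.Lib.Helper71_AF_QCENT
import Cfsg.Agent.Lib.Helper25_AF_GEN2
import Cfsg.Agent.Lib.Helper87_AF_NORM2
import Cfsg.Agent.Lib.Helper32_AF_SYLaux
import Cfsg.Agent.Lib.Helper42_AF_HCONJ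
import Cfsg.Agent.Lib.Helper87_AF_GEN

/-!
# S5165: the hypothesis `NormGenIn` in the wreath model (helper21)

Assembly of the packages AF-REL (helper89), AF-PCYC (helper63), AF-CENTB / AF-QCENT (helper71),
AF-HFORM (helper60), AF-HCONJ (helper42), AF-GEN (helper87), AF-GEN2 (helper25), AF-NORM2 (helper87), AF-SYL (helper32).
-/

set_option autoImplicit false
set_option linter.unusedSectionVars false
set_option linter.unusedVariables false

open Equiv Equiv.Perm Cfsg.Agent.Lib.Helper67_SymSylow Cfsg.Agent.Lib.Helper21_AltFusDefs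
  Cfsg.Agent.Lib.Helper21_FusGC Cfsg.Agent.Lib.Helper85_GroupFusion
  Cfsg.Agent.Lib.Helper89_AF_REL Cfsg.Agent.Lib.Helper63_AF_PCYC Cfsg.Agent.Lib.Helper71_AF_CENTB
  Cfsg.Agent.Lib.Helper60_AF_HFORM Cfsg.Agent.Lib.Helper71_AF_QCENT Cfsg.Agent.Lib.Helper25_AF_GEN2
  Cfsg.Agent.Lib.Helper87_AF_NORM2 Cfsg.Agent.Lib.Helper32_AF_SYLaux
  Cfsg.Agent.Lib.Helper42_AF_HCONJ Cfsg.Agent.Lib.Helper87_AF_GEN

namespace Cfsg.Agent.Lib.Helper21_AltFusModel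

variable {p : ℕ} [Fact p.Prime] {ℬ : Type} [Fintype ℬ] [DecidableEq ℬ] {r : ℕ}

theorem isSylowIn_map_subtype {A : Type*} [Group A] {p : ℕ} [Fact p.Prime] (H : Subgroup A)
    (P : Sylow p ↥H) : IsSylowIn p ((P : Subgroup ↥H).map H.subtype) H := by
  refine ⟨P, ?_⟩
  ext x
  rw [Subgroup.mem_subgroupOf]
  constructor
  · intro hx
    exact ⟨x, hx, rfl⟩
  · rintro ⟨y, hy, hxy⟩
    have : y = x := Subtype.ext hxy
    rwa [← this]

theorem nz_iff_mem_normalizer {A : Type*} [Group A] [Finite A] (K : Subgroup A) (x : A) :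
    Nz K x ↔ x ∈ Subgroup.normalizer (K : Set A) := by
  constructor
  · intro h
    exact Cfsg.Agent.Lib.Helper82_Fus_FM.mem_normalizer_of_forall h
  · intro h k hk
    exact Cfsg.Agent.Lib.Helper82_Fus_FM.conj_mem_of_mem_normalizer h hk

theorem normGenIn_odd (hp : p ≠ 2) (hr : r ≤ 1) (ι : ZMod p ↪ ℬ)
    (S₀ : Subgroup (Perm (Pt p ℬ r))) (hS₀A : S₀ ≤ alternatingGroup (Pt p ℬ r))
    (hsyl : IsSylowIn p S₀ (alternatingGroup (Pt p ℬ r))) (hS₀p : IsPGroup p S₀)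
    (hBP : BB p ℬ r ≤ S₀) (htau : tau r ι ∈ S₀) :
    NormGenIn (alternatingGroup (Pt p ℬ r)) S₀ := by
  classical
  have hp1 : 1 < p := (Fact.out : p.Prime).one_lt
  have hrp : r < p := lt_of_le_of_lt hr hp1
  -- `S₀` normalizes `BB`
  have hSN : ∀ s ∈ S₀, Nz (BB p ℬ r) s := by
    intro s hs
    apply nz_of_conj_le hrp S₀ hS₀p hBP
    intro b hb
    exact S₀.mul_mem (S₀.mul_mem hs (hBP hb)) (S₀.inv_mem hs)
  obtain ⟨c, hcgen⟩ := IsCyclic.exists_generator (α := (ZMod p)ˣ)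
  -- the subgroup `K = N(BB) ∩ Alt`
  set K : Subgroup (Perm (Pt p ℬ r)) :=
    alternatingGroup (Pt p ℬ r) ⊓ Subgroup.normalizer (BB p ℬ r : Set (Perm (Pt p ℬ r))) with hK
  have hKmem : ∀ x, x ∈ K ↔ x ∈ alternatingGroup (Pt p ℬ r) ∧ Nz (BB p ℬ r) x := by
    intro x
    rw [hK, Subgroup.mem_inf, nz_iff_mem_normalizer]
  have hS₀K : S₀ ≤ K := fun s hs => (hKmem s).mpr ⟨hS₀A hs, hSN s hs⟩
  refine ⟨BB p ℬ r, hBP, fun s hs b hb => hSN s hs b hb, ?_, ?_⟩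
  · intro x _ hx
    exact hBP (cent_BB hr x hx)
  · intro n hnA hnS
    have hnB : Nz (BB p ℬ r) n := by
      apply nz_of_conj_le hrp S₀ hS₀p hBP
      intro b hb
      exact hnS b (hBP hb)
    have h1 := gen_odd hp hr ι c hcgen n hnB hnA
    refine (Subgroup.closure_le _).mpr ?_ h1
    rintro y (hy | hy)
    · -- a `p`-element of `K`
      obtain ⟨hyB, hyA, hyp⟩ := hy
      obtain ⟨m, hmK, s, hsS, rfl⟩ := exists_conj_of_pElement hsyl hS₀A hS₀K inf_le_left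
        ((hKmem y).mpr ⟨hyA, hyB⟩) hyp
      apply Subgroup.subset_closure
      exact ⟨m, s, ((hKmem m).mp hmK).1, hS₀A hsS, ((hKmem m).mp hmK).2, hSN s hsS, rfl,
        Or.inl hsS⟩
    · -- the element `hc`
      rw [Set.mem_singleton_iff] at hy
      subst hy
      have hBA : BB p ℬ r ≤ alternatingGroup (Pt p ℬ r) := hBP.trans hS₀A
      have hcl := hc_mem_closure (r := r) ι c
      have hhA : hc r ι c ∈ alternatingGroup (Pt p ℬ r) := by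
        refine (Subgroup.closure_le _).mpr ?_ hcl
        rintro z ⟨m, hm, -, s, hs, -, rfl⟩
        exact Subgroup.mul_mem _ (Subgroup.mul_mem _ hm (hBA hs)) (Subgroup.inv_mem _ hm)
      have hhB : Nz (BB p ℬ r) (hc r ι c) := by
        obtain ⟨t, σ, hform, -⟩ := hc_form (r := r) ι c
        rw [hform]
        have := nz_form (r := r) (1 : Multiplicative (ℬ → ZMod p)) t σ
        rwa [map_one, one_mul] at this
      apply Subgroup.subset_closure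
      refine ⟨1, hc r ι c, Subgroup.one_mem _, hhA, ?_, hhB, by group,
        Or.inr ⟨QQ r ι, ?_, ?_, ?_⟩⟩
      · intro b hb
        simpa using hb
      · -- `QQ ≤ S₀`
        rw [QQ, sup_le_iff]
        constructor
        · rintro _ ⟨f, -, rfl⟩
          exact hBP ⟨f, rfl⟩
        · rw [Subgroup.zpowers_le]
          exact htau
      · intro x _ hx
        exact cent_QQ hr ι x hx
      · refine Subgroup.closure_mono ?_ hcl
        rintro z ⟨m, hm, hmQ, s, hs, hsQ, rfl⟩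
        exact ⟨m, s, hm, hmQ, hBP hs, hsQ, rfl⟩

theorem model_odd (hp : p ≠ 2) (hr : r ≤ 1) (ι : ZMod p ↪ ℬ) :
    ∃ P : Sylow p ↥(alternatingGroup (Pt p ℬ r)),
      NormGenIn (alternatingGroup (Pt p ℬ r))
        ((P : Subgroup ↥(alternatingGroup (Pt p ℬ r))).map (alternatingGroup _).subtype) := by
  obtain ⟨P, hBP, htau⟩ := exists_sylow_odd (r := r) hp ι
  refine ⟨P, normGenIn_odd hp hr ι _ ?_ (isSylowIn_map_subtype _ P) (P.isPGroup'.map _) hBP htau⟩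
  rintro _ ⟨y, -, rfl⟩
  exact y.2

theorem normGenIn_two (h3 : 3 ≤ Fintype.card ℬ) (hr : r ≤ 1)
    (S₀ : Subgroup (Perm (Pt 2 ℬ r))) (hS₀A : S₀ ≤ alternatingGroup (Pt 2 ℬ r))
    (hsyl : IsSylowIn 2 S₀ (alternatingGroup (Pt 2 ℬ r)))
    (hBS : BB 2 ℬ r ⊓ alternatingGroup (Pt 2 ℬ r) ≤ S₀)
    (hSN : ∀ s ∈ S₀, Nz (BB 2 ℬ r) s) :
    NormGenIn (alternatingGroup (Pt 2 ℬ r)) S₀ := by
  classical
  set K : Subgroup (Perm (Pt 2 ℬ r)) :=
    alternatingGroup (Pt 2 ℬ r) ⊓ Subgroup.normalizer (BB 2 ℬ r : Set (Perm (Pt 2 ℬ r))) with hK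
  have hKmem : ∀ x, x ∈ K ↔ x ∈ alternatingGroup (Pt 2 ℬ r) ∧ Nz (BB 2 ℬ r) x := by
    intro x
    rw [hK, Subgroup.mem_inf, nz_iff_mem_normalizer]
  have hS₀K : S₀ ≤ K := fun s hs => (hKmem s).mpr ⟨hS₀A hs, hSN s hs⟩
  -- elements of `K` normalize `BB ⊓ Alt`
  have hKB : ∀ m ∈ K, ∀ b ∈ BB 2 ℬ r ⊓ alternatingGroup (Pt 2 ℬ r),
      m * b * m⁻¹ ∈ BB 2 ℬ r ⊓ alternatingGroup (Pt 2 ℬ r) := by
    intro m hm b hb
    obtain ⟨hmA, hmB⟩ := (hKmem m).mp hm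
    exact ⟨hmB b hb.1, Subgroup.mul_mem _ (Subgroup.mul_mem _ hmA hb.2) (Subgroup.inv_mem _ hmA)⟩
  refine ⟨BB 2 ℬ r ⊓ alternatingGroup (Pt 2 ℬ r), hBS,
    fun s hs b hb => hKB s (hS₀K hs) b hb, ?_, ?_⟩
  · intro x hxA hx
    exact hBS ⟨cent_BB_alt_two h3 hr x hx, hxA⟩
  · intro n hnA hnS
    have hnB : Nz (BB 2 ℬ r) n := nz_of_normalizes_two h3 hr S₀ hSN hBS n hnS
    have h1 := gen_two hr n hnB hnA
    refine (Subgroup.closure_le _).mpr ?_ h1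
    rintro y ⟨hyB, hyA, hyp⟩
    obtain ⟨m, hmK, s, hsS, rfl⟩ := exists_conj_of_pElement hsyl hS₀A hS₀K inf_le_left
      ((hKmem y).mpr ⟨hyA, hyB⟩) hyp
    apply Subgroup.subset_closure
    exact ⟨m, s, ((hKmem m).mp hmK).1, hS₀A hsS, hKB m hmK, hKB s (hS₀K hsS), rfl, Or.inl hsS⟩

theorem model_two (h3 : 3 ≤ Fintype.card ℬ) (hr : r ≤ 1) :
    ∃ P : Sylow 2 ↥(alternatingGroup (Pt 2 ℬ r)),
      NormGenIn (alternatingGroup (Pt 2 ℬ r))
        ((P : Subgroup ↥(alternatingGroup (Pt 2 ℬ r))).map (alternatingGroup _).subtype) := by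
  obtain ⟨P, hBP, hSN⟩ := exists_sylow_two_aux (ℬ := ℬ) (r := r) hr
    (fun D hD hBD g hg => nz_of_conj_le (lt_of_le_of_lt hr (by norm_num)) D hD hBD g hg)
  refine ⟨P, normGenIn_two h3 hr _ ?_ (isSylowIn_map_subtype _ P) hBP hSN⟩
  rintro _ ⟨y, -, rfl⟩
  exact y.2

end Cfsg.Agent.Lib.Helper21_AltFusModel
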