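/-
S5165 package AF-SCTWO (architect helper21): even involutions of a set `X` closed under
Alt-conjugation and under `x * y⁻¹` inside 2-subgroups of Alt.  Mathlib only.
-/
import Mathlib

set_option autoImplicit false
set_option linter.unusedSectionVars false
set_option linter.unusedVariables false

open Equiv Equiv.Perm

namespace Cfsg.Agent.Lib.Helper79_AF_SCTWO

variable {α : Type*} [Fintype α] [DecidableEq α]

/-- Klein four-group identity on four distinct points. -/
theorem klein {a b c d : α} (hab : a ≠ b) (hac : a ≠ c) (had : a ≠ d) (hbc : b ≠ c) (hbd : b ≠ d)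
    (hcd : c ≠ d) :
    swap a b * swap c d * (swap a c * swap b d) = swap a d * swap b c := by
  ext x
  simp only [Perm.mul_apply, swap_apply_def]
  grind

/-- disjoint swaps commute -/
theorem swap_comm4 {a b c d : α} (hac : a ≠ c) (had : a ≠ d) (hbc : b ≠ c) (hbd : b ≠ d) :
    swap a b * swap c d = swap c d * swap a b := by
  ext x
  simp only [Perm.mul_apply, swap_apply_def]
  grind

/-- a permutation fixing `x` and `y` commutes with `swap x y` -/
theorem commute_swap_of_fix (u : Perm α) {x y : α} (hx : u x = x) (hy : u y = y) :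
    u * swap x y = swap x y * u := by
  rw [mul_swap_eq_swap_mul, hx, hy]

/-- an involution commutes with `swap a (y a)` -/
theorem commute_swap_inv2 (y : Perm α) (hy : y * y = 1) (a : α) :
    y * swap a (y a) = swap a (y a) * y := by
  rw [mul_swap_eq_swap_mul]
  have : y (y a) = a := by
    have := congrArg (fun f : Perm α => f a) hy
    simpa using this
  rw [this, swap_comm]

/-- double transpositions -/
def IsDT (t : Perm α) : Prop :=
  ∃ a b c d : α, a ≠ b ∧ a ≠ c ∧ a ≠ d ∧ b ≠ c ∧ b ≠ d ∧ c ≠ d ∧ t = swap a b * swap c d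

theorem IsDT.cycleType {t : Perm α} (h : IsDT t) : t.cycleType = {2, 2} := by
  obtain ⟨a, b, c, d, hab, hac, had, hbc, hbd, hcd, rfl⟩ := h
  exact cycleType_swap_mul_swap_of_nodup (by simp [*])

theorem IsDT.sign {t : Perm α} (h : IsDT t) : Perm.sign t = 1 := by
  obtain ⟨a, b, c, d, hab, hac, had, hbc, hbd, hcd, rfl⟩ := h
  simp [sign_swap hab, sign_swap hcd]

theorem IsDT.sq {t : Perm α} (h : IsDT t) : t * t = 1 := by
  obtain ⟨a, b, c, d, hab, hac, had, hbc, hbd, hcd, rfl⟩ := h
  calc swap a b * swap c d * (swap a b * swap c d)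
      = swap a b * swap c d * (swap c d * swap a b) := by rw [swap_comm4 hac had hbc hbd]
  _ = 1 := by simp [mul_assoc]

theorem IsDT.conj {t t' : Perm α} (h : IsDT t) (h' : IsDT t') :
    ∃ g ∈ alternatingGroup α, t' = g * t * g⁻¹ := by
  have hc : IsConj t t' := isConj_iff_cycleType_eq.mpr (h.cycleType.trans h'.cycleType.symm)
  obtain ⟨π, hπ⟩ := isConj_iff.mp hc
  obtain ⟨a, b, c, d, hab, hac, had, hbc, hbd, hcd, rfl⟩ := h
  rcases Int.units_eq_one_or (Perm.sign π) with h1 | h1
  · exact ⟨π, mem_alternatingGroup.mpr h1, hπ.symm⟩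
  · refine ⟨π * swap a b, ?_, ?_⟩
    · rw [mem_alternatingGroup]; simp [h1, sign_swap hab]
    · rw [← hπ]
      have hs : swap a b * (swap a b * swap c d) * (swap a b)⁻¹ = swap a b * swap c d := by
        rw [swap_inv, swap_mul_self_mul, ← swap_comm4 hac had hbc hbd]
      calc π * (swap a b * swap c d) * π⁻¹
          = π * (swap a b * (swap a b * swap c d) * (swap a b)⁻¹) * π⁻¹ := by rw [hs]
        _ = π * swap a b * (swap a b * swap c d) * (π * swap a b)⁻¹ := by
            simp only [mul_inv_rev, mul_assoc]

/-- peel two 2-cycles off an even involution -/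
theorem inv2_decomp (y : Perm α) (hy : y * y = 1) (hs : Perm.sign y = 1) (h1 : y ≠ 1) :
    ∃ a b c d : α, ∃ u : Perm α, a ≠ b ∧ a ≠ c ∧ a ≠ d ∧ b ≠ c ∧ b ≠ d ∧ c ≠ d ∧
      y = swap a b * swap c d * u ∧ u * u = 1 ∧ Perm.sign u = 1 ∧ u a = a ∧ u b = b ∧ u c = c ∧
      u d = d ∧ u.support.card < y.support.card := by
  have key : ∀ w : Perm α, w * w = 1 → ∀ a : α, w a ≠ a →
      (swap a (w a) * w) * (swap a (w a) * w) = 1 ∧ (swap a (w a) * w) a = a ∧
        (swap a (w a) * w) (w a) = w a ∧ w (w a) = a := by
    intro w hw a ha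
    have hwa : w (w a) = a := by
      have := congrArg (fun f : Perm α => f a) hw
      simpa using this
    refine ⟨?_, ?_, ?_, hwa⟩
    · calc swap a (w a) * w * (swap a (w a) * w)
          = swap a (w a) * (w * swap a (w a)) * w := by simp only [mul_assoc]
        _ = swap a (w a) * (swap a (w a) * w) * w := by rw [commute_swap_inv2 w hw a]
        _ = 1 := by rw [swap_mul_self_mul, hw]
    · simp
    · simp [hwa]
  obtain ⟨a, ha⟩ : ∃ a, y a ≠ a := by
    by_contra hc
    push Not at hc
    exact h1 (Equiv.ext hc)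
  obtain ⟨h11, h1a, h1b, hyya⟩ := key y hy a ha
  set b := y a with hb
  set y₁ := swap a b * y with hy₁
  have hab : a ≠ b := fun h => ha h.symm
  have hs1 : Perm.sign y₁ = -1 := by
    rw [hy₁, Perm.sign_mul, sign_swap hab, hs, mul_one]
  have hy₁1 : y₁ ≠ 1 := by
    intro h
    rw [h, Perm.sign_one] at hs1
    exact absurd hs1 (by decide)
  obtain ⟨c, hc⟩ : ∃ c, y₁ c ≠ c := by
    by_contra hc
    push Not at hc
    exact hy₁1 (Equiv.ext hc)
  obtain ⟨h22, h2c, h2d, hyyc⟩ := key y₁ h11 c hc
  have hac : a ≠ c := by
    intro h; apply hc; rw [← h]; exact h1a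
  have hbc : b ≠ c := by
    intro h; apply hc; rw [← h]; exact h1b
  set d := y₁ c with hd
  set u := swap c d * y₁ with hu
  have hcd : c ≠ d := fun h => hc h.symm
  have had : a ≠ d := by
    intro h
    apply hac
    have : y₁ a = y₁ d := by rw [← h]
    rw [h1a, hyyc] at this
    exact this
  have hbd : b ≠ d := by
    intro h
    apply hbc
    have : y₁ b = y₁ d := by rw [← h]
    rw [h1b, hyyc] at this
    exact this
  refine ⟨a, b, c, d, u, hab, hac, had, hbc, hbd, hcd, ?_, h22, ?_, ?_, ?_, h2c, h2d, ?_⟩
  · rw [hu, hy₁]; simp [mul_assoc]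
  · rw [hu, Perm.sign_mul, sign_swap hcd, hs1]; decide
  · rw [hu, Perm.mul_apply, h1a, swap_apply_of_ne_of_ne hac had]
  · rw [hu, Perm.mul_apply, h1b, swap_apply_of_ne_of_ne hbc hbd]
  · calc u.support.card < y₁.support.card := card_support_swap_mul hc
      _ ≤ y.support.card := (card_support_swap_mul ha).le

/-- two commuting involutions of Alt generate a 2-subgroup of Alt -/
theorem pair_pgroup (s t : Perm α) (hs : s * s = 1) (ht : t * t = 1) (hst : s * t = t * s)
    (hsA : s ∈ alternatingGroup α) (htA : t ∈ alternatingGroup α) :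
    Subgroup.closure ({s, t} : Set (Perm α)) ≤ alternatingGroup α ∧
      IsPGroup 2 (Subgroup.closure ({s, t} : Set (Perm α))) := by
  constructor
  · rw [Subgroup.closure_le]
    intro x hx
    rcases hx with rfl | rfl
    · exact hsA
    · exact htA
  · have hcomm : ∀ x ∈ ({s, t} : Set (Perm α)), ∀ h ∈ Subgroup.closure ({s, t} : Set (Perm α)),
        Commute x h := by
      intro x hx h hh
      induction hh using Subgroup.closure_induction with
      | mem k hk =>
        rcases hx with rfl | rfl <;> rcases hk with rfl | rfl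
        · exact Commute.refl _
        · exact hst
        · exact hst.symm
        · exact Commute.refl _
      | one => exact Commute.one_right _
      | mul a b _ _ ha hb => exact ha.mul_right hb
      | inv a _ ha => exact ha.inv_right
    have hP : ∀ g ∈ Subgroup.closure ({s, t} : Set (Perm α)),
        g * g = 1 ∧ ∀ h ∈ Subgroup.closure ({s, t} : Set (Perm α)), Commute g h := by
      intro g hg
      induction hg using Subgroup.closure_induction with
      | mem k hk =>
        refine ⟨?_, hcomm k hk⟩
        rcases hk with rfl | rfl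
        · exact hs
        · exact ht
      | one => exact ⟨one_mul 1, fun h _ => Commute.one_left h⟩
      | mul a b ha hb iha ihb =>
        refine ⟨?_, fun h hh => (iha.2 h hh).mul_left (ihb.2 h hh)⟩
        have hba : b * a = a * b := (ihb.2 a ha)
        calc a * b * (a * b) = a * (b * a) * b := by simp only [mul_assoc]
          _ = a * (a * b) * b := by rw [hba]
          _ = (a * a) * (b * b) := by simp only [mul_assoc]
          _ = 1 := by rw [iha.1, ihb.1, one_mul]
      | inv a ha iha =>
        refine ⟨?_, fun h hh => (iha.2 h hh).inv_left⟩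
        rw [← mul_inv_rev, iha.1, inv_one]
    intro g
    refine ⟨1, ?_⟩
    apply Subtype.ext
    rw [pow_one, pow_two]
    exact (hP g.1 g.2).1

theorem order_two_mem {α : Type*} [Fintype α] [DecidableEq α] (X : Set (Perm α))
    (hXA : X ⊆ alternatingGroup α)
    (hconj : ∀ x ∈ X, ∀ g ∈ alternatingGroup α, g * x * g⁻¹ ∈ X)
    (hsub : ∀ D : Subgroup (Perm α), D ≤ alternatingGroup α → IsPGroup 2 D →
      ∀ x ∈ D, ∀ y ∈ D, x ∈ X → y ∈ X → x * y⁻¹ ∈ X)
    (z : Perm α) (hz : z ∈ X) (hzo : orderOf z = 2) (y : Perm α)
    (hyA : y ∈ alternatingGroup α) (hy : orderOf y = 2) : y ∈ X := by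
  -- products of commuting involutions of `X`
  have hpair : ∀ s t : Perm α, s * s = 1 → t * t = 1 → s * t = t * s → s ∈ X → t ∈ X →
      s * t ∈ X := by
    intro s t hs ht hst hsX htX
    obtain ⟨hle, hp⟩ := pair_pgroup s t hs ht hst (hXA hsX) (hXA htX)
    have := hsub _ hle hp s (Subgroup.subset_closure (by simp)) t
      (Subgroup.subset_closure (by simp)) hsX htX
    have hti : t⁻¹ = t := inv_eq_of_mul_eq_one_right ht
    rwa [hti] at this
  have hz2 : z * z = 1 := by rw [← pow_two, ← hzo, pow_orderOf_eq_one]
  have hz1 : z ≠ 1 := by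
    rintro rfl
    simp at hzo
  have hzs : Perm.sign z = 1 := mem_alternatingGroup.mp (hXA hz)
  -- step 0: a double transposition in `X`
  obtain ⟨a, b, c, d, u, hab, hac, had, hbc, hbd, hcd, hzu, hu2, hus, hua, hub, huc, hud, -⟩ :=
    inv2_decomp z hz2 hzs hz1
  have hπA : swap b c * swap a b ∈ alternatingGroup α := by
    rw [mem_alternatingGroup]; simp [sign_swap hbc, sign_swap hab]
  have hz' : (swap b c * swap a b) * z * (swap b c * swap a b)⁻¹ ∈ X := hconj z hz _ hπA
  have huab := commute_swap_of_fix u hua hub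
  have hubc := commute_swap_of_fix u hub huc
  have huac := commute_swap_of_fix u hua huc
  have hubd := commute_swap_of_fix u hub hud
  have hucd := commute_swap_of_fix u huc hud
  have hπt : (swap b c * swap a b) * (swap a b * swap c d) * (swap b c * swap a b)⁻¹ =
      swap a c * swap b d := by
    ext x
    simp only [Perm.mul_apply, mul_inv_rev, swap_inv, swap_apply_def]
    grind
  have hπu : (swap b c * swap a b) * u * (swap b c * swap a b)⁻¹ = u := by
    have h1 : (swap b c * swap a b) * u = u * (swap b c * swap a b) := by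
      rw [mul_assoc, ← huab, ← mul_assoc, ← hubc, mul_assoc]
    rw [h1, mul_assoc, mul_inv_cancel, mul_one]
  have hz'eq : (swap b c * swap a b) * z * (swap b c * swap a b)⁻¹ = swap a c * swap b d * u := by
    rw [hzu]
    calc (swap b c * swap a b) * (swap a b * swap c d * u) * (swap b c * swap a b)⁻¹
        = ((swap b c * swap a b) * (swap a b * swap c d) * (swap b c * swap a b)⁻¹) *
          ((swap b c * swap a b) * u * (swap b c * swap a b)⁻¹) := by group
      _ = swap a c * swap b d * u := by rw [hπt, hπu]
  rw [hz'eq] at hz'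
  have hut2 : u * (swap a c * swap b d) = (swap a c * swap b d) * u := by
    rw [← mul_assoc, huac, mul_assoc, hubd, mul_assoc]
  have hut1 : u * (swap a b * swap c d) = (swap a b * swap c d) * u := by
    rw [← mul_assoc, huab, mul_assoc, hucd, mul_assoc]
  have hzz' : z * (swap a c * swap b d * u) = swap a d * swap b c := by
    rw [hzu]
    calc swap a b * swap c d * u * (swap a c * swap b d * u)
        = swap a b * swap c d * (u * (swap a c * swap b d)) * u := by simp only [mul_assoc]
      _ = swap a b * swap c d * (swap a c * swap b d) * (u * u) := by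
          rw [hut2]; simp only [mul_assoc]
      _ = swap a d * swap b c := by rw [hu2, mul_one, klein hab hac had hbc hbd hcd]
  have hz'z : (swap a c * swap b d * u) * z = swap a d * swap b c := by
    rw [hzu]
    calc swap a c * swap b d * u * (swap a b * swap c d * u)
        = swap a c * swap b d * (u * (swap a b * swap c d)) * u := by simp only [mul_assoc]
      _ = swap a c * swap b d * (swap a b * swap c d) * (u * u) := by
          rw [hut1]; simp only [mul_assoc]
      _ = swap a d * swap b c := by
          rw [hu2, mul_one, klein hac hab had hbc.symm hcd hbd, swap_comm c b]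
  have hz'2 : (swap a c * swap b d * u) * (swap a c * swap b d * u) = 1 := by
    have hdt : IsDT (swap a c * swap b d) := ⟨a, c, b, d, hac, hab, had, hbc.symm, hcd, hbd, rfl⟩
    calc swap a c * swap b d * u * (swap a c * swap b d * u)
        = swap a c * swap b d * (u * (swap a c * swap b d)) * u := by simp only [mul_assoc]
      _ = (swap a c * swap b d) * (swap a c * swap b d) * (u * u) := by
          rw [hut2]; simp only [mul_assoc]
      _ = 1 := by rw [hu2, hdt.sq, mul_one]
  have ht3 : swap a d * swap b c ∈ X := by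
    rw [← hzz']
    exact hpair _ _ hz2 hz'2 (hzz'.trans hz'z.symm) hz hz'
  have hdt3 : IsDT (swap a d * swap b c) := ⟨a, d, b, c, had, hab, hac, hbd.symm, hcd.symm, hbc, rfl⟩
  -- claim B: all double transpositions
  have hB : ∀ t : Perm α, IsDT t → t ∈ X := by
    intro t ht
    obtain ⟨g, hg, rfl⟩ := hdt3.conj ht
    exact hconj _ ht3 g hg
  -- claim C: all even involutions
  have hC : ∀ n : ℕ, ∀ w : Perm α, w.support.card = n → w * w = 1 → Perm.sign w = 1 → w ≠ 1 →
      w ∈ X := by
    intro n
    induction n using Nat.strong_induction_on with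
    | _ n ih =>
      intro w hwn hw2 hws hw1
      obtain ⟨a, b, c, d, v, hab, hac, had, hbc, hbd, hcd, hwv, hv2, hvs, hva, hvb, hvc, hvd, hlt⟩ :=
        inv2_decomp w hw2 hws hw1
      have hdt : IsDT (swap a b * swap c d) := ⟨a, b, c, d, hab, hac, had, hbc, hbd, hcd, rfl⟩
      by_cases hv1 : v = 1
      · rw [hwv, hv1, mul_one]
        exact hB _ hdt
      · have hvX : v ∈ X := ih _ (hwn ▸ hlt) v rfl hv2 hvs hv1
        have hvab := commute_swap_of_fix v hva hvb
        have hvcd := commute_swap_of_fix v hvc hvd
        have hvt : v * (swap a b * swap c d) = (swap a b * swap c d) * v := by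
          rw [← mul_assoc, hvab, mul_assoc, hvcd, mul_assoc]
        rw [hwv]
        exact hpair _ _ hdt.sq hv2 hvt.symm (hB _ hdt) hvX
  have hy2 : y * y = 1 := by rw [← pow_two, ← hy, pow_orderOf_eq_one]
  have hy1 : y ≠ 1 := by
    rintro rfl
    simp at hy
  exact hC _ y rfl hy2 (mem_alternatingGroup.mp hyA) hy1

end Cfsg.Agent.Lib.Helper79_AF_SCTWO
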