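import Mathlib

/-!
# S5165 package AF-SCP (architect helper21): the conjugation-closure principle

If `T ≤ S` is strongly closed in the Sylow subgroup `S` (with respect to `G`), then the union `XT T` of the
conjugates of `T` meets every `p`-subgroup of `G` in a subgroup.
-/

set_option autoImplicit false
set_option linter.unusedSectionVars false
set_option linter.unusedVariables false

open Equiv Equiv.Perm

namespace Cfsg.Agent.Lib.Helper89_AF_SCP

/-- the union of the conjugates of `T` -/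
def XT {G : Type*} [Group G] (T : Subgroup G) : Set G := {x | ∃ g : G, ∃ t ∈ T, x = g * t * g⁻¹}

theorem XT_mul_inv {G : Type*} [Group G] [Finite G] {p : ℕ} [Fact p.Prime] (S : Sylow p G)
    (T : Subgroup G) (hTS : T ≤ (S : Subgroup G))
    (hT : ∀ t ∈ T, ∀ g : G, g * t * g⁻¹ ∈ (S : Subgroup G) → g * t * g⁻¹ ∈ T)
    (D : Subgroup G) (hD : IsPGroup p D) {x y : G} (hx : x ∈ D) (hy : y ∈ D)
    (hxX : x ∈ XT T) (hyX : y ∈ XT T) : x * y⁻¹ ∈ XT T := by
  obtain ⟨P, hP⟩ := hD.exists_le_sylow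
  obtain ⟨g, hg⟩ := MulAction.exists_smul_eq G P S
  have hmem : ∀ d ∈ D, g * d * g⁻¹ ∈ (S : Subgroup G) := by
    intro d hd
    rw [← hg, Sylow.coe_subgroup_smul]
    have := Subgroup.smul_mem_pointwise_smul d (MulAut.conj g) (P : Subgroup G) (hP hd)
    rwa [MulAut.smul_def, MulAut.conj_apply] at this
  have hconj : ∀ z ∈ D, z ∈ XT T → g * z * g⁻¹ ∈ T := by
    rintro z hz ⟨a, t, ht, rfl⟩
    have e : g * (a * t * a⁻¹) * g⁻¹ = (g * a) * t * (g * a)⁻¹ := by group
    rw [e]
    apply hT t ht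
    rw [← e]
    exact hmem _ hz
  have h1 := hconj x hx hxX
  have h2 := hconj y hy hyX
  refine ⟨g⁻¹, (g * x * g⁻¹) * (g * y * g⁻¹)⁻¹, T.mul_mem h1 (T.inv_mem h2), ?_⟩
  group

end Cfsg.Agent.Lib.Helper89_AF_SCP
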