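import Mathlib

/-!
# S5165 package AF-SCCONJ (architect helper21, proof helper91)

Conjugacy in the alternating group: two permutations of the same cycle type are conjugate under the
alternating group as soon as the centralizer of one of them contains an odd permutation.
-/

set_option autoImplicit false
set_option linter.unusedSectionVars false
set_option linter.unusedVariables false

open Equiv Equiv.Perm

namespace Cfsg.Agent.Lib.Helper91_AF_SCCONJ

theorem alt_conj_of_cycleType {α : Type*} [Fintype α] [DecidableEq α] (x y : Perm α)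
    (hxy : x.cycleType = y.cycleType)
    (hnc : ¬ (Subgroup.centralizer {x} ≤ alternatingGroup α)) :
    ∃ g ∈ alternatingGroup α, y = g * x * g⁻¹ := by
  obtain ⟨g0, hg0⟩ := isConj_iff.mp ((Equiv.Perm.isConj_iff_cycleType_eq).mpr hxy)
  by_cases hs : g0 ∈ alternatingGroup α
  · exact ⟨g0, hs, hg0.symm⟩
  · obtain ⟨h, hh, hhA⟩ := SetLike.not_le_iff_exists.mp hnc
    have hcomm : x * h = h * x := Subgroup.mem_centralizer_iff.mp hh x (Set.mem_singleton x)
    have hs0 : sign g0 = -1 := by
      rcases Int.units_eq_one_or (sign g0) with h1 | h1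
      · exact absurd (mem_alternatingGroup.mpr h1) hs
      · exact h1
    have hsh : sign h = -1 := by
      rcases Int.units_eq_one_or (sign h) with h1 | h1
      · exact absurd (mem_alternatingGroup.mpr h1) hhA
      · exact h1
    refine ⟨g0 * h, ?_, ?_⟩
    · rw [mem_alternatingGroup, Equiv.Perm.sign_mul, hs0, hsh]
      rfl
    · rw [← hg0]
      have : h * x * h⁻¹ = x := by rw [← hcomm, mul_inv_cancel_right]
      calc g0 * x * g0⁻¹ = g0 * (h * x * h⁻¹) * g0⁻¹ := by rw [this]
        _ = g0 * h * x * (g0 * h)⁻¹ := by group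

theorem alt_conj_replicate {α : Type*} [Fintype α] [DecidableEq α] (q j : ℕ) (x y : Perm α)
    (hx : x.cycleType = Multiset.replicate j q) (hy : y.cycleType = Multiset.replicate j q)
    (h : 2 ≤ j ∨ j * q + 2 ≤ Fintype.card α) :
    ∃ g ∈ alternatingGroup α, y = g * x * g⁻¹ := by
  apply alt_conj_of_cycleType x y (hx.trans hy.symm)
  rw [centralizer_le_alternating_iff]
  rintro ⟨_, hcard, hcount⟩
  rcases h with h | h
  · have := hcount q
    rw [hx, Multiset.count_replicate_self] at this
    omega
  · rw [hx, Multiset.sum_replicate, smul_eq_mul] at hcard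
    omega

end Cfsg.Agent.Lib.Helper91_AF_SCCONJ
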