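import Mathlib
import Cfsg.Agent.Lib.Helper91_AF_SCCONJ

/-!
# S5165 package AF-SCODD (architect helper21, proof helper91)

`p` odd: a subset `X` of the alternating group, closed under conjugation and meeting every `p`-subgroup in a
subgroup, which contains one element of order `p`, contains all of them.
-/

set_option autoImplicit false
set_option linter.unusedSectionVars false
set_option linter.unusedVariables false

open Equiv Equiv.Perm

namespace Cfsg.Agent.Lib.Helper91_AF_SCODD

open Cfsg.Agent.Lib.Helper91_AF_SCCONJ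

/-! ### generic group theory -/

/-- elements of the closure of a commuting set commute with the generators -/
theorem commute_gen_of_mem_closure {G : Type*} [Group G] {S : Set G}
    (hcomm : ∀ a ∈ S, ∀ b ∈ S, Commute a b) {x : G} (hx : x ∈ Subgroup.closure S) :
    ∀ b ∈ S, Commute x b := by
  induction hx using Subgroup.closure_induction with
  | mem a ha => exact fun b hb => hcomm a ha b hb
  | one => exact fun b _ => Commute.one_left b
  | mul a c _ _ iha ihc => exact fun b hb => (iha b hb).mul_left (ihc b hb)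
  | inv a _ iha => exact fun b hb => (iha b hb).inv_left

/-- the closure of a commuting set is commutative -/
theorem commute_of_mem_closure {G : Type*} [Group G] {S : Set G}
    (hcomm : ∀ a ∈ S, ∀ b ∈ S, Commute a b) {x y : G} (hx : x ∈ Subgroup.closure S)
    (hy : y ∈ Subgroup.closure S) : Commute x y := by
  induction hy using Subgroup.closure_induction with
  | mem b hb => exact commute_gen_of_mem_closure hcomm hx b hb
  | one => exact Commute.one_right x
  | mul a c _ _ iha ihc => exact iha.mul_right ihc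
  | inv a _ iha => exact iha.inv_right

/-- in the closure of a commuting set of elements of exponent `n` every element has exponent `n` -/
theorem pow_eq_one_of_mem_closure {G : Type*} [Group G] {S : Set G} {n : ℕ}
    (hcomm : ∀ a ∈ S, ∀ b ∈ S, Commute a b) (hpow : ∀ a ∈ S, a ^ n = 1) {x : G}
    (hx : x ∈ Subgroup.closure S) : x ^ n = 1 := by
  induction hx using Subgroup.closure_induction with
  | mem a ha => exact hpow a ha
  | one => exact one_pow n
  | mul a c ha hc iha ihc =>
    rw [(commute_of_mem_closure hcomm ha hc).mul_pow, iha, ihc, one_mul]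
  | inv a _ iha => rw [inv_pow, iha, inv_one]

/-- the closure of a commuting set of elements of order dividing `p` is a `p`-group -/
theorem isPGroup_closure {G : Type*} [Group G] {S : Set G} {p : ℕ}
    (hcomm : ∀ a ∈ S, ∀ b ∈ S, Commute a b) (hpow : ∀ a ∈ S, a ^ p = 1) :
    IsPGroup p ↥(Subgroup.closure S) := by
  intro g
  refine ⟨1, ?_⟩
  apply Subtype.ext
  rw [pow_one, Subgroup.coe_pow, Subgroup.coe_one]
  exact pow_eq_one_of_mem_closure hcomm hpow g.2

/-! ### the subgroup property of `X` -/

section X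

variable {α : Type*} [Fintype α] [DecidableEq α] {p : ℕ} (X : Set (Perm α))
  (hsub : ∀ D : Subgroup (Perm α), D ≤ alternatingGroup α → IsPGroup p D →
      ∀ x ∈ D, ∀ y ∈ D, x ∈ X → y ∈ X → x * y⁻¹ ∈ X)

include hsub

theorem X_inv (h1 : (1 : Perm α) ∈ X) (D : Subgroup (Perm α)) (hDA : D ≤ alternatingGroup α)
    (hD : IsPGroup p D) {x : Perm α} (hxD : x ∈ D) (hx : x ∈ X) : x⁻¹ ∈ X := by
  have := hsub D hDA hD 1 D.one_mem x hxD h1 hx
  rwa [one_mul] at this

theorem X_mul (h1 : (1 : Perm α) ∈ X) (D : Subgroup (Perm α)) (hDA : D ≤ alternatingGroup α)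
    (hD : IsPGroup p D) {x y : Perm α} (hxD : x ∈ D) (hyD : y ∈ D) (hx : x ∈ X) (hy : y ∈ X) :
    x * y ∈ X := by
  have hy' := X_inv X hsub h1 D hDA hD hyD hy
  have := hsub D hDA hD x hxD y⁻¹ (D.inv_mem hyD) hx hy'
  rwa [inv_inv] at this

/-- a `p`-subgroup of `Alt` generated by elements of `X` lies in `X` -/
theorem closure_subset_X (h1 : (1 : Perm α) ∈ X) (S : Set (Perm α)) (hS : S ⊆ X)
    (hDA : Subgroup.closure S ≤ alternatingGroup α) (hD : IsPGroup p ↥(Subgroup.closure S))
    {x : Perm α} (hx : x ∈ Subgroup.closure S) : x ∈ X := by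
  induction hx using Subgroup.closure_induction with
  | mem a ha => exact hS ha
  | one => exact h1
  | mul a c ha hc iha ihc => exact X_mul X hsub h1 _ hDA hD ha hc iha ihc
  | inv a ha iha => exact X_inv X hsub h1 _ hDA hD ha iha

end X

/-! ### `p`-cycles -/

/-- a cycle of odd length is even -/
theorem isCycle_mem_alt {α : Type*} [Fintype α] [DecidableEq α] {c : Perm α} (hc : c.IsCycle)
    (hodd : Odd c.support.card) : c ∈ alternatingGroup α := by
  rw [mem_alternatingGroup, hc.sign, hodd.neg_one_pow, neg_neg]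

/-- the cycle factors of an element of prime order `p` are `p`-cycles -/
theorem card_support_of_mem_cycleFactors {α : Type*} [Fintype α] [DecidableEq α] {p : ℕ}
    [Fact p.Prime] {z c : Perm α} (hzo : orderOf z = p) (hc : c ∈ z.cycleFactorsFinset) :
    c.support.card = p := by
  have hpr : (orderOf z).Prime := by rw [hzo]; exact Fact.out
  obtain ⟨n, hn⟩ := cycleType_prime_order hpr
  have hmem : c.support.card ∈ z.cycleType := by
    rw [cycleType_def]
    exact Multiset.mem_map_of_mem _ hc
  rw [hn] at hmem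
  rw [Multiset.eq_of_mem_replicate hmem, hzo]

theorem order_p_mem_odd {α : Type*} [Fintype α] [DecidableEq α] {p : ℕ} [Fact p.Prime]
    (hp : p ≠ 2) (hcard : p + 2 ≤ Fintype.card α) (X : Set (Perm α))
    (hXA : X ⊆ alternatingGroup α)
    (hconj : ∀ x ∈ X, ∀ g ∈ alternatingGroup α, g * x * g⁻¹ ∈ X)
    (hsub : ∀ D : Subgroup (Perm α), D ≤ alternatingGroup α → IsPGroup p D →
      ∀ x ∈ D, ∀ y ∈ D, x ∈ X → y ∈ X → x * y⁻¹ ∈ X)
    (z : Perm α) (hz : z ∈ X) (hzo : orderOf z = p) (y : Perm α) (hy : orderOf y = p) :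
    y ∈ X := by
  have hpp : p.Prime := Fact.out
  have hpodd : Odd p := hpp.odd_of_ne_two hp
  have hzpr : (orderOf z).Prime := by rw [hzo]; exact hpp
  have hzp : z ^ p = 1 := by rw [← hzo]; exact pow_orderOf_eq_one z
  -- `1 ∈ X`
  have h1 : (1 : Perm α) ∈ X := by
    have hD : IsPGroup p ↥(Subgroup.closure ({z} : Set (Perm α))) :=
      isPGroup_closure (by
        intro a ha b hb
        rw [Set.mem_singleton_iff] at ha hb
        subst ha hb
        exact Commute.refl _) (by
        intro a ha
        rw [Set.mem_singleton_iff] at ha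
        rw [ha, hzp])
    have hDA : Subgroup.closure ({z} : Set (Perm α)) ≤ alternatingGroup α := by
      rw [Subgroup.closure_le]
      intro a ha
      rw [Set.mem_singleton_iff] at ha
      rw [ha]
      exact hXA hz
    have hzD : z ∈ Subgroup.closure ({z} : Set (Perm α)) :=
      Subgroup.subset_closure (Set.mem_singleton z)
    have := hsub _ hDA hD z hzD z hzD hz hz
    rwa [mul_inv_cancel] at this
  -- a cycle factor of `z`
  obtain ⟨n, hn⟩ := cycleType_prime_order hzpr
  rw [hzo] at hn
  have hzne : z ≠ 1 := by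
    rintro rfl
    rw [orderOf_one] at hzo
    exact hpp.one_lt.ne hzo
  obtain ⟨c, hc⟩ : ∃ c, c ∈ z.cycleFactorsFinset := by
    have : z.cycleFactorsFinset.Nonempty := by
      rw [Finset.nonempty_iff_ne_empty]
      intro h
      exact hzne (cycleFactorsFinset_eq_empty_iff.mp h)
    exact this
  have hcc : c.IsCycle := (mem_cycleFactorsFinset_iff.mp hc).1
  have hcs : c.support.card = p := card_support_of_mem_cycleFactors hzo hc
  have hcp : c ^ p = 1 := by
    rw [← hcs, ← hcc.orderOf]
    exact pow_orderOf_eq_one c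
  have hcz : Commute c z := self_mem_cycle_factors_commute hc
  have hcA : c ∈ alternatingGroup α := isCycle_mem_alt hcc (by rw [hcs]; exact hpodd)
  -- `z' = z * c⁻¹ * c⁻¹` has the cycle type of `z`
  have hdisj : Disjoint (z * c⁻¹) c := disjoint_mul_inv_of_mem_cycleFactorsFinset hc
  have hz'type : (z * c⁻¹ * c⁻¹).cycleType = Multiset.replicate (n + 1) p := by
    rw [hdisj.inv_right.cycleType_mul, cycleType_inv, ← hdisj.cycleType_mul, inv_mul_cancel_right, hn]
  obtain ⟨g, hgA, hg⟩ := alt_conj_replicate p (n + 1) z (z * c⁻¹ * c⁻¹) hn hz'type (by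
    rcases Nat.eq_zero_or_pos n with h0 | h0
    · right
      rw [h0, zero_add, one_mul]
      exact hcard
    · left
      omega)
  have hz'X : z * c⁻¹ * c⁻¹ ∈ X := by
    rw [hg]
    exact hconj z hz g hgA
  -- the abelian `p`-group `⟨z, c⟩`
  have hcommS : ∀ a ∈ ({z, c} : Set (Perm α)), ∀ b ∈ ({z, c} : Set (Perm α)), Commute a b := by
    intro a ha b hb
    rcases ha with rfl | ha <;> rcases hb with rfl | hb
    · exact Commute.refl _
    · rw [Set.mem_singleton_iff] at hb
      rw [hb]
      exact hcz.symm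
    · rw [Set.mem_singleton_iff] at ha
      rw [ha]
      exact hcz
    · rw [Set.mem_singleton_iff] at ha hb
      subst ha hb
      exact Commute.refl _
  have hpowS : ∀ a ∈ ({z, c} : Set (Perm α)), a ^ p = 1 := by
    intro a ha
    rcases ha with rfl | ha
    · exact hzp
    · rw [Set.mem_singleton_iff] at ha
      rw [ha]
      exact hcp
  have hD : IsPGroup p ↥(Subgroup.closure ({z, c} : Set (Perm α))) := isPGroup_closure hcommS hpowS
  have hDA : Subgroup.closure ({z, c} : Set (Perm α)) ≤ alternatingGroup α := by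
    rw [Subgroup.closure_le]
    intro a ha
    rcases ha with rfl | ha
    · exact hXA hz
    · rw [Set.mem_singleton_iff] at ha
      rw [ha]
      exact hcA
  have hzD : z ∈ Subgroup.closure ({z, c} : Set (Perm α)) :=
    Subgroup.subset_closure (Set.mem_insert z _)
  have hcD : c ∈ Subgroup.closure ({z, c} : Set (Perm α)) :=
    Subgroup.subset_closure (Set.mem_insert_of_mem z (Set.mem_singleton c))
  have hz'D : z * c⁻¹ * c⁻¹ ∈ Subgroup.closure ({z, c} : Set (Perm α)) :=
    Subgroup.mul_mem _ (Subgroup.mul_mem _ hzD (Subgroup.inv_mem _ hcD)) (Subgroup.inv_mem _ hcD)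
  -- `c * c ∈ X`
  have hccX : c * c ∈ X := by
    have := hsub _ hDA hD z hzD (z * c⁻¹ * c⁻¹) hz'D hz hz'X
    have e : z * (z * c⁻¹ * c⁻¹)⁻¹ = c * c := by
      rw [mul_inv_rev, mul_inv_rev, inv_inv, ← mul_assoc, ← mul_assoc, hcz.eq.symm, mul_assoc c,
        hcz.eq.symm, mul_assoc, mul_assoc, mul_inv_cancel, mul_one]
    rwa [e] at this
  -- `c ∈ X`
  have hcX : c ∈ X := by
    have hccD : c * c ∈ Subgroup.closure ({z, c} : Set (Perm α)) := Subgroup.mul_mem _ hcD hcD
    have hpowX : ∀ k : ℕ, (c * c) ^ k ∈ X ∧ (c * c) ^ k ∈ Subgroup.closure ({z, c} : Set (Perm α)) := by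
      intro k
      induction k with
      | zero => exact ⟨by rw [pow_zero]; exact h1, by rw [pow_zero]; exact Subgroup.one_mem _⟩
      | succ k ih =>
        rw [pow_succ]
        exact ⟨X_mul X hsub h1 _ hDA hD ih.2 hccD ih.1 hccX, Subgroup.mul_mem _ ih.2 hccD⟩
    obtain ⟨m, hm⟩ := hpodd
    have e : (c * c) ^ (m + 1) = c := by
      rw [← pow_two, ← pow_mul]
      have : 2 * (m + 1) = p + 1 := by omega
      rw [this, pow_succ, hcp, one_mul]
    rw [← e]
    exact (hpowX (m + 1)).1
  -- all `p`-cycles lie in `X`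
  have hcyc : ∀ c' : Perm α, c'.IsCycle → c'.support.card = p → c' ∈ X := by
    intro c' hc' hs'
    have t1 : c.cycleType = Multiset.replicate 1 p := by
      rw [hcc.cycleType, hcs, Multiset.replicate_one]
    have t2 : c'.cycleType = Multiset.replicate 1 p := by
      rw [hc'.cycleType, hs', Multiset.replicate_one]
    obtain ⟨g', hg'A, hg'⟩ := alt_conj_replicate p 1 c c' t1 t2 (Or.inr (by rw [one_mul]; exact hcard))
    rw [hg']
    exact hconj c hcX g' hg'A
  -- the cycle factors of `y`
  have hSX : (y.cycleFactorsFinset : Set (Perm α)) ⊆ X := by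
    intro c' hc'
    exact hcyc c' (mem_cycleFactorsFinset_iff.mp hc').1 (card_support_of_mem_cycleFactors hy hc')
  have hcommY : ∀ a ∈ (y.cycleFactorsFinset : Set (Perm α)),
      ∀ b ∈ (y.cycleFactorsFinset : Set (Perm α)), Commute a b :=
    fun a ha b hb => cycleFactorsFinset_mem_commute' y ha hb
  have hpowY : ∀ a ∈ (y.cycleFactorsFinset : Set (Perm α)), a ^ p = 1 := by
    intro a ha
    have hac : a.IsCycle := (mem_cycleFactorsFinset_iff.mp ha).1
    rw [← card_support_of_mem_cycleFactors hy ha, ← hac.orderOf]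
    exact pow_orderOf_eq_one a
  have hDY : IsPGroup p ↥(Subgroup.closure (y.cycleFactorsFinset : Set (Perm α))) :=
    isPGroup_closure hcommY hpowY
  have hDYA : Subgroup.closure (y.cycleFactorsFinset : Set (Perm α)) ≤ alternatingGroup α := by
    rw [Subgroup.closure_le]
    exact fun a ha => hXA (hSX ha)
  have hyD : y ∈ Subgroup.closure (y.cycleFactorsFinset : Set (Perm α)) := by
    have hprod := cycleFactorsFinset_noncommProd y
    have hmem : y.cycleFactorsFinset.noncommProd id (cycleFactorsFinset_mem_commute y) ∈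
        Subgroup.closure (y.cycleFactorsFinset : Set (Perm α)) :=
      Subgroup.noncommProd_mem _ _ (fun c' hc' => Subgroup.subset_closure hc')
    rwa [hprod] at hmem
  exact closure_subset_X X hsub h1 _ hSX hDYA hDY hyD

end Cfsg.Agent.Lib.Helper91_AF_SCODD
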