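import Mathlib
import Cfsg.Agent.Lib.Helper67_SymSylow
import Cfsg.Agent.Lib.Helper21_FusGC
import Cfsg.Agent.Lib.Helper89_AF_SCP
import Cfsg.Agent.Lib.Helper91_AF_SCODD
import Cfsg.Agent.Lib.Helper79_AF_SCTWO

/-!
# S5165: no proper non-trivial strongly closed subgroup in a Sylow subgroup of `A_n` (helper21)

Assembly of AF-SCP (helper89), AF-SCODD (helper91), AF-SCTWO (helper79) and
`Helper67_SymSylow.genPowSub_sylow_alt`.
-/

set_option autoImplicit false
set_option linter.unusedSectionVars false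
set_option linter.unusedVariables false

open Equiv Equiv.Perm Cfsg.Agent.Lib.Helper67_SymSylow
  Cfsg.Agent.Lib.Helper21_FusGC Cfsg.Agent.Lib.Helper89_AF_SCP Cfsg.Agent.Lib.Helper91_AF_SCODD
  Cfsg.Agent.Lib.Helper79_AF_SCTWO

namespace Cfsg.Agent.Lib.Helper21_AltFusSC

theorem noSC_alt (n p : ℕ) [Fact p.Prime] (hnp : p ^ 2 ≤ n)
    (S : Sylow p (alternatingGroup (Fin n))) :
    NoSC (S : Subgroup (alternatingGroup (Fin n))) := by
  classical
  intro T hTS hT0 hT
  have hp := (Fact.out : p.Prime)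
  -- the set `X`
  set X : Set (Perm (Fin n)) :=
    {x | ∃ h : x ∈ alternatingGroup (Fin n), (⟨x, h⟩ : alternatingGroup (Fin n)) ∈ XT T} with hX
  have hXA : X ⊆ alternatingGroup (Fin n) := fun x hx => hx.1
  have hconj : ∀ x ∈ X, ∀ g ∈ alternatingGroup (Fin n), g * x * g⁻¹ ∈ X := by
    rintro x ⟨hxA, g₀, t, ht, hxt⟩ g hg
    refine ⟨Subgroup.mul_mem _ (Subgroup.mul_mem _ hg hxA) (Subgroup.inv_mem _ hg),
      ⟨g, hg⟩ * g₀, t, ht, ?_⟩
    apply Subtype.ext
    have h1 : x = (g₀ : Perm (Fin n)) * (t : Perm (Fin n)) * (g₀ : Perm (Fin n))⁻¹ :=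
      congrArg Subtype.val hxt
    show g * x * g⁻¹ = (g * (g₀ : Perm (Fin n))) * (t : Perm (Fin n)) *
      (g * (g₀ : Perm (Fin n)))⁻¹
    rw [h1]
    group
  have hsub : ∀ D : Subgroup (Perm (Fin n)), D ≤ alternatingGroup (Fin n) → IsPGroup p D →
      ∀ x ∈ D, ∀ y ∈ D, x ∈ X → y ∈ X → x * y⁻¹ ∈ X := by
    rintro D hDA hDp x hxD y hyD ⟨hxA, hx⟩ ⟨hyA, hy⟩
    have hD' : IsPGroup p (D.subgroupOf (alternatingGroup (Fin n))) :=
      hDp.comap_of_injective _ (Subgroup.subtype_injective _)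
    have := XT_mul_inv S T hTS hT (D.subgroupOf (alternatingGroup (Fin n))) hD'
      (x := ⟨x, hxA⟩) (y := ⟨y, hyA⟩) (Subgroup.mem_subgroupOf.mpr hxD)
      (Subgroup.mem_subgroupOf.mpr hyD) hx hy
    exact ⟨Subgroup.mul_mem _ hxA (Subgroup.inv_mem _ hyA), this⟩
  -- an element of order `p` in `T`
  have hTp : IsPGroup p T := S.isPGroup'.to_le hTS
  have hTnt : Nontrivial T := (Subgroup.nontrivial_iff_ne_bot T).mpr hT0
  obtain ⟨k, hk⟩ := IsPGroup.iff_card.mp hTp
  have hk0 : k ≠ 0 := by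
    rintro rfl
    rw [pow_zero] at hk
    have := (Nat.card_eq_one_iff_unique.mp hk).1
    exact not_subsingleton T this
  have hdvd : p ∣ Nat.card T := by
    rw [hk]; exact dvd_pow_self p hk0
  obtain ⟨z, hz⟩ := exists_prime_orderOf_dvd_card' p hdvd
  have hzX : ((z : alternatingGroup (Fin n)) : Perm (Fin n)) ∈ X :=
    ⟨(z : alternatingGroup (Fin n)).2, 1, z, z.2, by simp⟩
  have hzo : orderOf ((z : alternatingGroup (Fin n)) : Perm (Fin n)) = p := by
    rw [Subgroup.orderOf_coe, Subgroup.orderOf_coe, hz]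
  -- all elements of order `p` of `S` lie in `T`
  have key : ∀ y : alternatingGroup (Fin n), y ∈ (S : Subgroup _) → y ^ p = 1 → y ∈ T := by
    intro y hyS hyp
    by_cases hy1 : y = 1
    · rw [hy1]; exact T.one_mem
    have hyo : orderOf (y : Perm (Fin n)) = p := by
      rw [Subgroup.orderOf_coe]
      exact orderOf_eq_prime hyp hy1
    have hyX : (y : Perm (Fin n)) ∈ X := by
      by_cases hp2 : p = 2
      · subst hp2
        exact order_two_mem X hXA hconj hsub _ hzX hzo _ y.2 hyo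
      · have hcard : p + 2 ≤ Fintype.card (Fin n) := by
          rw [Fintype.card_fin]
          have h3 : 3 ≤ p := by
            have := hp.two_le
            omega
          nlinarith
        exact order_p_mem_odd hp2 hcard X hXA hconj hsub _ hzX hzo _ hyo
    obtain ⟨hyA, g, t, ht, hyt⟩ := hyX
    have hyt' : y = g * t * g⁻¹ := hyt
    rw [hyt']
    apply hT t ht g
    rw [← hyt']
    exact hyS
  have hgen := genPowSub_sylow_alt p n S
  unfold GenPowSub at hgen
  apply le_antisymm hTS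
  rw [← hgen, Subgroup.closure_le]
  rintro y ⟨hyS, hyp⟩
  exact key y hyS hyp

end Cfsg.Agent.Lib.Helper21_AltFusSC
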