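import Mathlib
import Cfsg.Prelude.Def_FusionSystem
import Cfsg.Agent.Lib.Helper67_SymSylow
import Cfsg.Agent.Lib.Helper21_FusGCRel
import Cfsg.Agent.Lib.Helper21_AltFusModel
import Cfsg.Agent.Lib.Helper21_AltFusSC

/-!
# S5165: the `p`-fusion system of `A_n` is simple (helper21): final assembly

Model (`Helper21_AltFusModel`) + transport to `Fin n` + strongly closed subgroups
(`Helper21_AltFusSC`) + the generic criterion `Helper21_FusGC.isSimple_of_normGen`.
-/

set_option autoImplicit false
set_option linter.unusedSectionVars false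
set_option linter.unusedVariables false

open Equiv Equiv.Perm Cfsg.Agent.Lib.Helper67_SymSylow Cfsg.Agent.Lib.Helper21_AltFusDefs
  Cfsg.Agent.Lib.Helper21_FusGC Cfsg.Agent.Lib.Helper21_AltFusModel
  Cfsg.Agent.Lib.Helper21_AltFusSC

namespace Cfsg.Agent.Lib.Helper21_AltFusFinal

/-- transport of the model hypothesis to `alternatingGroup (Fin n)` -/
theorem normGen_transport {α β : Type} [Fintype α] [DecidableEq α] [Fintype β] [DecidableEq β]
    (e : α ≃ β) {p : ℕ} [Fact p.Prime] (P : Sylow p ↥(alternatingGroup α))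
    (h : NormGenIn (alternatingGroup α)
      ((P : Subgroup ↥(alternatingGroup α)).map (alternatingGroup α).subtype))
    (S : Sylow p ↥(alternatingGroup β)) : NormGen (S : Subgroup ↥(alternatingGroup β)) := by
  have hle : (P : Subgroup ↥(alternatingGroup α)).map (alternatingGroup α).subtype ≤
      alternatingGroup α := by
    rintro _ ⟨y, -, rfl⟩
    exact y.2
  have h1 := normGen_of_in _ _ hle h
  have h2 : ((P : Subgroup ↥(alternatingGroup α)).map (alternatingGroup α).subtype).subgroupOf
      (alternatingGroup α) = (P : Subgroup ↥(alternatingGroup α)) := by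
    ext x
    rw [Subgroup.mem_subgroupOf]
    constructor
    · rintro ⟨y, hy, hxy⟩
      have : y = x := Subtype.ext hxy
      rwa [← this]
    · intro hx
      exact ⟨x, hx, rfl⟩
  rw [h2] at h1
  have h3 := NormGen.map (Equiv.altCongrHom e) h1
  -- the image is a Sylow subgroup
  let S₁ : Sylow p ↥(alternatingGroup β) :=
    Sylow.mapSurjective (f := (Equiv.altCongrHom e).toMonoidHom) (Equiv.altCongrHom e).surjective P
  have h4 : (S₁ : Subgroup ↥(alternatingGroup β)) =
      (P : Subgroup ↥(alternatingGroup α)).map (Equiv.altCongrHom e).toMonoidHom := rfl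
  rw [← h4] at h3
  exact NormGen.sylow S₁ S h3

theorem sylow_ne_bot (n p : ℕ) [Fact p.Prime] (hnp : p ^ 2 ≤ n)
    (S : Sylow p (alternatingGroup (Fin n))) :
    (S : Subgroup (alternatingGroup (Fin n))) ≠ ⊥ := by
  have hp := (Fact.out : p.Prime)
  have h2 : 2 ≤ p := hp.two_le
  have hn2 : 2 ≤ n := by nlinarith
  have : Nontrivial (Fin n) := Fin.nontrivial_iff_two_le.mpr hn2
  have hcardA : 2 * Nat.card (alternatingGroup (Fin n)) = n.factorial := by
    rw [two_mul_nat_card_alternatingGroup, Nat.card_perm, Nat.card_fin]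
  -- `p ^ 2 ∣ n!`
  have h2p : 2 * p ≤ n := by nlinarith
  have hdvd1 : p ^ 2 ∣ (2 * p).factorial := by
    have h3 : 2 * p = (2 * p - 1) + 1 := by omega
    rw [h3, Nat.factorial_succ, ← h3, pow_two]
    have h4 : p ∣ (2 * p - 1).factorial := (hp.dvd_factorial).mpr (by omega)
    obtain ⟨k, hk⟩ := h4
    rw [hk]
    exact ⟨2 * k, by ring⟩
  have hdvd2 : p ^ 2 ∣ n.factorial := hdvd1.trans (Nat.factorial_dvd_factorial h2p)
  have hdvd3 : p ∣ Nat.card (alternatingGroup (Fin n)) := by
    rw [← hcardA] at hdvd2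
    by_contra hnd
    have hcop : Nat.Coprime (p ^ 2) (Nat.card (alternatingGroup (Fin n))) :=
      Nat.Coprime.pow_left 2 ((Nat.Prime.coprime_iff_not_dvd hp).mpr hnd)
    have h5 : p ^ 2 ∣ 2 := hcop.dvd_of_dvd_mul_right hdvd2
    have h6 := Nat.le_of_dvd (by norm_num) h5
    nlinarith
  intro hbot
  have hcard := S.card_eq_multiplicity
  rw [hbot] at hcard
  have h7 : Nat.card (⊥ : Subgroup (alternatingGroup (Fin n))) = 1 := Subgroup.card_bot
  rw [h7] at hcard
  have hfpos : 0 < (Nat.card (alternatingGroup (Fin n))).factorization p :=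
    hp.factorization_pos_of_dvd Nat.card_pos.ne' hdvd3
  have := Nat.one_lt_pow hfpos.ne' hp.one_lt
  omega

theorem main (n p : ℕ) (hn : 6 ≤ n) [Fact p.Prime] (hnp : p ^ 2 ≤ n) (hb : n % p ≤ 1)
    (S : Sylow p (alternatingGroup (Fin n))) :
    (Cfsg.groupFusionSystem (S : Subgroup (alternatingGroup (Fin n)))).IsSimple p := by
  classical
  have hp := (Fact.out : p.Prime)
  have hsc := noSC_alt n p hnp S
  have hne := sylow_ne_bot n p hnp S
  apply isSimple_of_normGen p S hne hsc
  -- the model
  let e : Pt p (Fin (n / p)) (n % p) ≃ Fin n := Fintype.equivFinOfCardEq (card_modelType p n)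
  by_cases hp2 : p = 2
  · subst hp2
    have h3 : 3 ≤ Fintype.card (Fin (n / 2)) := by
      rw [Fintype.card_fin]; omega
    obtain ⟨P, hP⟩ := model_two (ℬ := Fin (n / 2)) (r := n % 2) h3 hb
    exact normGen_transport e P hP S
  · have hpm : p ≤ n / p := by
      rw [Nat.le_div_iff_mul_le hp.pos, ← pow_two]
      exact hnp
    have hcard : Fintype.card (ZMod p) ≤ Fintype.card (Fin (n / p)) := by
      rw [ZMod.card, Fintype.card_fin]; exact hpm
    obtain ⟨ι⟩ := Function.Embedding.nonempty_of_card_le hcard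
    obtain ⟨P, hP⟩ := model_odd (ℬ := Fin (n / p)) (r := n % p) hp2 hb ι
    exact normGen_transport e P hP S

end Cfsg.Agent.Lib.Helper21_AltFusFinal
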