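import Cfsg.Agent.Lib.Helper21_BSW

/-!
Bender's proof of the Brauer-Suzuki-Wall theorem, step S1227: structure of `N_G(T)`.
-/

set_option autoImplicit false
open Cfsg

namespace Cfsg.Agent.Lib.Helper21_BSW


open Cfsg.Agent.Lib.Helper21_StronglyEmbedded

variable {G : Type*} [Group G]

section
variable [Finite G] (T : Sylow 2 G) (hnc : ¬ IsCyclic (T : Subgroup G))
  (hnn : ¬ (T : Subgroup G).Normal) (hC : CIT G) {u : G} (hu : orderOf u = 2)
  (huH : u ∉ Subgroup.normalizer ((T : Subgroup G) : Set G))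

/-- Notation: the two-point stabilizer `D = N ∩ N^u`. -/
abbrev twoPt (T : Sylow 2 G) (u : G) : Subgroup G :=
  Subgroup.normalizer ((T : Subgroup G) : Set G) ⊓
    (Subgroup.normalizer ((T : Subgroup G) : Set G)).map (MulAut.conj u).toMonoidHom

include hnc hnn hC in
theorem stronglyEmbedded_normalizer :
    IsStronglyEmbedded (Subgroup.normalizer ((T : Subgroup G) : Set G)) :=
  Cfsg.Agent.S1226.result T hnc hnn hC

include hnc hnn hC huH in
theorem odd_card_twoPt : Odd (Nat.card ↥(twoPt T u)) :=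
  (stronglyEmbedded_normalizer T hnc hnn hC).2.2 u huH

omit [Finite G] in
include hu in
theorem conj_mem_twoPt {d : G} (hd : d ∈ twoPt T u) : u * d * u⁻¹ ∈ twoPt T u := by
  have huinv : u⁻¹ = u := Helper21_StronglyEmbedded.inv_eq_self_of_orderOf_eq_two hu
  obtain ⟨h1, h2⟩ := Subgroup.mem_inf.mp hd
  rw [mem_map_conj_iff] at h2
  refine Subgroup.mem_inf.mpr ⟨?_, ?_⟩
  · have : u * d * u⁻¹ = u⁻¹ * d * u := by rw [huinv]
    rw [this]; exact h2
  · rw [mem_map_conj_iff]
    have : u⁻¹ * (u * d * u⁻¹) * u = d := by group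
    rw [this]; exact h1

include hnc hnn hC hu huH in
/-- S1227 (1): `u` inverts `D`. -/
theorem conj_eq_inv_of_mem_twoPt {d : G} (hd : d ∈ twoPt T u) : u * d * u⁻¹ = d⁻¹ := by
  have hodd := odd_card_twoPt T hnc hnn hC huH
  refine inverts_of_fixedPointFree (D := twoPt T u) (sq_eq_one_of_orderOf_eq_two hu)
    (fun d hd => conj_mem_twoPt T hu hd) ?_ d hd
  intro x hx hfix
  -- `x` centralizes `u`, so `x ^ 2 = 1`
  have hxc : x ∈ Subgroup.centralizer ({u} : Set G) := by
    rw [Subgroup.mem_centralizer_iff]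
    intro y hy
    rw [Set.mem_singleton_iff] at hy
    subst hy
    calc y * x = (y * x * y⁻¹) * y := by group
      _ = x * y := by rw [hfix]
  exact eq_one_of_sq_of_odd_card hodd hx ((hC u hu).2 x hxc)

include hnc hnn hC huH in
theorem eq_one_of_mem_twoPt_of_mem {x : G} (hx : x ∈ twoPt T u) (hxT : x ∈ T) : x = 1 :=
  eq_one_of_sq_of_odd_card (odd_card_twoPt T hnc hnn hC huH) hx (sq_eq_one_of_mem hC T hxT)

include hnc hC in
theorem exists_involution_mem_sylow : ∃ s : G, orderOf s = 2 ∧ s ∈ T := by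
  have hTnt : Nontrivial (T : Subgroup G) := by
    by_contra h
    rw [not_nontrivial_iff_subsingleton] at h
    exact hnc isCyclic_of_subsingleton
  obtain ⟨x, hx⟩ := exists_ne (1 : (T : Subgroup G))
  refine ⟨x.1, orderOf_eq_two_of_mem hC T x.2 ?_, x.2⟩
  intro h
  exact hx (Subtype.ext h)

include hnc hnn hC huH in
/-- `N = D T`. -/
theorem exists_mul_of_mem_normalizer {h : G}
    (hh : h ∈ Subgroup.normalizer ((T : Subgroup G) : Set G)) :
    ∃ d ∈ twoPt T u, ∃ t ∈ T, h = d * t := by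
  have hSE := stronglyEmbedded_normalizer T hnc hnn hC
  obtain ⟨s, hs, hsT⟩ := exists_involution_mem_sylow T hnc hC
  have hsN : s ∈ Subgroup.normalizer ((T : Subgroup G) : Set G) := Subgroup.le_normalizer hsT
  have hcT : h * s * h⁻¹ ∈ (T : Subgroup G) := (Subgroup.mem_normalizer_iff.mp hh s).mp hsT
  have hc2 : orderOf (h * s * h⁻¹) = 2 := orderOf_conj_eq_two hs h
  obtain ⟨d, hd, hds⟩ := exists_mem_inf_conj hSE huH hs hsN hc2 (Subgroup.le_normalizer hcT)
  refine ⟨d, hd, d⁻¹ * h, ?_, by group⟩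
  have hcent : d⁻¹ * h ∈ Subgroup.centralizer ({s} : Set G) := by
    rw [Subgroup.mem_centralizer_iff]
    intro y hy
    rw [Set.mem_singleton_iff] at hy
    subst hy
    have : y = d⁻¹ * (h * y * h⁻¹) * d := by rw [← hds]; group
    calc y * (d⁻¹ * h) = (d⁻¹ * (h * y * h⁻¹) * d) * (d⁻¹ * h) := by rw [← this]
      _ = d⁻¹ * h * y := by group
  rw [centralizer_eq hC T hs hsT] at hcent
  exact hcent

include hnc hnn hC huH in
/-- S1227 (3): `D` is a complement to `T` in `N`. -/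
theorem isComplement'_twoPt :
    Subgroup.IsComplement'
      ((twoPt T u).subgroupOf (Subgroup.normalizer ((T : Subgroup G) : Set G)))
      ((T : Subgroup G).subgroupOf (Subgroup.normalizer ((T : Subgroup G) : Set G))) := by
  apply Subgroup.isComplement'_of_disjoint_and_mul_eq_univ
  · rw [Subgroup.disjoint_def]
    intro x hx1 hx2
    rw [Subgroup.mem_subgroupOf] at hx1 hx2
    exact Subtype.ext (eq_one_of_mem_twoPt_of_mem T hnc hnn hC huH hx1 hx2)
  · rw [Set.eq_univ_iff_forall]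
    intro h
    obtain ⟨d, hd, t, ht, hdt⟩ := exists_mul_of_mem_normalizer T hnc hnn hC huH h.2
    refine Set.mem_mul.mpr ⟨⟨d, hd.1⟩, ?_, ⟨t, Subgroup.le_normalizer ht⟩, ?_, ?_⟩
    · exact Subgroup.mem_subgroupOf.mpr hd
    · exact Subgroup.mem_subgroupOf.mpr ht
    · exact Subtype.ext hdt.symm


include hnc hnn hC huH in
/-- `|D| = |T| - 1`: `D` acts regularly on the involutions of `T`. -/
theorem card_twoPt : Nat.card ↥(twoPt T u) = Nat.card ↥(T : Subgroup G) - 1 := by
  have hSE := stronglyEmbedded_normalizer T hnc hnn hC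
  obtain ⟨s, hs, hsT⟩ := exists_involution_mem_sylow T hnc hC
  have hsN : s ∈ Subgroup.normalizer ((T : Subgroup G) : Set G) := Subgroup.le_normalizer hsT
  have hs1 : s ≠ 1 := by
    intro h; rw [h, orderOf_one] at hs; norm_num at hs
  rw [← card_subtype_ne_one]
  have hmemT : ∀ d : ↥(twoPt T u), d.1 * s * d.1⁻¹ ∈ (T : Subgroup G) := fun d =>
    (Subgroup.mem_normalizer_iff.mp (Subgroup.mem_inf.mp d.2).1 s).mp hsT
  let f : ↥(twoPt T u) → {x : ↥(T : Subgroup G) // x ≠ 1} := fun d =>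
    ⟨⟨d.1 * s * d.1⁻¹, hmemT d⟩, by
      intro h
      have h' : d.1 * s * d.1⁻¹ = 1 := congrArg Subtype.val h
      apply hs1
      calc s = d.1⁻¹ * (d.1 * s * d.1⁻¹) * d.1 := by group
        _ = 1 := by rw [h']; group⟩
  apply Nat.card_eq_of_bijective f
  constructor
  · intro d e h
    have h' : d.1 * s * d.1⁻¹ = e.1 * s * e.1⁻¹ := congrArg (fun x => x.1.1) h
    have hcent : e.1⁻¹ * d.1 ∈ Subgroup.centralizer ({s} : Set G) := by
      rw [Subgroup.mem_centralizer_iff]
      intro y hy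
      rw [Set.mem_singleton_iff] at hy
      subst hy
      calc y * (e.1⁻¹ * d.1) = e.1⁻¹ * (e.1 * y * e.1⁻¹) * d.1 := by group
        _ = e.1⁻¹ * (d.1 * y * d.1⁻¹) * d.1 := by rw [h']
        _ = e.1⁻¹ * d.1 * y := by group
    rw [centralizer_eq hC T hs hsT] at hcent
    have hD : e.1⁻¹ * d.1 ∈ twoPt T u := (twoPt T u).mul_mem ((twoPt T u).inv_mem e.2) d.2
    have h1 := eq_one_of_mem_twoPt_of_mem T hnc hnn hC huH hD hcent
    apply Subtype.ext
    calc d.1 = e.1 * (e.1⁻¹ * d.1) := by group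
      _ = e.1 := by rw [h1, mul_one]
  · rintro ⟨⟨x, hxT⟩, hx1⟩
    have hx1' : x ≠ 1 := fun h => hx1 (Subtype.ext h)
    have hx2 : orderOf x = 2 := orderOf_eq_two_of_mem hC T hxT hx1'
    obtain ⟨d, hd, hds⟩ := exists_mem_inf_conj hSE huH hs hsN hx2 (Subgroup.le_normalizer hxT)
    exact ⟨⟨d, hd⟩, Subtype.ext (Subtype.ext hds)⟩

include hnc hnn hC huH in
/-- S1227 (2): `|N| = |T| (|T| - 1)`. -/
theorem card_normalizer :
    Nat.card ↥(Subgroup.normalizer ((T : Subgroup G) : Set G))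
      = Nat.card ↥(T : Subgroup G) * (Nat.card ↥(T : Subgroup G) - 1) := by
  have hcompl := isComplement'_twoPt T hnc hnn hC huH
  have h := hcompl.card_mul_card
  rw [Nat.card_congr (Subgroup.subgroupOfEquivOfLe (inf_le_left : twoPt T u ≤ _)).toEquiv,
    Nat.card_congr (Subgroup.subgroupOfEquivOfLe
      (Subgroup.le_normalizer : (T : Subgroup G) ≤ _)).toEquiv,
    card_twoPt T hnc hnn hC huH] at h
  rw [← h, mul_comm]


end

end Cfsg.Agent.Lib.Helper21_BSW
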