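import Cfsg.Agent.Lib.Helper21_BSW2

/-!
Bender's proof of the Brauer-Suzuki-Wall theorem, step S1228: the normalizer and the fixed points of the
two-point stabilizer `D = N(T) ∩ N(uT)`.
-/

set_option autoImplicit false
open Cfsg

namespace Cfsg.Agent.Lib.Helper21_BSW

open Cfsg.Agent.Lib.Helper21_StronglyEmbedded

variable {G : Type*} [Group G]

theorem coe_smul_sylow (g : G) (T : Sylow 2 G) :
    ((g • T : Sylow 2 G) : Subgroup G) = (T : Subgroup G).map (MulAut.conj g).toMonoidHom := rfl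

theorem normalizer_smul_sylow (g : G) (T : Sylow 2 G) :
    Subgroup.normalizer (((g • T : Sylow 2 G) : Subgroup G) : Set G)
      = (Subgroup.normalizer ((T : Subgroup G) : Set G)).map (MulAut.conj g).toMonoidHom := by
  rw [coe_smul_sylow, Subgroup.map_equiv_normalizer_eq]

/-- The conjugate Sylow subgroups are again noncyclic. -/
theorem not_isCyclic_smul (g : G) (T : Sylow 2 G) (hnc : ¬ IsCyclic (T : Subgroup G)) :
    ¬ IsCyclic ((g • T : Sylow 2 G) : Subgroup G) := by
  intro h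
  apply hnc
  have e : ↥(T : Subgroup G) ≃* ↥((g • T : Sylow 2 G) : Subgroup G) :=
    (T : Subgroup G).equivMapOfInjective (MulAut.conj g).toMonoidHom (MulAut.conj g).injective
  exact isCyclic_of_surjective e.symm e.symm.surjective

/-- The conjugate Sylow subgroups are again non-normal. -/
theorem not_normal_smul (g : G) (T : Sylow 2 G) (hnn : ¬ (T : Subgroup G).Normal) :
    ¬ ((g • T : Sylow 2 G) : Subgroup G).Normal := by
  intro h
  apply hnn
  have h1 : g⁻¹ • (g • T) = g • T := Sylow.smul_eq_of_normal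
  rw [inv_smul_smul] at h1
  rw [h1]; exact h

/-- The conjugate of a centralizer. -/
theorem map_conj_centralizer (w s : G) :
    (Subgroup.centralizer ({s} : Set G)).map (MulAut.conj w).toMonoidHom
      = Subgroup.centralizer ({w * s * w⁻¹} : Set G) := by
  ext x
  rw [mem_map_conj_iff, Subgroup.mem_centralizer_iff, Subgroup.mem_centralizer_iff]
  constructor
  · intro h y hy
    rw [Set.mem_singleton_iff] at hy
    subst hy
    have := h s rfl
    calc w * s * w⁻¹ * x = w * (s * (w⁻¹ * x * w)) * w⁻¹ := by group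
      _ = w * ((w⁻¹ * x * w) * s) * w⁻¹ := by rw [this]
      _ = x * (w * s * w⁻¹) := by group
  · intro h y hy
    rw [Set.mem_singleton_iff] at hy
    subst hy
    have := h (w * y * w⁻¹) rfl
    calc y * (w⁻¹ * x * w) = w⁻¹ * ((w * y * w⁻¹) * x) * w := by group
      _ = w⁻¹ * (x * (w * y * w⁻¹)) * w := by rw [this]
      _ = w⁻¹ * x * w * y := by group

section
variable [Finite G] (hC : CIT G)

include hC in
/-- Distinct noncyclic Sylow 2-subgroups are swapped by an involution. -/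
theorem exists_involution_smul_eq (T P : Sylow 2 G) (hT : ¬ IsCyclic (T : Subgroup G))
    (hP : ¬ IsCyclic (P : Subgroup G)) (hne : T ≠ P) :
    ∃ w : G, orderOf w = 2 ∧ w • T = P := by
  obtain ⟨s, hs, hsT⟩ := exists_involution_mem_sylow T hT hC
  obtain ⟨r, hr, hrP⟩ := exists_involution_mem_sylow P hP hC
  have hCs := centralizer_eq hC T hs hsT
  have hCr := centralizer_eq hC P hr hrP
  have hodd : Odd (orderOf (s * r)) := by
    by_contra hodd
    rw [Nat.not_odd_iff_even] at hodd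
    obtain ⟨z, hz, hzs, hzr⟩ := exists_central_involution_of_even hs hr hodd (orderOf_pos _)
    have hzT : z ∈ (T : Subgroup G) := by
      rw [← hCs, Subgroup.mem_centralizer_iff]
      intro y hy
      rw [Set.mem_singleton_iff] at hy
      subst hy
      exact hzs.eq.symm
    have hzP : z ∈ (P : Subgroup G) := by
      rw [← hCr, Subgroup.mem_centralizer_iff]
      intro y hy
      rw [Set.mem_singleton_iff] at hy
      subst hy
      exact hzr.eq.symm
    apply hne
    apply Sylow.ext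
    rw [← centralizer_eq hC T hz hzT, ← centralizer_eq hC P hz hzP]
  obtain ⟨w, hw, hconj⟩ := exists_involution_conj hs hr hodd
  refine ⟨w, hw, ?_⟩
  apply Sylow.ext
  rw [coe_smul_sylow, ← hCs, map_conj_centralizer, hconj, hCr]

end

/-- The normalizer of a Sylow subgroup `P`, as a shorthand. -/
abbrev nrm (P : Sylow 2 G) : Subgroup G := Subgroup.normalizer ((P : Subgroup G) : Set G)

theorem twoPt_eq_inf (T : Sylow 2 G) (w : G) : twoPt T w = nrm T ⊓ nrm (w • T) := by
  rw [twoPt, nrm, nrm, normalizer_smul_sylow]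

theorem not_mem_nrm_of_smul_ne {T : Sylow 2 G} {w : G} (h : w • T ≠ T) : w ∉ nrm T := by
  intro hw
  exact h (Sylow.smul_eq_iff_mem_normalizer.mpr hw)

theorem invol_smul_smul {w : G} (hw : orderOf w = 2) (T : Sylow 2 G) : w • (w • T) = T := by
  rw [← mul_smul, sq_eq_one_of_orderOf_eq_two hw, one_smul]

/-- Elements inverted by a common conjugation commute. -/
theorem commute_of_inverted {D : Subgroup G} {u : G} (hinv : ∀ d ∈ D, u * d * u⁻¹ = d⁻¹)
    {d e : G} (hd : d ∈ D) (he : e ∈ D) : d * e = e * d := by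
  have h1 := hinv (d * e) (D.mul_mem hd he)
  have h2 : u * (d * e) * u⁻¹ = (u * d * u⁻¹) * (u * e * u⁻¹) := by group
  rw [h2, hinv d hd, hinv e he, mul_inv_rev] at h1
  -- `d⁻¹ * e⁻¹ = e⁻¹ * d⁻¹`
  have h3 : (d⁻¹ * e⁻¹)⁻¹ = (e⁻¹ * d⁻¹)⁻¹ := congrArg _ h1
  simpa using h3.symm

section
variable [Finite G] (hC : CIT G)

include hC in
/-- Two distinct Sylow 2-subgroups have normalizers meeting in a group of order `|T| - 1`. -/
theorem card_inf_nrm (T P : Sylow 2 G) (hnc : ¬ IsCyclic (T : Subgroup G))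
    (hnn : ¬ (T : Subgroup G).Normal) (hP : ¬ IsCyclic (P : Subgroup G)) (hne : T ≠ P) :
    Nat.card ↥(nrm T ⊓ nrm P) = Nat.card ↥(T : Subgroup G) - 1 := by
  obtain ⟨w, hw, hwT⟩ := exists_involution_smul_eq hC T P hnc hP hne
  have hwN : w ∉ nrm T := not_mem_nrm_of_smul_ne (hwT ▸ hne.symm)
  rw [← hwT, ← twoPt_eq_inf]
  exact card_twoPt T hnc hnn hC hwN

include hC in
/-- S1228 (b), in terms of Sylow subgroups: the Sylow 2-subgroups normalized by `D = N(T) ∩ N(uT)`
are `T` and `uT` only. -/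
theorem eq_or_eq_of_twoPt_le (T : Sylow 2 G) (hnc : ¬ IsCyclic (T : Subgroup G))
    (hnn : ¬ (T : Subgroup G).Normal) {u : G} (hu : orderOf u = 2) (huH : u ∉ nrm T)
    (P : Sylow 2 G) (hDP : twoPt T u ≤ nrm P) : P = T ∨ P = u • T := by
  by_contra hcon
  push Not at hcon
  obtain ⟨hPT, hPT₂⟩ := hcon
  set T₂ : Sylow 2 G := u • T with hT₂
  have hTT₂ : T ≠ T₂ := fun h => huH (Sylow.smul_eq_iff_mem_normalizer.mp h.symm)
  -- hypotheses for the other Sylow subgroups
  obtain ⟨g, hg⟩ := MulAction.exists_smul_eq G T P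
  have hPnc : ¬ IsCyclic (P : Subgroup G) := hg ▸ not_isCyclic_smul g T hnc
  have hT₂nc : ¬ IsCyclic (T₂ : Subgroup G) := not_isCyclic_smul u T hnc
  have hT₂nn : ¬ (T₂ : Subgroup G).Normal := not_normal_smul u T hnn
  have hcardT₂ : Nat.card ↥(T₂ : Subgroup G) = Nat.card ↥(T : Subgroup G) := by
    have e : ↥(T : Subgroup G) ≃* ↥(T₂ : Subgroup G) :=
      (T : Subgroup G).equivMapOfInjective (MulAut.conj u).toMonoidHom (MulAut.conj u).injective
    exact (Nat.card_congr e.toEquiv).symm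
  set D := twoPt T u with hD
  have hDeq : D = nrm T ⊓ nrm T₂ := twoPt_eq_inf T u
  have hDT : D ≤ nrm T := hDeq ▸ inf_le_left
  have hDT₂ : D ≤ nrm T₂ := hDeq ▸ inf_le_right
  have hcardD : Nat.card ↥D = Nat.card ↥(T : Subgroup G) - 1 := card_twoPt T hnc hnn hC huH
  -- `D = N(T) ∩ N(P)` and `D = N(T₂) ∩ N(P)`
  have hD1 : D = nrm T ⊓ nrm P := by
    apply Subgroup.eq_of_le_of_card_ge (le_inf hDT hDP)
    rw [hcardD, card_inf_nrm hC T P hnc hnn hPnc (Ne.symm hPT)]
  have hD2 : D = nrm T₂ ⊓ nrm P := by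
    apply Subgroup.eq_of_le_of_card_ge (le_inf hDT₂ hDP)
    rw [hcardD, card_inf_nrm hC T₂ P hT₂nc hT₂nn hPnc (Ne.symm hPT₂), hcardT₂]
  -- three involutions inverting `D`
  obtain ⟨u₁, hu₁, hu₁T⟩ := exists_involution_smul_eq hC T P hnc hPnc (Ne.symm hPT)
  obtain ⟨u₂, hu₂, hu₂T⟩ := exists_involution_smul_eq hC T₂ P hT₂nc hPnc (Ne.symm hPT₂)
  have hu₁N : u₁ ∉ nrm T := not_mem_nrm_of_smul_ne (hu₁T ▸ hPT)
  have hu₂N : u₂ ∉ nrm T₂ := not_mem_nrm_of_smul_ne (hu₂T ▸ hPT₂)
  have huN₂ : u ∉ nrm T₂ := by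
    apply not_mem_nrm_of_smul_ne
    rw [hT₂, invol_smul_smul hu]
    exact hTT₂
  have hDu₁ : D = twoPt T u₁ := by rw [twoPt_eq_inf, hu₁T]; exact hD1
  have hDu₂ : D = twoPt T₂ u₂ := by rw [twoPt_eq_inf, hu₂T]; exact hD2
  have hDu' : D = twoPt T₂ u := by
    rw [twoPt_eq_inf, hT₂, invol_smul_smul hu, ← hT₂, inf_comm]; exact hDeq
  have hinv : ∀ d ∈ D, u * d * u⁻¹ = d⁻¹ := fun d hd =>
    conj_eq_inv_of_mem_twoPt T hnc hnn hC hu huH hd
  have hinv₁ : ∀ d ∈ D, u₁ * d * u₁⁻¹ = d⁻¹ := fun d hd =>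
    conj_eq_inv_of_mem_twoPt T hnc hnn hC hu₁ hu₁N (hDu₁ ▸ hd)
  have hinv₂ : ∀ d ∈ D, u₂ * d * u₂⁻¹ = d⁻¹ := fun d hd =>
    conj_eq_inv_of_mem_twoPt T₂ hT₂nc hT₂nn hC hu₂ hu₂N (hDu₂ ▸ hd)
  -- the product `n = u₂ u₁ u` normalizes `T₂` and inverts `D`
  set n := u₂ * u₁ * u with hn
  have hnN : n ∈ nrm T₂ := by
    apply Sylow.smul_eq_iff_mem_normalizer.mp
    rw [hn, mul_smul, mul_smul, hT₂, invol_smul_smul hu, hu₁T, ← hu₂T, invol_smul_smul hu₂]
  have hninv : ∀ e ∈ D, n * e * n⁻¹ = e⁻¹ := by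
    intro e he
    have h1 := hinv e he
    have h2 := hinv₁ e⁻¹ (D.inv_mem he)
    have h3 := hinv₂ e he
    rw [inv_inv] at h2
    calc n * e * n⁻¹ = u₂ * (u₁ * (u * e * u⁻¹) * u₁⁻¹) * u₂⁻¹ := by rw [hn]; group
      _ = e⁻¹ := by rw [h1, h2, h3]
  obtain ⟨d, hd, t, ht, hndt⟩ :=
    exists_mul_of_mem_normalizer T₂ hT₂nc hT₂nn hC huN₂ hnN
  rw [← hDu'] at hd
  have hDodd : Odd (Nat.card ↥D) := odd_card_twoPt T hnc hnn hC huH
  -- every element of `D` is trivial
  have htriv : ∀ e ∈ D, e = 1 := by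
    intro e he
    have h1 : t * e * t⁻¹ = e⁻¹ := by
      have := hninv e he
      rw [hndt] at this
      have h2 : t * e * t⁻¹ = d⁻¹ * (d * t * e * (d * t)⁻¹) * d := by group
      rw [h2, this]
      have := commute_of_inverted hinv (D.inv_mem hd) (D.inv_mem he)
      calc d⁻¹ * e⁻¹ * d = e⁻¹ * d⁻¹ * d := by rw [this]
        _ = e⁻¹ := by group
    have h2 : (e⁻¹) ^ 2 ∈ (T₂ : Subgroup G) := by
      have h3 : (e⁻¹) ^ 2 = t * (e * t⁻¹ * e⁻¹) := by
        rw [pow_two]
        calc e⁻¹ * e⁻¹ = (t * e * t⁻¹) * e⁻¹ := by rw [h1]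
          _ = t * (e * t⁻¹ * e⁻¹) := by group
      rw [h3]
      apply Subgroup.mul_mem _ ht
      exact (Subgroup.mem_normalizer_iff.mp (hDT₂ he) t⁻¹).mp (Subgroup.inv_mem _ ht)
    have h4 : (e⁻¹) ^ 2 ∈ twoPt T₂ u := hDu' ▸ D.pow_mem (D.inv_mem he) 2
    have h5 := eq_one_of_mem_twoPt_of_mem T₂ hT₂nc hT₂nn hC huN₂ h4 h2
    have h6 : e⁻¹ = 1 := eq_one_of_sq_of_odd_card hDodd (D.inv_mem he) h5
    exact inv_eq_one.mp h6
  -- hence `|T| = 2`, so `T` is cyclic
  have hDbot : D = ⊥ := (Subgroup.eq_bot_iff_forall D).mpr htriv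
  have hc1 : Nat.card ↥D = 1 := by rw [hDbot]; exact Subgroup.card_bot
  have hT2 : Nat.card ↥(T : Subgroup G) = 2 := by
    have hpos : 0 < Nat.card ↥(T : Subgroup G) := Nat.card_pos
    omega
  have : Fact (Nat.Prime 2) := ⟨Nat.prime_two⟩
  exact hnc (isCyclic_of_prime_card hT2)

end

section
variable [Finite G] (hC : CIT G) (T : Sylow 2 G) (hnc : ¬ IsCyclic (T : Subgroup G))
    (hnn : ¬ (T : Subgroup G).Normal) {u : G} (hu : orderOf u = 2) (huH : u ∉ nrm T)

include hC hnc hnn hu huH in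
/-- S1228 (b): the cosets fixed by `D`. -/
theorem fixed_iff (g : G) :
    (∀ d ∈ twoPt T u, d • (QuotientGroup.mk g : G ⧸ nrm T) = QuotientGroup.mk g) ↔
      (QuotientGroup.mk g : G ⧸ nrm T) = QuotientGroup.mk 1 ∨
        (QuotientGroup.mk g : G ⧸ nrm T) = QuotientGroup.mk u := by
  constructor
  · intro h
    have hle : twoPt T u ≤ nrm (g • T) := by
      intro d hd
      rw [nrm, normalizer_smul_sylow]
      exact smul_mk_eq_mk_iff'.mp (h d hd)
    rcases eq_or_eq_of_twoPt_le hC T hnc hnn hu huH (g • T) hle with h1 | h1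
    · left
      have : g ∈ nrm T := Sylow.smul_eq_iff_mem_normalizer.mp h1
      rw [eq_comm, QuotientGroup.eq]; simpa using this
    · right
      have h2 : (u⁻¹ * g) • T = T := by rw [mul_smul, h1, inv_smul_smul]
      have : u⁻¹ * g ∈ nrm T := Sylow.smul_eq_iff_mem_normalizer.mp h2
      rw [eq_comm, QuotientGroup.eq]; exact this
  · rintro (h | h) d hd
    · rw [h]; exact smul_mk_one_eq_iff.mpr (Subgroup.mem_inf.mp hd).1
    · rw [h]; exact smul_mk_eq_mk_iff'.mpr (Subgroup.mem_inf.mp hd).2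

include hC hnc hnn hu huH in
/-- S1228 (a): `N_G(D) = D ⟨u⟩`. -/
theorem normalizer_twoPt :
    Subgroup.normalizer ((twoPt T u : Subgroup G) : Set G) = twoPt T u ⊔ Subgroup.zpowers u := by
  have hTT₂ : u • T ≠ T := fun h => huH (Sylow.smul_eq_iff_mem_normalizer.mp h)
  apply le_antisymm
  · intro g hg
    have hginv : g⁻¹ ∈ Subgroup.normalizer ((twoPt T u : Subgroup G) : Set G) :=
      Subgroup.inv_mem _ hg
    -- `D` normalizes `g • P` whenever it normalizes `P`
    have hle : ∀ P : Sylow 2 G, twoPt T u ≤ nrm P → twoPt T u ≤ nrm (g • P) := by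
      intro P hP d hd
      rw [nrm, normalizer_smul_sylow, mem_map_conj_iff]
      have := (Subgroup.mem_normalizer_iff.mp hginv d).mp hd
      rw [inv_inv] at this
      exact hP this
    have hDT : twoPt T u ≤ nrm T := inf_le_left
    have hDT₂ : twoPt T u ≤ nrm (u • T) := by rw [twoPt_eq_inf]; exact inf_le_right
    have h1 := eq_or_eq_of_twoPt_le hC T hnc hnn hu huH (g • T) (hle T hDT)
    have h2 := eq_or_eq_of_twoPt_le hC T hnc hnn hu huH (g • (u • T)) (hle (u • T) hDT₂)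
    have hne : g • T ≠ g • (u • T) := fun h => hTT₂ ((smul_left_cancel g h).symm)
    rcases h1 with h1 | h1
    · -- `g` fixes both
      have h2' : g • (u • T) = u • T := by
        rcases h2 with h2 | h2
        · exact absurd (h1.trans h2.symm) hne
        · exact h2
      have hgD : g ∈ twoPt T u := by
        rw [twoPt_eq_inf]
        exact Subgroup.mem_inf.mpr ⟨Sylow.smul_eq_iff_mem_normalizer.mp h1,
          Sylow.smul_eq_iff_mem_normalizer.mp h2'⟩
      exact Subgroup.mem_sup_left hgD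
    · -- `g` swaps them
      have h2' : g • (u • T) = T := by
        rcases h2 with h2 | h2
        · exact h2
        · exact absurd (h1.trans h2.symm) hne
      have hugD : u * g ∈ twoPt T u := by
        rw [twoPt_eq_inf]
        refine Subgroup.mem_inf.mpr ⟨Sylow.smul_eq_iff_mem_normalizer.mp ?_,
          Sylow.smul_eq_iff_mem_normalizer.mp ?_⟩
        · rw [mul_smul, h1, invol_smul_smul hu]
        · rw [mul_smul, h2']
      have : g = u⁻¹ * (u * g) := by group
      rw [this]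
      exact Subgroup.mul_mem _
        (Subgroup.mem_sup_right (Subgroup.inv_mem _ (Subgroup.mem_zpowers u)))
        (Subgroup.mem_sup_left hugD)
  · apply sup_le Subgroup.le_normalizer
    rw [Subgroup.zpowers_le, Subgroup.mem_normalizer_iff]
    intro d
    constructor
    · intro hd; exact conj_mem_twoPt T hu hd
    · intro hd
      have := conj_mem_twoPt T hu hd
      have huinv : u⁻¹ = u := Helper21_StronglyEmbedded.inv_eq_self_of_orderOf_eq_two hu
      have h3 : u * (u * d * u⁻¹) * u⁻¹ = d := by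
        rw [huinv]
        have huu := sq_eq_one_of_orderOf_eq_two hu
        calc u * (u * d * u) * u = (u * u) * d * (u * u) := by group
          _ = d := by rw [huu, one_mul, mul_one]
      rwa [h3] at this

end

end Cfsg.Agent.Lib.Helper21_BSW
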