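import Mathlib
import Cfsg.Prelude.Def_Solvable
import Cfsg.Prelude.Def_Transfer
import Cfsg.Agent.Lib.Helper51_CMDefs

/-!
# S3905 package CM-F2 (helper71, for helper51): the no-between lemma.

`J := {g | ∃ t ∈ T, ∃ s ∈ St ρ x, ρ g = conj t * ρ s}` is a subgroup of `G` containing the maximal subgroup
`St ρ x`; `J = St ρ x` gives `T = Cn x` and `J = ⊤` gives `T = ⊤`.
-/

set_option autoImplicit false
open Cfsg Cfsg.Agent.Lib.Helper51_CMDefs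

namespace Cfsg.Agent.Lib.Helper71_CM_F2

variable {G Γ : Type*} [Group G] [Group Γ] {ρ : G →* MulAut Γ}

/-- an automorphism conjugates `conj t` to `conj (α t)` -/
theorem aut_mul_conj (α : MulAut Γ) (t : Γ) : α * MulAut.conj t = MulAut.conj (α t) * α := by
  ext y
  simp [MulAut.mul_apply, MulAut.conj_apply]

/-- the subgroup `J = I_T * St ρ x` -/
def Jsub (ρ : G →* MulAut Γ) (x : Γ) (T : Subgroup Γ) (hinv : Inv ρ x T) : Subgroup G where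
  carrier := {g | ∃ t ∈ T, ∃ s ∈ St ρ x, ρ g = MulAut.conj t * ρ s}
  mul_mem' := by
    rintro a b ⟨t₁, ht₁, s₁, hs₁, h₁⟩ ⟨t₂, ht₂, s₂, hs₂, h₂⟩
    refine ⟨t₁ * ρ s₁ t₂, T.mul_mem ht₁ (hinv s₁ hs₁ t₂ ht₂), s₁ * s₂,
      (St ρ x).mul_mem hs₁ hs₂, ?_⟩
    rw [map_mul, h₁, h₂, map_mul, map_mul, mul_assoc, ← mul_assoc (ρ s₁), aut_mul_conj]
    simp only [mul_assoc]
  one_mem' := ⟨1, T.one_mem, 1, (St ρ x).one_mem, by simp⟩
  inv_mem' := by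
    rintro a ⟨t, ht, s, hs, h₁⟩
    have hs' : s⁻¹ ∈ St ρ x := (St ρ x).inv_mem hs
    refine ⟨ρ s⁻¹ t⁻¹, hinv s⁻¹ hs' t⁻¹ (T.inv_mem ht), s⁻¹, hs', ?_⟩
    rw [map_inv, h₁, mul_inv_rev, ← map_inv, ← map_inv, aut_mul_conj]

theorem mem_Jsub {x : Γ} {T : Subgroup Γ} {hinv : Inv ρ x T} {g : G} :
    g ∈ Jsub ρ x T hinv ↔ ∃ t ∈ T, ∃ s ∈ St ρ x, ρ g = MulAut.conj t * ρ s := Iff.rfl

theorem St_le_Jsub {x : Γ} {T : Subgroup Γ} (hinv : Inv ρ x T) : St ρ x ≤ Jsub ρ x T hinv := by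
  intro s hs
  exact ⟨1, T.one_mem, s, hs, by simp⟩

/-- CM-F2 : the no-between lemma -/
theorem no_between (h : Hyp ρ) {x : Γ} (hx : x ≠ 1) {T : Subgroup Γ} (hT : Cn x ≤ T)
    (hinv : Inv ρ x T) : T = Cn x ∨ T = ⊤ := by
  have hco := h.max x hx
  rcases eq_or_lt_of_le (St_le_Jsub hinv) with hJ | hJ
  · -- `J = St ρ x`
    left
    apply le_antisymm _ hT
    intro t ht
    obtain ⟨g, hg⟩ := h.inn t
    have hgJ : g ∈ Jsub ρ x T hinv := ⟨t, ht, 1, (St ρ x).one_mem, by simp [hg]⟩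
    rw [← hJ] at hgJ
    exact (mem_St_iff_of_conj hg x).mp hgJ
  · -- `J = ⊤`
    right
    have hJtop : Jsub ρ x T hinv = ⊤ := hco.2 _ hJ
    rw [eq_top_iff]
    intro n _
    obtain ⟨g, hg⟩ := h.inn n
    have hgJ : g ∈ Jsub ρ x T hinv := by rw [hJtop]; trivial
    obtain ⟨t, ht, s, hs, hgs⟩ := hgJ
    have hsc : ρ s = MulAut.conj (t⁻¹ * n) := by
      rw [map_mul, map_inv, ← hg, hgs, inv_mul_cancel_left]
    have hmem : t⁻¹ * n ∈ Cn x := (mem_St_iff_of_conj hsc x).mp hs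
    have : n = t * (t⁻¹ * n) := by group
    rw [this]
    exact T.mul_mem ht (hT hmem)

end Cfsg.Agent.Lib.Helper71_CM_F2
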