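import Mathlib
import Cfsg.Prelude.Def_Solvable
import Cfsg.Prelude.Def_Transfer
import Cfsg.Agent.Lib.Helper51_CMDefs
import Cfsg.Agent.Lib.Helper71_CM_F2

/-!
# S3905 market (architect helper51), package CM-E2: a centralizer is normal or self-normalizing

`normal_or_selfNormalizing_aux`: the statement with the conclusion of the no-between lemma (CM-F2) for the
point `x` as a hypothesis.  `normal_or_selfNormalizing`: the verbatim statement, from the landed CM-F2.
-/

set_option autoImplicit false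
open Cfsg Cfsg.Agent.Lib.Helper51_CMDefs

namespace Cfsg.Agent.Lib.Helper82_CM_E2

variable {G Γ : Type*} [Group G] [Group Γ] {ρ : G →* MulAut Γ}

/-- an automorphism fixing `x` maps the centralizer of `x` onto itself -/
theorem map_Cn_iff_of_fix (α : MulAut Γ) {x : Γ} (hα : α x = x) (c : Γ) : α c ∈ Cn x ↔ c ∈ Cn x := by
  have h := map_mem_Cn_iff α (x := x) (c := c)
  rwa [hα] at h

/-- the normalizer of the centralizer of `x` is stable under the stabilizer of `x` -/
theorem inv_normalizer_Cn (ρ : G →* MulAut Γ) (x : Γ) :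
    Inv ρ x (Subgroup.normalizer ((Cn x : Subgroup Γ) : Set Γ)) := by
  intro g hg t ht
  have hfix : ρ g x = x := mem_St.mp hg
  rw [Subgroup.mem_normalizer_iff] at ht ⊢
  intro c
  -- `c = ρ g c'`
  obtain ⟨c', rfl⟩ : ∃ c', ρ g c' = c := ⟨(ρ g)⁻¹ c, MulAut.apply_inv_self _ _ _⟩
  have e : ρ g t * ρ g c' * (ρ g t)⁻¹ = ρ g (t * c' * t⁻¹) := by
    rw [map_mul, map_mul, map_inv]
  rw [e, map_Cn_iff_of_fix (ρ g) hfix, map_Cn_iff_of_fix (ρ g) hfix]
  exact ht c'

/-- CM-E2 with the conclusion of the no-between lemma (CM-F2) as a hypothesis. -/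
theorem normal_or_selfNormalizing_aux {x : Γ}
    (hnb : ∀ T : Subgroup Γ, Cn x ≤ T → Inv ρ x T → T = Cn x ∨ T = ⊤) :
    (Cn x).Normal ∨ Subgroup.normalizer ((Cn x : Subgroup Γ) : Set Γ) = Cn x := by
  rcases hnb _ Subgroup.le_normalizer (inv_normalizer_Cn ρ x) with h | h
  · exact Or.inr h
  · exact Or.inl (Subgroup.normalizer_eq_top_iff.mp h)

/- ===== CM-E2 (M) : normal or self-normalizing (no_between with `T := normalizer (Cn x)`; it is `Inv` because
`ρ g` maps `Cn x` onto `Cn (ρ g x) = Cn x`). -/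
theorem normal_or_selfNormalizing (h : Hyp ρ) {x : Γ} (hx : x ≠ 1) :
    (Cn x).Normal ∨ Subgroup.normalizer ((Cn x : Subgroup Γ) : Set Γ) = Cn x :=
  normal_or_selfNormalizing_aux
    (fun _ hT hinv => Cfsg.Agent.Lib.Helper71_CM_F2.no_between h hx hT hinv)

end Cfsg.Agent.Lib.Helper82_CM_E2
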