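import Mathlib
import Cfsg.Prelude.Def_Solvable
import Cfsg.Prelude.Def_Transfer
import Cfsg.Agent.Lib.Helper51_CMDefs

/-!
# S3905 market (architect helper51), package CM-E3: at most one normal centralizer; centralizers are proper
-/

set_option autoImplicit false
open Cfsg Cfsg.Agent.Lib.Helper51_CMDefs

namespace Cfsg.Agent.Lib.Helper82_CM_E3

variable {G Γ : Type*} [Group G] [Group Γ] {ρ : G →* MulAut Γ}

/-- in a CA-group, `y ∈ Cn x` gives `Cn y = Cn x` (local copy of CM-E1) -/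
theorem Cn_eq_of_mem' (hCA : CA Γ) {x y : Γ} (hx : x ≠ 1) (hy : y ≠ 1) (hyx : y ∈ Cn x) :
    Cn y = Cn x := by
  have hxy : x ∈ Cn y := by
    rw [mem_Cn] at hyx ⊢
    exact hyx.symm
  apply le_antisymm
  · intro c hc
    rw [mem_Cn]
    exact hCA y hy c hc x hxy
  · intro c hc
    rw [mem_Cn]
    exact hCA x hx c hc y hyx

/-- in a CA-group, two centralizers with a common non-trivial element are equal (local copy of CM-E1) -/
theorem Cn_eq_of_common' (hCA : CA Γ) {x y w : Γ} (hx : x ≠ 1) (hy : y ≠ 1) (hw : w ≠ 1)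
    (hwx : w ∈ Cn x) (hwy : w ∈ Cn y) : Cn x = Cn y := by
  rw [← Cn_eq_of_mem' hCA hx hw hwx, ← Cn_eq_of_mem' hCA hy hw hwy]

/- ===== CM-E3 (M) : at most one normal member; members are proper. -/
theorem normal_unique (hCA : CA Γ) {x y : Γ} (hx : x ≠ 1) (hy : y ≠ 1) (hnx : (Cn x).Normal)
    (hny : (Cn y).Normal) : Cn x = Cn y := by
  by_cases hw : x * y * x⁻¹ * y⁻¹ = 1
  · have hyx : y ∈ Cn x := by
      rw [mem_Cn]
      have e : y * x = (x * y * x⁻¹ * y⁻¹)⁻¹ * (x * y) := by group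
      rw [e, hw, inv_one, one_mul]
    exact (Cn_eq_of_mem' hCA hx hy hyx).symm
  · have h1 : x * y * x⁻¹ * y⁻¹ ∈ Cn x := by
      have h2 : y * x⁻¹ * y⁻¹ ∈ Cn x := hnx.conj_mem _ ((Cn x).inv_mem (self_mem_Cn x)) y
      have e : x * y * x⁻¹ * y⁻¹ = x * (y * x⁻¹ * y⁻¹) := by group
      rw [e]
      exact (Cn x).mul_mem (self_mem_Cn x) h2
    have h3 : x * y * x⁻¹ * y⁻¹ ∈ Cn y := by
      have h4 : x * y * x⁻¹ ∈ Cn y := hny.conj_mem _ (self_mem_Cn y) x
      exact (Cn y).mul_mem h4 ((Cn y).inv_mem (self_mem_Cn y))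
    exact Cn_eq_of_common' hCA hx hy hw h1 h3

theorem Cn_ne_top (h : Hyp ρ) {x : Γ} (hx : x ≠ 1) : Cn x ≠ ⊤ := by
  intro htop
  apply hx
  apply h.cz x
  intro m
  have hm : m ∈ Cn x := by
    rw [htop]
    exact Subgroup.mem_top m
  exact mem_Cn.mp hm

end Cfsg.Agent.Lib.Helper82_CM_E3
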