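import Mathlib
import Cfsg.Prelude.Def_Solvable
import Cfsg.Prelude.Def_Transfer
import Cfsg.Agent.Lib.Helper51_CMDefs
import Cfsg.Agent.Lib.Helper71_CM_F2
import Cfsg.Agent.Lib.Helper82_CM_E2
import Cfsg.Agent.Lib.Helper82_CM_E3

/-!
# S3905 package CM-E6A (helper21): not all centralizers are normal.

`exists_selfNormalizing` (statement verbatim from `pending/helper51/S3905_packages.lean.txt`).
Also `normal_or_selfNormalizing'` = CM-E2 assembled from `Helper82_CM_E2.normal_or_selfNormalizing_aux`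
and `Helper71_CM_F2.no_between`.
-/

set_option autoImplicit false
open Cfsg Cfsg.Agent.Lib.Helper51_CMDefs

namespace Cfsg.Agent.Lib.Helper21_CM_E6A

variable {G Γ : Type*} [Group G] [Group Γ] {ρ : G →* MulAut Γ}

/-- CM-E2, assembled from its landed aux form and the no-between lemma. -/
theorem normal_or_selfNormalizing' (h : Hyp ρ) {x : Γ} (hx : x ≠ 1) :
    (Cn x).Normal ∨ Subgroup.normalizer ((Cn x : Subgroup Γ) : Set Γ) = Cn x :=
  Cfsg.Agent.Lib.Helper82_CM_E2.normal_or_selfNormalizing_aux (ρ := ρ)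
    (fun _ hT hinv => Cfsg.Agent.Lib.Helper71_CM_F2.no_between h hx hT hinv)

/-- CM-E6A : not all members are normal. -/
theorem exists_selfNormalizing (h : Hyp ρ) [Nontrivial Γ] (hCA : CA Γ) :
    ∃ b : Γ, b ≠ 1 ∧ Subgroup.normalizer ((Cn b : Subgroup Γ) : Set Γ) = Cn b := by
  by_contra hno
  push Not at hno
  have hnorm : ∀ b : Γ, b ≠ 1 → (Cn b).Normal := fun b hb =>
    (normal_or_selfNormalizing' h hb).resolve_right (hno b hb)
  obtain ⟨x, hx⟩ := exists_ne (1 : Γ)
  apply Cfsg.Agent.Lib.Helper82_CM_E3.Cn_ne_top h hx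
  rw [eq_top_iff]
  intro y _
  by_cases hy : y = 1
  · rw [hy]; exact one_mem _
  · rw [Cfsg.Agent.Lib.Helper82_CM_E3.normal_unique hCA hx hy (hnorm x hx) (hnorm y hy)]
    exact self_mem_Cn y

end Cfsg.Agent.Lib.Helper21_CM_E6A
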