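import Mathlib
import Cfsg.Prelude.Def_Solvable
import Cfsg.Prelude.Def_Transfer
import Cfsg.Agent.Lib.Helper51_CMDefs
import Cfsg.Agent.Lib.Helper71_Frobenius

/-!
# CM-E6B core (S3905, architect helper51)

`normal_of_mem_kernel_of`: the statement of CM-E6B with the four earlier packages it uses
(CM-E1 `Cn_eq_of_common`, CM-E2 `normal_or_selfNormalizing`, CM-E4 `isFrobeniusComplement_Cn`,
CM-E5 `two_complements_false`) passed as hypotheses, so that it does not wait for them.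
-/

set_option autoImplicit false
open Cfsg Cfsg.Agent.Lib.Helper51_CMDefs

namespace Cfsg.Agent.Lib.Helper58_CM_E6Baux

open scoped Pointwise

variable {Γ : Type*} [Group Γ]

/-- `x ∉ ker B` unfolds to: `x ≠ 1` and `x` lies in a conjugate of `B`. -/
theorem h58_not_mem_kernel {B : Subgroup Γ} {x : Γ} (hx : x ∉ Cfsg.frobeniusKernel B) :
    x ≠ 1 ∧ ∃ g : Γ, g⁻¹ * x * g ∈ B := by
  simp only [Cfsg.frobeniusKernel, Set.mem_ofPred_eq, not_or, not_forall, not_not] at hx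
  obtain ⟨h1, g, hg⟩ := hx
  exact ⟨h1, g, (Cfsg.Agent.Lib.Helper71_Frobenius.mem_conj_smul B g x).mp hg⟩

/-- CM-E6B with its four inputs as hypotheses. -/
theorem normal_of_mem_kernel_of
    (hE1 : ∀ {x y w : Γ}, x ≠ 1 → y ≠ 1 → w ≠ 1 → w ∈ Cn x → w ∈ Cn y → Cn x = Cn y)
    (hE2 : ∀ {x : Γ}, x ≠ 1 →
      (Cn x).Normal ∨ Subgroup.normalizer ((Cn x : Subgroup Γ) : Set Γ) = Cn x)
    (hE4 : ∀ {x : Γ}, x ≠ 1 → Subgroup.normalizer ((Cn x : Subgroup Γ) : Set Γ) = Cn x →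
      Cfsg.IsFrobeniusComplement (Cn x))
    (hE5 : ∀ B₁ B₂ : Subgroup Γ, Cfsg.IsFrobeniusComplement B₁ → Cfsg.IsFrobeniusComplement B₂ →
      (∀ x : Γ, x ∉ Cfsg.frobeniusKernel B₂ → x ∈ Cfsg.frobeniusKernel B₁) → False)
    {b y : Γ} (hb : b ≠ 1)
    (hsn : Subgroup.normalizer ((Cn b : Subgroup Γ) : Set Γ) = Cn b) (hy : y ≠ 1)
    (hyk : y ∈ Cfsg.frobeniusKernel (Cn b)) : (Cn y).Normal := by
  rcases hE2 hy with hn | hsy
  · exact hn
  · exfalso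
    refine hE5 (Cn b) (Cn y) (hE4 hb hsn) (hE4 hy hsy) ?_
    intro x hx
    by_contra hxb
    obtain ⟨hx1, g, hg⟩ := h58_not_mem_kernel hx
    obtain ⟨-, g', hg'⟩ := h58_not_mem_kernel hxb
    -- `x` commutes with `g y g⁻¹` and with `g' b g'⁻¹`
    have hgy1 : g * y * g⁻¹ ≠ 1 := by
      intro h1
      apply hy
      have : y = g⁻¹ * (g * y * g⁻¹) * g := by group
      rw [this, h1]; group
    have hgb1 : g' * b * g'⁻¹ ≠ 1 := by
      intro h1
      apply hb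
      have : b = g'⁻¹ * (g' * b * g'⁻¹) * g' := by group
      rw [this, h1]; group
    have hxy : x ∈ Cn (g * y * g⁻¹) := by
      rw [mem_Cn] at hg ⊢
      -- hg : g⁻¹ x g y = y g⁻¹ x g
      calc x * (g * y * g⁻¹) = g * (g⁻¹ * x * g * y) * g⁻¹ := by group
        _ = g * (y * (g⁻¹ * x * g)) * g⁻¹ := by rw [hg]
        _ = g * y * g⁻¹ * x := by group
    have hxb' : x ∈ Cn (g' * b * g'⁻¹) := by
      rw [mem_Cn] at hg' ⊢
      calc x * (g' * b * g'⁻¹) = g' * (g'⁻¹ * x * g' * b) * g'⁻¹ := by group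
        _ = g' * (b * (g'⁻¹ * x * g')) * g'⁻¹ := by rw [hg']
        _ = g' * b * g'⁻¹ * x := by group
    have heq : Cn (g * y * g⁻¹) = Cn (g' * b * g'⁻¹) := hE1 hgy1 hgb1 hx1 hxy hxb'
    have hmem : g * y * g⁻¹ ∈ Cn (g' * b * g'⁻¹) := by
      rw [← heq]; exact self_mem_Cn _
    -- so `y` lies in the conjugate of `Cn b` by `g⁻¹ g'`
    rcases hyk with h1 | hall
    · exact hy h1
    · apply hall (g⁻¹ * g')
      rw [Cfsg.Agent.Lib.Helper71_Frobenius.mem_conj_smul]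
      rw [mem_Cn] at hmem ⊢
      -- hmem : g y g⁻¹ * (g' b g'⁻¹) = (g' b g'⁻¹) * g y g⁻¹
      calc (g⁻¹ * g')⁻¹ * y * (g⁻¹ * g') * b
          = g'⁻¹ * (g * y * g⁻¹ * (g' * b * g'⁻¹)) * g' := by group
        _ = g'⁻¹ * (g' * b * g'⁻¹ * (g * y * g⁻¹)) * g' := by rw [hmem]
        _ = b * ((g⁻¹ * g')⁻¹ * y * (g⁻¹ * g')) := by group

end Cfsg.Agent.Lib.Helper58_CM_E6Baux
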