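/-
S3905 market (architect helper51), package CM-E1: the centralizers of the non-identity elements partition a CA-group.
-/
import Mathlib
import Cfsg.Prelude.Def_Solvable
import Cfsg.Prelude.Def_Transfer
import Cfsg.Agent.Lib.Helper51_CMDefs

set_option autoImplicit false
open Cfsg Cfsg.Agent.Lib.Helper51_CMDefs

namespace Cfsg.Agent.Lib.Helper79_CM_E1

variable {G Γ : Type*} [Group G] [Group Γ] {ρ : G →* MulAut Γ}

theorem Cn_eq_of_mem (hCA : CA Γ) {x y : Γ} (hx : x ≠ 1) (hy : y ≠ 1) (hyx : y ∈ Cn x) :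
    Cn y = Cn x := by
  have hxy : x ∈ Cn y := by
    rw [mem_Cn] at hyx ⊢
    exact hyx.symm
  ext c
  constructor
  · intro hc
    rw [mem_Cn]
    exact hCA y hy c hc x hxy
  · intro hc
    rw [mem_Cn]
    exact hCA x hx c hc y hyx

theorem Cn_eq_of_common (hCA : CA Γ) {x y w : Γ} (hx : x ≠ 1) (hy : y ≠ 1) (hw : w ≠ 1)
    (hwx : w ∈ Cn x) (hwy : w ∈ Cn y) : Cn x = Cn y := by
  rw [← Cn_eq_of_mem hCA hx hw hwx, ← Cn_eq_of_mem hCA hy hw hwy]

end Cfsg.Agent.Lib.Helper79_CM_E1
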