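import Mathlib
import Cfsg.Prelude.Def_Solvable
import Cfsg.Prelude.Def_Transfer
import Cfsg.Agent.Lib.Helper51_CMDefs
import Cfsg.Agent.Lib.Helper71_Frobenius

/-!
# S3905 package CM-E4 (helper90): a self-normalizing centralizer in a CA-group is a Frobenius
complement.
-/

set_option autoImplicit false
open Cfsg Cfsg.Agent.Lib.Helper51_CMDefs
open scoped Pointwise

namespace Cfsg.Agent.Lib.Helper90_CM_E4

variable {G Γ : Type*} [Group G] [Group Γ] {ρ : G →* MulAut Γ}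

/-- In a CA-group, `y ∈ Cn x` with `x, y ≠ 1` gives `Cn x ≤ Cn y`. -/
theorem cn_le_of_mem_aux (hCA : CA Γ) {x y : Γ} (hx : x ≠ 1) (hyx : y ∈ Cn x) : Cn x ≤ Cn y := by
  intro c hc
  rw [mem_Cn]
  exact hCA x hx c hc y hyx

/-- In a CA-group, `y ∈ Cn x` with `x, y ≠ 1` gives `Cn y = Cn x`. -/
theorem cn_eq_of_mem_aux (hCA : CA Γ) {x y : Γ} (hx : x ≠ 1) (hy : y ≠ 1) (hyx : y ∈ Cn x) :
    Cn y = Cn x := by
  have hxy : x ∈ Cn y := by
    rw [mem_Cn] at hyx ⊢
    exact hyx.symm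
  exact le_antisymm (cn_le_of_mem_aux hCA hy hxy) (cn_le_of_mem_aux hCA hx hyx)

/-- In a CA-group two centralizers of non-identity elements with a common non-identity element
are equal. -/
theorem cn_eq_of_common_aux (hCA : CA Γ) {x y w : Γ} (hx : x ≠ 1) (hy : y ≠ 1) (hw : w ≠ 1)
    (hwx : w ∈ Cn x) (hwy : w ∈ Cn y) : Cn x = Cn y := by
  rw [← cn_eq_of_mem_aux hCA hx hw hwx, cn_eq_of_mem_aux hCA hy hw hwy]

theorem isFrobeniusComplement_Cn (h : Hyp ρ) (hCA : CA Γ) {x : Γ} (hx : x ≠ 1)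
    (hsn : Subgroup.normalizer ((Cn x : Subgroup Γ) : Set Γ) = Cn x) :
    Cfsg.IsFrobeniusComplement (Cn x) := by
  refine ⟨?_, ?_, ?_⟩
  · intro hbot
    have : x ∈ (⊥ : Subgroup Γ) := hbot ▸ self_mem_Cn x
    exact hx (Subgroup.mem_bot.mp this)
  · intro htop
    apply hx
    apply h.cz x
    intro m
    have : m ∈ Cn x := htop ▸ Subgroup.mem_top m
    exact mem_Cn.mp this
  · intro g hg
    rw [eq_bot_iff]
    intro w hw
    rw [Subgroup.mem_bot]
    by_contra hw1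
    obtain ⟨hwx, hwg⟩ := Subgroup.mem_inf.mp hw
    rw [Cfsg.Agent.Lib.Helper71_Frobenius.mem_conj_smul] at hwg
    -- `w` commutes with `g x g⁻¹`
    have hgx1 : g * x * g⁻¹ ≠ 1 := by
      intro h1
      apply hx
      have : x = g⁻¹ * (g * x * g⁻¹) * g := by group
      rw [this, h1]; group
    have hwy : w ∈ Cn (g * x * g⁻¹) := by
      rw [mem_Cn] at hwg ⊢
      have e1 : w * (g * x * g⁻¹) = g * ((g⁻¹ * w * g) * x) * g⁻¹ := by group
      have e2 : (g * x * g⁻¹) * w = g * (x * (g⁻¹ * w * g)) * g⁻¹ := by group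
      rw [e1, e2, hwg]
    have heq : Cn x = Cn (g * x * g⁻¹) := cn_eq_of_common_aux hCA hx hgx1 hw1 hwx hwy
    -- so `g` normalizes `Cn x`
    have hconj : ∀ c : Γ, c ∈ Cn x ↔ g * c * g⁻¹ ∈ Cn (g * x * g⁻¹) := by
      intro c
      rw [mem_Cn, mem_Cn]
      constructor
      · intro hc
        have e1 : g * c * g⁻¹ * (g * x * g⁻¹) = g * (c * x) * g⁻¹ := by group
        have e2 : g * x * g⁻¹ * (g * c * g⁻¹) = g * (x * c) * g⁻¹ := by group
        rw [e1, e2, hc]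
      · intro hc
        have e1 : c * x = g⁻¹ * (g * c * g⁻¹ * (g * x * g⁻¹)) * g := by group
        have e2 : x * c = g⁻¹ * (g * x * g⁻¹ * (g * c * g⁻¹)) * g := by group
        rw [e1, e2, hc]
    have hgn : g ∈ Subgroup.normalizer ((Cn x : Subgroup Γ) : Set Γ) := by
      rw [Subgroup.mem_normalizer_iff]
      intro c
      rw [hconj c, ← heq]
    rw [hsn] at hgn
    exact hg hgn

end Cfsg.Agent.Lib.Helper90_CM_E4
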