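import Mathlib
import Cfsg.Prelude.Def_Solvable
import Cfsg.Prelude.Def_Transfer
import Cfsg.Agent.Lib.Helper51_CMDefs
import Cfsg.Agent.Lib.Helper71_FrobCount

/-!
# S3905 package CM-E5 (helper90): pure counting with two Frobenius complements.
-/

set_option autoImplicit false
open Cfsg Cfsg.Agent.Lib.Helper51_CMDefs

namespace Cfsg.Agent.Lib.Helper90_CM_E5

variable {G Γ : Type*} [Group G] [Group Γ] {ρ : G →* MulAut Γ}

/-- twice the index of a non-trivial subgroup is at most the order of the group -/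
theorem two_mul_index_le [Finite Γ] (B : Subgroup Γ) (hB : B ≠ ⊥) :
    2 * B.index ≤ Nat.card Γ := by
  have h1 : 1 < Nat.card B := (Subgroup.one_lt_card_iff_ne_bot B).mpr hB
  have h2 : B.index * Nat.card B = Nat.card Γ := Subgroup.index_mul_card B
  rw [← h2]
  nlinarith [Nat.zero_le B.index]

theorem two_complements_false [Finite Γ] (B₁ B₂ : Subgroup Γ) (h1 : Cfsg.IsFrobeniusComplement B₁)
    (h2 : Cfsg.IsFrobeniusComplement B₂)
    (hdisj : ∀ x : Γ, x ∉ Cfsg.frobeniusKernel B₂ → x ∈ Cfsg.frobeniusKernel B₁) : False := by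
  have c1 : (Cfsg.frobeniusKernel B₁).ncard = B₁.index := by
    rw [← Nat.card_coe_set_eq]
    exact Cfsg.Agent.Lib.Helper71_FrobCount.card_frobeniusKernel B₁ h1
  have c2 : (Cfsg.frobeniusKernel B₂).ncard = B₂.index := by
    rw [← Nat.card_coe_set_eq]
    exact Cfsg.Agent.Lib.Helper71_FrobCount.card_frobeniusKernel B₂ h2
  have i1 := two_mul_index_le B₁ h1.1
  have i2 := two_mul_index_le B₂ h2.1
  have one1 : (1 : Γ) ∈ Cfsg.frobeniusKernel B₁ := Or.inl rfl
  have one2 : (1 : Γ) ∈ Cfsg.frobeniusKernel B₂ := Or.inl rfl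
  have hsub : (Cfsg.frobeniusKernel B₂)ᶜ ⊆ Cfsg.frobeniusKernel B₁ \ {1} := by
    intro x hx
    refine ⟨hdisj x hx, ?_⟩
    intro hx1
    rw [Set.mem_singleton_iff] at hx1
    exact hx (hx1 ▸ one2)
  have hle : (Cfsg.frobeniusKernel B₂)ᶜ.ncard ≤ (Cfsg.frobeniusKernel B₁ \ {1}).ncard :=
    Set.ncard_le_ncard hsub (Set.toFinite _)
  have hd : (Cfsg.frobeniusKernel B₁ \ {1}).ncard = (Cfsg.frobeniusKernel B₁).ncard - 1 :=
    Set.ncard_sdiff_singleton_of_mem one1
  have hc : (Cfsg.frobeniusKernel B₂).ncard + (Cfsg.frobeniusKernel B₂)ᶜ.ncard = Nat.card Γ :=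
    Set.ncard_add_ncard_compl _
  have hpos : 0 < B₁.index := Nat.pos_of_ne_zero (Subgroup.index_ne_zero_of_finite)
  omega

end Cfsg.Agent.Lib.Helper90_CM_E5
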