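import Mathlib
import Cfsg.Prelude.Def_Solvable
import Cfsg.Prelude.Def_Transfer
import Cfsg.Agent.Lib.Helper51_CMDefs
import Cfsg.Agent.Lib.Helper71_Frobenius
import Cfsg.Agent.Lib.Helper71_FrobCount
import Cfsg.Agent.Lib.Helper79_CM_E1
import Cfsg.Agent.Lib.Helper82_CM_E3
import Cfsg.Agent.Lib.Helper90_CM_E4
import Cfsg.Agent.Lib.Helper90_CM_E5
import Cfsg.Agent.Lib.Helper58_CM_E6Baux
import Cfsg.Agent.Lib.Helper21_CM_E6A

/-!
# S3905 package CM-E6C (helper21): assembly of Part 3 into `FrobData`.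

`exists_frobData` (statement verbatim from `pending/helper51/S3905_packages.lean.txt`).
`normal_of_mem_kernel'` = CM-E6B assembled from `Helper58_CM_E6Baux.normal_of_mem_kernel_of`.
-/

set_option autoImplicit false
open Cfsg Cfsg.Agent.Lib.Helper51_CMDefs
open scoped Pointwise

namespace Cfsg.Agent.Lib.Helper21_CM_E6C

open Cfsg.Agent.Lib.Helper79_CM_E1 Cfsg.Agent.Lib.Helper82_CM_E3 Cfsg.Agent.Lib.Helper90_CM_E4
  Cfsg.Agent.Lib.Helper21_CM_E6A

variable {G Γ : Type*} [Group G] [Group Γ] {ρ : G →* MulAut Γ}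

/-- CM-E6B, assembled from its landed aux form. -/
theorem normal_of_mem_kernel' (h : Hyp ρ) [Finite Γ] (hCA : CA Γ) {b y : Γ} (hb : b ≠ 1)
    (hsn : Subgroup.normalizer ((Cn b : Subgroup Γ) : Set Γ) = Cn b) (hy : y ≠ 1)
    (hyk : y ∈ Cfsg.frobeniusKernel (Cn b)) : (Cn y).Normal :=
  Cfsg.Agent.Lib.Helper58_CM_E6Baux.normal_of_mem_kernel_of
    (fun hx hy hw hwx hwy => Cn_eq_of_common hCA hx hy hw hwx hwy)
    (fun hx => normal_or_selfNormalizing' h hx)
    (fun hx hsx => isFrobeniusComplement_Cn h hCA hx hsx)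
    (fun B₁ B₂ h1 h2 hd => Cfsg.Agent.Lib.Helper90_CM_E5.two_complements_false B₁ B₂ h1 h2 hd)
    hb hsn hy hyk

/-- the image under an automorphism of a normal centralizer is a normal centralizer -/
theorem normal_Cn_map (α : MulAut Γ) {y : Γ} (hn : (Cn y).Normal) : (Cn (α y)).Normal := by
  constructor
  intro n hnm g
  have h1 : α⁻¹ n ∈ Cn y := by
    rw [← map_mem_Cn_iff α]
    simpa using hnm
  have h2 := hn.conj_mem _ h1 (α⁻¹ g)
  have h3 := map_mem_Cn α h2
  simpa using h3

/-- CM-E6C : assembly of Part 3. -/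
theorem exists_frobData (h : Hyp ρ) [Finite Γ] [Nontrivial Γ] (hCA : CA Γ) :
    ∃ A B : Subgroup Γ, FrobData ρ A B := by
  obtain ⟨b, hb, hsn⟩ := exists_selfNormalizing h hCA
  have hFB : Cfsg.IsFrobeniusComplement (Cn b) := isFrobeniusComplement_Cn h hCA hb hsn
  -- a non-identity element of the kernel
  have hcardK := Cfsg.Agent.Lib.Helper71_FrobCount.card_frobeniusKernel (Cn b) hFB
  have hidx : 1 < (Cn b).index := by
    have h0 : (Cn b).index ≠ 0 := Subgroup.index_ne_zero_of_finite
    have h1 : (Cn b).index ≠ 1 := fun h1 => hFB.2.1 (Subgroup.index_eq_one.mp h1)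
    omega
  have hfinK : Finite (Cfsg.frobeniusKernel (Cn b)) := Subtype.finite
  have hntK : Nontrivial (Cfsg.frobeniusKernel (Cn b)) := by
    rw [← Finite.one_lt_card_iff_nontrivial, hcardK]
    exact hidx
  obtain ⟨⟨y, hyk⟩, hy'⟩ := exists_ne
    (⟨1, Cfsg.Agent.Lib.Helper71_FrobCount.one_mem_frobeniusKernel (Cn b)⟩ :
      Cfsg.frobeniusKernel (Cn b))
  have hy : y ≠ 1 := fun hy1 => hy' (Subtype.ext hy1)
  have hAn : (Cn y).Normal := normal_of_mem_kernel' h hCA hb hsn hy hyk
  -- `A ≠ B`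
  have hAB : Cn y ≠ Cn b := by
    intro hEq
    rw [hEq] at hAn
    have : Subgroup.normalizer ((Cn b : Subgroup Γ) : Set Γ) = ⊤ :=
      Subgroup.normalizer_eq_top_iff.mpr hAn
    rw [hsn] at this
    exact hFB.2.1 this
  have hinf : Cn y ⊓ Cn b = ⊥ := by
    rw [eq_bot_iff]
    intro w hw
    rw [Subgroup.mem_bot]
    by_contra hw1
    exact hAB (Cn_eq_of_common hCA hy hb hw1 hw.1 hw.2)
  have hker : ((Cn y : Subgroup Γ) : Set Γ) = Cfsg.frobeniusKernel (Cn b) := by
    ext x
    constructor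
    · intro hx
      by_contra hxk
      have hx1 : x ≠ 1 := fun hx1 => hxk (Or.inl hx1)
      have hex : ∃ g : Γ, x ∈ MulAut.conj g • Cn b := by
        by_contra hne
        push Not at hne
        exact hxk (Or.inr hne)
      obtain ⟨g, hg⟩ := hex
      rw [Cfsg.Agent.Lib.Helper71_Frobenius.mem_conj_smul] at hg
      have hxA : g⁻¹ * x * g ∈ Cn y := by
        have := hAn.conj_mem x hx g⁻¹
        simpa using this
      have hmem : g⁻¹ * x * g ∈ Cn y ⊓ Cn b := ⟨hxA, hg⟩
      rw [hinf, Subgroup.mem_bot] at hmem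
      apply hx1
      have : x = g * (g⁻¹ * x * g) * g⁻¹ := by group
      rw [this, hmem]; group
    · intro hx
      by_cases hx1 : x = 1
      · rw [hx1]; exact one_mem _
      · have hnx : (Cn x).Normal := normal_of_mem_kernel' h hCA hb hsn hx1 hx
        have : Cn x = Cn y := normal_unique hCA hx1 hy hnx hAn
        change x ∈ Cn y
        rw [← this]
        exact self_mem_Cn x
  refine ⟨Cn y, Cn b, ?_⟩
  refine
    { normalA := hAn
      neA := ?_
      neB := ?_
      inf := hinf
      card := ?_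
      cnA := ?_
      cnB := ?_
      stabA := ?_
      cover := ?_
      frob := hFB
      ker := hker }
  · intro hbot
    have := self_mem_Cn y
    rw [hbot, Subgroup.mem_bot] at this
    exact hy this
  · intro hbot
    have := self_mem_Cn b
    rw [hbot, Subgroup.mem_bot] at this
    exact hb this
  · have hcA : Nat.card (Cn y) = (Cn b).index := by
      rw [← hcardK, ← hker]
      rfl
    rw [hcA]
    exact Subgroup.index_mul_card _
  · intro a ha ha1
    exact Cn_eq_of_mem hCA hy ha1 ha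
  · intro c hc hc1
    exact Cn_eq_of_mem hCA hb hc1 hc
  · intro g a ha
    have hgy : ρ g y ≠ 1 := by
      intro h1
      apply hy
      have : ρ g y = ρ g 1 := by rw [h1, map_one]
      exact (ρ g).injective this
    have hn' : (Cn (ρ g y)).Normal := normal_Cn_map (ρ g) hAn
    have hEq : Cn (ρ g y) = Cn y := normal_unique hCA hgy hy hn' hAn
    rw [← hEq]
    exact map_mem_Cn (ρ g) ha
  · intro x
    by_cases hxk : x ∈ Cfsg.frobeniusKernel (Cn b)
    · left
      have : x ∈ ((Cn y : Subgroup Γ) : Set Γ) := by rw [hker]; exact hxk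
      exact this
    · right
      have hex : ∃ g : Γ, x ∈ MulAut.conj g • Cn b := by
        by_contra hne
        push Not at hne
        exact hxk (Or.inr hne)
      obtain ⟨g, hg⟩ := hex
      rw [Cfsg.Agent.Lib.Helper71_Frobenius.mem_conj_smul] at hg
      exact ⟨g, hg⟩

end Cfsg.Agent.Lib.Helper21_CM_E6C
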