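/-
Helper library (helper21): abstract lemmas on a group `Γ` acting faithfully on a commutative group
`N` of exponent `p` (`p = 2, 3`), where an element `a` acts as a transvection with centre `w`
(`[N, a] ≤ ⟨w⟩`, `a` fixes `w`).  For a normal `p'`-subgroup `R` and `g ∈ R` not commuting with
`a`, the pair `a`, `g a g⁻¹` acts on the rank-two subgroup `⟨w, g w⟩`:
* `p = 2`: `g a g⁻¹ a⁻¹` is an element of order `3` inverted by `a`;
* `p = 3`: there is `z` commuting with `a` and inverting `w`.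
Used for the Hall–Higman type statement S3788.
-/
import Mathlib

set_option autoImplicit false

namespace Cfsg.Agent.Lib.Helper21_HHAbs

section basic

variable {Γ : Type*} [Group Γ] {N : Type*} [CommGroup N]

theorem act_inv_act (c : Γ →* MulAut N) (g : Γ) (n : N) : c g⁻¹ (c g n) = n := by
  rw [← MulAut.mul_apply, ← map_mul, inv_mul_cancel, map_one, MulAut.one_apply]

theorem act_act_inv (c : Γ →* MulAut N) (g : Γ) (n : N) : c g (c g⁻¹ n) = n := by
  rw [← MulAut.mul_apply, ← map_mul, mul_inv_cancel, map_one, MulAut.one_apply]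

theorem act_mul (c : Γ →* MulAut N) (g h : Γ) (n : N) : c (g * h) n = c g (c h n) := by
  rw [map_mul, MulAut.mul_apply]

/-- the elements of `Γ` acting trivially on `N / U` -/
def trivMod (c : Γ →* MulAut N) (U : Subgroup N) : Subgroup Γ where
  carrier := {g | ∀ n, c g n * n⁻¹ ∈ U}
  one_mem' := by
    intro n
    rw [map_one, MulAut.one_apply, mul_inv_cancel]
    exact U.one_mem
  mul_mem' := by
    intro g h hg hh n
    have e : c (g * h) n * n⁻¹ = (c g (c h n) * (c h n)⁻¹) * (c h n * n⁻¹) := by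
      rw [act_mul, mul_assoc, inv_mul_cancel_left]
    rw [e]
    exact U.mul_mem (hg _) (hh n)
  inv_mem' := by
    intro g hg n
    have h1 := hg (c g⁻¹ n)
    rw [act_act_inv] at h1
    have e : c g⁻¹ n * n⁻¹ = (n * (c g⁻¹ n)⁻¹)⁻¹ := by
      rw [mul_inv_rev, inv_inv]
    rw [e]
    exact U.inv_mem h1

theorem mem_trivMod {c : Γ →* MulAut N} {U : Subgroup N} {g : Γ} :
    g ∈ trivMod c U ↔ ∀ n, c g n * n⁻¹ ∈ U := Iff.rfl

theorem trivMod_act_mem {c : Γ →* MulAut N} {U : Subgroup N} {g : Γ} (hg : g ∈ trivMod c U)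
    {u : N} (hu : u ∈ U) : c g u ∈ U := by
  have h1 := U.mul_mem (hg u) hu
  rwa [inv_mul_cancel_right] at h1

/-- the fixed points of `g` -/
def fixSub (c : Γ →* MulAut N) (g : Γ) : Subgroup N where
  carrier := {n | c g n = n}
  one_mem' := map_one _
  mul_mem' := by
    intro x y hx hy
    show c g (x * y) = x * y
    rw [map_mul, hx, hy]
  inv_mem' := by
    intro x hx
    show c g x⁻¹ = x⁻¹
    rw [map_inv, hx]

theorem mem_fixSub {c : Γ →* MulAut N} {g : Γ} {n : N} : n ∈ fixSub c g ↔ c g n = n := Iff.rfl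

/-- the elements inverted by `g` -/
def invSub (c : Γ →* MulAut N) (g : Γ) : Subgroup N where
  carrier := {n | c g n = n⁻¹}
  one_mem' := by
    show c g 1 = 1⁻¹
    rw [map_one, inv_one]
  mul_mem' := by
    intro x y hx hy
    show c g (x * y) = (x * y)⁻¹
    rw [map_mul, hx, hy, mul_inv]
  inv_mem' := by
    intro x hx
    show c g x⁻¹ = x⁻¹⁻¹
    rw [map_inv, hx]

theorem mem_invSub {c : Γ →* MulAut N} {g : Γ} {n : N} : n ∈ invSub c g ↔ c g n = n⁻¹ := Iff.rfl

theorem closure_pair_le {u₁ u₂ : N} {K : Subgroup N} (h1 : u₁ ∈ K) (h2 : u₂ ∈ K) :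
    Subgroup.closure {u₁, u₂} ≤ K := by
  rw [Subgroup.closure_le]
  intro x hx
  rcases hx with hx | hx
  · rw [hx]; exact h1
  · rw [Set.mem_singleton_iff.1 hx]; exact h2

/-- powers of a quadratically acting element -/
theorem quad_pow_apply (c : Γ →* MulAut N) (g : Γ) (n : N)
    (h : c g (c g n * n⁻¹) = c g n * n⁻¹) (k : ℕ) :
    c (g ^ k) n = (c g n * n⁻¹) ^ k * n := by
  induction k with
  | zero => simp
  | succ k ih =>
    rw [pow_succ', act_mul, ih, map_mul, map_pow, h, pow_succ]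
    have e : c g n = (c g n * n⁻¹) * n := by rw [inv_mul_cancel_right]
    rw [mul_assoc, ← e]

/-- an element acting trivially on `U` and on `N / U` has order dividing the exponent -/
theorem pow_eq_one_of_fix {p : ℕ} (c : Γ →* MulAut N) (hN : ∀ n : N, n ^ p = 1)
    (hfaith : ∀ γ, (∀ n, c γ n = n) → γ = 1) (U : Subgroup N) (g : Γ) (hg : g ∈ trivMod c U)
    (hfix : U ≤ fixSub c g) : g ^ p = 1 := by
  apply hfaith
  intro n
  rw [quad_pow_apply c g n (hfix (hg n)), hN, one_mul]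

/-- `a` acts as a transvection with centre `w` -/
def IsTransv (c : Γ →* MulAut N) (a : Γ) (w : N) : Prop :=
  (∀ n, c a n * n⁻¹ ∈ Subgroup.zpowers w) ∧ c a w = w

theorem IsTransv.conj {c : Γ →* MulAut N} {a : Γ} {w : N} (h : IsTransv c a w) (g : Γ) :
    IsTransv c (g * a * g⁻¹) (c g w) := by
  constructor
  · intro n
    obtain ⟨m, hm⟩ : ∃ m, m = c g⁻¹ n := ⟨_, rfl⟩
    have hn : c g m = n := by rw [hm, act_act_inv]
    have e : c (g * a * g⁻¹) n * n⁻¹ = c g (c a m * m⁻¹) := by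
      rw [act_mul, act_mul, ← hm, map_mul (c g), map_inv (c g), hn]
    rw [e]
    obtain ⟨k, hk⟩ := Subgroup.mem_zpowers_iff.1 (h.1 m)
    rw [← hk, map_zpow]
    exact Subgroup.zpow_mem_zpowers _ k
  · rw [act_mul, act_mul, act_inv_act, h.2]

theorem IsTransv.fix_of_mem {c : Γ →* MulAut N} {a : Γ} {w : N} (h : IsTransv c a w) {u : N}
    (hu : u ∈ Subgroup.zpowers w) : c a u = u := by
  obtain ⟨k, rfl⟩ := Subgroup.mem_zpowers_iff.1 hu
  rw [map_zpow, h.2]

theorem IsTransv.quad {c : Γ →* MulAut N} {a : Γ} {w : N} (h : IsTransv c a w) (n : N) :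
    c a (c a n * n⁻¹) = c a n * n⁻¹ := h.fix_of_mem (h.1 n)

theorem IsTransv.pow_eq_one {p : ℕ} {c : Γ →* MulAut N} {a : Γ} {w : N} (h : IsTransv c a w)
    (hN : ∀ n : N, n ^ p = 1) (hfaith : ∀ γ, (∀ n, c γ n = n) → γ = 1) : a ^ p = 1 := by
  apply hfaith
  intro n
  rw [quad_pow_apply c a n (h.quad n), hN, one_mul]

theorem IsTransv.mem_trivMod {c : Γ →* MulAut N} {a : Γ} {w : N} (h : IsTransv c a w)
    {U : Subgroup N} (hw : w ∈ U) : a ∈ trivMod c U := by
  intro n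
  exact (Subgroup.zpowers_le.2 hw) (h.1 n)

theorem IsTransv.eq_one_of_centre {c : Γ →* MulAut N} {a : Γ} (h : IsTransv c a (1 : N))
    (hfaith : ∀ γ, (∀ n, c γ n = n) → γ = 1) : a = 1 := by
  apply hfaith
  intro n
  have h1 := h.1 n
  rw [Subgroup.zpowers_one_eq_bot, Subgroup.mem_bot, mul_inv_eq_one] at h1
  exact h1

/-- iterating an element which moves `u₂` by a fixed vector `d` -/
theorem pow_apply_of_fix (c : Γ →* MulAut N) (g : Γ) (u₂ d : N) (hd : c g d = d)
    (h2 : c g u₂ = u₂ * d) (k : ℕ) : c (g ^ k) u₂ = u₂ * d ^ k := by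
  induction k with
  | zero => simp
  | succ k ih =>
    rw [pow_succ', act_mul, ih, map_mul, map_pow, hd, h2, mul_assoc, ← pow_succ']

theorem pow_apply_fix (c : Γ →* MulAut N) (g : Γ) (u : N) (h : c g u = u) (k : ℕ) :
    c (g ^ k) u = u := by
  induction k with
  | zero => simp
  | succ k ih => rw [pow_succ', act_mul, ih, h]

/-- the degenerate case: `g` acts unipotently on `⟨u₁, u₂⟩` and trivially modulo it -/
theorem pow_pow_eq_one_of_unipotent {p : ℕ} (c : Γ →* MulAut N) (hN : ∀ n : N, n ^ p = 1)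
    (hfaith : ∀ γ, (∀ n, c γ n = n) → γ = 1) (U : Subgroup N) (g : Γ) (hg : g ∈ trivMod c U)
    (u₁ u₂ : N) (hU : U = Subgroup.closure {u₁, u₂}) (h1 : c g u₁ = u₁)
    (h2 : c g u₂ * u₂⁻¹ ∈ Subgroup.zpowers u₁) : (g ^ p) ^ p = 1 := by
  obtain ⟨d, hd⟩ : ∃ d, d = c g u₂ * u₂⁻¹ := ⟨_, rfl⟩
  have hdfix : c g d = d := by
    rw [← hd] at h2
    obtain ⟨k, rfl⟩ := Subgroup.mem_zpowers_iff.1 h2
    rw [map_zpow, h1]
  have h2' : c g u₂ = u₂ * d := by rw [hd, mul_comm, inv_mul_cancel_right]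
  apply pow_eq_one_of_fix c hN hfaith U (g ^ p) ((trivMod c U).pow_mem hg p)
  rw [hU]
  apply closure_pair_le
  · exact pow_apply_fix c g u₁ h1 p
  · show c (g ^ p) u₂ = u₂
    rw [pow_apply_of_fix c g u₂ d hdfix h2' p, hN, mul_one]

end basic

section main

variable {Γ : Type*} [Group Γ] {N : Type*} [CommGroup N]

theorem comm_mem (R : Subgroup Γ) [hRn : R.Normal] (a g : Γ) (hg : g ∈ R) :
    g * a * g⁻¹ * a⁻¹ ∈ R := by
  have h1 : a * g⁻¹ * a⁻¹ ∈ R := hRn.conj_mem _ (R.inv_mem hg) a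
  have e : g * a * g⁻¹ * a⁻¹ = g * (a * g⁻¹ * a⁻¹) := by group
  rw [e]
  exact R.mul_mem hg h1

theorem eq_one_of_coprime (R : Subgroup Γ) {y : Γ} (hy : y ∈ R) {m : ℕ}
    (hm : (Nat.card R).Coprime m) (h : y ^ m = 1) : y = 1 := by
  have h1 : orderOf y ∣ Nat.card R := Subgroup.orderOf_dvd_natCard R hy
  have h2 : orderOf y ∣ m := orderOf_dvd_of_pow_eq_one h
  have h3 : orderOf y = 1 := Nat.eq_one_of_dvd_coprimes hm h1 h2
  exact orderOf_eq_one_iff.1 h3

/-- the non-degeneracy of the pair `a`, `g a g⁻¹` on `⟨w, g w⟩` -/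
theorem nondeg {p : ℕ} (c : Γ →* MulAut N) (hN : ∀ n : N, n ^ p = 1)
    (hfaith : ∀ γ, (∀ n, c γ n = n) → γ = 1) (R : Subgroup Γ) [hRn : R.Normal]
    (hR : (Nat.card R).Coprime p) (a : Γ) (w : N) (ha : IsTransv c a w) (g : Γ) (hg : g ∈ R)
    (hne : g * a * g⁻¹ ≠ a) :
    c a (c g w) ≠ c g w ∧ c (g * a * g⁻¹) w ≠ w := by
  have he := ha.conj g
  obtain ⟨e, hedef⟩ : ∃ e, e = g * a * g⁻¹ := ⟨_, rfl⟩
  obtain ⟨w', hw'def⟩ : ∃ w', w' = c g w := ⟨_, rfl⟩
  rw [← hedef, ← hw'def] at he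
  rw [← hedef, ← hw'def]
  have hyR : e * a⁻¹ ∈ R := by rw [hedef]; exact comm_mem R a g hg
  have hRpp : (Nat.card R).Coprime (p * p) := Nat.Coprime.mul_right hR hR
  have hwU : w ∈ Subgroup.closure {w, w'} := Subgroup.subset_closure (by simp)
  have hw'U : w' ∈ Subgroup.closure {w, w'} := Subgroup.subset_closure (by simp)
  have haU : a ∈ trivMod c (Subgroup.closure {w, w'}) := ha.mem_trivMod hwU
  have heU : e ∈ trivMod c (Subgroup.closure {w, w'}) := he.mem_trivMod hw'U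
  have hyU : e * a⁻¹ ∈ trivMod c (Subgroup.closure {w, w'}) :=
    (trivMod c _).mul_mem heU ((trivMod c _).inv_mem haU)
  have hfin : (e * a⁻¹) ^ (p * p) = 1 → False := by
    intro h
    have h1 := eq_one_of_coprime R hyR hRpp h
    apply hne
    rw [← hedef]
    exact mul_inv_eq_one.1 h1
  constructor
  · intro h
    apply hfin
    have h' : c a⁻¹ w' = w' := by
      have := act_inv_act c a w'
      rwa [h] at this
    rw [pow_mul]
    refine pow_pow_eq_one_of_unipotent c hN hfaith _ (e * a⁻¹) hyU w' w (by rw [Set.pair_comm])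
      ?_ ?_
    · rw [act_mul, h', he.2]
    · rw [act_mul]
      have h'' : c a⁻¹ w = w := by
        have := act_inv_act c a w
        rwa [ha.2] at this
      rw [h'']
      exact he.1 w
  · intro h
    apply hfin
    rw [pow_mul]
    have h'' : c a⁻¹ w = w := by
      have := act_inv_act c a w
      rwa [ha.2] at this
    refine pow_pow_eq_one_of_unipotent c hN hfaith _ (e * a⁻¹) hyU w w' rfl ?_ ?_
    · rw [act_mul, h'', h]
    · rw [act_mul]
      have hainv : a⁻¹ ∈ trivMod c (Subgroup.zpowers w) := (trivMod c _).inv_mem ha.1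
      obtain ⟨d, hd⟩ : ∃ d, d = c a⁻¹ w' * w'⁻¹ := ⟨_, rfl⟩
      have hdz : d ∈ Subgroup.zpowers w := by rw [hd]; exact hainv w'
      have e1 : c a⁻¹ w' = d * w' := by rw [hd, inv_mul_cancel_right]
      have hed : c e d = d := by
        obtain ⟨k, rfl⟩ := Subgroup.mem_zpowers_iff.1 hdz
        rw [map_zpow, h]
      rw [e1, map_mul, hed, he.2, mul_inv_cancel_right]
      exact hdz

theorem zpowers_two_cases {v x : N} (hv : v ^ 2 = 1) (hx : x ∈ Subgroup.zpowers v) :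
    x = 1 ∨ x = v := by
  obtain ⟨k, rfl⟩ := Subgroup.mem_zpowers_iff.1 hx
  have h2 : v ^ (2 : ℤ) = 1 := by
    rw [show (2 : ℤ) = ((2 : ℕ) : ℤ) by norm_num, zpow_natCast, hv]
  have hk : k = 2 * (k / 2) + k % 2 := (Int.mul_ediv_add_emod k 2).symm
  rw [hk, zpow_add, zpow_mul, h2, one_zpow, one_mul]
  rcases Int.emod_two_eq_zero_or_one k with h | h
  · left; rw [h, zpow_zero]
  · right; rw [h, zpow_one]

theorem zpowers_three_cases {v x : N} (hv : v ^ 3 = 1) (hx : x ∈ Subgroup.zpowers v) :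
    x = 1 ∨ x = v ∨ x = v⁻¹ := by
  obtain ⟨k, rfl⟩ := Subgroup.mem_zpowers_iff.1 hx
  have h3 : v ^ (3 : ℤ) = 1 := by
    rw [show (3 : ℤ) = ((3 : ℕ) : ℤ) by norm_num, zpow_natCast, hv]
  have hk : k = 3 * (k / 3) + k % 3 := (Int.mul_ediv_add_emod k 3).symm
  rw [hk, zpow_add, zpow_mul, h3, one_zpow, one_mul]
  have h0 : 0 ≤ k % 3 := Int.emod_nonneg k (by norm_num)
  have h1 : k % 3 < 3 := Int.emod_lt_of_pos k (by norm_num)
  have hcases : k % 3 = 0 ∨ k % 3 = 1 ∨ k % 3 = 2 := by omega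
  rcases hcases with h | h | h
  · left; rw [h, zpow_zero]
  · right; left; rw [h, zpow_one]
  · right; right
    rw [h]
    have : v ^ (2 : ℤ) * v = 1 := by
      rw [← zpow_add_one]; exact h3
    exact eq_inv_of_mul_eq_one_left this

/-- **The case `p = 2`**: an element of order `3` inverted by `a`. -/
theorem two (c : Γ →* MulAut N) (hN : ∀ n : N, n ^ 2 = 1)
    (hfaith : ∀ γ, (∀ n, c γ n = n) → γ = 1) (R : Subgroup Γ) [hRn : R.Normal]
    (hR : (Nat.card R).Coprime 2) (a : Γ) (w : N) (ha : IsTransv c a w) (g : Γ) (hg : g ∈ R)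
    (hne : g * a * g⁻¹ ≠ a) :
    ∃ y : Γ, y ≠ 1 ∧ y ^ 3 = 1 ∧ a * y * a⁻¹ = y⁻¹ := by
  obtain ⟨h1, h2⟩ := nondeg c hN hfaith R hR a w ha g hg hne
  have he := ha.conj g
  obtain ⟨e, hedef⟩ : ∃ e, e = g * a * g⁻¹ := ⟨_, rfl⟩
  obtain ⟨w', hw'def⟩ : ∃ w', w' = c g w := ⟨_, rfl⟩
  rw [← hedef, ← hw'def] at he
  rw [← hedef] at h2 hne
  rw [← hw'def] at h1
  have ha2 : a ^ 2 = 1 := ha.pow_eq_one hN hfaith
  have he2 : e ^ 2 = 1 := he.pow_eq_one hN hfaith
  have hainv : a⁻¹ = a := inv_eq_of_mul_eq_one_left (by rw [← pow_two]; exact ha2)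
  have heinv : e⁻¹ = e := inv_eq_of_mul_eq_one_left (by rw [← pow_two]; exact he2)
  have hww : w * w = 1 := by rw [← pow_two]; exact hN w
  have hw'w' : w' * w' = 1 := by rw [← pow_two]; exact hN w'
  -- the action of `a` and `e`
  have haw' : c a w' = w * w' := by
    rcases zpowers_two_cases (hN w) (ha.1 w') with h | h
    · exact absurd (mul_inv_eq_one.1 h) h1
    · rw [← h, inv_mul_cancel_right]
  have hew : c e w = w * w' := by
    rcases zpowers_two_cases (hN w') (he.1 w) with h | h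
    · exact absurd (mul_inv_eq_one.1 h) h2
    · rw [mul_comm w w', ← h, inv_mul_cancel_right]
  -- the action of `y = e a`
  have hyw : c (e * a) w = w * w' := by rw [act_mul, ha.2, hew]
  have hyw' : c (e * a) w' = w := by
    rw [act_mul, haw', map_mul, hew, he.2, mul_assoc, hw'w', mul_one]
  have hyww' : c (e * a) (w * w') = w' := by
    rw [map_mul, hyw, hyw']
    calc w * w' * w = (w * w) * w' := by ac_rfl
      _ = w' := by rw [hww, one_mul]
  have hy3w : c ((e * a) ^ 3) w = w := by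
    rw [pow_succ, pow_two, act_mul, act_mul, hyw, hyww', hyw']
  have hy3w' : c ((e * a) ^ 3) w' = w' := by
    rw [pow_succ, pow_two, act_mul, act_mul, hyw', hyw, hyww']
  have hwU : w ∈ Subgroup.closure {w, w'} := Subgroup.subset_closure (by simp)
  have hw'U : w' ∈ Subgroup.closure {w, w'} := Subgroup.subset_closure (by simp)
  have haU : a ∈ trivMod c (Subgroup.closure {w, w'}) := ha.mem_trivMod hwU
  have heU : e ∈ trivMod c (Subgroup.closure {w, w'}) := he.mem_trivMod hw'U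
  have hyU : (e * a) ^ 3 ∈ trivMod c (Subgroup.closure {w, w'}) :=
    (trivMod c _).pow_mem ((trivMod c _).mul_mem heU haU) 3
  have h6 : ((e * a) ^ 3) ^ 2 = 1 :=
    pow_eq_one_of_fix c hN hfaith _ _ hyU (closure_pair_le hy3w hy3w')
  have hyR : e * a ∈ R := by
    have := comm_mem R a g hg
    rw [← hedef, hainv] at this
    exact this
  refine ⟨e * a, ?_, ?_, ?_⟩
  · intro h
    apply hne
    have h' : e = a⁻¹ := eq_inv_of_mul_eq_one_left h
    rw [h', hainv]
  · exact eq_one_of_coprime R (R.pow_mem hyR 3) hR h6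
  · rw [mul_inv_rev, hainv, heinv]
    have : a * (e * a) * a = a * e * (a * a) := by group
    rw [this, ← pow_two, ha2, mul_one]

theorem inv_eq_sq_of_cube {x : N} (h : x ^ 3 = 1) : x⁻¹ = x * x := by
  apply inv_eq_of_mul_eq_one_right
  rw [← mul_assoc, ← pow_two, ← pow_succ]
  exact h

/-- the square of the product of two opposite transvections in exponent `3` inverts -/
theorem sq_inverts (c : Γ →* MulAut N) (hN : ∀ n : N, n ^ 3 = 1) (g₁ g₂ : Γ) (u₁ u₂ : N)
    (h11 : c g₁ u₁ = u₁) (h12 : c g₁ u₂ = u₂ * u₁) (h22 : c g₂ u₂ = u₂)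
    (h21 : c g₂ u₁ = u₁ * u₂) :
    c ((g₁ * g₂) ^ 2) u₁ = u₁⁻¹ ∧ c ((g₁ * g₂) ^ 2) u₂ = u₂⁻¹ := by
  have e1 : u₁ * u₁ * u₁ = 1 := by rw [← pow_two, ← pow_succ]; exact hN u₁
  have e2 : u₂ * u₂ * u₂ = 1 := by rw [← pow_two, ← pow_succ]; exact hN u₂
  have ht1 : c (g₁ * g₂) u₁ = u₁ * u₁ * u₂ := by
    rw [act_mul, h21, map_mul, h11, h12]
    ac_rfl
  have ht2 : c (g₁ * g₂) u₂ = u₂ * u₁ := by
    rw [act_mul, h22, h12]
  constructor
  · rw [pow_two, act_mul, ht1, map_mul, map_mul, ht1, ht2, inv_eq_sq_of_cube (hN u₁)]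
    calc u₁ * u₁ * u₂ * (u₁ * u₁ * u₂) * (u₂ * u₁)
        = (u₁ * u₁ * u₁) * (u₂ * u₂ * u₂) * (u₁ * u₁) := by ac_rfl
      _ = u₁ * u₁ := by rw [e1, e2, one_mul, one_mul]
  · rw [pow_two, act_mul, ht2, map_mul, ht1, ht2, inv_eq_sq_of_cube (hN u₂)]
    calc u₂ * u₁ * (u₁ * u₁ * u₂) = (u₁ * u₁ * u₁) * (u₂ * u₂) := by ac_rfl
      _ = u₂ * u₂ := by rw [e1, one_mul]

/-- **The case `p = 3`**: if the centralizer of `a` fixes the centre `w` of `a`, then `a`
centralizes every normal `3'`-subgroup. -/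
theorem three (c : Γ →* MulAut N) (hN : ∀ n : N, n ^ 3 = 1)
    (hfaith : ∀ γ, (∀ n, c γ n = n) → γ = 1) (R : Subgroup Γ) [hRn : R.Normal]
    (hR : (Nat.card R).Coprime 3) (a : Γ) (w : N) (ha : IsTransv c a w)
    (H : ∀ z : Γ, z * a * z⁻¹ = a → c z w = w) (g : Γ) (hg : g ∈ R) :
    g * a * g⁻¹ = a := by
  by_contra hne
  obtain ⟨h1, h2⟩ := nondeg c hN hfaith R hR a w ha g hg hne
  have he := ha.conj g
  obtain ⟨e, hedef⟩ : ∃ e, e = g * a * g⁻¹ := ⟨_, rfl⟩
  obtain ⟨w', hw'def⟩ : ∃ w', w' = c g w := ⟨_, rfl⟩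
  rw [← hedef, ← hw'def] at he
  rw [← hedef] at h2 hne
  rw [← hw'def] at h1
  -- the vector `u₁`
  obtain ⟨u₁, hu₁⟩ : ∃ u₁, u₁ = c a w' * w'⁻¹ := ⟨_, rfl⟩
  have hu₁z : u₁ ∈ Subgroup.zpowers w := by rw [hu₁]; exact ha.1 w'
  have hu₁1 : u₁ ≠ 1 := by
    intro h
    rw [hu₁] at h
    exact h1 (mul_inv_eq_one.1 h)
  have haw' : c a w' = w' * u₁ := by rw [hu₁, mul_comm, inv_mul_cancel_right]
  have hau₁ : c a u₁ = u₁ := ha.fix_of_mem hu₁z
  have hwz : w ∈ Subgroup.zpowers u₁ := by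
    rcases zpowers_three_cases (hN w) hu₁z with h | h | h
    · exact absurd h hu₁1
    · rw [h]; exact Subgroup.mem_zpowers w
    · have : w = u₁⁻¹ := by rw [h, inv_inv]
      rw [this]
      exact Subgroup.inv_mem _ (Subgroup.mem_zpowers u₁)
  -- the vector `d`
  obtain ⟨d, hd⟩ : ∃ d, d = c e u₁ * u₁⁻¹ := ⟨_, rfl⟩
  have hdz : d ∈ Subgroup.zpowers w' := by rw [hd]; exact he.1 u₁
  have heu₁ : c e u₁ = u₁ * d := by rw [hd, mul_comm, inv_mul_cancel_right]
  have hd1 : d ≠ 1 := by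
    intro h
    rw [h, mul_one] at heu₁
    apply h2
    obtain ⟨k, hk⟩ := Subgroup.mem_zpowers_iff.1 hwz
    rw [← hk, map_zpow, heu₁]
  -- choose `g₂`
  have hg₂ : ∃ g₂ : Γ, (g₂ = e ∨ g₂ = e⁻¹) ∧ c g₂ u₁ = u₁ * w' ∧ c g₂ w' = w' := by
    rcases zpowers_three_cases (hN w') hdz with h | h | h
    · exact absurd h hd1
    · exact ⟨e, Or.inl rfl, by rw [heu₁, h], he.2⟩
    · refine ⟨e⁻¹, Or.inr rfl, ?_, ?_⟩
      · have h3 : c e (u₁ * w') = u₁ := by
          rw [map_mul, heu₁, he.2, h, inv_mul_cancel_right]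
        have h4 := act_inv_act c e (u₁ * w')
        rw [h3] at h4
        exact h4
      · have h4 := act_inv_act c e w'
        rw [he.2] at h4
        exact h4
  obtain ⟨g₂, hg₂e, hg₂1, hg₂2⟩ := hg₂
  obtain ⟨hz1, hz2⟩ := sq_inverts c hN a g₂ u₁ w' hau₁ haw' hg₂2 hg₂1
  obtain ⟨z, hzdef⟩ : ∃ z, z = (a * g₂) ^ 2 := ⟨_, rfl⟩
  rw [← hzdef] at hz1 hz2
  -- the subgroup `U`
  obtain ⟨U, hUdef⟩ : ∃ U : Subgroup N, U = Subgroup.closure {u₁, w'} := ⟨_, rfl⟩
  have hu₁U : u₁ ∈ U := by rw [hUdef]; exact Subgroup.subset_closure (by simp)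
  have hw'U : w' ∈ U := by rw [hUdef]; exact Subgroup.subset_closure (by simp)
  have hwU : w ∈ U := (Subgroup.zpowers_le.2 hu₁U) hwz
  have haU : a ∈ trivMod c U := ha.mem_trivMod hwU
  have heU : e ∈ trivMod c U := he.mem_trivMod hw'U
  have hg₂U : g₂ ∈ trivMod c U := by
    rcases hg₂e with h | h
    · rw [h]; exact heU
    · rw [h]; exact (trivMod c U).inv_mem heU
  have hzU : z ∈ trivMod c U := by
    rw [hzdef]
    exact (trivMod c U).pow_mem ((trivMod c U).mul_mem haU hg₂U) 2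
  have hUinv : U ≤ invSub c z := by
    rw [hUdef]
    exact closure_pair_le hz1 hz2
  -- the commutator `k`
  obtain ⟨k, hkdef⟩ : ∃ k, k = z * a * z⁻¹ * a⁻¹ := ⟨_, rfl⟩
  have hkU : k ∈ trivMod c U := by
    rw [hkdef]
    exact (trivMod c U).mul_mem ((trivMod c U).mul_mem ((trivMod c U).mul_mem hzU haU)
      ((trivMod c U).inv_mem hzU)) ((trivMod c U).inv_mem haU)
  have hkfix : U ≤ fixSub c k := by
    intro u hu
    show c k u = u
    obtain ⟨u', hu'⟩ : ∃ u', u' = c a⁻¹ u := ⟨_, rfl⟩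
    have hu'U : u' ∈ U := by
      rw [hu']
      exact trivMod_act_mem ((trivMod c U).inv_mem haU) hu
    have h3 : c z⁻¹ u' = u'⁻¹ := by
      have h4 : c z u'⁻¹ = u' := by
        have := hUinv (U.inv_mem hu'U)
        rw [mem_invSub, inv_inv] at this
        exact this
      have h5 := act_inv_act c z u'⁻¹
      rw [h4] at h5
      exact h5
    have h6 : c a u' = u := by rw [hu', act_act_inv]
    have h7 : c z u⁻¹ = u := by
      have := hUinv (U.inv_mem hu)
      rw [mem_invSub, inv_inv] at this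
      exact this
    rw [hkdef, act_mul, act_mul, act_mul, ← hu', h3, map_inv, h6, h7]
  have hk3 : k ^ 3 = 1 := pow_eq_one_of_fix c hN hfaith U k hkU hkfix
  -- `k ∈ R`
  have hkR : k ∈ R := by
    have hq1 : (QuotientGroup.mk' R) g = 1 := by
      rw [QuotientGroup.mk'_apply, QuotientGroup.eq_one_iff]; exact hg
    have hqe : (QuotientGroup.mk' R) e = (QuotientGroup.mk' R) a := by
      rw [hedef, map_mul, map_mul, map_inv, hq1, one_mul, inv_one, mul_one]
    have hcomm2 : Commute ((QuotientGroup.mk' R) g₂) ((QuotientGroup.mk' R) a) := by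
      rcases hg₂e with h | h
      · rw [h, hqe]
      · rw [h, map_inv, hqe]
        exact (Commute.refl _).inv_left
    have hcommz : Commute ((QuotientGroup.mk' R) z) ((QuotientGroup.mk' R) a) := by
      rw [hzdef, map_pow, map_mul]
      exact ((Commute.refl _).mul_left hcomm2).pow_left 2
    rw [← QuotientGroup.eq_one_iff, ← QuotientGroup.mk'_apply, hkdef, map_mul, map_mul, map_mul,
      map_inv, map_inv, hcommz.eq, mul_inv_cancel_right, mul_inv_cancel]
  have hk1 : k = 1 := eq_one_of_coprime R hkR hR hk3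
  have hza : z * a * z⁻¹ = a := by
    rw [hkdef] at hk1
    exact mul_inv_eq_one.1 hk1
  have hzw : c z w = w := H z hza
  have hzw' : c z w = w⁻¹ := hUinv hwU
  have hw1 : w = 1 := by
    have h3 : w * w = 1 := by
      have : w = w⁻¹ := hzw.symm.trans hzw'
      calc w * w = w * w⁻¹ := by rw [← this]
        _ = 1 := mul_inv_cancel w
    have h4 : w * w * w = 1 := by rw [← pow_two, ← pow_succ]; exact hN w
    rw [h3, one_mul] at h4
    exact h4
  rw [hw1] at ha
  have ha1 : a = 1 := ha.eq_one_of_centre hfaith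
  apply hne
  rw [hedef, ha1, mul_one, mul_inv_cancel]

theorem IsTransv.inv {c : Γ →* MulAut N} {a : Γ} {w : N} (h : IsTransv c a w) :
    IsTransv c a⁻¹ w := by
  refine ⟨(trivMod c (Subgroup.zpowers w)).inv_mem h.1, ?_⟩
  have := act_inv_act c a w
  rwa [h.2] at this

/-- the "norm" of a quadratic element of order `3` vanishes in exponent `3` -/
theorem cube_norm (c : Γ →* MulAut N) (hN : ∀ n : N, n ^ 3 = 1) {g : Γ} {w : N}
    (h : IsTransv c g w) (n : N) : c (g ^ 2) n * c g n * n = 1 := by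
  obtain ⟨d, hd⟩ : ∃ d, d = c g n * n⁻¹ := ⟨_, rfl⟩
  have h1 : c g n = d * n := by rw [hd, inv_mul_cancel_right]
  have h2 : c (g ^ 2) n = d ^ 2 * n := by
    rw [quad_pow_apply c g n (h.quad n) 2, ← hd]
  have e1 : d * d * d = 1 := by rw [← pow_two, ← pow_succ]; exact hN d
  have e2 : n * n * n = 1 := by rw [← pow_two, ← pow_succ]; exact hN n
  rw [h2, h1, pow_two]
  calc d * d * n * (d * n) * n = (d * d * d) * (n * n * n) := by ac_rfl
    _ = 1 := by rw [e1, e2, one_mul]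

end main

end Cfsg.Agent.Lib.Helper21_HHAbs
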