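/-
Helper library (helper21): transvections over the field with two elements in a group with a
normal subgroup `R` of odd order (continuation of `Helper21_HHAbs`): the `R`-conjugates of a
transvection `t` not centralizing `R` have exactly three centres, and `t` is not a square.
-/
import Mathlib
import Cfsg.Agent.Lib.Helper21_HHAbs

set_option autoImplicit false

namespace Cfsg.Agent.Lib.Helper21_HHAbs2

open Cfsg.Agent.Lib.Helper21_HHAbs

variable {Γ : Type*} [Group Γ] {N : Type*} [CommGroup N]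

/-- two distinct `R`-conjugate transvections: `a` moves the centre of the other one by `w` -/
theorem pair_two (c : Γ →* MulAut N) (hN : ∀ n : N, n ^ 2 = 1)
    (hfaith : ∀ γ, (∀ n, c γ n = n) → γ = 1) (R : Subgroup Γ) [hRn : R.Normal]
    (hR : (Nat.card R).Coprime 2) (a : Γ) (w : N) (ha : IsTransv c a w) (g : Γ) (hg : g ∈ R)
    (hne : g * a * g⁻¹ ≠ a) : c a (c g w) = w * c g w := by
  obtain ⟨h1, -⟩ := nondeg c hN hfaith R hR a w ha g hg hne
  rcases zpowers_two_cases (hN w) (ha.1 (c g w)) with h | h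
  · exact absurd (mul_inv_eq_one.1 h) h1
  · exact mul_inv_eq_iff_eq_mul.1 h

/-- the centre of a nontrivial transvection is fixed by its centralizer -/
theorem centre_fixed (c : Γ →* MulAut N) (hN : ∀ n : N, n ^ 2 = 1)
    (hfaith : ∀ γ, (∀ n, c γ n = n) → γ = 1) (a : Γ) (w : N) (ha : IsTransv c a w)
    (ha1 : a ≠ 1) (z : Γ) (hz : z * a * z⁻¹ = a) : c z w = w := by
  have hex : ∃ v, c a v * v⁻¹ = w := by
    by_contra hcon
    simp only [not_exists] at hcon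
    apply ha1
    apply hfaith
    intro n
    rcases zpowers_two_cases (hN w) (ha.1 n) with h | h
    · exact mul_inv_eq_one.1 h
    · exact absurd h (hcon n)
  obtain ⟨v, hv⟩ := hex
  have hw1 : w ≠ 1 := by
    intro h
    apply ha1
    rw [h] at ha
    exact ha.eq_one_of_centre hfaith
  have hza : z * a = a * z := by
    calc z * a = (z * a * z⁻¹) * z := by group
      _ = a * z := by rw [hz]
  have h1 : c z w = c a (c z v) * (c z v)⁻¹ := by
    rw [← hv, map_mul, map_inv, ← act_mul, ← act_mul, hza]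
  rcases zpowers_two_cases (hN w) (ha.1 (c z v)) with h | h
  · exfalso
    apply hw1
    rw [h] at h1
    exact (c z).injective (h1.trans (map_one (c z)).symm)
  · rw [h1, h]

theorem ne_one_of_conj_ne {a g : Γ} (hne : g * a * g⁻¹ ≠ a) : a ≠ 1 := by
  intro h
  apply hne
  rw [h, mul_one, mul_inv_cancel]

theorem centre_ne_one {c : Γ →* MulAut N} (hfaith : ∀ γ, (∀ n, c γ n = n) → γ = 1) {a : Γ}
    {w : N} (ha : IsTransv c a w) (ha1 : a ≠ 1) : w ≠ 1 := by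
  intro h
  apply ha1
  rw [h] at ha
  exact ha.eq_one_of_centre hfaith

/-- three pairwise distinct `R`-conjugates of a transvection: the centres add up to zero -/
theorem triple_two (c : Γ →* MulAut N) (hN : ∀ n : N, n ^ 2 = 1)
    (hfaith : ∀ γ, (∀ n, c γ n = n) → γ = 1) (R : Subgroup Γ) [hRn : R.Normal]
    (hR : (Nat.card R).Coprime 2) (a : Γ) (w : N) (ha : IsTransv c a w) (g₂ g₃ : Γ)
    (hg₂ : g₂ ∈ R) (hg₃ : g₃ ∈ R) (h12 : g₂ * a * g₂⁻¹ ≠ a) (h13 : g₃ * a * g₃⁻¹ ≠ a)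
    (h23 : g₃ * a * g₃⁻¹ ≠ g₂ * a * g₂⁻¹) : c g₃ w = w * c g₂ w := by
  have ha1 : a ≠ 1 := ne_one_of_conj_ne h12
  have hw1 : w ≠ 1 := centre_ne_one hfaith ha ha1
  have p2 := pair_two c hN hfaith R hR a w ha g₂ hg₂ h12
  have p3 := pair_two c hN hfaith R hR a w ha g₃ hg₃ h13
  have hs₂ := ha.conj g₂
  obtain ⟨s₂, hs₂def⟩ : ∃ s₂, s₂ = g₂ * a * g₂⁻¹ := ⟨_, rfl⟩
  obtain ⟨w₂, hw₂def⟩ : ∃ w₂, w₂ = c g₂ w := ⟨_, rfl⟩
  obtain ⟨w₃, hw₃def⟩ : ∃ w₃, w₃ = c g₃ w := ⟨_, rfl⟩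
  rw [← hs₂def, ← hw₂def] at hs₂
  rw [← hw₂def] at p2
  rw [← hw₃def] at p3
  rw [← hs₂def] at h23
  rw [← hw₂def, ← hw₃def]
  have hww : w * w = 1 := by rw [← pow_two]; exact hN w
  have hw₂w₂ : w₂ * w₂ = 1 := by rw [← pow_two]; exact hN w₂
  -- the pair `s₂`, `s₃`
  have hhR : g₃ * g₂⁻¹ ∈ R := R.mul_mem hg₃ (R.inv_mem hg₂)
  have hhw : c (g₃ * g₂⁻¹) w₂ = w₃ := by
    rw [act_mul, hw₂def, act_inv_act, hw₃def]
  have hhne : (g₃ * g₂⁻¹) * s₂ * (g₃ * g₂⁻¹)⁻¹ ≠ s₂ := by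
    have e : (g₃ * g₂⁻¹) * s₂ * (g₃ * g₂⁻¹)⁻¹ = g₃ * a * g₃⁻¹ := by
      rw [hs₂def]; group
    rw [e]
    exact h23
  have p23 : c s₂ w₃ = w₂ * w₃ := by
    have := pair_two c hN hfaith R hR s₂ w₂ hs₂ (g₃ * g₂⁻¹) hhR hhne
    rwa [hhw] at this
  -- the fourth conjugate
  obtain ⟨g₄, hg₄def⟩ : ∃ g₄, g₄ = s₂ * g₃ * a⁻¹ := ⟨_, rfl⟩
  have hg₄R : g₄ ∈ R := by
    have h1 : g₂ * a * g₂⁻¹ * a⁻¹ ∈ R := comm_mem R a g₂ hg₂
    have h2 : a * g₃ * a⁻¹ ∈ R := hRn.conj_mem _ hg₃ a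
    have e : g₄ = (g₂ * a * g₂⁻¹ * a⁻¹) * (a * g₃ * a⁻¹) := by
      rw [hg₄def, hs₂def]; group
    rw [e]
    exact R.mul_mem h1 h2
  have hainvw : c a⁻¹ w = w := by
    have := act_inv_act c a w
    rwa [ha.2] at this
  have hg₄w : c g₄ w = w₂ * w₃ := by
    rw [hg₄def, act_mul, act_mul, hainvw, ← hw₃def, p23]
  by_cases h4 : g₄ * a * g₄⁻¹ = a
  · have h5 := centre_fixed c hN hfaith a w ha ha1 g₄ h4
    rw [hg₄w] at h5
    calc w₃ = (w₂ * w₂) * w₃ := by rw [hw₂w₂, one_mul]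
      _ = w₂ * (w₂ * w₃) := by rw [mul_assoc]
      _ = w * w₂ := by rw [h5, mul_comm]
  · exfalso
    have h5 := pair_two c hN hfaith R hR a w ha g₄ hg₄R h4
    rw [hg₄w, map_mul, p2, p3] at h5
    apply hw1
    have e : w * w₂ * (w * w₃) = (w * w) * (w₂ * w₃) := by ac_rfl
    rw [e, hww, one_mul] at h5
    -- `w₂ * w₃ = w * (w₂ * w₃)`
    have h6 : w * (w₂ * w₃) * (w₂ * w₃)⁻¹ = (w₂ * w₃) * (w₂ * w₃)⁻¹ := by rw [← h5]
    rw [mul_inv_cancel_right, mul_inv_cancel] at h6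
    exact h6

/-- a transvection not centralizing `R` is not a square -/
theorem sq_not_transv (c : Γ →* MulAut N) (hN : ∀ n : N, n ^ 2 = 1)
    (hfaith : ∀ γ, (∀ n, c γ n = n) → γ = 1) (R : Subgroup Γ) [hRn : R.Normal]
    (hR : (Nat.card R).Coprime 2) (t : Γ) (w : N) (ht : IsTransv c t w) (g : Γ) (hg : g ∈ R)
    (hne : g * t * g⁻¹ ≠ t) (P : Γ) (hP : P * P = t) : False := by
  have ht1 : t ≠ 1 := ne_one_of_conj_ne hne
  have hw1 : w ≠ 1 := centre_ne_one hfaith ht ht1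
  have hww : w * w = 1 := by rw [← pow_two]; exact hN w
  have hPt : P * t * P⁻¹ = t := by rw [← hP]; group
  have hPt' : P⁻¹ * t * P = t := by rw [← hP]; group
  have hPw : c P w = w := centre_fixed c hN hfaith t w ht ht1 P hPt
  have hPinvw : c P⁻¹ w = w := by
    have := act_inv_act c P w
    rwa [hPw] at this
  obtain ⟨w', hw'def⟩ : ∃ w', w' = c g w := ⟨_, rfl⟩
  have p2 := pair_two c hN hfaith R hR t w ht g hg hne
  rw [← hw'def] at p2
  obtain ⟨g', hg'def⟩ : ∃ g', g' = P * g * P⁻¹ := ⟨_, rfl⟩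
  have hg'R : g' ∈ R := by rw [hg'def]; exact hRn.conj_mem _ hg P
  have hg'w : c g' w = c P w' := by
    rw [hg'def, act_mul, act_mul, hPinvw, hw'def]
  have hg't : g' * t * g'⁻¹ = P * (g * t * g⁻¹) * P⁻¹ := by
    rw [hg'def]
    have e : P * g * P⁻¹ * t * (P * g * P⁻¹)⁻¹ = P * (g * (P⁻¹ * t * P) * g⁻¹) * P⁻¹ := by
      group
    rw [e, hPt']
  have h13 : g' * t * g'⁻¹ ≠ t := by
    intro h
    apply hne
    rw [hg't] at h
    have e : g * t * g⁻¹ = P⁻¹ * (P * (g * t * g⁻¹) * P⁻¹) * P := by group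
    rw [e, h, hPt']
  have hcases : c P w' = w' ∨ c P w' = w * w' := by
    by_cases h23 : g' * t * g'⁻¹ = g * t * g⁻¹
    · left
      have h5 : (g⁻¹ * g') * t * (g⁻¹ * g')⁻¹ = t := by
        have e : (g⁻¹ * g') * t * (g⁻¹ * g')⁻¹ = g⁻¹ * (g' * t * g'⁻¹) * g := by group
        rw [e, h23]; group
      have h6 := centre_fixed c hN hfaith t w ht ht1 _ h5
      rw [act_mul, hg'w] at h6
      have h7 := act_act_inv c g (c P w')
      rw [h6, ← hw'def] at h7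
      exact h7.symm
    · right
      have := triple_two c hN hfaith R hR t w ht g g' hg hg'R hne h13 h23
      rw [hg'w, ← hw'def] at this
      exact this
  have htw' : c t w' = w' := by
    rw [← hP, act_mul]
    rcases hcases with h | h
    · rw [h, h]
    · rw [h, map_mul, hPw, h, ← mul_assoc, hww, one_mul]
  rw [htw'] at p2
  apply hw1
  have h6 : w' * w'⁻¹ = w * w' * w'⁻¹ := by rw [← p2]
  rw [mul_inv_cancel, mul_inv_cancel_right] at h6
  exact h6.symm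

end Cfsg.Agent.Lib.Helper21_HHAbs2
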