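/-
Helper library (helper21): a cyclic subgroup normalized by `O_p(X)` in a `p`-solvable group `X`
with `O_{p'}(X) = 1` lies in `O_p(X)` (for `p` odd, or `X` being `S₄`-free).
-/
import Mathlib
import Cfsg.Agent.Lib.Helper21_HHAbs
import Cfsg.Agent.Lib.Helper21_S4Lift
import Cfsg.Agent.Lib.Helper21_S4Core
import Cfsg.Agent.Lib.Helper10_QuadFinal
import Cfsg.Agent.Lib.Helper76_PSolvable
import Cfsg.Agent.Lib.Helper48_Generation
import Cfsg.Agent.Lib.Helper1_Frattini
import Cfsg.Agent.S4218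

set_option autoImplicit false

namespace Cfsg.Agent.Lib.Helper21_HHMain

open Cfsg Cfsg.Agent.Lib.Helper21_HHAbs Cfsg.Agent.Lib.Helper76_PSolvable
open Cfsg.Agent.Lib.Helper10_QuadPair Cfsg.Agent.Lib.Helper10_QuadAction

section abs

variable {p : ℕ} [Fact p.Prime] {Γ : Type*} [Group Γ] [Finite Γ] {N : Type*} [CommGroup N]
  [Finite N]

/-- the abstract form -/
theorem main_abs (hsol : Cfsg.IsPSolvable p Γ) (hcore : Cfsg.pCore p Γ = ⊥)
    (c : Γ →* MulAut N) (hN : ∀ n : N, n ^ p = 1) (hfaith : ∀ γ, (∀ n, c γ n = n) → γ = 1)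
    (a : Γ) (w : N) (ha : IsTransv c a w)
    (H : p = 3 → ∀ z : Γ, z * a * z⁻¹ = a → c z w = w) :
    a = 1 ∨ (p = 2 ∧ ∃ y : Γ, y ≠ 1 ∧ y ^ 3 = 1 ∧ a * y * a⁻¹ = y⁻¹) := by
  by_cases ha1 : a = 1
  · exact Or.inl ha1
  right
  have hRn : (pPrimeCore p Γ).Normal := Cfsg.Agent.Lib.Helper76_PSolvable.pPrimeCore_normal p
  have hRc : (Nat.card (pPrimeCore p Γ)).Coprime p := pPrimeCore_card_coprime p
  have hHH := centralizer_pPrimeCore_le p hsol hcore
  have hap : a ^ p = 1 := ha.pow_eq_one hN hfaith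
  have haR : a ∉ pPrimeCore p Γ := fun h => ha1 (eq_one_of_coprime _ h hRc hap)
  have hnc : a ∉ Subgroup.centralizer (pPrimeCore p Γ : Set Γ) := fun h => haR (hHH h)
  rw [Subgroup.mem_centralizer_iff] at hnc
  simp only [not_forall] at hnc
  obtain ⟨g, hgR, hga⟩ := hnc
  have hne : g * a * g⁻¹ ≠ a := by
    intro h
    apply hga
    calc g * a = (g * a * g⁻¹) * g := by group
      _ = a * g := by rw [h]
  by_cases hp2 : p = 2
  · subst hp2
    exact ⟨rfl, two c hN hfaith _ hRc a w ha g hgR hne⟩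
  · exfalso
    by_cases hp3 : p = 3
    · subst hp3
      exact hne (three c hN hfaith _ hRc a w ha (H rfl) g hgR)
    · have hD := Cfsg.Agent.Lib.Helper10_QuadFinal.dicksonHyp p hp2
      have hna : a ∉ Cfsg.pCore p Γ := by
        rw [hcore, Subgroup.mem_bot]; exact ha1
      exact hp3 (abs_p_eq_three hD hp2 c hN hfaith hsol a (fun n => ha.quad n) hna)

end abs

section conc

universe u

variable {p : ℕ} [Fact p.Prime] {X : Type u} [Group X] [Finite X]

omit [Finite X] in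
/-- `a ∉ V`, `a ^ p ∈ V` and `V` normalizes `⟨a⟩`: then `[V, a] ≤ ⟨a ^ p⟩`. -/
theorem comm_mem_zpowers_pow (V : Subgroup X) [hVn : V.Normal] (a : X) (haV : a ∉ V)
    (hapV : a ^ p ∈ V) (hnorm : ∀ v ∈ V, v * a * v⁻¹ ∈ Subgroup.zpowers a) (v : X) (hv : v ∈ V) :
    a * v * a⁻¹ * v⁻¹ ∈ Subgroup.zpowers (a ^ p) := by
  have h1 : a * v * a⁻¹ * v⁻¹ ∈ V := V.mul_mem (hVn.conj_mem v hv a) (V.inv_mem hv)
  have h2 : a * v * a⁻¹ * v⁻¹ ∈ Subgroup.zpowers a := by
    have e : a * v * a⁻¹ * v⁻¹ = a * (v * a * v⁻¹)⁻¹ := by group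
    rw [e]
    exact (Subgroup.zpowers a).mul_mem (Subgroup.mem_zpowers a)
      (Subgroup.inv_mem _ (hnorm v hv))
  obtain ⟨j, hj⟩ := Subgroup.mem_zpowers_iff.1 h2
  have hpj : (p : ℤ) ∣ j := by
    by_contra hnd
    have hpi : Prime (p : ℤ) := Nat.prime_iff_prime_int.1 Fact.out
    have hcop : IsCoprime (p : ℤ) j := hpi.irreducible.coprime_iff_not_dvd.2 hnd
    obtain ⟨s, t, hst⟩ := hcop
    apply haV
    have e : a = (a ^ p) ^ s * (a ^ j) ^ t := by
      rw [← zpow_natCast a p, ← zpow_mul, ← zpow_mul, ← zpow_add]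
      have : (p : ℤ) * s + j * t = 1 := by linarith
      rw [this, zpow_one]
    rw [e]
    refine V.mul_mem (V.zpow_mem hapV s) (V.zpow_mem ?_ t)
    rw [hj]
    exact h1
  obtain ⟨m, rfl⟩ := hpj
  rw [← hj, zpow_mul, zpow_natCast]
  exact Subgroup.zpow_mem_zpowers _ m

/-- the core step: `a ^ p ∈ O_p(X)` -/
theorem core_step (hsol : Cfsg.IsPSolvable p X) (hcore : Cfsg.pPrimeCore p X = ⊥)
    (h : p ≠ 2 ∨ ¬ Cfsg.Involves (Equiv.Perm (Fin 4)) X) (a : X)
    (hapV : a ^ p ∈ Cfsg.pCore p X)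
    (hnorm : ∀ v ∈ Cfsg.pCore p X, v * a * v⁻¹ ∈ Subgroup.zpowers a) :
    a ∈ Cfsg.pCore p X := by
  classical
  by_contra haV
  have hVn : (pCore p X).Normal := Cfsg.Agent.Lib.Helper76_PSolvable.pCore_normal p
  have hVp : IsPGroup p (pCore p X) := pCore_isPGroup p
  have hHH : Subgroup.centralizer (pCore p X : Set X) ≤ pCore p X :=
    centralizer_pCore_le p hsol hcore
  -- the Frattini quotient of `V`
  have hcomm : IsMulCommutative (↥(pCore p X) ⧸ frattini ↥(pCore p X)) :=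
    Subgroup.Normal.quotient_commutative_iff_commutator_le.mpr
      (Cfsg.Agent.Lib.Helper1_Frattini.commutator_le_frattini_of_isPGroup hVp)
  letI instC : CommGroup (↥(pCore p X) ⧸ frattini ↥(pCore p X)) :=
    { (inferInstance : Group (↥(pCore p X) ⧸ frattini ↥(pCore p X))) with
      mul_comm := fun u v => hcomm.is_comm.comm u v }
  have hN : ∀ n : ↥(pCore p X) ⧸ frattini ↥(pCore p X), n ^ p = 1 := by
    intro n
    induction n using QuotientGroup.induction_on with
    | H x =>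
      rw [← QuotientGroup.mk_pow, QuotientGroup.eq_one_iff]
      exact Cfsg.Agent.Lib.Helper1_Frattini.pow_mem_frattini_of_isPGroup hVp x
  obtain ⟨cbar, hcbar⟩ : ∃ cbar : X →* MulAut (↥(pCore p X) ⧸ frattini ↥(pCore p X)),
      cbar = (Cfsg.Agent.Lib.Helper48_Generation.autQuot (frattini ↥(pCore p X))).comp
        (MulAut.conjNormal : X →* MulAut ↥(pCore p X)) := ⟨_, rfl⟩
  have hcb : ∀ (x : X) (v : ↥(pCore p X)),
      cbar x (v : ↥(pCore p X) ⧸ frattini ↥(pCore p X)) =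
        ((MulAut.conjNormal x v : ↥(pCore p X)) : ↥(pCore p X) ⧸ frattini ↥(pCore p X)) := by
    intro x v
    rw [hcbar]
    rfl
  -- `V` acts trivially
  have hle : pCore p X ≤ cbar.ker := by
    intro x hx
    rw [MonoidHom.mem_ker]
    ext n
    induction n using QuotientGroup.induction_on with
    | H v =>
      rw [hcb, MulAut.one_apply]
      have e : (MulAut.conjNormal x v : ↥(pCore p X)) = ⟨x, hx⟩ * v * ⟨x, hx⟩⁻¹ := by
        apply Subtype.ext
        simp [MulAut.conjNormal_apply]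
      rw [e, QuotientGroup.mk_mul, QuotientGroup.mk_mul, QuotientGroup.mk_inv,
        mul_inv_cancel_comm]
  -- the kernel is `V`
  have hker : ∀ x : X, (∀ n, cbar x n = n) → x ∈ pCore p X := by
    have hKp : IsPGroup p cbar.ker := by
      rintro ⟨x, hx⟩
      rw [MonoidHom.mem_ker] at hx
      have hmem : (MulAut.conjNormal x : MulAut ↥(pCore p X)) ∈
          Cfsg.Agent.S4218.frattiniTrivial ↥(pCore p X) := by
        rw [Cfsg.Agent.S4218.mem_frattiniTrivial]
        intro y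
        have h1 : cbar x (y : ↥(pCore p X) ⧸ frattini ↥(pCore p X)) =
            (y : ↥(pCore p X) ⧸ frattini ↥(pCore p X)) := by rw [hx]; rfl
        rw [hcb] at h1
        rw [← QuotientGroup.eq_one_iff, QuotientGroup.mk_mul, QuotientGroup.mk_inv, h1,
          mul_inv_cancel]
      obtain ⟨k, hk⟩ := Cfsg.Agent.S4218.frattiniTrivial_isPGroup p hVp ⟨_, hmem⟩
      have hk' : (MulAut.conjNormal x : MulAut ↥(pCore p X)) ^ p ^ k = 1 := by
        have := congrArg Subtype.val hk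
        simpa using this
      rw [← map_pow] at hk'
      have hcent : x ^ p ^ k ∈ Subgroup.centralizer (pCore p X : Set X) := by
        rw [Subgroup.mem_centralizer_iff]
        intro v hv
        have h3 : ((MulAut.conjNormal (x ^ p ^ k) (⟨v, hv⟩ : ↥(pCore p X)) : ↥(pCore p X)) : X) =
            v := by rw [hk']; rfl
        rw [MulAut.conjNormal_apply] at h3
        calc v * x ^ p ^ k = (x ^ p ^ k * v * (x ^ p ^ k)⁻¹) * x ^ p ^ k := by rw [h3]
          _ = x ^ p ^ k * v := by group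
      obtain ⟨m, hm⟩ := hVp ⟨_, hHH hcent⟩
      refine ⟨k + m, ?_⟩
      apply Subtype.ext
      have hm' := congrArg Subtype.val hm
      simp only [Subgroup.coe_pow, Subgroup.coe_one] at hm' ⊢
      rw [pow_add, pow_mul]
      exact hm'
    have hKle : cbar.ker ≤ pCore p X := le_pCore p cbar.ker hKp
    intro x hx
    apply hKle
    rw [MonoidHom.mem_ker]
    ext n
    rw [hx n, MulAut.one_apply]
  -- the faithful action of `X / V`
  obtain ⟨c, hcdef⟩ : ∃ c : X ⧸ pCore p X →* MulAut (↥(pCore p X) ⧸ frattini ↥(pCore p X)),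
      c = QuotientGroup.lift (pCore p X) cbar hle := ⟨_, rfl⟩
  have hc : ∀ (x : X) (n : ↥(pCore p X) ⧸ frattini ↥(pCore p X)),
      c (QuotientGroup.mk x) n = cbar x n := by
    intro x n
    rw [hcdef, QuotientGroup.lift_mk]
  have hfaith : ∀ γ : X ⧸ pCore p X, (∀ n, c γ n = n) → γ = 1 := by
    intro γ hγ
    obtain ⟨x, rfl⟩ := QuotientGroup.mk_surjective γ
    rw [QuotientGroup.eq_one_iff]
    apply hker
    intro n
    rw [← hc]
    exact hγ n
  -- the transvection
  obtain ⟨b', hb'⟩ : ∃ b' : ↥(pCore p X), b' = ⟨a ^ p, hapV⟩ := ⟨_, rfl⟩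
  have hb'coe : (b' : X) = a ^ p := by rw [hb']
  have ht : IsTransv c (QuotientGroup.mk a : X ⧸ pCore p X)
      (b' : ↥(pCore p X) ⧸ frattini ↥(pCore p X)) := by
    constructor
    · intro n
      induction n using QuotientGroup.induction_on with
      | H v =>
        rw [hc, hcb, ← QuotientGroup.mk_inv, ← QuotientGroup.mk_mul]
        have h1 := comm_mem_zpowers_pow (pCore p X) a haV hapV hnorm v v.2
        obtain ⟨j, hj⟩ := Subgroup.mem_zpowers_iff.1 h1
        have e : (MulAut.conjNormal a v * v⁻¹ : ↥(pCore p X)) = b' ^ j := by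
          apply Subtype.ext
          rw [Subgroup.coe_mul, Subgroup.coe_inv, MulAut.conjNormal_apply, Subgroup.coe_zpow,
            hb'coe, hj]
        rw [e, QuotientGroup.mk_zpow]
        exact Subgroup.zpow_mem_zpowers _ j
    · rw [hc, hcb]
      congr 1
      apply Subtype.ext
      rw [MulAut.conjNormal_apply, hb'coe]
      have : a * a ^ p = a ^ p * a := ((Commute.refl a).pow_right p).eq
      rw [this, mul_inv_cancel_right]
  -- the hypothesis `H`
  have H : p = 3 → ∀ z : X ⧸ pCore p X, z * QuotientGroup.mk a * z⁻¹ = QuotientGroup.mk a →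
      c z (b' : ↥(pCore p X) ⧸ frattini ↥(pCore p X)) = b' := by
    intro hp3 z hz
    obtain ⟨z, rfl⟩ := QuotientGroup.mk_surjective z
    have hN3 : ∀ n : ↥(pCore p X) ⧸ frattini ↥(pCore p X), n ^ 3 = 1 := by
      intro n
      have e : n ^ p = n ^ 3 := congrArg (fun k => n ^ k) hp3
      rw [← e]
      exact hN n
    have hb3 : (b' : X) = a ^ 3 := by rw [hb'coe, hp3]
    rw [← QuotientGroup.mk_inv, ← QuotientGroup.mk_mul, ← QuotientGroup.mk_mul,
      QuotientGroup.eq] at hz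
    obtain ⟨v, hvdef⟩ : ∃ v, v = a⁻¹ * (z * a * z⁻¹) := ⟨_, rfl⟩
    have hv : v ∈ pCore p X := by
      have h1 := (pCore p X).inv_mem hz
      have e : ((z * a * z⁻¹)⁻¹ * a)⁻¹ = v := by rw [hvdef]; group
      rwa [e] at h1
    have hzv : z * a * z⁻¹ = a * v := by rw [hvdef]; group
    have key : b'⁻¹ * MulAut.conjNormal z b' =
        MulAut.conjNormal (a⁻¹ ^ 2) (⟨v, hv⟩ : ↥(pCore p X)) *
          MulAut.conjNormal a⁻¹ (⟨v, hv⟩ : ↥(pCore p X)) * ⟨v, hv⟩ := by
      apply Subtype.ext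
      simp only [Subgroup.coe_mul, Subgroup.coe_inv, MulAut.conjNormal_apply]
      have e1 : z * a ^ 3 * z⁻¹ = (z * a * z⁻¹) ^ 3 := (conj_pow).symm
      rw [hb3, e1, hzv]
      simp only [pow_succ, pow_zero, one_mul]
      group
    have h3 := cube_norm c hN3 ht.inv
      (((⟨v, hv⟩ : ↥(pCore p X)) : ↥(pCore p X) ⧸ frattini ↥(pCore p X)))
    rw [← QuotientGroup.mk_inv, ← QuotientGroup.mk_pow, hc, hc, hcb, hcb, ← QuotientGroup.mk_mul,
      ← QuotientGroup.mk_mul, ← key, QuotientGroup.mk_mul, QuotientGroup.mk_inv,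
      inv_mul_eq_one] at h3
    rw [hc, hcb]
    exact h3.symm
  -- apply the abstract theorem
  have hsolΓ : Cfsg.IsPSolvable p (X ⧸ pCore p X) := isPSolvable_quotient p (pCore p X) hsol
  have hcoreΓ : pCore p (X ⧸ pCore p X) = ⊥ := pCore_quotient_pCore' p
  rcases main_abs hsolΓ hcoreΓ c hN hfaith (QuotientGroup.mk a) _ ht H with
    h1 | ⟨hp2, y, hy1, hy3, hinv⟩
  · exact haV ((QuotientGroup.eq_one_iff a).1 h1)
  · rcases h with h | h
    · exact h hp2
    · apply h
      subst hp2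
      obtain ⟨t, y', ht2, hy3', hinv', hfy, -⟩ :=
        Cfsg.Agent.Lib.Helper21_S4Lift.lemmaB (QuotientGroup.mk' (pCore 2 X)) y
          (QuotientGroup.mk a) hy3 hy1 hinv
          (QuotientGroup.mk'_surjective _ _) (QuotientGroup.mk'_surjective _ _)
      refine Cfsg.Agent.Lib.Helper21_S4Core.core' (pCore 2 X) hVp t y'
        (Cfsg.Agent.Lib.Helper21_S4Core.mem_normalizer_of_conj_mem _ t
          (fun x hx => hVn.conj_mem x hx t))
        (Cfsg.Agent.Lib.Helper21_S4Core.mem_normalizer_of_conj_mem _ y'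
          (fun x hx => hVn.conj_mem x hx y')) ht2 hy3' hinv' ?_
      intro hy'
      apply hfy
      rw [QuotientGroup.mk'_apply, QuotientGroup.eq_one_iff]
      exact hHH hy'

/-- a `p`-element generating a subgroup normalized by `O_p(X)` lies in `O_p(X)` -/
theorem core_lemma (hsol : Cfsg.IsPSolvable p X) (hcore : Cfsg.pPrimeCore p X = ⊥)
    (h : p ≠ 2 ∨ ¬ Cfsg.Involves (Equiv.Perm (Fin 4)) X) (a : X)
    (hap : ∃ k : ℕ, a ^ p ^ k = 1)
    (hnorm : ∀ v ∈ Cfsg.pCore p X, v * a * v⁻¹ ∈ Subgroup.zpowers a) :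
    a ∈ Cfsg.pCore p X := by
  classical
  by_contra haV
  have hex : ∃ k : ℕ, a ^ p ^ k ∈ pCore p X := by
    obtain ⟨k, hk⟩ := hap
    exact ⟨k, by rw [hk]; exact one_mem _⟩
  have hk0 : Nat.find hex ≠ 0 := by
    intro h0
    have := Nat.find_spec hex
    rw [h0, pow_zero, pow_one] at this
    exact haV this
  obtain ⟨j, hj⟩ := Nat.exists_eq_succ_of_ne_zero hk0
  have hj1 : a ^ p ^ j ∉ pCore p X := Nat.find_min hex (by rw [hj]; exact Nat.lt_succ_self j)
  have hj2 : (a ^ p ^ j) ^ p ∈ pCore p X := by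
    have := Nat.find_spec hex
    rw [hj, pow_succ, pow_mul] at this
    exact this
  apply hj1
  apply core_step hsol hcore h (a ^ p ^ j) hj2
  intro v hv
  obtain ⟨i, hi⟩ := Subgroup.mem_zpowers_iff.1 (hnorm v hv)
  have e : v * a ^ p ^ j * v⁻¹ = (v * a * v⁻¹) ^ p ^ j := (conj_pow).symm
  have e2 : (a ^ i) ^ p ^ j = (a ^ p ^ j) ^ i := by
    rw [← zpow_natCast (a ^ i) (p ^ j), ← zpow_mul, mul_comm, zpow_mul, zpow_natCast]
  rw [e, ← hi, e2]
  exact Subgroup.zpow_mem_zpowers _ i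

end conc

end Cfsg.Agent.Lib.Helper21_HHMain
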