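import Mathlib

/-!
# Groups with two conjugacy class sizes (Ito): the quotient by the centre is a `p`-group

Helper library (helper21).  Part 0: a numeric lemma on products.
-/

set_option autoImplicit false

namespace Cfsg.Agent.Lib.Helper21_Ito

/-- If `a i < b j` for all distinct `i j` of a finset with at least two elements then
`∏ a < ∏ b`. -/
theorem prod_lt_prod_of_offDiag {ι : Type*} [DecidableEq ι] :
    ∀ (k : ℕ) (S : Finset ι) (a b : ι → ℕ), S.card = k → 2 ≤ S.card →
      (∀ i ∈ S, ∀ j ∈ S, i ≠ j → a i < b j) → ∏ i ∈ S, a i < ∏ i ∈ S, b i := by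
  intro k
  induction k using Nat.strong_induction_on with
  | _ k ih =>
    intro S a b hk h2 hab
    have hne : S.Nonempty := Finset.card_pos.mp (by omega)
    obtain ⟨j0, hj0, hmax⟩ := Finset.exists_max_image S b hne
    have hS : S = insert j0 (S.erase j0) := (Finset.insert_erase hj0).symm
    have hcard : (S.erase j0).card = k - 1 := by
      rw [Finset.card_erase_of_mem hj0, hk]
    have hne' : (S.erase j0).Nonempty := Finset.card_pos.mp (by rw [hcard]; omega)
    obtain ⟨j1, hj1⟩ := hne'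
    have hj1S : j1 ∈ S := Finset.mem_of_mem_erase hj1
    have hj10 : j1 ≠ j0 := Finset.ne_of_mem_erase hj1
    have ha0 : a j0 ≤ b j0 := by
      have h1 : a j0 < b j1 := hab j0 hj0 j1 hj1S (Ne.symm hj10)
      have h2 : b j1 ≤ b j0 := hmax j1 hj1S
      omega
    have hb0 : 0 < b j0 := by
      have h1 : a j1 < b j0 := hab j1 hj1S j0 hj0 hj10
      omega
    rw [hS, Finset.prod_insert (Finset.notMem_erase j0 S),
      Finset.prod_insert (Finset.notMem_erase j0 S)]
    by_cases h3 : 2 ≤ (S.erase j0).card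
    · have hlt := ih (k - 1) (by omega) (S.erase j0) a b hcard h3
        (fun i hi j hj hij => hab i (Finset.mem_of_mem_erase hi) j (Finset.mem_of_mem_erase hj) hij)
      calc a j0 * ∏ i ∈ S.erase j0, a i ≤ b j0 * ∏ i ∈ S.erase j0, a i :=
            Nat.mul_le_mul_right _ ha0
        _ < b j0 * ∏ i ∈ S.erase j0, b i := Nat.mul_lt_mul_of_pos_left hlt hb0
    · have h1 : (S.erase j0).card = 1 := by omega
      obtain ⟨j, hj⟩ := Finset.card_eq_one.mp h1
      have hjj : j = j1 := by
        have : j1 ∈ ({j} : Finset ι) := hj ▸ hj1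
        exact (Finset.mem_singleton.mp this).symm
      rw [hj, Finset.prod_singleton, Finset.prod_singleton, hjj]
      have h4 : a j0 < b j1 := hab j0 hj0 j1 hj1S (Ne.symm hj10)
      have h5 : a j1 < b j0 := hab j1 hj1S j0 hj0 hj10
      calc a j0 * a j1 < b j1 * b j0 := Nat.mul_lt_mul'' h4 h5
        _ = b j0 * b j1 := Nat.mul_comm _ _

/-- Numeric form: if for all distinct primes `p q` dividing `n * m` the `p`-part of `n` is
smaller than the `q`-part of `m`, and `n * m` has at least two prime divisors, then `n < m`. -/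
theorem lt_of_parts_lt {n m : ℕ} (hn : n ≠ 0) (hm : m ≠ 0)
    (h2 : ∃ p q : ℕ, p.Prime ∧ q.Prime ∧ p ≠ q ∧ p ∣ n * m ∧ q ∣ n * m)
    (h : ∀ p q : ℕ, p.Prime → q.Prime → p ≠ q → p ∣ n * m → q ∣ n * m →
      p ^ n.factorization p < q ^ m.factorization q) : n < m := by
  classical
  set S := (n * m).primeFactors with hS
  have hnm : n * m ≠ 0 := Nat.mul_ne_zero hn hm
  have hnS : n.factorization.support ⊆ S := by
    intro p hp
    rw [Nat.support_factorization] at hp
    exact Nat.primeFactors_mono (Dvd.intro _ rfl) hnm hp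
  have hmS : m.factorization.support ⊆ S := by
    intro p hp
    rw [Nat.support_factorization] at hp
    exact Nat.primeFactors_mono (Dvd.intro_left _ rfl) hnm hp
  have e1 : n = ∏ p ∈ S, p ^ n.factorization p := by
    conv_lhs => rw [← Nat.prod_factorization_pow_eq_self hn]
    exact Finsupp.prod_of_support_subset _ hnS _ (fun i _ => pow_zero i)
  have e2 : m = ∏ p ∈ S, p ^ m.factorization p := by
    conv_lhs => rw [← Nat.prod_factorization_pow_eq_self hm]
    exact Finsupp.prod_of_support_subset _ hmS _ (fun i _ => pow_zero i)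
  have hcard : 2 ≤ S.card := by
    obtain ⟨p, q, hp, hq, hpq, hpd, hqd⟩ := h2
    have hpS : p ∈ S := Nat.mem_primeFactors.mpr ⟨hp, hpd, hnm⟩
    have hqS : q ∈ S := Nat.mem_primeFactors.mpr ⟨hq, hqd, hnm⟩
    have : ({p, q} : Finset ℕ) ⊆ S := by
      intro x hx
      rcases Finset.mem_insert.mp hx with rfl | hx
      · exact hpS
      · rw [Finset.mem_singleton.mp hx]; exact hqS
    calc 2 = ({p, q} : Finset ℕ).card := (Finset.card_pair hpq).symm
      _ ≤ S.card := Finset.card_le_card this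
  rw [e1, e2]
  refine prod_lt_prod_of_offDiag S.card S _ _ rfl hcard ?_
  intro p hp q hq hpq
  have hp' := Nat.mem_primeFactors.mp hp
  have hq' := Nat.mem_primeFactors.mp hq
  exact h p q hp'.1 hq'.1 hpq hp'.2.1 hq'.2.1

/-! ## Part 1: elementary group lemmas -/

section basic

variable {G : Type*} [Group G]

/-- Splitting an element into its `p`-part and `p'`-part, both powers of it. -/
theorem exists_split [Finite G] (g : G) (p : ℕ) [hp : Fact p.Prime] :
    ∃ a b : G, a ∈ Subgroup.zpowers g ∧ b ∈ Subgroup.zpowers g ∧ a * b = g ∧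
      (∃ k : ℕ, a ^ (p ^ k) = 1) ∧ (orderOf b).Coprime p := by
  have ho : orderOf g ≠ 0 := (orderOf_pos g).ne'
  obtain ⟨e, m', hm', ho'⟩ := Nat.exists_eq_pow_mul_and_not_dvd ho p hp.out.ne_one
  have hcop : Nat.Coprime (p ^ e) m' :=
    Nat.Coprime.pow_left _ ((Nat.Prime.coprime_iff_not_dvd hp.out).mpr hm')
  have hbez := Int.gcd_eq_gcd_ab (p ^ e : ℕ) m'
  rw [Int.gcd_natCast_natCast, hcop] at hbez
  set u := Int.gcdA (p ^ e : ℕ) m' with hu
  set v := Int.gcdB (p ^ e : ℕ) m' with hv
  refine ⟨g ^ ((m' : ℤ) * v), g ^ (((p ^ e : ℕ) : ℤ) * u), ⟨_, rfl⟩, ⟨_, rfl⟩, ?_, ⟨e, ?_⟩, ?_⟩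
  · rw [← zpow_add]
    have : (m' : ℤ) * v + ((p ^ e : ℕ) : ℤ) * u = 1 := by
      rw [add_comm]; exact_mod_cast hbez.symm
    rw [this, zpow_one]
  · rw [← zpow_natCast, ← zpow_mul]
    have : (m' : ℤ) * v * ((p ^ e : ℕ) : ℤ) = ((orderOf g : ℕ) : ℤ) * v := by
      rw [ho']; push_cast; ring
    rw [this, zpow_mul, zpow_natCast, pow_orderOf_eq_one, one_zpow]
  · have h1 : (g ^ (((p ^ e : ℕ) : ℤ) * u)) ^ m' = 1 := by
      rw [← zpow_natCast, ← zpow_mul]
      have : ((p ^ e : ℕ) : ℤ) * u * (m' : ℤ) = ((orderOf g : ℕ) : ℤ) * u := by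
        rw [ho']; push_cast; ring
      rw [this, zpow_mul, zpow_natCast, pow_orderOf_eq_one, one_zpow]
    have h2 : orderOf (g ^ (((p ^ e : ℕ) : ℤ) * u)) ∣ m' := orderOf_dvd_of_pow_eq_one h1
    exact Nat.Coprime.coprime_dvd_left h2
      ((Nat.Prime.coprime_iff_not_dvd hp.out).mpr hm').symm

/-- Finite-index subgroups of equal index that are comparable are equal. -/
theorem eq_of_le_of_index_eq {H K : Subgroup G} (hle : H ≤ K) (hidx : H.index = K.index)
    (h0 : H.index ≠ 0) : H = K := by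
  have h1 := Subgroup.relIndex_mul_index hle
  rw [← hidx] at h1
  have h2 : H.relIndex K = 1 := by
    have : H.relIndex K * H.index = 1 * H.index := by rw [h1, one_mul]
    exact Nat.eq_of_mul_eq_mul_right (Nat.pos_of_ne_zero h0) this
  exact le_antisymm hle (Subgroup.relIndex_eq_one.mp h2)

theorem mem_centralizer_of_mem_zpowers {x y g : G} (hy : y ∈ Subgroup.zpowers x)
    (hg : g ∈ Subgroup.centralizer ({x} : Set G)) :
    g ∈ Subgroup.centralizer ({y} : Set G) := by
  rw [Subgroup.mem_centralizer_singleton_iff] at hg ⊢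
  obtain ⟨k, rfl⟩ := hy
  have : Commute g x := hg
  exact (this.zpow_right k).eq

theorem centralizer_le_of_mem_zpowers {x y : G} (hy : y ∈ Subgroup.zpowers x) :
    Subgroup.centralizer ({x} : Set G) ≤ Subgroup.centralizer ({y} : Set G) :=
  fun _ hg => mem_centralizer_of_mem_zpowers hy hg

/-- For commuting elements of coprime orders, the first is a power of the product. -/
theorem mem_zpowers_mul_of_coprime {x y : G} (hxy : Commute x y)
    (hco : (orderOf x).Coprime (orderOf y)) : x ∈ Subgroup.zpowers (x * y) := by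
  obtain ⟨m, hm⟩ := exists_pow_eq_self_of_coprime (x := x) (n := orderOf y) hco.symm
  refine ⟨((orderOf y * m : ℕ) : ℤ), ?_⟩
  show (x * y) ^ ((orderOf y * m : ℕ) : ℤ) = x
  rw [zpow_natCast, hxy.mul_pow, pow_mul y, pow_orderOf_eq_one, one_pow, mul_one, pow_mul]
  exact hm

/-- A prime dividing the index of the centre: every Sylow subgroup for it has a
non-central element. -/
theorem exists_noncentral_of_dvd [Finite G] (s : ℕ) [hs : Fact s.Prime]
    (hdvd : s ∣ (Subgroup.center G).index) (S : Sylow s G) :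
    ∃ t ∈ (S : Subgroup G), t ∉ Subgroup.center G := by
  by_contra hcon
  push Not at hcon
  have hle : (S : Subgroup G) ≤ Subgroup.center G := fun t ht => hcon t ht
  have h1 : (Subgroup.center G).index ∣ (S : Subgroup G).index := Subgroup.index_dvd_of_le hle
  exact S.not_dvd_index (hdvd.trans h1)

/-- A non-central `s`-element of `K ≥ Z(G)` forces `s ∣ |K : Z(G)|`. -/
theorem dvd_relIndex_of_pElement [Finite G] (s : ℕ) [hs : Fact s.Prime] {K : Subgroup G}
    {t : G} (htK : t ∈ K) (htZ : t ∉ Subgroup.center G) (hts : ∃ k : ℕ, t ^ (s ^ k) = 1) :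
    s ∣ (Subgroup.center G).relIndex K := by
  obtain ⟨k, hk⟩ := hts
  rw [Subgroup.relIndex, Subgroup.index_eq_card]
  set q0 : ↥K ⧸ (Subgroup.center G).subgroupOf K := QuotientGroup.mk ⟨t, htK⟩ with hq0
  have hne : q0 ≠ 1 := by
    intro h1
    rw [hq0, QuotientGroup.eq_one_iff, Subgroup.mem_subgroupOf] at h1
    exact htZ h1
  have hpow : q0 ^ (s ^ k) = 1 := by
    rw [hq0, ← QuotientGroup.mk_pow]
    have : (⟨t, htK⟩ : ↥K) ^ (s ^ k) = 1 := Subtype.ext (by simpa using hk)
    rw [this]; rfl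
  obtain ⟨j, _, hj⟩ := (Nat.dvd_prime_pow hs.out).mp (orderOf_dvd_of_pow_eq_one hpow)
  have hj0 : j ≠ 0 := by
    rintro rfl
    rw [pow_zero, orderOf_eq_one_iff] at hj
    exact hne hj
  have : s ∣ orderOf q0 := by rw [hj]; exact dvd_pow_self s hj0
  exact this.trans (orderOf_dvd_natCard q0)

/-- If `s ∣ |K : Z(G)|` then `K` contains a non-central `s`-element. -/
theorem exists_pElement_of_dvd_relIndex [Finite G] (s : ℕ) [hs : Fact s.Prime] {K : Subgroup G}
    (hdvd : s ∣ (Subgroup.center G).relIndex K) :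
    ∃ a ∈ K, a ∉ Subgroup.center G ∧ ∃ k : ℕ, a ^ (s ^ k) = 1 := by
  rw [Subgroup.relIndex, Subgroup.index_eq_card] at hdvd
  obtain ⟨gb, hgb⟩ := exists_prime_orderOf_dvd_card' s hdvd
  obtain ⟨g, rfl⟩ := QuotientGroup.mk_surjective gb
  have hgZ : (g : G) ∉ Subgroup.center G := by
    intro hc
    have : (QuotientGroup.mk g : ↥K ⧸ (Subgroup.center G).subgroupOf K) = 1 := by
      rw [QuotientGroup.eq_one_iff, Subgroup.mem_subgroupOf]; exact hc
    rw [this, orderOf_one] at hgb
    exact hs.out.ne_one hgb.symm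
  have hgs : (g : G) ^ s ∈ Subgroup.center G := by
    have h1 : (QuotientGroup.mk g : ↥K ⧸ (Subgroup.center G).subgroupOf K) ^ s = 1 := by
      rw [← hgb]; exact pow_orderOf_eq_one _
    rw [← QuotientGroup.mk_pow, QuotientGroup.eq_one_iff, Subgroup.mem_subgroupOf] at h1
    simpa using h1
  obtain ⟨a, b, ha, hb, hab, hak, hbco⟩ := exists_split (g : G) s
  have hzK : Subgroup.zpowers (g : G) ≤ K := (Subgroup.zpowers_le).mpr g.2
  have hbZ : b ∈ Subgroup.center G := by
    obtain ⟨e, he⟩ := hb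
    have he' : (g : G) ^ e = b := he
    subst he'
    have h1 : ((g : G) ^ e) ^ s ∈ Subgroup.center G := by
      have : ((g : G) ^ e) ^ s = ((g : G) ^ s) ^ e := by
        rw [← zpow_natCast, ← zpow_mul, mul_comm, zpow_mul, zpow_natCast]
      rw [this]; exact Subgroup.zpow_mem _ hgs e
    obtain ⟨m, hm⟩ := exists_pow_eq_self_of_coprime (x := (g : G) ^ e) (n := s) hbco.symm
    rw [← hm]; exact Subgroup.pow_mem _ h1 m
  refine ⟨a, hzK ha, ?_, hak⟩
  intro haZ
  exact hgZ (hab ▸ Subgroup.mul_mem _ haZ hbZ)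

/-- In a Sylow `p`-subgroup `P` not contained in the centre there is a non-central `u`
all of whose `P`-conjugates lie in `u Z(G)`. -/
theorem exists_u [Finite G] {p : ℕ} [hp : Fact p.Prime] (P : Sylow p G)
    (hP : ∃ t ∈ (P : Subgroup G), t ∉ Subgroup.center G) :
    ∃ u ∈ (P : Subgroup G), u ∉ Subgroup.center G ∧
      ∀ g ∈ (P : Subgroup G), u⁻¹ * (g * u * g⁻¹) ∈ Subgroup.center G := by
  obtain ⟨t, htP, htZ⟩ := hP
  set K : Subgroup ↥(P : Subgroup G) := (Subgroup.center G).subgroupOf (P : Subgroup G) with hK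
  have hQp : IsPGroup p (↥(P : Subgroup G) ⧸ K) := P.isPGroup'.to_quotient K
  have hnt : Nontrivial (↥(P : Subgroup G) ⧸ K) := by
    refine ⟨⟨QuotientGroup.mk ⟨t, htP⟩, 1, ?_⟩⟩
    intro h1
    rw [QuotientGroup.eq_one_iff, hK, Subgroup.mem_subgroupOf] at h1
    exact htZ h1
  have hcnt := hQp.center_nontrivial
  obtain ⟨ub, hub⟩ := exists_ne (1 : Subgroup.center (↥(P : Subgroup G) ⧸ K))
  obtain ⟨u', hu'⟩ := QuotientGroup.mk_surjective (ub : ↥(P : Subgroup G) ⧸ K)
  refine ⟨(u' : G), u'.2, ?_, ?_⟩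
  · intro hc
    have h1 : (QuotientGroup.mk u' : ↥(P : Subgroup G) ⧸ K) = 1 := by
      rw [QuotientGroup.eq_one_iff, hK, Subgroup.mem_subgroupOf]; exact hc
    rw [hu'] at h1
    exact hub (Subtype.ext h1)
  · intro g hg
    have hcomm := Subgroup.mem_center_iff.mp ub.2 (QuotientGroup.mk ⟨g, hg⟩)
    rw [← hu'] at hcomm
    have h1 : (QuotientGroup.mk (u'⁻¹ * (⟨g, hg⟩ * u' * ⟨g, hg⟩⁻¹)) : ↥(P : Subgroup G) ⧸ K) = 1 := by
      rw [QuotientGroup.mk_mul, QuotientGroup.mk_mul, QuotientGroup.mk_mul,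
        QuotientGroup.mk_inv, QuotientGroup.mk_inv, hcomm]
      group
    rw [QuotientGroup.eq_one_iff, hK, Subgroup.mem_subgroupOf] at h1
    simpa using h1

theorem conj_pow_of_central {k y z : G} (hz : z ∈ Subgroup.center G)
    (hk : k * y * k⁻¹ = y * z) : ∀ i : ℕ, k ^ i * y * (k ^ i)⁻¹ = y * z ^ i := by
  intro i
  induction i with
  | zero => simp
  | succ i ih =>
    have hzi : z ^ i ∈ Subgroup.center G := Subgroup.pow_mem _ hz i
    have hcomm : k * z ^ i = z ^ i * k := Subgroup.mem_center_iff.mp hzi k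
    calc k ^ (i + 1) * y * (k ^ (i + 1))⁻¹ = k * (k ^ i * y * (k ^ i)⁻¹) * k⁻¹ := by
          rw [pow_succ']; group
      _ = k * (y * z ^ i) * k⁻¹ := by rw [ih]
      _ = (k * y * k⁻¹) * (k * z ^ i * k⁻¹) := by group
      _ = (y * z) * (z ^ i) := by rw [hk, hcomm]; group
      _ = y * z ^ (i + 1) := by rw [pow_succ']; group

/-- Lower bound for `|P : P ∩ D|`, `P` a Sylow `p`-subgroup. -/
theorem le_index_subgroupOf [Finite G] {p : ℕ} [hp : Fact p.Prime] (P : Sylow p G)
    (D : Subgroup G) :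
    p ^ D.index.factorization p ≤ (D.subgroupOf (P : Subgroup G)).index := by
  have hn0 : D.index ≠ 0 := Subgroup.index_ne_zero_of_finite
  have hD0 : Nat.card D ≠ 0 := Nat.card_pos.ne'
  have h1 := Subgroup.card_mul_index (D.subgroupOf (P : Subgroup G))
  obtain ⟨j, hj⟩ := (P.isPGroup'.to_subgroup (D.subgroupOf (P : Subgroup G))).exists_card_eq
  have h2 : Nat.card (D.subgroupOf (P : Subgroup G)) ∣ Nat.card D := by
    rw [← Subgroup.inf_subgroupOf_right,
      Nat.card_congr (Subgroup.subgroupOfEquivOfLe (inf_le_right : D ⊓ (P : Subgroup G) ≤ _)).toEquiv]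
    exact Subgroup.card_dvd_of_le inf_le_left
  rw [hj] at h2 h1
  have h3 : j ≤ (Nat.card D).factorization p :=
    (Nat.Prime.pow_dvd_iff_le_factorization hp.out hD0).mp h2
  have h4 : Nat.card (P : Subgroup G) = p ^ (Nat.card G).factorization p := P.card_eq_multiplicity
  have h5 : (Nat.card G).factorization p =
      (Nat.card D).factorization p + D.index.factorization p := by
    rw [← D.card_mul_index, Nat.factorization_mul hD0 hn0]; rfl
  rw [h4, h5] at h1
  set a := (Nat.card D).factorization p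
  set b := D.index.factorization p
  have h6 : p ^ j * (D.subgroupOf (P : Subgroup G)).index = p ^ j * p ^ (a + b - j) := by
    rw [h1, ← pow_add]; congr 1; omega
  have h7 := Nat.eq_of_mul_eq_mul_left (pow_pos hp.out.pos j) h6
  rw [h7]
  exact Nat.pow_le_pow_right hp.out.pos (by omega)

/-- Order of the image in `G / Z(G)` of a subgroup containing the centre. -/
theorem card_map_mk' [Finite G] {D : Subgroup G} (hZD : Subgroup.center G ≤ D) {n m : ℕ}
    (hn0 : n ≠ 0) (hD : D.index = n) (hZ : (Subgroup.center G).index = n * m) :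
    Nat.card (D.map (QuotientGroup.mk' (Subgroup.center G))) = m := by
  have h1 : (D.map (QuotientGroup.mk' (Subgroup.center G))).index = n := by
    rw [Subgroup.index_map_eq D (QuotientGroup.mk'_surjective _)
      (by rw [QuotientGroup.ker_mk']; exact hZD), hD]
  have h2 := Subgroup.card_mul_index (D.map (QuotientGroup.mk' (Subgroup.center G)))
  rw [h1, ← Subgroup.index_eq_card, hZ, mul_comm] at h2
  exact Nat.eq_of_mul_eq_mul_left (Nat.pos_of_ne_zero hn0) h2

end basic

/-! ## Part 2: two class sizes -/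

/-- All conjugacy classes have size `1` or `n`, with `n > 1`. -/
def TwoSizes (G : Type*) [Group G] (n : ℕ) : Prop :=
  1 < n ∧ ∀ x : G, (Subgroup.centralizer ({x} : Set G)).index = 1 ∨
    (Subgroup.centralizer ({x} : Set G)).index = n

namespace TwoSizes

variable {G : Type*} [Group G] {n : ℕ}

theorem index_eq (h : TwoSizes G n) {x : G} (hx : x ∉ Subgroup.center G) :
    (Subgroup.centralizer ({x} : Set G)).index = n := by
  rcases h.2 x with h1 | h1
  · exfalso
    rw [Subgroup.index_eq_one, Subgroup.centralizer_eq_top_iff_subset] at h1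
    exact hx (h1 rfl)
  · exact h1

theorem coprime_of_pElements {x y : G} {r s : ℕ} (hr : r.Prime) (hs : s.Prime) (hrs : r ≠ s)
    (hx : ∃ k : ℕ, x ^ (r ^ k) = 1) (hy : ∃ k : ℕ, y ^ (s ^ k) = 1) :
    (orderOf x).Coprime (orderOf y) := by
  obtain ⟨k, hk⟩ := hx
  obtain ⟨l, hl⟩ := hy
  have h1 : orderOf x ∣ r ^ k := orderOf_dvd_of_pow_eq_one hk
  have h2 : orderOf y ∣ s ^ l := orderOf_dvd_of_pow_eq_one hl
  have h3 : (r ^ k).Coprime (s ^ l) :=
    Nat.Coprime.pow _ _ ((Nat.coprime_primes hr hs).mpr hrs)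
  exact Nat.Coprime.coprime_dvd_left h1 (Nat.Coprime.coprime_dvd_right h2 h3)

variable [Finite G]

theorem eq_of_le (h : TwoSizes G n) {x y : G} (hx : x ∉ Subgroup.center G)
    (hy : y ∉ Subgroup.center G)
    (hle : Subgroup.centralizer ({x} : Set G) ≤ Subgroup.centralizer ({y} : Set G)) :
    Subgroup.centralizer ({x} : Set G) = Subgroup.centralizer ({y} : Set G) := by
  refine eq_of_le_of_index_eq hle ?_ ?_
  · rw [h.index_eq hx, h.index_eq hy]
  · rw [h.index_eq hx]; have := h.1; omega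

/-- Key lemma: commuting elements of coprime orders. -/
theorem le_of_coprime (h : TwoSizes G n) {x y : G} (hx : x ∉ Subgroup.center G)
    (hxy : Commute x y) (hco : (orderOf x).Coprime (orderOf y)) :
    Subgroup.centralizer ({x} : Set G) ≤ Subgroup.centralizer ({y} : Set G) := by
  have hx_mem : x ∈ Subgroup.zpowers (x * y) := mem_zpowers_mul_of_coprime hxy hco
  have hxyZ : x * y ∉ Subgroup.center G := fun hc => hx ((Subgroup.zpowers_le).mpr hc hx_mem)
  have hle : Subgroup.centralizer ({x * y} : Set G) ≤ Subgroup.centralizer ({x} : Set G) :=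
    centralizer_le_of_mem_zpowers hx_mem
  have heq := h.eq_of_le hxyZ hx hle
  intro g hg
  have hg2 : g ∈ Subgroup.centralizer ({x * y} : Set G) := heq ▸ hg
  rw [Subgroup.mem_centralizer_singleton_iff] at hg hg2 ⊢
  have : x * (g * y) = x * (y * g) :=
    calc x * (g * y) = (g * x) * y := by rw [hg, mul_assoc]
      _ = g * (x * y) := mul_assoc _ _ _
      _ = x * y * g := hg2
      _ = x * (y * g) := mul_assoc _ _ _
  exact mul_left_cancel this

/-- Step 1: for a non-central `r`-element `x` and a second prime `s` dividing `|G : Z(G)|`,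
the centralizer of `x` is abelian and contains a non-central `s`-element. -/
theorem step1 (h : TwoSizes G n) {x : G} (hx : x ∉ Subgroup.center G) {r s : ℕ}
    [hr : Fact r.Prime] [hs : Fact s.Prime] (hrs : r ≠ s) (hxr : ∃ k : ℕ, x ^ (r ^ k) = 1)
    (hdvd : s ∣ (Subgroup.center G).index) :
    (∃ y ∈ Subgroup.centralizer ({x} : Set G), y ∉ Subgroup.center G ∧
      ∃ l : ℕ, y ^ (s ^ l) = 1) ∧
    ∀ a ∈ Subgroup.centralizer ({x} : Set G), ∀ b ∈ Subgroup.centralizer ({x} : Set G),
      a * b = b * a := by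
  have hn0 : n ≠ 0 := by have := h.1; omega
  obtain ⟨S⟩ : Nonempty (Sylow s G) := inferInstance
  obtain ⟨y0, hy0S, hy0Z⟩ := exists_noncentral_of_dvd s hdvd S
  have hy0s : ∃ k : ℕ, y0 ^ (s ^ k) = 1 := by
    obtain ⟨k, hk⟩ := S.isPGroup' ⟨y0, hy0S⟩
    exact ⟨k, by simpa using congrArg Subtype.val hk⟩
  have hy0C : y0 ∈ Subgroup.centralizer ({y0} : Set G) := by
    rw [Subgroup.mem_centralizer_singleton_iff]
  have h1 : s ∣ (Subgroup.center G).relIndex (Subgroup.centralizer ({y0} : Set G)) :=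
    dvd_relIndex_of_pElement s hy0C hy0Z hy0s
  have h2 : (Subgroup.center G).relIndex (Subgroup.centralizer ({x} : Set G)) =
      (Subgroup.center G).relIndex (Subgroup.centralizer ({y0} : Set G)) := by
    have e1 := Subgroup.relIndex_mul_index (Subgroup.center_le_centralizer ({x} : Set G))
    have e2 := Subgroup.relIndex_mul_index (Subgroup.center_le_centralizer ({y0} : Set G))
    rw [h.index_eq hx] at e1
    rw [h.index_eq hy0Z] at e2
    exact Nat.eq_of_mul_eq_mul_right (Nat.pos_of_ne_zero hn0) (e1.trans e2.symm)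
  rw [← h2] at h1
  obtain ⟨y, hyC, hyZ, hys⟩ := exists_pElement_of_dvd_relIndex s h1
  have hxy : Commute x y := by
    rw [Subgroup.mem_centralizer_singleton_iff] at hyC
    exact hyC.symm
  have hle : Subgroup.centralizer ({x} : Set G) ≤ Subgroup.centralizer ({y} : Set G) :=
    h.le_of_coprime hx hxy (coprime_of_pElements hr.out hs.out hrs hxr hys)
  have heq := h.eq_of_le hx hyZ hle
  refine ⟨⟨y, hyC, hyZ, hys⟩, ?_⟩
  -- every element of the centralizer is central in it
  have key : ∀ g ∈ Subgroup.centralizer ({x} : Set G),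
      ∀ b ∈ Subgroup.centralizer ({x} : Set G), g * b = b * g := by
    intro g hg b hb
    obtain ⟨g1, g2, hg1, hg2, hg12, hg1r, hg2co⟩ := exists_split g r
    have hzC : Subgroup.zpowers g ≤ Subgroup.centralizer ({x} : Set G) :=
      (Subgroup.zpowers_le).mpr hg
    have hg1C := hzC hg1
    have hg2C := hzC hg2
    -- g2 has order coprime to that of x
    have hxg2 : Commute x g2 := by
      rw [Subgroup.mem_centralizer_singleton_iff] at hg2C
      exact hg2C.symm
    have hco2 : (orderOf x).Coprime (orderOf g2) := by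
      obtain ⟨k, hk⟩ := hxr
      have h1 : orderOf x ∣ r ^ k := orderOf_dvd_of_pow_eq_one hk
      exact Nat.Coprime.coprime_dvd_left h1 (Nat.Coprime.pow_left _ hg2co.symm)
    have hb2 : b ∈ Subgroup.centralizer ({g2} : Set G) := h.le_of_coprime hx hxg2 hco2 hb
    -- g1 has order coprime to that of y
    have hg1Cy : g1 ∈ Subgroup.centralizer ({y} : Set G) := heq ▸ hg1C
    have hyg1 : Commute y g1 := by
      rw [Subgroup.mem_centralizer_singleton_iff] at hg1Cy
      exact hg1Cy.symm
    have hco1 : (orderOf y).Coprime (orderOf g1) :=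
      coprime_of_pElements hs.out hr.out (Ne.symm hrs) hys hg1r
    have hb1 : b ∈ Subgroup.centralizer ({g1} : Set G) :=
      h.le_of_coprime hyZ hyg1 hco1 (heq ▸ hb)
    rw [Subgroup.mem_centralizer_singleton_iff] at hb1 hb2
    rw [← hg12, mul_assoc, ← hb2, ← mul_assoc, ← hb1, mul_assoc]
  exact key

/-- Step 3: for distinct primes `p q` dividing `|G : Z(G)| = n * m`, the `p`-part of `n` is
smaller than the `q`-part of `m`. -/
theorem step3 (h : TwoSizes G n) {p q : ℕ} [hp : Fact p.Prime] [hq : Fact q.Prime] (hpq : p ≠ q)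
    (hpd : p ∣ (Subgroup.center G).index) (hqd : q ∣ (Subgroup.center G).index) {m : ℕ}
    (hm : (Subgroup.center G).index = n * m) :
    p ^ n.factorization p < q ^ m.factorization q := by
  classical
  have hn0 : n ≠ 0 := by have := h.1; omega
  have hm0 : m ≠ 0 := by
    rintro rfl
    rw [mul_zero] at hm
    exact Subgroup.index_ne_zero_of_finite hm
  obtain ⟨P⟩ : Nonempty (Sylow p G) := inferInstance
  obtain ⟨u, huP, huZ, hu⟩ := exists_u P (exists_noncentral_of_dvd p hpd P)
  have hur : ∃ k : ℕ, u ^ (p ^ k) = 1 := by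
    obtain ⟨k, hk⟩ := P.isPGroup' ⟨u, huP⟩
    exact ⟨k, by simpa using congrArg Subtype.val hk⟩
  obtain ⟨⟨y, hyD, hyZ, hys⟩, hab⟩ := h.step1 huZ hpq hur hqd
  set D := Subgroup.centralizer ({u} : Set G) with hD
  have hDidx : D.index = n := h.index_eq huZ
  have hZD : Subgroup.center G ≤ D := Subgroup.center_le_centralizer _
  -- C(y) = D
  have hDy : D = Subgroup.centralizer ({y} : Set G) := by
    refine h.eq_of_le huZ hyZ ?_
    intro d hd
    rw [Subgroup.mem_centralizer_singleton_iff]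
    exact hab d hd y hyD
  -- P normalizes D
  have hnorm : ∀ g ∈ (P : Subgroup G), ∀ d ∈ D, g * d * g⁻¹ ∈ D := by
    intro g hg d hd
    have hz := hu g⁻¹ (Subgroup.inv_mem _ hg)
    rw [inv_inv] at hz
    set z := u⁻¹ * (g⁻¹ * u * g) with hzdef
    have hw : g⁻¹ * u * g = u * z := by rw [hzdef]; group
    have hdu : d * u = u * d := Subgroup.mem_centralizer_singleton_iff.mp hd
    have hdz : d * z = z * d := Subgroup.mem_center_iff.mp hz d
    have hdw : d * (g⁻¹ * u * g) = (g⁻¹ * u * g) * d := by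
      rw [hw]
      calc d * (u * z) = (d * u) * z := (mul_assoc _ _ _).symm
        _ = (u * d) * z := by rw [hdu]
        _ = u * (d * z) := mul_assoc _ _ _
        _ = u * (z * d) := by rw [hdz]
        _ = u * z * d := (mul_assoc _ _ _).symm
    rw [hD, Subgroup.mem_centralizer_singleton_iff]
    calc g * d * g⁻¹ * u = g * (d * (g⁻¹ * u * g)) * g⁻¹ := by group
      _ = g * ((g⁻¹ * u * g) * d) * g⁻¹ := by rw [hdw]
      _ = u * (g * d * g⁻¹) := by group
  -- the quotient
  set π := QuotientGroup.mk' (Subgroup.center G) with hπ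
  set Db := D.map π with hDb
  have hDbcard : Nat.card Db = m := card_map_mk' hZD hn0 hDidx hm
  have hDbcomm : ∀ v ∈ Db, ∀ w ∈ Db, v * w = w * v := by
    rintro _ ⟨d, hd, rfl⟩ _ ⟨d', hd', rfl⟩
    rw [← map_mul, ← map_mul, hab d hd d' hd']
  let Dq : Subgroup (G ⧸ Subgroup.center G) :=
    { carrier := {v | v ∈ Db ∧ ∃ k : ℕ, v ^ (q ^ k) = 1}
      mul_mem' := by
        rintro v w ⟨hv, k, hk⟩ ⟨hw, l, hl⟩
        refine ⟨Db.mul_mem hv hw, k + l, ?_⟩
        have hc : Commute v w := hDbcomm v hv w hw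
        rw [hc.mul_pow, pow_add, pow_mul, hk, one_pow, mul_comm (q ^ k) (q ^ l), pow_mul, hl,
          one_pow, one_mul]
      one_mem' := ⟨Db.one_mem, 0, by simp⟩
      inv_mem' := by
        rintro v ⟨hv, k, hk⟩
        exact ⟨Db.inv_mem hv, k, by rw [inv_pow, hk, inv_one]⟩ }
  have hDq_le : Dq ≤ Db := fun v hv => hv.1
  have hDqp : IsPGroup q Dq := by
    rintro ⟨v, hv, k, hk⟩
    exact ⟨k, Subtype.ext (by simpa using hk)⟩
  obtain ⟨j, hj⟩ := hDqp.exists_card_eq
  have hjle : q ^ j ≤ q ^ m.factorization q := by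
    have h1 : q ^ j ∣ m := by rw [← hj, ← hDbcard]; exact Subgroup.card_dvd_of_le hDq_le
    exact Nat.pow_le_pow_right hq.out.pos
      ((Nat.Prime.pow_dvd_iff_le_factorization hq.out hm0).mp h1)
  -- the injection
  have hconjmem : ∀ g ∈ (P : Subgroup G), π (g * y * g⁻¹) ∈ Dq := by
    intro g hg
    refine ⟨⟨g * y * g⁻¹, hnorm g hg y hyD, rfl⟩, ?_⟩
    obtain ⟨l, hl⟩ := hys
    refine ⟨l, ?_⟩
    rw [← map_pow, conj_pow, hl]; simp
  let f : (↥(P : Subgroup G) ⧸ D.subgroupOf (P : Subgroup G)) → ↥Dq := fun c =>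
    ⟨π ((c.out : G) * y * (c.out : G)⁻¹), hconjmem _ c.out.2⟩
  have hf : Function.Injective f := by
    intro c c' hcc
    have h1 : π ((c.out : G) * y * (c.out : G)⁻¹) = π ((c'.out : G) * y * (c'.out : G)⁻¹) :=
      congrArg Subtype.val hcc
    have hgP : (c.out : G) ∈ (P : Subgroup G) := c.out.2
    have hg'P : (c'.out : G) ∈ (P : Subgroup G) := c'.out.2
    generalize hg : (c.out : G) = g at h1 hgP
    generalize hg' : (c'.out : G) = g' at h1 hg'P
    rw [hπ, QuotientGroup.mk'_apply, QuotientGroup.mk'_apply, QuotientGroup.eq] at h1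
    set z := (g * y * g⁻¹)⁻¹ * (g' * y * g'⁻¹) with hz
    set k := g⁻¹ * g' with hk
    have hkP : k ∈ (P : Subgroup G) := Subgroup.mul_mem _ (Subgroup.inv_mem _ hgP) hg'P
    have hky : k * y * k⁻¹ = y * z := by
      have hzg : g * z = z * g := Subgroup.mem_center_iff.mp h1 g
      calc k * y * k⁻¹ = g⁻¹ * ((g * y * g⁻¹) * z) * g := by rw [hz, hk]; group
        _ = g⁻¹ * (g * y * g⁻¹) * (z * g) := by group
        _ = g⁻¹ * (g * y * g⁻¹) * (g * z) := by rw [hzg]
        _ = y * z := by group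
    obtain ⟨l, hl⟩ := hys
    obtain ⟨i, hi⟩ := P.isPGroup' ⟨k, hkP⟩
    have hi' : k ^ (p ^ i) = 1 := by simpa using congrArg Subtype.val hi
    have hz1 : z ^ (q ^ l) = 1 := by
      have hyz : Commute y z := Subgroup.mem_center_iff.mp h1 y
      have e1 : (y * z) ^ (q ^ l) = z ^ (q ^ l) := by rw [hyz.mul_pow, hl, one_mul]
      rw [← e1, ← hky, conj_pow, hl]; group
    have hz2 : z ^ (p ^ i) = 1 := by
      have e := conj_pow_of_central h1 hky (p ^ i)
      rw [hi'] at e
      simpa using e.symm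
    have hz0 : z = 1 := by
      have d1 : orderOf z ∣ q ^ l := orderOf_dvd_of_pow_eq_one hz1
      have d2 : orderOf z ∣ p ^ i := orderOf_dvd_of_pow_eq_one hz2
      have cop : (q ^ l).Coprime (p ^ i) :=
        Nat.Coprime.pow _ _ ((Nat.coprime_primes hq.out hp.out).mpr (Ne.symm hpq))
      exact orderOf_eq_one_iff.mp (Nat.eq_one_of_dvd_coprimes cop d1 d2)
    rw [hz0, mul_one] at hky
    have hkD : k ∈ D := by
      rw [hDy, Subgroup.mem_centralizer_singleton_iff]
      calc k * y = (k * y * k⁻¹) * k := by group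
        _ = y * k := by rw [hky]
    rw [← QuotientGroup.out_eq' c, ← QuotientGroup.out_eq' c', QuotientGroup.eq,
      Subgroup.mem_subgroupOf]
    have : ((c.out⁻¹ * c'.out : ↥(P : Subgroup G)) : G) = k := by
      rw [hk, ← hg, ← hg']; simp
    rw [this]; exact hkD
  have hnot : (1 : ↥Dq) ∉ Set.range f := by
    rintro ⟨c, hc⟩
    have h1 : π ((c.out : G) * y * (c.out : G)⁻¹) = 1 := congrArg Subtype.val hc
    rw [hπ, QuotientGroup.mk'_apply, QuotientGroup.eq_one_iff] at h1
    have h2 := (inferInstance : (Subgroup.center G).Normal).conj_mem _ h1 (c.out : G)⁻¹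
    have h3 : (c.out : G)⁻¹ * ((c.out : G) * y * (c.out : G)⁻¹) * ((c.out : G)⁻¹)⁻¹ = y := by group
    rw [h3] at h2
    exact hyZ h2
  have hlt : Nat.card (↥(P : Subgroup G) ⧸ D.subgroupOf (P : Subgroup G)) < Nat.card Dq := by
    have := Fintype.ofFinite (↥(P : Subgroup G) ⧸ D.subgroupOf (P : Subgroup G))
    have := Fintype.ofFinite ↥Dq
    rw [Nat.card_eq_fintype_card, Nat.card_eq_fintype_card]
    exact Fintype.card_lt_of_injective_of_notMem f hf hnot
  have hge := le_index_subgroupOf P D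
  rw [hDidx, Subgroup.index_eq_card] at hge
  calc p ^ n.factorization p ≤ _ := hge
    _ < Nat.card Dq := hlt
    _ = q ^ j := hj
    _ ≤ _ := hjle

/-- Step 6: two distinct abelian centralizers give `|G : Z(G)| ≤ n²`. -/
theorem step6 (h : TwoSizes G n) {p q : ℕ} [hp : Fact p.Prime] [hq : Fact q.Prime] (hpq : p ≠ q)
    (hpd : p ∣ (Subgroup.center G).index) (hqd : q ∣ (Subgroup.center G).index) :
    (Subgroup.center G).index ≤ n * n := by
  have hn1 : n ≠ 1 := by have := h.1; omega
  obtain ⟨P⟩ : Nonempty (Sylow p G) := inferInstance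
  obtain ⟨u, huP, huZ⟩ := exists_noncentral_of_dvd p hpd P
  have hur : ∃ k : ℕ, u ^ (p ^ k) = 1 := by
    obtain ⟨k, hk⟩ := P.isPGroup' ⟨u, huP⟩
    exact ⟨k, by simpa using congrArg Subtype.val hk⟩
  obtain ⟨-, habD⟩ := h.step1 huZ hpq hur hqd
  set D := Subgroup.centralizer ({u} : Set G) with hD
  have hDidx : D.index = n := h.index_eq huZ
  have hZD : Subgroup.center G ≤ D := Subgroup.center_le_centralizer _
  -- a prime dividing n
  set r := n.minFac with hr
  haveI hrp : Fact r.Prime := ⟨Nat.minFac_prime hn1⟩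
  have hrn : r ∣ n := Nat.minFac_dvd n
  obtain ⟨R⟩ : Nonempty (Sylow r G) := inferInstance
  have hRD : ¬ (R : Subgroup G) ≤ D := by
    intro hle
    have h1 : D.index ∣ (R : Subgroup G).index := Subgroup.index_dvd_of_le hle
    rw [hDidx] at h1
    exact R.not_dvd_index (hrn.trans h1)
  obtain ⟨t, htR, htD⟩ := SetLike.not_le_iff_exists.mp hRD
  have htZ : t ∉ Subgroup.center G := fun hc => htD (hZD hc)
  have htr : ∃ k : ℕ, t ^ (r ^ k) = 1 := by
    obtain ⟨k, hk⟩ := R.isPGroup' ⟨t, htR⟩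
    exact ⟨k, by simpa using congrArg Subtype.val hk⟩
  have habE : ∀ a ∈ Subgroup.centralizer ({t} : Set G),
      ∀ b ∈ Subgroup.centralizer ({t} : Set G), a * b = b * a := by
    by_cases hrp' : r = p
    · exact (h.step1 htZ (hrp' ▸ hpq) htr hqd).2
    · exact (h.step1 htZ hrp' htr hpd).2
  set E := Subgroup.centralizer ({t} : Set G) with hE
  have hEidx : E.index = n := h.index_eq htZ
  have htE : t ∈ E := by rw [hE, Subgroup.mem_centralizer_singleton_iff]
  have hinf : D ⊓ E ≤ Subgroup.center G := by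
    intro g hg
    by_contra hgZ
    have h1 : D = Subgroup.centralizer ({g} : Set G) := by
      refine h.eq_of_le huZ hgZ ?_
      intro d hd
      rw [Subgroup.mem_centralizer_singleton_iff]
      exact habD d hd g hg.1
    have h2 : E = Subgroup.centralizer ({g} : Set G) := by
      refine h.eq_of_le htZ hgZ ?_
      intro d hd
      rw [Subgroup.mem_centralizer_singleton_iff]
      exact habE d hd g hg.2
    exact htD (h1.trans h2.symm ▸ htE)
  have h3 : (Subgroup.center G).index ∣ (D ⊓ E).index := Subgroup.index_dvd_of_le hinf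
  have h4 : (D ⊓ E).index ≤ D.index * E.index := Subgroup.index_inf_le
  rw [hDidx, hEidx] at h4
  exact (Nat.le_of_dvd (Nat.pos_of_ne_zero Subgroup.index_ne_zero_of_finite) h3).trans h4

/-- **Ito**: if all non-central classes of `G` have the same size, then `G / Z(G)` has
prime power order. -/
theorem exists_index_center_eq_prime_pow (h : TwoSizes G n) :
    ∃ p : ℕ, p.Prime ∧ ∃ k : ℕ, (Subgroup.center G).index = p ^ k := by
  by_cases hab : ∀ x : G, x ∈ Subgroup.center G
  · refine ⟨2, Nat.prime_two, 0, ?_⟩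
    rw [pow_zero, Subgroup.index_eq_one, eq_top_iff]
    exact fun x _ => hab x
  push Not at hab
  obtain ⟨x, hx⟩ := hab
  have hn0 : n ≠ 0 := by have := h.1; omega
  have hdvd : n ∣ (Subgroup.center G).index := by
    rw [← h.index_eq hx]
    exact Subgroup.index_dvd_of_le (Subgroup.center_le_centralizer _)
  obtain ⟨m, hm⟩ := hdvd
  have hN0 : (Subgroup.center G).index ≠ 0 := Subgroup.index_ne_zero_of_finite
  have hm0 : m ≠ 0 := by
    rintro rfl
    rw [mul_zero] at hm
    exact hN0 hm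
  have hN1 : (Subgroup.center G).index ≠ 1 := by
    intro h1
    rw [h1] at hm
    have := Nat.eq_one_of_mul_eq_one_right hm.symm
    have := h.1
    omega
  by_contra hcon
  push Not at hcon
  set p := (Subgroup.center G).index.minFac with hp
  have hpp : p.Prime := Nat.minFac_prime hN1
  have hpd : p ∣ (Subgroup.center G).index := Nat.minFac_dvd _
  have hex : ∃ q : ℕ, q.Prime ∧ q ∣ (Subgroup.center G).index ∧ q ≠ p := by
    by_contra hno
    push Not at hno
    exact hcon p hpp _ (Nat.eq_prime_pow_of_unique_prime_dvd hN0 (fun {d} hd hdd => hno d hd hdd))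
  obtain ⟨q, hqp, hqd, hqne⟩ := hex
  have hlt : n < m := by
    refine lt_of_parts_lt hn0 hm0 ⟨p, q, hpp, hqp, Ne.symm hqne, hm ▸ hpd, hm ▸ hqd⟩ ?_
    intro p' q' hp' hq' hne hp'd hq'd
    haveI : Fact p'.Prime := ⟨hp'⟩
    haveI : Fact q'.Prime := ⟨hq'⟩
    exact h.step3 hne (hm ▸ hp'd) (hm ▸ hq'd) hm
  haveI : Fact p.Prime := ⟨hpp⟩
  haveI : Fact q.Prime := ⟨hqp⟩
  have hle := h.step6 (Ne.symm hqne) hpd hqd
  rw [hm] at hle
  have : m ≤ n := Nat.le_of_mul_le_mul_left hle (Nat.pos_of_ne_zero hn0)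
  omega

end TwoSizes

end Cfsg.Agent.Lib.Helper21_Ito
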