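import Mathlib
import Cfsg.Agent.Lib.Helper59_SharpTrans

/-!
Jordan's theorem on the degrees of sharply `k`-transitive groups (helper21), by counting the
centralizer of an element with a prescribed action on `k` points in two ways.
-/

set_option autoImplicit false

namespace Cfsg.Agent.Lib.Helper21_Jordan

open MulAction
open Cfsg.Agent.Lib.Helper59_SharpTrans

/-- Sharp `k`-fold transitivity. -/
structure SharpK (Γ α : Type*) [Group Γ] [MulAction Γ α] (k : ℕ) : Prop where
  trans : IsMultiplyPretransitive Γ α k
  sharp : ∀ e : Fin k ↪ α, stabilizer Γ e = ⊥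

variable {Γ α : Type*} [Group Γ] [MulAction Γ α]

namespace SharpK

variable {k : ℕ} (h : SharpK Γ α k)
include h

theorem eq_one {q : Fin k → α} (hq : Function.Injective q) {g : Γ}
    (hg : ∀ i, g • q i = q i) : g = 1 := by
  have hmem : g ∈ stabilizer Γ (⟨q, hq⟩ : Fin k ↪ α) := by
    rw [mem_stabilizer_iff]
    ext i
    exact hg i
  rw [h.sharp] at hmem
  exact Subgroup.mem_bot.mp hmem

theorem eq_of_smul_eq {q : Fin k → α} (hq : Function.Injective q) {g g' : Γ}
    (hg : ∀ i, g • q i = g' • q i) : g = g' := by
  have := h.eq_one hq (g := g'⁻¹ * g) (fun i => by rw [mul_smul, hg i, inv_smul_smul])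
  exact (inv_mul_eq_one.mp this).symm

theorem exists_smul {p q : Fin k → α} (hp : Function.Injective p) (hq : Function.Injective q) :
    ∃ g : Γ, ∀ i, g • p i = q i :=
  have := h.trans
  exists_smul_tuple p q hp hq

/-- If `g` carries the pattern of `x` on the points `p i` to the pattern of `x` on the points
`g • p i`, then `g` commutes with `x`. -/
theorem commute_of_pattern {p : Fin k → α} (hp : Function.Injective p) (g x : Γ)
    (hpat : ∀ i, ∃ j, x • p i = p j ∧ x • (g • p i) = g • p j) : x * g = g * x := by
  have hq : Function.Injective (fun i => g • p i) := fun i j hij => hp (smul_left_cancel g hij)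
  have h1 := h.eq_one hq (g := x⁻¹ * (g * x * g⁻¹)) (fun i => by
    obtain ⟨j, h1, h2⟩ := hpat i
    rw [mul_smul, mul_smul, mul_smul, inv_smul_smul, h1, ← h2, inv_smul_smul])
  have h2 : g * x * g⁻¹ = x := by
    have := congrArg (fun y => x * y) h1
    simpa using this
  calc x * g = (g * x * g⁻¹) * g := by rw [h2]
    _ = g * x := by group

theorem finite [Finite α] (hk : k ≤ Nat.card α) : Finite Γ := by
  classical
  have := Fintype.ofFinite α
  obtain ⟨e₀⟩ : Nonempty (Fin k ↪ α) :=
    Function.Embedding.nonempty_of_card_le (by simpa [Nat.card_eq_fintype_card] using hk)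
  refine Finite.of_injective (fun g : Γ => g • e₀) (fun g g' hgg' => ?_)
  refine h.eq_of_smul_eq e₀.injective (fun i => ?_)
  have := DFunLike.congr_fun hgg' i
  simpa using this

end SharpK

/-- Congruence between the degree and the number of fixed points of an element of prime order. -/
theorem card_fixed_modEq [Fintype α] [DecidableEq α] {p : ℕ} [Fact p.Prime] (x : Γ)
    (hx : x ^ p = 1) :
    Fintype.card α ≡ (Finset.univ.filter (fun a : α => x • a = a)).card [MOD p] := by
  have hP : IsPGroup p (Subgroup.zpowers x) := by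
    rintro ⟨g, hg⟩
    obtain ⟨n, rfl⟩ := Subgroup.mem_zpowers_iff.mp hg
    refine ⟨1, Subtype.ext ?_⟩
    change (x ^ n) ^ p ^ 1 = 1
    rw [pow_one, ← zpow_natCast, ← zpow_mul, mul_comm, zpow_mul, zpow_natCast, hx, one_zpow]
  have hmod := hP.card_modEq_card_fixedPoints α
  have hfp : fixedPoints (Subgroup.zpowers x) α = {a | x • a = a} := by
    ext a
    constructor
    · intro ha
      exact ha ⟨x, Subgroup.mem_zpowers x⟩
    · intro ha g
      have hle : Subgroup.zpowers x ≤ stabilizer Γ a := by
        rw [Subgroup.zpowers_le]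
        exact ha
      exact hle g.2
  rw [hfp, Nat.card_eq_fintype_card] at hmod
  have : Nat.card ↥{a : α | x • a = a} = (Finset.univ.filter (fun a : α => x • a = a)).card := by
    rw [Nat.card_eq_fintype_card, Fintype.card_subtype]
    rfl
  rw [this] at hmod
  exact hmod

/-- Jordan: the degree of a sharply 4-transitive group is 4, 5, 6 or 11. -/
theorem card_of_sharp4 [Fintype α] [DecidableEq α] (h : SharpK Γ α 4)
    (h4 : 4 ≤ Fintype.card α) :
    Fintype.card α = 4 ∨ Fintype.card α = 5 ∨ Fintype.card α = 6 ∨ Fintype.card α = 11 := by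
  classical
  have hfin : Finite Γ := h.finite (by rw [Nat.card_eq_fintype_card]; exact h4)
  obtain ⟨e₀⟩ : Nonempty (Fin 4 ↪ α) :=
    Function.Embedding.nonempty_of_card_le (by simpa using h4)
  obtain ⟨p1, p2, p3, p4, h12, h13, h14, h23, h24, h34⟩ :
      ∃ p1 p2 p3 p4 : α, p1 ≠ p2 ∧ p1 ≠ p3 ∧ p1 ≠ p4 ∧ p2 ≠ p3 ∧ p2 ≠ p4 ∧ p3 ≠ p4 :=
    ⟨e₀ 0, e₀ 1, e₀ 2, e₀ 3, e₀.injective.ne (by decide), e₀.injective.ne (by decide),
      e₀.injective.ne (by decide), e₀.injective.ne (by decide), e₀.injective.ne (by decide),
      e₀.injective.ne (by decide)⟩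
  have hinj0 : Function.Injective ![p1, p2, p3, p4] := injective_vec4 h12 h13 h14 h23 h24 h34
  obtain ⟨x, hx⟩ := h.exists_smul (p := ![p1, p2, p3, p4]) (q := ![p2, p1, p3, p4]) hinj0
    (injective_vec4 h12.symm h23 h24 h13 h14 h34)
  have hx1 : x • p1 = p2 := hx 0
  have hx2 : x • p2 = p1 := hx 1
  have hx3 : x • p3 = p3 := hx 2
  have hx4 : x • p4 = p4 := hx 3
  have hxx : x * x = 1 := h.eq_one hinj0 (fun i => by
    fin_cases i
    · change (x * x) • p1 = p1
      rw [mul_smul, hx1, hx2]
    · change (x * x) • p2 = p2
      rw [mul_smul, hx2, hx1]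
    · change (x * x) • p3 = p3
      rw [mul_smul, hx3, hx3]
    · change (x * x) • p4 = p4
      rw [mul_smul, hx4, hx4])
  have hxx' : ∀ a : α, x • x • a = a := fun a => by rw [← mul_smul, hxx, one_smul]
  have hx_ne : x ≠ 1 := fun h1 => h12 (by rw [← hx1, h1, one_smul])
  set F : Finset α := Finset.univ.filter (fun a => x • a = a) with hF
  set M : Finset α := Finset.univ.filter (fun a => ¬ x • a = a) with hM
  have hFM : F.card + M.card = Fintype.card α := by
    rw [hF, hM, Finset.card_filter_add_card_filter_not, Finset.card_univ]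
  have memF : ∀ a, a ∈ F ↔ x • a = a := fun a => by simp [hF]
  have memM : ∀ a, a ∈ M ↔ x • a ≠ a := fun a => by simp [hM]
  have hxM : ∀ a, a ∈ M → x • a ∈ M := fun a ha => by
    rw [memM] at ha ⊢
    rw [hxx']
    exact fun h => ha h.symm
  have hFM_ne : ∀ u v, u ∈ F → v ∈ M → u ≠ v := fun u v hu hv huv => by
    rw [memF] at hu; rw [memM] at hv; rw [huv] at hu; exact hv hu
  have hF3 : F.card ≤ 3 := by
    by_contra hgt
    push Not at hgt
    obtain ⟨e⟩ : Nonempty (Fin 4 ↪ F) :=
      Function.Embedding.nonempty_of_card_le (by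
        rw [Fintype.card_fin, Fintype.card_coe]; omega)
    apply hx_ne
    exact h.eq_one (q := fun i => (e i : α)) (fun i j hij => e.injective (Subtype.ext hij))
      (fun i => (memF _).mp (e i).2)
  have hF2 : 2 ≤ F.card := by
    have hsub : ({p3, p4} : Finset α) ⊆ F := by
      intro a ha
      rw [Finset.mem_insert, Finset.mem_singleton] at ha
      rcases ha with rfl | rfl
      · exact (memF _).mpr hx3
      · exact (memF _).mpr hx4
    calc 2 = ({p3, p4} : Finset α).card := (Finset.card_pair h34).symm
      _ ≤ F.card := Finset.card_le_card hsub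
  have hp1M : p1 ∈ M := (memM _).mpr (by rw [hx1]; exact h12.symm)
  have hp2M : p2 ∈ M := (memM _).mpr (by rw [hx2]; exact h12)
  have hM2 : 2 ≤ M.card := by
    have hsub : ({p1, p2} : Finset α) ⊆ M := by
      intro a ha
      rw [Finset.mem_insert, Finset.mem_singleton] at ha
      rcases ha with rfl | rfl
      · exact hp1M
      · exact hp2M
    calc 2 = ({p1, p2} : Finset α).card := (Finset.card_pair h12).symm
      _ ≤ M.card := Finset.card_le_card hsub
  -- parity
  have hpar : Fintype.card α % 2 = F.card % 2 := by
    have : Fact (Nat.Prime 2) := ⟨Nat.prime_two⟩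
    have := card_fixed_modEq (α := α) (p := 2) x (by rw [pow_two]; exact hxx)
    exact this
  -- the centralizer
  set C : Subgroup Γ := Subgroup.centralizer ({x} : Set Γ) with hC
  have hCcomm : ∀ g ∈ C, ∀ a : α, x • g • a = g • x • a := fun g hg a => by
    have := Subgroup.mem_centralizer_singleton_iff.mp hg
    rw [← mul_smul, ← mul_smul, this]
  -- first count
  have hcount1 : Nat.card C = M.card * (F.card * F.card - F.card) := by
    have hmaps : ∀ g : C, ((g : Γ) • p1, (g : Γ) • p3, (g : Γ) • p4) ∈ M ×ˢ F.offDiag := by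
      intro g
      rw [Finset.mem_product, Finset.mem_offDiag]
      refine ⟨?_, ?_, ?_, ?_⟩
      · rw [memM, hCcomm g g.2, hx1]
        exact fun h => h12 (smul_left_cancel _ h).symm
      · rw [memF, hCcomm g g.2, hx3]
      · rw [memF, hCcomm g g.2, hx4]
      · exact fun h => h34 (smul_left_cancel _ h)
    let f : C → ↥(M ×ˢ F.offDiag) := fun g => ⟨_, hmaps g⟩
    have hbij : Function.Bijective f := by
      constructor
      · intro g g' hgg'
        have h1 := congrArg (fun t : ↥(M ×ˢ F.offDiag) => t.1.1) hgg'
        have h3 := congrArg (fun t : ↥(M ×ˢ F.offDiag) => t.1.2.1) hgg'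
        have h4' := congrArg (fun t : ↥(M ×ˢ F.offDiag) => t.1.2.2) hgg'
        simp only [f] at h1 h3 h4'
        apply Subtype.ext
        apply h.eq_of_smul_eq hinj0
        intro i
        fin_cases i
        · exact h1
        · change (g : Γ) • p2 = (g' : Γ) • p2
          rw [← hx1, ← hCcomm g g.2, ← hCcomm g' g'.2, h1]
        · exact h3
        · exact h4'
      · rintro ⟨⟨v, u, u'⟩, ht⟩
        rw [Finset.mem_product, Finset.mem_offDiag] at ht
        obtain ⟨hv, hu, hu', huu'⟩ := ht
        simp only at hv hu hu' huu'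
        have hxv : x • v ≠ v := (memM _).mp hv
        have hxu : x • u = u := (memF _).mp hu
        have hxu' : x • u' = u' := (memF _).mp hu'
        have hinj1 : Function.Injective ![v, x • v, u, u'] :=
          injective_vec4 (Ne.symm hxv) (hFM_ne u v hu hv).symm (hFM_ne u' v hu' hv).symm
            (hFM_ne u _ hu (hxM v hv)).symm (hFM_ne u' _ hu' (hxM v hv)).symm huu'
        obtain ⟨g, hg⟩ := h.exists_smul hinj0 hinj1
        have hg1 : g • p1 = v := hg 0
        have hg2 : g • p2 = x • v := hg 1
        have hg3 : g • p3 = u := hg 2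
        have hg4 : g • p4 = u' := hg 3
        have hgC : g ∈ C := by
          rw [hC, Subgroup.mem_centralizer_singleton_iff]
          refine (h.commute_of_pattern hinj0 g x ?_).symm
          intro i
          fin_cases i
          · exact ⟨1, hx1, by change x • (g • p1) = g • p2; rw [hg1, hg2]⟩
          · exact ⟨0, hx2, by change x • (g • p2) = g • p1; rw [hg1, hg2, hxx']⟩
          · exact ⟨2, hx3, by change x • (g • p3) = g • p3; rw [hg3, hxu]⟩
          · exact ⟨3, hx4, by change x • (g • p4) = g • p4; rw [hg4, hxu']⟩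
        refine ⟨⟨g, hgC⟩, ?_⟩
        apply Subtype.ext
        simp only [f]
        rw [hg1, hg3, hg4]
    rw [Nat.card_congr (Equiv.ofBijective f hbij), Nat.card_eq_fintype_card, Fintype.card_coe,
      Finset.card_product, Finset.offDiag_card]
  -- second count, if there is a further 2-cycle
  by_cases hM4 : M.card = 2
  · have : F.card = 2 ∨ F.card = 3 := by omega
    rcases this with h2 | h3
    · left; omega
    · right; left; omega
  · have hM3 : 2 < M.card := by omega
    obtain ⟨p5, hp5M, hp51, hp52⟩ : ∃ p5 ∈ M, p5 ≠ p1 ∧ p5 ≠ p2 := by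
      by_contra hcon
      push Not at hcon
      have hsub : M ⊆ ({p1, p2} : Finset α) := by
        intro a ha
        rw [Finset.mem_insert, Finset.mem_singleton]
        by_cases ha1 : a = p1
        · exact Or.inl ha1
        · exact Or.inr (hcon a ha ha1)
      have := Finset.card_le_card hsub
      rw [Finset.card_pair h12] at this
      omega
    set p6 := x • p5 with hp6
    have hx5 : x • p5 = p6 := rfl
    have hx6 : x • p6 = p5 := hxx' p5
    have hp56 : p5 ≠ p6 := fun h => (memM _).mp hp5M h.symm
    have hp61 : p6 ≠ p1 := fun h => hp52 (by rw [← hx1, ← h, hx6])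
    have hp62 : p6 ≠ p2 := fun h => hp51 (by rw [← hx2, ← h, hx6])
    have hinj2 : Function.Injective ![p1, p2, p5, p6] :=
      injective_vec4 h12 hp51.symm hp61.symm hp52.symm hp62.symm hp56
    set T2 : Finset (α × α) := M.offDiag \ M.image (fun v => (v, x • v)) with hT2
    have hT2card : T2.card = M.card * M.card - M.card - M.card := by
      rw [hT2, Finset.card_sdiff_of_subset, Finset.offDiag_card, Finset.card_image_of_injective]
      · intro a b hab
        exact (Prod.mk.inj hab).1
      · intro t ht
        rw [Finset.mem_image] at ht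
        obtain ⟨v, hv, rfl⟩ := ht
        rw [Finset.mem_offDiag]
        exact ⟨hv, hxM v hv, Ne.symm ((memM _).mp hv)⟩
    have memT2 : ∀ v w, (v, w) ∈ T2 ↔ v ∈ M ∧ w ∈ M ∧ v ≠ w ∧ w ≠ x • v := by
      intro v w
      rw [hT2, Finset.mem_sdiff, Finset.mem_offDiag, Finset.mem_image]
      constructor
      · rintro ⟨⟨hv, hw, hvw⟩, hni⟩
        refine ⟨hv, hw, hvw, fun hw' => hni ⟨v, hv, ?_⟩⟩
        rw [hw']
      · rintro ⟨hv, hw, hvw, hwx⟩
        refine ⟨⟨hv, hw, hvw⟩, ?_⟩
        rintro ⟨v', -, hv'⟩
        have h1 := (Prod.mk.inj hv').1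
        have h2 := (Prod.mk.inj hv').2
        rw [h1] at h2
        exact hwx h2.symm
    have hcount2 : Nat.card C = M.card * M.card - M.card - M.card := by
      have hmaps : ∀ g : C, ((g : Γ) • p1, (g : Γ) • p5) ∈ T2 := by
        intro g
        rw [memT2]
        refine ⟨?_, ?_, ?_, ?_⟩
        · rw [memM, hCcomm g g.2, hx1]
          exact fun h => h12 (smul_left_cancel _ h).symm
        · rw [memM, hCcomm g g.2, hx5]
          exact fun h => hp56 (smul_left_cancel _ h).symm
        · exact fun h => hp51 (smul_left_cancel _ h).symm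
        · rw [hCcomm g g.2, hx1]
          exact fun h => hp52 (smul_left_cancel _ h)
      let f : C → ↥T2 := fun g => ⟨_, hmaps g⟩
      have hbij : Function.Bijective f := by
        constructor
        · intro g g' hgg'
          have h1 := congrArg (fun t : ↥T2 => t.1.1) hgg'
          have h5 := congrArg (fun t : ↥T2 => t.1.2) hgg'
          simp only [f] at h1 h5
          apply Subtype.ext
          apply h.eq_of_smul_eq hinj2
          intro i
          fin_cases i
          · exact h1
          · change (g : Γ) • p2 = (g' : Γ) • p2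
            rw [← hx1, ← hCcomm g g.2, ← hCcomm g' g'.2, h1]
          · exact h5
          · change (g : Γ) • p6 = (g' : Γ) • p6
            rw [← hx5, ← hCcomm g g.2, ← hCcomm g' g'.2, h5]
        · rintro ⟨⟨v, w⟩, ht⟩
          rw [memT2] at ht
          obtain ⟨hv, hw, hvw, hwx⟩ := ht
          have hxv : x • v ≠ v := (memM _).mp hv
          have hxw : x • w ≠ w := (memM _).mp hw
          have hinj3 : Function.Injective ![v, x • v, w, x • w] := by
            refine injective_vec4 (Ne.symm hxv) hvw ?_ (Ne.symm hwx) ?_ (Ne.symm hxw)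
            · intro hh
              apply hwx
              rw [hh, hxx']
            · intro hh
              exact hvw (smul_left_cancel x hh)
          obtain ⟨g, hg⟩ := h.exists_smul hinj2 hinj3
          have hg1 : g • p1 = v := hg 0
          have hg2 : g • p2 = x • v := hg 1
          have hg5 : g • p5 = w := hg 2
          have hg6 : g • p6 = x • w := hg 3
          have hgC : g ∈ C := by
            rw [hC, Subgroup.mem_centralizer_singleton_iff]
            refine (h.commute_of_pattern hinj2 g x ?_).symm
            intro i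
            fin_cases i
            · exact ⟨1, hx1, by change x • (g • p1) = g • p2; rw [hg1, hg2]⟩
            · exact ⟨0, hx2, by change x • (g • p2) = g • p1; rw [hg1, hg2, hxx']⟩
            · exact ⟨3, hx5, by change x • (g • p5) = g • p6; rw [hg5, hg6]⟩
            · exact ⟨2, hx6, by change x • (g • p6) = g • p5; rw [hg5, hg6, hxx']⟩
          refine ⟨⟨g, hgC⟩, ?_⟩
          apply Subtype.ext
          simp only [f]
          rw [hg1, hg5]
      rw [Nat.card_congr (Equiv.ofBijective f hbij), Nat.card_eq_fintype_card, Fintype.card_coe,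
        hT2card]
    -- compare
    have hcmp : M.card * (F.card * F.card - F.card) = M.card * M.card - M.card - M.card := by
      rw [← hcount1, hcount2]
    have hF23 : F.card = 2 ∨ F.card = 3 := by omega
    rcases hF23 with h2 | h3
    · rw [h2] at hcmp
      norm_num at hcmp
      have : M.card = 4 := by
        have h1 : M.card * 2 + M.card + M.card = M.card * M.card := by
          have : M.card + M.card ≤ M.card * M.card := by nlinarith
          omega
        nlinarith
      right; right; left; omega
    · rw [h3] at hcmp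
      norm_num at hcmp
      have : M.card = 8 := by
        have h1 : M.card * 6 + M.card + M.card = M.card * M.card := by
          have : M.card + M.card ≤ M.card * M.card := by nlinarith
          omega
        nlinarith
      right; right; right; omega

/-- Sharp `(k+1)`-transitivity descends to a point stabilizer. -/
theorem SharpK.stabilizer [Finite α] {k : ℕ} (h : SharpK Γ α (k + 1)) (hk : k + 1 ≤ Nat.card α)
    (a : α) : SharpK (stabilizer Γ a) (SubMulAction.ofStabilizer Γ a) k := by
  have h1 : IsMultiplyPretransitive Γ α 1 :=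
    have := h.trans
    isMultiplyPretransitive_of_le (n := k + 1) (by omega) hk
  have hpre : IsPretransitive Γ α := is_one_pretransitive_iff.mp h1
  refine ⟨SubMulAction.ofStabilizer.isMultiplyPretransitive.mp h.trans, ?_⟩
  intro e
  rw [eq_bot_iff]
  intro g hg
  rw [mem_stabilizer_iff] at hg
  rw [Subgroup.mem_bot]
  apply Subtype.ext
  apply h.eq_one (SubMulAction.ofStabilizer.snoc e).injective
  intro i
  rcases Fin.eq_castSucc_or_eq_last i with ⟨j, rfl⟩ | rfl
  · rw [SubMulAction.ofStabilizer.snoc_castSucc]
    have := congrArg (fun f : Fin k ↪ SubMulAction.ofStabilizer Γ a =>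
      ((f j : SubMulAction.ofStabilizer Γ a) : α)) hg
    simp at this
    exact this
  · rw [SubMulAction.ofStabilizer.snoc_last]
    exact g.2

/-- Jordan: the degree of a sharply 5-transitive group is 5, 6, 7 or 12. -/
theorem card_of_sharp5 [Fintype α] [DecidableEq α] (h : SharpK Γ α 5)
    (h5 : 5 ≤ Fintype.card α) :
    Fintype.card α = 5 ∨ Fintype.card α = 6 ∨ Fintype.card α = 7 ∨ Fintype.card α = 12 := by
  classical
  have hne : Nonempty α := by rw [← Fintype.card_pos_iff]; omega
  obtain ⟨a⟩ := hne
  have hs := h.stabilizer (by rw [Nat.card_eq_fintype_card]; exact h5) a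
  have hfin : Fintype (SubMulAction.ofStabilizer Γ a) := Fintype.ofFinite _
  have hΩ : Fintype.card (SubMulAction.ofStabilizer Γ a) + 1 = Fintype.card α := by
    rw [← Nat.card_eq_fintype_card, ← Nat.card_eq_fintype_card]
    exact SubMulAction.nat_card_ofStabilizer_add_one_eq Γ a
  have := card_of_sharp4 hs (by omega)
  omega

end Cfsg.Agent.Lib.Helper21_Jordan
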