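import Mathlib
import Cfsg.Agent.Lib.Helper21_Jordan

/-!
Jordan's theorem, continued (helper21): there is no sharply 6-transitive group of degree 13,
hence sharply `k`-transitive groups with `k ≥ 6` have degree `k`, `k+1` or `k+2`.
-/

set_option autoImplicit false

namespace Cfsg.Agent.Lib.Helper21_Jordan

open MulAction
open Cfsg.Agent.Lib.Helper59_SharpTrans

variable {Γ α : Type*} [Group Γ] [MulAction Γ α]

theorem vec6_eq_append {a1 a2 a3 b1 b2 b3 : α} :
    (![a1, a2, a3, b1, b2, b3] : Fin 6 → α) = Fin.append ![a1, a2, a3] ![b1, b2, b3] := by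
  ext i
  fin_cases i <;> rfl

theorem injective_vec6 {a1 a2 a3 b1 b2 b3 : α} (ha : Function.Injective ![a1, a2, a3])
    (hb : Function.Injective ![b1, b2, b3]) (hab : ∀ i j, ![a1, a2, a3] i ≠ ![b1, b2, b3] j) :
    Function.Injective ![a1, a2, a3, b1, b2, b3] := by
  rw [vec6_eq_append]
  exact Fin.append_injective_iff.mpr ⟨ha, hb, hab⟩

/-- There is no sharply 6-transitive group of degree 13. -/
theorem not_sharp6_13 [Fintype α] [DecidableEq α] (h : SharpK Γ α 6) :
    Fintype.card α ≠ 13 := by
  classical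
  intro h13
  have hfin : Finite Γ := h.finite (by rw [Nat.card_eq_fintype_card, h13]; norm_num)
  obtain ⟨e₀⟩ : Nonempty (Fin 6 ↪ α) :=
    Function.Embedding.nonempty_of_card_le (by rw [Fintype.card_fin, h13]; norm_num)
  obtain ⟨p1, p2, p3, p4, p5, p6, hinj0⟩ :
      ∃ p1 p2 p3 p4 p5 p6 : α, Function.Injective ![p1, p2, p3, p4, p5, p6] := by
    refine ⟨e₀ 0, e₀ 1, e₀ 2, e₀ 3, e₀ 4, e₀ 5, ?_⟩
    have : (![e₀ 0, e₀ 1, e₀ 2, e₀ 3, e₀ 4, e₀ 5] : Fin 6 → α) = e₀ := by
      ext i
      fin_cases i <;> rfl
    rw [this]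
    exact e₀.injective
  have hne : ∀ i j : Fin 6, i ≠ j → ![p1, p2, p3, p4, p5, p6] i ≠ ![p1, p2, p3, p4, p5, p6] j :=
    fun i j hij => hinj0.ne hij
  have h12 : p1 ≠ p2 := hne 0 1 (by decide)
  have h13' : p1 ≠ p3 := hne 0 2 (by decide)
  have h23 : p2 ≠ p3 := hne 1 2 (by decide)
  have hinj0' : Function.Injective ![p2, p3, p1, p4, p5, p6] := by
    have : (![p2, p3, p1, p4, p5, p6] : Fin 6 → α) =
        ![p1, p2, p3, p4, p5, p6] ∘ (![1, 2, 0, 3, 4, 5] : Fin 6 → Fin 6) := by
      ext i
      fin_cases i <;> rfl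
    rw [this]
    exact hinj0.comp (by decide)
  obtain ⟨z, hz⟩ := h.exists_smul hinj0 hinj0'
  have hz1 : z • p1 = p2 := hz 0
  have hz2 : z • p2 = p3 := hz 1
  have hz3 : z • p3 = p1 := hz 2
  have hz4 : z • p4 = p4 := hz 3
  have hz5 : z • p5 = p5 := hz 4
  have hz6 : z • p6 = p6 := hz 5
  have hzzz : z * z * z = 1 := h.eq_one hinj0 (fun i => by
    fin_cases i
    · change (z * z * z) • p1 = p1
      rw [mul_smul, mul_smul, hz1, hz2, hz3]
    · change (z * z * z) • p2 = p2
      rw [mul_smul, mul_smul, hz2, hz3, hz1]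
    · change (z * z * z) • p3 = p3
      rw [mul_smul, mul_smul, hz3, hz1, hz2]
    · change (z * z * z) • p4 = p4
      rw [mul_smul, mul_smul, hz4, hz4, hz4]
    · change (z * z * z) • p5 = p5
      rw [mul_smul, mul_smul, hz5, hz5, hz5]
    · change (z * z * z) • p6 = p6
      rw [mul_smul, mul_smul, hz6, hz6, hz6])
  have hz3' : ∀ a : α, z • z • z • a = a := fun a => by
    rw [← mul_smul, ← mul_smul, hzzz, one_smul]
  have hz_ne : z ≠ 1 := fun h1 => h12 (by rw [← hz1, h1, one_smul])
  set F : Finset α := Finset.univ.filter (fun a => z • a = a) with hF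
  set M : Finset α := Finset.univ.filter (fun a => ¬ z • a = a) with hM
  have hFM : F.card + M.card = 13 := by
    rw [hF, hM, Finset.card_filter_add_card_filter_not, Finset.card_univ, h13]
  have memF : ∀ a, a ∈ F ↔ z • a = a := fun a => by simp [hF]
  have memM : ∀ a, a ∈ M ↔ z • a ≠ a := fun a => by simp [hM]
  have hzM : ∀ a, a ∈ M → z • a ∈ M := fun a ha => by
    rw [memM] at ha ⊢
    exact fun h => ha (smul_left_cancel z h)
  have hzzM : ∀ a, a ∈ M → z • z • a ≠ a := fun a ha h => by
    rw [memM] at ha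
    apply ha
    have := congrArg (fun b => z • b) h
    simp only [hz3'] at this
    exact this.symm
  have hFM_ne : ∀ u v, u ∈ F → v ∈ M → v ≠ u := fun u v hu hv huv => by
    rw [memF] at hu; rw [memM] at hv; rw [huv] at hv; exact hv hu
  have hF5 : F.card ≤ 5 := by
    by_contra hgt
    push Not at hgt
    obtain ⟨e⟩ : Nonempty (Fin 6 ↪ F) :=
      Function.Embedding.nonempty_of_card_le (by
        rw [Fintype.card_fin, Fintype.card_coe]; omega)
    apply hz_ne
    exact h.eq_one (q := fun i => (e i : α)) (fun i j hij => e.injective (Subtype.ext hij))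
      (fun i => (memF _).mp (e i).2)
  have hF3 : 3 ≤ F.card := by
    have hsub : ({p4, p5, p6} : Finset α) ⊆ F := by
      intro a ha
      simp only [Finset.mem_insert, Finset.mem_singleton] at ha
      rcases ha with rfl | rfl | rfl
      · exact (memF _).mpr hz4
      · exact (memF _).mpr hz5
      · exact (memF _).mpr hz6
    have hc : ({p4, p5, p6} : Finset α).card = 3 := by
      rw [Finset.card_eq_three]
      exact ⟨p4, p5, p6, hne 3 4 (by decide), hne 3 5 (by decide), hne 4 5 (by decide), rfl⟩
    calc 3 = ({p4, p5, p6} : Finset α).card := hc.symm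
      _ ≤ F.card := Finset.card_le_card hsub
  have hmod : 13 % 3 = F.card % 3 := by
    have : Fact (Nat.Prime 3) := ⟨Nat.prime_three⟩
    have := card_fixed_modEq (α := α) (p := 3) z (by rw [pow_succ, pow_two]; exact hzzz)
    rw [h13] at this
    exact this
  have hF4 : F.card = 4 := by omega
  have hM9 : M.card = 9 := by omega
  have hp1M : p1 ∈ M := (memM _).mpr (by rw [hz1]; exact h12.symm)
  have hp2M : p2 ∈ M := (memM _).mpr (by rw [hz2]; exact h23.symm)
  have hp3M : p3 ∈ M := (memM _).mpr (by rw [hz3]; exact h13')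
  -- the centralizer
  set C : Subgroup Γ := Subgroup.centralizer ({z} : Set Γ) with hC
  have hCcomm : ∀ g ∈ C, ∀ a : α, z • g • a = g • z • a := fun g hg a => by
    have := Subgroup.mem_centralizer_singleton_iff.mp hg
    rw [← mul_smul, ← mul_smul, this]
  have orbit_inj : ∀ v ∈ M, Function.Injective ![v, z • v, z • z • v] := fun v hv =>
    injective_vec3 (Ne.symm ((memM _).mp hv)) (Ne.symm (hzzM v hv))
      (Ne.symm ((memM _).mp (hzM v hv)))
  -- first count: 9 * 24
  have hcount1 : Nat.card C = 216 := by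
    have hmaps1 : ∀ g : C, (g : Γ) • p1 ∈ M := by
      intro g
      rw [memM, hCcomm g g.2, hz1]
      exact fun h => h12 (smul_left_cancel _ h).symm
    have hmaps2 : ∀ g : C, ∀ i : Fin 3, (g : Γ) • ![p4, p5, p6] i ∈ F := by
      intro g i
      rw [memF, hCcomm g g.2]
      fin_cases i
      · change (g : Γ) • z • p4 = (g : Γ) • p4
        rw [hz4]
      · change (g : Γ) • z • p5 = (g : Γ) • p5
        rw [hz5]
      · change (g : Γ) • z • p6 = (g : Γ) • p6
        rw [hz6]
    have hinj456 : Function.Injective ![p4, p5, p6] :=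
      injective_vec3 (hne 3 4 (by decide)) (hne 3 5 (by decide)) (hne 4 5 (by decide))
    let f : C → ↥M × (Fin 3 ↪ ↥F) := fun g =>
      (⟨_, hmaps1 g⟩, ⟨fun i => ⟨_, hmaps2 g i⟩, fun i j hij =>
        hinj456 (smul_left_cancel (g : Γ) (congrArg Subtype.val hij))⟩)
    have hbij : Function.Bijective f := by
      constructor
      · intro g g' hgg'
        have h1 : (g : Γ) • p1 = (g' : Γ) • p1 :=
          congrArg (fun t : ↥M × (Fin 3 ↪ ↥F) => (t.1 : α)) hgg'
        have h456 : ∀ i : Fin 3, (g : Γ) • ![p4, p5, p6] i = (g' : Γ) • ![p4, p5, p6] i :=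
          fun i => congrArg (fun t : ↥M × (Fin 3 ↪ ↥F) => ((t.2 i : ↥F) : α)) hgg'
        have h2 : (g : Γ) • p2 = (g' : Γ) • p2 := by
          rw [← hz1, ← hCcomm g g.2, ← hCcomm g' g'.2, h1]
        have h3 : (g : Γ) • p3 = (g' : Γ) • p3 := by
          rw [← hz2, ← hCcomm g g.2, ← hCcomm g' g'.2, h2]
        apply Subtype.ext
        apply h.eq_of_smul_eq hinj0
        intro i
        fin_cases i
        · exact h1
        · exact h2
        · exact h3
        · exact h456 0
        · exact h456 1
        · exact h456 2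
      · rintro ⟨⟨v, hv⟩, ε⟩
        have hε : ∀ i, z • ((ε i : ↥F) : α) = ε i := fun i => (memF _).mp (ε i).2
        have hinj1 : Function.Injective
            ![v, z • v, z • z • v, ((ε 0 : ↥F) : α), ((ε 1 : ↥F) : α), ((ε 2 : ↥F) : α)] := by
          apply injective_vec6 (orbit_inj v hv)
          · have : (![((ε 0 : ↥F) : α), ((ε 1 : ↥F) : α), ((ε 2 : ↥F) : α)] : Fin 3 → α) =
                fun i => ((ε i : ↥F) : α) := by
              ext i
              fin_cases i <;> rfl
            rw [this]
            exact fun i j hij => ε.injective (Subtype.ext hij)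
          · intro i j
            have hi : ![v, z • v, z • z • v] i ∈ M := by
              fin_cases i
              · exact hv
              · exact hzM v hv
              · exact hzM _ (hzM v hv)
            have hj : ![((ε 0 : ↥F) : α), ((ε 1 : ↥F) : α), ((ε 2 : ↥F) : α)] j ∈ F := by
              fin_cases j
              · exact (ε 0).2
              · exact (ε 1).2
              · exact (ε 2).2
            exact hFM_ne _ _ hj hi
        obtain ⟨g, hg⟩ := h.exists_smul hinj0 hinj1
        have hg1 : g • p1 = v := hg 0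
        have hg2 : g • p2 = z • v := hg 1
        have hg3 : g • p3 = z • z • v := hg 2
        have hg4 : g • p4 = ε 0 := hg 3
        have hg5 : g • p5 = ε 1 := hg 4
        have hg6 : g • p6 = ε 2 := hg 5
        have hgC : g ∈ C := by
          rw [hC, Subgroup.mem_centralizer_singleton_iff]
          refine (h.commute_of_pattern hinj0 g z ?_).symm
          intro i
          fin_cases i
          · exact ⟨1, hz1, by change z • (g • p1) = g • p2; rw [hg1, hg2]⟩
          · exact ⟨2, hz2, by change z • (g • p2) = g • p3; rw [hg2, hg3]⟩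
          · exact ⟨0, hz3, by change z • (g • p3) = g • p1; rw [hg3, hg1, hz3']⟩
          · exact ⟨3, hz4, by change z • (g • p4) = g • p4; rw [hg4, hε]⟩
          · exact ⟨4, hz5, by change z • (g • p5) = g • p5; rw [hg5, hε]⟩
          · exact ⟨5, hz6, by change z • (g • p6) = g • p6; rw [hg6, hε]⟩
        refine ⟨⟨g, hgC⟩, ?_⟩
        apply Prod.ext
        · exact Subtype.ext hg1
        · ext i
          fin_cases i
          · exact hg4
          · exact hg5
          · exact hg6
    rw [Nat.card_congr (Equiv.ofBijective f hbij), Nat.card_prod, Nat.card_eq_fintype_card,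
      Nat.card_eq_fintype_card, Fintype.card_embedding_eq, Fintype.card_coe, Fintype.card_coe,
      Fintype.card_fin, hM9, hF4]
    rfl
  -- second count: 9 * 6
  obtain ⟨p7, hp7M, hp71, hp72, hp73⟩ : ∃ p7 ∈ M, p7 ≠ p1 ∧ p7 ≠ p2 ∧ p7 ≠ p3 := by
    by_contra hcon
    push Not at hcon
    have hsub : M ⊆ ({p1, p2, p3} : Finset α) := by
      intro a ha
      simp only [Finset.mem_insert, Finset.mem_singleton]
      by_cases ha1 : a = p1
      · exact Or.inl ha1
      · by_cases ha2 : a = p2
        · exact Or.inr (Or.inl ha2)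
        · exact Or.inr (Or.inr (hcon a ha ha1 ha2))
    have := Finset.card_le_card hsub
    have hc : ({p1, p2, p3} : Finset α).card ≤ 3 := Finset.card_le_three
    omega
  have cross : ∀ v w : α, w ≠ v → w ≠ z • v → w ≠ z • z • v →
      ∀ i j, ![v, z • v, z • z • v] i ≠ ![w, z • w, z • z • w] j := by
    intro v w h0 h1 h2 i j
    have e01 : v = z • w → False := fun e => h2 (by rw [e, hz3'])
    have e02 : v = z • z • w → False := fun e => h1 (by rw [e, hz3'])
    fin_cases i <;> fin_cases j
    · exact fun e => h0 e.symm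
    · exact fun e => e01 e
    · exact fun e => e02 e
    · exact fun e => h1 e.symm
    · exact fun e => h0 (smul_left_cancel z e).symm
    · exact fun e => e01 (smul_left_cancel z e)
    · exact fun e => h2 e.symm
    · exact fun e => h1 (smul_left_cancel z e).symm
    · exact fun e => h0 (smul_left_cancel z (smul_left_cancel z e)).symm
  set p8 := z • p7 with hp8
  set p9 := z • p8 with hp9
  have hz7 : z • p7 = p8 := rfl
  have hz8 : z • p8 = p9 := rfl
  have hz9 : z • p9 = p7 := hz3' p7
  have hinj2 : Function.Injective ![p1, p2, p3, p7, p8, p9] := by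
    have h1 : ![p1, z • p1, z • z • p1] = ![p1, p2, p3] := by rw [hz1, hz2]
    have := injective_vec6 (orbit_inj p1 hp1M) (orbit_inj p7 hp7M)
      (cross p1 p7 hp71 (by rw [hz1]; exact hp72) (by rw [hz1, hz2]; exact hp73))
    rw [hz1, hz2] at this
    exact this
  set T2 : Finset (α × α) := (M.offDiag \ M.image (fun v => (v, z • v))) \
    M.image (fun v => (v, z • z • v)) with hT2
  have memT2 : ∀ v w, (v, w) ∈ T2 ↔ v ∈ M ∧ w ∈ M ∧ w ≠ v ∧ w ≠ z • v ∧ w ≠ z • z • v := by
    intro v w
    rw [hT2, Finset.mem_sdiff, Finset.mem_sdiff, Finset.mem_offDiag, Finset.mem_image,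
      Finset.mem_image]
    constructor
    · rintro ⟨⟨⟨hv, hw, hvw⟩, hni1⟩, hni2⟩
      refine ⟨hv, hw, Ne.symm hvw, fun hw' => hni1 ⟨v, hv, by rw [hw']⟩,
        fun hw' => hni2 ⟨v, hv, by rw [hw']⟩⟩
    · rintro ⟨hv, hw, hvw, hw1, hw2⟩
      refine ⟨⟨⟨hv, hw, Ne.symm hvw⟩, ?_⟩, ?_⟩
      · rintro ⟨v', -, hv'⟩
        have h1 := (Prod.mk.inj hv').1
        have h2 := (Prod.mk.inj hv').2
        rw [h1] at h2
        exact hw1 h2.symm
      · rintro ⟨v', -, hv'⟩
        have h1 := (Prod.mk.inj hv').1
        have h2 := (Prod.mk.inj hv').2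
        rw [h1] at h2
        exact hw2 h2.symm
  have hT2card : T2.card = 54 := by
    have hA : (M.image (fun v => (v, z • v))).card = 9 := by
      rw [Finset.card_image_of_injective _ (fun a b hab => (Prod.mk.inj hab).1), hM9]
    have hB : (M.image (fun v => (v, z • z • v))).card = 9 := by
      rw [Finset.card_image_of_injective _ (fun a b hab => (Prod.mk.inj hab).1), hM9]
    have hAsub : M.image (fun v => (v, z • v)) ⊆ M.offDiag := by
      intro t ht
      rw [Finset.mem_image] at ht
      obtain ⟨v, hv, rfl⟩ := ht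
      rw [Finset.mem_offDiag]
      exact ⟨hv, hzM v hv, Ne.symm ((memM _).mp hv)⟩
    have hBsub : M.image (fun v => (v, z • z • v)) ⊆
        M.offDiag \ M.image (fun v => (v, z • v)) := by
      intro t ht
      rw [Finset.mem_image] at ht
      obtain ⟨v, hv, rfl⟩ := ht
      rw [Finset.mem_sdiff, Finset.mem_offDiag, Finset.mem_image]
      refine ⟨⟨hv, hzM _ (hzM v hv), Ne.symm (hzzM v hv)⟩, ?_⟩
      rintro ⟨v', -, hv'⟩
      have h1 := (Prod.mk.inj hv').1
      have h2 := (Prod.mk.inj hv').2
      rw [h1] at h2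
      exact (memM _).mp (hzM v hv) h2.symm
    rw [hT2, Finset.card_sdiff_of_subset hBsub, Finset.card_sdiff_of_subset hAsub,
      Finset.offDiag_card, hA, hB, hM9]
  have hcount2 : Nat.card C = 54 := by
    have hmaps : ∀ g : C, ((g : Γ) • p1, (g : Γ) • p7) ∈ T2 := by
      intro g
      rw [memT2]
      refine ⟨?_, ?_, ?_, ?_, ?_⟩
      · rw [memM, hCcomm g g.2, hz1]
        exact fun h => h12 (smul_left_cancel _ h).symm
      · rw [memM, hCcomm g g.2]
        exact fun h => (memM _).mp hp7M (smul_left_cancel _ h)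
      · exact fun h => hp71 (smul_left_cancel _ h)
      · rw [hCcomm g g.2, hz1]
        exact fun h => hp72 (smul_left_cancel _ h)
      · rw [hCcomm g g.2, hCcomm g g.2, hz1, hz2]
        exact fun h => hp73 (smul_left_cancel _ h)
    let f : C → ↥T2 := fun g => ⟨_, hmaps g⟩
    have hbij : Function.Bijective f := by
      constructor
      · intro g g' hgg'
        have h1 : (g : Γ) • p1 = (g' : Γ) • p1 := congrArg (fun t : ↥T2 => t.1.1) hgg'
        have h7 : (g : Γ) • p7 = (g' : Γ) • p7 := congrArg (fun t : ↥T2 => t.1.2) hgg'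
        have h2 : (g : Γ) • p2 = (g' : Γ) • p2 := by
          rw [← hz1, ← hCcomm g g.2, ← hCcomm g' g'.2, h1]
        have h3 : (g : Γ) • p3 = (g' : Γ) • p3 := by
          rw [← hz2, ← hCcomm g g.2, ← hCcomm g' g'.2, h2]
        have h8 : (g : Γ) • p8 = (g' : Γ) • p8 := by
          rw [← hz7, ← hCcomm g g.2, ← hCcomm g' g'.2, h7]
        have h9 : (g : Γ) • p9 = (g' : Γ) • p9 := by
          rw [← hz8, ← hCcomm g g.2, ← hCcomm g' g'.2, h8]
        apply Subtype.ext
        apply h.eq_of_smul_eq hinj2
        intro i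
        fin_cases i
        · exact h1
        · exact h2
        · exact h3
        · exact h7
        · exact h8
        · exact h9
      · rintro ⟨⟨v, w⟩, ht⟩
        rw [memT2] at ht
        obtain ⟨hv, hw, hw0, hw1, hw2⟩ := ht
        have hinj3 : Function.Injective ![v, z • v, z • z • v, w, z • w, z • z • w] :=
          injective_vec6 (orbit_inj v hv) (orbit_inj w hw) (cross v w hw0 hw1 hw2)
        obtain ⟨g, hg⟩ := h.exists_smul hinj2 hinj3
        have hg1 : g • p1 = v := hg 0
        have hg2 : g • p2 = z • v := hg 1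
        have hg3 : g • p3 = z • z • v := hg 2
        have hg7 : g • p7 = w := hg 3
        have hg8 : g • p8 = z • w := hg 4
        have hg9 : g • p9 = z • z • w := hg 5
        have hgC : g ∈ C := by
          rw [hC, Subgroup.mem_centralizer_singleton_iff]
          refine (h.commute_of_pattern hinj2 g z ?_).symm
          intro i
          fin_cases i
          · exact ⟨1, hz1, by change z • (g • p1) = g • p2; rw [hg1, hg2]⟩
          · exact ⟨2, hz2, by change z • (g • p2) = g • p3; rw [hg2, hg3]⟩
          · exact ⟨0, hz3, by change z • (g • p3) = g • p1; rw [hg3, hg1, hz3']⟩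
          · exact ⟨4, hz7, by change z • (g • p7) = g • p8; rw [hg7, hg8]⟩
          · exact ⟨5, hz8, by change z • (g • p8) = g • p9; rw [hg8, hg9]⟩
          · exact ⟨3, hz9, by change z • (g • p9) = g • p7; rw [hg9, hg7, hz3']⟩
        refine ⟨⟨g, hgC⟩, ?_⟩
        apply Subtype.ext
        simp only [f]
        rw [hg1, hg7]
    rw [Nat.card_congr (Equiv.ofBijective f hbij), Nat.card_eq_fintype_card, Fintype.card_coe,
      hT2card]
  omega

universe u v

/-- Jordan: for `k ≥ 6` a sharply `k`-transitive group has degree `k`, `k+1` or `k+2`. -/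
theorem natCard_of_sharp_ge6 (k : ℕ) (hk : 6 ≤ k) :
    ∀ (Γ : Type u) (α : Type v) [Group Γ] [MulAction Γ α] [Finite α], SharpK Γ α k →
      k ≤ Nat.card α → Nat.card α = k ∨ Nat.card α = k + 1 ∨ Nat.card α = k + 2 := by
  induction k, hk using Nat.le_induction with
  | base =>
    intro Γ α _ _ _ h hn
    classical
    have := Fintype.ofFinite α
    have hne : Nonempty α := by
      rw [← Finite.card_pos_iff]; omega
    obtain ⟨a⟩ := hne
    have hs := h.stabilizer hn a
    have hfin : Fintype (SubMulAction.ofStabilizer Γ a) := Fintype.ofFinite _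
    have hΩ : Nat.card (SubMulAction.ofStabilizer Γ a) + 1 = Nat.card α :=
      SubMulAction.nat_card_ofStabilizer_add_one_eq Γ a
    have h5 := card_of_sharp5 hs (by rw [← Nat.card_eq_fintype_card]; omega)
    rw [← Nat.card_eq_fintype_card] at h5
    have h13 := not_sharp6_13 h
    rw [← Nat.card_eq_fintype_card] at h13
    omega
  | succ k hk ih =>
    intro Γ α _ _ _ h hn
    have hne : Nonempty α := by
      rw [← Finite.card_pos_iff]; omega
    obtain ⟨a⟩ := hne
    have hs := h.stabilizer hn a
    have hΩ : Nat.card (SubMulAction.ofStabilizer Γ a) + 1 = Nat.card α :=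
      SubMulAction.nat_card_ofStabilizer_add_one_eq Γ a
    have := ih (stabilizer Γ a) (SubMulAction.ofStabilizer Γ a) hs (by omega)
    omega

end Cfsg.Agent.Lib.Helper21_Jordan
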