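import Mathlib
import Cfsg.Agent.Lib.Helper53_M11Defs
import Cfsg.Agent.S0215
import Cfsg.Agent.S0739

/-!
# M11 cluster, package T3b (helper21): every involution centralizer of a simple group of order
`7920` has order `48` (given the Sylow 3 facts)
-/

set_option autoImplicit false

namespace Cfsg.Agent.Lib.Helper21_M11_T3b

open Cfsg.Agent.Lib.Helper53_M11Defs

/-! ### general lemmas -/

theorem fact_of_eq {n p k m : ℕ} (hp : p.Prime) (h : n = p ^ k * m) (hm : ¬ p ∣ m) :
    n.factorization p = k := by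
  have hm0 : m ≠ 0 := by
    rintro rfl
    exact hm (dvd_zero p)
  rw [h, Nat.factorization_mul (pow_ne_zero _ hp.ne_zero) hm0, Nat.Prime.factorization_pow hp]
  simp [Nat.factorization_eq_zero_of_not_dvd hm]

section

variable {G : Type*} [Group G]

theorem card_centralizer_conj (g a : G) :
    Nat.card (Subgroup.centralizer ({g * a * g⁻¹} : Set G)) =
      Nat.card (Subgroup.centralizer ({a} : Set G)) := by
  refine Nat.card_congr
    { toFun := fun x => ⟨g⁻¹ * x * g, ?_⟩
      invFun := fun x => ⟨g * x * g⁻¹, ?_⟩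
      left_inv := ?_
      right_inv := ?_ }
  · have hx := Subgroup.mem_centralizer_singleton_iff.mp x.2
    rw [Subgroup.mem_centralizer_singleton_iff]
    have e1 : g⁻¹ * ↑x * g * a = g⁻¹ * (↑x * (g * a * g⁻¹)) * g := by group
    have e2 : a * (g⁻¹ * ↑x * g) = g⁻¹ * ((g * a * g⁻¹) * ↑x) * g := by group
    rw [e1, e2, hx]
  · have hx := Subgroup.mem_centralizer_singleton_iff.mp x.2
    rw [Subgroup.mem_centralizer_singleton_iff]
    have e1 : g * ↑x * g⁻¹ * (g * a * g⁻¹) = g * (↑x * a) * g⁻¹ := by group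
    have e2 : g * a * g⁻¹ * (g * ↑x * g⁻¹) = g * (a * ↑x) * g⁻¹ := by group
    rw [e1, e2, hx]
  · intro x
    apply Subtype.ext
    show g * (g⁻¹ * ↑x * g) * g⁻¹ = ↑x
    group
  · intro x
    apply Subtype.ext
    show g⁻¹ * (g * ↑x * g⁻¹) * g = ↑x
    group

theorem card_centralizer_of_isConj {a b : G} (h : IsConj a b) :
    Nat.card (Subgroup.centralizer ({a} : Set G)) =
      Nat.card (Subgroup.centralizer ({b} : Set G)) := by
  obtain ⟨g, hg⟩ := isConj_iff.mp h
  rw [← hg, card_centralizer_conj]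

theorem orderOf_conj' (g a : G) : orderOf (g * a * g⁻¹) = orderOf a := by
  have := orderOf_injective (MulAut.conj g).toMonoidHom (MulAut.conj g).injective a
  simpa [MulAut.conj_apply] using this

/-- in a group of order `2 * odd` any two involutions are conjugate -/
theorem isConj_of_card_two_mul_odd {C : Type*} [Group C] [Finite C] {m : ℕ}
    (hC : Nat.card C = 2 * m) (hm : Odd m) (a b : C) (ha : orderOf a = 2) (hb : orderOf b = 2) :
    IsConj a b := by
  haveI : Fact (Nat.Prime 2) := ⟨Nat.prime_two⟩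
  have hfac : (Nat.card C).factorization 2 = 1 := by
    apply fact_of_eq Nat.prime_two (m := m) (by rw [hC]; ring)
    intro h2
    exact (Nat.not_even_iff_odd.mpr hm) (even_iff_two_dvd.mpr h2)
  have hcard : ∀ c : C, orderOf c = 2 →
      Nat.card (Subgroup.zpowers c) = 2 ^ (Nat.card C).factorization 2 := by
    intro c hc
    rw [Nat.card_zpowers, hc, hfac, pow_one]
  let Qa : Sylow 2 C := Sylow.ofCard (Subgroup.zpowers a) (hcard a ha)
  let Qb : Sylow 2 C := Sylow.ofCard (Subgroup.zpowers b) (hcard b hb)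
  obtain ⟨c, hc⟩ := MulAction.exists_smul_eq C Qa Qb
  have hmem : c * a * c⁻¹ ∈ (Qb : Subgroup C) := by
    rw [← hc, Sylow.coe_subgroup_smul]
    have h2 := Subgroup.smul_mem_pointwise_smul a (MulAut.conj c) (Qa : Subgroup C)
      (Subgroup.mem_zpowers a)
    rwa [MulAut.smul_def, MulAut.conj_apply] at h2
  have hmem' : c * a * c⁻¹ ∈ Subgroup.zpowers b := hmem
  rw [Subgroup.mem_zpowers_iff] at hmem'
  obtain ⟨k, hk⟩ := hmem'
  have hb2 : b ^ (2 : ℤ) = 1 := by
    have := pow_orderOf_eq_one b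
    rw [hb] at this
    exact_mod_cast this
  rw [isConj_iff]
  refine ⟨c, ?_⟩
  rw [← hk]
  rcases Int.emod_two_eq_zero_or_one k with h0 | h1
  · exfalso
    have : b ^ k = 1 := by
      have : k = 2 * (k / 2) := by omega
      rw [this, zpow_mul, hb2, one_zpow]
    rw [this] at hk
    have h3 : c * a * c⁻¹ = 1 := hk.symm
    have h4 : a = 1 := by
      have : a = c⁻¹ * (c * a * c⁻¹) * c := by group
      rw [this, h3]; group
    rw [h4, orderOf_one] at ha
    omega
  · have : k = 2 * (k / 2) + 1 := by omega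
    rw [this, zpow_add, zpow_mul, hb2, one_zpow, one_mul, zpow_one]

end

theorem fact2 : (7920 : ℕ).factorization 2 = 4 :=
  fact_of_eq Nat.prime_two (m := 495) (by norm_num) (by norm_num)

theorem fact3 : (7920 : ℕ).factorization 3 = 2 :=
  fact_of_eq Nat.prime_three (m := 880) (by norm_num) (by norm_num)

theorem fact5 : (7920 : ℕ).factorization 5 = 1 :=
  fact_of_eq (by norm_num) (m := 1584) (by norm_num) (by norm_num)

theorem fact11 : (7920 : ℕ).factorization 11 = 1 :=
  fact_of_eq (by norm_num) (m := 720) (by norm_num) (by norm_num)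

theorem fact144 : (144 : ℕ).factorization 2 = 4 :=
  fact_of_eq Nat.prime_two (m := 9) (by norm_num) (by norm_num)

section Main

variable {G : Type*} [Group G] [Finite G]

/-- an element of prime order `p` with `p ∥ |G|` whose Sylow subgroups are self-centralizing
commutes with no involution -/
theorem not_dvd_card_centralizer (h : M11Facts G) (w : G) (hw : orderOf w = 2) (p : ℕ)
    (hp : p.Prime) (hfac : (7920 : ℕ).factorization p = 1)
    (hcent : ∀ P : Sylow p G,
      Subgroup.centralizer ((P : Subgroup G) : Set G) = (P : Subgroup G)) (hp2 : p ≠ 2) :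
    ¬ p ∣ Nat.card (Subgroup.centralizer ({w} : Set G)) := by
  intro hpC
  haveI : Fact p.Prime := ⟨hp⟩
  obtain ⟨g, hg⟩ := exists_prime_orderOf_dvd_card' p hpC
  have hgG : orderOf (g : G) = p := by rw [Subgroup.orderOf_coe]; exact hg
  have hcard : Nat.card (Subgroup.zpowers (g : G)) = p ^ (Nat.card G).factorization p := by
    rw [Nat.card_zpowers, hgG, h.card, hfac, pow_one]
  let P : Sylow p G := Sylow.ofCard (Subgroup.zpowers (g : G)) hcard
  have hgw : (g : G) * w = w * (g : G) := Subgroup.mem_centralizer_singleton_iff.mp g.2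
  have hwP : w ∈ Subgroup.centralizer ((P : Subgroup G) : Set G) := by
    rw [Subgroup.mem_centralizer_iff]
    intro a ha
    have ha' : a ∈ Subgroup.zpowers (g : G) := ha
    obtain ⟨k, rfl⟩ := Subgroup.mem_zpowers_iff.mp ha'
    exact ((Commute.zpow_left (show Commute (g : G) w from hgw) k)).eq
  rw [hcent P] at hwP
  have hwP' : w ∈ Subgroup.zpowers (g : G) := hwP
  have hdvd : orderOf w ∣ p := by
    have := orderOf_dvd_natCard (⟨w, hwP'⟩ : Subgroup.zpowers (g : G))
    rwa [Subgroup.orderOf_mk, Nat.card_zpowers, hgG] at this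
  rw [hw] at hdvd
  exact hp2 ((Nat.prime_dvd_prime_iff_eq Nat.prime_two hp).mp hdvd).symm

theorem card_centralizer_dvd (h : M11Facts G) (w : G) (hw : orderOf w = 2) :
    Nat.card (Subgroup.centralizer ({w} : Set G)) ∣ 144 := by
  have hdvd : Nat.card (Subgroup.centralizer ({w} : Set G)) ∣ 144 * 55 := by
    have := Subgroup.card_subgroup_dvd_card (Subgroup.centralizer ({w} : Set G))
    rwa [h.card] at this
  have h5 := not_dvd_card_centralizer h w hw 5 (by norm_num) fact5 (fun P => (h.s5 P).2)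
    (by norm_num)
  have h11 := not_dvd_card_centralizer h w hw 11 (by norm_num) fact11 (fun P => (h.s11 P).2)
    (by norm_num)
  have hcop : Nat.Coprime (Nat.card (Subgroup.centralizer ({w} : Set G))) 55 := by
    have e : (55 : ℕ) = 5 * 11 := by norm_num
    rw [e]
    apply Nat.Coprime.mul_right
    · exact (Nat.Coprime.symm ((Nat.Prime.coprime_iff_not_dvd (by norm_num)).mpr h5))
    · exact (Nat.Coprime.symm ((Nat.Prime.coprime_iff_not_dvd (by norm_num)).mpr h11))
  exact hcop.dvd_of_dvd_mul_right hdvd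

theorem T3b (h : M11Facts G)
    (h3 : (∀ y y' : G, orderOf y = 3 → orderOf y' = 3 → IsConj y y') ∧
      (∀ y : G, orderOf y = 3 → Nat.card (Subgroup.centralizer ({y} : Set G)) = 18) ∧
      (∀ g : G, orderOf g ≠ 9))
    (hN3 : ∀ P : Sylow 3 G, Nat.card (Subgroup.normalizer ((P : Subgroup G) : Set G)) = 144)
    (h3a : ∀ (P : Sylow 3 G) (q : G), orderOf q = 2 →
      q ∉ Subgroup.centralizer ((P : Subgroup G) : Set G))
    (x : G) (hx : orderOf x = 2) :
    Nat.card (Subgroup.centralizer ({x} : Set G)) = 48 := by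
  haveI : Fact (Nat.Prime 2) := ⟨Nat.prime_two⟩
  haveI : Fact (Nat.Prime 3) := ⟨Nat.prime_three⟩
  obtain ⟨h31, h32, h33⟩ := h3
  -- a Sylow 3-subgroup
  obtain ⟨P⟩ : Nonempty (Sylow 3 G) := inferInstance
  have hPcard : Nat.card (P : Subgroup G) = 9 := by
    rw [P.card_eq_multiplicity, h.card, fact3]; norm_num
  have hP3 : ∀ y ∈ (P : Subgroup G), y ≠ 1 → orderOf y = 3 := by
    intro y hy hy1
    have hd : orderOf y ∣ 9 := by
      have := orderOf_dvd_natCard (⟨y, hy⟩ : (P : Subgroup G))
      rwa [Subgroup.orderOf_mk, hPcard] at this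
    have hmem : orderOf y ∈ Nat.divisors 9 := Nat.mem_divisors.mpr ⟨hd, by norm_num⟩
    have hdiv : Nat.divisors 9 = {1, 3, 9} := by decide
    rw [hdiv] at hmem
    simp only [Finset.mem_insert, Finset.mem_singleton] at hmem
    rcases hmem with h1 | h1 | h1
    · exact absurd (orderOf_eq_one_iff.mp h1) hy1
    · exact h1
    · exact absurd h1 (h33 y)
  obtain ⟨y, hy, hy1⟩ : ∃ y ∈ (P : Subgroup G), y ≠ 1 := by
    have hne : (P : Subgroup G) ≠ ⊥ := by
      intro hbot
      rw [hbot, Subgroup.card_bot] at hPcard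
      omega
    obtain ⟨a, ha⟩ := (Subgroup.ne_bot_iff_exists_ne_one).mp hne
    exact ⟨a, a.2, fun h1 => ha (Subtype.ext h1)⟩
  have hy3 : orderOf y = 3 := hP3 y hy hy1
  have hCy : Nat.card (Subgroup.centralizer ({y} : Set G)) = 18 := h32 y hy3
  obtain ⟨w', hw'⟩ := exists_prime_orderOf_dvd_card' (G := ↥(Subgroup.centralizer ({y} : Set G))) 2
    (by rw [hCy]; norm_num)
  have hw : orderOf (w' : G) = 2 := by rw [Subgroup.orderOf_coe]; exact hw'
  have hwy : (w' : G) * y = y * (w' : G) := Subgroup.mem_centralizer_singleton_iff.mp w'.2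
  -- claim A
  have hA : ∀ j y' : G, orderOf j = 2 → orderOf y' = 3 → j * y' = y' * j → IsConj j (w' : G) := by
    intro j y' hj hy' hjy'
    obtain ⟨g, hg⟩ := isConj_iff.mp (h31 y' y hy' hy3)
    have hj'mem : g * j * g⁻¹ ∈ Subgroup.centralizer ({y} : Set G) := by
      rw [Subgroup.mem_centralizer_singleton_iff, ← hg]
      calc g * j * g⁻¹ * (g * y' * g⁻¹) = g * (j * y') * g⁻¹ := by group
        _ = g * (y' * j) * g⁻¹ := by rw [hjy']
        _ = g * y' * g⁻¹ * (g * j * g⁻¹) := by group
    have hord : orderOf (⟨g * j * g⁻¹, hj'mem⟩ : ↥(Subgroup.centralizer ({y} : Set G))) = 2 := by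
      rw [Subgroup.orderOf_mk, orderOf_conj', hj]
    have hconj := isConj_of_card_two_mul_odd (C := ↥(Subgroup.centralizer ({y} : Set G))) (m := 9)
      (by rw [hCy]) ⟨4, by norm_num⟩ ⟨g * j * g⁻¹, hj'mem⟩ w' hord hw'
    obtain ⟨c, hc⟩ := isConj_iff.mp hconj
    rw [isConj_iff]
    refine ⟨(c : G) * g, ?_⟩
    have h1 := congrArg Subtype.val hc
    simp only [Subgroup.coe_mul, Subgroup.coe_inv] at h1
    rw [← h1]
    group
  -- a Sylow 2-subgroup of `G` inside `N(P)`
  have hNcard : Nat.card (Subgroup.normalizer ((P : Subgroup G) : Set G)) = 144 := hN3 P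
  obtain ⟨S₀⟩ : Nonempty (Sylow 2 ↥(Subgroup.normalizer ((P : Subgroup G) : Set G))) := inferInstance
  have hS₀ : Nat.card (S₀ : Subgroup ↥(Subgroup.normalizer ((P : Subgroup G) : Set G))) = 16 := by
    rw [S₀.card_eq_multiplicity, hNcard, fact144]; norm_num
  have hS₁N : (S₀ : Subgroup ↥(Subgroup.normalizer ((P : Subgroup G) : Set G))).map
      (Subgroup.normalizer ((P : Subgroup G) : Set G)).subtype ≤
      Subgroup.normalizer ((P : Subgroup G) : Set G) := by
    rintro a ⟨b, _, rfl⟩
    exact b.2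
  have hS₁card16 : Nat.card ((S₀ : Subgroup ↥(Subgroup.normalizer ((P : Subgroup G) : Set G))).map
      (Subgroup.normalizer ((P : Subgroup G) : Set G)).subtype) = 16 := by
    rw [← hS₀]
    exact Subgroup.card_map_of_injective (Subgroup.subtype_injective _)
  have hS₁card : Nat.card ((S₀ : Subgroup ↥(Subgroup.normalizer ((P : Subgroup G) : Set G))).map
      (Subgroup.normalizer ((P : Subgroup G) : Set G)).subtype) =
      2 ^ (Nat.card G).factorization 2 := by
    rw [hS₁card16, h.card, fact2]; norm_num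
  let S : Sylow 2 G := Sylow.ofCard _ hS₁card
  have hSN : (S : Subgroup G) ≤ Subgroup.normalizer ((P : Subgroup G) : Set G) := hS₁N
  have hScard : Nat.card (S : Subgroup G) = 16 := hS₁card16
  -- no non-identity element of `S` centralizes `P`
  have hSC : ∀ s ∈ (S : Subgroup G), (∀ a ∈ (P : Subgroup G), s * a = a * s) → s = 1 := by
    intro s hs hsP
    by_contra hs1
    have hd : orderOf s ∣ 2 ^ 4 := by
      have := orderOf_dvd_natCard (⟨s, hs⟩ : (S : Subgroup G))
      rw [Subgroup.orderOf_mk, hScard] at this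
      exact this
    obtain ⟨l, _, hl⟩ := (Nat.dvd_prime_pow Nat.prime_two).mp hd
    have hl0 : l ≠ 0 := by
      rintro rfl
      rw [pow_zero] at hl
      exact hs1 (orderOf_eq_one_iff.mp hl)
    have h2 : 2 ∣ Nat.card (Subgroup.zpowers s) := by
      rw [Nat.card_zpowers, hl]
      exact dvd_pow_self 2 hl0
    obtain ⟨q', hq'⟩ := exists_prime_orderOf_dvd_card' (G := ↥(Subgroup.zpowers s)) 2 h2
    have hq : orderOf (q' : G) = 2 := by rw [Subgroup.orderOf_coe]; exact hq'
    apply h3a P (q' : G) hq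
    rw [Subgroup.mem_centralizer_iff]
    intro a ha
    obtain ⟨k, hk⟩ := Subgroup.mem_zpowers_iff.mp q'.2
    rw [← hk]
    exact ((Commute.zpow_left (show Commute s a from hsP a ha) k)).eq.symm
  -- claim B: every involution of `S` is conjugate to `w`
  have hB : ∀ j ∈ (S : Subgroup G), orderOf j = 2 → IsConj j (w' : G) := by
    intro j hjS hj
    by_contra hnot
    have hinvOf : ∀ j' ∈ (S : Subgroup G), orderOf j' = 2 → ¬ IsConj j' (w' : G) →
        ∀ a ∈ (P : Subgroup G), j' * a * j'⁻¹ = a⁻¹ := by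
      intro j' hj'S hj' hnot'
      have hfpf : ∀ a ∈ (P : Subgroup G), j' * a = a * j' → a = 1 := by
        intro a ha hja
        by_contra ha1
        exact hnot' (hA j' a hj' (hP3 a ha ha1) hja)
      have hjj : j' * j' = 1 := by rw [← sq, ← hj', pow_orderOf_eq_one]
      have hnorm : ∀ a ∈ (P : Subgroup G), j' * a * j'⁻¹ ∈ (P : Subgroup G) :=
        fun a ha => (Subgroup.mem_normalizer_iff.mp (hSN hj'S) a).mp ha
      exact Cfsg.Agent.S0739.inverts_of_fpf (P : Subgroup G) j' hjj hnorm hfpf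
    have hinv := hinvOf j hjS hj hnot
    have hiso : ∀ g : G, g * j * g⁻¹ ∈ S → g * j * g⁻¹ = j := by
      intro g hgS
      have hj' : orderOf (g * j * g⁻¹) = 2 := by rw [orderOf_conj', hj]
      have hnot' : ¬ IsConj (g * j * g⁻¹) (w' : G) :=
        fun hc => hnot ((isConj_iff.mpr ⟨g, rfl⟩ : IsConj j (g * j * g⁻¹)).trans hc)
      have hinv' := hinvOf (g * j * g⁻¹) hgS hj' hnot'
      have h1 : j * (g * j * g⁻¹) = 1 := by
        apply hSC _ (mul_mem hjS hgS)
        intro a ha
        have e1 := hinv' a ha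
        have e2 := hinv a⁻¹ (inv_mem ha)
        rw [inv_inv] at e2
        have e3 : j * (g * j * g⁻¹) * a * (j * (g * j * g⁻¹))⁻¹ = a := by
          have : j * (g * j * g⁻¹) * a * (j * (g * j * g⁻¹))⁻¹ =
              j * ((g * j * g⁻¹) * a * (g * j * g⁻¹)⁻¹) * j⁻¹ := by group
          rw [this, e1, e2]
        calc j * (g * j * g⁻¹) * a
            = (j * (g * j * g⁻¹) * a * (j * (g * j * g⁻¹))⁻¹) * (j * (g * j * g⁻¹)) := by group
          _ = a * (j * (g * j * g⁻¹)) := by rw [e3]
      have hjj : j * j = 1 := by rw [← sq, ← hj, pow_orderOf_eq_one]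
      calc g * j * g⁻¹ = (j * j) * (g * j * g⁻¹) := by rw [hjj, one_mul]
        _ = j * (j * (g * j * g⁻¹)) := by group
        _ = j := by rw [h1, mul_one]
    obtain ⟨N', hN'normal, hN'odd, hN'comm⟩ := Cfsg.Agent.S0215.result S j hj hjS hiso
    haveI := h.simple
    rcases hN'normal.eq_bot_or_eq_top with hbot | htop
    · apply h3a P j hj
      rw [Subgroup.mem_centralizer_iff]
      intro a _
      have h1 := hN'comm a
      rw [hbot, Subgroup.mem_bot] at h1
      calc a * j = (j * a * j⁻¹ * a⁻¹)⁻¹ * (j * a) := by group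
        _ = j * a := by rw [h1, inv_one, one_mul]
    · rw [htop, Subgroup.card_top, h.card] at hN'odd
      exact absurd hN'odd (by decide)
  -- `x` is conjugate to `w`
  have hxw : IsConj x (w' : G) := by
    have hzP : IsPGroup 2 (Subgroup.zpowers x) := by
      rw [IsPGroup.iff_card, Nat.card_zpowers, hx]
      exact ⟨1, (pow_one 2).symm⟩
    obtain ⟨Q, hQ⟩ := hzP.exists_le_sylow
    obtain ⟨g, hg⟩ := MulAction.exists_smul_eq G Q S
    have hxQ : x ∈ (Q : Subgroup G) := hQ (Subgroup.mem_zpowers x)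
    have hgx : g * x * g⁻¹ ∈ (S : Subgroup G) := by
      rw [← hg, Sylow.coe_subgroup_smul]
      have h2 := Subgroup.smul_mem_pointwise_smul x (MulAut.conj g) (Q : Subgroup G) hxQ
      rwa [MulAut.smul_def, MulAut.conj_apply] at h2
    have := hB (g * x * g⁻¹) hgx (by rw [orderOf_conj', hx])
    exact (isConj_iff.mpr ⟨g, rfl⟩ : IsConj x (g * x * g⁻¹)).trans this
  rw [card_centralizer_of_isConj hxw]
  -- the order of `C(w)`
  have hd144 := card_centralizer_dvd h (w' : G) hw
  have h16 : 16 ∣ Nat.card (Subgroup.centralizer ({(w' : G)} : Set G)) := by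
    haveI : Nontrivial ↥(S : Subgroup G) := by
      rw [← Finite.one_lt_card_iff_nontrivial, hScard]; norm_num
    have hcen := IsPGroup.center_nontrivial S.isPGroup'
    obtain ⟨n, hn0, hn⟩ := (IsPGroup.nontrivial_iff_card
      (S.isPGroup'.to_subgroup (Subgroup.center ↥(S : Subgroup G)))).mp hcen
    obtain ⟨z', hz'⟩ := exists_prime_orderOf_dvd_card'
      (G := ↥(Subgroup.center ↥(S : Subgroup G))) 2 (by rw [hn]; exact dvd_pow_self 2 hn0.ne')
    have hz : orderOf (((z' : ↥(S : Subgroup G)) : G)) = 2 := by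
      rw [Subgroup.orderOf_coe, Subgroup.orderOf_coe]; exact hz'
    have hzS : ((z' : ↥(S : Subgroup G)) : G) ∈ (S : Subgroup G) := (z' : ↥(S : Subgroup G)).2
    have hconj := hB _ hzS hz
    rw [← card_centralizer_of_isConj hconj, ← hScard]
    apply Subgroup.card_dvd_of_le
    intro s hs
    rw [Subgroup.mem_centralizer_singleton_iff]
    have := Subgroup.mem_center_iff.mp z'.2 ⟨s, hs⟩
    exact (congrArg Subtype.val this)
  have h3d : 3 ∣ Nat.card (Subgroup.centralizer ({(w' : G)} : Set G)) := by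
    have hyC : y ∈ Subgroup.centralizer ({(w' : G)} : Set G) := by
      rw [Subgroup.mem_centralizer_singleton_iff]
      exact hwy.symm
    have := orderOf_dvd_natCard (⟨y, hyC⟩ : Subgroup.centralizer ({(w' : G)} : Set G))
    rwa [Subgroup.orderOf_mk, hy3] at this
  have h9 : ¬ 9 ∣ Nat.card (Subgroup.centralizer ({(w' : G)} : Set G)) := by
    intro h9
    obtain ⟨K, hK⟩ := Sylow.exists_subgroup_card_pow_prime 3 (n := 2)
      (G := ↥(Subgroup.centralizer ({(w' : G)} : Set G))) (by norm_num; exact h9)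
    have hK'card : Nat.card (K.map (Subgroup.centralizer ({(w' : G)} : Set G)).subtype) =
        3 ^ (Nat.card G).factorization 3 := by
      rw [h.card, fact3, ← hK]
      exact Subgroup.card_map_of_injective (Subgroup.subtype_injective _)
    let P' : Sylow 3 G := Sylow.ofCard _ hK'card
    apply h3a P' (w' : G) hw
    rw [Subgroup.mem_centralizer_iff]
    rintro a ⟨b, _, rfl⟩
    exact Subgroup.mem_centralizer_singleton_iff.mp b.2
  have h48 : 48 ∣ Nat.card (Subgroup.centralizer ({(w' : G)} : Set G)) := by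
    have : (48 : ℕ) = 16 * 3 := by norm_num
    rw [this]
    exact Nat.Coprime.mul_dvd_of_dvd_of_dvd (by norm_num) h16 h3d
  obtain ⟨k, hk⟩ := h48
  rw [hk] at hd144 h9 ⊢
  have hk3 : k ∣ 3 := by
    have : 48 * k ∣ 48 * 3 := by norm_num; exact hd144
    exact Nat.dvd_of_mul_dvd_mul_left (by norm_num) this
  have hk' : k = 1 ∨ k = 3 := (Nat.dvd_prime Nat.prime_three).mp hk3
  rcases hk' with rfl | rfl
  · norm_num
  · exact absurd (by norm_num : 9 ∣ 48 * 3) h9

end Main

end Cfsg.Agent.Lib.Helper21_M11_T3b
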