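import Mathlib
import Cfsg.Agent.Lib.Helper73_MGDefs

/-!
# mg market (S3620, Marggraf), package QP-KER

In a quasiprimitive group the kernel of the action on the translates of a nonempty proper
subset is trivial.
-/

set_option autoImplicit false

namespace Cfsg.Agent.Lib.Helper21_MG_QPKER

open MulAction Equiv
open scoped Pointwise
open Cfsg.Agent.Lib.Helper73_MG

universe u v
variable {G : Type u} {Ω : Type v} [Group G] [MulAction G Ω]

/-- The kernel of the action of `G` on the translates of `B`. -/
def translateKernel (G : Type u) {Ω : Type v} [Group G] [MulAction G Ω] (B : Set Ω) : Subgroup G where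
  carrier := {g | ∀ h : G, g • (h • B) = h • B}
  one_mem' := fun h => one_smul _ _
  mul_mem' := by
    intro a b ha hb h
    rw [mul_smul, hb h, ha h]
  inv_mem' := by
    intro a ha h
    rw [inv_smul_eq_iff, ha h]

theorem mem_translateKernel {B : Set Ω} {g : G} :
    g ∈ translateKernel G B ↔ ∀ h : G, g • (h • B) = h • B := Iff.rfl

theorem translateKernel_normal (B : Set Ω) : (translateKernel G B).Normal := by
  refine ⟨fun n hn c h => ?_⟩
  have h1 : c⁻¹ • (h • B) = (c⁻¹ * h) • B := (mul_smul _ _ _).symm
  rw [mul_smul, mul_smul, h1, hn (c⁻¹ * h), ← h1, smul_inv_smul]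

/-- QP-KER -/
theorem kernel_trivial
    (hqp : ∀ N : Subgroup G, N.Normal → N ≠ ⊥ → IsPretransitive N Ω)
    (B : Set Ω) (hB : B.Nonempty) (hB' : B ≠ Set.univ) (g : G)
    (hg : ∀ h : G, g • (h • B) = h • B) : g = 1 := by
  by_contra hne
  have hK : translateKernel G B ≠ ⊥ := by
    intro hbot
    have : g ∈ translateKernel G B := hg
    rw [hbot, Subgroup.mem_bot] at this
    exact hne this
  have := hqp _ (translateKernel_normal B) hK
  apply hB'
  obtain ⟨b, hb⟩ := hB
  rw [Set.eq_univ_iff_forall]
  intro ω
  obtain ⟨k, hk⟩ := exists_smul_eq (translateKernel G B) b ω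
  have hkB : (k : G) • B = B := by
    have := k.2 1
    rwa [one_smul] at this
  rw [← hkB, ← hk, Subgroup.smul_def]
  exact Set.smul_mem_smul_set hb

end Cfsg.Agent.Lib.Helper21_MG_QPKER
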