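import Mathlib
import Cfsg.Agent.Lib.Helper98_OFADefs

/-!
helper21: OFA package ROT (architect helper98), verbatim.  A product `ρ = Rf a * Rf b` of two
reflections with `ρ ^ k = 1`, `1 ≤ k ≤ 5`, has `cos² = B(a,b)² / (4 Q a Q b)` in the set `A`.
On `⟨a, b⟩` we have `ρ² = τ ρ - 1` with `τ = 4 cos² - 2`, so `ρ ^ (n+1) = U_{n+1} ρ - U_n` with the
Chebyshev-like recursion `cheb`.
-/

set_option autoImplicit false

namespace Cfsg.Agent.Lib.Helper21_OFA_ROT

open Module Cfsg.Agent.Lib.Helper94_Symp Cfsg.Agent.Lib.Helper94_OrthSmall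
  Cfsg.Agent.Lib.Helper94_OrthSiegel Cfsg.Agent.Lib.Helper32_OFDefs
  Cfsg.Agent.Lib.Helper98_OFADefs

variable {F V : Type*} [Field F] [Finite F] [AddCommGroup V] [Module F V] [FiniteDimensional F V]
variable {Q : V → F} {B : LinearMap.BilinForm F V}

/-- the recursion `U₀ = 0`, `U₁ = 1`, `U_{n+2} = τ U_{n+1} - U_n` -/
def cheb (τ : F) : ℕ → F
  | 0 => 0
  | 1 => 1
  | (n + 2) => τ * cheb τ (n + 1) - cheb τ n

omit [Finite F] [FiniteDimensional F V] in
/-- if `ρ² x = τ ρ x - x` then `ρ ^ (n+1) x = U_{n+1} ρ x - U_n x` -/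
theorem pow_apply_of_quadratic (ρ : V ≃ₗ[F] V) (τ : F) :
    ∀ (n : ℕ) (x : V), ρ (ρ x) = τ • ρ x - x →
      (ρ ^ (n + 1)) x = cheb τ (n + 1) • ρ x - cheb τ n • x := by
  intro n
  induction n with
  | zero =>
    intro x _
    simp [cheb]
  | succ n ih =>
    intro x hx
    have hx' : ρ (ρ (ρ x)) = τ • ρ (ρ x) - ρ x := by
      conv_lhs => rw [hx]
      rw [map_sub, map_smul]
    have h1 : (ρ ^ (n + 1 + 1)) x = (ρ ^ (n + 1)) (ρ x) := by
      rw [pow_succ (ρ) (n + 1)]
      rfl
    rw [h1, ih (ρ x) hx', hx]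
    have hc : cheb τ (n + 1 + 1) = τ * cheb τ (n + 1) - cheb τ n := rfl
    rw [hc]
    module

/-- OFA-ROT (L).  A product of two reflections of order at most 5 has `cos² ∈ A`. -/
theorem ROT (hQs : ∀ (a : F) (v : V), Q (a • v) = a * a * Q v)
    (hQp : ∀ u v : V, Q (u + v) = Q u + Q v + B u v) (h2 : (2 : F) ≠ 0)
    {a b : V} (ha : Q a ≠ 0) (hb : Q b ≠ 0) {k : ℕ} (hk1 : 1 ≤ k) (hk5 : k ≤ 5)
    (hpow : (Rf Q B a * Rf Q B b) ^ k = 1) :
    InA (B a b * B a b * (4 * Q a * Q b)⁻¹) := by
  have hBaa : B a a = 2 * Q a := B_self Q B hQs hQp a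
  have hBbb : B b b = 2 * Q b := B_self Q B hQs hQp b
  have hBba : B b a = B a b := B_symm Q B hQp b a
  have h4 : (4 : F) ≠ 0 := by
    have : (4 : F) = 2 * 2 := by norm_num
    rw [this]
    exact mul_ne_zero h2 h2
  by_cases hdep : ∃ s : F, b = s • a
  · -- dependent: `t = 1`
    obtain ⟨s, rfl⟩ := hdep
    have hs : s ≠ 0 := by
      intro h
      apply hb
      rw [h, zero_smul, Q_zero Q hQs]
    right; left
    rw [map_smul, smul_eq_mul, hBaa, hQs]
    field_simp
    ring
  · -- independent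
    have hindep : ∀ x y : F, x • a + y • b = 0 → x = 0 ∧ y = 0 := by
      intro x y hxy
      have hy : y = 0 := by
        by_contra hy
        apply hdep
        refine ⟨-(y⁻¹ * x), ?_⟩
        have h1 : y • b = -(x • a) := eq_neg_of_add_eq_zero_right hxy
        have h2 : b = y⁻¹ • (y • b) := by rw [smul_smul, inv_mul_cancel₀ hy, one_smul]
        rw [h2, h1, smul_neg, smul_smul, neg_smul]
      refine ⟨?_, hy⟩
      rw [hy, zero_smul, add_zero] at hxy
      rcases smul_eq_zero.mp hxy with h | h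
      · exact h
      · exfalso
        apply ha
        rw [h, Q_zero Q hQs]
    set β : F := B a b with hβ
    set t : F := β * β * (4 * Q a * Q b)⁻¹ with ht
    set τ : F := 4 * t - 2 with hτ
    set ρ : V ≃ₗ[F] V := Rf Q B a * Rf Q B b with hρ
    have h4t : (Q a)⁻¹ * (Q b)⁻¹ * β * β = 4 * t := by
      rw [ht]
      field_simp
    -- the action on `a` and `b`
    have hρb : ρ b = ((Q a)⁻¹ * β) • a + (-1 : F) • b := by
      rw [hρ, LinearEquiv.mul_apply, Rf_apply Q B hQs hQp hb, Rf_apply Q B hQs hQp ha]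
      simp only [map_sub, map_smul, LinearMap.sub_apply, LinearMap.smul_apply, smul_eq_mul,
        hBbb, hBba]
      have e1 : (Q b)⁻¹ * (2 * Q b) = 2 := by field_simp
      rw [e1]
      module
    have hρa : ρ a = (4 * t - 1) • a + (-((Q b)⁻¹ * β)) • b := by
      rw [hρ, LinearEquiv.mul_apply, Rf_apply Q B hQs hQp hb, Rf_apply Q B hQs hQp ha]
      simp only [map_sub, map_smul, LinearMap.sub_apply, LinearMap.smul_apply, smul_eq_mul,
        hBba, hBaa]
      have e1 : (Q a)⁻¹ * (2 * Q a) = 2 := by field_simp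
      rw [← h4t]
      rw [← hβ]
      have e2 : (Q a)⁻¹ * (2 * Q a - (Q b)⁻¹ * β * β) = 2 - (Q a)⁻¹ * (Q b)⁻¹ * β * β := by
        rw [mul_sub, e1]; ring
      rw [e2]
      module
    -- the quadratic relation at `b`
    have hquad : ρ (ρ b) = τ • ρ b - b := by
      rw [hρb, map_add, map_smul, map_smul, hρa, hρb, hτ]
      have e3 : (Q a)⁻¹ * β * (-((Q b)⁻¹ * β)) = -(4 * t) := by rw [← h4t]; ring
      have : ((Q a)⁻¹ * β) • ((4 * t - 1) • a + (-((Q b)⁻¹ * β)) • b) +
          (-1 : F) • (((Q a)⁻¹ * β) • a + (-1 : F) • b) =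
          ((Q a)⁻¹ * β * (4 * t - 1) - (Q a)⁻¹ * β) • a +
            ((Q a)⁻¹ * β * (-((Q b)⁻¹ * β)) + 1) • b := by module
      rw [this, e3]
      module
    obtain ⟨n, rfl⟩ : ∃ n, k = n + 1 := ⟨k - 1, by omega⟩
    have hk := pow_apply_of_quadratic ρ τ n b hquad
    have h1b : (1 : V ≃ₗ[F] V) b = b := rfl
    rw [hpow, h1b, hρb] at hk
    have hcomb : (cheb τ (n + 1) * ((Q a)⁻¹ * β)) • a +
        (-cheb τ (n + 1) - cheb τ n - 1) • b = 0 := by
      have : (cheb τ (n + 1) * ((Q a)⁻¹ * β)) • a + (-cheb τ (n + 1) - cheb τ n - 1) • b =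
          (cheb τ (n + 1) • (((Q a)⁻¹ * β) • a + (-1 : F) • b) - cheb τ n • b) - b := by module
      rw [this, ← hk, sub_self]
    obtain ⟨hx, hy⟩ := hindep _ _ hcomb
    by_cases hβ0 : β = 0
    · left
      rw [ht, hβ0]
      ring
    · have hc1 : cheb τ (n + 1) = 0 := by
        rcases mul_eq_zero.mp hx with h | h
        · exact h
        · exfalso
          exact mul_ne_zero (inv_ne_zero ha) hβ0 h
      have hc0 : cheb τ n = -1 := by
        rw [hc1] at hy
        linear_combination -hy
      have hn : n ≤ 4 := by omega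
      interval_cases n
      · -- k = 1
        exfalso
        simp only [cheb] at hc1
        exact one_ne_zero hc1
      · -- k = 2
        exfalso
        simp only [cheb] at hc0
        apply h2
        linear_combination hc0
      · -- k = 3
        simp only [cheb] at hc0
        right; right; left
        change 4 * t = 1
        have : τ = -1 := by linear_combination hc0
        rw [hτ] at this
        linear_combination this
      · -- k = 4
        simp only [cheb] at hc0
        right; right; right; left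
        change 2 * t = 1
        have hτ2 : τ * τ = 0 := by linear_combination hc0
        have hτ0 : τ = 0 := by
          rcases mul_eq_zero.mp hτ2 with h | h <;> exact h
        rw [hτ] at hτ0
        have : 2 * (2 * t - 1) = 0 := by linear_combination hτ0
        rcases mul_eq_zero.mp this with h | h
        · exact absurd h h2
        · linear_combination h
      · -- k = 5
        simp only [cheb] at hc0 hc1
        right; right; right; right
        change 16 * t * t - 12 * t + 1 = 0
        have hrel : τ * τ + τ - 1 = 0 := by linear_combination τ * hc0 - hc1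
        rw [hτ] at hrel
        linear_combination hrel

end Cfsg.Agent.Lib.Helper21_OFA_ROT
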