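import Mathlib
import Cfsg.Agent.Lib.Helper32_OFDefs

set_option autoImplicit false
set_option linter.unusedSimpArgs false
set_option linter.unusedVariables false
set_option linter.unusedSectionVars false

/-!
Root groups over a prime field: a subgroup containing one Siegel element `sieg Q B u z` contains the
whole root group `sieg Q B u (t • z)`, `t ∈ F`, when `F` has prime order (tools for the orthogonal
frames rows S5679, S5696).
-/

namespace Cfsg.Agent.Lib.Helper32_OFRoot

open Module Cfsg.Agent.Lib.Helper94_Symp Cfsg.Agent.Lib.Helper94_OrthSmall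
  Cfsg.Agent.Lib.Helper94_OrthSiegel Cfsg.Agent.Lib.Helper94_OrthNondeg

variable {F V : Type*} [Field F] [AddCommGroup V] [Module F V]
variable {Q : V → F} {B : LinearMap.BilinForm F V}
  (hQs : ∀ (c : F) (v : V), Q (c • v) = c * c * Q v)
  (hQp : ∀ u v : V, Q (u + v) = Q u + Q v + B u v)

include hQs hQp in
lemma sieg_pow {u z : V} (hu : Q u = 0) (huz : B u z = 0) (n : ℕ) :
    (sieg Q B u z) ^ n = sieg Q B u ((n : F) • z) := by
  induction n with
  | zero =>
    rw [pow_zero, Nat.cast_zero, zero_smul, sieg_zero_right Q B hQs hQp hu]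
  | succ n ih =>
    rw [pow_succ, ih, sieg_mul Q B hQs hQp hu (by rw [map_smul, huz, smul_zero]) huz,
      Nat.cast_succ, add_smul, one_smul]

/-- in a field of prime order every element is the image of a natural number -/
lemma exists_nat_cast [Finite F] (hp : (Nat.card F).Prime) (t : F) : ∃ n : ℕ, (n : F) = t := by
  classical
  haveI := Fintype.ofFinite F
  -- the additive subgroup generated by `1` is everything
  have hcard : Nat.card F = Fintype.card F := Nat.card_eq_fintype_card
  have h1 : (1 : F) ≠ 0 := one_ne_zero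
  have hord : addOrderOf (1 : F) = Nat.card F := by
    have hdvd : addOrderOf (1 : F) ∣ Nat.card F := by
      rw [hcard]; exact addOrderOf_dvd_card
    rcases (Nat.dvd_prime hp).mp hdvd with h | h
    · exact absurd (AddMonoid.addOrderOf_eq_one_iff.mp h) h1
    · exact h
  have htop : AddSubgroup.zmultiples (1 : F) = ⊤ := by
    apply AddSubgroup.eq_top_of_card_eq
    rw [Nat.card_zmultiples, hord]
  have ht : t ∈ AddSubgroup.zmultiples (1 : F) := by rw [htop]; trivial
  obtain ⟨k, hk⟩ := AddSubgroup.mem_zmultiples_iff.mp ht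
  -- reduce `k` modulo the characteristic
  have hchar : ((Nat.card F : ℕ) : F) = 0 := by
    rw [hcard]; exact Nat.cast_card_eq_zero F
  have hpos : 0 < Nat.card F := hp.pos
  refine ⟨(k % (Nat.card F : ℤ)).toNat, ?_⟩
  have hnn : 0 ≤ k % (Nat.card F : ℤ) := Int.emod_nonneg k (by exact_mod_cast hpos.ne')
  have h2 : ((k % (Nat.card F : ℤ)).toNat : ℤ) = k % (Nat.card F : ℤ) := Int.toNat_of_nonneg hnn
  have h3 : (((k % (Nat.card F : ℤ)).toNat : ℤ) : F) = ((k % (Nat.card F : ℤ) : ℤ) : F) := by
    rw [h2]
  rw [Int.cast_natCast] at h3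
  rw [h3, ← hk]
  have h4 : k = k % (Nat.card F : ℤ) + (Nat.card F : ℤ) * (k / (Nat.card F : ℤ)) :=
    (Int.emod_add_mul_ediv k _).symm
  conv_rhs => rw [h4]
  rw [zsmul_eq_mul, mul_one, Int.cast_add, Int.cast_mul, Int.cast_natCast, hchar, zero_mul,
    add_zero]

include hQs hQp in
/-- over a prime field a subgroup containing a Siegel element contains its root group -/
theorem inZ_of_mem [Finite F] (hp : (Nat.card F).Prime) {L : Subgroup (V ≃ₗ[F] V)} {u z : V}
    (hu : Q u = 0) (huz : B u z = 0) (h : sieg Q B u z ∈ L) : InZ Q B L u z := by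
  refine ⟨huz, fun t => ?_⟩
  obtain ⟨n, rfl⟩ := exists_nat_cast hp t
  rw [← sieg_pow hQs hQp hu huz]
  exact L.pow_mem h n

end Cfsg.Agent.Lib.Helper32_OFRoot
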