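import Mathlib
import Cfsg.Agent.Lib.Helper98_OFADefs

/-!
# OFA-REL (helper98's market `ofa_packages`): the API of `extU`
-/

set_option autoImplicit false
set_option linter.unusedSectionVars false
set_option linter.unusedVariables false

namespace Cfsg.Agent.Lib.Helper52_OFA_REL

open Module Cfsg.Agent.Lib.Helper94_Symp Cfsg.Agent.Lib.Helper94_OrthSmall
  Cfsg.Agent.Lib.Helper94_OrthSiegel Cfsg.Agent.Lib.Helper32_OFDefs
  Cfsg.Agent.Lib.Helper98_OFADefs

variable {F V : Type*} [Field F] [Finite F] [AddCommGroup V] [Module F V] [FiniteDimensional F V]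
variable {Q : V → F} {B : LinearMap.BilinForm F V}

theorem exists_decomp {U U' : Submodule F V} (hc : IsCompl U U') (v : V) :
    ∃ (u : U) (u' : U'), v = (u : V) + (u' : V) := by
  have : v ∈ U ⊔ U' := by rw [hc.sup_eq_top]; trivial
  obtain ⟨u, hu, u', hu', rfl⟩ := Submodule.mem_sup.1 this
  exact ⟨⟨u, hu⟩, ⟨u', hu'⟩, rfl⟩

theorem ext_decomp {U U' : Submodule F V} (hc : IsCompl U U') {g g' : V ≃ₗ[F] V}
    (h : ∀ (u : U) (u' : U'), g ((u : V) + (u' : V)) = g' ((u : V) + (u' : V))) : g = g' := by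
  ext v
  obtain ⟨u, u', rfl⟩ := exists_decomp hc v
  exact h u u'

theorem extU_apply_left (U U' : Submodule F V) (hc : IsCompl U U') (h : U ≃ₗ[F] U) (u : U) :
    extU U U' hc h (u : V) = (h u : V) := by
  have := extU_apply U U' hc h u 0
  simpa using this

theorem extU_mul (U U' : Submodule F V) (hc : IsCompl U U') (h h' : U ≃ₗ[F] U) :
    extU U U' hc (h * h') = extU U U' hc h * extU U U' hc h' := by
  apply ext_decomp hc
  intro u u'
  rw [LinearEquiv.mul_apply, extU_apply, extU_apply, extU_apply, LinearEquiv.mul_apply]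

theorem extU_one (U U' : Submodule F V) (hc : IsCompl U U') : extU U U' hc 1 = 1 := by
  apply ext_decomp hc
  intro u u'
  rw [extU_apply]
  rfl

theorem extU_injective (U U' : Submodule F V) (hc : IsCompl U U') :
    Function.Injective (extU U U' hc) := by
  intro h h' hh
  ext u
  rw [← extU_apply_left U U' hc h u, ← extU_apply_left U U' hc h' u, hh]

theorem extU_mem_oG (hQp : ∀ u v : V, Q (u + v) = Q u + Q v + B u v)
    (U U' : Submodule F V) (hc : IsCompl U U') (horth : ∀ u ∈ U, ∀ v ∈ U', B u v = 0)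
    (h : U ≃ₗ[F] U) : extU U U' hc h ∈ oG Q ↔ h ∈ oG (fun u : U => Q u) := by
  constructor
  · intro hg u
    have := hg (u : V)
    rw [extU_apply_left] at this
    exact this
  · intro hh v
    obtain ⟨u, u', rfl⟩ := exists_decomp hc v
    rw [extU_apply, hQp, hQp, horth _ (h u).2 _ u'.2, horth _ u.2 _ u'.2]
    have := hh u
    simp only at this
    rw [this]

theorem extU_det (U U' : Submodule F V) (hc : IsCompl U U') (h : U ≃ₗ[F] U) :
    LinearMap.det ((extU U U' hc h : V ≃ₗ[F] V) : V →ₗ[F] V) =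
      LinearMap.det ((h : U ≃ₗ[F] U) : U →ₗ[F] U) := by
  have e1 : ((extU U U' hc h : V ≃ₗ[F] V) : V →ₗ[F] V) =
      ((Submodule.prodEquivOfIsCompl U U' hc : (U × U') ≃ₗ[F] V) : (U × U') →ₗ[F] V) ∘ₗ
        (LinearMap.prodMap (h : U →ₗ[F] U) (LinearMap.id : U' →ₗ[F] U')) ∘ₗ
        (((Submodule.prodEquivOfIsCompl U U' hc).symm : V ≃ₗ[F] (U × U')) : V →ₗ[F] (U × U')) := by
    ext v
    rfl
  rw [e1, LinearMap.det_conj, LinearMap.det_prodMap, LinearMap.det_id, mul_one]

theorem extU_surj (U U' : Submodule F V) (hc : IsCompl U U') (g : V ≃ₗ[F] V)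
    (hU : ∀ u ∈ U, g u ∈ U) (hU' : ∀ v ∈ U', g v = v) : ∃ h, extU U U' hc h = g := by
  let f : U →ₗ[F] U := (g : V →ₗ[F] V).restrict hU
  have hf : Function.Injective f := by
    intro x y hxy
    have : g (x : V) = g (y : V) := congrArg Subtype.val hxy
    exact Subtype.ext (g.injective this)
  refine ⟨LinearEquiv.ofInjectiveEndo f hf, ?_⟩
  apply ext_decomp hc
  intro u u'
  rw [extU_apply, map_add, hU' _ u'.2]
  rfl

theorem B_orth' (hQp : ∀ u v : V, Q (u + v) = Q u + Q v + B u v)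
    {U U' : Submodule F V} (horth : ∀ u ∈ U, ∀ v ∈ U', B u v = 0) {u v : V} (hu : u ∈ U)
    (hv : v ∈ U') : B v u = 0 := by
  rw [B_symm Q B hQp]; exact horth u hu v hv

theorem extU_sieg (hQs : ∀ (a : F) (v : V), Q (a • v) = a * a * Q v)
    (hQp : ∀ u v : V, Q (u + v) = Q u + Q v + B u v)
    (U U' : Submodule F V) (hc : IsCompl U U') (horth : ∀ u ∈ U, ∀ v ∈ U', B u v = 0)
    (u z : U) (hu : Q u = 0) (huz : B u z = 0) :
    extU U U' hc (sieg (fun u : U => Q u) (B.restrict U) u z) = sieg Q B u z := by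
  have hQsU : ∀ (a : F) (v : U), (fun u : U => Q u) (a • v) = a * a * (fun u : U => Q u) v :=
    fun a v => hQs a v
  have hQpU : ∀ x y : U, (fun u : U => Q u) (x + y) =
      (fun u : U => Q u) x + (fun u : U => Q u) y + (B.restrict U) x y := fun x y => hQp x y
  apply ext_decomp hc
  intro x x'
  rw [extU_apply, sieg_apply (fun u : U => Q u) (B.restrict U) hQsU hQpU hu huz,
    sieg_apply Q B hQs hQp hu huz]
  simp only [LinearMap.BilinForm.restrict_apply, LinearMap.domRestrict_apply, Submodule.coe_add, Submodule.coe_sub,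
    Submodule.coe_smul, map_add, LinearMap.add_apply, B_orth' hQp horth u.2 x'.2,
    B_orth' hQp horth z.2 x'.2, add_zero]
  abel

theorem extU_Rf (hQs : ∀ (a : F) (v : V), Q (a • v) = a * a * Q v)
    (hQp : ∀ u v : V, Q (u + v) = Q u + Q v + B u v)
    (U U' : Submodule F V) (hc : IsCompl U U') (horth : ∀ u ∈ U, ∀ v ∈ U', B u v = 0)
    (a : U) (ha : Q a ≠ 0) :
    extU U U' hc (Rf (fun u : U => Q u) (B.restrict U) a) = Rf Q B a := by
  have hQsU : ∀ (a : F) (v : U), (fun u : U => Q u) (a • v) = a * a * (fun u : U => Q u) v :=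
    fun a v => hQs a v
  have hQpU : ∀ x y : U, (fun u : U => Q u) (x + y) =
      (fun u : U => Q u) x + (fun u : U => Q u) y + (B.restrict U) x y := fun x y => hQp x y
  apply ext_decomp hc
  intro x x'
  rw [extU_apply, Rf_apply (fun u : U => Q u) (B.restrict U) hQsU hQpU ha,
    Rf_apply Q B hQs hQp ha]
  simp only [LinearMap.BilinForm.restrict_apply, LinearMap.domRestrict_apply, Submodule.coe_sub,
    Submodule.coe_smul, map_add, LinearMap.add_apply, B_orth' hQp horth a.2 x'.2, add_zero]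
  abel

/-- OFA-REL (L).  Extension by the identity of automorphisms of a subspace `U` with an orthogonal
complement `U'`. -/
theorem REL (hQs : ∀ (a : F) (v : V), Q (a • v) = a * a * Q v)
    (hQp : ∀ u v : V, Q (u + v) = Q u + Q v + B u v)
    (U U' : Submodule F V) (hc : IsCompl U U') (horth : ∀ u ∈ U, ∀ v ∈ U', B u v = 0) :
    (∀ h h' : U ≃ₗ[F] U, extU U U' hc (h * h') = extU U U' hc h * extU U U' hc h') ∧
    (extU U U' hc 1 = 1) ∧
    (Function.Injective (extU U U' hc)) ∧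
    (∀ h : U ≃ₗ[F] U, extU U U' hc h ∈ oG Q ↔ h ∈ oG (fun u : U => Q u)) ∧
    (∀ h : U ≃ₗ[F] U, LinearMap.det ((extU U U' hc h : V ≃ₗ[F] V) : V →ₗ[F] V) =
      LinearMap.det ((h : U ≃ₗ[F] U) : U →ₗ[F] U)) ∧
    (∀ g : V ≃ₗ[F] V, (∀ u ∈ U, g u ∈ U) → (∀ v ∈ U', g v = v) → ∃ h, extU U U' hc h = g) ∧
    (∀ u z : U, Q u = 0 → B u z = 0 →
      extU U U' hc (sieg (fun u : U => Q u) (B.restrict U) u z) = sieg Q B u z) ∧
    (∀ a : U, Q a ≠ 0 → extU U U' hc (Rf (fun u : U => Q u) (B.restrict U) a) = Rf Q B a) :=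
  ⟨extU_mul U U' hc, extU_one U U' hc, extU_injective U U' hc,
    extU_mem_oG hQp U U' hc horth, extU_det U U' hc, extU_surj U U' hc,
    fun u z hu huz => extU_sieg hQs hQp U U' hc horth u z hu huz,
    fun a ha => extU_Rf hQs hQp U U' hc horth a ha⟩

end Cfsg.Agent.Lib.Helper52_OFA_REL
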