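import Mathlib
import Cfsg.Agent.Lib.Helper98_OFADefs
import Cfsg.Agent.Lib.Helper52_OFA_REL
import Cfsg.Agent.Lib.Helper32_OFRoot

/-!
helper21: OFA package U3 (architect helper98), aux form.  `U3_of` is the statement of `U3` with the
conclusions of the packages UNIP (for the 3-space `U`) and ROOTTRANS (for `M = closure (Rf '' A)`) as
hypotheses.
-/

set_option autoImplicit false
set_option linter.unusedSectionVars false
set_option linter.unusedVariables false
set_option linter.style.haveILetI false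

namespace Cfsg.Agent.Lib.Helper21_OFA_U3aux

open Module Cfsg.Agent.Lib.Helper94_Symp Cfsg.Agent.Lib.Helper94_OrthSmall
  Cfsg.Agent.Lib.Helper94_OrthSiegel Cfsg.Agent.Lib.Helper32_OFDefs
  Cfsg.Agent.Lib.Helper98_OFADefs Cfsg.Agent.Lib.Helper52_OFA_REL

variable {F V : Type*} [Field F] [Finite F] [AddCommGroup V] [Module F V] [FiniteDimensional F V]
variable {Q : V → F} {B : LinearMap.BilinForm F V}

/-- `extU` commutes with powers -/
theorem extU_pow (U U' : Submodule F V) (hc : IsCompl U U') (h : U ≃ₗ[F] U) (n : ℕ) :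
    extU U U' hc (h ^ n) = extU U U' hc h ^ n := by
  induction n with
  | zero => rw [pow_zero, pow_zero, extU_one]
  | succ n ih => rw [pow_succ, pow_succ, extU_mul, ih]

/-- the characteristic of a field of prime order -/
theorem ringChar_eq_card (hp : (Nat.card F).Prime) : ringChar F = Nat.card F := by
  haveI := Fintype.ofFinite F
  have h0 : ((Nat.card F : ℕ) : F) = 0 := by
    rw [Nat.card_eq_fintype_card]; exact Nat.cast_card_eq_zero F
  have hdvd : ringChar F ∣ Nat.card F := ringChar.dvd h0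
  rcases (Nat.dvd_prime hp).mp hdvd with h | h
  · exact absurd h (CharP.ringChar_ne_one)
  · exact h

/-- a 2-dimensional bound: the part of a 3-space orthogonal to `u` is spanned by `u` and any `z` in it
which is not a multiple of `u` -/
theorem mem_span_pair_of_perp (U : Submodule F V) (hUd : finrank F U = 3) {u z v : V}
    (hu : u ∈ U) (hz : z ∈ U) (hv : v ∈ U) (huu : B u u = 0) (huz : B u z = 0) (huv : B u v ≠ 0)
    (hu0 : u ≠ 0) (hzu : ∀ c : F, z ≠ c • u) {z' : V} (hz' : z' ∈ U) (huz' : B u z' = 0) :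
    ∃ α γ : F, z' = α • u + γ • z := by
  -- `K = U ⊓ ker (B u)`
  set K : Submodule F V := U ⊓ LinearMap.ker (B u) with hK
  have hKU : K < U := by
    refine lt_of_le_of_ne inf_le_left ?_
    intro h
    have : v ∈ K := by rw [h]; exact hv
    exact huv (LinearMap.mem_ker.mp this.2)
  have hKd : finrank F K < 3 := by
    rw [← hUd]
    exact Submodule.finrank_lt_finrank_of_lt hKU
  have hli : LinearIndependent F ![u, z] := by
    rw [LinearIndependent.pair_iff]
    intro s t hst
    have ht : t = 0 := by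
      by_contra ht
      apply hzu (-(t⁻¹ * s))
      have h1 : t • z = -(s • u) := eq_neg_of_add_eq_zero_right hst
      have h2 : z = t⁻¹ • (t • z) := by rw [smul_smul, inv_mul_cancel₀ ht, one_smul]
      rw [h2, h1, smul_neg, smul_smul, neg_smul]
    refine ⟨?_, ht⟩
    rw [ht, zero_smul, add_zero] at hst
    rcases smul_eq_zero.mp hst with h | h
    · exact h
    · exact absurd h hu0
  have hspanK : Submodule.span F (Set.range ![u, z]) ≤ K := by
    rw [Submodule.span_le]
    rintro x ⟨i, rfl⟩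
    fin_cases i
    · exact ⟨hu, LinearMap.mem_ker.mpr huu⟩
    · exact ⟨hz, LinearMap.mem_ker.mpr huz⟩
  have hspand : finrank F (Submodule.span F (Set.range ![u, z])) = 2 := by
    rw [finrank_span_eq_card hli]
    simp
  have hEq : Submodule.span F (Set.range ![u, z]) = K := by
    apply Submodule.eq_of_le_of_finrank_le hspanK
    rw [hspand]
    omega
  have hz'K : z' ∈ K := ⟨hz', LinearMap.mem_ker.mpr huz'⟩
  rw [← hEq] at hz'K
  have hr : Set.range ![u, z] = {u, z} := by
    ext x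
    simp only [Set.mem_range, Set.mem_insert_iff, Set.mem_singleton_iff]
    constructor
    · rintro ⟨i, rfl⟩
      fin_cases i
      · left; rfl
      · right; rfl
    · rintro (rfl | rfl)
      · exact ⟨0, rfl⟩
      · exact ⟨1, rfl⟩
  rw [hr, Submodule.mem_span_pair] at hz'K
  obtain ⟨α, γ, h⟩ := hz'K
  exact ⟨α, γ, h.symm⟩

/-- **OFA-U3**, with the conclusions of UNIP (on `U`) and ROOTTRANS (for the closure) as
hypotheses. -/
theorem U3_of (hp : (Nat.card F).Prime) (hQs : ∀ (a : F) (v : V), Q (a • v) = a * a * Q v)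
    (hQp : ∀ u v : V, Q (u + v) = Q u + Q v + B u v) (h2 : (2 : F) ≠ 0)
    (U : Submodule F V) (hUd : finrank F U = 3)
    (hUn : ∀ u ∈ U, (∀ v ∈ U, B u v = 0) → u = 0)
    (A : Set V) (hA : ∀ a ∈ A, a ∈ U ∧ Q a ≠ 0) (hspan : Submodule.span F A = U)
    (hdiv : Nat.card F ∣ Nat.card (Subgroup.closure (Rf Q B '' A)))
    (hUNIP : (B.restrict U).Nondegenerate → ∀ g : U ≃ₗ[F] U, g ∈ oG (fun u : U => Q u) →
      g ^ ringChar F = 1 → g ≠ 1 →
      ∃ u z : U, Q u = 0 ∧ u ≠ 0 ∧ (B.restrict U) u z = 0 ∧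
        g = sieg (fun u : U => Q u) (B.restrict U) u z)
    (hROOT : ∀ {u0 u1 : V}, u0 ∈ U → u1 ∈ U → Q u0 = 0 → Q u1 = 0 → B u0 u1 ≠ 0 →
      (∀ z ∈ U, B u0 z = 0 → sieg Q B u0 z ∈ Subgroup.closure (Rf Q B '' A)) →
      (∀ z ∈ U, B u1 z = 0 → sieg Q B u1 z ∈ Subgroup.closure (Rf Q B '' A)) →
      ∀ w ∈ U, Q w = 0 → ∀ z ∈ U, B w z = 0 →
        sieg Q B w z ∈ Subgroup.closure (Rf Q B '' A)) :
    ∀ w ∈ U, Q w = 0 → ∀ z ∈ U, B w z = 0 →
      sieg Q B w z ∈ Subgroup.closure (Rf Q B '' A) := by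
  classical
  set G' := Subgroup.closure (Rf Q B '' A) with hG'
  have hsymm : ∀ x y, B x y = B y x := B_symm Q B hQp
  have hnd : (B.restrict U).Nondegenerate := by
    constructor
    · intro x hx
      apply Subtype.ext
      apply hUn x x.2
      intro v hv
      exact hx ⟨v, hv⟩
    · intro y hy
      apply Subtype.ext
      apply hUn y y.2
      intro v hv
      rw [hsymm]
      exact hy ⟨v, hv⟩
  have hrefl : B.IsRefl := fun x y hxy => by rw [hsymm, hxy]
  set U' := B.orthogonal U with hU'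
  have hc : IsCompl U U' :=
    LinearMap.BilinForm.isCompl_orthogonal_of_restrict_nondegenerate hrefl hnd
  have horth : ∀ u ∈ U, ∀ v ∈ U', B u v = 0 := fun u hu v hv =>
    LinearMap.BilinForm.mem_orthogonal_iff.mp hv u hu
  -- properties of the elements of `G'`
  have hprop : ∀ g ∈ G', g ∈ oG Q ∧ (∀ x, x ∈ U ↔ g x ∈ U) ∧ (∀ v ∈ U', g v = v) := by
    intro g hg
    induction hg using Subgroup.closure_induction with
    | mem g hg =>
      obtain ⟨a, haA, rfl⟩ := hg
      obtain ⟨haU, hQa⟩ := hA a haA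
      have hRf : ∀ x, Rf Q B a x = x - ((Q a)⁻¹ * B x a) • a := Rf_apply Q B hQs hQp hQa
      refine ⟨Rf_mem_oG Q B hQs hQp hQa, ?_, ?_⟩
      · intro x
        constructor
        · intro hx
          rw [hRf]
          exact U.sub_mem hx (U.smul_mem _ haU)
        · intro hx
          have : x = Rf Q B a x + ((Q a)⁻¹ * B x a) • a := by rw [hRf]; abel
          rw [this]
          exact U.add_mem hx (U.smul_mem _ haU)
      · intro v hv
        rw [hRf, hsymm v a, horth a haU v hv, mul_zero, zero_smul, sub_zero]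
    | one => exact ⟨Subgroup.one_mem _, fun x => Iff.rfl, fun v _ => rfl⟩
    | mul g g' _ _ ih ih' =>
      refine ⟨Subgroup.mul_mem _ ih.1 ih'.1, fun x => ?_, fun v hv => ?_⟩
      · rw [LinearEquiv.mul_apply, ← ih.2.1, ← ih'.2.1]
      · rw [LinearEquiv.mul_apply, ih'.2.2 v hv, ih.2.2 v hv]
    | inv g _ ih =>
      refine ⟨Subgroup.inv_mem _ ih.1, fun x => ?_, fun v hv => ?_⟩
      · rw [ih.2.1 (g⁻¹ x), apply_inv_apply']
      · conv_lhs => rw [← ih.2.2 v hv]
        exact inv_apply_apply' g v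
  have hG'O : G' ≤ oG Q := fun g hg => (hprop g hg).1
  -- Cauchy
  haveI : Finite V := Module.finite_of_finite F
  haveI : Finite (V ≃ₗ[F] V) :=
    Finite.of_injective (fun g : V ≃ₗ[F] V => (g : V → V))
      (fun g h hgh => LinearEquiv.ext (fun x => congrFun hgh x))
  haveI : Fact (Nat.card F).Prime := ⟨hp⟩
  obtain ⟨⟨gb, hgb⟩, hord⟩ := exists_prime_orderOf_dvd_card' (G := G') (Nat.card F) hdiv
  have hordV : orderOf gb = Nat.card F := by
    rw [← hord]
    exact (Subgroup.orderOf_mk gb hgb).symm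
  obtain ⟨hgbO, hgbU, hgbU'⟩ := hprop gb hgb
  obtain ⟨h, hh⟩ := extU_surj U U' hc gb (fun u hu => (hgbU u).mp hu) hgbU'
  have hhO : h ∈ oG (fun u : U => Q u) := by
    rw [← extU_mem_oG hQp U U' hc horth, hh]
    exact hgbO
  have hhp : h ^ ringChar F = 1 := by
    apply extU_injective U U' hc
    rw [extU_pow, hh, extU_one, ringChar_eq_card hp, ← hordV, pow_orderOf_eq_one]
  have hh1 : h ≠ 1 := by
    intro h1
    rw [h1, extU_one] at hh
    rw [← hh, orderOf_one] at hordV
    exact hp.one_lt.ne hordV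
  obtain ⟨u, z, hQu, hu0, huz, hsieg⟩ := hUNIP hnd h hhO hhp hh1
  have huz' : B (u : V) (z : V) = 0 := huz
  have hgbs : gb = sieg Q B (u : V) (z : V) := by
    rw [← hh, hsieg]
    exact extU_sieg hQs hQp U U' hc horth u z hQu huz'
  have hsG : sieg Q B (u : V) (z : V) ∈ G' := hgbs ▸ hgb
  have hu0' : (u : V) ≠ 0 := fun h0 => hu0 (Subtype.ext h0)
  have huu : B (u : V) (u : V) = 0 := by rw [B_self Q B hQs hQp, hQu, mul_zero]
  -- `z` is not a multiple of `u`
  have hzu : ∀ c : F, (z : V) ≠ c • (u : V) := by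
    intro c hc'
    have h1 : sieg Q B (u : V) (z : V) = 1 := by
      have := sieg_add_smul Q B hQs hQp hQu (z := 0) (by rw [map_zero]) c
      rw [zero_add, sieg_zero_right Q B hQs hQp hQu] at this
      rw [hc', this]
    rw [← hgbs] at h1
    rw [h1, orderOf_one] at hordV
    exact hp.one_lt.ne hordV
  -- a vector of `U` not orthogonal to `u`
  obtain ⟨v, hvU, huv⟩ : ∃ v ∈ U, B (u : V) v ≠ 0 := by
    by_contra hcon
    push Not at hcon
    exact hu0' (hUn u u.2 hcon)
  -- the full root group at `u`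
  have hInZ := Cfsg.Agent.Lib.Helper32_OFRoot.inZ_of_mem hQs hQp hp hQu huz' hsG
  have hZ0 : ∀ z' ∈ U, B (u : V) z' = 0 → sieg Q B (u : V) z' ∈ G' := by
    intro z' hz' huz''
    obtain ⟨α, γ, rfl⟩ := mem_span_pair_of_perp U hUd u.2 z.2 hvU huu huz' huv hu0' hzu hz' huz''
    have hγz : B (u : V) (γ • (z : V)) = 0 := by rw [map_smul, huz', smul_zero]
    rw [add_comm, sieg_add_smul Q B hQs hQp hQu hγz]
    exact hInZ.2 γ
  -- a second singular vector
  obtain ⟨a, haA, hua⟩ : ∃ a ∈ A, B (u : V) a ≠ 0 := by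
    by_contra hcon
    push Not at hcon
    apply hu0'
    apply hUn u u.2
    intro x hx
    rw [← hspan] at hx
    induction hx using Submodule.span_induction with
    | mem x hx => exact hcon x hx
    | zero => rw [map_zero]
    | add x y _ _ hx hy => rw [map_add, hx, hy, add_zero]
    | smul c x _ hx => rw [map_smul, hx, smul_zero]
  obtain ⟨haU, hQa⟩ := hA a haA
  have hRa : Rf Q B a ∈ G' := Subgroup.subset_closure ⟨a, haA, rfl⟩
  have hRaO : Rf Q B a ∈ oG Q := Rf_mem_oG Q B hQs hQp hQa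
  have hRaU : ∀ x, x ∈ U ↔ Rf Q B a x ∈ U := (hprop _ hRa).2.1
  have hRR : ∀ x, Rf Q B a (Rf Q B a x) = x := by
    intro x
    rw [← LinearEquiv.mul_apply, Rf_mul_self]
    rfl
  set u1 : V := Rf Q B a (u : V) with hu1
  have hu1U : u1 ∈ U := (hRaU _).mp u.2
  have hQu1 : Q u1 = 0 := by rw [hu1, hRaO, hQu]
  have hne : B (u : V) u1 ≠ 0 := by
    rw [hu1, Rf_apply Q B hQs hQp hQa, map_sub, map_smul, huu, zero_sub, neg_ne_zero, smul_eq_mul]
    exact mul_ne_zero (mul_ne_zero (inv_ne_zero hQa) hua) hua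
  have hZ1 : ∀ z' ∈ U, B u1 z' = 0 → sieg Q B u1 z' ∈ G' := by
    intro z' hz' hu1z'
    have h1 : B (u : V) (Rf Q B a z') = 0 := by
      have := oG_B Q B hQp hRaO u1 z'
      rw [hu1, hRR] at this
      rw [this, ← hu1]
      exact hu1z'
    have h3 := hZ0 _ ((hRaU z').mp hz') h1
    have h4 := conj_sieg Q B hQs hQp hRaO hQu h1
    rw [hRR, ← hu1] at h4
    rw [← h4]
    exact G'.mul_mem (G'.mul_mem hRa h3) (G'.inv_mem hRa)
  exact hROOT u.2 hu1U hQu hQu1 hne hZ0 hZ1

end Cfsg.Agent.Lib.Helper21_OFA_U3aux
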