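/-
S5679 + S5696 (orthogonal frames), CASE (A), market OFA (architect helper98), package ROOTTRANS
(proof helper64): two root groups of a nondegenerate 3-space generate all of them.
-/
import Mathlib
import Cfsg.Agent.Lib.Helper98_OFADefs

set_option autoImplicit false
set_option linter.unusedSectionVars false

namespace Cfsg.Agent.Lib.Helper64_OFA_ROOTTRANS

open Module Cfsg.Agent.Lib.Helper94_Symp Cfsg.Agent.Lib.Helper94_OrthSmall
  Cfsg.Agent.Lib.Helper94_OrthSiegel Cfsg.Agent.Lib.Helper32_OFDefs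
  Cfsg.Agent.Lib.Helper98_OFADefs

variable {F V : Type*} [Field F] [Finite F] [AddCommGroup V] [Module F V] [FiniteDimensional F V]
variable {Q : V → F} {B : LinearMap.BilinForm F V}

omit [Finite F] in
/-- coordinates in a nondegenerate 3-space with respect to a pair of non-orthogonal singular vectors -/
theorem frame3 (hQs : ∀ (a : F) (v : V), Q (a • v) = a * a * Q v)
    (hQp : ∀ u v : V, Q (u + v) = Q u + Q v + B u v)
    (U : Submodule F V) (hUd : finrank F U = 3)
    (hUn : ∀ u ∈ U, (∀ v ∈ U, B u v = 0) → u = 0)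
    {u0 u1 : V} (h0 : u0 ∈ U) (h1 : u1 ∈ U)
    (hQ0 : Q u0 = 0) (hQ1 : Q u1 = 0) (hne : B u0 u1 ≠ 0) :
    ∃ z0 ∈ U, B u0 z0 = 0 ∧ B u1 z0 = 0 ∧ Q z0 ≠ 0 ∧
      ∀ w ∈ U, ∃ γ α β : F, w = γ • u0 + α • u1 + β • z0 := by
  have hsymm := B_symm Q B hQp
  have h00 : B u0 u0 = 0 := by rw [B_self Q B hQs hQp, hQ0, mul_zero]
  have h11 : B u1 u1 = 0 := by rw [B_self Q B hQs hQp, hQ1, mul_zero]
  have h10 : B u1 u0 ≠ 0 := by rw [hsymm]; exact hne
  -- a non-zero vector orthogonal to `u0`, `u1`
  let φ : ↥U →ₗ[F] F × F := ((B u0).domRestrict U).prod ((B u1).domRestrict U)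
  have hker : LinearMap.ker φ ≠ ⊥ := by
    intro h
    have h3 := LinearMap.finrank_range_add_finrank_ker φ
    rw [h, finrank_bot, add_zero, hUd] at h3
    have h4 : finrank F ↥(LinearMap.range φ) ≤ finrank F (F × F) := Submodule.finrank_le _
    rw [finrank_prod, finrank_self] at h4
    omega
  obtain ⟨z, hz, hz0⟩ := Submodule.exists_mem_ne_zero_of_ne_bot hker
  have hz' : B u0 (z : V) = 0 ∧ B u1 (z : V) = 0 := by
    have := LinearMap.mem_ker.mp hz
    simpa [φ, Prod.ext_iff] using this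
  have hzV : (z : V) ≠ 0 := fun h => hz0 (Subtype.ext h)
  -- independence
  have hli : LinearIndependent F ![u0, u1, (z : V)] := by
    rw [Fintype.linearIndependent_iff]
    intro g hg
    rw [Fin.sum_univ_three] at hg
    simp only [Matrix.cons_val_zero, Matrix.cons_val_one, Matrix.cons_val_two, Matrix.head_cons,
      Matrix.tail_cons] at hg
    have e0 : g 0 = 0 := by
      have := congrArg (fun v => B u1 v) hg
      simp only [map_add, map_smul, smul_eq_mul, h11, hz'.2, mul_zero, add_zero, map_zero] at this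
      rcases mul_eq_zero.mp this with h | h
      · exact h
      · exact absurd h h10
    have e1 : g 1 = 0 := by
      have := congrArg (fun v => B u0 v) hg
      simp only [map_add, map_smul, smul_eq_mul, h00, hz'.1, mul_zero, add_zero, zero_add,
        map_zero] at this
      rcases mul_eq_zero.mp this with h | h
      · exact h
      · exact absurd h hne
    have e2 : g 2 = 0 := by
      rw [e0, e1, zero_smul, zero_smul, zero_add, zero_add] at hg
      rcases smul_eq_zero.mp hg with h | h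
      · exact h
      · exact absurd h hzV
    intro i
    fin_cases i
    · exact e0
    · exact e1
    · exact e2
  have hrange : Set.range ![u0, u1, (z : V)] = {u0, u1, (z : V)} := by
    ext u
    simp only [Set.mem_range, Set.mem_insert_iff, Set.mem_singleton_iff]
    constructor
    · rintro ⟨i, rfl⟩
      fin_cases i
      · left; rfl
      · right; left; rfl
      · right; right; rfl
    · rintro (rfl | rfl | rfl)
      · exact ⟨0, rfl⟩
      · exact ⟨1, rfl⟩
      · exact ⟨2, rfl⟩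
  have hle : Submodule.span F {u0, u1, (z : V)} ≤ U := by
    rw [Submodule.span_le]
    intro u hu
    simp only [Set.mem_insert_iff, Set.mem_singleton_iff] at hu
    rcases hu with rfl | rfl | rfl
    · exact h0
    · exact h1
    · exact z.2
  have hfs : finrank F ↥(Submodule.span F {u0, u1, (z : V)}) = 3 := by
    rw [← hrange, finrank_span_eq_card hli]
    rfl
  have hspan : Submodule.span F {u0, u1, (z : V)} = U :=
    Submodule.eq_of_le_of_finrank_le hle (by omega)
  have hdec : ∀ w ∈ U, ∃ γ α β : F, w = γ • u0 + α • u1 + β • (z : V) := by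
    intro w hw
    rw [← hspan] at hw
    obtain ⟨γ, α, β, rfl⟩ := Submodule.mem_span_triple.1 hw
    exact ⟨γ, α, β, rfl⟩
  refine ⟨(z : V), z.2, hz'.1, hz'.2, ?_, hdec⟩
  intro hQz
  apply hzV
  apply hUn _ z.2
  intro v hv
  obtain ⟨γ, α, β, rfl⟩ := hdec v hv
  have hzz : B (z : V) (z : V) = 0 := by rw [B_self Q B hQs hQp, hQz, mul_zero]
  rw [map_add, map_add, map_smul, map_smul, map_smul, hsymm (z : V) u0, hsymm (z : V) u1, hz'.1,
    hz'.2, hzz]
  simp

omit [Finite F] [FiniteDimensional F V] in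
/-- Siegel elements with parameters in `U` preserve `U` -/
theorem sieg_mem_sub (hQs : ∀ (a : F) (v : V), Q (a • v) = a * a * Q v)
    (hQp : ∀ u v : V, Q (u + v) = Q u + Q v + B u v) (U : Submodule F V) {u z x : V}
    (hu : u ∈ U) (hz : z ∈ U) (hx : x ∈ U) (hQu : Q u = 0) (huz : B u z = 0) :
    sieg Q B u z x ∈ U := by
  rw [sieg_apply Q B hQs hQp hQu huz]
  exact U.sub_mem (U.sub_mem (U.add_mem hx (U.smul_mem _ hz)) (U.smul_mem _ hu)) (U.smul_mem _ hu)

omit [Finite F] [FiniteDimensional F V] in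
theorem apply_inv_apply_loc (g : V ≃ₗ[F] V) (x : V) : g (g⁻¹ x) = x := by
  rw [← LinearEquiv.mul_apply, mul_inv_cancel]
  rfl

/-- OFA-ROOTTRANS (M/L).  Two root groups of a nondegenerate 3-space generate all of them. -/
theorem ROOTTRANS (hQs : ∀ (a : F) (v : V), Q (a • v) = a * a * Q v)
    (hQp : ∀ u v : V, Q (u + v) = Q u + Q v + B u v) (h2 : (2 : F) ≠ 0)
    (U : Submodule F V) (hUd : finrank F U = 3)
    (hUn : ∀ u ∈ U, (∀ v ∈ U, B u v = 0) → u = 0)
    (M : Subgroup (V ≃ₗ[F] V)) (hM : M ≤ oG Q) {u0 u1 : V} (h0 : u0 ∈ U) (h1 : u1 ∈ U)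
    (hQ0 : Q u0 = 0) (hQ1 : Q u1 = 0) (hne : B u0 u1 ≠ 0)
    (hZ0 : ∀ z ∈ U, B u0 z = 0 → sieg Q B u0 z ∈ M)
    (hZ1 : ∀ z ∈ U, B u1 z = 0 → sieg Q B u1 z ∈ M) :
    ∀ w ∈ U, Q w = 0 → ∀ z ∈ U, B w z = 0 → sieg Q B w z ∈ M := by
  obtain ⟨z0, hz0U, hz0a, hz0b, hd, hdec⟩ := frame3 hQs hQp U hUd hUn h0 h1 hQ0 hQ1 hne
  have hsymm := B_symm Q B hQp
  intro w hw hQw z hz hwz
  obtain ⟨γ, α, β, rfl⟩ := hdec w hw
  have hQw' : γ * α * B u0 u1 + β * β * Q z0 = 0 := by
    rw [← hQw, hQp, hQp, hQs, hQs, hQs, hQ0, hQ1]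
    simp only [map_add, map_smul, LinearMap.add_apply, LinearMap.smul_apply, smul_eq_mul, hz0a,
      hz0b]
    ring
  by_cases hα : α = 0
  · -- `w` is a multiple of `u0`
    simp only [hα, mul_zero, zero_mul, zero_add] at hQw'
    have hβ : β = 0 := by
      rcases mul_eq_zero.mp hQw' with h | h
      · exact mul_self_eq_zero.mp h
      · exact absurd h hd
    have hw' : γ • u0 + α • u1 + β • z0 = γ • u0 := by rw [hα, hβ]; simp
    rw [hw'] at hwz ⊢
    by_cases hγ : γ = 0
    · rw [hγ, zero_smul, sieg_zero_left Q B hQs hQp]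
      exact M.one_mem
    · have hu0z : B u0 z = 0 := by
        rw [map_smul, LinearMap.smul_apply, smul_eq_mul] at hwz
        rcases mul_eq_zero.mp hwz with h | h
        · exact absurd h hγ
        · exact h
      rw [sieg_smul_left Q B hQs hQp hQ0 hu0z γ]
      exact hZ0 _ (U.smul_mem _ hz) (by rw [map_smul, hu0z, smul_zero])
  · -- move `u1` to `w / α` by an element of the root group of `u0`
    set b := B u0 u1 with hb
    set d := Q z0 with hdd
    set lam : F := β * (α * b)⁻¹ with hlam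
    have hu0lz : B u0 (lam • z0) = 0 := by rw [map_smul, hz0a, smul_zero]
    set σ := sieg Q B u0 (lam • z0) with hσ
    have hσM : σ ∈ M := hZ0 _ (U.smul_mem _ hz0U) hu0lz
    have hσO : σ ∈ oG Q := hM hσM
    have hσu1 : σ u1 = u1 + (lam * b) • z0 - (lam * lam * d * b) • u0 := by
      rw [hσ, sieg_apply Q B hQs hQp hQ0 hu0lz, hsymm u1 u0, map_smul, hz0b, hQs]
      module
    have hβe : α * (lam * b) = β := by
      rw [hlam]; field_simp
    have hγe : -(α * (lam * lam * d * b)) = γ := by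
      rw [hlam]
      field_simp
      linear_combination (-1 : F) * hQw'
    have hweq : γ • u0 + α • u1 + β • z0 = α • σ u1 := by
      rw [hσu1, ← hβe, ← hγe]
      module
    rw [hweq] at hwz ⊢
    have hQσ : Q (σ u1) = 0 := by rw [hσO, hQ1]
    have hσz : B (σ u1) z = 0 := by
      rw [map_smul, LinearMap.smul_apply, smul_eq_mul] at hwz
      rcases mul_eq_zero.mp hwz with h | h
      · exact absurd h hα
      · exact h
    rw [sieg_smul_left Q B hQs hQp hQσ hσz α]
    set z' := σ⁻¹ (α • z) with hz'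
    have hσz' : σ z' = α • z := apply_inv_apply_loc σ _
    have hu1z' : B u1 z' = 0 := by
      rw [← oG_B Q B hQp hσO, hσz', map_smul, hσz, smul_zero]
    have hz'U : z' ∈ U := by
      rw [hz', hσ, sieg_inv Q B hQs hQp hQ0 hu0lz]
      exact sieg_mem_sub hQs hQp U h0 (U.neg_mem (U.smul_mem _ hz0U)) (U.smul_mem _ hz) hQ0
        (by rw [map_neg, hu0lz, neg_zero])
    have hconj := conj_sieg Q B hQs hQp hσO hQ1 hu1z'
    rw [hσz'] at hconj
    rw [← hconj]
    exact M.mul_mem (M.mul_mem hσM (hZ1 z' hz'U hu1z')) (M.inv_mem hσM)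

end Cfsg.Agent.Lib.Helper64_OFA_ROOTTRANS
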