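import Mathlib
import Cfsg.Agent.Lib.Helper98_OFADefs

/-!
Package OFA-UNIP (architect helper98): an isometry of order `p` (the characteristic) of a 3-dimensional nondegenerate
quadratic space is a Siegel element.
-/

set_option autoImplicit false
set_option linter.unusedSectionVars false

namespace Cfsg.Agent.Lib.Helper93_OFA_UNIP

open Module Cfsg.Agent.Lib.Helper94_Symp Cfsg.Agent.Lib.Helper94_OrthSmall
  Cfsg.Agent.Lib.Helper94_OrthSiegel Cfsg.Agent.Lib.Helper32_OFDefs
  Cfsg.Agent.Lib.Helper98_OFADefs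

section S3

variable {F : Type*} [Field F] [Finite F]
variable {W : Type*} [AddCommGroup W] [Module F W] [FiniteDimensional F W]
variable {Qw : W → F} {Bw : LinearMap.BilinForm F W}

theorem coe_pow_linearEquiv (g : W ≃ₗ[F] W) (n : ℕ) :
    ((g ^ n : W ≃ₗ[F] W) : W →ₗ[F] W) = (g : W →ₗ[F] W) ^ n := by
  induction n with
  | zero => rfl
  | succ n ih => rw [pow_succ, pow_succ, LinearEquiv.coe_toLinearMap_mul, ih]

/-- `g - 1` is nilpotent of exponent `3` when `g ^ p = 1`. -/
theorem sub_one_pow_three (hd : finrank F W = 3) (g : W ≃ₗ[F] W) (hgp : g ^ ringChar F = 1) :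
    ((g : W →ₗ[F] W) - 1) ^ 3 = 0 := by
  have hchar : CharP F (ringChar F) := ringChar.charP F
  have hp : (ringChar F).Prime := CharP.char_is_prime F (ringChar F)
  have : Fact (ringChar F).Prime := ⟨hp⟩
  have hpoly : (Polynomial.X - 1 : Polynomial F) ^ ringChar F = Polynomial.X ^ ringChar F - 1 := by
    rw [sub_pow_char, one_pow]
  have h1 := congrArg (Polynomial.aeval (g : W →ₗ[F] W)) hpoly
  simp only [map_sub, map_pow, Polynomial.aeval_X, map_one] at h1
  rw [← coe_pow_linearEquiv, hgp] at h1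
  have h2 : ((g : W →ₗ[F] W) - 1) ^ ringChar F = 0 := by
    rw [h1]
    exact sub_self _
  have hnil : IsNilpotent ((g : W →ₗ[F] W) - 1) := ⟨_, h2⟩
  have hcp := IsNilpotent.charpoly_eq_X_pow_finrank hnil
  have h3 := ((g : W →ₗ[F] W) - 1).aeval_self_charpoly
  rw [hcp, map_pow, Polynomial.aeval_X, hd] at h3
  exact h3


/-- A nilpotent (exponent 3) endomorphism has a nonzero kernel vector in every nonzero invariant
subspace. -/
theorem exists_ker_of_invariant (f : W →ₗ[F] W) (hf3 : ∀ x, f (f (f x)) = 0) (S : Submodule F W)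
    (hS : ∀ x ∈ S, f x ∈ S) {s : W} (hs : s ∈ S) (hs0 : s ≠ 0) :
    ∃ a ∈ S, a ≠ 0 ∧ f a = 0 := by
  by_cases h1 : f s = 0
  · exact ⟨s, hs, hs0, h1⟩
  by_cases h2 : f (f s) = 0
  · exact ⟨f s, hS s hs, h1, h2⟩
  · exact ⟨f (f s), hS _ (hS s hs), h2, hf3 s⟩

/-- OFA-UNIP (L).  An isometry of order `p` of a nondegenerate 3-dimensional quadratic space is a
Siegel element. -/
theorem UNIP (hQs : ∀ (a : F) (v : W), Qw (a • v) = a * a * Qw v)
    (hQp : ∀ u v : W, Qw (u + v) = Qw u + Qw v + Bw u v) (h2 : (2 : F) ≠ 0)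
    (hN : Bw.Nondegenerate) (hd : finrank F W = 3) (g : W ≃ₗ[F] W) (hg : g ∈ oG Qw)
    (hgp : g ^ ringChar F = 1) (hg1 : g ≠ 1) :
    ∃ u z : W, Qw u = 0 ∧ u ≠ 0 ∧ Bw u z = 0 ∧ g = sieg Qw Bw u z := by
  set f : W →ₗ[F] W := (g : W →ₗ[F] W) - 1 with hf
  have hfa : ∀ x, f x = g x - x := fun x => by simp [hf]
  have hga : ∀ x, g x = x + f x := fun x => by rw [hfa]; abel
  have hf3 : ∀ x, f (f (f x)) = 0 := by
    intro x
    have h : f ^ 3 = 0 := sub_one_pow_three hd g hgp
    have h' : (f ^ 3) x = 0 := by rw [h]; rfl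
    simpa only [pow_succ, pow_zero, one_mul, Module.End.mul_apply] using h'
  set K := LinearMap.ker f with hK
  set I := LinearMap.range f with hI
  have hmemK : ∀ x, x ∈ K ↔ f x = 0 := fun x => LinearMap.mem_ker
  have hsymm := B_symm Qw Bw hQp
  -- (F1)
  have hF1 : ∀ x, Qw (f x) = - Bw x (f x) := by
    intro x
    have h1 := hg x
    rw [hga, hQp] at h1
    linear_combination h1
  -- `I ≤ K^⊥`
  have horthB : ∀ n ∈ K, ∀ w, Bw n (f w) = 0 := by
    intro n hn w
    have hgn : g n = n := by rw [hga, (hmemK n).mp hn, add_zero]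
    rw [hfa, map_sub]
    have := oG_B Qw Bw hQp hg n w
    rw [hgn] at this
    rw [this, sub_self]
  have horth : I ≤ Bw.orthogonal K := by
    rintro x ⟨w, rfl⟩
    rw [LinearMap.BilinForm.mem_orthogonal_iff]
    intro n hn
    exact horthB n hn w
  have hrn : finrank F I + finrank F K = 3 := by
    rw [← hd]
    exact LinearMap.finrank_range_add_finrank_ker f
  have hSI : ∀ x ∈ I, f x ∈ I := fun x _ => ⟨x, rfl⟩
  have hnt : Nontrivial W := Module.nontrivial_of_finrank_pos (R := F) (by rw [hd]; norm_num)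
  -- `K ≠ ⊥`
  have hK0 : finrank F K ≠ 0 := by
    intro h
    have hKbot : K = ⊥ := Submodule.finrank_eq_zero.mp h
    obtain ⟨s, hs0⟩ := exists_ne (0 : W)
    obtain ⟨a, -, ha0, hfa0⟩ := exists_ker_of_invariant f hf3 ⊤ (fun _ _ => Submodule.mem_top)
      (Submodule.mem_top : s ∈ ⊤) hs0
    have : a ∈ K := (hmemK a).mpr hfa0
    rw [hKbot] at this
    exact ha0 ((Submodule.mem_bot F).mp this)
  have hK3 : finrank F K ≠ 3 := by
    intro h
    have : K = ⊤ := Submodule.eq_top_of_finrank_eq (by rw [h, hd])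
    apply hg1
    ext x
    have hx : x ∈ K := by rw [this]; exact Submodule.mem_top
    rw [hga, (hmemK x).mp hx, add_zero]
    rfl
  -- a nonzero vector of `K ⊓ I`
  have hIne : ∃ s ∈ I, s ≠ 0 := by
    by_contra hcon
    push Not at hcon
    have : I = ⊥ := by
      rw [Submodule.eq_bot_iff]
      exact hcon
    have : finrank F I = 0 := by rw [this]; exact finrank_bot F W
    omega
  obtain ⟨s, hsI, hs0⟩ := hIne
  obtain ⟨u, huI, hu0, hfu⟩ := exists_ker_of_invariant f hf3 I hSI hsI hs0
  have huK : u ∈ K := (hmemK u).mpr hfu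
  have hBuu : Bw u u = 0 := by
    obtain ⟨w, hw⟩ := huI
    have := horthB u huK w
    rw [hw] at this
    exact this
  have hQu : Qw u = 0 := by
    rw [B_self Qw Bw hQs hQp] at hBuu
    rcases mul_eq_zero.mp hBuu with h | h
    · exact absurd h h2
    · exact h
  -- `finrank K ≠ 2`
  have hK2 : finrank F K ≠ 2 := by
    intro h
    have hI1 : finrank F I = 1 := by omega
    have hspanI := (finrank_eq_one_iff_of_nonzero' (⟨u, huI⟩ : I)
      (fun h => hu0 (congrArg Subtype.val h))).mp hI1
    obtain ⟨x0, hx0⟩ := huI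
    have hBx0 : Bw x0 u = 0 := by
      have := hF1 x0
      rw [hx0, hQu] at this
      linear_combination this
    -- `K = I^⊥`
    have hKle : K ≤ Bw.orthogonal I := by
      intro n hn
      rw [LinearMap.BilinForm.mem_orthogonal_iff]
      rintro m ⟨w, rfl⟩
      show Bw (f w) n = 0
      rw [hsymm]
      exact horthB n hn w
    have hKeq : K = Bw.orthogonal I := by
      apply Submodule.eq_of_le_of_finrank_eq hKle
      have := LinearMap.BilinForm.finrank_orthogonal hN I
      omega
    have hx0K : x0 ∈ K := by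
      rw [hKeq, LinearMap.BilinForm.mem_orthogonal_iff]
      intro m hm
      obtain ⟨c, hc⟩ := hspanI ⟨m, hm⟩
      have hc' : m = c • u := by
        have := congrArg Subtype.val hc
        simpa using this.symm
      show Bw m x0 = 0
      rw [hc', map_smul, LinearMap.smul_apply, hsymm, hBx0, smul_zero]
    apply hu0
    rw [← hx0]
    exact (hmemK x0).mp hx0K
  have hK1 : finrank F K = 1 := by
    have : finrank F K ≤ 3 := by omega
    omega
  have hI2 : finrank F I = 2 := by omega
  have hspanK := (finrank_eq_one_iff_of_nonzero' (⟨u, huK⟩ : K)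
    (fun h => hu0 (congrArg Subtype.val h))).mp hK1
  have hKu : ∀ n ∈ K, ∃ c : F, n = c • u := by
    intro n hn
    obtain ⟨c, hc⟩ := hspanK ⟨n, hn⟩
    refine ⟨c, ?_⟩
    have := congrArg Subtype.val hc
    simpa using this.symm
  have hIeq : I = Bw.orthogonal K := by
    apply Submodule.eq_of_le_of_finrank_eq horth
    rw [LinearMap.BilinForm.finrank_orthogonal hN, hd, hK1, hI2]
  have hmemI : ∀ x, Bw x u = 0 → x ∈ I := by
    intro x hx
    rw [hIeq, LinearMap.BilinForm.mem_orthogonal_iff]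
    intro n hn
    obtain ⟨c, rfl⟩ := hKu n hn
    show Bw (c • u) x = 0
    rw [map_smul, LinearMap.smul_apply, hsymm, hx, smul_zero]
  -- `v` with `B v u = 1`
  obtain ⟨v0, hv0⟩ : ∃ v0, Bw v0 u ≠ 0 := by
    by_contra hcon
    push Not at hcon
    exact hu0 (hN.2 u hcon)
  set v := (Bw v0 u)⁻¹ • v0 with hv
  have hBvu : Bw v u = 1 := by
    rw [hv, map_smul, LinearMap.smul_apply, smul_eq_mul, inv_mul_cancel₀ hv0]
  set z := f v with hz
  have hBuz : Bw u z = 0 := horthB u huK v
  have hQz : Qw z = - Bw v z := hF1 v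
  -- the formula for `f`
  have hform : ∀ x, f x = Bw x u • z - (Bw x z + Qw z * Bw x u) • u := by
    intro x
    set t := Bw x u with ht
    set x' := x - t • v with hx'
    have hBx'u : Bw x' u = 0 := by
      rw [hx', map_sub, LinearMap.sub_apply, map_smul, LinearMap.smul_apply, hBvu, smul_eq_mul,
        mul_one, ← ht, sub_self]
    have hx'I : x' ∈ I := hmemI x' hBx'u
    have hfx'K : f x' ∈ K := by
      obtain ⟨y, hy⟩ := hx'I
      rw [hmemK, ← hy]
      exact hf3 y
    obtain ⟨l, hl⟩ := hKu _ hfx'K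
    have hiso := oG_B Qw Bw hQp hg x' v
    rw [hga x', hga v, hl, ← hz] at hiso
    simp only [map_add, LinearMap.add_apply, map_smul, LinearMap.smul_apply, smul_eq_mul] at hiso
    rw [hBuz, hsymm u v, hBvu] at hiso
    have hl' : l = - Bw x' z := by linear_combination hiso
    have hBx'z : Bw x' z = Bw x z + t * Qw z := by
      rw [hx', map_sub, LinearMap.sub_apply, map_smul, LinearMap.smul_apply, smul_eq_mul, hQz]
      ring
    have hx : x = x' + t • v := by rw [hx']; abel
    have hfx : f x = f x' + t • z := by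
      conv_lhs => rw [hx]
      rw [map_add, map_smul]
    rw [hfx, hl, hl', hBx'z]
    module
  refine ⟨u, z, hQu, hu0, hBuz, ?_⟩
  ext x
  rw [sieg_apply Qw Bw hQs hQp hQu hBuz, hga, hform]
  module

end S3

end Cfsg.Agent.Lib.Helper93_OFA_UNIP
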