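import Mathlib
import Cfsg.Agent.Lib.Helper98_OFADefs
import Cfsg.Agent.Lib.Helper21_OFA_U3aux
import Cfsg.Agent.Lib.Helper64_OFA_ROOTTRANS
import Cfsg.Agent.Lib.Helper93_OFA_UNIP

/-!
# OFA-U3 (verbatim package)

Assembles `Helper21_OFA_U3aux.U3_of` with the packages `UNIP` (helper93) and `ROOTTRANS`
(helper64).
-/

set_option autoImplicit false

namespace Cfsg.Agent.Lib.Helper21_OFA_U3

open Module Cfsg.Agent.Lib.Helper94_Symp Cfsg.Agent.Lib.Helper94_OrthSmall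
  Cfsg.Agent.Lib.Helper94_OrthSiegel Cfsg.Agent.Lib.Helper32_OFDefs
  Cfsg.Agent.Lib.Helper98_OFADefs

variable {F V : Type*} [Field F] [Finite F] [AddCommGroup V] [Module F V] [FiniteDimensional F V]
variable {Q : V → F} {B : LinearMap.BilinForm F V}

/-- OFA-U3 (L).  A group generated by reflections of a nondegenerate 3-space `U`, of order
divisible by `p`, contains all Siegel elements of `U`. -/
theorem U3 (hp : (Nat.card F).Prime) (hQs : ∀ (a : F) (v : V), Q (a • v) = a * a * Q v)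
    (hQp : ∀ u v : V, Q (u + v) = Q u + Q v + B u v) (h2 : (2 : F) ≠ 0)
    (U : Submodule F V) (hUd : finrank F U = 3)
    (hUn : ∀ u ∈ U, (∀ v ∈ U, B u v = 0) → u = 0)
    (A : Set V) (hA : ∀ a ∈ A, a ∈ U ∧ Q a ≠ 0) (hspan : Submodule.span F A = U)
    (hdiv : Nat.card F ∣ Nat.card (Subgroup.closure (Rf Q B '' A))) :
    ∀ w ∈ U, Q w = 0 → ∀ z ∈ U, B w z = 0 →
      sieg Q B w z ∈ Subgroup.closure (Rf Q B '' A) := by
  have hM : Subgroup.closure (Rf Q B '' A) ≤ oG Q := by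
    rw [Subgroup.closure_le]
    rintro _ ⟨a, haA, rfl⟩
    exact Rf_mem_oG Q B hQs hQp (hA a haA).2
  refine Cfsg.Agent.Lib.Helper21_OFA_U3aux.U3_of hp hQs hQp h2 U hUd hUn A hA hspan hdiv ?_ ?_
  · intro hN g hg hgp hg1
    exact Cfsg.Agent.Lib.Helper93_OFA_UNIP.UNIP (Qw := fun u : U => Q u) (Bw := B.restrict U)
      (fun a v => hQs a v) (fun x y => hQp x y) h2 hN hUd g hg hgp hg1
  · intro u0 u1 h0 h1 hQ0 hQ1 hne hZ0 hZ1
    exact Cfsg.Agent.Lib.Helper64_OFA_ROOTTRANS.ROOTTRANS hQs hQp h2 U hUd hUn _ hM h0 h1 hQ0 hQ1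
      hne hZ0 hZ1

end Cfsg.Agent.Lib.Helper21_OFA_U3
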