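import Mathlib
import Cfsg.Agent.Lib.Helper32_OFDefs

/-!
OF-FUS (core): the fusion argument for orthogonal frames (helper32's market, rows S5679 + S5696),
with the statements of OF-API and OF-DIH as explicit hypotheses.
-/

set_option autoImplicit false
set_option linter.unusedSectionVars false
set_option linter.unusedVariables false

namespace Cfsg.Agent.Lib.Helper21_OF_FUScore

open Module Cfsg.Agent.Lib.Helper94_Symp Cfsg.Agent.Lib.Helper94_OrthSmall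
  Cfsg.Agent.Lib.Helper32_OFDefs

variable {F V : Type*} [Field F] [AddCommGroup V] [Module F V]
variable {Q : V → F} {B : LinearMap.BilinForm F V}
variable {ι : Type*} [Fintype ι] [DecidableEq ι] {c : F} {e : ι → V}
variable {M : Subgroup (V ≃ₗ[F] V)}

lemma exists_two_notMem (J : Finset ι) (h : J.card + 2 ≤ Fintype.card ι) :
    ∃ a b : ι, a ≠ b ∧ a ∉ J ∧ b ∉ J := by
  have h1 : 1 < Jᶜ.card := by
    rw [Finset.card_compl]; omega
  obtain ⟨a, ha, b, hb, hab⟩ := Finset.one_lt_card.mp h1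
  exact ⟨a, b, hab, Finset.mem_compl.mp ha, Finset.mem_compl.mp hb⟩

/-- (Z) -/
lemma propZ (hB : PropB B e M) {k : V ≃ₗ[F] V} (hk : k ∈ M) (J : Finset ι) (hJ : J.Nonempty)
    (h2 : J.card + 2 ≤ Fintype.card ι)
    (h0 : ∀ a, a ∉ J → ∀ l ∈ J, B (k (e a)) (e l) = 0) : IsMon e k := by
  obtain ⟨l, hl⟩ := hJ
  obtain ⟨a, b, hab, ha, hb⟩ := exists_two_notMem J h2
  exact hB k hk a b l hab (h0 a ha l hl) (h0 b hb l hl)

lemma zero_of_comm (hfr : OFr Q B c e)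
    (h3 : ∀ (J : Finset ι) (v : V), zJ B c e J v = v ↔ ∀ j ∈ J, B v (e j) = 0)
    {k : V ≃ₗ[F] V} (J J' : Finset ι) (hk : zJ B c e J * k = k * zJ B c e J') :
    ∀ a, a ∉ J' → ∀ l ∈ J, B (k (e a)) (e l) = 0 := by
  intro a ha
  have h : zJ B c e J (k (e a)) = k (e a) := by
    have h' := congrArg (fun f : V ≃ₗ[F] V => f (e a)) hk
    simp only [LinearEquiv.mul_apply] at h'
    rw [h', hfr.zJ_e_not_mem ha]
  exact (h3 J _).mp h

lemma conj_eq_zJ (hC : CCtx Q B c e M) (hVJ : PropVJ B c e M)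
    (h5 : ∀ g : V ≃ₗ[F] V, g ∈ oG Q → IsMon e g → ∀ J : Finset ι,
      ∃ J' : Finset ι, J'.card = J.card ∧ g * zJ B c e J * g⁻¹ = zJ B c e J')
    {h : V ≃ₗ[F] V} (hh : h ∈ M) (J : Finset ι) (hJ : J.Nonempty) (hJ4 : J.card ≤ 4)
    (hmon : IsMon e (h * zJ B c e J * h⁻¹)) :
    ∃ J' : Finset ι, J'.card = J.card ∧ h * zJ B c e J * h⁻¹ = zJ B c e J' :=
  h5 h (hC.hMO hh) (hVJ h hh J hJ hJ4 hmon) J

lemma card_symmDiff_le' (J J' : Finset ι) : (symmDiff J J').card ≤ J.card + J'.card := by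
  calc (symmDiff J J').card ≤ (J ∪ J').card := Finset.card_le_card (by
        intro x hx
        rw [Finset.mem_symmDiff] at hx
        rw [Finset.mem_union]
        rcases hx with hx | hx
        · exact Or.inl hx.1
        · exact Or.inr hx.1)
    _ ≤ J.card + J'.card := Finset.card_union_le _ _

/-- OF-FUS with OF-API and OF-DIH as hypotheses. -/
theorem FUS_core [Finite F] [FiniteDimensional F V] (hC : CCtx Q B c e M)
    (hn : 13 ≤ Fintype.card ι) (hVJ : PropVJ B c e M) (hB : PropB B e M)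
    (hAPI : (∀ J J' : Finset ι, zJ B c e J * zJ B c e J' = zJ B c e (symmDiff J J')) ∧
      (∀ J J' : Finset ι, zJ B c e J = zJ B c e J' → J = J') ∧
      (∀ (J : Finset ι) (v : V), zJ B c e J v = v ↔ ∀ j ∈ J, B v (e j) = 0) ∧
      (∀ (J : Finset ι) (v : V), zJ B c e J v = -v ↔ ∀ i, i ∉ J → B v (e i) = 0) ∧
      (∀ g : V ≃ₗ[F] V, g ∈ oG Q → IsMon e g → ∀ J : Finset ι,
        ∃ J' : Finset ι, J'.card = J.card ∧ g * zJ B c e J * g⁻¹ = zJ B c e J') ∧
      (∀ g : V ≃ₗ[F] V, g ∈ oG Q → ∀ x y : V, B (g⁻¹ x) y = B x (g y)) ∧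
      (∀ (g : V ≃ₗ[F] V) (J : Finset ι) (x : V),
        x - (g * zJ B c e J * g⁻¹) x ∈ Submodule.span F ((fun j => g (e j)) '' (J : Set ι))))
    (hDIH : ∀ z s : V ≃ₗ[F] V, z * z = 1 → s * s = 1 → IsOfFinOrder (z * s) →
      (∃ d ∈ Subgroup.closure ({z, s} : Set (V ≃ₗ[F] V)), d * z * d⁻¹ = s) ∨
      (∃ c ∈ Subgroup.closure ({z, s} : Set (V ≃ₗ[F] V)), c ≠ 1 ∧ c * c = 1 ∧ c * z = z * c ∧
        c * s = s * c ∧
        (∃ d ∈ Subgroup.closure ({z, s} : Set (V ≃ₗ[F] V)),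
          z * c = d * z * d⁻¹ ∨ z * c = d * s * d⁻¹) ∧
        (∃ d ∈ Subgroup.closure ({z, s} : Set (V ≃ₗ[F] V)),
          s * c = d * s * d⁻¹ ∨ s * c = d * z * d⁻¹))) :
    ∀ g ∈ M, IsMon e g := by
  obtain ⟨h1, h2, h3, -, h5, -, -⟩ := hAPI
  have hfr := hC.fr
  intro g hg
  by_contra hgm
  -- four distinct indices
  obtain ⟨f⟩ := Function.Embedding.nonempty_of_card_le (α := Fin 13) (β := ι)
    (by simpa using hn)
  have hne : ∀ a b : Fin 13, a ≠ b → f a ≠ f b := fun a b hab h => hab (f.injective h)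
  obtain ⟨i1, i2, i3, i4, h12, h13, h14, h23, h24, h34⟩ :
      ∃ i1 i2 i3 i4 : ι, i1 ≠ i2 ∧ i1 ≠ i3 ∧ i1 ≠ i4 ∧ i2 ≠ i3 ∧ i2 ≠ i4 ∧ i3 ≠ i4 :=
    ⟨f 0, f 1, f 2, f 3, hne _ _ (by decide), hne _ _ (by decide), hne _ _ (by decide),
      hne _ _ (by decide), hne _ _ (by decide), hne _ _ (by decide)⟩
  obtain ⟨Jz, hJz⟩ : ∃ Jz : Finset ι, Jz = {i1, i2} := ⟨_, rfl⟩
  obtain ⟨J0, hJ0⟩ : ∃ J0 : Finset ι, J0 = {i1, i2, i3, i4} := ⟨_, rfl⟩
  have hJzc : Jz.card = 2 := by rw [hJz]; exact Finset.card_pair h12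
  have hJ0c : J0.card = 4 := by
    rw [hJ0]
    rw [Finset.card_insert_of_notMem, Finset.card_insert_of_notMem, Finset.card_pair h34]
    · simp [h23, h24]
    · simp [h12, h13, h14]
  have hJzne : Jz.Nonempty := Finset.card_pos.mp (by omega)
  have hJ0ne : J0.Nonempty := Finset.card_pos.mp (by omega)
  have hsd : symmDiff ({i1, i2} : Finset ι) {i3, i4} = J0 := by
    rw [hJ0]
    ext x
    simp only [Finset.mem_symmDiff, Finset.mem_insert, Finset.mem_singleton]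
    constructor
    · rintro (⟨h, -⟩ | ⟨h, -⟩)
      · rcases h with h | h
        · exact Or.inl h
        · exact Or.inr (Or.inl h)
      · rcases h with h | h
        · exact Or.inr (Or.inr (Or.inl h))
        · exact Or.inr (Or.inr (Or.inr h))
    · rintro (h | h | h | h)
      · left; refine ⟨Or.inl h, ?_⟩; rw [h]; rintro (h' | h'); exacts [h13 h', h14 h']
      · left; refine ⟨Or.inr h, ?_⟩; rw [h]; rintro (h' | h'); exacts [h23 h', h24 h']
      · right; refine ⟨Or.inl h, ?_⟩; rw [h]; rintro (h' | h'); exacts [h13 h'.symm, h23 h'.symm]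
      · right; refine ⟨Or.inr h, ?_⟩; rw [h]; rintro (h' | h'); exacts [h14 h'.symm, h24 h'.symm]
  obtain ⟨z, hz⟩ : ∃ z : V ≃ₗ[F] V, z = zJ B c e Jz := ⟨_, rfl⟩
  obtain ⟨s0, hs0⟩ : ∃ s0 : V ≃ₗ[F] V, s0 = zJ B c e J0 := ⟨_, rfl⟩
  have hzM : z ∈ M := by rw [hz, hJz]; exact hC.mon.hz i1 i2 h12
  have hs0M : s0 ∈ M := by
    rw [hs0, ← hsd, ← h1]
    exact M.mul_mem (hC.mon.hz i1 i2 h12) (hC.mon.hz i3 i4 h34)
  have hzz : z * z = 1 := by rw [hz]; exact hfr.zJ_mul_self _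
  have hs0s0 : s0 * s0 = 1 := by rw [hs0]; exact hfr.zJ_mul_self _
  obtain ⟨s, hs⟩ : ∃ s : V ≃ₗ[F] V, s = g * s0 * g⁻¹ := ⟨_, rfl⟩
  have hsM : s ∈ M := by rw [hs]; exact M.mul_mem (M.mul_mem hg hs0M) (M.inv_mem hg)
  have hss : s * s = 1 := by
    have : s * s = g * (s0 * s0) * g⁻¹ := by rw [hs]; group
    rw [this, hs0s0]; group
  -- finiteness
  have : Finite V := Module.finite_of_finite F
  have : Finite (V ≃ₗ[F] V) :=
    Finite.of_injective (fun f : V ≃ₗ[F] V => (f : V → V)) DFunLike.coe_injective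
  have hfin : IsOfFinOrder (z * s) := isOfFinOrder_of_finite _
  have hcl : Subgroup.closure ({z, s} : Set (V ≃ₗ[F] V)) ≤ M := by
    rw [Subgroup.closure_le]
    intro x hx
    rcases hx with hx | hx
    · rw [hx]; exact hzM
    · rw [Set.mem_singleton_iff.mp hx]; exact hsM
  have hcard2 : Jz.card + 2 ≤ Fintype.card ι := by omega
  have hcard4 : J0.card + 2 ≤ Fintype.card ι := by omega
  rcases hDIH z s hzz hss hfin with ⟨d, hd, hdz⟩ | ⟨cc, hcm, hc1, hcc, hcz, hcs, ⟨d, hd, hdz⟩,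
    ⟨d', hd', hds⟩⟩
  · -- (i)
    have hdM := hcl hd
    have hconj : (d⁻¹ * g) * zJ B c e J0 * (d⁻¹ * g)⁻¹ = zJ B c e Jz := by
      rw [← hs0, ← hz]
      have : (d⁻¹ * g) * s0 * (d⁻¹ * g)⁻¹ = d⁻¹ * (g * s0 * g⁻¹) * d := by group
      rw [this, ← hs, ← hdz]; group
    obtain ⟨J', hJ'c, hJ'⟩ := conj_eq_zJ hC hVJ h5 (M.mul_mem (M.inv_mem hdM) hg) J0 hJ0ne
      (by omega) (by rw [hconj]; exact hfr.isMon_zJ _)
    rw [hconj] at hJ'
    have := h2 _ _ hJ'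
    rw [← this] at hJ'c
    omega
  · -- (ii)
    have hcM := hcl hcm
    have hdM := hcl hd
    have hd'M := hcl hd'
    -- z * cc is monomial
    have hzcM : z * cc ∈ M := M.mul_mem hzM hcM
    have hzcmon : IsMon e (z * cc) := by
      refine propZ hB hzcM Jz hJzne hcard2 ?_
      refine zero_of_comm hfr h3 Jz Jz ?_
      rw [← hz]
      calc z * (z * cc) = z * (cc * z) := by rw [hcz]
        _ = z * cc * z := by group
    -- z * cc is a sign change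
    obtain ⟨J', hJ'4, hJ'⟩ : ∃ J' : Finset ι, J'.card ≤ 4 ∧ z * cc = zJ B c e J' := by
      rcases hdz with hdz | hdz
      · have hm : IsMon e (d * zJ B c e Jz * d⁻¹) := by rw [← hz, ← hdz]; exact hzcmon
        obtain ⟨J', hJ'c, hJ'⟩ := conj_eq_zJ hC hVJ h5 hdM Jz hJzne (by omega) hm
        exact ⟨J', by omega, by rw [hdz, hz]; exact hJ'⟩
      · have he : z * cc = (d * g) * zJ B c e J0 * (d * g)⁻¹ := by
          rw [hdz, hs, ← hs0]; group
        have hm : IsMon e ((d * g) * zJ B c e J0 * (d * g)⁻¹) := by rw [← he]; exact hzcmon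
        obtain ⟨J', hJ'c, hJ'⟩ := conj_eq_zJ hC hVJ h5 (M.mul_mem hdM hg) J0 hJ0ne (by omega) hm
        exact ⟨J', by omega, by rw [he]; exact hJ'⟩
    obtain ⟨J1, hJ1⟩ : ∃ J1 : Finset ι, J1 = symmDiff Jz J' := ⟨_, rfl⟩
    have hccJ : cc = zJ B c e J1 := by
      have : cc = z * (z * cc) := by rw [← mul_assoc, hzz, one_mul]
      rw [this, hJ', hz, h1, hJ1]
    have hJ1ne : J1.Nonempty := by
      rw [Finset.nonempty_iff_ne_empty]
      intro h
      apply hc1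
      rw [hccJ, h, hfr.zJ_empty]
    -- c0
    obtain ⟨c0, hc0⟩ : ∃ c0 : V ≃ₗ[F] V, c0 = g⁻¹ * cc * g := ⟨_, rfl⟩
    have hc0M : c0 ∈ M := by rw [hc0]; exact M.mul_mem (M.mul_mem (M.inv_mem hg) hcM) hg
    have hs0c0M : s0 * c0 ∈ M := M.mul_mem hs0M hc0M
    have hcomm0 : c0 * s0 = s0 * c0 := by
      have e1 : c0 * s0 = g⁻¹ * (cc * s) * g := by rw [hc0, hs]; group
      have e2 : s0 * c0 = g⁻¹ * (s * cc) * g := by rw [hc0, hs]; group
      rw [e1, e2, hcs]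
    have hs0c0mon : IsMon e (s0 * c0) := by
      refine propZ hB hs0c0M J0 hJ0ne hcard4 ?_
      refine zero_of_comm hfr h3 J0 J0 ?_
      rw [← hs0]
      calc s0 * (s0 * c0) = s0 * (c0 * s0) := by rw [hcomm0]
        _ = s0 * c0 * s0 := by group
    have hs0c0 : s0 * c0 = g⁻¹ * (s * cc) * g := by rw [hc0, hs]; group
    obtain ⟨J'', hJ''4, hJ''⟩ : ∃ J'' : Finset ι, J''.card ≤ 4 ∧ s0 * c0 = zJ B c e J'' := by
      rcases hds with hds | hds
      · have he : s0 * c0 = (g⁻¹ * d' * g) * zJ B c e J0 * (g⁻¹ * d' * g)⁻¹ := by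
          rw [hs0c0, hds, hs, ← hs0]; group
        have hm : IsMon e ((g⁻¹ * d' * g) * zJ B c e J0 * (g⁻¹ * d' * g)⁻¹) := by
          rw [← he]; exact hs0c0mon
        obtain ⟨J'', hJ''c, hJ''⟩ := conj_eq_zJ hC hVJ h5
          (M.mul_mem (M.mul_mem (M.inv_mem hg) hd'M) hg) J0 hJ0ne (by omega) hm
        exact ⟨J'', by omega, by rw [he]; exact hJ''⟩
      · have he : s0 * c0 = (g⁻¹ * d') * zJ B c e Jz * (g⁻¹ * d')⁻¹ := by
          rw [hs0c0, hds, ← hz]; group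
        have hm : IsMon e ((g⁻¹ * d') * zJ B c e Jz * (g⁻¹ * d')⁻¹) := by
          rw [← he]; exact hs0c0mon
        obtain ⟨J'', hJ''c, hJ''⟩ := conj_eq_zJ hC hVJ h5
          (M.mul_mem (M.inv_mem hg) hd'M) Jz hJzne (by omega) hm
        exact ⟨J'', by omega, by rw [he]; exact hJ''⟩
    obtain ⟨J2, hJ2⟩ : ∃ J2 : Finset ι, J2 = symmDiff J0 J'' := ⟨_, rfl⟩
    have hc0J : c0 = zJ B c e J2 := by
      have : c0 = s0 * (s0 * c0) := by rw [← mul_assoc, hs0s0, one_mul]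
      rw [this, hJ'', hs0, h1, hJ2]
    have hJ2c : J2.card + 2 ≤ Fintype.card ι := by
      have := card_symmDiff_le' J0 J''
      rw [← hJ2] at this
      omega
    -- the final step
    have hfinal : zJ B c e J1 * g = g * zJ B c e J2 := by
      rw [← hccJ, ← hc0J, hc0]; group
    have h0 := zero_of_comm hfr h3 J1 J2 hfinal
    obtain ⟨l, hl⟩ := hJ1ne
    obtain ⟨a, b, hab, ha, hb⟩ := exists_two_notMem J2 hJ2c
    exact hgm (hB g hg a b l hab (h0 a ha l hl) (h0 b hb l hl))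

end Cfsg.Agent.Lib.Helper21_OF_FUScore
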