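import Mathlib
import Cfsg.Agent.Lib.Helper32_OFDefs

/-!
# OF-API (market OF, rows S5679 + S5696, architect helper32)

Sign changes `zJ B c e J` of an orthogonal frame and monomial isometries: product, injectivity,
fixed and negated vectors, conjugation by monomial elements, the adjoint of an isometry and the
commutator space of a conjugate of a sign change.
-/

set_option autoImplicit false
set_option linter.unusedSectionVars false

namespace Cfsg.Agent.Lib.Helper31_OF_API

open Module Cfsg.Agent.Lib.Helper94_Symp Cfsg.Agent.Lib.Helper94_OrthSmall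
  Cfsg.Agent.Lib.Helper94_OrthSiegel Cfsg.Agent.Lib.Helper94_OrthSiegel2
  Cfsg.Agent.Lib.Helper94_OrthNondeg Cfsg.Agent.Lib.Helper29_ODDefs
  Cfsg.Agent.Lib.Helper32_OFDefs

variable {F V : Type*} [Field F] [AddCommGroup V] [Module F V]
variable {Q : V → F} {B : LinearMap.BilinForm F V}
variable {ι : Type*} [Fintype ι] [DecidableEq ι] {c : F} {e : ι → V}
variable {M : Subgroup (V ≃ₗ[F] V)}

/-- (1) the product of two sign changes is the sign change at the symmetric difference -/
theorem zJ_mul (hfr : OFr Q B c e) (J J' : Finset ι) :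
    zJ B c e J * zJ B c e J' = zJ B c e (symmDiff J J') := by
  apply hfr.equiv_ext
  intro i
  rw [LinearEquiv.mul_apply, hfr.zJ_e J' i, hfr.zJ_e (symmDiff J J') i]
  by_cases h1 : i ∈ J <;> by_cases h2 : i ∈ J'
  · have h3 : i ∉ symmDiff J J' := by
      rw [Finset.mem_symmDiff]; tauto
    rw [if_pos h2, if_neg h3, map_neg, hfr.zJ_e_mem h1, neg_neg]
  · have h3 : i ∈ symmDiff J J' := by
      rw [Finset.mem_symmDiff]; tauto
    rw [if_neg h2, if_pos h3, hfr.zJ_e_mem h1]
  · have h3 : i ∈ symmDiff J J' := by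
      rw [Finset.mem_symmDiff]; tauto
    rw [if_pos h2, if_pos h3, map_neg, hfr.zJ_e_not_mem h1]
  · have h3 : i ∉ symmDiff J J' := by
      rw [Finset.mem_symmDiff]; tauto
    rw [if_neg h2, if_neg h3, hfr.zJ_e_not_mem h1]

/-- (2) a sign change determines its index set -/
theorem zJ_injective (hfr : OFr Q B c e) (J J' : Finset ι)
    (h : zJ B c e J = zJ B c e J') : J = J' := by
  ext i
  have h1 : zJ B c e J (e i) = zJ B c e J' (e i) := by rw [h]
  rw [hfr.zJ_e, hfr.zJ_e] at h1
  by_cases hi : i ∈ J <;> by_cases hi' : i ∈ J'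
  · exact ⟨fun _ => hi', fun _ => hi⟩
  · rw [if_pos hi, if_neg hi'] at h1
    exact absurd h1.symm (hfr.e_ne_neg i i)
  · rw [if_neg hi, if_pos hi'] at h1
    exact absurd h1 (hfr.e_ne_neg i i)
  · exact ⟨fun h' => absurd h' hi, fun h' => absurd h' hi'⟩

/-- `2 a = 0` forces `a = 0` -/
theorem eq_zero_of_eq_neg (hfr : OFr Q B c e) {a : F} (h : a = -a) : a = 0 := by
  have h1 : (2 : F) * a = 0 := by
    rw [two_mul]
    nth_rewrite 1 [h]
    exact neg_add_cancel a
  rcases mul_eq_zero.mp h1 with h2 | h2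
  · exact absurd h2 hfr.h2
  · exact h2

/-- (3) the vectors fixed by a sign change -/
theorem zJ_fix_iff (hfr : OFr Q B c e) (J : Finset ι) (v : V) :
    zJ B c e J v = v ↔ ∀ j ∈ J, B v (e j) = 0 := by
  constructor
  · intro h j hj
    have h1 := hfr.B_zJ J v j
    rw [if_pos hj, h] at h1
    exact eq_zero_of_eq_neg hfr h1
  · intro h
    apply hfr.ext
    intro i
    rw [hfr.B_zJ]
    split_ifs with hi
    · rw [h i hi, neg_zero]
    · rfl

/-- (4) the vectors negated by a sign change -/
theorem zJ_neg_iff (hfr : OFr Q B c e) (J : Finset ι) (v : V) :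
    zJ B c e J v = -v ↔ ∀ i, i ∉ J → B v (e i) = 0 := by
  constructor
  · intro h i hi
    have h1 := hfr.B_zJ J v i
    rw [if_neg hi, h, map_neg, LinearMap.neg_apply] at h1
    exact eq_zero_of_eq_neg hfr h1.symm
  · intro h
    apply hfr.ext
    intro i
    rw [hfr.B_zJ, map_neg, LinearMap.neg_apply]
    split_ifs with hi
    · rfl
    · rw [h i hi, neg_zero]

/-- (5) the conjugate of a sign change by a monomial element is a sign change of the same rank -/
theorem conj_zJ_of_isMon (hfr : OFr Q B c e) (g : V ≃ₗ[F] V) (hg : IsMon e g) (J : Finset ι) :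
    ∃ J' : Finset ι, J'.card = J.card ∧ g * zJ B c e J * g⁻¹ = zJ B c e J' := by
  choose f hf using hg
  have hinj : Function.Injective f := by
    intro i i' hii
    by_contra hne
    rcases hf i with h1 | h1 <;> rcases hf i' with h2 | h2
    · exact hne (hfr.e_inj (g.injective (by rw [h1, h2, hii])))
    · have : g (e i) = g (-e i') := by rw [map_neg, h1, h2, hii, neg_neg]
      exact hfr.e_ne_neg i i' (g.injective this)
    · have : g (e i) = g (-e i') := by rw [map_neg, h1, h2, hii]
      exact hfr.e_ne_neg i i' (g.injective this)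
    · exact hne (hfr.e_inj (g.injective (by rw [h1, h2, hii])))
  refine ⟨J.image f, Finset.card_image_of_injective J hinj, ?_⟩
  rw [mul_inv_eq_iff_eq_mul]
  apply hfr.equiv_ext
  intro i
  have hmem : f i ∈ J.image f ↔ i ∈ J := by
    rw [Finset.mem_image]
    constructor
    · rintro ⟨a, ha, hfa⟩
      rw [← hinj hfa]; exact ha
    · intro hi
      exact ⟨i, hi, rfl⟩
  rw [LinearEquiv.mul_apply, LinearEquiv.mul_apply, hfr.zJ_e J i]
  by_cases hi : i ∈ J
  · have hi' : f i ∈ J.image f := hmem.mpr hi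
    rw [if_pos hi, map_neg]
    rcases hf i with h1 | h1
    · rw [h1, hfr.zJ_e_mem hi']
    · rw [h1, map_neg, hfr.zJ_e_mem hi']
  · have hi' : f i ∉ J.image f := fun h => hi (hmem.mp h)
    rw [if_neg hi]
    rcases hf i with h1 | h1
    · rw [h1, hfr.zJ_e_not_mem hi']
    · rw [h1, map_neg, hfr.zJ_e_not_mem hi']

/-- (6) the adjoint of an isometry is its inverse -/
theorem B_inv_left (hfr : OFr Q B c e) (g : V ≃ₗ[F] V) (hg : g ∈ oG Q) (x y : V) :
    B (g⁻¹ x) y = B x (g y) := by
  have h1 := oG_B Q B hfr.hQp hg (g⁻¹ x) y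
  rw [apply_inv_apply'] at h1
  exact h1.symm

/-- (7) the commutator space of a conjugate of a sign change -/
theorem sub_conj_zJ_mem (hfr : OFr Q B c e) (g : V ≃ₗ[F] V) (J : Finset ι) (x : V) :
    x - (g * zJ B c e J * g⁻¹) x ∈ Submodule.span F ((fun j => g (e j)) '' (J : Set ι)) := by
  rw [LinearEquiv.mul_apply, LinearEquiv.mul_apply, hfr.zJ_apply, map_sub, apply_inv_apply',
    sub_sub_cancel, map_sum]
  refine Submodule.sum_mem _ fun j hj => ?_
  rw [map_smul]
  refine Submodule.smul_mem _ _ (Submodule.subset_span ?_)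
  exact ⟨j, Finset.mem_coe.mpr hj, rfl⟩

/-- OF-API.  (1) product of sign changes; (2) injectivity; (3),(4) fixed and negated vectors of a
sign change; (5) conjugating a sign change by a monomial isometry gives a sign change of the same
rank; (6) adjoint of an isometry; (7) the commutator space of a conjugate of a sign change. -/
theorem API (hfr : OFr Q B c e) :
    (∀ J J' : Finset ι, zJ B c e J * zJ B c e J' = zJ B c e (symmDiff J J')) ∧
    (∀ J J' : Finset ι, zJ B c e J = zJ B c e J' → J = J') ∧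
    (∀ (J : Finset ι) (v : V), zJ B c e J v = v ↔ ∀ j ∈ J, B v (e j) = 0) ∧
    (∀ (J : Finset ι) (v : V), zJ B c e J v = -v ↔ ∀ i, i ∉ J → B v (e i) = 0) ∧
    (∀ g : V ≃ₗ[F] V, g ∈ oG Q → IsMon e g → ∀ J : Finset ι,
      ∃ J' : Finset ι, J'.card = J.card ∧ g * zJ B c e J * g⁻¹ = zJ B c e J') ∧
    (∀ g : V ≃ₗ[F] V, g ∈ oG Q → ∀ x y : V, B (g⁻¹ x) y = B x (g y)) ∧
    (∀ (g : V ≃ₗ[F] V) (J : Finset ι) (x : V),
      x - (g * zJ B c e J * g⁻¹) x ∈ Submodule.span F ((fun j => g (e j)) '' (J : Set ι))) :=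
  ⟨zJ_mul hfr, zJ_injective hfr, zJ_fix_iff hfr, zJ_neg_iff hfr,
    fun g _ hg J => conj_zJ_of_isMon hfr g hg J, B_inv_left hfr, sub_conj_zJ_mem hfr⟩

end Cfsg.Agent.Lib.Helper31_OF_API
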