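import Mathlib

/-!
# OF-DIH (helper32's OF market): two involutions generate a dihedral group

Pure group theory: if `z`, `s` square to `1` and `z * s` has finite order, then either `z` and `s`
are conjugate in `⟨z, s⟩`, or `⟨z, s⟩` has a central involution `c` with `z c`, `s c` conjugate to
`z` or `s`.
-/

set_option autoImplicit false

namespace Cfsg.Agent.Lib.Helper7_OF_DIH

theorem DIH {G : Type*} [Group G] (z s : G) (hz : z * z = 1) (hs : s * s = 1)
    (hfin : IsOfFinOrder (z * s)) :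
    (∃ d ∈ Subgroup.closure ({z, s} : Set G), d * z * d⁻¹ = s) ∨
    (∃ c ∈ Subgroup.closure ({z, s} : Set G), c ≠ 1 ∧ c * c = 1 ∧ c * z = z * c ∧ c * s = s * c ∧
      (∃ d ∈ Subgroup.closure ({z, s} : Set G), z * c = d * z * d⁻¹ ∨ z * c = d * s * d⁻¹) ∧
      (∃ d ∈ Subgroup.closure ({z, s} : Set G), s * c = d * s * d⁻¹ ∨ s * c = d * z * d⁻¹)) := by
  have hzi : z⁻¹ = z := inv_eq_of_mul_eq_one_right hz
  have hsi : s⁻¹ = s := inv_eq_of_mul_eq_one_right hs
  have hwi : (z * s)⁻¹ = s * z := by rw [mul_inv_rev, hzi, hsi]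
  have hwmem : z * s ∈ Subgroup.closure ({z, s} : Set G) :=
    mul_mem (Subgroup.subset_closure (by simp)) (Subgroup.subset_closure (by simp))
  have hn : 0 < orderOf (z * s) := hfin.orderOf_pos
  generalize hw : z * s = w at *
  have hzw : z * w = w⁻¹ * z := by
    rw [hwi, ← hw, ← mul_assoc, hz, one_mul, mul_assoc, hz, mul_one]
  have hsw : s * w = w⁻¹ * s := by
    rw [hwi, ← hw, mul_assoc]
  -- conjugation by `z` and `s` inverts every power of `w`
  have hzp : ∀ m : ℤ, z * w ^ m = w ^ (-m) * z := by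
    intro m
    have h : SemiconjBy z w w⁻¹ := hzw
    have := (h.zpow_right m).eq
    rw [this, inv_zpow']
  have hsp : ∀ m : ℤ, s * w ^ m = w ^ (-m) * s := by
    intro m
    have h : SemiconjBy s w w⁻¹ := hsw
    have := (h.zpow_right m).eq
    rw [this, inv_zpow']
  have hmemz : ∀ m : ℤ, w ^ m ∈ Subgroup.closure ({z, s} : Set G) := fun m => zpow_mem hwmem m
  have hord : w ^ (orderOf w : ℤ) = 1 := by
    rw [zpow_natCast]; exact pow_orderOf_eq_one w
  have hwz : w⁻¹ * z = s := by rw [hwi, mul_assoc, hz, mul_one]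
  rcases Nat.even_or_odd' (orderOf w) with ⟨k, hk | hk⟩
  · -- order `2k`
    right
    have hk0 : 0 < k := by omega
    have hc2 : w ^ (k : ℤ) * w ^ (k : ℤ) = 1 := by
      rw [← zpow_add, ← hord, hk]; congr 1; push_cast; ring
    have hcinv : w ^ (-(k : ℤ)) = w ^ (k : ℤ) := by
      rw [zpow_neg]; exact inv_eq_of_mul_eq_one_right hc2
    refine ⟨w ^ (k : ℤ), hmemz _, ?_, hc2, ?_, ?_, ?_, ?_⟩
    · intro h1
      rw [zpow_natCast] at h1
      have := orderOf_dvd_of_pow_eq_one h1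
      have := Nat.le_of_dvd hk0 this
      omega
    · rw [hzp, hcinv]
    · rw [hsp, hcinv]
    · rcases Nat.even_or_odd' k with ⟨j, hj | hj⟩
      · refine ⟨w ^ (-(j : ℤ)), hmemz _, Or.inl ?_⟩
        have hdi : (w ^ (-(j : ℤ)))⁻¹ = w ^ (j : ℤ) := by rw [← zpow_neg, neg_neg]
        rw [hdi, mul_assoc, hzp (j : ℤ), ← mul_assoc, ← zpow_add, hzp (k : ℤ)]
        congr 2; rw [hj]; push_cast; ring
      · refine ⟨w ^ (-(j : ℤ)), hmemz _, Or.inr ?_⟩
        have hdi : (w ^ (-(j : ℤ)))⁻¹ = w ^ (j : ℤ) := by rw [← zpow_neg, neg_neg]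
        rw [hdi, mul_assoc, hsp (j : ℤ), ← mul_assoc, ← zpow_add, hzp (k : ℤ)]
        have h1 : (-(k : ℤ)) = (-(j : ℤ) + -(j : ℤ)) + (-1) := by rw [hj]; push_cast; ring
        rw [h1, zpow_add, zpow_neg_one, mul_assoc, hwz]
    · rcases Nat.even_or_odd' k with ⟨j, hj | hj⟩
      · refine ⟨w ^ (-(j : ℤ)), hmemz _, Or.inl ?_⟩
        have hdi : (w ^ (-(j : ℤ)))⁻¹ = w ^ (j : ℤ) := by rw [← zpow_neg, neg_neg]
        rw [hdi, mul_assoc, hsp (j : ℤ), ← mul_assoc, ← zpow_add, hsp (k : ℤ)]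
        congr 2; rw [hj]; push_cast; ring
      · refine ⟨w ^ (-((j : ℤ) + 1)), hmemz _, Or.inr ?_⟩
        have hdi : (w ^ (-((j : ℤ) + 1)))⁻¹ = w ^ ((j : ℤ) + 1) := by rw [← zpow_neg, neg_neg]
        rw [hdi, mul_assoc, hzp ((j : ℤ) + 1), ← mul_assoc, ← zpow_add, hsp (k : ℤ)]
        have h1 : (-((j : ℤ) + 1) + -((j : ℤ) + 1)) = (-(k : ℤ)) + (-1) := by
          rw [hj]; push_cast; ring
        rw [h1, zpow_add, zpow_neg_one, mul_assoc, hwz]
  · -- order `2k+1`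
    left
    refine ⟨w ^ (k : ℤ), hmemz _, ?_⟩
    have hdi : (w ^ (k : ℤ))⁻¹ = w ^ (-(k : ℤ)) := by rw [← zpow_neg]
    rw [hdi, mul_assoc, hzp (-(k : ℤ)), neg_neg, ← mul_assoc, ← zpow_add]
    have h1 : ((k : ℤ) + (k : ℤ)) = ((orderOf w : ℕ) : ℤ) + (-1) := by rw [hk]; push_cast; ring
    rw [h1, zpow_add, hord, one_mul, zpow_neg_one, hwz]

end Cfsg.Agent.Lib.Helper7_OF_DIH
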