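import Mathlib
import Cfsg.Agent.Lib.Helper32_OFDefs
import Cfsg.Agent.Lib.Helper31_OF_API
import Cfsg.Agent.Lib.Helper7_OF_DIH
import Cfsg.Agent.Lib.Helper21_OF_FUScore

/-!
OF-FUS (helper32's market, rows S5679 + S5696): the fusion argument, statement verbatim.
-/

set_option autoImplicit false

namespace Cfsg.Agent.Lib.Helper21_OF_FUS

open Module Cfsg.Agent.Lib.Helper94_Symp Cfsg.Agent.Lib.Helper94_OrthSmall
  Cfsg.Agent.Lib.Helper94_OrthSiegel Cfsg.Agent.Lib.Helper94_OrthSiegel2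
  Cfsg.Agent.Lib.Helper94_OrthNondeg Cfsg.Agent.Lib.Helper29_ODDefs
  Cfsg.Agent.Lib.Helper32_OFDefs

variable {F V : Type*} [Field F] [AddCommGroup V] [Module F V]
variable {Q : V → F} {B : LinearMap.BilinForm F V}
variable {ι : Type*} [Fintype ι] [DecidableEq ι] {c : F} {e : ι → V}
variable {M : Subgroup (V ≃ₗ[F] V)}

theorem FUS [Finite F] [FiniteDimensional F V] (hC : CCtx Q B c e M)
    (hn : 13 ≤ Fintype.card ι) (hVJ : PropVJ B c e M) (hB : PropB B e M) :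
    ∀ g ∈ M, IsMon e g :=
  Cfsg.Agent.Lib.Helper21_OF_FUScore.FUS_core hC hn hVJ hB
    (Cfsg.Agent.Lib.Helper31_OF_API.API hC.fr)
    (fun z s hz hs hfin => Cfsg.Agent.Lib.Helper7_OF_DIH.DIH z s hz hs hfin)

end Cfsg.Agent.Lib.Helper21_OF_FUS
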