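import Mathlib
import Cfsg.Agent.Lib.Helper97_OX3Defs
import Cfsg.Agent.Lib.Helper94_OrthVec

set_option autoImplicit false
set_option linter.unusedSectionVars false
set_option linter.unusedVariables false

/-!
# OEXT3 (helper97), package G4_PAIR: a totally singular pair `u, w` of a nondegenerate quadratic space extends to a
frame `(u, u', w, w')` (two orthogonal hyperbolic pairs).  helper21.
-/

namespace Cfsg.Agent.Lib.Helper21_OX3_G4_PAIR

open Module Cfsg.Agent.Lib.Helper94_OrthSmall Cfsg.Agent.Lib.Helper94_OrthSiegel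
  Cfsg.Agent.Lib.Helper98_ExtDefs Cfsg.Agent.Lib.Helper97_OX2Defs
  Cfsg.Agent.Lib.Helper97_OX3Defs
open scoped commutatorElement

section GEO

variable {K V : Type*} [Field K] [AddCommGroup V] [Module K V]
  (Q : V → K) (B : LinearMap.BilinForm K V)
  (hQs : ∀ (c : K) (v : V), Q (c • v) = c * c * Q v)
  (hQp : ∀ u v : V, Q (u + v) = Q u + Q v + B u v)

include hQp in
theorem h21_symm (x y : V) : B x y = B y x := by
  have h1 := hQp x y
  have h2 := hQp y x
  rw [add_comm y x] at h2
  have h3 : Q x + Q y + B x y = Q y + Q x + B y x := by rw [← h1, ← h2]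
  have h4 : Q x + Q y + B x y = Q x + Q y + B y x := by rw [h3]; ring
  exact add_left_cancel h4

include hQs hQp in
theorem h21_self (x : V) : B x x = 2 * Q x := by
  have h1 := hQp x x
  have h2 : x + x = (2 : K) • x := (two_smul K x).symm
  rw [h2, hQs] at h1
  linear_combination -h1

/-- a vector dual to `x` and orthogonal to `y`, for independent `x, y` -/
theorem h21_dual (hN : B.Nondegenerate) {x y : V}
    (hind : ∀ a b : K, a • x + b • y = 0 → a = 0 ∧ b = 0) : ∃ v : V, B x v = 1 ∧ B y v = 0 := by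
  have hx0 : x ≠ 0 := by
    intro h
    have := (hind 1 0 (by rw [h]; simp)).1
    exact one_ne_zero this
  obtain ⟨v₀, hv₀⟩ : ∃ v₀, B x v₀ ≠ 0 := by
    by_contra hcon
    apply hx0
    apply hN.1 x
    intro v
    by_contra hv
    exact hcon ⟨v, hv⟩
  set z : V := (B y v₀) • x + (-(B x v₀)) • y with hz
  have hz0 : z ≠ 0 := by
    intro h
    have := (hind _ _ h).2
    exact hv₀ (neg_eq_zero.mp this)
  obtain ⟨v₁, hv₁⟩ : ∃ v₁, B z v₁ ≠ 0 := by
    by_contra hcon
    apply hz0
    apply hN.1 z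
    intro v
    by_contra hv
    exact hcon ⟨v, hv⟩
  have hD : B y v₀ * B x v₁ - B x v₀ * B y v₁ ≠ 0 := by
    intro h
    apply hv₁
    rw [hz, map_add, map_smul, map_smul, LinearMap.add_apply, LinearMap.smul_apply,
      LinearMap.smul_apply, smul_eq_mul, smul_eq_mul]
    linear_combination h
  set D : K := B y v₀ * B x v₁ - B x v₀ * B y v₁ with hDdef
  refine ⟨D⁻¹ • ((-(B y v₁)) • v₀ + (B y v₀) • v₁), ?_, ?_⟩
  · rw [map_smul, map_add, map_smul, map_smul, smul_eq_mul, smul_eq_mul, smul_eq_mul]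
    have : -(B y v₁) * B x v₀ + B y v₀ * B x v₁ = D := by rw [hDdef]; ring
    rw [this, inv_mul_cancel₀ hD]
  · rw [map_smul, map_add, map_smul, map_smul, smul_eq_mul, smul_eq_mul, smul_eq_mul]
    have : -(B y v₁) * B y v₀ + B y v₀ * B y v₁ = 0 := by ring
    rw [this, mul_zero]

include hQs hQp

/-- G4_PAIR: a totally singular pair `u, w` extends to a frame `(u, u', w, w')` -/
theorem frame_of_pair [FiniteDimensional K V] (hN : B.Nondegenerate) {u w : V}
    (h : TSPair Q B u w) : ∃ u' w' : V, Frame Q B u u' w w' := by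
  obtain ⟨hu, hw, huw, hind⟩ := h
  have hsymm := h21_symm Q B hQp
  have hself := h21_self Q B hQs hQp
  have hQadd : ∀ (v x : V) (c : K), Q (v + c • x) = Q v + c * c * Q x + c * B v x := by
    intro v x c
    rw [hQp, hQs, map_smul, smul_eq_mul]
  have hwu : B w u = 0 := by rw [hsymm, huw]
  -- `u'`
  obtain ⟨v, hv1, hv2⟩ := h21_dual B hN hind
  set u' : V := v + (-(Q v)) • u with hu'
  have hQu' : Q u' = 0 := by
    rw [hu', hQadd, hu, hsymm v u, hv1]
    ring
  have huu' : B u u' = 1 := by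
    rw [hu', map_add, map_smul, smul_eq_mul, hv1, hself, hu]
    ring
  have hwu' : B w u' = 0 := by
    rw [hu', map_add, map_smul, smul_eq_mul, hv2, hwu]
    ring
  -- `w'`
  have hind' : ∀ a b : K, a • w + b • u = 0 → a = 0 ∧ b = 0 := by
    intro a b hab
    rw [add_comm] at hab
    exact (hind b a hab).symm
  obtain ⟨v', hv'1, hv'2⟩ := h21_dual B hN hind'
  set v'' : V := v' + (-(B u' v')) • u with hv''
  have h1 : B w v'' = 1 := by
    rw [hv'', map_add, map_smul, smul_eq_mul, hv'1, hwu]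
    ring
  have h2 : B u v'' = 0 := by
    rw [hv'', map_add, map_smul, smul_eq_mul, hv'2, hself, hu]
    ring
  have h3 : B u' v'' = 0 := by
    rw [hv'', map_add, map_smul, smul_eq_mul, hsymm u' u, huu']
    ring
  set w' : V := v'' + (-(Q v'')) • w with hw'
  have hQw' : Q w' = 0 := by
    rw [hw', hQadd, hw, hsymm v'' w, h1]
    ring
  have hww' : B w w' = 1 := by
    rw [hw', map_add, map_smul, smul_eq_mul, h1, hself, hw]
    ring
  have huw' : B u w' = 0 := by
    rw [hw', map_add, map_smul, smul_eq_mul, h2, huw]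
    ring
  have hu'w' : B u' w' = 0 := by
    rw [hw', map_add, map_smul, smul_eq_mul, h3, hsymm u' w, hwu']
    ring
  exact ⟨u', w', ⟨hu, hQu', hw, hQw', huu', hww', huw, huw', by rw [hsymm, hwu'], hu'w'⟩⟩

end GEO

end Cfsg.Agent.Lib.Helper21_OX3_G4_PAIR
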