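import Mathlib
import Cfsg.Agent.Lib.Helper14_OrthAutDefs

/-!
# Orthogonal Aut project, package PC-conf (for helper14)

A `τ`-semilinear, additive surjection of `W = ⟨e, f⟩^⊥` preserving singular vectors multiplies the
quadratic form by a non-zero scalar (up to `τ`).  `conformal_abs` is the version on an arbitrary
non-degenerate quadratic space of dimension at least five over a finite field.
-/

set_option autoImplicit false

namespace Cfsg.Agent.Lib.Helper21_OrthConf

open Module Cfsg.Agent.Lib.Helper14_OmegaSimple Cfsg.Agent.Lib.Helper14_OrthAut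
  Cfsg.Agent.Lib.Helper94_OrthSmall Cfsg.Agent.Lib.Helper44_QuadClass

variable {F : Type*} [Field F]

section abs

variable {M : Type*} [AddCommGroup M] [Module F M]

theorem q_add (Q : QuadraticForm F M) (x y : M) :
    Q (x + y) = Q x + Q y + QuadraticMap.polar (⇑Q) x y := by
  unfold QuadraticMap.polar
  ring

theorem polar_self0 (Q : QuadraticForm F M) {x : M} (hx : Q x = 0) :
    QuadraticMap.polar (⇑Q) x x = 0 := by
  rw [polar_self', hx, mul_zero]

/-- images of orthogonal singular vectors are orthogonal -/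
theorem b_zero {Q : QuadraticForm F M} {A : M → M}
    (hadd : ∀ w w', A (w + w') = A w + A w')
    (hsing : ∀ w, Q w = 0 → Q (A w) = 0) {s s' : M} (hs : Q s = 0) (hs' : Q s' = 0)
    (h : QuadraticMap.polar (⇑Q) s s' = 0) : QuadraticMap.polar (⇑Q) (A s) (A s') = 0 := by
  have h1 : Q (s + s') = 0 := by
    rw [q_add, hs, hs', h]
    ring
  have h2 := hsing _ h1
  rw [hadd, q_add, hsing s hs, hsing s' hs'] at h2
  linear_combination h2

/-- if a hyperbolic pair `u`, `v` is orthogonal to the singular vector `t`, then `A t` is orthogonal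
to `A y` for every `y ⊥ t` -/
theorem b_perp {Q : QuadraticForm F M} {τ : F →+* F} {A : M → M}
    (hadd : ∀ w w', A (w + w') = A w + A w')
    (hsmul : ∀ (a : F) w, A (a • w) = τ a • A w)
    (hsing : ∀ w, Q w = 0 → Q (A w) = 0) {t u v : M} (ht : Q t = 0) (hu : Q u = 0) (hv : Q v = 0)
    (huv : QuadraticMap.polar (⇑Q) u v = 1) (hut : QuadraticMap.polar (⇑Q) u t = 0)
    (hvt : QuadraticMap.polar (⇑Q) v t = 0) {y : M} (hyt : QuadraticMap.polar (⇑Q) y t = 0) :
    QuadraticMap.polar (⇑Q) (A y) (A t) = 0 := by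
  obtain ⟨α, hα⟩ : ∃ α, α = QuadraticMap.polar (⇑Q) y v := ⟨_, rfl⟩
  obtain ⟨β, hβ⟩ : ∃ β, β = QuadraticMap.polar (⇑Q) y u := ⟨_, rfl⟩
  obtain ⟨y₁, hy₁⟩ : ∃ y₁, y₁ = y + (-α) • u + (-β) • v := ⟨_, rfl⟩
  have hvu : QuadraticMap.polar (⇑Q) v u = 1 := by rw [QuadraticMap.polar_comm, huv]
  have huu : QuadraticMap.polar (⇑Q) u u = 0 := polar_self0 Q hu
  have hvv : QuadraticMap.polar (⇑Q) v v = 0 := polar_self0 Q hv
  have h1u : QuadraticMap.polar (⇑Q) y₁ u = 0 := by
    rw [hy₁]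
    simp only [QuadraticMap.polar_add_left, QuadraticMap.polar_smul_left, smul_eq_mul, huu, hvu,
      ← hβ]
    ring
  have h1v : QuadraticMap.polar (⇑Q) y₁ v = 0 := by
    rw [hy₁]
    simp only [QuadraticMap.polar_add_left, QuadraticMap.polar_smul_left, smul_eq_mul, hvv, huv,
      ← hα]
    ring
  have h1t : QuadraticMap.polar (⇑Q) y₁ t = 0 := by
    rw [hy₁]
    simp only [QuadraticMap.polar_add_left, QuadraticMap.polar_smul_left, smul_eq_mul, hut, hvt,
      hyt]
    ring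
  obtain ⟨x, hx⟩ : ∃ x, x = y₁ + (-(Q y₁)) • u + v := ⟨_, rfl⟩
  have hQx : Q x = 0 := by
    rw [hx, q_add, q_add, QuadraticMap.map_smul, hu, hv]
    simp only [QuadraticMap.polar_add_left, QuadraticMap.polar_smul_left,
      QuadraticMap.polar_smul_right, smul_eq_mul, h1u, h1v, huv]
    ring
  have hxt : QuadraticMap.polar (⇑Q) x t = 0 := by
    rw [hx]
    simp only [QuadraticMap.polar_add_left, QuadraticMap.polar_smul_left, smul_eq_mul, h1t, hut,
      hvt]
    ring
  have e1 := b_zero hadd hsing hQx ht hxt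
  have e2 := b_zero hadd hsing hu ht hut
  have e3 := b_zero hadd hsing hv ht hvt
  have hy : y = y₁ + α • u + β • v := by
    rw [hy₁]
    module
  rw [hx, hadd, hadd, hsmul] at e1
  simp only [QuadraticMap.polar_add_left, QuadraticMap.polar_smul_left, smul_eq_mul, e2, e3] at e1
  rw [hy, hadd, hadd, hsmul, hsmul]
  simp only [QuadraticMap.polar_add_left, QuadraticMap.polar_smul_left, smul_eq_mul, e2, e3]
  linear_combination e1

/-- **Conformal lemma**, abstract version. -/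
theorem conformal_abs [Finite F] [FiniteDimensional F M] (Q : QuadraticForm F M)
    (hQ : (QuadraticMap.polarBilin Q).Nondegenerate) (hdim : 5 ≤ finrank F M)
    (τ : F →+* F) (A : M → M) (hsurj : Function.Surjective A)
    (hadd : ∀ w w', A (w + w') = A w + A w')
    (hsmul : ∀ (a : F) w, A (a • w) = τ a • A w)
    (hsing : ∀ w, Q w = 0 → Q (A w) = 0) :
    ∃ c : F, c ≠ 0 ∧ ∀ w, Q (A w) = c * τ (Q w) := by
  obtain ⟨u, hu0, hu⟩ := exists_singular Q (by omega)
  obtain ⟨v, hv, huv⟩ := exists_hyperbolic_partner Q hQ hu0 hu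
  have hQ' := nondegenerate_perp hQ hu hv huv
  have hfr := finrank_perp hu hv huv
  obtain ⟨u₂, hu₂0, hu₂⟩ := exists_singular (Q.comp (perp Q u v).subtype) (by omega)
  obtain ⟨v₂, hv₂, huv₂⟩ := exists_hyperbolic_partner _ hQ' hu₂0 hu₂
  have hu₂' : Q (u₂ : M) = 0 := hu₂
  have hv₂' : Q (v₂ : M) = 0 := hv₂
  have huv₂' : QuadraticMap.polar (⇑Q) (u₂ : M) (v₂ : M) = 1 := by
    rw [← polar_comp_subtype]
    exact huv₂
  have hm1 := (mem_perp Q u v).mp u₂.2
  have hm2 := (mem_perp Q u v).mp v₂.2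
  have hvu : QuadraticMap.polar (⇑Q) v u = 1 := by rw [QuadraticMap.polar_comm, huv]
  have huu : QuadraticMap.polar (⇑Q) u u = 0 := polar_self0 Q hu
  have hvv : QuadraticMap.polar (⇑Q) v v = 0 := polar_self0 Q hv
  have hbu : ∀ y, QuadraticMap.polar (⇑Q) y u = 0 →
      QuadraticMap.polar (⇑Q) (A y) (A u) = 0 := fun y hy =>
    b_perp hadd hsmul hsing hu hu₂' hv₂' huv₂'
      (by rw [QuadraticMap.polar_comm]; exact hm1.1) (by rw [QuadraticMap.polar_comm]; exact hm2.1) hy
  have hbv : ∀ y, QuadraticMap.polar (⇑Q) y v = 0 →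
      QuadraticMap.polar (⇑Q) (A y) (A v) = 0 := fun y hy =>
    b_perp hadd hsmul hsing hv hu₂' hv₂' huv₂'
      (by rw [QuadraticMap.polar_comm]; exact hm1.2) (by rw [QuadraticMap.polar_comm]; exact hm2.2) hy
  have hAu : Q (A u) = 0 := hsing u hu
  have hAv : Q (A v) = 0 := hsing v hv
  have hform : ∀ w, Q (A w) = QuadraticMap.polar (⇑Q) (A u) (A v) * τ (Q w) := by
    intro w
    obtain ⟨α, hα⟩ : ∃ α, α = QuadraticMap.polar (⇑Q) w v := ⟨_, rfl⟩
    obtain ⟨β, hβ⟩ : ∃ β, β = QuadraticMap.polar (⇑Q) w u := ⟨_, rfl⟩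
    obtain ⟨w₀, hw₀⟩ : ∃ w₀, w₀ = w + (-α) • u + (-β) • v := ⟨_, rfl⟩
    have h0u : QuadraticMap.polar (⇑Q) w₀ u = 0 := by
      rw [hw₀]
      simp only [QuadraticMap.polar_add_left, QuadraticMap.polar_smul_left, smul_eq_mul, huu, hvu,
        ← hβ]
      ring
    have h0v : QuadraticMap.polar (⇑Q) w₀ v = 0 := by
      rw [hw₀]
      simp only [QuadraticMap.polar_add_left, QuadraticMap.polar_smul_left, smul_eq_mul, hvv, huv,
        ← hα]
      ring
    obtain ⟨x, hx⟩ : ∃ x, x = w₀ + (-(Q w₀)) • u + v := ⟨_, rfl⟩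
    have hQx : Q x = 0 := by
      rw [hx, q_add, q_add, QuadraticMap.map_smul, hu, hv]
      simp only [QuadraticMap.polar_add_left, QuadraticMap.polar_smul_left,
        QuadraticMap.polar_smul_right, smul_eq_mul, h0u, h0v, huv]
      ring
    have e1 := hsing x hQx
    rw [hx, hadd, hadd, hsmul, q_add, q_add, QuadraticMap.map_smul, hAu, hAv] at e1
    simp only [QuadraticMap.polar_add_left, QuadraticMap.polar_smul_left,
      QuadraticMap.polar_smul_right, smul_eq_mul, hbu w₀ h0u, hbv w₀ h0v, map_neg] at e1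
    have hw : w = w₀ + α • u + β • v := by
      rw [hw₀]
      module
    have hQw : Q w = Q w₀ + α * β := by
      conv_lhs => rw [hw]
      rw [q_add, q_add, QuadraticMap.map_smul, QuadraticMap.map_smul, hu, hv]
      simp only [QuadraticMap.polar_add_left, QuadraticMap.polar_smul_left,
        QuadraticMap.polar_smul_right, smul_eq_mul, h0u, h0v, huv]
      ring
    rw [hQw]
    conv_lhs => rw [hw]
    rw [hadd, hadd, hsmul, hsmul, q_add, q_add, QuadraticMap.map_smul, QuadraticMap.map_smul, hAu,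
      hAv]
    simp only [QuadraticMap.polar_add_left, QuadraticMap.polar_smul_left,
      QuadraticMap.polar_smul_right, smul_eq_mul, hbu w₀ h0u, hbv w₀ h0v, map_add, map_mul]
    linear_combination e1
  refine ⟨QuadraticMap.polar (⇑Q) (A u) (A v), ?_, hform⟩
  intro hc
  obtain ⟨w, hw⟩ := hsurj (u + v)
  have h1 := hform w
  rw [hc, zero_mul, hw, q_add, hu, hv, huv] at h1
  simp at h1

end abs

section main

variable {V : Type*} [Finite F] [AddCommGroup V] [Module F V] [FiniteDimensional F V]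
variable {Q : QuadraticForm F V}

/-- PC-conf -/
theorem conformal (hH : Hyp Q) {e f : V} (he : Q e = 0) (hf : Q f = 0)
    (hef : QuadraticMap.polar (⇑Q) e f = 1) (τ : F →+* F) (A : V → V)
    (hmaps : ∀ w ∈ Wp Q e f, A w ∈ Wp Q e f)
    (hsurj : ∀ w ∈ Wp Q e f, ∃ w' ∈ Wp Q e f, A w' = w)
    (hadd : ∀ w ∈ Wp Q e f, ∀ w' ∈ Wp Q e f, A (w + w') = A w + A w')
    (hsmul : ∀ (a : F), ∀ w ∈ Wp Q e f, A (a • w) = τ a • A w)
    (hsing : ∀ w ∈ Wp Q e f, Q w = 0 → Q (A w) = 0) :
    ∃ c : F, c ≠ 0 ∧ ∀ w ∈ Wp Q e f, Q (A w) = c * τ (Q w) := by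
  have hiff : ∀ w, w ∈ Wp Q e f ↔ w ∈ perp Q e f := by
    intro w
    rw [mem_Wp, mem_perp, QuadraticMap.polar_comm (⇑Q) w e, QuadraticMap.polar_comm (⇑Q) w f]
  have hfr := finrank_perp he hf hef
  have hdim := hH.dim
  obtain ⟨c, hc, hform⟩ := conformal_abs (Q.comp (perp Q e f).subtype)
    (nondegenerate_perp hH.nd he hf hef) (by omega) τ
    (fun w => ⟨A w, (hiff _).mp (hmaps w ((hiff _).mpr w.2))⟩)
    (by
      intro w
      obtain ⟨w', hw', h⟩ := hsurj w ((hiff _).mpr w.2)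
      exact ⟨⟨w', (hiff _).mp hw'⟩, Subtype.ext h⟩)
    (fun w w' => Subtype.ext (hadd w ((hiff _).mpr w.2) w' ((hiff _).mpr w'.2)))
    (fun a w => Subtype.ext (hsmul a w ((hiff _).mpr w.2)))
    (fun w hw => hsing w ((hiff _).mpr w.2) hw)
  refine ⟨c, hc, ?_⟩
  intro w hw
  exact hform ⟨w, (hiff w).mp hw⟩

end main

end Cfsg.Agent.Lib.Helper21_OrthConf
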