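import Mathlib
import Cfsg.Prelude.Def_Solvable
import Cfsg.Prelude.Def_CaseTheorems
import Cfsg.Agent.Lib.Helper1_Cores
import Cfsg.Agent.Lib.Helper55_Fitting

/-!
Abelian Hall `p'`-subgroups of finite solvable groups (helper21): if `A` is an abelian `p'`-subgroup of
`p`-power index in the solvable group `X`, then `A O_p(X)` is normal in `X` and every `p`-subgroup
normalized by `A` lies in `O_p(X)`.
-/

set_option autoImplicit false

namespace Cfsg.Agent.Lib.Helper21_PP1

open Subgroup Cfsg
open scoped commutatorElement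

section TypeLevel

variable {X : Type*} [Group X] [Finite X]

theorem pCore_quot_pCore (p : ℕ) [Fact p.Prime] : pCore p (X ⧸ pCore p X) = ⊥ := by
  set R := pCore p X with hR
  set π := QuotientGroup.mk' R with hπ
  set S := pCore p (X ⧸ R) with hS
  have hSn : S.Normal := Helper1_Cores.pCore_normal p
  have hSp : IsPGroup p S := Helper1_Cores.pCore_isPGroup p
  have hRp : IsPGroup p R := Helper1_Cores.pCore_isPGroup p
  have hcn : (S.comap π).Normal := hSn.comap π
  have hcp : IsPGroup p (S.comap π) := by
    apply hSp.comap_of_ker_isPGroup π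
    rw [hπ, QuotientGroup.ker_mk']
    exact hRp
  have hle : S.comap π ≤ R := Helper1_Cores.le_pCore hcn hcp
  have h1 : S = (S.comap π).map π :=
    (Subgroup.map_comap_eq_self_of_surjective (QuotientGroup.mk'_surjective R) S).symm
  rw [h1, eq_bot_iff]
  calc (S.comap π).map π ≤ R.map π := Subgroup.map_mono hle
    _ = ⊥ := QuotientGroup.map_mk'_self R

/-- In a finite solvable group with `O_p = 1`, an abelian `p'`-subgroup of `p`-power index is the
Fitting subgroup. -/
theorem fitting_eq_of_abelian_hall [Group.IsSolvable X] (p : ℕ) [Fact p.Prime] (A : Subgroup X)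
    (hAc : ∀ a ∈ A, ∀ b ∈ A, a * b = b * a) (hAp : (Nat.card A).Coprime p)
    (hAi : ∃ k, A.index = p ^ k) (hcore : pCore p X = ⊥) : fittingSubgroup X = A := by
  classical
  have hp := (Fact.out : p.Prime)
  set F := fittingSubgroup X with hF
  have hFn : F.Normal := Helper1_Cores.fittingSubgroup_normal
  have hFnil : Group.IsNilpotent F := Helper1_Cores.fittingSubgroup_isNilpotent
  have hFp : (Nat.card F).Coprime p := by
    by_contra hnc
    have hdvd : p ∣ Nat.card F := by
      rcases (Nat.coprime_or_dvd_of_prime hp (Nat.card F)) with h | h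
      · exact absurd h.symm hnc
      · exact h
    have S : Sylow p F := default
    have hSn : (S : Subgroup F).Normal := inferInstance
    have hSc : (S : Subgroup F).Characteristic := Sylow.characteristic_of_normal S hSn
    have hmapn : ((S : Subgroup F).map F.subtype).Normal :=
      ConjAct.normal_of_characteristic_of_normal
    have hmapp : IsPGroup p ((S : Subgroup F).map F.subtype) := S.isPGroup'.map _
    have hle := Helper1_Cores.le_pCore hmapn hmapp
    rw [hcore, le_bot_iff, Subgroup.map_eq_bot_iff_of_injective _ F.subtype_injective] at hle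
    exact (Sylow.ne_bot_of_dvd_card S hdvd) hle
  obtain ⟨k, hk⟩ := hAi
  have hcardX : Nat.card X = Nat.card A * p ^ k := by
    rw [← hk, mul_comm, Subgroup.index_mul_card]
  have hFA : F ≤ A := by
    have h1 : Nat.card (A ⊔ F : Subgroup X) ∣ Nat.card A * Nat.card F :=
      Helper1_Cores.card_sup_dvd A F
    have h2 : (Nat.card (A ⊔ F : Subgroup X)).Coprime p :=
      Nat.Coprime.coprime_dvd_left h1 (Nat.Coprime.mul_left hAp hFp)
    have h3 : Nat.card (A ⊔ F : Subgroup X) ∣ Nat.card A * p ^ k := by
      rw [← hcardX]; exact Subgroup.card_subgroup_dvd_card _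
    have h4 : Nat.card (A ⊔ F : Subgroup X) ∣ Nat.card A :=
      (Nat.Coprime.pow_right k h2).dvd_of_dvd_mul_right h3
    have h5 : A ⊔ F = A := by
      symm
      apply Subgroup.eq_of_le_of_card_ge le_sup_left
      exact Nat.le_of_dvd Nat.card_pos h4
    rw [← h5]; exact le_sup_right
  have hAF : A ≤ F := by
    apply le_trans _ (Helper55_Fitting.centralizer_fittingSubgroup_le (G := X))
    intro a ha
    rw [Subgroup.mem_centralizer_iff]
    intro f hf
    exact hAc f (hFA hf) a ha
  exact le_antisymm hFA hAF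

/-- Main lemma, type level. -/
theorem abelian_hall_main [Group.IsSolvable X] (p : ℕ) [Fact p.Prime] (A : Subgroup X)
    (hAc : ∀ a ∈ A, ∀ b ∈ A, a * b = b * a) (hAp : (Nat.card A).Coprime p)
    (hAi : ∃ k, A.index = p ^ k) :
    (A ⊔ pCore p X).Normal ∧
      ∀ Y : Subgroup X, IsPGroup p Y → A ≤ normalizer (Y : Set X) → Y ≤ pCore p X := by
  classical
  have hp := (Fact.out : p.Prime)
  set R := pCore p X with hR
  set π := QuotientGroup.mk' R with hπ
  have hker : π.ker = R := QuotientGroup.ker_mk' R
  have hsurj : Function.Surjective π := QuotientGroup.mk'_surjective R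
  set A' := A.map π with hA'
  have hA'c : ∀ a ∈ A', ∀ b ∈ A', a * b = b * a := by
    rintro _ ⟨a, ha, rfl⟩ _ ⟨b, hb, rfl⟩
    rw [← map_mul, ← map_mul, hAc a ha b hb]
  have hA'p : (Nat.card A').Coprime p :=
    Nat.Coprime.coprime_dvd_left (Subgroup.card_map_dvd A π) hAp
  have hA'i : ∃ j, A'.index = p ^ j := by
    obtain ⟨k, hk⟩ := hAi
    have : A'.index ∣ p ^ k := by
      rw [← hk]; exact Subgroup.index_map_dvd A hsurj
    obtain ⟨j, -, hj⟩ := (Nat.dvd_prime_pow hp).mp this
    exact ⟨j, hj⟩
  have hfit := fitting_eq_of_abelian_hall p A' hA'c hA'p hA'i (pCore_quot_pCore p)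
  have hA'n : A'.Normal := by
    rw [← hfit]; exact Helper1_Cores.fittingSubgroup_normal
  have hcent : centralizer (A' : Set (X ⧸ R)) ≤ A' := by
    have := Helper55_Fitting.centralizer_fittingSubgroup_le (G := X ⧸ R)
    rwa [hfit] at this
  refine ⟨?_, ?_⟩
  · have h1 : A ⊔ R = A'.comap π := by
      rw [hA', Subgroup.comap_map_eq, hker]
    rw [h1]
    exact hA'n.comap π
  · intro Y hY hAY
    set Y' := Y.map π with hY'
    have hY'p : IsPGroup p Y' := hY.map π
    have hdisj : Y' ⊓ A' = ⊥ := by
      apply disjoint_iff.mp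
      apply Subgroup.disjoint_of_coprime_natCard
      obtain ⟨n, hn⟩ := IsPGroup.iff_card.mp hY'p
      rw [hn]
      exact (Nat.Coprime.pow_left n hA'p.symm)
    have hYc : Y' ≤ centralizer (A' : Set (X ⧸ R)) := by
      rintro _ ⟨y, hy, rfl⟩
      rw [Subgroup.mem_centralizer_iff]
      rintro _ ⟨a, ha, rfl⟩
      have hc : ⁅π y, π a⁆ ∈ Y' ⊓ A' := by
        refine ⟨?_, ?_⟩
        · rw [← map_commutatorElement]
          apply Subgroup.mem_map_of_mem
          rw [commutatorElement_def]
          have h1 : a * y⁻¹ * a⁻¹ ∈ Y :=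
            (Subgroup.mem_normalizer_iff.mp (hAY ha) y⁻¹).mp (Y.inv_mem hy)
          have : y * a * y⁻¹ * a⁻¹ = y * (a * y⁻¹ * a⁻¹) := by group
          rw [this]
          exact Y.mul_mem hy h1
        · rw [commutatorElement_def]
          have h1 : π y * π a * (π y)⁻¹ ∈ A' := hA'n.conj_mem _ (Subgroup.mem_map_of_mem π ha) _
          exact A'.mul_mem h1 (A'.inv_mem (Subgroup.mem_map_of_mem π ha))
      rw [hdisj, Subgroup.mem_bot] at hc
      exact (commutatorElement_eq_one_iff_mul_comm.mp hc).symm
    have hY'A : Y' ≤ Y' ⊓ A' := le_inf le_rfl (hYc.trans hcent)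
    rw [hdisj, le_bot_iff, hY', Subgroup.map_eq_bot_iff, hker] at hY'A
    exact hY'A

end TypeLevel

end Cfsg.Agent.Lib.Helper21_PP1
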