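import Mathlib
import Cfsg.Agent.Lib.Helper21_PP1
import Cfsg.Agent.Lib.Helper24_CoprimeHall

/-!
Subgroup-level versions of `Helper21_PP1` (helper21): `O_p(H)` inside the ambient group, abelian Hall
`p'`-subgroups of solvable subgroups.
-/

set_option autoImplicit false

namespace Cfsg.Agent.Lib.Helper21_PP2

open Subgroup Cfsg
open scoped commutatorElement

variable {G : Type*} [Group G]

/-- `O_p(H)` as a subgroup of the ambient group. -/
def Op (p : ℕ) (H : Subgroup G) : Subgroup G := (pCore p ↥H).map H.subtype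

theorem Op_le (p : ℕ) (H : Subgroup G) : Op p H ≤ H := Subgroup.map_subtype_le _

theorem Op_isPGroup [Finite G] (p : ℕ) [Fact p.Prime] (H : Subgroup G) : IsPGroup p (Op p H) :=
  (Helper1_Cores.pCore_isPGroup p).map _

theorem le_normalizer_Op (p : ℕ) (H : Subgroup G) : H ≤ normalizer (Op p H : Set G) := by
  intro h hh
  have hn : (pCore p ↥H).Normal := Helper1_Cores.pCore_normal p
  rw [Subgroup.mem_normalizer_iff]
  intro x
  constructor
  · rintro ⟨y, hy, rfl⟩
    exact ⟨⟨h, hh⟩ * y * ⟨h, hh⟩⁻¹, hn.conj_mem y hy _, rfl⟩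
  · rintro ⟨y, hy, hyx⟩
    refine ⟨⟨h, hh⟩⁻¹ * y * ⟨h, hh⟩, ?_, ?_⟩
    · have := hn.conj_mem y hy ⟨h, hh⟩⁻¹
      simpa using this
    · simp only [Subgroup.coe_subtype, Subgroup.coe_mul, Subgroup.coe_inv] at hyx ⊢
      rw [hyx]; group

theorem le_Op_of_normal (p : ℕ) (H Y : Subgroup G) (hYH : Y ≤ H) (hY : IsPGroup p Y)
    (hn : H ≤ normalizer (Y : Set G)) : Y ≤ Op p H := by
  have h1 : (Y.subgroupOf H).Normal := by
    constructor
    intro y hy h
    rw [Subgroup.mem_subgroupOf] at hy ⊢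
    have := (Subgroup.mem_normalizer_iff.mp (hn h.2) y).mp hy
    simpa using this
  have h2 : IsPGroup p (Y.subgroupOf H) := hY.comap_subtype
  have h3 := Helper1_Cores.le_pCore h1 h2
  have h4 := Subgroup.map_mono (f := H.subtype) h3
  rwa [Subgroup.map_subgroupOf_eq_of_le hYH] at h4

/-- A maximal `p'`-subgroup is a Hall `p'`-subgroup of every solvable overgroup. -/
theorem piHall_of_max [Finite G] (p : ℕ) [Fact p.Prime] (A H : Subgroup G) (hAH : A ≤ H)
    (hsolv : Group.IsSolvable H) (hAp : (Nat.card A).Coprime p)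
    (hmax : ∀ B : Subgroup G, A ≤ B → (Nat.card B).Coprime p → B = A) :
    Helper24_CoprimeHall.PiHall {q | q ≠ p} A H := by
  have hp := (Fact.out : p.Prime)
  obtain ⟨B, hB, hAB⟩ := Helper24_CoprimeHall.exists_piHall_ge (π := {q | q ≠ p}) hsolv hAH
    (by
      intro q hq hqA
      show q ≠ p
      intro hqp
      subst hqp
      exact (Nat.Prime.coprime_iff_not_dvd hq).mp hAp.symm hqA)
  have hBp : (Nat.card B).Coprime p := by
    apply Nat.Coprime.symm
    rw [Nat.Prime.coprime_iff_not_dvd hp]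
    intro hpB
    exact hB.2.1 p hp hpB rfl
  have hBA : B = A := hmax B hAB hBp
  rw [← hBA]; exact hB

/-- A maximal `p'`-subgroup has `p`-power index in every solvable overgroup. -/
theorem relIndex_pow_of_max [Finite G] (p : ℕ) [Fact p.Prime] (A H : Subgroup G) (hAH : A ≤ H)
    (hsolv : Group.IsSolvable H) (hAp : (Nat.card A).Coprime p)
    (hmax : ∀ B : Subgroup G, A ≤ B → (Nat.card B).Coprime p → B = A) :
    ∃ k, A.relIndex H = p ^ k := by
  have hp := (Fact.out : p.Prime)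
  have hB := piHall_of_max p A H hAH hsolv hAp hmax
  rw [Helper24_CoprimeHall.relIndex_eq_div hAH]
  have hne : Nat.card H / Nat.card A ≠ 0 := by
    have := Subgroup.card_dvd_of_le hAH
    exact (Nat.div_pos (Nat.le_of_dvd Nat.card_pos this) Nat.card_pos).ne'
  refine ⟨_, Nat.eq_prime_pow_of_unique_prime_dvd hne ?_⟩
  intro d hd hdvd
  by_contra hdp
  exact hB.2.2 d hd hdp hdvd

/-- Main lemma, subgroup level. -/
theorem hall_main [Finite G] (p : ℕ) [Fact p.Prime] (A H : Subgroup G) (hAH : A ≤ H)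
    (hsolv : Group.IsSolvable H) (hAc : ∀ a ∈ A, ∀ b ∈ A, a * b = b * a)
    (hAp : (Nat.card A).Coprime p) (hAi : ∃ k, A.relIndex H = p ^ k) :
    (∀ h ∈ H, ∀ x ∈ A ⊔ Op p H, h * x * h⁻¹ ∈ A ⊔ Op p H) ∧
      ∀ Y : Subgroup G, Y ≤ H → IsPGroup p Y → A ≤ normalizer (Y : Set G) → Y ≤ Op p H := by
  have hA'c : ∀ a ∈ A.subgroupOf H, ∀ b ∈ A.subgroupOf H, a * b = b * a := by
    intro a ha b hb
    apply Subtype.ext
    exact hAc a ha b hb
  have hA'p : (Nat.card (A.subgroupOf H)).Coprime p := by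
    rw [Helper24_CoprimeAction.card_subgroupOf_of_le hAH]; exact hAp
  obtain ⟨hn, hY⟩ := Helper21_PP1.abelian_hall_main p (A.subgroupOf H) hA'c hA'p hAi
  have hmap : (A.subgroupOf H ⊔ pCore p ↥H).map H.subtype = A ⊔ Op p H := by
    rw [Subgroup.map_sup, Subgroup.map_subgroupOf_eq_of_le hAH]; rfl
  refine ⟨?_, ?_⟩
  · intro h hh x hx
    rw [← hmap] at hx ⊢
    obtain ⟨y, hy, rfl⟩ := hx
    exact ⟨⟨h, hh⟩ * y * ⟨h, hh⟩⁻¹, hn.conj_mem y hy _, rfl⟩
  · intro Y hYH hYp hAY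
    have h1 : A.subgroupOf H ≤ normalizer ((Y.subgroupOf H : Subgroup H) : Set H) := by
      intro a ha
      rw [Subgroup.mem_subgroupOf] at ha
      rw [Subgroup.mem_normalizer_iff]
      intro y
      rw [Subgroup.mem_subgroupOf, Subgroup.mem_subgroupOf]
      have := Subgroup.mem_normalizer_iff.mp (hAY ha) y
      simpa using this
    have h2 := hY (Y.subgroupOf H) hYp.comap_subtype h1
    have h3 := Subgroup.map_mono (f := H.subtype) h2
    rwa [Subgroup.map_subgroupOf_eq_of_le hYH] at h3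

theorem mul_pow_normalizer {A R : Subgroup G} (hAR : A ≤ normalizer (R : Set G)) {a r : G}
    (ha : a ∈ A) (hr : r ∈ R) (n : ℕ) : ∃ r' ∈ R, (a * r) ^ n = a ^ n * r' := by
  induction n with
  | zero => exact ⟨1, R.one_mem, by simp⟩
  | succ n ih =>
    obtain ⟨r', hr', h⟩ := ih
    refine ⟨a⁻¹ * r' * a * r, ?_, ?_⟩
    · refine R.mul_mem ?_ hr
      have := (Subgroup.mem_normalizer_iff.mp (hAR (A.inv_mem ha)) r').mp hr'
      simpa using this
    · rw [pow_succ, h, pow_succ]; group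

/-- `p`-elements of `A O_p(H)` lie in `O_p(H)`. -/
theorem mem_Op_of_pElement [Finite G] (p : ℕ) [Fact p.Prime] (A H : Subgroup G) (hAH : A ≤ H)
    (hAp : (Nat.card A).Coprime p) (x : G) (hx : x ∈ A ⊔ Op p H) (k : ℕ)
    (hxk : x ^ (p ^ k) = 1) : x ∈ Op p H := by
  have hAR : A ≤ normalizer (Op p H : Set G) := hAH.trans (le_normalizer_Op p H)
  have hx' : x ∈ ((A ⊔ Op p H : Subgroup G) : Set G) := hx
  rw [Subgroup.coe_mul_of_left_le_normalizer_right A _ hAR] at hx'
  obtain ⟨a, ha, r, hr, rfl⟩ := Set.mem_mul.mp hx'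
  obtain ⟨r', hr', h⟩ := mul_pow_normalizer hAR ha hr (p ^ k)
  rw [hxk] at h
  have hdisj : A ⊓ Op p H = ⊥ := by
    apply disjoint_iff.mp
    apply Subgroup.disjoint_of_coprime_natCard
    obtain ⟨n, hn⟩ := IsPGroup.iff_card.mp (Op_isPGroup p H)
    rw [hn]
    exact Nat.Coprime.pow_right n hAp
  have hapk : a ^ (p ^ k) = 1 := by
    have h1 : a ^ (p ^ k) = r'⁻¹ := by
      rw [eq_inv_iff_mul_eq_one]; exact h.symm
    have h2 : a ^ (p ^ k) ∈ A ⊓ Op p H :=
      ⟨A.pow_mem ha _, by rw [h1]; exact (Op p H).inv_mem hr'⟩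
    rw [hdisj, Subgroup.mem_bot] at h2
    exact h2
  have ha1 : a = 1 := by
    have h1 : orderOf a ∣ p ^ k := orderOf_dvd_of_pow_eq_one hapk
    have h2 : orderOf a ∣ Nat.card A := by
      have : orderOf (⟨a, ha⟩ : A) ∣ Nat.card A := orderOf_dvd_natCard _
      rwa [← Subgroup.orderOf_coe] at this
    have h3 : orderOf a ∣ 1 := by
      have hc : (Nat.card A).Coprime (p ^ k) := Nat.Coprime.pow_right k hAp
      rw [← hc.gcd_eq_one]
      exact Nat.dvd_gcd h2 h1
    exact orderOf_eq_one_iff.mp (Nat.dvd_one.mp h3)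
  rw [ha1, one_mul]
  exact hr

end Cfsg.Agent.Lib.Helper21_PP2
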