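import Mathlib
import Cfsg.Agent.Lib.Helper21_PP2
import Cfsg.Agent.Lib.Helper1_FPF

/-!
Transfer consequences (helper21): if a `p`-subgroup `P` of `N` lies in the derived subgroup of `N` and
`N = P L` with `L` normal of `p`-power index, then `N = L`.
-/

set_option autoImplicit false

namespace Cfsg.Agent.Lib.Helper21_PP3

open Subgroup Cfsg
open scoped commutatorElement

/-- Type-level version. -/
theorem eq_top_of_le_commutator {N : Type*} [Group N] [Finite N] (p : ℕ) [Fact p.Prime]
    (L : Subgroup N) [L.Normal] (hidx : ∃ k, L.index = p ^ k) (P : Subgroup N)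
    (hPL : P ⊔ L = ⊤) (hP : P ≤ commutator N) : L = ⊤ := by
  by_contra hne
  have hQ : IsPGroup p (N ⧸ L) := by
    obtain ⟨k, hk⟩ := hidx
    apply IsPGroup.of_card (n := k)
    rw [← Subgroup.index_eq_card, hk]
  have hnil : Group.IsNilpotent (N ⧸ L) := hQ.isNilpotent
  have hnt : Nontrivial (N ⧸ L) := by
    rw [← Finite.one_lt_card_iff_nontrivial, ← Subgroup.index_eq_card]
    have h1 : L.index ≠ 1 := fun h => hne (Subgroup.index_eq_one.mp h)
    have h0 : L.index ≠ 0 := Subgroup.index_ne_zero_of_finite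
    omega
  have hlt := Group.IsSolvable.commutator_lt_top_of_nontrivial (N ⧸ L)
  apply hlt.ne
  rw [eq_top_iff]
  have hsurj : Function.Surjective (QuotientGroup.mk' L) := QuotientGroup.mk'_surjective L
  have h1 : P.map (QuotientGroup.mk' L) = ⊤ := by
    have h2 : (P ⊔ L).map (QuotientGroup.mk' L) = ⊤ := by
      rw [hPL]; exact Subgroup.map_top_of_surjective _ hsurj
    rwa [Subgroup.map_sup, QuotientGroup.map_mk'_self, sup_bot_eq] at h2
  rw [← h1]
  calc P.map (QuotientGroup.mk' L) ≤ (commutator N).map (QuotientGroup.mk' L) :=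
        Subgroup.map_mono hP
    _ ≤ commutator (N ⧸ L) := by
        rw [commutator_def, commutator_def, Subgroup.map_commutator]
        exact Subgroup.commutator_mono le_top le_top

variable {G : Type*} [Group G]

/-- Subgroup-level version. -/
theorem le_of_le_commutator [Finite G] (p : ℕ) [Fact p.Prime] (N L P : Subgroup G) (hLN : L ≤ N)
    (hn : N ≤ normalizer (L : Set G)) (hidx : ∃ k, L.relIndex N = p ^ k) (hPN : P ≤ N)
    (hPL : N ≤ P ⊔ L) (hP : P ≤ ⁅N, N⁆) : N ≤ L := by
  haveI : (L.subgroupOf N).Normal := (Subgroup.normal_subgroupOf_iff_le_normalizer hLN).mpr hn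
  have h1 : P.subgroupOf N ⊔ L.subgroupOf N = ⊤ := by
    rw [← Subgroup.subgroupOf_sup hPN hLN, Subgroup.subgroupOf_eq_top]
    exact hPL
  have h2 : P.subgroupOf N ≤ commutator ↥N := by
    rw [← Subgroup.map_le_map_iff_of_injective N.subtype_injective,
      Subgroup.map_subgroupOf_eq_of_le hPN, commutator_def, Subgroup.map_commutator,
      ← MonoidHom.range_eq_map, Subgroup.range_subtype]
    exact hP
  have h3 := eq_top_of_le_commutator p (L.subgroupOf N) hidx (P.subgroupOf N) h1 h2
  exact Subgroup.subgroupOf_eq_top.mp h3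

theorem mem_normalizer_of_conj_mem [Finite G] (L : Subgroup G) (g : G)
    (h : ∀ x ∈ L, g * x * g⁻¹ ∈ L) : g ∈ normalizer (L : Set G) := by
  have hle : L.map (MulAut.conj g).toMonoidHom ≤ L := by
    rintro _ ⟨x, hx, rfl⟩
    exact h x hx
  have heq : L.map (MulAut.conj g).toMonoidHom = L := by
    apply Subgroup.eq_of_le_of_card_ge hle
    rw [Subgroup.card_map_of_injective (MulAut.conj g).injective]
  rw [Subgroup.mem_normalizer_iff]
  intro x
  constructor
  · exact h x
  · intro hx
    rw [← heq] at hx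
    obtain ⟨y, hy, hyx⟩ := hx
    have : y = x := by
      simp only [MulEquiv.toMonoidHom_eq_coe, MonoidHom.coe_coe, MulAut.conj_apply] at hyx
      have := mul_left_cancel (mul_right_cancel hyx)
      exact this
    rwa [← this]

/-- Lemma Y: `N = P ⋊ K` with `P ≤ N'`; a normal subgroup `P₀ ≤ P` containing `[P, K]` is `P`. -/
theorem eq_of_commutator_le [Finite G] (p : ℕ) [Fact p.Prime] (N P K P₀ : Subgroup G)
    (hP : IsPGroup p P) (hPN : P ≤ N) (hKN : K ≤ N)
    (hcard : Nat.card N = Nat.card P * Nat.card K) (hKp : (Nat.card K).Coprime p)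
    (hP₀ : P₀ ≤ P) (hPP₀ : P ≤ normalizer (P₀ : Set G))
    (hKP : K ≤ normalizer (P₀ : Set G))
    (hcomm : ∀ y ∈ P, ∀ k ∈ K, ⁅y, k⁆ ∈ P₀)
    (hder : P ≤ ⁅N, N⁆) : P₀ = P := by
  classical
  have hp := (Fact.out : p.Prime)
  obtain ⟨b, hb⟩ := IsPGroup.iff_card.mp hP
  have hdisj : ∀ Y : Subgroup G, Y ≤ P → K ⊓ Y = ⊥ := by
    intro Y hY
    apply disjoint_iff.mp
    apply Subgroup.disjoint_of_coprime_natCard
    obtain ⟨n, hn⟩ := IsPGroup.iff_card.mp (hP.to_le hY)
    rw [hn]
    exact Nat.Coprime.pow_right n hKp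
  -- `N = K ⊔ P`
  set L := K ⊔ P₀ with hL
  have hLN : L ≤ N := sup_le hKN (hP₀.trans hPN)
  have hcardL : Nat.card L = Nat.card K * Nat.card P₀ :=
    Helper1_FPF.card_sup_of_le_normalizer K P₀ hKP (hdisj P₀ hP₀)
  -- P ⊔ K has order |P||K| hence equals N
  have hPKN : N ≤ P ⊔ K := by
    have h1 : Nat.card P * Nat.card K ∣ Nat.card (P ⊔ K : Subgroup G) := by
      apply Nat.Coprime.mul_dvd_of_dvd_of_dvd
      · rw [hb]; exact (Nat.Coprime.pow_right b hKp).symm
      · exact Subgroup.card_dvd_of_le le_sup_left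
      · exact Subgroup.card_dvd_of_le le_sup_right
    have h2 : P ⊔ K ≤ N := sup_le hPN hKN
    have h3 : P ⊔ K = N := by
      apply Subgroup.eq_of_le_of_card_ge h2
      rw [hcard]
      exact Nat.le_of_dvd Nat.card_pos h1
    rw [h3]
  -- `N` normalizes `L`
  have hKL : K ≤ normalizer (L : Set G) := by
    intro k hk
    apply mem_normalizer_of_conj_mem
    intro x hx
    have hk' := hKP hk
    rw [Helper24_CoprimeAction.mem_normalizer_iff_map_conj] at hk'
    have h1 : L.map (MulAut.conj k).toMonoidHom ≤ L := by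
      rw [hL, Subgroup.map_sup, hk']
      refine sup_le ?_ le_sup_right
      rintro _ ⟨y, hy, rfl⟩
      exact le_sup_left (a := K) (K.mul_mem (K.mul_mem hk hy) (K.inv_mem hk))
    exact h1 ⟨x, hx, rfl⟩
  have hPL : P ≤ normalizer (L : Set G) := by
    intro y hy
    apply mem_normalizer_of_conj_mem
    intro x hx
    have hy' := hPP₀ hy
    rw [Helper24_CoprimeAction.mem_normalizer_iff_map_conj] at hy'
    have h1 : L.map (MulAut.conj y).toMonoidHom ≤ L := by
      rw [hL, Subgroup.map_sup, hy']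
      refine sup_le ?_ le_sup_right
      rintro _ ⟨k, hk, rfl⟩
      have h2 : y * k * y⁻¹ = ⁅y, k⁆ * k := by
        rw [commutatorElement_def]; group
      show y * k * y⁻¹ ∈ K ⊔ P₀
      rw [h2]
      exact (K ⊔ P₀).mul_mem (le_sup_right (a := K) (hcomm y hy k hk)) (le_sup_left (a := K) hk)
    exact h1 ⟨x, hx, rfl⟩
  have hNL : N ≤ normalizer (L : Set G) := hPKN.trans (sup_le hPL hKL)
  have hidx : ∃ j, L.relIndex N = p ^ j := by
    have h1 : L.relIndex N ∣ K.relIndex N := Subgroup.relIndex_dvd_of_le_left N le_sup_left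
    have h2 : K.relIndex N = p ^ b := by
      rw [Helper24_CoprimeHall.relIndex_eq_div hKN, hcard, hb,
        Nat.mul_div_cancel _ Nat.card_pos]
    rw [h2] at h1
    obtain ⟨j, -, hj⟩ := (Nat.dvd_prime_pow hp).mp h1
    exact ⟨j, hj⟩
  have hNPL : N ≤ P ⊔ L := by
    refine hPKN.trans (sup_le le_sup_left ?_)
    exact le_sup_left.trans (le_sup_right (a := P))
  have hfin := le_of_le_commutator p N L P hLN hNL hidx hPN hNPL hder
  have hcardle : Nat.card N ≤ Nat.card L := Nat.le_of_dvd Nat.card_pos (Subgroup.card_dvd_of_le hfin)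
  rw [hcard, hcardL, mul_comm] at hcardle
  have h4 : Nat.card P ≤ Nat.card P₀ := Nat.le_of_mul_le_mul_left hcardle Nat.card_pos
  exact Subgroup.eq_of_le_of_card_ge hP₀ h4

end Cfsg.Agent.Lib.Helper21_PP3
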