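import Cfsg.Prelude.Def_ConjugacyFunctors
import Cfsg.Agent.Lib.Helper33_WFusion
import Mathlib.GroupTheory.Focal

set_option autoImplicit false

namespace Cfsg.Agent.Lib.Helper33_WTransfer

open Cfsg.Agent.Lib.Helper33_Conj Cfsg.Agent.Lib.Helper33_Alperin Cfsg.Agent.Lib.Helper33_WFusion
open scoped commutatorElement

variable {G : Type*} [Group G]

/-- one term `T ∩ (N_H(W T))'` -/
def DDterm (H T : Subgroup G) (W : Subgroup G → Subgroup G) : Subgroup G :=
  T ⊓ ⁅H ⊓ Subgroup.normalizer ((W T : Subgroup G) : Set G),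
    H ⊓ Subgroup.normalizer ((W T : Subgroup G) : Set G)⁆

/-- the subgroup `⟨T ∩ (N_H(W T))' : W ∈ 𝓦⟩` -/
def DD (𝓦 : Set (Subgroup G → Subgroup G)) (H T : Subgroup G) : Subgroup G :=
  ⨆ W ∈ 𝓦, DDterm H T W

theorem le_DD {𝓦 : Set (Subgroup G → Subgroup G)} {W : Subgroup G → Subgroup G} (hW : W ∈ 𝓦)
    (H T : Subgroup G) : DDterm H T W ≤ DD 𝓦 H T :=
  le_trans (le_iSup (fun _ : W ∈ 𝓦 => DDterm H T W) hW)
    (le_iSup (fun W => ⨆ (_ : W ∈ 𝓦), DDterm H T W) W)

theorem le_DD_top {𝓦 : Set (Subgroup G → Subgroup G)} {W : Subgroup G → Subgroup G} (hW : W ∈ 𝓦)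
    (T : Subgroup G) :
    T ⊓ ⁅Subgroup.normalizer ((W T : Subgroup G) : Set G),
      Subgroup.normalizer ((W T : Subgroup G) : Set G)⁆ ≤ DD 𝓦 ⊤ T := by
  have := le_DD hW ⊤ T
  unfold DDterm at this
  rwa [top_inf_eq] at this

theorem DD_le {𝓦 : Set (Subgroup G → Subgroup G)} {H T D : Subgroup G}
    (h : ∀ W ∈ 𝓦, DDterm H T W ≤ D) : DD 𝓦 H T ≤ D :=
  iSup_le fun W => iSup_le fun hW => h W hW

theorem cj_commutator (g : G) (A B : Subgroup G) : cj g ⁅A, B⁆ = ⁅cj g A, cj g B⁆ :=
  Subgroup.map_commutator A B _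

theorem cj_injective (g : G) : Function.Injective (cj g : Subgroup G → Subgroup G) :=
  Subgroup.map_injective (MulAut.conj g).injective

variable {𝓦 : Set (Subgroup G → Subgroup G)} {p : ℕ}

theorem cj_DDterm (h𝓦 : ∀ W ∈ 𝓦, Cfsg.IsConjugacyFunctor p W) {H P : Subgroup G} (hP : IsPGroup p P)
    {t : G} (ht : t ∈ H) {W : Subgroup G → Subgroup G} (hW : W ∈ 𝓦) :
    cj t (DDterm H P W) = DDterm H (cj t P) W := by
  unfold DDterm
  rw [cj_inf, cj_commutator, cj_inf, cj_normalizer, cj_of_mem ht, W_cj' h𝓦 hW hP]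

theorem cj_DD (h𝓦 : ∀ W ∈ 𝓦, Cfsg.IsConjugacyFunctor p W) {H P : Subgroup G} (hP : IsPGroup p P)
    {t : G} (ht : t ∈ H) : cj t (DD 𝓦 H P) = DD 𝓦 H (cj t P) := by
  apply le_antisymm
  · rw [cj_le_iff]
    apply DD_le
    intro W hW
    rw [← cj_le_iff, cj_DDterm h𝓦 hP ht hW]
    exact le_DD hW _ _
  · apply DD_le
    intro W hW
    rw [← cj_DDterm h𝓦 hP ht hW]
    exact cj_mono (le_DD hW _ _)

/-- If `𝓦` controls transfer in `H`, the defining equation holds for every Sylow `p`-subgroup of `H`. -/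
theorem eq_DD_of_controls [Finite G] [Fact p.Prime] (h𝓦 : ∀ W ∈ 𝓦, Cfsg.IsConjugacyFunctor p W)
    {H P : Subgroup G} (hctl : Cfsg.FamilyControlsTransferIn p 𝓦 H) (hPH : P ≤ H)
    (hP : IsPGroup p P) (hidx : ¬ p ∣ P.relIndex H) : P ⊓ ⁅H, H⁆ = DD 𝓦 H P := by
  obtain ⟨T', hT'H, hT'p, hT'idx, hprop⟩ := hctl
  obtain ⟨t, htH, htle⟩ := exists_cj_le_of_relIndex hT'H hT'p hT'idx hPH hP
  have hT' : T' = cj t P := by
    apply eq_of_le_of_not_dvd_relIndex' (p := p) htle hT'H hT'p
    have : (cj t P).relIndex H = (cj t P).relIndex (cj t H) := by rw [cj_of_mem htH]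
    rw [this, relIndex_cj']
    exact hidx
  subst hT'
  apply cj_injective t
  rw [cj_DD h𝓦 hP htH, cj_inf, cj_commutator, cj_of_mem htH]
  exact hprop

section Main

variable [Finite G] [Fact p.Prime] (S : Sylow p G)
  (h𝓦 : ∀ W ∈ 𝓦, Cfsg.IsConjugacyFunctor p W)

/-- the relation "`a (g a g⁻¹)⁻¹ ∈ D` for all `a ∈ A`" -/
def TR (D : Subgroup G) (A : Set G) (g : G) : Prop := ∀ a ∈ A, a * (g * a * g⁻¹)⁻¹ ∈ D

theorem TR.fusionRel (D : Subgroup G) : FusionRel (TR D) where
  restrict := fun A A' g h hA a ha => h a (hA ha)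
  trans := by
    intro A g h h1 h2 a ha
    have e : a * (h * g * a * (h * g)⁻¹)⁻¹ =
        (a * (g * a * g⁻¹)⁻¹) * ((g * a * g⁻¹) * (h * (g * a * g⁻¹) * h⁻¹)⁻¹) := by group
    rw [e]
    exact D.mul_mem (h1 a ha) (h2 _ (conj_mem_cjs ha))
  symm := by
    rintro A g h _ ⟨a, ha, rfl⟩
    have e : g * a * g⁻¹ * (g⁻¹ * (g * a * g⁻¹) * g⁻¹⁻¹)⁻¹ = (a * (g * a * g⁻¹)⁻¹)⁻¹ := by group
    rw [e]
    exact D.inv_mem (h a ha)

include h𝓦 in
theorem tr_of_local (𝓕 : Set (Subgroup G))
    (h𝓕 : ∀ T : Subgroup G, T ≤ (S : Subgroup G) → ∃ U ∈ 𝓕, U ≤ (S : Subgroup G) ∧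
      (∃ g : G, cj g T = U) ∧
      ¬ p ∣ ((S : Subgroup G) ⊓ Subgroup.normalizer (U : Set G)).relIndex
        (Subgroup.normalizer (U : Set G)))
    (hloc : ∀ U ∈ 𝓕, U ≤ (S : Subgroup G) → U ≠ ⊥ →
      ¬ p ∣ ((S : Subgroup G) ⊓ Subgroup.normalizer (U : Set G)).relIndex
        (Subgroup.normalizer (U : Set G)) →
      Cfsg.FamilyControlsTransferIn p 𝓦 (Subgroup.normalizer (U : Set G))) :
    ∀ Q : Subgroup G, Q ≤ (S : Subgroup G) → ∀ g : G, cj g Q ≤ (S : Subgroup G) →
      TR (DD 𝓦 ⊤ (S : Subgroup G)) (Q : Set G) g := by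
  generalize hD : DD 𝓦 ⊤ (S : Subgroup G) = D
  have hDtop : ∀ W ∈ 𝓦, (S : Subgroup G) ⊓
      ⁅Subgroup.normalizer ((W (S : Subgroup G) : Subgroup G) : Set G),
      Subgroup.normalizer ((W (S : Subgroup G) : Subgroup G) : Set G)⁆ ≤ D := by
    intro W hW; rw [← hD]; exact le_DD_top hW _
  clear hD
  have hR := TR.fusionRel D
  apply alperin S 𝓕 h𝓕 (TR D) hR
  intro U hU hUS hUfn IH m hm
  by_cases hUbot : U = ⊥
  · subst hUbot
    intro a ha
    have : a = 1 := by simpa using ha
    subst this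
    simp
  -- the claim C'(P)
  have C : ∀ n : ℕ, ∀ P : Subgroup G, P ≤ (S : Subgroup G) →
      Nat.card (S : Subgroup G) - Nat.card P = n →
      (Nat.card U < Nat.card P ∨ P = (S : Subgroup G)) →
      ∀ W ∈ 𝓦, P ⊓ ⁅Subgroup.normalizer ((W P : Subgroup G) : Set G),
        Subgroup.normalizer ((W P : Subgroup G) : Set G)⁆ ≤ D := by
    intro n
    induction n using Nat.strong_induction_on with
    | _ n ihC =>
    intro P hPS hn hcard W hW
    rcases eq_or_lt_of_le hPS with hPeq | hPlt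
    · subst hPeq
      exact hDtop W hW
    · have hcardP : Nat.card U < Nat.card P := hcard.resolve_right hPlt.ne
      have hPp : IsPGroup p P := S.2.to_le hPS
      have hPne : P ≠ ⊥ := by
        intro h
        rw [h, Subgroup.card_bot] at hcardP
        have : 0 < Nat.card U := Nat.card_pos
        omega
      have hVne : W P ≠ ⊥ := (h𝓦 W hW P hPp).2.1 hPne
      have hVP : W P ≤ P := (h𝓦 W hW P hPp).1
      have h1 : P < (S : Subgroup G) ⊓ Subgroup.normalizer (P : Set G) :=
        lt_inf_normalizer S.2 hPlt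
      have h2 : (S : Subgroup G) ⊓ Subgroup.normalizer (P : Set G) ≤
          (S : Subgroup G) ⊓ Subgroup.normalizer ((W P : Subgroup G) : Set G) :=
        inf_le_inf_left _ (normalizer_le_normalizer_W' h𝓦 hW hPp)
      obtain ⟨U', hU', hU'S, ⟨k₀, hk₀⟩, hU'fn⟩ := h𝓕 (W P) (hVP.trans hPS)
      obtain ⟨k, hkV, hkN⟩ := exists_cj_normalizer_le S k₀ hk₀ hU'fn
      have hc1 : Nat.card P < Nat.card ((S : Subgroup G) ⊓
          Subgroup.normalizer ((W P : Subgroup G) : Set G) : Subgroup G) :=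
        lt_of_lt_of_le (card_lt_of_lt h1) (Subgroup.card_le_of_le h2)
      have hc2 : Nat.card ((S : Subgroup G) ⊓
          Subgroup.normalizer ((W P : Subgroup G) : Set G) : Subgroup G) ≤
          Nat.card ((S : Subgroup G) ⊓ Subgroup.normalizer (U' : Set G) : Subgroup G) := by
        rw [← card_cj k]
        exact Subgroup.card_le_of_le hkN
      have hc3 : Nat.card ((S : Subgroup G) ⊓ Subgroup.normalizer (U' : Set G) : Subgroup G) ≤
          Nat.card (S : Subgroup G) := Subgroup.card_le_of_le inf_le_left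
      have hU'ne : U' ≠ ⊥ := by
        intro h
        apply hVne
        have : cj k⁻¹ U' = W P := by rw [← hkV, cj_inv_cj]
        rw [← this, h]
        exact Subgroup.map_bot _
      have hRk : TR D (((S : Subgroup G) ⊓
          Subgroup.normalizer ((W P : Subgroup G) : Set G) : Subgroup G) : Set G) k :=
        IH _ inf_le_left (by omega) k (hkN.trans inf_le_left)
      have hctl := hloc U' hU' hU'S hU'ne hU'fn
      have heq := eq_DD_of_controls h𝓦 hctl inf_le_right (S.2.to_le inf_le_left) hU'fn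
      have CP' := ihC (Nat.card (S : Subgroup G) - Nat.card ((S : Subgroup G) ⊓
        Subgroup.normalizer (U' : Set G) : Subgroup G)) (by omega) _ inf_le_left rfl
        (Or.inl (by omega))
      have hDle : DD 𝓦 (Subgroup.normalizer (U' : Set G))
          ((S : Subgroup G) ⊓ Subgroup.normalizer (U' : Set G)) ≤ D := by
        apply DD_le
        intro W' hW'
        refine le_trans ?_ (CP' W' hW')
        unfold DDterm
        exact inf_le_inf_left _ (Subgroup.commutator_mono inf_le_right inf_le_right)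
      intro y hy
      rw [Subgroup.mem_inf] at hy
      have hyV : y ∈ (S : Subgroup G) ⊓ Subgroup.normalizer ((W P : Subgroup G) : Set G) :=
        (h1.le.trans h2) hy.1
      have hky : k * y * k⁻¹ ∈ D := by
        apply hDle
        rw [← heq, Subgroup.mem_inf]
        refine ⟨hkN (conj_mem_cj hyV), ?_⟩
        have : k * y * k⁻¹ ∈ cj k ⁅Subgroup.normalizer ((W P : Subgroup G) : Set G),
            Subgroup.normalizer ((W P : Subgroup G) : Set G)⁆ := conj_mem_cj hy.2
        rwa [cj_commutator, cj_normalizer, hkV] at this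
      have h3 := hRk y hyV
      have : y = (y * (k * y * k⁻¹)⁻¹) * (k * y * k⁻¹) := by group
      rw [this]
      exact D.mul_mem h3 hky
  -- apply C to P = N_S(U)
  have hUP : U ≤ (S : Subgroup G) ⊓ Subgroup.normalizer (U : Set G) :=
    le_inf hUS Subgroup.le_normalizer
  have hcardP : Nat.card U < Nat.card ((S : Subgroup G) ⊓
      Subgroup.normalizer (U : Set G) : Subgroup G) ∨
      (S : Subgroup G) ⊓ Subgroup.normalizer (U : Set G) = (S : Subgroup G) := by
    rcases eq_or_lt_of_le hUS with h | h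
    · right
      rw [h]
      exact inf_eq_left.mpr Subgroup.le_normalizer
    · left
      exact card_lt_of_lt (lt_inf_normalizer S.2 h)
  have CP := C _ _ inf_le_left rfl hcardP
  have hctl := hloc U hU hUS hUbot hUfn
  have heq := eq_DD_of_controls h𝓦 hctl inf_le_right (S.2.to_le inf_le_left) hUfn
  have hDle : DD 𝓦 (Subgroup.normalizer (U : Set G))
      ((S : Subgroup G) ⊓ Subgroup.normalizer (U : Set G)) ≤ D := by
    apply DD_le
    intro W' hW'
    refine le_trans ?_ (CP W' hW')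
    unfold DDterm
    exact inf_le_inf_left _ (Subgroup.commutator_mono inf_le_right inf_le_right)
  intro a ha
  apply hDle
  rw [← heq, Subgroup.mem_inf]
  have hmam : m * a * m⁻¹ ∈ U := ((Subgroup.mem_normalizer_iff.mp hm) a).mp ha
  constructor
  · exact hUP (U.mul_mem ha (U.inv_mem hmam))
  · have e : a * (m * a * m⁻¹)⁻¹ = ⁅a, m⁆ := by
      rw [commutatorElement_def]; group
    rw [e]
    exact Subgroup.commutator_mem_commutator (Subgroup.le_normalizer ha) hm

include h𝓦 in
/-- **Local-to-global control of transfer.** -/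
theorem familyControlsTransfer_of_local (𝓕 : Set (Subgroup G))
    (h𝓕 : ∀ T : Subgroup G, T ≤ (S : Subgroup G) → ∃ U ∈ 𝓕, U ≤ (S : Subgroup G) ∧
      (∃ g : G, cj g T = U) ∧
      ¬ p ∣ ((S : Subgroup G) ⊓ Subgroup.normalizer (U : Set G)).relIndex
        (Subgroup.normalizer (U : Set G)))
    (hloc : ∀ U ∈ 𝓕, U ≤ (S : Subgroup G) → U ≠ ⊥ →
      ¬ p ∣ ((S : Subgroup G) ⊓ Subgroup.normalizer (U : Set G)).relIndex
        (Subgroup.normalizer (U : Set G)) →
      Cfsg.FamilyControlsTransferIn p 𝓦 (Subgroup.normalizer (U : Set G))) :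
    Cfsg.FamilyControlsTransferIn p 𝓦 ⊤ := by
  refine ⟨(S : Subgroup G), le_top, S.2, ?_, ?_⟩
  · rw [Subgroup.relIndex_top_right]; exact S.not_dvd_index
  · show _ = DD 𝓦 ⊤ (S : Subgroup G)
    apply le_antisymm
    · rw [← commutator_def, inf_comm, Subgroup.commutator_inf_eq_focalSubgroup S,
        Subgroup.focalSubgroup_def, Subgroup.closure_le]
      rintro g ⟨hgS, x, hxS, u, rfl⟩
      have key := tr_of_local S h𝓦 𝓕 h𝓕 hloc (Subgroup.zpowers x)
        (by rw [Subgroup.zpowers_le]; exact hxS) u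
        (by
          have hx' : u * x * u⁻¹ ∈ (S : Subgroup G) := by
            have h1 : x⁻¹ * ⁅x, u⁆ ∈ (S : Subgroup G) :=
              Subgroup.mul_mem _ (Subgroup.inv_mem _ hxS) hgS
            have e : x⁻¹ * ⁅x, u⁆ = (u * x * u⁻¹)⁻¹ := by
              rw [commutatorElement_def]; group
            rw [e] at h1
            exact (Subgroup.inv_mem_iff _).mp h1
          intro y hy
          rw [mem_cj] at hy
          obtain ⟨n, hn⟩ := Subgroup.mem_zpowers_iff.mp hy
          have : y = (u * x * u⁻¹) ^ n := by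
            rw [conj_zpow, hn]; group
          rw [this]
          exact Subgroup.zpow_mem _ hx' n)
      have := key x (Subgroup.mem_zpowers x)
      have e : ⁅x, u⁆ = x * (u * x * u⁻¹)⁻¹ := by
        rw [commutatorElement_def]; group
      rw [SetLike.mem_coe, e]
      exact this
    · apply DD_le
      intro W _
      unfold DDterm
      exact inf_le_inf_left _ (Subgroup.commutator_mono inf_le_left inf_le_left)

end Main

/-! ### Single functor versus singleton family -/

theorem controlsTransfer_iff_singleton {W : Subgroup G → Subgroup G} {H : Subgroup G} :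
    Cfsg.ControlsTransferIn p W H ↔ Cfsg.FamilyControlsTransferIn p {W} H := by
  unfold Cfsg.ControlsTransferIn Cfsg.FamilyControlsTransferIn
  simp only [Set.mem_singleton_iff, iSup_iSup_eq_left]

end Cfsg.Agent.Lib.Helper33_WTransfer
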