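import Cfsg.Prelude.Def_ConjugacyFunctors
import Cfsg.Prelude.Def_Solvable
import Cfsg.Agent.Lib.Helper34_NPC
import Cfsg.Agent.Lib.Helper33_WTransfer
import Cfsg.Agent.Lib.Helper22_Cores
import Cfsg.Agent.Lib.Helper76_PSolvable
import Cfsg.Agent.Lib.Helper51_Local
import Mathlib.GroupTheory.Focal
import Mathlib.GroupTheory.Transfer
import Mathlib.GroupTheory.IsSubnormal

set_option autoImplicit false

universe u

namespace Cfsg.Agent.Lib.Helper54_FunctorTransfer

open Cfsg Cfsg.Agent.Lib.Helper34_NPC Cfsg.Agent.Lib.Helper33_WTransfer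
  Cfsg.Agent.Lib.Helper33_Conj Cfsg.Agent.Lib.Helper33_Alperin
open scoped commutatorElement

variable {p : ℕ} [Fact p.Prime] {𝓦 : Set (∀ (Q : Type u) [Group Q], Subgroup Q)}

theorem commutator_self_le {X : Type*} [Group X] (N : Subgroup X) : ⁅N, N⁆ ≤ N := by
  rw [Subgroup.commutator_le]
  intro a ha b hb
  rw [commutatorElement_def]
  exact N.mul_mem (N.mul_mem (N.mul_mem ha hb) (N.inv_mem ha)) (N.inv_mem hb)

/-- if `s = n' * k` with `n' ∈ N'`, `s, k ∈ N` of coprime orders, then `s ∈ N'` -/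
theorem mem_commutator_of_mul_coprime {X : Type*} [Group X] {N : Subgroup X} {s n' k : X}
    (hs : s ∈ N) (hn' : n' ∈ ⁅N, N⁆) (hk : k ∈ N) (h : s = n' * k)
    (hcop : (orderOf s).Coprime (orderOf k)) : s ∈ ⁅N, N⁆ := by
  have hn'N : n' ∈ N := commutator_self_le N hn'
  rw [← Subgroup.map_subtype_commutator] at hn' ⊢
  obtain ⟨m, hm, hmn⟩ := hn'
  have hm' : m = ⟨n', hn'N⟩ := Subtype.ext hmn
  subst hm'
  let a : Abelianization ↥N := Abelianization.of ⟨s, hs⟩
  have ha : a = Abelianization.of ⟨k, hk⟩ := by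
    have e : (⟨s, hs⟩ : ↥N) = ⟨n', hn'N⟩ * ⟨k, hk⟩ := Subtype.ext h
    show Abelianization.of (⟨s, hs⟩ : ↥N) = _
    rw [e, map_mul]
    have : Abelianization.of (⟨n', hn'N⟩ : ↥N) = 1 := by
      rw [← MonoidHom.mem_ker, Abelianization.ker_of]
      exact hm
    rw [this, one_mul]
  have h1 : orderOf a ∣ orderOf s := by
    have := orderOf_map_dvd (Abelianization.of (G := ↥N)) (⟨s, hs⟩ : ↥N)
    rwa [Subgroup.orderOf_mk] at this
  have h2 : orderOf a ∣ orderOf k := by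
    rw [ha]
    have := orderOf_map_dvd (Abelianization.of (G := ↥N)) (⟨k, hk⟩ : ↥N)
    rwa [Subgroup.orderOf_mk] at this
  have h3 : orderOf a = 1 := Nat.eq_one_of_dvd_coprimes hcop h1 h2
  have h4 : a = 1 := orderOf_eq_one_iff.mp h3
  refine ⟨⟨s, hs⟩, ?_, rfl⟩
  have h5 : (⟨s, hs⟩ : ↥N) ∈ (Abelianization.of (G := ↥N)).ker := MonoidHom.mem_ker.mpr h4
  rw [Abelianization.ker_of] at h5
  exact h5

/-- an element of a `p`-group lying in a subgroup of order prime to `p` is trivial -/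
theorem eq_one_of_mem_pgroup_of_mem_coprime {X : Type*} [Group X] {p : ℕ} [Fact p.Prime]
    {S K : Subgroup X} [Finite K] (hS : IsPGroup p S) (hK : (Nat.card K).Coprime p) {y : X}
    (hyS : y ∈ S) (hyK : y ∈ K) : y = 1 := by
  obtain ⟨j, hj⟩ := hS ⟨y, hyS⟩
  have hj' : y ^ p ^ j = 1 := by
    have := congrArg Subtype.val hj
    simpa using this
  have h1 : orderOf y ∣ p ^ j := orderOf_dvd_of_pow_eq_one hj'
  have h2 : orderOf y ∣ Nat.card K := by
    have := orderOf_dvd_natCard (⟨y, hyK⟩ : K)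
    rwa [Subgroup.orderOf_mk] at this
  have h3 : (Nat.card K).Coprime (p ^ j) := Nat.Coprime.pow_right j hK
  have h4 : orderOf y = 1 := Nat.eq_one_of_dvd_coprimes h3 h2 h1
  exact orderOf_eq_one_iff.mp h4

/-- the family of conjugacy functors induced on `X` -/
def ind (𝓦 : Set (∀ (Q : Type u) [Group Q], Subgroup Q)) (X : Type u) [Group X] :
    Set (Subgroup X → Subgroup X) :=
  (fun W => Cfsg.inducedFunctor (G := X) W) '' 𝓦

/-- the family controls transfer in the whole group `X` -/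
def FCT (p : ℕ) (𝓦 : Set (∀ (Q : Type u) [Group Q], Subgroup Q)) (X : Type u) [Group X] : Prop :=
  Cfsg.FamilyControlsTransferIn p (ind 𝓦 X) ⊤

theorem ind_isConjugacyFunctor (h𝓦 : ∀ W ∈ 𝓦, Cfsg.IsCharPFunctor.{u} p W) (X : Type u) [Group X]
    [Finite X] : ∀ W' ∈ ind 𝓦 X, Cfsg.IsConjugacyFunctor p W' := by
  rintro _ ⟨W, hW, rfl⟩
  exact fun P hP => ⟨inducedFunctor_le W P, inducedFunctor_ne_bot (h𝓦 W hW) hP,
    fun g => inducedFunctor_conj (h𝓦 W hW) P hP g⟩

/-- `DD` for the induced family, as a supremum over `𝓦` -/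
theorem DD_ind (X : Type u) [Group X] (H T : Subgroup X) :
    DD (ind 𝓦 X) H T = ⨆ W ∈ 𝓦, T ⊓ ⁅H ⊓ Subgroup.normalizer
        ((Cfsg.inducedFunctor W T : Subgroup X) : Set X),
      H ⊓ Subgroup.normalizer ((Cfsg.inducedFunctor W T : Subgroup X) : Set X)⁆ := by
  unfold DD ind DDterm
  rw [iSup_image]

theorem DD_mono_left {X : Type u} [Group X] {H H' : Subgroup X} (h : H ≤ H') (T : Subgroup X)
    (𝓥 : Set (Subgroup X → Subgroup X)) : DD 𝓥 H T ≤ DD 𝓥 H' T := by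
  apply DD_le
  intro W hW
  refine le_trans ?_ (le_DD hW H' T)
  unfold DDterm
  exact inf_le_inf_left _ (Subgroup.commutator_mono (inf_le_inf_right _ h) (inf_le_inf_right _ h))

theorem DD_le_inf {X : Type u} [Group X] (H T : Subgroup X)
    (𝓥 : Set (Subgroup X → Subgroup X)) : DD 𝓥 H T ≤ T ⊓ ⁅H, H⁆ := by
  apply DD_le
  intro W _
  unfold DDterm
  exact inf_le_inf_left _ (Subgroup.commutator_mono inf_le_left inf_le_left)

/-- consequence of transfer control for an arbitrary Sylow subgroup -/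
theorem FCT.eq (h𝓦 : ∀ W ∈ 𝓦, Cfsg.IsCharPFunctor.{u} p W) {X : Type u} [Group X] [Finite X]
    (h : FCT p 𝓦 X) (S : Sylow p X) :
    (S : Subgroup X) ⊓ ⁅(⊤ : Subgroup X), ⊤⁆ = DD (ind 𝓦 X) ⊤ (S : Subgroup X) :=
  eq_DD_of_controls (ind_isConjugacyFunctor h𝓦 X) h le_top S.2
    (by rw [Subgroup.relIndex_top_right]; exact S.not_dvd_index)

theorem FCT.of_le {X : Type u} [Group X] [Finite X] (S : Sylow p X)
    (h : (S : Subgroup X) ⊓ ⁅(⊤ : Subgroup X), ⊤⁆ ≤ DD (ind 𝓦 X) ⊤ (S : Subgroup X)) :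
    FCT p 𝓦 X := by
  refine ⟨S, le_top, S.2, ?_, ?_⟩
  · rw [Subgroup.relIndex_top_right]; exact S.not_dvd_index
  · exact le_antisymm h (DD_le_inf _ _ _)

theorem map_normalizer_of_injective {Y X : Type*} [Group Y] [Group X] (f : Y →* X)
    (hf : Function.Injective f) (V : Subgroup Y) :
    (Subgroup.normalizer (V : Set Y)).map f =
      f.range ⊓ Subgroup.normalizer ((V.map f : Subgroup X) : Set X) := by
  ext x
  constructor
  · rintro ⟨y, hy, rfl⟩
    refine ⟨⟨y, rfl⟩, ?_⟩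
    exact Subgroup.le_normalizer_map f ⟨y, hy, rfl⟩
  · rintro ⟨⟨y, rfl⟩, hx⟩
    refine ⟨y, ?_, rfl⟩
    have hx' : f y ∈ Subgroup.normalizer ((V.map f : Subgroup X) : Set X) := hx
    clear hx
    show y ∈ Subgroup.normalizer (V : Set Y)
    rw [Subgroup.mem_normalizer_iff] at hx' ⊢
    intro v
    have h1 := hx' (f v)
    rw [Subgroup.mem_map_iff_mem hf] at h1
    rw [h1]
    have e : f y * f v * (f y)⁻¹ = f (y * v * y⁻¹) := by simp
    rw [e, Subgroup.mem_map_iff_mem hf]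

/-- transport of transfer control along an injective homomorphism -/
theorem FCT.map_injective (h𝓦 : ∀ W ∈ 𝓦, Cfsg.IsCharPFunctor.{u} p W) {Y X : Type u} [Group Y]
    [Group X] [Finite Y] (f : Y →* X) (hf : Function.Injective f) (h : FCT p 𝓦 Y) :
    Cfsg.FamilyControlsTransferIn p (ind 𝓦 X) f.range := by
  obtain ⟨T, -, hTp, hTi, hT⟩ := h
  refine ⟨T.map f, Subgroup.map_le_range f T, hTp.map _, ?_, ?_⟩
  · rw [MonoidHom.range_eq_map, Subgroup.relIndex_map_map_of_injective _ _ hf]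
    exact hTi
  · have hrange : f.range = (⊤ : Subgroup Y).map f := MonoidHom.range_eq_map f
    have key : ∀ W ∈ 𝓦, (T.map f) ⊓ ⁅f.range ⊓ Subgroup.normalizer
          ((Cfsg.inducedFunctor W (T.map f) : Subgroup X) : Set X),
        f.range ⊓ Subgroup.normalizer ((Cfsg.inducedFunctor W (T.map f) : Subgroup X) : Set X)⁆ =
        (T ⊓ ⁅⊤ ⊓ Subgroup.normalizer ((Cfsg.inducedFunctor W T : Subgroup Y) : Set Y),
          ⊤ ⊓ Subgroup.normalizer ((Cfsg.inducedFunctor W T : Subgroup Y) : Set Y)⁆).map f := by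
      intro W hW
      have hfun := inducedFunctor_map (h𝓦 W hW) f T hTp
        (fun x _ hx => hf (by rw [hx, map_one]))
      rw [hfun, ← map_normalizer_of_injective f hf, Subgroup.map_inf _ _ _ hf,
        Subgroup.map_commutator, top_inf_eq]
    unfold ind at hT ⊢
    rw [iSup_image] at hT ⊢
    have h2 : (⨆ W ∈ 𝓦, (T.map f) ⊓ ⁅f.range ⊓ Subgroup.normalizer
          ((Cfsg.inducedFunctor W (T.map f) : Subgroup X) : Set X),
        f.range ⊓ Subgroup.normalizer ((Cfsg.inducedFunctor W (T.map f) : Subgroup X) : Set X)⁆) =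
        (⨆ W ∈ 𝓦, T ⊓ ⁅⊤ ⊓ Subgroup.normalizer ((Cfsg.inducedFunctor W T : Subgroup Y) : Set Y),
          ⊤ ⊓ Subgroup.normalizer ((Cfsg.inducedFunctor W T : Subgroup Y) : Set Y)⁆).map f := by
      rw [Subgroup.map_iSup]
      apply iSup_congr
      intro W
      rw [Subgroup.map_iSup]
      apply iSup_congr
      intro hW
      exact key W hW
    rw [h2, ← hT, Subgroup.map_inf _ _ _ hf, Subgroup.map_commutator, ← hrange]


theorem FCT.of_equiv (h𝓦 : ∀ W ∈ 𝓦, Cfsg.IsCharPFunctor.{u} p W) {Y X : Type u} [Group Y]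
    [Group X] [Finite Y] (e : Y ≃* X) (h : FCT p 𝓦 Y) : FCT p 𝓦 X := by
  have h1 := FCT.map_injective h𝓦 e.toMonoidHom e.injective h
  have h2 : e.toMonoidHom.range = ⊤ := MonoidHom.range_eq_top.mpr e.surjective
  rw [h2] at h1
  exact h1

theorem FCT.subtype (h𝓦 : ∀ W ∈ 𝓦, Cfsg.IsCharPFunctor.{u} p W) {X : Type u} [Group X]
    [Finite X] (H : Subgroup X) (h : FCT p 𝓦 ↥H) :
    Cfsg.FamilyControlsTransferIn p (ind 𝓦 X) H := by
  have h1 := FCT.map_injective h𝓦 H.subtype H.subtype_injective h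
  rwa [Subgroup.range_subtype] at h1

/-- transfer control in a subgroup `H` containing the Sylow subgroup `S` -/
theorem FCT.le_DD (h𝓦 : ∀ W ∈ 𝓦, Cfsg.IsCharPFunctor.{u} p W) {X : Type u} [Group X]
    [Finite X] (H : Subgroup X) (h : FCT p 𝓦 ↥H) (S : Sylow p X) (hSH : (S : Subgroup X) ≤ H) :
    (S : Subgroup X) ⊓ ⁅H, H⁆ ≤ DD (ind 𝓦 X) ⊤ (S : Subgroup X) := by
  have h1 := FCT.subtype h𝓦 H h
  have hidx : ¬ p ∣ (S : Subgroup X).relIndex H := by
    intro hdvd
    exact S.not_dvd_index (hdvd.trans (Subgroup.relIndex_dvd_index_of_le hSH))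
  have h2 := eq_DD_of_controls (ind_isConjugacyFunctor h𝓦 X) h1 hSH S.2 hidx
  rw [h2]
  exact DD_mono_left le_top _ _

/-- the section hypothesis -/
def SecFCT (p : ℕ) (𝓦 : Set (∀ (Q : Type u) [Group Q], Subgroup Q)) (G : Type u) [Group G] :
    Prop :=
  ∀ (X : Type u) [Group X], Cfsg.Involves X G →
    Subgroup.centralizer ((Cfsg.pCore p X : Subgroup X) : Set X) ≤ Cfsg.pCore p X → FCT p 𝓦 X

theorem SecFCT.of_subgroup {G : Type u} [Group G] (h : SecFCT p 𝓦 G) (M : Subgroup G) :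
    SecFCT p 𝓦 ↥M :=
  fun X _ hX => h X (involves_of_subgroup M hX)

theorem SecFCT.of_surjective {G G' : Type u} [Group G] [Group G'] (h : SecFCT p 𝓦 G)
    (π : G →* G') (hπ : Function.Surjective π) : SecFCT p 𝓦 G' :=
  fun X _ hX => h X (involves_of_surjective π hπ hX)

/-- the hypothesis of the statement gives the section hypothesis -/
theorem secFCT_of_hloc (h𝓦 : ∀ W ∈ 𝓦, Cfsg.IsCharPFunctor.{u} p W) {G : Type u} [Group G]
    [Finite G]
    (hloc : ∀ (K R : Subgroup G) [hR : (R.subgroupOf K).Normal],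
      Subgroup.centralizer ((Cfsg.pCore p (↥K ⧸ R.subgroupOf K) :
        Subgroup (↥K ⧸ R.subgroupOf K)) : Set (↥K ⧸ R.subgroupOf K)) ≤
          Cfsg.pCore p (↥K ⧸ R.subgroupOf K) →
      Cfsg.FamilyControlsTransferIn p
        ((fun W => Cfsg.inducedFunctor (G := (↥K ⧸ R.subgroupOf K)) W) '' 𝓦) ⊤) :
    SecFCT p 𝓦 G := by
  intro X _ hX hc
  obtain ⟨K, R, hn, ⟨e⟩⟩ := hX
  have hfin : Finite (↥K ⧸ R.subgroupOf K) := inferInstance
  have hcore : (Cfsg.pCore p (↥K ⧸ R.subgroupOf K)).map e.toMonoidHom = Cfsg.pCore p X :=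
    pCore_map_equiv p e
  have hQ1 : Subgroup.centralizer ((Cfsg.pCore p (↥K ⧸ R.subgroupOf K) :
      Subgroup (↥K ⧸ R.subgroupOf K)) : Set (↥K ⧸ R.subgroupOf K)) ≤
        Cfsg.pCore p (↥K ⧸ R.subgroupOf K) := by
    intro c hc'
    have h1 : e c ∈ Cfsg.pCore p X := by
      apply hc
      rw [Subgroup.mem_centralizer_iff]
      intro y hy
      rw [SetLike.mem_coe, ← hcore] at hy
      obtain ⟨z, hz, rfl⟩ := hy
      have := Subgroup.mem_centralizer_iff.mp hc' z hz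
      show e z * e c = e c * e z
      rw [← map_mul, ← map_mul, this]
    rw [← hcore] at h1
    obtain ⟨z, hz, hzc⟩ := h1
    have : z = c := e.injective hzc
    rwa [← this]
  exact FCT.of_equiv h𝓦 e (hloc K R hQ1)

/-- lifting transfer control from the quotient by a normal `p'`-subgroup -/
theorem FCT.of_quotient_coprime (h𝓦 : ∀ W ∈ 𝓦, Cfsg.IsCharPFunctor.{u} p W) {X : Type u}
    [Group X] [Finite X] (K : Subgroup X) [K.Normal] (hK : (Nat.card K).Coprime p)
    (h : FCT p 𝓦 (X ⧸ K)) : FCT p 𝓦 X := by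
  obtain ⟨S⟩ : Nonempty (Sylow p X) := inferInstance
  apply FCT.of_le S
  set π := QuotientGroup.mk' K with hπ
  have hπs : Function.Surjective π := QuotientGroup.mk'_surjective K
  have hinj : ∀ x ∈ (S : Subgroup X), π x = 1 → x = 1 := by
    intro x hx hx1
    have hxK : x ∈ K := by
      rw [← QuotientGroup.ker_mk' K]; exact hx1
    exact eq_one_of_mem_pgroup_of_mem_coprime S.2 hK hx hxK
  have hEq := FCT.eq h𝓦 h (S.mapSurjective hπs)
  rw [DD_ind] at hEq
  rw [DD_ind]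
  have hSbar : ((S.mapSurjective hπs : Sylow p (X ⧸ K)) : Subgroup (X ⧸ K)) =
      (S : Subgroup X).map π := rfl
  rw [hSbar] at hEq
  -- each term
  have key : ∀ W ∈ 𝓦, (S : Subgroup X).map π ⊓ ⁅⊤ ⊓ Subgroup.normalizer
        ((Cfsg.inducedFunctor W ((S : Subgroup X).map π) : Subgroup (X ⧸ K)) : Set (X ⧸ K)),
      ⊤ ⊓ Subgroup.normalizer
        ((Cfsg.inducedFunctor W ((S : Subgroup X).map π) : Subgroup (X ⧸ K)) : Set (X ⧸ K))⁆ ≤
      ((S : Subgroup X) ⊓ ⁅⊤ ⊓ Subgroup.normalizer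
        ((Cfsg.inducedFunctor W (S : Subgroup X) : Subgroup X) : Set X),
      ⊤ ⊓ Subgroup.normalizer
        ((Cfsg.inducedFunctor W (S : Subgroup X) : Subgroup X) : Set X)⁆).map π := by
    intro W hW
    have hfun := inducedFunctor_map (h𝓦 W hW) π (S : Subgroup X) S.2 hinj
    have hWp : IsPGroup p (Cfsg.inducedFunctor W (S : Subgroup X) : Subgroup X) :=
      S.2.to_le (inducedFunctor_le W _)
    have hN := map_normalizer_eq_of_coprime K hK _ hWp
    rw [hfun, top_inf_eq, top_inf_eq, ← hN, ← Subgroup.map_commutator]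
    rintro y ⟨⟨s, hs, rfl⟩, ⟨n', hn', hn's⟩⟩
    refine ⟨s, ⟨hs, ?_⟩, rfl⟩
    have hSN : (S : Subgroup X) ≤ Subgroup.normalizer
        ((Cfsg.inducedFunctor W (S : Subgroup X) : Subgroup X) : Set X) :=
      le_trans Subgroup.le_normalizer
        (normalizer_le_normalizer_inducedFunctor (h𝓦 W hW) _ S.2)
    have hkK : n'⁻¹ * s ∈ K := by
      rw [← QuotientGroup.ker_mk' K, MonoidHom.mem_ker, map_mul, map_inv]
      rw [show (QuotientGroup.mk' K) n' = π s from hn's]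
      exact inv_mul_cancel _
    have hkN : n'⁻¹ * s ∈ Subgroup.normalizer
        ((Cfsg.inducedFunctor W (S : Subgroup X) : Subgroup X) : Set X) :=
      Subgroup.mul_mem _ (Subgroup.inv_mem _ (commutator_self_le _ hn')) (hSN hs)
    refine mem_commutator_of_mul_coprime (hSN hs) hn' hkN (by group) ?_
    -- coprime orders
    obtain ⟨j, hj⟩ := S.2 ⟨s, hs⟩
    have hj' : s ^ p ^ j = 1 := by
      have := congrArg Subtype.val hj
      simpa using this
    have h1 : orderOf s ∣ p ^ j := orderOf_dvd_of_pow_eq_one hj'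
    have h2 : orderOf (n'⁻¹ * s) ∣ Nat.card K := by
      have := orderOf_dvd_natCard (⟨n'⁻¹ * s, hkK⟩ : K)
      rwa [Subgroup.orderOf_mk] at this
    exact Nat.Coprime.coprime_dvd_left h1
      (Nat.Coprime.coprime_dvd_right h2 (Nat.Coprime.pow_left j hK.symm))
  intro s hs
  have hπs' : π s ∈ (S : Subgroup X).map π ⊓ ⁅(⊤ : Subgroup (X ⧸ K)), ⊤⁆ := by
    refine ⟨⟨s, hs.1, rfl⟩, ?_⟩
    have : Subgroup.map π (⁅(⊤ : Subgroup X), (⊤ : Subgroup X)⁆) ≤ ⁅(⊤ : Subgroup (X ⧸ K)), ⊤⁆ := by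
      rw [Subgroup.map_commutator]
      exact Subgroup.commutator_mono le_top le_top
    exact this ⟨s, hs.2, rfl⟩
  rw [hEq] at hπs'
  have hle : (⨆ W ∈ 𝓦, (S : Subgroup X).map π ⊓ ⁅⊤ ⊓ Subgroup.normalizer
        ((Cfsg.inducedFunctor W ((S : Subgroup X).map π) : Subgroup (X ⧸ K)) : Set (X ⧸ K)),
      ⊤ ⊓ Subgroup.normalizer
        ((Cfsg.inducedFunctor W ((S : Subgroup X).map π) : Subgroup (X ⧸ K)) : Set (X ⧸ K))⁆) ≤
      (⨆ W ∈ 𝓦, (S : Subgroup X) ⊓ ⁅⊤ ⊓ Subgroup.normalizer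
        ((Cfsg.inducedFunctor W (S : Subgroup X) : Subgroup X) : Set X),
      ⊤ ⊓ Subgroup.normalizer
        ((Cfsg.inducedFunctor W (S : Subgroup X) : Subgroup X) : Set X)⁆).map π := by
    rw [Subgroup.map_iSup]
    apply iSup_mono
    intro W
    rw [Subgroup.map_iSup]
    apply iSup_mono
    intro hW
    exact key W hW
  obtain ⟨d, hd, hds⟩ := hle hπs'
  have hdS : d ∈ (S : Subgroup X) := by
    have : (⨆ W ∈ 𝓦, (S : Subgroup X) ⊓ ⁅⊤ ⊓ Subgroup.normalizer
        ((Cfsg.inducedFunctor W (S : Subgroup X) : Subgroup X) : Set X),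
      ⊤ ⊓ Subgroup.normalizer
        ((Cfsg.inducedFunctor W (S : Subgroup X) : Subgroup X) : Set X)⁆) ≤ (S : Subgroup X) :=
      iSup₂_le fun W _ => inf_le_left
    exact this hd
  have h1 : d⁻¹ * s = 1 := by
    apply hinj _ (Subgroup.mul_mem _ (Subgroup.inv_mem _ hdS) hs.1)
    rw [map_mul, map_inv, hds]
    exact inv_mul_cancel _
  have h2 : s = d := by
    have := congrArg (fun z => d * z) h1
    simpa using this
  rw [h2]
  exact hd

/-- factorization of the focal subgroup along a factorization `X = M N` with `T ≤ M ⊓ N` -/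
theorem focal_le_sup {X : Type*} [Group X] [Finite X] (T : Sylow p X) (M N : Subgroup X)
    (hTM : (T : Subgroup X) ≤ M) (hTN : (T : Subgroup X) ≤ N)
    (hfac : ∀ u : X, ∃ c ∈ M, ∃ n ∈ N, u = c * n) :
    (T : Subgroup X) ⊓ ⁅(⊤ : Subgroup X), ⊤⁆ ≤
      ((T : Subgroup X) ⊓ ⁅M, M⁆) ⊔ ((T : Subgroup X) ⊓ ⁅N, N⁆) := by
  rw [← commutator_def, inf_comm, Subgroup.commutator_inf_eq_focalSubgroup T,
    Subgroup.focalSubgroup_def, Subgroup.closure_le]
  rintro g ⟨hgT, x, hxT, u, rfl⟩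
  -- `y = u x u⁻¹ ∈ T`
  have hyT : u * x * u⁻¹ ∈ (T : Subgroup X) := by
    have h1 : x⁻¹ * ⁅x, u⁆ ∈ (T : Subgroup X) :=
      Subgroup.mul_mem _ (Subgroup.inv_mem _ hxT) hgT
    have e : x⁻¹ * ⁅x, u⁆ = (u * x * u⁻¹)⁻¹ := by
      rw [commutatorElement_def]; group
    rw [e] at h1
    exact (Subgroup.inv_mem_iff _).mp h1
  obtain ⟨c, hc, n, hn, rfl⟩ := hfac u
  -- `Y = n x n⁻¹ = c⁻¹ y c`
  have hYN : n * x * n⁻¹ ∈ N := N.mul_mem (N.mul_mem hn (hTN hxT)) (N.inv_mem hn)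
  have hYM : n * x * n⁻¹ ∈ M := by
    have e : n * x * n⁻¹ = c⁻¹ * (c * n * x * (c * n)⁻¹) * c := by group
    rw [e]
    exact M.mul_mem (M.mul_mem (M.inv_mem hc) (hTM hyT)) hc
  have hTMN : (T : Subgroup X) ≤ M ⊓ N := le_inf hTM hTN
  have hidx : ¬ p ∣ (T : Subgroup X).relIndex (M ⊓ N) := by
    intro hdvd
    exact T.not_dvd_index (hdvd.trans (Subgroup.relIndex_dvd_index_of_le hTMN))
  have hYp : IsPGroup p (cj n (Subgroup.zpowers x)) :=
    isPGroup_cj (T.2.to_le (by rw [Subgroup.zpowers_le]; exact hxT))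
  have hYle : cj n (Subgroup.zpowers x) ≤ M ⊓ N := by
    unfold cj
    rw [MonoidHom.map_zpowers, Subgroup.zpowers_le]
    exact ⟨hYM, hYN⟩
  obtain ⟨w, hw, hwT⟩ := exists_cj_le_of_relIndex (p := p) hTMN T.2 hidx hYle hYp
  have hzT : w * (n * x * n⁻¹) * w⁻¹ ∈ (T : Subgroup X) := by
    apply hwT
    apply conj_mem_cj
    exact conj_mem_cj (Subgroup.mem_zpowers x)
  -- the two pieces
  have e : ⁅x, c * n⁆ = ⁅x, w * n⁆ * ⁅w * (n * x * n⁻¹) * w⁻¹, c * w⁻¹⁆ := by
    simp only [commutatorElement_def]; group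
  rw [e]
  have h1 : ⁅x, w * n⁆ ∈ (T : Subgroup X) ⊓ ⁅N, N⁆ := by
    constructor
    · have e1 : ⁅x, w * n⁆ = x * (w * (n * x * n⁻¹) * w⁻¹)⁻¹ := by
        simp only [commutatorElement_def]; group
      rw [e1]
      exact Subgroup.mul_mem _ hxT (Subgroup.inv_mem _ hzT)
    · exact Subgroup.commutator_mem_commutator (hTN hxT) (N.mul_mem hw.2 hn)
  have h2 : ⁅w * (n * x * n⁻¹) * w⁻¹, c * w⁻¹⁆ ∈ (T : Subgroup X) ⊓ ⁅M, M⁆ := by
    constructor
    · have e1 : ⁅w * (n * x * n⁻¹) * w⁻¹, c * w⁻¹⁆ =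
          (w * (n * x * n⁻¹) * w⁻¹) * (c * n * x * (c * n)⁻¹)⁻¹ := by
        simp only [commutatorElement_def]; group
      rw [e1]
      exact Subgroup.mul_mem _ hzT (Subgroup.inv_mem _ hyT)
    · exact Subgroup.commutator_mem_commutator (hTM hzT) (M.mul_mem hc (M.inv_mem hw.1))
  exact Subgroup.mul_mem _ (Subgroup.mem_sup_right h1) (Subgroup.mem_sup_left h2)

/-- evaluation of the transfer when all the factors are powers of one element `a` -/
theorem transfer_eq_pow_of_forall' {X : Type*} [Group X] {A : Type*} [CommGroup A]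
    {H : Subgroup X} [H.FiniteIndex]
    (ϕ : H →* A) (g : X) (a : A)
    (key : ∀ (n : ℕ) (k : X) (hk : k⁻¹ * g ^ n * k ∈ H), ϕ ⟨k⁻¹ * g ^ n * k, hk⟩ = a ^ n) :
    MonoidHom.transfer ϕ g = a ^ H.index := by
  classical
  let := H.fintypeQuotientOfFiniteIndex
  rw [MonoidHom.transfer_eq_prod_quotient_orbitRel_zpowers_quot,
    Subgroup.index_eq_sum_minimalPeriod H g, ← Finset.prod_pow_eq_pow_sum]
  exact Finset.prod_congr rfl (fun q _ => key _ _ _)

/-- if `X = C_X(P) T` with `P ≤ T` and `T` a Sylow `p`-subgroup, then `P ∩ X' ≤ T'` -/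
theorem inf_commutator_le_of_centralizer_mul {X : Type*} [Group X] [Finite X] (T : Sylow p X)
    (P : Subgroup X) (hPT : P ≤ (T : Subgroup X))
    (hfac : ∀ k : X, ∃ c ∈ Subgroup.centralizer (P : Set X), ∃ t ∈ (T : Subgroup X), k = c * t) :
    P ⊓ ⁅(⊤ : Subgroup X), ⊤⁆ ≤ ⁅(T : Subgroup X), (T : Subgroup X)⁆ := by
  intro u hu
  obtain ⟨huP, huX⟩ := hu
  let ϕ : ↥(T : Subgroup X) →* Abelianization ↥(T : Subgroup X) := Abelianization.of
  have h1 : MonoidHom.transfer ϕ u = 1 := by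
    have : u ∈ (MonoidHom.transfer ϕ).ker :=
      Abelianization.commutator_subset_ker _ (by rwa [commutator_def])
    exact MonoidHom.mem_ker.mp this
  have h2 : MonoidHom.transfer ϕ u = (ϕ ⟨u, hPT huP⟩) ^ (T : Subgroup X).index := by
    apply transfer_eq_pow_of_forall'
    intro n k hk
    obtain ⟨c, hc, t, ht, rfl⟩ := hfac k
    have hun : u ^ n ∈ P := P.pow_mem huP n
    have hcomm : u ^ n * c = c * u ^ n := (Subgroup.mem_centralizer_iff.mp hc) _ hun
    have hcomm' : c⁻¹ * u ^ n * c = u ^ n := by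
      rw [mul_assoc, hcomm, ← mul_assoc, inv_mul_cancel, one_mul]
    have e : (⟨(c * t)⁻¹ * u ^ n * (c * t), hk⟩ : ↥(T : Subgroup X)) =
        (⟨t, ht⟩ : ↥(T : Subgroup X))⁻¹ * (⟨u, hPT huP⟩ : ↥(T : Subgroup X)) ^ n * ⟨t, ht⟩ := by
      apply Subtype.ext
      show (c * t)⁻¹ * u ^ n * (c * t) = t⁻¹ * u ^ n * t
      calc (c * t)⁻¹ * u ^ n * (c * t) = t⁻¹ * (c⁻¹ * u ^ n * c) * t := by group
        _ = t⁻¹ * u ^ n * t := by rw [hcomm']
    rw [e, map_mul, map_mul, map_inv, map_pow]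
    rw [mul_comm, ← mul_assoc, mul_inv_cancel, one_mul]
  rw [h1] at h2
  -- the order argument
  obtain ⟨j, hj⟩ := T.2 ⟨u, hPT huP⟩
  have hj' : (ϕ ⟨u, hPT huP⟩) ^ p ^ j = 1 := by
    rw [← map_pow, hj, map_one]
  have h3 : orderOf (ϕ ⟨u, hPT huP⟩) ∣ p ^ j := orderOf_dvd_of_pow_eq_one hj'
  have h4 : orderOf (ϕ ⟨u, hPT huP⟩) ∣ (T : Subgroup X).index :=
    orderOf_dvd_of_pow_eq_one h2.symm
  have hp : p.Prime := Fact.out
  have hcop : Nat.Coprime (p ^ j) (T : Subgroup X).index :=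
    Nat.Coprime.pow_left j ((Nat.Prime.coprime_iff_not_dvd hp).mpr T.not_dvd_index)
  have h5 : orderOf (ϕ ⟨u, hPT huP⟩) = 1 := Nat.eq_one_of_dvd_coprimes hcop h3 h4
  have h6 : ϕ ⟨u, hPT huP⟩ = 1 := orderOf_eq_one_iff.mp h5
  have h7 : (⟨u, hPT huP⟩ : ↥(T : Subgroup X)) ∈ (Abelianization.of (G := ↥(T : Subgroup X))).ker :=
    MonoidHom.mem_ker.mpr h6
  rw [Abelianization.ker_of] at h7
  rw [← Subgroup.map_subtype_commutator]
  exact ⟨⟨u, hPT huP⟩, h7, rfl⟩

/-- a central Sylow subgroup has a normal complement -/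
theorem exists_normal_complement_of_sylow_le_center {Y : Type*} [Group Y] [Finite Y]
    (Q : Sylow p Y) (hQ : (Q : Subgroup Y) ≤ Subgroup.center Y) :
    ∃ K : Subgroup Y, K.Normal ∧ (Nat.card K).Coprime p ∧
      Nat.card K = (Q : Subgroup Y).index := by
  have hp : p.Prime := Fact.out
  have hcen : Subgroup.centralizer ((Q : Subgroup Y) : Set Y) = ⊤ :=
    Subgroup.centralizer_eq_top_iff_subset.mpr hQ
  have hP : Subgroup.normalizer ((Q : Subgroup Y) : Set Y) ≤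
      Subgroup.centralizer ((Q : Subgroup Y) : Set Y) := by
    rw [hcen]; exact le_top
  have hc := MonoidHom.ker_transferSylow_isComplement' Q hP
  refine ⟨(MonoidHom.transferSylow Q hP).ker, inferInstance, ?_, hc.index_eq_card.symm⟩
  rw [← hc.index_eq_card]
  exact ((Nat.Prime.coprime_iff_not_dvd hp).mpr Q.not_dvd_index).symm

/-- if `O_{p'}(X) = 1` and the Sylow `p`-subgroup of `C_X(O_p(X))` lies in `O_p(X)`, then `X` is
constrained -/
theorem centralizer_le_pCore_of_inf_le {X : Type*} [Group X] [Finite X] (T : Sylow p X)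
    (hpp : Cfsg.pPrimeCore p X = ⊥)
    (h : (T : Subgroup X) ⊓ Subgroup.centralizer ((Cfsg.pCore p X : Subgroup X) : Set X) ≤
      Cfsg.pCore p X) :
    Subgroup.centralizer ((Cfsg.pCore p X : Subgroup X) : Set X) ≤ Cfsg.pCore p X := by
  have hPn : (Cfsg.pCore p X).Normal := Cfsg.Agent.Lib.Helper76_PSolvable.pCore_normal p
  obtain ⟨C, hC⟩ : ∃ C, C = Subgroup.centralizer ((Cfsg.pCore p X : Subgroup X) : Set X) :=
    ⟨_, rfl⟩
  have hCn : C.Normal := hC ▸ Subgroup.normal_centralizer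
  rw [← hC] at h ⊢
  obtain ⟨Q⟩ : Nonempty (Sylow p ↥C) := inferInstance
  -- `Q ≤ P`
  have hQP : (Q : Subgroup ↥C).map C.subtype ≤ Cfsg.pCore p X := by
    have hidx : ¬ p ∣ (T : Subgroup X).relIndex ⊤ := by
      rw [Subgroup.relIndex_top_right]; exact T.not_dvd_index
    obtain ⟨g, -, hg⟩ := exists_cj_le_of_relIndex (p := p) (le_top : (T : Subgroup X) ≤ ⊤) T.2 hidx
      (le_top : (Q : Subgroup ↥C).map C.subtype ≤ ⊤) (Q.2.map _)
    have hgC : cj g ((Q : Subgroup ↥C).map C.subtype) ≤ C := by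
      have h1 : cj g ((Q : Subgroup ↥C).map C.subtype) ≤ cj g C :=
        cj_mono (Subgroup.map_subtype_le _)
      have h2 : cj g C = C := by
        rw [← mem_normalizer_iff_cj, Subgroup.normalizer_eq_top]; exact Subgroup.mem_top g
      rwa [h2] at h1
    have h3 : cj g ((Q : Subgroup ↥C).map C.subtype) ≤ Cfsg.pCore p X :=
      le_trans (le_inf hg hgC) h
    rw [cj_le_iff] at h3
    have h4 : cj g⁻¹ (Cfsg.pCore p X) = Cfsg.pCore p X := by
      rw [← mem_normalizer_iff_cj, Subgroup.normalizer_eq_top]; exact Subgroup.mem_top _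
    rwa [h4] at h3
  have hQcen : (Q : Subgroup ↥C) ≤ Subgroup.center ↥C := by
    intro q hq
    rw [Subgroup.mem_center_iff]
    intro c
    apply Subtype.ext
    show (c : X) * (q : X) = (q : X) * (c : X)
    have hqP : (q : X) ∈ Cfsg.pCore p X := hQP ⟨q, hq, rfl⟩
    have hcC : (c : X) ∈ Subgroup.centralizer ((Cfsg.pCore p X : Subgroup X) : Set X) :=
      hC ▸ c.2
    exact ((Subgroup.mem_centralizer_iff.mp hcC) _ hqP).symm
  obtain ⟨K0, hK0n, hK0cop, hK0card⟩ := exists_normal_complement_of_sylow_le_center Q hQcen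
  -- `K0` is subnormal in `X`
  have hsub : (K0.map C.subtype).IsSubnormal := by
    refine Subgroup.IsSubnormal.step _ C (Subgroup.map_subtype_le _) hCn.isSubnormal ?_
    have : (K0.map C.subtype).subgroupOf C = K0 :=
      Subgroup.comap_map_eq_self_of_injective C.subtype_injective K0
    rw [this]; exact hK0n
  have hcard : Nat.card (K0.map C.subtype) = Nat.card K0 :=
    Subgroup.card_map_of_injective C.subtype_injective
  have hle := Cfsg.Agent.Lib.Helper22_Cores.le_pPrimeCore_of_isSubnormal p hsub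
    (by rw [hcard]; exact hK0cop)
  rw [hpp, le_bot_iff] at hle
  have hK0bot : K0 = ⊥ := by
    rw [← Subgroup.map_eq_bot_iff_of_injective K0 C.subtype_injective]; exact hle
  have hidx1 : (Q : Subgroup ↥C).index = 1 := by
    rw [← hK0card, hK0bot, Subgroup.card_bot]
  have hQtop : (Q : Subgroup ↥C) = ⊤ := Subgroup.index_eq_one.mp hidx1
  have hCp : IsPGroup p ↥C := by
    have := Q.2
    rw [hQtop] at this
    exact (IsPGroup.of_equiv this Subgroup.topEquiv)
  exact Cfsg.Agent.Lib.Helper76_PSolvable.le_pCore p C hCp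

/-- transfer control in `X ⧸ P` (with `P ≤ T` normal) and in the preimages of the normalizers
of the `W(T/P)` gives `T ∩ X' ⊆ D P` -/
theorem exists_mul_of_quotient (h𝓦 : ∀ W ∈ 𝓦, Cfsg.IsCharPFunctor.{u} p W) {X : Type u}
    [Group X] [Finite X] (T : Sylow p X) (P : Subgroup X) [P.Normal]
    (hPT : P ≤ (T : Subgroup X)) (hq : FCT p 𝓦 (X ⧸ P))
    (hH : ∀ W ∈ 𝓦, (T : Subgroup X) ⊓
      ⁅(Subgroup.normalizer ((Cfsg.inducedFunctor W ((T : Subgroup X).map (QuotientGroup.mk' P)) :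
          Subgroup (X ⧸ P)) : Set (X ⧸ P))).comap (QuotientGroup.mk' P),
        (Subgroup.normalizer ((Cfsg.inducedFunctor W ((T : Subgroup X).map (QuotientGroup.mk' P)) :
          Subgroup (X ⧸ P)) : Set (X ⧸ P))).comap (QuotientGroup.mk' P)⁆ ≤
      DD (ind 𝓦 X) ⊤ (T : Subgroup X))
    {s : X} (hs : s ∈ (T : Subgroup X) ⊓ ⁅(⊤ : Subgroup X), ⊤⁆) :
    ∃ d ∈ DD (ind 𝓦 X) ⊤ (T : Subgroup X), ∃ k ∈ P, s = d * k := by
  set π := QuotientGroup.mk' P with hπ
  have hπs : Function.Surjective π := QuotientGroup.mk'_surjective P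
  have hEq := FCT.eq h𝓦 hq (T.mapSurjective hπs)
  rw [DD_ind] at hEq
  have hSbar : ((T.mapSurjective hπs : Sylow p (X ⧸ P)) : Subgroup (X ⧸ P)) =
      (T : Subgroup X).map π := rfl
  rw [hSbar] at hEq
  have key : ∀ W ∈ 𝓦, (T : Subgroup X).map π ⊓ ⁅⊤ ⊓ Subgroup.normalizer
        ((Cfsg.inducedFunctor W ((T : Subgroup X).map π) : Subgroup (X ⧸ P)) : Set (X ⧸ P)),
      ⊤ ⊓ Subgroup.normalizer
        ((Cfsg.inducedFunctor W ((T : Subgroup X).map π) : Subgroup (X ⧸ P)) : Set (X ⧸ P))⁆ ≤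
      (DD (ind 𝓦 X) ⊤ (T : Subgroup X)).map π := by
    intro W hW
    have hmc : ((Subgroup.normalizer ((Cfsg.inducedFunctor W ((T : Subgroup X).map π) :
          Subgroup (X ⧸ P)) : Set (X ⧸ P))).comap π).map π =
        Subgroup.normalizer ((Cfsg.inducedFunctor W ((T : Subgroup X).map π) :
          Subgroup (X ⧸ P)) : Set (X ⧸ P)) :=
      Subgroup.map_comap_eq_self_of_surjective hπs _
    rw [top_inf_eq, ← hmc, ← Subgroup.map_commutator]
    rintro y ⟨⟨t, ht, rfl⟩, ⟨h', hh', hh't⟩⟩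
    have hkP : h'⁻¹ * t ∈ P := by
      rw [← QuotientGroup.ker_mk' P, MonoidHom.mem_ker, map_mul, map_inv]
      rw [show (QuotientGroup.mk' P) h' = π t from hh't]
      exact inv_mul_cancel _
    have hh'T : h' ∈ (T : Subgroup X) := by
      have e : h' = t * (h'⁻¹ * t)⁻¹ := by group
      rw [e]
      exact Subgroup.mul_mem _ ht (Subgroup.inv_mem _ (hPT hkP))
    exact ⟨h', hH W hW ⟨hh'T, hh'⟩, hh't⟩
  have hπs' : π s ∈ (T : Subgroup X).map π ⊓ ⁅(⊤ : Subgroup (X ⧸ P)), ⊤⁆ := by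
    refine ⟨⟨s, hs.1, rfl⟩, ?_⟩
    have : Subgroup.map π (⁅(⊤ : Subgroup X), (⊤ : Subgroup X)⁆) ≤
        ⁅(⊤ : Subgroup (X ⧸ P)), ⊤⁆ := by
      rw [Subgroup.map_commutator]
      exact Subgroup.commutator_mono le_top le_top
    exact this ⟨s, hs.2, rfl⟩
  rw [hEq] at hπs'
  have hle : (⨆ W ∈ 𝓦, (T : Subgroup X).map π ⊓ ⁅⊤ ⊓ Subgroup.normalizer
        ((Cfsg.inducedFunctor W ((T : Subgroup X).map π) : Subgroup (X ⧸ P)) : Set (X ⧸ P)),
      ⊤ ⊓ Subgroup.normalizer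
        ((Cfsg.inducedFunctor W ((T : Subgroup X).map π) : Subgroup (X ⧸ P)) : Set (X ⧸ P))⁆) ≤
      (DD (ind 𝓦 X) ⊤ (T : Subgroup X)).map π :=
    iSup₂_le key
  obtain ⟨d, hd, hds⟩ := hle hπs'
  refine ⟨d, hd, d⁻¹ * s, ?_, by group⟩
  rw [← QuotientGroup.ker_mk' P, MonoidHom.mem_ker, map_mul, map_inv]
  rw [show (QuotientGroup.mk' P) d = π s from hds]
  exact inv_mul_cancel _

theorem card_quotient_lt {X : Type*} [Group X] [Finite X] (V : Subgroup X) [V.Normal]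
    (hV : V ≠ ⊥) : Nat.card (X ⧸ V) < Nat.card X := by
  rw [← Subgroup.index_eq_card]
  have h1 := V.card_mul_index
  have h2 : 1 < Nat.card V := (Subgroup.one_lt_card_iff_ne_bot V).mpr hV
  have h3 : 0 < V.index := Nat.pos_of_ne_zero Subgroup.index_ne_zero_of_finite
  nlinarith

theorem card_subgroup_lt {X : Type*} [Group X] [Finite X] (H : Subgroup X)
    (hH : H ≠ ⊤) : Nat.card H < Nat.card X := by
  have hlt' : H < ⊤ := lt_top_iff_ne_top.mpr hH
  have := card_lt_of_lt hlt'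
  rwa [Subgroup.card_top] at this

theorem cj_eq_of_normal {X : Type*} [Group X] (g : X) (C : Subgroup X) [C.Normal] :
    cj g C = C := by
  rw [← mem_normalizer_iff_cj, Subgroup.normalizer_eq_top]; exact Subgroup.mem_top g

/-- the main induction -/
theorem main (h𝓦 : ∀ W ∈ 𝓦, Cfsg.IsCharPFunctor.{u} p W) : ∀ n : ℕ,
    ∀ (X : Type u) [Group X] [Finite X], Nat.card X = n → SecFCT p 𝓦 X → FCT p 𝓦 X := by
  intro n
  induction n using Nat.strong_induction_on with
  | _ n ih =>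
  intro X _ _ hcard hsec
  have hp : p.Prime := Fact.out
  -- the constrained case
  by_cases hcon : Subgroup.centralizer ((Cfsg.pCore p X : Subgroup X) : Set X) ≤ Cfsg.pCore p X
  · exact hsec X (involves_self X) hcon
  -- the case `O_{p'}(X) ≠ 1`
  by_cases hpp : Cfsg.pPrimeCore p X = ⊥
  swap
  · have hKn : (Cfsg.pPrimeCore p X).Normal := Subgroup.sSup_normal _ (fun _ h => h.1)
    have hKcop : (Nat.card (Cfsg.pPrimeCore p X)).Coprime p :=
      Cfsg.Agent.Lib.Helper22_Cores.pPrimeCore_coprime p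
    have hlt : Nat.card (X ⧸ Cfsg.pPrimeCore p X) < n := hcard ▸ card_quotient_lt _ hpp
    exact FCT.of_quotient_coprime h𝓦 _ hKcop
      (ih _ hlt (X ⧸ Cfsg.pPrimeCore p X) rfl
        (hsec.of_surjective (QuotientGroup.mk' _) (QuotientGroup.mk'_surjective _)))
  obtain ⟨T⟩ : Nonempty (Sylow p X) := inferInstance
  -- the case `O_p(X) = 1`
  by_cases hP : Cfsg.pCore p X = ⊥
  · refine familyControlsTransfer_of_local T (ind_isConjugacyFunctor h𝓦 X) Set.univ ?_ ?_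
    · intro U hU
      obtain ⟨U', h1, h2, h3⟩ := Cfsg.Agent.Lib.Helper51_Local.exists_fully_normalized T hU
      exact ⟨U', Set.mem_univ _, h1, h2, h3⟩
    · intro U _ hUT hUne _
      have hne : Subgroup.normalizer (U : Set X) ≠ ⊤ := by
        intro htop
        have : U.Normal := Subgroup.normalizer_eq_top_iff.mp htop
        have := Cfsg.Agent.Lib.Helper76_PSolvable.le_pCore p U (T.2.to_le hUT)
        rw [hP] at this
        exact hUne (le_bot_iff.mp this)
      have hlt : Nat.card (Subgroup.normalizer (U : Set X)) < n := hcard ▸ card_subgroup_lt _ hne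
      exact FCT.subtype h𝓦 _ (ih _ hlt ↥(Subgroup.normalizer (U : Set X)) rfl (hsec.of_subgroup _))
  -- now `P ≠ 1`, `O_{p'}(X) = 1`, `C ≰ P`
  have hPn : (Cfsg.pCore p X).Normal := Cfsg.Agent.Lib.Helper76_PSolvable.pCore_normal p
  have hPp : IsPGroup p (Cfsg.pCore p X) := Cfsg.Agent.Lib.Helper76_PSolvable.pCore_isPGroup p
  have hPT : Cfsg.pCore p X ≤ (T : Subgroup X) := hPp.le_sylow_of_normal T
  have hB1 : ¬ (T : Subgroup X) ⊓ Subgroup.centralizer ((Cfsg.pCore p X : Subgroup X) : Set X) ≤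
      Cfsg.pCore p X := fun h => hcon (centralizer_le_pCore_of_inf_le T hpp h)
  obtain ⟨C, hC⟩ : ∃ C, C = Subgroup.centralizer ((Cfsg.pCore p X : Subgroup X) : Set X) :=
    ⟨_, rfl⟩
  have hCn : C.Normal := hC ▸ Subgroup.normal_centralizer
  rw [← hC] at hB1 hcon
  obtain ⟨N, hN⟩ : ∃ N, N = Subgroup.normalizer (((T : Subgroup X) ⊓ C : Subgroup X) : Set X) :=
    ⟨_, rfl⟩
  have hTN : (T : Subgroup X) ≤ N := by
    intro t ht
    rw [hN, mem_normalizer_iff_cj, cj_inf, cj_of_mem ht, cj_eq_of_normal]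
  have hNne : N ≠ ⊤ := by
    intro htop
    rw [hN] at htop
    have : ((T : Subgroup X) ⊓ C).Normal := Subgroup.normalizer_eq_top_iff.mp htop
    exact hB1 (Cfsg.Agent.Lib.Helper76_PSolvable.le_pCore p _ (T.2.to_le inf_le_left))
  have hD : DD (ind 𝓦 X) ⊤ (T : Subgroup X) ≤ (T : Subgroup X) ⊓ ⁅(⊤ : Subgroup X), ⊤⁆ :=
    DD_le_inf _ _ _
  have hNlt : Nat.card N < n := hcard ▸ card_subgroup_lt _ hNne
  have hNle : (T : Subgroup X) ⊓ ⁅N, N⁆ ≤ DD (ind 𝓦 X) ⊤ (T : Subgroup X) :=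
    FCT.le_DD h𝓦 N (ih _ hNlt ↥N rfl (hsec.of_subgroup N)) T hTN
  -- Frattini
  have hidxT : ¬ p ∣ (T : Subgroup X).relIndex ⊤ := by
    rw [Subgroup.relIndex_top_right]; exact T.not_dvd_index
  have hnormC : ∀ m ∈ (⊤ : Subgroup X), cj m C = C := fun m _ => cj_eq_of_normal m C
  have hidxTC : ¬ p ∣ ((T : Subgroup X) ⊓ C).relIndex C :=
    Cfsg.Agent.Lib.Helper51_Local.sylow_inf_normal (le_top : C ≤ ⊤) hnormC
      (le_top : (T : Subgroup X) ≤ ⊤) T.2 hidxT
  have hfac : ∀ u : X, ∃ c ∈ C, ∃ m ∈ N, u = c * m := by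
    intro u
    obtain ⟨y, hy, hyu⟩ := Cfsg.Agent.Lib.Helper51_Local.frattini (p := p) hnormC
      (inf_le_right : (T : Subgroup X) ⊓ C ≤ C) (T.2.to_le inf_le_left) hidxTC
      (Subgroup.mem_top u)
    refine ⟨y⁻¹, C.inv_mem hy, y * u, ?_, by group⟩
    rw [hN, mem_normalizer_iff_cj]
    exact hyu
  by_cases hM : C ⊔ (T : Subgroup X) = ⊤
  · -- `X = C T`
    have hfacCT : ∀ k : X, ∃ c ∈ Subgroup.centralizer ((Cfsg.pCore p X : Subgroup X) : Set X),
        ∃ t ∈ (T : Subgroup X), k = c * t := by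
      intro k
      have hk : k ∈ ((C ⊔ (T : Subgroup X) : Subgroup X) : Set X) := by
        rw [hM]; exact Set.mem_univ k
      rw [Subgroup.normal_mul] at hk
      obtain ⟨c, hc, t, ht, rfl⟩ := Set.mem_mul.mp hk
      exact ⟨c, hC ▸ hc, t, ht, rfl⟩
    have h3 := inf_commutator_le_of_centralizer_mul T (Cfsg.pCore p X) hPT hfacCT
    -- `T' ≤ D`
    have hFT : FCT p 𝓦 ↥(T : Subgroup X) := by
      apply hsec ↥(T : Subgroup X) (involves_of_subgroup _ (involves_self _))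
      have htop : Cfsg.pCore p ↥(T : Subgroup X) = ⊤ := by
        rw [eq_top_iff]
        apply Cfsg.Agent.Lib.Helper76_PSolvable.le_pCore p ⊤
        exact IsPGroup.of_equiv T.2 Subgroup.topEquiv.symm
      rw [htop]
      exact le_top
    have h2 : ⁅(T : Subgroup X), (T : Subgroup X)⁆ ≤ DD (ind 𝓦 X) ⊤ (T : Subgroup X) := by
      have := FCT.le_DD h𝓦 (T : Subgroup X) hFT T le_rfl
      exact le_trans (le_inf (commutator_self_le _) le_rfl) this
    -- the quotient `X ⧸ P`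
    have hlt : Nat.card (X ⧸ Cfsg.pCore p X) < n := hcard ▸ card_quotient_lt _ hP
    have hq : FCT p 𝓦 (X ⧸ Cfsg.pCore p X) :=
      ih _ hlt (X ⧸ Cfsg.pCore p X) rfl
        (hsec.of_surjective (QuotientGroup.mk' _) (QuotientGroup.mk'_surjective _))
    have hπs : Function.Surjective (QuotientGroup.mk' (Cfsg.pCore p X)) :=
      QuotientGroup.mk'_surjective _
    have hTbar : IsPGroup p ((T : Subgroup X).map (QuotientGroup.mk' (Cfsg.pCore p X))) :=
      T.2.map _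
    have hTbne : (T : Subgroup X).map (QuotientGroup.mk' (Cfsg.pCore p X)) ≠ ⊥ := by
      intro h
      rw [Subgroup.map_eq_bot_iff, QuotientGroup.ker_mk'] at h
      exact hB1 (le_trans inf_le_left h)
    have hH : ∀ W ∈ 𝓦, (T : Subgroup X) ⊓
        ⁅(Subgroup.normalizer ((Cfsg.inducedFunctor W ((T : Subgroup X).map
            (QuotientGroup.mk' (Cfsg.pCore p X))) :
            Subgroup (X ⧸ Cfsg.pCore p X)) : Set (X ⧸ Cfsg.pCore p X))).comap
              (QuotientGroup.mk' (Cfsg.pCore p X)),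
          (Subgroup.normalizer ((Cfsg.inducedFunctor W ((T : Subgroup X).map
            (QuotientGroup.mk' (Cfsg.pCore p X))) :
            Subgroup (X ⧸ Cfsg.pCore p X)) : Set (X ⧸ Cfsg.pCore p X))).comap
              (QuotientGroup.mk' (Cfsg.pCore p X))⁆ ≤
        DD (ind 𝓦 X) ⊤ (T : Subgroup X) := by
      intro W hW
      obtain ⟨Wb, hWb⟩ : ∃ Wb, Wb = (Cfsg.inducedFunctor W ((T : Subgroup X).map
            (QuotientGroup.mk' (Cfsg.pCore p X))) : Subgroup (X ⧸ Cfsg.pCore p X)) := ⟨_, rfl⟩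
      rw [← hWb]
      have hWble : Wb ≤ (T : Subgroup X).map (QuotientGroup.mk' (Cfsg.pCore p X)) :=
        hWb ▸ inducedFunctor_le W _
      have hWbne : Wb ≠ ⊥ := hWb ▸ inducedFunctor_ne_bot (h𝓦 W hW) hTbar hTbne
      have hNb : Subgroup.normalizer (((T : Subgroup X).map
          (QuotientGroup.mk' (Cfsg.pCore p X)) : Subgroup (X ⧸ Cfsg.pCore p X)) :
            Set (X ⧸ Cfsg.pCore p X)) ≤ Subgroup.normalizer (Wb : Set (X ⧸ Cfsg.pCore p X)) :=
        hWb ▸ normalizer_le_normalizer_inducedFunctor (h𝓦 W hW) _ hTbar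
      obtain ⟨H, hHdef⟩ : ∃ H, H = (Subgroup.normalizer (Wb : Set (X ⧸ Cfsg.pCore p X))).comap
          (QuotientGroup.mk' (Cfsg.pCore p X)) := ⟨_, rfl⟩
      rw [← hHdef]
      have hTH : (T : Subgroup X) ≤ H := by
        intro t ht
        rw [hHdef, Subgroup.mem_comap]
        exact hNb (Subgroup.le_normalizer ⟨t, ht, rfl⟩)
      have hHne : H ≠ ⊤ := by
        intro htop
        have h1 : Subgroup.normalizer (Wb : Set (X ⧸ Cfsg.pCore p X)) = ⊤ := by
          have := Subgroup.map_comap_eq_self_of_surjective hπs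
            (Subgroup.normalizer (Wb : Set (X ⧸ Cfsg.pCore p X)))
          rw [← hHdef, htop] at this
          rw [← this, ← MonoidHom.range_eq_map, MonoidHom.range_eq_top]
          exact hπs
        have hWbn : Wb.Normal := Subgroup.normalizer_eq_top_iff.mp h1
        have : (Wb.comap (QuotientGroup.mk' (Cfsg.pCore p X))).Normal := hWbn.comap _
        have hVT : Wb.comap (QuotientGroup.mk' (Cfsg.pCore p X)) ≤ (T : Subgroup X) := by
          have h2 := Subgroup.comap_mono (f := QuotientGroup.mk' (Cfsg.pCore p X)) hWble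
          rw [Subgroup.comap_map_eq, QuotientGroup.ker_mk', sup_eq_left.mpr hPT] at h2
          exact h2
        have hVP := Cfsg.Agent.Lib.Helper76_PSolvable.le_pCore p _ (T.2.to_le hVT)
        apply hWbne
        rw [← Subgroup.map_comap_eq_self_of_surjective hπs Wb, eq_bot_iff]
        refine le_trans (Subgroup.map_mono hVP) (le_of_eq ?_)
        rw [Subgroup.map_eq_bot_iff, QuotientGroup.ker_mk']
      have hHlt : Nat.card H < n := hcard ▸ card_subgroup_lt _ hHne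
      exact FCT.le_DD h𝓦 H (ih _ hHlt ↥H rfl (hsec.of_subgroup H)) T hTH
    apply FCT.of_le T
    intro s hs
    obtain ⟨d, hd, k, hk, rfl⟩ := exists_mul_of_quotient h𝓦 T (Cfsg.pCore p X) hPT hq hH hs
    have hkX : k ∈ ⁅(⊤ : Subgroup X), (⊤ : Subgroup X)⁆ := by
      have e : k = d⁻¹ * (d * k) := by group
      rw [e]
      exact Subgroup.mul_mem _ (Subgroup.inv_mem _ (hD hd).2) hs.2
    exact Subgroup.mul_mem _ hd (h2 (h3 ⟨hk, hkX⟩))
  · -- `M = C T` is a proper subgroup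
    have hMlt : Nat.card (C ⊔ (T : Subgroup X) : Subgroup X) < n := hcard ▸ card_subgroup_lt _ hM
    have hMle : (T : Subgroup X) ⊓ ⁅C ⊔ (T : Subgroup X), C ⊔ (T : Subgroup X)⁆ ≤
        DD (ind 𝓦 X) ⊤ (T : Subgroup X) :=
      FCT.le_DD h𝓦 _ (ih _ hMlt ↥(C ⊔ (T : Subgroup X) : Subgroup X) rfl (hsec.of_subgroup _)) T
        le_sup_right
    apply FCT.of_le T
    refine le_trans (focal_le_sup T (C ⊔ (T : Subgroup X)) N le_sup_right hTN ?_)
      (sup_le hMle hNle)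
    intro u
    obtain ⟨c, hc, m, hm, rfl⟩ := hfac u
    exact ⟨c, Subgroup.mem_sup_left hc, m, hm, rfl⟩

end Cfsg.Agent.Lib.Helper54_FunctorTransfer
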