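import Mathlib
import Cfsg.Prelude.Def_PLocal
import Cfsg.Prelude.Def_LocalEven
import Cfsg.Agent.Lib.Helper54_KInf
import Cfsg.Agent.Lib.Helper72_WCEngel
import Cfsg.Agent.Lib.Helper33_Critical
import Cfsg.Agent.Lib.Helper34_NPC
import Cfsg.Agent.Lib.Helper49_CharP
import Cfsg.Agent.S1979
import Cfsg.Prelude.Def_ConjugacyFunctors

set_option autoImplicit false
open Cfsg

/-!
# Engel conditions from the K-infinity subgroups (Glauberman)

If `K_∞(S)` or `K^∞(S)` is not normal in `L` (`S` a Sylow `p`-subgroup), some `g ∈ S` outside `O_p(L)`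
satisfies `[U, g, g, g, g] ≤ V` for every chief factor `U / V` of `L` inside `O_p(L)`.
-/

namespace Cfsg.Agent.Lib.Helper54_KInfEngel

open Cfsg.Agent.Lib.Helper54_KInf
open scoped commutatorElement

section Basic

variable {L : Type*} [Group L]

theorem iter_bot (H : Subgroup L) (n : ℕ) : Cfsg.iterCommutator ⊥ H n = ⊥ := by
  induction n with
  | zero => rfl
  | succ n ih =>
    show ⁅Cfsg.iterCommutator ⊥ H n, H⁆ = ⊥
    rw [ih, Subgroup.commutator_bot_left]

theorem iter_comm_left (N H : Subgroup L) (m : ℕ) :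
    Cfsg.iterCommutator ⁅N, H⁆ H m = Cfsg.iterCommutator N H (m + 1) := by
  induction m with
  | zero => rfl
  | succ m ih =>
    show ⁅Cfsg.iterCommutator ⁅N, H⁆ H m, H⁆ = ⁅Cfsg.iterCommutator N H (m + 1), H⁆
    rw [ih]

theorem comm_le_of_norm {X H : Subgroup L} (h : H ≤ Subgroup.normalizer (X : Set L)) :
    ⁅X, H⁆ ≤ X :=
  Subgroup.le_normalizer_iff_commutator_le_left.mp h

theorem norm_comm_self {X H : Subgroup L} (h : H ≤ Subgroup.normalizer (X : Set L)) :
    H ≤ Subgroup.normalizer ((⁅X, H⁆ : Subgroup L) : Set L) :=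
  Subgroup.le_normalizer_iff_commutator_le_left.mpr
    (Subgroup.commutator_mono (comm_le_of_norm h) le_rfl)

theorem norm_comm {X Y H : Subgroup L} (hX : H ≤ Subgroup.normalizer (X : Set L))
    (hY : H ≤ Subgroup.normalizer (Y : Set L)) :
    H ≤ Subgroup.normalizer ((⁅X, Y⁆ : Subgroup L) : Set L) := by
  intro h hh
  have h1 := Subgroup.mem_normalizer_iff_map_conj_eq.mp (hX hh)
  have h2 := Subgroup.mem_normalizer_iff_map_conj_eq.mp (hY hh)
  rw [Subgroup.mem_normalizer_iff_map_conj_eq, Subgroup.map_commutator, h1, h2]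

theorem iter_norm {X H : Subgroup L} (h : H ≤ Subgroup.normalizer (X : Set L)) (n : ℕ) :
    H ≤ Subgroup.normalizer ((Cfsg.iterCommutator X H n : Subgroup L) : Set L) := by
  induction n with
  | zero => exact h
  | succ n ih => exact norm_comm_self ih

theorem iter_le {X H : Subgroup L} (h : H ≤ Subgroup.normalizer (X : Set L)) (n : ℕ) :
    Cfsg.iterCommutator X H n ≤ X := by
  induction n with
  | zero => exact le_rfl
  | succ n ih => exact (Subgroup.commutator_mono ih le_rfl).trans (comm_le_of_norm h)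

theorem iter_le_of_le {X Y H : Subgroup L} (hY : H ≤ Subgroup.normalizer (Y : Set L)) {k n : ℕ}
    (h : Cfsg.iterCommutator X H k ≤ Y) (hkn : k ≤ n) : Cfsg.iterCommutator X H n ≤ Y := by
  induction n, hkn using Nat.le_induction with
  | base => exact h
  | succ n _ ih => exact (Subgroup.commutator_mono ih le_rfl).trans (comm_le_of_norm hY)

theorem iter_add (X H : Subgroup L) (m n : ℕ) :
    Cfsg.iterCommutator (Cfsg.iterCommutator X H m) H n = Cfsg.iterCommutator X H (m + n) := by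
  induction n with
  | zero => rfl
  | succ n ih =>
    show ⁅Cfsg.iterCommutator (Cfsg.iterCommutator X H m) H n, H⁆ =
      ⁅Cfsg.iterCommutator X H (m + n), H⁆
    rw [ih]

end Basic

section Core

variable {L : Type*} [Group L]

theorem comm_mul_left' (w w' y : L) : ⁅w * w', y⁆ = w * ⁅w', y⁆ * w⁻¹ * ⁅w, y⁆ := by
  simp only [commutatorElement_def]; group

theorem comm_mul_right' (x y y' : L) : ⁅x, y * y'⁆ = ⁅x, y⁆ * (y * ⁅x, y'⁆ * y⁻¹) := by
  simp only [commutatorElement_def]; group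

theorem comm_inv_left' (w y : L) : ⁅w⁻¹, y⁆ = w⁻¹ * ⁅w, y⁆⁻¹ * w := by
  simp only [commutatorElement_def]; group

theorem commute_of_comm_eq_bot {Z X : Subgroup L} (h : ⁅Z, X⁆ = ⊥) {z x : L} (hz : z ∈ Z)
    (hx : x ∈ X) : x * z = z * x :=
  Subgroup.mem_centralizer_iff.mp (Subgroup.commutator_eq_bot_iff_le_centralizer.mp h hz) x hx

/-- bilinearity of the commutator pairing `X × Y → Z`, first variable -/
theorem pair_mul_left {X Y Z : Subgroup L} (hXY : ⁅X, Y⁆ ≤ Z) (hZX : ⁅Z, X⁆ = ⊥) {x x' y : L}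
    (hx : x ∈ X) (hx' : x' ∈ X) (hy : y ∈ Y) : ⁅x * x', y⁆ = ⁅x', y⁆ * ⁅x, y⁆ := by
  have hz : ⁅x', y⁆ ∈ Z := hXY (Subgroup.commutator_mem_commutator hx' hy)
  rw [comm_mul_left', commute_of_comm_eq_bot hZX hz hx]
  group

/-- bilinearity of the commutator pairing `X × Y → Z`, second variable -/
theorem pair_mul_right {X Y Z : Subgroup L} (hXY : ⁅X, Y⁆ ≤ Z) (hZY : ⁅Z, Y⁆ = ⊥) {x y y' : L}
    (hx : x ∈ X) (hy : y ∈ Y) (hy' : y' ∈ Y) : ⁅x, y * y'⁆ = ⁅x, y⁆ * ⁅x, y'⁆ := by
  have hz : ⁅x, y'⁆ ∈ Z := hXY (Subgroup.commutator_mem_commutator hx hy')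
  rw [comm_mul_right', commute_of_comm_eq_bot hZY hz hy]
  group

theorem pair_inv_left {X Y Z : Subgroup L} (hXY : ⁅X, Y⁆ ≤ Z) (hZX : ⁅Z, X⁆ = ⊥) {x y : L}
    (hx : x ∈ X) (hy : y ∈ Y) : ⁅x⁻¹, y⁆ = ⁅x, y⁆⁻¹ := by
  have hz : ⁅x, y⁆⁻¹ ∈ Z := Z.inv_mem (hXY (Subgroup.commutator_mem_commutator hx hy))
  have h1 := commute_of_comm_eq_bot hZX hz (X.inv_mem hx)
  rw [comm_inv_left', h1]
  group

/-- inside an abelian `H`-invariant subgroup `Z`, commutators with `H` distribute over joins -/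
theorem comm_sup_le {Z P Q H : Subgroup L} (hZH : H ≤ Subgroup.normalizer (Z : Set L))
    (hZZ : ⁅Z, Z⁆ = ⊥) (hP : P ≤ Z) (hQ : Q ≤ Z) : ⁅P ⊔ Q, H⁆ ≤ ⁅P, H⁆ ⊔ ⁅Q, H⁆ := by
  have hNZ : ⁅P, H⁆ ⊔ ⁅Q, H⁆ ≤ Z :=
    sup_le ((Subgroup.commutator_mono hP le_rfl).trans (comm_le_of_norm hZH))
      ((Subgroup.commutator_mono hQ le_rfl).trans (comm_le_of_norm hZH))
  rw [Subgroup.commutator_le]
  intro w hw h hh
  have key : w ∈ Z ∧ ⁅w, h⁆ ∈ ⁅P, H⁆ ⊔ ⁅Q, H⁆ := by
    rw [Subgroup.sup_eq_closure] at hw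
    induction hw using Subgroup.closure_induction with
    | mem x hx =>
      rcases hx with hx | hx
      · exact ⟨hP hx, (le_sup_left : ⁅P, H⁆ ≤ _) (Subgroup.commutator_mem_commutator hx hh)⟩
      · exact ⟨hQ hx, (le_sup_right : ⁅Q, H⁆ ≤ _) (Subgroup.commutator_mem_commutator hx hh)⟩
    | one =>
      refine ⟨Z.one_mem, ?_⟩
      rw [commutatorElement_one_left]
      exact Subgroup.one_mem _
    | mul x y _ _ hx hy =>
      refine ⟨Z.mul_mem hx.1 hy.1, ?_⟩
      have hz : ⁅y, h⁆ ∈ Z := hNZ hy.2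
      rw [comm_mul_left', commute_of_comm_eq_bot hZZ hz hx.1]
      have : ⁅y, h⁆ * x * x⁻¹ * ⁅x, h⁆ = ⁅y, h⁆ * ⁅x, h⁆ := by group
      rw [this]
      exact Subgroup.mul_mem _ hy.2 hx.2
    | inv x _ hx =>
      refine ⟨Z.inv_mem hx.1, ?_⟩
      have hz : ⁅x, h⁆⁻¹ ∈ Z := Z.inv_mem (hNZ hx.2)
      rw [comm_inv_left', commute_of_comm_eq_bot hZZ hz (Z.inv_mem hx.1)]
      have : ⁅x, h⁆⁻¹ * x⁻¹ * x = ⁅x, h⁆⁻¹ := by group
      rw [this]
      exact Subgroup.inv_mem _ hx.2
  exact key.2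

theorem iter_sup_le {Z P Q H : Subgroup L} (hZH : H ≤ Subgroup.normalizer (Z : Set L))
    (hZZ : ⁅Z, Z⁆ = ⊥) (hP : P ≤ Z) (hQ : Q ≤ Z) (m : ℕ) :
    Cfsg.iterCommutator (P ⊔ Q) H m ≤ Cfsg.iterCommutator P H m ⊔ Cfsg.iterCommutator Q H m := by
  induction m with
  | zero => exact le_rfl
  | succ m ih =>
    have h1 : Cfsg.iterCommutator P H m ≤ Z :=
      (iterCommutator_mono_left hP m).trans (iter_le hZH m)
    have h2 : Cfsg.iterCommutator Q H m ≤ Z :=
      (iterCommutator_mono_left hQ m).trans (iter_le hZH m)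
    exact (Subgroup.commutator_mono ih le_rfl).trans (comm_sup_le hZH hZZ h1 h2)

/-- the recurrence for the commutator pairing -/
theorem rec_le {X Y Z H X' Y' : Subgroup L} (hXY : ⁅X, Y⁆ ≤ Z) (hZX : ⁅Z, X⁆ = ⊥)
    (hZY : ⁅Z, Y⁆ = ⊥) (hX' : X' ≤ X) (hY' : Y' ≤ Y)
    (hX'H : H ≤ Subgroup.normalizer (X' : Set L)) (hY'H : H ≤ Subgroup.normalizer (Y' : Set L)) :
    ⁅⁅X', H⁆, Y'⁆ ≤ ⁅⁅X', Y'⁆, H⁆ ⊔ ⁅X', ⁅Y', H⁆⁆ := by
  have hXY' : ⁅X', Y'⁆ ≤ Z := (Subgroup.commutator_mono hX' hY').trans hXY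
  have hYH' : ⁅Y', H⁆ ≤ Y' := comm_le_of_norm hY'H
  have hXH' : ⁅X', H⁆ ≤ X' := comm_le_of_norm hX'H
  have hnorm2 : H ≤ Subgroup.normalizer ((⁅X', ⁅Y', H⁆⁆ : Subgroup L) : Set L) :=
    norm_comm hX'H (norm_comm_self hY'H)
  rw [Subgroup.commutator_le]
  intro w hw y hy
  have hyY : y ∈ Y := hY' hy
  have key : w ∈ X' ∧ ⁅w, y⁆ ∈ ⁅⁅X', Y'⁆, H⁆ ⊔ ⁅X', ⁅Y', H⁆⁆ := by
    rw [Subgroup.commutator_def] at hw
    induction hw using Subgroup.closure_induction with
    | mem w hw =>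
      obtain ⟨x, hx, h, hh, rfl⟩ := hw
      refine ⟨hXH' (Subgroup.commutator_mem_commutator hx hh), ?_⟩
      have hxX : x ∈ X := hX' hx
      set x₁ := h * x * h⁻¹ with hx₁
      have hx₁X' : x₁ ∈ X' := by
        have := (Subgroup.mem_normalizer_iff.mp (hX'H hh) x).mp hx
        exact this
      have hx₁X : x₁ ∈ X := hX' hx₁X'
      set c := ⁅y⁻¹, h⁻¹⁆ with hc
      have hcY' : c ∈ ⁅Y', H⁆ :=
        Subgroup.commutator_mem_commutator (Y'.inv_mem hy) (H.inv_mem hh)
      have hcY : c ∈ Y := hY' (hYH' hcY')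
      have e0 : ⁅x, h⁆ = x * x₁⁻¹ := by
        rw [hx₁, commutatorElement_def]; group
      have e1 : ⁅x * x₁⁻¹, y⁆ = ⁅x₁, y⁆⁻¹ * ⁅x, y⁆ := by
        rw [pair_mul_left hXY hZX hxX (X.inv_mem hx₁X) hyY, pair_inv_left hXY hZX hx₁X hyY]
      have e2 : ⁅x₁, y⁆ = h * ⁅x, y * c⁆ * h⁻¹ := by
        rw [hx₁, hc]; simp only [commutatorElement_def]; group
      have e3 : ⁅x, y * c⁆ = ⁅x, y⁆ * ⁅x, c⁆ := pair_mul_right hXY hZY hxX hyY hcY
      have e4 : ⁅⁅x, h⁆, y⁆ = (h * ⁅x, c⁆ * h⁻¹)⁻¹ * ⁅h, ⁅x, y⁆⁻¹⁆ := by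
        rw [e0, e1, e2, e3]; simp only [commutatorElement_def]; group
      rw [e4]
      refine Subgroup.mul_mem _ ((le_sup_right : ⁅X', ⁅Y', H⁆⁆ ≤ _) ?_)
        ((le_sup_left : ⁅⁅X', Y'⁆, H⁆ ≤ _) ?_)
      · apply Subgroup.inv_mem
        exact (Subgroup.mem_normalizer_iff.mp (hnorm2 hh) _).mp
          (Subgroup.commutator_mem_commutator hx hcY')
      · rw [Subgroup.commutator_comm]
        exact Subgroup.commutator_mem_commutator hh
          (Subgroup.inv_mem _ (Subgroup.commutator_mem_commutator hx hy))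
    | one =>
      refine ⟨X'.one_mem, ?_⟩
      rw [commutatorElement_one_left]
      exact Subgroup.one_mem _
    | mul a b _ _ ha hb =>
      refine ⟨X'.mul_mem ha.1 hb.1, ?_⟩
      rw [pair_mul_left hXY hZX (hX' ha.1) (hX' hb.1) hyY]
      exact Subgroup.mul_mem _ hb.2 ha.2
    | inv a _ ha =>
      refine ⟨X'.inv_mem ha.1, ?_⟩
      rw [pair_inv_left hXY hZX (hX' ha.1) hyY]
      exact Subgroup.inv_mem _ ha.2
  exact key.2

end Core

section CoreThm

variable {L : Type*} [Group L]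

/-- the triple induction: degrees add under the commutator pairing -/
theorem core_aux {X Y Z H : Subgroup L} (hXH : H ≤ Subgroup.normalizer (X : Set L))
    (hYH : H ≤ Subgroup.normalizer (Y : Set L)) (hZH : H ≤ Subgroup.normalizer (Z : Set L))
    (hXY : ⁅X, Y⁆ ≤ Z) (hZX : ⁅Z, X⁆ = ⊥) (hZY : ⁅Z, Y⁆ = ⊥) (hZZ : ⁅Z, Z⁆ = ⊥) {a b : ℕ}
    (ha : Cfsg.iterCommutator Y H a = ⊥) (hb : Cfsg.iterCommutator Z H b = ⊥) :
    ∀ i l m : ℕ, a + b ≤ i + l + m + 1 →
      Cfsg.iterCommutator ⁅Cfsg.iterCommutator X H i, Cfsg.iterCommutator Y H l⁆ H m = ⊥ := by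
  intro i
  induction i with
  | zero =>
    intro l m hlm
    by_cases hal : a ≤ l
    · have : Cfsg.iterCommutator Y H l = ⊥ := iterCommutator_eq_bot_of_le ha hal
      rw [this, Subgroup.commutator_bot_right, iter_bot]
    · have hbm : b ≤ m := by omega
      have h1 : ⁅Cfsg.iterCommutator X H 0, Cfsg.iterCommutator Y H l⁆ ≤ Z :=
        (Subgroup.commutator_mono (iter_le hXH 0) (iter_le hYH l)).trans hXY
      have h2 := iterCommutator_mono_left (Y := H) h1 m
      rw [iterCommutator_eq_bot_of_le hb hbm] at h2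
      exact le_bot_iff.mp h2
  | succ i ih =>
    intro l m hlm
    have h1 := rec_le (H := H) hXY hZX hZY (iter_le hXH i) (iter_le hYH l) (iter_norm hXH i)
      (iter_norm hYH l)
    have hP : ⁅⁅Cfsg.iterCommutator X H i, Cfsg.iterCommutator Y H l⁆, H⁆ ≤ Z :=
      (comm_le_of_norm (norm_comm (iter_norm hXH i) (iter_norm hYH l))).trans
        ((Subgroup.commutator_mono (iter_le hXH i) (iter_le hYH l)).trans hXY)
    have hQ : ⁅Cfsg.iterCommutator X H i, ⁅Cfsg.iterCommutator Y H l, H⁆⁆ ≤ Z :=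
      (Subgroup.commutator_mono (iter_le hXH i) (iter_le hYH (l + 1))).trans hXY
    have h2 := (iterCommutator_mono_left (Y := H) h1 m).trans (iter_sup_le hZH hZZ hP hQ m)
    have h3 : Cfsg.iterCommutator
        ⁅⁅Cfsg.iterCommutator X H i, Cfsg.iterCommutator Y H l⁆, H⁆ H m = ⊥ := by
      rw [iter_comm_left]
      exact ih l (m + 1) (by omega)
    have h4 : Cfsg.iterCommutator
        ⁅Cfsg.iterCommutator X H i, ⁅Cfsg.iterCommutator Y H l, H⁆⁆ H m = ⊥ :=
      ih (l + 1) m (by omega)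
    rw [h3, h4, sup_bot_eq] at h2
    exact le_bot_iff.mp h2

/-- **Degrees add.** If `[X, Y] ≤ Z` with `Z` abelian and centralized by `X` and `Y`, `[Y, H; a] = 1` and
`[Z, H; b] = 1`, then `[X, H; a + b - 1]` centralizes `Y`. -/
theorem core_bot {X Y Z H : Subgroup L} (hXH : H ≤ Subgroup.normalizer (X : Set L))
    (hYH : H ≤ Subgroup.normalizer (Y : Set L)) (hZH : H ≤ Subgroup.normalizer (Z : Set L))
    (hXY : ⁅X, Y⁆ ≤ Z) (hZX : ⁅Z, X⁆ = ⊥) (hZY : ⁅Z, Y⁆ = ⊥) (hZZ : ⁅Z, Z⁆ = ⊥) {a b : ℕ}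
    (ha : Cfsg.iterCommutator Y H a = ⊥) (hb : Cfsg.iterCommutator Z H b = ⊥) :
    ⁅Cfsg.iterCommutator X H (a + b - 1), Y⁆ = ⊥ :=
  core_aux hXH hYH hZH hXY hZX hZY hZZ ha hb (a + b - 1) 0 0 (by omega)

/-- the same modulo a normal subgroup `N` -/
theorem core_mod (N : Subgroup L) [N.Normal] {X Y Z H : Subgroup L}
    (hXH : H ≤ Subgroup.normalizer (X : Set L))
    (hYH : H ≤ Subgroup.normalizer (Y : Set L)) (hZH : H ≤ Subgroup.normalizer (Z : Set L))
    (hXY : ⁅X, Y⁆ ≤ Z) (hZX : ⁅Z, X⁆ ≤ N) (hZY : ⁅Z, Y⁆ ≤ N) (hZZ : ⁅Z, Z⁆ ≤ N) {a b : ℕ}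
    (ha : Cfsg.iterCommutator Y H a ≤ N) (hb : Cfsg.iterCommutator Z H b ≤ N) :
    ⁅Cfsg.iterCommutator X H (a + b - 1), Y⁆ ≤ N := by
  set π := QuotientGroup.mk' N with hπ
  have hker : π.ker = N := QuotientGroup.ker_mk' N
  have hbot : ∀ K : Subgroup L, K ≤ N → K.map π = ⊥ := by
    intro K hK
    rw [Subgroup.map_eq_bot_iff, hker]
    exact hK
  have hnorm : ∀ K : Subgroup L, H ≤ Subgroup.normalizer (K : Set L) →
      H.map π ≤ Subgroup.normalizer ((K.map π : Subgroup (L ⧸ N)) : Set (L ⧸ N)) := by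
    intro K hK
    exact (Subgroup.map_mono hK).trans (Subgroup.le_normalizer_map π)
  have key := core_bot (X := X.map π) (Y := Y.map π) (Z := Z.map π) (H := H.map π) (a := a) (b := b)
    (hnorm X hXH) (hnorm Y hYH) (hnorm Z hZH)
    (by rw [← Subgroup.map_commutator]; exact Subgroup.map_mono hXY)
    (by rw [← Subgroup.map_commutator]; exact hbot _ hZX)
    (by rw [← Subgroup.map_commutator]; exact hbot _ hZY)
    (by rw [← Subgroup.map_commutator]; exact hbot _ hZZ)
    (by rw [← Cfsg.Agent.Lib.Helper72_WCEngel.map_iterCommutator]; exact hbot _ ha)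
    (by rw [← Cfsg.Agent.Lib.Helper72_WCEngel.map_iterCommutator]; exact hbot _ hb)
  rw [← Cfsg.Agent.Lib.Helper72_WCEngel.map_iterCommutator, ← Subgroup.map_commutator,
    Subgroup.map_eq_bot_iff, hker] at key
  exact key

end CoreThm

section Series

variable {L : Type*} [Group L]

/-- every chief factor inside `X` has `H`-degree at most `d` -/
def Good (H : Subgroup L) (d : ℕ) (X : Subgroup L) : Prop :=
  ∀ U V : Subgroup L, Cfsg.IsChiefFactor U V → U ≤ X → Cfsg.iterCommutator U H d ≤ V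

theorem good_bot (H : Subgroup L) (d : ℕ) : Good H d ⊥ := by
  intro U V h hU
  have hU' : U = ⊥ := le_bot_iff.mp hU
  exact absurd h.1 (by rw [hU']; exact not_lt_bot)

theorem iter_sup_normal_le (P V H : Subgroup L) [V.Normal] (d : ℕ) :
    Cfsg.iterCommutator (P ⊔ V) H d ≤ Cfsg.iterCommutator P H d ⊔ V := by
  set π := QuotientGroup.mk' V with hπ
  have hker : π.ker = V := QuotientGroup.ker_mk' V
  have h1 : (P ⊔ V).map π = P.map π := by
    rw [Subgroup.map_sup, (Subgroup.map_eq_bot_iff V).mpr hker.ge, sup_bot_eq]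
  have h2 : (Cfsg.iterCommutator (P ⊔ V) H d).map π = (Cfsg.iterCommutator P H d).map π := by
    rw [Cfsg.Agent.Lib.Helper72_WCEngel.map_iterCommutator,
      Cfsg.Agent.Lib.Helper72_WCEngel.map_iterCommutator, h1]
  have h3 := Subgroup.map_le_map_iff.mp h2.le
  rwa [hker] at h3

theorem good_step {H X Y : Subgroup L} {d : ℕ} [Y.Normal] (hY : Good H d Y)
    (hXY : Cfsg.iterCommutator X H d ≤ Y) : Good H d X := by
  intro U V hch hUX
  obtain ⟨hlt, hUn, hVn, hmin⟩ := hch
  haveI := hUn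
  haveI := hVn
  have hWn : ((U ⊓ Y) ⊔ V).Normal := inferInstance
  rcases hmin ((U ⊓ Y) ⊔ V) hWn le_sup_right (sup_le inf_le_left hlt.le) with hW | hW
  · have h1 : U ⊓ Y ≤ V := by rw [← hW]; exact le_sup_left
    have h2 : Cfsg.iterCommutator U H d ≤ U := iter_le Subgroup.le_normalizer_of_normal d
    have h3 : Cfsg.iterCommutator U H d ≤ Y := (iterCommutator_mono_left hUX d).trans hXY
    exact (le_inf h2 h3).trans h1
  · have hch' : Cfsg.IsChiefFactor (U ⊓ Y) (V ⊓ Y) := by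
      refine ⟨lt_of_le_of_ne (inf_le_inf_right Y hlt.le) ?_, inferInstance, inferInstance, ?_⟩
      · intro heq
        have h1 : U ⊓ Y ≤ V := by rw [← heq]; exact inf_le_left
        have h2 : U ≤ V := by rw [← hW]; exact sup_le h1 le_rfl
        exact absurd hlt (not_lt_of_ge h2)
      · intro N hN hVN hNU
        haveI := hN
        have hNn : (N ⊔ V).Normal := inferInstance
        rcases hmin (N ⊔ V) hNn le_sup_right (sup_le (hNU.trans inf_le_left) hlt.le) with h | h
        · left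
          have h1 : N ≤ V := by rw [← h]; exact le_sup_left
          exact le_antisymm (le_inf h1 (hNU.trans inf_le_right)) hVN
        · right
          refine le_antisymm hNU ?_
          intro x hx
          have hxU : x ∈ N ⊔ V := by rw [h]; exact hx.1
          obtain ⟨n, hn, v, hv, rfl⟩ := Subgroup.mem_sup_of_normal_right.mp hxU
          have hnY : n ∈ Y := (hNU hn).2
          have hvY : v ∈ Y := by
            have := Y.mul_mem (Y.inv_mem hnY) hx.2
            simpa using this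
          exact N.mul_mem hn (hVN ⟨hv, hvY⟩)
    have h1 := hY _ _ hch' inf_le_right
    have h2 := iter_sup_normal_le (U ⊓ Y) V H d
    rw [hW] at h2
    exact h2.trans (sup_le (h1.trans inf_le_left) le_rfl)

end Series

section Layers

variable {L : Type*} [Group L]

theorem good_mono {H X X' : Subgroup L} {d : ℕ} (h : Good H d X) (hX : X' ≤ X) : Good H d X' :=
  fun U V hch hU => h U V hch (hU.trans hX)

theorem good_of_le {H X : Subgroup L} {d d' : ℕ} (h : Good H d X) (hd : d ≤ d') : Good H d' X := by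
  intro U V hch hU
  haveI := hch.2.2.1
  exact iter_le_of_le Subgroup.le_normalizer_of_normal (h U V hch hU) hd

instance iter_normal (X Y : Subgroup L) [X.Normal] [Y.Normal] (k : ℕ) :
    (Cfsg.iterCommutator X Y k).Normal := by
  induction k with
  | zero => exact (inferInstance : X.Normal)
  | succ k ih =>
    haveI := ih
    exact (inferInstance : (⁅Cfsg.iterCommutator X Y k, Y⁆).Normal)

/-- the elements of `R` acting trivially on `M` modulo `D` -/
def cstar (R M D : Subgroup L) [D.Normal] : Subgroup L :=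
  R ⊓ (Subgroup.centralizer ((M.map (QuotientGroup.mk' D) : Subgroup (L ⧸ D)) : Set (L ⧸ D))).comap
    (QuotientGroup.mk' D)

theorem le_cstar_iff (R M D : Subgroup L) [D.Normal] (K : Subgroup L) :
    K ≤ cstar R M D ↔ K ≤ R ∧ ⁅M, K⁆ ≤ D := by
  unfold cstar
  rw [le_inf_iff, ← Subgroup.map_le_iff_le_comap, ← Subgroup.commutator_eq_bot_iff_le_centralizer,
    Subgroup.commutator_comm, ← Subgroup.map_commutator, Subgroup.map_eq_bot_iff,
    QuotientGroup.ker_mk']

instance cstar_normal (R M D : Subgroup L) [R.Normal] [M.Normal] [D.Normal] :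
    (cstar R M D).Normal := by
  unfold cstar
  haveI : (M.map (QuotientGroup.mk' D)).Normal :=
    Subgroup.Normal.map inferInstance _ (QuotientGroup.mk'_surjective D)
  infer_instance

/-- **The main structural statement**: if `A ≤ R` are normal in `L`, `[R, A] ≤ Z(A)`, `C_R(A) ≤ Z(A)`,
`Z(A)` is hypercentrally embedded in `R`, and `g` acts cubically on `A` and quadratically on `Z(A)`, then
`[U, g, g, g, g] ≤ V` for every chief factor `U / V` of `L` inside `R`. -/
theorem good_four (R A : Subgroup L) [R.Normal] [A.Normal]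
    (hRA : ⁅R, A⁆ ≤ ZZ A) (hcent : R ⊓ Subgroup.centralizer (A : Set L) ≤ ZZ A)
    (hnil : ∃ m, Cfsg.iterCommutator (ZZ A) R m = ⊥) (H : Subgroup L)
    (h3 : Cfsg.iterCommutator A H 3 = ⊥) (h2 : Cfsg.iterCommutator (ZZ A) H 2 = ⊥) :
    Good H 4 R := by
  obtain ⟨m, hm⟩ := hnil
  set M := ZZ A with hM
  haveI hMn : M.Normal := (inferInstance : (A ⊓ Subgroup.centralizer (A : Set L)).Normal)
  have hMM : ⁅M, M⁆ = ⊥ := ZZ_self_comm_eq_bot A
  have hMA : ⁅M, A⁆ = ⊥ := ZZ_comm_eq_bot A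
  have hn : ∀ K : Subgroup L, K.Normal → H ≤ Subgroup.normalizer (K : Set L) := by
    intro K hK
    haveI := hK
    exact Subgroup.le_normalizer_of_normal
  have hMk_le : ∀ k, Cfsg.iterCommutator M R k ≤ M := fun k =>
    iter_le Subgroup.le_normalizer_of_normal k
  -- the subgroup `M`
  have hgM : Good H 4 M :=
    good_step (Y := ⊥) (good_bot H 4) (le_of_eq (iterCommutator_eq_bot_of_le h2 (by norm_num)))
  -- the centralizer of `M` in `R`
  have hE_le : ∀ k, cstar R M (Cfsg.iterCommutator M R k) ≤ R := fun k =>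
    ((le_cstar_iff R M _ _).mp le_rfl).1
  have hE_comm : ∀ k, ⁅M, cstar R M (Cfsg.iterCommutator M R k)⁆ ≤ Cfsg.iterCommutator M R k :=
    fun k => ((le_cstar_iff R M _ _).mp le_rfl).2
  have hgEm : Good H 4 (cstar R M (Cfsg.iterCommutator M R m)) := by
    refine good_step (Y := M) hgM ?_
    set T₀ := cstar R M (Cfsg.iterCommutator M R m) with hT₀
    have hT₀M : ⁅M, T₀⁆ = ⊥ := by
      exact le_bot_iff.mp ((hE_comm m).trans hm.le)
    have key : ⁅Cfsg.iterCommutator T₀ H 4, A⁆ = ⊥ :=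
      core_bot (X := T₀) (Y := A) (Z := M) (H := H) (a := 3) (b := 2)
        (hn _ inferInstance) (hn _ inferInstance) (hn _ inferInstance)
        ((Subgroup.commutator_mono (hE_le m) le_rfl).trans hRA) hT₀M hMA hMM h3 h2
    have h4 : Cfsg.iterCommutator T₀ H 4 ≤ T₀ := iter_le (hn _ inferInstance) 4
    exact (le_inf (h4.trans (hE_le m))
      (Subgroup.commutator_eq_bot_iff_le_centralizer.mp key)).trans hcent
  -- the layers
  have hstep : ∀ k, Good H 4 (cstar R M (Cfsg.iterCommutator M R (k + 1))) →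
      Good H 4 (cstar R M (Cfsg.iterCommutator M R k)) := by
    intro k hk
    refine good_step (Y := cstar R M (Cfsg.iterCommutator M R (k + 1))) hk ?_
    set E := cstar R M (Cfsg.iterCommutator M R k) with hE
    have hbot : ∀ K : Subgroup L, K = ⊥ → K ≤ Cfsg.iterCommutator M R (k + 1) := by
      intro K hK
      rw [hK]
      exact bot_le
    have key : ⁅Cfsg.iterCommutator E H 3, M⁆ ≤ Cfsg.iterCommutator M R (k + 1) :=
      core_mod (Cfsg.iterCommutator M R (k + 1)) (X := E) (Y := M)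
        (Z := Cfsg.iterCommutator M R k) (H := H) (a := 2) (b := 2)
        (hn _ inferInstance) (hn _ inferInstance) (hn _ inferInstance)
        (by rw [Subgroup.commutator_comm]; exact hE_comm k)
        (Subgroup.commutator_mono le_rfl (hE_le k))
        (hbot _ (le_bot_iff.mp (hMM ▸ Subgroup.commutator_mono (hMk_le k) le_rfl)))
        (hbot _ (le_bot_iff.mp (hMM ▸ Subgroup.commutator_mono (hMk_le k) (hMk_le k))))
        (hbot _ h2)
        (hbot _ (le_bot_iff.mp (h2 ▸ iterCommutator_mono_left (hMk_le k) 2)))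
    have h3E : Cfsg.iterCommutator E H 3 ≤ cstar R M (Cfsg.iterCommutator M R (k + 1)) := by
      rw [le_cstar_iff]
      refine ⟨(iter_le (hn _ inferInstance) 3).trans (hE_le k), ?_⟩
      rw [Subgroup.commutator_comm]
      exact key
    exact iter_le_of_le (hn _ inferInstance) h3E (by norm_num)
  have hall : ∀ j, Good H 4 (cstar R M (Cfsg.iterCommutator M R (m - j))) := by
    intro j
    induction j with
    | zero => exact hgEm
    | succ j ih =>
      by_cases hj : m - j = 0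
      · have : m - (j + 1) = m - j := by omega
        rw [this]
        exact ih
      · have : m - j = (m - (j + 1)) + 1 := by omega
        rw [this] at ih
        exact hstep _ ih
  have h0 := hall m
  rw [Nat.sub_self] at h0
  refine good_mono h0 ?_
  rw [le_cstar_iff]
  exact ⟨le_rfl, comm_le_of_norm Subgroup.le_normalizer_of_normal⟩

end Layers

section Main

universe u

variable {L : Type u} [Group L] [Finite L] {p : ℕ} [Fact p.Prime]

omit [Finite L] [Fact p.Prime] in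
theorem iter_le_lcs {M R : Subgroup L} (hMR : M ≤ R) (k : ℕ) :
    Cfsg.iterCommutator M R k ≤ R.lowerCentralSeries k := by
  induction k with
  | zero => exact hMR
  | succ k ih => exact Subgroup.commutator_mono ih le_rfl

/-- **Glauberman.** If `K_∞(S)` or `K^∞(S)` is not normal in `L`, then some `g ∈ S` outside `O_p(L)`
satisfies `[U, g, g, g, g] ≤ V` for every chief factor `U / V` of `L` inside `O_p(L)`. -/
theorem exists_engel_of_not_normal (S : Sylow p L)
    (hnot : ¬ (Cfsg.inducedFunctor Cfsg.kInfLower (S : Subgroup L)).Normal ∨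
      ¬ (Cfsg.inducedFunctor Cfsg.kInfUpper (S : Subgroup L)).Normal) :
    ∃ g : L, g ∈ (S : Subgroup L) ∧ g ∉ Cfsg.pCore p L ∧
      Good (Subgroup.zpowers g) 4 (Cfsg.pCore p L) := by
  classical
  set R := Cfsg.pCore p L with hR
  haveI hRn : R.Normal := Cfsg.Agent.Lib.Helper49_CharP.pCoreNormal p L
  have hRp : IsPGroup p ↥R := Cfsg.Agent.Lib.Helper49_CharP.pCore_isPGroup p L
  have hRS : R ≤ (S : Subgroup L) := Cfsg.Agent.Lib.Helper49_CharP.pCore_le_sylow S
  have hf : Function.Injective R.subtype := R.subtype_injective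
  obtain ⟨M, C, hMC, -, -, hCinv, hCM, hcomm, -, hcentC⟩ :=
    Cfsg.Agent.Lib.Helper33_Critical.exists_critical_pair hRp (⊤ : Subgroup (MulAut ↥R)) le_top
      (⊤ : Subgroup ↥R) (fun _ _ _ _ => Subgroup.mem_top _)
  set A := C.map R.subtype with hA
  haveI hAn : A.Normal := by
    constructor
    intro a ha l
    obtain ⟨c, hc, rfl⟩ := ha
    refine ⟨MulAut.conjNormal l c, hCinv _ (Subgroup.mem_top _) c hc, ?_⟩
    simp [MulAut.conjNormal_apply]
  have hAR : A ≤ R := by
    rintro _ ⟨c, -, rfl⟩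
    exact c.2
  have hMZ : M.map R.subtype ≤ ZZ A := by
    have h1 : M ≤ ZZ C := le_inf hMC (Subgroup.le_centralizer_iff.mp hCM)
    have h2 := Subgroup.map_mono (f := R.subtype) h1
    rwa [Cfsg.Agent.S1979.map_ZZ hf] at h2
  have hRA : ⁅R, A⁆ ≤ ZZ A := by
    have h1 : (⊤ : Subgroup ↥R).map R.subtype = R := by
      rw [← MonoidHom.range_eq_map, Subgroup.range_subtype]
    have h2 : ⁅(⊤ : Subgroup ↥R), C⁆ ≤ M := by
      rw [Subgroup.commutator_comm, Subgroup.commutator_le]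
      intro c hc x _
      exact hcomm c hc x
    have h3 := Subgroup.map_mono (f := R.subtype) h2
    rw [Subgroup.map_commutator, h1] at h3
    exact h3.trans hMZ
  have hcent : R ⊓ Subgroup.centralizer (A : Set L) ≤ ZZ A := by
    intro x hx
    have hxc : (⟨x, hx.1⟩ : ↥R) ∈ Subgroup.centralizer (C : Set ↥R) := by
      rw [Subgroup.mem_centralizer_iff]
      intro c hc
      apply Subtype.ext
      have hx2 : x ∈ Subgroup.centralizer (A : Set L) := hx.2
      exact Subgroup.mem_centralizer_iff.mp hx2 (c : L) ⟨c, hc, rfl⟩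
    have hxM : (⟨x, hx.1⟩ : ↥R) ∈ M := hcentC ⟨Subgroup.mem_top _, hxc⟩
    exact hMZ ⟨⟨x, hx.1⟩, hxM, rfl⟩
  have hA2 : ⁅A, A⁆ ≤ Subgroup.centralizer (A : Set L) :=
    ((Subgroup.commutator_mono hAR le_rfl).trans hRA).trans inf_le_right
  have hnil : ∃ m, Cfsg.iterCommutator (ZZ A) R m = ⊥ := by
    haveI : Group.IsNilpotent ↥R := hRp.isNilpotent
    obtain ⟨n, hn⟩ := (Subgroup.isNilpotent_iff_lowerCentralSeries R).mp inferInstance
    refine ⟨n, le_bot_iff.mp ?_⟩
    rw [← hn]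
    exact iter_le_lcs (inf_le_left.trans hAR) n
  by_contra hcon
  push Not at hcon
  have key := inducedFunctor_eq (p := p) (S : Subgroup L) R A S.isPGroup' hRS hAR
    Subgroup.le_normalizer_of_normal hA2 hRA
    (by
      intro g hg h3 h2
      by_contra hgR
      exact hcon g hg hgR (good_four R A hRA hcent hnil (Subgroup.zpowers g) h3 h2))
  have hnL := Cfsg.Agent.Lib.Helper34_NPC.normalizer_le_normalizer_inducedFunctor
    (isCharPFunctor_kInfLower p) R hRp
  have hnU := Cfsg.Agent.Lib.Helper34_NPC.normalizer_le_normalizer_inducedFunctor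
    (isCharPFunctor_kInfUpper p) R hRp
  rw [Subgroup.normalizer_eq_top] at hnL hnU
  rcases hnot with h | h
  · apply h
    rw [key.1]
    exact Subgroup.normalizer_eq_top_iff.mp (top_le_iff.mp hnL)
  · apply h
    rw [key.2]
    exact Subgroup.normalizer_eq_top_iff.mp (top_le_iff.mp hnU)

end Main

end Cfsg.Agent.Lib.Helper54_KInfEngel
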