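import Mathlib
import Cfsg.Prelude.Def_ConjugacyFunctors
import Cfsg.Prelude.Def_LocalEven
import Cfsg.Prelude.Def_PLocal
import Cfsg.Prelude.Def_Solvable
import Cfsg.Agent.Lib.Helper34_NPC
import Cfsg.Agent.Lib.Helper33_WTransfer
import Cfsg.Agent.Lib.Helper33_Conj
import Cfsg.Agent.Lib.Helper33_Alperin
import Cfsg.Agent.Lib.Helper51_Local
import Cfsg.Agent.Lib.Helper76_PSolvable
import Cfsg.Agent.Lib.Helper54_FunctorTransfer
import Cfsg.Agent.Lib.Helper54_NormalTransfer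
import Cfsg.Agent.S1970
import Cfsg.Agent.S3766
import Cfsg.Agent.Lib.Helper72_WCEngel

/-!
# Structure of a minimal failure of transfer control (helper54)

Glauberman, "Global and local properties of finite groups": if a family of section conjugacy
functors controls transfer in every proper section of `G` but not in `G`, then `G` is
`p`-constrained, a certain subgroup `M` is the unique maximal subgroup over a Sylow `p`-subgroup,
and no element of `S ∖ O_p(G)` acts with `(u-1)^(p-1) = 0` on all chief factors below `O_p(G)`.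
-/

set_option autoImplicit false
set_option linter.unusedSectionVars false

universe u

namespace Cfsg.Agent.Lib.Helper54_MinFail

open Cfsg Cfsg.Agent.Lib.Helper54_FunctorTransfer Cfsg.Agent.Lib.Helper34_NPC
  Cfsg.Agent.Lib.Helper33_WTransfer Cfsg.Agent.Lib.Helper33_Conj Cfsg.Agent.Lib.Helper33_Alperin
  Cfsg.Agent.Lib.Helper51_Local Cfsg.Agent.Lib.Helper54_NormalTransfer
open scoped commutatorElement

variable {p : ℕ} [Fact p.Prime] {𝓦 : Set (∀ (Q : Type u) [Group Q], Subgroup Q)}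

/-- the last step: if `O_p(Y) ∩ Y'` lies in the subgroup generated by the local focal subgroups,
and transfer is controlled in the proper subgroups and in `Y / O_p(Y)`, then it is controlled in
the `p`-constrained group `Y` -/
theorem fct_of_core_le (h𝓦 : ∀ W ∈ 𝓦, Cfsg.IsCharPFunctor.{u} p W) {Y : Type u} [Group Y]
    [Finite Y] (S : Sylow p Y)
    (h1 : Subgroup.centralizer ((Cfsg.pCore p Y : Subgroup Y) : Set Y) ≤ Cfsg.pCore p Y)
    (key : Cfsg.pCore p Y ⊓ ⁅(⊤ : Subgroup Y), ⊤⁆ ≤ DD (ind 𝓦 Y) ⊤ (S : Subgroup Y))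
    (h3 : Cfsg.pCore p Y ≠ ⊥ → FCT p 𝓦 (Y ⧸ Cfsg.pCore p Y))
    (h4 : ∀ H : Subgroup Y, H ≠ ⊤ → FCT p 𝓦 ↥H) : FCT p 𝓦 Y := by
  have hPp : IsPGroup p (Cfsg.pCore p Y) := Cfsg.Agent.Lib.Helper76_PSolvable.pCore_isPGroup p
  have hPS : Cfsg.pCore p Y ≤ (S : Subgroup Y) := hPp.le_sylow_of_normal S
  have hD : DD (ind 𝓦 Y) ⊤ (S : Subgroup Y) ≤ (S : Subgroup Y) ⊓ ⁅(⊤ : Subgroup Y), ⊤⁆ :=
    DD_le_inf _ _ _
  apply FCT.of_le S
  by_cases hSP : (S : Subgroup Y) ≤ Cfsg.pCore p Y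
  · intro s hs
    exact key ⟨hSP hs.1, hs.2⟩
  · have hPne : Cfsg.pCore p Y ≠ ⊥ := by
      intro hbot
      apply hSP
      intro s _
      apply h1
      rw [hbot, Subgroup.mem_centralizer_iff]
      intro y hy
      have : y = 1 := hy
      rw [this, one_mul, mul_one]
    have hH := Cfsg.Agent.S1970.le_DD_of_quotient_normalizer h𝓦 S hSP h4
    intro s hs
    obtain ⟨d, hd, k, hk, rfl⟩ :=
      exists_mul_of_quotient h𝓦 S (Cfsg.pCore p Y) hPS (h3 hPne) hH hs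
    have hkX : k ∈ ⁅(⊤ : Subgroup Y), (⊤ : Subgroup Y)⁆ := by
      have e : k = d⁻¹ * (d * k) := by group
      rw [e]
      exact Subgroup.mul_mem _ (Subgroup.inv_mem _ (hD hd).2) hs.2
    exact Subgroup.mul_mem _ hd (key ⟨hk, hkX⟩)

/-- minimal failure of transfer control: the family controls transfer in every group involved in
`G` except those isomorphic to `G`, and does not control transfer in `G` -/
structure MinFail (p : ℕ) (𝓦 : Set (∀ (Q : Type u) [Group Q], Subgroup Q)) (G : Type u) [Group G] :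
    Prop where
  sec : ∀ (X : Type u) [Group X], Cfsg.Involves X G → FCT p 𝓦 X ∨ Nonempty (G ≃* X)
  fail : ¬ FCT p 𝓦 G

theorem minFail_of_hsec (h𝓦 : ∀ W ∈ 𝓦, Cfsg.IsCharPFunctor.{u} p W) {G : Type u} [Group G]
    [Finite G]
    (hsec : ∀ (K R : Subgroup G) [hR : (R.subgroupOf K).Normal], (K = ⊤ → R ≠ ⊥) →
      Cfsg.FamilyControlsTransferIn p
        ((fun W => Cfsg.inducedFunctor (G := (↥K ⧸ R.subgroupOf K)) W) '' 𝓦) ⊤)
    (hG : ¬ Cfsg.FamilyControlsTransferIn p ((fun W => Cfsg.inducedFunctor (G := G) W) '' 𝓦) ⊤) :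
    MinFail p 𝓦 G := by
  refine ⟨?_, hG⟩
  intro X _ hX
  obtain ⟨K, R, hn, ⟨e⟩⟩ := hX
  by_cases h : K = ⊤ ∧ R = ⊥
  · obtain ⟨rfl, rfl⟩ := h
    right
    have hbot : (⊥ : Subgroup G).subgroupOf ⊤ = ⊥ := Subgroup.bot_subgroupOf _
    let e0 : ↥(⊤ : Subgroup G) ⧸ (⊥ : Subgroup G).subgroupOf ⊤ ≃* ↥(⊤ : Subgroup G) :=
      (QuotientGroup.quotientMulEquivOfEq hbot).trans QuotientGroup.quotientBot
    exact ⟨(Subgroup.topEquiv.symm.trans e0.symm).trans e⟩
  · left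
    have hfin : Finite (↥K ⧸ R.subgroupOf K) := inferInstance
    exact FCT.of_equiv h𝓦 e (hsec K R (fun hK hR => h ⟨hK, hR⟩))

variable {G : Type u} [Group G] [Finite G]

theorem MinFail.of_card_lt (h : MinFail p 𝓦 G) (X : Type u) [Group X] (hX : Cfsg.Involves X G)
    (hlt : Nat.card X < Nat.card G) : FCT p 𝓦 X := by
  rcases h.sec X hX with h1 | ⟨⟨e⟩⟩
  · exact h1
  · exact absurd (Nat.card_congr e.toEquiv) hlt.ne'

theorem MinFail.sub (h : MinFail p 𝓦 G) (H : Subgroup G) (hH : H ≠ ⊤) : FCT p 𝓦 ↥H :=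
  h.of_card_lt ↥H (involves_of_subgroup H (involves_self _)) (card_subgroup_lt H hH)

theorem MinFail.quot (h : MinFail p 𝓦 G) (V : Subgroup G) [V.Normal] (hV : V ≠ ⊥) :
    FCT p 𝓦 (G ⧸ V) :=
  h.of_card_lt (G ⧸ V) (involves_of_surjective (QuotientGroup.mk' V)
    (QuotientGroup.mk'_surjective V) (involves_self _)) (card_quotient_lt V hV)

/-- (a): a minimal failure is `p`-constrained -/
theorem MinFail.constrained (h𝓦 : ∀ W ∈ 𝓦, Cfsg.IsCharPFunctor.{u} p W) (h : MinFail p 𝓦 G) :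
    Subgroup.centralizer ((Cfsg.pCore p G : Subgroup G) : Set G) ≤ Cfsg.pCore p G := by
  by_contra hc
  apply h.fail
  apply main h𝓦 (Nat.card G) G rfl
  intro X _ hX hcX
  rcases h.sec X hX with h1 | ⟨⟨e⟩⟩
  · exact h1
  · exact absurd (Cfsg.Agent.S1970.constrained_of_equiv (p := p) e hcX) hc


/-- the subgroup generated by the local focal subgroups `S ∩ N_G(W(S))'` -/
def TT (𝓦 : Set (∀ (Q : Type u) [Group Q], Subgroup Q)) {G : Type u} [Group G] (S : Subgroup G) :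
    Subgroup G :=
  DD (ind 𝓦 G) ⊤ S

theorem TT_le (S : Subgroup G) : TT 𝓦 S ≤ S ⊓ ⁅(⊤ : Subgroup G), ⊤⁆ := DD_le_inf _ _ _

theorem commutator_mem_TT (h𝓦 : ∀ W ∈ 𝓦, Cfsg.IsCharPFunctor.{u} p W) (hne : 𝓦.Nonempty)
    (S : Sylow p G) {n x : G} (hn : n ∈ Subgroup.normalizer ((S : Subgroup G) : Set G))
    (hx : x ∈ (S : Subgroup G)) : n * x * n⁻¹ * x⁻¹ ∈ TT 𝓦 (S : Subgroup G) := by
  obtain ⟨W, hW⟩ := hne
  have hmem : Cfsg.inducedFunctor (G := G) W ∈ ind 𝓦 G := ⟨W, hW, rfl⟩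
  apply le_DD_top hmem (S : Subgroup G)
  have hNN := normalizer_le_normalizer_inducedFunctor (h𝓦 W hW) (S : Subgroup G) S.2
  refine ⟨?_, ?_⟩
  · exact Subgroup.mul_mem _ ((Subgroup.mem_normalizer_iff.mp hn x).mp hx) (Subgroup.inv_mem _ hx)
  · have := Subgroup.commutator_mem_commutator (hNN hn) (hNN (Subgroup.le_normalizer hx))
    rwa [commutatorElement_def] at this

theorem commutator_le_TT (h𝓦 : ∀ W ∈ 𝓦, Cfsg.IsCharPFunctor.{u} p W) (hne : 𝓦.Nonempty)
    (S : Sylow p G) : ⁅(S : Subgroup G), (S : Subgroup G)⁆ ≤ TT 𝓦 (S : Subgroup G) := by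
  rw [Subgroup.commutator_le]
  intro a ha b hb
  rw [commutatorElement_def]
  exact commutator_mem_TT h𝓦 hne S (Subgroup.le_normalizer ha) hb

theorem pCore_le_sylow (S : Sylow p G) : Cfsg.pCore p G ≤ (S : Subgroup G) :=
  (Cfsg.Agent.Lib.Helper76_PSolvable.pCore_isPGroup p).le_sylow_of_normal S

theorem pCore_normal' : (Cfsg.pCore p G).Normal := Cfsg.Agent.Lib.Helper76_PSolvable.pCore_normal p

/-- a subgroup all of whose elements map `A` into `A` by conjugation normalizes `A` -/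
theorem le_normalizer_of_forall {H A : Subgroup G}
    (h : ∀ g ∈ H, ∀ x ∈ A, g * x * g⁻¹ ∈ A) : H ≤ Subgroup.normalizer (A : Set G) := by
  intro g hg
  rw [Subgroup.mem_normalizer_iff]
  intro x
  refine ⟨h g hg x, fun hx => ?_⟩
  have := h g⁻¹ (H.inv_mem hg) _ hx
  have e : g⁻¹ * (g * x * g⁻¹) * g⁻¹⁻¹ = x := by group
  rwa [e] at this

/-- a subgroup `H ⊇ O_p(G)` with `S ∩ H' ≤ T` normalizes `T ∩ O_p(G)` -/
theorem le_normalizer_TT_inf (S : Sylow p G) {H : Subgroup G} (hPH : Cfsg.pCore p G ≤ H)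
    (hle : (S : Subgroup G) ⊓ ⁅H, H⁆ ≤ TT 𝓦 (S : Subgroup G)) :
    H ≤ Subgroup.normalizer ((TT 𝓦 (S : Subgroup G) ⊓ Cfsg.pCore p G : Subgroup G) : Set G) := by
  have hPn : (Cfsg.pCore p G).Normal := pCore_normal'
  apply le_normalizer_of_forall
  intro g hg x hx
  have hc : g * x * g⁻¹ * x⁻¹ ∈ TT 𝓦 (S : Subgroup G) ⊓ Cfsg.pCore p G := by
    have h1 : g * x * g⁻¹ * x⁻¹ ∈ Cfsg.pCore p G :=
      Subgroup.mul_mem _ (hPn.conj_mem x hx.2 g) (Subgroup.inv_mem _ hx.2)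
    refine ⟨hle ⟨pCore_le_sylow S h1, ?_⟩, h1⟩
    have := Subgroup.commutator_mem_commutator hg (hPH hx.2)
    rwa [commutatorElement_def] at this
  have e : g * x * g⁻¹ = (g * x * g⁻¹ * x⁻¹) * x := by group
  rw [e]
  exact Subgroup.mul_mem _ hc hx

/-- (b1): every proper subgroup containing `S` lies in `M = N_G(T ∩ O_p(G))` -/
theorem MinFail.le_M (h𝓦 : ∀ W ∈ 𝓦, Cfsg.IsCharPFunctor.{u} p W) (h : MinFail p 𝓦 G)
    (S : Sylow p G) {H : Subgroup G} (hSH : (S : Subgroup G) ≤ H) (hH : H ≠ ⊤) :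
    H ≤ Subgroup.normalizer ((TT 𝓦 (S : Subgroup G) ⊓ Cfsg.pCore p G : Subgroup G) : Set G) :=
  le_normalizer_TT_inf S ((pCore_le_sylow S).trans hSH) (FCT.le_DD h𝓦 H (h.sub H hH) S hSH)

/-- `S ≤ M` -/
theorem sylow_le_M (h𝓦 : ∀ W ∈ 𝓦, Cfsg.IsCharPFunctor.{u} p W) (hne : 𝓦.Nonempty)
    (S : Sylow p G) : (S : Subgroup G) ≤
      Subgroup.normalizer ((TT 𝓦 (S : Subgroup G) ⊓ Cfsg.pCore p G : Subgroup G) : Set G) :=
  le_normalizer_TT_inf S (pCore_le_sylow S)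
    (inf_le_right.trans (commutator_le_TT h𝓦 hne S))

/-- the final contradiction: `O_p(G) ∩ G' ≤ T` is impossible in a minimal failure -/
theorem MinFail.false_of_core_le (h𝓦 : ∀ W ∈ 𝓦, Cfsg.IsCharPFunctor.{u} p W) (h : MinFail p 𝓦 G)
    (S : Sylow p G)
    (key : Cfsg.pCore p G ⊓ ⁅(⊤ : Subgroup G), ⊤⁆ ≤ TT 𝓦 (S : Subgroup G)) : False := by
  have hPn : (Cfsg.pCore p G).Normal := pCore_normal'
  exact h.fail (fct_of_core_le h𝓦 S (h.constrained h𝓦) key (fun hne => h.quot _ hne) h.sub)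


/-- (b2): `M = N_G(T ∩ O_p(G))` is a proper subgroup -/
theorem MinFail.M_ne_top (h𝓦 : ∀ W ∈ 𝓦, Cfsg.IsCharPFunctor.{u} p W) (hne : 𝓦.Nonempty)
    (h : MinFail p 𝓦 G) (S : Sylow p G) :
    Subgroup.normalizer ((TT 𝓦 (S : Subgroup G) ⊓ Cfsg.pCore p G : Subgroup G) : Set G) ≠ ⊤ := by
  intro htop
  have hP₀n : (TT 𝓦 (S : Subgroup G) ⊓ Cfsg.pCore p G).Normal :=
    Subgroup.normalizer_eq_top_iff.mp htop
  have hPn : (Cfsg.pCore p G).Normal := pCore_normal'
  apply h.false_of_core_le h𝓦 S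
  obtain ⟨P, hPdef⟩ : ∃ P, P = Cfsg.pCore p G := ⟨_, rfl⟩
  obtain ⟨P₀, hP₀def⟩ : ∃ P₀, P₀ = TT 𝓦 (S : Subgroup G) ⊓ Cfsg.pCore p G := ⟨_, rfl⟩
  rw [← hP₀def] at hP₀n
  rw [← hPdef] at hPn ⊢
  have hPS : P ≤ (S : Subgroup G) := hPdef ▸ pCore_le_sylow S
  have hP₀T : P₀ ≤ TT 𝓦 (S : Subgroup G) := hP₀def ▸ inf_le_left
  set π := QuotientGroup.mk' P₀ with hπ
  have hπs : Function.Surjective π := QuotientGroup.mk'_surjective P₀
  have hPbn : (P.map π).Normal := hPn.map π hπs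
  set C := (Subgroup.centralizer ((P.map π : Subgroup (G ⧸ P₀)) : Set (G ⧸ P₀))).comap π with hC
  have hCn : C.Normal := Subgroup.Normal.comap Subgroup.normal_centralizer π
  have hCmem : ∀ g : G, (∀ x ∈ P, g * x * g⁻¹ * x⁻¹ ∈ P₀) → g ∈ C := by
    intro g hg
    rw [hC, Subgroup.mem_comap, Subgroup.mem_centralizer_iff]
    rintro y ⟨x, hx, rfl⟩
    have h1 : π (g * x * g⁻¹ * x⁻¹) = 1 := (QuotientGroup.eq_one_iff _).mpr (hg x hx)
    rw [map_mul, map_mul, map_mul, map_inv, map_inv] at h1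
    have h2 := congrArg (fun z => z * π x * π g) h1
    simp only [inv_mul_cancel_right, one_mul] at h2
    exact h2.symm
  have hSC : (S : Subgroup G) ≤ C := by
    intro s hs
    apply hCmem
    intro x hx
    rw [hP₀def, hPdef.symm]
    refine ⟨commutator_mem_TT h𝓦 hne S (Subgroup.le_normalizer hs) (hPS hx), ?_⟩
    exact Subgroup.mul_mem _ (hPn.conj_mem x hx s) (Subgroup.inv_mem _ hx)
  have hNC : Subgroup.normalizer ((S : Subgroup G) : Set G) ≤ C := by
    intro n hn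
    apply hCmem
    intro x hx
    rw [hP₀def, hPdef.symm]
    refine ⟨commutator_mem_TT h𝓦 hne S hn (hPS hx), ?_⟩
    exact Subgroup.mul_mem _ (hPn.conj_mem x hx n) (Subgroup.inv_mem _ hx)
  have hCtop : ∀ m : G, m ∈ C := by
    intro m
    have hidx : ¬ p ∣ (S : Subgroup G).relIndex C := by
      intro hdvd
      exact S.not_dvd_index (hdvd.trans (Subgroup.relIndex_dvd_index_of_le hSC))
    obtain ⟨y, hy, hyS⟩ := frattini (p := p) (M := ⊤) (Y := C) (R := (S : Subgroup G))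
      (fun m _ => cj_eq_of_normal m C) hSC S.2 hidx (Subgroup.mem_top m)
    have h1 : y * m ∈ C := hNC (mem_normalizer_iff_cj.mpr hyS)
    have e : m = y⁻¹ * (y * m) := by group
    rw [e]
    exact C.mul_mem (C.inv_mem hy) h1
  -- the central transfer
  have hPT : P.map π ≤ ((S.mapSurjective hπs : Sylow p (G ⧸ P₀)) : Subgroup (G ⧸ P₀)) :=
    Subgroup.map_mono hPS
  have hcen := inf_commutator_le_of_centralizer_mul (S.mapSurjective hπs) (P.map π) hPT (by
    intro k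
    obtain ⟨g, rfl⟩ := hπs k
    exact ⟨π g, (Subgroup.mem_comap.mp (hCtop g)), 1, Subgroup.one_mem _, (mul_one _).symm⟩)
  have hSbar : ((S.mapSurjective hπs : Sylow p (G ⧸ P₀)) : Subgroup (G ⧸ P₀)) =
      (S : Subgroup G).map π := rfl
  rw [hSbar, ← Subgroup.map_commutator] at hcen
  rintro x ⟨hxP, hxG⟩
  have h1 : π x ∈ P.map π ⊓ ⁅(⊤ : Subgroup (G ⧸ P₀)), ⊤⁆ := by
    refine ⟨⟨x, hxP, rfl⟩, ?_⟩
    have : Subgroup.map π (⁅(⊤ : Subgroup G), (⊤ : Subgroup G)⁆) ≤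
        ⁅(⊤ : Subgroup (G ⧸ P₀)), ⊤⁆ := by
      rw [Subgroup.map_commutator]
      exact Subgroup.commutator_mono le_top le_top
    exact this ⟨x, hxG, rfl⟩
  obtain ⟨s, hs, hsx⟩ := hcen h1
  have h2 : s⁻¹ * x ∈ P₀ := QuotientGroup.eq.mp hsx
  have e : x = s * (s⁻¹ * x) := by group
  rw [e]
  exact Subgroup.mul_mem _ (commutator_le_TT h𝓦 hne S hs) (hP₀T h2)

/-- (c): `[O_p(G), M] ≤ O_p(G) ∩ M' ≤ O_p(G) ∩ T` -/
theorem MinFail.commutator_M (h𝓦 : ∀ W ∈ 𝓦, Cfsg.IsCharPFunctor.{u} p W) (hne : 𝓦.Nonempty)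
    (h : MinFail p 𝓦 G) (S : Sylow p G) (M : Subgroup G)
    (hM : M = Subgroup.normalizer
      ((TT 𝓦 (S : Subgroup G) ⊓ Cfsg.pCore p G : Subgroup G) : Set G)) :
    ⁅Cfsg.pCore p G, M⁆ ≤ Cfsg.pCore p G ⊓ ⁅M, M⁆ ∧
      Cfsg.pCore p G ⊓ ⁅M, M⁆ ≤ Cfsg.pCore p G ⊓ TT 𝓦 (S : Subgroup G) := by
  have hPn : (Cfsg.pCore p G).Normal := pCore_normal'
  have hSM : (S : Subgroup G) ≤ M := hM ▸ sylow_le_M h𝓦 hne S
  have hPM : Cfsg.pCore p G ≤ M := (pCore_le_sylow S).trans hSM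
  have hMne : M ≠ ⊤ := hM ▸ h.M_ne_top h𝓦 hne S
  refine ⟨le_inf (Subgroup.commutator_le_left _ _) (Subgroup.commutator_mono hPM le_rfl), ?_⟩
  have h1 := FCT.le_DD h𝓦 M (h.sub M hMne) S hSM
  exact le_inf inf_le_left (le_trans (inf_le_inf_right _ (pCore_le_sylow S)) h1)


/-- a chief factor `N/N₁` with `N` a `p`-group has exponent `p` -/
theorem chief_exponent {N N₁ : Subgroup G} (hch : Cfsg.IsChiefFactor N N₁) (hNp : IsPGroup p N) :
    ∀ a ∈ N, a ^ p ∈ N₁ := by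
  obtain ⟨hlt, hNn, hN₁n, hmax⟩ := hch
  -- `N' ≤ N₁`
  have hcomm : ⁅N, N⁆ ≤ N₁ := by
    have hnil : Group.IsNilpotent N := hNp.isNilpotent
    exact Cfsg.Agent.S3766.chief_centralized (K := N) (U := N) (V := N₁)
      ((Subgroup.isNilpotent_iff_lowerCentralSeries N).1 hnil) ⟨hNn, hN₁n, hlt, hmax⟩
  set π := QuotientGroup.mk' N₁ with hπ
  have hcm : ∀ a ∈ N, ∀ b ∈ N, Commute (π a) (π b) := by
    intro a ha b hb
    have h1 : π (a * b * a⁻¹ * b⁻¹) = 1 := by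
      rw [QuotientGroup.mk'_apply, QuotientGroup.eq_one_iff]
      have := hcomm (Subgroup.commutator_mem_commutator ha hb)
      rwa [commutatorElement_def] at this
    rw [map_mul, map_mul, map_mul, map_inv, map_inv] at h1
    have h2 := congrArg (fun z => z * π b * π a) h1
    simp only [inv_mul_cancel_right, one_mul] at h2
    exact h2
  have hmem : ∀ z : G, z ∈ N₁ ↔ π z = 1 := fun z => by
    rw [hπ, QuotientGroup.mk'_apply, QuotientGroup.eq_one_iff]
  let L : Subgroup G :=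
    { carrier := {a | a ∈ N ∧ a ^ p ∈ N₁}
      one_mem' := ⟨N.one_mem, by rw [one_pow]; exact N₁.one_mem⟩
      mul_mem' := by
        rintro a b ⟨ha, hap⟩ ⟨hb, hbp⟩
        refine ⟨N.mul_mem ha hb, ?_⟩
        rw [hmem, map_pow, map_mul, (hcm a ha b hb).mul_pow, ← map_pow, ← map_pow,
          (hmem _).mp hap, (hmem _).mp hbp, one_mul]
      inv_mem' := by
        rintro a ⟨ha, hap⟩
        refine ⟨N.inv_mem ha, ?_⟩
        rw [inv_pow]
        exact N₁.inv_mem hap }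
  have hLn : L.Normal := by
    constructor
    rintro a ⟨ha, hap⟩ g
    refine ⟨hNn.conj_mem a ha g, ?_⟩
    rw [conj_pow]
    exact hN₁n.conj_mem _ hap g
  have hN₁L : N₁ ≤ L := fun a ha => ⟨hlt.le ha, N₁.pow_mem ha p⟩
  have hLN : L ≤ N := fun a ha => ha.1
  rcases hmax L hLn hN₁L hLN with h1 | h1
  · exfalso
    obtain ⟨a, haN, haN₁⟩ := SetLike.exists_of_lt hlt
    classical
    have hex : ∃ k : ℕ, a ^ p ^ k ∈ N₁ := by
      obtain ⟨e, he⟩ := hNp ⟨a, haN⟩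
      refine ⟨e, ?_⟩
      have : a ^ p ^ e = 1 := by
        have := congrArg Subtype.val he
        simpa using this
      rw [this]
      exact N₁.one_mem
    have hk := Nat.find_spec hex
    have hkmin := fun j (hj : j < Nat.find hex) => Nat.find_min hex hj
    set k := Nat.find hex with hkdef
    have hk0 : k ≠ 0 := by
      intro h0
      rw [h0, pow_zero, pow_one] at hk
      exact haN₁ hk
    have hbL : a ^ p ^ (k - 1) ∈ L := by
      refine ⟨N.pow_mem haN _, ?_⟩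
      rw [← pow_mul, ← pow_succ, Nat.sub_add_cancel (Nat.pos_of_ne_zero hk0)]
      exact hk
    rw [h1] at hbL
    exact hkmin (k - 1) (by omega) hbL
  · intro a ha
    have : a ∈ L := h1 ▸ ha
    exact this.2

/-- (d): in a minimal failure, every `u ∈ S ∖ O_p(G)` has `[U, u; p-1] ≰ V` for some chief factor
`U/V` of `G` below `O_p(G)` -/
theorem MinFail.exists_chief (h𝓦 : ∀ W ∈ 𝓦, Cfsg.IsCharPFunctor.{u} p W) (hne : 𝓦.Nonempty)
    (h : MinFail p 𝓦 G) (S : Sylow p G) {u : G} (huS : u ∈ (S : Subgroup G))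
    (huP : u ∉ Cfsg.pCore p G) :
    ∃ U V : Subgroup G, Cfsg.IsChiefFactor U V ∧ U ≤ Cfsg.pCore p G ∧
      ¬ Cfsg.iterCommutator U (Subgroup.zpowers u) (p - 1) ≤ V := by
  by_contra hcon
  push Not at hcon
  apply h.false_of_core_le h𝓦 S
  have hPn : (Cfsg.pCore p G).Normal := pCore_normal'
  have hPp : IsPGroup p (Cfsg.pCore p G) := Cfsg.Agent.Lib.Helper76_PSolvable.pCore_isPGroup p
  obtain ⟨M, hMdef⟩ : ∃ M, M = Subgroup.normalizer
      ((TT 𝓦 (S : Subgroup G) ⊓ Cfsg.pCore p G : Subgroup G) : Set G) := ⟨_, rfl⟩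
  have hSM : (S : Subgroup G) ≤ M := hMdef ▸ sylow_le_M h𝓦 hne S
  have hPM : Cfsg.pCore p G ≤ M := (pCore_le_sylow S).trans hSM
  have hcM := h.commutator_M h𝓦 hne S M hMdef
  -- the weak closure of `u` in `S`
  set 𝒞 : Set G := {c | c ∈ (S : Subgroup G) ∧ ∃ g : G, c = g * u * g⁻¹} with h𝒞
  set D := Subgroup.closure 𝒞 with hD
  have hDS : D ≤ (S : Subgroup G) := (Subgroup.closure_le _).mpr (fun c hc => hc.1)
  have hDM : D ≤ M := hDS.trans hSM
  have hDp : IsPGroup p D := S.2.to_le hDS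
  have huD : u ∈ D := Subgroup.subset_closure ⟨huS, 1, by simp⟩
  -- conjugates of `D` inside `S` are equal to `D`
  have hweak : ∀ k : G, cj k D ≤ (S : Subgroup G) → cj k D = D := by
    intro k hk
    apply Subgroup.eq_of_le_of_card_ge
    · rw [hD, cj_closure, Subgroup.closure_le]
      rintro _ ⟨c, hc, rfl⟩
      apply Subgroup.subset_closure
      refine ⟨hk (conj_mem_cj (Subgroup.subset_closure hc)), ?_⟩
      obtain ⟨g, rfl⟩ := hc.2
      exact ⟨k * g, by group⟩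
    · rw [card_cj]
  have hSND : (S : Subgroup G) ≤ Subgroup.normalizer (D : Set G) := by
    intro s hs
    rw [mem_normalizer_iff_cj]
    apply hweak
    intro x hx
    rw [mem_cj] at hx
    have e : x = s * (s⁻¹ * x * s) * s⁻¹ := by group
    rw [e]
    exact Subgroup.mul_mem _ (Subgroup.mul_mem _ hs (hDS hx)) (Subgroup.inv_mem _ hs)
  have hNDne : Subgroup.normalizer (D : Set G) ≠ ⊤ := by
    intro htop
    have hDn : D.Normal := Subgroup.normalizer_eq_top_iff.mp htop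
    exact huP (Cfsg.Agent.Lib.Helper76_PSolvable.le_pCore p D hDp huD)
  have hNDM : Subgroup.normalizer (D : Set G) ≤ M := hMdef ▸ h.le_M h𝓦 S hSND hNDne
  have hfix : ∀ g : G, (∀ d ∈ D, g⁻¹ * d * g ∈ M) → g ∈ M := by
    intro g hg
    have h1 : cj g⁻¹ D ≤ M := by
      intro x hx
      rw [mem_cj, inv_inv] at hx
      have e : x = g⁻¹ * (g * x * g⁻¹) * g := by group
      rw [e]
      exact hg _ hx
    have hidx : ¬ p ∣ (S : Subgroup G).relIndex M := by
      intro hdvd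
      exact S.not_dvd_index (hdvd.trans (Subgroup.relIndex_dvd_index_of_le hSM))
    obtain ⟨w, hw, hwS⟩ := exists_cj_le_of_relIndex (p := p) hSM S.2 hidx h1 (isPGroup_cj hDp)
    rw [← cj_mul] at hwS
    have h2 : w * g⁻¹ ∈ M := hNDM (mem_normalizer_iff_cj.mpr (hweak _ hwS))
    have e : g = (w * g⁻¹)⁻¹ * w := by group
    rw [e]
    exact M.mul_mem (M.inv_mem h2) hw
  have hiter : ∀ N N₁ : Subgroup G, Cfsg.IsChiefFactor N N₁ → N ≤ Cfsg.pCore p G →
      ∀ c ∈ 𝒞, Cfsg.iterCommutator N (Subgroup.zpowers c) (p - 1) ≤ N₁ := by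
    intro N N₁ hch hNP c hc
    obtain ⟨g, rfl⟩ := hc.2
    have hNn : N.Normal := hch.2.1
    have hN₁n : N₁.Normal := hch.2.2.1
    have h1 := Cfsg.Agent.Lib.Helper72_WCEngel.map_iterCommutator (MulAut.conj g).toMonoidHom N
      (Subgroup.zpowers u) (p - 1)
    have h2 : N.map (MulAut.conj g).toMonoidHom = N := cj_eq_of_normal g N
    have h3 : (Subgroup.zpowers u).map (MulAut.conj g).toMonoidHom =
        Subgroup.zpowers (g * u * g⁻¹) := by
      rw [MonoidHom.map_zpowers]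
      rfl
    rw [h2, h3] at h1
    rw [← h1]
    have h4 : (Cfsg.iterCommutator N (Subgroup.zpowers u) (p - 1)).map
        (MulAut.conj g).toMonoidHom ≤ N₁.map (MulAut.conj g).toMonoidHom :=
      Subgroup.map_mono (hcon N N₁ hch hNP)
    have h5 : N₁.map (MulAut.conj g).toMonoidHom = N₁ := cj_eq_of_normal g N₁
    rwa [h5] at h4
  -- the induction along a chief series
  have Q : ∀ n : ℕ, ∀ N : Subgroup G, N.Normal → N ≤ Cfsg.pCore p G → Nat.card N = n →
      Cfsg.pCore p G ⊓ ⁅(⊤ : Subgroup G), ⊤⁆ ≤ (Cfsg.pCore p G ⊓ ⁅M, M⁆) ⊔ N →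
      Cfsg.pCore p G ⊓ ⁅(⊤ : Subgroup G), ⊤⁆ ≤ Cfsg.pCore p G ⊓ ⁅M, M⁆ := by
    intro n
    induction n using Nat.strong_induction_on with
    | _ n ih =>
    intro N hNn hNP hcard hle
    by_cases hNbot : N = ⊥
    · rwa [hNbot, sup_bot_eq] at hle
    -- a maximal normal subgroup below `N`
    obtain ⟨N₁, ⟨hN₁n, hN₁lt⟩, hN₁max⟩ := wellFounded_gt.has_min
      {K : Subgroup G | K.Normal ∧ K < N} ⟨⊥, Subgroup.normal_bot, bot_lt_iff_ne_bot.mpr hNbot⟩
    have hch : Cfsg.IsChiefFactor N N₁ := by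
      refine ⟨hN₁lt, hNn, hN₁n, fun L hLn h1 h2 => ?_⟩
      by_cases hLN : L = N
      · exact Or.inr hLN
      · left
        have hLlt : L < N := lt_of_le_of_ne h2 hLN
        have := hN₁max L ⟨hLn, hLlt⟩
        exact (eq_of_le_of_not_lt h1 this).symm
    have hNM : N ≤ M := hNP.trans hPM
    have hN₁P : N₁ ≤ Cfsg.pCore p G := hN₁lt.le.trans hNP
    have hpow := chief_exponent hch (hPp.to_le hNP)
    refine ih (Nat.card N₁) (hcard ▸ card_lt_of_lt hN₁lt) N₁ hN₁n hN₁P rfl ?_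
    intro y hy
    obtain ⟨m, hm, x, hx, rfl⟩ := Subgroup.mem_sup_of_normal_right.mp (hle hy)
    have hxG : x ∈ ⁅(⊤ : Subgroup G), (⊤ : Subgroup G)⁆ := by
      have e : x = m⁻¹ * (m * x) := by group
      rw [e]
      have hmG : m ∈ ⁅(⊤ : Subgroup G), (⊤ : Subgroup G)⁆ :=
        Subgroup.commutator_mono (le_top : M ≤ ⊤) (le_top : M ≤ ⊤) hm.2
      exact Subgroup.mul_mem _ (Subgroup.inv_mem _ hmG) hy.2
    -- the transfer into `M / M'`
    have ht := transfer_div_mem (Abelianization.of : M →* Abelianization M) N N₁ hNM hpow 𝒞 D hD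
      hDp hDM hfix (hiter N N₁ hch hNP) ⟨x, hx⟩
    have ht1 : MonoidHom.transfer (Abelianization.of : M →* Abelianization M) x = 1 := by
      have := Abelianization.commutator_subset_ker
        (MonoidHom.transfer (Abelianization.of : M →* Abelianization M))
      exact this (by rw [commutator_def]; exact hxG)
    rw [ht1, one_mul] at ht
    obtain ⟨z, hz, hzx⟩ := ht
    have hz' : (z : G) ∈ N₁ := hz
    have hker : (⟨x, hNM hx⟩ : M) * z ∈ (Abelianization.of : M →* Abelianization M).ker := by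
      rw [MonoidHom.mem_ker, map_mul, hzx, mul_inv_cancel]
    rw [Abelianization.ker_of] at hker
    have hxz : x * (z : G) ∈ ⁅M, M⁆ := by
      rw [← Subgroup.map_subtype_commutator]
      exact ⟨_, hker, rfl⟩
    refine Subgroup.mem_sup_of_normal_right.mpr ⟨m * (x * z), ?_, (z : G)⁻¹, N₁.inv_mem hz', by group⟩
    exact Subgroup.mul_mem _ hm ⟨Subgroup.mul_mem _ (hNP hx) (hN₁P hz'), hxz⟩
  have hfinal := Q (Nat.card (Cfsg.pCore p G)) (Cfsg.pCore p G) hPn le_rfl rfl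
    (le_trans inf_le_left le_sup_right)
  exact hfinal.trans (hcM.2.trans inf_le_right)

end Cfsg.Agent.Lib.Helper54_MinFail
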