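import Mathlib
import Cfsg.Agent.S1984
import Cfsg.Agent.Lib.Helper21_PP3

/-!
Sylow data from transfer control by the lower K-infinity subgroup (helper21).
-/

set_option autoImplicit false

universe u

namespace Cfsg.Agent.Lib.Helper21_PP4

open Subgroup Cfsg
open scoped commutatorElement

theorem pow_eq_of_mul_eq {p a k r m : ℕ} (hp : p.Prime) (hr : r.Coprime p) (hm : m.Coprime p)
    (h : p ^ a * r = m * p ^ k) : a = k ∧ r = m := by
  have h1 : p ^ a ∣ p ^ k := by
    have : p ^ a ∣ m * p ^ k := ⟨r, h.symm⟩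
    exact (Nat.Coprime.pow_left a hm.symm).dvd_of_dvd_mul_left this
  have h2 : p ^ k ∣ p ^ a := by
    have : p ^ k ∣ p ^ a * r := ⟨m, by rw [h, mul_comm]⟩
    exact (Nat.Coprime.pow_left k hr.symm).dvd_of_dvd_mul_right this
  have h3 : a ≤ k := (Nat.pow_dvd_pow_iff_le_right hp.one_lt).mp h1
  have h4 : k ≤ a := (Nat.pow_dvd_pow_iff_le_right hp.one_lt).mp h2
  have hak : a = k := le_antisymm h3 h4
  subst hak
  refine ⟨rfl, ?_⟩
  rw [mul_comm m] at h
  exact Nat.eq_of_mul_eq_mul_left (pow_pos hp.pos a) h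

theorem exists_sylow_data {G : Type u} [Group G] [Finite G] (p : ℕ) [Fact p.Prime] (hp5 : 5 ≤ p)
    (hab : ∀ H : Subgroup G, (Nat.card H).Coprime p → ∀ a ∈ H, ∀ b ∈ H, a * b = b * a)
    (hperf : ⁅(⊤ : Subgroup G), (⊤ : Subgroup G)⁆ = ⊤)
    (hsimple : ∀ N : Subgroup G, N.Normal → N = ⊥ ∨ N = ⊤)
    (hsolv : ∀ H : Subgroup G, H ≠ ⊤ → Group.IsSolvable H)
    (hpdvd : p ∣ Nat.card G) (hnp : ¬ IsPGroup p G) :
    ∃ P K : Subgroup G, IsPGroup p P ∧ ¬ p ∣ P.index ∧ K ≤ normalizer (P : Set G) ∧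
      Nat.card (normalizer (P : Set G)) = Nat.card P * Nat.card K ∧ (Nat.card K).Coprime p ∧
      P ≤ ⁅normalizer (P : Set G), normalizer (P : Set G)⁆ := by
  classical
  have hp := (Fact.out : p.Prime)
  obtain ⟨T, -, hTp, hTi, hEq⟩ := Cfsg.Agent.S1984.result (G := G) (p := p) hp5
  rw [Subgroup.relIndex_top_right] at hTi
  set W := Cfsg.inducedFunctor (G := G) Cfsg.kInfLower with hW
  have hconj : Cfsg.IsConjugacyFunctor p W :=
    Helper54_KInf.isConjugacyFunctor_induced _ (Helper54_KInf.isCharPFunctor_kInfLower p)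
  obtain ⟨hWle, hWne, hWconj⟩ := hconj T hTp
  have hTne : T ≠ ⊥ := by
    intro h
    rw [h, Subgroup.index_bot] at hTi
    exact hTi hpdvd
  have hWT : W T ≠ ⊥ := hWne hTne
  set N := normalizer ((W T : Subgroup G) : Set G) with hN
  have hNT : normalizer (T : Set G) ≤ N := by
    intro g hg
    rw [Helper24_CoprimeAction.mem_normalizer_iff_map_conj] at hg
    rw [hN, Helper24_CoprimeAction.mem_normalizer_iff_map_conj, ← hWconj g, hg]
  have hTN : T ≤ N := le_normalizer.trans hNT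
  have hNtop : N ≠ ⊤ := by
    intro h
    have hn : (W T).Normal := normalizer_eq_top_iff.mp h
    rcases hsimple _ hn with h1 | h1
    · exact hWT h1
    · apply hnp
      have hT : T = ⊤ := top_le_iff.mp (h1 ▸ hWle)
      rw [hT] at hTp
      intro g
      obtain ⟨k, hk⟩ := hTp ⟨g, Subgroup.mem_top g⟩
      exact ⟨k, by simpa using congrArg Subtype.val hk⟩
  have hNsolv : Group.IsSolvable N := hsolv N hNtop
  have hTder : T ≤ ⁅N, N⁆ := by
    rw [hperf, top_inf_eq, inf_top_eq] at hEq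
    rw [hEq]; exact inf_le_right
  -- Hall p'-subgroup of N
  obtain ⟨A, hA⟩ := Helper24_CoprimeHall.exists_piHall {q | q ≠ p} N hNsolv
  have hAN : A ≤ N := hA.1
  have hAp : (Nat.card A).Coprime p := by
    apply Nat.Coprime.symm
    rw [Nat.Prime.coprime_iff_not_dvd hp]
    intro hpA
    exact hA.2.1 p hp hpA rfl
  have hAc := hab A hAp
  have hAi : ∃ k, A.relIndex N = p ^ k := by
    rw [Helper24_CoprimeHall.relIndex_eq_div hAN]
    have hne : Nat.card N / Nat.card A ≠ 0 :=
      (Nat.div_pos (Nat.le_of_dvd Nat.card_pos (Subgroup.card_dvd_of_le hAN)) Nat.card_pos).ne'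
    refine ⟨_, Nat.eq_prime_pow_of_unique_prime_dvd hne ?_⟩
    intro d hd hdvd
    by_contra hdp
    exact hA.2.2 d hd hdp hdvd
  obtain ⟨hconjL, -⟩ := Helper21_PP2.hall_main p A N hAN hNsolv hAc hAp hAi
  set R := Helper21_PP2.Op p N with hR
  set L := A ⊔ R with hL
  have hLN : L ≤ N := sup_le hAN (Helper21_PP2.Op_le p N)
  have hNL : N ≤ normalizer (L : Set G) := fun g hg =>
    Helper21_PP3.mem_normalizer_of_conj_mem L g (hconjL g hg)
  have hLi : ∃ j, L.relIndex N = p ^ j := by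
    obtain ⟨k, hk⟩ := hAi
    have h1 : L.relIndex N ∣ A.relIndex N := Subgroup.relIndex_dvd_of_le_left N le_sup_left
    rw [hk] at h1
    obtain ⟨j, -, hj⟩ := (Nat.dvd_prime_pow hp).mp h1
    exact ⟨j, hj⟩
  have hTrel : ¬ p ∣ T.relIndex N := by
    intro h
    apply hTi
    rw [← Subgroup.relIndex_mul_index hTN]
    exact dvd_mul_of_dvd_left h _
  have hNTL : N ≤ T ⊔ L := by
    rw [← Subgroup.relIndex_eq_one]
    have h1 : (T ⊔ L).relIndex N ∣ T.relIndex N := Subgroup.relIndex_dvd_of_le_left N le_sup_left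
    have h2 : (T ⊔ L).relIndex N ∣ A.relIndex N :=
      Subgroup.relIndex_dvd_of_le_left N (le_sup_left.trans le_sup_right)
    obtain ⟨k, hk⟩ := hAi
    rw [hk] at h2
    obtain ⟨j, -, hj⟩ := (Nat.dvd_prime_pow hp).mp h2
    rcases Nat.eq_zero_or_pos j with h0 | h0
    · rw [hj, h0, pow_zero]
    · exfalso
      apply hTrel
      refine dvd_trans ?_ h1
      rw [hj]
      exact dvd_pow_self p h0.ne'
  have hNleL : N ≤ L := Helper21_PP3.le_of_le_commutator p N L T hLN hNL hLi hTN hNTL hTder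
  have hTR : T ≤ R := by
    intro x hx
    obtain ⟨k, hk⟩ := hTp ⟨x, hx⟩
    have hk' : x ^ p ^ k = 1 := by simpa using congrArg Subtype.val hk
    exact Helper21_PP2.mem_Op_of_pElement p A N hAN hAp x (hNleL (hTN hx)) k hk'
  have hRp : IsPGroup p R := Helper21_PP2.Op_isPGroup p N
  have hRT : R = T := by
    symm
    apply Subgroup.eq_of_le_of_card_ge hTR
    obtain ⟨a, ha⟩ := IsPGroup.iff_card.mp hTp
    obtain ⟨b, hb⟩ := IsPGroup.iff_card.mp hRp
    have h1 : p ^ b ∣ p ^ a * T.index := by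
      rw [← hb, ← ha, mul_comm, Subgroup.index_mul_card]
      exact Subgroup.card_subgroup_dvd_card R
    have h2 : p ^ b ∣ p ^ a := by
      apply Nat.Coprime.dvd_of_dvd_mul_right _ h1
      apply Nat.Coprime.pow_left
      exact (Nat.Prime.coprime_iff_not_dvd hp).mpr hTi
    rw [hb, ha]
    exact Nat.le_of_dvd (pow_pos hp.pos a) h2
  have hNnormT : N ≤ normalizer (T : Set G) := by
    rw [← hRT]; exact Helper21_PP2.le_normalizer_Op p N
  have hNeq : normalizer (T : Set G) = N := le_antisymm hNT hNnormT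
  -- complement
  haveI : (T.subgroupOf N).Normal :=
    (Subgroup.normal_subgroupOf_iff_le_normalizer hTN).mpr hNnormT
  have hcop : Nat.Coprime (Nat.card (T.subgroupOf N)) (T.subgroupOf N).index := by
    rw [Helper24_CoprimeAction.card_subgroupOf_of_le hTN]
    obtain ⟨a, ha⟩ := IsPGroup.iff_card.mp hTp
    rw [ha]
    apply Nat.Coprime.pow_left
    exact (Nat.Prime.coprime_iff_not_dvd hp).mpr hTrel
  obtain ⟨K', hK'⟩ := Subgroup.exists_right_complement'_of_coprime hcop
  have hcardK' : Nat.card K' = (T.subgroupOf N).index := by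
    have := hK'.symm.index_eq_card
    exact this.symm
  refine ⟨T, K'.map N.subtype, hTp, hTi, ?_, ?_, ?_, ?_⟩
  · rw [hNeq]; exact Subgroup.map_subtype_le K'
  · rw [hNeq, Subgroup.card_map_of_injective N.subtype_injective,
      ← Helper24_CoprimeAction.card_subgroupOf_of_le hTN]
    exact hK'.card_mul_card.symm
  · rw [Subgroup.card_map_of_injective N.subtype_injective, hcardK']
    apply Nat.Coprime.symm
    exact (Nat.Prime.coprime_iff_not_dvd hp).mpr hTrel
  · rw [hNeq]; exact hTder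

end Cfsg.Agent.Lib.Helper21_PP4
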