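import Mathlib
import Cfsg.Agent.Lib.Helper21_PP3
import Cfsg.Agent.Lib.Helper22_Basic
import Cfsg.Agent.Lib.Helper48_Generation

/-!
Abelian Sylow subgroups of perfect groups whose automizer is a `p`-group (helper21):
fixed-point counting and the transfer.
-/

set_option autoImplicit false

namespace Cfsg.Agent.Lib.Helper21_PP5

open Subgroup Cfsg MulAction
open scoped commutatorElement

variable {G : Type*} [Group G]

/-- Lemma F: fixed-point counting for an action through a `p`-group. -/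
theorem card_modEq_one_of_fix [Finite G] (p : ℕ) [Fact p.Prime] (N Y : Subgroup G)
    (hNY : N ≤ normalizer (Y : Set G))
    (hpp : ∀ g ∈ N, (orderOf g).Coprime p → ∀ y ∈ Y, g * y * g⁻¹ = y)
    (hfix : ∀ y ∈ Y, (∀ n ∈ N, n * y * n⁻¹ = y) → y = 1) : Nat.card Y ≡ 1 [MOD p] := by
  classical
  have hp := (Fact.out : p.Prime)
  set φ : ↥N →* MulAut ↥Y := (Helper48_Generation.normAut Y).comp (Subgroup.inclusion hNY) with hφ
  have hφapp : ∀ (g : N) (y : Y), ((φ g y : Y) : G) = g * y * (g : G)⁻¹ := fun g y => rfl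
  have hR : IsPGroup p φ.range := by
    rintro ⟨_, ⟨g, rfl⟩⟩
    set k := (orderOf (g : G)).factorization p with hk
    refine ⟨k, ?_⟩
    apply Subtype.ext
    show (φ g) ^ p ^ k = 1
    rw [← map_pow]
    ext y
    rw [hφapp]
    show ((g ^ p ^ k : N) : G) * y * ((g ^ p ^ k : N) : G)⁻¹ = ((1 : MulAut Y) y : Y)
    rw [MulAut.one_apply]
    apply hpp _ (N.pow_mem g.2 _) _ y y.2
    have ho : orderOf (g : G) ≠ 0 := (orderOf_pos (g : G)).ne'
    rw [orderOf_pow' _ (pow_pos hp.pos k).ne']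
    have hd : p ^ k ∣ orderOf (g : G) := Nat.ordProj_dvd _ p
    rw [Nat.gcd_eq_right hd]
    exact (Nat.coprime_ordCompl hp ho).symm
  have hmod := hR.card_modEq_card_fixedPoints ↥Y
  have hfp : Nat.card (fixedPoints φ.range ↥Y) = 1 := by
    rw [Nat.card_eq_one_iff_unique]
    refine ⟨⟨?_⟩, ⟨⟨1, fun r => by
      obtain ⟨_, ⟨g, rfl⟩⟩ := r
      show φ g 1 = 1
      exact map_one _⟩⟩⟩
    rintro ⟨a, ha⟩ ⟨b, hb⟩
    apply Subtype.ext
    show a = b
    have h1 : ∀ c : Y, c ∈ fixedPoints φ.range ↥Y → c = 1 := by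
      intro c hc
      apply Subtype.ext
      apply hfix c c.2
      intro n hn
      have := hc ⟨φ ⟨n, hn⟩, ⟨⟨n, hn⟩, rfl⟩⟩
      have h2 : φ ⟨n, hn⟩ c = c := this
      have h3 := congrArg Subtype.val h2
      rwa [hφapp] at h3
    rw [h1 a ha, h1 b hb]
  rw [hfp] at hmod
  exact hmod

/-- Lemma T: in a perfect group, an abelian Sylow subgroup has no nontrivial element central in its
normalizer. -/
theorem eq_one_of_central_in_normalizer [Finite G] (hperf : commutator G = ⊤) {q : ℕ}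
    [Fact q.Prime] (Q : Sylow q G) (hQc : ∀ a ∈ Q, ∀ b ∈ Q, a * b = b * a) (z : G) (hz : z ∈ Q)
    (hfix : ∀ n ∈ normalizer ((Q : Subgroup G) : Set G), n * z * n⁻¹ = z) : z = 1 := by
  classical
  haveI : IsMulCommutative (Q : Subgroup G) := ⟨⟨fun a b => Subtype.ext (hQc a a.2 b b.2)⟩⟩
  have key : ∀ (k : ℕ) (g₀ : G), g₀⁻¹ * z ^ k * g₀ ∈ (Q : Subgroup G) →
      g₀⁻¹ * z ^ k * g₀ = z ^ k := by
    intro k g₀ hk
    obtain ⟨n, hn, hn'⟩ := Q.conj_eq_normalizer_conj_of_mem (z ^ k) g₀ (Q.pow_mem hz k) hk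
    rw [hn']
    have h1 : n⁻¹ * z * n = z := by
      have := hfix n⁻¹ (inv_mem hn)
      simpa using this
    have h2 : n⁻¹ * z ^ k * n = (n⁻¹ * z * n) ^ k := by
      have := conj_pow (a := n⁻¹) (b := z) (i := k)
      simp only [inv_inv] at this
      exact this.symm
    rw [h2, h1]
  open scoped IsMulCommutative in
  have htr := MonoidHom.transfer_eq_pow (MonoidHom.id ↥(Q : Subgroup G)) z key
  open scoped IsMulCommutative in
  have htriv : MonoidHom.transfer (MonoidHom.id ↥(Q : Subgroup G)) z = 1 := by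
    have h := Abelianization.commutator_subset_ker
      (MonoidHom.transfer (MonoidHom.id ↥(Q : Subgroup G)))
    have hz' : z ∈ commutator G := by rw [hperf]; exact Subgroup.mem_top z
    exact h hz'
  rw [htriv] at htr
  have hpow : z ^ (Q : Subgroup G).index = 1 := by
    have := congrArg Subtype.val htr
    simpa using this.symm
  have h1 : orderOf z ∣ (Q : Subgroup G).index := orderOf_dvd_of_pow_eq_one hpow
  have h2 : orderOf z ∣ Nat.card (Q : Subgroup G) := by
    have : orderOf (⟨z, hz⟩ : (Q : Subgroup G)) ∣ Nat.card (Q : Subgroup G) := orderOf_dvd_natCard _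
    rwa [← Subgroup.orderOf_coe] at this
  have h3 : orderOf z ∣ 1 := by
    rw [← Q.card_coprime_index.gcd_eq_one]
    exact Nat.dvd_gcd h2 h1
  exact orderOf_eq_one_iff.mp (Nat.dvd_one.mp h3)

/-- A `p'`-element normalizing a `p'`-subgroup generates with it a `p'`-subgroup. -/
theorem coprime_card_sup_zpowers [Finite G] (p : ℕ) (Y : Subgroup G) (g : G)
    (hg : g ∈ normalizer (Y : Set G)) (hgp : (orderOf g).Coprime p)
    (hY : (Nat.card Y).Coprime p) : (Nat.card (Y ⊔ zpowers g : Subgroup G)).Coprime p := by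
  have h1 : Nat.card (Y ⊔ zpowers g : Subgroup G) ∣ Nat.card Y * Nat.card (zpowers g) :=
    Helper22_Basic.card_sup_dvd_of_le_normalizer Y (zpowers g) (by
      rw [Subgroup.zpowers_le]; exact hg)
  apply Nat.Coprime.coprime_dvd_left h1
  rw [Nat.card_zpowers]
  exact Nat.Coprime.mul_left hY hgp

end Cfsg.Agent.Lib.Helper21_PP5
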