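import Mathlib
import Cfsg.Agent.Lib.Helper21_PP2
import Cfsg.Agent.Lib.Helper1_FPF
import Cfsg.Agent.Lib.Helper22_Basic
import Cfsg.Agent.Lib.Helper48_Generation

/-!
Uniqueness of the maximal `A`-invariant `p`-subgroup (helper21), a transitivity-type argument:
`A` an abelian `p'`-subgroup which is a Hall subgroup of every proper overgroup, containing an
elementary abelian `q`-subgroup of order greater than `q²`.
-/

set_option autoImplicit false

namespace Cfsg.Agent.Lib.Helper21_PP6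

open Subgroup Cfsg

variable {G : Type*} [Group G]

/-- The `A`-invariant `p`-subgroups. -/
def Inv (p : ℕ) (A : Subgroup G) : Set (Subgroup G) :=
  {Y | IsPGroup p Y ∧ A ≤ normalizer (Y : Set G)}

/-- Maximal `A`-invariant `p`-subgroups. -/
def IsMaxInv (p : ℕ) (A R : Subgroup G) : Prop :=
  R ∈ Inv p A ∧ ∀ R' ∈ Inv p A, R ≤ R' → R' = R

theorem exists_max_ge [Finite G] (p : ℕ) (A : Subgroup G) {Y : Subgroup G} (hY : Y ∈ Inv p A) :
    ∃ R, IsMaxInv p A R ∧ Y ≤ R := by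
  obtain ⟨R, hRS, hmax⟩ := Set.exists_max_image {R : Subgroup G | R ∈ Inv p A ∧ Y ≤ R}
    (fun R => Nat.card R) (Set.toFinite _) ⟨Y, hY, le_rfl⟩
  refine ⟨R, ⟨hRS.1, ?_⟩, hRS.2⟩
  intro R' hR' hle
  have h1 : Nat.card R' ≤ Nat.card R := hmax R' ⟨hR', hRS.2.trans hle⟩
  exact (Subgroup.eq_of_le_of_card_ge hle h1).symm

theorem bot_mem_Inv (p : ℕ) (A : Subgroup G) : (⊥ : Subgroup G) ∈ Inv p A := by
  refine ⟨IsPGroup.of_bot, ?_⟩
  intro a _
  rw [Subgroup.mem_normalizer_iff]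
  intro x
  simp only [Subgroup.mem_bot]
  constructor
  · rintro rfl; group
  · intro h
    have : x = a⁻¹ * (a * x * a⁻¹) * a := by group
    rw [this, h]; group

theorem normalizer_inf_le (R₁ R₂ : Subgroup G) :
    normalizer (R₁ : Set G) ⊓ normalizer (R₂ : Set G) ≤ normalizer ((R₁ ⊓ R₂ : Subgroup G) : Set G) := by
  intro g hg
  obtain ⟨h1, h2⟩ := Subgroup.mem_inf.mp hg
  rw [Subgroup.mem_normalizer_iff] at h1 h2 ⊢
  intro x
  rw [Subgroup.mem_inf, Subgroup.mem_inf, h1 x, h2 x]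

/-- normalizers grow in `p`-groups -/
theorem normalizer_growth [Finite G] {q : ℕ} [Fact q.Prime] {Q D : Subgroup G} (hQ : IsPGroup q Q)
    (hDQ : D ≤ Q) (hne : ¬ Q ≤ D) : ¬ (Q ⊓ normalizer (D : Set G) ≤ D) := by
  intro hle
  have hnil : Group.IsNilpotent ↥Q := hQ.isNilpotent
  have hlt : D.subgroupOf Q < ⊤ := by
    rw [lt_top_iff_ne_top, Ne, Subgroup.subgroupOf_eq_top]
    exact hne
  have hlt2 := Group.normalizerCondition_of_isNilpotent (D.subgroupOf Q) hlt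
  obtain ⟨x, hxN, hxD⟩ := SetLike.exists_of_lt hlt2
  apply hxD
  rw [Subgroup.mem_subgroupOf]
  apply hle
  refine Subgroup.mem_inf.mpr ⟨x.2, ?_⟩
  rw [Subgroup.mem_normalizer_iff] at hxN ⊢
  intro h
  constructor
  · intro hh
    have := (hxN ⟨h, hDQ hh⟩).mp (by rw [Subgroup.mem_subgroupOf]; exact hh)
    rw [Subgroup.mem_subgroupOf] at this
    exact this
  · intro hh
    have hhQ : h ∈ Q := by
      have h1 : (x : G)⁻¹ * ((x : G) * h * (x : G)⁻¹) * (x : G) ∈ Q :=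
        mul_mem (mul_mem (inv_mem x.2) (hDQ hh)) x.2
      have h2 : (x : G)⁻¹ * ((x : G) * h * (x : G)⁻¹) * (x : G) = h := by group
      rwa [h2] at h1
    have := (hxN ⟨h, hhQ⟩).mpr (by rw [Subgroup.mem_subgroupOf]; exact hh)
    rw [Subgroup.mem_subgroupOf] at this
    exact this

/-- The standing hypotheses. -/
structure Ctx (p : ℕ) (A : Subgroup G) : Prop where
  ab : ∀ a ∈ A, ∀ b ∈ A, a * b = b * a
  ctrl : ∀ H : Subgroup G, A ≤ H → H ≠ ⊤ → ∀ Y : Subgroup G, Y ≤ H → IsPGroup p Y →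
    A ≤ normalizer (Y : Set G) → Y ≤ Helper21_PP2.Op p H
  norm_ne_top : ∀ D : Subgroup G, D ≠ ⊥ → IsPGroup p D → normalizer (D : Set G) ≠ ⊤
  cent_ne_top : ∀ a : G, a ≠ 1 → centralizer ({a} : Set G) ≠ ⊤

/-- `A` normalizes the centralizer of any subset of `A`. -/
theorem le_normalizer_centralizer {A : Subgroup G} (hab : ∀ a ∈ A, ∀ b ∈ A, a * b = b * a)
    (S : Set G) (hS : S ⊆ A) : A ≤ normalizer ((centralizer S : Subgroup G) : Set G) := by
  intro a ha
  have key : ∀ g ∈ A, ∀ x ∈ centralizer S, g * x * g⁻¹ ∈ centralizer S := by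
    intro g hg x hx
    rw [Subgroup.mem_centralizer_iff] at hx ⊢
    intro s hs
    have h1 : g * s = s * g := hab g hg s (hS hs)
    have h2 : g⁻¹ * s = s * g⁻¹ := hab g⁻¹ (A.inv_mem hg) s (hS hs)
    have h3 := hx s hs
    calc s * (g * x * g⁻¹) = (s * g) * x * g⁻¹ := by group
      _ = g * (s * x) * g⁻¹ := by rw [← h1]; group
      _ = g * (x * s) * g⁻¹ := by rw [h3]
      _ = g * x * (s * g⁻¹) := by group
      _ = g * x * (g⁻¹ * s) := by rw [h2]
      _ = g * x * g⁻¹ * s := by group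
  rw [Subgroup.mem_normalizer_iff]
  intro x
  constructor
  · exact key a ha x
  · intro h
    have := key a⁻¹ (A.inv_mem ha) _ h
    have h2 : a⁻¹ * (a * x * a⁻¹) * a⁻¹⁻¹ = x := by group
    rwa [h2] at this

theorem Op_mem_Inv [Finite G] (p : ℕ) [Fact p.Prime] {A H : Subgroup G} (hAH : A ≤ H) :
    Helper21_PP2.Op p H ∈ Inv p A :=
  ⟨Helper21_PP2.Op_isPGroup p H, hAH.trans (Helper21_PP2.le_normalizer_Op p H)⟩

/-- Distinct maximal invariant `p`-subgroups meet trivially. -/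
theorem ti_aux [Finite G] (p : ℕ) [Fact p.Prime] {A : Subgroup G} (hC : Ctx p A) :
    ∀ n : ℕ, ∀ R₁ R₂ : Subgroup G, IsMaxInv p A R₁ → IsMaxInv p A R₂ →
      Nat.card G - Nat.card (R₁ ⊓ R₂ : Subgroup G) = n → R₁ ⊓ R₂ ≠ ⊥ → R₁ = R₂ := by
  intro n
  induction n using Nat.strong_induction_on with
  | _ n ih =>
    intro R₁ R₂ h₁ h₂ hn hne
    by_contra hR
    set D := R₁ ⊓ R₂ with hD
    have hDp : IsPGroup p D := h₁.1.1.to_le inf_le_left
    set N := normalizer (D : Set G) with hN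
    have hNtop : N ≠ ⊤ := hC.norm_ne_top D hne hDp
    have hAN : A ≤ N := (le_inf h₁.1.2 h₂.1.2).trans (normalizer_inf_le R₁ R₂)
    have hO := Op_mem_Inv p hAN
    obtain ⟨R₃, h₃, hOR₃⟩ := exists_max_ge p A hO
    have hnot₁ : ¬ R₁ ≤ D := by
      intro h
      exact hR (h₁.2 R₂ h₂.1 (h.trans inf_le_right)).symm
    have hnot₂ : ¬ R₂ ≤ D := by
      intro h
      exact hR (h₂.2 R₁ h₁.1 (h.trans inf_le_left))
    have step : ∀ R : Subgroup G, IsMaxInv p A R → D ≤ R → ¬ R ≤ D → R₃ = R := by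
      intro R hRm hDR hnot
      have hY : R ⊓ N ≤ Helper21_PP2.Op p N := by
        apply hC.ctrl N hAN hNtop (R ⊓ N) inf_le_right (hRm.1.1.to_le inf_le_left)
        exact (le_inf hRm.1.2 (hAN.trans le_normalizer)).trans (normalizer_inf_le R N)
      have hYR₃ : R ⊓ N ≤ R₃ ⊓ R := le_inf (hY.trans hOR₃) inf_le_left
      have hgrow := normalizer_growth hRm.1.1 hDR hnot
      have hDle : D ≤ R ⊓ N := le_inf hDR le_normalizer
      have hlt : Nat.card D < Nat.card (R₃ ⊓ R : Subgroup G) := by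
        by_contra hle
        rw [not_lt] at hle
        have h1 : Nat.card (R ⊓ N : Subgroup G) ≤ Nat.card D :=
          (Nat.le_of_dvd Nat.card_pos (Subgroup.card_dvd_of_le hYR₃)).trans hle
        have h2 := Subgroup.eq_of_le_of_card_ge hDle h1
        exact hgrow h2.ge
      have hne3 : R₃ ⊓ R ≠ ⊥ := by
        intro h
        rw [h, Subgroup.card_bot] at hlt
        have := Nat.card_pos (α := D)
        omega
      have hcard : Nat.card (R₃ ⊓ R : Subgroup G) ≤ Nat.card G := Subgroup.card_le_card_group _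
      exact ih (Nat.card G - Nat.card (R₃ ⊓ R : Subgroup G)) (by omega) R₃ R h₃ hRm rfl hne3
    have e₁ := step R₁ h₁ inf_le_left hnot₁
    have e₂ := step R₂ h₂ inf_le_right hnot₂
    exact hR (e₁.symm.trans e₂)

theorem ti [Finite G] (p : ℕ) [Fact p.Prime] {A : Subgroup G} (hC : Ctx p A)
    {R₁ R₂ : Subgroup G} (h₁ : IsMaxInv p A R₁) (h₂ : IsMaxInv p A R₂) (hne : R₁ ⊓ R₂ ≠ ⊥) :
    R₁ = R₂ :=
  ti_aux p hC _ R₁ R₂ h₁ h₂ rfl hne

end Cfsg.Agent.Lib.Helper21_PP6
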