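import Mathlib
import Cfsg.Agent.Lib.Helper21_PP6

/-!
Uniqueness of the maximal `A`-invariant `p`-subgroup, second part (helper21).
-/

set_option autoImplicit false

namespace Cfsg.Agent.Lib.Helper21_PP7

open Subgroup Cfsg Cfsg.Agent.Lib.Helper21_PP6

variable {G : Type*} [Group G]

theorem mem_centralizer_sup_zpowers {B : Subgroup G} {x y : G}
    (hyB : y ∈ centralizer (B : Set G)) (hyx : y ∈ centralizer ({x} : Set G)) :
    y ∈ centralizer ((B ⊔ zpowers x : Subgroup G) : Set G) := by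
  have h1 : B ⊔ zpowers x ≤ centralizer ({y} : Set G) := by
    refine sup_le ?_ ?_
    · intro b hb
      rw [Subgroup.mem_centralizer_singleton_iff]
      exact Subgroup.mem_centralizer_iff.mp hyB b hb
    · rw [Subgroup.zpowers_le, Subgroup.mem_centralizer_singleton_iff]
      exact Subgroup.mem_centralizer_iff.mp hyx x rfl
  rw [Subgroup.mem_centralizer_iff]
  intro h hh
  exact Subgroup.mem_centralizer_singleton_iff.mp (h1 hh)

theorem card_sup_zpowers_le [Finite G] {q : ℕ} (B : Subgroup G) (a : G) (haq : a ^ q = 1)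
    (hq : 0 < q) (hcent : a ∈ centralizer (B : Set G)) :
    Nat.card (B ⊔ zpowers a : Subgroup G) ≤ q * Nat.card B := by
  have h1 : Nat.card (B ⊔ zpowers a : Subgroup G) ∣ Nat.card B * Nat.card (zpowers a) :=
    Helper22_Basic.card_sup_dvd_of_le_normalizer B (zpowers a) (by
      rw [Subgroup.zpowers_le]; exact Subgroup.centralizer_le_normalizer _ hcent)
  have h2 : Nat.card (zpowers a) ∣ q := by
    rw [Nat.card_zpowers]; exact orderOf_dvd_of_pow_eq_one haq
  have h3 : Nat.card (B ⊔ zpowers a : Subgroup G) ∣ Nat.card B * q :=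
    h1.trans (Nat.mul_dvd_mul_left _ h2)
  rw [mul_comm]
  exact Nat.le_of_dvd (Nat.mul_pos Nat.card_pos hq) h3

theorem exists_big_centralized [Finite G] (p q : ℕ) [Fact p.Prime] [Fact q.Prime] (hqp : q ≠ p)
    {A E : Subgroup G} (hab : ∀ a ∈ A, ∀ b ∈ A, a * b = b * a) (hEA : E ≤ A)
    (hEq : ∀ x ∈ E, x ^ q = 1) {R : Subgroup G} (hR : R ∈ Inv p A) (hRne : R ≠ ⊥) :
    ∃ B : Subgroup G, B ≤ E ∧ Nat.card E ≤ q * Nat.card B ∧
      R ⊓ centralizer (B : Set G) ≠ ⊥ := by
  classical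
  have hp := (Fact.out : p.Prime)
  have hq := (Fact.out : q.Prime)
  have hbot : (⊥ : Subgroup G) ∈ {B : Subgroup G | B ≤ E ∧ R ⊓ centralizer (B : Set G) ≠ ⊥} := by
    refine ⟨bot_le, ?_⟩
    have : centralizer (((⊥ : Subgroup G)) : Set G) = ⊤ := by
      rw [eq_top_iff]
      intro g _
      rw [Subgroup.mem_centralizer_iff]
      intro h hh
      have : h = 1 := hh
      rw [this]; simp
    rw [this, inf_top_eq]
    exact hRne
  obtain ⟨B, hBS, hmax⟩ := Set.exists_max_image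
    {B : Subgroup G | B ≤ E ∧ R ⊓ centralizer (B : Set G) ≠ ⊥}
    (fun B => Nat.card B) (Set.toFinite _) ⟨⊥, hbot⟩
  obtain ⟨hBE, hBne⟩ := hBS
  refine ⟨B, hBE, ?_, hBne⟩
  by_contra hlt
  rw [not_le] at hlt
  have hcentE : ∀ x ∈ E, ∀ B' : Subgroup G, B' ≤ E → x ∈ centralizer (B' : Set G) := by
    intro x hx B' hB'
    rw [Subgroup.mem_centralizer_iff]
    intro b hb
    exact hab b (hEA (hB' hb)) x (hEA hx)
  -- a ∈ E \ B
  obtain ⟨a, haE, haB⟩ : ∃ a ∈ E, a ∉ B := by
    by_contra hcon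
    push Not at hcon
    have h1 : Nat.card E ≤ Nat.card B :=
      Nat.le_of_dvd Nat.card_pos (Subgroup.card_dvd_of_le hcon)
    have h2 : Nat.card B ≤ q * Nat.card B := Nat.le_mul_of_pos_left _ hq.pos
    omega
  set B₁ := B ⊔ zpowers a with hB₁
  have hB₁E : B₁ ≤ E := sup_le hBE (Subgroup.zpowers_le.mpr haE)
  have hB₁card : Nat.card B₁ ≤ q * Nat.card B :=
    card_sup_zpowers_le B a (hEq a haE) hq.pos (hcentE a haE B hBE)
  obtain ⟨b, hbE, hbB₁⟩ : ∃ b ∈ E, b ∉ B₁ := by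
    by_contra hcon
    push Not at hcon
    have h1 : Nat.card E ≤ Nat.card B₁ :=
      Nat.le_of_dvd Nat.card_pos (Subgroup.card_dvd_of_le hcon)
    omega
  set R' := R ⊓ centralizer (B : Set G) with hR'
  have hR'p : IsPGroup p R' := hR.1.to_le inf_le_left
  have hcop : ¬ q ∣ Nat.card R' := by
    obtain ⟨n, hn⟩ := IsPGroup.iff_card.mp hR'p
    rw [hn]
    intro h
    exact hqp ((Nat.prime_dvd_prime_iff_eq hq hp).mp (hq.dvd_of_dvd_pow h))
  have hAR' : A ≤ normalizer (R' : Set G) :=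
    (le_inf hR.2 (le_normalizer_centralizer hab (B : Set G) (fun x hx => hEA (hBE hx)))).trans
      (normalizer_inf_le R _)
  -- maximality: elements of E outside B have no fixed points on R'
  have key : ∀ x ∈ E, x ∉ B → R' ⊓ centralizer ({x} : Set G) ≤ ⊥ := by
    intro x hxE hxB
    by_contra hne
    have hmem : B ⊔ zpowers x ∈ {B : Subgroup G | B ≤ E ∧ R ⊓ centralizer (B : Set G) ≠ ⊥} := by
      refine ⟨sup_le hBE (Subgroup.zpowers_le.mpr hxE), ?_⟩
      intro h
      apply hne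
      rw [← h]
      intro y hy
      obtain ⟨hy1, hy2⟩ := Subgroup.mem_inf.mp hy
      obtain ⟨hy3, hy4⟩ := Subgroup.mem_inf.mp hy1
      exact Subgroup.mem_inf.mpr ⟨hy3, mem_centralizer_sup_zpowers hy4 hy2⟩
    have h1 : Nat.card (B ⊔ zpowers x : Subgroup G) ≤ Nat.card B := hmax _ hmem
    have h2 : B = B ⊔ zpowers x := Subgroup.eq_of_le_of_card_ge le_sup_left h1
    apply hxB
    rw [h2]
    exact le_sup_right (a := B) (Subgroup.mem_zpowers x)
  have hbB : b ∉ B := fun h => hbB₁ (le_sup_left (a := B) h)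
  have hab' : a * b = b * a := hab a (hEA haE) b (hEA hbE)
  have hb1 : b ≠ 1 := by
    rintro rfl
    exact hbB B.one_mem
  have hgen := Helper48_Generation.le_of_centralizers_le (p := q) R' hcop a b
    (hAR' (hEA haE)) (hAR' (hEA hbE)) (hEq a haE) (hEq b hbE) hab' ⊥ (key b hbE hbB) (by
      intro i
      apply key (a * b ^ i) (E.mul_mem haE (E.pow_mem hbE i))
      intro hmem
      -- b ^ i ∈ B₁
      have hbi : b ^ i ∈ B₁ := by
        have h1 : a⁻¹ ∈ B₁ := B₁.inv_mem (le_sup_right (a := B) (Subgroup.mem_zpowers a))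
        have h2 : a * b ^ i ∈ B₁ := le_sup_left (a := B) hmem
        have h3 : b ^ i = a⁻¹ * (a * b ^ i) := by group
        rw [h3]
        exact B₁.mul_mem h1 h2
      by_cases hqi : q ∣ i
      · obtain ⟨t, rfl⟩ := hqi
        rw [pow_mul, hEq b hbE, one_pow, mul_one] at hmem
        exact haB hmem
      · have hco : Nat.Coprime i q := (Nat.Coprime.symm ((Nat.Prime.coprime_iff_not_dvd hq).mpr hqi))
        obtain ⟨m, -, hm⟩ := Nat.exists_mul_mod_eq_one_of_coprime hco hq.one_lt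
        have h4 : b ^ (i * m) = b := by
          rw [pow_eq_pow_mod (i * m) (hEq b hbE), hm, pow_one]
        apply hbB₁
        rw [← h4, pow_mul]
        exact B₁.pow_mem hbi m)
  exact hBne (le_bot_iff.mp hgen)

theorem exists_unique_max [Finite G] (p q : ℕ) [Fact p.Prime] [Fact q.Prime] (hqp : q ≠ p)
    {A E : Subgroup G} (hC : Ctx p A) (hEA : E ≤ A) (hEq : ∀ x ∈ E, x ^ q = 1)
    (hEbig : q ^ 2 < Nat.card E) : ∃ W, W ∈ Inv p A ∧ ∀ Y ∈ Inv p A, Y ≤ W := by
  classical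
  obtain ⟨W, hW, -⟩ := exists_max_ge p A (bot_mem_Inv p A)
  refine ⟨W, hW.1, fun Y hY => ?_⟩
  obtain ⟨R, hR, hYR⟩ := exists_max_ge p A hY
  suffices h : R = W by rw [← h]; exact hYR
  by_contra hne
  have hRne : R ≠ ⊥ := by
    rintro rfl
    exact hne (hR.2 W hW.1 bot_le).symm
  have hWne : W ≠ ⊥ := by
    rintro rfl
    exact hne (hW.2 R hR.1 bot_le)
  obtain ⟨B₁, hB₁E, hB₁c, hB₁ne⟩ := exists_big_centralized p q hqp hC.ab hEA hEq hR.1 hRne
  obtain ⟨B₂, hB₂E, hB₂c, hB₂ne⟩ := exists_big_centralized p q hqp hC.ab hEA hEq hW.1 hWne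
  have hinf : B₁ ⊓ B₂ ≠ ⊥ := by
    intro h
    have hnorm : B₁ ≤ normalizer (B₂ : Set G) := by
      refine le_trans ?_ (Subgroup.centralizer_le_normalizer _)
      intro x hx
      rw [Subgroup.mem_centralizer_iff]
      intro b hb
      exact hC.ab b (hEA (hB₂E hb)) x (hEA (hB₁E hx))
    have h1 := Helper1_FPF.card_sup_of_le_normalizer B₁ B₂ hnorm h
    have h2 : Nat.card (B₁ ⊔ B₂ : Subgroup G) ≤ Nat.card E :=
      Nat.le_of_dvd Nat.card_pos (Subgroup.card_dvd_of_le (sup_le hB₁E hB₂E))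
    rw [h1] at h2
    have hE0 : 0 < Nat.card E := Nat.card_pos
    have h3 : Nat.card E * Nat.card E ≤ (q * Nat.card B₁) * (q * Nat.card B₂) :=
      Nat.mul_le_mul hB₁c hB₂c
    have h4 : (q * Nat.card B₁) * (q * Nat.card B₂) = q ^ 2 * (Nat.card B₁ * Nat.card B₂) := by
      ring
    have h5 : q ^ 2 * (Nat.card B₁ * Nat.card B₂) ≤ q ^ 2 * Nat.card E :=
      Nat.mul_le_mul_left _ h2
    have h6 : q ^ 2 * Nat.card E < Nat.card E * Nat.card E :=
      Nat.mul_lt_mul_of_pos_right hEbig hE0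
    omega
  obtain ⟨a, haB, ha1'⟩ := (Subgroup.bot_or_exists_ne_one (B₁ ⊓ B₂)).resolve_left hinf
  obtain ⟨haB₁, haB₂⟩ := Subgroup.mem_inf.mp haB
  have haA : a ∈ A := hEA (hB₁E haB₁)
  set C := centralizer ({a} : Set G) with hCdef
  have hCtop : C ≠ ⊤ := hC.cent_ne_top a ha1'
  have hAC : A ≤ C := by
    intro g hg
    rw [hCdef, Subgroup.mem_centralizer_singleton_iff]
    exact hC.ab g hg a haA
  have hANC : A ≤ normalizer (C : Set G) :=
    le_normalizer_centralizer hC.ab ({a} : Set G) (by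
      intro x hx
      rw [Set.mem_singleton_iff] at hx
      rw [hx]; exact haA)
  obtain ⟨R₃, h₃, hOR₃⟩ := exists_max_ge p A (Op_mem_Inv p hAC)
  have step : ∀ (R' B' : Subgroup G), IsMaxInv p A R' → a ∈ B' →
      R' ⊓ centralizer (B' : Set G) ≠ ⊥ → R₃ = R' := by
    intro R' B' hR' haB' hne'
    have hZ : R' ⊓ C ≤ Helper21_PP2.Op p C := by
      apply hC.ctrl C hAC hCtop (R' ⊓ C) inf_le_right (hR'.1.1.to_le inf_le_left)
      exact (le_inf hR'.1.2 hANC).trans (normalizer_inf_le R' C)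
    have hle : R' ⊓ centralizer (B' : Set G) ≤ R₃ ⊓ R' := by
      have h1 : centralizer (B' : Set G) ≤ C :=
        Subgroup.centralizer_le (by
          intro x hx
          rw [Set.mem_singleton_iff] at hx
          rw [hx]; exact haB')
      exact le_inf ((inf_le_inf_left R' h1).trans (hZ.trans hOR₃)) inf_le_left
    apply ti p hC h₃ hR'
    intro h
    apply hne'
    rw [h, le_bot_iff] at hle
    exact hle
  have e₁ := step R B₁ hR haB₁ hB₁ne
  have e₂ := step W B₂ hW haB₂ hB₂ne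
  exact hne (e₁.symm.trans e₂)

end Cfsg.Agent.Lib.Helper21_PP7
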