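import Mathlib

/-!
Arithmetic and counting lemmas for `Helper21_PP9` (helper21).
-/

set_option autoImplicit false

namespace Cfsg.Agent.Lib.Helper21_PP8

open Subgroup

theorem ordCompl_modEq_one {p m : ℕ} (hm : m ≠ 0)
    (h : ∀ r, r.Prime → r ≠ p → r ∣ m → r ^ m.factorization r ≡ 1 [MOD p]) :
    m / p ^ m.factorization p ≡ 1 [MOD p] := by
  have h1 : m / p ^ m.factorization p ≠ 0 := (Nat.ordCompl_pos p hm).ne'
  have h2 := Nat.factorization_prod_pow_eq_self h1
  rw [Nat.factorization_ordCompl] at h2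
  rw [← h2, Finsupp.prod]
  apply Finset.prod_induction _ (fun x => x ≡ 1 [MOD p])
  · intro a b ha hb
    simpa using ha.mul hb
  · rfl
  · intro r hr
    rw [Finsupp.support_erase, Finset.mem_erase] at hr
    obtain ⟨hrp, hr⟩ := hr
    rw [Finsupp.erase_ne hrp]
    rw [Nat.support_factorization] at hr
    exact h r (Nat.prime_of_mem_primeFactors hr) hrp (Nat.dvd_of_mem_primeFactors hr)

theorem three_le_of_pow_modEq {p q s : ℕ} (hp : p.Prime) (hq : q.Prime) (hp5 : 5 ≤ p)
    (hqp : q ∣ p - 1) (hs : 1 ≤ s) (h : q ^ s ≡ 1 [MOD p]) : 3 ≤ s := by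
  by_contra hlt
  have hqle : q ≤ p - 1 := Nat.le_of_dvd (by omega) hqp
  have hq2 := hq.two_le
  have hs12 : s = 1 ∨ s = 2 := by omega
  rcases hs12 with rfl | rfl
  · rw [pow_one] at h
    have h1 : q % p = 1 % p := h
    rw [Nat.mod_eq_of_lt (by omega), Nat.mod_eq_of_lt (by omega)] at h1
    omega
  · have h1 : p ∣ q ^ 2 - 1 := (Nat.modEq_iff_dvd' (Nat.one_le_pow _ _ hq.pos)).mp h.symm
    have h2 : q ^ 2 - 1 = (q - 1) * (q + 1) := by
      obtain ⟨t, rfl⟩ : ∃ t, q = t + 1 := ⟨q - 1, by omega⟩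
      simp only [Nat.add_sub_cancel]
      ring_nf
      omega
    rw [h2] at h1
    rcases (Nat.Prime.dvd_mul hp).mp h1 with h3 | h3
    · have := Nat.le_of_dvd (by omega) h3
      omega
    · have h4 := Nat.le_of_dvd (by omega) h3
      have hq' : q = p - 1 := by omega
      have hodd : Odd p := hp.odd_of_ne_two (by omega)
      obtain ⟨t, ht⟩ := hodd
      have h2q : 2 ∣ q := ⟨t, by omega⟩
      rcases (Nat.dvd_prime hq).mp h2q with h5 | h5
      · omega
      · omega

theorem card_dvd_of_cyclic {K : Type*} [Group K] [Finite K] [IsCyclic K] {n : ℕ}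
    (h : ∀ x : K, x ^ n = 1) : Nat.card K ∣ n := by
  obtain ⟨g, hg⟩ := IsCyclic.exists_ofOrder_eq_natCard (α := K)
  rw [← hg]
  exact orderOf_dvd_of_pow_eq_one (h g)

variable {G : Type*} [Group G]

theorem index_modEq_one [Finite G] (p : ℕ) [Fact p.Prime] (P : Subgroup G) (hP : IsPGroup p P)
    (hPi : ¬ p ∣ P.index)
    (hsyl : ∀ r : ℕ, r.Prime → r ≠ p → r ∣ Nat.card G →
      r ^ (Nat.card G).factorization r ≡ 1 [MOD p]) : P.index ≡ 1 [MOD p] := by
  have h1 : Nat.card P = p ^ (Nat.card G).factorization p := by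
    have := (hP.toSylow hPi).card_eq_multiplicity
    rwa [IsPGroup.toSylow_coe] at this
  have h2 : P.index = Nat.card G / p ^ (Nat.card G).factorization p := by
    rw [← h1, ← Subgroup.index_mul_card P, Nat.mul_div_cancel _ Nat.card_pos]
  rw [h2]
  exact ordCompl_modEq_one Nat.card_pos.ne' hsyl

theorem card_complement_modEq_one [Finite G] (p : ℕ) [Fact p.Prime] (P K : Subgroup G)
    (hP : IsPGroup p P) (hPi : ¬ p ∣ P.index)
    (hcard : Nat.card (normalizer (P : Set G)) = Nat.card P * Nat.card K)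
    (hidx : P.index ≡ 1 [MOD p]) : Nat.card K ≡ 1 [MOD p] := by
  have h1 : Nat.card (Sylow p G) ≡ 1 [MOD p] := card_sylow_modEq_one p G
  have h2 : Nat.card (Sylow p G) = (normalizer (P : Set G)).index := by
    have h := (hP.toSylow hPi).card_eq_index_normalizer
    have hset : ((hP.toSylow hPi : Sylow p G) : Set G) = (P : Set G) := by
      ext x; exact IsPGroup.mem_toSylow hP hPi
    rwa [hset] at h
  have h3 : P.index = (normalizer (P : Set G)).index * Nat.card K := by
    have e1 := Subgroup.index_mul_card (normalizer (P : Set G))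
    have e2 := Subgroup.index_mul_card P
    rw [hcard] at e1
    have e3 : (normalizer (P : Set G)).index * Nat.card K * Nat.card P = P.index * Nat.card P := by
      rw [e2, ← e1]; ring
    exact (Nat.eq_of_mul_eq_mul_right Nat.card_pos e3).symm
  rw [h3, ← h2] at hidx
  have h4 : Nat.card (Sylow p G) * Nat.card K ≡ 1 * Nat.card K [MOD p] := h1.mul_right _
  rw [one_mul] at h4
  exact h4.symm.trans hidx

end Cfsg.Agent.Lib.Helper21_PP8
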