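import Mathlib
import Cfsg.Agent.Lib.Helper21_PP4
import Cfsg.Agent.Lib.Helper21_PP5
import Cfsg.Agent.Lib.Helper21_PP7
import Cfsg.Agent.Lib.Helper21_PP8

/-!
No minimal simple group has all `p'`-subgroups abelian of exponent dividing `p - 1` (`p ≥ 5`) (helper21).
-/

set_option autoImplicit false

universe u

namespace Cfsg.Agent.Lib.Helper21_PP9

open Subgroup Cfsg
open scoped commutatorElement Pointwise
open Cfsg.Agent.Lib.Helper21_PP6 (Inv Ctx)

variable {G : Type u} [Group G]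

/-- If every `g a g⁻¹` (`a ∈ A`) normalizes the largest `A`-invariant `p`-subgroup `W`, so does `g`. -/
theorem mem_normalizer_of_conj_le [Finite G] (p : ℕ) {A W : Subgroup G} (hW : W ∈ Inv p A)
    (hmax : ∀ Y ∈ Inv p A, Y ≤ W) (g : G)
    (h : ∀ a ∈ A, g * a * g⁻¹ ∈ normalizer (W : Set G)) : g ∈ normalizer (W : Set G) := by
  have hY : W.map (MulAut.conj g⁻¹).toMonoidHom ∈ Inv p A := by
    refine ⟨hW.1.map _, ?_⟩
    intro a ha
    apply Helper21_PP3.mem_normalizer_of_conj_mem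
    rintro _ ⟨w, hw, rfl⟩
    refine ⟨(g * a * g⁻¹) * w * (g * a * g⁻¹)⁻¹, ?_, ?_⟩
    · exact (Subgroup.mem_normalizer_iff.mp (h a ha) w).mp hw
    · simp only [MulEquiv.toMonoidHom_eq_coe, MonoidHom.coe_coe, MulAut.conj_apply]
      group
  have hle := hmax _ hY
  have h1 : g⁻¹ ∈ normalizer (W : Set G) := by
    apply Helper21_PP3.mem_normalizer_of_conj_mem
    intro w hw
    exact hle ⟨w, hw, rfl⟩
  simpa using inv_mem h1

/-- The subgroup of elements of `N(W)` that centralize `K` modulo `W`. -/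
def commSub (W K : Subgroup G) : Subgroup G where
  carrier := {y | y ∈ normalizer (W : Set G) ∧ ∀ k ∈ K, ⁅y, k⁆ ∈ W}
  one_mem' := ⟨Subgroup.one_mem _, fun k _ => by
    rw [commutatorElement_one_left]; exact W.one_mem⟩
  mul_mem' := by
    rintro y₁ y₂ ⟨h₁, c₁⟩ ⟨h₂, c₂⟩
    refine ⟨Subgroup.mul_mem _ h₁ h₂, fun k hk => ?_⟩
    have e : ⁅y₁ * y₂, k⁆ = y₁ * ⁅y₂, k⁆ * y₁⁻¹ * ⁅y₁, k⁆ := by
      simp only [commutatorElement_def]; group
    rw [e]
    exact W.mul_mem ((Subgroup.mem_normalizer_iff.mp h₁ _).mp (c₂ k hk)) (c₁ k hk)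
  inv_mem' := by
    rintro y ⟨h, c⟩
    refine ⟨Subgroup.inv_mem _ h, fun k hk => ?_⟩
    have e : ⁅y⁻¹, k⁆ = y⁻¹ * (⁅y, k⁆)⁻¹ * y⁻¹⁻¹ := by
      simp only [commutatorElement_def]; group
    rw [e]
    exact (Subgroup.mem_normalizer_iff.mp (Subgroup.inv_mem _ h) _).mp (W.inv_mem (c k hk))

theorem mem_commSub {W K : Subgroup G} {y : G} :
    y ∈ commSub W K ↔ y ∈ normalizer (W : Set G) ∧ ∀ k ∈ K, ⁅y, k⁆ ∈ W := Iff.rfl

/-- The `q`-torsion of an abelian subgroup. -/
def torsionSub (Q : Subgroup G) (hQ : ∀ a ∈ Q, ∀ b ∈ Q, a * b = b * a) (q : ℕ) : Subgroup G where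
  carrier := {x | x ∈ Q ∧ x ^ q = 1}
  one_mem' := ⟨Q.one_mem, one_pow q⟩
  mul_mem' := by
    rintro x y ⟨hx, hxq⟩ ⟨hy, hyq⟩
    refine ⟨Q.mul_mem hx hy, ?_⟩
    have hc : Commute x y := hQ x hx y hy
    rw [hc.mul_pow, hxq, hyq, one_mul]
  inv_mem' := by
    rintro x ⟨hx, hxq⟩
    exact ⟨Q.inv_mem hx, by rw [inv_pow, hxq, inv_one]⟩

theorem mem_torsionSub {Q : Subgroup G} {hQ : ∀ a ∈ Q, ∀ b ∈ Q, a * b = b * a} {q : ℕ} {x : G} :
    x ∈ torsionSub Q hQ q ↔ x ∈ Q ∧ x ^ q = 1 := Iff.rfl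

theorem main [Finite G] (p : ℕ) [Fact p.Prime] (hp5 : 5 ≤ p)
    (hyp : ∀ H : Subgroup G, (Nat.card H).Coprime p →
      (∀ a ∈ H, ∀ b ∈ H, a * b = b * a) ∧ ∀ x ∈ H, x ^ (p - 1) = 1)
    (hsimple : ∀ N : Subgroup G, N.Normal → N = ⊥ ∨ N = ⊤)
    (hna : ¬ ∀ a b : G, a * b = b * a)
    (hsolv : ∀ H : Subgroup G, H ≠ ⊤ → Group.IsSolvable H) : False := by
  classical
  have hp := (Fact.out : p.Prime)
  have hab : ∀ H : Subgroup G, (Nat.card H).Coprime p → ∀ a ∈ H, ∀ b ∈ H, a * b = b * a :=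
    fun H h => (hyp H h).1
  -- G is perfect
  have hperf : commutator G = ⊤ := by
    rcases hsimple (commutator G) inferInstance with h | h
    · exfalso
      apply hna
      intro a b
      have : ⁅a, b⁆ ∈ commutator G := Subgroup.commutator_mem_commutator (Subgroup.mem_top a) (Subgroup.mem_top b)
      rw [h, Subgroup.mem_bot] at this
      exact commutatorElement_eq_one_iff_mul_comm.mp this
    · exact h
  have hperf' : ⁅(⊤ : Subgroup G), (⊤ : Subgroup G)⁆ = ⊤ := by rw [← commutator_def]; exact hperf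
  -- p divides |G|
  have hpdvd : p ∣ Nat.card G := by
    by_contra h
    apply hna
    intro a b
    have hc : (Nat.card (⊤ : Subgroup G)).Coprime p := by
      rw [Subgroup.card_top]
      exact ((Nat.Prime.coprime_iff_not_dvd hp).mpr h).symm
    exact hab ⊤ hc a (Subgroup.mem_top a) b (Subgroup.mem_top b)
  -- no nontrivial subgroup of prime power order is normal
  have hnotP : ∀ r : ℕ, r.Prime → ¬ IsPGroup r G := by
    intro r hr hG
    haveI : Fact r.Prime := ⟨hr⟩
    have hnil : Group.IsNilpotent G := hG.isNilpotent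
    have hsol : Group.IsSolvable G := inferInstance
    have hder : commutator G < ⊤ := by
      haveI : Nontrivial G := by
        by_contra hnt
        rw [not_nontrivial_iff_subsingleton] at hnt
        exact hna fun a b => Subsingleton.elim _ _
      exact Group.IsSolvable.commutator_lt_top_of_nontrivial G
    exact hder.ne hperf
  have hnorm_ne_top : ∀ (r : ℕ), r.Prime → ∀ D : Subgroup G, D ≠ ⊥ → IsPGroup r D →
      normalizer (D : Set G) ≠ ⊤ := by
    intro r hr D hD hDp h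
    have hn : D.Normal := normalizer_eq_top_iff.mp h
    rcases hsimple D hn with h1 | h1
    · exact hD h1
    · apply hnotP r hr
      rw [h1] at hDp
      intro g
      obtain ⟨k, hk⟩ := hDp ⟨g, Subgroup.mem_top g⟩
      exact ⟨k, by simpa using congrArg Subtype.val hk⟩
  have hcent_ne_top : ∀ a : G, a ≠ 1 → centralizer ({a} : Set G) ≠ ⊤ := by
    intro a ha h
    have hz : a ∈ center G := by
      rw [Subgroup.mem_center_iff]
      intro g
      have : g ∈ centralizer ({a} : Set G) := h ▸ Subgroup.mem_top g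
      exact (Subgroup.mem_centralizer_singleton_iff.mp this)
    rcases hsimple (center G) inferInstance with h1 | h1
    · rw [h1, Subgroup.mem_bot] at hz
      exact ha hz
    · apply hna
      intro x y
      have hx : x ∈ center G := h1 ▸ Subgroup.mem_top x
      exact (Subgroup.mem_center_iff.mp hx y).symm
  -- Sylow data
  obtain ⟨P, K, hPp, hPi, hKN, hcardN, hKp, hPder⟩ :=
    Helper21_PP4.exists_sylow_data p hp5 hab hperf' hsimple hsolv hpdvd (hnotP p hp)
  have hPne : P ≠ ⊥ := by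
    intro h
    rw [h, Subgroup.index_bot] at hPi
    exact hPi hpdvd
  obtain ⟨hKab, hKexp⟩ := hyp K hKp
  set N := normalizer (P : Set G) with hN
  have hPN : P ≤ N := le_normalizer
  -- every Sylow q-subgroup, q ≠ p
  have hsylow : ∀ (q : ℕ) [Fact q.Prime], q ≠ p → ∀ Q : Sylow q G,
      (∀ a ∈ Q, ∀ b ∈ Q, a * b = b * a) ∧
      (∀ z ∈ Q, (∀ n ∈ normalizer ((Q : Subgroup G) : Set G), n * z * n⁻¹ = z) → z = 1) ∧
      (∀ g ∈ normalizer ((Q : Subgroup G) : Set G), (orderOf g).Coprime p →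
        ∀ y ∈ Q, g * y * g⁻¹ = y) := by
    intro q hqf hqp Q
    have hq := hqf.out
    have hQcop : (Nat.card (Q : Subgroup G)).Coprime p := by
      obtain ⟨n, hn⟩ := IsPGroup.iff_card.mp Q.isPGroup'
      rw [hn]
      apply Nat.Coprime.pow_left
      exact (Nat.coprime_primes hq hp).mpr hqp
    have hQab := hab _ hQcop
    refine ⟨hQab, fun z hz hfix => Helper21_PP5.eq_one_of_central_in_normalizer hperf Q hQab z hz hfix, ?_⟩
    intro g hg hgp y hy
    have hB := Helper21_PP5.coprime_card_sup_zpowers p (Q : Subgroup G) g hg hgp hQcop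
    have hc := hab _ hB g (le_sup_right (a := (Q : Subgroup G)) (Subgroup.mem_zpowers g)) y
      (le_sup_left (a := (Q : Subgroup G)) hy)
    rw [hc]; group
  -- |Q| ≡ 1 mod p
  have hsylcard : ∀ r : ℕ, r.Prime → r ≠ p → r ∣ Nat.card G →
      r ^ (Nat.card G).factorization r ≡ 1 [MOD p] := by
    intro r hr hrp _
    haveI : Fact r.Prime := ⟨hr⟩
    have Q : Sylow r G := default
    obtain ⟨-, hfix, hpp⟩ := hsylow r hrp Q
    rw [← Q.card_eq_multiplicity]
    exact Helper21_PP5.card_modEq_one_of_fix p _ (Q : Subgroup G) le_rfl hpp hfix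
  have hidx : P.index ≡ 1 [MOD p] := Helper21_PP8.index_modEq_one p P hPp hPi hsylcard
  have hKmod : Nat.card K ≡ 1 [MOD p] :=
    Helper21_PP8.card_complement_modEq_one p P K hPp hPi hcardN hidx
  -- K is not cyclic
  have hKnc : ¬ IsCyclic K := by
    intro hcyc
    have h1 : Nat.card K ∣ p - 1 := by
      apply Helper21_PP8.card_dvd_of_cyclic
      intro x
      apply Subtype.ext
      exact hKexp x x.2
    have h2 : Nat.card K ≤ p - 1 := Nat.le_of_dvd (by have := hp.two_le; omega) h1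
    have h3 : Nat.card K % p = 1 % p := hKmod
    rw [Nat.mod_eq_of_lt (by have := hp.two_le; omega), Nat.mod_eq_of_lt hp.one_lt] at h3
    have hKbot : K = ⊥ := Subgroup.card_eq_one.mp h3
    have hP₀ := Helper21_PP3.eq_of_commutator_le p N P K ⊥ hPp hPN hKN hcardN hKp bot_le
      (Helper21_PP6.bot_mem_Inv p P).2 (Helper21_PP6.bot_mem_Inv p K).2
      (by
        intro y _ k hk
        rw [hKbot, Subgroup.mem_bot] at hk
        rw [hk, commutatorElement_one_right]
        exact Subgroup.one_mem _) hPder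
    exact hPne hP₀.symm
  -- a noncyclic pair in K
  letI : CommGroup ↥K :=
    { (inferInstance : Group ↥K) with mul_comm := fun a b => Subtype.ext (hKab a a.2 b b.2) }
  obtain ⟨q, hq, a', b', ha'q, hb'q, ha'1, hb'a'⟩ := Helper1_FPF.exists_noncyclic_pair hKnc
  haveI : Fact q.Prime := ⟨hq⟩
  obtain ⟨a, haK⟩ := a'
  obtain ⟨b, hbK⟩ := b'
  have haq : a ^ q = 1 := by simpa using congrArg Subtype.val ha'q
  have hbq : b ^ q = 1 := by simpa using congrArg Subtype.val hb'q
  have ha1 : a ≠ 1 := fun h => ha'1 (Subtype.ext h)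
  have hba : b ∉ zpowers a := by
    intro h
    apply hb'a'
    obtain ⟨k, hk⟩ := Subgroup.mem_zpowers_iff.mp h
    exact Subgroup.mem_zpowers_iff.mpr ⟨k, Subtype.ext (by simpa using hk)⟩
  have hordA : orderOf a = q := orderOf_eq_prime haq ha1
  have hqp : q ≠ p := by
    intro h
    have h1 : orderOf a ∣ Nat.card K := by
      have : orderOf (⟨a, haK⟩ : K) ∣ Nat.card K := orderOf_dvd_natCard _
      rwa [← Subgroup.orderOf_coe] at this
    rw [hordA, h] at h1
    exact (Nat.Prime.coprime_iff_not_dvd hp).mp hKp.symm h1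
  have hqdvd : q ∣ p - 1 := by
    rw [← hordA]
    exact orderOf_dvd_of_pow_eq_one (hKexp a haK)
  -- the maximal p'-subgroup A
  obtain ⟨A, hAS, hAmax'⟩ := Set.exists_max_image
    {B : Subgroup G | K ≤ B ∧ (Nat.card B).Coprime p}
    (fun B => Nat.card B) (Set.toFinite _) ⟨K, le_rfl, hKp⟩
  obtain ⟨hKA, hAp⟩ := hAS
  have hAmax : ∀ B : Subgroup G, A ≤ B → (Nat.card B).Coprime p → B = A := by
    intro B hAB hB
    have := hAmax' B ⟨hKA.trans hAB, hB⟩
    exact (Subgroup.eq_of_le_of_card_ge hAB this).symm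
  have hAab := hab A hAp
  have haA : a ∈ A := hKA haK
  have hbA : b ∈ A := hKA hbK
  -- local control
  have hlocal : ∀ H : Subgroup G, A ≤ H → H ≠ ⊤ →
      (∀ h ∈ H, ∀ x ∈ A ⊔ Helper21_PP2.Op p H, h * x * h⁻¹ ∈ A ⊔ Helper21_PP2.Op p H) ∧
      ∀ Y : Subgroup G, Y ≤ H → IsPGroup p Y → A ≤ normalizer (Y : Set G) →
        Y ≤ Helper21_PP2.Op p H := by
    intro H hAH hH
    exact Helper21_PP2.hall_main p A H hAH (hsolv H hH) hAab hAp
      (Helper21_PP2.relIndex_pow_of_max p A H hAH (hsolv H hH) hAp hAmax)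
  have hC : Ctx p A :=
    { ab := hAab
      ctrl := fun H hAH hH => (hlocal H hAH hH).2
      norm_ne_top := hnorm_ne_top p hp
      cent_ne_top := hcent_ne_top }
  -- a Sylow q-subgroup of G inside A
  obtain ⟨Q, hQA⟩ : ∃ Q : Sylow q G, (Q : Subgroup G) ≤ A := by
    set C := centralizer ({a} : Set G) with hCdef
    have hCtop : C ≠ ⊤ := hcent_ne_top a ha1
    have hAC : A ≤ C := by
      intro g hg
      rw [hCdef, Subgroup.mem_centralizer_singleton_iff]
      exact hAab g hg a haA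
    have hza : IsPGroup q (zpowers a) := Helper48_Generation.isPGroup_zpowers_of_pow_eq_one haq
    obtain ⟨Qs, hQs⟩ := hza.exists_le_sylow
    have hQscop : (Nat.card (Qs : Subgroup G)).Coprime p := by
      obtain ⟨n, hn⟩ := IsPGroup.iff_card.mp Qs.isPGroup'
      rw [hn]
      apply Nat.Coprime.pow_left
      exact (Nat.coprime_primes hq hp).mpr hqp
    have hQsC : (Qs : Subgroup G) ≤ C := by
      intro x hx
      rw [hCdef, Subgroup.mem_centralizer_singleton_iff]
      exact hab _ hQscop x hx a (hQs (Subgroup.mem_zpowers a))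
    have hCsolv := hsolv C hCtop
    have hAhall := Helper21_PP2.piHall_of_max p A C hAC hCsolv hAp hAmax
    obtain ⟨B, hB, hQsB⟩ := Helper24_CoprimeHall.exists_piHall_ge (π := {r | r ≠ p}) hCsolv hQsC
      (by
        intro r hr hrQ
        show r ≠ p
        intro hrp
        subst hrp
        exact (Nat.Prime.coprime_iff_not_dvd hr).mp hQscop.symm hrQ)
    obtain ⟨g, -, hg⟩ := Helper24_CoprimeHall.piHall_conj hCsolv hB hAhall
    refine ⟨g • Qs, ?_⟩
    intro x hx
    rw [Sylow.coe_subgroup_smul, Subgroup.mem_smul_pointwise_iff_exists] at hx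
    obtain ⟨s, hs, rfl⟩ := hx
    rw [← hg]
    exact ⟨s, hQsB hs, rfl⟩
  obtain ⟨hQab, hQfix, hQpp⟩ := hsylow q hqp Q
  have hQne : (Q : Subgroup G) ≠ ⊥ := by
    apply Q.ne_bot_of_dvd_card
    have h1 : orderOf a ∣ Nat.card G := orderOf_dvd_natCard a
    rwa [hordA] at h1
  -- the q-torsion E of Q
  set E := torsionSub (Q : Subgroup G) hQab q with hE
  have hEQ : E ≤ (Q : Subgroup G) := fun x hx => hx.1
  have hEA : E ≤ A := hEQ.trans hQA
  have hEq : ∀ x ∈ E, x ^ q = 1 := fun x hx => hx.2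
  have hNQE : normalizer ((Q : Subgroup G) : Set G) ≤ normalizer (E : Set G) := by
    intro n hn
    apply Helper21_PP3.mem_normalizer_of_conj_mem
    intro x hx
    refine ⟨(Subgroup.mem_normalizer_iff.mp hn x).mp hx.1, ?_⟩
    rw [conj_pow, hx.2]; group
  have hEmod : Nat.card E ≡ 1 [MOD p] :=
    Helper21_PP5.card_modEq_one_of_fix p _ E hNQE
      (fun g hg hgp y hy => hQpp g hg hgp y (hEQ hy))
      (fun y hy hfix => hQfix y (hEQ hy) hfix)
  have hEbig : q ^ 2 < Nat.card E := by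
    have hEp : IsPGroup q E := Q.isPGroup'.to_le hEQ
    obtain ⟨s, hs⟩ := IsPGroup.iff_card.mp hEp
    have hs1 : 1 ≤ s := by
      rcases Nat.eq_zero_or_pos s with h0 | h0
      · exfalso
        rw [h0, pow_zero] at hs
        have hEbot : E = ⊥ := Subgroup.card_eq_one.mp hs
        -- Q has an element of order q
        have hqQ : q ∣ Nat.card (Q : Subgroup G) := by
          obtain ⟨n, hn⟩ := IsPGroup.iff_card.mp Q.isPGroup'
          rcases Nat.eq_zero_or_pos n with hn0 | hn0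
          · exfalso
            rw [hn0, pow_zero] at hn
            exact hQne (Subgroup.card_eq_one.mp hn)
          · rw [hn]; exact dvd_pow_self q hn0.ne'
        obtain ⟨x, hx⟩ := exists_prime_orderOf_dvd_card' (G := (Q : Subgroup G)) q hqQ
        have hxE : (x : G) ∈ E := by
          refine ⟨x.2, ?_⟩
          have hxq : x ^ q = 1 := by
            have h := pow_orderOf_eq_one x
            rwa [hx] at h
          simpa using congrArg Subtype.val hxq
        rw [hEbot, Subgroup.mem_bot] at hxE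
        have hx1 : x = 1 := Subtype.ext hxE
        rw [hx1, orderOf_one] at hx
        exact hq.one_lt.ne hx
      · exact h0
    rw [hs] at hEmod ⊢
    have h3 := Helper21_PP8.three_le_of_pow_modEq hp hq hp5 hqdvd hs1 hEmod
    exact Nat.pow_lt_pow_right hq.one_lt (by omega)
  -- the unique maximal A-invariant p-subgroup
  obtain ⟨W, hW, hWmax⟩ := Helper21_PP7.exists_unique_max p q hqp hC hEA hEq hEbig
  have hOpW : ∀ H : Subgroup G, A ≤ H → Helper21_PP2.Op p H ≤ W := fun H hAH =>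
    hWmax _ (Helper21_PP6.Op_mem_Inv p hAH)
  -- centralizers of nonidentity elements of A normalize W
  have hcentW : ∀ x ∈ A, x ≠ 1 → centralizer ({x} : Set G) ≤ normalizer (W : Set G) := by
    intro x hxA hx1 g hg
    set C := centralizer ({x} : Set G) with hCdef
    have hCtop : C ≠ ⊤ := hcent_ne_top x hx1
    have hAC : A ≤ C := by
      intro y hy
      rw [hCdef, Subgroup.mem_centralizer_singleton_iff]
      exact hAab y hy x hxA
    apply mem_normalizer_of_conj_le p hW hWmax g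
    intro y hy
    have h1 := (hlocal C hAC hCtop).1 g hg y (le_sup_left (a := A) hy)
    have h2 : A ⊔ Helper21_PP2.Op p C ≤ normalizer (W : Set G) :=
      sup_le hW.2 ((hOpW C hAC).trans le_normalizer)
    exact h2 h1
  -- P ≤ commSub W K
  have hxne : ∀ i : ℕ, a * b ^ i ≠ 1 := by
    intro i h
    have hbi : b ^ i ∈ zpowers a := by
      have h1 : b ^ i = a⁻¹ := by
        have h2 := congrArg (fun t => a⁻¹ * t) h
        simpa using h2
      rw [h1]; exact (zpowers a).inv_mem (Subgroup.mem_zpowers a)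
    by_cases hqi : q ∣ i
    · obtain ⟨t, rfl⟩ := hqi
      rw [pow_mul, hbq, one_pow, mul_one] at h
      exact ha1 h
    · have hco : Nat.Coprime i q := ((Nat.Prime.coprime_iff_not_dvd hq).mpr hqi).symm
      obtain ⟨m, -, hm⟩ := Nat.exists_mul_mod_eq_one_of_coprime hco hq.one_lt
      have h4 : b ^ (i * m) = b := by rw [pow_eq_pow_mod (i * m) hbq, hm, pow_one]
      apply hba
      rw [← h4, pow_mul]
      exact (zpowers a).pow_mem hbi m
  have hb1 : b ≠ 1 := fun h => hba (h ▸ (zpowers a).one_mem)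
  have hcommP : ∀ y ∈ P, ∀ k ∈ K, ⁅y, k⁆ ∈ P := by
    intro y hy k hk
    rw [commutatorElement_def]
    have e : y * k * y⁻¹ * k⁻¹ = y * (k * y⁻¹ * k⁻¹) := by group
    rw [e]
    exact P.mul_mem hy ((Subgroup.mem_normalizer_iff.mp (hKN hk) _).mp (P.inv_mem hy))
  have hkey : ∀ x ∈ K, x ≠ 1 → P ⊓ centralizer ({x} : Set G) ≤ commSub W K := by
    intro x hxK hx1 y hy
    obtain ⟨hyP, hyC⟩ := Subgroup.mem_inf.mp hy
    have hxA := hKA hxK
    refine ⟨hcentW x hxA hx1 hyC, fun k hk => ?_⟩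
    set C := centralizer ({x} : Set G) with hCdef
    have hCtop : C ≠ ⊤ := hcent_ne_top x hx1
    have hAC : A ≤ C := by
      intro z hz
      rw [hCdef, Subgroup.mem_centralizer_singleton_iff]
      exact hAab z hz x hxA
    have h1 : y * k * y⁻¹ ∈ A ⊔ Helper21_PP2.Op p C :=
      (hlocal C hAC hCtop).1 y hyC k (le_sup_left (a := A) (hKA hk))
    have h2 : ⁅y, k⁆ ∈ A ⊔ Helper21_PP2.Op p C := by
      rw [commutatorElement_def]
      exact Subgroup.mul_mem _ h1 (Subgroup.inv_mem _ (le_sup_left (a := A) (hKA hk)))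
    have h3 : ⁅y, k⁆ ∈ P := hcommP y hyP k hk
    obtain ⟨n, hn⟩ := hPp ⟨⁅y, k⁆, h3⟩
    have hn' : ⁅y, k⁆ ^ p ^ n = 1 := by simpa using congrArg Subtype.val hn
    exact hOpW C hAC (Helper21_PP2.mem_Op_of_pElement p A C hAC hAp _ h2 n hn')
  have hcopP : ¬ q ∣ Nat.card P := by
    obtain ⟨n, hn⟩ := IsPGroup.iff_card.mp hPp
    rw [hn]
    intro h
    exact hqp ((Nat.prime_dvd_prime_iff_eq hq hp).mp (hq.dvd_of_dvd_pow h))
  have hPT : P ≤ commSub W K :=
    Helper48_Generation.le_of_centralizers_le (p := q) P hcopP a b (hKN haK) (hKN hbK) haq hbq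
      (hKab a haK b hbK) _ (hkey b hbK hb1)
      (fun i => hkey (a * b ^ i) (K.mul_mem haK (K.pow_mem hbK i)) (hxne i))
  have hPW : P ≤ W := by
    have hPnW : P ≤ normalizer (W : Set G) := fun y hy => (hPT hy).1
    have hKnW : K ≤ normalizer (W : Set G) := hKA.trans hW.2
    have h0 := Helper21_PP3.eq_of_commutator_le p N P K (W ⊓ P) hPp hPN hKN hcardN hKp
      inf_le_right
      ((le_inf hPnW le_normalizer).trans (Helper21_PP6.normalizer_inf_le W P))
      ((le_inf hKnW hKN).trans (Helper21_PP6.normalizer_inf_le W P))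
      (fun y hy k hk => Subgroup.mem_inf.mpr ⟨(hPT hy).2 k hk, hcommP y hy k hk⟩) hPder
    rw [← h0]; exact inf_le_left
  have hWP : W = P := by
    symm
    apply Subgroup.eq_of_le_of_card_ge hPW
    obtain ⟨a₁, ha₁⟩ := IsPGroup.iff_card.mp hPp
    obtain ⟨b₁, hb₁⟩ := IsPGroup.iff_card.mp hW.1
    have h1 : p ^ b₁ ∣ p ^ a₁ * P.index := by
      rw [← hb₁, ← ha₁, mul_comm, Subgroup.index_mul_card]
      exact Subgroup.card_subgroup_dvd_card W
    have h2 : p ^ b₁ ∣ p ^ a₁ := by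
      apply Nat.Coprime.dvd_of_dvd_mul_right _ h1
      apply Nat.Coprime.pow_left
      exact (Nat.Prime.coprime_iff_not_dvd hp).mpr hPi
    rw [hb₁, ha₁]
    exact Nat.le_of_dvd (pow_pos hp.pos a₁) h2
  have hAN : A ≤ N := by rw [hN, ← hWP]; exact hW.2
  have hAK : A = K := by
    symm
    apply Subgroup.eq_of_le_of_card_ge hKA
    have h1 : Nat.card A ∣ Nat.card P * Nat.card K := by
      rw [← hcardN]; exact Subgroup.card_dvd_of_le hAN
    have h2 : Nat.card A ∣ Nat.card K := by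
      apply Nat.Coprime.dvd_of_dvd_mul_left _ h1
      obtain ⟨n, hn⟩ := IsPGroup.iff_card.mp hPp
      rw [hn]; exact Nat.Coprime.pow_right n hAp
    exact Nat.le_of_dvd Nat.card_pos h2
  have hKPdisj : K ⊓ P = ⊥ := by
    apply disjoint_iff.mp
    apply Subgroup.disjoint_of_coprime_natCard
    obtain ⟨n, hn⟩ := IsPGroup.iff_card.mp hPp
    rw [hn]; exact Nat.Coprime.pow_right n hKp
  have hNKP : N ≤ K ⊔ P := by
    have h1 := Helper1_FPF.card_sup_of_le_normalizer K P hKN hKPdisj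
    have h2 : K ⊔ P = N := by
      apply Subgroup.eq_of_le_of_card_ge (sup_le hKN hPN)
      rw [h1, hcardN, mul_comm]
    rw [h2]
  have hQPdisj : (Q : Subgroup G) ⊓ P = ⊥ := by
    apply disjoint_iff.mp
    apply Subgroup.disjoint_of_coprime_natCard
    obtain ⟨n, hn⟩ := IsPGroup.iff_card.mp hPp
    obtain ⟨m, hm⟩ := IsPGroup.iff_card.mp Q.isPGroup'
    rw [hn, hm]
    exact Nat.Coprime.pow _ _ ((Nat.coprime_primes hq hp).mpr hqp)
  -- normalizer Q centralizes Q
  have hQcent : ∀ g ∈ normalizer ((Q : Subgroup G) : Set G), ∀ u ∈ Q, g * u * g⁻¹ = u := by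
    intro g hg u hu
    obtain ⟨z₀, hz₀Q, hz₀1⟩ := (Subgroup.bot_or_exists_ne_one (Q : Subgroup G)).resolve_left hQne
    have hz'Q : g * z₀ * g⁻¹ ∈ (Q : Subgroup G) :=
      (Subgroup.mem_normalizer_iff.mp hg z₀).mp hz₀Q
    have hz'1 : g * z₀ * g⁻¹ ≠ 1 := by
      intro h
      apply hz₀1
      have e : z₀ = g⁻¹ * (g * z₀ * g⁻¹) * g := by group
      rw [e, h]; group
    have hgN : g ∈ normalizer (W : Set G) := by
      apply mem_normalizer_of_conj_le p hW hWmax g
      intro y hy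
      apply hcentW (g * z₀ * g⁻¹) (hQA hz'Q) hz'1
      rw [Subgroup.mem_centralizer_singleton_iff]
      have hc : y * z₀ = z₀ * y := hAab y hy z₀ (hQA hz₀Q)
      calc g * y * g⁻¹ * (g * z₀ * g⁻¹) = g * (y * z₀) * g⁻¹ := by group
        _ = g * (z₀ * y) * g⁻¹ := by rw [hc]
        _ = g * z₀ * g⁻¹ * (g * y * g⁻¹) := by group
    rw [hWP] at hgN
    have hg' : g ∈ ((K ⊔ P : Subgroup G) : Set G) := hNKP hgN
    rw [Subgroup.coe_mul_of_left_le_normalizer_right K P hKN] at hg'
    obtain ⟨k, hk, y, hy, rfl⟩ := Set.mem_mul.mp hg'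
    have huK : u ∈ K := hAK ▸ hQA hu
    have hvQ : k * y * u * (k * y)⁻¹ ∈ (Q : Subgroup G) :=
      (Subgroup.mem_normalizer_iff.mp hg u).mp hu
    set v := k * y * u * (k * y)⁻¹ with hv
    have hvK : v ∈ K := hAK ▸ hQA hvQ
    have h1 : y * u * y⁻¹ = v := by
      have e1 : y * u * y⁻¹ = k⁻¹ * v * k := by rw [hv]; group
      have e2 : k⁻¹ * v * k = v := by
        have hc : k⁻¹ * v = v * k⁻¹ := hKab k⁻¹ (K.inv_mem hk) v hvK
        rw [hc]; group
      rw [e1, e2]
    have h2 : ⁅y, u⁆ ∈ (Q : Subgroup G) ⊓ P := by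
      refine Subgroup.mem_inf.mpr ⟨?_, hcommP y hy u huK⟩
      rw [commutatorElement_def, h1]
      exact Subgroup.mul_mem _ hvQ (Subgroup.inv_mem _ hu)
    rw [hQPdisj, Subgroup.mem_bot, commutatorElement_def, h1] at h2
    exact mul_inv_eq_one.mp h2
  apply hQne
  rw [eq_bot_iff]
  intro z hz
  rw [Subgroup.mem_bot]
  exact hQfix z hz (fun n hn => hQcent n hn z hz)

end Cfsg.Agent.Lib.Helper21_PP9
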