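import Cfsg.Agent.Lib.Helper50_PUDefs
import Cfsg.Agent.Lib.Helper51_Offender

/-!
# pu market (S2768/S2769/S2770), package CENTELT

`C_V(a) = C_V(S)` for `a ∈ S \ O_p(G)`.
-/

set_option autoImplicit false

namespace Cfsg.Agent.Lib.Helper21_PU_CENTELT

open scoped commutatorElement
open Cfsg.Agent.Lib.Helper50_PUDefs Cfsg.Agent.Lib.Helper51_Offender Cfsg.Agent.Lib.Helper72_AbelianJ

section Main

variable {G : Type*} [Group G] [Finite G] {p : ℕ} [Fact p.Prime] {S : Sylow p G}

local notation "Q" => Cfsg.pCore p G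
local notation "V" => VS (S : Subgroup G)
local notation "Z" => ZS (S : Subgroup G)
local notation "J" => JS (S : Subgroup G)
local notation "Y" => YS (S : Subgroup G)
local notation "B" => BS (S : Subgroup G)
local notation "ZD" => YS (Cfsg.pCore p G)
local notation "LJ" => Subgroup.normalClosure ((JS (S : Subgroup G) : Subgroup G) : Set G)
local notation "Q₀" => Cfsg.pCore p G ⊓ Subgroup.centralizer ((YS (S : Subgroup G) : Subgroup G) : Set G)

-- PKG CENTELT
theorem cent_elt (h : MainCase p S) (T : Sylow p G) (htr : Transp p S T) (hvx : VXFacts p S T)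
    (hc : Nat.card ↥(V ⊓ Subgroup.center G) * Nat.card V =
        Nat.card (CV V (S : Subgroup G)) * Nat.card (CV V (S : Subgroup G)))
    (a : G) (ha : a ∈ (S : Subgroup G)) (haQ : a ∉ Q) :
    V ⊓ Subgroup.centralizer ({a} : Set G) = CV V (S : Subgroup G) := by
  -- `C_V(S) ≤ C_V(a)`
  have hle : CV V (S : Subgroup G) ≤ V ⊓ Subgroup.centralizer ({a} : Set G) := by
    unfold CV
    refine inf_le_inf_left _ (Subgroup.centralizer_le ?_)
    intro x hx
    rw [Set.mem_singleton_iff] at hx
    rw [hx]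
    exact ha
  -- the counting
  have h1 := card_mul_card_le (V ⊓ Subgroup.centralizer ({a} : Set G)) (CV V (T : Subgroup G))
  rw [hvx.left a ha haQ, htr.cardCV] at h1
  have h2 : Nat.card ↥((V ⊓ Subgroup.centralizer ({a} : Set G)) ⊔ CV V (T : Subgroup G)) ≤
      Nat.card V := by
    refine Subgroup.card_le_of_le (sup_le inf_le_left ?_)
    unfold CV
    exact inf_le_left
  have hpos : 0 < Nat.card (CV V (S : Subgroup G)) := Nat.card_pos
  have h3 : Nat.card ↥(V ⊓ Subgroup.centralizer ({a} : Set G)) * Nat.card (CV V (S : Subgroup G)) ≤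
      Nat.card (CV V (S : Subgroup G)) * Nat.card (CV V (S : Subgroup G)) := by
    calc Nat.card ↥(V ⊓ Subgroup.centralizer ({a} : Set G)) * Nat.card (CV V (S : Subgroup G))
        ≤ Nat.card ↥((V ⊓ Subgroup.centralizer ({a} : Set G)) ⊔ CV V (T : Subgroup G)) *
            Nat.card ↥(V ⊓ Subgroup.center G) := h1
      _ ≤ Nat.card V * Nat.card ↥(V ⊓ Subgroup.center G) := Nat.mul_le_mul_right _ h2
      _ = Nat.card (CV V (S : Subgroup G)) * Nat.card (CV V (S : Subgroup G)) := by
          rw [mul_comm, hc]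
  have h4 : Nat.card ↥(V ⊓ Subgroup.centralizer ({a} : Set G)) ≤ Nat.card (CV V (S : Subgroup G)) :=
    Nat.le_of_mul_le_mul_right h3 hpos
  exact (Subgroup.eq_of_le_of_card_ge hle h4).symm

end Main

end Cfsg.Agent.Lib.Helper21_PU_CENTELT
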