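import Mathlib
import Cfsg.Agent.Lib.Helper22_StOmDefs

set_option autoImplicit false
set_option linter.unusedSectionVars false

namespace Cfsg.Agent.Lib.Helper22_StOm_CARDB

open Matrix Cfsg.Agent.Lib.Helper68_MatGrp Cfsg.Agent.Lib.Helper22_BlkGrp Cfsg.Agent.Lib.Helper22_StOmDefs

/-- a finite group all of whose elements have `p`-power order has `p`-power order -/
theorem card_pow_of_forall {G : Type*} [Group G] [Finite G] (p : ℕ) [Fact p.Prime]
    (h : ∀ g : G, ∃ k : ℕ, g ^ (p ^ k) = 1) : ∃ k : ℕ, Nat.card G = p ^ k :=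
  IsPGroup.exists_card_eq (p := p) (G := G) h

/-- `|G| = |ker f| * |range f|` -/
theorem card_eq_ker_mul_range {G H : Type*} [Group G] [Group H] (f : G →* H) :
    Nat.card G = Nat.card f.ker * Nat.card f.range := by
  rw [← Subgroup.index_ker, Subgroup.card_mul_index]

/-- the abstract counting argument -/
theorem card_abs {O : Type*} [Group O] [Finite O] (Om : Subgroup O) [Om.Normal]
    (Bw Tw : Subgroup Om) (p : ℕ) [Fact p.Prime]
    (δ' : Bw →* O)
    (ha : ∀ b : Bw, δ' b = 1 → ∃ k : ℕ, b ^ (p ^ k) = 1)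
    (hb : ∀ t : Bw, t.1 ∈ Tw → δ' t = t.1.1)
    (hc : ∀ (b : Bw) (h : δ' b ∈ Om), (⟨δ' b, h⟩ : Om) ∈ Tw)
    (hd : ∀ b : Bw, ∃ k : ℕ, ((δ' b)⁻¹ * b.1.1) ^ (p ^ k) = 1)
    (hTB : Tw ≤ Bw) :
    ∃ k : ℕ, Nat.card Bw = Nat.card Tw * p ^ k := by
  classical
  set ψ : Bw →* O ⧸ Om := (QuotientGroup.mk' Om).comp δ' with hψ
  -- the range of ψ is a p-group
  have h1 : ∀ y : ψ.range, ∃ k : ℕ, y ^ (p ^ k) = 1 := by
    rintro ⟨y, b, rfl⟩
    obtain ⟨k, hk⟩ := hd b
    refine ⟨k, ?_⟩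
    apply Subtype.ext
    rw [Subgroup.coe_pow, Subgroup.coe_one]
    show ((QuotientGroup.mk (δ' b) : O ⧸ Om)) ^ (p ^ k) = 1
    have e1 : (QuotientGroup.mk (b.1.1) : O ⧸ Om) = 1 := (QuotientGroup.eq_one_iff _).2 b.1.2
    have e2 : (QuotientGroup.mk ((δ' b)⁻¹ * b.1.1) : O ⧸ Om) = (QuotientGroup.mk (δ' b) : O ⧸ Om)⁻¹ := by
      rw [QuotientGroup.mk_mul, e1, mul_one, QuotientGroup.mk_inv]
    have e3 : (QuotientGroup.mk (((δ' b)⁻¹ * b.1.1) ^ (p ^ k)) : O ⧸ Om) = 1 := by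
      rw [hk]; rfl
    rw [QuotientGroup.mk_pow, e2, inv_pow, inv_eq_one] at e3
    exact e3
  obtain ⟨j, hj⟩ := card_pow_of_forall p h1
  -- the kernel of ψ maps onto Tw
  have hker : ∀ b : ψ.ker, δ' b.1 ∈ Om := by
    intro b
    have := b.2
    rw [MonoidHom.mem_ker] at this
    exact (QuotientGroup.eq_one_iff _).1 this
  let θ : ψ.ker →* Tw :=
    { toFun := fun b => ⟨⟨δ' b.1, hker b⟩, hc b.1 (hker b)⟩
      map_one' := by
        apply Subtype.ext; apply Subtype.ext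
        show δ' (1 : Bw) = 1
        exact map_one _
      map_mul' := by
        intro x y
        apply Subtype.ext; apply Subtype.ext
        show δ' (x.1 * y.1) = δ' x.1 * δ' y.1
        exact map_mul _ _ _ }
  have hθs : Function.Surjective θ := by
    intro t
    have htB : t.1 ∈ Bw := hTB t.2
    have e : δ' ⟨t.1, htB⟩ = t.1.1 := hb ⟨t.1, htB⟩ t.2
    have hmem : (⟨t.1, htB⟩ : Bw) ∈ ψ.ker := by
      rw [MonoidHom.mem_ker]
      show (QuotientGroup.mk (δ' ⟨t.1, htB⟩) : O ⧸ Om) = 1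
      rw [e]
      exact (QuotientGroup.eq_one_iff _).2 t.1.2
    refine ⟨⟨⟨t.1, htB⟩, hmem⟩, ?_⟩
    apply Subtype.ext; apply Subtype.ext
    exact e
  have h2 : ∀ b : θ.ker, ∃ k : ℕ, b ^ (p ^ k) = 1 := by
    intro b
    have hb1 : θ b.1 = 1 := b.2
    have hb2 : δ' b.1.1 = 1 := by
      have := congrArg (fun t : Tw => t.1.1) hb1
      exact this
    obtain ⟨k, hk⟩ := ha b.1.1 hb2
    refine ⟨k, ?_⟩
    apply Subtype.ext; apply Subtype.ext
    rw [Subgroup.coe_pow, Subgroup.coe_pow, Subgroup.coe_one, Subgroup.coe_one]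
    exact hk
  obtain ⟨i, hi⟩ := card_pow_of_forall p h2
  have h3 : Nat.card ψ.ker = Nat.card θ.ker * Nat.card Tw := by
    rw [card_eq_ker_mul_range θ, MonoidHom.range_eq_top.2 hθs, Subgroup.card_top]
  refine ⟨i + j, ?_⟩
  rw [card_eq_ker_mul_range ψ, h3, hi, hj, pow_add]
  ring

variable {m : ℕ} {F : Type*} [Field F] [Fintype F] {A B : F} [Fact (Aniso A B)]

/-- the inclusion of `Boo` into `BO` -/
def incl (m : ℕ) (F : Type*) [Field F] (A B : F) : ↥(Boo m F A B) →* ↥(BO m F A B) where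
  toFun b := ⟨b.1.1, b.2⟩
  map_one' := rfl
  map_mul' _ _ := rfl

theorem card_Boo (p : ℕ) [Fact p.Prime] [CharP F p]
    (δ : ↥(BO m F A B) →* OO m F A B)
    (hδ : ∀ (b : ↥(BO m F A B)) (x y : I m),
      φO m F A B (δ b) x y = if ht m x = ht m y then φO m F A B b.1 x y else 0)
    (hP : ∀ u : OO m F A B, u ∈ BO m F A B →
      (∀ x y : I m, ht m x = ht m y → φO m F A B u x y = if x = y then 1 else 0) →
      ∃ k : ℕ, u ^ (p ^ k) = 1) :
    ∃ k : ℕ, Nat.card (Boo m F A B) = Nat.card (Too m F A B) * p ^ k := by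
  classical
  have : Finite (OO m F A B) := Subtype.finite
  -- block diagonal values
  have hdiag : ∀ b : ↥(BO m F A B), δ b ∈ BO m F A B := by
    intro b
    rw [mem_BO]
    intro x y hxy
    rw [hδ, if_neg (by omega)]
  have hfix : ∀ b : ↥(BO m F A B), δ ⟨δ b, hdiag b⟩ = δ b := by
    intro b
    apply φO_injective
    ext x y
    rw [hδ]
    by_cases h : ht m x = ht m y
    · rw [if_pos h]
    · rw [if_neg h, hδ, if_neg h]
  refine card_abs (Cfsg.Omega F (⇑(Qm m F A B))) (Boo m F A B) (Too m F A B) p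
    (δ.comp (incl m F A B)) ?_ ?_ ?_ ?_ Too_le_Boo
  · -- the kernel is a `p`-group
    intro b hb
    have hb' : δ (incl m F A B b) = 1 := hb
    obtain ⟨k, hk⟩ := hP b.1.1 b.2 (by
      intro x y hxy
      have := hδ (incl m F A B b) x y
      rw [hb', if_pos hxy, map_one, Matrix.one_apply] at this
      exact this.symm)
    refine ⟨k, ?_⟩
    apply Subtype.ext; apply Subtype.ext
    rw [Subgroup.coe_pow, Subgroup.coe_pow, Subgroup.coe_one, Subgroup.coe_one]
    exact hk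
  · -- `δ` is the identity on the torus
    intro t ht'
    apply φO_injective
    ext x y
    show φO m F A B (δ (incl m F A B t)) x y = _
    rw [hδ]
    by_cases h : ht m x = ht m y
    · rw [if_pos h]
      rfl
    · rw [if_neg h]
      exact ((mem_Too.1 ht') x y h).symm
  · -- values in `Ω` are in the torus
    intro b h
    rw [mem_Too]
    intro x y hxy
    rw [φ_apply]
    show φO m F A B (δ (incl m F A B b)) x y = 0
    rw [hδ, if_neg hxy]
  · -- the unipotent part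
    intro b
    set b' := incl m F A B b with hb'
    have hu : (δ b')⁻¹ * b.1.1 ∈ BO m F A B :=
      (BO m F A B).mul_mem ((BO m F A B).inv_mem (hdiag b')) b.2
    have e : (⟨(δ b')⁻¹ * b.1.1, hu⟩ : ↥(BO m F A B)) = (⟨δ b', hdiag b'⟩ : ↥(BO m F A B))⁻¹ * b' := rfl
    have e1 : δ ⟨(δ b')⁻¹ * b.1.1, hu⟩ = 1 := by
      rw [e, map_mul, map_inv, hfix, inv_mul_cancel]
    exact hP _ hu (by
      intro x y hxy
      have := hδ ⟨(δ b')⁻¹ * b.1.1, hu⟩ x y
      rw [e1, if_pos hxy, map_one, Matrix.one_apply] at this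
      exact this.symm)

end Cfsg.Agent.Lib.Helper22_StOm_CARDB
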