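import Mathlib
import Cfsg.Agent.Lib.Helper22_StOmDefs
import Cfsg.Agent.Lib.Helper79_StOm_SQ

/-!
# S2549 package OPPS (architect helper22): conjugation of a twisted root element by its Weyl representative
-/

set_option autoImplicit false
set_option linter.unusedSimpArgs false
set_option linter.unusedSectionVars false

namespace Cfsg.Agent.Lib.Helper22_StOm_OPPS

open Matrix Cfsg.Agent.Lib.Helper68_MatGrp Cfsg.Agent.Lib.Helper22_BlkGrp Cfsg.Agent.Lib.Helper22_StOmDefs

variable {m : ℕ} {F : Type*} [Field F] [Fintype F] {A B : F} [Fact (Aniso A B)]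

set_option maxHeartbeats 1600000 in
theorem wsM_sxM_wsM {c : I m} (hc : ¬ IsPl c) (s t : F) :
    (wsM A c : Matrix (I m) (I m) F) * sxM A B c s t * wsM A c = sxM A B (op c) (s + A * t) (-t) := by
  have hopc : ¬ IsPl (op c) := fun e => hc (isPl_op.mp e)
  have h1 : c ≠ op c := fun e => op_ne_self hc e.symm
  have h2 : c ≠ d0 := fun e => hc (Or.inl e)
  have h3 : c ≠ d1 := fun e => hc (Or.inr e)
  have h4 : op c ≠ d0 := fun e => hopc (Or.inl e)
  have h5 : op c ≠ d1 := fun e => hopc (Or.inr e)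
  have h6 : (d0 : I m) ≠ d1 := d0_ne_d1
  unfold wsM sxM nrm
  rw [op_op]
  simp only [Matrix.add_mul, Matrix.sub_mul, Matrix.mul_add, Matrix.mul_sub, Matrix.one_mul,
    Matrix.mul_one, Matrix.single_mul_single_same,
    Matrix.single_mul_single_of_ne _ _ _ _ h1, Matrix.single_mul_single_of_ne _ _ _ _ h1.symm,
    Matrix.single_mul_single_of_ne _ _ _ _ h2, Matrix.single_mul_single_of_ne _ _ _ _ h2.symm,
    Matrix.single_mul_single_of_ne _ _ _ _ h3, Matrix.single_mul_single_of_ne _ _ _ _ h3.symm,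
    Matrix.single_mul_single_of_ne _ _ _ _ h4, Matrix.single_mul_single_of_ne _ _ _ _ h4.symm,
    Matrix.single_mul_single_of_ne _ _ _ _ h5, Matrix.single_mul_single_of_ne _ _ _ _ h5.symm,
    Matrix.single_mul_single_of_ne _ _ _ _ h6, Matrix.single_mul_single_of_ne _ _ _ _ h6.symm,
    Matrix.zero_mul, Matrix.mul_zero, sub_zero, add_zero, zero_add, zero_sub]
  obtain ⟨E, hE⟩ : ∃ E : I m → I m → Matrix (I m) (I m) F, ∀ i j (c : F), single i j c = c • E i j :=
    ⟨fun i j => single i j 1, fun i j c => by rw [Matrix.smul_single, smul_eq_mul, mul_one]⟩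
  simp only [hE]
  module

theorem ws_inv {c : I m} (hc : ¬ IsPl c) : (ws A B c)⁻¹ = ws A B c :=
  inv_eq_of_mul_eq_one_left (Cfsg.Agent.Lib.Helper79_StOm_SQ.ws_sq hc)

theorem oppS' {c : I m} (hc : ¬ IsPl c) (s t : F) :
    ws A B c * sx A B c s t * (ws A B c)⁻¹ = sx A B (op c) (s + A * t) (-t) := by
  have hopc : ¬ IsPl (op c) := fun e => hc (isPl_op.mp e)
  rw [ws_inv hc]
  apply φ_injective
  rw [map_mul, map_mul, ws_val hc, sx_val hc, sx_val hopc, wsM_sxM_wsM hc]

theorem oppS {c : I m} (hc : ¬ IsPl c) (s t : F) :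
    (ws A B c)⁻¹ * sx A B c s t * ws A B c = sx A B (op c) (s + A * t) (-t) := by
  have h := oppS' (A := A) (B := B) hc s t
  rw [ws_inv hc] at h ⊢
  exact h

end Cfsg.Agent.Lib.Helper22_StOm_OPPS
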