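import Mathlib
import Cfsg.Agent.Lib.Helper22_StOmDefs

/-!
# S2549 package INJ (architect helper22): distinct simple reflections of `Ω⁻_{2m+2}(q)` are distinct
modulo `B`.  (port of `Helper55_StOo_INJ`)
-/

set_option autoImplicit false
set_option linter.unusedSectionVars false

namespace Cfsg.Agent.Lib.Helper26_StOm_INJ

open Matrix Cfsg.Agent.Lib.Helper68_MatGrp Cfsg.Agent.Lib.Helper22_BlkGrp Cfsg.Agent.Lib.Helper22_StOmDefs

variable {m : ℕ} {F : Type*} [Field F] [Fintype F] {A B : F} [Fact (Aniso A B)]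

/-- the permutation of the `j`-th simple reflection -/
noncomputable def sig (j : Fin m) : Equiv.Perm (I m) :=
  if h : j.val + 1 < m then
    Equiv.swap (ie j) (ie ⟨j.val + 1, h⟩) * Equiv.swap (jf j) (jf ⟨j.val + 1, h⟩)
  else Equiv.swap (ie j) (jf j)

/-- the permutation of the `j`-th simple reflection fixes `ie i` for `i < j` -/
theorem sig_fix (i j : Fin m) (hij : i < j) : sig j (ie i) = ie i := by
  have hij' : i.val < j.val := hij
  unfold sig
  by_cases h : j.val + 1 < m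
  · rw [dif_pos h]
    have h1 : (ie i : I m) ≠ ie j := fun e => by
      have := congrArg Fin.val (ie_injective e); omega
    have h2 : (ie i : I m) ≠ ie (⟨j.val + 1, h⟩ : Fin m) := fun e => by
      have := congrArg Fin.val (ie_injective e); simp only at this; omega
    have h3 : (ie i : I m) ≠ jf j := ie_ne_jf i j
    have h4 : (ie i : I m) ≠ jf (⟨j.val + 1, h⟩ : Fin m) := ie_ne_jf i _
    rw [Equiv.Perm.mul_apply, Equiv.swap_apply_of_ne_of_ne h3 h4,
      Equiv.swap_apply_of_ne_of_ne h1 h2]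
  · rw [dif_neg h]
    have h1 : (ie i : I m) ≠ ie j := fun e => by
      have := congrArg Fin.val (ie_injective e); omega
    have h3 : (ie i : I m) ≠ jf j := ie_ne_jf i j
    rw [Equiv.swap_apply_of_ne_of_ne h1 h3]

theorem ss_not_mem_of_lt
    (hmono : ∀ j : Fin m, IsBMono2 (φ m F A B) (ht m) (ss A B j) (sig j))
    (i j : Fin m) (hij : i < j) :
    (ss A B i)⁻¹ * ss A B j ∉ Boo m F A B := by
  intro hB
  have hij' : i.val < j.val := hij
  have hi : i.val + 1 < m := by have := j.2; omega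
  have hσi := hmono i
  have hσj := hmono j
  have hg : IsBMono (φ m F A B) (ht m) ((ss A B i)⁻¹ * ss A B j) ((sig i)⁻¹ * sig j) :=
    hσi.inv.2.1.mul hσi.inv.1 hσj.2.1
  obtain ⟨a, ha, hne⟩ := hg.exists_ne_zero (ie i)
  have hrow : ((sig i)⁻¹ * sig j) (ie i) = ie (⟨i.val + 1, hi⟩ : Fin m) := by
    rw [Equiv.Perm.mul_apply, sig_fix i j hij, Equiv.Perm.inv_eq_iff_eq]
    unfold sig
    rw [dif_pos hi, Equiv.Perm.mul_apply]
    have h3 : (ie (⟨i.val + 1, hi⟩ : Fin m) : I m) ≠ jf i := ie_ne_jf _ i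
    have h4 : (ie (⟨i.val + 1, hi⟩ : Fin m) : I m) ≠ jf (⟨i.val + 1, hi⟩ : Fin m) := ie_ne_jf _ _
    rw [Equiv.swap_apply_of_ne_of_ne h3 h4, Equiv.swap_apply_right]
  rw [hrow, ht_ie] at ha
  apply hne
  apply (mem_Boo).1 hB
  rw [ht_ie, ha]
  simp only
  omega

theorem ss_inj
    (hmono : ∀ j : Fin m, ∃ σ : Equiv.Perm (I m), IsBMono2 (φ m F A B) (ht m) (ss A B j) σ ∧
      σ = if h : j.val + 1 < m then Equiv.swap (ie j) (ie ⟨j.val + 1, h⟩) * Equiv.swap (jf j) (jf ⟨j.val + 1, h⟩)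
        else Equiv.swap (ie j) (jf j))
    (i j : Fin m) (h : (ss A B i)⁻¹ * ss A B j ∈ Boo m F A B) : i = j := by
  have hmono' : ∀ j : Fin m, IsBMono2 (φ m F A B) (ht m) (ss A B j) (sig j) := by
    intro j
    obtain ⟨σ, hσ, e⟩ := hmono j
    have : σ = sig j := e
    rw [← this]
    exact hσ
  by_contra hne
  rcases lt_or_gt_of_ne hne with hlt | hgt
  · exact ss_not_mem_of_lt hmono' i j hlt h
  · apply ss_not_mem_of_lt hmono' j i hgt
    have := (Boo m F A B).inv_mem h
    rwa [_root_.mul_inv_rev, inv_inv] at this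

end Cfsg.Agent.Lib.Helper26_StOm_INJ
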