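import Mathlib
import Cfsg.Agent.Lib.Helper22_StOmDefs

/-!
# S2549 (Steinberg character of `PΩ⁻_{2m+2}(q)`), package R1S (architect helper22)

`r1S` : (R1) for the twisted simple root.  By-products: `conj_inv_mem_Boo` (local copy of CONJB), `sx_mem` (local copy of
XB), `mul_sxM_apply`, `diag_ne_zero` (the diagonal entries outside the plane of a block triangular element).
-/

set_option autoImplicit false
set_option linter.unusedSectionVars false
set_option linter.unusedSimpArgs false

namespace Cfsg.Agent.Lib.Helper36_StOm_R1S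

open Matrix Cfsg.Agent.Lib.Helper68_MatGrp Cfsg.Agent.Lib.Helper22_BlkGrp Cfsg.Agent.Lib.Helper22_StOmDefs

variable {m : ℕ} {F : Type*} [Field F] [Fintype F] {A B : F} [Fact (Aniso A B)]

/-- conjugation `n g n⁻¹` by a block monomial element into `B` (local copy of CONJB) -/
theorem conj_inv_mem_Boo {n : GO m F A B} {σ : Equiv.Perm (I m)}
    (hn : IsBMono2 (φ m F A B) (ht m) n σ) (g : GO m F A B)
    (h : ∀ a b c d, ht m b < ht m a → ht m c = ht m (σ⁻¹ a) → ht m d = ht m (σ⁻¹ b) → φ m F A B g c d = 0) :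
    n * g * n⁻¹ ∈ Boo m F A B := by
  rw [mem_Boo]
  intro a b hab
  by_contra hne
  have e : n * g * n⁻¹ = (n⁻¹)⁻¹ * g * n⁻¹ := by rw [inv_inv]
  rw [e] at hne
  obtain ⟨c, d, hcd, hc, hd⟩ := hn.inv.conj_ne_zero g hne
  exact hcd (h a b c d hab hc hd)

/-- the entries of a product with a matrix unit -/
theorem mul_single_apply' (M : Matrix (I m) (I m) F) (a b : I m) (v : F) (x y : I m) :
    (M * Matrix.single a b v) x y = if y = b then M x a * v else 0 := by
  by_cases h : y = b
  · rw [if_pos h, h, Matrix.mul_single_apply_same]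
  · rw [if_neg h, Matrix.mul_single_apply_of_ne _ _ _ _ _ h]

/-- the entries of a product with a twisted root matrix -/
theorem mul_sxM_apply (M : Matrix (I m) (I m) F) (c : I m) (s t : F) (x y : I m) :
    (M * sxM A B c s t) x y = M x y + (if y = op c then M x d0 * s else 0) + (if y = op c then M x d1 * t else 0)
      - (if y = d0 then M x c * (2 * s + A * t) else 0) - (if y = d1 then M x c * (A * s + 2 * B * t) else 0)
      - (if y = op c then M x c * nrm A B s t else 0) := by
  unfold sxM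
  simp only [Matrix.mul_add, Matrix.mul_sub, Matrix.mul_one, Matrix.add_apply, Matrix.sub_apply, mul_single_apply']

/-- positive twisted root elements are block upper triangular (local copy of XB) -/
theorem sx_mem (i : Fin m) (s t : F) : sx A B (ie i) s t ∈ Boo m F A B := by
  rw [mem_Boo]
  intro x y hxy
  rw [sx_val (not_isPl_ie i)]
  have h := mul_sxM_apply (A := A) (B := B) (1 : Matrix (I m) (I m) F) (ie i) s t x y
  rw [Matrix.one_mul] at h
  rw [h]
  have hi := i.2
  have hxy' : x ≠ y := fun e => by rw [e] at hxy; exact lt_irrefl _ hxy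
  rw [Matrix.one_apply_ne hxy']
  have e1 : ∀ v : F, (if y = op (ie i) then (1 : Matrix (I m) (I m) F) x d0 * v else 0) = 0 := by
    intro v
    split_ifs with h1
    · have hx : x ≠ d0 := by
        intro e
        rw [e, h1, op_ie, ht_jf, ht_d0] at hxy
        omega
      rw [Matrix.one_apply_ne hx, zero_mul]
    · rfl
  have e1' : ∀ v : F, (if y = op (ie i) then (1 : Matrix (I m) (I m) F) x d1 * v else 0) = 0 := by
    intro v
    split_ifs with h1
    · have hx : x ≠ d1 := by
        intro e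
        rw [e, h1, op_ie, ht_jf, ht_d1] at hxy
        omega
      rw [Matrix.one_apply_ne hx, zero_mul]
    · rfl
  have e2 : ∀ v : F, (if y = d0 then (1 : Matrix (I m) (I m) F) x (ie i) * v else 0) = 0 := by
    intro v
    split_ifs with h1
    · have hx : x ≠ ie i := by
        intro e
        rw [e, h1, ht_ie, ht_d0] at hxy
        omega
      rw [Matrix.one_apply_ne hx, zero_mul]
    · rfl
  have e2' : ∀ v : F, (if y = d1 then (1 : Matrix (I m) (I m) F) x (ie i) * v else 0) = 0 := by
    intro v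
    split_ifs with h1
    · have hx : x ≠ ie i := by
        intro e
        rw [e, h1, ht_ie, ht_d1] at hxy
        omega
      rw [Matrix.one_apply_ne hx, zero_mul]
    · rfl
  have e3 : ∀ v : F, (if y = op (ie i) then (1 : Matrix (I m) (I m) F) x (ie i) * v else 0) = 0 := by
    intro v
    split_ifs with h1
    · have hx : x ≠ ie i := by
        intro e
        rw [e, h1, op_ie, ht_jf, ht_ie] at hxy
        omega
      rw [Matrix.one_apply_ne hx, zero_mul]
    · rfl
  rw [e1, e1', e2, e2', e3]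
  simp

/-- the diagonal entries outside the plane of a block upper triangular element do not vanish -/
theorem diag_ne_zero {g : GO m F A B} (hg : g ∈ Boo m F A B) {a : I m} (ha : ¬ IsPl a) :
    φ m F A B g a a ≠ 0 := by
  have hg' := mem_Boo.mp hg
  have hginv' := mem_Boo.mp ((Boo m F A B).inv_mem hg)
  have hone : φ m F A B g * φ m F A B g⁻¹ = 1 := map_mul_inv (φ m F A B) g
  have h1 : (φ m F A B g * φ m F A B g⁻¹) a a = φ m F A B g a a * φ m F A B g⁻¹ a a := by
    rw [Matrix.mul_apply]
    apply Finset.sum_eq_single a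
    · intro d _ hd
      have hne : ht m d ≠ ht m a := fun e => hd (eq_of_ht_eq e.symm ha).symm
      rcases lt_or_gt_of_ne hne with hlt | hlt
      · rw [hg' _ _ hlt, zero_mul]
      · rw [hginv' _ _ hlt, mul_zero]
    · intro h
      exact absurd (Finset.mem_univ a) h
  rw [hone, Matrix.one_apply_eq] at h1
  intro h0
  rw [h0, zero_mul] at h1
  exact one_ne_zero h1

/-- the heights under the transposition `(e_i f_i)` (`i = m - 1`) -/
theorem swapS_cases (i : Fin m) (hi : i.val + 1 = m) (x : I m) :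
    (ht m x + 1 = m ∧ ht m (Equiv.swap (ie i) (jf i) x) = m + 1) ∨
    (ht m x = m + 1 ∧ ht m (Equiv.swap (ie i) (jf i) x) + 1 = m) ∨
    (ht m (Equiv.swap (ie i) (jf i) x) = ht m x ∧ ht m x + 1 ≠ m ∧ ht m x ≠ m + 1) := by
  have hi' := i.2
  by_cases h1 : x = ie i
  · left
    rw [h1, Equiv.swap_apply_left, ht_ie, ht_jf]
    omega
  · by_cases h2 : x = jf i
    · right; left
      rw [h2, Equiv.swap_apply_right, ht_ie, ht_jf]
      omega
    · right; right
      rw [Equiv.swap_apply_of_ne_of_ne h1 h2]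
      refine ⟨rfl, ?_, ?_⟩
      · intro h
        apply h1
        refine (eq_of_ht_eq ?_ (not_isPl_ie i)).symm
        rw [ht_ie]; omega
      · intro h
        apply h2
        refine (eq_of_ht_eq ?_ (not_isPl_jf i)).symm
        rw [ht_jf]; omega

/-- the height combinatorics for the twisted simple root -/
theorem short_heights (i : Fin m) (hi : i.val + 1 = m) {c : GO m F A B}
    (hc : c ∈ Boo m F A B) (h10 : φ m F A B c (ie i) d0 = 0) (h11 : φ m F A B c (ie i) d1 = 0)
    (h20 : φ m F A B c d0 (jf i) = 0) (h21 : φ m F A B c d1 (jf i) = 0)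
    (h3 : φ m F A B c (ie i) (jf i) = 0)
    (a b c' d' : I m) (hab : ht m b < ht m a) (hc' : ht m c' = ht m (Equiv.swap (ie i) (jf i) a))
    (hd' : ht m d' = ht m (Equiv.swap (ie i) (jf i) b)) :
    φ m F A B c c' d' = 0 := by
  have hB := mem_Boo.mp hc
  have hi' := i.2
  have hei : ∀ x : I m, ht m x + 1 = m → x = ie i := by
    intro x hx
    refine (eq_of_ht_eq ?_ (not_isPl_ie i)).symm
    rw [ht_ie]; omega
  have hfi : ∀ x : I m, ht m x = m + 1 → x = jf i := by
    intro x hx
    refine (eq_of_ht_eq ?_ (not_isPl_jf i)).symm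
    rw [ht_jf]; omega
  have key : ht m d' < ht m c' ∨ (ht m c' + 1 = m ∧ ht m d' = m) ∨ (ht m c' + 1 = m ∧ ht m d' = m + 1) ∨
      (ht m c' = m ∧ ht m d' = m + 1) := by
    rcases swapS_cases i hi a with ⟨ha1, ha2⟩ | ⟨ha1, ha2⟩ | ⟨ha1, ha2, ha3⟩ <;>
      rcases swapS_cases i hi b with ⟨hb1, hb2⟩ | ⟨hb1, hb2⟩ | ⟨hb1, hb2, hb3⟩ <;>
      omega
  rcases key with hlt | ⟨k1, k2⟩ | ⟨k1, k2⟩ | ⟨k1, k2⟩
  · exact hB _ _ hlt
  · rw [hei c' k1]
    rcases ht_eq_m_iff.mp k2 with e | e <;> rw [e]
    · exact h10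
    · exact h11
  · rw [hei c' k1, hfi d' k2]
    exact h3
  · rw [hfi d' k2]
    rcases ht_eq_m_iff.mp k1 with e | e <;> rw [e]
    · exact h20
    · exact h21

/-- **R1S** -/
theorem r1S (i : Fin m) (hi : i.val + 1 = m)
    (hw : IsBMono2 (φ m F A B) (ht m) (ws A B (ie i)) (Equiv.swap (ie i) (jf i)))
    (b : GO m F A B) (hb : b ∈ Boo m F A B) :
    ∃ s t : F, ws A B (ie i) * (b * (sx A B (ie i) s t)⁻¹) * (ws A B (ie i))⁻¹ ∈ Boo m F A B := by
  have hi' := i.2
  have hΔ : 4 * B - A ^ 2 ≠ 0 := disc_ne_zero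
  have hβ : φ m F A B b (ie i) (ie i) ≠ 0 := diag_ne_zero hb (not_isPl_ie i)
  set β : F := φ m F A B b (ie i) (ie i) with hβdef
  set u0 : F := φ m F A B b (ie i) d0 / β with hu0
  set u1 : F := φ m F A B b (ie i) d1 / β with hu1
  set s' : F := (2 * B * u0 - A * u1) / (4 * B - A ^ 2) with hs'
  set t' : F := (2 * u1 - A * u0) / (4 * B - A ^ 2) with ht'
  refine ⟨-s', -t', ?_⟩
  rw [sx_inv, neg_neg, neg_neg]
  set c : GO m F A B := b * sx A B (ie i) s' t' with hcdef
  have hc : c ∈ Boo m F A B := (Boo m F A B).mul_mem hb (sx_mem i s' t')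
  have hc' := mem_Boo.mp hc
  have hcinv : c⁻¹ ∈ Boo m F A B := (Boo m F A B).inv_mem hc
  have hcinv' := mem_Boo.mp hcinv
  have n1 : ¬ ((d0 : I m) = op (ie i)) := by rw [op_ie]; exact (jf_ne_d0 i).symm
  have n2 : ¬ ((d1 : I m) = op (ie i)) := by rw [op_ie]; exact (jf_ne_d1 i).symm
  have n3 : ¬ ((d1 : I m) = d0) := (d0_ne_d1).symm
  have n4 : ¬ ((d0 : I m) = d1) := d0_ne_d1
  -- the entries `(e_i, d0)`, `(e_i, d1)` of `c` vanish
  have h10 : φ m F A B c (ie i) d0 = 0 := by
    rw [hcdef, map_mul, sx_val (not_isPl_ie i), mul_sxM_apply, if_neg n1, if_neg n1, if_pos rfl, if_neg n4, if_neg n1]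
    have e : 2 * s' + A * t' = u0 := by
      have e' : 2 * s' + A * t' = ((4 * B - A ^ 2) * u0) / (4 * B - A ^ 2) := by
        rw [hs', ht']
        ring
      rw [e', mul_div_cancel_left₀ _ hΔ]
    rw [e, hu0, ← hβdef]
    field_simp
    ring
  have h11 : φ m F A B c (ie i) d1 = 0 := by
    rw [hcdef, map_mul, sx_val (not_isPl_ie i), mul_sxM_apply, if_neg n2, if_neg n2, if_neg n3, if_pos rfl, if_neg n2]
    have e : A * s' + 2 * B * t' = u1 := by
      have e' : A * s' + 2 * B * t' = ((4 * B - A ^ 2) * u1) / (4 * B - A ^ 2) := by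
        rw [hs', ht']
        ring
      rw [e', mul_div_cancel_left₀ _ hΔ]
    rw [e, hu1, ← hβdef]
    field_simp
    ring
  -- the entries `(d0, f_i)`, `(d1, f_i)` of `c⁻¹` vanish
  have g0 := φ_inv_np_d0 (c⁻¹) (not_isPl_ie i)
  have g1 := φ_inv_np_d1 (c⁻¹) (not_isPl_ie i)
  rw [inv_inv, op_ie, h10] at g0
  rw [inv_inv, op_ie, h11] at g1
  have hX : φ m F A B c⁻¹ d0 (jf i) = 0 := by
    have e : (4 * B - A ^ 2) * φ m F A B c⁻¹ d0 (jf i) = 0 := by
      linear_combination (2 * B) * g0.symm - A * g1.symm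
    exact (mul_eq_zero.mp e).resolve_left hΔ
  have hY : φ m F A B c⁻¹ d1 (jf i) = 0 := by
    have e : (4 * B - A ^ 2) * φ m F A B c⁻¹ d1 (jf i) = 0 := by
      linear_combination 2 * g1.symm - A * g0.symm
    exact (mul_eq_zero.mp e).resolve_left hΔ
  have hone : φ m F A B c * φ m F A B c⁻¹ = 1 := map_mul_inv (φ m F A B) c
  have hjj : φ m F A B c⁻¹ (jf i) (jf i) ≠ 0 := diag_ne_zero hcinv (not_isPl_jf i)
  have hjj' : φ m F A B c (jf i) (jf i) ≠ 0 := diag_ne_zero hc (not_isPl_jf i)
  -- the entries `(d0, f_i)`, `(d1, f_i)` of `c` vanish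
  have hpl : ∀ x : I m, IsPl x → φ m F A B c x (jf i) = 0 := by
    intro x hx
    have hxm : ht m x = m := ht_of_isPl hx
    have hne : x ≠ jf i := fun e => not_isPl_jf i (e ▸ hx)
    have e1 : (φ m F A B c * φ m F A B c⁻¹) x (jf i) =
        φ m F A B c x (jf i) * φ m F A B c⁻¹ (jf i) (jf i) := by
      rw [Matrix.mul_apply]
      apply Finset.sum_eq_single (jf i)
      · intro d _ hd
        by_cases hlt : ht m d < m
        · rw [hc' _ _ (by rw [hxm]; exact hlt), zero_mul]
        · by_cases heq : ht m d = m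
          · rcases ht_eq_m_iff.mp heq with e | e <;> rw [e]
            · rw [hX, mul_zero]
            · rw [hY, mul_zero]
          · have hgt : ht m (jf i) < ht m d := by
              rw [ht_jf]
              have hne' : ht m d ≠ 2 * m - i.val := fun e => hd (eq_of_ht_eq (by rw [ht_jf]; exact e.symm)
                (not_isPl_jf i)).symm
              omega
            rw [hcinv' _ _ hgt, mul_zero]
      · intro h
        exact absurd (Finset.mem_univ _) h
    rw [hone, Matrix.one_apply_ne hne] at e1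
    exact (mul_eq_zero.mp e1.symm).resolve_right hjj
  have h20 := hpl d0 isPl_d0
  have h21 := hpl d1 isPl_d1
  -- the entry `(e_i, f_i)` of `c` vanishes
  have h3 : φ m F A B c (ie i) (jf i) = 0 := by
    have e1 := φ_isom c (Pi.single (jf i) 1)
    rw [Qm_single_np A B (not_isPl_jf i), Cfsg.Agent.Lib.Helper22_StOmDefs.mulVec_single_one, Qm_apply, h20, h21] at e1
    have e2 : nrm A B (0 : F) 0 = 0 := by unfold nrm; ring
    rw [e2, add_zero, Finset.sum_eq_single i] at e1
    · exact (mul_eq_zero.mp e1).resolve_right hjj'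
    · intro k _ hk
      have hlt : k.val < i.val := by
        have := k.2
        have hne : k.val ≠ i.val := fun e => hk (Fin.ext e)
        omega
      rw [hc' (jf k) (jf i) (by rw [ht_jf, ht_jf]; omega), mul_zero]
    · intro h
      exact absurd (Finset.mem_univ _) h
  -- conjugation by `ws (ie i)`
  apply conj_inv_mem_Boo hw c
  intro a b' c' d' hab hc'' hd''
  have hσ : (Equiv.swap (ie i) (jf i) : Equiv.Perm (I m))⁻¹ = Equiv.swap (ie i) (jf i) :=
    Equiv.swap_inv _ _
  rw [hσ] at hc'' hd''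
  exact short_heights i hi hc h10 h11 h20 h21 h3 a b' c' d' hab hc'' hd''

end Cfsg.Agent.Lib.Helper36_StOm_R1S
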