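import Mathlib
import Cfsg.Agent.Lib.Helper22_StOmDefs
import Cfsg.Agent.Lib.Helper80_CharBasic

set_option autoImplicit false
set_option linter.unusedSectionVars false

/-!
S2549 (Steinberg character of `PΩ⁻_{2m+2}(q)`), market StOm (architect helper22), package LOW0: the case `m = 0`.
An isometry of the anisotropic plane `nrm A B` on `F²` is a "rotation" (multiplication by a norm one element `x + y θ` of
`F[θ]`, `θ² = A θ - B`) or a rotation times the conjugation; the map "non-rotation ↦ -1" is a homomorphism to `ℤˣ`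
(all characteristics), so the commutator subgroup `Ω` consists of rotations, is abelian, `PΩ = Ω / Z(Ω)` is trivial,
and `χ = 1` works.
-/

namespace Cfsg.Agent.Lib.Helper41_StOm_LOW0

open Matrix Cfsg.Agent.Lib.Helper22_StOmDefs

variable {F : Type*} [Field F] [Fintype F] {A B : F} [Fact (Aniso A B)]

/-- the index type for `m = 0` -/
abbrev I0 : Type := (Fin 0 ⊕ Fin 0) ⊕ Fin 2

/-- the two indices of the plane -/
abbrev p0 : I0 := Sum.inr 0

/-- the two indices of the plane -/
abbrev p1 : I0 := Sum.inr 1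

/-- the matrix of an isometry -/
def mat (g : ↥(Cfsg.isometryGroup F (Cfsg.quadFormMinus 0 F A B))) : Matrix I0 I0 F :=
  ((g : Matrix.GeneralLinearGroup I0 F) : Matrix I0 I0 F)

theorem mat_mul (g h : ↥(Cfsg.isometryGroup F (Cfsg.quadFormMinus 0 F A B))) :
    mat (g * h) = mat g * mat h := rfl

theorem mat_injective :
    Function.Injective (mat : ↥(Cfsg.isometryGroup F (Cfsg.quadFormMinus 0 F A B)) → _) := by
  intro g h hgh
  apply Subtype.ext
  apply Units.ext
  exact hgh

theorem mul2 (M N : Matrix I0 I0 F) (i j : I0) :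
    (M * N) i j = M i p0 * N p0 j + M i p1 * N p1 j := by
  rw [Matrix.mul_apply, Fintype.sum_sum_type]
  simp [Fin.sum_univ_two]

theorem q0_mulVec (M : Matrix I0 I0 F) (v : I0 → F) :
    Cfsg.quadFormMinus 0 F A B (M *ᵥ v) =
      nrm A B (M p0 p0 * v p0 + M p0 p1 * v p1) (M p1 p0 * v p0 + M p1 p1 * v p1) := by
  unfold Cfsg.quadFormMinus nrm
  simp [Matrix.mulVec, dotProduct, Fintype.sum_sum_type, Fin.sum_univ_two]

theorem q0_apply (v : I0 → F) : Cfsg.quadFormMinus 0 F A B v = nrm A B (v p0) (v p1) := by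
  unfold Cfsg.quadFormMinus nrm
  simp

/-- the three equations of an isometry of the plane -/
theorem iso_eqs (g : ↥(Cfsg.isometryGroup F (Cfsg.quadFormMinus 0 F A B))) :
    nrm A B (mat g p0 p0) (mat g p1 p0) = 1 ∧ nrm A B (mat g p0 p1) (mat g p1 p1) = B ∧
    2 * mat g p0 p0 * mat g p0 p1 + A * (mat g p0 p0 * mat g p1 p1 + mat g p1 p0 * mat g p0 p1)
      + 2 * B * mat g p1 p0 * mat g p1 p1 = A := by
  have h := (Cfsg.Agent.Lib.Helper44_Orth.mem_isometryGroup_iff _ g.1).mp g.2
  have h1 := h (fun i => if i = p0 then 1 else 0)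
  have h2 := h (fun i => if i = p1 then 1 else 0)
  have h3 := h (fun _ => 1)
  rw [q0_mulVec, q0_apply] at h1 h2 h3
  have e01 : (p0 : I0) ≠ p1 := by decide
  simp only [if_true, if_neg e01, if_neg e01.symm, mul_one, mul_zero, add_zero, zero_add] at h1 h2 h3
  have h1' : nrm A B (mat g p0 p0) (mat g p1 p0) = nrm A B 1 0 := h1
  have h2' : nrm A B (mat g p0 p1) (mat g p1 p1) = nrm A B 0 1 := h2
  have h3' : nrm A B (mat g p0 p0 + mat g p0 p1) (mat g p1 p0 + mat g p1 p1) = nrm A B 1 1 := h3
  unfold nrm at h1' h2' h3' ⊢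
  refine ⟨by linear_combination h1', by linear_combination h2', ?_⟩
  linear_combination h3' - h1' - h2'

/-- rotation form: the second column is `θ` times the first one -/
def IsRot (M : Matrix I0 I0 F) (A B : F) : Prop :=
  M p0 p1 = -(B * M p1 p0) ∧ M p1 p1 = M p0 p0 + A * M p1 p0

/-- reflection form: the second column is `(A - θ)` times the first one -/
def IsRef (M : Matrix I0 I0 F) (A B : F) : Prop :=
  M p0 p1 = A * M p0 p0 + B * M p1 p0 ∧ M p1 p1 = -M p0 p0

/-- every isometry is a rotation or a reflection -/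
theorem rot_or_ref (g : ↥(Cfsg.isometryGroup F (Cfsg.quadFormMinus 0 F A B))) :
    IsRot (mat g) A B ∨ IsRef (mat g) A B := by
  obtain ⟨h1, h2, h3⟩ := iso_eqs g
  set x := mat g p0 p0 with hx
  set y := mat g p1 p0 with hy
  set z := mat g p0 p1 with hz
  set w := mat g p1 p1 with hw
  unfold nrm at h1 h2
  -- `v = (z + w θ) * conj (x + y θ)`
  set v0 := z * (x + A * y) + B * w * y with hv0
  set v1 := w * x - z * y with hv1
  have hT : 2 * v0 + A * v1 = A := by rw [hv0, hv1]; linear_combination h3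
  have hN : v0 ^ 2 + A * v0 * v1 + B * v1 ^ 2 = B := by
    rw [hv0, hv1]
    linear_combination (z ^ 2 + A * z * w + B * w ^ 2) * h1 + h2
  have hP : nrm A B v0 (v1 - 1) * nrm A B (v0 - A) (v1 + 1) = 0 := by
    unfold nrm
    linear_combination
      ((2 * v0 + A * v1 - A) * (v0 ^ 2 + A * v0 * v1 + B * v1 ^ 2)
        + (B - (v0 ^ 2 + A * v0 * v1 + B * v1 ^ 2)) * (2 * v0 + A * v1)) * hT
      + ((v0 ^ 2 + A * v0 * v1 + B * v1 ^ 2) - B) * hN
  have hz' : z = x * v0 - B * y * v1 := by
    rw [hv0, hv1]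
    linear_combination (-z) * h1
  have hw' : w = y * v0 + (x + A * y) * v1 := by
    rw [hv0, hv1]
    linear_combination (-w) * h1
  rcases mul_eq_zero.mp hP with h | h
  · left
    have h4 : v0 = 0 ∧ v1 - 1 = 0 := by
      by_contra hcon
      apply nrm_ne_zero (A := A) (B := B) (s := v0) (t := v1 - 1) _ h
      by_contra hcon2
      push Not at hcon2
      exact hcon hcon2
    obtain ⟨e0, e1⟩ := h4
    have e1' : v1 = 1 := by linear_combination e1
    constructor
    · show z = -(B * y)
      rw [hz', e0, e1']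
      ring
    · show w = x + A * y
      rw [hw', e0, e1']
      ring
  · right
    have h4 : v0 - A = 0 ∧ v1 + 1 = 0 := by
      by_contra hcon
      apply nrm_ne_zero (A := A) (B := B) (s := v0 - A) (t := v1 + 1) _ h
      by_contra hcon2
      push Not at hcon2
      exact hcon hcon2
    obtain ⟨e0, e1⟩ := h4
    have e0' : v0 = A := by linear_combination e0
    have e1' : v1 = -1 := by linear_combination e1
    constructor
    · show z = A * x + B * y
      rw [hz', e0', e1']
      ring
    · show w = -x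
      rw [hw', e0', e1']
      ring

/-- an isometry is not both a rotation and a reflection -/
theorem not_rot_and_ref (g : ↥(Cfsg.isometryGroup F (Cfsg.quadFormMinus 0 F A B)))
    (h1 : IsRot (mat g) A B) (h2 : IsRef (mat g) A B) : False := by
  obtain ⟨e1, _, _⟩ := iso_eqs g
  obtain ⟨r1, r2⟩ := h1
  obtain ⟨s1, s2⟩ := h2
  unfold nrm at e1
  set x := mat g p0 p0 with hx
  set y := mat g p1 p0 with hy
  have a1 : A * x + 2 * B * y = 0 := by linear_combination r1 - s1
  have a2 : 2 * x + A * y = 0 := by linear_combination s2 - r2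
  have hd : (4 * B - A ^ 2) * y = 0 := by linear_combination 2 * a1 - A * a2
  have hy0 : y = 0 := by
    rcases mul_eq_zero.mp hd with h | h
    · exact absurd h (disc_ne_zero (A := A) (B := B))
    · exact h
  rw [hy0] at a1 a2 e1
  have hx1 : x ^ 2 = 1 := by linear_combination e1
  have hx0 : x ≠ 0 := by
    intro h
    rw [h] at hx1
    simp at hx1
  have hA : A = 0 := by
    have : A * x = 0 := by linear_combination a1
    rcases mul_eq_zero.mp this with h | h
    · exact h
    · exact absurd h hx0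
  have h2 : (2 : F) = 0 := by
    have : 2 * x = 0 := by linear_combination a2
    rcases mul_eq_zero.mp this with h | h
    · exact h
    · exact absurd h hx0
  apply disc_ne_zero (A := A) (B := B)
  rw [hA]
  linear_combination (2 * B) * h2

theorem rot_mul_rot {M N : Matrix I0 I0 F} (hM : IsRot M A B) (hN : IsRot N A B) :
    IsRot (M * N) A B := by
  obtain ⟨h1, h2⟩ := hM
  obtain ⟨h3, h4⟩ := hN
  constructor
  · rw [mul2, mul2, h1, h2, h3, h4]; ring
  · rw [mul2, mul2, mul2, h1, h2, h3, h4]; ring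

theorem rot_mul_ref {M N : Matrix I0 I0 F} (hM : IsRot M A B) (hN : IsRef N A B) :
    IsRef (M * N) A B := by
  obtain ⟨h1, h2⟩ := hM
  obtain ⟨h3, h4⟩ := hN
  constructor
  · rw [mul2, mul2, mul2, h1, h2, h3, h4]; ring
  · rw [mul2, mul2, h1, h2, h3, h4]; ring

theorem ref_mul_rot {M N : Matrix I0 I0 F} (hM : IsRef M A B) (hN : IsRot N A B) :
    IsRef (M * N) A B := by
  obtain ⟨h1, h2⟩ := hM
  obtain ⟨h3, h4⟩ := hN
  constructor
  · rw [mul2, mul2, mul2, h1, h2, h3, h4]; ring
  · rw [mul2, mul2, h1, h2, h3, h4]; ring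

theorem ref_mul_ref {M N : Matrix I0 I0 F} (hM : IsRef M A B) (hN : IsRef N A B) :
    IsRot (M * N) A B := by
  obtain ⟨h1, h2⟩ := hM
  obtain ⟨h3, h4⟩ := hN
  constructor
  · rw [mul2, mul2, h1, h2, h3, h4]; ring
  · rw [mul2, mul2, mul2, h1, h2, h3, h4]; ring

theorem isRot_one : IsRot (1 : Matrix I0 I0 F) A B := by
  have e01 : (p0 : I0) ≠ p1 := by decide
  constructor
  · rw [Matrix.one_apply_ne e01, Matrix.one_apply_ne e01.symm]; ring
  · rw [Matrix.one_apply_eq, Matrix.one_apply_eq, Matrix.one_apply_ne e01.symm]; ring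

/-- the sign of an isometry of the anisotropic plane: `-1` on the non-rotations -/
noncomputable def sgn0 : ↥(Cfsg.isometryGroup F (Cfsg.quadFormMinus 0 F A B)) →* ℤˣ where
  toFun g := open Classical in if IsRot (mat g) A B then 1 else -1
  map_one' := by
    have : IsRot (mat (1 : ↥(Cfsg.isometryGroup F (Cfsg.quadFormMinus 0 F A B)))) A B :=
      isRot_one
    rw [if_pos this]
  map_mul' := by
    intro g h
    by_cases hg : IsRot (mat g) A B
    · by_cases hh : IsRot (mat h) A B
      · have : IsRot (mat (g * h)) A B := by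
          rw [mat_mul]; exact rot_mul_rot hg hh
        rw [if_pos hg, if_pos hh, if_pos this, mul_one]
      · have hh' : IsRef (mat h) A B := (rot_or_ref h).resolve_left hh
        have h1 : IsRef (mat (g * h)) A B := by
          rw [mat_mul]; exact rot_mul_ref hg hh'
        have : ¬ IsRot (mat (g * h)) A B := fun h2 => not_rot_and_ref (g * h) h2 h1
        rw [if_pos hg, if_neg hh, if_neg this, one_mul]
    · have hg' : IsRef (mat g) A B := (rot_or_ref g).resolve_left hg
      by_cases hh : IsRot (mat h) A B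
      · have h1 : IsRef (mat (g * h)) A B := by
          rw [mat_mul]; exact ref_mul_rot hg' hh
        have : ¬ IsRot (mat (g * h)) A B := fun h2 => not_rot_and_ref (g * h) h2 h1
        rw [if_neg hg, if_pos hh, if_neg this, mul_one]
      · have hh' : IsRef (mat h) A B := (rot_or_ref h).resolve_left hh
        have : IsRot (mat (g * h)) A B := by
          rw [mat_mul]; exact ref_mul_ref hg' hh'
        rw [if_neg hg, if_neg hh, if_pos this]
        rfl

/-- the elements of `Ω` are rotations -/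
theorem omega_rot (x : ↥(Cfsg.Omega F (Cfsg.quadFormMinus 0 F A B))) : IsRot (mat x.1) A B := by
  have h1 : x.1 ∈ (sgn0 (F := F) (A := A) (B := B)).ker :=
    Abelianization.commutator_subset_ker _ x.2
  rw [MonoidHom.mem_ker] at h1
  by_contra h
  have : sgn0 (F := F) (A := A) (B := B) x.1 = -1 := by
    show (open Classical in if IsRot (mat x.1) A B then (1 : ℤˣ) else -1) = -1
    rw [if_neg h]
  rw [this] at h1
  exact absurd h1 (by decide)

/-- two rotations commute -/
theorem rot_comm {M N : Matrix I0 I0 F} (hM : IsRot M A B) (hN : IsRot N A B) :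
    M * N = N * M := by
  obtain ⟨h1, h2⟩ := hM
  obtain ⟨h3, h4⟩ := hN
  ext i j
  rw [mul2, mul2]
  rcases i with (i | i) | i
  · exact i.elim0
  · exact i.elim0
  rcases j with (j | j) | j
  · exact j.elim0
  · exact j.elim0
  fin_cases i <;> fin_cases j
  · show M p0 p0 * N p0 p0 + M p0 p1 * N p1 p0 = N p0 p0 * M p0 p0 + N p0 p1 * M p1 p0
    rw [h1, h3]; ring
  · show M p0 p0 * N p0 p1 + M p0 p1 * N p1 p1 = N p0 p0 * M p0 p1 + N p0 p1 * M p1 p1
    rw [h1, h2, h3, h4]; ring
  · show M p1 p0 * N p0 p0 + M p1 p1 * N p1 p0 = N p1 p0 * M p0 p0 + N p1 p1 * M p1 p0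
    rw [h2, h4]; ring
  · show M p1 p0 * N p0 p1 + M p1 p1 * N p1 p1 = N p1 p0 * M p0 p1 + N p1 p1 * M p1 p1
    rw [h1, h2, h3, h4]; ring

/-- `Ω⁻_2(F)` is abelian -/
theorem omega_comm (x y : ↥(Cfsg.Omega F (Cfsg.quadFormMinus 0 F A B))) : x * y = y * x := by
  apply Subtype.ext
  apply mat_injective
  show mat (x.1 * y.1) = mat (y.1 * x.1)
  rw [mat_mul, mat_mul]
  exact rot_comm (omega_rot x) (omega_rot y)

/-- `PΩ⁻_2(F)` is trivial -/
theorem pomega_eq_one (x : Cfsg.POmega F (Cfsg.quadFormMinus 0 F A B)) : x = 1 := by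
  induction x using QuotientGroup.induction_on with
  | H g =>
    rw [QuotientGroup.eq_one_iff, Subgroup.mem_center_iff]
    intro h
    exact omega_comm h g

/-- LOW0. -/
theorem steinberg_low0 (p : ℕ) [Fact p.Prime] [CharP F p] :
    ∃ χ : Cfsg.POmega F (Cfsg.quadFormMinus 0 F A B) → ℂ,
      Cfsg.IsIrrCharacter (Cfsg.POmega F (Cfsg.quadFormMinus 0 F A B)) χ ∧
      ∀ P : Sylow p (Cfsg.POmega F (Cfsg.quadFormMinus 0 F A B)), χ 1 = Nat.card P ∧
        ∀ x : Cfsg.POmega F (Cfsg.quadFormMinus 0 F A B), x ∈ P → x ≠ 1 → χ x = 0 := by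
  have hsub : Subsingleton (Cfsg.POmega F (Cfsg.quadFormMinus 0 F A B)) :=
    ⟨fun a b => by rw [pomega_eq_one a, pomega_eq_one b]⟩
  refine ⟨fun _ => 1, Cfsg.Agent.Lib.Helper80_CharBasic.isIrrCharacter_one _, fun P => ⟨?_, ?_⟩⟩
  · have : Nat.card (P : Subgroup (Cfsg.POmega F (Cfsg.quadFormMinus 0 F A B))) = 1 := by
      rw [Subgroup.card_eq_one]
      exact Subsingleton.elim _ _
    show (1 : ℂ) = ((Nat.card (P : Subgroup (Cfsg.POmega F (Cfsg.quadFormMinus 0 F A B))) : ℕ) : ℂ)
    rw [this, Nat.cast_one]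
  · intro x _ hx
    exact absurd (pomega_eq_one x) hx

end Cfsg.Agent.Lib.Helper41_StOm_LOW0
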