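import Mathlib
import Cfsg.Agent.Lib.Helper22_StOmDefs
import Cfsg.Agent.Lib.Helper22_BlkGrp

/-!
# S2549 package MONOW (architect helper22): the Weyl representatives of `Ω⁻_{2m+2}(q)` are block
monomial.   (twins: `wl_mono` in Helper22_StOo_R1L, `ws_mono` in Helper22_StOo_R1S, Helper70_StOp_MONOW)
-/

set_option autoImplicit false
set_option linter.unusedSectionVars false
set_option linter.unusedSimpArgs false

namespace Cfsg.Agent.Lib.Helper41_StOm_MONOW

open Matrix Cfsg.Agent.Lib.Helper68_MatGrp Cfsg.Agent.Lib.Helper22_BlkGrp Cfsg.Agent.Lib.Helper22_StOmDefs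

variable {m : ℕ} {F : Type*} [Field F] [Fintype F] {A B : F} [Fact (Aniso A B)]

/-- the long Weyl representative is monomial in the strong sense -/
theorem wl_mono_strong {a c : I m} (h : LxOK a c) (x y : I m)
    (hxy : x ≠ (Equiv.swap a c * Equiv.swap (op a) (op c)) y) :
    φ m F A B (wl A B a c) x y = 0 := by
  obtain ⟨ha, hc, hca, hca'⟩ := h
  have h1 : a ≠ op a := fun e => ha (op_eq_self_iff.mp e.symm)
  have h2 : c ≠ op c := fun e => hc (op_eq_self_iff.mp e.symm)
  have h3 : op a ≠ c := fun e => hca' e.symm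
  have h4 : a ≠ c := fun e => hca e.symm
  have h5 : op c ≠ op a := fun e => hca (op_injective e)
  have h6 : op c ≠ a := fun e => hca' (by rw [← e, op_op])
  rw [wl_val ⟨ha, hc, hca, hca'⟩]
  unfold wlM
  simp only [Matrix.sub_apply, Matrix.add_apply, Matrix.one_apply, Matrix.single_apply]
  rw [Equiv.Perm.mul_apply] at hxy
  by_cases hy1 : y = a
  · subst hy1
    rw [Equiv.swap_apply_of_ne_of_ne h1 h6.symm, Equiv.swap_apply_left] at hxy
    by_cases hx : x = y
    · subst hx
      simp [h1, h1.symm, h4, h4.symm, h6, h6.symm, h3, h3.symm, h5, h5.symm, h2, h2.symm]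
    · simp [hx, Ne.symm hx, hxy, Ne.symm hxy, h1, h1.symm, h4, h4.symm, h6, h6.symm, h3, h3.symm,
        h5, h5.symm, h2, h2.symm]
  by_cases hy2 : y = c
  · subst hy2
    rw [Equiv.swap_apply_of_ne_of_ne h3.symm h2, Equiv.swap_apply_right] at hxy
    by_cases hx : x = y
    · subst hx
      simp [h1, h1.symm, h4, h4.symm, h6, h6.symm, h3, h3.symm, h5, h5.symm, h2, h2.symm]
    · simp [hx, Ne.symm hx, hxy, Ne.symm hxy, h1, h1.symm, h4, h4.symm, h6, h6.symm, h3, h3.symm,
        h5, h5.symm, h2, h2.symm]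
  by_cases hy3 : y = op a
  · subst hy3
    rw [Equiv.swap_apply_left, Equiv.swap_apply_of_ne_of_ne h6 h2.symm] at hxy
    by_cases hx : x = op a
    · subst hx
      simp [h1, h1.symm, h4, h4.symm, h6, h6.symm, h3, h3.symm, h5, h5.symm, h2, h2.symm]
    · simp [hx, Ne.symm hx, hxy, Ne.symm hxy, h1, h1.symm, h4, h4.symm, h6, h6.symm, h3, h3.symm,
        h5, h5.symm, h2, h2.symm]
  by_cases hy4 : y = op c
  · subst hy4
    rw [Equiv.swap_apply_right, Equiv.swap_apply_of_ne_of_ne h1.symm h3] at hxy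
    by_cases hx : x = op c
    · subst hx
      simp [h1, h1.symm, h4, h4.symm, h6, h6.symm, h3, h3.symm, h5, h5.symm, h2, h2.symm]
    · simp [hx, Ne.symm hx, hxy, Ne.symm hxy, h1, h1.symm, h4, h4.symm, h6, h6.symm, h3, h3.symm,
        h5, h5.symm, h2, h2.symm]
  rw [Equiv.swap_apply_of_ne_of_ne hy3 hy4, Equiv.swap_apply_of_ne_of_ne hy1 hy2] at hxy
  simp [hxy, Ne.symm hy1, Ne.symm hy2, Ne.symm hy3, Ne.symm hy4]

theorem wl_isBMono {a c : I m} (h : LxOK a c) :
    IsBMono (φ m F A B) (ht m) (wl A B a c) (Equiv.swap a c * Equiv.swap (op a) (op c)) := by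
  intro x y hxy
  exact wl_mono_strong h x y (fun e => hxy (by rw [e]))

theorem ws_isBMono {c : I m} (hc : ¬ IsPl c) :
    IsBMono (φ m F A B) (ht m) (ws A B c) (Equiv.swap c (op c)) := by
  have hopc : ¬ IsPl (op c) := fun e => hc (isPl_op.mp e)
  have h1 : c ≠ op c := fun e => op_ne_self hc e.symm
  have h2 : c ≠ d0 := fun e => hc (Or.inl e)
  have h3 : c ≠ d1 := fun e => hc (Or.inr e)
  have h4 : op c ≠ d0 := fun e => hopc (Or.inl e)
  have h5 : op c ≠ d1 := fun e => hopc (Or.inr e)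
  have h6 : (d0 : I m) ≠ d1 := d0_ne_d1
  intro x y hxy
  rw [ws_val hc]
  unfold wsM
  simp only [Matrix.sub_apply, Matrix.one_apply, Matrix.single_apply]
  by_cases hy1 : y = c
  · subst hy1
    rw [Equiv.swap_apply_left] at hxy
    have hx' : x ≠ op y := fun e => hxy (by rw [e])
    by_cases hx : x = y
    · subst hx
      simp [h1, h1.symm, h2, h2.symm, h3, h3.symm]
    · simp [hx, Ne.symm hx, hx', Ne.symm hx', h1, h1.symm, h2, h2.symm, h3, h3.symm]
  by_cases hy2 : y = op c
  · subst hy2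
    rw [Equiv.swap_apply_right] at hxy
    have hx' : x ≠ c := fun e => hxy (by rw [e])
    by_cases hx : x = op c
    · subst hx
      simp [h1, h1.symm, h4, h4.symm, h5, h5.symm]
    · simp [hx, Ne.symm hx, hx', Ne.symm hx', h1, h1.symm, h4, h4.symm, h5, h5.symm]
  rw [Equiv.swap_apply_of_ne_of_ne hy1 hy2] at hxy
  have hxy' : x ≠ y := fun e => hxy (by rw [e])
  by_cases hy3 : y = d0
  · subst hy3
    simp [hxy', Ne.symm hxy', h2, h2.symm, h4, h4.symm, h6, h6.symm]
  by_cases hy4 : y = d1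
  · subst hy4
    have hx0 : x ≠ d0 := by
      intro e
      apply hxy
      rw [e]
      rfl
    simp [hxy', Ne.symm hxy', hx0, Ne.symm hx0, h3, h3.symm, h5, h5.symm, h6, h6.symm]
  simp [hxy', Ne.symm hxy', Ne.symm hy1, Ne.symm hy2, Ne.symm hy3, Ne.symm hy4]

end Cfsg.Agent.Lib.Helper41_StOm_MONOW
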