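import Mathlib
import Cfsg.Agent.Lib.Helper22_StOmDefs
import Cfsg.Agent.Lib.Helper22_BlkGrp

/-!
# S2549 package SWAP (architect helper22): the permutation of a block monomial element of
`Ω⁻_{2m+2}(q)` commutes with `op`.   (twin: Helper31_StOo_SWAP / Helper31_StOp_SWAP)
-/

set_option autoImplicit false
set_option linter.unusedSectionVars false

namespace Cfsg.Agent.Lib.Helper41_StOm_SWAP

open Matrix Cfsg.Agent.Lib.Helper68_MatGrp Cfsg.Agent.Lib.Helper22_BlkGrp Cfsg.Agent.Lib.Helper22_StOmDefs

variable {m : ℕ} {F : Type*} [Field F] [Fintype F] {A B : F} [Fact (Aniso A B)]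

/-- SWAP.  The permutation of a block monomial element commutes with `op`. -/
theorem bmono_op {n : GO m F A B} {σ : Equiv.Perm (I m)} (hσ0 : σ d0 = d0) (hσ1 : σ d1 = d1)
    (hn : IsBMono (φ m F A B) (ht m) n σ) (a : I m) : σ (op a) = op (σ a) := by
  by_cases ha : IsPl a
  · have h1 : σ a = a := by
      rcases ha with rfl | rfl
      · exact hσ0
      · exact hσ1
    rw [op_of_isPl ha, h1, op_of_isPl ha]
  · -- `σ` preserves the complement of the plane
    have hσnp : ∀ b : I m, ¬ IsPl b → ¬ IsPl (σ b) := by
      intro b hb hσb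
      apply hb
      rcases hσb with e | e
      · left
        exact σ.injective (e.trans hσ0.symm)
      · right
        exact σ.injective (e.trans hσ1.symm)
    have hcol : ∀ b : I m, ¬ IsPl b → ∀ x, x ≠ σ b → φO m F A B n.1 x b = 0 := by
      intro b hb x hx
      apply hn x b
      intro e
      exact hx (eq_of_ht_eq e.symm (hσnp b hb)).symm
    have hopa : ¬ IsPl (op a) := fun h => ha (isPl_op.mp h)
    have h := φO_gram (A := A) (B := B) n.1
    have h1 := congrFun (congrFun h a) (op a)
    rw [Matrix.mul_apply, Finset.sum_eq_single (σ (op a))] at h1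
    · rw [Matrix.mul_apply, Finset.sum_eq_single (σ a)] at h1
      · by_contra hne
        rw [J_np_left (hσnp a ha) (σ (op a)), if_neg hne, mul_zero, zero_mul, J_np_left ha,
          if_pos rfl] at h1
        exact one_ne_zero h1.symm
      · intro c _ hc
        rw [Matrix.transpose_apply, hcol a ha c hc, zero_mul]
      · intro h'; exact absurd (Finset.mem_univ _) h'
    · intro c _ hc
      rw [hcol (op a) hopa c hc, mul_zero]
    · intro h'; exact absurd (Finset.mem_univ _) h'

end Cfsg.Agent.Lib.Helper41_StOm_SWAP
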