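import Mathlib
import Cfsg.Prelude.Def_Classical
import Cfsg.Agent.Lib.Helper44_Orth
import Cfsg.Agent.Lib.Helper44_StdForms

set_option autoImplicit false
set_option linter.unusedSectionVars false
set_option linter.unusedSimpArgs false
set_option linter.unnecessarySeqFocus false

/-!
`SL₂(K)`, `K = F[ω]` the quadratic extension with norm form `z₁² + a z₁ z₂ + b z₂²`, acts on Hermitian `2 × 2`
matrices by `H ↦ g H gᴴ`, preserving the determinant; `-det` is the form `x y + N(β)` of minus type (helper5).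
-/

namespace Cfsg.Agent.Lib.Helper5_O4Minus

open Matrix Cfsg Cfsg.Agent.Lib.Helper44_Orth Cfsg.Agent.Lib.Helper44_StdForms QuadraticAlgebra

variable {F : Type*} [Field F] (a b : F)

/-- the index type of the 4-dimensional form -/
abbrev I4m : Type := (Fin 1 ⊕ Fin 1) ⊕ Fin 2

/-- the quadratic extension -/
abbrev KK : Type _ := QuadraticAlgebra F (-b) a

lemma fact_of_hab (hab : ∀ z₁ z₂ : F, z₁ ^ 2 + a * z₁ * z₂ + b * z₂ ^ 2 = 0 → z₁ = 0 ∧ z₂ = 0) :
    Fact (∀ r : F, r ^ 2 ≠ -b + a * r) := by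
  refine ⟨fun r hr => ?_⟩
  have := (hab r (-1) (by linear_combination hr)).2
  simp at this

/-- vectors to Hermitian matrices -/
def herm (v : I4m → F) : Matrix (Fin 2) (Fin 2) (KK a b) :=
  !![(⟨v (Sum.inl (Sum.inl 0)), 0⟩ : KK a b), ⟨v (Sum.inr 0), v (Sum.inr 1)⟩;
     star (⟨v (Sum.inr 0), v (Sum.inr 1)⟩ : KK a b), ⟨- v (Sum.inl (Sum.inr 0)), 0⟩]

/-- matrices to vectors -/
def coords (X : Matrix (Fin 2) (Fin 2) (KK a b)) : I4m → F :=
  Sum.elim (Sum.elim (fun _ => (X 0 0).re) (fun _ => - (X 1 1).re)) ![(X 0 1).re, (X 0 1).im]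

lemma coords_herm (v : I4m → F) : coords a b (herm a b v) = v := by
  ext i
  rcases i with (i | i) | i
  · have : i = 0 := Subsingleton.elim _ _
    subst this; simp [coords, herm]
  · have : i = 0 := Subsingleton.elim _ _
    subst this; simp [coords, herm]
  · fin_cases i <;> simp [coords, herm]

lemma herm_coords (X : Matrix (Fin 2) (Fin 2) (KK a b)) (h00 : (X 0 0).im = 0) (h11 : (X 1 1).im = 0)
    (h10 : X 1 0 = star (X 0 1)) : herm a b (coords a b X) = X := by
  ext i j
  · fin_cases i <;> fin_cases j <;> simp [coords, herm, h10]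
  · fin_cases i <;> fin_cases j <;> simp [coords, herm, h10, h00, h11]

lemma herm_add (v w : I4m → F) : herm a b (v + w) = herm a b v + herm a b w := by
  ext i j
  · fin_cases i <;> fin_cases j <;> simp [herm] <;> ring
  · fin_cases i <;> fin_cases j <;> simp [herm] <;> ring

lemma herm_smul (c : F) (v : I4m → F) : herm a b (c • v) = c • herm a b v := by
  ext i j
  · fin_cases i <;> fin_cases j <;> simp [herm] <;> ring
  · fin_cases i <;> fin_cases j <;> simp [herm] <;> ring

lemma coords_add (X Y : Matrix (Fin 2) (Fin 2) (KK a b)) : coords a b (X + Y) = coords a b X + coords a b Y := by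
  ext i
  rcases i with (i | i) | i
  · simp [coords]
  · simp [coords]; ring
  · fin_cases i <;> simp [coords]

lemma coords_smul (c : F) (X : Matrix (Fin 2) (Fin 2) (KK a b)) : coords a b (c • X) = c • coords a b X := by
  ext i
  rcases i with (i | i) | i
  · simp [coords]
  · simp [coords]
  · fin_cases i <;> simp [coords]

lemma herm_conjTranspose (v : I4m → F) : (herm a b v)ᴴ = herm a b v := by
  ext i j
  · fin_cases i <;> fin_cases j <;> simp [herm, Matrix.conjTranspose_apply]
  · fin_cases i <;> fin_cases j <;> simp [herm, Matrix.conjTranspose_apply]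

lemma det_herm (v : I4m → F) :
    (herm a b v).det = (⟨- Cfsg.quadFormMinus 1 F a b v, 0⟩ : KK a b) := by
  rw [Matrix.det_fin_two]
  ext
  · simp [herm, Cfsg.quadFormMinus]; ring
  · simp [herm, Cfsg.quadFormMinus]; ring

lemma conj_diag_im (g : Matrix (Fin 2) (Fin 2) (KK a b)) (v : I4m → F) (i : Fin 2) :
    ((g * herm a b v * gᴴ) i i).im = 0 := by
  fin_cases i
  · simp [Matrix.mul_apply, Fin.sum_univ_two, Matrix.conjTranspose_apply, herm]
    ring
  · simp [Matrix.mul_apply, Fin.sum_univ_two, Matrix.conjTranspose_apply, herm]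
    ring

lemma conj_conjTranspose (g : Matrix (Fin 2) (Fin 2) (KK a b)) (v : I4m → F) :
    (g * herm a b v * gᴴ)ᴴ = g * herm a b v * gᴴ := by
  rw [Matrix.conjTranspose_mul, Matrix.conjTranspose_mul, Matrix.conjTranspose_conjTranspose,
    herm_conjTranspose, Matrix.mul_assoc]

lemma herm_coords_conj (g : Matrix (Fin 2) (Fin 2) (KK a b)) (v : I4m → F) :
    herm a b (coords a b (g * herm a b v * gᴴ)) = g * herm a b v * gᴴ := by
  apply herm_coords
  · exact conj_diag_im a b g v 0
  · exact conj_diag_im a b g v 1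
  · have h := congrFun (congrFun (conj_conjTranspose a b g v) 1) 0
    rw [Matrix.conjTranspose_apply] at h
    exact h.symm

/-- the action on vectors -/
def L (g : SpecialLinearGroup (Fin 2) (KK a b)) : (I4m → F) →ₗ[F] (I4m → F) where
  toFun v := coords a b (g.1 * herm a b v * g.1ᴴ)
  map_add' v w := by
    rw [herm_add, Matrix.mul_add, Matrix.add_mul, coords_add]
  map_smul' c v := by
    rw [herm_smul, Matrix.mul_smul, Matrix.smul_mul, coords_smul]
    rfl

lemma L_apply'' (g : SpecialLinearGroup (Fin 2) (KK a b)) (v : I4m → F) :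
    L a b g v = coords a b (g.1 * herm a b v * g.1ᴴ) := rfl

lemma herm_L (g : SpecialLinearGroup (Fin 2) (KK a b)) (v : I4m → F) :
    herm a b (L a b g v) = g.1 * herm a b v * g.1ᴴ := by
  rw [L_apply'', herm_coords_conj]

lemma herm_injective : Function.Injective (herm a b) := by
  intro v w h
  rw [← coords_herm a b v, ← coords_herm a b w, h]

lemma L_mul'' (g h : SpecialLinearGroup (Fin 2) (KK a b)) : L a b (g * h) = L a b g ∘ₗ L a b h := by
  refine LinearMap.ext fun v => ?_
  apply herm_injective a b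
  rw [LinearMap.comp_apply, herm_L, herm_L, herm_L]
  show (g.1 * h.1) * herm a b v * (g.1 * h.1)ᴴ = _
  rw [Matrix.conjTranspose_mul]
  simp only [Matrix.mul_assoc]

lemma L_one'' : L a b (1 : SpecialLinearGroup (Fin 2) (KK a b)) = LinearMap.id := by
  refine LinearMap.ext fun v => ?_
  apply herm_injective a b
  rw [herm_L]
  simp

lemma Q_L (g : SpecialLinearGroup (Fin 2) (KK a b)) (v : I4m → F) :
    Cfsg.quadFormMinus 1 F a b (L a b g v) = Cfsg.quadFormMinus 1 F a b v := by
  have h1 := det_herm a b (L a b g v)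
  rw [herm_L, Matrix.det_mul, Matrix.det_mul, Matrix.det_conjTranspose, g.2, star_one, one_mul, mul_one,
    det_herm] at h1
  have h2 := congrArg QuadraticAlgebra.re h1
  simpa using h2.symm

lemma toMatrix'_L_mul (g h : SpecialLinearGroup (Fin 2) (KK a b)) :
    LinearMap.toMatrix' (L a b g) * LinearMap.toMatrix' (L a b h) = LinearMap.toMatrix' (L a b (g * h)) := by
  rw [L_mul'', LinearMap.toMatrix'_comp]

/-- The representation of `SL₂(K)` on the 4-dimensional space of minus type. -/
def rho4m : SpecialLinearGroup (Fin 2) (KK a b) →* ↥(Cfsg.isometryGroup F (⇑(qfMinus 1 F a b))) where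
  toFun g := ⟨⟨LinearMap.toMatrix' (L a b g), LinearMap.toMatrix' (L a b g⁻¹),
      by rw [toMatrix'_L_mul, mul_inv_cancel, L_one'', LinearMap.toMatrix'_id],
      by rw [toMatrix'_L_mul, inv_mul_cancel, L_one'', LinearMap.toMatrix'_id]⟩, by
    rw [mem_isometryGroup_iff]
    intro u
    show qfMinus 1 F a b (LinearMap.toMatrix' (L a b g) *ᵥ u) = qfMinus 1 F a b u
    rw [LinearMap.toMatrix'_mulVec, coe_qfMinus, Q_L]⟩
  map_one' := by
    apply Subtype.ext
    apply Units.ext
    show LinearMap.toMatrix' (L a b (1 : SpecialLinearGroup (Fin 2) (KK a b))) = 1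
    rw [L_one'', LinearMap.toMatrix'_id]
  map_mul' g h := by
    apply Subtype.ext
    apply Units.ext
    show LinearMap.toMatrix' (L a b (g * h)) = LinearMap.toMatrix' (L a b g) * LinearMap.toMatrix' (L a b h)
    rw [toMatrix'_L_mul]

lemma rho4m_coe (g : SpecialLinearGroup (Fin 2) (KK a b)) :
    ((rho4m a b g : Matrix.GeneralLinearGroup I4m F) : Matrix I4m I4m F) = LinearMap.toMatrix' (L a b g) := rfl

lemma rho4m_mulVec (g : SpecialLinearGroup (Fin 2) (KK a b)) (v : I4m → F) :
    ((rho4m a b g : Matrix.GeneralLinearGroup I4m F) : Matrix I4m I4m F) *ᵥ v = L a b g v := by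
  rw [rho4m_coe, LinearMap.toMatrix'_mulVec]

section kernel

variable [hF : Fact (∀ r : F, r ^ 2 ≠ -b + a * r)]

lemma herm_e : herm a b (Pi.single (Sum.inl (Sum.inl 0)) 1) = !![(1 : KK a b), 0; 0, 0] := by
  ext i j
  · fin_cases i <;> fin_cases j <;> simp [herm]
  · fin_cases i <;> fin_cases j <;> simp [herm]

lemma herm_f : herm a b (Pi.single (Sum.inl (Sum.inr 0)) 1) = !![(0 : KK a b), 0; 0, -1] := by
  ext i j
  · fin_cases i <;> fin_cases j <;> simp [herm]
  · fin_cases i <;> fin_cases j <;> simp [herm]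

lemma herm_z : herm a b (Pi.single (Sum.inr 0) 1) = !![(0 : KK a b), 1; 1, 0] := by
  ext i j
  · fin_cases i <;> fin_cases j <;> simp [herm]
  · fin_cases i <;> fin_cases j <;> simp [herm]

lemma mul_star_eq_zero {z : KK a b} (h : z * star z = 0) : z = 0 := by
  rcases mul_eq_zero.mp h with h | h
  · exact h
  · exact star_eq_zero.mp h

lemma ker_scalar (g : SpecialLinearGroup (Fin 2) (KK a b)) (hg : ∀ v, L a b g v = v) :
    ∃ p : KK a b, p * p = 1 ∧ g.1 = p • (1 : Matrix (Fin 2) (Fin 2) (KK a b)) := by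
  have hk : ∀ v, g.1 * herm a b v * g.1ᴴ = herm a b v := by
    intro v
    rw [← herm_L, hg]
  have he := hk (Pi.single (Sum.inl (Sum.inl 0)) 1)
  have hf := hk (Pi.single (Sum.inl (Sum.inr 0)) 1)
  have hz := hk (Pi.single (Sum.inr 0) 1)
  rw [herm_e] at he
  rw [herm_f] at hf
  rw [herm_z] at hz
  have e11 := congrFun (congrFun he 1) 1
  have e00 := congrFun (congrFun he 0) 0
  have f00 := congrFun (congrFun hf 0) 0
  have z01 := congrFun (congrFun hz 0) 1
  simp [Matrix.mul_apply, Fin.sum_univ_two, Matrix.conjTranspose_apply] at e11 e00 f00 z01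
  have hs : g.1 1 0 = 0 := e11
  have hr : g.1 0 1 = 0 := f00
  have hdet : g.1 0 0 * g.1 1 1 = 1 := by
    have := g.2
    rw [Matrix.det_fin_two, hs, hr] at this
    simpa using this
  rw [hr, hs] at z01
  simp at z01
  have hp : g.1 0 0 ≠ 0 := by
    intro h
    rw [h, zero_mul] at hdet
    exact zero_ne_one hdet
  have h1 : g.1 1 1 = star (g.1 0 0) := mul_left_cancel₀ hp (hdet.trans e00.symm)
  have h2 : star (g.1 1 1) = g.1 1 1 := mul_left_cancel₀ hp (z01.trans hdet.symm)
  have h3 : g.1 1 1 = g.1 0 0 := by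
    rw [h1, star_star] at h2
    rw [h1, ← h2]
  refine ⟨g.1 0 0, by rw [h3] at hdet; exact hdet, ?_⟩
  ext i j
  · fin_cases i <;> fin_cases j <;> simp [hs, hr, h3]
  · fin_cases i <;> fin_cases j <;> simp [hs, hr, h3]

lemma L_of_ker (g : SpecialLinearGroup (Fin 2) (KK a b)) (hg : g ∈ (rho4m a b).ker) (v : I4m → F) :
    L a b g v = v := by
  rw [← rho4m_mulVec, MonoidHom.mem_ker.mp hg]
  show (1 : Matrix I4m I4m F) *ᵥ v = v
  rw [Matrix.one_mulVec]

lemma ker_le_center : (rho4m a b).ker ≤ Subgroup.center (SpecialLinearGroup (Fin 2) (KK a b)) := by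
  intro g hg
  obtain ⟨p, _, hgp⟩ := ker_scalar a b g (L_of_ker a b g hg)
  rw [Subgroup.mem_center_iff]
  intro k
  apply Subtype.ext
  show k.1 * g.1 = g.1 * k.1
  rw [hgp]
  simp

lemma card_ker_le_two : Nat.card (rho4m a b).ker ≤ 2 := by
  classical
  have hinj : Function.Injective
      (fun g : (rho4m a b).ker => (⟨g.1.1 0 0, by
        obtain ⟨r, hr, hg⟩ := ker_scalar a b g.1 (L_of_ker a b g.1 g.2)
        rw [hg]
        have h2 : (r - 1) * (r + 1) = 0 := by linear_combination hr
        rcases mul_eq_zero.mp h2 with h | h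
        · simp [sub_eq_zero.mp h]
        · simp [eq_neg_of_add_eq_zero_left h]⟩ : ↥({1, -1} : Finset (KK a b)))) := by
    intro g h hgh
    have h0 : g.1.1 0 0 = h.1.1 0 0 := congrArg Subtype.val hgh
    obtain ⟨r, _, hg⟩ := ker_scalar a b g.1 (L_of_ker a b g.1 g.2)
    obtain ⟨r', _, hh⟩ := ker_scalar a b h.1 (L_of_ker a b h.1 h.2)
    apply Subtype.ext
    apply Subtype.ext
    rw [hg, hh] at h0 ⊢
    simp at h0
    rw [h0]
  have : Finite ↥({1, -1} : Finset (KK a b)) := Finite.of_fintype _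
  calc Nat.card (rho4m a b).ker ≤ Nat.card ↥({1, -1} : Finset (KK a b)) := Nat.card_le_card_of_injective _ hinj
    _ = ({1, -1} : Finset (KK a b)).card := by rw [Nat.card_eq_fintype_card, Fintype.card_coe]
    _ ≤ 2 := Finset.card_le_two

lemma ker_eq_bot_of_two (h2 : (2 : F) = 0) : (rho4m a b).ker = ⊥ := by
  rw [eq_bot_iff]
  intro g hg
  rw [Subgroup.mem_bot]
  obtain ⟨r, hr, hgr⟩ := ker_scalar a b g (L_of_ker a b g hg)
  have h2' : (2 : KK a b) = 0 := by
    ext
    · simpa using h2
    · simp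
  have h3 : (r - 1) * (r - 1) = 0 := by linear_combination hr + (1 - r) * h2'
  have h4 : r = 1 := by
    rcases mul_eq_zero.mp h3 with h | h <;> exact sub_eq_zero.mp h
  apply Subtype.ext
  rw [hgr, h4, one_smul]
  rfl

/-- a `Fintype` structure on the quadratic extension -/
noncomputable def fintypeKK [Fintype F] : Fintype (KK a b) :=
  Fintype.ofEquiv (F × F) (QuadraticAlgebra.equivProd (-b) a).symm

lemma card_KK [Fintype F] : @Fintype.card (KK a b) (fintypeKK a b) = Fintype.card F ^ 2 := by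
  rw [@Fintype.card_congr _ _ (fintypeKK a b) _ (QuadraticAlgebra.equivProd (-b) a), Fintype.card_prod, pow_two]

end kernel

end Cfsg.Agent.Lib.Helper5_O4Minus
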