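import Mathlib
import Cfsg.Agent.Lib.Helper22_StOmDefs
import Cfsg.Agent.Lib.Helper75_Clifford
import Cfsg.Agent.S0300
import Cfsg.Agent.S2544

set_option autoImplicit false

/-!
S2549 (Steinberg character of `PΩ⁻_{2m+2}(q)`), market StOm (architect helper22), package LOW1: the case `m = 1` by the
exceptional isomorphism `PΩ⁻_4(q) ≅ PSL_2(q²)` (S0300) and the Steinberg character of `PSL_2` (S2544).
-/

namespace Cfsg.Agent.Lib.Helper50_StOm_LOW1

open Matrix Cfsg.Agent.Lib.Helper68_MatGrp Cfsg.Agent.Lib.Helper22_BlkGrp Cfsg.Agent.Lib.Helper22_StOmDefs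

/-- Transport of the Steinberg conclusion along an isomorphism `K ≃* L` (as in `Helper61_StOo_LOW`, restated here to
keep the import closure small). -/
theorem transport_equiv {K L : Type*} [Group K] [Group L] [Finite L] (e : K ≃* L) (p : ℕ)
    [Fact p.Prime]
    (h : ∃ χ : L → ℂ, Cfsg.IsIrrCharacter L χ ∧ ∀ P : Sylow p L, χ 1 = Nat.card P ∧
      ∀ x : L, x ∈ P → x ≠ 1 → χ x = 0) :
    ∃ χ : K → ℂ, Cfsg.IsIrrCharacter K χ ∧ ∀ P : Sylow p K, χ 1 = Nat.card P ∧
      ∀ x : K, x ∈ P → x ≠ 1 → χ x = 0 := by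
  obtain ⟨χ, hχ, hP⟩ := h
  refine ⟨fun k => χ (e k), Cfsg.Agent.Lib.Helper75_Clifford.isIrrCharacter_comp_equiv e hχ, fun P => ?_⟩
  have hrange : (P : Subgroup K) ≤ e.symm.toMonoidHom.range := by
    rw [MonoidHom.range_eq_top.mpr e.symm.surjective]
    exact le_top
  set P' : Sylow p L := P.comapOfInjective e.symm.toMonoidHom e.symm.injective hrange with hP'
  obtain ⟨h1, h2⟩ := hP P'
  have hmem : ∀ y : L, y ∈ P' ↔ e.symm y ∈ P := fun y => Iff.rfl
  have hmap : (P' : Subgroup L) = (P : Subgroup K).map e.toMonoidHom := by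
    ext y
    rw [Subgroup.mem_map_equiv]
    exact hmem y
  constructor
  · show χ (e 1) = _
    rw [map_one, h1]
    congr 1
    show Nat.card (P' : Subgroup L) = Nat.card (P : Subgroup K)
    rw [hmap]
    exact Subgroup.card_map_of_injective e.injective
  · intro x hx hx1
    apply h2 (e x)
    · rw [hmem, e.symm_apply_apply]
      exact hx
    · intro h
      apply hx1
      have h3 := congrArg e.symm h
      rwa [e.symm_apply_apply, map_one] at h3

variable {m : ℕ} {F : Type*} [Field F] [Fintype F] {A B : F} [Fact (Aniso A B)]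

/-- LOW1 (M). -/
theorem steinberg_low1 (p : ℕ) [Fact p.Prime] [CharP F p] :
    ∃ χ : Cfsg.POmega F (Cfsg.quadFormMinus 1 F A B) → ℂ,
      Cfsg.IsIrrCharacter (Cfsg.POmega F (Cfsg.quadFormMinus 1 F A B)) χ ∧
      ∀ P : Sylow p (Cfsg.POmega F (Cfsg.quadFormMinus 1 F A B)), χ 1 = Nat.card P ∧
        ∀ x : Cfsg.POmega F (Cfsg.quadFormMinus 1 F A B), x ∈ P → x ≠ 1 → χ x = 0 := by
  classical
  have hab : Aniso A B := Fact.out
  obtain ⟨f, -, hf⟩ := FiniteField.card F p
  have hf0 : 2 * (f : ℕ) ≠ 0 := by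
    have := f.pos
    omega
  let _ : Fintype (GaloisField p (2 * (f : ℕ))) := Fintype.ofFinite _
  have hK : Fintype.card (GaloisField p (2 * (f : ℕ))) = Fintype.card F ^ 2 := by
    rw [← Nat.card_eq_fintype_card, GaloisField.card p _ hf0, hf, ← pow_mul, mul_comm]
  obtain ⟨e⟩ := Cfsg.Agent.S0300.result (F := F) (K := GaloisField p (2 * (f : ℕ))) rfl hK A B hab
  have : Finite (Matrix.SpecialLinearGroup (Fin 2) (GaloisField p (2 * (f : ℕ)))) := Subtype.finite
  have : Finite (Matrix.ProjectiveSpecialLinearGroup (Fin 2) (GaloisField p (2 * (f : ℕ)))) :=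
    inferInstance
  exact transport_equiv e p
    (Cfsg.Agent.S2544.result (F := GaloisField p (2 * (f : ℕ))) p 2 le_rfl)

end Cfsg.Agent.Lib.Helper50_StOm_LOW1
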