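import Mathlib
import Cfsg.Agent.Lib.Helper22_StOmDefs
import Cfsg.Agent.Lib.Helper68_StAbs

/-!
# S2549 package CONJB (architect helper22): conjugation `n g n⁻¹` by a block monomial element into `B`
-/

set_option autoImplicit false
set_option linter.unusedSectionVars false

namespace Cfsg.Agent.Lib.Helper79_StOm_CONJB

open Matrix Cfsg.Agent.Lib.Helper68_MatGrp Cfsg.Agent.Lib.Helper22_BlkGrp Cfsg.Agent.Lib.Helper22_StOmDefs

variable {m : ℕ} {F : Type*} [Field F] [Fintype F] {A B : F} [Fact (Aniso A B)]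

theorem conj_inv_mem_Boo {n : GO m F A B} {σ : Equiv.Perm (I m)}
    (hn : IsBMono2 (φ m F A B) (ht m) n σ) (g : GO m F A B)
    (h : ∀ a b c d, ht m b < ht m a → ht m c = ht m (σ⁻¹ a) → ht m d = ht m (σ⁻¹ b) → φ m F A B g c d = 0) :
    n * g * n⁻¹ ∈ Boo m F A B := by
  rw [mem_Boo]
  intro a b hab
  have e : n * g * n⁻¹ = (n⁻¹)⁻¹ * g * n⁻¹ := by rw [inv_inv]
  rw [e]
  by_contra hne
  obtain ⟨c, d, hcd, hc, hd⟩ := hn.inv.conj_ne_zero g hne
  exact hcd (h a b c d hab hc hd)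

end Cfsg.Agent.Lib.Helper79_StOm_CONJB
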