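import Mathlib
import Cfsg.Agent.Lib.Helper22_StOmDefs
import Cfsg.Agent.Lib.Helper68_StAbs
import Cfsg.Agent.Lib.Helper79_StOm_CONJB

/-!
# S2549 (Steinberg character of `PΩ⁻_{2m+2}(q)`), package R1L (architect helper22; delivered by helper69)

`r1L` : (R1) for a long simple root.  By-products: `diag_ne_zero` (diagonal entries of a block upper
triangular element at an index outside the plane), `mul_lxM_apply`, `lx_mem` (local copy of XB),
`tauL_cases`, `long_heights`.  Port of `Helper22_StOo_R1L`.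
-/

set_option autoImplicit false
set_option linter.unusedSectionVars false
set_option linter.unusedSimpArgs false

namespace Cfsg.Agent.Lib.Helper69_StOm_R1L

open Matrix Cfsg.Agent.Lib.Helper68_MatGrp Cfsg.Agent.Lib.Helper22_BlkGrp Cfsg.Agent.Lib.Helper22_StOmDefs

variable {m : ℕ} {F : Type*} [Field F] [Fintype F] {A B : F} [Fact (Aniso A B)]

/-- diagonal entries (outside the plane) of a block upper triangular element do not vanish -/
theorem diag_ne_zero {c : GO m F A B} (hc : c ∈ Boo m F A B) {a : I m} (ha : ¬ IsPl a) :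
    φ m F A B c a a ≠ 0 := by
  have hc' := mem_Boo.mp hc
  have hcinv' := mem_Boo.mp ((Boo m F A B).inv_mem hc)
  have e1 : (φ m F A B c * φ m F A B c⁻¹) a a = 1 := by
    rw [map_mul_inv (φ m F A B) c]
    exact Matrix.one_apply_eq a
  have e2 : (φ m F A B c * φ m F A B c⁻¹) a a = φ m F A B c a a * φ m F A B c⁻¹ a a := by
    rw [Matrix.mul_apply]
    apply Finset.sum_eq_single a
    · intro d _ hd
      by_cases hlt : ht m d < ht m a
      · rw [hc' _ _ hlt, zero_mul]
      · have hne : ht m d ≠ ht m a := fun h => hd (eq_of_ht_eq h.symm ha).symm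
        have hgt : ht m a < ht m d := by omega
        rw [hcinv' _ _ hgt, mul_zero]
    · intro h
      exact absurd (Finset.mem_univ a) h
  rw [e2] at e1
  intro h
  rw [h, zero_mul] at e1
  exact zero_ne_one e1

/-- the entries of a product with a long root matrix -/
theorem mul_lxM_apply (M : Matrix (I m) (I m) F) (a c : I m) (s : F) (x y : I m) :
    (M * lxM a c s) x y = M x y + (if y = c then M x a * s else 0)
      - (if y = op a then M x (op c) * s else 0) := by
  unfold lxM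
  simp only [Matrix.mul_add, Matrix.mul_sub, Matrix.mul_one, Matrix.add_apply, Matrix.sub_apply]
  congr 1
  · congr 1
    by_cases h : y = c
    · rw [if_pos h, h, Matrix.mul_single_apply_same]
    · rw [if_neg h, Matrix.mul_single_apply_of_ne _ _ _ _ _ h]
  · by_cases h : y = op a
    · rw [if_pos h, h, Matrix.mul_single_apply_same]
    · rw [if_neg h, Matrix.mul_single_apply_of_ne _ _ _ _ _ h]

/-- positive long root elements are upper triangular (local copy of XB) -/
theorem lx_mem (i k : Fin m) (hlt : i < k) (t : F) : lx A B (ie i) (ie k) t ∈ Boo m F A B := by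
  have hik : i ≠ k := ne_of_lt hlt
  have hlt' : i.val < k.val := hlt
  have hi := i.2
  have hk := k.2
  rw [mem_Boo]
  intro x y hxy
  rw [lx_val (lxOK_ie hik)]
  have h := mul_lxM_apply (1 : Matrix (I m) (I m) F) (ie i) (ie k) t x y
  rw [Matrix.one_mul] at h
  rw [h]
  have hxy' : x ≠ y := fun e => by rw [e] at hxy; exact lt_irrefl _ hxy
  rw [Matrix.one_apply_ne hxy']
  have e1 : (if y = ie k then (1 : Matrix (I m) (I m) F) x (ie i) * t else 0) = 0 := by
    split_ifs with h1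
    · have hx : x ≠ ie i := by
        intro e
        rw [e, h1, ht_ie, ht_ie] at hxy
        omega
      rw [Matrix.one_apply_ne hx, zero_mul]
    · rfl
  have e2 : (if y = op (ie i) then (1 : Matrix (I m) (I m) F) x (op (ie k)) * t else 0) = 0 := by
    split_ifs with h1
    · have hx : x ≠ op (ie k) := by
        intro e
        rw [e, h1, op_ie, op_ie, ht_jf, ht_jf] at hxy
        omega
      rw [Matrix.one_apply_ne hx, zero_mul]
    · rfl
  rw [e1, e2]
  simp

/-- the values of the permutation `(f_i f_k)(e_i e_k)` and the heights (`k = i + 1`) -/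
theorem tauL_cases (i k : Fin m) (hk : i.val + 1 = k.val) (x : I m) :
    ((Equiv.swap (jf i) (jf k) * Equiv.swap (ie i) (ie k)) x = ie k ∧ ht m x = i.val) ∨
    ((Equiv.swap (jf i) (jf k) * Equiv.swap (ie i) (ie k)) x = ie i ∧ ht m x = i.val + 1) ∨
    ((Equiv.swap (jf i) (jf k) * Equiv.swap (ie i) (ie k)) x = jf k ∧ ht m x = 2 * m - i.val) ∨
    ((Equiv.swap (jf i) (jf k) * Equiv.swap (ie i) (ie k)) x = jf i ∧ ht m x = 2 * m - i.val - 1) ∨
    ((Equiv.swap (jf i) (jf k) * Equiv.swap (ie i) (ie k)) x = x ∧ ht m x ≠ i.val ∧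
      ht m x ≠ i.val + 1 ∧ ht m x ≠ 2 * m - i.val ∧ ht m x ≠ 2 * m - i.val - 1) := by
  have hi' := i.2
  have hk' := k.2
  rw [Equiv.Perm.mul_apply]
  by_cases h1 : x = ie i
  · left
    refine ⟨?_, by rw [h1, ht_ie]⟩
    rw [h1, Equiv.swap_apply_left, Equiv.swap_apply_of_ne_of_ne (ie_ne_jf k i) (ie_ne_jf k k)]
  by_cases h2 : x = ie k
  · right; left
    refine ⟨?_, by rw [h2, ht_ie]; exact hk.symm⟩
    rw [h2, Equiv.swap_apply_right, Equiv.swap_apply_of_ne_of_ne (ie_ne_jf i i) (ie_ne_jf i k)]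
  by_cases h3 : x = jf i
  · right; right; left
    refine ⟨?_, by rw [h3, ht_jf]⟩
    rw [h3, Equiv.swap_apply_of_ne_of_ne (ie_ne_jf i i).symm (ie_ne_jf k i).symm,
      Equiv.swap_apply_left]
  by_cases h4 : x = jf k
  · right; right; right; left
    refine ⟨?_, by rw [h4, ht_jf]; omega⟩
    rw [h4, Equiv.swap_apply_of_ne_of_ne (ie_ne_jf i k).symm (ie_ne_jf k k).symm,
      Equiv.swap_apply_right]
  right; right; right; right
  refine ⟨?_, ?_, ?_, ?_, ?_⟩
  · rw [Equiv.swap_apply_of_ne_of_ne h1 h2, Equiv.swap_apply_of_ne_of_ne h3 h4]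
  · intro h
    apply h1
    refine (eq_of_ht_eq ?_ (not_isPl_ie i)).symm
    rw [ht_ie]; exact h.symm
  · intro h
    apply h2
    refine (eq_of_ht_eq ?_ (not_isPl_ie k)).symm
    rw [ht_ie]; omega
  · intro h
    apply h3
    refine (eq_of_ht_eq ?_ (not_isPl_jf i)).symm
    rw [ht_jf]; exact h.symm
  · intro h
    apply h4
    refine (eq_of_ht_eq ?_ (not_isPl_jf k)).symm
    rw [ht_jf]; omega

/-- an index whose height is the height of an image under the permutation `(f_i f_k)(e_i e_k)` -/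
theorem tauL_ht (i k : Fin m) (hk : i.val + 1 = k.val) (x c' : I m)
    (h : ht m c' = ht m ((Equiv.swap (jf i) (jf k) * Equiv.swap (ie i) (ie k)) x)) :
    (c' = ie k ∧ ht m x = i.val) ∨ (c' = ie i ∧ ht m x = i.val + 1) ∨
    (c' = jf k ∧ ht m x = 2 * m - i.val) ∨ (c' = jf i ∧ ht m x = 2 * m - i.val - 1) ∨
    (ht m c' = ht m x ∧ ht m x ≠ i.val ∧ ht m x ≠ i.val + 1 ∧ ht m x ≠ 2 * m - i.val ∧
      ht m x ≠ 2 * m - i.val - 1) := by
  rcases tauL_cases i k hk x with ⟨h1, h2⟩ | ⟨h1, h2⟩ | ⟨h1, h2⟩ | ⟨h1, h2⟩ | ⟨h1, h2⟩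
  · rw [h1] at h
    exact Or.inl ⟨(eq_of_ht_eq h.symm (not_isPl_ie k)).symm, h2⟩
  · rw [h1] at h
    exact Or.inr (Or.inl ⟨(eq_of_ht_eq h.symm (not_isPl_ie i)).symm, h2⟩)
  · rw [h1] at h
    exact Or.inr (Or.inr (Or.inl ⟨(eq_of_ht_eq h.symm (not_isPl_jf k)).symm, h2⟩))
  · rw [h1] at h
    exact Or.inr (Or.inr (Or.inr (Or.inl ⟨(eq_of_ht_eq h.symm (not_isPl_jf i)).symm, h2⟩)))
  · rw [h1] at h
    exact Or.inr (Or.inr (Or.inr (Or.inr ⟨h, h2⟩)))

/-- the height combinatorics for a long simple root -/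
theorem long_heights (i k : Fin m) (hk : i.val + 1 = k.val) {c : GO m F A B}
    (hc : c ∈ Boo m F A B) (h1 : φ m F A B c (ie i) (ie k) = 0)
    (h2 : φ m F A B c (jf k) (jf i) = 0)
    (a b c' d' : I m) (hab : ht m b < ht m a)
    (hc'' : ht m c' = ht m ((Equiv.swap (jf i) (jf k) * Equiv.swap (ie i) (ie k)) a))
    (hd'' : ht m d' = ht m ((Equiv.swap (jf i) (jf k) * Equiv.swap (ie i) (ie k)) b)) :
    φ m F A B c c' d' = 0 := by
  have hc' := mem_Boo.mp hc
  have hi' := i.2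
  have hk' := k.2
  rcases tauL_ht i k hk a c' hc'' with ⟨ha1, ha2⟩ | ⟨ha1, ha2⟩ | ⟨ha1, ha2⟩ | ⟨ha1, ha2⟩ |
      ⟨ha1, ha2, ha3, ha4, ha5⟩ <;>
    rcases tauL_ht i k hk b d' hd'' with ⟨hb1, hb2⟩ | ⟨hb1, hb2⟩ | ⟨hb1, hb2⟩ | ⟨hb1, hb2⟩ |
      ⟨hb1, hb2, hb3, hb4, hb5⟩ <;>
    (try rw [ha1]) <;> (try rw [hb1]) <;>
    first
      | exact h1
      | exact h2
      | (exfalso; omega)
      | (apply hc'; (try simp only [ht_ie, ht_jf]); omega)

/-- **R1L** -/
theorem r1L (i k : Fin m) (hk : i.val + 1 = k.val)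
    (hw : IsBMono2 (φ m F A B) (ht m) (wl A B (ie i) (ie k))
      (Equiv.swap (ie i) (ie k) * Equiv.swap (jf i) (jf k)))
    (b : GO m F A B) (hb : b ∈ Boo m F A B) :
    ∃ t : F, wl A B (ie i) (ie k) * (b * (lx A B (ie i) (ie k) t)⁻¹) * (wl A B (ie i) (ie k))⁻¹ ∈
      Boo m F A B := by
  have hi' := i.2
  have hk' := k.2
  have hlt : i < k := by
    rw [Fin.lt_def]; omega
  have hik : i ≠ k := ne_of_lt hlt
  have hOK : LxOK (ie i) (ie k) := lxOK_ie hik
  have hii : φ m F A B b (ie i) (ie i) ≠ 0 := diag_ne_zero hb (not_isPl_ie i)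
  obtain ⟨t, ht'⟩ : ∃ t : F, t = φ m F A B b (ie i) (ie k) / φ m F A B b (ie i) (ie i) := ⟨_, rfl⟩
  refine ⟨t, ?_⟩
  rw [lx_inv]
  obtain ⟨c, hcdef⟩ : ∃ c : GO m F A B, c = b * lx A B (ie i) (ie k) (-t) := ⟨_, rfl⟩
  rw [← hcdef]
  have hc : c ∈ Boo m F A B := by
    rw [hcdef]
    exact (Boo m F A B).mul_mem hb (lx_mem i k hlt (-t))
  have hc' := mem_Boo.mp hc
  have hcinv : c⁻¹ ∈ Boo m F A B := (Boo m F A B).inv_mem hc
  have hcinv' := mem_Boo.mp hcinv
  have hne : (ie i : I m) ≠ ie k := fun e => hik (ie_injective e)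
  -- the entry `(e_i, e_k)` of `c` vanishes
  have h1 : φ m F A B c (ie i) (ie k) = 0 := by
    rw [hcdef, map_mul, lx_val hOK, mul_lxM_apply]
    have e1 : ¬ ((ie k : I m) = op (ie i)) := by
      rw [op_ie]; exact ie_ne_jf k i
    rw [if_pos rfl, if_neg e1, ht']
    field_simp
    ring
  -- the entry `(f_k, f_i)` of `c` vanishes
  have hcii : φ m F A B c (ie i) (ie i) ≠ 0 := diag_ne_zero hc (not_isPl_ie i)
  have h3 : φ m F A B c⁻¹ (ie i) (ie k) = 0 := by
    have e1 : (φ m F A B c * φ m F A B c⁻¹) (ie i) (ie k) = 0 := by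
      rw [map_mul_inv (φ m F A B) c]
      exact Matrix.one_apply_ne hne
    have e2 : (φ m F A B c * φ m F A B c⁻¹) (ie i) (ie k) =
        φ m F A B c (ie i) (ie i) * φ m F A B c⁻¹ (ie i) (ie k) +
          φ m F A B c (ie i) (ie k) * φ m F A B c⁻¹ (ie k) (ie k) := by
      rw [Matrix.mul_apply, Fintype.sum_eq_add (ie i) (ie k) hne]
      rintro d ⟨hd1, hd2⟩
      by_cases hd : ht m d < ht m (ie i)
      · rw [hc' _ _ hd, zero_mul]
      · have hd' : ht m (ie k) < ht m d := by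
          have hne1 : ht m d ≠ ht m (ie i) :=
            fun h => hd1 (eq_of_ht_eq h.symm (not_isPl_ie i)).symm
          have hne2 : ht m d ≠ ht m (ie k) :=
            fun h => hd2 (eq_of_ht_eq h.symm (not_isPl_ie k)).symm
          simp only [ht_ie] at hd hne1 hne2 ⊢
          omega
        rw [hcinv' _ _ hd', mul_zero]
    rw [e2, h1, zero_mul, add_zero] at e1
    exact (mul_eq_zero.mp e1).resolve_left hcii
  have h2 : φ m F A B c (jf k) (jf i) = 0 := by
    have e : φ m F A B c⁻¹ (ie i) (ie k) = φ m F A B c (jf k) (jf i) := by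
      rw [φ_inv_np_np c (not_isPl_ie i) (not_isPl_ie k), op_ie, op_ie]
    rw [← e, h3]
  -- conjugation by `wl (ie i) (ie k)`
  apply Cfsg.Agent.Lib.Helper79_StOm_CONJB.conj_inv_mem_Boo hw c
  intro a b' c' d' hab hc'' hd''
  have hσ : (Equiv.swap (ie i) (ie k) * Equiv.swap (jf i) (jf k) : Equiv.Perm (I m))⁻¹ =
      Equiv.swap (jf i) (jf k) * Equiv.swap (ie i) (ie k) := by
    rw [_root_.mul_inv_rev, Equiv.swap_inv, Equiv.swap_inv]
  rw [hσ] at hc'' hd''
  exact long_heights i k hk hc h1 h2 a b' c' d' hab hc'' hd''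

end Cfsg.Agent.Lib.Helper69_StOm_R1L
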