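import Mathlib
import Cfsg.Agent.Lib.Helper22_StOmDefs
import Cfsg.Agent.Lib.Helper68_StAbs
import Cfsg.Agent.Lib.Helper69_BlockEmb

/-!
# S2549 (Steinberg character of `PΩ⁻_{2m+2}(q)`), package R3S (architect helper22; delivered by helper69)

`r3S` : the rank one relation for the twisted root (`SL₂(q²)`).  Method: all matrices are block extensions
(`Helper69_BlockEmb.blockExt`) of explicit 4 × 4 matrices on the indices `ie i, d0, d1, jf i`; the element `b`
has the matrix `x(s', t') * h` with `h` block diagonal.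
-/

set_option autoImplicit false
set_option linter.unusedSectionVars false
set_option linter.unusedVariables false

namespace Cfsg.Agent.Lib.Helper69_StOm_R3S

open Matrix Cfsg.Agent.Lib.Helper68_MatGrp Cfsg.Agent.Lib.Helper22_BlkGrp Cfsg.Agent.Lib.Helper22_StOmDefs
  Cfsg.Agent.Lib.Helper69_BlockEmb

section small

variable {F : Type*} [Field F]

/-- the small matrix of a twisted root element -/
def xs4 (A B s t : F) : Matrix (Fin 4) (Fin 4) F :=
  !![1, -(2 * s + A * t), -(A * s + 2 * B * t), -(s ^ 2 + A * s * t + B * t ^ 2);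
     0, 1, 0, s; 0, 0, 1, t; 0, 0, 0, 1]

/-- the small matrix of the Weyl representative -/
def ws4 (A : F) : Matrix (Fin 4) (Fin 4) F :=
  !![0, 0, 0, -1; 0, -1, -A, 0; 0, 0, 1, 0; -1, 0, 0, 0]

/-- the small torus matrix (`n` is the norm of `(s, t)`) -/
def hs4 (A B s t n : F) : Matrix (Fin 4) (Fin 4) F :=
  !![n⁻¹, 0, 0, 0;
     0, ((s + A * t) ^ 2 - B * t ^ 2) / n, -B * ((-(2 * s * t) - A * t ^ 2) / n), 0;
     0, (-(2 * s * t) - A * t ^ 2) / n,
        ((s + A * t) ^ 2 - B * t ^ 2) / n + A * ((-(2 * s * t) - A * t ^ 2) / n), 0;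
     0, 0, 0, n]

theorem four_identity (A B s t n : F) (hn : n = s ^ 2 + A * s * t + B * t ^ 2) (hn0 : n ≠ 0) :
    (xs4 A B (-(s + A * t) / n) (t / n) * hs4 A B s t n) *
      (ws4 A * xs4 A B (-(s + A * t) / n) (t / n) * ws4 A) =
    ws4 A * xs4 A B s t := by
  ext p q
  fin_cases p <;> fin_cases q <;>
    simp [xs4, ws4, hs4, Matrix.mul_apply, Fin.sum_univ_four] <;> field_simp <;>
    (try subst hn) <;> ring


end small

variable {m : ℕ} {F : Type*} [Field F] [Fintype F] {A B : F} [Fact (Aniso A B)]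

/-- a block extension is block upper triangular (w.r.t. a height function) if the small matrix vanishes at the
pairs `(p, q)` with `h (f q) < h (f p)` -/
theorem blockExt_upperH {ι κ : Type*} [Fintype ι] [DecidableEq ι] [Fintype κ] [DecidableEq κ]
    (h : ι → ℕ) (f : κ → ι) (hf : Function.Injective f) (M : Matrix κ κ F)
    (hM : ∀ p q, h (f q) < h (f p) → M p q = 0) (r s : ι) (hsr : h s < h r) :
    blockExt f hf M r s = 0 := by
  have hne : r ≠ s := fun e => by rw [e] at hsr; exact lt_irrefl _ hsr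
  by_cases hr : r ∈ Set.range f
  · by_cases hs : s ∈ Set.range f
    · obtain ⟨p, rfl⟩ := hr
      obtain ⟨q, rfl⟩ := hs
      rw [blockExt_apply]
      exact hM p q hsr
    · rw [blockExt_apply_right_notin f hf M r s hs, if_neg hne]
  · rw [blockExt_apply_left_notin f hf M r s hr, if_neg hne]

/-- the four indices `e_i, d0, d1, f_i` -/
def idx (i : Fin m) : Fin 4 → I m := ![ie i, d0, d1, jf i]

theorem idx_injective (i : Fin m) : Function.Injective (idx i) := by
  intro p q h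
  fin_cases p <;> fin_cases q <;> first
    | rfl
    | (exfalso; revert h
       simp [idx, ie_ne_jf, (ie_ne_jf _ _).symm, ie_ne_d0, ie_ne_d1, jf_ne_d0, jf_ne_d1, d0_ne_d1,
         (ie_ne_d0 _).symm, (ie_ne_d1 _).symm, (jf_ne_d0 _).symm, (jf_ne_d1 _).symm,
         (d0_ne_d1 (m := m)).symm])

theorem notin_range_idx {i : Fin m} {r : I m} (hr : r ∉ Set.range (idx i)) :
    r ≠ ie i ∧ r ≠ d0 ∧ r ≠ d1 ∧ r ≠ jf i := by
  refine ⟨fun h => hr ⟨0, h.symm⟩, fun h => hr ⟨1, h.symm⟩, fun h => hr ⟨2, h.symm⟩,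
    fun h => hr ⟨3, h.symm⟩⟩

theorem sxM_eq (i : Fin m) (s t : F) :
    sxM A B (ie i) s t = blockExt (idx i) (idx_injective i) (xs4 A B s t) := by
  apply eq_blockExt
  · intro p q
    fin_cases p <;> fin_cases q <;>
      simp [sxM, xs4, nrm, idx, Matrix.single_apply, Matrix.one_apply, ie_ne_jf, (ie_ne_jf _ _).symm,
        ie_ne_d0, ie_ne_d1, jf_ne_d0, jf_ne_d1, d0_ne_d1, (ie_ne_d0 _).symm, (ie_ne_d1 _).symm,
        (jf_ne_d0 _).symm, (jf_ne_d1 _).symm, (d0_ne_d1 (m := m)).symm]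
  · intro r s' hr
    obtain ⟨e1, e2, e3, e4⟩ := notin_range_idx hr
    simp [sxM, Matrix.single_apply, Matrix.one_apply, e1.symm, e2.symm, e3.symm, e4.symm]
  · intro r s' hs
    obtain ⟨e1, e2, e3, e4⟩ := notin_range_idx hs
    simp [sxM, Matrix.single_apply, Matrix.one_apply, e1.symm, e2.symm, e3.symm, e4.symm]

theorem wsM_eq (i : Fin m) :
    (wsM A (ie i) : Matrix (I m) (I m) F) = blockExt (idx i) (idx_injective i) (ws4 A) := by
  apply eq_blockExt
  · intro p q
    fin_cases p <;> fin_cases q <;>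
      simp [wsM, ws4, idx, Matrix.single_apply, Matrix.one_apply, ie_ne_jf, (ie_ne_jf _ _).symm,
        ie_ne_d0, ie_ne_d1, jf_ne_d0, jf_ne_d1, d0_ne_d1, (ie_ne_d0 _).symm, (ie_ne_d1 _).symm,
        (jf_ne_d0 _).symm, (jf_ne_d1 _).symm, (d0_ne_d1 (m := m)).symm]
    all_goals norm_num
  · intro r s' hr
    obtain ⟨e1, e2, e3, e4⟩ := notin_range_idx hr
    simp [wsM, Matrix.single_apply, Matrix.one_apply, e1.symm, e2.symm, e3.symm, e4.symm]
  · intro r s' hs
    obtain ⟨e1, e2, e3, e4⟩ := notin_range_idx hs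
    simp [wsM, Matrix.single_apply, Matrix.one_apply, e1.symm, e2.symm, e3.symm, e4.symm]

/-- **R3S** -/
theorem r3S (i : Fin m) (s t : F) (hst : s ≠ 0 ∨ t ≠ 0) :
    ∃ b ∈ Boo m F A B, ∃ s' t' : F,
      ws A B (ie i) * sx A B (ie i) s t * (ws A B (ie i))⁻¹ =
        b * ws A B (ie i) * sx A B (ie i) s' t' := by
  have hz : ¬ IsPl (ie i : I m) := not_isPl_ie i
  have hN0 : nrm A B s t ≠ 0 := nrm_ne_zero hst
  obtain ⟨n, hn⟩ : ∃ n : F, n = s ^ 2 + A * s * t + B * t ^ 2 := ⟨_, rfl⟩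
  have hn0 : n ≠ 0 := by rw [hn]; exact hN0
  obtain ⟨w, hw⟩ : ∃ w : GO m F A B, w = ws A B (ie i) := ⟨_, rfl⟩
  obtain ⟨x, hx⟩ : ∃ x : GO m F A B, x = sx A B (ie i) s t := ⟨_, rfl⟩
  obtain ⟨x', hx'⟩ : ∃ x' : GO m F A B, x' = sx A B (ie i) (-(s + A * t) / n) (t / n) := ⟨_, rfl⟩
  have hwv : φ m F A B w = wsM A (ie i) := by rw [hw]; exact ws_val hz
  have hxv : φ m F A B x = sxM A B (ie i) s t := by rw [hx]; exact sx_val hz s t
  have hxv' : φ m F A B x' = sxM A B (ie i) (-(s + A * t) / n) (t / n) := by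
    rw [hx']; exact sx_val hz _ _
  rw [← hw, ← hx]
  have heq : w * x * w⁻¹ = (w * x * w⁻¹) * (w * x')⁻¹ * w * x' := by group
  refine ⟨(w * x * w⁻¹) * (w * x')⁻¹, ?_, -(s + A * t) / n, t / n, ?_⟩
  swap
  · rw [← hx']; exact heq
  have e1 : ((w * x * w⁻¹) * (w * x')⁻¹) * (w * x' * w) = w * x := by group
  have e2 : φ m F A B ((w * x * w⁻¹) * (w * x')⁻¹) *
      (wsM A (ie i) * sxM A B (ie i) (-(s + A * t) / n) (t / n) * wsM A (ie i)) =
        wsM A (ie i) * sxM A B (ie i) s t := by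
    have := congrArg (φ m F A B) e1
    rw [map_mul, map_mul (φ m F A B) (w * x') w, map_mul (φ m F A B) w x',
      map_mul (φ m F A B) w x, hwv, hxv, hxv'] at this
    exact this
  have e3 : blockExt (idx i) (idx_injective i)
        (xs4 A B (-(s + A * t) / n) (t / n) * hs4 A B s t n) *
      (wsM A (ie i) * sxM A B (ie i) (-(s + A * t) / n) (t / n) * wsM A (ie i)) =
        wsM A (ie i) * sxM A B (ie i) s t := by
    rw [wsM_eq i, sxM_eq i, sxM_eq i, blockExt_mul, blockExt_mul, blockExt_mul, blockExt_mul]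
    congr 1
    exact four_identity A B s t n hn hn0
  have e4 : (wsM A (ie i) * sxM A B (ie i) (-(s + A * t) / n) (t / n) * wsM A (ie i)) *
      φ m F A B (w * x' * w)⁻¹ = 1 := by
    rw [← hwv, ← hxv', ← map_mul, ← map_mul, ← map_mul, mul_inv_cancel, map_one]
  have key : φ m F A B ((w * x * w⁻¹) * (w * x')⁻¹) = blockExt (idx i) (idx_injective i)
        (xs4 A B (-(s + A * t) / n) (t / n) * hs4 A B s t n) := by
    calc φ m F A B ((w * x * w⁻¹) * (w * x')⁻¹)
        = φ m F A B ((w * x * w⁻¹) * (w * x')⁻¹) *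
            ((wsM A (ie i) * sxM A B (ie i) (-(s + A * t) / n) (t / n) * wsM A (ie i)) *
              φ m F A B (w * x' * w)⁻¹) := by
          rw [e4, mul_one]
      _ = (wsM A (ie i) * sxM A B (ie i) s t) * φ m F A B (w * x' * w)⁻¹ := by
          rw [← Matrix.mul_assoc, e2]
      _ = blockExt (idx i) (idx_injective i)
            (xs4 A B (-(s + A * t) / n) (t / n) * hs4 A B s t n) *
            ((wsM A (ie i) * sxM A B (ie i) (-(s + A * t) / n) (t / n) * wsM A (ie i)) *
              φ m F A B (w * x' * w)⁻¹) := by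
          rw [← Matrix.mul_assoc, e3]
      _ = _ := by rw [e4, mul_one]
  rw [mem_Boo]
  intro r s' hsr
  rw [key]
  apply blockExt_upperH (ht m) (idx i) (idx_injective i)
  · intro p q hqp
    have hi := i.2
    fin_cases p <;> fin_cases q <;> first
      | (exfalso; simp [idx] at hqp; done)
      | (exfalso; simp [idx] at hqp; omega)
      | simp [xs4, hs4, Matrix.mul_apply, Fin.sum_univ_four]
  · exact hsr

end Cfsg.Agent.Lib.Helper69_StOm_R3S
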