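import Mathlib
import Cfsg.Agent.Lib.Helper22_StOmDefs
import Cfsg.Agent.Lib.Helper68_StAbs

/-!
# S2549 package JREV (architect helper22): a block monomial element of `Ω` reversing all heights
-/

set_option autoImplicit false

namespace Cfsg.Agent.Lib.Helper70_StOm_JREV

open Matrix Cfsg.Agent.Lib.Helper68_MatGrp Cfsg.Agent.Lib.Helper22_BlkGrp Cfsg.Agent.Lib.Helper22_StOmDefs

variable {m : ℕ} {F : Type*} [Field F] [Fintype F] {A B : F} [Fact (Aniso A B)]

/-- the partial reversal: exchanges `e_i` and `f_i` for `i < k` -/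
def prev (k : ℕ) : I m → I m
  | Sum.inr u => Sum.inr u
  | Sum.inl (Sum.inl i) => if i.val < k then Sum.inl (Sum.inr i) else Sum.inl (Sum.inl i)
  | Sum.inl (Sum.inr i) => if i.val < k then Sum.inl (Sum.inl i) else Sum.inl (Sum.inr i)

theorem prev_d0 (k : ℕ) : prev k (d0 : I m) = d0 := rfl

theorem prev_d1 (k : ℕ) : prev k (d1 : I m) = d1 := rfl

theorem prev_ie (k : ℕ) (i : Fin m) : prev k (ie i) = if i.val < k then jf i else ie i := rfl

theorem prev_jf (k : ℕ) (i : Fin m) : prev k (jf i) = if i.val < k then ie i else jf i := rfl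

theorem exists_partial
    (hws : ∀ i : Fin m, IsBMono (φ m F A B) (ht m) (ws A B (ie i)) (Equiv.swap (ie i) (jf i)))
    (hsq : ∀ i : Fin m, ws A B (ie i) * ws A B (ie i) = 1) (k : ℕ) (hk : k ≤ m) :
    ∃ (n : GO m F A B) (π : Equiv.Perm (I m)), IsBMono2 (φ m F A B) (ht m) n π ∧
      ∀ x, π x = prev k x := by
  induction k with
  | zero =>
    refine ⟨1, 1, ⟨BC.one, isBMono_one, by rw [inv_one, inv_one]; exact isBMono_one⟩, ?_⟩
    intro x
    rcases index_cases x with ⟨i, rfl⟩ | ⟨i, rfl⟩ | rfl | rfl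
    · rw [prev_ie, if_neg (Nat.not_lt_zero _)]; rfl
    · rw [prev_jf, if_neg (Nat.not_lt_zero _)]; rfl
    · rfl
    · rfl
  | succ k ih =>
    obtain ⟨n, π, ⟨hπ, hn1, hn2⟩, hπx⟩ := ih (Nat.le_of_succ_le hk)
    let i0 : Fin m := ⟨k, hk⟩
    have hw : IsBMono (φ m F A B) (ht m) (ws A B (ie i0)) (Equiv.swap (ie i0) (jf i0)) := hws i0
    have hwinv : (ws A B (ie i0))⁻¹ = ws A B (ie i0) := inv_eq_of_mul_eq_one_right (hsq i0)
    have hτ : BC (ht m) (Equiv.swap (ie i0 : I m) (jf i0)) :=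
      bc_of_fix (Equiv.swap_apply_of_ne_of_ne (ie_ne_d0 i0).symm (jf_ne_d0 i0).symm)
        (Equiv.swap_apply_of_ne_of_ne (ie_ne_d1 i0).symm (jf_ne_d1 i0).symm)
    refine ⟨n * ws A B (ie i0), π * Equiv.swap (ie i0) (jf i0),
      ⟨hπ.mul hτ, hn1.mul hπ hw, ?_⟩, ?_⟩
    · rw [_root_.mul_inv_rev, _root_.mul_inv_rev, hwinv, Equiv.swap_inv]
      exact hw.mul hτ hn2
    intro x
    rw [Equiv.Perm.mul_apply, hπx]
    rcases index_cases x with ⟨i, rfl⟩ | ⟨i, rfl⟩ | rfl | rfl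
    · by_cases hi : i = i0
      · subst hi
        rw [Equiv.swap_apply_left, prev_jf, prev_ie, if_neg (lt_irrefl _),
          if_pos (Nat.lt_succ_self _)]
      · have hne : (ie i : I m) ≠ ie i0 := fun h => hi (ie_injective h)
        rw [Equiv.swap_apply_of_ne_of_ne hne (ie_ne_jf i i0), prev_ie, prev_ie]
        have hik : i.val ≠ k := fun h => hi (Fin.ext h)
        by_cases hlt : i.val < k
        · rw [if_pos hlt, if_pos (Nat.lt_succ_of_lt hlt)]
        · rw [if_neg hlt, if_neg (by omega)]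
    · by_cases hi : i = i0
      · subst hi
        rw [Equiv.swap_apply_right, prev_jf, prev_ie, if_neg (lt_irrefl _),
          if_pos (Nat.lt_succ_self _)]
      · have hne : (jf i : I m) ≠ jf i0 := fun h => hi (jf_injective h)
        rw [Equiv.swap_apply_of_ne_of_ne (ie_ne_jf i0 i).symm hne, prev_jf, prev_jf]
        have hik : i.val ≠ k := fun h => hi (Fin.ext h)
        by_cases hlt : i.val < k
        · rw [if_pos hlt, if_pos (Nat.lt_succ_of_lt hlt)]
        · rw [if_neg hlt, if_neg (by omega)]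
    · rw [Equiv.swap_apply_of_ne_of_ne (ie_ne_d0 i0).symm (jf_ne_d0 i0).symm]
      rfl
    · rw [Equiv.swap_apply_of_ne_of_ne (ie_ne_d1 i0).symm (jf_ne_d1 i0).symm]
      rfl

theorem exists_rev
    (hws : ∀ i : Fin m, IsBMono (φ m F A B) (ht m) (ws A B (ie i)) (Equiv.swap (ie i) (jf i)))
    (hsq : ∀ i : Fin m, ws A B (ie i) * ws A B (ie i) = 1) :
    ∃ n : GO m F A B, IsBMono2 (φ m F A B) (ht m) n opE := by
  obtain ⟨n, π, hn, hπ⟩ := exists_partial hws hsq m le_rfl
  have hπ' : π = opE := by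
    apply Equiv.ext
    intro x
    rw [hπ, opE_apply]
    rcases index_cases x with ⟨i, rfl⟩ | ⟨i, rfl⟩ | rfl | rfl
    · rw [prev_ie, if_pos i.2, op_ie]
    · rw [prev_jf, if_pos i.2, op_jf]
    · rfl
    · rfl
  rw [hπ'] at hn
  exact ⟨n, hn⟩

end Cfsg.Agent.Lib.Helper70_StOm_JREV
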