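/-
S2549 market (architect helper22), package R2L: (R2) for long roots in `Ω⁻_{2m+2}(q)`
(block monomial version of Helper36_StOo_R2L / Helper7_StOp_R2).
-/
import Mathlib
import Cfsg.Agent.Lib.Helper22_StOmDefs
import Cfsg.Agent.Lib.Helper68_StAbs

set_option autoImplicit false
set_option linter.unusedSectionVars false

namespace Cfsg.Agent.Lib.Helper7_StOm_R2L

open Matrix Cfsg.Agent.Lib.Helper68_MatGrp Cfsg.Agent.Lib.Helper22_BlkGrp Cfsg.Agent.Lib.Helper22_StOmDefs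

variable {m : ℕ} {F : Type*} [Field F] [Fintype F] {A B : F} [Fact (Aniso A B)]

/-- off-diagonal entries of `lxM` -/
theorem lxM_off (a c : I m) (t : F) (x y : I m) (hxy : x ≠ y)
    (h1 : ¬ (x = a ∧ y = c)) (h2 : ¬ (x = op c ∧ y = op a)) : lxM a c t x y = 0 := by
  unfold lxM
  rw [Matrix.sub_apply, Matrix.add_apply, Matrix.one_apply_ne hxy, Matrix.single_apply,
    Matrix.single_apply]
  have e1 : ¬ (a = x ∧ c = y) := fun e => h1 ⟨e.1.symm, e.2.symm⟩
  have e2 : ¬ (op c = x ∧ op a = y) := fun e => h2 ⟨e.1.symm, e.2.symm⟩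
  rw [if_neg e1, if_neg e2, add_zero, sub_zero]

/-- the support of `lxM` -/
theorem lxM_supp (a c : I m) (t : F) (x y : I m) (h : lxM a c t x y ≠ 0) :
    x = y ∨ (x = a ∧ y = c) ∨ (x = op c ∧ y = op a) := by
  by_contra hcon
  push Not at hcon
  exact h (lxM_off a c t x y hcon.1 (fun e => hcon.2.1 e.1 e.2) (fun e => hcon.2.2 e.1 e.2))

/-- conjugation by a block monomial element into `B` -/
theorem conj_mem_Boo {n : GO m F A B} {σ : Equiv.Perm (I m)}
    (hn : IsBMono2 (φ m F A B) (ht m) n σ) (g : GO m F A B)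
    (h : ∀ c d, φ m F A B g c d ≠ 0 → ∀ a b, ht m c = ht m (σ a) → ht m d = ht m (σ b) →
      ht m a ≤ ht m b) : n⁻¹ * g * n ∈ Boo m F A B := by
  rw [mem_Boo]
  intro a b hab
  by_contra hne
  obtain ⟨c, d, hcd, hc, hd⟩ := hn.conj_ne_zero g hne
  have := h c d hcd a b hc hd
  omega

theorem ht_op_le {a b : I m} (h : ht m a < ht m b) : ht m (op b) ≤ ht m (op a) := by
  rw [ht_op, ht_op]
  omega

/-- the general step -/
theorem r2L_key (n : GO m F A B) (σ : Equiv.Perm (I m))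
    (hn : IsBMono2 (φ m F A B) (ht m) n σ)
    (hsw : ∀ a, σ (op a) = op (σ a)) (x y : I m) (hxy : LxOK x y) (a₁ b₁ : I m)
    (h1 : σ a₁ = x) (h2 : σ b₁ = y) (hlt : ht m a₁ < ht m b₁) (t : F) :
    n⁻¹ * lx A B x y t * n ∈ Boo m F A B := by
  have h3 : σ (op a₁) = op x := by rw [hsw, h1]
  have h4 : σ (op b₁) = op y := by rw [hsw, h2]
  have hx : ¬ IsPl x := hxy.1
  have hy : ¬ IsPl y := hxy.2.1
  have hox : ¬ IsPl (op x) := fun h => hx (isPl_op.mp h)
  have hoy : ¬ IsPl (op y) := fun h => hy (isPl_op.mp h)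
  apply conj_mem_Boo hn
  intro c d hcd a b hc hd
  rw [lx_val hxy] at hcd
  rcases lxM_supp x y t c d hcd with e | ⟨e1, e2⟩ | ⟨e1, e2⟩
  · rw [e, hd] at hc
    exact le_of_eq ((hn.1 a b).mp hc.symm)
  · rw [e1] at hc
    rw [e2] at hd
    have ea : a = a₁ := σ.injective ((eq_of_ht_eq hc hx).symm.trans h1.symm)
    have eb : b = b₁ := σ.injective ((eq_of_ht_eq hd hy).symm.trans h2.symm)
    rw [ea, eb]
    exact le_of_lt hlt
  · rw [e1] at hc
    rw [e2] at hd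
    have ea : a = op b₁ := σ.injective ((eq_of_ht_eq hc hoy).symm.trans h4.symm)
    have eb : b = op a₁ := σ.injective ((eq_of_ht_eq hd hox).symm.trans h3.symm)
    rw [ea, eb]
    exact ht_op_le hlt

/-- preimages of non-plane indices are not in the plane -/
theorem not_isPl_symm {σ : Equiv.Perm (I m)} (hσ0 : σ d0 = d0) (hσ1 : σ d1 = d1) {x : I m}
    (hx : ¬ IsPl x) : ¬ IsPl (σ⁻¹ x) := by
  intro h
  apply hx
  have e : σ (σ⁻¹ x) = x := by simp
  rcases h with h | h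
  · rw [h, hσ0] at e
    exact Or.inl e.symm
  · rw [h, hσ1] at e
    exact Or.inr e.symm

theorem r2L (i k : Fin m) (hik : i ≠ k) (n : GO m F A B) (σ : Equiv.Perm (I m))
    (hn : IsBMono2 (φ m F A B) (ht m) n σ) (hσ0 : σ d0 = d0) (hσ1 : σ d1 = d1)
    (hsw : ∀ a, σ (op a) = op (σ a)) :
    (∀ t : F, n⁻¹ * lx A B (ie i) (ie k) t * n ∈ Boo m F A B) ∨
      (∀ t : F, n⁻¹ * lx A B (ie k) (ie i) t * n ∈ Boo m F A B) := by
  have hσa : σ (σ⁻¹ (ie i)) = ie i := by simp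
  have hσb : σ (σ⁻¹ (ie k)) = ie k := by simp
  have hne : σ⁻¹ (ie i) ≠ σ⁻¹ (ie k) := by
    intro h
    have : (ie i : I m) = ie k := σ⁻¹.injective h
    exact hik (ie_injective this)
  have hnp : ¬ IsPl (σ⁻¹ (ie i)) := not_isPl_symm hσ0 hσ1 (not_isPl_ie i)
  have hht : ht m (σ⁻¹ (ie i)) ≠ ht m (σ⁻¹ (ie k)) := fun h => hne (eq_of_ht_eq h hnp)
  rcases lt_or_gt_of_ne hht with hlt | hlt
  · left
    exact r2L_key n σ hn hsw _ _ (lxOK_ie hik) _ _ hσa hσb hlt
  · right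
    exact r2L_key n σ hn hsw _ _ (lxOK_ie hik.symm) _ _ hσb hσa hlt

end Cfsg.Agent.Lib.Helper7_StOm_R2L
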