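/-
S2549 market (architect helper22), package R2S: (R2) for the twisted roots in `Ω⁻_{2m+2}(q)`
(block monomial version of Helper36_StOo_R2S).
-/
import Mathlib
import Cfsg.Agent.Lib.Helper22_StOmDefs
import Cfsg.Agent.Lib.Helper68_StAbs
import Cfsg.Agent.Lib.Helper7_StOm_R2L

set_option autoImplicit false
set_option linter.unusedSectionVars false

namespace Cfsg.Agent.Lib.Helper7_StOm_R2S

open Matrix Cfsg.Agent.Lib.Helper68_MatGrp Cfsg.Agent.Lib.Helper22_BlkGrp Cfsg.Agent.Lib.Helper22_StOmDefs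
open Cfsg.Agent.Lib.Helper7_StOm_R2L (conj_mem_Boo not_isPl_symm)

variable {m : ℕ} {F : Type*} [Field F] [Fintype F] {A B : F} [Fact (Aniso A B)]

/-- off-diagonal entries of `sxM` -/
theorem sxM_off (c : I m) (s t : F) (x y : I m) (hxy : x ≠ y)
    (h1 : ¬ (x = d0 ∧ y = op c)) (h2 : ¬ (x = d1 ∧ y = op c)) (h3 : ¬ (x = c ∧ y = d0))
    (h4 : ¬ (x = c ∧ y = d1)) (h5 : ¬ (x = c ∧ y = op c)) : sxM A B c s t x y = 0 := by
  unfold sxM
  simp only [Matrix.sub_apply, Matrix.add_apply, Matrix.one_apply_ne hxy, Matrix.single_apply]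
  have e1 : ¬ (d0 = x ∧ op c = y) := fun e => h1 ⟨e.1.symm, e.2.symm⟩
  have e2 : ¬ (d1 = x ∧ op c = y) := fun e => h2 ⟨e.1.symm, e.2.symm⟩
  have e3 : ¬ (c = x ∧ d0 = y) := fun e => h3 ⟨e.1.symm, e.2.symm⟩
  have e4 : ¬ (c = x ∧ d1 = y) := fun e => h4 ⟨e.1.symm, e.2.symm⟩
  have e5 : ¬ (c = x ∧ op c = y) := fun e => h5 ⟨e.1.symm, e.2.symm⟩
  rw [if_neg e1, if_neg e2, if_neg e3, if_neg e4, if_neg e5]
  ring

/-- the support of `sxM` -/
theorem sxM_supp (c : I m) (s t : F) (x y : I m) (h : sxM A B c s t x y ≠ 0) :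
    x = y ∨ (IsPl x ∧ y = op c) ∨ (x = c ∧ IsPl y) ∨ (x = c ∧ y = op c) := by
  by_contra hcon
  push Not at hcon
  obtain ⟨hxy, h1, h2, h3⟩ := hcon
  exact h (sxM_off c s t x y hxy (fun e => h1 (Or.inl e.1) e.2) (fun e => h1 (Or.inr e.1) e.2)
    (fun e => h2 e.1 (Or.inl e.2)) (fun e => h2 e.1 (Or.inr e.2)) (fun e => h3 e.1 e.2))

/-- an index whose image has the height of the plane has the height of the plane -/
theorem ht_eq_m_of {σ : Equiv.Perm (I m)} (hbc : BC (ht m) σ) (hσ0 : σ d0 = d0) {c a : I m}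
    (hc : IsPl c) (h : ht m c = ht m (σ a)) : ht m a = m := by
  have h1 : ht m (σ a) = ht m (σ d0) := by
    rw [← h, hσ0, ht_of_isPl hc]; rfl
  have := (hbc a d0).mp h1
  rw [this]; rfl

/-- the general step -/
theorem r2S_key (n : GO m F A B) (σ : Equiv.Perm (I m))
    (hn : IsBMono2 (φ m F A B) (ht m) n σ) (hσ0 : σ d0 = d0)
    (hsw : ∀ a, σ (op a) = op (σ a)) (x : I m) (hx : ¬ IsPl x) (a₁ : I m)
    (h1 : σ a₁ = x) (hlt : ht m a₁ < m) (s t : F) :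
    n⁻¹ * sx A B x s t * n ∈ Boo m F A B := by
  have h3 : σ (op a₁) = op x := by rw [hsw, h1]
  have hox : ¬ IsPl (op x) := fun h => hx (isPl_op.mp h)
  have hop : ht m (op a₁) = 2 * m - ht m a₁ := ht_op a₁
  apply conj_mem_Boo hn
  intro c d hcd a b hc hd
  rw [sx_val hx] at hcd
  rcases sxM_supp x s t c d hcd with e | ⟨e1, e2⟩ | ⟨e1, e2⟩ | ⟨e1, e2⟩
  · rw [e, hd] at hc
    exact le_of_eq ((hn.1 a b).mp hc.symm)
  · have ha : ht m a = m := ht_eq_m_of hn.1 hσ0 e1 hc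
    rw [e2] at hd
    have eb : b = op a₁ := σ.injective ((eq_of_ht_eq hd hox).symm.trans h3.symm)
    rw [ha, eb, hop]
    omega
  · have hb : ht m b = m := ht_eq_m_of hn.1 hσ0 e2 hd
    rw [e1] at hc
    have ea : a = a₁ := σ.injective ((eq_of_ht_eq hc hx).symm.trans h1.symm)
    rw [hb, ea]
    omega
  · rw [e1] at hc
    rw [e2] at hd
    have ea : a = a₁ := σ.injective ((eq_of_ht_eq hc hx).symm.trans h1.symm)
    have eb : b = op a₁ := σ.injective ((eq_of_ht_eq hd hox).symm.trans h3.symm)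
    rw [ea, eb, hop]
    omega

theorem r2S (i : Fin m) (n : GO m F A B) (σ : Equiv.Perm (I m))
    (hn : IsBMono2 (φ m F A B) (ht m) n σ) (hσ0 : σ d0 = d0) (hσ1 : σ d1 = d1)
    (hsw : ∀ a, σ (op a) = op (σ a)) :
    (∀ s t : F, n⁻¹ * sx A B (ie i) s t * n ∈ Boo m F A B) ∨
      (∀ s t : F, n⁻¹ * sx A B (jf i) s t * n ∈ Boo m F A B) := by
  have hσa : σ (σ⁻¹ (ie i)) = ie i := by simp
  have hnp : ¬ IsPl (σ⁻¹ (ie i)) := not_isPl_symm hσ0 hσ1 (not_isPl_ie i)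
  have hne' : ht m (σ⁻¹ (ie i)) ≠ m := fun h => hnp (ht_eq_m_iff.mp h)
  rcases lt_or_gt_of_ne hne' with hlt | hlt
  · left
    exact r2S_key n σ hn hσ0 hsw _ (not_isPl_ie i) _ hσa hlt
  · right
    have h1 : σ (op (σ⁻¹ (ie i))) = jf i := by rw [hsw, hσa, op_ie]
    have h2 : ht m (op (σ⁻¹ (ie i))) < m := by
      rw [ht_op]
      have := ht_le (σ⁻¹ (ie i))
      omega
    exact r2S_key n σ hn hσ0 hsw _ (not_isPl_jf i) _ h1 h2

end Cfsg.Agent.Lib.Helper7_StOm_R2S
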