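import Mathlib
import Cfsg.Agent.Lib.Helper22_StOmDefs
import Cfsg.Agent.Lib.Helper68_StAbs
import Cfsg.Agent.Lib.Helper77_StOo_PGRP

/-!
# S2549 market (architect helper22), package PGRP (helper84)

Block unitriangular isometries have `p`-power order (all characteristics).
-/

set_option autoImplicit false

namespace Cfsg.Agent.Lib.Helper84_StOm_PGRP

open Matrix Cfsg.Agent.Lib.Helper68_MatGrp Cfsg.Agent.Lib.Helper22_BlkGrp Cfsg.Agent.Lib.Helper22_StOmDefs

variable {m : ℕ} {F : Type*} [Field F] [Fintype F] {A B : F} [Fact (Aniso A B)]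

/-- PGRP (M/L).  Block unitriangular elements have `p`-power order. -/
theorem unitri_pow (p : ℕ) [Fact p.Prime] [CharP F p] (u : OO m F A B) (hu : u ∈ BO m F A B)
    (h1 : ∀ x y : I m, ht m x = ht m y → φO m F A B u x y = if x = y then 1 else 0) :
    ∃ k : ℕ, u ^ (p ^ k) = 1 := by
  classical
  have : CharP (Matrix (I m) (I m) F) p := Matrix.charP p
  set K : ℕ := 2 * m + 1 with hKdef
  have hK : ∀ a : I m, ht m a < K := fun a => by
    have := ht_le a
    omega
  have hp2 : 2 ≤ p := (Fact.out : p.Prime).two_le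
  have hKp : K ≤ p ^ K := (Nat.lt_pow_self hp2).le
  refine ⟨K, ?_⟩
  apply φO_injective
  set N : Matrix (I m) (I m) F := φO m F A B u - 1 with hNdef
  have hN : ∀ a b, ht m b ≤ ht m a → N a b = 0 := by
    intro a b hab
    rw [hNdef, Matrix.sub_apply]
    rcases eq_or_lt_of_le hab with h | h
    · rw [h1 a b h.symm, Matrix.one_apply, sub_self]
    · have hne : a ≠ b := fun e => by rw [e] at h; exact lt_irrefl _ h
      rw [mem_BO.1 hu a b h, Matrix.one_apply_ne hne, sub_self]
  have hNK : N ^ p ^ K = 0 :=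
    Cfsg.Agent.Lib.Helper77_StOo_PGRP.pow_eq_zero_of_strict (ht m) N hN K hK (p ^ K) hKp
  have hdec : φO m F A B u = 1 + N := by rw [hNdef]; abel
  rw [map_pow, map_one, hdec, add_pow_char_pow_of_commute p K (Commute.one_left N), one_pow, hNK,
    add_zero]

end Cfsg.Agent.Lib.Helper84_StOm_PGRP
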