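/-
StOm market (architect helper22, statement S2549), package SIEGB: Siegel transformations centred at `e_0` are
upper triangular.  Port of `Helper38_StOo_SIEGB` / `Helper79_StOp_SIEGB`.  (helper85)
-/
import Mathlib
import Cfsg.Agent.Lib.Helper22_StOmDefs
import Cfsg.Agent.Lib.Helper68_StAbs

set_option autoImplicit false
set_option linter.unusedSectionVars false

namespace Cfsg.Agent.Lib.Helper85_StOm_SIEGB

open Matrix Cfsg.Agent.Lib.Helper68_MatGrp Cfsg.Agent.Lib.Helper22_BlkGrp Cfsg.Agent.Lib.Helper22_StOmDefs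

variable {m : ℕ} {F : Type*} [Field F] [Fintype F] {A B : F} [Fact (Aniso A B)]

/-- the polar vector of `β e_a` (`a` outside the plane) is `β` times the indicator of `op a` -/
theorem polarVec_single_smul {a : I m} (ha : ¬ IsPl a) (β : F) (b : I m) :
    Cfsg.polarVec (⇑(Qm m F A B)) (Pi.single a β) b = if b = op a then β else 0 := by
  unfold Cfsg.polarVec
  rw [QuadraticMap.polar_comm, polar_single_np A B _ ha, Pi.single_apply]
  split_ifs with h1 h2 h2
  · rw [mul_one]
  · exact absurd h1.symm h2
  · exact absurd h2.symm h1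
  · rw [mul_zero]

theorem siegel_mem_Boo (hm : 0 < m) (g : GO m F A B) (v : I m → F) (β c : F)
    (hg : φ m F A B g = Cfsg.siegelMatrix (⇑(Qm m F A B)) (Pi.single (ie ⟨0, hm⟩) β) v c) :
    g ∈ Boo m F A B := by
  rw [mem_Boo]
  intro a b hab
  have hne : a ≠ b := by
    rintro rfl
    exact lt_irrefl _ hab
  rw [hg, Cfsg.siegelMatrix]
  simp only [Matrix.add_apply, Matrix.smul_apply, Matrix.sub_apply, Matrix.vecMulVec_apply,
    Matrix.one_apply, if_neg hne, smul_eq_mul, zero_add]
  rw [polarVec_single_smul (not_isPl_ie _)]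
  have hb : b ≠ op (ie ⟨0, hm⟩) := by
    rintro rfl
    have := ht_le (m := m) a
    rw [op_ie, ht_jf] at hab
    simp only at hab
    omega
  have ha : a ≠ ie ⟨0, hm⟩ := by
    rintro rfl
    simp only [ht_ie] at hab
    omega
  rw [if_neg hb, Pi.single_apply, if_neg ha]
  ring

end Cfsg.Agent.Lib.Helper85_StOm_SIEGB
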