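import Mathlib
import Cfsg.Agent.Lib.Helper20_StOm_GEN
import Cfsg.Agent.Lib.Helper20_StOm_GENB
import Cfsg.Agent.Lib.Helper22_StOm_CARDB
import Cfsg.Agent.Lib.Helper22_StOm_OPPS
import Cfsg.Agent.Lib.Helper26_StOm_INJ
import Cfsg.Agent.Lib.Helper26_StOm_XB
import Cfsg.Agent.Lib.Helper36_StOm_R1S
import Cfsg.Agent.Lib.Helper41_StOm_LOW0
import Cfsg.Agent.Lib.Helper41_StOm_MONOW
import Cfsg.Agent.Lib.Helper41_StOm_SWAP
import Cfsg.Agent.Lib.Helper46_StOm_OPPL
import Cfsg.Agent.Lib.Helper46_StOm_R3L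
import Cfsg.Agent.Lib.Helper50_StOm_LOW1
import Cfsg.Agent.Lib.Helper63_StOm_GENA
import Cfsg.Agent.Lib.Helper69_StOm_R1L
import Cfsg.Agent.Lib.Helper69_StOm_R3S
import Cfsg.Agent.Lib.Helper70_StOm_JREV
import Cfsg.Agent.Lib.Helper79_StOm_SQ
import Cfsg.Agent.Lib.Helper7_StOm_R2L
import Cfsg.Agent.Lib.Helper7_StOm_R2S
import Cfsg.Agent.Lib.Helper84_StOm_DIAGHOM
import Cfsg.Agent.Lib.Helper84_StOm_PGRP
import Cfsg.Agent.Lib.Helper85_StOm_SIEGB
import Cfsg.Agent.Lib.Helper88_StOm_TORUS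
import Cfsg.Agent.Lib.Helper27_StSU_GENERIC

set_option autoImplicit false
set_option linter.unusedSectionVars false
set_option linter.unusedVariables false

namespace Cfsg.Agent.Lib.Helper22_StOm

open Matrix Cfsg.Agent.Lib.Helper68_MatGrp Cfsg.Agent.Lib.Helper22_BlkGrp Cfsg.Agent.Lib.Helper22_StOmDefs
open Cfsg.Agent.Lib.Helper20_StOm_GEN (sup_eq_top_of_gen)
open Cfsg.Agent.Lib.Helper20_StOm_GENB (genB)
open Cfsg.Agent.Lib.Helper22_StOm_CARDB (card_Boo)
open Cfsg.Agent.Lib.Helper22_StOm_OPPS (oppS oppS')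
open Cfsg.Agent.Lib.Helper26_StOm_INJ (ss_inj)
open Cfsg.Agent.Lib.Helper26_StOm_XB (lx_mem_Boo sx_mem_Boo lx_not_mem_Boo sx_not_mem_Boo)
open Cfsg.Agent.Lib.Helper36_StOm_R1S (r1S)
open Cfsg.Agent.Lib.Helper41_StOm_LOW0 (steinberg_low0)
open Cfsg.Agent.Lib.Helper41_StOm_MONOW (wl_isBMono ws_isBMono)
open Cfsg.Agent.Lib.Helper41_StOm_SWAP (bmono_op)
open Cfsg.Agent.Lib.Helper46_StOm_OPPL (oppL oppL')
open Cfsg.Agent.Lib.Helper46_StOm_R3L (r3L)
open Cfsg.Agent.Lib.Helper50_StOm_LOW1 (steinberg_low1)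
open Cfsg.Agent.Lib.Helper63_StOm_GENA (genA)
open Cfsg.Agent.Lib.Helper69_StOm_R1L (r1L)
open Cfsg.Agent.Lib.Helper69_StOm_R3S (r3S)
open Cfsg.Agent.Lib.Helper70_StOm_JREV (exists_rev)
open Cfsg.Agent.Lib.Helper79_StOm_SQ (wl_sq ws_sq)
open Cfsg.Agent.Lib.Helper7_StOm_R2L (r2L)
open Cfsg.Agent.Lib.Helper7_StOm_R2S (r2S)
open Cfsg.Agent.Lib.Helper84_StOm_DIAGHOM (exists_diagHom)
open Cfsg.Agent.Lib.Helper84_StOm_PGRP (unitri_pow)
open Cfsg.Agent.Lib.Helper85_StOm_SIEGB (siegel_mem_Boo)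
open Cfsg.Agent.Lib.Helper88_StOm_TORUS (not_dvd_card_Too)

variable {m : ℕ} {F : Type*} [Field F] [Fintype F] {A B : F} [Fact (Aniso A B)]

/-! ## ASSEMBLY -/

theorem swap_fix {a c x : I m} (ha : x ≠ a) (hc : x ≠ c) : Equiv.swap a c x = x :=
  Equiv.swap_apply_of_ne_of_ne ha hc

/-- block monomial elements whose permutation fixes the plane pointwise -/
def MooP (m : ℕ) (F : Type*) [Field F] (A B : F) : Subgroup (GO m F A B) where
  carrier := {g | ∃ σ : Equiv.Perm (I m), σ d0 = d0 ∧ σ d1 = d1 ∧ IsBMono2 (φ m F A B) (ht m) g σ}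
  mul_mem' := by
    rintro a b ⟨σ, h0, h1, hσ, hs1, hs2⟩ ⟨τ, k0, k1, hτ, ht1, ht2⟩
    refine ⟨σ * τ, by rw [Equiv.Perm.mul_apply, k0, h0], by rw [Equiv.Perm.mul_apply, k1, h1],
      hσ.mul hτ, hs1.mul hσ ht1, ?_⟩
    rw [_root_.mul_inv_rev, _root_.mul_inv_rev]
    exact ht2.mul hτ.inv hs2
  one_mem' := ⟨1, rfl, rfl, BC.one, isBMono_one, by rw [inv_one, inv_one]; exact isBMono_one⟩
  inv_mem' := by
    rintro g ⟨σ, h0, h1, hσ, hs1, hs2⟩
    refine ⟨σ⁻¹, ?_, ?_, hσ.inv, hs2, by rw [inv_inv, inv_inv]; exact hs1⟩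
    · rw [Equiv.Perm.inv_eq_iff_eq, h0]
    · rw [Equiv.Perm.inv_eq_iff_eq, h1]

theorem Too_le_MooP : Too m F A B ≤ MooP m F A B := by
  intro g hg
  refine ⟨1, rfl, rfl, BC.one, isBMono_of_mem_BDiag hg, ?_⟩
  rw [inv_one]
  exact isBMono_of_mem_BDiag ((Too m F A B).inv_mem hg)

/-- the permutation of the long Weyl representative -/
def σL (a c : I m) : Equiv.Perm (I m) := Equiv.swap a c * Equiv.swap (op a) (op c)

theorem σL_fix {a c x : I m} (h : LxOK a c) (hx : IsPl x) : σL a c x = x := by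
  obtain ⟨ha, hc, -, -⟩ := h
  have hopa : ¬ IsPl (op a) := fun e => ha (isPl_op.mp e)
  have hopc : ¬ IsPl (op c) := fun e => hc (isPl_op.mp e)
  unfold σL
  have h1 : Equiv.swap (op a) (op c) x = x :=
    swap_fix (fun e => hopa (by rw [← e]; exact hx)) (fun e => hopc (by rw [← e]; exact hx))
  have h2 : Equiv.swap a c x = x :=
    swap_fix (fun e => ha (by rw [← e]; exact hx)) (fun e => hc (by rw [← e]; exact hx))
  rw [Equiv.Perm.mul_apply, h1, h2]

theorem σL_inv {a c : I m} (h : LxOK a c) : (σL a c)⁻¹ = σL a c := by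
  obtain ⟨ha, hc, hca, hca'⟩ := h
  unfold σL
  rw [_root_.mul_inv_rev, Equiv.swap_inv, Equiv.swap_inv]
  apply Equiv.Perm.Disjoint.commute
  rw [Equiv.Perm.disjoint_iff_eq_or_eq]
  intro x
  by_cases h1 : x = op a
  · right
    rw [h1]
    exact swap_fix (fun e => op_ne_self ha e) (fun e => hca' e.symm)
  · by_cases h2 : x = op c
    · right
      rw [h2]
      exact swap_fix (fun e => hca' (by rw [← e, op_op])) (fun e => op_ne_self hc e)
    · left
      exact swap_fix h1 h2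

theorem wl_isBMono2 {a c : I m} (h : LxOK a c) :
    IsBMono2 (φ m F A B) (ht m) (wl A B a c) (σL a c) := by
  have hbc : BC (ht m) (σL a c) := bc_of_fix (σL_fix h isPl_d0) (σL_fix h isPl_d1)
  refine ⟨hbc, wl_isBMono h, ?_⟩
  rw [σL_inv h]
  have e : (wl A B a c)⁻¹ = (wl A B a c * wl A B a c)⁻¹ * wl A B a c := by group
  rw [e]
  have h1 := isBMono_of_mem_BDiag ((Too m F A B).inv_mem (wl_sq (A := A) (B := B) h))
  have h2 := h1.mul BC.one (wl_isBMono (A := A) (B := B) h)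
  rwa [one_mul] at h2

theorem swapS_inv (c : I m) : (Equiv.swap c (op c) : Equiv.Perm (I m))⁻¹ = Equiv.swap c (op c) :=
  Equiv.swap_inv _ _

theorem swapS_fix {c x : I m} (hc : ¬ IsPl c) (hx : IsPl x) : Equiv.swap c (op c) x = x := by
  have hopc : ¬ IsPl (op c) := fun e => hc (isPl_op.mp e)
  exact swap_fix (fun e => hc (by rw [← e]; exact hx)) (fun e => hopc (by rw [← e]; exact hx))

theorem ws_inv {c : I m} (hc : ¬ IsPl c) : (ws A B c)⁻¹ = ws A B c :=
  inv_eq_of_mul_eq_one_left (ws_sq hc)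

theorem ws_isBMono2 {c : I m} (hc : ¬ IsPl c) :
    IsBMono2 (φ m F A B) (ht m) (ws A B c) (Equiv.swap c (op c)) := by
  refine ⟨bc_of_fix (swapS_fix hc isPl_d0) (swapS_fix hc isPl_d1), ws_isBMono hc, ?_⟩
  rw [swapS_inv, ws_inv hc]
  exact ws_isBMono hc

theorem ss_mono (j : Fin m) : ∃ σ : Equiv.Perm (I m), IsBMono2 (φ m F A B) (ht m) (ss A B j) σ ∧
    σ = if h : j.val + 1 < m then
        Equiv.swap (ie j) (ie ⟨j.val + 1, h⟩) * Equiv.swap (jf j) (jf ⟨j.val + 1, h⟩)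
      else Equiv.swap (ie j) (jf j) := by
  by_cases h : j.val + 1 < m
  · refine ⟨_, ?_, rfl⟩
    rw [ss_of_lt j h, dif_pos h]
    exact wl_isBMono2 (lxOK_ie (succ_ne j h))
  · refine ⟨_, ?_, rfl⟩
    rw [ss_of_not_lt j h, dif_neg h]
    exact ws_isBMono2 (not_isPl_ie j)

theorem ss_mem_MooP (j : Fin m) : ss A B j ∈ MooP m F A B := by
  by_cases h : j.val + 1 < m
  · rw [ss_of_lt j h]
    have hok := lxOK_ie (succ_ne j h)
    exact ⟨_, σL_fix hok isPl_d0, σL_fix hok isPl_d1, wl_isBMono2 hok⟩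
  · rw [ss_of_not_lt j h]
    exact ⟨_, swapS_fix (not_isPl_ie j) isPl_d0, swapS_fix (not_isPl_ie j) isPl_d1,
      ws_isBMono2 (not_isPl_ie j)⟩

theorem Noo_le_MooP : Noo m F A B ≤ MooP m F A B := by
  unfold Noo
  apply sup_le
  · rw [Subgroup.closure_le]
    rintro _ ⟨j, rfl⟩
    exact ss_mem_MooP j
  · exact Too_le_MooP

theorem MooP_le_Moo : MooP m F A B ≤ Moo m F A B := by
  rintro g ⟨σ, -, -, h⟩
  exact ⟨σ, h⟩

theorem Boo_inf_Noo : Boo m F A B ⊓ Noo m F A B = Too m F A B := by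
  apply le_antisymm
  · rintro g ⟨hB, hN⟩
    exact mem_BDiag_of_mono_of_UT (φ m F A B) (ht m) (MooP_le_Moo (Noo_le_MooP hN)) hB
  · apply le_inf
    · exact Too_le_Boo
    · exact le_sup_right

theorem sup_eq_top (hm : 2 ≤ m) : Boo m F A B ⊔ Noo m F A B = ⊤ :=
  sup_eq_top_of_gen hm (fun a ha => genA (by omega) a ha) genB
    (fun g ⟨v, β, c, hg⟩ => siegel_mem_Boo (by omega) g v β c hg)

theorem Us_le_Boo (j : Fin m) : Us A B j ≤ Boo m F A B := by
  by_cases h : j.val + 1 < m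
  · rw [Us_of_lt j h]
    rintro _ ⟨t, rfl⟩
    exact lx_mem_Boo _ _ (by rw [Fin.lt_def]; simp) t
  · rw [Us_of_not_lt j h]
    rintro _ ⟨s, t, rfl⟩
    exact sx_mem_Boo j s t

theorem lxM_apply_ne {a c : I m} (hac : a ≠ c) (h : LxOK a c) (t : F) : lxM a c t a c = t := by
  unfold lxM
  have h1 : ¬ (op c = a ∧ op a = c) := fun e => h.2.2.2 e.2.symm
  rw [Matrix.sub_apply, Matrix.add_apply, Matrix.one_apply_ne hac, Matrix.single_apply_same,
    Matrix.single_apply, if_neg h1, zero_add, sub_zero]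

theorem lx_eq_one_iff {a c : I m} (h : LxOK a c) (t : F) : lx A B a c t = 1 ↔ t = 0 := by
  constructor
  · intro e
    have hne : a ≠ c := fun e' => h.2.2.1 e'.symm
    have h1 := lxM_apply_ne hne h t
    rw [← lx_val (A := A) (B := B) h, e, map_one, Matrix.one_apply_ne hne] at h1
    exact h1.symm
  · rintro rfl
    exact lx_zero a c

theorem sx_eq_one_iff {c : I m} (hc : ¬ IsPl c) (s t : F) :
    sx A B c s t = 1 ↔ s = 0 ∧ t = 0 := by
  have hopc : ¬ IsPl (op c) := fun e => hc (isPl_op.mp e)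
  constructor
  · intro e
    have h0 : sxM A B c s t d0 (op c) = s := by
      unfold sxM
      simp only [Matrix.sub_apply, Matrix.add_apply, Matrix.single_apply]
      rw [Matrix.one_apply_ne (fun e' => hopc (by rw [← e']; exact isPl_d0))]
      have e1 : ¬ ((d1 : I m) = d0 ∧ op c = op c) := fun e' => d0_ne_d1 e'.1.symm
      have e2 : ¬ (c = d0 ∧ (d0 : I m) = op c) := fun e' => hc (Or.inl e'.1)
      have e3 : ¬ (c = d0 ∧ (d1 : I m) = op c) := fun e' => hc (Or.inl e'.1)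
      have e4 : ¬ (c = d0 ∧ op c = op c) := fun e' => hc (Or.inl e'.1)
      have e5 : ¬ (c = d0) := fun e' => hc (Or.inl e')
      simp only [and_self, and_true, if_true, if_neg e1, if_neg e2, if_neg e3, if_neg e4,
        if_neg (d0_ne_d1 (m := m)).symm, if_neg e5]
      ring
    have h1 : sxM A B c s t d1 (op c) = t := by
      unfold sxM
      simp only [Matrix.sub_apply, Matrix.add_apply, Matrix.single_apply]
      rw [Matrix.one_apply_ne (fun e' => hopc (by rw [← e']; exact isPl_d1))]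
      have e1 : ¬ ((d0 : I m) = d1 ∧ op c = op c) := fun e' => d0_ne_d1 e'.1
      have e2 : ¬ (c = d1 ∧ (d0 : I m) = op c) := fun e' => hc (Or.inr e'.1)
      have e3 : ¬ (c = d1 ∧ (d1 : I m) = op c) := fun e' => hc (Or.inr e'.1)
      have e4 : ¬ (c = d1 ∧ op c = op c) := fun e' => hc (Or.inr e'.1)
      have e5 : ¬ (c = d1) := fun e' => hc (Or.inr e')
      simp only [and_self, and_true, if_true, if_neg e1, if_neg e2, if_neg e3, if_neg e4,
        if_neg (d0_ne_d1 (m := m)), if_neg e5]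
      ring
    rw [← sx_val (A := A) (B := B) hc, e, map_one] at h0 h1
    rw [Matrix.one_apply_ne (fun e' => hopc (by rw [← e']; exact isPl_d0))] at h0
    rw [Matrix.one_apply_ne (fun e' => hopc (by rw [← e']; exact isPl_d1))] at h1
    exact ⟨h0.symm, h1.symm⟩
  · rintro ⟨rfl, rfl⟩
    exact sx_zero c

/-- the root-subgroup data of `Ω⁻_{2m+2}(F)` -/
noncomputable def omRDat (hm : 2 ≤ m) : Cfsg.Agent.Lib.Helper68_StAbs.RDat (GO m F A B) m where
  B := Boo m F A B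
  N := Noo m F A B
  s := ss A B
  U := Us A B
  sup_eq_top := sup_eq_top hm
  conj_mem := by
    intro n hn t ht'
    rw [Boo_inf_Noo] at ht'
    exact Too_le_Boo (conj_mem_BDiag (φ m F A B) (ht m) (MooP_le_Moo (Noo_le_MooP hn)) ht')
  s_mem := fun j => (le_sup_left : _ ≤ Noo m F A B) (Subgroup.subset_closure ⟨j, rfl⟩)
  sq_mem := by
    intro j
    by_cases h : j.val + 1 < m
    · rw [ss_of_lt j h]
      exact Too_le_Boo (wl_sq (lxOK_ie (succ_ne j h)))
    · rw [ss_of_not_lt j h, ws_sq (not_isPl_ie j)]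
      exact one_mem _
  inj := ss_inj ss_mono
  closure_sup := by
    rw [Boo_inf_Noo]
    rfl
  U_le := Us_le_Boo
  r1 := by
    intro j b hb
    by_cases h : j.val + 1 < m
    · have hok := lxOK_ie (succ_ne j h)
      have hw := wl_isBMono2 (A := A) (B := B) hok
      unfold σL at hw
      rw [op_ie, op_ie] at hw
      obtain ⟨t, ht⟩ := r1L j ⟨j.val + 1, h⟩ rfl hw b hb
      refine ⟨lx A B (ie j) (ie ⟨j.val + 1, h⟩) t, ?_, ?_⟩
      · rw [Us_of_lt j h]; exact ⟨t, rfl⟩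
      · rw [ss_of_lt j h]
        exact ht
    · have hw := ws_isBMono2 (A := A) (B := B) (not_isPl_ie j)
      rw [op_ie] at hw
      obtain ⟨s, t, ht⟩ := r1S j (by have := j.2; omega) hw b hb
      refine ⟨sx A B (ie j) s t, ?_, ?_⟩
      · rw [Us_of_not_lt j h]; exact ⟨s, t, rfl⟩
      · rw [ss_of_not_lt j h]
        exact ht
  r2 := by
    intro j n hn
    obtain ⟨σ, hσ0, hσ1, hσ⟩ := Noo_le_MooP hn
    have hsw := bmono_op hσ0 hσ1 hσ.2.1
    by_cases h : j.val + 1 < m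
    · rcases r2L j ⟨j.val + 1, h⟩ (succ_ne j h) n σ hσ hσ0 hσ1 hsw with h1 | h1
      · left
        rw [Us_of_lt j h]
        rintro _ ⟨t, rfl⟩
        exact h1 t
      · right
        rw [Us_of_lt j h]
        rintro _ ⟨t, rfl⟩
        rw [ss_of_lt j h, oppL (lxOK_ie (succ_ne j h))]
        exact h1 (-t)
    · rcases r2S j n σ hσ hσ0 hσ1 hsw with h1 | h1
      · left
        rw [Us_of_not_lt j h]
        rintro _ ⟨s, t, rfl⟩
        exact h1 s t
      · right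
        rw [Us_of_not_lt j h]
        rintro _ ⟨s, t, rfl⟩
        rw [ss_of_not_lt j h, oppS (not_isPl_ie j), op_ie]
        exact h1 _ _
  r3 := by
    intro j u hu hu1
    by_cases h : j.val + 1 < m
    · rw [Us_of_lt j h] at hu ⊢
      obtain ⟨t, rfl⟩ := hu
      have ht : t ≠ 0 := fun h0 => hu1 ((lx_eq_one_iff (lxOK_ie (succ_ne j h)) t).2 h0)
      obtain ⟨b, hb, t', e⟩ := r3L (A := A) (B := B) j ⟨j.val + 1, h⟩ (by rw [Fin.lt_def]; simp) t ht
      refine ⟨b, hb, lx A B (ie j) (ie ⟨j.val + 1, h⟩) t', ⟨t', rfl⟩, ?_⟩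
      rw [ss_of_lt j h]
      exact e
    · rw [Us_of_not_lt j h] at hu ⊢
      obtain ⟨s, t, rfl⟩ := hu
      have hst : s ≠ 0 ∨ t ≠ 0 := by
        by_contra hcon
        push Not at hcon
        exact hu1 ((sx_eq_one_iff (not_isPl_ie j) s t).2 hcon)
      obtain ⟨b, hb, s', t', e⟩ := r3S (A := A) (B := B) j s t hst
      refine ⟨b, hb, sx A B (ie j) s' t', ⟨s', t', rfl⟩, ?_⟩
      rw [ss_of_not_lt j h]
      exact e
  r4 := by
    intro j
    by_cases h : j.val + 1 < m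
    · refine ⟨lx A B (ie j) (ie ⟨j.val + 1, h⟩) 1, ?_, ?_⟩
      · rw [Us_of_lt j h]; exact ⟨1, rfl⟩
      · rw [ss_of_lt j h, oppL' (lxOK_ie (succ_ne j h))]
        exact lx_not_mem_Boo j ⟨j.val + 1, h⟩ (by rw [Fin.lt_def]; simp) (-1) (by simp)
    · refine ⟨sx A B (ie j) 1 0, ?_, ?_⟩
      · rw [Us_of_not_lt j h]; exact ⟨1, 0, rfl⟩
      · rw [ss_of_not_lt j h, oppS' (not_isPl_ie j), op_ie]
        exact sx_not_mem_Boo j _ _ (Or.inl (by simp))

/-- **The Steinberg character of `PΩ⁻_{2m+2}(F)`**, `m ≥ 2`, for the bundled form. -/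
theorem exists_steinberg_high (p : ℕ) [Fact p.Prime] [CharP F p] (hm : 2 ≤ m) :
    ∃ χ : Cfsg.POmega F (⇑(Qm m F A B)) → ℂ,
      Cfsg.IsIrrCharacter (Cfsg.POmega F (⇑(Qm m F A B))) χ ∧
      ∀ P : Sylow p (Cfsg.POmega F (⇑(Qm m F A B))), χ 1 = Nat.card P ∧
        ∀ x : Cfsg.POmega F (⇑(Qm m F A B)), x ∈ P → x ≠ 1 → χ x = 0 := by
  classical
  have hp : p.Prime := Fact.out
  have hfin : Finite (GO m F A B) := Subtype.finite
  obtain ⟨g₀, hg₀⟩ := exists_rev (m := m) (A := A) (B := B)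
    (fun i => ws_isBMono (not_isPl_ie i)) (fun i => ws_sq (not_isPl_ie i))
  obtain ⟨δ, hδ⟩ := exists_diagHom (m := m) (F := F) (A := A) (B := B)
  obtain ⟨k, hk⟩ := card_Boo (m := m) (A := A) (B := B) p δ hδ (fun u hu h1 => unitri_pow p u hu h1)
  have hBT : Nat.card ((omRDat (A := A) (B := B) hm).B) =
      Nat.card ↥((omRDat (A := A) (B := B) hm).B ⊓ (omRDat (A := A) (B := B) hm).N) * p ^ k := by
    show Nat.card (Boo m F A B) = Nat.card ↥(Boo m F A B ⊓ Noo m F A B) * _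
    rw [Boo_inf_Noo, hk]
  have hT : ¬ p ∣ Nat.card ↥((omRDat (A := A) (B := B) hm).B ⊓ (omRDat (A := A) (B := B) hm).N) := by
    show ¬ p ∣ Nat.card ↥(Boo m F A B ⊓ Noo m F A B)
    rw [Boo_inf_Noo]
    exact not_dvd_card_Too p
  refine Cfsg.Agent.Lib.Helper68_StAbs.exists_steinberg (omRDat (A := A) (B := B) hm) p k hBT
    g₀ ?_ (Cfsg.Agent.Lib.Helper27_StSU_GENERIC.hG_of_hBT (omRDat (A := A) (B := B) hm) p k hBT hT)
    (Subgroup.center _) le_rfl
    (Cfsg.Agent.Lib.Helper27_StSU_GENERIC.center_le_B (omRDat (A := A) (B := B) hm))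
  · intro b hb hc
    have hD : b ∈ Too m F A B := by
      apply mem_BDiag_of_conj_rev (φ m F A B) (ht m) hg₀ _ hb hc
      intro a c hac
      show ht m (op c) < ht m (op a)
      rw [ht_op, ht_op]
      have := ht_le a
      have := ht_le c
      omega
    exact (le_sup_right : Too m F A B ≤ Noo m F A B) hD

/-- **The Steinberg character of `PΩ⁻_{2m+2}(F)`** (S2549). -/
theorem exists_steinberg_pomega_minus (p : ℕ) [Fact p.Prime] [CharP F p] (m : ℕ) :
    ∃ χ : Cfsg.POmega F (Cfsg.quadFormMinus m F A B) → ℂ,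
      Cfsg.IsIrrCharacter (Cfsg.POmega F (Cfsg.quadFormMinus m F A B)) χ ∧
      ∀ P : Sylow p (Cfsg.POmega F (Cfsg.quadFormMinus m F A B)), χ 1 = Nat.card P ∧
        ∀ x : Cfsg.POmega F (Cfsg.quadFormMinus m F A B), x ∈ P → x ≠ 1 → χ x = 0 := by
  rcases Nat.lt_or_ge m 2 with h | h
  · interval_cases m
    · exact steinberg_low0 p
    · exact steinberg_low1 p
  · have := exists_steinberg_high (A := A) (B := B) p h
    rw [Qm_coe] at this
    exact this

end Cfsg.Agent.Lib.Helper22_StOm
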