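/-
S4613, family POM (`PΩ⁻_{2m+2}(F)`), family architect helper86: common definitions for the sub-market `pom_packages`.
Block port of `Helper68_AutUMat` to helper22's model `GO m F A B` of `Ω⁻_{2m+2}(F)` (`Helper22_StOmDefs`, `Helper22_StOm`):
the height `ht m` is constant on the anisotropic plane `{d0, d1}`, `Boo` is BLOCK upper triangular, `Too` BLOCK diagonal.

* `IsBU M`  : the matrix `M` is block unitriangular (block upper triangular with identity diagonal blocks);
* `FixLv k M`: the columns `e_i`, `f_i`, `i < k`, of `M` are the standard basis vectors;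
* `UUb`     : the block unitriangular elements of `Ω` (the unipotent radical of `Boo`), with `UUb_le_Boo`, `UUb_normal`,
              `UUb_pgroup`;
* `σs j`    : the permutation of the `j`-th simple reflection `ss A B j`, with `ss_isBMono2`.
-/
import Mathlib
import Cfsg.Agent.Lib.Helper22_StOm
import Cfsg.Agent.Lib.Helper68_AutUMat

set_option autoImplicit false
set_option linter.unusedSectionVars false
set_option linter.unusedVariables false

namespace Cfsg.Agent.Lib.Helper86_PomDefs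

open Matrix Cfsg.Agent.Lib.Helper68_MatGrp Cfsg.Agent.Lib.Helper22_BlkGrp Cfsg.Agent.Lib.Helper22_StOmDefs
open Cfsg.Agent.Lib.Helper84_StOm_DIAGHOM (Dm Dm_apply Dm_one Dm_mul)

variable {m : ℕ} {F : Type*} [Field F]

/-- `M` is block unitriangular: block upper triangular with identity diagonal blocks -/
def IsBU (M : Matrix (I m) (I m) F) : Prop :=
  (∀ a b, ht m b < ht m a → M a b = 0) ∧ ∀ x y, ht m x = ht m y → M x y = if x = y then 1 else 0

theorem isBU_iff (M : Matrix (I m) (I m) F) :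
    IsBU M ↔ (∀ a b, ht m b < ht m a → M a b = 0) ∧ Dm M = 1 := by
  constructor
  · rintro ⟨h1, h2⟩
    refine ⟨h1, ?_⟩
    ext x y
    rw [Dm_apply, Matrix.one_apply]
    by_cases h : ht m x = ht m y
    · rw [if_pos h, h2 x y h]
    · rw [if_neg h, if_neg (fun e => h (by rw [e]))]
  · rintro ⟨h1, h2⟩
    refine ⟨h1, fun x y h => ?_⟩
    have := congrFun (congrFun h2 x) y
    rw [Dm_apply, if_pos h, Matrix.one_apply] at this
    exact this

theorem isBU_one : IsBU (1 : Matrix (I m) (I m) F) := by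
  rw [isBU_iff]
  refine ⟨fun a b hab => ?_, Dm_one⟩
  have hne : a ≠ b := fun e => by rw [e] at hab; exact lt_irrefl _ hab
  exact Matrix.one_apply_ne hne

/-- the columns `e_i`, `f_i`, `i < k`, of `M` are the standard basis vectors -/
def FixLv (k : ℕ) (M : Matrix (I m) (I m) F) : Prop :=
  ∀ i : Fin m, i.val < k → (∀ x, M x (ie i) = if x = ie i then 1 else 0) ∧
    (∀ x, M x (jf i) = if x = jf i then 1 else 0)

theorem fixLv_zero (M : Matrix (I m) (I m) F) : FixLv 0 M := fun i hi => absurd hi (Nat.not_lt_zero _)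

theorem IsBU.mul {M M' : Matrix (I m) (I m) F} (h : IsBU M) (h' : IsBU M') : IsBU (M * M') := by
  rw [isBU_iff] at h h' ⊢
  refine ⟨?_, by rw [Dm_mul h.1 h'.1, h.2, h'.2, one_mul]⟩
  intro a b hab
  rw [Matrix.mul_apply]
  apply Finset.sum_eq_zero
  intro c _
  by_cases hc : ht m c < ht m a
  · rw [h.1 a c hc, zero_mul]
  · rw [h'.1 c b (by omega), mul_zero]

variable {A B : F}

/-- the block unitriangular elements of `Ω`: the unipotent radical of `Boo` -/
def UUb (m : ℕ) (F : Type*) [Field F] (A B : F) : Subgroup (GO m F A B) where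
  carrier := {g | IsBU (φ m F A B g)}
  mul_mem' := by
    intro a b ha hb
    show IsBU (φ m F A B (a * b))
    rw [map_mul]
    exact IsBU.mul ha hb
  one_mem' := by
    show IsBU (φ m F A B 1)
    rw [map_one]
    exact isBU_one
  inv_mem' := by
    intro g hg'
    show IsBU (φ m F A B g⁻¹)
    have hg : IsBU (φ m F A B g) := hg'
    have hgB : g ∈ Boo m F A B := hg.1
    have hgi : g⁻¹ ∈ Boo m F A B := (Boo m F A B).inv_mem hgB
    rw [isBU_iff] at hg ⊢
    refine ⟨mem_Boo.1 hgi, ?_⟩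
    have h1 : Dm (φ m F A B g⁻¹) * Dm (φ m F A B g) = 1 := by
      rw [← Dm_mul (mem_Boo.1 hgi) (mem_Boo.1 hgB), ← map_mul, inv_mul_cancel, map_one, Dm_one]
    rw [hg.2, mul_one] at h1
    exact h1

theorem mem_UUb {g : GO m F A B} : g ∈ UUb m F A B ↔ IsBU (φ m F A B g) := Iff.rfl

theorem UUb_le_Boo : UUb m F A B ≤ Boo m F A B := fun g hg => mem_Boo.2 hg.1

/-- `Boo` normalises `UUb` -/
theorem UUb_normal : ∀ b ∈ Boo m F A B, ∀ u ∈ UUb m F A B, b * u * b⁻¹ ∈ UUb m F A B := by
  intro b hb u hu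
  have hbi : b⁻¹ ∈ Boo m F A B := (Boo m F A B).inv_mem hb
  have huB : u ∈ Boo m F A B := UUb_le_Boo hu
  rw [mem_UUb, isBU_iff] at hu ⊢
  refine ⟨mem_Boo.1 ((Boo m F A B).mul_mem ((Boo m F A B).mul_mem hb huB) hbi), ?_⟩
  rw [map_mul, map_mul,
    Dm_mul (by rw [← map_mul]; exact mem_Boo.1 ((Boo m F A B).mul_mem hb huB)) (mem_Boo.1 hbi),
    Dm_mul (mem_Boo.1 hb) (mem_Boo.1 huB), hu.2, mul_one,
    ← Dm_mul (mem_Boo.1 hb) (mem_Boo.1 hbi), ← map_mul, mul_inv_cancel, map_one, Dm_one]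

/-- `UUb` is a `p`-group -/
theorem UUb_pgroup [Fintype F] [Fact (Aniso A B)] (p : ℕ) [Fact p.Prime] [CharP F p] :
    IsPGroup p (UUb m F A B) := by
  rintro ⟨u, hu⟩
  obtain ⟨k, hk⟩ := Cfsg.Agent.Lib.Helper84_StOm_PGRP.unitri_pow (m := m) (A := A) (B := B) p u.1
    (mem_BO.2 hu.1) hu.2
  refine ⟨k, ?_⟩
  apply Subtype.ext
  apply Subtype.ext
  rw [Subgroup.coe_pow, Subgroup.coe_pow, Subgroup.coe_one, Subgroup.coe_one]
  exact hk

section simple

variable [Fintype F] [Fact (Aniso A B)]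

/-- the permutation of the `j`-th simple reflection -/
def σs (j : Fin m) : Equiv.Perm (I m) :=
  if h : j.val + 1 < m then
    Equiv.swap (ie j) (ie ⟨j.val + 1, h⟩) * Equiv.swap (jf j) (jf ⟨j.val + 1, h⟩)
  else Equiv.swap (ie j) (jf j)

theorem σs_of_lt (j : Fin m) (h : j.val + 1 < m) :
    σs j = Equiv.swap (ie j) (ie ⟨j.val + 1, h⟩) * Equiv.swap (jf j) (jf ⟨j.val + 1, h⟩) := by
  unfold σs; rw [dif_pos h]

theorem σs_of_not_lt (j : Fin m) (h : ¬ j.val + 1 < m) : σs j = Equiv.swap (ie j) (jf j) := by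
  unfold σs; rw [dif_neg h]

/-- the simple reflections are block monomial -/
theorem ss_isBMono2 (j : Fin m) : IsBMono2 (φ m F A B) (ht m) (ss A B j) (σs j) := by
  obtain ⟨σ, h1, h2⟩ := Cfsg.Agent.Lib.Helper22_StOm.ss_mono (A := A) (B := B) j
  have : σ = σs j := h2
  rw [← this]
  exact h1

end simple

end Cfsg.Agent.Lib.Helper86_PomDefs
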