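import Mathlib
import Cfsg.Agent.Lib.Helper86_PomDefs

/-!
# pom_packages CENTU (helper21): `Z(Ω) ∩ U = 1` for the model `GO m F A B` of `Ω⁻_{2m+2}(F)`

A central element `z` of `Ω` that is block unitriangular is fixed under conjugation by the height-reversing
block monomial element `g₀` (`exists_rev`), hence block diagonal (`mem_BDiag_of_conj_rev`); block diagonal and
block unitriangular forces `φ z = 1`.
-/

set_option autoImplicit false
set_option linter.unusedSectionVars false
set_option linter.unusedVariables false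

namespace Cfsg.Agent.Lib.Helper21_Pom_CENTU

open Matrix Cfsg Cfsg.Agent.Lib.Helper68_MatGrp Cfsg.Agent.Lib.Helper22_BlkGrp Cfsg.Agent.Lib.Helper22_StOmDefs
open Cfsg.Agent.Lib.Helper86_PomDefs Cfsg.Agent.Lib.Helper68_AutU
open Cfsg.Agent.Lib.Helper5_OmegaCenter (eichO eichMat)

variable {m : ℕ} {F : Type*} [Field F] [Fintype F] {A B : F} [Fact (Aniso A B)]

/-- CENTU (S).  `Z(Ω) ∩ U = 1`. -/
theorem center_U : ∀ z ∈ Subgroup.center (GO m F A B), z ∈ UUb m F A B → z = 1 := by
  intro z hz hzU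
  obtain ⟨g₀, hg₀⟩ := Cfsg.Agent.Lib.Helper70_StOm_JREV.exists_rev (m := m) (A := A) (B := B)
    (fun i => Cfsg.Agent.Lib.Helper41_StOm_MONOW.ws_isBMono (not_isPl_ie i))
    (fun i => Cfsg.Agent.Lib.Helper79_StOm_SQ.ws_sq (not_isPl_ie i))
  have hzB : z ∈ Boo m F A B := UUb_le_Boo hzU
  have hcomm : g₀⁻¹ * z * g₀ = z := by
    have := (Subgroup.mem_center_iff.mp hz) g₀
    -- `g₀ * z = z * g₀`
    rw [mul_assoc, ← this, inv_mul_cancel_left]
  have hc : g₀⁻¹ * z * g₀ ∈ Boo m F A B := by rw [hcomm]; exact hzB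
  have hD : z ∈ Too m F A B := by
    apply mem_BDiag_of_conj_rev (φ m F A B) (ht m) hg₀ _ hzB hc
    intro a c hac
    show ht m (op c) < ht m (op a)
    rw [ht_op, ht_op]
    have := ht_le (m := m) a
    have := ht_le (m := m) c
    omega
  have hBU : IsBU (φ m F A B z) := mem_UUb.1 hzU
  apply φ_injective (m := m) (F := F) (A := A) (B := B)
  rw [map_one]
  ext a b
  by_cases h : ht m a = ht m b
  · rw [hBU.2 a b h, Matrix.one_apply]
  · rw [mem_Too.1 hD a b h, Matrix.one_apply_ne (fun e => h (by rw [e]))]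

end Cfsg.Agent.Lib.Helper21_Pom_CENTU
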