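import Mathlib
import Cfsg.Agent.Lib.Helper94_Q2Defs

/-!
# Q2 market (architect helper94), package Q2-NSURJ

The norm `x^2 + b x y - a y^2` of `E = QuadraticAlgebra F a b` over a finite field `F` is onto `F`.
Characteristic 2: every `c` is a square, take `y = 0`.  Odd `q`: complete the square,
`norm (u - b y / 2 + y ω) = u^2 - D y^2` with `D = b^2 / 4 + a ≠ 0`, and use
`FiniteField.exists_root_sum_quadratic`.
-/

set_option autoImplicit false
set_option linter.unusedSectionVars false
set_option linter.unusedVariables false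

namespace Cfsg.Agent.Lib.Helper63_Q2_NSURJ

open Module Cfsg.Agent.Lib.Helper94_Symp Cfsg.Agent.Lib.Helper94_OrthSmall
  Cfsg.Agent.Lib.Helper94_OrthSiegel Cfsg.Agent.Lib.Helper94_OrthNondeg
  Cfsg.Agent.Lib.Helper29_ODDefs Cfsg.Agent.Lib.Helper94_Q2Defs

variable {F : Type*} [Field F] [Finite F] {a b : F} [Fact (∀ r : F, r ^ 2 ≠ a + b * r)] {t : ℕ}
  {S M L : Subgroup (MV a b t ≃ₗ[F] MV a b t)}

/-- **Q2-NSURJ** [M]  norm (x + y omega) = x^2 + b x y - a y^2.  char 2: every c is a square, take y = 0.  odd q: complete the square and use the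
two-sets-of-size-(q+1)/2 pigeonhole (Mathlib: FiniteField.exists_root_sum_quadratic, or a direct count). -/
theorem NSURJ (c : F) : ∃ z : QuadraticAlgebra F a b, QuadraticAlgebra.norm z = c := by
  classical
  let _ := Fintype.ofFinite F
  by_cases h2 : ringChar F = 2
  · obtain ⟨s, hs⟩ := FiniteField.isSquare_of_char_two h2 c
    refine ⟨⟨s, 0⟩, ?_⟩
    rw [QuadraticAlgebra.norm_def]
    simp [hs]
  · have hodd := FiniteField.odd_card_of_char_ne_two h2
    have h2' : (2 : F) ≠ 0 := Ring.two_ne_zero h2
    have h4 : (4 : F) ≠ 0 := by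
      have e : (4 : F) = 2 * 2 := by norm_num
      rw [e]; exact mul_ne_zero h2' h2'
    have hfact : ∀ r : F, r ^ 2 ≠ a + b * r := Fact.out
    have hD0 : b ^ 2 / 4 + a ≠ 0 := by
      intro h0
      apply hfact (b / 2)
      have e : a = - (b ^ 2 / 4) := by linear_combination h0
      rw [e]
      field_simp
      ring
    obtain ⟨u, y, huy⟩ := FiniteField.exists_root_sum_quadratic
      (f := Polynomial.X ^ 2 - Polynomial.C c) (g := Polynomial.C (-(b ^ 2 / 4 + a)) * Polynomial.X ^ 2)
      (Polynomial.degree_X_pow_sub_C (by decide) c)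
      (Polynomial.degree_C_mul_X_pow 2 (neg_ne_zero.mpr hD0)) hodd
    simp only [Polynomial.eval_sub, Polynomial.eval_pow, Polynomial.eval_X, Polynomial.eval_C,
      Polynomial.eval_mul] at huy
    refine ⟨⟨u - b * y / 2, y⟩, ?_⟩
    rw [QuadraticAlgebra.norm_def]
    simp only
    field_simp
    field_simp at huy
    linear_combination huy

end Cfsg.Agent.Lib.Helper63_Q2_NSURJ
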