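import Mathlib
import Cfsg.Agent.Lib.Helper94_Q2Defs

set_option autoImplicit false
set_option linter.unusedSectionVars false
set_option linter.unusedVariables false

/-!
Q2 market (helper94), package Q2-BASIC: five small lemmas on the model `MV a b t`.  (helper85)
-/

namespace Cfsg.Agent.Lib.Helper85_Q2_BASIC

open Module Cfsg.Agent.Lib.Helper94_Symp Cfsg.Agent.Lib.Helper94_OrthSmall
  Cfsg.Agent.Lib.Helper94_OrthSiegel Cfsg.Agent.Lib.Helper94_OrthNondeg
  Cfsg.Agent.Lib.Helper29_ODDefs Cfsg.Agent.Lib.Helper94_Q2Defs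

variable {F : Type*} [Field F] [Finite F] {a b : F} [Fact (∀ r : F, r ^ 2 ≠ a + b * r)] {t : ℕ}
  {S M L : Subgroup (MV a b t ≃ₗ[F] MV a b t)}

theorem mQ_of_mem {l : Fin t} {x : MV a b t} (hx : x ∈ mD a b t l) :
    mQ a b t x = QuadraticAlgebra.norm (x l) := by
  rw [mQ_apply]
  refine Finset.sum_eq_single l ?_ ?_
  · intro j _ hj
    rw [hx j hj, QuadraticAlgebra.norm_zero]
  · intro h
    exact absurd (Finset.mem_univ l) h

theorem mB_of_mem {l : Fin t} {x : MV a b t} (hx : x ∈ mD a b t l) (y : MV a b t) :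
    mB a b t y x = QuadraticAlgebra.trace (y l * star (x l)) := by
  rw [mB_apply]
  refine Finset.sum_eq_single l ?_ ?_
  · intro j _ hj
    rw [hx j hj, star_zero, mul_zero, map_zero]
  · intro h
    exact absurd (Finset.mem_univ l) h

theorem single_mem (l : Fin t) (ζ : QuadraticAlgebra F a b) :
    (Pi.single l ζ : MV a b t) ∈ mD a b t l := by
  intro j hj
  simp [hj]

theorem eq_single_of_mem {l : Fin t} {x : MV a b t} (hx : x ∈ mD a b t l) :
    x = Pi.single l (x l) := by
  funext j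
  by_cases hj : j = l
  · subst hj
    rw [Pi.single_eq_same]
  · rw [Pi.single_eq_of_ne hj, hx j hj]

theorem mani {x : MV a b t} (hx : IsBl x) : mQ a b t x ≠ 0 := by
  obtain ⟨hx0, l, hl⟩ := hx
  rw [mQ_of_mem hl]
  intro h
  rw [QuadraticAlgebra.norm_eq_zero_iff_eq_zero] at h
  apply hx0
  rw [eq_single_of_mem hl, h, Pi.single_zero]

end Cfsg.Agent.Lib.Helper85_Q2_BASIC
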