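import Mathlib
import Cfsg.Agent.Lib.Helper94_Q2Defs
import Cfsg.Agent.Lib.Helper85_Q2_BASIC
import Cfsg.Agent.Lib.Helper63_Q2_NSURJ

/-!
helper21: Q2 package T2B (architect helper94), aux form: `T2B_of` is the statement of `T2B` with the
statement of the package `FS` as a hypothesis.  Also `mrefl_not_mem_S`: in odd characteristic the
reflection in a vector with two nonzero coordinates does not permute the coordinate planes.
-/

set_option autoImplicit false
set_option linter.unusedSectionVars false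
set_option linter.unusedVariables false

namespace Cfsg.Agent.Lib.Helper21_Q2_T2Baux

open Module Cfsg.Agent.Lib.Helper94_Symp Cfsg.Agent.Lib.Helper94_OrthSmall
  Cfsg.Agent.Lib.Helper94_OrthSiegel Cfsg.Agent.Lib.Helper94_OrthNondeg
  Cfsg.Agent.Lib.Helper29_ODDefs Cfsg.Agent.Lib.Helper94_Q2Defs
  Cfsg.Agent.Lib.Helper85_Q2_BASIC

variable {F : Type*} [Field F] [Finite F] {a b : F} [Fact (∀ r : F, r ^ 2 ≠ a + b * r)] {t : ℕ}
  {S M L : Subgroup (MV a b t ≃ₗ[F] MV a b t)}

/-- `B(x, v)` for `x` in the `l`-th plane. -/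
theorem mB_of_mem_left {l : Fin t} {x : MV a b t} (hx : x ∈ mD a b t l) (y : MV a b t) :
    mB a b t x y = QuadraticAlgebra.trace (x l * star (y l)) := by
  rw [mB_apply]
  refine Finset.sum_eq_single l ?_ ?_
  · intro j _ hj
    rw [hx j hj, zero_mul, map_zero]
  · intro h
    exact absurd (Finset.mem_univ l) h

/-- The element `η = 1 + (ω - star ω)`: trace `2`, imaginary part `2`. -/
def eta (a b : F) : QuadraticAlgebra F a b := ⟨1 - b, 2⟩

theorem trace_eta_mul (w : QuadraticAlgebra F a b) :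
    QuadraticAlgebra.trace (eta a b * w * star w) = QuadraticAlgebra.norm w * 2 := by
  rw [mul_assoc, ← QuadraticAlgebra.algebraMap_norm_eq_mul_star, mul_comm, ← Algebra.smul_def,
    map_smul, QuadraticAlgebra.trace_def]
  simp only [eta, smul_eq_mul]
  ring

theorem eta_sub_ne_zero (h2 : (2 : F) ≠ 0) (c : F) :
    eta a b - algebraMap F (QuadraticAlgebra F a b) c ≠ 0 := by
  intro h
  have him := congrArg QuadraticAlgebra.im h
  simp only [eta, QuadraticAlgebra.im_sub, QuadraticAlgebra.algebraMap_im,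
    QuadraticAlgebra.im_zero, sub_zero] at him
  exact h2 him

/-- In odd characteristic the reflection in a vector with two nonzero coordinates does not permute
the coordinate planes. -/
theorem mrefl_not_mem_S (hS : IsDStab (mD a b t) S) (h2 : (2 : F) ≠ 0) {v : MV a b t}
    (hQv : mQ a b t v ≠ 0) {l m : Fin t} (hlm : l ≠ m) (hl : v l ≠ 0) (hm : v m ≠ 0) :
    mrefl a b t hQv ∉ S := by
  intro hmem
  obtain ⟨σ, hσ⟩ := (hS _).mp hmem
  set x : MV a b t := Pi.single l (eta a b * v l) with hxdef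
  have hxl : x ∈ mD a b t l := single_mem l _
  have hN : QuadraticAlgebra.norm (v l) ≠ 0 := by
    intro h
    exact hl (QuadraticAlgebra.norm_eq_zero_iff_eq_zero.mp h)
  have hB : mB a b t x v = QuadraticAlgebra.norm (v l) * 2 := by
    rw [mB_of_mem_left hxl, hxdef, Pi.single_eq_same, trace_eta_mul]
  set c : F := (mQ a b t v)⁻¹ * mB a b t x v with hcdef
  have hc : c ≠ 0 := by
    rw [hcdef, hB]
    exact mul_ne_zero (inv_ne_zero hQv) (mul_ne_zero hN h2)
  have hrx : mrefl a b t hQv x = x - c • v := by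
    rw [refl_apply]
  have himg : mrefl a b t hQv x ∈ mD a b t (σ l) := by
    rw [← hσ l]
    exact Submodule.mem_map_of_mem hxl
  -- coordinate `m`
  have hcm : (mrefl a b t hQv x) m ≠ 0 := by
    rw [hrx, Pi.sub_apply, Pi.smul_apply, hxdef, Pi.single_eq_of_ne (Ne.symm hlm), zero_sub,
      neg_ne_zero]
    exact smul_ne_zero hc hm
  -- coordinate `l`
  have hcl : (mrefl a b t hQv x) l ≠ 0 := by
    rw [hrx, Pi.sub_apply, Pi.smul_apply, hxdef, Pi.single_eq_same, Algebra.smul_def, ← sub_mul]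
    exact mul_ne_zero (eta_sub_ne_zero h2 c) hl
  have h1 : m = σ l := by
    by_contra hne
    exact hcm (himg m hne)
  have h3 : l = σ l := by
    by_contra hne
    exact hcl (himg l hne)
  exact hlm (h3.trans h1.symm)

/-- **Q2-T2B**, with the statement of **Q2-FS** as a hypothesis. -/
theorem T2B_of
    (hFS : ∀ s : Set F, (∃ c ∈ s, c ≠ 0) →
      (∀ x, IsBl x → mQ a b t x ∈ s → CStar S M x) →
      ∀ g ∈ M, g ∉ S → ∀ x, IsBl x → mQ a b t x ∈ s → ∀ l, g x l ≠ 0)
    (hC : Ctx2 a b t S M) (h2 : (2 : F) ≠ 0) {d : F} (hd : d ≠ 0)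
    (hCs : ∀ x, IsBl x → ¬ IsSquare (d * mQ a b t x) → CStar S M x)
    {M₁ : Subgroup (MV a b t ≃ₗ[F] MV a b t)} (hM₁ : M ≤ M₁) (hM₁O : M₁ ≤ oG (mQ a b t))
    (hM₁F : ∀ g ∈ M₁, ∃ g' ∈ M, ∃ r ∈ S, r ∈ oG (mQ a b t) ∧ g = g' * r) :
    ∀ v, InRc M₁ v → 2 ≤ (Supp v).card → ∀ l, v l ≠ 0 := by
  intro v hv hcard l hvl
  obtain ⟨hQv, hrM⟩ := hv
  obtain ⟨g', hg'M, r, hrS, hrO, hfac⟩ := hM₁F _ hrM
  -- two elements of the support
  obtain ⟨l₁, hl₁, l₂, hl₂, hne⟩ := Finset.one_lt_card.mp hcard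
  have hl₁' : v l₁ ≠ 0 := by
    have := hl₁
    simp only [Supp, Finset.mem_filter, Finset.mem_univ, true_and] at this
    exact this
  have hl₂' : v l₂ ≠ 0 := by
    have := hl₂
    simp only [Supp, Finset.mem_filter, Finset.mem_univ, true_and] at this
    exact this
  have hnS : mrefl a b t hQv ∉ S := mrefl_not_mem_S hC.hS h2 hQv hne hl₁' hl₂'
  have hg'S : g' ∉ S := fun h => hnS (by rw [hfac]; exact S.mul_mem h hrS)
  have hj : l ≠ l₁ := fun h => hl₁' (h ▸ hvl)
  -- a non-square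
  have hchar : ringChar F ≠ 2 := by
    intro h
    apply h2
    have h0 : ((ringChar F : ℕ) : F) = 0 := ringChar.Nat.cast_ringChar
    rw [h] at h0
    exact_mod_cast h0
  obtain ⟨n, hn⟩ := FiniteField.exists_nonsquare hchar
  have hn0 : n ≠ 0 := by
    intro h
    apply hn
    rw [h]
    exact ⟨0, by ring⟩
  obtain ⟨ζ, hζ⟩ := Cfsg.Agent.Lib.Helper63_Q2_NSURJ.NSURJ (a := a) (b := b) (n / d)
  have hζ0 : ζ ≠ 0 := by
    intro h
    rw [h, QuadraticAlgebra.norm_zero] at hζ
    exact div_ne_zero hn0 hd hζ.symm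
  set x : MV a b t := Pi.single l₁ ζ with hxdef
  have hxl : x ∈ mD a b t l₁ := single_mem l₁ ζ
  have hx0 : x ≠ 0 := by
    intro h
    apply hζ0
    have := congrFun h l₁
    rwa [hxdef, Pi.single_eq_same] at this
  have hQx : mQ a b t x = n / d := by
    rw [mQ_of_mem hxl, hxdef, Pi.single_eq_same, hζ]
  -- `x' = r x`
  obtain ⟨σ, hσ⟩ := (hC.hS r).mp hrS
  have hx'Bl : IsBl (r x) := by
    refine ⟨?_, σ l₁, ?_⟩
    · intro h
      apply hx0
      have : r x = r 0 := by rw [h, map_zero]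
      exact r.injective this
    · rw [← hσ l₁]
      exact Submodule.mem_map_of_mem hxl
  have hQx' : mQ a b t (r x) = n / d := by
    rw [hrO x, hQx]
  have hdn : d * (n / d) = n := by field_simp
  have hkey := hFS {c | ¬ IsSquare (d * c)} ⟨n / d, by
      show ¬ IsSquare (d * (n / d))
      rw [hdn]; exact hn, div_ne_zero hn0 hd⟩
    (fun y hy hys => hCs y hy hys) g' hg'M hg'S (r x) hx'Bl (by
      show ¬ IsSquare (d * mQ a b t (r x))
      rw [hQx', hdn]; exact hn) l
  apply hkey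
  have h1 : g' (r x) = mrefl a b t hQv x := by
    rw [hfac]
    rfl
  rw [h1, refl_apply, Pi.sub_apply, Pi.smul_apply, hvl, smul_zero, sub_zero, hxdef,
    Pi.single_eq_of_ne hj]

end Cfsg.Agent.Lib.Helper21_Q2_T2Baux
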