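import Mathlib
import Cfsg.Agent.Lib.Helper30_S2316Defs

/-!
Helper21_S2316_HK: package HK of the market `s2316_packages` (architect helper30; S2316): the criterion for the
unipotent radical `K_J` of the parabolic `P_J` of `Sp_{2m}(F)`: for a monomial `n` preserving the blocks and reversing
the heights inside the blocks, a unitriangular `u` lies in `K_J` iff `n⁻¹ u n` is upper triangular.
helper21.
-/

set_option autoImplicit false
set_option linter.unusedSectionVars false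
set_option linter.unusedVariables false

namespace Cfsg.Agent.Lib.Helper30_S2316

open Matrix Cfsg Cfsg.Agent.Lib.Helper68_MatGrp Cfsg.Agent.Lib.Helper5_SpPerfect
  Cfsg.Agent.Lib.Helper68_StSpDefs Cfsg.Agent.Lib.Helper68_StSp Cfsg.Agent.Lib.Helper44_SpUT
  Cfsg.Agent.Lib.Helper68_StAbs Cfsg.Agent.Lib.Helper6_Word Cfsg.Agent.Lib.Helper6_BNPair
  Cfsg.Agent.Lib.Helper81_BNSteinberg Cfsg.Agent.Lib.Helper81_BNIndex Cfsg.Agent.Lib.Helper81_BNBorel

section sp

variable {m : ℕ} {F : Type*} [Field F]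

/-! ## HK (M): the criterion for the unipotent radical -/

theorem mem_KJ_iff_conj {J : Finset (Fin m)} {n : ↥(symplecticGroup (Fin m) F)}
    {σ : Equiv.Perm (Fin m ⊕ Fin m)} (hn : IsMono (φ m F) n σ)
    (hblk : ∀ b, blk m J (σ b) = blk m J b)
    (hrev : ∀ a b, ht m a < ht m b → blk m J a = blk m J b → ht m (σ⁻¹ b) < ht m (σ⁻¹ a))
    (hmono : ∀ a b : Fin m ⊕ Fin m, ht m a ≤ ht m b → blk m J a ≤ blk m J b)
    {u : ↥(symplecticGroup (Fin m) F)} (hu : u ∈ UU (φ m F) (ht m)) :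
    u ∈ KJ m F J ↔ n⁻¹ * u * n ∈ Bsp m F := by
  constructor
  · intro hK
    rw [mem_Bsp]
    intro a b hab
    have h1 : (n⁻¹ * u * n).1 a b =
        ((φ m F) n (σ a) a)⁻¹ * (φ m F) u (σ a) (σ b) * (φ m F) n (σ b) b := hn.conj_apply u a b
    rw [h1]
    have hne : σ a ≠ σ b := by
      intro h
      have := σ.injective h
      rw [this] at hab
      exact lt_irrefl _ hab
    have hb : blk m J (σ b) ≤ blk m J (σ a) := by
      rw [hblk, hblk]
      exact hmono b a hab.le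
    have h2 : (φ m F) u (σ a) (σ b) = (1 : Matrix (Fin m ⊕ Fin m) (Fin m ⊕ Fin m) F) (σ a) (σ b) :=
      (mem_KJ.mp hK) (σ a) (σ b) hb
    rw [h2, Matrix.one_apply_ne hne, mul_zero, zero_mul]
  · intro hB
    rw [mem_KJ]
    intro a' b' hab
    by_cases h : ht m b' ≤ ht m a'
    · exact (mem_UU (φ m F) (ht m)).mp hu a' b' h
    · have h' : ht m a' < ht m b' := not_le.mp h
      have heq : blk m J a' = blk m J b' := le_antisymm (hmono a' b' h'.le) hab
      have hr := hrev a' b' h' heq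
      have h0 : (n⁻¹ * u * n).1 (σ⁻¹ a') (σ⁻¹ b') = 0 := (mem_Bsp.mp hB) (σ⁻¹ a') (σ⁻¹ b') hr
      have h1 : (n⁻¹ * u * n).1 (σ⁻¹ a') (σ⁻¹ b') =
          ((φ m F) n (σ (σ⁻¹ a')) (σ⁻¹ a'))⁻¹ * (φ m F) u (σ (σ⁻¹ a')) (σ (σ⁻¹ b')) *
            (φ m F) n (σ (σ⁻¹ b')) (σ⁻¹ b') := hn.conj_apply u (σ⁻¹ a') (σ⁻¹ b')
      rw [h1] at h0
      have hc1 : (φ m F) n (σ (σ⁻¹ a')) (σ⁻¹ a') ≠ 0 := hn.ne_zero (σ⁻¹ a')
      have hc2 : (φ m F) n (σ (σ⁻¹ b')) (σ⁻¹ b') ≠ 0 := hn.ne_zero (σ⁻¹ b')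
      have h3 : (φ m F) u (σ (σ⁻¹ a')) (σ (σ⁻¹ b')) = 0 := by
        rcases mul_eq_zero.mp h0 with h4 | h4
        · rcases mul_eq_zero.mp h4 with h5 | h5
          · exact absurd (inv_eq_zero.mp h5) hc1
          · exact h5
        · exact absurd h4 hc2
      have e1 : ∀ x, σ (σ⁻¹ x) = x := fun x => by
        rw [← Equiv.Perm.mul_apply, mul_inv_cancel, Equiv.Perm.one_apply]
      rw [e1, e1] at h3
      have h3' : u.1 a' b' = 0 := h3
      have hne : a' ≠ b' := by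
        intro e
        rw [e] at h'
        exact lt_irrefl _ h'
      rw [h3', Matrix.one_apply_ne hne]

end sp

end Cfsg.Agent.Lib.Helper30_S2316
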