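import Mathlib
import Cfsg.Agent.Lib.Helper68_StOoDefs
import Cfsg.Agent.Lib.Helper68_StAbs

/-!
S2547 market (architect helper68), package SIEGB: Siegel transformations centred at `e_0` are upper triangular
(helper38).
-/

set_option autoImplicit false
set_option linter.unusedSectionVars false

namespace Cfsg.Agent.Lib.Helper38_StOo_SIEGB

open Matrix Cfsg.Agent.Lib.Helper68_MatGrp Cfsg.Agent.Lib.Helper68_StOoDefs

variable {m : ℕ} {F : Type*} [Field F] [Fintype F] [NeZero (2 : F)]

/-- the polar vector of `β e_0` is `β` times the indicator of `f_0` -/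
theorem polarVec_single_ie (i : Fin m) (β : F) (b : I m) :
    Cfsg.polarVec (Cfsg.quadFormOdd m F) (Pi.single (ie i) β) b = if b = jf i then β else 0 := by
  unfold Cfsg.polarVec
  rw [Cfsg.Agent.Lib.Helper44_StdForms.polar_quadFormOdd]
  have h0 : (Pi.single (ie i) β : I m → F) (Sum.inl ()) = 0 := by
    rw [Pi.single_apply, if_neg]
    simp [ie]
  have h1 : ∀ k : Fin m, (Pi.single (ie i) β : I m → F) (Sum.inr (Sum.inr k)) = 0 := by
    intro k
    rw [Pi.single_apply, if_neg]
    simp [ie]
  have h2 : ∀ k : Fin m, (Pi.single (ie i) β : I m → F) (Sum.inr (Sum.inl k)) =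
      if k = i then β else 0 := by
    intro k
    rw [Pi.single_apply]
    simp [ie]
  simp only [h0, h1, h2, mul_zero, zero_mul, add_zero]
  rw [Finset.sum_eq_single i]
  · rw [if_pos rfl, Pi.single_apply]
    by_cases hb : b = jf i
    · rw [if_pos hb, if_pos]
      · ring
      · rw [hb]; rfl
    · rw [if_neg hb, if_neg]
      · ring
      · intro h
        exact hb h.symm
  · intro k _ hk
    rw [if_neg hk, zero_mul]
  · intro h
    exact absurd (Finset.mem_univ _) h

theorem siegel_mem_Boo (hm : 0 < m) (g : GO m F) (v : I m → F) (β c : F)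
    (hg : φ m F g = Cfsg.siegelMatrix (Cfsg.quadFormOdd m F) (Pi.single (ie ⟨0, hm⟩) β) v c) :
    g ∈ Boo m F := by
  rw [mem_Boo]
  intro a b hab
  have hne : a ≠ b := by
    rintro rfl
    exact lt_irrefl _ hab
  rw [hg, Cfsg.siegelMatrix]
  simp only [Matrix.add_apply, Matrix.smul_apply, Matrix.sub_apply, Matrix.vecMulVec_apply,
    Matrix.one_apply, if_neg hne, smul_eq_mul, zero_add]
  rw [polarVec_single_ie]
  have hb : b ≠ jf ⟨0, hm⟩ := by
    rintro rfl
    have := ht_le (m := m) a
    simp only [ht_jf] at hab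
    omega
  have ha : a ≠ ie ⟨0, hm⟩ := by
    rintro rfl
    simp only [ht_ie] at hab
    omega
  rw [if_neg hb, Pi.single_apply, if_neg ha]
  ring

end Cfsg.Agent.Lib.Helper38_StOo_SIEGB
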