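import Mathlib
import Cfsg.Agent.Lib.Helper68_StOoDefs

/-!
# S2547 market (architect helper68), package GENA

The group generated by the representatives of the simple reflections of `Ω_{2m+1}(F)` moves `e_0` to a multiple
of every basis vector other than the anisotropic one.
-/

set_option autoImplicit false
set_option linter.unusedSectionVars false
set_option linter.unusedSimpArgs false

namespace Cfsg.Agent.Lib.Helper88_StOo_GENA

open Matrix Cfsg.Agent.Lib.Helper68_MatGrp Cfsg.Agent.Lib.Helper68_StOoDefs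

variable {m : ℕ} {F : Type*} [Field F] [Fintype F] [NeZero (2 : F)]

theorem single_mulVec_single (i j b : I m) (c ε : F) :
    (single i j c : Matrix (I m) (I m) F) *ᵥ Pi.single b ε =
      if j = b then Pi.single i (c * ε) else 0 := by
  rw [Matrix.single_mulVec]
  by_cases h : j = b
  · rw [if_pos h, h, Pi.single_eq_same]
    ext x
    rw [Function.update_apply, Pi.single_apply]
    rfl
  · rw [if_neg h, Pi.single_eq_of_ne h, mul_zero]
    ext x
    rw [Function.update_apply]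
    split_ifs <;> rfl

/-- `wlM a c` maps `e_a` to `-e_c` -/
theorem wlM_mulVec_a {a c : I m} (h : LxOK a c) (ε : F) :
    (wlM a c : Matrix (I m) (I m) F) *ᵥ Pi.single a ε = Pi.single c (-ε) := by
  obtain ⟨ha, hc, hca, hca'⟩ := h
  have h1 : op a ≠ a := fun e => ha (op_eq_self_iff.mp e)
  have h6 : op c ≠ a := fun e => hca' (by rw [← e, op_op])
  unfold wlM
  simp only [Matrix.add_mulVec, Matrix.sub_mulVec, Matrix.one_mulVec, single_mulVec_single,
    if_pos, if_neg hca, if_neg h1, if_neg h6, one_mul, sub_zero, add_zero, if_true]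
  rw [Pi.single_neg]
  abel

/-- `wlM a c` maps `e_{op c}` to `e_{op a}` -/
theorem wlM_mulVec_opc {a c : I m} (h : LxOK a c) (ε : F) :
    (wlM a c : Matrix (I m) (I m) F) *ᵥ Pi.single (op c) ε = Pi.single (op a) ε := by
  obtain ⟨ha, hc, hca, hca'⟩ := h
  have h2 : c ≠ op c := fun e => hc (op_eq_self_iff.mp e.symm)
  have h5 : op a ≠ op c := fun e => hca (op_injective e).symm
  have h6 : a ≠ op c := fun e => hca' (by rw [e, op_op])
  unfold wlM
  simp only [Matrix.add_mulVec, Matrix.sub_mulVec, Matrix.one_mulVec, single_mulVec_single,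
    if_pos, if_neg h2, if_neg h5, if_neg h6, one_mul, sub_zero, add_zero, if_true]
  abel

/-- `wsM a` maps `e_a` to `-e_{op a}` -/
theorem wsM_mulVec_a {a : I m} (ha : a ≠ z0) (ε : F) :
    (wsM a : Matrix (I m) (I m) F) *ᵥ Pi.single a ε = Pi.single (op a) (-ε) := by
  have h1 : op a ≠ a := fun e => ha (op_eq_self_iff.mp e)
  unfold wsM
  simp only [Matrix.add_mulVec, Matrix.sub_mulVec, Matrix.one_mulVec, single_mulVec_single,
    if_pos, if_neg h1, if_neg ha.symm, one_mul, sub_zero, add_zero, if_true]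
  rw [Pi.single_neg]
  abel

theorem step (n s : GO m F) (v : I m → F) (b c : I m) (ε ε' : F)
    (hn : φ m F n *ᵥ v = Pi.single b ε) (hs : φ m F s *ᵥ Pi.single b ε = Pi.single c ε') :
    φ m F (s * n) *ᵥ v = Pi.single c ε' := by
  rw [map_mul, ← Matrix.mulVec_mulVec, hn, hs]

theorem genA_ie (hm : 0 < m) (k : ℕ) (hk : k < m) :
    ∃ n ∈ Subgroup.closure (Set.range (ss (m := m) (F := F))), ∃ ε : F,
      φ m F n *ᵥ (Pi.single (ie ⟨0, hm⟩) 1) = Pi.single (ie ⟨k, hk⟩) ε := by
  induction k with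
  | zero =>
    refine ⟨1, Subgroup.one_mem _, 1, ?_⟩
    rw [map_one, Matrix.one_mulVec]
  | succ k ih =>
    obtain ⟨n, hn, ε, e⟩ := ih (by omega)
    refine ⟨ss ⟨k, by omega⟩ * n, Subgroup.mul_mem _ (Subgroup.subset_closure ⟨_, rfl⟩) hn, -ε, ?_⟩
    apply step n _ _ _ _ ε (-ε) e
    have hlt : (⟨k, by omega⟩ : Fin m).val + 1 < m := by simpa using hk
    rw [ss_of_lt ⟨k, by omega⟩ hlt, wl_val (lxOK_ie (succ_ne _ hlt))]
    exact wlM_mulVec_a (lxOK_ie (succ_ne _ hlt)) ε

theorem genA_jf (hm : 0 < m) (d : ℕ) : ∀ i : Fin m, i.val + d + 1 = m →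
    ∃ n ∈ Subgroup.closure (Set.range (ss (m := m) (F := F))), ∃ ε : F,
      φ m F n *ᵥ (Pi.single (ie ⟨0, hm⟩) 1) = Pi.single (jf i) ε := by
  induction d with
  | zero =>
    intro i hi
    obtain ⟨n, hn, ε, e⟩ := genA_ie (F := F) hm i.val i.2
    refine ⟨ss i * n, Subgroup.mul_mem _ (Subgroup.subset_closure ⟨_, rfl⟩) hn, -ε, ?_⟩
    apply step n _ _ _ _ ε (-ε) e
    rw [ss_of_not_lt i (by omega), ws_val (ie_ne_z0 i)]
    exact wsM_mulVec_a (ie_ne_z0 i) ε
  | succ d ih =>
    intro i hi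
    have hlt : i.val + 1 < m := by omega
    obtain ⟨n, hn, ε, e⟩ := ih ⟨i.val + 1, hlt⟩ (by simp only; omega)
    refine ⟨ss i * n, Subgroup.mul_mem _ (Subgroup.subset_closure ⟨_, rfl⟩) hn, ε, ?_⟩
    apply step n _ _ _ _ ε ε e
    rw [ss_of_lt i hlt, wl_val (lxOK_ie (succ_ne _ hlt))]
    exact wlM_mulVec_opc (lxOK_ie (succ_ne _ hlt)) ε

theorem genA (hm : 0 < m) (a : I m) (ha : a ≠ z0) :
    ∃ n ∈ Subgroup.closure (Set.range (ss (m := m) (F := F))), ∃ ε : F,
      φ m F n *ᵥ (Pi.single (ie ⟨0, hm⟩) 1) = Pi.single a ε := by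
  rcases index_cases a with h | ⟨i, rfl⟩ | ⟨i, rfl⟩
  · exact absurd h ha
  · exact genA_ie hm i.val i.2
  · exact genA_jf hm (m - 1 - i.val) i (by have := i.2; omega)

end Cfsg.Agent.Lib.Helper88_StOo_GENA
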