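import Mathlib
import Cfsg.Agent.Lib.Helper22_S94ODefs
import Cfsg.Agent.Lib.Helper38_StOo_GEN
import Cfsg.Agent.Lib.Helper38_StOo_SIEGB
import Cfsg.Agent.Lib.Helper88_StOo_GENA
import Cfsg.Agent.Lib.Helper88_StOo_GENB

/-!
Helper21_S94O_GEN: package O-GEN of the mini-market `s94o_packages` (architect helper22; S2094, helper66 coordinator):
generation criterion for `Ω_{2m+1}(F)`, `m ≥ 2`, `2 ≠ 0`: a subgroup `H` which moves `e_0` to a multiple of every basis vector
`≠ z0`, every nonzero singular vector to a multiple of such a basis vector, and contains the Siegel transformations centred at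
`e_0` (of an orthogonal pair), is everything.  Port of `Helper22_S94MGen.eq_top_of_gen` / `Helper38_StOo_GEN.sup_eq_top_of_gen`.
helper21.
-/

set_option autoImplicit false
set_option linter.unusedSectionVars false
set_option linter.unusedVariables false

namespace Cfsg.Agent.Lib.Helper21_S94O_GEN

open Matrix Cfsg.Agent.Lib.Helper68_MatGrp Cfsg.Agent.Lib.Helper68_StOoDefs Cfsg.Agent.Lib.Helper22_S94O

section general

variable {ι : Type} [Fintype ι] [DecidableEq ι] {F : Type*} [Field F] [Fintype F]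

/-- A subgroup of `Ω` containing every element of `Ω` whose matrix is a Siegel matrix of a singular orthogonal pair is
everything (function version of the form). -/
theorem eq_top_of_siegel_orth (Q : QuadraticForm F (ι → F))
    (hQ : (QuadraticMap.polarBilin Q).Nondegenerate) (hn : 5 ≤ Fintype.card ι)
    (Q' : (ι → F) → F) (hQ' : ⇑Q = Q') (K : Subgroup ↥(Cfsg.Omega F Q'))
    (hK : ∀ g : ↥(Cfsg.Omega F Q'), (∃ (u v : ι → F) (c : F), Q' u = 0 ∧
      QuadraticMap.polar Q' u v = 0 ∧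
      ((g.1 : Matrix.GeneralLinearGroup ι F) : Matrix ι ι F) = Cfsg.siegelMatrix Q' u v c) → g ∈ K) :
    K = ⊤ := by
  subst hQ'
  have hΩ := Cfsg.Agent.Lib.Helper14_SiegelOmega2.omega_eq_siegelGroup Q hQ hn
  have h1 : Cfsg.Agent.Lib.Helper14_Siegel.siegelGroup Q ≤ K.map (Subgroup.subtype _) := by
    rw [Cfsg.Agent.Lib.Helper14_Siegel.siegelGroup, Subgroup.closure_le]
    intro x hx
    have hxΩ : x ∈ Cfsg.Omega F (⇑Q) := by
      rw [hΩ]
      exact Subgroup.subset_closure hx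
    obtain ⟨u, v, c, hu, -, huv, hxm⟩ := hx
    exact ⟨⟨x, hxΩ⟩, hK ⟨x, hxΩ⟩ ⟨u, v, c, hu, huv, hxm⟩, rfl⟩
  have hle : Cfsg.Omega F (⇑Q) ≤ K.map (Subgroup.subtype _) := by
    intro x hx
    apply h1
    rw [← hΩ]
    exact hx
  rw [eq_top_iff]
  intro g _
  obtain ⟨k, hk, hkg⟩ := hle g.2
  have : k = g := Subtype.ext hkg
  rw [← this]
  exact hk

end general

variable {m : ℕ} {F : Type*} [Field F] [Fintype F] [NeZero (2 : F)]

/-- the matrix of an element of `Ω_{2m+1}` preserves the polar form -/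
theorem phi_polar (x : GO m F) (u v : I m → F) :
    QuadraticMap.polar (Cfsg.quadFormOdd m F) (φ m F x *ᵥ u) (φ m F x *ᵥ v) =
      QuadraticMap.polar (Cfsg.quadFormOdd m F) u v := by
  have hq : ∀ w : I m → F, Cfsg.quadFormOdd m F (φ m F x *ᵥ w) = Cfsg.quadFormOdd m F w := by
    intro w
    rw [φ_apply]
    exact quadFormOdd_mulVec _ (φO_gram _) w
  unfold QuadraticMap.polar
  rw [← Matrix.mulVec_add, hq, hq, hq]

theorem eq_top_of_gen_odd (hm : 2 ≤ m) (H : Subgroup (GO m F))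
    (hA : ∀ a : I m, a ≠ z0 → ∃ n ∈ H, ∃ ε : F,
      φ m F n *ᵥ (Pi.single (ie ⟨0, by omega⟩) 1) = Pi.single a ε)
    (hB : ∀ w : I m → F, w ≠ 0 → Cfsg.quadFormOdd m F w = 0 →
      ∃ b ∈ H, ∃ a : I m, a ≠ z0 ∧ ∃ α : F, φ m F b *ᵥ (Pi.single a α) = w)
    (hX : ∀ g : GO m F, (∃ (v : I m → F) (β c : F),
      QuadraticMap.polar (Cfsg.quadFormOdd m F) (Pi.single (ie ⟨0, by omega⟩) β) v = 0 ∧ φ m F g =
      Cfsg.siegelMatrix (Cfsg.quadFormOdd m F) (Pi.single (ie ⟨0, by omega⟩) β) v c) → g ∈ H) :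
    H = ⊤ := by
  have h2 : (2 : F) ≠ 0 := two_ne_zero
  have hQ := Cfsg.Agent.Lib.Helper14_POmegaSimple.nondegenerate_qfOdd h2 m
  have hcard : 5 ≤ Fintype.card (I m) := by
    rw [card_I]; omega
  apply eq_top_of_siegel_orth (Cfsg.Agent.Lib.Helper44_StdForms.qfOdd m F) hQ hcard _
    (Cfsg.Agent.Lib.Helper44_StdForms.coe_qfOdd m F)
  rintro g ⟨u, v, c, hu, huv, hg⟩
  have hg' : φ m F g = Cfsg.siegelMatrix (Cfsg.quadFormOdd m F) u v c := hg
  by_cases hu0 : u = 0
  · subst hu0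
    rw [Cfsg.Agent.Lib.Helper38_StOo_GEN.siegelMatrix_zero_left] at hg'
    have : g = 1 := by
      apply φ_injective
      rw [hg', map_one]
    rw [this]
    exact one_mem _
  · obtain ⟨b, hbH, a, ha, α, hbα⟩ := hB u hu0 hu
    obtain ⟨n, hnH, ε, hnε⟩ := hA a ha
    have hinv : ∀ x : GO m F, φ m F x⁻¹ * φ m F x = 1 := by
      intro x
      rw [← map_mul, inv_mul_cancel, map_one]
    have hε : ε ≠ 0 := by
      rintro rfl
      have h1 : φ m F n *ᵥ (Pi.single (ie ⟨0, by omega⟩) (1 : F)) = 0 := by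
        rw [hnε]; simp
      have h3 := congrArg (fun w => φ m F n⁻¹ *ᵥ w) h1
      simp only [Matrix.mulVec_mulVec, Matrix.mulVec_zero] at h3
      rw [hinv, Matrix.one_mulVec] at h3
      have := congrFun h3 (ie ⟨0, by omega⟩)
      simp at this
    set hh : GO m F := b * n with hhdef
    have hhH : hh ∈ H := Subgroup.mul_mem _ hbH hnH
    have hu' : u = φ m F hh *ᵥ (Pi.single (ie ⟨0, by omega⟩) (α / ε)) := by
      have e1 : (Pi.single (ie ⟨0, by omega⟩) (α / ε) : I m → F) =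
          (α / ε) • (Pi.single (ie ⟨0, by omega⟩) (1 : F)) := by
        ext x
        simp only [Pi.smul_apply, Pi.single_apply, smul_eq_mul]
        split_ifs <;> simp
      rw [hhdef, map_mul, ← Matrix.mulVec_mulVec, e1, Matrix.mulVec_smul, hnε, ← hbα]
      congr 1
      ext x
      simp only [Pi.smul_apply, Pi.single_apply, smul_eq_mul]
      split_ifs
      · field_simp
      · simp
    have e2 : φ m F hh⁻¹ *ᵥ u = Pi.single (ie ⟨0, by omega⟩) (α / ε) := by
      rw [hu', Matrix.mulVec_mulVec, hinv, Matrix.one_mulVec]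
    -- the conjugate `hh⁻¹ * g * hh` is a Siegel transformation centred at `e_0`
    have hconj : φ m F (hh⁻¹ * g * hh) = Cfsg.siegelMatrix (Cfsg.quadFormOdd m F)
        (Pi.single (ie ⟨0, by omega⟩) (α / ε)) (φ m F hh⁻¹ *ᵥ v) c := by
      have key := Cfsg.Agent.Lib.Helper38_StOo_GEN.conj_siegelMatrix'
        (Cfsg.Agent.Lib.Helper44_StdForms.qfOdd m F) _
        (Cfsg.Agent.Lib.Helper44_StdForms.coe_qfOdd m F) (hh⁻¹ : GO m F).1 u v c
      have e0 : ((hh⁻¹ : GO m F).1)⁻¹ = hh.1 := by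
        rw [InvMemClass.coe_inv, inv_inv]
      rw [e0] at key
      rw [map_mul, map_mul, hg', ← e2]
      exact key
    have hpol : QuadraticMap.polar (Cfsg.quadFormOdd m F) (Pi.single (ie ⟨0, by omega⟩) (α / ε))
        (φ m F hh⁻¹ *ᵥ v) = 0 := by
      rw [← e2, phi_polar, huv]
    have hmem : hh⁻¹ * g * hh ∈ H := hX _ ⟨_, _, _, hpol, hconj⟩
    have : g = hh * (hh⁻¹ * g * hh) * hh⁻¹ := by group
    rw [this]
    exact Subgroup.mul_mem _ (Subgroup.mul_mem _ hhH hmem) (Subgroup.inv_mem _ hhH)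

end Cfsg.Agent.Lib.Helper21_S94O_GEN
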