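import Mathlib
import Cfsg.Prelude.Def_AxialAlgebras
import Cfsg.Agent.Lib.Helper16_SakDefs
import Cfsg.Agent.Lib.Helper21_SAK_DIHORDaux
import Cfsg.Agent.Lib.Helper88_SAK_AXMU
import Cfsg.Agent.Lib.Helper91_SAK_DIHFAM

/-!
# sak_packages DIH-ORD (helper21): the order of `μ₀ μ₁` from the periodicity of the family `axF`

Verbatim wrapper of `Helper21_SAK_DIHORDaux.pow_eq_one_of_axF_of` with the landed packages
DIH-FAM (`fam_axF`) and AX-MU (`mu_unique`, `mu_mu`).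
-/

set_option autoImplicit false

namespace Cfsg.Agent.Lib.Helper21_SAK_DIHORD

open Cfsg.Axial Cfsg.Agent.Lib.Helper16_SakDefs

variable {V : Type*} [AddCommGroup V] [Module ℝ V]
  {mul : V →ₗ[ℝ] V →ₗ[ℝ] V} {B : LinearMap.BilinForm ℝ V}

theorem pow_eq_one_of_axF {μ₀ μ₁ : V ≃ₗ[ℝ] V} {a₀ a₁ : V} (h₀ : UAxis mul B μ₀ a₀)
    (h₁ : UAxis mul B μ₁ a₁) (n : ℕ)
    (hn : axF μ₀ μ₁ a₀ a₁ (n : ℤ) = axF μ₀ μ₁ a₀ a₁ 0) : (μ₀ * μ₁) ^ n = 1 :=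
  Cfsg.Agent.Lib.Helper21_SAK_DIHORDaux.pow_eq_one_of_axF_of
    (Cfsg.Agent.Lib.Helper91_SAK_DIHFAM.fam_axF h₀ h₁)
    (fun h h' => Cfsg.Agent.Lib.Helper88_SAK_AXMU.mu_unique h h')
    (Cfsg.Agent.Lib.Helper88_SAK_AXMU.mu_mu h₀) (Cfsg.Agent.Lib.Helper88_SAK_AXMU.mu_mu h₁) n hn

end Cfsg.Agent.Lib.Helper21_SAK_DIHORD
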