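import Mathlib

/-!
# Groups whose non-cyclic subgroups contain their centralizers (row S3921)

`SCNC G` : every non-cyclic subgroup `H` of `G` satisfies `C_G(H) ≤ H`.
Basic closure properties and the local lemmas used by all S3921 packages.
-/

set_option autoImplicit false

namespace Cfsg.Agent.Lib.Helper21_SCNC

/-- every non-cyclic subgroup contains its centralizer -/
def SCNC (G : Type*) [Group G] : Prop :=
  ∀ H : Subgroup G, ¬ IsCyclic ↥H → Subgroup.centralizer (H : Set G) ≤ H

section basic

variable {G : Type*} [Group G]

/-- reformulation: a non-cyclic subgroup of `C_G(x)` contains `x`. -/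
theorem SCNC.mem_of_le_centralizer (h : SCNC G) {x : G} {H : Subgroup G}
    (hH : H ≤ Subgroup.centralizer ({x} : Set G)) (hnc : ¬ IsCyclic ↥H) : x ∈ H := by
  apply h H hnc
  rw [Subgroup.mem_centralizer_iff]
  intro y hy
  have := hH hy
  rw [Subgroup.mem_centralizer_iff] at this
  exact (this x (Set.mem_singleton x)).symm

/-- the converse reformulation. -/
theorem scnc_of_forall_mem
    (h : ∀ (x : G) (H : Subgroup G), H ≤ Subgroup.centralizer ({x} : Set G) → ¬ IsCyclic ↥H → x ∈ H) :
    SCNC G := by
  intro H hnc x hx
  apply h x H _ hnc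
  intro y hy
  rw [Subgroup.mem_centralizer_iff]
  intro z hz
  rw [Set.mem_singleton_iff] at hz
  subst hz
  rw [Subgroup.mem_centralizer_iff] at hx
  exact (hx y hy).symm

/-- `SCNC` passes to subgroups. -/
theorem SCNC.subgroup (h : SCNC G) (K : Subgroup G) : SCNC ↥K := by
  intro H hnc x hx
  have hnc' : ¬ IsCyclic ↥(H.map K.subtype) := by
    intro hc
    apply hnc
    have e : ↥H ≃* ↥(H.map K.subtype) := H.equivMapOfInjective K.subtype K.subtype_injective
    exact isCyclic_of_surjective e.symm e.symm.surjective
  have hx' : (x : G) ∈ Subgroup.centralizer ((H.map K.subtype : Subgroup G) : Set G) := by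
    rw [Subgroup.mem_centralizer_iff]
    rintro y ⟨z, hz, rfl⟩
    rw [Subgroup.mem_centralizer_iff] at hx
    have := hx z hz
    exact congrArg Subtype.val this
  obtain ⟨z, hz, hzx⟩ := h _ hnc' hx'
  have : z = x := Subtype.ext hzx
  rwa [← this]

/-- `SCNC` is invariant under isomorphism. -/
theorem SCNC.of_mulEquiv {G' : Type*} [Group G'] (e : G ≃* G') (h : SCNC G) : SCNC G' := by
  intro H hnc x hx
  have hnc' : ¬ IsCyclic ↥(H.comap e.toMonoidHom) := by
    intro hc
    apply hnc
    have e' : ↥(H.comap e.toMonoidHom) ≃* ↥H :=
      (e.subgroupMap (H.comap e.toMonoidHom)).trans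
        (MulEquiv.subgroupCongr (by
          ext y
          simp only [Subgroup.mem_map, Subgroup.mem_comap, MulEquiv.coe_toMonoidHom]
          constructor
          · rintro ⟨z, hz, rfl⟩; exact hz
          · intro hy; exact ⟨e.symm y, by simpa using hy, by simp⟩))
    exact isCyclic_of_surjective e' e'.surjective
  have hx' : e.symm x ∈ Subgroup.centralizer ((H.comap e.toMonoidHom : Subgroup G) : Set G) := by
    rw [Subgroup.mem_centralizer_iff]
    intro y hy
    rw [Subgroup.mem_centralizer_iff] at hx
    have hy' : e y ∈ H := hy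
    have := hx (e y) hy'
    apply e.injective
    simpa using this
  have := h _ hnc' hx'
  simpa using this

end basic

section loc

variable {G : Type*} [Group G] [Finite G]

/-- a subgroup containing two distinct involutions is not cyclic. -/
theorem not_isCyclic_of_two_invol {H : Subgroup G} {t b : G} (ht : orderOf t = 2)
    (hb : orderOf b = 2) (hne : t ≠ b) (htH : t ∈ H) (hbH : b ∈ H) : ¬ IsCyclic ↥H := by
  intro hc
  classical
  have : Fintype ↥H := Fintype.ofFinite _
  have hle := IsCyclic.card_pow_eq_one_le (α := ↥H) (n := 2) (by norm_num)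
  have ht2 : t ^ 2 = 1 := by rw [← ht]; exact pow_orderOf_eq_one t
  have hb2 : b ^ 2 = 1 := by rw [← hb]; exact pow_orderOf_eq_one b
  have ht1 : t ≠ 1 := by
    intro h; rw [h, orderOf_one] at ht; norm_num at ht
  have hb1 : b ≠ 1 := by
    intro h; rw [h, orderOf_one] at hb; norm_num at hb
  have hsub : ({(1 : ↥H), ⟨t, htH⟩, ⟨b, hbH⟩} : Finset ↥H) ⊆
      Finset.univ.filter (fun a : ↥H => a ^ 2 = 1) := by
    intro a ha
    simp only [Finset.mem_insert, Finset.mem_singleton] at ha
    simp only [Finset.mem_filter, Finset.mem_univ, true_and]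
    rcases ha with rfl | rfl | rfl
    · simp
    · exact Subtype.ext (by simpa using ht2)
    · exact Subtype.ext (by simpa using hb2)
  have hcard : ({(1 : ↥H), ⟨t, htH⟩, ⟨b, hbH⟩} : Finset ↥H).card = 3 := by
    rw [Finset.card_insert_of_notMem, Finset.card_insert_of_notMem, Finset.card_singleton]
    · simp only [Finset.mem_singleton]
      intro h; exact hne (congrArg Subtype.val h)
    · simp only [Finset.mem_insert, Finset.mem_singleton, not_or]
      constructor
      · intro h; exact ht1 (congrArg Subtype.val h).symm
      · intro h; exact hb1 (congrArg Subtype.val h).symm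
  have := Finset.card_le_card hsub
  omega

/-- `C(t) ∩ C(b) ≤ ⟨t, b⟩` for distinct involutions `t, b` in an `SCNC`-group. -/
theorem SCNC.centralizer_inf_le (h : SCNC G) {t b : G} (ht : orderOf t = 2) (hb : orderOf b = 2)
    (hne : t ≠ b) :
    Subgroup.centralizer ({t} : Set G) ⊓ Subgroup.centralizer ({b} : Set G) ≤
      Subgroup.closure ({t, b} : Set G) := by
  intro x hx
  have hnc : ¬ IsCyclic ↥(Subgroup.closure ({t, b} : Set G)) :=
    not_isCyclic_of_two_invol ht hb hne (Subgroup.subset_closure (by simp))
      (Subgroup.subset_closure (by simp))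
  apply h _ hnc
  rw [Subgroup.mem_centralizer_iff]
  obtain ⟨hx1, hx2⟩ := Subgroup.mem_inf.mp hx
  have hxt : t * x = x * t :=
    (Subgroup.mem_centralizer_iff.mp hx1) t (Set.mem_singleton t)
  have hxb : b * x = x * b :=
    (Subgroup.mem_centralizer_iff.mp hx2) b (Set.mem_singleton b)
  intro y hy
  have : y ∈ Subgroup.centralizer ({x} : Set G) := by
    have hle : Subgroup.closure ({t, b} : Set G) ≤ Subgroup.centralizer ({x} : Set G) := by
      rw [Subgroup.closure_le]
      intro z hz
      rcases hz with rfl | hz
      · rw [SetLike.mem_coe, Subgroup.mem_centralizer_iff]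
        intro w hw; rw [Set.mem_singleton_iff] at hw; subst hw; exact hxt.symm
      · rw [Set.mem_singleton_iff] at hz; subst hz
        rw [SetLike.mem_coe, Subgroup.mem_centralizer_iff]
        intro w hw; rw [Set.mem_singleton_iff] at hw; subst hw; exact hxb.symm
    exact hle hy
  rw [Subgroup.mem_centralizer_iff] at this
  exact (this x (Set.mem_singleton x)).symm

omit [Finite G] in
/-- two distinct commuting involutions generate a group of order `4`. -/
theorem card_closure_pair {t b : G} (ht : orderOf t = 2) (hb : orderOf b = 2) (hne : t ≠ b)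
    (hc : Commute t b) : Nat.card ↥(Subgroup.closure ({t, b} : Set G)) = 4 := by
  classical
  have ht2 : t * t = 1 := by rw [← pow_two, ← ht]; exact pow_orderOf_eq_one t
  have hb2 : b * b = 1 := by rw [← pow_two, ← hb]; exact pow_orderOf_eq_one b
  have ht1 : t ≠ 1 := by
    intro h; rw [h, orderOf_one] at ht; norm_num at ht
  have hb1 : b ≠ 1 := by
    intro h; rw [h, orderOf_one] at hb; norm_num at hb
  have htb : t * b = b * t := hc
  -- the explicit four-element subgroup
  let V : Subgroup G :=
    { carrier := {1, t, b, t * b}
      one_mem' := by simp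
      mul_mem' := by
        intro x y hx hy
        simp only [Set.mem_insert_iff, Set.mem_singleton_iff] at hx hy ⊢
        have e1 : t * (t * b) = b := by rw [← mul_assoc, ht2, one_mul]
        have e2 : b * (t * b) = t := by rw [htb, ← mul_assoc, hb2, one_mul]
        have e3 : t * b * t = b := by rw [htb, mul_assoc, ht2, mul_one]
        have e4 : t * b * b = t := by rw [mul_assoc, hb2, mul_one]
        have e5 : t * b * (t * b) = 1 := by rw [mul_assoc, e2, ht2]
        rcases hx with rfl | rfl | rfl | rfl <;> rcases hy with rfl | rfl | rfl | rfl <;>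
          simp [ht2, hb2, e1, e2, e3, e4, e5, htb.symm]
      inv_mem' := by
        intro x hx
        simp only [Set.mem_insert_iff, Set.mem_singleton_iff] at hx ⊢
        have it : t⁻¹ = t := inv_eq_of_mul_eq_one_right ht2
        have ib : b⁻¹ = b := inv_eq_of_mul_eq_one_right hb2
        rcases hx with rfl | rfl | rfl | rfl
        · simp
        · simp [it]
        · simp [ib]
        · right; right; right; rw [mul_inv_rev, it, ib, htb] }
  have hV : Subgroup.closure ({t, b} : Set G) = V := by
    apply le_antisymm
    · rw [Subgroup.closure_le]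
      intro z hz
      rcases hz with rfl | hz
      · show z ∈ ({1, z, b, z * b} : Set G); simp
      · rw [Set.mem_singleton_iff] at hz; subst hz
        show z ∈ ({1, t, z, t * z} : Set G); simp
    · intro z hz
      have hz' : z ∈ ({1, t, b, t * b} : Set G) := hz
      simp only [Set.mem_insert_iff, Set.mem_singleton_iff] at hz'
      rcases hz' with rfl | rfl | rfl | rfl
      · exact one_mem _
      · exact Subgroup.subset_closure (by simp)
      · exact Subgroup.subset_closure (by simp)
      · exact mul_mem (Subgroup.subset_closure (by simp)) (Subgroup.subset_closure (by simp))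
  rw [hV]
  have hcoe : (V : Set G) = (({1, t, b, t * b} : Finset G) : Set G) := by
    ext z; simp [V]
  have : Nat.card ↥V = ({1, t, b, t * b} : Finset G).card := by
    rw [show Nat.card ↥V = (V : Set G).ncard from Nat.card_coe_set_eq _, hcoe,
      Set.ncard_coe_finset]
  rw [this]
  have h1 : (1 : G) ∉ ({t, b, t * b} : Finset G) := by
    simp only [Finset.mem_insert, Finset.mem_singleton, not_or]
    refine ⟨fun h => ht1 h.symm, fun h => hb1 h.symm, ?_⟩
    intro h
    apply hne
    have : t * b * b = 1 * b := by rw [← h]
    rw [mul_assoc, hb2, mul_one, one_mul] at this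
    exact this
  have h2 : t ∉ ({b, t * b} : Finset G) := by
    simp only [Finset.mem_insert, Finset.mem_singleton, not_or]
    refine ⟨hne, ?_⟩
    intro h
    apply hb1
    have : t * b = t * 1 := by rw [mul_one]; exact h.symm
    exact mul_left_cancel this
  have h3 : b ∉ ({t * b} : Finset G) := by
    simp only [Finset.mem_singleton]
    intro h
    apply ht1
    have : t * b = 1 * b := by rw [one_mul]; exact h.symm
    exact mul_right_cancel this
  rw [Finset.card_insert_of_notMem h1, Finset.card_insert_of_notMem h2,
    Finset.card_insert_of_notMem h3, Finset.card_singleton]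

/-- In an `SCNC`-group, an involution `b ≠ t` of `C(t)` normalizes no non-trivial odd-order
subgroup of `C(t)`. -/
theorem SCNC.eq_bot_of_invol_normalizes (h : SCNC G) {t b : G} (ht : orderOf t = 2)
    (hb : orderOf b = 2) (hne : t ≠ b) (hc : Commute t b) (X : Subgroup G)
    (hXt : X ≤ Subgroup.centralizer ({t} : Set G)) (hodd : Odd (Nat.card ↥X))
    (hnorm : ∀ x ∈ X, b * x * b⁻¹ ∈ X) : X = ⊥ := by
  classical
  have ht2 : t * t = 1 := by rw [← pow_two, ← ht]; exact pow_orderOf_eq_one t
  have hb2 : b * b = 1 := by rw [← pow_two, ← hb]; exact pow_orderOf_eq_one b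
  have ib : b⁻¹ = b := inv_eq_of_mul_eq_one_right hb2
  have hn : ∀ x ∈ X, b * x * b ∈ X := by
    intro x hx; have := hnorm x hx; rwa [ib] at this
  -- no involution lies in X
  have hno2 : ∀ y ∈ X, orderOf y = 2 → False := by
    intro y hy hy2
    have : orderOf (⟨y, hy⟩ : ↥X) = 2 := by
      rw [← hy2]; exact (Subgroup.orderOf_mk y hy)
    have hd : 2 ∣ Nat.card ↥X := this ▸ orderOf_dvd_natCard _
    rcases hodd with ⟨k, hk⟩
    omega
  -- the subgroup X ∪ X b
  let E : Subgroup G :=
    { carrier := {g | g ∈ X ∨ g * b ∈ X}
      one_mem' := Or.inl X.one_mem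
      mul_mem' := by
        intro g g' hg hg'
        rcases hg with hg | hg <;> rcases hg' with hg' | hg'
        · exact Or.inl (X.mul_mem hg hg')
        · right; rw [mul_assoc]; exact X.mul_mem hg hg'
        · right
          have : g * g' * b = (g * b) * (b * g' * b) := by
            have e : (g * b) * (b * g' * b) = g * (b * b) * g' * b := by simp only [mul_assoc]
            rw [e, hb2, mul_one]
          rw [this]; exact X.mul_mem hg (hn g' hg')
        · left
          have : g * g' = (g * b) * (b * (g' * b) * b) := by
            have e : (g * b) * (b * (g' * b) * b) = g * (b * b) * g' * (b * b) := by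
              simp only [mul_assoc]
            rw [e, hb2, mul_one, mul_one]
          rw [this]; exact X.mul_mem hg (hn _ hg')
      inv_mem' := by
        intro g hg
        rcases hg with hg | hg
        · exact Or.inl (X.inv_mem hg)
        · right
          have h1 : b * g⁻¹ ∈ X := by
            have := X.inv_mem hg; rwa [mul_inv_rev, ib] at this
          have : g⁻¹ * b = b * (b * g⁻¹) * b := by
            have e : b * (b * g⁻¹) * b = (b * b) * g⁻¹ * b := by simp only [mul_assoc]
            rw [e, hb2, one_mul]
          rw [this]; exact hn _ h1 }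
  have hXE : X ≤ E := fun g hg => Or.inl hg
  have hbE : b ∈ E := Or.inr (by rw [hb2]; exact X.one_mem)
  have hbt : b ∈ Subgroup.centralizer ({t} : Set G) := by
    rw [Subgroup.mem_centralizer_iff]
    intro w hw; rw [Set.mem_singleton_iff] at hw; subst hw; exact hc
  set H : Subgroup G := X ⊔ Subgroup.zpowers b with hH
  have hHE : H ≤ E := sup_le hXE (by rw [Subgroup.zpowers_le]; exact hbE)
  have hHt : H ≤ Subgroup.centralizer ({t} : Set G) :=
    sup_le hXt (by rw [Subgroup.zpowers_le]; exact hbt)
  have htb2 : orderOf (t * b) = 2 := by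
    apply orderOf_eq_prime
    · rw [pow_two]
      calc t * b * (t * b) = t * (b * t) * b := by simp [mul_assoc]
        _ = t * (t * b) * b := by rw [hc.eq]
        _ = (t * t) * (b * b) := by simp [mul_assoc]
        _ = 1 := by rw [ht2, hb2, one_mul]
    · intro h1
      apply hne
      have : t * b = b⁻¹ * b := by rw [h1, inv_mul_cancel]
      have := mul_right_cancel this
      rw [this, ib]
  have htH : t ∉ H := by
    intro htH
    rcases hHE htH with h1 | h1
    · exact hno2 t h1 ht
    · exact hno2 _ h1 htb2
  have hcyc : IsCyclic ↥H := by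
    by_contra hnc
    exact htH (h.mem_of_le_centralizer hHt hnc)
  -- b centralizes X
  have hXb : X ≤ Subgroup.centralizer ({b} : Set G) := by
    intro x hx
    rw [Subgroup.mem_centralizer_iff]
    intro w hw; rw [Set.mem_singleton_iff] at hw; subst hw
    have := hcyc
    have hxH : x ∈ H := (le_sup_left : X ≤ H) hx
    have hwH : w ∈ H := (le_sup_right : Subgroup.zpowers w ≤ H) (Subgroup.mem_zpowers w)
    have := IsCyclic.commGroup.mul_comm (⟨w, hwH⟩ : ↥H) ⟨x, hxH⟩
    exact congrArg Subtype.val this
  have hXV : X ≤ Subgroup.closure ({t, b} : Set G) :=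
    le_trans (le_inf hXt hXb) (h.centralizer_inf_le ht hb hne)
  have hdvd : Nat.card ↥X ∣ 4 := by
    rw [← card_closure_pair ht hb hne hc]
    exact Subgroup.card_dvd_of_le hXV
  have hcard : Nat.card ↥X = 1 := by
    rcases hodd with ⟨k, hk⟩
    have hle : Nat.card ↥X ≤ 4 := Nat.le_of_dvd (by norm_num) hdvd
    have : Nat.card ↥X = 1 ∨ Nat.card ↥X = 3 := by omega
    rcases this with h1 | h3
    · exact h1
    · rw [h3] at hdvd; norm_num at hdvd
  exact Subgroup.card_eq_one.mp hcard

end loc

end Cfsg.Agent.Lib.Helper21_SCNC
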