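import Mathlib
import Cfsg.Prelude.Def_CaseTheorems
import Cfsg.Agent.Lib.Helper21_SCNCDefs
import Cfsg.Agent.S0199

/-!
# S3921 package `NOSDCORE` (helper8)

`C` finite with `SCNC`, `t` a central involution, `t ∈ K ⊴ C` whose only involution is `t`,
`x ∈ K` of odd prime order, `b ∉ K` an involution: contradiction.

(The hypothesis `t ∈ K` is necessary: the cyclic group of order `6` with `K` of order `3` and `b = t`
satisfies all the other hypotheses.)
-/

set_option autoImplicit false

namespace Cfsg.Agent.Lib.Helper8_SCNC_NOSDCORE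

open Cfsg.Agent.Lib.Helper21_SCNC

section basic

variable {C : Type*} [Group C]

/-- the elements of the group generated by two commuting involutions -/
theorem mem_closure_pair {t u : C} (ht2 : t * t = 1) (hu2 : u * u = 1) (htu : t * u = u * t)
    {z : C} (hz : z ∈ Subgroup.closure ({t, u} : Set C)) :
    z = 1 ∨ z = t ∨ z = u ∨ z = t * u := by
  let V : Subgroup C :=
    { carrier := {1, t, u, t * u}
      one_mem' := by simp
      mul_mem' := by
        intro x y hx hy
        simp only [Set.mem_insert_iff, Set.mem_singleton_iff] at hx hy ⊢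
        have e1 : t * (t * u) = u := by rw [← mul_assoc, ht2, one_mul]
        have e2 : u * (t * u) = t := by rw [htu, ← mul_assoc, hu2, one_mul]
        have e3 : t * u * t = u := by rw [htu, mul_assoc, ht2, mul_one]
        have e4 : t * u * u = t := by rw [mul_assoc, hu2, mul_one]
        have e5 : t * u * (t * u) = 1 := by rw [mul_assoc, e2, ht2]
        rcases hx with rfl | rfl | rfl | rfl <;> rcases hy with rfl | rfl | rfl | rfl <;>
          simp [ht2, hu2, e1, e2, e3, e4, e5, htu.symm]
      inv_mem' := by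
        intro x hx
        simp only [Set.mem_insert_iff, Set.mem_singleton_iff] at hx ⊢
        have it : t⁻¹ = t := inv_eq_of_mul_eq_one_right ht2
        have iu : u⁻¹ = u := inv_eq_of_mul_eq_one_right hu2
        rcases hx with rfl | rfl | rfl | rfl
        · simp
        · simp [it]
        · simp [iu]
        · right; right; right; rw [mul_inv_rev, it, iu, htu] }
  have hle : Subgroup.closure ({t, u} : Set C) ≤ V := by
    rw [Subgroup.closure_le]
    intro z hz
    rcases hz with rfl | hz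
    · show z ∈ ({1, z, u, z * u} : Set C)
      simp
    · rw [Set.mem_singleton_iff] at hz
      subst hz
      show z ∈ ({1, t, z, t * z} : Set C)
      simp
  have h1 : z ∈ ({1, t, u, t * u} : Set C) := hle hz
  simpa only [Set.mem_insert_iff, Set.mem_singleton_iff] using h1

theorem inv_eq_self_of_orderOf_two {b : C} (hb : orderOf b = 2) : b⁻¹ = b := by
  have hb2 : b * b = 1 := by rw [← pow_two, ← hb]; exact pow_orderOf_eq_one b
  exact inv_eq_of_mul_eq_one_right hb2

theorem ne_one_of_orderOf_two {b : C} (hb : orderOf b = 2) : b ≠ 1 := by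
  intro h
  rw [h, orderOf_one] at hb
  norm_num at hb

/-- `b` inverts `b * b ^ g` -/
theorem conj_prod_inv {b : C} (hb2 : b * b = 1) (g : C) :
    b * (b * (g * b * g⁻¹)) * b⁻¹ = (b * (g * b * g⁻¹))⁻¹ := by
  have ib : b⁻¹ = b := inv_eq_of_mul_eq_one_right hb2
  have h1 : b * (b * (g * b * g⁻¹)) * b⁻¹ = (b * b) * (g * b * g⁻¹ * b⁻¹) := by group
  have h2 : (b * (g * b * g⁻¹))⁻¹ = g * b⁻¹ * g⁻¹ * b⁻¹ := by group
  rw [h1, h2, hb2, one_mul, ib]

end basic

section fin

variable {C : Type*} [Group C] [Finite C]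

/-- step (1): the product of `b` with a conjugate is a `2`-element -/
theorem two_pow_order (h : SCNC C) {t b : C} (ht : orderOf t = 2) (htZ : ∀ c : C, c * t = t * c)
    (hb : orderOf b = 2) (hne : t ≠ b) (g : C) :
    ∃ k : ℕ, orderOf (b * (g * b * g⁻¹)) = 2 ^ k := by
  have hb2 : b * b = 1 := by rw [← pow_two, ← hb]; exact pow_orderOf_eq_one b
  set c := b * (g * b * g⁻¹) with hc
  rcases Nat.eq_two_pow_or_exists_odd_prime_and_dvd (orderOf c) with hk | ⟨s, hs, hsd, hsodd⟩
  · exact hk
  exfalso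
  have hc0 : orderOf c ≠ 0 := (orderOf_pos c).ne'
  set y := c ^ (orderOf c / s) with hy
  have hys : orderOf y = s := orderOf_pow_orderOf_div hc0 hsd
  have hinv : b * c * b⁻¹ = c⁻¹ := conj_prod_inv hb2 g
  have hyinv : b * y * b⁻¹ = y⁻¹ := by
    rw [hy, ← conj_pow, hinv, inv_pow]
  have hX : Subgroup.zpowers y = ⊥ := by
    apply SCNC.eq_bot_of_invol_normalizes h ht hb hne (htZ b).symm
    · intro z _
      rw [Subgroup.mem_centralizer_iff]
      intro w hw
      rw [Set.mem_singleton_iff] at hw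
      rw [hw]
      exact (htZ z).symm
    · rw [Nat.card_zpowers, hys]
      exact hsodd
    · intro z hz
      obtain ⟨n, rfl⟩ := Subgroup.mem_zpowers_iff.1 hz
      rw [← conj_zpow, hyinv]
      exact Subgroup.zpow_mem _ (Subgroup.inv_mem _ (Subgroup.mem_zpowers y)) n
  have hy1 : y = 1 := by
    have : y ∈ (⊥ : Subgroup C) := hX ▸ Subgroup.mem_zpowers y
    exact Subgroup.mem_bot.1 this
  rw [hy1, orderOf_one] at hys
  exact hs.one_lt.ne hys

/-- step (2): Baer–Suzuki puts `b` into a normal `2`-subgroup -/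
theorem exists_normal_two (h : SCNC C) {t b : C} (ht : orderOf t = 2)
    (htZ : ∀ c : C, c * t = t * c) (hb : orderOf b = 2) (hne : t ≠ b) :
    ∃ N : Subgroup C, N.Normal ∧ IsPGroup 2 ↥N ∧ b ∈ N := by
  have : Fact (Nat.Prime 2) := ⟨Nat.prime_two⟩
  have hb2 : b * b = 1 := by rw [← pow_two, ← hb]; exact pow_orderOf_eq_one b
  have ib : b⁻¹ = b := inv_eq_of_mul_eq_one_right hb2
  have hXp : IsPGroup 2 ↥(Subgroup.zpowers b) := by
    apply IsPGroup.of_card (n := 1)
    rw [Nat.card_zpowers, hb, pow_one]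
  obtain ⟨N, hN, hNp, hle⟩ := Cfsg.Agent.S0199.result (p := 2) (Subgroup.zpowers b) hXp (by
    intro g
    obtain ⟨k, hk⟩ := two_pow_order h ht htZ hb hne g
    set c := b * (g * b * g⁻¹) with hc
    have hcp : IsPGroup 2 ↥(Subgroup.zpowers c) := by
      apply IsPGroup.of_card (n := k)
      rw [Nat.card_zpowers, hk]
    have hinv : b * c * b⁻¹ = c⁻¹ := conj_prod_inv hb2 g
    have hnorm : Subgroup.zpowers b ≤ Subgroup.normalizer (Subgroup.zpowers c : Set C) := by
      rw [Subgroup.zpowers_le, Subgroup.mem_normalizer_iff]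
      intro z
      constructor
      · intro hz
        obtain ⟨n, rfl⟩ := Subgroup.mem_zpowers_iff.1 hz
        rw [← conj_zpow, hinv]
        exact Subgroup.zpow_mem _ (Subgroup.inv_mem _ (Subgroup.mem_zpowers c)) n
      · intro hz
        obtain ⟨n, hn⟩ := Subgroup.mem_zpowers_iff.1 hz
        have hz' : z = b * (c ^ n) * b⁻¹ := by
          rw [hn, ib]
          calc z = (b * b) * z * (b * b) := by rw [hb2, one_mul, mul_one]
            _ = b * (b * z * b) * b := by group
        rw [hz', ← conj_zpow, hinv]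
        exact Subgroup.zpow_mem _ (Subgroup.inv_mem _ (Subgroup.mem_zpowers c)) n
    have hsup : IsPGroup 2 ↥(Subgroup.zpowers b ⊔ Subgroup.zpowers c) :=
      IsPGroup.to_sup_of_normal_right' hXp hcp hnorm
    apply hsup.to_le
    apply sup_le le_sup_left
    rw [MonoidHom.map_zpowers, Subgroup.zpowers_le]
    have hgb : (MulAut.conj g).toMonoidHom b = b * c := by
      show g * b * g⁻¹ = b * c
      rw [hc, ← mul_assoc, hb2, one_mul]
    rw [hgb]
    exact Subgroup.mul_mem _ (le_sup_left (a := Subgroup.zpowers b) (Subgroup.mem_zpowers b))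
      (le_sup_right (a := Subgroup.zpowers b) (Subgroup.mem_zpowers c)))
  exact ⟨N, hN, hNp, hle (Subgroup.mem_zpowers b)⟩

theorem nosd_core {C : Type*} [Group C] [Finite C] (h : SCNC C) (t : C) (ht : orderOf t = 2)
    (htZ : ∀ c : C, c * t = t * c) (K : Subgroup C) [K.Normal]
    (hK1 : ∀ u ∈ K, orderOf u = 2 → u = t) (htK : t ∈ K) (x : C) (hxK : x ∈ K) (r : ℕ)
    (hr : r.Prime) (hr2 : r ≠ 2)
    (hx : orderOf x = r) (b : C) (hb : orderOf b = 2) (hbK : b ∉ K) : False := by
  classical
  have iF : Fintype C := Fintype.ofFinite C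
  have : Fact (Nat.Prime 2) := ⟨Nat.prime_two⟩
  have : Fact r.Prime := ⟨hr⟩
  have hne : t ≠ b := fun e => hbK (e ▸ htK)
  have ht2 : t * t = 1 := by rw [← pow_two, ← ht]; exact pow_orderOf_eq_one t
  have hb2 : b * b = 1 := by rw [← pow_two, ← hb]; exact pow_orderOf_eq_one b
  have ib : b⁻¹ = b := inv_eq_of_mul_eq_one_right hb2
  have ht1 : t ≠ 1 := ne_one_of_orderOf_two ht
  obtain ⟨N, hN, hNp, hbN⟩ := exists_normal_two h ht htZ hb hne
  -- `⟨t⟩` is a normal `2`-subgroup
  have hZn : (Subgroup.zpowers t).Normal := by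
    refine ⟨fun n hn g => ?_⟩
    obtain ⟨k, rfl⟩ := Subgroup.mem_zpowers_iff.1 hn
    have hcomm : g * t ^ k = t ^ k * g := by
      have : Commute g t := htZ g
      exact (this.zpow_right k)
    rw [hcomm, mul_assoc, mul_inv_cancel, mul_one]
    exact Subgroup.zpow_mem _ (Subgroup.mem_zpowers t) k
  have hZp : IsPGroup 2 ↥(Subgroup.zpowers t) := by
    apply IsPGroup.of_card (n := 1)
    rw [Nat.card_zpowers, ht, pow_one]
  set U : Subgroup C := N ⊔ Subgroup.zpowers t with hU
  have hUn : U.Normal := Subgroup.sup_normal N (Subgroup.zpowers t)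
  have hUp : IsPGroup 2 ↥U := IsPGroup.to_sup_of_normal_right hNp hZp
  have hbU : b ∈ U := (le_sup_left : N ≤ U) hbN
  have htU : t ∈ U := (le_sup_right : Subgroup.zpowers t ≤ U) (Subgroup.mem_zpowers t)
  set W : Subgroup C := U ⊓ K with hW
  have hWU : W ≤ U := inf_le_left
  have hWK : W ≤ K := inf_le_right
  have hWp : IsPGroup 2 ↥W := hUp.to_le hWU
  have htW : t ∈ W := Subgroup.mem_inf.2 ⟨htU, htK⟩
  have hWn : W.Normal := Subgroup.normal_inf_normal U K
  -- the set of involutions in the coset `b W`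
  let I : Finset C := Finset.univ.filter (fun u => b⁻¹ * u ∈ W ∧ u * u = 1)
  have hImem : ∀ u : C, u ∈ I ↔ (b⁻¹ * u ∈ W ∧ u * u = 1) := by
    intro u
    simp only [I, Finset.mem_filter, Finset.mem_univ, true_and]
  have hbI : b ∈ I := by
    rw [hImem]
    refine ⟨?_, hb2⟩
    rw [inv_mul_cancel]
    exact W.one_mem
  have hI_U : ∀ u ∈ I, u ∈ U := by
    intro u hu
    have h1 := ((hImem u).1 hu).1
    have h2 : u = b * (b⁻¹ * u) := by group
    rw [h2]
    exact U.mul_mem hbU (hWU h1)
  have hI_K : ∀ u ∈ I, u ∉ K := by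
    intro u hu huK
    have h1 := hWK ((hImem u).1 hu).1
    apply hbK
    have h2 : b = u * (b⁻¹ * u)⁻¹ := by group
    rw [h2]
    exact K.mul_mem huK (K.inv_mem h1)
  have hI_ord : ∀ u ∈ I, orderOf u = 2 := by
    intro u hu
    apply orderOf_eq_prime
    · rw [pow_two]
      exact ((hImem u).1 hu).2
    · intro h1
      exact hI_K u hu (h1 ▸ K.one_mem)
  have hI_ne : ∀ u ∈ I, t ≠ u := fun u hu e => hI_K u hu (e ▸ htK)
  -- centralizers
  have hcent : ∀ u ∈ I, ∀ z ∈ K, z * u = u * z → z = 1 ∨ z = t := by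
    intro u hu z hzK hzu
    have hu2 : u * u = 1 := ((hImem u).1 hu).2
    have hz : z ∈ Subgroup.centralizer ({t} : Set C) ⊓ Subgroup.centralizer ({u} : Set C) := by
      rw [Subgroup.mem_inf, Subgroup.mem_centralizer_iff, Subgroup.mem_centralizer_iff]
      constructor
      · intro w hw
        rw [Set.mem_singleton_iff] at hw
        rw [hw]
        exact (htZ z).symm
      · intro w hw
        rw [Set.mem_singleton_iff] at hw
        rw [hw]
        exact hzu.symm
    have hz' := SCNC.centralizer_inf_le h ht (hI_ord u hu) (hI_ne u hu) hz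
    rcases mem_closure_pair ht2 hu2 (htZ u).symm hz' with h1 | h1 | h1 | h1
    · exact Or.inl h1
    · exact Or.inr h1
    · exact absurd (h1 ▸ hzK) (hI_K u hu)
    · exfalso
      apply hI_K u hu
      have h2 : u = t⁻¹ * z := by rw [h1]; group
      rw [h2]
      exact K.mul_mem (K.inv_mem htK) hzK
  -- stability under conjugation by `K`
  have hconj : ∀ g ∈ K, ∀ u ∈ I, g * u * g⁻¹ ∈ I := by
    intro g hg u hu
    obtain ⟨h1, h2⟩ := (hImem u).1 hu
    rw [hImem]
    refine ⟨Subgroup.mem_inf.2 ⟨?_, ?_⟩, ?_⟩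
    · exact U.mul_mem (U.inv_mem hbU) (hUn.conj_mem u (hI_U u hu) g)
    · have h3 : b⁻¹ * (g * u * g⁻¹) = (b⁻¹ * g * b⁻¹⁻¹) * (b⁻¹ * u) * g⁻¹ := by group
      rw [h3]
      exact K.mul_mem (K.mul_mem (Subgroup.Normal.conj_mem inferInstance g hg b⁻¹) (hWK h1))
        (K.inv_mem hg)
    · have h3 : g * u * g⁻¹ * (g * u * g⁻¹) = g * (u * u) * g⁻¹ := by group
      rw [h3, h2, mul_one, mul_inv_cancel]
  -- `x` acts without fixed points
  have hrI : r ∣ I.card := by
    have hzK : Subgroup.zpowers x ≤ K := by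
      rw [Subgroup.zpowers_le]
      exact hxK
    let act : MulAction (Subgroup.zpowers x) {u : C // u ∈ I} :=
      { smul := fun g u => ⟨(g : C) * u * (g : C)⁻¹, hconj g (hzK g.2) u u.2⟩
        one_smul := by
          intro u
          apply Subtype.ext
          show ((1 : Subgroup.zpowers x) : C) * u * ((1 : Subgroup.zpowers x) : C)⁻¹ = u
          rw [Subgroup.coe_one, one_mul, inv_one, mul_one]
        mul_smul := by
          intro g g' u
          apply Subtype.ext
          show ((g * g' : Subgroup.zpowers x) : C) * u * ((g * g' : Subgroup.zpowers x) : C)⁻¹ =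
            (g : C) * ((g' : C) * u * (g' : C)⁻¹) * (g : C)⁻¹
          rw [Subgroup.coe_mul]
          group }
    have hxp : IsPGroup r ↥(Subgroup.zpowers x) := by
      apply IsPGroup.of_card (n := 1)
      rw [Nat.card_zpowers, hx, pow_one]
    have hmod := hxp.card_modEq_card_fixedPoints {u : C // u ∈ I}
    have hfix : IsEmpty (MulAction.fixedPoints (Subgroup.zpowers x) {u : C // u ∈ I}) := by
      refine ⟨fun ⟨u, hu⟩ => ?_⟩
      have h1 := hu ⟨x, Subgroup.mem_zpowers x⟩
      have h2 : x * (u : C) * x⁻¹ = u := congrArg Subtype.val h1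
      have h3 : x * (u : C) = u * x := by
        calc x * (u : C) = x * u * x⁻¹ * x := by group
          _ = u * x := by rw [h2]
      rcases hcent u u.2 x hxK h3 with h4 | h4
      · rw [h4, orderOf_one] at hx
        exact hr.one_lt.ne hx
      · rw [h4, ht] at hx
        exact hr2 hx.symm
    have h0 : Nat.card (MulAction.fixedPoints (Subgroup.zpowers x) {u : C // u ∈ I}) = 0 :=
      Nat.card_of_isEmpty
    rw [h0] at hmod
    rw [Nat.card_eq_fintype_card, Fintype.card_coe] at hmod
    exact (Nat.modEq_zero_iff_dvd).1 hmod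
  -- `W`-orbits
  let Wf : Finset C := Finset.univ.filter (fun w => w ∈ W)
  have hWfmem : ∀ w : C, w ∈ Wf ↔ w ∈ W := by
    intro w
    simp only [Wf, Finset.mem_filter, Finset.mem_univ, true_and]
  have hWcard : Wf.card = Nat.card ↥W := by
    rw [Nat.card_eq_fintype_card, Fintype.card_subtype]
  have horb : ∀ u ∈ I, (Wf.image (fun w => w * u * w⁻¹)).card * 2 = Wf.card := by
    intro u hu
    rw [Finset.card_eq_sum_card_image (fun w => w * u * w⁻¹) Wf, Finset.sum_const_nat (m := 2),
      ]
    intro v hv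
    obtain ⟨w₀, hw₀, hw₀v⟩ := Finset.mem_image.1 hv
    have hw₀W : w₀ ∈ W := (hWfmem w₀).1 hw₀
    have hfib : Wf.filter (fun w => w * u * w⁻¹ = v) = {w₀, w₀ * t} := by
      ext w
      rw [Finset.mem_filter, hWfmem, Finset.mem_insert, Finset.mem_singleton]
      constructor
      · rintro ⟨hwW, hwv⟩
        have hzW : w₀⁻¹ * w ∈ W := W.mul_mem (W.inv_mem hw₀W) hwW
        have hcomm : (w₀⁻¹ * w) * u = u * (w₀⁻¹ * w) := by
          have h1 : w * u * w⁻¹ = w₀ * u * w₀⁻¹ := by rw [hwv, hw₀v]
          calc (w₀⁻¹ * w) * u = w₀⁻¹ * (w * u * w⁻¹) * w := by group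
            _ = w₀⁻¹ * (w₀ * u * w₀⁻¹) * w := by rw [h1]
            _ = u * (w₀⁻¹ * w) := by group
        rcases hcent u hu _ (hWK hzW) hcomm with h1 | h1
        · left
          have : w = w₀ * (w₀⁻¹ * w) := by group
          rw [this, h1, mul_one]
        · right
          have : w = w₀ * (w₀⁻¹ * w) := by group
          rw [this, h1]
      · rintro (rfl | rfl)
        · exact ⟨hw₀W, hw₀v⟩
        · refine ⟨W.mul_mem hw₀W htW, ?_⟩
          rw [← hw₀v]
          have h1 : t * u = u * t := (htZ u).symm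
          calc w₀ * t * u * (w₀ * t)⁻¹ = w₀ * (t * u) * t⁻¹ * w₀⁻¹ := by group
            _ = w₀ * (u * t) * t⁻¹ * w₀⁻¹ := by rw [h1]
            _ = w₀ * u * w₀⁻¹ := by group
    rw [hfib, Finset.card_pair]
    intro h1
    apply ht1
    have : w₀ * 1 = w₀ * t := by rw [mul_one]; exact h1
    exact (mul_left_cancel this).symm
  have hIle : I.card ≤ Wf.card := by
    apply Finset.card_le_card_of_injOn (fun u => b⁻¹ * u)
    · intro u hu
      exact (hWfmem _).2 ((hImem u).1 (Finset.mem_coe.1 hu)).1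
    · intro u _ u' _ huu'
      exact mul_left_cancel huu'
  have horbI : ∀ u ∈ I, Wf.image (fun w => w * u * w⁻¹) ⊆ I := by
    intro u hu v hv
    obtain ⟨w, hw, rfl⟩ := Finset.mem_image.1 hv
    exact hconj w (hWK ((hWfmem w).1 hw)) u hu
  obtain ⟨a, ha⟩ := (IsPGroup.iff_card).1 hWp
  have hfinal : r ∣ 2 ^ (a + 1) := by
    by_cases hcase : Wf.image (fun w => w * b * w⁻¹) = I
    · have h1 := horb b hbI
      rw [hcase, hWcard, ha] at h1
      have h2 : r ∣ I.card * 2 := Dvd.dvd.mul_right hrI 2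
      rw [h1] at h2
      exact h2.trans (pow_dvd_pow 2 (Nat.le_succ a))
    · obtain ⟨u', hu'I, hu'O⟩ : ∃ u' ∈ I, u' ∉ Wf.image (fun w => w * b * w⁻¹) := by
        by_contra hcon
        push Not at hcon
        exact hcase (Finset.Subset.antisymm (horbI b hbI) hcon)
      have hdisj : Disjoint (Wf.image (fun w => w * b * w⁻¹))
          (Wf.image (fun w => w * u' * w⁻¹)) := by
        rw [Finset.disjoint_left]
        intro v hv hv'
        obtain ⟨w, hw, hwv⟩ := Finset.mem_image.1 hv
        obtain ⟨w', hw', hw'v⟩ := Finset.mem_image.1 hv'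
        apply hu'O
        refine Finset.mem_image.2 ⟨w'⁻¹ * w, (hWfmem _).2 (W.mul_mem (W.inv_mem ((hWfmem w').1 hw'))
          ((hWfmem w).1 hw)), ?_⟩
        have h1 : w * b * w⁻¹ = w' * u' * w'⁻¹ := by rw [hwv, hw'v]
        calc w'⁻¹ * w * b * (w'⁻¹ * w)⁻¹ = w'⁻¹ * (w * b * w⁻¹) * w' := by group
          _ = w'⁻¹ * (w' * u' * w'⁻¹) * w' := by rw [h1]
          _ = u' := by group
      have hunion : (Wf.image (fun w => w * b * w⁻¹) ∪ Wf.image (fun w => w * u' * w⁻¹)).card
          ≤ I.card := Finset.card_le_card (Finset.union_subset (horbI b hbI) (horbI u' hu'I))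
      rw [Finset.card_union_of_disjoint hdisj] at hunion
      have h1 := horb b hbI
      have h2 := horb u' hu'I
      have h3 : I.card = Wf.card := by omega
      rw [h3, hWcard, ha] at hrI
      exact hrI.trans (pow_dvd_pow 2 (Nat.le_succ a))
  have h2 : r ∣ 2 := hr.dvd_of_dvd_pow hfinal
  exact hr2 ((Nat.prime_dvd_prime_iff_eq hr Nat.prime_two).1 h2)

end fin

end Cfsg.Agent.Lib.Helper8_SCNC_NOSDCORE
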