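/-
Helper library (helper86): split metacyclic groups `Z_N ⋊_κ Z_2` (dihedral, quasi-dihedral, modular type),
as a concrete model `Dk N κ` (elements `r i = x^i`, `s i = x^i y`, with `y x y⁻¹ = x^κ`, `κ² = 1`), and the
isomorphism of every group satisfying `Cfsg.IsQuasiDihedral` with `Dk (2^n) (2^(n-1) - 1)`.
-/
import Cfsg.Prelude.Def_CaseTheorems

set_option autoImplicit false

namespace Cfsg.Agent.Lib.Helper86_QuasiDihedral

/-- The model of `Z_N ⋊ Z_2` where the involution `y` acts on `x` by `x ↦ x^κ`: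
`r i` stands for `x^i` and `s i` for `x^i y`. -/
inductive Dk (N : ℕ) (κ : ZMod N) : Type
  | r : ZMod N → Dk N κ
  | s : ZMod N → Dk N κ
  deriving DecidableEq

namespace Dk

variable {N : ℕ} {κ : ZMod N}

/-- Multiplication of the model. -/
def mul : Dk N κ → Dk N κ → Dk N κ
  | r i, r j => r (i + j)
  | r i, s j => s (i + j)
  | s i, r j => s (i + κ * j)
  | s i, s j => r (i + κ * j)

/-- Inverse of the model. -/
def inv : Dk N κ → Dk N κ
  | r i => r (-i)
  | s i => s (-(κ * i))

theorem mul_assoc' (hκ : κ * κ = 1) (u v w : Dk N κ) : mul (mul u v) w = mul u (mul v w) := by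
  have h' : ∀ t : ZMod N, κ * (κ * t) = t := fun t => by rw [← _root_.mul_assoc, hκ, one_mul]
  rcases u with i | i <;> rcases v with j | j <;> rcases w with k | k <;>
    simp only [mul, mul_add, h', add_assoc]

instance [hκ : Fact (κ * κ = 1)] : Group (Dk N κ) where
  mul := mul
  mul_assoc := mul_assoc' hκ.out
  one := r 0
  one_mul := by
    rintro (i | i)
    · exact congrArg r (zero_add i)
    · exact congrArg s (zero_add i)
  mul_one := by
    rintro (i | i)
    · exact congrArg r (add_zero i)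
    · exact congrArg s (by rw [mul_zero, add_zero])
  inv := inv
  inv_mul_cancel := by
    rintro (i | i)
    · exact congrArg r (neg_add_cancel i)
    · exact congrArg r (by rw [neg_add_cancel])

variable [hκ : Fact (κ * κ = 1)]

@[simp] theorem r_mul_r (i j : ZMod N) : (r i : Dk N κ) * r j = r (i + j) := rfl
@[simp] theorem r_mul_s (i j : ZMod N) : (r i : Dk N κ) * s j = s (i + j) := rfl
@[simp] theorem s_mul_r (i j : ZMod N) : (s i : Dk N κ) * r j = s (i + κ * j) := rfl
@[simp] theorem s_mul_s (i j : ZMod N) : (s i : Dk N κ) * s j = r (i + κ * j) := rfl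
@[simp] theorem inv_r (i : ZMod N) : (r i : Dk N κ)⁻¹ = r (-i) := rfl
@[simp] theorem inv_s (i : ZMod N) : (s i : Dk N κ)⁻¹ = s (-(κ * i)) := rfl
theorem one_def : (1 : Dk N κ) = r 0 := rfl
@[simp] theorem r_zero : (r 0 : Dk N κ) = 1 := rfl

theorem kk (t : ZMod N) : κ * (κ * t) = t := by rw [← mul_assoc, hκ.out, one_mul]

/-- The model as a sum of two copies of `ZMod N`. -/
def equivSum : Dk N κ ≃ ZMod N ⊕ ZMod N where
  toFun
    | r i => .inl i
    | s i => .inr i
  invFun
    | .inl i => r i
    | .inr i => s i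
  left_inv := by rintro (i | i) <;> rfl
  right_inv := by rintro (i | i) <;> rfl

instance [NeZero N] : Fintype (Dk N κ) := Fintype.ofEquiv _ equivSum.symm

instance [NeZero N] : Finite (Dk N κ) := Finite.of_fintype _

omit hκ in
theorem card [NeZero N] : Nat.card (Dk N κ) = 2 * N := by
  rw [Nat.card_congr equivSum, Nat.card_sum, Nat.card_zmod]
  ring

end Dk

/-! ### The isomorphism with an abstract group `⟨x, y | x^N, y^2, y x y⁻¹ = x^e⟩` of order `2N` -/

section iso

variable {S : Type*} [Group S] {N : ℕ}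

theorem pow_val_natCast [NeZero N] {g : S} (hg : g ^ N = 1) (m : ℕ) :
    g ^ ((m : ZMod N).val) = g ^ m := by
  rw [ZMod.val_natCast]
  conv_rhs => rw [← Nat.mod_add_div m N]
  rw [pow_add, pow_mul, hg, one_pow, mul_one]

theorem pow_val_add [NeZero N] {g : S} (hg : g ^ N = 1) (i j : ZMod N) :
    g ^ (i + j).val = g ^ i.val * g ^ j.val := by
  rw [← pow_add, ← pow_val_natCast hg (i.val + j.val), Nat.cast_add, ZMod.natCast_zmod_val,
    ZMod.natCast_zmod_val]

theorem pow_val_eq_one_iff [NeZero N] {g : S} (hg : orderOf g = N) (i : ZMod N) :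
    g ^ i.val = 1 ↔ i = 0 := by
  constructor
  · intro h
    have hdvd : N ∣ i.val := by
      have := orderOf_dvd_of_pow_eq_one h
      rwa [hg] at this
    have hlt : i.val < N := ZMod.val_lt i
    have : i.val = 0 := Nat.eq_zero_of_dvd_of_lt hdvd hlt
    exact (ZMod.val_eq_zero i).mp this
  · rintro rfl
    simp

/-- the data of a split metacyclic group of order `2N` -/
structure MData (S : Type*) [Group S] (N e : ℕ) where
  x : S
  y : S
  hx : orderOf x = N
  hy : orderOf y = 2
  hyx : y * x * y⁻¹ = x ^ e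

namespace MData

variable {e : ℕ} (D : MData S N e)

theorem y_sq : D.y * D.y = 1 := by
  have := pow_orderOf_eq_one D.y
  rwa [D.hy, pow_two] at this

theorem y_inv : D.y⁻¹ = D.y := inv_eq_of_mul_eq_one_right D.y_sq

theorem x_pow_N : D.x ^ N = 1 := by
  have := pow_orderOf_eq_one D.x
  rwa [D.hx] at this

theorem y_xpow (m : ℕ) : D.y * D.x ^ m = D.x ^ (e * m) * D.y := by
  have h : D.y * D.x ^ m * D.y⁻¹ = D.x ^ (e * m) := by
    rw [← conj_pow, D.hyx, ← pow_mul]
  rw [← h, inv_mul_cancel_right]

/-- the map from the model -/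
def toFun : Dk N (e : ZMod N) → S
  | Dk.r i => D.x ^ i.val
  | Dk.s i => D.x ^ i.val * D.y

theorem toFun_mul [NeZero N] [Fact ((e : ZMod N) * (e : ZMod N) = 1)] (u v : Dk N (e : ZMod N)) :
    D.toFun (u * v) = D.toFun u * D.toFun v := by
  have hX := D.x_pow_N
  have hmul : ∀ j : ZMod N, D.x ^ ((e : ZMod N) * j).val = D.x ^ (e * j.val) := by
    intro j
    rw [← pow_val_natCast hX (e * j.val), Nat.cast_mul, ZMod.natCast_zmod_val]
  rcases u with i | i <;> rcases v with j | j
  · simp only [Dk.r_mul_r, toFun, pow_val_add hX]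
  · simp only [Dk.r_mul_s, toFun, pow_val_add hX, mul_assoc]
  · simp only [Dk.s_mul_r, toFun, pow_val_add hX, hmul]
    rw [mul_assoc, mul_assoc, D.y_xpow]
  · simp only [Dk.s_mul_s, toFun, pow_val_add hX, hmul]
    rw [mul_assoc (D.x ^ i.val) D.y, ← mul_assoc D.y, D.y_xpow, mul_assoc, D.y_sq, mul_one]

/-- the homomorphism from the model -/
def hom [NeZero N] [Fact ((e : ZMod N) * (e : ZMod N) = 1)] : Dk N (e : ZMod N) →* S where
  toFun := D.toFun
  map_one' := by simp [toFun, Dk.one_def]
  map_mul' := D.toFun_mul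

theorem hom_injective [NeZero N] [Fact ((e : ZMod N) * (e : ZMod N) = 1)]
    (hne : (e : ZMod N) ≠ 1) : Function.Injective D.hom := by
  rw [injective_iff_map_eq_one]
  rintro (i | i) h
  · have h' : D.x ^ i.val = 1 := h
    rw [(pow_val_eq_one_iff D.hx i).mp h']; rfl
  · exfalso
    have h' : D.x ^ i.val * D.y = 1 := h
    have hy : D.y = (D.x ^ i.val)⁻¹ := eq_inv_of_mul_eq_one_right h'
    have hc : Commute D.y D.x := by
      rw [hy]; exact ((Commute.refl D.x).pow_left _).inv_left
    have h1 : D.x = D.x ^ e := by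
      have := D.hyx
      rw [hc.eq, mul_inv_cancel_right] at this
      exact this
    -- so `x^(e) = x^1`, hence `e ≡ 1 mod N`
    have h2 : D.x ^ ((e : ZMod N)).val = D.x ^ ((1 : ℕ) : ZMod N).val := by
      rw [pow_val_natCast D.x_pow_N, pow_val_natCast D.x_pow_N, pow_one]; exact h1.symm
    apply hne
    have h3 : D.x ^ ((e : ZMod N) - 1).val = 1 := by
      have : D.x ^ ((e : ZMod N) - 1).val * D.x ^ ((1 : ℕ) : ZMod N).val = D.x ^ ((e : ZMod N)).val := by
        rw [← pow_val_add D.x_pow_N]; congr 2; simp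
      rw [h2] at this
      exact mul_eq_right.mp this
    have := (pow_val_eq_one_iff D.hx _).mp h3
    exact sub_eq_zero.mp this

theorem hom_bijective [NeZero N] [Finite S] [Fact ((e : ZMod N) * (e : ZMod N) = 1)]
    (hne : (e : ZMod N) ≠ 1) (hcard : Nat.card S = 2 * N) : Function.Bijective D.hom := by
  rw [Nat.bijective_iff_injective_and_card]
  exact ⟨D.hom_injective hne, by rw [Dk.card, hcard]⟩

/-- the isomorphism of the model with the abstract group -/
noncomputable def mulEquiv [NeZero N] [Finite S] [Fact ((e : ZMod N) * (e : ZMod N) = 1)]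
    (hne : (e : ZMod N) ≠ 1) (hcard : Nat.card S = 2 * N) : Dk N (e : ZMod N) ≃* S :=
  MulEquiv.ofBijective D.hom (D.hom_bijective hne hcard)

end MData

end iso

end Cfsg.Agent.Lib.Helper86_QuasiDihedral
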