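/-
Helper library (helper86): the quasi-dihedral 2-groups, via the model `Dk (8K) (4K-1)`.
-/
import Cfsg.Agent.Lib.Helper86_QuasiDihedral
import Cfsg.Agent.Lib.Helper86_Wreathed

set_option autoImplicit false
set_option linter.unusedSectionVars false

namespace Cfsg.Agent.Lib.Helper86_QuasiDihedral

open Cfsg.Agent.Lib.Helper86_Wreathed

/-- A maximal subgroup of a finite `p`-group is normal of index `p`. -/
theorem coatom_index_of_isPGroup {G : Type*} [Group G] [Finite G] {p : ℕ} [hp : Fact p.Prime]
    (hG : IsPGroup p G) (M : Subgroup G) (hM : IsCoatom M) : M.Normal ∧ M.index = p := by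
  have hnil : Group.IsNilpotent G := hG.isNilpotent
  have hn : M.Normal :=
    Subgroup.NormalizerCondition.normal_of_coatom M (Group.normalizerCondition_of_isNilpotent) hM
  refine ⟨hn, ?_⟩
  -- G ⧸ M is a nontrivial p-group
  have hQ : IsPGroup p (G ⧸ M) := hG.to_quotient M
  have hidx : M.index ≠ 1 := by
    intro h
    exact hM.1 (Subgroup.index_eq_one.mp h)
  have hcard : Nat.card (G ⧸ M) = M.index := rfl
  obtain ⟨k, hk⟩ := (IsPGroup.iff_card).mp hQ
  have hk0 : k ≠ 0 := by
    rintro rfl
    rw [pow_zero] at hk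
    exact hidx (hcard ▸ hk)
  have hpd : p ∣ Nat.card (G ⧸ M) := by
    rw [hk]; exact dvd_pow_self p hk0
  obtain ⟨g, hg⟩ := exists_prime_orderOf_dvd_card' p hpd
  -- the preimage of ⟨g⟩ is a subgroup strictly containing M, so it is ⊤
  let M' : Subgroup G := (Subgroup.zpowers g).comap (QuotientGroup.mk' M)
  have hle : M ≤ M' := by
    intro m hm
    show (QuotientGroup.mk' M) m ∈ Subgroup.zpowers g
    have : (QuotientGroup.mk' M) m = 1 := (QuotientGroup.eq_one_iff m).mpr hm
    rw [this]; exact Subgroup.one_mem _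
  have hne : M ≠ M' := by
    intro h
    obtain ⟨g', rfl⟩ := QuotientGroup.mk_surjective g
    have hg'M' : g' ∈ M' := by
      show (QuotientGroup.mk' M) g' ∈ Subgroup.zpowers _
      exact Subgroup.mem_zpowers _
    rw [← h] at hg'M'
    have : (QuotientGroup.mk g' : G ⧸ M) = 1 := (QuotientGroup.eq_one_iff g').mpr hg'M'
    rw [this, orderOf_one] at hg
    exact hp.out.one_lt.ne hg
  have htop : M' = ⊤ := hM.2 M' (lt_of_le_of_ne hle hne)
  have hz : Subgroup.zpowers g = ⊤ := by
    rw [eq_top_iff]
    intro q _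
    obtain ⟨q', rfl⟩ := QuotientGroup.mk_surjective q
    have : q' ∈ M' := by rw [htop]; exact Subgroup.mem_top _
    exact this
  have h1 : Nat.card (Subgroup.zpowers g) = p := by rw [Nat.card_zpowers, hg]
  rw [hz] at h1
  rw [← hcard, ← h1]
  exact (Nat.card_congr Subgroup.topEquiv.toEquiv).symm


section arith

variable (K : ℕ)

/-- the element `N/2` of `ZMod N`, `N = 8K` -/
def hh : ZMod (8 * K) := ((4 * K : ℕ) : ZMod (8 * K))

/-- the exponent `N/2 - 1` -/
def kap : ZMod (8 * K) := ((4 * K - 1 : ℕ) : ZMod (8 * K))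

theorem eightK : ((8 : ZMod (8 * K)) * (K : ZMod (8 * K))) = 0 := by
  have := ZMod.natCast_self (8 * K)
  push_cast at this
  exact this

theorem hh_eq : hh K = 4 * (K : ZMod (8 * K)) := by
  unfold hh; push_cast; rfl

theorem hh_add_hh : hh K + hh K = 0 := by
  rw [hh_eq]; linear_combination eightK K

theorem hh_mul_hh : hh K * hh K = 0 := by
  rw [hh_eq]; linear_combination (2 * (K : ZMod (8 * K))) * eightK K

theorem neg_hh : - hh K = hh K := by
  linear_combination - hh_add_hh K

variable [NeZero K]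

theorem kap_eq : kap K = hh K - 1 := by
  unfold kap hh
  have h1 : 1 ≤ 4 * K := by have := NeZero.pos K; omega
  rw [Nat.cast_sub h1, Nat.cast_one]

theorem kap_mul_kap : kap K * kap K = 1 := by
  rw [kap_eq]
  linear_combination hh_mul_hh K - hh_add_hh K

instance : Fact (kap K * kap K = 1) := ⟨kap_mul_kap K⟩

theorem hh_ne_zero : hh K ≠ 0 := by
  have hpos := NeZero.pos K
  exact zmod_half_ne_zero (N := 8 * K) (M := 4 * K) (by ring) (by omega)

theorem two_mul_eq_zero_iff (m : ZMod (8 * K)) : 2 * m = 0 ↔ m = 0 ∨ m = hh K := by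
  have hpos := NeZero.pos K
  constructor
  · intro h
    exact zmod_two_torsion (N := 8 * K) (M := 4 * K) (by ring) (by omega) m (by rw [← two_mul]; exact h)
  · rintro (rfl | rfl)
    · simp
    · rw [two_mul]; exact hh_add_hh K

/-- the parity homomorphism -/
def par : ZMod (8 * K) →+* ZMod 2 := ZMod.castHom (⟨4 * K, by ring⟩ : 2 ∣ 8 * K) (ZMod 2)

omit [NeZero K] in
theorem par_natCast (m : ℕ) : par K (m : ZMod (8 * K)) = (m : ZMod 2) := map_natCast (par K) m

theorem par_hh : par K (hh K) = 0 := by
  unfold hh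
  rw [par_natCast]
  rw [ZMod.natCast_eq_zero_iff]
  exact ⟨2 * K, by ring⟩

theorem par_kap : par K (kap K) = 1 := by
  rw [kap_eq, map_sub, par_hh, map_one]
  decide

theorem exists_two_mul_of_par (m : ZMod (8 * K)) (h : par K m = 0) : ∃ j, m = 2 * j := by
  have h1 : par K m = ((m.val : ℕ) : ZMod 2) := by
    conv_lhs => rw [← ZMod.natCast_zmod_val m]
    exact par_natCast K _
  rw [h1, ZMod.natCast_eq_zero_iff] at h
  obtain ⟨c, hc⟩ := h
  refine ⟨(c : ZMod (8 * K)), ?_⟩
  conv_lhs => rw [← ZMod.natCast_zmod_val m, hc]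
  push_cast; rfl

theorem par_two_mul (j : ZMod (8 * K)) : par K (2 * j) = 0 := by
  rw [map_mul]
  have : par K 2 = 0 := by
    have h2 : par K 2 = 2 := map_ofNat (par K) 2
    rw [h2]; rfl
  rw [this, zero_mul]

theorem hh_mul_of_par_zero (m : ZMod (8 * K)) (h : par K m = 0) : hh K * m = 0 := by
  obtain ⟨j, rfl⟩ := exists_two_mul_of_par K m h
  linear_combination j * hh_add_hh K

theorem hh_mul_of_par_one (m : ZMod (8 * K)) (h : par K m = 1) : hh K * m = hh K := by
  have h0 : par K (m - 1) = 0 := by rw [map_sub, h, map_one, sub_self]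
  have := hh_mul_of_par_zero K _ h0
  linear_combination this

omit [NeZero K] in
theorem par_cases (m : ZMod (8 * K)) : par K m = 0 ∨ par K m = 1 := by
  generalize par K m = t
  revert t; decide

/-- the inverse of `1 - 2K` -/
def uu : ZMod (8 * K) := 1 + 2 * (K : ZMod (8 * K)) + 4 * (K : ZMod (8 * K)) ^ 2

theorem one_sub_kap_mul_uu : (1 - kap K) * uu K = 2 := by
  rw [kap_eq, hh_eq]; unfold uu
  linear_combination (-2 * (K : ZMod (8 * K)) ^ 2) * eightK K

theorem one_sub_kap_mul_eq_zero_iff (m : ZMod (8 * K)) : (1 - kap K) * m = 0 ↔ 2 * m = 0 := by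
  constructor
  · intro h
    have := one_sub_kap_mul_uu K
    linear_combination (uu K) * h - m * this
  · intro h
    rw [kap_eq]
    have h2 := (two_mul_eq_zero_iff K m).mp h
    rcases h2 with rfl | rfl
    · simp
    · linear_combination hh_add_hh K - hh_mul_hh K

theorem one_add_kap : 1 + kap K = hh K := by rw [kap_eq]; ring

theorem kap_mul_two (j : ZMod (8 * K)) : kap K * (2 * j) = - (2 * j) := by
  rw [kap_eq]; linear_combination j * hh_add_hh K

theorem kap_mul_hh : kap K * hh K = hh K := by
  rw [kap_eq]; linear_combination hh_mul_hh K - hh_add_hh K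

theorem kap_ne_one : kap K ≠ 1 := by
  intro h
  have h1 : par K (kap K) = 1 := par_kap K
  -- (1 - κ) * 1 = 0 → 2 = 0 → 1 = 0 or 1 = H: both contradict parity
  have h2 : (1 - kap K) * 1 = 0 := by rw [h]; ring
  rw [one_sub_kap_mul_eq_zero_iff, two_mul_eq_zero_iff] at h2
  rcases h2 with h2 | h2
  · have := congrArg (par K) h2
    rw [map_one, map_zero] at this
    exact one_ne_zero this
  · have := congrArg (par K) h2
    rw [map_one, par_hh] at this
    exact one_ne_zero this

end arith


/-! ### general facts on subgroups of index two -/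

section general

variable {G : Type*} [Group G]

theorem isCoatom_of_index_two (M : Subgroup G) (h : M.index = 2) : IsCoatom M := by
  constructor
  · intro htop
    rw [htop, Subgroup.index_top] at h
    omega
  · intro M' hlt
    have h1 := Subgroup.relIndex_mul_index hlt.le
    rw [h] at h1
    have h2 : M'.index ∣ 2 := Dvd.intro_left _ h1
    have h3 : M'.index = 1 ∨ M'.index = 2 := by
      have := (Nat.dvd_prime Nat.prime_two).mp h2
      exact this
    rcases h3 with h3 | h3
    · exact Subgroup.index_eq_one.mp h3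
    · exfalso
      rw [h3] at h1
      have h4 : M.relIndex M' = 1 := by omega
      exact hlt.not_ge (Subgroup.relIndex_eq_one.mp h4)

theorem eq_of_le_of_index_two (M₁ M : Subgroup G) (hle : M₁ ≤ M) (h1 : M₁.index = 2)
    (h2 : M.index = 2) : M₁ = M := by
  have h := Subgroup.relIndex_mul_index hle
  rw [h1, h2] at h
  have h4 : M₁.relIndex M = 1 := by omega
  exact le_antisymm hle (Subgroup.relIndex_eq_one.mp h4)

theorem index_ker_of_surjective (f : G →* Multiplicative (ZMod 2)) (hf : Function.Surjective f) :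
    f.ker.index = 2 := by
  rw [Subgroup.index_ker, MonoidHom.range_eq_top.mpr hf]
  rw [Nat.card_congr Subgroup.topEquiv.toEquiv]
  simp

end general



namespace Dk

variable {N : ℕ} {κ : ZMod N} [hκ : Fact (κ * κ = 1)]

/-- the sign homomorphism `x^i y^j ↦ j` -/
def sgnHom : Dk N κ →* Multiplicative (ZMod 2) where
  toFun
    | r _ => 1
    | s _ => Multiplicative.ofAdd 1
  map_one' := rfl
  map_mul' := by
    rintro (i | i) (j | j)
    · rw [r_mul_r]; rfl
    · rw [r_mul_s]; rfl
    · rw [s_mul_r]; rfl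
    · rw [s_mul_s]
      show (1 : Multiplicative (ZMod 2)) = Multiplicative.ofAdd 1 * Multiplicative.ofAdd 1
      decide

@[simp] theorem sgnHom_r (i : ZMod N) : sgnHom (r i : Dk N κ) = 1 := rfl
@[simp] theorem sgnHom_s (i : ZMod N) : sgnHom (s i : Dk N κ) = Multiplicative.ofAdd 1 := rfl

theorem sgnHom_surjective : Function.Surjective (sgnHom (N := N) (κ := κ)) := by
  intro t
  have : t = 1 ∨ t = Multiplicative.ofAdd 1 := by revert t; decide
  rcases this with rfl | rfl
  · exact ⟨r 0, rfl⟩
  · exact ⟨s 0, rfl⟩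

theorem r_one_pow (k : ℕ) : (r 1 : Dk N κ) ^ k = r (k : ZMod N) := by
  induction k with
  | zero => simp
  | succ k ih => rw [pow_succ, ih, r_mul_r]; push_cast; rfl

theorem r_pow (i : ZMod N) (k : ℕ) : (r i : Dk N κ) ^ k = r ((k : ZMod N) * i) := by
  induction k with
  | zero => simp
  | succ k ih => rw [pow_succ, ih, r_mul_r]; push_cast; congr 1; ring

/-- the rotation subgroup -/
def rotSub (N : ℕ) (κ : ZMod N) [Fact (κ * κ = 1)] : Subgroup (Dk N κ) := (sgnHom (N := N) (κ := κ)).ker

theorem r_mem_rotSub (i : ZMod N) : (r i : Dk N κ) ∈ rotSub N κ := by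
  show sgnHom (r i : Dk N κ) = 1
  rfl

theorem s_not_mem_rotSub (i : ZMod N) : (s i : Dk N κ) ∉ rotSub N κ := by
  intro h
  have h1 : sgnHom (s i : Dk N κ) = 1 := h
  revert h1
  simp only [sgnHom_s]
  decide

theorem rotSub_eq_zpowers [NeZero N] : rotSub N κ = Subgroup.zpowers (r 1 : Dk N κ) := by
  ext g
  constructor
  · intro hg
    rcases g with i | i
    · rw [Subgroup.mem_zpowers_iff]
      refine ⟨(i.val : ℤ), ?_⟩
      rw [zpow_natCast, r_one_pow, ZMod.natCast_zmod_val]
    · exact absurd hg (s_not_mem_rotSub i)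
  · intro hg
    rw [Subgroup.mem_zpowers_iff] at hg
    obtain ⟨k, rfl⟩ := hg
    exact Subgroup.zpow_mem _ (r_mem_rotSub 1) k

theorem rotSub_index : (rotSub N κ).index = 2 := index_ker_of_surjective _ sgnHom_surjective

theorem rotSub_isCyclic [NeZero N] : IsCyclic (rotSub N κ) := by
  rw [rotSub_eq_zpowers]; infer_instance

end Dk



/-! ### the quasi-dihedral model -/

/-- the quasi-dihedral group of order `16 K` (a 2-group if `K` is a power of two) -/
abbrev QD (K : ℕ) [NeZero K] : Type := Dk (8 * K) (kap K)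

namespace QD

open Dk

variable {K : ℕ} [NeZero K]

theorem card_eq : Nat.card (QD K) = 16 * K := by
  rw [Dk.card]; ring

/-- the parity homomorphism `x^i y^j ↦ i mod 2` -/
def parHom (K : ℕ) [NeZero K] : QD K →* Multiplicative (ZMod 2) where
  toFun
    | r i => Multiplicative.ofAdd (par K i)
    | s i => Multiplicative.ofAdd (par K i)
  map_one' := by
    show Multiplicative.ofAdd (par K 0) = 1
    rw [map_zero]; rfl
  map_mul' := by
    rintro (i | i) (j | j)
    · rw [r_mul_r]
      show Multiplicative.ofAdd (par K (i + j)) = Multiplicative.ofAdd (par K i) * Multiplicative.ofAdd (par K j)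
      rw [map_add]; rfl
    · rw [r_mul_s]
      show Multiplicative.ofAdd (par K (i + j)) = Multiplicative.ofAdd (par K i) * Multiplicative.ofAdd (par K j)
      rw [map_add]; rfl
    · rw [s_mul_r]
      show Multiplicative.ofAdd (par K (i + kap K * j)) = Multiplicative.ofAdd (par K i) * Multiplicative.ofAdd (par K j)
      rw [map_add, map_mul, par_kap, one_mul]; rfl
    · rw [s_mul_s]
      show Multiplicative.ofAdd (par K (i + kap K * j)) = Multiplicative.ofAdd (par K i) * Multiplicative.ofAdd (par K j)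
      rw [map_add, map_mul, par_kap, one_mul]; rfl

theorem parHom_r (i : ZMod (8 * K)) : parHom K (r i) = Multiplicative.ofAdd (par K i) := rfl
theorem parHom_s (i : ZMod (8 * K)) : parHom K (s i) = Multiplicative.ofAdd (par K i) := rfl

theorem par_one : par K 1 = 1 := map_one _

theorem parHom_surjective : Function.Surjective (parHom K) := by
  intro t
  have : t = 1 ∨ t = Multiplicative.ofAdd 1 := by revert t; decide
  rcases this with rfl | rfl
  · exact ⟨r 0, map_one _⟩
  · refine ⟨r 1, ?_⟩
    rw [parHom_r, par_one]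

/-- the product of the parity and the sign -/
def mulHom (K : ℕ) [NeZero K] : QD K →* Multiplicative (ZMod 2) :=
  parHom K * (sgnHom : QD K →* Multiplicative (ZMod 2))

theorem mulHom_r (i : ZMod (8 * K)) : mulHom K (r i) = Multiplicative.ofAdd (par K i) := by
  show parHom K (r i) * sgnHom (r i : QD K) = _
  rw [parHom_r, sgnHom_r, mul_one]

theorem mulHom_s (i : ZMod (8 * K)) :
    mulHom K (s i) = Multiplicative.ofAdd (par K i) * Multiplicative.ofAdd 1 := by
  show parHom K (s i) * sgnHom (s i : QD K) = _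
  rw [parHom_s, sgnHom_s]

theorem mulHom_surjective : Function.Surjective (mulHom K) := by
  intro t
  have : t = 1 ∨ t = Multiplicative.ofAdd 1 := by revert t; decide
  rcases this with rfl | rfl
  · exact ⟨r 0, map_one _⟩
  · refine ⟨r 1, ?_⟩
    rw [mulHom_r, par_one]

/-- the dihedral maximal subgroup -/
def dihSub (K : ℕ) [NeZero K] : Subgroup (QD K) := (parHom K).ker

/-- the generalized quaternion maximal subgroup -/
def quaSub (K : ℕ) [NeZero K] : Subgroup (QD K) := (mulHom K).ker

/-- the Frattini subgroup -/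
def phiSub (K : ℕ) [NeZero K] : Subgroup (QD K) := Subgroup.zpowers (r 2)

theorem ofAdd_eq_one_iff (t : ZMod 2) : Multiplicative.ofAdd t = 1 ↔ t = 0 := by
  revert t; decide

theorem r_mem_dihSub (i : ZMod (8 * K)) : r i ∈ dihSub K ↔ par K i = 0 := by
  show parHom K (r i) = 1 ↔ _
  rw [parHom_r, ofAdd_eq_one_iff]

theorem s_mem_dihSub (i : ZMod (8 * K)) : s i ∈ dihSub K ↔ par K i = 0 := by
  show parHom K (s i) = 1 ↔ _
  rw [parHom_s, ofAdd_eq_one_iff]

theorem r_mem_quaSub (i : ZMod (8 * K)) : r i ∈ quaSub K ↔ par K i = 0 := by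
  show mulHom K (r i) = 1 ↔ _
  rw [mulHom_r, ofAdd_eq_one_iff]

theorem s_mem_quaSub (i : ZMod (8 * K)) : s i ∈ quaSub K ↔ par K i = 1 := by
  show mulHom K (s i) = 1 ↔ _
  rw [mulHom_s]
  generalize par K i = t
  revert t; decide

theorem r_mem_phiSub (i : ZMod (8 * K)) : r i ∈ phiSub K ↔ par K i = 0 := by
  unfold phiSub
  rw [Subgroup.mem_zpowers_iff]
  constructor
  · rintro ⟨k, hk⟩
    have h1 : parHom K ((r 2 : QD K) ^ k) = 1 := by
      rw [map_zpow, parHom_r]
      have : par K 2 = 0 := by
        have := par_two_mul K 1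
        rwa [mul_one] at this
      rw [this]; simp
    rw [hk, parHom_r, ofAdd_eq_one_iff] at h1
    exact h1
  · intro h
    obtain ⟨j, rfl⟩ := exists_two_mul_of_par K i h
    refine ⟨(j.val : ℤ), ?_⟩
    rw [zpow_natCast, r_pow, ZMod.natCast_zmod_val, mul_comm j 2]

theorem s_not_mem_phiSub (i : ZMod (8 * K)) : s i ∉ phiSub K := by
  unfold phiSub
  intro h
  have : Subgroup.zpowers (r 2 : QD K) ≤ rotSub _ _ := by
    rw [Subgroup.zpowers_le]; exact r_mem_rotSub 2
  exact s_not_mem_rotSub i (this h)

theorem dihSub_index : (dihSub K).index = 2 := index_ker_of_surjective _ parHom_surjective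
theorem quaSub_index : (quaSub K).index = 2 := index_ker_of_surjective _ mulHom_surjective

theorem rot_ne_dih : rotSub (8 * K) (kap K) ≠ dihSub K := by
  intro h
  have h1 : (r 1 : QD K) ∈ rotSub _ _ := r_mem_rotSub 1
  rw [h, r_mem_dihSub, par_one] at h1
  exact one_ne_zero h1

theorem rot_ne_qua : rotSub (8 * K) (kap K) ≠ quaSub K := by
  intro h
  have h1 : (r 1 : QD K) ∈ rotSub _ _ := r_mem_rotSub 1
  rw [h, r_mem_quaSub, par_one] at h1
  exact one_ne_zero h1

theorem dih_ne_qua : dihSub K ≠ quaSub K := by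
  intro h
  have h1 : (s 0 : QD K) ∈ dihSub K := by rw [s_mem_dihSub, map_zero]
  rw [h, s_mem_quaSub, map_zero] at h1
  exact zero_ne_one h1

/-- every subgroup of index two contains the squares, hence `phiSub` -/
theorem phiSub_le_of_index_two (M : Subgroup (QD K)) (hM : M.index = 2) : phiSub K ≤ M := by
  unfold phiSub
  rw [Subgroup.zpowers_le]
  have := Subgroup.sq_mem_of_index_two hM (r 1 : QD K)
  rw [pow_two, r_mul_r] at this
  convert this using 2
  norm_num

theorem index_two_classify (M : Subgroup (QD K)) (hM : M.index = 2) :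
    M = rotSub _ _ ∨ M = dihSub K ∨ M = quaSub K := by
  have hphi := phiSub_le_of_index_two M hM
  by_cases h1 : (r 1 : QD K) ∈ M
  · left
    symm
    apply eq_of_le_of_index_two _ _ _ rotSub_index hM
    rw [rotSub_eq_zpowers, Subgroup.zpowers_le]
    exact h1
  · right
    by_cases h2 : (s 0 : QD K) ∈ M
    · left
      symm
      apply eq_of_le_of_index_two _ _ _ dihSub_index hM
      rintro (i | i) hi
      · rw [r_mem_dihSub] at hi
        exact hphi ((r_mem_phiSub i).mpr hi)
      · rw [s_mem_dihSub] at hi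
        have : (s i : QD K) = r i * s 0 := by rw [r_mul_s, add_zero]
        rw [this]
        exact M.mul_mem (hphi ((r_mem_phiSub i).mpr hi)) h2
    · right
      symm
      apply eq_of_le_of_index_two _ _ _ quaSub_index hM
      have h3 : (s 1 : QD K) ∈ M := by
        have : (s 1 : QD K) = r 1 * s 0 := by rw [r_mul_s, add_zero]
        rw [this, Subgroup.mul_mem_iff_of_index_two hM]
        exact ⟨fun h => absurd h h1, fun h => absurd h h2⟩
      rintro (i | i) hi
      · rw [r_mem_quaSub] at hi
        exact hphi ((r_mem_phiSub i).mpr hi)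
      · rw [s_mem_quaSub] at hi
        have : (s i : QD K) = r (i - 1) * s 1 := by rw [r_mul_s, sub_add_cancel]
        rw [this]
        refine M.mul_mem (hphi ((r_mem_phiSub _).mpr ?_)) h3
        rw [map_sub, hi, par_one, sub_self]

end QD



/-! ### the doubling map `ZMod m → ZMod (2m)` -/

section dbl

variable {m N : ℕ}

/-- multiplication by two, as a map `ZMod m →+ ZMod (2m)` -/
def dbl (h : N = 2 * m) : ZMod m →+ ZMod N :=
  ZMod.lift m ⟨zmultiplesHom (ZMod N) 2, by
    show (m : ℤ) • (2 : ZMod N) = 0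
    rw [zsmul_eq_mul]
    have := ZMod.natCast_self N
    rw [h] at this
    push_cast at this ⊢
    rw [mul_comm]; subst h; exact this⟩

theorem dbl_natCast (h : N = 2 * m) (k : ℕ) : dbl h (k : ZMod m) = 2 * (k : ZMod N) := by
  unfold dbl
  have h1 : ((k : ℕ) : ZMod m) = ((k : ℤ) : ZMod m) := by push_cast; rfl
  rw [h1, ZMod.lift_coe]
  show ((k : ℕ) : ℤ) • (2 : ZMod N) = _
  rw [zsmul_eq_mul, mul_comm]; push_cast; rfl

theorem dbl_eq [NeZero m] (h : N = 2 * m) (i : ZMod m) : dbl h i = 2 * ((i.val : ℕ) : ZMod N) := by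
  conv_lhs => rw [← ZMod.natCast_zmod_val i]
  exact dbl_natCast h _

theorem dbl_injective [NeZero m] (h : N = 2 * m) : Function.Injective (dbl h) := by
  rw [injective_iff_map_eq_zero]
  intro i hi
  rw [dbl_eq] at hi
  have h2 : ((2 * i.val : ℕ) : ZMod N) = 0 := by push_cast; exact hi
  rw [ZMod.natCast_eq_zero_iff] at h2
  have hlt := ZMod.val_lt i
  obtain ⟨c, hc⟩ := h2
  have : i.val = m * c := by
    rw [h] at hc
    have : 2 * i.val = 2 * (m * c) := by rw [hc]; ring
    omega
  have hc0 : c = 0 := by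
    by_contra hne
    have : 1 ≤ c := Nat.one_le_iff_ne_zero.mpr hne
    have : m * 1 ≤ m * c := Nat.mul_le_mul_left m this
    omega
  rw [hc0, mul_zero] at this
  exact (ZMod.val_eq_zero i).mp this

theorem dbl_one [NeZero m] (h : N = 2 * m) : dbl h 1 = 2 := by
  have := dbl_natCast h 1
  simpa using this

end dbl


namespace QD

open Dk

variable {K : ℕ} [NeZero K]

theorem eq8 : 8 * K = 2 * (4 * K) := by ring
theorem eq8' : 8 * K = 2 * (2 * (2 * K)) := by ring

theorem par_dbl {m : ℕ} (h : 8 * K = 2 * m) [NeZero m] (i : ZMod m) : par K (dbl h i) = 0 := by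
  rw [dbl_eq]; exact par_two_mul K _

theorem kap_mul_dbl {m : ℕ} (h : 8 * K = 2 * m) [NeZero m] (i : ZMod m) :
    kap K * dbl h i = - dbl h i := by
  rw [dbl_eq]; exact kap_mul_two K _

/-- the embedding of the dihedral group -/
def dihHom (K : ℕ) [NeZero K] : DihedralGroup (4 * K) →* QD K where
  toFun
    | .r i => r (dbl eq8 i)
    | .sr i => s (-(dbl eq8 i))
  map_one' := by
    show r (dbl eq8 0) = 1
    rw [map_zero]; rfl
  map_mul' := by
    rintro (i | i) (j | j)
    · rw [DihedralGroup.r_mul_r]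
      show r (dbl eq8 (i + j)) = r (dbl eq8 i) * r (dbl eq8 j)
      rw [map_add, r_mul_r]
    · rw [DihedralGroup.r_mul_sr]
      show s (-(dbl eq8 (j - i))) = r (dbl eq8 i) * s (-(dbl eq8 j))
      rw [map_sub, r_mul_s]; congr 1; ring
    · rw [DihedralGroup.sr_mul_r]
      show s (-(dbl eq8 (i + j))) = s (-(dbl eq8 i)) * r (dbl eq8 j)
      rw [map_add, s_mul_r, kap_mul_dbl]; congr 1; ring
    · rw [DihedralGroup.sr_mul_sr]
      show r (dbl eq8 (j - i)) = s (-(dbl eq8 i)) * s (-(dbl eq8 j))
      rw [map_sub, s_mul_s, mul_neg, kap_mul_dbl]; congr 1; ring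

theorem dihHom_injective : Function.Injective (dihHom K) := by
  rw [injective_iff_map_eq_one]
  rintro (i | i) h
  · have h' : (r (dbl eq8 i) : QD K) = r 0 := h
    have h2 : dbl (eq8 (K := K)) i = 0 := by injection h'
    have : i = 0 := by
      have := dbl_injective (eq8 (K := K)) (a₁ := i) (a₂ := 0) (by rw [h2, map_zero])
      exact this
    rw [this]; rfl
  · exfalso
    have h' : (s (-(dbl eq8 i)) : QD K) = r 0 := h
    injection h'

theorem dihHom_range_le : (dihHom K).range ≤ dihSub K := by
  rintro _ ⟨g, rfl⟩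
  rcases g with i | i
  · show r (dbl eq8 i) ∈ dihSub K
    rw [r_mem_dihSub, par_dbl]
  · show s (-(dbl eq8 i)) ∈ dihSub K
    rw [s_mem_dihSub, map_neg, par_dbl, neg_zero]

theorem card_dihSub : Nat.card (dihSub K) = 8 * K := by
  have := (dihSub K).card_mul_index
  rw [dihSub_index, card_eq] at this
  omega

theorem card_quaSub : Nat.card (quaSub K) = 8 * K := by
  have := (quaSub K).card_mul_index
  rw [quaSub_index, card_eq] at this
  omega

theorem dihHom_range : (dihHom K).range = dihSub K := by
  apply Subgroup.eq_of_le_of_card_ge dihHom_range_le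
  rw [card_dihSub, Nat.card_congr (MonoidHom.ofInjective dihHom_injective).toEquiv.symm,
    DihedralGroup.nat_card]
  omega

/-- the dihedral maximal subgroup is dihedral -/
noncomputable def dihSubEquiv (K : ℕ) [NeZero K] : dihSub K ≃* DihedralGroup (4 * K) :=
  ((MonoidHom.ofInjective dihHom_injective).trans (MulEquiv.subgroupCongr dihHom_range)).symm

/-- the embedding of the generalized quaternion group -/
def quaHom (K : ℕ) [NeZero K] : QuaternionGroup (2 * K) →* QD K where
  toFun
    | .a i => r (dbl eq8' i)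
    | .xa i => s (1 - dbl eq8' i)
  map_one' := by
    show r (dbl eq8' 0) = 1
    rw [map_zero]; rfl
  map_mul' := by
    have hn : dbl (eq8' (K := K)) ((2 * K : ℕ) : ZMod (2 * (2 * K))) = hh K := by
      rw [dbl_natCast, hh_eq]; push_cast; ring
    rintro (i | i) (j | j)
    · rw [QuaternionGroup.a_mul_a]
      show r (dbl eq8' (i + j)) = r (dbl eq8' i) * r (dbl eq8' j)
      rw [map_add, r_mul_r]
    · rw [QuaternionGroup.a_mul_xa]
      show s (1 - dbl eq8' (j - i)) = r (dbl eq8' i) * s (1 - dbl eq8' j)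
      rw [map_sub, r_mul_s]; congr 1; ring
    · rw [QuaternionGroup.xa_mul_a]
      show s (1 - dbl eq8' (i + j)) = s (1 - dbl eq8' i) * r (dbl eq8' j)
      rw [map_add, s_mul_r, kap_mul_dbl]; congr 1; ring
    · rw [QuaternionGroup.xa_mul_xa]
      show r (dbl eq8' (((2 * K : ℕ) : ZMod (2 * (2 * K))) + j - i)) = s (1 - dbl eq8' i) * s (1 - dbl eq8' j)
      rw [map_sub, map_add, hn, s_mul_s, mul_sub, mul_one, kap_mul_dbl, ← one_add_kap]; congr 1; ring

theorem quaHom_injective : Function.Injective (quaHom K) := by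
  rw [injective_iff_map_eq_one]
  rintro (i | i) h
  · have h' : (r (dbl eq8' i) : QD K) = r 0 := h
    have h2 : dbl (eq8' (K := K)) i = 0 := by injection h'
    have : i = 0 := by
      have := dbl_injective (eq8' (K := K)) (a₁ := i) (a₂ := 0) (by rw [h2, map_zero])
      exact this
    rw [this]; rfl
  · exfalso
    have h' : (s (1 - dbl eq8' i) : QD K) = r 0 := h
    injection h'

theorem quaHom_range_le : (quaHom K).range ≤ quaSub K := by
  rintro _ ⟨g, rfl⟩
  rcases g with i | i
  · show r (dbl eq8' i) ∈ quaSub K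
    rw [r_mem_quaSub, par_dbl]
  · show s (1 - dbl eq8' i) ∈ quaSub K
    rw [s_mem_quaSub, map_sub, par_dbl, par_one, sub_zero]

theorem quaHom_range : (quaHom K).range = quaSub K := by
  apply Subgroup.eq_of_le_of_card_ge quaHom_range_le
  rw [card_quaSub, Nat.card_congr (MonoidHom.ofInjective quaHom_injective).toEquiv.symm,
    Nat.card_eq_fintype_card, QuaternionGroup.card]
  omega

/-- the quaternion maximal subgroup is generalized quaternion -/
noncomputable def quaSubEquiv (K : ℕ) [NeZero K] : quaSub K ≃* QuaternionGroup (2 * K) :=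
  ((MonoidHom.ofInjective quaHom_injective).trans (MulEquiv.subgroupCongr quaHom_range)).symm

end QD



namespace QD

open Dk
open scoped commutatorElement

variable {K : ℕ} [NeZero K]

theorem r_mem_rot (i : ZMod (8 * K)) : (r i : QD K) ∈ rotSub (8 * K) (kap K) := r_mem_rotSub i

theorem commutator_le : commutator (QD K) ≤ phiSub K := by
  intro g hg
  have h1 : g ∈ rotSub (8 * K) (kap K) := Abelianization.commutator_subset_ker sgnHom hg
  have h2 : g ∈ dihSub K := Abelianization.commutator_subset_ker (parHom K) hg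
  rcases g with i | i
  · rw [r_mem_dihSub] at h2
    exact (r_mem_phiSub i).mpr h2
  · exact absurd h1 (s_not_mem_rotSub i)

theorem r_two_mem_commutator : (r 2 : QD K) ∈ commutator (QD K) := by
  have h : ⁅(r (uu K) : QD K), (s 0 : QD K)⁆ = r 2 := by
    rw [commutatorElement_def, inv_r, inv_s, r_mul_s, s_mul_r, s_mul_s]
    congr 1
    linear_combination one_sub_kap_mul_uu K
  rw [← h, commutator_def]
  exact Subgroup.commutator_mem_commutator (Subgroup.mem_top _) (Subgroup.mem_top _)

theorem commutator_eq : commutator (QD K) = phiSub K := by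
  apply le_antisymm commutator_le
  unfold phiSub
  rw [Subgroup.zpowers_le]
  exact r_two_mem_commutator

theorem isPGroup (hK : ∃ k, K = 2 ^ k) : IsPGroup 2 (QD K) := by
  obtain ⟨k, hk⟩ := hK
  apply IsPGroup.of_card (n := k + 4)
  rw [card_eq, hk]; ring

theorem coatom_index (hK : ∃ k, K = 2 ^ k) (M : Subgroup (QD K)) (hM : IsCoatom M) : M.index = 2 :=
  (coatom_index_of_isPGroup (isPGroup hK) M hM).2

theorem frattini_eq (hK : ∃ k, K = 2 ^ k) : frattini (QD K) = phiSub K := by
  apply le_antisymm
  · intro g hg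
    have h1 : g ∈ rotSub (8 * K) (kap K) :=
      frattini_le_coatom (isCoatom_of_index_two _ rotSub_index) hg
    have h2 : g ∈ dihSub K := frattini_le_coatom (isCoatom_of_index_two _ dihSub_index) hg
    rcases g with i | i
    · rw [r_mem_dihSub] at h2
      exact (r_mem_phiSub i).mpr h2
    · exact absurd h1 (s_not_mem_rotSub i)
  · unfold frattini Order.radical
    refine le_iInf₂ (fun M hM => ?_)
    exact phiSub_le_of_index_two M (coatom_index hK M hM)

theorem coatom_classify (hK : ∃ k, K = 2 ^ k) (M : Subgroup (QD K)) (hM : IsCoatom M) :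
    M = rotSub _ _ ∨ M = dihSub K ∨ M = quaSub K :=
  index_two_classify M (coatom_index hK M hM)

theorem r_hh_ne_one : (r (hh K) : QD K) ≠ 1 := by
  intro h
  have h' : (r (hh K) : QD K) = r 0 := h
  injection h' with h2
  exact hh_ne_zero K h2

theorem orderOf_r_hh : orderOf (r (hh K) : QD K) = 2 := by
  apply orderOf_eq_prime
  · rw [pow_two, r_mul_r, hh_add_hh]; rfl
  · exact r_hh_ne_one

theorem r_hh_central (g : QD K) : g * r (hh K) = r (hh K) * g := by
  rcases g with j | j
  · rw [r_mul_r, r_mul_r, add_comm]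
  · rw [s_mul_r, r_mul_s, kap_mul_hh, add_comm]

theorem mem_center_iff (g : QD K) : g ∈ Subgroup.center (QD K) ↔ g = 1 ∨ g = r (hh K) := by
  rw [Subgroup.mem_center_iff]
  constructor
  · intro h
    rcases g with i | i
    · have h1 := h (s 0)
      rw [s_mul_r, r_mul_s, zero_add, add_zero] at h1
      injection h1 with h2
      have h3 : (1 - kap K) * i = 0 := by linear_combination -h2
      rw [one_sub_kap_mul_eq_zero_iff, two_mul_eq_zero_iff] at h3
      rcases h3 with rfl | rfl
      · left; rfl
      · right; rfl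
    · exfalso
      have h1 := h (r 1)
      rw [r_mul_s, s_mul_r, mul_one] at h1
      injection h1 with h2
      apply kap_ne_one K
      linear_combination -h2
  · rintro (rfl | rfl)
    · intro h; rw [mul_one, one_mul]
    · intro h; exact r_hh_central h

theorem center_eq : Subgroup.center (QD K) = Subgroup.zpowers (r (hh K)) := by
  ext g
  rw [mem_center_iff]
  constructor
  · rintro (rfl | rfl)
    · exact Subgroup.one_mem _
    · exact Subgroup.mem_zpowers _
  · intro hg
    rw [Subgroup.mem_zpowers_iff] at hg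
    obtain ⟨k, rfl⟩ := hg
    rcases Int.emod_two_eq_zero_or_one k with h | h
    · left
      have : k = 2 * (k / 2) := by omega
      rw [this, zpow_mul, zpow_ofNat, pow_two, r_mul_r, hh_add_hh]
      exact one_zpow _
    · right
      have : k = 2 * (k / 2) + 1 := by omega
      rw [this, zpow_add, zpow_mul, zpow_ofNat, pow_two, r_mul_r, hh_add_hh, zpow_one]
      show (1 : QD K) ^ (k / 2) * _ = _
      rw [one_zpow, one_mul]

theorem card_center : Nat.card (Subgroup.center (QD K)) = 2 := by
  rw [center_eq, Nat.card_zpowers, orderOf_r_hh]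

theorem orderOf_s_even (i : ZMod (8 * K)) (hi : par K i = 0) : orderOf (s i : QD K) = 2 := by
  apply orderOf_eq_prime
  · rw [pow_two, s_mul_s]
    have : i + kap K * i = 0 := by
      have := hh_mul_of_par_zero K i hi
      rw [← one_add_kap] at this
      linear_combination this
    rw [this]; rfl
  · intro h
    have h' : (s i : QD K) = r 0 := h
    injection h'

theorem involution_classify (t : QD K) (ht : orderOf t = 2) :
    t = r (hh K) ∨ ∃ i, par K i = 0 ∧ t = s i := by
  have h1 : t ^ 2 = 1 := by rw [← ht]; exact pow_orderOf_eq_one t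
  have h2 : t ≠ 1 := by
    intro h; rw [h, orderOf_one] at ht; omega
  rcases t with i | i
  · left
    rw [pow_two, r_mul_r] at h1
    have h1' : (r (i + i) : QD K) = r 0 := h1
    injection h1' with h3
    have h4 : 2 * i = 0 := by rw [two_mul]; exact h3
    rw [two_mul_eq_zero_iff] at h4
    rcases h4 with rfl | rfl
    · exact absurd rfl h2
    · rfl
  · right
    refine ⟨i, ?_, rfl⟩
    rw [pow_two, s_mul_s] at h1
    have h1' : (r (i + kap K * i) : QD K) = r 0 := h1
    injection h1' with h3
    have h4 : hh K * i = 0 := by rw [← one_add_kap]; linear_combination h3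
    rcases par_cases K i with h | h
    · exact h
    · exfalso
      rw [hh_mul_of_par_one K i h] at h4
      exact hh_ne_zero K h4

theorem closure_involutions : Subgroup.closure {t : QD K | orderOf t = 2} = dihSub K := by
  apply le_antisymm
  · rw [Subgroup.closure_le]
    intro t ht
    rcases involution_classify t ht with rfl | ⟨i, hi, rfl⟩
    · exact (r_mem_dihSub _).mpr (par_hh K)
    · exact (s_mem_dihSub _).mpr hi
  · rintro (i | i) hi
    · rw [r_mem_dihSub] at hi
      have : (r i : QD K) = s i * s 0 := by rw [s_mul_s, mul_zero, add_zero]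
      rw [this]
      apply Subgroup.mul_mem
      · exact Subgroup.subset_closure (orderOf_s_even i hi)
      · exact Subgroup.subset_closure (orderOf_s_even 0 (map_zero _))
    · rw [s_mem_dihSub] at hi
      exact Subgroup.subset_closure (orderOf_s_even i hi)

theorem phiSub_isCyclic : IsCyclic (phiSub K) := by
  unfold phiSub; infer_instance

theorem card_phiSub : Nat.card (phiSub K) = 4 * K := by
  -- `phiSub` has index two in `rotSub`?  Use: `phiSub = rotSub ⊓ dihSub` and count directly via order of `r 2`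
  unfold phiSub
  rw [Nat.card_zpowers]
  -- order of r 2 is 4K
  rw [orderOf_eq_iff (by have := NeZero.pos K; omega)]
  constructor
  · rw [r_pow]
    have : ((4 * K : ℕ) : ZMod (8 * K)) * 2 = 0 := by
      have := eightK K
      push_cast
      linear_combination this
    rw [this]; rfl
  · intro m hm hpos h
    rw [r_pow] at h
    have h' : (r ((m : ZMod (8 * K)) * 2) : QD K) = r 0 := h
    injection h' with h2
    have h3 : ((m * 2 : ℕ) : ZMod (8 * K)) = 0 := by push_cast; exact h2
    rw [ZMod.natCast_eq_zero_iff] at h3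
    have := Nat.le_of_dvd (by omega) h3
    omega

end QD

/-- every quasi-dihedral group is isomorphic to the model -/
theorem exists_mulEquiv {S : Type*} [Group S] [Finite S] (hS : Cfsg.IsQuasiDihedral S) :
    ∃ k : ℕ, Nat.card S = 2 ^ (k + 4) ∧ Nonempty (QD (2 ^ k) ≃* S) := by
  obtain ⟨n, hn3, hcard, x, y, hx, hy, hyx⟩ := hS
  obtain ⟨k, rfl⟩ : ∃ k, n = k + 3 := ⟨n - 3, by omega⟩
  refine ⟨k, by rw [hcard], ?_⟩
  have e1 : 2 ^ (k + 3) = 8 * 2 ^ k := by ring
  have e2 : 2 ^ (k + 3 - 1) - 1 = 4 * 2 ^ k - 1 := by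
    have : k + 3 - 1 = k + 2 := by omega
    rw [this]; congr 1; ring
  rw [e1] at hx
  rw [e2] at hyx
  let D : MData S (8 * 2 ^ k) (4 * 2 ^ k - 1) := ⟨x, y, hx, hy, hyx⟩
  have : Fact ((((4 * 2 ^ k - 1 : ℕ)) : ZMod (8 * 2 ^ k)) * ((4 * 2 ^ k - 1 : ℕ) : ZMod (8 * 2 ^ k)) = 1) :=
    ⟨kap_mul_kap (2 ^ k)⟩
  have hne : (((4 * 2 ^ k - 1 : ℕ)) : ZMod (8 * 2 ^ k)) ≠ 1 := kap_ne_one (2 ^ k)
  have hc : Nat.card S = 2 * (8 * 2 ^ k) := by rw [hcard]; ring
  exact ⟨D.mulEquiv hne hc⟩



/-! ### transfer along group isomorphisms -/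

section transfer

variable {G H : Type*} [Group G] [Group H] (e : G ≃* H)

theorem map_commutator_equiv : (commutator G).map e.toMonoidHom = commutator H := by
  rw [commutator_def, commutator_def, Subgroup.map_commutator, ← MonoidHom.range_eq_map,
    MonoidHom.range_eq_top.mpr e.surjective]

theorem map_frattini_equiv : (frattini G).map e.toMonoidHom = frattini H := by
  have := (MulEquiv.mapSubgroup e).map_radical
  exact this

theorem map_closure_orderOf (n : ℕ) :
    (Subgroup.closure {x : G | orderOf x = n}).map e.toMonoidHom =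
      Subgroup.closure {y : H | orderOf y = n} := by
  rw [MonoidHom.map_closure]
  congr 1
  ext y
  constructor
  · rintro ⟨x, hx, rfl⟩
    show orderOf (e x) = n
    rw [MulEquiv.orderOf_eq]; exact hx
  · intro hy
    refine ⟨e.symm y, ?_, by simp⟩
    show orderOf (e.symm y) = n
    rw [MulEquiv.orderOf_eq]; exact hy

theorem isCoatom_map_equiv (M : Subgroup G) : IsCoatom (M.map e.toMonoidHom) ↔ IsCoatom M :=
  (MulEquiv.mapSubgroup e).isCoatom_iff M

theorem isCyclic_map_equiv (M : Subgroup G) (h : IsCyclic M) : IsCyclic (M.map e.toMonoidHom) :=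
  (MulEquiv.isCyclic (e.subgroupMap M)).mp h

theorem map_comap_equiv (M' : Subgroup H) : (M'.comap e.toMonoidHom).map e.toMonoidHom = M' :=
  Subgroup.map_comap_eq_self_of_surjective e.surjective M'

theorem map_injective_equiv : Function.Injective (Subgroup.map e.toMonoidHom) :=
  Subgroup.map_injective e.injective

end transfer



namespace QD

open Dk

variable {K : ℕ} [NeZero K]

theorem par_eq_val (i : ZMod (8 * K)) : par K i = ((i.val : ℕ) : ZMod 2) := by
  conv_lhs => rw [← ZMod.natCast_zmod_val i]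
  exact par_natCast K _

theorem exists_mul_eq_one_of_par_one (hK : ∃ k, K = 2 ^ k) (i : ZMod (8 * K)) (hi : par K i = 1) :
    ∃ j, j * i = 1 := by
  obtain ⟨k, hk⟩ := hK
  have hodd : Odd i.val := by
    rw [par_eq_val] at hi
    rw [← Nat.not_even_iff_odd]
    intro he
    have : ((i.val : ℕ) : ZMod 2) = 0 := (ZMod.natCast_eq_zero_iff _ _).mpr he.two_dvd
    rw [this] at hi
    exact zero_ne_one hi
  have hcop' : Nat.Coprime i.val (2 ^ (k + 3)) :=
    Nat.Coprime.pow_right _ (Nat.coprime_two_right.mpr hodd)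
  have hcop : Nat.Coprime i.val (8 * K) := by
    have e : 2 ^ (k + 3) = 8 * K := by rw [hk]; ring
    generalize i.val = v at hcop' ⊢
    rw [← e]; exact hcop'
  have hu : IsUnit ((i.val : ℕ) : ZMod (8 * K)) := (ZMod.isUnit_iff_coprime _ _).mpr hcop
  rw [ZMod.natCast_zmod_val] at hu
  exact hu.exists_left_inv

theorem conj_r_s (i j : ZMod (8 * K)) : (r j : QD K) * s i * (r j)⁻¹ = s (i + (1 - kap K) * j) := by
  rw [inv_r, r_mul_s, s_mul_r]; congr 1; ring

theorem conj_s_s (i j : ZMod (8 * K)) :
    (s j : QD K) * s i * (s j)⁻¹ = s (kap K * i + (1 - kap K) * j) := by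
  rw [inv_s, s_mul_s, r_mul_s]; congr 1; ring

theorem conj_r_r (i j : ZMod (8 * K)) : (r j : QD K) * r i * (r j)⁻¹ = r i := by
  rw [inv_r, r_mul_r, r_mul_r]; congr 1; ring

theorem conj_s_r (i j : ZMod (8 * K)) : (s j : QD K) * r i * (s j)⁻¹ = r (kap K * i) := by
  rw [inv_s, s_mul_r, s_mul_s]; congr 1
  have := kk (κ := kap K) j
  linear_combination -this

/-- a normal subgroup containing some `s i` contains `phiSub` -/
theorem phiSub_le_of_normal_of_s_mem (N : Subgroup (QD K)) [hN : N.Normal] (i : ZMod (8 * K))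
    (hi : s i ∈ N) : phiSub K ≤ N := by
  unfold phiSub
  rw [Subgroup.zpowers_le]
  have h1 : (r (uu K) : QD K) * s i * (r (uu K))⁻¹ ∈ N := hN.conj_mem _ hi _
  rw [conj_r_s, one_sub_kap_mul_uu] at h1
  have h2 := N.mul_mem h1 (N.inv_mem hi)
  rw [inv_s, s_mul_s] at h2
  convert h2 using 2
  have := kk (κ := kap K) i
  linear_combination this

theorem index_of_le (M N : Subgroup (QD K)) (hM : M.index = 2) (hle : M ≤ N) (hN : N ≠ ⊤) :
    N.index = 2 := by
  have h1 := Subgroup.relIndex_mul_index hle
  rw [hM] at h1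
  have h2 : N.index ∣ 2 := Dvd.intro_left _ h1
  rcases (Nat.dvd_prime Nat.prime_two).mp h2 with h3 | h3
  · exact absurd (Subgroup.index_eq_one.mp h3) hN
  · exact h3

theorem normal_classify (hK : ∃ k, K = 2 ^ k) (N : Subgroup (QD K)) [hN : N.Normal] (hne : N ≠ ⊤) :
    N.index = 2 ∨ N ≤ phiSub K := by
  by_cases hle : N ≤ phiSub K
  · right; exact hle
  left
  rw [SetLike.not_le_iff_exists] at hle
  obtain ⟨g, hgN, hgphi⟩ := hle
  rcases g with i | i
  · -- `r i` with `i` odd
    rw [r_mem_phiSub] at hgphi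
    have hi : par K i = 1 := by
      rcases par_cases K i with h | h
      · exact absurd h hgphi
      · exact h
    obtain ⟨j, hj⟩ := exists_mul_eq_one_of_par_one hK i hi
    have h1 : (r 1 : QD K) ∈ N := by
      have := N.pow_mem hgN j.val
      rw [r_pow, ZMod.natCast_zmod_val, hj] at this
      exact this
    apply index_of_le _ N rotSub_index _ hne
    rw [rotSub_eq_zpowers, Subgroup.zpowers_le]
    exact h1
  · have hphi := phiSub_le_of_normal_of_s_mem N i hgN
    rcases par_cases K i with hi | hi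
    · apply index_of_le _ N dihSub_index _ hne
      rintro (j | j) hj
      · rw [r_mem_dihSub] at hj
        exact hphi ((r_mem_phiSub j).mpr hj)
      · rw [s_mem_dihSub] at hj
        have : (s j : QD K) = r (j - i) * s i := by rw [r_mul_s, sub_add_cancel]
        rw [this]
        refine N.mul_mem (hphi ((r_mem_phiSub _).mpr ?_)) hgN
        rw [map_sub, hi, hj, sub_self]
    · apply index_of_le _ N quaSub_index _ hne
      rintro (j | j) hj
      · rw [r_mem_quaSub] at hj
        exact hphi ((r_mem_phiSub j).mpr hj)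
      · rw [s_mem_quaSub] at hj
        have : (s j : QD K) = r (j - i) * s i := by rw [r_mul_s, sub_add_cancel]
        rw [this]
        refine N.mul_mem (hphi ((r_mem_phiSub _).mpr ?_)) hgN
        rw [map_sub, hi, hj, sub_self]

theorem isCyclic_of_le_phiSub (N : Subgroup (QD K)) (h : N ≤ phiSub K) : IsCyclic N := by
  have : IsCyclic (phiSub K) := phiSub_isCyclic
  have h2 : IsCyclic (N.subgroupOf (phiSub K)) := inferInstance
  exact (MulEquiv.isCyclic (Subgroup.subgroupOfEquivOfLe h)).mp h2

end QD



/-- counting conjugacy classes of elements with a property, given two representatives -/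
theorem card_classes_eq_two {G : Type*} [Group G] (P : G → Prop) (s₁ s₂ : G)
    (h₁ : P s₁) (h₂ : P s₂)
    (hclass : ∀ t, P t → IsConj t s₁ ∨ IsConj t s₂)
    (h12 : ¬ IsConj s₁ s₂) :
    Nat.card {C : ConjClasses G // ∃ t : G, P t ∧ ConjClasses.mk t = C} = 2 := by
  have hset : {C : ConjClasses G | ∃ t : G, P t ∧ ConjClasses.mk t = C} =
      {ConjClasses.mk s₁, ConjClasses.mk s₂} := by
    ext C
    simp only [Set.mem_ofPred_eq, Set.mem_insert_iff, Set.mem_singleton_iff]
    constructor
    · rintro ⟨t, ht, rfl⟩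
      rcases hclass t ht with h | h
      · left; exact ConjClasses.mk_eq_mk_iff_isConj.mpr h
      · right; exact ConjClasses.mk_eq_mk_iff_isConj.mpr h
    · rintro (rfl | rfl)
      · exact ⟨s₁, h₁, rfl⟩
      · exact ⟨s₂, h₂, rfl⟩
  show Nat.card ↥{C : ConjClasses G | ∃ t : G, P t ∧ ConjClasses.mk t = C} = 2
  rw [Nat.card_coe_set_eq, hset, Set.ncard_eq_two]
  refine ⟨_, _, ?_, rfl⟩
  intro h; exact h12 (ConjClasses.mk_eq_mk_iff_isConj.mp h)

namespace QD

open Dk

variable {K : ℕ} [NeZero K]

/-- the element `N/4` -/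
def qq (K : ℕ) : ZMod (8 * K) := ((2 * K : ℕ) : ZMod (8 * K))

theorem qq_eq : qq K = 2 * (K : ZMod (8 * K)) := by
  unfold qq; push_cast; rfl

theorem two_mul_qq : 2 * qq K = hh K := by
  rw [qq_eq, hh_eq]; ring

theorem hh_mul_qq : hh K * qq K = 0 := by
  rw [qq_eq, hh_eq]; linear_combination (K : ZMod (8 * K)) * eightK K

theorem kap_mul_qq : kap K * qq K = - qq K := by
  rw [kap_eq]; linear_combination hh_mul_qq (K := K)

theorem par_qq : par K (qq K) = 0 := by
  rw [qq_eq]; exact par_two_mul K _

theorem isConj_s_of_par_eq (i j : ZMod (8 * K)) (h : par K i = par K j) :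
    IsConj (s i : QD K) (s j) := by
  rw [isConj_iff]
  have h0 : par K (j - i) = 0 := by rw [map_sub, h, sub_self]
  obtain ⟨m, hm⟩ := exists_two_mul_of_par K _ h0
  refine ⟨r (uu K * m), ?_⟩
  rw [conj_r_s]
  congr 1
  have := one_sub_kap_mul_uu K
  linear_combination m * this - hm

theorem not_isConj_r_s (i j : ZMod (8 * K)) : ¬ IsConj (r i : QD K) (s j) := by
  rw [isConj_iff]
  rintro ⟨c, hc⟩
  rcases c with l | l
  · rw [conj_r_r] at hc; injection hc
  · rw [conj_s_r] at hc; injection hc

theorem isConj_r_kap (i : ZMod (8 * K)) : IsConj (r i : QD K) (r (kap K * i)) := by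
  rw [isConj_iff]
  exact ⟨s 0, conj_s_r i 0⟩

theorem r_qq_sq : (r (qq K) : QD K) ^ 2 = r (hh K) := by
  rw [pow_two, r_mul_r, ← two_mul, two_mul_qq]

theorem orderOf_r_qq : orderOf (r (qq K) : QD K) = 4 := by
  have := orderOf_eq_prime_pow (x := (r (qq K) : QD K)) (p := 2) (n := 1) ?_ ?_
  · simpa using this
  · rw [pow_one, r_qq_sq]; exact r_hh_ne_one
  · rw [show (2 : ℕ) ^ (1 + 1) = 2 * 2 by norm_num, pow_mul, r_qq_sq, pow_two, r_mul_r, hh_add_hh]
    rfl

theorem s_sq (i : ZMod (8 * K)) : (s i : QD K) ^ 2 = r (hh K * i) := by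
  rw [pow_two, s_mul_s, ← one_add_kap]; congr 1; ring

theorem orderOf_s_odd (i : ZMod (8 * K)) (hi : par K i = 1) : orderOf (s i : QD K) = 4 := by
  have := orderOf_eq_prime_pow (x := (s i : QD K)) (p := 2) (n := 1) ?_ ?_
  · simpa using this
  · rw [pow_one, s_sq, hh_mul_of_par_one K i hi]; exact r_hh_ne_one
  · rw [show (2 : ℕ) ^ (1 + 1) = 2 * 2 by norm_num, pow_mul, s_sq, hh_mul_of_par_one K i hi,
      pow_two, r_mul_r, hh_add_hh]
    rfl

theorem order_four_classify (t : QD K) (ht : orderOf t = 4) :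
    t = r (qq K) ∨ t = r (-qq K) ∨ ∃ i, par K i = 1 ∧ t = s i := by
  have h4 : t ^ 4 = 1 := by rw [← ht]; exact pow_orderOf_eq_one t
  have h2 : t ^ 2 ≠ 1 := by
    intro h
    have := orderOf_dvd_of_pow_eq_one h
    rw [ht] at this
    omega
  rcases t with i | i
  · rw [r_pow] at h4 h2
    have h4' : ((4 : ℕ) : ZMod (8 * K)) * i = 0 := by
      have : (r (((4 : ℕ) : ZMod (8 * K)) * i) : QD K) = r 0 := h4
      injection this
    have h2' : ((2 : ℕ) : ZMod (8 * K)) * i ≠ 0 := by
      intro h
      apply h2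
      rw [h]; rfl
    push_cast at h4' h2'
    have h5 : 2 * (2 * i) = 0 := by linear_combination h4'
    rw [two_mul_eq_zero_iff] at h5
    rcases h5 with h5 | h5
    · exact absurd h5 h2'
    · have h6 : 2 * (i - qq K) = 0 := by
        have := two_mul_qq (K := K)
        linear_combination h5 - this
      rw [two_mul_eq_zero_iff] at h6
      rcases h6 with h6 | h6
      · left; rw [sub_eq_zero.mp h6]
      · right; left
        congr 1
        have := two_mul_qq (K := K)
        have h7 := hh_add_hh K
        linear_combination h6 + this + h7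
  · right; right
    refine ⟨i, ?_, rfl⟩
    rcases par_cases K i with h | h
    · exfalso
      apply h2
      rw [s_sq, hh_mul_of_par_zero K i h]; rfl
    · exact h

end QD



namespace QD

open Dk

variable {K : ℕ} [NeZero K]

/-- the subgroup `{x^m : c m = 0} ∪ {x^m y : c (m - i) = 0}` -/
def gsub (c : ZMod (8 * K)) (hc : c * hh K = 0) (i : ZMod (8 * K)) : Subgroup (QD K) where
  carrier := {g | match g with
    | r m => c * m = 0
    | s m => c * (m - i) = 0}
  one_mem' := by
    show c * 0 = 0
    rw [mul_zero]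
  mul_mem' := by
    rintro (m | m) (m' | m') h h'
    · show c * (m + m') = 0
      have h1 : c * m = 0 := h
      have h2 : c * m' = 0 := h'
      linear_combination h1 + h2
    · show c * (m + m' - i) = 0
      have h1 : c * m = 0 := h
      have h2 : c * (m' - i) = 0 := h'
      linear_combination h1 + h2
    · show c * (m + kap K * m' - i) = 0
      have h1 : c * (m - i) = 0 := h
      have h2 : c * m' = 0 := h'
      linear_combination h1 + kap K * h2
    · show c * (m + kap K * m') = 0
      have h1 : c * (m - i) = 0 := h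
      have h2 : c * (m' - i) = 0 := h'
      have h3 := one_add_kap K
      linear_combination h1 + kap K * h2 + i * hc + c * i * h3
  inv_mem' := by
    rintro (m | m) h
    · show c * (-m) = 0
      have h1 : c * m = 0 := h
      linear_combination -h1
    · show c * (-(kap K * m) - i) = 0
      have h1 : c * (m - i) = 0 := h
      have h3 := one_add_kap K
      linear_combination (-kap K) * h1 - i * hc - c * i * h3

theorem r_mem_gsub (c : ZMod (8 * K)) (hc : c * hh K = 0) (i m : ZMod (8 * K)) :
    r m ∈ gsub c hc i ↔ c * m = 0 := Iff.rfl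

theorem s_mem_gsub (c : ZMod (8 * K)) (hc : c * hh K = 0) (i m : ZMod (8 * K)) :
    s m ∈ gsub c hc i ↔ c * (m - i) = 0 := Iff.rfl

theorem s_self_mem_gsub (c : ZMod (8 * K)) (hc : c * hh K = 0) (i : ZMod (8 * K)) :
    s i ∈ gsub c hc i := by
  rw [s_mem_gsub, sub_self, mul_zero]

/-- conjugating `gsub c i` by a rotation -/
theorem gsub_map_conj (c : ZMod (8 * K)) (hc : c * hh K = 0) (i t : ZMod (8 * K)) :
    (gsub c hc i).map (MulAut.conj (r (uu K * t) : QD K)).toMonoidHom = gsub c hc (i + 2 * t) := by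
  ext g
  have h := Subgroup.mem_map_equiv (f := MulAut.conj (r (uu K * t) : QD K)) (K := gsub c hc i) (x := g)
  show g ∈ (gsub c hc i).map (MulAut.conj (r (uu K * t) : QD K)).toMonoidHom ↔ _
  rw [h, MulAut.conj_symm_apply]
  have hu := one_sub_kap_mul_uu K
  rcases g with m | m
  · rw [inv_r, r_mul_r, r_mul_r, r_mem_gsub, r_mem_gsub]
    have : -(uu K * t) + m + uu K * t = m := by ring
    rw [this]
  · rw [inv_r, r_mul_s, s_mul_r, s_mem_gsub, s_mem_gsub]
    have : -(uu K * t) + m + kap K * (uu K * t) - i = m - (i + 2 * t) := by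
      linear_combination (-t) * hu
    rw [this]

/-- the rotation part has index two -/
theorem rot_relIndex_gsub (c : ZMod (8 * K)) (hc : c * hh K = 0) (i : ZMod (8 * K)) :
    (rotSub (8 * K) (kap K)).relIndex (gsub c hc i) = 2 := by
  rw [Subgroup.relIndex_eq_two_iff]
  refine ⟨s i, s_self_mem_gsub c hc i, ?_⟩
  rintro (m | m) _
  · rw [r_mul_s]
    exact Or.inr ⟨r_mem_rotSub m, s_not_mem_rotSub _⟩
  · rw [s_mul_s]
    exact Or.inl ⟨r_mem_rotSub _, s_not_mem_rotSub _⟩

theorem card_gsub (c : ZMod (8 * K)) (hc : c * hh K = 0) (i : ZMod (8 * K)) :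
    Nat.card (gsub c hc i) =
      Nat.card (rotSub (8 * K) (kap K) ⊓ gsub c hc i : Subgroup (QD K)) * 2 := by
  have h1 := Subgroup.relIndex_mul_relIndex (⊥ : Subgroup (QD K))
    (rotSub (8 * K) (kap K) ⊓ gsub c hc i) (gsub c hc i) bot_le inf_le_right
  rw [Subgroup.relIndex_bot_left, Subgroup.relIndex_bot_left, Subgroup.inf_relIndex_right,
    rot_relIndex_gsub] at h1
  exact h1.symm

theorem four_mul_eq_zero_iff (m : ZMod (8 * K)) :
    4 * m = 0 ↔ m = 0 ∨ m = hh K ∨ m = qq K ∨ m = - qq K := by
  constructor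
  · intro h4
    have h5 : 2 * (2 * m) = 0 := by linear_combination h4
    rw [two_mul_eq_zero_iff] at h5
    rcases h5 with h5 | h5
    · rw [two_mul_eq_zero_iff] at h5
      rcases h5 with h5 | h5
      · left; exact h5
      · right; left; exact h5
    · have h6 : 2 * (m - qq K) = 0 := by
        have := two_mul_qq (K := K)
        linear_combination h5 - this
      rw [two_mul_eq_zero_iff] at h6
      rcases h6 with h6 | h6
      · right; right; left; exact sub_eq_zero.mp h6
      · right; right; right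
        have := two_mul_qq (K := K)
        have h7 := hh_add_hh K
        linear_combination h6 + this + h7
  · have h1 := two_mul_qq (K := K)
    have h2 := hh_add_hh K
    rintro (rfl | rfl | rfl | rfl)
    · ring
    · linear_combination 2 * h2
    · linear_combination 2 * h1 + h2
    · linear_combination (-2) * h1 - h2

theorem two_mul_hh : 2 * hh K = 0 := by rw [two_mul]; exact hh_add_hh K

theorem four_mul_hh : 4 * hh K = 0 := by linear_combination 2 * hh_add_hh K

theorem rot_inf_gsub_two (i : ZMod (8 * K)) :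
    rotSub (8 * K) (kap K) ⊓ gsub 2 two_mul_hh i = Subgroup.zpowers (r (hh K) : QD K) := by
  apply le_antisymm
  · rintro (m | m) ⟨h1, h2⟩
    · have h2' : r m ∈ gsub 2 two_mul_hh i := h2
      rw [r_mem_gsub, two_mul_eq_zero_iff] at h2'
      rcases h2' with rfl | rfl
      · exact Subgroup.one_mem _
      · exact Subgroup.mem_zpowers _
    · exact absurd h1 (s_not_mem_rotSub m)
  · rw [Subgroup.zpowers_le]
    exact ⟨r_mem_rotSub _, (r_mem_gsub _ _ _ _).mpr two_mul_hh⟩

theorem card_gsub_two (i : ZMod (8 * K)) : Nat.card (gsub 2 two_mul_hh i) = 4 := by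
  rw [card_gsub, rot_inf_gsub_two, Nat.card_zpowers, orderOf_r_hh]

theorem rot_inf_gsub_four (i : ZMod (8 * K)) :
    rotSub (8 * K) (kap K) ⊓ gsub 4 four_mul_hh i = Subgroup.zpowers (r (qq K) : QD K) := by
  apply le_antisymm
  · rintro (m | m) ⟨h1, h2⟩
    · have h2' : r m ∈ gsub 4 four_mul_hh i := h2
      rw [r_mem_gsub, four_mul_eq_zero_iff] at h2'
      rcases h2' with rfl | rfl | rfl | rfl
      · exact Subgroup.one_mem _
      · rw [← r_qq_sq]; exact Subgroup.pow_mem _ (Subgroup.mem_zpowers _) 2
      · exact Subgroup.mem_zpowers _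
      · have : (r (-qq K) : QD K) = (r (qq K))⁻¹ := rfl
        rw [this]; exact Subgroup.inv_mem _ (Subgroup.mem_zpowers _)
    · exact absurd h1 (s_not_mem_rotSub m)
  · rw [Subgroup.zpowers_le]
    refine ⟨r_mem_rotSub _, (r_mem_gsub _ _ _ _).mpr ?_⟩
    rw [four_mul_eq_zero_iff]; right; right; left; rfl

theorem card_gsub_four (i : ZMod (8 * K)) : Nat.card (gsub 4 four_mul_hh i) = 8 := by
  rw [card_gsub, rot_inf_gsub_four, Nat.card_zpowers, orderOf_r_qq]

end QD



namespace QD

open Dk

variable {K : ℕ} [NeZero K]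

theorem r_comm_s_iff (m i : ZMod (8 * K)) :
    (r m : QD K) * s i = s i * r m ↔ 2 * m = 0 := by
  rw [r_mul_s, s_mul_r, ← one_sub_kap_mul_eq_zero_iff]
  constructor
  · intro h
    injection h with h
    linear_combination h
  · intro h
    congr 1
    linear_combination h

theorem s_comm_s_iff (m i : ZMod (8 * K)) :
    (s m : QD K) * s i = s i * s m ↔ 2 * (m - i) = 0 := by
  rw [s_mul_s, s_mul_s, ← one_sub_kap_mul_eq_zero_iff]
  constructor
  · intro h
    injection h with h
    linear_combination h
  · intro h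
    congr 1
    linear_combination h

theorem r_sq_eq_one_iff (m : ZMod (8 * K)) : (r m : QD K) * r m = 1 ↔ 2 * m = 0 := by
  rw [r_mul_r, ← two_mul]
  constructor
  · intro h
    have h' : (r (2 * m) : QD K) = r 0 := h
    injection h'
  · intro h
    rw [h]; rfl

theorem s_sq_eq_one_iff (m : ZMod (8 * K)) : (s m : QD K) * s m = 1 ↔ par K m = 0 := by
  rw [← pow_two, s_sq]
  constructor
  · intro h
    have h' : (r (hh K * m) : QD K) = r 0 := h
    injection h' with h2
    rcases par_cases K m with h3 | h3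
    · exact h3
    · rw [hh_mul_of_par_one K m h3] at h2
      exact absurd h2 (hh_ne_zero K)
  · intro h
    rw [hh_mul_of_par_zero K m h]; rfl

/-- classification of the four-subgroups -/
theorem klein_classify (T : Subgroup (QD K)) (hT : IsKleinFour T) :
    ∃ i, par K i = 0 ∧ T = gsub 2 two_mul_hh i := by
  have hsq : ∀ g ∈ T, g * g = 1 := by
    intro g hg
    have := IsKleinFour.mul_self (⟨g, hg⟩ : T)
    exact congrArg Subtype.val this
  have hcomm : ∀ g ∈ T, ∀ h ∈ T, g * h = h * g := by
    intro g hg h hh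
    have := (IsKleinFour.isMulCommutative (G := T)).is_comm.comm ⟨g, hg⟩ ⟨h, hh⟩
    exact congrArg Subtype.val this
  have hcardT : Nat.card T = 4 := hT.card_four
  have : Finite T := Nat.finite_of_card_ne_zero (by omega)
  have hs : ∃ i, s i ∈ T := by
    by_contra hcon
    push Not at hcon
    have hsub : (T : Set (QD K)) ⊆ {1, r (hh K)} := by
      rintro (m | m) hu
      · have := (r_sq_eq_one_iff m).mp (hsq _ hu)
        rw [two_mul_eq_zero_iff] at this
        rcases this with rfl | rfl
        · left; rfl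
        · right; rfl
      · exact absurd hu (hcon m)
    have h2 : Nat.card T ≤ 2 := by
      have : Nat.card (T : Set (QD K)) ≤ Nat.card ({1, r (hh K)} : Set (QD K)) :=
        Nat.card_mono (Set.toFinite _) hsub
      refine this.trans ?_
      rw [Nat.card_coe_set_eq]
      exact (Set.ncard_insert_le _ _).trans (by simp)
    omega
  obtain ⟨i, hi⟩ := hs
  refine ⟨i, (s_sq_eq_one_iff i).mp (hsq _ hi), ?_⟩
  have hle : T ≤ gsub 2 two_mul_hh i := by
    rintro (m | m) hm
    · rw [r_mem_gsub]
      exact (r_sq_eq_one_iff m).mp (hsq _ hm)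
    · rw [s_mem_gsub]
      exact (s_comm_s_iff m i).mp (hcomm _ hm _ hi)
  have : Finite (gsub 2 two_mul_hh i) :=
    Nat.finite_of_card_ne_zero (by rw [card_gsub_two]; omega)
  exact Subgroup.eq_of_le_of_card_ge hle (by rw [hcardT, card_gsub_two])

theorem exists_conj_gsub (c : ZMod (8 * K)) (hc : c * hh K = 0) (i j : ZMod (8 * K))
    (hij : par K i = par K j) :
    ∃ g : QD K, (gsub c hc i).map (MulAut.conj g).toMonoidHom = gsub c hc j := by
  have h0 : par K (j - i) = 0 := by rw [map_sub, hij, sub_self]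
  obtain ⟨t, ht⟩ := exists_two_mul_of_par K _ h0
  refine ⟨r (uu K * t), ?_⟩
  rw [gsub_map_conj, ← ht]
  congr 1
  ring

/-- the centralizer of a four-subgroup -/
theorem centralizer_gsub_two (i : ZMod (8 * K)) :
    Subgroup.centralizer (gsub 2 two_mul_hh i : Set (QD K)) = gsub 2 two_mul_hh i := by
  apply le_antisymm
  · intro g hg
    rw [Subgroup.mem_centralizer_iff] at hg
    have h1 := hg (s i) (s_self_mem_gsub _ _ i)
    rcases g with m | m
    · rw [r_mem_gsub]
      exact (r_comm_s_iff m i).mp h1.symm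
    · rw [s_mem_gsub]
      exact (s_comm_s_iff m i).mp h1.symm
  · intro g hg
    rw [Subgroup.mem_centralizer_iff]
    intro h hh'
    have hh'' : h ∈ gsub 2 two_mul_hh i := hh'
    rcases g with m | m <;> rcases h with l | l
    · rw [r_mul_r, r_mul_r, add_comm]
    · rw [r_mem_gsub] at hg
      exact ((r_comm_s_iff m l).mpr hg).symm
    · rw [r_mem_gsub] at hh''
      exact (r_comm_s_iff l m).mpr hh''
    · rw [s_mem_gsub] at hg hh''
      apply (s_comm_s_iff l m).mpr
      linear_combination hh'' - hg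

end QD



namespace QD

open Dk

variable {K : ℕ} [NeZero K]

theorem xor_of_two_mul (y : ZMod (8 * K)) (h : 2 * y = 0) : Xor (y = hh K) (y = 0) := by
  rw [two_mul_eq_zero_iff] at h
  rcases h with rfl | rfl
  · exact Or.inr ⟨rfl, fun h => hh_ne_zero K h.symm⟩
  · exact Or.inl ⟨rfl, hh_ne_zero K⟩

theorem one_sub_kap_mul_qq : (1 - kap K) * qq K = hh K := by
  have h1 := kap_mul_qq (K := K)
  have h2 := two_mul_qq (K := K)
  linear_combination -h1 + h2

theorem one_sub_kap_mul_hh : (1 - kap K) * hh K = 0 := by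
  have h1 := kap_mul_hh K
  linear_combination -h1

theorem mem_gsub_two_iff_r (i m : ZMod (8 * K)) :
    r m ∈ gsub 2 two_mul_hh i ↔ (1 - kap K) * m = 0 := by
  rw [r_mem_gsub, one_sub_kap_mul_eq_zero_iff]

theorem mem_gsub_two_iff_s (i m : ZMod (8 * K)) :
    s m ∈ gsub 2 two_mul_hh i ↔ (1 - kap K) * (m - i) = 0 := by
  rw [s_mem_gsub, one_sub_kap_mul_eq_zero_iff]

theorem mem_gsub_four_iff_r (i m : ZMod (8 * K)) :
    r m ∈ gsub 4 four_mul_hh i ↔ 2 * ((1 - kap K) * m) = 0 := by
  rw [r_mem_gsub]
  have h := one_sub_kap_mul_eq_zero_iff K (2 * m)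
  constructor
  · intro h4
    have : 2 * (2 * m) = 0 := by linear_combination h4
    have := h.mpr this
    linear_combination this
  · intro h4
    have : (1 - kap K) * (2 * m) = 0 := by linear_combination h4
    have := h.mp this
    linear_combination this

theorem mem_gsub_four_iff_s (i m : ZMod (8 * K)) :
    s m ∈ gsub 4 four_mul_hh i ↔ 2 * ((1 - kap K) * (m - i)) = 0 := by
  rw [s_mem_gsub]
  have h := one_sub_kap_mul_eq_zero_iff K (2 * (m - i))
  constructor
  · intro h4
    have : 2 * (2 * (m - i)) = 0 := by linear_combination h4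
    have := h.mpr this
    linear_combination this
  · intro h4
    have : (1 - kap K) * (2 * (m - i)) = 0 := by linear_combination h4
    have := h.mp this
    linear_combination this

theorem finite_gsub (c : ZMod (8 * K)) (hc : c * hh K = 0) (i : ZMod (8 * K)) :
    Finite (gsub c hc i : Set (QD K)) := Set.toFinite _

theorem r_qq_mem_normalizer (i : ZMod (8 * K)) :
    (r (qq K) : QD K) ∈ Subgroup.normalizer (gsub 2 two_mul_hh i : Set (QD K)) := by
  have := finite_gsub 2 two_mul_hh i
  apply Subgroup.mem_normalizer_fintype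
  rintro (m | m) hm
  · rw [conj_r_r]; exact hm
  · rw [conj_r_s]
    have hm' : s m ∈ gsub 2 two_mul_hh i := hm
    show s _ ∈ gsub 2 two_mul_hh i
    rw [s_mem_gsub] at hm' ⊢
    have h1 := one_sub_kap_mul_qq (K := K)
    have h2 := two_mul_hh (K := K)
    linear_combination hm' + 2 * h1 + h2

theorem relIndex_normalizer_gsub_two (i : ZMod (8 * K)) :
    (gsub 2 two_mul_hh i).relIndex (Subgroup.normalizer (gsub 2 two_mul_hh i : Set (QD K))) = 2 := by
  rw [Subgroup.relIndex_eq_two_iff]
  refine ⟨r (qq K), r_qq_mem_normalizer i, ?_⟩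
  intro b hb
  have hconj : b * s i * b⁻¹ ∈ gsub 2 two_mul_hh i :=
    (Subgroup.mem_normalizer_iff.mp hb (s i)).mp (s_self_mem_gsub _ _ i)
  have hq := one_sub_kap_mul_qq (K := K)
  have hH := hh_add_hh K
  rcases b with m | m
  · rw [conj_r_s, s_mem_gsub] at hconj
    have hy : 2 * ((1 - kap K) * m) = 0 := by linear_combination hconj
    have hx := xor_of_two_mul _ hy
    rw [r_mul_r, mem_gsub_two_iff_r, mem_gsub_two_iff_r]
    have e1 : (1 - kap K) * (m + qq K) = 0 ↔ (1 - kap K) * m = hh K := by
      constructor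
      · intro h; linear_combination h - hq - hH
      · intro h; linear_combination h + hq + hH
    rw [e1]; exact hx
  · rw [conj_s_s, s_mem_gsub] at hconj
    have hy : 2 * ((1 - kap K) * (m - i)) = 0 := by linear_combination hconj
    have hx := xor_of_two_mul _ hy
    rw [s_mul_r, mem_gsub_two_iff_s, mem_gsub_two_iff_s]
    have hk := kap_mul_qq (K := K)
    have e1 : (1 - kap K) * (m + kap K * qq K - i) = 0 ↔ (1 - kap K) * (m - i) = hh K := by
      constructor
      · intro h; linear_combination h - (1 - kap K) * hk + hq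
      · intro h; linear_combination h + (1 - kap K) * hk - hq
    rw [e1]; exact hx

/-- the element `N/8` -/
def oo (K : ℕ) : ZMod (8 * K) := (K : ZMod (8 * K))

theorem two_mul_oo : 2 * oo K = qq K := by
  rw [qq_eq]; rfl

theorem r_oo_mem_normalizer (i : ZMod (8 * K)) :
    (r (oo K) : QD K) ∈ Subgroup.normalizer (gsub 4 four_mul_hh i : Set (QD K)) := by
  have := finite_gsub 4 four_mul_hh i
  apply Subgroup.mem_normalizer_fintype
  rintro (m | m) hm
  · rw [conj_r_r]; exact hm
  · rw [conj_r_s]
    have hm' : s m ∈ gsub 4 four_mul_hh i := hm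
    show s _ ∈ gsub 4 four_mul_hh i
    rw [s_mem_gsub] at hm' ⊢
    have h1 := one_sub_kap_mul_qq (K := K)
    have h2 := two_mul_hh (K := K)
    have h3 := two_mul_oo (K := K)
    linear_combination hm' + 2 * h1 + h2 + 2 * (1 - kap K) * h3

theorem relIndex_normalizer_gsub_four (i : ZMod (8 * K)) :
    (gsub 4 four_mul_hh i).relIndex (Subgroup.normalizer (gsub 4 four_mul_hh i : Set (QD K))) = 2 := by
  rw [Subgroup.relIndex_eq_two_iff]
  refine ⟨r (oo K), r_oo_mem_normalizer i, ?_⟩
  intro b hb
  have hconj : b * s i * b⁻¹ ∈ gsub 4 four_mul_hh i :=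
    (Subgroup.mem_normalizer_iff.mp hb (s i)).mp (s_self_mem_gsub _ _ i)
  have hq := one_sub_kap_mul_qq (K := K)
  have hH := hh_add_hh K
  have ho := two_mul_oo (K := K)
  rcases b with m | m
  · rw [conj_r_s, s_mem_gsub] at hconj
    have hy : 2 * (2 * ((1 - kap K) * m)) = 0 := by linear_combination hconj
    have hx := xor_of_two_mul _ hy
    rw [r_mul_r, mem_gsub_four_iff_r, mem_gsub_four_iff_r]
    have e1 : 2 * ((1 - kap K) * (m + oo K)) = 0 ↔ 2 * ((1 - kap K) * m) = hh K := by
      constructor
      · intro h; linear_combination h - hq - hH - (1 - kap K) * ho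
      · intro h; linear_combination h + hq + hH + (1 - kap K) * ho
    rw [e1]; exact hx
  · rw [conj_s_s, s_mem_gsub] at hconj
    have hy : 2 * (2 * ((1 - kap K) * (m - i))) = 0 := by linear_combination hconj
    have hx := xor_of_two_mul _ hy
    rw [s_mul_r, mem_gsub_four_iff_s, mem_gsub_four_iff_s]
    have hk := kap_mul_qq (K := K)
    have e1 : 2 * ((1 - kap K) * (m + kap K * oo K - i)) = 0 ↔
        2 * ((1 - kap K) * (m - i)) = hh K := by
      constructor
      · intro h; linear_combination h - (1 - kap K) * hk + hq - (1 - kap K) * kap K * ho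
      · intro h; linear_combination h + (1 - kap K) * hk - hq + (1 - kap K) * kap K * ho
    rw [e1]; exact hx

end QD



section transfer2

variable {G H : Type*} [Group G] [Group H] (f : G ≃* H)

theorem isKleinFour_map_equiv (T : Subgroup G) (hT : IsKleinFour T) :
    IsKleinFour (T.map f.toMonoidHom) := by
  have e' : T ≃* T.map f.toMonoidHom := f.subgroupMap T
  refine ⟨?_, ?_⟩
  · rw [← Nat.card_congr e'.toEquiv]; exact hT.card_four
  · rw [← Monoid.exponent_eq_of_mulEquiv e']; exact hT.exponent_two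

theorem map_conj_equiv (T : Subgroup G) (g : G) :
    (T.map (MulAut.conj g).toMonoidHom).map f.toMonoidHom =
      (T.map f.toMonoidHom).map (MulAut.conj (f g)).toMonoidHom := by
  rw [Subgroup.map_map, Subgroup.map_map]
  congr 1
  ext x
  simp [MulAut.conj_apply]

theorem map_centralizer_equiv (T : Subgroup G) :
    (Subgroup.centralizer (T : Set G)).map f.toMonoidHom =
      Subgroup.centralizer ((T.map f.toMonoidHom : Subgroup H) : Set H) := by
  ext x
  rw [Subgroup.mem_map_equiv, Subgroup.mem_centralizer_iff, Subgroup.mem_centralizer_iff]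
  constructor
  · rintro h _ ⟨t, ht, rfl⟩
    have := h t ht
    have h2 := congrArg f this
    simpa using h2
  · intro h t ht
    have := h (f t) ⟨t, ht, rfl⟩
    apply f.injective
    simpa using this

theorem relIndex_normalizer_equiv (T : Subgroup G) :
    (T.map f.toMonoidHom).relIndex
      (Subgroup.normalizer ((T.map f.toMonoidHom : Subgroup H) : Set H)) =
      T.relIndex (Subgroup.normalizer (T : Set G)) := by
  rw [← Subgroup.map_equiv_normalizer_eq, Subgroup.relIndex_map_map_of_injective _ _ f.injective]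

/-- conjugacy of subgroups transfers along an isomorphism -/
theorem exists_conj_of_map (T₁ T₂ : Subgroup G)
    (h : ∃ g : H, (T₁.map f.toMonoidHom).map (MulAut.conj g).toMonoidHom = T₂.map f.toMonoidHom) :
    ∃ s : G, T₁.map (MulAut.conj s).toMonoidHom = T₂ := by
  obtain ⟨g, hg⟩ := h
  refine ⟨f.symm g, ?_⟩
  apply Subgroup.map_injective (f := f.toMonoidHom) f.injective
  rw [map_conj_equiv, MulEquiv.apply_symm_apply, hg]

end transfer2



theorem map_center_subtype {G : Type*} [Group G] (Q : Subgroup G) :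
    (Subgroup.center Q).map Q.subtype = Q ⊓ Subgroup.centralizer (Q : Set G) := by
  ext x
  constructor
  · rintro ⟨q, hq, rfl⟩
    have hq' : q ∈ Subgroup.center Q := hq
    refine ⟨q.2, ?_⟩
    show (q : G) ∈ Subgroup.centralizer (Q : Set G)
    rw [Subgroup.mem_centralizer_iff]
    intro y hy
    have := (Subgroup.mem_center_iff.mp hq') ⟨y, hy⟩
    exact congrArg Subtype.val this
  · rintro ⟨hx, hc⟩
    have hc' : x ∈ Subgroup.centralizer (Q : Set G) := hc
    have hmem : (⟨x, hx⟩ : Q) ∈ Subgroup.center Q := by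
      rw [Subgroup.mem_center_iff]
      intro y
      apply Subtype.ext
      rw [Subgroup.mem_centralizer_iff] at hc'
      exact hc' y.1 y.2
    exact ⟨⟨x, hx⟩, hmem, rfl⟩

theorem quat_pow_four (u : QuaternionGroup 2) : u ^ 4 = 1 := by
  have h := Monoid.pow_exponent_eq_one u
  rw [QuaternionGroup.exponent] at h
  exact h

namespace QD

open Dk

variable {K : ℕ} [NeZero K]

theorem r_hh_mem_gsub_four (i : ZMod (8 * K)) : r (hh K) ∈ gsub 4 four_mul_hh i := by
  rw [r_mem_gsub]; exact four_mul_hh

theorem r_qq_mem_gsub_four (i : ZMod (8 * K)) : r (qq K) ∈ gsub 4 four_mul_hh i := by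
  rw [r_mem_gsub, four_mul_eq_zero_iff]; right; right; left; rfl

/-- classification of the quaternion subgroups of order 8 -/
theorem quat_classify (Y : Subgroup (QD K)) (φ : Y ≃* QuaternionGroup 2) :
    ∃ i, par K i = 1 ∧ Y = gsub 4 four_mul_hh i := by
  have hpow : ∀ u ∈ Y, u ^ 4 = 1 := by
    intro u hu
    have h1 := quat_pow_four (φ ⟨u, hu⟩)
    rw [← map_pow, MulEquiv.map_eq_one_iff] at h1
    exact congrArg Subtype.val h1
  have hcardY : Nat.card Y = 8 := by
    rw [Nat.card_congr φ.toEquiv, Nat.card_eq_fintype_card, QuaternionGroup.card]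
  have hs : ∃ i, s i ∈ Y := by
    by_contra hcon
    push Not at hcon
    have hr : ∀ u : Y, ∃ m, (u : QD K) = r m := by
      rintro ⟨u, hu⟩
      rcases u with m | m
      · exact ⟨m, rfl⟩
      · exact absurd hu (hcon m)
    obtain ⟨m₁, h₁⟩ := hr (φ.symm (QuaternionGroup.xa 0))
    obtain ⟨m₂, h₂⟩ := hr (φ.symm (QuaternionGroup.a 1))
    have h2 : φ.symm (QuaternionGroup.xa 0) * φ.symm (QuaternionGroup.a 1) =
        φ.symm (QuaternionGroup.a 1) * φ.symm (QuaternionGroup.xa 0) := by
      apply Subtype.ext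
      rw [Subgroup.coe_mul, Subgroup.coe_mul, h₁, h₂, r_mul_r, r_mul_r, add_comm]
    rw [← map_mul, ← map_mul] at h2
    exact quat_noncomm (le_refl 2) (φ.symm.injective h2)
  obtain ⟨i, hi⟩ := hs
  have hle : Y ≤ gsub 4 four_mul_hh i := by
    rintro (m | m) hm
    · rw [r_mem_gsub]
      have := hpow _ hm
      rw [r_pow] at this
      have h' : (r (((4 : ℕ) : ZMod (8 * K)) * m) : QD K) = r 0 := this
      injection h' with h2
    · rw [s_mem_gsub]
      have h1 := Y.mul_mem hm (Y.inv_mem hi)
      rw [inv_s, s_mul_s] at h1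
      have := hpow _ h1
      rw [r_pow] at this
      have h' : (r (((4 : ℕ) : ZMod (8 * K)) * (m + kap K * -(kap K * i))) : QD K) = r 0 := this
      injection h' with h2
      push_cast at h2
      have hk := kk (κ := kap K) i
      linear_combination h2 + 4 * hk
  have : Finite (gsub 4 four_mul_hh i) :=
    Nat.finite_of_card_ne_zero (by rw [card_gsub_four]; omega)
  have hY : Y = gsub 4 four_mul_hh i :=
    Subgroup.eq_of_le_of_card_ge hle (by rw [hcardY, card_gsub_four])
  refine ⟨i, ?_, hY⟩
  rcases par_cases K i with hp | hp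
  · exfalso
    have hH : r (hh K) ∈ Y := by rw [hY]; exact r_hh_mem_gsub_four i
    have h1 : φ ⟨s i, hi⟩ * φ ⟨s i, hi⟩ = 1 := by
      rw [← map_mul]
      have : (⟨s i, hi⟩ : Y) * ⟨s i, hi⟩ = 1 := Subtype.ext ((s_sq_eq_one_iff i).mpr hp)
      rw [this, map_one]
    have h2 : φ ⟨r (hh K), hH⟩ * φ ⟨r (hh K), hH⟩ = 1 := by
      rw [← map_mul]
      have : (⟨r (hh K), hH⟩ : Y) * ⟨r (hh K), hH⟩ = 1 :=
        Subtype.ext ((r_sq_eq_one_iff _).mpr two_mul_hh)
      rw [this, map_one]
    have h3 : φ ⟨s i, hi⟩ ≠ 1 := by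
      rw [Ne, MulEquiv.map_eq_one_iff]
      intro h
      have h' : (s i : QD K) = r 0 := congrArg Subtype.val h
      injection h'
    have h4 : φ ⟨r (hh K), hH⟩ ≠ 1 := by
      rw [Ne, MulEquiv.map_eq_one_iff]
      intro h
      exact r_hh_ne_one (congrArg Subtype.val h)
    rcases quat_involution (by norm_num) _ h1 with h5 | h5
    · exact h3 h5
    · rcases quat_involution (by norm_num) _ h2 with h6 | h6
      · exact h4 h6
      · have := φ.injective (h5.trans h6.symm)
        have h' : (s i : QD K) = r (hh K) := congrArg Subtype.val this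
        injection h'
  · exact hp

theorem centralizer_gsub_four (i : ZMod (8 * K)) :
    Subgroup.centralizer (gsub 4 four_mul_hh i : Set (QD K)) ≤ gsub 4 four_mul_hh i := by
  intro g hg
  rw [Subgroup.mem_centralizer_iff] at hg
  have h1 := hg (s i) (s_self_mem_gsub _ _ i)
  have h2 := hg (r (qq K)) (r_qq_mem_gsub_four i)
  rcases g with m | m
  · have := (r_comm_s_iff m i).mp h1.symm
    rw [r_mem_gsub]
    linear_combination 2 * this
  · exfalso
    have h3 := (r_comm_s_iff (qq K) m).mp h2
    rw [two_mul_qq] at h3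
    exact hh_ne_zero K h3

end QD


end Cfsg.Agent.Lib.Helper86_QuasiDihedral
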