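import Mathlib
import Cfsg.Agent.Lib.Helper86_QDModel

/-!
Coordinates on a subgroup `P` of a group `G` that is isomorphic to the quasi-dihedral model
`QD K` of helper86 (`Dk (8K) (4K-1)`): the elements `X e i = x^i`, `Y e i = x^i y` of `G`, their
multiplication table, orders, and the images in `G` of the four-subgroups and quaternion subgroups
of the model (helper55).
-/

set_option autoImplicit false

namespace Cfsg.Agent.Lib.Helper55_QDCoord

open Subgroup Cfsg.Agent.Lib.Helper86_QuasiDihedral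

variable {G : Type*} [Group G] {P : Subgroup G} {K : ℕ} [NeZero K] (e : QD K ≃* ↥P)

/-- the element `x^i` -/
def X (i : ZMod (8 * K)) : G := ((e (Dk.r i) : ↥P) : G)

/-- the element `x^i y` -/
def Y (i : ZMod (8 * K)) : G := ((e (Dk.s i) : ↥P) : G)

theorem X_mem (i : ZMod (8 * K)) : X e i ∈ P := (e (Dk.r i)).2

theorem Y_mem (i : ZMod (8 * K)) : Y e i ∈ P := (e (Dk.s i)).2

theorem X_mul_X (i j : ZMod (8 * K)) : X e i * X e j = X e (i + j) := by
  unfold X
  rw [← Subgroup.coe_mul, ← map_mul, Dk.r_mul_r]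

theorem X_mul_Y (i j : ZMod (8 * K)) : X e i * Y e j = Y e (i + j) := by
  unfold X Y
  rw [← Subgroup.coe_mul, ← map_mul, Dk.r_mul_s]

theorem Y_mul_X (i j : ZMod (8 * K)) : Y e i * X e j = Y e (i + kap K * j) := by
  unfold X Y
  rw [← Subgroup.coe_mul, ← map_mul, Dk.s_mul_r]

theorem Y_mul_Y (i j : ZMod (8 * K)) : Y e i * Y e j = X e (i + kap K * j) := by
  unfold X Y
  rw [← Subgroup.coe_mul, ← map_mul, Dk.s_mul_s]

theorem X_zero : X e 0 = 1 := by
  unfold X
  rw [Dk.r_zero, map_one, Subgroup.coe_one]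

theorem X_inv (i : ZMod (8 * K)) : (X e i)⁻¹ = X e (-i) := by
  rw [inv_eq_iff_mul_eq_one, X_mul_X, add_neg_cancel, X_zero]

theorem Y_inv (i : ZMod (8 * K)) : (Y e i)⁻¹ = Y e (-(kap K * i)) := by
  unfold Y
  rw [← Subgroup.coe_inv, ← map_inv, Dk.inv_s]

theorem X_injective : Function.Injective (X e) := by
  intro i j h
  have h1 : e (Dk.r i) = e (Dk.r j) := Subtype.ext h
  have h2 := e.injective h1
  injection h2

theorem Y_injective : Function.Injective (Y e) := by
  intro i j h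
  have h1 : e (Dk.s i) = e (Dk.s j) := Subtype.ext h
  have h2 := e.injective h1
  injection h2

theorem X_ne_Y (i j : ZMod (8 * K)) : X e i ≠ Y e j := by
  intro h
  have h1 : e (Dk.r i) = e (Dk.s j) := Subtype.ext h
  have h2 := e.injective h1
  cases h2

theorem X_eq_one_iff (i : ZMod (8 * K)) : X e i = 1 ↔ i = 0 := by
  rw [← X_zero e]
  exact (X_injective e).eq_iff

theorem Y_ne_one (i : ZMod (8 * K)) : Y e i ≠ 1 := by
  rw [← X_zero e]
  exact fun h => X_ne_Y e 0 i h.symm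

theorem cases_mem {x : G} (hx : x ∈ P) : (∃ i, x = X e i) ∨ ∃ i, x = Y e i := by
  have h : e (e.symm ⟨x, hx⟩) = ⟨x, hx⟩ := e.apply_symm_apply _
  cases hd : e.symm ⟨x, hx⟩ with
  | r i =>
    left
    refine ⟨i, ?_⟩
    rw [hd] at h
    exact (congrArg Subtype.val h).symm
  | s i =>
    right
    refine ⟨i, ?_⟩
    rw [hd] at h
    exact (congrArg Subtype.val h).symm

/-- the image in `G` of an element of the model -/
theorem coe_conj (a b : QD K) : ((e a : ↥P) : G) * (e b : ↥P) * ((e a : ↥P) : G)⁻¹ =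
    ((e (a * b * a⁻¹) : ↥P) : G) := by
  rw [map_mul, map_mul, map_inv, Subgroup.coe_mul, Subgroup.coe_mul, Subgroup.coe_inv]

theorem X_conj_Y (i j : ZMod (8 * K)) : X e j * Y e i * (X e j)⁻¹ = Y e (i + (1 - kap K) * j) := by
  unfold X Y
  rw [coe_conj, QD.conj_r_s]

theorem Y_conj_Y (i j : ZMod (8 * K)) :
    Y e j * Y e i * (Y e j)⁻¹ = Y e (kap K * i + (1 - kap K) * j) := by
  unfold Y
  rw [coe_conj, QD.conj_s_s]

theorem X_conj_X (i j : ZMod (8 * K)) : X e j * X e i * (X e j)⁻¹ = X e i := by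
  unfold X
  rw [coe_conj, QD.conj_r_r]

theorem Y_conj_X (i j : ZMod (8 * K)) : Y e j * X e i * (Y e j)⁻¹ = X e (kap K * i) := by
  unfold X Y
  rw [coe_conj, QD.conj_s_r]

theorem orderOf_X (i : ZMod (8 * K)) : orderOf (X e i) = orderOf (Dk.r i : QD K) := by
  unfold X
  rw [Subgroup.orderOf_coe, MulEquiv.orderOf_eq]

theorem orderOf_Y (i : ZMod (8 * K)) : orderOf (Y e i) = orderOf (Dk.s i : QD K) := by
  unfold Y
  rw [Subgroup.orderOf_coe, MulEquiv.orderOf_eq]

theorem orderOf_X_hh : orderOf (X e (hh K)) = 2 := by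
  rw [orderOf_X, QD.orderOf_r_hh]

theorem orderOf_X_qq : orderOf (X e (QD.qq K)) = 4 := by
  rw [orderOf_X, QD.orderOf_r_qq]

theorem orderOf_Y_even (i : ZMod (8 * K)) (hi : par K i = 0) : orderOf (Y e i) = 2 := by
  rw [orderOf_Y, QD.orderOf_s_even i hi]

theorem orderOf_Y_odd (i : ZMod (8 * K)) (hi : par K i = 1) : orderOf (Y e i) = 4 := by
  rw [orderOf_Y, QD.orderOf_s_odd i hi]

/-- the central involution commutes with `P` -/
theorem X_hh_comm {x : G} (hx : x ∈ P) : x * X e (hh K) = X e (hh K) * x := by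
  have h := QD.r_hh_central (e.symm ⟨x, hx⟩)
  have h2 := congrArg (fun a => ((e a : ↥P) : G)) h
  simp only [map_mul, MulEquiv.apply_symm_apply, Subgroup.coe_mul] at h2
  exact h2

theorem involution_cases {x : G} (hx : x ∈ P) (h2 : orderOf x = 2) :
    x = X e (hh K) ∨ ∃ i, par K i = 0 ∧ x = Y e i := by
  have h : e (e.symm ⟨x, hx⟩) = ⟨x, hx⟩ := e.apply_symm_apply _
  have ho : orderOf (e.symm ⟨x, hx⟩) = 2 := by
    rw [MulEquiv.orderOf_eq, ← Subgroup.orderOf_coe]; exact h2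
  rcases QD.involution_classify _ ho with h1 | ⟨i, hi, h1⟩
  · left
    rw [h1] at h
    exact (congrArg Subtype.val h).symm
  · right
    refine ⟨i, hi, ?_⟩
    rw [h1] at h
    exact (congrArg Subtype.val h).symm

theorem order_four_cases {x : G} (hx : x ∈ P) (h4 : orderOf x = 4) :
    x = X e (QD.qq K) ∨ x = X e (-QD.qq K) ∨ ∃ i, par K i = 1 ∧ x = Y e i := by
  have h : e (e.symm ⟨x, hx⟩) = ⟨x, hx⟩ := e.apply_symm_apply _
  have ho : orderOf (e.symm ⟨x, hx⟩) = 4 := by
    rw [MulEquiv.orderOf_eq, ← Subgroup.orderOf_coe]; exact h4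
  rcases QD.order_four_classify _ ho with h1 | h1 | ⟨i, hi, h1⟩
  · left
    rw [h1] at h
    exact (congrArg Subtype.val h).symm
  · right; left
    rw [h1] at h
    exact (congrArg Subtype.val h).symm
  · right; right
    refine ⟨i, hi, ?_⟩
    rw [h1] at h
    exact (congrArg Subtype.val h).symm

/-- `Y i` and `Y j` are conjugate under a rotation when `i`, `j` have the same parity -/
theorem exists_X_conj_Y (i j : ZMod (8 * K)) (h : par K i = par K j) :
    ∃ m, X e m * Y e i * (X e m)⁻¹ = Y e j := by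
  have h0 : par K (j - i) = 0 := by rw [map_sub, h, sub_self]
  obtain ⟨m, hm⟩ := exists_two_mul_of_par K _ h0
  refine ⟨uu K * m, ?_⟩
  rw [X_conj_Y]
  congr 1
  have := one_sub_kap_mul_uu K
  linear_combination m * this - hm

/-! ### images of subgroups of the model -/

/-- the image in `G` of a subgroup of the model -/
def img (A : Subgroup (QD K)) : Subgroup G := (A.map e.toMonoidHom).map P.subtype

theorem mem_img (A : Subgroup (QD K)) (x : G) : x ∈ img e A ↔ ∃ a ∈ A, x = ((e a : ↥P) : G) := by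
  unfold img
  constructor
  · rintro ⟨_, ⟨a, ha, rfl⟩, rfl⟩
    exact ⟨a, ha, rfl⟩
  · rintro ⟨a, ha, rfl⟩
    exact ⟨e a, ⟨a, ha, rfl⟩, rfl⟩

theorem img_le (A : Subgroup (QD K)) : img e A ≤ P := by
  intro x hx
  rw [mem_img] at hx
  obtain ⟨a, _, rfl⟩ := hx
  exact (e a).2

theorem coe_mem_img (A : Subgroup (QD K)) (a : QD K) : ((e a : ↥P) : G) ∈ img e A ↔ a ∈ A := by
  rw [mem_img]
  constructor
  · rintro ⟨b, hb, h⟩
    have h1 : e a = e b := Subtype.ext h
    rw [e.injective h1]; exact hb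
  · intro ha
    exact ⟨a, ha, rfl⟩

theorem relIndex_img (A : Subgroup (QD K)) : (img e A).relIndex P = A.index := by
  unfold img relIndex subgroupOf
  rw [Subgroup.comap_map_eq_self_of_injective (Subgroup.subtype_injective P)]
  exact Subgroup.index_map_equiv A e

/-- a subgroup of the model is isomorphic to its image -/
noncomputable def imgEquiv (A : Subgroup (QD K)) : ↥A ≃* ↥(img e A) :=
  (e.subgroupMap A).trans
    (Subgroup.equivMapOfInjective (A.map e.toMonoidHom) P.subtype (Subgroup.subtype_injective P))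

/-- the subgroup of the model corresponding to a subgroup of `P` -/
def pre (T : Subgroup G) : Subgroup (QD K) := (T.subgroupOf P).map e.symm.toMonoidHom

theorem mem_pre (T : Subgroup G) (a : QD K) : a ∈ pre e T ↔ ((e a : ↥P) : G) ∈ T := by
  unfold pre
  constructor
  · rintro ⟨y, hy, rfl⟩
    rw [SetLike.mem_coe, mem_subgroupOf] at hy
    simpa using hy
  · intro h
    exact ⟨e a, mem_subgroupOf.mpr h, by simp⟩

theorem img_pre (T : Subgroup G) (hT : T ≤ P) : img e (pre e T) = T := by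
  ext x
  rw [mem_img]
  constructor
  · rintro ⟨a, ha, rfl⟩
    exact (mem_pre e T a).mp ha
  · intro hx
    refine ⟨e.symm ⟨x, hT hx⟩, ?_, by simp⟩
    rw [mem_pre]
    simpa using hx

/-- `pre T` is isomorphic to `T` -/
noncomputable def preEquiv (T : Subgroup G) (hT : T ≤ P) : ↥T ≃* ↥(pre e T) :=
  (Subgroup.subgroupOfEquivOfLe hT).symm.trans (e.symm.subgroupMap (T.subgroupOf P))

theorem img_map_conj (A : Subgroup (QD K)) (g : QD K) :
    img e (A.map (MulAut.conj g).toMonoidHom) =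
      (img e A).map (MulAut.conj ((e g : ↥P) : G)).toMonoidHom := by
  ext x
  rw [mem_img]
  constructor
  · rintro ⟨_, ⟨a, ha, rfl⟩, rfl⟩
    refine ⟨((e a : ↥P) : G), (mem_img e A _).mpr ⟨a, ha, rfl⟩, ?_⟩
    show ((e g : ↥P) : G) * (e a : ↥P) * ((e g : ↥P) : G)⁻¹ = _
    rw [coe_conj]
    rfl
  · rintro ⟨y, hy, rfl⟩
    rw [SetLike.mem_coe, mem_img] at hy
    obtain ⟨a, ha, rfl⟩ := hy
    refine ⟨g * a * g⁻¹, ⟨a, ha, rfl⟩, ?_⟩
    show ((e g : ↥P) : G) * (e a : ↥P) * ((e g : ↥P) : G)⁻¹ = _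
    rw [coe_conj]

/-- the four-subgroup `{1, z, Y i, Y (i + hh)}` -/
def Tsub (i : ZMod (8 * K)) : Subgroup G := img e (QD.gsub 2 QD.two_mul_hh i)

/-- the quaternion subgroup `⟨X qq, Y i⟩` -/
def Qsub (i : ZMod (8 * K)) : Subgroup G := img e (QD.gsub 4 QD.four_mul_hh i)

theorem Tsub_le (i : ZMod (8 * K)) : Tsub e i ≤ P := img_le e _

theorem Qsub_le (i : ZMod (8 * K)) : Qsub e i ≤ P := img_le e _

theorem mem_Tsub (i : ZMod (8 * K)) (x : G) : x ∈ Tsub e i ↔
    (∃ c, 2 * c = 0 ∧ x = X e c) ∨ ∃ c, 2 * c = 0 ∧ x = Y e (i + c) := by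
  unfold Tsub
  rw [mem_img]
  constructor
  · rintro ⟨a, ha, rfl⟩
    rcases a with m | m
    · left
      exact ⟨m, (QD.r_mem_gsub _ _ _ _).mp ha, rfl⟩
    · right
      refine ⟨m - i, (QD.s_mem_gsub _ _ _ _).mp ha, ?_⟩
      show Y e m = _
      congr 1
      ring
  · rintro (⟨c, hc, rfl⟩ | ⟨c, hc, rfl⟩)
    · exact ⟨Dk.r c, (QD.r_mem_gsub _ _ _ _).mpr hc, rfl⟩
    · refine ⟨Dk.s (i + c), (QD.s_mem_gsub _ _ _ _).mpr ?_, rfl⟩
      rw [add_sub_cancel_left]
      exact hc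

theorem mem_Qsub (i : ZMod (8 * K)) (x : G) : x ∈ Qsub e i ↔
    (∃ c, 4 * c = 0 ∧ x = X e c) ∨ ∃ c, 4 * c = 0 ∧ x = Y e (i + c) := by
  unfold Qsub
  rw [mem_img]
  constructor
  · rintro ⟨a, ha, rfl⟩
    rcases a with m | m
    · left
      exact ⟨m, (QD.r_mem_gsub _ _ _ _).mp ha, rfl⟩
    · right
      refine ⟨m - i, (QD.s_mem_gsub _ _ _ _).mp ha, ?_⟩
      show Y e m = _
      congr 1
      ring
  · rintro (⟨c, hc, rfl⟩ | ⟨c, hc, rfl⟩)
    · exact ⟨Dk.r c, (QD.r_mem_gsub _ _ _ _).mpr hc, rfl⟩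
    · refine ⟨Dk.s (i + c), (QD.s_mem_gsub _ _ _ _).mpr ?_, rfl⟩
      rw [add_sub_cancel_left]
      exact hc

/-- every four-subgroup of `P` is some `Tsub i` with `i` even -/
theorem klein_cases (T : Subgroup G) (hT : T ≤ P) (hK : IsKleinFour T) :
    ∃ i, par K i = 0 ∧ T = Tsub e i := by
  have e' := preEquiv e T hT
  have hK' : IsKleinFour (pre e T) := by
    refine ⟨?_, ?_⟩
    · rw [← Nat.card_congr e'.toEquiv]; exact hK.card_four
    · rw [← Monoid.exponent_eq_of_mulEquiv e']; exact hK.exponent_two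
  obtain ⟨i, hi, h⟩ := QD.klein_classify (pre e T) hK'
  refine ⟨i, hi, ?_⟩
  unfold Tsub
  rw [← h, img_pre e T hT]

/-- every quaternion subgroup of order `8` of `P` is some `Qsub i` with `i` odd -/
theorem quat_cases (Q : Subgroup G) (hQ : Q ≤ P) (φ : Q ≃* QuaternionGroup 2) :
    ∃ i, par K i = 1 ∧ Q = Qsub e i := by
  have e' := preEquiv e Q hQ
  obtain ⟨i, hi, h⟩ := QD.quat_classify (pre e Q) (e'.symm.trans φ)
  refine ⟨i, hi, ?_⟩
  unfold Qsub
  rw [← h, img_pre e Q hQ]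

/-- conjugating `Tsub` by a rotation -/
theorem Tsub_map_conj (i t : ZMod (8 * K)) :
    (Tsub e i).map (MulAut.conj (X e (uu K * t))).toMonoidHom = Tsub e (i + 2 * t) := by
  unfold Tsub X
  rw [← img_map_conj, QD.gsub_map_conj]

/-- conjugating `Qsub` by a rotation -/
theorem Qsub_map_conj (i t : ZMod (8 * K)) :
    (Qsub e i).map (MulAut.conj (X e (uu K * t))).toMonoidHom = Qsub e (i + 2 * t) := by
  unfold Qsub X
  rw [← img_map_conj, QD.gsub_map_conj]

end Cfsg.Agent.Lib.Helper55_QDCoord
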