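import Mathlib
import Cfsg.Agent.Lib.Helper55_QDCoord
import Cfsg.Agent.Lib.Helper32_Sylow
import Cfsg.Agent.Lib.Helper50_Basic

/-!
Fusion in a finite group `G` with a quasi-dihedral Sylow `2`-subgroup `S` (helper55), in the
coordinates `X i`, `Y i` of `Helper55_QDCoord`: `z = X hh` is the central involution, `u = X qq` an
element of order `4` of the cyclic maximal subgroup.

* `TF`: `z` is conjugate in `G` to the non-central involution `Y 0`;
* `QF`: `u` is conjugate in `G` to the element `Y 1` of order `4`.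

`TF` holds iff the normalizer of a (any) four-subgroup `Tsub i` of `S` moves `z`; `QF` holds iff the
normalizer of a (any) quaternion subgroup `Qsub i` of `S` moves `⟨u⟩`.
-/

set_option autoImplicit false
set_option linter.unusedSectionVars false

namespace Cfsg.Agent.Lib.Helper55_QDFusion

open Subgroup Cfsg.Agent.Lib.Helper86_QuasiDihedral Cfsg.Agent.Lib.Helper55_QDCoord

/-! ### arithmetic in `ZMod (8K)` -/

section arith

variable (K : ℕ) [NeZero K]

theorem hh_mul_of_four (c : ZMod (8 * K)) (h : 4 * c = 0) : hh K * c = 0 := by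
  rw [hh_eq]; linear_combination (K : ZMod (8 * K)) * h

theorem kap_mul_of_four (c : ZMod (8 * K)) (h : 4 * c = 0) : kap K * c = -c := by
  rw [kap_eq]; linear_combination hh_mul_of_four K c h

theorem four_of_two (c : ZMod (8 * K)) (h : 2 * c = 0) : 4 * c = 0 := by
  linear_combination 2 * h

theorem kap_mul_of_two (c : ZMod (8 * K)) (h : 2 * c = 0) : kap K * c = c := by
  rw [kap_mul_of_four K c (four_of_two K c h)]; linear_combination -h

theorem par_of_four (c : ZMod (8 * K)) (h : 4 * c = 0) : par K c = 0 := by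
  rcases (QD.four_mul_eq_zero_iff c).mp h with rfl | rfl | rfl | rfl
  · exact map_zero _
  · exact par_hh K
  · exact QD.par_qq
  · rw [map_neg, QD.par_qq, neg_zero]

theorem par_of_two (c : ZMod (8 * K)) (h : 2 * c = 0) : par K c = 0 :=
  par_of_four K c (four_of_two K c h)

theorem one_add_kap_mul (m : ZMod (8 * K)) : m + kap K * m = hh K * m := by
  rw [← one_add_kap]; ring

end arith

variable {G : Type*} [Group G] [Finite G] {S : Sylow 2 G} {K : ℕ} [NeZero K]
  (e : QD K ≃* ↥(S : Subgroup G))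

/-! ### basic facts -/

theorem le_centralizer_z : (S : Subgroup G) ≤ centralizer {X e (hh K)} := by
  intro x hx
  rw [mem_centralizer_iff]
  intro y hy
  rw [Set.mem_singleton_iff] at hy
  subst hy
  exact (X_hh_comm e hx).symm

theorem z_ne_one : X e (hh K) ≠ 1 := by
  intro h
  have := orderOf_X_hh e
  rw [h, orderOf_one] at this
  omega

theorem Y_sq_even (i : ZMod (8 * K)) (hi : par K i = 0) : Y e i * Y e i = 1 := by
  rw [Y_mul_Y, one_add_kap_mul, hh_mul_of_par_zero K i hi, X_zero]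

theorem Y_sq_odd (i : ZMod (8 * K)) (hi : par K i = 1) : Y e i * Y e i = X e (hh K) := by
  rw [Y_mul_Y, one_add_kap_mul, hh_mul_of_par_one K i hi]

theorem Y_inv_even (i : ZMod (8 * K)) (hi : par K i = 0) : (Y e i)⁻¹ = Y e i :=
  inv_eq_of_mul_eq_one_right (Y_sq_even e i hi)

theorem Y_inv_odd (i : ZMod (8 * K)) (hi : par K i = 1) : (Y e i)⁻¹ = Y e (i + hh K) := by
  rw [Y_inv]
  congr 1
  have h1 := hh_mul_of_par_one K i hi
  have h2 := hh_add_hh K
  rw [kap_eq]
  linear_combination -h1 - h2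

theorem z_sq : X e (hh K) * X e (hh K) = 1 := by
  rw [X_mul_X, hh_add_hh, X_zero]

theorem z_inv : (X e (hh K))⁻¹ = X e (hh K) := inv_eq_of_mul_eq_one_right (z_sq e)

theorem u_sq : X e (QD.qq K) * X e (QD.qq K) = X e (hh K) := by
  rw [X_mul_X, ← two_mul, QD.two_mul_qq]

theorem u_inv : (X e (QD.qq K))⁻¹ = X e (QD.qq K + hh K) := by
  rw [X_inv]
  congr 1
  have h1 := QD.two_mul_qq (K := K)
  have h2 := hh_add_hh K
  linear_combination -h1 - h2

/-- the fusion of the central involution with the non-central involutions -/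
def TF : Prop := IsConj (X e (hh K)) (Y e 0)

/-- the fusion of the elements of order four -/
def QF : Prop := IsConj (X e (QD.qq K)) (Y e 1)

theorem isConj_Y (i j : ZMod (8 * K)) (h : par K i = par K j) : IsConj (Y e i) (Y e j) := by
  obtain ⟨m, hm⟩ := exists_X_conj_Y e i j h
  exact isConj_iff.mpr ⟨_, hm⟩

theorem isConj_u_inv : IsConj (X e (QD.qq K)) (X e (QD.qq K))⁻¹ := by
  rw [isConj_iff]
  refine ⟨Y e 0, ?_⟩
  rw [Y_conj_X, X_inv, QD.kap_mul_qq]

/-- every involution of `S` is `z` or conjugate in `S` to `Y 0` -/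
theorem involution_cases' {x : G} (hx : x ∈ (S : Subgroup G)) (h2 : orderOf x = 2) :
    x = X e (hh K) ∨ IsConj (Y e 0) x := by
  rcases involution_cases e hx h2 with h | ⟨i, hi, rfl⟩
  · exact Or.inl h
  · exact Or.inr (isConj_Y e 0 i (by rw [map_zero, hi]))

/-- every element of order four of `S` is `u`, `u⁻¹` or conjugate in `S` to `Y 1` -/
theorem order_four_cases' {x : G} (hx : x ∈ (S : Subgroup G)) (h4 : orderOf x = 4) :
    x = X e (QD.qq K) ∨ x = (X e (QD.qq K))⁻¹ ∨ IsConj (Y e 1) x := by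
  rcases order_four_cases e hx h4 with h | h | ⟨i, hi, rfl⟩
  · exact Or.inl h
  · right; left; rw [X_inv]; exact h
  · right; right
    exact isConj_Y e 1 i (by rw [map_one, hi])

/-! ### the four-subgroups -/

theorem z_mem_Tsub (i : ZMod (8 * K)) : X e (hh K) ∈ Tsub e i :=
  (mem_Tsub e i _).mpr (Or.inl ⟨hh K, QD.two_mul_hh, rfl⟩)

theorem Y_mem_Tsub (i : ZMod (8 * K)) : Y e i ∈ Tsub e i :=
  (mem_Tsub e i _).mpr (Or.inr ⟨0, mul_zero _, by rw [add_zero]⟩)

theorem Y_hh_mem_Tsub (i : ZMod (8 * K)) : Y e (i + hh K) ∈ Tsub e i :=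
  (mem_Tsub e i _).mpr (Or.inr ⟨hh K, QD.two_mul_hh, rfl⟩)

/-- the elements of `Tsub i` -/
theorem mem_Tsub' (i : ZMod (8 * K)) (x : G) : x ∈ Tsub e i ↔
    x = 1 ∨ x = X e (hh K) ∨ x = Y e i ∨ x = Y e (i + hh K) := by
  rw [mem_Tsub]
  constructor
  · rintro (⟨c, hc, rfl⟩ | ⟨c, hc, rfl⟩)
    · rcases (two_mul_eq_zero_iff K c).mp hc with rfl | rfl
      · left; exact X_zero e
      · right; left; rfl
    · rcases (two_mul_eq_zero_iff K c).mp hc with rfl | rfl
      · right; right; left; rw [add_zero]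
      · right; right; right; rfl
  · rintro (rfl | rfl | rfl | rfl)
    · exact Or.inl ⟨0, mul_zero _, (X_zero e).symm⟩
    · exact Or.inl ⟨hh K, QD.two_mul_hh, rfl⟩
    · exact Or.inr ⟨0, mul_zero _, by rw [add_zero]⟩
    · exact Or.inr ⟨hh K, QD.two_mul_hh, rfl⟩

/-- elements of `Tsub i` commute with `Y i` -/
theorem Tsub_comm (i : ZMod (8 * K)) {x : G} (hx : x ∈ Tsub e i) : x * Y e i = Y e i * x := by
  rcases (mem_Tsub e i x).mp hx with ⟨c, hc, rfl⟩ | ⟨c, hc, rfl⟩
  · rw [X_mul_Y, Y_mul_X, kap_mul_of_two K c hc, add_comm]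
  · rw [Y_mul_Y, Y_mul_Y]
    congr 1
    have := kap_mul_of_two K c hc
    linear_combination -this

theorem Y_mul_z (i : ZMod (8 * K)) : Y e i * X e (hh K) = Y e (i + hh K) := by
  rw [Y_mul_X, kap_mul_hh]

theorem isKleinFour_Tsub (i : ZMod (8 * K)) (hi : par K i = 0) : IsKleinFour (Tsub e i) := by
  have hcard : Nat.card (Tsub e i) = 4 := by
    have h1 : Nat.card (Tsub e i) = Nat.card (QD.gsub 2 QD.two_mul_hh i : Subgroup (QD K)) := by
      unfold Tsub img
      rw [Subgroup.card_map_of_injective (Subgroup.subtype_injective _),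
        Subgroup.card_map_of_injective e.injective]
    rw [h1, QD.card_gsub_two]
  have hnt : Nontrivial (Tsub e i) := by
    refine ⟨⟨⟨X e (hh K), z_mem_Tsub e i⟩, 1, ?_⟩⟩
    intro h
    exact z_ne_one e (congrArg Subtype.val h)
  refine ⟨hcard, ?_⟩
  rw [Monoid.exponent_eq_prime_iff Nat.prime_two]
  rintro ⟨x, hx⟩ hne
  have hne' : x ≠ 1 := fun h => hne (Subtype.ext h)
  rw [← Subgroup.orderOf_coe]
  show orderOf x = 2
  rcases (mem_Tsub' e i x).mp hx with rfl | rfl | rfl | rfl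
  · exact absurd rfl hne'
  · exact orderOf_X_hh e
  · exact orderOf_Y_even e i hi
  · exact orderOf_Y_even e _ (by rw [map_add, hi, par_hh, add_zero])

/-- easy direction: a normalizing element moving `z` gives the fusion `TF` -/
theorem TF_of_normalizer (i : ZMod (8 * K)) (hi : par K i = 0) (g : G)
    (hg : g ∈ normalizer (Tsub e i : Set G)) (hne : g * X e (hh K) * g⁻¹ ≠ X e (hh K)) : TF e := by
  have hmem : g * X e (hh K) * g⁻¹ ∈ Tsub e i :=
    (mem_normalizer_iff.mp hg _).mp (z_mem_Tsub e i)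
  have key : ∀ j, par K j = 0 → g * X e (hh K) * g⁻¹ = Y e j → TF e := by
    intro j hj h
    have h1 : IsConj (X e (hh K)) (Y e j) := isConj_iff.mpr ⟨g, h⟩
    exact h1.trans (isConj_Y e j 0 (by rw [hj, map_zero]))
  rcases (mem_Tsub' e i _).mp hmem with h | h | h | h
  · exfalso
    apply z_ne_one e
    have : g⁻¹ * (g * X e (hh K) * g⁻¹) * g = 1 := by rw [h]; group
    rw [← this]; group
  · exact absurd h hne
  · exact key i hi h
  · exact key _ (by rw [map_add, hi, par_hh, add_zero]) h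

/-- hard direction: the fusion `TF` is realized in the normalizer of every four-subgroup of `S` -/
theorem exists_normalizer_T (i : ZMod (8 * K)) (hi : par K i = 0) (h : TF e) :
    ∃ g ∈ normalizer (Tsub e i : Set G), g * X e (hh K) * g⁻¹ = Y e i := by
  classical
  have : Fact (Nat.Prime 2) := ⟨Nat.prime_two⟩
  obtain ⟨g₁, hg₁⟩ : ∃ g₁ : G, g₁ * X e (hh K) * g₁⁻¹ = Y e i :=
    isConj_iff.mp (h.trans (isConj_Y e 0 i (by rw [map_zero, hi])))
  obtain ⟨g, hg⟩ : ∃ g : G, g = g₁⁻¹ := ⟨_, rfl⟩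
  have hgt : g * Y e i * g⁻¹ = X e (hh K) := by rw [← hg₁, hg]; group
  -- the conjugate of `T` by `g` lies in `C(z)`
  have hT₁C : (Tsub e i).map (MulAut.conj g).toMonoidHom ≤ centralizer {X e (hh K)} := by
    rintro _ ⟨x, hx, rfl⟩
    have hxc := Tsub_comm e i hx
    rw [mem_centralizer_iff]
    intro y hy
    rw [Set.mem_singleton_iff] at hy
    subst hy
    show X e (hh K) * (g * x * g⁻¹) = g * x * g⁻¹ * X e (hh K)
    rw [← hgt]
    have e1 : g * Y e i * g⁻¹ * (g * x * g⁻¹) = g * (Y e i * x) * g⁻¹ := by group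
    have e2 : g * x * g⁻¹ * (g * Y e i * g⁻¹) = g * (x * Y e i) * g⁻¹ := by group
    rw [e1, e2, hxc]
  have hTp : IsPGroup 2 (Tsub e i) := S.isPGroup'.to_le (Tsub_le e i)
  obtain ⟨c, hcC, hc⟩ := Helper32_Sylow.sylow_conj_into (centralizer {X e (hh K)}) S
    (le_centralizer_z e) _ hT₁C (hTp.map _)
  have hcz : c * X e (hh K) * c⁻¹ = X e (hh K) := by
    have := mem_centralizer_iff.mp hcC (X e (hh K)) rfl
    rw [← this]; group
  -- the conjugate of `T` by `c * g` is a four-subgroup of `S`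
  have hT₂S : (Tsub e i).map (MulAut.conj (c * g)).toMonoidHom ≤ (S : Subgroup G) := by
    rintro _ ⟨x, hx, rfl⟩
    have := hc (g * x * g⁻¹) ⟨x, hx, rfl⟩
    show c * g * x * (c * g)⁻¹ ∈ _
    have e1 : c * g * x * (c * g)⁻¹ = c * (g * x * g⁻¹) * c⁻¹ := by group
    rw [e1]; exact this
  have hT₂K : IsKleinFour ((Tsub e i).map (MulAut.conj (c * g)).toMonoidHom) :=
    isKleinFour_map_equiv (MulAut.conj (c * g)) _ (isKleinFour_Tsub e i hi)
  obtain ⟨j, hj, hT₂⟩ := klein_cases e _ hT₂S hT₂K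
  obtain ⟨t, ht⟩ := exists_two_mul_of_par K (i - j) (by rw [map_sub, hi, hj, sub_self])
  have hconj := Tsub_map_conj e j t
  have hji : j + 2 * t = i := by rw [← ht]; ring
  rw [hji, ← hT₂, Subgroup.map_map] at hconj
  -- the normalizing element
  obtain ⟨a, ha⟩ : ∃ a : G, a = X e (uu K * t) := ⟨_, rfl⟩
  have haS : a ∈ (S : Subgroup G) := by rw [ha]; exact X_mem e _
  have hnorm : a * (c * g) ∈ normalizer (Tsub e i : Set G) := by
    apply Helper50_Basic.mem_normalizer_of_map_conj_le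
    rw [← ha] at hconj
    have : (MulAut.conj (a * (c * g))).toMonoidHom =
        (MulAut.conj a).toMonoidHom.comp (MulAut.conj (c * g)).toMonoidHom := by
      ext x; simp [MulAut.conj_apply, mul_assoc]
    rw [this, hconj]
  have hval : a * (c * g) * Y e i * (a * (c * g))⁻¹ = X e (hh K) := by
    have e1 : a * (c * g) * Y e i * (a * (c * g))⁻¹ = a * (c * (g * Y e i * g⁻¹) * c⁻¹) * a⁻¹ := by
      group
    rw [e1, hgt, hcz]
    have := X_hh_comm e haS
    rw [this]; group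
  refine ⟨(a * (c * g))⁻¹, inv_mem hnorm, ?_⟩
  rw [← hval]; group

/-- a `3`-cycle on the involutions of `Tsub i` -/
theorem exists_three_cycle_T (i : ZMod (8 * K)) (hi : par K i = 0) (h : TF e) :
    ∃ g ∈ normalizer (Tsub e i : Set G), g * X e (hh K) * g⁻¹ = Y e i ∧
      g * Y e i * g⁻¹ = Y e (i + hh K) := by
  obtain ⟨g, hgN, hgz⟩ := exists_normalizer_T e i hi h
  have hmem : g * Y e i * g⁻¹ ∈ Tsub e i := (mem_normalizer_iff.mp hgN _).mp (Y_mem_Tsub e i)
  -- the element `a = X qq` of `S` swaps `Y i` and `Y (i + hh)` and fixes `z`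
  have haN : X e (QD.qq K) ∈ normalizer (Tsub e i : Set G) := by
    apply Helper50_Basic.mem_normalizer_of_map_conj_le
    rintro _ ⟨x, hx, rfl⟩
    show X e (QD.qq K) * x * (X e (QD.qq K))⁻¹ ∈ Tsub e i
    rcases (mem_Tsub e i x).mp hx with ⟨c, hc, rfl⟩ | ⟨c, hc, rfl⟩
    · rw [X_conj_X]; exact hx
    · rw [X_conj_Y, QD.one_sub_kap_mul_qq, mem_Tsub]
      right
      refine ⟨c + hh K, ?_, by ring_nf⟩
      have := hh_add_hh K
      linear_combination hc + this
  have haY : X e (QD.qq K) * Y e i * (X e (QD.qq K))⁻¹ = Y e (i + hh K) := by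
    rw [X_conj_Y, QD.one_sub_kap_mul_qq]
  have haY' : X e (QD.qq K) * Y e (i + hh K) * (X e (QD.qq K))⁻¹ = Y e i := by
    rw [X_conj_Y, QD.one_sub_kap_mul_qq]
    congr 1
    have := hh_add_hh K
    linear_combination this
  have haz : X e (QD.qq K) * X e (hh K) * (X e (QD.qq K))⁻¹ = X e (hh K) := X_conj_X e _ _
  rcases (mem_Tsub' e i _).mp hmem with h1 | h1 | h1 | h1
  · exfalso
    apply Y_ne_one e i
    have : g⁻¹ * (g * Y e i * g⁻¹) * g = 1 := by rw [h1]; group
    rw [← this]; group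
  · -- `g` swaps `z` and `Y i`: use `g * a`
    refine ⟨g * X e (QD.qq K), mul_mem hgN haN, ?_, ?_⟩
    · have e1 : g * X e (QD.qq K) * X e (hh K) * (g * X e (QD.qq K))⁻¹ =
          g * (X e (QD.qq K) * X e (hh K) * (X e (QD.qq K))⁻¹) * g⁻¹ := by group
      rw [e1, haz, hgz]
    · have e1 : g * X e (QD.qq K) * Y e i * (g * X e (QD.qq K))⁻¹ =
          g * (X e (QD.qq K) * Y e i * (X e (QD.qq K))⁻¹) * g⁻¹ := by group
      rw [e1, haY, ← Y_mul_z]
      have e2 : g * (Y e i * X e (hh K)) * g⁻¹ = (g * Y e i * g⁻¹) * (g * X e (hh K) * g⁻¹) := by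
        group
      rw [e2, h1, hgz, ← X_hh_comm e (Y_mem e i)]
  · exfalso
    have : g * Y e i * g⁻¹ = g * X e (hh K) * g⁻¹ := by rw [h1, hgz]
    have h2 : Y e i = X e (hh K) := by
      have e1 : g⁻¹ * (g * Y e i * g⁻¹) * g = Y e i := by group
      have e2 : g⁻¹ * (g * X e (hh K) * g⁻¹) * g = X e (hh K) := by group
      rw [← e1, ← e2, this]
    exact X_ne_Y e _ _ h2.symm
  · exact ⟨g, hgN, hgz, h1⟩

/-! ### the quaternion subgroups -/

/-- the class `{u, u⁻¹}` -/
def inU (x : G) : Prop := ∃ d, 2 * d = hh K ∧ x = X e d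

/-- the class `{Y i, (Y i)⁻¹}` -/
def inV (i : ZMod (8 * K)) (x : G) : Prop := ∃ d, 2 * d = 0 ∧ x = Y e (i + d)

/-- the class `{Y (i + qq), (Y (i + qq))⁻¹}` -/
def inW (i : ZMod (8 * K)) (x : G) : Prop := ∃ d, 2 * d = hh K ∧ x = Y e (i + d)

theorem four_of_two_hh (d : ZMod (8 * K)) (h : 2 * d = hh K) : 4 * d = 0 := by
  have := hh_add_hh K
  linear_combination 2 * h + this

theorem two_hh_cases (d : ZMod (8 * K)) (h : 2 * d = hh K) : d = QD.qq K ∨ d = QD.qq K + hh K := by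
  rcases (QD.four_mul_eq_zero_iff d).mp (four_of_two_hh d h) with rfl | rfl | rfl | rfl
  · rw [mul_zero] at h; exact absurd h.symm (hh_ne_zero K)
  · rw [QD.two_mul_hh] at h; exact absurd h.symm (hh_ne_zero K)
  · exact Or.inl rfl
  · right
    have h1 := QD.two_mul_qq (K := K)
    have h2 := hh_add_hh K
    linear_combination -h1 - h2

theorem inU_u : inU e (X e (QD.qq K)) := ⟨_, QD.two_mul_qq, rfl⟩

theorem inU_iff (x : G) : inU e x ↔ x = X e (QD.qq K) ∨ x = (X e (QD.qq K))⁻¹ := by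
  rw [u_inv]
  constructor
  · rintro ⟨d, hd, rfl⟩
    rcases two_hh_cases d hd with rfl | rfl
    · exact Or.inl rfl
    · exact Or.inr rfl
  · rintro (rfl | rfl)
    · exact inU_u e
    · refine ⟨_, ?_, rfl⟩
      have h1 := QD.two_mul_qq (K := K)
      have h2 := hh_add_hh K
      linear_combination h1 + h2

theorem inV_iff (i : ZMod (8 * K)) (hi : par K i = 1) (x : G) :
    inV e i x ↔ x = Y e i ∨ x = (Y e i)⁻¹ := by
  rw [Y_inv_odd e i hi]
  constructor
  · rintro ⟨d, hd, rfl⟩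
    rcases (two_mul_eq_zero_iff K d).mp hd with rfl | rfl
    · left; rw [add_zero]
    · exact Or.inr rfl
  · rintro (rfl | rfl)
    · exact ⟨0, mul_zero _, by rw [add_zero]⟩
    · exact ⟨hh K, QD.two_mul_hh, rfl⟩

theorem inW_iff (i : ZMod (8 * K)) (hi : par K i = 1) (x : G) :
    inW e i x ↔ x = Y e (i + QD.qq K) ∨ x = (Y e (i + QD.qq K))⁻¹ := by
  have hp : par K (i + QD.qq K) = 1 := by rw [map_add, hi, QD.par_qq, add_zero]
  rw [Y_inv_odd e _ hp]
  constructor
  · rintro ⟨d, hd, rfl⟩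
    rcases two_hh_cases d hd with rfl | rfl
    · exact Or.inl rfl
    · right; rw [add_assoc]
  · rintro (rfl | rfl)
    · exact ⟨_, QD.two_mul_qq, rfl⟩
    · refine ⟨QD.qq K + hh K, ?_, by rw [add_assoc]⟩
      have h1 := QD.two_mul_qq (K := K)
      have h2 := hh_add_hh K
      linear_combination h1 + h2

theorem mem_iff_of_inU (H : Subgroup G) {x : G} (hx : inU e x) : x ∈ H ↔ X e (QD.qq K) ∈ H := by
  rcases (inU_iff e x).mp hx with rfl | rfl
  · rfl
  · exact inv_mem_iff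

theorem mem_iff_of_inV (H : Subgroup G) (i : ZMod (8 * K)) (hi : par K i = 1) {x : G}
    (hx : inV e i x) : x ∈ H ↔ Y e i ∈ H := by
  rcases (inV_iff e i hi x).mp hx with rfl | rfl
  · rfl
  · exact inv_mem_iff

theorem mem_iff_of_inW (H : Subgroup G) (i : ZMod (8 * K)) (hi : par K i = 1) {x : G}
    (hx : inW e i x) : x ∈ H ↔ Y e (i + QD.qq K) ∈ H := by
  rcases (inW_iff e i hi x).mp hx with rfl | rfl
  · rfl
  · exact inv_mem_iff

theorem inU_inv {x : G} (hx : inU e x) : inU e x⁻¹ := by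
  rw [inU_iff] at hx ⊢
  rcases hx with rfl | rfl
  · exact Or.inr rfl
  · left; rw [inv_inv]

theorem inV_inv (i : ZMod (8 * K)) (hi : par K i = 1) {x : G} (hx : inV e i x) :
    inV e i x⁻¹ := by
  rw [inV_iff e i hi] at hx ⊢
  rcases hx with rfl | rfl
  · exact Or.inr rfl
  · left; rw [inv_inv]

theorem inW_inv (i : ZMod (8 * K)) (hi : par K i = 1) {x : G} (hx : inW e i x) :
    inW e i x⁻¹ := by
  rw [inW_iff e i hi] at hx ⊢
  rcases hx with rfl | rfl
  · exact Or.inr rfl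
  · left; rw [inv_inv]

theorem inV_mul_inU (i : ZMod (8 * K)) {x y : G} (hx : inV e i x) (hy : inU e y) :
    inW e i (x * y) := by
  obtain ⟨d, hd, rfl⟩ := hx
  obtain ⟨d', hd', rfl⟩ := hy
  refine ⟨d - d', ?_, ?_⟩
  · have := hh_add_hh K
    linear_combination hd - hd' - this
  · rw [Y_mul_X, kap_mul_of_four K d' (four_of_two_hh d' hd')]
    congr 1
    ring

theorem inU_mul_inV (i : ZMod (8 * K)) {x y : G} (hx : inU e x) (hy : inV e i y) :
    inW e i (x * y) := by
  obtain ⟨d', hd', rfl⟩ := hx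
  obtain ⟨d, hd, rfl⟩ := hy
  refine ⟨d' + d, ?_, ?_⟩
  · linear_combination hd + hd'
  · rw [X_mul_Y]
    congr 1
    ring

theorem inV_mul_inW (i : ZMod (8 * K)) (hi : par K i = 1) {x y : G} (hx : inV e i x)
    (hy : inW e i y) : inU e (x * y) := by
  obtain ⟨d, hd, rfl⟩ := hx
  obtain ⟨d', hd', rfl⟩ := hy
  refine ⟨hh K + d - d', ?_, ?_⟩
  · linear_combination hd - hd'
  · rw [Y_mul_Y]
    congr 1
    have h1 := kap_mul_of_four K d' (four_of_two_hh d' hd')
    have h2 := hh_mul_of_par_one K i hi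
    have h3 := one_add_kap K
    linear_combination i * h3 + h2 + h1

theorem u_mem_Qsub (i : ZMod (8 * K)) : X e (QD.qq K) ∈ Qsub e i :=
  (mem_Qsub e i _).mpr (Or.inl ⟨_, four_of_two_hh _ QD.two_mul_qq, rfl⟩)

theorem Y_mem_Qsub (i : ZMod (8 * K)) : Y e i ∈ Qsub e i :=
  (mem_Qsub e i _).mpr (Or.inr ⟨0, mul_zero _, by rw [add_zero]⟩)

theorem z_mem_Qsub (i : ZMod (8 * K)) : X e (hh K) ∈ Qsub e i :=
  (mem_Qsub e i _).mpr (Or.inl ⟨_, QD.four_mul_hh, rfl⟩)

theorem orderOf_conj (g x : G) : orderOf (g * x * g⁻¹) = orderOf x := by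
  rw [← MulAut.conj_apply, MulEquiv.orderOf_eq]

/-- elements of order four of `Qsub i` fall into the three classes -/
theorem Qsub_order_four (i : ZMod (8 * K)) (hi : par K i = 1) {x : G} (hx : x ∈ Qsub e i)
    (h4 : orderOf x = 4) : inU e x ∨ inV e i x ∨ inW e i x := by
  rcases (mem_Qsub e i x).mp hx with ⟨c, hc, rfl⟩ | ⟨c, hc, rfl⟩
  · left
    rcases (QD.four_mul_eq_zero_iff c).mp hc with rfl | rfl | rfl | rfl
    · rw [X_zero, orderOf_one] at h4; omega
    · rw [orderOf_X_hh] at h4; omega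
    · exact inU_u e
    · rw [← X_inv]; exact inU_inv e (inU_u e)
  · right
    have h22 : 2 * (2 * c) = 0 := by linear_combination hc
    rcases (two_mul_eq_zero_iff K (2 * c)).mp h22 with h | h
    · left; exact ⟨c, h, rfl⟩
    · right; exact ⟨c, h, rfl⟩

/-- conjugating `Y i` by an element of `Qsub i` -/
theorem Qsub_conj_v (i : ZMod (8 * K)) {x : G} (hx : x ∈ Qsub e i) :
    inV e i (x * Y e i * x⁻¹) := by
  rcases (mem_Qsub e i x).mp hx with ⟨c, hc, rfl⟩ | ⟨c, hc, rfl⟩
  · refine ⟨2 * c, by linear_combination hc, ?_⟩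
    rw [X_conj_Y]
    congr 1
    have := kap_mul_of_four K c hc
    linear_combination -this
  · refine ⟨2 * c, by linear_combination hc, ?_⟩
    rw [Y_conj_Y]
    congr 1
    have := kap_mul_of_four K c hc
    linear_combination -this

/-- easy direction: a normalizing element moving `⟨u⟩` gives the fusion `QF` -/
theorem QF_of_normalizer (i : ZMod (8 * K)) (hi : par K i = 1) (g : G)
    (hg : g ∈ normalizer (Qsub e i : Set G)) (hne : ¬ inU e (g * X e (QD.qq K) * g⁻¹)) : QF e := by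
  have hmem : g * X e (QD.qq K) * g⁻¹ ∈ Qsub e i :=
    (mem_normalizer_iff.mp hg _).mp (u_mem_Qsub e i)
  have ho : orderOf (g * X e (QD.qq K) * g⁻¹) = 4 := by rw [orderOf_conj, orderOf_X_qq]
  have key : ∀ j, par K j = 1 → g * X e (QD.qq K) * g⁻¹ = Y e j → QF e := by
    intro j hj h
    have h1 : IsConj (X e (QD.qq K)) (Y e j) := isConj_iff.mpr ⟨g, h⟩
    exact h1.trans (isConj_Y e j 1 (by rw [hj, map_one]))
  rcases Qsub_order_four e i hi hmem ho with h | ⟨d, hd, h⟩ | ⟨d, hd, h⟩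
  · exact absurd h hne
  · exact key _ (by rw [map_add, hi, par_of_two K d hd, add_zero]) h
  · exact key _ (by rw [map_add, hi, par_of_four K d (four_of_two_hh d hd), add_zero]) h

theorem S_le_normalizer_u : (S : Subgroup G) ≤ normalizer (zpowers (X e (QD.qq K)) : Set G) := by
  intro x hx
  apply Helper50_Basic.mem_normalizer_of_map_conj_le
  rw [MonoidHom.map_zpowers, zpowers_le]
  show x * X e (QD.qq K) * x⁻¹ ∈ _
  rcases cases_mem e hx with ⟨m, rfl⟩ | ⟨m, rfl⟩
  · rw [X_conj_X]; exact mem_zpowers _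
  · rw [Y_conj_X, QD.kap_mul_qq, ← X_inv]
    exact inv_mem (mem_zpowers _)

/-- an element of order four of `⟨u⟩` is `u` or `u⁻¹` -/
theorem inU_of_mem_zpowers {x : G} (hx : x ∈ zpowers (X e (QD.qq K))) (h4 : orderOf x = 4) :
    inU e x := by
  have hxS : x ∈ (S : Subgroup G) := (zpowers_le.mpr (X_mem e _)) hx
  rw [inU_iff]
  rcases order_four_cases e hxS h4 with h | h | ⟨j, hj, rfl⟩
  · exact Or.inl h
  · right; rw [X_inv]; exact h
  · exfalso
    -- `Y j` does not commute with `u`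
    have hc : Y e j * X e (QD.qq K) = X e (QD.qq K) * Y e j := by
      obtain ⟨k, hk⟩ := mem_zpowers_iff.mp hx
      rw [← hk]
      exact ((Commute.refl _).zpow_left k).eq
    rw [Y_mul_X, X_mul_Y, QD.kap_mul_qq] at hc
    have h1 := Y_injective e hc
    have h2 : 2 * QD.qq K = 0 := by linear_combination -h1
    rw [QD.two_mul_qq] at h2
    exact hh_ne_zero K h2

/-- hard direction: the fusion `QF` is realized in the normalizer of every quaternion subgroup -/
theorem exists_normalizer_Q (hq : ∀ j, par K j = 1 → Nonempty (Qsub e j ≃* QuaternionGroup 2))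
    (i : ZMod (8 * K)) (hi : par K i = 1) (h : QF e) :
    ∃ g ∈ normalizer (Qsub e i : Set G), inV e i (g * X e (QD.qq K) * g⁻¹) := by
  classical
  have : Fact (Nat.Prime 2) := ⟨Nat.prime_two⟩
  obtain ⟨g₁, hg₁⟩ : ∃ g₁ : G, g₁ * X e (QD.qq K) * g₁⁻¹ = Y e i :=
    isConj_iff.mp (h.trans (isConj_Y e 1 i (by rw [map_one, hi])))
  obtain ⟨g, hg⟩ : ∃ g : G, g = g₁⁻¹ := ⟨_, rfl⟩
  have hgv : g * Y e i * g⁻¹ = X e (QD.qq K) := by rw [← hg₁, hg]; group
  -- the conjugate of `Q` by `g` normalizes `⟨u⟩`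
  have hQ₁B : (Qsub e i).map (MulAut.conj g).toMonoidHom ≤
      normalizer (zpowers (X e (QD.qq K)) : Set G) := by
    rintro _ ⟨x, hx, rfl⟩
    apply Helper50_Basic.mem_normalizer_of_map_conj_le
    rw [MonoidHom.map_zpowers, zpowers_le]
    show (g * x * g⁻¹) * X e (QD.qq K) * (g * x * g⁻¹)⁻¹ ∈ _
    have e1 : (g * x * g⁻¹) * X e (QD.qq K) * (g * x * g⁻¹)⁻¹ =
        g * (x * Y e i * x⁻¹) * g⁻¹ := by rw [← hgv]; group
    rw [e1]
    rcases (inV_iff e i hi _).mp (Qsub_conj_v e i hx) with h1 | h1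
    · rw [h1, hgv]; exact mem_zpowers _
    · rw [h1]
      have e2 : g * (Y e i)⁻¹ * g⁻¹ = (g * Y e i * g⁻¹)⁻¹ := by group
      rw [e2, hgv]
      exact inv_mem (mem_zpowers _)
  have hQp : IsPGroup 2 (Qsub e i) := S.isPGroup'.to_le (Qsub_le e i)
  obtain ⟨c, hcB, hc⟩ := Helper32_Sylow.sylow_conj_into
    (normalizer (zpowers (X e (QD.qq K)) : Set G)) S (S_le_normalizer_u e) _ hQ₁B (hQp.map _)
  have hcu : inU e (c * X e (QD.qq K) * c⁻¹) := by
    apply inU_of_mem_zpowers
    · exact (mem_normalizer_iff.mp hcB _).mp (mem_zpowers _)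
    · rw [orderOf_conj, orderOf_X_qq]
  -- the conjugate of `Q` by `c * g` is a quaternion subgroup of `S`
  have hQ₂S : (Qsub e i).map (MulAut.conj (c * g)).toMonoidHom ≤ (S : Subgroup G) := by
    rintro _ ⟨x, hx, rfl⟩
    have := hc (g * x * g⁻¹) ⟨x, hx, rfl⟩
    show c * g * x * (c * g)⁻¹ ∈ _
    have e1 : c * g * x * (c * g)⁻¹ = c * (g * x * g⁻¹) * c⁻¹ := by group
    rw [e1]; exact this
  obtain ⟨φ⟩ := hq i hi
  obtain ⟨j, hj, hQ₂⟩ := quat_cases e _ hQ₂S
    (((MulAut.conj (c * g)).subgroupMap (Qsub e i)).symm.trans φ)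
  obtain ⟨t, ht⟩ := exists_two_mul_of_par K (i - j) (by rw [map_sub, hi, hj, sub_self])
  have hconj := Qsub_map_conj e j t
  have hji : j + 2 * t = i := by rw [← ht]; ring
  rw [hji, ← hQ₂, Subgroup.map_map] at hconj
  obtain ⟨a, ha⟩ : ∃ a : G, a = X e (uu K * t) := ⟨_, rfl⟩
  have hnorm : a * (c * g) ∈ normalizer (Qsub e i : Set G) := by
    apply Helper50_Basic.mem_normalizer_of_map_conj_le
    rw [← ha] at hconj
    have : (MulAut.conj (a * (c * g))).toMonoidHom =
        (MulAut.conj a).toMonoidHom.comp (MulAut.conj (c * g)).toMonoidHom := by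
      ext x; simp [MulAut.conj_apply, mul_assoc]
    rw [this, hconj]
  have hval : inU e (a * (c * g) * Y e i * (a * (c * g))⁻¹) := by
    have e1 : a * (c * g) * Y e i * (a * (c * g))⁻¹ = a * (c * (g * Y e i * g⁻¹) * c⁻¹) * a⁻¹ := by
      group
    rw [e1, hgv]
    obtain ⟨d, hd, hd'⟩ := hcu
    rw [hd', ha, X_conj_X]
    exact ⟨d, hd, rfl⟩
  refine ⟨(a * (c * g))⁻¹, inv_mem hnorm, ?_⟩
  rw [inV_iff e i hi]
  rcases (inU_iff e _).mp hval with h1 | h1
  · left
    rw [← h1]; group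
  · right
    have h2 : X e (QD.qq K) = (a * (c * g) * Y e i * (a * (c * g))⁻¹)⁻¹ := by rw [h1, inv_inv]
    rw [h2]; group

end Cfsg.Agent.Lib.Helper55_QDFusion
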