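import Mathlib
import Cfsg.Agent.Lib.Helper55_Transfer

/-!
A general evaluation of the transfer homomorphism (helper55): if `ϕ (x⁻¹ g ^ n x) = ε ^ n` for every
conjugate of a power of `g` lying in `H`, then the transfer of `g` is `ε ^ [G : H]`.  As a consequence,
a generalized form of Thompson's transfer lemma valid for arbitrary elements.
-/

set_option autoImplicit false

namespace Cfsg.Agent.Lib.Helper55_TransferGen

open Subgroup MonoidHom MulAction

variable {G : Type*} [Group G]

/-- If `ϕ (x⁻¹ g ^ n x) = ε ^ n` whenever `x⁻¹ g ^ n x ∈ H`, the transfer of `g` is `ε ^ [G : H]`. -/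
theorem transfer_eq_pow_index {A : Type*} [CommGroup A] (H : Subgroup G) [H.FiniteIndex]
    (ϕ : H →* A) (g : G) (ε : A)
    (h : ∀ (x : G) (n : ℕ) (hx : x⁻¹ * g ^ n * x ∈ H), ϕ ⟨x⁻¹ * g ^ n * x, hx⟩ = ε ^ n) :
    transfer ϕ g = ε ^ H.index := by
  classical
  let := H.fintypeQuotientOfFiniteIndex
  rw [transfer_eq_prod_quotient_orbitRel_zpowers_quot, index_eq_sum_minimalPeriod H g,
    ← Finset.prod_pow_eq_pow_sum]
  exact Finset.prod_congr rfl fun q _ => h _ _ _

open Classical in
/-- the sign character of a subgroup of index two -/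
noncomputable def signOfIndexTwo (S M : Subgroup G) (hMi : M.relIndex S = 2) : ↥S →* ℤˣ where
  toFun s := if (s : G) ∈ M then 1 else -1
  map_one' := by
    simp [M.one_mem]
  map_mul' a b := by
    have h := Subgroup.mul_mem_iff_of_index_two (H := M.subgroupOf S) hMi (a := a) (b := b)
    simp only [mem_subgroupOf, Subgroup.coe_mul] at h
    by_cases ha : (a : G) ∈ M <;> by_cases hb : (b : G) ∈ M <;> simp_all

open Classical in
theorem signOfIndexTwo_apply (S M : Subgroup G) (hMi : M.relIndex S = 2) (s : ↥S) :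
    signOfIndexTwo S M hMi s = if (s : G) ∈ M then 1 else -1 := rfl

/-- Evaluation of the transfer into `S/M` (as a sign) at an element `v` such that a conjugate of
`v ^ n` lying in `S` lies in `M` exactly when `n` is even. -/
theorem transfer_sign_eq_neg_one [Finite G] (S : Sylow 2 G) (M : Subgroup G)
    (hMi : M.relIndex (S : Subgroup G) = 2) (v : G)
    (h : ∀ (x : G) (n : ℕ), x⁻¹ * v ^ n * x ∈ (S : Subgroup G) →
      (x⁻¹ * v ^ n * x ∈ M ↔ Even n)) :
    transfer (signOfIndexTwo (S : Subgroup G) M hMi) v = -1 := by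
  classical
  have : Fact (Nat.Prime 2) := ⟨Nat.prime_two⟩
  have hval : transfer (signOfIndexTwo (S : Subgroup G) M hMi) v =
      (-1 : ℤˣ) ^ (S : Subgroup G).index := by
    apply transfer_eq_pow_index
    intro x n hx
    rw [signOfIndexTwo_apply]
    have := h x n hx
    by_cases hn : Even n
    · rw [if_pos (this.mpr hn), hn.neg_one_pow]
    · rw [if_neg (fun hm => hn (this.mp hm)), (Nat.not_even_iff_odd.mp hn).neg_one_pow]
  have hodd : Odd (S : Subgroup G).index := by
    rw [← Nat.not_even_iff_odd, even_iff_two_dvd]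
    exact S.not_dvd_index
  rw [hodd.neg_one_pow] at hval
  exact hval

/-- **Generalized Thompson transfer.** Let `S` be a Sylow `2`-subgroup, `M` a subgroup of index `2` in
`S`, and `v` an element such that a conjugate of `v ^ n` lying in `S` lies in `M` exactly when `n` is
even. Then `G` has a normal subgroup of index `2` not containing `v`. -/
theorem exists_normal_index_two [Finite G] (S : Sylow 2 G) (M : Subgroup G)
    (hMi : M.relIndex (S : Subgroup G) = 2) (v : G)
    (h : ∀ (x : G) (n : ℕ), x⁻¹ * v ^ n * x ∈ (S : Subgroup G) →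
      (x⁻¹ * v ^ n * x ∈ M ↔ Even n)) :
    ∃ K : Subgroup G, K.Normal ∧ K.index = 2 ∧ v ∉ K := by
  have hval := transfer_sign_eq_neg_one S M hMi v h
  obtain ⟨h1, h2⟩ := Helper55_Transfer.index_ker_eq_two_of_neg_one
    (transfer (signOfIndexTwo (S : Subgroup G) M hMi)) v hval
  exact ⟨_, inferInstance, h1, h2⟩

end Cfsg.Agent.Lib.Helper55_TransferGen
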