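import Mathlib
import Cfsg.Agent.Lib.Helper55_QDFusion
import Cfsg.Agent.Lib.Helper55_TransferGen
import Cfsg.Agent.Lib.Helper55_DihedralNPC
import Cfsg.Prelude.Def_Transfer

/-!
Fusion in a finite group with a quasi-dihedral Sylow `2`-subgroup, part 2 (helper55):
`3`-cycles on the quaternion subgroups, the index-two parity arguments, the transfer applications,
the structure of the subgroups of index two, and the counting of classes.
-/

set_option autoImplicit false
set_option linter.unusedSectionVars false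

namespace Cfsg.Agent.Lib.Helper55_QDFusion

open Subgroup Cfsg.Agent.Lib.Helper86_QuasiDihedral Cfsg.Agent.Lib.Helper55_QDCoord

variable {G : Type*} [Group G] [Finite G] {S : Sylow 2 G} {K : ℕ} [NeZero K]
  (e : QD K ≃* ↥(S : Subgroup G))

theorem conj_inj {g x y : G} (h : g * x * g⁻¹ = g * y * g⁻¹) : x = y := by
  have e1 : g⁻¹ * (g * x * g⁻¹) * g = x := by group
  have e2 : g⁻¹ * (g * y * g⁻¹) * g = y := by group
  rw [← e1, ← e2, h]

theorem orderOf_conj' (x y : G) : orderOf (x⁻¹ * y * x) = orderOf y := by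
  have := orderOf_conj x⁻¹ y
  rwa [inv_inv] at this

theorem par_one' : par K (1 : ZMod (8 * K)) = 1 := map_one _

/-! ### `3`-cycles on the quaternion subgroups -/

theorem X_oo_mem_normalizer_Q (i : ZMod (8 * K)) :
    X e (QD.oo K) ∈ normalizer (Qsub e i : Set G) := by
  apply Helper50_Basic.mem_normalizer_of_map_conj_le
  rintro _ ⟨x, hx, rfl⟩
  show X e (QD.oo K) * x * (X e (QD.oo K))⁻¹ ∈ Qsub e i
  rcases (mem_Qsub e i x).mp hx with ⟨c, hc, rfl⟩ | ⟨c, hc, rfl⟩
  · rw [X_conj_X]; exact hx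
  · rw [X_conj_Y, mem_Qsub]
    right
    refine ⟨c + (1 - kap K) * QD.oo K, ?_, by ring_nf⟩
    have h1 := QD.two_mul_oo (K := K)
    have h2 := QD.two_mul_qq (K := K)
    have h3 := QD.one_sub_kap_mul_hh (K := K)
    linear_combination hc + 2 * (1 - kap K) * h1 + (1 - kap K) * h2 + h3

theorem exists_three_cycle_Q
    (hq : ∀ j, par K j = 1 → Nonempty (Qsub e j ≃* QuaternionGroup 2))
    (i : ZMod (8 * K)) (hi : par K i = 1) (h : QF e) :
    ∃ g ∈ normalizer (Qsub e i : Set G), inV e i (g * X e (QD.qq K) * g⁻¹) ∧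
      inW e i (g * Y e i * g⁻¹) := by
  obtain ⟨g, hgN, hgu⟩ := exists_normalizer_Q e hq i hi h
  have hmem : g * Y e i * g⁻¹ ∈ Qsub e i := (mem_normalizer_iff.mp hgN _).mp (Y_mem_Qsub e i)
  have ho : orderOf (g * Y e i * g⁻¹) = 4 := by rw [orderOf_conj, orderOf_Y_odd e i hi]
  have hinv : ∀ w : G, g * w⁻¹ * g⁻¹ = (g * w * g⁻¹)⁻¹ := fun w => by group
  rcases Qsub_order_four e i hi hmem ho with hU | hV | hW
  · -- `g` swaps the classes of `u` and `Y i`: use `g * b` with `b = X oo`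
    have hbN : X e (QD.oo K) ∈ normalizer (Qsub e i : Set G) := X_oo_mem_normalizer_Q e i
    have hbu : X e (QD.oo K) * X e (QD.qq K) * (X e (QD.oo K))⁻¹ = X e (QD.qq K) :=
      X_conj_X e _ _
    obtain ⟨D, hD, hbv⟩ : ∃ D, 2 * D = hh K ∧
        X e (QD.oo K) * Y e i * (X e (QD.oo K))⁻¹ = X e D * Y e i := by
      refine ⟨(1 - kap K) * QD.oo K, ?_, ?_⟩
      · have h1 := QD.two_mul_oo (K := K)
        have h2 := QD.one_sub_kap_mul_qq (K := K)
        linear_combination (1 - kap K) * h1 + h2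
      · rw [X_conj_Y, X_mul_Y, add_comm]
    refine ⟨g * X e (QD.oo K), mul_mem hgN hbN, ?_, ?_⟩
    · have e1 : g * X e (QD.oo K) * X e (QD.qq K) * (g * X e (QD.oo K))⁻¹ =
          g * (X e (QD.oo K) * X e (QD.qq K) * (X e (QD.oo K))⁻¹) * g⁻¹ := by group
      rw [e1, hbu]; exact hgu
    · have e1 : g * X e (QD.oo K) * Y e i * (g * X e (QD.oo K))⁻¹ =
          (g * X e D * g⁻¹) * (g * Y e i * g⁻¹) := by
        calc g * X e (QD.oo K) * Y e i * (g * X e (QD.oo K))⁻¹
            = g * (X e (QD.oo K) * Y e i * (X e (QD.oo K))⁻¹) * g⁻¹ := by group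
          _ = g * (X e D * Y e i) * g⁻¹ := by rw [hbv]
          _ = (g * X e D * g⁻¹) * (g * Y e i * g⁻¹) := by group
      rw [e1]
      refine inV_mul_inU e i ?_ hU
      rcases (inU_iff e _).mp ⟨D, hD, rfl⟩ with h1 | h1
      · rw [h1]; exact hgu
      · rw [h1, hinv]; exact inV_inv e i hi hgu
  · exfalso
    rcases (inV_iff e i hi _).mp hgu with h1 | h1 <;>
      rcases (inV_iff e i hi _).mp hV with h2 | h2
    · exact X_ne_Y e _ _ (conj_inj (h1.trans h2.symm))
    · have h3 : g * X e (QD.qq K) * g⁻¹ = g * (Y e i)⁻¹ * g⁻¹ := by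
        rw [h1, hinv, h2, inv_inv]
      have h4 := conj_inj h3
      rw [Y_inv_odd e i hi] at h4
      exact X_ne_Y e _ _ h4
    · have h3 : g * X e (QD.qq K) * g⁻¹ = g * (Y e i)⁻¹ * g⁻¹ := by
        rw [h1, hinv, h2]
      have h4 := conj_inj h3
      rw [Y_inv_odd e i hi] at h4
      exact X_ne_Y e _ _ h4
    · exact X_ne_Y e _ _ (conj_inj (h1.trans h2.symm))
  · exact ⟨g, hgN, hgu, hW⟩

/-! ### parity with respect to a subgroup of index two -/

theorem mul_mem_iff_of_relIndex_two {H L : Subgroup G} (h2 : H.relIndex L = 2) {a b : G}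
    (ha : a ∈ L) (hb : b ∈ L) : a * b ∈ H ↔ (a ∈ H ↔ b ∈ H) := by
  have := Subgroup.mul_mem_iff_of_index_two (H := H.subgroupOf L) h2 (a := ⟨a, ha⟩) (b := ⟨b, hb⟩)
  simpa [mem_subgroupOf] using this

theorem conj_mem_iff_of_relIndex_two {H L : Subgroup G} (h2 : H.relIndex L = 2) {g x : G}
    (hg : g ∈ L) (hx : x ∈ L) : g * x * g⁻¹ ∈ H ↔ x ∈ H := by
  rw [mul_mem_iff_of_relIndex_two h2 (mul_mem hg hx) (inv_mem hg),
    mul_mem_iff_of_relIndex_two h2 hg hx, inv_mem_iff]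
  tauto

/-- If `TF` holds, a subgroup `H` of index `2` in `L`, where `L` contains all squares and the
non-central involutions of `S`, contains these involutions. -/
theorem Y_even_mem_of_TF (h : TF e) (H L : Subgroup G) (h2 : H.relIndex L = 2)
    (hsq : ∀ g : G, g * g ∈ L) (hL : ∀ j, par K j = 0 → Y e j ∈ L)
    (i : ZMod (8 * K)) (hi : par K i = 0) : Y e i ∈ H := by
  obtain ⟨g₀, -, hz, ht⟩ := exists_three_cycle_T e i hi h
  have hzL : X e (hh K) ∈ L := by rw [← u_sq e]; exact hsq _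
  have htL := hL i hi
  have hi' : par K (i + hh K) = 0 := by rw [map_add, hi, par_hh, add_zero]
  have htzL := hL _ hi'
  have hgL := hsq g₀
  have c1 : g₀ * g₀ * X e (hh K) * (g₀ * g₀)⁻¹ = Y e (i + hh K) := by
    have : g₀ * g₀ * X e (hh K) * (g₀ * g₀)⁻¹ = g₀ * (g₀ * X e (hh K) * g₀⁻¹) * g₀⁻¹ := by group
    rw [this, hz, ht]
  have c2 : g₀ * g₀ * Y e (i + hh K) * (g₀ * g₀)⁻¹ = Y e i := by
    have e1 : g₀ * Y e (i + hh K) * g₀⁻¹ = X e (hh K) := by
      rw [← Y_mul_z]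
      have : g₀ * (Y e i * X e (hh K)) * g₀⁻¹ =
          (g₀ * Y e i * g₀⁻¹) * (g₀ * X e (hh K) * g₀⁻¹) := by group
      rw [this, ht, hz, Y_mul_Y]
      congr 1
      have h1 := hh_mul_of_par_zero K i hi
      have h3 := one_add_kap K
      linear_combination i * h3 + h1
    have : g₀ * g₀ * Y e (i + hh K) * (g₀ * g₀)⁻¹ =
        g₀ * (g₀ * Y e (i + hh K) * g₀⁻¹) * g₀⁻¹ := by group
    rw [this, e1, hz]
  have r1 := conj_mem_iff_of_relIndex_two h2 hgL hzL
  rw [c1] at r1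
  have r2 := conj_mem_iff_of_relIndex_two h2 hgL htzL
  rw [c2] at r2
  have r3 := mul_mem_iff_of_relIndex_two h2 htL hzL
  rw [Y_mul_z] at r3
  tauto

/-- If `QF` holds, a subgroup `H` of index `2` in `L`, where `L` contains all squares and the
elements `Y j` (`j` odd) of `S`, contains these elements. -/
theorem Y_odd_mem_of_QF (hq : ∀ j, par K j = 1 → Nonempty (Qsub e j ≃* QuaternionGroup 2))
    (h : QF e) (H L : Subgroup G) (h2 : H.relIndex L = 2)
    (hsq : ∀ g : G, g * g ∈ L) (hL : ∀ j, par K j = 1 → Y e j ∈ L)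
    (i : ZMod (8 * K)) (hi : par K i = 1) : Y e i ∈ H := by
  obtain ⟨g₀, -, hu, hv⟩ := exists_three_cycle_Q e hq i hi h
  have huL : X e (QD.qq K) ∈ L := by
    have : X e (QD.qq K) = X e (QD.oo K) * X e (QD.oo K) := by
      rw [X_mul_X, ← two_mul, QD.two_mul_oo]
    rw [this]; exact hsq _
  have hvL := hL i hi
  have hi' : par K (i + QD.qq K) = 1 := by rw [map_add, hi, QD.par_qq, add_zero]
  have hwL := hL _ hi'
  have hgL := hsq g₀
  have hinv : ∀ w : G, g₀ * w⁻¹ * g₀⁻¹ = (g₀ * w * g₀⁻¹)⁻¹ := fun w => by group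
  -- `g = g₀ * g₀` maps the class of `u` to the class of `w`
  have c1 : inW e i (g₀ * g₀ * X e (QD.qq K) * (g₀ * g₀)⁻¹) := by
    have : g₀ * g₀ * X e (QD.qq K) * (g₀ * g₀)⁻¹ =
        g₀ * (g₀ * X e (QD.qq K) * g₀⁻¹) * g₀⁻¹ := by group
    rw [this]
    rcases (inV_iff e i hi _).mp hu with h1 | h1
    · rw [h1]; exact hv
    · rw [h1, hinv]; exact inW_inv e i hi hv
  -- and the class of `Y i` to the class of `u`
  have c2 : inU e (g₀ * g₀ * Y e i * (g₀ * g₀)⁻¹) := by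
    have e0 : g₀ * g₀ * Y e i * (g₀ * g₀)⁻¹ = g₀ * (g₀ * Y e i * g₀⁻¹) * g₀⁻¹ := by group
    rw [e0]
    obtain ⟨d, hd, hd'⟩ := hv
    have e1 : Y e (i + d) = X e d * Y e i := by rw [X_mul_Y, add_comm]
    rw [hd', e1]
    have e2 : g₀ * (X e d * Y e i) * g₀⁻¹ = (g₀ * X e d * g₀⁻¹) * (g₀ * Y e i * g₀⁻¹) := by group
    rw [e2]
    refine inV_mul_inW e i hi ?_ ⟨d, hd, hd'⟩
    rcases (inU_iff e _).mp ⟨d, hd, rfl⟩ with h1 | h1
    · rw [h1]; exact hu
    · rw [h1, hinv]; exact inV_inv e i hi hu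
  have r1 := conj_mem_iff_of_relIndex_two h2 hgL huL
  rw [mem_iff_of_inW e H i hi c1] at r1
  have r2 := conj_mem_iff_of_relIndex_two h2 hgL hvL
  rw [mem_iff_of_inU e H c2] at r2
  have r3 := mul_mem_iff_of_relIndex_two h2 huL hvL
  rw [X_mul_Y, add_comm] at r3
  tauto

/-! ### powers of `Y 0` and `Y 1` -/

theorem pow_Y_zero_even {n : ℕ} (hn : Even n) : (Y e 0) ^ n = 1 := by
  obtain ⟨k, rfl⟩ := hn
  rw [← two_mul, pow_mul, pow_two, Y_sq_even e 0 (map_zero _), one_pow]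

theorem pow_Y_zero_odd {n : ℕ} (hn : Odd n) : (Y e 0) ^ n = Y e 0 := by
  obtain ⟨k, rfl⟩ := hn
  rw [pow_succ, pow_mul, pow_two, Y_sq_even e 0 (map_zero _), one_pow, one_mul]

theorem pow_Y_one (n : ℕ) :
    (Even n → (Y e 1) ^ n = 1 ∨ (Y e 1) ^ n = X e (hh K)) ∧
    (Odd n → (Y e 1) ^ n = Y e 1 ∨ (Y e 1) ^ n = (Y e 1)⁻¹) := by
  have ho : orderOf (Y e 1) = 4 := orderOf_Y_odd e 1 par_one'
  have h4 : (Y e 1) ^ 4 = 1 := by rw [← ho]; exact pow_orderOf_eq_one _
  have h2 : (Y e 1) ^ 2 = X e (hh K) := by rw [pow_two, Y_sq_odd e 1 par_one']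
  have h3 : (Y e 1) ^ 3 = (Y e 1)⁻¹ := by
    rw [eq_inv_iff_mul_eq_one, ← pow_succ]; exact h4
  have hmod : (Y e 1) ^ n = (Y e 1) ^ (n % 4) := by rw [← ho, pow_mod_orderOf]
  have hlt : n % 4 < 4 := Nat.mod_lt _ (by norm_num)
  constructor
  · intro hn
    have : n % 4 = 0 ∨ n % 4 = 2 := by
      obtain ⟨k, rfl⟩ := hn; omega
    rcases this with h | h
    · left; rw [hmod, h, pow_zero]
    · right; rw [hmod, h, h2]
  · intro hn
    have : n % 4 = 1 ∨ n % 4 = 3 := by
      obtain ⟨k, rfl⟩ := hn; omega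
    rcases this with h | h
    · left; rw [hmod, h, pow_one]
    · right; rw [hmod, h, h3]

theorem isConj_inv_inv {a b : G} (h : IsConj a b) : IsConj a⁻¹ b⁻¹ := by
  obtain ⟨c, hc⟩ := isConj_iff.mp h
  refine isConj_iff.mpr ⟨c, ?_⟩
  rw [← hc]; group

/-- a conjugate of `Y 1` or its inverse that is `u` or `u⁻¹` gives `QF` -/
theorem QF_of_conj {x w y : G} (hw : w = Y e 1 ∨ w = (Y e 1)⁻¹) (hy : inU e y)
    (hxy : y = x⁻¹ * w * x) : QF e := by
  have h1 : IsConj y w := isConj_iff.mpr ⟨x, by rw [hxy]; group⟩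
  have hu := isConj_u_inv e
  unfold QF
  rcases (inU_iff e y).mp hy with rfl | rfl <;> rcases hw with rfl | rfl
  · exact h1
  · have := isConj_inv_inv h1
    rw [inv_inv] at this
    exact hu.trans this
  · exact hu.trans h1
  · have := isConj_inv_inv h1
    rw [inv_inv, inv_inv] at this
    exact this

/-- a conjugate of `z` that is a non-central involution of `S` gives `TF` -/
theorem TF_of_conj {x : G} {j : ZMod (8 * K)} (hj : par K j = 0)
    (hxy : Y e j = x⁻¹ * X e (hh K) * x) : TF e := by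
  have h1 : IsConj (X e (hh K)) (Y e j) := isConj_iff.mpr ⟨x⁻¹, by rw [hxy]; group⟩
  exact h1.trans (isConj_Y e j 0 (by rw [hj, map_zero]))

/-- the transfer condition for `Y 0` -/
theorem cond_Y_zero (M : Subgroup G) (h : ¬ TF e) (hMY : ∀ j, par K j = 0 → Y e j ∉ M) :
    ∀ (x : G) (n : ℕ), x⁻¹ * (Y e 0) ^ n * x ∈ (S : Subgroup G) →
      (x⁻¹ * (Y e 0) ^ n * x ∈ M ↔ Even n) := by
  intro x n hx
  rcases Nat.even_or_odd n with hn | hn
  · rw [pow_Y_zero_even e hn, mul_one, inv_mul_cancel]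
    exact ⟨fun _ => hn, fun _ => one_mem _⟩
  · rw [pow_Y_zero_odd e hn] at hx ⊢
    have ho : orderOf (x⁻¹ * Y e 0 * x) = 2 := by
      rw [orderOf_conj', orderOf_Y_even e 0 (map_zero _)]
    constructor
    · intro hm
      exfalso
      rcases involution_cases e hx ho with h1 | ⟨j, hj, h1⟩
      · apply h
        unfold TF
        rw [isConj_iff]
        exact ⟨x, by rw [← h1]; group⟩
      · rw [h1] at hm
        exact hMY j hj hm
    · intro hev
      exact absurd hev (Nat.not_even_iff_odd.mpr hn)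

/-- the transfer condition for `Y 1` -/
theorem cond_Y_one (M : Subgroup G) (h : ¬ QF e) (hMz : X e (hh K) ∈ M)
    (hMY0 : (∀ j, par K j = 0 → Y e j ∈ M) ∨ ¬ TF e) (hMY1 : ∀ j, par K j = 1 → Y e j ∉ M) :
    ∀ (x : G) (n : ℕ), x⁻¹ * (Y e 1) ^ n * x ∈ (S : Subgroup G) →
      (x⁻¹ * (Y e 1) ^ n * x ∈ M ↔ Even n) := by
  intro x n hx
  rcases Nat.even_or_odd n with hn | hn
  · refine ⟨fun _ => hn, fun _ => ?_⟩
    rcases (pow_Y_one e n).1 hn with h1 | h1
    · rw [h1, mul_one, inv_mul_cancel]; exact one_mem _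
    · rw [h1] at hx ⊢
      have ho : orderOf (x⁻¹ * X e (hh K) * x) = 2 := by rw [orderOf_conj', orderOf_X_hh]
      rcases involution_cases e hx ho with h2 | ⟨j, hj, h2⟩
      · rw [h2]; exact hMz
      · rcases hMY0 with h3 | h3
        · rw [h2]; exact h3 j hj
        · exact absurd (TF_of_conj e hj h2.symm) h3
  · refine ⟨fun hm => ?_, fun hev => absurd hev (Nat.not_even_iff_odd.mpr hn)⟩
    exfalso
    have hw := (pow_Y_one e n).2 hn
    have ho : orderOf (x⁻¹ * (Y e 1) ^ n * x) = 4 := by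
      rw [orderOf_conj']
      rcases hw with h1 | h1
      · rw [h1]; exact orderOf_Y_odd e 1 par_one'
      · rw [h1, orderOf_inv]; exact orderOf_Y_odd e 1 par_one'
    rcases order_four_cases e hx ho with h2 | h2 | ⟨j, hj, h2⟩
    · have hy : inU e (x⁻¹ * Y e 1 ^ n * x) := by rw [inU_iff, h2]; exact Or.inl rfl
      exact h (QF_of_conj e hw hy rfl)
    · have hy : inU e (x⁻¹ * Y e 1 ^ n * x) := by rw [inU_iff, h2, X_inv]; exact Or.inr rfl
      exact h (QF_of_conj e hw hy rfl)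
    · rw [h2] at hm
      exact hMY1 j hj hm

/-! ### membership in the images of the maximal subgroups -/

theorem X_mem_img_qua (j : ZMod (8 * K)) : X e j ∈ img e (QD.quaSub K) ↔ par K j = 0 := by
  unfold X; rw [coe_mem_img, QD.r_mem_quaSub]

theorem Y_mem_img_qua (j : ZMod (8 * K)) : Y e j ∈ img e (QD.quaSub K) ↔ par K j = 1 := by
  unfold Y; rw [coe_mem_img, QD.s_mem_quaSub]

theorem X_mem_img_dih (j : ZMod (8 * K)) : X e j ∈ img e (QD.dihSub K) ↔ par K j = 0 := by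
  unfold X; rw [coe_mem_img, QD.r_mem_dihSub]

theorem Y_mem_img_dih (j : ZMod (8 * K)) : Y e j ∈ img e (QD.dihSub K) ↔ par K j = 0 := by
  unfold Y; rw [coe_mem_img, QD.s_mem_dihSub]

theorem X_mem_img_rot (j : ZMod (8 * K)) : X e j ∈ img e (Dk.rotSub (8 * K) (kap K)) := by
  unfold X; rw [coe_mem_img]; exact Dk.r_mem_rotSub j

theorem Y_not_mem_img_rot (j : ZMod (8 * K)) : Y e j ∉ img e (Dk.rotSub (8 * K) (kap K)) := by
  unfold Y; rw [coe_mem_img]; exact Dk.s_not_mem_rotSub j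

theorem zero_ne_one_zmod2 : (0 : ZMod 2) ≠ 1 := by decide

/-! ### the transfer applications -/

/-- without `TF`, there is a normal subgroup of index two avoiding `Y 0` -/
theorem exists_K_of_not_TF (h : ¬ TF e) :
    ∃ L : Subgroup G, L.Normal ∧ L.index = 2 ∧ Y e 0 ∉ L := by
  have hMi : (img e (QD.quaSub K)).relIndex (S : Subgroup G) = 2 := by
    rw [relIndex_img, QD.quaSub_index]
  apply Helper55_TransferGen.exists_normal_index_two S _ hMi
  apply cond_Y_zero e _ h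
  intro j hj hm
  rw [Y_mem_img_qua, hj] at hm
  exact zero_ne_one_zmod2 hm

/-- without `QF`, there is a normal subgroup of index two avoiding `Y 1` -/
theorem exists_K_of_not_QF (h : ¬ QF e) :
    ∃ L : Subgroup G, L.Normal ∧ L.index = 2 ∧ Y e 1 ∉ L := by
  have hMi : (img e (QD.dihSub K)).relIndex (S : Subgroup G) = 2 := by
    rw [relIndex_img, QD.dihSub_index]
  apply Helper55_TransferGen.exists_normal_index_two S _ hMi
  apply cond_Y_one e _ h
  · rw [X_mem_img_dih]; exact par_hh K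
  · left
    intro j hj
    rw [Y_mem_img_dih]; exact hj
  · intro j hj hm
    rw [Y_mem_img_dih, hj] at hm
    exact zero_ne_one_zmod2 hm.symm

/-- without `TF` and `QF`, there is a normal subgroup of index two avoiding `Y 0` and `Y 1`
and containing `X 1` -/
theorem exists_K_of_not_TF_QF (h1 : ¬ TF e) (h2 : ¬ QF e) :
    ∃ L : Subgroup G, L.Normal ∧ L.index = 2 ∧ Y e 0 ∉ L ∧ Y e 1 ∉ L ∧ X e 1 ∈ L := by
  have hMi : (img e (Dk.rotSub (8 * K) (kap K))).relIndex (S : Subgroup G) = 2 := by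
    rw [relIndex_img, Dk.rotSub_index]
  have hv0 := Helper55_TransferGen.transfer_sign_eq_neg_one S _ hMi (Y e 0)
    (cond_Y_zero e _ h1 (fun j _ => Y_not_mem_img_rot e j))
  have hv1 := Helper55_TransferGen.transfer_sign_eq_neg_one S _ hMi (Y e 1)
    (cond_Y_one e _ h2 (X_mem_img_rot e _) (Or.inr h1) (fun j _ => Y_not_mem_img_rot e j))
  obtain ⟨i1, i2⟩ := Helper55_Transfer.index_ker_eq_two_of_neg_one _ _ hv0
  refine ⟨_, inferInstance, i1, i2, ?_, ?_⟩
  · rw [MonoidHom.mem_ker, hv1]; decide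
  · have : X e 1 = Y e 1 * Y e 0 := by rw [Y_mul_Y, mul_zero, add_zero]
    rw [MonoidHom.mem_ker, this, map_mul, hv0, hv1]; decide

end Cfsg.Agent.Lib.Helper55_QDFusion
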