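import Mathlib
import Cfsg.Agent.Lib.Helper55_QDFusion2

/-!
Fusion in a finite group with a quasi-dihedral Sylow `2`-subgroup, part 3 (helper55):
the subgroups of index two, the counting of classes of involutions and of elements of order four,
and the four cases of the fusion pattern.
-/

set_option autoImplicit false
set_option linter.unusedSectionVars false

namespace Cfsg.Agent.Lib.Helper55_QDFusion

open Subgroup Cfsg.Agent.Lib.Helper86_QuasiDihedral Cfsg.Agent.Lib.Helper55_QDCoord

variable {G : Type*} [Group G] [Finite G] {S : Sylow 2 G} {K : ℕ} [NeZero K]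
  (e : QD K ≃* ↥(S : Subgroup G))

/-! ### subgroups of index two -/

theorem sq_mem_of_index_two (L : Subgroup G) (hL : L.index = 2) (g : G) : g * g ∈ L :=
  (Subgroup.mul_mem_iff_of_index_two hL).mpr Iff.rfl

theorem X_even_mem (L : Subgroup G) (hL : L.index = 2) (i : ZMod (8 * K)) (hi : par K i = 0) :
    X e i ∈ L := by
  obtain ⟨m, rfl⟩ := exists_two_mul_of_par K i hi
  rw [two_mul, ← X_mul_X]
  exact sq_mem_of_index_two L hL _

theorem X_odd_mem_iff (L : Subgroup G) (hL : L.index = 2) (i : ZMod (8 * K)) (hi : par K i = 1) :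
    X e i ∈ L ↔ X e 1 ∈ L := by
  have h1 : X e i = X e (i - 1) * X e 1 := by rw [X_mul_X, sub_add_cancel]
  have h2 : X e (i - 1) ∈ L :=
    X_even_mem e L hL (i - 1) (by rw [map_sub, hi, map_one, sub_self])
  rw [h1, _root_.mul_mem_cancel_left h2]

theorem Y_mem_iff_of_par (L : Subgroup G) (hL : L.index = 2) (i j : ZMod (8 * K))
    (h : par K i = par K j) : Y e i ∈ L ↔ Y e j ∈ L := by
  have hLn : L.Normal := Subgroup.normal_of_index_eq_two hL
  constructor
  · intro hi
    obtain ⟨m, hm⟩ := exists_X_conj_Y e i j h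
    rw [← hm]; exact hLn.conj_mem _ hi _
  · intro hj
    obtain ⟨m, hm⟩ := exists_X_conj_Y e j i h.symm
    rw [← hm]; exact hLn.conj_mem _ hj _

theorem inf_eq_img (L : Subgroup G) (A : Subgroup (QD K))
    (hX : ∀ i, X e i ∈ L ↔ Dk.r i ∈ A) (hY : ∀ i, Y e i ∈ L ↔ Dk.s i ∈ A) :
    (S : Subgroup G) ⊓ L = img e A := by
  ext x
  constructor
  · rintro ⟨hxS, hxL⟩
    rcases cases_mem e hxS with ⟨i, rfl⟩ | ⟨i, rfl⟩
    · exact (coe_mem_img e A _).mpr ((hX i).mp hxL)
    · exact (coe_mem_img e A _).mpr ((hY i).mp hxL)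
  · intro hx
    refine ⟨img_le e A hx, ?_⟩
    obtain ⟨a, ha, rfl⟩ := (mem_img e A x).mp hx
    rcases a with i | i
    · exact (hX i).mpr ha
    · exact (hY i).mpr ha

theorem par_cases' (i : ZMod (8 * K)) : par K i = 0 ∨ par K i = 1 := par_cases K i

/-- `QF` and `Y 0 ∉ L`: the Sylow subgroup of `L` is the quaternion maximal subgroup -/
theorem inf_eq_qua (L : Subgroup G) (hL : L.index = 2) (h0 : Y e 0 ∉ L) (hQF : QF e) :
    (S : Subgroup G) ⊓ L = img e (QD.quaSub K) := by
  have hLn : L.Normal := Subgroup.normal_of_index_eq_two hL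
  have huL : X e (QD.qq K) ∈ L := X_even_mem e L hL _ QD.par_qq
  have h1L : Y e 1 ∈ L := by
    obtain ⟨c, hc⟩ := isConj_iff.mp hQF
    rw [← hc]; exact hLn.conj_mem _ huL _
  have hX1 : X e 1 ∉ L := by
    have : Y e 1 = X e 1 * Y e 0 := by rw [X_mul_Y, add_zero]
    rw [this, Subgroup.mul_mem_iff_of_index_two hL] at h1L
    exact fun h => h0 (h1L.mp h)
  apply inf_eq_img
  · intro i
    rw [QD.r_mem_quaSub]
    rcases par_cases' i with h | h
    · exact ⟨fun _ => h, fun _ => X_even_mem e L hL i h⟩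
    · rw [X_odd_mem_iff e L hL i h, h]
      exact ⟨fun h' => absurd h' hX1, fun h' => absurd h'.symm zero_ne_one_zmod2⟩
  · intro i
    rw [QD.s_mem_quaSub]
    rcases par_cases' i with h | h
    · rw [Y_mem_iff_of_par e L hL i 0 (by rw [h, map_zero]), h]
      exact ⟨fun h' => absurd h' h0, fun h' => absurd h' zero_ne_one_zmod2⟩
    · rw [Y_mem_iff_of_par e L hL i 1 (by rw [h, map_one])]
      exact ⟨fun _ => h, fun _ => h1L⟩

/-- `TF` and `Y 1 ∉ L`: the Sylow subgroup of `L` is the dihedral maximal subgroup -/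
theorem inf_eq_dih (L : Subgroup G) (hL : L.index = 2) (h1 : Y e 1 ∉ L) (hTF : TF e) :
    (S : Subgroup G) ⊓ L = img e (QD.dihSub K) := by
  have hLn : L.Normal := Subgroup.normal_of_index_eq_two hL
  have hzL : X e (hh K) ∈ L := X_even_mem e L hL _ (par_hh K)
  have h0L : Y e 0 ∈ L := by
    obtain ⟨c, hc⟩ := isConj_iff.mp hTF
    rw [← hc]; exact hLn.conj_mem _ hzL _
  have hX1 : X e 1 ∉ L := by
    have : Y e 1 = X e 1 * Y e 0 := by rw [X_mul_Y, add_zero]
    rw [this, _root_.mul_mem_cancel_right h0L] at h1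
    exact h1
  apply inf_eq_img
  · intro i
    rw [QD.r_mem_dihSub]
    rcases par_cases' i with h | h
    · exact ⟨fun _ => h, fun _ => X_even_mem e L hL i h⟩
    · rw [X_odd_mem_iff e L hL i h, h]
      exact ⟨fun h' => absurd h' hX1, fun h' => absurd h'.symm zero_ne_one_zmod2⟩
  · intro i
    rw [QD.s_mem_dihSub]
    rcases par_cases' i with h | h
    · rw [Y_mem_iff_of_par e L hL i 0 (by rw [h, map_zero])]
      exact ⟨fun _ => h, fun _ => h0L⟩
    · rw [Y_mem_iff_of_par e L hL i 1 (by rw [h, map_one]), h]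
      exact ⟨fun h' => absurd h' h1, fun h' => absurd h'.symm zero_ne_one_zmod2⟩

/-- `Y 0, Y 1 ∉ L` and `X 1 ∈ L`: the Sylow subgroup of `L` is the cyclic maximal subgroup -/
theorem inf_eq_rot (L : Subgroup G) (hL : L.index = 2) (h0 : Y e 0 ∉ L) (h1 : Y e 1 ∉ L)
    (hX1 : X e 1 ∈ L) :
    (S : Subgroup G) ⊓ L = img e (Dk.rotSub (8 * K) (kap K)) := by
  apply inf_eq_img
  · intro i
    refine ⟨fun _ => Dk.r_mem_rotSub i, fun _ => ?_⟩
    rcases par_cases' i with h | h
    · exact X_even_mem e L hL i h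
    · rw [X_odd_mem_iff e L hL i h]; exact hX1
  · intro i
    refine ⟨fun h' => ?_, fun h' => absurd h' (Dk.s_not_mem_rotSub i)⟩
    exfalso
    rcases par_cases' i with h | h
    · rw [Y_mem_iff_of_par e L hL i 0 (by rw [h, map_zero])] at h'
      exact h0 h'
    · rw [Y_mem_iff_of_par e L hL i 1 (by rw [h, map_one])] at h'
      exact h1 h'

/-- the Sylow `2`-subgroups of a normal subgroup `L` with `S ⊓ L = img e A` are isomorphic to `A` -/
theorem sylow_equiv (L : Subgroup G) [L.Normal] (A : Subgroup (QD K))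
    (hA : (S : Subgroup G) ⊓ L = img e A) (P : Sylow 2 L) : Nonempty ((P : Subgroup L) ≃* A) := by
  have : Fact (Nat.Prime 2) := ⟨Nat.prime_two⟩
  have e1 : (P : Subgroup L) ≃* (Helper32_Sylow.sylowInfNormal S L : Subgroup L) :=
    Sylow.equiv P (Helper32_Sylow.sylowInfNormal S L)
  have e2 : (Helper32_Sylow.sylowInfNormal S L : Subgroup L) ≃*
      (((S : Subgroup G) ⊓ L).subgroupOf L : Subgroup L) :=
    MulEquiv.subgroupCongr (Helper32_Sylow.coe_sylowInfNormal S L)
  have e3 : (((S : Subgroup G) ⊓ L).subgroupOf L : Subgroup L) ≃*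
      ((S : Subgroup G) ⊓ L : Subgroup G) := Subgroup.subgroupOfEquivOfLe inf_le_right
  have e4 : ((S : Subgroup G) ⊓ L : Subgroup G) ≃* (img e A : Subgroup G) :=
    MulEquiv.subgroupCongr hA
  exact ⟨((e1.trans e2).trans (e3.trans e4)).trans (imgEquiv e A).symm⟩

/-- a subgroup of index two whose Sylow subgroup is the cyclic maximal subgroup of `S` -/
theorem hasNormalPComplement_of_inf_rot (L : Subgroup G) (hL : L.index = 2)
    (hA : (S : Subgroup G) ⊓ L = img e (Dk.rotSub (8 * K) (kap K))) :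
    Cfsg.HasNormalPComplement 2 G := by
  have : Fact (Nat.Prime 2) := ⟨Nat.prime_two⟩
  have hLn : L.Normal := Subgroup.normal_of_index_eq_two hL
  obtain ⟨φ⟩ := sylow_equiv e L _ hA (Helper32_Sylow.sylowInfNormal S L)
  have hcyc : IsCyclic (Helper32_Sylow.sylowInfNormal S L : Subgroup L) := by
    have := Dk.rotSub_isCyclic (N := 8 * K) (κ := kap K)
    exact (MulEquiv.isCyclic φ).mpr this
  have h1 : Helper35_FrobeniusNPC.HasNPC 2 L :=
    Helper55_DihedralNPC.hasNPC_of_isCyclic_sylow _ hcyc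
  have h2 : Helper35_FrobeniusNPC.HasNPC 2 G :=
    Helper55_DihedralNPC.hasNPC_of_normal_of_index_pow L 1 (by rw [hL, pow_one]) h1
  obtain ⟨N, hNn, hNc, n, hNi⟩ := h2
  exact ⟨S, N, hNn, Helper35_FrobeniusNPC.isComplement'_of_npc hNc hNi S⟩

/-! ### counting classes -/

theorem card_classes_eq_one {G : Type*} [Group G] (P : G → Prop) (s : G) (hs : P s)
    (h : ∀ t, P t → IsConj t s) :
    Nat.card {C : ConjClasses G // ∃ t : G, P t ∧ ConjClasses.mk t = C} = 1 := by
  have hset : {C : ConjClasses G | ∃ t : G, P t ∧ ConjClasses.mk t = C} =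
      {ConjClasses.mk s} := by
    ext C
    simp only [Set.mem_setOf_eq, Set.mem_singleton_iff]
    constructor
    · rintro ⟨t, ht, rfl⟩
      exact ConjClasses.mk_eq_mk_iff_isConj.mpr (h t ht)
    · rintro rfl
      exact ⟨s, hs, rfl⟩
  show Nat.card ↥{C : ConjClasses G | ∃ t : G, P t ∧ ConjClasses.mk t = C} = 1
  rw [Nat.card_coe_set_eq, hset, Set.ncard_singleton]

theorem exists_conj_mem_S (x : G) (k : ℕ) (hx : orderOf x = 2 ^ k) :
    ∃ g : G, g * x * g⁻¹ ∈ (S : Subgroup G) := by
  have : Fact (Nat.Prime 2) := ⟨Nat.prime_two⟩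
  have hp : IsPGroup 2 (zpowers x) := IsPGroup.of_card (n := k) (by rw [Nat.card_zpowers, hx])
  obtain ⟨c, -, hc⟩ := Helper32_Sylow.sylow_conj_into ⊤ S le_top (zpowers x) le_top hp
  exact ⟨c, hc x (mem_zpowers x)⟩

theorem involution_isConj (t : G) (ht : orderOf t = 2) :
    IsConj t (X e (hh K)) ∨ IsConj t (Y e 0) := by
  obtain ⟨g, hg⟩ := exists_conj_mem_S (S := S) t 1 (by rw [ht, pow_one])
  have h1 : IsConj t (g * t * g⁻¹) := isConj_iff.mpr ⟨g, rfl⟩
  have ho : orderOf (g * t * g⁻¹) = 2 := by rw [orderOf_conj, ht]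
  rcases involution_cases' e hg ho with h2 | h2
  · left; rw [← h2]; exact h1
  · right; exact h1.trans h2.symm

theorem order_four_isConj (t : G) (ht : orderOf t = 4) :
    IsConj t (X e (QD.qq K)) ∨ IsConj t (Y e 1) := by
  obtain ⟨g, hg⟩ := exists_conj_mem_S (S := S) t 2 (by rw [ht]; norm_num)
  have h1 : IsConj t (g * t * g⁻¹) := isConj_iff.mpr ⟨g, rfl⟩
  have ho : orderOf (g * t * g⁻¹) = 4 := by rw [orderOf_conj, ht]
  rcases order_four_cases' e hg ho with h2 | h2 | h2
  · left; rw [← h2]; exact h1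
  · left
    rw [h2] at h1
    exact h1.trans (isConj_u_inv e).symm
  · right; exact h1.trans h2.symm

theorem count_involutions_of_TF (h : TF e) :
    Nat.card {C : ConjClasses G // ∃ t : G, orderOf t = 2 ∧ ConjClasses.mk t = C} = 1 := by
  apply card_classes_eq_one (fun t => orderOf t = 2) (X e (hh K)) (orderOf_X_hh e)
  intro t ht
  rcases involution_isConj e t ht with h1 | h1
  · exact h1
  · exact h1.trans h.symm

theorem count_involutions_of_not_TF (h : ¬ TF e) :
    Nat.card {C : ConjClasses G // ∃ t : G, orderOf t = 2 ∧ ConjClasses.mk t = C} = 2 :=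
  card_classes_eq_two (fun t => orderOf t = 2) (X e (hh K)) (Y e 0) (orderOf_X_hh e)
    (orderOf_Y_even e 0 (map_zero _)) (involution_isConj e) h

theorem count_four_of_QF (h : QF e) :
    Nat.card {C : ConjClasses G // ∃ t : G, orderOf t = 4 ∧ ConjClasses.mk t = C} = 1 := by
  apply card_classes_eq_one (fun t => orderOf t = 4) (X e (QD.qq K)) (orderOf_X_qq e)
  intro t ht
  rcases order_four_isConj e t ht with h1 | h1
  · exact h1
  · exact h1.trans h.symm

theorem count_four_of_not_QF (h : ¬ QF e) :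
    Nat.card {C : ConjClasses G // ∃ t : G, orderOf t = 4 ∧ ConjClasses.mk t = C} = 2 :=
  card_classes_eq_two (fun t => orderOf t = 4) (X e (QD.qq K)) (Y e 1) (orderOf_X_qq e)
    (orderOf_Y_odd e 1 par_one') (order_four_isConj e) h

/-! ### the centre is weakly closed when `TF` fails -/

theorem mem_center_map (x : G) :
    x ∈ (Subgroup.center (S : Subgroup G)).map (S : Subgroup G).subtype ↔
      x = 1 ∨ x = X e (hh K) := by
  rw [map_center_subtype]
  constructor
  · rintro ⟨hxS, hxC⟩
    have hxC' : x ∈ centralizer ((S : Subgroup G) : Set G) := hxC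
    rw [mem_centralizer_iff] at hxC'
    rcases cases_mem e hxS with ⟨i, rfl⟩ | ⟨i, rfl⟩
    · have h1 := hxC' (Y e 0) (Y_mem e 0)
      rw [Y_mul_X, X_mul_Y, zero_add, add_zero] at h1
      have h2 := Y_injective e h1
      have h3 : (1 - kap K) * i = 0 := by linear_combination -h2
      rw [one_sub_kap_mul_eq_zero_iff K, two_mul_eq_zero_iff K] at h3
      rcases h3 with rfl | rfl
      · left; exact X_zero e
      · right; rfl
    · exfalso
      have h1 := hxC' (X e 1) (X_mem e 1)
      rw [X_mul_Y, Y_mul_X, mul_one] at h1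
      have h2 := Y_injective e h1
      have h3 : kap K = 1 := by linear_combination -h2
      exact kap_ne_one K h3
  · rintro (rfl | rfl)
    · exact one_mem _
    · refine ⟨X_mem e _, ?_⟩
      show X e (hh K) ∈ centralizer ((S : Subgroup G) : Set G)
      rw [mem_centralizer_iff]
      intro y hy
      exact X_hh_comm e hy

theorem isWeaklyClosed_center (h : ¬ TF e) :
    Cfsg.IsWeaklyClosed ((Subgroup.center (S : Subgroup G)).map (S : Subgroup G).subtype)
      (S : Subgroup G) := by
  refine ⟨?_, ?_⟩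
  · intro x hx
    rcases (mem_center_map e x).mp hx with rfl | rfl
    · exact one_mem _
    · exact X_mem e _
  · intro g hg
    have hzS : g * X e (hh K) * g⁻¹ ∈ (S : Subgroup G) :=
      hg ⟨X e (hh K), (mem_center_map e _).mpr (Or.inr rfl), rfl⟩
    have ho : orderOf (g * X e (hh K) * g⁻¹) = 2 := by rw [orderOf_conj, orderOf_X_hh]
    have hz : g * X e (hh K) * g⁻¹ = X e (hh K) := by
      rcases involution_cases e hzS ho with h1 | ⟨j, hj, h1⟩
      · exact h1
      · exfalso
        apply h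
        have h2 : IsConj (X e (hh K)) (Y e j) := isConj_iff.mpr ⟨g, h1⟩
        exact h2.trans (isConj_Y e j 0 (by rw [hj, map_zero]))
    ext x
    constructor
    · rintro ⟨w, hw, rfl⟩
      rw [mem_center_map e]
      rcases (mem_center_map e w).mp hw with rfl | rfl
      · left; simp
      · right; exact hz
    · intro hx
      rcases (mem_center_map e x).mp hx with rfl | rfl
      · exact one_mem _
      · exact ⟨X e (hh K), (mem_center_map e _).mpr (Or.inr rfl), hz⟩

end Cfsg.Agent.Lib.Helper55_QDFusion
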