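import Mathlib
import Cfsg.Agent.Lib.Helper55_QDFusion3

/-!
Fusion in a finite group with a quasi-dihedral Sylow `2`-subgroup, part 4 (helper55):
the indices `|N(T) : C(T)|` and `|N(Q) : Q C(Q)|` and their relation with the fusion patterns
`TF`, `QF`.
-/

set_option autoImplicit false
set_option linter.unusedSectionVars false

namespace Cfsg.Agent.Lib.Helper55_QDFusion

open Subgroup Cfsg.Agent.Lib.Helper86_QuasiDihedral Cfsg.Agent.Lib.Helper55_QDCoord

variable {G : Type*} [Group G] [Finite G] {S : Sylow 2 G} {K : ℕ} [NeZero K]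
  (e : QD K ≃* ↥(S : Subgroup G))

theorem conj_eq_iff_comm {b x : G} : b * x * b⁻¹ = x ↔ b * x = x * b := by
  constructor
  · intro h
    have : b * x = (b * x * b⁻¹) * b := by group
    rw [this, h]
  · intro h
    rw [h]; group

/-! ### the four-subgroups -/

theorem X_qq_mem_normalizer_T (i : ZMod (8 * K)) :
    X e (QD.qq K) ∈ normalizer (Tsub e i : Set G) := by
  apply Helper50_Basic.mem_normalizer_of_map_conj_le
  rintro _ ⟨x, hx, rfl⟩
  show X e (QD.qq K) * x * (X e (QD.qq K))⁻¹ ∈ Tsub e i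
  rcases (mem_Tsub e i x).mp hx with ⟨c, hc, rfl⟩ | ⟨c, hc, rfl⟩
  · rw [X_conj_X]; exact hx
  · rw [X_conj_Y, QD.one_sub_kap_mul_qq, mem_Tsub]
    right
    refine ⟨c + hh K, ?_, by ring_nf⟩
    have := hh_add_hh K
    linear_combination hc + this

theorem mem_centralizer_T (i : ZMod (8 * K)) (b : G) :
    b ∈ centralizer (Tsub e i : Set G) ↔
      b * X e (hh K) * b⁻¹ = X e (hh K) ∧ b * Y e i * b⁻¹ = Y e i := by
  rw [mem_centralizer_iff]
  constructor
  · intro h
    refine ⟨conj_eq_iff_comm.mpr (h _ (z_mem_Tsub e i)).symm,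
      conj_eq_iff_comm.mpr (h _ (Y_mem_Tsub e i)).symm⟩
  · rintro ⟨h1, h2⟩ x hx
    have c1 := conj_eq_iff_comm.mp h1
    have c2 := conj_eq_iff_comm.mp h2
    rcases (mem_Tsub' e i x).mp hx with rfl | rfl | rfl | rfl
    · simp
    · exact c1.symm
    · exact c2.symm
    · rw [← Y_mul_z, mul_assoc, ← c1, ← mul_assoc, ← c2, mul_assoc]

theorem z_ne_Y (j : ZMod (8 * K)) : X e (hh K) ≠ Y e j := X_ne_Y e _ _

/-- `|N(T) : C(T)| = 2 * |N(T) : N(T) ∩ C(z)|` -/
theorem relIndex_T (i : ZMod (8 * K)) (hi : par K i = 0) :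
    (centralizer (Tsub e i : Set G)).relIndex (normalizer (Tsub e i : Set G)) =
      2 * (normalizer (Tsub e i : Set G) ⊓ centralizer {X e (hh K)}).relIndex
        (normalizer (Tsub e i : Set G)) := by
  have hCN : centralizer (Tsub e i : Set G) ≤
      normalizer (Tsub e i : Set G) ⊓ centralizer {X e (hh K)} := by
    refine le_inf (Subgroup.centralizer_le_normalizer _) ?_
    apply Subgroup.centralizer_le
    intro x hx
    rw [Set.mem_singleton_iff] at hx
    rw [hx]; exact z_mem_Tsub e i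
  have h2 : (centralizer (Tsub e i : Set G)).relIndex
      (normalizer (Tsub e i : Set G) ⊓ centralizer {X e (hh K)}) = 2 := by
    rw [relIndex_eq_two_iff]
    refine ⟨X e (QD.qq K), ⟨X_qq_mem_normalizer_T e i, le_centralizer_z e (X_mem e _)⟩, ?_⟩
    rintro b ⟨hbN, hbz⟩
    have hbz' : b * X e (hh K) * b⁻¹ = X e (hh K) := by
      rw [conj_eq_iff_comm]
      exact (mem_centralizer_iff.mp hbz _ rfl).symm
    have hmem : b * Y e i * b⁻¹ ∈ Tsub e i := (mem_normalizer_iff.mp hbN _).mp (Y_mem_Tsub e i)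
    have haY : X e (QD.qq K) * Y e i * (X e (QD.qq K))⁻¹ = Y e (i + hh K) := by
      rw [X_conj_Y, QD.one_sub_kap_mul_qq]
    have haz : X e (QD.qq K) * X e (hh K) * (X e (QD.qq K))⁻¹ = X e (hh K) := X_conj_X e _ _
    have hba_z : b * X e (QD.qq K) * X e (hh K) * (b * X e (QD.qq K))⁻¹ = X e (hh K) := by
      have e1 : b * X e (QD.qq K) * X e (hh K) * (b * X e (QD.qq K))⁻¹ =
          b * (X e (QD.qq K) * X e (hh K) * (X e (QD.qq K))⁻¹) * b⁻¹ := by group
      rw [e1, haz, hbz']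
    have hba_t : b * X e (QD.qq K) * Y e i * (b * X e (QD.qq K))⁻¹ =
        (b * Y e i * b⁻¹) * X e (hh K) := by
      have e1 : b * X e (QD.qq K) * Y e i * (b * X e (QD.qq K))⁻¹ =
          b * (X e (QD.qq K) * Y e i * (X e (QD.qq K))⁻¹) * b⁻¹ := by group
      rw [e1, haY, ← Y_mul_z]
      have e2 : b * (Y e i * X e (hh K)) * b⁻¹ = (b * Y e i * b⁻¹) * (b * X e (hh K) * b⁻¹) := by
        group
      rw [e2, hbz']
    have hne : Y e i ≠ Y e (i + hh K) := by
      intro h
      have := Y_injective e h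
      have h0 : hh K = 0 := by linear_combination -this
      exact hh_ne_zero K h0
    rw [mem_centralizer_T, mem_centralizer_T, hba_t]
    rcases (mem_Tsub' e i _).mp hmem with h1 | h1 | h1 | h1
    · exfalso
      apply Y_ne_one e i
      have : b⁻¹ * (b * Y e i * b⁻¹) * b = 1 := by rw [h1]; group
      rw [← this]; group
    · exfalso
      have : b * Y e i * b⁻¹ = b * X e (hh K) * b⁻¹ := by rw [h1, hbz']
      exact z_ne_Y e i (conj_inj this).symm
    · -- `b` centralizes `T`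
      right
      refine ⟨⟨hbz', h1⟩, ?_⟩
      rintro ⟨-, h2⟩
      rw [h1, Y_mul_z] at h2
      exact hne h2.symm
    · -- `b` swaps `Y i` and `Y (i + hh)`
      left
      refine ⟨⟨hba_z, ?_⟩, ?_⟩
      · rw [h1, Y_mul_z]
        congr 1
        have := hh_add_hh K
        linear_combination this
      · rintro ⟨-, h2⟩
        rw [h1] at h2
        exact hne h2.symm
  rw [← relIndex_mul_relIndex _ _ _ hCN inf_le_left, h2]

theorem normalizer_T_le_iff (i : ZMod (8 * K)) (hi : par K i = 0) :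
    normalizer (Tsub e i : Set G) ≤ normalizer (Tsub e i : Set G) ⊓ centralizer {X e (hh K)} ↔
      ¬ TF e := by
  constructor
  · intro h hTF
    obtain ⟨g, hgN, hg⟩ := exists_normalizer_T e i hi hTF
    have h1 := (h hgN).2
    have h2 : g * X e (hh K) * g⁻¹ = X e (hh K) := by
      rw [conj_eq_iff_comm]
      exact (mem_centralizer_iff.mp h1 _ rfl).symm
    rw [hg] at h2
    exact z_ne_Y e i h2.symm
  · intro h g hg
    have hgc : g ∈ centralizer {X e (hh K)} := by
      by_contra hc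
      apply h
      apply TF_of_normalizer e i hi g hg
      intro h2
      apply hc
      rw [mem_centralizer_iff]
      intro y hy
      rw [Set.mem_singleton_iff] at hy
      rw [hy]
      exact (conj_eq_iff_comm.mp h2).symm
    exact ⟨hg, hgc⟩

theorem relIndex_T_eq_two_iff (i : ZMod (8 * K)) (hi : par K i = 0) :
    (centralizer (Tsub e i : Set G)).relIndex (normalizer (Tsub e i : Set G)) = 2 ↔ ¬ TF e := by
  rw [relIndex_T e i hi, ← normalizer_T_le_iff e i hi, ← relIndex_eq_one]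
  omega

theorem TF_of_relIndex_T_eq_six (i : ZMod (8 * K)) (hi : par K i = 0)
    (h : (centralizer (Tsub e i : Set G)).relIndex (normalizer (Tsub e i : Set G)) = 6) :
    TF e := by
  by_contra hc
  rw [(relIndex_T_eq_two_iff e i hi).mpr hc] at h
  omega

/-! ### the quaternion subgroups -/

theorem inU_mul_inW (i : ZMod (8 * K)) {x y : G} (hx : inU e x) (hy : inW e i y) :
    inV e i (x * y) := by
  obtain ⟨d', hd', rfl⟩ := hx
  obtain ⟨d, hd, rfl⟩ := hy
  refine ⟨d' + d, ?_, ?_⟩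
  · have := hh_add_hh K
    linear_combination hd + hd' + this
  · rw [X_mul_Y]
    congr 1
    ring

theorem not_inV_inW (i : ZMod (8 * K)) {x : G} (h1 : inV e i x) (h2 : inW e i x) : False := by
  obtain ⟨d, hd, rfl⟩ := h1
  obtain ⟨d', hd', h⟩ := h2
  have h3 := Y_injective e h
  have h4 : d = d' := by linear_combination h3
  rw [h4, hd'] at hd
  exact hh_ne_zero K hd

theorem not_inU_inV (i : ZMod (8 * K)) {x : G} (h1 : inU e x) (h2 : inV e i x) : False := by
  obtain ⟨d, -, rfl⟩ := h1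
  obtain ⟨d', -, h⟩ := h2
  exact X_ne_Y e _ _ h

theorem not_inU_inW (i : ZMod (8 * K)) {x : G} (h1 : inU e x) (h2 : inW e i x) : False := by
  obtain ⟨d, -, rfl⟩ := h1
  obtain ⟨d', -, h⟩ := h2
  exact X_ne_Y e _ _ h

/-- an element of order four of a cyclic group of order four is a generator or its inverse -/
theorem eq_or_eq_inv_of_mem_zpowers {v x : G} (hv : orderOf v = 4) (hx : x ∈ zpowers v)
    (h4 : orderOf x = 4) : x = v ∨ x = v⁻¹ := by
  obtain ⟨k, rfl⟩ := mem_zpowers_iff.mp hx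
  have hmod : v ^ k = v ^ (k % 4) := by
    have := zpow_mod_orderOf v k
    rw [hv] at this
    exact this.symm
  have h0 : 0 ≤ k % 4 := Int.emod_nonneg _ (by norm_num)
  have h1 : k % 4 < 4 := Int.emod_lt_of_pos _ (by norm_num)
  have hv4 : v ^ (4 : ℕ) = 1 := by rw [← hv]; exact pow_orderOf_eq_one _
  obtain ⟨m, hm⟩ : ∃ m : ℕ, k % 4 = m := ⟨(k % 4).toNat, (Int.toNat_of_nonneg h0).symm⟩
  rw [hmod, hm, zpow_natCast] at h4 ⊢
  have hm4 : m < 4 := by omega
  interval_cases m
  · rw [pow_zero, orderOf_one] at h4; omega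
  · left; rw [pow_one]
  · exfalso
    have : orderOf (v ^ 2) ∣ 2 := by
      apply orderOf_dvd_of_pow_eq_one
      rw [← pow_mul]; exact hv4
    rw [h4] at this
    omega
  · right
    rw [eq_inv_iff_mul_eq_one, ← pow_succ]; exact hv4

theorem mem_normalizer_zpowers_of_conj {b v : G} (h : b * v * b⁻¹ = v ∨ b * v * b⁻¹ = v⁻¹) :
    b ∈ normalizer (zpowers v : Set G) := by
  apply Helper50_Basic.mem_normalizer_of_map_conj_le
  rw [MonoidHom.map_zpowers, zpowers_le]
  show b * v * b⁻¹ ∈ _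
  rcases h with h | h
  · rw [h]; exact mem_zpowers _
  · rw [h]; exact inv_mem (mem_zpowers _)

theorem mem_normalizer_zpowers_u (b : G) :
    b ∈ normalizer (zpowers (X e (QD.qq K)) : Set G) ↔ inU e (b * X e (QD.qq K) * b⁻¹) := by
  constructor
  · intro h
    apply inU_of_mem_zpowers
    · exact (mem_normalizer_iff.mp h _).mp (mem_zpowers _)
    · rw [orderOf_conj, orderOf_X_qq]
  · intro h
    exact mem_normalizer_zpowers_of_conj ((inU_iff e _).mp h)

theorem mem_normalizer_zpowers_v (i : ZMod (8 * K)) (hi : par K i = 1) (b : G) :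
    b ∈ normalizer (zpowers (Y e i) : Set G) ↔ inV e i (b * Y e i * b⁻¹) := by
  constructor
  · intro h
    rw [inV_iff e i hi]
    apply eq_or_eq_inv_of_mem_zpowers (orderOf_Y_odd e i hi)
    · exact (mem_normalizer_iff.mp h _).mp (mem_zpowers _)
    · rw [orderOf_conj, orderOf_Y_odd e i hi]
  · intro h
    exact mem_normalizer_zpowers_of_conj ((inV_iff e i hi _).mp h)

theorem mem_centralizer_Q (i : ZMod (8 * K)) (b : G) :
    b ∈ centralizer (Qsub e i : Set G) ↔
      b * X e (QD.qq K) * b⁻¹ = X e (QD.qq K) ∧ b * Y e i * b⁻¹ = Y e i := by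
  rw [mem_centralizer_iff]
  constructor
  · intro h
    exact ⟨conj_eq_iff_comm.mpr (h _ (u_mem_Qsub e i)).symm,
      conj_eq_iff_comm.mpr (h _ (Y_mem_Qsub e i)).symm⟩
  · rintro ⟨h1, h2⟩ x hx
    have c1 := conj_eq_iff_comm.mp h1
    have c2 := conj_eq_iff_comm.mp h2
    -- `b` commutes with the powers of `u`
    have hXc : ∀ c : ZMod (8 * K), 4 * c = 0 → X e c * b = b * X e c := by
      intro c hc
      have hz : X e (hh K) * b = b * X e (hh K) := by
        rw [← u_sq e, mul_assoc, ← c1, ← mul_assoc, ← c1, mul_assoc]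
      rcases (QD.four_mul_eq_zero_iff c).mp hc with rfl | rfl | rfl | rfl
      · rw [X_zero]; simp
      · exact hz
      · exact c1.symm
      · rw [← X_inv]
        have : (X e (QD.qq K))⁻¹ * b = (X e (QD.qq K))⁻¹ * (b * X e (QD.qq K)) * (X e (QD.qq K))⁻¹ := by
          group
        rw [this, c1]; group
    rcases (mem_Qsub e i x).mp hx with ⟨c, hc, rfl⟩ | ⟨c, hc, rfl⟩
    · exact hXc c hc
    · have e1 : Y e (i + c) = X e c * Y e i := by rw [X_mul_Y, add_comm]
      rw [e1, mul_assoc, ← c2, ← mul_assoc, hXc c hc, mul_assoc]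

theorem u_conj_v (i : ZMod (8 * K)) (hi : par K i = 1) :
    X e (QD.qq K) * Y e i * (X e (QD.qq K))⁻¹ = (Y e i)⁻¹ := by
  rw [X_conj_Y, QD.one_sub_kap_mul_qq, Y_inv_odd e i hi]

theorem v_conj_u (i : ZMod (8 * K)) :
    Y e i * X e (QD.qq K) * (Y e i)⁻¹ = (X e (QD.qq K))⁻¹ := by
  rw [Y_conj_X, QD.kap_mul_qq, X_inv]

/-- `Q C(Q) = N(⟨u⟩) ∩ N(⟨v⟩)` -/
theorem sup_centralizer_Q (i : ZMod (8 * K)) (hi : par K i = 1) :
    Qsub e i ⊔ centralizer (Qsub e i : Set G) =
      normalizer (zpowers (X e (QD.qq K)) : Set G) ⊓ normalizer (zpowers (Y e i) : Set G) := by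
  apply le_antisymm
  · apply sup_le
    · intro x hx
      refine ⟨S_le_normalizer_u e (Qsub_le e i hx), ?_⟩
      show x ∈ normalizer (zpowers (Y e i) : Set G)
      rw [mem_normalizer_zpowers_v e i hi]
      exact Qsub_conj_v e i hx
    · intro c hc
      obtain ⟨h1, h2⟩ := (mem_centralizer_Q e i c).mp hc
      refine ⟨?_, ?_⟩
      · show c ∈ normalizer (zpowers (X e (QD.qq K)) : Set G)
        exact mem_normalizer_zpowers_of_conj (Or.inl h1)
      · show c ∈ normalizer (zpowers (Y e i) : Set G)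
        exact mem_normalizer_zpowers_of_conj (Or.inl h2)
  · rintro b ⟨hbu, hbv⟩
    have hbu' : b ∈ normalizer (zpowers (X e (QD.qq K)) : Set G) := hbu
    have hbv' : b ∈ normalizer (zpowers (Y e i) : Set G) := hbv
    rw [mem_normalizer_zpowers_u] at hbu'
    rw [mem_normalizer_zpowers_v e i hi] at hbv'
    -- first make `b` centralize `u`
    obtain ⟨q₁, hq₁, h1u, h1v⟩ : ∃ q₁ ∈ Qsub e i,
        (q₁ * b) * X e (QD.qq K) * (q₁ * b)⁻¹ = X e (QD.qq K) ∧
        inV e i ((q₁ * b) * Y e i * (q₁ * b)⁻¹) := by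
      rcases (inU_iff e _).mp hbu' with h | h
      · exact ⟨1, one_mem _, by rw [one_mul]; exact h, by rw [one_mul]; exact hbv'⟩
      · refine ⟨Y e i, Y_mem_Qsub e i, ?_, ?_⟩
        · have e1 : (Y e i * b) * X e (QD.qq K) * (Y e i * b)⁻¹ =
              Y e i * (b * X e (QD.qq K) * b⁻¹) * (Y e i)⁻¹ := by group
          rw [e1, h]
          have e2 : Y e i * (X e (QD.qq K))⁻¹ * (Y e i)⁻¹ =
              (Y e i * X e (QD.qq K) * (Y e i)⁻¹)⁻¹ := by group
          rw [e2, v_conj_u, inv_inv]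
        · have e1 : (Y e i * b) * Y e i * (Y e i * b)⁻¹ =
              Y e i * (b * Y e i * b⁻¹) * (Y e i)⁻¹ := by group
          rw [e1]
          rcases (inV_iff e i hi _).mp hbv' with h' | h'
          · rw [h', inV_iff e i hi]; left; group
          · rw [h', inV_iff e i hi]; right; group
    -- then make it centralize `Y i`
    obtain ⟨q₂, hq₂, h2u, h2v⟩ : ∃ q₂ ∈ Qsub e i,
        (q₂ * b) * X e (QD.qq K) * (q₂ * b)⁻¹ = X e (QD.qq K) ∧
        (q₂ * b) * Y e i * (q₂ * b)⁻¹ = Y e i := by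
      rcases (inV_iff e i hi _).mp h1v with h | h
      · exact ⟨q₁, hq₁, h1u, h⟩
      · refine ⟨X e (QD.qq K) * q₁, mul_mem (u_mem_Qsub e i) hq₁, ?_, ?_⟩
        · have e1 : (X e (QD.qq K) * q₁ * b) * X e (QD.qq K) * (X e (QD.qq K) * q₁ * b)⁻¹ =
              X e (QD.qq K) * ((q₁ * b) * X e (QD.qq K) * (q₁ * b)⁻¹) * (X e (QD.qq K))⁻¹ := by
            group
          rw [e1, h1u]; group
        · have e1 : (X e (QD.qq K) * q₁ * b) * Y e i * (X e (QD.qq K) * q₁ * b)⁻¹ =
              X e (QD.qq K) * ((q₁ * b) * Y e i * (q₁ * b)⁻¹) * (X e (QD.qq K))⁻¹ := by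
            group
          rw [e1, h]
          have e2 : X e (QD.qq K) * (Y e i)⁻¹ * (X e (QD.qq K))⁻¹ =
              (X e (QD.qq K) * Y e i * (X e (QD.qq K))⁻¹)⁻¹ := by group
          rw [e2, u_conj_v e i hi, inv_inv]
    have hc : q₂ * b ∈ centralizer (Qsub e i : Set G) :=
      (mem_centralizer_Q e i _).mpr ⟨h2u, h2v⟩
    have : b = q₂⁻¹ * (q₂ * b) := by group
    rw [this]
    exact mul_mem_sup (inv_mem hq₂) hc

/-- `|N(Q) : Q C(Q)| = 2 * |N(Q) : N(Q) ∩ N(⟨u⟩)|` -/
theorem relIndex_Q (i : ZMod (8 * K)) (hi : par K i = 1) :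
    (Qsub e i ⊔ centralizer (Qsub e i : Set G)).relIndex (normalizer (Qsub e i : Set G)) =
      2 * (normalizer (Qsub e i : Set G) ⊓
        normalizer (zpowers (X e (QD.qq K)) : Set G)).relIndex (normalizer (Qsub e i : Set G)) := by
  have hMN : Qsub e i ⊔ centralizer (Qsub e i : Set G) ≤
      normalizer (Qsub e i : Set G) ⊓ normalizer (zpowers (X e (QD.qq K)) : Set G) := by
    refine le_inf (sup_le le_normalizer (Subgroup.centralizer_le_normalizer _)) ?_
    rw [sup_centralizer_Q e i hi]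
    exact inf_le_left
  have h2 : (Qsub e i ⊔ centralizer (Qsub e i : Set G)).relIndex
      (normalizer (Qsub e i : Set G) ⊓ normalizer (zpowers (X e (QD.qq K)) : Set G)) = 2 := by
    rw [relIndex_eq_two_iff]
    have haN := X_oo_mem_normalizer_Q e i
    have hau : X e (QD.oo K) ∈ normalizer (zpowers (X e (QD.qq K)) : Set G) :=
      S_le_normalizer_u e (X_mem e _)
    refine ⟨X e (QD.oo K), ⟨haN, hau⟩, ?_⟩
    rintro b ⟨hbN, hbu⟩
    have hbu' : b ∈ normalizer (zpowers (X e (QD.qq K)) : Set G) := hbu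
    rw [mem_normalizer_zpowers_u] at hbu'
    have hmem : b * Y e i * b⁻¹ ∈ Qsub e i := (mem_normalizer_iff.mp hbN _).mp (Y_mem_Qsub e i)
    have ho : orderOf (b * Y e i * b⁻¹) = 4 := by rw [orderOf_conj, orderOf_Y_odd e i hi]
    have hinv : ∀ w : G, b * w⁻¹ * b⁻¹ = (b * w * b⁻¹)⁻¹ := fun w => by group
    -- the action of `a = X oo`
    obtain ⟨D, hD, hav⟩ : ∃ D, 2 * D = hh K ∧
        X e (QD.oo K) * Y e i * (X e (QD.oo K))⁻¹ = X e D * Y e i := by
      refine ⟨(1 - kap K) * QD.oo K, ?_, ?_⟩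
      · have h1 := QD.two_mul_oo (K := K)
        have h2 := QD.one_sub_kap_mul_qq (K := K)
        linear_combination (1 - kap K) * h1 + h2
      · rw [X_conj_Y, X_mul_Y, add_comm]
    have hbau : inU e (b * X e (QD.oo K) * X e (QD.qq K) * (b * X e (QD.oo K))⁻¹) := by
      have e1 : b * X e (QD.oo K) * X e (QD.qq K) * (b * X e (QD.oo K))⁻¹ =
          b * (X e (QD.oo K) * X e (QD.qq K) * (X e (QD.oo K))⁻¹) * b⁻¹ := by group
      rw [e1, X_conj_X]; exact hbu'
    have hbav : b * X e (QD.oo K) * Y e i * (b * X e (QD.oo K))⁻¹ =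
        (b * X e D * b⁻¹) * (b * Y e i * b⁻¹) := by
      calc b * X e (QD.oo K) * Y e i * (b * X e (QD.oo K))⁻¹
          = b * (X e (QD.oo K) * Y e i * (X e (QD.oo K))⁻¹) * b⁻¹ := by group
        _ = b * (X e D * Y e i) * b⁻¹ := by rw [hav]
        _ = (b * X e D * b⁻¹) * (b * Y e i * b⁻¹) := by group
    have hbD : inU e (b * X e D * b⁻¹) := by
      rcases (inU_iff e _).mp ⟨D, hD, rfl⟩ with h1 | h1
      · rw [h1]; exact hbu'
      · rw [h1, hinv]; exact inU_inv e hbu'
    rw [sup_centralizer_Q e i hi]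
    have hmemM : ∀ c : G, c ∈ normalizer (zpowers (X e (QD.qq K)) : Set G) ⊓
        normalizer (zpowers (Y e i) : Set G) ↔
        inU e (c * X e (QD.qq K) * c⁻¹) ∧ inV e i (c * Y e i * c⁻¹) := by
      intro c
      rw [← mem_normalizer_zpowers_u, ← mem_normalizer_zpowers_v e i hi]
      exact Iff.rfl
    rw [hmemM, hmemM, hbav]
    rcases Qsub_order_four e i hi hmem ho with hU | hV | hW
    · exfalso
      -- `b` maps both `u` and `Y i` into the class of `u`
      rcases (inU_iff e _).mp hbu' with h1 | h1 <;> rcases (inU_iff e _).mp hU with h2 | h2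
      · exact X_ne_Y e _ _ (conj_inj (h1.trans h2.symm))
      · have h3 : b * X e (QD.qq K) * b⁻¹ = b * (Y e i)⁻¹ * b⁻¹ := by
          rw [h1, hinv, h2, inv_inv]
        have h4 := conj_inj h3
        rw [Y_inv_odd e i hi] at h4
        exact X_ne_Y e _ _ h4
      · have h3 : b * X e (QD.qq K) * b⁻¹ = b * (Y e i)⁻¹ * b⁻¹ := by
          rw [h1, hinv, h2]
        have h4 := conj_inj h3
        rw [Y_inv_odd e i hi] at h4
        exact X_ne_Y e _ _ h4
      · exact X_ne_Y e _ _ (conj_inj (h1.trans h2.symm))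
    · right
      refine ⟨⟨hbu', hV⟩, ?_⟩
      rintro ⟨-, h3⟩
      exact not_inV_inW e i h3 (inU_mul_inV e i hbD hV)
    · left
      refine ⟨⟨hbau, inU_mul_inW e i hbD hW⟩, ?_⟩
      rintro ⟨-, h3⟩
      exact not_inV_inW e i h3 hW
  rw [← relIndex_mul_relIndex _ _ _ hMN inf_le_left, h2]

theorem normalizer_Q_le_iff (hq : ∀ j, par K j = 1 → Nonempty (Qsub e j ≃* QuaternionGroup 2))
    (i : ZMod (8 * K)) (hi : par K i = 1) :
    normalizer (Qsub e i : Set G) ≤
      normalizer (Qsub e i : Set G) ⊓ normalizer (zpowers (X e (QD.qq K)) : Set G) ↔ ¬ QF e := by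
  constructor
  · intro h hQF
    obtain ⟨g, hgN, hg⟩ := exists_normalizer_Q e hq i hi hQF
    have h1 : g ∈ normalizer (zpowers (X e (QD.qq K)) : Set G) := (h hgN).2
    rw [mem_normalizer_zpowers_u] at h1
    exact not_inU_inV e i h1 hg
  · intro h g hg
    have hgu : g ∈ normalizer (zpowers (X e (QD.qq K)) : Set G) := by
      rw [mem_normalizer_zpowers_u]
      by_contra hc
      exact h (QF_of_normalizer e i hi g hg hc)
    exact ⟨hg, hgu⟩

theorem relIndex_Q_eq_two_iff (hq : ∀ j, par K j = 1 → Nonempty (Qsub e j ≃* QuaternionGroup 2))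
    (i : ZMod (8 * K)) (hi : par K i = 1) :
    (Qsub e i ⊔ centralizer (Qsub e i : Set G)).relIndex (normalizer (Qsub e i : Set G)) = 2 ↔
      ¬ QF e := by
  rw [relIndex_Q e i hi, ← normalizer_Q_le_iff e hq i hi, ← relIndex_eq_one]
  omega

theorem QF_of_relIndex_Q_eq_six
    (hq : ∀ j, par K j = 1 → Nonempty (Qsub e j ≃* QuaternionGroup 2))
    (i : ZMod (8 * K)) (hi : par K i = 1)
    (h : (Qsub e i ⊔ centralizer (Qsub e i : Set G)).relIndex
      (normalizer (Qsub e i : Set G)) = 6) : QF e := by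
  by_contra hc
  rw [(relIndex_Q_eq_two_iff e hq i hi).mpr hc] at h
  omega

/-- all the quaternion subgroups `Qsub j` are quaternion once one of them is -/
theorem nonempty_equiv_Qsub (i : ZMod (8 * K)) (hi : par K i = 1)
    (φ : Qsub e i ≃* QuaternionGroup 2) :
    ∀ j, par K j = 1 → Nonempty (Qsub e j ≃* QuaternionGroup 2) := by
  intro j hj
  obtain ⟨t, ht⟩ := exists_two_mul_of_par K (j - i) (by rw [map_sub, hi, hj, sub_self])
  have hconj := Qsub_map_conj e i t
  have hij : i + 2 * t = j := by rw [← ht]; ring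
  rw [hij] at hconj
  have e1 : Qsub e i ≃* (Qsub e i).map (MulAut.conj (X e (uu K * t))).toMonoidHom :=
    (MulAut.conj (X e (uu K * t))).subgroupMap (Qsub e i)
  have e2 : (Qsub e i).map (MulAut.conj (X e (uu K * t))).toMonoidHom ≃* Qsub e j :=
    MulEquiv.subgroupCongr hconj
  exact ⟨(e1.trans e2).symm.trans φ⟩

end Cfsg.Agent.Lib.Helper55_QDFusion
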