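import Mathlib
import Cfsg.Agent.Lib.Helper55_QDFusion4

/-!
The four fusion patterns of a finite group with a quasi-dihedral Sylow `2`-subgroup (helper55),
in terms of the fusion predicates `TF`, `QF` of `Helper55_QDFusion`.
-/

set_option autoImplicit false
set_option linter.unusedSectionVars false

namespace Cfsg.Agent.Lib.Helper55_QDFusion

open Subgroup Cfsg.Agent.Lib.Helper86_QuasiDihedral Cfsg.Agent.Lib.Helper55_QDCoord

variable {G : Type*} [Group G] [Finite G] {S : Sylow 2 G} {K : ℕ} [NeZero K]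
  (e : QD K ≃* ↥(S : Subgroup G))

theorem zmod2_zero_sub_one : (0 - 1 : ZMod 2) = 1 := by decide

theorem relIndex_map_subtype' (L : Subgroup G) (H : Subgroup L) :
    (H.map L.subtype).relIndex L = H.index := by
  unfold relIndex subgroupOf
  rw [Subgroup.comap_map_eq_self_of_injective (Subgroup.subtype_injective L)]

theorem X_eq_Y_mul_Y (i : ZMod (8 * K)) : X e i = Y e i * Y e 0 := by
  rw [Y_mul_Y, mul_zero, add_zero]

/-- both fusions: no subgroup of index two, one class of involutions, one class of elements of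
order four -/
theorem case66 (hq : ∀ j, par K j = 1 → Nonempty (Qsub e j ≃* QuaternionGroup 2))
    (hT : TF e) (hQ : QF e) :
    (∀ H : Subgroup G, H.index ≠ 2) ∧
    Nat.card {C : ConjClasses G // ∃ t : G, orderOf t = 2 ∧ ConjClasses.mk t = C} = 1 ∧
    Nat.card {C : ConjClasses G // ∃ t : G, orderOf t = 4 ∧ ConjClasses.mk t = C} = 1 := by
  refine ⟨?_, count_involutions_of_TF e hT, count_four_of_QF e hQ⟩
  intro H hH
  have h2 : H.relIndex ⊤ = 2 := by rw [relIndex_top_right]; exact hH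
  have h0 : ∀ i, par K i = 0 → Y e i ∈ H :=
    Y_even_mem_of_TF e hT H ⊤ h2 (fun _ => mem_top _) (fun _ _ => mem_top _)
  have h1 : ∀ i, par K i = 1 → Y e i ∈ H :=
    Y_odd_mem_of_QF e hq hQ H ⊤ h2 (fun _ => mem_top _) (fun _ _ => mem_top _)
  have hY : ∀ i, Y e i ∈ H := fun i => (par_cases' i).elim (h0 i) (h1 i)
  have hSH : (S : Subgroup G) ≤ H := by
    intro x hx
    rcases cases_mem e hx with ⟨i, rfl⟩ | ⟨i, rfl⟩
    · rw [X_eq_Y_mul_Y]; exact mul_mem (hY _) (hY _)
    · exact hY i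
  have := Subgroup.index_dvd_of_le hSH
  rw [hH] at this
  exact S.not_dvd_index this

/-- only the quaternion fusion -/
theorem case26 (hq : ∀ j, par K j = 1 → Nonempty (Qsub e j ≃* QuaternionGroup 2))
    (hT : ¬ TF e) (hQ : QF e) :
    (∃ L : Subgroup G, L.Normal ∧ L.index = 2 ∧
      (∀ P : Sylow 2 ↥L, Nonempty ((P : Subgroup ↥L) ≃* QuaternionGroup (2 * K))) ∧
      (∀ H : Subgroup ↥L, H.index ≠ 2)) ∧
    Cfsg.IsWeaklyClosed ((Subgroup.center (S : Subgroup G)).map (S : Subgroup G).subtype)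
      (S : Subgroup G) ∧
    Nat.card {C : ConjClasses G // ∃ t : G, orderOf t = 2 ∧ ConjClasses.mk t = C} = 2 ∧
    Nat.card {C : ConjClasses G // ∃ t : G, orderOf t = 4 ∧ ConjClasses.mk t = C} = 1 := by
  have : Fact (Nat.Prime 2) := ⟨Nat.prime_two⟩
  refine ⟨?_, isWeaklyClosed_center e hT, count_involutions_of_not_TF e hT, count_four_of_QF e hQ⟩
  obtain ⟨L, hLn, hL2, h0⟩ := exists_K_of_not_TF e hT
  have hA := inf_eq_qua e L hL2 h0 hQ
  refine ⟨L, hLn, hL2, ?_, ?_⟩
  · intro P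
    obtain ⟨φ⟩ := sylow_equiv e L _ hA P
    exact ⟨φ.trans (QD.quaSubEquiv K)⟩
  · intro H hH
    have h2 : (H.map L.subtype).relIndex L = 2 := by rw [relIndex_map_subtype']; exact hH
    have hYL : ∀ j, par K j = 1 → Y e j ∈ L := by
      intro j hj
      have : Y e j ∈ (S : Subgroup G) ⊓ L := by rw [hA, Y_mem_img_qua]; exact hj
      exact this.2
    have h1 : ∀ i, par K i = 1 → Y e i ∈ H.map L.subtype :=
      Y_odd_mem_of_QF e hq hQ _ L h2 (sq_mem_of_index_two L hL2) hYL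
    have hle : (S : Subgroup G) ⊓ L ≤ H.map L.subtype := by
      rw [hA]
      intro x hx
      obtain ⟨a, ha, rfl⟩ := (mem_img e _ x).mp hx
      rcases a with i | i
      · have hi : par K i = 0 := (QD.r_mem_quaSub i).mp ha
        have e1 : X e i = Y e (i - kap K) * Y e 1 := by
          rw [Y_mul_Y, mul_one, sub_add_cancel]
        show X e i ∈ _
        rw [e1]
        refine mul_mem (h1 _ ?_) (h1 _ par_one')
        rw [map_sub, hi, par_kap]
        exact zmod2_zero_sub_one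
      · exact h1 i ((QD.s_mem_quaSub i).mp ha)
    have hd := Subgroup.relIndex_dvd_of_le_left L hle
    rw [h2] at hd
    exact Helper32_Sylow.not_dvd_relIndex_inf_normal S L hd

/-- only the four-group fusion -/
theorem case62 (hT : TF e) (hQ : ¬ QF e) :
    (∃ L : Subgroup G, L.Normal ∧ L.index = 2 ∧
      (∀ P : Sylow 2 ↥L, Nonempty ((P : Subgroup ↥L) ≃* DihedralGroup (4 * K))) ∧
      (∀ H : Subgroup ↥L, H.index ≠ 2)) ∧
    Nat.card {C : ConjClasses G // ∃ t : G, orderOf t = 2 ∧ ConjClasses.mk t = C} = 1 ∧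
    Nat.card {C : ConjClasses G // ∃ t : G, orderOf t = 4 ∧ ConjClasses.mk t = C} = 2 := by
  have : Fact (Nat.Prime 2) := ⟨Nat.prime_two⟩
  refine ⟨?_, count_involutions_of_TF e hT, count_four_of_not_QF e hQ⟩
  obtain ⟨L, hLn, hL2, h1⟩ := exists_K_of_not_QF e hQ
  have hA := inf_eq_dih e L hL2 h1 hT
  refine ⟨L, hLn, hL2, ?_, ?_⟩
  · intro P
    obtain ⟨φ⟩ := sylow_equiv e L _ hA P
    exact ⟨φ.trans (QD.dihSubEquiv K)⟩
  · intro H hH
    have h2 : (H.map L.subtype).relIndex L = 2 := by rw [relIndex_map_subtype']; exact hH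
    have hYL : ∀ j, par K j = 0 → Y e j ∈ L := by
      intro j hj
      have : Y e j ∈ (S : Subgroup G) ⊓ L := by rw [hA, Y_mem_img_dih]; exact hj
      exact this.2
    have h0 : ∀ i, par K i = 0 → Y e i ∈ H.map L.subtype :=
      Y_even_mem_of_TF e hT _ L h2 (sq_mem_of_index_two L hL2) hYL
    have hle : (S : Subgroup G) ⊓ L ≤ H.map L.subtype := by
      rw [hA]
      intro x hx
      obtain ⟨a, ha, rfl⟩ := (mem_img e _ x).mp hx
      rcases a with i | i
      · have hi : par K i = 0 := (QD.r_mem_dihSub i).mp ha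
        show X e i ∈ _
        rw [X_eq_Y_mul_Y]
        exact mul_mem (h0 _ hi) (h0 _ (map_zero _))
      · exact h0 i ((QD.s_mem_dihSub i).mp ha)
    have hd := Subgroup.relIndex_dvd_of_le_left L hle
    rw [h2] at hd
    exact Helper32_Sylow.not_dvd_relIndex_inf_normal S L hd

/-- no fusion: a normal `2`-complement -/
theorem case22 (hT : ¬ TF e) (hQ : ¬ QF e) :
    Cfsg.HasNormalPComplement 2 G ∧
    Nat.card {C : ConjClasses G // ∃ t : G, orderOf t = 2 ∧ ConjClasses.mk t = C} = 2 ∧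
    Nat.card {C : ConjClasses G // ∃ t : G, orderOf t = 4 ∧ ConjClasses.mk t = C} = 2 := by
  refine ⟨?_, count_involutions_of_not_TF e hT, count_four_of_not_QF e hQ⟩
  obtain ⟨L, -, hL2, h0, h1, hX⟩ := exists_K_of_not_TF_QF e hT hQ
  exact hasNormalPComplement_of_inf_rot e L hL2 (inf_eq_rot e L hL2 h0 h1 hX)

/-- transport of quaternion groups along an equality of parameters -/
def quatCongr {a b : ℕ} (h : a = b) : QuaternionGroup a ≃* QuaternionGroup b :=
  h ▸ MulEquiv.refl _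

end Cfsg.Agent.Lib.Helper55_QDFusion

namespace Cfsg.Agent.Lib.Helper55_QDFusion

open Subgroup Cfsg.Agent.Lib.Helper86_QuasiDihedral Cfsg.Agent.Lib.Helper55_QDCoord

/-- coordinates for a quasi-dihedral Sylow `2`-subgroup together with a four-subgroup and a
quaternion subgroup -/
theorem setup {G : Type*} [Group G] [Finite G] (S : Sylow 2 G)
    (hS : Cfsg.IsQuasiDihedral (S : Subgroup G)) (T : Subgroup G) (hT : IsKleinFour T)
    (hTS : T ≤ S) (Q : Subgroup G) (hQS : Q ≤ S) (eQ : Q ≃* QuaternionGroup 2) :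
    ∃ (k : ℕ) (e : QD (2 ^ k) ≃* ↥(S : Subgroup G)) (i j : ZMod (8 * 2 ^ k)),
      par (2 ^ k) i = 0 ∧ T = Tsub e i ∧ par (2 ^ k) j = 1 ∧ Q = Qsub e j ∧
      ∀ j', par (2 ^ k) j' = 1 → Nonempty (Qsub e j' ≃* QuaternionGroup 2) := by
  obtain ⟨k, -, ⟨e⟩⟩ := exists_mulEquiv hS
  obtain ⟨i, hi, hTi⟩ := klein_cases e T hTS hT
  obtain ⟨j, hj, hQj⟩ := quat_cases e Q hQS eQ
  refine ⟨k, e, i, j, hi, hTi, hj, hQj, ?_⟩
  exact nonempty_equiv_Qsub e j hj ((MulEquiv.subgroupCongr hQj).symm.trans eQ)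

end Cfsg.Agent.Lib.Helper55_QDFusion
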