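/-
Helper library (helper86): subgroups of the wreathed 2-groups `Z_{2^n} ≀ Z_2` (model `Wr N`) that contain
their centralizer, and their automorphism groups.
-/
import Cfsg.Agent.Lib.Helper86_Wreathed
import Mathlib.GroupTheory.SpecificGroups.Quaternion

set_option autoImplicit false

namespace Cfsg.Agent.Lib.Helper86_WrSub

open Cfsg.Agent.Lib.Helper86_Wreathed

section generic

variable {Y : Type*} [Group Y]

theorem aut_pow_apply_of_fix (α : MulAut Y) (x t : Y) (hx : α x = t * x) (ht : α t = t) (j : ℕ) :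
    (α ^ j) x = t ^ j * x := by
  induction j with
  | zero => simp
  | succ j ih =>
    rw [pow_succ', MulAut.mul_apply, ih, map_mul, map_pow, ht, hx, pow_succ, mul_assoc]

theorem eq_one_of_sq_of_odd_pow {t : Y} (h2 : t * t = 1) {k : ℕ} (hk : Odd k) (htk : t ^ k = 1) :
    t = 1 := by
  obtain ⟨m, rfl⟩ := hk
  rw [pow_succ, pow_mul, pow_two, h2, one_pow, one_mul] at htk
  exact htk

theorem eq_one_of_two_pow_of_odd_pow {t : Y} {e : ℕ} (h2 : t ^ (2 ^ e) = 1) {k : ℕ} (hk : Odd k)
    (htk : t ^ k = 1) : t = 1 := by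
  have h1 : orderOf t ∣ 2 ^ e := orderOf_dvd_of_pow_eq_one h2
  have h2' : orderOf t ∣ k := orderOf_dvd_of_pow_eq_one htk
  have hcop : Nat.Coprime (2 ^ e) k := by
    apply Nat.Coprime.pow_left
    rw [Nat.coprime_two_left]
    exact hk
  have : orderOf t ∣ 1 := by
    have := Nat.dvd_gcd h1 h2'
    rwa [hcop] at this
  exact orderOf_eq_one_iff.mp (Nat.dvd_one.mp this)

/-- an automorphism of odd order of an abelian `2`-group fixing the involutions is trivial. -/
theorem aut_fix_abelian (α : MulAut Y) (k : ℕ) (hk : Odd k) (hαk : α ^ k = 1)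
    (B : Subgroup Y) (hBcomm : ∀ x ∈ B, ∀ y ∈ B, x * y = y * x)
    (hB2 : ∀ x ∈ B, ∃ e : ℕ, x ^ (2 ^ e) = 1)
    (hαB : ∀ x ∈ B, α x ∈ B) (hinv : ∀ x ∈ B, x * x = 1 → α x = x) : ∀ x ∈ B, α x = x := by
  have key : ∀ e : ℕ, ∀ x ∈ B, x ^ (2 ^ e) = 1 → α x = x := by
    intro e
    induction e with
    | zero =>
      intro x _ hx
      rw [pow_zero, pow_one] at hx
      rw [hx, map_one]
    | succ e ih =>
      intro x hxB hx
      have hy : α (x * x) = x * x := by
        apply ih _ (B.mul_mem hxB hxB)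
        rw [← pow_two, ← pow_mul, ← pow_succ']
        exact hx
      set t := α x * x⁻¹ with ht
      have htB : t ∈ B := B.mul_mem (hαB x hxB) (B.inv_mem hxB)
      have ht2 : t * t = 1 := by
        have h1 : α x * x⁻¹ * (α x * x⁻¹) = (α x * α x) * (x⁻¹ * x⁻¹) := by
          have := hBcomm _ (B.inv_mem hxB) _ (hαB x hxB)
          calc α x * x⁻¹ * (α x * x⁻¹) = α x * (x⁻¹ * α x) * x⁻¹ := by group
            _ = α x * (α x * x⁻¹) * x⁻¹ := by rw [this]
            _ = _ := by group
        rw [ht, h1, ← map_mul, hy]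
        group
      have hαt : α t = t := hinv t htB ht2
      have hαx : α x = t * x := by rw [ht]; group
      have := aut_pow_apply_of_fix α x t hαx hαt k
      rw [hαk, MulAut.one_apply] at this
      have htk : t ^ k = 1 := by
        have h3 : t ^ k * x = 1 * x := by rw [one_mul]; exact this.symm
        exact mul_right_cancel h3
      have : t = 1 := eq_one_of_sq_of_odd_pow ht2 hk htk
      rw [hαx, this, one_mul]
  intro x hx
  obtain ⟨e, he⟩ := hB2 x hx
  exact key e x hx he

/-- an automorphism of odd order of a `2`-group fixing a subgroup of index two pointwise is trivial. -/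
theorem aut_fix_index_two (α : MulAut Y) (k : ℕ) (hk : Odd k) (hαk : α ^ k = 1)
    (B : Subgroup Y) (hfix : ∀ x ∈ B, α x = x) (hαB : ∀ x, α x ∈ B → x ∈ B)
    (hidx : ∀ x y, x ∉ B → y ∉ B → x⁻¹ * y ∈ B)
    (h2 : ∀ x ∈ B, ∃ e : ℕ, x ^ (2 ^ e) = 1) : α = 1 := by
  ext x
  rw [MulAut.one_apply]
  by_cases hx : x ∈ B
  · exact hfix x hx
  · have hαx : α x ∉ B := fun h => hx (hαB x h)
    set t := α x * x⁻¹ with ht
    have htB : t ∈ B := by
      have h1 := hidx _ _ hαx hx
      have h2 : (α x)⁻¹⁻¹ * x⁻¹ ∈ B := by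
        have h3 : x⁻¹ ∉ B := fun h => hx (by simpa using B.inv_mem h)
        have h4 : (α x)⁻¹ ∉ B := fun h => hαx (by simpa using B.inv_mem h)
        exact hidx _ _ h4 h3
      simpa using h2
    have hαt : α t = t := hfix t htB
    have hαx' : α x = t * x := by rw [ht]; group
    have := aut_pow_apply_of_fix α x t hαx' hαt k
    rw [hαk, MulAut.one_apply] at this
    have htk : t ^ k = 1 := by
      have h3 : t ^ k * x = 1 * x := by rw [one_mul]; exact this.symm
      exact mul_right_cancel h3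
    obtain ⟨e, he⟩ := h2 t htB
    have : t = 1 := eq_one_of_two_pow_of_odd_pow he hk htk
    rw [hαx', this, one_mul]

/-- a finite group all of whose elements of odd order are trivial is a `2`-group. -/
theorem isPGroup_two_of_odd_trivial {A : Type*} [Group A] [Finite A]
    (h : ∀ β : A, Odd (orderOf β) → β = 1) : IsPGroup 2 A := by
  intro α
  have hpos : 0 < orderOf α := orderOf_pos α
  obtain ⟨e, m, hm, hem⟩ := Nat.exists_eq_two_pow_mul_odd (Nat.pos_iff_ne_zero.mp hpos)
  refine ⟨e, ?_⟩
  apply h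
  rw [orderOf_pow' _ (by positivity), hem]
  have : Nat.gcd (2 ^ e * m) (2 ^ e) = 2 ^ e := Nat.gcd_eq_right (Dvd.intro _ rfl)
  rw [this, Nat.mul_div_cancel_left _ (by positivity)]
  exact hm

end generic

section zmod

variable {N M : ℕ}

theorem four_M (hN : N = 4 * M) : 4 * (M : ZMod N) = 0 := by
  have : ((4 * M : ℕ) : ZMod N) = 0 := by rw [← hN]; exact ZMod.natCast_self N
  simpa using this

theorem twoM_add_twoM (hN : N = 4 * M) : 2 * (M : ZMod N) + 2 * (M : ZMod N) = 0 := by
  have := four_M hN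
  calc 2 * (M : ZMod N) + 2 * (M : ZMod N) = 4 * (M : ZMod N) := by ring
    _ = 0 := this

theorem twoM_ne_zero (hN : N = 4 * M) (hM : 0 < M) : 2 * (M : ZMod N) ≠ 0 := by
  intro h
  have h' : ((2 * M : ℕ) : ZMod N) = 0 := by push_cast; exact h
  rw [ZMod.natCast_eq_zero_iff] at h'
  have := Nat.le_of_dvd (by omega) h'
  omega

theorem M_ne_zero (hN : N = 4 * M) (hM : 0 < M) : (M : ZMod N) ≠ 0 := by
  intro h
  exact twoM_ne_zero hN hM (by rw [h, mul_zero])

theorem neg_twoM (hN : N = 4 * M) : -(2 * (M : ZMod N)) = 2 * (M : ZMod N) := by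
  rw [neg_eq_iff_add_eq_zero]
  exact twoM_add_twoM hN

theorem two_tor (hN : N = 4 * M) (hM : 0 < M) (m : ZMod N) (h : 2 * m = 0) :
    m = 0 ∨ m = 2 * (M : ZMod N) := by
  have hN' : N = 2 * (2 * M) := by omega
  have := zmod_two_torsion hN' (by omega) m (by rw [← two_mul]; exact h)
  rcases this with h1 | h1
  · left; exact h1
  · right; rw [h1]; push_cast; ring

theorem four_tor (hN : N = 4 * M) (hM : 0 < M) (m : ZMod N) (h : 4 * m = 0) :
    m = 0 ∨ m = (M : ZMod N) ∨ m = 2 * (M : ZMod N) ∨ m = -(M : ZMod N) := by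
  have h1 : 2 * (2 * m) = 0 := by rw [← h]; ring
  rcases two_tor hN hM _ h1 with h2 | h2
  · rcases two_tor hN hM _ h2 with h3 | h3
    · left; exact h3
    · right; right; left; exact h3
  · have h3 : 2 * (m - M) = 0 := by
      calc 2 * (m - (M : ZMod N)) = 2 * m - 2 * M := by ring
        _ = 0 := by rw [h2, sub_self]
    rcases two_tor hN hM _ h3 with h4 | h4
    · right; left; exact sub_eq_zero.mp h4
    · right; right; right
      have : m = 2 * (M : ZMod N) + M := by rw [← h4]; ring
      rw [this, eq_neg_iff_add_eq_zero]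
      calc 2 * (M : ZMod N) + M + M = 4 * (M : ZMod N) := by ring
        _ = 0 := four_M hN

theorem two_pow_eq_zero {n : ℕ} (hN : N = 2 ^ n) : (2 : ZMod N) ^ n = 0 := by
  have : ((2 ^ n : ℕ) : ZMod N) = 0 := by rw [← hN]; exact ZMod.natCast_self N
  simpa using this

/-- in `ZMod (2^n)`, every nonzero element has the half as a multiple. -/
theorem exists_mul_half (hN : N = 4 * M) (hM : 0 < M) (hpow : ∃ n : ℕ, N = 2 ^ n) (d : ZMod N)
    (hd : d ≠ 0) : ∃ c : ZMod N, c * d = 2 * (M : ZMod N) := by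
  classical
  obtain ⟨n, hn⟩ := hpow
  have hex : ∃ k : ℕ, (2 : ZMod N) ^ k * d = 0 := ⟨n, by rw [two_pow_eq_zero hn, zero_mul]⟩
  set k := Nat.find hex with hk
  have hk0 : (2 : ZMod N) ^ k * d = 0 := Nat.find_spec hex
  have hkpos : k ≠ 0 := by
    intro h0
    rw [h0, pow_zero, one_mul] at hk0
    exact hd hk0
  obtain ⟨k', hk'⟩ := Nat.exists_eq_succ_of_ne_zero hkpos
  have hmin : (2 : ZMod N) ^ k' * d ≠ 0 := Nat.find_min hex (by omega)
  have h2 : 2 * ((2 : ZMod N) ^ k' * d) = 0 := by
    rw [← hk0, hk', pow_succ]; ring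
  rcases two_tor hN hM _ h2 with h3 | h3
  · exact absurd h3 hmin
  · exact ⟨_, h3⟩

/-- in `ZMod (2^n)`, every element not killed by two has the quarter as a multiple. -/
theorem exists_mul_quarter (hN : N = 4 * M) (hM : 0 < M) (hpow : ∃ n : ℕ, N = 2 ^ n) (d : ZMod N)
    (hd : 2 * d ≠ 0) : ∃ c : ZMod N, c * d = (M : ZMod N) := by
  classical
  obtain ⟨n, hn⟩ := hpow
  have hex : ∃ k : ℕ, (2 : ZMod N) ^ k * d = 0 := ⟨n, by rw [two_pow_eq_zero hn, zero_mul]⟩
  set k := Nat.find hex with hk
  have hk0 : (2 : ZMod N) ^ k * d = 0 := Nat.find_spec hex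
  have hk2 : 2 ≤ k := by
    by_contra hcon
    push Not at hcon
    interval_cases k
    · rw [pow_zero, one_mul] at hk0
      exact hd (by rw [hk0, mul_zero])
    · rw [pow_one] at hk0
      exact hd hk0
  obtain ⟨k', hk'⟩ : ∃ k', k = k' + 2 := ⟨k - 2, by omega⟩
  have hmin : (2 : ZMod N) ^ (k' + 1) * d ≠ 0 := Nat.find_min hex (by omega)
  have h4 : 4 * ((2 : ZMod N) ^ k' * d) = 0 := by
    rw [← hk0, hk', pow_add]; ring
  have hne : 2 * ((2 : ZMod N) ^ k' * d) ≠ 0 := by
    intro h
    apply hmin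
    rw [← h, pow_succ]; ring
  rcases four_tor hN hM _ h4 with h3 | h3 | h3 | h3
  · exact absurd (by rw [h3, mul_zero]) hne
  · exact ⟨_, h3⟩
  · exfalso
    apply hne
    rw [h3]
    calc 2 * (2 * (M : ZMod N)) = 4 * (M : ZMod N) := by ring
      _ = 0 := four_M hN
  · refine ⟨-(2 : ZMod N) ^ k', ?_⟩
    rw [neg_mul, h3, neg_neg]

/-- every element of `ZMod N`, `N` even, is even or odd. -/
theorem even_or_odd (hN : N = 4 * M) (hM : 0 < M) (d : ZMod N) :
    (∃ r : ZMod N, d = 2 * r) ∨ ∃ r : ZMod N, d = 2 * r + 1 := by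
  have : NeZero N := ⟨by omega⟩
  rcases Nat.even_or_odd' d.val with ⟨r, hr | hr⟩
  · left
    refine ⟨(r : ZMod N), ?_⟩
    have : ((d.val : ℕ) : ZMod N) = ((2 * r : ℕ) : ZMod N) := by rw [hr]
    rw [ZMod.natCast_zmod_val] at this
    · rw [this]; push_cast; ring
  · right
    refine ⟨(r : ZMod N), ?_⟩
    have : ((d.val : ℕ) : ZMod N) = ((2 * r + 1 : ℕ) : ZMod N) := by rw [hr]
    rw [ZMod.natCast_zmod_val] at this
    · rw [this]; push_cast; ring

end zmod

namespace Wr

open Cfsg.Agent.Lib.Helper86_Wreathed.Wr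

variable {N M : ℕ}

theorem a_pow (i j : ZMod N) (k : ℕ) : (a i j) ^ k = a ((k : ZMod N) * i) ((k : ZMod N) * j) := by
  induction k with
  | zero => simp
  | succ k ih =>
    rw [pow_succ, ih, a_mul_a]
    congr 1 <;> push_cast <;> ring

theorem b_sq (i j : ZMod N) : (b i j) ^ 2 = a (i + j) (i + j) := by
  rw [pow_two, b_mul_b, add_comm j i]

/-- the subgroups `Q Z(S)`, `Q` quaternion of order `8`. -/
def vSub (N : ℕ) (k : ZMod N) : Subgroup (Wr N) where
  carrier := {g | match g with
    | a i j => 2 * (i - j) = 0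
    | b i j => 2 * (i - j) = 4 * k}
  mul_mem' := by
    rintro (⟨i, j⟩ | ⟨i, j⟩) (⟨r, s⟩ | ⟨r, s⟩) h1 h2
    · show 2 * (i + r - (j + s)) = 0
      have h1' : 2 * (i - j) = 0 := h1
      have h2' : 2 * (r - s) = 0 := h2
      calc 2 * (i + r - (j + s)) = 2 * (i - j) + 2 * (r - s) := by ring
        _ = 0 := by rw [h1', h2', add_zero]
    · show 2 * (i + r - (j + s)) = 4 * k
      have h1' : 2 * (i - j) = 0 := h1
      have h2' : 2 * (r - s) = 4 * k := h2
      calc 2 * (i + r - (j + s)) = 2 * (i - j) + 2 * (r - s) := by ring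
        _ = 4 * k := by rw [h1', h2', zero_add]
    · show 2 * (i + s - (j + r)) = 4 * k
      have h1' : 2 * (i - j) = 4 * k := h1
      have h2' : 2 * (r - s) = 0 := h2
      calc 2 * (i + s - (j + r)) = 2 * (i - j) - 2 * (r - s) := by ring
        _ = 4 * k := by rw [h1', h2', sub_zero]
    · show 2 * (i + s - (j + r)) = 0
      have h1' : 2 * (i - j) = 4 * k := h1
      have h2' : 2 * (r - s) = 4 * k := h2
      calc 2 * (i + s - (j + r)) = 2 * (i - j) - 2 * (r - s) := by ring
        _ = 0 := by rw [h1', h2', sub_self]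
  one_mem' := by
    show 2 * ((0 : ZMod N) - 0) = 0
    simp
  inv_mem' := by
    rintro (⟨i, j⟩ | ⟨i, j⟩) h1
    · show 2 * (-i - -j) = 0
      have h1' : 2 * (i - j) = 0 := h1
      calc 2 * (-i - -j) = -(2 * (i - j)) := by ring
        _ = 0 := by rw [h1', neg_zero]
    · show 2 * (-j - -i) = 4 * k
      have h1' : 2 * (i - j) = 4 * k := h1
      calc 2 * (-j - -i) = 2 * (i - j) := by ring
        _ = 4 * k := h1'

theorem a_mem_vSub_iff (k i j : ZMod N) : a i j ∈ vSub N k ↔ 2 * (i - j) = 0 := Iff.rfl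

theorem b_mem_vSub_iff (k i j : ZMod N) : b i j ∈ vSub N k ↔ 2 * (i - j) = 4 * k := Iff.rfl

theorem center_le_vSub (hN1 : 1 < N) (k : ZMod N) : Subgroup.center (Wr N) ≤ vSub N k := by
  intro g hg
  obtain ⟨i, rfl⟩ := (mem_center_iff hN1 g).mp hg
  rw [a_mem_vSub_iff, sub_self, mul_zero]

/-- conjugation by `x^r` moves `V_k` to `V_{k+r}` -/
theorem vSub_map_conj (k r : ZMod N) :
    (vSub N k).map (MulAut.conj (a r 0)).toMonoidHom = vSub N (k + r) := by
  ext g
  rw [Subgroup.mem_map_equiv]
  rw [MulAut.conj_symm_apply]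
  rcases g with ⟨i, j⟩ | ⟨i, j⟩
  · simp only [inv_a, a_mul_a, a_mem_vSub_iff]
    constructor <;> intro h <;> linear_combination h
  · simp only [inv_a, a_mul_b, b_mul_a, b_mem_vSub_iff]
    constructor
    · intro h
      linear_combination h
    · intro h
      linear_combination h

/-- the normalizer of `V_k` -/
def wSub (N : ℕ) (k : ZMod N) : Subgroup (Wr N) where
  carrier := {g | match g with
    | a i j => 4 * (i - j) = 0
    | b i j => 4 * (i - j) = 8 * k}
  mul_mem' := by
    rintro (⟨i, j⟩ | ⟨i, j⟩) (⟨r, s⟩ | ⟨r, s⟩) h1 h2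
    · show 4 * (i + r - (j + s)) = 0
      have h1' : 4 * (i - j) = 0 := h1
      have h2' : 4 * (r - s) = 0 := h2
      calc 4 * (i + r - (j + s)) = 4 * (i - j) + 4 * (r - s) := by ring
        _ = 0 := by rw [h1', h2', add_zero]
    · show 4 * (i + r - (j + s)) = 8 * k
      have h1' : 4 * (i - j) = 0 := h1
      have h2' : 4 * (r - s) = 8 * k := h2
      calc 4 * (i + r - (j + s)) = 4 * (i - j) + 4 * (r - s) := by ring
        _ = 8 * k := by rw [h1', h2', zero_add]
    · show 4 * (i + s - (j + r)) = 8 * k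
      have h1' : 4 * (i - j) = 8 * k := h1
      have h2' : 4 * (r - s) = 0 := h2
      calc 4 * (i + s - (j + r)) = 4 * (i - j) - 4 * (r - s) := by ring
        _ = 8 * k := by rw [h1', h2', sub_zero]
    · show 4 * (i + s - (j + r)) = 0
      have h1' : 4 * (i - j) = 8 * k := h1
      have h2' : 4 * (r - s) = 8 * k := h2
      calc 4 * (i + s - (j + r)) = 4 * (i - j) - 4 * (r - s) := by ring
        _ = 0 := by rw [h1', h2', sub_self]
  one_mem' := by
    show 4 * ((0 : ZMod N) - 0) = 0
    simp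
  inv_mem' := by
    rintro (⟨i, j⟩ | ⟨i, j⟩) h1
    · show 4 * (-i - -j) = 0
      have h1' : 4 * (i - j) = 0 := h1
      calc 4 * (-i - -j) = -(4 * (i - j)) := by ring
        _ = 0 := by rw [h1', neg_zero]
    · show 4 * (-j - -i) = 8 * k
      have h1' : 4 * (i - j) = 8 * k := h1
      calc 4 * (-j - -i) = 4 * (i - j) := by ring
        _ = 8 * k := h1'

theorem a_mem_wSub_iff (k i j : ZMod N) : a i j ∈ wSub N k ↔ 4 * (i - j) = 0 := Iff.rfl

theorem b_mem_wSub_iff (k i j : ZMod N) : b i j ∈ wSub N k ↔ 4 * (i - j) = 8 * k := Iff.rfl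

theorem vSub_le_wSub (k : ZMod N) : vSub N k ≤ wSub N k := by
  rintro (⟨i, j⟩ | ⟨i, j⟩) h
  · rw [a_mem_vSub_iff] at h
    rw [a_mem_wSub_iff]
    calc 4 * (i - j) = 2 * (2 * (i - j)) := by ring
      _ = 0 := by rw [h, mul_zero]
  · rw [b_mem_vSub_iff] at h
    rw [b_mem_wSub_iff]
    calc 4 * (i - j) = 2 * (2 * (i - j)) := by ring
      _ = 8 * k := by rw [h]; ring

theorem b_mem_vSub_self (k : ZMod N) : b (2 * k) 0 ∈ vSub N k := by
  rw [b_mem_vSub_iff]; ring

theorem normalizer_vSub (k : ZMod N) :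
    Subgroup.normalizer (vSub N k : Set (Wr N)) = wSub N k := by
  ext g
  constructor
  · intro hg
    rw [Subgroup.mem_normalizer_iff] at hg
    have h1 := (hg _).mp (b_mem_vSub_self k)
    rcases g with ⟨r, s⟩ | ⟨r, s⟩
    · simp only [inv_a, a_mul_b, b_mul_a, b_mem_vSub_iff] at h1
      rw [a_mem_wSub_iff]
      linear_combination h1
    · simp only [inv_b, b_mul_b, a_mul_b, b_mem_vSub_iff] at h1
      rw [b_mem_wSub_iff]
      linear_combination h1
  · intro hg
    rw [Subgroup.mem_normalizer_iff]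
    intro h
    rcases g with ⟨r, s⟩ | ⟨r, s⟩ <;> rcases h with ⟨i, j⟩ | ⟨i, j⟩
    · simp only [inv_a, a_mul_a, a_mem_vSub_iff]
      constructor <;> intro h <;> linear_combination h
    · rw [a_mem_wSub_iff] at hg
      simp only [inv_a, a_mul_b, b_mul_a, b_mem_vSub_iff]
      constructor
      · intro h
        linear_combination h + hg
      · intro h
        linear_combination h - hg
    · simp only [inv_b, b_mul_a, b_mul_b, a_mem_vSub_iff]
      constructor
      · intro h
        linear_combination (-1 : ZMod N) * h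
      · intro h
        linear_combination (-1 : ZMod N) * h
    · rw [b_mem_wSub_iff] at hg
      simp only [inv_b, b_mul_b, a_mul_b, b_mem_vSub_iff]
      constructor
      · intro h
        linear_combination hg - h
      · intro h
        linear_combination hg - h


theorem relIndex_vSub_wSub (hN : N = 4 * M) (hM : 0 < M) (k : ZMod N) :
    (vSub N k).relIndex (wSub N k) = 2 := by
  rw [Subgroup.relIndex_eq_two_iff]
  refine ⟨a (M : ZMod N) 0, ?_, ?_⟩
  · rw [a_mem_wSub_iff, sub_zero]; exact four_M hN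
  · have h2M := twoM_ne_zero hN hM
    have h4M := four_M hN
    rintro (⟨i, j⟩ | ⟨i, j⟩) hg
    · rw [a_mem_wSub_iff] at hg
      rw [a_mul_a, a_mem_vSub_iff, a_mem_vSub_iff]
      have h1 : 2 * (2 * (i - j)) = 0 := by linear_combination hg
      rcases two_tor hN hM _ h1 with h3 | h3
      · right
        refine ⟨h3, ?_⟩
        intro h4
        apply h2M
        linear_combination h4 - h3
      · left
        refine ⟨?_, ?_⟩
        · linear_combination h3 + h4M
        · rw [h3]; exact h2M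
    · rw [b_mem_wSub_iff] at hg
      rw [b_mul_a, b_mem_vSub_iff, b_mem_vSub_iff]
      have h1 : 2 * (2 * (i - j) - 4 * k) = 0 := by linear_combination hg
      rcases two_tor hN hM _ h1 with h3 | h3
      · right
        refine ⟨by linear_combination h3, ?_⟩
        intro h4
        apply h2M
        linear_combination h3 - h4
      · left
        refine ⟨?_, ?_⟩
        · linear_combination h3
        · intro h4
          apply h2M
          linear_combination h4 - h3

/-- the additive map `ZMod 4 → ZMod (4M)`, `i ↦ M i`. -/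
def phi (hN : N = 4 * M) : ZMod 4 →+ ZMod N :=
  ZMod.lift 4 ⟨(AddMonoidHom.mulLeft ((M : ZMod N))).comp (Int.castAddHom (ZMod N)), by
    show (M : ZMod N) * ((4 : ℤ) : ZMod N) = 0
    have := four_M hN
    push_cast
    linear_combination this⟩

theorem phi_apply (hN : N = 4 * M) (i : ZMod 4) : phi hN i = (M : ZMod N) * ((i.val : ℕ) : ZMod N) := by
  have h : phi hN ((i.val : ℕ) : ZMod 4) = (M : ZMod N) * ((i.val : ℕ) : ZMod N) := by
    have := ZMod.lift_coe 4 (⟨(AddMonoidHom.mulLeft ((M : ZMod N))).comp (Int.castAddHom (ZMod N)), by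
      show (M : ZMod N) * ((4 : ℤ) : ZMod N) = 0
      have := four_M hN
      push_cast
      linear_combination this⟩ : {f : ℤ →+ ZMod N // f 4 = 0}) (i.val : ℤ)
    simpa [phi] using this
  rwa [ZMod.natCast_zmod_val] at h

theorem phi_injective (hN : N = 4 * M) (hM : 0 < M) : Function.Injective (phi hN) := by
  rw [injective_iff_map_eq_zero]
  intro i hi
  rw [phi_apply] at hi
  have h1 : (((M * i.val : ℕ)) : ZMod N) = 0 := by push_cast; exact hi
  rw [ZMod.natCast_eq_zero_iff] at h1
  have hlt : i.val < 4 := ZMod.val_lt i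
  have h2 : M * i.val < N := by rw [hN]; nlinarith
  have h3 : M * i.val = 0 := Nat.eq_zero_of_dvd_of_lt h1 h2
  have h4 : i.val = 0 := by
    rcases Nat.mul_eq_zero.mp h3 with h | h
    · omega
    · exact h
  exact (ZMod.val_eq_zero i).mp h4

theorem phi_two (hN : N = 4 * M) : phi hN 2 = 2 * (M : ZMod N) := by
  rw [phi_apply]
  have : (2 : ZMod 4).val = 2 := rfl
  rw [this]; push_cast; ring

theorem phi_one (hN : N = 4 * M) : phi hN 1 = (M : ZMod N) := by
  rw [phi_apply]
  have : (1 : ZMod 4).val = 1 := rfl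
  rw [this]; push_cast; ring

/-- the quaternion subgroups of order `8` -/
def q8Hom (hN : N = 4 * M) (k : ZMod N) : QuaternionGroup 2 →* Wr N where
  toFun
    | QuaternionGroup.a i => a (phi hN i) (-phi hN i)
    | QuaternionGroup.xa i => b (k - phi hN i) (2 * (M : ZMod N) - k + phi hN i)
  map_one' := by
    show a (phi hN 0) (-phi hN 0) = 1
    rw [map_zero, neg_zero]; rfl
  map_mul' := by
    have h2 := phi_two hN
    have h4 := twoM_add_twoM hN
    rintro (i | i) (j | j)
    · show a (phi hN (i + j)) (-phi hN (i + j)) = a (phi hN i) (-phi hN i) * a (phi hN j) (-phi hN j)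
      rw [a_mul_a, map_add]; congr 1; ring
    · show b (k - phi hN (j - i)) (2 * (M : ZMod N) - k + phi hN (j - i)) =
        a (phi hN i) (-phi hN i) * b (k - phi hN j) (2 * (M : ZMod N) - k + phi hN j)
      rw [a_mul_b, map_sub]; congr 1 <;> ring
    · show b (k - phi hN (i + j)) (2 * (M : ZMod N) - k + phi hN (i + j)) =
        b (k - phi hN i) (2 * (M : ZMod N) - k + phi hN i) * a (phi hN j) (-phi hN j)
      rw [b_mul_a, map_add]; congr 1 <;> ring
    · show a (phi hN (2 + j - i)) (-phi hN (2 + j - i)) =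
        b (k - phi hN i) (2 * (M : ZMod N) - k + phi hN i) *
          b (k - phi hN j) (2 * (M : ZMod N) - k + phi hN j)
      rw [b_mul_b, map_sub, map_add, h2]; congr 1
      · ring
      · linear_combination (-1 : ZMod N) * h4

theorem q8Hom_injective (hN : N = 4 * M) (hM : 0 < M) (k : ZMod N) :
    Function.Injective (q8Hom hN k) := by
  have hphi := phi_injective hN hM
  rintro (i | i) (j | j) h
  · have h' : a (phi hN i) (-phi hN i) = a (phi hN j) (-phi hN j) := h
    injection h' with h1 _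
    rw [hphi h1]
  · have h' : a (phi hN i) (-phi hN i) = b (k - phi hN j) (2 * (M : ZMod N) - k + phi hN j) := h
    cases h'
  · have h' : b (k - phi hN i) (2 * (M : ZMod N) - k + phi hN i) = a (phi hN j) (-phi hN j) := h
    cases h'
  · have h' : b (k - phi hN i) (2 * (M : ZMod N) - k + phi hN i) =
      b (k - phi hN j) (2 * (M : ZMod N) - k + phi hN j) := h
    injection h' with h1 _
    have : phi hN i = phi hN j := by linear_combination (-1 : ZMod N) * h1
    rw [hphi this]


theorem q8Hom_range_le (hN : N = 4 * M) (k : ZMod N) : (q8Hom hN k).range ≤ vSub N k := by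
  rintro _ ⟨(i | i), rfl⟩
  · show a (phi hN i) (-phi hN i) ∈ vSub N k
    rw [a_mem_vSub_iff, phi_apply]
    linear_combination ((i.val : ℕ) : ZMod N) * four_M hN
  · show b (k - phi hN i) (2 * (M : ZMod N) - k + phi hN i) ∈ vSub N k
    rw [b_mem_vSub_iff, phi_apply]
    linear_combination (-((i.val : ℕ) : ZMod N) - 1) * four_M hN

theorem vSub_eq_sup (hN : N = 4 * M) (hM : 0 < M) (k : ZMod N) :
    vSub N k = (q8Hom hN k).range ⊔ Subgroup.center (Wr N) := by
  have hN1 : 1 < N := by omega
  apply le_antisymm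
  · rintro (⟨i, j⟩ | ⟨i, j⟩) hg
    · rw [a_mem_vSub_iff] at hg
      rcases two_tor hN hM _ hg with h | h
      · have : i = j := sub_eq_zero.mp h
        subst this
        exact Subgroup.mem_sup_right ((mem_center_iff hN1 _).mpr ⟨i, rfl⟩)
      · have h1 : a i j = q8Hom hN k (QuaternionGroup.a 1) * a (j + (M : ZMod N)) (j + (M : ZMod N)) := by
          show a i j = a (phi hN 1) (-phi hN 1) * a (j + (M : ZMod N)) (j + (M : ZMod N))
          rw [a_mul_a, phi_one]
          congr 1
          · linear_combination h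
          · ring
        rw [h1]
        exact Subgroup.mul_mem_sup ⟨_, rfl⟩ ((mem_center_iff hN1 _).mpr ⟨_, rfl⟩)
    · rw [b_mem_vSub_iff] at hg
      have hg' : 2 * (i - j - 2 * k) = 0 := by linear_combination hg
      rcases two_tor hN hM _ hg' with h | h
      · have h1 : b i j = q8Hom hN k (QuaternionGroup.xa 1) * a (i - k + (M : ZMod N)) (i - k + (M : ZMod N)) := by
          show b i j = b (k - phi hN 1) (2 * (M : ZMod N) - k + phi hN 1) * a (i - k + (M : ZMod N)) (i - k + (M : ZMod N))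
          rw [b_mul_a, phi_one]
          congr 1
          · ring
          · linear_combination (-1 : ZMod N) * h - four_M hN
        rw [h1]
        exact Subgroup.mul_mem_sup ⟨_, rfl⟩ ((mem_center_iff hN1 _).mpr ⟨_, rfl⟩)
      · have h1 : b i j = q8Hom hN k (QuaternionGroup.xa 0) * a (i - k) (i - k) := by
          show b i j = b (k - phi hN 0) (2 * (M : ZMod N) - k + phi hN 0) * a (i - k) (i - k)
          rw [b_mul_a, map_zero]
          congr 1
          · ring
          · linear_combination (-1 : ZMod N) * h - four_M hN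
        rw [h1]
        exact Subgroup.mul_mem_sup ⟨_, rfl⟩ ((mem_center_iff hN1 _).mpr ⟨_, rfl⟩)
  · exact sup_le (q8Hom_range_le hN k) (center_le_vSub hN1 k)

theorem quat_pow_four : ∀ u : QuaternionGroup 2, u ^ 4 = 1 := by decide

theorem quat_sq_central : ∀ u v : QuaternionGroup 2, u * u = 1 → u * v = v * u := by decide

theorem quat_noncentral : ∀ u : QuaternionGroup 2, u * u ≠ 1 → ∃ v, u * v ≠ v * u := by decide

theorem quat_three : (QuaternionGroup.a 1 : QuaternionGroup 2) * QuaternionGroup.a 1 ≠ 1 ∧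
    (QuaternionGroup.xa 0 : QuaternionGroup 2) * QuaternionGroup.xa 0 ≠ 1 ∧
    ((QuaternionGroup.a 1 : QuaternionGroup 2) * QuaternionGroup.xa 0) *
      ((QuaternionGroup.a 1 : QuaternionGroup 2) * QuaternionGroup.xa 0) ≠ 1 := by decide

/-- every quaternion subgroup of order `8` generates some `V_k` together with the centre. -/
theorem exists_vSub_of_quat (hN : N = 4 * M) (hM : 0 < M) (Q : Subgroup (Wr N))
    (e : Q ≃* QuaternionGroup 2) : ∃ k, Q ⊔ Subgroup.center (Wr N) = vSub N k := by
  have hN1 : 1 < N := by omega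
  have h2M := twoM_ne_zero hN hM
  -- transfer of the abstract facts
  have f1 : ∀ u ∈ Q, u ^ 4 = 1 := by
    intro u hu
    have := quat_pow_four (e ⟨u, hu⟩)
    rw [← map_pow, MulEquiv.map_eq_one_iff] at this
    exact congrArg Subtype.val this
  have f2 : ∀ u ∈ Q, u * u = 1 → ∀ v ∈ Q, u * v = v * u := by
    intro u hu huu v hv
    have h1 : e ⟨u, hu⟩ * e ⟨u, hu⟩ = 1 := by
      rw [← map_mul]
      have : (⟨u, hu⟩ : Q) * ⟨u, hu⟩ = 1 := Subtype.ext huu
      rw [this, map_one]
    have := quat_sq_central _ (e ⟨v, hv⟩) h1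
    rw [← map_mul, ← map_mul] at this
    exact congrArg Subtype.val (e.injective this)
  have f3 : ∀ u ∈ Q, u * u ≠ 1 → ∃ v ∈ Q, u * v ≠ v * u := by
    intro u hu huu
    have h1 : e ⟨u, hu⟩ * e ⟨u, hu⟩ ≠ 1 := by
      rw [← map_mul]
      intro h
      rw [MulEquiv.map_eq_one_iff] at h
      exact huu (congrArg Subtype.val h)
    obtain ⟨v, hv⟩ := quat_noncentral _ h1
    refine ⟨(e.symm v : Q), (e.symm v).2, ?_⟩
    intro h
    apply hv
    have h2 : (⟨u, hu⟩ : Q) * e.symm v = e.symm v * ⟨u, hu⟩ := Subtype.ext h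
    have := congrArg e h2
    simpa using this
  obtain ⟨x, hx, y, hy, hxx, hyy, hxy⟩ : ∃ x ∈ Q, ∃ y ∈ Q, x * x ≠ 1 ∧ y * y ≠ 1 ∧
      (x * y) * (x * y) ≠ 1 := by
    obtain ⟨h1, h2, h3⟩ := quat_three
    refine ⟨(e.symm (QuaternionGroup.a 1) : Q), (e.symm _).2,
      (e.symm (QuaternionGroup.xa 0) : Q), (e.symm _).2, ?_, ?_, ?_⟩
    · intro h
      apply h1
      have : e.symm (QuaternionGroup.a 1) * e.symm (QuaternionGroup.a 1) = 1 := Subtype.ext h
      rw [← map_mul, MulEquiv.map_eq_one_iff] at this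
      exact this
    · intro h
      apply h2
      have : e.symm (QuaternionGroup.xa 0) * e.symm (QuaternionGroup.xa 0) = 1 := Subtype.ext h
      rw [← map_mul, MulEquiv.map_eq_one_iff] at this
      exact this
    · intro h
      apply h3
      have : (e.symm (QuaternionGroup.a 1) * e.symm (QuaternionGroup.xa 0)) *
          (e.symm (QuaternionGroup.a 1) * e.symm (QuaternionGroup.xa 0)) = 1 := Subtype.ext h
      rw [← map_mul, ← map_mul, MulEquiv.map_eq_one_iff] at this
      exact this
  -- some `b k l ∈ Q`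
  obtain ⟨k, l, hkl⟩ : ∃ k l, b k l ∈ Q := by
    obtain ⟨v, hv, hne⟩ := f3 x hx hxx
    rcases x with ⟨i, j⟩ | ⟨i, j⟩
    · rcases v with ⟨r, s⟩ | ⟨r, s⟩
      · exact absurd (a_comm i j r s) hne
      · exact ⟨r, s, hv⟩
    · exact ⟨i, j, hx⟩
  -- `a`-elements
  have ha : ∀ i j, a i j ∈ Q → 2 * (i - j) = 0 := by
    intro i j hij
    have h1 : a (i + i) (j + j) ∈ Q := by
      have := Q.mul_mem hij hij
      rwa [a_mul_a] at this
    have h2 : a (i + i) (j + j) * a (i + i) (j + j) = 1 := by
      have := f1 _ hij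
      rw [a_pow, one_def] at this
      injection this with h4 h5
      push_cast at h4 h5
      rw [a_mul_a, one_def]
      congr 1
      · linear_combination h4
      · linear_combination h5
    have h3 := f2 _ h1 h2 _ hkl
    rw [a_mul_b, b_mul_a] at h3
    injection h3 with h4 h5
    linear_combination h4
  have hb : 2 * (k + l) = 0 := by
    have := f1 _ hkl
    rw [show (4 : ℕ) = 2 * 2 from rfl, pow_mul, b_sq, a_pow, one_def] at this
    injection this with h4 h5
  obtain ⟨k', hk'⟩ : ∃ k', k - l = 2 * k' := by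
    rcases two_tor hN hM _ hb with h | h
    · exact ⟨-l, by linear_combination h⟩
    · exact ⟨(M : ZMod N) - l, by linear_combination h⟩
  -- an `a`-element of order four
  obtain ⟨i₀, j₀, h₀, hij₀⟩ : ∃ i₀ j₀, a i₀ j₀ ∈ Q ∧ i₀ - j₀ = 2 * (M : ZMod N) := by
    have key : ∀ i j, a i j ∈ Q → a i j * a i j ≠ 1 → i - j = 2 * (M : ZMod N) := by
      intro i j hij hne
      rcases two_tor hN hM _ (ha i j hij) with h | h
      · exfalso
        have : i = j := sub_eq_zero.mp h
        subst this
        obtain ⟨v, hv, hne'⟩ := f3 _ hij hne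
        have hc : a i i ∈ Subgroup.center (Wr N) := (mem_center_iff hN1 _).mpr ⟨_, rfl⟩
        rw [Subgroup.mem_center_iff] at hc
        exact hne' (hc v).symm
      · exact h
    rcases x with ⟨i, j⟩ | ⟨i, j⟩
    · exact ⟨i, j, hx, key i j hx hxx⟩
    · rcases y with ⟨r, s⟩ | ⟨r, s⟩
      · exact ⟨r, s, hy, key r s hy hyy⟩
      · have hm := Q.mul_mem hx hy
        rw [b_mul_b] at hm hxy
        exact ⟨_, _, hm, key _ _ hm hxy⟩
  refine ⟨k', ?_⟩
  apply le_antisymm
  · apply sup_le _ (center_le_vSub hN1 k')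
    rintro (⟨i, j⟩ | ⟨i, j⟩) hg
    · rw [a_mem_vSub_iff]; exact ha i j hg
    · rw [b_mem_vSub_iff]
      have h1 : a (-l + j) (-k + i) ∈ Q := by
        have := Q.mul_mem (Q.inv_mem hkl) hg
        rwa [inv_b, b_mul_b] at this
      have h2 := ha _ _ h1
      linear_combination (-1 : ZMod N) * h2 + 2 * hk'
  · rintro (⟨i, j⟩ | ⟨i, j⟩) hg
    · rw [a_mem_vSub_iff] at hg
      rcases two_tor hN hM _ hg with h | h
      · have : i = j := sub_eq_zero.mp h
        subst this
        exact Subgroup.mem_sup_right ((mem_center_iff hN1 _).mpr ⟨i, rfl⟩)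
      · have h1 : a i j = a i₀ j₀ * a (j - j₀) (j - j₀) := by
          rw [a_mul_a]
          congr 1
          · linear_combination h - hij₀
          · ring
        rw [h1]
        exact Subgroup.mul_mem_sup h₀ ((mem_center_iff hN1 _).mpr ⟨_, rfl⟩)
    · rw [b_mem_vSub_iff] at hg
      have hg' : 2 * (i - j - (k - l)) = 0 := by linear_combination hg - 2 * hk'
      rcases two_tor hN hM _ hg' with h | h
      · have h1 : b i j = b k l * a (i - k) (i - k) := by
          rw [b_mul_a]
          congr 1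
          · ring
          · linear_combination (-1 : ZMod N) * h
        rw [h1]
        exact Subgroup.mul_mem_sup hkl ((mem_center_iff hN1 _).mpr ⟨_, rfl⟩)
      · have h1 : b i j = (b k l * a i₀ j₀) * a (i - k - j₀) (i - k - j₀) := by
          rw [b_mul_a, b_mul_a]
          congr 1
          · ring
          · linear_combination (-1 : ZMod N) * h - hij₀ - four_M hN
        rw [h1]
        exact Subgroup.mul_mem_sup (Q.mul_mem hkl h₀) ((mem_center_iff hN1 _).mpr ⟨_, rfl⟩)

end Wr


/-! ### Subgroups containing their centralizer -/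

section classify

open Wr

variable {N M : ℕ}

theorem aut_fix_pair {Y : Type*} [Group Y] (α : MulAut Y) (k : ℕ) (hk : Odd k) (hαk : α ^ k = 1)
    (u v : Y) (hu : α u = u ∨ α u = v) (hv : α v = u ∨ α v = v) : α u = u := by
  rcases hu with h | h
  · exact h
  rcases hv with h' | h'
  · have key : ∀ j : ℕ, (α ^ (2 * j)) u = u := by
      intro j
      induction j with
      | zero => simp
      | succ j ih =>
        rw [show 2 * (j + 1) = 2 * j + 1 + 1 by ring, pow_succ', pow_succ', MulAut.mul_apply,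
          MulAut.mul_apply, ih, h, h']
    obtain ⟨m, rfl⟩ := hk
    have h1 : (α ^ (2 * m + 1)) u = v := by
      rw [pow_succ', MulAut.mul_apply, key m, h]
    rw [hαk, MulAut.one_apply] at h1
    rw [h, h1]
  · have : u = v := α.injective (h.trans h'.symm)
    rw [h, this]

theorem sq_mem_aSub (g : Wr N) : g * g ∈ aSub N := by
  rcases g with ⟨i, j⟩ | ⟨i, j⟩
  · rw [a_mul_a]; exact a_mem_aSub _ _
  · rw [b_mul_b]; exact a_mem_aSub _ _

theorem center_le_of_centralizer_le (X : Subgroup (Wr N))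
    (hC : Subgroup.centralizer (X : Set (Wr N)) ≤ X) : Subgroup.center (Wr N) ≤ X :=
  le_trans (Subgroup.center_le_centralizer _) hC

theorem a_mem_iff_sub (hN1 : 1 < N) (X : Subgroup (Wr N)) (hZ : Subgroup.center (Wr N) ≤ X)
    (i j : ZMod N) : a i j ∈ X ↔ a (i - j) 0 ∈ X := by
  have h1 : a j j ∈ X := hZ ((mem_center_iff hN1 _).mpr ⟨j, rfl⟩)
  constructor
  · intro h
    have := X.mul_mem h (X.inv_mem h1)
    rw [inv_a, a_mul_a] at this
    convert this using 2 <;> ring
  · intro h
    have := X.mul_mem h h1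
    rw [a_mul_a] at this
    convert this using 2 <;> ring

theorem a_mul_mem [NeZero N] (X : Subgroup (Wr N)) (d c : ZMod N) (h : a d 0 ∈ X) :
    a (c * d) 0 ∈ X := by
  have := X.pow_mem h c.val
  rw [a_pow, ZMod.natCast_zmod_val, mul_zero] at this
  exact this

theorem eq_aSub_of_le (X : Subgroup (Wr N))
    (hC : Subgroup.centralizer (X : Set (Wr N)) ≤ X) (hle : X ≤ aSub N) : X = aSub N := by
  apply le_antisymm hle
  intro g hg
  apply hC
  rw [Subgroup.mem_centralizer_iff]
  intro h hh
  exact aSub_comm h g (hle hh) hg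

theorem isPGroup_Wr (hpow : ∃ n : ℕ, N = 2 ^ n) : IsPGroup 2 (Wr N) := by
  obtain ⟨n, rfl⟩ := hpow
  have : NeZero (2 ^ n) := ⟨by positivity⟩
  apply IsPGroup.of_card (n := 2 * n + 1)
  rw [Wr.card]; ring

theorem exists_two_pow (hpow : ∃ n : ℕ, N = 2 ^ n) (X : Subgroup (Wr N)) (x : X) :
    ∃ e : ℕ, x ^ (2 ^ e) = 1 :=
  ((isPGroup_Wr hpow).to_subgroup X) x

theorem z1_ne_one (hN : N = 4 * M) (hM : 0 < M) :
    a (2 * (M : ZMod N)) (2 * (M : ZMod N)) ≠ 1 := by
  intro h
  rw [one_def] at h
  injection h with h1 _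
  exact twoM_ne_zero hN hM h1

/-- the involutions of `aSub` -/
theorem a_involution (hN : N = 4 * M) (hM : 0 < M) (i j : ZMod N) (h : a i j * a i j = 1) :
    (i = 0 ∨ i = 2 * (M : ZMod N)) ∧ (j = 0 ∨ j = 2 * (M : ZMod N)) := by
  rw [a_mul_a, one_def] at h
  injection h with h1 h2
  exact ⟨two_tor hN hM i (by linear_combination h1), two_tor hN hM j (by linear_combination h2)⟩

/-- common end of the argument: if `X ∩ A` is invariant under all automorphisms of `X`, then
`Aut(X)` is a `2`-group. -/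
theorem aut_isPGroup_of_invariant (hN : N = 4 * M) (hM : 0 < M) (hpow : ∃ n : ℕ, N = 2 ^ n)
    (X : Subgroup (Wr N)) (hZ : Subgroup.center (Wr N) ≤ X) (i₀ j₀ : ZMod N) (hb : b i₀ j₀ ∈ X)
    (h2M : a (2 * (M : ZMod N)) 0 ∈ X)
    (hinvar : ∀ β : MulAut X, ∀ x : X, (x : Wr N) ∈ aSub N → ((β x : X) : Wr N) ∈ aSub N) :
    IsPGroup 2 (MulAut X) := by
  have hN1 : 1 < N := by omega
  have : NeZero N := ⟨by omega⟩
  have h2Mne := twoM_ne_zero hN hM
  have h4M := twoM_add_twoM hN
  apply isPGroup_two_of_odd_trivial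
  intro α hodd
  have hαk : α ^ orderOf α = 1 := pow_orderOf_eq_one α
  set k := orderOf α with hk
  -- the distinguished elements
  have hz1X : a (2 * (M : ZMod N)) (2 * (M : ZMod N)) ∈ X :=
    hZ ((mem_center_iff hN1 _).mpr ⟨_, rfl⟩)
  have hu2X : a 0 (2 * (M : ZMod N)) ∈ X := by
    have := X.mul_mem hz1X h2M
    rw [a_mul_a, h4M, add_zero] at this
    exact this
  set z1 : X := ⟨_, hz1X⟩ with hz1
  set u1 : X := ⟨_, h2M⟩ with hu1
  set u2 : X := ⟨_, hu2X⟩ with hu2
  have hnc : ∃ g ∈ X, ∃ h ∈ X, g * h ≠ h * g := by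
    refine ⟨_, h2M, _, hb, ?_⟩
    rw [a_mul_b, b_mul_a]
    intro h
    injection h with h1 _
    apply h2Mne
    linear_combination h1
  -- `α` fixes `z1`
  have hαz1 : α z1 = z1 := by
    have hcen : ∀ g ∈ X, g * ((α z1 : X) : Wr N) = ((α z1 : X) : Wr N) * g := by
      intro g hg
      have h1 : z1 * α.symm ⟨g, hg⟩ = α.symm ⟨g, hg⟩ * z1 := by
        apply Subtype.ext
        have hc : a (2 * (M : ZMod N)) (2 * (M : ZMod N)) ∈ Subgroup.center (Wr N) :=
          (mem_center_iff hN1 _).mpr ⟨_, rfl⟩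
        rw [Subgroup.mem_center_iff] at hc
        exact (hc _).symm
      have h2 := congrArg α h1
      rw [map_mul, map_mul, MulEquiv.apply_symm_apply] at h2
      exact (congrArg Subtype.val h2).symm
    have hc := center_le_of_noncomm hN1 X hnc _ (α z1).2 hcen
    obtain ⟨i, hi⟩ := (mem_center_iff hN1 _).mp hc
    have hsq : ((α z1 : X) : Wr N) * ((α z1 : X) : Wr N) = 1 := by
      have h1 : z1 * z1 = 1 := by
        apply Subtype.ext
        show a _ _ * a _ _ = 1
        rw [a_mul_a, h4M]; rfl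
      have h2 := congrArg α h1
      rw [map_mul, map_one] at h2
      exact congrArg Subtype.val h2
    rw [hi] at hsq
    obtain ⟨h1 | h1, -⟩ := a_involution hN hM _ _ hsq
    · exfalso
      rw [h1] at hi
      have h2 : α z1 = 1 := Subtype.ext hi
      rw [MulEquiv.map_eq_one_iff] at h2
      exact z1_ne_one hN hM (congrArg Subtype.val h2)
    · apply Subtype.ext
      rw [hi, h1]
  -- involutions of `B`
  have hinvol : ∀ x : X, (x : Wr N) ∈ aSub N → x * x = 1 → x = 1 ∨ x = u1 ∨ x = u2 ∨ x = z1 := by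
    rintro ⟨x, hxX⟩ hxA hxx
    obtain ⟨i, j, rfl⟩ := (mem_aSub_iff _).mp hxA
    have h1 : a i j * a i j = 1 := congrArg Subtype.val hxx
    obtain ⟨hi | hi, hj | hj⟩ := a_involution hN hM _ _ h1
    · left; apply Subtype.ext; show a i j = 1; rw [hi, hj]; rfl
    · right; right; left; apply Subtype.ext; show a i j = _; rw [hi, hj]
    · right; left; apply Subtype.ext; show a i j = _; rw [hi, hj]
    · right; right; right; apply Subtype.ext; show a i j = _; rw [hi, hj]
  have hu1ne : u1 ≠ 1 := by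
    intro h
    have h1 : a (2 * (M : ZMod N)) 0 = 1 := congrArg Subtype.val h
    rw [one_def] at h1
    injection h1 with h2 _
    exact h2Mne h2
  have hu2ne : u2 ≠ 1 := by
    intro h
    have h1 : a 0 (2 * (M : ZMod N)) = 1 := congrArg Subtype.val h
    rw [one_def] at h1
    injection h1 with _ h2
    exact h2Mne h2
  have hu1z : u1 ≠ z1 := by
    intro h
    have h1 : a (2 * (M : ZMod N)) 0 = a (2 * (M : ZMod N)) (2 * (M : ZMod N)) :=
      congrArg Subtype.val h
    injection h1 with _ h2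
    exact h2Mne h2.symm
  have hu2z : u2 ≠ z1 := by
    intro h
    have h1 : a 0 (2 * (M : ZMod N)) = a (2 * (M : ZMod N)) (2 * (M : ZMod N)) :=
      congrArg Subtype.val h
    injection h1 with h2 _
    exact h2Mne h2.symm
  have hu1sq : u1 * u1 = 1 := by
    apply Subtype.ext
    show a _ _ * a _ _ = 1
    rw [a_mul_a, h4M, add_zero]; rfl
  have hu2sq : u2 * u2 = 1 := by
    apply Subtype.ext
    show a _ _ * a _ _ = 1
    rw [a_mul_a, h4M, add_zero]; rfl
  have himg : ∀ u : X, (u : Wr N) ∈ aSub N → u * u = 1 → u ≠ 1 → u ≠ z1 → α u = u1 ∨ α u = u2 := by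
    intro u huA huu hu1' huz
    have h1 : α u * α u = 1 := by rw [← map_mul, huu, map_one]
    rcases hinvol (α u) (hinvar α u huA) h1 with h | h | h | h
    · exfalso; rw [MulEquiv.map_eq_one_iff] at h; exact hu1' h
    · left; exact h
    · right; exact h
    · exfalso; rw [← hαz1] at h; exact huz (α.injective h)
  have hαu1 : α u1 = u1 := by
    apply aut_fix_pair α k hodd hαk u1 u2
    · exact himg u1 (a_mem_aSub _ _) hu1sq hu1ne hu1z
    · exact himg u2 (a_mem_aSub _ _) hu2sq hu2ne hu2z
  have hαu2 : α u2 = u2 := by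
    apply aut_fix_pair α k hodd hαk u2 u1
    · exact (himg u2 (a_mem_aSub _ _) hu2sq hu2ne hu2z).symm
    · exact (himg u1 (a_mem_aSub _ _) hu1sq hu1ne hu1z).symm
  -- apply the generic lemmas
  set B : Subgroup X := (aSub N).subgroupOf X with hB
  have hfixB : ∀ x ∈ B, α x = x := by
    apply aut_fix_abelian α k hodd hαk B
    · intro x hx y hy
      apply Subtype.ext
      exact aSub_comm _ _ (Subgroup.mem_subgroupOf.mp hx) (Subgroup.mem_subgroupOf.mp hy)
    · intro x _
      exact exists_two_pow hpow X x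
    · intro x hx
      exact Subgroup.mem_subgroupOf.mpr (hinvar α x (Subgroup.mem_subgroupOf.mp hx))
    · intro x hx hxx
      rcases hinvol x (Subgroup.mem_subgroupOf.mp hx) hxx with h | h | h | h
      · rw [h, map_one]
      · rw [h, hαu1]
      · rw [h, hαu2]
      · rw [h, hαz1]
  apply aut_fix_index_two α k hodd hαk B hfixB
  · intro x hx
    have := hinvar α.symm (α x) (Subgroup.mem_subgroupOf.mp hx)
    rw [MulEquiv.symm_apply_apply] at this
    exact Subgroup.mem_subgroupOf.mpr this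
  · rintro ⟨x, hxX⟩ ⟨y, hyX⟩ hx hy
    rw [Subgroup.mem_subgroupOf]
    show x⁻¹ * y ∈ aSub N
    rcases x with ⟨i, j⟩ | ⟨i, j⟩
    · exact absurd (Subgroup.mem_subgroupOf.mpr (a_mem_aSub i j)) hx
    · rcases y with ⟨r, s⟩ | ⟨r, s⟩
      · exact absurd (Subgroup.mem_subgroupOf.mpr (a_mem_aSub r s)) hy
      · rw [inv_b, b_mul_b]; exact a_mem_aSub _ _
  · intro x _
    exact exists_two_pow hpow X x

end classify


section classify2

open Wr

variable {N M : ℕ}

/-- Case A: `x^{N/4} ∈ X`. -/
theorem invariant_case_A (hN : N = 4 * M) (hM : 0 < M) (X : Subgroup (Wr N))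
    (hA : a (M : ZMod N) 0 ∈ X) :
    ∀ β : MulAut X, ∀ x : X, (x : Wr N) ∈ aSub N → ((β x : X) : Wr N) ∈ aSub N := by
  intro β x hx
  by_contra hcon
  obtain ⟨i, j, hij⟩ : ∃ i j, ((β x : X) : Wr N) = b i j := by
    rcases h : ((β x : X) : Wr N) with ⟨i, j⟩ | ⟨i, j⟩
    · exact absurd (h ▸ a_mem_aSub i j) hcon
    · exact ⟨i, j, rfl⟩
  set e' : X := β.symm ⟨_, hA⟩ with he'
  have hs : ((e' * e' : X) : Wr N) ∈ aSub N := sq_mem_aSub _
  have hcomm : x * (e' * e') = (e' * e') * x := Subtype.ext (aSub_comm _ _ hx hs)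
  have hβe : β e' = ⟨_, hA⟩ := MulEquiv.apply_symm_apply β _
  have h1 := congrArg β hcomm
  simp only [map_mul, hβe] at h1
  have h2 := congrArg Subtype.val h1
  have h3 : b i j * (a (M : ZMod N) 0 * a (M : ZMod N) 0) =
      (a (M : ZMod N) 0 * a (M : ZMod N) 0) * b i j := by
    rw [← hij]; exact h2
  rw [a_mul_a, b_mul_a, a_mul_b] at h3
  injection h3 with h4 _
  apply twoM_ne_zero hN hM
  linear_combination (-1 : ZMod N) * h4

/-- Case B, odd: `X ∩ A = {x^i y^j | 2(i-j) = 0}` and the elements outside `A` have order `2N`. -/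
theorem invariant_case_B (hN : N = 4 * M) (hM : 0 < M) (X : Subgroup (Wr N))
    (hodd : ∀ i j, b i j ∈ X → 2 * (M : ZMod N) * (i + j) = 2 * (M : ZMod N)) :
    ∀ β : MulAut X, ∀ x : X, (x : Wr N) ∈ aSub N → ((β x : X) : Wr N) ∈ aSub N := by
  intro β x hx
  by_contra hcon
  obtain ⟨i, j, hij⟩ : ∃ i j, ((β x : X) : Wr N) = b i j := by
    rcases h : ((β x : X) : Wr N) with ⟨i, j⟩ | ⟨i, j⟩
    · exact absurd (h ▸ a_mem_aSub i j) hcon
    · exact ⟨i, j, rfl⟩
  have hxN : x ^ N = 1 := by
    apply Subtype.ext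
    obtain ⟨r, s, hrs⟩ := (mem_aSub_iff _).mp hx
    show (x : Wr N) ^ N = 1
    rw [hrs, a_pow, ZMod.natCast_self, zero_mul, zero_mul]; rfl
  have h1 : (β x) ^ N = 1 := by rw [← map_pow, hxN, map_one]
  have h2 : (b i j) ^ N = 1 := by
    rw [← hij]; exact congrArg Subtype.val h1
  have hbX : b i j ∈ X := by rw [← hij]; exact (β x).2
  have hNN : N = 2 * (2 * M) := by omega
  have h2' : (b i j) ^ (2 * (2 * M)) = 1 := by
    rw [← h2]; exact congrArg (fun n : ℕ => b i j ^ n) hNN.symm
  rw [pow_mul, b_sq, a_pow, one_def] at h2'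
  injection h2' with h3 _
  push_cast at h3
  rw [hodd i j hbX] at h3
  exact twoM_ne_zero hN hM h3

/-- Case C: `X ∩ A` is the centre. -/
theorem aut_isPGroup_case_C (hN : N = 4 * M) (hM : 0 < M) (hpow : ∃ n : ℕ, N = 2 ^ n)
    (X : Subgroup (Wr N)) (hZ : Subgroup.center (Wr N) ≤ X)
    (ha : ∀ i j, a i j ∈ X → i = j) : IsPGroup 2 (MulAut X) := by
  have hN1 : 1 < N := by omega
  have : NeZero N := ⟨by omega⟩
  have h2Mne := twoM_ne_zero hN hM
  have h4M := twoM_add_twoM hN
  -- the relation between two `b`'s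
  have hbb : ∀ i j r s, b i j ∈ X → b r s ∈ X → s - j = r - i := by
    intro i j r s h1 h2
    have := X.mul_mem (X.inv_mem h1) h2
    rw [inv_b, b_mul_b] at this
    have := ha _ _ this
    linear_combination this
  have hcomm : ∀ x ∈ X, ∀ y ∈ X, x * y = y * x := by
    rintro (⟨i, j⟩ | ⟨i, j⟩) hx (⟨r, s⟩ | ⟨r, s⟩) hy
    · exact a_comm _ _ _ _
    · have := ha _ _ hx; subst this
      rw [a_mul_b, b_mul_a]; congr 1 <;> ring
    · have := ha _ _ hy; subst this
      rw [a_mul_b, b_mul_a]; congr 1 <;> ring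
    · have := hbb _ _ _ _ hx hy
      rw [b_mul_b, b_mul_b]; congr 1
      · linear_combination this
      · linear_combination (-1 : ZMod N) * this
  apply isPGroup_two_of_odd_trivial
  intro α hodd
  have hαk : α ^ orderOf α = 1 := pow_orderOf_eq_one α
  set k := orderOf α with hk
  have hz1X : a (2 * (M : ZMod N)) (2 * (M : ZMod N)) ∈ X :=
    hZ ((mem_center_iff hN1 _).mpr ⟨_, rfl⟩)
  have hwX : a (M : ZMod N) (M : ZMod N) ∈ X := hZ ((mem_center_iff hN1 _).mpr ⟨_, rfl⟩)
  set z1 : X := ⟨_, hz1X⟩ with hz1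
  set w : X := ⟨_, hwX⟩ with hw
  have hz1sq : z1 * z1 = 1 := by
    apply Subtype.ext
    show a _ _ * a _ _ = 1
    rw [a_mul_a, h4M]; rfl
  have hz1ne : z1 ≠ 1 := fun h => z1_ne_one hN hM (congrArg Subtype.val h)
  -- squares are central
  have hsq : ∀ x : X, ∃ s, ((x * x : X) : Wr N) = a s s := by
    rintro ⟨⟨i, j⟩ | ⟨i, j⟩, hx⟩
    · have := ha _ _ hx; subst this
      exact ⟨i + i, a_mul_a _ _ _ _⟩
    · refine ⟨i + j, ?_⟩
      show b i j * b i j = _
      rw [b_mul_b, add_comm j i]
  have hαz1 : α z1 = z1 := by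
    have h1 : z1 = w * w := by
      apply Subtype.ext
      show a _ _ = a _ _ * a _ _
      rw [a_mul_a]; congr 1 <;> ring
    obtain ⟨s, hs⟩ := hsq (α w)
    have h2 : ((α z1 : X) : Wr N) = a s s := by rw [h1, map_mul]; exact hs
    have h3 : ((α z1 : X) : Wr N) * ((α z1 : X) : Wr N) = 1 := by
      have := congrArg α hz1sq
      rw [map_mul, map_one] at this
      exact congrArg Subtype.val this
    rw [h2] at h3
    obtain ⟨h4 | h4, -⟩ := a_involution hN hM _ _ h3
    · exfalso
      rw [h4] at h2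
      have h5 : α z1 = 1 := Subtype.ext h2
      rw [MulEquiv.map_eq_one_iff] at h5
      exact hz1ne h5
    · apply Subtype.ext
      rw [h2, h4]
  -- all involutions are fixed
  have hinv : ∀ x : X, x * x = 1 → α x = x := by
    intro x hxx
    by_cases hx1 : x = 1
    · rw [hx1, map_one]
    by_cases hxz : x = z1
    · rw [hxz, hαz1]
    have hαxx : α x * α x = 1 := by rw [← map_mul, hxx, map_one]
    have hαx1 : α x ≠ 1 := by
      intro h; rw [MulEquiv.map_eq_one_iff] at h; exact hx1 h
    have hαxz : α x ≠ z1 := by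
      intro h; rw [← hαz1] at h; exact hxz (α.injective h)
    -- shape of a noncentral involution
    have shape : ∀ y : X, y * y = 1 → y ≠ 1 → y ≠ z1 → ∃ i, (y : Wr N) = b i (-i) := by
      rintro ⟨⟨i, j⟩ | ⟨i, j⟩, hy⟩ hyy hy1 hyz
      · exfalso
        have := ha _ _ hy; subst this
        have h1 : a i i * a i i = 1 := congrArg Subtype.val hyy
        obtain ⟨h2 | h2, -⟩ := a_involution hN hM _ _ h1
        · apply hy1; apply Subtype.ext; show a i i = 1; rw [h2]; rfl
        · apply hyz; apply Subtype.ext; show a i i = _; rw [h2]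
      · have h1 : b i j * b i j = 1 := congrArg Subtype.val hyy
        rw [b_sq_eq_one_iff] at h1
        subst h1
        exact ⟨i, rfl⟩
    obtain ⟨i, hi⟩ := shape x hxx hx1 hxz
    obtain ⟨r, hr⟩ := shape (α x) hαxx hαx1 hαxz
    have hxX : b i (-i) ∈ X := by rw [← hi]; exact x.2
    have hαxX : b r (-r) ∈ X := by rw [← hr]; exact (α x).2
    have hrel := hbb _ _ _ _ hxX hαxX
    have h2 : 2 * (r - i) = 0 := by linear_combination (-1 : ZMod N) * hrel
    have hcase : α x = x ∨ α x = x * z1 := by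
      rcases two_tor hN hM _ h2 with h3 | h3
      · left
        apply Subtype.ext
        rw [hr, hi, sub_eq_zero.mp h3]
      · right
        apply Subtype.ext
        show ((α x : X) : Wr N) = (x : Wr N) * a _ _
        rw [hr, hi, b_mul_a]
        congr 1
        · linear_combination h3
        · linear_combination (-1 : ZMod N) * h3 - h4M
    apply aut_fix_pair α k hodd hαk x (x * z1)
    · exact hcase
    · rw [map_mul, hαz1]
      rcases hcase with h | h
      · right; rw [h]
      · left; rw [h, mul_assoc, hz1sq, mul_one]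
  have hfix : ∀ x ∈ (⊤ : Subgroup X), α x = x := by
    apply aut_fix_abelian α k hodd hαk ⊤
    · intro x _ y _
      exact Subtype.ext (hcomm _ x.2 _ y.2)
    · intro x _
      exact exists_two_pow hpow X x
    · intro x _
      exact Subgroup.mem_top _
    · intro x _ hxx
      exact hinv x hxx
  ext x
  rw [hfix x (Subgroup.mem_top _), MulAut.one_apply]

/-- **Classification** of the subgroups of a wreathed `2`-group containing their centralizer. -/
theorem classify (hN : N = 4 * M) (hM : 0 < M) (hpow : ∃ n : ℕ, N = 2 ^ n)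
    (X : Subgroup (Wr N)) (hC : Subgroup.centralizer (X : Set (Wr N)) ≤ X) :
    X = aSub N ∨ (∃ k, X = vSub N k) ∨ IsPGroup 2 (MulAut X) := by
  have hN1 : 1 < N := by omega
  have : NeZero N := ⟨by omega⟩
  have hZ := center_le_of_centralizer_le X hC
  by_cases hle : X ≤ aSub N
  · left; exact eq_aSub_of_le X hC hle
  right
  obtain ⟨g, hgX, hgA⟩ := SetLike.not_le_iff_exists.mp hle
  obtain ⟨i₀, j₀, hb⟩ : ∃ i₀ j₀, b i₀ j₀ ∈ X := by
    rcases g with ⟨i, j⟩ | ⟨i, j⟩
    · exact absurd (a_mem_aSub i j) hgA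
    · exact ⟨i, j, hgX⟩
  by_cases hA : a (M : ZMod N) 0 ∈ X
  · right
    have h2M : a (2 * (M : ZMod N)) 0 ∈ X := by
      have := X.mul_mem hA hA
      rw [a_mul_a, add_zero, ← two_mul] at this
      exact this
    exact aut_isPGroup_of_invariant hN hM hpow X hZ i₀ j₀ hb h2M (invariant_case_A hN hM X hA)
  by_cases hB : a (2 * (M : ZMod N)) 0 ∈ X
  · have ha : ∀ i j, a i j ∈ X → 2 * (i - j) = 0 := by
      intro i j hij
      by_contra hne
      obtain ⟨c, hc⟩ := exists_mul_quarter hN hM hpow _ hne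
      apply hA
      rw [← hc]
      exact a_mul_mem X _ c ((a_mem_iff_sub hN1 X hZ i j).mp hij)
    have hbrel : ∀ i j, b i j ∈ X → 2 * ((j - j₀) - (i - i₀)) = 0 := by
      intro i j hij
      have := X.mul_mem (X.inv_mem hb) hij
      rw [inv_b, b_mul_b] at this
      have := ha _ _ this
      linear_combination this
    rcases even_or_odd hN hM (i₀ + j₀) with ⟨r, hr⟩ | ⟨r, hr⟩
    · left
      refine ⟨r - j₀, ?_⟩
      apply le_antisymm
      · rintro (⟨i, j⟩ | ⟨i, j⟩) hg
        · rw [a_mem_vSub_iff]; exact ha i j hg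
        · rw [b_mem_vSub_iff]
          linear_combination (-1 : ZMod N) * hbrel i j hg + 2 * hr
      · rintro (⟨i, j⟩ | ⟨i, j⟩) hg
        · rw [a_mem_vSub_iff] at hg
          rw [a_mem_iff_sub hN1 X hZ]
          rcases two_tor hN hM _ hg with h | h
          · rw [h]; exact X.one_mem
          · rw [h]; exact hB
        · rw [b_mem_vSub_iff] at hg
          have h1 : a (j - j₀) (i - i₀) ∈ X := by
            rw [a_mem_iff_sub hN1 X hZ]
            have h2 : 2 * ((j - j₀) - (i - i₀)) = 0 := by linear_combination (-1 : ZMod N) * hg + 2 * hr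
            rcases two_tor hN hM _ h2 with h | h
            · rw [h]; exact X.one_mem
            · rw [h]; exact hB
          have h3 : b i j = b i₀ j₀ * a (j - j₀) (i - i₀) := by
            rw [b_mul_a]; congr 1 <;> ring
          rw [h3]
          exact X.mul_mem hb h1
    · right
      apply aut_isPGroup_of_invariant hN hM hpow X hZ i₀ j₀ hb hB
      apply invariant_case_B hN hM X
      intro i j hij
      have h4M := four_M hN
      rcases two_tor hN hM _ (hbrel i j hij) with h | h
      · have h1 : i + j = 2 * r + 1 + 2 * (j - j₀) := by linear_combination hr - h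
        rw [h1]
        linear_combination (r + (j - j₀)) * h4M
      · have h1 : i + j = 2 * r + 1 + 2 * (j - j₀) - 2 * (M : ZMod N) := by linear_combination hr - h
        rw [h1]
        linear_combination (r + (j - j₀) - (M : ZMod N)) * h4M
  · right
    apply aut_isPGroup_case_C hN hM hpow X hZ
    intro i j hij
    by_contra hne
    have hne' : i - j ≠ 0 := fun h => hne (sub_eq_zero.mp h)
    obtain ⟨c, hc⟩ := exists_mul_half hN hM hpow _ hne'
    apply hB
    rw [← hc]
    exact a_mul_mem X _ c ((a_mem_iff_sub hN1 X hZ i j).mp hij)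

end classify2

end Cfsg.Agent.Lib.Helper86_WrSub
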