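/-
Helper library (helper86): finite groups with a quasi-dihedral Sylow 2-subgroup and no subgroup of
index two: the centralizer of an involution.  Built on the fusion library of helper55
(`Helper55_QDCases`).
-/
import Cfsg.Agent.Lib.Helper55_QDCases
import Cfsg.Agent.Lib.Helper86_WrSub

set_option autoImplicit false
set_option linter.unusedSectionVars false

namespace Cfsg.Agent.Lib.Helper86_QDCentralizer

open Subgroup Cfsg.Agent.Lib.Helper86_QuasiDihedral Cfsg.Agent.Lib.Helper55_QDCoord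
open Cfsg.Agent.Lib.Helper55_QDFusion

/-! ### the quaternion subgroups of order `8` of the model -/

section model

variable (K : ℕ) [NeZero K]

theorem eight_eq : 8 * K = 4 * (2 * K) := by ring

/-- the additive map `ZMod 4 → ZMod (8K)`, `i ↦ 2K i` -/
def psi : ZMod 4 →+ ZMod (8 * K) := Cfsg.Agent.Lib.Helper86_WrSub.Wr.phi (eight_eq K)

theorem psi_apply (i : ZMod 4) : psi K i = QD.qq K * ((i.val : ℕ) : ZMod (8 * K)) := by
  unfold psi
  rw [Cfsg.Agent.Lib.Helper86_WrSub.Wr.phi_apply]
  rfl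

theorem four_mul_qq : 4 * QD.qq K = 0 := by
  have h1 := QD.two_mul_qq (K := K)
  have h2 := hh_add_hh K
  linear_combination 2 * h1 + h2

theorem four_mul_psi (i : ZMod 4) : 4 * psi K i = 0 := by
  rw [psi_apply]
  linear_combination ((i.val : ℕ) : ZMod (8 * K)) * four_mul_qq K

theorem psi_two : psi K 2 = hh K := by
  unfold psi
  rw [Cfsg.Agent.Lib.Helper86_WrSub.Wr.phi_two, ← QD.two_mul_qq, QD.qq_eq]
  push_cast
  ring

theorem psi_injective : Function.Injective (psi K) :=
  Cfsg.Agent.Lib.Helper86_WrSub.Wr.phi_injective (eight_eq K) (by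
    have := NeZero.pos K
    omega)

theorem kap_mul_psi (i : ZMod 4) : kap K * psi K i = - psi K i :=
  kap_mul_of_four K _ (four_mul_psi K i)

/-- the embedding of the quaternion group of order `8` onto `gsub 4 j` -/
def q8Hom (j : ZMod (8 * K)) (hj : par K j = 1) : QuaternionGroup 2 →* QD K where
  toFun
    | QuaternionGroup.a i => Dk.r (psi K i)
    | QuaternionGroup.xa i => Dk.s (j - psi K i)
  map_one' := by
    show (Dk.r (psi K 0) : QD K) = 1
    rw [map_zero]; rfl
  map_mul' := by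
    have h2 := psi_two K
    have hk := kap_mul_psi K
    have hjj : hh K * j = hh K := hh_mul_of_par_one K j hj
    have h1k := one_add_kap K
    rintro (i | i) (k | k)
    · show (Dk.r (psi K (i + k)) : QD K) = Dk.r (psi K i) * Dk.r (psi K k)
      rw [Dk.r_mul_r, map_add]
    · show (Dk.s (j - psi K (k - i)) : QD K) = Dk.r (psi K i) * Dk.s (j - psi K k)
      rw [Dk.r_mul_s, map_sub]; congr 1; ring
    · show (Dk.s (j - psi K (i + k)) : QD K) = Dk.s (j - psi K i) * Dk.r (psi K k)
      rw [Dk.s_mul_r, map_add, hk]; congr 1; ring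
    · show (Dk.r (psi K (2 + k - i)) : QD K) = Dk.s (j - psi K i) * Dk.s (j - psi K k)
      rw [Dk.s_mul_s, map_sub, map_add, h2]; congr 1
      have := hk k
      linear_combination (-1 : ZMod (8 * K)) * hjj - j * h1k + this

theorem q8Hom_injective (j : ZMod (8 * K)) (hj : par K j = 1) :
    Function.Injective (q8Hom K j hj) := by
  have hpsi := psi_injective K
  rintro (i | i) (k | k) h
  · have h' : (Dk.r (psi K i) : QD K) = Dk.r (psi K k) := h
    injection h' with h1
    rw [hpsi h1]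
  · have h' : (Dk.r (psi K i) : QD K) = Dk.s (j - psi K k) := h
    cases h'
  · have h' : (Dk.s (j - psi K i) : QD K) = Dk.r (psi K k) := h
    cases h'
  · have h' : (Dk.s (j - psi K i) : QD K) = Dk.s (j - psi K k) := h
    injection h' with h1
    have : psi K i = psi K k := by linear_combination (-1 : ZMod (8 * K)) * h1
    rw [hpsi this]

theorem q8Hom_range_le (j : ZMod (8 * K)) (hj : par K j = 1) :
    (q8Hom K j hj).range ≤ QD.gsub 4 QD.four_mul_hh j := by
  rintro _ ⟨(i | i), rfl⟩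
  · show (Dk.r (psi K i) : QD K) ∈ QD.gsub 4 QD.four_mul_hh j
    rw [QD.r_mem_gsub]
    exact four_mul_psi K i
  · show (Dk.s (j - psi K i) : QD K) ∈ QD.gsub 4 QD.four_mul_hh j
    rw [QD.s_mem_gsub]
    linear_combination (-1 : ZMod (8 * K)) * four_mul_psi K i

theorem q8Hom_range (j : ZMod (8 * K)) (hj : par K j = 1) :
    (q8Hom K j hj).range = QD.gsub 4 QD.four_mul_hh j := by
  have : Finite (QD.gsub 4 QD.four_mul_hh j : Subgroup (QD K)) := inferInstance
  apply Subgroup.eq_of_le_of_card_ge (q8Hom_range_le K j hj)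
  rw [QD.card_gsub_four,
    Nat.card_congr (MonoidHom.ofInjective (q8Hom_injective K j hj)).symm.toEquiv,
    Nat.card_eq_fintype_card, QuaternionGroup.card]

/-- the subgroups `gsub 4 j` with `j` odd are quaternion of order `8` -/
theorem nonempty_gsub_four_equiv (j : ZMod (8 * K)) (hj : par K j = 1) :
    Nonempty ((QD.gsub 4 QD.four_mul_hh j : Subgroup (QD K)) ≃* QuaternionGroup 2) :=
  ⟨((MonoidHom.ofInjective (q8Hom_injective K j hj)).trans
    (MulEquiv.subgroupCongr (q8Hom_range K j hj))).symm⟩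

end model

/-! ### quaternion subgroups in arbitrary coordinates -/

section coord

variable {G : Type*} [Group G] {P : Subgroup G} {K : ℕ} [NeZero K] (e : QD K ≃* ↥P)

/-- in any coordinates, the subgroups `Qsub e j` with `j` odd are quaternion of order `8` -/
theorem nonempty_Qsub_equiv (j : ZMod (8 * K)) (hj : par K j = 1) :
    Nonempty (Qsub e j ≃* QuaternionGroup 2) := by
  obtain ⟨φ⟩ := nonempty_gsub_four_equiv K j hj
  exact ⟨(imgEquiv e _).symm.trans φ⟩

end coord

/-! ### restriction of the coordinates to a subgroup containing `S` -/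

section restrict

variable {G : Type*} [Group G] [Finite G] {S : Sylow 2 G} {K : ℕ} [NeZero K]
  (e : QD K ≃* ↥(S : Subgroup G)) (C : Subgroup G) (hSC : (S : Subgroup G) ≤ C)

/-- the coordinates on `S` seen as a Sylow subgroup of `C` -/
noncomputable def eC : QD K ≃* ↥((S.subtype hSC : Sylow 2 ↥C) : Subgroup ↥C) :=
  e.trans (Subgroup.subgroupOfEquivOfLe hSC).symm

theorem coe_eC (a : QD K) : (((eC e C hSC a : ↥((S.subtype hSC : Sylow 2 ↥C) : Subgroup ↥C)) : ↥C) : G)
    = ((e a : ↥(S : Subgroup G)) : G) := rfl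

theorem X_eC (i : ZMod (8 * K)) : ((X (eC e C hSC) i : ↥C) : G) = X e i := rfl

theorem Y_eC (i : ZMod (8 * K)) : ((Y (eC e C hSC) i : ↥C) : G) = Y e i := rfl

theorem mem_Qsub_eC (j : ZMod (8 * K)) (y : ↥C) :
    y ∈ Qsub (eC e C hSC) j ↔ (y : G) ∈ Qsub e j := by
  rw [mem_Qsub, mem_Qsub]
  constructor
  · rintro (⟨c, hc, rfl⟩ | ⟨c, hc, rfl⟩)
    · exact Or.inl ⟨c, hc, rfl⟩
    · exact Or.inr ⟨c, hc, rfl⟩
  · rintro (⟨c, hc, h⟩ | ⟨c, hc, h⟩)
    · exact Or.inl ⟨c, hc, Subtype.ext h⟩
    · exact Or.inr ⟨c, hc, Subtype.ext h⟩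

theorem inU_eC (y : ↥C) : inU (eC e C hSC) y ↔ inU e (y : G) := by
  constructor
  · rintro ⟨d, hd, rfl⟩
    exact ⟨d, hd, rfl⟩
  · rintro ⟨d, hd, h⟩
    exact ⟨d, hd, Subtype.ext h⟩

end restrict

/-! ### groups without subgroups of index two -/

section noIndexTwo

variable {G : Type*} [Group G] [Finite G] {S : Sylow 2 G} {K : ℕ} [NeZero K]
  (e : QD K ≃* ↥(S : Subgroup G))

theorem TF_of_no_index_two (hG : ∀ H : Subgroup G, H.index ≠ 2) : TF e := by
  by_contra h
  obtain ⟨L, -, hL, -⟩ := exists_K_of_not_TF e h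
  exact hG L hL

theorem QF_of_no_index_two (hG : ∀ H : Subgroup G, H.index ≠ 2) : QF e := by
  by_contra h
  obtain ⟨L, -, hL, -⟩ := exists_K_of_not_QF e h
  exact hG L hL

/-- all involutions are conjugate to the central involution of `S` -/
theorem isConj_z_of_involution (hG : ∀ H : Subgroup G, H.index ≠ 2) (t : G)
    (ht : orderOf t = 2) : IsConj t (X e (hh K)) := by
  rcases involution_isConj e t ht with h | h
  · exact h
  · exact h.trans (TF_of_no_index_two e hG).symm

/-- the normalizer of a quaternion subgroup of `S` centralizes the central involution -/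
theorem normalizer_Q_le_centralizer_z (j : ZMod (8 * K)) (hj : par K j = 1) :
    normalizer (Qsub e j : Set G) ≤ centralizer {X e (hh K)} := by
  intro g hg
  have hmem : g * X e (hh K) * g⁻¹ ∈ Qsub e j :=
    (mem_normalizer_iff.mp hg _).mp (z_mem_Qsub e j)
  have ho : orderOf (g * X e (hh K) * g⁻¹) = 2 := by rw [orderOf_conj, orderOf_X_hh]
  have hz : g * X e (hh K) * g⁻¹ = X e (hh K) := by
    rcases (mem_Qsub e j _).mp hmem with ⟨c, hc, h⟩ | ⟨c, hc, h⟩
    · rcases (QD.four_mul_eq_zero_iff c).mp hc with rfl | rfl | rfl | rfl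
      · exfalso
        rw [h, X_zero, orderOf_one] at ho
        omega
      · exact h
      · exfalso
        rw [h, orderOf_X_qq] at ho
        omega
      · exfalso
        rw [h, ← X_inv, orderOf_inv, orderOf_X_qq] at ho
        omega
    · exfalso
      rw [h, orderOf_Y_odd e _ (by rw [map_add, hj, par_of_four K c hc, add_zero])] at ho
      omega
  rw [mem_centralizer_iff]
  intro y hy
  rw [Set.mem_singleton_iff] at hy
  subst hy
  calc X e (hh K) * g = (g * X e (hh K) * g⁻¹) * g := by rw [hz]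
    _ = g * X e (hh K) := by group

/-- the conclusion for a subgroup `C` that contains `S` and the normalizer of a quaternion
subgroup of `S` and centralizes the central involution of `S` -/
theorem restrict_result (hG : ∀ H : Subgroup G, H.index ≠ 2) (C : Subgroup G)
    (hSC : (S : Subgroup G) ≤ C) (hCz : ∀ c ∈ C, c * X e (hh K) * c⁻¹ = X e (hh K))
    (hNC : normalizer (Qsub e 1 : Set G) ≤ C) :
    ∃ R : Sylow 2 ↥C, Nat.card R = Nat.card S ∧
      (∃ L : Subgroup ↥C, L.Normal ∧ L.index = 2 ∧ (∀ H : Subgroup ↥L, H.index ≠ 2) ∧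
        (∀ P : Sylow 2 ↥L, Nonempty ((P : Subgroup ↥L) ≃* QuaternionGroup (2 * K)))) ∧
      (∀ Z₀ : Subgroup ↥C, Z₀ ≤ ((Subgroup.center (R : Subgroup ↥C)).map
          (R : Subgroup ↥C).subtype) → Cfsg.IsWeaklyClosed Z₀ (R : Subgroup ↥C)) := by
  have hqC : ∀ j, par K j = 1 → Nonempty (Qsub (eC e C hSC) j ≃* QuaternionGroup 2) :=
    fun j hj => nonempty_Qsub_equiv _ j hj
  have hq : ∀ j, par K j = 1 → Nonempty (Qsub e j ≃* QuaternionGroup 2) :=
    fun j hj => nonempty_Qsub_equiv _ j hj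
  -- the central involution is not fused in `C`
  have hTF : ¬ TF (eC e C hSC) := by
    intro h
    obtain ⟨c, hc⟩ := isConj_iff.mp h
    have h1 : (c : G) * X e (hh K) * (c : G)⁻¹ = Y e 0 := congrArg Subtype.val hc
    rw [hCz c c.2] at h1
    exact X_ne_Y e _ _ h1
  -- the quaternion fusion takes place in `C`
  have hQF : QF (eC e C hSC) := by
    obtain ⟨g, hgN, hgV⟩ := exists_normalizer_Q e hq 1 par_one' (QF_of_no_index_two e hG)
    have hgC : g ∈ C := hNC hgN
    apply QF_of_normalizer (eC e C hSC) 1 par_one' ⟨g, hgC⟩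
    · rw [mem_normalizer_iff]
      intro y
      rw [mem_Qsub_eC, mem_Qsub_eC]
      exact mem_normalizer_iff.mp hgN y
    · intro hU
      rw [inU_eC] at hU
      exact not_inU_inV e 1 hU hgV
  obtain ⟨⟨L, hLn, hL2, hLP, hLH⟩, -, -, -⟩ := case26 (eC e C hSC) hqC hTF hQF
  refine ⟨S.subtype hSC, ?_, ⟨L, hLn, hL2, hLH, hLP⟩, ?_⟩
  · exact Nat.card_congr ((eC e C hSC).symm.toEquiv.trans e.toEquiv)
  · intro Z₀ hZ₀
    have hcen : ∀ w ∈ Z₀, ∀ c : ↥C, c * w * c⁻¹ = w := by
      intro w hw c
      rcases (mem_center_map (eC e C hSC) w).mp (hZ₀ hw) with rfl | rfl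
      · simp
      · apply Subtype.ext
        exact hCz c c.2
    refine ⟨hZ₀.trans ?_, ?_⟩
    · intro w hw
      rcases (mem_center_map (eC e C hSC) w).mp hw with rfl | rfl
      · exact one_mem _
      · exact X_mem _ _
    · intro c _
      ext w
      constructor
      · rintro ⟨v, hv, rfl⟩
        show c * v * c⁻¹ ∈ Z₀
        rw [hcen v hv c]; exact hv
      · intro hw
        exact ⟨w, hw, hcen w hw c⟩

/-- the centralizer of the central involution of `S` -/
theorem centralizer_z (hG : ∀ H : Subgroup G, H.index ≠ 2) :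
    ∃ R : Sylow 2 ↥(centralizer ({X e (hh K)} : Set G)), Nat.card R = Nat.card S ∧
      (∃ L : Subgroup ↥(centralizer ({X e (hh K)} : Set G)), L.Normal ∧ L.index = 2 ∧
        (∀ H : Subgroup ↥L, H.index ≠ 2) ∧
        (∀ P : Sylow 2 ↥L, Nonempty ((P : Subgroup ↥L) ≃* QuaternionGroup (2 * K)))) ∧
      (∀ Z₀ : Subgroup ↥(centralizer ({X e (hh K)} : Set G)),
        Z₀ ≤ ((Subgroup.center (R : Subgroup ↥(centralizer ({X e (hh K)} : Set G)))).map
          (R : Subgroup ↥(centralizer ({X e (hh K)} : Set G))).subtype) →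
        Cfsg.IsWeaklyClosed Z₀ (R : Subgroup ↥(centralizer ({X e (hh K)} : Set G)))) := by
  apply restrict_result e hG
  · exact le_centralizer_z e
  · intro c hc
    rw [mem_centralizer_iff] at hc
    rw [← hc _ (Set.mem_singleton _), mul_inv_cancel_right]
  · exact normalizer_Q_le_centralizer_z e 1 par_one'

end noIndexTwo

/-! ### conjugate coordinates -/

section conj

variable {G : Type*} [Group G] [Finite G] {S : Sylow 2 G} {K : ℕ} [NeZero K]
  (e : QD K ≃* ↥(S : Subgroup G))

/-- the coordinates on a conjugate of `S` -/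
noncomputable def eConj (c : G) : QD K ≃* ↥((c • S : Sylow 2 G) : Subgroup G) :=
  e.trans (Sylow.equivSMul S c)

theorem X_eConj (c : G) (i : ZMod (8 * K)) : X (eConj e c) i = c * X e i * c⁻¹ := rfl

end conj

/-- **The centralizer of an involution** in a finite group with quasi-dihedral Sylow 2-subgroups and
no subgroup of index two (the quasi-dihedral half of the statement on quasi-dihedral or wreathed
Sylow 2-subgroups). -/
theorem result_qd {G : Type*} [Group G] [Finite G] (S : Sylow 2 G)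
    (hS : Cfsg.IsQuasiDihedral (S : Subgroup G)) (hG : ∀ H : Subgroup G, H.index ≠ 2) (x : G)
    (hx : orderOf x = 2) :
    ∃ R : Sylow 2 ↥(Subgroup.centralizer ({x} : Set G)), Nat.card R = Nat.card S ∧
      (∃ K : Subgroup ↥(Subgroup.centralizer ({x} : Set G)), K.Normal ∧ (∃ a : ℕ, K.index = 2 ^ a) ∧
        (∀ H : Subgroup ↥K, H.index ≠ 2) ∧
        (∀ P : Sylow 2 ↥K, ∃ m : ℕ, 1 ≤ m ∧
          Nonempty ((P : Subgroup ↥K) ≃* QuaternionGroup (2 ^ m)))) ∧
      (∀ Z₀ : Subgroup ↥(Subgroup.centralizer ({x} : Set G)),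
        Z₀ ≤ ((Subgroup.center (R : Subgroup ↥(Subgroup.centralizer ({x} : Set G)))).map
          (R : Subgroup ↥(Subgroup.centralizer ({x} : Set G))).subtype) →
        Cfsg.IsWeaklyClosed Z₀ (R : Subgroup ↥(Subgroup.centralizer ({x} : Set G)))) := by
  obtain ⟨k, -, ⟨e⟩⟩ := exists_mulEquiv hS
  have hconj := isConj_z_of_involution e hG x hx
  obtain ⟨c, hc⟩ := isConj_iff.mp hconj.symm
  have hX : X (eConj e c) (hh (2 ^ k)) = x := hc
  subst hX
  obtain ⟨R, hR, ⟨L, hLn, hL2, hLH, hLP⟩, hZ⟩ := centralizer_z (eConj e c) hG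
  refine ⟨R, hR.trans (Nat.card_congr (Sylow.equivSMul S c).symm.toEquiv),
    ⟨L, hLn, ⟨1, by rw [hL2, pow_one]⟩, hLH, fun P => ⟨k + 1, by omega, ?_⟩⟩, hZ⟩
  obtain ⟨φ⟩ := hLP P
  exact ⟨φ.trans (quatCongr (pow_succ' 2 k).symm)⟩

end Cfsg.Agent.Lib.Helper86_QDCentralizer
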