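/-
Helper library (helper86): bounding the order of the automorphism group of a finite 2-group
by `2^j * (divisor of 6)`, through an orbit of length at most three or through the action on a
central quotient of order four.
-/
import Cfsg.Agent.Lib.Helper86_WrSub
import Cfsg.Agent.Lib.Helper48_Generation

set_option autoImplicit false

namespace Cfsg.Agent.Lib.Helper86_AutCount

open Cfsg.Agent.Lib.Helper86_WrSub Cfsg.Agent.Lib.Helper48_Generation

section orbit

variable {Y : Type*} [Group Y] [Finite Y]

/-- if the stabilizer of `x₀` in `Aut(Y)` has no elements of odd order and the orbit of `x₀` has at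
most three elements, then `|Aut(Y)| = 2^j m` with `m ≤ 3`. -/
theorem card_mulAut_of_orbit (x₀ : Y) (Ω : Set Y) (hΩ : Ω.ncard ≤ 3) (hΩfin : Ω.Finite)
    (horb : ∀ α : MulAut Y, α x₀ ∈ Ω)
    (hstab : ∀ α : MulAut Y, Odd (orderOf α) → α x₀ = x₀ → α = 1) :
    ∃ j m : ℕ, Nat.card (MulAut Y) = 2 ^ j * m ∧ m ≤ 3 := by
  have hp2 : Fact (Nat.Prime 2) := ⟨Nat.prime_two⟩
  set stab := MulAction.stabilizer (MulAut Y) x₀ with hstabdef
  have h2 : IsPGroup 2 stab := by
    apply isPGroup_two_of_odd_trivial
    intro β hβ
    have h1 : Odd (orderOf (β : MulAut Y)) := by rwa [Subgroup.orderOf_coe]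
    have h3 : (β : MulAut Y) x₀ = x₀ := by
      have := β.2
      rw [MulAction.mem_stabilizer_iff] at this
      exact this
    exact Subtype.ext (hstab _ h1 h3)
  obtain ⟨j, hj⟩ := h2.exists_card_eq
  refine ⟨j, stab.index, ?_, ?_⟩
  · rw [← hj, Subgroup.card_mul_index]
  · rw [MulAction.index_stabilizer]
    refine le_trans (Set.ncard_le_ncard ?_ hΩfin) hΩ
    rintro _ ⟨α, rfl⟩
    exact horb α

end orbit

section quotient

/-- the action of `Aut(E)` on the non-identity elements -/
def permNe (E : Type*) [Group E] : MulAut E →* Equiv.Perm {x : E // x ≠ 1} where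
  toFun α := (MulAut.toPerm E α).subtypePerm (fun x => by
    show α x ≠ 1 ↔ x ≠ 1
    rw [Ne, Ne, MulEquiv.map_eq_one_iff])
  map_one' := by ext x; rfl
  map_mul' α β := by ext x; rfl

theorem permNe_injective (E : Type*) [Group E] : Function.Injective (permNe E) := by
  intro α β h
  ext x
  by_cases hx : x = 1
  · rw [hx, map_one, map_one]
  · have := congrArg (fun f => ((f ⟨x, hx⟩ : {x : E // x ≠ 1}) : E)) h
    exact this

/-- the automorphism group of a group of order four has order dividing six -/
theorem card_mulAut_dvd_six (E : Type*) [Group E] (hE : Nat.card E = 4) :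
    Nat.card (MulAut E) ∣ 6 := by
  have : Finite E := Nat.finite_of_card_ne_zero (by omega)
  have h1 : Nat.card {x : E // x ≠ 1} = 3 := by
    classical
    have : Fintype E := Fintype.ofFinite E
    have h2 : Nat.card {x : E // x ≠ 1} = Nat.card E - 1 := by
      rw [Nat.card_eq_fintype_card, Nat.card_eq_fintype_card, Fintype.card_subtype_compl,
        Fintype.card_subtype_eq]
    rw [h2, hE]
  have h2 : Nat.card (Equiv.Perm {x : E // x ≠ 1}) = 6 := by
    rw [Nat.card_perm, h1]; rfl
  have h3 := Subgroup.card_subgroup_dvd_card (permNe E).range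
  rw [h2] at h3
  rwa [← Nat.card_congr (MonoidHom.ofInjective (permNe_injective E)).toEquiv] at h3

variable {Y : Type*} [Group Y] [Finite Y]

/-- if `Y / Z(Y)` has order four and the automorphisms of odd order acting trivially on it are
trivial, then `|Aut(Y)| = 2^j d` with `d ∣ 6`. -/
theorem card_mulAut_of_center_quotient (hq : Nat.card (Y ⧸ Subgroup.center Y) = 4)
    (hker : ∀ α : MulAut Y, Odd (orderOf α) → (∀ x, x⁻¹ * α x ∈ Subgroup.center Y) → α = 1) :
    ∃ j d : ℕ, Nat.card (MulAut Y) = 2 ^ j * d ∧ d ∣ 6 := by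
  have hp2 : Fact (Nat.Prime 2) := ⟨Nat.prime_two⟩
  set ρ := autQuot (Subgroup.center Y) with hρ
  have h2 : IsPGroup 2 ρ.ker := by
    apply isPGroup_two_of_odd_trivial
    intro β hβ
    have h1 : Odd (orderOf (β : MulAut Y)) := by rwa [Subgroup.orderOf_coe]
    have h3 : ρ (β : MulAut Y) = 1 := β.2
    apply Subtype.ext
    apply hker _ h1
    intro x
    have h4 : autQuot (Subgroup.center Y) (β : MulAut Y) (x : Y ⧸ Subgroup.center Y) =
        (x : Y ⧸ Subgroup.center Y) := by
      have h3' : autQuot (Subgroup.center Y) (β : MulAut Y) = 1 := h3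
      rw [h3', MulAut.one_apply]
    rw [autQuot_mk] at h4
    have h5 := (QuotientGroup.eq.mp h4.symm)
    exact h5
  obtain ⟨j, hj⟩ := h2.exists_card_eq
  refine ⟨j, Nat.card ρ.range, ?_, ?_⟩
  · rw [← hj, ← Subgroup.index_ker, Subgroup.card_mul_index]
  · exact dvd_trans (Subgroup.card_subgroup_dvd_card _) (card_mulAut_dvd_six _ hq)

end quotient

section three

variable {Y : Type*} [Group Y]

theorem aut_pow_mem (α : MulAut Y) (B : Subgroup Y) (hαB : ∀ x ∈ B, α x ∈ B) (j : ℕ) :
    ∀ x ∈ B, (α ^ j) x ∈ B := by
  induction j with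
  | zero => intro x hx; simpa using hx
  | succ j ih =>
    intro x hx
    rw [pow_succ', MulAut.mul_apply]
    exact hαB _ (ih x hx)

/-- an automorphism of odd order of a `2`-group `Y` which leaves invariant an abelian subgroup `B` of
index at most two whose involutions are among `z, u, u'`, and which fixes `z`, is trivial. -/
theorem aut_eq_one_of_three_involutions (α : MulAut Y) (hodd : Odd (orderOf α)) (B : Subgroup Y)
    (hBcomm : ∀ x ∈ B, ∀ y ∈ B, x * y = y * x) (h2 : ∀ x : Y, ∃ e : ℕ, x ^ (2 ^ e) = 1)
    (hαB : ∀ x ∈ B, α x ∈ B) (hidx : ∀ x y, x ∉ B → y ∉ B → x⁻¹ * y ∈ B) (z u u' : Y)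
    (hinv : ∀ x ∈ B, x * x = 1 → x = 1 ∨ x = z ∨ x = u ∨ x = u') (hz : α z = z)
    (huB : u ∈ B) (hu'B : u' ∈ B) (huu : u * u = 1) (hu'u' : u' * u' = 1) : α = 1 := by
  have hαk : α ^ orderOf α = 1 := pow_orderOf_eq_one α
  have hpos : 0 < orderOf α := hodd.pos
  have himg : ∀ w ∈ B, w * w = 1 → α w = w ∨ α w = u ∨ α w = u' := by
    intro w hw hww
    have h1 : α w * α w = 1 := by rw [← map_mul, hww, map_one]
    rcases hinv _ (hαB w hw) h1 with h | h | h | h
    · left; rw [MulEquiv.map_eq_one_iff] at h; rw [h, map_one]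
    · left
      have : w = z := α.injective (h.trans hz.symm)
      rw [this, hz]
    · right; left; exact h
    · right; right; exact h
  have hαu : α u = u := by
    apply aut_fix_pair α _ hodd hαk u u'
    · rcases himg u huB huu with h | h | h
      · left; exact h
      · left; exact h
      · right; exact h
    · rcases himg u' hu'B hu'u' with h | h | h
      · right; exact h
      · left; exact h
      · right; exact h
  have hαu' : α u' = u' := by
    apply aut_fix_pair α _ hodd hαk u' u
    · rcases himg u' hu'B hu'u' with h | h | h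
      · left; exact h
      · right; exact h
      · left; exact h
    · rcases himg u huB huu with h | h | h
      · right; exact h
      · right; exact h
      · left; exact h
  have hfixB : ∀ x ∈ B, α x = x := by
    apply aut_fix_abelian α _ hodd hαk B hBcomm (fun x _ => h2 x) hαB
    intro x hx hxx
    rcases hinv x hx hxx with h | h | h | h
    · rw [h, map_one]
    · rw [h, hz]
    · rw [h, hαu]
    · rw [h, hαu']
  apply aut_fix_index_two α _ hodd hαk B hfixB _ hidx (fun x _ => h2 x)
  intro x hx
  have h1 := aut_pow_mem α B hαB (orderOf α - 1) _ hx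
  have h3 : (α ^ (orderOf α - 1)) (α x) = (α ^ (orderOf α - 1 + 1)) x := by
    rw [pow_succ, MulAut.mul_apply]
  rw [h3, Nat.sub_add_cancel hpos, hαk, MulAut.one_apply] at h1
  exact h1

end three

end Cfsg.Agent.Lib.Helper86_AutCount
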