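/-
Helper library (helper86): coprime action on 2-groups: the Omega_2 lemma for p = 2, a Burnside-type
lemma via fixed points, reduction to elements of prime power order.
-/
import Cfsg.Agent.Lib.Helper24_Coprime
import Cfsg.Agent.Lib.Helper50_UniqueInv
import Mathlib.GroupTheory.Perm.Cycle.Type
import Mathlib.Data.Nat.Factorization.Basic

set_option autoImplicit false

namespace Cfsg.Agent.Lib.Helper86_Coprime2

open Cfsg.Agent.Lib.Helper24_Coprime

/-- A `p`-subgroup between: inside a finite subgroup `F`, a subgroup `Y` of order `p ^ t` lies in a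
subgroup `E ≤ F` of order `p ^ s` whenever `t ≤ s` and `p ^ s ∣ |F|`. -/
theorem exists_between {G : Type*} [Group G] {p : ℕ} [Fact p.Prime] (Y F : Subgroup G) [Finite F]
    (hYF : Y ≤ F) {t s : ℕ} (hY : Nat.card Y = p ^ t) (hts : t ≤ s) (hs : p ^ s ∣ Nat.card F) :
    ∃ E : Subgroup G, Y ≤ E ∧ E ≤ F ∧ Nat.card E = p ^ s := by
  have hY' : Nat.card (Y.subgroupOf F) = p ^ t := by
    rw [Nat.card_congr (Subgroup.subgroupOfEquivOfLe hYF).toEquiv, hY]
  obtain ⟨K', hK', hle⟩ := Sylow.exists_subgroup_card_pow_prime_le p hs _ hY' hts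
  refine ⟨K'.map F.subtype, ?_, Subgroup.map_subtype_le K', ?_⟩
  · intro y hy
    exact ⟨⟨y, hYF hy⟩, hle (Subgroup.mem_subgroupOf.mpr hy), rfl⟩
  · rw [← hK']
    exact (Nat.card_congr (K'.equivMapOfInjective _ (Subgroup.subtype_injective _)).toEquiv).symm

/-- conjugation by powers preserves an invariant subgroup -/
theorem conj_pow_mem {G : Type*} [Group G] (a : G) (M : Subgroup G)
    (hM : ∀ x ∈ M, a * x * a⁻¹ ∈ M) (n : ℕ) : ∀ x ∈ M, a ^ n * x * (a ^ n)⁻¹ ∈ M := by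
  induction n with
  | zero => intro x hx; simpa using hx
  | succ n ih =>
    intro x hx
    have : a ^ (n + 1) * x * (a ^ (n + 1))⁻¹ = a * (a ^ n * x * (a ^ n)⁻¹) * a⁻¹ := by
      rw [pow_succ']; group
    rw [this]
    exact hM _ (ih x hx)

/-- if `a` has finite order and maps `M` into itself by conjugation, so does `a⁻¹` -/
theorem conj_inv_mem {G : Type*} [Group G] (a : G) {n : ℕ} (hn : a ^ n = 1) (hn0 : 0 < n)
    (M : Subgroup G) (hM : ∀ x ∈ M, a * x * a⁻¹ ∈ M) : ∀ x ∈ M, a⁻¹ * x * a ∈ M := by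
  intro x hx
  have h1 : a⁻¹ = a ^ (n - 1) := by
    have : a ^ (n - 1) * a = 1 := by rw [← pow_succ, Nat.sub_add_cancel hn0, hn]
    exact inv_eq_of_mul_eq_one_left this
  have := conj_pow_mem a M hM (n - 1) x hx
  rw [← h1, inv_inv] at this
  exact this

/-- **Burnside-type lemma.** An element `a` of odd prime-power order normalizing a `2`-group `F`
and all its subgroups of index two centralizes `F`. -/
theorem centralizes_of_normalizes_index_two {G : Type*} [Group G] [Finite G] (a : G) {q k : ℕ}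
    [hq : Fact q.Prime] (hq2 : q ≠ 2) (ha : a ^ (q ^ k) = 1)
    (F : Subgroup G) (hF : IsPGroup 2 F) (hFa : ∀ x ∈ F, a * x * a⁻¹ ∈ F)
    (hM : ∀ M : Subgroup G, M ≤ F → 2 * Nat.card M = Nat.card F → ∀ x ∈ M, a * x * a⁻¹ ∈ M) :
    ∀ x ∈ F, a * x = x * a := by
  classical
  have hp2 : Fact (Nat.Prime 2) := ⟨Nat.prime_two⟩
  by_contra hcon
  push Not at hcon
  obtain ⟨x₀, hx₀F, hx₀⟩ := hcon
  -- the fixed points
  set C : Subgroup G := F ⊓ Subgroup.centralizer {a} with hC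
  have hCmem : ∀ x, x ∈ C ↔ x ∈ F ∧ a * x = x * a := by
    intro x
    rw [hC, Subgroup.mem_inf, Subgroup.mem_centralizer_iff]
    constructor
    · rintro ⟨h1, h2⟩; exact ⟨h1, h2 a rfl⟩
    · rintro ⟨h1, h2⟩; exact ⟨h1, fun h hh => by rw [Set.mem_singleton_iff.mp hh]; exact h2⟩
  have hCF : C ≤ F := inf_le_left
  have hCne : C ≠ F := by
    intro h
    have : x₀ ∈ C := by rw [h]; exact hx₀F
    exact hx₀ ((hCmem x₀).mp this).2
  obtain ⟨j, hj⟩ := hF.exists_card_eq
  obtain ⟨i, hi⟩ := (hF.to_le hCF).exists_card_eq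
  have hij : i < j := by
    have hlt : Nat.card C < Nat.card F := by
      refine lt_of_le_of_ne (Subgroup.card_le_of_le hCF) ?_
      intro heq
      exact hCne (Subgroup.eq_of_le_of_card_ge hCF heq.ge)
    rw [hi, hj] at hlt
    exact (Nat.pow_lt_pow_iff_right (by norm_num)).mp hlt
  obtain ⟨M, hCM, hMF, hMcard⟩ := exists_between (p := 2) C F hCF hi (by omega : i ≤ j - 1)
    (by rw [hj]; exact pow_dvd_pow 2 (by omega))
  have hM2 : 2 * Nat.card M = Nat.card F := by
    rw [hMcard, hj, ← pow_succ']; congr 1; omega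
  have hMa := hM M hMF hM2
  have hq0 : 0 < q ^ k := pow_pos hq.out.pos k
  have hMa' := conj_inv_mem a ha hq0 M hMa
  have hFa' := conj_inv_mem a ha hq0 F hFa
  -- the permutation of `F \ M`
  set S : Set G := (F : Set G) \ (M : Set G) with hS
  have hSa : ∀ x ∈ S, a * x * a⁻¹ ∈ S := by
    rintro x ⟨h1, h2⟩
    refine ⟨hFa x h1, fun h => h2 ?_⟩
    have := hMa' _ h
    simpa [mul_assoc] using this
  have hSa' : ∀ x ∈ S, a⁻¹ * x * a ∈ S := by
    rintro x ⟨h1, h2⟩
    refine ⟨hFa' x h1, fun h => h2 ?_⟩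
    have := hMa _ h
    simpa [mul_assoc] using this
  let σ : Equiv.Perm S :=
    { toFun := fun x => ⟨a * x * a⁻¹, hSa x x.2⟩
      invFun := fun x => ⟨a⁻¹ * x * a, hSa' x x.2⟩
      left_inv := by intro x; apply Subtype.ext; simp [mul_assoc]
      right_inv := by intro x; apply Subtype.ext; simp [mul_assoc] }
  have hσpow : ∀ (n : ℕ) (x : S), ((σ ^ n) x : G) = a ^ n * x * (a ^ n)⁻¹ := by
    intro n
    induction n with
    | zero => intro x; simp
    | succ n ih =>
      intro x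
      rw [pow_succ', Equiv.Perm.mul_apply]
      show a * ((σ ^ n) x : G) * a⁻¹ = _
      rw [ih, pow_succ']; group
  have hσ : σ ^ q ^ k = 1 := by
    ext x
    rw [hσpow, ha]; simp
  have hSfin : Fintype S := Fintype.ofFinite S
  have hcardS : Fintype.card S = 2 ^ (j - 1) := by
    rw [← Nat.card_eq_fintype_card, Nat.card_coe_set_eq, hS,
      Set.ncard_sdiff (by exact_mod_cast hMF) (Set.toFinite _)]
    have h1 : (F : Set G).ncard = Nat.card F := by rw [← Nat.card_coe_set_eq]; rfl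
    have h2 : (M : Set G).ncard = Nat.card M := by rw [← Nat.card_coe_set_eq]; rfl
    rw [h1, h2, ← hM2, hMcard]; omega
  have hndvd : ¬ q ∣ Fintype.card S := by
    rw [hcardS]
    intro h
    have := (Nat.prime_dvd_prime_iff_eq hq.out Nat.prime_two).mp (hq.out.dvd_of_dvd_pow h)
    exact hq2 this
  obtain ⟨x, hx⟩ := Equiv.Perm.exists_fixed_point_of_prime hndvd hσ
  have hx' : a * (x : G) * a⁻¹ = x := congrArg Subtype.val hx
  have hxC : (x : G) ∈ C := by
    rw [hCmem]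
    refine ⟨x.2.1, ?_⟩
    calc a * (x : G) = a * x * a⁻¹ * a := by group
      _ = x * a := by rw [hx']
  exact x.2.2 (hCM hxC)

/-- An element of odd order normalizing `⟨y⟩` with `y ^ 4 = 1` centralizes `y`. -/
theorem commute_of_conj_mem_zpowers {G : Type*} [Group G] (a y : G) (hodd : Odd (orderOf a))
    (hy : y ^ 4 = 1) (h : a * y * a⁻¹ ∈ Subgroup.zpowers y) : a * y = y * a := by
  have hy1 : ∀ {w : G}, a * w * a⁻¹ = 1 → w = 1 := by
    intro w hw
    have : w = a⁻¹ * (a * w * a⁻¹) * a := by group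
    rw [this, hw]; group
  have key : a * y * a⁻¹ = y → a * y = y * a := by
    intro h1
    calc a * y = a * y * a⁻¹ * a := by group
      _ = y * a := by rw [h1]
  obtain ⟨i, hi⟩ := Subgroup.mem_zpowers_iff.mp h
  have hy4 : y ^ ((4 : ℕ) : ℤ) = 1 := by rw [zpow_natCast]; exact hy
  rw [zpow_eq_zpow_emod i hy4] at hi
  have h0 : 0 ≤ i % ((4 : ℕ) : ℤ) := Int.emod_nonneg _ (by norm_num)
  have h4 : i % ((4 : ℕ) : ℤ) < 4 := Int.emod_lt_of_pos _ (by norm_num)
  obtain ⟨r, hr⟩ : ∃ r : ℕ, i % ((4 : ℕ) : ℤ) = r := ⟨(i % ((4 : ℕ) : ℤ)).toNat, by omega⟩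
  rw [hr, zpow_natCast] at hi
  have hr4 : r < 4 := by omega
  interval_cases r
  · -- `a y a⁻¹ = 1`
    rw [pow_zero] at hi
    have := hy1 hi.symm
    rw [this]; simp
  · rw [pow_one] at hi
    exact key hi.symm
  · -- `a y a⁻¹ = y ^ 2`
    have h2 : a * (y ^ 2) * a⁻¹ = 1 := by
      rw [← conj_pow, ← hi, ← pow_mul]; exact hy
    have hy2 : y ^ 2 = 1 := hy1 h2
    rw [hy2] at hi
    have := hy1 hi.symm
    rw [this]; simp
  · -- `a y a⁻¹ = y ^ 3 = y⁻¹`
    have hinv : y ^ 3 = y⁻¹ := by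
      have : y ^ 3 * y = 1 := by rw [← pow_succ]; exact hy
      exact eq_inv_of_mul_eq_one_left this
    rw [hinv] at hi
    have hpow : ∀ n : ℕ, a ^ n * y * (a ^ n)⁻¹ = if Even n then y else y⁻¹ := by
      intro n
      induction n with
      | zero => simp
      | succ n ih =>
        have e : a ^ (n + 1) * y * (a ^ (n + 1))⁻¹ = a * (a ^ n * y * (a ^ n)⁻¹) * a⁻¹ := by
          rw [pow_succ']; group
        rw [e, ih]
        by_cases hn : Even n
        · have hn' : ¬ Even (n + 1) := by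
            rw [Nat.even_add_one]; exact not_not.mpr hn
          rw [if_pos hn, if_neg hn', ← hi]
        · have hn' : Even (n + 1) := by
            rw [Nat.even_add_one]; exact hn
          rw [if_neg hn, if_pos hn']
          have : a * y⁻¹ * a⁻¹ = (a * y * a⁻¹)⁻¹ := by group
          rw [this, ← hi, inv_inv]
    have h5 := hpow (orderOf a)
    rw [pow_orderOf_eq_one, if_neg (Nat.not_even_iff_odd.mpr hodd)] at h5
    have h6 : y = y⁻¹ := by simpa using h5
    apply key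
    rw [← hi, ← h6]

/-- An element lies in a subgroup as soon as its powers of prime-power order do. -/
theorem mem_of_prime_pow_mem {G : Type*} [Group G] (H : Subgroup G) :
    ∀ (n : ℕ) (a : G), orderOf a = n → 0 < n →
      (∀ b ∈ Subgroup.zpowers a, (∃ q k : ℕ, q.Prime ∧ orderOf b = q ^ k) → b ∈ H) → a ∈ H := by
  intro n
  induction n using Nat.strong_induction_on with
  | _ n ih =>
  intro a hn hpos h
  by_cases h1 : n = 1
  · rw [h1] at hn
    rw [orderOf_eq_one_iff.mp hn]; exact H.one_mem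
  have hq : (n.minFac).Prime := Nat.minFac_prime h1
  set q := n.minFac with hqdef
  set e := n.factorization q with hedef
  set m := n / q ^ e with hmdef
  have hnm : q ^ e * m = n := Nat.ordProj_mul_ordCompl_eq_self n q
  have hcop : Nat.Coprime q m := Nat.coprime_ordCompl hq hpos.ne'
  have hm0 : 0 < m := by
    rcases Nat.eq_zero_or_pos m with h0 | h0
    · rw [h0, mul_zero] at hnm; omega
    · exact h0
  have hqe0 : 0 < q ^ e := pow_pos hq.pos e
  by_cases hm1 : m = 1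
  · apply h a (Subgroup.mem_zpowers a)
    exact ⟨q, e, hq, by rw [hn, ← hnm, hm1, mul_one]⟩
  -- the two pieces
  have hb : orderOf (a ^ (q ^ e)) = m := by
    rw [orderOf_pow' a hqe0.ne', hn, ← hnm, Nat.gcd_eq_right (dvd_mul_right _ _),
      Nat.mul_div_cancel_left _ hqe0]
  have hc : orderOf (a ^ m) = q ^ e := by
    rw [orderOf_pow' a hm0.ne', hn, ← hnm, Nat.gcd_eq_right (dvd_mul_left _ _),
      Nat.mul_div_cancel _ hm0]
  have hmn : m < n := by
    have he1 : 1 ≤ e := by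
      have := (hq.factorization_pos_of_dvd hpos.ne' (Nat.minFac_dvd n))
      exact this
    have : 2 ≤ q ^ e := by
      calc 2 ≤ q := hq.two_le
        _ = q ^ 1 := (pow_one q).symm
        _ ≤ q ^ e := Nat.pow_le_pow_right hq.pos he1
    nlinarith
  have hbH : a ^ (q ^ e) ∈ H := by
    apply ih m hmn _ hb hm0
    intro b hb' hbq
    apply h b _ hbq
    exact Subgroup.zpowers_le.mpr (Subgroup.pow_mem _ (Subgroup.mem_zpowers a) _) hb'
  have hcH : a ^ m ∈ H :=
    h _ (Subgroup.pow_mem _ (Subgroup.mem_zpowers a) _) ⟨q, e, hq, hc⟩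
  -- Bezout
  have hcop' : Nat.Coprime (q ^ e) m := Nat.Coprime.pow_left e hcop
  have hbez := Nat.gcd_eq_gcd_ab (q ^ e) m
  rw [hcop'] at hbez
  have : a = (a ^ (q ^ e)) ^ (Nat.gcdA (q ^ e) m) * (a ^ m) ^ (Nat.gcdB (q ^ e) m) := by
    rw [← zpow_natCast a (q ^ e), ← zpow_natCast a m, ← zpow_mul, ← zpow_mul, ← zpow_add, ← hbez]
    simp
  rw [this]
  exact H.mul_mem (H.zpow_mem hbH _) (H.zpow_mem hcH _)


/-- **An odd-order automorphism of a `2`-group centralizing all elements of order dividing `4`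
is trivial** (elementwise form inside an ambient finite group). -/
theorem centralizes_two_group_of_centralizes_omega2 {G : Type*} [Group G] [Finite G]
    (a : G) (hap : (orderOf a).Coprime 2) :
    ∀ (P : Subgroup G), IsPGroup 2 P → (∀ x ∈ P, a * x * a⁻¹ ∈ P) →
      (∀ x ∈ P, x ^ 4 = 1 → a * x = x * a) → ∀ x ∈ P, a * x = x * a := by
  have hp : Fact (Nat.Prime 2) := ⟨Nat.prime_two⟩
  suffices H : ∀ n : ℕ, ∀ (P : Subgroup G), Nat.card P = n → IsPGroup 2 P →
      (∀ x ∈ P, a * x * a⁻¹ ∈ P) →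
      (∀ x ∈ P, x ^ 4 = 1 → a * x = x * a) → ∀ x ∈ P, a * x = x * a from
    fun P => H (Nat.card P) P rfl
  intro n
  induction n using Nat.strong_induction_on with
  | _ n ih =>
  intro P hn hP haP hΩ
  subst hn
  have IH : ∀ Q : Subgroup G, Q ≤ P → Q ≠ P → (∀ x ∈ Q, a * x * a⁻¹ ∈ Q) →
      ∀ x ∈ Q, a * x = x * a := by
    intro Q hQP hne hQa
    have hlt : Nat.card Q < Nat.card P := by
      refine lt_of_le_of_ne (Subgroup.card_le_of_le hQP) ?_
      intro heq
      exact hne (Subgroup.eq_of_le_of_card_ge hQP heq.ge)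
    exact ih _ hlt Q rfl (hP.to_le hQP) hQa (fun x hx hxp => hΩ x (hQP hx) hxp)
  have hnil : Group.IsNilpotent P := hP.isNilpotent
  have hcopP : (orderOf a).Coprime (Nat.card P) := by
    obtain ⟨k, hk⟩ := hP.exists_card_eq
    rw [hk]; exact Nat.Coprime.pow_right k hap
  set B : Set G := {x | x ∈ P ∧ a * x = x * a} with hB
  set D : Subgroup G := P ⊓ Subgroup.centralizer B with hD
  have hDa : ∀ x ∈ D, a * x * a⁻¹ ∈ D := by
    intro d hd
    refine ⟨haP d hd.1, ?_⟩
    refine Subgroup.mem_centralizer_iff.mpr ?_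
    intro b hb
    have hbd : b * d = d * b := Subgroup.mem_centralizer_iff.mp hd.2 b hb
    have hab : a * b = b * a := hb.2
    have hab' : a⁻¹ * b = b * a⁻¹ := by
      calc a⁻¹ * b = a⁻¹ * (b * a) * a⁻¹ := by group
        _ = a⁻¹ * (a * b) * a⁻¹ := by rw [hab]
        _ = b * a⁻¹ := by group
    calc b * (a * d * a⁻¹) = (b * a) * d * a⁻¹ := by group
      _ = (a * b) * d * a⁻¹ := by rw [hab]
      _ = a * (b * d) * a⁻¹ := by group
      _ = a * (d * b) * a⁻¹ := by rw [hbd]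
      _ = a * d * (b * a⁻¹) := by group
      _ = a * d * (a⁻¹ * b) := by rw [hab']
      _ = a * d * a⁻¹ * b := by group
  by_cases hDP : D ≠ P
  · have hDc := IH D inf_le_left hDP hDa
    refine centralizes_of_nilpotent P hnil a haP hcopP B (fun x hx => hx.1) (fun b hb => hb.2) ?_
    intro x hx hxB
    refine hDc x ⟨hx, ?_⟩
    refine Subgroup.mem_centralizer_iff.mpr ?_
    intro b hb
    exact (hxB b hb).symm
  · rw [not_not] at hDP
    have hcentral : ∀ b ∈ B, ∀ x ∈ P, b * x = x * b := by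
      intro b hb x hx
      have : x ∈ D := by rw [hDP]; exact hx
      exact Subgroup.mem_centralizer_iff.mp this.2 b hb
    by_cases hbot : P = ⊥
    · intro x hx
      rw [hbot, Subgroup.mem_bot] at hx
      subst hx; simp
    have hnt : Nontrivial P := (Subgroup.nontrivial_iff_ne_bot P).mpr hbot
    obtain ⟨N, hNn, hNtop, hNcomm, hNpow⟩ := exists_proper_normal_comm_pow hP
    set S : Set G := {g | ∃ x ∈ P, ∃ y ∈ P, g = x * y * x⁻¹ * y⁻¹} ∪ {g | ∃ x ∈ P, g = x ^ 2} with hS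
    set Φ : Subgroup G := Subgroup.closure S with hΦ
    have hΦN : Φ ≤ N.map P.subtype := by
      rw [hΦ, Subgroup.closure_le]
      rintro g (⟨x, hx, y, hy, rfl⟩ | ⟨x, hx, rfl⟩)
      · exact ⟨⟨x, hx⟩ * ⟨y, hy⟩ * (⟨x, hx⟩ : P)⁻¹ * (⟨y, hy⟩ : P)⁻¹, hNcomm _ _, by simp⟩
      · exact ⟨(⟨x, hx⟩ : P) ^ 2, hNpow _, by simp⟩
    have hΦP : Φ ≤ P := hΦN.trans (Subgroup.map_subtype_le N)
    have hΦne : Φ ≠ P := by
      intro heq
      apply hNtop
      rw [eq_top_iff]
      intro x _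
      have hx : (x : G) ∈ N.map P.subtype := hΦN (by rw [heq]; exact x.2)
      obtain ⟨y, hy, hyx⟩ := hx
      have : y = x := Subtype.ext hyx
      rwa [← this]
    have hSa : ∀ g ∈ S, a * g * a⁻¹ ∈ S := by
      rintro g (⟨x, hx, y, hy, rfl⟩ | ⟨x, hx, rfl⟩)
      · left
        refine ⟨a * x * a⁻¹, haP x hx, a * y * a⁻¹, haP y hy, ?_⟩
        group
      · right
        exact ⟨a * x * a⁻¹, haP x hx, conj_pow.symm⟩
    have hΦa : ∀ g ∈ Φ, a * g * a⁻¹ ∈ Φ := by
      intro g hg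
      induction hg using Subgroup.closure_induction with
      | mem g hg => exact Subgroup.subset_closure (hSa g hg)
      | one => simp
      | mul x y _ _ hx hy =>
        have : a * (x * y) * a⁻¹ = (a * x * a⁻¹) * (a * y * a⁻¹) := by group
        rw [this]; exact Φ.mul_mem hx hy
      | inv x _ hx =>
        have : a * x⁻¹ * a⁻¹ = (a * x * a⁻¹)⁻¹ := by group
        rw [this]; exact Φ.inv_mem hx
    have hΦc := IH Φ hΦP hΦne hΦa
    have hΦB : ∀ g ∈ Φ, g ∈ B := fun g hg => ⟨hΦP hg, hΦc g hg⟩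
    intro x hx
    have huP : a * x * a⁻¹ ∈ P := haP x hx
    have hvP : x⁻¹ ∈ P := P.inv_mem hx
    have hcΦ : x⁻¹ * (a * x * a⁻¹) * x⁻¹⁻¹ * (a * x * a⁻¹)⁻¹ ∈ Φ :=
      Subgroup.subset_closure (Or.inl ⟨x⁻¹, hvP, a * x * a⁻¹, huP, rfl⟩)
    have hv2Φ : x⁻¹ ^ 2 ∈ Φ := Subgroup.subset_closure (Or.inr ⟨x⁻¹, hvP, rfl⟩)
    have hx2Φ : x ^ 2 ∈ Φ := Subgroup.subset_closure (Or.inr ⟨x, hx, rfl⟩)
    have hx4Φ : x ^ 4 ∈ Φ := by
      have : x ^ 4 = x ^ 2 * x ^ 2 := by rw [← pow_add]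
      rw [this]; exact Φ.mul_mem hx2Φ hx2Φ
    have hcu := hcentral _ (hΦB _ hcΦ) _ huP
    have hcv := hcentral _ (hΦB _ hcΦ) _ hvP
    have hv2 := hcentral _ (hΦB _ hv2Φ) _ huP
    -- `c ^ 2 = 1`
    have hc2 : (x⁻¹ * (a * x * a⁻¹) * x⁻¹⁻¹ * (a * x * a⁻¹)⁻¹) ^ 2 = 1 := by
      have h1 := pow_mul_comm_of_central (a * x * a⁻¹) x⁻¹ hcv 2
      rw [hv2] at h1
      have : 1 * ((a * x * a⁻¹) * x⁻¹ ^ 2) =
          (x⁻¹ * (a * x * a⁻¹) * x⁻¹⁻¹ * (a * x * a⁻¹)⁻¹) ^ 2 * ((a * x * a⁻¹) * x⁻¹ ^ 2) := by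
        rw [one_mul, ← mul_assoc]; exact h1
      exact (mul_right_cancel this).symm
    have hmul := mul_pow_of_central (a * x * a⁻¹) x⁻¹ hcu hcv 4
    have hup : (a * x * a⁻¹) ^ 4 = x ^ 4 := by
      rw [conj_pow]
      have := hΦc _ hx4Φ
      rw [this]; group
    have hz4 : (a * x * a⁻¹ * x⁻¹) ^ 4 = 1 := by
      rw [hmul, hup, inv_pow, mul_inv_cancel, one_mul]
      have : Nat.choose 4 2 = 2 * 3 := by decide
      rw [this, pow_mul, hc2, one_pow]
    have hzP : a * x * a⁻¹ * x⁻¹ ∈ P := P.mul_mem huP hvP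
    have hza := hΩ _ hzP hz4
    exact commute_of_coprime_commutator a x hza 4 hz4
      (by rw [show (4 : ℕ) = 2 ^ 2 by norm_num]; exact Nat.Coprime.pow_right 2 hap)


end Cfsg.Agent.Lib.Helper86_Coprime2
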