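/-
Helper library (helper86): a "control of fusion" principle for finite groups, obtained from the
Alperin–Goldschmidt theorem (helper84) and saturation of `F_S(G)` (S5076): to check that a
conjugation-invariant equivalence relation `R` holds between `x` and every `G`-conjugate of `x` inside
the Sylow subgroup `S`, it is enough to check it for the normalizers of `S` and of the subgroups
`P ≤ S` with `C_S(P) ≤ P` whose automorphism group is not a `p`-group.
-/
import Cfsg.Agent.S5076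
import Cfsg.Agent.S5080
import Cfsg.Agent.Lib.Helper84_FusionEssential
import Cfsg.Agent.Lib.Helper86_Coprime2
import Cfsg.Agent.S0071

set_option autoImplicit false

namespace Cfsg.Agent.Lib.Helper86_FusionControl

open Cfsg Cfsg.FusionSystem Cfsg.Agent.Lib.Helper85_Fusion

variable {G : Type*} [Group G] [Finite G] {p : ℕ} [Fact p.Prime]

/-- what is used of an essential subgroup -/
theorem essential_facts (S : Sylow p G) (P : Subgroup G)
    (hP : (groupFusionSystem (S : Subgroup G)).IsEssential p P) :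
    P ≤ S ∧ (S : Subgroup G) ⊓ Subgroup.centralizer (P : Set G) ≤ P ∧ ¬ IsPGroup p (MulAut P) := by
  obtain ⟨hcen, -, hnorm, E, hE⟩ := hP
  refine ⟨hcen.1, hcen.2 P (isConj_refl _ hcen.1), ?_⟩
  intro hpg
  set F := groupFusionSystem (S : Subgroup G) with hF
  have h1 : IsPGroup p (F.autGroup P) := hpg.to_subgroup _
  have h2 : IsPGroup p (F.autGroup P ⧸ (Inn P).subgroupOf (F.autGroup P)) := h1.to_quotient _
  have h3 := Cfsg.Agent.S5080.pCore_eq_bot_of_stronglyPEmbedded E hE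
  have h4 : (⊤ : Subgroup (F.autGroup P ⧸ (Inn P).subgroupOf (F.autGroup P))) ≤
      Cfsg.pCore p (F.autGroup P ⧸ (Inn P).subgroupOf (F.autGroup P)) := by
    apply le_sSup
    exact ⟨inferInstance, h2.to_subgroup _⟩
  rw [h3] at h4
  have h5 : (⊤ : Subgroup (F.autGroup P ⧸ (Inn P).subgroupOf (F.autGroup P))) = ⊥ :=
    le_antisymm h4 bot_le
  have h6 : Nat.card (F.autGroup P ⧸ (Inn P).subgroupOf (F.autGroup P)) = 1 := by
    rw [← Subgroup.card_top, h5, Subgroup.card_bot]
  have h7 := hE.1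
  rw [h6] at h7
  exact (Fact.out : p.Prime).one_lt.ne' (Nat.dvd_one.mp h7)

/-- **Control of fusion.** -/
theorem control (S : Sylow p G) (R : G → G → Prop) (hsymm : ∀ x y, R x y → R y x)
    (htrans : ∀ x y z, R x y → R y z → R x z)
    (hS : ∀ s ∈ (S : Subgroup G), ∀ x ∈ (S : Subgroup G), R x (s * x * s⁻¹))
    (hess : ∀ P : Subgroup G, (P = S ∨ (P ≤ S ∧
        (S : Subgroup G) ⊓ Subgroup.centralizer (P : Set G) ≤ P ∧ ¬ IsPGroup p (MulAut P))) →
      ∀ g ∈ Subgroup.normalizer (P : Set G), ∀ x ∈ P, R x (g * x * g⁻¹)) :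
    ∀ x ∈ (S : Subgroup G), ∀ g : G, g * x * g⁻¹ ∈ (S : Subgroup G) → R x (g * x * g⁻¹) := by
  set F := groupFusionSystem (S : Subgroup G) with hF
  have hsat : F.IsSaturated p := Cfsg.Agent.S5076.result p S
  have hSp : IsPGroup p (S : Subgroup G) := S.isPGroup'
  -- the subsystem cut out by `R`
  let E : FusionSystem (S : Subgroup G) :=
    { Hom := fun P => {φ | φ ∈ F.Hom P ∧ ∀ x : P, R (x : G) (φ x)}
      le_of_mem := fun h => F.le_of_mem h.1
      injective_of_mem := fun h => F.injective_of_mem h.1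
      conj_mem := by
        intro P g hP hg
        refine ⟨F.conj_mem hP hg, fun x => ?_⟩
        exact hS g hg x (hP x.2)
      comp_mem := by
        intro P Q φ ψ hφ hψ h
        refine ⟨F.comp_mem hφ.1 hψ.1 h, fun x => ?_⟩
        exact htrans _ _ _ (hφ.2 x) (hψ.2 ⟨φ x, h x⟩)
      inv_mem := by
        intro P φ hφ
        obtain ⟨ψ, hψ, h1⟩ := F.inv_mem hφ.1
        refine ⟨ψ, ⟨hψ, ?_⟩, h1⟩
        rintro ⟨_, x, rfl⟩
        rw [h1 x]
        exact hsymm _ _ (hφ.2 x) }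
  have hFE : F ≤ E := by
    apply Cfsg.Agent.Lib.Helper84_FusionEssential.alperin_goldschmidt hSp F hsat E
    intro P hP
    have hP' : P = S ∨ (P ≤ S ∧
        (S : Subgroup G) ⊓ Subgroup.centralizer (P : Set G) ≤ P ∧ ¬ IsPGroup p (MulAut P)) := by
      rcases hP with h | h
      · left; exact h
      · right; exact essential_facts S P h
    have hPS : P ≤ S := by
      rcases hP' with h | h
      · rw [h]
      · exact h.1
    intro α hα
    rw [mem_autGroup_iff F hPS] at hα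
    rw [mem_autGroup_iff E hPS]
    refine ⟨hα, ?_⟩
    obtain ⟨-, -, g, hg⟩ := hα
    have hgN : g ∈ Subgroup.normalizer (P : Set G) := by
      rw [Subgroup.mem_normalizer_iff]
      intro h
      constructor
      · intro hh
        have := hg ⟨h, hh⟩
        rw [← this]
        exact (α ⟨h, hh⟩).2
      · intro hh
        obtain ⟨y, hy⟩ := α.surjective ⟨g * h * g⁻¹, hh⟩
        have h1 := hg y
        have h2 : ((α y : P) : G) = g * h * g⁻¹ := by rw [hy]
        have h3 : g * (y : G) * g⁻¹ = g * h * g⁻¹ := by rw [← h2]; exact h1.symm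
        have h4 : (y : G) = h := mul_left_cancel (mul_right_cancel h3)
        rw [← h4]; exact y.2
    intro x
    have := hess P hP' g hgN x x.2
    rw [← hg x] at this
    exact this
  intro x hx g hgx
  have hle : Subgroup.zpowers x ≤ (S : Subgroup G) := by
    rw [Subgroup.zpowers_le]; exact hx
  have hmem : conjHom (Subgroup.zpowers x) g ∈ F.Hom (Subgroup.zpowers x) := by
    refine ⟨hle, ?_, g, fun y => rfl⟩
    rintro ⟨_, k, rfl⟩
    show g * x ^ k * g⁻¹ ∈ (S : Subgroup G)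
    have : g * x ^ k * g⁻¹ = (g * x * g⁻¹) ^ k := by
      rw [conj_zpow]
    rw [this]
    exact Subgroup.zpow_mem _ hgx k
  have := (hFE _ hmem).2 ⟨x, Subgroup.mem_zpowers x⟩
  exact this


/-- **Control of fusion, map version.** If the normalizers of `S` and of the subgroups `P ≤ S` with
`C_S(P) ≤ P` and `Aut(P)` not a `p`-group induce on `P` only conjugations by elements of `S`, then so does
every element of `G` on every subgroup of `S` that it maps into `S`. -/
theorem control_maps (S : Sylow p G)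
    (hess : ∀ P : Subgroup G, (P = S ∨ (P ≤ S ∧
        (S : Subgroup G) ⊓ Subgroup.centralizer (P : Set G) ≤ P ∧ ¬ IsPGroup p (MulAut P))) →
      ∀ g ∈ Subgroup.normalizer (P : Set G), ∃ s ∈ (S : Subgroup G), ∀ x ∈ P, g * x * g⁻¹ = s * x * s⁻¹) :
    ∀ Q : Subgroup G, Q ≤ S → ∀ g : G, (∀ x ∈ Q, g * x * g⁻¹ ∈ (S : Subgroup G)) →
      ∃ s ∈ (S : Subgroup G), ∀ x ∈ Q, g * x * g⁻¹ = s * x * s⁻¹ := by
  set F := groupFusionSystem (S : Subgroup G) with hF
  have hsat : F.IsSaturated p := Cfsg.Agent.S5076.result p S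
  have hSp : IsPGroup p (S : Subgroup G) := S.isPGroup'
  have hFE : F ≤ innerFusionSystem (S : Subgroup G) := by
    apply Cfsg.Agent.Lib.Helper84_FusionEssential.alperin_goldschmidt hSp F hsat
    intro P hP
    have hP' : P = S ∨ (P ≤ S ∧
        (S : Subgroup G) ⊓ Subgroup.centralizer (P : Set G) ≤ P ∧ ¬ IsPGroup p (MulAut P)) := by
      rcases hP with h | h
      · left; exact h
      · right; exact essential_facts S P h
    have hPS : P ≤ S := by
      rcases hP' with h | h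
      · rw [h]
      · exact h.1
    intro α hα
    rw [mem_autGroup_iff F hPS] at hα
    rw [mem_autGroup_iff _ hPS]
    obtain ⟨-, -, g, hg⟩ := hα
    have hgN : g ∈ Subgroup.normalizer (P : Set G) := by
      rw [Subgroup.mem_normalizer_iff]
      intro h
      constructor
      · intro hh
        have := hg ⟨h, hh⟩
        rw [← this]
        exact (α ⟨h, hh⟩).2
      · intro hh
        obtain ⟨y, hy⟩ := α.surjective ⟨g * h * g⁻¹, hh⟩
        have h1 := hg y
        have h2 : ((α y : P) : G) = g * h * g⁻¹ := by rw [hy]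
        have h3 : g * (y : G) * g⁻¹ = g * h * g⁻¹ := by rw [← h2]; exact h1.symm
        have h4 : (y : G) = h := mul_left_cancel (mul_right_cancel h3)
        rw [← h4]; exact y.2
    obtain ⟨s, hs, hsx⟩ := hess P hP' g hgN
    refine ⟨hPS, s, hs, fun x => ?_⟩
    rw [hg x]
    exact hsx x x.2
  intro Q hQ g hgQ
  have hmem : conjHom Q g ∈ F.Hom Q := ⟨hQ, fun x => hgQ x x.2, g, fun y => rfl⟩
  obtain ⟨-, s, hs, hsx⟩ := hFE _ hmem
  exact ⟨s, hs, fun x hx => hsx ⟨x, hx⟩⟩

/-- the elements of `G` inducing on `S` the conjugation by an element of `S`: the subgroup `S C_G(S)`. -/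
def innerOn (S : Subgroup G) : Subgroup G where
  carrier := {g | ∃ s ∈ S, ∀ x ∈ S, g * x * g⁻¹ = s * x * s⁻¹}
  mul_mem' := by
    rintro g₁ g₂ ⟨s₁, hs₁, h₁⟩ ⟨s₂, hs₂, h₂⟩
    refine ⟨s₁ * s₂, S.mul_mem hs₁ hs₂, fun x hx => ?_⟩
    have h3 : s₂ * x * s₂⁻¹ ∈ S := S.mul_mem (S.mul_mem hs₂ hx) (S.inv_mem hs₂)
    calc g₁ * g₂ * x * (g₁ * g₂)⁻¹ = g₁ * (g₂ * x * g₂⁻¹) * g₁⁻¹ := by group
      _ = g₁ * (s₂ * x * s₂⁻¹) * g₁⁻¹ := by rw [h₂ x hx]
      _ = s₁ * (s₂ * x * s₂⁻¹) * s₁⁻¹ := h₁ _ h3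
      _ = _ := by group
  one_mem' := ⟨1, S.one_mem, fun x _ => rfl⟩
  inv_mem' := by
    rintro g ⟨s, hs, h⟩
    refine ⟨s⁻¹, S.inv_mem hs, fun x hx => ?_⟩
    have h3 : s⁻¹ * x * s ∈ S := S.mul_mem (S.mul_mem (S.inv_mem hs) hx) hs
    have h4 := h _ h3
    have h5 : g * (s⁻¹ * x * s) * g⁻¹ = x := by rw [h4]; group
    calc g⁻¹ * x * g⁻¹⁻¹ = g⁻¹ * (g * (s⁻¹ * x * s) * g⁻¹) * g := by rw [h5, inv_inv]
      _ = s⁻¹ * x * s⁻¹⁻¹ := by group

omit [Finite G] in
theorem mem_innerOn_iff (S : Subgroup G) (g : G) :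
    g ∈ innerOn S ↔ ∃ s ∈ S, ∀ x ∈ S, g * x * g⁻¹ = s * x * s⁻¹ := Iff.rfl

/-- if `Aut(S)` is a `p`-group for the Sylow `p`-subgroup `S`, then `N_G(S) = S C_G(S)`. -/
theorem normalizer_le_innerOn (S : Sylow p G) (h : IsPGroup p (MulAut (S : Subgroup G))) :
    Subgroup.normalizer ((S : Subgroup G) : Set G) ≤ innerOn (S : Subgroup G) := by
  intro g hg
  apply Cfsg.Agent.Lib.Helper86_Coprime2.mem_of_prime_pow_mem _ (orderOf g) g rfl (orderOf_pos g)
  rintro b hb ⟨q, k, hq, hord⟩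
  have hbN : b ∈ Subgroup.normalizer ((S : Subgroup G) : Set G) := by
    obtain ⟨n, rfl⟩ := hb
    exact Subgroup.zpow_mem _ hg n
  by_cases hqp : q = p
  · subst hqp
    have hpz : IsPGroup q (Subgroup.zpowers b) := by
      apply Cfsg.Agent.Lib.Helper84_FusionEssential.isPGroup_zpowers_of_pow_eq_one (k := k)
      rw [← hord]; exact pow_orderOf_eq_one b
    have h1 := hpz.inf_normalizer_sylow S
    have h2 : b ∈ Subgroup.zpowers b ⊓ Subgroup.normalizer ((S : Subgroup G) : Set G) :=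
      ⟨Subgroup.mem_zpowers b, hbN⟩
    have h2 : b ∈ Subgroup.zpowers b ⊓ (S : Subgroup G) := h1.le h2
    exact ⟨b, h2.2, fun x _ => rfl⟩
  · refine ⟨1, Subgroup.one_mem _, fun x hx => ?_⟩
    set β := (S : Subgroup G).normalizerMonoidHom ⟨b, hbN⟩ with hβ
    have h1 : β ^ (q ^ k) = 1 := by
      rw [hβ, ← map_pow]
      have : (⟨b, hbN⟩ : Subgroup.normalizer ((S : Subgroup G) : Set G)) ^ (q ^ k) = 1 := by
        apply Subtype.ext
        show b ^ (q ^ k) = 1
        rw [← hord]; exact pow_orderOf_eq_one b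
      rw [this, map_one]
    obtain ⟨j, hj⟩ := h β
    have h2 : orderOf β ∣ q ^ k := orderOf_dvd_of_pow_eq_one h1
    have h3 : orderOf β ∣ p ^ j := orderOf_dvd_of_pow_eq_one hj
    have hcop : Nat.Coprime (q ^ k) (p ^ j) :=
      Nat.Coprime.pow _ _ ((Nat.coprime_primes hq (Fact.out : p.Prime)).mpr hqp)
    have h4 : orderOf β = 1 := Nat.eq_one_of_dvd_coprimes hcop h2 h3
    have h5 : β = 1 := orderOf_eq_one_iff.mp h4
    have h6 : β ⟨x, hx⟩ = ⟨x, hx⟩ := by rw [h5]; rfl
    have h7 := congrArg Subtype.val h6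
    simp only [one_mul, inv_one, mul_one]
    exact h7

/-- Frobenius' criterion in the form used with `control_maps`. -/
theorem hasNormalPComplement_of_control (S : Sylow p G)
    (h : ∀ Q : Subgroup G, Q ≤ S → ∀ g : G, (∀ x ∈ Q, g * x * g⁻¹ ∈ (S : Subgroup G)) →
      ∃ s ∈ (S : Subgroup G), ∀ x ∈ Q, g * x * g⁻¹ = s * x * s⁻¹) :
    Cfsg.HasNormalPComplement p G := by
  refine ⟨S, ?_⟩
  rw [Cfsg.Agent.S0071.result S]
  intro Q hQ g hg hcop
  have hgQ : ∀ x ∈ Q, g * x * g⁻¹ ∈ Q := fun x hx =>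
    ((Subgroup.mem_normalizer_iff.mp hg) x).mp hx
  obtain ⟨s, hs, hsx⟩ := h Q hQ g (fun x hx => hQ (hgQ x hx))
  have hsN : s ∈ Subgroup.normalizer (Q : Set G) := by
    have : Finite Q := inferInstance
    apply Subgroup.mem_normalizer_fintype
    intro x hx
    rw [← hsx x hx]
    exact hgQ x hx
  set β := Q.normalizerMonoidHom ⟨g, hg⟩ with hβ
  have hβs : β = Q.normalizerMonoidHom ⟨s, hsN⟩ := by
    ext x
    show g * (x : G) * g⁻¹ = s * (x : G) * s⁻¹
    exact hsx x x.2
  have h1 : orderOf β ∣ orderOf g := by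
    apply orderOf_dvd_of_pow_eq_one
    rw [hβ, ← map_pow]
    have : (⟨g, hg⟩ : Subgroup.normalizer (Q : Set G)) ^ orderOf g = 1 := by
      apply Subtype.ext
      show g ^ orderOf g = 1
      exact pow_orderOf_eq_one g
    rw [this, map_one]
  obtain ⟨j, hj⟩ := (IsPGroup.iff_orderOf.mp S.isPGroup') ⟨s, hs⟩
  rw [Subgroup.orderOf_mk] at hj
  have h2 : orderOf β ∣ p ^ j := by
    apply orderOf_dvd_of_pow_eq_one
    rw [hβs, ← map_pow]
    have : (⟨s, hsN⟩ : Subgroup.normalizer (Q : Set G)) ^ (p ^ j) = 1 := by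
      apply Subtype.ext
      show s ^ (p ^ j) = 1
      rw [← hj]; exact pow_orderOf_eq_one s
    rw [this, map_one]
  have h4 : orderOf β = 1 :=
    Nat.eq_one_of_dvd_coprimes (Nat.Coprime.pow_right j hcop) h1 h2
  have h5 : β = 1 := orderOf_eq_one_iff.mp h4
  rw [Subgroup.mem_centralizer_iff]
  intro x hx
  have h6 : β ⟨x, hx⟩ = ⟨x, hx⟩ := by rw [h5]; rfl
  have h7 : g * x * g⁻¹ = x := congrArg Subtype.val h6
  calc x * g = (g * x * g⁻¹) * g := by rw [h7]
    _ = g * x := by group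

end Cfsg.Agent.Lib.Helper86_FusionControl
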