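/-
Helper library (helper86): abstract wreathed 2-groups; transport of the classification of the
subgroups containing their centralizer (`Helper86_WrSub`) along the isomorphism with the model.
-/
import Cfsg.Agent.Lib.Helper86_WrSub
import Cfsg.Agent.Lib.Helper86_QDModel

set_option autoImplicit false

namespace Cfsg.Agent.Lib.Helper86_WrAbs

open Cfsg.Agent.Lib.Helper86_Wreathed Cfsg.Agent.Lib.Helper86_WrSub
open Cfsg.Agent.Lib.Helper86_QuasiDihedral

section transfer

variable {G H : Type*} [Group G] [Group H] (f : G ≃* H)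

theorem map_center_equiv : (Subgroup.center G).map f.toMonoidHom = Subgroup.center H := by
  ext x
  rw [Subgroup.mem_map_equiv, Subgroup.mem_center_iff, Subgroup.mem_center_iff]
  constructor
  · intro h y
    have := h (f.symm y)
    have h2 := congrArg f this
    simpa using h2
  · intro h y
    have := h (f y)
    apply f.injective
    simpa using this

theorem isPGroup_mulAut_map (p : ℕ) (X : Subgroup G) :
    IsPGroup p (MulAut (X.map f.toMonoidHom)) ↔ IsPGroup p (MulAut X) := by
  have e' : X ≃* X.map f.toMonoidHom := f.subgroupMap X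
  constructor
  · intro h; exact h.of_equiv (MulAut.congr e').symm
  · intro h; exact h.of_equiv (MulAut.congr e')

theorem centralizer_map_le (X : Subgroup G) (hC : Subgroup.centralizer (X : Set G) ≤ X) :
    Subgroup.centralizer ((X.map f.toMonoidHom : Subgroup H) : Set H) ≤ X.map f.toMonoidHom := by
  rw [← map_centralizer_equiv]
  exact Subgroup.map_mono hC

end transfer

/-- the arithmetic of `N = 2^n`, `n ≥ 2` -/
theorem arith (n : ℕ) (hn : 2 ≤ n) : 2 ^ n = 4 * 2 ^ (n - 2) ∧ 0 < 2 ^ (n - 2) ∧
    ∃ m : ℕ, 2 ^ n = 2 ^ m := by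
  refine ⟨?_, by positivity, n, rfl⟩
  obtain ⟨m, rfl⟩ : ∃ m, n = m + 2 := ⟨n - 2, by omega⟩
  rw [Nat.add_sub_cancel, pow_add]; ring

/-- the subgroups of an abstract wreathed group containing their centralizer and with
automorphism group not a `2`-group. -/
theorem classify_abstract {S : Type*} [Group S] {N M : ℕ} (e : S ≃* Wr N) (hN : N = 4 * M)
    (hM : 0 < M) (hpow : ∃ n : ℕ, N = 2 ^ n) (X : Subgroup S)
    (hC : Subgroup.centralizer (X : Set S) ≤ X) (hA : ¬ IsPGroup 2 (MulAut X)) :
    X.map e.toMonoidHom = Wr.aSub N ∨ ∃ k, X.map e.toMonoidHom = Wr.vSub N k := by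
  rcases classify hN hM hpow (X.map e.toMonoidHom) (centralizer_map_le e X hC) with h | h | h
  · left; exact h
  · right; exact h
  · exact absurd ((isPGroup_mulAut_map e 2 X).mp h) hA

end Cfsg.Agent.Lib.Helper86_WrAbs
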