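/-
Helper library (helper86): finite groups with a wreathed Sylow 2-subgroup. Set-up (an embedding of the
model `Wr N` onto the Sylow subgroup), the subgroups `U` (abelian of index two) and `V k = Q Z(S)`,
and control of fusion by `N(U)` and the `N(V k)`.
-/
import Cfsg.Agent.Lib.Helper86_WrAbs
import Cfsg.Agent.Lib.Helper86_FusionControl

set_option autoImplicit false

namespace Cfsg.Agent.Lib.Helper86_WrG

open Cfsg.Agent.Lib.Helper86_Wreathed Cfsg.Agent.Lib.Helper86_WrSub Cfsg.Agent.Lib.Helper86_WrAbs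
open Cfsg.Agent.Lib.Helper86_FusionControl

/-- a wreathed Sylow `2`-subgroup together with coordinates on it -/
structure WrSylow (G : Type*) [Group G] (N M : ℕ) where
  S : Sylow 2 G
  ι : Wr N →* G
  inj : Function.Injective ι
  range_eq : ι.range = (S : Subgroup G)
  hN : N = 4 * M
  hM : 0 < M
  hpow : ∃ n : ℕ, N = 2 ^ n

/-- coordinates exist -/
theorem exists_wrSylow {G : Type*} [Group G] [Finite G] (S : Sylow 2 G)
    (hS : Cfsg.IsWreathed (S : Subgroup G)) (n : ℕ) (hn : Nat.card S = 2 ^ (2 * n + 1)) :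
    2 ≤ n ∧ ∃ W : WrSylow G (2 ^ n) (2 ^ (n - 2)), W.S = S := by
  obtain ⟨n', hn', hcard, ⟨e⟩⟩ := exists_mulEquiv hS
  have hnn : n' = n := by
    have h1 : Nat.card (S : Subgroup G) = 2 ^ (2 * n + 1) := hn
    rw [h1] at hcard
    have := Nat.pow_right_injective (le_refl 2) hcard
    omega
  subst hnn
  obtain ⟨hN, hM, hpow⟩ := arith n' hn'
  refine ⟨hn', ⟨S, (S : Subgroup G).subtype.comp e.symm.toMonoidHom, ?_, ?_, hN, hM, hpow⟩, rfl⟩
  · exact (Subgroup.subtype_injective _).comp e.symm.injective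
  · rw [MonoidHom.range_comp, MonoidHom.range_eq_top.mpr e.symm.surjective, ← MonoidHom.range_eq_map,
      Subgroup.range_subtype]

namespace WrSylow

variable {G : Type*} [Group G] {N M : ℕ} (W : WrSylow G N M)

include W in
theorem one_lt : 1 < N := by have := W.hN; have := W.hM; omega

include W in
theorem neZero : NeZero N := ⟨by have := W.one_lt; omega⟩

/-- the abelian subgroup of index two -/
def U : Subgroup G := (Wr.aSub N).map W.ι

/-- the subgroups `Q Z(S)` -/
def V (k : ZMod N) : Subgroup G := (Wr.vSub N k).map W.ι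

/-- the centre of `S` -/
def Z : Subgroup G := (Subgroup.center (Wr N)).map W.ι

/-- the normalizer in `S` of `V k` -/
def T (k : ZMod N) : Subgroup G := (Wr.wSub N k).map W.ι

theorem ι_mem (x : Wr N) : W.ι x ∈ (W.S : Subgroup G) := by
  rw [← W.range_eq]; exact ⟨x, rfl⟩

theorem exists_of_mem {g : G} (hg : g ∈ (W.S : Subgroup G)) : ∃ x, W.ι x = g := by
  rw [← W.range_eq] at hg; exact hg

theorem map_le (X : Subgroup (Wr N)) : X.map W.ι ≤ (W.S : Subgroup G) := by
  rintro _ ⟨x, -, rfl⟩; exact W.ι_mem x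

theorem U_le : W.U ≤ (W.S : Subgroup G) := W.map_le _

theorem V_le (k : ZMod N) : W.V k ≤ (W.S : Subgroup G) := W.map_le _

theorem Z_le : W.Z ≤ (W.S : Subgroup G) := W.map_le _

theorem T_le (k : ZMod N) : W.T k ≤ (W.S : Subgroup G) := W.map_le _

theorem mem_map_iff (X : Subgroup (Wr N)) (x : Wr N) : W.ι x ∈ X.map W.ι ↔ x ∈ X := by
  constructor
  · rintro ⟨y, hy, h⟩
    rw [← W.inj h]; exact hy
  · intro h; exact ⟨x, h, rfl⟩

theorem map_comap {P : Subgroup G} (hP : P ≤ (W.S : Subgroup G)) : (P.comap W.ι).map W.ι = P := by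
  apply Subgroup.map_comap_eq_self
  rw [W.range_eq]; exact hP

/-- conjugation in coordinates -/
theorem ι_conj (s x : Wr N) : W.ι s * W.ι x * (W.ι s)⁻¹ = W.ι (s * x * s⁻¹) := by
  rw [map_mul, map_mul, map_inv]

/-- centralizers in `S` -/
theorem centralizer_comap_le {P : Subgroup G} (hP : P ≤ (W.S : Subgroup G))
    (hC : (W.S : Subgroup G) ⊓ Subgroup.centralizer (P : Set G) ≤ P) :
    Subgroup.centralizer ((P.comap W.ι : Subgroup (Wr N)) : Set (Wr N)) ≤ P.comap W.ι := by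
  intro x hx
  rw [Subgroup.mem_comap]
  apply hC
  refine Subgroup.mem_inf.mpr ⟨W.ι_mem x, ?_⟩
  rw [Subgroup.mem_centralizer_iff]
  intro y hy
  obtain ⟨y', rfl⟩ := W.exists_of_mem (hP hy)
  rw [Subgroup.mem_centralizer_iff] at hx
  have := hx y' (Subgroup.mem_comap.mpr hy)
  rw [← map_mul, ← map_mul, this]

theorem isPGroup_mulAut_map (X : Subgroup (Wr N)) :
    IsPGroup 2 (MulAut (X.map W.ι)) ↔ IsPGroup 2 (MulAut X) := by
  have e' : X ≃* X.map W.ι := X.equivMapOfInjective W.ι W.inj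
  constructor
  · intro h; exact h.of_equiv (MulAut.congr e').symm
  · intro h; exact h.of_equiv (MulAut.congr e')

/-- the subgroups that can be essential -/
theorem eq_U_or_V [Finite G] (P : Subgroup G) (hP : P ≤ (W.S : Subgroup G))
    (hC : (W.S : Subgroup G) ⊓ Subgroup.centralizer (P : Set G) ≤ P)
    (hA : ¬ IsPGroup 2 (MulAut P)) : P = W.U ∨ ∃ k, P = W.V k := by
  have h1 := W.centralizer_comap_le hP hC
  have h2 := W.map_comap hP
  rcases classify W.hN W.hM W.hpow _ h1 with h | ⟨k, h⟩ | h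
  · left; rw [← h2, h]; rfl
  · right; exact ⟨k, by rw [← h2, h]; rfl⟩
  · exfalso
    apply hA
    rw [← h2]
    exact (W.isPGroup_mulAut_map _).mpr h

/-- `Aut(S)` is a `2`-group -/
theorem isPGroup_mulAut_S [Finite G] : IsPGroup 2 (MulAut (W.S : Subgroup G)) := by
  have hN1 := W.one_lt
  have h2M := twoM_ne_zero W.hN W.hM
  have h1 : Subgroup.centralizer ((⊤ : Subgroup (Wr N)) : Set (Wr N)) ≤ ⊤ := le_top
  have key : IsPGroup 2 (MulAut (⊤ : Subgroup (Wr N))) := by
    rcases classify W.hN W.hM W.hpow _ h1 with h | ⟨k, h⟩ | h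
    · exfalso
      have : Wr.b (0 : ZMod N) 0 ∈ (⊤ : Subgroup (Wr N)) := Subgroup.mem_top _
      rw [h] at this
      exact Wr.b_not_mem_aSub _ _ this
    · exfalso
      have : Wr.a (M : ZMod N) 0 ∈ (⊤ : Subgroup (Wr N)) := Subgroup.mem_top _
      rw [h, Wr.a_mem_vSub_iff, sub_zero] at this
      exact h2M this
    · exact h
  have e1 : (⊤ : Subgroup (Wr N)) ≃* (W.S : Subgroup G) :=
    (Subgroup.topEquiv).trans ((MonoidHom.ofInjective W.inj).trans (MulEquiv.subgroupCongr W.range_eq))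
  exact key.of_equiv (MulAut.congr e1)

section control

variable [Finite G]

/-- **Control of fusion for a wreathed Sylow 2-subgroup** (relation form): the fusion in `S` is
generated by `S`, `N(U)` and the `N(V k)`. -/
theorem control (R : G → G → Prop) (hsymm : ∀ x y, R x y → R y x)
    (htrans : ∀ x y z, R x y → R y z → R x z)
    (hS : ∀ s ∈ (W.S : Subgroup G), ∀ x ∈ (W.S : Subgroup G), R x (s * x * s⁻¹))
    (hU : ∀ g ∈ Subgroup.normalizer (W.U : Set G), ∀ x ∈ W.U, R x (g * x * g⁻¹))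
    (hV : ∀ k, ∀ g ∈ Subgroup.normalizer (W.V k : Set G), ∀ x ∈ W.V k, R x (g * x * g⁻¹)) :
    ∀ x ∈ (W.S : Subgroup G), ∀ g : G, g * x * g⁻¹ ∈ (W.S : Subgroup G) → R x (g * x * g⁻¹) := by
  apply Cfsg.Agent.Lib.Helper86_FusionControl.control W.S R hsymm htrans hS
  rintro P (rfl | ⟨hP, hC, hA⟩) g hg x hx
  · obtain ⟨s, hs, hsx⟩ := normalizer_le_innerOn W.S W.isPGroup_mulAut_S hg
    rw [hsx x hx]
    exact hS s hs x hx
  · rcases W.eq_U_or_V P hP hC hA with rfl | ⟨k, rfl⟩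
    · exact hU g hg x hx
    · exact hV k g hg x hx

/-- **Control of fusion for a wreathed Sylow 2-subgroup** (map form). -/
theorem control_maps
    (hU : ∀ g ∈ Subgroup.normalizer (W.U : Set G), ∃ s ∈ (W.S : Subgroup G),
      ∀ x ∈ W.U, g * x * g⁻¹ = s * x * s⁻¹)
    (hV : ∀ k, ∀ g ∈ Subgroup.normalizer (W.V k : Set G), ∃ s ∈ (W.S : Subgroup G),
      ∀ x ∈ W.V k, g * x * g⁻¹ = s * x * s⁻¹) :
    ∀ Q : Subgroup G, Q ≤ W.S → ∀ g : G, (∀ x ∈ Q, g * x * g⁻¹ ∈ (W.S : Subgroup G)) →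
      ∃ s ∈ (W.S : Subgroup G), ∀ x ∈ Q, g * x * g⁻¹ = s * x * s⁻¹ := by
  apply Cfsg.Agent.Lib.Helper86_FusionControl.control_maps W.S
  rintro P (rfl | ⟨hP, hC, hA⟩) g hg
  · exact normalizer_le_innerOn W.S W.isPGroup_mulAut_S hg
  · rcases W.eq_U_or_V P hP hC hA with rfl | ⟨k, rfl⟩
    · exact hU g hg
    · exact hV k g hg

end control

end WrSylow

end Cfsg.Agent.Lib.Helper86_WrG
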