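/-
Helper library (helper86): more on the subgroups `V_k = Q Z(S)` of the wreathed model `Wr N`:
a subgroup of `Wr N` isomorphic to some `V_k` is some `V_k'`.
-/
import Cfsg.Agent.Lib.Helper86_WrSub

set_option autoImplicit false

namespace Cfsg.Agent.Lib.Helper86_WrSub

open Cfsg.Agent.Lib.Helper86_Wreathed

namespace Wr

open Cfsg.Agent.Lib.Helper86_Wreathed.Wr

variable {N M : ℕ}

/-- the decomposition of the elements of `V_k` -/
theorem vSub_mem_decomp (hN : N = 4 * M) (hM : 0 < M) (k : ZMod N) (g : Wr N) (hg : g ∈ vSub N k) :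
    ∃ q ∈ (q8Hom hN k).range, ∃ ζ ∈ Subgroup.center (Wr N), g = q * ζ := by
  rw [vSub_eq_sup hN hM k, ← SetLike.mem_coe, Subgroup.mul_normal, Set.mem_mul] at hg
  obtain ⟨q, hq, ζ, hζ, h⟩ := hg
  exact ⟨q, hq, ζ, hζ, h.symm⟩

/-- special elements of a quaternion subgroup of order `8`. -/
theorem quat_elements (hN : N = 4 * M) (hM : 0 < M) (Q : Subgroup (Wr N))
    (e : Q ≃* QuaternionGroup 2) :
    ∃ k l i₀ j₀, b k l ∈ Q ∧ a i₀ j₀ ∈ Q ∧ i₀ ≠ j₀ := by
  have hN1 : 1 < N := by omega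
  have f3 : ∀ u ∈ Q, u * u ≠ 1 → ∃ v ∈ Q, u * v ≠ v * u := by
    intro u hu huu
    have h1 : e ⟨u, hu⟩ * e ⟨u, hu⟩ ≠ 1 := by
      rw [← map_mul]
      intro h
      rw [MulEquiv.map_eq_one_iff] at h
      exact huu (congrArg Subtype.val h)
    obtain ⟨v, hv⟩ := quat_noncentral _ h1
    refine ⟨(e.symm v : Q), (e.symm v).2, ?_⟩
    intro h
    apply hv
    have h2 : (⟨u, hu⟩ : Q) * e.symm v = e.symm v * ⟨u, hu⟩ := Subtype.ext h
    have := congrArg e h2
    simpa using this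
  obtain ⟨x, hx, y, hy, hxx, hyy, hxy⟩ : ∃ x ∈ Q, ∃ y ∈ Q, x * x ≠ 1 ∧ y * y ≠ 1 ∧
      (x * y) * (x * y) ≠ 1 := by
    obtain ⟨h1, h2, h3⟩ := quat_three
    refine ⟨(e.symm (QuaternionGroup.a 1) : Q), (e.symm _).2,
      (e.symm (QuaternionGroup.xa 0) : Q), (e.symm _).2, ?_, ?_, ?_⟩
    · intro h
      apply h1
      have : e.symm (QuaternionGroup.a 1) * e.symm (QuaternionGroup.a 1) = 1 := Subtype.ext h
      rw [← map_mul, MulEquiv.map_eq_one_iff] at this
      exact this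
    · intro h
      apply h2
      have : e.symm (QuaternionGroup.xa 0) * e.symm (QuaternionGroup.xa 0) = 1 := Subtype.ext h
      rw [← map_mul, MulEquiv.map_eq_one_iff] at this
      exact this
    · intro h
      apply h3
      have : (e.symm (QuaternionGroup.a 1) * e.symm (QuaternionGroup.xa 0)) *
          (e.symm (QuaternionGroup.a 1) * e.symm (QuaternionGroup.xa 0)) = 1 := Subtype.ext h
      rw [← map_mul, ← map_mul, MulEquiv.map_eq_one_iff] at this
      exact this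
  obtain ⟨k, l, hkl⟩ : ∃ k l, b k l ∈ Q := by
    obtain ⟨v, hv, hne⟩ := f3 x hx hxx
    rcases x with ⟨i, j⟩ | ⟨i, j⟩
    · rcases v with ⟨r, s⟩ | ⟨r, s⟩
      · exact absurd (a_comm i j r s) hne
      · exact ⟨r, s, hv⟩
    · exact ⟨i, j, hx⟩
  have key : ∀ i j, a i j ∈ Q → a i j * a i j ≠ 1 → i ≠ j := by
    rintro i j hij hne rfl
    obtain ⟨v, hv, hne'⟩ := f3 _ hij hne
    have hc : a i i ∈ Subgroup.center (Wr N) := (mem_center_iff hN1 _).mpr ⟨_, rfl⟩
    rw [Subgroup.mem_center_iff] at hc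
    exact hne' (hc v).symm
  refine ⟨k, l, ?_⟩
  rcases x with ⟨i, j⟩ | ⟨i, j⟩
  · exact ⟨i, j, hkl, hx, key i j hx hxx⟩
  · rcases y with ⟨r, s⟩ | ⟨r, s⟩
    · exact ⟨r, s, hkl, hy, key r s hy hyy⟩
    · have hm := Q.mul_mem hx hy
      rw [b_mul_b] at hm hxy
      exact ⟨_, _, hkl, hm, key _ _ hm hxy⟩

/-- an element commuting with a quaternion subgroup of order `8` is central. -/
theorem central_of_commute_quat (hN : N = 4 * M) (hM : 0 < M) (Q : Subgroup (Wr N))
    (e : Q ≃* QuaternionGroup 2) (x : Wr N) (hx : ∀ q ∈ Q, x * q = q * x) :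
    x ∈ Subgroup.center (Wr N) := by
  have hN1 : 1 < N := by omega
  obtain ⟨k, l, i₀, j₀, hkl, hij, hne⟩ := quat_elements hN hM Q e
  rcases x with ⟨r, s⟩ | ⟨r, s⟩
  · have h1 := hx _ hkl
    rw [a_mul_b, b_mul_a] at h1
    injection h1 with h2 h3
    have : r = s := by linear_combination h2
    subst this
    exact (mem_center_iff hN1 _).mpr ⟨_, rfl⟩
  · exfalso
    have h1 := hx _ hij
    rw [b_mul_a, a_mul_b] at h1
    injection h1 with h2 h3
    apply hne
    linear_combination (-1 : ZMod N) * h2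

/-- **Identification**: a subgroup of `Wr N` isomorphic to `V_k` is some `V_k'`. -/
theorem exists_vSub_of_mulEquiv (hN : N = 4 * M) (hM : 0 < M) (k : ZMod N) (X : Subgroup (Wr N))
    (ψ : vSub N k ≃* X) : ∃ k', X = vSub N k' := by
  have hN1 : 1 < N := by omega
  have : NeZero N := ⟨by omega⟩
  -- the image of the quaternion subgroup
  set Q₀ := (q8Hom hN k).range with hQ₀
  have hQ₀le : Q₀ ≤ vSub N k := q8Hom_range_le hN k
  set f : vSub N k →* Wr N := X.subtype.comp ψ.toMonoidHom with hf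
  have hfinj : Function.Injective f := (Subgroup.subtype_injective X).comp ψ.injective
  set Q' : Subgroup (Wr N) := (Q₀.subgroupOf (vSub N k)).map f with hQ'
  have e' : Q' ≃* QuaternionGroup 2 :=
    (((Q₀.subgroupOf (vSub N k)).equivMapOfInjective f hfinj).symm.trans
      (Subgroup.subgroupOfEquivOfLe hQ₀le)).trans
      (MonoidHom.ofInjective (q8Hom_injective hN hM k)).symm
  have hQ'X : Q' ≤ X := by
    rintro _ ⟨y, -, rfl⟩
    exact (ψ y).2
  obtain ⟨k', hk'⟩ := exists_vSub_of_quat hN hM Q' e'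
  refine ⟨k', ?_⟩
  -- images of central elements are central
  have hcen : ∀ ζ (hζ : ζ ∈ Subgroup.center (Wr N)),
      f ⟨ζ, center_le_vSub hN1 k hζ⟩ ∈ Subgroup.center (Wr N) := by
    intro ζ hζ
    apply central_of_commute_quat hN hM Q' e'
    rintro _ ⟨y, -, rfl⟩
    rw [← map_mul, ← map_mul]
    congr 1
    apply Subtype.ext
    rw [Subgroup.mem_center_iff] at hζ
    exact (hζ _).symm
  apply le_antisymm
  · intro x hx
    obtain ⟨y, hy⟩ := ψ.surjective ⟨x, hx⟩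
    have hxy : x = f y := by rw [hf]; simp [hy]
    obtain ⟨q, hq, ζ, hζ, hdec⟩ := vSub_mem_decomp hN hM k y y.2
    have h1 : y = ⟨q, hQ₀le hq⟩ * ⟨ζ, center_le_vSub hN1 k hζ⟩ := Subtype.ext hdec
    rw [hxy, h1, map_mul, ← hk']
    apply Subgroup.mul_mem_sup
    · exact ⟨⟨q, hQ₀le hq⟩, Subgroup.mem_subgroupOf.mpr hq, rfl⟩
    · exact hcen ζ hζ
  · rw [← hk']
    apply sup_le hQ'X
    -- the centre lies in `X`
    let F : Subgroup.center (Wr N) → Subgroup.center (Wr N) := fun ζ => ⟨f ⟨ζ, center_le_vSub hN1 k ζ.2⟩, hcen ζ ζ.2⟩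
    have hFinj : Function.Injective F := by
      intro ζ₁ ζ₂ h
      have h0 : (F ζ₁ : Wr N) = (F ζ₂ : Wr N) := by rw [h]
      have h1 : f ⟨ζ₁, center_le_vSub hN1 k ζ₁.2⟩ = f ⟨ζ₂, center_le_vSub hN1 k ζ₂.2⟩ := h0
      have h2 := hfinj h1
      have h3 : (ζ₁ : Wr N) = (ζ₂ : Wr N) := by
        have := congrArg (fun y : vSub N k => (y : Wr N)) h2
        exact this
      exact Subtype.ext h3
    have hFsurj : Function.Surjective F := Finite.surjective_of_injective hFinj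
    intro ζ hζ
    obtain ⟨ζ', h⟩ := hFsurj ⟨ζ, hζ⟩
    have h0 : (F ζ' : Wr N) = ζ := by rw [h]
    have h1 : f ⟨ζ', center_le_vSub hN1 k ζ'.2⟩ = ζ := h0
    rw [← h1]
    exact (ψ _).2

end Wr

end Cfsg.Agent.Lib.Helper86_WrSub
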