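/-
Helper library (helper86): finite groups with a wreathed Sylow 2-subgroup, part 2:
coordinates on `U`, `V k`, centralizers and normalizers in `S`, and the automorphism groups of
`U` and `V k`.
-/
import Cfsg.Agent.Lib.Helper86_WrG
import Cfsg.Agent.Lib.Helper86_WrSub2
import Cfsg.Agent.Lib.Helper86_AutCount

set_option autoImplicit false

namespace Cfsg.Agent.Lib.Helper86_WrG

open Cfsg.Agent.Lib.Helper86_Wreathed Cfsg.Agent.Lib.Helper86_WrSub Cfsg.Agent.Lib.Helper86_WrAbs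
open Cfsg.Agent.Lib.Helper86_AutCount

namespace WrSylow

variable {G : Type*} [Group G] {N M : ℕ} (W : WrSylow G N M)

/-! ### Coordinates -/

theorem mem_U_iff (x : Wr N) : W.ι x ∈ W.U ↔ x ∈ Wr.aSub N := W.mem_map_iff _ x

theorem mem_V_iff (k : ZMod N) (x : Wr N) : W.ι x ∈ W.V k ↔ x ∈ Wr.vSub N k := W.mem_map_iff _ x

theorem mem_Z_iff (x : Wr N) : W.ι x ∈ W.Z ↔ x ∈ Subgroup.center (Wr N) := W.mem_map_iff _ x

theorem mem_T_iff (k : ZMod N) (x : Wr N) : W.ι x ∈ W.T k ↔ x ∈ Wr.wSub N k := W.mem_map_iff _ x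

theorem ι_a_mem_U (i j : ZMod N) : W.ι (Wr.a i j) ∈ W.U := (W.mem_U_iff _).mpr (Wr.a_mem_aSub i j)

theorem ι_b_not_mem_U (i j : ZMod N) : W.ι (Wr.b i j) ∉ W.U := fun h =>
  Wr.b_not_mem_aSub i j ((W.mem_U_iff _).mp h)

theorem exists_of_mem_U {g : G} (hg : g ∈ W.U) : ∃ i j, g = W.ι (Wr.a i j) := by
  obtain ⟨x, hx, rfl⟩ := hg
  obtain ⟨i, j, rfl⟩ := (Wr.mem_aSub_iff _).mp hx
  exact ⟨i, j, rfl⟩

theorem ι_eq_one_iff (x : Wr N) : W.ι x = 1 ↔ x = 1 := by
  constructor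
  · intro h; exact W.inj (h.trans (map_one _).symm)
  · rintro rfl; exact map_one _

theorem Z_le_U : W.Z ≤ W.U := by
  rintro _ ⟨x, hx, rfl⟩
  obtain ⟨i, rfl⟩ := (Wr.mem_center_iff W.one_lt x).mp hx
  exact W.ι_a_mem_U _ _

theorem Z_le_V (k : ZMod N) : W.Z ≤ W.V k :=
  Subgroup.map_mono (Wr.center_le_vSub W.one_lt k)

theorem V_le_T (k : ZMod N) : W.V k ≤ W.T k := Subgroup.map_mono (Wr.vSub_le_wSub k)

theorem U_comm (x y : G) (hx : x ∈ W.U) (hy : y ∈ W.U) : x * y = y * x := by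
  obtain ⟨i, j, rfl⟩ := W.exists_of_mem_U hx
  obtain ⟨r, s, rfl⟩ := W.exists_of_mem_U hy
  rw [← map_mul, ← map_mul, Wr.a_comm]

theorem conj_mem_U {s x : G} (hs : s ∈ (W.S : Subgroup G)) (hx : x ∈ W.U) : s * x * s⁻¹ ∈ W.U := by
  obtain ⟨s', rfl⟩ := W.exists_of_mem hs
  obtain ⟨i, j, rfl⟩ := W.exists_of_mem_U hx
  rw [W.ι_conj]
  obtain ⟨k, l, h⟩ := Wr.conj_a_is_a s' i j
  rw [h]
  exact W.ι_a_mem_U _ _

theorem S_le_normalizer_U : (W.S : Subgroup G) ≤ Subgroup.normalizer (W.U : Set G) := by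
  intro s hs
  rw [Subgroup.mem_normalizer_iff]
  intro h
  constructor
  · intro hh; exact W.conj_mem_U hs hh
  · intro hh
    have := W.conj_mem_U (Subgroup.inv_mem _ hs) hh
    have h2 : s⁻¹ * (s * h * s⁻¹) * s⁻¹⁻¹ = h := by group
    rwa [h2] at this

theorem S_inf_centralizer_U :
    (W.S : Subgroup G) ⊓ Subgroup.centralizer (W.U : Set G) = W.U := by
  have hN1 := W.one_lt
  apply le_antisymm
  · rintro g ⟨hgS, hgC⟩
    obtain ⟨x, rfl⟩ := W.exists_of_mem hgS
    rw [mem_U_iff]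
    rcases x with ⟨i, j⟩ | ⟨i, j⟩
    · exact Wr.a_mem_aSub _ _
    · exfalso
      have hgC' : W.ι (Wr.b i j) ∈ Subgroup.centralizer (W.U : Set G) := hgC
      rw [Subgroup.mem_centralizer_iff] at hgC'
      have h1 := hgC' _ (W.ι_a_mem_U 1 0)
      rw [← map_mul, ← map_mul] at h1
      have h2 := W.inj h1
      rw [Wr.a_mul_b, Wr.b_mul_a] at h2
      injection h2 with h3 _
      have : Fact (1 < N) := ⟨hN1⟩
      have h4 : (1 : ZMod N) = 0 := by linear_combination h3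
      exact one_ne_zero h4
  · intro g hg
    refine Subgroup.mem_inf.mpr ⟨W.U_le hg, ?_⟩
    rw [Subgroup.mem_centralizer_iff]
    intro h hh
    exact W.U_comm h g hh hg

/-- elements of `S` commute with `Z` -/
theorem Z_central {s z : G} (hs : s ∈ (W.S : Subgroup G)) (hz : z ∈ W.Z) : s * z = z * s := by
  obtain ⟨s', rfl⟩ := W.exists_of_mem hs
  obtain ⟨z', hz', rfl⟩ := hz
  have hz'' := Subgroup.mem_center_iff.mp hz'
  rw [← map_mul, ← map_mul, hz'' s']

theorem S_inf_centralizer_V (k : ZMod N) :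
    (W.S : Subgroup G) ⊓ Subgroup.centralizer (W.V k : Set G) = W.Z := by
  have hN1 := W.one_lt
  have h2M := twoM_ne_zero W.hN W.hM
  apply le_antisymm
  · rintro g ⟨hgS, hgC⟩
    obtain ⟨x, rfl⟩ := W.exists_of_mem hgS
    have hgC' : W.ι x ∈ Subgroup.centralizer (W.V k : Set G) := hgC
    rw [Subgroup.mem_centralizer_iff] at hgC'
    rw [mem_Z_iff]
    have h1 : Wr.a (2 * (M : ZMod N)) 0 ∈ Wr.vSub N k := by
      rw [Wr.a_mem_vSub_iff, sub_zero]
      linear_combination twoM_add_twoM W.hN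
    have h2 := hgC' _ ((W.mem_V_iff k _).mpr h1)
    have h3 := hgC' _ ((W.mem_V_iff k _).mpr (Wr.b_mem_vSub_self k))
    rw [← map_mul, ← map_mul] at h2 h3
    have h2' := W.inj h2
    have h3' := W.inj h3
    rcases x with ⟨i, j⟩ | ⟨i, j⟩
    · rw [Wr.b_mul_a, Wr.a_mul_b] at h3'
      injection h3' with h4 h5
      have : i = j := by linear_combination (-1 : ZMod N) * h4
      subst this
      exact (Wr.mem_center_iff hN1 _).mpr ⟨_, rfl⟩
    · exfalso
      rw [Wr.a_mul_b, Wr.b_mul_a] at h2'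
      injection h2' with h4 h5
      apply h2M
      linear_combination h4
  · intro g hg
    refine Subgroup.mem_inf.mpr ⟨W.Z_le hg, ?_⟩
    rw [Subgroup.mem_centralizer_iff]
    intro h hh
    exact W.Z_central (W.V_le k hh) hg

theorem ι_mem_normalizer_map_iff (X : Subgroup (Wr N)) (x : Wr N) :
    W.ι x ∈ Subgroup.normalizer ((X.map W.ι : Subgroup G) : Set G) ↔
      x ∈ Subgroup.normalizer (X : Set (Wr N)) := by
  rw [Subgroup.mem_normalizer_iff, Subgroup.mem_normalizer_iff]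
  constructor
  · intro h y
    have := h (W.ι y)
    rw [W.ι_conj, W.mem_map_iff, W.mem_map_iff] at this
    exact this
  · intro h g
    constructor
    · rintro ⟨y, hy, rfl⟩
      rw [W.ι_conj, W.mem_map_iff]
      exact (h y).mp hy
    · intro hg
      have hgS : g ∈ (W.S : Subgroup G) := by
        have h1 := W.map_le X hg
        have h2 := Subgroup.mul_mem _ (Subgroup.mul_mem _ (Subgroup.inv_mem _ (W.ι_mem x)) h1)
          (W.ι_mem x)
        have h3 : (W.ι x)⁻¹ * (W.ι x * g * (W.ι x)⁻¹) * W.ι x = g := by group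
        rwa [h3] at h2
      obtain ⟨y, rfl⟩ := W.exists_of_mem hgS
      rw [W.ι_conj, W.mem_map_iff] at hg
      rw [W.mem_map_iff]
      exact (h y).mpr hg

theorem S_inf_normalizer_V (k : ZMod N) :
    (W.S : Subgroup G) ⊓ Subgroup.normalizer (W.V k : Set G) = W.T k := by
  apply le_antisymm
  · rintro g ⟨hgS, hgN⟩
    obtain ⟨x, rfl⟩ := W.exists_of_mem hgS
    have hgN' : W.ι x ∈ Subgroup.normalizer (W.V k : Set G) := hgN
    rw [V, ι_mem_normalizer_map_iff, Wr.normalizer_vSub] at hgN'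
    exact (W.mem_T_iff k x).mpr hgN'
  · rintro _ ⟨x, hx, rfl⟩
    refine Subgroup.mem_inf.mpr ⟨W.ι_mem x, ?_⟩
    rw [V, ι_mem_normalizer_map_iff, Wr.normalizer_vSub]
    exact hx

theorem T_le_normalizer_V (k : ZMod N) : W.T k ≤ Subgroup.normalizer (W.V k : Set G) := by
  rw [← W.S_inf_normalizer_V k]; exact inf_le_right

theorem relIndex_V_T (k : ZMod N) : (W.V k).relIndex (W.T k) = 2 := by
  rw [V, T, Subgroup.relIndex_map_map_of_injective _ _ W.inj]
  exact Wr.relIndex_vSub_wSub W.hN W.hM k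

theorem S_eq_map_top : (W.S : Subgroup G) = (⊤ : Subgroup (Wr N)).map W.ι := by
  rw [← MonoidHom.range_eq_map, W.range_eq]

theorem relIndex_U_S : (W.U).relIndex (W.S : Subgroup G) = 2 := by
  have : NeZero N := W.neZero
  rw [S_eq_map_top, U, Subgroup.relIndex_map_map_of_injective _ _ W.inj, Subgroup.relIndex_top_right]
  have h1 := Subgroup.card_mul_index (Wr.aSub N)
  rw [Wr.card_aSub, Wr.card] at h1
  have hpos : 0 < N ^ 2 := by have := W.one_lt; positivity
  have : N ^ 2 * (Wr.aSub N).index = N ^ 2 * 2 := by rw [h1]; ring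
  exact Nat.eq_of_mul_eq_mul_left hpos this

/-- conjugation by `ι (a r 0)` -/
theorem V_conj (k r : ZMod N) :
    (W.V k).map (MulAut.conj (W.ι (Wr.a r 0))).toMonoidHom = W.V (k + r) := by
  rw [V, V, ← Wr.vSub_map_conj k r, Subgroup.map_map, Subgroup.map_map]
  congr 1
  ext x
  simp only [MonoidHom.coe_comp, Function.comp_apply, MulEquiv.coe_toMonoidHom, MulAut.conj_apply,
    map_mul, map_inv]

end WrSylow

end Cfsg.Agent.Lib.Helper86_WrG
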