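/-
Helper library (helper86): finite groups with a wreathed Sylow 2-subgroup, part 3:
identification of the data of the statements (`U`, `Q Z(S)`) with the coordinate subgroups,
the case of relative index two, and the involutions.
-/
import Cfsg.Agent.Lib.Helper86_WrG2

set_option autoImplicit false

namespace Cfsg.Agent.Lib.Helper86_WrG

open Cfsg.Agent.Lib.Helper86_Wreathed Cfsg.Agent.Lib.Helper86_WrSub Cfsg.Agent.Lib.Helper86_WrAbs
open Cfsg.Agent.Lib.Helper86_AutCount Cfsg.Agent.Lib.Helper86_FusionControl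

/-- membership in a subgroup of relative index two -/
theorem mem_or_mul_mem_of_relIndex_two {G : Type*} [Group G] (C Nn : Subgroup G)
    (h : C.relIndex Nn = 2) (t g : G) (ht : t ∈ Nn) (htC : t ∉ C) (hg : g ∈ Nn) :
    g ∈ C ∨ t⁻¹ * g ∈ C := by
  by_cases hgC : g ∈ C
  · left; exact hgC
  · right
    have h1 := Subgroup.mul_mem_iff_of_index_two (H := C.subgroupOf Nn) h
      (a := ⟨t⁻¹, Nn.inv_mem ht⟩) (b := ⟨g, hg⟩)
    simp only [Subgroup.mem_subgroupOf, MulMemClass.mk_mul_mk, inv_mem_iff] at h1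
    exact h1.mpr ⟨fun h => absurd h htC, fun h => absurd h hgC⟩

theorem mem_map_conj_iff {G : Type*} [Group G] (P : Subgroup G) (c y : G) :
    y ∈ P.map (MulAut.conj c).toMonoidHom ↔ c⁻¹ * y * c ∈ P := by
  rw [Subgroup.mem_map_equiv, MulAut.conj_symm_apply]

/-- `P C_G(P)` acts on `P` by inner automorphisms -/
theorem sup_centralizer_le_innerOn {G : Type*} [Group G] (P : Subgroup G) :
    P ⊔ Subgroup.centralizer (P : Set G) ≤ innerOn P := by
  apply sup_le
  · intro v hv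
    exact ⟨v, hv, fun x _ => rfl⟩
  · intro c hc
    refine ⟨1, P.one_mem, fun x hx => ?_⟩
    rw [Subgroup.mem_centralizer_iff] at hc
    rw [← hc x hx]; group

/-- transport of "acts as an element of `S`" along conjugation by an element of `S` -/
theorem acts_conj {G : Type*} [Group G] (S P P' : Subgroup G) (c : G) (hc : c ∈ S)
    (hP' : P.map (MulAut.conj c).toMonoidHom = P')
    (h : ∀ g ∈ Subgroup.normalizer (P' : Set G), ∃ s ∈ S, ∀ x ∈ P', g * x * g⁻¹ = s * x * s⁻¹) :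
    ∀ g ∈ Subgroup.normalizer (P : Set G), ∃ s ∈ S, ∀ x ∈ P, g * x * g⁻¹ = s * x * s⁻¹ := by
  intro g hg
  have hmem : ∀ y, y ∈ P' ↔ c⁻¹ * y * c ∈ P := by
    intro y; rw [← hP']; exact mem_map_conj_iff P c y
  have hgN : c * g * c⁻¹ ∈ Subgroup.normalizer (P' : Set G) := by
    rw [Subgroup.mem_normalizer_iff]
    intro y
    rw [hmem, hmem, (Subgroup.mem_normalizer_iff.mp hg) (c⁻¹ * y * c)]
    have : c⁻¹ * (c * g * c⁻¹ * y * (c * g * c⁻¹)⁻¹) * c = g * (c⁻¹ * y * c) * g⁻¹ := by group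
    rw [this]
  obtain ⟨s, hs, hsx⟩ := h _ hgN
  refine ⟨c⁻¹ * s * c, S.mul_mem (S.mul_mem (S.inv_mem hc) hs) hc, fun x hx => ?_⟩
  have hy : c * x * c⁻¹ ∈ P' := by
    rw [hmem]
    have : c⁻¹ * (c * x * c⁻¹) * c = x := by group
    rw [this]; exact hx
  have h1 := hsx _ hy
  calc g * x * g⁻¹ = c⁻¹ * (c * g * c⁻¹ * (c * x * c⁻¹) * (c * g * c⁻¹)⁻¹) * c := by group
    _ = c⁻¹ * (s * (c * x * c⁻¹) * s⁻¹) * c := by rw [h1]
    _ = _ := by group

namespace WrSylow

variable {G : Type*} [Group G] {N M : ℕ} (W : WrSylow G N M)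

/-! ### Identification -/

theorem center_map_eq_Z :
    (Subgroup.center (W.S : Subgroup G)).map (W.S : Subgroup G).subtype = W.Z := by
  ext g
  constructor
  · rintro ⟨⟨s, hs⟩, hc, rfl⟩
    obtain ⟨x, rfl⟩ := W.exists_of_mem hs
    show W.ι x ∈ W.Z
    rw [mem_Z_iff, Subgroup.mem_center_iff]
    intro y
    have hc' := Subgroup.mem_center_iff.mp hc
    have := hc' ⟨W.ι y, W.ι_mem y⟩
    have h2 := congrArg Subtype.val this
    simp only [Subgroup.coe_mul] at h2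
    rw [← map_mul, ← map_mul] at h2
    exact W.inj h2
  · intro hg
    refine ⟨⟨g, W.Z_le hg⟩, ?_, rfl⟩
    apply Subgroup.mem_center_iff.mpr
    rintro ⟨s, hs⟩
    apply Subtype.ext
    exact W.Z_central hs hg

theorem eq_U_of_abelian [Finite G] (n : ℕ) (hn : N = 2 ^ n) (U : Subgroup G)
    (hUS : U ≤ W.S) (hUab : IsMulCommutative U) (hUcard : Nat.card U = 2 ^ (2 * n)) :
    U = W.U := by
  have : NeZero N := W.neZero
  have hN2 : 2 < N := by have := W.hN; have := W.hM; omega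
  have h1 : (U.comap W.ι) = Wr.aSub N := by
    apply Wr.abelian_eq_aSub hN2
    · intro g hg h hh
      apply W.inj
      rw [map_mul, map_mul]
      have := hUab.is_comm.comm ⟨W.ι g, hg⟩ ⟨W.ι h, hh⟩
      exact congrArg Subtype.val this
    · have e : (U.comap W.ι) ≃* ((U.comap W.ι).map W.ι) :=
        (U.comap W.ι).equivMapOfInjective W.ι W.inj
      rw [Nat.card_congr e.toEquiv, W.map_comap hUS, hUcard, hn]
      ring
  rw [← W.map_comap hUS, h1]
  rfl

theorem exists_V_of_quat (Q : Subgroup G) (hQS : Q ≤ W.S) (eQ : Q ≃* QuaternionGroup 2) :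
    ∃ k₀, Q ⊔ W.Z = W.V k₀ := by
  have e : (Q.comap W.ι) ≃* QuaternionGroup 2 := by
    have e1 : (Q.comap W.ι) ≃* ((Q.comap W.ι).map W.ι) :=
      (Q.comap W.ι).equivMapOfInjective W.ι W.inj
    have e2 : ((Q.comap W.ι).map W.ι) ≃* Q := MulEquiv.subgroupCongr (W.map_comap hQS)
    exact (e1.trans e2).trans eQ
  obtain ⟨k, hk⟩ := Wr.exists_vSub_of_quat W.hN W.hM (Q.comap W.ι) e
  refine ⟨k, ?_⟩
  rw [V, ← hk, Subgroup.map_sup, W.map_comap hQS]
  rfl

/-! ### Relative index two -/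

theorem ι_b_not_mem_centralizer_U (i j : ZMod N) :
    W.ι (Wr.b i j) ∉ Subgroup.centralizer (W.U : Set G) := by
  intro h
  have h1 : W.ι (Wr.b i j) ∈ (W.S : Subgroup G) ⊓ Subgroup.centralizer (W.U : Set G) :=
    ⟨W.ι_mem _, h⟩
  rw [W.S_inf_centralizer_U] at h1
  exact W.ι_b_not_mem_U _ _ h1

theorem acts_U_of_relIndex_two
    (h₁ : (Subgroup.centralizer (W.U : Set G)).relIndex (Subgroup.normalizer (W.U : Set G)) = 2) :
    ∀ g ∈ Subgroup.normalizer (W.U : Set G), ∃ s ∈ (W.S : Subgroup G),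
      ∀ x ∈ W.U, g * x * g⁻¹ = s * x * s⁻¹ := by
  intro g hg
  rcases mem_or_mul_mem_of_relIndex_two _ _ h₁ (W.ι (Wr.b 0 0)) g
    (W.S_le_normalizer_U (W.ι_mem _)) (W.ι_b_not_mem_centralizer_U 0 0) hg with h | h
  · refine ⟨1, one_mem _, fun x hx => ?_⟩
    rw [Subgroup.mem_centralizer_iff] at h
    rw [← h x hx]; group
  · refine ⟨W.ι (Wr.b 0 0), W.ι_mem _, fun x hx => ?_⟩
    rw [Subgroup.mem_centralizer_iff] at h
    have := h x hx
    calc g * x * g⁻¹ = W.ι (Wr.b 0 0) * ((W.ι (Wr.b 0 0))⁻¹ * g * x) * g⁻¹ := by group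
      _ = W.ι (Wr.b 0 0) * (x * ((W.ι (Wr.b 0 0))⁻¹ * g)) * g⁻¹ := by rw [this]
      _ = _ := by group

/-- an element of `T k` acting on `V k` as an element of `V k` lies in `V k` -/
theorem mem_V_of_mem_innerOn (k : ZMod N) {t : G} (htS : t ∈ (W.S : Subgroup G))
    (ht : t ∈ innerOn (W.V k)) : t ∈ W.V k := by
  obtain ⟨v, hv, hvx⟩ := ht
  have h1 : v⁻¹ * t ∈ (W.S : Subgroup G) ⊓ Subgroup.centralizer (W.V k : Set G) := by
    refine ⟨Subgroup.mul_mem _ (Subgroup.inv_mem _ (W.V_le k hv)) htS, ?_⟩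
    apply Subgroup.mem_centralizer_iff.mpr
    intro x hx
    have := hvx x hx
    calc x * (v⁻¹ * t) = v⁻¹ * (v * x * v⁻¹) * t := by group
      _ = v⁻¹ * (t * x * t⁻¹) * t := by rw [this]
      _ = _ := by group
  rw [W.S_inf_centralizer_V] at h1
  have h2 := Subgroup.mul_mem _ hv (W.Z_le_V k h1)
  rwa [mul_inv_cancel_left] at h2

theorem acts_V_of_relIndex_two (k₀ : ZMod N)
    (h₂ : (W.V k₀ ⊔ Subgroup.centralizer (W.V k₀ : Set G)).relIndex
      (Subgroup.normalizer (W.V k₀ : Set G)) = 2) :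
    ∀ k, ∀ g ∈ Subgroup.normalizer (W.V k : Set G), ∃ s ∈ (W.S : Subgroup G),
      ∀ x ∈ W.V k, g * x * g⁻¹ = s * x * s⁻¹ := by
  have key : ∀ g ∈ Subgroup.normalizer (W.V k₀ : Set G), ∃ s ∈ (W.S : Subgroup G),
      ∀ x ∈ W.V k₀, g * x * g⁻¹ = s * x * s⁻¹ := by
    intro g hg
    obtain ⟨t, htT, htV⟩ : ∃ t ∈ W.T k₀, t ∉ W.V k₀ := by
      by_contra hcon
      push Not at hcon
      have h1 : W.T k₀ ≤ W.V k₀ := hcon
      have h2 := Subgroup.relIndex_eq_one.mpr h1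
      rw [W.relIndex_V_T] at h2
      omega
    have htC : t ∉ W.V k₀ ⊔ Subgroup.centralizer (W.V k₀ : Set G) := fun h =>
      htV (W.mem_V_of_mem_innerOn k₀ (W.T_le k₀ htT) (sup_centralizer_le_innerOn _ h))
    rcases mem_or_mul_mem_of_relIndex_two _ _ h₂ t g (W.T_le_normalizer_V k₀ htT) htC hg with h | h
    · obtain ⟨v, hv, hvx⟩ := sup_centralizer_le_innerOn _ h
      exact ⟨v, W.V_le k₀ hv, hvx⟩
    · obtain ⟨v, hv, hvx⟩ := sup_centralizer_le_innerOn _ h
      refine ⟨t * v, Subgroup.mul_mem _ (W.T_le k₀ htT) (W.V_le k₀ hv), fun x hx => ?_⟩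
      have := hvx x hx
      calc g * x * g⁻¹ = t * (t⁻¹ * g * x * (t⁻¹ * g)⁻¹) * t⁻¹ := by group
        _ = t * (v * x * v⁻¹) * t⁻¹ := by rw [this]
        _ = _ := by group
  intro k
  apply acts_conj (W.S : Subgroup G) (W.V k) (W.V k₀) (W.ι (Wr.a (k₀ - k) 0)) (W.ι_mem _) _ key
  rw [W.V_conj]
  congr 1
  ring

/-! ### Involutions -/

/-- the central involution -/
def z1 : G := W.ι (Wr.a (2 * (M : ZMod N)) (2 * (M : ZMod N)))

/-- a non-central involution of `U` -/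
def u1 : G := W.ι (Wr.a (2 * (M : ZMod N)) 0)

/-- a non-central involution of `U` -/
def u2 : G := W.ι (Wr.a 0 (2 * (M : ZMod N)))

/-- an involution outside `U` -/
def t0 : G := W.ι (Wr.b 0 0)

include W in
theorem hN2 : N = 2 * (2 * M) := by have := W.hN; omega

omit W [Group G] in
theorem cast_two_M (N M : ℕ) : (((2 * M : ℕ)) : ZMod N) = 2 * (M : ZMod N) := by push_cast; ring

theorem orderOf_ι (x : Wr N) : orderOf (W.ι x) = orderOf x := orderOf_injective W.ι W.inj x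

theorem isConj_ι {x y : Wr N} (h : IsConj x y) : IsConj (W.ι x) (W.ι y) := W.ι.map_isConj h

/-- every involution of `G` is conjugate to `u2`, `z1` or `t0` -/
theorem involution_rep [Finite G] (t : G) (ht : orderOf t = 2) :
    IsConj t W.u2 ∨ IsConj t W.z1 ∨ IsConj t W.t0 := by
  have hp2 : Fact (Nat.Prime 2) := ⟨Nat.prime_two⟩
  have hK : IsPGroup 2 (Subgroup.zpowers t) := by
    apply Cfsg.Agent.Lib.Helper84_FusionEssential.isPGroup_zpowers_of_pow_eq_one (k := 1)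
    rw [pow_one, ← ht]; exact pow_orderOf_eq_one t
  obtain ⟨g, hg⟩ := Cfsg.Agent.Lib.Helper84_RelSylow.exists_conj_le_sylow W.S hK
  have h1 := hg t (Subgroup.mem_zpowers t)
  obtain ⟨x, hx⟩ := W.exists_of_mem h1
  have hc : IsConj t (W.ι x) := by
    rw [isConj_iff]; exact ⟨g, hx.symm⟩
  have hox : orderOf x = 2 := by
    rw [← W.orderOf_ι, hx]
    have : g * t * g⁻¹ = MulAut.conj g t := rfl
    rw [this, MulEquiv.orderOf_eq]; exact ht
  have hM2 : 0 < 2 * M := by have := W.hM; omega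
  rcases Wr.involution_classify W.hN2 hM2 x hox with h | h | h
  · left; refine hc.trans ?_
    have := W.isConj_ι h
    rwa [cast_two_M N M] at this
  · right; left; refine hc.trans ?_
    have := W.isConj_ι h
    rwa [cast_two_M N M] at this
  · right; right; exact hc.trans (W.isConj_ι h)

theorem orderOf_z1 : orderOf W.z1 = 2 := by
  have hM2 : 0 < 2 * M := by have := W.hM; omega
  rw [z1, W.orderOf_ι, ← cast_two_M N M]
  exact Wr.orderOf_a_half_half W.hN2 hM2

theorem orderOf_u2 : orderOf W.u2 = 2 := by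
  have h2M := twoM_ne_zero W.hN W.hM
  rw [u2, W.orderOf_ι, orderOf_eq_prime_iff]
  constructor
  · rw [pow_two, Wr.a_mul_a, Wr.one_def]
    congr 1
    · ring
    · linear_combination twoM_add_twoM W.hN
  · intro h
    rw [Wr.one_def] at h
    injection h with h1 h2
    exact h2M h2

theorem orderOf_u1 : orderOf W.u1 = 2 := by
  have h2M := twoM_ne_zero W.hN W.hM
  rw [u1, W.orderOf_ι, orderOf_eq_prime_iff]
  constructor
  · rw [pow_two, Wr.a_mul_a, Wr.one_def]
    congr 1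
    · linear_combination twoM_add_twoM W.hN
    · ring
  · intro h
    rw [Wr.one_def] at h
    injection h with h1 h2
    exact h2M h1

theorem orderOf_t0 : orderOf W.t0 = 2 := by
  rw [t0, W.orderOf_ι, orderOf_eq_prime_iff]
  constructor
  · rw [pow_two, Wr.b_mul_b, Wr.one_def]
    congr 1 <;> ring
  · intro h
    rw [Wr.one_def] at h
    cases h

/-- if fusion in `S` is controlled by `S`, conjugacy in `G` of elements of `S` is conjugacy in `S` -/
theorem isConj_of_control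
    (hmaps : ∀ Q : Subgroup G, Q ≤ W.S → ∀ g : G, (∀ x ∈ Q, g * x * g⁻¹ ∈ (W.S : Subgroup G)) →
      ∃ s ∈ (W.S : Subgroup G), ∀ x ∈ Q, g * x * g⁻¹ = s * x * s⁻¹)
    {x y : Wr N} (h : IsConj (W.ι x) (W.ι y)) : IsConj x y := by
  rw [isConj_iff] at h
  obtain ⟨g, hg⟩ := h
  have hQ : Subgroup.zpowers (W.ι x) ≤ (W.S : Subgroup G) := by
    rw [Subgroup.zpowers_le]; exact W.ι_mem x
  have hgQ : ∀ q ∈ Subgroup.zpowers (W.ι x), g * q * g⁻¹ ∈ (W.S : Subgroup G) := by
    rintro q ⟨n, rfl⟩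
    have h1 : g * (W.ι x) ^ n * g⁻¹ = (g * W.ι x * g⁻¹) ^ n := by
      rw [conj_zpow]
    show g * (W.ι x) ^ n * g⁻¹ ∈ _
    rw [h1, hg]
    exact Subgroup.zpow_mem _ (W.ι_mem y) n
  obtain ⟨s, hs, hsx⟩ := hmaps _ hQ g hgQ
  obtain ⟨s', rfl⟩ := W.exists_of_mem hs
  have h2 := hsx _ (Subgroup.mem_zpowers _)
  rw [hg, W.ι_conj] at h2
  rw [isConj_iff]
  exact ⟨s', (W.inj h2).symm⟩

end WrSylow

end Cfsg.Agent.Lib.Helper86_WrG
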