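/-
Helper library (helper86): more facts on the model `Wr N`, `N = 4 M`: the index of the centre in
`vSub N k`, the involutions of the base group.
-/
import Cfsg.Agent.Lib.Helper86_WrSub2

set_option autoImplicit false

namespace Cfsg.Agent.Lib.Helper86_WrSub

open Cfsg.Agent.Lib.Helper86_Wreathed

namespace Wr

open Cfsg.Agent.Lib.Helper86_Wreathed.Wr

variable {N M : ℕ}

theorem relIndex_aSub_vSub (k : ZMod N) :
    (aSub N).relIndex (vSub N k) = 2 := by
  rw [Subgroup.relIndex_eq_two_iff]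
  refine ⟨b (2 * k) 0, b_mem_vSub_self k, ?_⟩
  rintro (⟨i, j⟩ | ⟨i, j⟩) _
  · right
    rw [a_mul_b]
    exact ⟨a_mem_aSub _ _, b_not_mem_aSub _ _⟩
  · left
    rw [b_mul_b]
    exact ⟨a_mem_aSub _ _, b_not_mem_aSub _ _⟩

theorem relIndex_center_aSub_inf_vSub (hN : N = 4 * M) (hM : 0 < M) (k : ZMod N) :
    (Subgroup.center (Wr N)).relIndex (aSub N ⊓ vSub N k) = 2 := by
  have hN1 : 1 < N := by omega
  have h2M := twoM_ne_zero hN hM
  rw [Subgroup.relIndex_eq_two_iff]
  refine ⟨a (2 * (M : ZMod N)) 0, Subgroup.mem_inf.mpr ⟨a_mem_aSub _ _, ?_⟩, ?_⟩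
  · rw [a_mem_vSub_iff, sub_zero]
    linear_combination twoM_add_twoM hN
  · rintro (⟨i, j⟩ | ⟨i, j⟩) hg
    all_goals obtain ⟨hg1, hg2⟩ := Subgroup.mem_inf.mp hg
    · rw [a_mem_vSub_iff] at hg2
      rw [a_mul_a, mem_center_iff hN1, mem_center_iff hN1]
      rcases two_tor hN hM _ hg2 with h3 | h3
      · right
        have hij : i = j := sub_eq_zero.mp h3
        subst hij
        refine ⟨⟨i, rfl⟩, ?_⟩
        rintro ⟨l, hl⟩
        injection hl with h4 h5
        apply h2M
        linear_combination h4 - h5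
      · left
        refine ⟨⟨j, ?_⟩, ?_⟩
        · congr 1
          · linear_combination h3 + twoM_add_twoM hN
          · ring
        · rintro ⟨l, hl⟩
          injection hl with h4 h5
          apply h2M
          rw [← h3, h4, h5, sub_self]
    · exact absurd hg1 (b_not_mem_aSub _ _)

theorem center_le_aSub (hN1 : 1 < N) : Subgroup.center (Wr N) ≤ aSub N := by
  intro x hx
  obtain ⟨i, rfl⟩ := (mem_center_iff hN1 x).mp hx
  exact a_mem_aSub _ _

theorem relIndex_center_vSub (hN : N = 4 * M) (hM : 0 < M) (k : ZMod N) :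
    (Subgroup.center (Wr N)).relIndex (vSub N k) = 4 := by
  have hN1 : 1 < N := by omega
  have h1 := Subgroup.relIndex_mul_relIndex (Subgroup.center (Wr N)) (aSub N ⊓ vSub N k) (vSub N k)
    (le_inf (center_le_aSub hN1) (center_le_vSub hN1 k)) inf_le_right
  rw [relIndex_center_aSub_inf_vSub hN hM k, Subgroup.inf_relIndex_right,
    relIndex_aSub_vSub k] at h1
  rw [← h1]

theorem aSub_involutions (hN : N = 4 * M) (hM : 0 < M) {x : Wr N} (hx : x ∈ aSub N)
    (hxx : x * x = 1) :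
    x = 1 ∨ x = a (2 * (M : ZMod N)) (2 * (M : ZMod N)) ∨ x = a (2 * (M : ZMod N)) 0 ∨
      x = a 0 (2 * (M : ZMod N)) := by
  obtain ⟨i, j, rfl⟩ := (mem_aSub_iff x).mp hx
  rw [a_mul_a, one_def] at hxx
  injection hxx with h1 h2
  have hi := two_tor hN hM i (by linear_combination h1)
  have hj := two_tor hN hM j (by linear_combination h2)
  rcases hi with rfl | rfl <;> rcases hj with rfl | rfl
  · left; rfl
  · right; right; right; rfl
  · right; right; left; rfl
  · right; left; rfl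

theorem involutions_mem_vSub (hN : N = 4 * M) (k : ZMod N) :
    a (2 * (M : ZMod N)) (2 * (M : ZMod N)) ∈ vSub N k ∧ a (2 * (M : ZMod N)) 0 ∈ vSub N k ∧
      a 0 (2 * (M : ZMod N)) ∈ vSub N k := by
  refine ⟨?_, ?_, ?_⟩
  · rw [a_mem_vSub_iff]; ring
  · rw [a_mem_vSub_iff]; linear_combination twoM_add_twoM hN
  · rw [a_mem_vSub_iff]; linear_combination -twoM_add_twoM hN

theorem inv_mul_mem_aSub {x y : Wr N} (hx : x ∉ aSub N) (hy : y ∉ aSub N) : x⁻¹ * y ∈ aSub N := by
  rcases x with ⟨i, j⟩ | ⟨i, j⟩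
  · exact absurd (a_mem_aSub _ _) hx
  rcases y with ⟨p, q⟩ | ⟨p, q⟩
  · exact absurd (a_mem_aSub _ _) hy
  rw [inv_b, b_mul_b]
  exact a_mem_aSub _ _

theorem center_involution (hN : N = 4 * M) (hM : 0 < M) {x : Wr N}
    (hx : x ∈ Subgroup.center (Wr N)) (hxx : x * x = 1) (hx1 : x ≠ 1) :
    x = a (2 * (M : ZMod N)) (2 * (M : ZMod N)) := by
  have hN1 : 1 < N := by omega
  obtain ⟨i, rfl⟩ := (mem_center_iff hN1 x).mp hx
  rw [a_mul_a, one_def] at hxx
  injection hxx with h1 h2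
  rcases two_tor hN hM i (by linear_combination h1) with rfl | rfl
  · exact absurd rfl hx1
  · rfl

end Wr

end Cfsg.Agent.Lib.Helper86_WrSub
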