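/-
Helper library (helper86): finite groups with a wreathed Sylow 2-subgroup, part 4:
automorphisms of odd order of `U` and of `V k`, and the orders of `Aut(U)` and `Aut(V k)`.
-/
import Cfsg.Agent.Lib.Helper86_WrG3
import Cfsg.Agent.Lib.Helper86_WrSub3

set_option autoImplicit false

namespace Cfsg.Agent.Lib.Helper86_WrG

open Cfsg.Agent.Lib.Helper86_Wreathed Cfsg.Agent.Lib.Helper86_WrSub Cfsg.Agent.Lib.Helper86_WrAbs
open Cfsg.Agent.Lib.Helper86_AutCount Cfsg.Agent.Lib.Helper86_FusionControl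

/-- automorphisms preserve the centre -/
theorem aut_mem_center {Y : Type*} [Group Y] (α : MulAut Y) {x : Y} (hx : x ∈ Subgroup.center Y) :
    α x ∈ Subgroup.center Y := by
  rw [Subgroup.mem_center_iff] at hx ⊢
  intro y
  have h1 := hx (α.symm y)
  have h2 := congrArg α h1
  rw [map_mul, map_mul, MulEquiv.apply_symm_apply] at h2
  exact h2

theorem mul_self_of_orderOf {G : Type*} [Group G] {x : G} (h : orderOf x = 2) : x * x = 1 := by
  rw [← pow_two, ← h]; exact pow_orderOf_eq_one x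

theorem ne_one_of_orderOf {G : Type*} [Group G] {x : G} (h : orderOf x = 2) : x ≠ 1 := by
  rintro rfl; rw [orderOf_one] at h; omega

namespace WrSylow

variable {G : Type*} [Group G] {N M : ℕ} (W : WrSylow G N M)

theorem z1_mem_U : W.z1 ∈ W.U := W.ι_a_mem_U _ _
theorem u1_mem_U : W.u1 ∈ W.U := W.ι_a_mem_U _ _
theorem u2_mem_U : W.u2 ∈ W.U := W.ι_a_mem_U _ _

theorem z1_mem_V (k : ZMod N) : W.z1 ∈ W.V k :=
  (W.mem_V_iff k _).mpr (Wr.involutions_mem_vSub W.hN k).1
theorem u1_mem_V (k : ZMod N) : W.u1 ∈ W.V k :=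
  (W.mem_V_iff k _).mpr (Wr.involutions_mem_vSub W.hN k).2.1
theorem u2_mem_V (k : ZMod N) : W.u2 ∈ W.V k :=
  (W.mem_V_iff k _).mpr (Wr.involutions_mem_vSub W.hN k).2.2

theorem z1_mem_Z : W.z1 ∈ W.Z :=
  (W.mem_Z_iff _).mpr ((Wr.mem_center_iff W.one_lt _).mpr ⟨_, rfl⟩)

theorem U_involutions {x : G} (hx : x ∈ W.U) (hxx : x * x = 1) :
    x = 1 ∨ x = W.z1 ∨ x = W.u1 ∨ x = W.u2 := by
  obtain ⟨y, hy, rfl⟩ := hx
  have hyy : y * y = 1 := by
    apply W.inj; rw [map_mul, map_one]; exact hxx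
  rcases Wr.aSub_involutions W.hN W.hM hy hyy with h | h | h | h
  · left; rw [h]; exact map_one _
  · right; left; rw [h]; rfl
  · right; right; left; rw [h]; rfl
  · right; right; right; rw [h]; rfl

theorem Z_involution {x : G} (hx : x ∈ W.Z) (hxx : x * x = 1) (hx1 : x ≠ 1) : x = W.z1 := by
  obtain ⟨y, hy, rfl⟩ := hx
  have hyy : y * y = 1 := by
    apply W.inj; rw [map_mul, map_one]; exact hxx
  have hy1 : y ≠ 1 := by
    rintro rfl; exact hx1 (map_one _)
  rw [Wr.center_involution W.hN W.hM hy hyy hy1]; rfl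

theorem inv_mul_mem_U {x y : G} (hx : x ∈ (W.S : Subgroup G)) (hy : y ∈ (W.S : Subgroup G))
    (hxU : x ∉ W.U) (hyU : y ∉ W.U) : x⁻¹ * y ∈ W.U := by
  obtain ⟨x', rfl⟩ := W.exists_of_mem hx
  obtain ⟨y', rfl⟩ := W.exists_of_mem hy
  rw [W.mem_U_iff] at hxU hyU
  rw [← map_inv, ← map_mul, W.mem_U_iff]
  exact Wr.inv_mul_mem_aSub hxU hyU

theorem exists_two_pow {x : G} (hx : x ∈ (W.S : Subgroup G)) : ∃ e : ℕ, x ^ (2 ^ e) = 1 := by
  obtain ⟨e, he⟩ := W.S.2 ⟨x, hx⟩
  refine ⟨e, ?_⟩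
  have := congrArg Subtype.val he
  simpa using this

/-- an automorphism of odd order of a subgroup `P` of `S` leaving `U ∩ P` invariant and fixing one of
the three involutions of `U` (all assumed to lie in `P`) is trivial. -/
theorem aut_eq_one_of_fix (P : Subgroup G) (hPS : P ≤ W.S) (α : MulAut P) (hodd : Odd (orderOf α))
    (hαB : ∀ x : P, (x : G) ∈ W.U → ((α x : P) : G) ∈ W.U)
    (z u u' : P) (hz : α z = z) (hu : (u : G) ∈ W.U) (hu' : (u' : G) ∈ W.U)
    (huu : (u : G) * u = 1) (hu'u' : (u' : G) * u' = 1)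
    (hcover : ∀ x : G, x ∈ W.U → x * x = 1 → x = 1 ∨ x = z ∨ x = u ∨ x = u') : α = 1 := by
  apply aut_eq_one_of_three_involutions α hodd (W.U.subgroupOf P) _ _ _ _ z u u' _ hz
  · exact Subgroup.mem_subgroupOf.mpr hu
  · exact Subgroup.mem_subgroupOf.mpr hu'
  · exact Subtype.ext huu
  · exact Subtype.ext hu'u'
  · intro x hx y hy
    apply Subtype.ext
    exact W.U_comm _ _ (Subgroup.mem_subgroupOf.mp hx) (Subgroup.mem_subgroupOf.mp hy)
  · intro x
    obtain ⟨e, he⟩ := W.exists_two_pow (hPS x.2)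
    exact ⟨e, Subtype.ext (by simpa using he)⟩
  · intro x hx
    exact Subgroup.mem_subgroupOf.mpr (hαB x (Subgroup.mem_subgroupOf.mp hx))
  · intro x y hx hy
    rw [Subgroup.mem_subgroupOf] at hx hy ⊢
    exact W.inv_mul_mem_U (hPS x.2) (hPS y.2) hx hy
  · intro x hx hxx
    have hxx' : (x : G) * x = 1 := congrArg Subtype.val hxx
    rcases hcover _ (Subgroup.mem_subgroupOf.mp hx) hxx' with h | h | h | h
    · left; exact Subtype.ext h
    · right; left; exact Subtype.ext h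
    · right; right; left; exact Subtype.ext h
    · right; right; right; exact Subtype.ext h

/-- an automorphism of odd order of `U` fixing an involution is trivial -/
theorem aut_U_eq_one (α : MulAut W.U) (hodd : Odd (orderOf α)) (w : W.U)
    (hw : (w : G) = W.z1 ∨ (w : G) = W.u1 ∨ (w : G) = W.u2) (hfix : α w = w) : α = 1 := by
  have hαB : ∀ x : W.U, (x : G) ∈ W.U → ((α x : W.U) : G) ∈ W.U := fun x _ => (α x).2
  have hz := mul_self_of_orderOf W.orderOf_z1
  have hu1 := mul_self_of_orderOf W.orderOf_u1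
  have hu2 := mul_self_of_orderOf W.orderOf_u2
  rcases hw with hw | hw | hw
  · apply W.aut_eq_one_of_fix W.U W.U_le α hodd hαB w ⟨W.u1, W.u1_mem_U⟩ ⟨W.u2, W.u2_mem_U⟩ hfix
      W.u1_mem_U W.u2_mem_U hu1 hu2
    intro x hx hxx
    rw [hw]
    exact W.U_involutions hx hxx
  · apply W.aut_eq_one_of_fix W.U W.U_le α hodd hαB w ⟨W.z1, W.z1_mem_U⟩ ⟨W.u2, W.u2_mem_U⟩ hfix
      W.z1_mem_U W.u2_mem_U hz hu2
    intro x hx hxx
    rw [hw]
    rcases W.U_involutions hx hxx with h | h | h | h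
    · left; exact h
    · right; right; left; exact h
    · right; left; exact h
    · right; right; right; exact h
  · apply W.aut_eq_one_of_fix W.U W.U_le α hodd hαB w ⟨W.z1, W.z1_mem_U⟩ ⟨W.u1, W.u1_mem_U⟩ hfix
      W.z1_mem_U W.u1_mem_U hz hu1
    intro x hx hxx
    rw [hw]
    rcases W.U_involutions hx hxx with h | h | h | h
    · left; exact h
    · right; right; left; exact h
    · right; right; right; exact h
    · right; left; exact h

theorem mem_center_V_iff (k : ZMod N) (x : W.V k) :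
    x ∈ Subgroup.center (W.V k) ↔ (x : G) ∈ W.Z := by
  constructor
  · intro hx
    rw [← W.S_inf_centralizer_V k]
    refine Subgroup.mem_inf.mpr ⟨W.V_le k x.2, ?_⟩
    apply Subgroup.mem_centralizer_iff.mpr
    intro y hy
    have := (Subgroup.mem_center_iff.mp hx) ⟨y, hy⟩
    exact congrArg Subtype.val this
  · intro hx
    apply Subgroup.mem_center_iff.mpr
    intro y
    apply Subtype.ext
    exact W.Z_central (W.V_le k y.2) hx

/-- an automorphism of odd order of `V k` leaving `U ∩ V k` invariant is trivial -/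
theorem aut_V_eq_one (k : ZMod N) (α : MulAut (W.V k)) (hodd : Odd (orderOf α))
    (hαB : ∀ x : W.V k, (x : G) ∈ W.U → ((α x : W.V k) : G) ∈ W.U) : α = 1 := by
  have hu1 := mul_self_of_orderOf W.orderOf_u1
  have hu2 := mul_self_of_orderOf W.orderOf_u2
  have hz : α ⟨W.z1, W.z1_mem_V k⟩ = ⟨W.z1, W.z1_mem_V k⟩ := by
    have h1 : (⟨W.z1, W.z1_mem_V k⟩ : W.V k) ∈ Subgroup.center (W.V k) :=
      (W.mem_center_V_iff k _).mpr W.z1_mem_Z
    have h2 := (W.mem_center_V_iff k _).mp (aut_mem_center α h1)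
    apply Subtype.ext
    apply W.Z_involution h2
    · have : (⟨W.z1, W.z1_mem_V k⟩ : W.V k) * ⟨W.z1, W.z1_mem_V k⟩ = 1 :=
        Subtype.ext (mul_self_of_orderOf W.orderOf_z1)
      have h3 := congrArg α this
      rw [map_mul, map_one] at h3
      exact congrArg Subtype.val h3
    · intro h
      have h3 : α ⟨W.z1, W.z1_mem_V k⟩ = 1 := Subtype.ext h
      rw [MulEquiv.map_eq_one_iff] at h3
      exact ne_one_of_orderOf W.orderOf_z1 (congrArg Subtype.val h3)
  apply W.aut_eq_one_of_fix (W.V k) (W.V_le k) α hodd hαB ⟨W.z1, W.z1_mem_V k⟩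
    ⟨W.u1, W.u1_mem_V k⟩ ⟨W.u2, W.u2_mem_V k⟩ hz W.u1_mem_U W.u2_mem_U hu1 hu2
  intro x hx hxx
  exact W.U_involutions hx hxx

theorem center_V_eq (k : ZMod N) : Subgroup.center (W.V k) = W.Z.subgroupOf (W.V k) := by
  ext x
  rw [W.mem_center_V_iff, Subgroup.mem_subgroupOf]

theorem relIndex_Z_V (k : ZMod N) : W.Z.relIndex (W.V k) = 4 := by
  rw [Z, V, Subgroup.relIndex_map_map_of_injective _ _ W.inj]
  exact Wr.relIndex_center_vSub W.hN W.hM k

section card

variable [Finite G]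

theorem card_mulAut_U : ∃ j m : ℕ, Nat.card (MulAut W.U) = 2 ^ j * m ∧ m ≤ 3 := by
  apply card_mulAut_of_orbit (⟨W.z1, W.z1_mem_U⟩ : W.U)
    {⟨W.z1, W.z1_mem_U⟩, ⟨W.u1, W.u1_mem_U⟩, ⟨W.u2, W.u2_mem_U⟩}
  · refine (Set.ncard_insert_le _ _).trans (Nat.succ_le_succ ?_)
    refine (Set.ncard_insert_le _ _).trans (Nat.succ_le_succ ?_)
    rw [Set.ncard_singleton]
  · exact Set.toFinite _
  · intro α
    have h1 : (⟨W.z1, W.z1_mem_U⟩ : W.U) * ⟨W.z1, W.z1_mem_U⟩ = 1 :=
      Subtype.ext (mul_self_of_orderOf W.orderOf_z1)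
    have h2 := congrArg α h1
    rw [map_mul, map_one] at h2
    have h3 : ((α ⟨W.z1, W.z1_mem_U⟩ : W.U) : G) * (α ⟨W.z1, W.z1_mem_U⟩ : W.U) = 1 :=
      congrArg Subtype.val h2
    rcases W.U_involutions (α ⟨W.z1, W.z1_mem_U⟩).2 h3 with h | h | h | h
    · exfalso
      have h4 : α ⟨W.z1, W.z1_mem_U⟩ = 1 := Subtype.ext h
      rw [MulEquiv.map_eq_one_iff] at h4
      exact ne_one_of_orderOf W.orderOf_z1 (congrArg Subtype.val h4)
    · left; exact Subtype.ext h
    · right; left; exact Subtype.ext h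
    · right; right; exact Subtype.ext h
  · intro α hodd hfix
    exact W.aut_U_eq_one α hodd _ (Or.inl rfl) hfix

theorem card_mulAut_V (k : ZMod N) :
    ∃ j d : ℕ, Nat.card (MulAut (W.V k)) = 2 ^ j * d ∧ d ∣ 6 := by
  apply card_mulAut_of_center_quotient
  · rw [← Subgroup.index_eq_card, W.center_V_eq k]
    exact W.relIndex_Z_V k
  · intro α hodd hmod
    apply W.aut_V_eq_one k α hodd
    intro x hx
    have h1 := (W.mem_center_V_iff k _).mp (hmod x)
    have h2 : ((α x : W.V k) : G) = (x : G) * ((x : G)⁻¹ * ((α x : W.V k) : G)) := by group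
    rw [h2]
    exact Subgroup.mul_mem _ hx (W.Z_le_U h1)

end card

end WrSylow

end Cfsg.Agent.Lib.Helper86_WrG
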