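/-
Helper library (helper86): finite groups with a wreathed Sylow 2-subgroup, part 5:
the indices `|N(U) : C(U)|` and `|N(V) : V C(V)|` are `2` or `6`.
-/
import Cfsg.Agent.Lib.Helper86_WrG4

set_option autoImplicit false

namespace Cfsg.Agent.Lib.Helper86_WrG

open Cfsg.Agent.Lib.Helper86_Wreathed Cfsg.Agent.Lib.Helper86_WrSub Cfsg.Agent.Lib.Helper86_WrAbs
open Cfsg.Agent.Lib.Helper86_AutCount Cfsg.Agent.Lib.Helper86_FusionControl
open Cfsg.Agent.Lib.Helper84_RelSylow

section general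

variable {G : Type*} [Group G]

/-- `|N(P) : C(P)|` divides `|Aut(P)|` -/
theorem relIndex_centralizer_dvd [Finite G] (P : Subgroup G) :
    (Subgroup.centralizer (P : Set G)).relIndex (Subgroup.normalizer (P : Set G)) ∣
      Nat.card (MulAut P) := by
  have h1 : (Subgroup.centralizer (P : Set G)).relIndex (Subgroup.normalizer (P : Set G)) =
      P.normalizerMonoidHom.ker.index := by
    rw [Subgroup.normalizerMonoidHom_ker]; rfl
  rw [h1, Subgroup.index_ker]
  exact Subgroup.card_subgroup_dvd_card _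

theorem centralizer_subgroupOf_normal (P : Subgroup G) :
    ((Subgroup.centralizer (P : Set G)).subgroupOf (Subgroup.normalizer (P : Set G))).Normal := by
  rw [← Subgroup.normalizerMonoidHom_ker]
  exact MonoidHom.normal_ker _

theorem sup_centralizer_subgroupOf_normal (P : Subgroup G) :
    ((P ⊔ Subgroup.centralizer (P : Set G)).subgroupOf (Subgroup.normalizer (P : Set G))).Normal := by
  have h1 : Subgroup.centralizer (P : Set G) ≤ Subgroup.normalizer (P : Set G) :=
    Subgroup.centralizer_le_normalizer _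
  rw [Subgroup.subgroupOf_sup Subgroup.le_normalizer h1]
  have := centralizer_subgroupOf_normal P
  exact Subgroup.sup_normal _ _

/-- if a Sylow 2-subgroup `T` of `Nn` meets the normal subgroup `C` of `Nn` in a subgroup of
index two, then `|Nn : C|` is twice an odd number -/
theorem relIndex_eq_two_mul_odd [Finite G] (C T Nn : Subgroup G) (hT : T ≤ Nn)
    (hCn : (C.subgroupOf Nn).Normal) (hodd : ¬ 2 ∣ T.relIndex Nn) (hCT : C.relIndex T = 2) :
    ∃ m, Odd m ∧ C.relIndex Nn = 2 * m := by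
  refine ⟨(T.subgroupOf Nn ⊔ C.subgroupOf Nn).index, ?_, ?_⟩
  · rw [← Nat.not_even_iff_odd, even_iff_two_dvd]
    intro h
    apply hodd
    exact h.trans (Subgroup.index_dvd_of_le le_sup_left)
  · have h1 := Subgroup.relIndex_mul_index
      (le_sup_right : C.subgroupOf Nn ≤ T.subgroupOf Nn ⊔ C.subgroupOf Nn)
    rw [Subgroup.relIndex_sup_right, Subgroup.relIndex_subgroupOf hT, hCT] at h1
    exact h1.symm

end general

namespace WrSylow

variable {G : Type*} [Group G] {N M : ℕ} (W : WrSylow G N M)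

theorem card_T (k : ZMod N) : Nat.card (W.T k) = 2 * Nat.card (W.V k) := by
  have h1 := Subgroup.relIndex_mul_relIndex ⊥ (W.V k) (W.T k) bot_le (W.V_le_T k)
  rw [W.relIndex_V_T, Subgroup.relIndex_bot_left, Subgroup.relIndex_bot_left] at h1
  rw [← h1, mul_comm]

/-- a conjugate of `V k` inside `S` is some `V k'` -/
theorem exists_V_of_conj (k : ZMod N) (g : G)
    (hg : (W.V k).map (MulAut.conj g).toMonoidHom ≤ (W.S : Subgroup G)) :
    ∃ k', (W.V k).map (MulAut.conj g).toMonoidHom = W.V k' := by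
  set V' := (W.V k).map (MulAut.conj g).toMonoidHom with hV'
  have e1 : Wr.vSub N k ≃* W.V k := (Wr.vSub N k).equivMapOfInjective W.ι W.inj
  have e2 : W.V k ≃* V' := (W.V k).equivMapOfInjective (MulAut.conj g).toMonoidHom
    (MulAut.conj g).injective
  have e3 : (V'.comap W.ι) ≃* ((V'.comap W.ι).map W.ι) :=
    (V'.comap W.ι).equivMapOfInjective W.ι W.inj
  have e4 : ((V'.comap W.ι).map W.ι) ≃* V' := MulEquiv.subgroupCongr (W.map_comap hg)
  obtain ⟨k', hk'⟩ := Wr.exists_vSub_of_mulEquiv W.hN W.hM k (V'.comap W.ι)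
    ((e1.trans e2).trans (e3.trans e4).symm)
  refine ⟨k', ?_⟩
  rw [← W.map_comap hg, hk']
  rfl

theorem sup_centralizer_inf_T (k : ZMod N) :
    (W.V k ⊔ Subgroup.centralizer (W.V k : Set G)) ⊓ W.T k = W.V k := by
  apply le_antisymm
  · rintro t ⟨ht1, ht2⟩
    exact W.mem_V_of_mem_innerOn k (W.T_le k ht2) (sup_centralizer_le_innerOn _ ht1)
  · exact le_inf le_sup_left (W.V_le_T k)

variable [Finite G]

theorem relIndex_U_eq : ∃ m, Odd m ∧
    (Subgroup.centralizer (W.U : Set G)).relIndex (Subgroup.normalizer (W.U : Set G)) = 2 * m := by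
  have hp2 : Fact (Nat.Prime 2) := ⟨Nat.prime_two⟩
  apply relIndex_eq_two_mul_odd _ (W.S : Subgroup G) _ W.S_le_normalizer_U
    (centralizer_subgroupOf_normal _)
  · exact (isSylowIn_of_sylow_le W.S W.S_le_normalizer_U).not_dvd
  · rw [← Subgroup.inf_relIndex_right, inf_comm, W.S_inf_centralizer_U]
    exact W.relIndex_U_S

/-- `|N(U) : C(U)|` is `2` or `6` -/
theorem relIndex_U_two_or_six :
    (Subgroup.centralizer (W.U : Set G)).relIndex (Subgroup.normalizer (W.U : Set G)) = 2 ∨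
    (Subgroup.centralizer (W.U : Set G)).relIndex (Subgroup.normalizer (W.U : Set G)) = 6 := by
  obtain ⟨m, hm, h1⟩ := W.relIndex_U_eq
  obtain ⟨j, d, h2, hd⟩ := W.card_mulAut_U
  have h3 := relIndex_centralizer_dvd W.U
  rw [h1, h2] at h3
  have hcop : Nat.Coprime m (2 ^ j) := (Nat.Coprime.pow_right j (Nat.coprime_two_right.mpr hm))
  have h4 : m ∣ d := hcop.dvd_of_dvd_mul_left ((Dvd.intro_left 2 rfl).trans h3)
  have hd0 : d ≠ 0 := by
    rintro rfl
    rw [mul_zero] at h2
    exact (Nat.card_pos (α := MulAut W.U)).ne' h2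
  have hm3 : m ≤ 3 := (Nat.le_of_dvd (Nat.pos_of_ne_zero hd0) h4).trans hd
  rw [h1]
  obtain ⟨r, rfl⟩ := hm
  have : r = 0 ∨ r = 1 := by omega
  rcases this with rfl | rfl
  · left; rfl
  · right; rfl

/-- `T k` is a Sylow 2-subgroup of `N(V k)` -/
theorem isSylowIn_T (k : ZMod N) :
    IsSylowIn 2 (W.T k) (Subgroup.normalizer (W.V k : Set G)) := by
  have hp2 : Fact (Nat.Prime 2) := ⟨Nat.prime_two⟩
  have hT2 : IsPGroup 2 (W.T k) := W.S.2.to_le (W.T_le k)
  obtain ⟨R, hTR, hR⟩ := exists_isSylowIn_ge (W.T_le_normalizer_V k) hT2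
  obtain ⟨g, hg⟩ := exists_conj_le_sylow W.S hR.isPGroup
  have hVR : W.V k ≤ R := (W.V_le_T k).trans hTR
  have hV'S : (W.V k).map (MulAut.conj g).toMonoidHom ≤ (W.S : Subgroup G) := by
    rintro _ ⟨x, hx, rfl⟩
    exact hg x (hVR hx)
  obtain ⟨k', hk'⟩ := W.exists_V_of_conj k g hV'S
  have hR'T : R.map (MulAut.conj g).toMonoidHom ≤ W.T k' := by
    rintro _ ⟨x, hx, rfl⟩
    rw [← W.S_inf_normalizer_V k']
    refine Subgroup.mem_inf.mpr ⟨hg x hx, ?_⟩
    have hxN : x ∈ Subgroup.normalizer (W.V k : Set G) := hR.le hx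
    rw [← hk']
    show g * x * g⁻¹ ∈ _
    rw [Subgroup.mem_normalizer_iff]
    intro y
    rw [mem_map_conj_iff, mem_map_conj_iff, (Subgroup.mem_normalizer_iff.mp hxN) (g⁻¹ * y * g)]
    have : g⁻¹ * (g * x * g⁻¹ * y * (g * x * g⁻¹)⁻¹) * g = x * (g⁻¹ * y * g) * x⁻¹ := by group
    rw [this]
  have hcardV : Nat.card (W.V k') = Nat.card (W.V k) := by
    rw [← hk']
    exact (Nat.card_congr ((W.V k).equivMapOfInjective (MulAut.conj g).toMonoidHom
      (MulAut.conj g).injective).toEquiv).symm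
  have hcardR : Nat.card R ≤ Nat.card (W.T k) := by
    rw [W.card_T k, ← hcardV, ← W.card_T k',
      Nat.card_congr (R.equivMapOfInjective (MulAut.conj g).toMonoidHom
        (MulAut.conj g).injective).toEquiv]
    exact Subgroup.card_le_of_le hR'T
  have : W.T k = R := Subgroup.eq_of_le_of_card_ge hTR hcardR
  rw [this]
  exact hR

theorem relIndex_V_eq (k : ZMod N) : ∃ m, Odd m ∧
    (W.V k ⊔ Subgroup.centralizer (W.V k : Set G)).relIndex
      (Subgroup.normalizer (W.V k : Set G)) = 2 * m := by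
  apply relIndex_eq_two_mul_odd _ (W.T k) _ (W.T_le_normalizer_V k)
    (sup_centralizer_subgroupOf_normal _) (W.isSylowIn_T k).not_dvd
  rw [← Subgroup.inf_relIndex_right, W.sup_centralizer_inf_T k]
  exact W.relIndex_V_T k

/-- `|N(V) : V C(V)|` is `2` or `6` -/
theorem relIndex_V_two_or_six (k : ZMod N) :
    (W.V k ⊔ Subgroup.centralizer (W.V k : Set G)).relIndex
      (Subgroup.normalizer (W.V k : Set G)) = 2 ∨
    (W.V k ⊔ Subgroup.centralizer (W.V k : Set G)).relIndex
      (Subgroup.normalizer (W.V k : Set G)) = 6 := by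
  obtain ⟨m, hm, h1⟩ := W.relIndex_V_eq k
  obtain ⟨j, d, h2, hd⟩ := W.card_mulAut_V k
  have h3 := (Subgroup.relIndex_dvd_of_le_left (Subgroup.normalizer (W.V k : Set G))
    (le_sup_right : Subgroup.centralizer (W.V k : Set G) ≤
      W.V k ⊔ Subgroup.centralizer (W.V k : Set G))).trans (relIndex_centralizer_dvd (W.V k))
  rw [h1, h2] at h3
  have hcop : Nat.Coprime m (2 ^ j) := (Nat.Coprime.pow_right j (Nat.coprime_two_right.mpr hm))
  have h4 : m ∣ d := hcop.dvd_of_dvd_mul_left ((Dvd.intro_left 2 rfl).trans h3)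
  have h5 : m ∣ 6 := h4.trans hd
  have hm6 : m ≤ 6 := Nat.le_of_dvd (by norm_num) h5
  rw [h1]
  obtain ⟨r, rfl⟩ := hm
  have : r = 0 ∨ r = 1 := by
    have hr : r ≤ 2 := by omega
    interval_cases r
    · left; rfl
    · right; rfl
    · exfalso; revert h5; decide
  rcases this with rfl | rfl
  · left; rfl
  · right; rfl

end WrSylow

end Cfsg.Agent.Lib.Helper86_WrG
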