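/-
Helper library (helper86): finite groups with a wreathed Sylow 2-subgroup, part 6:
the consequences of `|N(U) : C(U)| = 6` and of `|N(V) : V C(V)| = 6`.
-/
import Cfsg.Agent.Lib.Helper86_WrG5

set_option autoImplicit false

namespace Cfsg.Agent.Lib.Helper86_WrG

open Cfsg.Agent.Lib.Helper86_Wreathed Cfsg.Agent.Lib.Helper86_WrSub Cfsg.Agent.Lib.Helper86_WrAbs
open Cfsg.Agent.Lib.Helper86_AutCount Cfsg.Agent.Lib.Helper86_FusionControl
open Cfsg.Agent.Lib.Helper84_RelSylow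

section general

theorem exists_two_pow_odd_order {A : Type*} [Group A] [Finite A] (x : A) :
    ∃ e : ℕ, Odd (orderOf (x ^ (2 ^ e))) := by
  have hpos : 0 < orderOf x := orderOf_pos x
  obtain ⟨e, m, hm, hem⟩ := Nat.exists_eq_two_pow_mul_odd (Nat.pos_iff_ne_zero.mp hpos)
  refine ⟨e, ?_⟩
  rw [orderOf_pow' _ (by positivity), hem]
  have : Nat.gcd (2 ^ e * m) (2 ^ e) = 2 ^ e := Nat.gcd_eq_right (Dvd.intro _ rfl)
  rw [this, Nat.mul_div_cancel_left _ (by positivity)]
  exact hm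

theorem exists_involution_pow {A : Type*} [Group A] {y : A} (hy : y ≠ 1)
    (h2 : ∃ e : ℕ, y ^ (2 ^ e) = 1) : ∃ n : ℕ, y ^ n ≠ 1 ∧ y ^ n * y ^ n = 1 := by
  classical
  set e := Nat.find h2 with he
  have h1 : y ^ (2 ^ e) = 1 := Nat.find_spec h2
  have he0 : e ≠ 0 := by
    intro h0
    rw [h0, pow_zero, pow_one] at h1
    exact hy h1
  obtain ⟨e', he'⟩ := Nat.exists_eq_succ_of_ne_zero he0
  refine ⟨2 ^ e', Nat.find_min h2 (by omega), ?_⟩
  rw [← pow_add, ← two_mul, ← pow_succ']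
  rw [he'] at h1
  exact h1

variable {G : Type*} [Group G]

/-- counting conjugacy classes of elements with a property, given one representative -/
theorem card_classes_eq_one (P : G → Prop) (s₁ : G) (h₁ : P s₁)
    (hclass : ∀ t, P t → IsConj t s₁) :
    Nat.card {C : ConjClasses G // ∃ t : G, P t ∧ ConjClasses.mk t = C} = 1 := by
  rw [Nat.card_eq_one_iff_unique]
  refine ⟨⟨?_⟩, ⟨⟨ConjClasses.mk s₁, s₁, h₁, rfl⟩⟩⟩
  rintro ⟨C, t, ht, rfl⟩ ⟨C', t', ht', rfl⟩
  apply Subtype.ext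
  show ConjClasses.mk t = ConjClasses.mk t'
  rw [ConjClasses.mk_eq_mk_iff_isConj]
  exact (hclass t ht).trans (hclass t' ht').symm

/-- counting conjugacy classes of elements with a property, given two representatives -/
theorem card_classes_eq_two (P : G → Prop) (s₁ s₂ : G) (h₁ : P s₁) (h₂ : P s₂)
    (hclass : ∀ t, P t → IsConj t s₁ ∨ IsConj t s₂) (h12 : ¬ IsConj s₁ s₂) :
    Nat.card {C : ConjClasses G // ∃ t : G, P t ∧ ConjClasses.mk t = C} = 2 := by
  have hset : {C : ConjClasses G | ∃ t : G, P t ∧ ConjClasses.mk t = C} =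
      {ConjClasses.mk s₁, ConjClasses.mk s₂} := by
    ext C
    simp only [Set.mem_ofPred_eq, Set.mem_insert_iff, Set.mem_singleton_iff]
    constructor
    · rintro ⟨t, ht, rfl⟩
      rcases hclass t ht with h | h
      · left; exact ConjClasses.mk_eq_mk_iff_isConj.mpr h
      · right; exact ConjClasses.mk_eq_mk_iff_isConj.mpr h
    · rintro (rfl | rfl)
      · exact ⟨s₁, h₁, rfl⟩
      · exact ⟨s₂, h₂, rfl⟩
  show Nat.card ↥{C : ConjClasses G | ∃ t : G, P t ∧ ConjClasses.mk t = C} = 2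
  rw [Nat.card_coe_set_eq, hset, Set.ncard_eq_two]
  refine ⟨_, _, ?_, rfl⟩
  intro h; exact h12 (ConjClasses.mk_eq_mk_iff_isConj.mp h)

theorem exists_normalizer_elt_of_three_dvd [Finite G] (P : Subgroup G)
    (h : 3 ∣ (Subgroup.centralizer (P : Set G)).relIndex (Subgroup.normalizer (P : Set G))) :
    ∃ g : Subgroup.normalizer (P : Set G), Odd (orderOf g) ∧
      orderOf (P.normalizerMonoidHom g) = 3 := by
  have hp3 : Fact (Nat.Prime 3) := ⟨Nat.prime_three⟩
  have h1 : (Subgroup.centralizer (P : Set G)).relIndex (Subgroup.normalizer (P : Set G)) =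
      Nat.card P.normalizerMonoidHom.range := by
    rw [← Subgroup.index_ker, Subgroup.normalizerMonoidHom_ker]; rfl
  rw [h1] at h
  obtain ⟨β, hβ⟩ := exists_prime_orderOf_dvd_card' 3 h
  obtain ⟨g', hg'⟩ := β.2
  obtain ⟨e, he⟩ := exists_two_pow_odd_order g'
  refine ⟨g' ^ (2 ^ e), he, ?_⟩
  have hβ' : orderOf (β : MulAut P) = 3 := by rw [Subgroup.orderOf_coe]; exact hβ
  rw [map_pow, hg', orderOf_pow' _ (by positivity), hβ']
  have : Nat.gcd 3 (2 ^ e) = 1 := Nat.Coprime.pow_right e (by norm_num)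
  rw [this]

/-- in a subgroup of index two all commutators lie -/
theorem commutator_mem_of_index_two (H : Subgroup G) (h : H.index = 2) (x g : G) :
    x⁻¹ * (g * x * g⁻¹) ∈ H := by
  simp only [Subgroup.mul_mem_iff_of_index_two h, inv_mem_iff]
  tauto

end general

namespace WrSylow

variable {G : Type*} [Group G] {N M : ℕ} (W : WrSylow G N M)

theorem z1_ne_u1 : W.z1 ≠ W.u1 := by
  intro h
  have h2M := twoM_ne_zero W.hN W.hM
  have := W.inj h
  injection this with h1 h2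
  exact h2M h2

theorem z1_ne_u2 : W.z1 ≠ W.u2 := by
  intro h
  have h2M := twoM_ne_zero W.hN W.hM
  have := W.inj h
  injection this with h1 h2
  exact h2M h1

theorem u1_ne_u2 : W.u1 ≠ W.u2 := by
  intro h
  have h2M := twoM_ne_zero W.hN W.hM
  have := W.inj h
  injection this with h1 h2
  exact h2M h1

theorem isConj_t0_of_not_mem_U {d : G} (hdS : d ∈ (W.S : Subgroup G)) (hdU : d ∉ W.U)
    (hd : orderOf d = 2) : IsConj d W.t0 := by
  obtain ⟨x, rfl⟩ := W.exists_of_mem hdS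
  rw [W.orderOf_ι] at hd
  have hM2 : 0 < 2 * M := by have := W.hM; omega
  rcases x with ⟨i, j⟩ | ⟨i, j⟩
  · exact absurd (W.ι_a_mem_U i j) hdU
  · rcases Wr.involution_classify W.hN2 hM2 _ hd with h | h | h
    · exact absurd h.symm (Wr.not_isConj_a_b _ _ _ _)
    · exact absurd h.symm (Wr.not_isConj_a_b _ _ _ _)
    · exact W.isConj_ι h

theorem mem_U_inf_V {k : ZMod N} {x : G} (hxU : x ∈ W.U) (hxV : x ∈ W.V k) :
    x ∈ W.Z ∨ ∃ z ∈ W.Z, x = W.u1 * z := by
  obtain ⟨i, j, rfl⟩ := W.exists_of_mem_U hxU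
  rw [W.mem_V_iff, Wr.a_mem_vSub_iff] at hxV
  rcases two_tor W.hN W.hM _ hxV with h | h
  · left
    have : i = j := sub_eq_zero.mp h
    subst this
    exact (W.mem_Z_iff _).mpr ((Wr.mem_center_iff W.one_lt _).mpr ⟨_, rfl⟩)
  · right
    refine ⟨W.ι (Wr.a j j), (W.mem_Z_iff _).mpr ((Wr.mem_center_iff W.one_lt _).mpr ⟨_, rfl⟩), ?_⟩
    rw [u1, ← map_mul, Wr.a_mul_a]
    congr 2
    · linear_combination h
    · ring

theorem conj_mem_Z_of_mem_normalizer_V (k : ZMod N) {g : G}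
    (hg : g ∈ Subgroup.normalizer (W.V k : Set G)) {z : G} (hz : z ∈ W.Z) :
    g * z * g⁻¹ ∈ W.Z := by
  have h1 : (⟨z, W.Z_le_V k hz⟩ : W.V k) ∈ Subgroup.center (W.V k) :=
    (W.mem_center_V_iff k _).mpr hz
  exact (W.mem_center_V_iff k _).mp (aut_mem_center ((W.V k).normalizerMonoidHom ⟨g, hg⟩) h1)

variable [Finite G]

/-- consequence of `|N(V) : V C(V)| = 6` -/
theorem exists_of_relIndex_V_six (k : ZMod N)
    (h₂ : (W.V k ⊔ Subgroup.centralizer (W.V k : Set G)).relIndex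
      (Subgroup.normalizer (W.V k : Set G)) = 6) :
    ∃ g ∈ Subgroup.normalizer (W.V k : Set G), g * W.u1 * g⁻¹ ∉ W.U := by
  by_contra hcon
  push Not at hcon
  have h3 : 3 ∣ (Subgroup.centralizer (W.V k : Set G)).relIndex
      (Subgroup.normalizer (W.V k : Set G)) := by
    have h4 := Subgroup.relIndex_dvd_of_le_left (Subgroup.normalizer (W.V k : Set G))
      (le_sup_right : Subgroup.centralizer (W.V k : Set G) ≤
        W.V k ⊔ Subgroup.centralizer (W.V k : Set G))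
    rw [h₂] at h4
    exact (by norm_num : 3 ∣ 6).trans h4
  obtain ⟨g, -, hg3⟩ := exists_normalizer_elt_of_three_dvd (W.V k) h3
  have hαodd : Odd (orderOf ((W.V k).normalizerMonoidHom g)) := by rw [hg3]; decide
  have h1 : (W.V k).normalizerMonoidHom g = 1 := by
    apply W.aut_V_eq_one k _ hαodd
    intro x hx
    show (g : G) * x * (g : G)⁻¹ ∈ W.U
    rcases W.mem_U_inf_V hx x.2 with h | ⟨z, hz, h⟩
    · exact W.Z_le_U (W.conj_mem_Z_of_mem_normalizer_V k g.2 h)
    · rw [h]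
      have : (g : G) * (W.u1 * z) * (g : G)⁻¹ =
          ((g : G) * W.u1 * (g : G)⁻¹) * ((g : G) * z * (g : G)⁻¹) := by group
      rw [this]
      exact Subgroup.mul_mem _ (hcon g g.2) (W.Z_le_U (W.conj_mem_Z_of_mem_normalizer_V k g.2 hz))
  rw [h1, orderOf_one] at hg3
  omega

/-- consequences of `|N(U) : C(U)| = 6` -/
theorem exists_of_relIndex_U_six
    (h₁ : (Subgroup.centralizer (W.U : Set G)).relIndex (Subgroup.normalizer (W.U : Set G)) = 6) :
    ∃ g ∈ Subgroup.normalizer (W.U : Set G), Odd (orderOf g) ∧ IsConj W.z1 W.u1 ∧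
      IsConj W.z1 W.u2 ∧ ∀ x ∈ W.U, ∃ y ∈ W.U, x = y⁻¹ * (g * y * g⁻¹) := by
  obtain ⟨g, hgodd, hg3⟩ := exists_normalizer_elt_of_three_dvd W.U (by rw [h₁]; norm_num)
  set α := W.U.normalizerMonoidHom g with hα
  have hαodd : Odd (orderOf α) := by rw [hg3]; decide
  have hαne : α ≠ 1 := by
    intro h; rw [h, orderOf_one] at hg3; omega
  have hαapply : ∀ x : W.U, ((α x : W.U) : G) = (g : G) * x * (g : G)⁻¹ := fun x => rfl
  have hgU : ∀ x ∈ W.U, (g : G) * x * (g : G)⁻¹ ∈ W.U := fun x hx => (α ⟨x, hx⟩).2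
  -- no fixed involution
  have hnofix : ∀ w ∈ W.U, (w = W.z1 ∨ w = W.u1 ∨ w = W.u2) → (g : G) * w * (g : G)⁻¹ ≠ w := by
    intro w hwU hw hfix
    exact hαne (W.aut_U_eq_one α hαodd ⟨w, hwU⟩ hw (Subtype.ext hfix))
  -- images of involutions
  have himg : ∀ w ∈ W.U, w * w = 1 → w ≠ 1 → ((g : G) * w * (g : G)⁻¹ = W.z1 ∨
      (g : G) * w * (g : G)⁻¹ = W.u1 ∨ (g : G) * w * (g : G)⁻¹ = W.u2) := by
    intro w hwU hww hw1
    have h1 : ((g : G) * w * (g : G)⁻¹) * ((g : G) * w * (g : G)⁻¹) = 1 := by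
      have : ((g : G) * w * (g : G)⁻¹) * ((g : G) * w * (g : G)⁻¹) =
          (g : G) * (w * w) * (g : G)⁻¹ := by group
      rw [this, hww]; group
    rcases W.U_involutions (hgU w hwU) h1 with h | h | h | h
    · exfalso
      apply hw1
      have : w = (g : G)⁻¹ * ((g : G) * w * (g : G)⁻¹) * (g : G) := by group
      rw [this, h]; group
    · left; exact h
    · right; left; exact h
    · right; right; exact h
  have hcinj : ∀ x y : G, (g : G) * x * (g : G)⁻¹ = (g : G) * y * (g : G)⁻¹ → x = y := by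
    intro x y h
    exact mul_left_cancel (mul_right_cancel h)
  have hz := himg _ W.z1_mem_U (mul_self_of_orderOf W.orderOf_z1) (ne_one_of_orderOf W.orderOf_z1)
  have hu1 := himg _ W.u1_mem_U (mul_self_of_orderOf W.orderOf_u1) (ne_one_of_orderOf W.orderOf_u1)
  have hu2 := himg _ W.u2_mem_U (mul_self_of_orderOf W.orderOf_u2) (ne_one_of_orderOf W.orderOf_u2)
  have hzn := hnofix _ W.z1_mem_U (Or.inl rfl)
  have hu1n := hnofix _ W.u1_mem_U (Or.inr (Or.inl rfl))
  have hu2n := hnofix _ W.u2_mem_U (Or.inr (Or.inr rfl))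
  have hconj : IsConj W.z1 W.u1 ∧ IsConj W.z1 W.u2 := by
    rcases hz with h | h | h
    · exact absurd h hzn
    · -- z1 ↦ u1
      have h' : (g : G) * W.u1 * (g : G)⁻¹ = W.u2 := by
        rcases hu1 with h1 | h1 | h1
        · exfalso
          rcases hu2 with h2 | h2 | h2
          · exact W.u1_ne_u2 (hcinj _ _ (h1.trans h2.symm))
          · exact W.z1_ne_u2 (hcinj _ _ (h.trans h2.symm))
          · exact hu2n h2
        · exact absurd h1 hu1n
        · exact h1
      have c1 : IsConj W.z1 W.u1 := isConj_iff.mpr ⟨g, h⟩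
      have c2 : IsConj W.u1 W.u2 := isConj_iff.mpr ⟨g, h'⟩
      exact ⟨c1, c1.trans c2⟩
    · -- z1 ↦ u2
      have h' : (g : G) * W.u2 * (g : G)⁻¹ = W.u1 := by
        rcases hu2 with h2 | h2 | h2
        · exfalso
          rcases hu1 with h1 | h1 | h1
          · exact W.u1_ne_u2 (hcinj _ _ (h1.trans h2.symm))
          · exact absurd h1 hu1n
          · exact W.z1_ne_u1 (hcinj _ _ (h.trans h1.symm))
        · exact h2
        · exact absurd h2 hu2n
      have c1 : IsConj W.z1 W.u2 := isConj_iff.mpr ⟨g, h⟩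
      have c2 : IsConj W.u2 W.u1 := isConj_iff.mpr ⟨g, h'⟩
      exact ⟨c1.trans c2, c1⟩
  -- fixed points
  have hfix1 : ∀ y : W.U, α y = y → y = 1 := by
    intro y hy
    by_contra hy1
    have h2 : ∃ e : ℕ, y ^ (2 ^ e) = 1 := by
      obtain ⟨e, he⟩ := W.exists_two_pow (W.U_le y.2)
      exact ⟨e, Subtype.ext (by simpa using he)⟩
    obtain ⟨n, hn1, hn2⟩ := exists_involution_pow hy1 h2
    have hn3 : α (y ^ n) = y ^ n := by rw [map_pow, hy]
    have hn2' : ((y ^ n : W.U) : G) * ((y ^ n : W.U) : G) = 1 := congrArg Subtype.val hn2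
    have hn3' : (g : G) * ((y ^ n : W.U) : G) * (g : G)⁻¹ = ((y ^ n : W.U) : G) :=
      congrArg Subtype.val hn3
    rcases W.U_involutions (y ^ n).2 hn2' with h | h | h | h
    · exact hn1 (Subtype.ext h)
    · exact hnofix _ (y ^ n).2 (Or.inl h) hn3'
    · exact hnofix _ (y ^ n).2 (Or.inr (Or.inl h)) hn3'
    · exact hnofix _ (y ^ n).2 (Or.inr (Or.inr h)) hn3'
  have hinj : Function.Injective (fun y : W.U => y⁻¹ * α y) := by
    intro y y' h
    have h0 : y⁻¹ * α y = y'⁻¹ * α y' := h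
    have h1 : α y = y * (y'⁻¹ * α y') := by rw [← h0, mul_inv_cancel_left]
    have h2 : α (y * y'⁻¹) = y * y'⁻¹ := by
      rw [map_mul, map_inv, h1]; group
    have h3 := hfix1 _ h2
    exact mul_inv_eq_one.mp h3
  have hsurj := Finite.injective_iff_surjective.mp hinj
  refine ⟨g, g.2, ?_, hconj.1, hconj.2, ?_⟩
  · rw [Subgroup.orderOf_coe]; exact hgodd
  · intro x hx
    obtain ⟨y, hy⟩ := hsurj ⟨x, hx⟩
    refine ⟨y, y.2, ?_⟩
    have := congrArg Subtype.val hy
    exact this.symm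

end WrSylow

end Cfsg.Agent.Lib.Helper86_WrG
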