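/-
Helper library (helper86): finite groups with a wreathed Sylow 2-subgroup, part 7:
when `N(V)` induces only inner automorphisms, `U` is strongly closed in `S`, and the transfer gives a
normal subgroup of index two.
-/
import Cfsg.Agent.Lib.Helper86_WrG6
import Cfsg.Agent.Lib.Helper55_TransferGen

set_option autoImplicit false

namespace Cfsg.Agent.Lib.Helper86_WrG

open Cfsg.Agent.Lib.Helper86_Wreathed Cfsg.Agent.Lib.Helper86_WrSub Cfsg.Agent.Lib.Helper86_WrAbs
open Cfsg.Agent.Lib.Helper86_AutCount Cfsg.Agent.Lib.Helper86_FusionControl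
open Cfsg.Agent.Lib.Helper84_RelSylow

section general

variable {G : Type*} [Group G]

theorem mem_of_odd_order_of_index_two (K : Subgroup G) (hK : K.index = 2) (g : G)
    (hg : Odd (orderOf g)) : g ∈ K := by
  obtain ⟨r, hr⟩ := hg
  have h1 : g ^ (2 * r + 1) = 1 := by rw [← hr]; exact pow_orderOf_eq_one g
  have h2 : (g ^ 2) ^ (r + 1) ∈ K := K.pow_mem (Subgroup.sq_mem_of_index_two hK g) _
  have h3 : (g ^ 2) ^ (r + 1) = g := by
    rw [← pow_mul, show 2 * (r + 1) = (2 * r + 1) + 1 by ring, pow_succ, h1, one_mul]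
  rwa [h3] at h2

end general

namespace WrSylow

variable {G : Type*} [Group G] {N M : ℕ} (W : WrSylow G N M)

theorem mem_U_conj_iff {s x : G} (hs : s ∈ (W.S : Subgroup G)) : x ∈ W.U ↔ s * x * s⁻¹ ∈ W.U :=
  (Subgroup.mem_normalizer_iff.mp (W.S_le_normalizer_U hs)) x

theorem t0_mem_S : W.t0 ∈ (W.S : Subgroup G) := W.ι_mem _

theorem t0_not_mem_U : W.t0 ∉ W.U := W.ι_b_not_mem_U _ _

variable [Finite G]

/-- if the `N(V k)` induce on `V k` only conjugations by elements of `S`, then `U` is strongly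
closed in `S` -/
theorem fusion_U
    (hV : ∀ k, ∀ g ∈ Subgroup.normalizer (W.V k : Set G), ∃ s ∈ (W.S : Subgroup G),
      ∀ x ∈ W.V k, g * x * g⁻¹ = s * x * s⁻¹) :
    ∀ x ∈ (W.S : Subgroup G), ∀ g : G, g * x * g⁻¹ ∈ (W.S : Subgroup G) →
      (x ∈ W.U ↔ g * x * g⁻¹ ∈ W.U) := by
  apply W.control (fun x y => (x ∈ W.U ↔ y ∈ W.U))
  · intro x y h; exact h.symm
  · intro x y z h1 h2; exact h1.trans h2
  · intro s hs x _; exact W.mem_U_conj_iff hs
  · intro g hg x _; exact (Subgroup.mem_normalizer_iff.mp hg) x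
  · intro k g hg x hx
    obtain ⟨s, hs, hsx⟩ := hV k g hg
    rw [hsx x hx]
    exact W.mem_U_conj_iff hs

/-- Thompson transfer: a normal subgroup of index two avoiding `t0` -/
theorem exists_normal_index_two
    (hV : ∀ k, ∀ g ∈ Subgroup.normalizer (W.V k : Set G), ∃ s ∈ (W.S : Subgroup G),
      ∀ x ∈ W.V k, g * x * g⁻¹ = s * x * s⁻¹) :
    ∃ K : Subgroup G, K.Normal ∧ K.index = 2 ∧ W.t0 ∉ K := by
  apply Cfsg.Agent.Lib.Helper55_TransferGen.exists_normal_index_two W.S W.U W.relIndex_U_S W.t0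
  intro x n hx
  rcases Nat.even_or_odd n with hn | hn
  · obtain ⟨r, rfl⟩ := hn
    have h1 : W.t0 ^ (r + r) = 1 := by
      rw [← two_mul, pow_mul, ← W.orderOf_t0, pow_orderOf_eq_one, one_pow]
    rw [h1]
    simp only [mul_one, inv_mul_cancel]
    exact ⟨fun _ => ⟨r, rfl⟩, fun _ => Subgroup.one_mem _⟩
  · have h1 : W.t0 ^ n = W.t0 := by
      obtain ⟨r, rfl⟩ := hn
      rw [pow_succ, pow_mul, ← W.orderOf_t0, pow_orderOf_eq_one, one_pow, one_mul]
    rw [h1] at hx ⊢
    have h2 := W.fusion_U hV W.t0 W.t0_mem_S x⁻¹ (by rwa [inv_inv])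
    rw [inv_inv] at h2
    constructor
    · intro h; exact absurd (h2.mpr h) W.t0_not_mem_U
    · intro h; exact absurd h (Nat.not_even_iff_odd.mpr hn)

end WrSylow

end Cfsg.Agent.Lib.Helper86_WrG
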