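/-
Helper library (helper86): finite groups with a wreathed Sylow 2-subgroup, part 8:
`N(V k)` centralizes `Z(S)`; weak closure of the subgroups of `Z(S)` when `N(U)` induces only
inner automorphisms.
-/
import Cfsg.Agent.Lib.Helper86_WrG7

set_option autoImplicit false

namespace Cfsg.Agent.Lib.Helper86_WrG

open Cfsg.Agent.Lib.Helper86_Wreathed Cfsg.Agent.Lib.Helper86_WrSub Cfsg.Agent.Lib.Helper86_WrAbs
open Cfsg.Agent.Lib.Helper86_AutCount Cfsg.Agent.Lib.Helper86_FusionControl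
open Cfsg.Agent.Lib.Helper84_RelSylow

namespace WrSylow

variable {G : Type*} [Group G] {N M : ℕ} (W : WrSylow G N M)

/-- an automorphism of `V k` fixes `z1` -/
theorem aut_V_fix_z1 (k : ZMod N) (α : MulAut (W.V k)) :
    α ⟨W.z1, W.z1_mem_V k⟩ = ⟨W.z1, W.z1_mem_V k⟩ := by
  have h1 : (⟨W.z1, W.z1_mem_V k⟩ : W.V k) ∈ Subgroup.center (W.V k) :=
    (W.mem_center_V_iff k _).mpr W.z1_mem_Z
  have h2 := (W.mem_center_V_iff k _).mp (aut_mem_center α h1)
  apply Subtype.ext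
  apply W.Z_involution h2
  · have : (⟨W.z1, W.z1_mem_V k⟩ : W.V k) * ⟨W.z1, W.z1_mem_V k⟩ = 1 :=
      Subtype.ext (mul_self_of_orderOf W.orderOf_z1)
    have h3 := congrArg α this
    rw [map_mul, map_one] at h3
    exact congrArg Subtype.val h3
  · intro h
    have h3 : α ⟨W.z1, W.z1_mem_V k⟩ = 1 := Subtype.ext h
    rw [MulEquiv.map_eq_one_iff] at h3
    exact ne_one_of_orderOf W.orderOf_z1 (congrArg Subtype.val h3)

/-- an automorphism of odd order of `V k` fixes `Z` pointwise -/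
theorem aut_V_fix_Z (k : ZMod N) (α : MulAut (W.V k)) (hodd : Odd (orderOf α)) :
    ∀ x : W.V k, (x : G) ∈ W.Z → α x = x := by
  have hαk := pow_orderOf_eq_one α
  have key := aut_fix_abelian α (orderOf α) hodd hαk (Subgroup.center (W.V k))
    (fun x hx y _ => (Subgroup.mem_center_iff.mp hx y).symm)
    (fun x _ => by
      obtain ⟨e, he⟩ := W.exists_two_pow (W.V_le k x.2)
      exact ⟨e, Subtype.ext (by simpa using he)⟩)
    (fun x hx => aut_mem_center α hx)
    (fun x hx hxx => by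
      have hxZ := (W.mem_center_V_iff k x).mp hx
      have hxx' : (x : G) * x = 1 := congrArg Subtype.val hxx
      by_cases hx1 : (x : G) = 1
      · have : x = 1 := Subtype.ext hx1
        rw [this, map_one]
      · have h2 := W.Z_involution hxZ hxx' hx1
        have : x = ⟨W.z1, W.z1_mem_V k⟩ := Subtype.ext h2
        rw [this]
        exact W.aut_V_fix_z1 k α)
  intro x hx
  exact key x ((W.mem_center_V_iff k x).mpr hx)

variable [Finite G]

/-- `N(V k)` centralizes `Z(S)` -/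
theorem normalizer_V_le_centralizer_Z (k : ZMod N) :
    Subgroup.normalizer (W.V k : Set G) ≤ Subgroup.centralizer (W.Z : Set G) := by
  have hp2 : Fact (Nat.Prime 2) := ⟨Nat.prime_two⟩
  intro g hg
  apply Cfsg.Agent.Lib.Helper86_Coprime2.mem_of_prime_pow_mem _ (orderOf g) g rfl (orderOf_pos g)
  rintro b hb ⟨q, e, hq, hord⟩
  have hbN : b ∈ Subgroup.normalizer (W.V k : Set G) := by
    obtain ⟨n, rfl⟩ := hb
    exact Subgroup.zpow_mem _ hg n
  by_cases hq2 : q = 2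
  · subst hq2
    have hpz : IsPGroup 2 (Subgroup.zpowers b) := by
      apply Cfsg.Agent.Lib.Helper84_FusionEssential.isPGroup_zpowers_of_pow_eq_one (k := e)
      rw [← hord]; exact pow_orderOf_eq_one b
    have : Finite (Subgroup.normalizer (W.V k : Set G)) := inferInstance
    obtain ⟨c, hcN, hc⟩ := (W.isSylowIn_T k).exists_conj_le (K := Subgroup.zpowers b)
      (by rw [Subgroup.zpowers_le]; exact hbN) hpz
    have h1 : c * b * c⁻¹ ∈ W.T k := hc b (Subgroup.mem_zpowers b)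
    have h1S := W.T_le k h1
    rw [Subgroup.mem_centralizer_iff]
    intro z hz
    have hz' : c * z * c⁻¹ ∈ W.Z := W.conj_mem_Z_of_mem_normalizer_V k hcN hz
    have h2 := W.Z_central h1S hz'
    have h3 : c * (b * z) * c⁻¹ = c * (z * b) * c⁻¹ := by
      calc c * (b * z) * c⁻¹ = (c * b * c⁻¹) * (c * z * c⁻¹) := by group
        _ = (c * z * c⁻¹) * (c * b * c⁻¹) := h2
        _ = _ := by group
    exact (mul_left_cancel (mul_right_cancel h3)).symm
  · have hαpow : ((W.V k).normalizerMonoidHom ⟨b, hbN⟩) ^ (q ^ e) = 1 := by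
      rw [← map_pow]
      have : (⟨b, hbN⟩ : Subgroup.normalizer (W.V k : Set G)) ^ (q ^ e) = 1 := by
        apply Subtype.ext
        show b ^ (q ^ e) = 1
        rw [← hord]; exact pow_orderOf_eq_one b
      rw [this, map_one]
    have hodd : Odd (orderOf ((W.V k).normalizerMonoidHom ⟨b, hbN⟩)) :=
      Odd.of_dvd_nat ((hq.odd_of_ne_two hq2).pow) (orderOf_dvd_of_pow_eq_one hαpow)
    rw [Subgroup.mem_centralizer_iff]
    intro z hz
    have h4 := W.aut_V_fix_Z k _ hodd ⟨z, W.Z_le_V k hz⟩ hz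
    have h5 : b * z * b⁻¹ = z := congrArg Subtype.val h4
    calc z * b = (b * z * b⁻¹) * b := by rw [h5]
      _ = b * z := by group

theorem conj_Z_of_mem_normalizer_V (k : ZMod N) {g : G}
    (hg : g ∈ Subgroup.normalizer (W.V k : Set G)) {z : G} (hz : z ∈ W.Z) : g * z * g⁻¹ = z := by
  have h1 := W.normalizer_V_le_centralizer_Z k hg
  rw [Subgroup.mem_centralizer_iff] at h1
  rw [← h1 z hz]; group

omit [Finite G] in
theorem conj_eq_of_mem_Z_or {c x : G} (hc : ∀ z ∈ W.Z, c * z * c⁻¹ = z)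
    (h : x ∈ W.Z ∨ c * x * c⁻¹ ∈ W.Z) : x = c * x * c⁻¹ := by
  rcases h with h | h
  · exact (hc x h).symm
  · have h1 := hc _ h
    have h2 : c * x * c⁻¹ = x := by
      have : c * (c * x * c⁻¹) * c⁻¹ = c * x * c⁻¹ := h1
      exact mul_left_cancel (mul_right_cancel this)
    exact h2.symm

/-- if `N(U)` induces on `U` only conjugations by elements of `S`, the elements of `Z(S)` are fused
to nothing else in `S` -/
theorem fusion_Z
    (hU : ∀ g ∈ Subgroup.normalizer (W.U : Set G), ∃ s ∈ (W.S : Subgroup G),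
      ∀ x ∈ W.U, g * x * g⁻¹ = s * x * s⁻¹) :
    ∀ x ∈ (W.S : Subgroup G), ∀ g : G, g * x * g⁻¹ ∈ (W.S : Subgroup G) →
      (x ∈ W.Z ∨ g * x * g⁻¹ ∈ W.Z) → x = g * x * g⁻¹ := by
  have hSZ : ∀ s ∈ (W.S : Subgroup G), ∀ z ∈ W.Z, s * z * s⁻¹ = z := by
    intro s hs z hz
    rw [W.Z_central hs hz]; group
  apply W.control (fun x y => (x ∈ W.Z ∨ y ∈ W.Z) → x = y)
  · intro x y h h'; exact (h h'.symm).symm
  · intro x y z h1 h2 h3
    rcases h3 with h3 | h3
    · have e1 := h1 (Or.inl h3)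
      have e2 := h2 (Or.inl (e1 ▸ h3))
      exact e1.trans e2
    · have e2 := h2 (Or.inr h3)
      have e1 := h1 (Or.inr (e2 ▸ h3))
      exact e1.trans e2
  · intro s hs x _ h
    exact W.conj_eq_of_mem_Z_or (hSZ s hs) h
  · intro g hg x hx h
    obtain ⟨s, hs, hsx⟩ := hU g hg
    rw [hsx x hx] at h ⊢
    exact W.conj_eq_of_mem_Z_or (hSZ s hs) h
  · intro k g hg x _ h
    exact W.conj_eq_of_mem_Z_or (fun z hz => W.conj_Z_of_mem_normalizer_V k hg hz) h

omit [Finite G] in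
theorem isWeaklyClosed_of_fusion_Z
    (hfus : ∀ x ∈ (W.S : Subgroup G), ∀ g : G, g * x * g⁻¹ ∈ (W.S : Subgroup G) →
      (x ∈ W.Z ∨ g * x * g⁻¹ ∈ W.Z) → x = g * x * g⁻¹)
    (Z₀ : Subgroup G) (hZ₀ : Z₀ ≤ W.Z) : Cfsg.IsWeaklyClosed Z₀ (W.S : Subgroup G) := by
  refine ⟨hZ₀.trans W.Z_le, fun g hg => ?_⟩
  ext y
  constructor
  · rintro ⟨x, hx, rfl⟩
    have h1 : g * x * g⁻¹ ∈ (W.S : Subgroup G) := hg ⟨x, hx, rfl⟩
    have h2 := hfus x (W.Z_le (hZ₀ hx)) g h1 (Or.inl (hZ₀ hx))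
    show g * x * g⁻¹ ∈ Z₀
    rw [← h2]; exact hx
  · intro hy
    refine ⟨y, hy, ?_⟩
    have h1 : g * y * g⁻¹ ∈ (W.S : Subgroup G) := hg ⟨y, hy, rfl⟩
    exact (hfus y (W.Z_le (hZ₀ hy)) g h1 (Or.inl (hZ₀ hy))).symm

end WrSylow

end Cfsg.Agent.Lib.Helper86_WrG
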