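/-
Helper library (helper86): the homomorphism `lamHom` on the model `Wr (2 M')`, `2 M' = 4 M`,
restricted to the subgroups `vSub`.
-/
import Cfsg.Agent.Lib.Helper86_WrSub3

set_option autoImplicit false

namespace Cfsg.Agent.Lib.Helper86_WrSub

open Cfsg.Agent.Lib.Helper86_Wreathed

namespace Wr

open Cfsg.Agent.Lib.Helper86_Wreathed.Wr

variable {N M M' : ℕ}

theorem lamHom_a (i j : ZMod (2 * M')) : lamHom M' (a i j) = Multiplicative.ofAdd (i + j) := rfl

theorem lamHom_b (i j : ZMod (2 * M')) :
    lamHom M' (b i j) = Multiplicative.ofAdd (i + j + (M' : ZMod (2 * M'))) := rfl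

theorem cast_half (hN : 2 * M' = 4 * M) :
    ((M' : ℕ) : ZMod (2 * M')) = 2 * (M : ZMod (2 * M')) := by
  have : M' = 2 * M := by omega
  subst this
  push_cast; ring

/-- a non-central element whose square is the central involution lies in the quaternion subgroup -/
theorem mem_quatSub_of_sq (hN : 2 * M' = 4 * M) (hM : 0 < M) (y : Wr (2 * M'))
    (hy : y * y = a (2 * (M : ZMod (2 * M'))) (2 * (M : ZMod (2 * M'))))
    (hyc : y ∉ Subgroup.center (Wr (2 * M'))) : y ∈ quatSub M' := by
  have hN1 : 1 < 2 * M' := by omega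
  rcases y with ⟨i, j⟩ | ⟨i, j⟩
  · rw [a_mul_a] at hy
    injection hy with h1 h2
    rw [a_mem_quatSub_iff]
    have hi := two_tor hN hM (i - M) (by linear_combination h1)
    have hj := two_tor hN hM (j - M) (by linear_combination h2)
    have hij : i ≠ j := by
      rintro rfl
      exact hyc ((mem_center_iff hN1 _).mpr ⟨_, rfl⟩)
    rcases hi with hi | hi <;> rcases hj with hj | hj
    · exfalso; apply hij; linear_combination hi - hj
    · linear_combination hi + hj + four_M hN
    · linear_combination hi + hj + four_M hN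
    · exfalso; apply hij; linear_combination hi - hj
  · rw [b_mul_b] at hy
    injection hy with h1 h2
    rw [b_mem_quatSub_iff, cast_half hN]
    exact h1

/-- the decomposition of the elements of `V_k`, second form -/
theorem vSub_decomp' (hN : N = 4 * M) (hM : 0 < M) (k : ZMod N) (x : Wr N) (hx : x ∈ vSub N k) :
    x ∈ Subgroup.center (Wr N) ∨ ∃ q ζ, x = q * ζ ∧ ζ ∈ Subgroup.center (Wr N) ∧
      q * q = a (2 * (M : ZMod N)) (2 * (M : ZMod N)) ∧ q ∉ Subgroup.center (Wr N) ∧
      q ∈ vSub N k := by
  have hN1 : 1 < N := by omega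
  have h2M := twoM_ne_zero hN hM
  rcases x with ⟨i, j⟩ | ⟨i, j⟩
  · rw [a_mem_vSub_iff] at hx
    rcases two_tor hN hM _ hx with h | h
    · left
      have : i = j := sub_eq_zero.mp h
      subst this
      exact (mem_center_iff hN1 _).mpr ⟨_, rfl⟩
    · right
      refine ⟨a (M : ZMod N) (-(M : ZMod N)), a (i - M) (j + M), ?_, ?_, ?_, ?_, ?_⟩
      · rw [a_mul_a]; congr 1 <;> ring
      · refine (mem_center_iff hN1 _).mpr ⟨i - M, ?_⟩
        congr 1
        linear_combination (-1 : ZMod N) * h
      · rw [a_mul_a]; congr 1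
        · ring
        · linear_combination (-1 : ZMod N) * four_M hN
      · intro hc
        obtain ⟨l, hl⟩ := (mem_center_iff hN1 _).mp hc
        injection hl with h4 h5
        apply h2M
        linear_combination h4 - h5
      · rw [a_mem_vSub_iff]
        linear_combination four_M hN
  · right
    rw [b_mem_vSub_iff] at hx
    have h1 : 2 * (i - j - 2 * k) = 0 := by linear_combination hx
    have hq : ∀ c : ZMod N, 2 * c = i + j - 2 * (M : ZMod N) →
        ∃ q ζ, b i j = q * ζ ∧ ζ ∈ Subgroup.center (Wr N) ∧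
        q * q = a (2 * (M : ZMod N)) (2 * (M : ZMod N)) ∧ q ∉ Subgroup.center (Wr N) ∧
        q ∈ vSub N k := by
      intro c hc
      refine ⟨b (i - c) (j - c), a c c, ?_, (mem_center_iff hN1 _).mpr ⟨_, rfl⟩, ?_, ?_, ?_⟩
      · rw [b_mul_a]; congr 1 <;> ring
      · rw [b_mul_b]; congr 1 <;> linear_combination (-1 : ZMod N) * hc
      · intro hcen
        obtain ⟨l, hl⟩ := (mem_center_iff hN1 _).mp hcen
        cases hl
      · rw [b_mem_vSub_iff]
        linear_combination hx
    rcases two_tor hN hM _ h1 with h | h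
    · exact hq (k + j - M) (by linear_combination (-1 : ZMod N) * h)
    · exact hq (k + j) (by linear_combination (-1 : ZMod N) * h)

end Wr

end Cfsg.Agent.Lib.Helper86_WrSub
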