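/-
Helper library (helper86): finite groups with a wreathed Sylow 2-subgroup, part 9:
when `N(U)` induces only inner automorphisms, the homomorphism `lamHom` of `S` onto a cyclic group
is invariant under fusion; the transfer and its kernel.
-/
import Cfsg.Agent.Lib.Helper86_WrG8
import Cfsg.Agent.Lib.Helper86_WrSub4

set_option autoImplicit false

namespace Cfsg.Agent.Lib.Helper86_WrG

open Cfsg.Agent.Lib.Helper86_Wreathed Cfsg.Agent.Lib.Helper86_WrSub Cfsg.Agent.Lib.Helper86_WrAbs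
open Cfsg.Agent.Lib.Helper86_AutCount Cfsg.Agent.Lib.Helper86_FusionControl
open Cfsg.Agent.Lib.Helper84_RelSylow

namespace WrSylow

variable {G : Type*} [Group G] {M M' : ℕ} (W : WrSylow G (2 * M') M)

/-- the relation "same value of `lamHom`" -/
def lamRel (x y : G) : Prop :=
  ∃ x' y', W.ι x' = x ∧ W.ι y' = y ∧ Wr.lamHom M' x' = Wr.lamHom M' y'

theorem lamRel_conj_S {s x : G} (hs : s ∈ (W.S : Subgroup G)) (hx : x ∈ (W.S : Subgroup G)) :
    W.lamRel x (s * x * s⁻¹) := by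
  obtain ⟨s', rfl⟩ := W.exists_of_mem hs
  obtain ⟨x', rfl⟩ := W.exists_of_mem hx
  refine ⟨x', s' * x' * s'⁻¹, rfl, (W.ι_conj s' x').symm, ?_⟩
  rw [map_mul, map_mul, map_inv]
  exact (mul_inv_cancel_comm _ _).symm

theorem z1_eq : W.z1 = W.ι (Wr.a (2 * (M : ZMod (2 * M'))) (2 * (M : ZMod (2 * M')))) := rfl

variable [Finite G]

/-- if `N(U)` induces on `U` only conjugations by elements of `S`, then `lamHom` is invariant under
fusion in `S` -/
theorem fusion_lam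
    (hU : ∀ g ∈ Subgroup.normalizer (W.U : Set G), ∃ s ∈ (W.S : Subgroup G),
      ∀ x ∈ W.U, g * x * g⁻¹ = s * x * s⁻¹) :
    ∀ x ∈ (W.S : Subgroup G), ∀ g : G, g * x * g⁻¹ ∈ (W.S : Subgroup G) →
      W.lamRel x (g * x * g⁻¹) := by
  apply W.control W.lamRel
  · rintro x y ⟨x', y', hx, hy, h⟩
    exact ⟨y', x', hy, hx, h.symm⟩
  · rintro x y z ⟨x', y', hx, hy, h⟩ ⟨y'', z', hy', hz, h'⟩
    have : y' = y'' := W.inj (hy.trans hy'.symm)
    subst this
    exact ⟨x', z', hx, hz, h.trans h'⟩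
  · intro s hs x hx
    exact W.lamRel_conj_S hs hx
  · intro g hg x hx
    obtain ⟨s, hs, hsx⟩ := hU g hg
    rw [hsx x hx]
    exact W.lamRel_conj_S hs (W.U_le hx)
  · intro k g hg x hx
    have hginv : g⁻¹ ∈ Subgroup.normalizer (W.V k : Set G) := Subgroup.inv_mem _ hg
    obtain ⟨x', hx', rfl⟩ := hx
    rcases Wr.vSub_decomp' W.hN W.hM k x' hx' with hc | ⟨q, ζ, rfl, hζ, hqq, hqc, hqV⟩
    · have hZ : W.ι x' ∈ W.Z := (W.mem_Z_iff _).mpr hc
      rw [W.conj_Z_of_mem_normalizer_V k hg hZ]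
      exact ⟨x', x', rfl, rfl, rfl⟩
    · have hζZ : W.ι ζ ∈ W.Z := (W.mem_Z_iff _).mpr hζ
      have hyV : g * W.ι q * g⁻¹ ∈ W.V k :=
        ((Subgroup.mem_normalizer_iff.mp hg) _).mp ((W.mem_V_iff k q).mpr hqV)
      obtain ⟨q'', hq''V, hq''⟩ := hyV
      have h1 : g * W.ι (q * ζ) * g⁻¹ = W.ι (q'' * ζ) := by
        rw [map_mul, map_mul, hq'']
        have : g * (W.ι q * W.ι ζ) * g⁻¹ = (g * W.ι q * g⁻¹) * (g * W.ι ζ * g⁻¹) := by group
        rw [this, W.conj_Z_of_mem_normalizer_V k hg hζZ]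
      refine ⟨q * ζ, q'' * ζ, rfl, h1.symm, ?_⟩
      have hq_mem : q ∈ Wr.quatSub M' := Wr.mem_quatSub_of_sq W.hN W.hM q hqq hqc
      have hq''_mem : q'' ∈ Wr.quatSub M' := by
        apply Wr.mem_quatSub_of_sq W.hN W.hM q''
        · apply W.inj
          rw [map_mul, hq'']
          have : (g * W.ι q * g⁻¹) * (g * W.ι q * g⁻¹) = g * W.ι (q * q) * g⁻¹ := by
            rw [map_mul]; group
          rw [this, hqq, ← W.z1_eq, W.conj_Z_of_mem_normalizer_V k hg W.z1_mem_Z]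
        · intro hc
          apply hqc
          have hyZ : W.ι q'' ∈ W.Z := (W.mem_Z_iff _).mpr hc
          have h2 := W.conj_Z_of_mem_normalizer_V k hginv hyZ
          rw [hq''] at h2
          have h3 : W.ι q = g * W.ι q * g⁻¹ := by
            rw [← h2]; group
          rw [← W.mem_Z_iff, h3, ← hq'']
          exact hyZ
      have e1 : Wr.lamHom M' q = 1 := hq_mem
      have e2 : Wr.lamHom M' q'' = 1 := hq''_mem
      rw [map_mul, map_mul, e1, e2]

theorem lam_eq_of_conj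
    (hU : ∀ g ∈ Subgroup.normalizer (W.U : Set G), ∃ s ∈ (W.S : Subgroup G),
      ∀ x ∈ W.U, g * x * g⁻¹ = s * x * s⁻¹)
    {x' y' : Wr (2 * M')} {g : G} (h : g * W.ι x' * g⁻¹ = W.ι y') :
    Wr.lamHom M' x' = Wr.lamHom M' y' := by
  obtain ⟨x'', y'', hx, hy, h'⟩ := W.fusion_lam hU (W.ι x') (W.ι_mem x') g (by rw [h]; exact W.ι_mem y')
  rw [h] at hy
  rw [← W.inj hx, ← W.inj hy]
  exact h'

/-! ### The transfer -/

omit [Finite G] in
/-- the isomorphism of the model onto `S` -/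
noncomputable def equivS : Wr (2 * M') ≃* ↥(W.S : Subgroup G) :=
  (MonoidHom.ofInjective W.inj).trans (MulEquiv.subgroupCongr W.range_eq)

omit [Finite G] in
theorem coe_equivS (x : Wr (2 * M')) : ((W.equivS x : ↥(W.S : Subgroup G)) : G) = W.ι x := rfl

omit [Finite G] in
theorem equivS_symm_apply (x : Wr (2 * M')) (h : W.ι x ∈ (W.S : Subgroup G)) :
    W.equivS.symm ⟨W.ι x, h⟩ = x := by
  apply W.equivS.injective
  rw [MulEquiv.apply_symm_apply]
  exact Subtype.ext (W.coe_equivS x).symm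

/-- `lamHom` on `S` -/
noncomputable def lamS : ↥(W.S : Subgroup G) →* Multiplicative (ZMod (2 * M')) :=
  (Wr.lamHom M').comp W.equivS.symm.toMonoidHom

omit [Finite G] in
theorem lamS_ι (x : Wr (2 * M')) (h : W.ι x ∈ (W.S : Subgroup G)) :
    W.lamS ⟨W.ι x, h⟩ = Wr.lamHom M' x := by
  show Wr.lamHom M' (W.equivS.symm ⟨W.ι x, h⟩) = _
  rw [W.equivS_symm_apply]

/-- the transfer of `lamHom` -/
noncomputable def tau : G →* Multiplicative (ZMod (2 * M')) := MonoidHom.transfer W.lamS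

theorem tau_ι
    (hU : ∀ g ∈ Subgroup.normalizer (W.U : Set G), ∃ s ∈ (W.S : Subgroup G),
      ∀ x ∈ W.U, g * x * g⁻¹ = s * x * s⁻¹) (x' : Wr (2 * M')) :
    W.tau (W.ι x') = (Wr.lamHom M' x') ^ (W.S : Subgroup G).index := by
  apply Cfsg.Agent.Lib.Helper55_TransferGen.transfer_eq_pow_index
  intro c n hc
  obtain ⟨y', hy'⟩ := W.exists_of_mem hc
  have h1 : (⟨c⁻¹ * W.ι x' ^ n * c, hc⟩ : ↥(W.S : Subgroup G)) = ⟨W.ι y', W.ι_mem y'⟩ :=
    Subtype.ext hy'.symm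
  rw [h1, W.lamS_ι]
  have h2 : c⁻¹ * W.ι (x' ^ n) * c⁻¹⁻¹ = W.ι y' := by
    rw [inv_inv, map_pow]; exact hy'.symm
  have h3 := W.lam_eq_of_conj hU h2
  rw [← h3, map_pow]

omit [Finite G] in
include W in
/-- powers of odd exponent are injective on the target -/
theorem eq_one_of_odd_pow (a : Multiplicative (ZMod (2 * M'))) (m : ℕ) (hm : Odd m)
    (h : a ^ m = 1) : a = 1 := by
  have : NeZero (2 * M') := W.neZero
  obtain ⟨e, he⟩ := W.hpow
  apply eq_one_of_two_pow_of_odd_pow (e := e) _ hm h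
  have h1 : Nat.card (Multiplicative (ZMod (2 * M'))) = 2 ^ e := by
    rw [Nat.card_eq_fintype_card, Fintype.card_multiplicative, ZMod.card, he]
  rw [← h1]
  exact pow_card_eq_one'

theorem odd_index : Odd (W.S : Subgroup G).index := by
  have hp2 : Fact (Nat.Prime 2) := ⟨Nat.prime_two⟩
  rw [← Nat.not_even_iff_odd, even_iff_two_dvd]
  exact W.S.not_dvd_index

theorem ι_mem_ker_tau_iff
    (hU : ∀ g ∈ Subgroup.normalizer (W.U : Set G), ∃ s ∈ (W.S : Subgroup G),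
      ∀ x ∈ W.U, g * x * g⁻¹ = s * x * s⁻¹) (x' : Wr (2 * M')) :
    W.ι x' ∈ W.tau.ker ↔ x' ∈ Wr.quatSub M' := by
  rw [MonoidHom.mem_ker, W.tau_ι hU]
  constructor
  · intro h
    exact W.eq_one_of_odd_pow _ _ W.odd_index h
  · intro h
    have : Wr.lamHom M' x' = 1 := h
    rw [this, one_pow]

theorem S_inf_ker_tau
    (hU : ∀ g ∈ Subgroup.normalizer (W.U : Set G), ∃ s ∈ (W.S : Subgroup G),
      ∀ x ∈ W.U, g * x * g⁻¹ = s * x * s⁻¹) :
    (W.S : Subgroup G) ⊓ W.tau.ker = (Wr.quatSub M').map W.ι := by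
  ext x
  constructor
  · rintro ⟨hxS, hxK⟩
    obtain ⟨x', rfl⟩ := W.exists_of_mem hxS
    exact ⟨x', (W.ι_mem_ker_tau_iff hU x').mp hxK, rfl⟩
  · rintro ⟨x', hx', rfl⟩
    exact ⟨W.ι_mem x', (W.ι_mem_ker_tau_iff hU x').mpr hx'⟩

theorem tau_surjective
    (hU : ∀ g ∈ Subgroup.normalizer (W.U : Set G), ∃ s ∈ (W.S : Subgroup G),
      ∀ x ∈ W.U, g * x * g⁻¹ = s * x * s⁻¹) : Function.Surjective W.tau := by
  have : NeZero (2 * M') := W.neZero
  have hinj : Function.Injective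
      (powMonoidHom (W.S : Subgroup G).index : Multiplicative (ZMod (2 * M')) →* _) := by
    rw [injective_iff_map_eq_one]
    intro a ha
    exact W.eq_one_of_odd_pow a _ W.odd_index ha
  have hsurj := Finite.injective_iff_surjective.mp hinj
  intro a
  obtain ⟨a', ha'⟩ := hsurj a
  refine ⟨W.ι (Wr.a (Multiplicative.toAdd a') 0), ?_⟩
  rw [W.tau_ι hU, Wr.lamHom_a, add_zero]
  exact ha'

theorem index_ker_tau
    (hU : ∀ g ∈ Subgroup.normalizer (W.U : Set G), ∃ s ∈ (W.S : Subgroup G),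
      ∀ x ∈ W.U, g * x * g⁻¹ = s * x * s⁻¹) : W.tau.ker.index = 2 * M' := by
  have : NeZero (2 * M') := W.neZero
  rw [Subgroup.index_ker, MonoidHom.range_eq_top.mpr (W.tau_surjective hU), Subgroup.card_top,
    Nat.card_eq_fintype_card, Fintype.card_multiplicative, ZMod.card]

/-! ### Sylow subgroups of the kernel -/

omit W [Finite G] in
theorem map_conj_of_normal (K : Subgroup G) [hK : K.Normal] (g : G) :
    K.map (MulAut.conj g).toMonoidHom = K := by
  ext y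
  rw [mem_map_conj_iff]
  constructor
  · intro h
    have := hK.conj_mem _ h g
    have h2 : g * (g⁻¹ * y * g) * g⁻¹ = y := by group
    rwa [h2] at this
  · intro h
    have := hK.conj_mem _ h g⁻¹
    rwa [inv_inv] at this

/-- every Sylow 2-subgroup of `ker tau` is conjugate to `S ∩ ker tau` -/
theorem exists_conj_sylow_ker_tau
    (hU : ∀ g ∈ Subgroup.normalizer (W.U : Set G), ∃ s ∈ (W.S : Subgroup G),
      ∀ x ∈ W.U, g * x * g⁻¹ = s * x * s⁻¹) (P : Sylow 2 ↥W.tau.ker) :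
    ∃ g : G, ((P : Subgroup ↥W.tau.ker).map W.tau.ker.subtype).map (MulAut.conj g).toMonoidHom =
      (Wr.quatSub M').map W.ι ∧
      IsSylowIn 2 ((Wr.quatSub M').map W.ι) W.tau.ker := by
  have hp2 : Fact (Nat.Prime 2) := ⟨Nat.prime_two⟩
  have hKn : W.tau.ker.Normal := MonoidHom.normal_ker _
  have hP' : IsSylowIn 2 ((P : Subgroup ↥W.tau.ker).map W.tau.ker.subtype) W.tau.ker :=
    isSylowIn_of_sylow P
  obtain ⟨g, hg⟩ := exists_conj_le_sylow W.S hP'.isPGroup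
  have hT' := hP'.conj g
  rw [map_conj_of_normal W.tau.ker g] at hT'
  have hle : ((P : Subgroup ↥W.tau.ker).map W.tau.ker.subtype).map (MulAut.conj g).toMonoidHom ≤
      (W.S : Subgroup G) ⊓ W.tau.ker := by
    rintro _ ⟨x, hx, rfl⟩
    exact ⟨hg x hx, hKn.conj_mem _ (hP'.le hx) g⟩
  have h2 : IsPGroup 2 ((W.S : Subgroup G) ⊓ W.tau.ker : Subgroup G) := W.S.2.to_le inf_le_left
  have heq := hT'.eq_of_le hle inf_le_right h2
  rw [W.S_inf_ker_tau hU] at heq
  refine ⟨g, heq.symm, ?_⟩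
  rw [heq]
  exact hT'

theorem sylow_ker_tau
    (hU : ∀ g ∈ Subgroup.normalizer (W.U : Set G), ∃ s ∈ (W.S : Subgroup G),
      ∀ x ∈ W.U, g * x * g⁻¹ = s * x * s⁻¹) (P : Sylow 2 ↥W.tau.ker) :
    Nonempty ((P : Subgroup ↥W.tau.ker) ≃* QuaternionGroup M') := by
  obtain ⟨g, hg, -⟩ := W.exists_conj_sylow_ker_tau hU P
  have e1 : (P : Subgroup ↥W.tau.ker) ≃* ((P : Subgroup ↥W.tau.ker).map W.tau.ker.subtype) :=
    (P : Subgroup ↥W.tau.ker).equivMapOfInjective _ (Subgroup.subtype_injective _)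
  have e2 : ((P : Subgroup ↥W.tau.ker).map W.tau.ker.subtype) ≃*
      (((P : Subgroup ↥W.tau.ker).map W.tau.ker.subtype).map (MulAut.conj g).toMonoidHom) :=
    Subgroup.equivMapOfInjective _ (MulAut.conj g).toMonoidHom (MulAut.conj g).injective
  have e3 : (((P : Subgroup ↥W.tau.ker).map W.tau.ker.subtype).map (MulAut.conj g).toMonoidHom) ≃*
      ((Wr.quatSub M').map W.ι) := MulEquiv.subgroupCongr hg
  have e4 : (Wr.quatSub M') ≃* ((Wr.quatSub M').map W.ι) :=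
    (Wr.quatSub M').equivMapOfInjective W.ι W.inj
  exact ⟨((e1.trans e2).trans e3).trans (e4.symm.trans (Wr.quatSubEquiv M'))⟩

theorem isSylowIn_quatSub
    (hU : ∀ g ∈ Subgroup.normalizer (W.U : Set G), ∃ s ∈ (W.S : Subgroup G),
      ∀ x ∈ W.U, g * x * g⁻¹ = s * x * s⁻¹) :
    IsSylowIn 2 ((Wr.quatSub M').map W.ι) W.tau.ker := by
  have hp2 : Fact (Nat.Prime 2) := ⟨Nat.prime_two⟩
  obtain ⟨P⟩ : Nonempty (Sylow 2 ↥W.tau.ker) := inferInstance
  exact (W.exists_conj_sylow_ker_tau hU P).choose_spec.2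

end WrSylow

end Cfsg.Agent.Lib.Helper86_WrG
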