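/-
Helper library (helper86): generation of the quaternion subgroup of `Wr (2 M')`, `2 M' = 4 M`.
-/
import Cfsg.Agent.Lib.Helper86_WrSub4

set_option autoImplicit false

namespace Cfsg.Agent.Lib.Helper86_WrSub

open Cfsg.Agent.Lib.Helper86_Wreathed

namespace Wr

open Cfsg.Agent.Lib.Helper86_Wreathed.Wr

variable {N M M' : ℕ}

/-- from two involutions of `V_k` outside the base group in different cosets of the centre -/
theorem b_mem_of (hN : N = 4 * M) (hM : 0 < M) (H : Subgroup (Wr N)) (k i i' : ZMod N)
    (hi : 4 * i = 4 * k) (hi' : 4 * i' = 4 * k) (hne : 2 * (i - i') ≠ 0)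
    (h1 : (b i (-i))⁻¹ * b i' (-i') ∈ H) (h2 : (b i' (-i'))⁻¹ * a (2 * (M : ZMod N)) 0 ∈ H) :
    b k (2 * (M : ZMod N) - k) ∈ H := by
  have h4M := four_M hN
  rw [inv_b, b_mul_b] at h1
  rw [inv_b, b_mul_a] at h2
  -- the element of order four of the cyclic part
  have hxM : a (M : ZMod N) (-(M : ZMod N)) ∈ H := by
    have h4δ : 4 * (i - i') = 0 := by linear_combination hi - hi'
    rcases four_tor hN hM _ h4δ with h | h | h | h
    · exfalso; apply hne; rw [h, mul_zero]
    · have : a (- -i + -i') (-i + i') = a (M : ZMod N) (-(M : ZMod N)) := by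
        congr 1
        · linear_combination h
        · linear_combination (-1 : ZMod N) * h
      rwa [this] at h1
    · exfalso; apply hne; rw [h]; linear_combination h4M
    · have : (a (- -i + -i') (-i + i'))⁻¹ = a (M : ZMod N) (-(M : ZMod N)) := by
        rw [inv_a]
        congr 1
        · linear_combination (-1 : ZMod N) * h
        · linear_combination h
      rw [← this]
      exact H.inv_mem h1
  have hb : b i' (2 * (M : ZMod N) - i') ∈ H := by
    have : b (- -i' + 0) (-i' + 2 * (M : ZMod N)) = b i' (2 * (M : ZMod N) - i') := by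
      congr 1 <;> ring
    rwa [this] at h2
  have h4e : 4 * (i' - k) = 0 := by linear_combination hi'
  have key : ∀ e : ZMod N, a e (-e) ∈ H → i' - k = e → b k (2 * (M : ZMod N) - k) ∈ H := by
    intro e he hek
    have := H.mul_mem hb he
    rw [b_mul_a] at this
    have h3 : b (i' + -e) (2 * (M : ZMod N) - i' + e) = b k (2 * (M : ZMod N) - k) := by
      congr 1
      · linear_combination hek
      · linear_combination (-1 : ZMod N) * hek
    rwa [h3] at this
  rcases four_tor hN hM _ h4e with h | h | h | h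
  · apply key 0 _ h
    rw [neg_zero]; exact H.one_mem
  · exact key _ hxM h
  · apply key _ _ h
    have := H.mul_mem hxM hxM
    rw [a_mul_a] at this
    have h3 : a ((M : ZMod N) + (M : ZMod N)) (-(M : ZMod N) + -(M : ZMod N)) =
        a (2 * (M : ZMod N)) (-(2 * (M : ZMod N))) := by congr 1 <;> ring
    rwa [h3] at this
  · apply key _ _ h
    have := H.inv_mem hxM
    rwa [inv_a] at this

/-- the quaternion subgroup is generated by two suitable elements outside the base group -/
theorem quatSub_le_of (hN : 2 * M' = 4 * M) (hM : 0 < M) (H : Subgroup (Wr (2 * M')))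
    (h0 : b 0 (2 * (M : ZMod (2 * M')) - 0) ∈ H) (h1 : b 1 (2 * (M : ZMod (2 * M')) - 1) ∈ H) :
    quatSub M' ≤ H := by
  have h4M := four_M hN
  have hx : a (2 * (M : ZMod (2 * M')) - 1) (-(2 * (M : ZMod (2 * M')) - 1)) ∈ H := by
    have := H.mul_mem h0 h1
    rw [b_mul_b] at this
    have h3 : a (0 + (2 * (M : ZMod (2 * M')) - 1)) (2 * (M : ZMod (2 * M')) - 0 + 1) =
        a (2 * (M : ZMod (2 * M')) - 1) (-(2 * (M : ZMod (2 * M')) - 1)) := by
      congr 1
      · ring
      · linear_combination h4M
    rwa [h3] at this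
  have hall : ∀ j : ZMod (2 * M'), a j (-j) ∈ H := by
    intro j
    have hN0 : NeZero (2 * M') := ⟨by omega⟩
    have := H.pow_mem hx (j * (2 * (M : ZMod (2 * M')) - 1)).val
    rw [a_pow, ZMod.natCast_zmod_val] at this
    have h3 : a (j * (2 * (M : ZMod (2 * M')) - 1) * (2 * (M : ZMod (2 * M')) - 1))
        (j * (2 * (M : ZMod (2 * M')) - 1) * -(2 * (M : ZMod (2 * M')) - 1)) = a j (-j) := by
      congr 1
      · linear_combination (j * (M : ZMod (2 * M')) - j) * h4M
      · linear_combination (-j * (M : ZMod (2 * M')) + j) * h4M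
    rwa [h3] at this
  rintro (⟨i, j⟩ | ⟨i, j⟩) hx'
  · rw [a_mem_quatSub_iff] at hx'
    have : j = -i := by linear_combination hx'
    rw [this]; exact hall i
  · rw [b_mem_quatSub_iff, cast_half hN] at hx'
    have := H.mul_mem h0 (hall (-i))
    rw [b_mul_a] at this
    have h3 : b (0 + - -i) (2 * (M : ZMod (2 * M')) - 0 + -i) = b i j := by
      congr 1
      · ring
      · linear_combination (-1 : ZMod (2 * M')) * hx'
    rwa [h3] at this

end Wr

end Cfsg.Agent.Lib.Helper86_WrSub
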