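/-
Helper library (helper86): finite groups with a wreathed Sylow 2-subgroup, part 10:
in the case `|N(U) : C(U)| = 2`, `|N(V) : V C(V)| = 6` the kernel of the transfer has no subgroup
of index two.
-/
import Cfsg.Agent.Lib.Helper86_WrG9
import Cfsg.Agent.Lib.Helper86_WrSub5

set_option autoImplicit false

namespace Cfsg.Agent.Lib.Helper86_WrG

open Cfsg.Agent.Lib.Helper86_Wreathed Cfsg.Agent.Lib.Helper86_WrSub Cfsg.Agent.Lib.Helper86_WrAbs
open Cfsg.Agent.Lib.Helper86_AutCount Cfsg.Agent.Lib.Helper86_FusionControl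
open Cfsg.Agent.Lib.Helper84_RelSylow

/-- coordinates exist, with a prescribed form of the parameter -/
theorem exists_wrSylow' {G : Type*} [Group G] [Finite G] (S : Sylow 2 G)
    (hS : Cfsg.IsWreathed (S : Subgroup G)) (n : ℕ) (hn : Nat.card S = 2 ^ (2 * n + 1))
    (N' : ℕ) (hN' : N' = 2 ^ n) : ∃ W : WrSylow G N' (2 ^ (n - 2)), W.S = S := by
  subst hN'
  exact (exists_wrSylow S hS n hn).2

namespace WrSylow

section generalN

variable {G : Type*} [Group G] {N M : ℕ} (W : WrSylow G N M)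

theorem isConj_u1_u2 : IsConj W.u1 W.u2 := by
  rw [isConj_iff]
  refine ⟨W.ι (Wr.b 0 0), ?_⟩
  rw [u1, u2, W.ι_conj]
  congr 1
  simp

theorem u2_eq : W.u2 = W.u1 * W.z1 := by
  rw [u1, z1, u2, ← map_mul, Wr.a_mul_a]
  congr 2
  · linear_combination (-1 : ZMod N) * twoM_add_twoM W.hN
  · ring

theorem conj_u1_not_mem_U (k : ZMod N) (g : Subgroup.normalizer (W.V k : Set G))
    (hg3 : orderOf ((W.V k).normalizerMonoidHom g) = 3) :
    (g : G) * W.u1 * (g : G)⁻¹ ∉ W.U := by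
  intro hcon
  have hαodd : Odd (orderOf ((W.V k).normalizerMonoidHom g)) := by rw [hg3]; decide
  have h1 : (W.V k).normalizerMonoidHom g = 1 := by
    apply W.aut_V_eq_one k _ hαodd
    intro x hx
    show (g : G) * x * (g : G)⁻¹ ∈ W.U
    rcases W.mem_U_inf_V hx x.2 with h | ⟨z, hz, h⟩
    · exact W.Z_le_U (W.conj_mem_Z_of_mem_normalizer_V k g.2 h)
    · rw [h]
      have : (g : G) * (W.u1 * z) * (g : G)⁻¹ =
          ((g : G) * W.u1 * (g : G)⁻¹) * ((g : G) * z * (g : G)⁻¹) := by group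
      rw [this]
      exact Subgroup.mul_mem _ hcon (W.Z_le_U (W.conj_mem_Z_of_mem_normalizer_V k g.2 hz))
  rw [h1, orderOf_one] at hg3
  omega

variable [Finite G]

theorem three_dvd_relIndex_V (k₀ : ZMod N)
    (h₂ : (W.V k₀ ⊔ Subgroup.centralizer (W.V k₀ : Set G)).relIndex
      (Subgroup.normalizer (W.V k₀ : Set G)) = 6) (k : ZMod N) :
    3 ∣ (Subgroup.centralizer (W.V k : Set G)).relIndex (Subgroup.normalizer (W.V k : Set G)) := by
  have h6 : (W.V k ⊔ Subgroup.centralizer (W.V k : Set G)).relIndex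
      (Subgroup.normalizer (W.V k : Set G)) = 6 := by
    rcases W.relIndex_V_two_or_six k with h | h
    · exfalso
      obtain ⟨g, hgN, hgU⟩ := W.exists_of_relIndex_V_six k₀ h₂
      obtain ⟨s, hs, hsx⟩ := W.acts_V_of_relIndex_two k h k₀ g hgN
      apply hgU
      rw [hsx _ (W.u1_mem_V k₀)]
      exact (W.mem_U_conj_iff hs).mp W.u1_mem_U
    · exact h
  have h4 := Subgroup.relIndex_dvd_of_le_left (Subgroup.normalizer (W.V k : Set G))
    (le_sup_right : Subgroup.centralizer (W.V k : Set G) ≤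
      W.V k ⊔ Subgroup.centralizer (W.V k : Set G))
  rw [h6] at h4
  exact (by norm_num : 3 ∣ 6).trans h4

/-- a subgroup containing the commutators with the elements of odd order contains the elements
`b k (2M - k)` -/
theorem beta_mem (k₀ : ZMod N)
    (h₂ : (W.V k₀ ⊔ Subgroup.centralizer (W.V k₀ : Set G)).relIndex
      (Subgroup.normalizer (W.V k₀ : Set G)) = 6) (H' : Subgroup G)
    (hodd : ∀ x g : G, Odd (orderOf g) → x⁻¹ * (g * x * g⁻¹) ∈ H') (k : ZMod N) :
    W.ι (Wr.b k (2 * (M : ZMod N) - k)) ∈ H' := by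
  obtain ⟨g, hgodd, hg3⟩ := exists_normalizer_elt_of_three_dvd (W.V k)
    (W.three_dvd_relIndex_V k₀ h₂ k)
  have hgodd' : Odd (orderOf (g : G)) := by rw [Subgroup.orderOf_coe]; exact hgodd
  have hgN : (g : G) ∈ Subgroup.normalizer (W.V k : Set G) := g.2
  have hα3 : ((W.V k).normalizerMonoidHom g) ^ 3 = 1 := by
    rw [← hg3]; exact pow_orderOf_eq_one _
  have hcV : ∀ x ∈ W.V k, (g : G) * x * (g : G)⁻¹ ∈ W.V k := fun x hx =>
    ((Subgroup.mem_normalizer_iff.mp hgN) x).mp hx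
  have hc3 : ∀ x (hx : x ∈ W.V k),
      (g : G) * ((g : G) * ((g : G) * x * (g : G)⁻¹) * (g : G)⁻¹) * (g : G)⁻¹ = x := by
    intro x hx
    have h := congrArg (fun β : MulAut (W.V k) => β ⟨x, hx⟩) hα3
    simp only [pow_succ, pow_zero, one_mul, MulAut.mul_apply, MulAut.one_apply] at h
    exact congrArg Subtype.val h
  have hz : (g : G) * W.z1 * (g : G)⁻¹ = W.z1 :=
    W.conj_Z_of_mem_normalizer_V k hgN W.z1_mem_Z
  have hcinj : ∀ x y : G, (g : G) * x * (g : G)⁻¹ = (g : G) * y * (g : G)⁻¹ → x = y :=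
    fun x y h => mul_left_cancel (mul_right_cancel h)
  have hcmul : ∀ x y : G, (g : G) * (x * y) * (g : G)⁻¹ =
      ((g : G) * x * (g : G)⁻¹) * ((g : G) * y * (g : G)⁻¹) := fun x y => by group
  obtain ⟨d, hd⟩ : ∃ d, d = (g : G) * W.u1 * (g : G)⁻¹ := ⟨_, rfl⟩
  obtain ⟨d', hd'⟩ : ∃ d', d' = (g : G) * d * (g : G)⁻¹ := ⟨_, rfl⟩
  have hcd' : (g : G) * d' * (g : G)⁻¹ = W.u1 := by
    rw [hd', hd]; exact hc3 _ (W.u1_mem_V k)
  have hdV : d ∈ W.V k := by rw [hd]; exact hcV _ (W.u1_mem_V k)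
  have hd'V : d' ∈ W.V k := by rw [hd']; exact hcV _ hdV
  have hdU : d ∉ W.U := by rw [hd]; exact W.conj_u1_not_mem_U k g hg3
  have hdd : d * d = 1 := by
    rw [hd, ← hcmul, mul_self_of_orderOf W.orderOf_u1]; group
  have hd'd' : d' * d' = 1 := by
    rw [hd', ← hcmul, hdd]; group
  have hd'1 : d' ≠ 1 := by
    intro h
    have h1 : d = 1 := by
      apply hcinj
      rw [← hd', h]; group
    exact hdU (h1 ▸ W.U.one_mem)
  have hd'U : d' ∉ W.U := by
    intro h
    rcases W.U_involutions h hd'd' with h1 | h1 | h1 | h1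
    · exact hd'1 h1
    · have h2 : d = W.z1 := hcinj _ _ (by rw [← hd', h1, hz])
      exact hdU (h2 ▸ W.z1_mem_U)
    · rw [h1, ← hd] at hcd'
      exact hdU (hcd' ▸ W.u1_mem_U)
    · rw [h1, W.u2_eq, hcmul, ← hd, hz] at hcd'
      have h2 : d = W.u1 * W.z1⁻¹ := by rw [← hcd']; group
      rw [h2] at hdU
      exact hdU (Subgroup.mul_mem _ W.u1_mem_U (Subgroup.inv_mem _ W.z1_mem_U))
  -- coordinates
  obtain ⟨xd, hxdV, hxd⟩ := hdV
  obtain ⟨xd', hxd'V, hxd'⟩ := hd'V
  rcases xd with ⟨i, j⟩ | ⟨i, j⟩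
  · exact absurd (hxd ▸ W.ι_a_mem_U i j) hdU
  rcases xd' with ⟨i', j'⟩ | ⟨i', j'⟩
  · exact absurd (hxd' ▸ W.ι_a_mem_U i' j') hd'U
  have hij : i + j = 0 := by
    have h1 : Wr.b i j * Wr.b i j = 1 := by
      apply W.inj; rw [map_mul, map_one, hxd]; exact hdd
    rw [Wr.b_mul_b, Wr.one_def] at h1
    injection h1
  have hij' : i' + j' = 0 := by
    have h1 : Wr.b i' j' * Wr.b i' j' = 1 := by
      apply W.inj; rw [map_mul, map_one, hxd']; exact hd'd'
    rw [Wr.b_mul_b, Wr.one_def] at h1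
    injection h1
  have hj : j = -i := by linear_combination hij
  have hj' : j' = -i' := by linear_combination hij'
  subst hj hj'
  have hxdV2 := (Wr.b_mem_vSub_iff k i (-i)).mp hxdV
  have hxd'V2 := (Wr.b_mem_vSub_iff k i' (-i')).mp hxd'V
  have hi : 4 * i = 4 * k := by linear_combination hxdV2
  have hi' : 4 * i' = 4 * k := by linear_combination hxd'V2
  have hne : 2 * (i - i') ≠ 0 := by
    intro h0
    rcases two_tor W.hN W.hM _ h0 with h | h
    · have hii : i = i' := sub_eq_zero.mp h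
      subst hii
      have h1 : d' = d := by rw [← hxd, ← hxd']
      rw [h1, hd] at hd'
      have h2 := hcinj _ _ hd'
      rw [← hd] at h2
      exact hdU (h2 ▸ W.u1_mem_U)
    · have h1 : d' = d * W.z1 := by
        rw [← hxd, ← hxd', z1, ← map_mul, Wr.b_mul_a]
        congr 2
        · linear_combination (-1 : ZMod N) * h - twoM_add_twoM W.hN
        · linear_combination h
      have h2 : (g : G) * d' * (g : G)⁻¹ = d := by
        rw [h1, hcmul, ← hd', hz, h1, mul_assoc, mul_self_of_orderOf W.orderOf_z1, mul_one]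
      rw [hcd'] at h2
      exact hdU (h2 ▸ W.u1_mem_U)
  have hy1 : W.ι ((Wr.b i (-i))⁻¹ * Wr.b i' (-i')) ∈ H' := by
    rw [map_mul, map_inv, hxd, hxd', hd']
    exact hodd d g hgodd'
  have hy2 : W.ι ((Wr.b i' (-i'))⁻¹ * Wr.a (2 * (M : ZMod N)) 0) ∈ H' := by
    have := hodd d' g hgodd'
    rw [hcd'] at this
    rw [map_mul, map_inv, hxd']
    exact this
  exact Wr.b_mem_of W.hN W.hM (H'.comap W.ι) k i i' hi hi' hne hy1 hy2

end generalN

section twoM

variable {G : Type*} [Group G] [Finite G] {M M' : ℕ} (W : WrSylow G (2 * M') M)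

theorem mem_ker_tau_of_odd (g : G) (hg : Odd (orderOf g)) : g ∈ W.tau.ker := by
  rw [MonoidHom.mem_ker]
  apply W.eq_one_of_odd_pow _ _ hg
  rw [← map_pow, pow_orderOf_eq_one, map_one]

/-- in the case `(2, 6)` the kernel of the transfer has no subgroup of index two -/
theorem no_index_two_ker_tau
    (hU : ∀ g ∈ Subgroup.normalizer (W.U : Set G), ∃ s ∈ (W.S : Subgroup G),
      ∀ x ∈ W.U, g * x * g⁻¹ = s * x * s⁻¹) (k₀ : ZMod (2 * M'))
    (h₂ : (W.V k₀ ⊔ Subgroup.centralizer (W.V k₀ : Set G)).relIndex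
      (Subgroup.normalizer (W.V k₀ : Set G)) = 6) (H : Subgroup ↥W.tau.ker) : H.index ≠ 2 := by
  intro hH
  have hKn : W.tau.ker.Normal := MonoidHom.normal_ker _
  have hH'K : H.map W.tau.ker.subtype ≤ W.tau.ker := Subgroup.map_subtype_le H
  have hoddK : ∀ c : G, c ∈ W.tau.ker → Odd (orderOf c) → c ∈ H.map W.tau.ker.subtype := by
    intro c hc hodd
    have h1 : (⟨c, hc⟩ : W.tau.ker) ∈ H := by
      apply mem_of_odd_order_of_index_two H hH
      rw [← Subgroup.orderOf_coe]; exact hodd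
    exact ⟨⟨c, hc⟩, h1, rfl⟩
  have hodd : ∀ x g : G, Odd (orderOf g) → x⁻¹ * (g * x * g⁻¹) ∈ H.map W.tau.ker.subtype := by
    intro x g hg
    have h1 : x⁻¹ * (g * x * g⁻¹) = (x⁻¹ * g * x⁻¹⁻¹) * g⁻¹ := by group
    rw [h1]
    apply Subgroup.mul_mem
    · apply hoddK
      · exact hKn.conj_mem _ (W.mem_ker_tau_of_odd g hg) _
      · have : x⁻¹ * g * x⁻¹⁻¹ = MulAut.conj x⁻¹ g := rfl
        rw [this, MulEquiv.orderOf_eq]; exact hg
    · apply Subgroup.inv_mem
      exact hoddK g (W.mem_ker_tau_of_odd g hg) hg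
  have h0 := W.beta_mem k₀ h₂ _ hodd 0
  have h1 := W.beta_mem k₀ h₂ _ hodd 1
  have hD : (Wr.quatSub M').map W.ι ≤ H.map W.tau.ker.subtype := by
    rw [Subgroup.map_le_iff_le_comap]
    exact Wr.quatSub_le_of W.hN W.hM _ h0 h1
  have hS := W.isSylowIn_quatSub hU
  have hrel : (H.map W.tau.ker.subtype).relIndex W.tau.ker = 2 := by
    rw [Subgroup.relIndex, Subgroup.subgroupOf,
      Subgroup.comap_map_eq_self_of_injective W.tau.ker.subtype_injective]
    exact hH
  have := Subgroup.relIndex_mul_relIndex _ _ _ hD hH'K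
  rw [hrel] at this
  exact hS.not_dvd (Dvd.intro_left _ this)

end twoM

end WrSylow

end Cfsg.Agent.Lib.Helper86_WrG
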