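/-
Helper library (helper86): finite groups with a wreathed Sylow 2-subgroup and no subgroup of index
two: the centralizer of an involution.
-/
import Cfsg.Agent.Lib.Helper86_WrG10

set_option autoImplicit false

namespace Cfsg.Agent.Lib.Helper86_WrG

open Cfsg.Agent.Lib.Helper86_Wreathed Cfsg.Agent.Lib.Helper86_WrSub Cfsg.Agent.Lib.Helper86_WrAbs
open Cfsg.Agent.Lib.Helper86_AutCount Cfsg.Agent.Lib.Helper86_FusionControl
open Cfsg.Agent.Lib.Helper84_RelSylow

namespace WrSylow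

section conj

variable {G : Type*} [Group G] {N M : ℕ} (W : WrSylow G N M)

/-- the conjugate coordinates -/
def conj (c : G) : WrSylow G N M where
  S := c • W.S
  ι := (MulAut.conj c).toMonoidHom.comp W.ι
  inj := (MulAut.conj c).injective.comp W.inj
  range_eq := by
    rw [MonoidHom.range_comp, W.range_eq]
    rfl
  hN := W.hN
  hM := W.hM
  hpow := W.hpow

theorem conj_ι (c : G) (x : Wr N) : (W.conj c).ι x = c * W.ι x * c⁻¹ := rfl

theorem conj_z1 (c : G) : (W.conj c).z1 = c * W.z1 * c⁻¹ := rfl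

end conj

section restrict

variable {G : Type*} [Group G] {N M : ℕ} (W : WrSylow G N M)

/-- the coordinates on the Sylow subgroup seen inside a subgroup containing it -/
def restrict (C : Subgroup G) (hSC : (W.S : Subgroup G) ≤ C) : WrSylow ↥C N M where
  S := W.S.subtype hSC
  ι := W.ι.codRestrict C (fun x => hSC (W.ι_mem x))
  inj := by
    intro x y h
    apply W.inj
    exact congrArg Subtype.val h
  range_eq := by
    ext ⟨y, hy⟩
    rw [Sylow.coe_subtype, Subgroup.mem_subgroupOf]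
    constructor
    · rintro ⟨x, hx⟩
      have : W.ι x = y := congrArg Subtype.val hx
      show y ∈ (W.S : Subgroup G)
      rw [← this]; exact W.ι_mem x
    · intro hyS
      obtain ⟨x, hx⟩ := W.exists_of_mem hyS
      exact ⟨x, Subtype.ext hx⟩
  hN := W.hN
  hM := W.hM
  hpow := W.hpow

variable (C : Subgroup G) (hSC : (W.S : Subgroup G) ≤ C)

theorem restrict_ι (x : Wr N) : (((W.restrict C hSC).ι x : ↥C) : G) = W.ι x := rfl

theorem mem_restrict_map_iff (X : Subgroup (Wr N)) (y : ↥C) :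
    y ∈ X.map (W.restrict C hSC).ι ↔ (y : G) ∈ X.map W.ι := by
  constructor
  · rintro ⟨x, hx, rfl⟩
    exact ⟨x, hx, rfl⟩
  · rintro ⟨x, hx, h⟩
    exact ⟨x, hx, Subtype.ext h⟩

theorem mem_restrict_S_iff (y : ↥C) :
    y ∈ ((W.restrict C hSC).S : Subgroup ↥C) ↔ (y : G) ∈ (W.S : Subgroup G) := by
  show y ∈ ((W.S.subtype hSC : Sylow 2 ↥C) : Subgroup ↥C) ↔ _
  rw [Sylow.coe_subtype, Subgroup.mem_subgroupOf]

theorem mem_restrict_U_iff (y : ↥C) : y ∈ (W.restrict C hSC).U ↔ (y : G) ∈ W.U :=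
  W.mem_restrict_map_iff C hSC _ y

theorem mem_restrict_V_iff (k : ZMod N) (y : ↥C) :
    y ∈ (W.restrict C hSC).V k ↔ (y : G) ∈ W.V k :=
  W.mem_restrict_map_iff C hSC _ y

theorem restrict_z1 : (((W.restrict C hSC).z1 : ↥C) : G) = W.z1 := rfl

theorem restrict_u1 : (((W.restrict C hSC).u1 : ↥C) : G) = W.u1 := rfl

end restrict

section noIndexTwo

variable {G : Type*} [Group G] [Finite G]

/-- without subgroups of index two, `|N(V) : V C(V)| = 6` -/
theorem relIndex_V_six_of_no_index_two {N M : ℕ} (W : WrSylow G N M)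
    (hG : ∀ H : Subgroup G, H.index ≠ 2) (k : ZMod N) :
    (W.V k ⊔ Subgroup.centralizer (W.V k : Set G)).relIndex
      (Subgroup.normalizer (W.V k : Set G)) = 6 := by
  rcases W.relIndex_V_two_or_six k with h | h
  · exfalso
    obtain ⟨K, -, hK, -⟩ := W.exists_normal_index_two (W.acts_V_of_relIndex_two k h)
    exact hG K hK
  · exact h

/-- without subgroups of index two, `|N(U) : C(U)| = 6` -/
theorem relIndex_U_six_of_no_index_two {M M' : ℕ} (W : WrSylow G (2 * M') M)
    (hG : ∀ H : Subgroup G, H.index ≠ 2) :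
    (Subgroup.centralizer (W.U : Set G)).relIndex (Subgroup.normalizer (W.U : Set G)) = 6 := by
  rcases W.relIndex_U_two_or_six with h | h
  · exfalso
    have hact := W.acts_U_of_relIndex_two h
    have hsurj := W.tau_surjective hact
    set f : Multiplicative (ZMod (2 * M')) →* Multiplicative (ZMod 2) :=
      (ZMod.castHom (dvd_mul_right 2 M') (ZMod 2)).toAddMonoidHom.toMultiplicative with hf
    have hfsurj : Function.Surjective f := by
      intro y
      obtain ⟨x, hx⟩ := ZMod.castHom_surjective (dvd_mul_right 2 M') (Multiplicative.toAdd y)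
      exact ⟨Multiplicative.ofAdd x, by rw [hf]; exact congrArg Multiplicative.ofAdd hx⟩
    have hcomp : Function.Surjective (f.comp W.tau) := by
      intro y
      obtain ⟨a, ha⟩ := hfsurj y
      obtain ⟨g, hg⟩ := hsurj a
      exact ⟨g, by rw [MonoidHom.comp_apply, hg, ha]⟩
    have h2 : (f.comp W.tau).ker.index = 2 := by
      rw [Subgroup.index_ker, MonoidHom.range_eq_top.mpr hcomp, Subgroup.card_top,
        Nat.card_eq_fintype_card, Fintype.card_multiplicative, ZMod.card]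
    exact hG _ h2
  · exact h

/-- in the case `(6, 6)` all involutions are conjugate -/
theorem isConj_z1_of_involution {N M : ℕ} (W : WrSylow G N M)
    (h₁ : (Subgroup.centralizer (W.U : Set G)).relIndex (Subgroup.normalizer (W.U : Set G)) = 6)
    (k₀ : ZMod N)
    (h₂ : (W.V k₀ ⊔ Subgroup.centralizer (W.V k₀ : Set G)).relIndex
      (Subgroup.normalizer (W.V k₀ : Set G)) = 6) (t : G) (ht : orderOf t = 2) :
    IsConj t W.z1 := by
  obtain ⟨g, hgN, -, hc1, hc2, -⟩ := W.exists_of_relIndex_U_six h₁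
  obtain ⟨g', hg'N, hd⟩ := W.exists_of_relIndex_V_six k₀ h₂
  have hdV : g' * W.u1 * g'⁻¹ ∈ W.V k₀ :=
    ((Subgroup.mem_normalizer_iff.mp hg'N) W.u1).mp (W.u1_mem_V k₀)
  have hdS : g' * W.u1 * g'⁻¹ ∈ (W.S : Subgroup G) := W.V_le k₀ hdV
  have hdord : orderOf (g' * W.u1 * g'⁻¹) = 2 := by
    have : g' * W.u1 * g'⁻¹ = MulAut.conj g' W.u1 := rfl
    rw [this, MulEquiv.orderOf_eq]; exact W.orderOf_u1
  have hdt0 : IsConj (g' * W.u1 * g'⁻¹) W.t0 := W.isConj_t0_of_not_mem_U hdS hd hdord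
  have hu1d : IsConj W.u1 (g' * W.u1 * g'⁻¹) := isConj_iff.mpr ⟨g', rfl⟩
  rcases W.involution_rep t ht with h | h | h
  · exact h.trans hc2.symm
  · exact h
  · exact h.trans (hdt0.symm.trans (hu1d.symm.trans hc1.symm))

/-- a subgroup `C` containing `S` and `N(V 0)` and centralizing `z1`, in a group without subgroups
of index two -/
theorem restrict_facts {M M' : ℕ} (W : WrSylow G (2 * M') M)
    (hG : ∀ H : Subgroup G, H.index ≠ 2) (C : Subgroup G) (hSC : (W.S : Subgroup G) ≤ C)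
    (hCz : ∀ c ∈ C, c * W.z1 * c⁻¹ = W.z1)
    (hNC : Subgroup.normalizer (W.V 0 : Set G) ≤ C) :
    (Subgroup.centralizer ((W.restrict C hSC).U : Set ↥C)).relIndex
      (Subgroup.normalizer ((W.restrict C hSC).U : Set ↥C)) = 2 ∧
    ((W.restrict C hSC).V 0 ⊔ Subgroup.centralizer ((W.restrict C hSC).V 0 : Set ↥C)).relIndex
      (Subgroup.normalizer ((W.restrict C hSC).V 0 : Set ↥C)) = 6 := by
  have h₂G := relIndex_V_six_of_no_index_two W hG 0
  constructor
  · rcases (W.restrict C hSC).relIndex_U_two_or_six with h | h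
    · exact h
    · exfalso
      obtain ⟨g, -, -, hc1, -, -⟩ := (W.restrict C hSC).exists_of_relIndex_U_six h
      obtain ⟨c, hc⟩ := isConj_iff.mp hc1
      have h1 : (c : G) * W.z1 * (c : G)⁻¹ = W.u1 := congrArg Subtype.val hc
      rw [hCz c c.2] at h1
      exact W.z1_ne_u1 h1
  · rcases (W.restrict C hSC).relIndex_V_two_or_six 0 with h | h
    · exfalso
      obtain ⟨g, hgN, hgU⟩ := W.exists_of_relIndex_V_six 0 h₂G
      have hgC : g ∈ C := hNC hgN
      have hgNH : (⟨g, hgC⟩ : ↥C) ∈ Subgroup.normalizer ((W.restrict C hSC).V 0 : Set ↥C) := by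
        rw [Subgroup.mem_normalizer_iff]
        intro y
        rw [W.mem_restrict_V_iff, W.mem_restrict_V_iff]
        exact (Subgroup.mem_normalizer_iff.mp hgN) y
      obtain ⟨s, hs, hsx⟩ := (W.restrict C hSC).acts_V_of_relIndex_two 0 h 0 ⟨g, hgC⟩ hgNH
      have h3 := hsx _ ((W.restrict C hSC).u1_mem_V 0)
      have h4 : g * W.u1 * g⁻¹ = (s : G) * W.u1 * (s : G)⁻¹ := congrArg Subtype.val h3
      apply hgU
      rw [h4]
      exact (W.mem_U_conj_iff ((W.mem_restrict_S_iff C hSC s).mp hs)).mp W.u1_mem_U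
    · exact h

/-- the conclusion for such a subgroup `C` -/
theorem restrict_result {M M' : ℕ} (W : WrSylow G (2 * M') M)
    (hG : ∀ H : Subgroup G, H.index ≠ 2) (C : Subgroup G) (hSC : (W.S : Subgroup G) ≤ C)
    (hCz : ∀ c ∈ C, c * W.z1 * c⁻¹ = W.z1)
    (hNC : Subgroup.normalizer (W.V 0 : Set G) ≤ C) :
    ∃ R : Sylow 2 ↥C, Nat.card R = Nat.card (W.S : Subgroup G) ∧
      (∃ K : Subgroup ↥C, K.Normal ∧ K.index = 2 * M' ∧ (∀ H : Subgroup ↥K, H.index ≠ 2) ∧
        (∀ P : Sylow 2 ↥K, Nonempty ((P : Subgroup ↥K) ≃* QuaternionGroup M'))) ∧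
      (∀ Z₀ : Subgroup ↥C, Z₀ ≤ ((Subgroup.center (R : Subgroup ↥C)).map
          (R : Subgroup ↥C).subtype) → Cfsg.IsWeaklyClosed Z₀ (R : Subgroup ↥C)) := by
  obtain ⟨h₁H, h₂H⟩ := restrict_facts W hG C hSC hCz hNC
  have hact := (W.restrict C hSC).acts_U_of_relIndex_two h₁H
  refine ⟨(W.restrict C hSC).S, ?_, ⟨(W.restrict C hSC).tau.ker, MonoidHom.normal_ker _,
    (W.restrict C hSC).index_ker_tau hact, (W.restrict C hSC).no_index_two_ker_tau hact 0 h₂H,
    fun P => (W.restrict C hSC).sylow_ker_tau hact P⟩, ?_⟩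
  · exact Nat.card_congr ((W.restrict C hSC).equivS.symm.toEquiv.trans W.equivS.toEquiv)
  · intro Z₀ hZ₀
    rw [(W.restrict C hSC).center_map_eq_Z] at hZ₀
    exact (W.restrict C hSC).isWeaklyClosed_of_fusion_Z ((W.restrict C hSC).fusion_Z hact) Z₀ hZ₀

/-- the centralizer of the central involution of `S` in a group without subgroups of index two -/
theorem centralizer_z1 {M M' : ℕ} (W : WrSylow G (2 * M') M)
    (hG : ∀ H : Subgroup G, H.index ≠ 2) :
    ∃ R : Sylow 2 ↥(Subgroup.centralizer ({W.z1} : Set G)),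
      Nat.card R = Nat.card (W.S : Subgroup G) ∧
      (∃ K : Subgroup ↥(Subgroup.centralizer ({W.z1} : Set G)), K.Normal ∧ K.index = 2 * M' ∧
        (∀ H : Subgroup ↥K, H.index ≠ 2) ∧
        (∀ P : Sylow 2 ↥K, Nonempty ((P : Subgroup ↥K) ≃* QuaternionGroup M'))) ∧
      (∀ Z₀ : Subgroup ↥(Subgroup.centralizer ({W.z1} : Set G)),
        Z₀ ≤ ((Subgroup.center (R : Subgroup ↥(Subgroup.centralizer ({W.z1} : Set G)))).map
          (R : Subgroup ↥(Subgroup.centralizer ({W.z1} : Set G))).subtype) →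
        Cfsg.IsWeaklyClosed Z₀ (R : Subgroup ↥(Subgroup.centralizer ({W.z1} : Set G)))) := by
  apply restrict_result W hG
  · intro s hs
    rw [Subgroup.mem_centralizer_iff]
    intro h hh
    rw [Set.mem_singleton_iff] at hh
    subst hh
    exact (W.Z_central hs W.z1_mem_Z).symm
  · intro c hc
    rw [Subgroup.mem_centralizer_iff] at hc
    rw [← hc W.z1 (Set.mem_singleton _), mul_inv_cancel_right]
  · intro g hgN
    have h1 := W.normalizer_V_le_centralizer_Z 0 hgN
    rw [Subgroup.mem_centralizer_iff] at h1 ⊢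
    intro h hh
    rw [Set.mem_singleton_iff] at hh
    subst hh
    exact h1 _ W.z1_mem_Z

end noIndexTwo

end WrSylow

/-- **The centralizer of an involution** in a finite group with wreathed Sylow 2-subgroups and no
subgroup of index two (the wreathed half of the statement on quasi-dihedral or wreathed Sylow
2-subgroups). -/
theorem result_wr {G : Type*} [Group G] [Finite G] (S : Sylow 2 G)
    (hS : Cfsg.IsWreathed (S : Subgroup G)) (hG : ∀ H : Subgroup G, H.index ≠ 2) (x : G)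
    (hx : orderOf x = 2) :
    ∃ R : Sylow 2 ↥(Subgroup.centralizer ({x} : Set G)), Nat.card R = Nat.card S ∧
      (∃ K : Subgroup ↥(Subgroup.centralizer ({x} : Set G)), K.Normal ∧ (∃ a : ℕ, K.index = 2 ^ a) ∧
        (∀ H : Subgroup ↥K, H.index ≠ 2) ∧
        (∀ P : Sylow 2 ↥K, ∃ m : ℕ, 1 ≤ m ∧
          Nonempty ((P : Subgroup ↥K) ≃* QuaternionGroup (2 ^ m)))) ∧
      (∀ Z₀ : Subgroup ↥(Subgroup.centralizer ({x} : Set G)),
        Z₀ ≤ ((Subgroup.center (R : Subgroup ↥(Subgroup.centralizer ({x} : Set G)))).map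
          (R : Subgroup ↥(Subgroup.centralizer ({x} : Set G))).subtype) →
        Cfsg.IsWeaklyClosed Z₀ (R : Subgroup ↥(Subgroup.centralizer ({x} : Set G)))) := by
  have hS' := hS
  obtain ⟨n, hn2, hcard, -⟩ := hS'
  have hcard' : Nat.card S = 2 ^ (2 * n + 1) := hcard
  have hpow : 2 * 2 ^ (n - 1) = 2 ^ n := by
    rw [← pow_succ']; congr 1; omega
  obtain ⟨W₀, hW₀⟩ := exists_wrSylow' S hS n hcard' (2 * 2 ^ (n - 1)) hpow
  have h₁ := WrSylow.relIndex_U_six_of_no_index_two W₀ hG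
  have h₂ := WrSylow.relIndex_V_six_of_no_index_two W₀ hG 0
  have hconj := WrSylow.isConj_z1_of_involution W₀ h₁ 0 h₂ x hx
  obtain ⟨c, hc⟩ := isConj_iff.mp hconj.symm
  obtain ⟨W, hWz, hWS⟩ : ∃ W : WrSylow G (2 * 2 ^ (n - 1)) (2 ^ (n - 2)), W.z1 = x ∧
      Nat.card (W.S : Subgroup G) = Nat.card S := by
    refine ⟨W₀.conj c, hc, ?_⟩
    rw [← hW₀]
    exact Nat.card_congr ((W₀.conj c).equivS.symm.toEquiv.trans W₀.equivS.toEquiv)
  subst hWz
  obtain ⟨R, hR, ⟨K, hKn, hKi, hK2, hKP⟩, hZ⟩ := WrSylow.centralizer_z1 W hG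
  refine ⟨R, hR.trans hWS, ⟨K, hKn, ⟨n, by rw [hKi, hpow]⟩, hK2,
    fun P => ⟨n - 1, by omega, hKP P⟩⟩, hZ⟩

end Cfsg.Agent.Lib.Helper86_WrG
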