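import Mathlib
import Cfsg.Prelude.Def_CaseTheorems
import Cfsg.Agent.Lib.Helper21_SCNCDefs
import Cfsg.Agent.S1213
import Cfsg.Agent.Lib.Helper8_SCNC_NOSDCORE

/-!
# S3921, package NOSD: a simple `SCNC`-group has no quasi-dihedral Sylow 2-subgroup
-/

set_option autoImplicit false

namespace Cfsg.Agent.Lib.Helper21_SCNC_NOSD

open Cfsg.Agent.Lib.Helper21_SCNC

/-- a group isomorphic to a generalized quaternion group has at most one involution. -/
theorem quat_unique_invol {P : Type*} [Group P] {n : ℕ} (hn : 1 ≤ n)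
    (e : P ≃* QuaternionGroup n) {u v : P} (hu : orderOf u = 2) (hv : orderOf v = 2) : u = v := by
  have key : ∀ w : P, orderOf w = 2 → e w = QuaternionGroup.a (n : ZMod (2 * n)) := by
    intro w hw
    have h2 : e w * e w = 1 := by
      rw [← map_mul, ← pow_two, ← hw, pow_orderOf_eq_one, map_one]
    have h1 : e w ≠ 1 := by
      intro h
      have : w = 1 := by simpa using h
      rw [this, orderOf_one] at hw
      norm_num at hw
    rcases Cfsg.Agent.Lib.Helper86_Wreathed.quat_involution hn (e w) h2 with h | h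
    · exact absurd h h1
    · exact h
  exact e.injective ((key u hu).trans (key v hv).symm)

/-- a non-abelian simple group has no subgroup of index two. -/
theorem no_index_two {G : Type*} [Group G] [Finite G] [IsSimpleGroup G]
    (hna : ¬ IsMulCommutative G) : ∀ H : Subgroup G, H.index ≠ 2 := by
  intro H hH
  have hN : H.Normal := Subgroup.normal_of_index_eq_two hH
  rcases hN.eq_bot_or_eq_top with rfl | rfl
  · rw [Subgroup.index_bot] at hH
    apply hna
    have : Fact (Nat.Prime 2) := ⟨Nat.prime_two⟩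
    have hc : IsCyclic G := isCyclic_of_prime_card (p := 2) hH
    exact ⟨⟨fun a b => IsCyclic.commGroup.mul_comm a b⟩⟩
  · rw [Subgroup.index_top] at hH
    norm_num at hH

/-- a finite group without subgroups of index two whose order is divisible by `8` has an element
of odd prime order. -/
theorem exists_odd_prime_order {K : Type*} [Group K] [Finite K] (h2 : ∀ H : Subgroup K, H.index ≠ 2)
    (hnt : 1 < Nat.card K) : ∃ (r : ℕ) (x : K), r.Prime ∧ r ≠ 2 ∧ orderOf x = r := by
  have : Fact (Nat.Prime 2) := ⟨Nat.prime_two⟩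
  by_contra hcon
  push Not at hcon
  have hall : ∀ {d : ℕ}, d.Prime → d ∣ Nat.card K → d = 2 := by
    intro d hd hdvd
    by_contra hne
    have : Fact d.Prime := ⟨hd⟩
    obtain ⟨x, hx⟩ := exists_prime_orderOf_dvd_card' d hdvd
    exact hcon d x hd hne hx
  have hpow := Nat.eq_prime_pow_of_unique_prime_dvd (Nat.card_pos (α := K)).ne' hall
  set k := (Nat.card K).primeFactorsList.length with hk
  have hk1 : 1 ≤ k := by
    rcases Nat.eq_zero_or_pos k with h0 | h0
    · rw [h0, pow_zero] at hpow; omega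
    · exact h0
  obtain ⟨H, hH⟩ := Sylow.exists_subgroup_card_pow_prime 2 (n := k - 1)
    (by rw [hpow]; exact pow_dvd_pow 2 (by omega))
  apply h2 H
  have h3 := H.index_mul_card
  rw [hH, hpow] at h3
  have h4 : (2 : ℕ) ^ k = 2 * 2 ^ (k - 1) := by
    rw [← pow_succ']; congr 1; omega
  rw [h4] at h3
  exact Nat.eq_of_mul_eq_mul_right (by positivity) h3

theorem no_quasiDihedral {G : Type*} [Group G] [Finite G] [IsSimpleGroup G] (hna : ¬ IsMulCommutative G)
    (h : SCNC G) (S : Sylow 2 G) (hS : Cfsg.IsQuasiDihedral ↥(S : Subgroup G)) : False := by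
  classical
  have hSqd := hS
  obtain ⟨n, hn3, hcard, x, y, hx, hy, hxy⟩ := hS
  have : Fact (Nat.Prime 2) := ⟨Nat.prime_two⟩
  -- two distinct involutions `y`, `z` of `S`
  obtain ⟨m, rfl⟩ : ∃ m, n = m + 1 := ⟨n - 1, by omega⟩
  have hm2 : 2 ≤ m := by omega
  have h4 : 4 ≤ 2 ^ m := by
    calc 4 = 2 ^ 2 := by norm_num
      _ ≤ 2 ^ m := Nat.pow_le_pow_right (by norm_num) hm2
  simp only [Nat.add_sub_cancel] at hxy
  set z : ↥(S : Subgroup G) := x ^ (2 ^ m) with hzdef
  have hz : orderOf z = 2 := by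
    rw [hzdef, orderOf_pow_of_dvd (by positivity) (by rw [hx]; exact pow_dvd_pow 2 (by omega)), hx,
      pow_succ]
    exact Nat.mul_div_cancel_left 2 (by positivity)
  have hyz : y ≠ z := by
    intro hyz
    have hcomm : y * x = x * y := by
      rw [hyz, hzdef, ← pow_succ, ← pow_succ']
    have h1 : x ^ (2 ^ m - 1) = x ^ 1 := by
      rw [← hxy, hcomm, mul_inv_cancel_right, pow_one]
    rw [pow_eq_pow_iff_modEq, hx, Nat.ModEq, pow_succ, Nat.mod_eq_of_lt (by omega),
      Nat.mod_eq_of_lt (by omega)] at h1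
    omega
  -- a central involution of `S`
  have hSp : IsPGroup 2 ↥(S : Subgroup G) := S.isPGroup'
  have hSnt : Nontrivial ↥(S : Subgroup G) := by
    have : 1 < Nat.card ↥(S : Subgroup G) := by
      rw [hcard]; exact Nat.one_lt_two_pow (by omega)
    exact Finite.one_lt_card_iff_nontrivial.mp this
  have hZnt : Nontrivial ↥(Subgroup.center ↥(S : Subgroup G)) := hSp.center_nontrivial
  have h2dvd : 2 ∣ Nat.card ↥(Subgroup.center ↥(S : Subgroup G)) := by
    have hZp : IsPGroup 2 ↥(Subgroup.center ↥(S : Subgroup G)) := hSp.to_subgroup _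
    obtain ⟨k, hk⟩ := hZp.exists_card_eq
    have : 1 < Nat.card ↥(Subgroup.center ↥(S : Subgroup G)) :=
      Finite.one_lt_card_iff_nontrivial.mpr hZnt
    rw [hk] at this ⊢
    rcases k with _ | k
    · simp at this
    · exact ⟨2 ^ k, by ring⟩
  obtain ⟨z₀, hz₀⟩ := exists_prime_orderOf_dvd_card' 2 h2dvd
  set t : G := ((z₀ : ↥(S : Subgroup G)) : G) with htdef
  have ht : orderOf t = 2 := by
    rw [htdef, Subgroup.orderOf_coe, Subgroup.orderOf_coe]; exact hz₀
  have htZ : ∀ s ∈ (S : Subgroup G), s * t = t * s := by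
    intro s hs
    have := Subgroup.mem_center_iff.mp z₀.2 ⟨s, hs⟩
    exact congrArg Subtype.val this
  -- a second involution `b ∈ S`
  obtain ⟨b₀, hb₀, hb₀t⟩ : ∃ b₀ : ↥(S : Subgroup G), orderOf b₀ = 2 ∧ b₀ ≠ (z₀ : ↥(S : Subgroup G)) := by
    by_cases hyt : y = (z₀ : ↥(S : Subgroup G))
    · exact ⟨z, hz, fun hzt => hyz (hyt.trans hzt.symm)⟩
    · exact ⟨y, hy, hyt⟩
  set b : G := (b₀ : G) with hbdef
  have hb : orderOf b = 2 := by rw [hbdef, Subgroup.orderOf_coe]; exact hb₀
  have hbt : b ≠ t := fun hbt => hb₀t (Subtype.ext hbt)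
  -- the centralizer of `t`
  set C := Subgroup.centralizer ({t} : Set G) with hC
  have hSC : (S : Subgroup G) ≤ C := by
    intro s hs
    rw [hC, Subgroup.mem_centralizer_iff]
    intro w hw; rw [Set.mem_singleton_iff] at hw; subst hw; exact (htZ s hs).symm
  have htC : t ∈ C := by
    rw [hC, Subgroup.mem_centralizer_iff]
    intro w hw; rw [Set.mem_singleton_iff] at hw; subst hw; rfl
  have hbC : b ∈ C := hSC b₀.2
  obtain ⟨R, hR, ⟨K, hKn, -, hK2, hKq⟩, -⟩ :=
    Cfsg.Agent.S1213.result S (Or.inl hSqd) (no_index_two hna) t ht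
  have hCs : SCNC ↥C := h.subgroup C
  set t' : ↥C := ⟨t, htC⟩ with ht'def
  set b' : ↥C := ⟨b, hbC⟩ with hb'def
  have ht' : orderOf t' = 2 := by rw [← ht]; exact Subgroup.orderOf_mk t htC
  have hb' : orderOf b' = 2 := by rw [← hb]; exact Subgroup.orderOf_mk b hbC
  have hb't' : b' ≠ t' := fun hh => hbt (show b = t from congrArg (fun w : ↥C => (w : G)) hh)
  have htZ' : ∀ c : ↥C, c * t' = t' * c := by
    intro c
    apply Subtype.ext
    have := Subgroup.mem_centralizer_iff.mp c.2 t (Set.mem_singleton t)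
    exact this.symm
  -- (i) the only involution of `K` is `t'`
  have hK1 : ∀ u ∈ K, orderOf u = 2 → u = t' := by
    intro u huK hu2
    by_contra hne
    have hup : IsPGroup 2 ↥(Subgroup.zpowers (⟨u, huK⟩ : ↥K)) :=
      IsPGroup.of_card (n := 1) (by rw [Nat.card_zpowers, Subgroup.orderOf_mk, hu2]; norm_num)
    obtain ⟨P, hP⟩ := hup.exists_le_sylow
    obtain ⟨k, hk, ⟨e⟩⟩ := hKq P
    have huP : (⟨u, huK⟩ : ↥K) ∈ (P : Subgroup ↥K) := hP (Subgroup.mem_zpowers _)
    have hPp : IsPGroup 2 ↥((P : Subgroup ↥K).map K.subtype) := P.isPGroup'.map _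
    obtain ⟨R₁, hR₁⟩ := hPp.exists_le_sylow
    have hPeq : (R₁ : Subgroup ↥C).comap K.subtype = (P : Subgroup ↥K) := by
      apply P.is_maximal'
      · exact R₁.isPGroup'.comap_subtype
      · intro g hg; exact hR₁ ⟨g, hg, rfl⟩
    have huR : u ∈ (R₁ : Subgroup ↥C) := hR₁ ⟨⟨u, huK⟩, huP, rfl⟩
    have hcent : ∀ g ∈ (R₁ : Subgroup ↥C), g * u * g⁻¹ = u := by
      intro g hg
      have h1 : g * u * g⁻¹ ∈ K := hKn.conj_mem u huK g
      have h2 : g * u * g⁻¹ ∈ (R₁ : Subgroup ↥C) := mul_mem (mul_mem hg huR) (inv_mem hg)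
      have h3 : (⟨g * u * g⁻¹, h1⟩ : ↥K) ∈ (P : Subgroup ↥K) := by rw [← hPeq]; exact h2
      have ho : orderOf (g * u * g⁻¹) = 2 := by
        rw [← hu2]
        exact orderOf_injective (MulAut.conj g).toMonoidHom (MulAut.conj g).injective u
      have := quat_unique_invol (Nat.one_le_two_pow (n := k)) e (u := (⟨⟨u, huK⟩, huP⟩ : ↥(P : Subgroup ↥K)))
        (v := (⟨⟨g * u * g⁻¹, h1⟩, h3⟩ : ↥(P : Subgroup ↥K)))
        (by rw [Subgroup.orderOf_mk, Subgroup.orderOf_mk]; exact hu2)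
        (by rw [Subgroup.orderOf_mk, Subgroup.orderOf_mk]; exact ho)
      exact (congrArg (fun w : ↥(P : Subgroup ↥K) => (((w : ↥K)) : ↥C)) this).symm
    have hle : (R₁ : Subgroup ↥C) ≤ Subgroup.closure ({t', u} : Set ↥C) := by
      refine le_trans ?_ (hCs.centralizer_inf_le ht' hu2 (Ne.symm hne))
      intro g hg
      refine Subgroup.mem_inf.mpr ⟨?_, ?_⟩
      · rw [Subgroup.mem_centralizer_iff]
        intro w hw; rw [Set.mem_singleton_iff] at hw; subst hw; exact (htZ' g).symm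
      · rw [Subgroup.mem_centralizer_iff]
        intro w hw; rw [Set.mem_singleton_iff] at hw; subst hw
        have := hcent g hg
        rw [mul_inv_eq_iff_eq_mul] at this
        exact this.symm
    have hc4 : Nat.card ↥(Subgroup.closure ({t', u} : Set ↥C)) = 4 :=
      card_closure_pair ht' hu2 (Ne.symm hne) (htZ' u).symm
    have hR₁4 : Nat.card ↥(R₁ : Subgroup ↥C) ≤ 4 := by
      rw [← hc4]; exact Subgroup.card_le_of_le hle
    have hR₁S : Nat.card ↥(R₁ : Subgroup ↥C) = Nat.card ↥(S : Subgroup G) := by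
      rw [← hR, R₁.card_eq_multiplicity, R.card_eq_multiplicity]
    rw [hR₁S, hcard] at hR₁4
    have : 2 ^ (m + 1 + 1) = 4 * 2 ^ m := by ring
    omega
  -- (ii) an element of odd prime order in `K`
  have hKcard : 1 < Nat.card ↥K := by
    obtain ⟨P⟩ : Nonempty (Sylow 2 ↥K) := inferInstance
    obtain ⟨k, hk, ⟨e⟩⟩ := hKq P
    have h1 : Nat.card ↥(P : Subgroup ↥K) = 4 * 2 ^ k := by
      rw [Nat.card_congr e.toEquiv, Nat.card_eq_fintype_card, QuaternionGroup.card]
    have h2 : Nat.card ↥(P : Subgroup ↥K) ≤ Nat.card ↥K := Subgroup.card_le_card_group _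
    have : 0 < 2 ^ k := by positivity
    omega
  obtain ⟨r, x₀, hr, hr2, hx₀⟩ := exists_odd_prime_order hK2 hKcard
  have hxo : orderOf ((x₀ : ↥K) : ↥C) = r := by rw [Subgroup.orderOf_coe]; exact hx₀
  -- (iii) `b' ∉ K`
  have hbK : b' ∉ K := fun hbK => hb't' (hK1 b' hbK hb')
  -- (iv) `t' ∈ K`
  have htK : t' ∈ K := by
    obtain ⟨P⟩ : Nonempty (Sylow 2 ↥K) := inferInstance
    obtain ⟨k, hk, ⟨e⟩⟩ := hKq P
    have h1 : Nat.card ↥(P : Subgroup ↥K) = 4 * 2 ^ k := by
      rw [Nat.card_congr e.toEquiv, Nat.card_eq_fintype_card, QuaternionGroup.card]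
    have h2 : 2 ∣ Nat.card ↥(P : Subgroup ↥K) := by
      rw [h1]; exact ⟨2 * 2 ^ k, by ring⟩
    obtain ⟨u, hu⟩ := exists_prime_orderOf_dvd_card' 2 h2
    have hu' : orderOf (((u : ↥K)) : ↥C) = 2 := by
      rw [Subgroup.orderOf_coe, Subgroup.orderOf_coe]; exact hu
    have := hK1 _ (u : ↥K).2 hu'
    rw [← this]
    exact (u : ↥K).2
  have := hKn
  exact Cfsg.Agent.Lib.Helper8_SCNC_NOSDCORE.nosd_core hCs t' ht' htZ' K hK1 htK (x₀ : ↥C) x₀.2 r hr
    hr2 hxo b' hb' hbK

end Cfsg.Agent.Lib.Helper21_SCNC_NOSD
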