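import Mathlib
import Cfsg.Agent.Lib.Helper42_SL2Class2
import Cfsg.Agent.Lib.Helper42_PSL2Syl2
import Cfsg.Agent.Lib.Helper41_SL2Torus

/-!
# S3921 package PSLC (helper42): centralizers of non-identity elements of `PSL₂(q)`,
`q = 4, 9` or a prime `2^k ± 1`
-/

set_option autoImplicit false
set_option linter.unusedSectionVars false
set_option linter.unusedVariables false

open Matrix
open Cfsg.Agent.Lib.Helper42_SL2Class Cfsg.Agent.Lib.Helper42_PSL2Klein
  Cfsg.Agent.Lib.Helper42_PSL2Syl2 Cfsg.Agent.Lib.Helper42_DihSyl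

namespace Cfsg.Agent.Lib.Helper42_SCNC_PSLC

section group

/-- centralizers of conjugate elements: cyclicity is transported -/
theorem isCyclic_centralizer_conj {G : Type*} [Group G] (y U : G)
    (h : IsCyclic ↥(Subgroup.centralizer ({y} : Set G))) :
    IsCyclic ↥(Subgroup.centralizer ({U * y * U⁻¹} : Set G)) := by
  let f : ↥(Subgroup.centralizer ({U * y * U⁻¹} : Set G)) →*
      ↥(Subgroup.centralizer ({y} : Set G)) :=
    { toFun := fun c => ⟨U⁻¹ * c.1 * U, by
        rw [Subgroup.mem_centralizer_singleton_iff]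
        have hc := Subgroup.mem_centralizer_singleton_iff.mp c.2
        have e1 : U⁻¹ * c.1 * U * y = U⁻¹ * (c.1 * (U * y * U⁻¹)) * U := by group
        rw [e1, hc]
        group⟩
      map_one' := by
        apply Subtype.ext
        simp
      map_mul' := by
        intro a b
        apply Subtype.ext
        simp only [Subgroup.coe_mul]
        group }
  have hf : Function.Injective f := by
    intro a b hab
    have h1 : U⁻¹ * a.1 * U = U⁻¹ * b.1 * U := congrArg Subtype.val hab
    apply Subtype.ext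
    have h2 : a.1 = U * (U⁻¹ * a.1 * U) * U⁻¹ := by group
    rw [h2, h1]
    group
  exact isCyclic_of_injective f hf

end group

section sl

variable {F : Type*} [Field F] [Fintype F]

/-- the diagonal element `diag(r, r⁻¹)` -/
def dg (r : Fˣ) : SpecialLinearGroup (Fin 2) F :=
  ⟨!![(r : F), 0; 0, ((r⁻¹ : Fˣ) : F)], by simp [Matrix.det_fin_two]⟩

theorem dg_coe (r : Fˣ) : (dg r).1 = !![(r : F), 0; 0, ((r⁻¹ : Fˣ) : F)] := rfl

theorem trace_dg (r : Fˣ) : Matrix.trace (dg r).1 = (r : F) + ((r⁻¹ : Fˣ) : F) := by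
  rw [dg_coe, Matrix.trace_fin_two]
  simp

theorem offdiag_of_mem_cent_dg (r : Fˣ) (hr : (r : F) ≠ ((r⁻¹ : Fˣ) : F))
    (c : SpecialLinearGroup (Fin 2) F)
    (hc : c ∈ Subgroup.centralizer ({dg r} : Set (SpecialLinearGroup (Fin 2) F))) :
    c.1 0 1 = 0 ∧ c.1 1 0 = 0 := by
  have h := Subgroup.mem_centralizer_singleton_iff.mp hc
  have h' : c.1 * (dg r).1 = (dg r).1 * c.1 := congrArg Subtype.val h
  rw [dg_coe] at h'
  have h01 := congrFun (congrFun h' 0) 1
  have h10 := congrFun (congrFun h' 1) 0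
  simp [Matrix.mul_apply, Fin.sum_univ_two] at h01 h10
  have hne : (r : F) - ((r⁻¹ : Fˣ) : F) ≠ 0 := sub_ne_zero.2 hr
  constructor
  · have : c.1 0 1 * ((r : F) - ((r⁻¹ : Fˣ) : F)) = 0 := by
      rw [Units.val_inv_eq_inv_val]
      linear_combination -h01
    exact (mul_eq_zero.1 this).resolve_right hne
  · have : c.1 1 0 * ((r : F) - ((r⁻¹ : Fˣ) : F)) = 0 := by
      rw [Units.val_inv_eq_inv_val]
      linear_combination h10
    exact (mul_eq_zero.1 this).resolve_right hne

theorem isCyclic_cent_dg (r : Fˣ) (hr : (r : F) ≠ ((r⁻¹ : Fˣ) : F)) :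
    IsCyclic ↥(Subgroup.centralizer ({dg r} : Set (SpecialLinearGroup (Fin 2) F))) := by
  classical
  let f : ↥(Subgroup.centralizer ({dg r} : Set (SpecialLinearGroup (Fin 2) F))) →* F :=
    { toFun := fun c => c.1.1 0 0
      map_one' := by simp
      map_mul' := by
        intro a b
        have ha := offdiag_of_mem_cent_dg r hr a.1 a.2
        show (a.1.1 * b.1.1) 0 0 = a.1.1 0 0 * b.1.1 0 0
        rw [Matrix.mul_apply, Fin.sum_univ_two, ha.1]
        ring }
  have hf : Function.Injective f := by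
    intro a b hab
    have ha := offdiag_of_mem_cent_dg r hr a.1 a.2
    have hb := offdiag_of_mem_cent_dg r hr b.1 b.2
    have h00 : a.1.1 0 0 = b.1.1 0 0 := hab
    have hda := a.1.2
    have hdb := b.1.2
    rw [Matrix.det_fin_two, ha.1, ha.2] at hda
    rw [Matrix.det_fin_two, hb.1, hb.2] at hdb
    have ha0 : a.1.1 0 0 ≠ 0 := by
      intro h0
      rw [h0] at hda
      simp at hda
    have h11 : a.1.1 1 1 = b.1.1 1 1 := by
      have : a.1.1 0 0 * (a.1.1 1 1 - b.1.1 1 1) = 0 := by
        rw [h00] at hda ⊢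
        linear_combination hda - hdb
      have := (mul_eq_zero.1 this).resolve_left ha0
      exact sub_eq_zero.1 this
    apply Subtype.ext
    apply Subtype.ext
    ext i j
    fin_cases i <;> fin_cases j
    · exact h00
    · show a.1.1 0 1 = b.1.1 0 1
      rw [ha.1, hb.1]
    · show a.1.1 1 0 = b.1.1 1 0
      rw [ha.2, hb.2]
    · exact h11
  exact isCyclic_of_injective_ringHom f hf

/-- the centralizer in `SL₂(F)` of an element whose trace `τ` has `τ² ≠ 4` is cyclic -/
theorem isCyclic_cent_SL (g : SpecialLinearGroup (Fin 2) F)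
    (hτ : (Matrix.trace g.1) ^ 2 ≠ 4) :
    IsCyclic ↥(Subgroup.centralizer ({g} : Set (SpecialLinearGroup (Fin 2) F))) := by
  classical
  obtain ⟨τ, hτdef⟩ : ∃ τ : F, τ = Matrix.trace g.1 := ⟨_, rfl⟩
  rw [← hτdef] at hτ
  by_cases hroot : ∃ r : F, r ^ 2 = -1 + τ * r
  · obtain ⟨r, hr⟩ := hroot
    have hr0 : r ≠ 0 := by
      rintro rfl
      have : (1 : F) = 0 := by linear_combination hr
      exact one_ne_zero this
    obtain ⟨ru, hru⟩ : ∃ ru : Fˣ, (ru : F) = r := ⟨Units.mk0 r hr0, rfl⟩
    have hrinv : ((ru⁻¹ : Fˣ) : F) = τ - r := by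
      rw [Units.val_inv_eq_inv_val, hru]
      field_simp
      linear_combination hr
    have htr : Matrix.trace g.1 = Matrix.trace (dg ru).1 := by
      rw [trace_dg, hrinv, hru, ← hτdef]
      ring
    obtain ⟨U, hU⟩ := Cfsg.Agent.Lib.Helper41_SL2Conj.conj_of_trace_eq g (dg ru) htr
      (by rw [← htr, ← hτdef]; exact hτ)
    have hne : (ru : F) ≠ ((ru⁻¹ : Fˣ) : F) := by
      rw [hrinv, hru]
      intro h
      apply hτ
      have h2 : τ = 2 * r := by linear_combination -h
      rw [h2]
      have : r ^ 2 = 1 := by rw [h2] at hr; linear_combination -hr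
      linear_combination 4 * this
    rw [hU]
    exact isCyclic_centralizer_conj (dg ru) U (isCyclic_cent_dg ru hne)
  · push Not at hroot
    have : Fact (∀ r : F, r ^ 2 ≠ -1 + τ * r) := ⟨hroot⟩
    obtain ⟨z, hz, htrz⟩ :=
      Cfsg.Agent.Lib.Helper41_SL2Torus.exists_norm_one_trace (-1 : F) τ τ hroot
    obtain ⟨g₀, hg₀⟩ : ∃ g₀ : SpecialLinearGroup (Fin 2) F,
        g₀ = Cfsg.Agent.Lib.Helper41_SL2.torusElt (-1 : F) τ z hz := ⟨_, rfl⟩
    have hg₀coe : (g₀ : Matrix (Fin 2) (Fin 2) F) = Cfsg.Agent.Lib.Helper41_SL2.toMat (-1 : F) τ z := by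
      rw [hg₀]; rfl
    have htr : Matrix.trace g.1 = Matrix.trace g₀.1 := by
      show _ = Matrix.trace (g₀ : Matrix (Fin 2) (Fin 2) F)
      rw [hg₀coe, Cfsg.Agent.Lib.Helper41_SL2Torus.trace_toMat, htrz, hτdef]
    obtain ⟨U, hU⟩ := Cfsg.Agent.Lib.Helper41_SL2Conj.conj_of_trace_eq g g₀ htr
      (by rw [← htr, ← hτdef]; exact hτ)
    have h1 : (g₀ : Matrix (Fin 2) (Fin 2) F) ≠ 1 := by
      intro h
      apply hτ
      have : τ = 2 := by
        rw [hτdef, htr]
        show Matrix.trace (g₀ : Matrix (Fin 2) (Fin 2) F) = 2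
        rw [h, Matrix.trace_one]
        simp
      rw [this]; norm_num
    have h1' : (g₀ : Matrix (Fin 2) (Fin 2) F) ≠ -1 := by
      intro h
      apply hτ
      have : τ = -2 := by
        rw [hτdef, htr]
        show Matrix.trace (g₀ : Matrix (Fin 2) (Fin 2) F) = -2
        rw [h, Matrix.trace_neg, Matrix.trace_one]
        simp
      rw [this]; norm_num
    have hmem : g₀ ∈ Cfsg.Agent.Lib.Helper41_SL2Torus.nsTorus (-1 : F) τ := by
      rw [hg₀]; exact Cfsg.Agent.Lib.Helper41_SL2Torus.torusElt_mem (-1 : F) τ z hz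
    have hcent := Cfsg.Agent.Lib.Helper41_SL2Torus.centralizer_eq (-1 : F) τ g₀ hmem h1 h1'
    have hcyc : IsCyclic ↥(Subgroup.centralizer ({g₀} : Set (SpecialLinearGroup (Fin 2) F))) := by
      rw [hcent]
      exact Cfsg.Agent.Lib.Helper41_SL2Torus.isCyclic_nsTorus (F := F) (-1 : F) τ
    rw [hU]
    exact isCyclic_centralizer_conj g₀ U hcyc

end sl

section psl

variable {F : Type*} [Field F] [Fintype F]

local notation "PSL2" => ProjectiveSpecialLinearGroup (Fin 2) F

theorem not_isSc_of_proj_ne_one (A : SpecialLinearGroup (Fin 2) F) (h : proj A ≠ 1) :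
    ¬ IsSc A.1 := by
  intro hg
  apply h
  change (QuotientGroup.mk A : _ ⧸ Subgroup.center (SpecialLinearGroup (Fin 2) F)) = 1
  rw [QuotientGroup.eq_one_iff]
  apply Cfsg.Agent.Lib.Helper41_SL2.mem_center_of_scalar _ (A.1 0 0)
  obtain ⟨h01, h10, h00⟩ := hg
  ext i j
  fin_cases i <;> fin_cases j <;> simp [h01, h10, h00]

theorem card_even_of_two_eq_zero (h2 : (2 : F) = 0) : Fintype.card F % 2 = 0 := by
  have h' : ((2 : ℕ) : F) = 0 := by exact_mod_cast h2
  have := CharP.ringChar_of_prime_eq_zero Nat.prime_two h'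
  exact FiniteField.even_card_of_char_two this

theorem card_odd_of_two_ne_zero (h2 : (2 : F) ≠ 0) : Fintype.card F % 2 = 1 := by
  apply FiniteField.odd_card_of_char_ne_two
  intro h
  apply h2
  have : CharP F 2 := by rw [← h]; exact ringChar.charP F
  exact CharTwo.two_eq_zero

theorem card_psl_char_two (h2 : (2 : F) = 0) :
    Nat.card PSL2 = Fintype.card F * (Fintype.card F ^ 2 - 1) := by
  have h1 := Cfsg.Agent.Lib.Helper5_PSLCard.card_PSL_mul (F := F) 2 (by norm_num)
  rw [Cfsg.Agent.Lib.Helper5_PSLCard.card_SL_two] at h1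
  have he := card_even_of_two_eq_zero h2
  have hq : 2 ≤ Fintype.card F := Fintype.one_lt_card
  have hg : Nat.gcd (Fintype.card F - 1) 2 = 1 := by
    have hodd : (Fintype.card F - 1) % 2 = 1 := by omega
    rw [Nat.gcd_comm, Nat.gcd_rec, hodd]
    norm_num
  rw [hg, mul_one] at h1
  exact h1

theorem two_mul_card_psl_odd (h2 : (2 : F) ≠ 0) :
    2 * Nat.card PSL2 = Fintype.card F * (Fintype.card F ^ 2 - 1) := by
  have h1 := Cfsg.Agent.Lib.Helper5_PSLCard.card_PSL_mul (F := F) 2 (by norm_num)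
  rw [Cfsg.Agent.Lib.Helper5_PSLCard.card_SL_two] at h1
  have ho := card_odd_of_two_ne_zero h2
  have hq : 2 ≤ Fintype.card F := Fintype.one_lt_card
  have hg : Nat.gcd (Fintype.card F - 1) 2 = 2 := by
    have hev : (Fintype.card F - 1) % 2 = 0 := by omega
    rw [Nat.gcd_comm, Nat.gcd_rec, hev]
    norm_num
  rw [hg] at h1
  rw [mul_comm]
  exact h1

/-- the centralizer of the image of a non-scalar `± unipotent` element has order `q` -/
theorem card_cent_unipotent (A : SpecialLinearGroup (Fin 2) F) (hA : ¬ IsSc A.1)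
    (hτ : (Matrix.trace A.1) ^ 2 = 4) :
    Nat.card ↥(Subgroup.centralizer ({proj A} : Set PSL2)) = Fintype.card F := by
  classical
  have hq : 2 ≤ Fintype.card F := Fintype.one_lt_card
  have hq2 : 0 < Fintype.card F ^ 2 - 1 := by
    have : 4 ≤ Fintype.card F ^ 2 := by nlinarith
    omega
  have hic := Subgroup.index_mul_card (Subgroup.centralizer ({proj A} : Set PSL2))
  by_cases h2 : (2 : F) = 0
  · have hi := index_psl_unipotent_char_two h2 A hA hτ
    rw [hi, card_psl_char_two h2, mul_comm (Fintype.card F)] at hic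
    exact Nat.eq_of_mul_eq_mul_left hq2 hic
  · have hi := two_mul_index_psl_unipotent_odd h2 A hA hτ
    have hc := two_mul_card_psl_odd (F := F) h2
    have : (Fintype.card F ^ 2 - 1) * Nat.card ↥(Subgroup.centralizer ({proj A} : Set PSL2)) =
        (Fintype.card F ^ 2 - 1) * Fintype.card F := by
      calc (Fintype.card F ^ 2 - 1) * Nat.card ↥(Subgroup.centralizer ({proj A} : Set PSL2))
          = 2 * (Subgroup.centralizer ({proj A} : Set PSL2)).index *
              Nat.card ↥(Subgroup.centralizer ({proj A} : Set PSL2)) := by rw [hi]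
        _ = 2 * ((Subgroup.centralizer ({proj A} : Set PSL2)).index *
              Nat.card ↥(Subgroup.centralizer ({proj A} : Set PSL2))) := by ring
        _ = 2 * Nat.card PSL2 := by rw [hic]
        _ = Fintype.card F * (Fintype.card F ^ 2 - 1) := hc
        _ = (Fintype.card F ^ 2 - 1) * Fintype.card F := by ring
    exact Nat.eq_of_mul_eq_mul_left hq2 this

theorem negS_eq_self (h2 : (2 : F) = 0) (v : SpecialLinearGroup (Fin 2) F) : negS v = v := by
  apply Subtype.ext
  rw [negS_coe]
  ext i j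
  simp only [Matrix.neg_apply]
  linear_combination (-(v.1 i j)) * h2

theorem trace_eq_zero_of_anti (h2 : (2 : F) ≠ 0) (a u : SpecialLinearGroup (Fin 2) F)
    (h : a * u = negS (u * a)) : Matrix.trace a.1 = 0 := by
  classical
  have h1 : u⁻¹ * a * u⁻¹⁻¹ = negS a := by
    rw [inv_inv, mul_assoc, h, mul_negS, ← mul_assoc, inv_mul_cancel, one_mul]
  have h3 := Cfsg.Agent.Lib.Helper42_SL2Class.trace_conj u⁻¹ a
  rw [h1, trace_negS] at h3
  have : (2 : F) * Matrix.trace a.1 = 0 := by linear_combination -h3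
  exact (mul_eq_zero.1 this).resolve_left h2

theorem isCyclic_torus (A : SpecialLinearGroup (Fin 2) F) (hτ : (Matrix.trace A.1) ^ 2 ≠ 4) :
    IsCyclic ↥(torus A) := by
  have := isCyclic_cent_SL A hτ
  exact isCyclic_of_surjective
    ((proj (F := F)).subgroupMap (Subgroup.centralizer ({A} : Set (SpecialLinearGroup (Fin 2) F))))
    (MonoidHom.subgroupMap_surjective _ _)

theorem torus_le_centralizer (A : SpecialLinearGroup (Fin 2) F) :
    torus A ≤ Subgroup.centralizer ({proj A} : Set PSL2) := by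
  rintro t ⟨v, hv, rfl⟩
  have hv' : v * A = A * v := Subgroup.mem_centralizer_singleton_iff.mp hv
  rw [Subgroup.mem_centralizer_singleton_iff]
  rw [← map_mul, ← map_mul, hv']

/-- semisimple non-involution: the centralizer is the torus -/
theorem centralizer_eq_torus (A : SpecialLinearGroup (Fin 2) F)
    (h : (2 : F) = 0 ∨ Matrix.trace A.1 ≠ 0) :
    Subgroup.centralizer ({proj A} : Set PSL2) = torus A := by
  apply le_antisymm
  · intro c hc
    obtain ⟨u, rfl⟩ := proj_surjective c
    have hc' := Subgroup.mem_centralizer_singleton_iff.mp hc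
    rcases comm_cases A u hc' with h1 | h1
    · exact (mem_torus_iff A u).mpr h1
    · rcases h with h2 | hτ
      · rw [negS_eq_self h2] at h1
        exact (mem_torus_iff A u).mpr h1.symm
      · by_cases h2 : (2 : F) = 0
        · rw [negS_eq_self h2] at h1
          exact (mem_torus_iff A u).mpr h1.symm
        · exact absurd (trace_eq_zero_of_anti h2 A u h1) hτ
  · exact torus_le_centralizer A

/-- the order of the centralizer of an involution of `PSL₂(q)`, `q` odd -/
theorem card_cent_invol (h2 : (2 : F) ≠ 0) (A : SpecialLinearGroup (Fin 2) F)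
    (hτ : Matrix.trace A.1 = 0) :
    (IsSquare (-1 : F) →
      Nat.card ↥(Subgroup.centralizer ({proj A} : Set PSL2)) = Fintype.card F - 1) ∧
    (¬ IsSquare (-1 : F) →
      Nat.card ↥(Subgroup.centralizer ({proj A} : Set PSL2)) = Fintype.card F + 1) := by
  classical
  have hq : 2 ≤ Fintype.card F := Fintype.one_lt_card
  have hic := Subgroup.index_mul_card (Subgroup.centralizer ({proj A} : Set PSL2))
  have hi := two_mul_index_psl_trace_zero h2 A hτ
  have hc := two_mul_card_psl_odd (F := F) h2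
  have key : (Fintype.card F * (Fintype.card F - 1) + Fintype.card F * R (0 : F)) *
      Nat.card ↥(Subgroup.centralizer ({proj A} : Set PSL2)) =
      Fintype.card F * (Fintype.card F ^ 2 - 1) := by
    rw [← hi, mul_assoc, hic, hc]
  obtain ⟨k, hk⟩ : ∃ k, Fintype.card F = k + 2 := ⟨Fintype.card F - 2, by omega⟩
  rw [hk] at key ⊢
  have e1 : k + 2 - 1 = k + 1 := by omega
  have e2 : (k + 2) ^ 2 - 1 = (k + 1) * (k + 3) := by
    have : (k + 2) ^ 2 = (k + 1) * (k + 3) + 1 := by ring
    omega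
  rw [e1, e2] at key
  constructor
  · intro hs
    rw [R_zero_of_isSquare h2 hs] at key
    have : ((k + 2) * (k + 3)) * Nat.card ↥(Subgroup.centralizer ({proj A} : Set PSL2)) =
        ((k + 2) * (k + 3)) * (k + 1) := by
      calc ((k + 2) * (k + 3)) * Nat.card ↥(Subgroup.centralizer ({proj A} : Set PSL2))
          = ((k + 2) * (k + 1) + (k + 2) * 2) *
            Nat.card ↥(Subgroup.centralizer ({proj A} : Set PSL2)) := by ring
        _ = (k + 2) * ((k + 1) * (k + 3)) := key
        _ = ((k + 2) * (k + 3)) * (k + 1) := by ring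
    rw [e1]
    exact Nat.eq_of_mul_eq_mul_left (by positivity) this
  · intro hs
    rw [R_zero_of_not_isSquare hs] at key
    have : ((k + 2) * (k + 1)) * Nat.card ↥(Subgroup.centralizer ({proj A} : Set PSL2)) =
        ((k + 2) * (k + 1)) * (k + 2 + 1) := by
      calc ((k + 2) * (k + 1)) * Nat.card ↥(Subgroup.centralizer ({proj A} : Set PSL2))
          = ((k + 2) * (k + 1) + (k + 2) * 0) *
            Nat.card ↥(Subgroup.centralizer ({proj A} : Set PSL2)) := by ring
        _ = (k + 2) * ((k + 1) * (k + 3)) := key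
        _ = ((k + 2) * (k + 1)) * (k + 2 + 1) := by ring
    exact Nat.eq_of_mul_eq_mul_left (by positivity) this

theorem two_pow_mod_four (j : ℕ) : 2 ^ (j + 2) % 4 = 0 := by
  have : 2 ^ (j + 2) = 4 * 2 ^ j := by ring
  rw [this]
  exact Nat.mul_mod_right 4 _

/-- for `q` in the list the centralizer of an involution is a `2`-group -/
theorem card_cent_invol_pow_two (h2 : (2 : F) ≠ 0) (A : SpecialLinearGroup (Fin 2) F)
    (hτ : Matrix.trace A.1 = 0)
    (hq : Fintype.card F = 4 ∨ Fintype.card F = 9 ∨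
      ((Fintype.card F).Prime ∧ ∃ k : ℕ, Fintype.card F = 2 ^ k + 1 ∨ Fintype.card F = 2 ^ k - 1)) :
    ∃ n : ℕ, Nat.card ↥(Subgroup.centralizer ({proj A} : Set PSL2)) = 2 ^ n := by
  have ho := card_odd_of_two_ne_zero h2
  obtain ⟨hs1, hs2⟩ := card_cent_invol h2 A hτ
  have hsq := FiniteField.isSquare_neg_one_iff (F := F)
  have hq2 : 2 ≤ Fintype.card F := Fintype.one_lt_card
  rcases hq with h4 | h9 | ⟨hp, k, hk | hk⟩
  · omega
  · have : IsSquare (-1 : F) := hsq.2 (by omega)
    exact ⟨3, by rw [hs1 this, h9]; norm_num⟩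
  · by_cases h3 : Fintype.card F % 4 = 3
    · have hns : ¬ IsSquare (-1 : F) := fun h => (hsq.1 h) h3
      rw [hs2 hns]
      -- k = 1
      have hk1 : k = 1 := by
        rcases k with _ | _ | j
        · have h0 : Fintype.card F = 2 := by rw [hk]; norm_num
          omega
        · rfl
        · exfalso
          have := two_pow_mod_four j
          omega
      subst hk1
      exact ⟨2, by rw [hk]; norm_num⟩
    · have hs : IsSquare (-1 : F) := hsq.2 h3
      rw [hs1 hs]
      exact ⟨k, by rw [hk]; omega⟩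
  · have hpos : 1 ≤ 2 ^ k := Nat.one_le_two_pow
    by_cases h3 : Fintype.card F % 4 = 3
    · have hns : ¬ IsSquare (-1 : F) := fun h => (hsq.1 h) h3
      rw [hs2 hns]
      exact ⟨k, by rw [hk]; omega⟩
    · exfalso
      rcases k with _ | _ | j
      · have h0 : Fintype.card F = 0 := by rw [hk]; norm_num
        omega
      · have h1 : Fintype.card F = 1 := by rw [hk]; norm_num
        omega
      · have := two_pow_mod_four j
        omega

end psl

section dih

theorem card_le_two_mul {Γ : Type*} [Group Γ] [Finite Γ] {z : Γ} {T : Subgroup Γ}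
    (h : DihCent z T) :
    Nat.card ↥(Subgroup.centralizer ({z} : Set Γ)) ≤ 2 * Nat.card ↥T := by
  classical
  obtain ⟨w, hwz, hwT⟩ := h.out
  have hsub : ((Subgroup.centralizer ({z} : Set Γ) : Subgroup Γ) : Set Γ) ⊆
      (T : Set Γ) ∪ (fun t => w⁻¹ * t) '' (T : Set Γ) := by
    intro c hc
    have hc' : c * z = z * c := Subgroup.mem_centralizer_singleton_iff.mp hc
    by_cases hcT : c ∈ T
    · exact Or.inl hcT
    · right
      exact ⟨w * c, h.mul w c hwz hc' hwT hcT, by group⟩
  have h1 : Nat.card ↥(Subgroup.centralizer ({z} : Set Γ)) =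
      ((Subgroup.centralizer ({z} : Set Γ) : Subgroup Γ) : Set Γ).ncard :=
    (Nat.card_coe_set_eq _)
  have h2 : Nat.card ↥T = (T : Set Γ).ncard := (Nat.card_coe_set_eq _)
  rw [h1, h2]
  calc ((Subgroup.centralizer ({z} : Set Γ) : Subgroup Γ) : Set Γ).ncard
      ≤ ((T : Set Γ) ∪ (fun t => w⁻¹ * t) '' (T : Set Γ)).ncard :=
        Set.ncard_le_ncard hsub (Set.toFinite _)
    _ ≤ (T : Set Γ).ncard + ((fun t => w⁻¹ * t) '' (T : Set Γ)).ncard := Set.ncard_union_le _ _
    _ ≤ (T : Set Γ).ncard + (T : Set Γ).ncard :=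
        Nat.add_le_add_left (Set.ncard_image_le (Set.toFinite _)) _
    _ = 2 * (T : Set Γ).ncard := by ring

end dih

/-- **S3921-PSLC.** -/
theorem psl2_cent_cases {F : Type*} [Field F] [Fintype F]
    (hq : Fintype.card F = 4 ∨ Fintype.card F = 9 ∨
      ((Fintype.card F).Prime ∧ ∃ k : ℕ, Fintype.card F = 2 ^ k + 1 ∨ Fintype.card F = 2 ^ k - 1))
    (x : Matrix.ProjectiveSpecialLinearGroup (Fin 2) F) (hx : x ≠ 1) :
    IsCyclic ↥(Subgroup.centralizer ({x} : Set (Matrix.ProjectiveSpecialLinearGroup (Fin 2) F))) ∨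
    (∃ p : ℕ, p.Prime ∧
      Nat.card ↥(Subgroup.centralizer ({x} : Set (Matrix.ProjectiveSpecialLinearGroup (Fin 2) F))) = p ^ 2) ∨
    (orderOf x = 2 ∧ ∃ T : Subgroup (Matrix.ProjectiveSpecialLinearGroup (Fin 2) F),
      T ≤ Subgroup.centralizer ({x} : Set (Matrix.ProjectiveSpecialLinearGroup (Fin 2) F)) ∧ IsCyclic ↥T ∧
        IsPGroup 2 ↥T ∧ x ∈ T ∧
        Nat.card ↥(Subgroup.centralizer ({x} : Set (Matrix.ProjectiveSpecialLinearGroup (Fin 2) F))) ≤
          2 * Nat.card ↥T) := by
  classical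
  obtain ⟨A, rfl⟩ := proj_surjective x
  have hA := not_isSc_of_proj_ne_one A hx
  by_cases hτ : (Matrix.trace A.1) ^ 2 = 4
  · -- ± unipotent
    have hc := card_cent_unipotent A hA hτ
    rcases hq with h4 | h9 | ⟨hp, _⟩
    · right; left
      exact ⟨2, Nat.prime_two, by rw [hc, h4]; norm_num⟩
    · right; left
      exact ⟨3, Nat.prime_three, by rw [hc, h9]; norm_num⟩
    · left
      have : Fact (Fintype.card F).Prime := ⟨hp⟩
      exact isCyclic_of_prime_card hc
  · by_cases h : (2 : F) = 0 ∨ Matrix.trace A.1 ≠ 0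
    · -- semisimple, not an involution
      left
      rw [centralizer_eq_torus A h]
      exact isCyclic_torus A hτ
    · -- involution
      push Not at h
      obtain ⟨h2, hτ0⟩ := h
      right; right
      have hd := dihCent h2 A hτ0
      have : Fact (Nat.Prime 2) := ⟨Nat.prime_two⟩
      refine ⟨orderOf_eq_prime (by rw [pow_two]; exact hd.z_sq) hd.z_ne, torus A,
        torus_le_centralizer A, isCyclic_torus A hτ, ?_, ?_, card_le_two_mul hd⟩
      · obtain ⟨n, hn⟩ := card_cent_invol_pow_two h2 A hτ0 hq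
        exact (IsPGroup.of_card hn).to_le (torus_le_centralizer A)
      · exact (mem_torus_iff A A).mpr rfl

end Cfsg.Agent.Lib.Helper42_SCNC_PSLC
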