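import Mathlib
import Cfsg.Prelude.Def_CaseTheorems
import Cfsg.Agent.Lib.Helper21_SCNCDefs
import Cfsg.Agent.S0811
import Cfsg.Agent.S0812
import Cfsg.Agent.S3920

set_option autoImplicit false
open Cfsg.Agent.Lib.Helper21_SCNC

/-!
# S3921-LIST: `SCNC (PSL₂(q))`, `q` odd  ⇒  `q = 9` or `q` is a prime of the form `2^k ± 1`
-/

namespace Cfsg.Agent.Lib.Helper54_SCNC_LIST

/-! ### Arithmetic -/

theorem geom_parity (x : ℤ) (hx : Odd x) :
    ∀ n : ℕ, (Odd (∑ i ∈ Finset.range n, x ^ i) ↔ Odd n) := by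
  intro n
  induction n with
  | zero => simp
  | succ n ih =>
    rw [Finset.sum_range_succ, Int.odd_add, ih, Nat.odd_add_one]
    have hxn : ¬ Even (x ^ n) := Int.not_even_iff_odd.mpr hx.pow
    simp only [hxn, iff_false]

theorem odd_dvd_two_pow (S : ℤ) (hS : Odd S) (k : ℕ) (hd : S ∣ 2 ^ k) : S = 1 ∨ S = -1 := by
  have h1 : S.natAbs ∣ 2 ^ k := by
    have := Int.natAbs_dvd_natAbs.mpr hd
    simpa [Int.natAbs_pow] using this
  obtain ⟨m, _, hm⟩ := (Nat.dvd_prime_pow Nat.prime_two).mp h1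
  have hodd : Odd S.natAbs := Int.natAbs_odd.mpr hS
  have hm0 : m = 0 := by
    by_contra h
    rw [hm] at hodd
    exact (Nat.not_odd_iff_even.mpr ((Nat.even_pow).mpr ⟨even_two, h⟩)) hodd
  rw [hm0, pow_zero] at hm
  rcases Int.natAbs_eq S with h | h
  · left; rw [h, hm]; rfl
  · right; rw [h, hm]; rfl

theorem two_pow_mod_four (k : ℕ) : 2 ^ k = 1 ∨ 2 ^ k = 2 ∨ 4 ∣ 2 ^ k := by
  rcases k with _ | _ | k
  · left; rfl
  · right; left; rfl
  · right; right
    exact ⟨2 ^ k, by ring⟩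

/-- `p^n = 2^k + 1`, `p` odd, `n ≥ 2`  ⇒  `p^n = 9` -/
theorem pow_eq_two_pow_add_one (p n k : ℕ) (hp : p.Prime) (hp2 : p ≠ 2) (hn : 2 ≤ n)
    (h : p ^ n = 2 ^ k + 1) : p ^ n = 9 := by
  have hpodd : Odd p := hp.odd_of_ne_two hp2
  have hp3 : 3 ≤ p := by
    have := hp.two_le
    omega
  rcases Nat.even_or_odd n with hev | hod
  · obtain ⟨m, hm⟩ := hev
    have hm1 : 1 ≤ m := by omega
    set a := p ^ m with ha
    have haa : p ^ n = a * a := by rw [hm, pow_add]
    have ha3 : 3 ≤ a := by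
      calc 3 ≤ p := hp3
        _ = p ^ 1 := (pow_one p).symm
        _ ≤ p ^ m := Nat.pow_le_pow_right (by omega) hm1
    have hprod : (a - 1) * (a + 1) = 2 ^ k := by
      have h1 : (a - 1) * (a + 1) + 1 = a * a := by
        obtain ⟨c, hc⟩ : ∃ c, a = c + 1 := ⟨a - 1, by omega⟩
        rw [hc]
        simp only [Nat.add_sub_cancel]
        ring
      rw [haa] at h
      omega
    obtain ⟨i, _, hi⟩ := (Nat.dvd_prime_pow Nat.prime_two).mp (Dvd.intro _ hprod)
    obtain ⟨j, _, hj⟩ := (Nat.dvd_prime_pow Nat.prime_two).mp (Dvd.intro_left _ hprod)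
    have hodd_a : a % 2 = 1 := Nat.odd_iff.mp hpodd.pow
    rcases two_pow_mod_four i with h1 | h1 | h1 <;> rcases two_pow_mod_four j with h2 | h2 | h2
    all_goals first
      | omega
      | (have ha' : a = 3 := by omega
         rw [haa, ha'])
  · exfalso
    -- odd exponent: cofactor argument
    have hS := (geom_parity (p : ℤ) (by exact_mod_cast hpodd) n).mpr hod
    have hgeom := geom_sum_mul (p : ℤ) n
    have h' : (p : ℤ) ^ n = 2 ^ k + 1 := by exact_mod_cast h
    have hdvd : (∑ i ∈ Finset.range n, (p : ℤ) ^ i) ∣ 2 ^ k := by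
      refine ⟨(p : ℤ) - 1, ?_⟩
      rw [hgeom, h']
      ring
    have hpn : (p : ℤ) ^ n > (p : ℤ) := by
      have : p ^ n > p := by
        calc p = p ^ 1 := (pow_one p).symm
          _ < p ^ n := Nat.pow_lt_pow_right (by omega) (by omega)
      exact_mod_cast this
    have hp1 : (1 : ℤ) < p := by exact_mod_cast (by omega : 1 < p)
    rcases odd_dvd_two_pow _ hS k hdvd with h1 | h1
    · rw [h1] at hgeom
      linarith
    · rw [h1] at hgeom
      linarith

/-- `p^n + 1 = 2^k`, `p` odd, `n ≥ 2` is impossible -/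
theorem pow_add_one_ne_two_pow (p n k : ℕ) (hp : p.Prime) (hp2 : p ≠ 2) (hn : 2 ≤ n)
    (h : p ^ n + 1 = 2 ^ k) : False := by
  have hpodd : Odd p := hp.odd_of_ne_two hp2
  have hp3 : 3 ≤ p := by
    have := hp.two_le
    omega
  rcases Nat.even_or_odd n with hev | hod
  · obtain ⟨m, hm⟩ := hev
    have hm1 : 1 ≤ m := by omega
    set a := p ^ m with ha
    have haa : p ^ n = a * a := by rw [hm, pow_add]
    have ha3 : 3 ≤ a := by
      calc 3 ≤ p := hp3
        _ = p ^ 1 := (pow_one p).symm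
        _ ≤ p ^ m := Nat.pow_le_pow_right (by omega) hm1
    have hodd_a : a % 2 = 1 := Nat.odd_iff.mp hpodd.pow
    have hsq : a * a % 4 = 1 := by
      have h4 : a % 4 = 1 ∨ a % 4 = 3 := by omega
      rw [Nat.mul_mod]
      rcases h4 with h4 | h4 <;> rw [h4]
    have h9 : 9 ≤ a * a := by nlinarith
    rw [haa] at h
    rcases two_pow_mod_four k with h1 | h1 | h1 <;> omega
  · have hpodd' : Odd (p : ℤ) := by exact_mod_cast hpodd
    have hS := (geom_parity (-(p : ℤ)) hpodd'.neg n).mpr hod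
    have hgeom := geom_sum_mul (-(p : ℤ)) n
    rw [Odd.neg_pow hod] at hgeom
    have h' : (p : ℤ) ^ n + 1 = 2 ^ k := by exact_mod_cast h
    have hdvd : (∑ i ∈ Finset.range n, (-(p : ℤ)) ^ i) ∣ 2 ^ k := by
      refine ⟨(p : ℤ) + 1, ?_⟩
      rw [← h']
      linear_combination hgeom
    have hpn : (p : ℤ) ^ n > (p : ℤ) := by
      have : p ^ n > p := by
        calc p = p ^ 1 := (pow_one p).symm
          _ < p ^ n := Nat.pow_lt_pow_right (by omega) (by omega)
      exact_mod_cast this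
    have hp1 : (1 : ℤ) < p := by exact_mod_cast (by omega : 1 < p)
    rcases odd_dvd_two_pow _ hS k hdvd with h1 | h1
    · rw [h1] at hgeom
      linarith
    · rw [h1] at hgeom
      linarith


/-! ### The dihedral step -/

/-- a dihedral subgroup `D_m` (`m ≥ 3` even) of an `SCNC`-group has `m` a power of two -/
theorem two_pow_of_dihedral {G : Type*} [Group G] (h : SCNC G) (H : Subgroup G) (m : ℕ) (hm : 3 ≤ m)
    (hev : Even m) (e : ↥H ≃* DihedralGroup m) : ∃ k : ℕ, m = 2 ^ k := by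
  have hD : SCNC (DihedralGroup m) := (h.subgroup H).of_mulEquiv e
  rcases (Cfsg.Agent.S3920.result m hm).mp hD with ho | hk
  · exact absurd hev (Nat.not_even_iff_odd.mpr ho)
  · exact hk

/-- the shape `2^k ± 1` -/
theorem card_eq_two_pow {F : Type*} [Field F] [Fintype F] (hodd : Odd (Fintype.card F))
    (h : SCNC (Matrix.ProjectiveSpecialLinearGroup (Fin 2) F)) :
    ∃ k : ℕ, Fintype.card F = 2 ^ k + 1 ∨ Fintype.card F = 2 ^ k - 1 := by
  set q := Fintype.card F with hq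
  have hq2 : 2 ≤ q := Fintype.one_lt_card
  have hq1 : q % 2 = 1 := Nat.odd_iff.mp hodd
  by_cases h3 : q = 3
  · exact ⟨1, Or.inl (by rw [h3]; norm_num)⟩
  by_cases h5 : q = 5
  · exact ⟨2, Or.inl (by rw [h5]; norm_num)⟩
  by_cases h7 : q = 7
  · exact ⟨3, Or.inr (by rw [h7]; norm_num)⟩
  by_cases h9 : q = 9
  · exact ⟨3, Or.inl (by rw [h9]; norm_num)⟩
  have hgcd : Nat.gcd 2 (q - 1) = 2 := Nat.gcd_eq_left (by omega)
  have h4 : q % 4 = 1 ∨ q % 4 = 3 := by omega
  rcases h4 with h4 | h4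
  · have hnot : q ∉ ({2, 3, 5, 7, 9, 11} : Finset ℕ) := by
      simp only [Finset.mem_insert, Finset.mem_singleton, not_or]
      refine ⟨by omega, h3, h5, h7, h9, by omega⟩
    obtain ⟨H, _, ⟨e⟩⟩ := Cfsg.Agent.S0812.result (F := F) (q := q) rfl hnot
    rw [hgcd] at e
    have hm3 : 3 ≤ (q - 1) / 2 := by omega
    have hev : Even ((q - 1) / 2) := by
      rw [Nat.even_iff]; omega
    obtain ⟨k, hk⟩ := two_pow_of_dihedral h H _ hm3 hev e
    refine ⟨k + 1, Or.inl ?_⟩
    rw [pow_succ]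
    omega
  · have hnot : q ∉ ({2, 7, 9} : Finset ℕ) := by
      simp only [Finset.mem_insert, Finset.mem_singleton, not_or]
      exact ⟨by omega, h7, h9⟩
    obtain ⟨H, _, ⟨e⟩⟩ := Cfsg.Agent.S0811.result (F := F) (q := q) rfl hnot
    rw [hgcd] at e
    have hm3 : 3 ≤ (q + 1) / 2 := by omega
    have hev : Even ((q + 1) / 2) := by
      rw [Nat.even_iff]; omega
    obtain ⟨k, hk⟩ := two_pow_of_dihedral h H _ hm3 hev e
    refine ⟨k + 1, Or.inr ?_⟩
    rw [pow_succ]
    omega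

/-- **S3921-LIST**. -/
theorem card_mem_list {F : Type*} [Field F] [Fintype F] (hodd : Odd (Fintype.card F))
    (h : SCNC (Matrix.ProjectiveSpecialLinearGroup (Fin 2) F)) :
    Fintype.card F = 9 ∨
      ((Fintype.card F).Prime ∧ ∃ k : ℕ, Fintype.card F = 2 ^ k + 1 ∨ Fintype.card F = 2 ^ k - 1) := by
  obtain ⟨k, hk⟩ := card_eq_two_pow hodd h
  obtain ⟨p, _, n, hp, hpn⟩ := FiniteField.card' F
  have hp2 : p ≠ 2 := by
    rintro rfl
    rw [hpn] at hodd
    have : Even (2 ^ (n : ℕ)) := (Nat.even_pow).mpr ⟨even_two, n.pos.ne'⟩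
    exact (Nat.not_odd_iff_even.mpr this) hodd
  by_cases hn : (n : ℕ) = 1
  · right
    refine ⟨?_, k, hk⟩
    rw [hpn, hn, pow_one]
    exact hp
  · have hn2 : 2 ≤ (n : ℕ) := by
      have := n.pos
      omega
    rcases hk with hk | hk
    · left
      rw [hpn] at hk ⊢
      exact pow_eq_two_pow_add_one p n k hp hp2 hn2 hk
    · exfalso
      have hq2 : 2 ≤ Fintype.card F := Fintype.one_lt_card
      have hk' : p ^ (n : ℕ) + 1 = 2 ^ k := by
        rw [← hpn]
        omega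
      exact pow_add_one_ne_two_pow p n k hp hp2 hn2 hk'

end Cfsg.Agent.Lib.Helper54_SCNC_LIST
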