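import Mathlib
import Cfsg.Prelude.Def_CaseTheorems
import Cfsg.Agent.Lib.Helper21_SCNCDefs
import Cfsg.Agent.S3224

set_option autoImplicit false
open Cfsg.Agent.Lib.Helper21_SCNC

/-!
# S3921-SYL: Sylow 2-subgroups of an `SCNC`-group containing a four-group are dihedral or
quasi-dihedral
-/

namespace Cfsg.Agent.Lib.Helper54_SCNC_SYL

/-- the abstract version: a 2-group `T` with `SCNC` containing a Klein four-subgroup `W` -/
theorem two_group_type {T : Type*} [Group T] [Finite T] (hp : IsPGroup 2 T) (hT : SCNC T)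
    (W : Subgroup T) [hW : IsKleinFour ↥W] :
    (∃ n : ℕ, 2 ≤ n ∧ Nonempty (T ≃* DihedralGroup n)) ∨ Cfsg.IsQuasiDihedral T := by
  classical
  have hWcard : Nat.card W = 4 := hW.card_four
  have hWnc : ¬ IsCyclic ↥W := IsKleinFour.not_isCyclic
  have hCW : Subgroup.centralizer (W : Set T) ≤ W := hT W hWnc
  have hWsq : ∀ w ∈ W, w * w = 1 := by
    intro w hw
    have := IsKleinFour.mul_self (⟨w, hw⟩ : ↥W)
    exact congrArg Subtype.val this
  have hWcomm : ∀ u ∈ W, ∀ v ∈ W, u * v = v * u := by
    intro u hu v hv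
    have hc : ∀ a b : ↥W, a * b = b * a :=
      isMulCommutative_iff.mp (IsKleinFour.isMulCommutative (G := ↥W))
    have := hc ⟨u, hu⟩ ⟨v, hv⟩
    exact congrArg Subtype.val this
  by_cases h4 : Nat.card T = 4
  · left
    refine ⟨2, le_rfl, ?_⟩
    have hWtop : W = ⊤ := Subgroup.eq_top_of_card_eq _ (by rw [hWcard, h4])
    have e1 : T ≃* ↥W := (Subgroup.topEquiv.symm).trans (MulEquiv.subgroupCongr hWtop.symm)
    obtain ⟨e2⟩ := IsKleinFour.nonempty_mulEquiv (G₁ := ↥W) (G₂ := DihedralGroup 2)
    exact ⟨e1.trans e2⟩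
  · have hTnt : Nontrivial T := by
      have hW1 : Nontrivial ↥W := by
        rw [← Finite.one_lt_card_iff_nontrivial, hWcard]
        norm_num
      obtain ⟨a, b, hab⟩ := hW1
      exact ⟨⟨a.1, b.1, fun h => hab (Subtype.ext h)⟩⟩
    have hZnt : Nontrivial (Subgroup.center T) := hp.center_nontrivial
    obtain ⟨z, hzZ, hz1⟩ : ∃ z ∈ Subgroup.center T, z ≠ 1 := by
      obtain ⟨⟨z, hz⟩, hne⟩ := exists_ne (1 : Subgroup.center T)
      exact ⟨z, hz, fun h => hne (Subtype.ext h)⟩
    have hZW : Subgroup.center T ≤ W := fun y hy =>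
      hCW (Subgroup.center_le_centralizer _ hy)
    have hzW : z ∈ W := hZW hzZ
    -- an element of `W` outside the centre
    have hexb : ∃ b ∈ W, b ∉ Subgroup.center T := by
      by_contra hcon
      push Not at hcon
      apply h4
      have htop : W = ⊤ := by
        rw [eq_top_iff]
        intro x _
        apply hCW
        rw [Subgroup.mem_centralizer_iff]
        intro w hw
        exact ((Subgroup.mem_center_iff.mp (hcon w hw)) x).symm
      rw [← hWcard, htop, Subgroup.card_top]
    obtain ⟨b, hbW, hbZ⟩ := hexb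
    have hb1 : b ≠ 1 := fun h => hbZ (h ▸ Subgroup.one_mem _)
    have hb2 : orderOf b = 2 := orderOf_eq_prime (by rw [sq]; exact hWsq b hbW) hb1
    have hzb : z ≠ b := fun h => hbZ (h ▸ hzZ)
    have hCb : Subgroup.centralizer ({b} : Set T) = W := by
      apply le_antisymm
      · intro x hx
        apply hCW
        rw [Subgroup.mem_centralizer_iff]
        intro w hw
        have hxb : b * x = x * b :=
          (Subgroup.mem_centralizer_iff.mp hx) b (Set.mem_singleton b)
        have hxz : z * x = x * z := ((Subgroup.mem_center_iff.mp hzZ) x).symm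
        by_cases hw1 : w = 1
        · rw [hw1, one_mul, mul_one]
        by_cases hwz : w = z
        · rw [hwz]; exact hxz
        by_cases hwb : w = b
        · rw [hwb]; exact hxb
        have hwzb : (⟨w, hw⟩ : ↥W) = ⟨z, hzW⟩ * ⟨b, hbW⟩ := by
          apply IsKleinFour.eq_mul_of_ne_all
          · intro h; exact hz1 (congrArg Subtype.val h)
          · intro h; exact hb1 (congrArg Subtype.val h)
          · intro h; exact hzb (congrArg Subtype.val h)
          · intro h; exact hw1 (congrArg Subtype.val h)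
          · intro h; exact hwz (congrArg Subtype.val h)
          · intro h; exact hwb (congrArg Subtype.val h)
        have hw' : w = z * b := congrArg Subtype.val hwzb
        rw [hw', mul_assoc, hxb, ← mul_assoc, hxz, mul_assoc]
      · intro w hw
        rw [Subgroup.mem_centralizer_iff]
        intro y hy
        rw [Set.mem_singleton_iff] at hy
        subst hy
        exact hWcomm y hbW w hw
    have hcard : Nat.card ↥(Subgroup.centralizer ({b} : Set T)) = 4 := by
      rw [hCb, hWcard]
    rcases Cfsg.Agent.S3224.result hp b hb2 hcard with ⟨n, ⟨e⟩⟩ | hq | h4'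
    · left
      refine ⟨n, ?_, ⟨e⟩⟩
      have hc : Nat.card T = 2 * n := by
        rw [Nat.card_congr e.toEquiv, DihedralGroup.nat_card]
      have hle : 4 ≤ Nat.card T := by
        rw [← hWcard]
        exact Subgroup.card_le_card_group W
      omega
    · right
      exact hq
    · exact absurd h4' h4

/-- **S3921-SYL**. -/
theorem sylow_type {G : Type*} [Group G] [Finite G] (h : SCNC G) (V : Subgroup G) (hV : IsKleinFour ↥V)
    (S : Sylow 2 G) (hVS : V ≤ (S : Subgroup G)) :
    (∃ n : ℕ, 2 ≤ n ∧ Nonempty (↥(S : Subgroup G) ≃* DihedralGroup n)) ∨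
      Cfsg.IsQuasiDihedral ↥(S : Subgroup G) := by
  have hT : SCNC ↥(S : Subgroup G) := h.subgroup _
  have hp : IsPGroup 2 ↥(S : Subgroup G) := S.isPGroup'
  have eW : ↥(V.subgroupOf (S : Subgroup G)) ≃* ↥V := Subgroup.subgroupOfEquivOfLe hVS
  haveI : IsKleinFour ↥(V.subgroupOf (S : Subgroup G)) :=
    ⟨by rw [Nat.card_congr eW.toEquiv]; exact hV.card_four,
     by rw [Monoid.exponent_eq_of_mulEquiv eW]; exact hV.exponent_two⟩
  exact two_group_type hp hT (V.subgroupOf (S : Subgroup G))

end Cfsg.Agent.Lib.Helper54_SCNC_SYL
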