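/-
Helper library (helper76): p-group lemmas around an abelian normal subgroup `A` with `A ⊔ ⟨x⟩ = ⊤`.
-/
import Mathlib.GroupTheory.Nilpotent
import Mathlib.GroupTheory.PGroup
import Mathlib.GroupTheory.Index
import Mathlib.GroupTheory.IndexNormal
import Mathlib.GroupTheory.Commutator.Basic
import Mathlib.GroupTheory.SpecificGroups.Cyclic
import Mathlib.GroupTheory.Abelianization.Defs

set_option autoImplicit false

namespace Cfsg.Agent.Lib.Helper76_PGroup

open scoped commutatorElement

variable {P : Type*} [Group P]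

/-- The commutator map `u ↦ ⁅u, x⁆` on an abelian normal subgroup `A`, as a homomorphism `A →* A`. -/
def commHom (A : Subgroup P) [hAn : A.Normal] (hA : ∀ u ∈ A, ∀ v ∈ A, u * v = v * u) (x : P) :
    A →* A where
  toFun u := ⟨⁅(u : P), x⁆, by
    rw [commutatorElement_def, mul_assoc, mul_assoc]
    refine A.mul_mem u.2 ?_
    rw [← mul_assoc]
    exact hAn.conj_mem _ (A.inv_mem u.2) x⟩
  map_one' := by
    apply Subtype.ext
    simp
  map_mul' u v := by
    apply Subtype.ext
    have hv : ⁅(v : P), x⁆ ∈ A := by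
      rw [commutatorElement_def, mul_assoc, mul_assoc]
      refine A.mul_mem v.2 ?_
      rw [← mul_assoc]
      exact hAn.conj_mem _ (A.inv_mem v.2) x
    have hu : ⁅(u : P), x⁆ ∈ A := by
      rw [commutatorElement_def, mul_assoc, mul_assoc]
      refine A.mul_mem u.2 ?_
      rw [← mul_assoc]
      exact hAn.conj_mem _ (A.inv_mem u.2) x
    show ⁅((u * v : A) : P), x⁆ = ⁅(u : P), x⁆ * ⁅(v : P), x⁆
    rw [Subgroup.coe_mul, commutatorElement_mul_left_eq_conj_mul]
    have h1 : (u : P) * ⁅(v : P), x⁆ = ⁅(v : P), x⁆ * u := hA _ u.2 _ hv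
    rw [h1, mul_assoc _ (u : P), mul_inv_cancel, mul_one]
    exact hA _ hv _ hu

@[simp] theorem commHom_apply (A : Subgroup P) [A.Normal] (hA : ∀ u ∈ A, ∀ v ∈ A, u * v = v * u)
    (x : P) (u : A) : ((commHom A hA x u : A) : P) = ⁅(u : P), x⁆ := rfl

/-- The image of the commutator map, as a subgroup of `P`. -/
def commImage (A : Subgroup P) [A.Normal] (hA : ∀ u ∈ A, ∀ v ∈ A, u * v = v * u) (x : P) :
    Subgroup P :=
  (commHom A hA x).range.map A.subtype

theorem mem_commImage_iff (A : Subgroup P) [A.Normal] (hA : ∀ u ∈ A, ∀ v ∈ A, u * v = v * u)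
    (x : P) (g : P) : g ∈ commImage A hA x ↔ ∃ u ∈ A, ⁅u, x⁆ = g := by
  unfold commImage
  constructor
  · rintro ⟨w, ⟨u, rfl⟩, rfl⟩
    exact ⟨u, u.2, rfl⟩
  · rintro ⟨u, hu, rfl⟩
    exact ⟨commHom A hA x ⟨u, hu⟩, ⟨⟨u, hu⟩, rfl⟩, rfl⟩

theorem commImage_le (A : Subgroup P) [A.Normal] (hA : ∀ u ∈ A, ∀ v ∈ A, u * v = v * u)
    (x : P) : commImage A hA x ≤ A := by
  intro g hg
  obtain ⟨w, _, rfl⟩ := hg
  exact w.2

theorem commImage_le_commutator (A : Subgroup P) [A.Normal]
    (hA : ∀ u ∈ A, ∀ v ∈ A, u * v = v * u) (x : P) : commImage A hA x ≤ commutator P := by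
  intro g hg
  obtain ⟨u, _, rfl⟩ := (mem_commImage_iff A hA x g).mp hg
  rw [commutator_def]
  exact Subgroup.commutator_mem_commutator (Subgroup.mem_top u) (Subgroup.mem_top x)

theorem commImage_normal [Finite P] (A : Subgroup P) [hAn : A.Normal]
    (hA : ∀ u ∈ A, ∀ v ∈ A, u * v = v * u) (x : P) (hx : A ⊔ Subgroup.zpowers x = ⊤) :
    (commImage A hA x).Normal := by
  rw [← Subgroup.normalizer_eq_top_iff, eq_top_iff, ← hx, sup_le_iff, Subgroup.zpowers_le]
  constructor
  · intro a ha
    apply Subgroup.mem_normalizer_fintype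
    intro n hn
    have hnA : n ∈ A := commImage_le A hA x hn
    rw [hA a ha n hnA, mul_assoc, mul_inv_cancel, mul_one]
    exact hn
  · apply Subgroup.mem_normalizer_fintype
    intro n hn
    obtain ⟨u, hu, rfl⟩ := (mem_commImage_iff A hA x n).mp hn
    rw [SetLike.mem_coe, mem_commImage_iff]
    refine ⟨x * u * x⁻¹, hAn.conj_mem u hu x, ?_⟩
    rw [conjugate_commutatorElement]
    simp

theorem commutator_eq_commImage [Finite P] (A : Subgroup P) [hAn : A.Normal]
    (hA : ∀ u ∈ A, ∀ v ∈ A, u * v = v * u) (x : P) (hx : A ⊔ Subgroup.zpowers x = ⊤) :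
    commutator P = commImage A hA x := by
  apply le_antisymm _ (commImage_le_commutator A hA x)
  have := commImage_normal A hA x hx
  set I := commImage A hA x with hI
  rw [← Subgroup.Normal.quotient_commutative_iff_commutator_le]
  -- the quotient is commutative
  have hux : ∀ u ∈ A, (QuotientGroup.mk' I u) * (QuotientGroup.mk' I x) =
      (QuotientGroup.mk' I x) * (QuotientGroup.mk' I u) := by
    intro u hu
    rw [← commutatorElement_eq_one_iff_mul_comm, ← map_commutatorElement,
      QuotientGroup.mk'_apply, QuotientGroup.eq_one_iff]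
    exact (mem_commImage_iff A hA x _).mpr ⟨u, hu, rfl⟩
  have hxall : ∀ g : P, (QuotientGroup.mk' I g) * (QuotientGroup.mk' I x) =
      (QuotientGroup.mk' I x) * (QuotientGroup.mk' I g) := by
    intro g
    have hg : g ∈ (Subgroup.centralizer {QuotientGroup.mk' I x}).comap (QuotientGroup.mk' I) := by
      have : A ⊔ Subgroup.zpowers x ≤
          (Subgroup.centralizer {QuotientGroup.mk' I x}).comap (QuotientGroup.mk' I) := by
        rw [sup_le_iff, Subgroup.zpowers_le]
        constructor
        · intro u hu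
          rw [Subgroup.mem_comap, Subgroup.mem_centralizer_singleton_iff]
          exact hux u hu
        · rw [Subgroup.mem_comap, Subgroup.mem_centralizer_singleton_iff]
      rw [hx] at this
      exact this (Subgroup.mem_top g)
    rw [Subgroup.mem_comap, Subgroup.mem_centralizer_singleton_iff] at hg
    exact hg
  have huall : ∀ u ∈ A, ∀ g : P, (QuotientGroup.mk' I g) * (QuotientGroup.mk' I u) =
      (QuotientGroup.mk' I u) * (QuotientGroup.mk' I g) := by
    intro u hu g
    have hg : g ∈ (Subgroup.centralizer {QuotientGroup.mk' I u}).comap (QuotientGroup.mk' I) := by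
      have : A ⊔ Subgroup.zpowers x ≤
          (Subgroup.centralizer {QuotientGroup.mk' I u}).comap (QuotientGroup.mk' I) := by
        rw [sup_le_iff, Subgroup.zpowers_le]
        constructor
        · intro v hv
          rw [Subgroup.mem_comap, Subgroup.mem_centralizer_singleton_iff, ← map_mul, ← map_mul,
            hA v hv u hu]
        · rw [Subgroup.mem_comap, Subgroup.mem_centralizer_singleton_iff]
          exact (hux u hu).symm
      rw [hx] at this
      exact this (Subgroup.mem_top g)
    rw [Subgroup.mem_comap, Subgroup.mem_centralizer_singleton_iff] at hg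
    exact hg
  refine ⟨⟨fun q r => ?_⟩⟩
  obtain ⟨g, rfl⟩ := QuotientGroup.mk'_surjective I q
  obtain ⟨h, rfl⟩ := QuotientGroup.mk'_surjective I r
  have hh : h ∈ (Subgroup.centralizer {QuotientGroup.mk' I g}).comap (QuotientGroup.mk' I) := by
    have : A ⊔ Subgroup.zpowers x ≤
        (Subgroup.centralizer {QuotientGroup.mk' I g}).comap (QuotientGroup.mk' I) := by
      rw [sup_le_iff, Subgroup.zpowers_le]
      constructor
      · intro v hv
        rw [Subgroup.mem_comap, Subgroup.mem_centralizer_singleton_iff]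
        exact (huall v hv g).symm
      · rw [Subgroup.mem_comap, Subgroup.mem_centralizer_singleton_iff]
        exact (hxall g).symm
    rw [hx] at this
    exact this (Subgroup.mem_top h)
  rw [Subgroup.mem_comap, Subgroup.mem_centralizer_singleton_iff] at hh
  exact hh.symm

theorem ker_commHom (A : Subgroup P) [A.Normal] (hA : ∀ u ∈ A, ∀ v ∈ A, u * v = v * u) (x : P) :
    (commHom A hA x).ker = (Subgroup.centralizer {x}).subgroupOf A := by
  ext u
  rw [MonoidHom.mem_ker, Subgroup.mem_subgroupOf, Subgroup.mem_centralizer_singleton_iff,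
    Subtype.ext_iff, commHom_apply, Subgroup.coe_one, commutatorElement_eq_one_iff_mul_comm]

/-- **Key lemma.** If `A` is an abelian normal subgroup and `A ⊔ ⟨x⟩ = ⊤`, then
`|P'| * |C_A(x)| = |A|`. -/
theorem card_commutator_mul_card_inf_centralizer [Finite P] (A : Subgroup P) [hAn : A.Normal]
    (hA : ∀ u ∈ A, ∀ v ∈ A, u * v = v * u) (x : P) (hx : A ⊔ Subgroup.zpowers x = ⊤) :
    Nat.card (commutator P) * Nat.card (A ⊓ Subgroup.centralizer {x} : Subgroup P) = Nat.card A := by
  rw [commutator_eq_commImage A hA x hx]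
  unfold commImage
  have h1 : Nat.card ((Subgroup.centralizer {x}).subgroupOf A) =
      Nat.card (A ⊓ Subgroup.centralizer {x} : Subgroup P) := by
    rw [← Subgroup.card_map_of_injective A.subtype_injective, Subgroup.subgroupOf_map_subtype,
      inf_comm]
  rw [Subgroup.card_map_of_injective A.subtype_injective, ← Subgroup.index_ker, ker_commHom,
    ← h1, mul_comm]
  exact Subgroup.card_mul_index _

/-- If `A` is abelian and `A ⊔ ⟨x⟩ = ⊤`, the centralizer of `x` in `A` is `A ⊓ Z(P)`. -/
theorem inf_centralizer_eq_inf_center (A : Subgroup P)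
    (hA : ∀ u ∈ A, ∀ v ∈ A, u * v = v * u) (x : P) (hx : A ⊔ Subgroup.zpowers x = ⊤) :
    A ⊓ Subgroup.centralizer {x} = A ⊓ Subgroup.center P := by
  apply le_antisymm
  · intro u hu
    rw [Subgroup.mem_inf] at hu ⊢
    refine ⟨hu.1, ?_⟩
    have hux : u * x = x * u := Subgroup.mem_centralizer_singleton_iff.mp hu.2
    rw [Subgroup.mem_center_iff]
    intro g
    have hg : g ∈ Subgroup.centralizer {u} := by
      have : A ⊔ Subgroup.zpowers x ≤ Subgroup.centralizer {u} := by
        rw [sup_le_iff, Subgroup.zpowers_le]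
        constructor
        · intro v hv
          rw [Subgroup.mem_centralizer_singleton_iff]
          exact hA v hv u hu.1
        · rw [Subgroup.mem_centralizer_singleton_iff]
          exact hux.symm
      rw [hx] at this
      exact this (Subgroup.mem_top g)
    exact Subgroup.mem_centralizer_singleton_iff.mp hg
  · intro u hu
    rw [Subgroup.mem_inf] at hu ⊢
    refine ⟨hu.1, ?_⟩
    rw [Subgroup.mem_centralizer_singleton_iff]
    exact (Subgroup.mem_center_iff.mp hu.2 x).symm

/-- In a nilpotent group, a subgroup `H` with `H ≤ ⁅H, ⊤⁆` is trivial. -/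
theorem eq_bot_of_le_commutator_top {G : Type*} [Group G] [hG : Group.IsNilpotent G]
    (H : Subgroup G) (h : H ≤ ⁅H, (⊤ : Subgroup G)⁆) : H = ⊥ := by
  have key : ∀ n : ℕ, H ≤ (⊤ : Subgroup G).lowerCentralSeries n := by
    intro n
    induction n with
    | zero => exact le_top
    | succ n ih =>
      rw [Subgroup.lowerCentralSeries_succ]
      exact h.trans (Subgroup.commutator_mono ih le_rfl)
  rw [eq_bot_iff, ← Subgroup.lowerCentralSeries_nilpotencyClass (G := G)]
  exact key _

/-- In a nilpotent group, a nontrivial normal subgroup `H` has `⁅H, ⊤⁆ < H`. -/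
theorem commutator_top_lt {G : Type*} [Group G] [Group.IsNilpotent G]
    (H : Subgroup G) [H.Normal] (h : H ≠ ⊥) : ⁅H, (⊤ : Subgroup G)⁆ < H := by
  refine lt_of_le_of_ne (Subgroup.commutator_le_left _ _) ?_
  intro heq
  exact h (eq_bot_of_le_commutator_top H heq.ge)

/-- If `G / G'` is cyclic then `G' = ⁅G', G⁆`. -/
theorem commutator_le_of_isCyclic_abelianization {G : Type*} [Group G]
    (h : IsCyclic (G ⧸ commutator G)) : commutator G ≤ ⁅commutator G, (⊤ : Subgroup G)⁆ := by
  set L : Subgroup G := ⁅commutator G, (⊤ : Subgroup G)⁆ with hL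
  have hLle : L ≤ commutator G := Subgroup.commutator_le_left _ _
  let f : G ⧸ L →* G ⧸ commutator G :=
    QuotientGroup.map L (commutator G) (MonoidHom.id G) hLle
  have hker : f.ker ≤ Subgroup.center (G ⧸ L) := by
    intro q hq
    obtain ⟨a, rfl⟩ := QuotientGroup.mk_surjective q
    rw [MonoidHom.mem_ker] at hq
    have ha : a ∈ commutator G := by
      have : f (a : G ⧸ L) = ((a : G) : G ⧸ commutator G) := rfl
      rw [this, QuotientGroup.eq_one_iff] at hq
      exact hq
    rw [Subgroup.mem_center_iff]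
    intro r
    obtain ⟨b, rfl⟩ := QuotientGroup.mk_surjective r
    rw [eq_comm, ← commutatorElement_eq_one_iff_mul_comm]
    have : ⁅((a : G) : G ⧸ L), ((b : G) : G ⧸ L)⁆ = ((⁅a, b⁆ : G) : G ⧸ L) := by
      rw [commutatorElement_def, commutatorElement_def]; rfl
    rw [this, QuotientGroup.eq_one_iff]
    exact Subgroup.commutator_mem_commutator ha (Subgroup.mem_top b)
  rw [← Subgroup.Normal.quotient_commutative_iff_commutator_le]
  exact MonoidHom.isMulCommutative_of_isCyclic_of_ker_le_center f hker

/-- A nilpotent group with cyclic abelianization is abelian. -/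
theorem commutator_eq_bot_of_isCyclic_abelianization {G : Type*} [Group G] [Group.IsNilpotent G]
    (h : IsCyclic (G ⧸ commutator G)) : commutator G = ⊥ :=
  eq_bot_of_le_commutator_top _ (commutator_le_of_isCyclic_abelianization h)

/-- A group with a central subgroup of index dividing a prime is abelian. -/
theorem comm_of_central_index_dvd_prime {G : Type*} [Group G] (p : ℕ) [Fact p.Prime]
    (Z : Subgroup G) (hZ : Z ≤ Subgroup.center G) (h : Z.index ∣ p) : ∀ a b : G, a * b = b * a := by
  have hn : Z.Normal := ⟨fun n hn g => by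
    have := Subgroup.mem_center_iff.mp (hZ hn) g
    rw [this, mul_assoc, mul_inv_cancel, mul_one]; exact hn⟩
  have hcyc : IsCyclic (G ⧸ Z) := isCyclic_of_card_dvd_prime (p := p) (by
    rw [← Subgroup.index_eq_card]; exact h)
  have hker : (QuotientGroup.mk' Z).ker ≤ Subgroup.center G := by
    rw [QuotientGroup.ker_mk']; exact hZ
  have := MonoidHom.isMulCommutative_of_isCyclic_of_ker_le_center (QuotientGroup.mk' Z) hker
  exact fun a b => mul_comm' a b

/-- Subgroup version: if `Z` centralizes `A` and `|A : A ∩ Z|` divides a prime, then `A` is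
abelian. -/
theorem subgroup_comm_of_central_relIndex_dvd_prime (p : ℕ) [Fact p.Prime]
    (A Z : Subgroup P) (hc : ∀ z ∈ Z, ∀ a ∈ A, z * a = a * z) (h : Z.relIndex A ∣ p) :
    ∀ a ∈ A, ∀ b ∈ A, a * b = b * a := by
  have key := comm_of_central_index_dvd_prime (G := A) p (Z.subgroupOf A) (by
    intro z hz
    rw [Subgroup.mem_center_iff]
    intro a
    apply Subtype.ext
    rw [Subgroup.mem_subgroupOf] at hz
    simpa using (hc z hz a a.2).symm) h
  intro a ha b hb
  have := key ⟨a, ha⟩ ⟨b, hb⟩
  simpa using congrArg Subtype.val this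

/-- A subgroup of prime index is maximal: adjoining an element outside gives everything. -/
theorem sup_zpowers_eq_top_of_index_prime (p : ℕ) [hp : Fact p.Prime] (A : Subgroup P)
    (hidx : A.index = p) (b : P) (hb : b ∉ A) : A ⊔ Subgroup.zpowers b = ⊤ := by
  set K := A ⊔ Subgroup.zpowers b with hK
  have hAK : A ≤ K := le_sup_left
  have hdvd : K.index ∣ p := hidx ▸ Subgroup.index_dvd_of_le hAK
  rcases (Nat.dvd_prime hp.out).mp hdvd with h1 | h1
  · exact Subgroup.index_eq_one.mp h1
  · exfalso
    have h2 := Subgroup.relIndex_mul_index hAK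
    rw [hidx, h1] at h2
    have h3 : A.relIndex K = 1 := by
      have hp0 : 0 < p := hp.out.pos
      nlinarith [Nat.eq_of_mul_eq_mul_right hp0 (by rw [one_mul]; exact h2 : A.relIndex K * p = 1 * p)]
    have h4 : K ≤ A := Subgroup.relIndex_eq_one.mp h3
    exact hb (h4 (le_sup_right (a := A) (Subgroup.mem_zpowers b)))

/-- In a finite `p`-group a subgroup of index `p` is normal. -/
theorem normal_of_index_eq_prime [Finite P] (p : ℕ) [hp : Fact p.Prime] (hP : IsPGroup p P)
    (A : Subgroup P) (hidx : A.index = p) : A.Normal := by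
  obtain ⟨n, hn⟩ := IsPGroup.iff_card.mp hP
  apply Subgroup.normal_of_index_eq_minFac_card
  have hn0 : n ≠ 0 := by
    rintro rfl
    have h1 : A.index ∣ Nat.card P := Subgroup.index_dvd_card A
    rw [hn, pow_zero, hidx, Nat.dvd_one] at h1
    exact hp.out.one_lt.ne' h1
  rw [hn, hp.out.pow_minFac hn0, hidx]

theorem card_mul_relIndex_of_le (H K : Subgroup P) (h : H ≤ K) :
    Nat.card H * H.relIndex K = Nat.card K := by
  rw [← Subgroup.relIndex_bot_left, ← Subgroup.relIndex_bot_left,
    Subgroup.relIndex_mul_relIndex _ _ _ bot_le h]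

/-- If `x * y = p ^ 2` with `x, y ≠ 1` then `x = y = p`. -/
theorem eq_prime_of_mul_eq_sq {p : ℕ} (hp : p.Prime) {x y : ℕ} (h : x * y = p ^ 2) (hx : x ≠ 1)
    (hy : y ≠ 1) : x = p ∧ y = p := by
  have hxd : x ∣ p ^ 2 := ⟨y, h.symm⟩
  obtain ⟨k, hk, rfl⟩ := (Nat.dvd_prime_pow hp).mp hxd
  have hp0 : 0 < p := hp.pos
  interval_cases k
  · simp at hx
  · rw [pow_one] at h ⊢
    refine ⟨rfl, ?_⟩
    have : p * y = p * p := by rw [h]; ring
    exact Nat.eq_of_mul_eq_mul_left hp0 this
  · exfalso
    apply hy
    have : p ^ 2 * y = p ^ 2 * 1 := by rw [h]; ring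
    exact Nat.eq_of_mul_eq_mul_left (pow_pos hp0 2) this

/-- **F3.** In a finite `p`-group with `|P : Z(P)| = p²`, the derived subgroup has order `p`. -/
theorem card_commutator_of_index_center_eq_sq [Finite P] (p : ℕ) [hp : Fact p.Prime]
    (hP : IsPGroup p P) (h : (Subgroup.center P).index = p ^ 2) :
    Nat.card (commutator P) = p := by
  set Z := Subgroup.center P with hZ
  have hZtop : Z ≠ ⊤ := by
    intro h1
    rw [h1, Subgroup.index_top] at h
    have := hp.out.one_lt
    nlinarith
  obtain ⟨a, ha⟩ : ∃ a : P, a ∉ Z := by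
    by_contra hcon
    push Not at hcon
    exact hZtop (eq_top_iff.mpr fun g _ => hcon g)
  set A := Subgroup.centralizer ({a} : Set P) with hA
  have hZA : Z ≤ A := Subgroup.center_le_centralizer _
  have haA : a ∈ A := by rw [hA, Subgroup.mem_centralizer_singleton_iff]
  have hAtop : A ≠ ⊤ := by
    intro h1
    apply ha
    rw [hZ, Subgroup.mem_center_iff]
    intro g
    have : g ∈ A := h1 ▸ Subgroup.mem_top g
    exact Subgroup.mem_centralizer_singleton_iff.mp this
  have hrel1 : Z.relIndex A ≠ 1 := by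
    intro h1
    exact ha (Subgroup.relIndex_eq_one.mp h1 haA)
  have hidx1 : A.index ≠ 1 := fun h1 => hAtop (Subgroup.index_eq_one.mp h1)
  have hmul : Z.relIndex A * A.index = p ^ 2 := by
    rw [Subgroup.relIndex_mul_index hZA, h]
  obtain ⟨hrel, hidx⟩ := eq_prime_of_mul_eq_sq hp.out hmul hrel1 hidx1
  have hAcomm : ∀ u ∈ A, ∀ v ∈ A, u * v = v * u :=
    subgroup_comm_of_central_relIndex_dvd_prime p A Z
      (fun z hz u _ => Subgroup.mem_center_iff.mp hz u |>.symm) (hrel ▸ dvd_rfl)
  have hAn : A.Normal := normal_of_index_eq_prime p hP A hidx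
  obtain ⟨b, hb⟩ : ∃ b : P, b ∉ A := by
    by_contra hcon
    push Not at hcon
    exact hAtop (eq_top_iff.mpr fun g _ => hcon g)
  have hsup := sup_zpowers_eq_top_of_index_prime p A hidx b hb
  have hKL := card_commutator_mul_card_inf_centralizer A hAcomm b hsup
  rw [inf_centralizer_eq_inf_center A hAcomm b hsup, inf_eq_right.mpr hZA,
    ← card_mul_relIndex_of_le Z A hZA, hrel, mul_comm] at hKL
  have hZpos : 0 < Nat.card Z := Nat.card_pos
  exact Nat.eq_of_mul_eq_mul_left hZpos hKL

theorem commutatorElement_mem_commutator (g x : P) : ⁅g, x⁆ ∈ commutator P := by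
  rw [commutator_def]
  exact Subgroup.commutator_mem_commutator (Subgroup.mem_top g) (Subgroup.mem_top x)

/-- In a group of class at most two, `g ↦ ⁅g, x⁆` is a homomorphism into the derived subgroup. -/
def commHomClassTwo (h : commutator P ≤ Subgroup.center P) (x : P) : P →* commutator P where
  toFun g := ⟨⁅g, x⁆, commutatorElement_mem_commutator g x⟩
  map_one' := by
    apply Subtype.ext
    simp
  map_mul' g k := by
    apply Subtype.ext
    show ⁅g * k, x⁆ = ⁅g, x⁆ * ⁅k, x⁆
    rw [commutatorElement_mul_left_eq_conj_mul]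
    have hk : ⁅k, x⁆ ∈ Subgroup.center P := h (commutatorElement_mem_commutator k x)
    have h1 : g * ⁅k, x⁆ = ⁅k, x⁆ * g := Subgroup.mem_center_iff.mp hk g
    rw [h1, mul_assoc _ g, mul_inv_cancel, mul_one]
    exact (Subgroup.mem_center_iff.mp hk _).symm

theorem ker_commHomClassTwo (h : commutator P ≤ Subgroup.center P) (x : P) :
    (commHomClassTwo h x).ker = Subgroup.centralizer {x} := by
  ext g
  rw [MonoidHom.mem_ker, Subgroup.mem_centralizer_singleton_iff, Subtype.ext_iff]
  show ⁅g, x⁆ = 1 ↔ _
  rw [commutatorElement_eq_one_iff_mul_comm]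

/-- In a group of class at most two, every centralizer of an element has index dividing `|P'|`. -/
theorem index_centralizer_dvd_card_commutator [Finite P] (h : commutator P ≤ Subgroup.center P)
    (x : P) : (Subgroup.centralizer ({x} : Set P)).index ∣ Nat.card (commutator P) := by
  rw [← ker_commHomClassTwo h x, Subgroup.index_ker]
  exact Subgroup.card_subgroup_dvd_card _

/-- In a finite `p`-group, a normal subgroup of order `p` is central (stated for `P'`). -/
theorem commutator_le_center_of_card_eq_prime [Finite P] (p : ℕ) [hp : Fact p.Prime]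
    (hP : IsPGroup p P) (h : Nat.card (commutator P) = p) : commutator P ≤ Subgroup.center P := by
  have : Group.IsNilpotent P := hP.isNilpotent
  set D := commutator P with hD
  have hDne : D ≠ ⊥ := by
    intro h1
    rw [h1, Subgroup.card_bot] at h
    exact hp.out.one_lt.ne h
  have hlt := commutator_top_lt D hDne
  have hdvd : Nat.card (⁅D, (⊤ : Subgroup P)⁆ : Subgroup P) ∣ p :=
    h ▸ Subgroup.card_dvd_of_le hlt.le
  rcases (Nat.dvd_prime hp.out).mp hdvd with h1 | h1
  · rw [Subgroup.card_eq_one] at h1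
    exact Subgroup.commutator_top_right_eq_bot_iff_le_center.mp h1
  · exfalso
    exact hlt.ne (Subgroup.eq_of_le_of_card_ge hlt.le (by rw [h1, h]))

/-- **F4.** In a group of order `p⁴` with `|P'| = p`, the centre has index `p²`. -/
theorem index_center_of_card_commutator_eq_prime [Finite P] (p : ℕ) [hp : Fact p.Prime]
    (hcard : Nat.card P = p ^ 4) (h : Nat.card (commutator P) = p) :
    (Subgroup.center P).index = p ^ 2 := by
  have hP : IsPGroup p P := IsPGroup.of_card hcard
  have hp0 : 0 < p := hp.out.pos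
  have hp1 : 1 < p := hp.out.one_lt
  set D := commutator P with hD
  have hDne : D ≠ ⊥ := by
    intro h1
    rw [h1, Subgroup.card_bot] at h
    exact hp1.ne h
  have hDZ : D ≤ Subgroup.center P := commutator_le_center_of_card_eq_prime p hP h
  set Z := Subgroup.center P with hZ
  have hZtop : Z ≠ ⊤ := fun h1 => hDne ((commutator_eq_bot_iff_center_eq_top P).mpr h1)
  have hZcard : Nat.card Z * Z.index = p ^ 4 := by rw [Subgroup.card_mul_index, hcard]
  have hpZ : p ∣ Nat.card Z := h ▸ Subgroup.card_dvd_of_le hDZ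
  obtain ⟨k, hk, hZk⟩ : ∃ k ≤ 4, Nat.card Z = p ^ k :=
    (Nat.dvd_prime_pow hp.out).mp ⟨_, hZcard.symm⟩
  have hidx : Z.index = p ^ (4 - k) := by
    have : p ^ k * Z.index = p ^ k * p ^ (4 - k) := by
      rw [← hZk, hZcard, hZk, ← pow_add]; congr 1; omega
    exact Nat.eq_of_mul_eq_mul_left (pow_pos hp0 k) this
  interval_cases k
  · -- card Z = 1
    exfalso
    rw [hZk, pow_zero, Nat.dvd_one] at hpZ
    exact hp1.ne' hpZ
  · -- card Z = p : main argument
    exfalso
    rw [pow_one] at hZk
    obtain ⟨x, hx⟩ : ∃ x : P, x ∉ Z := by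
      by_contra hcon
      push Not at hcon
      exact hZtop (eq_top_iff.mpr fun g _ => hcon g)
    set C := Subgroup.centralizer ({x} : Set P) with hC
    have hZC : Z ≤ C := Subgroup.center_le_centralizer _
    have hxC : x ∈ C := by rw [hC, Subgroup.mem_centralizer_singleton_iff]
    have hCtop : C ≠ ⊤ := by
      intro h1
      apply hx
      rw [hZ, Subgroup.mem_center_iff]
      intro g
      have : g ∈ C := h1 ▸ Subgroup.mem_top g
      exact Subgroup.mem_centralizer_singleton_iff.mp this
    have hCidx : C.index = p := by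
      have h1 : C.index ∣ p := h ▸ index_centralizer_dvd_card_commutator hDZ x
      rcases (Nat.dvd_prime hp.out).mp h1 with h2 | h2
      · exact absurd (Subgroup.index_eq_one.mp h2) hCtop
      · exact h2
    have hCcard : Nat.card C = p ^ 3 := by
      have h1 : Nat.card C * p = p ^ 3 * p := by
        rw [← hCidx, Subgroup.card_mul_index, hcard, hCidx]; ring
      exact Nat.eq_of_mul_eq_mul_right hp0 h1
    set Z₁ := Z ⊔ Subgroup.zpowers x with hZ₁
    have hZ₁C : Z₁ ≤ C := sup_le hZC (Subgroup.zpowers_le.mpr hxC)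
    have hcent : ∀ z ∈ Z₁, ∀ c ∈ C, z * c = c * z := by
      have : Z₁ ≤ Subgroup.centralizer (C : Set P) := by
        refine sup_le (Subgroup.center_le_centralizer _) (Subgroup.zpowers_le.mpr ?_)
        rw [Subgroup.mem_centralizer_iff]
        intro c hc
        exact Subgroup.mem_centralizer_singleton_iff.mp hc
      intro z hz c hc
      exact (Subgroup.mem_centralizer_iff.mp (this hz) c hc).symm
    have hrel : Z₁.relIndex C ∣ p := by
      have h1 := card_mul_relIndex_of_le Z₁ C hZ₁C
      rw [hCcard] at h1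
      obtain ⟨j, hj, hZ₁j⟩ : ∃ j ≤ 3, Nat.card Z₁ = p ^ j :=
        (Nat.dvd_prime_pow hp.out).mp ⟨_, h1.symm⟩
      have hZZ₁ : Z ≤ Z₁ := le_sup_left
      have hne : Nat.card Z₁ ≠ p := by
        intro h2
        have : Z = Z₁ := Subgroup.eq_of_le_of_card_ge hZZ₁ (by rw [h2, hZk])
        apply hx
        rw [this]
        exact le_sup_right (a := Z) (Subgroup.mem_zpowers x)
      have hdvd : p ∣ Nat.card Z₁ := hZk ▸ Subgroup.card_dvd_of_le hZZ₁
      rw [hZ₁j] at h1 hne hdvd
      interval_cases j
      · rw [pow_zero, Nat.dvd_one] at hdvd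
        exact absurd hdvd hp1.ne'
      · exact absurd (pow_one p) hne
      · have : p ^ 2 * Z₁.relIndex C = p ^ 2 * p := by rw [h1]; ring
        rw [Nat.eq_of_mul_eq_mul_left (pow_pos hp0 2) this]
      · have : p ^ 3 * Z₁.relIndex C = p ^ 3 * 1 := by rw [h1]; ring
        rw [Nat.eq_of_mul_eq_mul_left (pow_pos hp0 3) this]
        exact one_dvd p
    have hCcomm : ∀ u ∈ C, ∀ v ∈ C, u * v = v * u :=
      subgroup_comm_of_central_relIndex_dvd_prime p C Z₁ hcent hrel
    have hCn : C.Normal := normal_of_index_eq_prime p hP C hCidx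
    obtain ⟨w, hw⟩ : ∃ w : P, w ∉ C := by
      by_contra hcon
      push Not at hcon
      exact hCtop (eq_top_iff.mpr fun g _ => hcon g)
    have hsup := sup_zpowers_eq_top_of_index_prime p C hCidx w hw
    have hKL := card_commutator_mul_card_inf_centralizer C hCcomm w hsup
    rw [inf_centralizer_eq_inf_center C hCcomm w hsup, inf_eq_right.mpr hZC, h, hZk, hCcard] at hKL
    have : p * p = p * p ^ 2 := by rw [hKL]; ring
    have h3 : p = p ^ 2 := Nat.eq_of_mul_eq_mul_left hp0 this
    nlinarith
  · -- card Z = p^2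
    exact hidx
  · -- card Z = p^3, index p: impossible
    exfalso
    have h1 : Z.index ∣ p := by rw [hidx]; norm_num
    have hcomm := comm_of_central_index_dvd_prime p Z le_rfl h1
    apply hZtop
    rw [eq_top_iff]
    intro g _
    rw [hZ, Subgroup.mem_center_iff]
    intro k
    exact hcomm k g
  · -- card Z = p^4
    exfalso
    apply hZtop
    apply Subgroup.index_eq_one.mp
    rw [hidx]; norm_num

end Cfsg.Agent.Lib.Helper76_PGroup
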