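import Mathlib
import Cfsg.Agent.S3917
import Cfsg.Agent.S3918
import Cfsg.Agent.Lib.Helper21_SCNCDefs

/-!
# S3921 package AUT (helper84)

An `r`-group `A` (`r` odd) all of whose non-cyclic subgroups contain their centralizers has no
non-trivial automorphism whose order has only prime divisors exceeding `r`.
Route: landed S3917 / S3918 give `A` cyclic, or `|A| = r²`, or `|A| = r³` non-abelian; a fixed-point
count modulo a prime `s > r` (`core`) settles the last two cases, `IsCyclic.card_mulAut` the first.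
-/

set_option autoImplicit false

open Cfsg.Agent.Lib.Helper21_SCNC

namespace Cfsg.Agent.Lib.Helper84_SCNC_AUT

/-- no prime `s > r` divides `r ^ d - 1` for `d = 1, 2` (`r` an odd prime). -/
theorem not_dvd_aux {r s : ℕ} (hr : r.Prime) (hr2 : r ≠ 2) (hs : s.Prime) (hrs : r < s) :
    ¬ s ∣ r - 1 ∧ ¬ s ∣ r ^ 2 - 1 := by
  have hr3 : 3 ≤ r := by
    have := hr.two_le
    omega
  have h1 : ¬ s ∣ r - 1 := by
    intro h
    have := Nat.le_of_dvd (by omega) h
    omega
  refine ⟨h1, ?_⟩
  intro h
  have e : r ^ 2 - 1 = (r - 1) * (r + 1) := by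
    obtain ⟨t, rfl⟩ : ∃ t, r = t + 1 := ⟨r - 1, by omega⟩
    simp only [Nat.add_sub_cancel]
    have : (t + 1) ^ 2 = t * (t + 1 + 1) + 1 := by ring
    rw [this, Nat.add_sub_cancel]
  rw [e] at h
  rcases (Nat.Prime.dvd_mul hs).mp h with h | h
  · exact h1 h
  · have hle := Nat.le_of_dvd (by omega) h
    have hs_eq : s = r + 1 := by omega
    have hodd : Odd r := hr.odd_of_ne_two hr2
    have heven : Even s := by
      rw [hs_eq]
      exact hodd.add_one
    have := (Nat.Prime.even_iff hs).mp heven
    omega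

/-- The counting core: an automorphism `γ` with `γ ^ s = 1` (`s > r` prime) of a group of order
`r ^ j` fixing pointwise a subgroup of index at most `r ^ 2` is trivial. -/
theorem core {B : Type*} [Group B] [Finite B] {r s j : ℕ} (hr : r.Prime) (hr2 : r ≠ 2)
    (hs : s.Prime) (hrs : r < s) (hB : Nat.card B = r ^ j) (γ : MulAut B) (hγ : γ ^ s = 1)
    (F' : Subgroup B) (hF' : ∀ b ∈ F', γ b = b) (hidx : r ^ j ≤ r ^ 2 * Nat.card ↥F') :
    γ = 1 := by
  classical
  have : Fintype B := Fintype.ofFinite B
  have : Fact s.Prime := ⟨hs⟩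
  -- the fixed subgroup
  let F : Subgroup B :=
    { carrier := {b | γ b = b}
      mul_mem' := by
        intro a b ha hb
        simp only [Set.mem_ofPred_eq] at ha hb ⊢
        rw [map_mul, ha, hb]
      one_mem' := by simp
      inv_mem' := by
        intro a ha
        simp only [Set.mem_ofPred_eq] at ha ⊢
        rw [map_inv, ha] }
  have hFmem : ∀ b, b ∈ F ↔ γ b = b := fun b => Iff.rfl
  -- the permutation
  let σ : Equiv.Perm B := MulAut.toPerm B γ
  have hσ : σ ^ s ^ 1 = 1 := by
    rw [pow_one]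
    show (MulAut.toPerm B γ) ^ s = 1
    rw [← map_pow, hγ, map_one]
  have hmod := Equiv.Perm.card_compl_support_modEq hσ
  have hcardF : Nat.card ↥F = σ.supportᶜ.card := by
    rw [Nat.card_eq_fintype_card]
    apply Fintype.card_of_subtype
    intro x
    rw [Finset.mem_compl, Equiv.Perm.mem_support, not_not]
    exact Iff.rfl
  rw [← hcardF, ← Nat.card_eq_fintype_card, hB] at hmod
  -- `|F| = r ^ i`
  have hdvd : Nat.card ↥F ∣ r ^ j := by
    rw [← hB]
    exact Subgroup.card_subgroup_dvd_card F
  obtain ⟨i, hij, hi⟩ := (Nat.dvd_prime_pow hr).mp hdvd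
  have hle : F' ≤ F := fun b hb => hF' b hb
  have hcle : Nat.card ↥F' ≤ Nat.card ↥F := Subgroup.card_le_of_le hle
  have hj2 : j ≤ i + 2 := by
    have h1 : r ^ j ≤ r ^ (i + 2) := by
      calc r ^ j ≤ r ^ 2 * Nat.card ↥F' := hidx
        _ ≤ r ^ 2 * r ^ i := by rw [← hi]; exact Nat.mul_le_mul_left _ hcle
        _ = r ^ (i + 2) := by ring
    exact (Nat.pow_le_pow_iff_right hr.one_lt).mp h1
  rw [hi] at hmod
  by_cases hieq : i = j
  · -- `F = ⊤`
    have hFtop : F = ⊤ := by
      apply Subgroup.eq_top_of_card_eq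
      rw [hi, hieq, hB]
    ext b
    have : b ∈ F := by rw [hFtop]; exact Subgroup.mem_top b
    exact this
  · exfalso
    have hilt : i < j := lt_of_le_of_ne hij hieq
    have hpow : r ^ i ≤ r ^ j := Nat.pow_le_pow_right hr.pos hij
    have hsd : s ∣ r ^ j - r ^ i := (Nat.modEq_iff_dvd' hpow).mp hmod
    obtain ⟨d, hd⟩ : ∃ d, j = i + d := ⟨j - i, by omega⟩
    have e : r ^ j - r ^ i = r ^ i * (r ^ d - 1) := by
      rw [hd, pow_add, Nat.mul_sub, mul_one]
    rw [e] at hsd
    have hnr : ¬ s ∣ r ^ i := by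
      intro h
      have := hs.dvd_of_dvd_pow h
      have := (Nat.prime_dvd_prime_iff_eq hs hr).mp this
      omega
    have hsd' : s ∣ r ^ d - 1 := by
      rcases (Nat.Prime.dvd_mul hs).mp hsd with h | h
      · exact absurd h hnr
      · exact h
    obtain ⟨hn1, hn2⟩ := not_dvd_aux hr hr2 hs hrs
    have hd12 : d = 1 ∨ d = 2 := by omega
    rcases hd12 with rfl | rfl
    · rw [pow_one] at hsd'
      exact hn1 hsd'
    · exact hn2 hsd'

theorem aut_eq_one {A : Type*} [Group A] [Finite A] (r : ℕ) [Fact r.Prime] (hr : r ≠ 2)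
    (hA : IsPGroup r A) (h : SCNC A) (α : MulAut A)
    (hα : ∀ s : ℕ, s.Prime → s ∣ orderOf α → r < s) : α = 1 := by
  have hrp : r.Prime := Fact.out
  by_contra hα1
  have hord1 : orderOf α ≠ 1 := fun h1 => hα1 (orderOf_eq_one_iff.mp h1)
  have hord0 : orderOf α ≠ 0 := (orderOf_pos α).ne'
  -- a prime divisor `s` of the order and a power `β` of order `s`
  obtain ⟨s, hs, hsd⟩ := Nat.exists_prime_and_dvd hord1
  have hrs : r < s := hα s hs hsd
  obtain ⟨β, hβ⟩ : ∃ β : MulAut A, orderOf β = s :=
    ⟨α ^ (orderOf α / s), orderOf_pow_orderOf_div hord0 hsd⟩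
  have hβs : β ^ s = 1 := by rw [← hβ]; exact pow_orderOf_eq_one β
  have hβ1 : β ≠ 1 := by
    intro h1
    rw [h1, orderOf_one] at hβ
    exact hs.one_lt.ne hβ
  obtain ⟨k, hk⟩ := (IsPGroup.iff_card (p := r) (G := A)).mp hA
  by_cases hcomm : IsMulCommutative A
  · -- abelian case
    let _ : CommGroup A := { (inferInstance : Group A) with mul_comm := fun a b => hcomm.is_comm.comm a b }
    rcases Cfsg.Agent.S3917.result (G := A) h with hcyc | ⟨p, hp, hcard, -⟩
    · -- cyclic
      have hdvd : orderOf α ∣ Nat.card (MulAut A) := orderOf_dvd_natCard α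
      rw [IsCyclic.card_mulAut A, hk] at hdvd
      have hsφ : s ∣ Nat.totient (r ^ k) := dvd_trans hsd hdvd
      rcases Nat.eq_zero_or_pos k with hk0 | hkpos
      · rw [hk0, pow_zero, Nat.totient_one] at hsφ
        exact hs.one_lt.ne' (Nat.dvd_one.mp hsφ)
      · rw [Nat.totient_prime_pow hrp hkpos] at hsφ
        rcases (Nat.Prime.dvd_mul hs).mp hsφ with h1 | h1
        · have := hs.dvd_of_dvd_pow h1
          have := (Nat.prime_dvd_prime_iff_eq hs hrp).mp this
          omega
        · have h2 := Nat.le_of_dvd (by have := hrp.two_le; omega) h1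
          omega
    · -- order `p ^ 2`, `p = r`
      have hpr : p = r := by
        have h1 : p ∣ r ^ k := by
          rw [← hk, hcard]
          exact dvd_pow_self p (by norm_num)
        exact (Nat.prime_dvd_prime_iff_eq hp hrp).mp (hp.dvd_of_dvd_pow h1)
      subst hpr
      apply hβ1
      refine core hrp hr hs hrs hcard β hβs ⊥ ?_ ?_
      · intro b hb
        rw [Subgroup.mem_bot] at hb
        rw [hb, map_one]
      · rw [Subgroup.card_bot, mul_one]
  · -- non-abelian case: order `r ^ 3`
    have hcard : Nat.card A = r ^ 3 := (Cfsg.Agent.S3918.result hr hA hcomm).mp h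
    have : Nontrivial A := by
      rw [← Finite.one_lt_card_iff_nontrivial, hcard]
      exact Nat.one_lt_pow (by norm_num) hrp.one_lt
    have hZnt : Nontrivial ↥(Subgroup.center A) := hA.center_nontrivial
    have hZdvd : Nat.card ↥(Subgroup.center A) ∣ r ^ 3 := by
      rw [← hcard]
      exact Subgroup.card_subgroup_dvd_card _
    obtain ⟨j, hj3, hj⟩ := (Nat.dvd_prime_pow hrp).mp hZdvd
    have hj1 : 1 ≤ j := by
      rcases Nat.eq_zero_or_pos j with h0 | hpos
      · exfalso
        rw [h0, pow_zero] at hj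
        have := Finite.one_lt_card_iff_nontrivial.mpr hZnt
        omega
      · exact hpos
    have hj2 : j ≤ 2 := by
      by_contra hcon
      have hj3' : j = 3 := by omega
      apply hcomm
      have htop : Subgroup.center A = ⊤ := by
        apply Subgroup.eq_top_of_card_eq
        rw [hj, hj3', hcard]
      refine ⟨⟨fun a b => ?_⟩⟩
      have ha : a ∈ Subgroup.center A := by rw [htop]; exact Subgroup.mem_top a
      rw [Subgroup.mem_center_iff] at ha
      exact (ha b).symm
    -- `β` is trivial on the center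
    have hγ : MulAut.characteristic (Subgroup.center A) β = 1 := by
      refine core hrp hr hs hrs hj (MulAut.characteristic (Subgroup.center A) β) ?_ ⊥ ?_ ?_
      · rw [← map_pow, hβs, map_one]
      · intro b hb
        rw [Subgroup.mem_bot] at hb
        rw [hb, map_one]
      · rw [Subgroup.card_bot, mul_one]
        exact Nat.pow_le_pow_right hrp.pos hj2
    have hfix : ∀ b ∈ Subgroup.center A, β b = b := by
      intro b hb
      have h1 : (MulAut.characteristic (Subgroup.center A) β) ⟨b, hb⟩ = ⟨b, hb⟩ := by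
        rw [hγ]
        rfl
      exact congrArg Subtype.val h1
    apply hβ1
    refine core hrp hr hs hrs hcard β hβs (Subgroup.center A) hfix ?_
    rw [hj, ← pow_add]
    exact Nat.pow_le_pow_right hrp.pos (by omega)

end Cfsg.Agent.Lib.Helper84_SCNC_AUT
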