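import Mathlib
import Cfsg.Agent.S0071
import Cfsg.Agent.Lib.Helper21_SCNCDefs
import Cfsg.Agent.Lib.Helper84_SCNC_AUT

/-!
# S3921 package EVEN (helper84)

A non-abelian finite simple group all of whose non-cyclic subgroups contain their centralizers
has even order (no Feit–Thompson): for the least prime divisor `r` (odd), landed S0071 (Frobenius)
and package AUT give a normal `r`-complement.
-/

set_option autoImplicit false

open Cfsg.Agent.Lib.Helper21_SCNC

namespace Cfsg.Agent.Lib.Helper84_SCNC_EVEN

/-- a simple group with non-trivial centre is commutative -/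
theorem comm_of_center_ne_bot {G : Type*} [Group G] [IsSimpleGroup G]
    (hc : Subgroup.center G ≠ ⊥) : IsMulCommutative G := by
  have htop : Subgroup.center G = ⊤ := by
    rcases (inferInstance : (Subgroup.center G).Normal).eq_bot_or_eq_top with hb | ht
    · exact absurd hb hc
    · exact ht
  refine ⟨⟨fun a b => ?_⟩⟩
  have ha : a ∈ Subgroup.center G := by rw [htop]; exact Subgroup.mem_top a
  rw [Subgroup.mem_center_iff] at ha
  exact (ha b).symm

theorem even_card {G : Type*} [Group G] [Finite G] [IsSimpleGroup G] (hna : ¬ IsMulCommutative G)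
    (h : SCNC G) : Even (Nat.card G) := by
  by_contra hodd
  have hcard1 : Nat.card G ≠ 1 := by
    have := Finite.one_lt_card_iff_nontrivial.mpr (inferInstance : Nontrivial G)
    omega
  -- the least prime divisor
  obtain ⟨r, hr_def⟩ : ∃ r, r = Nat.minFac (Nat.card G) := ⟨_, rfl⟩
  have hrp : r.Prime := by rw [hr_def]; exact Nat.minFac_prime hcard1
  have hrd : r ∣ Nat.card G := by rw [hr_def]; exact Nat.minFac_dvd _
  have hr2 : r ≠ 2 := by
    intro h2
    rw [h2] at hrd
    exact hodd (even_iff_two_dvd.mpr hrd)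
  have : Fact r.Prime := ⟨hrp⟩
  obtain ⟨R⟩ : Nonempty (Sylow r G) := inferInstance
  -- the Frobenius criterion
  have hfrob : ∀ Q : Subgroup G, Q ≤ (R : Subgroup G) → ∀ g ∈ Subgroup.normalizer (Q : Set G),
      Nat.Coprime (orderOf g) r → g ∈ Subgroup.centralizer (Q : Set G) := by
    intro Q hQ g hg hcop
    have hQp : IsPGroup r ↥Q := R.2.to_le hQ
    have hα := Helper84_SCNC_AUT.aut_eq_one r hr2 hQp (h.subgroup Q)
      (Q.normalizerMonoidHom ⟨g, hg⟩) ?_
    · rw [Subgroup.mem_centralizer_iff]
      intro q hq
      have h1 : (Q.normalizerMonoidHom ⟨g, hg⟩) ⟨q, hq⟩ = ⟨q, hq⟩ := by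
        rw [hα]
        rfl
      have h2 : g * q * g⁻¹ = q := congrArg Subtype.val h1
      calc q * g = g * q * g⁻¹ * g := by rw [h2]
        _ = g * q := by group
    · intro s hs hsd
      have h1 : orderOf (Q.normalizerMonoidHom ⟨g, hg⟩) ∣ orderOf g := by
        have := orderOf_map_dvd Q.normalizerMonoidHom (⟨g, hg⟩ : Subgroup.normalizer (Q : Set G))
        rwa [Subgroup.orderOf_mk] at this
      have h2 : s ∣ orderOf g := dvd_trans hsd h1
      have h3 : s ∣ Nat.card G := dvd_trans h2 (orderOf_dvd_natCard g)
      have h4 : r ≤ s := by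
        rw [hr_def]
        exact Nat.minFac_le_of_dvd hs.two_le h3
      have h5 : s ≠ r := by
        intro hsr
        rw [hsr] at h2
        have := Nat.Coprime.eq_one_of_dvd hcop.symm h2
        exact hrp.one_lt.ne' this
      omega
  obtain ⟨N, hN, hc⟩ := (Cfsg.Agent.S0071.result R).mpr hfrob
  rcases hN.eq_bot_or_eq_top with hbot | htop
  · -- `G` is an `r`-group
    rw [hbot, Subgroup.isComplement'_bot_left] at hc
    have hGp : IsPGroup r G := by
      have h1 : IsPGroup r ↥(R : Subgroup G) := R.2
      rw [hc] at h1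
      exact h1.of_equiv Subgroup.topEquiv
    have hnt : Nontrivial ↥(Subgroup.center G) := hGp.center_nontrivial
    apply hna
    apply comm_of_center_ne_bot
    intro hb
    rw [hb] at hnt
    exact not_nontrivial _ hnt
  · rw [htop, Subgroup.isComplement'_top_left] at hc
    exact R.ne_bot_of_dvd_card hrd hc

end Cfsg.Agent.Lib.Helper84_SCNC_EVEN
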