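import Mathlib
import Cfsg.Agent.S0225

/-!
# S3921 package FOUR (helper84): a non-abelian finite simple group of even order has a Klein
four-subgroup (from landed S0225).
-/

set_option autoImplicit false

namespace Cfsg.Agent.Lib.Helper84_SCNC_FOUR

theorem exists_kleinFour {G : Type*} [Group G] [Finite G] [IsSimpleGroup G] (hna : ¬ IsMulCommutative G)
    (heven : Even (Nat.card G)) : ∃ V : Subgroup G, IsKleinFour ↥V := by
  by_contra hcon
  push Not at hcon
  obtain ⟨z, hz, N, hN, hodd, hzN⟩ := Cfsg.Agent.S0225.result heven hcon
  rcases hN.eq_bot_or_eq_top with hbot | htop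
  · -- `z` is central
    have hzc : z ∈ Subgroup.center G := by
      rw [Subgroup.mem_center_iff]
      intro g
      have h1 := hzN g
      rw [hbot, Subgroup.mem_bot] at h1
      have h2 : z * g = g * z := by
        have h3 : z * g * z⁻¹ = g := by
          rw [← mul_inv_eq_one]
          exact h1
        calc z * g = z * g * z⁻¹ * z := by group
          _ = g * z := by rw [h3]
      exact h2.symm
    have hz1 : z ≠ 1 := by
      intro h
      rw [h, orderOf_one] at hz
      norm_num at hz
    have hcen : Subgroup.center G = ⊤ := by
      rcases (inferInstance : (Subgroup.center G).Normal).eq_bot_or_eq_top with hb | ht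
      · exfalso
        rw [hb, Subgroup.mem_bot] at hzc
        exact hz1 hzc
      · exact ht
    apply hna
    refine ⟨⟨fun a b => ?_⟩⟩
    have ha : a ∈ Subgroup.center G := by rw [hcen]; exact Subgroup.mem_top a
    rw [Subgroup.mem_center_iff] at ha
    exact (ha b).symm
  · rw [htop, Subgroup.card_top] at hodd
    exact (Nat.not_even_iff_odd.mpr hodd) heven

end Cfsg.Agent.Lib.Helper84_SCNC_FOUR
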