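import Mathlib
import Cfsg.Prelude.Def_CaseTheorems
import Cfsg.Agent.Lib.Helper21_SCNCDefs

/-!
# S3921 package `ABS` (helper8): the centralizer-cases criterion for `SCNC`.
-/

set_option autoImplicit false

namespace Cfsg.Agent.Lib.Helper8_SCNC_ABS

open Cfsg.Agent.Lib.Helper21_SCNC

/-- a group of order at most two is cyclic -/
theorem isCyclic_of_card_le_two {H : Type*} [Group H] [Finite H] (h : Nat.card H ≤ 2) :
    IsCyclic H := by
  have hpos : 0 < Nat.card H := Nat.card_pos
  have h12 : Nat.card H = 1 ∨ Nat.card H = 2 := by omega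
  rcases h12 with h1 | h2
  · have : Subsingleton H := (Nat.card_eq_one_iff_unique.1 h1).1
    exact isCyclic_of_subsingleton
  · have : Fact (Nat.Prime 2) := ⟨Nat.prime_two⟩
    exact isCyclic_of_prime_card h2

/-- a subgroup of a subgroup with cyclic carrier is cyclic -/
theorem isCyclic_of_le {G : Type*} [Group G] {H C : Subgroup G} (hHC : H ≤ C)
    (hC : IsCyclic ↥C) : IsCyclic ↥H := by
  have e : ↥(H.subgroupOf C) ≃* ↥H := Subgroup.subgroupOfEquivOfLe hHC
  have : IsCyclic ↥(H.subgroupOf C) := Subgroup.isCyclic _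
  exact isCyclic_of_surjective e e.surjective

theorem scnc_of_cent_cases {G : Type*} [Group G] [Finite G]
    (hc : ∀ x : G, x ≠ 1 →
      IsCyclic ↥(Subgroup.centralizer ({x} : Set G)) ∨
      (∃ p : ℕ, p.Prime ∧ Nat.card ↥(Subgroup.centralizer ({x} : Set G)) = p ^ 2) ∨
      (orderOf x = 2 ∧ ∃ T : Subgroup G, T ≤ Subgroup.centralizer ({x} : Set G) ∧ IsCyclic ↥T ∧
        IsPGroup 2 ↥T ∧ x ∈ T ∧ Nat.card ↥(Subgroup.centralizer ({x} : Set G)) ≤ 2 * Nat.card ↥T)) :
    SCNC G := by
  classical
  apply scnc_of_forall_mem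
  intro x H hH hnc
  by_cases hx1 : x = 1
  · rw [hx1]
    exact H.one_mem
  have hxC : x ∈ Subgroup.centralizer ({x} : Set G) := by
    rw [Subgroup.mem_centralizer_iff]
    intro y hy
    rw [Set.mem_singleton_iff] at hy
    rw [hy]
  rcases hc x hx1 with hI | ⟨p, hp, hII⟩ | ⟨hx2, T, hTC, hTcyc, hT2, hxT, hcard⟩
  · exact absurd (isCyclic_of_le hH hI) hnc
  · -- order `p ^ 2`
    have hdvd : Nat.card ↥H ∣ p ^ 2 := by
      rw [← hII]
      exact Subgroup.card_dvd_of_le hH
    obtain ⟨j, hj, hHj⟩ := (Nat.dvd_prime_pow hp).1 hdvd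
    have hj012 : j = 0 ∨ j = 1 ∨ j = 2 := by omega
    rcases hj012 with rfl | rfl | rfl
    · exfalso
      apply hnc
      apply isCyclic_of_card_le_two
      rw [hHj, pow_zero]
      norm_num
    · exfalso
      apply hnc
      have : Fact p.Prime := ⟨hp⟩
      rw [pow_one] at hHj
      exact isCyclic_of_prime_card hHj
    · have hEq : H = Subgroup.centralizer ({x} : Set G) := by
        apply Subgroup.eq_of_le_of_card_ge hH
        rw [hII, hHj]
      rw [hEq]
      exact hxC
  · -- a cyclic `2`-subgroup of index at most two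
    set C := Subgroup.centralizer ({x} : Set G) with hC
    have hTpos : 0 < Nat.card ↥T := Nat.card_pos
    have hrelC : T.relIndex C ≤ 2 := by
      have h1 := Subgroup.relIndex_mul_relIndex (⊥ : Subgroup G) T C bot_le hTC
      rw [Subgroup.relIndex_bot_left, Subgroup.relIndex_bot_left] at h1
      rw [← h1] at hcard
      have h2 : Nat.card ↥T * T.relIndex C ≤ Nat.card ↥T * 2 := by
        rw [mul_comm (Nat.card ↥T) 2]
        exact hcard
      exact Nat.le_of_mul_le_mul_left h2 hTpos
    have hrelCne : T.relIndex C ≠ 0 := by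
      intro h0
      have h1 := Subgroup.relIndex_mul_relIndex (⊥ : Subgroup G) T C bot_le hTC
      rw [h0, mul_zero, Subgroup.relIndex_bot_left] at h1
      have : 0 < Nat.card ↥C := Nat.card_pos
      omega
    have hrelH : T.relIndex H ≤ 2 := (Subgroup.relIndex_le_of_le_right hH hrelCne).trans hrelC
    -- `T ⊓ H` is not trivial
    have hne : T ⊓ H ≠ ⊥ := by
      intro hbot
      apply hnc
      apply isCyclic_of_card_le_two
      have h1 := Subgroup.relIndex_mul_relIndex (⊥ : Subgroup G) (T ⊓ H) H bot_le inf_le_right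
      rw [Subgroup.relIndex_bot_left, Subgroup.relIndex_bot_left, Subgroup.inf_relIndex_right,
        hbot, Subgroup.card_bot, one_mul] at h1
      rw [← h1]
      exact hrelH
    -- it contains an involution
    have h2grp : IsPGroup 2 ↥(T ⊓ H) := hT2.to_le inf_le_left
    have hcardne : Nat.card ↥(T ⊓ H) ≠ 1 := by
      intro h1
      apply hne
      exact Subgroup.card_eq_one.1 h1 |> fun h => h
    obtain ⟨j, hj⟩ := (IsPGroup.iff_card).1 h2grp
    have hj0 : j ≠ 0 := by
      intro h0
      apply hcardne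
      rw [hj, h0, pow_zero]
    have h2dvd : 2 ∣ Nat.card ↥(T ⊓ H) := by
      rw [hj]
      exact dvd_pow_self 2 hj0
    have : Fact (Nat.Prime 2) := ⟨Nat.prime_two⟩
    obtain ⟨y, hy⟩ := exists_prime_orderOf_dvd_card' 2 h2dvd
    have hy2 : orderOf (y : G) = 2 := by
      rw [Subgroup.orderOf_coe]
      exact hy
    have hyT : (y : G) ∈ T := (Subgroup.mem_inf.1 y.2).1
    have hyH : (y : G) ∈ H := (Subgroup.mem_inf.1 y.2).2
    -- the unique involution of `T`
    have hxy : x = (y : G) := by
      by_contra hxy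
      exact not_isCyclic_of_two_invol hx2 hy2 hxy hxT hyT hTcyc
    rw [hxy]
    exact hyH

end Cfsg.Agent.Lib.Helper8_SCNC_ABS
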