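import Mathlib
import Cfsg.Agent.Lib.Helper4_Sylow2

set_option autoImplicit false
set_option linter.unusedSectionVars false

/-!
Brauer-Suzuki-Wall (S0508), front end, abstract part: from the structure `C_G(t) = O ⋊ S`
(with `A ≤ S` cyclic of index two centralizing `O`, and `S \ A` inverting `O` and `A`) to the
hypotheses of the abstract form S3282 (helper55).
-/

namespace Cfsg.Agent.Lib.Helper55_BSWFront

open Subgroup

variable {G : Type*} [Group G]

theorem pow_card_of_mem [Finite G] {N : Subgroup G} {x : G} (hx : x ∈ N) : x ^ Nat.card N = 1 := by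
  have h := pow_card_eq_one' (G := N) (x := ⟨x, hx⟩)
  have h2 := congrArg Subtype.val h
  rwa [Subgroup.coe_pow, Subgroup.coe_one] at h2

/-- the abstract hypotheses on the centralizer of the involution `t` -/
structure FrontHyp (t : G) (O S A : Subgroup G) : Prop where
  ht : orderOf t = 2
  hOC : O ≤ centralizer ({t} : Set G)
  hOodd : Odd (Nat.card O)
  hS2 : IsPGroup 2 S
  hSC : S ≤ centralizer ({t} : Set G)
  hdec : ∀ c ∈ centralizer ({t} : Set G), ∃ o ∈ O, ∃ σ ∈ S, c = o * σ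
  hAS : A ≤ S
  hAcyc : IsCyclic A
  htA : t ∈ A
  hAO : ∀ a ∈ A, ∀ o ∈ O, a * o = o * a
  hex : ∃ s ∈ S, s ∉ A
  hidx : ∀ σ ∈ S, σ ∉ A → ∀ σ' ∈ S, σ' ∉ A → σ * σ' ∈ A
  hinvA : ∀ s ∈ S, s ∉ A → orderOf s = 2 ∧ ∀ a ∈ A, s * a * s⁻¹ = a⁻¹
  hinvO : ∀ s ∈ S, s ∉ A → ∀ o ∈ O, s * o * s⁻¹ = o⁻¹
  hc : ∀ Y : Subgroup G, Y ≤ O → Y ≠ ⊥ →
    normalizer (Y : Set G) ≤ centralizer ({t} : Set G)

/-- the product of two subgroups one of which centralizes the other -/
def prodSub (O A : Subgroup G) (h : ∀ a ∈ A, ∀ o ∈ O, a * o = o * a) : Subgroup G where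
  carrier := {x | ∃ o ∈ O, ∃ a ∈ A, x = o * a}
  mul_mem' := by
    rintro _ _ ⟨o, ho, a, ha, rfl⟩ ⟨o', ho', a', ha', rfl⟩
    refine ⟨o * o', O.mul_mem ho ho', a * a', A.mul_mem ha ha', ?_⟩
    calc o * a * (o' * a') = o * (a * o') * a' := by group
      _ = o * (o' * a) * a' := by rw [h a ha o' ho']
      _ = o * o' * (a * a') := by group
  one_mem' := ⟨1, O.one_mem, 1, A.one_mem, by rw [mul_one]⟩
  inv_mem' := by
    rintro _ ⟨o, ho, a, ha, rfl⟩
    refine ⟨o⁻¹, O.inv_mem ho, a⁻¹, A.inv_mem ha, ?_⟩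
    rw [mul_inv_rev, h a⁻¹ (A.inv_mem ha) o⁻¹ (O.inv_mem ho)]

theorem mem_prodSub {O A : Subgroup G} {h : ∀ a ∈ A, ∀ o ∈ O, a * o = o * a} {x : G} :
    x ∈ prodSub O A h ↔ ∃ o ∈ O, ∃ a ∈ A, x = o * a := Iff.rfl

section

variable [Finite G] {t : G} {O S A : Subgroup G} (h : FrontHyp t O S A)

include h

theorem mem_cent_iff {g : G} : g ∈ centralizer ({t} : Set G) ↔ g * t = t * g := by
  rw [mem_centralizer_iff]
  constructor
  · intro hg
    exact (hg t rfl).symm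
  · intro hg w hw
    rw [Set.mem_singleton_iff] at hw
    rw [hw, hg]

theorem t_sq : t * t = 1 := by
  rw [← pow_two, ← h.ht, pow_orderOf_eq_one]

theorem t_inv : t⁻¹ = t := inv_eq_of_mul_eq_one_right (t_sq h)

theorem t_ne_one : t ≠ 1 := by
  intro h1
  have := h.ht
  rw [h1, orderOf_one] at this
  omega

/-- `O ∩ S = 1` -/
theorem O_inf_S {x : G} (hxO : x ∈ O) (hxS : x ∈ S) : x = 1 := by
  obtain ⟨k, hk⟩ := (h.hS2.to_le le_rfl) ⟨x, hxS⟩
  have h1 : x ^ 2 ^ k = 1 := by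
    have := congrArg Subtype.val hk
    simpa using this
  have h2 : x ^ Nat.card O = 1 := pow_card_of_mem hxO
  have h3 : (Nat.card O).Coprime (2 ^ k) :=
    Nat.Coprime.pow_right k (Nat.coprime_two_right.mpr h.hOodd)
  have := pow_gcd_eq_one.mpr ⟨h2, h1⟩
  rwa [Nat.Coprime.gcd_eq_one h3, pow_one] at this

/-- the abelian subgroup `K = O × A` -/
def K : Subgroup G := prodSub O A h.hAO

theorem mem_K {x : G} : x ∈ K h ↔ ∃ o ∈ O, ∃ a ∈ A, x = o * a := Iff.rfl

theorem O_le_K : O ≤ K h := fun o ho => ⟨o, ho, 1, A.one_mem, by rw [mul_one]⟩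

theorem A_le_K : A ≤ K h := fun a ha => ⟨1, O.one_mem, a, ha, by rw [one_mul]⟩

theorem t_mem_K : t ∈ K h := A_le_K h h.htA

theorem K_le_cent : K h ≤ centralizer ({t} : Set G) := by
  rintro _ ⟨o, ho, a, ha, rfl⟩
  exact (centralizer ({t} : Set G)).mul_mem (h.hOC ho) (h.hSC (h.hAS ha))

/-- every element of `S \ A` inverts `K` -/
theorem inv_K {s : G} (hsS : s ∈ S) (hsA : s ∉ A) {x : G} (hx : x ∈ K h) :
    s * x * s⁻¹ = x⁻¹ := by
  obtain ⟨o, ho, a, ha, rfl⟩ := hx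
  have e : s * (o * a) * s⁻¹ = (s * o * s⁻¹) * (s * a * s⁻¹) := by group
  rw [e, h.hinvO s hsS hsA o ho, (h.hinvA s hsS hsA).2 a ha, mul_inv_rev,
    h.hAO a⁻¹ (A.inv_mem ha) o⁻¹ (O.inv_mem ho)]

/-- `K` is abelian -/
theorem K_comm {x y : G} (hx : x ∈ K h) (hy : y ∈ K h) : x * y = y * x := by
  obtain ⟨s, hsS, hsA⟩ := h.hex
  have h1 := inv_K h hsS hsA ((K h).mul_mem hx hy)
  have e : s * (x * y) * s⁻¹ = (s * x * s⁻¹) * (s * y * s⁻¹) := by group
  rw [e, inv_K h hsS hsA hx, inv_K h hsS hsA hy, ← mul_inv_rev] at h1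
  exact (inv_injective h1).symm

/-- elements of `K` of odd order lie in `O` -/
theorem mem_O_of_odd {x : G} (hx : x ∈ K h) {m : ℕ} (hm : Odd m) (hxm : x ^ m = 1) : x ∈ O := by
  obtain ⟨o, ho, a, ha, rfl⟩ := hx
  have hcomm : Commute o a := (h.hAO a ha o ho).symm
  rw [hcomm.mul_pow] at hxm
  have h1 : a ^ m = (o ^ m)⁻¹ := eq_inv_of_mul_eq_one_right hxm
  have h2 : a ^ m = 1 :=
    O_inf_S h (h1 ▸ O.inv_mem (O.pow_mem ho m)) (S.pow_mem (h.hAS ha) m)
  obtain ⟨k, hk⟩ := (h.hS2.to_le le_rfl) ⟨a, h.hAS ha⟩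
  have h3 : a ^ 2 ^ k = 1 := by
    have := congrArg Subtype.val hk
    simpa using this
  have h4 : (m).Coprime (2 ^ k) := Nat.Coprime.pow_right k (Nat.coprime_two_right.mpr hm)
  have h5 := pow_gcd_eq_one.mpr ⟨h2, h3⟩
  rw [Nat.Coprime.gcd_eq_one h4, pow_one] at h5
  rw [h5, mul_one]
  exact ho

/-- the only involution of `K` is `t` -/
theorem eq_t_of_sq {x : G} (hx : x ∈ K h) (hx2 : x * x = 1) (hx1 : x ≠ 1) : x = t := by
  obtain ⟨o, ho, a, ha, rfl⟩ := hx
  have hcomm : o * a = a * o := (h.hAO a ha o ho).symm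
  have h1 : (o * o) * (a * a) = 1 := by
    calc (o * o) * (a * a) = o * (o * a) * a := by group
      _ = o * (a * o) * a := by rw [hcomm]
      _ = (o * a) * (o * a) := by group
      _ = 1 := hx2
  have h2 : o * o = (a * a)⁻¹ := eq_inv_of_mul_eq_one_left h1
  have h3 : o * o = 1 :=
    O_inf_S h (O.mul_mem ho ho) (h2 ▸ S.inv_mem (S.mul_mem (h.hAS ha) (h.hAS ha)))
  have ho1 : o = 1 := by
    have h4 : o ^ 2 = 1 := by rw [pow_two, h3]
    have h5 : o ^ Nat.card O = 1 := pow_card_of_mem ho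
    have h7 := pow_gcd_eq_one.mpr ⟨h5, h4⟩
    rwa [Nat.Coprime.gcd_eq_one (Nat.coprime_two_right.mpr h.hOodd), pow_one] at h7
  rw [ho1, one_mul] at hx1 ⊢
  rw [h3, one_mul] at h1
  have hao : orderOf a = 2 := orderOf_eq_prime (by rw [pow_two, h1]) hx1
  exact Cfsg.Agent.Lib.Helper4_Sylow2.involution_unique_of_isCyclic_subgroup A h.hAcyc a t ha h.htA
    hao h.ht

/-- `S \ A` is disjoint from `K` -/
theorem not_mem_K {s : G} (hsS : s ∈ S) (hsA : s ∉ A) : s ∉ K h := by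
  rintro ⟨o, ho, a, ha, hs⟩
  have h1 : o = s * a⁻¹ := by rw [hs]; group
  have h2 : o = 1 := O_inf_S h ho (h1 ▸ S.mul_mem hsS (S.inv_mem (h.hAS ha)))
  rw [h2, one_mul] at hs
  exact hsA (hs ▸ ha)

/-- `C_G(t) = K ∪ K s` -/
theorem cent_cases {s : G} (hsS : s ∈ S) (hsA : s ∉ A) {c : G}
    (hc : c ∈ centralizer ({t} : Set G)) : c ∈ K h ∨ ∃ κ ∈ K h, c = κ * s := by
  obtain ⟨o, ho, σ, hσ, rfl⟩ := h.hdec c hc
  by_cases hσA : σ ∈ A
  · left
    exact ⟨o, ho, σ, hσA, rfl⟩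
  · right
    have hs2 : s * s = 1 := by
      rw [← pow_two, ← (h.hinvA s hsS hsA).1, pow_orderOf_eq_one]
    refine ⟨o * (σ * s), ⟨o, ho, σ * s, h.hidx σ hσ hσA s hsS hsA, rfl⟩, ?_⟩
    calc o * σ = o * σ * (s * s) := by rw [hs2, mul_one]
      _ = o * (σ * s) * s := by group

theorem K_sup {s : G} (hsS : s ∈ S) (hsA : s ∉ A) :
    K h ⊔ zpowers s = centralizer ({t} : Set G) := by
  apply le_antisymm
  · apply sup_le (K_le_cent h)
    rw [zpowers_le]
    exact h.hSC hsS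
  · intro c hc
    rcases cent_cases h hsS hsA hc with hcK | ⟨κ, hκ, rfl⟩
    · exact (le_sup_left : K h ≤ K h ⊔ zpowers s) hcK
    · exact (K h ⊔ zpowers s).mul_mem ((le_sup_left : K h ≤ K h ⊔ zpowers s) hκ)
        ((le_sup_right : zpowers s ≤ K h ⊔ zpowers s) (mem_zpowers s))

theorem K_inf_cent {s : G} (hsS : s ∈ S) (hsA : s ∉ A) :
    K h ⊓ centralizer ({s} : Set G) = zpowers t := by
  apply le_antisymm
  · intro x hx
    have hxK : x ∈ K h := hx.1
    have hxs : x ∈ centralizer ({s} : Set G) := hx.2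
    have hcomm : s * x = x * s := by
      rw [mem_centralizer_iff] at hxs
      exact hxs s rfl
    have h1 : s * x * s⁻¹ = x := by rw [hcomm]; group
    rw [inv_K h hsS hsA hxK] at h1
    have h2 : x * x = 1 := by
      calc x * x = x * x⁻¹ := by rw [h1]
        _ = 1 := mul_inv_cancel x
    by_cases hx1 : x = 1
    · rw [hx1]; exact one_mem _
    · rw [eq_t_of_sq h hxK h2 hx1]
      exact mem_zpowers t
  · rw [zpowers_le]
    refine ⟨t_mem_K h, ?_⟩
    show t ∈ centralizer ({s} : Set G)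
    rw [mem_centralizer_iff]
    intro w hw
    rw [Set.mem_singleton_iff] at hw
    rw [hw]
    exact ((mem_cent_iff h).1 (h.hSC hsS))

/-- the trivial intersection property: if `x ≠ 1` and `g⁻¹ x g` both lie in `K` then `g`
centralizes `t`. -/
theorem ti {x g : G} (hx : x ∈ K h) (hx1 : x ≠ 1) (hk : g⁻¹ * x * g ∈ K h) :
    g ∈ centralizer ({t} : Set G) := by
  obtain ⟨s, hsS, hsA⟩ := h.hex
  have hpos : 0 < orderOf x := orderOf_pos x
  have hconjpow : ∀ j : ℕ, (g⁻¹ * x * g) ^ j = g⁻¹ * x ^ j * g := by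
    intro j
    induction j with
    | zero => simp
    | succ j ih => rw [pow_succ, ih, pow_succ]; group
  rcases Nat.even_or_odd (orderOf x) with hev | hodd
  · -- even order
    obtain ⟨m, hm⟩ := hev
    have hm0 : 0 < m := by omega
    have hy2 : x ^ m * x ^ m = 1 := by
      rw [← pow_add, ← hm, pow_orderOf_eq_one]
    have hy1 : x ^ m ≠ 1 := by
      intro h0
      have := orderOf_le_of_pow_eq_one hm0 h0
      omega
    have hyt : x ^ m = t := eq_t_of_sq h ((K h).pow_mem hx m) hy2 hy1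
    have hz2 : (g⁻¹ * x ^ m * g) * (g⁻¹ * x ^ m * g) = 1 := by
      have : (g⁻¹ * x ^ m * g) * (g⁻¹ * x ^ m * g) = g⁻¹ * (x ^ m * x ^ m) * g := by group
      rw [this, hy2]; group
    have hz1 : g⁻¹ * x ^ m * g ≠ 1 := by
      intro h0
      apply hy1
      have : x ^ m = g * (g⁻¹ * x ^ m * g) * g⁻¹ := by group
      rw [this, h0]; group
    have hzK : g⁻¹ * x ^ m * g ∈ K h := by
      rw [← hconjpow]
      exact (K h).pow_mem hk m
    have hzt := eq_t_of_sq h hzK hz2 hz1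
    rw [hyt] at hzt
    rw [mem_cent_iff h]
    calc g * t = g * (g⁻¹ * t * g) := by rw [hzt]
      _ = t * g := by group
  · -- odd order
    have hxO : x ∈ O := mem_O_of_odd h hx hodd (pow_orderOf_eq_one x)
    have hYO : zpowers x ≤ O := zpowers_le.mpr hxO
    have hYne : zpowers x ≠ ⊥ := by
      intro h0
      exact hx1 (zpowers_eq_bot.mp h0)
    have hN := h.hc (zpowers x) hYO hYne
    -- `t' = g t g⁻¹` commutes with `x`
    have hcomm : (g * t * g⁻¹) * x = x * (g * t * g⁻¹) := by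
      have h1 := K_comm h (t_mem_K h) hk
      calc (g * t * g⁻¹) * x = g * (t * (g⁻¹ * x * g)) * g⁻¹ := by group
        _ = g * ((g⁻¹ * x * g) * t) * g⁻¹ := by rw [h1]
        _ = x * (g * t * g⁻¹) := by group
    have ht'N : g * t * g⁻¹ ∈ normalizer ((zpowers x : Subgroup G) : Set G) := by
      apply Subgroup.centralizer_le_normalizer
      rw [mem_centralizer_iff]
      intro y hy
      obtain ⟨j, rfl⟩ := mem_zpowers_iff.mp hy
      have hc2 : Commute (g * t * g⁻¹) x := hcomm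
      exact ((hc2.zpow_right j).eq).symm
    have ht'C : g * t * g⁻¹ ∈ centralizer ({t} : Set G) := hN ht'N
    have ht'2 : (g * t * g⁻¹) * (g * t * g⁻¹) = 1 := by
      have : (g * t * g⁻¹) * (g * t * g⁻¹) = g * (t * t) * g⁻¹ := by group
      rw [this, t_sq h]; group
    have ht'1 : g * t * g⁻¹ ≠ 1 := by
      intro h0
      apply t_ne_one h
      have : t = g⁻¹ * (g * t * g⁻¹) * g := by group
      rw [this, h0]; group
    have ht'K : g * t * g⁻¹ ∈ K h := by
      rcases cent_cases h hsS hsA ht'C with hK | ⟨κ, hκ, hκs⟩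
      · exact hK
      · exfalso
        -- `κ s` inverts `x`
        have h1 : (κ * s) * x * (κ * s)⁻¹ = x⁻¹ := by
          have e : (κ * s) * x * (κ * s)⁻¹ = κ * (s * x * s⁻¹) * κ⁻¹ := by group
          rw [e, inv_K h hsS hsA hx, K_comm h hκ ((K h).inv_mem hx)]
          group
        have h2 : (κ * s) * x * (κ * s)⁻¹ = x := by
          rw [← hκs, hcomm]; group
        rw [h2] at h1
        have h3 : x ^ 2 = 1 := by
          rw [pow_two]
          calc x * x = x * x⁻¹ := by rw [← h1]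
            _ = 1 := mul_inv_cancel x
        have h4 := pow_gcd_eq_one.mpr ⟨pow_orderOf_eq_one x, h3⟩
        rw [Nat.Coprime.gcd_eq_one (Nat.coprime_two_right.mpr hodd), pow_one] at h4
        exact hx1 h4
    have ht't := eq_t_of_sq h ht'K ht'2 ht'1
    rw [mem_cent_iff h]
    calc g * t = (g * t * g⁻¹) * g := by group
      _ = t * g := by rw [ht't]

end

end Cfsg.Agent.Lib.Helper55_BSWFront
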