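import Mathlib
import Cfsg.Agent.Lib.Helper1_FPF
import Cfsg.Agent.Lib.Helper55_BSWFront

set_option autoImplicit false
set_option linter.unusedSectionVars false

/-!
Brauer-Suzuki-Wall (S0508), back end, group-theoretic part: from the conclusion of the abstract
form S3282 (subgroups `Q`, `D`) to the structure of the normalizer `N = N_G(Q) = Q ⋊ D` (helper55).
-/

namespace Cfsg.Agent.Lib.Helper55_BSWBack

open Subgroup Cfsg.Agent.Lib.Helper55_BSWFront
open scoped Pointwise

variable {G : Type*} [Group G] [Finite G]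

/-- the conclusion of the abstract form S3282 -/
structure BackHyp (Q D : Subgroup G) : Prop where
  hcard : 2 * Nat.card G = Nat.card Q * (Nat.card Q + 1) * (Nat.card Q - 1)
  hcent : ∀ x ∈ Q, x ≠ 1 → centralizer ({x} : Set G) = Q
  hDQ : 2 * Nat.card D + 1 = Nat.card Q
  hdisj : Q ⊓ D = ⊥
  hnorm : normalizer (Q : Set G) = Q ⊔ D
  hD : ∀ X : Subgroup G, X ≤ D → X ≠ ⊥ →
    normalizer (X : Set G) = normalizer (D : Set G) ∧
      ∃ u : G, orderOf u = 2 ∧ u ∉ D ∧ (∀ d ∈ D, u * d * u⁻¹ = d⁻¹) ∧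
        normalizer (D : Set G) = D ⊔ zpowers u

variable {Q D : Subgroup G} (h : BackHyp Q D)

include h

theorem Q_le_N : Q ≤ normalizer (Q : Set G) := le_normalizer

theorem D_le_N : D ≤ normalizer (Q : Set G) := by
  rw [h.hnorm]
  exact le_sup_right

theorem inf_eq_one {x : G} (hxQ : x ∈ Q) (hxD : x ∈ D) : x = 1 := by
  have : x ∈ Q ⊓ D := ⟨hxQ, hxD⟩
  rw [h.hdisj, mem_bot] at this
  exact this

theorem mem_cent_iff' {x g : G} : g ∈ centralizer ({x} : Set G) ↔ g * x = x * g := by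
  rw [mem_centralizer_iff]
  constructor
  · intro hg
    exact (hg x rfl).symm
  · intro hg w hw
    rw [Set.mem_singleton_iff] at hw
    rw [hw, hg]

/-- `Q` is abelian -/
theorem Q_comm {x y : G} (hx : x ∈ Q) (hy : y ∈ Q) : x * y = y * x := by
  by_cases hx1 : x = 1
  · rw [hx1, one_mul, mul_one]
  · have h1 : y ∈ centralizer ({x} : Set G) := by rw [h.hcent x hx hx1]; exact hy
    exact ((mem_cent_iff' h).1 h1).symm

/-- conjugation by elements of the normalizer -/
theorem conj_mem_Q {n x : G} (hn : n ∈ normalizer (Q : Set G)) (hx : x ∈ Q) :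
    n * x * n⁻¹ ∈ Q := (mem_normalizer_iff.mp hn x).mp hx

theorem conj_mem_Q' {n x : G} (hn : n ∈ normalizer (Q : Set G)) (hx : x ∈ Q) :
    n⁻¹ * x * n ∈ Q := by
  have := conj_mem_Q h ((normalizer (Q : Set G)).inv_mem hn) hx
  rwa [inv_inv] at this

/-- decomposition of the normalizer -/
theorem N_decomp {n : G} (hn : n ∈ normalizer (Q : Set G)) : ∃ x ∈ Q, ∃ d ∈ D, n = x * d := by
  have h1 : ((Q ⊔ D : Subgroup G) : Set G) = (Q : Set G) * (D : Set G) :=
    coe_mul_of_right_le_normalizer_left Q D (D_le_N h)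
  rw [h.hnorm] at hn
  have h2 : n ∈ ((Q ⊔ D : Subgroup G) : Set G) := hn
  rw [h1] at h2
  obtain ⟨x, hx, d, hd, rfl⟩ := Set.mem_mul.mp h2
  exact ⟨x, hx, d, hd, rfl⟩

theorem card_N : Nat.card (normalizer (Q : Set G)) = Nat.card Q * Nat.card D := by
  have h1 := Cfsg.Agent.Lib.Helper1_FPF.card_sup_of_le_normalizer D Q (D_le_N h)
    (by rw [inf_comm]; exact h.hdisj)
  rw [h.hnorm, sup_comm, h1, mul_comm]

theorem card_D_pos : 0 < Nat.card D := Nat.card_pos

theorem three_le_q : 3 ≤ Nat.card Q := by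
  have := card_D_pos h
  have := h.hDQ
  omega

theorem coprime_q_D : (Nat.card Q).Coprime (Nat.card D) := by
  rw [← h.hDQ]
  have : (2 * Nat.card D + 1).Coprime (Nat.card D) := by
    simp
  exact this

/-- the index of the normalizer -/
theorem index_N : (normalizer (Q : Set G)).index = Nat.card Q + 1 := by
  have h1 := (normalizer (Q : Set G)).card_mul_index
  rw [card_N h] at h1
  have h2 := h.hcard
  have h3 := h.hDQ
  have hq := three_le_q h
  have hD := card_D_pos h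
  rw [← h1] at h2
  have h4 : Nat.card Q - 1 = 2 * Nat.card D := by omega
  rw [h4] at h2
  have h5 : (2 * Nat.card Q * Nat.card D) * (normalizer (Q : Set G)).index =
      (2 * Nat.card Q * Nat.card D) * (Nat.card Q + 1) := by
    calc (2 * Nat.card Q * Nat.card D) * (normalizer (Q : Set G)).index
        = 2 * (Nat.card Q * Nat.card D * (normalizer (Q : Set G)).index) := by ring
      _ = Nat.card Q * (Nat.card Q + 1) * (2 * Nat.card D) := h2
      _ = (2 * Nat.card Q * Nat.card D) * (Nat.card Q + 1) := by ring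
  exact Nat.eq_of_mul_eq_mul_left (by positivity) h5

/-- powers in `N = Q ⋊ D` -/
theorem pow_decomp {x d : G} (hx : x ∈ Q) (hd : d ∈ D) (k : ℕ) :
    ∃ x' ∈ Q, (x * d) ^ k = x' * d ^ k := by
  induction k with
  | zero => exact ⟨1, Q.one_mem, by simp⟩
  | succ k ih =>
    obtain ⟨x', hx', hk⟩ := ih
    refine ⟨x' * (d ^ k * x * (d ^ k)⁻¹), Q.mul_mem hx'
      (conj_mem_Q h (D_le_N h (D.pow_mem hd k)) hx), ?_⟩
    rw [pow_succ, hk, pow_succ]
    group

/-- an element of `N` whose order divides `|Q|` lies in `Q` -/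
theorem mem_Q_of_pow {y : G} (hy : y ∈ normalizer (Q : Set G)) (hyq : y ^ Nat.card Q = 1) :
    y ∈ Q := by
  obtain ⟨x, hx, d, hd, rfl⟩ := N_decomp h hy
  obtain ⟨x', hx', hk⟩ := pow_decomp h hx hd (Nat.card Q)
  rw [hk] at hyq
  have h1 : d ^ Nat.card Q = x'⁻¹ := eq_inv_of_mul_eq_one_right hyq
  have h2 : d ^ Nat.card Q = 1 :=
    inf_eq_one h (h1 ▸ Q.inv_mem hx') (D.pow_mem hd _)
  have h3 : d ^ Nat.card D = 1 := pow_card_of_mem hd
  have h4 := pow_gcd_eq_one.mpr ⟨h2, h3⟩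
  rw [Nat.Coprime.gcd_eq_one (coprime_q_D h), pow_one] at h4
  rw [h4, mul_one]
  exact hx

/-- `Q` meets its other conjugates trivially, in the strong form: a nontrivial element of `Q`
is not conjugated into `N` by an element outside `N`. -/
theorem conj_not_mem_N {x g : G} (hx : x ∈ Q) (hx1 : x ≠ 1) (hg : g ∉ normalizer (Q : Set G)) :
    g⁻¹ * x * g ∉ normalizer (Q : Set G) := by
  intro hz
  have hpow : (g⁻¹ * x * g) ^ Nat.card Q = 1 := by
    have e : ∀ j : ℕ, (g⁻¹ * x * g) ^ j = g⁻¹ * x ^ j * g := by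
      intro j
      induction j with
      | zero => simp
      | succ j ih => rw [pow_succ, ih, pow_succ]; group
    rw [e, pow_card_of_mem hx]
    group
  have hzQ := mem_Q_of_pow h hz hpow
  have hz1 : g⁻¹ * x * g ≠ 1 := by
    intro h0
    apply hx1
    have : x = g * (g⁻¹ * x * g) * g⁻¹ := by group
    rw [this, h0]
    group
  have hcz := h.hcent _ hzQ hz1
  apply hg
  have hg' : g⁻¹ ∈ normalizer (Q : Set G) := by
    apply mem_normalizer_fintype
    intro w hw
    have hw' : w ∈ Q := hw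
    show g⁻¹ * w * g⁻¹⁻¹ ∈ Q
    rw [inv_inv, ← hcz, mem_cent_iff' h]
    have hc := Q_comm h hw' hx
    calc g⁻¹ * w * g * (g⁻¹ * x * g) = g⁻¹ * (w * x) * g := by group
      _ = g⁻¹ * (x * w) * g := by rw [hc]
      _ = g⁻¹ * x * g * (g⁻¹ * w * g) := by group
  have := (normalizer (Q : Set G)).inv_mem hg'
  rwa [inv_inv] at this

/-- `D ≠ 1` gives the inverting involution `u` -/
theorem exists_u (hD1 : D ≠ ⊥) : ∃ u : G, orderOf u = 2 ∧ u ∉ normalizer (Q : Set G) ∧
    ∀ d ∈ D, u⁻¹ * d * u ∈ D := by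
  obtain ⟨-, u, hu2, huD, hinv, -⟩ := h.hD D le_rfl hD1
  have huu : u * u = 1 := by rw [← pow_two, ← hu2, pow_orderOf_eq_one]
  have huinv : u⁻¹ = u := inv_eq_of_mul_eq_one_right huu
  refine ⟨u, hu2, ?_, ?_⟩
  · intro huN
    obtain ⟨x, hx, d', hd', hxd⟩ := N_decomp h huN
    -- `x = u d'⁻¹` normalizes `D`, hence centralizes it
    obtain ⟨d, hd, hd1⟩ : ∃ d ∈ D, d ≠ 1 := by
      by_contra hcon
      push Not at hcon
      apply hD1
      rw [eq_bot_iff]
      intro d hd
      rw [mem_bot]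
      exact hcon d hd
    have hxu : x = u * d'⁻¹ := by rw [hxd]; group
    have h1 : x * d * x⁻¹ ∈ D := by
      rw [hxu]
      have e : u * d'⁻¹ * d * (u * d'⁻¹)⁻¹ = u * (d'⁻¹ * d * d') * u⁻¹ := by group
      rw [e, hinv _ (D.mul_mem (D.mul_mem (D.inv_mem hd') hd) hd')]
      exact D.inv_mem (D.mul_mem (D.mul_mem (D.inv_mem hd') hd) hd')
    have h2 : x * d * x⁻¹ * d⁻¹ ∈ D := D.mul_mem h1 (D.inv_mem hd)
    have h3 : x * d * x⁻¹ * d⁻¹ ∈ Q := by
      have e : x * d * x⁻¹ * d⁻¹ = x * (d * x⁻¹ * d⁻¹) := by group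
      rw [e]
      exact Q.mul_mem hx (conj_mem_Q h (D_le_N h hd) (Q.inv_mem hx))
    have h4 := inf_eq_one h h3 h2
    have h5 : d * x = x * d := by
      have e : x * d = (x * d * x⁻¹ * d⁻¹) * (d * x) := by group
      rw [e, h4, one_mul]
    by_cases hx1 : x = 1
    · rw [hx1, one_mul] at hxd
      exact huD (hxd ▸ hd')
    · have h6 : d ∈ centralizer ({x} : Set G) := (mem_cent_iff' h).2 h5
      rw [h.hcent x hx hx1] at h6
      exact hd1 (inf_eq_one h h6 hd)
  · intro d hd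
    rw [huinv]
    have := hinv d hd
    rw [huinv] at this
    rw [this]
    exact D.inv_mem hd

/-- the two-point stabilizer: an element of `N` conjugated into `N` by `u ∉ N` lies in `D` -/
theorem mem_D_of_conj {u g : G} (hu : u ∉ normalizer (Q : Set G))
    (huD : ∀ d ∈ D, u⁻¹ * d * u ∈ D) (hg : g ∈ normalizer (Q : Set G))
    (hgu : u⁻¹ * g * u ∈ normalizer (Q : Set G)) : g ∈ D := by
  obtain ⟨x, hx, d, hd, rfl⟩ := N_decomp h hg
  by_cases hx1 : x = 1
  · rw [hx1, one_mul]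
    exact hd
  · exfalso
    apply conj_not_mem_N h hx hx1 hu
    have e : u⁻¹ * x * u = (u⁻¹ * (x * d) * u) * (u⁻¹ * d * u)⁻¹ := by group
    rw [e]
    exact (normalizer (Q : Set G)).mul_mem hgu
      ((normalizer (Q : Set G)).inv_mem (D_le_N h (huD d hd)))

/-- an element of `D` commuting modulo `D` with a nontrivial element of `Q` is trivial -/
theorem eq_one_of_conj_mem_D {g x : G} (hg : g ∈ D) (hx : x ∈ Q) (hx1 : x ≠ 1)
    (hgx : x⁻¹ * g * x ∈ D) : g = 1 := by
  have h2 : g⁻¹ * (x⁻¹ * g * x) ∈ D := D.mul_mem (D.inv_mem hg) hgx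
  have h3 : g⁻¹ * (x⁻¹ * g * x) ∈ Q := by
    have e : g⁻¹ * (x⁻¹ * g * x) = (g⁻¹ * x⁻¹ * g) * x := by group
    rw [e]
    exact Q.mul_mem (conj_mem_Q' h (D_le_N h hg) (Q.inv_mem hx)) hx
  have h4 := inf_eq_one h h3 h2
  have h5 : g * x = x * g := by
    have e : g * x = x * (g * (g⁻¹ * (x⁻¹ * g * x))) := by group
    rw [e, h4, mul_one]
  have h6 : g ∈ centralizer ({x} : Set G) := (mem_cent_iff' h).2 h5
  rw [h.hcent x hx hx1] at h6
  exact inf_eq_one h h6 hg

end Cfsg.Agent.Lib.Helper55_BSWBack
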