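import Mathlib

/-!
# Regular abelian subgroups and Schur's method (helper58)

Let `G` act on `Ω` and let `C ≤ G` be an abelian subgroup acting regularly.  Fixing `α : Ω`, the
points of `Ω` are identified with the elements of `C`, and every `g : G` induces a map
`rho g : C → C`, determined by `(rho g c) • α = g • c • α`.  The functions `C → R` invariant under
`rho h` for all `h ∈ G_α` form a subring of the group algebra `R[C]` (the transitivity module of
Schur).  We avoid the general theory of S-rings and prove directly what is needed for Schur's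
theorem: a primitive group containing a regular cyclic subgroup of order divisible by two distinct
primes is doubly transitive.
-/

set_option autoImplicit false
set_option linter.style.haveILetI false

namespace Cfsg.Agent.Lib.Helper58_Schur

open MulAction

variable {G : Type*} [Group G]

/-- `C` is an abelian subgroup of `G` acting regularly on `Ω`. -/
structure IsRegSub (Ω : Type*) [MulAction G Ω] (C : Subgroup G) : Prop where
  comm : ∀ a ∈ C, ∀ b ∈ C, a * b = b * a
  trans : ∀ ω ω' : Ω, ∃ c ∈ C, c • ω = ω'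
  semireg : ∀ c ∈ C, ∀ ω : Ω, c • ω = ω → c = 1

variable {Ω : Type*} [MulAction G Ω] {C : Subgroup G}

theorem IsRegSub.eq_of_smul_eq (hC : IsRegSub Ω C) (α : Ω) {c c' : C}
    (h : (c : G) • α = (c' : G) • α) : c = c' := by
  have h1 : ((c' : G)⁻¹ * (c : G)) • α = α := by rw [mul_smul, h, inv_smul_smul]
  have h2 := hC.semireg _ (C.mul_mem (C.inv_mem c'.2) c.2) α h1
  apply Subtype.ext
  calc (c : G) = (c' : G) * ((c' : G)⁻¹ * (c : G)) := by group
    _ = (c' : G) := by rw [h2, mul_one]

/-- The map induced by `g : G` on `C` (identified with `Ω` via `c ↦ c • α`). -/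
noncomputable def rho (hC : IsRegSub Ω C) (α : Ω) (g : G) (c : C) : C :=
  ⟨Classical.choose (hC.trans α (g • (c : G) • α)),
    (Classical.choose_spec (hC.trans α (g • (c : G) • α))).1⟩

theorem rho_smul (hC : IsRegSub Ω C) (α : Ω) (g : G) (c : C) :
    ((rho hC α g c : C) : G) • α = g • (c : G) • α :=
  (Classical.choose_spec (hC.trans α (g • (c : G) • α))).2

theorem rho_unique (hC : IsRegSub Ω C) (α : Ω) (g : G) (c c' : C)
    (h : (c' : G) • α = g • (c : G) • α) : rho hC α g c = c' :=
  hC.eq_of_smul_eq α (by rw [rho_smul, h])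

theorem rho_one (hC : IsRegSub Ω C) (α : Ω) (c : C) : rho hC α 1 c = c :=
  rho_unique hC α 1 c c (by rw [one_smul])

theorem rho_mul (hC : IsRegSub Ω C) (α : Ω) (g g' : G) (c : C) :
    rho hC α (g * g') c = rho hC α g (rho hC α g' c) :=
  rho_unique hC α _ c _ (by rw [rho_smul, rho_smul, mul_smul])

theorem rho_fix_one (hC : IsRegSub Ω C) (α : Ω) {h : G} (hα : h • α = α) :
    rho hC α h 1 = 1 :=
  rho_unique hC α h 1 1 (by simp [hα])

/-- `rho g` as a permutation of `C`. -/
noncomputable def rhoEquiv (hC : IsRegSub Ω C) (α : Ω) (g : G) : C ≃ C where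
  toFun := rho hC α g
  invFun := rho hC α g⁻¹
  left_inv c := by rw [← rho_mul, inv_mul_cancel, rho_one]
  right_inv c := by rw [← rho_mul, mul_inv_cancel, rho_one]

/-- The splitting lemma: `rho g y = rho g x * rho h₁ (x⁻¹ * y)` with `h₁ ∈ G_α` depending only on
`g` and `x`. -/
theorem rho_split (hC : IsRegSub Ω C) (α : Ω) (g : G) (x : C) :
    ∃ h₁ : G, h₁ • α = α ∧ ∀ y : C, rho hC α g y = rho hC α g x * rho hC α h₁ (x⁻¹ * y) := by
  refine ⟨((rho hC α g x : C) : G)⁻¹ * g * (x : G), ?_, fun y => ?_⟩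
  · rw [mul_smul, mul_smul, ← rho_smul hC α g x, inv_smul_smul]
  · apply rho_unique
    rw [Subgroup.coe_mul, mul_smul, rho_smul, mul_smul, mul_smul, smul_inv_smul,
      Subgroup.coe_mul, Subgroup.coe_inv, mul_smul, smul_inv_smul]


/-! ### Invariant sets -/

/-- A subset of `C` invariant under the point stabiliser `G_α` (acting through `rho`). -/
def IsInv (hC : IsRegSub Ω C) (α : Ω) (S : Set C) : Prop :=
  ∀ h : G, h • α = α → ∀ c ∈ S, rho hC α h c ∈ S

theorem IsInv.mem_iff {hC : IsRegSub Ω C} {α : Ω} {S : Set C} (hS : IsInv hC α S) {h : G}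
    (hα : h • α = α) (c : C) : rho hC α h c ∈ S ↔ c ∈ S := by
  constructor
  · intro hc
    have hinv : h⁻¹ • α = α := by rw [inv_smul_eq_iff, hα]
    have := hS h⁻¹ hinv _ hc
    rwa [← rho_mul, inv_mul_cancel, rho_one] at this
  · exact hS h hα c

/-- The orbit of `w : C` under `G_α`. -/
def orb (hC : IsRegSub Ω C) (α : Ω) (w : C) : Set C :=
  {c | ∃ h : G, h • α = α ∧ rho hC α h w = c}

theorem mem_orb_self (hC : IsRegSub Ω C) (α : Ω) (w : C) : w ∈ orb hC α w :=
  ⟨1, one_smul _ _, rho_one hC α w⟩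

theorem isInv_orb (hC : IsRegSub Ω C) (α : Ω) (w : C) : IsInv hC α (orb hC α w) := by
  rintro h hα _ ⟨k, hk, rfl⟩
  exact ⟨h * k, by rw [mul_smul, hk, hα], rho_mul hC α h k w⟩

theorem orb_subset_of_mem (hC : IsRegSub Ω C) (α : Ω) {w : C} {S : Set C} (hS : IsInv hC α S)
    (hw : w ∈ S) : orb hC α w ⊆ S := by
  rintro _ ⟨h, hα, rfl⟩
  exact hS h hα w hw

theorem mem_orb_symm (hC : IsRegSub Ω C) (α : Ω) {w c : C} (h : c ∈ orb hC α w) :
    w ∈ orb hC α c := by
  obtain ⟨k, hk, rfl⟩ := h
  refine ⟨k⁻¹, by rw [inv_smul_eq_iff, hk], ?_⟩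
  rw [← rho_mul, inv_mul_cancel, rho_one]

theorem orb_one (hC : IsRegSub Ω C) (α : Ω) : orb hC α (1 : C) = {1} := by
  ext c
  constructor
  · rintro ⟨h, hα, rfl⟩
    exact rho_fix_one hC α hα
  · rintro rfl
    exact mem_orb_self hC α 1

/-- A `G_α`-invariant subgroup of `C` gives a block; in a primitive group it is trivial. -/
theorem inv_subgroup_trivial [IsPreprimitive G Ω] (hC : IsRegSub Ω C) (α : Ω) (K : Subgroup C)
    (hK : IsInv hC α (K : Set C)) : K = ⊥ ∨ K = ⊤ := by
  set B : Set Ω := {ω | ∃ k ∈ K, ((k : C) : G) • α = ω} with hB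
  have key : ∀ g : G, ∀ a ∈ B, g • a ∈ B → ∀ b ∈ B, g • b ∈ B := by
    rintro g _ ⟨k₁, hk₁, rfl⟩ ⟨k₂, hk₂, hk⟩ _ ⟨k, hk', rfl⟩
    have hfix : ((k₂ : G)⁻¹ * g * (k₁ : G)) • α = α := by
      rw [mul_smul, mul_smul, ← hk, inv_smul_smul]
    have hmem := hK _ hfix (k₁⁻¹ * k) (K.mul_mem (K.inv_mem hk₁) hk')
    refine ⟨k₂ * rho hC α ((k₂ : G)⁻¹ * g * (k₁ : G)) (k₁⁻¹ * k), K.mul_mem hk₂ hmem, ?_⟩
    rw [Subgroup.coe_mul, mul_smul, rho_smul, Subgroup.coe_mul, Subgroup.coe_inv, mul_smul,
      mul_smul, mul_smul, smul_inv_smul, smul_inv_smul]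
  have hblock : IsBlock G B := by
    rw [isBlock_iff_smul_eq_of_mem]
    intro g a ha hga
    apply Set.Subset.antisymm
    · rintro _ ⟨b, hb, rfl⟩
      exact key g a ha hga b hb
    · intro b hb
      refine ⟨g⁻¹ • b, key g⁻¹ (g • a) hga (by rwa [inv_smul_smul]) b hb, smul_inv_smul g b⟩
  rcases IsPreprimitive.isTrivialBlock_of_isBlock hblock with h | h
  · left
    rw [eq_bot_iff]
    intro k hk
    rw [Subgroup.mem_bot]
    have h1 : ((k : C) : G) • α ∈ B := ⟨k, hk, rfl⟩
    have h2 : α ∈ B := ⟨1, K.one_mem, by simp⟩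
    have := h h1 h2
    exact Subtype.ext (hC.semireg _ k.2 α this)
  · right
    rw [eq_top_iff]
    intro c _
    have : ((c : C) : G) • α ∈ B := by rw [h]; exact Set.mem_univ _
    obtain ⟨k, hk, hkc⟩ := this
    rw [← hC.eq_of_smul_eq α hkc]
    exact hk

/-- The subgroup generated by an invariant set is invariant. -/
theorem isInv_closure (hC : IsRegSub Ω C) (α : Ω) {S : Set C} (hS : IsInv hC α S) :
    IsInv hC α (Subgroup.closure S : Set C) := by
  have key : ∀ k ∈ Subgroup.closure S, ∀ h : G, h • α = α →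
      rho hC α h k ∈ Subgroup.closure S := by
    intro k hk
    induction hk using Subgroup.closure_induction with
    | mem x hx => exact fun h hα => Subgroup.subset_closure (hS h hα x hx)
    | one => exact fun h hα => by rw [rho_fix_one hC α hα]; exact Subgroup.one_mem _
    | mul x y _ _ ihx ihy =>
      intro h hα
      obtain ⟨h₁, hα₁, hsplit⟩ := rho_split hC α h x
      rw [hsplit (x * y), inv_mul_cancel_left]
      exact Subgroup.mul_mem _ (ihx h hα) (ihy h₁ hα₁)
    | inv x _ ihx =>
      intro h hα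
      obtain ⟨h₁, hα₁, hsplit⟩ := rho_split hC α h x⁻¹
      have := hsplit 1
      rw [rho_fix_one hC α hα, inv_inv, mul_one] at this
      have e : rho hC α h x⁻¹ = (rho hC α h₁ x)⁻¹ := eq_inv_of_mul_eq_one_left this.symm
      rw [e]
      exact Subgroup.inv_mem _ (ihx h₁ hα₁)
  exact fun h hα c hc => key c hc h hα

/-- The (left) stabiliser in `C` of a subset of `C`. -/
def stabSet (T : Set C) : Subgroup C where
  carrier := {k | ∀ t, t ∈ T ↔ k * t ∈ T}
  one_mem' := fun t => by rw [one_mul]
  mul_mem' := by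
    intro a b ha hb t
    rw [mul_assoc, ← ha, ← hb]
  inv_mem' := by
    intro a ha t
    rw [ha (a⁻¹ * t), mul_inv_cancel_left]

/-- The stabiliser of an invariant set is invariant. -/
theorem isInv_stabSet (hC : IsRegSub Ω C) (α : Ω) {T : Set C} (hT : IsInv hC α T) :
    IsInv hC α (stabSet T : Set C) := by
  intro h hα k hk t
  obtain ⟨h₁, hα₁, hsplit⟩ := rho_split hC α h k
  have hinv₁ : h₁⁻¹ • α = α := by rw [inv_smul_eq_iff, hα₁]
  have e : rho hC α h k * t = rho hC α h (k * rho hC α h₁⁻¹ t) := by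
    rw [hsplit (k * rho hC α h₁⁻¹ t), inv_mul_cancel_left, ← rho_mul, mul_inv_cancel, rho_one]
  rw [e, hT.mem_iff hα, ← hk (rho hC α h₁⁻¹ t), hT.mem_iff hinv₁]


/-! ### The transitivity module inside the group algebra -/

section Algebra

/-- The `G_α`-invariant elements of the group algebra `R[C]` form a submonoid (Schur). -/
def invSub (R : Type*) [Semiring R] [Finite G] (hC : IsRegSub Ω C) (α : Ω) :
    Submonoid (MonoidAlgebra R C) where
  carrier := {x | ∀ h : G, h • α = α → ∀ c : C, x.coeff (rho hC α h c) = x.coeff c}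
  one_mem' := by
    intro h hα c
    classical
    rw [MonoidAlgebra.one_def, MonoidAlgebra.coeff_single]
    by_cases hc : c = 1
    · rw [hc, rho_fix_one hC α hα]
    · have : rho hC α h c ≠ 1 := fun h1 =>
        hc ((rhoEquiv hC α h).injective (h1.trans (rho_fix_one hC α hα).symm))
      rw [Finsupp.single_apply, Finsupp.single_apply, if_neg (Ne.symm this), if_neg (Ne.symm hc)]
  mul_mem' := by
    intro x y hx hy h hα c
    classical
    haveI := Fintype.ofFinite C
    rw [MonoidAlgebra.coeff_mul_apply_left, MonoidAlgebra.coeff_mul_apply_left]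
    rw [Finsupp.sum_fintype _ _ (fun _ => zero_mul _),
      Finsupp.sum_fintype _ _ (fun _ => zero_mul _)]
    rw [← Equiv.sum_comp (rhoEquiv hC α h)]
    apply Finset.sum_congr rfl
    intro a _
    change x.coeff (rho hC α h a) * y.coeff ((rho hC α h a)⁻¹ * rho hC α h c) = _
    obtain ⟨h₁, hα₁, hsplit⟩ := rho_split hC α h a
    rw [hx h hα a, hsplit c, inv_mul_cancel_left, hy h₁ hα₁]

theorem sum_single_pow {A : Type*} [CommGroup A] (p : ℕ) [hp : Fact p.Prime] (T : Finset A) :
    (∑ t ∈ T, MonoidAlgebra.single t (1 : ZMod p)) ^ p =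
      ∑ t ∈ T, MonoidAlgebra.single (t ^ p) (1 : ZMod p) := by
  haveI : CharP (MonoidAlgebra (ZMod p) A) p :=
    charP_of_injective_ringHom (f := (MonoidAlgebra.singleOneRingHom : ZMod p →+* _))
      MonoidAlgebra.single_right_injective p
  haveI : ExpChar (MonoidAlgebra (ZMod p) A) p := ExpChar.prime hp.out
  rw [sum_pow_char]
  apply Finset.sum_congr rfl
  intro t _
  rw [MonoidAlgebra.single_pow, one_pow]

end Algebra


theorem coeff_sum_single {A : Type*} [DecidableEq A] {R : Type*} [Semiring R] (T : Finset A)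
    (f : A → A) (c : A) :
    (∑ t ∈ T, MonoidAlgebra.single (f t) (1 : R)).coeff c =
      ((T.filter (fun t => f t = c)).card : R) := by
  rw [MonoidAlgebra.coeff_sum, Finsupp.finsetSum_apply]
  simp_rw [MonoidAlgebra.coeff_single, Finsupp.single_apply]
  rw [Finset.sum_boole]

/-- Step A of Schur's argument: in a primitive group with a regular cyclic subgroup `C`, for a
prime `p` dividing `|C|`, every invariant set `T` contains the whole coset `x * {y | y ^ p = 1}`
of each of its elements `x` with `x ^ p ≠ 1`. -/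
theorem coset_subset [Finite G] [IsPreprimitive G Ω] (hC : IsRegSub Ω C) [IsCyclic C] (α : Ω)
    (p : ℕ) [hp : Fact p.Prime] (hpC : p ∣ Nat.card C) {T : Set C} (hT : IsInv hC α T)
    {x : C} (hx : x ∈ T) (hxp : x ^ p ≠ 1) {y : C} (hy : y ^ p = 1) : x * y ∈ T := by
  classical
  haveI := Fintype.ofFinite C
  have hcomm : ∀ a b : C, Commute a b := fun a b => Subtype.ext (hC.comm a a.2 b b.2)
  set Tf : Finset C := Finset.univ.filter (· ∈ T) with hTf
  have hmemTf : ∀ c, c ∈ Tf ↔ c ∈ T := fun c => by simp [hTf]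
  -- the indicator of `T` is invariant
  have hz : (∑ t ∈ Tf, MonoidAlgebra.single t (1 : ZMod p)) ∈ invSub (ZMod p) hC α := by
    intro h hα c
    have e := coeff_sum_single (R := ZMod p) Tf id
    simp only [id] at e
    rw [e, e]
    have : Tf.filter (fun t => t = rho hC α h c) = (Tf.filter (fun t => t = c)).image
        (rho hC α h) := by
      ext t
      simp only [Finset.mem_filter, Finset.mem_image, hmemTf]
      constructor
      · rintro ⟨ht, rfl⟩
        exact ⟨c, ⟨(hT.mem_iff hα c).mp ht, rfl⟩, rfl⟩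
      · rintro ⟨t', ⟨ht', rfl⟩, rfl⟩
        exact ⟨hT h hα _ ht', rfl⟩
    have hinj : Function.Injective (rho hC α h) := (rhoEquiv hC α h).injective
    rw [this, Finset.card_image_of_injective _ hinj]
  -- hence so is its `p`-th power, whose coefficients count `p`-th roots in `T`
  have hzp : (∑ t ∈ Tf, MonoidAlgebra.single (t ^ p) (1 : ZMod p)) ∈ invSub (ZMod p) hC α := by
    letI : CommGroup C := { (inferInstance : Group C) with mul_comm := fun a b => hcomm a b }
    have := pow_mem hz p
    rwa [sum_single_pow] at this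
  set ν : C → ZMod p := fun c => ((Tf.filter (fun t => t ^ p = c)).card : ZMod p) with hν
  have hνinv : ∀ h : G, h • α = α → ∀ c : C, ν (rho hC α h c) = ν c := by
    intro h hα c
    have := hzp h hα c
    rwa [coeff_sum_single, coeff_sum_single] at this
  -- the support of `ν` is an invariant set of `p`-th powers
  have hU : IsInv hC α {c | ν c ≠ 0} := by
    intro h hα c hc
    change ν (rho hC α h c) ≠ 0
    rw [hνinv h hα c]
    exact hc
  have hUpow : ∀ c, ν c ≠ 0 → ∃ t : C, t ^ p = c := by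
    intro c hc
    have : (Tf.filter (fun t => t ^ p = c)).Nonempty := by
      rw [Finset.nonempty_iff_ne_empty]
      intro h
      apply hc
      simp [hν, h]
    obtain ⟨t, ht⟩ := this
    exact ⟨t, (Finset.mem_filter.mp ht).2⟩
  have hKpow : ∀ k ∈ Subgroup.closure {c | ν c ≠ 0}, ∃ t : C, t ^ p = k := by
    intro k hk
    induction hk using Subgroup.closure_induction with
    | mem c hc => exact hUpow c hc
    | one => exact ⟨1, one_pow p⟩
    | mul a b _ _ iha ihb =>
      obtain ⟨t, rfl⟩ := iha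
      obtain ⟨t', rfl⟩ := ihb
      exact ⟨t * t', (hcomm t t').mul_pow p⟩
    | inv a _ iha =>
      obtain ⟨t, rfl⟩ := iha
      exact ⟨t⁻¹, inv_pow t p⟩
  -- an element of order `p`
  obtain ⟨z, hz⟩ := exists_prime_orderOf_dvd_card' (G := C) p hpC
  have hz1 : z ≠ 1 := by
    intro h
    rw [h, orderOf_one] at hz
    exact hp.out.one_lt.ne hz
  have hzp1 : z ^ p = 1 := by rw [← hz]; exact pow_orderOf_eq_one z
  have hKbot : Subgroup.closure {c | ν c ≠ 0} = ⊥ := by
    rcases inv_subgroup_trivial hC α _ (isInv_closure hC α hU) with h | h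
    · exact h
    · exfalso
      -- the `p`-th power map would be surjective, hence injective
      have hsurj : Function.Surjective (fun t : C => t ^ p) := by
        intro k
        exact hKpow k (by rw [h]; exact Subgroup.mem_top k)
      have hinj := Finite.injective_iff_surjective.mpr hsurj
      apply hz1
      apply hinj
      change z ^ p = 1 ^ p
      rw [hzp1, one_pow]
  have hν0 : ν (x ^ p) = 0 := by
    by_contra hne
    have : x ^ p ∈ Subgroup.closure {c | ν c ≠ 0} := Subgroup.subset_closure hne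
    rw [hKbot, Subgroup.mem_bot] at this
    exact hxp this
  -- so `p` divides the number of `p`-th roots of `x ^ p` in `T`
  set F : Finset C := Tf.filter (fun t => t ^ p = x ^ p) with hF
  set E : Finset C := Finset.univ.filter (fun t => t ^ p = x ^ p) with hE
  have hdvd : p ∣ F.card := (ZMod.natCast_eq_zero_iff _ _).mp hν0
  have hxF : x ∈ F := Finset.mem_filter.mpr ⟨(hmemTf x).mpr hx, rfl⟩
  have hFpos : 0 < F.card := Finset.card_pos.mpr ⟨x, hxF⟩
  have hFle : p ≤ F.card := Nat.le_of_dvd hFpos hdvd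
  have hFE : F ⊆ E := by
    intro t ht
    exact Finset.mem_filter.mpr ⟨Finset.mem_univ _, (Finset.mem_filter.mp ht).2⟩
  have hEle : E.card ≤ p := by
    calc E.card ≤ (Finset.univ.filter (fun a : C => a ^ p = 1)).card := by
          apply Finset.card_le_card_of_injOn (fun t => x⁻¹ * t)
          · intro t ht
            have ht' : t ^ p = x ^ p := (Finset.mem_filter.mp ht).2
            refine Finset.mem_filter.mpr ⟨Finset.mem_univ _, ?_⟩
            rw [(hcomm x⁻¹ t).mul_pow, ht', inv_pow, inv_mul_cancel]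
          · intro a _ b _ hab
            exact mul_left_cancel hab
      _ ≤ p := IsCyclic.card_pow_eq_one_le hp.out.pos
  have hEF : E = F := (Finset.eq_of_subset_of_card_le hFE (hEle.trans hFle)).symm
  have hxyE : x * y ∈ E := by
    refine Finset.mem_filter.mpr ⟨Finset.mem_univ _, ?_⟩
    rw [(hcomm x y).mul_pow, hy, mul_one]
  rw [hEF] at hxyE
  exact (hmemTf _).mp (Finset.mem_filter.mp hxyE).1


/-- Schur's theorem, orbit form: in a primitive group with a regular cyclic subgroup `C` whose
order is divisible by two distinct primes, the point stabiliser is transitive on `C ∖ {1}`. -/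
theorem orb_eq_of_ne_one [Finite G] [IsPreprimitive G Ω] (hC : IsRegSub Ω C) [IsCyclic C] (α : Ω)
    (p q : ℕ) [hp : Fact p.Prime] [hq : Fact q.Prime] (hpq : p ≠ q) (hpC : p ∣ Nat.card C)
    (hqC : q ∣ Nat.card C) (c c' : C) (hc : c ≠ 1) (hc' : c' ≠ 1) : c' ∈ orb hC α c := by
  have hcomm : ∀ a b : C, a * b = b * a := fun a b => Subtype.ext (hC.comm a a.2 b b.2)
  have hcm : ∀ a b : C, Commute a b := hcomm
  obtain ⟨zp, hzp⟩ := exists_prime_orderOf_dvd_card' (G := C) p hpC
  obtain ⟨zq, hzq⟩ := exists_prime_orderOf_dvd_card' (G := C) q hqC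
  have hzp1 : zp ≠ 1 := by
    intro h
    rw [h, orderOf_one] at hzp
    exact hp.out.one_lt.ne hzp
  have hzpp : zp ^ p = 1 := by rw [← hzp]; exact pow_orderOf_eq_one zp
  have hzqq : zq ^ q = 1 := by rw [← hzq]; exact pow_orderOf_eq_one zq
  have hzpq : zp ^ q ≠ 1 := by
    intro h
    have := orderOf_dvd_of_pow_eq_one h
    rw [hzp] at this
    exact hpq ((Nat.prime_dvd_prime_iff_eq hp.out hq.out).mp this)
  have hzqp : zq ^ p ≠ 1 := by
    intro h
    have := orderOf_dvd_of_pow_eq_one h
    rw [hzq] at this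
    exact hpq ((Nat.prime_dvd_prime_iff_eq hq.out hp.out).mp this).symm
  have hone : ∀ a : C, a ^ p = 1 → a ^ q = 1 → a = 1 := by
    intro a h1 h2
    have d1 := orderOf_dvd_of_pow_eq_one h1
    have d2 := orderOf_dvd_of_pow_eq_one h2
    have : orderOf a ∣ Nat.gcd p q := Nat.dvd_gcd d1 d2
    rw [(Nat.coprime_primes hp.out hq.out).mpr hpq] at this
    exact orderOf_eq_one_iff.mp (Nat.dvd_one.mp this)
  set w : C := zp * zq with hw
  have hTinv := isInv_orb hC α w
  have hwT : w ∈ orb hC α w := mem_orb_self hC α w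
  have hwp : w ^ p ≠ 1 := by rw [hw, (hcm zp zq).mul_pow, hzpp, one_mul]; exact hzqp
  have hwq : w ^ q ≠ 1 := by rw [hw, (hcm zp zq).mul_pow, hzqq, mul_one]; exact hzpq
  -- (B-i)
  have hB1 : ∀ a : C, a ^ p = 1 → a * zq ∈ orb hC α w := by
    intro a ha
    have h1 : (zp⁻¹ * a) ^ p = 1 := by rw [(hcm zp⁻¹ a).mul_pow, ha, inv_pow, hzpp]; simp
    have := coset_subset hC α p hpC hTinv hwT hwp h1
    have e : w * (zp⁻¹ * a) = a * zq := by
      calc zp * zq * (zp⁻¹ * a) = zq * zp * (zp⁻¹ * a) := by rw [hcomm zp zq]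
        _ = zq * a := by group
        _ = a * zq := hcomm _ _
    rwa [e] at this
  have hB1' : ∀ b : C, b ^ q = 1 → zp * b ∈ orb hC α w := by
    intro b hb
    have h1 : (zq⁻¹ * b) ^ q = 1 := by rw [(hcm zq⁻¹ b).mul_pow, hb, inv_pow, hzqq]; simp
    have := coset_subset hC α q hqC hTinv hwT hwq h1
    have e : w * (zq⁻¹ * b) = zp * b := by rw [hw]; group
    rwa [e] at this
  -- (B-ii)
  have hB2 : ∀ a b : C, a ^ p = 1 → a ≠ 1 → b ^ q = 1 → a * b ∈ orb hC α w := by
    intro a b ha ha1 hb
    have h0 := hB1 a ha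
    have h1 : (a * zq) ^ q ≠ 1 := by
      rw [(hcm a zq).mul_pow, hzqq, mul_one]
      exact fun h => ha1 (hone a ha h)
    have h2 : (zq⁻¹ * b) ^ q = 1 := by rw [(hcm zq⁻¹ b).mul_pow, hb, inv_pow, hzqq]; simp
    have := coset_subset hC α q hqC hTinv h0 h1 h2
    have e : a * zq * (zq⁻¹ * b) = a * b := by group
    rwa [e] at this
  -- Step C
  by_contra hcon
  have key : ∀ d : C, d ≠ 1 → d ∈ orb hC α w := by
    intro d hd
    by_contra hdT
    have hTd := isInv_orb hC α d
    have hdisj : ∀ t ∈ orb hC α d, t ∉ orb hC α w := by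
      intro t ht htw
      exact hdT (orb_subset_of_mem hC α hTinv htw (mem_orb_symm hC α ht))
    have h1T : (1 : C) ∉ orb hC α d := by
      intro h
      have := mem_orb_symm hC α h
      rw [orb_one] at this
      exact hd this
    have hxp : ∀ x ∈ orb hC α d, x ^ p ≠ 1 := by
      intro x hx hxp
      have hx1 : x ≠ 1 := fun h => h1T (h ▸ hx)
      have := hB2 x 1 hxp hx1 (one_pow q)
      rw [mul_one] at this
      exact hdisj x hx this
    have hstep : ∀ t ∈ orb hC α d, zp * t ∈ orb hC α d := by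
      intro t ht
      have := coset_subset hC α p hpC hTd ht (hxp t ht) hzpp
      rwa [hcomm t zp] at this
    have hpow : ∀ i : ℕ, ∀ t ∈ orb hC α d, zp ^ i * t ∈ orb hC α d := by
      intro i
      induction i with
      | zero => intro t ht; simpa using ht
      | succ n ih =>
        intro t ht
        have := hstep _ (ih t ht)
        rwa [← mul_assoc, ← pow_succ'] at this
    have hzS : zp ∈ stabSet (orb hC α d) := by
      intro t
      refine ⟨hstep t, fun ht => ?_⟩
      have := hpow (p - 1) _ ht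
      rw [← mul_assoc, ← pow_succ, Nat.sub_add_cancel hp.out.one_lt.le, hzpp, one_mul] at this
      exact this
    rcases inv_subgroup_trivial hC α _ (isInv_stabSet hC α hTd) with h | h
    · rw [h, Subgroup.mem_bot] at hzS
      exact hzp1 hzS
    · have hdS : d⁻¹ ∈ stabSet (orb hC α d) := by rw [h]; exact Subgroup.mem_top _
      have := (hdS d).mp (mem_orb_self hC α d)
      rw [inv_mul_cancel] at this
      exact h1T this
  apply hcon
  have h1 := key c hc
  have h2 := key c' hc'
  exact orb_subset_of_mem hC α (isInv_orb hC α c) (mem_orb_symm hC α h1) h2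

/-- Schur's theorem, point form. -/
theorem stabilizer_transitive [Finite G] [IsPreprimitive G Ω] (hC : IsRegSub Ω C) [IsCyclic C]
    (α : Ω) (p q : ℕ) [Fact p.Prime] [Fact q.Prime] (hpq : p ≠ q) (hpC : p ∣ Nat.card C)
    (hqC : q ∣ Nat.card C) (ω ω' : Ω) (hω : ω ≠ α) (hω' : ω' ≠ α) :
    ∃ h : G, h • α = α ∧ h • ω = ω' := by
  obtain ⟨c, hc, rfl⟩ := hC.trans α ω
  obtain ⟨c', hc', rfl⟩ := hC.trans α ω'
  have hc1 : (⟨c, hc⟩ : C) ≠ 1 := by
    intro h
    apply hω
    have : c = 1 := congrArg Subtype.val h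
    rw [this, one_smul]
  have hc'1 : (⟨c', hc'⟩ : C) ≠ 1 := by
    intro h
    apply hω'
    have : c' = 1 := congrArg Subtype.val h
    rw [this, one_smul]
  obtain ⟨h, hα, hh⟩ := orb_eq_of_ne_one hC α p q hpq hpC hqC _ _ hc1 hc'1
  refine ⟨h, hα, ?_⟩
  have := rho_smul hC α h ⟨c, hc⟩
  rw [hh] at this
  exact this.symm

/-- A transitive action whose point stabiliser is transitive on the remaining points is
doubly transitive. -/
theorem two_pretransitive_of_stabilizer [IsPretransitive G Ω] (α : Ω)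
    (h : ∀ ω ω' : Ω, ω ≠ α → ω' ≠ α → ∃ g : G, g • α = α ∧ g • ω = ω') :
    IsMultiplyPretransitive G Ω 2 := by
  rw [is_two_pretransitive_iff]
  intro a b c e hab hce
  obtain ⟨g₁, hg₁⟩ := exists_smul_eq G a α
  obtain ⟨g₂, hg₂⟩ := exists_smul_eq G c α
  have h1 : g₁ • b ≠ α := by
    intro h'
    apply hab
    rw [← hg₁] at h'
    exact (MulAction.injective g₁ h').symm
  have h2 : g₂ • e ≠ α := by
    intro h'
    apply hce
    rw [← hg₂] at h'
    exact (MulAction.injective g₂ h').symm
  obtain ⟨k, hk, hkb⟩ := h (g₁ • b) (g₂ • e) h1 h2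
  refine ⟨g₂⁻¹ * k * g₁, ?_, ?_⟩
  · rw [mul_smul, mul_smul, hg₁, hk, inv_smul_eq_iff, hg₂]
  · rw [mul_smul, mul_smul, hkb, inv_smul_smul]

end Cfsg.Agent.Lib.Helper58_Schur
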