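import Mathlib
import Cfsg.Prelude.Def_LieExceptional
import Cfsg.Agent.Lib.Helper58_Schur
import Cfsg.Agent.Lib.Helper55_BSWBack

set_option autoImplicit false
set_option linter.unusedSectionVars false

/-!
Brauer-Suzuki-Wall (S0508), back end, permutation part: the action of `G` on the cosets of
`N = N_G(Q)` is a Zassenhaus group in which `Q` is an abelian regular normal subgroup of the
point stabilizer (helper55).
-/

namespace Cfsg.Agent.Lib.Helper55_BSWBack2

open Subgroup MulAction Cfsg.Agent.Lib.Helper55_BSWBack Cfsg.Agent.Lib.Helper55_BSWFront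

theorem card_ne {Ω : Type*} [Finite Ω] (x₀ : Ω) :
    Nat.card {z : Ω // z ≠ x₀} = Nat.card Ω - 1 := by
  classical
  have := Fintype.ofFinite Ω
  rw [Nat.card_eq_fintype_card, Nat.card_eq_fintype_card]
  have h1 := Fintype.card_subtype_compl (fun z : Ω => z = x₀)
  rw [Fintype.card_subtype_eq] at h1
  exact h1

variable {G : Type*} [Group G] [Finite G]

section coset

variable (N : Subgroup G)

theorem smul_mk (g a : G) : g • (a : G ⧸ N) = ((g * a : G) : G ⧸ N) := rfl

theorem mk_eq_base {a : G} : (a : G ⧸ N) = ((1 : G) : G ⧸ N) ↔ a ∈ N := by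
  rw [QuotientGroup.eq]
  constructor
  · intro h
    have := N.inv_mem h
    simpa using this
  · intro h
    have := N.inv_mem h
    simpa using this

theorem smul_base_eq {g : G} : g • ((1 : G) : G ⧸ N) = ((1 : G) : G ⧸ N) ↔ g ∈ N := by
  rw [smul_mk, mul_one, mk_eq_base]

theorem smul_mk_eq {g a : G} : g • (a : G ⧸ N) = (a : G ⧸ N) ↔ a⁻¹ * g * a ∈ N := by
  rw [smul_mk, QuotientGroup.eq]
  constructor
  · intro h
    have := N.inv_mem h
    have e : ((g * a)⁻¹ * a)⁻¹ = a⁻¹ * g * a := by group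
    rwa [e] at this
  · intro h
    have := N.inv_mem h
    have e : (a⁻¹ * g * a)⁻¹ = (g * a)⁻¹ * a := by group
    rwa [e] at this

theorem exists_rep (y : G ⧸ N) : ∃ a : G, (a : G ⧸ N) = y := QuotientGroup.mk_surjective y

end coset

variable {Q D : Subgroup G} (h : BackHyp Q D)

include h

/-- semiregularity of `Q` off the base point -/
theorem Q_semireg {x : G} (hx : x ∈ Q) {y : G ⧸ normalizer (Q : Set G)}
    (hy : y ≠ ((1 : G) : G ⧸ normalizer (Q : Set G))) (hxy : x • y = y) : x = 1 := by
  obtain ⟨a, rfl⟩ := exists_rep _ y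
  rw [smul_mk_eq] at hxy
  by_contra hx1
  have ha : a ∉ normalizer (Q : Set G) := fun ha => hy ((mk_eq_base _).2 ha)
  exact conj_not_mem_N h hx hx1 ha hxy

theorem card_Ω : Nat.card (G ⧸ normalizer (Q : Set G)) = Nat.card Q + 1 := index_N h

/-- transitivity of `Q` off the base point -/
theorem Q_trans {y z : G ⧸ normalizer (Q : Set G)}
    (hy : y ≠ ((1 : G) : G ⧸ normalizer (Q : Set G)))
    (hz : z ≠ ((1 : G) : G ⧸ normalizer (Q : Set G))) : ∃ x ∈ Q, x • y = z := by
  have hfix : ∀ x : Q, (x : G) • y ≠ ((1 : G) : G ⧸ normalizer (Q : Set G)) := by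
    intro x hxy
    apply hy
    have h1 : ((x : G))⁻¹ • ((x : G) • y) = y := inv_smul_smul _ _
    have h2 : ((x : G))⁻¹ • ((1 : G) : G ⧸ normalizer (Q : Set G)) =
        ((1 : G) : G ⧸ normalizer (Q : Set G)) :=
      (smul_base_eq _).2 ((normalizer (Q : Set G)).inv_mem (Q_le_N h x.2))
    rw [hxy, h2] at h1
    exact h1.symm
  let f : Q → {w : G ⧸ normalizer (Q : Set G) // w ≠ ((1 : G) : G ⧸ normalizer (Q : Set G))} :=
    fun x => ⟨(x : G) • y, hfix x⟩
  have hinj : Function.Injective f := by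
    intro x x' hxx'
    have h1 : (x : G) • y = (x' : G) • y := congrArg Subtype.val hxx'
    have h2 : ((x' : G)⁻¹ * (x : G)) • y = y := by
      rw [mul_smul, h1, inv_smul_smul]
    have h3 := Q_semireg h (Q.mul_mem (Q.inv_mem x'.2) x.2) hy h2
    apply Subtype.ext
    have : (x : G) = (x' : G) * ((x' : G)⁻¹ * (x : G)) := by group
    rw [this, h3, mul_one]
  have hcard : Nat.card {w : G ⧸ normalizer (Q : Set G) //
      w ≠ ((1 : G) : G ⧸ normalizer (Q : Set G))} ≤ Nat.card Q := by
    rw [card_ne, card_Ω h]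
    omega
  obtain ⟨x, hx⟩ := (hinj.bijective_of_nat_card_le hcard).2 ⟨z, hz⟩
  exact ⟨(x : G), x.2, congrArg Subtype.val hx⟩

/-- double transitivity -/
theorem two_trans : IsMultiplyPretransitive G (G ⧸ normalizer (Q : Set G)) 2 := by
  apply Cfsg.Agent.Lib.Helper58_Schur.two_pretransitive_of_stabilizer
    (((1 : G) : G ⧸ normalizer (Q : Set G)))
  intro ω ω' hω hω'
  obtain ⟨x, hx, hxω⟩ := Q_trans h hω hω'
  exact ⟨x, (smul_base_eq _).2 (Q_le_N h hx), hxω⟩

/-- `D ≠ 1` when `G` is simple -/
theorem D_ne_bot [IsSimpleGroup G] : D ≠ ⊥ := by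
  intro hD
  have hcD : Nat.card D = 1 := by rw [hD]; exact Subgroup.card_bot
  have hq : Nat.card Q = 3 := by
    have := h.hDQ
    omega
  have hG : Nat.card G = 12 := by
    have := h.hcard
    rw [hq] at this
    omega
  have hNQ : normalizer (Q : Set G) = Q := by rw [h.hnorm, hD, sup_bot_eq]
  have : Fact (Nat.Prime 3) := ⟨Nat.prime_three⟩
  have hQ3 : IsPGroup 3 Q := IsPGroup.of_card (n := 1) (by rw [hq, pow_one])
  obtain ⟨P, hQP⟩ := hQ3.exists_le_sylow
  obtain ⟨k, hk⟩ := P.isPGroup'.exists_card_eq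
  have hPd : Nat.card P ∣ 12 := hG ▸ Subgroup.card_subgroup_dvd_card (P : Subgroup G)
  have hk1 : k < 2 := by
    by_contra hk2
    push Not at hk2
    have h9 : 3 ^ 2 ∣ 3 ^ k := pow_dvd_pow 3 hk2
    rw [← hk] at h9
    have := dvd_trans h9 hPd
    omega
  have hcP : Nat.card P ≤ 3 := by
    rw [hk]
    interval_cases k <;> norm_num
  have hPQ : (P : Subgroup G) = Q := by
    symm
    apply Subgroup.eq_of_le_of_card_ge hQP
    rw [hq]
    exact hcP
  have hP : normalizer ((P : Subgroup G) : Set G) ≤ centralizer ((P : Subgroup G) : Set G) := by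
    rw [hPQ, hNQ]
    intro x hx
    rw [mem_centralizer_iff]
    intro y hy
    exact Q_comm h hy hx
  have hcompl := MonoidHom.ker_transferSylow_isComplement' P hP
  have hcm := hcompl.card_mul_card
  have hcP3 : Nat.card (P : Subgroup G) = 3 := by rw [hPQ, hq]
  rw [hcP3, hG] at hcm
  rcases (MonoidHom.normal_ker (MonoidHom.transferSylow P hP)).eq_bot_or_eq_top with h0 | h0
  · rw [h0, Subgroup.card_bot] at hcm
    omega
  · rw [h0, Subgroup.card_top, hG] at hcm
    omega

/-- the main structural statement: the coset action is a Zassenhaus group -/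
theorem zassenhaus [IsSimpleGroup G] :
    Cfsg.IsZassenhausGroup G (G ⧸ normalizer (Q : Set G)) := by
  obtain ⟨u, hu2, huN, huD⟩ := exists_u h (D_ne_bot h)
  have h2t := two_trans h
  have hxy : ((1 : G) : G ⧸ normalizer (Q : Set G)) ≠ (u : G ⧸ normalizer (Q : Set G)) := by
    intro h0
    exact huN ((mk_eq_base _).1 h0.symm)
  -- the two-point stabilizer
  have hstab : ∀ g : G, g • ((1 : G) : G ⧸ normalizer (Q : Set G)) = ((1 : G) : G ⧸ _) →
      g • (u : G ⧸ normalizer (Q : Set G)) = (u : G ⧸ _) → g ∈ D := by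
    intro g hg1 hg2
    rw [smul_base_eq] at hg1
    rw [smul_mk_eq] at hg2
    exact mem_D_of_conj h huN huD hg1 hg2
  have hq3 := three_le_q h
  refine ⟨⟨?_⟩, h2t, ?_, ?_, ?_⟩
  · -- faithful
    intro g₁ g₂ hg
    have hker : (toPermHom G (G ⧸ normalizer (Q : Set G))).ker = ⊥ := by
      rcases (MonoidHom.normal_ker (toPermHom G (G ⧸ normalizer (Q : Set G)))).eq_bot_or_eq_top
        with h0 | h0
      · exact h0
      · exfalso
        have hall : ∀ g : G, g ∈ normalizer (Q : Set G) := by
          intro g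
          have hg' : g ∈ (toPermHom G (G ⧸ normalizer (Q : Set G))).ker := by rw [h0]; trivial
          rw [MonoidHom.mem_ker] at hg'
          have := congrArg (fun σ : Equiv.Perm (G ⧸ normalizer (Q : Set G)) =>
            σ ((1 : G) : G ⧸ normalizer (Q : Set G))) hg'
          simp only [toPermHom_apply, toPerm_apply, Equiv.Perm.coe_one, id_eq] at this
          exact (smul_base_eq _).1 this
        have htop : normalizer (Q : Set G) = ⊤ := by
          rw [eq_top_iff]
          intro g _
          exact hall g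
        have := index_N h
        rw [htop, index_top] at this
        omega
    have hmem : g₂⁻¹ * g₁ ∈ (toPermHom G (G ⧸ normalizer (Q : Set G))).ker := by
      rw [MonoidHom.mem_ker]
      ext a
      simp only [toPermHom_apply, toPerm_apply, Equiv.Perm.coe_one, id_eq]
      rw [mul_smul, hg a, inv_smul_smul]
    rw [hker, mem_bot] at hmem
    calc g₁ = g₂ * (g₂⁻¹ * g₁) := by group
      _ = g₂ := by rw [hmem, mul_one]
  · -- three-point stabilizers
    intro g a b c hab hbc hac hga hgb hgc
    obtain ⟨k, hka, hkb⟩ := (is_two_pretransitive_iff.mp h2t) hab hxy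
    have hconj : ∀ w : G ⧸ normalizer (Q : Set G), g • w = w → (k * g * k⁻¹) • (k • w) = k • w := by
      intro w hw
      rw [mul_smul, mul_smul, inv_smul_smul, hw]
    have h1 := hconj a hga
    have h2 := hconj b hgb
    have h3 := hconj c hgc
    rw [hka] at h1
    rw [hkb] at h2
    have hgD : k * g * k⁻¹ ∈ D := hstab _ h1 h2
    have hc1 : k • c ≠ ((1 : G) : G ⧸ normalizer (Q : Set G)) := by
      intro h0
      apply hac
      rw [← hka] at h0
      exact (MulAction.injective k h0).symm
    have hc2 : k • c ≠ (u : G ⧸ normalizer (Q : Set G)) := by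
      intro h0
      apply hbc
      rw [← hkb] at h0
      exact (MulAction.injective k h0).symm
    obtain ⟨x, hx, hxc⟩ := Q_trans h hxy.symm hc1
    have hx1 : x ≠ 1 := by
      intro h0
      rw [h0, one_smul] at hxc
      exact hc2 hxc.symm
    rw [← hxc] at h3
    -- `x⁻¹ g' x` fixes both base points
    have h4 : (x⁻¹ * (k * g * k⁻¹) * x) • (u : G ⧸ normalizer (Q : Set G)) = (u : G ⧸ _) := by
      rw [mul_smul, mul_smul, h3, inv_smul_smul]
    have h5 : (x⁻¹ * (k * g * k⁻¹) * x) • ((1 : G) : G ⧸ normalizer (Q : Set G)) =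
        ((1 : G) : G ⧸ _) := by
      rw [smul_base_eq]
      exact (normalizer (Q : Set G)).mul_mem ((normalizer (Q : Set G)).mul_mem
        ((normalizer (Q : Set G)).inv_mem (Q_le_N h hx)) (D_le_N h hgD)) (Q_le_N h hx)
    have h6 : x⁻¹ * (k * g * k⁻¹) * x ∈ D := hstab _ h5 h4
    have h7 := eq_one_of_conj_mem_D h hgD hx hx1 h6
    calc g = k⁻¹ * (k * g * k⁻¹) * k := by group
      _ = 1 := by rw [h7]; group
  · -- a nontrivial element fixing two points
    obtain ⟨d, hd, hd1⟩ : ∃ d ∈ D, d ≠ 1 := by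
      by_contra hcon
      push Not at hcon
      apply D_ne_bot h
      rw [eq_bot_iff]
      intro d hd
      rw [mem_bot]
      exact hcon d hd
    refine ⟨d, hd1, _, _, hxy, (smul_base_eq _).2 (D_le_N h hd), ?_⟩
    rw [smul_mk_eq]
    exact D_le_N h (huD d hd)
  · -- no regular normal subgroup
    intro M hM hMt
    rcases hM.eq_bot_or_eq_top with h0 | h0
    · exfalso
      subst h0
      obtain ⟨⟨m, hm⟩, hmu⟩ := hMt.exists_smul_eq ((1 : G) : G ⧸ normalizer (Q : Set G))
        (u : G ⧸ normalizer (Q : Set G))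
      rw [mem_bot] at hm
      subst hm
      apply hxy
      have : ((⟨1, (⊥ : Subgroup G).one_mem⟩ : (⊥ : Subgroup G)) •
          ((1 : G) : G ⧸ normalizer (Q : Set G))) = ((1 : G) : G ⧸ normalizer (Q : Set G)) :=
        one_smul _ _
      rw [← this]
      exact hmu
    · subst h0
      refine ⟨((1 : G) : G ⧸ normalizer (Q : Set G)), ?_⟩
      intro hbot
      obtain ⟨x, hx, hx1⟩ : ∃ x ∈ Q, x ≠ 1 := by
        by_contra hcon
        push Not at hcon
        have : Q = ⊥ := by
          rw [eq_bot_iff]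
          intro x hx
          rw [mem_bot]
          exact hcon x hx
        rw [this, Subgroup.card_bot] at hq3
        omega
      have hmem : (⟨x, mem_top x⟩ : (⊤ : Subgroup G)) ∈ (⊥ : Subgroup (⊤ : Subgroup G)) := by
        rw [← hbot, mem_stabilizer_iff]
        exact (smul_base_eq _).2 (Q_le_N h hx)
      rw [mem_bot] at hmem
      exact hx1 (congrArg Subtype.val hmem)

/-- the hypotheses of S0731 on `Q` -/
theorem Q_data :
    Q ≤ stabilizer G ((1 : G) : G ⧸ normalizer (Q : Set G)) ∧
    (Q.subgroupOf (stabilizer G ((1 : G) : G ⧸ normalizer (Q : Set G)))).Normal ∧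
    IsMulCommutative Q ∧
    ∀ y z : G ⧸ normalizer (Q : Set G), y ≠ ((1 : G) : G ⧸ normalizer (Q : Set G)) →
      z ≠ ((1 : G) : G ⧸ normalizer (Q : Set G)) → ∃! w : Q, (w : G) • y = z := by
  refine ⟨?_, ?_, ⟨⟨fun x y => Subtype.ext (Q_comm h x.2 y.2)⟩⟩, ?_⟩
  · intro x hx
    rw [mem_stabilizer_iff]
    exact (smul_base_eq _).2 (Q_le_N h hx)
  · constructor
    intro x hx n
    rw [mem_subgroupOf] at hx ⊢
    have hn : (n : G) ∈ normalizer (Q : Set G) := by
      have := n.2
      rw [mem_stabilizer_iff] at this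
      exact (smul_base_eq _).1 this
    have := conj_mem_Q h hn hx
    simpa using this
  · intro y z hy hz
    obtain ⟨x, hx, hxy⟩ := Q_trans h hy hz
    refine ⟨⟨x, hx⟩, hxy, ?_⟩
    intro w hw
    have h1 : ((x : G)⁻¹ * (w : G)) • y = y := by
      rw [mul_smul, hw, ← hxy, inv_smul_smul]
    have h2 := Q_semireg h (Q.mul_mem (Q.inv_mem hx) w.2) hy h1
    apply Subtype.ext
    show (w : G) = x
    calc (w : G) = x * (x⁻¹ * (w : G)) := by group
      _ = x := by rw [h2, mul_one]

end Cfsg.Agent.Lib.Helper55_BSWBack2
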