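import Mathlib
import Cfsg.Agent.Lib.Helper55_DihedralCoord
import Cfsg.Agent.Lib.Helper32_Sylow

set_option autoImplicit false
set_option linter.unusedSectionVars false

/-!
Brauer-Suzuki-Wall (S0508), front end: cyclic subgroups of index two in a dihedral group
(helper55).
-/

namespace Cfsg.Agent.Lib.Helper55_BSWDih

open Subgroup DihedralGroup Cfsg.Agent.Lib.Helper55_DihedralCoord

variable {G : Type*} [Group G]

/-- in a subgroup of index two the product of two outside elements is inside -/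
theorem mul_mem_of_relIndex_two {A P : Subgroup G} (hi : A.relIndex P = 2) {x y : G}
    (hx : x ∈ P) (hxA : x ∉ A) (hy : y ∈ P) (hyA : y ∉ A) : x * y ∈ A := by
  have h2 : (A.subgroupOf P).index = 2 := hi
  have h3 := Subgroup.mul_mem_iff_of_index_two h2 (a := (⟨x, hx⟩ : P)) (b := ⟨y, hy⟩)
  rw [mem_subgroupOf, mem_subgroupOf, mem_subgroupOf] at h3
  exact h3.2 ⟨fun h => absurd h hxA, fun h => absurd h hyA⟩

/-- a subgroup of index two is proper -/
theorem exists_not_mem_of_relIndex_two {A P : Subgroup G} (hi : A.relIndex P = 2) :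
    ∃ s ∈ P, s ∉ A := by
  by_contra hcon
  push Not at hcon
  have h1 : A.relIndex P = 1 := relIndex_eq_one.mpr hcon
  omega

variable [Finite G] {P : Subgroup G} {m : ℕ} (e : ↥P ≃* DihedralGroup m)

/-- the case of the four-group -/
theorem four_sq (e : ↥P ≃* DihedralGroup 2) {x : G} (hx : x ∈ P) : x * x = 1 := by
  rcases cases_mem e hx with ⟨i, rfl⟩ | ⟨i, rfl⟩
  · rw [R_mul_R, CharTwo.add_self_eq_zero, R_zero]
  · exact SR_mul_self e i

theorem four_comm (e : ↥P ≃* DihedralGroup 2) {x y : G} (hx : x ∈ P) (hy : y ∈ P) :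
    x * y = y * x := by
  have h1 := four_sq e (P.mul_mem hx hy)
  have h2 := four_sq e hx
  have h3 := four_sq e hy
  calc x * y = x * y * (y * x * (y * x)⁻¹) := by group
    _ = x * (y * y) * x * (y * x)⁻¹ := by group
    _ = (x * x) * (y * x)⁻¹ := by rw [h3]; group
    _ = (y * x)⁻¹ := by rw [h2, one_mul]
    _ = (y * x)⁻¹ * ((y * x) * (y * x)) := by rw [four_sq e (P.mul_mem hy hx), mul_one]
    _ = y * x := by group

/-- the central involution of a dihedral group of order at least six is a rotation -/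
theorem central_is_rotation (hm : 3 ≤ m) {t : G} (htP : t ∈ P)
    (htZ : ∀ x ∈ P, x * t = t * x) : t ∈ zpowers (R e 1) := by
  rcases cases_mem e htP with ⟨i, rfl⟩ | ⟨i, rfl⟩
  · exact (mem_zpowers_iff e _).mpr ⟨i, rfl⟩
  · exfalso
    have h1 := htZ (R e 1) (R_mem e 1)
    rw [R_mul_SR, SR_mul_R] at h1
    have h2 : i - 1 = i + 1 := SR_injective e h1
    have h3 : ((2 : ℕ) : ZMod m) = 0 := by
      have : (2 : ZMod m) = (i + 1) - (i - 1) := by ring
      rw [Nat.cast_ofNat, this, h2]
      ring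
    have h4 := (ZMod.natCast_eq_zero_iff 2 m).1 h3
    have := Nat.le_of_dvd (by norm_num) h4
    omega

/-- a cyclic subgroup of index two of a dihedral group of order at least six is the rotation
subgroup -/
theorem eq_rotations (hm : 3 ≤ m) {A : Subgroup G} (hAP : A ≤ P) (hAc : IsCyclic A)
    (hAi : A.relIndex P = 2) : A = zpowers (R e 1) := by
  have hcardA : Nat.card A = m := by
    have h1 := Cfsg.Agent.Lib.Helper32_Sylow.card_mul_relIndex' hAP
    rw [hAi, card_eq e] at h1
    omega
  obtain ⟨g₀, hg₀⟩ := IsCyclic.exists_generator (α := A)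
  have hord : orderOf (g₀ : G) = m := by
    rw [Subgroup.orderOf_coe, orderOf_eq_card_of_forall_mem_zpowers hg₀, hcardA]
  have hg₀R : (g₀ : G) ∈ zpowers (R e 1) := by
    rcases cases_mem e (hAP g₀.2) with ⟨i, hi⟩ | ⟨i, hi⟩
    · exact (mem_zpowers_iff e _).mpr ⟨i, hi⟩
    · exfalso
      rw [hi, orderOf_SR] at hord
      omega
  apply Subgroup.eq_of_le_of_card_ge
  · intro a ha
    obtain ⟨k, hk⟩ := mem_zpowers_iff.mp (hg₀ ⟨a, ha⟩)
    have h1 : a = (g₀ : G) ^ k := by
      have := congrArg Subtype.val hk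
      simpa using this.symm
    rw [h1]
    exact (zpowers (R e 1)).zpow_mem hg₀R k
  · rw [Nat.card_zpowers, orderOf_R_one, hcardA]

include e in
/-- existence of a cyclic subgroup of index two through the central involution -/
theorem exists_cyclic (hm : 2 ≤ m) {t : G} (htP : t ∈ P) (hto : orderOf t = 2)
    (htZ : ∀ x ∈ P, x * t = t * x) :
    ∃ A : Subgroup G, A ≤ P ∧ IsCyclic A ∧ A.relIndex P = 2 ∧ t ∈ A := by
  rcases Nat.lt_or_ge m 3 with h | h
  · have hm2 : m = 2 := by omega
    subst hm2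
    refine ⟨zpowers t, zpowers_le.mpr htP, inferInstance, ?_, mem_zpowers t⟩
    have h1 := Cfsg.Agent.Lib.Helper32_Sylow.card_mul_relIndex' (zpowers_le.mpr htP)
    rw [Nat.card_zpowers, hto, card_eq e] at h1
    omega
  · have : NeZero m := ⟨by omega⟩
    exact ⟨zpowers (R e 1), zpowers_le e, inferInstance, relIndex_zpowers e,
      central_is_rotation e h htP htZ⟩

include e in
/-- the elements outside a cyclic subgroup of index two are involutions inverting it -/
theorem inverts (hm : 2 ≤ m) {A : Subgroup G} (hAP : A ≤ P) (hAc : IsCyclic A)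
    (hAi : A.relIndex P = 2) {s : G} (hsP : s ∈ P) (hsA : s ∉ A) :
    orderOf s = 2 ∧ ∀ a ∈ A, s * a * s⁻¹ = a⁻¹ := by
  rcases Nat.lt_or_ge m 3 with h | h
  · have hm2 : m = 2 := by omega
    subst hm2
    have hs1 : s ≠ 1 := fun h0 => hsA (h0 ▸ A.one_mem)
    refine ⟨orderOf_eq_prime (by rw [pow_two]; exact four_sq e hsP) hs1, ?_⟩
    intro a ha
    have h1 := four_sq e (hAP ha)
    rw [four_comm e hsP (hAP ha)]
    calc a * s * s⁻¹ = a := by group
      _ = a⁻¹ := (inv_eq_of_mul_eq_one_right h1).symm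
  · have hA := eq_rotations e h hAP hAc hAi
    rw [hA] at hsA
    rcases cases_mem e hsP with ⟨i, rfl⟩ | ⟨i, rfl⟩
    · exact absurd ((mem_zpowers_iff e _).mpr ⟨i, rfl⟩) hsA
    · refine ⟨orderOf_SR e i, ?_⟩
      intro a ha
      rw [hA] at ha
      obtain ⟨j, rfl⟩ := (mem_zpowers_iff e _).mp ha
      exact SR_conj_R e i j

end Cfsg.Agent.Lib.Helper55_BSWDih
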