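import Mathlib
import Cfsg.Prelude.Def_CaseTheorems
import Cfsg.Agent.S0514
import Cfsg.Agent.S0107
import Cfsg.Agent.Lib.Helper1_Cores
import Cfsg.Agent.Lib.Helper17_DihBlock
import Cfsg.Agent.Lib.Helper35_FrobeniusNPC
import Cfsg.Agent.Lib.Helper34_Sylow
import Cfsg.Agent.Lib.Helper55_BSWDih
import Cfsg.Agent.Lib.Helper55_BSWFront

set_option autoImplicit false
set_option linter.unusedSectionVars false

/-!
Brauer-Suzuki-Wall (S0508), front end, concrete part: from the hypotheses of S0508 to the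
hypotheses of the abstract form S3282 (helper55).
-/

namespace Cfsg.Agent.Lib.Helper55_BSWFront2

open Subgroup Cfsg Cfsg.Agent.Lib Cfsg.Agent.Lib.Helper55_BSWFront Cfsg.Agent.Lib.Helper35_FrobeniusNPC

variable {G : Type*} [Group G] [Finite G]

/-- the centralizer of `t` is the product of its odd core and the Sylow `2`-subgroup -/
theorem exists_decomp (S : Sylow 2 G) (n : ℕ) (hn : 2 ≤ n)
    (hS : Nonempty ((S : Subgroup G) ≃* DihedralGroup n)) (t : G) (ht : orderOf t = 2)
    (hSC : (S : Subgroup G) ≤ centralizer ({t} : Set G)) (O : Subgroup G)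
    (hO : O = (Cfsg.oddCore (centralizer ({t} : Set G))).map (centralizer ({t} : Set G)).subtype) :
    Odd (Nat.card O) ∧ O ≤ centralizer ({t} : Set G) ∧
      ∀ c ∈ centralizer ({t} : Set G), ∃ o ∈ O, ∃ σ ∈ (S : Subgroup G), c = o * σ := by
  have : Fact (Nat.Prime 2) := ⟨Nat.prime_two⟩
  obtain ⟨N, hNn, hNodd, k, hk⟩ := Cfsg.Agent.S0514.result S n hn hS t ht
  have hnpc : HasNPC 2 ↥(centralizer ({t} : Set G)) :=
    ⟨N, hNn, Nat.coprime_two_right.mpr hNodd, k, hk⟩
  obtain ⟨k', hk'⟩ := Cfsg.Agent.Lib.Helper17_DihBlock.pPrimeCore_index_of_hasNPC hnpc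
  have hcop : (Nat.card (pPrimeCore 2 ↥(centralizer ({t} : Set G)))).Coprime 2 :=
    Helper1_Cores.pPrimeCore_card_coprime 2
  have hcompl := isComplement'_of_npc hcop hk' (S.subtype hSC)
  have hcardO : Nat.card O = Nat.card (pPrimeCore 2 ↥(centralizer ({t} : Set G))) := by
    rw [hO]
    exact Subgroup.card_map_of_injective (Subgroup.subtype_injective _)
  refine ⟨?_, ?_, ?_⟩
  · rw [hcardO]
    exact Nat.coprime_two_right.mp hcop
  · rw [hO]
    rintro _ ⟨x, _, rfl⟩
    exact x.2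
  · intro c hc
    obtain ⟨⟨⟨o, ho⟩, ⟨σ, hσ⟩⟩, hx, -⟩ :=
      (Subgroup.isComplement'_def.mp hcompl).existsUnique (⟨c, hc⟩ : centralizer ({t} : Set G))
    simp only at hx
    rw [Sylow.coe_subtype] at hσ
    refine ⟨(o : G), ?_, (σ : G), ?_, ?_⟩
    · rw [hO]
      exact ⟨o, ho, rfl⟩
    · exact mem_subgroupOf.mp hσ
    · have := congrArg Subtype.val hx
      simpa using this.symm

/-- a simple group with a Sylow `2`-subgroup of order at least four has no subgroup of index two -/
theorem no_index_two [IsSimpleGroup G] (S : Sylow 2 G) (h4 : 4 ≤ Nat.card (S : Subgroup G))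
    (M : Subgroup G) : M.index ≠ 2 := by
  intro hM
  have hMn : M.Normal := normal_of_index_eq_two hM
  rcases hMn.eq_bot_or_eq_top with h | h
  · rw [h, index_bot] at hM
    have := Nat.le_of_dvd (by omega) (Subgroup.card_subgroup_dvd_card (S : Subgroup G))
    omega
  · rw [h, index_top] at hM
    omega

/-- the front end of S0508: the hypotheses of the abstract form hold. -/
theorem front [IsSimpleGroup G] (S : Sylow 2 G) (n : ℕ)
    (hn : 2 ≤ n) (hS : Nonempty ((S : Subgroup G) ≃* DihedralGroup n)) (t : G)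
    (ht : orderOf t = 2) (htS : t ∈ (S : Subgroup G))
    (htZ : ∀ s ∈ (S : Subgroup G), s * t = t * s) (O : Subgroup G)
    (hO : O = (Cfsg.oddCore (Subgroup.centralizer ({t} : Set G))).map
      (Subgroup.centralizer ({t} : Set G)).subtype)
    (ha : O ≠ ⊥ → IsCyclic ((S : Subgroup G) ⊓ Subgroup.centralizer (O : Set G) : Subgroup G) ∧
      ((S : Subgroup G) ⊓ Subgroup.centralizer (O : Set G)).relIndex (S : Subgroup G) = 2)
    (hb : ∀ s ∈ (S : Subgroup G), s ∉ Subgroup.centralizer (O : Set G) →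
      ∀ y ∈ O, s * y * s⁻¹ = y⁻¹)
    (hc : ∀ Y : Subgroup G, Y ≤ O → Y ≠ ⊥ →
      Subgroup.normalizer (Y : Set G) ≤ Subgroup.centralizer ({t} : Set G)) :
    ∃ (K : Subgroup G) (s : G), IsMulCommutative ↥K ∧ K ≤ centralizer ({t} : Set G) ∧ t ∈ K ∧
      orderOf s = 2 ∧ s ∈ centralizer ({t} : Set G) ∧ s ∉ K ∧
      K ⊔ zpowers s = centralizer ({t} : Set G) ∧
      K ⊓ centralizer ({s} : Set G) = zpowers t ∧
      (∀ x ∈ K, s * x * s⁻¹ = x⁻¹) ∧
      (∀ g : G, g ∉ centralizer ({t} : Set G) → K ⊓ K.map (MulAut.conj g).toMonoidHom = ⊥) ∧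
      (∀ x y : G, orderOf x = 2 → orderOf y = 2 → IsConj x y) := by
  classical
  obtain ⟨e⟩ := hS
  have hSC : (S : Subgroup G) ≤ centralizer ({t} : Set G) := by
    intro s hs
    rw [mem_centralizer_iff]
    intro w hw
    rw [Set.mem_singleton_iff] at hw
    rw [hw]
    exact (htZ s hs).symm
  obtain ⟨hOodd, hOC, hdec⟩ := exists_decomp S n hn ⟨e⟩ t ht hSC O hO
  -- the cyclic subgroup of index two
  obtain ⟨A, hAS, hAc, hAi, htA, hAO, hinvO⟩ : ∃ A : Subgroup G, A ≤ (S : Subgroup G) ∧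
      IsCyclic A ∧ A.relIndex (S : Subgroup G) = 2 ∧ t ∈ A ∧
      (∀ a ∈ A, ∀ o ∈ O, a * o = o * a) ∧
      (∀ s ∈ (S : Subgroup G), s ∉ A → ∀ o ∈ O, s * o * s⁻¹ = o⁻¹) := by
    by_cases hO1 : O = ⊥
    · obtain ⟨A, hAS, hAc, hAi, htA⟩ := Helper55_BSWDih.exists_cyclic e hn htS ht htZ
      refine ⟨A, hAS, hAc, hAi, htA, ?_, ?_⟩
      · intro a _ o ho
        rw [hO1, mem_bot] at ho
        rw [ho, mul_one, one_mul]
      · intro s _ _ o ho
        rw [hO1, mem_bot] at ho
        rw [ho, mul_one, mul_inv_cancel, inv_one]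
    · obtain ⟨hAc, hAi⟩ := ha hO1
      refine ⟨(S : Subgroup G) ⊓ centralizer (O : Set G), inf_le_left, hAc, hAi, ⟨htS, ?_⟩, ?_, ?_⟩
      · show t ∈ centralizer (O : Set G)
        rw [mem_centralizer_iff]
        intro o ho
        have := hOC ho
        rw [mem_centralizer_iff] at this
        exact (this t rfl).symm
      · intro a ha' o ho
        have h1 : a ∈ centralizer (O : Set G) := ha'.2
        rw [mem_centralizer_iff] at h1
        exact (h1 o ho).symm
      · intro s hsS hsA o ho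
        apply hb s hsS _ o ho
        intro hsC
        exact hsA ⟨hsS, hsC⟩
  have hF : FrontHyp t O (S : Subgroup G) A :=
    { ht := ht
      hOC := hOC
      hOodd := hOodd
      hS2 := S.isPGroup'
      hSC := hSC
      hdec := hdec
      hAS := hAS
      hAcyc := hAc
      htA := htA
      hAO := hAO
      hex := Helper55_BSWDih.exists_not_mem_of_relIndex_two hAi
      hidx := fun σ hσ hσA σ' hσ' hσ'A =>
        Helper55_BSWDih.mul_mem_of_relIndex_two hAi hσ hσA hσ' hσ'A
      hinvA := fun s hsS hsA => Helper55_BSWDih.inverts e hn hAS hAc hAi hsS hsA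
      hinvO := hinvO
      hc := hc }
  obtain ⟨s, hsS, hsA⟩ := hF.hex
  refine ⟨K hF, s, ⟨⟨fun x y => Subtype.ext (K_comm hF x.2 y.2)⟩⟩, K_le_cent hF, t_mem_K hF,
    (hF.hinvA s hsS hsA).1, hSC hsS, not_mem_K hF hsS hsA, K_sup hF hsS hsA,
    K_inf_cent hF hsS hsA, fun x hx => inv_K hF hsS hsA hx, ?_, ?_⟩
  · intro g hg
    rw [eq_bot_iff]
    intro x hx
    have hxK : x ∈ K hF := hx.1
    have hxg : x ∈ (K hF).map (MulAut.conj g).toMonoidHom := hx.2
    rw [mem_bot]
    by_contra hx1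
    apply hg
    obtain ⟨k, hk, hkx⟩ := hxg
    have hkx' : g * k * g⁻¹ = x := hkx
    apply ti hF hxK hx1
    rw [← hkx']
    have : g⁻¹ * (g * k * g⁻¹) * g = k := by group
    rw [this]
    exact hk
  · -- one class of involutions
    have h4 : 4 ≤ Nat.card (S : Subgroup G) := by
      rw [Helper55_DihedralCoord.card_eq e]
      omega
    have hno := no_index_two S h4
    have key : ∀ u : G, orderOf u = 2 → IsConj u t := by
      intro u hu
      obtain ⟨y, hyA, huy⟩ := Cfsg.Agent.S0107.exists_conj_mem hno S A hAS hAi u hu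
      have hyo : orderOf y = 2 := by
        obtain ⟨g, hg⟩ := isConj_iff.mp huy
        rw [← hg, Helper34_Sylow.orderOf_conj', hu]
      have : y = t := Helper4_Sylow2.involution_unique_of_isCyclic_subgroup A hAc y t hyA htA hyo ht
      rw [this] at huy
      exact huy
    intro x y hx hy
    exact (key x hx).trans (key y hy).symm

end Cfsg.Agent.Lib.Helper55_BSWFront2
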