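import Mathlib
import Cfsg.Prelude.Def_CaseTheorems
import Cfsg.Prelude.Def_LieExceptional
import Cfsg.Agent.Lib.Helper55_BSWFront2
import Cfsg.Agent.Lib.Helper55_BSWBack2

set_option autoImplicit false
set_option linter.unusedSectionVars false

/-!
Brauer-Suzuki-Wall (S0508): the reduction to the abstract form S3282 and to the classification
of Zassenhaus groups with abelian kernel S0731, both taken as hypotheses here (helper55).
-/

namespace Cfsg.Agent.Lib.Helper55_BSWMain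

open Subgroup MulAction Cfsg.Agent.Lib.Helper55_BSWBack Cfsg.Agent.Lib.Helper55_BSWBack2

universe u

/-- a sharply triply transitive group has order `n (n - 1) (n - 2)` -/
theorem card_of_sharp {G : Type*} [Group G] [Finite G] {Ω : Type*} [MulAction G Ω] [Finite Ω]
    (h3 : IsMultiplyPretransitive G Ω 3) (hst : ∀ t : Fin 3 ↪ Ω, stabilizer G t = ⊥)
    (q : ℕ) (hq : 2 ≤ q) (hΩ : Nat.card Ω = q + 1) : Nat.card G = (q + 1) * q * (q - 1) := by
  classical
  have := Fintype.ofFinite Ω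
  have hcardΩ : Fintype.card Ω = q + 1 := by rw [← Nat.card_eq_fintype_card, hΩ]
  obtain ⟨t₀⟩ : Nonempty (Fin 3 ↪ Ω) :=
    Function.Embedding.nonempty_of_card_le (by rw [Fintype.card_fin, hcardΩ]; omega)
  have hpre : IsPretransitive G (Fin 3 ↪ Ω) := h3
  have hbij : Function.Bijective (fun g : G => g • t₀) := by
    constructor
    · intro g g' hgg'
      have h1 : (g'⁻¹ * g) • t₀ = t₀ := by
        rw [mul_smul]
        show g'⁻¹ • (g • t₀) = t₀
        have : g • t₀ = g' • t₀ := hgg'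
        rw [this, inv_smul_smul]
      have h2 : g'⁻¹ * g ∈ stabilizer G t₀ := h1
      rw [hst t₀, mem_bot] at h2
      calc g = g' * (g'⁻¹ * g) := by group
        _ = g' := by rw [h2, mul_one]
    · intro t
      exact hpre.exists_smul_eq t₀ t
  rw [Nat.card_congr (Equiv.ofBijective _ hbij), Nat.card_eq_fintype_card,
    Fintype.card_embedding_eq, Fintype.card_fin, hcardΩ]
  have h1 : q + 1 - 1 = q := by omega
  have h2 : q + 1 - 2 = q - 1 := by omega
  simp only [Nat.descFactorial, h1, h2, Nat.sub_zero, mul_one]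
  ring

/-- S0508 from the abstract form S3282 and the classification S0731 (both as hypotheses). -/
theorem main_of {G : Type u} [Group G] [Finite G] [IsSimpleGroup G] (S : Sylow 2 G) (n : ℕ)
    (hn : 2 ≤ n) (hS : Nonempty ((S : Subgroup G) ≃* DihedralGroup n)) (t : G)
    (ht : orderOf t = 2) (htS : t ∈ (S : Subgroup G))
    (htZ : ∀ s ∈ (S : Subgroup G), s * t = t * s) (O : Subgroup G)
    (hO : O = (Cfsg.oddCore (Subgroup.centralizer ({t} : Set G))).map
      (Subgroup.centralizer ({t} : Set G)).subtype)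
    (ha : O ≠ ⊥ → IsCyclic ((S : Subgroup G) ⊓ Subgroup.centralizer (O : Set G) : Subgroup G) ∧
      ((S : Subgroup G) ⊓ Subgroup.centralizer (O : Set G)).relIndex (S : Subgroup G) = 2)
    (hb : ∀ s ∈ (S : Subgroup G), s ∉ Subgroup.centralizer (O : Set G) →
      ∀ y ∈ O, s * y * s⁻¹ = y⁻¹)
    (hc : ∀ Y : Subgroup G, Y ≤ O → Y ≠ ⊥ →
      Subgroup.normalizer (Y : Set G) ≤ Subgroup.centralizer ({t} : Set G))
    (h3282 : ∀ (K : Subgroup G) (_ : IsMulCommutative ↥K)
      (_ : K ≤ Subgroup.centralizer ({t} : Set G)) (_ : t ∈ K)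
      (s : G) (_ : orderOf s = 2) (_ : s ∈ Subgroup.centralizer ({t} : Set G)) (_ : s ∉ K)
      (_ : K ⊔ Subgroup.zpowers s = Subgroup.centralizer ({t} : Set G))
      (_ : K ⊓ Subgroup.centralizer ({s} : Set G) = Subgroup.zpowers t)
      (_ : ∀ x ∈ K, s * x * s⁻¹ = x⁻¹)
      (_ : ∀ g : G, g ∉ Subgroup.centralizer ({t} : Set G) →
        K ⊓ K.map (MulAut.conj g).toMonoidHom = ⊥)
      (_ : ∀ x y : G, orderOf x = 2 → orderOf y = 2 → IsConj x y),
      ∃ Q D : Subgroup G, 2 * Nat.card G = Nat.card ↥Q * (Nat.card ↥Q + 1) * (Nat.card ↥Q - 1) ∧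
        (∀ x ∈ Q, x ≠ 1 → Subgroup.centralizer ({x} : Set G) = Q) ∧
        IsMulCommutative ↥D ∧ 2 * Nat.card ↥D + 1 = Nat.card ↥Q ∧ Q ⊓ D = ⊥ ∧
        Subgroup.normalizer (Q : Set G) = Q ⊔ D ∧
        ∀ X : Subgroup G, X ≤ D → X ≠ ⊥ →
          Subgroup.normalizer (X : Set G) = Subgroup.normalizer (D : Set G) ∧
          ∃ u : G, orderOf u = 2 ∧ u ∉ D ∧ (∀ d ∈ D, u * d * u⁻¹ = d⁻¹) ∧
            Subgroup.normalizer (D : Set G) = D ⊔ Subgroup.zpowers u)
    (h731 : ∀ {Ω : Type u} [MulAction G Ω] [Finite Ω] (_ : Cfsg.IsZassenhausGroup G Ω) (x : Ω)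
      (F : Subgroup G) (_ : F ≤ MulAction.stabilizer G x)
      (_ : (F.subgroupOf (MulAction.stabilizer G x)).Normal) (_ : IsMulCommutative F)
      (_ : ∀ y z : Ω, y ≠ x → z ≠ x → ∃! w : F, (w : G) • y = z),
      (MulAction.IsMultiplyPretransitive G Ω 3 ∧
        ∀ t : Fin 3 ↪ Ω, MulAction.stabilizer G t = ⊥) ∨
      ∃ (K : Type) (_ : Field K) (_ : Fintype K), ringChar K ≠ 2 ∧
        Nonempty (G ≃* Matrix.ProjectiveSpecialLinearGroup (Fin 2) K)) :
    ∃ (F : Type) (_ : Field F) (_ : Fintype F), Odd (Fintype.card F) ∧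
      Nonempty (G ≃* Matrix.ProjectiveSpecialLinearGroup (Fin 2) F) := by
  obtain ⟨K, s, hKab, hKH, htK, hs, hsH, hsK, hH, hCK, hinv, hTI, hconj⟩ :=
    Cfsg.Agent.Lib.Helper55_BSWFront2.front S n hn hS t ht htS htZ O hO ha hb hc
  obtain ⟨Q, D, h1, h2, -, h4, h5, h6, h7⟩ :=
    h3282 K hKab hKH htK s hs hsH hsK hH hCK hinv hTI hconj
  have hB : BackHyp Q D := ⟨h1, h2, h4, h5, h6, h7⟩
  have hZ := zassenhaus hB
  obtain ⟨hFle, hFn, hFab, hreg⟩ := Q_data hB
  rcases h731 hZ _ Q hFle hFn hFab hreg with ⟨h3t, hst⟩ | ⟨F, iF, iF', hchar, he⟩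
  · exfalso
    have hq := three_le_q hB
    have hc := card_of_sharp h3t hst (Nat.card Q) (by omega) (card_Ω hB)
    have h8 : Nat.card Q * (Nat.card Q + 1) * (Nat.card Q - 1) =
        (Nat.card Q + 1) * Nat.card Q * (Nat.card Q - 1) := by ring
    rw [h8, ← hc] at h1
    have : 0 < Nat.card G := Nat.card_pos
    omega
  · exact ⟨F, iF, iF', Nat.odd_iff.mpr (FiniteField.odd_card_of_char_ne_two hchar), he⟩

end Cfsg.Agent.Lib.Helper55_BSWMain
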