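import Mathlib
import Cfsg.Prelude.Def_CaseTheorems
import Cfsg.Agent.Lib.Helper21_SCNCDefs
import Cfsg.Agent.S0508
import Cfsg.Agent.Lib.Helper84_SCNC_EVEN
import Cfsg.Agent.Lib.Helper84_SCNC_FOUR
import Cfsg.Agent.Lib.Helper54_SCNC_SYL
import Cfsg.Agent.Lib.Helper54_SCNC_LIST
import Cfsg.Agent.Lib.Helper8_SCNC_ABS
import Cfsg.Agent.Lib.Helper21_SCNC_NOSD
import Cfsg.Agent.Lib.Helper42_SCNC_PSLC

/-!
# S3921: simple groups in which every non-cyclic subgroup contains its centralizer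

Assembly of the packages AUT/EVEN/FOUR (helper84), SYL/LIST (helper54), NT/ABS/NOSDCORE (helper8),
PSLC (helper42), NOSD (helper21) with the landed S0508 (Brauer–Suzuki–Wall, dihedral case).
-/

set_option autoImplicit false

open Cfsg.Agent.Lib.Helper21_SCNC Cfsg.Agent.Lib.Helper84_SCNC_EVEN Cfsg.Agent.Lib.Helper84_SCNC_FOUR
  Cfsg.Agent.Lib.Helper54_SCNC_SYL Cfsg.Agent.Lib.Helper54_SCNC_LIST Cfsg.Agent.Lib.Helper8_SCNC_ABS
  Cfsg.Agent.Lib.Helper21_SCNC_NOSD Cfsg.Agent.Lib.Helper42_SCNC_PSLC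

namespace Cfsg.Agent.Lib.Helper21_SCNC_Main

/-- `O(C(t)) = 1` as soon as `C(t)` contains a second involution. -/
theorem oddCore_centralizer_eq_bot {G : Type*} [Group G] [Finite G] (h : SCNC G) {t b : G}
    (ht : orderOf t = 2) (hb : orderOf b = 2) (hne : t ≠ b) (hc : Commute t b) :
    Cfsg.oddCore ↥(Subgroup.centralizer ({t} : Set G)) = ⊥ := by
  unfold Cfsg.oddCore Cfsg.pPrimeCore
  rw [sSup_eq_bot]
  set C := Subgroup.centralizer ({t} : Set G) with hC
  have hbC : b ∈ C := by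
    rw [hC, Subgroup.mem_centralizer_iff]
    intro w hw; rw [Set.mem_singleton_iff] at hw; subst hw; exact hc
  rintro N ⟨hN, hcop⟩
  have hX : N.map C.subtype = ⊥ := by
    apply h.eq_bot_of_invol_normalizes ht hb hne hc
    · exact Subgroup.map_subtype_le N
    · have : Nat.card ↥(N.map C.subtype) = Nat.card ↥N :=
        Subgroup.card_map_of_injective C.subtype_injective
      rw [this]
      exact Nat.Coprime.odd_of_right hcop
    · rintro x ⟨n, hn, rfl⟩
      refine ⟨(⟨b, hbC⟩ : ↥C) * n * (⟨b, hbC⟩ : ↥C)⁻¹, hN.conj_mem n hn _, ?_⟩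
      simp
  exact (Subgroup.map_eq_bot_iff_of_injective N C.subtype_injective).mp hX

theorem psl2_of_dihedral {G : Type*} [Group G] [Finite G] [IsSimpleGroup G] (h : SCNC G)
    (V : Subgroup G) (hV : IsKleinFour ↥V) (S : Sylow 2 G) (hVS : V ≤ (S : Subgroup G)) (n : ℕ)
    (hn : 2 ≤ n) (hS : Nonempty (↥(S : Subgroup G) ≃* DihedralGroup n)) :
    ∃ (F : Type) (_ : Field F) (_ : Fintype F), Odd (Fintype.card F) ∧
      Nonempty (G ≃* Matrix.ProjectiveSpecialLinearGroup (Fin 2) F) := by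
  classical
  -- a central involution of S
  have hSp : IsPGroup 2 ↥(S : Subgroup G) := S.isPGroup'
  have hVcard : Nat.card ↥V = 4 := IsKleinFour.card_four
  have hSnt : Nontrivial ↥(S : Subgroup G) := by
    have : 1 < Nat.card ↥(S : Subgroup G) := by
      have := Subgroup.card_le_of_le hVS
      omega
    exact Finite.one_lt_card_iff_nontrivial.mp this
  have : Fact (Nat.Prime 2) := ⟨Nat.prime_two⟩
  have hZnt : Nontrivial ↥(Subgroup.center ↥(S : Subgroup G)) := hSp.center_nontrivial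
  have h2dvd : 2 ∣ Nat.card ↥(Subgroup.center ↥(S : Subgroup G)) := by
    have hZp : IsPGroup 2 ↥(Subgroup.center ↥(S : Subgroup G)) := hSp.to_subgroup _
    obtain ⟨k, hk⟩ := hZp.exists_card_eq
    have : 1 < Nat.card ↥(Subgroup.center ↥(S : Subgroup G)) :=
      Finite.one_lt_card_iff_nontrivial.mpr hZnt
    rw [hk] at this ⊢
    rcases k with _ | k
    · simp at this
    · exact ⟨2 ^ k, by ring⟩
  obtain ⟨z, hz⟩ := exists_prime_orderOf_dvd_card' 2 h2dvd
  set t : G := ((z : ↥(S : Subgroup G)) : G) with htdef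
  have ht : orderOf t = 2 := by
    rw [htdef, Subgroup.orderOf_coe, Subgroup.orderOf_coe]; exact hz
  have htS : t ∈ (S : Subgroup G) := (z : ↥(S : Subgroup G)).2
  have htZ : ∀ s ∈ (S : Subgroup G), s * t = t * s := by
    intro s hs
    have := Subgroup.mem_center_iff.mp z.2 ⟨s, hs⟩
    exact congrArg Subtype.val this
  -- a second involution b ∈ V
  have hVex : ∃ b ∈ V, b ≠ 1 ∧ b ≠ t := by
    by_contra hcon
    push Not at hcon
    have hsub : (V : Set G) ⊆ ({1, t} : Finset G) := by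
      intro v hv
      by_cases h1 : v = 1
      · simp [h1]
      · simp [hcon v hv h1]
    have : Nat.card ↥V ≤ 2 := by
      rw [show Nat.card ↥V = (V : Set G).ncard from Nat.card_coe_set_eq _]
      calc (V : Set G).ncard ≤ ((({1, t} : Finset G)) : Set G).ncard :=
            Set.ncard_le_ncard hsub (Finset.finite_toSet _)
        _ = ({1, t} : Finset G).card := Set.ncard_coe_finset _
        _ ≤ 2 := Finset.card_le_two
    omega
  obtain ⟨b, hbV, hb1, hbt⟩ := hVex
  have hb : orderOf b = 2 := by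
    have : orderOf (⟨b, hbV⟩ : ↥V) = 2 := by
      apply orderOf_eq_prime
      · have := IsKleinFour.exponent_two (G := ↥V)
        rw [← this]; exact Monoid.pow_exponent_eq_one _
      · intro h1; exact hb1 (congrArg Subtype.val h1)
    rw [← this]; exact (Subgroup.orderOf_mk b hbV).symm
  have hc : Commute t b := (htZ b (hVS hbV)).symm
  have hO := oddCore_centralizer_eq_bot h ht hb (Ne.symm hbt) hc
  exact Cfsg.Agent.S0508.result S n hn hS t ht htS htZ ⊥ (by rw [hO, Subgroup.map_bot])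
    (fun hne => absurd rfl hne)
    (fun s _ _ y hy => by
      rw [Subgroup.mem_bot] at hy; subst hy; simp)
    (fun Y hY hne => absurd (le_bot_iff.mp hY) hne)

/-- the converse: `PSL₂(F)` has `SCNC` for `|F|` in the list. -/
theorem scnc_psl2 {F : Type*} [Field F] [Fintype F]
    (hq : Fintype.card F = 4 ∨ Fintype.card F = 9 ∨
      ((Fintype.card F).Prime ∧ ∃ k : ℕ, Fintype.card F = 2 ^ k + 1 ∨ Fintype.card F = 2 ^ k - 1)) :
    SCNC (Matrix.ProjectiveSpecialLinearGroup (Fin 2) F) :=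
  scnc_of_cent_cases (fun x hx => psl2_cent_cases hq x hx)

theorem fwd {G : Type*} [Group G] [Finite G] [IsSimpleGroup G] (hna : ¬ IsMulCommutative G)
    (h : SCNC G) :
    ∃ (F : Type) (_ : Field F) (_ : Fintype F),
      (Fintype.card F = 4 ∨ Fintype.card F = 9 ∨ ((Fintype.card F).Prime ∧
        ∃ k : ℕ, Fintype.card F = 2 ^ k + 1 ∨ Fintype.card F = 2 ^ k - 1)) ∧
      Nonempty (G ≃* Matrix.ProjectiveSpecialLinearGroup (Fin 2) F) := by
  have heven := even_card hna h
  obtain ⟨V, hV⟩ := exists_kleinFour hna heven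
  have : Fact (Nat.Prime 2) := ⟨Nat.prime_two⟩
  have hVp : IsPGroup 2 ↥V := IsPGroup.of_card (n := 2) (by rw [IsKleinFour.card_four]; norm_num)
  obtain ⟨S, hVS⟩ := hVp.exists_le_sylow
  rcases sylow_type h V hV S hVS with ⟨n, hn, hS⟩ | hQD
  · obtain ⟨F, iF, iF', hodd, ⟨e⟩⟩ := psl2_of_dihedral h V hV S hVS n hn hS
    have hF : SCNC (Matrix.ProjectiveSpecialLinearGroup (Fin 2) F) := h.of_mulEquiv e
    rcases card_mem_list hodd hF with h9 | hp
    · exact ⟨F, iF, iF', Or.inr (Or.inl h9), ⟨e⟩⟩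
    · exact ⟨F, iF, iF', Or.inr (Or.inr hp), ⟨e⟩⟩
  · exact (no_quasiDihedral hna h S hQD).elim

theorem main {G : Type*} [Group G] [Finite G] [IsSimpleGroup G] (hna : ¬ IsMulCommutative G) :
    (∀ H : Subgroup G, ¬ IsCyclic ↥H → Subgroup.centralizer (H : Set G) ≤ H) ↔ ∃ (F : Type) (_ : Field F) (_ : Fintype F),
      (Fintype.card F = 4 ∨ Fintype.card F = 9 ∨ ((Fintype.card F).Prime ∧ ∃ k : ℕ, Fintype.card F = 2 ^ k + 1 ∨ Fintype.card F = 2 ^ k - 1)) ∧
      Nonempty (G ≃* Matrix.ProjectiveSpecialLinearGroup (Fin 2) F) := by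
  constructor
  · intro h; exact fwd hna h
  · rintro ⟨F, iF, iF', hq, ⟨e⟩⟩
    exact (scnc_psl2 hq).of_mulEquiv e.symm

end Cfsg.Agent.Lib.Helper21_SCNC_Main
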