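import Cfsg.Agent.Lib.Helper21_StronglyEmbedded

set_option autoImplicit false
open Cfsg

namespace Cfsg.Agent.Lib.Helper21_SECount

open Cfsg.Agent.Lib.Helper21_StronglyEmbedded

variable {G : Type*} [Group G]

/-- The involutions fixing the coset `kH` correspond to the involutions of `H`. -/
noncomputable def involFixEquiv (H : Subgroup G) (k : G) :
    {i : G // orderOf i = 2 ∧ i • (QuotientGroup.mk k : G ⧸ H) = QuotientGroup.mk k} ≃
      {t : G // orderOf t = 2 ∧ t ∈ H} where
  toFun i := ⟨k⁻¹ * i.1 * k, by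
    have := orderOf_conj_eq_two i.2.1 k⁻¹
    rwa [inv_inv] at this, smul_mk_eq_mk_iff.mp i.2.2⟩
  invFun t := ⟨k * t.1 * k⁻¹, orderOf_conj_eq_two t.2.1 k, conj_smul_mk t.2.2 k⟩
  left_inv i := by
    apply Subtype.ext
    simp [mul_assoc]
  right_inv t := by
    apply Subtype.ext
    simp [mul_assoc]

theorem card_invol_fix [Finite G] (H : Subgroup G) (z : G ⧸ H) :
    Nat.card {i : G // orderOf i = 2 ∧ i • z = z} = Nat.card {t : G // orderOf t = 2 ∧ t ∈ H} := by
  induction z using QuotientGroup.induction_on with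
  | H k => exact Nat.card_congr (involFixEquiv H k)

/-- For `x ≠ y` there are at least as many involutions mapping `x` to `y` as involutions in `H`. -/
theorem card_invol_le [Finite G] {H : Subgroup G} (hH : IsStronglyEmbedded H) {x y : G ⧸ H}
    (hxy : x ≠ y) :
    Nat.card {t : G // orderOf t = 2 ∧ t ∈ H} ≤ Nat.card {i : G // orderOf i = 2 ∧ i • x = y} := by
  rw [← card_invol_fix H x]
  -- an involution fixing `y`
  have hne : Nonempty {i : G // orderOf i = 2 ∧ i • y = y} := by
    have hpos : 0 < Nat.card {i : G // orderOf i = 2 ∧ i • y = y} := by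
      rw [card_invol_fix H y]
      obtain ⟨t, ht, htH⟩ := exists_involution_mem hH
      exact Nat.card_pos_iff.mpr ⟨⟨⟨t, ht, htH⟩⟩, inferInstance⟩
    exact (Nat.card_pos_iff.mp hpos).1
  obtain ⟨⟨r, hr, hry⟩⟩ := hne
  have hex : ∀ s : {i : G // orderOf i = 2 ∧ i • x = x},
      ∃ w : G, orderOf w = 2 ∧ w * s.1 * w⁻¹ = r ∧ w • x = y ∧ w • y = x :=
    fun s => exists_involution_conj_of_ne hH s.2.1 hr s.2.2 hry hxy
  choose w hw using hex
  let f : {i : G // orderOf i = 2 ∧ i • x = x} → {i : G // orderOf i = 2 ∧ i • x = y} :=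
    fun s => ⟨w s, (hw s).1, (hw s).2.2.1⟩
  have hf : Function.Injective f := by
    intro s s' h
    have hww : w s = w s' := congrArg Subtype.val h
    apply Subtype.ext
    have h1 : s.1 = (w s)⁻¹ * r * w s := by rw [← (hw s).2.1]; group
    have h2 : s'.1 = (w s')⁻¹ * r * w s' := by rw [← (hw s').2.1]; group
    rw [h1, h2, hww]
  exact Nat.card_le_card_of_injective f hf

/-- S1224: the involutions mapping `x` to `y` are as many as the involutions of `H`. -/
theorem card_invol_map [Finite G] {H : Subgroup G} (hH : IsStronglyEmbedded H) (x y : G ⧸ H) :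
    Nat.card {i : G // orderOf i = 2 ∧ i • x = y} = Nat.card {t : G // orderOf t = 2 ∧ t ∈ H} := by
  classical
  have : Fintype (G ⧸ H) := Fintype.ofFinite _
  set m := Nat.card {t : G // orderOf t = 2 ∧ t ∈ H} with hm
  -- two decompositions of the set of all involutions
  let e1 : {i : G // orderOf i = 2} ≃ Σ q : G ⧸ H, {i : G // orderOf i = 2 ∧ i • x = q} :=
    { toFun := fun i => ⟨i.1 • x, ⟨i.1, i.2, rfl⟩⟩
      invFun := fun p => ⟨p.2.1, p.2.2.1⟩
      left_inv := fun i => rfl
      right_inv := by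
        rintro ⟨q, i, hi, hq⟩
        subst hq
        rfl }
  have hfix : ∀ i : {i : G // orderOf i = 2}, ∃ z : G ⧸ H, i.1 • z = z :=
    fun i => exists_fixed hH i.2
  choose fx hfx using hfix
  let e2 : {i : G // orderOf i = 2} ≃ Σ z : G ⧸ H, {i : G // orderOf i = 2 ∧ i • z = z} :=
    { toFun := fun i => ⟨fx i, ⟨i.1, i.2, hfx i⟩⟩
      invFun := fun p => ⟨p.2.1, p.2.2.1⟩
      left_inv := fun i => rfl
      right_inv := by
        rintro ⟨z, i, hi, hz⟩
        have h : fx ⟨i, hi⟩ = z := fixed_unique hH hi (hfx ⟨i, hi⟩) hz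
        subst h
        rfl }
  have h1 : Nat.card {i : G // orderOf i = 2}
      = ∑ q : G ⧸ H, Nat.card {i : G // orderOf i = 2 ∧ i • x = q} := by
    rw [Nat.card_congr e1, Nat.card_sigma]
  have h2 : Nat.card {i : G // orderOf i = 2} = ∑ _z : G ⧸ H, m := by
    rw [Nat.card_congr e2, Nat.card_sigma]
    exact Finset.sum_congr rfl fun z _ => card_invol_fix H z
  have hle : ∀ q ∈ (Finset.univ : Finset (G ⧸ H)),
      m ≤ Nat.card {i : G // orderOf i = 2 ∧ i • x = q} := by
    intro q _
    by_cases hq : x = q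
    · subst hq
      exact (card_invol_fix H x).ge
    · exact card_invol_le hH hq
  have hsum : ∑ _z : G ⧸ H, m = ∑ q : G ⧸ H, Nat.card {i : G // orderOf i = 2 ∧ i • x = q} :=
    h2.symm.trans h1
  exact ((Finset.sum_eq_sum_iff_of_le hle).mp hsum y (Finset.mem_univ y)).symm

end Cfsg.Agent.Lib.Helper21_SECount
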