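import Mathlib

/-!
# Subgroups generated by small classes (Isaacs)

Helper library (helper21).  If `A` is an abelian normal subgroup of a finite group `G`, `x : G`,
`a ∈ A` and `y = a x a⁻¹ x⁻¹ ≠ 1`, then the class of `y` is smaller than the class of `x`.
Consequently elements with the smallest non-trivial class size centralize `A` modulo the centre,
and the subgroup they generate has class at most 3 if `A` is self-centralizing.
-/

set_option autoImplicit false

namespace Cfsg.Agent.Lib.Helper21_SmallClass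

open scoped commutatorElement

variable {G : Type*} [Group G]

/-- The class of a non-trivial commutator `[a, x]`, `a` in an abelian normal subgroup, is
smaller than that of `x`. -/
theorem index_centralizer_commutator_lt [Finite G] (A : Subgroup G) [hAn : A.Normal]
    (hAc : ∀ a ∈ A, ∀ b ∈ A, a * b = b * a) (x a : G) (ha : a ∈ A)
    (hy1 : a * x * a⁻¹ * x⁻¹ ≠ 1) :
    (Subgroup.centralizer ({a * x * a⁻¹ * x⁻¹} : Set G)).index <
      (Subgroup.centralizer ({x} : Set G)).index := by
  classical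
  set y := a * x * a⁻¹ * x⁻¹ with hy
  set C := Subgroup.centralizer ({x} : Set G) with hC
  set Cy := Subgroup.centralizer ({y} : Set G) with hCy
  set S := C ⊓ Cy with hS
  have hyA : y ∈ A := by
    have h1 : x * a⁻¹ * x⁻¹ ∈ A := hAn.conj_mem _ (A.inv_mem ha) x
    have : y = a * (x * a⁻¹ * x⁻¹) := by rw [hy]; group
    rw [this]; exact A.mul_mem ha h1
  have hACy : A ≤ Cy := by
    intro b hb
    rw [hCy, Subgroup.mem_centralizer_singleton_iff]
    exact hAc b hb y hyA
  have hAS : A ⊓ S = A ⊓ C := by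
    apply le_antisymm
    · exact inf_le_inf_left A inf_le_left
    · intro g hg
      exact ⟨hg.1, hg.2, hACy hg.1⟩
  have hsup : A ⊔ S ≤ Cy := sup_le hACy inf_le_right
  -- the two quotients
  have hcomm : ∀ c ∈ C, c * x = x * c := fun c hc =>
    Subgroup.mem_centralizer_singleton_iff.mp hc
  let g2 : (↥A ⧸ C.subgroupOf A) → G := fun q =>
    ((q.out : ↥A) : G) * x * ((q.out : ↥A) : G)⁻¹ * x⁻¹
  let g1 : (↥C ⧸ S.subgroupOf C) → G := fun c =>
    ((c.out : ↥C) : G) * y * ((c.out : ↥C) : G)⁻¹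
  have hg2 : ∀ a' ∈ A, a' * x * a'⁻¹ * x⁻¹ ∈ Set.range g2 := by
    intro a' ha'
    refine ⟨QuotientGroup.mk ⟨a', ha'⟩, ?_⟩
    have h1 : (QuotientGroup.mk ((QuotientGroup.mk ⟨a', ha'⟩ : ↥A ⧸ C.subgroupOf A).out) :
        ↥A ⧸ C.subgroupOf A) = QuotientGroup.mk ⟨a', ha'⟩ := QuotientGroup.out_eq' _
    rw [QuotientGroup.eq, Subgroup.mem_subgroupOf] at h1
    set a'' : ↥A := (QuotientGroup.mk ⟨a', ha'⟩ : ↥A ⧸ C.subgroupOf A).out with ha''
    have h2 : ((a''⁻¹ * ⟨a', ha'⟩ : ↥A) : G) = (a'' : G)⁻¹ * a' := by simp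
    rw [h2] at h1
    have h3 := hcomm _ h1
    show (a'' : G) * x * (a'' : G)⁻¹ * x⁻¹ = a' * x * a'⁻¹ * x⁻¹
    have h4 : a' = (a'' : G) * ((a'' : G)⁻¹ * a') := by group
    calc (a'' : G) * x * (a'' : G)⁻¹ * x⁻¹
        = (a'' : G) * (x * ((a'' : G)⁻¹ * a')) * ((a'' : G)⁻¹ * a')⁻¹ * (a'' : G)⁻¹ * x⁻¹ := by group
      _ = (a'' : G) * (((a'' : G)⁻¹ * a') * x) * ((a'' : G)⁻¹ * a')⁻¹ * (a'' : G)⁻¹ * x⁻¹ := by
          rw [h3]
      _ = a' * x * a'⁻¹ * x⁻¹ := by group
  have hone : (1 : G) ∈ Set.range g2 := by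
    have := hg2 1 A.one_mem
    simpa using this
  have hg1mem : ∀ c, g1 c ∈ Set.range g2 := by
    intro c
    have hcC : ((c.out : ↥C) : G) ∈ C := (c.out : ↥C).2
    set c0 : G := ((c.out : ↥C) : G) with hc0
    have h1 : c0 * a * c0⁻¹ ∈ A := hAn.conj_mem _ ha c0
    have h2 := hg2 _ h1
    have h3 : c0 * x = x * c0 := hcomm c0 hcC
    have h3' : c0 * x * c0⁻¹ = x := by rw [h3]; group
    have h4 : g1 c = c0 * a * c0⁻¹ * x * (c0 * a * c0⁻¹)⁻¹ * x⁻¹ := by
      show c0 * y * c0⁻¹ = _
      rw [hy]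
      calc c0 * (a * x * a⁻¹ * x⁻¹) * c0⁻¹
          = (c0 * a * c0⁻¹) * (c0 * x * c0⁻¹) * (c0 * a * c0⁻¹)⁻¹ * (c0 * x * c0⁻¹)⁻¹ := by group
        _ = c0 * a * c0⁻¹ * x * (c0 * a * c0⁻¹)⁻¹ * x⁻¹ := by rw [h3']
    rw [h4]; exact h2
  have hg1ne : ∀ c, g1 c ≠ 1 := by
    intro c hc
    apply hy1
    have : ((c.out : ↥C) : G) * y * ((c.out : ↥C) : G)⁻¹ = 1 := hc
    have h2 : y = ((c.out : ↥C) : G)⁻¹ * (((c.out : ↥C) : G) * y * ((c.out : ↥C) : G)⁻¹) *
        ((c.out : ↥C) : G) := by group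
    rw [h2, this]; group
  have hg1inj : Function.Injective g1 := by
    intro c c' hcc
    have h1 : ((c.out : ↥C) : G) * y * ((c.out : ↥C) : G)⁻¹ =
        ((c'.out : ↥C) : G) * y * ((c'.out : ↥C) : G)⁻¹ := hcc
    rw [← QuotientGroup.out_eq' c, ← QuotientGroup.out_eq' c', QuotientGroup.eq,
      Subgroup.mem_subgroupOf]
    have h2 : (((c.out : ↥C)⁻¹ * (c'.out : ↥C) : ↥C) : G) =
        ((c.out : ↥C) : G)⁻¹ * ((c'.out : ↥C) : G) := by simp
    rw [h2]
    refine ⟨C.mul_mem (C.inv_mem (c.out : ↥C).2) (c'.out : ↥C).2, ?_⟩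
    change _ ∈ Subgroup.centralizer ({y} : Set G)
    rw [Subgroup.mem_centralizer_singleton_iff]
    set u := ((c.out : ↥C) : G)
    set v := ((c'.out : ↥C) : G)
    calc u⁻¹ * v * y = u⁻¹ * (v * y * v⁻¹) * v := by group
      _ = u⁻¹ * (u * y * u⁻¹) * v := by rw [h1]
      _ = y * (u⁻¹ * v) := by group
  -- cardinalities
  have hlt : S.relIndex C < C.relIndex A := by
    have := Fintype.ofFinite (↥A ⧸ C.subgroupOf A)
    have := Fintype.ofFinite (↥C ⧸ S.subgroupOf C)
    rw [Subgroup.relIndex, Subgroup.relIndex, Subgroup.index_eq_card, Subgroup.index_eq_card,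
      Nat.card_eq_fintype_card, Nat.card_eq_fintype_card]
    have hss : Finset.univ.image g1 ⊂ Finset.univ.image g2 := by
      rw [Finset.ssubset_iff_of_subset]
      · refine ⟨1, ?_, ?_⟩
        · obtain ⟨q, hq⟩ := hone
          exact Finset.mem_image.mpr ⟨q, Finset.mem_univ _, hq⟩
        · intro h1
          obtain ⟨c, -, hc⟩ := Finset.mem_image.mp h1
          exact hg1ne c hc
      · intro z hz
        obtain ⟨c, -, rfl⟩ := Finset.mem_image.mp hz
        obtain ⟨q, hq⟩ := hg1mem c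
        exact Finset.mem_image.mpr ⟨q, Finset.mem_univ _, hq⟩
    calc Fintype.card (↥C ⧸ S.subgroupOf C) = (Finset.univ.image g1).card :=
          (Finset.card_image_of_injective _ hg1inj).symm
      _ < (Finset.univ.image g2).card := Finset.card_lt_card hss
      _ ≤ Fintype.card (↥A ⧸ C.subgroupOf A) := Finset.card_image_le
  -- index arithmetic
  set i1 := A.relIndex S with hi1
  set t := S.relIndex C with ht
  set b := C.relIndex A with hb
  set idx := (A ⊔ S).index with hidx
  have hSC : S ≤ C := inf_le_left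
  have E1 : A.index = i1 * idx := by
    rw [← Subgroup.relIndex_mul_index (le_sup_left : A ≤ A ⊔ S), Subgroup.relIndex_sup_left]
  have E2 : (A ⊓ C).index = b * A.index := by
    rw [← Subgroup.relIndex_mul_index (inf_le_left : A ⊓ C ≤ A), Subgroup.inf_relIndex_left]
  have E3 : (A ⊓ C).index = A.relIndex C * C.index := by
    rw [← Subgroup.relIndex_mul_index (inf_le_right : A ⊓ C ≤ C), Subgroup.inf_relIndex_right]
  have E4 : A.relIndex C = i1 * t := by
    have e1 : (A ⊓ S).relIndex S * S.relIndex C = (A ⊓ S).relIndex C :=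
      Subgroup.relIndex_mul_relIndex _ _ _ inf_le_right hSC
    have e2 : (A ⊓ S).relIndex S = A.relIndex S := Subgroup.inf_relIndex_right _ _
    have e3 : (A ⊓ C).relIndex C = A.relIndex C := Subgroup.inf_relIndex_right _ _
    rw [← e3, ← hAS, ← e1, e2]
  have hi10 : i1 ≠ 0 :=
    ne_zero_of_dvd_ne_zero Nat.card_pos.ne' (Subgroup.relIndex_dvd_card A S)
  have hidx0 : idx ≠ 0 := Subgroup.index_ne_zero_of_finite
  have hm0 : C.index ≠ 0 := Subgroup.index_ne_zero_of_finite
  have key : b * idx = t * C.index := by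
    have h1 : b * (i1 * idx) = i1 * t * C.index := by rw [← E1, ← E2, E3, E4]
    have h2 : i1 * (b * idx) = i1 * (t * C.index) := by
      calc i1 * (b * idx) = b * (i1 * idx) := by ring
        _ = i1 * t * C.index := h1
        _ = i1 * (t * C.index) := by ring
    exact Nat.eq_of_mul_eq_mul_left (Nat.pos_of_ne_zero hi10) h2
  have h5 : idx < C.index := by
    by_contra hcon
    push Not at hcon
    have h6 : t * C.index < b * C.index := Nat.mul_lt_mul_of_pos_right hlt (Nat.pos_of_ne_zero hm0)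
    have h7 : b * C.index ≤ b * idx := Nat.mul_le_mul_left b hcon
    omega
  have h8 : Cy.index ≤ idx :=
    Nat.le_of_dvd (Nat.pos_of_ne_zero hidx0) (Subgroup.index_dvd_of_le hsup)
  omega

/-- Elements of minimal non-trivial class size centralize an abelian normal subgroup modulo
the centre. -/
theorem commutator_mem_center [Finite G] (A : Subgroup G) [hAn : A.Normal]
    (hAc : ∀ a ∈ A, ∀ b ∈ A, a * b = b * a) (m : ℕ)
    (hmin : ∀ x : G, 1 < (Subgroup.centralizer ({x} : Set G)).index →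
      m ≤ (Subgroup.centralizer ({x} : Set G)).index)
    {x : G} (hx : (Subgroup.centralizer ({x} : Set G)).index = 1 ∨
      (Subgroup.centralizer ({x} : Set G)).index = m) {a : G} (ha : a ∈ A) :
    ⁅a, x⁆ ∈ Subgroup.center G := by
  rw [commutatorElement_def]
  rcases hx with hx | hx
  · rw [Subgroup.index_eq_one, Subgroup.centralizer_eq_top_iff_subset] at hx
    have hxZ : x ∈ Subgroup.center G := hx rfl
    have h1 : a * x = x * a := Subgroup.mem_center_iff.mp hxZ a
    have : a * x * a⁻¹ * x⁻¹ = 1 := by rw [h1]; group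
    rw [this]; exact Subgroup.one_mem _
  · by_contra hyZ
    have hy1 : a * x * a⁻¹ * x⁻¹ ≠ 1 := fun h1 => hyZ (h1 ▸ Subgroup.one_mem _)
    have hlt := index_centralizer_commutator_lt A hAc x a ha hy1
    have hne1 : (Subgroup.centralizer ({a * x * a⁻¹ * x⁻¹} : Set G)).index ≠ 1 := by
      intro h1
      rw [Subgroup.index_eq_one, Subgroup.centralizer_eq_top_iff_subset] at h1
      exact hyZ (h1 rfl)
    have hne0 : (Subgroup.centralizer ({a * x * a⁻¹ * x⁻¹} : Set G)).index ≠ 0 :=
      Subgroup.index_ne_zero_of_finite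
    have := hmin (a * x * a⁻¹ * x⁻¹) (by omega)
    omega

/-- **Isaacs**: if `A` is a self-centralizing abelian normal subgroup, the subgroup generated by
the elements of class size `1` or the minimal non-trivial size has class at most `3`. -/
theorem commutator_closure_eq_bot [Finite G] (A : Subgroup G) [hAn : A.Normal]
    (hAc : ∀ a ∈ A, ∀ b ∈ A, a * b = b * a)
    (hCA : Subgroup.centralizer (A : Set G) = A) (m : ℕ)
    (hmin : ∀ x : G, 1 < (Subgroup.centralizer ({x} : Set G)).index →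
      m ≤ (Subgroup.centralizer ({x} : Set G)).index)
    (M : Subgroup G)
    (hM : M = Subgroup.closure {x : G | (Subgroup.centralizer ({x} : Set G)).index = 1 ∨
      (Subgroup.centralizer ({x} : Set G)).index = m}) :
    ⁅⁅M, M⁆, M⁆ ≤ Subgroup.center G := by
  have hAM : ⁅A, M⁆ ≤ Subgroup.center G := by
    rw [Subgroup.commutator_le]
    intro a ha g hg
    rw [hM] at hg
    induction hg using Subgroup.closure_induction generalizing a with
    | mem x hx => exact commutator_mem_center A hAc m hmin hx ha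
    | one => rw [commutatorElement_one_right]; exact Subgroup.one_mem _
    | mul g h _ _ ihg ihh =>
      have h1 : ⁅a, g * h⁆ = ⁅a, g⁆ * (g * ⁅a, h⁆ * g⁻¹) := by
        simp only [commutatorElement_def]; group
      rw [h1]
      exact Subgroup.mul_mem _ (ihg a ha)
        ((inferInstance : (Subgroup.center G).Normal).conj_mem _ (ihh a ha) g)
    | inv g _ ihg =>
      have h1 : ⁅a, g⁻¹⁆ = g⁻¹ * ⁅a, g⁆⁻¹ * g⁻¹⁻¹ := by
        simp only [commutatorElement_def]; group
      rw [h1]
      exact (inferInstance : (Subgroup.center G).Normal).conj_mem _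
        (Subgroup.inv_mem _ (ihg a ha)) g⁻¹
  have h1 : ⁅⁅A, M⁆, M⁆ = ⊥ :=
    Subgroup.commutator_eq_bot_iff_le_centralizer.mpr
      (hAM.trans (Subgroup.center_le_centralizer _))
  have h2 : ⁅⁅M, A⁆, M⁆ = ⊥ := by rw [Subgroup.commutator_comm M A]; exact h1
  have h3 : ⁅⁅M, M⁆, A⁆ = ⊥ := Subgroup.commutator_commutator_eq_bot_of_rotate h2 h1
  have h4 : ⁅M, M⁆ ≤ A := by
    have := Subgroup.commutator_eq_bot_iff_le_centralizer.mp h3
    rwa [hCA] at this
  exact (Subgroup.commutator_mono h4 le_rfl).trans hAM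

/-- The upper central series form of `commutator_closure_eq_bot`. -/
theorem upperCentralSeries_three_eq_top (M : Subgroup G)
    (h : ⁅⁅M, M⁆, M⁆ ≤ Subgroup.center G) : Subgroup.upperCentralSeries ↥M 3 = ⊤ := by
  rw [eq_top_iff]
  intro u _
  rw [Subgroup.mem_upperCentralSeries_succ_iff]
  intro v
  rw [Subgroup.mem_upperCentralSeries_succ_iff]
  intro w
  rw [Subgroup.mem_upperCentralSeries_succ_iff]
  intro s
  rw [Subgroup.upperCentralSeries_zero, Subgroup.mem_bot]
  apply Subtype.ext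
  have h1 : ⁅⁅(u : G), (v : G)⁆, (w : G)⁆ ∈ Subgroup.center G :=
    h (Subgroup.commutator_mem_commutator (Subgroup.commutator_mem_commutator u.2 v.2) w.2)
  have h2 : ⁅⁅⁅(u : G), (v : G)⁆, (w : G)⁆, (s : G)⁆ = 1 := by
    rw [commutatorElement_eq_one_iff_commute]
    exact (Subgroup.mem_center_iff.mp h1 (s : G)).symm
  simpa [commutatorElement_def] using h2

end Cfsg.Agent.Lib.Helper21_SmallClass
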