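import Cfsg.Prelude.Def_Involutions
import Mathlib.GroupTheory.PGroup
import Mathlib.GroupTheory.GroupAction.Quotient
import Mathlib.GroupTheory.Perm.Cycle.Type

/-!
Basic facts on strongly embedded subgroups (`Cfsg.IsStronglyEmbedded`): every involution fixes exactly one
coset, involutions with different fixed cosets have a product of odd order and are conjugate by an
involution, `H ∩ H^u` is transitive on the involutions of `H`, all involutions are conjugate.
-/

set_option autoImplicit false
open Cfsg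

namespace Cfsg.Agent.Lib.Helper21_StronglyEmbedded

variable {G : Type*} [Group G]

/-- Membership in a conjugate subgroup. -/
theorem mem_map_conj_iff {H : Subgroup G} {g x : G} :
    x ∈ H.map (MulAut.conj g).toMonoidHom ↔ g⁻¹ * x * g ∈ H := by
  constructor
  · rintro ⟨y, hy, rfl⟩
    have : g⁻¹ * ((MulAut.conj g).toMonoidHom y) * g = y := by
      simp [MulAut.conj_apply, mul_assoc]
    rw [this]; exact hy
  · intro h
    refine ⟨g⁻¹ * x * g, h, ?_⟩
    simp [MulAut.conj_apply, mul_assoc]

/-- `g` fixes the coset `kH` iff `k⁻¹ g k ∈ H`. -/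
theorem smul_mk_eq_mk_iff {H : Subgroup G} {g k : G} :
    g • (QuotientGroup.mk k : G ⧸ H) = QuotientGroup.mk k ↔ k⁻¹ * g * k ∈ H := by
  rw [MulAction.Quotient.smul_mk, eq_comm, QuotientGroup.eq, smul_eq_mul, mul_assoc]

/-- `g` fixes the coset `kH` iff `g` lies in the conjugate `k H k⁻¹`. -/
theorem smul_mk_eq_mk_iff' {H : Subgroup G} {g k : G} :
    g • (QuotientGroup.mk k : G ⧸ H) = QuotientGroup.mk k ↔
      g ∈ H.map (MulAut.conj k).toMonoidHom := by
  rw [smul_mk_eq_mk_iff, mem_map_conj_iff]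

theorem smul_mk_one_eq_iff {H : Subgroup G} {g : G} :
    g • (QuotientGroup.mk 1 : G ⧸ H) = QuotientGroup.mk 1 ↔ g ∈ H := by
  rw [smul_mk_eq_mk_iff]; simp

/-- An element of order 2 lying in a finite subgroup forces even order. -/
theorem two_dvd_card_of_mem [Finite G] {K : Subgroup G} {t : G} (ht : orderOf t = 2) (htK : t ∈ K) :
    2 ∣ Nat.card ↥K := by
  have h := orderOf_dvd_natCard (⟨t, htK⟩ : ↥K)
  rwa [Subgroup.orderOf_mk, ht] at h

/-- In a strongly embedded subgroup, an involution of `H` fixes no coset other than `H`. -/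
theorem mem_of_smul_mk_eq [Finite G] {H : Subgroup G} (hH : IsStronglyEmbedded H) {t : G}
    (ht : orderOf t = 2) (htH : t ∈ H) {k : G}
    (hfix : t • (QuotientGroup.mk k : G ⧸ H) = QuotientGroup.mk k) : k ∈ H := by
  by_contra hk
  have hodd := hH.2.2 k hk
  have hmem : t ∈ H ⊓ H.map (MulAut.conj k).toMonoidHom :=
    ⟨htH, smul_mk_eq_mk_iff'.mp hfix⟩
  have := two_dvd_card_of_mem ht hmem
  exact (Nat.not_even_iff_odd.mpr hodd) (even_iff_two_dvd.mpr this)

/-- The fixed cosets of an involution of `H`. -/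
theorem smul_eq_iff_of_mem [Finite G] {H : Subgroup G} (hH : IsStronglyEmbedded H) {t : G}
    (ht : orderOf t = 2) (htH : t ∈ H) (x : G ⧸ H) :
    t • x = x ↔ x = QuotientGroup.mk 1 := by
  induction x using QuotientGroup.induction_on with
  | H k =>
    constructor
    · intro h
      have hk := mem_of_smul_mk_eq hH ht htH h
      rw [eq_comm, QuotientGroup.eq]; simpa using hk
    · intro h
      rw [h]; exact smul_mk_one_eq_iff.mpr htH

/-- A strongly embedded subgroup contains an involution. -/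
theorem exists_involution_mem [Finite G] {H : Subgroup G} (hH : IsStronglyEmbedded H) :
    ∃ t : G, orderOf t = 2 ∧ t ∈ H := by
  have h2 : 2 ∣ Nat.card ↥H := even_iff_two_dvd.mp hH.2.1
  have : Fact (Nat.Prime 2) := ⟨Nat.prime_two⟩
  obtain ⟨t, ht⟩ := exists_prime_orderOf_dvd_card' 2 h2
  exact ⟨t, by rw [← ht, Subgroup.orderOf_coe], t.2⟩

/-- Conjugates of elements of order two have order two. -/
theorem orderOf_conj_eq_two {t : G} (ht : orderOf t = 2) (g : G) : orderOf (g * t * g⁻¹) = 2 := by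
  rw [← ht]
  exact orderOf_injective (MulAut.conj g).toMonoidHom (MulAut.conj g).injective t

/-- The group generated by an involution is a 2-group. -/
theorem isPGroup_zpowers_of_orderOf_eq_two {t : G} (ht : orderOf t = 2) :
    IsPGroup 2 ↥(Subgroup.zpowers t) := by
  apply IsPGroup.of_card (n := 1)
  rw [Nat.card_zpowers, ht, pow_one]

/-- The number of cosets of a strongly embedded subgroup is odd. -/
theorem odd_card_quotient [Finite G] {H : Subgroup G} (hH : IsStronglyEmbedded H) :
    Odd (Nat.card (G ⧸ H)) := by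
  obtain ⟨s, hs, hsH⟩ := exists_involution_mem hH
  have : Fact (Nat.Prime 2) := ⟨Nat.prime_two⟩
  have hmod := (isPGroup_zpowers_of_orderOf_eq_two hs).card_modEq_card_fixedPoints (G ⧸ H)
  have hfix : MulAction.fixedPoints ↥(Subgroup.zpowers s) (G ⧸ H) = {QuotientGroup.mk 1} := by
    ext x
    rw [MulAction.mem_fixedPoints, Set.mem_singleton_iff]
    constructor
    · intro h
      have := h ⟨s, Subgroup.mem_zpowers s⟩
      exact (smul_eq_iff_of_mem hH hs hsH x).mp this
    · rintro rfl ⟨g, hg⟩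
      change g • (QuotientGroup.mk 1 : G ⧸ H) = QuotientGroup.mk 1
      rw [smul_mk_one_eq_iff]
      exact (Subgroup.zpowers_le.mpr hsH) hg
  rw [hfix] at hmod
  have h1 : Nat.card ↥({QuotientGroup.mk 1} : Set (G ⧸ H)) = 1 := by
    rw [Nat.card_eq_one_iff_unique]
    exact ⟨inferInstance, inferInstance⟩
  rw [h1] at hmod
  rw [Nat.odd_iff]
  exact hmod

/-- Every involution fixes some coset of a strongly embedded subgroup. -/
theorem exists_fixed [Finite G] {H : Subgroup G} (hH : IsStronglyEmbedded H) {t : G}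
    (ht : orderOf t = 2) : ∃ x : G ⧸ H, t • x = x := by
  have : Fact (Nat.Prime 2) := ⟨Nat.prime_two⟩
  have hmod := (isPGroup_zpowers_of_orderOf_eq_two ht).card_modEq_card_fixedPoints (G ⧸ H)
  have hodd := odd_card_quotient hH
  rw [Nat.odd_iff] at hodd
  have hne : Nat.card ↥(MulAction.fixedPoints ↥(Subgroup.zpowers t) (G ⧸ H)) ≠ 0 := by
    intro h0
    rw [h0] at hmod
    have : Nat.card (G ⧸ H) % 2 = 0 % 2 := hmod
    omega
  have hne' : Nonempty ↥(MulAction.fixedPoints ↥(Subgroup.zpowers t) (G ⧸ H)) := by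
    by_contra h
    rw [not_nonempty_iff] at h
    exact hne (Nat.card_of_isEmpty)
  obtain ⟨x, hx⟩ := hne'
  exact ⟨x, hx ⟨t, Subgroup.mem_zpowers t⟩⟩

/-- An involution fixes at most one coset of a strongly embedded subgroup. -/
theorem fixed_unique [Finite G] {H : Subgroup G} (hH : IsStronglyEmbedded H) {t : G}
    (ht : orderOf t = 2) {x y : G ⧸ H} (hx : t • x = x) (hy : t • y = y) : x = y := by
  induction x using QuotientGroup.induction_on with
  | H k =>
    induction y using QuotientGroup.induction_on with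
    | H k' =>
      have hk : k⁻¹ * t * k ∈ H := smul_mk_eq_mk_iff.mp hx
      have hord : orderOf (k⁻¹ * t * k) = 2 := by
        have := orderOf_conj_eq_two ht k⁻¹
        rwa [inv_inv] at this
      have h1 : (k⁻¹ * t * k) • (QuotientGroup.mk (k⁻¹ * k') : G ⧸ H)
          = QuotientGroup.mk (k⁻¹ * k') := by
        rw [MulAction.Quotient.smul_mk, smul_eq_mul]
        have : k⁻¹ * t * k * (k⁻¹ * k') = k⁻¹ * (t * k') := by group
        rw [this]
        have hy' : (QuotientGroup.mk (t * k') : G ⧸ H) = QuotientGroup.mk k' := by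
          rw [← smul_eq_mul, ← MulAction.Quotient.smul_mk]; exact hy
        rw [← smul_eq_mul k⁻¹ (t * k'), ← MulAction.Quotient.smul_mk, hy',
          MulAction.Quotient.smul_mk, smul_eq_mul]
      have h2 := (smul_eq_iff_of_mem hH hord hk _).mp h1
      rw [eq_comm, QuotientGroup.eq] at h2
      rw [QuotientGroup.eq]
      simpa using h2

/-- Every involution fixes exactly one coset of a strongly embedded subgroup. -/
theorem existsUnique_fixed [Finite G] {H : Subgroup G} (hH : IsStronglyEmbedded H) {t : G}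
    (ht : orderOf t = 2) : ∃! x : G ⧸ H, t • x = x := by
  obtain ⟨x, hx⟩ := exists_fixed hH ht
  exact ⟨x, hx, fun y hy => fixed_unique hH ht hy hx⟩

theorem sq_eq_one_of_orderOf_eq_two {t : G} (ht : orderOf t = 2) : t * t = 1 := by
  have := pow_orderOf_eq_one t
  rwa [ht, pow_two] at this

theorem inv_eq_self_of_orderOf_eq_two {t : G} (ht : orderOf t = 2) : t⁻¹ = t :=
  inv_eq_of_mul_eq_one_left (sq_eq_one_of_orderOf_eq_two ht)

/-- For involutions `s, t`, `s` inverts `s * t`. -/
theorem invol_conj_mul {s t : G} (hs : orderOf s = 2) (ht : orderOf t = 2) :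
    s * (s * t) * s = (s * t)⁻¹ := by
  rw [mul_inv_rev, inv_eq_self_of_orderOf_eq_two hs, inv_eq_self_of_orderOf_eq_two ht,
    ← mul_assoc, sq_eq_one_of_orderOf_eq_two hs, one_mul]

theorem invol_conj_mul_pow {s t : G} (hs : orderOf s = 2) (ht : orderOf t = 2) (n : ℕ) :
    s * (s * t) ^ n * s = ((s * t) ^ n)⁻¹ := by
  induction n with
  | zero => simpa using sq_eq_one_of_orderOf_eq_two hs
  | succ n ih =>
    have hss := sq_eq_one_of_orderOf_eq_two hs
    calc s * (s * t) ^ (n + 1) * s = (s * (s * t) ^ n * s) * (s * (s * t) * s) := by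
          rw [pow_succ]
          have : s * (s * t) ^ n * s * (s * (s * t) * s)
              = s * (s * t) ^ n * (s * s) * (s * t) * s := by group
          rw [this, hss]; group
      _ = ((s * t) ^ n)⁻¹ * (s * t)⁻¹ := by rw [ih, invol_conj_mul hs ht]
      _ = ((s * t) ^ (n + 1))⁻¹ := by
          rw [pow_succ', mul_inv_rev (s * t) ((s * t) ^ n)]

/-- If the product of two involutions has even order, a power of it is an involution commuting
with both. -/
theorem exists_central_involution_of_even {s t : G} (hs : orderOf s = 2) (ht : orderOf t = 2)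
    (heven : Even (orderOf (s * t))) (hpos : 0 < orderOf (s * t)) :
    ∃ z : G, orderOf z = 2 ∧ Commute z s ∧ Commute z t := by
  obtain ⟨k, hk⟩ := heven
  have hk' : orderOf (s * t) = 2 * k := by omega
  have hkpos : 0 < k := by omega
  set z := (s * t) ^ k with hz
  have hz2 : orderOf z = 2 := by
    rw [hz, orderOf_pow' (s * t) (by omega : k ≠ 0), hk', Nat.gcd_eq_right (Dvd.intro_left 2 rfl)]
    exact Nat.mul_div_cancel _ hkpos
  have hzinv : z⁻¹ = z := inv_eq_self_of_orderOf_eq_two hz2
  have hzs : s * z * s = z := by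
    rw [hz, invol_conj_mul_pow hs ht k, ← hz, hzinv]
  have hcs : Commute z s := by
    have hss := sq_eq_one_of_orderOf_eq_two hs
    change z * s = s * z
    calc z * s = (s * z * s) * s := by rw [hzs]
      _ = s * z * (s * s) := by group
      _ = s * z := by rw [hss, mul_one]
  refine ⟨z, hz2, hcs, ?_⟩
  -- `z` commutes with `s` and with `s * t`
  have hcst : Commute z (s * t) := (Commute.refl (s * t)).pow_left k
  have : t = s * (s * t) := by
    rw [← mul_assoc, sq_eq_one_of_orderOf_eq_two hs, one_mul]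
  rw [this]
  exact hcs.mul_right hcst

/-- In a finite group with a strongly embedded subgroup, involutions with different fixed
cosets have a product of odd order. -/
theorem odd_orderOf_mul [Finite G] {H : Subgroup G} (hH : IsStronglyEmbedded H) {s t : G}
    (hs : orderOf s = 2) (ht : orderOf t = 2) {x y : G ⧸ H} (hx : s • x = x) (hy : t • y = y)
    (hxy : x ≠ y) : Odd (orderOf (s * t)) := by
  by_contra hodd
  rw [Nat.not_odd_iff_even] at hodd
  obtain ⟨z, hz, hzs, hzt⟩ := exists_central_involution_of_even hs ht hodd (orderOf_pos _)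
  -- `z` fixes both `x` and `y`
  have hzx : z • x = x := by
    apply fixed_unique hH hs _ hx
    rw [← mul_smul, ← hzs.eq, mul_smul, hx]
  have hzy : z • y = y := by
    apply fixed_unique hH ht _ hy
    rw [← mul_smul, ← hzt.eq, mul_smul, hy]
  exact hxy (fixed_unique hH hz hzx hzy)

/-- If the product of two involutions `s, t` has odd order, some involution conjugates `s` to `t`. -/
theorem exists_involution_conj {s t : G} (hs : orderOf s = 2) (ht : orderOf t = 2)
    (hodd : Odd (orderOf (s * t))) : ∃ w : G, orderOf w = 2 ∧ w * s * w⁻¹ = t := by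
  obtain ⟨k, hk⟩ := hodd
  have hss := sq_eq_one_of_orderOf_eq_two hs
  set ρ := s * t with hρ
  have hρpow : ρ ^ (2 * k + 1) = 1 := by rw [← hk]; exact pow_orderOf_eq_one ρ
  set w := s * ρ ^ (k + 1) with hw
  -- `w * w = 1`
  have hsρs : s * ρ ^ (k + 1) * s = (ρ ^ (k + 1))⁻¹ := invol_conj_mul_pow hs ht (k + 1)
  have hww : w * w = 1 := by
    calc w * w = (s * ρ ^ (k + 1) * s) * ρ ^ (k + 1) := by rw [hw]; group
      _ = 1 := by rw [hsρs, inv_mul_cancel]
  have hwinv : w⁻¹ = w := inv_eq_of_mul_eq_one_left hww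
  have hconj : w * s * w⁻¹ = t := by
    rw [hwinv]
    calc w * s * w = s * ρ ^ (k + 1) * (s * s) * ρ ^ (k + 1) := by rw [hw]; group
      _ = s * (ρ ^ (k + 1) * ρ ^ (k + 1)) := by rw [hss]; group
      _ = s * ρ ^ (2 * k + 1 + 1) := by rw [← pow_add]; congr 2; ring
      _ = s * ρ := by rw [pow_succ, hρpow, one_mul]
      _ = t := by rw [hρ, ← mul_assoc, hss, one_mul]
  have hw1 : w ≠ 1 := by
    intro h1
    rw [h1] at hconj
    have hst : s = t := by simpa using hconj
    -- then `ρ = 1`, so `w = s`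
    have hρ1 : ρ = 1 := by rw [hρ, ← hst, hss]
    rw [hw, hρ1, one_pow, mul_one] at h1
    rw [h1, orderOf_one] at hs
    norm_num at hs
  refine ⟨w, ?_, hconj⟩
  exact orderOf_eq_prime (by rw [pow_two]; exact hww) hw1

/-- If `w s w⁻¹ = r` and `s` fixes `x` then `r` fixes `w • x`. -/
theorem smul_fixed_of_conj {α : Type*} [MulAction G α] {w s r : G} (h : w * s * w⁻¹ = r) {x : α}
    (hx : s • x = x) : r • (w • x) = w • x := by
  rw [← h, ← mul_smul, inv_mul_cancel_right, mul_smul, hx]

/-- A conjugate `k s k⁻¹` of an element of `H` fixes the coset `kH`. -/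
theorem conj_smul_mk {H : Subgroup G} {s : G} (hs : s ∈ H) (k : G) :
    (k * s * k⁻¹) • (QuotientGroup.mk k : G ⧸ H) = QuotientGroup.mk k := by
  rw [smul_mk_eq_mk_iff]
  have : k⁻¹ * (k * s * k⁻¹) * k = s := by group
  rw [this]; exact hs

theorem mk_one_ne_mk {H : Subgroup G} {u : G} (hu : u ∉ H) :
    (QuotientGroup.mk 1 : G ⧸ H) ≠ QuotientGroup.mk u := by
  intro h
  rw [QuotientGroup.eq] at h
  exact hu (by simpa using h)

/-- Involutions with different fixed cosets are conjugate by an involution. -/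
theorem exists_involution_conj_of_ne [Finite G] {H : Subgroup G} (hH : IsStronglyEmbedded H)
    {s t : G} (hs : orderOf s = 2) (ht : orderOf t = 2) {x y : G ⧸ H} (hx : s • x = x)
    (hy : t • y = y) (hxy : x ≠ y) :
    ∃ w : G, orderOf w = 2 ∧ w * s * w⁻¹ = t ∧ w • x = y ∧ w • y = x := by
  obtain ⟨w, hw, hconj⟩ := exists_involution_conj hs ht (odd_orderOf_mul hH hs ht hx hy hxy)
  have h1 : w • x = y := fixed_unique hH ht (smul_fixed_of_conj hconj hx) hy
  refine ⟨w, hw, hconj, h1, ?_⟩
  rw [← h1, ← mul_smul, sq_eq_one_of_orderOf_eq_two hw, one_smul]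

/-- S1225, first part. -/
theorem exists_mem_inf_conj [Finite G] {H : Subgroup G} (hH : IsStronglyEmbedded H) {u : G}
    (huH : u ∉ H) {s t : G} (hs : orderOf s = 2) (hsH : s ∈ H)
    (ht : orderOf t = 2) (htH : t ∈ H) :
    ∃ d ∈ (H ⊓ H.map (MulAut.conj u).toMonoidHom), d * s * d⁻¹ = t := by
  set a : G ⧸ H := QuotientGroup.mk 1 with ha
  set b : G ⧸ H := QuotientGroup.mk u with hb
  have hab : a ≠ b := mk_one_ne_mk huH
  have hsa : s • a = a := smul_mk_one_eq_iff.mpr hsH
  have hta : t • a = a := smul_mk_one_eq_iff.mpr htH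
  set r := u * s * u⁻¹ with hr
  have hr2 : orderOf r = 2 := orderOf_conj_eq_two hs u
  have hrb : r • b = b := conj_smul_mk hsH u
  obtain ⟨w₁, hw₁, hc₁, h₁a, h₁b⟩ := exists_involution_conj_of_ne hH hs hr2 hsa hrb hab
  obtain ⟨w₂, hw₂, hc₂, h₂a, h₂b⟩ := exists_involution_conj_of_ne hH ht hr2 hta hrb hab
  have hw₂inv : w₂⁻¹ = w₂ := inv_eq_self_of_orderOf_eq_two hw₂
  have hd1 : w₂⁻¹ * w₁ ∈ H := by
    rw [← smul_mk_one_eq_iff (H := H), mul_smul, ← ha, h₁a, hw₂inv, h₂b]
  have hd2 : w₂⁻¹ * w₁ ∈ H.map (MulAut.conj u).toMonoidHom := by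
    rw [← smul_mk_eq_mk_iff', mul_smul, ← hb, h₁b, hw₂inv, h₂a]
  refine ⟨w₂⁻¹ * w₁, ⟨hd1, hd2⟩, ?_⟩
  · calc w₂⁻¹ * w₁ * s * (w₂⁻¹ * w₁)⁻¹ = w₂⁻¹ * (w₁ * s * w₁⁻¹) * w₂ := by group
      _ = w₂⁻¹ * (w₂ * t * w₂⁻¹) * w₂ := by rw [hc₁, hc₂]
      _ = t := by group

/-- S1225, second part: all involutions are conjugate. -/
theorem isConj_of_involutions [Finite G] {H : Subgroup G} (hH : IsStronglyEmbedded H) {a b : G}
    (ha : orderOf a = 2) (hb : orderOf b = 2) : IsConj a b := by
  obtain ⟨x, hx⟩ := exists_fixed hH ha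
  obtain ⟨y, hy⟩ := exists_fixed hH hb
  by_cases hxy : x = y
  · -- find an involution with a different fixed coset
    subst hxy
    obtain ⟨s₀, hs₀, hs₀H⟩ := exists_involution_mem hH
    have hex : ∃ z : G ⧸ H, z ≠ x := by
      obtain ⟨g, hg⟩ : ∃ g : G, g ∉ H := by
        by_contra h
        exact hH.1 (Subgroup.eq_top_iff' H |>.mpr fun g => by_contra fun hg => h ⟨g, hg⟩)
      by_cases h1 : (QuotientGroup.mk 1 : G ⧸ H) = x
      · exact ⟨QuotientGroup.mk g, fun h => mk_one_ne_mk hg (h1.trans h.symm)⟩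
      · exact ⟨QuotientGroup.mk 1, h1⟩
    obtain ⟨z, hz⟩ := hex
    induction z using QuotientGroup.induction_on with
    | H k =>
      have hc2 : orderOf (k * s₀ * k⁻¹) = 2 := orderOf_conj_eq_two hs₀ k
      have hcfix := conj_smul_mk (H := H) hs₀H k
      obtain ⟨w₁, -, h₁, -, -⟩ := exists_involution_conj_of_ne hH ha hc2 hx hcfix hz.symm
      obtain ⟨w₂, -, h₂, -, -⟩ := exists_involution_conj_of_ne hH hc2 hb hcfix hy hz
      exact (isConj_iff.mpr ⟨w₁, h₁⟩).trans (isConj_iff.mpr ⟨w₂, h₂⟩)
  · obtain ⟨w, -, h, -, -⟩ := exists_involution_conj_of_ne hH ha hb hx hy hxy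
    exact isConj_iff.mpr ⟨w, h⟩

end Cfsg.Agent.Lib.Helper21_StronglyEmbedded
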