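import Cfsg.Agent.Lib.Helper37_SzCharDefs
import Cfsg.Agent.Lib.Helper3_CharColumn
import Cfsg.Agent.Lib.Helper75_IndChar
import Cfsg.Prelude.Def_DegreeGraph

/-!
# Package PK-L of S4775 (character degrees of the Suzuki groups; architect helper37)

Local generalized characters: multiples of the regular and of the trivial character, the
generalized characters of the Suzuki 2-group `Q` that are constant on `1`, `Zc ∖ 1`, `Q ∖ Zc`,
and the corresponding summation formula.
-/

set_option autoImplicit false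
set_option linter.unusedSectionVars false
set_option linter.unusedVariables false

namespace Cfsg.Agent.Lib.Helper65_SzChar_PKL

open scoped ComplexConjugate Classical
open Cfsg Cfsg.Agent.Helper37TI Cfsg.Agent.Helper37SzChar

open Cfsg.Agent.Lib.Helper75_Induced Cfsg.Agent.Lib.Helper15_Brauer
  Cfsg.Agent.Lib.Helper80_CharBasic

section Local
variable {K : Type*} [Group K] [Fintype K]

/-- integer multiples of generalized characters -/
theorem isGen_zmul {f : K → ℂ} (hf : IsGeneralizedCharacter K f) (z : ℤ) :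
    IsGeneralizedCharacter K (fun k => (z : ℂ) * f k) := by
  induction z using Int.induction_on with
  | zero =>
    have : (fun k => ((0 : ℤ) : ℂ) * f k) = (0 : K → ℂ) := by
      funext k
      simp
    rw [this]
    exact isGeneralizedCharacter_zero
  | succ n ih =>
    have : (fun k => (((n : ℤ) + 1 : ℤ) : ℂ) * f k) = (fun k => ((n : ℤ) : ℂ) * f k) + f := by
      funext k
      simp only [Pi.add_apply]
      push_cast
      ring
    rw [this]
    exact isGeneralizedCharacter_add ih hf
  | pred n ih =>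
    have : (fun k => ((-(n : ℤ) - 1 : ℤ) : ℂ) * f k) =
        (fun k => ((-(n : ℤ) : ℤ) : ℂ) * f k) + (-f) := by
      funext k
      simp only [Pi.add_apply, Pi.neg_apply]
      push_cast
      ring
    rw [this]
    exact isGeneralizedCharacter_add ih (isGeneralizedCharacter_neg hf)

theorem isGen_of_isCharacter {f : K → ℂ} (hf : IsCharacter K f) : IsGeneralizedCharacter K f :=
  ⟨f, 0, hf, Cfsg.Agent.Lib.Helper75_CharArith.isCharacter_zero, by simp⟩

theorem isCharacter_one : IsCharacter K (fun _ : K => (1 : ℂ)) :=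
  Cfsg.Agent.Lib.Helper3_CharBridge.isCharacter_of_isIrrCharacter (isIrrCharacter_one K)

/-- the regular character -/
theorem indFun_bot_apply (k : K) :
    indFun (⊥ : Subgroup K) (fun _ => (1 : ℂ)) k = if k = 1 then (Nat.card K : ℂ) else 0 := by
  rw [indFun_apply]
  have hcard : (Nat.card (⊥ : Subgroup K) : ℂ) = 1 := by
    rw [Subgroup.card_bot]
    simp
  rw [hcard, inv_one, one_mul]
  by_cases hk : k = 1
  · subst hk
    rw [if_pos rfl]
    have h1 : ∀ x : K, extendByZero (⊥ : Subgroup K) (fun _ => (1 : ℂ)) (x⁻¹ * 1 * x) = 1 := by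
      intro x
      have hx : x⁻¹ * 1 * x ∈ (⊥ : Subgroup K) := by simp
      rw [extendByZero_of_mem _ _ hx]
    rw [Finset.sum_congr rfl (fun x _ => h1 x), Finset.sum_const, Finset.card_univ, nsmul_eq_mul,
      mul_one, Nat.card_eq_fintype_card]
  · rw [if_neg hk]
    apply Finset.sum_eq_zero
    intro x _
    apply extendByZero_of_not_mem
    intro hx
    rw [Subgroup.mem_bot] at hx
    apply hk
    have : k = x * (x⁻¹ * k * x) * x⁻¹ := by group
    rw [this, hx]
    group

theorem isCharacter_regular :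
    IsCharacter K (fun k : K => if k = 1 then (Nat.card K : ℂ) else 0) := by
  have h1 : (fun k : K => if k = 1 then (Nat.card K : ℂ) else 0) =
      indFun (⊥ : Subgroup K) (fun _ => (1 : ℂ)) := by
    funext k
    rw [indFun_bot_apply]
  rw [h1]
  exact Cfsg.Agent.Lib.Helper75_IndChar.isCharacter_indFun _ isCharacter_one

theorem isGen_delta (z : ℤ) :
    IsGeneralizedCharacter K (fun k : K => if k = 1 then ((z * Nat.card K : ℤ) : ℂ) else 0) := by
  have h1 := isGen_zmul (isGen_of_isCharacter (isCharacter_regular (K := K))) z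
  have h2 : (fun k : K => if k = 1 then ((z * Nat.card K : ℤ) : ℂ) else 0) =
      fun k => (z : ℂ) * (if k = 1 then (Nat.card K : ℂ) else 0) := by
    funext k
    by_cases hk : k = 1
    · rw [if_pos hk, if_pos hk]
      push_cast
      ring
    · rw [if_neg hk, if_neg hk, mul_zero]
  rw [h2]
  exact h1

theorem isGen_const (z : ℤ) : IsGeneralizedCharacter K (fun _ : K => (z : ℂ)) := by
  have h1 := isGen_zmul (isGen_of_isCharacter (isCharacter_one (K := K))) z
  have h2 : (fun _ : K => (z : ℂ)) = fun _ => (z : ℂ) * 1 := by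
    funext k
    rw [mul_one]
  rw [h2]
  exact h1


variable {G : Type*} [Group G] [Fintype G] {m : ℕ}

theorem card_Zc_sub (D : SzData G m) : Nat.card (D.Zc.subgroupOf D.Q) = qq m := by
  rw [Nat.card_congr (Subgroup.subgroupOfEquivOfLe D.Zc_le).toEquiv, D.card_Zc]

theorem coe_eq_one_iff (D : SzData G m) (k : D.Q) : (k : G) = 1 ↔ k = 1 := by
  constructor
  · intro h
    exact Subtype.ext h
  · intro h
    rw [h]
    rfl

theorem conj_of_mem_Zc (D : SzData G m) (k x : D.Q) (hk : (k : G) ∈ D.Zc) : x⁻¹ * k * x = k := by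
  apply Subtype.ext
  have h1 := D.Zc_central k hk x x.2
  show (x : G)⁻¹ * (k : G) * (x : G) = (k : G)
  rw [mul_assoc, h1, ← mul_assoc, inv_mul_cancel, one_mul]

/-- the character of `Q` induced from the trivial character of `Zc` -/
theorem indFun_Zc (D : SzData G m) (k : D.Q) :
    indFun (D.Zc.subgroupOf D.Q) (fun _ => (1 : ℂ)) k =
      if (k : G) ∈ D.Zc then (qq m : ℂ) else 0 := by
  rw [indFun_apply, card_Zc_sub]
  have hq0 : (qq m : ℂ) ≠ 0 := by
    rw [Nat.cast_ne_zero]
    exact (qq_pos m).ne'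
  by_cases hk : (k : G) ∈ D.Zc
  · rw [if_pos hk]
    have h1 : ∀ x : D.Q, extendByZero (D.Zc.subgroupOf D.Q) (fun _ => (1 : ℂ)) (x⁻¹ * k * x) = 1 := by
      intro x
      rw [conj_of_mem_Zc D k x hk, extendByZero_of_mem _ _ (Subgroup.mem_subgroupOf.2 hk)]
    rw [Finset.sum_congr rfl (fun x _ => h1 x), Finset.sum_const, Finset.card_univ, nsmul_eq_mul,
      mul_one, ← Nat.card_eq_fintype_card, D.card_Q]
    push_cast
    field_simp
  · rw [if_neg hk]
    have h1 : ∀ x : D.Q, extendByZero (D.Zc.subgroupOf D.Q) (fun _ => (1 : ℂ)) (x⁻¹ * k * x) = 0 := by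
      intro x
      apply extendByZero_of_not_mem
      intro hx
      apply hk
      have hx' : ((x⁻¹ * k * x : D.Q) : G) ∈ D.Zc := Subgroup.mem_subgroupOf.1 hx
      have h2 := conj_of_mem_Zc D (x⁻¹ * k * x) x⁻¹ hx'
      have h3 : x⁻¹⁻¹ * (x⁻¹ * k * x) * x⁻¹ = k := by group
      rw [h3] at h2
      rw [h2]
      exact hx'
    rw [Finset.sum_congr rfl (fun x _ => h1 x), Finset.sum_const_zero, mul_zero]

theorem isGen_Q (D : SzData G m) (x y z w : ℤ) :
    IsGeneralizedCharacter D.Q (fun k : D.Q =>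
      if (k : G) = 1 then ((x + qq m * y + rr m * ((qq m : ℤ) - 1) * z + (qq m : ℤ) ^ 2 * w : ℤ) : ℂ)
      else if (k : G) ∈ D.Zc then ((x + qq m * y - rr m * z : ℤ) : ℂ) else (x : ℂ)) := by
  have g1 := isGen_zmul (isGen_of_isCharacter (isCharacter_one (K := D.Q))) x
  have g2 := isGen_zmul (isGen_of_isCharacter
    (Cfsg.Agent.Lib.Helper75_IndChar.isCharacter_indFun (D.Zc.subgroupOf D.Q)
      (isCharacter_one (K := D.Zc.subgroupOf D.Q)))) y
  have g3 := isGen_zmul D.tau z
  have g4 := isGen_zmul (isGen_of_isCharacter (isCharacter_regular (K := D.Q))) w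
  have g := isGeneralizedCharacter_add (isGeneralizedCharacter_add
    (isGeneralizedCharacter_add g1 g2) g3) g4
  have hq1 : 1 ≤ qq m := qq_pos m
  have heq : (fun k : D.Q =>
      if (k : G) = 1 then ((x + qq m * y + rr m * ((qq m : ℤ) - 1) * z + (qq m : ℤ) ^ 2 * w : ℤ) : ℂ)
      else if (k : G) ∈ D.Zc then ((x + qq m * y - rr m * z : ℤ) : ℂ) else (x : ℂ)) =
      (((fun k : D.Q => (x : ℂ) * 1) +
        fun k : D.Q => (y : ℂ) * indFun (D.Zc.subgroupOf D.Q) (fun _ => (1 : ℂ)) k) +
        fun k : D.Q => (z : ℂ) * (if (k : G) = 1 then ((rr m * (qq m - 1) : ℕ) : ℂ)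
          else if (k : G) ∈ D.Zc then -(rr m : ℂ) else 0)) +
        fun k : D.Q => (w : ℂ) * (if k = 1 then (Nat.card D.Q : ℂ) else 0) := by
    funext k
    simp only [Pi.add_apply]
    rw [indFun_Zc, D.card_Q]
    by_cases hk1 : (k : G) = 1
    · have hk1' : k = 1 := (coe_eq_one_iff D k).1 hk1
      have hkZ : (k : G) ∈ D.Zc := by
        rw [hk1]
        exact D.Zc.one_mem
      rw [if_pos hk1, if_pos hkZ, if_pos hk1, if_pos hk1', Nat.cast_mul, Nat.cast_sub hq1]
      push_cast
      ring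
    · have hk1' : ¬ k = 1 := fun hh => hk1 ((coe_eq_one_iff D k).2 hh)
      rw [if_neg hk1, if_neg hk1, if_neg hk1']
      by_cases hkZ : (k : G) ∈ D.Zc
      · rw [if_pos hkZ, if_pos hkZ, if_pos hkZ]
        push_cast
        ring
      · rw [if_neg hkZ, if_neg hkZ, if_neg hkZ]
        ring
  rw [heq]
  convert g

theorem sum_Q (D : SzData G m) (F : G → ℂ) (v₁ vZ v₀ : ℂ)
    (hF : ∀ k ∈ D.Q, F k = if k = 1 then v₁ else if k ∈ D.Zc then vZ else v₀) :
    ∑ k : D.Q, F k = v₁ + ((qq m : ℂ) - 1) * vZ + ((qq m : ℂ) ^ 2 - qq m) * v₀ := by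
  have hpt : ∀ k : D.Q, F k = v₀ + (if (k : G) ∈ D.Zc then vZ - v₀ else 0) +
      (if k = 1 then v₁ - vZ else 0) := by
    intro k
    rw [hF k k.2]
    by_cases hk1 : (k : G) = 1
    · have hk1' : k = 1 := (coe_eq_one_iff D k).1 hk1
      have hkZ : (k : G) ∈ D.Zc := by
        rw [hk1]
        exact D.Zc.one_mem
      rw [if_pos hk1, if_pos hkZ, if_pos hk1']
      ring
    · have hk1' : ¬ k = 1 := fun hh => hk1 ((coe_eq_one_iff D k).2 hh)
      rw [if_neg hk1, if_neg hk1']
      by_cases hkZ : (k : G) ∈ D.Zc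
      · rw [if_pos hkZ, if_pos hkZ]
        ring
      · rw [if_neg hkZ, if_neg hkZ]
        ring
  have hcZ : ((Finset.univ.filter (fun k : D.Q => (k : G) ∈ D.Zc)).card : ℂ) = (qq m : ℂ) := by
    have h1 : (Finset.univ.filter (fun k : D.Q => (k : G) ∈ D.Zc)).card =
        Nat.card (D.Zc.subgroupOf D.Q) := by
      rw [Nat.card_eq_fintype_card, Fintype.card_subtype]
      congr 1
    rw [h1, card_Zc_sub]
  rw [Finset.sum_congr rfl (fun k _ => hpt k), Finset.sum_add_distrib, Finset.sum_add_distrib,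
    Finset.sum_const, Finset.card_univ, nsmul_eq_mul, ← Nat.card_eq_fintype_card, D.card_Q,
    ← Finset.sum_filter, Finset.sum_const, nsmul_eq_mul, hcZ,
    Finset.sum_ite_eq' Finset.univ (1 : D.Q), if_pos (Finset.mem_univ _)]
  push_cast
  ring

end Local

end Cfsg.Agent.Lib.Helper65_SzChar_PKL
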