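import Cfsg.Agent.Lib.Helper37_SzCharDefs
import Cfsg.Agent.Lib.Helper3_CharColumn
import Cfsg.Agent.Lib.Helper65_SzChar_PKL

/-!
# S4775, packages PK-T2X / PK-T2Y / PK-T2Z: common lemmas (helper21)
-/

set_option autoImplicit false

namespace Cfsg.Agent.Lib.Helper21_SzChar_PKT2Common

open scoped ComplexConjugate Classical
open Cfsg Cfsg.Agent.Helper37TI Cfsg.Agent.Helper37SzChar
open Cfsg.Agent.Lib.Helper65_SzChar_PKL

variable {G : Type*} [Group G] [Fintype G] {m : ℕ}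

/-- `c` at the identity, `0` elsewhere -/
noncomputable def delta (c : ℂ) : G → ℂ := fun g => if g = 1 then c else 0

theorem delta_one (c : ℂ) : delta c (1 : G) = c := if_pos rfl

theorem delta_of_ne (c : ℂ) {g : G} (hg : g ≠ 1) : delta c g = 0 := if_neg hg

theorem conj_eq_one_iff (n k : G) : n * k * n⁻¹ = 1 ↔ k = 1 := by
  constructor
  · intro h
    have : k = n⁻¹ * (n * k * n⁻¹) * n := by group
    rw [this, h]
    group
  · rintro rfl
    group

theorem delta_conj (c : ℂ) (n k : G) : delta c (n * k * n⁻¹) = delta c k := by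
  unfold delta
  by_cases hk : k = 1
  · rw [if_pos hk, if_pos ((conj_eq_one_iff n k).mpr hk)]
  · rw [if_neg hk, if_neg (fun h => hk ((conj_eq_one_iff n k).mp h))]

theorem mask_delta_mul (c : ℂ) (k : G) : mask (delta c) k * conj (delta c k) = 0 := by
  by_cases hk : k = 1
  · rw [hk, mask_one, zero_mul]
  · rw [delta_of_ne c hk, map_zero, mul_zero]

theorem sum_mask_delta (c : ℂ) (K : Subgroup G) :
    ∑ k : K, mask (delta c) (k : G) * conj (delta c (k : G)) = 0 :=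
  Finset.sum_eq_zero (fun k _ => mask_delta_mul c (k : G))

theorem isGen_delta' (K : Subgroup G) (z : ℤ) (c : ℂ) (hc : c = ((z * Nat.card K : ℤ) : ℂ)) :
    IsGeneralizedCharacter K (fun k : K => delta c (k : G)) := by
  have h := isGen_delta (K := K) z
  have e : (fun k : K => delta c (k : G)) =
      (fun k : K => @ite ℂ (k = 1) (Classical.propDecidable _)
        ((z * Nat.card K : ℤ) : ℂ) 0) := by
    funext k
    unfold delta
    by_cases hk : k = 1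
    · have hk' : (k : G) = 1 := by rw [hk]; rfl
      rw [if_pos hk', if_pos hk, hc]
    · have hk' : (k : G) ≠ 1 := fun h => hk (Subtype.ext h)
      rw [if_neg hk', if_neg hk]
  rw [e]
  exact h

/-- the three-valued class function on `Q` -/
noncomputable def Qfun (D : SzData G m) (x1 xZ x0 : ℂ) : G → ℂ := fun g =>
  if g = 1 then x1 else if g ∈ D.Zc then xZ else x0

theorem Qfun_one (D : SzData G m) (x1 xZ x0 : ℂ) : Qfun D x1 xZ x0 1 = x1 := if_pos rfl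

theorem Qfun_conj (D : SzData G m) (x1 xZ x0 : ℂ) (n : G)
    (hn : n ∈ Subgroup.normalizer (D.Q : Set G)) (k : G) :
    Qfun D x1 xZ x0 (n * k * n⁻¹) = Qfun D x1 xZ x0 k := by
  unfold Qfun
  have h1 : n * k * n⁻¹ = 1 ↔ k = 1 := conj_eq_one_iff n k
  have h2 : n * k * n⁻¹ ∈ D.Zc ↔ k ∈ D.Zc := by
    constructor
    · intro h
      have hn' : n⁻¹ ∈ Subgroup.normalizer (D.Q : Set G) := inv_mem hn
      have := D.Zc_norm n⁻¹ hn' _ h
      have e : n⁻¹ * (n * k * n⁻¹) * n⁻¹⁻¹ = k := by group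
      rwa [e] at this
    · intro h
      exact D.Zc_norm n hn k h
  by_cases hk : k = 1
  · rw [if_pos hk, if_pos (h1.mpr hk)]
  · rw [if_neg hk, if_neg (fun h => hk (h1.mp h))]
    by_cases hz : k ∈ D.Zc
    · rw [if_pos hz, if_pos (h2.mpr hz)]
    · rw [if_neg hz, if_neg (fun h => hz (h2.mp h))]

theorem isGen_Qfun (D : SzData G m) (x y z w : ℤ) (x1 xZ x0 : ℂ)
    (h1 : x1 = ((x + qq m * y + rr m * ((qq m : ℤ) - 1) * z + (qq m : ℤ) ^ 2 * w : ℤ) : ℂ))
    (hZ : xZ = ((x + qq m * y - rr m * z : ℤ) : ℂ)) (h0 : x0 = (x : ℂ)) :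
    IsGeneralizedCharacter D.Q (fun k : D.Q => Qfun D x1 xZ x0 (k : G)) := by
  have h := isGen_Q D x y z w
  rw [h1, hZ, h0]
  exact h

theorem sum_mask_Qfun (D : SzData G m) (x1 xZ x0 : ℂ) :
    ∑ k : D.Q, mask (Qfun D x1 xZ x0) (k : G) * conj (Qfun D x1 xZ x0 (k : G)) =
      ((qq m : ℂ) - 1) * (xZ * conj xZ) + ((qq m : ℂ) ^ 2 - qq m) * (x0 * conj x0) := by
  have h := sum_Q D (fun g => mask (Qfun D x1 xZ x0) g * conj (Qfun D x1 xZ x0 g))
    0 (xZ * conj xZ) (x0 * conj x0) (by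
      intro k _
      by_cases hk : k = 1
      · rw [if_pos hk, hk, mask_one, zero_mul]
      · rw [if_neg hk, mask_of_ne _ hk]
        unfold Qfun
        rw [if_neg hk]
        by_cases hz : k ∈ D.Zc
        · rw [if_pos hz, if_pos hz]
        · rw [if_neg hz, if_neg hz])
  rw [h]
  ring

/-- the statement of package PK-F (`family`), specialised to the index type `SzIdx` -/
def FamilyStmt (G : Type*) [Group G] [Fintype G] : Prop :=
  ∀ (S : TISys G SzIdx) (i : SzIdx)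
    (_hcomm : ∀ a ∈ S.K i, ∀ b ∈ S.K i, a * b = b * a)
    (_hcent : ∀ k ∈ S.K i, k ≠ 1 → ∀ g : G, g * k = k * g → g ∈ S.K i)
    (e : ℕ) (_he : Nat.card (Subgroup.normalizer (S.K i : Set G)) = e * Nat.card (S.K i))
    (_hK : 1 < Nat.card (S.K i))
    (c : ℕ) (_hc : 0 < c) (ε : ℤ) (_hε : ε = 1 ∨ ε = -1)
    (_hdiv : (Nat.card (S.K i) : ℤ) ∣ (c : ℤ) - ε * e)
    (bg : SzIdx → G → ℂ)
    (_hbg_inv : ∀ j, j ≠ i → ∀ n ∈ Subgroup.normalizer (S.K j : Set G), ∀ k ∈ S.K j,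
      bg j (n * k * n⁻¹) = bg j k)
    (_hbg_one : ∀ j, j ≠ i → bg j 1 = (c : ℂ))
    (_hbg_gen : ∀ j, j ≠ i → IsGeneralizedCharacter (S.K j) (fun k : S.K j => bg j k))
    (_hnorm : (c : ℂ) ^ 2 / (Nat.card G : ℂ) +
      ∑ j, (if j = i then 0 else
        (Nat.card (Subgroup.normalizer (S.K j : Set G)) : ℂ)⁻¹ *
          ∑ k : S.K j, mask (bg j) k * conj (bg j k)) = (e : ℂ) / (Nat.card (S.K i) : ℂ)),
    ∃ 𝒴 : Finset (IrrCharacter G),
      (∀ χ ∈ 𝒴, (χ : G → ℂ) 1 = (c : ℂ) ∧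
        ∀ j, j ≠ i → ∀ k ∈ S.K j, k ≠ 1 → (χ : G → ℂ) k = bg j k) ∧
      𝒴.card * e + 1 = Nat.card (S.K i) ∧
      ∀ k ∈ S.K i, k ≠ 1 →
        (∑ χ ∈ 𝒴, (χ : G → ℂ) k * conj ((χ : G → ℂ) k) = (Nat.card (S.K i) : ℂ) - e) ∧
        (∑ χ ∈ 𝒴, (χ : G → ℂ) k = -(ε : ℂ))

end Cfsg.Agent.Lib.Helper21_SzChar_PKT2Common
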