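import Cfsg.Agent.Lib.Helper37_SzCharDefs
import Cfsg.Agent.Lib.Helper3_CharColumn
import Cfsg.Agent.Lib.Helper21_SzChar_PKT2Common

/-!
# S4775, package PK-T2X (helper21), core (PK-F as a hypothesis): the family of characters attached to `H`
-/

set_option autoImplicit false

namespace Cfsg.Agent.Lib.Helper21_SzChar_PKT2Xcore

open scoped ComplexConjugate Classical
open Cfsg Cfsg.Agent.Helper37TI Cfsg.Agent.Helper37SzChar
open Cfsg.Agent.Lib.Helper21_SzChar_PKT2Common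

variable {G : Type*} [Group G] [Fintype G] {m : ℕ}

/-- the background functions for the family of `H` -/
noncomputable def bgH (D : SzData G m) : SzIdx → G → ℂ
  | .Q => Qfun D ((qq m ^ 2 + 1 : ℕ) : ℂ) 1 1
  | .H => 0
  | .A1 => delta ((qq m ^ 2 + 1 : ℕ) : ℂ)
  | .A2 => delta ((qq m ^ 2 + 1 : ℕ) : ℂ)

theorem family_H_core (F : FamilyStmt G) (D : SzData G m) :
    ∃ 𝒳 : Finset (IrrCharacter G),
      (∀ χ ∈ 𝒳, (χ : G → ℂ) 1 = ((qq m ^ 2 + 1 : ℕ) : ℂ) ∧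
        ∀ a ∈ D.A₁, a ≠ 1 → (χ : G → ℂ) a = 0) ∧
      𝒳.card * 2 + 1 = qq m - 1 ∧
      ∀ h ∈ D.H, h ≠ 1 →
        ∑ χ ∈ 𝒳, (χ : G → ℂ) h * conj ((χ : G → ℂ) h) = (qq m : ℂ) - 3 := by
  have hq8 : 8 ≤ qq m := eight_le_qq D.hm
  have hrq : rr m ≤ qq m := rr_le_qq m
  have hr2 := rr_sq m
  have hqC : ((qq m - 1 : ℕ) : ℂ) = (qq m : ℂ) - 1 := by
    rw [Nat.cast_sub (by omega : 1 ≤ qq m)]; simp
  have hq1 : (qq m : ℂ) - 1 ≠ 0 := by
    rw [← hqC]
    exact_mod_cast (by omega : qq m - 1 ≠ 0)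
  have hq0 : (qq m : ℂ) ≠ 0 := by exact_mod_cast (by omega : qq m ≠ 0)
  have hq21 : (qq m : ℂ) ^ 2 + 1 ≠ 0 := by
    exact_mod_cast (by positivity : qq m ^ 2 + 1 ≠ 0)
  have he : Nat.card (Subgroup.normalizer ((D.toTISys.K SzIdx.H : Subgroup G) : Set G)) =
      2 * Nat.card (D.toTISys.K SzIdx.H) := by
    show Nat.card (Subgroup.normalizer ((D.H : Subgroup G) : Set G)) = 2 * Nat.card D.H
    rw [D.card_NH, D.card_H]
  have hK : 1 < Nat.card (D.toTISys.K SzIdx.H) := by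
    show 1 < Nat.card D.H
    rw [D.card_H]; omega
  have hdiv : (Nat.card (D.toTISys.K SzIdx.H) : ℤ) ∣ ((qq m ^ 2 + 1 : ℕ) : ℤ) - 1 * (2 : ℕ) := by
    show (Nat.card D.H : ℤ) ∣ _
    rw [D.card_H]
    refine ⟨(qq m : ℤ) + 1, ?_⟩
    push_cast [Nat.cast_sub (by omega : 1 ≤ qq m)]
    ring
  have hbg_inv : ∀ j, j ≠ SzIdx.H → ∀ n ∈ Subgroup.normalizer (D.toTISys.K j : Set G),
      ∀ k ∈ D.toTISys.K j, bgH D j (n * k * n⁻¹) = bgH D j k := by
    intro j hj n hn k _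
    cases j
    · exact Qfun_conj D _ _ _ n hn k
    · exact absurd rfl hj
    · exact delta_conj _ n k
    · exact delta_conj _ n k
  have hbg_one : ∀ j, j ≠ SzIdx.H → bgH D j 1 = ((qq m ^ 2 + 1 : ℕ) : ℂ) := by
    intro j hj
    cases j
    · exact Qfun_one D _ _ _
    · exact absurd rfl hj
    · exact delta_one _
    · exact delta_one _
  have hbg_gen : ∀ j, j ≠ SzIdx.H →
      IsGeneralizedCharacter (D.toTISys.K j) (fun k : D.toTISys.K j => bgH D j k) := by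
    intro j hj
    cases j
    · exact isGen_Qfun D 1 0 0 1 _ _ _ (by push_cast; ring) (by push_cast; ring)
        (by push_cast; ring)
    · exact absurd rfl hj
    · refine isGen_delta' D.A₁ ((qq m - rr m + 1 : ℕ) : ℤ) _ ?_
      rw [D.card_A₁, ← n1_mul_n2 m]
      push_cast
      ring
    · refine isGen_delta' D.A₂ ((qq m + rr m + 1 : ℕ) : ℤ) _ ?_
      rw [D.card_A₂, ← n1_mul_n2 m]
      push_cast
      ring
  have hnorm : (((qq m ^ 2 + 1 : ℕ) : ℂ)) ^ 2 / (Nat.card G : ℂ) +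
      ∑ j, (if j = SzIdx.H then 0 else
        (Nat.card (Subgroup.normalizer (D.toTISys.K j : Set G)) : ℂ)⁻¹ *
          ∑ k : D.toTISys.K j, mask (bgH D j) k * conj (bgH D j k)) =
      ((2 : ℕ) : ℂ) / (Nat.card (D.toTISys.K SzIdx.H) : ℂ) := by
    rw [SzIdx.sum_eq, if_neg (by decide), if_pos rfl, if_neg (by decide), if_neg (by decide)]
    have e1 : ∑ k : D.toTISys.K SzIdx.Q, mask (bgH D SzIdx.Q) k * conj (bgH D SzIdx.Q k) =
        ((qq m : ℂ) - 1) * (1 * conj 1) + ((qq m : ℂ) ^ 2 - qq m) * (1 * conj 1) :=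
      sum_mask_Qfun D _ 1 1
    have e2 : ∑ k : D.toTISys.K SzIdx.A1, mask (bgH D SzIdx.A1) k * conj (bgH D SzIdx.A1 k) = 0 :=
      sum_mask_delta _ D.A₁
    have e3 : ∑ k : D.toTISys.K SzIdx.A2, mask (bgH D SzIdx.A2) k * conj (bgH D SzIdx.A2 k) = 0 :=
      sum_mask_delta _ D.A₂
    rw [e1, e2, e3]
    have hNQ : (Nat.card (Subgroup.normalizer ((D.toTISys.K SzIdx.Q : Subgroup G) : Set G)) : ℂ) =
        (qq m : ℂ) ^ 2 * ((qq m : ℂ) - 1) := by
      show (Nat.card (Subgroup.normalizer ((D.Q : Subgroup G) : Set G)) : ℂ) = _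
      rw [D.card_NQ]
      push_cast
      rw [hqC]
    have hKH : (Nat.card (D.toTISys.K SzIdx.H) : ℂ) = (qq m : ℂ) - 1 := by
      show (Nat.card D.H : ℂ) = _
      rw [D.card_H, hqC]
    rw [hNQ, hKH, D.card_G]
    push_cast
    rw [hqC]
    simp only [map_one, mul_one, mul_zero, add_zero, zero_add]
    field_simp
    ring
  obtain ⟨𝒴, h1, h2, h3⟩ := F D.toTISys SzIdx.H D.comm_H D.cent_H 2 he hK (qq m ^ 2 + 1)
    (by positivity) 1 (Or.inl rfl) hdiv (bgH D) hbg_inv hbg_one hbg_gen hnorm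
  refine ⟨𝒴, ?_, ?_, ?_⟩
  · intro χ hχ
    obtain ⟨h4, h5⟩ := h1 χ hχ
    refine ⟨h4, ?_⟩
    intro a ha ha1
    rw [h5 SzIdx.A1 (by decide) a ha ha1]
    exact delta_of_ne _ ha1
  · have : Nat.card (D.toTISys.K SzIdx.H) = qq m - 1 := D.card_H
    rw [this] at h2
    exact h2
  · intro h hh hh1
    have h4 := (h3 h hh hh1).1
    rw [h4]
    have : (Nat.card (D.toTISys.K SzIdx.H) : ℂ) = (qq m : ℂ) - 1 := by
      show (Nat.card D.H : ℂ) = _
      rw [D.card_H, hqC]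
    rw [this]
    push_cast
    ring

end Cfsg.Agent.Lib.Helper21_SzChar_PKT2Xcore
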