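import Cfsg.Agent.Lib.Helper37_SzCharDefs
import Cfsg.Agent.Lib.Helper3_CharColumn
import Cfsg.Agent.Lib.Helper25_AbDual
import Cfsg.Agent.Lib.Helper79_Linear
import Cfsg.Agent.Lib.Helper3_CharOrtho
import Cfsg.Prelude.Def_DegreeGraph

/-!
# S4775, package PK-F (helper25): the family of exceptional characters attached to an abelian
self-centralising T.I. subgroup of a `TISys`
-/

set_option autoImplicit false
set_option linter.unusedSectionVars false

namespace Cfsg.Agent.Lib.Helper25_SzChar_PKF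

open scoped ComplexConjugate Classical
open Cfsg Cfsg.Agent.Helper37SzChar Cfsg.Agent.Helper37TI Cfsg.Agent.Lib.Helper25_AbDual
  Cfsg.Agent.Lib.Helper75_Induced

/-! ## Abelian groups: orthogonality and the Fourier criterion -/

section abelian

variable {W : Type*} [Group W] [Fintype W]

theorem hom_orth (α β : W →* ℂˣ) :
    ∑ k : W, ((α k : ℂˣ) : ℂ) * conj ((β k : ℂˣ) : ℂ) =
      if α = β then (Nat.card W : ℂ) else 0 := by
  have h1 : ∀ k : W, ((α k : ℂˣ) : ℂ) * conj ((β k : ℂˣ) : ℂ) =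
      ((Units.coeHom ℂ).comp (α / β)) k := by
    intro k
    rw [conj_hom, MonoidHom.comp_apply, MonoidHom.div_apply, Units.coeHom_apply, div_eq_mul_inv,
      Units.val_mul, map_inv]
  rw [Finset.sum_congr rfl fun k _ => h1 k]
  by_cases h : α = β
  · rw [if_pos h, h]
    have h4 : ∀ k : W, ((Units.coeHom ℂ).comp (β / β)) k = 1 := by
      intro k
      rw [MonoidHom.comp_apply, MonoidHom.div_apply, div_self', map_one]
    rw [Finset.sum_congr rfl fun k _ => h4 k]
    simp only [Finset.sum_const, Finset.card_univ, nsmul_eq_mul, mul_one]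
    rw [Nat.card_eq_fintype_card]
  · rw [if_neg h]
    apply sum_hom_units_eq_zero
    intro h0
    apply h
    ext k
    have h2 := DFunLike.congr_fun h0 k
    rw [MonoidHom.comp_apply, MonoidHom.div_apply, Units.coeHom_apply, MonoidHom.one_apply] at h2
    have h3 : α k / β k = 1 := Units.ext h2
    rw [div_eq_one] at h3
    rw [h3]

theorem isGen_of_fourier_int [Fintype (W →* ℂˣ)] (hW : ∀ a b : W, a * b = b * a) (θ : W → ℂ)
    (h : ∀ ω : W →* ℂˣ, ∃ a : ℤ, Cfsg.classInner θ (fun v => ((ω v : ℂˣ) : ℂ)) = a) :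
    IsGeneralizedCharacter W θ := by
  choose a ha using h
  have hchar : ∀ ω : W →* ℂˣ, IsCharacter W (fun v => ((ω v : ℂˣ) : ℂ)) := fun ω =>
    Cfsg.Agent.Lib.Helper79_Linear.isCharacter_of_irr
      (Cfsg.Agent.Lib.Helper79_Linear.isIrrCharacter_of_hom ω)
  refine ⟨∑ ω : W →* ℂˣ, (a ω).toNat • (fun v => ((ω v : ℂˣ) : ℂ)),
    ∑ ω : W →* ℂˣ, (-a ω).toNat • (fun v => ((ω v : ℂˣ) : ℂ)), ?_, ?_, ?_⟩
  · exact Cfsg.Agent.Lib.Helper75_CharArith.isCharacter_sum _ _ fun ω _ =>
      Cfsg.Agent.Lib.Helper75_CharArith.isCharacter_nsmul _ (hchar ω)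
  · exact Cfsg.Agent.Lib.Helper75_CharArith.isCharacter_sum _ _ fun ω _ =>
      Cfsg.Agent.Lib.Helper75_CharArith.isCharacter_nsmul _ (hchar ω)
  · funext w
    rw [fourier hW θ w, Pi.sub_apply, Finset.sum_apply, Finset.sum_apply, ← Finset.sum_sub_distrib]
    refine Finset.sum_congr rfl fun ω _ => ?_
    rw [ha ω, Pi.smul_apply, Pi.smul_apply, nsmul_eq_mul, nsmul_eq_mul, ← sub_mul]
    congr 1
    have h1 := Int.toNat_sub_toNat_neg (a ω)
    have h2 : ((a ω : ℤ) : ℂ) = (((a ω).toNat : ℤ) : ℂ) - (((-a ω).toNat : ℤ) : ℂ) := by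
      rw [← Int.cast_sub, h1]
    rw [h2]
    push_cast
    rfl

end abelian


/-! ## The normaliser acting on the characters of an abelian T.I. subgroup -/

section orbit

variable {G : Type*} [Group G] [Fintype G] (K : Subgroup G)

/-- the normaliser of `K` -/
abbrev Nz : Subgroup G := Subgroup.normalizer (K : Set G)

theorem smul_coe (n : Nz K) (k : K) : ((n • k : K) : G) = (n : G) * (k : G) * (n : G)⁻¹ := rfl

/-- the conjugate character `k ↦ lam (n k n⁻¹)` -/
noncomputable def tw (lam : K →* ℂˣ) (n : Nz K) : K →* ℂˣ :=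
  lam.comp (MulDistribMulAction.toMonoidHom K n)

theorem tw_apply (lam : K →* ℂˣ) (n : Nz K) (k : K) : tw K lam n k = lam (n • k) := rfl

theorem tw_mul (lam : K →* ℂˣ) (m n : Nz K) : tw K lam (m * n) = tw K (tw K lam m) n := by
  refine MonoidHom.ext fun k => ?_
  rw [tw_apply, tw_apply, tw_apply, mul_smul]

theorem tw_ne_one {lam : K →* ℂˣ} (hlam : lam ≠ 1) (n : Nz K) : tw K lam n ≠ 1 := by
  intro h
  apply hlam
  refine MonoidHom.ext fun k => ?_
  have h1 := DFunLike.congr_fun h (n⁻¹ • k)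
  rw [tw_apply, smul_inv_smul, MonoidHom.one_apply] at h1
  rw [h1, MonoidHom.one_apply]

theorem tw_inj {lam mu : K →* ℂˣ} (n : Nz K) (h : tw K lam n = tw K mu n) : lam = mu := by
  refine MonoidHom.ext fun k => ?_
  have h1 := DFunLike.congr_fun h (n⁻¹ • k)
  rw [tw_apply, tw_apply, smul_inv_smul] at h1
  rw [h1]

/-- the orbit sum of `lam` -/
noncomputable def orbK (lam : K →* ℂˣ) (k : K) : ℂ :=
  (Nat.card K : ℂ)⁻¹ * ∑ n : Nz K, ((lam (n • k) : ℂˣ) : ℂ)

theorem orbK_smul (lam : K →* ℂˣ) (m : Nz K) (k : K) : orbK K lam (m • k) = orbK K lam k := by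
  unfold orbK
  congr 1
  refine Fintype.sum_equiv (Equiv.mulRight m) _ _ fun n => ?_
  rw [Equiv.coe_mulRight, mul_smul]

theorem orbK_one (lam : K →* ℂˣ) :
    orbK K lam 1 = (Nat.card (Nz K) : ℂ) / (Nat.card K : ℂ) := by
  unfold orbK
  simp only [MulDistribMulAction.smul_one, map_one, Units.val_one, Finset.sum_const, Finset.card_univ, nsmul_eq_mul,
    mul_one]
  rw [Nat.card_eq_fintype_card (α := Nz K), div_eq_inv_mul]

theorem orbK_triv (k : K) :
    orbK K (1 : K →* ℂˣ) k = (Nat.card (Nz K) : ℂ) / (Nat.card K : ℂ) := by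
  unfold orbK
  simp only [MonoidHom.one_apply, Units.val_one, Finset.sum_const, Finset.card_univ, nsmul_eq_mul,
    mul_one]
  rw [Nat.card_eq_fintype_card (α := Nz K), div_eq_inv_mul]

theorem card_K_ne_zero : (Nat.card K : ℂ) ≠ 0 := by
  rw [Nat.cast_ne_zero]; exact Nat.card_pos.ne'

/-- counting the elements of the normaliser that lie in `K` -/
theorem count_K (P : Nz K → Prop) (hP : ∀ n : Nz K, P n ↔ (n : G) ∈ K) :
    ∑ n : Nz K, (if P n then (1 : ℂ) else 0) = (Nat.card K : ℂ) := by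
  rw [Finset.sum_boole, Nat.card_eq_fintype_card, ← Fintype.card_subtype]
  congr 1
  apply Fintype.card_congr
  exact
    { toFun := fun n => ⟨(n.1 : G), (hP n.1).1 n.2⟩
      invFun := fun k => ⟨⟨(k : G), Subgroup.le_normalizer k.2⟩, (hP _).2 k.2⟩
      left_inv := fun n => rfl
      right_inv := fun k => rfl }

variable (hcomm : ∀ a ∈ K, ∀ b ∈ K, a * b = b * a)
  (hcent : ∀ k ∈ K, k ≠ 1 → ∀ g : G, g * k = k * g → g ∈ K)

include hcomm in
theorem smul_of_mem (n : Nz K) (hn : (n : G) ∈ K) (k : K) : n • k = k := by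
  apply Subtype.ext
  rw [smul_coe, hcomm _ hn _ k.2, mul_inv_cancel_right]

include hcomm hcent in
/-- the stabiliser of a non-identity element of `K` in the normaliser is `K` -/
theorem stab_elt {k : K} (hk : k ≠ 1) (n : Nz K) : n • k = k ↔ (n : G) ∈ K := by
  constructor
  · intro h
    have h1 : (n : G) * (k : G) * (n : G)⁻¹ = (k : G) := by rw [← smul_coe, h]
    apply hcent (k : G) k.2 (fun h0 => hk (Subtype.ext h0))
    calc (n : G) * (k : G) = ((n : G) * (k : G) * (n : G)⁻¹) * (n : G) := by group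
      _ = (k : G) * (n : G) := by rw [h1]
  · intro hn
    exact smul_of_mem K hcomm n hn k

include hcomm hcent in
/-- the normaliser acts freely (modulo `K`) on the non-trivial characters of `K` -/
theorem stab_char {lam : K →* ℂˣ} (hlam : lam ≠ 1) (n : Nz K) :
    tw K lam n = lam ↔ (n : G) ∈ K := by
  constructor
  · intro h
    by_contra hn
    apply hlam
    let f : K → K := fun k => k⁻¹ * (n • k)
    have hinj : Function.Injective f := by
      intro k k' hkk
      by_contra hne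
      apply hn
      have hw : k * k'⁻¹ ≠ 1 := fun h0 => hne (mul_inv_eq_one.1 h0)
      have h1 : ((k⁻¹ * (n • k) : K) : G) = ((k'⁻¹ * (n • k') : K) : G) := congrArg _ hkk
      rw [Subgroup.coe_mul, Subgroup.coe_mul, smul_coe, smul_coe, Subgroup.coe_inv,
        Subgroup.coe_inv] at h1
      apply hcent ((k * k'⁻¹ : K) : G) (k * k'⁻¹).2 (fun h0 => hw (Subtype.ext h0))
      rw [Subgroup.coe_mul, Subgroup.coe_inv]
      have h2 : (n : G) * (k : G) = (k : G) * (k' : G)⁻¹ * (n : G) * (k' : G) := by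
        have h3 : (k : G) * ((k : G)⁻¹ * ((n : G) * (k : G) * (n : G)⁻¹)) * (n : G) =
            (k : G) * ((k' : G)⁻¹ * ((n : G) * (k' : G) * (n : G)⁻¹)) * (n : G) := by rw [h1]
        calc (n : G) * (k : G) = (k : G) * ((k : G)⁻¹ * ((n : G) * (k : G) * (n : G)⁻¹)) * (n : G) := by
              group
          _ = (k : G) * ((k' : G)⁻¹ * ((n : G) * (k' : G) * (n : G)⁻¹)) * (n : G) := h3
          _ = _ := by group
      calc (n : G) * ((k : G) * (k' : G)⁻¹) = (n : G) * (k : G) * (k' : G)⁻¹ := by group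
        _ = (k : G) * (k' : G)⁻¹ * (n : G) * (k' : G) * (k' : G)⁻¹ := by rw [h2]
        _ = _ := by group
    have hsurj : Function.Surjective f := Finite.injective_iff_surjective.1 hinj
    refine MonoidHom.ext fun k => ?_
    obtain ⟨k0, rfl⟩ := hsurj k
    have h1 := DFunLike.congr_fun h k0
    rw [tw_apply] at h1
    show lam (k0⁻¹ * (n • k0)) = (1 : K →* ℂˣ) (k0⁻¹ * (n • k0))
    rw [map_mul, map_inv, h1, inv_mul_cancel, MonoidHom.one_apply]
  · intro hn
    refine MonoidHom.ext fun k => ?_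
    rw [tw_apply, smul_of_mem K hcomm n hn k]

include hcomm hcent in
/-- the number of `n` with `lam ^ n = ω` is `0` or `|K|` -/
theorem count_tw {lam : K →* ℂˣ} (hlam : lam ≠ 1) (ω : K →* ℂˣ) :
    ∑ n : Nz K, (if tw K lam n = ω then (1 : ℂ) else 0) = 0 ∨
      ∑ n : Nz K, (if tw K lam n = ω then (1 : ℂ) else 0) = (Nat.card K : ℂ) := by
  by_cases hex : ∃ n₀ : Nz K, tw K lam n₀ = ω
  · right
    obtain ⟨n₀, rfl⟩ := hex
    rw [← count_K K (fun m => tw K lam m = lam) (stab_char K hcomm hcent hlam)]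
    refine (Fintype.sum_equiv (Equiv.mulRight n₀) _ _ fun m => ?_).symm
    rw [Equiv.coe_mulRight, tw_mul]
    by_cases h : tw K lam m = lam
    · rw [if_pos h, if_pos (by rw [h])]
    · rw [if_neg h, if_neg (fun h' => h (tw_inj K n₀ h'))]
  · left
    apply Finset.sum_eq_zero
    intro n _
    rw [if_neg (fun h => hex ⟨n, h⟩)]

/-- the inner product of two orbit sums -/
theorem sum_orbK_mul [Fintype (K →* ℂˣ)] (lam mu : K →* ℂˣ) :
    ∑ k : K, orbK K lam k * conj (orbK K mu k) =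
      ((Nat.card (Nz K) : ℂ) / (Nat.card K : ℂ)) *
        ∑ n : Nz K, (if tw K mu n = lam then (1 : ℂ) else 0) := by
  have hK0 := card_K_ne_zero K
  -- step 1: replace the first factor by `lam`
  have h1 : ∑ k : K, orbK K lam k * conj (orbK K mu k) =
      ((Nat.card (Nz K) : ℂ) / (Nat.card K : ℂ)) *
        ∑ k : K, ((lam k : ℂˣ) : ℂ) * conj (orbK K mu k) := by
    have h2 : ∀ n : Nz K, ∑ k : K, ((lam (n • k) : ℂˣ) : ℂ) * conj (orbK K mu k) =
        ∑ k : K, ((lam k : ℂˣ) : ℂ) * conj (orbK K mu k) := by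
      intro n
      refine Fintype.sum_equiv (MulAction.toPerm n) _ _ fun k => ?_
      rw [MulAction.toPerm_apply, orbK_smul]
    calc ∑ k : K, orbK K lam k * conj (orbK K mu k)
        = (Nat.card K : ℂ)⁻¹ * ∑ n : Nz K, ∑ k : K,
            ((lam (n • k) : ℂˣ) : ℂ) * conj (orbK K mu k) := by
          rw [Finset.sum_comm, Finset.mul_sum]
          refine Finset.sum_congr rfl fun k _ => ?_
          unfold orbK
          rw [mul_assoc, Finset.sum_mul]
      _ = (Nat.card K : ℂ)⁻¹ * ∑ n : Nz K, ∑ k : K,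
            ((lam k : ℂˣ) : ℂ) * conj (orbK K mu k) := by
          rw [Finset.sum_congr rfl fun n _ => h2 n]
      _ = _ := by
          rw [Finset.sum_const, Finset.card_univ, nsmul_eq_mul,
            ← Nat.card_eq_fintype_card (α := Nz K)]
          field_simp
  rw [h1]
  congr 1
  -- step 2: expand the second factor
  calc ∑ k : K, ((lam k : ℂˣ) : ℂ) * conj (orbK K mu k)
      = (Nat.card K : ℂ)⁻¹ * ∑ n : Nz K, ∑ k : K,
          ((lam k : ℂˣ) : ℂ) * conj ((tw K mu n k : ℂˣ) : ℂ) := by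
        rw [Finset.sum_comm, Finset.mul_sum]
        refine Finset.sum_congr rfl fun k _ => ?_
        unfold orbK
        rw [map_mul, map_inv₀, Complex.conj_natCast, map_sum, Finset.mul_sum, Finset.mul_sum,
          Finset.mul_sum]
        refine Finset.sum_congr rfl fun n _ => ?_
        rw [tw_apply]
        ring
    _ = (Nat.card K : ℂ)⁻¹ * ∑ n : Nz K,
          (if lam = tw K mu n then (Nat.card K : ℂ) else 0) := by
        rw [Finset.sum_congr rfl fun n _ => hom_orth lam (tw K mu n)]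
    _ = _ := by
        rw [Finset.mul_sum]
        refine Finset.sum_congr rfl fun n _ => ?_
        by_cases h : lam = tw K mu n
        · rw [if_pos h, if_pos h.symm]
          field_simp
        · rw [if_neg h, if_neg (fun h' => h h'.symm), mul_zero]

include hcomm in
/-- the sum of all orbit sums at a non-identity element vanishes -/
theorem sum_orbK_all [Fintype (K →* ℂˣ)] {k : K} (hk : k ≠ 1) :
    ∑ mu : K →* ℂˣ, orbK K mu k = 0 := by
  have hKc : ∀ a b : K, a * b = b * a := fun a b => Subtype.ext (hcomm a a.2 b b.2)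
  unfold orbK
  rw [← Finset.mul_sum, Finset.sum_comm]
  have h1 : ∀ n : Nz K, ∑ mu : K →* ℂˣ, ((mu (n • k) : ℂˣ) : ℂ) = 0 := by
    intro n
    rw [sum_hom_apply hKc, if_neg]
    intro h0
    apply hk
    have := congrArg (fun x => n⁻¹ • x) h0
    simpa using this
  rw [Finset.sum_congr rfl fun n _ => h1 n, Finset.sum_const_zero, mul_zero]

include hcomm hcent in
/-- the sum of the squared absolute values of all orbit sums at a non-identity element -/
theorem sum_orbK_sq_all [Fintype (K →* ℂˣ)] {k : K} (hk : k ≠ 1) :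
    ∑ mu : K →* ℂˣ, orbK K mu k * conj (orbK K mu k) = (Nat.card (Nz K) : ℂ) := by
  have hKc : ∀ a b : K, a * b = b * a := fun a b => Subtype.ext (hcomm a a.2 b b.2)
  have hK0 := card_K_ne_zero K
  have h1 : ∀ mu : K →* ℂˣ, orbK K mu k * conj (orbK K mu k) =
      (Nat.card K : ℂ)⁻¹ * (Nat.card K : ℂ)⁻¹ * ∑ n : Nz K, ∑ n' : Nz K,
        ((mu ((n • k) * (n' • k)⁻¹) : ℂˣ) : ℂ) := by
    intro mu
    unfold orbK
    rw [map_mul, map_inv₀, Complex.conj_natCast, map_sum]
    rw [mul_mul_mul_comm, Finset.sum_mul_sum]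
    congr 1
    refine Finset.sum_congr rfl fun n _ => Finset.sum_congr rfl fun n' _ => ?_
    rw [conj_hom, map_mul, Units.val_mul]
  rw [Finset.sum_congr rfl fun mu _ => h1 mu, ← Finset.mul_sum, Finset.sum_comm]
  have h2 : ∀ n : Nz K, ∑ mu : K →* ℂˣ, ∑ n' : Nz K, ((mu ((n • k) * (n' • k)⁻¹) : ℂˣ) : ℂ) =
      (Nat.card K : ℂ) * (Nat.card K : ℂ) := by
    intro n
    rw [Finset.sum_comm]
    have h3 : ∀ n' : Nz K, ∑ mu : K →* ℂˣ, ((mu ((n • k) * (n' • k)⁻¹) : ℂˣ) : ℂ) =
        (Nat.card K : ℂ) * (if n • k = n' • k then (1 : ℂ) else 0) := by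
      intro n'
      rw [sum_hom_apply hKc]
      by_cases h : n • k = n' • k
      · rw [if_pos h, if_pos (by rw [h, mul_inv_cancel]), mul_one]
      · rw [if_neg h, if_neg (fun h' => h (mul_inv_eq_one.1 h')), mul_zero]
    rw [Finset.sum_congr rfl fun n' _ => h3 n', ← Finset.mul_sum]
    congr 1
    rw [← count_K K (fun m => m • k = k) (stab_elt K hcomm hcent hk)]
    refine (Fintype.sum_equiv (Equiv.mulLeft n) _ _ fun m => ?_).symm
    rw [Equiv.coe_mulLeft, mul_smul]
    by_cases h : m • k = k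
    · rw [if_pos h, if_pos (by rw [h])]
    · rw [if_neg h, if_neg]
      intro h'
      apply h
      have := congrArg (fun x => n⁻¹ • x) h'
      simpa using this.symm
  rw [Finset.sum_congr rfl fun n _ => h2 n, Finset.sum_const, Finset.card_univ, nsmul_eq_mul,
    ← Nat.card_eq_fintype_card (α := Nz K)]
  field_simp

/-- pairing an orbit sum with a linear character -/
theorem sum_orbK_hom (lam ω : K →* ℂˣ) :
    ∑ k : K, orbK K lam k * conj ((ω k : ℂˣ) : ℂ) =
      ∑ n : Nz K, (if tw K lam n = ω then (1 : ℂ) else 0) := by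
  have hK0 := card_K_ne_zero K
  calc ∑ k : K, orbK K lam k * conj ((ω k : ℂˣ) : ℂ)
      = (Nat.card K : ℂ)⁻¹ * ∑ n : Nz K, ∑ k : K,
          ((tw K lam n k : ℂˣ) : ℂ) * conj ((ω k : ℂˣ) : ℂ) := by
        rw [Finset.sum_comm, Finset.mul_sum]
        refine Finset.sum_congr rfl fun k _ => ?_
        unfold orbK
        rw [mul_assoc, Finset.sum_mul]
        rfl
    _ = (Nat.card K : ℂ)⁻¹ * ∑ n : Nz K,
          (if tw K lam n = ω then (Nat.card K : ℂ) else 0) := by
        rw [Finset.sum_congr rfl fun n _ => hom_orth (tw K lam n) ω]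
    _ = _ := by
        rw [Finset.mul_sum]
        refine Finset.sum_congr rfl fun n _ => ?_
        by_cases h : tw K lam n = ω
        · rw [if_pos h, if_pos h]
          field_simp
        · rw [if_neg h, if_neg h, mul_zero]

/-- the local function on the distinguished subgroup: `c` at `1`, `ε` times the orbit sum elsewhere -/
noncomputable def theta (c : ℕ) (ε : ℤ) (lam : K →* ℂˣ) : G → ℂ := fun g =>
  if g = 1 then (c : ℂ) else (ε : ℂ) * Cfsg.extendByZero K (orbK K lam) g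

theorem theta_coe (c : ℕ) (ε : ℤ) (lam : K →* ℂˣ) (k : K) :
    theta K c ε lam (k : G) = if k = 1 then (c : ℂ) else (ε : ℂ) * orbK K lam k := by
  unfold theta
  by_cases hk : k = 1
  · rw [if_pos hk, if_pos (by rw [hk]; rfl)]
  · have hk' : ¬ ((k : G) = 1) := fun h => hk (Subtype.ext h)
    rw [if_neg hk, if_neg hk', extendByZero_of_mem K _ k.2]

theorem theta_one (c : ℕ) (ε : ℤ) (lam : K →* ℂˣ) : theta K c ε lam 1 = (c : ℂ) := if_pos rfl

theorem theta_inv (c : ℕ) (ε : ℤ) (lam : K →* ℂˣ) (n : G) (hn : n ∈ Nz K) (k : G) (hk : k ∈ K) :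
    theta K c ε lam (n * k * n⁻¹) = theta K c ε lam k := by
  have h1 : n * k * n⁻¹ = (((⟨n, hn⟩ : Nz K) • (⟨k, hk⟩ : K) : K) : G) := rfl
  have h2 : k = ((⟨k, hk⟩ : K) : G) := rfl
  rw [h1, theta_coe]
  conv_rhs => rw [h2, theta_coe]
  rw [orbK_smul]
  by_cases h : (⟨k, hk⟩ : K) = 1
  · rw [if_pos h, if_pos (by rw [h, MulDistribMulAction.smul_one])]
  · rw [if_neg h, if_neg]
    intro h'
    apply h
    have := congrArg (fun x => (⟨n, hn⟩ : Nz K)⁻¹ • x) h'
    simpa using this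

include hcomm hcent in
/-- the Fourier coefficients of the local function are integers -/
theorem theta_fourier {e c : ℕ} {ε z : ℤ}
    (hN : (Nat.card (Nz K) : ℂ) = (e : ℂ) * (Nat.card K : ℂ))
    (hz : (c : ℤ) - ε * e = (Nat.card K : ℤ) * z) {lam : K →* ℂˣ} (hlam : lam ≠ 1)
    (ω : K →* ℂˣ) :
    ∃ a : ℤ, Cfsg.classInner (fun k : K => theta K c ε lam (k : G))
      (fun v => ((ω v : ℂˣ) : ℂ)) = a := by
  have hK0 := card_K_ne_zero K
  have hc : (c : ℂ) = (ε : ℂ) * (e : ℂ) + (Nat.card K : ℂ) * (z : ℂ) := by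
    have : ((c : ℤ) : ℂ) - (ε : ℂ) * ((e : ℤ) : ℂ) = ((Nat.card K : ℤ) : ℂ) * (z : ℂ) := by
      exact_mod_cast congrArg (fun t : ℤ => (t : ℂ)) hz
    push_cast at this
    linear_combination this
  have hone : orbK K lam 1 = (e : ℂ) := by
    rw [orbK_one, hN]
    field_simp
  have h1 : ∀ k : K, theta K c ε lam (k : G) * conj ((ω k : ℂˣ) : ℂ) =
      (ε : ℂ) * (orbK K lam k * conj ((ω k : ℂˣ) : ℂ)) +
        (if k = 1 then (Nat.card K : ℂ) * (z : ℂ) else 0) := by
    intro k
    rw [theta_coe]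
    by_cases hk : k = 1
    · rw [if_pos hk, if_pos hk, hk, hone, map_one, Units.val_one, map_one, hc]
      ring
    · rw [if_neg hk, if_neg hk]
      ring
  have hsum : ∑ k : K, theta K c ε lam (k : G) * conj ((ω k : ℂˣ) : ℂ) =
      (ε : ℂ) * (∑ n : Nz K, (if tw K lam n = ω then (1 : ℂ) else 0)) +
        (Nat.card K : ℂ) * (z : ℂ) := by
    rw [Finset.sum_congr rfl fun k _ => h1 k, Finset.sum_add_distrib, ← Finset.mul_sum,
      sum_orbK_hom, Finset.sum_ite_eq' Finset.univ (1 : K), if_pos (Finset.mem_univ _)]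
  unfold Cfsg.classInner
  rw [hsum]
  rcases count_tw K hcomm hcent hlam ω with h0 | h0
  · refine ⟨z, ?_⟩
    rw [h0, mul_zero, zero_add, ← mul_assoc, inv_mul_cancel₀ hK0, one_mul]
  · refine ⟨ε + z, ?_⟩
    rw [h0]
    push_cast
    field_simp

end orbit


/-! ## The family -/

section main

variable {G : Type*} [Group G] [Fintype G] {ι : Type*} [Fintype ι] [DecidableEq ι]

/-- the local data: the orbit function on `K i`, the background elsewhere -/
noncomputable def psi (S : TISys G ι) (i : ι) (c : ℕ) (ε : ℤ) (bg : ι → G → ℂ)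
    (lam : S.K i →* ℂˣ) : ι → G → ℂ :=
  fun j => if j = i then theta (S.K i) c ε lam else bg j

theorem psi_self (S : TISys G ι) (i : ι) (c : ℕ) (ε : ℤ) (bg : ι → G → ℂ)
    (lam : S.K i →* ℂˣ) : psi S i c ε bg lam i = theta (S.K i) c ε lam := if_pos rfl

theorem psi_ne (S : TISys G ι) (i : ι) (c : ℕ) (ε : ℤ) (bg : ι → G → ℂ)
    (lam : S.K i →* ℂˣ) {j : ι} (hj : j ≠ i) : psi S i c ε bg lam j = bg j := if_neg hj

theorem family {G : Type*} [Group G] [Fintype G] {ι : Type*} [Fintype ι] [DecidableEq ι]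
    (S : TISys G ι) (i : ι)
    (hcomm : ∀ a ∈ S.K i, ∀ b ∈ S.K i, a * b = b * a)
    (hcent : ∀ k ∈ S.K i, k ≠ 1 → ∀ g : G, g * k = k * g → g ∈ S.K i)
    (e : ℕ) (he : Nat.card (Subgroup.normalizer (S.K i : Set G)) = e * Nat.card (S.K i))
    (hK : 1 < Nat.card (S.K i))
    (c : ℕ) (hc : 0 < c) (ε : ℤ) (hε : ε = 1 ∨ ε = -1)
    (hdiv : (Nat.card (S.K i) : ℤ) ∣ (c : ℤ) - ε * e)
    (bg : ι → G → ℂ)
    (hbg_inv : ∀ j, j ≠ i → ∀ n ∈ Subgroup.normalizer (S.K j : Set G), ∀ k ∈ S.K j,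
      bg j (n * k * n⁻¹) = bg j k)
    (hbg_one : ∀ j, j ≠ i → bg j 1 = (c : ℂ))
    (hbg_gen : ∀ j, j ≠ i → IsGeneralizedCharacter (S.K j) (fun k : S.K j => bg j k))
    (hnorm : (c : ℂ) ^ 2 / (Nat.card G : ℂ) +
      ∑ j, (if j = i then 0 else
        (Nat.card (Subgroup.normalizer (S.K j : Set G)) : ℂ)⁻¹ *
          ∑ k : S.K j, mask (bg j) k * conj (bg j k)) = (e : ℂ) / (Nat.card (S.K i) : ℂ)) :
    ∃ 𝒴 : Finset (IrrCharacter G),
      (∀ χ ∈ 𝒴, (χ : G → ℂ) 1 = (c : ℂ) ∧
        ∀ j, j ≠ i → ∀ k ∈ S.K j, k ≠ 1 → (χ : G → ℂ) k = bg j k) ∧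
      𝒴.card * e + 1 = Nat.card (S.K i) ∧
      ∀ k ∈ S.K i, k ≠ 1 →
        (∑ χ ∈ 𝒴, (χ : G → ℂ) k * conj ((χ : G → ℂ) k) = (Nat.card (S.K i) : ℂ) - e) ∧
        (∑ χ ∈ 𝒴, (χ : G → ℂ) k = -(ε : ℂ)) := by
  have hKc : ∀ a b : S.K i, a * b = b * a := fun a b => Subtype.ext (hcomm a a.2 b b.2)
  have : Finite (S.K i →* ℂˣ) := finite_hom hKc
  let _ : Fintype (S.K i →* ℂˣ) := Fintype.ofFinite _
  have hK0 : (Nat.card (S.K i) : ℂ) ≠ 0 := card_K_ne_zero (S.K i)
  have hN : (Nat.card (Nz (S.K i)) : ℂ) = (e : ℂ) * (Nat.card (S.K i) : ℂ) := by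
    exact_mod_cast congrArg (fun t : ℕ => (t : ℂ)) he
  have he0 : 0 < e := by
    rcases Nat.eq_zero_or_pos e with h0 | h0
    · rw [h0, zero_mul] at he
      exact absurd he (Nat.card_pos (α := Subgroup.normalizer (S.K i : Set G))).ne'
    · exact h0
  have heC : (e : ℂ) ≠ 0 := by exact_mod_cast he0.ne'
  have hεε : (ε : ℂ) * (ε : ℂ) = 1 := by
    rcases hε with h | h <;> rw [h] <;> norm_num
  have hεconj : conj (ε : ℂ) = (ε : ℂ) := map_intCast (starRingEnd ℂ) ε
  obtain ⟨z, hz⟩ := hdiv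
  -- the local data
  have hinv : ∀ lam : S.K i →* ℂˣ, Inv S (psi S i c ε bg lam) := by
    intro lam j n hn k hk
    by_cases hj : j = i
    · subst hj
      rw [psi_self]
      exact theta_inv (S.K j) c ε lam n hn k hk
    · rw [psi_ne S i c ε bg lam hj]
      exact hbg_inv j hj n hn k hk
  have hone : ∀ (lam : S.K i →* ℂˣ) (j : ι), psi S i c ε bg lam j 1 = (c : ℂ) := by
    intro lam j
    by_cases hj : j = i
    · subst hj
      rw [psi_self, theta_one]
    · rw [psi_ne S i c ε bg lam hj]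
      exact hbg_one j hj
  have hgen : ∀ lam : S.K i →* ℂˣ, lam ≠ 1 → ∀ j : ι,
      IsGeneralizedCharacter (S.K j) (fun k : S.K j => psi S i c ε bg lam j k) := by
    intro lam hlam j
    by_cases hj : j = i
    · subst hj
      rw [psi_self]
      exact isGen_of_fourier_int hKc _
        (theta_fourier (S.K j) hcomm hcent hN hz hlam)
    · rw [psi_ne S i c ε bg lam hj]
      exact hbg_gen j hj
  -- the inner products
  have hcross : ∀ lam mu : S.K i →* ℂˣ,
      classInner (fn S (c : ℂ) (psi S i c ε bg mu)) (fn S (c : ℂ) (psi S i c ε bg lam)) =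
        (Nat.card (S.K i) : ℂ)⁻¹ *
          ∑ n : Nz (S.K i), (if tw (S.K i) lam n = mu then (1 : ℂ) else 0) := by
    intro lam mu
    rw [classInner_fn S (c : ℂ) (c : ℂ) (hinv lam)]
    have hterm : ∀ j : ι,
        (Nat.card (Subgroup.normalizer (S.K j : Set G)) : ℂ)⁻¹ *
          ∑ k : S.K j, mask (psi S i c ε bg mu j) k * conj (psi S i c ε bg lam j k) =
        (if j = i then (Nat.card (Nz (S.K i)) : ℂ)⁻¹ *
            (∑ k : S.K i, orbK (S.K i) mu k * conj (orbK (S.K i) lam k) - (e : ℂ) * (e : ℂ))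
          else 0) +
        (if j = i then 0 else
          (Nat.card (Subgroup.normalizer (S.K j : Set G)) : ℂ)⁻¹ *
            ∑ k : S.K j, mask (bg j) k * conj (bg j k)) := by
      intro j
      by_cases hj : j = i
      · subst hj
        rw [if_pos rfl, if_pos rfl, add_zero, psi_self, psi_self]
        congr 1
        have h1 : ∀ k : S.K j, mask (theta (S.K j) c ε mu) (k : G) *
            conj (theta (S.K j) c ε lam (k : G)) =
            orbK (S.K j) mu k * conj (orbK (S.K j) lam k) -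
              (if k = 1 then (e : ℂ) * (e : ℂ) else 0) := by
          intro k
          by_cases hk : k = 1
          · rw [if_pos hk, hk]
            have : ((1 : S.K j) : G) = 1 := rfl
            rw [this, mask_one, zero_mul, orbK_one, orbK_one, hN]
            rw [map_div₀, map_mul, Complex.conj_natCast, Complex.conj_natCast]
            field_simp
            ring
          · have hk' : (k : G) ≠ 1 := fun h => hk (Subtype.ext h)
            rw [if_neg hk, sub_zero, mask_of_ne _ hk', theta_coe, theta_coe, if_neg hk, if_neg hk,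
              map_mul, hεconj]
            linear_combination (orbK (S.K j) mu k * conj (orbK (S.K j) lam k)) * hεε
        rw [Finset.sum_congr rfl fun k _ => h1 k, Finset.sum_sub_distrib,
          Finset.sum_ite_eq' Finset.univ (1 : S.K j), if_pos (Finset.mem_univ _)]
      · rw [if_neg hj, if_neg hj, zero_add, psi_ne S i c ε bg mu hj, psi_ne S i c ε bg lam hj]
    rw [Finset.sum_congr rfl fun j _ => hterm j, Finset.sum_add_distrib,
      Finset.sum_ite_eq' Finset.univ i, if_pos (Finset.mem_univ _), Complex.conj_natCast]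
    have h2 : (c : ℂ) * (c : ℂ) / (Nat.card G : ℂ) +
        ∑ j, (if j = i then 0 else
          (Nat.card (Subgroup.normalizer (S.K j : Set G)) : ℂ)⁻¹ *
            ∑ k : S.K j, mask (bg j) k * conj (bg j k)) = (e : ℂ) / (Nat.card (S.K i) : ℂ) := by
      rw [← hnorm, pow_two]
    rw [sum_orbK_mul (S.K i) mu lam, hN]
    have h3 : ∀ A B J : ℂ, A + B = (e : ℂ) / (Nat.card (S.K i) : ℂ) →
        A + (((e : ℂ) * (Nat.card (S.K i) : ℂ))⁻¹ *
          ((e : ℂ) * (Nat.card (S.K i) : ℂ) / (Nat.card (S.K i) : ℂ) * J - (e : ℂ) * (e : ℂ)) + B) =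
          (Nat.card (S.K i) : ℂ)⁻¹ * J := by
      intro A B J hAB
      have : A = (e : ℂ) / (Nat.card (S.K i) : ℂ) - B := by rw [← hAB]; ring
      rw [this]
      field_simp
      ring
    exact h3 _ _ _ h2
  -- irreducibility
  have hirr : ∀ lam : S.K i →* ℂˣ, lam ≠ 1 →
      IsIrrCharacter G (fn S (c : ℂ) (psi S i c ε bg lam)) := by
    intro lam hlam
    apply isIrrCharacter_fn S hc (hinv lam) (hone lam) (hgen lam hlam)
    have hJ : ∑ n : Nz (S.K i), (if tw (S.K i) lam n = lam then (1 : ℂ) else 0) =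
        (Nat.card (S.K i) : ℂ) := by
      convert count_K (S.K i) (fun m => tw (S.K i) lam m = lam)
        (stab_char (S.K i) hcomm hcent hlam)
    rw [hcross lam lam, hJ, inv_mul_cancel₀ hK0]
  -- the family
  let Xf : (S.K i →* ℂˣ) → IrrCharacter G := fun lam =>
    if h : lam ≠ 1 then ⟨fn S (c : ℂ) (psi S i c ε bg lam), hirr lam h⟩
    else Cfsg.Agent.Lib.Helper80_CharBasic.oneIrr G
  have hXf : ∀ lam : S.K i →* ℂˣ, lam ≠ 1 →
      ((Xf lam : IrrCharacter G) : G → ℂ) = fn S (c : ℂ) (psi S i c ε bg lam) := by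
    intro lam hlam
    show ((if h : lam ≠ 1 then (⟨fn S (c : ℂ) (psi S i c ε bg lam), hirr lam h⟩ : IrrCharacter G)
      else Cfsg.Agent.Lib.Helper80_CharBasic.oneIrr G : IrrCharacter G) : G → ℂ) = _
    rw [dif_pos hlam]
  set Λ : Finset (S.K i →* ℂˣ) := Finset.univ.filter (fun lam => lam ≠ 1) with hΛ
  have hΛmem : ∀ lam : S.K i →* ℂˣ, lam ∈ Λ ↔ lam ≠ 1 := by
    intro lam
    rw [hΛ, Finset.mem_filter]
    exact ⟨fun h => h.2, fun h => ⟨Finset.mem_univ _, h⟩⟩
  have hΛcard : Λ.card + 1 = Nat.card (S.K i) := by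
    rw [hΛ, Finset.filter_ne' Finset.univ (1 : S.K i →* ℂˣ),
      Finset.card_erase_of_mem (Finset.mem_univ _), Finset.card_univ,
      ← Nat.card_eq_fintype_card, card_hom hKc]
    have := Nat.card_pos (α := S.K i)
    omega
  -- the values of the members of the family
  have hval1 : ∀ lam : S.K i →* ℂˣ, lam ≠ 1 → ((Xf lam : IrrCharacter G) : G → ℂ) 1 = (c : ℂ) := by
    intro lam hlam
    rw [hXf lam hlam, fn_one]
  have hvalK : ∀ lam : S.K i →* ℂˣ, lam ≠ 1 → ∀ k : S.K i, k ≠ 1 →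
      ((Xf lam : IrrCharacter G) : G → ℂ) (k : G) = (ε : ℂ) * orbK (S.K i) lam k := by
    intro lam hlam k hk
    have hk' : (k : G) ≠ 1 := fun h => hk (Subtype.ext h)
    rw [hXf lam hlam, fn_of_mem S (c : ℂ) (hinv lam) k.2 hk', psi_self, theta_coe, if_neg hk]
  have hvalbg : ∀ lam : S.K i →* ℂˣ, lam ≠ 1 → ∀ j, j ≠ i → ∀ k ∈ S.K j, k ≠ 1 →
      ((Xf lam : IrrCharacter G) : G → ℂ) k = bg j k := by
    intro lam hlam j hj k hk hk1
    rw [hXf lam hlam, fn_of_mem S (c : ℂ) (hinv lam) hk hk1, psi_ne S i c ε bg lam hj]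
  -- the fibres
  have hfib : ∀ lam ∈ Λ, (Λ.filter (fun mu => Xf mu = Xf lam)).card = e := by
    intro lam hlamΛ
    have hlam := (hΛmem lam).1 hlamΛ
    have h1 : ((Λ.filter (fun mu => Xf mu = Xf lam)).card : ℂ) = (e : ℂ) := by
      rw [Finset.card_filter, Nat.cast_sum]
      have h2 : ∀ mu ∈ Λ, ((if Xf mu = Xf lam then 1 else 0 : ℕ) : ℂ) =
          (Nat.card (S.K i) : ℂ)⁻¹ *
            ∑ n : Nz (S.K i), (if tw (S.K i) lam n = mu then (1 : ℂ) else 0) := by
        intro mu hmuΛ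
        have hmu := (hΛmem mu).1 hmuΛ
        rw [← hcross lam mu, ← hXf lam hlam, ← hXf mu hmu,
          Cfsg.Agent.Lib.Helper3_CharOrtho.classInner_irr (Xf mu).2 (Xf lam).2]
        by_cases h : Xf mu = Xf lam
        · rw [if_pos h, if_pos (by rw [h]), Nat.cast_one]
        · rw [if_neg h, if_neg (fun h' => h (Subtype.ext h')), Nat.cast_zero]
      rw [Finset.sum_congr rfl h2, ← Finset.mul_sum, Finset.sum_comm]
      have h3 : ∀ n : Nz (S.K i), ∑ mu ∈ Λ, (if tw (S.K i) lam n = mu then (1 : ℂ) else 0) = 1 := by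
        intro n
        rw [Finset.sum_ite_eq Λ (tw (S.K i) lam n),
          if_pos ((hΛmem _).2 (tw_ne_one (S.K i) hlam n))]
      rw [Finset.sum_congr rfl fun n _ => h3 n, Finset.sum_const, Finset.card_univ, nsmul_eq_mul,
        mul_one, ← Nat.card_eq_fintype_card (α := Nz (S.K i)), hN]
      field_simp
    exact_mod_cast h1
  -- sums over the family
  have hsumY : ∀ F : IrrCharacter G → ℂ,
      (e : ℂ) * ∑ χ ∈ Λ.image Xf, F χ = ∑ mu ∈ Λ, F (Xf mu) := by
    intro F
    rw [Finset.mul_sum]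
    apply Finset.sum_image'
    intro lam hlamΛ
    rw [Finset.sum_congr rfl fun mu hmu => by rw [(Finset.mem_filter.1 hmu).2],
      Finset.sum_const, hfib lam hlamΛ, nsmul_eq_mul]
  refine ⟨Λ.image Xf, ?_, ?_, ?_⟩
  · intro χ hχ
    obtain ⟨lam, hlamΛ, rfl⟩ := Finset.mem_image.1 hχ
    have hlam := (hΛmem lam).1 hlamΛ
    exact ⟨hval1 lam hlam, hvalbg lam hlam⟩
  · have h1 := Finset.card_eq_sum_card_image Xf Λ
    have h2 : ∀ b ∈ Λ.image Xf, (Λ.filter (fun a => Xf a = b)).card = e := by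
      intro b hb
      obtain ⟨lam, hlamΛ, rfl⟩ := Finset.mem_image.1 hb
      exact hfib lam hlamΛ
    rw [Finset.sum_congr rfl h2, Finset.sum_const, smul_eq_mul] at h1
    rw [← h1]
    exact hΛcard
  · intro k hk hk1
    have hk' : (⟨k, hk⟩ : S.K i) ≠ 1 := fun h => hk1 (congrArg Subtype.val h)
    have htriv : orbK (S.K i) (1 : S.K i →* ℂˣ) ⟨k, hk⟩ = (e : ℂ) := by
      rw [orbK_triv, hN]
      field_simp
    constructor
    · have h1 := hsumY (fun χ => (χ : G → ℂ) k * conj ((χ : G → ℂ) k))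
      have h2 : ∑ mu ∈ Λ, ((Xf mu : IrrCharacter G) : G → ℂ) k *
          conj (((Xf mu : IrrCharacter G) : G → ℂ) k) =
          (e : ℂ) * (Nat.card (S.K i) : ℂ) - (e : ℂ) * (e : ℂ) := by
        have h3 : ∀ mu ∈ Λ, ((Xf mu : IrrCharacter G) : G → ℂ) k *
            conj (((Xf mu : IrrCharacter G) : G → ℂ) k) =
            orbK (S.K i) mu ⟨k, hk⟩ * conj (orbK (S.K i) mu ⟨k, hk⟩) := by
          intro mu hmuΛ
          have h4 := hvalK mu ((hΛmem mu).1 hmuΛ) ⟨k, hk⟩ hk'
          have h5 : ((⟨k, hk⟩ : S.K i) : G) = k := rfl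
          rw [h5] at h4
          rw [h4, map_mul, hεconj]
          linear_combination (orbK (S.K i) mu ⟨k, hk⟩ * conj (orbK (S.K i) mu ⟨k, hk⟩)) * hεε
        rw [Finset.sum_congr rfl h3]
        have h6 := sum_orbK_sq_all (S.K i) hcomm hcent hk'
        rw [← Finset.sum_filter_add_sum_filter_not Finset.univ (fun lam : S.K i →* ℂˣ => lam ≠ 1),
          ← hΛ] at h6
        have h7 : (Finset.univ.filter (fun lam : S.K i →* ℂˣ => ¬ lam ≠ 1)) = {1} := by
          ext lam
          simp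
        rw [h7, Finset.sum_singleton, htriv, hN, Complex.conj_natCast] at h6
        linear_combination h6
      rw [h2] at h1
      have h8 : (e : ℂ) * (∑ χ ∈ Λ.image Xf, (χ : G → ℂ) k * conj ((χ : G → ℂ) k)) =
          (e : ℂ) * ((Nat.card (S.K i) : ℂ) - e) := by rw [h1]; ring
      exact mul_left_cancel₀ heC h8
    · have h1 := hsumY (fun χ => (χ : G → ℂ) k)
      have h2 : ∑ mu ∈ Λ, ((Xf mu : IrrCharacter G) : G → ℂ) k = -((ε : ℂ) * (e : ℂ)) := by
        have h3 : ∀ mu ∈ Λ, ((Xf mu : IrrCharacter G) : G → ℂ) k =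
            (ε : ℂ) * orbK (S.K i) mu ⟨k, hk⟩ := by
          intro mu hmuΛ
          exact hvalK mu ((hΛmem mu).1 hmuΛ) ⟨k, hk⟩ hk'
        rw [Finset.sum_congr rfl h3, ← Finset.mul_sum]
        have h6 := sum_orbK_all (S.K i) hcomm hk'
        rw [← Finset.sum_filter_add_sum_filter_not Finset.univ (fun lam : S.K i →* ℂˣ => lam ≠ 1),
          ← hΛ] at h6
        have h7 : (Finset.univ.filter (fun lam : S.K i →* ℂˣ => ¬ lam ≠ 1)) = {1} := by
          ext lam
          simp
        rw [h7, Finset.sum_singleton, htriv] at h6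
        linear_combination (ε : ℂ) * h6
      rw [h2] at h1
      have h8 : (e : ℂ) * (∑ χ ∈ Λ.image Xf, (χ : G → ℂ) k) = (e : ℂ) * (-(ε : ℂ)) := by
        rw [h1]; ring
      exact mul_left_cancel₀ heC h8

end main

end Cfsg.Agent.Lib.Helper25_SzChar_PKF
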