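import Cfsg.Agent.Lib.Helper37_SzCharDefs
import Cfsg.Agent.Lib.Helper3_CharColumn
import Cfsg.Agent.Lib.Helper21_SzChar_PKT2Xcore
import Cfsg.Agent.Lib.Helper25_SzChar_PKF

/-!
# S4775, package PK-T2X (helper21): `family_H`, exact statement
-/

set_option autoImplicit false

namespace Cfsg.Agent.Lib.Helper21_SzChar_PKT2X

open scoped ComplexConjugate Classical
open Cfsg Cfsg.Agent.Helper37TI Cfsg.Agent.Helper37SzChar

variable {G : Type*} [Group G] [Fintype G] {m : ℕ}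

theorem family_H (D : SzData G m) :
    ∃ 𝒳 : Finset (IrrCharacter G),
      (∀ χ ∈ 𝒳, (χ : G → ℂ) 1 = ((qq m ^ 2 + 1 : ℕ) : ℂ) ∧
        ∀ a ∈ D.A₁, a ≠ 1 → (χ : G → ℂ) a = 0) ∧
      𝒳.card * 2 + 1 = qq m - 1 ∧
      ∀ h ∈ D.H, h ≠ 1 →
        ∑ χ ∈ 𝒳, (χ : G → ℂ) h * conj ((χ : G → ℂ) h) = (qq m : ℂ) - 3 :=
  Cfsg.Agent.Lib.Helper21_SzChar_PKT2Xcore.family_H_core
    (fun S i hcomm hcent e he hK c hc ε hε hdiv bg h1 h2 h3 h4 =>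
      Cfsg.Agent.Lib.Helper25_SzChar_PKF.family S i hcomm hcent e he hK c hc ε hε
        hdiv bg h1 h2 h3 h4) D

end Cfsg.Agent.Lib.Helper21_SzChar_PKT2X
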