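import Cfsg.Agent.Lib.Helper37_SzCharDefs
import Cfsg.Agent.Lib.Helper3_CharColumn
import Cfsg.Agent.Lib.Helper21_SzChar_PKT2Common

/-!
# S4775, package PK-T2Y (helper21), core (PK-F as a hypothesis): the family of characters attached to `A₁`
-/

set_option autoImplicit false

namespace Cfsg.Agent.Lib.Helper21_SzChar_PKT2Ycore

open scoped ComplexConjugate Classical
open Cfsg Cfsg.Agent.Helper37TI Cfsg.Agent.Helper37SzChar
open Cfsg.Agent.Lib.Helper21_SzChar_PKT2Common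

variable {G : Type*} [Group G] [Fintype G] {m : ℕ}

theorem rr_mul_pow (m : ℕ) : rr m * 2 ^ m = qq m := by
  unfold rr qq
  rw [← pow_add]
  congr 1
  ring

/-- the background functions for the family of `A₁` -/
noncomputable def bgA1 (D : SzData G m) : SzIdx → G → ℂ
  | .Q => Qfun D (((qq m - 1) * (qq m - rr m + 1) : ℕ) : ℂ) ((rr m : ℂ) - 1) (-1)
  | .H => delta (((qq m - 1) * (qq m - rr m + 1) : ℕ) : ℂ)
  | .A1 => 0
  | .A2 => delta (((qq m - 1) * (qq m - rr m + 1) : ℕ) : ℂ)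

theorem family_A1_core (F : FamilyStmt G) (D : SzData G m) :
    ∃ 𝒴 : Finset (IrrCharacter G),
      (∀ χ ∈ 𝒴, (χ : G → ℂ) 1 = (((qq m - 1) * (qq m - rr m + 1) : ℕ) : ℂ) ∧
        ∀ h ∈ D.H, h ≠ 1 → (χ : G → ℂ) h = 0) ∧
      𝒴.card * 4 + 1 = qq m + rr m + 1 ∧
      ∀ a ∈ D.A₁, a ≠ 1 →
        (∑ χ ∈ 𝒴, (χ : G → ℂ) a * conj ((χ : G → ℂ) a) = (qq m : ℂ) + rr m - 3) ∧
        (∑ χ ∈ 𝒴, (χ : G → ℂ) a = 1) := by
  have hq8 : 8 ≤ qq m := eight_le_qq D.hm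
  have hrq : rr m ≤ qq m := rr_le_qq m
  have hr2 := rr_sq m
  have hr0 : 0 < rr m := by unfold rr; positivity
  have hqC : ((qq m - 1 : ℕ) : ℂ) = (qq m : ℂ) - 1 := by
    rw [Nat.cast_sub (by omega : 1 ≤ qq m)]; simp
  have hn2C : ((qq m - rr m + 1 : ℕ) : ℂ) = (qq m : ℂ) - rr m + 1 := by
    push_cast [Nat.cast_sub hrq]; ring
  have hcC : (((qq m - 1) * (qq m - rr m + 1) : ℕ) : ℂ) =
      ((qq m : ℂ) - 1) * ((qq m : ℂ) - rr m + 1) := by
    rw [Nat.cast_mul, hqC, hn2C]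
  have hr2C : (rr m : ℂ) ^ 2 = 2 * (qq m : ℂ) := by exact_mod_cast hr2
  have hqR : (qq m : ℂ) = (rr m : ℂ) ^ 2 / 2 := by rw [hr2C]; ring
  have hrmC : (rr m : ℂ) * 2 ^ m = (qq m : ℂ) := by exact_mod_cast rr_mul_pow m
  have hq1 : (qq m : ℂ) - 1 ≠ 0 := by
    rw [← hqC]
    exact_mod_cast (by omega : qq m - 1 ≠ 0)
  have hq0 : (qq m : ℂ) ≠ 0 := by exact_mod_cast (by omega : qq m ≠ 0)
  have hq21 : (qq m : ℂ) ^ 2 + 1 ≠ 0 := by
    exact_mod_cast (by positivity : qq m ^ 2 + 1 ≠ 0)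
  have hn1 : (qq m : ℂ) + rr m + 1 ≠ 0 := by
    exact_mod_cast (by positivity : qq m + rr m + 1 ≠ 0)
  have he : Nat.card (Subgroup.normalizer ((D.toTISys.K SzIdx.A1 : Subgroup G) : Set G)) =
      4 * Nat.card (D.toTISys.K SzIdx.A1) := by
    show Nat.card (Subgroup.normalizer ((D.A₁ : Subgroup G) : Set G)) = 4 * Nat.card D.A₁
    rw [D.card_NA₁, D.card_A₁]
  have hK : 1 < Nat.card (D.toTISys.K SzIdx.A1) := by
    show 1 < Nat.card D.A₁
    rw [D.card_A₁]; omega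
  have hdiv : (Nat.card (D.toTISys.K SzIdx.A1) : ℤ) ∣
      (((qq m - 1) * (qq m - rr m + 1) : ℕ) : ℤ) - (-1) * (4 : ℕ) := by
    show (Nat.card D.A₁ : ℤ) ∣ _
    rw [D.card_A₁]
    refine ⟨(qq m : ℤ) - 2 * rr m + 3, ?_⟩
    have hr2Z : (rr m : ℤ) ^ 2 = 2 * (qq m : ℤ) := by exact_mod_cast hr2
    push_cast [Nat.cast_sub (by omega : 1 ≤ qq m), Nat.cast_sub hrq]
    linear_combination 2 * hr2Z
  have hbg_inv : ∀ j, j ≠ SzIdx.A1 → ∀ n ∈ Subgroup.normalizer (D.toTISys.K j : Set G),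
      ∀ k ∈ D.toTISys.K j, bgA1 D j (n * k * n⁻¹) = bgA1 D j k := by
    intro j hj n hn k _
    cases j
    · exact Qfun_conj D _ _ _ n hn k
    · exact delta_conj _ n k
    · exact absurd rfl hj
    · exact delta_conj _ n k
  have hbg_one : ∀ j, j ≠ SzIdx.A1 →
      bgA1 D j 1 = (((qq m - 1) * (qq m - rr m + 1) : ℕ) : ℂ) := by
    intro j hj
    cases j
    · exact Qfun_one D _ _ _
    · exact delta_one _
    · exact absurd rfl hj
    · exact delta_one _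
  have hbg_gen : ∀ j, j ≠ SzIdx.A1 →
      IsGeneralizedCharacter (D.toTISys.K j) (fun k : D.toTISys.K j => bgA1 D j k) := by
    intro j hj
    cases j
    · refine isGen_Qfun D (-1) 1 ((2 : ℤ) ^ m - 1) 0 _ _ _ ?_ ?_ ?_
      · rw [hcC]
        push_cast
        linear_combination (-((qq m : ℂ) - 1)) * hrmC
      · push_cast
        linear_combination hrmC
      · push_cast
        ring
    · refine isGen_delta' D.H ((qq m - rr m + 1 : ℕ) : ℤ) _ ?_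
      rw [D.card_H]
      push_cast
      ring
    · exact absurd rfl hj
    · refine isGen_delta' D.A₂ ((qq m - 1 : ℕ) : ℤ) _ ?_
      rw [D.card_A₂]
      push_cast
      ring
  have hnorm : ((((qq m - 1) * (qq m - rr m + 1) : ℕ) : ℂ)) ^ 2 / (Nat.card G : ℂ) +
      ∑ j, (if j = SzIdx.A1 then 0 else
        (Nat.card (Subgroup.normalizer (D.toTISys.K j : Set G)) : ℂ)⁻¹ *
          ∑ k : D.toTISys.K j, mask (bgA1 D j) k * conj (bgA1 D j k)) =
      ((4 : ℕ) : ℂ) / (Nat.card (D.toTISys.K SzIdx.A1) : ℂ) := by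
    rw [SzIdx.sum_eq, if_neg (by decide), if_neg (by decide), if_pos rfl, if_neg (by decide)]
    have e1 : ∑ k : D.toTISys.K SzIdx.Q, mask (bgA1 D SzIdx.Q) k * conj (bgA1 D SzIdx.Q k) =
        ((qq m : ℂ) - 1) * (((rr m : ℂ) - 1) * conj ((rr m : ℂ) - 1)) +
          ((qq m : ℂ) ^ 2 - qq m) * ((-1) * conj (-1)) :=
      sum_mask_Qfun D _ _ _
    have e2 : ∑ k : D.toTISys.K SzIdx.H, mask (bgA1 D SzIdx.H) k * conj (bgA1 D SzIdx.H k) = 0 :=
      sum_mask_delta _ D.H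
    have e3 : ∑ k : D.toTISys.K SzIdx.A2, mask (bgA1 D SzIdx.A2) k * conj (bgA1 D SzIdx.A2 k) = 0 :=
      sum_mask_delta _ D.A₂
    rw [e1, e2, e3]
    have hNQ : (Nat.card (Subgroup.normalizer ((D.toTISys.K SzIdx.Q : Subgroup G) : Set G)) : ℂ) =
        (qq m : ℂ) ^ 2 * ((qq m : ℂ) - 1) := by
      show (Nat.card (Subgroup.normalizer ((D.Q : Subgroup G) : Set G)) : ℂ) = _
      rw [D.card_NQ]
      push_cast
      rw [hqC]
    have hKA : (Nat.card (D.toTISys.K SzIdx.A1) : ℂ) = (qq m : ℂ) + rr m + 1 := by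
      show (Nat.card D.A₁ : ℂ) = _
      rw [D.card_A₁]
      push_cast
      ring
    have hGC : (Nat.card G : ℂ) = (qq m : ℂ) ^ 2 *
        (((qq m : ℂ) + rr m + 1) * ((qq m : ℂ) - rr m + 1)) * ((qq m : ℂ) - 1) := by
      rw [D.card_G, ← n1_mul_n2 m, Nat.cast_mul, Nat.cast_mul, Nat.cast_mul, hqC, hn2C]
      push_cast
      ring
    have hn2 : (qq m : ℂ) - rr m + 1 ≠ 0 := by
      rw [← hn2C]
      exact_mod_cast (by omega : qq m - rr m + 1 ≠ 0)
    rw [hNQ, hKA, hGC, hcC]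
    simp only [map_sub, map_one, map_neg, Complex.conj_natCast, mul_zero, add_zero]
    field_simp
    simp only [hqR]
    ring
  obtain ⟨𝒴, h1, h2, h3⟩ := F D.toTISys SzIdx.A1 D.comm_A₁ D.cent_A₁ 4 he hK
    ((qq m - 1) * (qq m - rr m + 1))
    (Nat.mul_pos (by omega) (by omega)) (-1) (Or.inr rfl) hdiv (bgA1 D) hbg_inv hbg_one hbg_gen
    hnorm
  refine ⟨𝒴, ?_, ?_, ?_⟩
  · intro χ hχ
    obtain ⟨h4, h5⟩ := h1 χ hχ
    refine ⟨h4, ?_⟩
    intro a ha ha1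
    rw [h5 SzIdx.H (by decide) a ha ha1]
    exact delta_of_ne _ ha1
  · have : Nat.card (D.toTISys.K SzIdx.A1) = qq m + rr m + 1 := D.card_A₁
    rw [this] at h2
    exact h2
  · intro a ha ha1
    obtain ⟨h4, h5⟩ := h3 a ha ha1
    constructor
    · rw [h4]
      have : (Nat.card (D.toTISys.K SzIdx.A1) : ℂ) = (qq m : ℂ) + rr m + 1 := by
        show (Nat.card D.A₁ : ℂ) = _
        rw [D.card_A₁]
        push_cast
        ring
      rw [this]
      push_cast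
      ring
    · rw [h5]
      push_cast
      ring

end Cfsg.Agent.Lib.Helper21_SzChar_PKT2Ycore
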