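import Cfsg.Agent.Lib.Helper37_SzCharDefs
import Cfsg.Agent.Lib.Helper3_CharColumn
import Cfsg.Agent.Lib.Helper21_SzChar_PKT2Ycore
import Cfsg.Agent.Lib.Helper25_SzChar_PKF

/-!
# S4775, package PK-T2Y (helper21): `family_A1`, exact statement
-/

set_option autoImplicit false

namespace Cfsg.Agent.Lib.Helper21_SzChar_PKT2Y

open scoped ComplexConjugate Classical
open Cfsg Cfsg.Agent.Helper37TI Cfsg.Agent.Helper37SzChar

variable {G : Type*} [Group G] [Fintype G] {m : ℕ}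

theorem family_A1 (D : SzData G m) :
    ∃ 𝒴 : Finset (IrrCharacter G),
      (∀ χ ∈ 𝒴, (χ : G → ℂ) 1 = (((qq m - 1) * (qq m - rr m + 1) : ℕ) : ℂ) ∧
        ∀ h ∈ D.H, h ≠ 1 → (χ : G → ℂ) h = 0) ∧
      𝒴.card * 4 + 1 = qq m + rr m + 1 ∧
      ∀ a ∈ D.A₁, a ≠ 1 →
        (∑ χ ∈ 𝒴, (χ : G → ℂ) a * conj ((χ : G → ℂ) a) = (qq m : ℂ) + rr m - 3) ∧
        (∑ χ ∈ 𝒴, (χ : G → ℂ) a = 1) :=
  Cfsg.Agent.Lib.Helper21_SzChar_PKT2Ycore.family_A1_core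
    (fun S i hcomm hcent e he hK c hc ε hε hdiv bg h1 h2 h3 h4 =>
      Cfsg.Agent.Lib.Helper25_SzChar_PKF.family S i hcomm hcent e he hK c hc ε hε
        hdiv bg h1 h2 h3 h4) D

end Cfsg.Agent.Lib.Helper21_SzChar_PKT2Y
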