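import Mathlib
import Cfsg.Prelude.Def_OddOrderLocal
import Cfsg.Prelude.Def_Solvable
import Cfsg.Prelude.Def_Involutions
import Cfsg.Prelude.Def_LieExceptional

/-!
helper21: definitions for S4064 (groups in which every element centralizer is a TI-subset).
-/

set_option autoImplicit false

namespace Cfsg.Agent.Lib.Helper21_TICDefs

open Cfsg

/-- Every element centralizer is a TI-subset. -/
def TIC (G : Type*) [Group G] : Prop :=
  ∀ x : G, Cfsg.IsTISubset (Subgroup.centralizer ({x} : Set G) : Set G)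

/-- No nontrivial nilpotent normal subgroup (trivial Fitting subgroup). -/
def FitTriv (G : Type*) [Group G] : Prop :=
  ∀ N : Subgroup G, N.Normal → Group.IsNilpotent N → N = ⊥

/-- First layer of local data at the prime 2: `S` a Sylow 2-subgroup, `A` the centralizer of a
central involution of `S`, `N` the normalizer of `A`. -/
structure PreLocal {G : Type*} [Group G] (S : Sylow 2 G) (A N : Subgroup G) : Prop where
  nil : Group.IsNilpotent A
  S_le : (S : Subgroup G) ≤ A
  N_eq : N = Subgroup.normalizer (A : Set G)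
  ti : ∀ g : G, g ∉ N → ∀ a ∈ A, g * a * g⁻¹ ∈ A → a = 1
  cent_le : ∀ a ∈ A, a ≠ 1 → Subgroup.centralizer ({a} : Set G) ≤ A
  se : Cfsg.IsStronglyEmbedded N
  inv_mem : ∀ t : G, orderOf t = 2 → t ∈ N → t ∈ S
  exists_z : ∃ z : G, orderOf z = 2 ∧ z ∈ S ∧ Subgroup.centralizer ({z} : Set G) = A

/-- Full local data: `N` strongly embedded, `A` a normal subgroup of `N` acting semiregularly off
the base point, the complement has order the number of involutions of `N`. -/
structure LocalData {G : Type*} [Group G] (N A : Subgroup G) : Prop where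
  se : Cfsg.IsStronglyEmbedded N
  le : A ≤ N
  conj_mem : ∀ n ∈ N, ∀ a ∈ A, n * a * n⁻¹ ∈ A
  semireg : ∀ g : G, g ∉ N → ∀ a ∈ A, g * a * g⁻¹ ∈ N → a = 1
  cent_le : ∀ a ∈ A, a ≠ 1 → Subgroup.centralizer ({a} : Set G) ≤ A
  card_inv : Nat.card {t : G // orderOf t = 2 ∧ t ∈ N} = A.relIndex N
  two_le : 2 ≤ A.relIndex N
  inv_cent : ∀ t : G, orderOf t = 2 → t ∈ N → Subgroup.centralizer ({t} : Set G) = A
  cent_normal : IsPGroup 2 A → ∀ x ∈ A, x ≠ 1 → ∀ n ∈ N,
    ∀ c ∈ Subgroup.centralizer ({x} : Set G), n * c * n⁻¹ ∈ Subgroup.centralizer ({x} : Set G)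

/-- The two-point stabilizer `N ∩ u N u⁻¹`. -/
abbrev twoPt {G : Type*} [Group G] (N : Subgroup G) (u : G) : Subgroup G :=
  N ⊓ N.map (MulAut.conj u).toMonoidHom

end Cfsg.Agent.Lib.Helper21_TICDefs
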