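import Mathlib
import Cfsg.Agent.Lib.Helper21_TICDefs
import Cfsg.Agent.Lib.Helper21_StronglyEmbedded
import Cfsg.Agent.S1224
import Cfsg.Agent.S1225

/-!
helper21: S4064 package D1: the two-point stabilizer `N ∩ uNu⁻¹` is a complement of `A` in `N`
inverted by `u`.
-/

set_option autoImplicit false

namespace Cfsg.Agent.Lib.Helper21_TIC_D1

open Cfsg Cfsg.Agent.Lib.Helper21_TICDefs Cfsg.Agent.Lib.Helper21_StronglyEmbedded

variable {G : Type*} [Group G]

theorem mem_twoPt_iff {N : Subgroup G} {u d : G} :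
    d ∈ twoPt N u ↔ d ∈ N ∧ u⁻¹ * d * u ∈ N := by
  rw [twoPt, Subgroup.mem_inf, mem_map_conj_iff]

theorem inv_of_order_two {u : G} (hu : orderOf u = 2) : u⁻¹ = u :=
  _root_.inv_eq_self_of_orderOf_eq_two hu

theorem mul_self_of_order_two {u : G} (hu : orderOf u = 2) : u * u = 1 :=
  Cfsg.Agent.Lib.Helper21_StronglyEmbedded.sq_eq_one_of_orderOf_eq_two hu

/-- `u * i ∈ twoPt N u` iff `i * u ∈ N`, for involutions `u`, `i`. -/
theorem mul_mem_twoPt_iff {N : Subgroup G} {u i : G} (hu : orderOf u = 2) (hi : orderOf i = 2) :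
    u * i ∈ twoPt N u ↔ i * u ∈ N := by
  rw [mem_twoPt_iff]
  have h1 : u⁻¹ * (u * i) * u = i * u := by group
  have h2 : (i * u)⁻¹ = u * i := by
    rw [mul_inv_rev, inv_of_order_two hu, inv_of_order_two hi]
  rw [h1]
  constructor
  · exact fun h => h.2
  · intro h
    refine ⟨?_, h⟩
    rw [← h2]
    exact N.inv_mem h

theorem smul_mk_one_eq_mk_iff {N : Subgroup G} {u i : G} (hi : orderOf i = 2) :
    i • (QuotientGroup.mk 1 : G ⧸ N) = QuotientGroup.mk u ↔ i * u ∈ N := by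
  rw [MulAction.Quotient.smul_mk, smul_eq_mul, mul_one, QuotientGroup.eq, inv_of_order_two hi]

theorem twoPt_inf_eq_bot {N A : Subgroup G} (hL : LocalData N A) (u : G) (huN : u ∉ N) :
    twoPt N u ⊓ A = ⊥ := by
  rw [eq_bot_iff]
  intro d hd
  rw [Subgroup.mem_inf, mem_twoPt_iff] at hd
  rw [Subgroup.mem_bot]
  have hu' : u⁻¹ ∉ N := fun h => huN (by simpa using N.inv_mem h)
  refine hL.semireg u⁻¹ hu' d hd.2 ?_
  rw [inv_inv]
  exact hd.1.2

theorem card_twoPt_le [Finite G] {N A : Subgroup G} (hL : LocalData N A) (u : G) (huN : u ∉ N) :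
    Nat.card ↥(twoPt N u) ≤ A.relIndex N := by
  have hDN : twoPt N u ≤ N := inf_le_left
  rw [Subgroup.relIndex, Subgroup.index]
  let f : ↥(twoPt N u) → (↥N ⧸ A.subgroupOf N) := fun d => QuotientGroup.mk ⟨d.1, hDN d.2⟩
  have hf : Function.Injective f := by
    intro d₁ d₂ h
    simp only [f] at h
    rw [QuotientGroup.eq, Subgroup.mem_subgroupOf] at h
    have h1 : (d₁.1)⁻¹ * d₂.1 ∈ A := by simpa using h
    have h2 : (d₁.1)⁻¹ * d₂.1 ∈ twoPt N u := (twoPt N u).mul_mem ((twoPt N u).inv_mem d₁.2) d₂.2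
    have h3 : (d₁.1)⁻¹ * d₂.1 ∈ twoPt N u ⊓ A := ⟨h2, h1⟩
    rw [twoPt_inf_eq_bot hL u huN, Subgroup.mem_bot] at h3
    apply Subtype.ext
    exact (inv_mul_eq_one.mp h3)
  exact Nat.card_le_card_of_injective f hf

/-- D1. -/
theorem twoPt_props [Finite G] {N A : Subgroup G} (hL : LocalData N A) (u : G)
    (hu : orderOf u = 2) (huN : u ∉ N) :
    Nat.card ↥(twoPt N u) = A.relIndex N ∧ twoPt N u ⊓ A = ⊥ ∧
      ∀ d ∈ twoPt N u, u * d * u⁻¹ = d⁻¹ := by
  classical
  have hne : (QuotientGroup.mk 1 : G ⧸ N) ≠ QuotientGroup.mk u := by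
    intro h
    rw [QuotientGroup.eq, inv_one, one_mul] at h
    exact huN h
  have hcount := Cfsg.Agent.S1224.result N hL.se (QuotientGroup.mk 1) (QuotientGroup.mk u) hne
  rw [hL.card_inv] at hcount
  -- the injection
  let f : {i : G // orderOf i = 2 ∧ i • (QuotientGroup.mk 1 : G ⧸ N) = QuotientGroup.mk u} →
      ↥(twoPt N u) := fun i =>
    ⟨u * i.1, (mul_mem_twoPt_iff hu i.2.1).mpr ((smul_mk_one_eq_mk_iff i.2.1).mp i.2.2)⟩
  have hf : Function.Injective f := by
    intro i j h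
    simp only [f, Subtype.mk.injEq] at h
    exact Subtype.ext (mul_left_cancel h)
  have hle := Nat.card_le_card_of_injective f hf
  rw [hcount] at hle
  have hcard : Nat.card ↥(twoPt N u) = A.relIndex N :=
    le_antisymm (card_twoPt_le hL u huN) hle
  refine ⟨hcard, twoPt_inf_eq_bot hL u huN, ?_⟩
  have hbij : Function.Bijective f := by
    rw [Nat.bijective_iff_injective_and_card]
    exact ⟨hf, by rw [hcount, hcard]⟩
  intro d hd
  obtain ⟨i, hi⟩ := hbij.2 ⟨d, hd⟩
  have hd' : d = u * i.1 := by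
    have := congrArg Subtype.val hi
    simpa [f] using this.symm
  rw [hd', mul_inv_rev, inv_of_order_two hu, inv_of_order_two i.2.1]
  have : u * u = 1 := mul_self_of_order_two hu
  calc u * (u * i.1) * u = (u * u) * i.1 * u := by group
    _ = i.1 * u := by rw [this, one_mul]

end Cfsg.Agent.Lib.Helper21_TIC_D1
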