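import Mathlib
import Cfsg.Agent.Lib.Helper21_TIC_D1

/-!
helper21: S4064 package D2: `N = (N ∩ uNu⁻¹) A` and the Frobenius property of `N ∩ uNu⁻¹` in `N`.
-/

set_option autoImplicit false

namespace Cfsg.Agent.Lib.Helper21_TIC_D2

open Cfsg Cfsg.Agent.Lib.Helper21_TICDefs Cfsg.Agent.Lib.Helper21_StronglyEmbedded
open Cfsg.Agent.Lib.Helper21_TIC_D1

variable {G : Type*} [Group G]

/-- Every element of `N` is a product `d * a` with `d ∈ N ∩ uNu⁻¹`, `a ∈ A`. -/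
theorem exists_mul_of_mem [Finite G] {N A : Subgroup G} (hL : LocalData N A) (u : G)
    (hu : orderOf u = 2) (huN : u ∉ N) (n : G) (hn : n ∈ N) :
    ∃ d ∈ twoPt N u, ∃ a ∈ A, n = d * a := by
  have hDN : twoPt N u ≤ N := inf_le_left
  let f : ↥(twoPt N u) → (↥N ⧸ A.subgroupOf N) := fun d => QuotientGroup.mk ⟨d.1, hDN d.2⟩
  have hf : Function.Injective f := by
    intro d₁ d₂ h
    simp only [f] at h
    rw [QuotientGroup.eq, Subgroup.mem_subgroupOf] at h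
    have h1 : (d₁.1)⁻¹ * d₂.1 ∈ A := by simpa using h
    have h2 : (d₁.1)⁻¹ * d₂.1 ∈ twoPt N u := (twoPt N u).mul_mem ((twoPt N u).inv_mem d₁.2) d₂.2
    have h3 : (d₁.1)⁻¹ * d₂.1 ∈ twoPt N u ⊓ A := ⟨h2, h1⟩
    rw [twoPt_inf_eq_bot hL u huN, Subgroup.mem_bot] at h3
    apply Subtype.ext
    exact (inv_mul_eq_one.mp h3)
  have hcard : Nat.card ↥(twoPt N u) = Nat.card (↥N ⧸ A.subgroupOf N) := by
    rw [(twoPt_props hL u hu huN).1, Subgroup.relIndex, Subgroup.index]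
  have hbij : Function.Bijective f := by
    rw [Nat.bijective_iff_injective_and_card]
    exact ⟨hf, hcard⟩
  obtain ⟨d, hd⟩ := hbij.2 (QuotientGroup.mk ⟨n, hn⟩)
  simp only [f] at hd
  rw [QuotientGroup.eq, Subgroup.mem_subgroupOf] at hd
  have h1 : (d.1)⁻¹ * n ∈ A := by simpa using hd
  exact ⟨d.1, d.2, (d.1)⁻¹ * n, h1, by group⟩

/-- D2. -/
theorem twoPt_frob [Finite G] {N A : Subgroup G} (hL : LocalData N A) (u : G)
    (hu : orderOf u = 2) (huN : u ∉ N) (n : G) (hn : n ∈ N) (hnD : n ∉ twoPt N u) (d : G)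
    (hd : d ∈ twoPt N u) (hd' : n * d * n⁻¹ ∈ twoPt N u) : d = 1 := by
  obtain ⟨d₀, hd₀, a, ha, rfl⟩ := exists_mul_of_mem hL u hu huN n hn
  have hDN : twoPt N u ≤ N := inf_le_left
  have ha1 : a ≠ 1 := by
    rintro rfl
    exact hnD (by simpa using hd₀)
  -- `a d a⁻¹ ∈ D`
  have h1 : a * d * a⁻¹ ∈ twoPt N u := by
    have := (twoPt N u).mul_mem ((twoPt N u).mul_mem ((twoPt N u).inv_mem hd₀) hd') hd₀
    have e : d₀⁻¹ * (d₀ * a * d * (d₀ * a)⁻¹) * d₀ = a * d * a⁻¹ := by group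
    rwa [e] at this
  -- `a d a⁻¹ d⁻¹ ∈ A ∩ D`
  have h2 : a * d * a⁻¹ * d⁻¹ ∈ A := by
    have h3 : d * a⁻¹ * d⁻¹ ∈ A := hL.conj_mem d (hDN hd) a⁻¹ (A.inv_mem ha)
    have e : a * d * a⁻¹ * d⁻¹ = a * (d * a⁻¹ * d⁻¹) := by group
    rw [e]
    exact A.mul_mem ha h3
  have h4 : a * d * a⁻¹ * d⁻¹ ∈ twoPt N u ⊓ A :=
    ⟨(twoPt N u).mul_mem h1 ((twoPt N u).inv_mem hd), h2⟩
  rw [twoPt_inf_eq_bot hL u huN, Subgroup.mem_bot] at h4
  -- so `a` and `d` commute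
  have hcomm : a * d = d * a := by
    have : a * d * a⁻¹ = d := by
      have := mul_inv_eq_one.mp h4
      exact this
    calc a * d = a * d * a⁻¹ * a := by group
      _ = d * a := by rw [this]
  have hdA : d ∈ A := by
    apply hL.cent_le a ha ha1
    rw [Subgroup.mem_centralizer_iff]
    intro h hh
    rw [Set.mem_singleton_iff] at hh
    subst hh
    exact hcomm
  have : d ∈ twoPt N u ⊓ A := ⟨hd, hdA⟩
  rwa [twoPt_inf_eq_bot hL u huN, Subgroup.mem_bot] at this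

end Cfsg.Agent.Lib.Helper21_TIC_D2
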