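import Mathlib
import Cfsg.Agent.Lib.Helper21_TIC_D2

/-!
helper21: S4064 package D3: a nonidentity element of `N ∩ uNu⁻¹` fixes exactly two cosets.
-/

set_option autoImplicit false

namespace Cfsg.Agent.Lib.Helper21_TIC_D3

open Cfsg Cfsg.Agent.Lib.Helper21_TICDefs Cfsg.Agent.Lib.Helper21_StronglyEmbedded
open Cfsg.Agent.Lib.Helper21_TIC_D1 Cfsg.Agent.Lib.Helper21_TIC_D2

variable {G : Type*} [Group G]

/-- The stabilizer of `{d, d⁻¹}` under conjugation. -/
def invStab (d : G) : Subgroup G where
  carrier := {g | g * d * g⁻¹ = d ∨ g * d * g⁻¹ = d⁻¹}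
  one_mem' := by simp
  mul_mem' := by
    intro a b ha hb
    have e : a * b * d * (a * b)⁻¹ = a * (b * d * b⁻¹) * a⁻¹ := by group
    have e' : a * d⁻¹ * a⁻¹ = (a * d * a⁻¹)⁻¹ := by group
    simp only [Set.mem_ofPred_eq] at ha hb ⊢
    rw [e]
    rcases hb with hb | hb <;> rcases ha with ha | ha
    · left; rw [hb, ha]
    · right; rw [hb, ha]
    · right; rw [hb, e', ha]
    · left; rw [hb, e', ha, inv_inv]
  inv_mem' := by
    intro a ha
    simp only [Set.mem_ofPred_eq] at ha ⊢
    rw [inv_inv]
    rcases ha with ha | ha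
    · left
      calc a⁻¹ * d * a = a⁻¹ * (a * d * a⁻¹) * a := by rw [ha]
        _ = d := by group
    · right
      have : d = (a * d * a⁻¹)⁻¹ := by rw [ha, inv_inv]
      calc a⁻¹ * d * a = a⁻¹ * (a * d * a⁻¹)⁻¹ * a := by rw [← this]
        _ = d⁻¹ := by group

theorem mem_invStab {d g : G} : g ∈ invStab d ↔ g * d * g⁻¹ = d ∨ g * d * g⁻¹ = d⁻¹ := Iff.rfl

theorem centralizer_le_invStab (d : G) : Subgroup.centralizer ({d} : Set G) ≤ invStab d := by
  intro g hg
  rw [Subgroup.mem_centralizer_iff] at hg
  have := hg d rfl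
  rw [mem_invStab]
  left
  rw [← this]
  group

/-- An element of `N ∩ uNu⁻¹` has odd order. -/
theorem odd_orderOf_of_mem_twoPt [Finite G] {N : Subgroup G} (hse : IsStronglyEmbedded N) {u d : G}
    (huN : u ∉ N) (hd : d ∈ twoPt N u) : Odd (orderOf d) := by
  have hodd := hse.2.2 u huN
  have h := orderOf_dvd_natCard (⟨d, hd⟩ : ↥(twoPt N u))
  rw [Subgroup.orderOf_mk] at h
  exact Odd.of_dvd_nat hodd h

theorem ne_inv_of_odd {d : G} (hodd : Odd (orderOf d)) (hd1 : d ≠ 1) : d ≠ d⁻¹ := by
  intro h
  have h2 : d ^ 2 = 1 := by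
    rw [pow_two]
    nth_rewrite 2 [h]
    exact mul_inv_cancel d
  have hdvd : orderOf d ∣ 2 := orderOf_dvd_of_pow_eq_one h2
  have h1 : orderOf d = 1 := by
    rcases (Nat.dvd_prime Nat.prime_two).mp hdvd with h | h
    · exact h
    · rw [h] at hodd; exact absurd hodd (by decide)
  exact hd1 (orderOf_eq_one_iff.mp h1)

/-- D3, counting form: at most one fixed coset besides the base coset. -/
theorem card_fixed_le_one [Finite G] {N A : Subgroup G} (hL : LocalData N A) (u : G)
    (hu : orderOf u = 2) (huN : u ∉ N) (d : G) (hd : d ∈ twoPt N u) (hd1 : d ≠ 1) :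
    Nat.card {x : G ⧸ N // d • x = x ∧ x ≠ (QuotientGroup.mk 1 : G ⧸ N)} ≤ 1 := by
  classical
  set o : G ⧸ N := QuotientGroup.mk 1 with ho
  set e := A.relIndex N with he
  have he2 : 2 ≤ e := hL.two_le
  have hD := twoPt_props hL u hu huN
  have hdN : d ∈ N := (mem_twoPt_iff.mp hd).1
  have hodd : Odd (orderOf d) := odd_orderOf_of_mem_twoPt hL.se huN hd
  have hdinv : d ≠ d⁻¹ := ne_inv_of_odd hodd hd1
  -- every involution mapping `o` to a fixed point `x ≠ o` inverts `d`
  have hinvert : ∀ x : G ⧸ N, d • x = x → x ≠ o → ∀ i : G, orderOf i = 2 → i • o = x →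
      i * d * i⁻¹ = d⁻¹ := by
    intro x hx hxo i hi hix
    have hxi : x = QuotientGroup.mk i := by
      rw [← hix, ho, MulAction.Quotient.smul_mk, smul_eq_mul, mul_one]
    have hiN : i ∉ N := by
      intro h
      apply hxo
      rw [hxi, ho, eq_comm, QuotientGroup.eq, inv_one, one_mul]
      exact h
    have hdi : d ∈ twoPt N i := by
      refine ⟨hdN, ?_⟩
      rw [hxi] at hx
      exact smul_mk_eq_mk_iff'.mp hx
    exact (twoPt_props hL i hi hiN).2.2 d hdi
  have hud : u * d * u⁻¹ = d⁻¹ := hD.2.2 d hd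
  -- the sigma type of involutions
  let FixM := {x : G ⧸ N // d • x = x ∧ x ≠ o}
  let Inv : FixM → Type _ := fun x => {i : G // orderOf i = 2 ∧ i • o = x.1}
  have hInvcard : ∀ x : FixM, Nat.card (Inv x) = e := by
    intro x
    have := Cfsg.Agent.S1224.result N hL.se o x.1 (Ne.symm x.2.2)
    rw [hL.card_inv] at this
    exact this
  have : Fintype FixM := Fintype.ofFinite _
  have hsigma : Nat.card (Σ x : FixM, Inv x) = Nat.card FixM * e := by
    rw [Nat.card_sigma]
    simp only [hInvcard]
    rw [Finset.sum_const, Finset.card_univ, smul_eq_mul, Nat.card_eq_fintype_card]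
  -- injection into the centralizer of `d`
  let f : (Σ x : FixM, Inv x) → ↥(Subgroup.centralizer ({d} : Set G)) := fun p =>
    ⟨u * p.2.1, by
      rw [Subgroup.mem_centralizer_iff]
      intro h hh
      rw [Set.mem_singleton_iff] at hh
      subst hh
      have h1 := hinvert p.1.1 p.1.2.1 p.1.2.2 p.2.1 p.2.2.1 p.2.2.2
      -- u i d = u d⁻¹ i = d u i
      have h2 : p.2.1 * h = h⁻¹ * p.2.1 := by
        calc p.2.1 * h = p.2.1 * h * (p.2.1)⁻¹ * p.2.1 := by group
          _ = h⁻¹ * p.2.1 := by rw [h1]
      have h3 : u * h⁻¹ = h * u := by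
        have : u * h = h⁻¹ * u := by
          calc u * h = u * h * u⁻¹ * u := by group
            _ = h⁻¹ * u := by rw [hud]
        calc u * h⁻¹ = h * (h⁻¹ * u) * h⁻¹ := by group
          _ = h * (u * h) * h⁻¹ := by rw [this]
          _ = h * u := by group
      calc h * (u * p.2.1) = (h * u) * p.2.1 := by group
        _ = (u * h⁻¹) * p.2.1 := by rw [h3]
        _ = u * (h⁻¹ * p.2.1) := by group
        _ = u * (p.2.1 * h) := by rw [h2]
        _ = u * p.2.1 * h := by group⟩
  have hf : Function.Injective f := by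
    rintro ⟨x, i⟩ ⟨y, j⟩ h
    simp only [f, Subtype.mk.injEq] at h
    have hij : i.1 = j.1 := mul_left_cancel h
    have hxy : x = y := by
      apply Subtype.ext
      rw [← i.2.2, ← j.2.2, hij]
    subst hxy
    have : i = j := Subtype.ext hij
    rw [this]
  have hC : Nat.card FixM * e ≤ Nat.card ↥(Subgroup.centralizer ({d} : Set G)) := by
    rw [← hsigma]
    exact Nat.card_le_card_of_injective f hf
  -- `K = invStab d` has at least twice the order of the centralizer
  have huK : u ∈ invStab d := mem_invStab.mpr (Or.inr hud)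
  have huC : u ∉ Subgroup.centralizer ({d} : Set G) := by
    intro h
    rw [Subgroup.mem_centralizer_iff] at h
    have h1 := h d rfl
    apply hdinv
    calc d = d * u * u⁻¹ := by group
      _ = u * d * u⁻¹ := by rw [h1]
      _ = d⁻¹ := hud
  have hlt : Subgroup.centralizer ({d} : Set G) < invStab d :=
    lt_of_le_of_ne (centralizer_le_invStab d) (fun h => huC (h ▸ huK))
  have hK2 : 2 * Nat.card ↥(Subgroup.centralizer ({d} : Set G)) ≤ Nat.card ↥(invStab d) := by
    obtain ⟨k, hk⟩ := Subgroup.card_dvd_of_le hlt.le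
    have hpos : 0 < Nat.card ↥(Subgroup.centralizer ({d} : Set G)) := Nat.card_pos
    have hne : Nat.card ↥(Subgroup.centralizer ({d} : Set G)) ≠ Nat.card ↥(invStab d) := by
      intro h
      exact hlt.ne (Subgroup.eq_of_le_of_card_ge hlt.le h.ge)
    have hk2 : 2 ≤ k := by
      by_contra hlt2
      have h01 : k = 0 ∨ k = 1 := by omega
      rcases h01 with rfl | rfl
      · rw [mul_zero] at hk
        have : 0 < Nat.card ↥(invStab d) := Nat.card_pos
        omega
      · rw [mul_one] at hk
        exact hne hk.symm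
    rw [hk, mul_comm]
    exact Nat.mul_le_mul_left _ hk2
  -- orbit–stabilizer for `K` acting on the cosets
  have hKle : Nat.card ↥(invStab d) ≤ (Nat.card FixM + 1) * e := by
    let K := invStab d
    -- the orbit lies in the fixed points
    have horb : Nat.card (MulAction.orbit ↥K o) ≤ Nat.card FixM + 1 := by
      let g : MulAction.orbit ↥K o → Option FixM := fun y =>
        if hy : y.1 = o then none else some ⟨y.1, by
          obtain ⟨k, hk⟩ := y.2
          refine ⟨?_, hy⟩
          rw [← hk]
          change d • ((k : G) • o) = (k : G) • o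
          rw [← mul_smul]
          have hkd : (k : G)⁻¹ * d * (k : G) ∈ N := by
            have hk' := K.inv_mem k.2
            rcases mem_invStab.mp hk' with h | h
            · rw [inv_inv] at h; rw [h]; exact hdN
            · rw [inv_inv] at h; rw [h]; exact N.inv_mem hdN
          have : d * (k : G) = (k : G) * ((k : G)⁻¹ * d * (k : G)) := by group
          rw [this, mul_smul]
          congr 1
          exact smul_mk_one_eq_iff.mpr hkd⟩
      have hg : Function.Injective g := by
        intro y₁ y₂ h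
        by_cases h1 : y₁.1 = o <;> by_cases h2 : y₂.1 = o
        · exact Subtype.ext (h1.trans h2.symm)
        · simp [g, h1, h2] at h
        · simp [g, h1, h2] at h
        · simp only [g, h1, h2, dite_false, Option.some.injEq] at h
          exact Subtype.ext (Subtype.mk.inj h)
      have := Nat.card_le_card_of_injective g hg
      rwa [Nat.card_eq_fintype_card (α := Option FixM), Fintype.card_option,
        ← Nat.card_eq_fintype_card] at this
    -- the stabilizer injects into `twoPt N u`
    have hstab : Nat.card (MulAction.stabilizer ↥K o) ≤ e := by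
      rw [he, ← hD.1]
      let g : MulAction.stabilizer ↥K o → ↥(twoPt N u) := fun k => ⟨(k.1 : G), by
        have hkN : (k.1 : G) ∈ N := by
          have := k.2
          rw [MulAction.mem_stabilizer_iff] at this
          exact smul_mk_one_eq_iff.mp this
        by_contra hkD
        have hk' : (k.1 : G) * d * (k.1 : G)⁻¹ ∈ twoPt N u := by
          rcases mem_invStab.mp k.1.2 with h | h
          · rw [h]; exact hd
          · rw [h]; exact (twoPt N u).inv_mem hd
        exact hd1 (twoPt_frob hL u hu huN _ hkN hkD d hd hk')⟩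
      have hg : Function.Injective g := by
        intro k₁ k₂ h
        simp only [g, Subtype.mk.injEq] at h
        exact Subtype.ext (Subtype.ext h)
      exact Nat.card_le_card_of_injective g hg
    have hos' : Nat.card (MulAction.orbit ↥K o) * Nat.card (MulAction.stabilizer ↥K o) =
        Nat.card ↥K := by
      rw [Nat.card_congr (MulAction.orbitEquivQuotientStabilizer ↥K o)]
      exact (Subgroup.card_eq_card_quotient_mul_card_subgroup _).symm
    rw [← hos']
    exact Nat.mul_le_mul horb hstab
  -- arithmetic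
  have hfin : 2 * (Nat.card FixM * e) ≤ (Nat.card FixM + 1) * e := by
    calc 2 * (Nat.card FixM * e) ≤ 2 * Nat.card ↥(Subgroup.centralizer ({d} : Set G)) :=
          Nat.mul_le_mul_left _ hC
      _ ≤ Nat.card ↥(invStab d) := hK2
      _ ≤ (Nat.card FixM + 1) * e := hKle
  have hepos : 0 < e := by omega
  have : 2 * Nat.card FixM ≤ Nat.card FixM + 1 := by
    have h1 : (2 * Nat.card FixM) * e ≤ (Nat.card FixM + 1) * e := by
      rw [mul_assoc]; exact hfin
    exact Nat.le_of_mul_le_mul_right h1 hepos
  change Nat.card FixM ≤ 1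
  omega

/-- D3. -/
theorem fixed_of_twoPt [Finite G] {N A : Subgroup G} (hL : LocalData N A) (u : G)
    (hu : orderOf u = 2) (huN : u ∉ N) (d : G) (hd : d ∈ twoPt N u) (hd1 : d ≠ 1)
    (x : G ⧸ N) (hx : d • x = x) :
    x = (QuotientGroup.mk 1 : G ⧸ N) ∨ x = (QuotientGroup.mk u : G ⧸ N) := by
  by_cases hxo : x = (QuotientGroup.mk 1 : G ⧸ N)
  · exact Or.inl hxo
  right
  have hle := card_fixed_le_one hL u hu huN d hd hd1
  have hsub := (Finite.card_le_one_iff_subsingleton).mp hle
  have hu_ne : (QuotientGroup.mk u : G ⧸ N) ≠ QuotientGroup.mk 1 := by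
    intro h
    rw [eq_comm, QuotientGroup.eq, inv_one, one_mul] at h
    exact huN h
  have hufix : d • (QuotientGroup.mk u : G ⧸ N) = QuotientGroup.mk u :=
    smul_mk_eq_mk_iff'.mpr hd.2
  have := hsub.elim ⟨x, hx, hxo⟩ ⟨QuotientGroup.mk u, hufix, hu_ne⟩
  exact congrArg Subtype.val this

end Cfsg.Agent.Lib.Helper21_TIC_D3
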