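import Mathlib
import Cfsg.Agent.Lib.Helper21_TIC_D3

/-!
helper21: S4064 package D4: `|G : N| = |A| + 1` and `A` is regular on the cosets other than `N`.
-/

set_option autoImplicit false

namespace Cfsg.Agent.Lib.Helper21_TIC_D4

open Cfsg Cfsg.Agent.Lib.Helper21_TICDefs Cfsg.Agent.Lib.Helper21_StronglyEmbedded
open Cfsg.Agent.Lib.Helper21_TIC_D1 Cfsg.Agent.Lib.Helper21_TIC_D2 Cfsg.Agent.Lib.Helper21_TIC_D3

variable {G : Type*} [Group G]

theorem card_subtype_ne_one' (α : Type*) [Group α] [Finite α] :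
    Nat.card {x : α // x ≠ 1} = Nat.card α - 1 := by
  classical
  have : Fintype α := Fintype.ofFinite α
  rw [Nat.card_eq_fintype_card, Nat.card_eq_fintype_card, Fintype.card_subtype_compl,
    Fintype.card_subtype_eq]

theorem relIndex_mul_card [Finite G] {A N : Subgroup G} (h : A ≤ N) :
    A.relIndex N * Nat.card A = Nat.card N := by
  rw [Subgroup.relIndex, mul_comm]
  have := Subgroup.card_mul_index (A.subgroupOf N)
  rw [Nat.card_congr (Subgroup.subgroupOfEquivOfLe h).toEquiv] at this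
  exact this

/-- Every coset other than `N` is `u • N` for an involution `u ∉ N`. -/
theorem exists_involution_of_ne [Finite G] {N A : Subgroup G} (hL : LocalData N A) (x : G ⧸ N)
    (hx : x ≠ (QuotientGroup.mk 1 : G ⧸ N)) :
    ∃ u : G, orderOf u = 2 ∧ u ∉ N ∧ x = (QuotientGroup.mk u : G ⧸ N) := by
  have hcount := Cfsg.Agent.S1224.result N hL.se (QuotientGroup.mk 1) x (Ne.symm hx)
  rw [hL.card_inv] at hcount
  have hpos : 0 < Nat.card {i : G // orderOf i = 2 ∧ i • (QuotientGroup.mk 1 : G ⧸ N) = x} := by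
    rw [hcount]; have := hL.two_le; omega
  obtain ⟨⟨i, hi, hix⟩⟩ := (Nat.card_pos_iff.mp hpos).1
  have hxi : x = QuotientGroup.mk i := by
    rw [← hix, MulAction.Quotient.smul_mk, smul_eq_mul, mul_one]
  refine ⟨i, hi, ?_, hxi⟩
  intro h
  apply hx
  rw [hxi, eq_comm, QuotientGroup.eq, inv_one, one_mul]
  exact h

/-- `A` acts freely on the cosets other than `N`. -/
theorem eq_one_of_smul_eq [Finite G] {N A : Subgroup G} (hL : LocalData N A) (x : G ⧸ N)
    (hx : x ≠ (QuotientGroup.mk 1 : G ⧸ N)) (a : G) (ha : a ∈ A) (hax : a • x = x) : a = 1 := by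
  induction x using QuotientGroup.induction_on with
  | H g =>
    have hg : g ∉ N := by
      intro h
      apply hx
      rw [eq_comm, QuotientGroup.eq, inv_one, one_mul]
      exact h
    have hg' : g⁻¹ ∉ N := fun h => hg (by simpa using N.inv_mem h)
    have h1 : g⁻¹ * a * g ∈ N := smul_mk_eq_mk_iff.mp hax
    refine hL.semireg g⁻¹ hg' a ha ?_
    rw [inv_inv]
    exact h1

theorem smul_ne_one_of_mem {N : Subgroup G} (x : G ⧸ N)
    (hx : x ≠ (QuotientGroup.mk 1 : G ⧸ N)) (n : G) (hn : n ∈ N) :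
    n • x ≠ (QuotientGroup.mk 1 : G ⧸ N) := by
  intro h
  apply hx
  have h1 : n⁻¹ • (n • x) = n⁻¹ • (QuotientGroup.mk 1 : G ⧸ N) := by rw [h]
  rw [inv_smul_smul] at h1
  rw [h1]
  exact smul_mk_one_eq_iff.mpr (N.inv_mem hn)

/-- The number of cosets other than `N` is at most `|A|`. -/
theorem card_ne_le [Finite G] {N A : Subgroup G} (hL : LocalData N A) :
    Nat.card {x : G ⧸ N // x ≠ (QuotientGroup.mk 1 : G ⧸ N)} ≤ Nat.card A := by
  classical
  set o : G ⧸ N := QuotientGroup.mk 1 with ho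
  set e := A.relIndex N with he
  have he2 : 2 ≤ e := hL.two_le
  let Om := {x : G ⧸ N // x ≠ o}
  let T : Om → Type _ := fun x => {n : G // n ∈ N ∧ n • x.1 = x.1 ∧ n ≠ 1}
  have hT : ∀ x : Om, Nat.card (T x) = e - 1 := by
    intro x
    obtain ⟨u, hu, huN, hxu⟩ := exists_involution_of_ne hL x.1 x.2
    have hD := twoPt_props hL u hu huN
    have key : ∀ n : G, n • x.1 = x.1 ↔ n ∈ N.map (MulAut.conj u).toMonoidHom := by
      intro n
      rw [hxu]
      exact smul_mk_eq_mk_iff'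
    rw [he, ← hD.1, ← card_subtype_ne_one']
    refine Nat.card_congr ⟨fun n => ⟨⟨n.1, ⟨n.2.1, (key n.1).mp n.2.2.1⟩⟩, ?_⟩,
      fun d => ⟨d.1.1, ⟨d.1.2.1, (key d.1.1).mpr d.1.2.2, fun h => d.2 (Subtype.ext h)⟩⟩, ?_, ?_⟩
    · intro h
      exact n.2.2.2 (congrArg Subtype.val h)
    · intro n; rfl
    · intro d; rfl
  have : Fintype Om := Fintype.ofFinite _
  have hsigma : Nat.card (Σ x : Om, T x) = Nat.card Om * (e - 1) := by
    rw [Nat.card_sigma]
    simp only [hT]
    rw [Finset.sum_const, Finset.card_univ, smul_eq_mul, Nat.card_eq_fintype_card]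
  -- injection into `N \ A`
  let f : (Σ x : Om, T x) → {n : ↥N // (n : G) ∉ A} := fun p =>
    ⟨⟨p.2.1, p.2.2.1⟩, by
      intro hA
      exact p.2.2.2.2 (eq_one_of_smul_eq hL p.1.1 p.1.2 p.2.1 hA p.2.2.2.1)⟩
  have hf : Function.Injective f := by
    rintro ⟨x, n⟩ ⟨y, m⟩ h
    simp only [f, Subtype.mk.injEq] at h
    have hnm : n.1 = m.1 := h
    have hxy : x = y := by
      obtain ⟨u, hu, huN, hxu⟩ := exists_involution_of_ne hL x.1 x.2
      have key : ∀ n : G, n • x.1 = x.1 ↔ n ∈ N.map (MulAut.conj u).toMonoidHom := by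
        intro n
        rw [hxu]
        exact smul_mk_eq_mk_iff'
      have hn_mem : n.1 ∈ twoPt N u := ⟨n.2.1, (key n.1).mp n.2.2.1⟩
      have hy_fix : n.1 • y.1 = y.1 := by rw [hnm]; exact m.2.2.1
      rcases fixed_of_twoPt hL u hu huN n.1 hn_mem n.2.2.2 y.1 hy_fix with h1 | h1
      · exact absurd h1 y.2
      · exact Subtype.ext (hxu.trans h1.symm)
    subst hxy
    have : n = m := Subtype.ext hnm
    rw [this]
  have hle := Nat.card_le_card_of_injective f hf
  rw [hsigma] at hle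
  -- `|N \ A| = |A| (e - 1)`
  have hNA : Nat.card {n : ↥N // (n : G) ∉ A} = Nat.card A * (e - 1) := by
    have h1 : Nat.card {n : ↥N // (n : G) ∈ A} = Nat.card A := by
      refine Nat.card_congr ⟨fun n => ⟨n.1.1, n.2⟩, fun a => ⟨⟨a.1, hL.le a.2⟩, a.2⟩, ?_, ?_⟩
      · intro n; rfl
      · intro a; rfl
    have : Fintype ↥N := Fintype.ofFinite _
    have h2 : Nat.card {n : ↥N // (n : G) ∉ A} = Nat.card ↥N - Nat.card A := by
      rw [← h1, Nat.card_eq_fintype_card, Nat.card_eq_fintype_card, Nat.card_eq_fintype_card,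
        Fintype.card_subtype_compl]
    rw [h2, ← relIndex_mul_card hL.le, ← he, Nat.mul_sub, mul_one, mul_comm]
  rw [hNA] at hle
  have hpos : 0 < e - 1 := by omega
  exact Nat.le_of_mul_le_mul_right hle hpos

/-- `N` is a proper subgroup: there is a coset other than `N`. -/
theorem exists_ne [Finite G] {N A : Subgroup G} (hL : LocalData N A) :
    ∃ x : G ⧸ N, x ≠ (QuotientGroup.mk 1 : G ⧸ N) := by
  have hne : N ≠ ⊤ := hL.se.1
  obtain ⟨g, hg⟩ : ∃ g : G, g ∉ N := by
    by_contra h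
    push Not at h
    exact hne (eq_top_iff.mpr fun g _ => h g)
  refine ⟨QuotientGroup.mk g, ?_⟩
  intro h
  rw [eq_comm, QuotientGroup.eq, inv_one, one_mul] at h
  exact hg h

/-- For `x ≠ N` the orbit map `A → {cosets ≠ N}` is bijective. -/
theorem orbitMap_bijective [Finite G] {N A : Subgroup G} (hL : LocalData N A) (x : G ⧸ N)
    (hx : x ≠ (QuotientGroup.mk 1 : G ⧸ N)) :
    Function.Bijective (fun a : A =>
      (⟨(a : G) • x, smul_ne_one_of_mem x hx a.1 (hL.le a.2)⟩ :
        {y : G ⧸ N // y ≠ (QuotientGroup.mk 1 : G ⧸ N)})) := by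
  have hinj : Function.Injective (fun a : A =>
      (⟨(a : G) • x, smul_ne_one_of_mem x hx a.1 (hL.le a.2)⟩ :
        {y : G ⧸ N // y ≠ (QuotientGroup.mk 1 : G ⧸ N)})) := by
    intro a b h
    simp only [Subtype.mk.injEq] at h
    have h1 : ((b : G)⁻¹ * (a : G)) • x = x := by
      rw [mul_smul, h, inv_smul_smul]
    have h2 := eq_one_of_smul_eq hL x hx _ (A.mul_mem (A.inv_mem b.2) a.2) h1
    apply Subtype.ext
    exact (inv_mul_eq_one.mp h2).symm
  have hle := Nat.card_le_card_of_injective _ hinj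
  have hge := card_ne_le hL
  rw [Nat.bijective_iff_injective_and_card]
  exact ⟨hinj, le_antisymm hle hge⟩

/-- D4a. -/
theorem card_quotient [Finite G] {N A : Subgroup G} (hL : LocalData N A) :
    Nat.card (G ⧸ N) = Nat.card A + 1 := by
  classical
  obtain ⟨x, hx⟩ := exists_ne hL
  have hb := orbitMap_bijective hL x hx
  have h1 : Nat.card A = Nat.card {y : G ⧸ N // y ≠ (QuotientGroup.mk 1 : G ⧸ N)} :=
    Nat.card_congr (Equiv.ofBijective _ hb)
  have : Fintype (G ⧸ N) := Fintype.ofFinite _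
  rw [h1, Nat.card_eq_fintype_card, Nat.card_eq_fintype_card, Fintype.card_subtype_compl,
    Fintype.card_subtype_eq]
  have : 0 < Fintype.card (G ⧸ N) := Fintype.card_pos
  omega

/-- D4b. -/
theorem regular_A [Finite G] {N A : Subgroup G} (hL : LocalData N A) (x y : G ⧸ N)
    (hx : x ≠ (QuotientGroup.mk 1 : G ⧸ N)) (hy : y ≠ (QuotientGroup.mk 1 : G ⧸ N)) :
    ∃! a : A, (a : G) • x = y := by
  have hb := orbitMap_bijective hL x hx
  obtain ⟨a, ha⟩ := hb.2 ⟨y, hy⟩
  refine ⟨a, congrArg Subtype.val ha, ?_⟩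
  intro b hb'
  apply hb.1
  apply Subtype.ext
  change (b : G) • x = (a : G) • x
  rw [hb']
  exact (congrArg Subtype.val ha).symm

end Cfsg.Agent.Lib.Helper21_TIC_D4
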