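import Mathlib
import Cfsg.Agent.Lib.Helper21_TIC_D4

/-!
helper21: S4064 package D5: `G` is doubly transitive on the cosets of `N` and only the identity fixes
three cosets.
-/

set_option autoImplicit false

namespace Cfsg.Agent.Lib.Helper21_TIC_D5

open Cfsg Cfsg.Agent.Lib.Helper21_TICDefs Cfsg.Agent.Lib.Helper21_StronglyEmbedded
open Cfsg.Agent.Lib.Helper21_TIC_D1 Cfsg.Agent.Lib.Helper21_TIC_D2 Cfsg.Agent.Lib.Helper21_TIC_D3
open Cfsg.Agent.Lib.Helper21_TIC_D4

variable {G : Type*} [Group G]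

theorem exists_smul_eq_one {N : Subgroup G} (a : G ⧸ N) :
    ∃ g : G, g • a = (QuotientGroup.mk 1 : G ⧸ N) := by
  induction a using QuotientGroup.induction_on with
  | H k =>
    refine ⟨k⁻¹, ?_⟩
    rw [MulAction.Quotient.smul_mk, smul_eq_mul, inv_mul_cancel]

/-- D5a. -/
theorem two_trans [Finite G] {N A : Subgroup G} (hL : LocalData N A) :
    MulAction.IsMultiplyPretransitive G (G ⧸ N) 2 := by
  rw [MulAction.is_two_pretransitive_iff]
  intro a b c d hab hcd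
  obtain ⟨g₁, hg₁⟩ := exists_smul_eq_one (N := N) a
  obtain ⟨g₂, hg₂⟩ := exists_smul_eq_one (N := N) c
  have hb' : g₁ • b ≠ (QuotientGroup.mk 1 : G ⧸ N) := by
    rw [← hg₁]
    intro h
    exact hab (MulAction.injective g₁ h).symm
  have hd' : g₂ • d ≠ (QuotientGroup.mk 1 : G ⧸ N) := by
    rw [← hg₂]
    intro h
    exact hcd (MulAction.injective g₂ h).symm
  obtain ⟨a₀, ha₀, -⟩ := regular_A hL (g₁ • b) (g₂ • d) hb' hd'
  have ha₀N : (a₀ : G) ∈ N := hL.le a₀.2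
  refine ⟨g₂⁻¹ * (a₀ : G) * g₁, ?_, ?_⟩
  · rw [mul_smul, mul_smul, hg₁, smul_mk_one_eq_iff.mpr ha₀N, ← hg₂, inv_smul_smul]
  · rw [mul_smul, mul_smul, ha₀, inv_smul_smul]

/-- D5b. -/
theorem three_fixed [Finite G] {N A : Subgroup G} (hL : LocalData N A) (g : G) (a b c : G ⧸ N)
    (hab : a ≠ b) (hbc : b ≠ c) (hac : a ≠ c) (ha : g • a = a) (hb : g • b = b) (hc : g • c = c) :
    g = 1 := by
  obtain ⟨g₁, hg₁⟩ := exists_smul_eq_one (N := N) a
  set g' := g₁ * g * g₁⁻¹ with hg'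
  have hfix : ∀ x : G ⧸ N, g • x = x → g' • (g₁ • x) = g₁ • x := by
    intro x hx
    rw [hg', mul_smul, mul_smul, inv_smul_smul, hx]
  have h1 : g' • (QuotientGroup.mk 1 : G ⧸ N) = QuotientGroup.mk 1 := by
    rw [← hg₁]; exact hfix a ha
  have hg'N : g' ∈ N := smul_mk_one_eq_iff.mp h1
  have hb' : g₁ • b ≠ (QuotientGroup.mk 1 : G ⧸ N) := by
    rw [← hg₁]
    intro h
    exact hab (MulAction.injective g₁ h).symm
  have hc' : g₁ • c ≠ (QuotientGroup.mk 1 : G ⧸ N) := by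
    rw [← hg₁]
    intro h
    exact hac (MulAction.injective g₁ h).symm
  obtain ⟨u, hu, huN, hbu⟩ := exists_involution_of_ne hL (g₁ • b) hb'
  have hg'u : g' ∈ twoPt N u := by
    refine ⟨hg'N, ?_⟩
    have := hfix b hb
    rw [hbu] at this
    exact smul_mk_eq_mk_iff'.mp this
  have hg'1 : g' = 1 := by
    by_contra hne
    rcases fixed_of_twoPt hL u hu huN g' hg'u hne (g₁ • c) (hfix c hc) with h | h
    · exact hc' h
    · rw [← hbu] at h
      exact hbc (MulAction.injective g₁ h).symm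
  have : g = g₁⁻¹ * g' * g₁ := by rw [hg']; group
  rw [this, hg'1]
  group

end Cfsg.Agent.Lib.Helper21_TIC_D5
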