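import Mathlib
import Cfsg.Prelude.Def_LieExceptional
import Cfsg.Agent.Lib.Helper25_CN
import Cfsg.Agent.S1477

/-!
CN-groups (helper31): a maximal nilpotent subgroup `H` of a finite CN-group with `p ∣ |H|` contains a
Sylow `p`-subgroup `S` of the group, and `H = C_G(z)` for every `1 ≠ z ∈ Z(S)`.  Hence two maximal
nilpotent subgroups are conjugate or of coprime orders.
-/

set_option autoImplicit false

namespace Cfsg.Agent.Lib.Helper31_CN

open Cfsg Cfsg.Agent.Lib.Helper25_CN Cfsg.Agent.S1477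

variable {G : Type*} [Group G] [Finite G]

/-- a maximal nilpotent subgroup `H` with `p ∣ |H|` contains a Sylow `p`-subgroup `S` of `G`, and is the
centralizer of every non-identity element of `Z(S)` -/
theorem exists_sylow_le (hCN : Cfsg.IsCNGroup G) (H : Subgroup G) (hH : Group.IsNilpotent H)
    (hmax : ∀ L : Subgroup G, Group.IsNilpotent L → H ≤ L → L = H) (p : ℕ) [hp : Fact p.Prime]
    (hpH : p ∣ Nat.card H) :
    ∃ S : Sylow p G, (S : Subgroup G) ≤ H ∧ ∀ z ∈ (S : Subgroup G), z ≠ 1 →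
      (∀ s ∈ (S : Subgroup G), z * s = s * z) → Subgroup.centralizer ({z} : Set G) = H := by
  obtain ⟨c₀', hc₀'⟩ := exists_prime_orderOf_dvd_card' (G := H) p hpH
  have hc₀1 : (c₀' : G) ≠ 1 := by
    intro h
    have : c₀' = 1 := Subtype.ext h
    rw [this, orderOf_one] at hc₀'
    exact hp.out.one_lt.ne hc₀'
  have hc₀p : (c₀' : G) ^ (p ^ 1) = 1 := by
    rw [pow_one]
    have : c₀' ^ p = 1 := by rw [← hc₀']; exact pow_orderOf_eq_one c₀'
    have := congrArg Subtype.val this
    simpa using this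
  obtain ⟨T, hTH, hTp, hT⟩ := exists_qPart H hH p
  obtain ⟨x, hxH, hx1, ⟨kx, hkx⟩, hx⟩ := exists_qCentral' H hH p (c₀' : G) c₀'.2 hc₀1 1 hc₀p
  have hCx := centralizer_eq hCN H hmax x hx1 hx
  obtain ⟨S, hTS⟩ := hTp.exists_le_sylow
  have hxT : x ∈ T := hT x hxH ⟨kx, hkx⟩
  have hxS : x ∈ (S : Subgroup G) := hTS hxT
  have key : ∀ z ∈ (S : Subgroup G), z ≠ 1 →
      (∀ s ∈ (S : Subgroup G), z * s = s * z) → Subgroup.centralizer ({z} : Set G) = H := by
    intro z hzS hz1 hzc
    have hzH : z ∈ H := by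
      rw [← hCx, Subgroup.mem_centralizer_singleton_iff]
      exact hzc x hxS
    obtain ⟨kz, hkz⟩ := S.2 ⟨z, hzS⟩
    have hkz' : z ^ (p ^ kz) = 1 := by
      have := congrArg Subtype.val hkz
      simpa using this
    have hzcH : ∀ h ∈ H, z * h = h * z :=
      commute_of_commute_pElements H hH p hp.out z hzH kz hkz'
        (fun h hh hhp => hzc h (hTS (hT h hh hhp)))
    exact centralizer_eq hCN H hmax z hz1 hzcH
  refine ⟨S, ?_, key⟩
  have : Nontrivial (S : Subgroup G) :=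
    ⟨⟨⟨x, hxS⟩, 1, fun h => hx1 (congrArg Subtype.val h)⟩⟩
  have hcen := IsPGroup.center_nontrivial S.2
  obtain ⟨z', hz'⟩ := exists_ne (1 : Subgroup.center (S : Subgroup G))
  have hz1 : ((z' : (S : Subgroup G)) : G) ≠ 1 := by
    intro h
    apply hz'
    apply Subtype.ext
    apply Subtype.ext
    simpa using h
  have hzS : ∀ s ∈ (S : Subgroup G),
      ((z' : (S : Subgroup G)) : G) * s = s * ((z' : (S : Subgroup G)) : G) := by
    intro s hs
    have := Subgroup.mem_center_iff.mp z'.2 ⟨s, hs⟩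
    have := congrArg Subtype.val this
    simp only [Subgroup.coe_mul] at this
    exact this.symm
  have hCz := key _ (z' : (S : Subgroup G)).2 hz1 hzS
  rw [← hCz]
  intro s hs
  rw [Subgroup.mem_centralizer_singleton_iff]
  exact (hzS s hs).symm

/-- two maximal nilpotent subgroups of a CN-group whose orders have a common prime divisor are
conjugate -/
theorem conj_of_dvd (hCN : Cfsg.IsCNGroup G) (H₁ H₂ : Subgroup G) (h₁ : Group.IsNilpotent H₁)
    (hmax₁ : ∀ L : Subgroup G, Group.IsNilpotent L → H₁ ≤ L → L = H₁) (h₂ : Group.IsNilpotent H₂)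
    (hmax₂ : ∀ L : Subgroup G, Group.IsNilpotent L → H₂ ≤ L → L = H₂) (p : ℕ) [hp : Fact p.Prime]
    (hp₁ : p ∣ Nat.card H₁) (hp₂ : p ∣ Nat.card H₂) :
    ∃ g : G, H₂ = H₁.map (MulAut.conj g).toMonoidHom := by
  obtain ⟨S₁, hS₁, hc₁⟩ := exists_sylow_le hCN H₁ h₁ hmax₁ p hp₁
  obtain ⟨S₂, hS₂, hc₂⟩ := exists_sylow_le hCN H₂ h₂ hmax₂ p hp₂
  obtain ⟨g, hg⟩ := MulAction.exists_smul_eq G S₁ S₂
  refine ⟨g, ?_⟩
  -- a non-identity central element of `S₁`
  have hS₁ne : Nontrivial (S₁ : Subgroup G) := by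
    rw [Subgroup.nontrivial_iff_ne_bot]
    intro hbot
    have h1 : Nat.card (S₁ : Subgroup G) = 1 := by rw [hbot]; exact Subgroup.card_bot
    have h2 := S₁.card_eq_multiplicity
    have hdvd : p ∣ Nat.card G := dvd_trans hp₁ (Subgroup.card_subgroup_dvd_card H₁)
    rw [h1] at h2
    have hfac : (Nat.card G).factorization p ≠ 0 := by
      have hpos : 0 < (Nat.card G).factorization p :=
        (hp.out.factorization_pos_of_dvd Nat.card_pos.ne' hdvd)
      exact hpos.ne'
    have : p ^ (Nat.card G).factorization p = 1 := h2.symm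
    rcases Nat.pow_eq_one.mp this with h3 | h3
    · exact hp.out.one_lt.ne' h3
    · exact hfac h3
  have hcen := IsPGroup.center_nontrivial S₁.2
  obtain ⟨z', hz'⟩ := exists_ne (1 : Subgroup.center (S₁ : Subgroup G))
  set z : G := ((z' : (S₁ : Subgroup G)) : G) with hz
  have hz1 : z ≠ 1 := by
    intro h
    apply hz'
    have h2 : (z' : (S₁ : Subgroup G)) = 1 := Subtype.ext h
    exact Subtype.ext h2
  have hzS : ∀ s ∈ (S₁ : Subgroup G), z * s = s * z := by
    intro s hs
    have := Subgroup.mem_center_iff.mp z'.2 ⟨s, hs⟩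
    have := congrArg Subtype.val this
    simp only [Subgroup.coe_mul] at this
    exact this.symm
  have hC₁ : Subgroup.centralizer ({z} : Set G) = H₁ := hc₁ z (z' : (S₁ : Subgroup G)).2 hz1 hzS
  -- transport to `S₂`
  have hmem : ∀ s : G, s ∈ (S₂ : Subgroup G) ↔ g⁻¹ * s * g ∈ (S₁ : Subgroup G) := by
    intro s
    rw [← hg, Sylow.coe_subgroup_smul, Subgroup.mem_pointwise_smul_iff_inv_smul_mem]
    simp [MulAut.smul_def]
  have hgz2 : g * z * g⁻¹ ∈ (S₂ : Subgroup G) := by
    rw [hmem]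
    have : g⁻¹ * (g * z * g⁻¹) * g = z := by group
    rw [this]; exact (z' : (S₁ : Subgroup G)).2
  have hgz1 : g * z * g⁻¹ ≠ 1 := by
    intro h
    apply hz1
    have : z = g⁻¹ * (g * z * g⁻¹) * g := by group
    rw [this, h]; group
  have hgzc : ∀ s ∈ (S₂ : Subgroup G), g * z * g⁻¹ * s = s * (g * z * g⁻¹) := by
    intro s hs
    have h1 := hzS _ ((hmem s).mp hs)
    calc g * z * g⁻¹ * s = g * (z * (g⁻¹ * s * g)) * g⁻¹ := by group
      _ = g * ((g⁻¹ * s * g) * z) * g⁻¹ := by rw [h1]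
      _ = s * (g * z * g⁻¹) := by group
  have hC₂ : Subgroup.centralizer ({g * z * g⁻¹} : Set G) = H₂ := hc₂ _ hgz2 hgz1 hgzc
  rw [← hC₂, ← hC₁]
  ext y
  rw [Subgroup.mem_centralizer_singleton_iff, Subgroup.mem_map]
  constructor
  · intro hy
    refine ⟨g⁻¹ * y * g, ?_, ?_⟩
    · rw [Subgroup.mem_centralizer_singleton_iff]
      calc g⁻¹ * y * g * z = g⁻¹ * (y * (g * z * g⁻¹)) * g := by group
        _ = g⁻¹ * ((g * z * g⁻¹) * y) * g := by rw [hy]
        _ = z * (g⁻¹ * y * g) := by group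
    · simp only [MulEquiv.coe_toMonoidHom, MulAut.conj_apply]; group
  · rintro ⟨w, hw, rfl⟩
    rw [Subgroup.mem_centralizer_singleton_iff] at hw
    simp only [MulEquiv.coe_toMonoidHom, MulAut.conj_apply]
    calc g * w * g⁻¹ * (g * z * g⁻¹) = g * (w * z) * g⁻¹ := by group
      _ = g * (z * w) * g⁻¹ := by rw [hw]
      _ = g * z * g⁻¹ * (g * w * g⁻¹) := by group

/-- every nilpotent subgroup of a finite group lies in a maximal nilpotent subgroup -/
theorem exists_max_nilpotent (C : Subgroup G) (hC : Group.IsNilpotent C) :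
    ∃ H : Subgroup G, C ≤ H ∧ Group.IsNilpotent H ∧
      ∀ L : Subgroup G, Group.IsNilpotent L → H ≤ L → L = H := by
  have hfin : {H : Subgroup G | Group.IsNilpotent H}.Finite := Set.toFinite _
  obtain ⟨b, hCb, hb⟩ := hfin.exists_le_maximal (a := C) hC
  exact ⟨b, hCb, hb.1, fun L hL hbL => le_antisymm (hb.2 hL hbL) hbL⟩

/-- a non-identity element whose cyclic group is a `p`-group has order divisible by `p` -/
theorem dvd_card_of_mem {p : ℕ} (hp : p.Prime) {x : G} (hx1 : x ≠ 1)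
    (hxp : IsPGroup p (Subgroup.zpowers x)) {H : Subgroup G} (hxH : x ∈ H) : p ∣ Nat.card H := by
  have : Fact p.Prime := ⟨hp⟩
  obtain ⟨k, hk⟩ := IsPGroup.iff_card.mp hxp
  rw [Nat.card_zpowers] at hk
  have hk0 : k ≠ 0 := by
    intro h0
    rw [h0, pow_zero] at hk
    exact hx1 (orderOf_eq_one_iff.mp hk)
  have h1 : p ∣ orderOf x := by rw [hk]; exact dvd_pow_self p hk0
  exact dvd_trans h1 (Subgroup.orderOf_dvd_natCard H hxH)

end Cfsg.Agent.Lib.Helper31_CN
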