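import Mathlib
import Cfsg.Prelude.Def_OddOrderLocal
import Cfsg.Prelude.Def_Solvable
import Cfsg.Prelude.Def_Transfer
import Cfsg.Agent.Lib.Helper1_Cores
import Cfsg.Agent.Lib.Helper25_CNSolv
import Cfsg.Agent.Lib.Helper32_Nilpotent

/-!
# Structure of three-step groups (helper31)

Elementary consequences of `Cfsg.IsThreeStepGroup p X` (for an arbitrary natural number `p`
where possible): `C_X(O_p(X)) ≤ O_p(X)`, `X` is not nilpotent, `X` has no nontrivial normal Sylow
subgroup, `O^p(X) X' < X`, and there is a `p`-element outside `O_p(X)`.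
-/

set_option autoImplicit false

namespace Cfsg.Agent.Lib.Helper31_ThreeStep

open Cfsg Subgroup
open scoped commutatorElement

universe u

variable {X : Type u} [Group X]

/-- `pCore p X` consists of elements of `p`-power order, for an arbitrary natural number `p`. -/
theorem pCore_isPGroup_nat [Finite X] (p : ℕ) : IsPGroup p (pCore p X) := by
  unfold pCore
  refine Cfsg.Agent.Lib.Helper1_Cores.sSup_normal_induction (fun N => IsPGroup p N) ?_ ?_
  · exact IsPGroup.of_bot
  · intro N M _ hM h1 h2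
    have := hM
    exact h1.to_sup_of_normal_right h2

theorem pow_card_eq_one_of_mem {K : Subgroup X} {x : X} (hx : x ∈ K) : x ^ Nat.card K = 1 := by
  have h1 : orderOf (⟨x, hx⟩ : K) ∣ Nat.card K := orderOf_dvd_natCard _
  rw [Subgroup.orderOf_mk] at h1
  exact orderOf_dvd_iff_pow_eq_one.mp h1

theorem exists_pow_eq_one_of_mem_pCore [Finite X] (p : ℕ) {u : X} (hu : u ∈ pCore p X) :
    ∃ k : ℕ, u ^ p ^ k = 1 := by
  obtain ⟨k, hk⟩ := pCore_isPGroup_nat (X := X) p ⟨u, hu⟩
  exact ⟨k, by simpa using congrArg Subtype.val hk⟩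

/-- In `O_p(X) A` with `A` acting fixed-point-freely on `O_p(X) ≠ 1`, an element centralizing
`O_p(X)` lies in `O_p(X)`. -/
theorem mem_of_mem_sup_of_centralizes {p : ℕ} {A : Subgroup X} (hH1 : pCore p X ≠ ⊥)
    (hfpf : ∀ a ∈ A, a ≠ 1 → pCore p X ⊓ centralizer ({a} : Set X) = ⊥)
    {x : X} (hx : x ∈ pCore p X ⊔ A) (hc : ∀ u ∈ pCore p X, x * u = u * x) :
    x ∈ pCore p X := by
  have hmul : x ∈ ((pCore p X ⊔ A : Subgroup X) : Set X) := hx
  rw [Subgroup.normal_mul] at hmul
  obtain ⟨h, hh, a, ha, rfl⟩ := Set.mem_mul.mp hmul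
  by_cases ha1 : a = 1
  · subst ha1
    simpa using hh
  · exfalso
    have h1 : h ∈ pCore p X ⊓ centralizer ({a} : Set X) := by
      refine Subgroup.mem_inf.mpr ⟨hh, ?_⟩
      rw [Subgroup.mem_centralizer_singleton_iff]
      have h2 := hc h hh
      have h3 : h * (a * h) = h * (h * a) := by rw [← mul_assoc, h2]
      exact (mul_left_cancel h3).symm
    rw [hfpf a ha ha1, Subgroup.mem_bot] at h1
    subst h1
    obtain ⟨u, hu1⟩ := (Subgroup.ne_bot_iff_exists_ne_one).mp hH1
    have h2 : (u : X) ∈ pCore p X ⊓ centralizer ({a} : Set X) := by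
      refine Subgroup.mem_inf.mpr ⟨u.2, ?_⟩
      rw [Subgroup.mem_centralizer_singleton_iff]
      have := hc u u.2
      simpa using this.symm
    rw [hfpf a ha ha1, Subgroup.mem_bot] at h2
    exact hu1 (Subtype.ext h2)

/-- In a three-step group, `C_X(O_p(X)) ≤ O_p(X)`. -/
theorem centralizer_pCore_le {p : ℕ} (h : IsThreeStepGroup p X) :
    centralizer (pCore p X : Set X) ≤ pCore p X := by
  obtain ⟨hH1, A, hA1, -, -, -, hBn, -, -, hfpf, hout⟩ := h
  intro c hc
  have hc' : ∀ u ∈ pCore p X, c * u = u * c := fun u hu => (hc u hu).symm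
  by_cases hcB : c ∈ pCore p X ⊔ A
  · exact mem_of_mem_sup_of_centralizes hH1 hfpf hcB hc'
  · exfalso
    obtain ⟨a, ha1⟩ := (Subgroup.ne_bot_iff_exists_ne_one).mp hA1
    have ha1' : (a : X) ≠ 1 := fun h => ha1 (Subtype.ext h)
    apply hout c hcB a a.2 ha1'
    apply mem_of_mem_sup_of_centralizes hH1 hfpf
    · have haB : (a : X) ∈ pCore p X ⊔ A := Subgroup.mem_sup_right a.2
      exact mul_mem (hBn.conj_mem a haB c) (inv_mem haB)
    · have hCn : (centralizer (pCore p X : Set X)).Normal := Subgroup.normal_centralizer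
      have h1 : (a : X) * c⁻¹ * (a : X)⁻¹ ∈ centralizer (pCore p X : Set X) :=
        hCn.conj_mem c⁻¹ (inv_mem hc) a
      have h2 : c * (a : X) * c⁻¹ * (a : X)⁻¹ = c * ((a : X) * c⁻¹ * (a : X)⁻¹) := by group
      have h3 : c * (a : X) * c⁻¹ * (a : X)⁻¹ ∈ centralizer (pCore p X : Set X) := by
        rw [h2]
        exact mul_mem hc h1
      intro u hu
      exact (h3 u hu).symm

/-- The `p'`-core of a three-step group is trivial. -/
theorem pPrimeCore_eq_bot [Finite X] {p : ℕ} (h : IsThreeStepGroup p X) : pPrimeCore p X = ⊥ := by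
  have hc := centralizer_pCore_le h
  have hcop : (Nat.card (pPrimeCore p X)).Coprime p :=
    Cfsg.Agent.Lib.Helper1_Cores.pPrimeCore_card_coprime p
  have hdis : Disjoint (pPrimeCore p X) (pCore p X) := by
    rw [Subgroup.disjoint_def]
    intro x hx1 hx2
    obtain ⟨k, hk⟩ := exists_pow_eq_one_of_mem_pCore p hx2
    have h1 : x ^ Nat.card (pPrimeCore p X) = 1 := pow_card_eq_one_of_mem hx1
    exact Cfsg.Agent.Lib.Helper25_CNSolv.eq_one_of_pow_coprime x _ _ h1 hk
      (Nat.Coprime.pow_right k hcop)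
  have hle : pPrimeCore p X ≤ pCore p X := by
    refine le_trans ?_ hc
    intro x hx u hu
    exact (Subgroup.commute_of_normal_of_disjoint _ _
      (Cfsg.Agent.Lib.Helper1_Cores.pPrimeCore_normal p)
      (Cfsg.Agent.Lib.Helper1_Cores.pCore_normal p) hdis x u hx hu).eq.symm
  exact hdis.eq_bot_of_le hle

/-- A three-step group is not nilpotent. -/
theorem not_isNilpotent [Finite X] {p : ℕ} (h : IsThreeStepGroup p X) :
    ¬ Group.IsNilpotent X := by
  obtain ⟨hH1, A, hA1, -, -, hcop, -, -, -, hfpf, -⟩ := h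
  intro hnil
  obtain ⟨a, ha1⟩ := (Subgroup.ne_bot_iff_exists_ne_one).mp hA1
  have ha1' : (a : X) ≠ 1 := fun h => ha1 (Subtype.ext h)
  obtain ⟨u, hu1⟩ := (Subgroup.ne_bot_iff_exists_ne_one).mp hH1
  obtain ⟨k, hk⟩ := exists_pow_eq_one_of_mem_pCore p u.2
  have ha : (a : X) ^ Nat.card A = 1 := pow_card_eq_one_of_mem a.2
  have hcomm : Commute (a : X) (u : X) :=
    Cfsg.Agent.Lib.Helper32_Nilpotent.commute_of_coprime_pow_eq_one X _ _ _ _ ha hk
      (Nat.Coprime.pow_right k hcop)
  have h2 : (u : X) ∈ pCore p X ⊓ centralizer ({(a : X)} : Set X) := by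
    refine Subgroup.mem_inf.mpr ⟨u.2, ?_⟩
    rw [Subgroup.mem_centralizer_singleton_iff]
    exact hcomm.eq.symm
  rw [hfpf a a.2 ha1', Subgroup.mem_bot] at h2
  exact hu1 (Subtype.ext h2)

/-- In a three-step group with respect to a prime `p`, some `p`-element lies outside `O_p(X)`. -/
theorem exists_pElement_not_mem [Finite X] {p : ℕ} [hp : Fact p.Prime] (h : IsThreeStepGroup p X) :
    ∃ x : X, (∃ k : ℕ, x ^ p ^ k = 1) ∧ x ∉ pCore p X := by
  obtain ⟨-, A, -, -, -, -, -, hBtop, ⟨n, hidx⟩, -, -⟩ := h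
  obtain ⟨P⟩ : Nonempty (Sylow p X) := inferInstance
  have hn : n ≠ 0 := by
    rintro rfl
    rw [pow_zero, Subgroup.index_eq_one] at hidx
    exact hBtop hidx
  have hnot : ¬ (P : Subgroup X) ≤ pCore p X ⊔ A := by
    intro hle
    have h1 : (pCore p X ⊔ A).index ∣ (P : Subgroup X).index := Subgroup.index_dvd_of_le hle
    rw [hidx] at h1
    exact P.not_dvd_index ((dvd_pow_self p hn).trans h1)
  obtain ⟨x, hxP, hxB⟩ := SetLike.not_le_iff_exists.mp hnot
  refine ⟨x, ?_, fun hx => hxB (Subgroup.mem_sup_left hx)⟩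
  obtain ⟨k, hk⟩ := P.2 ⟨x, hxP⟩
  exact ⟨k, by simpa using congrArg Subtype.val hk⟩

/-- A three-step group (with respect to any natural number) has no nontrivial normal Sylow
subgroup. -/
theorem eq_bot_of_normal_sylow [Finite X] {p : ℕ} (h : IsThreeStepGroup p X) (r : ℕ)
    [hr : Fact r.Prime] (R : Sylow r X) (hRn : (R : Subgroup X).Normal) :
    (R : Subgroup X) = ⊥ := by
  obtain ⟨hH1, A, hA1, -, -, hcop, hBn, hBtop, ⟨n, hidx⟩, hfpf, hout⟩ := h
  have hn : n ≠ 0 := by
    rintro rfl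
    rw [pow_zero, Subgroup.index_eq_one] at hidx
    exact hBtop hidx
  by_cases hrp : r ∣ p
  · exfalso
    obtain ⟨m, hm⟩ := hrp
    have hRp : IsPGroup p (R : Subgroup X) := by
      intro x
      obtain ⟨k, hk⟩ := R.2 x
      refine ⟨k, ?_⟩
      rw [hm, mul_pow, pow_mul, hk, one_pow]
    have hle : (R : Subgroup X) ≤ pCore p X ⊔ A :=
      (Cfsg.Agent.Lib.Helper1_Cores.le_pCore hRn hRp).trans le_sup_left
    have h1 : (pCore p X ⊔ A).index ∣ (R : Subgroup X).index := Subgroup.index_dvd_of_le hle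
    rw [hidx] at h1
    exact R.not_dvd_index (((Dvd.intro m hm.symm).trans (dvd_pow_self p hn)).trans h1)
  · have hcrp : Nat.Coprime r p := (Nat.Prime.coprime_iff_not_dvd hr.out).mpr hrp
    have hdis : Disjoint (R : Subgroup X) (pCore p X) := by
      rw [Subgroup.disjoint_def]
      intro x hx1 hx2
      obtain ⟨k, hk⟩ := exists_pow_eq_one_of_mem_pCore p hx2
      obtain ⟨j, hj⟩ := R.2 ⟨x, hx1⟩
      have hj' : x ^ r ^ j = 1 := by simpa using congrArg Subtype.val hj
      exact Cfsg.Agent.Lib.Helper25_CNSolv.eq_one_of_pow_coprime x _ _ hj' hk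
        (Nat.Coprime.pow _ _ hcrp)
    have hle : (R : Subgroup X) ≤ pCore p X := by
      intro x hx
      apply mem_of_mem_sup_of_centralizes hH1 hfpf
      · obtain ⟨j, hj⟩ := R.2 ⟨x, hx⟩
        have hj' : x ^ r ^ j = 1 := by simpa using congrArg Subtype.val hj
        have h2 : x ^ p ^ n ∈ pCore p X ⊔ A := by
          rw [← hidx]
          exact Subgroup.pow_index_mem _ x
        exact Cfsg.Agent.Lib.Helper25_CNSolv.mem_of_pow_mem_coprime _ x _ _
          (by rw [hj']; exact one_mem _) h2 (Nat.Coprime.pow _ _ hcrp)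
      · intro u hu
        exact (Subgroup.commute_of_normal_of_disjoint _ _ hRn
          (Cfsg.Agent.Lib.Helper1_Cores.pCore_normal p) hdis x u hx hu).eq
    exact hdis.eq_bot_of_le hle

/-- A three-step group with respect to the prime `p` has a nontrivial abelian `p`-quotient:
`O^p(X) X' ≠ X`. -/
theorem pResidual_sup_commutator_ne_top [Finite X] {p : ℕ} [hp : Fact p.Prime]
    (h : IsThreeStepGroup p X) : pResidual p X ⊔ commutator X ≠ ⊤ := by
  obtain ⟨-, A, -, -, -, -, hBn, hBtop, ⟨n, hidx⟩, -, -⟩ := h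
  set B := pCore p X ⊔ A with hB
  have hQp : IsPGroup p (X ⧸ B) := by
    apply IsPGroup.of_card (n := n)
    rw [← Subgroup.index_eq_card, hidx]
  have hQnt : Nontrivial (X ⧸ B) := by
    rw [← Finite.one_lt_card_iff_nontrivial, ← Subgroup.index_eq_card]
    have : B.index ≠ 1 := fun h1 => hBtop (Subgroup.index_eq_one.mp h1)
    have : B.index ≠ 0 := Subgroup.index_ne_zero_of_finite
    omega
  have : Group.IsNilpotent (X ⧸ B) := hQp.isNilpotent
  have hlt : commutator (X ⧸ B) < ⊤ := Group.IsSolvable.commutator_lt_top_of_nontrivial (X ⧸ B)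
  set Y : Subgroup X := (commutator (X ⧸ B)).comap (QuotientGroup.mk' B) with hY
  have hYtop : Y ≠ ⊤ := by
    intro hYt
    apply hlt.ne
    rw [eq_top_iff]
    intro q _
    obtain ⟨x, rfl⟩ := QuotientGroup.mk'_surjective B q
    have : x ∈ Y := hYt ▸ Subgroup.mem_top x
    exact this
  have h1 : pResidual p X ≤ Y := by
    unfold pResidual
    rw [Subgroup.closure_le]
    intro g hg
    have hg' : Nat.Coprime (orderOf g) p := hg
    have hgB : g ∈ B := by
      apply Cfsg.Agent.Lib.Helper25_CNSolv.mem_of_pow_mem_coprime B g (orderOf g) (p ^ n)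
      · rw [pow_orderOf_eq_one]; exact one_mem _
      · rw [← hidx]; exact Subgroup.pow_index_mem _ g
      · exact Nat.Coprime.pow_right n hg'
    show QuotientGroup.mk' B g ∈ commutator (X ⧸ B)
    have : QuotientGroup.mk' B g = 1 := (QuotientGroup.eq_one_iff g).mpr hgB
    rw [this]
    exact one_mem _
  have h2 : commutator X ≤ Y := by
    rw [commutator_def, Subgroup.commutator_le]
    intro x _ y _
    show QuotientGroup.mk' B ⁅x, y⁆ ∈ commutator (X ⧸ B)
    rw [map_commutatorElement, commutator_def]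
    exact Subgroup.commutator_mem_commutator (Subgroup.mem_top _) (Subgroup.mem_top _)
  intro htop
  exact hYtop (top_le_iff.mp (htop ▸ sup_le h1 h2))

end Cfsg.Agent.Lib.Helper31_ThreeStep
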