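import Mathlib
import Cfsg.Agent.Lib.Helper71_Fitting

set_option autoImplicit false

namespace Cfsg.Agent.Lib.Helper71_Solvable

open Subgroup Cfsg.Agent.Lib.Helper71_Fitting

variable {G : Type*} [Group G]

/-- A nontrivial finite solvable group has a nontrivial normal `p`-subgroup for some prime `p`
(namely `O_p`). -/
theorem exists_sylowCore_ne_bot [Finite G] [Nontrivial G] (hG : Group.IsSolvable G) :
    ∃ p : ℕ, p.Prime ∧ sylowCore p G ≠ ⊥ := by
  classical
  have hex : ∃ n, derivedSeries G n = ⊥ := hG.solvable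
  set n := Nat.find hex with hn_def
  have hn : derivedSeries G n = ⊥ := Nat.find_spec hex
  have hn0 : n ≠ 0 := by
    intro h0
    rw [h0, derivedSeries_zero] at hn
    exact top_ne_bot hn
  obtain ⟨m, hm⟩ : ∃ m, n = m + 1 := Nat.exists_eq_succ_of_ne_zero hn0
  set A := derivedSeries G m with hA
  have hAne : A ≠ ⊥ := Nat.find_min hex (by omega : m < n)
  have hAcomm : ⁅A, A⁆ = ⊥ := by
    rw [← derivedSeries_succ, ← hm]; exact hn
  have hle : A ≤ centralizer (A : Set G) := (commutator_eq_bot_iff_le_centralizer).mp hAcomm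
  have hcomm : ∀ a b : A, a * b = b * a := by
    rintro ⟨a, ha⟩ ⟨b, hb⟩
    apply Subtype.ext
    have := (hle hb) a ha
    simpa using this
  let _ : CommGroup A := { (inferInstance : Group A) with mul_comm := hcomm }
  have hnil : Group.IsNilpotent A := CommGroup.isNilpotent
  have hAn : A.Normal := derivedSeries_normal G m
  have hcard : Nat.card A ≠ 1 := by
    rw [Ne, Subgroup.card_eq_one]; exact hAne
  set p := (Nat.card A).minFac with hp_def
  have hp : p.Prime := Nat.minFac_prime hcard
  have : Fact p.Prime := ⟨hp⟩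
  obtain ⟨z, hz⟩ := exists_prime_orderOf_dvd_card' (G := A) p (Nat.minFac_dvd _)
  refine ⟨p, hp, ?_⟩
  have hzo : orderOf (z : G) = p ^ 1 := by
    rw [Subgroup.orderOf_coe, hz, pow_one]
  have hmem : (z : G) ∈ sylowCore p G :=
    mem_sylowCore_of_mem_normal_nilpotent A hnil z.2 hzo
  intro hbot
  rw [hbot, Subgroup.mem_bot] at hmem
  have : orderOf (z : G) = 1 := by rw [hmem, orderOf_one]
  rw [hzo, pow_one] at this
  exact hp.one_lt.ne' this

/-- A maximal subgroup of a finite solvable group has prime power index. -/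
theorem index_eq_prime_pow_of_isCoatom [Finite G] (hG : Group.IsSolvable G) (M : Subgroup G)
    (hM : IsCoatom M) : ∃ p k : ℕ, p.Prime ∧ M.index = p ^ k := by
  set K := M.normalCore with hK
  have hKM : K ≤ M := normalCore_le M
  have hKtop : K ≠ ⊤ := fun h => hM.1 (top_le_iff.mp (h ▸ hKM))
  have : Nontrivial (G ⧸ K) := by
    rw [← Finite.one_lt_card_iff_nontrivial, ← Subgroup.index_eq_card]
    exact Subgroup.one_lt_index_of_ne_top hKtop
  have hQsolv : Group.IsSolvable (G ⧸ K) := inferInstance
  obtain ⟨p, hp, hP⟩ := exists_sylowCore_ne_bot hQsolv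
  have : Fact p.Prime := ⟨hp⟩
  set P := sylowCore p (G ⧸ K) with hPdef
  set E := P.comap (QuotientGroup.mk' K) with hE
  have hEn : E.Normal := inferInstance
  have hmapE : E.map (QuotientGroup.mk' K) = P :=
    map_comap_eq_self_of_surjective (QuotientGroup.mk'_surjective K) P
  have hEM : ¬ E ≤ M := by
    intro hle
    have hEK : E ≤ K := (normal_le_normalCore).mpr hle
    apply hP
    rw [← hmapE, eq_bot_iff]
    calc E.map (QuotientGroup.mk' K) ≤ K.map (QuotientGroup.mk' K) := map_mono hEK
      _ = ⊥ := by rw [QuotientGroup.map_mk'_self]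
  have hsup : M ⊔ E = ⊤ := by
    by_contra hne
    have hlt : M < M ⊔ E := lt_of_le_of_ne le_sup_left (fun h => hEM (h ▸ le_sup_right))
    exact hne (hM.2 _ hlt)
  have hidx : M.index = M.relIndex E := index_eq_relIndex_of_sup_eq_top M E hsup
  have hdvd : M.relIndex E ∣ K.relIndex E := relIndex_dvd_of_le_left E hKM
  have hKE : K.relIndex E = Nat.card P := by
    have := Subgroup.relIndex_ker (QuotientGroup.mk' K) (K := E)
    rw [QuotientGroup.ker_mk', hmapE] at this
    exact this
  obtain ⟨c, hc⟩ := IsPGroup.iff_card.mp (sylowCore_isPGroup (G := G ⧸ K) p)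
  rw [hKE, hc, ← hidx] at hdvd
  obtain ⟨j, _, hj⟩ := (Nat.dvd_prime_pow hp).mp hdvd
  exact ⟨p, j, hp, hj⟩

end Cfsg.Agent.Lib.Helper71_Solvable
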