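import Mathlib
import Cfsg.Agent.Lib.Helper31_ThreeStep
import Cfsg.Agent.Lib.Helper1_Cores
import Cfsg.Agent.Lib.Helper25_CNSolv
import Cfsg.Agent.S1473
import Cfsg.Agent.S1474
import Cfsg.Agent.S1476

/-!
# Three-step subgroups of solvable CN-groups (helper31)

* `exists_prime_of_nat`: a solvable CN-group that is a three-step group with respect to a natural
  number `p` is a three-step group with respect to a prime.
* `of_injective`: if a three-step group (prime `p`) embeds in a solvable CN-group `Y` with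
  `O_p(Y) ≠ 1`, then `Y` is a three-step group with respect to `p`.
-/

set_option autoImplicit false

namespace Cfsg.Agent.Lib.Helper31_ThreeStepCN

open Cfsg Subgroup Cfsg.Agent.Lib.Helper31_ThreeStep

universe u

variable {Y : Type u} [Group Y] [Finite Y] [Group.IsSolvable Y]

theorem exists_prime_of_nat (hCN : IsCNGroup Y) {p : ℕ} (h : IsThreeStepGroup p Y) :
    ∃ q : ℕ, q.Prime ∧ IsThreeStepGroup q Y := by
  apply Cfsg.Agent.S1476.three_step hCN (fun H _ hH => Cfsg.Agent.S1473.result hCN H hH)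
    (not_isNilpotent h)
  intro r _ R hRn
  exact eq_bot_of_normal_sylow h r R hRn

omit [Group.IsSolvable Y] in
/-- A `p`-element lies in a normal Sylow `p`-subgroup. -/
theorem mem_of_normal_sylow {p : ℕ} [Fact p.Prime] (S : Sylow p Y) (hS : (S : Subgroup Y).Normal)
    {y : Y} {k : ℕ} (hy : y ^ p ^ k = 1) : y ∈ (S : Subgroup Y) := by
  have hz : IsPGroup p (Subgroup.zpowers y) := by
    rw [IsPGroup.iff_orderOf]
    rintro ⟨z, hz⟩
    obtain ⟨j, rfl⟩ := Subgroup.mem_zpowers_iff.mp hz
    have h1 : (y ^ j) ^ p ^ k = 1 := by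
      rw [← zpow_natCast, ← zpow_mul, mul_comm, zpow_mul, zpow_natCast, hy, one_zpow]
    have h2 : orderOf (⟨y ^ j, hz⟩ : Subgroup.zpowers y) ∣ p ^ k := by
      rw [Subgroup.orderOf_mk]
      exact orderOf_dvd_of_pow_eq_one h1
    obtain ⟨m, -, hm⟩ := (Nat.dvd_prime_pow Fact.out).mp h2
    exact ⟨m, hm⟩
  obtain ⟨Q, hQ⟩ := hz.exists_le_sylow
  have hu := Sylow.unique_of_normal S hS
  have hQS : Q = S := Subsingleton.elim _ _
  rw [← hQS]
  exact hQ (Subgroup.mem_zpowers y)

theorem of_injective (hCN : IsCNGroup Y) {X : Type u} [Group X] [Finite X] (f : X →* Y)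
    (hf : Function.Injective f) {p : ℕ} [hp : Fact p.Prime] (h : IsThreeStepGroup p X)
    (hY : pCore p Y ≠ ⊥) : IsThreeStepGroup p Y := by
  have hnn : ¬ Group.IsNilpotent Y := by
    intro hnil
    apply not_isNilpotent h
    exact Subgroup.isNilpotent_of_ker_le_center f (by
      rw [(MonoidHom.ker_eq_bot_iff f).mpr hf]; exact bot_le)
  have hns : ∀ (r : ℕ) [Fact r.Prime] (R : Sylow r Y), (R : Subgroup Y).Normal →
      (R : Subgroup Y) = ⊥ := by
    intro r hr R hRn
    by_contra hR1
    -- a normal Sylow `p`-subgroup of `Y`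
    have hS : ∃ S : Sylow p Y, (S : Subgroup Y).Normal := by
      by_cases hrp : p = r
      · subst hrp
        exact ⟨R, hRn⟩
      · obtain ⟨S⟩ : Nonempty (Sylow p Y) := inferInstance
        have h2 : pCore r Y ≠ ⊥ := by
          intro hbot
          apply hR1
          have := Cfsg.Agent.Lib.Helper1_Cores.le_pCore hRn R.2
          rw [hbot] at this
          exact le_bot_iff.mp this
        exact ⟨S, Cfsg.Agent.Lib.Helper25_CNSolv.sylow_normal_of_two_cores hCN p r hrp hY h2 S⟩
    obtain ⟨S, hSn⟩ := hS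
    obtain ⟨x, ⟨k, hk⟩, hx⟩ := exists_pElement_not_mem h
    apply hx
    have hn : ((S : Subgroup Y).comap f).Normal := hSn.comap f
    have hpg : IsPGroup p ((S : Subgroup Y).comap f) := S.2.comap_of_injective f hf
    apply Cfsg.Agent.Lib.Helper1_Cores.le_pCore hn hpg
    rw [Subgroup.mem_comap]
    apply mem_of_normal_sylow S hSn (k := k)
    rw [← map_pow, hk, map_one]
  obtain ⟨q, hq, h3⟩ := Cfsg.Agent.S1476.three_step hCN
    (fun H _ hH => Cfsg.Agent.S1473.result hCN H hH) hnn hns
  have hqp : q = p := by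
    by_contra hne
    have : Fact q.Prime := ⟨hq⟩
    apply hY
    have h1 := pPrimeCore_eq_bot h3
    have h2 : pCore p Y ≤ pPrimeCore q Y :=
      Cfsg.Agent.Lib.Helper1_Cores.le_pPrimeCore (Cfsg.Agent.Lib.Helper1_Cores.pCore_normal p)
        (Cfsg.Agent.Lib.Helper1_Cores.pCore_card_coprime (fun h => hne h.symm))
    rw [h1] at h2
    exact le_bot_iff.mp h2
  rw [← hqp]
  exact h3

end Cfsg.Agent.Lib.Helper31_ThreeStepCN
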