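import Mathlib
import Cfsg.Agent.S0653
import Cfsg.Agent.S0658
import Cfsg.Agent.Lib.Helper11_ZJ
import Cfsg.Agent.Lib.Helper25_OddStable
import Cfsg.Agent.Lib.Helper34_Sylow
import Cfsg.Agent.Lib.Helper35_FrobeniusNPC

/-!
# The ZJ-theorem for solvable groups of odd order, and strong `p`-embedding of `N(ZJ(P))`
(helper31)

* `zj_normal_solv`: in a solvable group `X` of odd order with `C_X(O_p(X)) ≤ O_p(X)`, `Z(J(T))`
  is normal for every Sylow `p`-subgroup `T`.
* `le_normalizer_zj_solv`: the same for a subgroup `Y` of an ambient group.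
* `normalizer_le_of_local`: the induction of S0658 with the local hypothesis in the form
  "`N_G(Q)` normalizes `Z(J(R))` for each of its Sylow `p`-subgroups `R`".
-/

set_option autoImplicit false

namespace Cfsg.Agent.Lib.Helper31_LocalZJ

open Cfsg Subgroup Cfsg.Agent.Lib.Helper34_Sylow

universe u

theorem zj_normal_solv {X : Type u} [Group X] [Finite X] [Group.IsSolvable X]
    (hodd : Odd (Nat.card X)) {p : ℕ} [Fact p.Prime] (hp2 : p ≠ 2)
    (hc : centralizer (pCore p X : Set X) ≤ pCore p X) (T : Sylow p X) :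
    (centerThompsonAOf (T : Subgroup X)).Normal := by
  rw [Cfsg.Agent.S0653.centerThompsonAOf_eq]
  apply Cfsg.Agent.Lib.Helper11_ZJ.W_normal (Cfsg.Agent.S0653.admissible hp2) T hc
  intro B hBn hBp
  have := hBn
  exact Cfsg.Agent.Lib.Helper11_ZJ.stableOn_of_isPStableOn _ B
    (Cfsg.Agent.Lib.Helper25_OddStable.isPStableOn hodd B hBp)

variable {G : Type u} [Group G] [Finite G] {p : ℕ} [Fact p.Prime]

theorem le_normalizer_zj_solv (hp : p ≠ 2) {Y R : Subgroup G} [Group.IsSolvable ↥Y]
    (hodd : Odd (Nat.card ↥Y)) (hc : centralizer (pCore p ↥Y : Set ↥Y) ≤ pCore p ↥Y)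
    (hRY : R ≤ Y) (hR : IsPGroup p R) (hidx : ¬ p ∣ R.relIndex Y) :
    Y ≤ normalizer (centerThompsonAOf R : Set G) := by
  have hR' : IsPGroup p (R.subgroupOf Y) := hR.comap_subtype
  let RS : Sylow p ↥Y := hR'.toSylow hidx
  have hRS : ((RS : Sylow p ↥Y) : Subgroup ↥Y) = R.subgroupOf Y := IsPGroup.toSylow_coe _ _
  have hn := zj_normal_solv hodd hp hc RS
  rw [hRS] at hn
  intro n hnY
  apply Subgroup.mem_normalizer_fintype
  intro x hx
  rw [SetLike.mem_coe, ← Cfsg.Agent.S0658.zj_subgroupOf hR hRY] at hx ⊢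
  obtain ⟨y, hy, rfl⟩ := hx
  exact ⟨⟨n, hnY⟩ * y * ⟨n, hnY⟩⁻¹, hn.conj_mem y hy ⟨n, hnY⟩, rfl⟩

/-- If a `p`-subgroup `R` of `N` has index in `N` divisible by `p`, it is properly contained in a
`p`-subgroup of `N`. -/
theorem exists_lt_of_dvd_relIndex {R N : Subgroup G} (hRp : IsPGroup p R) (hRN : R ≤ N)
    (hidx : p ∣ R.relIndex N) : ∃ Rs : Subgroup G, Rs ≤ N ∧ IsPGroup p Rs ∧ R ≤ Rs ∧ R ≠ Rs := by
  have hR' : IsPGroup p (R.subgroupOf N) := hRp.comap_subtype
  obtain ⟨S', hS'⟩ := hR'.exists_le_sylow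
  refine ⟨(S' : Subgroup N).map N.subtype, Subgroup.map_subtype_le _, S'.2.map _, ?_, ?_⟩
  · intro x hx
    exact ⟨⟨x, hRN hx⟩, hS' (Subgroup.mem_subgroupOf.mpr hx), rfl⟩
  · intro h
    apply S'.not_dvd_index
    have h1 : (S' : Subgroup N) = R.subgroupOf N := by
      rw [h]
      ext y
      rw [Subgroup.mem_subgroupOf]
      constructor
      · intro hy
        exact ⟨y, hy, rfl⟩
      · rintro ⟨z, hz, hzy⟩
        have : z = y := Subtype.ext hzy
        rwa [← this]
    rw [h1]
    exact hidx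

theorem normalizer_le_of_local_aux (P : Sylow p G)
    (hloc : ∀ Q : Subgroup G, Q ≤ (P : Subgroup G) → Q ≠ ⊥ → ∀ R : Subgroup G,
      R ≤ normalizer (Q : Set G) → IsPGroup p R → ¬ p ∣ R.relIndex (normalizer (Q : Set G)) →
      normalizer (Q : Set G) ≤ normalizer (centerThompsonAOf R : Set G)) :
    ∀ n : ℕ, ∀ Q : Subgroup G, Q ≤ (P : Subgroup G) → Q ≠ ⊥ →
      Nat.card (P : Subgroup G) -
        Nat.card ((P : Subgroup G) ⊓ Subgroup.normalizer (Q : Set G) : Subgroup G) = n →
      Subgroup.normalizer (Q : Set G) ≤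
        Subgroup.normalizer (Cfsg.centerThompsonAOf (P : Subgroup G) : Set G) := by
  intro n
  induction n using Nat.strong_induction_on with
  | _ n ih =>
    intro Q hQP hQ1 hn
    set N := Subgroup.normalizer (Q : Set G) with hN
    set R := (P : Subgroup G) ⊓ N with hR
    set M := Subgroup.normalizer (Cfsg.centerThompsonAOf (P : Subgroup G) : Set G) with hM
    have hQp : IsPGroup p Q := P.2.to_le hQP
    have hl := hloc Q hQP hQ1
    have hRP : R ≤ (P : Subgroup G) := inf_le_left
    have hRN : R ≤ N := inf_le_right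
    have hRp : IsPGroup p R := P.2.to_le hRP
    have hQR : Q ≤ R := le_inf hQP Subgroup.le_normalizer
    have hR1 : R ≠ ⊥ := fun h => hQ1 (le_bot_iff.mp (h ▸ hQR))
    have hPM : (P : Subgroup G) ≤ M :=
      Subgroup.le_normalizer.trans (Cfsg.Agent.S0658.normalizer_le_normalizer_zj P.2)
    have hcardle : Nat.card R ≤ Nat.card (P : Subgroup G) := Subgroup.card_le_of_le hRP
    have ih' : ∀ Q' : Subgroup G, Q' ≤ (P : Subgroup G) → Q' ≠ ⊥ →
        Nat.card R < Nat.card ((P : Subgroup G) ⊓ Subgroup.normalizer (Q' : Set G) : Subgroup G) →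
        Subgroup.normalizer (Q' : Set G) ≤ M := by
      intro Q' h1 h2 h3
      have h4 : Nat.card ((P : Subgroup G) ⊓ Subgroup.normalizer (Q' : Set G) : Subgroup G) ≤
          Nat.card (P : Subgroup G) := Subgroup.card_le_of_le inf_le_left
      exact ih _ (by omega) Q' h1 h2 rfl
    by_cases hRP' : R = (P : Subgroup G)
    · have hPN : (P : Subgroup G) ≤ N := hRP' ▸ hRN
      have hidx : ¬ p ∣ (P : Subgroup G).relIndex N := fun h =>
        P.not_dvd_index (h.trans (Subgroup.relIndex_dvd_index_of_le hPN))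
      exact hl _ hPN P.2 hidx
    · have hNR : Nat.card R <
          Nat.card ((P : Subgroup G) ⊓ Subgroup.normalizer (R : Set G) : Subgroup G) := by
        obtain ⟨x, hxP, hxN, hxR⟩ :=
          Cfsg.Agent.Lib.Helper35_FrobeniusNPC.exists_mem_normalizer_not_mem P.2 hRP hRP'
        apply Cfsg.Agent.Lib.Helper11_ZJ.card_lt_of_lt
        refine lt_of_le_of_ne (le_inf hRP Subgroup.le_normalizer) ?_
        intro h
        apply hxR
        rw [h]
        exact ⟨hxP, hxN⟩
      have hNRM : Subgroup.normalizer (R : Set G) ≤ M := ih' R hRP hR1 hNR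
      by_cases hidx : p ∣ R.relIndex N
      · obtain ⟨Rs, hRsN, hRsp, hRRs, hne⟩ := exists_lt_of_dvd_relIndex hRp hRN hidx
        obtain ⟨x, hxRs, hxN, hxR⟩ :=
          Cfsg.Agent.Lib.Helper35_FrobeniusNPC.exists_mem_normalizer_not_mem hRsp hRRs hne
        set R2 := Rs ⊓ Subgroup.normalizer (R : Set G) with hR2
        have hR2p : IsPGroup p R2 := hRsp.to_le inf_le_left
        have hRR2 : R < R2 :=
          lt_of_le_of_ne (le_inf hRRs Subgroup.le_normalizer) (fun h => hxR (h ▸ ⟨hxRs, hxN⟩))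
        have hR2M : R2 ≤ M := inf_le_right.trans hNRM
        have hR2N : R2 ≤ N := inf_le_left.trans hRsN
        have hPidx : ¬ p ∣ (P : Subgroup G).relIndex M := fun h =>
          P.not_dvd_index (h.trans (Subgroup.relIndex_dvd_index_of_le hPM))
        obtain ⟨m, hmM, hm⟩ := exists_cj_le_of_relIndex P.2 hPidx hR2M hR2p
        have hQ'P : cj m Q ≤ (P : Subgroup G) := (cj_mono (hQR.trans hRR2.le)).trans hm
        have hQ'1 : cj m Q ≠ ⊥ := by
          intro h
          apply hQ1
          exact (Subgroup.map_eq_bot_iff_of_injective _ (MulAut.conj m).injective).mp h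
        have hcard : Nat.card R <
            Nat.card ((P : Subgroup G) ⊓ Subgroup.normalizer ((cj m Q : Subgroup G) : Set G) :
              Subgroup G) := by
          calc Nat.card R < Nat.card R2 := Cfsg.Agent.Lib.Helper11_ZJ.card_lt_of_lt hRR2
            _ = Nat.card (cj m R2) := (card_cj m R2).symm
            _ ≤ _ := Subgroup.card_le_of_le (le_inf hm (by
                rw [← cj_normalizer]; exact cj_mono hR2N))
        have h1 := ih' (cj m Q) hQ'P hQ'1 hcard
        rw [← cj_normalizer] at h1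
        have h2 : N ≤ cj m⁻¹ M := cj_le_iff.mp h1
        rwa [cj_eq_self_of_mem (M.inv_mem hmM)] at h2
      · have h1 := hl R hRN hRp hidx
        have hQ1P : Cfsg.centerThompsonAOf R ≤ (P : Subgroup G) :=
          (Cfsg.Agent.S0658.zj_le R).trans hRP
        have hQ11 : Cfsg.centerThompsonAOf R ≠ ⊥ := Cfsg.Agent.S0658.zj_ne_bot hRp hR1
        have hcard : Nat.card R < Nat.card ((P : Subgroup G) ⊓
            Subgroup.normalizer ((Cfsg.centerThompsonAOf R : Subgroup G) : Set G) : Subgroup G) :=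
          lt_of_lt_of_le hNR (Subgroup.card_le_of_le
            (inf_le_inf_left _ (Cfsg.Agent.S0658.normalizer_le_normalizer_zj hRp)))
        exact h1.trans (ih' _ hQ1P hQ11 hcard)

/-- If every `N_G(Q)`, `1 ≠ Q ≤ P`, normalizes `Z(J(R))` for each of its Sylow `p`-subgroups `R`,
then `N_G(Q) ≤ N_G(Z(J(P)))` for all such `Q`. -/
theorem normalizer_le_of_local (P : Sylow p G)
    (hloc : ∀ Q : Subgroup G, Q ≤ (P : Subgroup G) → Q ≠ ⊥ → ∀ R : Subgroup G,
      R ≤ normalizer (Q : Set G) → IsPGroup p R → ¬ p ∣ R.relIndex (normalizer (Q : Set G)) →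
      normalizer (Q : Set G) ≤ normalizer (centerThompsonAOf R : Set G))
    (Q : Subgroup G) (hQP : Q ≤ (P : Subgroup G)) (hQ1 : Q ≠ ⊥) :
    normalizer (Q : Set G) ≤ normalizer (centerThompsonAOf (P : Subgroup G) : Set G) :=
  normalizer_le_of_local_aux P hloc _ Q hQP hQ1 rfl

end Cfsg.Agent.Lib.Helper31_LocalZJ
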