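import Mathlib
import Cfsg.Prelude.Def_OddOrder
import Cfsg.Agent.Lib.Helper31_ThreeStep
import Cfsg.Agent.Lib.Helper31_ThreeStepCN
import Cfsg.Agent.Lib.Helper31_LocalZJ
import Cfsg.Agent.Lib.Helper1_Cores
import Cfsg.Agent.Lib.Helper11_ZJ
import Cfsg.Agent.Lib.Helper25_CNSolv
import Cfsg.Agent.Lib.Helper34_Sylow
import Cfsg.Agent.Lib.Helper35_FrobeniusNPC
import Cfsg.Agent.Lib.Helper55_Fitting
import Cfsg.Agent.S0658
import Cfsg.Agent.S1242
import Cfsg.Agent.S1474

/-!
# Minimal simple CN-groups of odd order have no three-step subgroups (helper31)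
-/

set_option autoImplicit false
set_option linter.unusedSectionVars false

namespace Cfsg.Agent.Lib.Helper31_ThreeStepMain

open Cfsg Subgroup Cfsg.Agent.Lib.Helper34_Sylow Cfsg.Agent.Lib.Helper31_ThreeStep
open scoped commutatorElement

universe u

variable {G : Type u} [Group G] [Finite G]

/-! ### Basic facts on minimal simple groups -/

omit [Finite G] in
theorem not_comm_all (hG : IsMinSimpleOddOrder G) : ¬ ∀ a b : G, a * b = b * a := by
  intro h
  exact hG.2.2.1 ⟨⟨h⟩⟩

theorem not_isSolvable (hG : IsMinSimpleOddOrder G) : ¬ Group.IsSolvable G := by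
  intro h
  have := hG.2.1
  exact not_comm_all hG (IsSimpleGroup.comm_iff_isSolvable.mpr h)

theorem commutator_eq_top (hG : IsMinSimpleOddOrder G) : commutator G = ⊤ := by
  have := hG.2.1
  rcases (inferInstance : (commutator G).Normal).eq_bot_or_eq_top with h | h
  · exfalso
    apply not_comm_all hG
    intro a b
    have h1 : ⁅a, b⁆ ∈ commutator G := by
      rw [commutator_def]
      exact Subgroup.commutator_mem_commutator (Subgroup.mem_top a) (Subgroup.mem_top b)
    rw [h, Subgroup.mem_bot] at h1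
    exact commutatorElement_eq_one_iff_mul_comm.mp h1
  · exact h

omit [Finite G] in
theorem isSolvable_of_ne_top (hG : IsMinSimpleOddOrder G) {M : Subgroup G} (hM : M ≠ ⊤) :
    Group.IsSolvable ↥M := hG.2.2.2 M hM

omit [Finite G] in
theorem odd_card_subgroup (hG : IsMinSimpleOddOrder G) (M : Subgroup G) : Odd (Nat.card ↥M) :=
  Odd.of_dvd_nat hG.1 (Subgroup.card_subgroup_dvd_card M)

/-- The normalizer of a nontrivial `p`-subgroup is proper. -/
theorem normalizer_ne_top (hG : IsMinSimpleOddOrder G) {p : ℕ} [Fact p.Prime] {Q : Subgroup G}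
    (hQ : IsPGroup p Q) (hQ1 : Q ≠ ⊥) : normalizer (Q : Set G) ≠ ⊤ := by
  intro htop
  have hQn : Q.Normal := Subgroup.normalizer_eq_top_iff.mp htop
  have := hG.2.1
  rcases hQn.eq_bot_or_eq_top with h | h
  · exact hQ1 h
  · apply not_isSolvable hG
    have hp : IsPGroup p G := by
      intro g
      obtain ⟨k, hk⟩ := hQ ⟨g, h ▸ Subgroup.mem_top g⟩
      exact ⟨k, by simpa using congrArg Subtype.val hk⟩
    have : Group.IsNilpotent G := hp.isNilpotent
    infer_instance

theorem two_ne_of_ne_bot (hG : IsMinSimpleOddOrder G) {p : ℕ} [hp : Fact p.Prime] {Q : Subgroup G}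
    (hQ : IsPGroup p Q) (hQ1 : Q ≠ ⊥) : p ≠ 2 := by
  rintro rfl
  obtain ⟨k, hk⟩ := IsPGroup.iff_card.mp hQ
  have hk0 : k ≠ 0 := by
    rintro rfl
    rw [pow_zero] at hk
    exact hQ1 (Subgroup.card_eq_one.mp hk)
  have h2 : 2 ∣ Nat.card G := by
    have h3 : 2 ∣ Nat.card Q := by rw [hk]; exact dvd_pow_self 2 hk0
    exact h3.trans (Subgroup.card_subgroup_dvd_card Q)
  have := hG.1
  rw [Nat.odd_iff] at this
  omega

/-! ### Three-step subgroups -/

/-- A three-step subgroup of a simple group is proper. -/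
theorem ne_top_of_threeStep (hG : IsMinSimpleOddOrder G) {p : ℕ} {L : Subgroup G}
    (h : IsThreeStepGroup p ↥L) : L ≠ ⊤ := by
  rintro rfl
  obtain ⟨hH1, A, -, -, -, -, hBn, hBtop, -, -, -⟩ := h
  have := hG.2.1
  have hs : IsSimpleGroup ↥(⊤ : Subgroup G) := (Subgroup.topEquiv (G := G)).isSimpleGroup
  rcases hBn.eq_bot_or_eq_top with h1 | h1
  · apply hH1
    have : pCore p ↥(⊤ : Subgroup G) ≤ pCore p ↥(⊤ : Subgroup G) ⊔ A := le_sup_left
    rw [h1] at this
    exact le_bot_iff.mp this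
  · exact hBtop h1

section Main

variable (hG : IsMinSimpleOddOrder G) (hCN : IsCNGroup G) {p : ℕ} [hp : Fact p.Prime]

include hG in
/-- A three-step subgroup normalizes `Z(J(R))` for each of its Sylow `p`-subgroups `R`. -/
theorem le_normalizer_zj_of_threeStep {L R : Subgroup G} (h : IsThreeStepGroup p ↥L)
    (hRL : R ≤ L) (hR : IsPGroup p R) (hR1 : R ≠ ⊥) (hidx : ¬ p ∣ R.relIndex L) :
    L ≤ normalizer (centerThompsonAOf R : Set G) := by
  have hL := ne_top_of_threeStep hG h
  have := isSolvable_of_ne_top hG hL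
  exact Cfsg.Agent.Lib.Helper31_LocalZJ.le_normalizer_zj_solv (two_ne_of_ne_bot hG hR hR1)
    (odd_card_subgroup hG L) (centralizer_pCore_le h) hRL hR hidx

include hG hCN in
/-- A proper overgroup `M` of a three-step subgroup with `O_p(M) ≠ 1` is a three-step group. -/
theorem threeStep_of_le {L M Q : Subgroup G} (h : IsThreeStepGroup p ↥L) (hLM : L ≤ M)
    (hM : M ≠ ⊤) (hQ : IsPGroup p Q) (hQ1 : Q ≠ ⊥) (hQM : Q ≤ M)
    (hMQ : M ≤ normalizer (Q : Set G)) : IsThreeStepGroup p ↥M := by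
  have := isSolvable_of_ne_top hG hM
  have hCNM : IsCNGroup ↥M := Cfsg.Agent.S1474.cn_subgroup hCN M
  apply Cfsg.Agent.Lib.Helper31_ThreeStepCN.of_injective hCNM (Subgroup.inclusion hLM)
    (Subgroup.inclusion_injective hLM) h
  intro hbot
  have hn : (Q.subgroupOf M).Normal :=
    (Subgroup.normal_subgroupOf_iff_le_normalizer hQM).mpr hMQ
  have hle : Q.subgroupOf M ≤ pCore p ↥M :=
    Cfsg.Agent.Lib.Helper1_Cores.le_pCore hn hQ.comap_subtype
  rw [hbot, le_bot_iff, Subgroup.subgroupOf_eq_bot] at hle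
  exact hQ1 (hle.eq_bot_of_le hQM)

include hG hCN in
/-- If some subgroup is a three-step group for `p`, then `N_G(Z(J(P)))` is one for some Sylow
`p`-subgroup `P`. -/
theorem exists_sylow_threeStep (hex : ∃ L : Subgroup G, IsThreeStepGroup p ↥L) :
    ∃ P : Sylow p G,
      IsThreeStepGroup p ↥(normalizer (centerThompsonAOf (P : Subgroup G) : Set G)) := by
  classical
  set S : Set (Subgroup G) :=
    {R | IsPGroup p R ∧ ∃ L : Subgroup G, IsThreeStepGroup p ↥L ∧ R ≤ L} with hS
  obtain ⟨L₀, hL₀⟩ := hex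
  have hne : S.Nonempty := ⟨⊥, IsPGroup.of_bot, L₀, hL₀, bot_le⟩
  obtain ⟨R, ⟨hRp, L, hL, hRL⟩, hmax⟩ :=
    Set.exists_max_image S (fun R => Nat.card R) (Set.toFinite S) hne
  have hR1 : R ≠ ⊥ := by
    intro hbot
    have h1 : (pCore p ↥L).map L.subtype ∈ S :=
      ⟨(Cfsg.Agent.Lib.Helper1_Cores.pCore_isPGroup p).map _, L, hL, Subgroup.map_subtype_le _⟩
    have h2 := hmax _ h1
    rw [hbot, Subgroup.card_bot, Subgroup.card_map_of_injective L.subtype_injective] at h2
    exact hL.1 ((Subgroup.card_le_one_iff_eq_bot _).mp h2)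
  have hidx : ¬ p ∣ R.relIndex L := by
    intro hd
    obtain ⟨Rs, hRsL, hRsp, hRRs, hne'⟩ :=
      Cfsg.Agent.Lib.Helper31_LocalZJ.exists_lt_of_dvd_relIndex hRp hRL hd
    have h1 := hmax Rs ⟨hRsp, L, hL, hRsL⟩
    have h2 := Cfsg.Agent.Lib.Helper11_ZJ.card_lt_of_lt (lt_of_le_of_ne hRRs hne')
    omega
  have hZle : centerThompsonAOf R ≤ R := Cfsg.Agent.S0658.zj_le R
  have hZ1 : centerThompsonAOf R ≠ ⊥ := Cfsg.Agent.S0658.zj_ne_bot hRp hR1
  have hZp : IsPGroup p (centerThompsonAOf R) := hRp.to_le hZle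
  have hLM : L ≤ normalizer (centerThompsonAOf R : Set G) :=
    le_normalizer_zj_of_threeStep hG hL hRL hRp hR1 hidx
  have hM : normalizer (centerThompsonAOf R : Set G) ≠ ⊤ := normalizer_ne_top hG hZp hZ1
  have hTM : IsThreeStepGroup p ↥(normalizer (centerThompsonAOf R : Set G)) :=
    threeStep_of_le hG hCN hL hLM hM hZp hZ1 Subgroup.le_normalizer le_rfl
  obtain ⟨P, hRP⟩ := hRp.exists_le_sylow
  have hRP' : R = (P : Subgroup G) := by
    by_contra hne'
    obtain ⟨x, hxP, hxN, hxR⟩ :=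
      Cfsg.Agent.Lib.Helper35_FrobeniusNPC.exists_mem_normalizer_not_mem P.2 hRP hne'
    have hR2 : (P : Subgroup G) ⊓ normalizer (R : Set G) ∈ S :=
      ⟨P.2.to_le inf_le_left, _, hTM,
        inf_le_right.trans (Cfsg.Agent.S0658.normalizer_le_normalizer_zj hRp)⟩
    have h1 := hmax _ hR2
    have h2 : R < (P : Subgroup G) ⊓ normalizer (R : Set G) :=
      lt_of_le_of_ne (le_inf hRP Subgroup.le_normalizer) (fun h => hxR (h ▸ ⟨hxP, hxN⟩))
    have h3 := Cfsg.Agent.Lib.Helper11_ZJ.card_lt_of_lt h2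
    omega
  refine ⟨P, ?_⟩
  rw [← hRP']
  exact hTM

/-! ### The configuration `N = N_G(Z(J(P)))` three-step -/

include hCN in
/-- Claim A: a `p'`-element commuting with a non-identity element of `Z(P)` is trivial. -/
theorem eq_one_of_commute_center (P : Sylow p G)
    (hT : IsThreeStepGroup p ↥(normalizer (centerThompsonAOf (P : Subgroup G) : Set G)))
    {z d : G} (hz1 : z ≠ 1) (hzc : ∀ u ∈ (P : Subgroup G), z * u = u * z)
    {m : ℕ} (hm : m.Coprime p) (hdm : d ^ m = 1) (hdz : d * z = z * d) : d = 1 := by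
  set N := normalizer (centerThompsonAOf (P : Subgroup G) : Set G) with hN
  have hPN : (P : Subgroup G) ≤ N :=
    Subgroup.le_normalizer.trans (Cfsg.Agent.S0658.normalizer_le_normalizer_zj P.2)
  have hCnil := hCN z hz1
  have hPC : ∀ u ∈ (P : Subgroup G), u ∈ centralizer ({z} : Set G) := fun u hu => by
    rw [Subgroup.mem_centralizer_singleton_iff]
    exact (hzc u hu).symm
  have hdC : d ∈ centralizer ({z} : Set G) := by
    rw [Subgroup.mem_centralizer_singleton_iff]
    exact hdz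
  have hdP : ∀ u ∈ (P : Subgroup G), d * u = u * d := by
    intro u hu
    obtain ⟨k, hk⟩ := P.2 ⟨u, hu⟩
    have hk' : u ^ p ^ k = 1 := by simpa using congrArg Subtype.val hk
    exact Cfsg.Agent.Lib.Helper25_CNSolv.commute_in_nilpotent _ hCnil d u hdC (hPC u hu) m (p ^ k)
      hdm hk' (Nat.Coprime.pow_right k hm)
  have hdN : d ∈ N := by
    apply Subgroup.centralizer_le_normalizer
    intro h hh
    exact (hdP h (Cfsg.Agent.S0658.zj_le _ hh)).symm
  have hcent : (⟨d, hdN⟩ : ↥N) ∈ centralizer (pCore p ↥N : Set ↥N) := by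
    intro v hv
    have hvP : (v : G) ∈ (P : Subgroup G) := by
      have h1 := Cfsg.Agent.Lib.Helper1_Cores.pCore_le_sylow p (P.subtype hPN) hv
      exact Subgroup.mem_subgroupOf.mp h1
    apply Subtype.ext
    exact (hdP v hvP).symm
  have hd' := centralizer_pCore_le hT hcent
  obtain ⟨k, hk⟩ := exists_pow_eq_one_of_mem_pCore p hd'
  have hk' : d ^ p ^ k = 1 := by simpa using congrArg Subtype.val hk
  exact Cfsg.Agent.Lib.Helper25_CNSolv.eq_one_of_pow_coprime d m (p ^ k) hdm hk'
    (Nat.Coprime.pow_right k hm)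

include hG in
theorem sylow_ne_bot (P : Sylow p G)
    (hT : IsThreeStepGroup p ↥(normalizer (centerThompsonAOf (P : Subgroup G) : Set G))) :
    (P : Subgroup G) ≠ ⊥ := by
  intro hbot
  apply ne_top_of_threeStep hG hT
  have h1 : centerThompsonAOf (P : Subgroup G) = ⊥ :=
    le_bot_iff.mp (hbot ▸ Cfsg.Agent.S0658.zj_le (P : Subgroup G))
  rw [h1]
  exact Subgroup.normalizer_eq_top_iff.mpr inferInstance

include hG hCN in
/-- Claim B: a `p'`-element commuting with a non-identity element of `P` is trivial. -/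
theorem eq_one_of_commute_sylow (P : Sylow p G)
    (hT : IsThreeStepGroup p ↥(normalizer (centerThompsonAOf (P : Subgroup G) : Set G)))
    {x d : G} (hxP : x ∈ (P : Subgroup G)) (hx1 : x ≠ 1)
    {m : ℕ} (hm : m.Coprime p) (hdm : d ^ m = 1) (hdx : d * x = x * d) : d = 1 := by
  have hP1 := sylow_ne_bot hG P hT
  have hnt : Nontrivial ↥(P : Subgroup G) := (Subgroup.nontrivial_iff_ne_bot _).mpr hP1
  have hcnt : Nontrivial (Subgroup.center ↥(P : Subgroup G)) := P.2.center_nontrivial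
  obtain ⟨z, hz1⟩ := exists_ne (1 : Subgroup.center ↥(P : Subgroup G))
  have hz1' : ((z : ↥(P : Subgroup G)) : G) ≠ 1 := by
    intro h
    apply hz1
    apply Subtype.ext
    apply Subtype.ext
    simpa using h
  have hzc : ∀ u ∈ (P : Subgroup G), ((z : ↥(P : Subgroup G)) : G) * u = u * (z : ↥(P : Subgroup G)) := by
    intro u hu
    have := (Subgroup.mem_center_iff.mp z.2) ⟨u, hu⟩
    exact (congrArg Subtype.val this).symm
  have hCnil := hCN x hx1
  have hdC : d ∈ centralizer ({x} : Set G) := by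
    rw [Subgroup.mem_centralizer_singleton_iff]
    exact hdx
  have hzC : ((z : ↥(P : Subgroup G)) : G) ∈ centralizer ({x} : Set G) := by
    rw [Subgroup.mem_centralizer_singleton_iff]
    exact hzc x hxP
  obtain ⟨k, hk⟩ := P.2 (z : ↥(P : Subgroup G))
  have hk' : ((z : ↥(P : Subgroup G)) : G) ^ p ^ k = 1 := by simpa using congrArg Subtype.val hk
  have hdz : d * ((z : ↥(P : Subgroup G)) : G) = (z : ↥(P : Subgroup G)) * d :=
    Cfsg.Agent.Lib.Helper25_CNSolv.commute_in_nilpotent _ hCnil d _ hdC hzC m (p ^ k)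
      hdm hk' (Nat.Coprime.pow_right k hm)
  exact eq_one_of_commute_center hCN P hT hz1' hzc hm hdm hdz

include hG hCN in
/-- Claim B': a `p'`-element commuting with a non-identity `p`-element is trivial. -/
theorem eq_one_of_commute (P : Sylow p G)
    (hT : IsThreeStepGroup p ↥(normalizer (centerThompsonAOf (P : Subgroup G) : Set G)))
    {x d : G} (hx1 : x ≠ 1) {k : ℕ} (hxk : x ^ p ^ k = 1)
    {m : ℕ} (hm : m.Coprime p) (hdm : d ^ m = 1) (hdx : d * x = x * d) : d = 1 := by
  have hzp : IsPGroup p (Subgroup.zpowers x) := by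
    apply IsPGroup.of_card (n := (Nat.factorization (orderOf x)) p)
    rw [Nat.card_zpowers]
    obtain ⟨j, -, hj⟩ := (Nat.dvd_prime_pow hp.out).mp (orderOf_dvd_of_pow_eq_one hxk)
    rw [hj, Nat.Prime.factorization_pow hp.out]
    simp
  have hidx : ¬ p ∣ (P : Subgroup G).relIndex ⊤ := by
    rw [Subgroup.relIndex_top_right]
    exact P.not_dvd_index
  obtain ⟨g, -, hg⟩ := exists_cj_le_of_relIndex P.2 hidx (le_top : Subgroup.zpowers x ≤ ⊤) hzp
  have hgx : g * x * g⁻¹ ∈ (P : Subgroup G) := hg (conj_mem_cj (Subgroup.mem_zpowers x))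
  have hgx1 : g * x * g⁻¹ ≠ 1 := by
    intro h
    apply hx1
    have : x = g⁻¹ * (g * x * g⁻¹) * g := by group
    rw [this, h]
    group
  have hd' : (g * d * g⁻¹) ^ m = 1 := by
    rw [conj_pow, hdm]
    group
  have hcomm : (g * d * g⁻¹) * (g * x * g⁻¹) = (g * x * g⁻¹) * (g * d * g⁻¹) := by
    have h1 : (g * d * g⁻¹) * (g * x * g⁻¹) = g * (d * x) * g⁻¹ := by group
    have h2 : (g * x * g⁻¹) * (g * d * g⁻¹) = g * (x * d) * g⁻¹ := by group
    rw [h1, h2, hdx]
  have h1 := eq_one_of_commute_sylow hG hCN P hT hgx hgx1 hm hd' hcomm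
  have : d = g⁻¹ * (g * d * g⁻¹) * g := by group
  rw [this, h1]
  group

include hG hCN in
/-- Claim C: the centralizer of a non-identity `p`-element is a `p`-group. -/
theorem isPGroup_centralizer (P : Sylow p G)
    (hT : IsThreeStepGroup p ↥(normalizer (centerThompsonAOf (P : Subgroup G) : Set G)))
    {x : G} (hx1 : x ≠ 1) {k : ℕ} (hxk : x ^ p ^ k = 1) :
    IsPGroup p (centralizer ({x} : Set G)) := by
  rintro ⟨y, hy⟩
  rw [Subgroup.mem_centralizer_singleton_iff] at hy
  obtain ⟨j, m, hm, hjm⟩ := Nat.exists_eq_pow_mul_and_not_dvd (orderOf_pos y).ne' p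
    hp.out.ne_one
  refine ⟨j, ?_⟩
  apply Subtype.ext
  simp only [Subgroup.coe_pow, Subgroup.coe_one]
  have hcop : m.Coprime p := ((Nat.Prime.coprime_iff_not_dvd hp.out).mpr hm).symm
  apply eq_one_of_commute hG hCN P hT hx1 hxk hcop
  · rw [← pow_mul, ← hjm, pow_orderOf_eq_one]
  · have hc : Commute y x := hy
    exact (hc.pow_left (p ^ j)).eq

include hG hCN in
/-- The normalizer `Y` of a nontrivial `p`-subgroup satisfies `C_Y(O_p(Y)) ≤ O_p(Y)`. -/
theorem centralizer_pCore_le_normalizer (P : Sylow p G)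
    (hT : IsThreeStepGroup p ↥(normalizer (centerThompsonAOf (P : Subgroup G) : Set G)))
    {Q : Subgroup G} (hQ : IsPGroup p Q) (hQ1 : Q ≠ ⊥) :
    centralizer (pCore p ↥(normalizer (Q : Set G)) : Set ↥(normalizer (Q : Set G))) ≤
      pCore p ↥(normalizer (Q : Set G)) := by
  set Y := normalizer (Q : Set G) with hY
  have hYtop : Y ≠ ⊤ := normalizer_ne_top hG hQ hQ1
  have := isSolvable_of_ne_top hG hYtop
  apply Cfsg.Agent.Lib.Helper55_Fitting.centralizer_pCore_le p
  rw [eq_bot_iff]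
  intro d hd
  rw [Subgroup.mem_bot]
  obtain ⟨x, hx1⟩ := (Subgroup.ne_bot_iff_exists_ne_one).mp hQ1
  have hx1' : (x : G) ≠ 1 := fun h => hx1 (Subtype.ext h)
  have hxY : (x : G) ∈ Y := Subgroup.le_normalizer x.2
  have hQn : (Q.subgroupOf Y).Normal :=
    (Subgroup.normal_subgroupOf_iff_le_normalizer Subgroup.le_normalizer).mpr le_rfl
  have hcop : (Nat.card (pPrimeCore p ↥Y)).Coprime p :=
    Cfsg.Agent.Lib.Helper1_Cores.pPrimeCore_card_coprime p
  have hdis : Disjoint (pPrimeCore p ↥Y) (Q.subgroupOf Y) := by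
    rw [Subgroup.disjoint_def]
    intro y hy1 hy2
    obtain ⟨k, hk⟩ := hQ ⟨(y : G), Subgroup.mem_subgroupOf.mp hy2⟩
    have hk' : y ^ p ^ k = 1 := by
      apply Subtype.ext
      simpa using congrArg Subtype.val hk
    exact Cfsg.Agent.Lib.Helper25_CNSolv.eq_one_of_pow_coprime y _ _
      (pow_card_eq_one_of_mem hy1) hk' (Nat.Coprime.pow_right k hcop)
  have hcomm := Subgroup.commute_of_normal_of_disjoint _ _
    (Cfsg.Agent.Lib.Helper1_Cores.pPrimeCore_normal p) hQn hdis d ⟨x, hxY⟩ hd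
    (Subgroup.mem_subgroupOf.mpr x.2)
  obtain ⟨k, hk⟩ := hQ x
  have hk' : (x : G) ^ p ^ k = 1 := by simpa using congrArg Subtype.val hk
  have hdm : (d : G) ^ Nat.card (pPrimeCore p ↥Y) = 1 := by
    have := pow_card_eq_one_of_mem hd
    simpa using congrArg Subtype.val this
  have hd1 : (d : G) = 1 := eq_one_of_commute hG hCN P hT hx1' hk' hcop hdm
    (congrArg Subtype.val hcomm.eq)
  exact Subtype.ext hd1

include hG hCN in
/-- `N_G(Z(J(P)))` contains the normalizer of every nontrivial subgroup of `P`. -/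
theorem normalizer_le (P : Sylow p G)
    (hT : IsThreeStepGroup p ↥(normalizer (centerThompsonAOf (P : Subgroup G) : Set G)))
    {Q : Subgroup G} (hQP : Q ≤ (P : Subgroup G)) (hQ1 : Q ≠ ⊥) :
    normalizer (Q : Set G) ≤ normalizer (centerThompsonAOf (P : Subgroup G) : Set G) := by
  apply Cfsg.Agent.Lib.Helper31_LocalZJ.normalizer_le_of_local P ?_ Q hQP hQ1
  intro Q' hQ'P hQ'1 R hRY hRp hidx
  have hQ'p : IsPGroup p Q' := P.2.to_le hQ'P
  have hYtop := normalizer_ne_top hG hQ'p hQ'1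
  have := isSolvable_of_ne_top hG hYtop
  exact Cfsg.Agent.Lib.Helper31_LocalZJ.le_normalizer_zj_solv (two_ne_of_ne_bot hG hQ'p hQ'1)
    (odd_card_subgroup hG _) (centralizer_pCore_le_normalizer hG hCN P hT hQ'p hQ'1) hRY hRp hidx

include hG hCN in
/-- `N_G(Z(J(P)))` is strongly `p`-embedded: it contains every `c` with `P ∩ P^c ≠ 1`. -/
theorem mem_of_conj_mem (P : Sylow p G)
    (hT : IsThreeStepGroup p ↥(normalizer (centerThompsonAOf (P : Subgroup G) : Set G)))
    {g c : G} (hg : g ∈ (P : Subgroup G)) (hg1 : g ≠ 1) (hcg : c * g * c⁻¹ ∈ (P : Subgroup G)) :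
    c ∈ normalizer (centerThompsonAOf (P : Subgroup G) : Set G) := by
  set N := normalizer (centerThompsonAOf (P : Subgroup G) : Set G) with hN
  have hNP : normalizer ((P : Subgroup G) : Set G) ≤ N :=
    Cfsg.Agent.S0658.normalizer_le_normalizer_zj P.2
  have hPN : (P : Subgroup G) ≤ N := Subgroup.le_normalizer.trans hNP
  have hPidx : ¬ p ∣ (P : Subgroup G).relIndex N := fun h =>
    P.not_dvd_index (h.trans (Subgroup.relIndex_dvd_index_of_le hPN))
  set g' := c * g * c⁻¹ with hg'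
  have hg'1 : g' ≠ 1 := by
    intro h
    apply hg1
    have : g = c⁻¹ * g' * c := by rw [hg']; group
    rw [this, h]
    group
  obtain ⟨k, hk⟩ := P.2 ⟨g', hcg⟩
  have hk' : g' ^ p ^ k = 1 := by simpa using congrArg Subtype.val hk
  set C := centralizer ({g'} : Set G) with hC
  have hCp : IsPGroup p C := isPGroup_centralizer hG hCN P hT hg'1 hk'
  have hCN' : C ≤ N := by
    have h1 : C ≤ normalizer ((Subgroup.zpowers g' : Subgroup G) : Set G) := by
      intro y hy
      apply Subgroup.centralizer_le_normalizer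
      intro h hh
      obtain ⟨n, rfl⟩ := Subgroup.mem_zpowers_iff.mp hh
      rw [Subgroup.mem_centralizer_singleton_iff] at hy
      have hc : Commute y g' := hy
      exact (hc.zpow_right n).eq.symm
    refine h1.trans (normalizer_le hG hCN P hT ((Subgroup.zpowers_le).mpr hcg) ?_)
    intro h
    apply hg'1
    have := Subgroup.mem_zpowers g'
    rw [h, Subgroup.mem_bot] at this
    exact this
  -- the centre of `P`
  set Zc : Subgroup G := (Subgroup.center ↥(P : Subgroup G)).map (P : Subgroup G).subtype with hZc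
  have hZcP : Zc ≤ (P : Subgroup G) := Subgroup.map_subtype_le _
  have hP1 := sylow_ne_bot hG P hT
  have hZc1 : Zc ≠ ⊥ := by
    have hnt : Nontrivial ↥(P : Subgroup G) := (Subgroup.nontrivial_iff_ne_bot _).mpr hP1
    have hcnt : Nontrivial (Subgroup.center ↥(P : Subgroup G)) := P.2.center_nontrivial
    intro h
    rw [hZc, Subgroup.map_eq_bot_iff_of_injective _ (Subgroup.subtype_injective _)] at h
    exact (Subgroup.nontrivial_iff_ne_bot _).mp hcnt h
  have hZcomm : ∀ z ∈ Zc, ∀ u ∈ (P : Subgroup G), z * u = u * z := by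
    rintro _ ⟨z, hz, rfl⟩ u hu
    have := (Subgroup.mem_center_iff.mp hz) ⟨u, hu⟩
    exact (congrArg Subtype.val this).symm
  have hPZc : (P : Subgroup G) ≤ normalizer (Zc : Set G) := by
    intro u hu
    apply Subgroup.mem_normalizer_fintype
    intro z hz
    have h1 : u * z * u⁻¹ = z := by
      rw [← hZcomm z hz u hu]
      group
    rw [h1]
    exact hz
  have hcZC : cj c Zc ≤ C := by
    intro y hy
    rw [mem_cj] at hy
    rw [hC, Subgroup.mem_centralizer_singleton_iff]
    have h1 := hZcomm _ hy g hg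
    have h2 : y * g' = c * ((c⁻¹ * y * c) * g) * c⁻¹ := by rw [hg']; group
    have h3 : g' * y = c * (g * (c⁻¹ * y * c)) * c⁻¹ := by rw [hg']; group
    rw [h2, h3, h1]
  obtain ⟨n, hnN, hn⟩ := exists_cj_le_of_relIndex P.2 hPidx hCN' hCp
  have hQ'P : cj (n * c) Zc ≤ (P : Subgroup G) := by
    rw [cj_mul]
    exact (cj_mono hcZC).trans hn
  have hQ'1 : cj (n * c) Zc ≠ ⊥ := by
    intro h
    apply hZc1
    exact (Subgroup.map_eq_bot_iff_of_injective _ (MulAut.conj (n * c)).injective).mp h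
  have hNQ' := normalizer_le hG hCN P hT hQ'P hQ'1
  have hcPN : cj (n * c) (P : Subgroup G) ≤ N := by
    refine le_trans ?_ hNQ'
    rw [← cj_normalizer]
    exact cj_mono hPZc
  obtain ⟨n', hn'N, hn'⟩ := exists_cj_le_of_relIndex P.2 hPidx hcPN (isPGroup_cj P.2)
  have ht : n' * (n * c) ∈ normalizer ((P : Subgroup G) : Set G) := by
    apply Subgroup.mem_normalizer_fintype
    intro u hu
    apply hn'
    rw [← cj_mul]
    exact conj_mem_cj hu
  have htN : n' * (n * c) ∈ N := hNP ht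
  have : c = n⁻¹ * (n'⁻¹ * (n' * (n * c))) := by group
  rw [this]
  exact mul_mem (inv_mem hnN) (mul_mem (inv_mem hn'N) htN)

include hG hCN in
/-- The configuration `N_G(Z(J(P)))` three-step is impossible. -/
theorem false_of_sylow (P : Sylow p G)
    (hT : IsThreeStepGroup p ↥(normalizer (centerThompsonAOf (P : Subgroup G) : Set G))) :
    False := by
  set N := normalizer (centerThompsonAOf (P : Subgroup G) : Set G) with hN
  have hNP : normalizer ((P : Subgroup G) : Set G) ≤ N :=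
    Cfsg.Agent.S0658.normalizer_le_normalizer_zj P.2
  have hPN : (P : Subgroup G) ≤ N := Subgroup.le_normalizer.trans hNP
  have hPidx : ¬ p ∣ (P : Subgroup G).relIndex N := fun h =>
    P.not_dvd_index (h.trans (Subgroup.relIndex_dvd_index_of_le hPN))
  have hidx : Nat.Coprime p N.index := by
    rw [Nat.Prime.coprime_iff_not_dvd hp.out]
    intro h
    exact P.not_dvd_index (h.trans (Subgroup.index_dvd_of_le hPN))
  have hfus : ∀ g ∈ N, (∃ k : ℕ, orderOf g = p ^ k) → ∀ a : G, a * g * a⁻¹ ∈ N →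
      ∃ h ∈ N, h * g * h⁻¹ = a * g * a⁻¹ := by
    rintro g hgN ⟨k, hk⟩ a ha
    by_cases hg1 : g = 1
    · exact ⟨1, one_mem _, by simp [hg1]⟩
    have hzp : IsPGroup p (Subgroup.zpowers g) :=
      IsPGroup.of_card (n := k) (by rw [Nat.card_zpowers, hk])
    obtain ⟨n₁, hn₁N, hn₁⟩ :=
      exists_cj_le_of_relIndex P.2 hPidx ((Subgroup.zpowers_le).mpr hgN) hzp
    have hg₁ : n₁ * g * n₁⁻¹ ∈ (P : Subgroup G) := hn₁ (conj_mem_cj (Subgroup.mem_zpowers g))
    have hzp' : IsPGroup p (Subgroup.zpowers (a * g * a⁻¹)) :=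
      IsPGroup.of_card (n := k) (by rw [Nat.card_zpowers, orderOf_conj', hk])
    obtain ⟨n₂, hn₂N, hn₂⟩ :=
      exists_cj_le_of_relIndex P.2 hPidx ((Subgroup.zpowers_le).mpr ha) hzp'
    have hg₂ : n₂ * (a * g * a⁻¹) * n₂⁻¹ ∈ (P : Subgroup G) :=
      hn₂ (conj_mem_cj (Subgroup.mem_zpowers _))
    have hg₁1 : n₁ * g * n₁⁻¹ ≠ 1 := by
      intro h
      apply hg1
      have : g = n₁⁻¹ * (n₁ * g * n₁⁻¹) * n₁ := by group
      rw [this, h]
      group
    have hc : n₂ * a * n₁⁻¹ ∈ N := by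
      apply mem_of_conj_mem hG hCN P hT hg₁ hg₁1
      have : n₂ * a * n₁⁻¹ * (n₁ * g * n₁⁻¹) * (n₂ * a * n₁⁻¹)⁻¹ = n₂ * (a * g * a⁻¹) * n₂⁻¹ := by
        group
      rw [this]
      exact hg₂
    have haN : a ∈ N := by
      have : a = n₂⁻¹ * (n₂ * a * n₁⁻¹) * n₁ := by group
      rw [this]
      exact mul_mem (mul_mem (inv_mem hn₂N) hc) hn₁N
    exact ⟨a, haN, rfl⟩
  have h := Cfsg.Agent.S1242.result N hidx hfus
  rw [commutator_eq_top hG, sup_top_eq, top_inf_eq] at h
  apply pResidual_sup_commutator_ne_top hT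
  apply Subgroup.map_injective N.subtype_injective
  rw [← h, ← MonoidHom.range_eq_map, Subgroup.range_subtype]

include hG hCN in
/-- No subgroup is a three-step group with respect to a prime. -/
theorem not_threeStep_prime (L : Subgroup G) : ¬ IsThreeStepGroup p ↥L := by
  intro h
  obtain ⟨P, hT⟩ := exists_sylow_threeStep hG hCN ⟨L, h⟩
  exact false_of_sylow hG hCN P hT

end Main

/-- In a minimal simple CN-group of odd order, no subgroup is a three-step group (with respect to
any natural number). -/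
theorem not_threeStep (hG : IsMinSimpleOddOrder G) (hCN : IsCNGroup G) (L : Subgroup G) (p : ℕ) :
    ¬ IsThreeStepGroup p ↥L := by
  intro h
  have hL := ne_top_of_threeStep hG h
  have := isSolvable_of_ne_top hG hL
  have hCNL : IsCNGroup ↥L := Cfsg.Agent.S1474.cn_subgroup hCN L
  obtain ⟨q, hq, h'⟩ := Cfsg.Agent.Lib.Helper31_ThreeStepCN.exists_prime_of_nat hCNL h
  have : Fact q.Prime := ⟨hq⟩
  exact not_threeStep_prime hG hCN L h'

end Cfsg.Agent.Lib.Helper31_ThreeStepMain
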