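import Mathlib
import Cfsg.Agent.Lib.Helper31_ThreeStepMain
import Cfsg.Agent.Lib.Helper31_ThreeStepCN
import Cfsg.Agent.Lib.Helper31_CN
import Cfsg.Agent.Lib.Helper1_Cores
import Cfsg.Agent.Lib.Helper1_Thompson
import Cfsg.Agent.Lib.Helper11_ZJ
import Cfsg.Agent.Lib.Helper25_CNSolv
import Cfsg.Agent.Lib.Helper35_FrobeniusNPC
import Cfsg.Agent.S0658
import Cfsg.Agent.S0659
import Cfsg.Agent.S1387
import Cfsg.Agent.S1473
import Cfsg.Agent.S1474
import Cfsg.Agent.S1476
import Cfsg.Agent.S1477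

/-!
# Maximal nilpotent subgroups and maximal subgroups of minimal simple CN-groups of odd order
(helper31)
-/

set_option autoImplicit false
set_option linter.unusedSectionVars false

namespace Cfsg.Agent.Lib.Helper31_CNMax

open Cfsg Subgroup Cfsg.Agent.Lib.Helper31_ThreeStepMain

universe u

variable {G : Type u} [Group G] [Finite G]

section Main

variable (hG : IsMinSimpleOddOrder G) (hCN : IsCNGroup G)

include hG hCN in
/-- A proper non-nilpotent subgroup has a nontrivial normal Sylow subgroup. -/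
theorem exists_normal_sylow {M : Subgroup G} (hM : M ≠ ⊤) (hnn : ¬ Group.IsNilpotent ↥M) :
    ∃ (r : ℕ) (_ : Fact r.Prime) (R : Sylow r ↥M),
      (R : Subgroup ↥M).Normal ∧ (R : Subgroup ↥M) ≠ ⊥ := by
  by_contra hs
  have := isSolvable_of_ne_top hG hM
  have hCNM : IsCNGroup ↥M := Cfsg.Agent.S1474.cn_subgroup hCN M
  obtain ⟨q, -, h3⟩ := Cfsg.Agent.S1476.three_step hCNM
    (fun H _ hH => Cfsg.Agent.S1473.result hCNM H hH) hnn (by
      intro r _ R hRn
      by_contra h
      exact hs ⟨r, inferInstance, R, hRn, h⟩)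
  exact not_threeStep hG hCN M q h3

include hG hCN in
/-- In a proper subgroup `M` with `O_p(M) ≠ 1`, the Sylow `p`-subgroups are normal. -/
theorem sylow_normal_of_pCore_ne_bot {M : Subgroup G} (hM : M ≠ ⊤) {p : ℕ} [Fact p.Prime]
    (hO : pCore p ↥M ≠ ⊥) (S : Sylow p ↥M) : (S : Subgroup ↥M).Normal := by
  by_cases hnil : Group.IsNilpotent ↥M
  · have h := ((Group.isNilpotent_of_finite_tfae (G := ↥M)).out 0 3).mp hnil
    exact h p inferInstance S
  · obtain ⟨r, hr, R, hRn, hR1⟩ := exists_normal_sylow hG hCN hM hnil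
    have hCNM : IsCNGroup ↥M := Cfsg.Agent.S1474.cn_subgroup hCN M
    by_cases hrp : p = r
    · subst hrp
      have := Sylow.unique_of_normal R hRn
      rw [Subsingleton.elim S R]
      exact hRn
    · have h2 : pCore r ↥M ≠ ⊥ := by
        intro hbot
        apply hR1
        have := Cfsg.Agent.Lib.Helper1_Cores.le_pCore hRn R.2
        rw [hbot] at this
        exact le_bot_iff.mp this
      exact Cfsg.Agent.Lib.Helper25_CNSolv.sylow_normal_of_two_cores hCNM p r hrp hO h2 S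

/-- A nontrivial `p`-subgroup `D` gives `O_p(N_G(D)) ≠ 1`. -/
theorem pCore_normalizer_ne_bot {p : ℕ} [Fact p.Prime] {D M : Subgroup G} (hD : IsPGroup p D)
    (hD1 : D ≠ ⊥) (hDM : D ≤ M) (hMD : M ≤ normalizer (D : Set G)) : pCore p ↥M ≠ ⊥ := by
  intro hbot
  have hn : (D.subgroupOf M).Normal := (Subgroup.normal_subgroupOf_iff_le_normalizer hDM).mpr hMD
  have hle : D.subgroupOf M ≤ pCore p ↥M :=
    Cfsg.Agent.Lib.Helper1_Cores.le_pCore hn hD.comap_subtype
  rw [hbot, le_bot_iff, Subgroup.subgroupOf_eq_bot] at hle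
  exact hD1 (hle.eq_bot_of_le hDM)

include hG hCN in
/-- Distinct Sylow `p`-subgroups intersect trivially. -/
theorem sylow_inf_eq_bot {p : ℕ} [Fact p.Prime] (P₁ P₂ : Sylow p G) (hne : P₁ ≠ P₂) :
    (P₁ : Subgroup G) ⊓ P₂ = ⊥ := by
  classical
  set S : Set (Sylow p G × Sylow p G) := {q | q.1 ≠ q.2} with hS
  obtain ⟨⟨Q₁, Q₂⟩, hQ, hmax⟩ := Set.exists_max_image S
    (fun q => Nat.card ((q.1 : Subgroup G) ⊓ q.2 : Subgroup G)) (Set.toFinite S) ⟨(P₁, P₂), hne⟩
  have hQ' : Q₁ ≠ Q₂ := hQ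
  have key : (Q₁ : Subgroup G) ⊓ Q₂ = ⊥ := by
    by_contra hD1
    set D := (Q₁ : Subgroup G) ⊓ Q₂ with hD
    have hDp : IsPGroup p D := Q₁.2.to_le inf_le_left
    have hMtop := normalizer_ne_top hG hDp hD1
    set M := normalizer (D : Set G) with hM
    have hO : pCore p ↥M ≠ ⊥ := pCore_normalizer_ne_bot hDp hD1 Subgroup.le_normalizer le_rfl
    obtain ⟨S₀⟩ : Nonempty (Sylow p ↥M) := inferInstance
    have hS₀n := sylow_normal_of_pCore_ne_bot hG hCN hMtop hO S₀
    obtain ⟨P₃, hP₃⟩ := (S₀.2.map M.subtype).exists_le_sylow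
    have hmem : ∀ x ∈ M, (∃ k : ℕ, x ^ p ^ k = 1) → x ∈ (P₃ : Subgroup G) := by
      rintro x hxM ⟨k, hk⟩
      apply hP₃
      refine ⟨⟨x, hxM⟩, ?_, rfl⟩
      exact Cfsg.Agent.Lib.Helper31_ThreeStepCN.mem_of_normal_sylow S₀ hS₀n (k := k)
        (Subtype.ext (by simpa using hk))
    have hDP₃ : D ≤ (P₃ : Subgroup G) := by
      intro d hd
      obtain ⟨k, hk⟩ := hDp ⟨d, hd⟩
      exact hmem d (Subgroup.le_normalizer hd) ⟨k, by simpa using congrArg Subtype.val hk⟩
    have hQi : ∀ Q : Sylow p G, D ≤ (Q : Subgroup G) → D ≠ (Q : Subgroup G) → Q = P₃ := by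
      intro Q hDQ hDne
      by_contra hQP₃
      obtain ⟨x, hxQ, hxN, hxD⟩ :=
        Cfsg.Agent.Lib.Helper35_FrobeniusNPC.exists_mem_normalizer_not_mem Q.2 hDQ hDne
      obtain ⟨k, hk⟩ := Q.2 ⟨x, hxQ⟩
      have hxP₃ : x ∈ (P₃ : Subgroup G) :=
        hmem x hxN ⟨k, by simpa using congrArg Subtype.val hk⟩
      have h1 := hmax (Q, P₃) hQP₃
      have h2 : D < (Q : Subgroup G) ⊓ P₃ :=
        lt_of_le_of_ne (le_inf hDQ hDP₃) (fun h => hxD (h ▸ ⟨hxQ, hxP₃⟩))
      have h3 := Cfsg.Agent.Lib.Helper11_ZJ.card_lt_of_lt h2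
      simp only at h1
      omega
    have h1 : D ≠ (Q₁ : Subgroup G) := by
      intro h
      have hle : (Q₁ : Subgroup G) ≤ Q₂ := h ▸ (inf_le_right : D ≤ Q₂)
      exact hQ' (Sylow.ext (Q₁.3 Q₂.2 hle)).symm
    have h2 : D ≠ (Q₂ : Subgroup G) := by
      intro h
      have hle : (Q₂ : Subgroup G) ≤ Q₁ := h ▸ (inf_le_left : D ≤ Q₁)
      exact hQ' (Sylow.ext (Q₂.3 Q₁.2 hle))
    exact hQ' ((hQi Q₁ inf_le_left h1).trans (hQi Q₂ inf_le_right h2).symm)
  have h1 := hmax (P₁, P₂) hne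
  simp only at h1
  rw [key, Subgroup.card_bot] at h1
  exact (Subgroup.card_le_one_iff_eq_bot _).mp h1

include hG in
theorem maxNil_ne_bot {H : Subgroup G}
    (hmax : ∀ L : Subgroup G, Group.IsNilpotent L → H ≤ L → L = H) : H ≠ ⊥ := by
  rintro rfl
  have := hG.2.1
  have hnt : Nontrivial G := IsSimpleGroup.toNontrivial
  obtain ⟨x, hx⟩ := exists_ne (1 : G)
  have h1 : Group.IsNilpotent (Subgroup.zpowers x) := by
    let _ : CommGroup (Subgroup.zpowers x) := IsCyclic.commGroup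
    exact CommGroup.isNilpotent
  have h2 := hmax (Subgroup.zpowers x) h1 bot_le
  apply hx
  have := Subgroup.mem_zpowers x
  rw [h2, Subgroup.mem_bot] at this
  exact this

include hG in
theorem maxNil_ne_top {H : Subgroup G} (hH : Group.IsNilpotent H) : H ≠ ⊤ := by
  rintro rfl
  apply not_isSolvable hG
  have : Group.IsNilpotent G := Group.isNilpotent_top.mp hH
  infer_instance

include hG hCN in
/-- A maximal nilpotent subgroup is a TI-subgroup. -/
theorem maxNil_TI (H : Subgroup G) (hH : Group.IsNilpotent H)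
    (hmax : ∀ L : Subgroup G, Group.IsNilpotent L → H ≤ L → L = H) (g : G)
    (hg : H.map (MulAut.conj g).toMonoidHom ≠ H) :
    H ⊓ H.map (MulAut.conj g).toMonoidHom = ⊥ := by
  have hH1 := maxNil_ne_bot hG hmax
  have h77 := Cfsg.Agent.S1477.result hCN H hH hmax
  by_cases hpp : IsPrimePow (Nat.card H)
  · obtain ⟨p, k, hp, hk, hpk⟩ := (isPrimePow_nat_iff _).mp hpp
    have : Fact p.Prime := ⟨hp⟩
    have hHp : IsPGroup p H := IsPGroup.of_card hpk.symm
    have hidx : ¬ p ∣ H.index := by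
      intro hd
      have h1 : p ∣ Nat.card H := by rw [← hpk]; exact dvd_pow_self p hk.ne'
      have := Nat.eq_one_of_dvd_coprimes h77.1 h1 hd
      exact hp.one_lt.ne' this
    have hidx' : ¬ p ∣ (H.map (MulAut.conj g).toMonoidHom).index := by
      have := Subgroup.index_map_equiv H (MulAut.conj g)
      rw [show ((MulAut.conj g : G ≃* G) : G →* G) = (MulAut.conj g).toMonoidHom from rfl] at this
      rw [this]
      exact hidx
    have hne : hHp.toSylow hidx ≠ (hHp.map (MulAut.conj g).toMonoidHom).toSylow hidx' := by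
      intro h
      apply hg
      have := congrArg (fun P : Sylow p G => (P : Subgroup G)) h
      simp only [IsPGroup.toSylow_coe] at this
      exact this.symm
    have := sylow_inf_eq_bot hG hCN _ _ hne
    simpa only [IsPGroup.toSylow_coe] using this
  · apply h77.2.1 hpp ?_ g hg
    intro h1
    exact hH1 (Subgroup.card_eq_one.mp h1)

include hCN in
/-- For a prime `p` dividing the order of a maximal nilpotent subgroup `H`, there is a Sylow
`p`-subgroup `S ≤ H` of `G` with `N_G(S) ≤ N_G(H)`. -/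
theorem exists_sylow_normalizer_le (H : Subgroup G) (hH : Group.IsNilpotent H)
    (hmax : ∀ L : Subgroup G, Group.IsNilpotent L → H ≤ L → L = H) (p : ℕ) [hp : Fact p.Prime]
    (hpH : p ∣ Nat.card H) :
    ∃ S : Sylow p G, (S : Subgroup G) ≤ H ∧ (S : Subgroup G) ≠ ⊥ ∧
      normalizer ((S : Subgroup G) : Set G) ≤ normalizer (H : Set G) := by
  obtain ⟨S, hSH, hc⟩ := Cfsg.Agent.Lib.Helper31_CN.exists_sylow_le hCN H hH hmax p hpH
  have hS1 : (S : Subgroup G) ≠ ⊥ :=
    S.ne_bot_of_dvd_card (hpH.trans (Subgroup.card_subgroup_dvd_card H))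
  refine ⟨S, hSH, hS1, ?_⟩
  have hnt : Nontrivial ↥(S : Subgroup G) := (Subgroup.nontrivial_iff_ne_bot _).mpr hS1
  have hcnt : Nontrivial (Subgroup.center ↥(S : Subgroup G)) := S.2.center_nontrivial
  obtain ⟨z, hz1⟩ := exists_ne (1 : Subgroup.center ↥(S : Subgroup G))
  have hz1' : ((z : ↥(S : Subgroup G)) : G) ≠ 1 := by
    intro h
    apply hz1
    apply Subtype.ext
    apply Subtype.ext
    simpa using h
  have hzS : ((z : ↥(S : Subgroup G)) : G) ∈ (S : Subgroup G) := (z : ↥(S : Subgroup G)).2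
  have hzc : ∀ u ∈ (S : Subgroup G),
      ((z : ↥(S : Subgroup G)) : G) * u = u * (z : ↥(S : Subgroup G)) := by
    intro u hu
    have := (Subgroup.mem_center_iff.mp z.2) ⟨u, hu⟩
    exact (congrArg Subtype.val this).symm
  set z₀ : G := ((z : ↥(S : Subgroup G)) : G) with hz₀
  have hCz : centralizer ({z₀} : Set G) = H := hc z₀ hzS hz1' hzc
  intro n hn
  apply Subgroup.mem_normalizer_fintype
  intro h hh
  have hn' : n⁻¹ ∈ normalizer ((S : Subgroup G) : Set G) := inv_mem hn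
  have hz'S : n * z₀ * n⁻¹ ∈ (S : Subgroup G) := (Subgroup.mem_normalizer_iff.mp hn z₀).mp hzS
  have hz'1 : n * z₀ * n⁻¹ ≠ 1 := by
    intro h1
    apply hz1'
    have : z₀ = n⁻¹ * (n * z₀ * n⁻¹) * n := by group
    rw [this, h1]
    group
  have hz'c : ∀ s ∈ (S : Subgroup G), n * z₀ * n⁻¹ * s = s * (n * z₀ * n⁻¹) := by
    intro s hs
    have hs' : n⁻¹ * s * n⁻¹⁻¹ ∈ (S : Subgroup G) := (Subgroup.mem_normalizer_iff.mp hn' s).mp hs
    rw [inv_inv] at hs'
    have h1 := hzc _ hs'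
    have h2 : n * z₀ * n⁻¹ * s = n * (z₀ * (n⁻¹ * s * n)) * n⁻¹ := by group
    have h3 : s * (n * z₀ * n⁻¹) = n * ((n⁻¹ * s * n) * z₀) * n⁻¹ := by group
    rw [h2, h3, h1]
  have hCz' : centralizer ({n * z₀ * n⁻¹} : Set G) = H := hc _ hz'S hz'1 hz'c
  have hhz : h * z₀ = z₀ * h := by
    have : h ∈ centralizer ({z₀} : Set G) := hCz ▸ hh
    exact Subgroup.mem_centralizer_singleton_iff.mp this
  show n * h * n⁻¹ ∈ H
  rw [← hCz', Subgroup.mem_centralizer_singleton_iff]
  have h2 : n * h * n⁻¹ * (n * z₀ * n⁻¹) = n * (h * z₀) * n⁻¹ := by group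
  have h3 : n * z₀ * n⁻¹ * (n * h * n⁻¹) = n * (z₀ * h) * n⁻¹ := by group
  rw [h2, h3, hhz]

include hG hCN in
/-- The normalizer of a maximal nilpotent subgroup is not nilpotent. -/
theorem not_isNilpotent_normalizer (H : Subgroup G) (hH : Group.IsNilpotent H)
    (hmax : ∀ L : Subgroup G, Group.IsNilpotent L → H ≤ L → L = H) :
    ¬ Group.IsNilpotent ↥(normalizer (H : Set G)) := by
  intro hnil
  have hH1 := maxNil_ne_bot hG hmax
  have hcard : Nat.card H ≠ 1 := fun h => hH1 (Subgroup.card_eq_one.mp h)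
  obtain ⟨p, hp, hpH⟩ := Nat.exists_prime_and_dvd hcard
  have : Fact p.Prime := ⟨hp⟩
  obtain ⟨S, hSH, hS1, hNS⟩ := exists_sylow_normalizer_le hCN H hH hmax p hpH
  have hp2 : p ≠ 2 := two_ne_of_ne_bot hG S.2 hS1
  have hZle : centerThompsonAOf (S : Subgroup G) ≤ S := Cfsg.Agent.S0658.zj_le _
  have hZ1 : centerThompsonAOf (S : Subgroup G) ≠ ⊥ := Cfsg.Agent.S0658.zj_ne_bot S.2 hS1
  have hZp : IsPGroup p (centerThompsonAOf (S : Subgroup G)) := S.2.to_le hZle
  set M₁ := normalizer (centerThompsonAOf (S : Subgroup G) : Set G) with hM₁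
  have hM₁top : M₁ ≠ ⊤ := normalizer_ne_top hG hZp hZ1
  have hSM₁ : (S : Subgroup G) ≤ M₁ :=
    Subgroup.le_normalizer.trans (Cfsg.Agent.S0658.normalizer_le_normalizer_zj S.2)
  have hM₁nn : ¬ Group.IsNilpotent ↥M₁ := by
    intro hn
    have h1 := Cfsg.Agent.Lib.Helper1_Thompson.hasNormalPComplement_of_isNilpotent p ↥M₁ hn
    obtain ⟨P', K, hKn, hKc⟩ := Cfsg.Agent.S0659.result hp2 S h1
    have := hG.2.1
    rcases hKn.eq_bot_or_eq_top with h | h
    · rw [h] at hKc
      have hP'top : (P' : Subgroup G) = ⊤ := Subgroup.isComplement'_bot_left.mp hKc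
      apply not_isSolvable hG
      have hpg : IsPGroup p G := by
        intro g
        obtain ⟨k, hk⟩ := P'.2 ⟨g, hP'top ▸ Subgroup.mem_top g⟩
        exact ⟨k, by simpa using congrArg Subtype.val hk⟩
      have : Group.IsNilpotent G := hpg.isNilpotent
      infer_instance
    · rw [h] at hKc
      have hP'bot : (P' : Subgroup G) = ⊥ := Subgroup.isComplement'_top_left.mp hKc
      exact P'.ne_bot_of_dvd_card (hpH.trans (Subgroup.card_subgroup_dvd_card H)) hP'bot
  have hO : pCore p ↥M₁ ≠ ⊥ := pCore_normalizer_ne_bot hZp hZ1 Subgroup.le_normalizer le_rfl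
  have hSn := sylow_normal_of_pCore_ne_bot hG hCN hM₁top hO (S.subtype hSM₁)
  have hM₁S : M₁ ≤ normalizer ((S : Subgroup G) : Set G) := by
    rw [Sylow.coe_subtype] at hSn
    exact (Subgroup.normal_subgroupOf_iff_le_normalizer hSM₁).mp hSn
  have hM₁N : M₁ ≤ normalizer (H : Set G) := hM₁S.trans hNS
  apply hM₁nn
  have := hnil
  exact Subgroup.isNilpotent_of_ker_le_center (Subgroup.inclusion hM₁N) (by
    rw [(MonoidHom.ker_eq_bot_iff _).mpr (Subgroup.inclusion_injective hM₁N)]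
    exact bot_le)

include hCN in
/-- For a maximal nilpotent subgroup `H`, the largest normal nilpotent Hall subgroup of `N_G(H)`
is `H`. -/
theorem fittingHall_normalizer (H : Subgroup G) (hH : Group.IsNilpotent H)
    (hmax : ∀ L : Subgroup G, Group.IsNilpotent L → H ≤ L → L = H) :
    fittingHall ↥(normalizer (H : Set G)) = H.subgroupOf (normalizer (H : Set G)) := by
  set N := normalizer (H : Set G) with hN
  have hHN : H ≤ N := Subgroup.le_normalizer
  have hn : (H.subgroupOf N).Normal := Subgroup.normal_in_normalizer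
  have hnil' : Group.IsNilpotent ↥(H.subgroupOf N) := by
    have := hH
    exact Group.nilpotent_of_mulEquiv (Subgroup.subgroupOfEquivOfLe hHN).symm
  have hcard : Nat.card ↥(H.subgroupOf N) = Nat.card H :=
    Nat.card_congr (Subgroup.subgroupOfEquivOfLe hHN).toEquiv
  have hcop : (Nat.card ↥(H.subgroupOf N)).Coprime (H.subgroupOf N).index := by
    rw [hcard]
    exact Nat.Coprime.coprime_dvd_right (Subgroup.relIndex_dvd_index_of_le hHN)
      (Cfsg.Agent.S1477.result hCN H hH hmax).1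
  have hle : H.subgroupOf N ≤ fittingHall ↥N := le_sSup ⟨hn, hnil', hcop⟩
  have hFnil : Group.IsNilpotent ↥(fittingHall ↥N) := Cfsg.Agent.S1474.fittingHall_nilpotent
  have hmapnil : Group.IsNilpotent ↥((fittingHall ↥N).map N.subtype) :=
    Group.nilpotent_of_mulEquiv
      ((fittingHall ↥N).equivMapOfInjective N.subtype N.subtype_injective)
  have hHle : H ≤ (fittingHall ↥N).map N.subtype := by
    intro x hx
    exact ⟨⟨x, hHN hx⟩, hle (Subgroup.mem_subgroupOf.mpr hx), rfl⟩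
  have heq := hmax _ hmapnil hHle
  apply le_antisymm _ hle
  intro y hy
  rw [Subgroup.mem_subgroupOf, ← heq]
  exact ⟨y, hy, rfl⟩

omit [Finite G] in
/-- Transport of a complement with fixed-point-free action from `↥M` to `G`. -/
theorem isComplIn_of_isComplement' {M : Subgroup G} {F E : Subgroup ↥M}
    (hc : Subgroup.IsComplement' F E) (hE1 : E ≠ ⊥)
    (hfpf : ∀ e ∈ E, e ≠ 1 → F ⊓ centralizer ({e} : Set ↥M) = ⊥) :
    IsComplIn (F.map M.subtype) (E.map M.subtype) M ∧ E.map M.subtype ≠ ⊥ ∧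
      ∀ e ∈ E.map M.subtype, e ≠ 1 → F.map M.subtype ⊓ centralizer ({e} : Set G) = ⊥ := by
  refine ⟨⟨Subgroup.map_subtype_le _, Subgroup.map_subtype_le _, ?_, ?_⟩, ?_, ?_⟩
  · rw [← Subgroup.map_inf _ _ _ M.subtype_injective, hc.disjoint.eq_bot, Subgroup.map_bot]
  · intro m hm
    obtain ⟨⟨f, e⟩, hfe, -⟩ := (Subgroup.isComplement'_def.mp hc).existsUnique ⟨m, hm⟩
    refine ⟨(f : ↥M), ⟨f, f.2, rfl⟩, (e : ↥M), ⟨e, e.2, rfl⟩, ?_⟩
    have := congrArg Subtype.val hfe
    simpa using this.symm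
  · intro h
    exact hE1 ((Subgroup.map_eq_bot_iff_of_injective _ M.subtype_injective).mp h)
  · rintro _ ⟨e, he, rfl⟩ he1
    have he1' : e ≠ 1 := by
      rintro rfl
      exact he1 rfl
    rw [eq_bot_iff]
    rintro x ⟨⟨f, hf, rfl⟩, hx2⟩
    rw [Subgroup.mem_bot]
    have h1 : f ∈ F ⊓ centralizer ({e} : Set ↥M) := by
      refine Subgroup.mem_inf.mpr ⟨hf, ?_⟩
      rw [Subgroup.mem_centralizer_singleton_iff]
      apply Subtype.ext
      have := Subgroup.mem_centralizer_singleton_iff.mp hx2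
      simpa using this
    rw [hfpf e he he1', Subgroup.mem_bot] at h1
    rw [h1]
    rfl

include hG in
theorem normalizer_maxNil_ne_top (H : Subgroup G) (hH : Group.IsNilpotent H)
    (hmax : ∀ L : Subgroup G, Group.IsNilpotent L → H ≤ L → L = H) :
    normalizer (H : Set G) ≠ ⊤ := by
  intro htop
  have hHn : H.Normal := Subgroup.normalizer_eq_top_iff.mp htop
  have := hG.2.1
  rcases hHn.eq_bot_or_eq_top with h | h
  · exact maxNil_ne_bot hG hmax h
  · exact maxNil_ne_top hG hH h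

include hG hCN in
/-- `N_G(H) = H ⋊ E` with `E ≠ 1` acting fixed-point-freely, for `H` maximal nilpotent. -/
theorem normalizer_structure (H : Subgroup G) (hH : Group.IsNilpotent H)
    (hmax : ∀ L : Subgroup G, Group.IsNilpotent L → H ≤ L → L = H) :
    ∃ E : Subgroup G, IsComplIn H E (normalizer (H : Set G)) ∧ E ≠ ⊥ ∧
      ∀ e ∈ E, e ≠ 1 → H ⊓ centralizer ({e} : Set G) = ⊥ := by
  set N := normalizer (H : Set G) with hN
  have hNtop : N ≠ ⊤ := normalizer_maxNil_ne_top hG H hH hmax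
  have hnn := not_isNilpotent_normalizer hG hCN H hH hmax
  obtain ⟨r, hr, R, hRn, hR1⟩ := exists_normal_sylow hG hCN hNtop hnn
  have hCNN : IsCNGroup ↥N := Cfsg.Agent.S1474.cn_subgroup hCN N
  obtain ⟨-, hFtop, ⟨E, hc, -, hfpf⟩, -⟩ := Cfsg.Agent.S1474.result hCNN hnn r R hR1 hRn
  have hE1 : E ≠ ⊥ := by
    intro h
    rw [h] at hc
    exact hFtop (Subgroup.isComplement'_bot_right.mp hc)
  obtain ⟨h1, h2, h3⟩ := isComplIn_of_isComplement' hc hE1 hfpf
  rw [fittingHall_normalizer hCN H hH hmax,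
    Subgroup.map_subgroupOf_eq_of_le Subgroup.le_normalizer] at h1 h3
  exact ⟨E.map N.subtype, h1, h2, h3⟩

include hG hCN in
/-- The normalizer of a maximal nilpotent subgroup is a maximal subgroup. -/
theorem isCoatom_normalizer (H : Subgroup G) (hH : Group.IsNilpotent H)
    (hmax : ∀ L : Subgroup G, Group.IsNilpotent L → H ≤ L → L = H) :
    IsCoatom (normalizer (H : Set G)) := by
  set N := normalizer (H : Set G) with hN
  have hHN : H ≤ N := Subgroup.le_normalizer
  have hH1 := maxNil_ne_bot hG hmax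
  refine ⟨normalizer_maxNil_ne_top hG H hH hmax, ?_⟩
  intro M hNM
  by_contra hMtop
  have hNnn := not_isNilpotent_normalizer hG hCN H hH hmax
  have hMnn : ¬ Group.IsNilpotent ↥M := by
    intro hnil
    apply hNnn
    exact Subgroup.isNilpotent_of_ker_le_center (Subgroup.inclusion hNM.le) (by
      rw [(MonoidHom.ker_eq_bot_iff _).mpr (Subgroup.inclusion_injective hNM.le)]
      exact bot_le)
  obtain ⟨r, hr, R, hRn, hR1⟩ := exists_normal_sylow hG hCN hMtop hMnn
  have hCNM : IsCNGroup ↥M := Cfsg.Agent.S1474.cn_subgroup hCN M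
  obtain ⟨-, -, -, hquot⟩ := Cfsg.Agent.S1474.result hCNM hMnn r R hR1 hRn
  have hFnil : Group.IsNilpotent ↥(fittingHall ↥M) := Cfsg.Agent.S1474.fittingHall_nilpotent
  set F := fittingHall ↥M with hF
  by_cases hint : H ⊓ F.map M.subtype = ⊥
  · -- the coprime case: `N` embeds in the nilpotent group `M / F`
    apply hNnn
    have hTI := maxNil_TI hG hCN H hH hmax
    have hcent := (Cfsg.Agent.S1477.result hCN H hH hmax).2.2 hTI
    obtain ⟨h, hh1⟩ := (Subgroup.ne_bot_iff_exists_ne_one).mp hH1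
    have hh1' : (h : G) ≠ 1 := fun h' => hh1 (Subtype.ext h')
    have hA : ∀ a ∈ N, a ∈ F.map M.subtype → a = 1 := by
      intro a haN haF
      have hhM : (h : G) ∈ M := hNM.le (hHN h.2)
      have h1 : a * (h : G) * a⁻¹ * (h : G)⁻¹ ∈ H := by
        have : a * (h : G) * a⁻¹ ∈ H := (Subgroup.mem_normalizer_iff.mp haN h).mp h.2
        exact mul_mem this (inv_mem h.2)
      have h2 : a * (h : G) * a⁻¹ * (h : G)⁻¹ ∈ F.map M.subtype := by
        obtain ⟨a', ha', rfl⟩ := haF
        have h3 : (⟨(h : G), hhM⟩ : ↥M) * a'⁻¹ * (⟨(h : G), hhM⟩ : ↥M)⁻¹ ∈ F :=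
          (inferInstance : F.Normal).conj_mem _ (inv_mem ha') _
        refine ⟨a' * ((⟨(h : G), hhM⟩ : ↥M) * a'⁻¹ * (⟨(h : G), hhM⟩ : ↥M)⁻¹), mul_mem ha' h3, ?_⟩
        simp only [Subgroup.subtype_apply, Subgroup.coe_mul, Subgroup.coe_inv]
        group
      have h3 : a * (h : G) * a⁻¹ * (h : G)⁻¹ ∈ H ⊓ F.map M.subtype :=
        Subgroup.mem_inf.mpr ⟨h1, h2⟩
      rw [hint, Subgroup.mem_bot] at h3
      have hcomm : a * (h : G) = (h : G) * a := by
        have : a * (h : G) * a⁻¹ * (h : G)⁻¹ * ((h : G) * a) = (h : G) * a := by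
          rw [h3, one_mul]
        rw [← this]
        group
      have haH : a ∈ H := by
        apply hcent (h : G) h.2 hh1'
        rw [Subgroup.mem_centralizer_singleton_iff]
        exact hcomm
      have : a ∈ H ⊓ F.map M.subtype := Subgroup.mem_inf.mpr ⟨haH, haF⟩
      rw [hint, Subgroup.mem_bot] at this
      exact this
    have := hquot
    apply Subgroup.isNilpotent_of_ker_le_center
      ((QuotientGroup.mk' F).comp (Subgroup.inclusion hNM.le))
    intro x hx
    rw [MonoidHom.mem_ker, MonoidHom.comp_apply, QuotientGroup.mk'_apply,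
      QuotientGroup.eq_one_iff] at hx
    have hx1 : (x : G) = 1 := hA x x.2 ⟨_, hx, rfl⟩
    have : x = 1 := Subtype.ext hx1
    rw [this]
    exact one_mem _
  · -- some prime divides both `|H|` and `|F|`
    have hne : H ⊓ F.map M.subtype ≠ ⊥ := hint
    obtain ⟨x, hx1⟩ := (Subgroup.ne_bot_iff_exists_ne_one).mp hne
    have hx1' : (x : G) ≠ 1 := fun h' => hx1 (Subtype.ext h')
    obtain ⟨hxH, hxF⟩ := Subgroup.mem_inf.mp x.2
    have hord : orderOf (x : G) ≠ 1 := fun h' => hx1' (orderOf_eq_one_iff.mp h')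
    obtain ⟨q, hq, hqd⟩ := Nat.exists_prime_and_dvd hord
    have : Fact q.Prime := ⟨hq⟩
    set y : G := (x : G) ^ (orderOf (x : G) / q) with hy
    have hyord : orderOf y = q := orderOf_pow_orderOf_div (orderOf_pos (x : G)).ne' hqd
    have hyH : y ∈ H := H.pow_mem hxH _
    have hyF : y ∈ F.map M.subtype := (F.map M.subtype).pow_mem hxF _
    have hy1 : y ≠ 1 := by
      intro h'
      rw [h', orderOf_one] at hyord
      exact hq.one_lt.ne hyord
    have hqH : q ∣ Nat.card H := by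
      rw [← hyord, ← Subgroup.orderOf_mk y hyH]
      exact orderOf_dvd_natCard _
    obtain ⟨S, hSH, hS1, hNS⟩ := exists_sylow_normalizer_le hCN H hH hmax q hqH
    have hSM : (S : Subgroup G) ≤ M := hSH.trans (hHN.trans hNM.le)
    have hO : pCore q ↥M ≠ ⊥ := by
      obtain ⟨T, hTF, hTn, hTq, hT⟩ :=
        Cfsg.Agent.Lib.Helper25_CNSolv.exists_normal_qPart F hFnil q
      obtain ⟨y', hy'F, hy'⟩ := hyF
      have hy'T : y' ∈ T := by
        apply hT y' hy'F
        refine ⟨1, ?_⟩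
        apply Subtype.ext
        have : (y' : G) = y := hy'
        simp only [Subgroup.coe_pow, Subgroup.coe_one, this, pow_one]
        rw [← hyord]
        exact pow_orderOf_eq_one y
      intro hbot
      have hle := Cfsg.Agent.Lib.Helper1_Cores.le_pCore hTn hTq
      rw [hbot] at hle
      have : y' = 1 := (Subgroup.mem_bot).mp (hle hy'T)
      apply hy1
      rw [← hy', this]
      rfl
    have hSn := sylow_normal_of_pCore_ne_bot hG hCN hMtop hO (S.subtype hSM)
    have hMS : M ≤ normalizer ((S : Subgroup G) : Set G) := by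
      rw [Sylow.coe_subtype] at hSn
      exact (Subgroup.normal_subgroupOf_iff_le_normalizer hSM).mp hSn
    exact hNM.not_ge (hMS.trans hNS)

include hG hCN in
/-- A maximal subgroup is not nilpotent. -/
theorem not_isNilpotent_of_isCoatom {M : Subgroup G} (hM : IsCoatom M) :
    ¬ Group.IsNilpotent ↥M := by
  intro hnil
  obtain ⟨H₀, hMH₀, hH₀nil, hH₀max⟩ := Cfsg.Agent.Lib.Helper31_CN.exists_max_nilpotent M hnil
  have hH₀top := maxNil_ne_top hG hH₀nil
  have hMH : M = H₀ := by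
    by_contra hne
    exact hH₀top (hM.2 H₀ (lt_of_le_of_ne hMH₀ hne))
  subst hMH
  have hnn := not_isNilpotent_normalizer hG hCN M hH₀nil hH₀max
  have hNtop := normalizer_maxNil_ne_top hG M hH₀nil hH₀max
  have hNM : normalizer (M : Set G) = M := by
    by_contra hne
    exact hNtop (hM.2 _ (lt_of_le_of_ne Subgroup.le_normalizer (Ne.symm hne)))
  rw [hNM] at hnn
  exact hnn hnil

include hG hCN in
/-- Structure of a maximal subgroup: `M = H ⋊ E` with `H` a maximal nilpotent subgroup of `G` and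
`E ≠ 1` acting fixed-point-freely. -/
theorem coatom_structure {M : Subgroup G} (hM : IsCoatom M) :
    ∃ H E : Subgroup G, Group.IsNilpotent H ∧
      (∀ L : Subgroup G, Group.IsNilpotent L → H ≤ L → L = H) ∧
      M ≤ normalizer (H : Set G) ∧ IsComplIn H E M ∧ H ≠ ⊥ ∧ E ≠ ⊥ ∧
      ∀ e ∈ E, e ≠ 1 → H ⊓ centralizer ({e} : Set G) = ⊥ := by
  have hMtop : M ≠ ⊤ := hM.1
  have hMnn := not_isNilpotent_of_isCoatom hG hCN hM
  obtain ⟨r, hr, R, hRn, hR1⟩ := exists_normal_sylow hG hCN hMtop hMnn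
  have hCNM : IsCNGroup ↥M := Cfsg.Agent.S1474.cn_subgroup hCN M
  obtain ⟨hFbot, hFtop, ⟨E, hc, -, hfpf⟩, -⟩ := Cfsg.Agent.S1474.result hCNM hMnn r R hR1 hRn
  have hFnil : Group.IsNilpotent ↥(fittingHall ↥M) := Cfsg.Agent.S1474.fittingHall_nilpotent
  set F := fittingHall ↥M with hF
  have hFn : F.Normal := inferInstance
  have hE1 : E ≠ ⊥ := by
    intro h
    rw [h] at hc
    exact hFtop (Subgroup.isComplement'_bot_right.mp hc)
  obtain ⟨h1, h2, h3⟩ := isComplIn_of_isComplement' hc hE1 hfpf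
  have hHnil : Group.IsNilpotent ↥(F.map M.subtype) :=
    Group.nilpotent_of_mulEquiv (F.equivMapOfInjective M.subtype M.subtype_injective)
  have hH1 : F.map M.subtype ≠ ⊥ := by
    intro h
    exact hFbot ((Subgroup.map_eq_bot_iff_of_injective _ M.subtype_injective).mp h)
  have hMN : M ≤ normalizer ((F.map M.subtype : Subgroup G) : Set G) := by
    intro m hm
    apply Subgroup.mem_normalizer_fintype
    rintro _ ⟨f, hf, rfl⟩
    exact ⟨⟨m, hm⟩ * f * ⟨m, hm⟩⁻¹, hFn.conj_mem f hf ⟨m, hm⟩, rfl⟩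
  refine ⟨F.map M.subtype, E.map M.subtype, hHnil, ?_, hMN, h1, hH1, h2, h3⟩
  -- maximality
  intro L hL hHL
  apply le_antisymm _ hHL
  -- a prime dividing `|F|`
  have hcardF : Nat.card F ≠ 1 := fun h => hFbot (Subgroup.card_eq_one.mp h)
  obtain ⟨p, hp, hpF⟩ := Nat.exists_prime_and_dvd hcardF
  have : Fact p.Prime := ⟨hp⟩
  have hO : pCore p ↥M ≠ ⊥ := by
    obtain ⟨T, hTF, hTn, hTp, hT⟩ :=
      Cfsg.Agent.Lib.Helper25_CNSolv.exists_normal_qPart F hFnil p
    obtain ⟨y, hy⟩ := exists_prime_orderOf_dvd_card' (G := F) p hpF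
    have hyT : (y : ↥M) ∈ T := by
      apply hT (y : ↥M) y.2
      refine ⟨1, ?_⟩
      rw [pow_one, ← hy, ← Subgroup.orderOf_coe]
      exact pow_orderOf_eq_one _
    intro hbot
    have hle := Cfsg.Agent.Lib.Helper1_Cores.le_pCore hTn hTp
    rw [hbot] at hle
    have h0 : (y : ↥M) = 1 := (Subgroup.mem_bot).mp (hle hyT)
    have : y = 1 := Subtype.ext h0
    rw [this, orderOf_one] at hy
    exact hp.one_lt.ne hy
  obtain ⟨S_M⟩ : Nonempty (Sylow p ↥M) := inferInstance
  have hSn := sylow_normal_of_pCore_ne_bot hG hCN hMtop hO S_M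
  have hSF : (S_M : Subgroup ↥M) ≤ F := Cfsg.Agent.S1474.sylow_le_fittingHall p S_M hSn
  set S : Subgroup G := (S_M : Subgroup ↥M).map M.subtype with hS
  have hSp : IsPGroup p S := S_M.2.map _
  have hSM : S ≤ M := Subgroup.map_subtype_le _
  have hS1 : S ≠ ⊥ := by
    intro h
    have h0 := (Subgroup.map_eq_bot_iff_of_injective _ M.subtype_injective).mp h
    have hpM : p ∣ Nat.card ↥M := hpF.trans (Subgroup.card_subgroup_dvd_card F)
    exact S_M.ne_bot_of_dvd_card hpM h0
  have hMS : M ≤ normalizer (S : Set G) := by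
    intro m hm
    apply Subgroup.mem_normalizer_fintype
    rintro _ ⟨f, hf, rfl⟩
    exact ⟨⟨m, hm⟩ * f * ⟨m, hm⟩⁻¹, hSn.conj_mem f hf ⟨m, hm⟩, rfl⟩
  have hNS : normalizer (S : Set G) = M := by
    by_contra hne
    exact normalizer_ne_top hG hSp hS1 (hM.2 _ (lt_of_le_of_ne hMS (Ne.symm hne)))
  have hSH : S ≤ F.map M.subtype := Subgroup.map_mono hSF
  have hSL : S ≤ L := hSH.trans hHL
  -- `S` is a Sylow subgroup of `G`
  obtain ⟨P, hSP⟩ := hSp.exists_le_sylow
  have hSP' : S = (P : Subgroup G) := by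
    by_contra hne
    obtain ⟨x, hxP, hxN, hxS⟩ :=
      Cfsg.Agent.Lib.Helper35_FrobeniusNPC.exists_mem_normalizer_not_mem P.2 hSP hne
    apply hxS
    have hxM : x ∈ M := hNS ▸ hxN
    obtain ⟨k, hk⟩ := P.2 ⟨x, hxP⟩
    have hk' : x ^ p ^ k = 1 := by simpa using congrArg Subtype.val hk
    refine ⟨⟨x, hxM⟩, ?_, rfl⟩
    exact Cfsg.Agent.Lib.Helper31_ThreeStepCN.mem_of_normal_sylow S_M hSn (k := k)
      (Subtype.ext (by simpa using hk'))
  -- `L ≤ N_G(S) = M`
  have hPL : (P : Subgroup G) ≤ L := hSP' ▸ hSL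
  have hLM : L ≤ M := by
    have hPn : ((P.subtype hPL : Sylow p ↥L) : Subgroup ↥L).Normal := by
      have h := ((Group.isNilpotent_of_finite_tfae (G := ↥L)).out 0 3).mp hL
      exact h p inferInstance _
    rw [Sylow.coe_subtype] at hPn
    have := (Subgroup.normal_subgroupOf_iff_le_normalizer hPL).mp hPn
    rw [← hSP', hNS] at this
    exact this
  -- coprimality of `|F|` and `|E|`
  have hcop : (Nat.card F).Coprime (Nat.card E) := by
    have h4 := Cfsg.Agent.S1387.fittingHall_coprime ↥M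
    rw [hc.symm.index_eq_card] at h4
    exact h4
  intro l hl
  obtain ⟨⟨f, e⟩, hfe, -⟩ := (Subgroup.isComplement'_def.mp hc).existsUnique ⟨l, hLM hl⟩
  have hfe' : ((f : ↥M) : G) * ((e : ↥M) : G) = l := by
    have := congrArg Subtype.val hfe
    simpa using this
  have hfL : ((f : ↥M) : G) ∈ L := hHL ⟨f, f.2, rfl⟩
  have heL : ((e : ↥M) : G) ∈ L := by
    have : ((e : ↥M) : G) = ((f : ↥M) : G)⁻¹ * l := by rw [← hfe']; group
    rw [this]
    exact mul_mem (inv_mem hfL) hl
  have he1 : (e : ↥M) = 1 := by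
    by_contra hne
    have hfp := hfpf (e : ↥M) e.2 hne
    apply hFbot
    rw [eq_bot_iff]
    intro k hk
    rw [← hfp]
    refine Subgroup.mem_inf.mpr ⟨hk, ?_⟩
    rw [Subgroup.mem_centralizer_singleton_iff]
    apply Subtype.ext
    have hkL : (k : G) ∈ L := hHL ⟨k, hk, rfl⟩
    have hkc : (k : G) ^ Nat.card F = 1 := by
      have := Cfsg.Agent.Lib.Helper31_ThreeStep.pow_card_eq_one_of_mem hk
      simpa using congrArg Subtype.val this
    have hec : ((e : ↥M) : G) ^ Nat.card E = 1 := by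
      have := Cfsg.Agent.Lib.Helper31_ThreeStep.pow_card_eq_one_of_mem e.2
      simpa using congrArg Subtype.val this
    simp only [Subgroup.coe_mul]
    exact Cfsg.Agent.Lib.Helper25_CNSolv.commute_in_nilpotent L hL _ _ hkL heL _ _ hkc hec hcop
  refine ⟨f, f.2, ?_⟩
  rw [← hfe', he1]
  simp

end Main

end Cfsg.Agent.Lib.Helper31_CNMax
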