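import Mathlib

/-!
# Arithmetic endgame of Suzuki's CA theorem (helper31)

`endgame`: the numerical relations coming from the character table of a would-be simple
CA-group of odd order are contradictory.
-/

set_option autoImplicit false

namespace Cfsg.Agent.Lib.Helper31_CAEnd

open Finset

theorem endgame {ι : Type*} [Fintype ι] [DecidableEq ι] [Nonempty ι]
    (a e t : ι → ℕ) (c : ι → ι → ℤ) (g : ℕ)
    (ha : ∀ i, a i = 1 + t i * e i) (ht : ∀ i, 2 ≤ t i) (he : ∀ i, 2 ≤ e i)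
    (hinj : Function.Injective a)
    (hclass : ∑ i, (t i : ℝ) / a i = 1 - 1 / g)
    (hrow : ∀ k, ∑ m ∈ Finset.univ.erase k, (t m : ℝ) * (c k m : ℝ) ^ 2 / a m
      ≤ (e k : ℝ) / a k - 1 / g)
    (hcol : ∀ k, ∑ i ∈ Finset.univ.erase k, (t i : ℝ) * (c i k : ℝ) ^ 2 ≤ (e k : ℝ) - 1)
    (hpar : ∀ k m, k ≠ m → c k m ≠ 0 ∨ c m k ≠ 0) : False := by
  classical
  obtain ⟨k, -, hk⟩ := Finset.exists_min_image Finset.univ a Finset.univ_nonempty
  have hapos : ∀ i, (0 : ℝ) < a i := by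
    intro i
    have : 0 < a i := by rw [ha i]; omega
    exact_mod_cast this
  have hak : ∀ m, m ≠ k → (a k : ℝ) + 1 ≤ a m := by
    intro m hm
    have h1 := hk m (Finset.mem_univ m)
    have h2 : a k ≠ a m := fun h => hm (hinj h).symm
    have : a k + 1 ≤ a m := by omega
    exact_mod_cast this
  have hsq : ∀ z : ℤ, z ≠ 0 → (1 : ℝ) ≤ (z : ℝ) ^ 2 := by
    intro z hz
    have h1 : (1 : ℤ) ≤ z ^ 2 := by
      have := sq_nonneg z
      have h2 : z ^ 2 ≠ 0 := pow_ne_zero 2 hz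
      omega
    exact_mod_cast h1
  -- termwise
  have hterm : ∀ m ∈ Finset.univ.erase k, (t m : ℝ) / a m ≤
      (t m : ℝ) * (c k m : ℝ) ^ 2 / a m + (t m : ℝ) * (c m k : ℝ) ^ 2 / ((a k : ℝ) + 1) := by
    intro m hm
    have hmk : m ≠ k := (Finset.mem_erase.mp hm).1
    have htm : (0 : ℝ) ≤ t m := Nat.cast_nonneg _
    have h1 : (0 : ℝ) ≤ (t m : ℝ) * (c k m : ℝ) ^ 2 / a m :=
      div_nonneg (mul_nonneg htm (sq_nonneg _)) (hapos m).le
    have h2 : (0 : ℝ) ≤ (t m : ℝ) * (c m k : ℝ) ^ 2 / ((a k : ℝ) + 1) :=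
      div_nonneg (mul_nonneg htm (sq_nonneg _)) (by have := hapos k; linarith)
    rcases hpar k m (Ne.symm hmk) with h | h
    · have h3 := hsq _ h
      have : (t m : ℝ) / a m ≤ (t m : ℝ) * (c k m : ℝ) ^ 2 / a m := by
        apply div_le_div_of_nonneg_right _ (hapos m).le
        nlinarith
      linarith
    · have h3 := hsq _ h
      have h4 : (t m : ℝ) / a m ≤ (t m : ℝ) / ((a k : ℝ) + 1) :=
        div_le_div_of_nonneg_left htm (by have := hapos k; linarith) (hak m hmk)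
      have h5 : (t m : ℝ) / ((a k : ℝ) + 1) ≤ (t m : ℝ) * (c m k : ℝ) ^ 2 / ((a k : ℝ) + 1) := by
        apply div_le_div_of_nonneg_right _ (by have := hapos k; linarith)
        nlinarith
      linarith
  have hsum := Finset.sum_le_sum hterm
  rw [Finset.sum_add_distrib, ← Finset.sum_div] at hsum
  have hsplit : ∑ m ∈ Finset.univ.erase k, (t m : ℝ) / a m = 1 - 1 / g - (t k : ℝ) / a k := by
    rw [← hclass, ← Finset.add_sum_erase Finset.univ _ (Finset.mem_univ k)]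
    ring
  rw [hsplit] at hsum
  have hr := hrow k
  have hc := hcol k
  have hc' : (∑ i ∈ Finset.univ.erase k, (t i : ℝ) * (c i k : ℝ) ^ 2) / ((a k : ℝ) + 1) ≤
      ((e k : ℝ) - 1) / ((a k : ℝ) + 1) :=
    div_le_div_of_nonneg_right hc (by have := hapos k; linarith)
  -- final arithmetic
  have hT : (2 : ℝ) ≤ t k := by exact_mod_cast ht k
  have hE : (2 : ℝ) ≤ e k := by exact_mod_cast he k
  have hA : (a k : ℝ) = 1 + t k * e k := by exact_mod_cast ha k
  have hApos := hapos k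
  have key : 1 - (t k : ℝ) / a k - (e k : ℝ) / a k ≤ ((e k : ℝ) - 1) / ((a k : ℝ) + 1) := by
    linarith
  have hA1 : (0 : ℝ) < (a k : ℝ) + 1 := by linarith
  rw [show 1 - (t k : ℝ) / a k - (e k : ℝ) / a k = ((a k : ℝ) - t k - e k) / a k by
    field_simp] at key
  rw [div_le_div_iff₀ hApos hA1] at key
  have h6 : (a k : ℝ) - t k - e k = ((t k : ℝ) - 1) * ((e k : ℝ) - 1) := by rw [hA]; ring
  rw [h6] at key
  have h7 : (0 : ℝ) < (e k : ℝ) - 1 := by linarith
  have h8 : ((t k : ℝ) - 1) * ((a k : ℝ) + 1) ≤ a k := by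
    have : ((e k : ℝ) - 1) * (((t k : ℝ) - 1) * ((a k : ℝ) + 1)) ≤ ((e k : ℝ) - 1) * a k := by
      nlinarith
    exact le_of_mul_le_mul_left this h7
  nlinarith

end Cfsg.Agent.Lib.Helper31_CAEnd
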