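import Mathlib
import Cfsg.Agent.Lib.Helper57_FrobNorm2
import Cfsg.Agent.Lib.Helper17_FrobChar
import Cfsg.Agent.S0850
import Cfsg.Agent.S0851

/-!
# Local character theory of an abelian TI subgroup with Frobenius normalizer (helper31)

`K ≤ G` abelian, TI, containing the centralizers of its nonidentity elements, `N = N_G(K)`.
The relevant characters of `N` (not constant on `K`), their number, their column sums on `K`,
and the values of the irreducible characters of `G` on `K` minus 1.
-/

set_option autoImplicit false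
set_option linter.unusedSectionVars false

namespace Cfsg.Agent.Lib.Helper31_CALocal

open Subgroup
open scoped ComplexConjugate
open Cfsg.Agent.Lib.Helper3_CharBridge Cfsg.Agent.Lib.Helper3_CharOrtho
  Cfsg.Agent.Lib.Helper3_CharComplete Cfsg.Agent.Lib.Helper3_CharColumn
  Cfsg.Agent.Lib.Helper75_CharArith Cfsg.Agent.Lib.Helper75_Induced
  Cfsg.Agent.Lib.Helper57_FrobNorm Cfsg.Agent.Lib.Helper57_FrobNorm2

variable {G : Type*} [Group G] [Fintype G]

/-- The relevant characters of `N_G(K)`: irreducible and not constant on `K`. -/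
abbrev IsRel (K : Subgroup G) (χ : Cfsg.IrrCharacter (normalizer (K : Set G))) : Prop :=
  ∃ k : normalizer (K : Set G), (k : G) ∈ K ∧
    (χ : ↥(normalizer (K : Set G)) → ℂ) k ≠ (χ : ↥(normalizer (K : Set G)) → ℂ) 1

abbrev Rel (K : Subgroup G) : Type _ :=
  {χ : Cfsg.IrrCharacter (normalizer (K : Set G)) // IsRel K χ}

/-- `K` as a subgroup of its normalizer. -/
abbrev AK (K : Subgroup G) : Subgroup (normalizer (K : Set G)) :=
  K.subgroupOf (normalizer (K : Set G))

section

variable (K : Subgroup G)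

instance normalAK : (AK K).Normal := Subgroup.normal_in_normalizer

theorem card_AK : Nat.card (AK K) = Nat.card K :=
  Nat.card_congr (Subgroup.subgroupOfEquivOfLe le_normalizer).toEquiv

theorem card_normalizer : Nat.card (normalizer (K : Set G)) = Nat.card K * (AK K).index := by
  rw [← card_AK K, Subgroup.card_mul_index]

variable (hC : ∀ k ∈ K, k ≠ 1 → centralizer ({k} : Set G) ≤ K)
  (hab : ∀ a ∈ K, ∀ b ∈ K, a * b = b * a)

include hab in
theorem habA : ∀ a b : AK K, a * b = b * a := by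
  intro a b
  apply Subtype.ext
  apply Subtype.ext
  exact hab _ (Subgroup.mem_subgroupOf.mp a.2) _ (Subgroup.mem_subgroupOf.mp b.2)

include hC in
theorem hCA : ∀ a ∈ AK K, a ≠ 1 → ∀ m : normalizer (K : Set G), m * a = a * m → m ∈ AK K := by
  intro a ha ha1 m hm
  rw [Subgroup.mem_subgroupOf]
  apply hC (a : G) (Subgroup.mem_subgroupOf.mp ha) (fun h => ha1 (Subtype.ext h))
  rw [Subgroup.mem_centralizer_iff]
  intro y hy
  rw [Set.mem_singleton_iff] at hy
  rw [hy]
  exact (congrArg Subtype.val hm).symm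

include hC in
theorem hFA : ∀ x : normalizer (K : Set G), x ∉ AK K → ∀ k ∈ AK K, x * k = k * x → k = 1 := by
  intro x hx k hk hxk
  by_contra hk1
  exact hx (hCA K hC k hk hk1 x hxk)

theorem isRel_iff (χ : Cfsg.IrrCharacter (normalizer (K : Set G))) :
    IsRel K χ ↔ ∃ k ∈ AK K, (χ : ↥(normalizer (K : Set G)) → ℂ) k ≠
      (χ : ↥(normalizer (K : Set G)) → ℂ) 1 := by
  constructor
  · rintro ⟨k, hk, h⟩
    exact ⟨k, Subgroup.mem_subgroupOf.mpr hk, h⟩
  · rintro ⟨k, hk, h⟩
    exact ⟨k, Subgroup.mem_subgroupOf.mp hk, h⟩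

variable [Fintype ↥(normalizer (K : Set G))]

include hC hab in
/-- Relevant characters vanish off `K`. -/
theorem rel_vanish (χ : Rel K) (x : normalizer (K : Set G)) (hx : (x : G) ∉ K) :
    (χ.1 : ↥(normalizer (K : Set G)) → ℂ) x = 0 := by
  obtain ⟨k, hk, h⟩ := χ.2
  exact Cfsg.Agent.Lib.Helper17_FrobChar.eq_zero_of_not_mem (AK K) (habA K hab) (hCA K hC) χ.1
    ⟨k, Subgroup.mem_subgroupOf.mpr hk, h⟩ x (fun h => hx (Subgroup.mem_subgroupOf.mp h))

include hC hab in
/-- Relevant characters have degree `|N : K|`. -/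
theorem rel_deg (χ : Rel K) :
    (χ.1 : ↥(normalizer (K : Set G)) → ℂ) 1 = ((AK K).index : ℂ) := by
  obtain ⟨k, hk, h⟩ := χ.2
  rw [Cfsg.Agent.Lib.Helper17_FrobChar.apply_one_of_relevant (AK K) (habA K hab) (hCA K hC) χ.1
    ⟨k, Subgroup.mem_subgroupOf.mpr hk, h⟩, ← Subgroup.card_mul_index (AK K)]
  have : (Nat.card (AK K) : ℂ) ≠ 0 := by
    rw [Nat.cast_ne_zero]; exact Nat.card_pos.ne'
  push_cast
  field_simp

open Classical in
/-- Splitting a sum over the irreducible characters of `N` into relevant and non-relevant. -/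
theorem sum_split (F : Cfsg.IrrCharacter (normalizer (K : Set G)) → ℂ) :
    ∑ φ, F φ = ∑ χ : Rel K, F χ.1 +
      ∑ φ : Cfsg.IrrCharacter (normalizer (K : Set G)),
        (if (∃ k ∈ AK K, (φ : ↥(normalizer (K : Set G)) → ℂ) k ≠
          (φ : ↥(normalizer (K : Set G)) → ℂ) 1) then 0 else F φ) := by
  have h1 : ∑ χ : Rel K, F χ.1 = ∑ φ, (if IsRel K φ then F φ else 0) := by
    rw [← Finset.sum_filter]
    exact (Finset.sum_subtype (Finset.univ.filter (IsRel K)) (by simp) F).symm
  rw [h1, ← Finset.sum_add_distrib]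
  refine Finset.sum_congr rfl (fun φ _ => ?_)
  by_cases h : IsRel K φ
  · rw [if_pos h, if_pos ((isRel_iff K φ).mp h), add_zero]
  · rw [if_neg h, if_neg (fun h' => h ((isRel_iff K φ).mpr h')), zero_add]

end

/-! ### Sums over `K` minus the identity -/

/-- The sum of `F` over the nonidentity elements of `K`. -/
noncomputable def kSum (K : Subgroup G) (F : G → ℂ) : ℂ := by
  classical exact ∑ x : G, if x ∈ K ∧ x ≠ 1 then F x else 0

theorem kSum_congr (K : Subgroup G) {F F' : G → ℂ} (h : ∀ x ∈ K, x ≠ 1 → F x = F' x) :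
    kSum K F = kSum K F' := by
  classical
  unfold kSum
  refine Finset.sum_congr rfl (fun x _ => ?_)
  by_cases hx : x ∈ K ∧ x ≠ 1
  · rw [if_pos hx, if_pos hx, h x hx.1 hx.2]
  · rw [if_neg hx, if_neg hx]

theorem kSum_add (K : Subgroup G) (F F' : G → ℂ) :
    kSum K (fun x => F x + F' x) = kSum K F + kSum K F' := by
  classical
  unfold kSum
  rw [← Finset.sum_add_distrib]
  refine Finset.sum_congr rfl (fun x _ => ?_)
  split_ifs <;> simp

theorem kSum_mul_left (K : Subgroup G) (c : ℂ) (F : G → ℂ) :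
    kSum K (fun x => c * F x) = c * kSum K F := by
  classical
  unfold kSum
  rw [Finset.mul_sum]
  refine Finset.sum_congr rfl (fun x _ => ?_)
  split_ifs <;> simp

theorem kSum_const (K : Subgroup G) (c : ℂ) :
    kSum K (fun _ => c) = ((Nat.card K : ℂ) - 1) * c := by
  classical
  unfold kSum
  rw [← Finset.sum_filter, Finset.sum_const, nsmul_eq_mul]
  congr 1
  have h1 : (Finset.univ.filter (fun x : G => x ∈ K ∧ x ≠ 1)) =
      (Finset.univ.filter (fun x : G => x ∈ K)).erase 1 := by
    ext x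
    simp only [Finset.mem_filter, Finset.mem_univ, true_and, Finset.mem_erase]
    tauto
  rw [h1, Finset.card_erase_of_mem (by simp [K.one_mem])]
  have h2 : (Finset.univ.filter (fun x : G => x ∈ K)).card = Nat.card K := by
    rw [Nat.card_eq_fintype_card, Fintype.card_subtype]
  rw [h2, Nat.cast_sub Nat.card_pos, Nat.cast_one]

theorem kSum_conj (K : Subgroup G) (F : G → ℂ) :
    kSum K (fun x => conj (F x)) = conj (kSum K F) := by
  classical
  unfold kSum
  rw [map_sum]
  refine Finset.sum_congr rfl (fun x _ => ?_)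
  split_ifs <;> simp

/-- `kSum` as a sum over the subtype of nonidentity elements of `K`. -/
theorem kSum_eq_sum_subtype (K : Subgroup G) (F : G → ℂ) [Fintype {x : K // x ≠ 1}] :
    kSum K F = ∑ x : {x : K // x ≠ 1}, F ((x : K) : G) := by
  classical
  unfold kSum
  rw [← Finset.sum_filter]
  symm
  refine Finset.sum_bij (fun (x : {x : K // x ≠ 1}) _ => ((x : K) : G)) ?_ ?_ ?_ ?_
  · intro x _
    simp only [Finset.mem_filter, Finset.mem_univ, true_and]
    exact ⟨x.1.2, fun h => x.2 (Subtype.ext h)⟩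
  · intro x _ y _ hxy
    exact Subtype.ext (Subtype.ext hxy)
  · intro y hy
    simp only [Finset.mem_filter, Finset.mem_univ, true_and] at hy
    exact ⟨⟨⟨y, hy.1⟩, fun h => hy.2 (congrArg Subtype.val h)⟩, Finset.mem_univ _, rfl⟩
  · intro x _
    rfl

/-- A function vanishing off `K` sums to its value at `1` plus its `kSum`. -/
theorem sum_eq_kSum (K : Subgroup G) (F : G → ℂ) (hF : ∀ x, x ∉ K → F x = 0) :
    ∑ x : G, F x = F 1 + kSum K F := by
  classical
  unfold kSum
  have h1 : F 1 = ∑ x : G, if x = 1 then F x else 0 := by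
    rw [Finset.sum_ite_eq' Finset.univ (1 : G) F, if_pos (Finset.mem_univ _)]
  rw [h1, ← Finset.sum_add_distrib]
  refine Finset.sum_congr rfl (fun x _ => ?_)
  by_cases hx1 : x = 1
  · rw [if_pos hx1, if_neg (fun h => h.2 hx1), add_zero]
  · rw [if_neg hx1, zero_add]
    by_cases hxK : x ∈ K
    · rw [if_pos ⟨hxK, hx1⟩]
    · rw [if_neg (fun h => hxK h.1), hF x hxK]

/-! ### Relevant characters: counts and column sums -/

section chars

variable (K : Subgroup G)
  (hC : ∀ k ∈ K, k ≠ 1 → centralizer ({k} : Set G) ≤ K)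
  (hab : ∀ a ∈ K, ∀ b ∈ K, a * b = b * a)
  [Fintype ↥(normalizer (K : Set G))]

include hC in
open Classical in
theorem sum_nonrel_sq :
    ∑ φ : Cfsg.IrrCharacter (normalizer (K : Set G)),
      (if (∃ k ∈ AK K, (φ : ↥(normalizer (K : Set G)) → ℂ) k ≠
        (φ : ↥(normalizer (K : Set G)) → ℂ) 1) then 0
        else (φ : ↥(normalizer (K : Set G)) → ℂ) 1 * (φ : ↥(normalizer (K : Set G)) → ℂ) 1) =
      ((AK K).index : ℂ) := by
  have h := card_mul_sum_sq_const (AK K) (hFA K hC)
  rw [← Subgroup.card_mul_index (AK K)] at h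
  have h0 : (Nat.card (AK K) : ℂ) ≠ 0 := by
    rw [Nat.cast_ne_zero]; exact Nat.card_pos.ne'
  push_cast at h
  exact mul_left_cancel₀ h0 h

include hC hab in
open Classical in
/-- The number of relevant characters. -/
theorem rel_count : Nat.card (Rel K) * (AK K).index + 1 = Nat.card K := by
  have h1 := sum_sq_irr_one (G := normalizer (K : Set G))
  rw [sum_split K (fun φ => (φ : ↥(normalizer (K : Set G)) → ℂ) 1 ^ 2)] at h1
  have h2 : ∑ φ : Cfsg.IrrCharacter (normalizer (K : Set G)),
      (if (∃ k ∈ AK K, (φ : ↥(normalizer (K : Set G)) → ℂ) k ≠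
        (φ : ↥(normalizer (K : Set G)) → ℂ) 1) then 0
        else (φ : ↥(normalizer (K : Set G)) → ℂ) 1 ^ 2) = ((AK K).index : ℂ) := by
    rw [← sum_nonrel_sq K hC]
    refine Finset.sum_congr rfl (fun φ _ => ?_)
    rw [sq]
  rw [h2] at h1
  have h3 : ∑ χ : Rel K, (χ.1 : ↥(normalizer (K : Set G)) → ℂ) 1 ^ 2 =
      (Nat.card (Rel K) : ℂ) * ((AK K).index : ℂ) ^ 2 := by
    rw [Finset.sum_congr rfl (fun χ _ => by rw [rel_deg K hC hab χ]), Finset.sum_const,
      Finset.card_univ, nsmul_eq_mul, Nat.card_eq_fintype_card]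
  rw [h3, card_normalizer K] at h1
  have hpos : 0 < (AK K).index := Nat.pos_of_ne_zero Subgroup.index_ne_zero_of_finite
  have h4 : (Nat.card (Rel K) * (AK K).index + 1) * (AK K).index =
      Nat.card K * (AK K).index := by
    have : ((Nat.card (Rel K) * (AK K).index + 1) * (AK K).index : ℂ) =
        (Nat.card K * (AK K).index : ℂ) := by
      push_cast at h1 ⊢
      linear_combination h1
    exact_mod_cast this
  exact Nat.eq_of_mul_eq_mul_right hpos h4

include hC hab in
open Classical in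
/-- Column sums of the relevant characters at a nonidentity element of `K`. -/
theorem rel_col {x : G} (hx : x ∈ K) (hx1 : x ≠ 1) :
    ∑ χ : Rel K, Cfsg.extendByZero (normalizer (K : Set G))
      (χ.1 : ↥(normalizer (K : Set G)) → ℂ) x = -1 ∧
    ∑ χ : Rel K, Cfsg.extendByZero (normalizer (K : Set G))
      (χ.1 : ↥(normalizer (K : Set G)) → ℂ) x *
      conj (Cfsg.extendByZero (normalizer (K : Set G))
        (χ.1 : ↥(normalizer (K : Set G)) → ℂ) x) = (Nat.card K : ℂ) - ((AK K).index : ℂ) := by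
  have hxN : x ∈ normalizer (K : Set G) := le_normalizer hx
  set x' : normalizer (K : Set G) := ⟨x, hxN⟩ with hx'
  have hx'A : x' ∈ AK K := Subgroup.mem_subgroupOf.mpr hx
  have hx'1 : x' ≠ 1 := fun h => hx1 (congrArg Subtype.val h)
  have hext : ∀ χ : Rel K, Cfsg.extendByZero (normalizer (K : Set G))
      (χ.1 : ↥(normalizer (K : Set G)) → ℂ) x = (χ.1 : ↥(normalizer (K : Set G)) → ℂ) x' :=
    fun χ => extendByZero_of_mem _ _ hxN
  simp_rw [hext]
  have hnon : ∀ φ : Cfsg.IrrCharacter (normalizer (K : Set G)),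
      ¬ (∃ k ∈ AK K, (φ : ↥(normalizer (K : Set G)) → ℂ) k ≠
        (φ : ↥(normalizer (K : Set G)) → ℂ) 1) →
      (φ : ↥(normalizer (K : Set G)) → ℂ) x' = (φ : ↥(normalizer (K : Set G)) → ℂ) 1 := by
    intro φ h
    by_contra h2
    exact h ⟨x', hx'A, h2⟩
  have he0 : ((AK K).index : ℂ) ≠ 0 := by
    rw [Nat.cast_ne_zero]; exact Subgroup.index_ne_zero_of_finite
  constructor
  · have h1 := sum_irr_one_mul_eq_zero (G := normalizer (K : Set G)) hx'1
    rw [sum_split K (fun φ => (φ : ↥(normalizer (K : Set G)) → ℂ) 1 *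
      (φ : ↥(normalizer (K : Set G)) → ℂ) x')] at h1
    have h2 : ∑ φ : Cfsg.IrrCharacter (normalizer (K : Set G)),
        (if (∃ k ∈ AK K, (φ : ↥(normalizer (K : Set G)) → ℂ) k ≠
          (φ : ↥(normalizer (K : Set G)) → ℂ) 1) then 0
          else (φ : ↥(normalizer (K : Set G)) → ℂ) 1 *
            (φ : ↥(normalizer (K : Set G)) → ℂ) x') = ((AK K).index : ℂ) := by
      rw [← sum_nonrel_sq K hC]
      refine Finset.sum_congr rfl (fun φ _ => ?_)
      split_ifs with h
      · rfl
      · rw [hnon φ h]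
    rw [h2] at h1
    have h3 : ∑ χ : Rel K, (χ.1 : ↥(normalizer (K : Set G)) → ℂ) 1 *
        (χ.1 : ↥(normalizer (K : Set G)) → ℂ) x' =
        ((AK K).index : ℂ) * ∑ χ : Rel K, (χ.1 : ↥(normalizer (K : Set G)) → ℂ) x' := by
      rw [Finset.mul_sum]
      refine Finset.sum_congr rfl (fun χ _ => ?_)
      rw [rel_deg K hC hab χ]
    rw [h3] at h1
    have h4 : ((AK K).index : ℂ) *
        (∑ χ : Rel K, (χ.1 : ↥(normalizer (K : Set G)) → ℂ) x' + 1) = 0 := by
      linear_combination h1
    rcases mul_eq_zero.mp h4 with h5 | h5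
    · exact absurd h5 he0
    · linear_combination h5
  · have h1 := column_orthogonality_self (G := normalizer (K : Set G)) x'
    have hcent : centralizer ({x'} : Set (normalizer (K : Set G))) = AK K := by
      ext m
      rw [mem_centralizer_singleton_iff]
      constructor
      · intro hm
        exact hCA K hC x' hx'A hx'1 m hm
      · intro hm
        exact habA K hab ⟨m, hm⟩ ⟨x', hx'A⟩ |> fun h => congrArg Subtype.val h
    rw [hcent, card_AK K] at h1
    rw [sum_split K (fun φ => (φ : ↥(normalizer (K : Set G)) → ℂ) x' *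
      conj ((φ : ↥(normalizer (K : Set G)) → ℂ) x'))] at h1
    have h2 : ∑ φ : Cfsg.IrrCharacter (normalizer (K : Set G)),
        (if (∃ k ∈ AK K, (φ : ↥(normalizer (K : Set G)) → ℂ) k ≠
          (φ : ↥(normalizer (K : Set G)) → ℂ) 1) then 0
          else (φ : ↥(normalizer (K : Set G)) → ℂ) x' *
            conj ((φ : ↥(normalizer (K : Set G)) → ℂ) x')) = ((AK K).index : ℂ) := by
      rw [← sum_nonrel_sq K hC]
      refine Finset.sum_congr rfl (fun φ _ => ?_)
      split_ifs with h
      · rfl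
      · rw [hnon φ h]
        obtain ⟨n, -, hn⟩ := irr_one_eq_natCast φ.2
        rw [hn, Complex.conj_natCast]
    rw [h2] at h1
    linear_combination h1

include hC hab in
theorem ext_vanish (χ : Rel K) (x : G) (hx : x ∉ K) :
    Cfsg.extendByZero (normalizer (K : Set G)) (χ.1 : ↥(normalizer (K : Set G)) → ℂ) x = 0 := by
  by_cases hxN : x ∈ normalizer (K : Set G)
  · rw [extendByZero_of_mem _ _ hxN]
    exact rel_vanish K hC hab χ ⟨x, hxN⟩ hx
  · exact extendByZero_of_not_mem _ _ hxN

include hC hab in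
theorem ext_one (χ : Rel K) :
    Cfsg.extendByZero (normalizer (K : Set G)) (χ.1 : ↥(normalizer (K : Set G)) → ℂ) 1 =
      ((AK K).index : ℂ) := by
  rw [extendByZero_of_mem _ _ (one_mem _)]
  exact rel_deg K hC hab χ

include hC hab in
/-- Row sums of a relevant character over the nonidentity elements of `K`. -/
theorem rel_row (χ : Rel K) :
    kSum K (Cfsg.extendByZero (normalizer (K : Set G))
      (χ.1 : ↥(normalizer (K : Set G)) → ℂ)) = -((AK K).index : ℂ) ∧
    kSum K (fun x => Cfsg.extendByZero (normalizer (K : Set G))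
      (χ.1 : ↥(normalizer (K : Set G)) → ℂ) x *
      conj (Cfsg.extendByZero (normalizer (K : Set G))
        (χ.1 : ↥(normalizer (K : Set G)) → ℂ) x)) =
      (Nat.card K : ℂ) * ((AK K).index : ℂ) - ((AK K).index : ℂ) ^ 2 := by
  constructor
  · have h1 := sum_eq_kSum K _ (ext_vanish K hC hab χ)
    rw [sum_extendByZero, ext_one K hC hab χ] at h1
    have h2 : ∑ x : normalizer (K : Set G), (χ.1 : ↥(normalizer (K : Set G)) → ℂ) x = 0 := by
      apply sum_irr_eq_zero_of_ne_one χ.1.2
      intro h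
      obtain ⟨k, -, hk1⟩ := χ.2
      apply hk1
      rw [h]
    rw [h2] at h1
    linear_combination -h1
  · have h1 := sum_eq_kSum K (fun x => Cfsg.extendByZero (normalizer (K : Set G))
      (χ.1 : ↥(normalizer (K : Set G)) → ℂ) x *
      conj (Cfsg.extendByZero (normalizer (K : Set G))
        (χ.1 : ↥(normalizer (K : Set G)) → ℂ) x)) (by
        intro x hx
        simp only [ext_vanish K hC hab χ x hx, zero_mul])
    rw [sum_extendByZero_mul (normalizer (K : Set G)) (χ.1 : ↥(normalizer (K : Set G)) → ℂ)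
      (fun x => conj (Cfsg.extendByZero (normalizer (K : Set G))
        (χ.1 : ↥(normalizer (K : Set G)) → ℂ) x))] at h1
    simp only [extendByZero_coe, ext_one K hC hab χ, Complex.conj_natCast] at h1
    have h2 := classInner_self_of_isIrrCharacter χ.1.2
    unfold Cfsg.classInner at h2
    have hN0 : (Nat.card (normalizer (K : Set G)) : ℂ) ≠ 0 := by
      rw [Nat.cast_ne_zero]; exact Nat.card_pos.ne'
    have h3 : ∑ g : normalizer (K : Set G), (χ.1 : ↥(normalizer (K : Set G)) → ℂ) g *
        conj ((χ.1 : ↥(normalizer (K : Set G)) → ℂ) g) =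
        (Nat.card (normalizer (K : Set G)) : ℂ) := by
      field_simp at h2
      exact h2
    rw [h3, card_normalizer K] at h1
    push_cast at h1
    linear_combination -h1

include hC hab in
open Classical in
/-- A generalized character of `N` having the same multiplicity for all relevant characters is a
constant integer on `K` minus 1. -/
theorem const_on_kernel (F : ↥(normalizer (K : Set G)) → ℂ)
    (hF : Cfsg.IsGeneralizedCharacter ↥(normalizer (K : Set G)) F)
    (hconst : ∀ φ φ' : Rel K, Cfsg.classInner F (φ.1 : ↥(normalizer (K : Set G)) → ℂ) =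
      Cfsg.classInner F (φ'.1 : ↥(normalizer (K : Set G)) → ℂ)) :
    ∃ z : ℤ, ∀ x : normalizer (K : Set G), x ∈ AK K → x ≠ 1 → F x = z := by
  have hFc := isClassFunction_of_isGeneralizedCharacter hF
  have hint : ∀ φ : Cfsg.IrrCharacter (normalizer (K : Set G)), ∃ n : ℤ,
      Cfsg.classInner F (φ : ↥(normalizer (K : Set G)) → ℂ) = n := fun φ =>
    classInner_genChar_int hF (isCharacter_of_isIrrCharacter φ.2)
  choose n hn using hint
  have hdeg : ∀ φ : Cfsg.IrrCharacter (normalizer (K : Set G)), ∃ d : ℕ,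
      (φ : ↥(normalizer (K : Set G)) → ℂ) 1 = d := fun φ => by
    obtain ⟨d, -, hd⟩ := irr_one_eq_natCast φ.2
    exact ⟨d, hd⟩
  choose d hd using hdeg
  have he0 : ((AK K).index : ℂ) ≠ 0 := by
    rw [Nat.cast_ne_zero]; exact Subgroup.index_ne_zero_of_finite
  by_cases hne : Nonempty (Rel K)
  · obtain ⟨φ₀⟩ := hne
    have hc : ∀ φ : Cfsg.IrrCharacter (normalizer (K : Set G)),
        (∃ k ∈ AK K, (φ : ↥(normalizer (K : Set G)) → ℂ) k ≠
          (φ : ↥(normalizer (K : Set G)) → ℂ) 1) →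
        Cfsg.classInner F (φ : ↥(normalizer (K : Set G)) → ℂ) =
          ((n φ₀.1 : ℂ) / ((AK K).index : ℂ)) * (φ : ↥(normalizer (K : Set G)) → ℂ) 1 := by
      intro φ hφ
      have hφ' : IsRel K φ := (isRel_iff K φ).mpr hφ
      have h1 := hconst ⟨φ, hφ'⟩ φ₀
      have h2 := rel_deg K hC hab ⟨φ, hφ'⟩
      simp only at h1 h2
      rw [h1, h2, hn φ₀.1]
      field_simp
    refine ⟨∑ φ : Cfsg.IrrCharacter (normalizer (K : Set G)),
      (if (∃ k ∈ AK K, (φ : ↥(normalizer (K : Set G)) → ℂ) k ≠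
        (φ : ↥(normalizer (K : Set G)) → ℂ) 1) then 0 else n φ * d φ) - n φ₀.1, ?_⟩
    intro x hx hx1
    rw [eval_on_kernel (AK K) (hFA K hC) F hFc _ hc hx hx1]
    push_cast
    congr 1
    · refine Finset.sum_congr rfl (fun φ _ => ?_)
      split_ifs
      · rfl
      · rw [hn φ, hd φ]
    · field_simp
  · have hc : ∀ φ : Cfsg.IrrCharacter (normalizer (K : Set G)),
        (∃ k ∈ AK K, (φ : ↥(normalizer (K : Set G)) → ℂ) k ≠
          (φ : ↥(normalizer (K : Set G)) → ℂ) 1) →
        Cfsg.classInner F (φ : ↥(normalizer (K : Set G)) → ℂ) =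
          (0 : ℂ) * (φ : ↥(normalizer (K : Set G)) → ℂ) 1 := by
      intro φ hφ
      exact absurd ⟨⟨φ, (isRel_iff K φ).mpr hφ⟩⟩ hne
    refine ⟨∑ φ : Cfsg.IrrCharacter (normalizer (K : Set G)),
      (if (∃ k ∈ AK K, (φ : ↥(normalizer (K : Set G)) → ℂ) k ≠
        (φ : ↥(normalizer (K : Set G)) → ℂ) 1) then 0 else n φ * d φ), ?_⟩
    intro x hx hx1
    rw [eval_on_kernel (AK K) (hFA K hC) F hFc _ hc hx hx1]
    push_cast
    rw [zero_mul, sub_zero]
    refine Finset.sum_congr rfl (fun φ _ => ?_)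
    split_ifs
    · rfl
    · rw [hn φ, hd φ]

end chars

/-! ### Values of the irreducible characters of `G` on `K` minus 1 -/

section values

variable (K : Subgroup G)
  (hTI : ∀ g : G, g ∉ normalizer (K : Set G) → ∀ k ∈ K, g * k * g⁻¹ ∈ K → k = 1)
  (hC : ∀ k ∈ K, k ≠ 1 → centralizer ({k} : Set G) ≤ K)
  (hab : ∀ a ∈ K, ∀ b ∈ K, a * b = b * a)
  [Fintype ↥(normalizer (K : Set G))]
  (ε : ℂ) (f : Rel K → Cfsg.IrrCharacter G)
  (hind : ∀ χ ξ : Rel K, Cfsg.indFun (normalizer (K : Set G))
    ((χ.1 : ↥(normalizer (K : Set G)) → ℂ) - (ξ.1 : ↥(normalizer (K : Set G)) → ℂ)) =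
    ε • ((f χ : G → ℂ) - (f ξ : G → ℂ)))

include hind in
open Classical in
theorem inner_res_diff (θ : Cfsg.IrrCharacter G) (φ φ' : Rel K) :
    Cfsg.classInner (φ.1 : ↥(normalizer (K : Set G)) → ℂ)
        (fun x : normalizer (K : Set G) => (θ : G → ℂ) x) -
      Cfsg.classInner (φ'.1 : ↥(normalizer (K : Set G)) → ℂ)
        (fun x : normalizer (K : Set G) => (θ : G → ℂ) x) =
      ε * ((if (f φ : G → ℂ) = (θ : G → ℂ) then 1 else 0) -
        (if (f φ' : G → ℂ) = (θ : G → ℂ) then 1 else 0)) := by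
  have hcf := isClassFunction_of_isIrrCharacter θ.2
  rw [← frobenius_reciprocity _ _ _ hcf, ← frobenius_reciprocity _ _ _ hcf,
    ← classInner_sub_left, ← Cfsg.Agent.S0851.indFun_sub', hind φ φ', classInner_smul_left,
    classInner_sub_left, classInner_irr (f φ).2 θ.2, classInner_irr (f φ').2 θ.2]

include hC hab hind in
/-- An irreducible character of `G` outside the exceptional family is a constant integer on
`K` minus 1. -/
theorem val_of_not_range (θ : Cfsg.IrrCharacter G) (hθ : ∀ χ : Rel K, f χ ≠ θ) :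
    ∃ z : ℤ, ∀ x ∈ K, x ≠ 1 → (θ : G → ℂ) x = z := by
  classical
  have hF : Cfsg.IsGeneralizedCharacter ↥(normalizer (K : Set G))
      (fun x : normalizer (K : Set G) => (θ : G → ℂ) x) :=
    ⟨_, 0, isCharacter_restrict _ (isCharacter_of_isIrrCharacter θ.2), isCharacter_zero,
      by simp⟩
  obtain ⟨z, hz⟩ := const_on_kernel K hC hab _ hF (by
    intro φ φ'
    have h1 := inner_res_diff K ε f hind θ φ φ'
    rw [if_neg (fun h => hθ φ (Subtype.ext h)), if_neg (fun h => hθ φ' (Subtype.ext h)),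
      sub_self, mul_zero, sub_eq_zero] at h1
    rw [← classInner_conj_symm, h1, classInner_conj_symm])
  refine ⟨z, fun x hx hx1 => ?_⟩
  have := hz ⟨x, le_normalizer hx⟩ (Subgroup.mem_subgroupOf.mpr hx)
    (fun h => hx1 (congrArg Subtype.val h))
  exact this

include hTI hC hab hind in
/-- The exceptional characters restricted to `K` minus 1: `ε χ` plus a constant integer. -/
theorem val_of_range (hε : ε = 1 ∨ ε = -1) (hinj : Function.Injective f) :
    ∃ z : ℤ, ∀ χ : Rel K, ∀ x ∈ K, x ≠ 1 → (f χ : G → ℂ) x =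
      ε * Cfsg.extendByZero (normalizer (K : Set G)) (χ.1 : ↥(normalizer (K : Set G)) → ℂ) x
        + z := by
  classical
  by_cases hne : Nonempty (Rel K)
  swap
  · exact ⟨0, fun χ => absurd ⟨χ⟩ hne⟩
  obtain ⟨χ₀⟩ := hne
  set R : ↥(normalizer (K : Set G)) → ℂ :=
    fun x : normalizer (K : Set G) => (f χ₀ : G → ℂ) x with hR
  have hRchar : Cfsg.IsCharacter ↥(normalizer (K : Set G)) R :=
    isCharacter_restrict _ (isCharacter_of_isIrrCharacter (f χ₀).2)
  have hχ₀char : Cfsg.IsCharacter ↥(normalizer (K : Set G))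
      (χ₀.1 : ↥(normalizer (K : Set G)) → ℂ) := isCharacter_of_isIrrCharacter χ₀.1.2
  have hεconj : conj ε = ε := by
    rcases hε with h | h <;> simp [h]
  have hεε : ε * ε = 1 := by
    rcases hε with h | h <;> simp [h]
  have hF : Cfsg.IsGeneralizedCharacter ↥(normalizer (K : Set G))
      (R - ε • (χ₀.1 : ↥(normalizer (K : Set G)) → ℂ)) := by
    rcases hε with h | h
    · exact ⟨R, _, hRchar, hχ₀char, by rw [h, one_smul]⟩
    · refine ⟨R + (χ₀.1 : ↥(normalizer (K : Set G)) → ℂ), 0, isCharacter_add hRchar hχ₀char,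
        isCharacter_zero, ?_⟩
      rw [h]
      funext x
      simp
  have hδ : ∀ φ : Rel K, (if (f φ : G → ℂ) = (f χ₀ : G → ℂ) then (1 : ℂ) else 0) =
      (if (χ₀.1 : ↥(normalizer (K : Set G)) → ℂ) = (φ.1 : ↥(normalizer (K : Set G)) → ℂ)
        then 1 else 0) := by
    intro φ
    by_cases h : φ = χ₀
    · subst h
      rw [if_pos rfl, if_pos rfl]
    · rw [if_neg, if_neg]
      · intro h2
        exact h (Subtype.ext (Subtype.ext h2)).symm
      · intro h2
        exact h (hinj (Subtype.ext h2))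
  obtain ⟨z, hz⟩ := const_on_kernel K hC hab _ hF (by
    intro φ φ'
    have h1 := inner_res_diff K ε f hind (f χ₀) φ φ'
    have h2 := congrArg conj h1
    rw [map_sub, classInner_conj_symm, classInner_conj_symm, map_mul, hεconj, map_sub] at h2
    simp only [apply_ite conj, map_one, map_zero] at h2
    rw [hδ φ, hδ φ'] at h2
    rw [classInner_sub_left, classInner_sub_left, classInner_smul_left, classInner_smul_left,
      classInner_irr χ₀.1.2 φ.1.2, classInner_irr χ₀.1.2 φ'.1.2]
    linear_combination h2)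
  refine ⟨z, fun χ x hx hx1 => ?_⟩
  have hxN : x ∈ normalizer (K : Set G) := le_normalizer hx
  set x' : normalizer (K : Set G) := ⟨x, hxN⟩ with hx'
  have hx'1 : x' ≠ 1 := fun h => hx1 (congrArg Subtype.val h)
  have hz' := hz x' (Subgroup.mem_subgroupOf.mpr hx) hx'1
  simp only [Pi.sub_apply, Pi.smul_apply, smul_eq_mul, hR] at hz'
  have hψ : Cfsg.IsClassFunction ↥(normalizer (K : Set G))
      ((χ.1 : ↥(normalizer (K : Set G)) → ℂ) - (χ₀.1 : ↥(normalizer (K : Set G)) → ℂ)) :=
    isClassFunction_sub (isClassFunction_of_isIrrCharacter χ.1.2)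
      (isClassFunction_of_isIrrCharacter χ₀.1.2)
  have hψT : ∀ y : normalizer (K : Set G), (y : G) ∉ (K : Set G) →
      ((χ.1 : ↥(normalizer (K : Set G)) → ℂ) - (χ₀.1 : ↥(normalizer (K : Set G)) → ℂ)) y = 0 := by
    intro y hy
    rw [Pi.sub_apply, rel_vanish K hC hab χ y hy, rel_vanish K hC hab χ₀ y hy, sub_zero]
  have h3 := Cfsg.Agent.Lib.Helper75_TISubset.indFun_eq_of_TI (K : Set G) hTI _ hψ hψT x' hx hx'1
  rw [hind χ χ₀] at h3
  simp only [Pi.smul_apply, Pi.sub_apply, smul_eq_mul] at h3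
  rw [extendByZero_of_mem _ _ hxN]
  have h4 : (f χ : G → ℂ) x - (f χ₀ : G → ℂ) x =
      ε * ((χ.1 : ↥(normalizer (K : Set G)) → ℂ) x' -
        (χ₀.1 : ↥(normalizer (K : Set G)) → ℂ) x') := by
    have : (f χ : G → ℂ) x - (f χ₀ : G → ℂ) x =
        (ε * ε) * ((f χ : G → ℂ) x - (f χ₀ : G → ℂ) x) := by rw [hεε, one_mul]
    rw [this, mul_assoc]
    congr 1
  linear_combination h4 + hz'

end values

end Cfsg.Agent.Lib.Helper31_CALocal
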