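import Mathlib
import Cfsg.Agent.Lib.Helper31_CALocal
import Cfsg.Agent.Lib.Helper31_CAEnd

/-!
# No odd-order group is covered by conjugates of abelian TI subgroups with Frobenius normalizers
(helper31)

Main theorem `no_abelian_partition`: Peterfalvi (7.1) / Suzuki's CA argument in the case where all
the kernels `H i` are abelian.
-/

set_option autoImplicit false
set_option linter.unusedSectionVars false

namespace Cfsg.Agent.Lib.Helper31_CAMain

open Subgroup Classical
open scoped ComplexConjugate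
open Cfsg.Agent.Lib.Helper3_CharBridge Cfsg.Agent.Lib.Helper3_CharOrtho
  Cfsg.Agent.Lib.Helper3_CharComplete Cfsg.Agent.Lib.Helper3_CharColumn
  Cfsg.Agent.Lib.Helper75_CharArith Cfsg.Agent.Lib.Helper75_Induced
  Cfsg.Agent.Lib.Helper57_FrobNorm Cfsg.Agent.Lib.Helper57_FrobNorm2
  Cfsg.Agent.Lib.Helper31_CALocal

variable {G : Type*} [Group G] [Fintype G] {ι : Type*} [Fintype ι] [DecidableEq ι]
  (H : ι → Subgroup G)

section partition

variable
  (hTI : ∀ i, ∀ g : G, g ∉ normalizer (H i : Set G) → ∀ k ∈ H i, g * k * g⁻¹ ∈ H i → k = 1)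
  (hcop : ∀ i j, i ≠ j → Nat.Coprime (Nat.card (H i)) (Nat.card (H j)))
  (hcover : ∀ g : G, g ≠ 1 → ∃ i, ∃ x : G, x * g * x⁻¹ ∈ H i)

/-- conjugating by an element of the normalizer preserves membership -/
theorem conj_mem_of_mem_normalizer {K : Subgroup G} {n : G}
    (hn : n ∈ Subgroup.normalizer (K : Set G)) {x : G} (hx : x ∈ K) : n⁻¹ * x * n ∈ K :=
  (Subgroup.mem_normalizer_iff''.mp hn x).mp hx

include hcop in
/-- A nonidentity element is conjugate into at most one `H i`. -/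
theorem disj {i j : ι} (hij : i ≠ j) {x : G} {g g' : G} (h1 : g * x * g⁻¹ ∈ H i)
    (h2 : g' * x * g'⁻¹ ∈ H j) : x = 1 := by
  have e1 : orderOf (g * x * g⁻¹) = orderOf x :=
    (SemiconjBy.orderOf_eq _ (SemiconjBy.conj_mk g x)).symm
  have e2 : orderOf (g' * x * g'⁻¹) = orderOf x :=
    (SemiconjBy.orderOf_eq _ (SemiconjBy.conj_mk g' x)).symm
  have d1 : orderOf x ∣ Nat.card (H i) := by
    rw [← e1]
    have := orderOf_dvd_natCard (⟨_, h1⟩ : H i)
    rwa [← Subgroup.orderOf_coe] at this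
  have d2 : orderOf x ∣ Nat.card (H j) := by
    rw [← e2]
    have := orderOf_dvd_natCard (⟨_, h2⟩ : H j)
    rwa [← Subgroup.orderOf_coe] at this
  exact orderOf_eq_one_iff.mp (Nat.eq_one_of_dvd_coprimes (hcop i j hij) d1 d2)

include hTI hcop hcover in
/-- The partition of `G` minus 1 by the conjugates of the `H i` minus 1, summed against a class
function. -/
theorem partition_sum (F : G → ℂ) (hF : Cfsg.IsClassFunction G F) :
    ∑ x : G, F x = F 1 + ∑ i, ((normalizer (H i : Set G)).index : ℂ) * kSum (H i) F := by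
  let f : (Σ i, (G ⧸ Subgroup.normalizer (H i : Set G)) × {x : H i // x ≠ 1}) → {g : G // g ≠ 1} :=
    fun p => ⟨p.2.1.out * (p.2.2.1 : G) * p.2.1.out⁻¹, by
      intro h
      apply p.2.2.2
      have h2 : ((p.2.2.1 : H p.1) : G) = 1 := by
        have := congrArg (fun t => p.2.1.out⁻¹ * t * p.2.1.out) h
        simpa [mul_assoc] using this
      exact Subtype.ext h2⟩
  have hf : Function.Bijective f := by
    constructor
    · rintro ⟨i, q, x, hx⟩ ⟨j, q', x', hx'⟩ h
      have h0 : q.out * (x : G) * q.out⁻¹ = q'.out * (x' : G) * q'.out⁻¹ := congrArg Subtype.val h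
      have hxne : (x : G) ≠ 1 := fun h1 => hx (Subtype.ext h1)
      have hij : i = j := by
        by_contra hne
        apply hxne
        have hy1 : q.out⁻¹ * (q.out * (x : G) * q.out⁻¹) * (q.out⁻¹)⁻¹ ∈ H i := by
          have : q.out⁻¹ * (q.out * (x : G) * q.out⁻¹) * (q.out⁻¹)⁻¹ = x := by group
          rw [this]; exact x.2
        have hy2 : q'.out⁻¹ * (q.out * (x : G) * q.out⁻¹) * (q'.out⁻¹)⁻¹ ∈ H j := by
          rw [h0]
          have : q'.out⁻¹ * (q'.out * (x' : G) * q'.out⁻¹) * (q'.out⁻¹)⁻¹ = x' := by group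
          rw [this]; exact x'.2
        have h5 := disj H hcop hne hy1 hy2
        have h6 := congrArg (fun t => q.out⁻¹ * t * q.out) h5
        simpa [mul_assoc] using h6
      subst hij
      have hn : q'.out⁻¹ * q.out ∈ Subgroup.normalizer (H i : Set G) := by
        by_contra hnot
        apply hxne
        refine hTI i _ hnot (x : G) x.2 ?_
        have : q'.out⁻¹ * q.out * (x : G) * (q'.out⁻¹ * q.out)⁻¹ = (x' : G) := by
          have := congrArg (fun t => q'.out⁻¹ * t * q'.out) h0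
          simp only [mul_assoc, inv_mul_cancel_left, inv_mul_cancel, mul_one] at this
          simp only [mul_inv_rev, inv_inv, mul_assoc]
          exact this
        rw [this]
        exact x'.2
      have hq : q = q' := by
        rw [← QuotientGroup.out_eq' q, ← QuotientGroup.out_eq' q']
        exact (QuotientGroup.eq.mpr hn).symm
      subst hq
      have hxx : (x : G) = (x' : G) := by
        have := congrArg (fun t => q.out⁻¹ * t * q.out) h0
        simpa [mul_assoc] using this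
      have : x = x' := Subtype.ext hxx
      subst this
      rfl
    · rintro ⟨g, hg⟩
      obtain ⟨i, y, hy⟩ := hcover g hg
      set q : G ⧸ Subgroup.normalizer (H i : Set G) := QuotientGroup.mk (y⁻¹ : G) with hq
      have hn : (y⁻¹)⁻¹ * q.out ∈ Subgroup.normalizer (H i : Set G) := by
        rw [← QuotientGroup.eq, QuotientGroup.out_eq']
      set n := (y⁻¹)⁻¹ * q.out with hn'
      have hout : q.out = y⁻¹ * n := by rw [hn']; group
      have hxmem : q.out⁻¹ * g * q.out ∈ H i := by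
        have := conj_mem_of_mem_normalizer hn hy
        rw [hout]
        have e : (y⁻¹ * n)⁻¹ * g * (y⁻¹ * n) = n⁻¹ * (y * g * y⁻¹) * n := by group
        rw [e]; exact this
      have hxne : (⟨q.out⁻¹ * g * q.out, hxmem⟩ : H i) ≠ 1 := by
        intro h1
        have h2 : q.out⁻¹ * g * q.out = 1 := congrArg Subtype.val h1
        apply hg
        have := congrArg (fun t => q.out * t * q.out⁻¹) h2
        simpa [mul_assoc] using this
      refine ⟨⟨i, q, ⟨⟨q.out⁻¹ * g * q.out, hxmem⟩, hxne⟩⟩, ?_⟩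
      apply Subtype.ext
      show q.out * (q.out⁻¹ * g * q.out) * q.out⁻¹ = g
      group
  -- the sum
  have h1 : ∑ x : G, F x = F 1 + ∑ x : {g : G // g ≠ 1}, F x := by
    rw [← Finset.add_sum_erase Finset.univ F (Finset.mem_univ (1 : G))]
    congr 1
    exact Finset.sum_subtype (Finset.univ.erase (1 : G)) (by simp) F
  rw [h1]
  congr 1
  rw [← Equiv.sum_comp (Equiv.ofBijective f hf) (fun x : {g : G // g ≠ 1} => F x),
    Fintype.sum_sigma]
  refine Finset.sum_congr rfl (fun i _ => ?_)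
  rw [Fintype.sum_prod_type]
  have h2 : ∀ q : G ⧸ Subgroup.normalizer (H i : Set G),
      ∑ x : {x : H i // x ≠ 1}, F ((Equiv.ofBijective f hf) ⟨i, q, x⟩ : G) = kSum (H i) F := by
    intro q
    rw [kSum_eq_sum_subtype]
    refine Finset.sum_congr rfl (fun x _ => ?_)
    show F (q.out * ((x : H i) : G) * q.out⁻¹) = _
    exact hF _ _
  rw [Finset.sum_congr rfl (fun q _ => h2 q), Finset.sum_const, Finset.card_univ, nsmul_eq_mul,
    Subgroup.index, Nat.card_eq_fintype_card]

end partition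

theorem classInner_sub_right' (φ ψ₁ ψ₂ : G → ℂ) :
    Cfsg.classInner φ (ψ₁ - ψ₂) = Cfsg.classInner φ ψ₁ - Cfsg.classInner φ ψ₂ := by
  simp [Cfsg.classInner, mul_sub, Finset.sum_sub_distrib]

/-- An induced function vanishes at elements having no conjugate in the support. -/
theorem indFun_eq_zero_of_not_conj (K : Subgroup G) (α : ↥(normalizer (K : Set G)) → ℂ)
    (hα1 : α 1 = 0) (hαK : ∀ y : normalizer (K : Set G), (y : G) ∉ K → α y = 0) (x : G)
    (hx : ∀ g : G, g⁻¹ * x * g ∈ K → x = 1) :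
    Cfsg.indFun (normalizer (K : Set G)) α x = 0 := by
  rw [indFun_apply]
  apply mul_eq_zero_of_right
  apply Finset.sum_eq_zero
  intro g _
  by_cases hN : g⁻¹ * x * g ∈ normalizer (K : Set G)
  · rw [extendByZero_of_mem _ _ hN]
    by_cases hK : g⁻¹ * x * g ∈ K
    · have hx1 := hx g hK
      have : (⟨g⁻¹ * x * g, hN⟩ : normalizer (K : Set G)) = 1 := by
        apply Subtype.ext
        simp [hx1]
      rw [this, hα1]
    · exact hαK _ hK
  · exact extendByZero_of_not_mem _ _ hN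

section numbers

variable (hodd : Odd (Nat.card G)) (hH1 : ∀ i, H i ≠ ⊥)
  (hlt : ∀ i, H i < normalizer (H i : Set G))
  (hab : ∀ i, ∀ a ∈ H i, ∀ b ∈ H i, a * b = b * a)
  (hC : ∀ i, ∀ k ∈ H i, k ≠ 1 → centralizer ({k} : Set G) ≤ H i)

/-- order of `H i` -/
noncomputable abbrev aN (i : ι) : ℕ := Nat.card (H i)
/-- index of `H i` in its normalizer -/
noncomputable abbrev eN (i : ι) : ℕ := (AK (H i)).index
/-- number of relevant characters -/
noncomputable abbrev tN (i : ι) : ℕ := Nat.card (Rel (H i))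

theorem index_mul (i : ι) :
    (normalizer (H i : Set G)).index * (aN H i * eN H i) = Nat.card G := by
  rw [← card_normalizer (H i), mul_comm, Subgroup.card_mul_index]

include hab hC in
theorem tN_mul (i : ι) : tN H i * eN H i + 1 = aN H i := rel_count (H i) (hC i) (hab i)

include hH1 in
theorem two_le_aN (i : ι) : 2 ≤ aN H i := by
  have h1 : Nat.card (H i) ≠ 1 := fun h => hH1 i (Subgroup.card_eq_one.mp h)
  have h2 : 0 < Nat.card (H i) := Nat.card_pos
  unfold aN
  omega

include hlt in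
theorem two_le_eN (i : ι) : 2 ≤ eN H i := by
  have h1 : (AK (H i)).index ≠ 1 := by
    intro h
    rw [Subgroup.index_eq_one] at h
    have : normalizer (H i : Set G) ≤ H i := by
      intro x hx
      have : (⟨x, hx⟩ : normalizer (H i : Set G)) ∈ AK (H i) := by rw [h]; trivial
      exact Subgroup.mem_subgroupOf.mp this
    exact (hlt i).not_ge this
  have h2 : (AK (H i)).index ≠ 0 := Subgroup.index_ne_zero_of_finite
  unfold eN
  omega

include hodd in
theorem odd_aN (i : ι) : Odd (aN H i) :=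
  Odd.of_dvd_nat hodd (Subgroup.card_subgroup_dvd_card _)

include hodd in
theorem odd_eN (i : ι) : Odd (eN H i) := by
  apply Odd.of_dvd_nat hodd
  rw [← index_mul H i]
  exact ⟨(normalizer (H i : Set G)).index * aN H i, by ring⟩

include hodd hH1 hab hC in
theorem even_tN (i : ι) : Even (tN H i) ∧ 2 ≤ tN H i := by
  have h1 := tN_mul H hab hC i
  have h2 := odd_aN H hodd i
  have h3 := odd_eN H hodd i
  have h4 := two_le_aN H hH1 i
  have hev : Even (tN H i) := by
    by_contra hne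
    rw [Nat.not_even_iff_odd] at hne
    have : Odd (tN H i * eN H i) := hne.mul h3
    rw [← h1] at h2
    have := Nat.odd_add_one.mp h2
    contradiction
  refine ⟨hev, ?_⟩
  obtain ⟨r, hr⟩ := hev
  have : tN H i ≠ 0 := by
    intro h0
    rw [h0] at h1
    omega
  omega

end numbers

section main

variable (hodd : Odd (Nat.card G)) (hH1 : ∀ i, H i ≠ ⊥)
  (hlt : ∀ i, H i < normalizer (H i : Set G))
  (hab : ∀ i, ∀ a ∈ H i, ∀ b ∈ H i, a * b = b * a)
  (hC : ∀ i, ∀ k ∈ H i, k ≠ 1 → centralizer ({k} : Set G) ≤ H i)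
  (hTI : ∀ i, ∀ g : G, g ∉ normalizer (H i : Set G) → ∀ k ∈ H i, g * k * g⁻¹ ∈ H i → k = 1)
  (hcop : ∀ i j, i ≠ j → Nat.Coprime (Nat.card (H i)) (Nat.card (H j)))
  (hcover : ∀ g : G, g ≠ 1 → ∃ i, ∃ x : G, x * g * x⁻¹ ∈ H i)
  (ε : ι → ℂ) (f : ∀ i, Rel (H i) → Cfsg.IrrCharacter G)
  (hε : ∀ i, ε i = 1 ∨ ε i = -1) (hinj : ∀ i, Function.Injective (f i))
  (hind : ∀ i (χ ξ : Rel (H i)), Cfsg.indFun (normalizer (H i : Set G))
    ((χ.1 : ↥(normalizer (H i : Set G)) → ℂ) - (ξ.1 : ↥(normalizer (H i : Set G)) → ℂ)) =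
    ε i • ((f i χ : G → ℂ) - (f i ξ : G → ℂ)))

include hodd hH1 hab hC in
theorem exists_rel_ne (i : ι) (χ : Rel (H i)) : ∃ ξ : Rel (H i), ξ ≠ χ := by
  have h := (even_tN H hodd hH1 hab hC i).2
  unfold tN at h
  rw [Nat.card_eq_fintype_card] at h
  exact Fintype.exists_ne_of_one_lt_card (by omega) χ

include hab hC in
theorem diff_one (i : ι) (χ ξ : Rel (H i)) :
    ((χ.1 : ↥(normalizer (H i : Set G)) → ℂ) - (ξ.1 : ↥(normalizer (H i : Set G)) → ℂ)) 1 = 0 := by
  rw [Pi.sub_apply, rel_deg (H i) (hC i) (hab i) χ, rel_deg (H i) (hC i) (hab i) ξ, sub_self]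

include hab hC in
theorem diff_vanish (i : ι) (χ ξ : Rel (H i)) (y : normalizer (H i : Set G))
    (hy : (y : G) ∉ H i) :
    ((χ.1 : ↥(normalizer (H i : Set G)) → ℂ) - (ξ.1 : ↥(normalizer (H i : Set G)) → ℂ)) y = 0 := by
  rw [Pi.sub_apply, rel_vanish (H i) (hC i) (hab i) χ y hy,
    rel_vanish (H i) (hC i) (hab i) ξ y hy, sub_self]

theorem eps_ne_zero (hε : ∀ i, ε i = 1 ∨ ε i = -1) (i : ι) : ε i ≠ 0 := by
  rcases hε i with h | h <;> simp [h]

include hab hC hε hind in
/-- Two characters of the same family agree at elements not conjugate into `H i` minus 1. -/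
theorem f_apply_eq (i : ι) (χ ξ : Rel (H i)) (x : G) (hx : ∀ g : G, g⁻¹ * x * g ∈ H i → x = 1) :
    (f i χ : G → ℂ) x = (f i ξ : G → ℂ) x := by
  have h1 := indFun_eq_zero_of_not_conj (H i) _ (diff_one H hab hC i χ ξ)
    (diff_vanish H hab hC i χ ξ) x hx
  rw [hind i χ ξ] at h1
  simp only [Pi.smul_apply, Pi.sub_apply, smul_eq_mul] at h1
  rcases mul_eq_zero.mp h1 with h | h
  · exact absurd h (eps_ne_zero ε hε i)
  · exact sub_eq_zero.mp h

include hodd hH1 hab hC hε hinj hind in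
/-- The exceptional characters are nonprincipal. -/
theorem f_ne_one (i : ι) (χ : Rel (H i)) :
    f i χ ≠ Cfsg.Agent.Lib.Helper80_CharBasic.oneIrr G := by
  intro heq
  obtain ⟨ξ, hξ⟩ := exists_rel_ne H hodd hH1 hab hC i χ
  have h1 := congrArg (fun F => Cfsg.classInner F (fun _ : G => (1 : ℂ))) (hind i χ ξ)
  beta_reduce at h1
  have hcf : Cfsg.IsClassFunction G (fun _ : G => (1 : ℂ)) := fun _ _ => rfl
  have hne : ∀ φ : Rel (H i), (φ.1 : ↥(normalizer (H i : Set G)) → ℂ) ≠ fun _ => 1 := by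
    intro φ h
    obtain ⟨k, -, hk1⟩ := φ.2
    apply hk1
    rw [h]
  have hone := Cfsg.Agent.Lib.Helper80_CharBasic.isIrrCharacter_one ↥(normalizer (H i : Set G))
  rw [frobenius_reciprocity _ _ _ hcf, classInner_sub_left,
    classInner_of_isIrrCharacter_of_ne χ.1.2 hone (hne χ),
    classInner_of_isIrrCharacter_of_ne ξ.1.2 hone (hne ξ), classInner_smul_left,
    classInner_sub_left] at h1
  have hone' := Cfsg.Agent.Lib.Helper80_CharBasic.isIrrCharacter_one G
  have h2 : Cfsg.classInner (f i χ : G → ℂ) (fun _ : G => (1 : ℂ)) = 1 := by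
    rw [heq]
    exact classInner_self_of_isIrrCharacter hone'
  have h3 : (f i ξ : G → ℂ) ≠ fun _ => 1 := by
    intro h
    apply hξ
    apply hinj i
    rw [heq]
    exact Subtype.ext h
  rw [h2, classInner_of_isIrrCharacter_of_ne (f i ξ).2 hone' h3] at h1
  rw [sub_zero, sub_zero, mul_one] at h1
  exact eps_ne_zero ε hε i h1.symm

include hodd hH1 hab hC hcop hε hinj hind in
/-- Exceptional characters of different families are different. -/
theorem f_ne_f (i j : ι) (hij : i ≠ j) (χ : Rel (H i)) (ξ : Rel (H j)) : f i χ ≠ f j ξ := by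
  intro heq
  obtain ⟨χ', hχ'⟩ := exists_rel_ne H hodd hH1 hab hC i χ
  obtain ⟨ξ', hξ'⟩ := exists_rel_ne H hodd hH1 hab hC j ξ
  have hzero : Cfsg.classInner
      (Cfsg.indFun (normalizer (H i : Set G))
        ((χ.1 : ↥(normalizer (H i : Set G)) → ℂ) - (χ'.1 : ↥(normalizer (H i : Set G)) → ℂ)))
      (Cfsg.indFun (normalizer (H j : Set G))
        ((ξ.1 : ↥(normalizer (H j : Set G)) → ℂ) - (ξ'.1 : ↥(normalizer (H j : Set G)) → ℂ)))
      = 0 := by
    unfold Cfsg.classInner
    apply mul_eq_zero_of_right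
    apply Finset.sum_eq_zero
    intro x _
    by_cases hx : ∀ g : G, g⁻¹ * x * g ∈ H i → x = 1
    · rw [indFun_eq_zero_of_not_conj (H i) _ (diff_one H hab hC i χ χ')
        (diff_vanish H hab hC i χ χ') x hx, zero_mul]
    · push Not at hx
      obtain ⟨g, hg, hx1⟩ := hx
      have hx' : ∀ g' : G, g'⁻¹ * x * g' ∈ H j → x = 1 := by
        intro g' hg'
        have h1 : g⁻¹ * x * (g⁻¹)⁻¹ ∈ H i := by rwa [inv_inv]
        have h2 : g'⁻¹ * x * (g'⁻¹)⁻¹ ∈ H j := by rwa [inv_inv]
        exact disj H hcop hij h1 h2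
      rw [indFun_eq_zero_of_not_conj (H j) _ (diff_one H hab hC j ξ ξ')
        (diff_vanish H hab hC j ξ ξ') x hx', map_zero, mul_zero]
  rw [hind i χ χ', hind j ξ ξ', classInner_smul_left, classInner_smul_right,
    classInner_sub_left, classInner_sub_right', classInner_sub_right'] at hzero
  have e1 : Cfsg.classInner (f i χ : G → ℂ) (f j ξ : G → ℂ) = 1 := by
    rw [heq]; exact classInner_self_of_isIrrCharacter (f j ξ).2
  have e2 : Cfsg.classInner (f i χ : G → ℂ) (f j ξ' : G → ℂ) = 0 := by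
    rw [heq]
    apply classInner_of_isIrrCharacter_of_ne (f j ξ).2 (f j ξ').2
    intro h
    exact hξ' (hinj j (Subtype.ext h)).symm
  have e3 : Cfsg.classInner (f i χ' : G → ℂ) (f j ξ : G → ℂ) = 0 := by
    rw [← heq]
    apply classInner_of_isIrrCharacter_of_ne (f i χ').2 (f i χ).2
    intro h
    exact hχ' (hinj i (Subtype.ext h))
  rw [e1, e2, e3, classInner_irr (f i χ').2 (f j ξ').2] at hzero
  have hj : (starRingEnd ℂ) (ε j) ≠ 0 := by
    rcases hε j with h | h <;> simp [h]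
  rcases mul_eq_zero.mp hzero with h | h
  · exact eps_ne_zero ε hε i h
  · rcases mul_eq_zero.mp h with h | h
    · exact hj h
    · split_ifs at h <;> norm_num at h

include hab hC in
theorem centralizer_eq (i : ι) {x : G} (hx : x ∈ H i) (hx1 : x ≠ 1) :
    centralizer ({x} : Set G) = H i := by
  apply le_antisymm (hC i x hx hx1)
  intro b hb
  rw [mem_centralizer_singleton_iff]
  exact hab i b hb x hx

include hab hC hTI hcop hcover in
/-- The number of conjugacy classes. -/
theorem card_conjClasses : Nat.card (ConjClasses G) = 1 + ∑ i, tN H i := by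
  have h1 := sum_card_centralizer (G := G)
  have hcf : Cfsg.IsClassFunction G
      (fun x : G => (Nat.card (centralizer ({x} : Set G)) : ℂ)) := by
    intro g h
    have : IsConj g (h * g * h⁻¹) := isConj_iff.mpr ⟨h, rfl⟩
    simp only
    rw [card_centralizer_eq_of_isConj this]
  have h2 := partition_sum H hTI hcop hcover _ hcf
  have h3 : ∀ i, kSum (H i) (fun x : G => (Nat.card (centralizer ({x} : Set G)) : ℂ)) =
      ((aN H i : ℂ) - 1) * (aN H i : ℂ) := by
    intro i
    rw [← kSum_const]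
    apply kSum_congr
    intro x hx hx1
    rw [centralizer_eq H hab hC i hx hx1]
  have h4 : centralizer ({(1 : G)} : Set G) = ⊤ := by
    ext x
    simp [mem_centralizer_singleton_iff]
  have h5 : ∀ i, ((normalizer (H i : Set G)).index : ℂ) * (((aN H i : ℂ) - 1) * (aN H i : ℂ)) =
      (tN H i : ℂ) * (Nat.card G : ℂ) := by
    intro i
    have e1 := tN_mul H hab hC i
    have e2 := index_mul H i
    have e1' : (aN H i : ℂ) - 1 = (tN H i : ℂ) * (eN H i : ℂ) := by
      rw [← e1]; push_cast; ring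
    rw [e1', ← e2]
    push_cast
    ring
  have h2' : ∑ i, ((normalizer (H i : Set G)).index : ℂ) *
      kSum (H i) (fun x : G => (Nat.card (centralizer ({x} : Set G)) : ℂ)) =
      ∑ i, (tN H i : ℂ) * (Nat.card G : ℂ) :=
    Finset.sum_congr rfl (fun i _ => by rw [h3 i, h5 i])
  rw [h2', h4, Subgroup.card_top, ← Finset.sum_mul] at h2
  have h6 : ((∑ g : G, Nat.card (centralizer ({g} : Set G)) : ℕ) : ℂ) =
      ((1 + ∑ i, tN H i : ℕ) : ℂ) * (Nat.card G : ℂ) := by
    push_cast
    rw [h2]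
    ring
  rw [h1] at h6
  have h7 : Nat.card (ConjClasses G) * Nat.card G = (1 + ∑ i, tN H i) * Nat.card G := by
    exact_mod_cast h6
  exact Nat.eq_of_mul_eq_mul_right Nat.card_pos h7

/-- The parametrization of the irreducible characters. -/
noncomputable def Phi : Option (Σ i, Rel (H i)) → Cfsg.IrrCharacter G :=
  fun o => o.elim (Cfsg.Agent.Lib.Helper80_CharBasic.oneIrr G) (fun p => f p.1 p.2)

include hodd hH1 hab hC hTI hcop hcover hε hinj hind in
theorem Phi_bijective : Function.Bijective (Phi H f) := by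
  rw [Fintype.bijective_iff_injective_and_card]
  constructor
  · intro o o' h
    rcases o with _ | ⟨i, χ⟩ <;> rcases o' with _ | ⟨j, ξ⟩
    · rfl
    · exact absurd h.symm (f_ne_one H hodd hH1 hab hC ε f hε hinj hind j ξ)
    · exact absurd h (f_ne_one H hodd hH1 hab hC ε f hε hinj hind i χ)
    · have h' : f i χ = f j ξ := h
      by_cases hij : i = j
      · subst hij
        rw [hinj i h']
      · exact absurd h' (f_ne_f H hodd hH1 hab hC hcop ε f hε hinj hind i j hij χ ξ)
  · rw [Fintype.card_option, Fintype.card_sigma, ← Nat.card_eq_fintype_card (α := Cfsg.IrrCharacter G),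
      card_irr_eq_card_conjClasses, card_conjClasses H hab hC hTI hcop hcover, add_comm]
    congr 1
    refine Finset.sum_congr rfl (fun i _ => ?_)
    rw [← Nat.card_eq_fintype_card]

include hodd hH1 hab hC hTI hcop hcover hε hinj hind in
/-- A sum over all irreducible characters of `G`, split into families. -/
theorem sum_irr (P : Cfsg.IrrCharacter G → ℂ) :
    ∑ θ, P θ = P (Cfsg.Agent.Lib.Helper80_CharBasic.oneIrr G) +
      ∑ i, ∑ χ : Rel (H i), P (f i χ) := by
  have hb := Phi_bijective H hodd hH1 hab hC hTI hcop hcover ε f hε hinj hind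
  rw [← Equiv.sum_comp (Equiv.ofBijective (Phi H f) hb) P, Fintype.sum_option, Fintype.sum_sigma]
  rfl

include hodd hH1 hab hC in
theorem nonempty_rel (i : ι) : Nonempty (Rel (H i)) := by
  have h := (even_tN H hodd hH1 hab hC i).2
  unfold tN at h
  rw [Nat.card_eq_fintype_card] at h
  exact Fintype.card_pos_iff.mp (by omega)

include hodd hH1 hab hC hcop hε hinj hind in
/-- Off-diagonal values: the family `i` is a constant integer on `H k` minus 1. -/
theorem exists_c (i k : ι) : ∃ z : ℤ, i ≠ k → ∀ χ : Rel (H i), ∀ x ∈ H k, x ≠ 1 →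
    (f i χ : G → ℂ) x = z := by
  by_cases hik : i = k
  · exact ⟨0, fun h => absurd hik h⟩
  obtain ⟨χ₀⟩ := nonempty_rel H hodd hH1 hab hC i
  obtain ⟨z, hz⟩ := val_of_not_range (H k) (hC k) (hab k) (ε k) (f k) (hind k) (f i χ₀)
    (fun ξ => f_ne_f H hodd hH1 hab hC hcop ε f hε hinj hind k i (Ne.symm hik) ξ χ₀)
  refine ⟨z, fun _ χ x hx hx1 => ?_⟩
  rw [← hz x hx hx1]
  apply f_apply_eq H hab hC ε f hε hind i χ χ₀ x
  intro g hg
  have h1 : g⁻¹ * x * (g⁻¹)⁻¹ ∈ H i := by rwa [inv_inv]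
  have h2 : (1 : G) * x * (1 : G)⁻¹ ∈ H k := by simpa using hx
  exact disj H hcop hik h1 h2

include hab hC hTI hε hinj hind in
/-- Diagonal values. -/
theorem exists_z (k : ι) : ∃ z : ℤ, ∀ χ : Rel (H k), ∀ x ∈ H k, x ≠ 1 → (f k χ : G → ℂ) x =
    ε k * Cfsg.extendByZero (normalizer (H k : Set G))
      (χ.1 : ↥(normalizer (H k : Set G)) → ℂ) x + z :=
  val_of_range (H k) (hTI k) (hC k) (hab k) (ε k) (f k) (hind k) (hε k) (hinj k)

theorem exists_ne_one_mem (hH1 : ∀ i, H i ≠ ⊥) (k : ι) : ∃ x ∈ H k, x ≠ 1 := by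
  obtain ⟨x, hx⟩ := Subgroup.ne_bot_iff_exists_ne_one.mp (hH1 k)
  exact ⟨x, x.2, fun h => hx (Subtype.ext h)⟩

/-- Expansion of `|ε w + z|²` for a sign `ε` and an integer `z`. -/
theorem expand_sq (e w : ℂ) (z : ℤ) (he : e = 1 ∨ e = -1) :
    (e * w + z) * conj (e * w + z) = w * conj w + (e * z) * w + (e * z) * conj w + (z : ℂ) ^ 2 := by
  have hec : conj e = e := by rcases he with h | h <;> simp [h]
  have hee : e * e = 1 := by rcases he with h | h <;> simp [h]
  rw [map_add, map_mul, hec, map_intCast]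
  linear_combination (w * conj w) * hee

theorem int_ineq (t z : ℤ) (ht : 2 ≤ t) (e : ℤ) (he : e = 1 ∨ e = -1) :
    0 ≤ t * z ^ 2 - 2 * e * z := by
  rcases he with h | h
  · subst h
    rcases le_or_gt z 0 with hz | hz
    · nlinarith [sq_nonneg z]
    · nlinarith [sq_nonneg z]
  · subst h
    rcases le_or_gt 0 z with hz | hz
    · nlinarith [sq_nonneg z]
    · nlinarith [sq_nonneg z]

include hodd hH1 hab hC hTI hcop hcover hε hinj hind in
/-- The column relation at a nonidentity element of `H k`. -/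
theorem col_rel (c : ι → ι → ℤ)
    (hc : ∀ i k, i ≠ k → ∀ χ : Rel (H i), ∀ x ∈ H k, x ≠ 1 → (f i χ : G → ℂ) x = c i k)
    (k : ι) :
    ∑ i ∈ Finset.univ.erase k, (tN H i : ℤ) * (c i k) ^ 2 ≤ (eN H k : ℤ) - 1 := by
  obtain ⟨x, hx, hx1⟩ := exists_ne_one_mem H hH1 k
  obtain ⟨z, hz⟩ := exists_z H hab hC hTI ε f hε hinj hind k
  have h1 := column_orthogonality_self (G := G) x
  rw [centralizer_eq H hab hC k hx hx1,
    sum_irr H hodd hH1 hab hC hTI hcop hcover ε f hε hinj hind
      (fun θ => (θ : G → ℂ) x * conj ((θ : G → ℂ) x))] at h1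
  have hp : (Cfsg.Agent.Lib.Helper80_CharBasic.oneIrr G : G → ℂ) x *
      conj ((Cfsg.Agent.Lib.Helper80_CharBasic.oneIrr G : G → ℂ) x) = 1 := by
    simp [Cfsg.Agent.Lib.Helper80_CharBasic.oneIrr]
  rw [hp, ← Finset.add_sum_erase Finset.univ _ (Finset.mem_univ k)] at h1
  have hoff : ∀ i ∈ Finset.univ.erase k,
      ∑ χ : Rel (H i), (f i χ : G → ℂ) x * conj ((f i χ : G → ℂ) x) =
        (((tN H i : ℤ) * (c i k) ^ 2 : ℤ) : ℂ) := by
    intro i hi
    have hik := (Finset.mem_erase.mp hi).1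
    rw [Finset.sum_congr rfl (fun χ _ => by rw [hc i k hik χ x hx hx1, map_intCast])]
    rw [Finset.sum_const, Finset.card_univ, nsmul_eq_mul, ← Nat.card_eq_fintype_card]
    push_cast
    ring
  rw [Finset.sum_congr rfl hoff] at h1
  obtain ⟨hS1, hS2⟩ := rel_col (H k) (hC k) (hab k) hx hx1
  have hdiag : ∑ χ : Rel (H k), (f k χ : G → ℂ) x * conj ((f k χ : G → ℂ) x) =
      ((aN H k : ℂ) - (eN H k : ℂ)) + ((tN H k : ℂ) * (z : ℂ) ^ 2 - 2 * ε k * z) := by
    rw [Finset.sum_congr rfl (fun χ _ => by rw [hz χ x hx hx1, expand_sq _ _ _ (hε k)])]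
    rw [Finset.sum_add_distrib, Finset.sum_add_distrib, Finset.sum_add_distrib, hS2,
      ← Finset.mul_sum, ← Finset.mul_sum, hS1, ← map_sum, hS1, Finset.sum_const, Finset.card_univ,
      nsmul_eq_mul, ← Nat.card_eq_fintype_card]
    simp only [map_neg, map_one]
    ring
  rw [hdiag] at h1
  have ht := (even_tN H hodd hH1 hab hC k).2
  rcases hε k with he | he
  · rw [he] at h1
    have h2 : (1 : ℤ) + (((aN H k : ℤ) - (eN H k : ℤ)) + ((tN H k : ℤ) * z ^ 2 - 2 * 1 * z) +
        ∑ i ∈ Finset.univ.erase k, (tN H i : ℤ) * (c i k) ^ 2) = (aN H k : ℤ) := by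
      have : (((1 : ℤ) + (((aN H k : ℤ) - (eN H k : ℤ)) + ((tN H k : ℤ) * z ^ 2 - 2 * 1 * z) +
        ∑ i ∈ Finset.univ.erase k, (tN H i : ℤ) * (c i k) ^ 2) : ℤ) : ℂ) = ((aN H k : ℤ) : ℂ) := by
        push_cast
        push_cast at h1
        linear_combination h1
      exact_mod_cast this
    have h3 := int_ineq (tN H k : ℤ) z (by exact_mod_cast ht) 1 (Or.inl rfl)
    linarith
  · rw [he] at h1
    have h2 : (1 : ℤ) + (((aN H k : ℤ) - (eN H k : ℤ)) + ((tN H k : ℤ) * z ^ 2 - 2 * (-1) * z) +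
        ∑ i ∈ Finset.univ.erase k, (tN H i : ℤ) * (c i k) ^ 2) = (aN H k : ℤ) := by
      have : (((1 : ℤ) + (((aN H k : ℤ) - (eN H k : ℤ)) + ((tN H k : ℤ) * z ^ 2 - 2 * (-1) * z) +
        ∑ i ∈ Finset.univ.erase k, (tN H i : ℤ) * (c i k) ^ 2) : ℤ) : ℂ) = ((aN H k : ℤ) : ℂ) := by
        push_cast
        push_cast at h1
        linear_combination h1
      exact_mod_cast this
    have h3 := int_ineq (tN H k : ℤ) z (by exact_mod_cast ht) (-1) (Or.inr rfl)
    linarith

include hodd hH1 hab hC hTI hcop hcover hε hinj hind in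
/-- The parity relation: the families `k` and `m` cannot both vanish on each other's subgroup. -/
theorem par_rel (c : ι → ι → ℤ)
    (hc : ∀ i k, i ≠ k → ∀ χ : Rel (H i), ∀ x ∈ H k, x ≠ 1 → (f i χ : G → ℂ) x = c i k)
    (k m : ι) (hkm : k ≠ m) : c k m ≠ 0 ∨ c m k ≠ 0 := by
  by_contra hcon
  push Not at hcon
  obtain ⟨h0km, h0mk⟩ := hcon
  obtain ⟨x, hx, hx1⟩ := exists_ne_one_mem H hH1 k
  obtain ⟨y, hy, hy1⟩ := exists_ne_one_mem H hH1 m
  have hnc : ¬ IsConj x y := by
    intro hconj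
    obtain ⟨g, hg⟩ := isConj_iff.mp hconj
    apply hx1
    have h1 : g * x * g⁻¹ ∈ H m := by rw [hg]; exact hy
    have h2 : (1 : G) * x * (1 : G)⁻¹ ∈ H k := by simpa using hx
    exact disj H hcop hkm h2 h1
  have h1 := column_orthogonality (G := G) x y
  rw [if_neg hnc, sum_irr H hodd hH1 hab hC hTI hcop hcover ε f hε hinj hind
      (fun θ => (θ : G → ℂ) x * conj ((θ : G → ℂ) y))] at h1
  have hp : (Cfsg.Agent.Lib.Helper80_CharBasic.oneIrr G : G → ℂ) x *
      conj ((Cfsg.Agent.Lib.Helper80_CharBasic.oneIrr G : G → ℂ) y) = 1 := by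
    simp [Cfsg.Agent.Lib.Helper80_CharBasic.oneIrr]
  rw [hp] at h1
  have hterm : ∀ i, ∑ χ : Rel (H i), (f i χ : G → ℂ) x * conj ((f i χ : G → ℂ) y) =
      (((tN H i : ℤ) * (if i = k ∨ i = m then 0 else c i k * c i m) : ℤ) : ℂ) := by
    intro i
    by_cases hik : i = k
    · subst hik
      rw [if_pos (Or.inl rfl), mul_zero, Int.cast_zero]
      apply Finset.sum_eq_zero
      intro χ _
      rw [hc i m hkm χ y hy hy1, h0km, Int.cast_zero, map_zero, mul_zero]
    · by_cases him : i = m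
      · subst him
        rw [if_pos (Or.inr rfl), mul_zero, Int.cast_zero]
        apply Finset.sum_eq_zero
        intro χ _
        rw [hc i k hik χ x hx hx1, h0mk, Int.cast_zero, zero_mul]
      · rw [if_neg (by tauto)]
        rw [Finset.sum_congr rfl (fun χ _ => by
          rw [hc i k hik χ x hx hx1, hc i m him χ y hy hy1, map_intCast])]
        rw [Finset.sum_const, Finset.card_univ, nsmul_eq_mul, ← Nat.card_eq_fintype_card]
        push_cast
        ring
  rw [Finset.sum_congr rfl (fun i _ => hterm i)] at h1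
  have h2 : (1 : ℤ) + ∑ i, (tN H i : ℤ) * (if i = k ∨ i = m then 0 else c i k * c i m) = 0 := by
    have : (((1 : ℤ) + ∑ i, (tN H i : ℤ) * (if i = k ∨ i = m then 0 else c i k * c i m) : ℤ) : ℂ)
        = ((0 : ℤ) : ℂ) := by
      push_cast
      push_cast at h1
      exact h1
    exact_mod_cast this
  have h3 : Even (∑ i, (tN H i : ℤ) * (if i = k ∨ i = m then 0 else c i k * c i m)) := by
    apply Finset.even_sum
    intro i _
    have := (even_tN H hodd hH1 hab hC i).1
    exact Even.mul_right (by exact_mod_cast this) _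
  obtain ⟨r, hr⟩ := h3
  omega

include hab hC in
theorem real_facts (i : ι) :
    (0 : ℝ) < aN H i ∧ (0 : ℝ) < (Nat.card G : ℝ) ∧
    ((normalizer (H i : Set G)).index : ℝ) * ((aN H i : ℝ) * (eN H i : ℝ)) = (Nat.card G : ℝ) ∧
    (aN H i : ℝ) - 1 = (tN H i : ℝ) * (eN H i : ℝ) := by
  refine ⟨?_, ?_, ?_, ?_⟩
  · have : 0 < aN H i := Nat.card_pos
    exact_mod_cast this
  · have : 0 < Nat.card G := Nat.card_pos
    exact_mod_cast this
  · exact_mod_cast index_mul H i
  · have := tN_mul H hab hC i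
    rw [← this]
    push_cast
    ring

include hab hC in
/-- `t/a * c² * g = I (a - 1) c²`. -/
theorem term_conv (i : ι) (w : ℝ) :
    (tN H i : ℝ) * w / (aN H i : ℝ) * (Nat.card G : ℝ) =
      ((normalizer (H i : Set G)).index : ℝ) * (((aN H i : ℝ) - 1) * w) := by
  obtain ⟨h1, h2, h3, h4⟩ := real_facts H hab hC i
  rw [h4, ← h3]
  field_simp

include hab hC hTI hcop hcover in
/-- The class equation. -/
theorem class_rel : ∑ i, (tN H i : ℝ) / (aN H i : ℝ) = 1 - 1 / (Nat.card G : ℝ) := by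
  have hcf : Cfsg.IsClassFunction G (fun _ : G => (1 : ℂ)) := fun _ _ => rfl
  have h1 := partition_sum H hTI hcop hcover _ hcf
  rw [Finset.sum_const, Finset.card_univ, nsmul_eq_mul, mul_one, ← Nat.card_eq_fintype_card,
    Finset.sum_congr rfl (fun i _ => by rw [kSum_const, mul_one])] at h1
  have h2 : (Nat.card G : ℝ) = 1 + ∑ i, ((normalizer (H i : Set G)).index : ℝ) *
      ((aN H i : ℝ) - 1) := by
    have : ((Nat.card G : ℝ) : ℂ) = ((1 + ∑ i, ((normalizer (H i : Set G)).index : ℝ) *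
      ((aN H i : ℝ) - 1) : ℝ) : ℂ) := by
      push_cast
      exact h1
    exact_mod_cast this
  have hg : (0 : ℝ) < (Nat.card G : ℝ) := by
    have : 0 < Nat.card G := Nat.card_pos
    exact_mod_cast this
  have h3 : (∑ i, (tN H i : ℝ) / (aN H i : ℝ)) * (Nat.card G : ℝ) = (Nat.card G : ℝ) - 1 := by
    rw [Finset.sum_mul]
    have : ∀ i, (tN H i : ℝ) / (aN H i : ℝ) * (Nat.card G : ℝ) =
        ((normalizer (H i : Set G)).index : ℝ) * ((aN H i : ℝ) - 1) := by
      intro i
      have := term_conv H hab hC i 1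
      rw [mul_one, mul_one] at this
      exact this
    rw [Finset.sum_congr rfl (fun i _ => this i)]
    linarith
  field_simp
  linarith

include hodd hH1 hab hC hTI hcop hcover hε hinj hind in
/-- The row relation: the norm of an exceptional character of the family `k`. -/
theorem row_rel (c : ι → ι → ℤ)
    (hc : ∀ i k, i ≠ k → ∀ χ : Rel (H i), ∀ x ∈ H k, x ≠ 1 → (f i χ : G → ℂ) x = c i k)
    (k : ι) :
    ∑ m ∈ Finset.univ.erase k, (tN H m : ℝ) * (c k m : ℝ) ^ 2 / (aN H m : ℝ) ≤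
      (eN H k : ℝ) / (aN H k : ℝ) - 1 / (Nat.card G : ℝ) := by
  obtain ⟨χ₀⟩ := nonempty_rel H hodd hH1 hab hC k
  obtain ⟨z, hz⟩ := exists_z H hab hC hTI ε f hε hinj hind k
  set θ := f k χ₀ with hθ
  have hθcf := isClassFunction_of_isIrrCharacter θ.2
  have hcf : Cfsg.IsClassFunction G (fun x : G => (θ : G → ℂ) x * conj ((θ : G → ℂ) x)) := by
    intro g h
    simp only
    rw [hθcf g h]
  have h1 := partition_sum H hTI hcop hcover _ hcf
  -- the total sum
  have hnorm := classInner_self_of_isIrrCharacter θ.2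
  unfold Cfsg.classInner at hnorm
  have hG0 : (Nat.card G : ℂ) ≠ 0 := card_ne_zero_complex
  have htot : ∑ g : G, (θ : G → ℂ) g * conj ((θ : G → ℂ) g) = (Nat.card G : ℂ) := by
    field_simp at hnorm
    exact hnorm
  rw [htot] at h1
  -- the degree
  obtain ⟨d, hdpos, hd⟩ := irr_one_eq_natCast θ.2
  simp only [hd, Complex.conj_natCast] at h1
  rw [← Finset.add_sum_erase Finset.univ _ (Finset.mem_univ k)] at h1
  -- off-diagonal terms
  have hoff : ∀ m ∈ Finset.univ.erase k, ((normalizer (H m : Set G)).index : ℂ) *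
      kSum (H m) (fun x : G => (θ : G → ℂ) x * conj ((θ : G → ℂ) x)) =
      ((normalizer (H m : Set G)).index : ℂ) * (((aN H m : ℂ) - 1) * ((c k m : ℂ) ^ 2)) := by
    intro m hm
    have hmk := (Finset.mem_erase.mp hm).1
    rw [← kSum_const]
    congr 1
    apply kSum_congr
    intro x hx hx1
    rw [hθ, hc k m (Ne.symm hmk) χ₀ x hx hx1, map_intCast]
    ring
  rw [Finset.sum_congr rfl hoff] at h1
  -- diagonal term
  obtain ⟨hR1, hR2⟩ := rel_row (H k) (hC k) (hab k) χ₀
  have hdiag : kSum (H k) (fun x : G => (θ : G → ℂ) x * conj ((θ : G → ℂ) x)) =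
      ((aN H k : ℂ) * (eN H k : ℂ) - (eN H k : ℂ) ^ 2) - 2 * (ε k * z) * (eN H k : ℂ) +
        ((aN H k : ℂ) - 1) * (z : ℂ) ^ 2 := by
    rw [kSum_congr (H k) (F' := fun x : G =>
      (Cfsg.extendByZero (normalizer (H k : Set G))
        (χ₀.1 : ↥(normalizer (H k : Set G)) → ℂ) x *
        conj (Cfsg.extendByZero (normalizer (H k : Set G))
          (χ₀.1 : ↥(normalizer (H k : Set G)) → ℂ) x) +
      (ε k * z) * Cfsg.extendByZero (normalizer (H k : Set G))
        (χ₀.1 : ↥(normalizer (H k : Set G)) → ℂ) x) +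
      ((ε k * z) * conj (Cfsg.extendByZero (normalizer (H k : Set G))
        (χ₀.1 : ↥(normalizer (H k : Set G)) → ℂ) x) + (z : ℂ) ^ 2)) (by
        intro x hx hx1
        rw [hθ, hz χ₀ x hx hx1, expand_sq _ _ _ (hε k)]
        ring)]
    rw [kSum_add, kSum_add, kSum_add, kSum_mul_left, kSum_mul_left, kSum_conj, kSum_const, hR2,
      hR1]
    simp only [map_neg, Complex.conj_natCast]
    ring
  rw [hdiag] at h1
  -- pass to the reals
  obtain ⟨hak, hg, hIk, hatk⟩ := real_facts H hab hC k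
  have ht := (even_tN H hodd hH1 hab hC k).2
  have key : ∀ e' : ℤ, (e' = 1 ∨ e' = -1) → ε k = (e' : ℂ) →
      ∑ m ∈ Finset.univ.erase k, (tN H m : ℝ) * (c k m : ℝ) ^ 2 / (aN H m : ℝ) ≤
      (eN H k : ℝ) / (aN H k : ℝ) - 1 / (Nat.card G : ℝ) := by
    intro e' he' hεe
    rw [hεe] at h1
    have h2 : (Nat.card G : ℝ) = (d : ℝ) * (d : ℝ) +
        (((normalizer (H k : Set G)).index : ℝ) *
          (((aN H k : ℝ) * (eN H k : ℝ) - (eN H k : ℝ) ^ 2) - 2 * ((e' : ℝ) * z) * (eN H k : ℝ) +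
            ((aN H k : ℝ) - 1) * (z : ℝ) ^ 2) +
        ∑ m ∈ Finset.univ.erase k, ((normalizer (H m : Set G)).index : ℝ) *
          (((aN H m : ℝ) - 1) * ((c k m : ℝ) ^ 2))) := by
      have : ((Nat.card G : ℝ) : ℂ) = (((d : ℝ) * (d : ℝ) +
        (((normalizer (H k : Set G)).index : ℝ) *
          (((aN H k : ℝ) * (eN H k : ℝ) - (eN H k : ℝ) ^ 2) - 2 * ((e' : ℝ) * z) * (eN H k : ℝ) +
            ((aN H k : ℝ) - 1) * (z : ℝ) ^ 2) +
        ∑ m ∈ Finset.univ.erase k, ((normalizer (H m : Set G)).index : ℝ) *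
          (((aN H m : ℝ) - 1) * ((c k m : ℝ) ^ 2))) : ℝ) : ℂ) := by
        push_cast
        exact h1
      exact_mod_cast this
    have h3 : (∑ m ∈ Finset.univ.erase k, (tN H m : ℝ) * (c k m : ℝ) ^ 2 / (aN H m : ℝ)) *
        (Nat.card G : ℝ) = ∑ m ∈ Finset.univ.erase k, ((normalizer (H m : Set G)).index : ℝ) *
          (((aN H m : ℝ) - 1) * ((c k m : ℝ) ^ 2)) := by
      rw [Finset.sum_mul]
      exact Finset.sum_congr rfl (fun m _ => term_conv H hab hC m _)
    have hu : (0 : ℝ) ≤ (tN H k : ℝ) * (z : ℝ) ^ 2 - 2 * (e' : ℝ) * z := by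
      have := int_ineq (tN H k : ℤ) z (by exact_mod_cast ht) e' he'
      exact_mod_cast this
    have hd1 : (1 : ℝ) ≤ (d : ℝ) * (d : ℝ) := by
      have : 1 ≤ d * d := Nat.one_le_iff_ne_zero.mpr (by positivity)
      exact_mod_cast this
    set S := ∑ m ∈ Finset.univ.erase k, (tN H m : ℝ) * (c k m : ℝ) ^ 2 / (aN H m : ℝ) with hS
    set X := ((normalizer (H k : Set G)).index : ℝ) * (eN H k : ℝ) with hX
    have hXa : X * (aN H k : ℝ) = (Nat.card G : ℝ) := by rw [← hIk, hX]; ring
    have hXpos : 0 < X := by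
      by_contra hneg
      push Not at hneg
      nlinarith
    have h4 : S * (Nat.card G : ℝ) = X * (eN H k : ℝ) -
        X * ((tN H k : ℝ) * (z : ℝ) ^ 2 - 2 * (e' : ℝ) * z) - (d : ℝ) * (d : ℝ) := by
      rw [h3]
      have e5 : ((normalizer (H k : Set G)).index : ℝ) *
          (((aN H k : ℝ) * (eN H k : ℝ) - (eN H k : ℝ) ^ 2) - 2 * ((e' : ℝ) * z) * (eN H k : ℝ) +
            ((aN H k : ℝ) - 1) * (z : ℝ) ^ 2) =
          X * ((aN H k : ℝ) - (eN H k : ℝ) + ((tN H k : ℝ) * (z : ℝ) ^ 2 - 2 * (e' : ℝ) * z)) := by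
        rw [hatk, hX]; ring
      rw [e5] at h2
      linarith
    have h5 : S * (Nat.card G : ℝ) ≤ X * (eN H k : ℝ) - 1 := by
      rw [h4]
      have : 0 ≤ X * ((tN H k : ℝ) * (z : ℝ) ^ 2 - 2 * (e' : ℝ) * z) := mul_nonneg hXpos.le hu
      linarith
    have h6 : (eN H k : ℝ) / (aN H k : ℝ) - 1 / (Nat.card G : ℝ) =
        (X * (eN H k : ℝ) - 1) / (Nat.card G : ℝ) := by
      rw [← hXa]
      field_simp
    rw [h6, le_div_iff₀ hg]
    exact h5
  rcases hε k with he | he
  · exact key 1 (Or.inl rfl) (by rw [he]; simp)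
  · exact key (-1) (Or.inr rfl) (by rw [he]; simp)

end main

/-- **Peterfalvi (7.1), abelian case / Suzuki**: no group of odd order is covered by the conjugates
of abelian TI subgroups `H i` of pairwise coprime orders, each properly contained in its normalizer
and containing the centralizers of its nonidentity elements. -/
theorem no_abelian_partition {G : Type*} [Group G] [Finite G] (hodd : Odd (Nat.card G))
    {ι : Type*} [Fintype ι] [Nonempty ι] (H : ι → Subgroup G)
    (hH1 : ∀ i, H i ≠ ⊥)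
    (hlt : ∀ i, H i < normalizer (H i : Set G))
    (hab : ∀ i, ∀ a ∈ H i, ∀ b ∈ H i, a * b = b * a)
    (hC : ∀ i, ∀ k ∈ H i, k ≠ 1 → centralizer ({k} : Set G) ≤ H i)
    (hTI : ∀ i, ∀ g : G, g ∉ normalizer (H i : Set G) → ∀ k ∈ H i, g * k * g⁻¹ ∈ H i → k = 1)
    (hcop : ∀ i j, i ≠ j → Nat.Coprime (Nat.card (H i)) (Nat.card (H j)))
    (hcover : ∀ g : G, g ≠ 1 → ∃ i, ∃ x : G, x * g * x⁻¹ ∈ H i) : False := by
  have : Fintype G := Fintype.ofFinite G
  choose ε f hε hinj hind using fun i => Cfsg.Agent.S0851.main (H i) (hTI i) (hC i) (hab i)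
  choose c hc using fun i k => exists_c H hodd hH1 hab hC hcop ε f hε hinj hind i k
  have hc' : ∀ i k, i ≠ k → ∀ χ : Rel (H i), ∀ x ∈ H k, x ≠ 1 → (f i χ : G → ℂ) x = c i k :=
    fun i k hik => hc i k hik
  refine Cfsg.Agent.Lib.Helper31_CAEnd.endgame (aN H) (eN H) (tN H) c (Nat.card G) ?_ ?_ ?_ ?_
    ?_ ?_ ?_ ?_
  · intro i
    have := tN_mul H hab hC i
    omega
  · exact fun i => (even_tN H hodd hH1 hab hC i).2
  · exact two_le_eN H hlt
  · intro i j hij
    by_contra hne
    have h1 := hcop i j hne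
    have h2 := two_le_aN H hH1 i
    unfold aN at hij h2
    rw [← hij, Nat.coprime_self] at h1
    omega
  · exact class_rel H hab hC hTI hcop hcover
  · exact row_rel H hodd hH1 hab hC hTI hcop hcover ε f hε hinj hind c hc'
  · intro k
    have := col_rel H hodd hH1 hab hC hTI hcop hcover ε f hε hinj hind c hc' k
    have h2 : ((∑ i ∈ Finset.univ.erase k, (tN H i : ℤ) * (c i k) ^ 2 : ℤ) : ℝ) ≤
        (((eN H k : ℤ) - 1 : ℤ) : ℝ) := by exact_mod_cast this
    push_cast at h2
    exact h2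
  · exact par_rel H hodd hH1 hab hC hTI hcop hcover ε f hε hinj hind c hc'

end Cfsg.Agent.Lib.Helper31_CAMain
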