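import Cfsg.Agent.S1514
import Cfsg.Agent.Lib.Helper3_CharOrtho

/-!
# A small coherence lemma (helper25)

A family `D i j` (`i, j ∈ S`, at least three indices) of virtual characters vanishing at `1`,
additive (`D i j + D j k = D i k`) with the inner products of differences of an orthonormal family,
is of the form `D i j = δ (μ i - μ j)` for a sign `δ` and distinct irreducible characters `μ i`.
-/

set_option autoImplicit false

namespace Cfsg.Agent.Lib.Helper25_Coh3

open Cfsg Cfsg.Agent.Lib.Helper3_CharOrtho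

variable {G : Type*} [Group G] [Fintype G]

/-- Two differences of irreducible characters with inner product one share the positive or the
negative part. -/
theorem pair_type {x y x' y' : G → ℂ} (hx : IsIrrCharacter G x) (hy : IsIrrCharacter G y)
    (hx' : IsIrrCharacter G x') (hy' : IsIrrCharacter G y') (hne : x - y ≠ x' - y')
    (h : classInner (x - y) (x' - y') = 1) :
    (x = x' ∧ y ≠ y') ∨ (y = y' ∧ x ≠ x') := by
  classical
  rw [classInner_sub_left, Cfsg.Agent.S1514.classInner_sub_right',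
    Cfsg.Agent.S1514.classInner_sub_right', classInner_irr hx hx', classInner_irr hx hy',
    classInner_irr hy hx', classInner_irr hy hy'] at h
  by_cases h1 : x = x'
  · left
    refine ⟨h1, ?_⟩
    intro h2
    apply hne
    rw [h1, h2]
  · right
    refine ⟨?_, h1⟩
    by_contra h2
    rw [if_neg h1, if_neg h2] at h
    by_cases h3 : x = y' <;> by_cases h4 : y = x'
    · rw [if_pos h3, if_pos h4] at h; norm_num at h
    · rw [if_pos h3, if_neg h4] at h; norm_num at h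
    · rw [if_neg h3, if_pos h4] at h; norm_num at h
    · rw [if_neg h3, if_neg h4] at h; norm_num at h

variable {I : Type*} [DecidableEq I]

theorem coherence (S : Set I) (D : I → I → (G → ℂ)) (i₀ i₁ i₂ : I) (h0 : i₀ ∈ S) (h1 : i₁ ∈ S)
    (h2 : i₂ ∈ S) (h01 : i₀ ≠ i₁) (h02 : i₀ ≠ i₂) (h12 : i₁ ≠ i₂)
    (hgen : ∀ i ∈ S, ∀ j ∈ S, IsGeneralizedCharacter G (D i j))
    (hone : ∀ i ∈ S, ∀ j ∈ S, D i j 1 = 0)
    (hadd : ∀ i ∈ S, ∀ j ∈ S, ∀ k ∈ S, D i j + D j k = D i k)
    (hip : ∀ i ∈ S, ∀ j ∈ S, ∀ k ∈ S, ∀ l ∈ S, classInner (D i j) (D k l) =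
      (if i = k then 1 else 0) - (if i = l then 1 else 0) - (if j = k then 1 else 0) +
        (if j = l then 1 else 0)) :
    ∃ (δ : ℂ) (μ : I → (G → ℂ)), (δ = 1 ∨ δ = -1) ∧ (∀ i ∈ S, IsIrrCharacter G (μ i)) ∧
      Set.InjOn μ S ∧ ∀ i ∈ S, ∀ j ∈ S, D i j = δ • (μ i - μ j) := by
  classical
  -- norms
  have hnorm : ∀ i ∈ S, ∀ j ∈ S, i ≠ j → classInner (D i j) (D i j) = 2 := by
    intro i hi j hj hij
    rw [hip i hi j hj i hi j hj, if_pos rfl, if_pos rfl, if_neg hij, if_neg (Ne.symm hij)]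
    norm_num
  have hzero : ∀ i ∈ S, D i i = 0 := by
    intro i hi
    have := hadd i hi i hi i hi
    have h3 : D i i + D i i = D i i + 0 := by rw [this, add_zero]
    exact add_left_cancel h3
  have hsub : ∀ i ∈ S, ∀ j ∈ S, D i j = D i₀ j - D i₀ i := by
    intro i hi j hj
    rw [← hadd i₀ h0 i hi j hj]
    abel
  -- positive and negative parts
  have hxy : ∀ i, ∃ x y : G → ℂ, i ∈ S → i ≠ i₀ →
      IsIrrCharacter G x ∧ IsIrrCharacter G y ∧ x ≠ y ∧ D i₀ i = x - y := by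
    intro i
    by_cases hi : i ∈ S ∧ i ≠ i₀
    · obtain ⟨x, y, hx, hy, hne, heq⟩ := Cfsg.Agent.S1514.norm_two (D i₀ i) (hgen i₀ h0 i hi.1)
        (hnorm i₀ h0 i hi.1 (Ne.symm hi.2)) (hone i₀ h0 i hi.1)
      exact ⟨x, y, fun _ _ => ⟨hx, hy, hne, heq⟩⟩
    · exact ⟨0, 0, fun h h' => absurd ⟨h, h'⟩ hi⟩
  choose x y hxy using hxy
  -- pairs
  have hT : ∀ i ∈ S, ∀ j ∈ S, i ≠ i₀ → j ≠ i₀ → i ≠ j →
      (x i = x j ∧ y i ≠ y j) ∨ (y i = y j ∧ x i ≠ x j) := by
    intro i hi j hj hi0 hj0 hij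
    obtain ⟨hxi, hyi, -, hDi⟩ := hxy i hi hi0
    obtain ⟨hxj, hyj, -, hDj⟩ := hxy j hj hj0
    apply pair_type hxi hyi hxj hyj
    · intro heq
      have h3 := hnorm i hi j hj hij
      rw [hsub i hi j hj, hDi, hDj, heq, sub_self, classInner_zero_left] at h3
      norm_num at h3
    · rw [← hDi, ← hDj, hip i₀ h0 i hi i₀ h0 j hj, if_pos rfl, if_neg (Ne.symm hj0),
        if_neg hi0, if_neg hij]
      norm_num
  -- the key step
  have key : ∃ (δ : ℂ) (μ : I → (G → ℂ)), (δ = 1 ∨ δ = -1) ∧ (∀ i ∈ S, IsIrrCharacter G (μ i)) ∧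
      ∀ i ∈ S, D i₀ i = δ • (μ i₀ - μ i) := by
    rcases hT i₁ h1 i₂ h2 (Ne.symm h01) (Ne.symm h02) h12 with ⟨hX, hX'⟩ | ⟨hY, hY'⟩
    · -- common positive part
      have hall : ∀ i ∈ S, i ≠ i₀ → x i = x i₁ := by
        intro i hi hi0
        by_cases hi1 : i = i₁
        · rw [hi1]
        by_cases hi2 : i = i₂
        · rw [hi2, hX]
        rcases hT i hi i₁ h1 hi0 (Ne.symm h01) hi1 with ⟨ha, -⟩ | ⟨hb, hb'⟩
        · exact ha
        · exfalso
          rcases hT i hi i₂ h2 hi0 (Ne.symm h02) hi2 with ⟨ha, -⟩ | ⟨hc, -⟩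
          · exact hb' (ha.trans hX.symm)
          · exact hX' (hb.symm.trans hc)
      obtain ⟨μ, hμdef⟩ : ∃ μ : I → (G → ℂ), ∀ i, μ i = if i = i₀ then x i₁ else y i :=
        ⟨_, fun _ => rfl⟩
      refine ⟨1, μ, Or.inl rfl, ?_, ?_⟩
      · intro i hi
        by_cases hi0 : i = i₀
        · rw [hμdef, if_pos hi0]
          exact (hxy i₁ h1 (Ne.symm h01)).1
        · rw [hμdef, if_neg hi0]
          exact (hxy i hi hi0).2.1
      · intro i hi
        by_cases hi0 : i = i₀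
        · rw [hi0, hzero i₀ h0, sub_self, smul_zero]
        · rw [hμdef i₀, hμdef i, if_pos rfl, if_neg hi0, one_smul, (hxy i hi hi0).2.2.2,
            hall i hi hi0]
    · -- common negative part
      have hall : ∀ i ∈ S, i ≠ i₀ → y i = y i₁ := by
        intro i hi hi0
        by_cases hi1 : i = i₁
        · rw [hi1]
        by_cases hi2 : i = i₂
        · rw [hi2, hY]
        rcases hT i hi i₁ h1 hi0 (Ne.symm h01) hi1 with ⟨ha, ha'⟩ | ⟨hb, -⟩
        · exfalso
          rcases hT i hi i₂ h2 hi0 (Ne.symm h02) hi2 with ⟨hc, -⟩ | ⟨hc, -⟩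
          · exact hY' (ha.symm.trans hc)
          · exact ha' (hc.trans hY.symm)
        · exact hb
      obtain ⟨μ, hμdef⟩ : ∃ μ : I → (G → ℂ), ∀ i, μ i = if i = i₀ then y i₁ else x i :=
        ⟨_, fun _ => rfl⟩
      refine ⟨-1, μ, Or.inr rfl, ?_, ?_⟩
      · intro i hi
        by_cases hi0 : i = i₀
        · rw [hμdef, if_pos hi0]
          exact (hxy i₁ h1 (Ne.symm h01)).2.1
        · rw [hμdef, if_neg hi0]
          exact (hxy i hi hi0).1
      · intro i hi
        by_cases hi0 : i = i₀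
        · rw [hi0, hzero i₀ h0, sub_self, smul_zero]
        · rw [hμdef i₀, hμdef i, if_pos rfl, if_neg hi0, (hxy i hi hi0).2.2.2, hall i hi hi0,
            neg_one_smul, neg_sub]
  obtain ⟨δ, μ, hδ, hμirr, hμ⟩ := key
  have hD : ∀ i ∈ S, ∀ j ∈ S, D i j = δ • (μ i - μ j) := by
    intro i hi j hj
    rw [hsub i hi j hj, hμ i hi, hμ j hj, ← smul_sub]
    congr 1
    abel
  refine ⟨δ, μ, hδ, hμirr, ?_, hD⟩
  intro i hi j hj hij
  by_contra hne
  have h3 := hnorm i hi j hj hne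
  rw [hD i hi j hj, hij, sub_self, smul_zero, classInner_zero_left] at h3
  norm_num at h3

end Cfsg.Agent.Lib.Helper25_Coh3
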