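import Mathlib
import Cfsg.Prelude.Def_Characters
import Cfsg.Prelude.Def_OddOrderChar
import Cfsg.Agent.S1530
import Cfsg.Agent.S1514
import Cfsg.Agent.Lib.Helper25_Coh3
import Cfsg.Agent.Lib.Helper25_VirtNorm
import Cfsg.Agent.Lib.Helper17_CohSys
import Cfsg.Agent.Lib.Helper17_CohExt
import Cfsg.Agent.Lib.Helper3_CharOrtho
import Cfsg.Agent.Lib.Helper75_CharArith

/-!
# Feit-style coherence for sets of irreducible characters (helper31)

Everything here is for an abstract finite group `L` (a type, not a subgroup of `G`) and a map `τ`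
which is a linear isometry on the integer combinations vanishing at `1`.

* `feit_insert`: the insertion criterion of Feit (statement S1530) for an abstract `L`;
* `coherent_of_same_degree`: a finite set of at least two irreducible characters of the same
  degree is coherent;
* `exists_max_coherent`: a maximal coherent finite set between a coherent `T₀` and `S`, for which
  Feit's numerical inequality fails for every character outside.
-/

set_option autoImplicit false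

namespace Cfsg.Agent.Lib.Helper31_FeitCoh

open scoped ComplexConjugate
open Cfsg.Agent.Lib.Helper3_CharOrtho Cfsg.Agent.Lib.Helper75_CharArith
  Cfsg.Agent.Lib.Helper17_CohSys Cfsg.Agent.Lib.Helper17_CohExt

section Insert

variable {L : Type*} [Group L] [Fintype L] {G : Type*} [Group G] [Fintype G]

/-- Feit's insertion criterion (the proof of S1530 by helper17, for an abstract group `L`). -/
theorem feit_insert (S₀ : Finset (L → ℂ)) (χ : L → ℂ) (hirr : ∀ ξ ∈ S₀, Cfsg.IsIrrCharacter L ξ) (hχ : Cfsg.IsIrrCharacter L χ) (hχS : χ ∉ S₀) (d : (L → ℂ) → ℕ) (hd : ∀ ξ ∈ insert χ S₀, ξ 1 = (d ξ : ℂ)) (τ : (L → ℂ) → (G → ℂ)) (hτ : Cfsg.IsLinearIsometryOn (Cfsg.zspanOn (↑(insert χ S₀) : Set (L → ℂ)) {1}ᶜ) τ) (hτ1 : ∀ α ∈ Cfsg.zspanOn (↑(insert χ S₀) : Set (L → ℂ)) {1}ᶜ, τ α 1 = 0) (hcoh : Cfsg.IsCoherent (↑S₀ : Set (L → ℂ)) {1}ᶜ τ) (ψ : L → ℂ) (hψ : ψ ∈ S₀) (hdvd : d ψ ∣ d χ) (hlt : 2 * d ψ *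 d χ < ∑ ξ ∈ S₀, d ξ ^ 2) : Cfsg.IsCoherent (↑(insert χ S₀) : Set (L → ℂ)) {1}ᶜ τ := by
  classical
  obtain ⟨⟨α₀, hα₀, hα₀ne⟩, τ₁, hτ₁, hag⟩ := hcoh
  obtain ⟨a, ha⟩ := hdvd
  have ha' : d χ = a * d ψ := by rw [ha, mul_comm]
  obtain ⟨k1, k2, k3, k4⟩ := Cfsg.Agent.S1530.key S₀ χ hirr hχ hχS d hd τ hτ hτ1 hτ₁ hag ψ hψ ha' hlt
  have hsubS : (↑S₀ : Set (L → ℂ)) ⊆ (↑(insert χ S₀) : Set (L → ℂ)) := by
    intro x hx
    exact Finset.mem_insert_of_mem hx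
  have hτ' : Cfsg.IsLinearIsometryOn
      ((zspanOnSub (↑(insert χ S₀) : Set (L → ℂ)) ({1}ᶜ : Set L) :
        Submodule ℤ (L → ℂ)) : Set (L → ℂ)) τ := hτ
  have hmemS' : ∀ x, x ∈ (↑(insert χ S₀) : Set (L → ℂ)) ↔ x = χ ∨ x ∈ S₀ := by
    intro x
    simp
  have hirr' : ∀ x ∈ (↑(insert χ S₀) : Set (L → ℂ)), Cfsg.IsIrrCharacter L x := by
    intro x hx
    rcases (hmemS' x).1 hx with h | h
    · rw [h]; exact hχ
    · exact hirr x h
  have horth' : ∀ x ∈ (↑(insert χ S₀) : Set (L → ℂ)), ∀ y ∈ (↑(insert χ S₀) : Set (L → ℂ)),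
      x ≠ y → Cfsg.classInner x y = 0 :=
    fun x hx y hy h => classInner_of_isIrrCharacter_of_ne (hirr' x hx) (hirr' y hy) h
  have hne' : ∀ x ∈ (↑(insert χ S₀) : Set (L → ℂ)), Cfsg.classInner x x ≠ 0 := by
    intro x hx
    rw [classInner_self_of_isIrrCharacter (hirr' x hx)]
    exact one_ne_zero
  have hT : ψ ∈ Cfsg.zspan (↑S₀ : Set (L → ℂ)) := subset_zspan hψ
  have hψψ : Cfsg.classInner ψ ψ = 1 := classInner_self_of_isIrrCharacter (hirr ψ hψ)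
  have hTT : Cfsg.classInner (τ₁ ψ) (τ₁ ψ) = 1 := by rw [hτ₁.2.2.1 _ hT _ hT, hψψ]
  set Φ := χ - (a : ℤ) • ψ with hΦ
  set vχ := τ Φ + (a : ℤ) • τ₁ ψ with hvχ
  have hvχg : Cfsg.IsGeneralizedCharacter G vχ :=
    gen_add (hτ.2.2.2 _ k4) (gen_zsmul _ (hτ₁.2.2.2 _ hT))
  have hvχ_orth : ∀ ξ ∈ S₀, Cfsg.classInner vχ (τ₁ ξ) = 0 := by
    intro ξ hξ
    rw [hvχ, classInner_add_left, classInner_zsmul_left, hτ₁.2.2.1 _ hT _ (subset_zspan hξ)]
    by_cases h : ξ = ψ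
    · rw [h, k2, hψψ]; push_cast; ring
    · rw [k1 ξ hξ h, classInner_of_isIrrCharacter_of_ne (hirr ψ hψ) (hirr ξ hξ) (Ne.symm h)]
      ring
  have hconjk2 : Cfsg.classInner (τ₁ ψ) (τ Φ) = -(a : ℂ) := by
    rw [← classInner_conj_symm, k2]; simp
  have hvχ_norm : Cfsg.classInner vχ vχ = 1 := by
    rw [hvχ]
    simp only [classInner_add_left, classInner_add_right, classInner_zsmul_left,
      classInner_zsmul_right]
    rw [k3, k2, hconjk2, hTT]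
    push_cast
    ring
  set v : (L → ℂ) → (G → ℂ) := fun φ => if φ = χ then vχ else τ₁ φ with hv
  have hv_S₀ : ∀ φ ∈ S₀, v φ = τ₁ φ := by
    intro φ hφ
    have e1 : φ ≠ χ := fun h => hχS (h ▸ hφ)
    simp [hv, e1]
  have hv_χ : v χ = vχ := by simp [hv]
  have hvg : ∀ φ ∈ (↑(insert χ S₀) : Set (L → ℂ)), Cfsg.IsGeneralizedCharacter G (v φ) := by
    intro φ hφ
    rcases (hmemS' φ).1 hφ with h | h
    · rw [h, hv_χ]; exact hvχg
    · rw [hv_S₀ φ h]; exact hτ₁.2.2.2 _ (subset_zspan h)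
  have hvv : ∀ x ∈ (↑(insert χ S₀) : Set (L → ℂ)), ∀ y ∈ (↑(insert χ S₀) : Set (L → ℂ)),
      Cfsg.classInner (v x) (v y) = Cfsg.classInner x y := by
    intro x hx y hy
    rcases (hmemS' x).1 hx with h | h <;> rcases (hmemS' y).1 hy with h' | h'
    · rw [h, h', hv_χ, hvχ_norm, classInner_self_of_isIrrCharacter hχ]
    · rw [h, hv_χ, hv_S₀ y h', hvχ_orth y h',
        classInner_of_isIrrCharacter_of_ne hχ (hirr y h') (fun e => hχS (e ▸ h'))]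
    · rw [h', hv_χ, hv_S₀ x h, ← classInner_conj_symm, hvχ_orth x h, map_zero,
        classInner_of_isIrrCharacter_of_ne (hirr x h) hχ (fun e => hχS (e ▸ h))]
    · rw [hv_S₀ x h, hv_S₀ y h', hτ₁.2.2.1 _ (subset_zspan h) _ (subset_zspan h')]
  obtain ⟨τ₂, hτ₂, hτ₂v⟩ := exists_isometry_of_assignment horth' hne' v hvg hvv
  have hχS' : χ ∈ (↑(insert χ S₀) : Set (L → ℂ)) := (hmemS' χ).2 (Or.inl rfl)
  have hψS' : ψ ∈ (↑(insert χ S₀) : Set (L → ℂ)) := hsubS hψ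
  refine ⟨⟨α₀, ⟨Submodule.span_mono hsubS hα₀.1, hα₀.2⟩, hα₀ne⟩, τ₂, hτ₂, ?_⟩
  intro α hα
  have hFmem : ∀ x, x ∈ insert χ S₀ ↔ x ∈ (↑(insert χ S₀) : Set (L → ℂ)) := fun x => Iff.rfl
  have hexp := expansion horth' hne' (insert χ S₀) hFmem hα.1
  have hint := coef_int horth' hne' hα.1
  choose! c hc using hint
  have hα1 : α = ∑ x ∈ insert χ S₀, c x • x := by
    conv_lhs => rw [hexp]
    refine Finset.sum_congr rfl (fun x hx => ?_)
    rw [hc x ((hFmem x).1 hx)]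
    funext l
    simp
  rw [Finset.sum_insert hχS] at hα1
  set γ : L → ℂ := ∑ x ∈ S₀, c x • x + (c χ * a) • ψ with hγ
  have hαγ : α = γ + c χ • Φ := by
    rw [hα1, hγ, hΦ]
    simp only [smul_sub, smul_smul]
    abel
  have hγspan : γ ∈ Submodule.span ℤ (↑S₀ : Set (L → ℂ)) :=
    Submodule.add_mem _ (Submodule.sum_mem _ (fun x hx =>
      Submodule.smul_mem _ _ (Submodule.subset_span hx)))
      (Submodule.smul_mem _ _ (Submodule.subset_span hψ))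
  have hγ1 : γ ∈ Cfsg.zspanOn (↑S₀ : Set (L → ℂ)) ({1}ᶜ : Set L) := by
    refine ⟨hγspan, ?_⟩
    intro x hx
    have h1 : α x = 0 := hα.2 x hx
    have h2 : Φ x = 0 := k4.2 x hx
    have h4 : α x = γ x + c χ • Φ x := by
      conv_lhs => rw [hαγ]
      simp
    rw [h1, h2] at h4
    simpa using h4.symm
  have hγS : γ ∈ Cfsg.zspanOn (↑(insert χ S₀) : Set (L → ℂ)) ({1}ᶜ : Set L) :=
    ⟨Submodule.span_mono hsubS hγ1.1, hγ1.2⟩
  have hsub : Cfsg.zspan (↑S₀ : Set (L → ℂ)) ⊆ Cfsg.zspan (↑(insert χ S₀) : Set (L → ℂ)) := by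
    intro x hx
    exact Submodule.span_mono hsubS hx
  have hΦS' : Φ ∈ Submodule.span ℤ (↑(insert χ S₀) : Set (L → ℂ)) := k4.1
  have e1 : τ₂ α = τ₂ γ + c χ • τ₂ Φ := by
    rw [hαγ, hτ₂.1 _ (hsub hγspan) _ (Submodule.smul_mem _ _ hΦS'), hτ₂.2.1 _ hΦS']
  have e2 : τ α = τ γ + c χ • τ Φ := by
    rw [hαγ, hτ.1 _ hγS _ ((zspanOnSub _ _).smul_mem _ k4), hτ.2.1 _ k4]
  have e3 : τ₂ γ = τ γ := by
    rw [agree_on_span (isometry_mono hsub hτ₂) hτ₁
      (fun x hx => by rw [hτ₂v x (hsubS hx), hv_S₀ x hx]) hγspan]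
    exact hag γ hγ1
  have e4 : τ₂ Φ = τ Φ := by
    rw [hΦ, map_sub_of (M := Submodule.span ℤ (↑(insert χ S₀) : Set (L → ℂ))) hτ₂
      (Submodule.subset_span hχS') (Submodule.smul_mem _ _ (Submodule.subset_span hψS')),
      hτ₂.2.1 _ (subset_zspan hψS'), hτ₂v χ hχS', hτ₂v ψ hψS', hv_χ, hv_S₀ ψ hψ, hvχ]
    abel
  rw [e1, e2, e3, e4]


end Insert

section Base

variable {L : Type*} [Group L] [Fintype L] {G : Type*} [Group G] [Fintype G]

theorem irr_deg_ne_zero {χ : L → ℂ} (h : Cfsg.IsIrrCharacter L χ) : χ 1 ≠ 0 :=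
  Cfsg.Agent.S1530.irr_apply_one_ne_zero h

omit [Fintype L] in
/-- Differences of members of `X` lie in the combinations vanishing at `1`, when the degrees
agree. -/
theorem sub_mem_zspanOn_of_deg {X : Set (L → ℂ)} {x y : L → ℂ} (hx : x ∈ X) (hy : y ∈ X)
    (hdeg : x 1 = y 1) : x - y ∈ Cfsg.zspanOn X ({1}ᶜ : Set L) := by
  refine ⟨Submodule.sub_mem _ (Submodule.subset_span hx) (Submodule.subset_span hy), ?_⟩
  intro l hl
  have hl' : l = 1 := by simpa using hl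
  rw [hl', Pi.sub_apply, hdeg, sub_self]

/-- A coherent extension from an assignment `v` compatible with `τ` on differences, for
irreducible characters of a common degree. -/
theorem coherent_of_assignment (X : Finset (L → ℂ)) (hirr : ∀ ξ ∈ X, Cfsg.IsIrrCharacter L ξ)
    (hdeg : ∀ ξ ∈ X, ∀ ξ' ∈ X, ξ 1 = ξ' 1) (x₀ x₁ : L → ℂ) (hx₀ : x₀ ∈ X) (hx₁ : x₁ ∈ X)
    (hne01 : x₀ ≠ x₁) (τ : (L → ℂ) → (G → ℂ))
    (hτ : Cfsg.IsLinearIsometryOn (Cfsg.zspanOn (↑X : Set (L → ℂ)) {1}ᶜ) τ)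
    (v : (L → ℂ) → (G → ℂ)) (hv : ∀ ξ ∈ X, Cfsg.IsGeneralizedCharacter G (v ξ))
    (hvv : ∀ ξ ∈ X, ∀ ξ' ∈ X, Cfsg.classInner (v ξ) (v ξ') = Cfsg.classInner ξ ξ')
    (hdiff : ∀ ξ ∈ X, τ (ξ - x₀) = v ξ - v x₀) :
    Cfsg.IsCoherent (↑X : Set (L → ℂ)) {1}ᶜ τ := by
  classical
  have horth' : ∀ x ∈ (↑X : Set (L → ℂ)), ∀ y ∈ (↑X : Set (L → ℂ)),
      x ≠ y → Cfsg.classInner x y = 0 :=
    fun x hx y hy h => classInner_of_isIrrCharacter_of_ne (hirr x hx) (hirr y hy) h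
  have hne' : ∀ x ∈ (↑X : Set (L → ℂ)), Cfsg.classInner x x ≠ 0 := by
    intro x hx
    rw [classInner_self_of_isIrrCharacter (hirr x hx)]
    exact one_ne_zero
  obtain ⟨τ₁, hτ₁, hτ₁v⟩ := exists_isometry_of_assignment horth' hne' v
    (fun x hx => hv x hx) (fun x hx y hy => hvv x hx y hy)
  refine ⟨⟨x₁ - x₀, sub_mem_zspanOn_of_deg hx₁ hx₀ (hdeg _ hx₁ _ hx₀), ?_⟩, τ₁, hτ₁, ?_⟩
  · intro h
    exact hne01 (sub_eq_zero.1 h).symm
  · intro α hα
    have hFmem : ∀ x, x ∈ X ↔ x ∈ (↑X : Set (L → ℂ)) := fun x => Iff.rfl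
    have hexp := expansion horth' hne' X hFmem hα.1
    have hint := coef_int horth' hne' hα.1
    choose! c hc using hint
    have hα1 : α = ∑ x ∈ X, c x • x := by
      conv_lhs => rw [hexp]
      refine Finset.sum_congr rfl (fun x hx => ?_)
      rw [hc x ((hFmem x).1 hx)]
      funext l
      simp
    have hsum0 : ∑ x ∈ X, c x = 0 := by
      have h1 : α 1 = 0 := hα.2 1 (by simp)
      rw [hα1, Finset.sum_apply] at h1
      have h2 : ∑ x ∈ X, (c x • x) 1 = ((∑ x ∈ X, c x : ℤ) : ℂ) * x₀ 1 := by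
        push_cast
        rw [Finset.sum_mul]
        refine Finset.sum_congr rfl (fun x hx => ?_)
        rw [Pi.smul_apply, zsmul_eq_mul, hdeg x hx x₀ hx₀]
      rw [h2] at h1
      have := (mul_eq_zero.1 h1).resolve_right (irr_deg_ne_zero (hirr x₀ hx₀))
      exact_mod_cast this
    have hα2 : α = ∑ x ∈ X, c x • (x - x₀) := by
      rw [hα1]
      simp only [smul_sub]
      rw [Finset.sum_sub_distrib, ← Finset.sum_smul, hsum0, zero_smul, sub_zero]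
    have hτ' : Cfsg.IsLinearIsometryOn
        ((zspanOnSub (↑X : Set (L → ℂ)) ({1}ᶜ : Set L) :
          Submodule ℤ (L → ℂ)) : Set (L → ℂ)) τ := hτ
    have e1 : τ α = ∑ x ∈ X, c x • (v x - v x₀) := by
      rw [hα2, map_sum_of hτ' X c (fun x => x - x₀)
        (fun x hx => sub_mem_zspanOn_of_deg hx hx₀ (hdeg _ hx _ hx₀))]
      exact Finset.sum_congr rfl (fun x hx => by rw [hdiff x hx])
    have e2 : τ₁ α = ∑ x ∈ X, c x • v x := by
      rw [hα1, map_sum_of (M := Submodule.span ℤ (↑X : Set (L → ℂ))) hτ₁ X c (fun x => x)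
        (fun x hx => Submodule.subset_span hx)]
      exact Finset.sum_congr rfl (fun x hx => by rw [hτ₁v x hx])
    rw [e1, e2]
    simp only [smul_sub]
    rw [Finset.sum_sub_distrib, ← Finset.sum_smul, hsum0, zero_smul, sub_zero]

/-- The inner product of two differences of irreducible characters. -/
theorem inner_diff_diff {i j k l : L → ℂ} (hi : Cfsg.IsIrrCharacter L i)
    (hj : Cfsg.IsIrrCharacter L j) (hk : Cfsg.IsIrrCharacter L k) (hl : Cfsg.IsIrrCharacter L l) :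
    Cfsg.classInner (i - j) (k - l) =
      (if i = k then 1 else 0) - (if i = l then 1 else 0) - (if j = k then 1 else 0) +
        (if j = l then 1 else 0) := by
  rw [classInner_sub_left, classInner_sub_right, classInner_sub_right, classInner_irr hi hk,
    classInner_irr hi hl, classInner_irr hj hk, classInner_irr hj hl]
  ring

/-- **Base case**: at least two irreducible characters of the same degree form a coherent set. -/
theorem coherent_of_same_degree (X : Finset (L → ℂ)) (hirr : ∀ ξ ∈ X, Cfsg.IsIrrCharacter L ξ)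
    (hdeg : ∀ ξ ∈ X, ∀ ξ' ∈ X, ξ 1 = ξ' 1) (h2 : 2 ≤ X.card) (τ : (L → ℂ) → (G → ℂ))
    (hτ : Cfsg.IsLinearIsometryOn (Cfsg.zspanOn (↑X : Set (L → ℂ)) {1}ᶜ) τ)
    (hτ1 : ∀ α ∈ Cfsg.zspanOn (↑X : Set (L → ℂ)) {1}ᶜ, τ α 1 = 0) :
    Cfsg.IsCoherent (↑X : Set (L → ℂ)) {1}ᶜ τ := by
  classical
  obtain ⟨x₀, hx₀, x₁, hx₁, hne01⟩ := Finset.one_lt_card.1 (by omega : 1 < X.card)
  have hmem : ∀ i ∈ X, ∀ j ∈ X, i - j ∈ Cfsg.zspanOn (↑X : Set (L → ℂ)) ({1}ᶜ : Set L) :=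
    fun i hi j hj => sub_mem_zspanOn_of_deg hi hj (hdeg i hi j hj)
  have hτ' : Cfsg.IsLinearIsometryOn
      ((zspanOnSub (↑X : Set (L → ℂ)) ({1}ᶜ : Set L) :
        Submodule ℤ (L → ℂ)) : Set (L → ℂ)) τ := hτ
  by_cases h3 : ∃ x₂ ∈ X, x₂ ≠ x₀ ∧ x₂ ≠ x₁
  · obtain ⟨x₂, hx₂, h20, h21⟩ := h3
    obtain ⟨δ, μ, hδ, hμirr, hμinj, hD⟩ := Cfsg.Agent.Lib.Helper25_Coh3.coherence
      (↑X : Set (L → ℂ)) (fun i j => τ (i - j)) x₀ x₁ x₂ hx₀ hx₁ hx₂ hne01 (Ne.symm h20)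
      (Ne.symm h21)
      (fun i hi j hj => hτ.2.2.2 _ (hmem i hi j hj))
      (fun i hi j hj => hτ1 _ (hmem i hi j hj))
      (fun i hi j hj k hk => by
        rw [← hτ.1 _ (hmem i hi j hj) _ (hmem j hj k hk), sub_add_sub_cancel])
      (fun i hi j hj k hk l hl => by
        rw [hτ.2.2.1 _ (hmem i hi j hj) _ (hmem k hk l hl)]
        exact inner_diff_diff (hirr i hi) (hirr j hj) (hirr k hk) (hirr l hl))
    have hδδ : δ * conj δ = 1 := by
      rcases hδ with h | h <;> rw [h] <;> simp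
    refine coherent_of_assignment X hirr hdeg x₀ x₁ hx₀ hx₁ hne01 τ hτ (fun ξ => δ • μ ξ) ?_ ?_ ?_
    · intro ξ hξ
      have hg : Cfsg.IsGeneralizedCharacter G (μ ξ) :=
        gen_of_char (Cfsg.Agent.S1530.isCharacter_of_irr (hμirr ξ hξ))
      rcases hδ with h | h
      · rw [h, one_smul]; exact hg
      · rw [h, neg_one_smul]; exact gen_neg hg
    · intro ξ hξ ξ' hξ'
      rw [classInner_smul_left, classInner_smul_right, ← mul_assoc, hδδ, one_mul,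
        classInner_irr (hμirr ξ hξ) (hμirr ξ' hξ'), classInner_irr (hirr ξ hξ) (hirr ξ' hξ')]
      by_cases h : ξ = ξ'
      · rw [if_pos h, if_pos (by rw [h])]
      · rw [if_neg h, if_neg (fun h' => h (hμinj hξ hξ' h'))]
    · intro ξ hξ
      have := hD ξ hξ x₀ hx₀
      rw [this, smul_sub]
  · have hX : ∀ ξ ∈ X, ξ = x₀ ∨ ξ = x₁ := by
      intro ξ hξ
      by_contra hcon
      push Not at hcon
      exact h3 ⟨ξ, hξ, hcon.1, hcon.2⟩
    have hnorm : Cfsg.classInner (τ (x₁ - x₀)) (τ (x₁ - x₀)) = 2 := by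
      rw [hτ.2.2.1 _ (hmem x₁ hx₁ x₀ hx₀) _ (hmem x₁ hx₁ x₀ hx₀),
        inner_diff_diff (hirr x₁ hx₁) (hirr x₀ hx₀) (hirr x₁ hx₁) (hirr x₀ hx₀),
        if_pos rfl, if_pos rfl, if_neg (Ne.symm hne01), if_neg hne01]
      norm_num
    obtain ⟨ψ₁, ψ₂, hψ₁, hψ₂, hψne, hψ⟩ := Cfsg.Agent.S1514.norm_two _
      (hτ.2.2.2 _ (hmem x₁ hx₁ x₀ hx₀)) hnorm (hτ1 _ (hmem x₁ hx₁ x₀ hx₀))
    set v : (L → ℂ) → (G → ℂ) := fun ξ => if ξ = x₁ then ψ₁ else ψ₂ with hv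
    have hv1 : v x₁ = ψ₁ := by simp [hv]
    have hv0 : v x₀ = ψ₂ := by simp [hv, hne01]
    refine coherent_of_assignment X hirr hdeg x₀ x₁ hx₀ hx₁ hne01 τ hτ v ?_ ?_ ?_
    · intro ξ hξ
      rcases hX ξ hξ with h | h
      · rw [h, hv0]; exact gen_of_char (Cfsg.Agent.S1530.isCharacter_of_irr hψ₂)
      · rw [h, hv1]; exact gen_of_char (Cfsg.Agent.S1530.isCharacter_of_irr hψ₁)
    · intro ξ hξ ξ' hξ'
      rcases hX ξ hξ with h | h <;> rcases hX ξ' hξ' with h' | h'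
      · rw [h, h', hv0, classInner_self_of_isIrrCharacter hψ₂,
          classInner_self_of_isIrrCharacter (hirr x₀ hx₀)]
      · rw [h, h', hv0, hv1, classInner_of_isIrrCharacter_of_ne hψ₂ hψ₁ (Ne.symm hψne),
          classInner_of_isIrrCharacter_of_ne (hirr x₀ hx₀) (hirr x₁ hx₁) hne01]
      · rw [h, h', hv0, hv1, classInner_of_isIrrCharacter_of_ne hψ₁ hψ₂ hψne,
          classInner_of_isIrrCharacter_of_ne (hirr x₁ hx₁) (hirr x₀ hx₀) (Ne.symm hne01)]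
      · rw [h, h', hv1, classInner_self_of_isIrrCharacter hψ₁,
          classInner_self_of_isIrrCharacter (hirr x₁ hx₁)]
    · intro ξ hξ
      rcases hX ξ hξ with h | h
      · rw [h, sub_self, sub_self]; exact map_zero_of hτ'
      · rw [h, hv1, hv0]; exact hψ

end Base

section Maximal

variable {L : Type*} [Group L] [Fintype L] {G : Type*} [Group G] [Fintype G]

omit [Group L] [Fintype L] in
theorem zspanOn_mono {S T : Set (L → ℂ)} (h : T ⊆ S) (A : Set L) :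
    Cfsg.zspanOn T A ⊆ Cfsg.zspanOn S A :=
  fun _ hx => ⟨Submodule.span_mono h hx.1, hx.2⟩

/-- **A maximal coherent subset**: between a coherent `T₀` and `S` there is a coherent `T` such
that Feit's inequality fails for every `χ ∈ S` outside `T`. -/
theorem exists_max_coherent (S : Finset (L → ℂ)) (hirr : ∀ ξ ∈ S, Cfsg.IsIrrCharacter L ξ)
    (d : (L → ℂ) → ℕ) (hd : ∀ ξ ∈ S, ξ 1 = (d ξ : ℂ)) (τ : (L → ℂ) → (G → ℂ))
    (hτ : Cfsg.IsLinearIsometryOn (Cfsg.zspanOn (↑S : Set (L → ℂ)) {1}ᶜ) τ)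
    (hτ1 : ∀ α ∈ Cfsg.zspanOn (↑S : Set (L → ℂ)) {1}ᶜ, τ α 1 = 0)
    (T₀ : Finset (L → ℂ)) (hT₀ : T₀ ⊆ S) (hcoh : Cfsg.IsCoherent (↑T₀ : Set (L → ℂ)) {1}ᶜ τ) :
    ∃ T : Finset (L → ℂ), T₀ ⊆ T ∧ T ⊆ S ∧ Cfsg.IsCoherent (↑T : Set (L → ℂ)) {1}ᶜ τ ∧
      ∀ χ ∈ S, χ ∉ T → ∀ ψ ∈ T, d ψ ∣ d χ → ∑ ξ ∈ T, d ξ ^ 2 ≤ 2 * d ψ * d χ := by
  classical
  set P : Finset (L → ℂ) → Prop := fun X => T₀ ⊆ X ∧
    Cfsg.IsCoherent (↑X : Set (L → ℂ)) {1}ᶜ τ with hP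
  have hne : (S.powerset.filter P).Nonempty :=
    ⟨T₀, Finset.mem_filter.2 ⟨Finset.mem_powerset.2 hT₀, Finset.Subset.refl _, hcoh⟩⟩
  obtain ⟨T, hTmem, hTmax⟩ := Finset.exists_max_image _ Finset.card hne
  obtain ⟨hTS, hT₀T, hTcoh⟩ := Finset.mem_filter.1 hTmem
  rw [Finset.mem_powerset] at hTS
  refine ⟨T, hT₀T, hTS, hTcoh, ?_⟩
  intro χ hχS hχT ψ hψ hdvd
  by_contra hlt
  push Not at hlt
  have hsub : (↑(insert χ T) : Set (L → ℂ)) ⊆ (↑S : Set (L → ℂ)) := by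
    intro x hx
    rw [Finset.mem_coe, Finset.mem_insert] at hx
    rcases hx with hx | hx
    · rw [hx]; exact hχS
    · exact hTS hx
  have hnew := feit_insert T χ (fun ξ hξ => hirr ξ (hTS hξ)) (hirr χ hχS) hχT d
    (fun ξ hξ => hd ξ (hsub hξ)) τ (isometry_mono (zspanOn_mono hsub _) hτ)
    (fun α hα => hτ1 α (zspanOn_mono hsub _ hα)) hTcoh ψ hψ hdvd hlt
  have hmem' : insert χ T ∈ S.powerset.filter P := by
    refine Finset.mem_filter.2 ⟨Finset.mem_powerset.2 (fun x hx => hsub hx), ?_, hnew⟩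
    exact hT₀T.trans (Finset.subset_insert χ T)
  have hcard := hTmax _ hmem'
  rw [Finset.card_insert_of_notMem hχT] at hcard
  omega

end Maximal

end Cfsg.Agent.Lib.Helper31_FeitCoh
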