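import Mathlib
import Cfsg.Prelude.Def_Characters
import Cfsg.Prelude.Def_OddOrderChar
import Cfsg.Agent.Lib.Helper31_FeitFrob
import Cfsg.Agent.Lib.Helper16_CohCount
import Cfsg.Agent.Lib.Helper16_CohDeg
import Cfsg.Agent.Lib.Helper17_CohSys
import Cfsg.Agent.Lib.Helper3_CharOrtho
import Cfsg.Agent.Lib.Helper3_CharBridge

/-!
# Feit's coherence theorem for Frobenius groups: the descent (helper31)

`H ⊴ N`, `S(A) = inducedIrrAbove H A`.  `MaxData H T d` packages a finite set `T ⊆ S(⊥)` of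
irreducible characters with degrees `d`, containing a character of degree `|N : H|`, for which
Feit's inequality fails for every member of `S(⊥)` outside `T`.

* `step`: if `S(A) ⊆ T`, `B ≤ D ≤ H`, `[D, H] ≤ B` and `4 e² |H : D| < (|H : A| - 1)²` then
  `S(B) ⊆ T`;
* `crude_step`, `crude_chain`, `all_of_big`: once `|H : A| > 4 e² + 1`, everything below `A` is in
  `T` (for nilpotent `H`, `A ≤ [H,H]`).
-/

set_option autoImplicit false

namespace Cfsg.Agent.Lib.Helper31_FeitStep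

open Cfsg.Agent.Lib.Helper3_CharOrtho Cfsg.Agent.Lib.Helper17_CohSys
  Cfsg.Agent.Lib.Helper31_FeitFrob

variable {N : Type*} [Group N] [Fintype N] (H : Subgroup N) [hH : H.Normal]

/-- The data of a "maximal coherent" finite set `T`. -/
structure MaxData (T : Finset (N → ℂ)) (d : (N → ℂ) → ℕ) : Prop where
  irr : ∀ ξ ∈ T, Cfsg.IsIrrCharacter N ξ
  deg : ∀ ξ ∈ Cfsg.inducedIrrAbove H ⊥, ξ 1 = (d ξ : ℂ)
  sub : (↑T : Set (N → ℂ)) ⊆ Cfsg.inducedIrrAbove H ⊥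
  max : ∀ χ ∈ Cfsg.inducedIrrAbove H ⊥, χ ∉ T → ∀ ψ ∈ T, d ψ ∣ d χ →
    ∑ ξ ∈ T, d ξ ^ 2 ≤ 2 * d ψ * d χ
  base : ∃ ψ₀ ∈ T, d ψ₀ = H.index

omit hH in
theorem inducedIrrAbove_mono {A A' : Subgroup N} (h : A ≤ A') :
    Cfsg.inducedIrrAbove H A' ⊆ Cfsg.inducedIrrAbove H A := by
  rintro φ ⟨θ, hθ, hne, hker, rfl⟩
  exact ⟨θ, hθ, hne, fun a ha => hker a (h ha), rfl⟩

/-- **The descent step.** -/
theorem step {T : Finset (N → ℂ)} {d : (N → ℂ) → ℕ} (hT : MaxData H T d)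
    (A B D : Subgroup N) [A.Normal] [B.Normal] (hBD : B ≤ D) (hDH : D ≤ H)
    (hcent : ∀ x ∈ D, ∀ y ∈ H, x * y * x⁻¹ * y⁻¹ ∈ B)
    (hA : Cfsg.inducedIrrAbove H A ⊆ ↑T)
    (harith : 4 * H.index ^ 2 * D.relIndex H < (A.relIndex H - 1) ^ 2) :
    Cfsg.inducedIrrAbove H B ⊆ ↑T := by
  classical
  intro χ hχ
  by_contra hχT
  have hχS : χ ∈ Cfsg.inducedIrrAbove H ⊥ := inducedIrrAbove_mono H bot_le hχ
  obtain ⟨θ, hθ, -, hker, rfl⟩ := hχ
  obtain ⟨m, hm⟩ := char_apply_one_nat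
    (Cfsg.Agent.Lib.Helper3_CharBridge.isCharacter_of_isIrrCharacter hθ)
  have hdχ : d (Cfsg.indFun H θ) = H.index * m := by
    have h1 := hT.deg _ hχS
    rw [Cfsg.Agent.Lib.Helper16_CohCount.indFun_one_index, hm] at h1
    exact_mod_cast h1.symm
  have hdb := Cfsg.Agent.Lib.Helper16_CohDeg.deg_bound H B H D hBD hDH le_rfl hcent hθ hker m hm
  obtain ⟨ψ₀, hψ₀T, hψ₀d⟩ := hT.base
  have hmax := hT.max _ hχS (fun h => hχT h) ψ₀ hψ₀T (by rw [hψ₀d, hdχ]; exact Dvd.intro _ rfl)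
  rw [hψ₀d, hdχ] at hmax
  have hsb := Cfsg.Agent.Lib.Helper16_CohCount.sum_bound H A T hA d (fun _ => 1)
    (fun φ hφ => hT.deg φ (hT.sub hφ))
    (fun φ hφ => by rw [classInner_self_of_isIrrCharacter (hT.irr φ hφ)]; simp)
    (fun _ _ => Nat.one_pos)
  have hz1 : 1 ≤ A.relIndex H := Nat.one_le_iff_ne_zero.2 (relIndex_ne_zero _ _)
  have he0 : 0 < H.index := Nat.pos_of_ne_zero (Subgroup.index_ne_zero_of_finite (H := H))
  -- `e (z - 1) ≤ 2 e (e m)` in ℕ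
  have h1 : H.index * (A.relIndex H - 1) ≤ 2 * H.index * (H.index * m) := by
    have h2 : ((H.index * (A.relIndex H - 1) : ℕ) : ℝ) ≤ ((∑ ξ ∈ T, d ξ ^ 2 : ℕ) : ℝ) := by
      push_cast [Nat.cast_sub hz1]
      calc (H.index : ℝ) * ((A.relIndex H : ℝ) - 1) ≤ ∑ φ ∈ T, (d φ : ℝ) ^ 2 / ((1 : ℕ) : ℝ) := hsb
        _ = ∑ φ ∈ T, (d φ : ℝ) ^ 2 := by simp
    have h3 : H.index * (A.relIndex H - 1) ≤ ∑ ξ ∈ T, d ξ ^ 2 := by exact_mod_cast h2
    exact h3.trans hmax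
  have h4 : A.relIndex H - 1 ≤ 2 * (H.index * m) := by
    have : H.index * (A.relIndex H - 1) ≤ H.index * (2 * (H.index * m)) := by
      calc H.index * (A.relIndex H - 1) ≤ 2 * H.index * (H.index * m) := h1
        _ = H.index * (2 * (H.index * m)) := by ring
    exact Nat.le_of_mul_le_mul_left this he0
  have h5 : (A.relIndex H - 1) ^ 2 ≤ 4 * H.index ^ 2 * D.relIndex H := by
    calc (A.relIndex H - 1) ^ 2 ≤ (2 * (H.index * m)) ^ 2 := Nat.pow_le_pow_left h4 2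
      _ = 4 * (H.index * m) ^ 2 := by ring
      _ ≤ 4 * (H.index ^ 2 * D.relIndex H) := Nat.mul_le_mul_left _ hdb
      _ = 4 * H.index ^ 2 * D.relIndex H := by ring
  omega

theorem arith_crude {e z : ℕ} (h : 4 * e ^ 2 + 1 < z) : 4 * e ^ 2 * z < (z - 1) ^ 2 := by
  obtain ⟨t, rfl⟩ : ∃ t, z = 4 * e ^ 2 + 2 + t := ⟨z - (4 * e ^ 2 + 2), by omega⟩
  have h1 : 4 * e ^ 2 + 2 + t - 1 = 4 * e ^ 2 + 1 + t := by omega
  rw [h1]
  nlinarith [sq_nonneg t, Nat.zero_le (e ^ 2 * t)]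

/-- The crude step: once `|H : A| > 4 e² + 1`, `S(A) ⊆ T` gives `S([A,H]) ⊆ T`. -/
theorem crude_step {T : Finset (N → ℂ)} {d : (N → ℂ) → ℕ} (hT : MaxData H T d)
    (A : Subgroup N) [hA : A.Normal] (hAH : A ≤ H)
    (hbig : 4 * H.index ^ 2 + 1 < A.relIndex H)
    (hAT : Cfsg.inducedIrrAbove H A ⊆ ↑T) :
    Cfsg.inducedIrrAbove H ⁅A, H⁆ ⊆ ↑T := by
  have : (⁅A, H⁆ : Subgroup N).Normal := Subgroup.commutator_normal A H
  refine step H hT A ⁅A, H⁆ A (Subgroup.commutator_le_left A H) hAH ?_ hAT (arith_crude hbig)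
  intro x hx y hy
  have := Subgroup.commutator_mem_commutator hx hy
  rwa [commutatorElement_def] at this

/-- Iterating the crude step along the chain `A, [A,H], …`. -/
theorem crude_chain {T : Finset (N → ℂ)} {d : (N → ℂ) → ℕ} (hT : MaxData H T d)
    (A : Subgroup N) [hA : A.Normal] (hAH : A ≤ H)
    (hbig : 4 * H.index ^ 2 + 1 < A.relIndex H)
    (hAT : Cfsg.inducedIrrAbove H A ⊆ ↑T) (k : ℕ) :
    Cfsg.inducedIrrAbove H (chain H A k) ⊆ ↑T := by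
  induction k with
  | zero => exact hAT
  | succ j ih =>
    rw [chain_succ]
    have hn := chain_normal H A j
    have hle := chain_le H A j
    refine crude_step H hT (chain H A j) (hle.trans hAH) ?_ ih
    have hdvd : A.relIndex H ∣ (chain H A j).relIndex H := Subgroup.relIndex_dvd_of_le_left H hle
    have := Nat.le_of_dvd (Nat.pos_of_ne_zero (relIndex_ne_zero _ _)) hdvd
    omega

/-- For nilpotent `H` and `A ≤ [H,H]` with `|H : A| > 4 e² + 1`, `S(A) ⊆ T` forces `S(⊥) ⊆ T`. -/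
theorem all_of_big {T : Finset (N → ℂ)} {d : (N → ℂ) → ℕ} (hT : MaxData H T d)
    (hnil : Group.IsNilpotent H) (A : Subgroup N) [hA : A.Normal] (hAK : A ≤ ⁅H, H⁆)
    (hbig : 4 * H.index ^ 2 + 1 < A.relIndex H)
    (hAT : Cfsg.inducedIrrAbove H A ⊆ ↑T) :
    Cfsg.inducedIrrAbove H ⊥ ⊆ ↑T := by
  obtain ⟨k, hk⟩ := exists_chain_eq_bot H hnil A hAK
  have := crude_chain H hT A (hAK.trans (Subgroup.commutator_le_left H H)) hbig hAT k
  rwa [hk] at this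

end Cfsg.Agent.Lib.Helper31_FeitStep
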