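import Mathlib
import Cfsg.Prelude.Def_Characters
import Cfsg.Prelude.Def_OddOrderChar
import Cfsg.Agent.Lib.Helper31_FeitCoh
import Cfsg.Agent.Lib.Helper31_FeitFrob
import Cfsg.Agent.Lib.Helper31_FeitStep
import Cfsg.Agent.Lib.Helper16_CohCount
import Cfsg.Agent.Lib.Helper16_CohSub
import Cfsg.Agent.Lib.Helper16_CohIrr
import Cfsg.Agent.Lib.Helper25_FrobTI
import Cfsg.Agent.Lib.Helper17_CohSys
import Cfsg.Agent.Lib.Helper3_CharOrtho
import Cfsg.Agent.Lib.Helper3_CharBridge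

/-!
# Feit's coherence theorem for Frobenius groups (helper31)

`N` a Frobenius group with kernel `H` (in kernel form), `e = |N : H|`, `|H| ≠ e + 1`,
`S` the irreducible characters of `N` not containing `H` in their kernel, `τ` a linear isometry on
the integer combinations of `S` vanishing at `1`.  Then `S` is coherent unless `H` is a non-abelian
`p`-group with `|H : H'| ≤ 4 e² + 1` (`feit_frobenius`).
-/

set_option autoImplicit false

namespace Cfsg.Agent.Lib.Helper31_FeitMain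

open Cfsg.Agent.Lib.Helper3_CharOrtho Cfsg.Agent.Lib.Helper17_CohSys
  Cfsg.Agent.Lib.Helper31_FeitFrob Cfsg.Agent.Lib.Helper31_FeitStep
  Cfsg.Agent.Lib.Helper31_FeitCoh

section Chars

variable {N : Type*} [Group N] [Fintype N] (H : Subgroup N) [hH : H.Normal]

/-- Members of `S(⊥)` are irreducible. -/
theorem irr_of_mem (hC : ∀ h ∈ H, h ≠ 1 → Subgroup.centralizer ({h} : Set N) ≤ H)
    {χ : N → ℂ} (hχ : χ ∈ Cfsg.inducedIrrAbove H ⊥) : Cfsg.IsIrrCharacter N χ := by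
  obtain ⟨θ, hθ, hne, -, rfl⟩ := hχ
  exact Cfsg.Agent.Lib.Helper25_FrobTI.isIrrCharacter_indFun H (comm_form H hC)
    (coprime_card_index H hC) hθ hne

omit hH in
/-- No non-principal irreducible character of `H` has all of `H` in its kernel. -/
theorem inducedIrrAbove_self : Cfsg.inducedIrrAbove H H = ∅ := by
  classical
  rw [Set.eq_empty_iff_forall_notMem]
  rintro φ ⟨θ, hθ, hne, hker, -⟩
  have hfin : Finite H := Subtype.finite
  have h1 : θ 1 = 1 := by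
    apply Cfsg.Agent.Lib.Helper16_CohSub.irr_linear_of_commutator_le_ker hθ
    intro a b
    exact hker _ (Subtype.mem _)
  apply hne
  funext a
  rw [hker a a.2, h1]

/-- The set `S` of the statement is `S(⊥)`. -/
theorem S_eq (hC : ∀ h ∈ H, h ≠ 1 → Subgroup.centralizer ({h} : Set N) ≤ H) :
    {χ : N → ℂ | Cfsg.IsIrrCharacter N χ ∧ ∃ h ∈ H, χ h ≠ χ 1} = Cfsg.inducedIrrAbove H ⊥ := by
  have h1 := Cfsg.Agent.Lib.Helper16_CohIrr.diff_eq_irr H H le_rfl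
    (fun χ hχ => irr_of_mem H hC hχ.1)
  rw [inducedIrrAbove_self, Set.sdiff_empty] at h1
  exact h1.symm

/-- Counting: a finite set of irreducible characters of degree `e` containing `S(A)` has at least
two members as soon as `e + 1 < |H : A|`. -/
theorem two_le_card (A : Subgroup N) [A.Normal] (X : Finset (N → ℂ))
    (hX : Cfsg.inducedIrrAbove H A ⊆ ↑X) (hirr : ∀ ξ ∈ X, Cfsg.IsIrrCharacter N ξ)
    (hdeg : ∀ ξ ∈ X, ξ 1 = (H.index : ℂ)) (hlt : H.index + 1 < A.relIndex H) : 2 ≤ X.card := by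
  classical
  have hsb := Cfsg.Agent.Lib.Helper16_CohCount.sum_bound H A X hX (fun _ => H.index) (fun _ => 1)
    hdeg (fun φ hφ => by rw [classInner_self_of_isIrrCharacter (hirr φ hφ)]; simp)
    (fun _ _ => Nat.one_pos)
  have he0 : 0 < H.index := Nat.pos_of_ne_zero (Subgroup.index_ne_zero_of_finite (H := H))
  have h2 : ((H.index * (A.relIndex H - 1) : ℕ) : ℝ) ≤ ((X.card * H.index ^ 2 : ℕ) : ℝ) := by
    have hz1 : 1 ≤ A.relIndex H := by omega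
    push_cast [Nat.cast_sub hz1]
    calc (H.index : ℝ) * ((A.relIndex H : ℝ) - 1)
        ≤ ∑ φ ∈ X, ((H.index : ℕ) : ℝ) ^ 2 / ((1 : ℕ) : ℝ) := hsb
      _ = (X.card : ℝ) * (H.index : ℝ) ^ 2 := by simp
  have h3 : H.index * (A.relIndex H - 1) ≤ X.card * H.index ^ 2 := by exact_mod_cast h2
  have h4 : A.relIndex H - 1 ≤ X.card * H.index := by
    have : H.index * (A.relIndex H - 1) ≤ H.index * (X.card * H.index) := by
      calc H.index * (A.relIndex H - 1) ≤ X.card * H.index ^ 2 := h3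
        _ = H.index * (X.card * H.index) := by ring
    exact Nat.le_of_mul_le_mul_left this he0
  by_contra hcon
  have h5 : X.card ≤ 1 := by omega
  have h6 : X.card * H.index ≤ 1 * H.index := Nat.mul_le_mul_right _ h5
  omega

end Chars

section Main

variable {N : Type*} [Group N] [Fintype N] {G : Type*} [Group G] [Fintype G]
  (H : Subgroup N) [hH : H.Normal]

theorem arith_first {e z x : ℕ} (he1 : 1 ≤ e) (hz : (e + 1) * (2 * e + 1) ≤ z) (hx : 2 * x ≤ z) :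
    4 * e ^ 2 * x < (z - 1) ^ 2 := by
  obtain ⟨t, rfl⟩ : ∃ t, z = (e + 1) * (2 * e + 1) + t := ⟨z - (e + 1) * (2 * e + 1), by omega⟩
  have h1 : (e + 1) * (2 * e + 1) + t - 1 = 2 * e ^ 2 + 3 * e + t := by
    have : (e + 1) * (2 * e + 1) = 2 * e ^ 2 + 3 * e + 1 := by ring
    omega
  rw [h1]
  have h2 : 4 * e ^ 2 * x ≤ 2 * e ^ 2 * ((e + 1) * (2 * e + 1) + t) := by
    calc 4 * e ^ 2 * x = 2 * e ^ 2 * (2 * x) := by ring
      _ ≤ 2 * e ^ 2 * ((e + 1) * (2 * e + 1) + t) := Nat.mul_le_mul_left _ hx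
  have h3 : 2 * e ^ 2 * ((e + 1) * (2 * e + 1) + t) < (2 * e ^ 2 + 3 * e + t) ^ 2 := by
    nlinarith [sq_nonneg t, Nat.zero_le (e ^ 2 * t), Nat.zero_le (e * t), Nat.zero_le (e ^ 3),
      pow_pos (Nat.lt_of_lt_of_le Nat.zero_lt_one he1) 2,
      pow_pos (Nat.lt_of_lt_of_le Nat.zero_lt_one he1) 3]
  omega

/-- **Feit's coherence theorem for a Frobenius group** (kernel form, `S(⊥)` formulation). -/
theorem feit_frobenius (hH1 : H ≠ ⊥) (hH2 : H ≠ ⊤)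
    (hC : ∀ h ∈ H, h ≠ 1 → Subgroup.centralizer ({h} : Set N) ≤ H)
    (he : Nat.card H ≠ H.index + 1) (τ : (N → ℂ) → (G → ℂ))
    (hτ : Cfsg.IsLinearIsometryOn (Cfsg.zspanOn (Cfsg.inducedIrrAbove H ⊥) {1}ᶜ) τ)
    (hτ1 : ∀ α ∈ Cfsg.zspanOn (Cfsg.inducedIrrAbove H ⊥) {1}ᶜ, τ α 1 = 0) :
    Cfsg.IsCoherent (Cfsg.inducedIrrAbove H ⊥) {1}ᶜ τ ∨
      ∃ p : ℕ, p.Prime ∧ (∃ m : ℕ, Nat.card H = p ^ m) ∧ (⁅H, H⁆ : Subgroup N) ≠ ⊥ ∧
        (⁅H, H⁆ : Subgroup N).relIndex H ≤ 4 * H.index ^ 2 + 1 := by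
  classical
  by_cases hex : (∃ p m : ℕ, p.Prime ∧ Nat.card H = p ^ m) ∧ (⁅H, H⁆ : Subgroup N) ≠ ⊥ ∧
      (⁅H, H⁆ : Subgroup N).relIndex H ≤ 4 * H.index ^ 2 + 1
  · obtain ⟨⟨p, m, hp, hm⟩, h2, h3⟩ := hex
    exact Or.inr ⟨p, hp, ⟨m, hm⟩, h2, h3⟩
  left
  have hirrS : ∀ χ ∈ Cfsg.inducedIrrAbove H ⊥, Cfsg.IsIrrCharacter N χ :=
    fun χ hχ => irr_of_mem H hC hχ
  have hfin : (Cfsg.inducedIrrAbove H ⊥).Finite :=
    finite_of_orthogonal
      (fun x hx y hy h => classInner_of_isIrrCharacter_of_ne (hirrS x hx) (hirrS y hy) h)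
      (fun x hx => by rw [classInner_self_of_isIrrCharacter (hirrS x hx)]; exact one_ne_zero)
  set Sf : Finset (N → ℂ) := hfin.toFinset with hSfdef
  have hSf : (↑Sf : Set (N → ℂ)) = Cfsg.inducedIrrAbove H ⊥ := Set.Finite.coe_toFinset hfin
  have hSfmem : ∀ x, x ∈ Sf ↔ x ∈ Cfsg.inducedIrrAbove H ⊥ := fun x => Set.Finite.mem_toFinset hfin
  have hdex : ∀ φ : N → ℂ, ∃ k : ℕ, φ ∈ Cfsg.inducedIrrAbove H ⊥ → φ 1 = (k : ℂ) := by
    intro φ
    by_cases h : φ ∈ Cfsg.inducedIrrAbove H ⊥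
    · obtain ⟨k, hk⟩ := char_apply_one_nat
        (Cfsg.Agent.Lib.Helper3_CharBridge.isCharacter_of_isIrrCharacter (hirrS φ h))
      exact ⟨k, fun _ => hk⟩
    · exact ⟨0, fun h' => absurd h' h⟩
  choose d hd using hdex
  have hnil := isNilpotent_kernel H hC hH2
  have he0 : 0 < H.index := Nat.pos_of_ne_zero (Subgroup.index_ne_zero_of_finite (H := H))
  have he1 : H.index ≠ 1 := fun h => hH2 (Subgroup.index_eq_one.1 h)
  have hKn : (⁅H, H⁆ : Subgroup N).Normal := Subgroup.commutator_normal H H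
  have hKH : (⁅H, H⁆ : Subgroup N) ≤ H := Subgroup.commutator_le_left H H
  set z := (⁅H, H⁆ : Subgroup N).relIndex H with hz
  have hez : H.index ∣ z - 1 := index_dvd_relIndex_sub_one H hC H le_rfl
  have hz0 : z ≠ 0 := relIndex_ne_zero _ _
  have hz1 : z ≠ 1 := by
    intro h1
    rw [hz, relIndex_commutator, Subgroup.index_eq_one] at h1
    have : Nontrivial H := (Subgroup.nontrivial_iff_ne_bot H).2 hH1
    have hlt := Group.IsSolvable.commutator_lt_top_of_nontrivial H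
    rw [h1] at hlt
    exact lt_irrefl _ hlt
  -- `e + 1 < z` in every remaining case
  have hzbig : H.index + 1 < z := by
    by_cases hab : (⁅H, H⁆ : Subgroup N) = ⊥
    · have hzc : z = Nat.card H := by rw [hz, hab, Subgroup.relIndex_bot_left]
      obtain ⟨c, hc⟩ := hez
      have hc0 : c ≠ 0 := by rintro rfl; omega
      have hc1 : c ≠ 1 := by
        rintro rfl
        apply he
        rw [← hzc]
        omega
      have hc2 : 2 ≤ c := by omega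
      have : H.index * 2 ≤ H.index * c := Nat.mul_le_mul_left _ hc2
      omega
    · by_cases hpp : ∃ p m : ℕ, p.Prime ∧ Nat.card H = p ^ m
      · have h1 : ¬ z ≤ 4 * H.index ^ 2 + 1 := fun h => hex ⟨hpp, hab, h⟩
        have h2 : H.index ≤ H.index ^ 2 := by nlinarith
        omega
      · have h1 := relIndex_ge_of_not_prime_pow H hC hnil hpp
        have h2 : H.index + 1 < (H.index + 1) * (2 * H.index + 1) := by nlinarith
        omega
  -- the base set `S(H')`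
  have hfin₀ : (Cfsg.inducedIrrAbove H ⁅H, H⁆).Finite :=
    hfin.subset (inducedIrrAbove_mono H bot_le)
  set X₀ : Finset (N → ℂ) := hfin₀.toFinset with hX₀def
  have hX₀ : (↑X₀ : Set (N → ℂ)) = Cfsg.inducedIrrAbove H ⁅H, H⁆ := Set.Finite.coe_toFinset hfin₀
  have hX₀mem : ∀ x, x ∈ X₀ ↔ x ∈ Cfsg.inducedIrrAbove H ⁅H, H⁆ :=
    fun x => Set.Finite.mem_toFinset hfin₀
  have hX₀Sf : X₀ ⊆ Sf := fun x hx =>
    (hSfmem x).2 (inducedIrrAbove_mono H bot_le ((hX₀mem x).1 hx))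
  have hX₀irr : ∀ ξ ∈ X₀, Cfsg.IsIrrCharacter N ξ := fun ξ hξ => hirrS ξ ((hSfmem ξ).1 (hX₀Sf hξ))
  have hX₀deg : ∀ ξ ∈ X₀, ξ 1 = (H.index : ℂ) := fun ξ hξ =>
    Cfsg.Agent.Lib.Helper16_CohSub.deg_eq_index_of_commutator_le H ⁅H, H⁆ le_rfl ((hX₀mem ξ).1 hξ)
  have hX₀card : 2 ≤ X₀.card :=
    two_le_card H ⁅H, H⁆ X₀ (by rw [hX₀]) hX₀irr hX₀deg hzbig
  have hτSf : Cfsg.IsLinearIsometryOn (Cfsg.zspanOn (↑Sf : Set (N → ℂ)) {1}ᶜ) τ := by
    rw [hSf]; exact hτ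
  have hτ1Sf : ∀ α ∈ Cfsg.zspanOn (↑Sf : Set (N → ℂ)) {1}ᶜ, τ α 1 = 0 := by
    rw [hSf]; exact hτ1
  have hsub₀ : (↑X₀ : Set (N → ℂ)) ⊆ (↑Sf : Set (N → ℂ)) := fun x hx => hX₀Sf hx
  have hcoh₀ : Cfsg.IsCoherent (↑X₀ : Set (N → ℂ)) {1}ᶜ τ :=
    coherent_of_same_degree X₀ hX₀irr
      (fun ξ hξ ξ' hξ' => by rw [hX₀deg ξ hξ, hX₀deg ξ' hξ']) hX₀card τ
      (isometry_mono (zspanOn_mono hsub₀ _) hτSf)
      (fun α hα => hτ1Sf α (zspanOn_mono hsub₀ _ hα))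
  obtain ⟨T, hX₀T, hTSf, hTcoh, hTmax⟩ := exists_max_coherent Sf
    (fun ξ hξ => hirrS ξ ((hSfmem ξ).1 hξ)) d (fun ξ hξ => hd ξ ((hSfmem ξ).1 hξ)) τ hτSf hτ1Sf
    X₀ hX₀Sf hcoh₀
  have hT : MaxData H T d := by
    refine ⟨fun ξ hξ => hirrS ξ ((hSfmem ξ).1 (hTSf hξ)), hd,
      fun ξ hξ => (hSfmem ξ).1 (hTSf hξ),
      fun χ hχ hχT ψ hψ hdvd => hTmax χ ((hSfmem χ).2 hχ) hχT ψ hψ hdvd, ?_⟩
    obtain ⟨ψ₀, hψ₀⟩ := Finset.card_pos.1 (by omega : 0 < X₀.card)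
    refine ⟨ψ₀, hX₀T hψ₀, ?_⟩
    have h1 := hd ψ₀ ((hSfmem ψ₀).1 (hX₀Sf hψ₀))
    rw [hX₀deg ψ₀ hψ₀] at h1
    exact_mod_cast h1.symm
  have hKT : Cfsg.inducedIrrAbove H ⁅H, H⁆ ⊆ ↑T := by
    rw [← hX₀]
    exact fun x hx => hX₀T hx
  have hall : Cfsg.inducedIrrAbove H ⊥ ⊆ ↑T := by
    by_cases hab : (⁅H, H⁆ : Subgroup N) = ⊥
    · rw [hab] at hKT
      exact hKT
    · by_cases hpp : ∃ p m : ℕ, p.Prime ∧ Nat.card H = p ^ m
      · have hbig : 4 * H.index ^ 2 + 1 < z := by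
          by_contra h
          exact hex ⟨hpp, hab, by omega⟩
        exact all_of_big H hT hnil ⁅H, H⁆ le_rfl hbig hKT
      · have hzge := relIndex_ge_of_not_prime_pow H hC hnil hpp
        obtain ⟨B₁, D, hB₁n, hB₁K, hB₁D, hDH, hcent, hD2, hB₁2⟩ :=
          exists_first_step H hnil hpp hab
        have hB₁T : Cfsg.inducedIrrAbove H B₁ ⊆ ↑T :=
          step H hT ⁅H, H⁆ B₁ D hB₁D hDH hcent hKT (arith_first he0 hzge hD2)
        refine all_of_big H hT hnil B₁ hB₁K ?_ hB₁T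
        have h2 : 4 * H.index ^ 2 + 1 < 2 * ((H.index + 1) * (2 * H.index + 1)) := by nlinarith
        omega
  have hTeq : (↑T : Set (N → ℂ)) = Cfsg.inducedIrrAbove H ⊥ :=
    Set.Subset.antisymm (fun x hx => (hSfmem x).1 (hTSf hx)) hall
  rw [← hTeq]
  exact hTcoh

end Main

end Cfsg.Agent.Lib.Helper31_FeitMain
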