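import Mathlib
import Cfsg.Agent.Lib.Helper31_CALocal

/-!
# Local character theory of a TI subgroup with Frobenius normalizer, without commutativity
(helper31)

`K ≤ G` containing the centralizers of its nonidentity elements, `N = N_G(K)`, `e = |N : K|`.
The relevant characters `χ` of `N` (not constant on `K`) have degree `e * wt χ`.  This file
generalises `Helper31_CALocal` (where `K` is abelian and all weights are `1`): counts, column and
row sums with weights, and the values on `K` minus 1 of the irreducible characters of `G` in the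
presence of a weighted coherence relation
`Ind (wt ξ • χ - wt χ • ξ) = ε • (wt ξ • f χ - wt χ • f ξ)`.
-/

set_option autoImplicit false
set_option linter.unusedSectionVars false

namespace Cfsg.Agent.Lib.Helper31_PFLocal

open Subgroup Classical
open scoped ComplexConjugate
open Cfsg.Agent.Lib.Helper3_CharBridge Cfsg.Agent.Lib.Helper3_CharOrtho
  Cfsg.Agent.Lib.Helper3_CharComplete Cfsg.Agent.Lib.Helper3_CharColumn
  Cfsg.Agent.Lib.Helper75_CharArith Cfsg.Agent.Lib.Helper75_Induced
  Cfsg.Agent.Lib.Helper57_FrobNorm Cfsg.Agent.Lib.Helper57_FrobNorm2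
  Cfsg.Agent.Lib.Helper31_CALocal

variable {G : Type*} [Group G] [Fintype G]

section basic

variable (K : Subgroup G) (hC : ∀ k ∈ K, k ≠ 1 → centralizer ({k} : Set G) ≤ K)
  [Fintype ↥(normalizer (K : Set G))]

include hC in
/-- Relevant characters vanish off `K`. -/
theorem rel_vanish (χ : Rel K) (x : normalizer (K : Set G)) (hx : (x : G) ∉ K) :
    (χ.1 : ↥(normalizer (K : Set G)) → ℂ) x = 0 :=
  vanish_off (AK K) (hFA K hC) χ.1.2 ((isRel_iff K χ.1).mp χ.2)
    (fun h => hx (Subgroup.mem_subgroupOf.mp h))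

/-- The weight of a relevant character: its degree divided by `|N : K|`. -/
noncomputable def wt (χ : Rel K) : ℕ :=
  Classical.choose (irr_one_eq_natCast χ.1.2) / (AK K).index

include hC in
theorem wt_spec (χ : Rel K) :
    (χ.1 : ↥(normalizer (K : Set G)) → ℂ) 1 = ((AK K).index : ℂ) * (wt K χ : ℂ) ∧ 0 < wt K χ := by
  obtain ⟨hn0, hn⟩ := Classical.choose_spec (irr_one_eq_natCast χ.1.2)
  have hdvd := index_dvd_degree (AK K) (hFA K hC) χ.1.2 ((isRel_iff K χ.1).mp χ.2) hn
  have he0 : 0 < (AK K).index := Nat.pos_of_ne_zero Subgroup.index_ne_zero_of_finite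
  constructor
  · rw [hn]
    unfold wt
    rw [← Nat.cast_mul, Nat.mul_div_cancel' hdvd]
  · unfold wt
    exact Nat.div_pos (Nat.le_of_dvd hn0 hdvd) he0

include hC in
theorem rel_deg (χ : Rel K) :
    (χ.1 : ↥(normalizer (K : Set G)) → ℂ) 1 = ((AK K).index : ℂ) * (wt K χ : ℂ) :=
  (wt_spec K hC χ).1

include hC in
theorem wt_pos (χ : Rel K) : 0 < wt K χ := (wt_spec K hC χ).2

/-- The sum of the squares of the weights. -/
noncomputable def tW : ℕ := ∑ χ : Rel K, (wt K χ) ^ 2

include hC in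
/-- `(∑ wt²) e + 1 = |K|`. -/
theorem rel_sum_sq : tW K * (AK K).index + 1 = Nat.card K := by
  have h1 := sum_sq_irr_one (G := normalizer (K : Set G))
  rw [sum_split K (fun φ => (φ : ↥(normalizer (K : Set G)) → ℂ) 1 ^ 2)] at h1
  have h2 : ∑ φ : Cfsg.IrrCharacter (normalizer (K : Set G)),
      (if (∃ k ∈ AK K, (φ : ↥(normalizer (K : Set G)) → ℂ) k ≠
        (φ : ↥(normalizer (K : Set G)) → ℂ) 1) then 0
        else (φ : ↥(normalizer (K : Set G)) → ℂ) 1 ^ 2) = ((AK K).index : ℂ) := by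
    rw [← sum_nonrel_sq K hC]
    refine Finset.sum_congr rfl (fun φ _ => ?_)
    rw [sq]
  rw [h2] at h1
  have h3 : ∑ χ : Rel K, (χ.1 : ↥(normalizer (K : Set G)) → ℂ) 1 ^ 2 =
      (tW K : ℂ) * ((AK K).index : ℂ) ^ 2 := by
    unfold tW
    push_cast
    rw [Finset.sum_mul]
    refine Finset.sum_congr rfl (fun χ _ => ?_)
    rw [rel_deg K hC χ]
    ring
  rw [h3, card_normalizer K] at h1
  have hpos : 0 < (AK K).index := Nat.pos_of_ne_zero Subgroup.index_ne_zero_of_finite
  have h4 : (tW K * (AK K).index + 1) * (AK K).index = Nat.card K * (AK K).index := by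
    have : ((tW K * (AK K).index + 1) * (AK K).index : ℂ) = (Nat.card K * (AK K).index : ℂ) := by
      push_cast at h1 ⊢
      linear_combination h1
    exact_mod_cast this
  exact Nat.eq_of_mul_eq_mul_right hpos h4

include hC in
/-- The centralizer in `N` of a nonidentity element of `K` has the order of its centralizer in
`G`. -/
theorem card_centralizer_eq {x : G} (hx : x ∈ K) (hx1 : x ≠ 1) :
    Nat.card (centralizer ({(⟨x, le_normalizer hx⟩ : normalizer (K : Set G))} :
      Set (normalizer (K : Set G)))) = Nat.card (centralizer ({x} : Set G)) := by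
  refine Nat.card_congr (Equiv.ofBijective (fun m => ⟨((m : normalizer (K : Set G)) : G), ?_⟩)
    ⟨?_, ?_⟩)
  · have := mem_centralizer_singleton_iff.mp m.2
    rw [mem_centralizer_singleton_iff]
    exact congrArg Subtype.val this
  · intro a b hab
    have : ((a : normalizer (K : Set G)) : G) = ((b : normalizer (K : Set G)) : G) := by
      have := congrArg Subtype.val hab
      simpa using this
    exact Subtype.ext (Subtype.ext this)
  · intro g
    have hgK : (g : G) ∈ K := hC x hx hx1 g.2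
    refine ⟨⟨⟨g, le_normalizer hgK⟩, ?_⟩, Subtype.ext rfl⟩
    rw [mem_centralizer_singleton_iff]
    apply Subtype.ext
    exact mem_centralizer_singleton_iff.mp g.2

include hC in
/-- Column sums of the relevant characters at a nonidentity element of `K`. -/
theorem rel_col {x : G} (hx : x ∈ K) (hx1 : x ≠ 1) :
    ∑ χ : Rel K, (wt K χ : ℂ) * Cfsg.extendByZero (normalizer (K : Set G))
      (χ.1 : ↥(normalizer (K : Set G)) → ℂ) x = -1 ∧
    ∑ χ : Rel K, Cfsg.extendByZero (normalizer (K : Set G))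
      (χ.1 : ↥(normalizer (K : Set G)) → ℂ) x *
      conj (Cfsg.extendByZero (normalizer (K : Set G))
        (χ.1 : ↥(normalizer (K : Set G)) → ℂ) x) =
      (Nat.card (centralizer ({x} : Set G)) : ℂ) - ((AK K).index : ℂ) := by
  have hxN : x ∈ normalizer (K : Set G) := le_normalizer hx
  set x' : normalizer (K : Set G) := ⟨x, hxN⟩ with hx'
  have hx'A : x' ∈ AK K := Subgroup.mem_subgroupOf.mpr hx
  have hx'1 : x' ≠ 1 := fun h => hx1 (congrArg Subtype.val h)
  have hext : ∀ χ : Rel K, Cfsg.extendByZero (normalizer (K : Set G))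
      (χ.1 : ↥(normalizer (K : Set G)) → ℂ) x = (χ.1 : ↥(normalizer (K : Set G)) → ℂ) x' :=
    fun χ => extendByZero_of_mem _ _ hxN
  simp_rw [hext]
  have hnon : ∀ φ : Cfsg.IrrCharacter (normalizer (K : Set G)),
      ¬ (∃ k ∈ AK K, (φ : ↥(normalizer (K : Set G)) → ℂ) k ≠
        (φ : ↥(normalizer (K : Set G)) → ℂ) 1) →
      (φ : ↥(normalizer (K : Set G)) → ℂ) x' = (φ : ↥(normalizer (K : Set G)) → ℂ) 1 := by
    intro φ h
    by_contra h2
    exact h ⟨x', hx'A, h2⟩
  have he0 : ((AK K).index : ℂ) ≠ 0 := by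
    rw [Nat.cast_ne_zero]; exact Subgroup.index_ne_zero_of_finite
  constructor
  · have h1 := sum_irr_one_mul_eq_zero (G := normalizer (K : Set G)) hx'1
    rw [sum_split K (fun φ => (φ : ↥(normalizer (K : Set G)) → ℂ) 1 *
      (φ : ↥(normalizer (K : Set G)) → ℂ) x')] at h1
    have h2 : ∑ φ : Cfsg.IrrCharacter (normalizer (K : Set G)),
        (if (∃ k ∈ AK K, (φ : ↥(normalizer (K : Set G)) → ℂ) k ≠
          (φ : ↥(normalizer (K : Set G)) → ℂ) 1) then 0
          else (φ : ↥(normalizer (K : Set G)) → ℂ) 1 *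
            (φ : ↥(normalizer (K : Set G)) → ℂ) x') = ((AK K).index : ℂ) := by
      rw [← sum_nonrel_sq K hC]
      refine Finset.sum_congr rfl (fun φ _ => ?_)
      split_ifs with h
      · rfl
      · rw [hnon φ h]
    rw [h2] at h1
    have h3 : ∑ χ : Rel K, (χ.1 : ↥(normalizer (K : Set G)) → ℂ) 1 *
        (χ.1 : ↥(normalizer (K : Set G)) → ℂ) x' =
        ((AK K).index : ℂ) * ∑ χ : Rel K, (wt K χ : ℂ) *
          (χ.1 : ↥(normalizer (K : Set G)) → ℂ) x' := by
      rw [Finset.mul_sum]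
      refine Finset.sum_congr rfl (fun χ _ => ?_)
      rw [rel_deg K hC χ]
      ring
    rw [h3] at h1
    have h4 : ((AK K).index : ℂ) *
        (∑ χ : Rel K, (wt K χ : ℂ) * (χ.1 : ↥(normalizer (K : Set G)) → ℂ) x' + 1) = 0 := by
      linear_combination h1
    rcases mul_eq_zero.mp h4 with h5 | h5
    · exact absurd h5 he0
    · linear_combination h5
  · have h1 := column_orthogonality_self (G := normalizer (K : Set G)) x'
    rw [card_centralizer_eq K hC hx hx1] at h1
    rw [sum_split K (fun φ => (φ : ↥(normalizer (K : Set G)) → ℂ) x' *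
      conj ((φ : ↥(normalizer (K : Set G)) → ℂ) x'))] at h1
    have h2 : ∑ φ : Cfsg.IrrCharacter (normalizer (K : Set G)),
        (if (∃ k ∈ AK K, (φ : ↥(normalizer (K : Set G)) → ℂ) k ≠
          (φ : ↥(normalizer (K : Set G)) → ℂ) 1) then 0
          else (φ : ↥(normalizer (K : Set G)) → ℂ) x' *
            conj ((φ : ↥(normalizer (K : Set G)) → ℂ) x')) = ((AK K).index : ℂ) := by
      rw [← sum_nonrel_sq K hC]
      refine Finset.sum_congr rfl (fun φ _ => ?_)
      split_ifs with h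
      · rfl
      · rw [hnon φ h]
        obtain ⟨n, -, hn⟩ := irr_one_eq_natCast φ.2
        rw [hn, Complex.conj_natCast]
    rw [h2] at h1
    linear_combination h1

include hC in
theorem ext_vanish (χ : Rel K) (x : G) (hx : x ∉ K) :
    Cfsg.extendByZero (normalizer (K : Set G)) (χ.1 : ↥(normalizer (K : Set G)) → ℂ) x = 0 := by
  by_cases hxN : x ∈ normalizer (K : Set G)
  · rw [extendByZero_of_mem _ _ hxN]
    exact rel_vanish K hC χ ⟨x, hxN⟩ hx
  · exact extendByZero_of_not_mem _ _ hxN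

include hC in
theorem ext_one (χ : Rel K) :
    Cfsg.extendByZero (normalizer (K : Set G)) (χ.1 : ↥(normalizer (K : Set G)) → ℂ) 1 =
      ((AK K).index : ℂ) * (wt K χ : ℂ) := by
  rw [extendByZero_of_mem _ _ (one_mem _)]
  exact rel_deg K hC χ

include hC in
/-- Row sums of a relevant character over the nonidentity elements of `K`. -/
theorem rel_row (χ : Rel K) :
    kSum K (Cfsg.extendByZero (normalizer (K : Set G))
      (χ.1 : ↥(normalizer (K : Set G)) → ℂ)) = -(((AK K).index : ℂ) * (wt K χ : ℂ)) ∧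
    kSum K (fun x => Cfsg.extendByZero (normalizer (K : Set G))
      (χ.1 : ↥(normalizer (K : Set G)) → ℂ) x *
      conj (Cfsg.extendByZero (normalizer (K : Set G))
        (χ.1 : ↥(normalizer (K : Set G)) → ℂ) x)) =
      (Nat.card K : ℂ) * ((AK K).index : ℂ) - (((AK K).index : ℂ) * (wt K χ : ℂ)) ^ 2 := by
  constructor
  · have h1 := sum_eq_kSum K _ (ext_vanish K hC χ)
    rw [sum_extendByZero, ext_one K hC χ] at h1
    have h2 : ∑ x : normalizer (K : Set G), (χ.1 : ↥(normalizer (K : Set G)) → ℂ) x = 0 := by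
      apply sum_irr_eq_zero_of_ne_one χ.1.2
      intro h
      obtain ⟨k, -, hk1⟩ := χ.2
      apply hk1
      rw [h]
    rw [h2] at h1
    linear_combination -h1
  · have h1 := sum_eq_kSum K (fun x => Cfsg.extendByZero (normalizer (K : Set G))
      (χ.1 : ↥(normalizer (K : Set G)) → ℂ) x *
      conj (Cfsg.extendByZero (normalizer (K : Set G))
        (χ.1 : ↥(normalizer (K : Set G)) → ℂ) x)) (by
        intro x hx
        simp only [ext_vanish K hC χ x hx, zero_mul])
    rw [sum_extendByZero_mul (normalizer (K : Set G)) (χ.1 : ↥(normalizer (K : Set G)) → ℂ)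
      (fun x => conj (Cfsg.extendByZero (normalizer (K : Set G))
        (χ.1 : ↥(normalizer (K : Set G)) → ℂ) x))] at h1
    simp only [extendByZero_coe, ext_one K hC χ] at h1
    have h2 := classInner_self_of_isIrrCharacter χ.1.2
    unfold Cfsg.classInner at h2
    have hN0 : (Nat.card (normalizer (K : Set G)) : ℂ) ≠ 0 := by
      rw [Nat.cast_ne_zero]; exact Nat.card_pos.ne'
    have h3 : ∑ g : normalizer (K : Set G), (χ.1 : ↥(normalizer (K : Set G)) → ℂ) g *
        conj ((χ.1 : ↥(normalizer (K : Set G)) → ℂ) g) =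
        (Nat.card (normalizer (K : Set G)) : ℂ) := by
      field_simp at h2
      exact h2
    rw [h3, card_normalizer K] at h1
    simp only [map_mul, Complex.conj_natCast] at h1
    push_cast at h1
    linear_combination -h1

include hC in
/-- A complex number all of whose multiples by the weights are integers is an integer. -/
theorem int_of_mul_wt (q : ℂ) (hne : Nonempty (Rel K))
    (hq : ∀ χ : Rel K, ∃ w : ℤ, q * (wt K χ : ℂ) = w) : ∃ w : ℤ, q = w := by
  obtain ⟨φ₀⟩ := hne
  refine int_of_mul_degree_int (AK K) (hFA K hC) q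
    ⟨_, φ₀.1.2, (isRel_iff K φ₀.1).mp φ₀.2⟩ ?_
  intro χ hχ hk n hn
  have hrel : IsRel K ⟨χ, hχ⟩ := (isRel_iff K ⟨χ, hχ⟩).mpr hk
  obtain ⟨w, hw⟩ := hq ⟨⟨χ, hχ⟩, hrel⟩
  refine ⟨w, ?_⟩
  have h1 := rel_deg K hC ⟨⟨χ, hχ⟩, hrel⟩
  simp only at h1
  rw [hn] at h1
  have he0 : ((AK K).index : ℂ) ≠ 0 := by
    rw [Nat.cast_ne_zero]; exact Subgroup.index_ne_zero_of_finite
  have h2 : (n : ℂ) = (wt K ⟨⟨χ, hχ⟩, hrel⟩ : ℂ) := mul_left_cancel₀ he0 h1
  rw [h2, hw]

include hC in
/-- A generalized character of `N` whose multiplicities on the relevant characters are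
proportional to the weights is a constant integer on `K` minus 1. -/
theorem const_on_kernel (F : ↥(normalizer (K : Set G)) → ℂ)
    (hF : Cfsg.IsGeneralizedCharacter ↥(normalizer (K : Set G)) F)
    (hconst : ∀ φ φ' : Rel K,
      Cfsg.classInner F (φ.1 : ↥(normalizer (K : Set G)) → ℂ) * (wt K φ' : ℂ) =
      Cfsg.classInner F (φ'.1 : ↥(normalizer (K : Set G)) → ℂ) * (wt K φ : ℂ)) :
    ∃ z : ℤ, ∀ x : normalizer (K : Set G), x ∈ AK K → x ≠ 1 → F x = z := by
  have hFc := isClassFunction_of_isGeneralizedCharacter hF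
  have hint : ∀ φ : Cfsg.IrrCharacter (normalizer (K : Set G)), ∃ n : ℤ,
      Cfsg.classInner F (φ : ↥(normalizer (K : Set G)) → ℂ) = n := fun φ =>
    classInner_genChar_int hF (isCharacter_of_isIrrCharacter φ.2)
  choose n hn using hint
  have hdeg : ∀ φ : Cfsg.IrrCharacter (normalizer (K : Set G)), ∃ d : ℕ,
      (φ : ↥(normalizer (K : Set G)) → ℂ) 1 = d := fun φ => by
    obtain ⟨d, -, hd⟩ := irr_one_eq_natCast φ.2
    exact ⟨d, hd⟩
  choose d hd using hdeg
  have he0 : ((AK K).index : ℂ) ≠ 0 := by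
    rw [Nat.cast_ne_zero]; exact Subgroup.index_ne_zero_of_finite
  by_cases hne : Nonempty (Rel K)
  · obtain ⟨φ₀⟩ := hne
    have hw0 : (wt K φ₀ : ℂ) ≠ 0 := by
      rw [Nat.cast_ne_zero]; exact (wt_pos K hC φ₀).ne'
    set q : ℂ := (n φ₀.1 : ℂ) / (wt K φ₀ : ℂ) with hq
    have hqw : ∀ φ : Rel K, q * (wt K φ : ℂ) = (n φ.1 : ℂ) := by
      intro φ
      have h1 := hconst φ φ₀
      rw [hn φ.1, hn φ₀.1] at h1
      rw [hq]
      field_simp
      linear_combination -h1
    obtain ⟨w, hw⟩ := int_of_mul_wt K hC q ⟨φ₀⟩ (fun φ => ⟨n φ.1, hqw φ⟩)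
    have hc : ∀ φ : Cfsg.IrrCharacter (normalizer (K : Set G)),
        (∃ k ∈ AK K, (φ : ↥(normalizer (K : Set G)) → ℂ) k ≠
          (φ : ↥(normalizer (K : Set G)) → ℂ) 1) →
        Cfsg.classInner F (φ : ↥(normalizer (K : Set G)) → ℂ) =
          (q / ((AK K).index : ℂ)) * (φ : ↥(normalizer (K : Set G)) → ℂ) 1 := by
      intro φ hφ
      have hφ' : IsRel K φ := (isRel_iff K φ).mpr hφ
      have h2 := rel_deg K hC ⟨φ, hφ'⟩
      simp only at h2
      rw [h2, hn φ, ← hqw ⟨φ, hφ'⟩]
      field_simp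
    refine ⟨∑ φ : Cfsg.IrrCharacter (normalizer (K : Set G)),
      (if (∃ k ∈ AK K, (φ : ↥(normalizer (K : Set G)) → ℂ) k ≠
        (φ : ↥(normalizer (K : Set G)) → ℂ) 1) then 0 else n φ * d φ) - w, ?_⟩
    intro x hx hx1
    rw [eval_on_kernel (AK K) (hFA K hC) F hFc _ hc hx hx1]
    push_cast
    congr 1
    · refine Finset.sum_congr rfl (fun φ _ => ?_)
      split_ifs
      · rfl
      · rw [hn φ, hd φ]
    · rw [← hw]
      field_simp
  · have hc : ∀ φ : Cfsg.IrrCharacter (normalizer (K : Set G)),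
        (∃ k ∈ AK K, (φ : ↥(normalizer (K : Set G)) → ℂ) k ≠
          (φ : ↥(normalizer (K : Set G)) → ℂ) 1) →
        Cfsg.classInner F (φ : ↥(normalizer (K : Set G)) → ℂ) =
          (0 : ℂ) * (φ : ↥(normalizer (K : Set G)) → ℂ) 1 := by
      intro φ hφ
      exact absurd ⟨⟨φ, (isRel_iff K φ).mpr hφ⟩⟩ hne
    refine ⟨∑ φ : Cfsg.IrrCharacter (normalizer (K : Set G)),
      (if (∃ k ∈ AK K, (φ : ↥(normalizer (K : Set G)) → ℂ) k ≠
        (φ : ↥(normalizer (K : Set G)) → ℂ) 1) then 0 else n φ * d φ), ?_⟩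
    intro x hx hx1
    rw [eval_on_kernel (AK K) (hFA K hC) F hFc _ hc hx hx1]
    push_cast
    rw [zero_mul, sub_zero]
    refine Finset.sum_congr rfl (fun φ _ => ?_)
    split_ifs
    · rfl
    · rw [hn φ, hd φ]

end basic

/-! ### Values of the irreducible characters of `G` on `K` minus 1 -/

section values

variable (K : Subgroup G)
  (hTI : ∀ g : G, g ∉ normalizer (K : Set G) → ∀ k ∈ K, g * k * g⁻¹ ∈ K → k = 1)
  (hC : ∀ k ∈ K, k ≠ 1 → centralizer ({k} : Set G) ≤ K)
  [Fintype ↥(normalizer (K : Set G))]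
  (ε : ℂ) (f : Rel K → Cfsg.IrrCharacter G)
  (hind : ∀ χ ξ : Rel K, Cfsg.indFun (normalizer (K : Set G))
    ((wt K ξ : ℂ) • (χ.1 : ↥(normalizer (K : Set G)) → ℂ) -
      (wt K χ : ℂ) • (ξ.1 : ↥(normalizer (K : Set G)) → ℂ)) =
    ε • ((wt K ξ : ℂ) • (f χ : G → ℂ) - (wt K χ : ℂ) • (f ξ : G → ℂ)))

include hind in
theorem inner_res_diff (θ : Cfsg.IrrCharacter G) (φ φ' : Rel K) :
    (wt K φ' : ℂ) * Cfsg.classInner (φ.1 : ↥(normalizer (K : Set G)) → ℂ)
        (fun x : normalizer (K : Set G) => (θ : G → ℂ) x) -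
      (wt K φ : ℂ) * Cfsg.classInner (φ'.1 : ↥(normalizer (K : Set G)) → ℂ)
        (fun x : normalizer (K : Set G) => (θ : G → ℂ) x) =
      ε * ((wt K φ' : ℂ) * (if (f φ : G → ℂ) = (θ : G → ℂ) then 1 else 0) -
        (wt K φ : ℂ) * (if (f φ' : G → ℂ) = (θ : G → ℂ) then 1 else 0)) := by
  have hcf := isClassFunction_of_isIrrCharacter θ.2
  have h1 := congrArg (fun F => Cfsg.classInner F (θ : G → ℂ)) (hind φ φ')
  beta_reduce at h1
  rw [frobenius_reciprocity _ _ _ hcf, classInner_sub_left, classInner_smul_left,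
    classInner_smul_left, classInner_smul_left, classInner_sub_left, classInner_smul_left,
    classInner_smul_left, classInner_irr (f φ).2 θ.2, classInner_irr (f φ').2 θ.2] at h1
  exact h1

include hC hind in
/-- An irreducible character of `G` outside the exceptional family is a constant integer on
`K` minus 1. -/
theorem val_of_not_range (θ : Cfsg.IrrCharacter G) (hθ : ∀ χ : Rel K, f χ ≠ θ) :
    ∃ z : ℤ, ∀ x ∈ K, x ≠ 1 → (θ : G → ℂ) x = z := by
  have hF : Cfsg.IsGeneralizedCharacter ↥(normalizer (K : Set G))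
      (fun x : normalizer (K : Set G) => (θ : G → ℂ) x) :=
    ⟨_, 0, isCharacter_restrict _ (isCharacter_of_isIrrCharacter θ.2), isCharacter_zero,
      by simp⟩
  obtain ⟨z, hz⟩ := const_on_kernel K hC _ hF (by
    intro φ φ'
    have h1 := inner_res_diff K ε f hind θ φ' φ
    rw [if_neg (fun h => hθ φ (Subtype.ext h)), if_neg (fun h => hθ φ' (Subtype.ext h)),
      mul_zero, mul_zero, sub_self, mul_zero] at h1
    have h2 := congrArg conj h1
    rw [map_sub, map_mul, map_mul, classInner_conj_symm, classInner_conj_symm,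
      Complex.conj_natCast, Complex.conj_natCast, map_zero] at h2
    linear_combination -h2)
  refine ⟨z, fun x hx hx1 => ?_⟩
  have := hz ⟨x, le_normalizer hx⟩ (Subgroup.mem_subgroupOf.mpr hx)
    (fun h => hx1 (congrArg Subtype.val h))
  exact this

include hTI hC hind in
/-- The exceptional characters restricted to `K` minus 1: `ε χ` plus `wt χ` times a constant
integer. -/
theorem val_of_range (hε : ε = 1 ∨ ε = -1) (hinj : Function.Injective f) :
    ∃ z : ℤ, ∀ χ : Rel K, ∀ x ∈ K, x ≠ 1 → (f χ : G → ℂ) x =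
      ε * Cfsg.extendByZero (normalizer (K : Set G)) (χ.1 : ↥(normalizer (K : Set G)) → ℂ) x
        + (wt K χ : ℂ) * z := by
  by_cases hne : Nonempty (Rel K)
  swap
  · exact ⟨0, fun χ => absurd ⟨χ⟩ hne⟩
  have hεconj : conj ε = ε := by
    rcases hε with h | h <;> simp [h]
  have hεε : ε * ε = 1 := by
    rcases hε with h | h <;> simp [h]
  -- for every `χ` the function `f χ - ε χ` is a constant integer on `K` minus 1
  have hconst : ∀ χ : Rel K, ∃ z : ℤ, ∀ x : normalizer (K : Set G), x ∈ AK K → x ≠ 1 →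
      (f χ : G → ℂ) x - ε * (χ.1 : ↥(normalizer (K : Set G)) → ℂ) x = z := by
    intro χ₀
    set R : ↥(normalizer (K : Set G)) → ℂ :=
      fun x : normalizer (K : Set G) => (f χ₀ : G → ℂ) x with hR
    have hRchar : Cfsg.IsCharacter ↥(normalizer (K : Set G)) R :=
      isCharacter_restrict _ (isCharacter_of_isIrrCharacter (f χ₀).2)
    have hχ₀char : Cfsg.IsCharacter ↥(normalizer (K : Set G))
        (χ₀.1 : ↥(normalizer (K : Set G)) → ℂ) := isCharacter_of_isIrrCharacter χ₀.1.2
    have hF : Cfsg.IsGeneralizedCharacter ↥(normalizer (K : Set G))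
        (R - ε • (χ₀.1 : ↥(normalizer (K : Set G)) → ℂ)) := by
      rcases hε with h | h
      · exact ⟨R, _, hRchar, hχ₀char, by rw [h, one_smul]⟩
      · refine ⟨R + (χ₀.1 : ↥(normalizer (K : Set G)) → ℂ), 0, isCharacter_add hRchar hχ₀char,
          isCharacter_zero, ?_⟩
        rw [h]
        funext x
        simp
    have hδ : ∀ φ : Rel K, (if (f φ : G → ℂ) = (f χ₀ : G → ℂ) then (1 : ℂ) else 0) =
        (if (χ₀.1 : ↥(normalizer (K : Set G)) → ℂ) = (φ.1 : ↥(normalizer (K : Set G)) → ℂ)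
          then 1 else 0) := by
      intro φ
      by_cases h : φ = χ₀
      · subst h
        rw [if_pos rfl, if_pos rfl]
      · rw [if_neg, if_neg]
        · intro h2
          exact h (Subtype.ext (Subtype.ext h2)).symm
        · intro h2
          exact h (hinj (Subtype.ext h2))
    obtain ⟨z, hz⟩ := const_on_kernel K hC _ hF (by
      intro φ φ'
      have h1 := inner_res_diff K ε f hind (f χ₀) φ' φ
      have h2 := congrArg conj h1
      rw [map_sub, map_mul, map_mul, classInner_conj_symm, classInner_conj_symm,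
        Complex.conj_natCast, Complex.conj_natCast, map_mul, hεconj, map_sub, map_mul, map_mul,
        Complex.conj_natCast, Complex.conj_natCast] at h2
      simp only [apply_ite conj, map_one, map_zero] at h2
      rw [hδ φ, hδ φ'] at h2
      rw [classInner_sub_left, classInner_sub_left, classInner_smul_left, classInner_smul_left,
        classInner_irr χ₀.1.2 φ.1.2, classInner_irr χ₀.1.2 φ'.1.2]
      linear_combination -h2)
    refine ⟨z, fun x hx hx1 => ?_⟩
    have := hz x hx hx1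
    simpa [hR] using this
  choose zz hzz using hconst
  obtain ⟨χ₀⟩ := hne
  have hw0 : (wt K χ₀ : ℂ) ≠ 0 := by
    rw [Nat.cast_ne_zero]; exact (wt_pos K hC χ₀).ne'
  -- a nonidentity element, if any
  by_cases hK1 : ∃ x ∈ K, x ≠ 1
  swap
  · exact ⟨0, fun χ x hx hx1 => absurd ⟨x, hx, hx1⟩ hK1⟩
  obtain ⟨x₀, hx₀, hx₀1⟩ := hK1
  have hxN₀ : x₀ ∈ normalizer (K : Set G) := le_normalizer hx₀
  -- the proportionality `wt ξ * zz χ = wt χ * zz ξ`
  have hprop : ∀ χ ξ : Rel K, (wt K ξ : ℂ) * (zz χ : ℂ) = (wt K χ : ℂ) * (zz ξ : ℂ) := by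
    intro χ ξ
    set x' : normalizer (K : Set G) := ⟨x₀, hxN₀⟩ with hx'
    have hx'1 : x' ≠ 1 := fun h => hx₀1 (congrArg Subtype.val h)
    have hx'A : x' ∈ AK K := Subgroup.mem_subgroupOf.mpr hx₀
    have hψ : Cfsg.IsClassFunction ↥(normalizer (K : Set G))
        ((wt K ξ : ℂ) • (χ.1 : ↥(normalizer (K : Set G)) → ℂ) -
          (wt K χ : ℂ) • (ξ.1 : ↥(normalizer (K : Set G)) → ℂ)) := by
      intro a b
      simp only [Pi.sub_apply, Pi.smul_apply, smul_eq_mul]
      rw [isClassFunction_of_isIrrCharacter χ.1.2 a b, isClassFunction_of_isIrrCharacter ξ.1.2 a b]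
    have hψT : ∀ y : normalizer (K : Set G), (y : G) ∉ (K : Set G) →
        ((wt K ξ : ℂ) • (χ.1 : ↥(normalizer (K : Set G)) → ℂ) -
          (wt K χ : ℂ) • (ξ.1 : ↥(normalizer (K : Set G)) → ℂ)) y = 0 := by
      intro y hy
      simp only [Pi.sub_apply, Pi.smul_apply, smul_eq_mul]
      rw [rel_vanish K hC χ y hy, rel_vanish K hC ξ y hy, mul_zero, mul_zero, sub_zero]
    have h3 := Cfsg.Agent.Lib.Helper75_TISubset.indFun_eq_of_TI (K : Set G) hTI _ hψ hψT x' hx₀
      hx'1
    rw [hind χ ξ] at h3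
    simp only [Pi.smul_apply, Pi.sub_apply, smul_eq_mul] at h3
    have e1 := hzz χ x' hx'A hx'1
    have e2 := hzz ξ x' hx'A hx'1
    have h4 : (wt K ξ : ℂ) * (f χ : G → ℂ) x₀ - (wt K χ : ℂ) * (f ξ : G → ℂ) x₀ =
        ε * ((wt K ξ : ℂ) * (χ.1 : ↥(normalizer (K : Set G)) → ℂ) x' -
          (wt K χ : ℂ) * (ξ.1 : ↥(normalizer (K : Set G)) → ℂ) x') := by
      have : (wt K ξ : ℂ) * (f χ : G → ℂ) x₀ - (wt K χ : ℂ) * (f ξ : G → ℂ) x₀ =
          (ε * ε) * ((wt K ξ : ℂ) * (f χ : G → ℂ) x₀ - (wt K χ : ℂ) * (f ξ : G → ℂ) x₀) := by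
        rw [hεε, one_mul]
      rw [this, mul_assoc]
      congr 1
    have e1' : (f χ : G → ℂ) x₀ = ε * (χ.1 : ↥(normalizer (K : Set G)) → ℂ) x' + zz χ := by
      linear_combination e1
    have e2' : (f ξ : G → ℂ) x₀ = ε * (ξ.1 : ↥(normalizer (K : Set G)) → ℂ) x' + zz ξ := by
      linear_combination e2
    rw [e1', e2'] at h4
    linear_combination h4
  -- the common ratio is an integer
  set q : ℂ := (zz χ₀ : ℂ) / (wt K χ₀ : ℂ) with hq
  have hqw : ∀ χ : Rel K, q * (wt K χ : ℂ) = (zz χ : ℂ) := by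
    intro χ
    have := hprop χ χ₀
    rw [hq]
    field_simp
    linear_combination -this
  obtain ⟨w, hw⟩ := int_of_mul_wt K hC q ⟨χ₀⟩ (fun χ => ⟨zz χ, hqw χ⟩)
  refine ⟨w, fun χ x hx hx1 => ?_⟩
  have hxN : x ∈ normalizer (K : Set G) := le_normalizer hx
  have := hzz χ ⟨x, hxN⟩ (Subgroup.mem_subgroupOf.mpr hx) (fun h => hx1 (congrArg Subtype.val h))
  rw [extendByZero_of_mem _ _ hxN, ← hw, mul_comm (wt K χ : ℂ) q, hqw χ]
  linear_combination this

end values

end Cfsg.Agent.Lib.Helper31_PFLocal
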