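import Mathlib
import Cfsg.Agent.Lib.Helper31_PFLocal
import Cfsg.Agent.Lib.Helper31_CAMain
import Cfsg.Agent.Lib.Helper31_FeitFrob
import Cfsg.Agent.Lib.Helper31_FeitMain
import Cfsg.Agent.Lib.Helper16_SibleyMain
import Cfsg.Agent.Lib.Helper25_VirtNorm

/-!
# From Sibley's coherence theorem to the weighted coherence relation (helper31)

`exists_coherent_data`: for a TI subgroup `K` of a group `G` of odd order containing the centralizers
of its nonidentity elements and properly contained in its normalizer `N`, there are a sign `ε` and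
an injective map `f` from the relevant characters of `N` to the irreducible characters of `G` with
`Ind (wt ξ • χ - wt χ • ξ) = ε • (wt ξ • f χ - wt χ • f ξ)`.
-/

set_option autoImplicit false
set_option linter.unusedSectionVars false

namespace Cfsg.Agent.Lib.Helper31_PFBridge

open Subgroup Classical
open scoped ComplexConjugate
open Cfsg.Agent.Lib.Helper3_CharBridge Cfsg.Agent.Lib.Helper3_CharOrtho
  Cfsg.Agent.Lib.Helper3_CharComplete Cfsg.Agent.Lib.Helper3_CharColumn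
  Cfsg.Agent.Lib.Helper75_CharArith Cfsg.Agent.Lib.Helper75_Induced
  Cfsg.Agent.Lib.Helper57_FrobNorm Cfsg.Agent.Lib.Helper57_FrobNorm2
  Cfsg.Agent.Lib.Helper31_CALocal Cfsg.Agent.Lib.Helper31_PFLocal
  Cfsg.Agent.Lib.Helper31_CAMain

variable {G : Type*} [Group G] [Fintype G] (K : Subgroup G)

section

variable (hC : ∀ k ∈ K, k ≠ 1 → centralizer ({k} : Set G) ≤ K)

include hC in
theorem hCN : ∀ h ∈ AK K, h ≠ 1 →
    Subgroup.centralizer ({h} : Set ↥(normalizer (K : Set G))) ≤ AK K := by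
  intro h hh hh1 m hm
  rw [Subgroup.mem_centralizer_singleton_iff] at hm
  exact hCA K hC h hh hh1 m hm

include hC in
/-- Relevant characters belong to the set `S(⊥)` of Sibley's theorem. -/
theorem rel_mem (χ : Rel K) :
    (χ.1 : ↥(normalizer (K : Set G)) → ℂ) ∈ Cfsg.inducedIrrAbove (AK K) ⊥ := by
  rw [← Cfsg.Agent.Lib.Helper31_FeitMain.S_eq (AK K) (hCN K hC)]
  exact ⟨χ.1.2, (isRel_iff K χ.1).mp χ.2⟩

include hC in
theorem isNilpotent_of_lt (hlt : K < normalizer (K : Set G)) : Group.IsNilpotent ↥K := by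
  have h2 : AK K ≠ ⊤ := by
    intro h
    have : normalizer (K : Set G) ≤ K := by
      intro x hx
      have : (⟨x, hx⟩ : normalizer (K : Set G)) ∈ AK K := by rw [h]; trivial
      exact Subgroup.mem_subgroupOf.mp this
    exact hlt.not_ge this
  have h1 := Cfsg.Agent.Lib.Helper31_FeitFrob.isNilpotent_kernel (AK K) (hCN K hC) h2
  exact (Group.isNilpotent_congr (Subgroup.subgroupOfEquivOfLe le_normalizer)).1 h1

end

/-- The weighted difference as an integer combination. -/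
theorem diff_eq (χ ξ : Rel K) :
    ((wt K ξ : ℂ) • (χ.1 : ↥(normalizer (K : Set G)) → ℂ) -
      (wt K χ : ℂ) • (ξ.1 : ↥(normalizer (K : Set G)) → ℂ)) =
    ((wt K ξ : ℤ) • (χ.1 : ↥(normalizer (K : Set G)) → ℂ) +
      (-(wt K χ : ℤ)) • (ξ.1 : ↥(normalizer (K : Set G)) → ℂ)) := by
  rw [← Int.cast_smul_eq_zsmul ℂ, ← Int.cast_smul_eq_zsmul ℂ]
  push_cast
  rw [neg_smul, sub_eq_add_neg]

/-- **Weighted coherence from Sibley's theorem.** -/
theorem exists_coherent_data (hodd : Odd (Nat.card G)) (hK1 : K ≠ ⊥)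
    (hlt : K < normalizer (K : Set G))
    (hC : ∀ k ∈ K, k ≠ 1 → centralizer ({k} : Set G) ≤ K)
    (hTI : ∀ g : G, g ∉ normalizer (K : Set G) → ∀ k ∈ K, g * k * g⁻¹ ∈ K → k = 1) :
    ∃ (ε : ℂ) (f : Rel K → Cfsg.IrrCharacter G), (ε = 1 ∨ ε = -1) ∧ Function.Injective f ∧
      ∀ χ ξ : Rel K, Cfsg.indFun (normalizer (K : Set G))
        ((wt K ξ : ℂ) • (χ.1 : ↥(normalizer (K : Set G)) → ℂ) -
          (wt K χ : ℂ) • (ξ.1 : ↥(normalizer (K : Set G)) → ℂ)) =
        ε • ((wt K ξ : ℂ) • (f χ : G → ℂ) - (wt K χ : ℂ) • (f ξ : G → ℂ)) := by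
  have hoddN : Odd (Nat.card ↥(normalizer (K : Set G))) :=
    Odd.of_dvd_nat hodd (Subgroup.card_subgroup_dvd_card _)
  have hnil := isNilpotent_of_lt K hC hlt
  have hC' : ∀ k ∈ K, k ≠ 1 → ∀ x ∈ normalizer (K : Set G), x * k = k * x → x ∈ K := by
    intro k hk hk1 x _ hx
    apply hC k hk hk1
    rw [Subgroup.mem_centralizer_singleton_iff]
    exact hx
  obtain ⟨-, τ₁, ⟨hadd, hsmul, hiso, hgen⟩, hext⟩ :=
    Cfsg.Agent.Lib.Helper16_SibleyMain.sibley_frobenius K hoddN hnil hK1 hlt hC' hTI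
  set S := Cfsg.inducedIrrAbove (AK K) ⊥ with hS
  have hmem : ∀ χ : Rel K, (χ.1 : ↥(normalizer (K : Set G)) → ℂ) ∈ Cfsg.zspan S := fun χ =>
    Submodule.subset_span (rel_mem K hC χ)
  -- the images are irreducible up to sign
  have hsign : ∀ χ : Rel K, ∃ (s : ℂ) (θ : Cfsg.IrrCharacter G), (s = 1 ∨ s = -1) ∧
      τ₁ (χ.1 : ↥(normalizer (K : Set G)) → ℂ) = s • (θ : G → ℂ) := by
    intro χ
    have h1 : Cfsg.classInner (τ₁ (χ.1 : ↥(normalizer (K : Set G)) → ℂ))
        (τ₁ (χ.1 : ↥(normalizer (K : Set G)) → ℂ)) = 1 := by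
      rw [hiso _ (hmem χ) _ (hmem χ)]
      exact classInner_self_of_isIrrCharacter χ.1.2
    rcases Cfsg.Agent.Lib.Helper25_VirtNorm.norm_one _ (hgen _ (hmem χ)) h1 with h | h
    · exact ⟨1, ⟨_, h⟩, Or.inl rfl, by rw [one_smul]⟩
    · exact ⟨-1, ⟨_, h⟩, Or.inr rfl, by simp⟩
  choose s g hs hg using hsign
  -- the image of a weighted difference
  have hdiff : ∀ χ ξ : Rel K, Cfsg.indFun (normalizer (K : Set G))
        ((wt K ξ : ℂ) • (χ.1 : ↥(normalizer (K : Set G)) → ℂ) -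
          (wt K χ : ℂ) • (ξ.1 : ↥(normalizer (K : Set G)) → ℂ)) =
      (wt K ξ : ℂ) • (s χ • (g χ : G → ℂ)) - (wt K χ : ℂ) • (s ξ • (g ξ : G → ℂ)) := by
    intro χ ξ
    have hin : ((wt K ξ : ℂ) • (χ.1 : ↥(normalizer (K : Set G)) → ℂ) -
          (wt K χ : ℂ) • (ξ.1 : ↥(normalizer (K : Set G)) → ℂ)) ∈ Cfsg.zspanOn S {1}ᶜ := by
      constructor
      · rw [diff_eq]
        exact Submodule.add_mem _ (Submodule.smul_mem _ _ (hmem χ))
          (Submodule.smul_mem _ _ (hmem ξ))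
      · intro x hx
        have hx1 : x = 1 := by
          by_contra h
          exact hx h
        rw [hx1]
        simp only [Pi.sub_apply, Pi.smul_apply, smul_eq_mul]
        rw [rel_deg K hC χ, rel_deg K hC ξ]
        ring
    have he : τ₁ ((wt K ξ : ℂ) • (χ.1 : ↥(normalizer (K : Set G)) → ℂ) -
          (wt K χ : ℂ) • (ξ.1 : ↥(normalizer (K : Set G)) → ℂ)) =
        Cfsg.indFun (normalizer (K : Set G))
          ((wt K ξ : ℂ) • (χ.1 : ↥(normalizer (K : Set G)) → ℂ) -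
            (wt K χ : ℂ) • (ξ.1 : ↥(normalizer (K : Set G)) → ℂ)) := hext _ hin
    rw [← he, diff_eq,
      hadd _ (Submodule.smul_mem _ _ (hmem χ)) _ (Submodule.smul_mem _ _ (hmem ξ)),
      hsmul _ (hmem χ), hsmul _ (hmem ξ), hg χ, hg ξ]
    rw [← Int.cast_smul_eq_zsmul ℂ, ← Int.cast_smul_eq_zsmul ℂ]
    push_cast
    rw [neg_smul, sub_eq_add_neg]
  -- all the signs agree
  have hsame : ∀ χ ξ : Rel K, s χ = s ξ := by
    intro χ ξ
    have h1 := congrFun (hdiff χ ξ) 1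
    rw [indFun_eq_zero_of_not_conj K _ (by
        simp only [Pi.sub_apply, Pi.smul_apply, smul_eq_mul]
        rw [rel_deg K hC χ, rel_deg K hC ξ]
        ring) (by
        intro y hy
        simp only [Pi.sub_apply, Pi.smul_apply, smul_eq_mul]
        rw [rel_vanish K hC χ y hy, rel_vanish K hC ξ y hy, mul_zero, mul_zero, sub_zero])
      1 (fun _ _ => rfl)] at h1
    simp only [Pi.sub_apply, Pi.smul_apply, smul_eq_mul] at h1
    obtain ⟨d₁, hd₁pos, hd₁⟩ := irr_one_eq_natCast (g χ).2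
    obtain ⟨d₂, hd₂pos, hd₂⟩ := irr_one_eq_natCast (g ξ).2
    rw [hd₁, hd₂] at h1
    have hw₁ := wt_pos K hC χ
    have hw₂ := wt_pos K hC ξ
    have hpos : (0 : ℝ) < (wt K ξ : ℝ) * (d₁ : ℝ) + (wt K χ : ℝ) * (d₂ : ℝ) := by positivity
    rcases hs χ with h | h <;> rcases hs ξ with h' | h'
    · rw [h, h']
    · exfalso
      rw [h, h'] at h1
      have : (((wt K ξ : ℝ) * (d₁ : ℝ) + (wt K χ : ℝ) * (d₂ : ℝ) : ℝ) : ℂ) = 0 := by
        push_cast
        linear_combination -h1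
      have : ((wt K ξ : ℝ) * (d₁ : ℝ) + (wt K χ : ℝ) * (d₂ : ℝ) : ℝ) = 0 := by exact_mod_cast this
      linarith
    · exfalso
      rw [h, h'] at h1
      have : (((wt K ξ : ℝ) * (d₁ : ℝ) + (wt K χ : ℝ) * (d₂ : ℝ) : ℝ) : ℂ) = 0 := by
        push_cast
        linear_combination h1
      have : ((wt K ξ : ℝ) * (d₁ : ℝ) + (wt K χ : ℝ) * (d₂ : ℝ) : ℝ) = 0 := by exact_mod_cast this
      linarith
    · rw [h, h']
  -- injectivity
  have hinj : Function.Injective g := by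
    intro χ ξ hχξ
    by_contra hne
    have h1 := hiso _ (hmem χ) _ (hmem ξ)
    rw [hg χ, hg ξ, hχξ, hsame χ ξ, classInner_smul_left, classInner_smul_right,
      classInner_self_of_isIrrCharacter (g ξ).2,
      classInner_of_isIrrCharacter_of_ne χ.1.2 ξ.1.2 (fun h => hne (Subtype.ext (Subtype.ext h)))]
      at h1
    rcases hs ξ with h | h <;> rw [h] at h1 <;> simp at h1
  by_cases hne : Nonempty (Rel K)
  · obtain ⟨χ₀⟩ := hne
    refine ⟨s χ₀, g, hs χ₀, hinj, fun χ ξ => ?_⟩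
    rw [hdiff χ ξ, hsame χ χ₀, hsame ξ χ₀]
    funext x
    simp only [Pi.sub_apply, Pi.smul_apply, smul_eq_mul]
    ring
  · exact ⟨1, g, Or.inl rfl, hinj, fun χ => absurd ⟨χ⟩ hne⟩

end Cfsg.Agent.Lib.Helper31_PFBridge
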