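import Mathlib
import Cfsg.Agent.Lib.Helper31_PFLocal
import Cfsg.Agent.Lib.Helper31_CAMain
import Cfsg.Agent.Lib.Helper31_CAEnd
import Cfsg.Agent.Lib.Helper25_FrobTI

/-!
# No odd-order group is covered by conjugates of TI subgroups with Frobenius normalizers
(helper31)

The generalisation of `Helper31_CAMain.no_abelian_partition` to non-commutative kernels, given a
weighted coherence relation for every family (Peterfalvi (7.1)): `no_partition_of_coherent`.
-/

set_option autoImplicit false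
set_option linter.unusedSectionVars false

namespace Cfsg.Agent.Lib.Helper31_PFMain

open Subgroup Classical
open scoped ComplexConjugate
open Cfsg.Agent.Lib.Helper3_CharBridge Cfsg.Agent.Lib.Helper3_CharOrtho
  Cfsg.Agent.Lib.Helper3_CharComplete Cfsg.Agent.Lib.Helper3_CharColumn
  Cfsg.Agent.Lib.Helper75_CharArith Cfsg.Agent.Lib.Helper75_Induced
  Cfsg.Agent.Lib.Helper57_FrobNorm Cfsg.Agent.Lib.Helper57_FrobNorm2
  Cfsg.Agent.Lib.Helper31_CALocal Cfsg.Agent.Lib.Helper31_PFLocal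
  Cfsg.Agent.Lib.Helper31_CAMain

variable {G : Type*} [Group G] [Fintype G] {ι : Type*} [Fintype ι] [DecidableEq ι]
  (H : ι → Subgroup G)

section numbers

variable (hodd : Odd (Nat.card G)) (hH1 : ∀ i, H i ≠ ⊥)
  (hlt : ∀ i, H i < normalizer (H i : Set G))
  (hC : ∀ i, ∀ k ∈ H i, k ≠ 1 → centralizer ({k} : Set G) ≤ H i)

/-- the sum of the squares of the weights -/
noncomputable abbrev tN (i : ι) : ℕ := tW (H i)

include hC in
theorem tN_mul (i : ι) : tN H i * eN H i + 1 = aN H i := rel_sum_sq (H i) (hC i)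

include hodd hH1 hC in
theorem even_tN (i : ι) : Even (tN H i) ∧ 2 ≤ tN H i := by
  have h1 := tN_mul H hC i
  have h2 := odd_aN H hodd i
  have h3 := odd_eN H hodd i
  have h4 := two_le_aN H hH1 i
  have hev : Even (tN H i) := by
    by_contra hne
    rw [Nat.not_even_iff_odd] at hne
    have : Odd (tN H i * eN H i) := hne.mul h3
    rw [← h1] at h2
    have := Nat.odd_add_one.mp h2
    contradiction
  refine ⟨hev, ?_⟩
  obtain ⟨r, hr⟩ := hev
  have : tN H i ≠ 0 := by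
    intro h0
    rw [h0] at h1
    omega
  omega

include hodd hC in
/-- The weights are odd. -/
theorem odd_wt (i : ι) (χ : Rel (H i)) : Odd (wt (H i) χ) := by
  have h1 := rel_deg (H i) (hC i) χ
  have h2 : (χ.1 : ↥(normalizer (H i : Set G)) → ℂ) 1 = ((eN H i * wt (H i) χ : ℕ) : ℂ) := by
    rw [h1]; push_cast; rfl
  have h3 := degree_dvd_card χ.1.2 h2
  have h4 : Odd (eN H i * wt (H i) χ) :=
    Odd.of_dvd_nat hodd (h3.trans (Subgroup.card_subgroup_dvd_card _))
  exact (Nat.odd_mul.mp h4).2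

include hodd hH1 hC in
theorem exists_rel_ne (i : ι) (χ : Rel (H i)) : ∃ ξ : Rel (H i), ξ ≠ χ := by
  by_contra hcon
  push Not at hcon
  have h1 : tN H i = wt (H i) χ ^ 2 := by
    unfold tN tW
    rw [Finset.sum_eq_single χ (fun b _ hb => absurd (hcon b) hb)
      (fun h => absurd (Finset.mem_univ χ) h)]
  have h2 := (even_tN H hodd hH1 hC i).1
  have h3 := odd_wt H hodd hC i χ
  rw [h1] at h2
  exact (Nat.not_even_iff_odd.mpr (h3.pow)) h2

include hodd hH1 hC in
theorem nonempty_rel (i : ι) : Nonempty (Rel (H i)) := by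
  by_contra hne
  have h1 : tN H i = 0 := by
    unfold tN tW
    apply Finset.sum_eq_zero
    intro χ _
    exact absurd ⟨χ⟩ hne
  have := (even_tN H hodd hH1 hC i).2
  omega

end numbers

section main

variable (hodd : Odd (Nat.card G)) (hH1 : ∀ i, H i ≠ ⊥)
  (hlt : ∀ i, H i < normalizer (H i : Set G))
  (hC : ∀ i, ∀ k ∈ H i, k ≠ 1 → centralizer ({k} : Set G) ≤ H i)
  (hTI : ∀ i, ∀ g : G, g ∉ normalizer (H i : Set G) → ∀ k ∈ H i, g * k * g⁻¹ ∈ H i → k = 1)
  (hcop : ∀ i j, i ≠ j → Nat.Coprime (Nat.card (H i)) (Nat.card (H j)))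
  (hcover : ∀ g : G, g ≠ 1 → ∃ i, ∃ x : G, x * g * x⁻¹ ∈ H i)
  (ε : ι → ℂ) (f : ∀ i, Rel (H i) → Cfsg.IrrCharacter G)
  (hε : ∀ i, ε i = 1 ∨ ε i = -1) (hinj : ∀ i, Function.Injective (f i))
  (hind : ∀ i (χ ξ : Rel (H i)), Cfsg.indFun (normalizer (H i : Set G))
    ((wt (H i) ξ : ℂ) • (χ.1 : ↥(normalizer (H i : Set G)) → ℂ) -
      (wt (H i) χ : ℂ) • (ξ.1 : ↥(normalizer (H i : Set G)) → ℂ)) =
    ε i • ((wt (H i) ξ : ℂ) • (f i χ : G → ℂ) - (wt (H i) χ : ℂ) • (f i ξ : G → ℂ)))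

include hC in
theorem diff_one (i : ι) (χ ξ : Rel (H i)) :
    ((wt (H i) ξ : ℂ) • (χ.1 : ↥(normalizer (H i : Set G)) → ℂ) -
      (wt (H i) χ : ℂ) • (ξ.1 : ↥(normalizer (H i : Set G)) → ℂ)) 1 = 0 := by
  simp only [Pi.sub_apply, Pi.smul_apply, smul_eq_mul]
  rw [rel_deg (H i) (hC i) χ, rel_deg (H i) (hC i) ξ]
  ring

include hC in
theorem diff_vanish (i : ι) (χ ξ : Rel (H i)) (y : normalizer (H i : Set G))
    (hy : (y : G) ∉ H i) :
    ((wt (H i) ξ : ℂ) • (χ.1 : ↥(normalizer (H i : Set G)) → ℂ) -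
      (wt (H i) χ : ℂ) • (ξ.1 : ↥(normalizer (H i : Set G)) → ℂ)) y = 0 := by
  simp only [Pi.sub_apply, Pi.smul_apply, smul_eq_mul]
  rw [rel_vanish (H i) (hC i) χ y hy, rel_vanish (H i) (hC i) ξ y hy, mul_zero, mul_zero,
    sub_zero]

include hC hε hind in
/-- Two characters of the same family are proportional at elements not conjugate into `H i`
minus 1. -/
theorem f_apply_eq (i : ι) (χ ξ : Rel (H i)) (x : G) (hx : ∀ g : G, g⁻¹ * x * g ∈ H i → x = 1) :
    (wt (H i) ξ : ℂ) * (f i χ : G → ℂ) x = (wt (H i) χ : ℂ) * (f i ξ : G → ℂ) x := by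
  have h1 := indFun_eq_zero_of_not_conj (H i) _ (diff_one H hC i χ ξ)
    (diff_vanish H hC i χ ξ) x hx
  rw [hind i χ ξ] at h1
  simp only [Pi.smul_apply, Pi.sub_apply, smul_eq_mul] at h1
  rcases mul_eq_zero.mp h1 with h | h
  · exact absurd h (eps_ne_zero ε hε i)
  · exact sub_eq_zero.mp h

include hodd hH1 hC hε hinj hind in
/-- The exceptional characters are nonprincipal. -/
theorem f_ne_one (i : ι) (χ : Rel (H i)) :
    f i χ ≠ Cfsg.Agent.Lib.Helper80_CharBasic.oneIrr G := by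
  intro heq
  obtain ⟨ξ, hξ⟩ := exists_rel_ne H hodd hH1 hC i χ
  have h1 := congrArg (fun F => Cfsg.classInner F (fun _ : G => (1 : ℂ))) (hind i χ ξ)
  beta_reduce at h1
  have hcf : Cfsg.IsClassFunction G (fun _ : G => (1 : ℂ)) := fun _ _ => rfl
  have hne : ∀ φ : Rel (H i), (φ.1 : ↥(normalizer (H i : Set G)) → ℂ) ≠ fun _ => 1 := by
    intro φ h
    obtain ⟨k, -, hk1⟩ := φ.2
    apply hk1
    rw [h]
  have hone := Cfsg.Agent.Lib.Helper80_CharBasic.isIrrCharacter_one ↥(normalizer (H i : Set G))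
  rw [frobenius_reciprocity _ _ _ hcf, classInner_sub_left, classInner_smul_left,
    classInner_smul_left,
    classInner_of_isIrrCharacter_of_ne χ.1.2 hone (hne χ),
    classInner_of_isIrrCharacter_of_ne ξ.1.2 hone (hne ξ), classInner_smul_left,
    classInner_sub_left, classInner_smul_left, classInner_smul_left] at h1
  have hone' := Cfsg.Agent.Lib.Helper80_CharBasic.isIrrCharacter_one G
  have h2 : Cfsg.classInner (f i χ : G → ℂ) (fun _ : G => (1 : ℂ)) = 1 := by
    rw [heq]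
    exact classInner_self_of_isIrrCharacter hone'
  have h3 : (f i ξ : G → ℂ) ≠ fun _ => 1 := by
    intro h
    apply hξ
    apply hinj i
    rw [heq]
    exact Subtype.ext h
  rw [h2, classInner_of_isIrrCharacter_of_ne (f i ξ).2 hone' h3] at h1
  have hw : (wt (H i) ξ : ℂ) ≠ 0 := by
    rw [Nat.cast_ne_zero]; exact (wt_pos (H i) (hC i) ξ).ne'
  have h4 : ε i * (wt (H i) ξ : ℂ) = 0 := by linear_combination -h1
  rcases mul_eq_zero.mp h4 with h | h
  · exact eps_ne_zero ε hε i h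
  · exact hw h

include hodd hH1 hC hcop hε hinj hind in
/-- Exceptional characters of different families are different. -/
theorem f_ne_f (i j : ι) (hij : i ≠ j) (χ : Rel (H i)) (ξ : Rel (H j)) : f i χ ≠ f j ξ := by
  intro heq
  obtain ⟨χ', hχ'⟩ := exists_rel_ne H hodd hH1 hC i χ
  obtain ⟨ξ', hξ'⟩ := exists_rel_ne H hodd hH1 hC j ξ
  have hzero : Cfsg.classInner
      (Cfsg.indFun (normalizer (H i : Set G))
        ((wt (H i) χ' : ℂ) • (χ.1 : ↥(normalizer (H i : Set G)) → ℂ) -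
          (wt (H i) χ : ℂ) • (χ'.1 : ↥(normalizer (H i : Set G)) → ℂ)))
      (Cfsg.indFun (normalizer (H j : Set G))
        ((wt (H j) ξ' : ℂ) • (ξ.1 : ↥(normalizer (H j : Set G)) → ℂ) -
          (wt (H j) ξ : ℂ) • (ξ'.1 : ↥(normalizer (H j : Set G)) → ℂ)))
      = 0 := by
    unfold Cfsg.classInner
    apply mul_eq_zero_of_right
    apply Finset.sum_eq_zero
    intro x _
    by_cases hx : ∀ g : G, g⁻¹ * x * g ∈ H i → x = 1
    · rw [indFun_eq_zero_of_not_conj (H i) _ (diff_one H hC i χ χ')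
        (diff_vanish H hC i χ χ') x hx, zero_mul]
    · push Not at hx
      obtain ⟨g, hg, hx1⟩ := hx
      have hx' : ∀ g' : G, g'⁻¹ * x * g' ∈ H j → x = 1 := by
        intro g' hg'
        have h1 : g⁻¹ * x * (g⁻¹)⁻¹ ∈ H i := by rwa [inv_inv]
        have h2 : g'⁻¹ * x * (g'⁻¹)⁻¹ ∈ H j := by rwa [inv_inv]
        exact disj H hcop hij h1 h2
      rw [indFun_eq_zero_of_not_conj (H j) _ (diff_one H hC j ξ ξ')
        (diff_vanish H hC j ξ ξ') x hx', map_zero, mul_zero]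
  rw [hind i χ χ', hind j ξ ξ'] at hzero
  simp only [classInner_smul_left, classInner_smul_right, classInner_sub_left,
    classInner_sub_right'] at hzero
  have e1 : Cfsg.classInner (f i χ : G → ℂ) (f j ξ : G → ℂ) = 1 := by
    rw [heq]; exact classInner_self_of_isIrrCharacter (f j ξ).2
  have e2 : Cfsg.classInner (f i χ : G → ℂ) (f j ξ' : G → ℂ) = 0 := by
    rw [heq]
    apply classInner_of_isIrrCharacter_of_ne (f j ξ).2 (f j ξ').2
    intro h
    exact hξ' (hinj j (Subtype.ext h)).symm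
  have e3 : Cfsg.classInner (f i χ' : G → ℂ) (f j ξ : G → ℂ) = 0 := by
    rw [← heq]
    apply classInner_of_isIrrCharacter_of_ne (f i χ').2 (f i χ).2
    intro h
    exact hχ' (hinj i (Subtype.ext h))
  rw [e1, e2, e3, classInner_irr (f i χ').2 (f j ξ').2] at hzero
  simp only [Complex.conj_natCast] at hzero
  have hj : (starRingEnd ℂ) (ε j) ≠ 0 := by
    rcases hε j with h | h <;> simp [h]
  have hpos1 : (0 : ℝ) < (wt (H i) χ' : ℝ) * (wt (H j) ξ' : ℝ) := by
    have h1 := wt_pos (H i) (hC i) χ'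
    have h2 := wt_pos (H j) (hC j) ξ'
    positivity
  have hpos2 : (0 : ℝ) ≤ (wt (H i) χ : ℝ) * (wt (H j) ξ : ℝ) := by positivity
  rcases mul_eq_zero.mp hzero with h | h
  · exact hj h
  · have hi0 := eps_ne_zero ε hε i
    split_ifs at h
    · have h' : ε i * ((((wt (H i) χ' : ℝ) * (wt (H j) ξ' : ℝ) +
          (wt (H i) χ : ℝ) * (wt (H j) ξ : ℝ) : ℝ) : ℂ)) = 0 := by
        push_cast
        linear_combination h
      rcases mul_eq_zero.mp h' with h'' | h''
      · exact hi0 h''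
      · have : ((wt (H i) χ' : ℝ) * (wt (H j) ξ' : ℝ) + (wt (H i) χ : ℝ) * (wt (H j) ξ : ℝ) : ℝ)
            = 0 := by exact_mod_cast h''
        linarith
    · have h' : ε i * ((((wt (H i) χ' : ℝ) * (wt (H j) ξ' : ℝ) : ℝ) : ℂ)) = 0 := by
        push_cast
        linear_combination h
      rcases mul_eq_zero.mp h' with h'' | h''
      · exact hi0 h''
      · have : ((wt (H i) χ' : ℝ) * (wt (H j) ξ' : ℝ) : ℝ) = 0 := by exact_mod_cast h''
        linarith

include hodd hC hcover hind in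
/-- Every nonprincipal irreducible character is exceptional for some family. -/
theorem exists_of_ne_one (θ : Cfsg.IrrCharacter G)
    (hθ : θ ≠ Cfsg.Agent.Lib.Helper80_CharBasic.oneIrr G) : ∃ i, ∃ χ : Rel (H i), f i χ = θ := by
  by_contra hcon
  push Not at hcon
  apply hθ
  have hcf := isClassFunction_of_isIrrCharacter θ.2
  have hreal : Cfsg.conjFun (θ : G → ℂ) = (θ : G → ℂ) := by
    funext g
    show conj ((θ : G → ℂ) g) = (θ : G → ℂ) g
    by_cases hg : g = 1
    · subst hg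
      obtain ⟨n, -, hn⟩ := irr_one_eq_natCast θ.2
      rw [hn, Complex.conj_natCast]
    · obtain ⟨i, x, hx⟩ := hcover g hg
      obtain ⟨z, hz⟩ := val_of_not_range (H i) (hC i) (ε i) (f i) (hind i) θ (hcon i)
      have hne : x * g * x⁻¹ ≠ 1 := by
        intro h
        apply hg
        have := congrArg (fun t => x⁻¹ * t * x) h
        simpa [mul_assoc] using this
      rw [← hcf g x, hz _ hx hne, map_intCast]
  have := Cfsg.Agent.Lib.Helper25_FrobTI.eq_one_of_real hodd θ.2 hreal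
  exact Subtype.ext this

/-- The parametrization of the irreducible characters. -/
noncomputable def Phi : Option (Σ i, Rel (H i)) → Cfsg.IrrCharacter G :=
  fun o => o.elim (Cfsg.Agent.Lib.Helper80_CharBasic.oneIrr G) (fun p => f p.1 p.2)

include hodd hH1 hC hcop hcover hε hinj hind in
theorem Phi_bijective : Function.Bijective (Phi H f) := by
  constructor
  · intro o o' h
    rcases o with _ | ⟨i, χ⟩ <;> rcases o' with _ | ⟨j, ξ⟩
    · rfl
    · exact absurd h.symm (f_ne_one H hodd hH1 hC ε f hε hinj hind j ξ)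
    · exact absurd h (f_ne_one H hodd hH1 hC ε f hε hinj hind i χ)
    · have h' : f i χ = f j ξ := h
      by_cases hij : i = j
      · subst hij
        rw [hinj i h']
      · exact absurd h' (f_ne_f H hodd hH1 hC hcop ε f hε hinj hind i j hij χ ξ)
  · intro θ
    by_cases hθ : θ = Cfsg.Agent.Lib.Helper80_CharBasic.oneIrr G
    · exact ⟨none, hθ.symm⟩
    · obtain ⟨i, χ, h⟩ := exists_of_ne_one H hodd hC hcover ε f hind θ hθ
      exact ⟨some ⟨i, χ⟩, h⟩

include hodd hH1 hC hcop hcover hε hinj hind in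
/-- A sum over all irreducible characters of `G`, split into families. -/
theorem sum_irr (P : Cfsg.IrrCharacter G → ℂ) :
    ∑ θ, P θ = P (Cfsg.Agent.Lib.Helper80_CharBasic.oneIrr G) +
      ∑ i, ∑ χ : Rel (H i), P (f i χ) := by
  have hb := Phi_bijective H hodd hH1 hC hcop hcover ε f hε hinj hind
  rw [← Equiv.sum_comp (Equiv.ofBijective (Phi H f) hb) P, Fintype.sum_option, Fintype.sum_sigma]
  rfl

theorem exists_ne_one_mem' (hH1 : ∀ i, H i ≠ ⊥) (k : ι) : ∃ x ∈ H k, x ≠ 1 := by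
  obtain ⟨x, hx⟩ := Subgroup.ne_bot_iff_exists_ne_one.mp (hH1 k)
  exact ⟨x, x.2, fun h => hx (Subtype.ext h)⟩

include hodd hH1 hC hcop hε hinj hind in
/-- Off-diagonal values: the family `i` is `wt χ` times a constant integer on `H k` minus 1. -/
theorem exists_c (i k : ι) : ∃ z : ℤ, i ≠ k → ∀ χ : Rel (H i), ∀ x ∈ H k, x ≠ 1 →
    (f i χ : G → ℂ) x = (wt (H i) χ : ℂ) * z := by
  by_cases hik : i = k
  · exact ⟨0, fun h => absurd hik h⟩
  have hne := nonempty_rel H hodd hH1 hC i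
  obtain ⟨χ₀⟩ := hne
  obtain ⟨x₀, hx₀, hx₀1⟩ := exists_ne_one_mem' H hH1 k
  have hval : ∀ χ : Rel (H i), ∃ z : ℤ, ∀ x ∈ H k, x ≠ 1 → (f i χ : G → ℂ) x = z := fun χ =>
    val_of_not_range (H k) (hC k) (ε k) (f k) (hind k) (f i χ)
      (fun ξ => f_ne_f H hodd hH1 hC hcop ε f hε hinj hind k i (Ne.symm hik) ξ χ)
  choose zz hzz using hval
  have hnc : ∀ x ∈ H k, x ≠ 1 → ∀ g : G, g⁻¹ * x * g ∈ H i → x = 1 := by
    intro x hx _ g hg
    have h1 : g⁻¹ * x * (g⁻¹)⁻¹ ∈ H i := by rwa [inv_inv]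
    have h2 : (1 : G) * x * (1 : G)⁻¹ ∈ H k := by simpa using hx
    exact disj H hcop hik h1 h2
  have hw0 : (wt (H i) χ₀ : ℂ) ≠ 0 := by
    rw [Nat.cast_ne_zero]; exact (wt_pos (H i) (hC i) χ₀).ne'
  -- proportionality
  have hprop : ∀ χ : Rel (H i), (wt (H i) χ₀ : ℂ) * (zz χ : ℂ) = (wt (H i) χ : ℂ) * (zz χ₀ : ℂ) := by
    intro χ
    have := f_apply_eq H hC ε f hε hind i χ χ₀ x₀ (hnc x₀ hx₀ hx₀1)
    rw [hzz χ x₀ hx₀ hx₀1, hzz χ₀ x₀ hx₀ hx₀1] at this
    exact this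
  obtain ⟨w, hw⟩ := int_of_mul_wt (H i) (hC i) ((zz χ₀ : ℂ) / (wt (H i) χ₀ : ℂ)) ⟨χ₀⟩ (by
    intro χ
    refine ⟨zz χ, ?_⟩
    have := hprop χ
    field_simp
    linear_combination -this)
  refine ⟨w, fun _ χ x hx hx1 => ?_⟩
  rw [hzz χ x hx hx1, ← hw]
  have := hprop χ
  field_simp
  linear_combination this

include hC hTI hε hinj hind in
/-- Diagonal values. -/
theorem exists_z (k : ι) : ∃ z : ℤ, ∀ χ : Rel (H k), ∀ x ∈ H k, x ≠ 1 → (f k χ : G → ℂ) x =
    ε k * Cfsg.extendByZero (normalizer (H k : Set G))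
      (χ.1 : ↥(normalizer (H k : Set G)) → ℂ) x + (wt (H k) χ : ℂ) * z :=
  val_of_range (H k) (hTI k) (hC k) (ε k) (f k) (hind k) (hε k) (hinj k)

include hodd hH1 hC hTI hcop hcover hε hinj hind in
/-- The column relation at a nonidentity element of `H k`. -/
theorem col_rel (c : ι → ι → ℤ)
    (hc : ∀ i k, i ≠ k → ∀ χ : Rel (H i), ∀ x ∈ H k, x ≠ 1 →
      (f i χ : G → ℂ) x = (wt (H i) χ : ℂ) * c i k)
    (k : ι) :
    ∑ i ∈ Finset.univ.erase k, (tN H i : ℤ) * (c i k) ^ 2 ≤ (eN H k : ℤ) - 1 := by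
  obtain ⟨x, hx, hx1⟩ := exists_ne_one_mem' H hH1 k
  obtain ⟨z, hz⟩ := exists_z H hC hTI ε f hε hinj hind k
  have h1 := column_orthogonality_self (G := G) x
  rw [sum_irr H hodd hH1 hC hcop hcover ε f hε hinj hind
      (fun θ => (θ : G → ℂ) x * conj ((θ : G → ℂ) x))] at h1
  have hp : (Cfsg.Agent.Lib.Helper80_CharBasic.oneIrr G : G → ℂ) x *
      conj ((Cfsg.Agent.Lib.Helper80_CharBasic.oneIrr G : G → ℂ) x) = 1 := by
    simp [Cfsg.Agent.Lib.Helper80_CharBasic.oneIrr]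
  rw [hp, ← Finset.add_sum_erase Finset.univ _ (Finset.mem_univ k)] at h1
  have hoff : ∀ i ∈ Finset.univ.erase k,
      ∑ χ : Rel (H i), (f i χ : G → ℂ) x * conj ((f i χ : G → ℂ) x) =
        (((tN H i : ℤ) * (c i k) ^ 2 : ℤ) : ℂ) := by
    intro i hi
    have hik := (Finset.mem_erase.mp hi).1
    rw [Finset.sum_congr rfl (fun χ _ => by
      rw [hc i k hik χ x hx hx1, map_mul, map_intCast, Complex.conj_natCast])]
    unfold tN tW
    push_cast
    rw [Finset.sum_mul]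
    refine Finset.sum_congr rfl (fun χ _ => ?_)
    ring
  rw [Finset.sum_congr rfl hoff] at h1
  obtain ⟨hS1, hS2⟩ := rel_col (H k) (hC k) hx hx1
  have hdiag : ∑ χ : Rel (H k), (f k χ : G → ℂ) x * conj ((f k χ : G → ℂ) x) =
      ((Nat.card (centralizer ({x} : Set G)) : ℂ) - (eN H k : ℂ)) +
        ((tN H k : ℂ) * (z : ℂ) ^ 2 - 2 * ε k * z) := by
    have hterm : ∀ χ : Rel (H k), (f k χ : G → ℂ) x * conj ((f k χ : G → ℂ) x) =
        Cfsg.extendByZero (normalizer (H k : Set G))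
          (χ.1 : ↥(normalizer (H k : Set G)) → ℂ) x *
          conj (Cfsg.extendByZero (normalizer (H k : Set G))
            (χ.1 : ↥(normalizer (H k : Set G)) → ℂ) x) +
        (ε k * z) * ((wt (H k) χ : ℂ) * Cfsg.extendByZero (normalizer (H k : Set G))
          (χ.1 : ↥(normalizer (H k : Set G)) → ℂ) x) +
        (ε k * z) * conj ((wt (H k) χ : ℂ) * Cfsg.extendByZero (normalizer (H k : Set G))
          (χ.1 : ↥(normalizer (H k : Set G)) → ℂ) x) +
        ((wt (H k) χ : ℂ)) ^ 2 * (z : ℂ) ^ 2 := by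
      intro χ
      have e1 : (wt (H k) χ : ℂ) * (z : ℂ) = (((wt (H k) χ : ℤ) * z : ℤ) : ℂ) := by push_cast; ring
      rw [hz χ x hx hx1, e1, expand_sq _ _ _ (hε k), map_mul, Complex.conj_natCast]
      push_cast
      ring
    rw [Finset.sum_congr rfl (fun χ _ => hterm χ)]
    rw [Finset.sum_add_distrib, Finset.sum_add_distrib, Finset.sum_add_distrib, hS2,
      ← Finset.mul_sum, ← Finset.mul_sum, ← map_sum, hS1, ← Finset.sum_mul]
    unfold tN tW
    simp only [map_neg, map_one]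
    push_cast
    ring
  rw [hdiag] at h1
  have ht := (even_tN H hodd hH1 hC k).2
  rcases hε k with he | he
  · rw [he] at h1
    have h2 : (1 : ℤ) + ((-(eN H k : ℤ)) + ((tN H k : ℤ) * z ^ 2 - 2 * 1 * z) +
        ∑ i ∈ Finset.univ.erase k, (tN H i : ℤ) * (c i k) ^ 2) = 0 := by
      have : (((1 : ℤ) + ((-(eN H k : ℤ)) + ((tN H k : ℤ) * z ^ 2 - 2 * 1 * z) +
        ∑ i ∈ Finset.univ.erase k, (tN H i : ℤ) * (c i k) ^ 2) : ℤ) : ℂ) = ((0 : ℤ) : ℂ) := by
        push_cast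
        push_cast at h1
        linear_combination h1
      exact_mod_cast this
    have h3 := int_ineq (tN H k : ℤ) z (by exact_mod_cast ht) 1 (Or.inl rfl)
    linarith
  · rw [he] at h1
    have h2 : (1 : ℤ) + ((-(eN H k : ℤ)) + ((tN H k : ℤ) * z ^ 2 - 2 * (-1) * z) +
        ∑ i ∈ Finset.univ.erase k, (tN H i : ℤ) * (c i k) ^ 2) = 0 := by
      have : (((1 : ℤ) + ((-(eN H k : ℤ)) + ((tN H k : ℤ) * z ^ 2 - 2 * (-1) * z) +
        ∑ i ∈ Finset.univ.erase k, (tN H i : ℤ) * (c i k) ^ 2) : ℤ) : ℂ) = ((0 : ℤ) : ℂ) := by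
        push_cast
        push_cast at h1
        linear_combination h1
      exact_mod_cast this
    have h3 := int_ineq (tN H k : ℤ) z (by exact_mod_cast ht) (-1) (Or.inr rfl)
    linarith

include hodd hH1 hC hTI hcop hcover hε hinj hind in
/-- The parity relation: the families `k` and `m` cannot both vanish on each other's subgroup. -/
theorem par_rel (c : ι → ι → ℤ)
    (hc : ∀ i k, i ≠ k → ∀ χ : Rel (H i), ∀ x ∈ H k, x ≠ 1 →
      (f i χ : G → ℂ) x = (wt (H i) χ : ℂ) * c i k)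
    (k m : ι) (hkm : k ≠ m) : c k m ≠ 0 ∨ c m k ≠ 0 := by
  by_contra hcon
  push Not at hcon
  obtain ⟨h0km, h0mk⟩ := hcon
  obtain ⟨x, hx, hx1⟩ := exists_ne_one_mem' H hH1 k
  obtain ⟨y, hy, hy1⟩ := exists_ne_one_mem' H hH1 m
  have hnc : ¬ IsConj x y := by
    intro hconj
    obtain ⟨g, hg⟩ := isConj_iff.mp hconj
    apply hx1
    have h1 : g * x * g⁻¹ ∈ H m := by rw [hg]; exact hy
    have h2 : (1 : G) * x * (1 : G)⁻¹ ∈ H k := by simpa using hx
    exact disj H hcop hkm h2 h1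
  have h1 := column_orthogonality (G := G) x y
  rw [if_neg hnc, sum_irr H hodd hH1 hC hcop hcover ε f hε hinj hind
      (fun θ => (θ : G → ℂ) x * conj ((θ : G → ℂ) y))] at h1
  have hp : (Cfsg.Agent.Lib.Helper80_CharBasic.oneIrr G : G → ℂ) x *
      conj ((Cfsg.Agent.Lib.Helper80_CharBasic.oneIrr G : G → ℂ) y) = 1 := by
    simp [Cfsg.Agent.Lib.Helper80_CharBasic.oneIrr]
  rw [hp] at h1
  have hterm : ∀ i, ∑ χ : Rel (H i), (f i χ : G → ℂ) x * conj ((f i χ : G → ℂ) y) =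
      (((tN H i : ℤ) * (if i = k ∨ i = m then 0 else c i k * c i m) : ℤ) : ℂ) := by
    intro i
    by_cases hik : i = k
    · subst hik
      rw [if_pos (Or.inl rfl), mul_zero, Int.cast_zero]
      apply Finset.sum_eq_zero
      intro χ _
      rw [hc i m hkm χ y hy hy1, h0km, Int.cast_zero, mul_zero, map_zero, mul_zero]
    · by_cases him : i = m
      · subst him
        rw [if_pos (Or.inr rfl), mul_zero, Int.cast_zero]
        apply Finset.sum_eq_zero
        intro χ _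
        rw [hc i k hik χ x hx hx1, h0mk, Int.cast_zero, mul_zero, zero_mul]
      · rw [if_neg (by tauto)]
        rw [Finset.sum_congr rfl (fun χ _ => by
          rw [hc i k hik χ x hx hx1, hc i m him χ y hy hy1, map_mul, map_intCast,
            Complex.conj_natCast])]
        unfold tN tW
        push_cast
        rw [Finset.sum_mul]
        refine Finset.sum_congr rfl (fun χ _ => ?_)
        ring
  rw [Finset.sum_congr rfl (fun i _ => hterm i)] at h1
  have h2 : (1 : ℤ) + ∑ i, (tN H i : ℤ) * (if i = k ∨ i = m then 0 else c i k * c i m) = 0 := by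
    have : (((1 : ℤ) + ∑ i, (tN H i : ℤ) * (if i = k ∨ i = m then 0 else c i k * c i m) : ℤ) : ℂ)
        = ((0 : ℤ) : ℂ) := by
      push_cast
      push_cast at h1
      exact h1
    exact_mod_cast this
  have h3 : Even (∑ i, (tN H i : ℤ) * (if i = k ∨ i = m then 0 else c i k * c i m)) := by
    apply Finset.even_sum
    intro i _
    have := (even_tN H hodd hH1 hC i).1
    exact Even.mul_right (by exact_mod_cast this) _
  obtain ⟨r, hr⟩ := h3
  omega

include hC in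
theorem real_facts (i : ι) :
    (0 : ℝ) < aN H i ∧ (0 : ℝ) < (Nat.card G : ℝ) ∧
    ((normalizer (H i : Set G)).index : ℝ) * ((aN H i : ℝ) * (eN H i : ℝ)) = (Nat.card G : ℝ) ∧
    (aN H i : ℝ) - 1 = (tN H i : ℝ) * (eN H i : ℝ) := by
  refine ⟨?_, ?_, ?_, ?_⟩
  · have : 0 < aN H i := Nat.card_pos
    exact_mod_cast this
  · have : 0 < Nat.card G := Nat.card_pos
    exact_mod_cast this
  · exact_mod_cast index_mul H i
  · have := tN_mul H hC i
    rw [← this]
    push_cast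
    ring

include hC in
/-- `t/a * c² * g = I (a - 1) c²`. -/
theorem term_conv (i : ι) (w : ℝ) :
    (tN H i : ℝ) * w / (aN H i : ℝ) * (Nat.card G : ℝ) =
      ((normalizer (H i : Set G)).index : ℝ) * (((aN H i : ℝ) - 1) * w) := by
  obtain ⟨h1, h2, h3, h4⟩ := real_facts H hC i
  rw [h4, ← h3]
  field_simp

include hC hTI hcop hcover in
/-- The class equation. -/
theorem class_rel : ∑ i, (tN H i : ℝ) / (aN H i : ℝ) = 1 - 1 / (Nat.card G : ℝ) := by
  have hcf : Cfsg.IsClassFunction G (fun _ : G => (1 : ℂ)) := fun _ _ => rfl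
  have h1 := partition_sum H hTI hcop hcover _ hcf
  rw [Finset.sum_const, Finset.card_univ, nsmul_eq_mul, mul_one, ← Nat.card_eq_fintype_card,
    Finset.sum_congr rfl (fun i _ => by rw [kSum_const, mul_one])] at h1
  have h2 : (Nat.card G : ℝ) = 1 + ∑ i, ((normalizer (H i : Set G)).index : ℝ) *
      ((aN H i : ℝ) - 1) := by
    have : ((Nat.card G : ℝ) : ℂ) = ((1 + ∑ i, ((normalizer (H i : Set G)).index : ℝ) *
      ((aN H i : ℝ) - 1) : ℝ) : ℂ) := by
      push_cast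
      exact h1
    exact_mod_cast this
  have hg : (0 : ℝ) < (Nat.card G : ℝ) := by
    have : 0 < Nat.card G := Nat.card_pos
    exact_mod_cast this
  have h3 : (∑ i, (tN H i : ℝ) / (aN H i : ℝ)) * (Nat.card G : ℝ) = (Nat.card G : ℝ) - 1 := by
    rw [Finset.sum_mul]
    have : ∀ i, (tN H i : ℝ) / (aN H i : ℝ) * (Nat.card G : ℝ) =
        ((normalizer (H i : Set G)).index : ℝ) * ((aN H i : ℝ) - 1) := by
      intro i
      have := term_conv H hC i 1
      rw [mul_one, mul_one] at this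
      exact this
    rw [Finset.sum_congr rfl (fun i _ => this i)]
    linarith
  field_simp
  linarith

include hodd hH1 hC hε hind in
/-- Degrees of the exceptional characters: `f k χ 1 = wt χ * D` with a positive integer `D`. -/
theorem exists_D (k : ι) : ∃ D : ℤ, 1 ≤ D ∧ ∀ χ : Rel (H k),
    (f k χ : G → ℂ) 1 = (wt (H k) χ : ℂ) * D := by
  obtain ⟨χ₀⟩ := nonempty_rel H hodd hH1 hC k
  have hdeg : ∀ χ : Rel (H k), ∃ d : ℕ, 0 < d ∧ (f k χ : G → ℂ) 1 = d := fun χ =>
    irr_one_eq_natCast (f k χ).2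
  choose d hdpos hd using hdeg
  have hw0 : (wt (H k) χ₀ : ℂ) ≠ 0 := by
    rw [Nat.cast_ne_zero]; exact (wt_pos (H k) (hC k) χ₀).ne'
  have hprop : ∀ χ : Rel (H k), (wt (H k) χ₀ : ℂ) * (d χ : ℂ) = (wt (H k) χ : ℂ) * (d χ₀ : ℂ) := by
    intro χ
    have := f_apply_eq H hC ε f hε hind k χ χ₀ 1 (fun _ _ => rfl)
    rw [hd χ, hd χ₀] at this
    exact this
  obtain ⟨D, hD⟩ := int_of_mul_wt (H k) (hC k) ((d χ₀ : ℂ) / (wt (H k) χ₀ : ℂ)) ⟨χ₀⟩ (by
    intro χ
    refine ⟨(d χ : ℤ), ?_⟩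
    have := hprop χ
    push_cast
    field_simp
    linear_combination -this)
  refine ⟨D, ?_, fun χ => ?_⟩
  · have h1 : (D : ℂ) * (wt (H k) χ₀ : ℂ) = (d χ₀ : ℂ) := by
      rw [← hD]; field_simp
    have h2 : D * (wt (H k) χ₀ : ℤ) = (d χ₀ : ℤ) := by exact_mod_cast h1
    have h3 : (0 : ℤ) < (d χ₀ : ℤ) := by exact_mod_cast hdpos χ₀
    have h4 : (0 : ℤ) < (wt (H k) χ₀ : ℤ) := by exact_mod_cast wt_pos (H k) (hC k) χ₀
    by_contra hlt
    push Not at hlt
    have : D ≤ 0 := by omega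
    nlinarith
  · rw [hd χ, ← hD]
    have := hprop χ
    field_simp
    linear_combination this

include hodd hH1 hC hTI hcop hcover hε hinj hind in
/-- The row relation: the norm of an exceptional character of the family `k`. -/
theorem row_rel (c : ι → ι → ℤ)
    (hc : ∀ i k, i ≠ k → ∀ χ : Rel (H i), ∀ x ∈ H k, x ≠ 1 →
      (f i χ : G → ℂ) x = (wt (H i) χ : ℂ) * c i k)
    (k : ι) :
    ∑ m ∈ Finset.univ.erase k, (tN H m : ℝ) * (c k m : ℝ) ^ 2 / (aN H m : ℝ) ≤
      (eN H k : ℝ) / (aN H k : ℝ) - 1 / (Nat.card G : ℝ) := by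
  obtain ⟨χ₀⟩ := nonempty_rel H hodd hH1 hC k
  obtain ⟨z, hz⟩ := exists_z H hC hTI ε f hε hinj hind k
  obtain ⟨D, hD1, hD⟩ := exists_D H hodd hH1 hC ε f hε hind k
  set θ := f k χ₀ with hθ
  set w : ℕ := wt (H k) χ₀ with hw
  have hwpos : 0 < w := wt_pos (H k) (hC k) χ₀
  have hθcf := isClassFunction_of_isIrrCharacter θ.2
  have hcf : Cfsg.IsClassFunction G (fun x : G => (θ : G → ℂ) x * conj ((θ : G → ℂ) x)) := by
    intro g h
    simp only
    rw [hθcf g h]
  have h1 := partition_sum H hTI hcop hcover _ hcf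
  -- the total sum
  have hnorm := classInner_self_of_isIrrCharacter θ.2
  unfold Cfsg.classInner at hnorm
  have hG0 : (Nat.card G : ℂ) ≠ 0 := card_ne_zero_complex
  have htot : ∑ g : G, (θ : G → ℂ) g * conj ((θ : G → ℂ) g) = (Nat.card G : ℂ) := by
    field_simp at hnorm
    exact hnorm
  rw [htot] at h1
  -- the degree
  have hd : (θ : G → ℂ) 1 = (w : ℂ) * (D : ℂ) := hD χ₀
  simp only [hd, map_mul, Complex.conj_natCast, map_intCast] at h1
  rw [← Finset.add_sum_erase Finset.univ _ (Finset.mem_univ k)] at h1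
  -- off-diagonal terms
  have hoff : ∀ m ∈ Finset.univ.erase k, ((normalizer (H m : Set G)).index : ℂ) *
      kSum (H m) (fun x : G => (θ : G → ℂ) x * conj ((θ : G → ℂ) x)) =
      ((normalizer (H m : Set G)).index : ℂ) *
        (((aN H m : ℂ) - 1) * ((w : ℂ) ^ 2 * (c k m : ℂ) ^ 2)) := by
    intro m hm
    have hmk := (Finset.mem_erase.mp hm).1
    rw [← kSum_const]
    congr 1
    apply kSum_congr
    intro x hx hx1
    rw [hθ, hc k m (Ne.symm hmk) χ₀ x hx hx1, map_mul, map_intCast, Complex.conj_natCast]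
    ring
  rw [Finset.sum_congr rfl hoff] at h1
  -- diagonal term
  obtain ⟨hR1, hR2⟩ := rel_row (H k) (hC k) χ₀
  have hdiag : kSum (H k) (fun x : G => (θ : G → ℂ) x * conj ((θ : G → ℂ) x)) =
      ((aN H k : ℂ) * (eN H k : ℂ) - ((eN H k : ℂ) * (w : ℂ)) ^ 2) -
        2 * (ε k * ((w : ℂ) * z)) * ((eN H k : ℂ) * (w : ℂ)) +
        ((aN H k : ℂ) - 1) * ((w : ℂ) * (z : ℂ)) ^ 2 := by
    rw [kSum_congr (H k) (F' := fun x : G =>
      (Cfsg.extendByZero (normalizer (H k : Set G))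
        (χ₀.1 : ↥(normalizer (H k : Set G)) → ℂ) x *
        conj (Cfsg.extendByZero (normalizer (H k : Set G))
          (χ₀.1 : ↥(normalizer (H k : Set G)) → ℂ) x) +
      (ε k * ((w : ℂ) * z)) * Cfsg.extendByZero (normalizer (H k : Set G))
        (χ₀.1 : ↥(normalizer (H k : Set G)) → ℂ) x) +
      ((ε k * ((w : ℂ) * z)) * conj (Cfsg.extendByZero (normalizer (H k : Set G))
        (χ₀.1 : ↥(normalizer (H k : Set G)) → ℂ) x) + ((w : ℂ) * (z : ℂ)) ^ 2)) (by
        intro x hx hx1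
        have e1 : (w : ℂ) * (z : ℂ) = (((w : ℤ) * z : ℤ) : ℂ) := by push_cast; ring
        rw [hθ, hz χ₀ x hx hx1, ← hw, e1, expand_sq _ _ _ (hε k)]
        ring)]
    rw [kSum_add, kSum_add, kSum_add, kSum_mul_left, kSum_mul_left, kSum_conj, kSum_const, hR2,
      hR1]
    simp only [map_neg, map_mul, Complex.conj_natCast]
    ring
  rw [hdiag] at h1
  -- pass to the reals
  obtain ⟨hak, hg, hIk, hatk⟩ := real_facts H hC k
  have ht := (even_tN H hodd hH1 hC k).2
  have key : ∀ e' : ℤ, (e' = 1 ∨ e' = -1) → ε k = (e' : ℂ) →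
      ∑ m ∈ Finset.univ.erase k, (tN H m : ℝ) * (c k m : ℝ) ^ 2 / (aN H m : ℝ) ≤
      (eN H k : ℝ) / (aN H k : ℝ) - 1 / (Nat.card G : ℝ) := by
    intro e' he' hεe
    rw [hεe] at h1
    have h2 : (Nat.card G : ℝ) = ((w : ℝ) * (D : ℝ)) * ((w : ℝ) * (D : ℝ)) +
        (((normalizer (H k : Set G)).index : ℝ) *
          (((aN H k : ℝ) * (eN H k : ℝ) - ((eN H k : ℝ) * (w : ℝ)) ^ 2) -
            2 * ((e' : ℝ) * ((w : ℝ) * z)) * ((eN H k : ℝ) * (w : ℝ)) +
            ((aN H k : ℝ) - 1) * ((w : ℝ) * (z : ℝ)) ^ 2) +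
        ∑ m ∈ Finset.univ.erase k, ((normalizer (H m : Set G)).index : ℝ) *
          (((aN H m : ℝ) - 1) * ((w : ℝ) ^ 2 * (c k m : ℝ) ^ 2))) := by
      have : ((Nat.card G : ℝ) : ℂ) = ((((w : ℝ) * (D : ℝ)) * ((w : ℝ) * (D : ℝ)) +
        (((normalizer (H k : Set G)).index : ℝ) *
          (((aN H k : ℝ) * (eN H k : ℝ) - ((eN H k : ℝ) * (w : ℝ)) ^ 2) -
            2 * ((e' : ℝ) * ((w : ℝ) * z)) * ((eN H k : ℝ) * (w : ℝ)) +
            ((aN H k : ℝ) - 1) * ((w : ℝ) * (z : ℝ)) ^ 2) +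
        ∑ m ∈ Finset.univ.erase k, ((normalizer (H m : Set G)).index : ℝ) *
          (((aN H m : ℝ) - 1) * ((w : ℝ) ^ 2 * (c k m : ℝ) ^ 2))) : ℝ) : ℂ) := by
        push_cast
        exact h1
      exact_mod_cast this
    have h3 : (∑ m ∈ Finset.univ.erase k, (tN H m : ℝ) * (c k m : ℝ) ^ 2 / (aN H m : ℝ)) *
        (Nat.card G : ℝ) = ∑ m ∈ Finset.univ.erase k, ((normalizer (H m : Set G)).index : ℝ) *
          (((aN H m : ℝ) - 1) * ((c k m : ℝ) ^ 2)) := by
      rw [Finset.sum_mul]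
      exact Finset.sum_congr rfl (fun m _ => term_conv H hC m _)
    have h3' : ∑ m ∈ Finset.univ.erase k, ((normalizer (H m : Set G)).index : ℝ) *
          (((aN H m : ℝ) - 1) * ((w : ℝ) ^ 2 * (c k m : ℝ) ^ 2)) =
        (w : ℝ) ^ 2 * ∑ m ∈ Finset.univ.erase k, ((normalizer (H m : Set G)).index : ℝ) *
          (((aN H m : ℝ) - 1) * ((c k m : ℝ) ^ 2)) := by
      rw [Finset.mul_sum]
      refine Finset.sum_congr rfl (fun m _ => ?_)
      ring
    have hu : (0 : ℝ) ≤ (tN H k : ℝ) * (z : ℝ) ^ 2 - 2 * (e' : ℝ) * z := by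
      have := int_ineq (tN H k : ℤ) z (by exact_mod_cast ht) e' he'
      exact_mod_cast this
    have hd1 : (1 : ℝ) ≤ (D : ℝ) * (D : ℝ) := by
      have : (1 : ℤ) ≤ D * D := by nlinarith
      exact_mod_cast this
    have hW : (0 : ℝ) < (w : ℝ) ^ 2 := by
      have : (0 : ℝ) < (w : ℝ) := by exact_mod_cast hwpos
      positivity
    set S := ∑ m ∈ Finset.univ.erase k, (tN H m : ℝ) * (c k m : ℝ) ^ 2 / (aN H m : ℝ) with hS
    set X := ((normalizer (H k : Set G)).index : ℝ) * (eN H k : ℝ) with hX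
    have hXa : X * (aN H k : ℝ) = (Nat.card G : ℝ) := by rw [← hIk, hX]; ring
    have hXpos : 0 < X := by
      by_contra hneg
      push Not at hneg
      nlinarith
    have h4 : S * (Nat.card G : ℝ) = X * (eN H k : ℝ) -
        X * ((tN H k : ℝ) * (z : ℝ) ^ 2 - 2 * (e' : ℝ) * z) - (D : ℝ) * (D : ℝ) := by
      rw [h3]
      rw [h3'] at h2
      have e5 : ((normalizer (H k : Set G)).index : ℝ) *
          (((aN H k : ℝ) * (eN H k : ℝ) - ((eN H k : ℝ) * (w : ℝ)) ^ 2) -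
            2 * ((e' : ℝ) * ((w : ℝ) * z)) * ((eN H k : ℝ) * (w : ℝ)) +
            ((aN H k : ℝ) - 1) * ((w : ℝ) * (z : ℝ)) ^ 2) =
          X * (aN H k : ℝ) - (w : ℝ) ^ 2 * (X * (eN H k : ℝ)) +
            (w : ℝ) ^ 2 * (X * ((tN H k : ℝ) * (z : ℝ) ^ 2 - 2 * (e' : ℝ) * z)) := by
        rw [hatk, hX]; ring
      rw [e5, hXa] at h2
      apply mul_left_cancel₀ hW.ne'
      linarith
    have h5 : S * (Nat.card G : ℝ) ≤ X * (eN H k : ℝ) - 1 := by
      rw [h4]
      have : 0 ≤ X * ((tN H k : ℝ) * (z : ℝ) ^ 2 - 2 * (e' : ℝ) * z) := mul_nonneg hXpos.le hu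
      linarith
    have h6 : (eN H k : ℝ) / (aN H k : ℝ) - 1 / (Nat.card G : ℝ) =
        (X * (eN H k : ℝ) - 1) / (Nat.card G : ℝ) := by
      rw [← hXa]
      field_simp
    rw [h6, le_div_iff₀ hg]
    exact h5
  rcases hε k with he | he
  · exact key 1 (Or.inl rfl) (by rw [he]; simp)
  · exact key (-1) (Or.inr rfl) (by rw [he]; simp)

end main

/-- **Peterfalvi (7.1)**, given coherence: no group of odd order is covered by the conjugates of
TI subgroups `H i` of pairwise coprime orders, each properly contained in its normalizer and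
containing the centralizers of its nonidentity elements, if for each `i` the relevant characters of
`N_G(H i)` satisfy a weighted coherence relation. -/
theorem no_partition_of_coherent {G : Type*} [Group G] [Fintype G] {ι : Type*} [Fintype ι]
    [DecidableEq ι] [Nonempty ι] (H : ι → Subgroup G) (hodd : Odd (Nat.card G))
    (hH1 : ∀ i, H i ≠ ⊥)
    (hlt : ∀ i, H i < normalizer (H i : Set G))
    (hC : ∀ i, ∀ k ∈ H i, k ≠ 1 → centralizer ({k} : Set G) ≤ H i)
    (hTI : ∀ i, ∀ g : G, g ∉ normalizer (H i : Set G) → ∀ k ∈ H i, g * k * g⁻¹ ∈ H i → k = 1)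
    (hcop : ∀ i j, i ≠ j → Nat.Coprime (Nat.card (H i)) (Nat.card (H j)))
    (hcover : ∀ g : G, g ≠ 1 → ∃ i, ∃ x : G, x * g * x⁻¹ ∈ H i)
    (ε : ι → ℂ) (f : ∀ i, Rel (H i) → Cfsg.IrrCharacter G)
    (hε : ∀ i, ε i = 1 ∨ ε i = -1) (hinj : ∀ i, Function.Injective (f i))
    (hind : ∀ i (χ ξ : Rel (H i)), Cfsg.indFun (normalizer (H i : Set G))
      ((wt (H i) ξ : ℂ) • (χ.1 : ↥(normalizer (H i : Set G)) → ℂ) -
        (wt (H i) χ : ℂ) • (ξ.1 : ↥(normalizer (H i : Set G)) → ℂ)) =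
      ε i • ((wt (H i) ξ : ℂ) • (f i χ : G → ℂ) - (wt (H i) χ : ℂ) • (f i ξ : G → ℂ))) :
    False := by
  choose c hc using fun i k => exists_c H hodd hH1 hC hcop ε f hε hinj hind i k
  have hc' : ∀ i k, i ≠ k → ∀ χ : Rel (H i), ∀ x ∈ H k, x ≠ 1 →
      (f i χ : G → ℂ) x = (wt (H i) χ : ℂ) * c i k :=
    fun i k hik => hc i k hik
  refine Cfsg.Agent.Lib.Helper31_CAEnd.endgame (aN H) (eN H) (tN H) c (Nat.card G) ?_ ?_ ?_ ?_
    ?_ ?_ ?_ ?_
  · intro i
    have := tN_mul H hC i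
    omega
  · exact fun i => (even_tN H hodd hH1 hC i).2
  · exact two_le_eN H hlt
  · intro i j hij
    by_contra hne
    have h1 := hcop i j hne
    have h2 := two_le_aN H hH1 i
    unfold aN at hij h2
    rw [← hij, Nat.coprime_self] at h1
    omega
  · exact class_rel H hC hTI hcop hcover
  · exact row_rel H hodd hH1 hC hTI hcop hcover ε f hε hinj hind c hc'
  · intro k
    have := col_rel H hodd hH1 hC hTI hcop hcover ε f hε hinj hind c hc' k
    have h2 : ((∑ i ∈ Finset.univ.erase k, (tN H i : ℤ) * (c i k) ^ 2 : ℤ) : ℝ) ≤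
        (((eN H k : ℤ) - 1 : ℤ) : ℝ) := by exact_mod_cast this
    push_cast at h2
    exact h2
  · exact par_rel H hodd hH1 hC hTI hcop hcover ε f hε hinj hind c hc'

end Cfsg.Agent.Lib.Helper31_PFMain
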