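import Mathlib
import Cfsg.Agent.Lib.Helper31_CNMax
import Cfsg.Agent.Lib.Helper31_CN
import Cfsg.Agent.Lib.Helper34_Sylow
import Cfsg.Agent.Lib.Helper31_PFMain
import Cfsg.Agent.Lib.Helper31_PFBridge
import Cfsg.Agent.S1473
import Cfsg.Agent.S1474
import Cfsg.Agent.S1477

/-!
# The Feit-Hall-Thompson CN-theorem: CN-groups of odd order are solvable (helper31)

* `false_of_minSimple`: there is no minimal simple CN-group of odd order: the maximal nilpotent
  subgroups are TI Hall subgroups with Frobenius normalizers, and one applies Peterfalvi (7.1)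
  (`Helper31_PFMain.no_partition_of_coherent`) to a set of representatives of their conjugacy
  classes.
* `isSolvable_of_CN`: the reduction to the minimal simple case.
-/

set_option autoImplicit false
set_option linter.unusedSectionVars false

namespace Cfsg.Agent.Lib.Helper31_CNFinal

open Cfsg Subgroup Cfsg.Agent.Lib.Helper34_Sylow Cfsg.Agent.Lib.Helper31_CNMax
  Cfsg.Agent.Lib.Helper31_ThreeStepMain

universe u

variable {G : Type u} [Group G] [Finite G]

/-- Maximal nilpotent subgroups. -/
def IsMaxNil (H : Subgroup G) : Prop :=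
  Group.IsNilpotent H ∧ ∀ L : Subgroup G, Group.IsNilpotent L → H ≤ L → L = H

theorem mem_normalizer_of_cj_eq {g : G} {H : Subgroup G} (h : cj g H = H) :
    g ∈ normalizer (H : Set G) := by
  rw [mem_normalizer_iff]
  intro x
  constructor
  · intro hx
    rw [← h]
    exact conj_mem_cj hx
  · intro hx
    rw [← h, mem_cj] at hx
    have e : g⁻¹ * (g * x * g⁻¹) * g = x := by group
    rwa [e] at hx

section Main

variable (hG : IsMinSimpleOddOrder G) (hCN : IsCNGroup G)

include hG hCN in
/-- A maximal nilpotent subgroup contains the centralizers of its nonidentity elements. -/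
theorem centralizer_le_maxNil {H : Subgroup G} (hH : IsMaxNil H) {k : G} (hk : k ∈ H)
    (hk1 : k ≠ 1) : centralizer ({k} : Set G) ≤ H := by
  obtain ⟨L, hCL, hLnil, hLmax⟩ := Cfsg.Agent.Lib.Helper31_CN.exists_max_nilpotent _ (hCN k hk1)
  have hkL : k ∈ L := hCL (mem_centralizer_singleton_iff.mpr rfl)
  have hord : orderOf k ≠ 1 := fun h => hk1 (orderOf_eq_one_iff.mp h)
  obtain ⟨p, hp, hpk⟩ := Nat.exists_prime_and_dvd hord
  have : Fact p.Prime := ⟨hp⟩
  have hpH : p ∣ Nat.card H := hpk.trans (Subgroup.orderOf_dvd_natCard H hk)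
  have hpL : p ∣ Nat.card L := hpk.trans (Subgroup.orderOf_dvd_natCard L hkL)
  obtain ⟨g, hg⟩ := Cfsg.Agent.Lib.Helper31_CN.conj_of_dvd hCN H L hH.1 hH.2 hLnil hLmax p hpH hpL
  by_cases hgH : H.map (MulAut.conj g).toMonoidHom = H
  · rw [hg, hgH] at hCL
    exact hCL
  · exfalso
    have hTI := maxNil_TI hG hCN H hH.1 hH.2 g hgH
    have : k ∈ H ⊓ H.map (MulAut.conj g).toMonoidHom := ⟨hk, by rw [← hg]; exact hkL⟩
    rw [hTI, mem_bot] at this
    exact hk1 this

include hG hCN in
/-- A maximal nilpotent subgroup is a TI-subgroup (elementwise form). -/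
theorem maxNil_TI_elt {H : Subgroup G} (hH : IsMaxNil H) :
    ∀ g : G, g ∉ normalizer (H : Set G) → ∀ k ∈ H, g * k * g⁻¹ ∈ H → k = 1 := by
  intro g hg k hk hgk
  have hne : cj g⁻¹ H ≠ H := by
    intro h
    apply hg
    have := mem_normalizer_of_cj_eq h
    have h2 := inv_mem this
    rwa [inv_inv] at h2
  have hTI := maxNil_TI hG hCN H hH.1 hH.2 g⁻¹ hne
  have hk2 : k ∈ cj g⁻¹ H := by
    rw [mem_cj, inv_inv]
    exact hgk
  have : k ∈ H ⊓ cj g⁻¹ H := ⟨hk, hk2⟩
  rw [hTI, mem_bot] at this
  exact this

include hG hCN in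
theorem maxNil_lt_normalizer {H : Subgroup G} (hH : IsMaxNil H) :
    H < normalizer (H : Set G) := by
  refine lt_of_le_of_ne le_normalizer ?_
  intro h
  apply not_isNilpotent_normalizer hG hCN H hH.1 hH.2
  rw [← h]
  exact hH.1

/-- The type of maximal nilpotent subgroups. -/
abbrev MaxNil (G : Type u) [Group G] : Type u := {H : Subgroup G // IsMaxNil H}

/-- Conjugacy of maximal nilpotent subgroups. -/
def conjSetoid (G : Type u) [Group G] : Setoid (MaxNil G) where
  r A B := ∃ g : G, B.1 = cj g A.1
  iseqv :=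
    { refl := fun A => ⟨1, (cj_one A.1).symm⟩
      symm := by
        rintro A B ⟨g, hg⟩
        exact ⟨g⁻¹, by rw [hg, cj_inv_cj]⟩
      trans := by
        rintro A B C ⟨g, hg⟩ ⟨h, hh⟩
        exact ⟨h * g, by rw [hh, hg, cj_mul]⟩ }

include hG hCN in
/-- **There is no minimal simple CN-group of odd order.** -/
theorem false_of_minSimple : False := by
  classical
  have : Fintype G := Fintype.ofFinite G
  let ι := Quotient (conjSetoid G)
  have : Fintype ι := Fintype.ofFinite ι
  let H : ι → Subgroup G := fun i => (Quotient.out i).1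
  have hHmax : ∀ i, IsMaxNil (H i) := fun i => (Quotient.out i).2
  have hnt : Nontrivial G := by
    have := hG.2.1
    exact IsSimpleGroup.toNontrivial
  -- every nonidentity element lies in a conjugate of a representative
  have hcover : ∀ g : G, g ≠ 1 → ∃ i, ∃ x : G, x * g * x⁻¹ ∈ H i := by
    intro g hg
    obtain ⟨M, hCM, hMnil, hMmax⟩ :=
      Cfsg.Agent.Lib.Helper31_CN.exists_max_nilpotent _ (hCN g hg)
    have hgM : g ∈ M := hCM (mem_centralizer_singleton_iff.mpr rfl)
    let A : MaxNil G := ⟨M, hMnil, hMmax⟩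
    obtain ⟨x, hx⟩ : (conjSetoid G).r (Quotient.out (Quotient.mk (conjSetoid G) A)) A :=
      Quotient.mk_out (s := conjSetoid G) A
    refine ⟨Quotient.mk (conjSetoid G) A, x⁻¹, ?_⟩
    have h1 : g ∈ cj x (H (Quotient.mk (conjSetoid G) A)) := by
      rw [← hx]
      exact hgM
    rw [mem_cj] at h1
    rwa [inv_inv]
  have hne : Nonempty ι := by
    obtain ⟨g, hg⟩ := exists_ne (1 : G)
    obtain ⟨i, -, -⟩ := hcover g hg
    exact ⟨i⟩
  have hH1 : ∀ i, H i ≠ ⊥ := fun i => maxNil_ne_bot hG (hHmax i).2
  have hlt : ∀ i, H i < normalizer (H i : Set G) := fun i =>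
    maxNil_lt_normalizer hG hCN (hHmax i)
  have hC : ∀ i, ∀ k ∈ H i, k ≠ 1 → centralizer ({k} : Set G) ≤ H i := fun i k hk hk1 =>
    centralizer_le_maxNil hG hCN (hHmax i) hk hk1
  have hTI : ∀ i, ∀ g : G, g ∉ normalizer (H i : Set G) → ∀ k ∈ H i, g * k * g⁻¹ ∈ H i → k = 1 :=
    fun i => maxNil_TI_elt hG hCN (hHmax i)
  have hcop : ∀ i j, i ≠ j → Nat.Coprime (Nat.card (H i)) (Nat.card (H j)) := by
    intro i j hij
    apply Nat.coprime_of_dvd
    intro p hp hpi hpj
    have : Fact p.Prime := ⟨hp⟩
    obtain ⟨g, hg⟩ := Cfsg.Agent.Lib.Helper31_CN.conj_of_dvd hCN (H i) (H j) (hHmax i).1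
      (hHmax i).2 (hHmax j).1 (hHmax j).2 p hpi hpj
    apply hij
    have hrel : (conjSetoid G).r (Quotient.out i) (Quotient.out j) := ⟨g, hg⟩
    have := Quotient.sound (s := conjSetoid G) hrel
    rwa [Quotient.out_eq, Quotient.out_eq] at this
  choose ε f hε hinj hind using fun i =>
    Cfsg.Agent.Lib.Helper31_PFBridge.exists_coherent_data (H i) hG.1 (hH1 i) (hlt i) (hC i)
      (hTI i)
  exact Cfsg.Agent.Lib.Helper31_PFMain.no_partition_of_coherent H hG.1 hH1 hlt hC hTI hcop
    hcover ε f hε hinj hind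

end Main

/-- **Feit-Hall-Thompson**: a CN-group of odd order is solvable (strong induction form). -/
theorem isSolvable_of_CN_aux (n : ℕ) : ∀ (G : Type u) [Group G] [Finite G], Nat.card G = n →
    Odd (Nat.card G) → IsCNGroup G → Group.IsSolvable G := by
  induction n using Nat.strong_induction_on with
  | _ n ih =>
    intro G _ _ hn hodd hCN
    by_contra hns
    -- proper subgroups are solvable
    have hsub : ∀ K : Subgroup G, K ≠ ⊤ → Group.IsSolvable K := by
      intro K hK
      have hlt : Nat.card K < n := by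
        rw [← hn]
        apply lt_of_le_of_ne (Subgroup.card_le_card_group K)
        intro h
        exact hK (Subgroup.card_eq_iff_eq_top K |>.mp h)
      exact ih (Nat.card K) hlt K rfl (Odd.of_dvd_nat hodd (Subgroup.card_subgroup_dvd_card K))
        (Cfsg.Agent.S1474.cn_subgroup hCN K)
    have hnt : Nontrivial G := by
      by_contra h
      rw [not_nontrivial_iff_subsingleton] at h
      exact hns inferInstance
    -- `G` is simple
    have hsimple : IsSimpleGroup G := by
      refine ⟨fun N hN => ?_⟩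
      by_contra hcon
      push Not at hcon
      obtain ⟨hN1, hN2⟩ := hcon
      have hNs : Group.IsSolvable N := hsub N hN2
      have hQcard : Nat.card (G ⧸ N) < n := by
        rw [← hn, ← Subgroup.index_eq_card, ← Subgroup.card_mul_index N]
        have h1 : 1 < Nat.card N := by
          have h0 : 0 < Nat.card N := Nat.card_pos
          have h2 : Nat.card N ≠ 1 := fun h => hN1 (Subgroup.card_eq_one.mp h)
          omega
        have h3 : 0 < N.index := Nat.pos_of_ne_zero Subgroup.index_ne_zero_of_finite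
        nlinarith
      have hQodd : Odd (Nat.card (G ⧸ N)) := by
        apply Odd.of_dvd_nat hodd
        rw [← Subgroup.index_eq_card]
        exact Subgroup.index_dvd_card N
      have hQs : Group.IsSolvable (G ⧸ N) :=
        ih _ hQcard (G ⧸ N) rfl hQodd (Cfsg.Agent.S1473.result hCN N hNs)
      apply hns
      exact Group.isSolvable_of_ker_le_range N.subtype (QuotientGroup.mk' N) (by
        rw [QuotientGroup.ker_mk', Subgroup.range_subtype])
    have hnc : ¬ IsMulCommutative G := by
      intro h
      apply hns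
      let _ : CommGroup G := { (inferInstance : Group G) with mul_comm := h.1.1 }
      infer_instance
    exact false_of_minSimple ⟨hodd, hsimple, hnc, hsub⟩ hCN

theorem isSolvable_of_CN (hodd : Odd (Nat.card G)) (hCN : IsCNGroup G) : Group.IsSolvable G :=
  isSolvable_of_CN_aux _ G rfl hodd hCN

end Cfsg.Agent.Lib.Helper31_CNFinal
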