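import Mathlib
import Cfsg.Agent.Lib.Helper21_TICDefs
import Cfsg.Agent.S0183

/-! S4064 package PK-A (architect helper21): basic consequences of `TIC`
(every element centralizer is a TI-subset). -/

set_option autoImplicit false

namespace Cfsg.Agent.Lib.Helper31_TIC_A

open Cfsg Cfsg.Agent.Lib.Helper21_TICDefs

variable {G : Type*} [Group G]

theorem TIC_subgroup (h : TIC G) (H : Subgroup G) : TIC H := by
  intro x g hg y hy hgy
  have hmem : ∀ c : H, c ∈ Subgroup.centralizer ({x} : Set H) ↔
      (c : G) ∈ Subgroup.centralizer ({(x : G)} : Set G) := by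
    intro c
    rw [Subgroup.mem_centralizer_singleton_iff, Subgroup.mem_centralizer_singleton_iff]
    constructor
    · intro hc
      have := congrArg (Subtype.val) hc
      simpa using this
    · intro hc
      apply Subtype.ext
      simpa using hc
  have hg' : (g : G) ∉ Subgroup.normalizer
      ((Subgroup.centralizer ({(x : G)} : Set G) : Subgroup G) : Set G) := by
    intro hn
    apply hg
    rw [Subgroup.mem_set_normalizer_iff]
    intro c
    have h1 := (Subgroup.mem_set_normalizer_iff.mp hn) (c : G)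
    show c ∈ Subgroup.centralizer ({x} : Set H) ↔ g * c * g⁻¹ ∈ Subgroup.centralizer ({x} : Set H)
    rw [hmem, hmem]
    exact h1
  have h2 := h (x : G) (g : G) hg' (y : G) ((hmem y).mp hy)
    (by
      have := (hmem (g * y * g⁻¹)).mp hgy
      simpa using this)
  exact Subtype.ext h2

theorem TIC_of_mulEquiv {G' : Type*} [Group G'] (e : G ≃* G') (h : TIC G) : TIC G' := by
  intro x g hg y hy hgy
  have hmem : ∀ c : G', c ∈ Subgroup.centralizer ({x} : Set G') ↔
      e.symm c ∈ Subgroup.centralizer ({e.symm x} : Set G) := by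
    intro c
    rw [Subgroup.mem_centralizer_singleton_iff, Subgroup.mem_centralizer_singleton_iff]
    constructor
    · intro hc
      rw [← map_mul, ← map_mul, hc]
    · intro hc
      apply e.symm.injective
      rw [map_mul, map_mul, hc]
  have hg' : e.symm g ∉ Subgroup.normalizer
      ((Subgroup.centralizer ({e.symm x} : Set G) : Subgroup G) : Set G) := by
    intro hn
    apply hg
    rw [Subgroup.mem_set_normalizer_iff]
    intro c
    have h1 := (Subgroup.mem_set_normalizer_iff.mp hn) (e.symm c)
    show c ∈ Subgroup.centralizer ({x} : Set G') ↔ g * c * g⁻¹ ∈ Subgroup.centralizer ({x} : Set G')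
    rw [hmem, hmem, map_mul, map_mul, map_inv]
    exact h1
  have h2 := h (e.symm x) (e.symm g) hg' (e.symm y) ((hmem y).mp hy)
    (by
      have := (hmem (g * y * g⁻¹)).mp hgy
      rwa [map_mul, map_mul, map_inv] at this)
  have : e.symm y = e.symm 1 := by rw [h2, map_one]
  exact e.symm.injective this

theorem TIC_normal_of_le (h : TIC G) (x : G) (M : Subgroup G) (hMn : M.Normal) (hM : M ≠ ⊥)
    (hle : M ≤ Subgroup.centralizer ({x} : Set G)) :
    (Subgroup.centralizer ({x} : Set G)).Normal := by
  rw [← Subgroup.normalizer_eq_top_iff, Subgroup.eq_top_iff']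
  intro g
  by_contra hg
  obtain ⟨m, hm1⟩ := (Subgroup.ne_bot_iff_exists_ne_one.mp hM)
  have hm' : (m : G) ≠ 1 := fun hh => hm1 (Subtype.ext hh)
  exact hm' (h x g hg (m : G) (hle m.2) (hle (hMn.conj_mem _ m.2 g)))

/-- If `C(x)` is normal and `x` is a `p`-element, then `x` lies in a normal `p`-subgroup. -/
theorem exists_normal_pgroup_of_normal_centralizer (p : ℕ) (x : G)
    (hn : (Subgroup.centralizer ({x} : Set G)).Normal) (k : ℕ) (hx : x ^ (p ^ k) = 1) :
    ∃ T : Subgroup G, T.Normal ∧ IsPGroup p T ∧ x ∈ T := by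
  set C := Subgroup.centralizer ({x} : Set G) with hC
  have : C.Normal := hn
  have hZn : (Subgroup.centralizer (C : Set G)).Normal := Subgroup.normal_centralizer
  let T : Subgroup G :=
    { carrier := {y | y ∈ C ∧ y ∈ Subgroup.centralizer (C : Set G) ∧ ∃ n : ℕ, y ^ (p ^ n) = 1}
      one_mem' := ⟨C.one_mem, Subgroup.one_mem _, 0, by simp⟩
      mul_mem' := by
        rintro a b ⟨ha1, ha2, na, hna⟩ ⟨hb1, hb2, nb, hnb⟩
        refine ⟨C.mul_mem ha1 hb1, Subgroup.mul_mem _ ha2 hb2, na + nb, ?_⟩
        have hab : Commute a b := by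
          have := (Subgroup.mem_centralizer_iff.mp hb2) a ha1
          exact this
        rw [hab.mul_pow, pow_add, pow_mul, hna, one_pow, mul_comm (p ^ na), pow_mul, hnb, one_pow,
          one_mul]
      inv_mem' := by
        rintro a ⟨ha1, ha2, na, hna⟩
        exact ⟨C.inv_mem ha1, Subgroup.inv_mem _ ha2, na, by rw [inv_pow, hna, inv_one]⟩ }
  refine ⟨T, ?_, ?_, ?_⟩
  · constructor
    rintro a ⟨ha1, ha2, na, hna⟩ g
    refine ⟨hn.conj_mem a ha1 g, hZn.conj_mem a ha2 g, na, ?_⟩
    rw [conj_pow, hna, mul_one, mul_inv_cancel]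
  · rintro ⟨a, ha1, ha2, na, hna⟩
    exact ⟨na, Subtype.ext hna⟩
  · refine ⟨?_, ?_, k, hx⟩
    · rw [hC, Subgroup.mem_centralizer_singleton_iff]
    · rw [Subgroup.mem_centralizer_iff]
      intro c hc
      have hc' : c ∈ Subgroup.centralizer ({x} : Set G) := hc
      rw [Subgroup.mem_centralizer_singleton_iff] at hc'
      exact hc'

theorem TIC_nilpotent_of_center [Finite G] (h : TIC G) (hZ : Subgroup.center G ≠ ⊥) :
    Group.IsNilpotent G := by
  have hnorm : ∀ x : G, (Subgroup.centralizer ({x} : Set G)).Normal := by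
    intro x
    exact TIC_normal_of_le h x (Subgroup.center G) inferInstance hZ
      (Subgroup.center_le_centralizer _)
  apply ((Group.isNilpotent_of_finite_tfae (G := G)).out 0 3).mpr
  intro p hp P
  constructor
  intro x hx g
  obtain ⟨k, hk⟩ := P.isPGroup' ⟨x, hx⟩
  have hk' : x ^ (p ^ k) = 1 := by
    have := congrArg Subtype.val hk
    simpa using this
  obtain ⟨T, hTn, hTp, hxT⟩ := exists_normal_pgroup_of_normal_centralizer p x (hnorm x) k hk'
  have := hTn
  have hsup : IsPGroup p ((P : Subgroup G) ⊔ T : Subgroup G) :=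
    IsPGroup.to_sup_of_normal_right P.isPGroup' hTp
  have heq : ((P : Subgroup G) ⊔ T : Subgroup G) = P := P.is_maximal' hsup le_sup_left
  have hTP : T ≤ P := by
    rw [← heq]; exact le_sup_right
  exact hTP (hTn.conj_mem x hxT g)

theorem TIC_isCN [Finite G] (h : TIC G) : Cfsg.IsCNGroup G := by
  intro g hg
  have hC : TIC (Subgroup.centralizer ({g} : Set G)) := TIC_subgroup h _
  apply TIC_nilpotent_of_center hC
  rw [Subgroup.ne_bot_iff_exists_ne_one]
  have hgC : g ∈ Subgroup.centralizer ({g} : Set G) := by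
    rw [Subgroup.mem_centralizer_singleton_iff]
  have hgZ : (⟨g, hgC⟩ : Subgroup.centralizer ({g} : Set G)) ∈
      Subgroup.center (Subgroup.centralizer ({g} : Set G)) := by
    rw [Subgroup.mem_center_iff]
    rintro ⟨c, hc⟩
    apply Subtype.ext
    rw [Subgroup.mem_centralizer_singleton_iff] at hc
    show c * g = g * c
    exact hc
  refine ⟨⟨⟨g, hgC⟩, hgZ⟩, ?_⟩
  intro h1
  apply hg
  have := congrArg (fun z : Subgroup.center (Subgroup.centralizer ({g} : Set G)) => ((z : Subgroup.centralizer ({g} : Set G)) : G)) h1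
  simpa using this

open scoped commutatorElement in
theorem not_fitTriv_of_solvable_normal [Finite G] (M : Subgroup G) (hMn : M.Normal) (hM : M ≠ ⊥)
    (hs : Group.IsSolvable M) : ¬ FitTriv G := by
  classical
  intro hF
  have := hMn
  obtain ⟨n, hn⟩ := hs.solvable
  have hex : ∃ n, derivedSeries M n = ⊥ := ⟨n, hn⟩
  set k := Nat.find hex with hk
  have hkbot : derivedSeries M k = ⊥ := Nat.find_spec hex
  have : Nontrivial M := (Subgroup.nontrivial_iff_ne_bot M).mpr hM
  have hk0 : k ≠ 0 := by
    intro h0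
    rw [h0, derivedSeries_zero] at hkbot
    exact top_ne_bot hkbot
  obtain ⟨j, hj⟩ := Nat.exists_eq_succ_of_ne_zero hk0
  set D := derivedSeries M j with hD
  have hDne : D ≠ ⊥ := by
    intro hh
    have : k ≤ j := Nat.find_min' hex hh
    omega
  have hDcomm : ∀ x ∈ D, ∀ y ∈ D, x * y = y * x := by
    intro x hx y hy
    have h1 : ⁅x, y⁆ ∈ ⁅D, D⁆ := Subgroup.commutator_mem_commutator hx hy
    have h2 : ⁅D, D⁆ = ⊥ := by
      have := hkbot
      rw [hj, derivedSeries_succ] at this
      exact this
    rw [h2, Subgroup.mem_bot, commutatorElement_def] at h1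
    have : x * y = (x * y * x⁻¹ * y⁻¹) * (y * x) := by group
    rw [this, h1, one_mul]
  have : D.Characteristic := by rw [hD]; infer_instance
  have hnorm : (D.map M.subtype).Normal := inferInstance
  have hnil : Group.IsNilpotent (D.map M.subtype) := by
    have hcm : ∀ a b : (D.map M.subtype), a * b = b * a := by
      rintro ⟨a, ha⟩ ⟨b, hb⟩
      obtain ⟨a', ha', rfl⟩ := Subgroup.mem_map.mp ha
      obtain ⟨b', hb', rfl⟩ := Subgroup.mem_map.mp hb
      apply Subtype.ext
      have := hDcomm a' ha' b' hb'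
      have h2 := congrArg Subtype.val this
      simpa using h2
    let _ : CommGroup (D.map M.subtype) :=
      { (inferInstance : Group (D.map M.subtype)) with mul_comm := hcm }
    exact CommGroup.isNilpotent
  have hbot := hF _ hnorm hnil
  apply hDne
  rw [eq_bot_iff]
  intro d hd
  have : (d : G) ∈ D.map M.subtype := Subgroup.mem_map.mpr ⟨d, hd, rfl⟩
  rw [hbot, Subgroup.mem_bot] at this
  rw [Subgroup.mem_bot]
  exact Subtype.ext this

theorem odd_normal_eq_bot [Finite G] (h : TIC G) (hF : FitTriv G) (M : Subgroup G) (hMn : M.Normal)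
    (hodd : Odd (Nat.card M)) : M = ⊥ := by
  by_contra hM
  have hCN : Cfsg.IsCNGroup M := TIC_isCN (TIC_subgroup h M)
  have hs : Group.IsSolvable M := Cfsg.Agent.S0183.result hodd hCN
  exact not_fitTriv_of_solvable_normal M hMn hM hs hF

end Cfsg.Agent.Lib.Helper31_TIC_A
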