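import Mathlib
import Cfsg.Agent.Lib.Helper21_TIC_D5
import Cfsg.Agent.Lib.Helper31_TIC_A

/-!
helper21: S4064 package D6: simplicity.
-/

set_option autoImplicit false

namespace Cfsg.Agent.Lib.Helper21_TIC_D6

open Cfsg Cfsg.Agent.Lib.Helper21_TICDefs Cfsg.Agent.Lib.Helper21_StronglyEmbedded
open Cfsg.Agent.Lib.Helper21_TIC_D1 Cfsg.Agent.Lib.Helper21_TIC_D2 Cfsg.Agent.Lib.Helper21_TIC_D3
open Cfsg.Agent.Lib.Helper21_TIC_D4 Cfsg.Agent.Lib.Helper21_TIC_D5

variable {G : Type*} [Group G]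

theorem exists_involution_of_even [Finite G] (M : Subgroup G) (hM : Even (Nat.card M)) :
    ∃ t : G, orderOf t = 2 ∧ t ∈ M := by
  have : Fact (Nat.Prime 2) := ⟨Nat.prime_two⟩
  obtain ⟨t, ht⟩ := exists_prime_orderOf_dvd_card' (G := M) 2 (even_iff_two_dvd.mp hM)
  exact ⟨t.1, by rw [← ht, Subgroup.orderOf_coe], t.2⟩

theorem mem_of_sq_mem_of_odd {M : Subgroup G} {d : G} (hodd : Odd (orderOf d))
    (h : d * d ∈ M) : d ∈ M := by
  obtain ⟨j, hj⟩ := hodd
  have h1 : d = (d * d) ^ (j + 1) := by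
    rw [← pow_two, ← pow_mul]
    have : 2 * (j + 1) = orderOf d + 1 := by omega
    rw [this, pow_succ, pow_orderOf_eq_one, one_mul]
  rw [h1]
  exact M.pow_mem h _

/-- D6. -/
theorem simple_of_localData [Finite G] (h : TIC G) (hF : FitTriv G) {N A : Subgroup G}
    (hL : LocalData N A) : IsSimpleGroup G := by
  classical
  obtain ⟨x, hx⟩ := exists_ne hL
  obtain ⟨u, hu, huN, -⟩ := exists_involution_of_ne hL x hx
  have hnt : Nontrivial G := ⟨⟨u, 1, fun h1 => huN (h1 ▸ N.one_mem)⟩⟩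
  refine { toNontrivial := hnt, eq_bot_or_eq_top_of_normal := ?_ }
  intro M hMn
  by_cases hMb : M = ⊥
  · exact Or.inl hMb
  right
  -- `M` has even order
  have hMeven : Even (Nat.card M) := by
    by_contra hodd
    rw [Nat.not_even_iff_odd] at hodd
    exact hMb (Cfsg.Agent.Lib.Helper31_TIC_A.odd_normal_eq_bot h hF M hMn hodd)
  obtain ⟨t, ht, htM⟩ := exists_involution_of_even M hMeven
  obtain ⟨s, hs, hsN⟩ := exists_involution_of_even N hL.se.2.1
  have hconj := (Cfsg.Agent.S1225.result N hL.se u hu huN s s hs hsN hs hsN).2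
  -- all involutions lie in `M`
  have hinvM : ∀ i : G, orderOf i = 2 → i ∈ M := by
    intro i hi
    obtain ⟨g, hg⟩ := isConj_iff.mp (hconj t i ht hi)
    rw [← hg]
    exact hMn.conj_mem t htM g
  have huM : u ∈ M := hinvM u hu
  have hD := twoPt_props hL u hu huN
  -- `D ≤ M`
  have hDM : twoPt N u ≤ M := by
    intro d hd
    have hinv := hD.2.2 d hd
    have hodd := odd_orderOf_of_mem_twoPt hL.se huN hd
    apply mem_of_sq_mem_of_odd hodd
    -- d⁻¹ d⁻¹ = u (d u⁻¹ d⁻¹)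
    have h1 : d⁻¹ * d⁻¹ ∈ M := by
      have : d⁻¹ * d⁻¹ = u * (d * u⁻¹ * d⁻¹) := by
        calc d⁻¹ * d⁻¹ = (u * d * u⁻¹) * d⁻¹ := by rw [hinv]
          _ = u * (d * u⁻¹ * d⁻¹) := by group
      rw [this]
      exact M.mul_mem huM (hMn.conj_mem _ (M.inv_mem huM) d)
    have : d * d = (d⁻¹ * d⁻¹)⁻¹ := by
      rw [mul_inv_rev, inv_inv]
    rw [this]
    exact M.inv_mem h1
  -- a nonidentity element of `D`
  obtain ⟨d, hd, hd1⟩ : ∃ d ∈ twoPt N u, d ≠ 1 := by
    have hc : 1 < Nat.card ↥(twoPt N u) := by rw [hD.1]; have := hL.two_le; omega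
    rw [Finite.one_lt_card_iff_nontrivial] at hc
    obtain ⟨d, hd⟩ := exists_ne (1 : ↥(twoPt N u))
    exact ⟨d.1, d.2, fun h1 => hd (Subtype.ext h1)⟩
  have hDN : twoPt N u ≤ N := inf_le_left
  -- `A ≤ M`
  have hAM : A ≤ M := by
    let φ : A → A := fun b => ⟨(b : G)⁻¹ * (d * b * d⁻¹),
      A.mul_mem (A.inv_mem b.2) (hL.conj_mem d (hDN hd) b b.2)⟩
    have hφ : Function.Injective φ := by
      intro b c hbc
      simp only [φ, Subtype.mk.injEq] at hbc
      -- (c b⁻¹) commutes with d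
      have hcomm : ((c : G) * (b : G)⁻¹) * d = d * ((c : G) * (b : G)⁻¹) := by
        have h1 : (b : G)⁻¹ * d * b = (c : G)⁻¹ * d * c := by
          have := congrArg (fun z => z * d) hbc
          calc (b : G)⁻¹ * d * b = (b : G)⁻¹ * (d * b * d⁻¹) * d := by group
            _ = (c : G)⁻¹ * (d * c * d⁻¹) * d := this
            _ = (c : G)⁻¹ * d * c := by group
        calc ((c : G) * (b : G)⁻¹) * d = c * ((b : G)⁻¹ * d * b) * (b : G)⁻¹ := by group
          _ = c * ((c : G)⁻¹ * d * c) * (b : G)⁻¹ := by rw [h1]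
          _ = d * ((c : G) * (b : G)⁻¹) := by group
      by_contra hne
      have hcb1 : (c : G) * (b : G)⁻¹ ≠ 1 := by
        intro h1
        apply hne
        apply Subtype.ext
        exact (mul_inv_eq_one.mp h1).symm
      have hcbA : (c : G) * (b : G)⁻¹ ∈ A := A.mul_mem c.2 (A.inv_mem b.2)
      have hdA : d ∈ A := by
        apply hL.cent_le _ hcbA hcb1
        rw [Subgroup.mem_centralizer_iff]
        intro z hz
        rw [Set.mem_singleton_iff] at hz
        subst hz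
        exact hcomm
      have : d ∈ twoPt N u ⊓ A := ⟨hd, hdA⟩
      rw [hD.2.1, Subgroup.mem_bot] at this
      exact hd1 this
    have hsurj : Function.Surjective φ := Finite.surjective_of_injective hφ
    intro a ha
    obtain ⟨b, hb⟩ := hsurj ⟨a, ha⟩
    have hab : a = (b : G)⁻¹ * (d * b * d⁻¹) := (congrArg Subtype.val hb).symm
    have hdM : d ∈ M := hDM hd
    rw [hab]
    have : (b : G)⁻¹ * (d * b * d⁻¹) = ((b : G)⁻¹ * d * ((b : G)⁻¹)⁻¹) * d⁻¹ := by group
    rw [this]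
    exact M.mul_mem (hMn.conj_mem d hdM _) (M.inv_mem hdM)
  -- `N ≤ M`
  have hNM : N ≤ M := by
    intro n hn
    obtain ⟨d₀, hd₀, a, ha, rfl⟩ := exists_mul_of_mem hL u hu huN n hn
    exact M.mul_mem (hDM hd₀) (hAM ha)
  -- `G ≤ M`
  rw [eq_top_iff]
  intro g _
  by_cases hgN : g ∈ N
  · exact hNM hgN
  have h2 := two_trans hL
  rw [MulAction.is_two_pretransitive_iff] at h2
  have hou : (QuotientGroup.mk 1 : G ⧸ N) ≠ QuotientGroup.mk u := by
    intro h1
    rw [QuotientGroup.eq, inv_one, one_mul] at h1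
    exact huN h1
  have hog : (QuotientGroup.mk 1 : G ⧸ N) ≠ QuotientGroup.mk g := by
    intro h1
    rw [QuotientGroup.eq, inv_one, one_mul] at h1
    exact hgN h1
  obtain ⟨g₀, hg₀, hg₀'⟩ := h2 hou hog
  have hg₀N : g₀ ∈ N := smul_mk_one_eq_iff.mp hg₀
  rw [MulAction.Quotient.smul_mk, smul_eq_mul, QuotientGroup.eq] at hg₀'
  have : g = (g₀ * u) * ((g₀ * u)⁻¹ * g) := by group
  rw [this]
  exact M.mul_mem (M.mul_mem (hNM hg₀N) huM) (hNM hg₀')

end Cfsg.Agent.Lib.Helper21_TIC_D6
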