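import Mathlib

/-!
S4064-E1 (helper21's package market for row S4064): a group `S` of order `q ^ 2` with a central
subgroup `V` of order `q`, acted on fixed-point-freely by a group `D` of order `q - 1` leaving all
element centralizers of `S` invariant, is abelian.  Pure group theory, Mathlib only.
-/

set_option autoImplicit false

namespace Cfsg.Agent.Lib.Helper73_TIC_E1

variable {G : Type*} [Group G]

/-- Semiregularity of `D` on the nonidentity cosets of `V` in `S`. -/
theorem semireg [Finite G] (S V D : Subgroup G) (hVS : V ≤ S)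
    (hDV : ∀ d ∈ D, ∀ v ∈ V, d * v * d⁻¹ ∈ V)
    (hfpf : ∀ d ∈ D, d ≠ 1 → ∀ s ∈ S, d * s = s * d → s = 1) :
    ∀ e ∈ D, ∀ x ∈ S, x ∉ V → ∀ v ∈ V, e * x * e⁻¹ = x * v → e = 1 := by
  intro e he x hx hxV v hv hex
  by_contra he1
  let φ : V → V := fun c =>
    ⟨(c : G) * (e * c * e⁻¹)⁻¹, V.mul_mem c.2 (V.inv_mem (hDV e he c c.2))⟩
  have hφinj : Function.Injective φ := by
    intro c c' hcc'
    have h1 : (c : G) * (e * c * e⁻¹)⁻¹ = (c' : G) * (e * c' * e⁻¹)⁻¹ :=
      congrArg Subtype.val hcc'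
    have h2 : (c' : G)⁻¹ * c = (e * c' * e⁻¹)⁻¹ * (e * c * e⁻¹) := by
      have : (c' : G)⁻¹ * ((c : G) * (e * c * e⁻¹)⁻¹) * (e * c * e⁻¹)
          = (c' : G)⁻¹ * ((c' : G) * (e * c' * e⁻¹)⁻¹) * (e * c * e⁻¹) := by rw [h1]
      rw [inv_mul_cancel_left, mul_assoc, inv_mul_cancel_right] at this
      exact this
    have hw : e * ((c' : G)⁻¹ * c) = ((c' : G)⁻¹ * c) * e := by
      have h3 : e * ((c' : G)⁻¹ * c) * e⁻¹ = (e * c' * e⁻¹)⁻¹ * (e * c * e⁻¹) := by group
      rw [← h2] at h3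
      calc e * ((c' : G)⁻¹ * c) = e * ((c' : G)⁻¹ * c) * e⁻¹ * e := by group
        _ = ((c' : G)⁻¹ * c) * e := by rw [h3]
    have h4 := hfpf e he he1 _ (S.mul_mem (S.inv_mem (hVS c'.2)) (hVS c.2)) hw
    apply Subtype.ext
    have h5 : (c : G) = (c' : G) := by
      have := congrArg (fun z => (c' : G) * z) h4
      simpa using this
    exact h5
  have hφsurj := Finite.injective_iff_surjective.mp hφinj
  obtain ⟨c, hc⟩ := hφsurj ⟨v, hv⟩
  have hc' : (c : G) * (e * c * e⁻¹)⁻¹ = v := congrArg Subtype.val hc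
  have hconj : e * (x * c) * e⁻¹ = x * c := by
    calc e * (x * c) * e⁻¹ = (e * x * e⁻¹) * (e * c * e⁻¹) := by group
      _ = x * v * (e * c * e⁻¹) := by rw [hex]
      _ = x * c := by rw [← hc']; group
  have hcomm : e * (x * c) = (x * c) * e := by
    calc e * (x * c) = e * (x * c) * e⁻¹ * e := by group
      _ = (x * c) * e := by rw [hconj]
  have h6 := hfpf e he he1 (x * c) (S.mul_mem hx (hVS c.2)) hcomm
  apply hxV
  have h7 : x = (c : G)⁻¹ := eq_inv_of_mul_eq_one_left h6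
  rw [h7]
  exact V.inv_mem c.2

/-- S4064-E1. -/
theorem abelian_of_module [Finite G] (S V D : Subgroup G) (q : ℕ)
    (hVS : V ≤ S) (hVc : ∀ v ∈ V, ∀ s ∈ S, v * s = s * v)
    (hV : Nat.card V = q) (hS : Nat.card S = q ^ 2) (hD : Nat.card D + 1 = q)
    (hDS : ∀ d ∈ D, ∀ s ∈ S, d * s * d⁻¹ ∈ S) (hDV : ∀ d ∈ D, ∀ v ∈ V, d * v * d⁻¹ ∈ V)
    (hfpf : ∀ d ∈ D, d ≠ 1 → ∀ s ∈ S, d * s = s * d → s = 1)
    (hinv : ∀ x ∈ S, ∀ d ∈ D, ∀ c ∈ S, c * x = x * c →
      (d * c * d⁻¹) * x = x * (d * c * d⁻¹)) :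
    ∀ a ∈ S, ∀ b ∈ S, a * b = b * a := by
  have hsemi := semireg S V D hVS hDV hfpf
  -- for `x ∈ S \ V` the centralizer of `x` in `S` is all of `S`
  have hfull : ∀ x ∈ S, x ∉ V → ∀ s ∈ S, s * x = x * s := by
    intro x hx hxV
    set C : Subgroup G := S ⊓ Subgroup.centralizer ({x} : Set G) with hC
    have hVC : ∀ v ∈ V, v ∈ C := by
      intro v hv
      exact Subgroup.mem_inf.mpr
        ⟨hVS hv, Subgroup.mem_centralizer_singleton_iff.mpr (hVc v hv x hx)⟩
    have hDC : ∀ d ∈ D, d * x * d⁻¹ ∈ C := by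
      intro d hd
      exact Subgroup.mem_inf.mpr
        ⟨hDS d hd x hx, Subgroup.mem_centralizer_singleton_iff.mpr (hinv x hx d hd x hx rfl)⟩
    let f : Option D × V → C := fun p =>
      match p.1 with
      | none => ⟨(p.2 : G), hVC _ p.2.2⟩
      | some d => ⟨(d : G) * x * (d : G)⁻¹ * (p.2 : G), C.mul_mem (hDC d d.2) (hVC _ p.2.2)⟩
    have hnotV : ∀ d ∈ D, d * x * d⁻¹ ∉ V := by
      intro d hd hmem
      apply hxV
      have := hDV d⁻¹ (D.inv_mem hd) _ hmem
      rw [inv_inv] at this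
      have e1 : d⁻¹ * (d * x * d⁻¹) * d = x := by group
      rwa [e1] at this
    have hf : Function.Injective f := by
      rintro ⟨o, v⟩ ⟨o', v'⟩ hff
      rcases o with _ | d <;> rcases o' with _ | d'
      · have h1 : (v : G) = (v' : G) := congrArg (fun z : C => (z : G)) hff
        rw [Subtype.ext h1]
      · exfalso
        have h1 : (v : G) = (d' : G) * x * (d' : G)⁻¹ * (v' : G) := congrArg (fun z : C => (z : G)) hff
        apply hnotV d' d'.2
        have h2 : (d' : G) * x * (d' : G)⁻¹ = (v : G) * (v' : G)⁻¹ := by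
          rw [h1, mul_inv_cancel_right]
        rw [h2]
        exact V.mul_mem v.2 (V.inv_mem v'.2)
      · exfalso
        have h1 : (d : G) * x * (d : G)⁻¹ * (v : G) = (v' : G) := congrArg (fun z : C => (z : G)) hff
        apply hnotV d d.2
        have h2 : (d : G) * x * (d : G)⁻¹ = (v' : G) * (v : G)⁻¹ := by
          rw [← h1, mul_inv_cancel_right]
        rw [h2]
        exact V.mul_mem v'.2 (V.inv_mem v.2)
      · have h1 : (d : G) * x * (d : G)⁻¹ * (v : G) = (d' : G) * x * (d' : G)⁻¹ * (v' : G) :=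
          congrArg (fun z : C => (z : G)) hff
        have h2 : (d : G) * x * (d : G)⁻¹ = (d' : G) * x * (d' : G)⁻¹ * ((v' : G) * (v : G)⁻¹) := by
          rw [← mul_assoc, ← h1, mul_inv_cancel_right]
        have hw : (d' : G)⁻¹ * ((v' : G) * (v : G)⁻¹) * (d' : G) ∈ V := by
          have := hDV (d' : G)⁻¹ (D.inv_mem d'.2) _ (V.mul_mem v'.2 (V.inv_mem v.2))
          rwa [inv_inv] at this
        have h3 : ((d' : G)⁻¹ * (d : G)) * x * ((d' : G)⁻¹ * (d : G))⁻¹
            = x * ((d' : G)⁻¹ * ((v' : G) * (v : G)⁻¹) * (d' : G)) := by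
          calc ((d' : G)⁻¹ * (d : G)) * x * ((d' : G)⁻¹ * (d : G))⁻¹
              = (d' : G)⁻¹ * ((d : G) * x * (d : G)⁻¹) * (d' : G) := by group
            _ = (d' : G)⁻¹ * ((d' : G) * x * (d' : G)⁻¹ * ((v' : G) * (v : G)⁻¹)) * (d' : G) := by
                rw [h2]
            _ = x * ((d' : G)⁻¹ * ((v' : G) * (v : G)⁻¹) * (d' : G)) := by group
        have h4 := hsemi _ (D.mul_mem (D.inv_mem d'.2) d.2) x hx hxV _ hw h3
        have h5 : (d : G) = (d' : G) := by
          have := congrArg (fun z => (d' : G) * z) h4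
          simpa using this
        have h6 : d = d' := Subtype.ext h5
        subst h6
        have h7 : (v : G) = (v' : G) := mul_left_cancel h1
        rw [Subtype.ext h7]
    have hcard : Nat.card (Option D × V) ≤ Nat.card C := Nat.card_le_card_of_injective f hf
    have hcard2 : Nat.card (Option D × V) = q ^ 2 := by
      rw [Nat.card_prod, Finite.card_option, hD, hV, pow_two]
    have hCS : C = S := Subgroup.eq_of_le_of_card_ge inf_le_left (by rw [hS, ← hcard2]; exact hcard)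
    intro s hs
    have hsC : s ∈ C := by rw [hCS]; exact hs
    exact Subgroup.mem_centralizer_singleton_iff.mp (Subgroup.mem_inf.mp hsC).2
  intro a ha b hb
  by_cases haV : a ∈ V
  · exact hVc a haV b hb
  · exact (hfull a ha haV b hb).symm

end Cfsg.Agent.Lib.Helper73_TIC_E1
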