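import Mathlib
import Cfsg.Agent.Lib.Helper95_FeitDefs
import Cfsg.Agent.S1535
import Cfsg.Agent.S1524
import Cfsg.Agent.Lib.Helper25_FrobTI
import Cfsg.Agent.Lib.Helper25_FrobSet
import Cfsg.Agent.Lib.Helper16_CohBasic
import Cfsg.Agent.Lib.Helper31_FeitFrob

set_option autoImplicit false

namespace Cfsg.Agent.Lib.Helper25_Feit_PD

open Cfsg MulAction Cfsg.Agent.Lib.Helper95_FeitDefs

universe u v

/-- The nice-case theorem (copy of `Helper95_FeitPackages.NTStatement`). -/
def NTStatement : Prop :=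
  ∀ {G : Type u} {Ω : Type v} [Group G] [Fintype G] [MulAction G Ω] [Fintype Ω] {a b : Ω}
    {H : Subgroup G} {h e : ℕ}, Nice G Ω a b H h e → 2 * e < h - 1 →
    IsPGroup 2 H ∧ (∃ x y : H, x * y ≠ y * x) ∧ (commutator H).index ≤ 4 * e ^ 2 + 1

/-- The character-theoretic core (copy of `Helper95_FeitPackages.CTStatement`). -/
def CTStatement : Prop :=
  ∀ {G : Type u} [Group G] [Fintype G] {N H : Subgroup G} [Fintype N] {h e : ℕ},
    ZData N H h e → 2 * e < h - 1 →
    Cfsg.IsCoherent (SS N H) {1}ᶜ (fun α : N → ℂ => Cfsg.indFun N α) → False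

section aux

variable {G : Type u} [Group G] [Fintype G]

/-- the general form: `ZData` plus a complement gives the conclusion -/
theorem aux (CT : CTStatement.{u}) {N H : Subgroup G} [Fintype N] {h e : ℕ} (hD : ZData N H h e)
    (h2e : 2 * e < h - 1) (W₁ : Subgroup G) (hinf : H ⊓ W₁ = ⊥) (hsup : H ⊔ W₁ = N) :
    IsPGroup 2 H ∧ (∃ x y : H, x * y ≠ y * x) ∧ (commutator H).index ≤ 4 * e ^ 2 + 1 := by
  classical
  have hNe := hD.normalizer_eq
  subst hNe
  set L : Subgroup G := Subgroup.normalizer (H : Set G) with hL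
  set K : Subgroup L := H.subgroupOf L with hK
  have hKn : K.Normal := by
    refine ⟨fun k hk n => ?_⟩
    rw [hK, Subgroup.mem_subgroupOf] at hk ⊢
    exact hD.H_normal n.1 n.2 k.1 hk
  -- cardinalities
  have hcK : Nat.card K = h := by
    rw [hK, Nat.card_congr (Subgroup.subgroupOfEquivOfLe hD.H_le).toEquiv, hD.card_H]
  have hcL : Nat.card L = h * e := hD.card_N
  have hh2 : 2 * e + 1 < h := by omega
  have hhpos : 0 < h := by omega
  have hKi : K.index = e := by
    have h1 := K.card_mul_index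
    rw [hcK, hcL] at h1
    exact Nat.eq_of_mul_eq_mul_left hhpos h1
  have hC : ∀ k ∈ K, k ≠ 1 → Subgroup.centralizer ({k} : Set L) ≤ K := by
    intro k hk hk1 x hx
    rw [Subgroup.mem_centralizer_singleton_iff] at hx
    rw [hK, Subgroup.mem_subgroupOf] at hk ⊢
    have hk1' : (k : G) ≠ 1 := fun h0 => hk1 (Subtype.ext h0)
    have hx' : (x : G) * (k : G) = (k : G) * (x : G) := by
      have := congrArg Subtype.val hx
      simpa using this
    exact hD.frob k.1 hk hk1' x.1 x.2 hx'
  have hfrob : ∀ k ∈ K, k ≠ 1 → ∀ x : L, x * k = k * x → x ∈ K := by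
    intro k hk hk1 x hx
    exact hC k hk hk1 (Subgroup.mem_centralizer_singleton_iff.mpr hx)
  have hcop : (Nat.card K).Coprime K.index :=
    Cfsg.Agent.Lib.Helper31_FeitFrob.coprime_card_index K hC
  have hSeq : SS L H = Cfsg.inducedIrrAbove K ⊥ :=
    Cfsg.Agent.Lib.Helper25_FrobSet.setOf_irr_eq K hfrob hcop
  have hchar : ∀ χ ∈ SS L H, Cfsg.IsCharacter L χ := by
    rintro χ ⟨⟨n, ρ, _, hρ⟩, _⟩
    exact ⟨n, ρ, hρ⟩
  have hvan : ∀ χ ∈ SS L H, ∀ x : L, (x : G) ∉ H → χ x = 0 := by
    intro χ hχ x hx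
    rw [hSeq] at hχ
    obtain ⟨θ, _, _, _, rfl⟩ := hχ
    apply Cfsg.Agent.Lib.Helper16_CohBasic.indFun_eq_zero_of_not_mem K θ
    rw [hK, Subgroup.mem_subgroupOf]
    exact hx
  obtain ⟨hτ, hτ1⟩ := Cfsg.Agent.Lib.Helper25_FrobTI.isometry_of_TI H hD.ti (SS L H) hchar hvan
  have hK1 : K ≠ ⊥ := by
    intro h0
    rw [h0, Subgroup.card_bot] at hcK
    omega
  have hK2 : K ≠ ⊤ := by
    intro h0
    rw [h0, Subgroup.index_top] at hKi
    have := hD.one_lt_e
    omega
  have hne : Nat.card K ≠ K.index + 1 := by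
    rw [hcK, hKi]; omega
  rcases Cfsg.Agent.S1535.result (N := L) (G := G) K hK1 hK2 hC hne
      (fun α : L → ℂ => Cfsg.indFun L α) hτ hτ1 with hcoh | ⟨p, hp, ⟨m, hm⟩, hnc, hidx⟩
  · exact (CT hD h2e hcoh).elim
  · have : Fact p.Prime := ⟨hp⟩
    have hcH : Nat.card H = p ^ m := by rw [hD.card_H, ← hcK, hm]
    by_cases hp2 : p = 2
    · subst hp2
      refine ⟨IsPGroup.of_card hcH, ?_, ?_⟩
      · by_contra hall
        push Not at hall
        apply hnc
        refine ⟨⟨fun x y => ?_⟩⟩
        have hx : ((x : L) : G) ∈ H := Subgroup.mem_subgroupOf.mp x.2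
        have hy : ((y : L) : G) ∈ H := Subgroup.mem_subgroupOf.mp y.2
        have := hall ⟨_, hx⟩ ⟨_, hy⟩
        apply Subtype.ext
        apply Subtype.ext
        have h3 := congrArg Subtype.val this
        simpa using h3
      · rw [hKi] at hidx
        have e1 : (⁅K, K⁆ : Subgroup L).relIndex K = (commutator K).index :=
          Cfsg.Agent.Lib.Helper31_FeitFrob.relIndex_commutator K
        have e2 : (commutator K).index = (commutator H).index := by
          set f : K ≃* H := Subgroup.subgroupOfEquivOfLe hD.H_le with hf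
          have h1 : (commutator K).map (f : K →* H) = commutator H := by
            rw [commutator_def, commutator_def, Subgroup.map_commutator,
              Subgroup.map_top_of_surjective _ f.surjective]
          rw [← h1, Subgroup.index_map_equiv]
        rw [← e2, ← e1]
        exact hidx
    · -- `p` odd: `|L|` odd, Sibley's theorem
      exfalso
      have hpodd : Odd p := hp.odd_of_ne_two hp2
      have hoddL : Odd (Nat.card L) := by
        rw [hcL, ← hcK, hm]
        exact (hpodd.pow).mul hD.e_odd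
      have hH1 : H ≠ ⊥ := by
        intro h0
        have := hD.card_H
        rw [h0, Subgroup.card_bot] at this
        omega
      have hW1 : W₁ ≠ ⊥ := by
        intro h0
        rw [h0, sup_bot_eq] at hsup
        have h1 := hD.card_H
        rw [hsup, hcL] at h1
        have := hD.one_lt_e
        nlinarith
      have hnil : Group.IsNilpotent H := (IsPGroup.of_card hcH).isNilpotent
      have hW₁L : W₁ ≤ L := by rw [← hsup]; exact le_sup_right
      have hfpf : ∀ w ∈ W₁, w ≠ 1 → ∀ x ∈ H, w * x = x * w → x = 1 := by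
        intro w hw hw1 x hx hcomm
        by_contra hx1
        have hwH := hD.frob x hx hx1 w (hW₁L hw) hcomm
        have : w ∈ H ⊓ W₁ := ⟨hwH, hw⟩
        rw [hinf, Subgroup.mem_bot] at this
        exact hw1 this
      have hcoh := Cfsg.Agent.S1524.result (G := G) H L W₁ hoddL hD.H_le hW₁L hH1 hW1 hnil
        hD.H_normal hinf hsup hfpf hD.ti rfl
      rw [← hK, ← hSeq] at hcoh
      exact CT hD h2e hcoh

end aux

/-- **PD**: the nice-case theorem from the character-theoretic core and PB1-PB3. -/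
theorem PD (CT : CTStatement.{u})
    (hB1 : ∀ {G : Type u} {Ω : Type v} [Group G] [Fintype G] [MulAction G Ω] [Fintype Ω] {a b : Ω}
      {H : Subgroup G} {h e : ℕ}, Nice G Ω a b H h e →
      (∀ n ∈ stabilizer G a, ∀ x ∈ H, n * x * n⁻¹ ∈ H) ∧
      Nat.card (stabilizer G a) = h * e ∧
      (stabilizer G a).index = h + 1 ∧
      1 < e ∧
      (∀ x ∈ H, x ≠ 1 → ∀ n ∈ stabilizer G a, n * x = x * n → n ∈ H) ∧
      Cfsg.IsTISubset (H : Set G) ∧
      Subgroup.normalizer (H : Set G) = stabilizer G a ∧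
      H ⊓ (stabilizer G a ⊓ stabilizer G b) = ⊥ ∧
      H ⊔ (stabilizer G a ⊓ stabilizer G b) = stabilizer G a)
    (hB2 : ∀ {G : Type u} {Ω : Type v} [Group G] [Fintype G] [MulAction G Ω] [Fintype Ω] {a b : Ω}
      {H : Subgroup G} {h e : ℕ}, Nice G Ω a b H h e →
      (∀ β : stabilizer G a → ℂ, Cfsg.IsClassFunction (stabilizer G a) β →
        ∀ x : stabilizer G a, (x : G) ∈ H → x ≠ 1 → Cfsg.indFun (stabilizer G a) β x = β x) ∧
      (∀ β : stabilizer G a → ℂ, Cfsg.IsClassFunction (stabilizer G a) β →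
        ∀ x : stabilizer G a, (x : G) ∉ H →
          Cfsg.indFun (stabilizer G a) β x = β x + β x⁻¹))
    (hB3 : ∀ {G : Type u} {Ω : Type v} [Group G] [Fintype G] [MulAction G Ω] [Fintype Ω] {a b : Ω}
      {H : Subgroup G} {h e : ℕ}, Nice G Ω a b H h e →
      (∀ s : G, s ∉ stabilizer G a → s * s ∈ stabilizer G a → s * s = 1) ∧
      Nat.card {s : G // s ∉ stabilizer G a ∧ s * s = 1} = h * e ∧
      Nat.card {z : G // z ∈ H ∧ z * z = 1} ≤ e + 1) :
    NTStatement.{u, v} := by
  intro G Ω _ _ _ _ a b H h e hN h2e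
  classical
  have : Fintype (stabilizer G a) := Fintype.ofFinite _
  obtain ⟨b1, b2, b3, b4, b5, b6, b7, b8, b9⟩ := hB1 hN
  obtain ⟨c1, c2⟩ := hB2 hN
  obtain ⟨d1, d2, d3⟩ := hB3 hN
  have hD : ZData (stabilizer G a) H h e :=
    { H_le := hN.H_le
      H_normal := b1
      card_H := hN.card_H
      card_N := b2
      index_N := b3
      e_odd := hN.e_odd
      one_lt_e := b4
      frob := b5
      ti := b6
      normalizer_eq := b7
      ind_H := c1
      ind_off := c2
      sq_out := d1
      card_invol_out := d2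
      invol_H := d3 }
  exact aux CT hD h2e (stabilizer G a ⊓ stabilizer G b) b8 b9

end Cfsg.Agent.Lib.Helper25_Feit_PD
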