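import Mathlib
import Cfsg.Prelude.Def_Characters
import Cfsg.Prelude.Def_OddOrderChar
import Cfsg.Agent.Lib.Helper3_CharBridge
import Cfsg.Agent.Lib.Helper3_CharOrtho
import Cfsg.Agent.Lib.Helper17_CohSys
import Cfsg.Agent.Lib.Helper25_VirtNorm

/-!
# S0885 package PC1 (helper31): exceptional characters from coherence

If `(S, {1}ᶜ, τ)` is coherent, `S` consists of irreducible characters and `τ α 1 = 0` on the
combinations vanishing at `1`, then there are a sign `ε` and an injective assignment `X` of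
irreducible characters of `G` to the members of `S` with
`τ (ξ' 1 • ξ - ξ 1 • ξ') = ε • (ξ' 1 • X ξ - ξ 1 • X ξ')`; moreover `S` has at least two members.
-/

set_option autoImplicit false

namespace Cfsg.Agent.Lib.Helper31_Feit_PC1

open Cfsg
open Cfsg.Agent.Lib.Helper3_CharBridge Cfsg.Agent.Lib.Helper3_CharOrtho
  Cfsg.Agent.Lib.Helper17_CohSys

universe u v

section Deg
variable {G : Type*} [Group G] [Fintype G]

/-- The degree of an irreducible character is a positive natural number. -/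
theorem irr_deg_pos {χ : G → ℂ} (hχ : Cfsg.IsIrrCharacter G χ) :
    ∃ n : ℕ, 0 < n ∧ χ 1 = n := by
  have hc := isCharacter_of_isIrrCharacter hχ
  obtain ⟨n, hn⟩ := char_apply_one_nat hc
  refine ⟨n, ?_, hn⟩
  rcases Nat.eq_zero_or_pos n with h0 | h0
  · exfalso
    apply isIrrCharacter_ne_zero hχ
    exact char_eq_zero_of_apply_one hc (by rw [hn, h0, Nat.cast_zero])
  · exact h0

end Deg

variable {L : Type u} [Group L] [Fintype L] {G : Type v} [Group G] [Fintype G]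

theorem PC1 (S : Set (L → ℂ)) (hirr : ∀ ξ ∈ S, Cfsg.IsIrrCharacter L ξ)
    (τ : (L → ℂ) → (G → ℂ))
    (hτ1 : ∀ α ∈ Cfsg.zspanOn S {1}ᶜ, τ α 1 = 0)
    (hcoh : Cfsg.IsCoherent S {1}ᶜ τ) :
    ∃ (ε : ℂ) (X : (L → ℂ) → (G → ℂ)), (ε = 1 ∨ ε = -1) ∧
      (∀ ξ ∈ S, Cfsg.IsIrrCharacter G (X ξ)) ∧
      (∀ ξ ∈ S, ∀ ξ' ∈ S, X ξ = X ξ' → ξ = ξ') ∧
      (∀ ξ ∈ S, ∀ ξ' ∈ S, τ (ξ' 1 • ξ - ξ 1 • ξ') = ε • (ξ' 1 • X ξ - ξ 1 • X ξ')) ∧
      (∃ ξ ∈ S, ∃ ξ' ∈ S, ξ ≠ ξ') := by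
  classical
  obtain ⟨⟨α₀, hα₀, hα₀ne⟩, τ₁, hiso, hagree⟩ := hcoh
  have hiso' : Cfsg.IsLinearIsometryOn ((Submodule.span ℤ S : Submodule ℤ (L → ℂ)) : Set (L → ℂ)) τ₁ :=
    hiso
  -- signs
  let sgn : (L → ℂ) → ℂ := fun ξ => if Cfsg.IsIrrCharacter G (τ₁ ξ) then 1 else -1
  let X : (L → ℂ) → (G → ℂ) := fun ξ => sgn ξ • τ₁ ξ
  have hsgn : ∀ ξ, sgn ξ = 1 ∨ sgn ξ = -1 := by
    intro ξ
    by_cases h : Cfsg.IsIrrCharacter G (τ₁ ξ)
    · left; simp only [sgn, if_pos h]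
    · right; simp only [sgn, if_neg h]
  have hsq : ∀ ξ, sgn ξ * sgn ξ = 1 := by
    intro ξ
    rcases hsgn ξ with h | h <;> rw [h] <;> norm_num
  have hnorm : ∀ ξ ∈ S, Cfsg.classInner (τ₁ ξ) (τ₁ ξ) = 1 := by
    intro ξ hξ
    rw [hiso.2.2.1 ξ (subset_zspan hξ) ξ (subset_zspan hξ)]
    exact classInner_self_of_isIrrCharacter (hirr ξ hξ)
  have hXirr : ∀ ξ ∈ S, Cfsg.IsIrrCharacter G (X ξ) := by
    intro ξ hξ
    have hgen := hiso.2.2.2 ξ (subset_zspan hξ)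
    rcases Cfsg.Agent.Lib.Helper25_VirtNorm.norm_one (τ₁ ξ) hgen (hnorm ξ hξ) with h | h
    · have : X ξ = τ₁ ξ := by
        simp only [X, sgn, if_pos h, one_smul]
      rw [this]; exact h
    · by_cases h' : Cfsg.IsIrrCharacter G (τ₁ ξ)
      · have : X ξ = τ₁ ξ := by
          simp only [X, sgn, if_pos h', one_smul]
        rw [this]; exact h'
      · have : X ξ = -τ₁ ξ := by
          simp only [X, sgn, if_neg h', neg_smul, one_smul]
        rw [this]; exact h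
  have hτ₁X : ∀ ξ, τ₁ ξ = sgn ξ • X ξ := by
    intro ξ
    simp only [X, smul_smul, hsq, one_smul]
  -- injectivity
  have hinj : ∀ ξ ∈ S, ∀ ξ' ∈ S, X ξ = X ξ' → ξ = ξ' := by
    intro ξ hξ ξ' hξ' hX
    by_contra hne
    have h0 : Cfsg.classInner (τ₁ ξ) (τ₁ ξ') = 0 := by
      rw [hiso.2.2.1 ξ (subset_zspan hξ) ξ' (subset_zspan hξ')]
      exact classInner_of_isIrrCharacter_of_ne (hirr ξ hξ) (hirr ξ' hξ') hne
    rw [hτ₁X ξ, hτ₁X ξ', hX, classInner_smul_left, classInner_smul_right,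
      classInner_self_of_isIrrCharacter (hXirr ξ' hξ')] at h0
    rcases hsgn ξ with h | h <;> rcases hsgn ξ' with h' | h' <;> rw [h, h'] at h0 <;>
      simp at h0
  -- the basic differences
  have hdiff : ∀ ξ ∈ S, ∀ ξ' ∈ S,
      (ξ' 1 • ξ - ξ 1 • ξ' ∈ Cfsg.zspanOn S {1}ᶜ) ∧
      τ₁ (ξ' 1 • ξ - ξ 1 • ξ') = ξ' 1 • τ₁ ξ - ξ 1 • τ₁ ξ' := by
    intro ξ hξ ξ' hξ'
    obtain ⟨n, -, hn⟩ := irr_deg_pos (hirr ξ hξ)
    obtain ⟨n', -, hn'⟩ := irr_deg_pos (hirr ξ' hξ')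
    have e1 : ξ' 1 • ξ = ((n' : ℤ)) • ξ := by
      rw [hn']; ext x; simp
    have e2 : ξ 1 • ξ' = ((n : ℤ)) • ξ' := by
      rw [hn]; ext x; simp
    have e3 : ξ' 1 • τ₁ ξ = ((n' : ℤ)) • τ₁ ξ := by
      rw [hn']; ext x; simp
    have e4 : ξ 1 • τ₁ ξ' = ((n : ℤ)) • τ₁ ξ' := by
      rw [hn]; ext x; simp
    have m1 : ((n' : ℤ)) • ξ ∈ Submodule.span ℤ S :=
      Submodule.smul_mem _ _ (Submodule.subset_span hξ)
    have m2 : ((n : ℤ)) • ξ' ∈ Submodule.span ℤ S :=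
      Submodule.smul_mem _ _ (Submodule.subset_span hξ')
    refine ⟨⟨?_, ?_⟩, ?_⟩
    · rw [e1, e2]
      exact Submodule.sub_mem _ m1 m2
    · intro x hx
      have hx' : x = 1 := by simpa using hx
      rw [hx']
      simp only [Pi.sub_apply, Pi.smul_apply, smul_eq_mul]
      ring
    · rw [e1, e2, e3, e4, map_sub_of hiso' m1 m2,
        hiso.2.1 ξ (subset_zspan hξ), hiso.2.1 ξ' (subset_zspan hξ')]
  -- equality of signs
  have hsame : ∀ ξ ∈ S, ∀ ξ' ∈ S, sgn ξ = sgn ξ' := by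
    intro ξ hξ ξ' hξ'
    obtain ⟨hmem, hlin⟩ := hdiff ξ hξ ξ' hξ'
    have h0 : τ₁ (ξ' 1 • ξ - ξ 1 • ξ') 1 = 0 := by
      rw [hagree _ hmem]; exact hτ1 _ hmem
    rw [hlin, hτ₁X ξ, hτ₁X ξ'] at h0
    obtain ⟨n, hnpos, hn⟩ := irr_deg_pos (hirr ξ hξ)
    obtain ⟨n', hn'pos, hn'⟩ := irr_deg_pos (hirr ξ' hξ')
    obtain ⟨d, hdpos, hd⟩ := irr_deg_pos (hXirr ξ hξ)
    obtain ⟨d', hd'pos, hd'⟩ := irr_deg_pos (hXirr ξ' hξ')
    simp only [Pi.sub_apply, Pi.smul_apply, smul_eq_mul, hn, hn', hd, hd'] at h0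
    have p1 : 0 < n' * d := Nat.mul_pos hn'pos hdpos
    have p2 : 0 < n * d' := Nat.mul_pos hnpos hd'pos
    rcases hsgn ξ with h | h <;> rcases hsgn ξ' with h' | h' <;> rw [h, h'] <;>
      try rfl
    · exfalso
      rw [h, h'] at h0
      have : ((n' * d + n * d' : ℕ) : ℂ) = 0 := by
        push_cast; linear_combination h0
      have := Nat.cast_eq_zero.mp this
      omega
    · exfalso
      rw [h, h'] at h0
      have : ((n' * d + n * d' : ℕ) : ℂ) = 0 := by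
        push_cast; linear_combination -h0
      have := Nat.cast_eq_zero.mp this
      omega
  -- S is nonempty
  have hSne : S.Nonempty := by
    by_contra hemp
    rw [Set.not_nonempty_iff_eq_empty] at hemp
    apply hα₀ne
    have := hα₀.1
    rw [hemp] at this
    have h2 : α₀ ∈ Submodule.span ℤ (∅ : Set (L → ℂ)) := this
    rw [Submodule.span_empty] at h2
    exact (Submodule.mem_bot ℤ).mp h2
  obtain ⟨ξ₀, hξ₀⟩ := hSne
  refine ⟨sgn ξ₀, X, hsgn ξ₀, hXirr, hinj, ?_, ?_⟩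
  · intro ξ hξ ξ' hξ'
    obtain ⟨hmem, hlin⟩ := hdiff ξ hξ ξ' hξ'
    rw [← hagree _ hmem, hlin, hτ₁X ξ, hτ₁X ξ', hsame ξ hξ ξ₀ hξ₀, hsame ξ' hξ' ξ₀ hξ₀]
    ext x
    simp only [Pi.sub_apply, Pi.smul_apply, smul_eq_mul]
    ring
  · by_contra hcon
    push Not at hcon
    have hS : S = {ξ₀} := by
      ext ξ
      constructor
      · intro hξ
        exact hcon ξ hξ ξ₀ hξ₀
      · intro hξ
        rw [Set.mem_singleton_iff] at hξ
        rw [hξ]; exact hξ₀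
    apply hα₀ne
    have h1 : α₀ ∈ Submodule.span ℤ S := hα₀.1
    rw [hS, Submodule.mem_span_singleton] at h1
    obtain ⟨z, hz⟩ := h1
    have h2 : α₀ 1 = 0 := hα₀.2 1 (by simp)
    obtain ⟨n, hnpos, hn⟩ := irr_deg_pos (hirr ξ₀ hξ₀)
    rw [← hz] at h2
    simp only [Pi.smul_apply, hn, zsmul_eq_mul] at h2
    have hz0 : z = 0 := by
      have : ((z * n : ℤ) : ℂ) = 0 := by push_cast; exact h2
      have h3 := Int.cast_eq_zero.mp this
      rcases mul_eq_zero.mp h3 with h | h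
      · exact h
      · omega
    rw [← hz, hz0, zero_smul]

end Cfsg.Agent.Lib.Helper31_Feit_PC1
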