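import Mathlib
import Cfsg.Prelude.Def_Characters
import Cfsg.Prelude.Def_OddOrderChar
import Cfsg.Agent.Lib.Helper95_FeitDefs
import Cfsg.Agent.Lib.Helper3_CharBridge
import Cfsg.Agent.Lib.Helper3_CharOrtho
import Cfsg.Agent.Lib.Helper75_Induced
import Cfsg.Agent.Lib.Helper75_CharProd
import Cfsg.Agent.Lib.Helper16_CohBasic
import Cfsg.Agent.Lib.Helper16_CohCount
import Cfsg.Agent.Lib.Helper25_FrobSet
import Cfsg.Agent.Lib.Helper31_FeitFrob
import Cfsg.Agent.Lib.Helper80_CharBasic
import Cfsg.Agent.Lib.Helper31_Feit_PC1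

/-!
# S0885 package PC2 (helper31): Gram matrix of the characters induced from the point stabiliser

For `ZData N H h e`: a general formula for `⟨Ind φ, Ind ψ⟩_G` (φ, ψ class functions of `N`) and its
three special cases (`SS`-`SS`, `N/H`-`SS`, `N/H`-`N/H`).
-/

set_option autoImplicit false
set_option linter.unusedSectionVars false
set_option linter.unusedVariables false

namespace Cfsg.Agent.Lib.Helper31_Feit_PC2

open Cfsg MulAction Cfsg.Agent.Lib.Helper95_FeitDefs
open scoped ComplexConjugate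
open Cfsg.Agent.Lib.Helper3_CharBridge Cfsg.Agent.Lib.Helper3_CharOrtho
  Cfsg.Agent.Lib.Helper75_Induced

universe u

variable {G : Type u} [Group G] [Fintype G] {N H : Subgroup G} [Fintype N] {h e : ℕ}

theorem K_normal (hD : ZData N H h e) : (H.subgroupOf N).Normal := by
  constructor
  intro k hk n
  rw [Subgroup.mem_subgroupOf] at hk ⊢
  have := hD.H_normal (n : G) n.2 (k : G) hk
  simpa using this

theorem card_K (hD : ZData N H h e) : Nat.card (H.subgroupOf N) = h := by
  rw [Nat.card_congr (Subgroup.subgroupOfEquivOfLe hD.H_le).toEquiv, hD.card_H]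

theorem h_pos (hD : ZData N H h e) : 0 < h := by
  rw [← hD.card_H]; exact Nat.card_pos

theorem index_K (hD : ZData N H h e) : (H.subgroupOf N).index = e := by
  have h1 := Subgroup.card_mul_index (H.subgroupOf N)
  rw [card_K hD, hD.card_N] at h1
  exact Nat.eq_of_mul_eq_mul_left (h_pos hD) h1

theorem frob_K (hD : ZData N H h e) :
    ∀ k ∈ H.subgroupOf N, k ≠ 1 → ∀ x : N, x * k = k * x → x ∈ H.subgroupOf N := by
  intro k hk hk1 x hx
  rw [Subgroup.mem_subgroupOf] at hk ⊢
  refine hD.frob (k : G) hk ?_ (x : G) x.2 ?_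
  · intro h1
    apply hk1
    exact Subtype.ext h1
  · have := congrArg (Subtype.val) hx
    simpa using this

theorem coprime_K (hD : ZData N H h e) :
    (Nat.card (H.subgroupOf N)).Coprime (H.subgroupOf N).index := by
  have := K_normal hD
  apply Cfsg.Agent.Lib.Helper31_FeitFrob.coprime_card_index (H.subgroupOf N)
  intro k hk hk1 x hx
  rw [Subgroup.mem_centralizer_singleton_iff] at hx
  exact frob_K hD k hk hk1 x hx

/-- Members of `SS N H` vanish off `H`. -/
theorem SS_vanish (hD : ZData N H h e) {ξ : N → ℂ} (hξ : ξ ∈ SS N H) (x : N)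
    (hx : (x : G) ∉ H) : ξ x = 0 := by
  have hK := K_normal hD
  have h1 : ξ ∈ {χ : N → ℂ | Cfsg.IsIrrCharacter N χ ∧ ∃ x ∈ H.subgroupOf N, χ x ≠ χ 1} := hξ
  rw [Cfsg.Agent.Lib.Helper25_FrobSet.setOf_irr_eq (H.subgroupOf N) (frob_K hD) (coprime_K hD)]
    at h1
  obtain ⟨θ, -, -, -, rfl⟩ := h1
  apply Cfsg.Agent.Lib.Helper16_CohBasic.indFun_eq_zero_of_not_mem
  rw [Subgroup.mem_subgroupOf]
  exact hx

theorem conj_deg {L : Type*} [Group L] [Fintype L] {χ : L → ℂ} (hχ : Cfsg.IsIrrCharacter L χ) :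
    conj (χ 1) = χ 1 := by
  obtain ⟨n, -, hn⟩ := Cfsg.Agent.Lib.Helper31_Feit_PC1.irr_deg_pos hχ
  rw [hn, Complex.conj_natCast]

open Classical in
/-- The general Gram formula. -/
theorem gram_formula (hD : ZData N H h e) (φ ψ : N → ℂ) (hψ : Cfsg.IsClassFunction N ψ) :
    Cfsg.classInner (Cfsg.indFun N φ) (Cfsg.indFun N ψ) =
      Cfsg.classInner φ ψ + (Nat.card N : ℂ)⁻¹ *
        ((h : ℂ) * φ 1 * conj (ψ 1) +
          ∑ x : N, if (x : G) ∈ H then 0 else φ x * conj (ψ x⁻¹)) := by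
  rw [frobenius_reciprocity N φ (Cfsg.indFun N ψ) (isClassFunction_indFun N ψ)]
  unfold Cfsg.classInner
  rw [← mul_add]
  congr 1
  have hval : ∀ x : N, Cfsg.indFun N ψ (x : G) =
      ψ x + ((if x = 1 then (h : ℂ) * ψ 1 else 0) + (if (x : G) ∈ H then 0 else ψ x⁻¹)) := by
    intro x
    by_cases hx1 : x = 1
    · subst hx1
      rw [if_pos rfl, if_pos (by simp), add_zero]
      have := Cfsg.Agent.Lib.Helper16_CohCount.indFun_one_index N ψ
      rw [hD.index_N] at this
      rw [show ((1 : N) : G) = 1 from rfl, this]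
      push_cast
      ring
    · rw [if_neg hx1, zero_add]
      by_cases hxH : (x : G) ∈ H
      · rw [if_pos hxH, add_zero]
        exact hD.ind_H ψ hψ x hxH hx1
      · rw [if_neg hxH]
        exact hD.ind_off ψ hψ x hxH
  simp_rw [hval]
  simp only [map_add, mul_add, Finset.sum_add_distrib]
  rw [add_right_inj]
  congr 1
  · rw [Finset.sum_eq_single (1 : N)]
    · rw [if_pos rfl, map_mul, Complex.conj_natCast]; ring
    · intro b _ hb
      rw [if_neg hb, map_zero, mul_zero]
    · intro h1; exact absurd (Finset.mem_univ _) h1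
  · apply Finset.sum_congr rfl
    intro x _
    by_cases hxH : (x : G) ∈ H
    · rw [if_pos hxH, if_pos hxH, map_zero, mul_zero]
    · rw [if_neg hxH, if_neg hxH]

theorem isClassFunction_of_irr {L : Type*} [Group L] {χ : L → ℂ} (hχ : Cfsg.IsIrrCharacter L χ) :
    Cfsg.IsClassFunction L χ := by
  intro g k
  exact Cfsg.Agent.Lib.Helper80_CharBasic.irr_conj ⟨χ, hχ⟩ g k

theorem card_N_ne (hD : ZData N H h e) : (Nat.card N : ℂ) ≠ 0 := by
  rw [Nat.cast_ne_zero]; exact Nat.card_pos.ne'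

theorem e_pos (hD : ZData N H h e) : 0 < e := by
  have := hD.one_lt_e; omega

open Classical in
theorem PC2 (hD : ZData N H h e) :
    (∀ ξ ∈ SS N H, ∀ ξ' ∈ SS N H,
      Cfsg.classInner (Cfsg.indFun N ξ) (Cfsg.indFun N ξ') =
        (if ξ = ξ' then 1 else 0) + ξ 1 * ξ' 1 / (e : ℂ)) ∧
    (∀ χ : N → ℂ, Cfsg.IsIrrCharacter N χ → (∀ x ∈ H.subgroupOf N, χ x = χ 1) → ∀ ξ ∈ SS N H,
      Cfsg.classInner (Cfsg.indFun N χ) (Cfsg.indFun N ξ) = χ 1 * ξ 1 / (e : ℂ)) ∧
    (∀ χ : N → ℂ, Cfsg.IsIrrCharacter N χ → (∀ x ∈ H.subgroupOf N, χ x = χ 1) →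
      ∀ χ' : N → ℂ, Cfsg.IsIrrCharacter N χ' → (∀ x ∈ H.subgroupOf N, χ' x = χ' 1) →
      Cfsg.classInner (Cfsg.indFun N χ) (Cfsg.indFun N χ') =
        (if χ = χ' then 1 else 0) + (if χ = Cfsg.conjFun χ' then 1 else 0)) := by
  have hh : (h : ℂ) ≠ 0 := by
    rw [Nat.cast_ne_zero]; exact (h_pos hD).ne'
  have he : (e : ℂ) ≠ 0 := by
    rw [Nat.cast_ne_zero]; exact (e_pos hD).ne'
  have hcard : (Nat.card N : ℂ) = (h : ℂ) * (e : ℂ) := by
    rw [hD.card_N]; push_cast; ring
  refine ⟨?_, ?_, ?_⟩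
  · intro ξ hξ ξ' hξ'
    rw [gram_formula hD ξ ξ' (isClassFunction_of_irr hξ'.1), classInner_irr hξ.1 hξ'.1]
    have hz : (∑ x : N, if (x : G) ∈ H then (0 : ℂ) else ξ x * conj (ξ' x⁻¹)) = 0 := by
      apply Finset.sum_eq_zero
      intro x _
      by_cases hxH : (x : G) ∈ H
      · rw [if_pos hxH]
      · rw [if_neg hxH, SS_vanish hD hξ x hxH, zero_mul]
    rw [hz, add_zero, conj_deg hξ'.1, hcard]
    congr 1
    field_simp
  · intro χ hχ hker ξ hξ
    rw [gram_formula hD χ ξ (isClassFunction_of_irr hξ.1)]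
    have hne : χ ≠ ξ := by
      rintro rfl
      obtain ⟨x, hx, hx1⟩ := hξ.2
      exact hx1 (hker x hx)
    rw [classInner_of_isIrrCharacter_of_ne hχ hξ.1 hne, zero_add]
    have hz : (∑ x : N, if (x : G) ∈ H then (0 : ℂ) else χ x * conj (ξ x⁻¹)) = 0 := by
      apply Finset.sum_eq_zero
      intro x _
      by_cases hxH : (x : G) ∈ H
      · rw [if_pos hxH]
      · rw [if_neg hxH]
        have hx' : ((x⁻¹ : N) : G) ∉ H := by
          intro hc
          apply hxH
          have := H.inv_mem hc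
          simpa using this
        rw [SS_vanish hD hξ x⁻¹ hx', map_zero, mul_zero]
    rw [hz, add_zero, conj_deg hξ.1, hcard]
    field_simp
  · intro χ hχ hker χ' hχ' hker'
    rw [gram_formula hD χ χ' (isClassFunction_of_irr hχ'), classInner_irr hχ hχ']
    have hconjirr : Cfsg.IsIrrCharacter N (Cfsg.conjFun χ') :=
      Cfsg.Agent.Lib.Helper75_CharProd.isIrrCharacter_conj hχ'
    have hsum : (∑ x : N, if (x : G) ∈ H then (0 : ℂ) else χ x * conj (χ' x⁻¹)) =
        (Nat.card N : ℂ) * Cfsg.classInner χ (Cfsg.conjFun χ') - (h : ℂ) * χ 1 * χ' 1 := by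
      have e1 : (Nat.card N : ℂ) * Cfsg.classInner χ (Cfsg.conjFun χ') = ∑ x : N, χ x * χ' x := by
        unfold Cfsg.classInner Cfsg.conjFun
        rw [← mul_assoc, mul_inv_cancel₀ (card_N_ne hD), one_mul]
        apply Finset.sum_congr rfl
        intro x _
        rw [Complex.conj_conj]
      have e2 : (h : ℂ) * χ 1 * χ' 1 = ∑ x : N, if (x : G) ∈ H then χ x * χ' x else 0 := by
        have e3 : ∀ x : N, (if (x : G) ∈ H then χ x * χ' x else 0) =
            (if x ∈ H.subgroupOf N then χ 1 * χ' 1 else 0) := by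
          intro x
          by_cases hxH : (x : G) ∈ H
          · have hxK : x ∈ H.subgroupOf N := by rw [Subgroup.mem_subgroupOf]; exact hxH
            rw [if_pos hxH, if_pos hxK, hker x hxK, hker' x hxK]
          · have hxK : x ∉ H.subgroupOf N := by rw [Subgroup.mem_subgroupOf]; exact hxH
            rw [if_neg hxH, if_neg hxK]
        simp_rw [e3]
        rw [← Finset.sum_filter, Finset.sum_const, nsmul_eq_mul]
        have e4 : (Finset.univ.filter (fun x : N => x ∈ H.subgroupOf N)).card = h := by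
          rw [← card_K hD, Nat.card_eq_fintype_card, Fintype.card_subtype]
        rw [e4]; ring
      rw [e1, e2, ← Finset.sum_sub_distrib]
      apply Finset.sum_congr rfl
      intro x _
      have hinv : conj (χ' x⁻¹) = χ' x := by
        have := Cfsg.Agent.Lib.Helper80_CharBasic.irr_inv ⟨χ', hχ'⟩ x
        simp only at this
        rw [this, Complex.conj_conj]
      by_cases hxH : (x : G) ∈ H
      · rw [if_pos hxH, if_pos hxH, sub_self]
      · rw [if_neg hxH, if_neg hxH, sub_zero, hinv]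
    rw [hsum, conj_deg hχ', classInner_irr hχ hconjirr]
    have hN := card_N_ne hD
    field_simp
    ring

end Cfsg.Agent.Lib.Helper31_Feit_PC2
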