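import Mathlib
import Cfsg.Agent.Lib.Helper95_FeitDefs
import Cfsg.Agent.Lib.Helper75_Induced
import Cfsg.Agent.Lib.Helper75_IndChar
import Cfsg.Agent.Lib.Helper75_CharArith
import Cfsg.Agent.Lib.Helper80_CharBasic

/-!
# S0885 (Feit), package PE2 (helper72)

The restriction to `N` of the exceptional character `X` is the irreducible character `ξ₀`.
-/

set_option autoImplicit false

namespace Cfsg.Agent.Lib.Helper72_Feit_PE2

open Cfsg MulAction Cfsg.Agent.Lib.Helper95_FeitDefs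
open scoped ComplexConjugate
open Cfsg.Agent.Lib.Helper3_CharBridge Cfsg.Agent.Lib.Helper3_CharOrtho
  Cfsg.Agent.Lib.Helper3_CharComplete Cfsg.Agent.Lib.Helper75_CharArith
  Cfsg.Agent.Lib.Helper75_Induced Cfsg.Agent.Lib.Helper80_CharBasic

universe u

/-- A character `π` of norm `1 + t`, containing the principal character `t ≤ 1` times and
containing the non-principal irreducible character `X`, equals `t • 1 + X`. -/
theorem char_eq_of_norm {G : Type*} [Group G] [Fintype G] {π X : G → ℂ}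
    (hπ : Cfsg.IsCharacter G π) (hX : Cfsg.IsIrrCharacter G X) (hX1 : X ≠ fun _ => 1)
    {t : ℕ} (ht : t ≤ 1) (h1 : Cfsg.classInner π (fun _ => 1) = t)
    (hn : Cfsg.classInner π π = 1 + t) (hne : Cfsg.classInner π X ≠ 0) :
    π = (t : ℂ) • (fun _ => (1 : ℂ)) + X := by
  classical
  obtain ⟨m, hm, hsum⟩ := exists_multiplicities hπ
  set o : Cfsg.IrrCharacter G := ⟨fun _ => 1, isIrrCharacter_one G⟩ with ho
  set x : Cfsg.IrrCharacter G := ⟨X, hX⟩ with hx
  have hox : o ≠ x := fun h => hX1 (congrArg Subtype.val h).symm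
  have hmo : m o = t := by
    have h2 : ((m o : ℕ) : ℂ) = (t : ℂ) := by rw [← hm o]; exact h1
    exact_mod_cast h2
  have hmx : m x ≠ 0 := by
    intro h0
    apply hne
    have := hm x
    rw [h0] at this
    simpa using this
  have hsq : ∑ Φ : Cfsg.IrrCharacter G, m Φ * m Φ = 1 + t := by
    have h2 := classInner_self_eq_sum (isClassFunction_of_isCharacter hπ)
    rw [hn] at h2
    have h3 : ((1 + t : ℕ) : ℂ) = ((∑ Φ : Cfsg.IrrCharacter G, m Φ * m Φ : ℕ) : ℂ) := by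
      push_cast
      rw [h2]
      apply Finset.sum_congr rfl
      intro Φ _
      rw [hm Φ, Complex.conj_natCast]
    exact_mod_cast h3.symm
  have hpair : m o * m o + m x * m x ≤ 1 + t := by
    rw [← hsq]
    have := Finset.sum_le_univ_sum_of_nonneg (s := ({o, x} : Finset (Cfsg.IrrCharacter G)))
      (f := fun Φ => m Φ * m Φ) (fun _ => Nat.zero_le _)
    rwa [Finset.sum_pair hox] at this
  have hmx1 : m x = 1 := by
    rw [hmo] at hpair
    have h5 : m x * m x ≤ 1 := by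
      interval_cases t <;> omega
    have h6 : m x ≤ 1 := by
      by_contra hcon
      have : 2 ≤ m x := by omega
      nlinarith
    omega
  have hother : ∀ Φ : Cfsg.IrrCharacter G, Φ ≠ o → Φ ≠ x → m Φ = 0 := by
    intro Φ hΦo hΦx
    have := Finset.sum_le_univ_sum_of_nonneg (s := ({o, x, Φ} : Finset (Cfsg.IrrCharacter G)))
      (f := fun Φ => m Φ * m Φ) (fun _ => Nat.zero_le _)
    rw [hsq, Finset.sum_insert (by simp [hox, hΦo.symm]), Finset.sum_pair hΦx.symm, hmo, hmx1] at this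
    have h5 : m Φ * m Φ = 0 := by
      interval_cases t <;> omega
    exact mul_self_eq_zero.mp h5
  rw [hsum]
  rw [Finset.sum_eq_add o x hox]
  · rw [hmo, hmx1]
    simp [ho, hx]
  · intro Φ _ hΦ
    rw [hother Φ hΦ.1 hΦ.2]
    simp
  · intro h; exact absurd (Finset.mem_univ _) h
  · intro h; exact absurd (Finset.mem_univ _) h

variable {G : Type u} [Group G] [Fintype G] {N H : Subgroup G} [Fintype N] {h e : ℕ}

theorem conjFun_one {X : Type*} : Cfsg.conjFun (fun _ : X => (1 : ℂ)) = fun _ => 1 := by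
  funext x
  simp [Cfsg.conjFun]

open Classical in
/-- **PE2**. -/
theorem PE2 (hD : ZData N H h e)
    (hC0 : ∀ χ : N → ℂ, Cfsg.IsIrrCharacter N χ → (∀ x ∈ H.subgroupOf N, χ x = χ 1) →
      χ ≠ (fun _ => 1) → Cfsg.conjFun χ ≠ χ)
    (hC2b : ∀ χ : N → ℂ, Cfsg.IsIrrCharacter N χ → (∀ x ∈ H.subgroupOf N, χ x = χ 1) →
      ∀ ξ ∈ SS N H, Cfsg.classInner (Cfsg.indFun N χ) (Cfsg.indFun N ξ) = χ 1 * ξ 1 / (e : ℂ))
    (hC2c : ∀ χ : N → ℂ, Cfsg.IsIrrCharacter N χ → (∀ x ∈ H.subgroupOf N, χ x = χ 1) →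
      ∀ χ' : N → ℂ, Cfsg.IsIrrCharacter N χ' → (∀ x ∈ H.subgroupOf N, χ' x = χ' 1) →
      Cfsg.classInner (Cfsg.indFun N χ) (Cfsg.indFun N χ') =
        (if χ = χ' then 1 else 0) + (if χ = Cfsg.conjFun χ' then 1 else 0))
    {ξ₀ ξ₁ : N → ℂ} (hξ₀ : ξ₀ ∈ SS N H) (hξ₁ : ξ₁ ∈ SS N H) (hne : ξ₁ ≠ ξ₀)
    {X : G → ℂ} (hX : Cfsg.IsIrrCharacter G X)
    (hmult : ∀ ξ ∈ SS N H, Cfsg.classInner (Cfsg.indFun N ξ) X = if ξ = ξ₀ then 1 else 0) :
    ∀ x : N, X x = ξ₀ x := by
  have he0 : (e : ℂ) ≠ 0 := by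
    have := hD.one_lt_e
    exact_mod_cast (by omega : e ≠ 0)
  have hXcf : Cfsg.IsClassFunction G X := isClassFunction_of_isIrrCharacter hX
  have h1cf : Cfsg.IsClassFunction G (fun _ => (1 : ℂ)) := fun _ _ => rfl
  -- members of SS are not principal
  have hSSne : ∀ ξ ∈ SS N H, ξ ≠ fun _ => 1 := by
    intro ξ hξ h1
    obtain ⟨-, x, -, hx⟩ := hξ
    apply hx
    rw [h1]
  have hSSind1 : ∀ ξ ∈ SS N H, Cfsg.classInner (Cfsg.indFun N ξ) (fun _ => (1 : ℂ)) = 0 := by
    intro ξ hξ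
    rw [frobenius_reciprocity N ξ _ h1cf]
    exact classInner_of_isIrrCharacter_of_ne hξ.1 (isIrrCharacter_one N) (hSSne ξ hξ)
  -- X is not principal
  have hX1 : X ≠ fun _ => 1 := by
    intro hX1
    have h2 := hmult ξ₀ hξ₀
    rw [if_pos rfl, hX1, hSSind1 ξ₀ hξ₀] at h2
    exact zero_ne_one h2
  -- main claim
  have hclaim : ∀ χ : N → ℂ, Cfsg.IsIrrCharacter N χ → (∀ x ∈ H.subgroupOf N, χ x = χ 1) →
      Cfsg.classInner (Cfsg.indFun N χ) X = 0 := by
    intro χ hχ htriv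
    by_contra hne0
    have hπ : Cfsg.IsCharacter G (Cfsg.indFun N χ) :=
      Cfsg.Agent.Lib.Helper75_IndChar.isCharacter_indFun N (isCharacter_of_isIrrCharacter hχ)
    set t : ℕ := if χ = (fun _ => (1 : ℂ)) then 1 else 0 with ht
    have ht1 : t ≤ 1 := by rw [ht]; split_ifs <;> omega
    have h1 : Cfsg.classInner (Cfsg.indFun N χ) (fun _ => (1 : ℂ)) = t := by
      rw [frobenius_reciprocity N χ _ h1cf, classInner_irr hχ (isIrrCharacter_one N), ht]
      split_ifs <;> simp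
    have hn : Cfsg.classInner (Cfsg.indFun N χ) (Cfsg.indFun N χ) = 1 + t := by
      rw [hC2c χ hχ htriv χ hχ htriv, if_pos rfl, ht]
      by_cases hχ1 : χ = fun _ => (1 : ℂ)
      · rw [if_pos hχ1, if_pos]
        · simp
        · rw [hχ1, conjFun_one]
      · rw [if_neg hχ1, if_neg]
        · simp
        · exact fun h => hC0 χ hχ htriv hχ1 h.symm
    have hdec := char_eq_of_norm hπ hX hX1 ht1 h1 hn hne0
    -- inner product with Ind ξ₁
    have h2 : Cfsg.classInner (Cfsg.indFun N ξ₁) (Cfsg.indFun N χ) = 0 := by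
      rw [hdec, classInner_add_right, classInner_smul_right, hSSind1 ξ₁ hξ₁, hmult ξ₁ hξ₁,
        if_neg hne]
      simp
    have h3 := hC2b χ hχ htriv ξ₁ hξ₁
    rw [← classInner_conj_symm, h2, map_zero] at h3
    obtain ⟨n, hn0, hn1⟩ := irr_apply_one ⟨χ, hχ⟩
    obtain ⟨k, hk0, hk1⟩ := irr_apply_one ⟨ξ₁, hξ₁.1⟩
    simp only at hn1 hk1
    rw [hn1, hk1] at h3
    have hn' : (n : ℂ) ≠ 0 := by exact_mod_cast hn0.ne'
    have hk' : (k : ℂ) ≠ 0 := by exact_mod_cast hk0.ne'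
    exact (div_ne_zero (mul_ne_zero hn' hk') he0) h3.symm
  -- the restriction
  set ψ : N → ℂ := fun x : N => X x with hψ
  have hψcf : Cfsg.IsClassFunction N ψ := by
    intro g k
    simp only [hψ]
    have := hXcf (g : G) (k : G)
    simpa using this
  have hcoef : ∀ χ : Cfsg.IrrCharacter N,
      Cfsg.classInner ψ (χ : N → ℂ) = if (χ : N → ℂ) = ξ₀ then 1 else 0 := by
    intro χ
    have h4 : Cfsg.classInner (χ : N → ℂ) ψ = if (χ : N → ℂ) = ξ₀ then 1 else 0 := by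
      rw [← frobenius_reciprocity N (χ : N → ℂ) X hXcf]
      by_cases hχS : (χ : N → ℂ) ∈ SS N H
      · exact hmult _ hχS
      · have htriv : ∀ x ∈ H.subgroupOf N, (χ : N → ℂ) x = (χ : N → ℂ) 1 := by
          intro x hx
          by_contra hcon
          exact hχS ⟨χ.2, x, hx, hcon⟩
        rw [hclaim _ χ.2 htriv, if_neg]
        intro h5
        exact hχS (h5 ▸ hξ₀)
    rw [← classInner_conj_symm, h4]
    split_ifs <;> simp
  have hfin : ψ = ξ₀ := by
    rw [classFunction_eq_sum ψ hψcf]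
    rw [Finset.sum_eq_single (⟨ξ₀, hξ₀.1⟩ : Cfsg.IrrCharacter N)]
    · rw [hcoef, if_pos rfl, one_smul]
    · intro χ _ hχne
      rw [hcoef, if_neg, zero_smul]
      intro h5
      exact hχne (Subtype.ext h5)
    · intro h; exact absurd (Finset.mem_univ _) h
  intro x
  exact congrFun hfin x

end Cfsg.Agent.Lib.Helper72_Feit_PE2
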