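import Mathlib
import Cfsg.Agent.Lib.Helper95_FeitDefs
import Cfsg.Agent.Lib.Helper75_Induced
import Cfsg.Agent.Lib.Helper75_IndChar
import Cfsg.Agent.Lib.Helper75_CharArith
import Cfsg.Agent.Lib.Helper75_CharProd
import Cfsg.Agent.Lib.Helper80_CharBasic
import Cfsg.Agent.Lib.Helper16_SectionNorm

/-!
# S0885 (Feit), package PE3 (helper72)

The degree inequality: an irreducible character `X` of `G` whose restriction to `N` is a member
`ξ₀` of `SS` of degree `e` vanishing off `H` cannot exist when `2 e < h - 1`.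
-/

set_option autoImplicit false

namespace Cfsg.Agent.Lib.Helper72_Feit_PE3

open Cfsg MulAction Cfsg.Agent.Lib.Helper95_FeitDefs
open scoped ComplexConjugate
open Cfsg.Agent.Lib.Helper3_CharBridge Cfsg.Agent.Lib.Helper3_CharOrtho
  Cfsg.Agent.Lib.Helper3_CharComplete Cfsg.Agent.Lib.Helper75_CharArith
  Cfsg.Agent.Lib.Helper75_Induced Cfsg.Agent.Lib.Helper80_CharBasic

universe u

variable {G : Type u} [Group G] [Fintype G] {N H : Subgroup G} [Fintype N] {h e : ℕ}

theorem conjFun_one' {X : Type*} : Cfsg.conjFun (fun _ : X => (1 : ℂ)) = fun _ => 1 := by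
  funext x
  simp [Cfsg.conjFun]

/-- The inner product `⟨χ, (X conj X)|_N⟩` for `χ` trivial on `K`. -/
theorem classInner_res_sq {ξ₀ : N → ℂ} (hξ₀ : Cfsg.IsIrrCharacter N ξ₀)
    (hvan : ∀ x : N, (x : G) ∉ H → ξ₀ x = 0) {χ : N → ℂ}
    (htriv : ∀ x ∈ H.subgroupOf N, χ x = χ 1) :
    Cfsg.classInner χ (fun x : N => ξ₀ x * conj (ξ₀ x)) = χ 1 := by
  have h1 : ∀ x : N, χ x * conj (ξ₀ x * conj (ξ₀ x)) = χ 1 * (ξ₀ x * conj (ξ₀ x)) := by
    intro x
    by_cases hx : (x : G) ∈ H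
    · rw [htriv x (Subgroup.mem_subgroupOf.mpr hx), map_mul, Complex.conj_conj]
      ring
    · rw [hvan x hx]
      simp
  have h2 := classInner_self_of_isIrrCharacter hξ₀
  unfold Cfsg.classInner at h2 ⊢
  rw [Finset.sum_congr rfl fun x _ => h1 x, ← Finset.mul_sum, mul_left_comm, h2, mul_one]

open Classical in
/-- **PE3**. -/
theorem PE3 (hD : ZData N H h e) (hhe : 2 * e < h - 1)
    (hC0 : ∀ χ : N → ℂ, Cfsg.IsIrrCharacter N χ → (∀ x ∈ H.subgroupOf N, χ x = χ 1) →
      χ ≠ (fun _ => 1) → Cfsg.conjFun χ ≠ χ)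
    (hC2c : ∀ χ : N → ℂ, Cfsg.IsIrrCharacter N χ → (∀ x ∈ H.subgroupOf N, χ x = χ 1) →
      ∀ χ' : N → ℂ, Cfsg.IsIrrCharacter N χ' → (∀ x ∈ H.subgroupOf N, χ' x = χ' 1) →
      Cfsg.classInner (Cfsg.indFun N χ) (Cfsg.indFun N χ') =
        (if χ = χ' then 1 else 0) + (if χ = Cfsg.conjFun χ' then 1 else 0))
    {ξ₀ : N → ℂ} (hξ₀ : ξ₀ ∈ SS N H) (hdeg : ξ₀ 1 = (e : ℂ))
    (hvan : ∀ x : N, (x : G) ∉ H → ξ₀ x = 0)
    {X : G → ℂ} (hX : Cfsg.IsIrrCharacter G X) (hres : ∀ x : N, X x = ξ₀ x) : False := by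
  have he1 := hD.one_lt_e
  have hh2 : 2 * e + 2 ≤ h := by omega
  have hXch : Cfsg.IsCharacter G X := isCharacter_of_isIrrCharacter hX
  have h1cf : Cfsg.IsClassFunction G (fun _ => (1 : ℂ)) := fun _ _ => rfl
  set K : Subgroup N := H.subgroupOf N with hK
  have hKn : K.Normal := ⟨fun x hx n => by
    rw [hK, Subgroup.mem_subgroupOf] at hx ⊢
    have := hD.H_normal n n.2 x hx
    simpa using this⟩
  have hKcard : Nat.card K = h := by
    rw [hK, ← hD.card_H]
    exact Nat.card_congr (Subgroup.subgroupOfEquivOfLe hD.H_le).toEquiv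
  have hKidx : K.index = e := by
    have := K.card_mul_index
    rw [hKcard, hD.card_N] at this
    exact Nat.eq_of_mul_eq_mul_left (by omega) this
  -- degrees
  choose d hd0 hd using (irr_apply_one : ∀ χ : Cfsg.IrrCharacter N, _)
  choose D hD0 hDeq using (irr_apply_one : ∀ Φ : Cfsg.IrrCharacter G, _)
  set oN : Cfsg.IrrCharacter N := ⟨fun _ => 1, isIrrCharacter_one N⟩ with hoN
  set o : Cfsg.IrrCharacter G := ⟨fun _ => 1, isIrrCharacter_one G⟩ with ho
  have hdoN : d oN = 1 := by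
    have := hd oN
    simp only [hoN] at this
    exact_mod_cast this.symm
  have hDo : D o = 1 := by
    have := hDeq o
    simp only [ho] at this
    exact_mod_cast this.symm
  -- sum of squares of degrees over K
  let triv : Cfsg.IrrCharacter N → Prop := fun χ => ∀ n ∈ K, (χ : N → ℂ) n = (χ : N → ℂ) 1
  have hsqC := Cfsg.Agent.Lib.Helper16_SectionNorm.sum_deg_sq_of_kernel K
  have hsqN : ∑ χ : Cfsg.IrrCharacter N, (if triv χ then d χ * d χ else 0) = e := by
    have h3 : ((∑ χ : Cfsg.IrrCharacter N, (if triv χ then d χ * d χ else 0) : ℕ) : ℂ) = (e : ℂ) := by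
      rw [← hKidx, ← hsqC]
      push_cast
      apply Finset.sum_congr rfl
      intro χ _
      by_cases hχ : triv χ
      · rw [if_pos hχ, if_pos hχ, hd χ, Complex.conj_natCast]
      · rw [if_neg hχ, if_neg hχ]
    exact_mod_cast h3
  set T : Finset (Cfsg.IrrCharacter N) := (Finset.univ.filter triv).erase oN with hT
  have hmemT : ∀ χ : Cfsg.IrrCharacter N, χ ∈ T ↔ χ ≠ oN ∧ triv χ := by
    intro χ
    simp [hT]
  have hsumT : 1 + ∑ χ ∈ T, d χ * d χ = e := by
    rw [← hsqN, ← Finset.sum_filter]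
    have hmem : oN ∈ Finset.univ.filter triv := by
      simp only [Finset.mem_filter, Finset.mem_univ, true_and]
      intro n _
      rfl
    rw [← Finset.add_sum_erase _ _ hmem, hdoN]
  -- the character Y = X * conj X
  set Y : G → ℂ := fun g => X g * conj (X g) with hY
  have hYch : Cfsg.IsCharacter G Y :=
    Cfsg.Agent.Lib.Helper75_CharProd.isCharacter_mul hXch
      (Cfsg.Agent.Lib.Helper75_CharProd.isCharacter_conj hXch)
  have hYcf : Cfsg.IsClassFunction G Y := isClassFunction_of_isCharacter hYch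
  obtain ⟨m, hm, hsum⟩ := exists_multiplicities hYch
  have hX1 : X 1 = (e : ℂ) := by
    have := hres 1
    rw [hdeg] at this
    simpa using this
  have hY1 : Y 1 = ((e * e : ℕ) : ℂ) := by
    simp only [hY, hX1, Complex.conj_natCast]
    push_cast
    ring
  have hdegsum : ∑ Φ : Cfsg.IrrCharacter G, m Φ * D Φ = e * e := by
    have h3 : ((∑ Φ : Cfsg.IrrCharacter G, m Φ * D Φ : ℕ) : ℂ) = ((e * e : ℕ) : ℂ) := by
      rw [← hY1]
      conv_rhs => rw [hsum]
      rw [Finset.sum_apply]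
      push_cast
      apply Finset.sum_congr rfl
      intro Φ _
      rw [Pi.smul_apply, hDeq Φ, smul_eq_mul]
    exact_mod_cast h3
  have hmo : m o = 1 := by
    have h3 : Cfsg.classInner Y (o : G → ℂ) = 1 := by
      have h4 := classInner_self_of_isIrrCharacter hX
      unfold Cfsg.classInner at h4 ⊢
      rw [← h4]
      congr 1
      apply Finset.sum_congr rfl
      intro g _
      simp [hY, ho]
    rw [hm o] at h3
    exact_mod_cast h3
  have hrest : 1 + ∑ Φ ∈ Finset.univ.erase o, m Φ * D Φ = e * e := by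
    rw [← hdegsum, ← Finset.add_sum_erase _ _ (Finset.mem_univ o), hmo, hDo]
  -- induced characters from T
  have hTprop : ∀ χ : Cfsg.IrrCharacter N, χ ∈ T →
      (∀ x ∈ H.subgroupOf N, (χ : N → ℂ) x = (χ : N → ℂ) 1) ∧ (χ : N → ℂ) ≠ fun _ => 1 := by
    intro χ hχ
    rw [hmemT] at hχ
    refine ⟨hχ.2, fun h1 => hχ.1 (Subtype.ext h1)⟩
  have hirr : ∀ χ : Cfsg.IrrCharacter N, χ ∈ T →
      Cfsg.IsIrrCharacter G (Cfsg.indFun N (χ : N → ℂ)) := by
    intro χ hχ
    obtain ⟨htr, hne1⟩ := hTprop χ hχ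
    apply isIrrCharacter_of_classInner_self
      (Cfsg.Agent.Lib.Helper75_IndChar.isCharacter_indFun N (isCharacter_of_isIrrCharacter χ.2))
    rw [hC2c _ χ.2 htr _ χ.2 htr, if_pos rfl, if_neg, add_zero]
    exact fun h3 => hC0 _ χ.2 htr hne1 h3.symm
  let g : Cfsg.IrrCharacter N → Cfsg.IrrCharacter G := fun χ =>
    if hχ : χ ∈ T then ⟨Cfsg.indFun N (χ : N → ℂ), hirr χ hχ⟩ else o
  have hgval : ∀ χ : Cfsg.IrrCharacter N, χ ∈ T →
      (g χ : G → ℂ) = Cfsg.indFun N (χ : N → ℂ) := by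
    intro χ hχ
    simp only [g, dif_pos hχ]
  have hgne : ∀ χ : Cfsg.IrrCharacter N, χ ∈ T → g χ ≠ o := by
    intro χ hχ h3
    obtain ⟨htr, hne1⟩ := hTprop χ hχ
    have h4 : Cfsg.classInner (g χ : G → ℂ) (fun _ => (1 : ℂ)) = 0 := by
      rw [hgval χ hχ, frobenius_reciprocity N _ _ h1cf]
      exact classInner_of_isIrrCharacter_of_ne χ.2 (isIrrCharacter_one N) hne1
    rw [h3] at h4
    have h5 := classInner_self_of_isIrrCharacter (isIrrCharacter_one G)
    simp only [ho] at h4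
    rw [h4] at h5
    exact zero_ne_one h5
  have hmg : ∀ χ : Cfsg.IrrCharacter N, χ ∈ T → m (g χ) = d χ := by
    intro χ hχ
    obtain ⟨htr, hne1⟩ := hTprop χ hχ
    have h3 : Cfsg.classInner Y (g χ : G → ℂ) = (d χ : ℂ) := by
      rw [hgval χ hχ, ← classInner_conj_symm, frobenius_reciprocity N _ _ hYcf]
      have h4 : (fun x : N => Y x) = fun x : N => ξ₀ x * conj (ξ₀ x) := by
        funext x
        simp only [hY, hres x]
      rw [h4, classInner_res_sq hξ₀.1 hvan htr, hd χ, Complex.conj_natCast]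
    rw [hm (g χ)] at h3
    exact_mod_cast h3
  have hDg : ∀ χ : Cfsg.IrrCharacter N, χ ∈ T → D (g χ) = (h + 1) * d χ := by
    intro χ hχ
    have h3 : (D (g χ) : ℂ) = (((h + 1) * d χ : ℕ) : ℂ) := by
      rw [← hDeq (g χ), hgval χ hχ, indFun_one, hd χ]
      have h4 : (Nat.card G : ℂ) = (Nat.card N : ℂ) * ((h + 1 : ℕ) : ℂ) := by
        rw [← hD.index_N, ← Nat.cast_mul, Subgroup.card_mul_index]
      have h5 : (Nat.card N : ℂ) ≠ 0 := by exact_mod_cast (Nat.card_pos (α := N)).ne'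
      rw [h4]
      push_cast
      field_simp
    exact_mod_cast h3
  -- fibres of g have at most two elements
  have hfib : ∀ Φ : Cfsg.IrrCharacter G, (T.filter fun χ => g χ = Φ).card ≤ 2 := by
    intro Φ
    by_cases hex : ∃ χ' ∈ T, g χ' = Φ
    · obtain ⟨χ', hχ'T, hχ'Φ⟩ := hex
      obtain ⟨htr', hne1'⟩ := hTprop χ' hχ'T
      have hcj : Cfsg.IsIrrCharacter N (Cfsg.conjFun (χ' : N → ℂ)) :=
        Cfsg.Agent.Lib.Helper75_CharProd.isIrrCharacter_conj χ'.2
      refine le_trans (Finset.card_le_card ?_)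
        (Finset.card_le_two (a := χ') (b := (⟨_, hcj⟩ : Cfsg.IrrCharacter N)))
      intro χ hχ
      rw [Finset.mem_filter] at hχ
      obtain ⟨hχT, hχΦ⟩ := hχ
      obtain ⟨htr, hne1⟩ := hTprop χ hχT
      have h3 : Cfsg.indFun N (χ : N → ℂ) = Cfsg.indFun N (χ' : N → ℂ) := by
        rw [← hgval χ hχT, ← hgval χ' hχ'T, hχΦ, hχ'Φ]
      have h4 := hC2c _ χ.2 htr _ χ'.2 htr'
      rw [← h3, classInner_self_of_isIrrCharacter (hirr χ hχT)] at h4
      rw [Finset.mem_insert, Finset.mem_singleton]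
      by_cases h5 : (χ : N → ℂ) = (χ' : N → ℂ)
      · left; exact Subtype.ext h5
      · right
        apply Subtype.ext
        by_contra h6
        rw [if_neg h5, if_neg h6] at h4
        norm_num at h4
    · have : T.filter (fun χ => g χ = Φ) = ∅ := by
        rw [Finset.filter_eq_empty_iff]
        intro χ hχ h3
        exact hex ⟨χ, hχ, h3⟩
      rw [this]
      simp
  -- the main inequality
  have hineq : ∑ χ ∈ T, m (g χ) * D (g χ) ≤ 2 * ∑ Φ ∈ Finset.univ.erase o, m Φ * D Φ := by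
    rw [Finset.sum_comp (fun Φ => m Φ * D Φ) g]
    calc ∑ Φ ∈ T.image g, (T.filter fun χ => g χ = Φ).card • (m Φ * D Φ)
        ≤ ∑ Φ ∈ T.image g, 2 * (m Φ * D Φ) := by
          apply Finset.sum_le_sum
          intro Φ _
          rw [smul_eq_mul]
          exact Nat.mul_le_mul_right _ (hfib Φ)
      _ = 2 * ∑ Φ ∈ T.image g, m Φ * D Φ := by rw [Finset.mul_sum]
      _ ≤ 2 * ∑ Φ ∈ Finset.univ.erase o, m Φ * D Φ := by
          apply Nat.mul_le_mul_left
          apply Finset.sum_le_sum_of_subset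
          intro Φ hΦ
          rw [Finset.mem_image] at hΦ
          obtain ⟨χ, hχ, rfl⟩ := hΦ
          exact Finset.mem_erase.mpr ⟨hgne χ hχ, Finset.mem_univ _⟩
  have hlhs : ∑ χ ∈ T, m (g χ) * D (g χ) = (h + 1) * ∑ χ ∈ T, d χ * d χ := by
    rw [Finset.mul_sum]
    apply Finset.sum_congr rfl
    intro χ hχ
    rw [hmg χ hχ, hDg χ hχ]
    ring
  rw [hlhs] at hineq
  -- arithmetic
  set A := ∑ χ ∈ T, d χ * d χ with hA
  set B := ∑ Φ ∈ Finset.univ.erase o, m Φ * D Φ with hB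
  obtain ⟨k, rfl⟩ : ∃ k, e = k + 2 := ⟨e - 2, by omega⟩
  have hAk : A = k + 1 := by omega
  have hBk : B = (k + 1) * (k + 3) := by
    have : 1 + B = (k + 2) * (k + 2) := hrest
    have h6 : (k + 2) * (k + 2) = 1 + (k + 1) * (k + 3) := by ring
    omega
  rw [hAk, hBk] at hineq
  have h7 : (h + 1) * (k + 1) ≤ (2 * (k + 3)) * (k + 1) := by
    calc (h + 1) * (k + 1) ≤ 2 * ((k + 1) * (k + 3)) := hineq
      _ = (2 * (k + 3)) * (k + 1) := by ring
  have h8 := Nat.le_of_mul_le_mul_right h7 (by omega)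
  omega

end Cfsg.Agent.Lib.Helper72_Feit_PE3
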