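import Mathlib
import Cfsg.Agent.Lib.Helper95_FeitCore
import Cfsg.Agent.Lib.Helper10_Feit_PA
import Cfsg.Agent.Lib.Helper54_Feit_PB1
import Cfsg.Agent.Lib.Helper11_Feit_PB2
import Cfsg.Agent.Lib.Helper54_Feit_PB3
import Cfsg.Agent.Lib.Helper31_Feit_PC1
import Cfsg.Agent.Lib.Helper31_Feit_PC2
import Cfsg.Agent.Lib.Helper25_Feit_PD
import Cfsg.Agent.Lib.Helper17_Feit_PE1
import Cfsg.Agent.Lib.Helper72_Feit_PE2
import Cfsg.Agent.Lib.Helper33_Feit_PC0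
import Cfsg.Agent.Lib.Helper11_Feit_PC3
import Cfsg.Agent.Lib.Helper72_Feit_PE3

/-!
# Feit's theorem on Zassenhaus groups: gluing the packages (helper95)

The packages (`pending/helper95/S0885_packages*.lean.txt`) were proved by
helper10 (PA), helper54 (PB1, PB3), helper11 (PB2, PC3), helper33 (PC0), helper31 (PC1, PC2),
helper25 (PD), helper17 (PE1), helper72 (PE2, PE3); the arithmetic core is
`Helper95_FeitArith` / `Helper95_FeitCore`.
-/

set_option autoImplicit false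
set_option linter.unusedSectionVars false

namespace Cfsg.Agent.Lib.Helper95_FeitGlue

open Cfsg Cfsg.Agent.Lib.Helper95_FeitDefs Cfsg.Agent.Lib.Helper95_FeitCore

universe u v

section CT

variable {G : Type u} [Group G] [Fintype G] {N H : Subgroup G} [Fintype N] {h e : ℕ}

theorem hC0_of (hD : ZData N H h e) :
    ∀ χ : N → ℂ, Cfsg.IsIrrCharacter N χ → (∀ x ∈ H.subgroupOf N, χ x = χ 1) →
      χ ≠ (fun _ => 1) → Cfsg.conjFun χ ≠ χ := by
  intro χ hχ hker hne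
  have := K_normal hD
  have hodd : Odd (H.subgroupOf N).index := by rw [index_K hD]; exact hD.e_odd
  exact (Cfsg.Agent.Lib.Helper33_Feit_PC0.PC0 (H.subgroupOf N) hχ hker).2 hodd hne

/-- The character-theoretic core. -/
theorem CT (hD : ZData N H h e) (hhe : 2 * e < h - 1)
    (hcoh : Cfsg.IsCoherent (SS N H) {1}ᶜ (fun α : N → ℂ => Cfsg.indFun N α)) : False := by
  have hτ1 : ∀ α ∈ Cfsg.zspanOn (SS N H) {1}ᶜ, (fun α : N → ℂ => Cfsg.indFun N α) α 1 = 0 := by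
    intro α hα
    have h1 : α 1 = 0 := hα.2 1 (fun h => h rfl)
    show Cfsg.indFun N α 1 = 0
    rw [Cfsg.Agent.Lib.Helper16_CohCount.indFun_one_index, h1, mul_zero]
  obtain ⟨ε, X, hε, hXirr, hXinj, hrel, hne⟩ :=
    Cfsg.Agent.Lib.Helper31_Feit_PC1.PC1 (SS N H) (fun ξ hξ => hξ.1)
      (fun α : N → ℂ => Cfsg.indFun N α) hτ1 hcoh
  have h1 : HC1 N H ε X := ⟨hε, hXirr, hXinj, hrel, hne⟩
  obtain ⟨h2a, h2b, h2c⟩ := Cfsg.Agent.Lib.Helper31_Feit_PC2.PC2 hD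
  have h3 : HC3 N H e := Cfsg.Agent.Lib.Helper11_Feit_PC3.PC3 hD
  have hC0 := hC0_of hD
  exact core hD hhe h1 h2a h3 (Cfsg.Agent.Lib.Helper17_Feit_PE1.PE1 hD hhe hC0)
    (fun {ξ₀ ξ₁} hξ₀ hξ₁ hne {X'} hX hmult =>
      Cfsg.Agent.Lib.Helper72_Feit_PE2.PE2 hD hC0 h2b h2c hξ₀ hξ₁ hne hX hmult)
    (fun {ξ₀} hξ₀ hdeg hvan {X'} hX hres =>
      Cfsg.Agent.Lib.Helper72_Feit_PE3.PE3 hD hhe hC0 h2c hξ₀ hdeg hvan hX hres)

end CT

/-- The nice-case theorem. -/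
theorem NT : Cfsg.Agent.Lib.Helper25_Feit_PD.NTStatement.{u, v} :=
  Cfsg.Agent.Lib.Helper25_Feit_PD.PD (fun hD hhe hcoh => CT hD hhe hcoh)
    (fun hN => Cfsg.Agent.Lib.Helper54_Feit_PB1.PB1 hN)
    (fun hN => Cfsg.Agent.Lib.Helper11_Feit_PB2.PB2 hN)
    (fun hN => Cfsg.Agent.Lib.Helper54_Feit_PB3.PB3 hN)

/-- The nice-case theorem, in helper10's copy of the statement. -/
theorem NT' : Cfsg.Agent.Lib.Helper10_Feit_PA.NTStatement.{u, v} :=
  fun hN hhe => NT hN hhe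

end Cfsg.Agent.Lib.Helper95_FeitGlue
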