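import Mathlib
import Cfsg.Agent.Lib.Helper95_SuzDefs
import Cfsg.Agent.Lib.Helper95_FeitCore
import Cfsg.Agent.Lib.Helper95_FeitGlue
import Cfsg.Agent.Lib.Helper31_Feit_PC2
import Cfsg.Agent.Lib.Helper72_Feit_PE2
import Cfsg.Agent.Lib.Helper76_GalConj
import Cfsg.Agent.Lib.Helper16_SectionNorm

/-!
# S0347 package GL1 (helper75): the irreducible characters of `G` with a linear constituent on `N`
-/

set_option autoImplicit false
set_option linter.unusedSectionVars false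

namespace Cfsg.Agent.Lib.Helper75_Suz_GL1

open Cfsg MulAction Cfsg.Agent.Lib.Helper95_FeitDefs Cfsg.Agent.Lib.Helper95_SuzDefs
open Cfsg.Agent.Lib.Helper95_FeitCore
open Cfsg.Agent.Lib.Helper3_CharBridge Cfsg.Agent.Lib.Helper3_CharOrtho
  Cfsg.Agent.Lib.Helper75_CharArith Cfsg.Agent.Lib.Helper75_Induced
open scoped ComplexConjugate

universe u

variable {G : Type u} [Group G] [Fintype G] {N H : Subgroup G} [Fintype N] {h e : ℕ}

/-- The irreducible characters of `N` with `K = H.subgroupOf N` in the kernel. -/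
def InP (N H : Subgroup G) (χ : N → ℂ) : Prop :=
  Cfsg.IsIrrCharacter N χ ∧ ∀ x ∈ H.subgroupOf N, χ x = χ 1

theorem inP_one : InP N H (fun _ : N => (1 : ℂ)) :=
  ⟨Cfsg.Agent.Lib.Helper80_CharBasic.isIrrCharacter_one N, fun _ _ => rfl⟩

theorem InP.one_eq (habel : ∀ x ∈ N, ∀ y ∈ N, x * y * x⁻¹ * y⁻¹ ∈ H) {χ : N → ℂ}
    (hχ : InP N H χ) : χ 1 = 1 := by
  set χ' : IrrCharacter N := ⟨χ, hχ.1⟩ with hχ'
  have hle : commutator N ≤ Cfsg.Agent.Lib.Helper76_GalConj.kerC χ' := by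
    rw [commutator_def, Subgroup.commutator_le]
    intro g₁ _ g₂ _
    rw [Cfsg.Agent.Lib.Helper76_GalConj.mem_kerC]
    apply hχ.2
    rw [Subgroup.mem_subgroupOf, commutatorElement_def]
    have := habel g₁ g₁.2 g₂ g₂.2
    simpa using this
  have h1 := Cfsg.Agent.Lib.Helper76_GalConj.charDegree_eq_one_of_commutator_le χ' hle
  have h2 := Cfsg.Agent.Lib.Helper76_GalConj.irr_one_eq_charDegree χ'
  rw [h1] at h2
  simpa using h2

theorem InP.conj {χ : N → ℂ} (hχ : InP N H χ) : InP N H (Cfsg.conjFun χ) := by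
  refine ⟨Cfsg.Agent.Lib.Helper75_CharProd.isIrrCharacter_conj hχ.1, ?_⟩
  intro x hx
  show conj (χ x) = conj (χ 1)
  rw [hχ.2 x hx]

theorem conjFun_conjFun {X : Type*} (χ : X → ℂ) : Cfsg.conjFun (Cfsg.conjFun χ) = χ := by
  funext x
  simp [Cfsg.conjFun]

theorem SS_ne_one {ξ : N → ℂ} (hξ : ξ ∈ SS N H) : ξ ≠ fun _ => 1 := by
  intro h1
  obtain ⟨-, x, -, hx⟩ := hξ
  apply hx
  rw [h1]

theorem ind_SS_one {ξ : N → ℂ} (hξ : ξ ∈ SS N H) :
    Cfsg.classInner (Cfsg.indFun N ξ) (fun _ => (1 : ℂ)) = 0 := by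
  rw [frobenius_reciprocity N ξ _ (fun _ _ => rfl)]
  exact classInner_of_isIrrCharacter_of_ne hξ.1
    (Cfsg.Agent.Lib.Helper80_CharBasic.isIrrCharacter_one N) (SS_ne_one hξ)

theorem ind_P_one {χ : N → ℂ} (hχ : InP N H χ) (hne : χ ≠ fun _ => 1) :
    Cfsg.classInner (Cfsg.indFun N χ) (fun _ => (1 : ℂ)) = 0 := by
  rw [frobenius_reciprocity N χ _ (fun _ _ => rfl)]
  exact classInner_of_isIrrCharacter_of_ne hχ.1
    (Cfsg.Agent.Lib.Helper80_CharBasic.isIrrCharacter_one N) hne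

theorem isChar_ind {χ : N → ℂ} (hχ : Cfsg.IsIrrCharacter N χ) :
    Cfsg.IsCharacter G (Cfsg.indFun N χ) :=
  Cfsg.Agent.Lib.Helper75_IndChar.isCharacter_indFun N (isCharacter_of_isIrrCharacter hχ)

theorem ind_P_irr (hD : ZData N H h e) {χ : N → ℂ} (hχ : InP N H χ) (hne : χ ≠ fun _ => 1) :
    Cfsg.IsIrrCharacter G (Cfsg.indFun N χ) := by
  apply isIrrCharacter_of_classInner_self (isChar_ind hχ.1)
  rw [(Cfsg.Agent.Lib.Helper31_Feit_PC2.PC2 hD).2.2 χ hχ.1 hχ.2 χ hχ.1 hχ.2, if_pos rfl,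
    if_neg, add_zero]
  intro hh
  exact Cfsg.Agent.Lib.Helper95_FeitGlue.hC0_of hD χ hχ.1 hχ.2 hne hh.symm

theorem ind_P_conj (hD : ZData N H h e) {χ : N → ℂ} (hχ : InP N H χ) (hne : χ ≠ fun _ => 1) :
    Cfsg.indFun N (Cfsg.conjFun χ) = Cfsg.indFun N χ := by
  have hc := hχ.conj
  have hcne : Cfsg.conjFun χ ≠ fun _ => 1 := by
    intro hh
    apply hne
    rw [← conjFun_conjFun χ, hh, Cfsg.Agent.Lib.Helper72_Feit_PE2.conjFun_one]
  have h1 := (Cfsg.Agent.Lib.Helper31_Feit_PC2.PC2 hD).2.2 (Cfsg.conjFun χ) hc.1 hc.2 χ hχ.1 hχ.2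
  rw [if_pos rfl] at h1
  have h2 := classInner_irr (ind_P_irr hD hc hcne) (ind_P_irr hD hχ hne)
  rw [h1] at h2
  by_contra hcon
  rw [if_neg hcon] at h2
  have h3 : (if Cfsg.conjFun χ = χ then (1 : ℂ) else 0) = 0 := by
    rw [if_neg]
    exact Cfsg.Agent.Lib.Helper95_FeitGlue.hC0_of hD χ hχ.1 hχ.2 hne
  rw [h3] at h2
  norm_num at h2

/-- Values of the inner products with members of `SS`. -/
theorem ind_SS_ind_P (hD : ZData N H h e) (habel : ∀ x ∈ N, ∀ y ∈ N, x * y * x⁻¹ * y⁻¹ ∈ H)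
    {χ : N → ℂ} (hχ : InP N H χ) {ξ : N → ℂ} (hξ : ξ ∈ SS N H) :
    Cfsg.classInner (Cfsg.indFun N ξ) (Cfsg.indFun N χ) = ξ 1 / (e : ℂ) := by
  have h1 := (Cfsg.Agent.Lib.Helper31_Feit_PC2.PC2 hD).2.1 χ hχ.1 hχ.2 ξ hξ
  rw [← classInner_conj_symm, h1, hχ.one_eq habel, one_mul]
  obtain ⟨d, hd, -⟩ := SS_deg hD hξ
  rw [hd, map_div₀, Complex.conj_natCast, Complex.conj_natCast]


/-- The number of irreducible characters of `N` with `K` in the kernel is `e`. -/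
theorem card_P (hD : ZData N H h e) (habel : ∀ x ∈ N, ∀ y ∈ N, x * y * x⁻¹ * y⁻¹ ∈ H)
    [DecidablePred fun χ : IrrCharacter N => InP N H (χ : N → ℂ)] :
    (Finset.univ.filter (fun χ : IrrCharacter N => InP N H (χ : N → ℂ))).card = e := by
  classical
  have hKn := K_normal hD
  have hsum := Cfsg.Agent.Lib.Helper16_SectionNorm.sum_deg_sq_of_kernel (H := N) (H.subgroupOf N)
  rw [index_K hD] at hsum
  have h1 : ∀ χ : IrrCharacter N,
      (if ∀ n ∈ H.subgroupOf N, (χ : N → ℂ) n = (χ : N → ℂ) 1 then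
        (χ : N → ℂ) 1 * conj ((χ : N → ℂ) 1) else 0) =
      if InP N H (χ : N → ℂ) then (1 : ℂ) else 0 := by
    intro χ
    by_cases hχ : ∀ n ∈ H.subgroupOf N, (χ : N → ℂ) n = (χ : N → ℂ) 1
    · have hP : InP N H (χ : N → ℂ) := ⟨χ.2, hχ⟩
      rw [if_pos hχ, if_pos hP, hP.one_eq habel]
      simp
    · have hP : ¬ InP N H (χ : N → ℂ) := fun hP => hχ hP.2
      rw [if_neg hχ, if_neg hP]
  simp_rw [h1] at hsum
  rw [Finset.sum_boole] at hsum
  exact_mod_cast hsum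


/-- The decomposition `Ind 1 = 1 + Φ`. -/
theorem ind_one_eq (hD : ZData N H h e) {Φ : Cfsg.IrrCharacter G}
    (hΦ1 : (Φ : G → ℂ) ≠ fun _ => 1)
    (hne : Cfsg.classInner (Cfsg.indFun N (fun _ : N => (1 : ℂ))) (Φ : G → ℂ) ≠ 0) :
    Cfsg.indFun N (fun _ : N => (1 : ℂ)) = (fun _ => (1 : ℂ)) + (Φ : G → ℂ) := by
  have hP : InP N H (fun _ : N => (1 : ℂ)) := inP_one
  have hπ : Cfsg.IsCharacter G (Cfsg.indFun N (fun _ : N => (1 : ℂ))) := isChar_ind hP.1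
  have h1 : Cfsg.classInner (Cfsg.indFun N (fun _ : N => (1 : ℂ))) (fun _ => (1 : ℂ)) =
      ((1 : ℕ) : ℂ) := by
    rw [frobenius_reciprocity N _ _ (fun _ _ => rfl), classInner_irr hP.1 hP.1, if_pos rfl,
      Nat.cast_one]
  have hn : Cfsg.classInner (Cfsg.indFun N (fun _ : N => (1 : ℂ)))
      (Cfsg.indFun N (fun _ : N => (1 : ℂ))) = 1 + ((1 : ℕ) : ℂ) := by
    rw [(Cfsg.Agent.Lib.Helper31_Feit_PC2.PC2 hD).2.2 _ hP.1 hP.2 _ hP.1 hP.2, if_pos rfl,
      if_pos Cfsg.Agent.Lib.Helper72_Feit_PE2.conjFun_one.symm, Nat.cast_one]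
  have := Cfsg.Agent.Lib.Helper72_Feit_PE2.char_eq_of_norm hπ Φ.2 hΦ1 le_rfl h1 hn hne
  rw [this, Nat.cast_one, one_smul]

/-- **GL1**. -/
theorem GL1 (hD : ZData N H h e) (habel : ∀ x ∈ N, ∀ y ∈ N, x * y * x⁻¹ * y⁻¹ ∈ H) :
    ∃ L' : Finset (Cfsg.IrrCharacter G), L'.Nonempty ∧ 2 * L'.card ≤ e + 1 ∧
      (∀ Φ ∈ L', ∀ ξ ∈ SS N H,
        Cfsg.classInner (Cfsg.indFun N ξ) (Φ : G → ℂ) = ξ 1 / (e : ℂ)) ∧
      (∀ Φ : Cfsg.IrrCharacter G, Φ ∉ L' →
        (∃ ξ ∈ SS N H, Cfsg.classInner (Cfsg.indFun N ξ) (Φ : G → ℂ) ≠ 0) →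
        ∀ [Fintype {ξ : N → ℂ // ξ ∈ SS N H}],
          (Φ : G → ℂ) 1 = ∑ j : {ξ : N → ℂ // ξ ∈ SS N H},
            Cfsg.classInner (Cfsg.indFun N j.1) (Φ : G → ℂ) * j.1 1) := by
  classical
  set L' : Finset (Cfsg.IrrCharacter G) := Finset.univ.filter (fun Φ =>
    (Φ : G → ℂ) ≠ (fun _ => 1) ∧
      ∃ χ : N → ℂ, InP N H χ ∧ Cfsg.classInner (Cfsg.indFun N χ) (Φ : G → ℂ) ≠ 0) with hL'
  have hmemL : ∀ Φ : Cfsg.IrrCharacter G, Φ ∈ L' ↔ ((Φ : G → ℂ) ≠ (fun _ => 1) ∧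
      ∃ χ : N → ℂ, InP N H χ ∧ Cfsg.classInner (Cfsg.indFun N χ) (Φ : G → ℂ) ≠ 0) := by
    intro Φ
    rw [hL', Finset.mem_filter]
    simp
  -- the set `P`
  set Pset : Finset (IrrCharacter N) :=
    Finset.univ.filter (fun χ : IrrCharacter N => InP N H (χ : N → ℂ)) with hPset
  have hPcard : Pset.card = e := card_P hD habel
  set triv : IrrCharacter N := ⟨fun _ => 1, (inP_one (N := N) (H := H)).1⟩ with htriv
  have htrivP : triv ∈ Pset := by
    rw [hPset, Finset.mem_filter]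
    exact ⟨Finset.mem_univ _, inP_one⟩
  -- the induced irreducible characters
  set A : Finset (IrrCharacter N) := Pset.erase triv with hA
  have hAcard : A.card = e - 1 := by
    rw [hA, Finset.card_erase_of_mem htrivP, hPcard]
  have hmemA : ∀ χ : IrrCharacter N, χ ∈ A ↔
      (InP N H (χ : N → ℂ) ∧ (χ : N → ℂ) ≠ fun _ => 1) := by
    intro χ
    rw [hA, Finset.mem_erase, hPset, Finset.mem_filter]
    constructor
    · rintro ⟨h1, -, h2⟩
      refine ⟨h2, fun hh => h1 (Subtype.ext hh)⟩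
    · rintro ⟨h1, h2⟩
      exact ⟨fun hh => h2 (congrArg Subtype.val hh), Finset.mem_univ _, h1⟩
  let g : IrrCharacter N → Cfsg.IrrCharacter G := fun χ =>
    if hχ : InP N H (χ : N → ℂ) ∧ (χ : N → ℂ) ≠ fun _ => 1 then
      ⟨Cfsg.indFun N (χ : N → ℂ), ind_P_irr hD hχ.1 hχ.2⟩
    else ⟨fun _ => 1, Cfsg.Agent.Lib.Helper80_CharBasic.isIrrCharacter_one G⟩
  have hg : ∀ χ : IrrCharacter N, χ ∈ A → (g χ : G → ℂ) = Cfsg.indFun N (χ : N → ℂ) := by
    intro χ hχ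
    have := (hmemA χ).mp hχ
    simp only [g]
    rw [dif_pos this]
  set B : Finset (Cfsg.IrrCharacter G) := A.image g with hB
  -- fibres have at least two elements
  have hfib : ∀ b ∈ B, 2 ≤ (A.filter (fun χ => g χ = b)).card := by
    intro b hb
    rw [hB, Finset.mem_image] at hb
    obtain ⟨χ, hχA, rfl⟩ := hb
    have hχ := (hmemA χ).mp hχA
    set χc : IrrCharacter N := ⟨Cfsg.conjFun (χ : N → ℂ), hχ.1.conj.1⟩ with hχc
    have hcne : Cfsg.conjFun (χ : N → ℂ) ≠ fun _ => 1 := by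
      intro hh
      apply hχ.2
      rw [← conjFun_conjFun (χ : N → ℂ), hh, Cfsg.Agent.Lib.Helper72_Feit_PE2.conjFun_one]
    have hχcA : χc ∈ A := (hmemA χc).mpr ⟨hχ.1.conj, hcne⟩
    have hgc : g χc = g χ := by
      apply Subtype.ext
      rw [hg χc hχcA, hg χ hχA]
      exact ind_P_conj hD hχ.1 hχ.2
    have hne : χ ≠ χc := by
      intro hh
      have h2 : (χ : N → ℂ) = Cfsg.conjFun (χ : N → ℂ) := congrArg Subtype.val hh
      exact Cfsg.Agent.Lib.Helper95_FeitGlue.hC0_of hD _ hχ.1.1 hχ.1.2 hχ.2 h2.symm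
    have : 1 < (A.filter (fun χ' => g χ' = g χ)).card := by
      rw [Finset.one_lt_card]
      exact ⟨χ, Finset.mem_filter.mpr ⟨hχA, rfl⟩, χc, Finset.mem_filter.mpr ⟨hχcA, hgc⟩, hne⟩
    exact this
  have hBcard : 2 * B.card ≤ e - 1 := by
    rw [← hAcard, Finset.card_eq_sum_card_image g A, mul_comm, ← smul_eq_mul, ← Finset.sum_const]
    exact Finset.sum_le_sum hfib
  -- the constituents of `Ind 1`
  set C : Finset (Cfsg.IrrCharacter G) := Finset.univ.filter (fun Φ =>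
    (Φ : G → ℂ) ≠ (fun _ => 1) ∧
      Cfsg.classInner (Cfsg.indFun N (fun _ : N => (1 : ℂ))) (Φ : G → ℂ) ≠ 0) with hC
  have hCcard : C.card ≤ 1 := by
    rw [Finset.card_le_one]
    intro Φ hΦ Φ' hΦ'
    rw [hC, Finset.mem_filter] at hΦ hΦ'
    have h1 := ind_one_eq hD hΦ.2.1 hΦ.2.2
    have h2 := ind_one_eq hD hΦ'.2.1 hΦ'.2.2
    rw [h1] at h2
    exact Subtype.ext (add_left_cancel h2)
  have hLsub : L' ⊆ B ∪ C := by
    intro Φ hΦ
    rw [hmemL] at hΦ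
    obtain ⟨hΦ1, χ, hχ, hne⟩ := hΦ
    rw [Finset.mem_union]
    by_cases hχ1 : χ = fun _ => 1
    · right
      rw [hC, Finset.mem_filter]
      refine ⟨Finset.mem_univ _, hΦ1, ?_⟩
      rw [← hχ1]; exact hne
    · left
      rw [hB, Finset.mem_image]
      have hχA : (⟨χ, hχ.1⟩ : IrrCharacter N) ∈ A := (hmemA _).mpr ⟨hχ, hχ1⟩
      refine ⟨⟨χ, hχ.1⟩, hχA, ?_⟩
      apply Subtype.ext
      rw [hg _ hχA]
      have h2 := classInner_irr (ind_P_irr hD hχ hχ1) Φ.2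
      by_contra hcon
      rw [if_neg hcon] at h2
      exact hne h2
  have hLcard : 2 * L'.card ≤ e + 1 := by
    have h1 := Finset.card_le_card hLsub
    have h2 := Finset.card_union_le B C
    have he := hD.one_lt_e
    omega
  -- nonemptiness
  have hLne : L'.Nonempty := by
    have he := hD.one_lt_e
    have h1 : 1 < Pset.card := by rw [hPcard]; exact he
    obtain ⟨χ, hχP, hχne⟩ := Finset.exists_mem_ne h1 triv
    have hχA : χ ∈ A := by
      rw [hA, Finset.mem_erase]; exact ⟨hχne, hχP⟩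
    have hχ := (hmemA χ).mp hχA
    refine ⟨g χ, ?_⟩
    rw [hmemL]
    refine ⟨?_, (χ : N → ℂ), hχ.1, ?_⟩
    · intro hh
      have h2 := ind_P_one hχ.1 hχ.2
      rw [← hg χ hχA, hh] at h2
      have h3 := classInner_self_of_isIrrCharacter
        (Cfsg.Agent.Lib.Helper80_CharBasic.isIrrCharacter_one G)
      rw [h3] at h2
      exact one_ne_zero h2
    · rw [hg χ hχA, classInner_self_of_isIrrCharacter (ind_P_irr hD hχ.1 hχ.2)]
      exact one_ne_zero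
  refine ⟨L', hLne, hLcard, ?_, ?_⟩
  · -- third clause
    intro Φ hΦ ξ hξ
    rw [hmemL] at hΦ
    obtain ⟨hΦ1, χ, hχ, hne⟩ := hΦ
    by_cases hχ1 : χ = fun _ => 1
    · rw [hχ1] at hne
      have h1 := ind_one_eq hD hΦ1 hne
      have h2 := ind_SS_ind_P hD habel inP_one hξ
      rw [h1, classInner_add_right, ind_SS_one hξ, zero_add] at h2
      exact h2
    · have h2 := classInner_irr (ind_P_irr hD hχ hχ1) Φ.2
      have h3 : Cfsg.indFun N χ = (Φ : G → ℂ) := by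
        by_contra hcon
        rw [if_neg hcon] at h2
        exact hne h2
      rw [← h3]
      exact ind_SS_ind_P hD habel hχ hξ
  · -- fourth clause
    intro Φ hΦL hex inst
    obtain ⟨ξ₀, hξ₀, hξ₀ne⟩ := hex
    have hΦ1 : (Φ : G → ℂ) ≠ fun _ => 1 := by
      intro hh
      rw [hh] at hξ₀ne
      exact hξ₀ne (ind_SS_one hξ₀)
    have hPzero : ∀ χ : N → ℂ, InP N H χ →
        Cfsg.classInner (Cfsg.indFun N χ) (Φ : G → ℂ) = 0 := by
      intro χ hχ
      by_contra hcon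
      exact hΦL ((hmemL Φ).mpr ⟨hΦ1, χ, hχ, hcon⟩)
    have hΦcf : Cfsg.IsClassFunction G (Φ : G → ℂ) := isClassFunction_of_isIrrCharacter Φ.2
    set ψ : N → ℂ := fun x : N => (Φ : G → ℂ) x with hψ
    have hψcf : Cfsg.IsClassFunction N ψ := by
      intro a k
      simp only [hψ]
      have := hΦcf (a : G) (k : G)
      simpa using this
    have hcoef : ∀ χ : Cfsg.IrrCharacter N, Cfsg.classInner ψ (χ : N → ℂ) =
        Cfsg.classInner (Cfsg.indFun N (χ : N → ℂ)) (Φ : G → ℂ) := by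
      intro χ
      obtain ⟨n, hn⟩ := classInner_isCharacter_nat (isChar_ind χ.2)
        (isCharacter_of_isIrrCharacter Φ.2)
      rw [← classInner_conj_symm, ← frobenius_reciprocity N (χ : N → ℂ) _ hΦcf, hn,
        Complex.conj_natCast]
    have hexp := congrFun (Cfsg.Agent.Lib.Helper3_CharComplete.classFunction_eq_sum ψ hψcf) 1
    rw [Finset.sum_apply] at hexp
    have hψ1 : ψ 1 = (Φ : G → ℂ) 1 := rfl
    rw [hψ1] at hexp
    rw [hexp]
    simp only [Pi.smul_apply, smul_eq_mul]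
    simp_rw [hcoef]
    -- restrict the sum to the members of `SS`
    set S : Finset (IrrCharacter N) :=
      Finset.univ.filter (fun χ => (χ : N → ℂ) ∈ SS N H) with hS
    have hsub : ∑ χ : IrrCharacter N,
        Cfsg.classInner (Cfsg.indFun N (χ : N → ℂ)) (Φ : G → ℂ) * (χ : N → ℂ) 1 =
        ∑ χ ∈ S, Cfsg.classInner (Cfsg.indFun N (χ : N → ℂ)) (Φ : G → ℂ) * (χ : N → ℂ) 1 := by
      symm
      apply Finset.sum_subset (Finset.subset_univ _)
      intro χ _ hχS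
      have hnot : ¬ ((χ : N → ℂ) ∈ SS N H) := by
        intro hh
        apply hχS
        rw [hS, Finset.mem_filter]
        exact ⟨Finset.mem_univ _, hh⟩
      have hker : ∀ x ∈ H.subgroupOf N, (χ : N → ℂ) x = (χ : N → ℂ) 1 := by
        intro x hx
        by_contra hne
        exact hnot ⟨χ.2, x, hx, hne⟩
      rw [hPzero _ ⟨χ.2, hker⟩, zero_mul]
    rw [hsub]
    symm
    refine Finset.sum_bij (fun j _ => (⟨j.1, j.2.1⟩ : IrrCharacter N)) ?_ ?_ ?_ ?_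
    · intro j _
      rw [hS, Finset.mem_filter]
      exact ⟨Finset.mem_univ _, j.2⟩
    · intro a _ b _ hab
      have : a.1 = b.1 := congrArg (fun χ : IrrCharacter N => (χ : N → ℂ)) hab
      exact Subtype.ext this
    · intro χ hχ
      rw [hS, Finset.mem_filter] at hχ
      exact ⟨⟨χ.1, hχ.2⟩, Finset.mem_univ _, Subtype.ext rfl⟩
    · intro j _
      rfl

end Cfsg.Agent.Lib.Helper75_Suz_GL1
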