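import Mathlib
import Cfsg.Agent.Lib.Helper95_SuzDefs
import Cfsg.Agent.Lib.Helper6_Zassenhaus
import Cfsg.Agent.Lib.Helper59_ZassPSL
import Cfsg.Agent.Lib.Helper59_ZassCases
import Cfsg.Agent.Lib.Helper59_ConjOrbits

/-!
# S0347 package GA1 (helper59): the nice case holds when the kernel `U` is a 2-group
-/

set_option autoImplicit false
set_option linter.unusedSectionVars false
set_option linter.unusedVariables false

namespace Cfsg.Agent.Lib.Helper59_Suz_GA1

open Cfsg MulAction Cfsg.Agent.Lib.Helper95_FeitDefs Cfsg.Agent.Lib.Helper95_SuzDefs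
  Cfsg.Agent.Lib.Helper6_Zassenhaus

universe u v

variable {G : Type u} {Ω : Type v} [Group G] [Fintype G] [MulAction G Ω] [Fintype Ω]

/-- a non-trivial 2-group has an involution -/
theorem exists_invol {H : Subgroup G} (h2 : IsPGroup 2 H) (hH1 : H ≠ ⊥) :
    ∃ z ∈ H, z ≠ 1 ∧ z * z = 1 := by
  obtain ⟨n, hn⟩ := h2.exists_card_eq
  have hn0 : n ≠ 0 := by
    rintro rfl
    rw [pow_zero] at hn
    exact hH1 (Subgroup.card_eq_one.mp hn)
  have hdvd : 2 ∣ Nat.card H := by
    rw [hn]; exact dvd_pow_self 2 hn0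
  have : Fact (Nat.Prime 2) := ⟨Nat.prime_two⟩
  obtain ⟨z, hz⟩ := exists_prime_orderOf_dvd_card' (G := H) 2 hdvd
  refine ⟨(z : G), z.2, ?_, ?_⟩
  · intro h1
    have : z = 1 := Subtype.ext h1
    rw [this, orderOf_one] at hz
    omega
  · have := pow_orderOf_eq_one z
    rw [hz, pow_two] at this
    exact congrArg Subtype.val this

/-- an element of square one on a set of odd cardinality has a fixed point -/
theorem exists_fixed_of_odd (hodd : Odd (Fintype.card Ω)) {x : G} (hxx : x * x = 1) :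
    ∃ c : Ω, x • c = c := by
  classical
  have : Fact (Nat.Prime 2) := ⟨Nat.prime_two⟩
  have h2 : ¬ 2 ∣ Fintype.card Ω := by
    rw [Nat.odd_iff] at hodd; omega
  have hσ : (MulAction.toPermHom G Ω x) ^ 2 ^ 1 = 1 := by
    rw [pow_one, ← map_pow, pow_two, hxx, map_one]
  obtain ⟨c, hc⟩ := Equiv.Perm.exists_fixed_point_of_prime (n := 1) h2 hσ
  exact ⟨c, hc⟩

theorem GA1 (hZ : Cfsg.IsZassenhausGroup G Ω) {a b : Ω} (hab : a ≠ b) (U : Subgroup G)
    (hUle : U ≤ stabilizer G a) (hUn : ∀ n ∈ stabilizer G a, ∀ u ∈ U, n * u * n⁻¹ ∈ U)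
    (hreg : ∀ c d : Ω, c ≠ a → d ≠ a → ∃! u : U, (u : G) • c = d)
    (hU2 : IsPGroup 2 U) (hU1 : U ≠ ⊥) :
    Nice G Ω a b U (Nat.card U) (Nat.card ↥(stabilizer G a ⊓ stabilizer G b : Subgroup G)) := by
  classical
  have hZ' : ZHyp G Ω := zhyp_of_isZassenhausGroup hZ
  have h3 := hZ'.three
  -- cardinalities
  have hcardΩ : Fintype.card Ω = Nat.card U + 1 := by
    have := Cfsg.Agent.Lib.Helper59_ZassPSL.card_of_regular hab U hUle hreg
    rwa [Nat.card_eq_fintype_card] at this
  obtain ⟨k, hk⟩ := hU2.exists_card_eq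
  have hk0 : k ≠ 0 := by
    rintro rfl
    rw [pow_zero] at hk
    exact hU1 (Subgroup.card_eq_one.mp hk)
  have hUeven : 2 ∣ Nat.card U := by rw [hk]; exact dvd_pow_self 2 hk0
  have hΩodd : Odd (Fintype.card Ω) := by
    rw [hcardΩ, Nat.odd_iff]; omega
  have hUpos : 2 ≤ Nat.card U := by
    have : 0 < Nat.card U := Nat.card_pos
    omega
  -- e is odd
  have hEodd : Odd (Nat.card ↥(stabilizer G a ⊓ stabilizer G b : Subgroup G)) := by
    have hdvd := Cfsg.Agent.Lib.Helper59_ZassCases.card_stab_dvd hZ hab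
    rw [hcardΩ] at hdvd
    rw [Nat.odd_iff]
    by_contra hcon
    have h2 : 2 ∣ Nat.card ↥(stabilizer G a ⊓ stabilizer G b : Subgroup G) := by omega
    have := dvd_trans h2 hdvd
    omega
  -- elements of U fix only a
  have hUfix : ∀ u ∈ U, u ≠ 1 → ∀ c : Ω, u • c = c → c = a := by
    intro u hu hu1 c hc
    by_contra hca
    have := (hreg c c hca hca).unique (y₁ := ⟨u, hu⟩) (y₂ := 1) hc (by simp)
    exact hu1 (congrArg Subtype.val this)
  have hmemE : ∀ x : G, x ∈ (stabilizer G a ⊓ stabilizer G b : Subgroup G) ↔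
      x • a = a ∧ x • b = b := by
    intro x; simp [Subgroup.mem_inf, mem_stabilizer_iff]
  -- a non-identity element of square one has a unique fixed point
  have hfixuniq : ∀ x : G, x ≠ 1 → x * x = 1 → ∀ c d : Ω, x • c = c → x • d = d → c = d := by
    intro x hx1 hxx c d hc hd
    by_contra hcd
    obtain ⟨g, hga, hgb⟩ := hZ'.two hab hcd
    have hmem : g⁻¹ * x * g ∈ (stabilizer G a ⊓ stabilizer G b : Subgroup G) := by
      rw [hmemE]
      constructor
      · rw [mul_smul, mul_smul, hga, hc, ← hga, inv_smul_smul]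
      · rw [mul_smul, mul_smul, hgb, hd, ← hgb, inv_smul_smul]
    set y : (stabilizer G a ⊓ stabilizer G b : Subgroup G) := ⟨g⁻¹ * x * g, hmem⟩ with hy
    have hy1 : y ≠ 1 := by
      intro h1
      apply hx1
      have h2 : g⁻¹ * x * g = 1 := congrArg Subtype.val h1
      have : x = g * (g⁻¹ * x * g) * g⁻¹ := by group
      rw [this, h2]; group
    have hy2 : y ^ 2 = 1 := by
      apply Subtype.ext
      show (g⁻¹ * x * g) ^ 2 = 1
      rw [pow_two]
      have : g⁻¹ * x * g * (g⁻¹ * x * g) = g⁻¹ * (x * x) * g := by group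
      rw [this, hxx]; group
    have hord : orderOf y = 2 := orderOf_eq_prime hy2 hy1
    have hdvd : 2 ∣ Nat.card ↥(stabilizer G a ⊓ stabilizer G b : Subgroup G) := by
      rw [← hord]
      exact orderOf_dvd_natCard y
    rw [Nat.odd_iff] at hEodd
    omega
  -- the swappers of a, b
  set W : Finset G := Finset.univ.filter (fun s => s • a = b ∧ s • b = a) with hW
  set J : Finset G := W.filter (fun s => s * s = 1) with hJ
  have hWmem : ∀ s : G, s ∈ W ↔ s • a = b ∧ s • b = a := by
    intro s; simp [hW]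
  have hJmem : ∀ s : G, s ∈ J ↔ (s • a = b ∧ s • b = a) ∧ s * s = 1 := by
    intro s; simp [hJ, hW]
  -- |W| ≤ e
  obtain ⟨t0, ht0a, ht0b⟩ := hZ'.two hab hab.symm
  have hWcard : W.card ≤ Nat.card ↥(stabilizer G a ⊓ stabilizer G b : Subgroup G) := by
    have hE : Nat.card ↥(stabilizer G a ⊓ stabilizer G b : Subgroup G) =
        (Finset.univ.filter (fun x => x ∈ (stabilizer G a ⊓ stabilizer G b : Subgroup G))).card := by
      rw [Nat.card_eq_fintype_card, Fintype.card_subtype]
    rw [hE]
    apply Finset.card_le_card_of_injOn (fun s => t0⁻¹ * s)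
    · intro s hs
      have hs' := (hWmem s).mp hs
      simp only [Finset.coe_filter, Finset.mem_univ, true_and, Set.mem_ofPred_eq]
      rw [hmemE]
      constructor
      · rw [mul_smul, hs'.1, inv_smul_eq_iff, ht0a]
      · rw [mul_smul, hs'.2, inv_smul_eq_iff, ht0b]
    · intro s _ s' _ h
      exact mul_left_cancel h
  -- J is nonempty
  have hJne : 0 < J.card := by
    obtain ⟨z, hzU, hz1, hzz⟩ := exists_invol hU2 hU1
    have hza : z • a = a := hUle hzU
    have hzb : z • b ≠ b := fun h => hab.symm (hUfix z hzU hz1 b h)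
    have hzba : z • b ≠ a := by
      intro h
      have : z • b = z • a := by rw [h, hza]
      exact hab.symm (MulAction.injective z this)
    obtain ⟨g, hga, hgb⟩ := hZ'.two hab (Ne.symm hzb)
    have hzd : z • (z • b) = b := by rw [← mul_smul, hzz, one_smul]
    apply Finset.card_pos.mpr
    refine ⟨g⁻¹ * z * g, ?_⟩
    rw [hJmem]
    refine ⟨⟨?_, ?_⟩, ?_⟩
    · rw [mul_smul, mul_smul, hga, inv_smul_eq_iff, hgb]
    · rw [mul_smul, mul_smul, hgb, hzd, inv_smul_eq_iff, hga]
    · have : g⁻¹ * z * g * (g⁻¹ * z * g) = g⁻¹ * (z * z) * g := by group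
      rw [this, hzz]; group
  -- e divides |J|
  have hJdvd : Nat.card ↥(stabilizer G a ⊓ stabilizer G b : Subgroup G) ∣ J.card := by
    have h1 := Cfsg.Agent.Lib.Helper59_ConjOrbits.card_dvd_card_of_conj_free
      (stabilizer G a ⊓ stabilizer G b : Subgroup G) (J : Set G)
      (by
        intro k hk x hx
        have hx' := (hJmem x).mp hx
        have hk' := (hmemE k).mp hk
        have hkia : k⁻¹ • a = a := by rw [inv_smul_eq_iff, hk'.1]
        have hkib : k⁻¹ • b = b := by rw [inv_smul_eq_iff, hk'.2]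
        show k * x * k⁻¹ ∈ J
        rw [hJmem]
        refine ⟨⟨?_, ?_⟩, ?_⟩
        · rw [mul_smul, mul_smul, hkia, hx'.1.1, hk'.2]
        · rw [mul_smul, mul_smul, hkib, hx'.1.2, hk'.1]
        · have : k * x * k⁻¹ * (k * x * k⁻¹) = k * (x * x) * k⁻¹ := by group
          rw [this, hx'.2]; group)
      (by
        intro k hk x hx hkx
        have hx' := (hJmem x).mp hx
        have hk' := (hmemE k).mp hk
        have hx1 : x ≠ 1 := by
          rintro rfl
          rw [one_smul] at hx'
          exact hab hx'.1.1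
        obtain ⟨c, hc⟩ := exists_fixed_of_odd hΩodd hx'.2
        have hca : c ≠ a := by
          rintro rfl
          rw [hx'.1.1] at hc
          exact hab hc.symm
        have hcb : c ≠ b := by
          rintro rfl
          rw [hx'.1.2] at hc
          exact hab hc
        have hcomm : k * x = x * k := by
          calc k * x = (k * x * k⁻¹) * k := by group
            _ = x * k := by rw [hkx]
        have hkc : x • (k • c) = k • c := by
          rw [← mul_smul, ← hcomm, mul_smul, hc]
        have hkc' : k • c = c := hfixuniq x hx1 hx'.2 _ _ hkc hc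
        exact h3 k a b c hab (Ne.symm hcb) (Ne.symm hca) hk'.1 hk'.2 hkc')
    have h2 : Nat.card ↥(J : Set G) = J.card := by
      rw [Nat.card_coe_set_eq, Set.ncard_coe_finset]
    rwa [h2] at h1
  -- so J = W
  have hJW : J = W := by
    have hsub : J ⊆ W := Finset.filter_subset _ _
    apply Finset.eq_of_subset_of_card_le hsub
    have := Nat.le_of_dvd hJne hJdvd
    omega
  have hswap_ab : ∀ s : G, s • a = b → s • b = a → s * s = 1 := by
    intro s hsa hsb
    have : s ∈ W := (hWmem s).mpr ⟨hsa, hsb⟩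
    rw [← hJW] at this
    exact ((hJmem s).mp this).2
  refine ⟨hZ, hab, hcardΩ, rfl, hEodd, hUle, rfl, hUfix, ?_⟩
  intro s c d hcd hsc hsd
  obtain ⟨g, hga, hgb⟩ := hZ'.two hab hcd
  have h1 : (g⁻¹ * s * g) • a = b := by
    rw [mul_smul, mul_smul, hga, hsc, inv_smul_eq_iff, hgb]
  have h2 : (g⁻¹ * s * g) • b = a := by
    rw [mul_smul, mul_smul, hgb, hsd, inv_smul_eq_iff, hga]
  have h4 := hswap_ab _ h1 h2
  have : s * s = g * ((g⁻¹ * s * g) * (g⁻¹ * s * g)) * g⁻¹ := by group
  rw [this, h4]; group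

end Cfsg.Agent.Lib.Helper59_Suz_GA1
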