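import Mathlib
import Cfsg.Agent.Lib.Helper95_SuzDefs
import Cfsg.Agent.Lib.Helper54_Feit_PB1
import Cfsg.Agent.Lib.Helper54_Feit_PB3

/-!
# S0347 package GA2a (helper59): the two-point stabiliser is abelian and regular on the involutions
of the Frobenius kernel
-/

set_option autoImplicit false
set_option linter.unusedSectionVars false
set_option linter.unusedVariables false

namespace Cfsg.Agent.Lib.Helper59_Suz_GA2a

open Cfsg MulAction Cfsg.Agent.Lib.Helper95_FeitDefs Cfsg.Agent.Lib.Helper95_SuzDefs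
  Cfsg.Agent.Lib.Helper6_Zassenhaus

universe u v

variable {G : Type u} {Ω : Type v} [Group G] [Fintype G] [MulAction G Ω] [Fintype Ω]

/-- an element swapping `a` and `b` inverts the two-point stabiliser -/
theorem exists_inverting {a b : Ω} {H : Subgroup G} {h e : ℕ} (hN : Nice G Ω a b H h e) :
    ∃ t : G, t * t = 1 ∧ ∀ k ∈ (stabilizer G a ⊓ stabilizer G b : Subgroup G),
      t * k * t⁻¹ = k⁻¹ := by
  have hZ : ZHyp G Ω := zhyp_of_isZassenhausGroup hN.zass
  obtain ⟨t, hta, htb⟩ := hZ.two hN.hab hN.hab.symm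
  have htt : t * t = 1 := hN.swap_sq t a b hN.hab hta htb
  refine ⟨t, htt, ?_⟩
  intro k hk
  rw [Subgroup.mem_inf, mem_stabilizer_iff, mem_stabilizer_iff] at hk
  have h1 : (t * k) • a = b := by rw [mul_smul, hk.1, hta]
  have h2 : (t * k) • b = a := by rw [mul_smul, hk.2, htb]
  have h3 : (t * k) * (t * k) = 1 := hN.swap_sq (t * k) a b hN.hab h1 h2
  have htinv : t⁻¹ = t := inv_eq_of_mul_eq_one_left htt
  rw [htinv]
  have : t * k * t * k = 1 := by
    have : t * k * t * k = (t * k) * (t * k) := by group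
    rw [this, h3]
  exact eq_inv_of_mul_eq_one_left this

theorem E_comm {a b : Ω} {H : Subgroup G} {h e : ℕ} (hN : Nice G Ω a b H h e) :
    ∀ k ∈ (stabilizer G a ⊓ stabilizer G b : Subgroup G),
      ∀ k' ∈ (stabilizer G a ⊓ stabilizer G b : Subgroup G), k * k' = k' * k := by
  obtain ⟨t, htt, hinv⟩ := exists_inverting hN
  intro k hk k' hk'
  have h1 := hinv k hk
  have h2 := hinv k' hk'
  have h3 := hinv (k * k') (Subgroup.mul_mem _ hk hk')
  have h4 : t * (k * k') * t⁻¹ = (t * k * t⁻¹) * (t * k' * t⁻¹) := by group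
  rw [h4, h1, h2, mul_inv_rev] at h3
  -- k⁻¹ k'⁻¹ = k'⁻¹ k⁻¹
  have h5 : (k⁻¹ * k'⁻¹)⁻¹ = (k'⁻¹ * k⁻¹)⁻¹ := by rw [h3]
  simpa [mul_inv_rev] using h5.symm

/-- a non-trivial 2-group has an involution -/
theorem exists_invol {H : Subgroup G} (h2 : IsPGroup 2 H) (hH1 : H ≠ ⊥) :
    ∃ z ∈ H, z ≠ 1 ∧ z * z = 1 := by
  obtain ⟨n, hn⟩ := h2.exists_card_eq
  have hn0 : n ≠ 0 := by
    rintro rfl
    rw [pow_zero] at hn
    exact hH1 (Subgroup.card_eq_one.mp hn)
  have hdvd : 2 ∣ Nat.card H := by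
    rw [hn]; exact dvd_pow_self 2 hn0
  have : Fact (Nat.Prime 2) := ⟨Nat.prime_two⟩
  obtain ⟨z, hz⟩ := exists_prime_orderOf_dvd_card' (G := H) 2 hdvd
  refine ⟨(z : G), z.2, ?_, ?_⟩
  · intro h1
    have : z = 1 := Subtype.ext h1
    rw [this, orderOf_one] at hz
    omega
  · have := pow_orderOf_eq_one z
    rw [hz, pow_two] at this
    exact congrArg Subtype.val this

theorem GA2a {a b : Ω} {H : Subgroup G} {h e : ℕ} (hN : Nice G Ω a b H h e)
    (h2 : IsPGroup 2 H) (hH1 : H ≠ ⊥) :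
    (∀ k ∈ (stabilizer G a ⊓ stabilizer G b : Subgroup G),
      ∀ k' ∈ (stabilizer G a ⊓ stabilizer G b : Subgroup G), k * k' = k' * k) ∧
    (∀ z ∈ H, z ≠ 1 → z * z = 1 → ∀ z' ∈ H, z' ≠ 1 → z' * z' = 1 →
      ∃! k : ↥(stabilizer G a ⊓ stabilizer G b : Subgroup G), (k : G) * z * (k : G)⁻¹ = z') ∧
    (∃ z ∈ H, z ≠ 1 ∧ z * z = 1) ∧
    (∀ x ∈ stabilizer G a, ∀ y ∈ stabilizer G a, x * y * x⁻¹ * y⁻¹ ∈ H) := by
  classical
  obtain ⟨hnorm, _, _, _, hfrob, _, _, hHE, _⟩ := Cfsg.Agent.Lib.Helper54_Feit_PB1.PB1 hN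
  have hcomm := E_comm hN
  refine ⟨hcomm, ?_, exists_invol h2 hH1, ?_⟩
  · -- regularity on the involutions
    -- semiregularity
    have hsemi : ∀ k ∈ (stabilizer G a ⊓ stabilizer G b : Subgroup G), ∀ z ∈ H, z ≠ 1 →
        k * z * k⁻¹ = z → k = 1 := by
      intro k hk z hz hz1 hkz
      have hkH : k ∈ H := by
        apply hfrob z hz hz1 k hk.1
        calc k * z = (k * z * k⁻¹) * k := by group
          _ = z * k := by rw [hkz]
      have : k ∈ H ⊓ (stabilizer G a ⊓ stabilizer G b) := ⟨hkH, hk⟩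
      rw [hHE] at this
      exact Subgroup.mem_bot.mp this
    intro z hz hz1 hzz z' hz' hz'1 hzz'
    -- the set of involutions of H
    let I := {w : G // w ∈ H ∧ w ≠ 1 ∧ w * w = 1}
    let f : ↥(stabilizer G a ⊓ stabilizer G b : Subgroup G) → I := fun k =>
      ⟨(k : G) * z * (k : G)⁻¹, hnorm _ k.2.1 z hz, by
        intro h1
        apply hz1
        have : z = (k : G)⁻¹ * ((k : G) * z * (k : G)⁻¹) * (k : G) := by group
        rw [this, h1]; group, by
        have : (k : G) * z * (k : G)⁻¹ * ((k : G) * z * (k : G)⁻¹) = (k : G) * (z * z) * (k : G)⁻¹ := by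
          group
        rw [this, hzz]; group⟩
    have hf : Function.Injective f := by
      intro k k' hkk
      have h1 : (k : G) * z * (k : G)⁻¹ = (k' : G) * z * (k' : G)⁻¹ := congrArg Subtype.val hkk
      have h2 : ((k' : G)⁻¹ * (k : G)) * z * ((k' : G)⁻¹ * (k : G))⁻¹ = z := by
        calc ((k' : G)⁻¹ * (k : G)) * z * ((k' : G)⁻¹ * (k : G))⁻¹
            = (k' : G)⁻¹ * ((k : G) * z * (k : G)⁻¹) * (k' : G) := by group
          _ = (k' : G)⁻¹ * ((k' : G) * z * (k' : G)⁻¹) * (k' : G) := by rw [h1]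
          _ = z := by group
      have h3 := hsemi _ (Subgroup.mul_mem _ (Subgroup.inv_mem _ k'.2) k.2) z hz hz1 h2
      apply Subtype.ext
      have : (k : G) = (k' : G) * ((k' : G)⁻¹ * (k : G)) := by group
      rw [this, h3, mul_one]
    -- |I| ≤ e
    have hI : Nat.card I + 1 ≤ Nat.card {w : G // w ∈ H ∧ w * w = 1} := by
      let g : Option I → {w : G // w ∈ H ∧ w * w = 1} := fun o =>
        match o with
        | none => ⟨1, H.one_mem, by simp⟩
        | some w => ⟨w.1, w.2.1, w.2.2.2⟩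
      have hg : Function.Injective g := by
        intro o o' hoo
        match o, o' with
        | none, none => rfl
        | none, some w =>
          exfalso
          have : (1 : G) = w.1 := congrArg Subtype.val hoo
          exact w.2.2.1 this.symm
        | some w, none =>
          exfalso
          have : w.1 = (1 : G) := congrArg Subtype.val hoo
          exact w.2.2.1 this
        | some w, some w' =>
          have : w.1 = w'.1 := congrArg (fun t : {w : G // w ∈ H ∧ w * w = 1} => t.1) hoo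
          rw [Subtype.ext this]
      have := Nat.card_le_card_of_injective g hg
      rwa [Nat.card_eq_fintype_card (α := Option I), Fintype.card_option,
        ← Nat.card_eq_fintype_card] at this
    have hI2 := (Cfsg.Agent.Lib.Helper54_Feit_PB3.PB3 hN).2.2
    have hle : Nat.card I ≤ Nat.card ↥(stabilizer G a ⊓ stabilizer G b : Subgroup G) := by
      rw [hN.card_E]; omega
    have hbij := hf.bijective_of_nat_card_le hle
    obtain ⟨k, hk⟩ := hbij.2 ⟨z', hz', hz'1, hzz'⟩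
    refine ⟨k, congrArg Subtype.val hk, ?_⟩
    intro k' hk'
    apply hf
    apply Subtype.ext
    show (k' : G) * z * (k' : G)⁻¹ = (k : G) * z * (k : G)⁻¹
    have hk0 : (k : G) * z * (k : G)⁻¹ = z' := congrArg Subtype.val hk
    rw [hk', hk0]
  · -- N / H is abelian
    intro x hx y hy
    obtain ⟨k1, hk1, y1, hy1, rfl⟩ := Cfsg.Agent.Lib.Helper54_Feit_PB1.exists_factor hN hx
    obtain ⟨k2, hk2, y2, hy2, rfl⟩ := Cfsg.Agent.Lib.Helper54_Feit_PB1.exists_factor hN hy
    have hc := hcomm y1 hy1 y2 hy2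
    -- conjugates of elements of H by elements of the stabilizer
    have hy1N : y1 ∈ stabilizer G a := hy1.1
    have hy2N : y2 ∈ stabilizer G a := hy2.1
    have hHN : H ≤ stabilizer G a := hN.H_le
    have e1 : k1 * y1 * (k2 * y2) * (k1 * y1)⁻¹ * (k2 * y2)⁻¹ =
        k1 * (y1 * k2 * y1⁻¹) * ((y1 * y2 * y1⁻¹) * k1⁻¹ * (y1 * y2 * y1⁻¹)⁻¹) *
          ((y1 * y2 * y1⁻¹ * y2⁻¹) * k2⁻¹ * (y1 * y2 * y1⁻¹ * y2⁻¹)⁻¹) *
            (y1 * y2 * y1⁻¹ * y2⁻¹) := by
      group
    have e2 : y1 * y2 * y1⁻¹ * y2⁻¹ = 1 := by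
      rw [hc]; group
    rw [e1, e2, mul_one]
    refine H.mul_mem (H.mul_mem (H.mul_mem hk1 (hnorm _ hy1N _ hk2)) ?_) ?_
    · exact hnorm _ (Subgroup.mul_mem _ (Subgroup.mul_mem _ hy1N hy2N) (Subgroup.inv_mem _ hy1N)) _
        (H.inv_mem hk1)
    · simpa using H.inv_mem hk2

end Cfsg.Agent.Lib.Helper59_Suz_GA2a
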