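import Mathlib
import Cfsg.Agent.Lib.Helper95_SuzDefs
import Cfsg.Agent.Lib.Helper95_FeitCore
import Cfsg.Agent.Lib.Helper76_GalConj

/-!
# S0347, package KC1 (helper25): Frobenius–Schur indicators in the abstract 2-group `K`
-/

set_option autoImplicit false

namespace Cfsg.Agent.Lib.Helper25_Suz_KC1

open Cfsg MulAction Cfsg.Agent.Lib.Helper95_FeitDefs Cfsg.Agent.Lib.Helper95_SuzDefs
open Cfsg.Agent.Lib.Helper74_FS Cfsg.Agent.Lib.Helper76_GalConj

universe u v

section KC
variable {K : Type u} [Group K] [Fintype K] {q s : ℕ}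

theorem KC1 (hK : KData K q s) {θ : K → ℂ} (hθ : Cfsg.IsIrrCharacter K θ) :
    (θ 1 = 1 ∧ fsInd θ = 1) ∨
    (θ 1 ≠ 1 ∧ fsInd θ * (Nat.card K : ℂ) = θ 1 * ((q : ℂ) - (s : ℂ))) := by
  classical
  set χ : IrrCharacter K := ⟨θ, hθ⟩ with hχ
  have hχθ : (χ : K → ℂ) = θ := rfl
  have hcent : ∀ z : K, z * z = 1 → z ∈ Subgroup.center K := by
    intro z hz
    rw [Subgroup.mem_center_iff]
    intro y
    exact (hK.invol_comm z hz y).symm
  have hcard : (Nat.card K : ℂ) ≠ 0 := card_ne_zero
  by_cases hall : ∀ z : K, z * z = 1 → θ z = θ 1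
  · left
    have hcomm : commutator K ≤ kerC χ := by
      rw [commutator_def, Subgroup.commutator_le]
      intro a _ b _
      rw [mem_kerC, commutatorElement_def]
      exact hall _ (hK.comm_sq a b)
    have hdeg := charDegree_eq_one_of_commutator_le χ hcomm
    have h1 : θ 1 = 1 := by
      have h := irr_one_eq_charDegree χ
      rw [hdeg, hχθ] at h
      simpa using h
    refine ⟨h1, ?_⟩
    unfold fsInd
    have h2 : ∀ x : K, θ (x * x) = 1 := by
      intro x
      rw [hall (x * x) (hK.sq_sq x), h1]
    rw [Finset.sum_congr rfl fun x _ => h2 x, Finset.sum_const, Finset.card_univ, nsmul_eq_mul,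
      mul_one, Nat.card_eq_fintype_card]
    exact inv_mul_cancel₀ (by exact_mod_cast Fintype.card_ne_zero)
  · right
    push Not at hall
    obtain ⟨z₀, hz₀, hne⟩ := hall
    have hθ1 : θ 1 ≠ 1 := by
      intro h1
      have hdeg : charDegree (χ : K → ℂ) = 1 := by
        have h := irr_one_eq_charDegree χ
        rw [hχθ, h1] at h
        exact_mod_cast h.symm
      have hle := commutator_le_kerC_of_linear χ hdeg
      obtain ⟨x, y, hxy⟩ := hK.invol_is_comm z₀ hz₀
      apply hne
      have hmem : z₀ ∈ kerC χ := by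
        apply hle
        rw [hxy, ← commutatorElement_def, commutator_def]
        exact Subgroup.commutator_mem_commutator (Subgroup.mem_top x) (Subgroup.mem_top y)
      exact (mem_kerC χ z₀).1 hmem
    refine ⟨hθ1, ?_⟩
    -- the sum over `Z` vanishes
    set Z : Finset K := Finset.univ.filter (fun z : K => z * z = 1) with hZ
    have hZmem : ∀ z : K, z ∈ Z ↔ z * z = 1 := by
      intro z
      rw [hZ, Finset.mem_filter]
      exact ⟨fun h => h.2, fun h => ⟨Finset.mem_univ _, h⟩⟩
    have hmulZ : ∀ z : K, z * z = 1 → (z * z₀) * (z * z₀) = 1 := by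
      intro z hz
      calc (z * z₀) * (z * z₀) = z * (z₀ * z) * z₀ := by group
        _ = z * (z * z₀) * z₀ := by rw [hK.invol_comm z₀ hz₀ z]
        _ = (z * z) * (z₀ * z₀) := by group
        _ = 1 := by rw [hz, hz₀, one_mul]
    have hS : ∑ z ∈ Z, θ z = 0 := by
      have hbij : ∑ z ∈ Z, θ (z * z₀) = ∑ z ∈ Z, θ z := by
        refine Finset.sum_bij' (fun z _ => z * z₀) (fun z _ => z * z₀) ?_ ?_ ?_ ?_ ?_
        · intro z hz
          exact (hZmem _).2 (hmulZ z ((hZmem z).1 hz))
        · intro z hz
          exact (hZmem _).2 (hmulZ z ((hZmem z).1 hz))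
        · intro z _
          show z * z₀ * z₀ = z
          rw [mul_assoc, hz₀, mul_one]
        · intro z _
          show z * z₀ * z₀ = z
          rw [mul_assoc, hz₀, mul_one]
        · intro z _
          rfl
      have h3 : (∑ z ∈ Z, θ z) * θ 1 = θ z₀ * ∑ z ∈ Z, θ z := by
        conv_lhs => rw [← hbij]
        rw [Finset.sum_mul, Finset.mul_sum]
        exact Finset.sum_congr rfl fun z _ => irr_mul_central χ (hcent z₀ hz₀) z
      have h4 : (θ 1 - θ z₀) * ∑ z ∈ Z, θ z = 0 := by linear_combination h3
      rcases mul_eq_zero.1 h4 with h | h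
      · exact absurd (sub_eq_zero.1 h).symm hne
      · exact h
    -- the fibre sum
    have hsc : ∀ g : K, sqrtCount g * θ g =
        if g * g = 1 then ((s : ℂ) * θ g + if g = 1 then ((q : ℂ) - (s : ℂ)) * θ 1 else 0)
        else 0 := by
      intro g
      by_cases hg : g * g = 1
      · rw [if_pos hg]
        by_cases hg1 : g = 1
        · rw [if_pos hg1, hg1]
          have hq : sqrtCount (1 : K) = (q : ℂ) := by
            unfold sqrtCount
            rw [← hK.card_invol, Nat.card_eq_fintype_card, Fintype.card_subtype]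
          rw [hq]
          ring
        · rw [if_neg hg1, add_zero]
          have hs : sqrtCount g = (s : ℂ) := by
            unfold sqrtCount
            rw [← hK.roots g hg1 hg, Nat.card_eq_fintype_card, Fintype.card_subtype]
          rw [hs]
      · rw [if_neg hg]
        have h0 : sqrtCount g = 0 := by
          unfold sqrtCount
          rw [Nat.cast_eq_zero, Finset.card_eq_zero, Finset.filter_eq_empty_iff]
          intro x _ hx
          apply hg
          rw [← hx]
          exact hK.sq_sq x
        rw [h0, zero_mul]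
    unfold fsInd
    rw [mul_comm, ← mul_assoc, mul_inv_cancel₀ hcard, one_mul, ← sum_sqrtCount_mul θ,
      Finset.sum_congr rfl fun g _ => hsc g, ← Finset.sum_filter, ← hZ, Finset.sum_add_distrib,
      ← Finset.mul_sum, hS, mul_zero, zero_add, Finset.sum_ite_eq' Z (1 : K),
      if_pos ((hZmem 1).2 (one_mul 1))]
    ring

end KC

end Cfsg.Agent.Lib.Helper25_Suz_KC1
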