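import Mathlib
import Cfsg.Agent.Lib.Helper95_SuzDefs
import Cfsg.Agent.Lib.Helper95_FeitCore
import Cfsg.Agent.Lib.Helper16_SectionNorm

/-!
# S0347, package SQ (helper25): the sum of the squares of the degrees of the characters in `SS`
-/

set_option autoImplicit false

namespace Cfsg.Agent.Lib.Helper25_Suz_SQ

open Cfsg MulAction Cfsg.Agent.Lib.Helper95_FeitDefs Cfsg.Agent.Lib.Helper95_SuzDefs
open Cfsg.Agent.Lib.Helper74_FS
open scoped ComplexConjugate

universe u v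

section NC
variable {G : Type u} [Group G] [Fintype G] {N H : Subgroup G} [Fintype N] {h e : ℕ}

theorem SQ (hD : ZData N H h e) [Fintype {ξ : N → ℂ // ξ ∈ SS N H}] :
    ∑ j : {ξ : N → ℂ // ξ ∈ SS N H}, j.1 1 * j.1 1 = (e : ℂ) * ((h : ℂ) - 1) := by
  classical
  have hfin : Finite (IrrCharacter N) := Cfsg.Agent.Lib.Helper81_CharOrth.finite_irrCharacter
  have hft : Fintype (IrrCharacter N) := Fintype.ofFinite (IrrCharacter N)
  have hKn : (H.subgroupOf N).Normal := Cfsg.Agent.Lib.Helper95_FeitCore.K_normal hD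
  have h1 : ∑ χ : IrrCharacter N, (χ : N → ℂ) 1 * (χ : N → ℂ) 1 = (Nat.card N : ℂ) := sum_deg_sq
  have h2 := Cfsg.Agent.Lib.Helper16_SectionNorm.sum_deg_sq_of_kernel (H := N) (H.subgroupOf N)
  rw [Cfsg.Agent.Lib.Helper95_FeitCore.index_K hD] at h2
  have hreal : ∀ χ : IrrCharacter N, conj ((χ : N → ℂ) 1) = (χ : N → ℂ) 1 := by
    intro χ
    obtain ⟨n, -, hn⟩ := Cfsg.Agent.Lib.Helper80_CharBasic.irr_apply_one χ
    rw [hn, Complex.conj_natCast]
  -- the sum over `SS` as a filtered sum over all irreducible characters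
  have h3 : ∑ j : {ξ : N → ℂ // ξ ∈ SS N H}, j.1 1 * j.1 1 =
      ∑ χ : IrrCharacter N, (if ¬ ∀ n ∈ H.subgroupOf N, (χ : N → ℂ) n = (χ : N → ℂ) 1 then
        (χ : N → ℂ) 1 * (χ : N → ℂ) 1 else 0) := by
    rw [← Finset.sum_filter]
    refine Finset.sum_bij (fun j _ => (⟨j.1, j.2.1⟩ : IrrCharacter N)) ?_ ?_ ?_ ?_
    · intro j _
      rw [Finset.mem_filter]
      refine ⟨Finset.mem_univ _, ?_⟩
      obtain ⟨x, hx, hne⟩ := j.2.2
      intro hall
      exact hne (hall x hx)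
    · intro j _ j' _ hjj
      apply Subtype.ext
      exact congrArg (fun χ : IrrCharacter N => (χ : N → ℂ)) hjj
    · intro χ hχ
      rw [Finset.mem_filter] at hχ
      have hχ2 := hχ.2
      push Not at hχ2
      obtain ⟨x, hx, hne⟩ := hχ2
      exact ⟨⟨χ.1, χ.2, x, hx, hne⟩, Finset.mem_univ _, rfl⟩
    · intro j _
      rfl
  rw [h3]
  have h4 : ∀ χ : IrrCharacter N,
      (if ¬ ∀ n ∈ H.subgroupOf N, (χ : N → ℂ) n = (χ : N → ℂ) 1 then
        (χ : N → ℂ) 1 * (χ : N → ℂ) 1 else 0) =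
      (χ : N → ℂ) 1 * (χ : N → ℂ) 1 -
        (if ∀ n ∈ H.subgroupOf N, (χ : N → ℂ) n = (χ : N → ℂ) 1 then
          (χ : N → ℂ) 1 * conj ((χ : N → ℂ) 1) else 0) := by
    intro χ
    by_cases hc : ∀ n ∈ H.subgroupOf N, (χ : N → ℂ) n = (χ : N → ℂ) 1
    · rw [if_neg (not_not.2 hc), if_pos hc, hreal, sub_self]
    · rw [if_pos hc, if_neg hc, sub_zero]
  rw [Finset.sum_congr rfl fun χ _ => h4 χ, Finset.sum_sub_distrib, h1, h2, hD.card_N]
  push_cast
  ring

end NC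

end Cfsg.Agent.Lib.Helper25_Suz_SQ
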