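import Mathlib
import Cfsg.Agent.Lib.Helper95_SuzDefs

/-!
# S0347 package GB (helper59): square roots and commutators in `K = H.subgroupOf N`
-/

set_option autoImplicit false
set_option linter.unusedSectionVars false
set_option linter.unusedVariables false

namespace Cfsg.Agent.Lib.Helper59_Suz_GB

open Cfsg MulAction Cfsg.Agent.Lib.Helper95_FeitDefs Cfsg.Agent.Lib.Helper95_SuzDefs

universe u v

/-- the abstract version: a finite group in which squares are involutions, with `e + 1` elements of
square one, whose automorphism group is transitive on the involutions -/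
theorem abstract_GB {K : Type u} [Group K] [Fintype K] {h e : ℕ}
    (sq_sq : ∀ x : K, (x * x) * (x * x) = 1)
    (invol_comm : ∀ z : K, z * z = 1 → ∀ y : K, z * y = y * z)
    (comm_sq : ∀ x y : K, (x * y * x⁻¹ * y⁻¹) * (x * y * x⁻¹ * y⁻¹) = 1)
    (card_invol : Nat.card {z : K // z * z = 1} = e + 1)
    (trans : ∀ z : K, z ≠ 1 → z * z = 1 → ∀ z' : K, z' ≠ 1 → z' * z' = 1 →
      ∃ φ : K ≃* K, φ z = z')
    (nonab : ∃ x y : K, x * y ≠ y * x)
    (hcard : Nat.card K = h) :
    ∃ s : ℕ, s * e + (e + 1) = h ∧ KData K (e + 1) s := by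
  classical
  -- a non-trivial commutator
  obtain ⟨x0, y0, hxy⟩ := nonab
  set c := x0 * y0 * x0⁻¹ * y0⁻¹ with hc
  have hc1 : c ≠ 1 := by
    intro h1
    apply hxy
    have : x0 * y0 = c * (y0 * x0) := by rw [hc]; group
    rw [this, h1, one_mul]
  have hcc : c * c = 1 := comm_sq x0 y0
  -- the number of square roots
  let s := Nat.card {x : K // x * x = c}
  have hroots : ∀ z : K, z ≠ 1 → z * z = 1 → Nat.card {x : K // x * x = z} = s := by
    intro z hz1 hzz
    obtain ⟨φ, hφ⟩ := trans c hc1 hcc z hz1 hzz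
    symm
    apply Nat.card_congr
    refine ⟨fun x => ⟨φ x.1, by rw [← map_mul, x.2, hφ]⟩,
      fun x => ⟨φ.symm x.1, by
        rw [← map_mul, x.2, ← hφ, MulEquiv.symm_apply_apply]⟩, ?_, ?_⟩
    · intro x; apply Subtype.ext; simp
    · intro x; apply Subtype.ext; simp
  refine ⟨s, ?_, ⟨sq_sq, invol_comm, comm_sq, card_invol, hroots, ?_⟩⟩
  · -- counting
    let Z := {z : K // z * z = 1}
    let sq : K → Z := fun x => ⟨x * x, sq_sq x⟩
    have h1 : Fintype.card K = ∑ z : Z, Fintype.card {x : K // sq x = z} := by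
      rw [← Fintype.card_sigma]
      exact Fintype.card_congr (Equiv.sigmaFiberEquiv sq).symm
    have hone : (1 : K) * 1 = 1 := one_mul 1
    have h2 : ∀ z : Z, Fintype.card {x : K // sq x = z} =
        if z = ⟨1, hone⟩ then e + 1 else s := by
      intro z
      by_cases hz : z = ⟨1, hone⟩
      · rw [if_pos hz, hz, ← card_invol, Nat.card_eq_fintype_card]
        apply Fintype.card_congr
        refine ⟨fun x => ⟨x.1, congrArg Subtype.val x.2⟩, fun x => ⟨x.1, Subtype.ext x.2⟩, ?_, ?_⟩
        · intro x; rfl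
        · intro x; rfl
      · rw [if_neg hz]
        have hz1 : z.1 ≠ 1 := fun h => hz (Subtype.ext h)
        rw [← hroots z.1 hz1 z.2, Nat.card_eq_fintype_card]
        apply Fintype.card_congr
        refine ⟨fun x => ⟨x.1, congrArg Subtype.val x.2⟩, fun x => ⟨x.1, Subtype.ext x.2⟩, ?_, ?_⟩
        · intro x; rfl
        · intro x; rfl
    have h3 : Fintype.card Z = e + 1 := by
      rw [← card_invol, Nat.card_eq_fintype_card]
    rw [← hcard, Nat.card_eq_fintype_card, h1]
    simp_rw [h2]
    rw [Finset.sum_ite, Finset.sum_const, Finset.sum_const]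
    have h4 : (Finset.univ.filter (fun z : Z => z = ⟨1, hone⟩)).card = 1 := by
      rw [Finset.filter_eq']
      simp
    have h5 : (Finset.univ.filter (fun z : Z => ¬ z = ⟨1, hone⟩)).card = e := by
      have := Finset.card_filter_add_card_filter_not (s := (Finset.univ : Finset Z))
        (fun z : Z => z = ⟨1, hone⟩)
      rw [h4, Finset.card_univ, h3] at this
      omega
    rw [h4, h5]
    simp only [smul_eq_mul]
    ring
  · intro z hzz
    by_cases hz1 : z = 1
    · exact ⟨1, 1, by rw [hz1]; group⟩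
    · obtain ⟨φ, hφ⟩ := trans c hc1 hcc z hz1 hzz
      refine ⟨φ x0, φ y0, ?_⟩
      rw [← hφ, hc]
      simp [map_mul, map_inv]

section GB
variable {G : Type u} [Group G] [Fintype G] {N H : Subgroup G} [Fintype N]
  [Fintype ↥(H.subgroupOf N)] {h e : ℕ}

theorem GB (hS : SData N H h e) :
    ∃ s : ℕ, s * e + (e + 1) = h ∧ KData ↥(H.subgroupOf N) (e + 1) s := by
  classical
  have hnormal : (H.subgroupOf N).Normal := by
    constructor
    intro x hx n
    rw [Subgroup.mem_subgroupOf] at hx ⊢
    have := hS.zdata.H_normal (n : G) n.2 (x : G) hx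
    simpa using this
  have memK : ∀ x : ↥(H.subgroupOf N), ((x : N) : G) ∈ H := fun x =>
    Subgroup.mem_subgroupOf.mp x.2
  have ext' : ∀ x y : ↥(H.subgroupOf N), ((x : N) : G) = ((y : N) : G) → x = y := fun x y hxy =>
    Subtype.ext (Subtype.ext hxy)
  apply abstract_GB
  · intro x
    apply ext'
    simpa using hS.sq_sq _ (memK x)
  · intro z hzz y
    apply ext'
    have hzz' : ((z : N) : G) * ((z : N) : G) = 1 := by
      have := congrArg (fun t : ↥(H.subgroupOf N) => ((t : N) : G)) hzz
      simpa using this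
    simpa using hS.invol_comm _ (memK z) hzz' _ (memK y)
  · intro x y
    apply ext'
    simpa using hS.comm_sq _ (memK x) _ (memK y)
  · rw [← hS.card_invol]
    apply Nat.card_congr
    refine ⟨fun z => ⟨((z.1 : N) : G), memK z.1, by
        have := congrArg (fun t : ↥(H.subgroupOf N) => ((t : N) : G)) z.2
        simpa using this⟩,
      fun z => ⟨⟨⟨z.1, hS.zdata.H_le z.2.1⟩, Subgroup.mem_subgroupOf.mpr z.2.1⟩, by
        apply ext'
        simpa using z.2.2⟩, ?_, ?_⟩
    · intro z; apply Subtype.ext; apply ext'; rfl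
    · intro z; rfl
  · intro z hz1 hzz z' hz'1 hzz'
    have hzG1 : ((z : N) : G) ≠ 1 := fun h => hz1 (ext' _ _ (by simpa using h))
    have hz'G1 : ((z' : N) : G) ≠ 1 := fun h => hz'1 (ext' _ _ (by simpa using h))
    have hzzG : ((z : N) : G) * ((z : N) : G) = 1 := by
      have := congrArg (fun t : ↥(H.subgroupOf N) => ((t : N) : G)) hzz
      simpa using this
    have hzzG' : ((z' : N) : G) * ((z' : N) : G) = 1 := by
      have := congrArg (fun t : ↥(H.subgroupOf N) => ((t : N) : G)) hzz'
      simpa using this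
    obtain ⟨n, hn, hnz⟩ := hS.trans _ (memK z) hzG1 hzzG _ (memK z') hz'G1 hzzG'
    refine ⟨MulAut.conjNormal (H := H.subgroupOf N) (⟨n, hn⟩ : N), ?_⟩
    apply ext'
    rw [MulAut.conjNormal_apply]
    simpa using hnz
  · obtain ⟨x, hx, y, hy, hxy⟩ := hS.nonab
    refine ⟨⟨⟨x, hS.zdata.H_le hx⟩, Subgroup.mem_subgroupOf.mpr hx⟩,
      ⟨⟨y, hS.zdata.H_le hy⟩, Subgroup.mem_subgroupOf.mpr hy⟩, ?_⟩
    intro hcon
    apply hxy
    have := congrArg (fun t : ↥(H.subgroupOf N) => ((t : N) : G)) hcon
    simpa using this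
  · rw [← hS.zdata.card_H]
    exact Nat.card_congr (Subgroup.subgroupOfEquivOfLe hS.zdata.H_le).toEquiv

end GB

end Cfsg.Agent.Lib.Helper59_Suz_GB
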