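import Mathlib
import Cfsg.Agent.Lib.Helper95_SuzDefs
import Cfsg.Agent.Lib.Helper95_FeitCore
import Cfsg.Agent.Lib.Helper95_FeitGlue
import Cfsg.Agent.Lib.Helper17_Feit_PE1

/-!
# S0347 package FN (helper75): the Frobenius–Schur count in `N`

`∑_{ξ ∈ SS} ν(ξ) ξ(1) = e`.
-/

set_option autoImplicit false
set_option linter.unusedSectionVars false

namespace Cfsg.Agent.Lib.Helper75_Suz_FN

open Cfsg MulAction Cfsg.Agent.Lib.Helper95_FeitDefs Cfsg.Agent.Lib.Helper95_SuzDefs
open Cfsg.Agent.Lib.Helper74_FS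
open scoped ComplexConjugate

universe u

variable {G : Type u} [Group G] [Fintype G] {N H : Subgroup G} [Fintype N] {h e : ℕ}

/-- The number of solutions of `s * s = 1` in `N` is the number of those in `H`. -/
theorem card_sq_eq (hD : ZData N H h e) :
    Nat.card {s : N // s * s = 1} = Nat.card {z : G // z ∈ H ∧ z * z = 1} := by
  apply Nat.card_congr
  refine
    { toFun := fun s => ⟨(s.1 : G), Cfsg.Agent.Lib.Helper17_Feit_PE1.mem_H_of_sq hD s.1 s.2, by
        have := congrArg Subtype.val s.2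
        simpa using this⟩
      invFun := fun z => ⟨⟨z.1, hD.H_le z.2.1⟩, Subtype.ext (by simpa using z.2.2)⟩
      left_inv := fun s => Subtype.ext (Subtype.ext rfl)
      right_inv := fun z => Subtype.ext rfl }

theorem FN (hD : ZData N H h e) (hinv : Nat.card {z : G // z ∈ H ∧ z * z = 1} = e + 1)
    [Fintype {ξ : N → ℂ // ξ ∈ SS N H}] :
    ∑ j : {ξ : N → ℂ // ξ ∈ SS N H}, fsInd j.1 * j.1 1 = (e : ℂ) := by
  classical
  have hC0 := Cfsg.Agent.Lib.Helper95_FeitGlue.hC0_of hD
  have hfin : Finite (IrrCharacter N) := Cfsg.Agent.Lib.Helper81_CharOrth.finite_irrCharacter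
  have hft : Fintype (IrrCharacter N) := Fintype.ofFinite _
  set S : Finset (IrrCharacter N) := Finset.univ.filter (fun χ => (χ : N → ℂ) ∈ SS N H) with hS
  set t : IrrCharacter N := Cfsg.Agent.Lib.Helper16_CohCount.trivIrr N with ht
  have htS : t ∉ S := by
    rw [hS, Finset.mem_filter]
    rintro ⟨-, -, x, -, hx⟩
    exact hx rfl
  -- the count of square roots of `1`
  have hsq : sqrtCount (1 : N) = (e : ℂ) + 1 := by
    have h1 : (Finset.univ.filter (fun s : N => s * s = 1)).card = e + 1 := by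
      rw [← hinv, ← card_sq_eq hD, Nat.card_eq_fintype_card, Fintype.card_subtype]
    have h2 : sqrtCount (1 : N) = ((Finset.univ.filter (fun s : N => s * s = 1)).card : ℂ) := by
      unfold sqrtCount
      congr!
    rw [h2, h1]
    push_cast
    rfl
  -- Frobenius–Schur
  have hcount : sqrtCount (1 : N) =
      ∑ χ ∈ S, fsInd (χ : N → ℂ) * (χ : N → ℂ) 1 + 1 := by
    rw [sqrtCount_one_eq, ← Finset.sum_add_sum_compl S]
    congr 1
    rw [Finset.sum_eq_single_of_mem t (Finset.mem_compl.2 htS)]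
    · change fsInd (fun _ : N => (1 : ℂ)) * 1 = 1
      rw [Cfsg.Agent.Lib.Helper17_Feit_PE1.fsInd_one, one_mul]
    · intro χ hχ hχt
      rw [Finset.mem_compl, hS, Finset.mem_filter] at hχ
      have hnot : ¬ ((χ : N → ℂ) ∈ SS N H) := fun hh => hχ ⟨Finset.mem_univ _, hh⟩
      have hker : ∀ x ∈ H.subgroupOf N, (χ : N → ℂ) x = (χ : N → ℂ) 1 := by
        intro x hx
        by_contra hne
        exact hnot ⟨χ.2, x, hx, hne⟩
      have hne1 : (χ : N → ℂ) ≠ (fun _ => 1) := by
        intro hh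
        apply hχt
        exact Subtype.ext hh
      have hconj := hC0 _ χ.2 hker hne1
      rcases fsInd_irr χ.2 with h0 | ⟨hreal, -⟩
      · rw [h0, zero_mul]
      · exfalso
        apply hconj
        funext g
        change conj ((χ : N → ℂ) g) = (χ : N → ℂ) g
        rw [Complex.conj_eq_iff_im]
        exact hreal g
  have hsumS : ∑ χ ∈ S, fsInd (χ : N → ℂ) * (χ : N → ℂ) 1 = (e : ℂ) := by
    rw [hsq] at hcount
    exact (add_right_cancel hcount).symm
  rw [← hsumS]
  refine Finset.sum_bij (fun j _ => (⟨j.1, j.2.1⟩ : IrrCharacter N)) ?_ ?_ ?_ ?_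
  · intro j _
    rw [hS, Finset.mem_filter]
    exact ⟨Finset.mem_univ _, j.2⟩
  · intro a _ b _ hab
    have : a.1 = b.1 := congrArg (fun χ : IrrCharacter N => (χ : N → ℂ)) hab
    exact Subtype.ext this
  · intro χ hχ
    rw [hS, Finset.mem_filter] at hχ
    exact ⟨⟨χ.1, hχ.2⟩, Finset.mem_univ _, Subtype.ext rfl⟩
  · intro j _
    rfl

end Cfsg.Agent.Lib.Helper75_Suz_FN
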