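import Mathlib

/-!
# Suzuki's theorem on Zassenhaus groups: arithmetic of the multiplicities (helper95)

Pure arithmetic.  `coh`: a family of integer vectors with pairwise differences of norm `2` and of
"degree" `0` is coherent: `c j = v + ε e_{X j}`.
-/

set_option autoImplicit false
set_option linter.unusedSectionVars false
set_option linter.unusedVariables false
set_option linter.unnecessarySimpa false

namespace Cfsg.Agent.Lib.Helper95_SuzArith

open Finset

section coh

variable {I : Type*} [Fintype I] [DecidableEq I]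

/-- an integer vector of norm `2` and weighted sum `0` (positive weights) is `e_p - e_m` -/
theorem two_pt (f : I → ℤ) (D : I → ℤ) (hD : ∀ i, 0 < D i) (hn : ∑ i, f i ^ 2 = 2)
    (hd : ∑ i, f i * D i = 0) :
    ∃ p m : I, p ≠ m ∧ ∀ i, f i = (if i = p then 1 else 0) - (if i = m then 1 else 0) := by
  -- a positive entry
  have hpos : ∃ p, 0 < f p := by
    by_contra hcon
    push Not at hcon
    have h1 : ∀ i ∈ (univ : Finset I), f i * D i ≤ 0 := fun i _ =>
      mul_nonpos_of_nonpos_of_nonneg (hcon i) (hD i).le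
    have h2 : ∀ i ∈ (univ : Finset I), f i * D i = 0 :=
      (Finset.sum_eq_zero_iff_of_nonpos h1).mp hd
    have h3 : ∀ i, f i = 0 := by
      intro i
      have := h2 i (mem_univ i)
      rcases mul_eq_zero.mp this with h | h
      · exact h
      · exact absurd h (hD i).ne'
    have : ∑ i, f i ^ 2 = 0 := by
      apply Finset.sum_eq_zero
      intro i _
      rw [h3 i]; norm_num
    omega
  have hneg : ∃ m, f m < 0 := by
    by_contra hcon
    push Not at hcon
    have h1 : ∀ i ∈ (univ : Finset I), 0 ≤ f i * D i := fun i _ =>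
      mul_nonneg (hcon i) (hD i).le
    have h2 : ∀ i ∈ (univ : Finset I), f i * D i = 0 :=
      (Finset.sum_eq_zero_iff_of_nonneg h1).mp hd
    have h3 : ∀ i, f i = 0 := by
      intro i
      have := h2 i (mem_univ i)
      rcases mul_eq_zero.mp this with h | h
      · exact h
      · exact absurd h (hD i).ne'
    have : ∑ i, f i ^ 2 = 0 := by
      apply Finset.sum_eq_zero
      intro i _
      rw [h3 i]; norm_num
    omega
  obtain ⟨p, hp⟩ := hpos
  obtain ⟨m, hm⟩ := hneg
  have hpm : p ≠ m := by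
    intro h
    rw [h] at hp
    omega
  refine ⟨p, m, hpm, ?_⟩
  -- split the sum
  have hsplit : ∑ i, f i ^ 2 = f p ^ 2 + f m ^ 2 + ∑ i ∈ (univ.erase p).erase m, f i ^ 2 := by
    rw [← Finset.add_sum_erase _ _ (mem_univ p)]
    rw [← Finset.add_sum_erase _ _ (show m ∈ univ.erase p from
      Finset.mem_erase.mpr ⟨hpm.symm, mem_univ m⟩)]
    ring
  have hrest : 0 ≤ ∑ i ∈ (univ.erase p).erase m, f i ^ 2 :=
    Finset.sum_nonneg (fun i _ => sq_nonneg _)
  have hp1 : 1 ≤ f p ^ 2 := by nlinarith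
  have hm1 : 1 ≤ f m ^ 2 := by nlinarith
  have hp2 : f p ^ 2 = 1 := by omega
  have hm2 : f m ^ 2 = 1 := by omega
  have hrest0 : ∑ i ∈ (univ.erase p).erase m, f i ^ 2 = 0 := by omega
  have hfp : f p = 1 := by nlinarith
  have hfm : f m = -1 := by nlinarith
  intro i
  by_cases hip : i = p
  · subst hip
    rw [if_pos rfl, if_neg hpm, hfp]; norm_num
  · by_cases him : i = m
    · subst him
      rw [if_neg hip, if_pos rfl, hfm]; norm_num
    · rw [if_neg hip, if_neg him]
      have hmem : i ∈ (univ.erase p).erase m :=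
        Finset.mem_erase.mpr ⟨him, Finset.mem_erase.mpr ⟨hip, mem_univ i⟩⟩
      have := (Finset.sum_eq_zero_iff_of_nonneg (fun i _ => sq_nonneg (f i))).mp hrest0 i hmem
      have h0 : f i = 0 := by nlinarith
      rw [h0]; norm_num

variable {J : Type*} [DecidableEq J]

/-- **Coherence**: vectors with pairwise differences of norm `2` and degree `0`. -/
theorem coh (c : J → I → ℤ) (D : I → ℤ) (hD : ∀ i, 0 < D i)
    (hnorm : ∀ j k, j ≠ k → ∑ i, (c j i - c k i) ^ 2 = 2)
    (hdeg : ∀ j k, ∑ i, (c j i - c k i) * D i = 0)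
    (h2 : ∃ j k : J, j ≠ k) :
    ∃ (ε : ℤ) (X : J → I) (v : I → ℤ), (ε = 1 ∨ ε = -1) ∧ Function.Injective X ∧
      ∀ j i, c j i = v i + ε * (if i = X j then 1 else 0) := by
  classical
  obtain ⟨j₀, k₀, hjk₀⟩ := h2
  have hex : ∀ k, k ≠ j₀ → ∃ p m : I, p ≠ m ∧
      ∀ i, c j₀ i - c k i = (if i = p then 1 else 0) - (if i = m then 1 else 0) :=
    fun k hk => two_pt (fun i => c j₀ i - c k i) D hD (hnorm j₀ k hk.symm) (hdeg j₀ k)
  have hI : Nonempty I := by
    obtain ⟨p, -, -, -⟩ := hex k₀ hjk₀.symm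
    exact ⟨p⟩
  choose! p m hpm using hex
  have hk₀ : k₀ ≠ j₀ := hjk₀.symm
  -- the dichotomy
  have hdich : ∀ k l, k ≠ j₀ → l ≠ j₀ → k ≠ l →
      (p k = p l ∧ m k ≠ m l) ∨ (m k = m l ∧ p k ≠ p l) := by
    intro k l hk hl hkl
    obtain ⟨p', m', hpm', hf⟩ := two_pt (fun i => c k i - c l i) D hD (hnorm k l hkl) (hdeg k l)
    have hE : ∀ i, (if i = p' then (1 : ℤ) else 0) - (if i = m' then 1 else 0) =
        ((if i = p l then 1 else 0) - (if i = m l then 1 else 0)) -
        ((if i = p k then 1 else 0) - (if i = m k then 1 else 0)) := by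
      intro i
      rw [← hf i, ← (hpm l hl).2 i, ← (hpm k hk).2 i]
      ring
    have hk1 := (hpm k hk).1
    have hl1 := (hpm l hl).1
    by_cases h1 : p k = p l
    · by_cases h2 : m k = m l
      · exfalso
        have := hE p'
        rw [h1, h2, if_pos rfl, if_neg hpm'] at this
        omega
      · exact Or.inl ⟨h1, h2⟩
    · by_cases h2 : m k = m l
      · exact Or.inr ⟨h2, h1⟩
      · exfalso
        have e1 := hE (p l)
        have e2 := hE (m k)
        rw [if_pos rfl, if_neg hl1, if_neg (Ne.symm h1)] at e1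
        rw [if_pos rfl, if_neg (Ne.symm hk1), if_neg h2] at e2
        by_cases h3 : p l = m k
        · rw [if_pos h3] at e1
          split_ifs at e1 <;> omega
        · rw [if_neg h3] at e1
          rw [if_neg (Ne.symm h3)] at e2
          have a1 : p l = p' := by
            by_contra hne
            rw [if_neg hne] at e1
            split_ifs at e1 <;> omega
          have a2 : m k = p' := by
            by_contra hne
            rw [if_neg hne] at e2
            split_ifs at e2 <;> omega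
          exact h3 (a1.trans a2.symm)
  by_cases hP : ∀ k l, k ≠ j₀ → l ≠ j₀ → p k = p l
  · -- all `p` equal
    refine ⟨1, fun j => if j = j₀ then p k₀ else m j,
      fun i => c j₀ i - (if i = p k₀ then 1 else 0), Or.inl rfl, ?_, ?_⟩
    · intro j k hjk
      by_contra hne
      by_cases hj : j = j₀
      · have hk : k ≠ j₀ := fun h => hne (hj.trans h.symm)
        simp only [hj, if_true, if_neg hk] at hjk
        have := (hpm k hk).1
        rw [hP k k₀ hk hk₀] at this
        exact this hjk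
      · by_cases hk : k = j₀
        · simp only [hk, if_true, if_neg hj] at hjk
          have := (hpm j hj).1
          rw [hP j k₀ hj hk₀] at this
          exact this hjk.symm
        · simp only [if_neg hj, if_neg hk] at hjk
          rcases hdich j k hj hk hne with h | h
          · exact h.2 hjk
          · exact h.2 (hP j k hj hk)
    · intro j i
      by_cases hj : j = j₀
      · subst hj
        simp
      · simp only [if_neg hj]
        have := (hpm j hj).2 i
        rw [hP j k₀ hj hk₀] at this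
        linarith
  · -- all `m` equal
    push Not at hP
    obtain ⟨k, l, hk, hl, hkl⟩ := hP
    have hkl' : k ≠ l := fun h => hkl (by rw [h])
    have hmkl : m k = m l := by
      rcases hdich k l hk hl hkl' with h | h
      · exact absurd h.1 hkl
      · exact h.1
    have hM : ∀ x, x ≠ j₀ → m x = m k := by
      intro x hx
      by_cases hxk : x = k
      · rw [hxk]
      by_cases hxl : x = l
      · rw [hxl, hmkl]
      rcases hdich x k hx hk hxk with h | h
      · exfalso
        rcases hdich x l hx hl hxl with h' | h'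
        · exact hkl (h.1.symm.trans h'.1)
        · exact h.2 (h'.1.trans hmkl.symm)
      · exact h.1
    refine ⟨-1, fun j => if j = j₀ then m k₀ else p j,
      fun i => c j₀ i + (if i = m k₀ then 1 else 0), Or.inr rfl, ?_, ?_⟩
    · intro j k' hjk
      by_contra hne
      by_cases hj : j = j₀
      · have hk' : k' ≠ j₀ := fun h => hne (hj.trans h.symm)
        simp only [hj, if_true, if_neg hk'] at hjk
        have := (hpm k' hk').1
        rw [hM k' hk', ← hM k₀ hk₀] at this
        exact this hjk.symm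
      · by_cases hk' : k' = j₀
        · simp only [hk', if_true, if_neg hj] at hjk
          have := (hpm j hj).1
          rw [hM j hj, ← hM k₀ hk₀] at this
          exact this hjk
        · simp only [if_neg hj, if_neg hk'] at hjk
          rcases hdich j k' hj hk' hne with h | h
          · exact h.2 ((hM j hj).trans (hM k' hk').symm)
          · exact h.2 hjk
    · intro j i
      by_cases hj : j = j₀
      · subst hj
        simp only [if_true]
        split_ifs <;> ring
      · simp only [if_neg hj]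
        have := (hpm j hj).2 i
        rw [hM j hj, ← hM k₀ hk₀] at this
        linarith

end coh

section cube

variable {I J : Type*} [Fintype I] [DecidableEq I] [Fintype J] [DecidableEq J]

/-- the defect identity: a column of norm `1 + e` whose Frobenius–Schur sum is `1 + e` is a
`0/1`-vector supported on real characters of indicator `1` -/
theorem defect (a : I → ℕ) (ν : I → ℤ) (e : ℕ) (nu_le : ∀ i, ν i ≤ 1)
    (gram : ∑ i, (a i : ℤ) * a i = 1 + e) (fs : ∑ i, ν i * a i = 1 + e) :
    ∀ i, a i ≤ 1 ∧ (a i = 1 → ν i = 1) := by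
  have h3 : ∑ i, (a i : ℤ) * ((a i : ℤ) - ν i) = 0 := by
    have : ∑ i, (a i : ℤ) * ((a i : ℤ) - ν i) = ∑ i, (a i : ℤ) * a i - ∑ i, ν i * a i := by
      rw [← Finset.sum_sub_distrib]
      apply Finset.sum_congr rfl
      intro i _
      ring
    rw [this, gram, fs]; ring
  have hterm : ∀ i ∈ (univ : Finset I), 0 ≤ (a i : ℤ) * ((a i : ℤ) - ν i) := by
    intro i _
    have h4 := nu_le i
    have h5 : (0 : ℤ) ≤ a i := by positivity
    rcases Nat.eq_zero_or_pos (a i) with h0 | hpos
    · rw [h0]; simp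
    · have : (1 : ℤ) ≤ a i := by exact_mod_cast hpos
      apply mul_nonneg h5
      linarith
  have hz := (Finset.sum_eq_zero_iff_of_nonneg hterm).mp h3
  intro i
  have h0 := hz i (mem_univ i)
  have h4 := nu_le i
  rcases Nat.eq_zero_or_pos (a i) with h1 | hpos
  · exact ⟨by omega, fun h => by omega⟩
  · have h5 : (1 : ℤ) ≤ a i := by exact_mod_cast hpos
    rcases mul_eq_zero.mp h0 with h | h
    · omega
    · have h6 : (a i : ℤ) = 1 := by linarith
      have h7 : a i = 1 := by exact_mod_cast h6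
      exact ⟨by omega, fun _ => by linarith⟩

/-- sum of the indicator of a point -/
theorem sum_ind (x : I) (f : I → ℤ) : ∑ i, (if i = x then (1 : ℤ) else 0) * f i = f x := by
  rw [Finset.sum_eq_single x]
  · simp
  · intro i _ hi
    rw [if_neg hi, zero_mul]
  · intro h
    exact absurd (mem_univ x) h

/-- **The case `h = q³`.** -/
theorem cube_main (a : I → J → ℕ) (b : I → ℕ) (D : I → ℕ) (ν : I → ℤ) (e q T : ℕ)
    (hq : e + 1 = q) (he : 2 ≤ e) (hcard : Fintype.card J = q + 1)
    (D_pos : ∀ i, 0 < D i) (nu_ge : ∀ i, -1 ≤ ν i) (nu_le : ∀ i, ν i ≤ 1)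
    (gram : ∀ j k, ∑ i, (a i j : ℤ) * a i k = (if j = k then 1 else 0) + e)
    (gramb : ∀ j, ∑ i, (a i j : ℤ) * b i = e * q)
    (grambb : ∑ i, (b i : ℤ) * b i = 1 + e * q ^ 2)
    (fs : ∀ j, ∑ i, ν i * a i j = 1 + e)
    (fsb : ∑ i, ν i * b i = -1 + e * q)
    (tot : ∀ j, ∑ i, a i j * D i = T)
    (base : ∃ i₀, ∀ j, a i₀ j = 1) :
    ∃ (i : I) (j₁ : J), (∀ j, a i j = if j = j₁ then 1 else 0) ∧ b i = 0 := by
  classical
  have hdef : ∀ j i, a i j ≤ 1 ∧ (a i j = 1 → ν i = 1) := by
    intro j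
    apply defect (fun i => a i j) ν e nu_le
    · have := gram j j
      rw [if_pos rfl] at this
      exact this
    · exact fs j
  have hpair : ∃ j k : J, j ≠ k := by
    apply Fintype.one_lt_card_iff.mp
    rw [hcard]; omega
  -- sums of the columns
  have hsum : ∀ j, ∑ i, (a i j : ℤ) = 1 + e := by
    intro j
    have := gram j j
    rw [if_pos rfl] at this
    rw [← this]
    apply Finset.sum_congr rfl
    intro i _
    have := (hdef j i).1
    interval_cases (a i j) <;> simp
  -- coherence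
  obtain ⟨ε, X, v, hε, hXinj, hc⟩ := coh (fun j i => (a i j : ℤ)) (fun i => (D i : ℤ))
    (fun i => by exact_mod_cast D_pos i)
    (by
      intro j k hjk
      have h1 := gram j j
      have h2 := gram k k
      have h3 := gram j k
      rw [if_pos rfl] at h1 h2
      rw [if_neg hjk] at h3
      have : ∑ i, ((a i j : ℤ) - a i k) ^ 2 = ∑ i, (a i j : ℤ) * a i j - 2 * ∑ i, (a i j : ℤ) * a i k +
          ∑ i, (a i k : ℤ) * a i k := by
        rw [Finset.mul_sum, ← Finset.sum_sub_distrib, ← Finset.sum_add_distrib]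
        apply Finset.sum_congr rfl
        intro i _
        ring
      rw [this, h1, h2, h3]; ring)
    (by
      intro j k
      have h1 := tot j
      have h2 := tot k
      have h1' : ∑ i, (a i j : ℤ) * (D i : ℤ) = T := by exact_mod_cast h1
      have h2' : ∑ i, (a i k : ℤ) * (D i : ℤ) = T := by exact_mod_cast h2
      have : ∑ i, ((a i j : ℤ) - a i k) * (D i : ℤ) = ∑ i, (a i j : ℤ) * (D i : ℤ) -
          ∑ i, (a i k : ℤ) * (D i : ℤ) := by
        rw [← Finset.sum_sub_distrib]
        apply Finset.sum_congr rfl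
        intro i _
        ring
      rw [this, h1', h2']; ring)
    hpair
  have hother : ∀ j : J, ∃ k, k ≠ j := by
    intro j
    obtain ⟨j', k', hjk'⟩ := hpair
    by_cases h : j' = j
    · exact ⟨k', fun h' => hjk' (h.trans h'.symm)⟩
    · exact ⟨j', h⟩
  have hXne : ∀ j k, j ≠ k → X j ≠ X k := fun j k hjk h => hjk (hXinj h)
  obtain ⟨i₀, hi₀⟩ := base
  rcases hε with rfl | rfl
  · -- the sunflower
    have hvX : ∀ j, v (X j) = 0 := by
      intro j
      obtain ⟨k, hk⟩ := hother j
      have h1 := hc j (X j)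
      have h2 := hc k (X j)
      simp only [if_true] at h1
      rw [if_neg (hXne j k hk.symm)] at h2
      have h3 := (hdef j (X j)).1
      have h4 : (a (X j) j : ℤ) ≤ 1 := by exact_mod_cast h3
      have h5 : (0 : ℤ) ≤ a (X j) k := by positivity
      linarith
    have hv01 : ∀ i, 0 ≤ v i ∧ v i ≤ 1 ∧ (v i = 1 → ν i = 1) := by
      intro i
      obtain ⟨j, k, hjk⟩ := hpair
      have key : ∀ j, i ≠ X j → 0 ≤ v i ∧ v i ≤ 1 ∧ (v i = 1 → ν i = 1) := by
        intro j hj
        have h1 := hc j i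
        rw [if_neg hj] at h1
        have h3 := (hdef j i).1
        have h4 : (a i j : ℤ) ≤ 1 := by exact_mod_cast h3
        have h5 : (0 : ℤ) ≤ a i j := by positivity
        refine ⟨by linarith, by linarith, fun hv => ?_⟩
        apply (hdef j i).2
        have : (a i j : ℤ) = 1 := by linarith
        exact_mod_cast this
      by_cases h : i = X j
      · exact key k (fun h' => hXne j k hjk (h.symm.trans h'))
      · exact key j h
    have hνX : ∀ j, ν (X j) = 1 := by
      intro j
      apply (hdef j (X j)).2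
      have h1 := hc j (X j)
      simp only [if_true] at h1
      rw [hvX j] at h1
      have : (a (X j) j : ℤ) = 1 := by linarith
      exact_mod_cast this
    have hsumv : ∑ i, v i = e := by
      obtain ⟨j, -⟩ := hpair
      have h1 := hsum j
      have h2 : ∑ i, (a i j : ℤ) = ∑ i, v i + 1 := by
        rw [Finset.sum_congr rfl (fun i _ => hc j i), Finset.sum_add_distrib]
        congr 1
        have := sum_ind (X j) (fun _ => 1)
        simpa using this
      linarith
    -- the weights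
    set S : ℤ := ∑ i, v i * b i with hS
    have hbX : ∀ j, (b (X j) : ℤ) = e * q - S := by
      intro j
      have h1 := gramb j
      have h2 : ∑ i, (a i j : ℤ) * b i = S + b (X j) := by
        rw [Finset.sum_congr rfl (fun i _ => by rw [hc j i, add_mul]), Finset.sum_add_distrib]
        congr 1
        have := sum_ind (X j) (fun i => (b i : ℤ))
        simpa using this
      linarith
    set m : ℤ := e * q - S with hm
    have hm0 : 0 ≤ m := by
      obtain ⟨j, -⟩ := hpair
      rw [← hbX j]; positivity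
    set wX : I → ℤ := fun i => ∑ j : J, (if i = X j then (1 : ℤ) else 0) with hwX
    have hwX_sum : ∀ f : I → ℤ, ∑ i, wX i * f i = ∑ j, f (X j) := by
      intro f
      simp only [hwX, Finset.sum_mul]
      rw [Finset.sum_comm]
      apply Finset.sum_congr rfl
      intro j _
      exact sum_ind (X j) f
    have hwX01 : ∀ i, (wX i = 0 ∧ ∀ j, i ≠ X j) ∨ (wX i = 1 ∧ ∃ j, i = X j) := by
      intro i
      by_cases h : ∃ j, i = X j
      · right
        obtain ⟨j, hj⟩ := h
        refine ⟨?_, j, hj⟩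
        simp only [hwX]
        rw [Finset.sum_eq_single j]
        · rw [if_pos hj]
        · intro k _ hk
          rw [if_neg]
          intro h'
          exact hk (hXinj (h'.symm.trans hj))
        · intro h'
          exact absurd (mem_univ j) h'
      · left
        push Not at h
        refine ⟨?_, h⟩
        simp only [hwX]
        apply Finset.sum_eq_zero
        intro j _
        rw [if_neg (h j)]
    set wY : I → ℤ := fun i => 1 - v i - wX i with hwY
    have hwY0 : ∀ i, 0 ≤ wY i := by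
      intro i
      simp only [hwY]
      rcases hwX01 i with ⟨h1, -⟩ | ⟨h1, j, hj⟩
      · have := (hv01 i).2.1
        linarith
      · rw [h1, hj, hvX j]; norm_num
    have hvb : ∀ i, v i * ν i * b i = v i * b i := by
      intro i
      have := hv01 i
      have h1 : v i = 0 ∨ v i = 1 := by omega
      rcases h1 with h | h
      · rw [h]; ring
      · rw [h, this.2.2 h]; ring
    -- the Frobenius–Schur sum
    have hY : 1 + q * m ≤ ∑ i, wY i * b i := by
      have h1 : ∑ i, ν i * b i = ∑ i, v i * b i + ∑ i, wX i * (ν i * b i) +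
          ∑ i, wY i * (ν i * b i) := by
        rw [← Finset.sum_add_distrib, ← Finset.sum_add_distrib]
        apply Finset.sum_congr rfl
        intro i _
        rw [← hvb i]
        simp only [hwY]
        ring
      have h2 : ∑ i, wX i * (ν i * b i) = (q + 1) * m := by
        rw [hwX_sum]
        rw [Finset.sum_congr rfl (fun j _ => by rw [hνX j, hbX j, one_mul])]
        rw [Finset.sum_const, Finset.card_univ, hcard]
        simp only [nsmul_eq_mul]
        push_cast
        ring
      have h3 : -(∑ i, wY i * b i) ≤ ∑ i, wY i * (ν i * b i) := by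
        rw [← Finset.sum_neg_distrib]
        apply Finset.sum_le_sum
        intro i _
        have h4 := hwY0 i
        have h5 := nu_ge i
        have h6 : (0 : ℤ) ≤ b i := by positivity
        nlinarith [mul_nonneg h4 h6]
      rw [fsb, h2] at h1
      have : (S : ℤ) = ∑ i, v i * b i := hS
      nlinarith
    -- the norm
    have hnorm : (e : ℤ) * (1 + e * q ^ 2) ≥ S ^ 2 + e * ((q + 1) * m ^ 2) + e * (1 + q * m) := by
      have h1 : ∑ i, (b i : ℤ) * b i = ∑ i, v i * ((b i : ℤ) * b i) + ∑ i, wX i * ((b i : ℤ) * b i) +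
          ∑ i, wY i * ((b i : ℤ) * b i) := by
        rw [← Finset.sum_add_distrib, ← Finset.sum_add_distrib]
        apply Finset.sum_congr rfl
        intro i _
        simp only [hwY]
        ring
      have h2 : ∑ i, wX i * ((b i : ℤ) * b i) = (q + 1) * m ^ 2 := by
        rw [hwX_sum]
        rw [Finset.sum_congr rfl (fun j _ => by rw [hbX j])]
        rw [Finset.sum_const, Finset.card_univ, hcard]
        simp only [nsmul_eq_mul]
        push_cast
        ring
      have h3 : ∑ i, wY i * b i ≤ ∑ i, wY i * ((b i : ℤ) * b i) := by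
        apply Finset.sum_le_sum
        intro i _
        have h4 := hwY0 i
        have h6 : (b i : ℤ) ≤ (b i : ℤ) * b i := by
          rcases Nat.eq_zero_or_pos (b i) with h0 | hpos
          · rw [h0]; simp
          · have : (1 : ℤ) ≤ b i := by exact_mod_cast hpos
            nlinarith
        exact mul_le_mul_of_nonneg_left h6 h4
      have h4 : S ^ 2 ≤ e * ∑ i, v i * ((b i : ℤ) * b i) := by
        have hcs := Finset.sum_mul_sq_le_sq_mul_sq (univ : Finset I) v (fun i => v i * b i)
        have e1 : ∑ i, v i * (v i * b i) = S := by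
          rw [hS]
          apply Finset.sum_congr rfl
          intro i _
          have := hv01 i
          have h1 : v i = 0 ∨ v i = 1 := by omega
          rcases h1 with h | h <;> rw [h] <;> ring
        have e2 : ∑ i, v i ^ 2 = e := by
          rw [← hsumv]
          apply Finset.sum_congr rfl
          intro i _
          have := hv01 i
          have h1 : v i = 0 ∨ v i = 1 := by omega
          rcases h1 with h | h <;> rw [h] <;> ring
        have e3 : ∑ i, (v i * b i) ^ 2 = ∑ i, v i * ((b i : ℤ) * b i) := by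
          apply Finset.sum_congr rfl
          intro i _
          have := hv01 i
          have h1 : v i = 0 ∨ v i = 1 := by omega
          rcases h1 with h | h <;> rw [h] <;> ring
        rw [e1, e2, e3] at hcs
        exact hcs
      rw [grambb, h2] at h1
      nlinarith
    have hS' : S = e * q - m := by rw [hm]; ring
    have hm1 : m = 0 := by
      by_contra hne
      have hm1 : 1 ≤ m := by omega
      rw [hS'] at hnorm
      have hq' : (q : ℤ) = e + 1 := by exact_mod_cast hq.symm
      have he' : (2 : ℤ) ≤ e := by exact_mod_cast he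
      have key : (e : ℤ) * (1 + e * q ^ 2) - ((e * q - m) ^ 2 + e * ((q + 1) * m ^ 2) +
          e * (1 + q * m)) = -(m * (m + e * (q + 1) * m - e * q)) := by ring
      have h1 : 0 ≤ -(m * (m + e * (q + 1) * m - e * q)) := by
        rw [← key]; linarith
      have h2 : (e : ℤ) * (q + 1) * 1 ≤ e * (q + 1) * m :=
        mul_le_mul_of_nonneg_left hm1 (by positivity)
      have h3 : 0 < m + e * (q + 1) * m - e * q := by
        have : (e : ℤ) * (q + 1) * 1 - e * q = e := by ring
        linarith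
      have h4 := mul_pos (show (0 : ℤ) < m by linarith) h3
      linarith
    obtain ⟨j₁, -⟩ := hpair
    refine ⟨X j₁, j₁, ?_, ?_⟩
    · intro j
      have h1 := hc j (X j₁)
      rw [hvX j₁] at h1
      by_cases hj : j = j₁
      · rw [if_pos hj]
        rw [hj, if_pos rfl] at h1
        have : (a (X j₁) j₁ : ℤ) = 1 := by linarith
        rw [hj]
        exact_mod_cast this
      · rw [if_neg hj]
        rw [if_neg (hXne j₁ j (Ne.symm hj))] at h1
        have : (a (X j₁) j : ℤ) = 0 := by linarith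
        exact_mod_cast this
    · have := hbX j₁
      rw [hm1] at this
      exact_mod_cast this
  · -- the other configuration is excluded by the common element
    exfalso
    have hvX : ∀ j, v (X j) = 1 ∧ a (X j) j = 0 := by
      intro j
      obtain ⟨k, hk⟩ := hother j
      have h1 := hc j (X j)
      have h2 := hc k (X j)
      simp only [if_true] at h1
      rw [if_neg (hXne j k hk.symm)] at h2
      have h3 := (hdef k (X j)).1
      have h4 : (a (X j) k : ℤ) ≤ 1 := by exact_mod_cast h3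
      have h5 : (0 : ℤ) ≤ a (X j) j := by positivity
      have h6 : v (X j) = 1 := by linarith
      refine ⟨h6, ?_⟩
      have : (a (X j) j : ℤ) = 0 := by rw [h1, h6]; norm_num
      exact_mod_cast this
    have hi₀X : ∀ j, i₀ ≠ X j := by
      intro j h
      have := (hvX j).2
      rw [← h, hi₀ j] at this
      omega
    have hvi₀ : v i₀ = 1 := by
      obtain ⟨j, -⟩ := hpair
      have h1 := hc j i₀
      rw [if_neg (hi₀X j), hi₀ j] at h1
      push_cast at h1
      linarith
    have hv0 : ∀ i, 0 ≤ v i := by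
      intro i
      obtain ⟨j, -⟩ := hpair
      have h1 := hc j i
      have h5 : (0 : ℤ) ≤ a i j := by positivity
      split_ifs at h1 <;> linarith
    have hsumv : ∑ i, v i = q + 1 := by
      obtain ⟨j, -⟩ := hpair
      have h1 := hsum j
      have h2 : ∑ i, (a i j : ℤ) = ∑ i, v i - 1 := by
        rw [Finset.sum_congr rfl (fun i _ => hc j i), Finset.sum_add_distrib]
        have := sum_ind (X j) (fun _ => 1)
        have h3 : ∑ i, (-1 : ℤ) * (if i = X j then (1 : ℤ) else 0) = -1 := by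
          rw [← Finset.mul_sum]
          have : ∑ i, (if i = X j then (1 : ℤ) else 0) = 1 := by simpa using this
          rw [this]; ring
        rw [h3]; ring
      have hq' : (q : ℤ) = e + 1 := by exact_mod_cast hq.symm
      linarith
    have hlow : (q : ℤ) + 1 + 1 ≤ ∑ i, v i := by
      have h1 : ∑ i ∈ insert i₀ (univ.image X), v i ≤ ∑ i, v i :=
        Finset.sum_le_univ_sum_of_nonneg hv0
      have h2 : i₀ ∉ univ.image X := by
        intro h
        obtain ⟨j, -, hj⟩ := Finset.mem_image.mp h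
        exact hi₀X j hj.symm
      rw [Finset.sum_insert h2, Finset.sum_image (fun j _ k _ h => hXinj h), hvi₀] at h1
      rw [Finset.sum_congr rfl (fun j _ => (hvX j).1), Finset.sum_const, Finset.card_univ,
        hcard] at h1
      simp only [nsmul_eq_mul, mul_one] at h1
      push_cast at h1
      linarith
    linarith

end cube

section cubeall

variable {I J : Type*} [Fintype I] [DecidableEq I] [Fintype J] [DecidableEq J]

/-- the dichotomy in the case `h = q³` -/
theorem dich_cube (e q s h : ℕ) (hq : e + 1 = q) (he : 2 ≤ e) (hs : s * e + q = h) (hh : h = q ^ 3)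
    (ν : ℤ) (d : ℕ) (hν1 : -1 ≤ ν) (hν2 : ν ≤ 1) (hd : 0 < d)
    (hrel : ν * h = d * ((q : ℤ) - s)) : d = q ∧ ν = -1 := by
  have hs' : s = q * (q + 1) := by
    have h1 : s * e = q * (q + 1) * e := by
      have : s * e + q = q * (q + 1) * e + q := by
        rw [hs, hh, ← hq]; ring
      omega
    exact Nat.eq_of_mul_eq_mul_right (by omega) h1
  have hq0 : (0 : ℤ) < q := by
    have : 0 < q := by omega
    exact_mod_cast this
  have h2 : ν * q = -(d : ℤ) := by
    have h3 : ν * (q : ℤ) ^ 3 = d * ((q : ℤ) - q * (q + 1)) := by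
      rw [hh, hs'] at hrel
      push_cast at hrel
      exact hrel
    have h4 : (ν * q) * (q : ℤ) ^ 2 = (-(d : ℤ)) * (q : ℤ) ^ 2 := by
      rw [show (ν * q) * (q : ℤ) ^ 2 = ν * (q : ℤ) ^ 3 by ring, h3]; ring
    exact mul_right_cancel₀ (pow_ne_zero 2 hq0.ne') h4
  have hd' : (0 : ℤ) < d := by exact_mod_cast hd
  have hν : ν = -1 := by
    have h5 : ν < 0 := by
      by_contra hcon
      push Not at hcon
      have := mul_nonneg hcon hq0.le
      linarith
    omega
  refine ⟨?_, hν⟩
  rw [hν] at h2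
  have : (q : ℤ) = d := by linarith
  exact_mod_cast this.symm

/-- the dichotomy in the case `h = q²` -/
theorem dich_sq (e q s h : ℕ) (hq : e + 1 = q) (he : 2 ≤ e) (hs : s * e + q = h) (hh : h = q ^ 2)
    (ν : ℤ) (d : ℕ) (hrel : ν * h = d * ((q : ℤ) - s)) : ν = 0 := by
  have hs' : s = q := by
    have h1 : s * e = q * e := by
      have : s * e + q = q * e + q := by
        rw [hs, hh, ← hq]; ring
      omega
    exact Nat.eq_of_mul_eq_mul_right (by omega) h1
  rw [hs', sub_self, mul_zero] at hrel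
  have hh0 : (h : ℤ) ≠ 0 := by
    have : 0 < h := by rw [hh]; exact pow_pos (by omega) 2
    exact_mod_cast this.ne'
  rcases mul_eq_zero.mp hrel with h1 | h1
  · exact h1
  · exact absurd h1 hh0

/-- counting in the case `h = q³`: `q + 1` members of degree `e` and one of degree `e q` -/
theorem cube_count (dJ : J → ℕ) (νJ : J → ℤ) (e q : ℕ) (hq : e + 1 = q) (he : 2 ≤ e)
    (fn : ∑ j, νJ j * dJ j = 1) (sq : (e : ℤ) * ∑ j, (dJ j : ℤ) ^ 2 = (q : ℤ) ^ 3 - 1)
    (dich : ∀ j, (dJ j = 1 ∧ νJ j = 1) ∨ (dJ j = q ∧ νJ j = -1)) :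
    (univ.filter (fun j => dJ j = 1)).card = q + 1 ∧ ∃ js, dJ js = q ∧ ∀ j, dJ j = q → j = js := by
  classical
  set A := univ.filter (fun j => dJ j = 1) with hA
  set B := univ.filter (fun j => ¬ dJ j = 1) with hB
  have hq1 : q ≠ 1 := by omega
  have hBq : ∀ j ∈ B, dJ j = q ∧ νJ j = -1 := by
    intro j hj
    rw [hB, Finset.mem_filter] at hj
    rcases dich j with h | h
    · exact absurd h.1 hj.2
    · exact h
  have hA1 : ∀ j ∈ A, dJ j = 1 ∧ νJ j = 1 := by
    intro j hj
    rw [hA, Finset.mem_filter] at hj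
    rcases dich j with h | h
    · exact h
    · exact absurd (h.1.symm.trans hj.2) hq1
  have e1 : ∑ j, νJ j * dJ j = (A.card : ℤ) - q * B.card := by
    have s0 : ∑ j, νJ j * (dJ j : ℤ) = ∑ j ∈ A, νJ j * (dJ j : ℤ) + ∑ j ∈ B, νJ j * (dJ j : ℤ) :=
      (Finset.sum_filter_add_sum_filter_not univ (fun j => dJ j = 1) _).symm
    have s1 : ∑ j ∈ A, νJ j * (dJ j : ℤ) = ∑ j ∈ A, (1 : ℤ) :=
      Finset.sum_congr rfl (fun j hj => by rw [(hA1 j hj).1, (hA1 j hj).2]; norm_num)
    have s2 : ∑ j ∈ B, νJ j * (dJ j : ℤ) = ∑ j ∈ B, (-(q : ℤ)) :=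
      Finset.sum_congr rfl (fun j hj => by rw [(hBq j hj).1, (hBq j hj).2]; ring)
    rw [s0, s1, s2]
    simp only [Finset.sum_const, nsmul_eq_mul]
    ring
  have e2 : ∑ j, (dJ j : ℤ) ^ 2 = (A.card : ℤ) + (q : ℤ) ^ 2 * B.card := by
    have s0 : ∑ j, (dJ j : ℤ) ^ 2 = ∑ j ∈ A, (dJ j : ℤ) ^ 2 + ∑ j ∈ B, (dJ j : ℤ) ^ 2 :=
      (Finset.sum_filter_add_sum_filter_not univ (fun j => dJ j = 1) _).symm
    have s1 : ∑ j ∈ A, (dJ j : ℤ) ^ 2 = ∑ j ∈ A, (1 : ℤ) :=
      Finset.sum_congr rfl (fun j hj => by rw [(hA1 j hj).1]; norm_num)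
    have s2 : ∑ j ∈ B, (dJ j : ℤ) ^ 2 = ∑ j ∈ B, ((q : ℤ) ^ 2) :=
      Finset.sum_congr rfl (fun j hj => by rw [(hBq j hj).1])
    rw [s0, s1, s2]
    simp only [Finset.sum_const, nsmul_eq_mul]
    ring
  rw [e1] at fn
  rw [e2] at sq
  have hq' : (q : ℤ) = e + 1 := by exact_mod_cast hq.symm
  have he' : (2 : ℤ) ≤ e := by exact_mod_cast he
  have hB1 : (B.card : ℤ) = 1 := by
    have h1 : (A.card : ℤ) = 1 + q * B.card := by linarith
    rw [h1] at sq
    have h2 : (e : ℤ) * ((1 + q * B.card) + (q : ℤ) ^ 2 * B.card) = e * ((q : ℤ) ^ 2 + q + 1) := by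
      rw [sq, hq']; ring
    have h3 := mul_left_cancel₀ (show (e : ℤ) ≠ 0 by linarith) h2
    have h4 : ((q : ℤ) + (q : ℤ) ^ 2) * B.card = ((q : ℤ) + (q : ℤ) ^ 2) * 1 := by linarith
    exact mul_left_cancel₀ (ne_of_gt (by nlinarith)) h4
  have hA2 : (A.card : ℤ) = q + 1 := by rw [hB1] at fn; linarith
  refine ⟨by exact_mod_cast hA2, ?_⟩
  have hB1' : B.card = 1 := by exact_mod_cast hB1
  obtain ⟨js, hjs⟩ := Finset.card_eq_one.mp hB1'
  have hjsB : js ∈ B := by rw [hjs]; exact Finset.mem_singleton_self js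
  refine ⟨js, (hBq js hjsB).1, ?_⟩
  intro j hj
  have : j ∈ B := by
    rw [hB, Finset.mem_filter]
    exact ⟨mem_univ j, fun h => hq1 (hj.symm.trans h)⟩
  rw [hjs] at this
  exact Finset.mem_singleton.mp this

/-- **The case `h = q³`, complete.** -/
theorem cube_all (a : I → J → ℕ) (dJ : J → ℕ) (D : I → ℕ) (νI : I → ℤ) (νJ : J → ℤ)
    (e q T : ℕ) (hq : e + 1 = q) (he : 2 ≤ e)
    (D_pos : ∀ i, 0 < D i) (nu_ge : ∀ i, -1 ≤ νI i) (nu_le : ∀ i, νI i ≤ 1)
    (gram : ∀ j k, ∑ i, (a i j : ℤ) * a i k = (if j = k then 1 else 0) + e * dJ j * dJ k)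
    (fs : ∀ j, ∑ i, νI i * a i j = νJ j + e * dJ j)
    (fn : ∑ j, νJ j * dJ j = 1) (sq : (e : ℤ) * ∑ j, (dJ j : ℤ) ^ 2 = (q : ℤ) ^ 3 - 1)
    (dich : ∀ j, (dJ j = 1 ∧ νJ j = 1) ∨ (dJ j = q ∧ νJ j = -1))
    (tot : ∀ j, ∑ i, a i j * D i = T * dJ j)
    (base : ∃ i₀, ∀ j, a i₀ j = dJ j) :
    ∃ (i : I) (j₁ j₂ : J), j₂ ≠ j₁ ∧ dJ j₁ = 1 ∧ ∀ j, a i j = if j = j₁ then 1 else 0 := by
  classical
  obtain ⟨hcard, js, hjs, hjsu⟩ := cube_count dJ νJ e q hq he fn sq dich
  have hq1 : q ≠ 1 := by omega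
  have hνs : νJ js = -1 := by
    rcases dich js with h | h
    · exact absurd (hjs.symm.trans h.1) hq1
    · exact h.2
  have hν1 : ∀ j, dJ j = 1 → νJ j = 1 := by
    intro j hj
    rcases dich j with h | h
    · exact h.2
    · exact absurd (h.1.symm.trans hj) hq1
  obtain ⟨i₀, hi₀⟩ := base
  obtain ⟨i, j₁, h1, h2⟩ := cube_main (J := {j : J // dJ j = 1}) (fun i j => a i j.1)
    (fun i => a i js) D νI e q T hq he
    (by rw [Fintype.card_subtype]; exact hcard)
    D_pos nu_ge nu_le
    (by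
      intro j k
      have := gram j.1 k.1
      rw [j.2, k.2] at this
      rw [this]
      have e1 : (j.1 = k.1) ↔ (j = k) := ⟨fun h => Subtype.ext h, fun h => congrArg Subtype.val h⟩
      simp only [e1]
      push_cast
      ring)
    (by
      intro j
      have := gram j.1 js
      have hne : j.1 ≠ js := by
        intro h
        have := j.2
        rw [h, hjs] at this
        exact hq1 this
      rw [if_neg hne, j.2, hjs] at this
      rw [this]
      push_cast
      ring)
    (by
      have := gram js js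
      rw [if_pos rfl, hjs] at this
      rw [this]
      ring)
    (by
      intro j
      have := fs j.1
      rw [hν1 j.1 j.2, j.2] at this
      rw [this]
      push_cast
      ring)
    (by
      have := fs js
      rw [hνs, hjs] at this
      rw [this])
    (by
      intro j
      have := tot j.1
      rw [j.2, mul_one] at this
      exact this)
    ⟨i₀, fun j => by rw [hi₀ j.1, j.2]⟩
  refine ⟨i, j₁.1, js, ?_, j₁.2, ?_⟩
  · intro h
    have := j₁.2
    rw [← h, hjs] at this
    exact hq1 this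
  intro j
  by_cases hj : dJ j = 1
  · have := h1 ⟨j, hj⟩
    simp only at this
    rw [this]
    have e1 : ((⟨j, hj⟩ : {j : J // dJ j = 1}) = j₁) ↔ (j = j₁.1) :=
      ⟨fun h => congrArg Subtype.val h, fun h => Subtype.ext h⟩
    simp only [e1]
  · have hjq : dJ j = q := by
      rcases dich j with h | h
      · exact absurd h.1 hj
      · exact h.1
    have hjs' : j = js := hjsu j hjq
    have hne : j ≠ j₁.1 := by
      intro h
      rw [h] at hj
      exact hj j₁.2
    rw [if_neg hne, hjs']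
    exact h2

end cubeall

section sqall

variable {I J : Type*} [Fintype I] [DecidableEq I] [Fintype J] [DecidableEq J]

/-- on real characters of indicator `1` the multiplicities are constant on a class of members of
the same degree (`σ` = complex conjugation, without fixed points on the class) -/
theorem classconst (a : I → J → ℕ) (dJ : J → ℕ) (D : I → ℕ) (νI : I → ℤ) (e T : ℕ) (σ : J → J)
    (D_pos : ∀ i, 0 < D i)
    (gram : ∀ j k, ∑ i, (a i j : ℤ) * a i k = (if j = k then 1 else 0) + e * dJ j * dJ k)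
    (tot : ∀ j, ∑ i, a i j * D i = T * dJ j)
    (hσd : ∀ j, dJ (σ j) = dJ j) (hσ : ∀ j, dJ j ≠ 1 → σ j ≠ j)
    (hreal : ∀ i, νI i = 1 → ∀ j, a i (σ j) = a i j)
    (j k : J) (hj : dJ j ≠ 1) (hjk : dJ k = dJ j) (i : I) (hi : νI i = 1) : a i k = a i j := by
  classical
  set d := dJ j with hd
  have hmem : ∀ l : {l : J // dJ l = d}, dJ (σ l.1) = d := fun l => (hσd l.1).trans l.2
  obtain ⟨ε, X, v, hε, hXinj, hc⟩ := coh (J := {l : J // dJ l = d}) (fun l i => (a i l.1 : ℤ))
    (fun i => (D i : ℤ)) (fun i => by exact_mod_cast D_pos i)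
    (by
      intro l l' hll
      have h1 := gram l.1 l.1
      have h2 := gram l'.1 l'.1
      have h3 := gram l.1 l'.1
      have hne : l.1 ≠ l'.1 := fun h => hll (Subtype.ext h)
      rw [if_pos rfl, l.2] at h1
      rw [if_pos rfl, l'.2] at h2
      rw [if_neg hne, l.2, l'.2] at h3
      have : ∑ i, ((a i l.1 : ℤ) - a i l'.1) ^ 2 = ∑ i, (a i l.1 : ℤ) * a i l.1 -
          2 * ∑ i, (a i l.1 : ℤ) * a i l'.1 + ∑ i, (a i l'.1 : ℤ) * a i l'.1 := by
        rw [Finset.mul_sum, ← Finset.sum_sub_distrib, ← Finset.sum_add_distrib]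
        apply Finset.sum_congr rfl
        intro i _
        ring
      rw [this, h1, h2, h3]; ring)
    (by
      intro l l'
      have h1 := tot l.1
      have h2 := tot l'.1
      rw [l.2] at h1
      rw [l'.2] at h2
      have h1' : ∑ i, (a i l.1 : ℤ) * (D i : ℤ) = (T * d : ℕ) := by exact_mod_cast h1
      have h2' : ∑ i, (a i l'.1 : ℤ) * (D i : ℤ) = (T * d : ℕ) := by exact_mod_cast h2
      have : ∑ i, ((a i l.1 : ℤ) - a i l'.1) * (D i : ℤ) = ∑ i, (a i l.1 : ℤ) * (D i : ℤ) -
          ∑ i, (a i l'.1 : ℤ) * (D i : ℤ) := by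
        rw [← Finset.sum_sub_distrib]
        apply Finset.sum_congr rfl
        intro i _
        ring
      rw [this, h1', h2']; ring)
    ⟨⟨j, rfl⟩, ⟨σ j, hσd j⟩, fun h => hσ j hj (congrArg Subtype.val h).symm⟩
  have hε0 : ε ≠ 0 := by
    rcases hε with h | h <;> rw [h] <;> norm_num
  have hnot : ∀ l : {l : J // dJ l = d}, i ≠ X l := by
    intro l hil
    have h1 := hc l i
    have h2 := hc ⟨σ l.1, hmem l⟩ i
    simp only at h1 h2
    rw [hreal i hi l.1, h1] at h2
    have hne : (⟨σ l.1, hmem l⟩ : {l : J // dJ l = d}) ≠ l := by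
      intro h
      have := congrArg Subtype.val h
      simp only at this
      exact hσ l.1 (by rw [l.2]; exact hj) this
    have hXne : X ⟨σ l.1, hmem l⟩ ≠ X l := fun h => hne (hXinj h)
    rw [if_pos hil, if_neg (by rw [hil]; exact fun h => hXne h.symm)] at h2
    have : ε = 0 := by linarith
    exact hε0 this
  have h1 := hc ⟨k, hjk⟩ i
  have h2 := hc ⟨j, rfl⟩ i
  simp only at h1 h2
  rw [if_neg (hnot _)] at h1 h2
  have : (a i k : ℤ) = a i j := by rw [h1, h2]
  exact_mod_cast this

/-- a sum of squares of distinct powers of two which is half a power of two has one term -/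
theorem pow_lemma (S : Finset ℕ) (hS : ∀ d ∈ S, ∃ k, d = 2 ^ k) (f : ℕ)
    (h : 2 * ∑ d ∈ S, d ^ 2 = 2 ^ f) : ∃ k, 2 ^ f = 2 * 4 ^ k := by
  classical
  have hne : S.Nonempty := by
    by_contra hcon
    rw [Finset.not_nonempty_iff_eq_empty] at hcon
    rw [hcon, Finset.sum_empty, mul_zero] at h
    exact absurd h.symm (pow_ne_zero f two_ne_zero)
  set d₀ := S.min' hne with hd₀
  have hd₀S : d₀ ∈ S := Finset.min'_mem S hne
  obtain ⟨k₀, hk₀⟩ := hS d₀ hd₀S
  have hdvd : ∀ d ∈ S.erase d₀, 4 * d₀ ^ 2 ∣ d ^ 2 := by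
    intro d hd
    obtain ⟨hdne, hdS⟩ := Finset.mem_erase.mp hd
    obtain ⟨k, hk⟩ := hS d hdS
    have hle : d₀ ≤ d := Finset.min'_le S d hdS
    have hlt : d₀ < d := lt_of_le_of_ne hle (Ne.symm hdne)
    rw [hk₀, hk] at hlt
    have hkk : k₀ < k := (Nat.pow_lt_pow_iff_right (by norm_num)).mp hlt
    have h2 : 2 * d₀ ∣ d := by
      rw [hk₀, hk, ← pow_succ']
      exact pow_dvd_pow 2 hkk
    have := pow_dvd_pow_of_dvd h2 2
    rw [mul_pow] at this
    norm_num at this
    exact this
  obtain ⟨m, hm⟩ := Finset.dvd_sum hdvd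
  have hsum : ∑ d ∈ S, d ^ 2 = d₀ ^ 2 + 4 * d₀ ^ 2 * m := by
    rw [← Finset.add_sum_erase S _ hd₀S, hm]
  rw [hsum] at h
  have h1 : (1 + 4 * m) ∣ 2 ^ f := ⟨2 * d₀ ^ 2, by rw [← h]; ring⟩
  obtain ⟨r, -, hr⟩ := (Nat.dvd_prime_pow Nat.prime_two).mp h1
  have hm0 : m = 0 := by
    rcases Nat.eq_zero_or_pos r with h0 | hpos
    · rw [h0, pow_zero] at hr
      omega
    · obtain ⟨r', rfl⟩ : ∃ r', r = r' + 1 := ⟨r - 1, by omega⟩
      rw [pow_succ] at hr
      omega
  refine ⟨k₀, ?_⟩
  rw [← h, hm0, hk₀]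
  have : (4 : ℕ) ^ k₀ = (2 ^ k₀) ^ 2 := by
    rw [← pow_mul, mul_comm, pow_mul]; norm_num
  rw [this]
  ring

/-- `q + 1` does not divide `(q² + 1) q²` -/
theorem no_dvd (e q : ℕ) (hq : e + 1 = q) (he : 2 ≤ e)
    (h : e * (q + 1) ∣ (q ^ 2 + 1) * q ^ 2 * e) : False := by
  have h1 : (q + 1) * e ∣ ((q ^ 2 + 1) * q ^ 2) * e := by
    rw [mul_comm (q + 1) e]; exact h
  have h2 : (q + 1) ∣ (q ^ 2 + 1) * q ^ 2 := Nat.dvd_of_mul_dvd_mul_right (by omega) h1
  have hcop : Nat.Coprime (q + 1) (q ^ 2) := by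
    apply Nat.Coprime.pow_right
    rw [Nat.coprime_comm]
    simp
  have h3 : (q + 1) ∣ q ^ 2 + 1 := hcop.dvd_of_dvd_mul_right h2
  have h4 : q ^ 2 + 1 = (q + 1) * e + 2 := by
    rw [← hq]; ring
  rw [h4] at h3
  have h5 : (q + 1) ∣ 2 := (Nat.dvd_add_right (Dvd.intro _ rfl)).mp h3
  have := Nat.le_of_dvd (by norm_num) h5
  omega

/-- **The case `h = q²`.** -/
theorem sq_all (a : I → J → ℕ) (dJ : J → ℕ) (D : I → ℕ) (νI : I → ℤ) (νJ : J → ℤ)
    (e q T f : ℕ) (σ : J → J) (L' : Finset I)
    (hq : e + 1 = q) (he : 2 ≤ e) (hqf : q = 2 ^ f)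
    (D_pos : ∀ i, 0 < D i) (nu_le : ∀ i, νI i ≤ 1)
    (gram : ∀ j k, ∑ i, (a i j : ℤ) * a i k = (if j = k then 1 else 0) + e * dJ j * dJ k)
    (fs : ∀ j, ∑ i, νI i * a i j = νJ j + e * dJ j)
    (fn : ∑ j, νJ j * dJ j = 1) (sq : (e : ℤ) * ∑ j, (dJ j : ℤ) ^ 2 = (q : ℤ) ^ 2 - 1)
    (dich : ∀ j, (dJ j = 1 ∧ νJ j = 1) ∨ (dJ j ≠ 1 ∧ νJ j = 0))
    (pow : ∀ j, ∃ k, dJ j = 2 ^ k)
    (tot : ∀ j, ∑ i, a i j * D i = T * dJ j)
    (hL : 2 * L'.card ≤ q) (hLa : ∀ i ∈ L', ∀ j, a i j = dJ j)
    (hdeg : ∀ i, i ∉ L' → (∃ j, a i j ≠ 0) → D i = ∑ j, a i j * (e * dJ j))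
    (hdvd : ∀ i, D i ∣ (q ^ 2 + 1) * q ^ 2 * e)
    (hσd : ∀ j, dJ (σ j) = dJ j) (hσ : ∀ j, dJ j ≠ 1 → σ j ≠ j)
    (hreal : ∀ i, νI i = 1 → ∀ j, a i (σ j) = a i j) :
    ∃ k, q = 2 * 4 ^ k := by
  classical
  have hq' : (q : ℤ) = e + 1 := by exact_mod_cast hq.symm
  have he' : (2 : ℤ) ≤ e := by exact_mod_cast he
  have dJ_pos : ∀ j, 0 < dJ j := by
    intro j
    obtain ⟨k, hk⟩ := pow j
    rw [hk]; positivity
  -- step 1: the unique member of degree `e`
  have hcount : (univ.filter (fun j => dJ j = 1)).card = 1 := by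
    have h1 : ∀ j, νJ j * (dJ j : ℤ) = if dJ j = 1 then 1 else 0 := by
      intro j
      rcases dich j with h | h
      · rw [if_pos h.1, h.1, h.2]; norm_num
      · rw [if_neg h.1, h.2, zero_mul]
    rw [Finset.sum_congr rfl (fun j _ => h1 j), Finset.sum_boole] at fn
    exact_mod_cast fn
  obtain ⟨j₀, hj₀⟩ := Finset.card_eq_one.mp hcount
  have hj₀1 : dJ j₀ = 1 := by
    have : j₀ ∈ univ.filter (fun j => dJ j = 1) := by rw [hj₀]; exact Finset.mem_singleton_self _
    exact (Finset.mem_filter.mp this).2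
  have hj₀u : ∀ j, dJ j = 1 → j = j₀ := by
    intro j hj
    have : j ∈ univ.filter (fun j => dJ j = 1) := Finset.mem_filter.mpr ⟨mem_univ j, hj⟩
    rw [hj₀] at this
    exact Finset.mem_singleton.mp this
  have hne1 : ∀ j, j ≠ j₀ → dJ j ≠ 1 := fun j hj h => hj (hj₀u j h)
  have hνj₀ : νJ j₀ = 1 := by
    rcases dich j₀ with h | h
    · exact h.2
    · exact absurd hj₀1 h.1
  -- step 2: the sum of the squares
  have hsumsq : ∑ j, (dJ j : ℤ) ^ 2 = q + 1 := by
    have h1 : (e : ℤ) * ∑ j, (dJ j : ℤ) ^ 2 = e * (q + 1) := by rw [sq, hq']; ring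
    exact mul_left_cancel₀ (by linarith) h1
  have hsumsq' : ∑ j ∈ univ.erase j₀, (dJ j : ℤ) ^ 2 = q := by
    rw [← Finset.add_sum_erase univ _ (mem_univ j₀), hj₀1] at hsumsq
    push_cast at hsumsq
    linarith
  -- step 3: the support of the column `j₀`
  have hdef := defect (fun i => a i j₀) νI e nu_le
    (by
      have := gram j₀ j₀
      rw [if_pos rfl, hj₀1] at this
      rw [this]; push_cast; ring)
    (by
      have := fs j₀
      rw [hνj₀, hj₀1] at this
      rw [this]; push_cast; ring)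
  set T₀ := univ.filter (fun i => a i j₀ = 1) with hT₀
  have hT₀ν : ∀ i ∈ T₀, νI i = 1 := fun i hi => (hdef i).2 (Finset.mem_filter.mp hi).2
  have hT₀sum : ∀ g : I → ℤ, ∑ i, (a i j₀ : ℤ) * g i = ∑ i ∈ T₀, g i := by
    intro g
    rw [hT₀, Finset.sum_filter]
    apply Finset.sum_congr rfl
    intro i _
    have := (hdef i).1
    by_cases h1 : a i j₀ = 1
    · rw [if_pos h1, h1]; simp
    · rw [if_neg h1]
      have : a i j₀ = 0 := by omega
      rw [this]; simp
  have hT₀card : (T₀.card : ℤ) = q := by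
    have h1 := gram j₀ j₀
    rw [if_pos rfl, hj₀1, hT₀sum (fun i => (a i j₀ : ℤ))] at h1
    have h2 : ∑ i ∈ T₀, (a i j₀ : ℤ) = ∑ i ∈ T₀, (1 : ℤ) :=
      Finset.sum_congr rfl (fun i hi => by rw [(Finset.mem_filter.mp hi).2]; norm_num)
    rw [h2, Finset.sum_const, nsmul_eq_mul, mul_one] at h1
    rw [h1, hq']; push_cast; ring
  -- step 4
  have hS1 : ∀ j, j ≠ j₀ → ∑ i ∈ T₀, (a i j : ℤ) = e * dJ j := by
    intro j hj
    have h1 := gram j₀ j
    rw [if_neg (Ne.symm hj), hj₀1, hT₀sum (fun i => (a i j : ℤ))] at h1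
    rw [h1]; push_cast; ring
  have hS2 : ∀ j, j ≠ j₀ → ∑ i ∈ T₀, (a i j : ℤ) ^ 2 ≤ e * (dJ j : ℤ) ^ 2 := by
    intro j hj
    have h1 := gram j (σ j)
    rw [if_neg (Ne.symm (hσ j (hne1 j hj))), hσd j] at h1
    have h2 : ∑ i ∈ T₀, (a i j : ℤ) ^ 2 = ∑ i ∈ T₀, (a i j : ℤ) * a i (σ j) :=
      Finset.sum_congr rfl (fun i hi => by rw [hreal i (hT₀ν i hi) j]; ring)
    have h3 : ∑ i ∈ T₀, (a i j : ℤ) * a i (σ j) ≤ ∑ i, (a i j : ℤ) * a i (σ j) :=
      Finset.sum_le_univ_sum_of_nonneg (fun i => by positivity)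
    rw [h2]
    calc ∑ i ∈ T₀, (a i j : ℤ) * a i (σ j) ≤ ∑ i, (a i j : ℤ) * a i (σ j) := h3
      _ = e * (dJ j : ℤ) ^ 2 := by rw [h1]; ring
  -- step 5: the defects
  set δ : I → J → ℤ := fun i j => (dJ j : ℤ) - a i j with hδ
  have hT1 : ∀ j, j ≠ j₀ → ∑ i ∈ T₀, δ i j = dJ j := by
    intro j hj
    simp only [hδ]
    rw [Finset.sum_sub_distrib, hS1 j hj, Finset.sum_const, nsmul_eq_mul, hT₀card, hq']
    ring
  have hT2 : ∀ j, j ≠ j₀ → ∑ i ∈ T₀, (δ i j) ^ 2 ≤ (dJ j : ℤ) ^ 2 := by
    intro j hj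
    have h1 : ∑ i ∈ T₀, (δ i j) ^ 2 = T₀.card * (dJ j : ℤ) ^ 2 - 2 * dJ j * ∑ i ∈ T₀, (a i j : ℤ) +
        ∑ i ∈ T₀, (a i j : ℤ) ^ 2 := by
      simp only [hδ]
      rw [Finset.mul_sum, ← nsmul_eq_mul, ← Finset.sum_const, ← Finset.sum_sub_distrib,
        ← Finset.sum_add_distrib]
      apply Finset.sum_congr rfl
      intro i _
      ring
    rw [h1, hS1 j hj, hT₀card, hq']
    have := hS2 j hj
    nlinarith
  -- step 6
  have hLT : L' ⊆ T₀ := by
    intro i hi
    rw [hT₀, Finset.mem_filter]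
    exact ⟨mem_univ i, by rw [hLa i hi j₀, hj₀1]⟩
  set R₀ := T₀ \ L' with hR₀
  have hRcard : (q : ℤ) ≤ 2 * R₀.card := by
    have h1 : R₀.card = T₀.card - L'.card := Finset.card_sdiff_of_subset hLT
    have h2 : L'.card ≤ T₀.card := Finset.card_le_card hLT
    have h3 : T₀.card = q := by exact_mod_cast hT₀card
    have : q ≤ 2 * R₀.card := by omega
    exact_mod_cast this
  have hRT : R₀ ⊆ T₀ := Finset.sdiff_subset
  have hδσ : ∀ i ∈ T₀, ∀ j, δ i (σ j) = δ i j := by
    intro i hi j
    simp only [hδ]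
    rw [hσd j, hreal i (hT₀ν i hi) j]
  -- steps 7, 8
  set g : I → ℤ := fun i => ∑ j ∈ univ.erase j₀, (δ i j) ^ 2 with hg
  have hg0 : ∀ i, 0 ≤ g i := fun i => Finset.sum_nonneg (fun j _ => sq_nonneg _)
  have hg2 : ∀ i ∈ R₀, 2 ≤ g i := by
    intro i hi
    have hiT : i ∈ T₀ := hRT hi
    have hiL : i ∉ L' := (Finset.mem_sdiff.mp hi).2
    have hai : a i j₀ = 1 := (Finset.mem_filter.mp hiT).2
    have hex : ∃ j, j ≠ j₀ ∧ δ i j ≠ 0 := by
      by_contra hcon
      push Not at hcon
      have hall : ∀ j, a i j = dJ j := by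
        intro j
        by_cases hj : j = j₀
        · rw [hj, hai, hj₀1]
        · have := hcon j hj
          simp only [hδ] at this
          have h2 : (a i j : ℤ) = dJ j := by linarith
          exact_mod_cast h2
      have hD := hdeg i hiL ⟨j₀, by rw [hai]; norm_num⟩
      have h3 : D i = e * (q + 1) := by
        rw [hD, Finset.sum_congr rfl (fun j _ => by rw [hall j])]
        have h4 : ∑ j, dJ j * (e * dJ j) = e * ∑ j, dJ j ^ 2 := by
          rw [Finset.mul_sum]
          apply Finset.sum_congr rfl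
          intro j _
          ring
        rw [h4]
        have h5 : ∑ j, dJ j ^ 2 = q + 1 := by exact_mod_cast hsumsq
        rw [h5]
      have := hdvd i
      rw [h3] at this
      exact no_dvd e q hq he this
    obtain ⟨j, hj, hδj⟩ := hex
    have hσj : σ j ≠ j := hσ j (hne1 j hj)
    have hσj₀ : σ j ≠ j₀ := by
      intro h
      have := hσd j
      rw [h, hj₀1] at this
      exact hne1 j hj this.symm
    have hm1 : j ∈ univ.erase j₀ := Finset.mem_erase.mpr ⟨hj, mem_univ j⟩
    have hm2 : σ j ∈ (univ.erase j₀).erase j :=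
      Finset.mem_erase.mpr ⟨hσj, Finset.mem_erase.mpr ⟨hσj₀, mem_univ _⟩⟩
    have h1 : g i = (δ i j) ^ 2 + ∑ k ∈ (univ.erase j₀).erase j, (δ i k) ^ 2 := by
      have e1 : (δ i j) ^ 2 + ∑ k ∈ (univ.erase j₀).erase j, (δ i k) ^ 2 =
          ∑ k ∈ univ.erase j₀, (δ i k) ^ 2 :=
        Finset.add_sum_erase (univ.erase j₀) (fun k => (δ i k) ^ 2) hm1
      simp only [hg]
      linarith
    have h2 : (δ i (σ j)) ^ 2 ≤ ∑ k ∈ (univ.erase j₀).erase j, (δ i k) ^ 2 :=
      Finset.single_le_sum (f := fun k => (δ i k) ^ 2) (fun k _ => sq_nonneg _) hm2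
    rw [hδσ i hiT j] at h2
    have h3 : 1 ≤ (δ i j) ^ 2 := by
      have : δ i j ≠ 0 := hδj
      have h4 : 0 < (δ i j) ^ 2 := by positivity
      omega
    rw [h1]
    linarith
  -- step 9
  have hgsum : ∑ i ∈ T₀, g i ≤ q := by
    simp only [hg]
    rw [Finset.sum_comm]
    calc ∑ j ∈ univ.erase j₀, ∑ i ∈ T₀, (δ i j) ^ 2 ≤ ∑ j ∈ univ.erase j₀, (dJ j : ℤ) ^ 2 :=
          Finset.sum_le_sum (fun j hj => hT2 j (Finset.mem_erase.mp hj).1)
      _ = q := hsumsq'
  have hgR : ∑ i ∈ R₀, g i ≤ q :=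
    (Finset.sum_le_sum_of_subset_of_nonneg hRT (fun i _ _ => hg0 i)).trans hgsum
  have hgeq : ∀ i ∈ R₀, g i = 2 := by
    have h1 : ∑ i ∈ R₀, (g i - 2) = 0 := by
      apply le_antisymm
      · rw [Finset.sum_sub_distrib, Finset.sum_const, nsmul_eq_mul]
        linarith
      · exact Finset.sum_nonneg (fun i hi => by linarith [hg2 i hi])
    intro i hi
    have := (Finset.sum_eq_zero_iff_of_nonneg (fun i hi => by linarith [hg2 i hi])).mp h1 i hi
    linarith
  -- step 10: every class has exactly two members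
  have hclass : ∀ j k, j ≠ j₀ → k ≠ j₀ → dJ k = dJ j → k = j ∨ k = σ j := by
    intro j k hj hk hjk
    by_contra hcon
    push Not at hcon
    obtain ⟨hkj, hkσ⟩ := hcon
    have hσj : σ j ≠ j := hσ j (hne1 j hj)
    have hσj₀ : σ j ≠ j₀ := by
      intro h
      have := hσd j
      rw [h, hj₀1] at this
      exact hne1 j hj this.symm
    have hδk : ∀ i ∈ T₀, δ i k = δ i j := by
      intro i hi
      simp only [hδ]
      rw [hjk, classconst a dJ D νI e T σ D_pos gram tot hσd hσ hreal j k (hne1 j hj) hjk i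
        (hT₀ν i hi)]
    have hzero : ∀ i ∈ T₀, δ i j = 0 := by
      intro i hi
      by_cases hiL : i ∈ L'
      · simp only [hδ]
        rw [hLa i hiL j]; ring
      · have hiR : i ∈ R₀ := Finset.mem_sdiff.mpr ⟨hi, hiL⟩
        have h1 := hgeq i hiR
        have hm1 : j ∈ univ.erase j₀ := Finset.mem_erase.mpr ⟨hj, mem_univ j⟩
        have hm2 : σ j ∈ (univ.erase j₀).erase j :=
          Finset.mem_erase.mpr ⟨hσj, Finset.mem_erase.mpr ⟨hσj₀, mem_univ _⟩⟩
        have hm3 : k ∈ ((univ.erase j₀).erase j).erase (σ j) :=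
          Finset.mem_erase.mpr ⟨hkσ, Finset.mem_erase.mpr ⟨hkj,
            Finset.mem_erase.mpr ⟨hk, mem_univ _⟩⟩⟩
        have h2 : g i = (δ i j) ^ 2 + ((δ i (σ j)) ^ 2 +
            ∑ l ∈ ((univ.erase j₀).erase j).erase (σ j), (δ i l) ^ 2) := by
          have e1 : (δ i j) ^ 2 + ∑ l ∈ (univ.erase j₀).erase j, (δ i l) ^ 2 =
              ∑ l ∈ univ.erase j₀, (δ i l) ^ 2 :=
            Finset.add_sum_erase (univ.erase j₀) (fun l => (δ i l) ^ 2) hm1
          have e2 : (δ i (σ j)) ^ 2 + ∑ l ∈ ((univ.erase j₀).erase j).erase (σ j), (δ i l) ^ 2 =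
              ∑ l ∈ (univ.erase j₀).erase j, (δ i l) ^ 2 :=
            Finset.add_sum_erase ((univ.erase j₀).erase j) (fun l => (δ i l) ^ 2) hm2
          simp only [hg]
          linarith
        have h3 : (δ i k) ^ 2 ≤ ∑ l ∈ ((univ.erase j₀).erase j).erase (σ j), (δ i l) ^ 2 :=
          Finset.single_le_sum (f := fun l => (δ i l) ^ 2) (fun l _ => sq_nonneg _) hm3
        rw [hδσ i hi j, hδk i hi] at *
        have h4 : 3 * (δ i j) ^ 2 ≤ 2 := by linarith
        have h5 : (δ i j) ^ 2 = 0 := by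
          have := sq_nonneg (δ i j)
          omega
        exact pow_eq_zero_iff (two_ne_zero) |>.mp h5
    have h1 := hT1 j hj
    rw [Finset.sum_congr rfl hzero, Finset.sum_const_zero] at h1
    have := dJ_pos j
    have h2 : (dJ j : ℤ) = 0 := h1.symm
    have h3 : dJ j = 0 := by exact_mod_cast h2
    omega
  -- step 11: counting
  set S := (univ.erase j₀).image dJ with hS
  have hfib : ∀ d ∈ S, ((univ.erase j₀).filter (fun j => dJ j = d)).card = 2 := by
    intro d hd
    obtain ⟨j, hj, rfl⟩ := Finset.mem_image.mp hd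
    have hj' : j ≠ j₀ := (Finset.mem_erase.mp hj).1
    have hσj : σ j ≠ j := hσ j (hne1 j hj')
    have hσj₀ : σ j ≠ j₀ := by
      intro h
      have := hσd j
      rw [h, hj₀1] at this
      exact hne1 j hj' this.symm
    have : (univ.erase j₀).filter (fun k => dJ k = dJ j) = {j, σ j} := by
      ext k
      rw [Finset.mem_filter, Finset.mem_erase, Finset.mem_insert, Finset.mem_singleton]
      constructor
      · rintro ⟨⟨hk, -⟩, hkd⟩
        exact hclass j k hj' hk hkd
      · rintro (rfl | rfl)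
        · exact ⟨⟨hj', mem_univ _⟩, rfl⟩
        · exact ⟨⟨hσj₀, mem_univ _⟩, hσd j⟩
    rw [this, Finset.card_pair (Ne.symm hσj)]
  have hsumN : ∑ j ∈ univ.erase j₀, dJ j ^ 2 = q := by exact_mod_cast hsumsq'
  have hcomp : ∑ j ∈ univ.erase j₀, dJ j ^ 2 = 2 * ∑ d ∈ S, d ^ 2 := by
    rw [Finset.sum_comp (fun d => d ^ 2) dJ, Finset.mul_sum]
    apply Finset.sum_congr rfl
    intro d hd
    rw [hfib d hd, smul_eq_mul]
  have hSpow : ∀ d ∈ S, ∃ k, d = 2 ^ k := by
    intro d hd
    obtain ⟨j, -, rfl⟩ := Finset.mem_image.mp hd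
    exact pow j
  obtain ⟨k, hk⟩ := pow_lemma S hSpow f (by rw [← hcomp, hsumN, hqf])
  exact ⟨k, by rw [hqf, hk]⟩

end sqall

end Cfsg.Agent.Lib.Helper95_SuzArith
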