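import Mathlib
import Cfsg.Agent.Lib.Helper95_SuzDefs
import Cfsg.Agent.Lib.Helper95_SuzArith
import Cfsg.Agent.Lib.Helper95_FeitGlue
import Cfsg.Agent.Lib.Helper11_Suz_NC1
import Cfsg.Agent.Lib.Helper25_Suz_KC1
import Cfsg.Agent.Lib.Helper25_Suz_SQ
import Cfsg.Agent.Lib.Helper59_Suz_GB
import Cfsg.Agent.Lib.Helper75_Suz_FN
import Cfsg.Agent.Lib.Helper74_TwoDegS
import Cfsg.Agent.Lib.Helper81_CharOrth

/-!
# Suzuki's theorem on Zassenhaus groups of odd degree (S0347): the character-theoretic core (helper95)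

From `SData N H h e` (the point stabiliser `N` with Frobenius kernel `H`, a Suzuki 2-group, `|H| = h`,
`|N : H| = e`, `h = q²` or `q³`, `q = e + 1`) we derive `h = q²` and `q = 2·4^k`.
Inputs: the packages of S0885 (PC2, PC3, PE2, PE3) and of S0347 (NC1, KC1, SQ, GB, FN, GL1);
the arithmetic is `Helper95_SuzArith`.
-/

set_option autoImplicit false
set_option linter.unusedSectionVars false
set_option linter.unusedVariables false

namespace Cfsg.Agent.Lib.Helper95_SuzCore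

open Cfsg Cfsg.Agent.Lib.Helper95_FeitDefs Cfsg.Agent.Lib.Helper95_FeitCore
  Cfsg.Agent.Lib.Helper95_SuzDefs
open Cfsg.Agent.Lib.Helper74_FS
open scoped ComplexConjugate

universe u

variable {G : Type u} [Group G] [Fintype G] {N H : Subgroup G} [Fintype N] {h e : ℕ}

/-- The conclusion of the package GL1. -/
def GL1Concl (N H : Subgroup G) [Fintype N] (e : ℕ) : Prop :=
  ∃ L' : Finset (Cfsg.IrrCharacter G), L'.Nonempty ∧ 2 * L'.card ≤ e + 1 ∧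
    (∀ Φ ∈ L', ∀ ξ ∈ SS N H,
      Cfsg.classInner (Cfsg.indFun N ξ) (Φ : G → ℂ) = ξ 1 / (e : ℂ)) ∧
    (∀ Φ : Cfsg.IrrCharacter G, Φ ∉ L' →
      (∃ ξ ∈ SS N H, Cfsg.classInner (Cfsg.indFun N ξ) (Φ : G → ℂ) ≠ 0) →
      ∀ [Fintype {ξ : N → ℂ // ξ ∈ SS N H}],
        (Φ : G → ℂ) 1 = ∑ j : {ξ : N → ℂ // ξ ∈ SS N H},
          Cfsg.classInner (Cfsg.indFun N j.1) (Φ : G → ℂ) * j.1 1)

theorem finite_JJ : Finite (JJ N H) := by
  have hfin : Finite (Cfsg.IrrCharacter N) := Cfsg.Agent.Lib.Helper81_CharOrth.finite_irrCharacter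
  have : Set.Finite (SS N H) := by
    apply Set.Finite.subset (Set.finite_range (fun Φ : Cfsg.IrrCharacter N => (Φ : N → ℂ)))
    intro ξ hξ
    exact ⟨⟨ξ, hξ.1⟩, rfl⟩
  exact Set.finite_coe_iff.mpr this

section perj

open Classical

variable [Fintype ↥(H.subgroupOf N)]

theorem exists_dJ (hD : ZData N H h e) {s : ℕ}
    (hK : KData ↥(H.subgroupOf N) (e + 1) s) (j : JJ N H) :
    ∃ d : ℕ, 0 < d ∧ degJ hD j = e * d ∧ d ∣ h ∧
      ((d = 1 ∧ nuZ j.1 = 1) ∨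
        (d ≠ 1 ∧ nuZ j.1 * (h : ℤ) = (d : ℤ) * (((e + 1 : ℕ) : ℤ) - (s : ℤ)))) := by
  obtain ⟨θ, hθ, h1, h2⟩ := Cfsg.Agent.Lib.Helper11_Suz_NC1.NC1 hD j.2
  have hθc := Cfsg.Agent.Lib.Helper3_CharBridge.isCharacter_of_isIrrCharacter hθ
  obtain ⟨d, hd⟩ := Cfsg.Agent.Lib.Helper17_CohSys.char_apply_one_nat hθc
  have hd0 : d ≠ 0 := by
    intro h0
    rw [h0, Nat.cast_zero] at hd
    have := Cfsg.Agent.Lib.Helper17_CohSys.char_eq_zero_of_apply_one hθc hd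
    exact Cfsg.Agent.Lib.Helper3_CharOrtho.isIrrCharacter_ne_zero hθ this
  refine ⟨d, Nat.pos_of_ne_zero hd0, ?_, ?_, ?_⟩
  · have := degJ_spec hD j
    rw [h1, hd] at this
    exact_mod_cast this.symm
  · have := Cfsg.Agent.Lib.Helper74_TwoDegS.degree_dvd_card
      (⟨θ, hθ⟩ : Cfsg.IrrCharacter ↥(H.subgroupOf N)) d hd
    rwa [card_K hD] at this
  · rcases Cfsg.Agent.Lib.Helper25_Suz_KC1.KC1 hK hθ with ⟨k1, k2⟩ | ⟨k1, k2⟩
    · left
      refine ⟨by rw [hd] at k1; exact_mod_cast k1, ?_⟩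
      unfold nuZ
      rw [h2, k2, if_pos rfl]
    · right
      refine ⟨fun hd1 => k1 (by rw [hd, hd1]; norm_num), ?_⟩
      have h3 : (nuZ j.1 : ℂ) = fsInd j.1 := nuZ_spec j.2.1
      rw [← h2, ← h3, card_K hD, hd] at k2
      exact_mod_cast k2

/-- `ξ_j(1) / e` -/
noncomputable def dJ (hD : ZData N H h e) {s : ℕ}
    (hK : KData ↥(H.subgroupOf N) (e + 1) s) (j : JJ N H) : ℕ := (exists_dJ hD hK j).choose

theorem dJ_spec (hD : ZData N H h e) {s : ℕ}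
    (hK : KData ↥(H.subgroupOf N) (e + 1) s) (j : JJ N H) :
    0 < dJ hD hK j ∧ degJ hD j = e * dJ hD hK j ∧ dJ hD hK j ∣ h ∧
      ((dJ hD hK j = 1 ∧ nuZ j.1 = 1) ∨
        (dJ hD hK j ≠ 1 ∧
          nuZ j.1 * (h : ℤ) = (dJ hD hK j : ℤ) * (((e + 1 : ℕ) : ℤ) - (s : ℤ)))) :=
  (exists_dJ hD hK j).choose_spec

theorem deg_eq (hD : ZData N H h e) {s : ℕ}
    (hK : KData ↥(H.subgroupOf N) (e + 1) s) (j : JJ N H) :
    j.1 1 = (e : ℂ) * (dJ hD hK j : ℂ) := by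
  rw [degJ_spec hD j, (dJ_spec hD hK j).2.1]
  push_cast
  ring

end perj

section ident

open Classical
open Cfsg.Agent.Lib.Helper3_CharBridge Cfsg.Agent.Lib.Helper3_CharOrtho
  Cfsg.Agent.Lib.Helper75_CharArith Cfsg.Agent.Lib.Helper75_Induced

variable [Fintype ↥(H.subgroupOf N)]

theorem e_ne (hD : ZData N H h e) : (e : ℤ) ≠ 0 := by
  have := hD.one_lt_e
  have : e ≠ 0 := by omega
  exact_mod_cast this

/-- the Gram matrix of the induced characters -/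
theorem gramZ (hD : ZData N H h e) {s : ℕ}
    (hK : KData ↥(H.subgroupOf N) (e + 1) s) (j k : JJ N H) :
    ∑ Φ : Cfsg.IrrCharacter G, (mult Φ j : ℤ) * (mult Φ k : ℤ) =
      (if j = k then 1 else 0) + (e : ℤ) * (dJ hD hK j : ℤ) * (dJ hD hK k : ℤ) := by
  have heC : (e : ℂ) ≠ 0 := by exact_mod_cast e_ne hD
  have hg := (Cfsg.Agent.Lib.Helper31_Feit_PC2.PC2 hD).1 j.1 j.2 k.1 k.2
  rw [classInner_eq_sum_irr (isClassFunction_indFun N j.1)] at hg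
  have hsum : ∑ Φ : Cfsg.IrrCharacter G, Cfsg.classInner (Cfsg.indFun N j.1) (Φ : G → ℂ) *
      Cfsg.classInner (Φ : G → ℂ) (Cfsg.indFun N k.1) =
      ((∑ Φ : Cfsg.IrrCharacter G, (mult Φ j : ℤ) * (mult Φ k : ℤ) : ℤ) : ℂ) := by
    push_cast
    apply Finset.sum_congr rfl
    intro Φ _
    rw [mult_spec, mult_spec']
  rw [hsum, deg_eq hD hK j, deg_eq hD hK k] at hg
  have e1 : (j.1 = k.1) ↔ (j = k) := ⟨fun h => Subtype.ext h, fun h => congrArg Subtype.val h⟩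
  simp only [e1] at hg
  have : ((∑ Φ : Cfsg.IrrCharacter G, (mult Φ j : ℤ) * (mult Φ k : ℤ) : ℤ) : ℂ) =
      (((if j = k then 1 else 0) + (e : ℤ) * (dJ hD hK j : ℤ) * (dJ hD hK k : ℤ) : ℤ) : ℂ) := by
    rw [hg]
    push_cast
    split_ifs <;> field_simp
  exact_mod_cast this

/-- the Frobenius–Schur sums -/
theorem fsZ (hD : ZData N H h e) {s : ℕ}
    (hK : KData ↥(H.subgroupOf N) (e + 1) s) (j : JJ N H) :
    ∑ Φ : Cfsg.IrrCharacter G, nuZ (Φ : G → ℂ) * (mult Φ j : ℤ) =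
      nuZ j.1 + (e : ℤ) * (dJ hD hK j : ℤ) := by
  have hfs := (Cfsg.Agent.Lib.Helper11_Feit_PC3.PC3 hD).1 j.1
    (isClassFunction_of_isIrrCharacter j.2.1)
  rw [indFun_expand j, fsInd_sum] at hfs
  have hsum : ∑ Φ : Cfsg.IrrCharacter G, fsInd (((mult Φ j : ℕ) : ℂ) • (Φ : G → ℂ)) =
      ((∑ Φ : Cfsg.IrrCharacter G, nuZ (Φ : G → ℂ) * (mult Φ j : ℤ) : ℤ) : ℂ) := by
    push_cast
    apply Finset.sum_congr rfl
    intro Φ _
    rw [fsInd_smul, nuZ_spec Φ.2]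
    ring
  rw [hsum, ← nuZ_spec j.2.1, deg_eq hD hK j] at hfs
  exact_mod_cast hfs

/-- the total degree of an induced character -/
theorem totZ (hD : ZData N H h e) {s : ℕ}
    (hK : KData ↥(H.subgroupOf N) (e + 1) s) (D : Cfsg.IrrCharacter G → ℕ)
    (hDeg : ∀ Φ : Cfsg.IrrCharacter G, (Φ : G → ℂ) 1 = (D Φ : ℂ)) (j : JJ N H) :
    ∑ Φ : Cfsg.IrrCharacter G, mult Φ j * D Φ = ((h + 1) * e) * dJ hD hK j := by
  have h1 := congrFun (indFun_expand j) 1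
  rw [Cfsg.Agent.Lib.Helper16_CohCount.indFun_one_index, hD.index_N, deg_eq hD hK j,
    Finset.sum_apply] at h1
  have h2 : ∑ Φ : Cfsg.IrrCharacter G, (((mult Φ j : ℕ) : ℂ) • (Φ : G → ℂ)) 1 =
      ((∑ Φ : Cfsg.IrrCharacter G, mult Φ j * D Φ : ℕ) : ℂ) := by
    push_cast
    apply Finset.sum_congr rfl
    intro Φ _
    rw [Pi.smul_apply, smul_eq_mul, hDeg Φ]
  rw [h2] at h1
  have : (((h + 1) * e * dJ hD hK j : ℕ) : ℂ) =
      ((∑ Φ : Cfsg.IrrCharacter G, mult Φ j * D Φ : ℕ) : ℂ) := by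
    rw [← h1]; push_cast; ring
  exact_mod_cast this.symm

theorem exists_degI (Φ : Cfsg.IrrCharacter G) : ∃ d : ℕ, 0 < d ∧ (Φ : G → ℂ) 1 = (d : ℂ) := by
  have hc := isCharacter_of_isIrrCharacter Φ.2
  obtain ⟨d, hd⟩ := Cfsg.Agent.Lib.Helper17_CohSys.char_apply_one_nat hc
  refine ⟨d, Nat.pos_of_ne_zero ?_, hd⟩
  intro h0
  rw [h0, Nat.cast_zero] at hd
  have := Cfsg.Agent.Lib.Helper17_CohSys.char_eq_zero_of_apply_one hc hd
  exact isIrrCharacter_ne_zero Φ.2 this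

theorem card_G (hD : ZData N H h e) : Nat.card G = (h + 1) * h * e := by
  rw [← Subgroup.index_mul_card N, hD.index_N, hD.card_N]; ring

variable [Fintype (JJ N H)]

/-- the Frobenius–Schur count in `N` -/
theorem fnZ (hS : SData N H h e) {s : ℕ}
    (hK : KData ↥(H.subgroupOf N) (e + 1) s) :
    ∑ j : JJ N H, nuZ j.1 * (dJ hS.zdata hK j : ℤ) = 1 := by
  have hD := hS.zdata
  have h1 := Cfsg.Agent.Lib.Helper75_Suz_FN.FN hD hS.card_invol
  have h2 : ∑ j : JJ N H, fsInd j.1 * j.1 1 =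
      (((e : ℤ) * ∑ j : JJ N H, nuZ j.1 * (dJ hD hK j : ℤ) : ℤ) : ℂ) := by
    push_cast
    rw [Finset.mul_sum]
    apply Finset.sum_congr rfl
    intro j _
    rw [deg_eq hD hK j, nuZ_spec j.2.1]
    ring
  rw [h2] at h1
  have h3 : (e : ℤ) * ∑ j : JJ N H, nuZ j.1 * (dJ hD hK j : ℤ) = (e : ℤ) * 1 := by
    rw [mul_one]; exact_mod_cast h1
  exact mul_left_cancel₀ (e_ne hD) h3

/-- the sum of the squares of the degrees -/
theorem sqZ (hD : ZData N H h e) {s : ℕ}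
    (hK : KData ↥(H.subgroupOf N) (e + 1) s) :
    (e : ℤ) * ∑ j : JJ N H, (dJ hD hK j : ℤ) ^ 2 = (h : ℤ) - 1 := by
  have h1 := Cfsg.Agent.Lib.Helper25_Suz_SQ.SQ hD
  have h2 : ∑ j : JJ N H, j.1 1 * j.1 1 =
      (((e : ℤ) * ((e : ℤ) * ∑ j : JJ N H, (dJ hD hK j : ℤ) ^ 2) : ℤ) : ℂ) := by
    push_cast
    rw [Finset.mul_sum, Finset.mul_sum]
    apply Finset.sum_congr rfl
    intro j _
    rw [deg_eq hD hK j]
    ring
  rw [h2] at h1
  have h3 : (e : ℤ) * ((e : ℤ) * ∑ j : JJ N H, (dJ hD hK j : ℤ) ^ 2) = (e : ℤ) * ((h : ℤ) - 1) := by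
    exact_mod_cast h1
  exact mul_left_cancel₀ (e_ne hD) h3

end ident

section main

open Classical
open Cfsg.Agent.Lib.Helper3_CharBridge Cfsg.Agent.Lib.Helper3_CharOrtho
  Cfsg.Agent.Lib.Helper75_CharArith Cfsg.Agent.Lib.Helper75_Induced
  Cfsg.Agent.Lib.Helper95_SuzArith

theorem nuZ_ge {Γ : Type u} [Group Γ] [Fintype Γ] (χ : Γ → ℂ) : -1 ≤ nuZ χ := by
  unfold nuZ
  split_ifs <;> norm_num

/-- complex conjugation on the index set -/
noncomputable def sig (hD : ZData N H h e) (j : JJ N H) : JJ N H :=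
  ⟨Cfsg.conjFun j.1, SS_conj hD j.2⟩

variable [Fintype ↥(H.subgroupOf N)]

theorem dJ_sig (hD : ZData N H h e) {s : ℕ}
    (hK : KData ↥(H.subgroupOf N) (e + 1) s) (j : JJ N H) :
    dJ hD hK (sig hD j) = dJ hD hK j := by
  have h1 := deg_eq hD hK (sig hD j)
  have h2 := deg_eq hD hK j
  have h3 : (sig hD j).1 1 = j.1 1 :=
    Cfsg.Agent.Lib.Helper17_CohSys.conjFun_apply_one (isCharacter_of_isIrrCharacter j.2.1)
  rw [h3, h2] at h1
  have heC : (e : ℂ) ≠ 0 := by exact_mod_cast e_ne hD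
  have := mul_left_cancel₀ heC h1
  exact_mod_cast this.symm

theorem sig_ne (hD : ZData N H h e) (j : JJ N H) (hν : nuZ j.1 = 0) : sig hD j ≠ j := by
  intro hj
  have hreal : Cfsg.conjFun j.1 = j.1 := congrArg Subtype.val hj
  have h1 := fsInd_ne_zero_of_real j.2.1 hreal
  have h2 : (nuZ j.1 : ℂ) = fsInd j.1 := nuZ_spec j.2.1
  rw [hν] at h2
  exact h1 (by rw [← h2]; norm_num)

variable [Fintype (JJ N H)]

/-- **The character-theoretic core of Suzuki's theorem.** -/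
theorem core (hS : SData N H h e) (hGL : GL1Concl N H e) :
    h = (e + 1) ^ 2 ∧ ∃ k, e + 1 = 2 * 4 ^ k := by
  have hD := hS.zdata
  obtain ⟨s, hs, hK⟩ := Cfsg.Agent.Lib.Helper59_Suz_GB.GB hS
  have he1 := hD.one_lt_e
  have he2 : 2 ≤ e := he1
  obtain ⟨L', hLne, hLcard, hLa', hdeg'⟩ := hGL
  choose D hDpos hDeg using (exists_degI (G := G))
  have heC : (e : ℂ) ≠ 0 := by exact_mod_cast e_ne hD
  -- the set `L'`
  have hLa : ∀ Φ ∈ L', ∀ j : JJ N H, mult Φ j = dJ hD hK j := by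
    intro Φ hΦ j
    have h1 := hLa' Φ hΦ j.1 j.2
    rw [mult_spec, deg_eq hD hK j] at h1
    have : ((mult Φ j : ℕ) : ℂ) = (dJ hD hK j : ℂ) := by
      rw [h1]; field_simp
    exact_mod_cast this
  have hdeg : ∀ Φ : Cfsg.IrrCharacter G, Φ ∉ L' → (∃ j : JJ N H, mult Φ j ≠ 0) →
      D Φ = ∑ j : JJ N H, mult Φ j * (e * dJ hD hK j) := by
    intro Φ hΦ hex
    obtain ⟨j, hj⟩ := hex
    have h1 := hdeg' Φ hΦ ⟨j.1, j.2, by rw [mult_spec]; exact_mod_cast hj⟩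
    rw [hDeg Φ] at h1
    have h2 : ∑ j : JJ N H, Cfsg.classInner (Cfsg.indFun N j.1) (Φ : G → ℂ) * j.1 1 =
        ((∑ j : JJ N H, mult Φ j * (e * dJ hD hK j) : ℕ) : ℂ) := by
      push_cast
      apply Finset.sum_congr rfl
      intro j _
      rw [mult_spec, deg_eq hD hK j]
    rw [h2] at h1
    exact_mod_cast h1
  have hdvd : ∀ Φ : Cfsg.IrrCharacter G, D Φ ∣ (h + 1) * h * e := by
    intro Φ
    rw [← card_G hD]
    exact Cfsg.Agent.Lib.Helper74_TwoDegS.degree_dvd_card Φ (D Φ) (hDeg Φ)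
  have hreal : ∀ Φ : Cfsg.IrrCharacter G, nuZ (Φ : G → ℂ) = 1 →
      ∀ j : JJ N H, mult Φ (sig hD j) = mult Φ j :=
    fun Φ hΦ j => mult_conj hD Φ (real_of_nuZ Φ.2 hΦ) j
  -- `q` is a power of two
  obtain ⟨n2, hn2⟩ := hS.two.exists_card_eq
  rw [hD.card_H] at hn2
  have hpowd : ∀ j : JJ N H, ∃ k, dJ hD hK j = 2 ^ k := by
    intro j
    have h3 := (dJ_spec hD hK j).2.2.1
    have : dJ hD hK j ∣ 2 ^ n2 := by rw [← hn2]; exact h3
    obtain ⟨k, -, hk⟩ := (Nat.dvd_prime_pow Nat.prime_two).mp this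
    exact ⟨k, hk⟩
  rcases hS.card_h with hh | hh
  · -- the case `h = q²`
    refine ⟨hh, ?_⟩
    obtain ⟨f, hf⟩ : ∃ f, e + 1 = 2 ^ f := by
      have : (e + 1) ∣ 2 ^ n2 := by
        rw [← hn2, hh]; exact dvd_pow_self (e + 1) two_ne_zero
      obtain ⟨f, -, hf⟩ := (Nat.dvd_prime_pow Nat.prime_two).mp this
      exact ⟨f, hf⟩
    have hdich : ∀ j : JJ N H, (dJ hD hK j = 1 ∧ nuZ j.1 = 1) ∨ (dJ hD hK j ≠ 1 ∧ nuZ j.1 = 0) := by
      intro j
      rcases (dJ_spec hD hK j).2.2.2 with h1 | h1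
      · exact Or.inl h1
      · exact Or.inr ⟨h1.1, dich_sq e (e + 1) s h rfl he2 hs hh _ _ h1.2⟩
    exact sq_all (fun (Φ : Cfsg.IrrCharacter G) (j : JJ N H) => mult Φ j) (dJ hD hK) D
      (fun Φ => nuZ (Φ : G → ℂ)) (fun j => nuZ j.1) e (e + 1) ((h + 1) * e) f (sig hD) L'
      rfl he2 hf hDpos (fun Φ => nuZ_le _) (gramZ hD hK) (fsZ hD hK) (fnZ hS hK)
      (by rw [sqZ hD hK, hh]; push_cast; ring) hdich hpowd (totZ hD hK D hDeg)
      hLcard hLa hdeg (by intro Φ; have := hdvd Φ; rw [hh] at this; exact this)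
      (dJ_sig hD hK) (fun j hj => sig_ne hD j (by
        rcases hdich j with h1 | h1
        · exact absurd h1.1 hj
        · exact h1.2)) hreal
  · -- the case `h = q³`
    exfalso
    have hdich : ∀ j : JJ N H, (dJ hD hK j = 1 ∧ nuZ j.1 = 1) ∨
        (dJ hD hK j = e + 1 ∧ nuZ j.1 = -1) := by
      intro j
      rcases (dJ_spec hD hK j).2.2.2 with h1 | h1
      · exact Or.inl h1
      · exact Or.inr (dich_cube e (e + 1) s h rfl he2 hs hh _ _ (nuZ_ge _) (nuZ_le _)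
          (dJ_spec hD hK j).1 h1.2)
    obtain ⟨Φ₀, hΦ₀⟩ := hLne
    obtain ⟨Φ, j₁, j₂, hj₂, hj₁, hmult⟩ :=
      cube_all (fun (Φ : Cfsg.IrrCharacter G) (j : JJ N H) => mult Φ j) (dJ hD hK) D
        (fun Φ => nuZ (Φ : G → ℂ)) (fun j => nuZ j.1) e (e + 1) ((h + 1) * e)
        rfl he2 hDpos (fun Φ => nuZ_ge _) (fun Φ => nuZ_le _) (gramZ hD hK) (fsZ hD hK)
        (fnZ hS hK) (by rw [sqZ hD hK, hh]; push_cast; ring) hdich (totZ hD hK D hDeg)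
        ⟨Φ₀, hLa Φ₀ hΦ₀⟩
    have hC0 := Cfsg.Agent.Lib.Helper95_FeitGlue.hC0_of hD
    obtain ⟨-, h2b, h2c⟩ := Cfsg.Agent.Lib.Helper31_Feit_PC2.PC2 hD
    have hm : ∀ ξ ∈ SS N H,
        Cfsg.classInner (Cfsg.indFun N ξ) (Φ : G → ℂ) = if ξ = j₁.1 then 1 else 0 := by
      intro ξ hξ
      have h1 := mult_spec Φ (⟨ξ, hξ⟩ : JJ N H)
      rw [show (⟨ξ, hξ⟩ : JJ N H).1 = ξ from rfl] at h1
      rw [h1, hmult ⟨ξ, hξ⟩]
      have e1 : ((⟨ξ, hξ⟩ : JJ N H) = j₁) ↔ (ξ = j₁.1) :=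
        ⟨fun h => congrArg Subtype.val h, fun h => Subtype.ext h⟩
      simp only [e1]
      split_ifs <;> simp
    have hres := Cfsg.Agent.Lib.Helper72_Feit_PE2.PE2 hD hC0 h2b h2c j₁.2 j₂.2
      (fun h => hj₂ (Subtype.ext h)) Φ.2 hm
    have hdeg₁ : j₁.1 1 = (e : ℂ) := by
      rw [deg_eq hD hK j₁, hj₁]; push_cast; ring
    have hhe : 2 * e < h - 1 := by
      rw [hh]
      have : (e + 1) ^ 3 = e ^ 3 + 3 * e ^ 2 + 3 * e + 1 := by ring
      rw [this]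
      have : 0 < e ^ 3 + 3 * e ^ 2 := by positivity
      omega
    exact Cfsg.Agent.Lib.Helper72_Feit_PE3.PE3 hD hhe hC0 h2c j₁.2 hdeg₁ (SS_vanish hD j₁.2)
      Φ.2 hres

end main

/-- the same, without instance arguments -/
theorem core' (hS : SData N H h e) (hGL : GL1Concl N H e) :
    h = (e + 1) ^ 2 ∧ ∃ k, e + 1 = 2 * 4 ^ k := by
  classical
  have := finite_JJ (N := N) (H := H)
  exact @core G _ _ N H _ h e (Fintype.ofFinite _) (Fintype.ofFinite _) hS hGL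

end Cfsg.Agent.Lib.Helper95_SuzCore
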