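import Cfsg.Agent.Lib.Helper9_HigB1
import Cfsg.Agent.Lib.Helper9_HigB2

/-!
# Higman's theorem on Suzuki `2`-groups (helper9)

A finite `2`-group `G` with a commutative group `K` of automorphisms acting regularly on the
involutions (of which there are at least two) is abelian, or `G / Ω₁(G)` is elementary abelian,
`Z(G) = Ω₁(G)` and `|G| ∈ {q², q³}` for `q = |Ω₁(G)|`.
-/

set_option autoImplicit false
set_option linter.unusedSectionVars false
set_option linter.style.haveILetI false
set_option linter.unusedSimpArgs false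
set_option linter.unusedVariables false

namespace Cfsg.Agent.Lib.Helper9_HigBase

universe u v

variable {K : Type v} [CommGroup K]

theorem higman_aux (hK : ∃ k : K, k ≠ 1) : ∀ m : ℕ, ∀ (G : Type u) [Group G]
    (φ : K →* MulAut G), IsHig φ → Nat.card G ≤ m →
    (∀ a b : G, a * b = b * a) ∨ ((∀ x : G, x * x ∈ Om G) ∧
      (∀ z ∈ Subgroup.center G, z * z = 1) ∧
      (Nat.card G = Nat.card (Om G) ^ 2 ∨ Nat.card G = Nat.card (Om G) ^ 3)) := by
  intro m
  induction m with
  | zero =>
    intro G _ φ h hcard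
    haveI := h.fin
    have : 0 < Nat.card G := Nat.card_pos
    omega
  | succ m ih =>
    intro G _ φ h hcard
    haveI := h.fin
    by_cases hab : ∀ a b : G, a * b = b * a
    · exact Or.inl hab
    right
    push Not at hab
    obtain ⟨a₀, b₀, hab₀⟩ := hab
    by_cases hW : ∃ a ∈ W G, ∃ b ∈ W G, a * b ≠ b * a
    · exact h.caseA hK hW
    exfalso
    push Not at hW
    have hneZ : ∃ x : G, x ∉ Om G := ⟨b₀, fun h0 => hab₀ (Om_comm h0 a₀)⟩
    have hWne := h.exists_W_not_mem hneZ
    have hOm2 : 2 ≤ Nat.card (Om G) := by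
      rw [h.card_Om]
      haveI := h.finite_K
      have : 0 < Nat.card K := Nat.card_pos
      omega
    by_cases hWc : ∀ w ∈ W G, ∀ g : G, w * g = g * w
    · -- `W` central: use the quotient
      have hq := h.quot hWc hWne
      have hcardq : Nat.card (G ⧸ Om G) ≤ m := by
        have h1 := Subgroup.card_eq_card_quotient_mul_card_subgroup (Om G)
        have hpos : 0 < Nat.card (G ⧸ Om G) := Nat.card_pos
        have : Nat.card (G ⧸ Om G) * 2 ≤ Nat.card G := by
          rw [h1]
          exact Nat.mul_le_mul_left _ hOm2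
        omega
      have hIH := ih (G ⧸ Om G) (quotAut φ (Om G) h.Om_inv) hq hcardq
      apply h.caseB2 hK ⟨a₀, b₀, hab₀⟩ hWc
      rcases hIH with h1 | h1
      · exact Or.inl h1
      · exact Or.inr h1.1
    · -- `W` not central: use its centralizer
      push Not at hWc
      obtain ⟨w₁, hw₁, g₁, hwg₁⟩ := hWc
      let C : Subgroup G := Subgroup.centralizer (W G : Set G)
      have memC : ∀ x, x ∈ C ↔ ∀ w ∈ W G, w * x = x * w := fun x =>
        Subgroup.mem_centralizer_iff
      have hCinv : ∀ k, ∀ c ∈ C, φ k c ∈ C := by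
        intro k c hc
        rw [memC] at hc ⊢
        intro w hw
        have h3 := hc (φ k⁻¹ w) (h.W_inv k⁻¹ w hw)
        have h4 := congrArg (φ k) h3
        rwa [map_mul, map_mul, map_inv, MulAut.apply_inv_self] at h4
      have hWC : W G ≤ C := by
        intro w hw
        rw [memC]
        intro w' hw'
        exact hW w' hw' w hw
      obtain ⟨x₁, hx₁1, hx₁2⟩ := h.ex
      have hx₁C : x₁ ∈ C := hWC (Om_le_W ((h.mem_Om_iff x₁).mpr hx₁2))
      have hC := h.sub C hCinv ⟨x₁, hx₁C, hx₁1, hx₁2⟩
      have hg₁C : g₁ ∉ C := by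
        intro h0
        rw [memC] at h0
        exact hwg₁ (h0 w₁ hw₁)
      have hcardC : Nat.card C ≤ m := by
        have hlt : Nat.card C < Nat.card G := by
          have hss : (C : Set G) ⊂ Set.univ := by
            rw [Set.ssubset_univ_iff]
            intro h0
            apply hg₁C
            have : g₁ ∈ (C : Set G) := by rw [h0]; exact Set.mem_univ _
            exact this
          have := Set.ncard_lt_ncard hss (Set.toFinite _)
          rw [Set.ncard_univ] at this
          rw [← Nat.card_coe_set_eq] at this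
          exact this
        omega
      have hIH := ih C (resAut φ C hCinv) hC hcardC
      have hCab : ∀ a b : C, a * b = b * a := by
        rcases hIH with h1 | h1
        · exact h1
        · exfalso
          obtain ⟨w₀, hw₀, hw₀Z⟩ := hWne
          have hw₀c : (⟨w₀, hWC hw₀⟩ : C) ∈ Subgroup.center C := by
            rw [Subgroup.mem_center_iff]
            intro c
            apply Subtype.ext
            show c.1 * w₀ = w₀ * c.1
            exact ((memC c.1).mp c.2 w₀ hw₀).symm
          have := h1.2.1 _ hw₀c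
          have h2 : w₀ * w₀ = 1 := congrArg Subtype.val this
          exact hw₀Z ((h.mem_Om_iff w₀).mpr h2)
      apply h.caseB1 hK hW hWne
      · intro a b ha hb
        have := hCab ⟨a, (memC a).mpr ha⟩ ⟨b, (memC b).mpr hb⟩
        exact congrArg Subtype.val this
      · exact ⟨g₁, fun h0 => hg₁C ((memC g₁).mpr h0)⟩

/-- **Higman's theorem.** -/
theorem higman {G : Type u} [Group G] (φ : K →* MulAut G) (h : IsHig φ) (hK : ∃ k : K, k ≠ 1)
    (hnab : ∃ a b : G, a * b ≠ b * a) :
    (∀ x : G, x * x ∈ Om G) ∧ (∀ x y : G, cm x y ∈ Om G) ∧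
      (∀ z : G, z ∈ Subgroup.center G ↔ z ∈ Om G) ∧
      (Nat.card G = Nat.card (Om G) ^ 2 ∨ Nat.card G = Nat.card (Om G) ^ 3) := by
  rcases higman_aux hK (Nat.card G) G φ h (le_refl _) with h1 | ⟨h1, h2, h3⟩
  · obtain ⟨a, b, hab⟩ := hnab
    exact absurd (h1 a b) hab
  refine ⟨h1, ?_, ?_, h3⟩
  · intro x y
    rw [cm_eq_sq]
    have hx : x⁻¹ * x⁻¹ ∈ Om G := by
      have := (Om G).inv_mem (h1 x)
      rwa [mul_inv_rev] at this
    exact (Om G).mul_mem ((Om G).mul_mem hx (h1 _)) (h1 y)
  · intro z
    exact ⟨fun hz => ⟨hz, h2 z hz⟩, fun hz => hz.1⟩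

end Cfsg.Agent.Lib.Helper9_HigBase
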