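/-
S0347 (Suzuki's order theorem), package GA2b: Higman's theorem for subgroups `H, E ≤ G`.
Statement verbatim from pending/helper95/S0347_packages.lean.txt.
-/
import Mathlib
import Cfsg.Agent.Lib.Helper9_HigMain

set_option autoImplicit false

namespace Cfsg.Agent.Lib.Helper9_Suz_GA2b

open Cfsg.Agent.Lib.Helper9_HigBase

universe u

variable {G : Type u} [Group G]

/-- conjugation by the elements of `E` on a subgroup `H` normalised by `E`. -/
def conjAut (H E : Subgroup G) (hnorm : ∀ k ∈ E, ∀ x ∈ H, k * x * k⁻¹ ∈ H) : ↥E →* MulAut ↥H where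
  toFun k :=
    { toFun := fun x => ⟨(k : G) * x * (k : G)⁻¹, hnorm k k.2 x x.2⟩
      invFun := fun x => ⟨(k : G)⁻¹ * x * (k : G), by
        have := hnorm (k : G)⁻¹ (E.inv_mem k.2) x x.2
        rwa [inv_inv] at this⟩
      left_inv := fun x => Subtype.ext (by simp [mul_assoc])
      right_inv := fun x => Subtype.ext (by simp [mul_assoc])
      map_mul' := fun x y => Subtype.ext (by simp [mul_assoc]) }
  map_one' := by
    ext x
    simp
  map_mul' k k' := by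
    ext x
    simp [mul_assoc]

@[simp] theorem conjAut_apply (H E : Subgroup G) (hnorm : ∀ k ∈ E, ∀ x ∈ H, k * x * k⁻¹ ∈ H)
    (k : ↥E) (x : ↥H) : ((conjAut H E hnorm k x : ↥H) : G) = (k : G) * x * (k : G)⁻¹ := rfl

variable [Finite G]

theorem GA2b (H E : Subgroup G) (hnorm : ∀ k ∈ E, ∀ x ∈ H, k * x * k⁻¹ ∈ H)
    (hEab : ∀ k ∈ E, ∀ k' ∈ E, k * k' = k' * k) (h2 : IsPGroup 2 H)
    (hreg : ∀ z ∈ H, z ≠ 1 → z * z = 1 → ∀ z' ∈ H, z' ≠ 1 → z' * z' = 1 →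
      ∃! k : ↥E, (k : G) * z * (k : G)⁻¹ = z')
    (hex : ∃ z ∈ H, z ≠ 1 ∧ z * z = 1) (hE1 : E ≠ ⊥)
    (hnab : ∃ x ∈ H, ∃ y ∈ H, x * y ≠ y * x) :
    (∀ x ∈ H, (x * x) * (x * x) = 1) ∧
    (∀ z ∈ H, z * z = 1 → ∀ y ∈ H, z * y = y * z) ∧
    (∀ x ∈ H, ∀ y ∈ H, (x * y * x⁻¹ * y⁻¹) * (x * y * x⁻¹ * y⁻¹) = 1) ∧
    Nat.card {z : G // z ∈ H ∧ z * z = 1} = Nat.card E + 1 ∧
    (Nat.card H = (Nat.card E + 1) ^ 2 ∨ Nat.card H = (Nat.card E + 1) ^ 3) := by
  let _ : CommGroup ↥E :=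
    { (inferInstance : Group ↥E) with
      mul_comm := fun a b => Subtype.ext (hEab a a.2 b b.2) }
  let φ : ↥E →* MulAut ↥H := conjAut H E hnorm
  have hφ : ∀ (k : ↥E) (x : ↥H), ((φ k x : ↥H) : G) = (k : G) * x * (k : G)⁻¹ := fun k x => rfl
  have hHig : IsHig φ := by
    refine ⟨inferInstance, h2, ?_, ?_⟩
    · intro x y hx1 hx2 hy1 hy2
      have hx1' : (x : G) ≠ 1 := fun h => hx1 (Subtype.ext h)
      have hy1' : (y : G) ≠ 1 := fun h => hy1 (Subtype.ext h)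
      have hx2' : (x : G) * x = 1 := congrArg Subtype.val hx2
      have hy2' : (y : G) * y = 1 := congrArg Subtype.val hy2
      obtain ⟨k, hk, hku⟩ := hreg x x.2 hx1' hx2' y y.2 hy1' hy2'
      refine ⟨k, Subtype.ext ?_, ?_⟩
      · rw [hφ]; exact hk
      · intro k' hk'
        apply hku
        have := congrArg Subtype.val hk'
        rw [hφ] at this
        exact this
    · obtain ⟨z, hz, hz1, hz2⟩ := hex
      exact ⟨⟨z, hz⟩, fun h => hz1 (congrArg Subtype.val h), Subtype.ext hz2⟩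
  have hK : ∃ k : ↥E, k ≠ 1 := (Subgroup.ne_bot_iff_exists_ne_one).mp hE1
  have hnab' : ∃ a b : ↥H, a * b ≠ b * a := by
    obtain ⟨x, hx, y, hy, hxy⟩ := hnab
    exact ⟨⟨x, hx⟩, ⟨y, hy⟩, fun h => hxy (congrArg Subtype.val h)⟩
  obtain ⟨r1, r2, r3, r4⟩ := higman φ hHig hK hnab'
  have hcard := hHig.card_Om
  refine ⟨?_, ?_, ?_, ?_, ?_⟩
  · intro x hx
    have := (r1 ⟨x, hx⟩).2
    exact congrArg Subtype.val this
  · intro z hz hz2 y hy
    have hc := hHig.invol_mem_center ⟨z, hz⟩ (Subtype.ext hz2)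
    have := Subgroup.mem_center_iff.mp hc ⟨y, hy⟩
    exact (congrArg Subtype.val this).symm
  · intro x hx y hy
    have := (r2 (⟨x, hx⟩ : ↥H)⁻¹ (⟨y, hy⟩ : ↥H)⁻¹).2
    have h3 := congrArg Subtype.val this
    simp only [cm_def, inv_inv, Subgroup.coe_mul, Subgroup.coe_inv, Subgroup.coe_one] at h3
    exact h3
  · rw [← hcard]
    apply Nat.card_congr
    exact
      { toFun := fun z => ⟨⟨z.1, z.2.1⟩, (hHig.mem_Om_iff _).mpr (Subtype.ext z.2.2)⟩
        invFun := fun z => ⟨z.1.1, z.1.2, congrArg Subtype.val ((hHig.mem_Om_iff _).mp z.2)⟩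
        left_inv := fun z => rfl
        right_inv := fun z => rfl }
  · rw [← hcard]
    exact r4

end Cfsg.Agent.Lib.Helper9_Suz_GA2b
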