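import Mathlib
import Cfsg.Agent.Lib.Helper95_SuzCore
import Cfsg.Agent.Lib.Helper59_Suz_GA1
import Cfsg.Agent.Lib.Helper59_Suz_GA2a
import Cfsg.Agent.Lib.Helper9_Suz_GA2b

/-!
# Suzuki's theorem on Zassenhaus groups of odd degree (S0347): gluing the packages (helper95)

The packages (`pending/helper95/S0347_packages.lean.txt`) were proved by helper59 (GA1, GA2a, GB),
helper9 (GA2b), helper25 (KC1, SQ), helper11 (NC1), helper75 (FN, GL1); the arithmetic core is
`Helper95_SuzArith` / `Helper95_SuzCore`.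
-/

set_option autoImplicit false
set_option linter.unusedSectionVars false
set_option linter.unusedVariables false

namespace Cfsg.Agent.Lib.Helper95_SuzGlue

open Cfsg MulAction Cfsg.Agent.Lib.Helper95_FeitDefs Cfsg.Agent.Lib.Helper95_SuzDefs
  Cfsg.Agent.Lib.Helper95_SuzCore

universe u v

section glue

variable {G : Type u} {Ω : Type v} [Group G] [Fintype G] [MulAction G Ω] [Fintype Ω]

/-- `ZData` from the nice case (PB1, PB2, PB3). -/
theorem zdata_of_nice {a b : Ω} {H : Subgroup G} {h e : ℕ} [Fintype (stabilizer G a)]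
    (hN : Nice G Ω a b H h e) : ZData (stabilizer G a) H h e := by
  obtain ⟨b1, b2, b3, b4, b5, b6, b7, b8, b9⟩ := Cfsg.Agent.Lib.Helper54_Feit_PB1.PB1 hN
  obtain ⟨c1, c2⟩ := Cfsg.Agent.Lib.Helper11_Feit_PB2.PB2 hN
  obtain ⟨d1, d2, d3⟩ := Cfsg.Agent.Lib.Helper54_Feit_PB3.PB3 hN
  exact
    { H_le := hN.H_le
      H_normal := b1
      card_H := hN.card_H
      card_N := b2
      index_N := b3
      e_odd := hN.e_odd
      one_lt_e := b4
      frob := b5
      ti := b6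
      normalizer_eq := b7
      ind_H := c1
      ind_off := c2
      sq_out := d1
      card_invol_out := d2
      invol_H := d3 }

/-- `SData` from the nice case with a non-abelian 2-group as kernel (GA2a, GA2b). -/
theorem sdata_of_nice {a b : Ω} {H : Subgroup G} {h : ℕ} [Fintype (stabilizer G a)]
    (hN : Nice G Ω a b H h (Nat.card ↥(stabilizer G a ⊓ stabilizer G b : Subgroup G)))
    (h2 : IsPGroup 2 H) (hnab : ∃ x ∈ H, ∃ y ∈ H, x * y ≠ y * x) :
    SData (stabilizer G a) H h (Nat.card ↥(stabilizer G a ⊓ stabilizer G b : Subgroup G)) := by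
  have hD := zdata_of_nice hN
  have hH1 : H ≠ ⊥ := by
    intro hbot
    obtain ⟨x, hx, y, hy, hxy⟩ := hnab
    rw [hbot, Subgroup.mem_bot] at hx hy
    rw [hx, hy] at hxy
    exact hxy rfl
  obtain ⟨g1, g2, g3, g4⟩ := Cfsg.Agent.Lib.Helper59_Suz_GA2a.GA2a hN h2 hH1
  have hE1 : (stabilizer G a ⊓ stabilizer G b : Subgroup G) ≠ ⊥ := by
    rw [← Subgroup.one_lt_card_iff_ne_bot]
    exact hD.one_lt_e
  have hnorm : ∀ k ∈ (stabilizer G a ⊓ stabilizer G b : Subgroup G), ∀ x ∈ H,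
      k * x * k⁻¹ ∈ H := fun k hk x hx => hD.H_normal k (Subgroup.mem_inf.mp hk).1 x hx
  obtain ⟨k1, k2, k3, k4, k5⟩ := Cfsg.Agent.Lib.Helper9_Suz_GA2b.GA2b H
    (stabilizer G a ⊓ stabilizer G b : Subgroup G) hnorm g1 h2 g2 g3 hE1 hnab
  exact
    { zdata := hD
      two := h2
      sq_sq := k1
      invol_comm := k2
      comm_sq := k3
      card_invol := k4
      trans := by
        intro z hz hz1 hzz z' hz' hz'1 hzz'
        obtain ⟨k, hk, -⟩ := g2 z hz hz1 hzz z' hz' hz'1 hzz'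
        exact ⟨k.1, (Subgroup.mem_inf.mp k.2).1, hk⟩
      nonab := hnab
      abel := g4
      card_h := by rw [← hD.card_H]; exact k5 }

/-- **Suzuki's order theorem**, modulo the package GL1. -/
theorem main (hGL : ∀ {N H : Subgroup G} [Fintype N] {h e : ℕ}, ZData N H h e →
      (∀ x ∈ N, ∀ y ∈ N, x * y * x⁻¹ * y⁻¹ ∈ H) → GL1Concl N H e)
    (hZ : Cfsg.IsZassenhausGroup G Ω)
    (x : Ω) (U : Subgroup G) (hUle : U ≤ stabilizer G x)
    (hUn : (U.subgroupOf (stabilizer G x)).Normal)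
    (hU2 : IsPGroup 2 U) (hUna : ∃ u v : U, u * v ≠ v * u)
    (hreg : ∀ y z : Ω, y ≠ x → z ≠ x → ∃! u : U, (u : G) • y = z) :
    ∃ m : ℕ, 1 ≤ m ∧
      Nat.card G = (2 ^ (2 * m + 1)) ^ 2 * ((2 ^ (2 * m + 1)) ^ 2 + 1) * (2 ^ (2 * m + 1) - 1) := by
  classical
  have : Fintype (stabilizer G x) := Fintype.ofFinite _
  -- a second point
  obtain ⟨b, hb⟩ : ∃ b : Ω, x ≠ b := by
    obtain ⟨-, -, -, ⟨g, -, a, b, hab, -, -⟩, -⟩ := hZ
    by_cases h : x = a
    · exact ⟨b, by rw [h]; exact hab⟩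
    · exact ⟨a, h⟩
  have hnab : ∃ u ∈ U, ∃ v ∈ U, u * v ≠ v * u := by
    obtain ⟨u, v, huv⟩ := hUna
    refine ⟨u.1, u.2, v.1, v.2, fun h => huv (Subtype.ext ?_)⟩
    simpa using h
  have hU1 : U ≠ ⊥ := by
    intro hbot
    obtain ⟨u, hu, v, hv, huv⟩ := hnab
    rw [hbot, Subgroup.mem_bot] at hu hv
    rw [hu, hv] at huv
    exact huv rfl
  have hUn' : ∀ n ∈ stabilizer G x, ∀ u ∈ U, n * u * n⁻¹ ∈ U := by
    intro n hn u hu
    have h1 : (⟨u, hUle hu⟩ : stabilizer G x) ∈ U.subgroupOf (stabilizer G x) :=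
      Subgroup.mem_subgroupOf.mpr hu
    have h2 := hUn.conj_mem _ h1 ⟨n, hn⟩
    rw [Subgroup.mem_subgroupOf] at h2
    simpa using h2
  have hN := Cfsg.Agent.Lib.Helper59_Suz_GA1.GA1 hZ hb U hUle hUn' hreg hU2 hU1
  have hS := sdata_of_nice hN hU2 hnab
  have hD := hS.zdata
  obtain ⟨hh, k, hk⟩ := core' hS (hGL hD hS.abel)
  set e := Nat.card ↥(stabilizer G x ⊓ stabilizer G b : Subgroup G) with he
  have he1 : 1 < e := hD.one_lt_e
  have hcard := card_G hD
  refine ⟨k, ?_, ?_⟩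
  · rcases Nat.eq_zero_or_pos k with h0 | hpos
    · rw [h0] at hk
      norm_num at hk
      omega
    · exact hpos
  · have hq : 2 ^ (2 * k + 1) = e + 1 := by
      rw [hk, pow_succ, pow_mul]
      norm_num
      ring
    rw [hcard, hh, hq]
    have : e + 1 - 1 = e := by omega
    rw [this]
    ring

end glue

end Cfsg.Agent.Lib.Helper95_SuzGlue
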