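/-
Bridge for S1147: in the setting of Higman's theorem (`IsHig φ`), the acting commutative group `K` is
cyclic; for subgroups `H, E ≤ G` as in package GA2b of S0347 this gives `IsCyclic E` and
`Cfsg.IsSuzukiTwoGroup H`.
-/
import Mathlib
import Cfsg.Prelude.Def_LieRecognition
import Cfsg.Agent.Lib.Helper9_Suz_GA2b

set_option autoImplicit false
set_option linter.style.haveILetI false

namespace Cfsg.Agent.Lib.Helper9_Suz_Cyc

open Cfsg.Agent.Lib.Helper9_HigBase Cfsg.Agent.Lib.Helper9_HigField Cfsg.Agent.Lib.Helper9_Suz_GA2b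

universe u v

section Abstract

variable {K : Type v} [CommGroup K] {G : Type u} [Group G] {φ : K →* MulAut G}

/-- the acting group in Higman's setting is cyclic (it embeds in the multiplicative group of a finite
field) -/
theorem IsHig.isCyclic (h : IsHig φ) : IsCyclic K := by
  haveI := h.fin
  haveI := h.finite_K
  obtain ⟨F, iF, iFt, iC, e, χ, hχ, he, hact⟩ := exists_field (resAut φ (Om G) h.Om_inv) h.regOm
  obtain ⟨x, hx1, hx2⟩ := h.ex
  have hinj : Function.Injective χ := by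
    rw [injective_iff_map_eq_one]
    intro k hk
    by_contra hk1
    apply hx1
    apply h.fix_eq_one k hk1 x
    have h1 := hact k ⟨x, (h.mem_Om_iff x).mpr hx2⟩
    rw [hk, Units.val_one, one_mul] at h1
    have h2 := e.injective h1
    exact congrArg Subtype.val h2
  exact isCyclic_of_injective χ hinj

end Abstract

section Sub

variable {G : Type u} [Group G] [Finite G]

/-- `IsHig` for the conjugation action of `E` on `H`. -/
theorem isCyclic_of_reg (H E : Subgroup G) (hnorm : ∀ k ∈ E, ∀ x ∈ H, k * x * k⁻¹ ∈ H)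
    (hEab : ∀ k ∈ E, ∀ k' ∈ E, k * k' = k' * k) (h2 : IsPGroup 2 H)
    (hreg : ∀ z ∈ H, z ≠ 1 → z * z = 1 → ∀ z' ∈ H, z' ≠ 1 → z' * z' = 1 →
      ∃! k : ↥E, (k : G) * z * (k : G)⁻¹ = z')
    (hex : ∃ z ∈ H, z ≠ 1 ∧ z * z = 1) : IsCyclic ↥E := by
  let _ : CommGroup ↥E :=
    { (inferInstance : Group ↥E) with
      mul_comm := fun a b => Subtype.ext (hEab a a.2 b b.2) }
  let φ : ↥E →* MulAut ↥H := conjAut H E hnorm
  have hφ : ∀ (k : ↥E) (x : ↥H), ((φ k x : ↥H) : G) = (k : G) * x * (k : G)⁻¹ := fun k x => rfl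
  have hHig : IsHig φ := by
    refine ⟨inferInstance, h2, ?_, ?_⟩
    · intro x y hx1 hx2 hy1 hy2
      have hx1' : (x : G) ≠ 1 := fun h => hx1 (Subtype.ext h)
      have hy1' : (y : G) ≠ 1 := fun h => hy1 (Subtype.ext h)
      have hx2' : (x : G) * x = 1 := congrArg Subtype.val hx2
      have hy2' : (y : G) * y = 1 := congrArg Subtype.val hy2
      obtain ⟨k, hk, hku⟩ := hreg x x.2 hx1' hx2' y y.2 hy1' hy2'
      refine ⟨k, Subtype.ext ?_, ?_⟩
      · rw [hφ]; exact hk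
      · intro k' hk'
        apply hku
        have := congrArg Subtype.val hk'
        rw [hφ] at this
        exact this
    · obtain ⟨z, hz, hz1, hz2⟩ := hex
      exact ⟨⟨z, hz⟩, fun h => hz1 (congrArg Subtype.val h), Subtype.ext hz2⟩
  exact IsHig.isCyclic hHig

/-- In the setting of package GA2b, `H` is a Suzuki `2`-group in the sense of the prelude. -/
theorem isSuzukiTwoGroup (H E : Subgroup G) (hnorm : ∀ k ∈ E, ∀ x ∈ H, k * x * k⁻¹ ∈ H)
    (hEab : ∀ k ∈ E, ∀ k' ∈ E, k * k' = k' * k) (h2 : IsPGroup 2 H)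
    (hreg : ∀ z ∈ H, z ≠ 1 → z * z = 1 → ∀ z' ∈ H, z' ≠ 1 → z' * z' = 1 →
      ∃! k : ↥E, (k : G) * z * (k : G)⁻¹ = z')
    (hex : ∃ z ∈ H, z ≠ 1 ∧ z * z = 1) (hE1 : E ≠ ⊥)
    (hnab : ∃ x ∈ H, ∃ y ∈ H, x * y ≠ y * x) : Cfsg.IsSuzukiTwoGroup ↥H := by
  have hcyc := isCyclic_of_reg H E hnorm hEab h2 hreg hex
  let φ : ↥E →* MulAut ↥H := conjAut H E hnorm
  have hφ : ∀ (k : ↥E) (x : ↥H), ((φ k x : ↥H) : G) = (k : G) * x * (k : G)⁻¹ := fun k x => rfl
  obtain ⟨z, hz, hz1, hz2⟩ := hex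
  obtain ⟨k₀, hk₀⟩ := (Subgroup.ne_bot_iff_exists_ne_one).mp hE1
  refine ⟨inferInstance, h2, ?_, ?_, φ.range, ?_, ?_⟩
  · obtain ⟨x, hx, y, hy, hxy⟩ := hnab
    exact ⟨⟨x, hx⟩, ⟨y, hy⟩, fun h => hxy (congrArg Subtype.val h)⟩
  · -- two distinct involutions: z and k₀ z k₀⁻¹
    have hz' : (k₀ : G) * z * (k₀ : G)⁻¹ ∈ H := hnorm k₀ k₀.2 z hz
    refine ⟨⟨z, hz⟩, ⟨(k₀ : G) * z * (k₀ : G)⁻¹, hz'⟩, ?_, ?_, ?_, ?_, ?_⟩
    · intro heq
      have h1 : (k₀ : G) * z * (k₀ : G)⁻¹ = z := (congrArg Subtype.val heq).symm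
      obtain ⟨k, -, hku⟩ := hreg z hz hz1 hz2 z hz hz1 hz2
      have e1 := hku k₀ h1
      have e2 := hku 1 (by simp)
      exact hk₀ (e1.trans e2.symm)
    · exact fun h => hz1 (congrArg Subtype.val h)
    · exact Subtype.ext hz2
    · intro h
      have h1 : (k₀ : G) * z * (k₀ : G)⁻¹ = 1 := congrArg Subtype.val h
      apply hz1
      have : z = (k₀ : G)⁻¹ * ((k₀ : G) * z * (k₀ : G)⁻¹) * (k₀ : G) := by group
      rw [this, h1]; group
    · apply Subtype.ext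
      show (k₀ : G) * z * (k₀ : G)⁻¹ * ((k₀ : G) * z * (k₀ : G)⁻¹) = 1
      have : (k₀ : G) * z * (k₀ : G)⁻¹ * ((k₀ : G) * z * (k₀ : G)⁻¹)
          = (k₀ : G) * (z * z) * (k₀ : G)⁻¹ := by group
      rw [this, hz2]; group
  · -- the range is cyclic
    haveI := hcyc
    exact isCyclic_of_surjective φ.rangeRestrict φ.rangeRestrict_surjective
  · intro x y hx1 hx2 hy1 hy2
    have hx1' : (x : G) ≠ 1 := fun h => hx1 (Subtype.ext h)
    have hy1' : (y : G) ≠ 1 := fun h => hy1 (Subtype.ext h)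
    have hx2' : (x : G) * x = 1 := congrArg Subtype.val hx2
    have hy2' : (y : G) * y = 1 := congrArg Subtype.val hy2
    obtain ⟨k, hk, hku⟩ := hreg x x.2 hx1' hx2' y y.2 hy1' hy2'
    refine ⟨⟨φ k, k, rfl⟩, Subtype.ext ?_, ?_⟩
    · show ((φ k x : ↥H) : G) = y
      rw [hφ]; exact hk
    · rintro ⟨_, k', rfl⟩ hk'
      have h3 : k' = k := by
        apply hku
        have := congrArg Subtype.val hk'
        exact this
      subst h3
      rfl

end Sub

end Cfsg.Agent.Lib.Helper9_Suz_Cyc
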