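import Mathlib
import Cfsg.Agent.S1140

set_option autoImplicit false

/-!
# The field-theoretic heart of Higman's classification of Suzuki 2-groups of type A

A multiplicative injective map `Q : F → F` on a finite field of characteristic two whose
polarisation is biadditive and nonzero is of the form `Q x = σ (x * φ x)` with `φ ≠ 1` a
field automorphism of odd order.
-/

namespace Cfsg.Agent.Lib.Helper37_TypeAField

/-- even/odd split of a range sum -/
lemma sum_range_two_mul {M : Type*} [AddCommMonoid M] (f : ℕ → M) (m : ℕ) :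
    ∑ j ∈ Finset.range (2 * m), f j =
      ∑ i ∈ Finset.range m, f (2 * i) + ∑ i ∈ Finset.range m, f (2 * i + 1) := by
  induction m with
  | zero => simp
  | succ m ih =>
    rw [Nat.mul_succ, Finset.sum_range_succ, Finset.sum_range_succ, ih, Finset.sum_range_succ,
      Finset.sum_range_succ]
    abel

variable {F : Type*} [Field F] [Fintype F] [CharP F 2]

omit [CharP F 2] in
/-- Dedekind: the sum of the distinct powers of an automorphism is not the zero map. -/
lemma exists_sum_pow_ne_zero (φ : F ≃+* F) :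
    ∃ b : F, ∑ j ∈ Finset.range (orderOf φ), (φ ^ j) b ≠ 0 := by
  classical
  by_contra hcon
  push Not at hcon
  have hli := Cfsg.Agent.S1140.linInd_aut (F := F)
  have : Finite (F ≃+* F) := Cfsg.Agent.S1140.finite_ringEquiv
  have hpos : 0 < orderOf φ := orderOf_pos φ
  have hinj : Set.InjOn (fun j : ℕ => φ ^ j) (Finset.range (orderOf φ) : Set ℕ) := by
    intro i hi j hj hij
    apply pow_injOn_Iio_orderOf (x := φ)
    · simpa using hi
    · simpa using hj
    · exact hij
  have hsum : ∑ σ ∈ (Finset.range (orderOf φ)).image (fun j : ℕ => φ ^ j),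
      (fun _ : F ≃+* F => (1 : F)) σ • ((σ : F →+* F) : F → F) = 0 := by
    rw [Finset.sum_image hinj]
    funext b
    rw [Finset.sum_apply]
    simp only [Pi.smul_apply, smul_eq_mul, one_mul, Pi.zero_apply]
    exact hcon b
  have h := linearIndependent_iff'.mp hli _ _ hsum (φ ^ 0)
    (Finset.mem_image.mpr ⟨0, Finset.mem_range.mpr hpos, rfl⟩)
  exact one_ne_zero h

omit [CharP F 2] in
/-- If `x ↦ x * φ x` has trivial kernel on the nonzero elements then `φ` has odd order. -/
lemma odd_orderOf_of_inj (φ : F ≃+* F)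
    (hinj : ∀ x : F, x ≠ 0 → x * φ x = 1 → x = 1) (h2 : (2 : F) = 0) : Odd (orderOf φ) := by
  by_contra hodd
  rw [Nat.not_odd_iff_even] at hodd
  obtain ⟨m, hm⟩ := hodd
  have hm' : orderOf φ = 2 * m := by omega
  obtain ⟨b, hb⟩ := exists_sum_pow_ne_zero φ
  rw [hm', sum_range_two_mul] at hb
  set a : F := ∑ i ∈ Finset.range m, (φ ^ (2 * i)) b with ha
  have hφa : φ a = ∑ i ∈ Finset.range m, (φ ^ (2 * i + 1)) b := by
    rw [ha, map_sum]
    apply Finset.sum_congr rfl
    intro i _
    rw [pow_succ', RingAut.mul_apply]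
  rw [← hφa] at hb
  have hφφa : φ (φ a) = a := by
    have h1 : φ (φ a) = ∑ i ∈ Finset.range m, (φ ^ (2 * (i + 1))) b := by
      rw [ha, map_sum, map_sum]
      apply Finset.sum_congr rfl
      intro i _
      have : 2 * (i + 1) = (2 * i + 1) + 1 := by ring
      rw [this, pow_succ', pow_succ', RingAut.mul_apply, RingAut.mul_apply]
    have h2 := Finset.sum_range_succ (fun i => (φ ^ (2 * i)) b) m
    have h3 := Finset.sum_range_succ' (fun i => (φ ^ (2 * i)) b) m
    have h4 : (φ ^ (2 * m)) b = b := by
      rw [← hm', pow_orderOf_eq_one, RingAut.one_apply]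
    have h5 : (φ ^ (2 * 0)) b = b := by
      rw [mul_zero, pow_zero, RingAut.one_apply]
    rw [h2, h4, h5] at h3
    rw [h1, ha]
    exact (add_right_cancel h3).symm
  have hane : φ a ≠ a := by
    intro h
    apply hb
    rw [h]
    have : a + a = 2 * a := by ring
    rw [this, h2, zero_mul]
  have ha0 : a ≠ 0 := by
    intro h
    apply hane
    rw [h, map_zero]
  have hφa0 : φ a ≠ 0 := by
    intro h
    exact ha0 ((map_eq_zero_iff φ φ.injective).mp h)
  have hx := hinj (a / φ a) (div_ne_zero ha0 hφa0) (by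
    rw [map_div₀, hφφa]
    field_simp)
  apply hane
  have := (div_eq_one_iff_eq hφa0).mp hx
  exact this.symm

/-- the polarisation of `Q` -/
def polar (Q : F → F) (x y : F) : F := Q (x + y) + Q x + Q y

omit [Fintype F] [CharP F 2] in
lemma polar_comm (Q : F → F) (x y : F) : polar Q x y = polar Q y x := by
  unfold polar
  rw [add_comm x y]
  ring

omit [Fintype F] [CharP F 2] in
/-- Dedekind independence for the characters `(x, y) ↦ σ x * τ y` of `F × F`. -/
lemma linInd_pairs :
    LinearIndependent F (fun p : (F ≃+* F) × (F ≃+* F) => fun z : F × F => p.1 z.1 * p.2 z.2) := by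
  have h := linearIndependent_monoidHom (F × F) F
  let ψ : (F ≃+* F) × (F ≃+* F) → (F × F →* F) := fun p =>
    ((p.1 : F →+* F) : F →* F).comp (MonoidHom.fst F F) *
      ((p.2 : F →+* F) : F →* F).comp (MonoidHom.snd F F)
  have hinj : Function.Injective ψ := by
    intro p p' hpp
    have h1 : ∀ z : F × F, p.1 z.1 * p.2 z.2 = p'.1 z.1 * p'.2 z.2 := fun z =>
      DFunLike.congr_fun hpp z
    apply Prod.ext
    · ext x
      simpa using h1 (x, 1)
    · ext y
      simpa using h1 (1, y)
  exact h.comp ψ hinj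

/-- **Theorem A', field form.** -/
theorem typeA_field (Q : F → F) (hmul : ∀ x y, Q (x * y) = Q x * Q y)
    (hinj : Function.Injective Q)
    (hadd : ∀ x x' y, polar Q (x + x') y = polar Q x y + polar Q x' y)
    (hne : ∃ x y, polar Q x y ≠ 0) :
    ∃ σ φ : F ≃+* F, φ ≠ RingEquiv.refl F ∧ Odd (orderOf φ) ∧ ∀ x, Q x = σ (x * φ x) := by
  classical
  have h2 : (2 : F) = 0 := CharTwo.two_eq_zero
  have hadd' : ∀ x y y', polar Q x (y + y') = polar Q x y + polar Q x y' := by
    intro x y y'
    rw [polar_comm Q x (y + y'), hadd, polar_comm Q y x, polar_comm Q y' x]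
  let B : F →+ F →+ F := AddMonoidHom.mk' (fun x => AddMonoidHom.mk' (fun y => polar Q x y)
    (hadd' x)) (by
      intro x x'
      ext y
      exact hadd x x' y)
  have hBdef : ∀ x y, B x y = polar Q x y := fun _ _ => rfl
  obtain ⟨s, c, hsc⟩ := (Cfsg.Agent.S1140.result (F := F)).2.2 B
  have hscale : ∀ l x y, polar Q (l * x) (l * y) = Q l * polar Q x y := by
    intro l x y
    unfold polar
    rw [← mul_add, hmul, hmul, hmul]
    ring
  -- every pair in the support represents `Q`
  have hrep : ∀ p ∈ s, c p ≠ 0 → ∀ l, p.1 l * p.2 l = Q l := by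
    intro p hp hcp l
    let g : (F ≃+* F) × (F ≃+* F) → F := fun p => c p * (p.1 l * p.2 l - Q l)
    let v : (F ≃+* F) × (F ≃+* F) → (F × F → F) := fun p => fun z : F × F => p.1 z.1 * p.2 z.2
    have hv : LinearIndependent F v := linInd_pairs
    have hsum : ∑ p ∈ s, g p • v p = 0 := by
      funext z
      obtain ⟨x, y⟩ := z
      rw [Finset.sum_apply]
      simp only [Pi.smul_apply, smul_eq_mul, Pi.zero_apply, g, v]
      have e1 := hsc (l * x) (l * y)
      have e2 := hsc x y
      rw [hBdef, hscale] at e1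
      rw [hBdef] at e2
      rw [e2, Finset.mul_sum] at e1
      have e3 : ∑ p ∈ s, c p * (p.1 l * p.2 l - Q l) * (p.1 x * p.2 y) =
          ∑ p ∈ s, c p * (p.1 (l * x) * p.2 (l * y)) - ∑ p ∈ s, Q l * (c p * (p.1 x * p.2 y)) := by
        rw [← Finset.sum_sub_distrib]
        apply Finset.sum_congr rfl
        intro p _
        rw [map_mul, map_mul]
        ring
      rw [e3, e1, sub_self]
    have h : g p = 0 := linearIndependent_iff'.mp hv s g hsum p hp
    change c p * (p.1 l * p.2 l - Q l) = 0 at h
    rcases mul_eq_zero.mp h with h | h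
    · exact absurd h hcp
    · exact sub_eq_zero.mp h
  -- the support is nonempty
  obtain ⟨p, hp, hcp⟩ : ∃ p ∈ s, c p ≠ 0 := by
    by_contra hcon
    push Not at hcon
    obtain ⟨x, y, hxy⟩ := hne
    apply hxy
    rw [← hBdef, hsc]
    apply Finset.sum_eq_zero
    intro p hp
    rw [hcon p hp, zero_mul]
  have hQ := hrep p hp hcp
  set σ := p.1 with hσ
  set τ := p.2 with hτ
  have hστ : σ ≠ τ := by
    intro h
    obtain ⟨x, y, hxy⟩ := hne
    apply hxy
    unfold polar
    rw [← hQ, ← hQ, ← hQ, ← h, map_add]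
    linear_combination (σ x * σ y + σ x * σ x + σ y * σ y) * h2
  refine ⟨σ, τ.trans σ.symm, ?_, ?_, ?_⟩
  · intro h
    apply hστ
    ext x
    have := DFunLike.congr_fun h x
    simp only [RingEquiv.trans_apply, RingEquiv.refl_apply] at this
    calc σ x = σ (σ.symm (τ x)) := by rw [this]
      _ = τ x := σ.apply_symm_apply _
  · apply odd_orderOf_of_inj _ _ h2
    intro x _ hx
    apply hinj
    rw [← hQ x, ← hQ 1, map_one, map_one, mul_one]
    have : σ (x * (τ.trans σ.symm) x) = σ 1 := by rw [hx]
    rw [map_mul, RingEquiv.trans_apply, RingEquiv.apply_symm_apply, map_one] at this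
    exact this
  · intro x
    rw [map_mul, RingEquiv.trans_apply, RingEquiv.apply_symm_apply, hQ]

end Cfsg.Agent.Lib.Helper37_TypeAField
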