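import Mathlib
import Cfsg.Prelude.Def_LieRecognition

set_option autoImplicit false

/-!
# The model of the 2-group of type A, and a splitting lemma

`Mod φ` is `F × F` with the law `(x, y) (x', y') = (x + x', y + y' + φ x * x')`.  It is
isomorphic to `Cfsg.suzukiTypeA F φ`.  A finite group `P` with coordinates `π : P → F`,
`ε : F → Z(P)` and squaring map `p * p = ε (π p * φ (π p))` is isomorphic to `Mod φ`.
-/

namespace Cfsg.Agent.Lib.Helper37_TypeAModel

section model

variable {F : Type*} [Field F]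

/-- the model group of type A -/
@[ext] structure Mod (φ : F →+* F) where
  x : F
  y : F

variable (φ : F →+* F)

instance instMulMod : Mul (Mod φ) := ⟨fun a b => ⟨a.x + b.x, a.y + b.y + φ a.x * b.x⟩⟩
instance instOneMod : One (Mod φ) := ⟨⟨0, 0⟩⟩
instance instInvMod : Inv (Mod φ) := ⟨fun a => ⟨-a.x, -a.y + φ a.x * a.x⟩⟩

@[simp] lemma mul_x (a b : Mod φ) : (a * b).x = a.x + b.x := rfl
@[simp] lemma mul_y (a b : Mod φ) : (a * b).y = a.y + b.y + φ a.x * b.x := rfl
@[simp] lemma one_x : (1 : Mod φ).x = 0 := rfl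
@[simp] lemma one_y : (1 : Mod φ).y = 0 := rfl
@[simp] lemma inv_x (a : Mod φ) : (a⁻¹).x = -a.x := rfl
@[simp] lemma inv_y (a : Mod φ) : (a⁻¹).y = -a.y + φ a.x * a.x := rfl

instance instGroupMod : Group (Mod φ) :=
  Group.ofLeftAxioms
    (by
      intro a b c
      ext
      · simp only [mul_x]; ring
      · simp only [mul_y, mul_x, map_add]; ring)
    (by
      intro a
      ext
      · simp
      · simp)
    (by
      intro a
      ext
      · simp
      · simp only [mul_y, inv_y, inv_x, map_neg, one_y]; ring)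

/-- the matrix of an element of the model -/
def mat (a : Mod φ) : Matrix (Fin 3) (Fin 3) F := !![1, 0, 0; a.x, 1, 0; a.y, φ a.x, 1]

lemma mat_one : mat φ 1 = 1 := by
  ext i j
  fin_cases i <;> fin_cases j <;> simp [mat]

lemma mat_mul (a b : Mod φ) : mat φ (a * b) = mat φ a * mat φ b := by
  ext i j
  fin_cases i <;> fin_cases j <;> simp [mat, Matrix.mul_apply, Fin.sum_univ_three]
  ring

/-- the matrix representation as a monoid homomorphism -/
def matHom : Mod φ →* Matrix (Fin 3) (Fin 3) F where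
  toFun := mat φ
  map_one' := mat_one φ
  map_mul' := mat_mul φ

/-- the matrix representation into `GL₃` -/
def toGL : Mod φ →* GL (Fin 3) F := (matHom φ).toHomUnits

lemma coe_toGL (a : Mod φ) : ((toGL φ a : GL (Fin 3) F) : Matrix (Fin 3) (Fin 3) F) = mat φ a := rfl

lemma toGL_injective : Function.Injective (toGL φ) := by
  intro a b hab
  have h : mat φ a = mat φ b := by
    rw [← coe_toGL, ← coe_toGL, hab]
  have h1 := congrFun (congrFun h 1) 0
  have h2 := congrFun (congrFun h 2) 0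
  simp [mat] at h1 h2
  exact Mod.ext h1 h2

lemma range_toGL : (toGL φ).range = Cfsg.suzukiTypeA F φ := by
  unfold Cfsg.suzukiTypeA
  have hS : {g : GL (Fin 3) F | ∃ x y : F,
      (g : Matrix (Fin 3) (Fin 3) F) = !![1, 0, 0; x, 1, 0; y, φ x, 1]} =
      ((toGL φ).range : Set (GL (Fin 3) F)) := by
    ext g
    constructor
    · rintro ⟨x, y, hg⟩
      refine ⟨⟨x, y⟩, ?_⟩
      apply Units.ext
      rw [coe_toGL, hg]
      rfl
    · rintro ⟨a, rfl⟩
      exact ⟨a.x, a.y, rfl⟩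
  rw [hS, Subgroup.closure_eq]

/-- the model is the group `suzukiTypeA` -/
noncomputable def modEquiv : Mod φ ≃* Cfsg.suzukiTypeA F φ :=
  (MonoidHom.ofInjective (toGL_injective φ)).trans (MulEquiv.subgroupCongr (range_toGL φ))

end model

section complement

/-- A complement modulo `D` in a group whose squares lie in the central subgroup `D`. -/
theorem complement_exists {G : Type*} [Group G] [Finite G] (Y N D : Subgroup G) (hDN : D ≤ N)
    (hNY : N ≤ Y) (hsq : ∀ y ∈ Y, y * y ∈ D) (hcent : ∀ n ∈ N, ∀ y ∈ Y, n * y = y * n) :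
    ∃ X : Subgroup G, D ≤ X ∧ X ≤ Y ∧ X ⊓ N ≤ D ∧ ∀ y ∈ Y, ∃ x ∈ X, ∃ n ∈ N, y = x * n := by
  have hp : (fun X : Subgroup G => D ≤ X ∧ X ≤ Y ∧ X ⊓ N ≤ D) D :=
    ⟨le_refl _, hDN.trans hNY, inf_le_left⟩
  obtain ⟨X, -, hXmax⟩ := Finite.exists_le_maximal
    (p := fun X : Subgroup G => D ≤ X ∧ X ≤ Y ∧ X ⊓ N ≤ D) (a := D) hp
  have hpX : D ≤ X ∧ X ≤ Y ∧ X ⊓ N ≤ D := hXmax.prop
  have hmax : ∀ Z : Subgroup G, (D ≤ Z ∧ Z ≤ Y ∧ Z ⊓ N ≤ D) → X ≤ Z → Z ≤ X :=
    fun Z hZ hXZ => hXmax.le_of_ge hZ hXZ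
  obtain ⟨hDX, hXY, hXN⟩ := hpX
  refine ⟨X, hDX, hXY, hXN, ?_⟩
  intro y hy
  by_contra hcon
  push Not at hcon
  have hnorm : ∀ x ∈ X, ∀ g ∈ Y, g * x * g⁻¹ ∈ X := by
    intro x hx g hg
    have h1 : g * x * g⁻¹ = (g * x) * (g * x) * x⁻¹ * (g * g)⁻¹ := by group
    rw [h1]
    exact X.mul_mem (X.mul_mem (hDX (hsq _ (Y.mul_mem hg (hXY hx)))) (X.inv_mem hx))
      (X.inv_mem (hDX (hsq g hg)))
  have hyi : y⁻¹ ∈ Y := Y.inv_mem hy
  let X' : Subgroup G :=
    { carrier := {w | w ∈ X ∨ w * y ∈ X}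
      one_mem' := Or.inl X.one_mem
      mul_mem' := by
        rintro w w' (hw | hw) (hw' | hw')
        · exact Or.inl (X.mul_mem hw hw')
        · right
          rw [mul_assoc]
          exact X.mul_mem hw hw'
        · right
          have h1 := hnorm w' hw' y⁻¹ hyi
          have h2 : w * w' * y = (w * y) * (y⁻¹ * w' * y⁻¹⁻¹) := by group
          rw [h2]
          exact X.mul_mem hw h1
        · left
          have h1 := hnorm (w' * y) hw' y⁻¹ hyi
          have h2 : w * w' = (w * y) * (y⁻¹ * (w' * y) * y⁻¹⁻¹) * (y * y)⁻¹ := by group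
          rw [h2]
          exact X.mul_mem (X.mul_mem hw h1) (X.inv_mem (hDX (hsq y hy)))
      inv_mem' := by
        rintro w (hw | hw)
        · exact Or.inl (X.inv_mem hw)
        · right
          have h1 := hnorm (w * y)⁻¹ (X.inv_mem hw) y hy
          have h2 : w⁻¹ * y = (y * (w * y)⁻¹ * y⁻¹) * (y * y) := by group
          rw [h2]
          exact X.mul_mem h1 (hDX (hsq y hy)) }
  have hXX' : X ≤ X' := fun w hw => Or.inl hw
  have hpX' : D ≤ X' ∧ X' ≤ Y ∧ X' ⊓ N ≤ D := by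
    refine ⟨hDX.trans hXX', ?_, ?_⟩
    · rintro w (hw | hw)
      · exact hXY hw
      · have : w = (w * y) * y⁻¹ := by group
        rw [this]
        exact Y.mul_mem (hXY hw) hyi
    · rintro w ⟨(hw | hw), hwN⟩
      · exact hXN ⟨hw, hwN⟩
      · exfalso
        have hwi : w⁻¹ ∈ N := N.inv_mem hwN
        have h1 := hcent w⁻¹ hwi (w * y) (hXY hw)
        refine hcon (w * y) hw w⁻¹ hwi ?_
        rw [← h1]
        group
  have hX'X : X' ≤ X := hmax X' hpX' hXX'
  have hyX : y⁻¹ ∈ X := hX'X (Or.inr (by rw [inv_mul_cancel]; exact X.one_mem))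
  refine hcon y ?_ 1 N.one_mem (mul_one y).symm
  have := X.inv_mem hyX
  rwa [inv_inv] at this

end complement

section splitting

variable {F : Type*} [Field F] [CharP F 2]

/-- **Splitting lemma.** -/
theorem model_iso {P : Type*} [Group P] [Finite P] (φ : F →+* F) (π : P → F) (ε : F → P)
    (hπmul : ∀ p p', π (p * p') = π p + π p') (hπsurj : Function.Surjective π)
    (hεadd : ∀ y y', ε (y + y') = ε y * ε y') (hεinj : Function.Injective ε)
    (hεcent : ∀ y p, ε y * p = p * ε y)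
    (hker : ∀ p, π p = 0 → ∃ y, p = ε y) (hπε : ∀ y, π (ε y) = 0)
    (hsq : ∀ p, p * p = ε (π p * φ (π p))) :
    Nonempty (Mod φ ≃* P) := by
  classical
  have h2 : ∀ t : F, t + t = 0 := fun t => CharTwo.add_self_eq_zero t
  have : Finite F := Finite.of_surjective π hπsurj
  have : Finite (Mod φ) :=
    Finite.of_injective (fun a : Mod φ => (a.x, a.y)) (by
      intro a b hab
      simp only [Prod.mk.injEq] at hab
      exact Mod.ext hab.1 hab.2)
  have hπ1 : π 1 = 0 := by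
    have := hπmul 1 1
    rw [mul_one] at this
    exact left_eq_add.mp this
  have hπinv : ∀ p, π p⁻¹ = -π p := by
    intro p
    have := hπmul p⁻¹ p
    rw [inv_mul_cancel, hπ1] at this
    exact eq_neg_of_add_eq_zero_left this.symm
  have hε0 : ε 0 = 1 := by
    have := hεadd 0 0
    rw [add_zero] at this
    exact left_eq_mul.mp this
  have hεneg : ∀ y, ε (-y) = (ε y)⁻¹ := by
    intro y
    have := hεadd (-y) y
    rw [neg_add_cancel, hε0] at this
    exact eq_inv_of_mul_eq_one_left this.symm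
  let Y : Subgroup (Mod φ × P) :=
    { carrier := {w | w.1.x = π w.2}
      one_mem' := by
        show (1 : Mod φ).x = π 1
        rw [hπ1]; rfl
      mul_mem' := by
        intro w w' hw hw'
        show (w.1 * w'.1).x = π (w.2 * w'.2)
        rw [hπmul, mul_x, hw, hw']
      inv_mem' := by
        intro w hw
        show (w.1⁻¹).x = π (w.2⁻¹)
        rw [hπinv, inv_x, hw] }
  let N : Subgroup (Mod φ × P) :=
    { carrier := {w | w.1.x = 0 ∧ π w.2 = 0}
      one_mem' := ⟨rfl, hπ1⟩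
      mul_mem' := by
        rintro w w' ⟨hw1, hw2⟩ ⟨hw1', hw2'⟩
        refine ⟨?_, ?_⟩
        · show (w.1 * w'.1).x = 0
          rw [mul_x, hw1, hw1', add_zero]
        · show π (w.2 * w'.2) = 0
          rw [hπmul, hw2, hw2', add_zero]
      inv_mem' := by
        rintro w ⟨hw1, hw2⟩
        refine ⟨?_, ?_⟩
        · show (w.1⁻¹).x = 0
          rw [inv_x, hw1, neg_zero]
        · show π (w.2⁻¹) = 0
          rw [hπinv, hw2, neg_zero] }
  let D : Subgroup (Mod φ × P) :=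
    { carrier := {w | w.1.x = 0 ∧ w.2 = ε w.1.y}
      one_mem' := ⟨rfl, hε0.symm⟩
      mul_mem' := by
        rintro w w' ⟨hw1, hw2⟩ ⟨hw1', hw2'⟩
        refine ⟨?_, ?_⟩
        · show (w.1 * w'.1).x = 0
          rw [mul_x, hw1, hw1', add_zero]
        · show w.2 * w'.2 = ε (w.1 * w'.1).y
          rw [mul_y, hw1', mul_zero, add_zero, hεadd, ← hw2, ← hw2']
      inv_mem' := by
        rintro w ⟨hw1, hw2⟩
        refine ⟨?_, ?_⟩
        · show (w.1⁻¹).x = 0
          rw [inv_x, hw1, neg_zero]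
        · show w.2⁻¹ = ε (w.1⁻¹).y
          rw [inv_y, hw1, mul_zero, add_zero, hεneg, ← hw2] }
  have hDN : D ≤ N := by
    rintro w ⟨hw1, hw2⟩
    exact ⟨hw1, by rw [hw2, hπε]⟩
  have hNY : N ≤ Y := by
    rintro w ⟨hw1, hw2⟩
    show w.1.x = π w.2
    rw [hw1, hw2]
  have hsqY : ∀ w ∈ Y, w * w ∈ D := by
    intro w hw
    have hw' : w.1.x = π w.2 := hw
    refine ⟨?_, ?_⟩
    · show (w.1 * w.1).x = 0
      rw [mul_x, h2]
    · show w.2 * w.2 = ε (w.1 * w.1).y
      rw [mul_y, h2, zero_add, hsq, hw', mul_comm]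
  have hcent : ∀ n ∈ N, ∀ w ∈ Y, n * w = w * n := by
    rintro n ⟨hn1, hn2⟩ w -
    obtain ⟨t, ht⟩ := hker n.2 hn2
    apply Prod.ext
    · show n.1 * w.1 = w.1 * n.1
      ext
      · simp only [mul_x]; ring
      · simp only [mul_y, hn1, map_zero]; ring
    · show n.2 * w.2 = w.2 * n.2
      rw [ht, hεcent]
  obtain ⟨X, hDX, hXY, hXN, hXfac⟩ := complement_exists Y N D hDN hNY hsqY hcent
  let f₁ : ↥X →* Mod φ := (MonoidHom.fst (Mod φ) P).comp X.subtype
  let f₂ : ↥X →* P := (MonoidHom.snd (Mod φ) P).comp X.subtype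
  have hf₁ : Function.Bijective f₁ := by
    constructor
    · rw [injective_iff_map_eq_one]
      rintro ⟨w, hw⟩ h1
      have h1' : w.1 = 1 := h1
      have hwY : w.1.x = π w.2 := hXY hw
      have hwN : w ∈ N := ⟨by rw [h1']; rfl, by rw [← hwY, h1']; rfl⟩
      obtain ⟨-, hw2⟩ := hXN ⟨hw, hwN⟩
      apply Subtype.ext
      apply Prod.ext
      · exact h1'
      · show w.2 = 1
        rw [hw2, h1']
        exact hε0
    · intro a
      obtain ⟨p, hp⟩ := hπsurj a.x
      have hw₀ : ((a, p) : Mod φ × P) ∈ Y := hp.symm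
      obtain ⟨x, hx, n, ⟨hn1, hn2⟩, hxn⟩ := hXfac _ hw₀
      have hd : ((⟨0, n.1.y⟩, ε n.1.y) : Mod φ × P) ∈ D := ⟨rfl, rfl⟩
      refine ⟨⟨x * (⟨0, n.1.y⟩, ε n.1.y), X.mul_mem hx (hDX hd)⟩, ?_⟩
      show x.1 * (⟨0, n.1.y⟩ : Mod φ) = a
      have hn : (⟨0, n.1.y⟩ : Mod φ) = n.1 := Mod.ext hn1.symm rfl
      rw [hn]
      have := congrArg Prod.fst hxn
      exact this.symm
  have hf₂ : Function.Bijective f₂ := by
    constructor
    · rw [injective_iff_map_eq_one]
      rintro ⟨w, hw⟩ h1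
      have h1' : w.2 = 1 := h1
      have hwY : w.1.x = π w.2 := hXY hw
      have hwx : w.1.x = 0 := by rw [hwY, h1', hπ1]
      have hwN : w ∈ N := ⟨hwx, by rw [h1', hπ1]⟩
      obtain ⟨-, hw2⟩ := hXN ⟨hw, hwN⟩
      have hy : w.1.y = 0 := by
        apply hεinj
        rw [← hw2, h1', hε0]
      apply Subtype.ext
      apply Prod.ext
      · exact Mod.ext hwx hy
      · exact h1'
    · intro p
      have hw₀ : (((⟨π p, 0⟩ : Mod φ), p) : Mod φ × P) ∈ Y := rfl
      obtain ⟨x, hx, n, ⟨hn1, hn2⟩, hxn⟩ := hXfac _ hw₀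
      obtain ⟨t, ht⟩ := hker n.2 hn2
      have hd : ((⟨0, t⟩, ε t) : Mod φ × P) ∈ D := ⟨rfl, rfl⟩
      refine ⟨⟨x * (⟨0, t⟩, ε t), X.mul_mem hx (hDX hd)⟩, ?_⟩
      show x.2 * ε t = p
      rw [← ht]
      have := congrArg Prod.snd hxn
      exact this.symm
  exact ⟨(MulEquiv.ofBijective f₁ hf₁).symm.trans (MulEquiv.ofBijective f₂ hf₂)⟩

end splitting

end Cfsg.Agent.Lib.Helper37_TypeAModel
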