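import Mathlib

set_option autoImplicit false
set_option warn.classDefReducibility false

/-!
# A commutative group acting regularly on the non-identity elements of a commutative group

If a commutative group `K` acts by automorphisms on a finite commutative group `V`,
regularly on the non-identity elements, then `V` carries a field structure for which
`K` acts through multiplications.  We package this as coordinates on any finite field of
the right cardinality.
-/

namespace Cfsg.Agent.Lib.Helper37_KLine

/-- A commutative group `K` acting on a commutative group `V` by automorphisms, with a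
base point `v₀` whose orbit is regular and consists of all non-identity elements. -/
structure KData (V : Type*) [Group V] (K : Type*) [Group K] where
  vcomm : ∀ a b : V, a * b = b * a
  kcomm : ∀ k k' : K, k * k' = k' * k
  ρ : K → V → V
  ρ_one : ∀ a, ρ 1 a = a
  ρ_mul : ∀ k k' a, ρ (k * k') a = ρ k (ρ k' a)
  ρ_map_mul : ∀ k a b, ρ k (a * b) = ρ k a * ρ k b
  v₀ : V
  hv₀ : v₀ ≠ 1
  free : ∀ k, ρ k v₀ = v₀ → k = 1
  trans : ∀ a, a ≠ 1 → ∃ k, ρ k v₀ = a

variable {V : Type*} [Group V] {K : Type*} [Group K] (d : KData V K)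

namespace KData

/-- the additive commutative group structure on `Additive V` -/
def addCommGroup : AddCommGroup (Additive V) :=
  { (inferInstance : AddGroup (Additive V)) with
    add_comm := fun a b => d.vcomm a.toMul b.toMul }

/-- the action on `Additive V` -/
def r (k : K) (a : Additive V) : Additive V := Additive.ofMul (d.ρ k a.toMul)

/-- the unit -/
def e : Additive V := Additive.ofMul d.v₀

lemma r_one (a : Additive V) : d.r 1 a = a := by
  simp [r, d.ρ_one]

lemma r_mul (k k' : K) (a : Additive V) : d.r (k * k') a = d.r k (d.r k' a) := by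
  simp [r, d.ρ_mul]

lemma r_add (k : K) (a b : Additive V) : d.r k (a + b) = d.r k a + d.r k b := by
  simp [r, d.ρ_map_mul]

lemma r_zero (k : K) : d.r k 0 = 0 := by
  have h := d.r_add k 0 0
  rw [add_zero] at h
  exact (add_eq_left.mp h.symm)

lemma r_inv_cancel (k : K) (a : Additive V) : d.r k⁻¹ (d.r k a) = a := by
  rw [← r_mul, inv_mul_cancel, r_one]

lemma r_cancel_inv (k : K) (a : Additive V) : d.r k (d.r k⁻¹ a) = a := by
  rw [← r_mul, mul_inv_cancel, r_one]

lemma r_ne_zero (k : K) {a : Additive V} (ha : a ≠ 0) : d.r k a ≠ 0 := by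
  intro h
  apply ha
  have := congrArg (d.r k⁻¹) h
  rwa [r_inv_cancel, r_zero] at this

lemma e_ne_zero : d.e ≠ 0 := by
  intro h
  exact d.hv₀ (by simpa [e] using congrArg Additive.toMul h)

lemma r_e_inj {k k' : K} (h : d.r k d.e = d.r k' d.e) : k = k' := by
  have h1 : d.r (k'⁻¹ * k) d.e = d.e := by
    rw [r_mul, h, r_inv_cancel]
  have h2 : d.ρ (k'⁻¹ * k) d.v₀ = d.v₀ := by
    simpa [r, e] using congrArg Additive.toMul h1
  have h3 := d.free _ h2
  calc k = k' * (k'⁻¹ * k) := by group
    _ = k' := by rw [h3, mul_one]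

lemma exists_r_e {a : Additive V} (ha : a ≠ 0) : ∃ k, d.r k d.e = a := by
  have ha' : a.toMul ≠ 1 := by
    intro h
    exact ha (by simpa using congrArg Additive.ofMul h)
  obtain ⟨k, hk⟩ := d.trans a.toMul ha'
  exact ⟨k, by simp [r, e, hk]⟩

open Classical in
/-- the group element carrying the unit to `a` -/
noncomputable def kap (a : Additive V) : K :=
  if h : a = 0 then 1 else Classical.choose (d.exists_r_e h)

lemma r_kap {a : Additive V} (ha : a ≠ 0) : d.r (d.kap a) d.e = a := by
  unfold kap
  rw [dif_neg ha]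
  exact Classical.choose_spec (d.exists_r_e ha)

lemma kap_r (k : K) : d.kap (d.r k d.e) = k :=
  d.r_e_inj (d.r_kap (d.r_ne_zero k d.e_ne_zero))

lemma kap_e : d.kap d.e = 1 := by
  have := d.kap_r 1
  rwa [r_one] at this

open Classical in
/-- the multiplication -/
noncomputable def mul (a b : Additive V) : Additive V :=
  if a = 0 then 0 else d.r (d.kap a) b

lemma mul_of_ne {a : Additive V} (ha : a ≠ 0) (b : Additive V) : d.mul a b = d.r (d.kap a) b := by
  unfold mul; rw [if_neg ha]

lemma zero_mul' (b : Additive V) : d.mul 0 b = 0 := by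
  unfold mul; rw [if_pos rfl]

lemma mul_zero' (a : Additive V) : d.mul a 0 = 0 := by
  unfold mul; split_ifs
  · rfl
  · exact d.r_zero _

lemma mul_e (a : Additive V) : d.mul a d.e = a := by
  by_cases ha : a = 0
  · rw [ha, zero_mul']
  · rw [mul_of_ne d ha, r_kap d ha]

lemma e_mul (a : Additive V) : d.mul d.e a = a := by
  rw [mul_of_ne d d.e_ne_zero, kap_e, r_one]

lemma r_e_mul (k : K) (a : Additive V) : d.mul (d.r k d.e) a = d.r k a := by
  rw [mul_of_ne d (d.r_ne_zero k d.e_ne_zero), kap_r]

lemma mul_add' (a b c : Additive V) : d.mul a (b + c) = d.mul a b + d.mul a c := by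
  by_cases ha : a = 0
  · rw [ha, zero_mul', zero_mul', zero_mul', add_zero]
  · rw [mul_of_ne d ha, mul_of_ne d ha, mul_of_ne d ha, r_add]

lemma mul_comm' (a b : Additive V) : d.mul a b = d.mul b a := by
  by_cases ha : a = 0
  · rw [ha, zero_mul', mul_zero']
  by_cases hb : b = 0
  · rw [hb, zero_mul', mul_zero']
  rw [mul_of_ne d ha, mul_of_ne d hb]
  conv_lhs => rw [← d.r_kap hb]
  conv_rhs => rw [← d.r_kap ha]
  rw [← r_mul, ← r_mul, d.kcomm]

lemma add_mul' (a b c : Additive V) : d.mul (a + b) c = d.mul a c + d.mul b c := by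
  rw [mul_comm' d (a + b), mul_add', mul_comm' d c a, mul_comm' d c b]

lemma mul_ne_zero' {a b : Additive V} (ha : a ≠ 0) (hb : b ≠ 0) : d.mul a b ≠ 0 := by
  rw [mul_of_ne d ha]
  exact d.r_ne_zero _ hb

lemma kap_mul {a b : Additive V} (ha : a ≠ 0) (hb : b ≠ 0) :
    d.kap (d.mul a b) = d.kap a * d.kap b := by
  rw [mul_of_ne d ha]
  conv_lhs => rw [← d.r_kap hb]
  rw [← r_mul, kap_r]

lemma mul_assoc' (a b c : Additive V) : d.mul (d.mul a b) c = d.mul a (d.mul b c) := by
  by_cases ha : a = 0
  · rw [ha, zero_mul', zero_mul', zero_mul']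
  by_cases hb : b = 0
  · rw [hb, mul_zero', zero_mul', mul_zero']
  rw [mul_of_ne d (d.mul_ne_zero' ha hb), kap_mul d ha hb, r_mul, mul_of_ne d ha (d.mul b c),
    mul_of_ne d hb]

lemma exists_inv {a : Additive V} (ha : a ≠ 0) : ∃ b, d.mul a b = d.e := by
  refine ⟨d.r (d.kap a)⁻¹ d.e, ?_⟩
  rw [mul_of_ne d ha, r_cancel_inv]

/-- the commutative ring structure on `Additive V` -/
noncomputable def commRing : CommRing (Additive V) :=
  { d.addCommGroup with
    mul := d.mul
    one := d.e
    mul_assoc := d.mul_assoc'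
    one_mul := d.e_mul
    mul_one := d.mul_e
    left_distrib := d.mul_add'
    right_distrib := d.add_mul'
    zero_mul := d.zero_mul'
    mul_zero := d.mul_zero'
    mul_comm := d.mul_comm' }

/-- the field structure on `Additive V` -/
noncomputable def field : Field (Additive V) :=
  letI := d.commRing
  IsField.toField (R := Additive V)
    { exists_pair_ne := ⟨0, d.e, fun h => d.e_ne_zero h.symm⟩
      mul_comm := d.mul_comm'
      mul_inv_cancel := fun ha => d.exists_inv ha }

end KData

/-- **Coordinates on a `K`-line.**  For any finite field `F` with as many elements as `V`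
there are an isomorphism `ι` from `(F, +)` to `V` and a map `χ : K → F`, bijective onto the
nonzero elements, with `ι (χ k * x) = ρ k (ι x)`. -/
theorem KData.coords [Finite V] (F : Type*) [Field F] [Finite F] (hF : Nat.card F = Nat.card V) :
    ∃ (ι : F → V) (χ : K → F), Function.Bijective ι ∧ (∀ x y, ι (x + y) = ι x * ι y) ∧
      ι 1 = d.v₀ ∧ (∀ k x, ι (χ k * x) = d.ρ k (ι x)) ∧ Function.Injective χ ∧
      (∀ y, y ≠ 0 → ∃ k, χ k = y) := by
  classical
  let _ : Field (Additive V) := d.field
  have : Fintype F := Fintype.ofFinite F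
  have : Finite (Additive V) := inferInstanceAs (Finite V)
  have : Fintype (Additive V) := Fintype.ofFinite _
  have hcard : Fintype.card F = Fintype.card (Additive V) := by
    rw [← Nat.card_eq_fintype_card, ← Nat.card_eq_fintype_card, hF]
    rfl
  let g : F ≃+* Additive V := FiniteField.ringEquivOfCardEq hcard
  have hone : (1 : Additive V) = d.e := rfl
  have hmul : ∀ a b : Additive V, a * b = d.mul a b := fun _ _ => rfl
  refine ⟨fun x => (g x).toMul, fun k => g.symm (d.r k d.e), ?_, ?_, ?_, ?_, ?_, ?_⟩
  · exact Additive.toMul.bijective.comp g.bijective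
  · intro x y
    show (g (x + y)).toMul = (g x).toMul * (g y).toMul
    rw [map_add]
    rfl
  · show (g 1).toMul = d.v₀
    rw [map_one, hone]
    rfl
  · intro k x
    show (g (g.symm (d.r k d.e) * x)).toMul = d.ρ k (g x).toMul
    rw [map_mul, RingEquiv.apply_symm_apply, hmul, d.r_e_mul]
    rfl
  · intro k k' h
    have := g.symm.injective h
    exact d.r_e_inj this
  · intro y hy
    have hgy : g y ≠ 0 := by
      intro h
      exact hy ((map_eq_zero_iff g g.injective).mp h)
    obtain ⟨k, hk⟩ := d.exists_r_e hgy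
    refine ⟨k, ?_⟩
    show g.symm (d.r k d.e) = y
    rw [hk]
    exact g.symm_apply_apply y

end Cfsg.Agent.Lib.Helper37_KLine
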