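import Mathlib
import Cfsg.Agent.Lib.Helper37_KLine

set_option autoImplicit false

/-!
# Coordinates on a Suzuki 2-group of order `q²`

For a Suzuki 2-group `P` with `|P| = |Z(P)|²` we construct coordinates
`π : P → F` (kernel `Z(P)`), `ε : F → Z(P)` on a finite field `F` of order `|Z(P)|`,
equivariant for the cyclic group `K` acting through multiplications.
-/

namespace Cfsg.Agent.Lib.Helper37_TypeASetup

open Cfsg.Agent.Lib.Helper37_KLine

section general

variable {P : Type*} [Group P]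

lemma aut_mem_center (f : MulAut P) {z : P} (hz : z ∈ Subgroup.center P) :
    f z ∈ Subgroup.center P := by
  rw [Subgroup.mem_center_iff] at hz ⊢
  intro g
  have h1 := hz (f.symm g)
  calc g * f z = f (f.symm g) * f z := by rw [MulEquiv.apply_symm_apply]
    _ = f (f.symm g * z) := (map_mul f _ _).symm
    _ = f (z * f.symm g) := by rw [h1]
    _ = f z * g := by rw [map_mul, MulEquiv.apply_symm_apply]

/-- in a 2-group every nonidentity element has a power which is an involution -/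
lemma exists_pow_involution (h2 : IsPGroup 2 P) {y : P} (hy : y ≠ 1) :
    ∃ m : ℕ, y ^ m ≠ 1 ∧ y ^ m * y ^ m = 1 := by
  classical
  have hex : ∃ n, y ^ 2 ^ n = 1 := h2 y
  have hn₀ : y ^ 2 ^ (Nat.find hex) = 1 := Nat.find_spec hex
  have hpos : Nat.find hex ≠ 0 := by
    intro h0
    rw [h0, pow_zero, pow_one] at hn₀
    exact hy hn₀
  obtain ⟨m, hm⟩ := Nat.exists_eq_succ_of_ne_zero hpos
  refine ⟨2 ^ m, ?_, ?_⟩
  · intro h
    have := Nat.find_min' hex h
    omega
  · rw [← pow_add, ← two_mul, ← pow_succ']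
    rw [hm] at hn₀
    exact hn₀

/-- the induced action on the central quotient -/
def rhoV (k : MulAut P) : P ⧸ Subgroup.center P →* P ⧸ Subgroup.center P :=
  QuotientGroup.map _ _ k.toMonoidHom (Subgroup.characteristic_iff_le_comap.mp inferInstance k)

lemma rhoV_mk (k : MulAut P) (p : P) :
    rhoV k (p : P ⧸ Subgroup.center P) = ((k p : P) : P ⧸ Subgroup.center P) := rfl

lemma rhoV_one (v : P ⧸ Subgroup.center P) : rhoV (1 : MulAut P) v = v := by
  induction v using QuotientGroup.induction_on with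
  | H p => rw [rhoV_mk]; rfl

lemma rhoV_mul (k k' : MulAut P) (v : P ⧸ Subgroup.center P) :
    rhoV (k * k') v = rhoV k (rhoV k' v) := by
  induction v using QuotientGroup.induction_on with
  | H p => rw [rhoV_mk, rhoV_mk, rhoV_mk]; rfl

lemma rhoV_inv_cancel (k : MulAut P) (v : P ⧸ Subgroup.center P) :
    rhoV k⁻¹ (rhoV k v) = v := by
  rw [← rhoV_mul, inv_mul_cancel, rhoV_one]

lemma rhoV_cancel_inv (k : MulAut P) (v : P ⧸ Subgroup.center P) :
    rhoV k (rhoV k⁻¹ v) = v := by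
  rw [← rhoV_mul, mul_inv_cancel, rhoV_one]

lemma rhoV_ne_one (k : MulAut P) {v : P ⧸ Subgroup.center P} (hv : v ≠ 1) : rhoV k v ≠ 1 := by
  intro h1
  apply hv
  have := congrArg (rhoV k⁻¹) h1
  rwa [rhoV_inv_cancel, map_one] at this

/-- the induced action on the center -/
def rhoE (k : MulAut P) (z : Subgroup.center P) : Subgroup.center P :=
  ⟨k z.1, aut_mem_center k z.2⟩

end general

/-- The hypotheses on a Suzuki 2-group of order `q²` (after Higman's first theorem). -/
structure Hyp (P : Type*) [Group P] (K : Subgroup (MulAut P)) : Prop where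
  fin : Finite P
  two : IsPGroup 2 P
  invZ : ∀ x : P, x * x = 1 → x ∈ Subgroup.center P
  Zsq : ∀ z ∈ Subgroup.center P, z * z = 1
  reg : ∀ x y : P, x ≠ 1 → x * x = 1 → y ≠ 1 → y * y = 1 → ∃! k : K, (k : MulAut P) x = y
  kcomm : ∀ a b : K, a * b = b * a
  na : ∃ x y : P, x * y ≠ y * x
  nt : ∃ z ∈ Subgroup.center P, z ≠ 1
  card : Nat.card P = Nat.card (Subgroup.center P) ^ 2

section main

variable {P : Type*} [Group P] {K : Subgroup (MulAut P)} (h : Hyp P K)
include h

lemma fix_eq_one {k : K} (hk : k ≠ 1) {y : P} (hy : (k : MulAut P) y = y) : y = 1 := by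
  by_contra hy1
  obtain ⟨m, hm1, hm2⟩ := exists_pow_involution h.two hy1
  have hfix : (k : MulAut P) (y ^ m) = y ^ m := by rw [map_pow, hy]
  obtain ⟨k₀, -, huniq⟩ := h.reg (y ^ m) (y ^ m) hm1 hm2 hm1 hm2
  have e1 : k = k₀ := huniq k hfix
  have e2 : (1 : K) = k₀ := huniq 1 rfl
  exact hk (e1.trans e2.symm)

lemma coset_fix {k : K} (hk : k ≠ 1) {x : P}
    (hx : x⁻¹ * (k : MulAut P) x ∈ Subgroup.center P) : x ∈ Subgroup.center P := by
  haveI := h.fin
  let μ : Subgroup.center P → Subgroup.center P := fun z =>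
    ⟨z.1 * (k : MulAut P) z.1, (Subgroup.center P).mul_mem z.2 (aut_mem_center _ z.2)⟩
  have hμinj : Function.Injective μ := by
    intro z z' hzz
    have h1 : z.1 * (k : MulAut P) z.1 = z'.1 * (k : MulAut P) z'.1 := congrArg Subtype.val hzz
    have hka : (k : MulAut P) z.1 * (k : MulAut P) z.1 = 1 := h.Zsq _ (aut_mem_center _ z.2)
    have hb : z'.1 * z'.1 = 1 := h.Zsq _ z'.2
    have h3 : z'.1 * z.1 = (k : MulAut P) z'.1 * (k : MulAut P) z.1 := by
      calc z'.1 * z.1 = z'.1 * z.1 * ((k : MulAut P) z.1 * (k : MulAut P) z.1) := by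
            rw [hka, mul_one]
        _ = z'.1 * (z.1 * (k : MulAut P) z.1) * (k : MulAut P) z.1 := by group
        _ = z'.1 * (z'.1 * (k : MulAut P) z'.1) * (k : MulAut P) z.1 := by rw [h1]
        _ = (z'.1 * z'.1) * (k : MulAut P) z'.1 * (k : MulAut P) z.1 := by group
        _ = (k : MulAut P) z'.1 * (k : MulAut P) z.1 := by rw [hb, one_mul]
    have h4 : (k : MulAut P) (z'.1 * z.1) = z'.1 * z.1 := by
      rw [map_mul, ← h3]
    have h5 := fix_eq_one h hk h4
    apply Subtype.ext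
    apply mul_left_cancel (a := z'.1)
    rw [h5, hb]
  have hμsurj : Function.Surjective μ := Finite.injective_iff_surjective.mp hμinj
  obtain ⟨z, hz⟩ := hμsurj ⟨_, hx⟩
  have hz' : z.1 * (k : MulAut P) z.1 = x⁻¹ * (k : MulAut P) x := congrArg Subtype.val hz
  have hkz : (k : MulAut P) z.1 * (k : MulAut P) z.1 = 1 := h.Zsq _ (aut_mem_center _ z.2)
  have hfix : (k : MulAut P) (x * z.1) = x * z.1 := by
    calc (k : MulAut P) (x * z.1) = x * (x⁻¹ * (k : MulAut P) x) * (k : MulAut P) z.1 := by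
          rw [map_mul]; group
      _ = x * (z.1 * (k : MulAut P) z.1) * (k : MulAut P) z.1 := by rw [hz']
      _ = x * z.1 * ((k : MulAut P) z.1 * (k : MulAut P) z.1) := by group
      _ = x * z.1 := by rw [hkz, mul_one]
  have h1 := fix_eq_one h hk hfix
  have h2 : x = z.1⁻¹ := eq_inv_of_mul_eq_one_left h1
  rw [h2]
  exact (Subgroup.center P).inv_mem z.2

lemma card_quot : Nat.card (P ⧸ Subgroup.center P) = Nat.card (Subgroup.center P) := by
  haveI := h.fin
  have h1 := Subgroup.card_eq_card_quotient_mul_card_subgroup (Subgroup.center P)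
  rw [h.card, sq] at h1
  have hpos : 0 < Nat.card (Subgroup.center P) := Nat.card_pos
  exact (Nat.eq_of_mul_eq_mul_right hpos h1).symm

lemma rhoV_free {k : K} {v : P ⧸ Subgroup.center P} (hv : v ≠ 1)
    (hkv : rhoV (k : MulAut P) v = v) : k = 1 := by
  by_contra hk
  induction v using QuotientGroup.induction_on with
  | H x =>
    rw [rhoV_mk] at hkv
    have h1 : x⁻¹ * (k : MulAut P) x ∈ Subgroup.center P := QuotientGroup.eq.mp hkv.symm
    have h2 := coset_fix h hk h1
    exact hv ((QuotientGroup.eq_one_iff x).mpr h2)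

/-- `K` is transitive on the nonidentity elements of the central quotient. -/
lemma exists_rhoV_eq {v₀ : P ⧸ Subgroup.center P} (hv₀ : v₀ ≠ 1) {v : P ⧸ Subgroup.center P}
    (hv : v ≠ 1) : ∃ k : K, rhoV (k : MulAut P) v₀ = v := by
  classical
  haveI := h.fin
  obtain ⟨e₀, he₀, he₀1⟩ := h.nt
  have hex : ∀ z : Subgroup.center P, ∃ w : P ⧸ Subgroup.center P,
      (z = 1 → w = 1) ∧ (z ≠ 1 → ∃ k : K, (k : MulAut P) e₀ = z.1 ∧ w = rhoV (k : MulAut P) v₀) := by
    intro z
    by_cases hz : z = 1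
    · exact ⟨1, fun _ => rfl, fun hz' => absurd hz hz'⟩
    · have hz1 : z.1 ≠ 1 := fun hh => hz (Subtype.ext hh)
      obtain ⟨k, hk, -⟩ := h.reg e₀ z.1 he₀1 (h.Zsq _ he₀) hz1 (h.Zsq _ z.2)
      exact ⟨rhoV (k : MulAut P) v₀, fun hz' => absurd hz' hz, fun _ => ⟨k, hk, rfl⟩⟩
  choose g hg using hex
  have hginj : Function.Injective g := by
    intro z z' hzz
    by_cases hz : z = 1
    · by_cases hz' : z' = 1
      · rw [hz, hz']
      · exfalso
        obtain ⟨k', -, hk'⟩ := (hg z').2 hz'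
        rw [(hg z).1 hz, hk'] at hzz
        exact rhoV_ne_one _ hv₀ hzz.symm
    · by_cases hz' : z' = 1
      · exfalso
        obtain ⟨k, -, hk⟩ := (hg z).2 hz
        rw [(hg z').1 hz', hk] at hzz
        exact rhoV_ne_one _ hv₀ hzz
      · obtain ⟨k, hk1, hk⟩ := (hg z).2 hz
        obtain ⟨k', hk1', hk'⟩ := (hg z').2 hz'
        rw [hk, hk'] at hzz
        have h1 : rhoV ((k'⁻¹ * k : K) : MulAut P) v₀ = v₀ := by
          have : ((k'⁻¹ * k : K) : MulAut P) = (k' : MulAut P)⁻¹ * (k : MulAut P) := rfl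
          rw [this, rhoV_mul, hzz, rhoV_inv_cancel]
        have h2 := rhoV_free h hv₀ h1
        have h3 : k = k' := by
          calc k = k' * (k'⁻¹ * k) := by group
            _ = k' := by rw [h2, mul_one]
        apply Subtype.ext
        rw [← hk1, ← hk1', h3]
  have hgbij : Function.Bijective g :=
    hginj.bijective_of_nat_card_le (le_of_eq (card_quot h))
  obtain ⟨z, hz⟩ := hgbij.2 v
  have hz1 : z ≠ 1 := by
    intro hh
    exact hv (by rw [← hz]; exact (hg z).1 hh)
  obtain ⟨k, -, hk⟩ := (hg z).2 hz1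
  exact ⟨k, by rw [← hk, hz]⟩

/-- the central quotient is commutative -/
lemma quot_comm (a b : P ⧸ Subgroup.center P) : a * b = b * a := by
  haveI := h.fin
  haveI : Fact (Nat.Prime 2) := ⟨Nat.prime_two⟩
  -- the quotient is nontrivial
  have hnt : Nontrivial (P ⧸ Subgroup.center P) := by
    obtain ⟨x, y, hxy⟩ := h.na
    refine ⟨(x : P ⧸ Subgroup.center P), 1, ?_⟩
    intro hx
    have hxc : x ∈ Subgroup.center P := (QuotientGroup.eq_one_iff x).mp hx
    exact hxy ((Subgroup.mem_center_iff.mp hxc y).symm)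
  have hpV : IsPGroup 2 (P ⧸ Subgroup.center P) := h.two.to_quotient _
  haveI := hpV.center_nontrivial
  obtain ⟨⟨c, hc⟩, hc1⟩ := exists_ne (1 : Subgroup.center (P ⧸ Subgroup.center P))
  have hc1' : c ≠ 1 := fun hh => hc1 (Subtype.ext hh)
  by_cases ha : a = 1
  · rw [ha, one_mul, mul_one]
  obtain ⟨k, hk⟩ := exists_rhoV_eq h hc1' ha
  rw [← hk]
  have hb : b = rhoV (k : MulAut P) (rhoV (k : MulAut P)⁻¹ b) := (rhoV_cancel_inv _ _).symm
  rw [hb, ← map_mul, ← map_mul]
  congr 1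
  exact (Subgroup.mem_center_iff.mp hc _).symm

/-- **Coordinates.** -/
theorem setup_coords (F : Type*) [Field F] [Finite F] [CharP F 2]
    (hF : Nat.card F = Nat.card (Subgroup.center P)) :
    ∃ (π : P → F) (ε : F → P) (Q : F → F) (χV χE : K → F),
      (∀ p p', π (p * p') = π p + π p') ∧ Function.Surjective π ∧
      (∀ y y', ε (y + y') = ε y * ε y') ∧ Function.Injective ε ∧
      (∀ y, ε y ∈ Subgroup.center P) ∧ (∀ p ∈ Subgroup.center P, ∃ y, p = ε y) ∧
      (∀ p, π p = 0 ↔ p ∈ Subgroup.center P) ∧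
      (∀ p, p * p = ε (Q (π p))) ∧
      (∀ (k : K) p, π ((k : MulAut P) p) = χV k * π p) ∧
      (∀ (k : K) y, (k : MulAut P) (ε y) = ε (χE k * y)) ∧
      (∀ l, l ≠ 0 → ∃ k, χV k = l) ∧ Function.Injective χE := by
  classical
  haveI := h.fin
  have hnt : ∃ v₀ : P ⧸ Subgroup.center P, v₀ ≠ 1 := by
    obtain ⟨x, y, hxy⟩ := h.na
    refine ⟨(x : P ⧸ Subgroup.center P), ?_⟩
    intro hx
    have hxc : x ∈ Subgroup.center P := (QuotientGroup.eq_one_iff x).mp hx
    exact hxy ((Subgroup.mem_center_iff.mp hxc y).symm)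
  obtain ⟨v₀, hv₀⟩ := hnt
  let dV : KData (P ⧸ Subgroup.center P) K :=
    { vcomm := quot_comm h
      kcomm := h.kcomm
      ρ := fun k v => rhoV (k : MulAut P) v
      ρ_one := fun a => rhoV_one a
      ρ_mul := fun k k' a => rhoV_mul (k : MulAut P) (k' : MulAut P) a
      ρ_map_mul := fun k a b => map_mul _ a b
      v₀ := v₀
      hv₀ := hv₀
      free := fun k hk => rhoV_free h hv₀ hk
      trans := fun a ha => exists_rhoV_eq h hv₀ ha }
  obtain ⟨e₀, he₀, he₀1⟩ := h.nt
  let dE : KData (Subgroup.center P) K :=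
    { vcomm := fun a b => Subtype.ext (Subgroup.mem_center_iff.mp a.2 b.1).symm
      kcomm := h.kcomm
      ρ := fun k z => rhoE (k : MulAut P) z
      ρ_one := fun a => rfl
      ρ_mul := fun k k' a => rfl
      ρ_map_mul := fun k a b => Subtype.ext (map_mul (k : MulAut P) a.1 b.1)
      v₀ := ⟨e₀, he₀⟩
      hv₀ := fun hh => he₀1 (congrArg Subtype.val hh)
      free := fun k hk => by
        obtain ⟨k₀, -, huniq⟩ := h.reg e₀ e₀ he₀1 (h.Zsq _ he₀) he₀1 (h.Zsq _ he₀)
        have e1 : k = k₀ := huniq k (congrArg Subtype.val hk)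
        have e2 : (1 : K) = k₀ := huniq 1 rfl
        exact e1.trans e2.symm
      trans := fun a ha => by
        have ha1 : a.1 ≠ 1 := fun hh => ha (Subtype.ext hh)
        obtain ⟨k, hk, -⟩ := h.reg e₀ a.1 he₀1 (h.Zsq _ he₀) ha1 (h.Zsq _ a.2)
        exact ⟨k, Subtype.ext hk⟩ }
  obtain ⟨ιV, χV, hVbij, hVadd, -, hVeq, -, hVsurj⟩ :=
    dV.coords F (hF.trans (card_quot h).symm)
  obtain ⟨ιE, χE, hEbij, hEadd, -, hEeq, hEinj, -⟩ := dE.coords F hF
  have hV0 : ιV 0 = 1 := by
    have := hVadd 0 0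
    rw [add_zero] at this
    exact left_eq_mul.mp this
  have hE0 : ιE 0 = 1 := by
    have := hEadd 0 0
    rw [add_zero] at this
    exact left_eq_mul.mp this
  -- the projection
  have hπex : ∀ p : P, ∃ x : F, ιV x = (p : P ⧸ Subgroup.center P) := fun p => hVbij.2 _
  choose π hπ using hπex
  have hπmul : ∀ p p', π (p * p') = π p + π p' := by
    intro p p'
    apply hVbij.1
    rw [hVadd, hπ, hπ, hπ]
    rfl
  have hπsurj : Function.Surjective π := by
    intro x
    obtain ⟨p, hp⟩ := QuotientGroup.mk_surjective (ιV x)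
    refine ⟨p, hVbij.1 ?_⟩
    rw [hπ, hp]
  have hπker : ∀ p, π p = 0 ↔ p ∈ Subgroup.center P := by
    intro p
    rw [← QuotientGroup.eq_one_iff, ← hπ p]
    constructor
    · intro hp
      rw [hp, hV0]
    · intro hp
      apply hVbij.1
      rw [hp, hV0]
  -- the inclusion of the center
  let ε : F → P := fun y => (ιE y : P)
  have hεadd : ∀ y y', ε (y + y') = ε y * ε y' := by
    intro y y'
    show ((ιE (y + y') : Subgroup.center P) : P) = (ιE y : P) * (ιE y' : P)
    rw [hEadd]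
    rfl
  have hεinj : Function.Injective ε := fun y y' hyy => hEbij.1 (Subtype.ext hyy)
  have hεmem : ∀ y, ε y ∈ Subgroup.center P := fun y => (ιE y).2
  have hεsurj : ∀ p ∈ Subgroup.center P, ∃ y, p = ε y := by
    intro p hp
    obtain ⟨y, hy⟩ := hEbij.2 ⟨p, hp⟩
    exact ⟨y, (congrArg Subtype.val hy).symm⟩
  -- squares are central
  have hsqmem : ∀ p : P, p * p ∈ Subgroup.center P := by
    intro p
    rw [← hπker, hπmul]
    exact CharTwo.add_self_eq_zero _
  have hQex : ∀ x : F, ∃ t : F, ∀ p, π p = x → p * p = ε t := by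
    intro x
    obtain ⟨p₀, hp₀⟩ := hπsurj x
    obtain ⟨t, ht⟩ := hεsurj _ (hsqmem p₀)
    refine ⟨t, ?_⟩
    intro p hp
    rw [← ht]
    have h1 : π (p₀⁻¹ * p) = 0 := by
      have h2 := hπmul p₀ (p₀⁻¹ * p)
      rw [mul_inv_cancel_left, hp, hp₀] at h2
      exact (left_eq_add.mp h2)
    have hz : p₀⁻¹ * p ∈ Subgroup.center P := (hπker _).mp h1
    have hzz : (p₀⁻¹ * p) * (p₀⁻¹ * p) = 1 := h.Zsq _ hz
    have hzc : ∀ g, g * (p₀⁻¹ * p) = (p₀⁻¹ * p) * g := Subgroup.mem_center_iff.mp hz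
    calc p * p = p₀ * (p₀⁻¹ * p) * (p₀ * (p₀⁻¹ * p)) := by group
      _ = p₀ * ((p₀⁻¹ * p) * p₀) * (p₀⁻¹ * p) := by group
      _ = p₀ * (p₀ * (p₀⁻¹ * p)) * (p₀⁻¹ * p) := by rw [hzc p₀]
      _ = p₀ * p₀ * ((p₀⁻¹ * p) * (p₀⁻¹ * p)) := by group
      _ = p₀ * p₀ := by rw [hzz, mul_one]
  choose Q hQ using hQex
  refine ⟨π, ε, Q, χV, χE, hπmul, hπsurj, hεadd, hεinj, hεmem, hεsurj, hπker,
    fun p => hQ (π p) p rfl, ?_, ?_, hVsurj, hEinj⟩
  · intro k p
    apply hVbij.1
    rw [hVeq, hπ, hπ]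
    rfl
  · intro k y
    have := hEeq k y
    exact (congrArg Subtype.val this).symm

end main

end Cfsg.Agent.Lib.Helper37_TypeASetup
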