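import Mathlib
import Cfsg.Agent.Lib.Helper37_TypeASetup
import Cfsg.Agent.Lib.Helper37_TypeAField
import Cfsg.Agent.Lib.Helper37_TypeAModel

set_option autoImplicit false

/-!
# Higman's theorem for Suzuki 2-groups of order `q²`: assembly
-/

namespace Cfsg.Agent.Lib.Helper37_TypeAFinal

open Cfsg.Agent.Lib.Helper37_TypeASetup Cfsg.Agent.Lib.Helper37_TypeAField
  Cfsg.Agent.Lib.Helper37_TypeAModel

section grp

variable {P : Type*} [Group P]

/-- the polarisation of the squaring map is the commutator -/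
lemma sq_polar_eq_comm (hc : ∀ p : P, p * p ∈ Subgroup.center P)
    (hs : ∀ p : P, (p * p) * (p * p) = 1) (p p' : P) :
    (p * p') * (p * p') * (p * p) * (p' * p') = p' * p * p'⁻¹ * p⁻¹ := by
  have hC : (p * p') * (p * p') * (p * p) * (p' * p') ∈ Subgroup.center P :=
    Subgroup.mul_mem _ (Subgroup.mul_mem _ (hc _) (hc _)) (hc _)
  have e1 : (p * p') * (p * p') * (p' * p')⁻¹ * (p * p)⁻¹ = p * (p' * p * p'⁻¹ * p⁻¹) * p⁻¹ := by
    group
  have i1 : (p' * p')⁻¹ = p' * p' := inv_eq_of_mul_eq_one_right (hs p')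
  have i2 : (p * p)⁻¹ = p * p := inv_eq_of_mul_eq_one_right (hs p)
  rw [i1, i2] at e1
  have e2 : (p * p') * (p * p') * (p * p) * (p' * p') =
      (p * p') * (p * p') * (p' * p') * (p * p) := by
    rw [mul_assoc, mul_assoc ((p * p') * (p * p'))]
    congr 1
    exact (Subgroup.mem_center_iff.mp (hc p) (p' * p')).symm
  have hcomm := Subgroup.mem_center_iff.mp hC p
  calc (p * p') * (p * p') * (p * p) * (p' * p')
      = p⁻¹ * (p * ((p * p') * (p * p') * (p * p) * (p' * p'))) := by group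
    _ = p⁻¹ * (((p * p') * (p * p') * (p * p) * (p' * p')) * p) := by rw [hcomm]
    _ = p⁻¹ * ((p * (p' * p * p'⁻¹ * p⁻¹) * p⁻¹) * p) := by rw [e2, e1]
    _ = p' * p * p'⁻¹ * p⁻¹ := by group

/-- the polarisation of the squaring map is multiplicative in the first variable -/
lemma sq_polar_mul (hc : ∀ p : P, p * p ∈ Subgroup.center P)
    (hs : ∀ p : P, (p * p) * (p * p) = 1) (p p'' p' : P) :
    ((p * p'') * p') * ((p * p'') * p') * ((p * p'') * (p * p'')) * (p' * p') =
      ((p * p') * (p * p') * (p * p) * (p' * p')) *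
        ((p'' * p') * (p'' * p') * (p'' * p'') * (p' * p')) := by
  have hC : (p'' * p') * (p'' * p') * (p'' * p'') * (p' * p') ∈ Subgroup.center P :=
    Subgroup.mul_mem _ (Subgroup.mul_mem _ (hc _) (hc _)) (hc _)
  rw [sq_polar_eq_comm hc hs p'' p'] at hC
  rw [sq_polar_eq_comm hc hs (p * p'') p', sq_polar_eq_comm hc hs p p',
    sq_polar_eq_comm hc hs p'' p']
  have hcomm := Subgroup.mem_center_iff.mp hC p⁻¹
  calc p' * (p * p'') * p'⁻¹ * (p * p'')⁻¹
      = p' * p * p'⁻¹ * ((p' * p'' * p'⁻¹ * p''⁻¹) * p⁻¹) := by group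
    _ = p' * p * p'⁻¹ * (p⁻¹ * (p' * p'' * p'⁻¹ * p''⁻¹)) := by rw [hcomm]
    _ = (p' * p * p'⁻¹ * p⁻¹) * (p' * p'' * p'⁻¹ * p''⁻¹) := by group

end grp

/-- **Higman's theorem, type A**, over any finite field of the right order. -/
theorem final {P : Type*} [Group P] {K : Subgroup (MulAut P)} (h : Hyp P K)
    (F : Type*) [Field F] [Fintype F] [CharP F 2]
    (hF : Nat.card F = Nat.card (Subgroup.center P)) :
    ∃ φ : F ≃+* F, φ ≠ RingEquiv.refl F ∧ Odd (orderOf φ) ∧
      Nonempty (P ≃* Cfsg.suzukiTypeA F (φ : F →+* F)) := by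
  classical
  haveI := h.fin
  obtain ⟨π, ε, Q, χV, χE, hπmul, hπsurj, hεadd, hεinj, hεmem, hεsurj, hπker, hsq, hπK, hεK,
    hVsurj, hEinj⟩ := setup_coords h F hF
  have hε0 : ε 0 = 1 := by
    have := hεadd 0 0
    rw [add_zero] at this
    exact left_eq_mul.mp this
  have hπ1 : π 1 = 0 := (hπker 1).mpr (Subgroup.one_mem _)
  have hεcent : ∀ y p, ε y * p = p * ε y := fun y p =>
    (Subgroup.mem_center_iff.mp (hεmem y) p).symm
  -- equivariance of `Q`
  have hQK : ∀ k x, Q (χV k * x) = χE k * Q x := by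
    intro k x
    obtain ⟨p, rfl⟩ := hπsurj x
    apply hεinj
    rw [← hεK, ← hsq, ← hπK, ← hsq, map_mul]
  have hQ0 : Q 0 = 0 := by
    apply hεinj
    have := hsq 1
    rw [mul_one, hπ1] at this
    rw [← this, hε0]
  have hQne : ∀ x, Q x = 0 → x = 0 := by
    intro x hx
    obtain ⟨p, rfl⟩ := hπsurj x
    have hpp : p * p = 1 := by rw [hsq, hx, hε0]
    exact (hπker p).mpr (h.invZ p hpp)
  have hc : Q 1 ≠ 0 := fun hh => one_ne_zero (hQne 1 hh)
  have hQχ : ∀ k, Q (χV k) = χE k * Q 1 := by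
    intro k
    have := hQK k 1
    rwa [mul_one] at this
  have hQinj : Function.Injective Q := by
    intro x y hxy
    by_cases hy : y = 0
    · rw [hy, hQ0] at hxy
      rw [hy]
      exact hQne x hxy
    by_cases hx : x = 0
    · rw [hx, hQ0] at hxy
      rw [hx]
      exact (hQne y hxy.symm).symm
    obtain ⟨k, rfl⟩ := hVsurj x hx
    obtain ⟨k', rfl⟩ := hVsurj y hy
    rw [hQχ, hQχ] at hxy
    have := hEinj (mul_right_cancel₀ hc hxy)
    rw [this]
  -- the normalised quadratic map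
  set c := Q 1 with hcdef
  let Q' : F → F := fun x => c⁻¹ * Q x
  have hQ'mul : ∀ l x, Q' (l * x) = Q' l * Q' x := by
    intro l x
    by_cases hl : l = 0
    · show c⁻¹ * Q (l * x) = c⁻¹ * Q l * (c⁻¹ * Q x)
      rw [hl, zero_mul, hQ0]
      ring
    · obtain ⟨k, rfl⟩ := hVsurj l hl
      show c⁻¹ * Q (χV k * x) = c⁻¹ * Q (χV k) * (c⁻¹ * Q x)
      rw [hQK, hQχ]
      field_simp
  have hQ'inj : Function.Injective Q' := by
    intro x y hxy
    apply hQinj
    exact mul_left_cancel₀ (inv_ne_zero hc) hxy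
  -- the polarisation
  have hscen : ∀ p : P, p * p ∈ Subgroup.center P := fun p => by rw [hsq]; exact hεmem _
  have hsinv : ∀ p : P, (p * p) * (p * p) = 1 := fun p => h.Zsq _ (hscen p)
  have hεpolar : ∀ p p', ε (polar Q (π p) (π p')) =
      (p * p') * (p * p') * (p * p) * (p' * p') := by
    intro p p'
    unfold polar
    rw [← hπmul, hεadd, hεadd, ← hsq, ← hsq, ← hsq]
  have hadd : ∀ x x' y, polar Q (x + x') y = polar Q x y + polar Q x' y := by
    intro x x' y
    obtain ⟨p, rfl⟩ := hπsurj x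
    obtain ⟨p'', rfl⟩ := hπsurj x'
    obtain ⟨p', rfl⟩ := hπsurj y
    apply hεinj
    rw [hεadd, ← hπmul, hεpolar, hεpolar, hεpolar]
    exact sq_polar_mul hscen hsinv p p'' p'
  have hpolar' : ∀ x y, polar Q' x y = c⁻¹ * polar Q x y := by
    intro x y
    unfold polar
    show c⁻¹ * Q (x + y) + c⁻¹ * Q x + c⁻¹ * Q y = c⁻¹ * (Q (x + y) + Q x + Q y)
    ring
  have hadd' : ∀ x x' y, polar Q' (x + x') y = polar Q' x y + polar Q' x' y := by
    intro x x' y
    rw [hpolar', hpolar', hpolar', hadd]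
    ring
  have hne' : ∃ x y, polar Q' x y ≠ 0 := by
    obtain ⟨a, b, hab⟩ := h.na
    refine ⟨π b, π a, ?_⟩
    rw [hpolar']
    intro hh
    have h0 : polar Q (π b) (π a) = 0 := by
      rcases mul_eq_zero.mp hh with h1 | h1
      · exact absurd h1 (inv_ne_zero hc)
      · exact h1
    have h1 := hεpolar b a
    rw [h0, hε0, sq_polar_eq_comm hscen hsinv] at h1
    apply hab
    calc a * b = (a * b * a⁻¹ * b⁻¹) * (b * a) := by group
      _ = b * a := by rw [← h1, one_mul]
  obtain ⟨σ, φ, hφ1, hφodd, hQ'σ⟩ := typeA_field Q' hQ'mul hQ'inj hadd' hne'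
  have hQσ : ∀ x, Q x = c * σ (x * φ x) := by
    intro x
    rw [← hQ'σ x]
    show Q x = c * (c⁻¹ * Q x)
    field_simp
  refine ⟨φ, hφ1, hφodd, ?_⟩
  -- the twisted inclusion
  let ε' : F → P := fun y => ε (c * σ y)
  have hiso := model_iso (P := P) (φ : F →+* F) π ε' hπmul hπsurj
    (by
      intro y y'
      show ε (c * σ (y + y')) = ε (c * σ y) * ε (c * σ y')
      rw [map_add, mul_add, hεadd])
    (by
      intro y y' hyy
      have h1 := hεinj hyy
      exact σ.injective (mul_left_cancel₀ hc h1))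
    (fun y p => hεcent _ p)
    (by
      intro p hp
      obtain ⟨y, hy⟩ := hεsurj p ((hπker p).mp hp)
      refine ⟨σ.symm (c⁻¹ * y), ?_⟩
      show p = ε (c * σ (σ.symm (c⁻¹ * y)))
      rw [RingEquiv.apply_symm_apply, hy]
      congr 1
      field_simp)
    (fun y => (hπker _).mpr (hεmem _))
    (by
      intro p
      show p * p = ε (c * σ (π p * (φ : F →+* F) (π p)))
      rw [hsq, hQσ]
      rfl)
  obtain ⟨e⟩ := hiso
  exact ⟨e.symm.trans (modEquiv (φ : F →+* F))⟩

end Cfsg.Agent.Lib.Helper37_TypeAFinal
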