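import Mathlib
import Cfsg.Agent.Lib.Helper21_TIC_D5
import Cfsg.Agent.Lib.Helper73_TIC_E1
import Cfsg.Agent.S0885
import Cfsg.Agent.S1147

/-!
helper21: S4064 package E2: from the Zassenhaus structure, Feit's theorem (S0885) and the Suzuki
structure theorem (S1147) to "`A` has exponent two".
-/

set_option autoImplicit false

namespace Cfsg.Agent.Lib.Helper21_TIC_E2

open Cfsg Cfsg.Agent.Lib.Helper21_TICDefs Cfsg.Agent.Lib.Helper21_StronglyEmbedded
open Cfsg.Agent.Lib.Helper21_TIC_D1 Cfsg.Agent.Lib.Helper21_TIC_D2 Cfsg.Agent.Lib.Helper21_TIC_D3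
open Cfsg.Agent.Lib.Helper21_TIC_D4 Cfsg.Agent.Lib.Helper21_TIC_D5

variable {G : Type*} [Group G]

/-- The elements of `A` of square one. -/
def sqOne {N A : Subgroup G} (hL : LocalData N A) : Subgroup G where
  carrier := {t | t ∈ A ∧ t * t = 1}
  one_mem' := ⟨A.one_mem, by simp⟩
  mul_mem' := by
    rintro s t ⟨hs, hs2⟩ ⟨ht, ht2⟩
    refine ⟨A.mul_mem hs ht, ?_⟩
    have hcomm : s * t = t * s := by
      by_cases ht1 : t = 1
      · subst ht1; simp
      have hot : orderOf t = 2 := orderOf_eq_prime (by rw [pow_two]; exact ht2) ht1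
      have hC := hL.inv_cent t hot (hL.le ht)
      have hsC : s ∈ Subgroup.centralizer ({t} : Set G) := by rw [hC]; exact hs
      rw [Subgroup.mem_centralizer_iff] at hsC
      exact (hsC t rfl).symm
    calc s * t * (s * t) = s * (t * s) * t := by group
      _ = s * (s * t) * t := by rw [hcomm]
      _ = (s * s) * (t * t) := by group
      _ = 1 := by rw [hs2, ht2, one_mul]
  inv_mem' := by
    rintro s ⟨hs, hs2⟩
    refine ⟨A.inv_mem hs, ?_⟩
    have : s⁻¹ = s := by
      rw [inv_eq_iff_mul_eq_one]; exact hs2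
    rw [this]; exact hs2

theorem mem_sqOne {N A : Subgroup G} (hL : LocalData N A) {t : G} :
    t ∈ sqOne hL ↔ t ∈ A ∧ t * t = 1 := Iff.rfl

theorem sqOne_le {N A : Subgroup G} (hL : LocalData N A) : sqOne hL ≤ A := fun _ h => h.1

/-- elements of `sqOne` are central in `A`. -/
theorem sqOne_central {N A : Subgroup G} (hL : LocalData N A) :
    ∀ v ∈ sqOne hL, ∀ s ∈ A, v * s = s * v := by
  rintro v ⟨hv, hv2⟩ s hs
  by_cases hv1 : v = 1
  · subst hv1; simp
  have hov : orderOf v = 2 := orderOf_eq_prime (by rw [pow_two]; exact hv2) hv1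
  have hC := hL.inv_cent v hov (hL.le hv)
  have hsC : s ∈ Subgroup.centralizer ({v} : Set G) := by rw [hC]; exact hs
  rw [Subgroup.mem_centralizer_iff] at hsC
  exact hsC v rfl

theorem card_sqOne [Finite G] {N A : Subgroup G} (hL : LocalData N A) :
    Nat.card (sqOne hL) = A.relIndex N + 1 := by
  classical
  rw [← hL.card_inv]
  have h1 : Nat.card {v : sqOne hL // v ≠ 1} = Nat.card {t : G // orderOf t = 2 ∧ t ∈ N} := by
    refine Nat.card_congr ⟨fun v => ⟨v.1.1, ?_, ?_⟩, fun t => ⟨⟨t.1, ?_, ?_⟩, ?_⟩, ?_, ?_⟩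
    · have hv1 : (v.1 : G) ≠ 1 := fun h => v.2 (Subtype.ext h)
      exact orderOf_eq_prime (by rw [pow_two]; exact v.1.2.2) hv1
    · exact hL.le v.1.2.1
    · have hC := hL.inv_cent t.1 t.2.1 t.2.2
      rw [← hC]
      exact Subgroup.mem_centralizer_iff.mpr (fun h hh => by
        rw [Set.mem_singleton_iff] at hh; rw [hh])
    · exact Cfsg.Agent.Lib.Helper21_StronglyEmbedded.sq_eq_one_of_orderOf_eq_two t.2.1
    · intro h
      have h' : t.1 = 1 := congrArg Subtype.val h
      have := t.2.1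
      rw [h', orderOf_one] at this
      omega
    · intro v; rfl
    · intro t; rfl
  rw [← h1, card_subtype_ne_one']
  have : 0 < Nat.card (sqOne hL) := Nat.card_pos
  omega

theorem stab_inf_eq_twoPt {N : Subgroup G} (u : G) :
    (MulAction.stabilizer G (QuotientGroup.mk 1 : G ⧸ N) ⊓
      MulAction.stabilizer G (QuotientGroup.mk u : G ⧸ N) : Subgroup G) = twoPt N u := by
  ext g
  rw [Subgroup.mem_inf, MulAction.mem_stabilizer_iff, MulAction.mem_stabilizer_iff,
    smul_mk_one_eq_iff, smul_mk_eq_mk_iff']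
  rfl

/-- E2, given simplicity and the Zassenhaus property. -/
theorem elemAb_core [Finite G] {N A : Subgroup G} (hL : LocalData N A)
    (hsimple : IsSimpleGroup G) (hZ : Cfsg.IsZassenhausGroup G (G ⧸ N)) :
    ∀ a ∈ A, a * a = 1 := by
  classical
  have : Fintype (G ⧸ N) := Fintype.ofFinite _
  set e := A.relIndex N with he
  obtain ⟨x, hx⟩ := exists_ne hL
  obtain ⟨u, hu, huN, hxu⟩ := exists_involution_of_ne hL x hx
  have hD := twoPt_props hL u hu huN
  have hab : (QuotientGroup.mk 1 : G ⧸ N) ≠ QuotientGroup.mk u := by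
    rw [← hxu]; exact Ne.symm hx
  have hcardΩ : Fintype.card (G ⧸ N) = Nat.card A + 1 := by
    rw [← Nat.card_eq_fintype_card]; exact card_quotient hL
  have hE : Nat.card ↥(MulAction.stabilizer G (QuotientGroup.mk 1 : G ⧸ N) ⊓
      MulAction.stabilizer G (QuotientGroup.mk u : G ⧸ N) : Subgroup G) = e := by
    rw [stab_inf_eq_twoPt]; exact hD.1
  have hodd : Odd e := by
    rw [he, ← hD.1]; exact hL.se.2.2 u huN
  have hAle : A ≤ MulAction.stabilizer G (QuotientGroup.mk 1 : G ⧸ N) := by
    intro a ha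
    rw [MulAction.mem_stabilizer_iff]
    exact smul_mk_one_eq_iff.mpr (hL.le ha)
  have hAfix : ∀ a ∈ A, a ≠ 1 → ∀ c : G ⧸ N, a • c = c → c = QuotientGroup.mk 1 := by
    intro a ha ha1 c hc
    by_contra hne
    exact ha1 (eq_one_of_smul_eq hL c hne a ha hc)
  have hV := card_sqOne hL
  have hVA : sqOne hL ≤ A := sqOne_le hL
  -- it suffices that `|A| ≤ 2 e + 1`
  have key : Nat.card A ≤ 2 * e + 1 → ∀ a ∈ A, a * a = 1 := by
    intro hle
    obtain ⟨k, hk⟩ := Subgroup.card_dvd_of_le hVA
    rw [hV] at hk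
    have hk1 : k = 1 := by
      have hpos : 0 < Nat.card A := Nat.card_pos
      rcases k with _ | _ | k
      · rw [mul_zero] at hk; omega
      · rfl
      · exfalso
        have : (A.relIndex N + 1) * (k + 1 + 1) ≥ (e + 1) * 2 := by
          rw [← he]; exact Nat.mul_le_mul_left _ (by omega)
        omega
    rw [hk1, mul_one] at hk
    have hEq : sqOne hL = A := Subgroup.eq_of_le_of_card_ge hVA (by rw [hV, hk])
    intro a ha
    rw [← hEq] at ha
    exact ha.2
  rcases Cfsg.Agent.S0885.result hZ hab (Nat.card A) e hcardΩ hE hodd A hAle hcardΩ.symm hAfix with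
    hle | ⟨h2, ⟨a₁, a₂, hna⟩, -⟩
  · apply key; omega
  · -- nonabelian 2-group: impossible
    exfalso
    have hUn : ∀ h ∈ MulAction.stabilizer G (QuotientGroup.mk 1 : G ⧸ N), ∀ a ∈ A,
        h * a * h⁻¹ ∈ A := by
      intro h hh a ha
      rw [MulAction.mem_stabilizer_iff] at hh
      exact hL.conj_mem h (smul_mk_one_eq_iff.mp hh) a ha
    have hreg : ∀ c d : G ⧸ N, c ≠ QuotientGroup.mk 1 → d ≠ QuotientGroup.mk 1 →
        ∃! a : A, (a : G) • c = d := fun c d hc hd => regular_A hL c d hc hd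
    have hna' : ∃ a ∈ A, ∃ b ∈ A, a * b ≠ b * a :=
      ⟨a₁.1, a₁.2, a₂.1, a₂.2, fun h => hna (Subtype.ext h)⟩
    obtain ⟨n, -, -, hn1, -, hn2, -⟩ :=
      Cfsg.Agent.S1147.result hZ hab A hAle hUn hreg h2 hna'
    rw [hE] at hn2
    have hA2 : Nat.card A = (2 ^ n) ^ 2 := by
      have h3 : Nat.card (G ⧸ N) = Nat.card A + 1 := card_quotient hL
      rw [hn1] at h3
      rw [← pow_mul, mul_comm n 2]
      omega
    have hpos : 0 < 2 ^ n := pow_pos (by norm_num) n
    have hVq : Nat.card (sqOne hL) = 2 ^ n := by rw [hV, ← he, hn2]; omega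
    have hDq : Nat.card ↥(twoPt N u) + 1 = 2 ^ n := by rw [hD.1, ← he, hn2]; omega
    have hDN : twoPt N u ≤ N := inf_le_left
    have hab' := Cfsg.Agent.Lib.Helper73_TIC_E1.abelian_of_module A (sqOne hL) (twoPt N u) (2 ^ n)
      hVA (sqOne_central hL) hVq hA2 hDq
      (fun d hd s hs => hL.conj_mem d (hDN hd) s hs)
      (fun d hd v hv => by
        refine ⟨hL.conj_mem d (hDN hd) v hv.1, ?_⟩
        calc d * v * d⁻¹ * (d * v * d⁻¹) = d * (v * v) * d⁻¹ := by group
          _ = 1 := by rw [hv.2]; group)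
      (fun d hd hd1 s hs hcomm => by
        by_contra hs1
        have hdA : d ∈ A := by
          apply hL.cent_le s hs hs1
          rw [Subgroup.mem_centralizer_iff]
          intro h hh
          rw [Set.mem_singleton_iff] at hh
          subst hh
          exact hcomm.symm
        have : d ∈ twoPt N u ⊓ A := ⟨hd, hdA⟩
        rw [hD.2.1, Subgroup.mem_bot] at this
        exact hd1 this)
      (fun x hx d hd c hc hcx => by
        by_cases hx1 : x = 1
        · subst hx1; simp
        have hcC : c ∈ Subgroup.centralizer ({x} : Set G) := by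
          rw [Subgroup.mem_centralizer_iff]
          intro h hh
          rw [Set.mem_singleton_iff] at hh
          subst hh
          exact hcx.symm
        have := hL.cent_normal h2 x hx hx1 d (hDN hd) c hcC
        rw [Subgroup.mem_centralizer_iff] at this
        exact (this x rfl).symm)
    exact hna (Subtype.ext (hab' a₁.1 a₁.2 a₂.1 a₂.2))

end Cfsg.Agent.Lib.Helper21_TIC_E2
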