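import Mathlib
import Cfsg.Agent.Lib.Helper21_TICDefs

/-!
helper51, package S4064-LOC1b (architect helper21, cut by helper69): from the pre-local data at the prime 2
(a nilpotent subgroup `A` containing a Sylow 2-subgroup `S`, with `N = N_G(A)` and `A` a TI-set off `N`)
the normalizer `N` is strongly embedded and all its involutions lie in `S`.
-/

set_option autoImplicit false

namespace Cfsg.Agent.Lib.Helper51_TIC_LOC1b

open Cfsg Cfsg.Agent.Lib.Helper21_TICDefs

variable {G : Type*} [Group G]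

/-- a normal Sylow subgroup of a subgroup `H` contains every `p`-element of `H` -/
lemma mem_of_normal_sylow [Finite G] {p : ℕ} [Fact p.Prime] (S : Sylow p G) (H : Subgroup G)
    (hSH : (S : Subgroup G) ≤ H) (hn : ∀ h ∈ H, ∀ s ∈ S, h * s * h⁻¹ ∈ S)
    (t : G) (ht : t ∈ H) (hpt : IsPGroup p (Subgroup.zpowers t)) : t ∈ S := by
  set S' : Sylow p H := S.subtype hSH with hS'
  have hS'mem : ∀ x : H, x ∈ S' ↔ (x : G) ∈ S := by
    intro x
    have h : x ∈ (S' : Subgroup H) ↔ (x : G) ∈ (S : Subgroup G) := by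
      rw [hS', Sylow.coe_subtype, Subgroup.mem_subgroupOf]
    exact h
  have hnorm : (S' : Subgroup H).Normal := by
    constructor
    intro s hs h
    have hs' : (s : G) ∈ S := (hS'mem s).mp hs
    have := hn h h.2 s hs'
    exact (hS'mem _).mpr (by simpa using this)
  have huniq := Sylow.unique_of_normal S' hnorm
  have hQ : IsPGroup p (Subgroup.zpowers (⟨t, ht⟩ : H)) := by
    intro x
    obtain ⟨y, hy⟩ := x
    obtain ⟨k, rfl⟩ := Subgroup.mem_zpowers_iff.mp hy
    obtain ⟨n, hn'⟩ := hpt ⟨t ^ k, Subgroup.zpow_mem_zpowers t k⟩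
    refine ⟨n, ?_⟩
    apply Subtype.ext
    apply Subtype.ext
    have h1 := congrArg Subtype.val hn'
    simpa using h1
  obtain ⟨P', hP'⟩ := hQ.exists_le_sylow
  have hPS : P' = S' := Subsingleton.elim _ _
  rw [hPS] at hP'
  exact (hS'mem ⟨t, ht⟩).mp (hP' (Subgroup.mem_zpowers _))

theorem loc1b [Finite G] (hF : FitTriv G) (S : Sylow 2 G) (A N : Subgroup G)
    (hS : (S : Subgroup G) ≠ ⊥) (nil : Group.IsNilpotent A) (S_le : (S : Subgroup G) ≤ A)
    (N_eq : N = Subgroup.normalizer (A : Set G))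
    (ti : ∀ g : G, g ∉ N → ∀ a ∈ A, g * a * g⁻¹ ∈ A → a = 1) :
    Cfsg.IsStronglyEmbedded N ∧ ∀ t : G, orderOf t = 2 → t ∈ N → t ∈ S := by
  classical
  have hfact : Fact (Nat.Prime 2) := ⟨Nat.prime_two⟩
  have hAN : A ≤ N := by
    rw [N_eq]
    exact Subgroup.le_normalizer
  -- `S` is normal in `A`
  have hSA : ∀ a ∈ A, ∀ s ∈ S, a * s * a⁻¹ ∈ S := by
    intro a ha s hs
    have hnormal : ((S.subtype S_le : Sylow 2 A) : Subgroup A).Normal :=
      (Group.isNilpotent_of_finite_tfae (G := A)).out 0 3 rfl rfl |>.mp nil 2 hfact _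
    have hs' : (⟨s, S_le hs⟩ : A) ∈ ((S.subtype S_le : Sylow 2 A) : Subgroup A) := by
      rw [Sylow.coe_subtype, Subgroup.mem_subgroupOf]
      exact hs
    have h1 := hnormal.conj_mem _ hs' ⟨a, ha⟩
    rw [Sylow.coe_subtype, Subgroup.mem_subgroupOf] at h1
    have h2 : a * s * a⁻¹ ∈ (S : Subgroup G) := by simpa using h1
    exact h2
  -- conjugates of 2-elements are 2-elements
  have hconjP : ∀ (g s : G), s ∈ S → IsPGroup 2 (Subgroup.zpowers (g * s * g⁻¹)) := by
    intro g s hs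
    rw [IsPGroup.iff_orderOf]
    rintro ⟨x, hx⟩
    obtain ⟨k, rfl⟩ := Subgroup.mem_zpowers_iff.mp hx
    obtain ⟨n, hn⟩ := (IsPGroup.iff_orderOf.mp S.isPGroup') ⟨s ^ k, (S : Subgroup G).zpow_mem hs k⟩
    refine ⟨n, ?_⟩
    rw [Subgroup.orderOf_mk] at hn ⊢
    have h1 : (g * s * g⁻¹) ^ k = g * s ^ k * g⁻¹ := by
      rw [← MulAut.conj_apply, ← map_zpow, MulAut.conj_apply]
    rw [h1, ← MulAut.conj_apply, MulEquiv.orderOf_eq]
    exact hn
  -- `S` is normal in `N`
  have hSN : ∀ n ∈ N, ∀ s ∈ S, n * s * n⁻¹ ∈ S := by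
    intro n hn s hs
    have hnA : n * s * n⁻¹ ∈ A := by
      rw [N_eq] at hn
      exact (hn s).mp (S_le hs)
    exact mem_of_normal_sylow S A S_le hSA _ hnA (hconjP n s hs)
  have hSleN : (S : Subgroup G) ≤ N := S_le.trans hAN
  -- involutions of `N` lie in `S`
  have hinv : ∀ t : G, orderOf t = 2 → t ∈ N → t ∈ S := by
    intro t ht htN
    apply mem_of_normal_sylow S N hSleN hSN t htN
    rw [IsPGroup.iff_orderOf]
    rintro ⟨x, hx⟩
    obtain ⟨k, rfl⟩ := Subgroup.mem_zpowers_iff.mp hx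
    rw [Subgroup.orderOf_mk]
    have hdvd : orderOf (t ^ k) ∣ 2 := by
      rw [← ht]
      exact orderOf_dvd_of_pow_eq_one (by
        rw [← zpow_natCast, ← zpow_mul, mul_comm, zpow_mul, zpow_natCast, pow_orderOf_eq_one, one_zpow])
    rcases (Nat.dvd_prime Nat.prime_two).mp hdvd with h | h
    · exact ⟨0, by rw [h, pow_zero]⟩
    · exact ⟨1, by rw [h, pow_one]⟩
  refine ⟨⟨?_, ?_, ?_⟩, hinv⟩
  · -- `N` is proper
    intro htop
    have hAn : A.Normal := by
      rw [← Subgroup.normalizer_eq_top_iff, ← N_eq, htop]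
    have hA0 : A = ⊥ := hF A hAn nil
    apply hS
    rw [eq_bot_iff, ← hA0]
    exact S_le
  · -- `N` has even order
    have h2S : 2 ∣ Nat.card (S : Subgroup G) := by
      obtain ⟨n, hn⟩ := IsPGroup.iff_card.mp S.isPGroup'
      rw [hn]
      rcases Nat.eq_zero_or_pos n with h0 | h0
      · exfalso
        apply hS
        rw [h0, pow_zero] at hn
        exact Subgroup.card_eq_one.mp hn
      · exact dvd_pow_self 2 (by omega)
    exact even_iff_two_dvd.mpr (h2S.trans (Subgroup.card_dvd_of_le hSleN))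
  · -- intersections with conjugates have odd order
    intro g hg
    rw [← Nat.not_even_iff_odd]
    intro heven
    have h2 : 2 ∣ Nat.card ↥(N ⊓ N.map (MulAut.conj g).toMonoidHom) := even_iff_two_dvd.mp heven
    obtain ⟨⟨t, htm⟩, ht⟩ := exists_prime_orderOf_dvd_card' 2 h2
    rw [Subgroup.orderOf_mk] at ht
    obtain ⟨htN, htc⟩ := htm
    obtain ⟨n, hnN, hnt⟩ := Subgroup.mem_map.mp htc
    have hnt' : g * n * g⁻¹ = t := by
      simpa using hnt
    have hn2 : orderOf n = 2 := by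
      rw [← ht, ← hnt', ← MulAut.conj_apply, MulEquiv.orderOf_eq]
    have hnS := hinv n hn2 hnN
    have htS := hinv t ht htN
    have h1 := ti g hg n (S_le hnS) (by rw [hnt']; exact S_le htS)
    rw [h1, orderOf_one] at hn2
    omega

end Cfsg.Agent.Lib.Helper51_TIC_LOC1b
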