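import Mathlib
import Cfsg.Agent.Lib.Helper21_TICDefs
import Cfsg.Agent.Lib.Helper31_TIC_A
import Cfsg.Agent.Lib.Helper51_TIC_LOC1b
import Cfsg.Agent.Lib.Helper25_CN

/-!
helper21: S4064 package LOC1: the first layer of local data.
-/

set_option autoImplicit false

namespace Cfsg.Agent.Lib.Helper21_TIC_LOC1

open Cfsg Cfsg.Agent.Lib.Helper21_TICDefs Cfsg.Agent.Lib.Helper25_CN
open Cfsg.Agent.Lib.Helper32_Nilpotent

variable {G : Type*} [Group G]

theorem mem_centralizer_singleton {z y : G} :
    y ∈ Subgroup.centralizer ({z} : Set G) ↔ z * y = y * z := by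
  rw [Subgroup.mem_centralizer_iff]
  constructor
  · intro h; exact h z rfl
  · intro h w hw
    rw [Set.mem_singleton_iff] at hw
    subst hw
    exact h

/-- In a nilpotent subgroup, elements killed by coprime exponents commute. -/
theorem commute_in_nilpotent' (C : Subgroup G) (hC : Group.IsNilpotent C) {a b : G} (ha : a ∈ C)
    (hb : b ∈ C) (r s : ℕ) (har : a ^ r = 1) (hbs : b ^ s = 1) (hrs : r.Coprime s) :
    a * b = b * a := by
  have := hC
  have hc : Commute (⟨a, ha⟩ : C) ⟨b, hb⟩ :=
    commute_of_coprime_pow_eq_one C _ _ r s (Subtype.ext (by simpa using har))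
      (Subtype.ext (by simpa using hbs)) hrs
  exact congrArg Subtype.val hc.eq

/-- If all 2-elements of a nilpotent subgroup `C` commute with the involution `z ∈ C`, then `z` is
central in `C`. -/
theorem commute_of_two_elements [Finite G] (C : Subgroup G) (hC : Group.IsNilpotent C) {z : G}
    (hzC : z ∈ C) (hz : orderOf z = 2)
    (h2 : ∀ w ∈ C, (∃ k, w ^ (2 ^ k) = 1) → z * w = w * z) : ∀ y ∈ C, z * y = y * z := by
  intro y hy
  have hpos : orderOf y ≠ 0 := (orderOf_pos y).ne'
  obtain ⟨k, r, hr, hkr⟩ := Nat.exists_eq_two_pow_mul_odd hpos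
  have hcop : (2 ^ k).Coprime r := Nat.Coprime.pow_left k (Nat.coprime_two_left.mpr hr)
  obtain ⟨a, b, hab, ha, hb, -, -⟩ := coprime_decomp y (2 ^ k) r hcop (by rw [← hkr]; exact pow_orderOf_eq_one y)
  have hyaC : y ^ a ∈ C := C.zpow_mem hy a
  have hybC : y ^ b ∈ C := C.zpow_mem hy b
  have h1 : z * y ^ a = y ^ a * z := h2 _ hyaC ⟨k, ha⟩
  have hz2 : z ^ 2 = 1 := by rw [← hz]; exact pow_orderOf_eq_one z
  have h3 : z * y ^ b = y ^ b * z :=
    commute_in_nilpotent' C hC hzC hybC 2 r hz2 hb (Nat.coprime_two_left.mpr hr)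
  rw [hab]
  calc z * (y ^ a * y ^ b) = (z * y ^ a) * y ^ b := by group
    _ = y ^ a * (z * y ^ b) := by rw [h1]; group
    _ = y ^ a * y ^ b * z := by rw [h3]; group

theorem mem_smul_sylow_iff (S : Sylow 2 G) (g q : G) :
    q ∈ (g • S : Sylow 2 G) ↔ g⁻¹ * q * g ∈ S := by
  have h : ((g • S : Sylow 2 G) : Subgroup G) =
      (S : Subgroup G).map (MulAut.conj g).toMonoidHom := rfl
  change q ∈ ((g • S : Sylow 2 G) : Subgroup G) ↔ g⁻¹ * q * g ∈ (S : Subgroup G)
  rw [h]
  constructor
  · rintro ⟨y, hy, rfl⟩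
    have : g⁻¹ * ((MulAut.conj g).toMonoidHom y) * g = y := by
      simp [MulAut.conj_apply, mul_assoc]
    rw [this]; exact hy
  · intro h
    refine ⟨g⁻¹ * q * g, h, ?_⟩
    simp [MulAut.conj_apply, mul_assoc]

/-- LOC1. -/
theorem exists_preLocal [Finite G] [Nontrivial G] (h : TIC G) (hF : FitTriv G) :
    ∃ (S : Sylow 2 G) (A N : Subgroup G), PreLocal S A N := by
  classical
  have hfact : Fact (Nat.Prime 2) := ⟨Nat.prime_two⟩
  have hCN : Cfsg.IsCNGroup G := Cfsg.Agent.Lib.Helper31_TIC_A.TIC_isCN h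
  -- even order
  have heven : Even (Nat.card G) := by
    by_contra hodd
    rw [Nat.not_even_iff_odd] at hodd
    have : (⊤ : Subgroup G) = ⊥ :=
      Cfsg.Agent.Lib.Helper31_TIC_A.odd_normal_eq_bot h hF ⊤ inferInstance
        (by rw [Subgroup.card_top]; exact hodd)
    exact bot_ne_top this.symm
  let S : Sylow 2 G := default
  have hSbot : (S : Subgroup G) ≠ ⊥ := Sylow.ne_bot_of_dvd_card S (even_iff_two_dvd.mp heven)
  -- a central involution
  obtain ⟨z, hz, hzS, hzc⟩ : ∃ z : G, orderOf z = 2 ∧ z ∈ S ∧ ∀ s ∈ S, s * z = z * s := by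
    have : Nontrivial (S : Subgroup G) := (Subgroup.nontrivial_iff_ne_bot _).mpr hSbot
    have hnt : Nontrivial (Subgroup.center (S : Subgroup G)) := S.isPGroup'.center_nontrivial
    have hZp : IsPGroup 2 (Subgroup.center (S : Subgroup G)) := S.isPGroup'.to_subgroup _
    obtain ⟨k, hk⟩ := hZp.exists_card_eq
    have hk0 : k ≠ 0 := by
      rintro rfl
      rw [pow_zero] at hk
      have := (Finite.one_lt_card_iff_nontrivial).mpr hnt
      omega
    have hdvd : 2 ∣ Nat.card (Subgroup.center (S : Subgroup G)) := by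
      rw [hk]; exact dvd_pow_self 2 hk0
    obtain ⟨w, hw⟩ := exists_prime_orderOf_dvd_card' (G := Subgroup.center (S : Subgroup G)) 2 hdvd
    refine ⟨((w : (S : Subgroup G)) : G), ?_, (w : (S : Subgroup G)).2, ?_⟩
    · rw [Subgroup.orderOf_coe, Subgroup.orderOf_coe]; exact hw
    · intro s hs
      have := Subgroup.mem_center_iff.mp w.2 ⟨s, hs⟩
      exact congrArg Subtype.val this
  have hz1 : z ≠ 1 := by
    rintro rfl
    rw [orderOf_one] at hz
    omega
  set A : Subgroup G := Subgroup.centralizer ({z} : Set G) with hA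
  set N : Subgroup G := Subgroup.normalizer (A : Set G) with hN
  have hnil : Group.IsNilpotent A := hCN z hz1
  have hSA : (S : Subgroup G) ≤ A := by
    intro s hs
    rw [hA, mem_centralizer_singleton]
    exact (hzc s hs).symm
  have hti : ∀ g : G, g ∉ N → ∀ a ∈ A, g * a * g⁻¹ ∈ A → a = 1 := h z
  -- 2-elements of `A` lie in `S`
  have hA2 : ∀ a ∈ A, (∃ k, a ^ (2 ^ k) = 1) → a ∈ S := by
    obtain ⟨T, hTA, hT2, hT⟩ := exists_qPart A hnil 2
    have hST : (S : Subgroup G) ≤ T := by
      intro s hs
      obtain ⟨k, hk⟩ := S.isPGroup' ⟨s, hs⟩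
      refine hT s (hSA hs) ⟨k, ?_⟩
      have := congrArg Subtype.val hk
      simpa using this
    have hTS : T = S := S.is_maximal' hT2 hST
    intro a ha hak
    have := hT a ha hak
    rw [hTS] at this
    exact this
  -- the centralizer condition
  have hcent : ∀ a ∈ A, a ≠ 1 → Subgroup.centralizer ({a} : Set G) ≤ A := by
    intro a ha ha1 y hy
    rw [hA, mem_centralizer_singleton]
    set C : Subgroup G := Subgroup.centralizer ({a} : Set G) with hC
    have hCnil : Group.IsNilpotent C := hCN a ha1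
    have hza : z * a = a * z := by
      rw [hA, mem_centralizer_singleton] at ha; exact ha
    have hzC : z ∈ C := by rw [hC, mem_centralizer_singleton]; exact hza.symm
    apply commute_of_two_elements C hCnil hzC hz _ y hy
    intro w hwC hw2
    -- it suffices that `w ∈ S`
    suffices hwS : w ∈ S from (hzc w hwS).symm
    rcases Nat.even_or_odd (orderOf a) with hev | hodd
    · -- even order
      obtain ⟨m, hm⟩ := hev
      have hm' : orderOf a = 2 * m := by rw [hm]; ring
      have hm0 : 0 < m := by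
        have := orderOf_pos a; omega
      set t := a ^ m with ht
      have hto : orderOf t = 2 := by
        rw [ht, orderOf_pow' a hm0.ne', hm', Nat.gcd_eq_right (dvd_mul_left m 2)]
        exact Nat.mul_div_cancel _ hm0
      have htA : t ∈ A := A.pow_mem ha m
      have htS : t ∈ S := hA2 t htA ⟨1, by rw [pow_one, ← hto]; exact pow_orderOf_eq_one t⟩
      have ht1 : t ≠ 1 := by
        intro h1; rw [h1, orderOf_one] at hto; omega
      set C' : Subgroup G := Subgroup.centralizer ({t} : Set G) with hC'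
      have hC'nil : Group.IsNilpotent C' := hCN t ht1
      have hzC' : z ∈ C' := by
        rw [hC', mem_centralizer_singleton]; exact hzc t htS
      have hwC' : w ∈ C' := by
        rw [hC', mem_centralizer_singleton]
        rw [hC, mem_centralizer_singleton] at hwC
        -- w commutes with a, hence with t = a ^ m
        have : Commute a w := hwC
        exact (this.pow_left m).eq
      obtain ⟨T', hT'C, hT'2, hT'⟩ := exists_qPart C' hC'nil 2
      have htC' : t ∈ C' := by rw [hC', mem_centralizer_singleton]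
      have htT' : t ∈ T' := hT' t htC' ⟨1, by rw [pow_one, ← hto]; exact pow_orderOf_eq_one t⟩
      have hwT' : w ∈ T' := hT' w hwC' hw2
      obtain ⟨Q, hQ⟩ := hT'2.exists_le_sylow
      obtain ⟨g, hg⟩ := MulAction.exists_smul_eq G S Q
      have hmemQ : ∀ q : G, q ∈ Q ↔ g⁻¹ * q * g ∈ S := by
        intro q
        rw [← hg]
        exact mem_smul_sylow_iff S g q
      -- `g ∈ N`
      have hgN : g ∈ N := by
        by_contra hgN
        have htQ : t ∈ Q := hQ htT'
        have h1 : g⁻¹ * t * g ∈ A := hSA ((hmemQ t).mp htQ)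
        have h2 : g * (g⁻¹ * t * g) * g⁻¹ ∈ A := by
          have : g * (g⁻¹ * t * g) * g⁻¹ = t := by group
          rw [this]; exact htA
        have := hti g hgN _ h1 h2
        apply ht1
        calc t = g * (g⁻¹ * t * g) * g⁻¹ := by group
          _ = 1 := by rw [this]; group
      have hwQ : w ∈ Q := hQ hwT'
      have hw' : g⁻¹ * w * g ∈ S := (hmemQ w).mp hwQ
      have hwA : w ∈ A := by
        have h1 : g⁻¹ * w * g ∈ A := hSA hw'
        have hgn := (Subgroup.mem_normalizer_iff.mp hgN (g⁻¹ * w * g)).mp h1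
        have : g * (g⁻¹ * w * g) * g⁻¹ = w := by group
        rwa [this] at hgn
      exact hA2 w hwA hw2
    · -- odd order
      have hSC : (S : Subgroup G) ≤ C := by
        intro s hs
        rw [hC, mem_centralizer_singleton]
        obtain ⟨k, hk⟩ := S.isPGroup' ⟨s, hs⟩
        have hk' : s ^ (2 ^ k) = 1 := by
          have := congrArg Subtype.val hk
          simpa using this
        exact commute_in_nilpotent' A hnil ha (hSA hs) (orderOf a) (2 ^ k) (pow_orderOf_eq_one a) hk'
          (Nat.Coprime.pow_right k (Nat.coprime_two_right.mpr hodd))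
      obtain ⟨T, hTC, hT2, hT⟩ := exists_qPart C hCnil 2
      have hST : (S : Subgroup G) ≤ T := by
        intro s hs
        obtain ⟨k, hk⟩ := S.isPGroup' ⟨s, hs⟩
        refine hT s (hSC hs) ⟨k, ?_⟩
        have := congrArg Subtype.val hk
        simpa using this
      have hTS : T = S := S.is_maximal' hT2 hST
      have := hT w hwC hw2
      rw [hTS] at this
      exact this
  obtain ⟨hse, hinv⟩ := Cfsg.Agent.Lib.Helper51_TIC_LOC1b.loc1b hF S A N hSbot hnil hSA rfl hti
  exact ⟨S, A, N, hnil, hSA, rfl, hti, hcent, hse, hinv, z, hz, hzS, rfl⟩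

end Cfsg.Agent.Lib.Helper21_TIC_LOC1
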