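import Mathlib
import Cfsg.Agent.Lib.Helper21_TICDefs
import Cfsg.Agent.Lib.Helper31_TIC_A
import Cfsg.Agent.S0215
import Cfsg.Agent.Lib.Helper21_StronglyEmbedded

/-!
helper21: S4064 package LOC4: the complement has order at least two.
-/

set_option autoImplicit false

namespace Cfsg.Agent.Lib.Helper21_TIC_LOC4

open Cfsg Cfsg.Agent.Lib.Helper21_TICDefs

variable {G : Type*} [Group G]

/-- LOC4. -/
theorem two_le_of_preLocal [Finite G] (h : TIC G) (hF : FitTriv G) {S : Sylow 2 G}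
    {A N : Subgroup G} (hP : PreLocal S A N)
    (hcard : Nat.card {t : G // orderOf t = 2 ∧ t ∈ N} = A.relIndex N) :
    2 ≤ A.relIndex N := by
  by_contra hlt
  have hAN : A ≤ N := by rw [hP.N_eq]; exact Subgroup.le_normalizer
  have hle1 : Nat.card {t : G // orderOf t = 2 ∧ t ∈ N} ≤ 1 := by rw [hcard]; omega
  have hsub := (Finite.card_le_one_iff_subsingleton).mp hle1
  obtain ⟨z, hz, hzS, hzA⟩ := hP.exists_z
  have hzN : z ∈ N := hAN (hP.S_le hzS)
  have huniq : ∀ t : G, orderOf t = 2 → t ∈ N → t = z := by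
    intro t ht htN
    exact congrArg Subtype.val (hsub.elim ⟨t, ht, htN⟩ ⟨z, hz, hzN⟩)
  have hiso : ∀ g : G, g * z * g⁻¹ ∈ S → g * z * g⁻¹ = z := by
    intro g hg
    apply huniq
    · exact Cfsg.Agent.Lib.Helper21_StronglyEmbedded.orderOf_conj_eq_two hz g
    · exact hAN (hP.S_le hg)
  obtain ⟨N₀, hN₀n, hN₀odd, hN₀⟩ := Cfsg.Agent.S0215.result S z hz hzS hiso
  have hN₀bot : N₀ = ⊥ := Cfsg.Agent.Lib.Helper31_TIC_A.odd_normal_eq_bot h hF N₀ hN₀n hN₀odd
  have hzc : z ∈ Subgroup.center G := by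
    rw [Subgroup.mem_center_iff]
    intro g
    have := hN₀ g
    rw [hN₀bot, Subgroup.mem_bot] at this
    -- z g z⁻¹ g⁻¹ = 1
    have h1 : z * g * z⁻¹ = g := by
      have := mul_inv_eq_one.mp this
      exact this
    calc g * z = (z * g * z⁻¹) * z := by rw [h1]
      _ = z * g := by group
  have hnil : Group.IsNilpotent (Subgroup.center G) :=
    ⟨1, by rw [Subgroup.upperCentralSeries_one]; exact Subgroup.center_eq_top⟩
  have hcb : Subgroup.center G = ⊥ := hF (Subgroup.center G) inferInstance hnil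
  rw [hcb, Subgroup.mem_bot] at hzc
  rw [hzc, orderOf_one] at hz
  omega

end Cfsg.Agent.Lib.Helper21_TIC_LOC4
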