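import Mathlib
import Cfsg.Agent.Lib.Helper21_TICDefs
import Cfsg.Agent.Lib.Helper31_TIC_A
import Cfsg.Agent.Lib.Helper1_Cores
import Cfsg.Agent.Lib.Helper32_PGroup

/-!
# S4064-B1 (helper25, for helper21): the Fitting subgroup of a non-nilpotent TIC-group with `F(G) ≠ 1`
is a normal Hall subgroup with a complement acting fixed-point-freely.
-/

set_option autoImplicit false

namespace Cfsg.Agent.Lib.Helper25_TIC_B1

open Cfsg Cfsg.Agent.Lib.Helper21_TICDefs Cfsg.Agent.Lib.Helper31_TIC_A

variable {G : Type*} [Group G]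

theorem fitting_split [Finite G] (h : TIC G) (hnn : ¬ Group.IsNilpotent G) (hF : ¬ FitTriv G) :
    ∃ F E : Subgroup G, F.Normal ∧ Group.IsNilpotent F ∧ F ≠ ⊥ ∧ Subgroup.IsComplement' F E ∧
      E ≠ ⊥ ∧ ∀ e ∈ E, e ≠ 1 → F ⊓ Subgroup.centralizer ({e} : Set G) = ⊥ := by
  classical
  set F := Cfsg.fittingSubgroup G with hFdef
  have hFn : F.Normal := Cfsg.Agent.Lib.Helper1_Cores.fittingSubgroup_normal
  have hFnil : Group.IsNilpotent F := Cfsg.Agent.Lib.Helper1_Cores.fittingSubgroup_isNilpotent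
  have hF1 : F ≠ ⊥ := by
    unfold FitTriv at hF
    push Not at hF
    obtain ⟨N, hNn, hNnil, hN1⟩ := hF
    intro hb
    apply hN1
    have := Cfsg.Agent.Lib.Helper1_Cores.le_fittingSubgroup hNn hNnil
    rw [← hFdef, hb] at this
    exact le_bot_iff.mp this
  -- the centre of `F`, as a subgroup of `G`
  set Z : Subgroup G := (Subgroup.center F).map F.subtype with hZ
  have : Nontrivial F := (Subgroup.nontrivial_iff_ne_bot _).mpr hF1
  have hZ1 : Z ≠ ⊥ := by
    intro hb
    have := hFnil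
    apply Group.IsNilpotent.center_ne_bot (G := F)
    rw [hZ] at hb
    exact (Subgroup.map_eq_bot_iff_of_injective _ F.subtype_injective).mp hb
  have hZn : Z.Normal := by
    refine ⟨fun z hz g => ?_⟩
    obtain ⟨⟨z0, hz0F⟩, hz0, rfl⟩ := hz
    have hmem : g * z0 * g⁻¹ ∈ F := hFn.conj_mem z0 hz0F g
    refine ⟨⟨g * z0 * g⁻¹, hmem⟩, ?_, rfl⟩
    have hz0' : (⟨z0, hz0F⟩ : F) ∈ Subgroup.center F := hz0
    show (⟨g * z0 * g⁻¹, hmem⟩ : F) ∈ Subgroup.center F
    rw [Subgroup.mem_center_iff] at hz0' ⊢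
    rintro ⟨y, hy⟩
    have hy' : g⁻¹ * y * g ∈ F := by
      have := hFn.conj_mem y hy g⁻¹
      rwa [inv_inv] at this
    have := hz0' ⟨g⁻¹ * y * g, hy'⟩
    have e := congrArg Subtype.val this
    simp only [Subgroup.coe_mul] at e
    apply Subtype.ext
    simp only [Subgroup.coe_mul]
    calc y * (g * z0 * g⁻¹) = g * ((g⁻¹ * y * g) * z0) * g⁻¹ := by group
      _ = g * (z0 * (g⁻¹ * y * g)) * g⁻¹ := by rw [e]
      _ = g * z0 * g⁻¹ * y := by group
  -- centralizers of nonidentity elements of `F` lie in `F`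
  have key : ∀ u ∈ F, u ≠ 1 → Subgroup.centralizer ({u} : Set G) ≤ F := by
    intro u hu hu1
    have hZle : Z ≤ Subgroup.centralizer ({u} : Set G) := by
      rintro _ ⟨z, hz, rfl⟩
      rw [Subgroup.mem_centralizer_singleton_iff]
      have := Subgroup.mem_center_iff.mp hz ⟨u, hu⟩
      exact (congrArg Subtype.val this).symm
    have hCn := TIC_normal_of_le h u Z hZn hZ1 hZle
    have hCnil := TIC_isCN h u hu1
    exact Cfsg.Agent.Lib.Helper1_Cores.le_fittingSubgroup hCn hCnil
  -- `F` is a Hall subgroup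
  have hcop : (Nat.card F).Coprime F.index := by
    apply Nat.Coprime.symm
    apply Nat.coprime_of_dvd
    intro p hp hpI hpF
    have : Fact p.Prime := ⟨hp⟩
    obtain ⟨y, hy⟩ := exists_prime_orderOf_dvd_card' (G := F) p hpF
    have hy1 : y ≠ 1 := by
      intro h1
      rw [h1, orderOf_one] at hy
      exact hp.one_lt.ne hy
    have hyp : IsPGroup p (Subgroup.zpowers (y : G)) := by
      apply IsPGroup.of_card (n := 1)
      rw [Nat.card_zpowers, pow_one, Subgroup.orderOf_coe, hy]
    obtain ⟨P, hP⟩ := hyp.exists_le_sylow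
    have hyP : (y : G) ∈ (P : Subgroup G) := hP (Subgroup.mem_zpowers _)
    have hNn : (F.subgroupOf (P : Subgroup G)).Normal := inferInstance
    have hN1 : F.subgroupOf (P : Subgroup G) ≠ ⊥ := by
      intro hb
      have : (⟨(y : G), hyP⟩ : (P : Subgroup G)) ∈ F.subgroupOf (P : Subgroup G) :=
        Subgroup.mem_subgroupOf.mpr y.2
      rw [hb, Subgroup.mem_bot] at this
      exact hy1 (Subtype.ext (congrArg (fun t : (P : Subgroup G) => (t : G)) this))
    obtain ⟨z, hzN, hzc, hz1⟩ :=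
      Cfsg.Agent.Lib.Helper32_PGroup.exists_mem_center_of_normal P.isPGroup' _ hN1
    have hzF : (z : G) ∈ F := Subgroup.mem_subgroupOf.mp hzN
    have hz1' : (z : G) ≠ 1 := fun h1 => hz1 (Subtype.ext h1)
    have hPle : (P : Subgroup G) ≤ F := by
      refine le_trans ?_ (key _ hzF hz1')
      intro x hx
      rw [Subgroup.mem_centralizer_singleton_iff]
      have := Subgroup.mem_center_iff.mp hzc ⟨x, hx⟩
      exact (congrArg Subtype.val this)
    have hdvd : F.index ∣ (P : Subgroup G).index := Subgroup.index_dvd_of_le hPle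
    exact P.not_dvd_index (hpI.trans hdvd)
  obtain ⟨E, hE⟩ := Subgroup.exists_right_complement'_of_coprime hcop
  refine ⟨F, E, hFn, hFnil, hF1, hE, ?_, ?_⟩
  · intro hb
    rw [hb, Subgroup.isComplement'_bot_right] at hE
    apply hnn
    rw [hE] at hFnil
    have := hFnil
    exact Group.nilpotent_of_mulEquiv (Subgroup.topEquiv (G := G))
  · intro e he he1
    rw [eq_bot_iff]
    intro u hu
    rw [Subgroup.mem_bot]
    by_contra hu1
    have heF : e ∈ F := by
      apply key u hu.1 hu1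
      rw [Subgroup.mem_centralizer_singleton_iff]
      have := Subgroup.mem_centralizer_singleton_iff.mp hu.2
      exact this.symm
    have : e ∈ F ⊓ E := ⟨heF, he⟩
    rw [hE.disjoint.eq_bot, Subgroup.mem_bot] at this
    exact he1 this

end Cfsg.Agent.Lib.Helper25_TIC_B1
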