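import Mathlib
import Cfsg.Agent.Lib.Helper21_TICDefs

/-!
S4064 package B2 (architect helper21): generalized quaternion groups of order at least 16 have an
element centralizer that is not a TI-subset.
-/

set_option autoImplicit false

namespace Cfsg.Agent.Lib.Helper86_TIC_B2

open Cfsg Cfsg.Agent.Lib.Helper21_TICDefs

theorem quaternion_not_TIC (n : ℕ) (hn : 2 ≤ n) : ¬ TIC (QuaternionGroup (2 ^ n)) := by
  intro h
  have hk4 : 4 ≤ 2 ^ n := by
    calc 4 = 2 ^ 2 := rfl
      _ ≤ 2 ^ n := Nat.pow_le_pow_right (by norm_num) hn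
  generalize 2 ^ n = k at h hk4
  have hx := h (QuaternionGroup.xa (0 : ZMod (2 * k)))
  have hg : QuaternionGroup.a (1 : ZMod (2 * k)) ∉ Subgroup.normalizer
      ((Subgroup.centralizer {QuaternionGroup.xa (0 : ZMod (2 * k))} :
        Subgroup (QuaternionGroup k)) : Set (QuaternionGroup k)) := by
    intro hmem
    rw [Subgroup.mem_normalizer_iff] at hmem
    have h1 := (hmem (QuaternionGroup.xa 0)).1 (by
      rw [Subgroup.mem_centralizer_singleton_iff])
    rw [Subgroup.mem_centralizer_singleton_iff] at h1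
    have e1 : (QuaternionGroup.a (1 : ZMod (2 * k)))⁻¹ = QuaternionGroup.a (-1) := by
      rw [inv_eq_iff_mul_eq_one, QuaternionGroup.a_mul_a]
      simp
    rw [e1, QuaternionGroup.a_mul_xa, QuaternionGroup.xa_mul_a, QuaternionGroup.xa_mul_xa,
      QuaternionGroup.xa_mul_xa] at h1
    have h2 : ((k : ZMod (2 * k)) + 0 - (0 - 1 + -1)) = (k : ZMod (2 * k)) + (0 - 1 + -1) - 0 :=
      QuaternionGroup.a.inj h1
    have h3 : ((4 : ℕ) : ZMod (2 * k)) = 0 := by
      have : (4 : ZMod (2 * k)) = 0 := by linear_combination h2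
      exact_mod_cast this
    rw [ZMod.natCast_eq_zero_iff] at h3
    have := Nat.le_of_dvd (by norm_num) h3
    omega
  have h1 := hx _ hg (QuaternionGroup.a (k : ZMod (2 * k))) (by
    change QuaternionGroup.a (k : ZMod (2 * k)) ∈ Subgroup.centralizer _
    rw [Subgroup.mem_centralizer_singleton_iff, QuaternionGroup.a_mul_xa, QuaternionGroup.xa_mul_a]
    congr 1
    have : ((2 * k : ℕ) : ZMod (2 * k)) = 0 := ZMod.natCast_self _
    push_cast at this
    linear_combination -this) (by
    have e1 : (QuaternionGroup.a (1 : ZMod (2 * k)))⁻¹ = QuaternionGroup.a (-1) := by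
      rw [inv_eq_iff_mul_eq_one, QuaternionGroup.a_mul_a]
      simp
    change _ ∈ Subgroup.centralizer _
    rw [e1, QuaternionGroup.a_mul_a, QuaternionGroup.a_mul_a, Subgroup.mem_centralizer_singleton_iff,
      QuaternionGroup.a_mul_xa, QuaternionGroup.xa_mul_a]
    congr 1
    have : ((2 * k : ℕ) : ZMod (2 * k)) = 0 := ZMod.natCast_self _
    push_cast at this
    linear_combination -this)
  have h2 : (k : ZMod (2 * k)) = 0 := by
    have : QuaternionGroup.a (k : ZMod (2 * k)) = QuaternionGroup.a 0 := h1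
    exact QuaternionGroup.a.inj this
  rw [ZMod.natCast_eq_zero_iff] at h2
  have := Nat.le_of_dvd (by omega) h2
  omega

end Cfsg.Agent.Lib.Helper86_TIC_B2
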