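import Mathlib
import Cfsg.Agent.Lib.Helper21_TICDefs

/-!
S4064 package B3 (architect helper21): a group generated by commuting subgroups `C` (cyclic of odd
order) and `Q` (quaternion of order `4` or `8`) is cyclic or the direct product of a cyclic group of
odd order with the quaternion group of order eight.
-/

set_option autoImplicit false

namespace Cfsg.Agent.Lib.Helper86_TIC_B3

open Cfsg Cfsg.Agent.Lib.Helper21_TICDefs

variable {G : Type*} [Group G]

/-- the join of two commuting subgroups of coprime orders is their direct product -/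
theorem sup_equiv_prod [Finite G] (C Q : Subgroup G)
    (hcomm : ∀ a ∈ C, ∀ b ∈ Q, a * b = b * a) (hcop : (Nat.card C).Coprime (Nat.card Q)) :
    Nonempty (↥(C ⊔ Q) ≃* C × Q) := by
  have hc : ∀ (a : C) (b : Q), Commute (C.subtype a) (Q.subtype b) :=
    fun a b => hcomm a.1 a.2 b.1 b.2
  set f : C × Q →* G := MonoidHom.noncommCoprod C.subtype Q.subtype hc with hf
  have hinj : Function.Injective f := by
    rw [hf, MonoidHom.noncommCoprod_injective]
    refine ⟨C.subtype_injective, Q.subtype_injective, ?_⟩
    rw [Subgroup.range_subtype, Subgroup.range_subtype]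
    exact Subgroup.disjoint_of_coprime_natCard hcop
  have hrange : f.range = C ⊔ Q := by
    rw [hf, MonoidHom.noncommCoprod_range, Subgroup.range_subtype, Subgroup.range_subtype]
  exact ⟨((MonoidHom.ofInjective hinj).trans (MulEquiv.subgroupCongr hrange)).symm⟩

theorem iso_of_structure [Finite G] (E C Q : Subgroup G) (hsup : C ⊔ Q = E)
    (hcomm : ∀ a ∈ C, ∀ b ∈ Q, a * b = b * a) (hC : IsCyclic C) (hodd : Odd (Nat.card C))
    (n : ℕ) (hn : n ≤ 1) (e : Q ≃* QuaternionGroup (2 ^ n)) :
    IsCyclic E ∨ ∃ m : ℕ, Odd m ∧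
      Nonempty (E ≃* Multiplicative (ZMod m) × QuaternionGroup 2) := by
  have hQcard : Nat.card Q = 4 * 2 ^ n := by
    rw [Nat.card_congr e.toEquiv, Nat.card_eq_fintype_card]
    have : NeZero (2 ^ n) := ⟨by positivity⟩
    exact QuaternionGroup.card
  have hcop : (Nat.card C).Coprime (Nat.card Q) := by
    rw [hQcard]
    have h2 : (Nat.card C).Coprime 2 := Nat.Coprime.symm (Nat.coprime_two_left.2 hodd)
    have e4 : 4 * 2 ^ n = 2 ^ (n + 2) := by ring
    rw [e4]
    exact Nat.Coprime.pow_right _ h2
  obtain ⟨φ⟩ := sup_equiv_prod C Q hcomm hcop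
  rw [hsup] at φ
  interval_cases n
  · -- `Q` is cyclic of order four
    left
    have hQc : IsCyclic Q := by
      have : IsCyclic (QuaternionGroup (2 ^ 0)) := QuaternionGroup.quaternionGroup_one_isCyclic
      exact isCyclic_of_surjective e.symm.toMonoidHom e.symm.surjective
    have : IsCyclic (C × Q) := Group.isCyclic_prod_iff.2 ⟨hC, hQc, hcop⟩
    exact isCyclic_of_surjective φ.symm.toMonoidHom φ.symm.surjective
  · right
    refine ⟨Nat.card C, hodd, ⟨φ.trans (MulEquiv.prodCongr (zmodCyclicMulEquiv hC).symm ?_)⟩⟩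
    exact e

end Cfsg.Agent.Lib.Helper86_TIC_B3
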