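import Mathlib
import Cfsg.Agent.Lib.Helper21_TICDefs
import Cfsg.Agent.Lib.Helper31_TIC_A
import Cfsg.Agent.Lib.Helper25_TIC_B1
import Cfsg.Agent.Lib.Helper86_TIC_B2
import Cfsg.Agent.Lib.Helper86_TIC_B3
import Cfsg.Agent.Lib.Helper25_CNFrob
import Cfsg.Agent.Lib.Helper25_CNSolv
import Cfsg.Agent.S1476
import Cfsg.Agent.S0039

/-!
# S4064-B4 (helper25, for helper21): the case `F(G) ≠ 1` of the TIC theorem: a non-nilpotent TIC-group
with nontrivial Fitting subgroup has a Frobenius complement which is cyclic or `Z_m × Q_8`.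
-/

set_option autoImplicit false

namespace Cfsg.Agent.Lib.Helper25_TIC_B4

open Cfsg Cfsg.Agent.Lib.Helper21_TICDefs Cfsg.Agent.Lib.Helper31_TIC_A

variable {G : Type*} [Group G]

theorem fitting_case [Finite G] (h : TIC G) (hnn : ¬ Group.IsNilpotent G) (hF : ¬ FitTriv G) :
    ∃ H : Subgroup G, Cfsg.IsFrobeniusComplement H ∧
      (IsCyclic H ∨ ∃ m : ℕ, Odd m ∧
        Nonempty (H ≃* Multiplicative (ZMod m) × QuaternionGroup 2)) := by
  obtain ⟨F, E, hFn, hFnil, hF1, hc, hE1, hfpf⟩ :=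
    Cfsg.Agent.Lib.Helper25_TIC_B1.fitting_split h hnn hF
  have hfrob : Cfsg.IsFrobeniusComplement E := (Cfsg.Agent.S0039.result F E hc hF1 hE1).mpr hfpf
  refine ⟨E, hfrob, ?_⟩
  have hC : Cfsg.Agent.Lib.Helper25_CNFrob.PropC E :=
    Cfsg.Agent.S1476.propC_of_fpf_nilpotent F E hFnil hF1 hfpf
  have hCN : Cfsg.IsCNGroup E := TIC_isCN (TIC_subgroup h E)
  have hnil : Group.IsNilpotent E := Cfsg.Agent.Lib.Helper25_CNFrob.isNilpotent_of_CN_PropC hCN hC
  rcases Cfsg.Agent.Lib.Helper25_CNSolv.structure_subgroup E hnil hC with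
    hcyc | ⟨C, Q, hsup, hcomm, hCcyc, hodd, n, ⟨e⟩⟩
  · left; exact hcyc
  · have hn : n ≤ 1 := by
      by_contra hn
      push Not at hn
      exact Cfsg.Agent.Lib.Helper86_TIC_B2.quaternion_not_TIC n hn
        (TIC_of_mulEquiv e (TIC_subgroup h Q))
    exact Cfsg.Agent.Lib.Helper86_TIC_B3.iso_of_structure E C Q hsup hcomm hCcyc hodd n hn e

end Cfsg.Agent.Lib.Helper25_TIC_B4
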