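import Mathlib
import Cfsg.Agent.Lib.Helper21_TICDefs
import Cfsg.Agent.S1224

/-!
helper35: package S4064-D7 (`zassenhaus_of_localData`) of helper21's S4064 market, in the form
`zassenhaus_aux` with the results of D1, D5, D6 as explicit hypotheses.
-/

set_option autoImplicit false

namespace Cfsg.Agent.Lib.Helper35_TIC_D7aux

open Cfsg Cfsg.Agent.Lib.Helper21_TICDefs

variable {G : Type*} [Group G]

/-- an involution outside `N` -/
theorem exists_inv_not_mem [Finite G] {N A : Subgroup G} (hL : LocalData N A) :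
    ∃ u : G, orderOf u = 2 ∧ u ∉ N := by
  classical
  obtain ⟨g0, hg0⟩ : ∃ g0 : G, g0 ∉ N := by
    by_contra hcon
    push Not at hcon
    exact hL.se.1 (eq_top_iff.mpr fun x _ => hcon x)
  have hne : (QuotientGroup.mk 1 : G ⧸ N) ≠ (QuotientGroup.mk g0 : G ⧸ N) := by
    intro h
    rw [QuotientGroup.eq] at h
    apply hg0
    simpa using h
  have hcard := Cfsg.Agent.S1224.result N hL.se _ _ hne
  rw [hL.card_inv] at hcard
  have hpos : 0 < Nat.card {i : G // orderOf i = 2 ∧
      i • (QuotientGroup.mk 1 : G ⧸ N) = (QuotientGroup.mk g0 : G ⧸ N)} := by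
    rw [hcard]
    have := hL.two_le
    omega
  have : Finite {i : G // orderOf i = 2 ∧
      i • (QuotientGroup.mk 1 : G ⧸ N) = (QuotientGroup.mk g0 : G ⧸ N)} := Subtype.finite
  obtain ⟨⟨u, hu2, hu⟩⟩ := Finite.card_pos_iff.mp hpos
  refine ⟨u, hu2, fun huN => hne ?_⟩
  rw [← hu]
  show (QuotientGroup.mk 1 : G ⧸ N) = QuotientGroup.mk (u * 1)
  rw [QuotientGroup.eq]
  simpa using huN

theorem zassenhaus_aux [Finite G] {N A : Subgroup G} (hL : LocalData N A)
    (hD1 : ∀ u : G, orderOf u = 2 → u ∉ N → Nat.card ↥(twoPt N u) = A.relIndex N)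
    (hD5 : MulAction.IsMultiplyPretransitive G (G ⧸ N) 2)
    (hD5' : ∀ (g : G) (a b c : G ⧸ N), a ≠ b → b ≠ c → a ≠ c → g • a = a → g • b = b →
      g • c = c → g = 1)
    (hD6 : IsSimpleGroup G) : Cfsg.IsZassenhausGroup G (G ⧸ N) := by
  classical
  obtain ⟨u, hu2, huN⟩ := exists_inv_not_mem hL
  have hne : (QuotientGroup.mk 1 : G ⧸ N) ≠ (QuotientGroup.mk u : G ⧸ N) := by
    intro h
    rw [QuotientGroup.eq] at h
    apply huN
    simpa using h
  refine ⟨?_, hD5, hD5', ?_, ?_⟩
  · -- faithful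
    have hker : (MulAction.toPermHom G (G ⧸ N)).ker = ⊥ := by
      rcases hD6.eq_bot_or_eq_top_of_normal (MulAction.toPermHom G (G ⧸ N)).ker inferInstance with
        h | h
      · exact h
      · exfalso
        rw [← Subgroup.normalCore_eq_ker] at h
        exact hL.se.1 (eq_top_iff.mpr (h ▸ Subgroup.normalCore_le N))
    refine ⟨fun {g1 g2} h => ?_⟩
    have hinj := (MonoidHom.ker_eq_bot_iff _).mp hker
    apply hinj
    ext x
    exact h x
  · -- a nonidentity element with two fixed points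
    have hcard := hD1 u hu2 huN
    have h2 := hL.two_le
    have hnt : Nontrivial ↥(twoPt N u) := by
      rw [← Finite.one_lt_card_iff_nontrivial]
      omega
    obtain ⟨⟨d, hd⟩, hd1⟩ := exists_ne (1 : ↥(twoPt N u))
    have hd1' : d ≠ 1 := fun h => hd1 (by ext; exact h)
    obtain ⟨hdN, n, hnN, hnd⟩ := hd
    refine ⟨d, hd1', QuotientGroup.mk 1, QuotientGroup.mk u, hne, ?_, ?_⟩
    · show (QuotientGroup.mk (d * 1) : G ⧸ N) = QuotientGroup.mk 1
      rw [QuotientGroup.eq]
      simpa using N.inv_mem hdN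
    · show (QuotientGroup.mk (d * u) : G ⧸ N) = QuotientGroup.mk u
      rw [QuotientGroup.eq]
      have hd' : d = u * n * u⁻¹ := by
        rw [← hnd]; simp
      have : (d * u)⁻¹ * u = n⁻¹ := by
        rw [hd']; group
      rw [this]
      exact N.inv_mem hnN
  · -- no regular normal subgroup
    intro M hM hMt
    rcases hD6.eq_bot_or_eq_top_of_normal M hM with h | h
    · exfalso
      obtain ⟨m, hm⟩ := hMt.exists_smul_eq (QuotientGroup.mk 1 : G ⧸ N) (QuotientGroup.mk u)
      have hm1 : (m : G) = 1 := by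
        have hmm : (m : G) ∈ M := m.2
        have hmm' : (m : G) ∈ (⊥ : Subgroup G) := h ▸ hmm
        exact Subgroup.mem_bot.mp hmm'
      apply hne
      rw [← hm, Subgroup.smul_def, hm1, one_smul]
    · -- `N` is nontrivial
      obtain ⟨n, hnN, hn1⟩ : ∃ n ∈ N, n ≠ 1 := by
        by_contra hcon
        push Not at hcon
        have hbot : N = ⊥ := (Subgroup.eq_bot_iff_forall N).mpr hcon
        have hev := hL.se.2.1
        rw [hbot, Subgroup.card_bot] at hev
        exact (by decide : ¬ Even 1) hev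
      refine ⟨QuotientGroup.mk 1, fun hbot => ?_⟩
      have hmem : (⟨n, h ▸ Subgroup.mem_top n⟩ : M) ∈
          MulAction.stabilizer M (QuotientGroup.mk 1 : G ⧸ N) := by
        rw [MulAction.mem_stabilizer_iff]
        show (QuotientGroup.mk (n * 1) : G ⧸ N) = QuotientGroup.mk 1
        rw [QuotientGroup.eq]
        simpa using N.inv_mem hnN
      have hmem' := Subgroup.mem_bot.mp (hbot.le hmem)
      exact hn1 (congrArg Subtype.val hmem')

end Cfsg.Agent.Lib.Helper35_TIC_D7aux
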