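import Mathlib
import Cfsg.Agent.Lib.Helper21_TICDefs
import Cfsg.Agent.Lib.Helper56_MobiusIso
import Cfsg.Agent.S1225
import Cfsg.Agent.S1230

/-!
helper35: package S4064-E3 (`psl_of_elemAb`) of helper21's S4064 market.
-/

set_option autoImplicit false

namespace Cfsg.Agent.Lib.Helper35_TIC_E3

open Cfsg Cfsg.Agent.Lib.Helper21_TICDefs

variable {G : Type*} [Group G]

/-- a group of exponent two is commutative -/
theorem comm_of_sq {a b : G} (ha : a * a = 1) (hb : b * b = 1) (hab : (a * b) * (a * b) = 1) :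
    a * b = b * a := by
  have h1 : a⁻¹ = a := inv_eq_of_mul_eq_one_left ha
  have h2 : b⁻¹ = b := inv_eq_of_mul_eq_one_left hb
  have h3 : (a * b)⁻¹ = a * b := inv_eq_of_mul_eq_one_left hab
  calc a * b = (a * b)⁻¹ := h3.symm
    _ = b⁻¹ * a⁻¹ := mul_inv_rev a b
    _ = b * a := by rw [h1, h2]

/-- powers of an element of square one -/
theorem zpow_of_sq {g : G} (h : g * g = 1) (k : ℤ) : g ^ k = 1 ∨ g ^ k = g := by
  have htt : g ^ (2 : ℕ) = 1 := by rw [pow_two, h]
  rcases Int.emod_two_eq_zero_or_one k with h0 | h1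
  · left
    have hk2 : k = 2 * (k / 2) := by omega
    rw [hk2, zpow_mul, zpow_ofNat, htt, one_zpow]
  · right
    have hk2 : k = 2 * (k / 2) + 1 := by omega
    rw [hk2, zpow_add, zpow_mul, zpow_ofNat, htt, one_zpow, one_mul, zpow_one]

/-- centralizer of a conjugate -/
theorem conj_mem_centralizer {g t c : G} (hc : c ∈ Subgroup.centralizer ({t} : Set G)) :
    g * c * g⁻¹ ∈ Subgroup.centralizer ({g * t * g⁻¹} : Set G) := by
  rw [Subgroup.mem_centralizer_singleton_iff] at hc ⊢
  calc g * c * g⁻¹ * (g * t * g⁻¹) = g * (c * t) * g⁻¹ := by group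
    _ = g * (t * c) * g⁻¹ := by rw [hc]
    _ = g * t * g⁻¹ * (g * c * g⁻¹) := by group

theorem psl_of_elemAb [Finite G] (hF : FitTriv G) {S : Sylow 2 G} {A N : Subgroup G}
    (hP : PreLocal S A N) (hL : LocalData N A) (hA : ∀ a ∈ A, a * a = 1) :
    ∃ n : ℕ, 2 ≤ n ∧
      Nonempty (G ≃* Matrix.ProjectiveSpecialLinearGroup (Fin 2) (GaloisField 2 n)) := by
  classical
  -- `A` is a 2-group, hence `A = S`
  have hA2 : IsPGroup 2 A := by
    intro a
    refine ⟨1, ?_⟩
    have := hA a a.2
    ext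
    simp [pow_two, this]
  have hAS : A = (S : Subgroup G) := S.is_maximal' hA2 hP.S_le
  -- `A` is commutative
  have hAc : ∀ a ∈ A, ∀ b ∈ A, a * b = b * a := fun a ha b hb =>
    comm_of_sq (hA a ha) (hA b hb) (hA _ (A.mul_mem ha hb))
  obtain ⟨z, hz2, hzS, hzA⟩ := hP.exists_z
  have hzA' : z ∈ A := hP.S_le hzS
  have hzN : z ∈ N := hL.le hzA'
  have hz1 : z ≠ 1 := by
    rintro rfl
    rw [orderOf_one] at hz2
    omega
  -- every involution of `G` is conjugate into `N`
  have hconj : ∀ t : G, orderOf t = 2 → ∃ g : G, g * t * g⁻¹ ∈ N := by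
    intro t ht
    by_cases hall : ∃ u : G, orderOf u = 2 ∧ u ∉ N
    · obtain ⟨u, hu, huN⟩ := hall
      obtain ⟨-, hc⟩ := Cfsg.Agent.S1225.result N hL.se u hu huN z z hz2 hzN hz2 hzN
      obtain ⟨g, hg⟩ := isConj_iff.mp (hc t z ht hz2)
      exact ⟨g, by rw [hg]; exact hzN⟩
    · push Not at hall
      exact ⟨1, by simpa using hall t ht⟩
  -- centralizers of involutions
  have hC : ∀ t : G, orderOf t = 2 →
      IsMulCommutative (Subgroup.centralizer ({t} : Set G)) ∧
        ∀ c ∈ Subgroup.centralizer ({t} : Set G), c ^ 2 = 1 := by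
    intro t ht
    obtain ⟨g, hg⟩ := hconj t ht
    have ht' : orderOf (g * t * g⁻¹) = 2 := by
      have : g * t * g⁻¹ = MulAut.conj g t := by simp
      rw [this, MulEquiv.orderOf_eq]
      exact ht
    have hcent := hL.inv_cent _ ht' hg
    have hmem : ∀ c ∈ Subgroup.centralizer ({t} : Set G), g * c * g⁻¹ ∈ A := by
      intro c hc
      rw [← hcent]
      exact conj_mem_centralizer hc
    refine ⟨⟨⟨?_⟩⟩, ?_⟩
    · rintro ⟨c, hc⟩ ⟨d, hd⟩
      have := hAc _ (hmem c hc) _ (hmem d hd)
      ext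
      show c * d = d * c
      have h1 : g * c * g⁻¹ * (g * d * g⁻¹) = g * (c * d) * g⁻¹ := by group
      have h2 : g * d * g⁻¹ * (g * c * g⁻¹) = g * (d * c) * g⁻¹ := by group
      rw [h1, h2] at this
      exact mul_left_cancel (mul_right_cancel this)
    · intro c hc
      have := hA _ (hmem c hc)
      have h1 : g * c * g⁻¹ * (g * c * g⁻¹) = g * (c * c) * g⁻¹ := by group
      rw [h1] at this
      have h2 : c * c = 1 := by
        have h3 : g * (c * c) * g⁻¹ = g * 1 * g⁻¹ := by rw [this]; group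
        exact mul_left_cancel (mul_right_cancel h3)
      rw [pow_two, h2]
  -- `S` is not normal
  have hnn : ¬ (S : Subgroup G).Normal := by
    intro hn
    have hnil : Group.IsNilpotent (S : Subgroup G) := S.isPGroup'.isNilpotent
    have := hF _ hn hnil
    have hzS' : z ∈ (S : Subgroup G) := hzS
    rw [this] at hzS'
    exact hz1 (Subgroup.mem_bot.mp hzS')
  -- `S` is not cyclic: it contains two involutions
  have hnc : ¬ IsCyclic (S : Subgroup G) := by
    intro hcyc
    -- two distinct involutions in `N`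
    have h2 : 2 ≤ Nat.card {t : G // orderOf t = 2 ∧ t ∈ N} := by
      rw [hL.card_inv]; exact hL.two_le
    have : Finite {t : G // orderOf t = 2 ∧ t ∈ N} := Subtype.finite
    have hnt : Nontrivial {t : G // orderOf t = 2 ∧ t ∈ N} := by
      rw [← Finite.one_lt_card_iff_nontrivial]
      omega
    obtain ⟨⟨s, hs2, hsN⟩, ⟨t, ht2, htN⟩, hst⟩ := hnt
    have hsA : s ∈ A := by
      rw [← hL.inv_cent s hs2 hsN]
      exact Subgroup.mem_centralizer_singleton_iff.mpr rfl
    have htA : t ∈ A := by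
      rw [← hL.inv_cent t ht2 htN]
      exact Subgroup.mem_centralizer_singleton_iff.mpr rfl
    rw [hAS] at hsA htA
    -- a cyclic group of exponent two has at most one involution
    obtain ⟨g, hg⟩ := hcyc.exists_generator
    have hgg : (g : G) * (g : G) = 1 := hA _ (by rw [hAS]; exact g.2)
    have key : ∀ x : G, x ∈ (S : Subgroup G) → x = 1 ∨ x = (g : G) := by
      intro x hx
      obtain ⟨k, hk⟩ := Subgroup.mem_zpowers_iff.mp (hg ⟨x, hx⟩)
      have hk' : (g : G) ^ k = x := by
        have := congrArg (Subtype.val) hk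
        simpa using this
      rw [← hk']
      exact zpow_of_sq hgg k
    have hs1 : s ≠ 1 := by
      rintro rfl
      rw [orderOf_one] at hs2
      omega
    have ht1 : t ≠ 1 := by
      rintro rfl
      rw [orderOf_one] at ht2
      omega
    have e1 : s = (g : G) := (key s hsA).resolve_left hs1
    have e2 : t = (g : G) := (key t htA).resolve_left ht1
    exact hst (by simp [e1, e2])
  obtain ⟨F, hField, hFin, hcard, ⟨e⟩⟩ := Cfsg.Agent.S1230.result S hnc hnn hC
  -- the order of `S` is `2 ^ n`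
  obtain ⟨n, hn⟩ := IsPGroup.iff_card.mp S.isPGroup'
  have hn2 : 2 ≤ n := by
    by_contra hlt
    push Not at hlt
    apply hnc
    interval_cases n
    · have : Subsingleton (S : Subgroup G) := by
        rw [← Finite.card_le_one_iff_subsingleton, hn]
        norm_num
      exact isCyclic_of_subsingleton
    · have : Fact (Nat.Prime 2) := ⟨Nat.prime_two⟩
      exact isCyclic_of_prime_card (p := 2) (by rw [hn]; norm_num)
  refine ⟨n, hn2, ?_⟩
  have : Fact (Nat.Prime 2) := ⟨Nat.prime_two⟩
  have hcard' : Fintype.card F = 2 ^ n := by rw [hcard, hn]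
  have : CharP F 2 := charP_of_card_eq_prime_pow hcard'
  let _ : Algebra (ZMod 2) F := ZMod.algebra F 2
  have eF : F ≃ₐ[ZMod 2] GaloisField 2 n := GaloisField.algEquivGaloisFieldOfFintype 2 n hcard'
  obtain ⟨e2⟩ := Cfsg.Agent.Lib.Helper56_MobiusIso.psl_congr eF.toRingEquiv
  exact ⟨e.trans e2⟩

end Cfsg.Agent.Lib.Helper35_TIC_E3
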