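import Mathlib
import Cfsg.Agent.Lib.Helper21_TICDefs
import Cfsg.Agent.S1225

/-!
S4064 package LOC2 (architect helper21): in the situation `PreLocal S A N` with trivial Fitting subgroup,
every involution of `N` has centralizer `A`, and the number of involutions of `N` is `|N : A|` (helper63).
-/

set_option autoImplicit false

namespace Cfsg.Agent.Lib.Helper63_TIC_LOC2

open Cfsg Cfsg.Agent.Lib.Helper21_TICDefs

variable {G : Type*} [Group G]

/-- Under `FitTriv`, some involution lies outside `N`. -/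
theorem exists_involution_not_mem [Finite G] (hF : FitTriv G) {S : Sylow 2 G} {A N : Subgroup G}
    (hP : PreLocal S A N) : ∃ u : G, orderOf u = 2 ∧ u ∉ N := by
  by_contra hcon
  push Not at hcon
  obtain ⟨z, hz2, hzS, -⟩ := hP.exists_z
  have hle : Subgroup.normalClosure ({z} : Set G) ≤ (S : Subgroup G) := by
    unfold Subgroup.normalClosure
    rw [Subgroup.closure_le]
    intro x hx
    rw [Group.mem_conjugatesOfSet_iff] at hx
    obtain ⟨a, ha, hax⟩ := hx
    rw [Set.mem_singleton_iff] at ha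
    subst ha
    obtain ⟨c, hc⟩ := isConj_iff.mp hax
    have hx2 : orderOf x = 2 := by
      rw [← hc, ← MulAut.conj_apply, MulEquiv.orderOf_eq]
      exact hz2
    exact hP.inv_mem x hx2 (hcon x hx2)
  have : Fact (Nat.Prime 2) := ⟨Nat.prime_two⟩
  have hp : IsPGroup 2 (Subgroup.normalClosure ({z} : Set G)) := S.isPGroup'.to_le hle
  have hbot := hF _ Subgroup.normalClosure_normal hp.isNilpotent
  have hz : z ∈ Subgroup.normalClosure ({z} : Set G) :=
    Subgroup.subset_normalClosure (Set.mem_singleton z)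
  rw [hbot, Subgroup.mem_bot] at hz
  rw [hz, orderOf_one] at hz2
  omega

theorem inv_cent_of_preLocal [Finite G] (hF : FitTriv G) {S : Sylow 2 G} {A N : Subgroup G}
    (hP : PreLocal S A N) :
    (∀ t : G, orderOf t = 2 → t ∈ N → Subgroup.centralizer ({t} : Set G) = A) ∧
      Nat.card {t : G // orderOf t = 2 ∧ t ∈ N} = A.relIndex N := by
  obtain ⟨z, hz2, hzS, hzA⟩ := hP.exists_z
  have hAN : A ≤ N := by rw [hP.N_eq]; exact Subgroup.le_normalizer
  have hzN : z ∈ N := hAN (hP.S_le hzS)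
  obtain ⟨u, hu2, huN⟩ := exists_involution_not_mem hF hP
  -- every involution of `N` is an `N`-conjugate of `z`
  have hconj : ∀ t : G, orderOf t = 2 → t ∈ N → ∃ d ∈ N, d * z * d⁻¹ = t := by
    intro t ht htN
    obtain ⟨⟨d, hd, hdz⟩, -⟩ := Cfsg.Agent.S1225.result N hP.se u hu2 huN z t hz2 hzN ht htN
    exact ⟨d, hd.1, hdz⟩
  -- membership in `A` in terms of commuting with `z`
  have hmemA : ∀ y : G, y ∈ A ↔ y * z = z * y := by
    intro y
    rw [← hzA, Subgroup.mem_centralizer_singleton_iff]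
  have hcent : ∀ t : G, orderOf t = 2 → t ∈ N → Subgroup.centralizer ({t} : Set G) = A := by
    intro t ht htN
    obtain ⟨d, hd, rfl⟩ := hconj t ht htN
    rw [hP.N_eq] at hd
    have hdn := Subgroup.mem_normalizer_iff.mp hd
    ext y
    rw [Subgroup.mem_centralizer_singleton_iff]
    have e1 : y ∈ A ↔ d⁻¹ * y * d ∈ A := by
      rw [hdn (d⁻¹ * y * d)]
      have : d * (d⁻¹ * y * d) * d⁻¹ = y := by group
      rw [this]
    rw [e1, hmemA]
    constructor
    · intro hh
      calc d⁻¹ * y * d * z = d⁻¹ * (y * (d * z * d⁻¹)) * d := by group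
        _ = d⁻¹ * ((d * z * d⁻¹) * y) * d := by rw [hh]
        _ = z * (d⁻¹ * y * d) := by group
    · intro hh
      calc y * (d * z * d⁻¹) = d * ((d⁻¹ * y * d) * z) * d⁻¹ := by group
        _ = d * (z * (d⁻¹ * y * d)) * d⁻¹ := by rw [hh]
        _ = d * z * d⁻¹ * y := by group
  refine ⟨hcent, ?_⟩
  -- the bijection `N ⧸ A → involutions of N`, `n ↦ n z n⁻¹`
  have hinv : ∀ n : N, orderOf ((n : G) * z * (n : G)⁻¹) = 2 ∧ (n : G) * z * (n : G)⁻¹ ∈ N := by
    intro n
    refine ⟨?_, N.mul_mem (N.mul_mem n.2 hzN) (N.inv_mem n.2)⟩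
    rw [← MulAut.conj_apply, MulEquiv.orderOf_eq]
    exact hz2
  have hwd : ∀ a b : N, (QuotientGroup.leftRel (A.subgroupOf N)) a b →
      (⟨(a : G) * z * (a : G)⁻¹, hinv a⟩ : {t : G // orderOf t = 2 ∧ t ∈ N}) =
        ⟨(b : G) * z * (b : G)⁻¹, hinv b⟩ := by
    intro a b hab
    rw [QuotientGroup.leftRel_apply, Subgroup.mem_subgroupOf] at hab
    have h1 : ((a : G)⁻¹ * (b : G)) * z = z * ((a : G)⁻¹ * (b : G)) := by
      have := (hmemA _).mp hab
      simpa using this
    apply Subtype.ext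
    show (a : G) * z * (a : G)⁻¹ = (b : G) * z * (b : G)⁻¹
    calc (a : G) * z * (a : G)⁻¹ = (a : G) * (z * ((a : G)⁻¹ * (b : G))) * (b : G)⁻¹ := by group
      _ = (a : G) * (((a : G)⁻¹ * (b : G)) * z) * (b : G)⁻¹ := by rw [h1]
      _ = (b : G) * z * (b : G)⁻¹ := by group
  let f : N ⧸ A.subgroupOf N → {t : G // orderOf t = 2 ∧ t ∈ N} :=
    Quotient.lift (fun n : N => (⟨(n : G) * z * (n : G)⁻¹, hinv n⟩ :
      {t : G // orderOf t = 2 ∧ t ∈ N})) hwd
  have hfmk : ∀ n : N, f (QuotientGroup.mk n) = ⟨(n : G) * z * (n : G)⁻¹, hinv n⟩ := fun n => rfl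
  have hbij : Function.Bijective f := by
    constructor
    · intro q₁ q₂
      induction q₁ using QuotientGroup.induction_on with
      | H a =>
        induction q₂ using QuotientGroup.induction_on with
        | H b =>
          intro hab
          rw [hfmk, hfmk] at hab
          have hab' : (a : G) * z * (a : G)⁻¹ = (b : G) * z * (b : G)⁻¹ := congrArg Subtype.val hab
          rw [QuotientGroup.eq, Subgroup.mem_subgroupOf]
          have : ((a⁻¹ * b : N) : G) = (a : G)⁻¹ * (b : G) := by simp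
          rw [this, hmemA]
          calc (a : G)⁻¹ * (b : G) * z = (a : G)⁻¹ * ((b : G) * z * (b : G)⁻¹) * (b : G) := by group
            _ = (a : G)⁻¹ * ((a : G) * z * (a : G)⁻¹) * (b : G) := by rw [hab']
            _ = z * ((a : G)⁻¹ * (b : G)) := by group
    · rintro ⟨t, ht2, htN⟩
      obtain ⟨d, hd, hdz⟩ := hconj t ht2 htN
      refine ⟨QuotientGroup.mk ⟨d, hd⟩, ?_⟩
      rw [hfmk]
      exact Subtype.ext hdz
  rw [← Nat.card_congr (Equiv.ofBijective f hbij)]
  rw [Subgroup.relIndex, Subgroup.index_eq_card]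

end Cfsg.Agent.Lib.Helper63_TIC_LOC2
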