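import Mathlib
import Cfsg.Agent.Lib.Helper21_TICDefs

/-!
S4064 package LOC5 (architect helper21): when `A` is a 2-group, `N = N_G(A)` normalizes the centralizer
of every non-identity element of `A` (helper63).
-/

set_option autoImplicit false

namespace Cfsg.Agent.Lib.Helper63_TIC_LOC5

open Cfsg Cfsg.Agent.Lib.Helper21_TICDefs

variable {G : Type*} [Group G]

theorem cent_normal_of_preLocal [Finite G] (h : TIC G) {S : Sylow 2 G} {A N : Subgroup G}
    (hP : PreLocal S A N) :
    IsPGroup 2 A → ∀ x ∈ A, x ≠ 1 → ∀ n ∈ N,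
      ∀ c ∈ Subgroup.centralizer ({x} : Set G), n * c * n⁻¹ ∈ Subgroup.centralizer ({x} : Set G) := by
  intro hA x hx hx1 n hn c hc
  have : Fact (Nat.Prime 2) := ⟨Nat.prime_two⟩
  have : Nontrivial A := ⟨⟨⟨x, hx⟩, 1, fun hh => hx1 (congrArg Subtype.val hh)⟩⟩
  have hnt : Nontrivial (Subgroup.center A) := hA.center_nontrivial
  obtain ⟨⟨w, hwc⟩, hw1⟩ := exists_ne (1 : Subgroup.center A)
  have hwne : (w : G) ≠ 1 := by
    intro hh
    apply hw1
    apply Subtype.ext
    apply Subtype.ext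
    exact hh
  have hwcomm : ∀ a ∈ A, a * (w : G) = (w : G) * a := by
    intro a ha
    have := Subgroup.mem_center_iff.mp hwc ⟨a, ha⟩
    exact congrArg Subtype.val this
  rw [hP.N_eq] at hn
  have hnA := Subgroup.mem_normalizer_iff.mp hn
  -- `y = n⁻¹ w n` is central in `A`
  have hyA : n⁻¹ * (w : G) * n ∈ A := by
    rw [hnA]
    have : n * (n⁻¹ * (w : G) * n) * n⁻¹ = (w : G) := by group
    rw [this]
    exact w.2
  have hycomm : ∀ a ∈ A, a * (n⁻¹ * (w : G) * n) = (n⁻¹ * (w : G) * n) * a := by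
    intro a ha
    have h1 := hwcomm (n * a * n⁻¹) ((hnA a).mp ha)
    calc a * (n⁻¹ * (w : G) * n) = n⁻¹ * ((n * a * n⁻¹) * (w : G)) * n := by group
      _ = n⁻¹ * ((w : G) * (n * a * n⁻¹)) * n := by rw [h1]
      _ = (n⁻¹ * (w : G) * n) * a := by group
  have hyC : n⁻¹ * (w : G) * n ∈ Subgroup.centralizer ({x} : Set G) := by
    rw [Subgroup.mem_centralizer_singleton_iff]
    exact (hycomm x hx).symm
  have hwC : n * (n⁻¹ * (w : G) * n) * n⁻¹ ∈ Subgroup.centralizer ({x} : Set G) := by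
    have : n * (n⁻¹ * (w : G) * n) * n⁻¹ = (w : G) := by group
    rw [this, Subgroup.mem_centralizer_singleton_iff]
    exact (hwcomm x hx).symm
  have hy1 : n⁻¹ * (w : G) * n ≠ 1 := by
    intro hh
    apply hwne
    have : (w : G) = n * (n⁻¹ * (w : G) * n) * n⁻¹ := by group
    rw [this, hh]; group
  have hnn : n ∈ Subgroup.normalizer ((Subgroup.centralizer ({x} : Set G) : Subgroup G) : Set G) := by
    by_contra hcon
    exact hy1 (h x n hcon _ hyC hwC)
  exact (Subgroup.mem_normalizer_iff.mp hnn c).mp hc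

end Cfsg.Agent.Lib.Helper63_TIC_LOC5
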