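import Mathlib
import Cfsg.Agent.Lib.Helper21_TICDefs
import Cfsg.Agent.Lib.Helper32_PGroup

/-!
S4064 package LOC3 (architect helper21): in the local situation `A` is a normal Hall subgroup of its
normalizer `N`, so a conjugate of an element of `A` by an element outside `N` that lies in `N` lies
in `A`, and the element is the identity.
-/

set_option autoImplicit false

namespace Cfsg.Agent.Lib.Helper86_TIC_LOC3

open Cfsg Cfsg.Agent.Lib.Helper21_TICDefs

variable {G : Type*} [Group G]

/-- `A` is a Hall subgroup of `N` -/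
theorem coprime_relIndex [Finite G] {S : Sylow 2 G} {A N : Subgroup G} (hP : PreLocal S A N) :
    (Nat.card A).Coprime (A.relIndex N) := by
  have hAN : A ≤ N := by
    rw [hP.N_eq]
    exact Subgroup.le_normalizer
  refine Nat.coprime_of_dvd (fun p hp hpA hpI => ?_)
  have : Fact p.Prime := ⟨hp⟩
  have hA'n : (A.subgroupOf N).Normal := by
    rw [hP.N_eq]
    exact Subgroup.normal_in_normalizer
  have hcardA' : Nat.card (A.subgroupOf N) = Nat.card A :=
    Nat.card_congr (Subgroup.subgroupOfEquivOfLe hAN).toEquiv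
  obtain ⟨b, hb⟩ := exists_prime_orderOf_dvd_card' (G := A.subgroupOf N) p (hcardA' ▸ hpA)
  have hbp : IsPGroup p (Subgroup.zpowers (b : N)) := by
    apply IsPGroup.of_card (n := 1)
    rw [Nat.card_zpowers, Subgroup.orderOf_coe, hb, pow_one]
  obtain ⟨P1, hP1⟩ := hbp.exists_le_sylow
  have hbP1 : (b : N) ∈ (P1 : Subgroup N) := hP1 (Subgroup.mem_zpowers _)
  have hM : ((A.subgroupOf N).subgroupOf (P1 : Subgroup N)) ≠ ⊥ := by
    intro h0
    have hmem : (⟨(b : N), hbP1⟩ : (P1 : Subgroup N)) ∈
        (A.subgroupOf N).subgroupOf (P1 : Subgroup N) := by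
      rw [Subgroup.mem_subgroupOf]
      exact b.2
    rw [h0, Subgroup.mem_bot] at hmem
    have hb1 : b = 1 := by
      apply Subtype.ext
      exact congrArg (fun t : (P1 : Subgroup N) => (t : N)) hmem
    rw [hb1, orderOf_one] at hb
    exact hp.one_lt.ne hb
  obtain ⟨y, hyM, hyZ, hy1⟩ :=
    Cfsg.Agent.Lib.Helper32_PGroup.exists_mem_center_of_normal P1.2 _ hM
  have hyA : ((y : N) : G) ∈ A := by
    rw [Subgroup.mem_subgroupOf, Subgroup.mem_subgroupOf] at hyM
    exact hyM
  have hy1' : ((y : N) : G) ≠ 1 := by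
    intro e
    apply hy1
    apply Subtype.ext
    apply Subtype.ext
    exact e
  have hle : (P1 : Subgroup N) ≤ A.subgroupOf N := by
    intro x hx
    rw [Subgroup.mem_subgroupOf]
    apply hP.cent_le _ hyA hy1'
    rw [Subgroup.mem_centralizer_singleton_iff]
    have h1 := Subgroup.mem_center_iff.1 hyZ ⟨x, hx⟩
    have h2 := congrArg (fun t : (P1 : Subgroup N) => ((t : N) : G)) h1
    simpa using h2
  have h1 : ¬ p ∣ (P1 : Subgroup N).index := P1.not_dvd_index
  have h2 : (A.subgroupOf N).index ∣ (P1 : Subgroup N).index := Subgroup.index_dvd_of_le hle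
  exact h1 (dvd_trans hpI h2)

theorem semireg_of_preLocal [Finite G] {S : Sylow 2 G} {A N : Subgroup G}
    (hP : PreLocal S A N) :
    ∀ g : G, g ∉ N → ∀ a ∈ A, g * a * g⁻¹ ∈ N → a = 1 := by
  intro g hg a ha hb
  have hAN : A ≤ N := by
    rw [hP.N_eq]
    exact Subgroup.le_normalizer
  have hA'n : (A.subgroupOf N).Normal := by
    rw [hP.N_eq]
    exact Subgroup.normal_in_normalizer
  have hcop := coprime_relIndex hP
  -- the order of the conjugate divides the order of `A`
  have hpow : (g * a * g⁻¹) ^ Nat.card A = 1 := by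
    rw [conj_pow]
    have : a ^ Nat.card A = 1 := by
      have := pow_card_eq_one' (G := A) (x := ⟨a, ha⟩)
      exact congrArg Subtype.val this
    rw [this]
    group
  have hord : orderOf (⟨g * a * g⁻¹, hb⟩ : N) ∣ Nat.card A := by
    apply orderOf_dvd_of_pow_eq_one
    apply Subtype.ext
    exact hpow
  -- its image in the quotient is trivial
  have hq : orderOf (QuotientGroup.mk' (A.subgroupOf N) ⟨g * a * g⁻¹, hb⟩) = 1 := by
    apply Nat.eq_one_of_dvd_coprimes hcop
    · exact dvd_trans (orderOf_map_dvd _ _) hord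
    · have := orderOf_dvd_natCard (QuotientGroup.mk' (A.subgroupOf N) ⟨g * a * g⁻¹, hb⟩)
      rwa [← Subgroup.index_eq_card] at this
  rw [orderOf_eq_one_iff, QuotientGroup.mk'_apply, QuotientGroup.eq_one_iff,
    Subgroup.mem_subgroupOf] at hq
  exact hP.ti g hg a ha hq

end Cfsg.Agent.Lib.Helper86_TIC_LOC3
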