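import Mathlib
import Cfsg.Agent.Lib.Helper21_TIC_E2
import Cfsg.Agent.Lib.Helper31_TIC_A
import Cfsg.Agent.Lib.Helper63_TIC_LOC2
import Cfsg.Agent.Lib.Helper63_TIC_LOC5
import Cfsg.Agent.Lib.Helper86_TIC_LOC3
import Cfsg.Agent.Lib.Helper35_TIC_E3
import Cfsg.Agent.Lib.Helper35_TIC_D7aux
import Cfsg.Agent.Lib.Helper21_TIC_D6
import Cfsg.Agent.Lib.Helper21_TIC_LOC4
import Cfsg.Agent.Lib.Helper21_TIC_LOC1
import Cfsg.Agent.Lib.Helper25_TIC_B4

/-!
helper21: S4064 final assembly.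
-/

set_option autoImplicit false

namespace Cfsg.Agent.Lib.Helper21_TIC_Main

open Cfsg Cfsg.Agent.Lib.Helper21_TICDefs
open Cfsg.Agent.Lib.Helper21_TIC_D1 Cfsg.Agent.Lib.Helper21_TIC_D5 Cfsg.Agent.Lib.Helper21_TIC_D6
open Cfsg.Agent.Lib.Helper21_TIC_LOC4 Cfsg.Agent.Lib.Helper21_TIC_LOC1 Cfsg.Agent.Lib.Helper25_TIC_B4

variable {G : Type*} [Group G]


theorem localData_of_preLocal [Finite G] (h : TIC G) (hF : FitTriv G) {S : Sylow 2 G}
    {A N : Subgroup G} (hP : PreLocal S A N) : LocalData N A := by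
  obtain ⟨h1, h2⟩ := Cfsg.Agent.Lib.Helper63_TIC_LOC2.inv_cent_of_preLocal hF hP
  have hle : A ≤ N := by rw [hP.N_eq]; exact Subgroup.le_normalizer
  refine ⟨hP.se, hle, ?_, Cfsg.Agent.Lib.Helper86_TIC_LOC3.semireg_of_preLocal hP, hP.cent_le, h2,
    two_le_of_preLocal h hF hP h2, h1,
    Cfsg.Agent.Lib.Helper63_TIC_LOC5.cent_normal_of_preLocal h hP⟩
  intro n hn a ha
  rw [hP.N_eq] at hn
  exact (Subgroup.mem_normalizer_iff.mp hn a).mp ha

theorem zassenhaus_of_localData [Finite G] (h : TIC G) (hF : FitTriv G) {N A : Subgroup G}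
    (hL : LocalData N A) : Cfsg.IsZassenhausGroup G (G ⧸ N) :=
  Cfsg.Agent.Lib.Helper35_TIC_D7aux.zassenhaus_aux hL
    (fun u hu huN => (twoPt_props hL u hu huN).1) (two_trans hL) (three_fixed hL)
    (simple_of_localData h hF hL)

theorem elemAb_of_localData [Finite G] (h : TIC G) (hF : FitTriv G) {N A : Subgroup G}
    (hL : LocalData N A) : ∀ a ∈ A, a * a = 1 :=
  Cfsg.Agent.Lib.Helper21_TIC_E2.elemAb_core hL (simple_of_localData h hF hL)
    (zassenhaus_of_localData h hF hL)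

theorem main [Finite G] (hTI : TIC G) :
    Group.IsNilpotent G ∨
    (∃ H : Subgroup G, Cfsg.IsFrobeniusComplement H ∧
      (IsCyclic H ∨ ∃ m : ℕ, Odd m ∧
        Nonempty (H ≃* Multiplicative (ZMod m) × QuaternionGroup 2))) ∨
    (∃ n : ℕ, 2 ≤ n ∧
      Nonempty (G ≃* Matrix.ProjectiveSpecialLinearGroup (Fin 2) (GaloisField 2 n))) := by
  by_cases hnil : Group.IsNilpotent G
  · exact Or.inl hnil
  by_cases hF : FitTriv G
  · right; right
    have : Nontrivial G := by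
      by_contra hnt
      rw [not_nontrivial_iff_subsingleton] at hnt
      exact hnil inferInstance
    obtain ⟨S, A, N, hP⟩ := exists_preLocal hTI hF
    have hL : LocalData N A := localData_of_preLocal hTI hF hP
    exact Cfsg.Agent.Lib.Helper35_TIC_E3.psl_of_elemAb hF hP hL (elemAb_of_localData hTI hF hL)
  · right; left
    exact fitting_case hTI hnil hF

end Cfsg.Agent.Lib.Helper21_TIC_Main
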