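import Mathlib
import Cfsg.Prelude.Def_Solvable
import Cfsg.Prelude.Def_CaseTheorems
import Cfsg.Agent.Lib.Helper1_Cores
import Cfsg.Agent.Lib.Helper88_Sims_IS4C2aux

/-!
Abstract core of the Tutte package ID-5b (S4385, helper84's market): a finite group `X` of order
`16 n` (`n` odd) generated by five involutions `a0 .. a4` with the relations of a Tutte system with
`s = 5`, `lam = 3`, `[a0,a3] = a1 a2` has `X / O(X) = S4 x 2`.
-/

set_option autoImplicit false
set_option linter.unusedVariables false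
set_option linter.unusedSectionVars false

namespace Cfsg.Agent.Lib.Helper21_Tutte_ID5bCore

open Subgroup

section Generic

variable {X : Type*} [Group X]

/-- elements of the closure of two commuting involutions -/
lemma mem_closure_pair {a b : X} (ha : a * a = 1) (hb : b * b = 1) (hab : a * b = b * a) {x : X}
    (hx : x ∈ closure ({a, b} : Set X)) : x = 1 ∨ x = a ∨ x = b ∨ x = a * b := by
  have hba : b * a = a * b := hab.symm
  have haab : a * (a * b) = b := by rw [← mul_assoc, ha, one_mul]
  have hbab : b * (a * b) = a := by rw [hab, ← mul_assoc, hb, one_mul]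
  have haba : a * b * a = b := by rw [mul_assoc, hba, ← mul_assoc, ha, one_mul]
  have habb : a * b * b = a := by rw [mul_assoc, hb, mul_one]
  have habab : a * b * (a * b) = 1 := by rw [mul_assoc, hbab, ha]
  induction hx using closure_induction with
  | mem x hx =>
    rcases hx with hx | hx
    · exact Or.inr (Or.inl hx)
    · exact Or.inr (Or.inr (Or.inl hx))
  | one => exact Or.inl rfl
  | mul x y _ _ ihx ihy =>
    rcases ihx with h₁ | h₁ | h₁ | h₁ <;> rcases ihy with h₂ | h₂ | h₂ | h₂ <;> rw [h₁, h₂] <;>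
      simp [ha, hb, hba, haab, hbab, haba, habb, habab]
  | inv x _ ih =>
    have hai : a⁻¹ = a := inv_eq_of_mul_eq_one_right ha
    have hbi : b⁻¹ = b := inv_eq_of_mul_eq_one_right hb
    rcases ih with h₁ | h₁ | h₁ | h₁ <;> rw [h₁] <;> simp [hai, hbi, hba]

/-- conjugation by `s` maps the closure of `S` into `U` if it does so on `S` -/
lemma conj_closure_mem (S : Set X) (U : Subgroup X) (s : X) (h : ∀ y ∈ S, s * y * s⁻¹ ∈ U) :
    ∀ w ∈ closure S, s * w * s⁻¹ ∈ U := by
  intro w hw
  induction hw using closure_induction with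
  | mem x hx => exact h x hx
  | one => simp
  | mul x y _ _ ihx ihy =>
    have : s * (x * y) * s⁻¹ = (s * x * s⁻¹) * (s * y * s⁻¹) := by group
    rw [this]; exact U.mul_mem ihx ihy
  | inv x _ ih =>
    have : s * x⁻¹ * s⁻¹ = (s * x * s⁻¹)⁻¹ := by group
    rw [this]; exact U.inv_mem ih

/-- an element centralising `S` centralises its closure -/
lemma conj_closure_eq (S : Set X) (s : X) (h : ∀ y ∈ S, s * y * s⁻¹ = y) :
    ∀ w ∈ closure S, s * w * s⁻¹ = w := by
  intro w hw
  induction hw using closure_induction with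
  | mem x hx => exact h x hx
  | one => simp
  | mul x y _ _ ihx ihy =>
    have : s * (x * y) * s⁻¹ = (s * x * s⁻¹) * (s * y * s⁻¹) := by group
    rw [this, ihx, ihy]
  | inv x _ ih =>
    have : s * x⁻¹ * s⁻¹ = (s * x * s⁻¹)⁻¹ := by group
    rw [this, ih]

lemma card_le_two_of [Finite X] (U : Subgroup X) (g : X) (h : ∀ w ∈ U, w = 1 ∨ w = g) :
    Nat.card U ≤ 2 := by
  have hsub : (U : Set X) ⊆ {1, g} := by
    intro w hw
    rcases h w hw with h | h
    · exact Or.inl h
    · exact Or.inr h
  calc Nat.card U = (U : Set X).ncard := (_root_.Nat.card_coe_set_eq _)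
    _ ≤ ({1, g} : Set X).ncard := Set.ncard_le_ncard hsub (Set.toFinite _)
    _ ≤ 2 := by
        refine (Set.ncard_insert_le _ _).trans ?_
        rw [Set.ncard_singleton]

lemma card_le_four_of [Finite X] (U : Subgroup X) (a b c : X)
    (h : ∀ w ∈ U, w = 1 ∨ w = a ∨ w = b ∨ w = c) : Nat.card U ≤ 4 := by
  have hsub : (U : Set X) ⊆ {1, a, b, c} := by
    intro w hw
    rcases h w hw with h | h | h | h
    · exact Or.inl h
    · exact Or.inr (Or.inl h)
    · exact Or.inr (Or.inr (Or.inl h))
    · exact Or.inr (Or.inr (Or.inr h))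
  calc Nat.card U = (U : Set X).ncard := (_root_.Nat.card_coe_set_eq _)
    _ ≤ ({1, a, b, c} : Set X).ncard := Set.ncard_le_ncard hsub (Set.toFinite _)
    _ ≤ 4 := by
        refine (Set.ncard_insert_le _ _).trans ?_
        refine Nat.succ_le_succ ((Set.ncard_insert_le _ _).trans ?_)
        refine Nat.succ_le_succ ((Set.ncard_insert_le _ _).trans ?_)
        rw [Set.ncard_singleton]

/-- odd powers of an involution -/
lemma pow_odd_of_sq {k : X} (hk : k * k = 1) {m : ℕ} (hm : Odd m) : k ^ m = k := by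
  obtain ⟨j, rfl⟩ := hm
  rw [pow_succ, pow_mul, pow_two, hk, one_pow, one_mul]

end Generic

section Main

variable {X : Type*} [Group X] [Finite X]

/-- the conjugation action on a normal subgroup, as permutations -/
noncomputable def theta (W : Subgroup X) [W.Normal] : X →* Equiv.Perm W :=
  (MulAut.toPerm W).comp MulAut.conjNormal

lemma mem_ker_theta (W : Subgroup X) [W.Normal] (x : X) :
    x ∈ (theta W).ker ↔ ∀ w ∈ W, x * w * x⁻¹ = w := by
  rw [MonoidHom.mem_ker, Equiv.Perm.ext_iff]
  constructor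
  · intro h w hw
    have := congrArg Subtype.val (h ⟨w, hw⟩)
    change ((MulAut.conjNormal x ⟨w, hw⟩ : W) : X) = w at this
    rwa [MulAut.conjNormal_apply] at this
  · intro h w
    apply Subtype.ext
    change ((MulAut.conjNormal x w : W) : X) = w
    rw [MulAut.conjNormal_apply]
    exact h w.1 w.2

theorem s4c2_quot (a0 a1 a2 a3 a4 : X) (n : ℕ) (hodd : Odd n)
    (h0 : a0 * a0 = 1) (h1 : a1 * a1 = 1) (h2 : a2 * a2 = 1) (h3 : a3 * a3 = 1) (h4 : a4 * a4 = 1)
    (c01 : a0 * a1 = a1 * a0) (c02 : a0 * a2 = a2 * a0) (c12 : a1 * a2 = a2 * a1)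
    (c13 : a1 * a3 = a3 * a1) (c23 : a2 * a3 = a3 * a2) (c24 : a2 * a4 = a4 * a2)
    (c34 : a3 * a4 = a4 * a3)
    (r03 : a0 * a3 * a0 = a1 * a2 * a3) (r14 : a4 * a1 * a4 = a1 * a2 * a3)
    (htop : closure ({a0, a1, a2, a3, a4} : Set X) = ⊤)
    (hcard : Nat.card X = 16 * n)
    (hK : Nat.card (closure ({a1, a2, a3} : Set X)) = 8) :
    Nonempty (X ⧸ Cfsg.oddCore X ≃* Equiv.Perm (Fin 4) × Multiplicative (ZMod 2)) := by
  classical
  -- inverses
  have i0 : a0⁻¹ = a0 := inv_eq_of_mul_eq_one_right h0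
  have i1 : a1⁻¹ = a1 := inv_eq_of_mul_eq_one_right h1
  have i2 : a2⁻¹ = a2 := inv_eq_of_mul_eq_one_right h2
  have i3 : a3⁻¹ = a3 := inv_eq_of_mul_eq_one_right h3
  have i4 : a4⁻¹ = a4 := inv_eq_of_mul_eq_one_right h4
  -- a2 is central
  have hcen : ∀ x : X, a2 * x = x * a2 := by
    intro x
    have hx : x ∈ closure ({a0, a1, a2, a3, a4} : Set X) := by rw [htop]; trivial
    induction hx using closure_induction with
    | mem y hy =>
      rcases hy with rfl | rfl | rfl | rfl | rfl
      · exact c02.symm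
      · exact c12.symm
      · rfl
      · exact c23
      · exact c24
    | one => simp
    | mul x y _ _ ihx ihy => rw [← mul_assoc, ihx, mul_assoc, ihy, mul_assoc]
    | inv x _ ih =>
      have : a2 * x⁻¹ = x⁻¹ * (x * a2) * x⁻¹ := by group
      rw [this, ← ih]; group
  -- the four-group W
  obtain ⟨a, hadef⟩ : ∃ a : X, a = a1 * a2 := ⟨_, rfl⟩
  obtain ⟨b, hbdef⟩ : ∃ b : X, b = a2 * a3 := ⟨_, rfl⟩
  have haa : a * a = 1 := by
    rw [hadef]
    calc a1 * a2 * (a1 * a2) = a1 * (a2 * a1) * a2 := by group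
      _ = a1 * (a1 * a2) * a2 := by rw [c12]
      _ = (a1 * a1) * (a2 * a2) := by group
      _ = 1 := by rw [h1, h2, one_mul]
  have hbb : b * b = 1 := by
    rw [hbdef]
    calc a2 * a3 * (a2 * a3) = a2 * (a3 * a2) * a3 := by group
      _ = a2 * (a2 * a3) * a3 := by rw [c23]
      _ = (a2 * a2) * (a3 * a3) := by group
      _ = 1 := by rw [h2, h3, one_mul]
  have hab : a * b = b * a := by
    rw [hadef, hbdef]
    calc a1 * a2 * (a2 * a3) = a1 * (a2 * a2) * a3 := by group
      _ = a3 * a1 := by rw [h2, mul_one, c13]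
      _ = (a2 * a2) * a3 * a1 := by rw [h2, one_mul]
      _ = a2 * (a2 * a3) * a1 := by group
      _ = a2 * (a3 * a2) * a1 := by rw [c23]
      _ = a2 * a3 * (a2 * a1) := by group
      _ = a2 * a3 * (a1 * a2) := by rw [c12]
  have habv : a * b = a1 * a3 := by
    rw [hadef, hbdef]
    calc a1 * a2 * (a2 * a3) = a1 * (a2 * a2) * a3 := by group
      _ = a1 * a3 := by rw [h2, mul_one]
  obtain ⟨W, hWdef⟩ : ∃ W : Subgroup X, W = closure ({a, b} : Set X) := ⟨_, rfl⟩
  obtain ⟨K, hKdef⟩ : ∃ K : Subgroup X, K = closure ({a1, a2, a3} : Set X) := ⟨_, rfl⟩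
  rw [← hKdef] at hK
  have haW : a ∈ W := by rw [hWdef]; exact subset_closure (Or.inl rfl)
  have hbW : b ∈ W := by rw [hWdef]; exact subset_closure (Or.inr rfl)
  have hWenum : ∀ w ∈ W, w = 1 ∨ w = a ∨ w = b ∨ w = a * b := by
    intro w hw
    rw [hWdef] at hw
    exact mem_closure_pair haa hbb hab hw
  have h1K : a1 ∈ K := by rw [hKdef]; exact subset_closure (Or.inl rfl)
  have h2K : a2 ∈ K := by rw [hKdef]; exact subset_closure (Or.inr (Or.inl rfl))
  have h3K : a3 ∈ K := by rw [hKdef]; exact subset_closure (Or.inr (Or.inr rfl))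
  have hWK : W ≤ K := by
    rw [hWdef, closure_le]
    rintro x (rfl | rfl)
    · rw [hadef]; exact K.mul_mem h1K h2K
    · rw [hbdef]; exact K.mul_mem h2K h3K
  -- K = W ∪ a2 W
  have hKenum : ∀ k ∈ K, k ∈ W ∨ a2 * k ∈ W := by
    intro k hk
    rw [hKdef] at hk
    induction hk using closure_induction with
    | mem y hy =>
      rcases hy with rfl | rfl | rfl
      · right; rw [← c12, ← hadef]; exact haW
      · right; rw [h2]; exact W.one_mem
      · right; rw [← hbdef]; exact hbW
    | one => left; exact W.one_mem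
    | mul x y _ _ ihx ihy =>
      rcases ihx with hx | hx <;> rcases ihy with hy | hy
      · left; exact W.mul_mem hx hy
      · right
        have : a2 * (x * y) = x * (a2 * y) := by rw [← mul_assoc, hcen x, mul_assoc]
        rw [this]; exact W.mul_mem hx hy
      · right
        rw [← mul_assoc]; exact W.mul_mem hx hy
      · left
        have : x * y = (a2 * x) * (a2 * y) := by
          calc x * y = x * (a2 * a2) * y := by rw [h2, mul_one]
            _ = (x * a2) * (a2 * y) := by group
            _ = (a2 * x) * (a2 * y) := by rw [hcen x]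
        rw [this]; exact W.mul_mem hx hy
    | inv x _ ih =>
      rcases ih with hx | hx
      · left; exact W.inv_mem hx
      · right
        have : a2 * x⁻¹ = (a2 * x)⁻¹ := by
          rw [mul_inv_rev, i2, hcen]
        rw [this]; exact W.inv_mem hx
  -- cardinalities
  have hW4le : Nat.card W ≤ 4 := card_le_four_of W a b (a * b) hWenum
  have hK2W : Nat.card K ≤ 2 * Nat.card W := by
    have hsub : (K : Set X) ⊆ (W : Set X) ∪ (fun w => a2 * w) '' (W : Set X) := by
      intro k hk
      rcases hKenum k hk with h | h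
      · exact Or.inl h
      · right
        refine ⟨a2 * k, h, ?_⟩
        show a2 * (a2 * k) = k
        rw [← mul_assoc, h2, one_mul]
    calc Nat.card K = (K : Set X).ncard := (_root_.Nat.card_coe_set_eq _)
      _ ≤ ((W : Set X) ∪ (fun w => a2 * w) '' (W : Set X)).ncard :=
          Set.ncard_le_ncard hsub (Set.toFinite _)
      _ ≤ (W : Set X).ncard + ((fun w => a2 * w) '' (W : Set X)).ncard := Set.ncard_union_le _ _
      _ ≤ (W : Set X).ncard + (W : Set X).ncard :=
          Nat.add_le_add_left (Set.ncard_image_le (Set.toFinite _)) _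
      _ = 2 * Nat.card W := by
          have : (W : Set X).ncard = Nat.card W := (_root_.Nat.card_coe_set_eq _).symm
          rw [this]; ring
  have hW4 : Nat.card W = 4 := by omega
  have h2W : a2 ∉ W := by
    intro h
    have hKW : K ≤ W := by
      intro k hk
      rcases hKenum k hk with h' | h'
      · exact h'
      · have : k = a2 * (a2 * k) := by rw [← mul_assoc, h2, one_mul]
        rw [this]; exact W.mul_mem h h'
    have := Nat.card_le_card_of_injective (Subgroup.inclusion hKW) (Subgroup.inclusion_injective hKW)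
    omega
  have ha1 : a ≠ 1 := by
    intro h
    have : Nat.card W ≤ 2 := card_le_two_of W b (by
      intro w hw
      rcases hWenum w hw with h' | h' | h' | h'
      · exact Or.inl h'
      · exact Or.inl (h'.trans h)
      · exact Or.inr h'
      · right; rw [h', h, one_mul])
    omega
  have hb1 : b ≠ 1 := by
    intro h
    have : Nat.card W ≤ 2 := card_le_two_of W a (by
      intro w hw
      rcases hWenum w hw with h' | h' | h' | h'
      · exact Or.inl h'
      · exact Or.inr h'
      · exact Or.inl (h'.trans h)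
      · right; rw [h', h, mul_one])
    omega
  have hab1 : a ≠ b := by
    intro h
    have : Nat.card W ≤ 2 := card_le_two_of W a (by
      intro w hw
      rcases hWenum w hw with h' | h' | h' | h'
      · exact Or.inl h'
      · exact Or.inr h'
      · exact Or.inr (h'.trans h.symm)
      · left; rw [h', ← h, haa])
    omega
  -- K is commutative of exponent 2
  have hKgen : ∀ s ∈ ({a1, a2, a3} : Set X), ∀ w ∈ K, s * w * s⁻¹ = w := by
    intro s hs w hw
    rw [hKdef] at hw
    refine conj_closure_eq {a1, a2, a3} s ?_ w hw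
    rcases hs with rfl | rfl | rfl
    · rintro y (rfl | rfl | rfl)
      · group
      · rw [c12]; group
      · rw [c13]; group
    · rintro y (rfl | rfl | rfl)
      · rw [← c12]; group
      · group
      · rw [c23]; group
    · rintro y (rfl | rfl | rfl)
      · rw [← c13]; group
      · rw [← c23]; group
      · group
  have hKc : ∀ x ∈ K, ∀ w ∈ K, x * w * x⁻¹ = w := by
    intro x hx
    have hx' := hx
    rw [hKdef] at hx'
    induction hx' using closure_induction with
    | mem y hy => exact hKgen y hy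
    | one => intro w _; simp
    | mul x y hx₁ hy₁ ihx ihy =>
      intro w hw
      have hxK : x ∈ K := by rw [hKdef]; exact hx₁
      have hyK : y ∈ K := by rw [hKdef]; exact hy₁
      have : x * y * w * (x * y)⁻¹ = x * (y * w * y⁻¹) * x⁻¹ := by group
      rw [this, ihy hyK w hw, ihx hxK w hw]
    | inv x hx₁ ih =>
      intro w hw
      have hxK : x ∈ K := by rw [hKdef]; exact hx₁
      have h' := ih hxK w hw
      calc x⁻¹ * w * x⁻¹⁻¹ = x⁻¹ * (x * w * x⁻¹) * x := by rw [h', inv_inv]
        _ = w := by group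
  have hKcomm : ∀ x ∈ K, ∀ w ∈ K, x * w = w * x := by
    intro x hx w hw
    have := hKc x hx w hw
    calc x * w = (x * w * x⁻¹) * x := by group
      _ = w * x := by rw [this]
  have hWsq : ∀ w ∈ W, w * w = 1 := by
    intro w hw
    rcases hWenum w hw with h | h | h | h <;> rw [h]
    · simp
    · exact haa
    · exact hbb
    · calc a * b * (a * b) = a * (b * a) * b := by group
        _ = a * (a * b) * b := by rw [hab]
        _ = (a * a) * (b * b) := by group
        _ = 1 := by rw [haa, hbb, one_mul]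
  have hKsq : ∀ k ∈ K, k * k = 1 := by
    intro k hk
    rcases hKenum k hk with h | h
    · exact hWsq k h
    · have := hWsq _ h
      calc k * k = (a2 * a2) * (k * k) := by rw [h2, one_mul]
        _ = a2 * (a2 * k) * k := by group
        _ = a2 * (k * a2) * k := by rw [hcen k]
        _ = (a2 * k) * (a2 * k) := by group
        _ = 1 := this
  -- conjugation formulas
  have haK : a ∈ K := hWK haW
  have hbK : b ∈ K := hWK hbW
  have q0a : a0 * a * a0⁻¹ = a := by
    rw [hadef, i0]
    calc a0 * (a1 * a2) * a0 = (a0 * a1) * (a2 * a0) := by group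
      _ = (a1 * a0) * (a0 * a2) := by rw [c01, c02]
      _ = a1 * (a0 * a0) * a2 := by group
      _ = a1 * a2 := by rw [h0, mul_one]
  have q0b : a0 * b * a0⁻¹ = a * b := by
    rw [habv, hbdef, i0]
    calc a0 * (a2 * a3) * a0 = (a0 * a2) * a3 * a0 := by group
      _ = (a2 * a0) * a3 * a0 := by rw [c02]
      _ = a2 * (a0 * a3 * a0) := by group
      _ = a2 * (a1 * a2 * a3) := by rw [r03]
      _ = (a2 * a1) * a2 * a3 := by group
      _ = (a1 * a2) * a2 * a3 := by rw [c12]
      _ = a1 * (a2 * a2) * a3 := by group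
      _ = a1 * a3 := by rw [h2, mul_one]
  have q4a : a4 * a * a4⁻¹ = a * b := by
    rw [habv, hadef, i4]
    calc a4 * (a1 * a2) * a4 = a4 * a1 * (a2 * a4) := by group
      _ = a4 * a1 * (a4 * a2) := by rw [c24]
      _ = (a4 * a1 * a4) * a2 := by group
      _ = (a1 * a2 * a3) * a2 := by rw [r14]
      _ = a1 * a2 * (a3 * a2) := by group
      _ = a1 * a2 * (a2 * a3) := by rw [c23]
      _ = a1 * (a2 * a2) * a3 := by group
      _ = a1 * a3 := by rw [h2, mul_one]
  have q4b : a4 * b * a4⁻¹ = b := by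
    rw [hbdef, i4]
    calc a4 * (a2 * a3) * a4 = a4 * a2 * (a3 * a4) := by group
      _ = a4 * a2 * (a4 * a3) := by rw [c34]
      _ = (a4 * a2) * a4 * a3 := by group
      _ = (a2 * a4) * a4 * a3 := by rw [c24]
      _ = a2 * (a4 * a4) * a3 := by group
      _ = a2 * a3 := by rw [h4, mul_one]
  have habW : a * b ∈ W := W.mul_mem haW hbW
  -- W is normal
  have hconj : ∀ s : X, s * s = 1 → s * a * s⁻¹ ∈ W → s * b * s⁻¹ ∈ W →
      s ∈ normalizer (W : Set X) := by
    intro s hs hsa hsb
    have hsi : s⁻¹ = s := inv_eq_of_mul_eq_one_right hs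
    have hfwd : ∀ w ∈ W, s * w * s⁻¹ ∈ W := by
      intro w hw
      rw [hWdef] at hw
      refine conj_closure_mem {a, b} W s ?_ w hw
      rintro y (rfl | rfl)
      · exact hsa
      · exact hsb
    rw [mem_normalizer_iff]
    intro w
    constructor
    · exact hfwd w
    · intro hw
      have := hfwd _ hw
      have e : s * (s * w * s⁻¹) * s⁻¹ = w := by
        rw [hsi]
        calc s * (s * w * s) * s = (s * s) * w * (s * s) := by group
          _ = w := by rw [hs, one_mul, mul_one]
      rwa [e] at this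
  have hWn : W.Normal := by
    rw [← normalizer_eq_top_iff, eq_top_iff, ← htop, closure_le]
    rintro x (rfl | rfl | rfl | rfl | rfl)
    · exact hconj _ h0 (by rw [q0a]; exact haW) (by rw [q0b]; exact habW)
    · exact hconj _ h1 (by rw [hKc _ h1K a haK]; exact haW) (by rw [hKc _ h1K b hbK]; exact hbW)
    · exact hconj _ h2 (by rw [hKc _ h2K a haK]; exact haW) (by rw [hKc _ h2K b hbK]; exact hbW)
    · exact hconj _ h3 (by rw [hKc _ h3K a haK]; exact haW) (by rw [hKc _ h3K b hbK]; exact hbW)
    · exact hconj _ h4 (by rw [q4a]; exact habW) (by rw [q4b]; exact hbW)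
  -- the centraliser C of W
  obtain ⟨C, hCdef⟩ : ∃ C : Subgroup X, C = (theta W).ker := ⟨_, rfl⟩
  have hCn : C.Normal := by rw [hCdef]; infer_instance
  have hCmem : ∀ x, x ∈ C ↔ ∀ w ∈ W, x * w * x⁻¹ = w := by
    intro x; rw [hCdef]; exact mem_ker_theta W x
  have hKC : K ≤ C := by
    intro k hk
    rw [hCmem]
    intro w hw
    exact hKc k hk w (hWK hw)
  obtain ⟨u, hudef⟩ : ∃ u : X, u = a0 * a4 := ⟨_, rfl⟩
  have hbab : b * (a * b) = a := by rw [hab, ← mul_assoc, hbb, one_mul]
  have qua : u * a * u⁻¹ = b := by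
    have e : u * a * u⁻¹ = a0 * (a4 * a * a4⁻¹) * a0⁻¹ := by rw [hudef]; group
    rw [e, q4a]
    have e' : a0 * (a * b) * a0⁻¹ = (a0 * a * a0⁻¹) * (a0 * b * a0⁻¹) := by group
    rw [e', q0a, q0b, ← mul_assoc, haa, one_mul]
  have qub : u * b * u⁻¹ = a * b := by
    have e : u * b * u⁻¹ = a0 * (a4 * b * a4⁻¹) * a0⁻¹ := by rw [hudef]; group
    rw [e, q4b, q0b]
  have quab : u * (a * b) * u⁻¹ = a := by
    have e : u * (a * b) * u⁻¹ = (u * a * u⁻¹) * (u * b * u⁻¹) := by group
    rw [e, qua, qub, hbab]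
  have hu3C : u ^ 3 ∈ C := by
    rw [hCmem]
    intro w hw
    rw [hWdef] at hw
    refine conj_closure_eq {a, b} (u ^ 3) ?_ w hw
    rintro y (rfl | rfl)
    · have e : u ^ 3 * y * (u ^ 3)⁻¹ = u * (u * (u * y * u⁻¹) * u⁻¹) * u⁻¹ := by
        rw [pow_succ, pow_two]; group
      rw [e, qua, qub, quab]
    · have e : u ^ 3 * y * (u ^ 3)⁻¹ = u * (u * (u * y * u⁻¹) * u⁻¹) * u⁻¹ := by
        rw [pow_succ, pow_two]; group
      rw [e, qub, quab, qua]
  have ha0C : a0 ∉ C := by
    intro h
    rw [hCmem] at h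
    have := h b hbW
    rw [q0b] at this
    apply ha1
    calc a = a * (b * b) := by rw [hbb, mul_one]
      _ = (a * b) * b := by group
      _ = b * b := by rw [this]
      _ = 1 := hbb
  have huC : u ∉ C := by
    intro h
    rw [hCmem] at h
    have := h a haW
    rw [qua] at this
    exact hab1 this.symm
  -- the index of C
  have hidx : C.index = 6 := by
    have hd : C.index = Nat.card (theta W).range := by rw [hCdef]; exact index_ker _
    have hd24 : C.index ∣ 24 := by
      rw [hd]
      have h1 := Subgroup.card_subgroup_dvd_card (theta W).range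
      rw [Nat.card_perm, hW4] at h1
      exact h1
    have hK2n : K.index = 2 * n := by
      have := K.card_mul_index
      rw [hK, hcard] at this
      omega
    have hd2n : C.index ∣ 2 * n := by
      rw [← hK2n]; exact index_dvd_of_le hKC
    have hd2 : 2 ∣ C.index := by
      rw [hd]
      have : Fact (Nat.Prime 2) := ⟨Nat.prime_two⟩
      have ho : orderOf (theta W a0) = 2 := by
        apply orderOf_eq_prime
        · rw [← map_pow, pow_two, h0, map_one]
        · intro h
          apply ha0C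
          rw [hCdef]; exact h
      rw [← ho]
      exact (theta W).range.orderOf_dvd_natCard ⟨a0, rfl⟩
    have hd3 : 3 ∣ C.index := by
      rw [hd]
      have : Fact (Nat.Prime 3) := ⟨Nat.prime_three⟩
      have ho : orderOf (theta W u) = 3 := by
        apply orderOf_eq_prime
        · rw [← map_pow]
          have : u ^ 3 ∈ (theta W).ker := by rw [← hCdef]; exact hu3C
          exact this
        · intro h
          apply huC
          rw [hCdef]; exact h
      rw [← ho]
      exact (theta W).range.orderOf_dvd_natCard ⟨u, rfl⟩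
    obtain ⟨k, rfl⟩ := hodd
    have hle : C.index ≤ 24 := Nat.le_of_dvd (by norm_num) hd24
    generalize C.index = d at *
    interval_cases d <;> omega
  have hCcard : Nat.card C * 6 = 16 * n := by
    have := C.card_mul_index
    rw [hidx, hcard] at this
    exact this
  -- K is central in C
  have hKcenC : ∀ k ∈ K, ∀ c ∈ C, k * c = c * k := by
    intro k hk c hc
    have hcw : ∀ w ∈ W, w * c = c * w := by
      intro w hw
      have := (hCmem c).mp hc w hw
      calc w * c = (c * w * c⁻¹) * c := by rw [this]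
        _ = c * w := by group
    rcases hKenum k hk with h | h
    · exact hcw k h
    · have e : k = a2 * (a2 * k) := by rw [← mul_assoc, h2, one_mul]
      rw [e, mul_assoc, hcw _ h, ← mul_assoc, hcen c, mul_assoc]
  obtain ⟨K', hK'def⟩ : ∃ K' : Subgroup C, K' = K.subgroupOf C := ⟨_, rfl⟩
  have hK'mem : ∀ c : C, c ∈ K' ↔ (c : X) ∈ K := by
    intro c; rw [hK'def]; exact mem_subgroupOf
  have hK'n : K'.Normal := by
    constructor
    intro k hk c
    rw [hK'mem] at hk ⊢
    have : ((c * k * c⁻¹ : C) : X) = k := by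
      rw [Subgroup.coe_mul, Subgroup.coe_mul, Subgroup.coe_inv, ← hKcenC _ hk _ c.2]
      group
    rw [this]; exact hk
  have hK'card : Nat.card K' = 8 := by
    rw [hK'def, ← hK]
    exact Nat.card_congr (Subgroup.subgroupOfEquivOfLe hKC).toEquiv
  obtain ⟨m, hm⟩ : ∃ m, K'.index = m := ⟨_, rfl⟩
  have hCm : Nat.card C = 8 * m := by
    have := K'.card_mul_index
    rw [hK'card, hm] at this
    exact this.symm
  have hn3 : n = 3 * m := by omega
  have hmodd : Odd m := by
    obtain ⟨k, hk⟩ := hodd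
    rw [Nat.odd_iff]; omega
  have hmpos : 0 < m := hmodd.pos
  have hcop : (Nat.card K').Coprime K'.index := by
    rw [hK'card, hm]
    have h2m : Nat.Coprime 2 m := Nat.coprime_two_left.mpr hmodd
    exact Nat.Coprime.pow_left 3 h2m
  obtain ⟨Q', hQ'⟩ := Subgroup.exists_right_complement'_of_coprime hcop
  have hQ'card : Nat.card Q' = m := by
    have := hQ'.card_mul_card
    rw [hK'card, hCm] at this
    omega
  obtain ⟨Q, hQdef⟩ : ∃ Q : Subgroup X, Q = Q'.map C.subtype := ⟨_, rfl⟩
  have hQcard : Nat.card Q = m := by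
    rw [hQdef, Subgroup.card_map_of_injective C.subtype_injective, hQ'card]
  have hQC : Q ≤ C := by
    rw [hQdef]; exact map_subtype_le Q'
  have hCdecomp : ∀ c ∈ C, ∃ k ∈ K, ∃ q ∈ Q, c = k * q := by
    intro c hc
    obtain ⟨⟨k, q⟩, hkq⟩ := hQ'.2 ⟨c, hc⟩
    refine ⟨(k : C), (hK'mem _).mp k.2, ((q : C) : X), ?_, ?_⟩
    · rw [hQdef]; exact ⟨(q : C), q.2, rfl⟩
    · have := congrArg Subtype.val hkq
      simpa using this.symm
  have hQpow : ∀ q ∈ Q, q ^ m = 1 := by
    intro q hq
    rw [hQdef] at hq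
    obtain ⟨q', hq', rfl⟩ := hq
    have h : (⟨q', hq'⟩ : Q') ^ Nat.card Q' = 1 := pow_card_eq_one'
    rw [hQ'card] at h
    have := congrArg (fun z : Q' => ((z : C) : X)) h
    simpa using this
  have hQn : Q.Normal := by
    constructor
    intro q hq x
    have hyC : x * q * x⁻¹ ∈ C := hCn.conj_mem q (hQC hq) x
    obtain ⟨k, hk, q1, hq1, hy⟩ := hCdecomp _ hyC
    have hym : (x * q * x⁻¹) ^ m = 1 := by
      rw [conj_pow, hQpow q hq]; group
    have hcomm : Commute k q1 := hKcenC k hk q1 (hQC hq1)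
    rw [hy, hcomm.mul_pow, hQpow q1 hq1, mul_one, pow_odd_of_sq (hKsq k hk) hmodd] at hym
    rw [hy, hym, one_mul]
    exact hq1
  -- the odd core
  obtain ⟨O, hOdef⟩ : ∃ O : Subgroup X, O = Cfsg.oddCore X := ⟨_, rfl⟩
  have hOn : O.Normal := by rw [hOdef]; infer_instance
  have hQO : Q ≤ O := by
    rw [hOdef]
    apply Cfsg.Agent.Lib.Helper1_Cores.le_pPrimeCore hQn
    rw [hQcard]
    exact Nat.coprime_two_right.mpr hmodd
  have hOodd : (Nat.card O).Coprime 2 := by
    rw [hOdef]; exact Cfsg.Agent.Lib.Helper1_Cores.pPrimeCore_card_coprime 2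
  have hOK : O ⊓ K = ⊥ := by
    apply (Subgroup.disjoint_of_coprime_natCard _).eq_bot
    rw [hK]
    exact Nat.Coprime.pow_right 3 hOodd
  have hOC : O ≤ C := by
    intro o ho
    rw [hCmem]
    intro w hw
    have h1 : o * w * o⁻¹ * w⁻¹ ∈ O ⊓ K := by
      constructor
      · have : o * w * o⁻¹ * w⁻¹ = o * (w * o⁻¹ * w⁻¹) := by group
        rw [this]
        exact O.mul_mem ho (hOn.conj_mem _ (O.inv_mem ho) w)
      · exact K.mul_mem (hWK (hWn.conj_mem w hw o)) (K.inv_mem (hWK hw))
    rw [hOK, mem_bot] at h1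
    calc o * w * o⁻¹ = (o * w * o⁻¹ * w⁻¹) * w := by group
      _ = w := by rw [h1, one_mul]
  have hOcard : Nat.card O = m := by
    apply Nat.dvd_antisymm
    · have h1 : Nat.card K ∣ Nat.card (K ⊔ O : Subgroup X) := card_dvd_of_le le_sup_left
      have h2 : Nat.card O ∣ Nat.card (K ⊔ O : Subgroup X) := card_dvd_of_le le_sup_right
      have h3 : Nat.card (K ⊔ O : Subgroup X) ∣ Nat.card C := card_dvd_of_le (sup_le hKC hOC)
      have hc : Nat.Coprime (Nat.card K) (Nat.card O) := by
        rw [hK]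
        exact (Nat.Coprime.pow_right 3 hOodd).symm
      have h4 := (Nat.Coprime.mul_dvd_of_dvd_of_dvd hc h1 h2).trans h3
      rw [hK, hCm] at h4
      exact Nat.dvd_of_mul_dvd_mul_left (by norm_num) h4
    · rw [← hQcard]; exact card_dvd_of_le hQO
  have hQeqO : Q = O := eq_of_le_of_card_ge hQO (by rw [hOcard, hQcard])
  -- the quotient
  have hYcard : Nat.card (X ⧸ O) = 48 := by
    have h := card_eq_card_quotient_mul_card_subgroup O
    rw [hcard, hOcard, hn3] at h
    have h' : Nat.card (X ⧸ O) * m = 48 * m := by omega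
    exact Nat.eq_of_mul_eq_mul_right hmpos h'
  obtain ⟨π, hπdef⟩ : ∃ π : X →* X ⧸ O, π = QuotientGroup.mk' O := ⟨_, rfl⟩
  have hπsurj : Function.Surjective π := by rw [hπdef]; exact QuotientGroup.mk'_surjective O
  have hπeq : ∀ x y : X, π x = π y → x⁻¹ * y ∈ O := by
    intro x y h
    rw [hπdef] at h
    exact QuotientGroup.eq.mp h
  have hπO : ∀ x ∈ O, π x = 1 := by
    intro x hx
    rw [hπdef]
    exact (QuotientGroup.eq_one_iff x).mpr hx
  have hπinj : ∀ x ∈ K, ∀ y ∈ K, π x = π y → x = y := by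
    intro x hx y hy h
    have h1 : x⁻¹ * y ∈ O ⊓ K := ⟨hπeq x y h, K.mul_mem (K.inv_mem hx) hy⟩
    rw [hOK, mem_bot] at h1
    calc x = x * (x⁻¹ * y) := by rw [h1, mul_one]
      _ = y := by group
  obtain ⟨N, hNdef⟩ : ∃ N : Subgroup (X ⧸ O), N = W.map π := ⟨_, rfl⟩
  have hNmem : ∀ y, y ∈ N ↔ ∃ w ∈ W, π w = y := by
    intro y; rw [hNdef]; exact mem_map
  have hNn : N.Normal := by rw [hNdef]; exact hWn.map π hπsurj
  have hN4 : Nat.card N = 4 := by
    have hinj : Function.Injective (π.comp W.subtype) := by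
      rw [injective_iff_map_eq_one]
      intro w hw
      apply Subtype.ext
      have : π (w : X) = π 1 := by rw [map_one]; exact hw
      exact hπinj _ (hWK w.2) _ K.one_mem this
    have hr : (π.comp W.subtype).range = N := by
      rw [hNdef, MonoidHom.range_comp, Subgroup.range_subtype]
    rw [← hr, ← hW4]
    exact Nat.card_congr (MonoidHom.ofInjective hinj).toEquiv.symm
  have hN2 : ∀ y ∈ N, y ^ 2 = 1 := by
    intro y hy
    obtain ⟨w, hw, rfl⟩ := (hNmem y).mp hy
    rw [← map_pow, pow_two, hWsq w hw, map_one]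
  have hc : ∀ y : X ⧸ O, π a2 * y = y * π a2 := by
    intro y
    obtain ⟨x, rfl⟩ := hπsurj y
    rw [← map_mul, ← map_mul, hcen]
  have hc2 : π a2 ^ 2 = 1 := by rw [← map_pow, pow_two, h2, map_one]
  have hcN : π a2 ∉ N := by
    intro h
    obtain ⟨w, hw, hwc⟩ := (hNmem _).mp h
    have := hπinj w (hWK hw) a2 h2K hwc
    exact h2W (this ▸ hw)
  have hcent : ∀ g : X ⧸ O, (∀ y ∈ N, g * y = y * g) → g ∈ N ∨ π a2 * g ∈ N := by
    intro g hg
    obtain ⟨x, rfl⟩ := hπsurj g
    have hxC : x ∈ C := by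
      rw [hCmem]
      intro w hw
      have h1 := hg (π w) ((hNmem _).mpr ⟨w, hw, rfl⟩)
      rw [← map_mul, ← map_mul] at h1
      have hxw : x * w * x⁻¹ ∈ W := hWn.conj_mem w hw x
      have h2' : π (x * w * x⁻¹) = π w := by
        rw [map_mul, h1, map_mul, mul_assoc, ← map_mul, mul_inv_cancel, map_one, mul_one]
      exact hπinj _ (hWK hxw) _ (hWK hw) h2'
    obtain ⟨k, hk, q, hq, hx⟩ := hCdecomp x hxC
    have hπx : π x = π k := by
      rw [hx, map_mul, hπO q (hQeqO ▸ hq), mul_one]
    rcases hKenum k hk with h | h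
    · left; rw [hπx]; exact (hNmem _).mpr ⟨k, h, rfl⟩
    · right; rw [hπx, ← map_mul]; exact (hNmem _).mpr ⟨a2 * k, h, rfl⟩
  -- the element of order three
  have hu4 : ∀ w ∈ W, u ^ 4 * w * (u ^ 4)⁻¹ = u * w * u⁻¹ := by
    intro w hw
    have e : u ^ 4 * w * (u ^ 4)⁻¹ = u ^ 3 * (u * w * u⁻¹) * (u ^ 3)⁻¹ := by
      rw [pow_succ u 3]; group
    rw [e]
    exact (hCmem _).mp hu3C _ (hWn.conj_mem w hw u)
  obtain ⟨d, hddef⟩ : ∃ d : X ⧸ O, d = π (u ^ 4) := ⟨_, rfl⟩
  have hdconj : ∀ w ∈ W, d * π w * d⁻¹ = π (u * w * u⁻¹) := by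
    intro w hw
    rw [hddef, ← map_inv, ← map_mul, ← map_mul, hu4 w hw]
  have hd1 : d ≠ 1 := by
    intro h
    have := hdconj a haW
    rw [h, one_mul, inv_one, mul_one, qua] at this
    exact hab1 (hπinj a haK b hbK this)
  have hd3 : d ^ 3 = 1 := by
    obtain ⟨k, hk, q, hq, hx⟩ := hCdecomp _ hu3C
    have h1 : π (u ^ 3) = π k := by
      rw [hx, map_mul, hπO q (hQeqO ▸ hq), mul_one]
    have h2' : π (u ^ 3) ^ 2 = 1 := by
      rw [h1, ← map_pow, pow_two, hKsq k hk, map_one]
    have e : d ^ 3 = (π (u ^ 3) ^ 2) ^ 2 := by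
      rw [hddef, ← map_pow, ← map_pow, ← map_pow]
      congr 1
      rw [← pow_mul, ← pow_mul, ← pow_mul]
    rw [e, h2', one_pow]
  have hd : orderOf d = 3 := by
    have : Fact (Nat.Prime 3) := ⟨Nat.prime_three⟩
    exact orderOf_eq_prime hd3 hd1
  have hfpf : ∀ y ∈ N, d * y = y * d → y = 1 := by
    intro y hy hdy
    obtain ⟨w, hw, rfl⟩ := (hNmem y).mp hy
    have h1 : d * π w * d⁻¹ = π w := by rw [hdy]; group
    rw [hdconj w hw] at h1
    have h2' : u * w * u⁻¹ = w := hπinj _ (hWK (hWn.conj_mem w hw u)) _ (hWK hw) h1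
    rcases hWenum w hw with h | h | h | h
    · rw [h, map_one]
    · rw [h, qua] at h2'
      exact absurd h2'.symm hab1
    · rw [h, qub] at h2'
      exfalso; apply ha1
      calc a = a * (b * b) := by rw [hbb, mul_one]
        _ = (a * b) * b := by group
        _ = b * b := by rw [h2']
        _ = 1 := hbb
    · rw [h, quab] at h2'
      exfalso; apply hb1
      calc b = (a * a) * b := by rw [haa, one_mul]
        _ = a * (a * b) := by group
        _ = a * a := by rw [← h2']
        _ = 1 := haa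
  -- the involution t
  have ht2 : π a0 ^ 2 = 1 := by rw [← map_pow, pow_two, h0, map_one]
  have htN : π a0 ∉ N := by
    intro h
    obtain ⟨w, hw, hwt⟩ := (hNmem _).mp h
    have h1 : w⁻¹ * a0 ∈ C := hOC (hπeq w a0 hwt)
    apply ha0C
    have : a0 = w * (w⁻¹ * a0) := by group
    rw [this]; exact C.mul_mem (hKC (hWK hw)) h1
  have htc : π a2 * π a0 ∉ N := by
    intro h
    obtain ⟨w, hw, hwt⟩ := (hNmem _).mp h
    rw [← map_mul] at hwt
    have h1 : w⁻¹ * (a2 * a0) ∈ C := hOC (hπeq w _ hwt)
    apply ha0C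
    have : a0 = a2⁻¹ * (w * (w⁻¹ * (a2 * a0))) := by group
    rw [this]
    exact C.mul_mem (C.inv_mem (hKC h2K)) (C.mul_mem (hKC (hWK hw)) h1)
  have key := Cfsg.Agent.Lib.Helper88_Sims_IS4C2aux.s4c2_of hYcard N hN4 hN2 (π a2) hc hc2 hcN
    hcent d hd hfpf (π a0) ht2 htN htc
  subst hOdef
  exact key

end Main

end Cfsg.Agent.Lib.Helper21_Tutte_ID5bCore
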