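import Mathlib
import Cfsg.Prelude.Def_Solvable
import Cfsg.Prelude.Def_CaseTheorems
import Cfsg.Agent.Lib.Helper84_TutteDefs
import Cfsg.Agent.Lib.Helper84_TutteAPI
import Cfsg.Agent.Lib.Helper21_Tutte_ID5bCore

/-!
# S4385 package ID-5b (architect helper84): `s = 5`, `c = x1 x2` gives `H / O(H) = S4 x 2`.
-/

set_option autoImplicit false

open scoped commutatorElement
open Cfsg.Agent.Lib.Helper84_TutteDefs

namespace Cfsg.Agent.Lib.Helper21_Tutte_ID5b

variable {G : Type*} [Group G] {H : Subgroup G} {g x0 : G} {s lam : ℕ}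

/-- ID-5b (L), paper (3.4) second half. -/
theorem iso_five [Finite G] (h : TSys H g x0 5) (hl : IsLam g x0 3)
    (hc : ⁅xs g x0 0, xs g x0 3⁆ = xs g x0 1 * xs g x0 2) (n : ℕ) (hodd : Odd n)
    (M : Subgroup G) (hKM : XX g x0 1 3 ≤ M) (hMH : M ≤ H) (hM2 : M.relIndex H = 2)
    (hMn : (XX g x0 1 3).relIndex M = n) (hKn : ∀ u ∈ H, cj u (XX g x0 1 3) = XX g x0 1 3) :
    Nonempty (↥H ⧸ Cfsg.oddCore ↥H ≃* Equiv.Perm (Fin 4) × Multiplicative (ZMod 2)) := by
  have htop : XX g x0 0 4 = H := by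
    have := h.top
    norm_num at this
    exact this
  have hmem : ∀ i : ℤ, 0 ≤ i → i ≤ 4 → xs g x0 i ∈ H := by
    intro i h0 h4
    rw [← htop]; exact xs_mem_XX h0 h4
  -- relations
  have sq : ∀ i : ℤ, xs g x0 i * xs g x0 i = 1 := h.xs_sq
  have inv : ∀ i : ℤ, (xs g x0 i)⁻¹ = xs g x0 i := h.xs_inv
  have cm : ∀ i j : ℤ, |i - j| < 3 → xs g x0 i * xs g x0 j = xs g x0 j * xs g x0 i := by
    intro i j hij
    exact hl.commute (by exact_mod_cast hij)
  have r03 : xs g x0 0 * xs g x0 3 * xs g x0 0 = xs g x0 1 * xs g x0 2 * xs g x0 3 := by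
    rw [← hc, commutatorElement_def, inv 0, inv 3]
    have := sq 3
    calc xs g x0 0 * xs g x0 3 * xs g x0 0
        = xs g x0 0 * xs g x0 3 * xs g x0 0 * (xs g x0 3 * xs g x0 3) := by rw [this, mul_one]
      _ = xs g x0 0 * xs g x0 3 * xs g x0 0 * xs g x0 3 * xs g x0 3 := by group
  have hc' : ⁅xs g x0 1, xs g x0 4⁆ = xs g x0 2 * xs g x0 3 := by
    have h1 := comm_shift g x0 0 3 1
    norm_num at h1
    have e1 := xs_conj' g x0 1
    have e2 := xs_conj' g x0 2
    norm_num at e1 e2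
    have e : g⁻¹ * (xs g x0 1 * xs g x0 2) * g
        = (g⁻¹ * xs g x0 1 * g) * (g⁻¹ * xs g x0 2 * g) := by group
    rw [h1, hc, e, e1, e2]
  have r14 : xs g x0 4 * xs g x0 1 * xs g x0 4 = xs g x0 1 * xs g x0 2 * xs g x0 3 := by
    rw [mul_assoc (xs g x0 1), ← hc', commutatorElement_def, inv 1, inv 4]
    have := sq 1
    calc xs g x0 4 * xs g x0 1 * xs g x0 4
        = (xs g x0 1 * xs g x0 1) * (xs g x0 4 * xs g x0 1 * xs g x0 4) := by rw [this, one_mul]
      _ = xs g x0 1 * (xs g x0 1 * xs g x0 4 * xs g x0 1 * xs g x0 4) := by group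
  -- cardinalities
  have hKcard : Nat.card (XX g x0 1 3) = 8 := by
    have := h.card_XX (i := 1) (j := 3) (by norm_num) (by norm_num)
    rw [this]; rfl
  have hHcard : Nat.card H = 16 * n := by
    have h1 := card_mul_relIndex' hKM
    have h2 := card_mul_relIndex' hMH
    rw [hKcard, hMn] at h1
    rw [hM2, ← h1] at h2
    omega
  -- the elements of H
  obtain ⟨a0, ha0⟩ : ∃ a : H, (a : G) = xs g x0 0 := ⟨⟨_, hmem 0 (by norm_num) (by norm_num)⟩, rfl⟩
  obtain ⟨a1, ha1⟩ : ∃ a : H, (a : G) = xs g x0 1 := ⟨⟨_, hmem 1 (by norm_num) (by norm_num)⟩, rfl⟩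
  obtain ⟨a2, ha2⟩ : ∃ a : H, (a : G) = xs g x0 2 := ⟨⟨_, hmem 2 (by norm_num) (by norm_num)⟩, rfl⟩
  obtain ⟨a3, ha3⟩ : ∃ a : H, (a : G) = xs g x0 3 := ⟨⟨_, hmem 3 (by norm_num) (by norm_num)⟩, rfl⟩
  obtain ⟨a4, ha4⟩ : ∃ a : H, (a : G) = xs g x0 4 := ⟨⟨_, hmem 4 (by norm_num) (by norm_num)⟩, rfl⟩
  have hfinH : Finite H := inferInstance
  -- closures
  have hK8 : Nat.card (Subgroup.closure ({a1, a2, a3} : Set H)) = 8 := by
    have hmap : (Subgroup.closure ({a1, a2, a3} : Set H)).map H.subtype = XX g x0 1 3 := by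
      apply le_antisymm
      · rw [Subgroup.map_le_iff_le_comap, Subgroup.closure_le]
        rintro y (rfl | rfl | rfl)
        · show (y : G) ∈ XX g x0 1 3
          rw [ha1]; exact xs_mem_XX (by norm_num) (by norm_num)
        · show (y : G) ∈ XX g x0 1 3
          rw [ha2]; exact xs_mem_XX (by norm_num) (by norm_num)
        · show (y : G) ∈ XX g x0 1 3
          rw [ha3]; exact xs_mem_XX (by norm_num) (by norm_num)
      · rw [XX_le_iff]
        intro l h1 h3
        have : l = 1 ∨ l = 2 ∨ l = 3 := by omega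
        rcases this with rfl | rfl | rfl
        · exact ⟨a1, Subgroup.subset_closure (by simp), ha1⟩
        · exact ⟨a2, Subgroup.subset_closure (by simp), ha2⟩
        · exact ⟨a3, Subgroup.subset_closure (by simp), ha3⟩
    rw [← hKcard, ← hmap, Subgroup.card_map_of_injective H.subtype_injective]
  have hgen : Subgroup.closure ({a0, a1, a2, a3, a4} : Set H) = ⊤ := by
    have hmap : (Subgroup.closure ({a0, a1, a2, a3, a4} : Set H)).map H.subtype = H := by
      apply le_antisymm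
      · exact Subgroup.map_subtype_le _
      · refine le_trans (le_of_eq htop.symm) ?_
        rw [XX_le_iff]
        intro l h1 h3
        have : l = 0 ∨ l = 1 ∨ l = 2 ∨ l = 3 ∨ l = 4 := by omega
        rcases this with rfl | rfl | rfl | rfl | rfl
        · exact ⟨a0, Subgroup.subset_closure (by simp), ha0⟩
        · exact ⟨a1, Subgroup.subset_closure (by simp), ha1⟩
        · exact ⟨a2, Subgroup.subset_closure (by simp), ha2⟩
        · exact ⟨a3, Subgroup.subset_closure (by simp), ha3⟩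
        · exact ⟨a4, Subgroup.subset_closure (by simp), ha4⟩
    rw [eq_top_iff]
    intro y _
    have hy : (y : G) ∈ (Subgroup.closure ({a0, a1, a2, a3, a4} : Set H)).map H.subtype := by
      rw [hmap]; exact y.2
    obtain ⟨z, hz, hzy⟩ := hy
    have : z = y := Subtype.ext hzy
    exact this ▸ hz
  -- transfer of the relations
  have tr : ∀ {p q : H}, (p : G) = (q : G) → p = q := fun h => Subtype.ext h
  refine Cfsg.Agent.Lib.Helper21_Tutte_ID5bCore.s4c2_quot a0 a1 a2 a3 a4 n hodd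
    (tr ?_) (tr ?_) (tr ?_) (tr ?_) (tr ?_) (tr ?_) (tr ?_) (tr ?_) (tr ?_) (tr ?_) (tr ?_) (tr ?_)
    (tr ?_) (tr ?_) hgen hHcard hK8
  · rw [Subgroup.coe_mul, ha0, Subgroup.coe_one]; exact sq 0
  · rw [Subgroup.coe_mul, ha1, Subgroup.coe_one]; exact sq 1
  · rw [Subgroup.coe_mul, ha2, Subgroup.coe_one]; exact sq 2
  · rw [Subgroup.coe_mul, ha3, Subgroup.coe_one]; exact sq 3
  · rw [Subgroup.coe_mul, ha4, Subgroup.coe_one]; exact sq 4
  · rw [Subgroup.coe_mul, Subgroup.coe_mul, ha0, ha1]; exact cm 0 1 (by norm_num)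
  · rw [Subgroup.coe_mul, Subgroup.coe_mul, ha0, ha2]; exact cm 0 2 (by norm_num)
  · rw [Subgroup.coe_mul, Subgroup.coe_mul, ha1, ha2]; exact cm 1 2 (by norm_num)
  · rw [Subgroup.coe_mul, Subgroup.coe_mul, ha1, ha3]; exact cm 1 3 (by norm_num)
  · rw [Subgroup.coe_mul, Subgroup.coe_mul, ha2, ha3]; exact cm 2 3 (by norm_num)
  · rw [Subgroup.coe_mul, Subgroup.coe_mul, ha2, ha4]; exact cm 2 4 (by norm_num)
  · rw [Subgroup.coe_mul, Subgroup.coe_mul, ha3, ha4]; exact cm 3 4 (by norm_num)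
  · simp only [Subgroup.coe_mul, ha0, ha1, ha2, ha3]; exact r03
  · simp only [Subgroup.coe_mul, ha1, ha2, ha3, ha4]; exact r14

end Cfsg.Agent.Lib.Helper21_Tutte_ID5b
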