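import Mathlib
import Cfsg.Agent.Lib.Helper56_U320Defs

/-!
# S1903 market, package STEPA

Left multiplication by `y0` and `y1` on the normal form `y0^β0 y1^β1 y2^β2 y3^β3 c1^γ1 c2^γ2`.
-/

set_option autoImplicit false

open Cfsg.Agent.Lib.Helper56_U320Defs

namespace Cfsg.Agent.Lib.Helper21_U320_STEPA

section
variable {G : Type*} [Group G]

/-- multiplying `cpw` by `c1` flips the first exponent -/
theorem c1_mul_cpw (c1 c2 : G) (c1sq : c1 * c1 = 1) (γ : Gam) :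
    c1 * cpw c1 c2 γ = cpw c1 c2 (!γ.1, γ.2) := by
  rcases γ with ⟨g1, g2⟩
  cases g1
  · simp [cpw]
  · simp [cpw, ← mul_assoc, c1sq]

/-- multiplying `cpw` by `c2` flips the second exponent -/
theorem c2_mul_cpw (c1 c2 : G) (hc2 : ∀ g : G, c2 * g = g * c2) (c2sq : c2 * c2 = 1) (γ : Gam) :
    c2 * cpw c1 c2 γ = cpw c1 c2 (γ.1, !γ.2) := by
  rcases γ with ⟨g1, g2⟩
  have h : c2 * (pw c1 g1 * pw c2 g2) = pw c1 g1 * (c2 * pw c2 g2) := by
    rw [← mul_assoc, hc2 (pw c1 g1), mul_assoc]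
  cases g2
  · simpa [cpw] using h
  · simpa [cpw, c2sq] using h

/-- the core computation, with the tail `y2^β2 y3^β3` replaced by an arbitrary element `r` -/
theorem step01_aux (y0 y1 c1 c2 : G)
    (hc1 : ∀ g : G, c1 * g = g * c1) (hc2 : ∀ g : G, c2 * g = g * c2)
    (c1sq : c1 * c1 = 1) (c2sq : c2 * c2 = 1)
    (q0 : y0 * y0 = c1 * c2) (q1 : y1 * y1 = c1 * c2)
    (h10 : y1 * y0 = y0 * y1 * c1) (r : G) (b0 b1 : Bool) (γ : Gam) :
    y0 * (pw y0 b0 * (pw y1 b1 * (r * cpw c1 c2 γ))) =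
      pw y0 (!b0) * (pw y1 b1 * (r * cpw c1 c2 (xor γ.1 b0, xor γ.2 b0))) ∧
    y1 * (pw y0 b0 * (pw y1 b1 * (r * cpw c1 c2 γ))) =
      pw y0 b0 * (pw y1 (!b1) * (r * cpw c1 c2 (xor γ.1 (xor b0 b1), xor γ.2 b1))) := by
  have k1 := c1_mul_cpw c1 c2 c1sq
  have k2 := c2_mul_cpw c1 c2 hc2 c2sq
  -- moving central elements to the right
  have m1 : ∀ g h : G, c1 * (g * h) = g * (c1 * h) := fun g h => by
    rw [← mul_assoc, hc1 g, mul_assoc]
  have m2 : ∀ g h : G, c2 * (g * h) = g * (c2 * h) := fun g h => by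
    rw [← mul_assoc, hc2 g, mul_assoc]
  have k12 : ∀ γ : Gam, c1 * (c2 * cpw c1 c2 γ) = cpw c1 c2 (!γ.1, !γ.2) := fun γ => by
    rw [k2, k1]
  rcases γ with ⟨g1, g2⟩
  constructor
  · cases b0
    · simp
    · -- y0 * (y0 * P) = c1 * c2 * P
      have : y0 * (y0 * (pw y1 b1 * (r * cpw c1 c2 (g1, g2)))) =
          pw y1 b1 * (r * (c1 * (c2 * cpw c1 c2 (g1, g2)))) := by
        rw [← mul_assoc y0 y0, q0, mul_assoc c1 c2, m2, m2, m1, m1]
      simpa [k12] using this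
  · cases b0
    · cases b1
      · simp
      · have : y1 * (y1 * (r * cpw c1 c2 (g1, g2))) =
            r * (c1 * (c2 * cpw c1 c2 (g1, g2))) := by
          rw [← mul_assoc y1 y1, q1, mul_assoc c1 c2, m2, m1]
        simpa [k12] using this
    · cases b1
      · have : y1 * (y0 * (r * cpw c1 c2 (g1, g2))) =
            y0 * (y1 * (r * (c1 * cpw c1 c2 (g1, g2)))) := by
          rw [← mul_assoc y1 y0, h10, mul_assoc, mul_assoc, m1]
        simpa [k1] using this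
      · have : y1 * (y0 * (y1 * (r * cpw c1 c2 (g1, g2)))) =
            y0 * (r * (c2 * cpw c1 c2 (g1, g2))) := by
          rw [← mul_assoc y1 y0, h10, mul_assoc, mul_assoc, m1, ← mul_assoc y1 y1, q1,
            mul_assoc c1 c2, m2, ← mul_assoc c1 c1, c1sq, one_mul, m2]
        simpa [k2] using this

theorem step01 (y0 y1 y2 y3 c1 c2 : G)
    (hc1 : ∀ g : G, c1 * g = g * c1) (hc2 : ∀ g : G, c2 * g = g * c2)
    (c1sq : c1 * c1 = 1) (c2sq : c2 * c2 = 1)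
    (q0 : y0 * y0 = c1 * c2) (q1 : y1 * y1 = c1 * c2)
    (h10 : y1 * y0 = y0 * y1 * c1) (t : Bits × Gam) :
    y0 * (xpw y0 y1 y2 y3 t.1 * cpw c1 c2 t.2) = xpw y0 y1 y2 y3 (st0 t).1 * cpw c1 c2 (st0 t).2 ∧
    y1 * (xpw y0 y1 y2 y3 t.1 * cpw c1 c2 t.2) = xpw y0 y1 y2 y3 (st1 t).1 * cpw c1 c2 (st1 t).2 := by
  rcases t with ⟨⟨b0, b1, b2, b3⟩, γ⟩
  have h := step01_aux y0 y1 c1 c2 hc1 hc2 c1sq c2sq q0 q1 h10 (pw y2 b2 * pw y3 b3) b0 b1 γ
  simpa only [xpw, st0, st1, mul_assoc] using h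

end

end Cfsg.Agent.Lib.Helper21_U320_STEPA
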