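import Mathlib
import Cfsg.Agent.Lib.Helper37_UTDefs
import Cfsg.Agent.Lib.Helper37_UTPairDefs
import Cfsg.Agent.Lib.Helper17_UT_BAS1

set_option autoImplicit false
set_option linter.unusedSectionVars false
set_option linter.unusedVariables false

/-!
# UTENS market (architect helper37), package UT-DE: the decomposition `B = D ⊥ E` of a base pair

`D = {w | x ⊗ w ∈ ℓ ⊓ ℓ'}`, `E = {e | x ⊗ e ∈ N ℓ'}` (`ℓ = x ⊗ B`, `ℓ' = g ℓ`).  helper21.
-/

namespace Cfsg.Agent.Lib.Helper21_UT_DE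

open Matrix Module
open Cfsg.Agent.Lib.Helper98_ExtDefs Cfsg.Agent.Lib.Helper97_TensDefs
open Cfsg.Agent.Lib.Helper94_Herm Cfsg.Agent.Lib.Helper13_PSUSimple
open Cfsg.Agent.Lib.Helper67_UT2Defs Cfsg.Agent.Lib.Helper37_UTDefs
open Cfsg.Agent.Lib.Helper37_UTPairDefs

variable {F : Type*} [Field F] {ι κ : Type*} [Fintype ι] [Fintype κ] [DecidableEq ι]
  [DecidableEq κ] {σ : F →+* F}
variable {α : (ι → F) →ₗ[F] (ι → F) →ₛₗ[σ] F} {β : (κ → F) →ₗ[F] (κ → F) →ₛₗ[σ] F}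
variable {M : Subgroup (Matrix ι κ F ≃ₗ[F] Matrix ι κ F)}

/-- `w ↦ x ⊗ w` is injective for `x ≠ 0` -/
theorem vmR_injective {x : ι → F} (hx0 : x ≠ 0) : Function.Injective (vmR (κ := κ) x) := by
  intro w w' h
  obtain ⟨i, hi⟩ : ∃ i, x i ≠ 0 := by
    by_contra hne
    apply hx0
    funext i
    by_contra hi
    exact hne ⟨i, hi⟩
  funext j
  have h1 := congrFun (congrFun h i) j
  simp only [vmR_apply, vecMulVec_apply] at h1
  exact mul_left_cancel₀ hi h1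

theorem range_vmR (x : ι → F) : LinearMap.range (vmR (κ := κ) x) = fibB x := by
  ext X
  constructor
  · rintro ⟨w, rfl⟩
    exact ⟨w, rfl⟩
  · rintro ⟨w, rfl⟩
    exact ⟨w, rfl⟩

/-- for `t ≤ x ⊗ B`, `subB x t ≃ t` -/
theorem finrank_subB {x : ι → F} (hx0 : x ≠ 0) (t : Submodule F (Matrix ι κ F))
    (ht : t ≤ fibB x) : finrank F ↥(subB x t) = finrank F ↥t := by
  have hmap : (subB x t).map (vmR x) = t := by
    unfold subB
    rw [Submodule.map_comap_eq, range_vmR]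
    exact inf_eq_right.mpr ht
  have h1 := (Submodule.equivMapOfInjective (vmR x) (vmR_injective hx0) (subB x t)).finrank_eq
  rw [h1, hmap]

/-! ## DE (M): the decomposition `B = D ⊥ E` of a base pair -/

theorem de_facts (hσ : Invol σ) (hα : IsHerm α) (hαN : NondegOn α ⊤) (hβ : IsHerm β)
    (hβN : NondegOn β ⊤) {x : ι → F} (hx0 : x ≠ 0) (hx : α x x = 0)
    {g : Matrix ι κ F ≃ₗ[F] Matrix ι κ F}
    (hℓ' : IsRootOp (tf α β) (Lg x g) (Ng α x g))
    (hG : PairGeo (tf α β) (fibB x) (Lg x g) (nII α x) (Ng α x g)) :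
    subB x (fibB x ⊓ Lg x g) ⊓ subB x ((Lg x g).map (nII α x)) = ⊥ ∧
    subB x (fibB x ⊓ Lg x g) ⊔ subB x ((Lg x g).map (nII α x)) = ⊤ ∧
    (∀ u ∈ subB x (fibB x ⊓ Lg x g), ∀ v ∈ subB x ((Lg x g).map (nII α x)), β u v = 0) ∧
    NondegOn β (subB x (fibB x ⊓ Lg x g)) ∧ NondegOn β (subB x ((Lg x g).map (nII α x))) ∧
    finrank F ↥(subB x (fibB x ⊓ Lg x g)) = finrank F ↥(fibB x ⊓ Lg x g) ∧
    finrank F ↥(subB x ((Lg x g).map (nII α x))) = finrank F ↥((Lg x g).map (nII α x)) ∧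
    (∀ X ∈ (Lg x g).map (nII α x), ∃ e ∈ subB x ((Lg x g).map (nII α x)), X = vecMulVec x e) ∧
    (∀ X ∈ fibB x ⊓ Lg x g, ∃ e ∈ subB x (fibB x ⊓ Lg x g), X = vecMulVec x e) := by
  have hinj := vmR_injective (κ := κ) hx0
  have hJℓ : (Lg x g).map (nII α x) ≤ fibB x := by
    rw [← hG.J_sup]
    exact le_sup_left
  have hIℓ : fibB x ⊓ Lg x g ≤ fibB (κ := κ) x := inf_le_left
  have h8 : ∀ X ∈ (Lg x g).map (nII α x),
      ∃ e ∈ subB x ((Lg x g).map (nII α x)), X = vecMulVec x e := by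
    intro X hX
    obtain ⟨e, rfl⟩ := hJℓ hX
    exact ⟨e, hX, rfl⟩
  have h9 : ∀ X ∈ fibB x ⊓ Lg x g, ∃ e ∈ subB x (fibB x ⊓ Lg x g), X = vecMulVec x e := by
    intro X hX
    obtain ⟨e, rfl⟩ := hIℓ hX
    exact ⟨e, hX, rfl⟩
  -- orthogonality, in the order `β v u`
  have h3' : ∀ u ∈ subB x (fibB x ⊓ Lg x g), ∀ v ∈ subB x ((Lg x g).map (nII α x)),
      β v u = 0 := by
    intro u hu v hv
    obtain ⟨X', hX', hX'v⟩ := (Submodule.mem_map).mp (mem_subB.mp hv)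
    rw [Cfsg.Agent.Lib.Helper17_UT_BAS1.nII_apply] at hX'v
    have hv' : ctrA α x X' = v := hinj hX'v
    rw [← hv', ← Cfsg.Agent.Lib.Helper17_UT_BAS1.tf_right_pure']
    exact hℓ'.ti hX' _ (mem_subB.mp hu).2
  have h3 : ∀ u ∈ subB x (fibB x ⊓ Lg x g), ∀ v ∈ subB x ((Lg x g).map (nII α x)),
      β u v = 0 := by
    intro u hu v hv
    rw [hβ v u, h3' u hu v hv, map_zero]
  have h2 : subB x (fibB x ⊓ Lg x g) ⊔ subB x ((Lg x g).map (nII α x)) = ⊤ := by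
    rw [eq_top_iff]
    intro w _
    have hw : vecMulVec x w ∈ fibB (κ := κ) x := ⟨w, rfl⟩
    rw [← hG.J_sup] at hw
    obtain ⟨j, hj, i, hi, hji⟩ := Submodule.mem_sup.mp hw
    obtain ⟨e, he, rfl⟩ := h8 j hj
    obtain ⟨d', hd', rfl⟩ := h9 i hi
    have hwe : w = d' + e := by
      apply hinj
      rw [map_add, vmR_apply, vmR_apply, vmR_apply, ← hji, add_comm]
    rw [hwe]
    exact Submodule.add_mem_sup hd' he
  refine ⟨?_, h2, h3, ?_, ?_, finrank_subB hx0 _ hIℓ, finrank_subB hx0 _ hJℓ, h8, h9⟩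
  · -- `D ⊓ E = ⊥`
    rw [eq_bot_iff]
    intro w hw
    have h1 : vecMulVec x w ∈ (Lg x g).map (nII α x) ⊓ (fibB x ⊓ Lg x g) :=
      ⟨mem_subB.mp hw.2, mem_subB.mp hw.1⟩
    rw [hG.J_disj] at h1
    have h0 : vmR x w = vmR x 0 := by
      rw [map_zero]
      exact (Submodule.mem_bot F).mp h1
    rw [Submodule.mem_bot]
    exact hinj h0
  · -- `D` nondegenerate
    intro u hu hu0
    obtain ⟨y, -, hy⟩ := hβN u Submodule.mem_top hu0
    have hy' : y ∈ subB x (fibB x ⊓ Lg x g) ⊔ subB x ((Lg x g).map (nII α x)) := by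
      rw [h2]; exact Submodule.mem_top
    obtain ⟨d', hd', e, he, rfl⟩ := Submodule.mem_sup.mp hy'
    refine ⟨d', hd', ?_⟩
    rw [map_add, h3 u hu e he, add_zero] at hy
    exact hy
  · -- `E` nondegenerate
    intro v hv hv0
    obtain ⟨y, -, hy⟩ := hβN v Submodule.mem_top hv0
    have hy' : y ∈ subB x (fibB x ⊓ Lg x g) ⊔ subB x ((Lg x g).map (nII α x)) := by
      rw [h2]; exact Submodule.mem_top
    obtain ⟨d', hd', e, he, rfl⟩ := Submodule.mem_sup.mp hy'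
    refine ⟨e, he, ?_⟩
    rw [map_add, h3' d' hd' v hv, zero_add] at hy
    exact hy

end Cfsg.Agent.Lib.Helper21_UT_DE
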