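import Mathlib

/-!
# S3796 (Ward), package W1 (for helper87): two ring identities

* `ring_cyc`, `ring_frob`: statements verbatim from `pending/helper87/WardPieces.lean.txt`.
* `sum_pow_mul`: for `Y ^ q = 1`, `q` prime, `q ∤ t`: `∑_{i<q} Y^(t*i) = ∑_{i<q} Y^i`.
-/

set_option autoImplicit false

namespace Cfsg.Agent.Lib.Helper21_WardW1

theorem pow_mod_of_pow_eq_one {R : Type*} [Monoid R] {q : ℕ} (Y : R) (hY : Y ^ q = 1) (n : ℕ) :
    Y ^ n = Y ^ (n % q) := by
  conv_lhs => rw [← Nat.div_add_mod n q, pow_add, pow_mul, hY, one_pow, one_mul]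

theorem sum_pow_mul {R : Type*} [Ring R] {q : ℕ} (hq : q.Prime) (Y : R) (hY : Y ^ q = 1) (t : ℕ)
    (ht : ¬ q ∣ t) :
    ∑ i ∈ Finset.range q, Y ^ (t * i) = ∑ i ∈ Finset.range q, Y ^ i := by
  have hcop : Nat.gcd q t = 1 := (Nat.Prime.coprime_iff_not_dvd hq).mpr ht
  have hinj : Set.InjOn (fun i => (t * i) % q) (Finset.range q : Set ℕ) := by
    intro i hi i' hi' h
    simp only [Finset.coe_range, Set.mem_Iio] at hi hi'
    have h1 : t * i ≡ t * i' [MOD q] := h
    have h2 : i ≡ i' [MOD q] := Nat.ModEq.cancel_left_of_coprime hcop h1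
    exact Nat.ModEq.eq_of_lt_of_lt h2 hi hi'
  have himg : (Finset.range q).image (fun i => (t * i) % q) = Finset.range q := by
    apply Finset.eq_of_subset_of_card_le
    · intro x hx
      obtain ⟨i, _, rfl⟩ := Finset.mem_image.mp hx
      exact Finset.mem_range.mpr (Nat.mod_lt _ hq.pos)
    · rw [Finset.card_image_of_injOn hinj]
  calc ∑ i ∈ Finset.range q, Y ^ (t * i)
      = ∑ i ∈ Finset.range q, Y ^ ((t * i) % q) :=
        Finset.sum_congr rfl (fun i _ => pow_mod_of_pow_eq_one Y hY _)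
    _ = ∑ x ∈ (Finset.range q).image (fun i => (t * i) % q), Y ^ x :=
        (Finset.sum_image hinj).symm
    _ = ∑ i ∈ Finset.range q, Y ^ i := by rw [himg]

/-- W1a -/
theorem ring_cyc {R : Type*} [Ring R] {q : ℕ} (hq : q.Prime) (Y Z : R) (hYZ : Commute Y Z)
    (hY : Y ^ q = 1) (hZ : Z ^ q = 1) (hNY : ∑ i ∈ Finset.range q, Y ^ i = 0)
    (hN : ∀ i < q, ∑ j ∈ Finset.range q, (Y ^ i * Z) ^ j = 0) : (q : R) = 0 := by
  have h1 : ∑ i ∈ Finset.range q, ∑ j ∈ Finset.range q, (Y ^ i * Z) ^ j = 0 :=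
    Finset.sum_eq_zero (fun i hi => hN i (Finset.mem_range.mp hi))
  rw [Finset.sum_comm] at h1
  have h2 : ∀ j ∈ Finset.range q,
      ∑ i ∈ Finset.range q, (Y ^ i * Z) ^ j = if j = 0 then (q : R) else 0 := by
    intro j hj
    have hc : ∀ i, (Y ^ i * Z) ^ j = Y ^ (j * i) * Z ^ j := by
      intro i
      rw [(hYZ.pow_left i).mul_pow, ← pow_mul, mul_comm i j]
    simp_rw [hc]
    rw [← Finset.sum_mul]
    split_ifs with h0
    · subst h0
      simp
    · have hnd : ¬ q ∣ j := by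
        intro hd
        have h3 := Nat.le_of_dvd (Nat.pos_of_ne_zero h0) hd
        have h4 := Finset.mem_range.mp hj
        omega
      rw [sum_pow_mul hq Y hY j hnd, hNY, zero_mul]
  rw [Finset.sum_congr rfl h2] at h1
  simpa [Finset.sum_ite_eq', hq.pos] using h1

/-- W1b -/
theorem ring_frob {R : Type*} [Ring R] {p q : ℕ} (hp : 0 < p) (hq : q.Prime) (Y B : R) (m : ℕ)
    (hY : Y ^ q = 1) (hNY : ∑ i ∈ Finset.range q, Y ^ i = 0) (hBY : B * Y = Y ^ m * B)
    (hm : ∀ j, 0 < j → j < p → ¬ (m ^ j ≡ 1 [MOD q])) :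
    ∑ i ∈ Finset.range q, Y ^ ((q - 1) * i) * (∑ j ∈ Finset.range p, B ^ j) * Y ^ i = (q : R) := by
  have hB1 : ∀ i, B * Y ^ i = Y ^ (m * i) * B := by
    intro i
    induction i with
    | zero => simp
    | succ i ih =>
      rw [pow_succ, ← mul_assoc, ih, mul_assoc, hBY, ← mul_assoc, ← pow_add]
      congr 2
  have hB2 : ∀ j i, B ^ j * Y ^ i = Y ^ (i * m ^ j) * B ^ j := by
    intro j
    induction j with
    | zero =>
      intro i
      simp
    | succ j ih =>
      intro i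
      rw [pow_succ' B j, mul_assoc, ih, ← mul_assoc, hB1, mul_assoc]
      congr 2
      ring
  have h3 : ∀ i, Y ^ ((q - 1) * i) * (∑ j ∈ Finset.range p, B ^ j) * Y ^ i =
      ∑ j ∈ Finset.range p, Y ^ ((q - 1 + m ^ j) * i) * B ^ j := by
    intro i
    rw [Finset.mul_sum, Finset.sum_mul]
    apply Finset.sum_congr rfl
    intro j _
    rw [mul_assoc, hB2, ← mul_assoc, ← pow_add]
    congr 2
    ring
  simp_rw [h3]
  rw [Finset.sum_comm]
  have h4 : ∀ j ∈ Finset.range p,
      ∑ i ∈ Finset.range q, Y ^ ((q - 1 + m ^ j) * i) * B ^ j =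
        if j = 0 then (q : R) else 0 := by
    intro j hj
    rw [← Finset.sum_mul]
    split_ifs with h0
    · subst h0
      have h5 : q - 1 + m ^ 0 = q := by
        have := hq.pos
        rw [pow_zero]
        omega
      simp_rw [h5, pow_mul, hY, one_pow]
      simp
    · have hnd : ¬ q ∣ (q - 1 + m ^ j) := by
        intro hd
        apply hm j (Nat.pos_of_ne_zero h0) (Finset.mem_range.mp hj)
        have h5 : q - 1 + m ^ j ≡ 0 [MOD q] := (Nat.modEq_zero_iff_dvd).mpr hd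
        have h6 : q - 1 + m ^ j + 1 ≡ 0 + 1 [MOD q] := h5.add_right 1
        have h7 : q - 1 + m ^ j + 1 = q + m ^ j := by
          have := hq.pos
          omega
        rw [h7] at h6
        have h8 : q + m ^ j ≡ m ^ j [MOD q] := by simp [Nat.ModEq]
        exact h8.symm.trans h6
      rw [sum_pow_mul hq Y hY _ hnd, hNY, zero_mul]
  rw [Finset.sum_congr rfl h4]
  simp [Finset.sum_ite_eq', hp]

end Cfsg.Agent.Lib.Helper21_WardW1
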