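import Mathlib

/-!
The Baer trick (helper22): a group of class at most two in which every element has a unique square root
(for instance a finite group of odd order) carries an abelian group structure `x + y = x y [x,y]^{-1/2}`
preserved by all automorphisms, with the same powers.
-/

set_option autoImplicit false

namespace Cfsg.Agent.Lib.Helper22_Baer

open scoped commutatorElement

variable {P : Type*} [Group P]

/-- all commutators are central -/
def IsClass2 (P : Type*) [Group P] : Prop := ∀ x y z : P, ⁅x, y⁆ * z = z * ⁅x, y⁆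

/-- `c` is central -/
def Cen (c : P) : Prop := ∀ z : P, c * z = z * c

theorem Cen.mul {c d : P} (hc : Cen c) (hd : Cen d) : Cen (c * d) := by
  intro z
  rw [mul_assoc, hd z, ← mul_assoc, hc z, mul_assoc]

theorem Cen.inv {c : P} (hc : Cen c) : Cen c⁻¹ := by
  intro z
  have := hc z⁻¹
  have h2 : (c * z⁻¹)⁻¹ = (z⁻¹ * c)⁻¹ := by rw [this]
  simpa [mul_inv_rev] using h2.symm

theorem Cen.one : Cen (1 : P) := fun z => by simp

theorem Cen.pow {c : P} (hc : Cen c) (n : ℕ) : Cen (c ^ n) := by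
  induction n with
  | zero => simpa using (Cen.one : Cen (1 : P))
  | succ n ih => rw [pow_succ]; exact ih.mul hc

theorem IsClass2.cen (h : IsClass2 P) (x y : P) : Cen ⁅x, y⁆ := h x y

theorem commutator_cen_left {c : P} (hc : Cen c) (y : P) : ⁅c, y⁆ = 1 := by
  rw [commutatorElement_def, hc y, mul_assoc, mul_assoc, mul_inv_cancel_left, mul_inv_cancel]

theorem commutator_cen_right {c : P} (hc : Cen c) (x : P) : ⁅x, c⁆ = 1 := by
  rw [commutatorElement_def, ← hc x, mul_assoc, mul_assoc, mul_inv_cancel_left, mul_inv_cancel]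

theorem IsClass2.commutator_mul_left (h : IsClass2 P) (x y z : P) : ⁅x * y, z⁆ = ⁅x, z⁆ * ⁅y, z⁆ := by
  have e : ⁅x * y, z⁆ = x * ⁅y, z⁆ * x⁻¹ * ⁅x, z⁆ := by
    simp only [commutatorElement_def]; group
  rw [e, ← h y z x, mul_assoc (⁅y, z⁆), mul_inv_cancel, mul_one, h y z]

theorem IsClass2.commutator_mul_right (h : IsClass2 P) (x y z : P) : ⁅x, y * z⁆ = ⁅x, y⁆ * ⁅x, z⁆ := by
  have e : ⁅x, y * z⁆ = ⁅x, y⁆ * (y * ⁅x, z⁆ * y⁻¹) := by
    simp only [commutatorElement_def]; group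
  rw [e, ← h x z y, mul_assoc (⁅x, z⁆), mul_inv_cancel, mul_one]

theorem IsClass2.commutator_mul_cen_left (h : IsClass2 P) (x y : P) {c : P} (hc : Cen c) :
    ⁅x * c, y⁆ = ⁅x, y⁆ := by
  rw [h.commutator_mul_left, commutator_cen_left hc, mul_one]

theorem IsClass2.commutator_mul_cen_right (h : IsClass2 P) (x y : P) {c : P} (hc : Cen c) :
    ⁅x, y * c⁆ = ⁅x, y⁆ := by
  rw [h.commutator_mul_right, commutator_cen_right hc, mul_one]

/-- the correction term `c ↦ c^{-k}`, where `2k ≡ 1` -/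
def nh (k : ℕ) (c : P) : P := (c⁻¹) ^ k

theorem nh_cen (k : ℕ) {c : P} (hc : Cen c) : Cen (nh k c) := (hc.inv).pow k

theorem nh_mul (k : ℕ) {c d : P} (hc : Cen c) : nh k (c * d) = nh k c * nh k d := by
  unfold nh
  have hcomm : Commute c⁻¹ d⁻¹ := (hc.inv d⁻¹)
  rw [mul_inv_rev, ← hcomm.eq, hcomm.mul_pow]

theorem nh_one (k : ℕ) : nh k (1 : P) = 1 := by simp [nh]

/-- Baer's addition -/
def badd (k : ℕ) (x y : P) : P := x * y * nh k ⁅x, y⁆

theorem badd_comm (h : IsClass2 P) (k : ℕ) (hk : ∀ c : P, c ^ (2 * k) = c) (x y : P) :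
    badd k x y = badd k y x := by
  unfold badd nh
  have hc := h.cen x y
  have e1 : x * y = ⁅x, y⁆ * (y * x) := by simp only [commutatorElement_def]; group
  have e2 : ⁅y, x⁆ = ⁅x, y⁆⁻¹ := (commutatorElement_inv x y).symm
  rw [e2, inv_inv, e1, hc (y * x), mul_assoc]
  congr 1
  -- `c * (c⁻¹)^k = c^k`
  have h1 : ⁅x, y⁆ ^ k * ⁅x, y⁆ ^ k = ⁅x, y⁆ := by rw [← pow_add, ← two_mul, hk]
  calc ⁅x, y⁆ * (⁅x, y⁆⁻¹) ^ k = ⁅x, y⁆ ^ k * ⁅x, y⁆ ^ k * (⁅x, y⁆⁻¹) ^ k := by rw [h1]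
    _ = ⁅x, y⁆ ^ k := by rw [inv_pow, mul_inv_cancel_right]

theorem badd_assoc (h : IsClass2 P) (k : ℕ) (x y z : P) :
    badd k (badd k x y) z = badd k x (badd k y z) := by
  unfold badd
  have hxy := nh_cen k (h.cen x y)
  have hyz := nh_cen k (h.cen y z)
  have hxz := nh_cen k (h.cen x z)
  rw [h.commutator_mul_cen_left _ _ hxy, h.commutator_mul_left, nh_mul k (h.cen x z),
    h.commutator_mul_cen_right _ _ hyz, h.commutator_mul_right, nh_mul k (h.cen x y)]
  -- `x y H(xy) z H(xz) H(yz) = x (y z H(yz)) (H(xy) H(xz))`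
  calc x * y * nh k ⁅x, y⁆ * z * (nh k ⁅x, z⁆ * nh k ⁅y, z⁆)
      = x * y * (nh k ⁅x, y⁆ * z) * (nh k ⁅x, z⁆ * nh k ⁅y, z⁆) := by group
    _ = x * y * (z * nh k ⁅x, y⁆) * (nh k ⁅x, z⁆ * nh k ⁅y, z⁆) := by rw [hxy z]
    _ = x * y * z * (nh k ⁅x, y⁆ * nh k ⁅x, z⁆ * nh k ⁅y, z⁆) := by group
    _ = x * y * z * (nh k ⁅y, z⁆ * (nh k ⁅x, y⁆ * nh k ⁅x, z⁆)) := by rw [← hyz]
    _ = x * (y * z * nh k ⁅y, z⁆) * (nh k ⁅x, y⁆ * nh k ⁅x, z⁆) := by group

theorem badd_one (k : ℕ) (x : P) : badd k x 1 = x := by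
  unfold badd
  rw [commutatorElement_one_right, nh_one, mul_one, mul_one]

theorem one_badd (k : ℕ) (x : P) : badd k 1 x = x := by
  unfold badd
  rw [commutatorElement_one_left, nh_one, mul_one, one_mul]

theorem inv_badd (k : ℕ) (x : P) : badd k x⁻¹ x = 1 := by
  unfold badd
  have : ⁅x⁻¹, x⁆ = 1 := by simp [commutatorElement_def]
  rw [this, nh_one, mul_one, inv_mul_cancel]

/-- Baer's group structure -/
@[reducible] def baerAddGroup (h : IsClass2 P) (k : ℕ) : AddGroup P :=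
  @AddGroup.ofLeftAxioms P ⟨badd k⟩ ⟨fun x => x⁻¹⟩ ⟨1⟩ (badd_assoc h k) (one_badd k) (inv_badd k)

/-- Baer's abelian group structure -/
@[reducible] def baerAddCommGroup (h : IsClass2 P) (k : ℕ) (hk : ∀ c : P, c ^ (2 * k) = c) :
    AddCommGroup P :=
  { baerAddGroup h k with add_comm := badd_comm h k hk }

theorem map_badd {P' : Type*} [Group P'] (φ : P →* P') (k : ℕ) (x y : P) :
    φ (badd k x y) = badd k (φ x) (φ y) := by
  unfold badd nh
  rw [map_mul, map_mul, map_pow, map_inv, map_commutatorElement]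

theorem badd_pow (k : ℕ) (x : P) (n : ℕ) : badd k (x ^ n) x = x ^ (n + 1) := by
  unfold badd
  have : ⁅x ^ n, x⁆ = 1 := by
    rw [commutatorElement_eq_one_iff_commute]
    exact (Commute.refl x).pow_left n
  rw [this, nh_one, mul_one, pow_succ]

theorem baer_nsmul (h : IsClass2 P) (k : ℕ) (hk : ∀ c : P, c ^ (2 * k) = c) (n : ℕ) (x : P) :
    letI := baerAddCommGroup h k hk
    n • x = x ^ n := by
  letI := baerAddCommGroup h k hk
  induction n with
  | zero => rw [zero_nsmul, pow_zero]; rfl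
  | succ n ih =>
    rw [succ_nsmul, ih]
    exact badd_pow k x n

end Cfsg.Agent.Lib.Helper22_Baer
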