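import Mathlib

/-!
A fixed point lemma for modules (helper22).

Let a group `N` act on a finite abelian `p`-group `L` by automorphisms, `Q, A ≤ N` with `A` a `p`-group normalizing
the `p'`-group `Q`.  If `Q` fixes every element of order dividing `p` fixed by `A`, then `Q` acts trivially on `L`.
-/

set_option autoImplicit false

namespace Cfsg.Agent.Lib.Helper22_FixedModule

theorem smul_eq_self_of_fixed {N L : Type*} [Group N] [AddCommGroup L] [Finite L] [DistribMulAction N L]
    (p : ℕ) [Fact p.Prime] (hL : ∃ n, Nat.card L = p ^ n)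
    (Q A : Subgroup N) [Finite Q] (hA : IsPGroup p A) (hQ : (Nat.card Q).Coprime p)
    (hAQ : ∀ a ∈ A, ∀ s ∈ Q, a * s * a⁻¹ ∈ Q)
    (H : ∀ x : L, p • x = 0 → (∀ a ∈ A, a • x = x) → ∀ s ∈ Q, s • x = x) :
    ∀ s ∈ Q, ∀ x : L, s • x = x := by
  classical
  have hp : p.Prime := Fact.out
  have : Fintype Q := Fintype.ofFinite Q
  obtain ⟨n, hn⟩ := hL
  let ε : L → L := fun x => ∑ s : Q, (s : N) • x
  have εdef : ∀ x, ε x = ∑ s : Q, (s : N) • x := fun _ => rfl
  have εadd : ∀ x y, ε (x + y) = ε x + ε y := by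
    intro x y; simp only [εdef, smul_add, Finset.sum_add_distrib]
  have εzero : ε 0 = 0 := by simp [εdef]
  have εneg : ∀ x, ε (-x) = - ε x := by
    intro x; simp only [εdef, smul_neg, Finset.sum_neg_distrib]
  have ε1 : ∀ t ∈ Q, ∀ x, ε (t • x) = ε x := by
    intro t ht x
    simp only [εdef]
    refine Fintype.sum_equiv (Equiv.mulRight (⟨t, ht⟩ : Q)) _ _ (fun s => ?_)
    simp [mul_smul]
  have ε3 : ∀ a ∈ A, ∀ x, a • ε x = ε (a • x) := by
    intro a ha x
    simp only [εdef, Finset.smul_sum]
    let e : Q ≃ Q :=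
      { toFun := fun s => ⟨a * s * a⁻¹, hAQ a ha s s.2⟩
        invFun := fun s => ⟨a⁻¹ * s * a, by
          have := hAQ a⁻¹ (inv_mem ha) s s.2
          simpa using this⟩
        left_inv := fun s => by apply Subtype.ext; simp [mul_assoc]
        right_inv := fun s => by apply Subtype.ext; simp [mul_assoc] }
    refine Fintype.sum_equiv e _ _ (fun s => ?_)
    show a • (s : N) • x = (a * (s : N) * a⁻¹) • a • x
    simp [mul_smul]
  -- an element of `ker ε` fixed by `Q` is zero
  have h4 : ∀ x : L, ε x = 0 → (∀ s ∈ Q, s • x = x) → x = 0 := by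
    intro x hx hfix
    have h1 : ε x = Nat.card Q • x := by
      rw [εdef]
      have : ∀ s : Q, (s : N) • x = x := fun s => hfix s s.2
      simp only [this, Finset.sum_const, Finset.card_univ, Nat.card_eq_fintype_card]
    rw [h1] at hx
    have h2 : addOrderOf x ∣ Nat.card Q := addOrderOf_dvd_of_nsmul_eq_zero hx
    have h3 : addOrderOf x ∣ p ^ n := by rw [← hn]; exact addOrderOf_dvd_natCard x
    have h5 : addOrderOf x = 1 :=
      Nat.eq_one_of_dvd_coprimes (Nat.Coprime.pow_right n hQ) h2 h3
    exact AddMonoid.addOrderOf_eq_one_iff.mp h5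
  by_contra hcon
  push Not at hcon
  obtain ⟨t, ht, x₀, hx₀⟩ := hcon
  -- the kernel of `ε`
  let M₀ : AddSubgroup L :=
    { carrier := {x | ε x = 0}
      zero_mem' := εzero
      add_mem' := fun {x y} hx hy => by
        show ε (x + y) = 0
        rw [εadd, show ε x = 0 from hx, show ε y = 0 from hy, add_zero]
      neg_mem' := fun {x} hx => by
        show ε (-x) = 0
        rw [εneg, show ε x = 0 from hx, neg_zero] }
  have hy₀ : t • x₀ - x₀ ∈ M₀ := by
    show ε (t • x₀ - x₀) = 0
    rw [sub_eq_add_neg, εadd, εneg, ε1 t ht, add_neg_cancel]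
  have hy₀ne : t • x₀ - x₀ ≠ 0 := sub_ne_zero.mpr hx₀
  have hM₀card : Nat.card M₀ ∣ p ^ n := by
    rw [← hn]; exact AddSubgroup.card_addSubgroup_dvd_card M₀
  have hpM₀ : p ∣ Nat.card M₀ := by
    obtain ⟨j, -, hj⟩ := (Nat.dvd_prime_pow hp).mp hM₀card
    rcases Nat.eq_zero_or_pos j with h0 | hpos
    · exfalso
      rw [h0, pow_zero] at hj
      have hsub : Subsingleton M₀ := (Nat.card_eq_one_iff_unique.mp hj).1
      have := Subsingleton.elim (⟨t • x₀ - x₀, hy₀⟩ : M₀) 0
      exact hy₀ne (congrArg Subtype.val this)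
    · rw [hj]; exact dvd_pow_self p hpos.ne'
  obtain ⟨y, hy⟩ := exists_prime_addOrderOf_dvd_card' p hpM₀
  -- the `p`-torsion of the kernel
  let M : AddSubgroup L :=
    { carrier := {x | ε x = 0 ∧ p • x = 0}
      zero_mem' := ⟨εzero, smul_zero p⟩
      add_mem' := fun {x y} hx hy => by
        refine ⟨?_, ?_⟩
        · show ε (x + y) = 0
          rw [εadd, hx.1, hy.1, add_zero]
        · rw [smul_add, hx.2, hy.2, add_zero]
      neg_mem' := fun {x} hx => by
        refine ⟨?_, ?_⟩
        · show ε (-x) = 0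
          rw [εneg, hx.1, neg_zero]
        · rw [smul_neg, hx.2, neg_zero] }
  have hyM : (y : L) ∈ M := by
    refine ⟨y.2, ?_⟩
    have h1 : p • y = 0 := by rw [← hy]; exact addOrderOf_nsmul_eq_zero y
    have h2 := congrArg (fun z : M₀ => (z : L)) h1
    simpa using h2
  have hyne : (y : L) ≠ 0 := by
    intro h
    have h1 : y = 0 := Subtype.ext h
    rw [h1, addOrderOf_zero] at hy
    exact hp.one_lt.ne hy
  have hMcard : Nat.card M ∣ p ^ n := by
    rw [← hn]; exact AddSubgroup.card_addSubgroup_dvd_card M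
  have hpM : p ∣ Nat.card M := by
    obtain ⟨j, -, hj⟩ := (Nat.dvd_prime_pow hp).mp hMcard
    rcases Nat.eq_zero_or_pos j with h0 | hpos
    · exfalso
      rw [h0, pow_zero] at hj
      have hsub : Subsingleton M := (Nat.card_eq_one_iff_unique.mp hj).1
      have := Subsingleton.elim (⟨(y : L), hyM⟩ : M) 0
      exact hyne (congrArg Subtype.val this)
    · rw [hj]; exact dvd_pow_self p hpos.ne'
  let _inst : MulAction A M :=
    { smul := fun a x => ⟨(a : N) • (x : L), by
        refine ⟨?_, ?_⟩
        · show ε ((a : N) • (x : L)) = 0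
          rw [← ε3 a a.2, x.2.1, smul_zero]
        · rw [smul_comm, x.2.2, smul_zero]⟩
      one_smul := fun x => by
        apply Subtype.ext
        show ((1 : A) : N) • (x : L) = x
        simp
      mul_smul := fun a b x => by
        apply Subtype.ext
        show ((a * b : A) : N) • (x : L) = (a : N) • (b : N) • (x : L)
        simp [mul_smul] }
  have h0fix : (0 : M) ∈ MulAction.fixedPoints A M := by
    rw [MulAction.mem_fixedPoints]
    intro a
    apply Subtype.ext
    show (a : N) • ((0 : M) : L) = ((0 : M) : L)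
    simp
  obtain ⟨b, hb, hb0⟩ := hA.exists_fixed_point_of_prime_dvd_card_of_fixed_point M hpM h0fix
  rw [MulAction.mem_fixedPoints] at hb
  have hbA : ∀ a ∈ A, a • (b : L) = b := by
    intro a ha
    have := congrArg Subtype.val (hb ⟨a, ha⟩)
    exact this
  have hbQ := H (b : L) b.2.2 hbA
  have := h4 (b : L) b.2.1 hbQ
  exact hb0 (Subtype.ext this.symm)

end Cfsg.Agent.Lib.Helper22_FixedModule
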