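import Cfsg.Agent.Lib.Helper22_Baer
import Cfsg.Agent.Lib.Helper22_FixedModule
import Cfsg.Agent.Lib.Helper24_CoprimeAction

/-!
A `p'`-group `Q` normalized by a `p`-group `A`, both acting on a `p`-group `R` (`p` odd): if `Q` centralizes every
element of order dividing `p` of `C_R(A)`, then `Q` centralizes `R` (helper22).
-/

set_option autoImplicit false

namespace Cfsg.Agent.Lib.Helper22_BaerAction

open Subgroup Cfsg.Agent.Lib.Helper22_Baer Cfsg.Agent.Lib.Helper22_FixedModule
  Cfsg.Agent.Lib.Helper24_CoprimeAction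

open scoped commutatorElement

variable {G : Type*} [Group G]

theorem coe_commutatorElement (R : Subgroup G) (x y : R) : ((⁅x, y⁆ : R) : G) = ⁅(x : G), (y : G)⁆ := by
  simp [commutatorElement_def]

/-- the class two case -/
theorem centralizes_of_class2 [Finite G] (p : ℕ) [Fact p.Prime] (hp2 : p ≠ 2) (R Q A : Subgroup G)
    (hR : IsPGroup p R) (hcl : ∀ x ∈ R, ∀ y ∈ R, ∀ z ∈ R, ⁅x, y⁆ * z = z * ⁅x, y⁆)
    (hQR : Q ≤ normalizer (R : Set G)) (hAR : A ≤ normalizer (R : Set G))
    (hAQ : A ≤ normalizer (Q : Set G)) (hQ : (Nat.card Q).Coprime p) (hA : IsPGroup p A)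
    (H : ∀ x ∈ R, x ^ p = 1 → (∀ a ∈ A, a * x = x * a) → ∀ s ∈ Q, s * x = x * s) :
    ∀ s ∈ Q, ∀ x ∈ R, s * x = x * s := by
  have hp : p.Prime := Fact.out
  have h2 : IsClass2 ↥R := by
    intro x y z
    apply Subtype.ext
    rw [Subgroup.coe_mul, Subgroup.coe_mul, coe_commutatorElement]
    exact hcl x x.2 y y.2 z z.2
  obtain ⟨n, hn⟩ := hR.exists_card_eq
  have hodd : Odd (Nat.card R) := by
    rw [hn]
    exact Odd.pow (hp.odd_of_ne_two hp2)
  obtain ⟨m, hm⟩ := hodd
  have hk : ∀ c : ↥R, c ^ (2 * (m + 1)) = c := by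
    intro c
    have e : 2 * (m + 1) = Nat.card R + 1 := by omega
    rw [e, pow_succ, pow_card_eq_one', one_mul]
  letI := baerAddCommGroup h2 (m + 1) hk
  set N := normalizer (R : Set G) with hN
  letI : DistribMulAction ↥N ↥R :=
    { smul := fun g x => conjAut R g g.2 x
      one_smul := fun x => by
        apply Subtype.ext
        show ((1 : ↥N) : G) * x * ((1 : ↥N) : G)⁻¹ = x
        simp
      mul_smul := fun g h x => by
        apply Subtype.ext
        show ((g * h : ↥N) : G) * x * ((g * h : ↥N) : G)⁻¹ = (g : G) * ((h : G) * x * (h : G)⁻¹) * (g : G)⁻¹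
        simp [mul_assoc]
      smul_zero := fun g => map_one (conjAut R g g.2)
      smul_add := fun g x y => map_badd (conjAut R g g.2).toMonoidHom (m + 1) x y }
  have smul_def : ∀ (g : ↥N) (x : ↥R), ((g • x : ↥R) : G) = (g : G) * x * (g : G)⁻¹ := fun _ _ => rfl
  have hNQ : Q ≤ N := hQR
  have hNA : A ≤ N := hAR
  have hApg : IsPGroup p (A.subgroupOf N) := hA.comap_subtype
  have hQc : (Nat.card (Q.subgroupOf N)).Coprime p := by
    rw [card_subgroupOf_of_le hNQ]; exact hQ
  have hnorm : ∀ a ∈ A.subgroupOf N, ∀ s ∈ Q.subgroupOf N, a * s * a⁻¹ ∈ Q.subgroupOf N := by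
    intro a ha s hs
    rw [mem_subgroupOf] at ha hs ⊢
    have := (mem_normalizer_iff.mp (hAQ ha) (s : G)).mp hs
    simpa using this
  have key := smul_eq_self_of_fixed (N := ↥N) (L := ↥R) p ⟨n, hn⟩ (Q.subgroupOf N) (A.subgroupOf N) hApg hQc
    hnorm ?_
  · intro s hs x hx
    have := key ⟨s, hNQ hs⟩ (by rw [mem_subgroupOf]; exact hs) ⟨x, hx⟩
    have h3 := congrArg Subtype.val this
    rw [smul_def] at h3
    have h4 : s * x * s⁻¹ = x := h3
    calc s * x = s * x * s⁻¹ * s := by group
      _ = x * s := by rw [h4]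
  · intro x hx hfix s hs
    have hxp : (x : G) ^ p = 1 := by
      have h5 := baer_nsmul h2 (m + 1) hk p x
      rw [h5] at hx
      have h6 := congrArg Subtype.val hx
      rwa [Subgroup.coe_pow] at h6
    have hxA : ∀ a ∈ A, a * (x : G) = x * a := by
      intro a ha
      have := hfix ⟨a, hNA ha⟩ (by rw [mem_subgroupOf]; exact ha)
      have h3 := congrArg Subtype.val this
      rw [smul_def] at h3
      have h4 : a * (x : G) * a⁻¹ = x := h3
      calc a * (x : G) = a * x * a⁻¹ * a := by group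
        _ = x * a := by rw [h4]
    have h7 := H x x.2 hxp hxA s (by rw [mem_subgroupOf] at hs; exact hs)
    apply Subtype.ext
    rw [smul_def]
    calc (s : G) * x * (s : G)⁻¹ = x * s * (s : G)⁻¹ := by rw [h7]
      _ = x := by group

theorem commutator_lt_of_ne_bot [Finite G] {p : ℕ} [Fact p.Prime] {R : Subgroup G} (hR : IsPGroup p R)
    (hne : R ≠ ⊥) : ⁅R, R⁆ ≠ R := by
  intro h
  have hnil : Group.IsNilpotent ↥R := hR.isNilpotent
  have hsolv : Group.IsSolvable ↥R := IsNilpotent.to_isSolvable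
  have hnt : Nontrivial ↥R := by
    rw [Subgroup.nontrivial_iff_ne_bot]; exact hne
  have h1 := Group.IsSolvable.commutator_lt_top_of_nontrivial ↥R
  have h2 := Subgroup.map_subtype_commutator R
  rw [h] at h2
  have h3 : _root_.commutator ↥R = ⊤ := by
    apply Subgroup.map_injective R.subtype_injective
    rw [h2, ← MonoidHom.range_eq_map, Subgroup.range_subtype]
  exact h1.ne h3

/-- **Main theorem.**  `p` odd, `R` a `p`-group normalized by the `p'`-group `Q` and the `p`-group `A`, with `A`
normalizing `Q`.  If `Q` centralizes the elements of order dividing `p` of `C_R(A)` then `Q` centralizes `R`. -/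
theorem centralizes_of_fixed [Finite G] (p : ℕ) [Fact p.Prime] (hp2 : p ≠ 2) (Q A : Subgroup G)
    (hAQ : A ≤ normalizer (Q : Set G)) (hQ : (Nat.card Q).Coprime p) (hA : IsPGroup p A) :
    ∀ n : ℕ, ∀ R : Subgroup G, Nat.card R = n → IsPGroup p R → Q ≤ normalizer (R : Set G) →
      A ≤ normalizer (R : Set G) →
      (∀ x ∈ R, x ^ p = 1 → (∀ a ∈ A, a * x = x * a) → ∀ s ∈ Q, s * x = x * s) →
      R ≤ centralizer (Q : Set G) := by
  intro n
  induction n using Nat.strong_induction_on with
  | _ n ih =>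
    intro R hn hR hQR hAR H
    -- proper invariant subgroups are centralized
    have ih' : ∀ R' : Subgroup G, R' ≤ R → R' ≠ R → Q ≤ normalizer (R' : Set G) →
        A ≤ normalizer (R' : Set G) → R' ≤ centralizer (Q : Set G) := by
      intro R' hle hne hQR' hAR'
      have hlt : Nat.card R' < n := by
        rw [← hn]
        by_contra hcon
        push Not at hcon
        exact hne (Subgroup.eq_of_le_of_card_ge hle hcon)
      exact ih _ hlt R' rfl (hR.to_le hle) hQR' hAR' (fun x hx => H x (hle hx))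
    have hsolvR : Group.IsSolvable ↥R := by
      have hnil : Group.IsNilpotent ↥R := hR.isNilpotent
      exact IsNilpotent.to_isSolvable
    have hcopQR : (Nat.card Q).Coprime (Nat.card R) := by
      obtain ⟨m, hm⟩ := hR.exists_card_eq
      rw [hm]; exact Nat.Coprime.pow_right m hQ
    set R₁ := ⁅R, Q⁆ with hR₁
    have hR₁R : R₁ ≤ R := commutator_le_of_le_normalizer R Q hQR
    have hQR₁ : Q ≤ normalizer (R₁ : Set G) := fun s hs =>
      mem_normalizer_commutator R Q (hQR hs) (le_normalizer hs)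
    have hAR₁ : A ≤ normalizer (R₁ : Set G) := fun a ha =>
      mem_normalizer_commutator R Q (hAR ha) (hAQ ha)
    by_cases hcase : R₁ = R
    · -- `R = [R, Q]`: class at most two
      by_cases hbot : R = ⊥
      · rw [hbot]; exact bot_le
      set D := ⁅R, R⁆ with hD
      have hDR : D ≤ R := commutator_le_of_le_normalizer R R le_normalizer
      have hDne : D ≠ R := commutator_lt_of_ne_bot hR hbot
      have hQD : Q ≤ normalizer (D : Set G) := fun s hs =>
        mem_normalizer_commutator R R (hQR hs) (hQR hs)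
      have hAD : A ≤ normalizer (D : Set G) := fun a ha =>
        mem_normalizer_commutator R R (hAR ha) (hAR ha)
      have hDQ : D ≤ centralizer (Q : Set G) := ih' D hDR hDne hQD hAD
      have h1 : ⁅⁅Q, D⁆, R⁆ = ⊥ := by
        have : ⁅Q, D⁆ = ⊥ := by
          rw [Subgroup.commutator_comm, Subgroup.commutator_eq_bot_iff_le_centralizer]; exact hDQ
        rw [this, Subgroup.commutator_bot_left]
      have h2 : ⁅⁅D, R⁆, Q⁆ = ⊥ := by
        rw [Subgroup.commutator_eq_bot_iff_le_centralizer]
        have hDRD : ⁅D, R⁆ ≤ D := commutator_le_of_le_normalizer D R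
          (fun r hr => mem_normalizer_commutator R R (le_normalizer hr) (le_normalizer hr))
        exact hDRD.trans hDQ
      have h3 : ⁅⁅R, Q⁆, D⁆ = ⊥ := Subgroup.commutator_commutator_eq_bot_of_rotate h1 h2
      rw [← hR₁, hcase, Subgroup.commutator_eq_bot_iff_le_centralizer] at h3
      have hcl : ∀ x ∈ R, ∀ y ∈ R, ∀ z ∈ R, ⁅x, y⁆ * z = z * ⁅x, y⁆ := by
        intro x hx y hy z hz
        have hc : ⁅x, y⁆ ∈ D := Subgroup.commutator_mem_commutator hx hy
        exact (mem_centralizer_iff.mp (h3 hz) _ hc)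
      intro x hx
      rw [mem_centralizer_iff]
      intro s hs
      exact centralizes_of_class2 p hp2 R Q A hR hcl hQR hAR hAQ hQ hA H s hs x hx
    · -- `[R, Q] < R`
      have hR₁Q : R₁ ≤ centralizer (Q : Set G) := ih' R₁ hR₁R hcase hQR₁ hAR₁
      intro r hr
      obtain ⟨d, hd, c, hc, rfl⟩ := coprime_decomp Q R hQR hcopQR (Or.inr hsolvR) hr
      exact mul_mem (hR₁Q hd) (mem_inf.mp hc).2

end Cfsg.Agent.Lib.Helper22_BaerAction
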