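import Mathlib
import Cfsg.Agent.Lib.Helper22_EA2OmDefs
import Cfsg.Agent.Lib.Helper26_StOm_XB
import Cfsg.Agent.Lib.Helper20_StOm_GENB

/-!
# S4625 (helper68), family POmega^-: mini-market `eam_packages` (architect helper22), package OM-SUB

The positive root elements `lxO a c t` (`ht a < ht c`) and `sxO (ie i) s t` are block unitriangular.
-/

set_option autoImplicit false
set_option linter.unusedSectionVars false
set_option linter.unusedVariables false

namespace Cfsg.Agent.Lib.Helper69_EAM_SUB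

open Matrix Cfsg.Agent.Lib.Helper68_MatGrp Cfsg.Agent.Lib.Helper22_BlkGrp Cfsg.Agent.Lib.Helper22_StOmDefs
  Cfsg.Agent.Lib.Helper22_EA2OmDefs

variable {m : ℕ} {F : Type*} [Field F] [Fintype F] {A B : F} [Fact (Aniso A B)]

/-- on a diagonal block the matrix of a positive long root element is the identity -/
theorem lxM_block {a c : I m} (hlt : ht m a < ht m c) (t : F) (x y : I m) (hxy : ht m x = ht m y) :
    lxM a c t x y = (1 : Matrix (I m) (I m) F) x y := by
  unfold lxM
  have h1 : ¬ (a = x ∧ c = y) := by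
    rintro ⟨rfl, rfl⟩
    omega
  have h2 : ¬ (op c = x ∧ op a = y) := by
    rintro ⟨rfl, rfl⟩
    rw [ht_op, ht_op] at hxy
    have h3 := ht_le (m := m) a
    have h4 := ht_le (m := m) c
    omega
  rw [Matrix.sub_apply, Matrix.add_apply, Matrix.single_apply, if_neg h1, Matrix.single_apply,
    if_neg h2, add_zero, sub_zero]

/-- on a diagonal block the matrix of a positive short root element is the identity -/
theorem sxM_block (i : Fin m) (s t : F) (x y : I m) (hxy : ht m x = ht m y) :
    sxM A B (ie i) s t x y = (1 : Matrix (I m) (I m) F) x y := by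
  unfold sxM
  have hi := i.2
  have hop : op (ie i : I m) = jf i := rfl
  rw [hop]
  have h1 : ¬ ((d0 : I m) = x ∧ jf i = y) := by
    rintro ⟨rfl, rfl⟩
    rw [ht_d0, ht_jf] at hxy
    omega
  have h2 : ¬ ((d1 : I m) = x ∧ jf i = y) := by
    rintro ⟨rfl, rfl⟩
    rw [ht_d1, ht_jf] at hxy
    omega
  have h3 : ¬ ((ie i : I m) = x ∧ d0 = y) := by
    rintro ⟨rfl, rfl⟩
    rw [ht_d0, ht_ie] at hxy
    omega
  have h4 : ¬ ((ie i : I m) = x ∧ d1 = y) := by
    rintro ⟨rfl, rfl⟩
    rw [ht_d1, ht_ie] at hxy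
    omega
  have h5 : ¬ ((ie i : I m) = x ∧ jf i = y) := by
    rintro ⟨rfl, rfl⟩
    rw [ht_ie, ht_jf] at hxy
    omega
  simp only [Matrix.sub_apply, Matrix.add_apply, Matrix.single_apply, if_neg h1, if_neg h2, if_neg h3,
    if_neg h4, if_neg h5, add_zero, sub_zero]

/-- PKG OM-SUB.  The positive root elements are block unitriangular. -/
theorem posSetO_subset : posSetO m F A B ⊆ (UO m F A B : Set (OO m F A B)) := by
  rintro g (⟨a, c, t, h, hlt, rfl⟩ | ⟨i, s, t, rfl⟩)
  · show lxO A B a c t ∈ UO m F A B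
    rw [mem_UO]
    refine ⟨?_, ?_⟩
    · have h1 : lx A B a c t ∈ Boo m F A B :=
        Cfsg.Agent.Lib.Helper20_StOm_GENB.lx_mem_Boo_of_ht h hlt t
      exact h1
    · intro x y hxy
      rw [φO_lxO h]
      exact lxM_block hlt t x y hxy
  · show sxO A B (ie i) s t ∈ UO m F A B
    rw [mem_UO]
    refine ⟨?_, ?_⟩
    · have h1 : sx A B (ie i) s t ∈ Boo m F A B :=
        Cfsg.Agent.Lib.Helper26_StOm_XB.sx_mem_Boo i s t
      exact h1
    · intro x y hxy
      rw [φO_sxO (not_isPl_ie i)]
      exact sxM_block i s t x y hxy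

end Cfsg.Agent.Lib.Helper69_EAM_SUB
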