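import Mathlib
import Cfsg.Agent.Lib.Helper22_EA2OmDefs

/-!
# EAM mini-market (architect helper22; S4625 of helper68, family `PΩ⁻`), package OM-COL

Clearing the column `f_k` (and then `e_k`) of a block unitriangular isometry of `O⁻_{2m+2}(F)` whose
columns `e_i, f_i` (`i < k`) are identity columns, by left multiplication with positive root elements
(port of `Helper77_EA2_OP_COL` to the minus type; the plane rows are cleared with `sxO (ie k) s t`).
-/

set_option autoImplicit false
set_option linter.unusedSectionVars false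
set_option linter.unusedVariables false

namespace Cfsg.Agent.Lib.Helper85_EAM_COL

open Matrix Cfsg.Agent.Lib.Helper68_MatGrp Cfsg.Agent.Lib.Helper22_BlkGrp Cfsg.Agent.Lib.Helper22_StOmDefs
  Cfsg.Agent.Lib.Helper22_EA2OmDefs

variable {m : ℕ} {F : Type*} [Field F] [Fintype F] {A B : F} [Fact (Aniso A B)]

/-- entries of `single i j c * X` -/
theorem single_mul_apply_ite (i j : I m) (c : F) (X : Matrix (I m) (I m) F) (r q : I m) :
    (single i j c * X) r q = if r = i then c * X j q else 0 := by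
  by_cases h : r = i
  · subst h
    rw [if_pos rfl, Matrix.single_mul_apply_same]
  · rw [if_neg h, Matrix.single_mul_apply_of_ne _ _ _ _ _ h]

/-- entries of `lxM a c t * X` -/
theorem lxM_mul_apply (a c : I m) (t : F) (X : Matrix (I m) (I m) F) (r q : I m) :
    (lxM a c t * X) r q = X r q + (if r = a then t * X c q else 0) -
      (if r = op c then t * X (op a) q else 0) := by
  unfold lxM
  rw [Matrix.sub_mul, Matrix.add_mul, Matrix.one_mul, Matrix.sub_apply, Matrix.add_apply,
    single_mul_apply_ite, single_mul_apply_ite]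

/-- entries of `sxM A B c s t * X` -/
theorem sxM_mul_apply (c : I m) (s t : F) (X : Matrix (I m) (I m) F) (r q : I m) :
    (sxM A B c s t * X) r q = X r q + (if r = d0 then s * X (op c) q else 0) +
      (if r = d1 then t * X (op c) q else 0) -
      (if r = c then (2 * s + A * t) * X d0 q else 0) -
      (if r = c then (A * s + 2 * B * t) * X d1 q else 0) -
      (if r = c then nrm A B s t * X (op c) q else 0) := by
  unfold sxM
  rw [Matrix.sub_mul, Matrix.sub_mul, Matrix.sub_mul, Matrix.add_mul, Matrix.add_mul,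
    Matrix.one_mul, Matrix.sub_apply, Matrix.sub_apply, Matrix.sub_apply, Matrix.add_apply,
    Matrix.add_apply, single_mul_apply_ite, single_mul_apply_ite, single_mul_apply_ite,
    single_mul_apply_ite, single_mul_apply_ite]

/-- `CkO k` is closed under products -/
theorem CkO_mul {k : ℕ} {x y : OO m F A B} (hx : x ∈ CkO (m := m) (F := F) (A := A) (B := B) k)
    (hy : y ∈ CkO (m := m) (F := F) (A := A) (B := B) k) :
    y * x ∈ CkO (m := m) (F := F) (A := A) (B := B) k := by
  intro i hi b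
  have key : ∀ c : I m, (∀ b, φO m F A B x b c = (1 : Matrix (I m) (I m) F) b c) →
      (∀ b, φO m F A B y b c = (1 : Matrix (I m) (I m) F) b c) →
      φO m F A B (y * x) b c = (1 : Matrix (I m) (I m) F) b c := by
    intro c hxc hyc
    rw [map_mul, Matrix.mul_apply, Finset.sum_eq_single c]
    · rw [hxc c, Matrix.one_apply_eq, mul_one, hyc b]
    · intro d _ hd
      rw [hxc d, Matrix.one_apply_ne hd, mul_zero]
    · intro h; exact absurd (Finset.mem_univ _) h
  exact ⟨key _ (fun b => (hx i hi b).1) (fun b => (hy i hi b).1),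
    key _ (fun b => (hx i hi b).2) (fun b => (hy i hi b).2)⟩

/-- `CkO k` is closed under inverses -/
theorem CkO_inv {k : ℕ} {x : OO m F A B} (hx : x ∈ CkO (m := m) (F := F) (A := A) (B := B) k) :
    x⁻¹ ∈ CkO (m := m) (F := F) (A := A) (B := B) k := by
  intro i hi b
  have key : ∀ c : I m, (∀ b, φO m F A B x b c = (1 : Matrix (I m) (I m) F) b c) →
      φO m F A B x⁻¹ b c = (1 : Matrix (I m) (I m) F) b c := by
    intro c hxc
    have h1 : φO m F A B x⁻¹ * φO m F A B x = 1 := by
      rw [← map_mul, inv_mul_cancel, map_one]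
    have h2 := congrFun (congrFun h1 b) c
    rw [Matrix.mul_apply, Finset.sum_eq_single c] at h2
    · rw [hxc c, Matrix.one_apply_eq, mul_one] at h2
      exact h2
    · intro d _ hd
      rw [hxc d, Matrix.one_apply_ne hd, mul_zero]
    · intro h; exact absurd (Finset.mem_univ _) h
  exact ⟨key _ (fun b => (hx i hi b).1), key _ (fun b => (hx i hi b).2)⟩

/-- if the column `op a` of `x⁻¹` is an identity column (`a` outside the plane), the row `a` of `x` is
an identity row -/
theorem row_of_inv_col {x : OO m F A B} {a : I m} (ha : ¬ IsPl a)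
    (hcol : ∀ b, φO m F A B x⁻¹ b (op a) = (1 : Matrix (I m) (I m) F) b (op a)) (c : I m) :
    φO m F A B x a c = (1 : Matrix (I m) (I m) F) a c := by
  have hopa : ¬ IsPl (op a) := fun h => ha (isPl_op.mp h)
  by_cases hc : IsPl c
  · have hac : a ≠ c := fun e => ha (e ▸ hc)
    rw [Matrix.one_apply_ne hac]
    have hd0 : (d0 : I m) ≠ op a := fun e => hopa (e ▸ isPl_d0)
    have hd1 : (d1 : I m) ≠ op a := fun e => hopa (e ▸ isPl_d1)
    rcases hc with rfl | rfl
    · have := φO_inv_np_d0 x⁻¹ ha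
      rw [inv_inv, hcol d0, hcol d1, Matrix.one_apply_ne hd0, Matrix.one_apply_ne hd1] at this
      rw [this]; ring
    · have := φO_inv_np_d1 x⁻¹ ha
      rw [inv_inv, hcol d0, hcol d1, Matrix.one_apply_ne hd0, Matrix.one_apply_ne hd1] at this
      rw [this]; ring
  · have := φO_inv_np_np x⁻¹ ha hc
    rw [inv_inv] at this
    rw [this, hcol (op c), Matrix.one_apply, Matrix.one_apply]
    by_cases h : a = c
    · rw [if_pos h, if_pos (by rw [h])]
    · rw [if_neg h, if_neg (fun e => h (op_injective e).symm)]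

/-- the rows `e_i`, `f_i`, `i < k`, of an element of `CkO k` are identity rows -/
theorem CkO_row {k : ℕ} {x : OO m F A B} (hx : x ∈ CkO (m := m) (F := F) (A := A) (B := B) k)
    (i : Fin m) (hi : i.val < k) (c : I m) :
    φO m F A B x (ie i) c = (1 : Matrix (I m) (I m) F) (ie i) c ∧
      φO m F A B x (jf i) c = (1 : Matrix (I m) (I m) F) (jf i) c := by
  have hinv := CkO_inv hx
  constructor
  · exact row_of_inv_col (not_isPl_ie i) (fun b => by rw [op_ie]; exact (hinv i hi b).2) c
  · exact row_of_inv_col (not_isPl_jf i) (fun b => by rw [op_jf]; exact (hinv i hi b).1) c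

/-- the "middle" indices `e_j`, `f_j`, `j > k` -/
def Mid (m k : ℕ) (a : I m) : Prop := ∃ j : Fin m, k < j.val ∧ (a = ie j ∨ a = jf j)

theorem Mid.not_isPl {k : ℕ} {a : I m} (h : Mid m k a) : ¬ IsPl a := by
  obtain ⟨j, hj, rfl | rfl⟩ := h
  · exact not_isPl_ie j
  · exact not_isPl_jf j

theorem Mid.ne_ie {k : ℕ} {a : I m} (h : Mid m k a) (i : Fin m) (hi : i.val ≤ k) : a ≠ ie i := by
  obtain ⟨j, hj, rfl | rfl⟩ := h
  · intro e
    have := ie_injective e
    subst this
    omega
  · exact fun e => ie_ne_jf i j e.symm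

theorem Mid.ne_jf {k : ℕ} {a : I m} (h : Mid m k a) (i : Fin m) (hi : i.val ≤ k) : a ≠ jf i := by
  obtain ⟨j, hj, rfl | rfl⟩ := h
  · exact fun e => ie_ne_jf j i e
  · intro e
    have := jf_injective e
    subst this
    omega

theorem Mid.op {k : ℕ} {a : I m} (h : Mid m k a) : Mid m k (op a) := by
  obtain ⟨j, hj, rfl | rfl⟩ := h
  · exact ⟨j, hj, Or.inr (op_ie j)⟩
  · exact ⟨j, hj, Or.inl (op_jf j)⟩

theorem Mid.lxOK {k : ℕ} {a : I m} (h : Mid m k a) (kk : Fin m) (hkk : kk.val = k) :
    LxOK a (jf kk) := by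
  refine ⟨h.not_isPl, not_isPl_jf kk, fun e => h.ne_jf kk hkk.le e.symm, fun e => ?_⟩
  have : a = ie kk := by
    have := congrArg Cfsg.Agent.Lib.Helper22_StOmDefs.op e
    rw [op_op, op_jf] at this
    exact this.symm
  exact h.ne_ie kk hkk.le this

theorem Mid.ht_lt {k : ℕ} {a : I m} (h : Mid m k a) (kk : Fin m) (hkk : kk.val = k) :
    ht m a < ht m (jf kk) := by
  obtain ⟨j, hj, rfl | rfl⟩ := h
  · rw [ht_ie, ht_jf]
    have := j.2
    have := kk.2
    omega
  · rw [ht_jf, ht_jf]
    have := j.2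
    have := kk.2
    omega

/-- every index is below, at, or above level `k`, or in the plane -/
theorem index_trichotomy (k : ℕ) (kk : Fin m) (hkk : kk.val = k) (b : I m) :
    (∃ i : Fin m, i.val < k ∧ (b = ie i ∨ b = jf i)) ∨ b = ie kk ∨ b = jf kk ∨ Mid m k b ∨
      IsPl b := by
  rcases index_cases b with ⟨i, rfl⟩ | ⟨i, rfl⟩ | rfl | rfl
  · rcases lt_trichotomy i.val k with h | h | h
    · exact Or.inl ⟨i, h, Or.inl rfl⟩
    · right; left
      congr 1
      exact Fin.ext (h.trans hkk.symm)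
    · right; right; right; left
      exact ⟨i, h, Or.inl rfl⟩
  · rcases lt_trichotomy i.val k with h | h | h
    · exact Or.inl ⟨i, h, Or.inr rfl⟩
    · right; right; left
      congr 1
      exact Fin.ext (h.trans hkk.symm)
    · right; right; right; left
      exact ⟨i, h, Or.inr rfl⟩
  · right; right; right; right
    exact isPl_d0
  · right; right; right; right
    exact isPl_d1

/-- the long root elements used for clearing lie in `CkO k` -/
theorem lx_mem_CkO {k : ℕ} {a : I m} (h : Mid m k a) (kk : Fin m) (hkk : kk.val = k) (t : F) :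
    lxO A B a (jf kk) t ∈ CkO (m := m) (F := F) (A := A) (B := B) k := by
  intro i hi b
  rw [φO_lxO (h.lxOK kk hkk)]
  unfold lxM
  have h1 : ∀ c : I m, c ≠ jf kk → c ≠ Cfsg.Agent.Lib.Helper22_StOmDefs.op a →
      (1 + single a (jf kk) t - single (Cfsg.Agent.Lib.Helper22_StOmDefs.op (jf kk))
        (Cfsg.Agent.Lib.Helper22_StOmDefs.op a) t : Matrix (I m) (I m) F) b c =
      (1 : Matrix (I m) (I m) F) b c := by
    intro c hc1 hc2
    rw [Matrix.sub_apply, Matrix.add_apply, Matrix.single_apply, Matrix.single_apply, if_neg,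
      if_neg]
    · simp
    · rintro ⟨-, h2⟩
      exact hc2 h2.symm
    · rintro ⟨-, h2⟩
      exact hc1 h2.symm
  constructor
  · apply h1
    · exact ie_ne_jf i kk
    · exact fun e => h.op.ne_ie i hi.le e.symm
  · apply h1
    · intro e
      have := jf_injective e
      subst this
      omega
    · exact fun e => h.op.ne_jf i hi.le e.symm

/-- the short root elements used for clearing lie in `CkO k` -/
theorem sx_mem_CkO {k : ℕ} (kk : Fin m) (hkk : kk.val = k) (s t : F) :
    sxO A B (ie kk) s t ∈ CkO (m := m) (F := F) (A := A) (B := B) k := by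
  intro i hi b
  rw [φO_sxO (not_isPl_ie kk)]
  unfold sxM
  rw [op_ie]
  have h1 : ∀ c : I m, c ≠ jf kk → c ≠ d0 → c ≠ d1 →
      (1 + single d0 (jf kk) s + single d1 (jf kk) t - single (ie kk) d0 (2 * s + A * t) -
        single (ie kk) d1 (A * s + 2 * B * t) - single (ie kk) (jf kk) (nrm A B s t) :
          Matrix (I m) (I m) F) b c = (1 : Matrix (I m) (I m) F) b c := by
    intro c hc1 hc2 hc3
    rw [Matrix.sub_apply, Matrix.sub_apply, Matrix.sub_apply, Matrix.add_apply, Matrix.add_apply,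
      Matrix.single_apply, Matrix.single_apply, Matrix.single_apply, Matrix.single_apply,
      Matrix.single_apply, if_neg, if_neg, if_neg, if_neg, if_neg]
    · simp
    · rintro ⟨-, h2⟩; exact hc1 h2.symm
    · rintro ⟨-, h2⟩; exact hc3 h2.symm
    · rintro ⟨-, h2⟩; exact hc2 h2.symm
    · rintro ⟨-, h2⟩; exact hc1 h2.symm
    · rintro ⟨-, h2⟩; exact hc1 h2.symm
  constructor
  · exact h1 _ (ie_ne_jf i kk) (ie_ne_d0 i) (ie_ne_d1 i)
  · refine h1 _ ?_ (jf_ne_d0 i) (jf_ne_d1 i)
    intro e
    have := jf_injective e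
    subst this
    omega

/-- the row `f_k` of an element of `UO ∩ CkO k` is the identity row -/
theorem row_jf {k : ℕ} {x : OO m F A B} (hx : x ∈ UO m F A B)
    (hxk : x ∈ CkO (m := m) (F := F) (A := A) (B := B) k)
    (kk : Fin m) (hkk : kk.val = k) (c : I m) :
    φO m F A B x (jf kk) c = (1 : Matrix (I m) (I m) F) (jf kk) c := by
  obtain ⟨htri, hdiag⟩ := mem_UO.mp hx
  rw [mem_BO] at htri
  rcases lt_trichotomy (ht m c) (ht m (jf kk)) with hlt | heq | hgt
  · have hc : jf kk ≠ c := fun e => by rw [e] at hlt; exact lt_irrefl _ hlt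
    rw [Matrix.one_apply_ne hc]
    exact htri _ _ hlt
  · exact hdiag _ _ heq.symm
  · have hc : jf kk ≠ c := fun e => by rw [e] at hgt; exact lt_irrefl _ hgt
    rw [Matrix.one_apply_ne hc]
    rcases index_cases c with ⟨i, rfl⟩ | ⟨i, rfl⟩ | rfl | rfl
    · exfalso
      rw [ht_ie, ht_jf] at hgt
      have := i.2
      have := kk.2
      omega
    · have hik : i.val < k := by
        rw [ht_jf, ht_jf] at hgt
        have := i.2
        have := kk.2
        omega
      rw [(hxk i hik (jf kk)).2, Matrix.one_apply_ne hc]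
    · exfalso
      rw [ht_d0, ht_jf] at hgt
      have := kk.2
      omega
    · exfalso
      rw [ht_d1, ht_jf] at hgt
      have := kk.2
      omega

/-- the clearing step: all entries `(a, f_k)`, `a ∈ S`, `S` a set of middle indices, can be cleared -/
theorem clear_finset (hsub : posSetO m F A B ⊆ (UO m F A B : Set (OO m F A B)))
    (k : ℕ) (kk : Fin m) (hkk : kk.val = k) (x : OO m F A B)
    (hx : x ∈ UO m F A B) (hxk : x ∈ CkO (m := m) (F := F) (A := A) (B := B) k)
    (S : Finset (I m)) (hS : ∀ a ∈ S, Mid m k a) :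
    ∃ y ∈ Subgroup.closure (posSetO m F A B), y * x ∈ UO m F A B ∧
      y * x ∈ CkO (m := m) (F := F) (A := A) (B := B) k ∧
      ∀ a ∈ S, φO m F A B (y * x) a (jf kk) = 0 := by
  classical
  induction S using Finset.induction_on with
  | empty =>
    refine ⟨1, one_mem _, ?_, ?_, ?_⟩
    · rw [one_mul]; exact hx
    · rw [one_mul]; exact hxk
    · intro a ha
      exact absurd ha (Finset.notMem_empty a)
  | insert a₀ S' ha₀ ih =>
    obtain ⟨y', hy', hx'U, hx'k, hx'S⟩ := ih (fun a ha => hS a (Finset.mem_insert_of_mem ha))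
    have hmid := hS a₀ (Finset.mem_insert_self a₀ S')
    have hok := hmid.lxOK kk hkk
    have hlt := hmid.ht_lt kk hkk
    set t : F := - φO m F A B (y' * x) a₀ (jf kk) with ht
    have hL : lxO A B a₀ (jf kk) t ∈ posSetO m F A B := Or.inl ⟨a₀, jf kk, t, hok, hlt, rfl⟩
    refine ⟨lxO A B a₀ (jf kk) t * y', mul_mem (Subgroup.subset_closure hL) hy', ?_, ?_, ?_⟩
    · rw [mul_assoc]
      exact mul_mem (hsub hL) hx'U
    · rw [mul_assoc]
      exact CkO_mul hx'k (lx_mem_CkO hmid kk hkk t)
    · intro a ha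
      rw [mul_assoc, map_mul, φO_lxO hok, lxM_mul_apply, op_jf]
      have hrow := row_jf hx'U hx'k kk hkk (jf kk)
      rw [Matrix.one_apply_eq] at hrow
      have hane : a ≠ ie kk := (hS a ha).ne_ie kk hkk.le
      rw [if_neg hane, sub_zero]
      rcases Finset.mem_insert.mp ha with rfl | ha'
      · rw [if_pos rfl, hrow, mul_one, ht, add_neg_cancel]
      · have : a ≠ a₀ := fun e => ha₀ (e ▸ ha')
        rw [if_neg this, add_zero]
        exact hx'S a ha'

/-- the plane step: the entries `(d0, f_k)`, `(d1, f_k)` are cleared by `sxO (ie k) s t`, the middle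
entries of the column `f_k` do not change -/
theorem clear_plane (hsub : posSetO m F A B ⊆ (UO m F A B : Set (OO m F A B)))
    (k : ℕ) (kk : Fin m) (hkk : kk.val = k) (x : OO m F A B)
    (hx : x ∈ UO m F A B) (hxk : x ∈ CkO (m := m) (F := F) (A := A) (B := B) k) :
    ∃ y ∈ Subgroup.closure (posSetO m F A B), y * x ∈ UO m F A B ∧
      y * x ∈ CkO (m := m) (F := F) (A := A) (B := B) k ∧
      φO m F A B (y * x) d0 (jf kk) = 0 ∧ φO m F A B (y * x) d1 (jf kk) = 0 ∧
      ∀ a, Mid m k a → φO m F A B (y * x) a (jf kk) = φO m F A B x a (jf kk) := by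
  obtain ⟨s, hs⟩ : ∃ s : F, s = - φO m F A B x d0 (jf kk) := ⟨_, rfl⟩
  obtain ⟨t, ht⟩ : ∃ t : F, t = - φO m F A B x d1 (jf kk) := ⟨_, rfl⟩
  have hL : sxO A B (ie kk) s t ∈ posSetO m F A B := Or.inr ⟨kk, s, t, rfl⟩
  have hrow := row_jf hx hxk kk hkk (jf kk)
  rw [Matrix.one_apply_eq] at hrow
  have e01 : ¬ ((d0 : I m) = d1) := d0_ne_d1
  have e10 : ¬ ((d1 : I m) = d0) := (d0_ne_d1 (m := m)).symm
  have e0k : ¬ ((d0 : I m) = ie kk) := (ie_ne_d0 kk).symm
  have e1k : ¬ ((d1 : I m) = ie kk) := (ie_ne_d1 kk).symm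
  refine ⟨sxO A B (ie kk) s t, Subgroup.subset_closure hL, mul_mem (hsub hL) hx,
    CkO_mul hxk (sx_mem_CkO kk hkk s t), ?_, ?_, ?_⟩
  · rw [map_mul, φO_sxO (not_isPl_ie kk), sxM_mul_apply, op_ie]
    simp only [if_true, if_neg e01, if_neg e0k, hrow]
    rw [hs]
    ring
  · rw [map_mul, φO_sxO (not_isPl_ie kk), sxM_mul_apply, op_ie]
    simp only [if_true, if_neg e10, if_neg e1k, hrow]
    rw [ht]
    ring
  · intro a ha
    have h0 : ¬ (a = d0) := fun e => ha.not_isPl (e ▸ isPl_d0)
    have h1 : ¬ (a = d1) := fun e => ha.not_isPl (e ▸ isPl_d1)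
    have h2 : ¬ (a = ie kk) := ha.ne_ie kk hkk.le
    rw [map_mul, φO_sxO (not_isPl_ie kk), sxM_mul_apply]
    simp only [if_neg h0, if_neg h1, if_neg h2]
    ring

/-- the corner entry `(e_k, f_k)` vanishes once the rest of the column `f_k` is cleared -/
theorem corner_zero {k : ℕ} {x : OO m F A B} (hx : x ∈ UO m F A B)
    (hxk : x ∈ CkO (m := m) (F := F) (A := A) (B := B) k)
    (kk : Fin m) (hkk : kk.val = k) (hmid : ∀ a, Mid m k a → φO m F A B x a (jf kk) = 0)
    (h0 : φO m F A B x d0 (jf kk) = 0) (h1 : φO m F A B x d1 (jf kk) = 0) :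
    φO m F A B x (ie kk) (jf kk) = 0 := by
  have hq := φO_isom x (Pi.single (jf kk) 1)
  rw [Qm_single_np A B (not_isPl_jf kk), Cfsg.Agent.Lib.Helper22_StOmDefs.mulVec_single_one, Qm_apply,
    Finset.sum_eq_single kk] at hq
  · have h2 : φO m F A B x (jf kk) (jf kk) = 1 := by
      rw [(mem_UO.mp hx).2 _ _ rfl, Matrix.one_apply_eq]
    rw [h2, mul_one, h0, h1] at hq
    unfold nrm at hq
    simpa using hq
  · intro i _ hi
    have hz : φO m F A B x (ie i) (jf kk) = 0 := by
      rcases lt_or_ge i.val k with hlt | hge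
      · rw [(CkO_row hxk i hlt (jf kk)).1, Matrix.one_apply_ne (ie_ne_jf i kk)]
      · apply hmid
        refine ⟨i, ?_, Or.inl rfl⟩
        have : i.val ≠ kk.val := fun e => hi (Fin.ext e)
        omega
    rw [hz, zero_mul]
  · intro h; exact absurd (Finset.mem_univ _) h

/-- **OM-COL**. -/
theorem om_col (hsub : posSetO m F A B ⊆ (UO m F A B : Set (OO m F A B)))
    (k : ℕ) (hk : k < m) (x : OO m F A B) (hx : x ∈ UO m F A B)
    (hxk : x ∈ CkO (m := m) (F := F) (A := A) (B := B) k) :
    ∃ y ∈ Subgroup.closure (posSetO m F A B), y * x ∈ CkO (m := m) (F := F) (A := A) (B := B) (k + 1) := by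
  classical
  set kk : Fin m := ⟨k, hk⟩ with hkkdef
  have hkk : kk.val = k := rfl
  obtain ⟨y₁, hy₁, hy₁U, hy₁k, hy₁S⟩ := clear_finset hsub k kk hkk x hx hxk
    (Finset.univ.filter (fun a => Mid m k a)) (fun a ha => (Finset.mem_filter.mp ha).2)
  obtain ⟨y₂, hy₂, hyU, hyk, hyd0, hyd1, hykeep⟩ := clear_plane hsub k kk hkk (y₁ * x) hy₁U hy₁k
  refine ⟨y₂ * y₁, mul_mem hy₂ hy₁, ?_⟩
  rw [mul_assoc]
  have hmid : ∀ a, Mid m k a → φO m F A B (y₂ * (y₁ * x)) a (jf kk) = 0 := fun a ha => by
    rw [hykeep a ha]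
    exact hy₁S a (Finset.mem_filter.mpr ⟨Finset.mem_univ a, ha⟩)
  have hcorner := corner_zero hyU hyk kk hkk hmid hyd0 hyd1
  obtain ⟨htri, hdiag⟩ := mem_UO.mp hyU
  rw [mem_BO] at htri
  intro i hi b
  rcases Nat.lt_succ_iff_lt_or_eq.mp hi with hlt | heq
  · exact hyk i hlt b
  · have hik : i = kk := Fin.ext heq
    subst hik
    rcases index_trichotomy k kk hkk b with ⟨i', hi', rfl | rfl⟩ | rfl | rfl | hb | hb
    · exact ⟨(CkO_row hyk i' hi' _).1, (CkO_row hyk i' hi' _).1⟩
    · exact ⟨(CkO_row hyk i' hi' _).2, (CkO_row hyk i' hi' _).2⟩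
    · refine ⟨hdiag _ _ rfl, ?_⟩
      rw [hcorner, Matrix.one_apply_ne (ie_ne_jf kk kk)]
    · exact ⟨row_jf hyU hyk kk hkk _, row_jf hyU hyk kk hkk _⟩
    · refine ⟨?_, ?_⟩
      · rw [Matrix.one_apply_ne (hb.ne_ie kk hkk.le)]
        apply htri
        obtain ⟨j, hj, rfl | rfl⟩ := hb
        · rw [ht_ie, ht_ie]; exact hj
        · rw [ht_ie, ht_jf]
          have := j.2
          omega
      · rw [Matrix.one_apply_ne (hb.ne_jf kk hkk.le)]
        exact hmid b hb
    · have hbe : b ≠ ie kk := fun e => not_isPl_ie kk (e ▸ hb)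
      have hbf : b ≠ jf kk := fun e => not_isPl_jf kk (e ▸ hb)
      refine ⟨?_, ?_⟩
      · rw [Matrix.one_apply_ne hbe]
        apply htri
        rw [ht_of_isPl hb, ht_ie]
        exact hk
      · rw [Matrix.one_apply_ne hbf]
        rcases hb with rfl | rfl
        · exact hyd0
        · exact hyd1

end Cfsg.Agent.Lib.Helper85_EAM_COL
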