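import Mathlib
import Cfsg.Agent.Lib.Helper10_EAM_OMEND
import Cfsg.Agent.Lib.Helper69_EAM_SUB
import Cfsg.Agent.Lib.Helper85_EAM_COL
import Cfsg.Agent.Lib.Helper22_StOm

/-!
Helper22_EA2_POM: S4625 (helper68), the family `PΩ⁻_{2m}(F)`, characteristic 2: `ea2_pomega_minus`.
The block unitriangular isometries `UO` are generated by the positive root elements (packages OM-SUB, OM-COL, OM-END),
hence lie in `Ω`; so the block diagonal part of `b ∈ B` lies in `Ω`, `|B| = |T| |U|`, `U` is a Sylow `p`-subgroup of `Ω`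
generated by involutions (`p = 2`).
helper22.
-/

set_option autoImplicit false
set_option linter.unusedSectionVars false
set_option linter.unusedVariables false

namespace Cfsg.Agent.Lib.Helper22_EA2_POM

open Matrix Cfsg.Agent.Lib.Helper68_MatGrp Cfsg.Agent.Lib.Helper22_BlkGrp Cfsg.Agent.Lib.Helper22_StOmDefs
  Cfsg.Agent.Lib.Helper22_EA2OmDefs Cfsg.Agent.Lib.Helper68_EA2 Cfsg.Agent.Lib.Helper68_EA2Peel
open Cfsg.Agent.Lib.Helper10_EAM_OMEND (om_end)
open Cfsg.Agent.Lib.Helper69_EAM_SUB (posSetO_subset)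
open Cfsg.Agent.Lib.Helper85_EAM_COL (om_col)

variable {m : ℕ} {F : Type*} [Field F] [Fintype F] {A B : F} [Fact (Aniso A B)]

/-- **generation of the block unitriangular isometries** -/
theorem closure_posSetO : Subgroup.closure (posSetO m F A B) = UO m F A B := by
  apply closure_eq_of_chain_left (UO m F A B) (posSetO m F A B) posSetO_subset
    (fun k => CkO (m := m) (F := F) (A := A) (B := B) k) m
  · intro x hx hxk; exact om_end x hx hxk
  · intro x _; exact mem_CkO_zero x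
  · intro k hk x hx hxk; exact om_col posSetO_subset k hk x hx hxk

theorem posSetO_subset_omega :
    posSetO m F A B ⊆ (Cfsg.Omega F (⇑(Qm m F A B)) : Set (OO m F A B)) := by
  rintro g (⟨a, c, t, -, -, rfl⟩ | ⟨i, s, t, rfl⟩)
  · exact lxO_mem a c t
  · exact sxO_mem (ie i) s t

/-- block unitriangular isometries lie in `Ω` -/
theorem UO_le_omega : UO m F A B ≤ Cfsg.Omega F (⇑(Qm m F A B)) := by
  rw [← closure_posSetO, Subgroup.closure_le]
  exact posSetO_subset_omega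

theorem δO_mem_BO (b : ↥(BO m F A B)) : δO m F A B b ∈ BO m F A B := by
  rw [mem_BO]
  intro x y hxy
  rw [δO_apply, if_neg (by omega)]

theorem δO_δO (b : ↥(BO m F A B)) : δO m F A B ⟨δO m F A B b, δO_mem_BO b⟩ = δO m F A B b := by
  apply φO_injective
  ext x y
  rw [δO_apply]
  by_cases h : ht m x = ht m y
  · rw [if_pos h]
  · rw [if_neg h, δO_apply, if_neg h]

/-- the unipotent part of a block upper triangular isometry -/
theorem unip_mem_UO (b : ↥(BO m F A B)) : (δO m F A B b)⁻¹ * b.1 ∈ UO m F A B := by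
  have hu : (δO m F A B b)⁻¹ * b.1 ∈ BO m F A B :=
    (BO m F A B).mul_mem ((BO m F A B).inv_mem (δO_mem_BO b)) b.2
  have e : (⟨(δO m F A B b)⁻¹ * b.1, hu⟩ : ↥(BO m F A B)) =
      (⟨δO m F A B b, δO_mem_BO b⟩ : ↥(BO m F A B))⁻¹ * b := rfl
  refine ⟨⟨_, hu⟩, ?_, rfl⟩
  rw [SetLike.mem_coe, MonoidHom.mem_ker, e, map_mul, map_inv, δO_δO, inv_mul_cancel]

/-- the block diagonal part of an element of `B ≤ Ω` lies in `Ω` -/
theorem δO_mem_omega (b : ↥(BO m F A B)) (hb : b.1 ∈ Cfsg.Omega F (⇑(Qm m F A B))) :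
    δO m F A B b ∈ Cfsg.Omega F (⇑(Qm m F A B)) := by
  have h1 := UO_le_omega (unip_mem_UO b)
  have e : δO m F A B b = b.1 * ((δO m F A B b)⁻¹ * b.1)⁻¹ := by group
  rw [e]
  exact Subgroup.mul_mem _ hb (Subgroup.inv_mem _ h1)

/-- the block unitriangular elements of `Ω` -/
noncomputable def Uom (m : ℕ) (F : Type*) [Field F] [Fintype F] (A B : F) [Fact (Aniso A B)] :
    Subgroup (GO m F A B) :=
  (UO m F A B).comap (Subgroup.subtype _)

theorem mem_Uom {g : GO m F A B} : g ∈ Uom m F A B ↔ g.1 ∈ UO m F A B := Iff.rfl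

theorem Uom_le_Boo : Uom m F A B ≤ Boo m F A B := fun g hg => UO_le_BO (mem_Uom.1 hg)

/-- the block diagonal part as a homomorphism `B → T` -/
noncomputable def θ (m : ℕ) (F : Type*) [Field F] [Fintype F] (A B : F) [Fact (Aniso A B)] :
    ↥(Boo m F A B) →* ↥(Too m F A B) where
  toFun b := ⟨⟨δO m F A B ⟨b.1.1, b.2⟩, δO_mem_omega ⟨b.1.1, b.2⟩ b.1.2⟩, by
    rw [mem_Too]
    intro x y hxy
    rw [φ_apply]
    show φO m F A B (δO m F A B ⟨b.1.1, b.2⟩) x y = 0
    rw [δO_apply, if_neg hxy]⟩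
  map_one' := by
    apply Subtype.ext; apply Subtype.ext
    show δO m F A B (1 : ↥(BO m F A B)) = 1
    exact map_one _
  map_mul' := by
    intro x y
    apply Subtype.ext; apply Subtype.ext
    show δO m F A B ((⟨x.1.1, x.2⟩ : ↥(BO m F A B)) * ⟨y.1.1, y.2⟩) = _
    exact map_mul _ _ _

theorem θ_coe (b : ↥(Boo m F A B)) : (θ m F A B b).1.1 = δO m F A B ⟨b.1.1, b.2⟩ := rfl

theorem θ_surjective : Function.Surjective (θ m F A B) := by
  intro t
  refine ⟨⟨t.1, Too_le_Boo t.2⟩, ?_⟩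
  apply Subtype.ext; apply Subtype.ext
  rw [θ_coe]
  apply φO_injective
  ext x y
  rw [δO_apply]
  by_cases h : ht m x = ht m y
  · rw [if_pos h]
  · rw [if_neg h]
    exact ((mem_Too.1 t.2) x y h).symm

theorem θ_ker : (θ m F A B).ker = (Uom m F A B).subgroupOf (Boo m F A B) := by
  ext b
  rw [MonoidHom.mem_ker, Subgroup.mem_subgroupOf, mem_Uom]
  constructor
  · intro h
    have h1 : δO m F A B ⟨b.1.1, b.2⟩ = 1 := by
      rw [← θ_coe, h]; rfl
    exact ⟨⟨b.1.1, b.2⟩, h1, rfl⟩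
  · rintro ⟨c, hc, hcb⟩
    have e : c = ⟨b.1.1, b.2⟩ := Subtype.ext hcb
    rw [SetLike.mem_coe, MonoidHom.mem_ker, e] at hc
    apply Subtype.ext; apply Subtype.ext
    rw [θ_coe, hc]; rfl

/-- `|B| = |U| |T|` -/
theorem card_Boo_eq : Nat.card (Boo m F A B) = Nat.card (Uom m F A B) * Nat.card (Too m F A B) := by
  rw [Cfsg.Agent.Lib.Helper22_StOm_CARDB.card_eq_ker_mul_range (θ m F A B),
    MonoidHom.range_eq_top.2 θ_surjective, Subgroup.card_top, θ_ker,
    Nat.card_congr (Subgroup.subgroupOfEquivOfLe Uom_le_Boo).toEquiv]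

theorem isPGroup_Uom (p : ℕ) [Fact p.Prime] [CharP F p] : IsPGroup p (Uom m F A B) := by
  intro u
  obtain ⟨hB, h1⟩ := mem_UO.1 (mem_Uom.1 u.2)
  obtain ⟨k, hk⟩ := Cfsg.Agent.Lib.Helper84_StOm_PGRP.unitri_pow p u.1.1 hB (by
    intro x y hxy
    rw [h1 x y hxy, Matrix.one_apply])
  refine ⟨k, ?_⟩
  apply Subtype.ext; apply Subtype.ext
  rw [Subgroup.coe_pow, Subgroup.coe_pow, Subgroup.coe_one, Subgroup.coe_one]
  exact hk

/-- **OM-SYL**: the block unitriangular subgroup is a Sylow `p`-subgroup of `Ω⁻_{2m+2}(F)`, `m ≥ 2`. -/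
theorem sylow_Uom (p : ℕ) [Fact p.Prime] [CharP F p] (hm : 2 ≤ m) :
    ∃ Q : Sylow p (GO m F A B), (Q : Subgroup (GO m F A B)) = Uom m F A B := by
  classical
  have hfin : Finite (GO m F A B) := Subtype.finite
  obtain ⟨k, hk⟩ := (isPGroup_Uom (m := m) (A := A) (B := B) p).exists_card_eq
  have hBT : Nat.card ((Cfsg.Agent.Lib.Helper22_StOm.omRDat (A := A) (B := B) hm).B) =
      Nat.card ↥((Cfsg.Agent.Lib.Helper22_StOm.omRDat (A := A) (B := B) hm).B ⊓
        (Cfsg.Agent.Lib.Helper22_StOm.omRDat (A := A) (B := B) hm).N) * p ^ k := by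
    show Nat.card (Boo m F A B) = Nat.card ↥(Boo m F A B ⊓ Noo m F A B) * _
    rw [Cfsg.Agent.Lib.Helper22_StOm.Boo_inf_Noo, card_Boo_eq, hk, mul_comm]
  have hT : ¬ p ∣ Nat.card ↥((Cfsg.Agent.Lib.Helper22_StOm.omRDat (A := A) (B := B) hm).B ⊓
      (Cfsg.Agent.Lib.Helper22_StOm.omRDat (A := A) (B := B) hm).N) := by
    show ¬ p ∣ Nat.card ↥(Boo m F A B ⊓ Noo m F A B)
    rw [Cfsg.Agent.Lib.Helper22_StOm.Boo_inf_Noo]
    exact Cfsg.Agent.Lib.Helper88_StOm_TORUS.not_dvd_card_Too p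
  exact exists_sylow_of_card p (Uom m F A B) k hk
    (Cfsg.Agent.Lib.Helper27_StSU_GENERIC.hG_of_hBT
      (Cfsg.Agent.Lib.Helper22_StOm.omRDat (A := A) (B := B) hm) p k hBT hT)

/-- the positive root elements of `Ω` -/
def posSet (m : ℕ) (F : Type*) [Field F] [Fintype F] (A B : F) [Fact (Aniso A B)] : Set (GO m F A B) :=
  {g | (∃ (a c : I m) (t : F), LxOK a c ∧ ht m a < ht m c ∧ g = lx A B a c t) ∨
    (∃ (i : Fin m) (s t : F), g = sx A B (ie i) s t)}

theorem image_posSet :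
    (Subgroup.subtype (Cfsg.Omega F (⇑(Qm m F A B)))) '' (posSet m F A B) = posSetO m F A B := by
  ext g
  constructor
  · rintro ⟨h, (⟨a, c, t, h1, h2, rfl⟩ | ⟨i, s, t, rfl⟩), rfl⟩
    · exact Or.inl ⟨a, c, t, h1, h2, rfl⟩
    · exact Or.inr ⟨i, s, t, rfl⟩
  · rintro (⟨a, c, t, h1, h2, rfl⟩ | ⟨i, s, t, rfl⟩)
    · exact ⟨lx A B a c t, Or.inl ⟨a, c, t, h1, h2, rfl⟩, rfl⟩
    · exact ⟨sx A B (ie i) s t, Or.inr ⟨i, s, t, rfl⟩, rfl⟩

/-- **generation of the Sylow subgroup by root elements** -/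
theorem closure_posSet : Subgroup.closure (posSet m F A B) = Uom m F A B := by
  apply Subgroup.map_injective (Subgroup.subtype_injective (Cfsg.Omega F (⇑(Qm m F A B))))
  rw [MonoidHom.map_closure, image_posSet, closure_posSetO]
  ext g
  constructor
  · intro hg
    exact ⟨⟨g, UO_le_omega hg⟩, hg, rfl⟩
  · rintro ⟨h, hh, rfl⟩
    exact hh

theorem sqComm_Uom [CharP F 2] : SqComm (Uom m F A B) := by
  have h2 : ∀ t : F, t + t = 0 := by
    intro t
    have : (2 : F) = 0 := by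
      have := CharP.cast_eq_zero F 2
      exact_mod_cast this
    linear_combination t * this
  apply sqComm_of_gen (Uom m F A B) (posSet m F A B) closure_posSet
  rintro s (⟨a, c, t, -, -, rfl⟩ | ⟨i, s', t, rfl⟩)
  · rw [pow_two, lx_mul, h2, lx_zero]
    exact one_mem _
  · rw [pow_two, sx_mul, h2, h2, sx_zero]
    exact one_mem _

/-- **POM** (for the bundled form, Witt index `m ≥ 2`). -/
theorem ea2_GO [CharP F 2] (hm : 2 ≤ m) : EA2 (GO m F A B) := by
  have hfin : Finite (GO m F A B) := Subtype.finite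
  have : Fact (Nat.Prime 2) := ⟨Nat.prime_two⟩
  obtain ⟨Q, hQ⟩ := sylow_Uom (m := m) (F := F) (A := A) (B := B) 2 hm
  exact ea2_of_sylow_eq Q _ hQ sqComm_Uom

end Cfsg.Agent.Lib.Helper22_EA2_POM

namespace Cfsg.Agent.Lib.Helper22_EA2_POM

open Cfsg.Agent.Lib.Helper22_StOmDefs Cfsg.Agent.Lib.Helper68_EA2 Cfsg.Agent.Lib.Helper68_EA2Peel

/-- **POM**. -/
theorem ea2_pomega_minus {F : Type*} [Field F] [Fintype F] [CharP F 2] (m : ℕ) (a b : F) (hm : 4 ≤ m)
    (hab : ∀ z₁ z₂ : F, z₁ ^ 2 + a * z₁ * z₂ + b * z₂ ^ 2 = 0 → z₁ = 0 ∧ z₂ = 0) :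
    EA2 (Cfsg.POmega F (Cfsg.quadFormMinus (m - 1) F a b)) := by
  have : Fact (Aniso a b) := ⟨hab⟩
  have hfin : Finite (GO (m - 1) F a b) := Subtype.finite
  have h1 : EA2 (GO (m - 1) F a b) := ea2_GO (by omega)
  have h2 : EA2 (Cfsg.POmega F (⇑(Qm (m - 1) F a b))) := ea2_quot _ h1
  rw [Qm_coe] at h2
  exact h2

end Cfsg.Agent.Lib.Helper22_EA2_POM
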