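import Mathlib
import Cfsg.Agent.Lib.Helper94_FrmDefs2
import Cfsg.Agent.Lib.Helper9_S2151_CNT
import Cfsg.Agent.Lib.Helper14_PSULocal1
import Cfsg.Agent.Lib.Helper95_UQ_FLD
import Cfsg.Agent.Lib.Helper91_UQ_FROB

/-!
S5655 frames, package FR-MU (helper7): the norm-one group of a field with `q^2` elements and
involution `σ` has `q + 1` elements.
-/

set_option autoImplicit false

namespace Cfsg.Agent.Lib.Helper7_FR_MU

open Module Cfsg.Agent.Lib.Helper94_Herm

variable {F : Type*} [Field F] [Finite F] {σ : F →+* F}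

theorem two_le_q {q : ℕ} (hF : Nat.card F = q ^ 2) : 2 ≤ q := by
  have h1 : 1 < Nat.card F := Finite.one_lt_card
  rw [hF] at h1
  by_contra h
  have : q = 0 ∨ q = 1 := by omega
  rcases this with rfl | rfl <;> simp at h1

/-- FR-MU. -/
theorem MU (hσ : Invol σ) {q : ℕ} (hF : Nat.card F = q ^ 2) :
    Nat.card {ζ : F // ζ * σ ζ = 1} = q + 1 := by
  have hq := two_le_q hF
  have hfrob := Cfsg.Agent.Lib.Helper91_UQ_FROB.FROB hσ hF
  have hcyc : IsCyclic Fˣ := inferInstance
  have h1 := IsCyclic.card_powMonoidHom_ker Fˣ (q + 1)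
  have hcu : Nat.card Fˣ = q ^ 2 - 1 := by rw [Nat.card_units, hF]
  have hgcd : (Nat.card Fˣ).gcd (q + 1) = q + 1 := by
    rw [hcu]
    apply Nat.gcd_eq_right
    refine ⟨q - 1, ?_⟩
    have : q ^ 2 - 1 = (q + 1) * (q - 1) := by
      obtain ⟨k, rfl⟩ : ∃ k, q = k + 1 := ⟨q - 1, by omega⟩
      simp only [Nat.add_sub_cancel]
      have : (k + 1) ^ 2 = (k + 1 + 1) * k + 1 := by ring
      rw [this, Nat.add_sub_cancel]
    exact this
  rw [hgcd] at h1
  rw [← h1]
  apply Nat.card_congr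
  refine Equiv.ofBijective
    (fun ζ : {ζ : F // ζ * σ ζ = 1} =>
      (⟨Units.mk0 ζ.1 (by
        intro h0
        have := ζ.2
        rw [h0, zero_mul] at this
        exact zero_ne_one this), by
        rw [MonoidHom.mem_ker, powMonoidHom_apply]
        apply Units.ext
        rw [Units.val_pow_eq_pow_val, Units.val_mk0, Units.val_one, pow_succ', ← hfrob]
        exact ζ.2⟩ : (powMonoidHom (q + 1) : Fˣ →* Fˣ).ker)) ⟨?_, ?_⟩
  · intro a b hab
    have := congrArg (fun u : (powMonoidHom (q + 1) : Fˣ →* Fˣ).ker => ((u : Fˣ) : F)) hab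
    exact Subtype.ext this
  · rintro ⟨u, hu⟩
    rw [MonoidHom.mem_ker, powMonoidHom_apply] at hu
    have hu' : (u : F) * σ (u : F) = 1 := by
      rw [hfrob, ← pow_succ', ← Units.val_pow_eq_pow_val, hu, Units.val_one]
    refine ⟨⟨(u : F), hu'⟩, ?_⟩
    apply Subtype.ext
    apply Units.ext
    rfl

end Cfsg.Agent.Lib.Helper7_FR_MU
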