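import Mathlib
import Cfsg.Agent.Lib.Helper94_FrmDefs2
import Cfsg.Agent.Lib.Helper9_S2151_CNT
import Cfsg.Agent.Lib.Helper14_PSULocal1
import Cfsg.Agent.Lib.Helper95_UQ_FLD
import Cfsg.Agent.Lib.Helper7_FR_MU

/-!
S5655 frames, package FR-SPAN (helper7): the norms `N (1 - ζ)`, `ζ` of norm one, additively
generate the fixed field.  Also the common counting lemmas used by FR-PIGEON.
-/

set_option autoImplicit false
set_option linter.unusedSectionVars false
set_option linter.unusedVariables false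

namespace Cfsg.Agent.Lib.Helper7_FR_SPAN

open Module Cfsg.Agent.Lib.Helper94_Herm Cfsg.Agent.Lib.Helper94_FrmDefs

variable {F : Type*} [Field F] [Finite F] {σ : F →+* F}

/-- the fixed points of `σ`, as an additive subgroup -/
def fixAdd (σ : F →+* F) : AddSubgroup F where
  carrier := {a | σ a = a}
  add_mem' := by
    intro a b ha hb
    show σ (a + b) = a + b
    rw [map_add, ha, hb]
  zero_mem' := map_zero σ
  neg_mem' := by
    intro a ha
    show σ (-a) = -a
    rw [map_neg, ha]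

lemma mem_fixAdd {a : F} : a ∈ fixAdd σ ↔ σ a = a := Iff.rfl

/-- `q := |F₀|` satisfies `|F| = q²`. -/
lemma card_sq (hσ : Invol σ) : Nat.card F = (Nat.card {a : F // σ a = a}) ^ 2 := by
  rw [sq]
  exact Cfsg.Agent.Lib.Helper95_UQ_FLD.card_fixed_sq hσ

lemma card_fixAdd (hσ : Invol σ) : Nat.card (fixAdd σ) = Nat.card {a : F // σ a = a} := rfl

/-- the norm of `1 - ζ` -/
def nf (σ : F →+* F) (ζ : F) : F := (1 - ζ) * σ (1 - ζ)

lemma nf_fixed (hσ : Invol σ) (ζ : F) : σ (nf σ ζ) = nf σ ζ := by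
  unfold nf
  rw [map_mul, hσ.invol, mul_comm]

/-- fibres of `ζ ↦ N (1 - ζ)` on the norm-one group have at most two elements -/
lemma fib_le_two [DecidableEq F] (S : Finset F) (hS : ∀ ζ ∈ S, ζ * σ ζ = 1) (a : F) :
    (S.filter (fun ζ => nf σ ζ = a)).card ≤ 2 := by
  rcases (S.filter (fun ζ => nf σ ζ = a)).eq_empty_or_nonempty with h0 | ⟨ζ0, h0⟩
  · rw [h0]; simp
  · rw [Finset.mem_filter] at h0
    have hsub : S.filter (fun ζ => nf σ ζ = a) ⊆ {ζ0, σ ζ0} := by
      intro ζ hζ
      rw [Finset.mem_filter] at hζ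
      have h1 := hS ζ hζ.1
      have h2 := hS ζ0 h0.1
      have h3 : nf σ ζ = nf σ ζ0 := hζ.2.trans h0.2.symm
      unfold nf at h3
      simp only [map_sub, map_one] at h3
      have h4 : (ζ - ζ0) * (ζ - σ ζ0) = 0 := by
        linear_combination (-ζ) * h3 + (1 - ζ) * h2 - (1 - ζ) * h1
      rw [Finset.mem_insert, Finset.mem_singleton]
      rcases mul_eq_zero.mp h4 with h | h
      · exact Or.inl (sub_eq_zero.mp h)
      · exact Or.inr (sub_eq_zero.mp h)
    exact (Finset.card_le_card hsub).trans Finset.card_le_two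

/-- the norm-one elements as a finset, of cardinality `q + 1` -/
lemma card_mu [Fintype F] [DecidableEq F] (hσ : Invol σ) :
    (Finset.univ.filter (fun ζ : F => ζ * σ ζ = 1)).card = Nat.card {a : F // σ a = a} + 1 := by
  rw [← Cfsg.Agent.Lib.Helper7_FR_MU.MU hσ (card_sq hσ), Nat.card_eq_fintype_card,
    Fintype.card_subtype]

/-- FR-SPAN. -/
theorem SPAN (hσ : Invol σ) (A : AddSubgroup F)
    (hA : ∀ ζ ∈ mu1 σ, (1 - ζ) * σ (1 - ζ) ∈ A) : ∀ a : F, σ a = a → a ∈ A := by
  classical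
  have : Fintype F := Fintype.ofFinite F
  set q := Nat.card {a : F // σ a = a} with hq
  set mu : Finset F := Finset.univ.filter (fun ζ : F => ζ * σ ζ = 1) with hmu
  have hmuc : mu.card = q + 1 := card_mu hσ
  set T : Finset F := mu.image (nf σ) with hT
  have h2 : mu.card ≤ 2 * T.card :=
    Finset.card_le_mul_card_image mu 2 (fun a _ =>
      fib_le_two mu (fun ζ hζ => by rw [hmu, Finset.mem_filter] at hζ; exact hζ.2) a)
  set A' : AddSubgroup F := A ⊓ fixAdd σ with hA'
  have hTA : (T : Set F) ⊆ (A' : Set F) := by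
    intro x hx
    rw [Finset.mem_coe, hT, Finset.mem_image] at hx
    obtain ⟨ζ, hζ, rfl⟩ := hx
    rw [hmu, Finset.mem_filter] at hζ
    exact ⟨hA ζ hζ.2, nf_fixed hσ ζ⟩
  have hTc : T.card ≤ Nat.card A' := by
    have h := Set.ncard_le_ncard hTA (Set.toFinite _)
    rw [Set.ncard_coe_finset, ← Nat.card_coe_set_eq] at h
    exact h
  have hdvd : Nat.card A' ∣ Nat.card (fixAdd σ) := AddSubgroup.card_dvd_of_le inf_le_right
  rw [card_fixAdd hσ, ← hq] at hdvd
  have hqpos : 0 < q := by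
    rw [hq]
    have : Nonempty {a : F // σ a = a} := ⟨⟨0, map_zero σ⟩⟩
    exact Nat.card_pos
  obtain ⟨k, hk⟩ := hdvd
  have hk1 : k = 1 := by
    rcases k with _ | _ | k
    · rw [mul_zero] at hk; omega
    · rfl
    · exfalso
      have : q ≥ 2 * Nat.card A' := by
        rw [hk]; nlinarith
      omega
  rw [hk1, mul_one] at hk
  have heq : A' = fixAdd σ :=
    AddSubgroup.eq_of_le_of_card_ge inf_le_right (by rw [card_fixAdd hσ, ← hq, hk])
  intro a ha
  have : a ∈ A' := by rw [heq]; exact ha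
  exact this.1

end Cfsg.Agent.Lib.Helper7_FR_SPAN
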