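import Mathlib
import Cfsg.Agent.Lib.Helper94_FrmDefs2
import Cfsg.Agent.Lib.Helper9_S2151_CNT
import Cfsg.Agent.Lib.Helper14_PSULocal1
import Cfsg.Agent.Lib.Helper95_UQ_FLD
import Cfsg.Agent.Lib.Helper7_FR_MU
import Cfsg.Agent.Lib.Helper7_FR_SPAN

/-!
S5655 frames, package FR-PIGEON (helper7): two norms `N (1 - ζ)` with a prescribed ratio in the
fixed field.
-/

set_option autoImplicit false
set_option linter.unusedSectionVars false
set_option linter.unusedVariables false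

namespace Cfsg.Agent.Lib.Helper7_FR_PIGEON

open Module Cfsg.Agent.Lib.Helper94_Herm Cfsg.Agent.Lib.Helper94_FrmDefs
  Cfsg.Agent.Lib.Helper7_FR_SPAN

variable {F : Type*} [Field F] [Finite F] {σ : F →+* F}

/-- FR-PIGEON. -/
theorem PIGEON (hσ : Invol σ) {r0 : F} (hr0 : r0 ≠ 0) (hr : σ r0 = r0) :
    ∃ ν a : F, ν * σ ν = 1 ∧ a * σ a = 1 ∧ ν ≠ 1 ∧ a ≠ 1 ∧
      (ν - 1) * σ (ν - 1) = r0 * ((1 - a) * σ (1 - a)) := by
  classical
  have : Fintype F := Fintype.ofFinite F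
  set q := Nat.card {a : F // σ a = a} with hq
  set mu : Finset F := Finset.univ.filter (fun ζ : F => ζ * σ ζ = 1) with hmu
  have hmuc : mu.card = q + 1 := card_mu hσ
  have h1mu : (1 : F) ∈ mu := by
    rw [hmu, Finset.mem_filter]
    exact ⟨Finset.mem_univ _, by rw [map_one, mul_one]⟩
  set mu' : Finset F := mu.erase 1 with hmu'
  have hmu'c : mu'.card = q := by
    rw [hmu', Finset.card_erase_of_mem h1mu, hmuc, Nat.add_sub_cancel]
  have hmem' : ∀ ζ ∈ mu', ζ * σ ζ = 1 ∧ ζ ≠ 1 := by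
    intro ζ hζ
    rw [hmu', Finset.mem_erase, hmu, Finset.mem_filter] at hζ
    exact ⟨hζ.2.2, hζ.1⟩
  set C : Finset F := mu'.image (nf σ) with hC
  have h2 : mu'.card ≤ 2 * C.card :=
    Finset.card_le_mul_card_image mu' 2 (fun a _ =>
      fib_le_two mu' (fun ζ hζ => (hmem' ζ hζ).1) a)
  -- the nonzero fixed elements
  set Fx : Finset F := (Finset.univ.filter (fun a : F => σ a = a)).erase 0 with hFx
  have hFxc : Fx.card = q - 1 := by
    rw [hFx, Finset.card_erase_of_mem (by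
      rw [Finset.mem_filter]; exact ⟨Finset.mem_univ _, map_zero σ⟩)]
    congr 1
    rw [hq, Nat.card_eq_fintype_card, Fintype.card_subtype]
  have hCF : C ⊆ Fx := by
    intro x hx
    rw [hC, Finset.mem_image] at hx
    obtain ⟨ζ, hζ, rfl⟩ := hx
    obtain ⟨hζ1, hζ2⟩ := hmem' ζ hζ
    rw [hFx, Finset.mem_erase, Finset.mem_filter]
    refine ⟨?_, Finset.mem_univ _, nf_fixed hσ ζ⟩
    unfold nf
    have h1 : (1 - ζ) ≠ 0 := fun h => hζ2 (sub_eq_zero.mp h).symm
    exact mul_ne_zero h1 ((map_ne_zero σ).2 h1)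
  set D : Finset F := C.image (fun x => r0 * x) with hD
  have hDc : D.card = C.card :=
    Finset.card_image_of_injective C (fun x y h => mul_left_cancel₀ hr0 h)
  have hDF : D ⊆ Fx := by
    intro x hx
    rw [hD, Finset.mem_image] at hx
    obtain ⟨y, hy, rfl⟩ := hx
    have := hCF hy
    rw [hFx, Finset.mem_erase, Finset.mem_filter] at this ⊢
    exact ⟨mul_ne_zero hr0 this.1, Finset.mem_univ _, by rw [map_mul, hr, this.2.2]⟩
  have hqpos : 0 < q := by
    rw [hq]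
    have : Nonempty {a : F // σ a = a} := ⟨⟨0, map_zero σ⟩⟩
    exact Nat.card_pos
  have hmeet : ¬ Disjoint C D := by
    intro hdis
    have h3 : (C ∪ D).card ≤ Fx.card := Finset.card_le_card (Finset.union_subset hCF hDF)
    rw [Finset.card_union_of_disjoint hdis, hDc, hFxc] at h3
    omega
  rw [Finset.not_disjoint_iff] at hmeet
  obtain ⟨x, hxC, hxD⟩ := hmeet
  rw [hC, Finset.mem_image] at hxC
  obtain ⟨ν, hν, hνx⟩ := hxC
  rw [hD, Finset.mem_image] at hxD
  obtain ⟨y, hy, hyx⟩ := hxD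
  rw [hC, Finset.mem_image] at hy
  obtain ⟨a, ha, hay⟩ := hy
  refine ⟨ν, a, (hmem' ν hν).1, (hmem' a ha).1, (hmem' ν hν).2, (hmem' a ha).2, ?_⟩
  have h4 : nf σ ν = r0 * nf σ a := by rw [hνx, hay, hyx]
  unfold nf at h4
  rw [← h4]
  simp only [map_sub, map_one]
  ring

end Cfsg.Agent.Lib.Helper7_FR_PIGEON
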