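import Mathlib
import Cfsg.Agent.Lib.Helper94_FrmDefs2
import Cfsg.Agent.Lib.Helper9_S2151_CNT
import Cfsg.Agent.Lib.Helper14_PSULocal1
import Cfsg.Agent.Lib.Helper79_FR_FRAME
import Cfsg.Agent.Lib.Helper7_FR_PIGEON

/-!
# FR-S5B (S5655 frames market, architect helper94): support reduction, unbalanced pair
-/

set_option autoImplicit false
set_option linter.unusedSectionVars false

namespace Cfsg.Agent.Lib.Helper22_FR_S5B

open Module Cfsg.Agent.Lib.Helper94_Symp Cfsg.Agent.Lib.Helper94_Herm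
  Cfsg.Agent.Lib.Helper13_PSUSimple Cfsg.Agent.Lib.Helper27_UQDefs
  Cfsg.Agent.Lib.Helper94_FrmDefs Cfsg.Agent.Lib.Helper94_UDDefs
  Cfsg.Agent.Lib.Helper94_FrmDefs2 Cfsg.Agent.Lib.Helper27_UQ_KISO
  Cfsg.Agent.Lib.Helper94_HermTrans
  Cfsg.Agent.Lib.Helper79_FR_FRAME Cfsg.Agent.Lib.Helper7_FR_PIGEON

variable {F W : Type*} [Field F] [AddCommGroup W] [Module F W] [Finite F] [FiniteDimensional F W]
variable {σ : F →+* F} {B : W →ₗ[F] W →ₛₗ[σ] F}
variable {ι : Type*} [Fintype ι] [DecidableEq ι] {e : ι → W} {L : Subgroup (W ≃ₗ[F] W)}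

/-- the construction for one choice of the scalar `a'` -/
theorem core (hC : FCtx B e L) {u : W} (hu : u ∈ UU B L) {i j : ι} (hij : i ≠ j)
    (hj : B u (e j) ≠ 0) {ν a' : F} (hν : ν * σ ν = 1) (hν1 : ν ≠ 1) (ha' : a' * σ a' = 1)
    (hiso : (ν - 1) * σ (ν - 1) * (B u (e j) * σ (B u (e j))) =
      ((1 - a') * σ (1 - a')) * (B u (e i) * σ (B u (e i)) + B u (e j) * σ (B u (e j))))
    (hne : (a' - 1) * (B u (e i) * σ (B u (e i))) +
      (a' * ν - 1) * (B u (e j) * σ (B u (e j))) ≠ 0) :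
    ∃ v ∈ UU B L, v ≠ 0 ∧ B v (e i) = 0 ∧ ∀ k, B u (e k) = 0 → B v (e k) = 0 := by
  obtain ⟨hexp, hpars, hcoord, hdiag, -⟩ := FRAME hC.hσ hC.hB hC.he
  have hσ := hC.hσ
  have hB := hC.hB
  have ha0 : a' ≠ 0 := by
    rintro rfl
    rw [zero_mul] at ha'
    exact zero_ne_one ha'
  obtain ⟨ζ, hζi, hζj, hζk⟩ : ∃ ζ : ι → F, ζ i = a' ∧ ζ j = a' * ν ∧
      ∀ k, k ≠ i → k ≠ j → ζ k = 1 := by
    refine ⟨fun k => if k = i then a' else if k = j then a' * ν else 1, by simp, ?_, ?_⟩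
    · simp [hij.symm]
    · intro k hki hkj
      simp [hki, hkj]
  have hζN : ∀ k, ζ k * σ (ζ k) = 1 := by
    intro k
    by_cases hki : k = i
    · rw [hki, hζi, ha']
    · by_cases hkj : k = j
      · rw [hkj, hζj, map_mul]
        linear_combination (ν * σ ν) * ha' + hν
      · rw [hζk k hki hkj, map_one, mul_one]
  obtain ⟨d, hd, hde⟩ := hdiag ζ hζN
  have hdL : d ∈ L := hC.hML hd
  have hdu : ∀ k, B (d u) (e k) = B u (e k) * ζ k := by
    intro k
    have h1 : d u = ∑ k, (B u (e k) * ζ k) • e k := by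
      conv_lhs => rw [hexp u]
      rw [map_sum]
      refine Finset.sum_congr rfl fun k _ => ?_
      rw [map_smul, hde, smul_smul]
    rw [h1, hcoord]
  have hu' : d u ∈ UU B L := UU_map hC.hLU hdL hu
  have hsum0 : ∑ k, B u (e k) * σ (B u (e k)) = 0 := by rw [← hpars, hu.1]
  -- the inner product of `d u` and `u`
  have hBu'u : B (d u) u = (a' - 1) * (B u (e i) * σ (B u (e i))) +
      (a' * ν - 1) * (B u (e j) * σ (B u (e j))) := by
    rw [hpars]
    have h1 : ∀ k, B (d u) (e k) * σ (B u (e k)) =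
        (ζ k - 1) * (B u (e k) * σ (B u (e k))) + B u (e k) * σ (B u (e k)) := by
      intro k
      rw [hdu]
      ring
    simp only [h1]
    rw [Finset.sum_add_distrib, hsum0, add_zero, Fintype.sum_eq_add i j hij, hζi, hζj]
    rintro k ⟨hki, hkj⟩
    rw [hζk k hki hkj, sub_self, zero_mul]
  have hne1 : B u (d u) ≠ 0 := by
    apply herm_ne_zero hσ hB
    rw [hBu'u]
    exact hne
  -- coordinates of `v`
  have hvk : ∀ k, B (-a' • u + (1 : F) • d u) (e k) = B u (e k) * (ζ k - a') := by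
    intro k
    rw [map_add, LinearMap.add_apply, map_smul, map_smul, LinearMap.smul_apply,
      LinearMap.smul_apply, hdu, smul_eq_mul, smul_eq_mul]
    ring
  have hw : B (-a' • u + (1 : F) • d u) (-a' • u + (1 : F) • d u) = 0 := by
    rw [hpars]
    have h1 : ∀ k, B (-a' • u + (1 : F) • d u) (e k) * σ (B (-a' • u + (1 : F) • d u) (e k)) =
        ((ζ k - a') * σ (ζ k - a') - (1 - a') * σ (1 - a')) * (B u (e k) * σ (B u (e k))) +
          (1 - a') * σ (1 - a') * (B u (e k) * σ (B u (e k))) := by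
      intro k
      rw [hvk, map_mul]
      ring
    simp only [h1]
    rw [Finset.sum_add_distrib, ← Finset.mul_sum, hsum0, mul_zero, add_zero,
      Fintype.sum_eq_add i j hij, hζi, hζj]
    · have h2 : (a' * ν - a') * σ (a' * ν - a') = (ν - 1) * σ (ν - 1) := by
        have : a' * ν - a' = a' * (ν - 1) := by ring
        rw [this, map_mul]
        linear_combination ((ν - 1) * σ (ν - 1)) * ha'
      rw [h2, sub_self, map_zero, mul_zero]
      linear_combination hiso
    · rintro k ⟨hki, hkj⟩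
      rw [hζk k hki hkj, sub_self, zero_mul]
  refine ⟨-a' • u + (1 : F) • d u, UU_hyp hσ hB hC.hLU hu hu' hne1 (-a') 1 hw, ?_, ?_, ?_⟩
  · intro h0
    have h1 := hvk j
    rw [h0, LinearMap.map_zero₂, hζj] at h1
    have h2 : a' * ν - a' ≠ 0 := by
      have : a' * ν - a' = a' * (ν - 1) := by ring
      rw [this]
      exact mul_ne_zero ha0 (sub_ne_zero.mpr hν1)
    exact mul_ne_zero hj h2 h1.symm
  · rw [hvk, hζi, sub_self, mul_zero]
  · intro k hk
    rw [hvk, hk, zero_mul]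

/-- the two inner products cannot both vanish -/
theorem field_contra {Ni Nj ν a : F} (hσNi : σ Ni = Ni) (hσNj : σ Nj = Nj)
    (hNi0 : Ni ≠ 0) (hNj0 : Nj ≠ 0) (hb : Ni + Nj ≠ 0) (hν : ν * σ ν = 1) (ha : a * σ a = 1)
    (hν1 : ν ≠ 1) (ha1 : a ≠ 1) (h1 : (a - 1) * Ni + (a * ν - 1) * Nj = 0)
    (h2 : (σ a - 1) * Ni + (σ a * ν - 1) * Nj = 0) : False := by
  have h3 : (a - σ a) * (Ni + ν * Nj) = 0 := by linear_combination h1 - h2
  rcases mul_eq_zero.mp h3 with h4 | h4
  · -- `a` is fixed, hence `a = -1`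
    have h5 : σ a = a := (sub_eq_zero.mp h4).symm
    rw [h5] at ha
    have h6 : (a - 1) * (a + 1) = 0 := by linear_combination ha
    have ha2 : a = -1 := by
      rcases mul_eq_zero.mp h6 with h7 | h7
      · exact absurd (sub_eq_zero.mp h7) ha1
      · exact eq_neg_of_add_eq_zero_left h7
    have h2ne : (2 : F) ≠ 0 := by
      intro h20
      apply ha1
      rw [ha2]
      linear_combination -h20
    have h8 : -2 * Ni - (ν + 1) * Nj = 0 := by
      rw [ha2] at h1
      linear_combination h1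
    have h9 : -2 * Ni - (σ ν + 1) * Nj = 0 := by
      have := congrArg σ h8
      rw [map_sub, map_mul, map_mul, map_add, map_neg, map_ofNat, map_one, map_zero, hσNi,
        hσNj] at this
      exact this
    have h10 : (ν - σ ν) * Nj = 0 := by linear_combination h9 - h8
    have h11 : σ ν = ν := by
      rcases mul_eq_zero.mp h10 with h | h
      · exact (sub_eq_zero.mp h).symm
      · exact absurd h hNj0
    rw [h11] at hν
    have h12 : (ν - 1) * (ν + 1) = 0 := by linear_combination hν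
    have hν2 : ν = -1 := by
      rcases mul_eq_zero.mp h12 with h | h
      · exact absurd (sub_eq_zero.mp h) hν1
      · exact eq_neg_of_add_eq_zero_left h
    rw [hν2] at h8
    have h13 : 2 * Ni = 0 := by linear_combination -h8
    rcases mul_eq_zero.mp h13 with h | h
    · exact h2ne h
    · exact hNi0 h
  · apply hb
    linear_combination a * h4 - h1

theorem S5B (hC : FCtx B e L) {u : W} (hu : u ∈ UU B L) {i j : ι} (hij : i ≠ j)
    (hi : B u (e i) ≠ 0) (hj : B u (e j) ≠ 0)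
    (hb : B u (e i) * σ (B u (e i)) + B u (e j) * σ (B u (e j)) ≠ 0) :
    ∃ v ∈ UU B L, v ≠ 0 ∧ B v (e i) = 0 ∧ ∀ k, B u (e k) = 0 → B v (e k) = 0 := by
  have hσ := hC.hσ
  have hσNi : σ (B u (e i) * σ (B u (e i))) = B u (e i) * σ (B u (e i)) := by
    rw [map_mul, hσ.invol, mul_comm]
  have hσNj : σ (B u (e j) * σ (B u (e j))) = B u (e j) * σ (B u (e j)) := by
    rw [map_mul, hσ.invol, mul_comm]
  have hNi0 : B u (e i) * σ (B u (e i)) ≠ 0 := mul_ne_zero hi ((map_ne_zero σ).2 hi)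
  have hNj0 : B u (e j) * σ (B u (e j)) ≠ 0 := mul_ne_zero hj ((map_ne_zero σ).2 hj)
  have hr0 : (B u (e i) * σ (B u (e i)) + B u (e j) * σ (B u (e j))) /
      (B u (e j) * σ (B u (e j))) ≠ 0 := div_ne_zero hb hNj0
  have hr : σ ((B u (e i) * σ (B u (e i)) + B u (e j) * σ (B u (e j))) /
      (B u (e j) * σ (B u (e j)))) = (B u (e i) * σ (B u (e i)) + B u (e j) * σ (B u (e j))) /
      (B u (e j) * σ (B u (e j))) := by
    rw [map_div₀, map_add, hσNi, hσNj]
  obtain ⟨ν, a, hν, ha, hν1, ha1, heq⟩ := PIGEON hσ hr0 hr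
  have hiso : (ν - 1) * σ (ν - 1) * (B u (e j) * σ (B u (e j))) =
      ((1 - a) * σ (1 - a)) * (B u (e i) * σ (B u (e i)) + B u (e j) * σ (B u (e j))) := by
    have hσj : σ (B u (e j)) ≠ 0 := (map_ne_zero σ).2 hj
    rw [heq]
    field_simp
  by_cases h1 : (a - 1) * (B u (e i) * σ (B u (e i))) +
      (a * ν - 1) * (B u (e j) * σ (B u (e j))) = 0
  swap
  · exact core hC hu hij hj hν hν1 ha hiso h1
  by_cases h2 : (σ a - 1) * (B u (e i) * σ (B u (e i))) +
      (σ a * ν - 1) * (B u (e j) * σ (B u (e j))) = 0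
  swap
  · have ha' : σ a * σ (σ a) = 1 := by rw [hσ.invol, mul_comm]; exact ha
    have hiso' : (ν - 1) * σ (ν - 1) * (B u (e j) * σ (B u (e j))) =
        ((1 - σ a) * σ (1 - σ a)) *
          (B u (e i) * σ (B u (e i)) + B u (e j) * σ (B u (e j))) := by
      rw [hiso, map_sub, map_sub, hσ.invol, map_one]
      ring
    exact core hC hu hij hj hν hν1 ha' hiso' h2
  exact (field_contra hσNi hσNj hNi0 hNj0 hb hν ha hν1 ha1 h1 h2).elim

end Cfsg.Agent.Lib.Helper22_FR_S5B
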