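import Mathlib
import Cfsg.Agent.Lib.Helper94_FrmDefs2
import Cfsg.Agent.Lib.Helper94_HermTrans

/-!
# S5655 package FR-TRANS2 (helper77 for helper94): transvections of a hyperbolic plane

The group generated by the unitary transvections with centre in a hyperbolic plane
`P = span {f1, f2}` is transitive on the vectors of `P` of a given nonzero norm.
-/

set_option autoImplicit false
set_option linter.unusedSectionVars false
set_option linter.unusedVariables false

namespace Cfsg.Agent.Lib.Helper77_FR_TRANS2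

open Module Cfsg.Agent.Lib.Helper94_Symp Cfsg.Agent.Lib.Helper94_Herm
  Cfsg.Agent.Lib.Helper13_PSUSimple Cfsg.Agent.Lib.Helper27_UQDefs
  Cfsg.Agent.Lib.Helper94_FrmDefs Cfsg.Agent.Lib.Helper94_UDDefs
  Cfsg.Agent.Lib.Helper94_FrmDefs2 Cfsg.Agent.Lib.Helper27_UQ_KISO
  Cfsg.Agent.Lib.Helper94_HermTrans

variable {F W : Type*} [Field F] [AddCommGroup W] [Module F W] [Finite F] [FiniteDimensional F W]
variable {σ : F →+* F} {B : W →ₗ[F] W →ₛₗ[σ] F}

section plane

variable (hσ : Invol σ) (hB : IsHerm B) {f1 f2 : W} (h11 : B f1 f1 = 0) (h22 : B f2 f2 = 0)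
  (h12 : B f1 f2 = 1)

include hB h12 in
lemma h21 : B f2 f1 = 1 := by rw [hB f1 f2, h12, map_one]

include hB h11 h12 in
lemma act1 {s : F} (α β : F) :
    utv B f1 s (α • f1 + β • f2) = (α + s * β) • f1 + β • f2 := by
  rw [utv_apply B h11]
  simp only [map_add, map_smul, LinearMap.add_apply, LinearMap.smul_apply, smul_eq_mul, h11,
    h21 hB h12, mul_zero, mul_one, zero_add]
  rw [add_smul]
  abel

include hB h22 h12 in
lemma act2 {s : F} (α β : F) :
    utv B f2 s (α • f1 + β • f2) = α • f1 + (β + s * α) • f2 := by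
  rw [utv_apply B h22]
  simp only [map_add, map_smul, LinearMap.add_apply, LinearMap.smul_apply, smul_eq_mul, h22,
    h12, mul_zero, mul_one, add_zero]
  rw [add_smul]
  abel

include hB h11 h22 h12 in
lemma norm_eq (α β : F) :
    B (α • f1 + β • f2) (α • f1 + β • f2) = α * σ β + β * σ α := by
  simp only [map_add, map_smul, map_smulₛₗ, LinearMap.add_apply, LinearMap.smul_apply,
    smul_eq_mul, h11, h22, h12, h21 hB h12, mul_zero, mul_one, add_zero, zero_add]
  ring

lemma f1_mem : f1 ∈ Submodule.span F {f1, f2} := Submodule.subset_span (by simp)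

lemma f2_mem : f2 ∈ Submodule.span F {f1, f2} := Submodule.subset_span (by simp)

include hσ hB h11 h22 h12 in
/-- normal form, case `β` not fixed -/
lemma normalizeA {α β : F} (hβ : σ β ≠ β) (hN : α * σ β + β * σ α ≠ 0) :
    ∃ t ∈ tvGroup B (Submodule.span F {f1, f2}), ∃ α' : F,
      t (α • f1 + β • f2) = α' • f1 + f2 := by
  set d : F := β - σ β with hd
  have hd0 : d ≠ 0 := fun h => hβ (sub_eq_zero.mp h).symm
  have hσd : σ d = -d := by rw [hd, map_sub, hσ.invol]; ring
  set T : F := (1 - β) * σ α + σ (1 - β) * α with hT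
  have hσT : σ T = T := by
    rw [hT, map_add, map_mul, map_mul, hσ.invol, hσ.invol]; ring
  set s1 : F := -T / d with hs1
  have hs1d : s1 * d = -T := by rw [hs1]; field_simp
  have hσs1 : σ s1 = -s1 := by
    have h := congrArg σ hs1d
    rw [map_mul, map_neg, hσd, hσT] at h
    have h2 : σ s1 * d = -(s1 * d) := by rw [hs1d]; linear_combination -h
    have h3 : (σ s1 + s1) * d = 0 := by linear_combination h2
    rcases mul_eq_zero.mp h3 with h4 | h4
    · linear_combination h4
    · exact absurd h4 hd0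
  set α' : F := α + s1 * β with hα'
  have hσα' : σ α' = σ α - s1 * σ β := by rw [hα', map_add, map_mul, hσs1]; ring
  have hNα' : α' * σ β + β * σ α' = α * σ β + β * σ α := by rw [hσα', hα']; ring
  have hα'0 : α' ≠ 0 := by
    intro h0
    apply hN
    rw [← hNα', h0, map_zero]; ring
  set s2 : F := (1 - β) / α' with hs2
  have hs2α : s2 * α' = 1 - β := by rw [hs2]; field_simp
  have hkey : σ (1 - β) * α' + (1 - β) * σ α' = 0 := by
    rw [hσα', hα']
    have e1 : σ (1 - β) = 1 - σ β := by rw [map_sub, map_one]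
    rw [e1]
    have : (1 - σ β) * (α + s1 * β) + (1 - β) * (σ α - s1 * σ β) = T + s1 * d := by
      rw [hT, hd, e1]; ring
    rw [this, hs1d]; ring
  have hσs2 : σ s2 = -s2 := by
    have h := congrArg σ hs2α
    rw [map_mul] at h
    have hσα'0 : σ α' ≠ 0 := (map_ne_zero σ).2 hα'0
    have h2 : (σ s2 + s2) * (σ α' * α') = 0 := by
      have : (σ s2 + s2) * (σ α' * α') = (σ s2 * σ α') * α' + (s2 * α') * σ α' := by ring
      rw [this, h, hs2α]
      linear_combination hkey
    rcases mul_eq_zero.mp h2 with h4 | h4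
    · linear_combination h4
    · exact absurd h4 (mul_ne_zero hσα'0 hα'0)
  refine ⟨utv B f2 s2 * utv B f1 s1, ?_, α', ?_⟩
  · exact (tvGroup B _).mul_mem (utv_mem_tvGroup f2_mem h22 hσs2)
      (utv_mem_tvGroup f1_mem h11 hσs1)
  · rw [LinearEquiv.mul_apply, act1 hB h11 h12, act2 hB h22 h12, ← hα']
    have : β + s2 * α' = 1 := by rw [hs2α]; ring
    rw [this, one_smul]

include hσ hB h11 h22 h12 in
/-- normal form, general case -/
lemma normalize {α β : F} (hN : α * σ β + β * σ α ≠ 0) :
    ∃ t ∈ tvGroup B (Submodule.span F {f1, f2}), ∃ α' : F,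
      t (α • f1 + β • f2) = α' • f1 + f2 := by
  by_cases hβ : σ β = β
  · obtain ⟨s0, hs00, hs0⟩ := exists_skew hσ
    have htr : α + σ α ≠ 0 := by
      intro h
      apply hN
      rw [hβ]
      linear_combination β * h
    set β1 : F := β + s0 * α with hβ1
    have hβ1' : σ β1 ≠ β1 := by
      rw [hβ1, map_add, map_mul, hs0, hβ]
      intro h
      have : s0 * (α + σ α) = 0 := by linear_combination -h
      rcases mul_eq_zero.mp this with h1 | h1
      · exact hs00 h1
      · exact htr h1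
    have hN1 : α * σ β1 + β1 * σ α ≠ 0 := by
      have : α * σ β1 + β1 * σ α = α * σ β + β * σ α := by
        rw [hβ1, map_add, map_mul, hs0]; ring
      rw [this]; exact hN
    obtain ⟨t, ht, α', hα'⟩ := normalizeA hσ hB h11 h22 h12 hβ1' hN1
    refine ⟨t * utv B f2 s0, (tvGroup B _).mul_mem ht (utv_mem_tvGroup f2_mem h22 hs0), α', ?_⟩
    rw [LinearEquiv.mul_apply, act2 hB h22 h12, ← hβ1, hα']
  · exact normalizeA hσ hB h11 h22 h12 hβ hN

end plane

/-- FR-TRANS2. -/
theorem TRANS2 (hσ : Invol σ) (hB : IsHerm B) {f1 f2 : W} (h11 : B f1 f1 = 0) (h22 : B f2 f2 = 0)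
    (h12 : B f1 f2 = 1) {x x' : W} (hx : x ∈ Submodule.span F {f1, f2})
    (hx' : x' ∈ Submodule.span F {f1, f2}) (hN : B x x ≠ 0) (hNN : B x' x' = B x x) :
    ∃ t ∈ tvGroup B (Submodule.span F {f1, f2}), t x = x' := by
  obtain ⟨α, β, rfl⟩ := Submodule.mem_span_pair.mp hx
  obtain ⟨α', β', rfl⟩ := Submodule.mem_span_pair.mp hx'
  have hN1 : α * σ β + β * σ α ≠ 0 := by rw [← norm_eq hB h11 h22 h12]; exact hN
  have hN2 : α' * σ β' + β' * σ α' ≠ 0 := by
    rw [← norm_eq hB h11 h22 h12, hNN]; exact hN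
  obtain ⟨t1, ht1, a1, h1⟩ := normalize hσ hB h11 h22 h12 hN1
  obtain ⟨t2, ht2, a2, h2⟩ := normalize hσ hB h11 h22 h12 hN2
  have hu1 : t1 ∈ uG B := tvGroup_le_uG hB _ ht1
  have hu2 : t2 ∈ uG B := tvGroup_le_uG hB _ ht2
  -- the two normal forms have the same norm
  have e1 : a1 + σ a1 = α * σ β + β * σ α := by
    have := hu1 (α • f1 + β • f2) (α • f1 + β • f2)
    rw [h1, norm_eq hB h11 h22 h12] at this
    have h3 : B (a1 • f1 + f2) (a1 • f1 + f2) = a1 + σ a1 := by
      have := norm_eq hB h11 h22 h12 a1 1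
      rw [one_smul, map_one, mul_one, one_mul] at this
      exact this
    rw [h3] at this
    exact this
  have e2 : a2 + σ a2 = α' * σ β' + β' * σ α' := by
    have := hu2 (α' • f1 + β' • f2) (α' • f1 + β' • f2)
    rw [h2, norm_eq hB h11 h22 h12] at this
    have h3 : B (a2 • f1 + f2) (a2 • f1 + f2) = a2 + σ a2 := by
      have := norm_eq hB h11 h22 h12 a2 1
      rw [one_smul, map_one, mul_one, one_mul] at this
      exact this
    rw [h3] at this
    exact this
  have e3 : α' * σ β' + β' * σ α' = α * σ β + β * σ α := by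
    rw [← norm_eq hB h11 h22 h12, ← norm_eq hB h11 h22 h12]; exact hNN
  have hs : σ (a2 - a1) = -(a2 - a1) := by
    rw [map_sub]
    linear_combination e2 - e1 + e3
  refine ⟨t2⁻¹ * (utv B f1 (a2 - a1) * t1), ?_, ?_⟩
  · exact (tvGroup B _).mul_mem ((tvGroup B _).inv_mem ht2)
      ((tvGroup B _).mul_mem (utv_mem_tvGroup f1_mem h11 hs) ht1)
  · rw [LinearEquiv.mul_apply, LinearEquiv.mul_apply, h1]
    have h4 : utv B f1 (a2 - a1) (a1 • f1 + f2) = a2 • f1 + f2 := by
      have := act1 hB h11 h12 (s := a2 - a1) a1 1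
      rw [one_smul, mul_one] at this
      rw [this]
      congr 2
      ring
    rw [h4, ← h2, inv_apply_apply']

end Cfsg.Agent.Lib.Helper77_FR_TRANS2
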