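import Mathlib
import Cfsg.Agent.Lib.Helper94_FrmDefs2
import Cfsg.Agent.Lib.Helper9_S2151_CNT
import Cfsg.Agent.Lib.Helper14_PSULocal1

/-!
# S5655 FR market, package FR-PLANE (architect helper94, proof helper9)

The coordinate planes of an orthonormal frame are hyperbolic (all characteristics).
-/

set_option autoImplicit false
set_option linter.unusedSectionVars false

namespace Cfsg.Agent.Lib.Helper9_FR_PLANE

open Module Cfsg.Agent.Lib.Helper94_Symp Cfsg.Agent.Lib.Helper94_Herm
  Cfsg.Agent.Lib.Helper13_PSUSimple Cfsg.Agent.Lib.Helper27_UQDefs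
  Cfsg.Agent.Lib.Helper94_FrmDefs Cfsg.Agent.Lib.Helper94_UDDefs
  Cfsg.Agent.Lib.Helper94_FrmDefs2 Cfsg.Agent.Lib.Helper27_UQ_KISO
  Cfsg.Agent.Lib.Helper94_HermTrans

variable {F W : Type*} [Field F] [AddCommGroup W] [Module F W] [Finite F] [FiniteDimensional F W]
variable {σ : F →+* F} {B : W →ₗ[F] W →ₛₗ[σ] F}
variable {ι : Type*} [Fintype ι] [DecidableEq ι] {e : ι → W} {L : Subgroup (W ≃ₗ[F] W)}

/-- completing an isotropic vector `f1` with `B f1 x = 1`, `B x x = 1` to a hyperbolic pair -/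
theorem partner_aux {f1 x : W} (h11 : B f1 f1 = 0) (h1x : B f1 x = 1) (hx1 : B x f1 = 1)
    (hxx : B x x = 1) {d : F} (hd : d + σ d = -1) :
    B (x + d • f1) (x + d • f1) = 0 ∧ B f1 (x + d • f1) = 1 := by
  constructor
  · simp only [map_add, map_smul, map_smulₛₗ, LinearMap.add_apply, LinearMap.smul_apply, smul_eq_mul,
      h11, h1x, hx1, hxx, mul_zero, add_zero, mul_one]
    linear_combination hd
  · simp only [map_add, map_smulₛₗ, smul_eq_mul, h11, h1x, mul_zero, add_zero]

/-- a hyperbolic pair spanning the plane of two orthonormal vectors -/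
theorem plane_of_orthonormal (hσ : Invol σ) (hB : IsHerm B) {x y : W} (hxx : B x x = 1)
    (hyy : B y y = 1) (hxy : B x y = 0) :
    ∃ f1 f2 : W, B f1 f1 = 0 ∧ B f2 f2 = 0 ∧ B f1 f2 = 1 ∧
      Submodule.span F {f1, f2} = Submodule.span F {x, y} := by
  have hyx : B y x = 0 := herm_eq_zero hB hxy
  obtain ⟨l, hl⟩ := norm_surj hσ (-1 : F) (by rw [map_neg, map_one])
  obtain ⟨d, hd⟩ := tr_surj hσ (-1 : F) (by rw [map_neg, map_one])
  have hl0 : l ≠ 0 := by
    rintro rfl
    rw [zero_mul] at hl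
    exact one_ne_zero (neg_eq_zero.mp hl.symm)
  have h11 : B (x + l • y) (x + l • y) = 0 := by
    simp only [map_add, map_smul, map_smulₛₗ, LinearMap.add_apply, LinearMap.smul_apply, smul_eq_mul,
      hxx, hyy, hxy, hyx, mul_zero, add_zero, zero_add, mul_one]
    linear_combination hl
  have h1x : B (x + l • y) x = 1 := by
    simp only [map_add, map_smul, LinearMap.add_apply, LinearMap.smul_apply, smul_eq_mul, hxx, hyx,
      mul_zero, add_zero]
  have hx1 : B x (x + l • y) = 1 := by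
    rw [hB (x + l • y) x, h1x, map_one]
  obtain ⟨h22, h12⟩ := partner_aux h11 h1x hx1 hxx hd
  refine ⟨x + l • y, x + d • (x + l • y), h11, h22, h12, ?_⟩
  obtain ⟨k, hk⟩ : ∃ k : F, k * l = 1 := ⟨l⁻¹, inv_mul_cancel₀ hl0⟩
  apply le_antisymm
  · rw [Submodule.span_le]
    intro z hz
    rcases hz with rfl | hz
    · exact Submodule.mem_span_pair.mpr ⟨1, l, by rw [one_smul]⟩
    · rw [Set.mem_singleton_iff] at hz
      subst hz
      exact Submodule.mem_span_pair.mpr ⟨1 + d, d * l, by module⟩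
  · rw [Submodule.span_le]
    intro z hz
    rcases hz with rfl | hz
    · exact Submodule.mem_span_pair.mpr ⟨-d, 1, by module⟩
    · rw [Set.mem_singleton_iff] at hz
      subst hz
      refine Submodule.mem_span_pair.mpr ⟨k * (1 + d), -k, ?_⟩
      have e : z = (k * l) • z := by rw [hk, one_smul]
      conv_rhs => rw [e]
      module

/-- FR-PLANE. -/
theorem PLANE (hσ : Invol σ) (hB : IsHerm B) (he : OFrame B e) {i j : ι} (hij : i ≠ j) :
    ∃ f1 f2 : W, B f1 f1 = 0 ∧ B f2 f2 = 0 ∧ B f1 f2 = 1 ∧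
      Submodule.span F {f1, f2} = Submodule.span F {e i, e j} :=
  plane_of_orthonormal hσ hB (he.unit i) (he.unit j) (he.orth i j hij)

end Cfsg.Agent.Lib.Helper9_FR_PLANE
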