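import Mathlib
import Cfsg.Agent.Lib.Helper94_FrmDefs2
import Cfsg.Agent.Lib.Helper9_S2151_CNT
import Cfsg.Agent.Lib.Helper14_PSULocal1

/-!
# S5655 FR market, package FR-SCALE2 (architect helper94, proof helper9)

The transvection group of a hyperbolic plane scales an isotropic vector by any nonzero element of the fixed field.
-/

set_option autoImplicit false
set_option linter.unusedSectionVars false

namespace Cfsg.Agent.Lib.Helper9_FR_SCALE2

open Module Cfsg.Agent.Lib.Helper94_Symp Cfsg.Agent.Lib.Helper94_Herm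
  Cfsg.Agent.Lib.Helper13_PSUSimple Cfsg.Agent.Lib.Helper27_UQDefs
  Cfsg.Agent.Lib.Helper94_FrmDefs Cfsg.Agent.Lib.Helper94_UDDefs
  Cfsg.Agent.Lib.Helper94_FrmDefs2 Cfsg.Agent.Lib.Helper27_UQ_KISO
  Cfsg.Agent.Lib.Helper94_HermTrans

variable {F W : Type*} [Field F] [AddCommGroup W] [Module F W] [Finite F] [FiniteDimensional F W]
variable {σ : F →+* F} {B : W →ₗ[F] W →ₛₗ[σ] F}
variable {ι : Type*} [Fintype ι] [DecidableEq ι] {e : ι → W} {L : Subgroup (W ≃ₗ[F] W)}

/-- FR-SCALE2. -/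
theorem SCALE2 (hσ : Invol σ) (hB : IsHerm B) {f1 f2 : W} (h11 : B f1 f1 = 0) (h22 : B f2 f2 = 0)
    (h12 : B f1 f2 = 1) {α : F} (hα : α ≠ 0) (hα' : σ α = α) :
    ∃ t ∈ tvGroup B (Submodule.span F {f1, f2}), t f1 = α • f1 := by
  have h21 : B f2 f1 = 1 := by rw [hB f1 f2, h12, map_one]
  obtain ⟨s, hs0, hs⟩ := exists_skew hσ
  have hf1 : f1 ∈ Submodule.span F {f1, f2} := Submodule.subset_span (Set.mem_insert _ _)
  have hf2 : f2 ∈ Submodule.span F {f1, f2} :=
    Submodule.subset_span (Set.mem_insert_of_mem _ rfl)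
  have hs' : σ ((α - 1) / s) = -((α - 1) / s) := by
    rw [map_div₀, map_sub, map_one, hα', hs]
    field_simp
  have hs'' : σ (-s / α) = -(-s / α) := by
    rw [map_div₀, map_neg, hα', hs]
    field_simp
  refine ⟨utv B f2 (-s / α) * utv B f1 ((α - 1) / s) * utv B f2 s,
    Subgroup.mul_mem _ (Subgroup.mul_mem _ (utv_mem_tvGroup hf2 h22 hs'')
      (utv_mem_tvGroup hf1 h11 hs')) (utv_mem_tvGroup hf2 h22 hs), ?_⟩
  have step1 : utv B f2 s f1 = f1 + s • f2 := by
    rw [utv_apply B h22, h12, mul_one]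
  have step2 : utv B f1 ((α - 1) / s) (f1 + s • f2) = α • f1 + s • f2 := by
    rw [utv_apply B h11, map_add, map_smul, LinearMap.add_apply, LinearMap.smul_apply, h11, h21,
      smul_eq_mul, mul_one, zero_add]
    have e1 : (α - 1) / s * s = α - 1 := by field_simp
    rw [e1]
    module
  have step3 : utv B f2 (-s / α) (α • f1 + s • f2) = α • f1 := by
    rw [utv_apply B h22, map_add, map_smul, map_smul, LinearMap.add_apply, LinearMap.smul_apply,
      LinearMap.smul_apply, h12, h22, smul_eq_mul, smul_eq_mul, mul_one, mul_zero, add_zero]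
    have e2 : -s / α * α = -s := by field_simp
    rw [e2]
    module
  rw [LinearEquiv.mul_apply, LinearEquiv.mul_apply, step1, step2, step3]

end Cfsg.Agent.Lib.Helper9_FR_SCALE2
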