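import Mathlib
import Cfsg.Agent.Lib.Helper94_FrmDefs2
import Cfsg.Agent.Lib.Helper9_S2151_CNT
import Cfsg.Agent.Lib.Helper14_PSULocal1
import Cfsg.Agent.Lib.Helper95_UQ_FLD
import Cfsg.Agent.Lib.Helper79_FR_FRAME
import Cfsg.Agent.Lib.Helper77_FR_TRANS2
import Cfsg.Agent.Lib.Helper9_FR_SCALE2
import Cfsg.Agent.Lib.Helper9_FR_PLANE

/-!
# FR-STEP7 (S5655 frames market, architect helper94): all isotropic vectors, `q ≥ 3`
-/

set_option autoImplicit false
set_option linter.unusedSectionVars false
set_option linter.unusedVariables false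

namespace Cfsg.Agent.Lib.Helper22_FR_STEP7

open Module Cfsg.Agent.Lib.Helper94_Symp Cfsg.Agent.Lib.Helper94_Herm
  Cfsg.Agent.Lib.Helper13_PSUSimple Cfsg.Agent.Lib.Helper27_UQDefs
  Cfsg.Agent.Lib.Helper94_FrmDefs Cfsg.Agent.Lib.Helper94_UDDefs
  Cfsg.Agent.Lib.Helper94_FrmDefs2 Cfsg.Agent.Lib.Helper27_UQ_KISO
  Cfsg.Agent.Lib.Helper94_HermTrans
  Cfsg.Agent.Lib.Helper79_FR_FRAME Cfsg.Agent.Lib.Helper77_FR_TRANS2
  Cfsg.Agent.Lib.Helper9_FR_SCALE2 Cfsg.Agent.Lib.Helper9_FR_PLANE

variable {F W : Type*} [Field F] [AddCommGroup W] [Module F W] [Finite F] [FiniteDimensional F W]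
variable {σ : F →+* F} {B : W →ₗ[F] W →ₛₗ[σ] F}
variable {ι : Type*} [Fintype ι] [DecidableEq ι] {e : ι → W} {L : Subgroup (W ≃ₗ[F] W)}

/-! ### coordinate planes -/

lemma coord_pair (he : OFrame B e) {i j : ι} (hij : i ≠ j) (α β : F) :
    B (α • e i + β • e j) (e i) = α ∧ B (α • e i + β • e j) (e j) = β ∧
      ∀ k, k ≠ i → k ≠ j → B (α • e i + β • e j) (e k) = 0 := by
  refine ⟨?_, ?_, fun k hki hkj => ?_⟩
  · rw [map_add, LinearMap.add_apply, map_smul, map_smul, LinearMap.smul_apply,
      LinearMap.smul_apply, he.unit, he.orth j i hij.symm, smul_eq_mul, smul_eq_mul, mul_one,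
      mul_zero, add_zero]
  · rw [map_add, LinearMap.add_apply, map_smul, map_smul, LinearMap.smul_apply,
      LinearMap.smul_apply, he.unit, he.orth i j hij, smul_eq_mul, smul_eq_mul, mul_one,
      mul_zero, zero_add]
  · rw [map_add, LinearMap.add_apply, map_smul, map_smul, LinearMap.smul_apply,
      LinearMap.smul_apply, he.orth i k (Ne.symm hki), he.orth j k (Ne.symm hkj), smul_zero,
      smul_zero, add_zero]

lemma norm_pair (hB : IsHerm B) (he : OFrame B e) {i j : ι} (hij : i ≠ j) (α β : F) :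
    B (α • e i + β • e j) (α • e i + β • e j) = α * σ α + β * σ β := by
  obtain ⟨h1, h2, -⟩ := coord_pair (B := B) he hij α β
  rw [map_add (B (α • e i + β • e j)), map_smulₛₗ, map_smulₛₗ, h1, h2, smul_eq_mul, smul_eq_mul]
  ring

/-- a vector orthogonal to `e i` and `e j` is orthogonal to their span -/
lemma orth_plane {i j : ι} {r : W} (hri : B r (e i) = 0) (hrj : B r (e j) = 0) :
    ∀ a ∈ Submodule.span F {e i, e j}, B r a = 0 := by
  intro a ha
  obtain ⟨α, β, rfl⟩ := Submodule.mem_span_pair.mp ha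
  rw [map_add, map_smulₛₗ, map_smulₛₗ, hri, hrj, smul_zero, smul_zero, add_zero]

lemma tv_le (hC : FCtx B e L)
    (h6 : ∀ i j : ι, i ≠ j → ∀ a b : F, a * σ a + b * σ b = 0 → a • e i + b • e j ∈ UU B L)
    {i j : ι} (hij : i ≠ j) : tvGroup B (Submodule.span F {e i, e j}) ≤ L := by
  apply tvGroup_le
  intro a ha haa c hc
  obtain ⟨α, β, rfl⟩ := Submodule.mem_span_pair.mp ha
  rw [norm_pair hC.hB hC.he hij] at haa
  exact (h6 i j hij α β haa).2 c hc

lemma nondeg_plane (he : OFrame B e) {i j : ι} (hij : i ≠ j) :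
    NondegOn B (Submodule.span F {e i, e j}) := by
  intro x hx hx0
  obtain ⟨α, β, rfl⟩ := Submodule.mem_span_pair.mp hx
  obtain ⟨h1, h2, -⟩ := coord_pair (B := B) he hij α β
  by_cases hα : α = 0
  · have hβ : β ≠ 0 := by
      rintro rfl
      apply hx0
      rw [hα, zero_smul, zero_smul, add_zero]
    exact ⟨e j, Submodule.subset_span (by simp), by rw [h2]; exact hβ⟩
  · exact ⟨e i, Submodule.subset_span (by simp), by rw [h1]; exact hα⟩

/-- moving the `{i, j}`-part of a vector by an element of the transvection group of the plane -/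
lemma move_part {i j : ι} (u : W) {t : W ≃ₗ[F] W}
    (ht : t ∈ tvGroup B (Submodule.span F {e i, e j})) (he : OFrame B e) (hij : i ≠ j) {y : W}
    (hy : t (B u (e i) • e i + B u (e j) • e j) = y) :
    t u = y + (u - (B u (e i) • e i + B u (e j) • e j)) := by
  obtain ⟨h1, h2, -⟩ := coord_pair (B := B) he hij (B u (e i)) (B u (e j))
  have hr : t (u - (B u (e i) • e i + B u (e j) • e j)) =
      u - (B u (e i) • e i + B u (e j) • e j) := by
    apply tvGroup_fix _ ht
    apply orth_plane
    · rw [map_sub, LinearMap.sub_apply, h1, sub_self]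
    · rw [map_sub, LinearMap.sub_apply, h2, sub_self]
  have : u = (B u (e i) • e i + B u (e j) • e j) + (u - (B u (e i) • e i + B u (e j) • e j)) := by
    abel
  conv_lhs => rw [this]
  rw [map_add, hy, hr]

/-- an unbalanced pair in the support reduces the support -/
theorem reduce (hC : FCtx B e L)
    (h6 : ∀ i j : ι, i ≠ j → ∀ a b : F, a * σ a + b * σ b = 0 → a • e i + b • e j ∈ UU B L)
    {n : ℕ} (IH : ∀ v : W, B v v = 0 → (supp B e v).card < n → v ∈ UU B L)
    {u : W} (hu : B u u = 0) (hn : (supp B e u).card = n) {i j : ι} (hij : i ≠ j)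
    (hi : B u (e i) ≠ 0) (hj : B u (e j) ≠ 0)
    (hb : B u (e i) * σ (B u (e i)) + B u (e j) * σ (B u (e j)) ≠ 0) : u ∈ UU B L := by
  have hσ := hC.hσ
  have hB := hC.hB
  have he := hC.he
  have hfix : σ (B u (e i) * σ (B u (e i)) + B u (e j) * σ (B u (e j))) =
      B u (e i) * σ (B u (e i)) + B u (e j) * σ (B u (e j)) := by
    rw [map_add, map_mul, map_mul, hσ.invol, hσ.invol]
    ring
  obtain ⟨a', ha'⟩ := norm_surj hσ _ hfix
  obtain ⟨f1, f2, h11, h22, h12, hspan⟩ := PLANE hσ hB he hij
  have hxP : B u (e i) • e i + B u (e j) • e j ∈ Submodule.span F {e i, e j} :=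
    Submodule.mem_span_pair.mpr ⟨_, _, rfl⟩
  have hx'P : a' • e i ∈ Submodule.span F {e i, e j} :=
    Submodule.smul_mem _ _ (Submodule.subset_span (by simp))
  have hxx := norm_pair hB he hij (B u (e i)) (B u (e j))
  have hx'x' : B (a' • e i) (a' • e i) = B (B u (e i) • e i + B u (e j) • e j)
      (B u (e i) • e i + B u (e j) • e j) := by
    rw [hxx, self_smul, he.unit, mul_one, ha']
  obtain ⟨t, ht, htx⟩ := TRANS2 hσ hB h11 h22 h12 (by rw [hspan]; exact hxP)
    (by rw [hspan]; exact hx'P) (by rw [hxx]; exact hb) hx'x'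
  rw [hspan] at ht
  have htL : t ∈ L := tv_le hC h6 hij ht
  have htu := move_part u ht he hij htx
  obtain ⟨h1, h2, h3⟩ := coord_pair (B := B) he hij (B u (e i)) (B u (e j))
  have hcj : B (t u) (e j) = 0 := by
    rw [htu, map_add, LinearMap.add_apply, map_sub, LinearMap.sub_apply, h2, sub_self, add_zero,
      map_smul, LinearMap.smul_apply, he.orth i j hij, smul_zero]
  have hck : ∀ k, k ≠ i → k ≠ j → B (t u) (e k) = B u (e k) := by
    intro k hki hkj
    rw [htu, map_add, LinearMap.add_apply, map_sub, LinearMap.sub_apply, h3 k hki hkj, sub_zero,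
      map_smul, LinearMap.smul_apply, he.orth i k (Ne.symm hki), smul_zero, zero_add]
  have hsub : supp B e (t u) ⊆ (supp B e u).erase j := by
    intro k hk
    rw [mem_supp] at hk
    rw [Finset.mem_erase, mem_supp]
    have hkj : k ≠ j := by
      rintro rfl
      exact hk hcj
    refine ⟨hkj, ?_⟩
    by_cases hki : k = i
    · rw [hki]; exact hi
    · rw [← hck k hki hkj]; exact hk
  have hlt : (supp B e (t u)).card < n := by
    calc (supp B e (t u)).card ≤ ((supp B e u).erase j).card := Finset.card_le_card hsub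
      _ < (supp B e u).card := Finset.card_erase_lt_of_mem (mem_supp.2 hj)
      _ = n := hn
  have h4 := IH (t u) (by rw [hC.hLU htL, hu]) hlt
  have h5 := UU_map hC.hLU (L.inv_mem htL) h4
  rwa [inv_apply_apply'] at h5

/-- a fixed scalar different from `0` and `1` -/
theorem exists_fixed (hσ : Invol σ) (hq : 4 < Nat.card F) : ∃ α : F, σ α = α ∧ α ≠ 0 ∧ α ≠ 1 := by
  have h := Cfsg.Agent.Lib.Helper95_UQ_FLD.card_fixed_sq hσ
  have h2 : 2 < Nat.card {a : F // σ a = a} := by nlinarith
  by_contra hcon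
  push Not at hcon
  have hsub : {a : F | σ a = a} ⊆ {0, 1} := by
    intro a ha
    by_cases ha0 : a = 0
    · simp [ha0]
    · simp [hcon a ha ha0]
  have h3 : Nat.card {a : F // σ a = a} ≤ 2 := by
    have h4 : Nat.card {a : F // σ a = a} = ({a : F | σ a = a} : Set F).ncard := rfl
    rw [h4]
    calc ({a : F | σ a = a} : Set F).ncard ≤ ({0, 1} : Set F).ncard :=
          Set.ncard_le_ncard hsub (Set.toFinite _)
      _ ≤ 2 := (Set.ncard_insert_le 0 {1}).trans (by rw [Set.ncard_singleton])
  omega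

theorem STEP7 (hC : FCtx B e L) (hq : 4 < Nat.card F)
    (h6 : ∀ i j : ι, i ≠ j → ∀ a b : F, a * σ a + b * σ b = 0 → a • e i + b • e j ∈ UU B L) :
    ∀ u : W, B u u = 0 → u ∈ UU B L := by
  have hσ := hC.hσ
  have hB := hC.hB
  have he := hC.he
  obtain ⟨hexp, hpars, -, -, -⟩ := FRAME hσ hB he
  suffices H : ∀ n : ℕ, ∀ u : W, B u u = 0 → (supp B e u).card = n → u ∈ UU B L from
    fun u hu => H _ u hu rfl
  intro n
  induction n using Nat.strong_induction_on with
  | _ n ih =>
  intro u hu hn
  have IH : ∀ v : W, B v v = 0 → (supp B e v).card < n → v ∈ UU B L :=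
    fun v hv hlt => ih _ hlt v hv rfl
  by_cases hunb : ∃ i j, i ≠ j ∧ B u (e i) ≠ 0 ∧ B u (e j) ≠ 0 ∧
      B u (e i) * σ (B u (e i)) + B u (e j) * σ (B u (e j)) ≠ 0
  · obtain ⟨i, j, hij, hi, hj, hb⟩ := hunb
    exact reduce hC h6 IH hu hn hij hi hj hb
  push Not at hunb
  have hsum0 : ∑ k, B u (e k) * σ (B u (e k)) = 0 := by rw [← hpars, hu]
  by_cases h3 : 2 < (supp B e u).card
  · -- all pairs balanced and at least three elements in the support: characteristic two
    obtain ⟨i, j, k, hi, hj, hk, hij, hik, hjk⟩ := Finset.two_lt_card_iff.mp h3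
    rw [mem_supp] at hi hj hk
    have b1 := hunb i j hij hi hj
    have b2 := hunb i k hik hi hk
    have b3 := hunb j k hjk hj hk
    have hNi0 : B u (e i) * σ (B u (e i)) ≠ 0 := mul_ne_zero hi ((map_ne_zero σ).2 hi)
    have h20 : (2 : F) = 0 := by
      have : 2 * (B u (e i) * σ (B u (e i))) = 0 := by linear_combination b1 + b2 - b3
      rcases mul_eq_zero.mp this with h | h
      · exact h
      · exact absurd h hNi0
    obtain ⟨α, hα, hα0, hα1⟩ := exists_fixed hσ hq
    have hzP : B u (e j) • e j + B u (e k) • e k ∈ Submodule.span F {e j, e k} :=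
      Submodule.mem_span_pair.mpr ⟨_, _, rfl⟩
    have hzz : B (B u (e j) • e j + B u (e k) • e k) (B u (e j) • e j + B u (e k) • e k) = 0 := by
      rw [norm_pair hB he hjk, b3]
    obtain ⟨c1, c2, c3⟩ := coord_pair (B := B) he hjk (B u (e j)) (B u (e k))
    have hz0 : B u (e j) • e j + B u (e k) • e k ≠ 0 := by
      intro h0
      rw [h0, LinearMap.map_zero₂] at c1
      exact hj c1.symm
    obtain ⟨f, hfP, hff, hzf⟩ := exists_partner hσ hB (nondeg_plane he hjk) hzP hz0 hzz
    obtain ⟨t, ht, htz⟩ := SCALE2 hσ hB hzz hff hzf hα0 hα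
    have hle : Submodule.span F {B u (e j) • e j + B u (e k) • e k, f} ≤
        Submodule.span F {e j, e k} := by
      rw [Submodule.span_le]
      rintro x (rfl | rfl)
      · exact hzP
      · exact hfP
    have ht' := tvGroup_mono hle ht
    have htL : t ∈ L := tv_le hC h6 hjk ht'
    have htu := move_part u ht' he hjk htz
    have hcj : B (t u) (e j) = α * B u (e j) := by
      rw [htu, map_add, LinearMap.add_apply, map_sub, LinearMap.sub_apply, map_smul,
        LinearMap.smul_apply, c1, sub_self, add_zero, smul_eq_mul]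
    have hck : B (t u) (e k) = α * B u (e k) := by
      rw [htu, map_add, LinearMap.add_apply, map_sub, LinearMap.sub_apply, map_smul,
        LinearMap.smul_apply, c2, sub_self, add_zero, smul_eq_mul]
    have hcl : ∀ l, l ≠ j → l ≠ k → B (t u) (e l) = B u (e l) := by
      intro l hlj hlk
      rw [htu, map_add, LinearMap.add_apply, map_sub, LinearMap.sub_apply, map_smul,
        LinearMap.smul_apply, c3 l hlj hlk, sub_zero, smul_zero, zero_add]
    have hsupp : supp B e (t u) = supp B e u := by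
      ext l
      rw [mem_supp, mem_supp]
      by_cases hlj : l = j
      · rw [hlj, hcj]
        exact ⟨fun _ => hj, fun _ => mul_ne_zero hα0 hj⟩
      · by_cases hlk : l = k
        · rw [hlk, hck]
          exact ⟨fun _ => hk, fun _ => mul_ne_zero hα0 hk⟩
        · rw [hcl l hlj hlk]
    have hnb : B (t u) (e i) * σ (B (t u) (e i)) + B (t u) (e j) * σ (B (t u) (e j)) ≠ 0 := by
      rw [hcl i hij hik, hcj, map_mul, hα]
      have h1 : B u (e i) * σ (B u (e i)) + α * B u (e j) * (α * σ (B u (e j))) =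
          B u (e i) * σ (B u (e i)) * ((1 - α) * (1 - α)) := by
        linear_combination (α * α) * b1 +
          (B u (e i) * σ (B u (e i)) * α - B u (e i) * σ (B u (e i)) * α * α) * h20
      rw [h1]
      have h2 : (1 : F) - α ≠ 0 := sub_ne_zero.mpr (Ne.symm hα1)
      exact mul_ne_zero hNi0 (mul_ne_zero h2 h2)
    have h4 := reduce hC h6 IH (by rw [hC.hLU htL, hu]) (by rw [hsupp]; exact hn) hij
      (by rw [hcl i hij hik]; exact hi) (by rw [hcj]; exact mul_ne_zero hα0 hj) hnb
    have h5 := UU_map hC.hLU (L.inv_mem htL) h4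
    rwa [inv_apply_apply'] at h5
  · -- at most two elements in the support
    have hzero : ∀ k, k ∉ supp B e u → B u (e k) = 0 := by
      intro k hk
      rw [mem_supp, not_not] at hk
      exact hk
    have hc : (supp B e u).card = 0 ∨ (supp B e u).card = 1 ∨ (supp B e u).card = 2 := by omega
    rcases hc with hc | hc | hc
    · rw [Finset.card_eq_zero] at hc
      have hu0 : u = 0 := by
        rw [hexp u]
        apply Finset.sum_eq_zero
        intro k _
        rw [hzero k (by rw [hc]; exact Finset.notMem_empty k), zero_smul]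
      rw [hu0]
      exact UU_zero L
    · exfalso
      obtain ⟨i, hi⟩ := Finset.card_eq_one.mp hc
      have hii : B u (e i) ≠ 0 := by
        rw [← mem_supp, hi]
        exact Finset.mem_singleton_self i
      rw [Fintype.sum_eq_single i] at hsum0
      · exact mul_ne_zero hii ((map_ne_zero σ).2 hii) hsum0
      · intro k hk
        rw [hzero k (by rw [hi, Finset.mem_singleton]; exact hk), zero_mul]
    · obtain ⟨i, j, hij, hs⟩ := Finset.card_eq_two.mp hc
      have hi : B u (e i) ≠ 0 := by
        rw [← mem_supp, hs]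
        simp
      have hj : B u (e j) ≠ 0 := by
        rw [← mem_supp, hs]
        simp
      have hu2 : u = B u (e i) • e i + B u (e j) • e j := by
        conv_lhs => rw [hexp u]
        apply Fintype.sum_eq_add i j hij
        rintro k ⟨hki, hkj⟩
        rw [hzero k (by rw [hs]; simp [hki, hkj]), zero_smul]
      rw [hu2]
      exact h6 i j hij _ _ (hunb i j hij hi hj)

end Cfsg.Agent.Lib.Helper22_FR_STEP7
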