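import Cfsg.Agent.Lib.Helper22_CoreCentralizer
import Cfsg.Agent.Lib.Helper23_PConstrained
import Cfsg.Agent.Lib.Helper1_Cores
import Cfsg.Agent.Lib.Helper22_Hyperplane
import Cfsg.Agent.Lib.Helper24_CoprimeAction

/-!
`q`-constraint of solvable groups in subgroup form (helper22).

For a finite solvable group `X`, `N = O_{q'}(X)`, `Q = O_{q',q}(X)`:
* `mem_pPrimePCore_of_commute`: an element centralizing `Q` modulo `N` lies in `Q`;
* `le_pPrimeCore_of_le_pPrimePCore`: a `q'`-subgroup of `Q` lies in `N`;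
* `pPrimePCore_le_sup`: `Q = T N` for a Sylow `q`-subgroup `T` of `Q`.
-/

set_option autoImplicit false

namespace Cfsg.Agent.Lib.Helper22_QConstraint

open Subgroup Cfsg Cfsg.Agent.Lib.Helper23_PConstrained Cfsg.Agent.Lib.Helper1_Cores
  Cfsg.Agent.Lib.Helper24_CoprimeAction Cfsg.Agent.Lib.Helper22_Hyperplane

open scoped commutatorElement

variable {X : Type*} [Group X] [Finite X]

theorem pPrimePCore_char (p : ℕ) [Fact p.Prime] : (pPrimePCore p X).Characteristic := by
  rw [Subgroup.characteristic_iff_le_comap]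
  intro φ x hx
  rw [Subgroup.mem_comap]
  unfold pPrimePCore at hx ⊢
  rw [Subgroup.mem_comap] at hx ⊢
  have hmap : (pPrimeCore p X).map φ.toMonoidHom = pPrimeCore p X :=
    Subgroup.characteristic_iff_map_eq.1 inferInstance φ
  have h1 : QuotientGroup.mk' (pPrimeCore p X) (φ x) =
      QuotientGroup.congr (pPrimeCore p X) (pPrimeCore p X) φ hmap
        (QuotientGroup.mk' (pPrimeCore p X) x) := rfl
  have hO : (pCore p (X ⧸ pPrimeCore p X)).Characteristic := inferInstance
  have h2 := Subgroup.characteristic_iff_le_comap.1 hO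
    (QuotientGroup.congr (pPrimeCore p X) (pPrimeCore p X) φ hmap) hx
  rw [Subgroup.mem_comap] at h2
  exact h2

/-- `q`-constraint: an element of a solvable group centralizing `O_{q',q}(X)` modulo `O_{q'}(X)` lies in
`O_{q',q}(X)`. -/
theorem mem_pPrimePCore_of_commute (q : ℕ) [Fact q.Prime] [Group.IsSolvable X] (u : X)
    (h : ∀ x ∈ pPrimePCore q X, QuotientGroup.mk' (pPrimeCore q X) u * QuotientGroup.mk' (pPrimeCore q X) x =
      QuotientGroup.mk' (pPrimeCore q X) x * QuotientGroup.mk' (pPrimeCore q X) u) :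
    u ∈ pPrimePCore q X := by
  have hc : IsPConstrained q X := by
    rw [isPConstrained_iff_pLayer_eq_bot]
    exact Cfsg.Agent.Lib.Helper22_CoreCentralizer.pLayer_eq_bot_of_isSolvable q
  rw [isPConstrained_iff_centralizer_pCore_le] at hc
  rw [mem_pPrimePCore_iff]
  apply hc
  rw [mem_centralizer_iff]
  intro y hy
  rw [SetLike.mem_coe, ← pPrimePCore_map] at hy
  obtain ⟨x, hx, rfl⟩ := hy
  exact (h x hx).symm

omit [Finite X] in
/-- a `q'`-subgroup of `O_{q',q}(X)` lies in `O_{q'}(X)` -/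
theorem le_pPrimeCore_of_le_pPrimePCore (q : ℕ) [Fact q.Prime] {D : Subgroup X} (hD : D ≤ pPrimePCore q X)
    (hq : ¬ q ∣ Nat.card D) : D ≤ pPrimeCore q X := by
  intro x hx
  have h1 : QuotientGroup.mk' (pPrimeCore q X) x ∈ pCore q (X ⧸ pPrimeCore q X) :=
    (mem_pPrimePCore_iff q x).mp (hD hx)
  obtain ⟨k, hk⟩ := (pCore_isPGroup (G := X ⧸ pPrimeCore q X) q) ⟨_, h1⟩
  have hk' : (QuotientGroup.mk' (pPrimeCore q X) x) ^ (q ^ k) = 1 := by
    have := congrArg Subtype.val hk
    simpa using this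
  have h2 : orderOf (QuotientGroup.mk' (pPrimeCore q X) x) ∣ q ^ k := orderOf_dvd_of_pow_eq_one hk'
  have h3 : orderOf (QuotientGroup.mk' (pPrimeCore q X) x) ∣ Nat.card D :=
    (orderOf_map_dvd _ x).trans (Subgroup.orderOf_dvd_natCard D hx)
  have hcop : (Nat.card D).Coprime (q ^ k) :=
    Nat.Coprime.pow_right k ((Nat.Prime.coprime_iff_not_dvd Fact.out).mpr hq).symm
  have h4 : orderOf (QuotientGroup.mk' (pPrimeCore q X) x) = 1 :=
    Nat.eq_one_of_dvd_coprimes hcop h3 h2
  rw [orderOf_eq_one_iff] at h4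
  exact (QuotientGroup.eq_one_iff x).mp h4

/-- `O_{q',q}(X) = T O_{q'}(X)` for a Sylow `q`-subgroup `T` of `O_{q',q}(X)` -/
theorem pPrimePCore_le_sup (q : ℕ) [Fact q.Prime] (P : Sylow q ↥(pPrimePCore q X)) :
    pPrimePCore q X ≤ (P : Subgroup ↥(pPrimePCore q X)).map (pPrimePCore q X).subtype ⊔ pPrimeCore q X := by
  intro x hx
  have h1 := sylow_pPrimePCore_map q P
  have h2 : QuotientGroup.mk' (pPrimeCore q X) x ∈ pCore q (X ⧸ pPrimeCore q X) :=
    (mem_pPrimePCore_iff q x).mp hx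
  rw [← h1] at h2
  obtain ⟨t, ht, hte⟩ := h2
  have h3 : t⁻¹ * x ∈ pPrimeCore q X := by
    have := QuotientGroup.eq.mp hte
    exact this
  have e : x = t * (t⁻¹ * x) := by group
  rw [e]
  exact mul_mem (mem_sup_left ht) (mem_sup_right h3)

section main

variable {H : Type*} [Group H] [Finite H]

/-- a hyperplane below a subgroup of index at most `p` -/
theorem exists_hyperplane_le (p : ℕ) [Fact p.Prime] {A B : Subgroup H} (hAp : IsPGroup p A)
    (hA2 : p ^ 2 ≤ Nat.card A) (hBA : B ≤ A) (hB : B.relIndex A ≤ p) :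
    ∃ B₀ : Subgroup H, B₀ ≤ B ∧ B₀ ≤ A ∧ B₀.relIndex A = p := by
  have hp : p.Prime := Fact.out
  by_cases h : B.relIndex A = p
  · exact ⟨B, le_rfl, hBA, h⟩
  · have hlt : B.relIndex A < p := lt_of_le_of_ne hB h
    obtain ⟨k, hk⟩ := hAp.exists_card_eq
    have hdvd : B.relIndex A ∣ p ^ k := by rw [← hk]; exact Subgroup.relIndex_dvd_card B A
    obtain ⟨j, -, hj⟩ := (Nat.dvd_prime_pow hp).mp hdvd
    have hj0 : j = 0 := by
      by_contra hne
      have : p ≤ p ^ j := by
        calc p = p ^ 1 := (pow_one p).symm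
          _ ≤ p ^ j := Nat.pow_le_pow_right hp.pos (Nat.one_le_iff_ne_zero.mpr hne)
      omega
    rw [hj0, pow_zero] at hj
    have hAB : A ≤ B := Subgroup.relIndex_eq_one.mp hj
    -- a subgroup of `A` of index `p`
    have hk2 : 2 ≤ k := by
      by_contra hlt2
      push Not at hlt2
      have : p ^ k ≤ p ^ 1 := Nat.pow_le_pow_right hp.pos (by omega)
      have h2 : p ^ 1 < p ^ 2 := Nat.pow_lt_pow_right hp.one_lt (by omega)
      rw [hk] at hA2
      omega
    have hd : p ^ (k - 1) ∣ Nat.card ↥A := by rw [hk]; exact pow_dvd_pow p (by omega)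
    obtain ⟨C, hC⟩ := Sylow.exists_subgroup_card_pow_prime p hd
    refine ⟨C.map A.subtype, (Subgroup.map_subtype_le C).trans hAB, Subgroup.map_subtype_le C, ?_⟩
    have h1 := card_mul_relIndex (D := C.map A.subtype) (A := A) (Subgroup.map_subtype_le C)
    rw [Subgroup.card_map_of_injective A.subtype_injective, hC, hk] at h1
    have h2 : p ^ (k - 1) * p = p ^ k := by rw [← pow_succ]; congr 1; omega
    have h3 : 0 < p ^ (k - 1) := pos_of_ne_zero (pow_ne_zero _ hp.ne_zero)
    exact Nat.eq_of_mul_eq_mul_left h3 (h1.trans h2.symm)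

theorem le_pPrimeCore_of_commutator_hyperplanes (p : ℕ) [Fact p.Prime] (A K : Subgroup H)
    (hAc : ∀ a ∈ A, ∀ b ∈ A, a * b = b * a) (hAp : ∀ a ∈ A, a ^ p = 1) (hA2 : p ^ 2 ≤ Nat.card ↥A)
    (hK : ¬ p ∣ Nat.card ↥K) (hKs : Group.IsSolvable ↥K) (hAK : A ≤ Subgroup.normalizer (K : Set H))
    (q : ℕ) [Fact q.Prime] (U : Subgroup H) (hU : U ≤ K) (hUq : ¬ q ∣ Nat.card ↥U)
    (hcomm : ∀ B : Subgroup H, B ≤ A → B.relIndex A = p →
      ¬ q ∣ Nat.card ↥⁅U, K ⊓ Subgroup.centralizer (B : Set H)⁆) :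
    U ≤ (Cfsg.pPrimeCore q ↥K).map K.subtype := by
  have hp : p.Prime := Fact.out
  have hq : q.Prime := Fact.out
  set N' := pPrimeCore q ↥K with hN'
  set Q' := pPrimePCore q ↥K with hQ'
  set QH := Q'.map K.subtype with hQH
  have hQ'n : Q'.Normal := Cfsg.Agent.Lib.Helper23_Layer.pPrimePCore_normal _ q
  have hQHK : QH ≤ K := Subgroup.map_subtype_le _
  have hApg : IsPGroup p A := by
    intro a
    refine ⟨1, ?_⟩
    apply Subtype.ext
    rw [pow_one, Subgroup.coe_pow, Subgroup.coe_one]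
    exact hAp a a.2
  have hAQ : A ≤ normalizer (QH : Set H) := by
    have : Q'.Characteristic := pPrimePCore_char q
    exact hAK.trans (normalizer_le_normalizer_map_of_characteristic K Q')
  have hcopK : (Nat.card A).Coprime (Nat.card K) := by
    obtain ⟨k, hk⟩ := hApg.exists_card_eq
    rw [hk]
    exact Nat.Coprime.pow_left k ((Nat.Prime.coprime_iff_not_dvd hp).mpr hK)
  have hcop : (Nat.card A).Coprime (Nat.card QH) :=
    Nat.Coprime.coprime_dvd_right (Subgroup.card_dvd_of_le hQHK) hcopK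
  have hsolv : Group.IsSolvable A ∨ Group.IsSolvable QH := Or.inr (isSolvable_of_le hQHK hKs)
  obtain ⟨P, hAP⟩ := exists_invariant_sylow A QH hAQ hcop hsolv q
  set TH := sylowImage P with hTH
  have hTQ : TH ≤ QH := Subgroup.map_subtype_le _
  have hTK : TH ≤ K := hTQ.trans hQHK
  have hTle : TH.subgroupOf K ≤ Q' := by
    intro x hx
    rw [mem_subgroupOf] at hx
    obtain ⟨y, hy, hyx⟩ := hTQ hx
    have : y = x := Subtype.ext hyx
    rw [← this]; exact hy
  -- transport to a Sylow subgroup of `Q'`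
  have hcard : Nat.card ((TH.subgroupOf K).subgroupOf Q') = q ^ (Nat.card ↥Q').factorization q := by
    rw [card_subgroupOf_of_le hTle, card_subgroupOf_of_le hTK, hTH,
      Subgroup.card_map_of_injective QH.subtype_injective, Sylow.card_eq_multiplicity, hQH,
      Subgroup.card_map_of_injective K.subtype_injective]
  set T'' : Sylow q ↥Q' := Sylow.ofCard ((TH.subgroupOf K).subgroupOf Q') hcard with hT''
  have hQsup : Q' ≤ TH.subgroupOf K ⊔ N' := by
    have := pPrimePCore_le_sup q T''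
    have e : ((T'' : Subgroup ↥Q')).map Q'.subtype = TH.subgroupOf K := by
      rw [hT'', Sylow.coe_ofCard, Subgroup.map_subgroupOf_eq_of_le hTle]
    rwa [e] at this
  -- `A` is coprime to `TH`
  have hpT : ¬ p ∣ Nat.card TH := fun h => hK (h.trans (Subgroup.card_dvd_of_le hTK))
  have hgen := le_iSup_centralizer_hyperplanes p A TH hAc hAp hpT hAP
  -- the key commutator estimate
  have key : ∀ B : Subgroup H, B ≤ A → B.relIndex A ≤ p → ∀ x : ↥K,
      (x : H) ∈ TH ⊓ centralizer (B : Set H) → ∀ u : ↥K, (u : H) ∈ U → ⁅x, u⁆ ∈ N' := by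
    intro B hBA hBp x hx u hu
    obtain ⟨B₀, hB₀B, hB₀A, hB₀p⟩ := exists_hyperplane_le p hApg hA2 hBA hBp
    have hq' := hcomm B₀ hB₀A hB₀p
    set D := ⁅U, K ⊓ centralizer (B₀ : Set H)⁆ ⊓ QH with hD
    have hDQ : D.subgroupOf K ≤ Q' := by
      intro y hy
      rw [mem_subgroupOf] at hy
      obtain ⟨z, hz, hzy⟩ := (mem_inf.mp hy).2
      have : z = y := Subtype.ext hzy
      rw [← this]; exact hz
    have hDq : ¬ q ∣ Nat.card (D.subgroupOf K) := by
      rw [card_subgroupOf_of_le (inf_le_right.trans hQHK)]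
      exact fun h => hq' (h.trans (Subgroup.card_dvd_of_le inf_le_left))
    apply le_pPrimeCore_of_le_pPrimePCore q hDQ hDq
    rw [mem_subgroupOf]
    refine mem_inf.mpr ⟨?_, ?_⟩
    · rw [Subgroup.commutator_comm]
      have hxm : (x : H) ∈ K ⊓ centralizer (B₀ : Set H) :=
        mem_inf.mpr ⟨x.2, centralizer_le (by exact_mod_cast hB₀B) (mem_inf.mp hx).2⟩
      have := commutator_mem_commutator hxm hu
      simpa [commutatorElement_def] using this
    · have hxQ : x ∈ Q' := hTle (by rw [mem_subgroupOf]; exact (mem_inf.mp hx).1)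
      have h1 : ⁅x, u⁆ ∈ Q' := by
        rw [commutatorElement_def]
        have : x * u * x⁻¹ * u⁻¹ = x * (u * x⁻¹ * u⁻¹) := by group
        rw [this]
        exact Q'.mul_mem hxQ (hQ'n.conj_mem _ (Q'.inv_mem hxQ) u)
      exact ⟨⁅x, u⁆, h1, rfl⟩
  -- the subgroup of elements centralizing `U` modulo `N'`
  set π := QuotientGroup.mk' N' with hπ
  set U' := U.subgroupOf K with hU'
  set Z : Subgroup ↥K := (centralizer ((U'.map π : Subgroup (↥K ⧸ N')) : Set (↥K ⧸ N'))).comap π with hZ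
  have hZmem : ∀ x : ↥K, (∀ u : ↥K, (u : H) ∈ U → ⁅x⁻¹, u⁻¹⁆ ∈ N') → x ∈ Z := by
    intro x hx
    rw [hZ, mem_comap, mem_centralizer_iff]
    rintro _ ⟨u, hu, rfl⟩
    rw [← map_mul, ← map_mul]
    apply QuotientGroup.eq.mpr
    have e : (u * x)⁻¹ * (x * u) = ⁅x⁻¹, u⁻¹⁆ := by rw [commutatorElement_def]; group
    rw [e]
    have hu' : u ∈ U.subgroupOf K := hu
    exact hx u (mem_subgroupOf.mp hu')
  have hNZ : N' ≤ Z := by
    intro n hn
    rw [hZ, mem_comap]
    have : π n = 1 := (QuotientGroup.eq_one_iff n).mpr hn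
    rw [this]
    exact one_mem _
  have hTZ : TH ≤ Z.map K.subtype := by
    refine hgen.trans (iSup_le ?_)
    rintro ⟨B, hBA, hBp⟩ x hx
    have hxK : x ∈ K := hTK (mem_inf.mp hx).1
    refine ⟨⟨x, hxK⟩, ?_, rfl⟩
    apply hZmem
    intro u hu
    have hxinv : (((⟨x, hxK⟩ : ↥K)⁻¹ : ↥K) : H) ∈ TH ⊓ centralizer (B : Set H) := by
      rw [Subgroup.coe_inv]; exact inv_mem hx
    have huinv : ((u⁻¹ : ↥K) : H) ∈ U := by
      rw [Subgroup.coe_inv]; exact inv_mem hu
    exact key B hBA hBp _ hxinv u⁻¹ huinv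
  have hTZ' : TH.subgroupOf K ≤ Z := by
    intro x hx
    rw [mem_subgroupOf] at hx
    obtain ⟨y, hy, hyx⟩ := hTZ hx
    have : y = x := Subtype.ext hyx
    rw [← this]; exact hy
  have hQZ : Q' ≤ Z := hQsup.trans (sup_le hTZ' hNZ)
  -- conclusion
  have hUQ : U' ≤ Q' := by
    intro u hu
    apply mem_pPrimePCore_of_commute q u
    intro x hx
    have := hQZ hx
    rw [hZ, mem_comap, mem_centralizer_iff] at this
    exact this (π u) ⟨u, hu, rfl⟩
  have hU'q : ¬ q ∣ Nat.card U' := by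
    rw [hU', card_subgroupOf_of_le hU]; exact hUq
  have hUN : U' ≤ N' := le_pPrimeCore_of_le_pPrimePCore q hUQ hU'q
  have := Subgroup.map_mono (f := K.subtype) hUN
  rwa [hU', Subgroup.map_subgroupOf_eq_of_le hU] at this

end main

end Cfsg.Agent.Lib.Helper22_QConstraint
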