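import Cfsg.Agent.Lib.Helper22_PConstrainedInv
import Cfsg.Agent.Lib.Helper22_QConstraint
import Cfsg.Agent.Lib.Helper23_CharP
import Cfsg.Agent.Lib.Helper24_CoprimeAction

/-!
A `P × Q` criterion for invariant `p'`-subgroups of solvable groups (helper22).

`le_pPrimeCore_of_pxq`: `X` solvable, `Zp` a `p`-subgroup, `Zr` a `p'`-subgroup commuting with `Zp`,
`[C_{O_{p',p}(X)}(Zp), Zr] ≤ O_{p'}(X)`; then every `p'`-subgroup `Q` normalized by `Zr`, of order coprime to `Zr`,
with `C_Q(Zr) = 1`, lies in `O_{p'}(X)`.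
-/

set_option autoImplicit false

namespace Cfsg.Agent.Lib.Helper22_FitLocal

open Subgroup Cfsg Cfsg.Agent.Lib.Helper23_PConstrained Cfsg.Agent.Lib.Helper1_Cores

open scoped commutatorElement

variable {X : Type*} [Group X]

/-- Lifting an element of `C_{X/N}(AN/N)`, `N` a normal `p'`-subgroup, `A` a `p`-subgroup. -/
theorem exists_lift_commuting (p : ℕ) [Fact p.Prime] (N : Subgroup X) [N.Normal]
    (hN : (Nat.card N).Coprime p) (A : Subgroup X) (hA : IsPGroup p A) (xb : X ⧸ N)
    (hcomm : ∀ a ∈ A, QuotientGroup.mk' N a * xb = xb * QuotientGroup.mk' N a) :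
    ∃ y : X, QuotientGroup.mk' N y = xb ∧ ∀ a ∈ A, a * y = y * a := by
  have hp : p.Prime := Fact.out
  set π := QuotientGroup.mk' N with hπ
  obtain ⟨x, hx⟩ := QuotientGroup.mk'_surjective N xb
  let α := {y : X // π y = xb}
  letI : MulAction A α :=
    { smul := fun a y => ⟨(a : X) * y * (a : X)⁻¹, by
        rw [map_mul, map_mul, y.2, hcomm a a.2, map_inv, mul_inv_cancel_right]⟩
      one_smul := fun y => by
        apply Subtype.ext
        show ((1 : A) : X) * y * ((1 : A) : X)⁻¹ = y
        simp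
      mul_smul := fun a b y => by
        apply Subtype.ext
        show ((a * b : A) : X) * y * ((a * b : A) : X)⁻¹ = (a : X) * ((b : X) * y * (b : X)⁻¹) * (a : X)⁻¹
        simp [mul_assoc] }
  have hcard : Nat.card α = Nat.card N := by
    apply Nat.card_congr
    exact
      { toFun := fun y => ⟨x⁻¹ * y, by
          rw [← QuotientGroup.eq_one_iff, ← QuotientGroup.mk'_apply, ← hπ, map_mul, map_inv, hx, y.2,
            inv_mul_cancel]⟩
        invFun := fun n => ⟨x * n, by
          rw [map_mul, hx]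
          have : π (n : X) = 1 := by
            rw [hπ, QuotientGroup.mk'_apply, QuotientGroup.eq_one_iff]; exact n.2
          rw [this, mul_one]⟩
        left_inv := fun y => by apply Subtype.ext; simp
        right_inv := fun n => by apply Subtype.ext; simp }
  have hnd : ¬ p ∣ Nat.card α := by
    rw [hcard]
    intro h
    exact hp.one_lt.ne' (Nat.eq_one_of_dvd_coprimes hN h dvd_rfl)
  obtain ⟨y, hy⟩ := hA.nonempty_fixed_point_of_prime_not_dvd_card α hnd
  rw [MulAction.mem_fixedPoints] at hy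
  refine ⟨(y : X), y.2, ?_⟩
  intro a ha
  have := congrArg Subtype.val (hy ⟨a, ha⟩)
  have h4 : a * (y : X) * a⁻¹ = y := this
  calc a * (y : X) = a * y * a⁻¹ * a := by group
    _ = y * a := by rw [h4]

variable [Finite X]

/-- **`P × Q` criterion.** -/
theorem le_pPrimeCore_of_pxq [Group.IsSolvable X] (p : ℕ) [Fact p.Prime]
    (Zp Zr Q : Subgroup X) (hZp : IsPGroup p Zp) (hZr : (Nat.card Zr).Coprime p)
    (hcomm : ∀ a ∈ Zp, ∀ b ∈ Zr, a * b = b * a)
    (hQ : ¬ p ∣ Nat.card Q) (hZQ : Zr ≤ normalizer (Q : Set X))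
    (hcop : (Nat.card Zr).Coprime (Nat.card Q))
    (hfix : Q ⊓ centralizer (Zr : Set X) = ⊥)
    (hkey : ∀ y ∈ pPrimePCore p X, (∀ a ∈ Zp, a * y = y * a) → ∀ b ∈ Zr, ⁅b, y⁆ ∈ pPrimeCore p X) :
    Q ≤ pPrimeCore p X := by
  have hpp : p.Prime := Fact.out
  set N := pPrimeCore p X with hN
  have hNcop : (Nat.card N).Coprime p := pPrimeCore_card_coprime p
  set π := QuotientGroup.mk' N with hπ
  set Rb := pCore p (X ⧸ N) with hRb
  have hRbp : IsPGroup p Rb := pCore_isPGroup p
  have hRbn : Rb.Normal := inferInstance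
  -- Step 1: the image of `Zr` centralizes `Rb`
  have step1 : ∀ b ∈ Zr, ∀ xb ∈ Rb, π b * xb = xb * π b := by
    intro b hb
    have hbord : (orderOf (π b)).Coprime p := by
      have h1 : orderOf (π b) ∣ Nat.card Zr :=
        (orderOf_map_dvd π b).trans (Subgroup.orderOf_dvd_natCard Zr hb)
      exact Nat.Coprime.coprime_dvd_left h1 hZr
    refine Cfsg.Agent.Lib.Helper23_CharP.pxq Rb (Zp.map π) hRbp (hZp.map π) ?_ (π b) hbord ?_ ?_ ?_
    · rw [normalizer_eq_top_iff.mpr hRbn]; exact le_top
    · intro q hq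
      exact hRbn.conj_mem q hq (π b)
    · rintro _ ⟨a, ha, rfl⟩
      rw [← map_mul, ← map_mul, hcomm a ha b hb]
    · intro q hq hqc
      obtain ⟨y, hy, hyA⟩ := exists_lift_commuting p N hNcop Zp hZp q
        (fun a ha => (hqc _ (Subgroup.mem_map_of_mem π ha)).symm)
      have hyK : y ∈ pPrimePCore p X := by
        rw [mem_pPrimePCore_iff]
        show π y ∈ Rb
        rw [hy]; exact hq
      have h1 := hkey y hyK hyA b hb
      have h2 : π ⁅b, y⁆ = 1 := by
        rw [hπ, QuotientGroup.mk'_apply, QuotientGroup.eq_one_iff]; exact h1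
      rw [map_commutatorElement, hy, commutatorElement_eq_one_iff_commute] at h2
      exact h2.eq
  -- Step 2: the kernel of the action on `Rb`
  set C := centralizer (Rb : Set (X ⧸ N)) with hC
  have hCn : C.Normal := by rw [hC]; infer_instance
  set K := C.comap π with hK
  have hKn : K.Normal := by rw [hK]; infer_instance
  have hZrK : Zr ≤ K := by
    intro b hb
    rw [hK, mem_comap, hC, mem_centralizer_iff]
    intro xb hxb
    exact (step1 b hb xb hxb).symm
  have hcommK : ⁅Q, Zr⁆ ≤ K :=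
    (Subgroup.commutator_mono le_top hZrK).trans (Subgroup.commutator_le_right ⊤ K)
  have hQK : Q ≤ K := by
    intro s hs
    have hsolv : Group.IsSolvable Zr ∨ Group.IsSolvable Q := Or.inl inferInstance
    obtain ⟨d, hd, c, hc, rfl⟩ :=
      Cfsg.Agent.Lib.Helper24_CoprimeAction.coprime_decomp Zr Q hZQ hcop hsolv hs
    rw [hfix, mem_bot] at hc
    rw [hc, mul_one]
    exact hcommK hd
  -- Step 3
  have hQP : Q ≤ pPrimePCore p X := by
    intro s hs
    apply Cfsg.Agent.Lib.Helper22_QConstraint.mem_pPrimePCore_of_commute p s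
    intro x hx
    have h1 : π x ∈ Rb := (mem_pPrimePCore_iff p x).mp hx
    have h2 := hQK hs
    rw [hK, mem_comap, hC, mem_centralizer_iff] at h2
    exact (h2 (π x) h1).symm
  exact Cfsg.Agent.Lib.Helper22_QConstraint.le_pPrimeCore_of_le_pPrimePCore p hQP hQ

end Cfsg.Agent.Lib.Helper22_FitLocal
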