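import Mathlib
import Cfsg.Prelude.Def_Characters
import Cfsg.Agent.Lib.Helper80_CharBasic

/-!
# S0197 (simple group with an involution centralizer `GL(2,3)` has order 5616 or 7920):
shared definitions for helper6's package market `s0197_packages`.

Paper proof: `pending/helper6/S0197_proof.md`.  Method: the five classes `t, a², ts, a, a⁻¹` of `C_G(t) ≅ GL(2,3)`
(`a` of order 8 with `a⁴ = t`, `s` of order 3) are "special classes"; second orthogonality on them + restriction to the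
cyclic groups `⟨a⟩`, `⟨ts⟩` give five integer vectors with a small Gram matrix, hence (pure combinatorics) exactly eight
irreducible characters not vanishing there, equal up to sign to the eight characters of `GL(2,3)`; the column of degrees
is then a 2-parameter family `(u, w)` and two class-algebra constants (products of two involutions equal to `a`, `a²`)
give `(u - 9)(w + 9) = -72` and the order.

`Γ`, `aΓ`, `sΓ`      : `GL(2,3)` and two explicit elements (orders 8, 3).
`aG t e`, `sG t e`   : their preimages in `G` under `e : C_G(t) ≃* Γ`.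
`rt`                 : `i√2`.
`Loc G t a s`        : the local facts used by the character theory.
`vt, vv, vp, vq`     : the values of the seven non-principal characters of `GL(2,3)` on `t`, `a²`, and `a = vp + vq·i√2`,
                       in the order `1', χ₂, χ₃, χ₃', χ₂ₐ, χ₂ᵦ, χ₄`.
`Data G t a`         : the seven non-principal irreducible characters of `G` not vanishing on the special classes.
-/

set_option autoImplicit false
open scoped ComplexConjugate

namespace Cfsg.Agent.Lib.Helper6_GL23Defs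

open Cfsg Cfsg.Agent.Lib.Helper80_CharBasic

/-- `GL(2,3)` -/
abbrev Γ : Type := Matrix.GeneralLinearGroup (Fin 2) (ZMod 3)

/-- an element of order 8 of `GL(2,3)` (characteristic polynomial `x² - x - 1`) -/
def aΓ : Γ := ⟨!![0, 1; 1, 1], !![2, 1; 1, 0], by decide, by decide⟩

/-- an element of order 3 of `GL(2,3)` -/
def sΓ : Γ := ⟨!![1, 1; 0, 1], !![1, 2; 0, 1], by decide, by decide⟩

/-- `-1 ∈ GL(2,3)` -/
def tΓ : Γ := ⟨!![2, 0; 0, 2], !![2, 0; 0, 2], by decide, by decide⟩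

section elts
variable {G : Type*} [Group G]

/-- the element of order 8 of `G` corresponding to `aΓ` -/
def aG (t : G) (e : Subgroup.centralizer ({t} : Set G) ≃* Γ) : G := ((e.symm aΓ : Subgroup.centralizer ({t} : Set G)) : G)

/-- the element of order 3 of `G` corresponding to `sΓ` -/
def sG (t : G) (e : Subgroup.centralizer ({t} : Set G) ≃* Γ) : G := ((e.symm sΓ : Subgroup.centralizer ({t} : Set G)) : G)

end elts

/-- `i√2 = ζ + ζ³` for `ζ = exp(2πi/8)` -/
noncomputable def rt : ℂ := Complex.I * ((Real.sqrt 2 : ℝ) : ℂ)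

theorem rt_mul_rt : rt * rt = -2 := by
  unfold rt
  have h : ((Real.sqrt 2 : ℝ) : ℂ) * ((Real.sqrt 2 : ℝ) : ℂ) = 2 := by
    rw [← Complex.ofReal_mul, Real.mul_self_sqrt (by norm_num)]; norm_num
  calc Complex.I * ((Real.sqrt 2 : ℝ) : ℂ) * (Complex.I * ((Real.sqrt 2 : ℝ) : ℂ))
      = (Complex.I * Complex.I) * (((Real.sqrt 2 : ℝ) : ℂ) * ((Real.sqrt 2 : ℝ) : ℂ)) := by ring
    _ = -2 := by rw [h, Complex.I_mul_I]; ring

theorem conj_rt : conj rt = -rt := by
  unfold rt
  rw [map_mul, Complex.conj_I, Complex.conj_ofReal]; ring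

theorem rt_re : rt.re = 0 := by
  unfold rt; simp

theorem rt_im : rt.im = Real.sqrt 2 := by
  unfold rt; simp

theorem rt_ne_zero : rt ≠ 0 := by
  intro h
  have := rt_mul_rt
  rw [h] at this
  norm_num at this

/-- the local facts about `t` (involution), `a` (order 8, `a⁴ = t`), `s` (order 3, commuting with `t`) -/
structure Loc (G : Type*) [Group G] (t a s : G) : Prop where
  ot : orderOf t = 2
  oa : orderOf a = 8
  a4 : a ^ 4 = t
  os : orderOf s = 3
  st : s * t = t * s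
  ct : Nat.card (Subgroup.centralizer ({t} : Set G)) = 48
  ca : Nat.card (Subgroup.centralizer ({a} : Set G)) = 8
  cv : Nat.card (Subgroup.centralizer ({a ^ 2} : Set G)) = 8
  cy : Nat.card (Subgroup.centralizer ({t * s} : Set G)) = 6
  a3 : IsConj a (a ^ 3)
  ainv : ¬ IsConj a a⁻¹
  yinv : IsConj (t * s) (t * s)⁻¹
  na : ∀ x : G, orderOf x = 2 → x * a * x⁻¹ ≠ a⁻¹
  nv : Nat.card {x : G // orderOf x = 2 ∧ x * a ^ 2 * x⁻¹ = (a ^ 2)⁻¹} = 4

/-- values on `t` of `1', χ₂, χ₃, χ₃', χ₂ₐ, χ₂ᵦ, χ₄` -/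
def vt : Fin 7 → ℤ := ![1, 2, 3, 3, -2, -2, -4]
/-- values on `a²` -/
def vv : Fin 7 → ℤ := ![1, 2, -1, -1, 0, 0, 0]
/-- rational part of the values on `a` -/
def vp : Fin 7 → ℤ := ![-1, 0, -1, 1, 0, 0, 0]
/-- `i√2`-part of the values on `a` -/
def vq : Fin 7 → ℤ := ![0, 0, 0, 0, 1, -1, 0]

/-- the character data: besides the principal character exactly seven irreducible characters `X j` do not vanish on
the special classes; on them `X j = σ j · (j-th non-principal character of GL(2,3))`; `d j = X j 1`.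
With `u = σ 2 · d 2`, `w = σ 3 · d 3` the signed degrees `σ j · d j` are
`1 - u + w, u - 1, u, w, u - 1, u - 1, w + 1`. -/
structure Data (G : Type*) [Group G] (t a : G) where
  X : Fin 7 → IrrCharacter G
  σ : Fin 7 → ℤ
  d : Fin 7 → ℕ
  hσ : ∀ j, σ j = 1 ∨ σ j = -1
  X_inj : Function.Injective X
  X_ne : ∀ j, X j ≠ oneIrr G
  X_one : ∀ j, (X j : G → ℂ) 1 = d j
  d_pos : ∀ j, 0 < d j
  X_t : ∀ j, (X j : G → ℂ) t = (σ j : ℂ) * (vt j : ℂ)
  X_v : ∀ j, (X j : G → ℂ) (a ^ 2) = (σ j : ℂ) * (vv j : ℂ)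
  X_a : ∀ j, (X j : G → ℂ) a = (σ j : ℂ) * ((vp j : ℂ) + (vq j : ℂ) * rt)
  supp : ∀ χ : IrrCharacter G, χ ≠ oneIrr G → (∀ j, χ ≠ X j) →
    (χ : G → ℂ) t = 0 ∧ (χ : G → ℂ) (a ^ 2) = 0 ∧ (χ : G → ℂ) a = 0
  deg0 : σ 0 * (d 0 : ℤ) = 1 - σ 2 * (d 2 : ℤ) + σ 3 * (d 3 : ℤ)
  deg1 : σ 1 * (d 1 : ℤ) = σ 2 * (d 2 : ℤ) - 1
  deg4 : σ 4 * (d 4 : ℤ) = σ 2 * (d 2 : ℤ) - 1
  deg5 : σ 5 * (d 5 : ℤ) = σ 2 * (d 2 : ℤ) - 1
  deg6 : σ 6 * (d 6 : ℤ) = σ 3 * (d 3 : ℤ) + 1
  cong : (8 : ℤ) ∣ (d 1 : ℤ) + 6 * σ 1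

end Cfsg.Agent.Lib.Helper6_GL23Defs
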