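import Mathlib
import Cfsg.Agent.Lib.Helper6_GL23Defs

/-!
# S2916, part (P4): a simple group of order 5616 with an involution centralizer `GL(2,3)` is `SL(3,3)`
(architect helper22).  Shared definitions of the market `l33_packages`.

Paper proof: `pending/helper22/S2916_proof.md`.

`Γ = GL(2,3)` (from `Helper6_GL23Defs`), `tΓ = -1`, `sΓ = [[1,1],[0,1]]` (order 3).
`dΓ = diag(1,-1)`, `lΓ = [[1,0],[1,1]]`, `nΓ = [[0,1],[-1,0]]`, `wΓ = [[0,1],[1,0]]`.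

`emb t e : Γ →* G` : the embedding of `Γ` onto `C_G(t)` given by `e : C_G(t) ≃* Γ`.

`Cfg t1 t2 t3 ρ x x'` : the local configuration in `G`:
`V = {1,t1,t2,t3}` a four-group, `ρ` of order 3 permuting `t3 → t1 → t2 → t3`,
`x, x'` generators of the two `V`-invariant subgroups of order 3 of `C_G(t3)`.

`DD z` : the subgroup generated by the 3-elements of `C_G(z)`.

The six root elements: `r0 = x, r2 = ρ x ρ⁻¹, r4 = ρ⁻¹ x ρ, r3 = x', r5 = ρ x' ρ⁻¹, r1 = ρ⁻¹ x' ρ`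
(`ρ r_i ρ⁻¹ = r_{i+2}`); `t3` centralizes `r0, r3`, `t1` centralizes `r2, r5`, `t2` centralizes `r4, r1`.
-/

set_option autoImplicit false

namespace Cfsg.Agent.Lib.Helper22_L33

open Cfsg.Agent.Lib.Helper6_GL23Defs

/-- `diag(1,-1)` -/
def dΓ : Γ := ⟨!![1, 0; 0, 2], !![1, 0; 0, 2], by decide, by decide⟩

/-- the lower unitriangular generator `[[1,0],[1,1]]` -/
def lΓ : Γ := ⟨!![1, 0; 1, 1], !![1, 0; 2, 1], by decide, by decide⟩

/-- the monomial matrix `[[0,1],[-1,0]]` of determinant 1 (order 4) -/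
def nΓ : Γ := ⟨!![0, 1; 2, 0], !![0, 2; 1, 0], by decide, by decide⟩

/-- the monomial matrix `[[0,1],[1,0]]` (order 2) -/
def wΓ : Γ := ⟨!![0, 1; 1, 0], !![0, 1; 1, 0], by decide, by decide⟩

section grp
variable {G : Type*} [Group G]

/-- the embedding of `Γ` onto `C_G(t)` -/
def emb (t : G) (e : Subgroup.centralizer ({t} : Set G) ≃* Γ) : Γ →* G :=
  (Subgroup.centralizer ({t} : Set G)).subtype.comp e.symm.toMonoidHom

/-- the local configuration (all statements inside `G`) -/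
structure Cfg (t1 t2 t3 ρ x x' : G) : Prop where
  t3_sq : t3 * t3 = 1
  t3_ne : t3 ≠ 1
  t1_ne : t1 ≠ t3
  t2_def : t2 = t1 * t3
  t13 : t1 * t3 = t3 * t1
  rho_cube : ρ * ρ * ρ = 1
  rho_t3 : ρ * t3 * ρ⁻¹ = t1
  rho_t1 : ρ * t1 * ρ⁻¹ = t2
  /-- `|C_G(t3)| = 48` -/
  card_c3 : Nat.card (Subgroup.centralizer ({t3} : Set G)) = 48
  x_cube : x * x * x = 1
  x_ne : x ≠ 1
  x_t3 : t3 * x = x * t3
  x_t1 : t1 * x * t1⁻¹ = x⁻¹
  x'_cube : x' * x' * x' = 1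
  x'_ne : x' ≠ 1
  x'_t3 : t3 * x' = x' * t3
  x'_t1 : t1 * x' * t1⁻¹ = x'⁻¹
  /-- the only `V`-invariant subgroups of order 3 of `C_G(t3)` are `⟨x⟩` and `⟨x'⟩` -/
  root_uniq : ∀ u : G, u * u * u = 1 → u ≠ 1 → t3 * u = u * t3 →
    (t1 * u * t1⁻¹ = u ∨ t1 * u * t1⁻¹ = u⁻¹) → u = x ∨ u = x⁻¹ ∨ u = x' ∨ u = x'⁻¹
  /-- the 2-elements of `C_G(t3) ∩ C_G(x)` -/
  cent_x2 : ∀ g : G, g * x = x * g → g * t3 = t3 * g → g ^ 16 = 1 → g = 1 ∨ g = t3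
  /-- the 3-elements of `C_G(t3) ∩ C_G(x)` -/
  cent_x3 : ∀ g : G, g * x = x * g → g * t3 = t3 * g → g ^ 27 = 1 → g = 1 ∨ g = x ∨ g = x⁻¹
  cent_x'2 : ∀ g : G, g * x' = x' * g → g * t3 = t3 * g → g ^ 16 = 1 → g = 1 ∨ g = t3
  cent_x'3 : ∀ g : G, g * x' = x' * g → g * t3 = t3 * g → g ^ 27 = 1 → g = 1 ∨ g = x' ∨ g = x'⁻¹
  /-- `x` and `x'` are conjugate -/
  conj_xx' : ∃ g : G, g * x * g⁻¹ = x'

/-- the subgroup generated by the 3-elements of `C_G(z)` (in a group of order `5616 = 2⁴·3³·13`) -/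
def DD (z : G) : Subgroup G :=
  Subgroup.closure {g : G | g * z = z * g ∧ g ^ 27 = 1}

/-- the commutator `a b a⁻¹ b⁻¹` -/
def cm (a b : G) : G := a * b * a⁻¹ * b⁻¹

end grp

end Cfsg.Agent.Lib.Helper22_L33
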