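import Mathlib
import Cfsg.Prelude.Def_Characters
import Cfsg.Agent.Lib.Helper80_CharBasic
import Cfsg.Agent.Lib.Helper6_GL23Defs

/-!
# S0197 (architect helper6): package GAM (helper58)

Facts in `Γ = GL(2,3)` (48 elements), each by a single kernel enumeration of `Γ`.
-/

set_option autoImplicit false
open scoped ComplexConjugate

namespace Cfsg.Agent.Lib.Helper58_GL23_GAM

open Cfsg Cfsg.Agent.Lib.Helper80_CharBasic Cfsg.Agent.Lib.Helper6_GL23Defs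

set_option maxRecDepth 100000 in
theorem center_aux : ∀ g : Γ, g * aΓ = aΓ * g → g * sΓ = sΓ * g → g = 1 ∨ g = tΓ := by
  decide +kernel

theorem gam_center : ∀ g : Γ, (∀ h : Γ, g * h = h * g) → g = 1 ∨ g = tΓ :=
  fun g hg => center_aux g (hg aΓ) (hg sΓ)

set_option maxRecDepth 100000 in
theorem gam_t : tΓ * tΓ = 1 ∧ tΓ ≠ 1 ∧ ∀ h : Γ, tΓ * h = h * tΓ := by decide +kernel

theorem gam_a : aΓ ^ 4 = tΓ := by decide +kernel

theorem gam_s : sΓ ^ 3 = 1 ∧ sΓ ≠ 1 := by decide +kernel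

set_option maxRecDepth 100000 in
theorem card_aux : Fintype.card Γ = 48 := by decide +kernel

theorem gam_card : Nat.card Γ = 48 := by
  rw [Nat.card_eq_fintype_card]
  exact card_aux

set_option maxRecDepth 100000 in
theorem cent_aux1 : Fintype.card {g : Γ // g * aΓ = aΓ * g} = 8 := by decide +kernel

set_option maxRecDepth 100000 in
theorem cent_aux2 : Fintype.card {g : Γ // g * aΓ ^ 2 = aΓ ^ 2 * g} = 8 := by decide +kernel

set_option maxRecDepth 100000 in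
theorem cent_aux3 : Fintype.card {g : Γ // g * (tΓ * sΓ) = (tΓ * sΓ) * g} = 6 := by
  decide +kernel

theorem gam_cent : Nat.card {g : Γ // g * aΓ = aΓ * g} = 8 ∧
    Nat.card {g : Γ // g * aΓ ^ 2 = aΓ ^ 2 * g} = 8 ∧
    Nat.card {g : Γ // g * (tΓ * sΓ) = (tΓ * sΓ) * g} = 6 := by
  refine ⟨?_, ?_, ?_⟩
  · rw [Nat.card_eq_fintype_card]
    exact cent_aux1
  · rw [Nat.card_eq_fintype_card]
    exact cent_aux2
  · rw [Nat.card_eq_fintype_card]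
    exact cent_aux3

/-- a conjugating element for `aΓ ↦ aΓ ^ 3` -/
def c1 : Γ := ⟨!![0, 1; 2, 0], !![0, 2; 1, 0], by decide, by decide⟩

/-- a conjugating element for `tΓ * sΓ ↦ (tΓ * sΓ)⁻¹` -/
def c2 : Γ := ⟨!![1, 0; 0, 2], !![1, 0; 0, 2], by decide, by decide⟩

set_option maxRecDepth 100000 in
theorem conj_aux : ∀ g : Γ, g * aΓ * g⁻¹ ≠ aΓ⁻¹ := by decide +kernel

theorem gam_conj : (∃ g : Γ, g * aΓ * g⁻¹ = aΓ ^ 3) ∧ (∀ g : Γ, g * aΓ * g⁻¹ ≠ aΓ⁻¹) ∧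
    (∃ g : Γ, g * (tΓ * sΓ) * g⁻¹ = (tΓ * sΓ)⁻¹) :=
  ⟨⟨c1, by decide +kernel⟩, conj_aux, ⟨c2, by decide +kernel⟩⟩

set_option maxRecDepth 100000 in
theorem inv_aux :
    Fintype.card {x : Γ // x * x = 1 ∧ x ≠ 1 ∧ x * aΓ ^ 2 * x⁻¹ = (aΓ ^ 2)⁻¹} = 4 := by
  decide +kernel

theorem gam_inv :
    Nat.card {x : Γ // x * x = 1 ∧ x ≠ 1 ∧ x * aΓ ^ 2 * x⁻¹ = (aΓ ^ 2)⁻¹} = 4 := by
  rw [Nat.card_eq_fintype_card]
  exact inv_aux

end Cfsg.Agent.Lib.Helper58_GL23_GAM
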