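import Mathlib
import Cfsg.Agent.Lib.Helper6_GL23Defs

/-!
# S0197 package LOCB (architect helper6, proof helper63)

Conjugacy statements and the involution counts for `a = aG t e` (order 8, `a⁴ = t`) and
`t * s` in a group `G` with `C_G(t) ≃* GL(2,3)`: an element conjugating `a` (or `a²`) to its
inverse centralizes `a⁴ = t`, so everything is transported to `Γ = GL(2,3)`, where it is decided.
-/

set_option autoImplicit false

namespace Cfsg.Agent.Lib.Helper63_GL23_LOCB

open Cfsg.Agent.Lib.Helper6_GL23Defs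

/-! ### the facts in `Γ` used here (kernel-decided) -/

set_option maxRecDepth 100000 in
theorem gam_a4 : aΓ ^ 4 = tΓ := by decide +kernel

set_option maxRecDepth 100000 in
theorem gam_cj : (∃ g : Γ, g * aΓ * g⁻¹ = aΓ ^ 3) ∧ (∀ g : Γ, g * aΓ * g⁻¹ ≠ aΓ⁻¹) ∧
    (∃ g : Γ, g * (tΓ * sΓ) * g⁻¹ = (tΓ * sΓ)⁻¹) := by decide +kernel

set_option maxRecDepth 100000 in
theorem gam_cen : ∀ g : Γ, (∀ h : Γ, g * h = h * g) → g = 1 ∨ g = tΓ := by decide +kernel

set_option maxRecDepth 100000 in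
theorem gam_iv :
    Nat.card {x : Γ // x * x = 1 ∧ x ≠ 1 ∧ x * aΓ ^ 2 * x⁻¹ = (aΓ ^ 2)⁻¹} = 4 := by
  rw [Nat.card_eq_fintype_card]
  decide +kernel

section grp

variable {G : Type*} [Group G]

/-- `e` maps `t` to `-1` -/
theorem e_t (t : G) (ht : orderOf t = 2) (e : Subgroup.centralizer ({t} : Set G) ≃* Γ) :
    e ⟨t, Subgroup.mem_centralizer_singleton_iff.mpr rfl⟩ = tΓ := by
  set tC : Subgroup.centralizer ({t} : Set G) :=
    ⟨t, Subgroup.mem_centralizer_singleton_iff.mpr rfl⟩ with htC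
  have hcen : ∀ h : Γ, e tC * h = h * e tC := by
    intro h
    obtain ⟨c, rfl⟩ := e.surjective h
    rw [← map_mul, ← map_mul]
    congr 1
    apply Subtype.ext
    rw [Subgroup.coe_mul, Subgroup.coe_mul]
    exact (Subgroup.mem_centralizer_singleton_iff.mp c.2).symm
  rcases gam_cen (e tC) hcen with h1 | h1
  · exfalso
    have h2 : tC = 1 := e.injective (by rw [h1, map_one])
    have h3 : t = 1 := congrArg Subtype.val h2
    rw [h3, orderOf_one] at ht
    norm_num at ht
  · exact h1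

/-- an element inverting `y` centralizes every power of `y` that is an involution -/
theorem mem_cent_of_inv (t : G) (ht : orderOf t = 2) {y : G} {n : ℕ} (hy : y ^ n = t) {g : G}
    (hg : g * y * g⁻¹ = y⁻¹) : g ∈ Subgroup.centralizer ({t} : Set G) := by
  have ht2 : t * t = 1 := by
    have := pow_orderOf_eq_one t
    rw [ht, pow_two] at this
    exact this
  have htinv : t⁻¹ = t := inv_eq_of_mul_eq_one_left ht2
  have h1 : g * t * g⁻¹ = t := by
    rw [← hy, ← conj_pow, hg, inv_pow, hy, htinv]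
  rw [Subgroup.mem_centralizer_singleton_iff]
  calc g * t = g * t * g⁻¹ * g := by group
    _ = t * g := by rw [h1]

theorem loc_b_core (t : G) (ht : orderOf t = 2) (e : Subgroup.centralizer ({t} : Set G) ≃* Γ) :
    IsConj (aG t e) (aG t e ^ 3) ∧ ¬ IsConj (aG t e) (aG t e)⁻¹ ∧
    IsConj (t * sG t e) (t * sG t e)⁻¹ ∧
    (∀ x : G, orderOf x = 2 → x * aG t e * x⁻¹ ≠ (aG t e)⁻¹) ∧
    Nat.card {x : G // orderOf x = 2 ∧ x * aG t e ^ 2 * x⁻¹ = (aG t e ^ 2)⁻¹} = 4 := by
  set tC : Subgroup.centralizer ({t} : Set G) :=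
    ⟨t, Subgroup.mem_centralizer_singleton_iff.mpr rfl⟩ with htC
  have hT : e tC = tΓ := e_t t ht e
  have hsT : e.symm tΓ = tC := by rw [← hT, e.symm_apply_apply]
  have haG : aG t e = ((e.symm aΓ : Subgroup.centralizer ({t} : Set G)) : G) := rfl
  have hsG : sG t e = ((e.symm sΓ : Subgroup.centralizer ({t} : Set G)) : G) := rfl
  -- `a ^ 4 = t`
  have ha4 : aG t e ^ 4 = t := by
    rw [haG, ← Subgroup.coe_pow, ← map_pow, gam_a4, hsT]
  have ha22 : (aG t e ^ 2) ^ 2 = t := by rw [← pow_mul]; exact ha4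
  -- transport of a conjugation
  have tr : ∀ (c : Subgroup.centralizer ({t} : Set G)) (y : Γ),
      (c : G) * ((e.symm y : Subgroup.centralizer ({t} : Set G)) : G) * (c : G)⁻¹ =
        ((e.symm (e c * y * (e c)⁻¹) : Subgroup.centralizer ({t} : Set G)) : G) := by
    intro c y
    rw [map_mul, map_mul, map_inv, e.symm_apply_apply, Subgroup.coe_mul, Subgroup.coe_mul,
      Subgroup.coe_inv]
  have hnot : ∀ g : G, g * aG t e * g⁻¹ ≠ (aG t e)⁻¹ := by
    intro g hg
    have hgC := mem_cent_of_inv t ht ha4 hg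
    have h1 := tr ⟨g, hgC⟩ aΓ
    rw [← haG] at h1
    have h2 : (⟨g, hgC⟩ : Subgroup.centralizer ({t} : Set G)).1 = g := rfl
    rw [h2, hg, haG, ← Subgroup.coe_inv, ← map_inv] at h1
    have h3 := e.symm.injective (Subtype.ext h1)
    exact gam_cj.2.1 _ h3.symm
  refine ⟨?_, ?_, ?_, ?_, ?_⟩
  · obtain ⟨g, hg⟩ := gam_cj.1
    rw [isConj_iff]
    refine ⟨((e.symm g : Subgroup.centralizer ({t} : Set G)) : G), ?_⟩
    have h1 := tr (e.symm g) aΓ
    rw [e.apply_symm_apply, hg, map_pow, Subgroup.coe_pow] at h1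
    rw [haG]
    exact h1
  · rw [isConj_iff]
    rintro ⟨g, hg⟩
    exact hnot g hg
  · obtain ⟨g, hg⟩ := gam_cj.2.2
    rw [isConj_iff]
    refine ⟨((e.symm g : Subgroup.centralizer ({t} : Set G)) : G), ?_⟩
    have h1 := tr (e.symm g) (tΓ * sΓ)
    rw [e.apply_symm_apply, hg, map_inv, Subgroup.coe_inv, map_mul, Subgroup.coe_mul, hsT] at h1
    rw [hsG]
    exact h1
  · intro x _ hx
    exact hnot x hx
  · rw [← gam_iv]
    symm
    apply Nat.card_congr
    have h2p : Fact (Nat.Prime 2) := ⟨Nat.prime_two⟩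
    refine Equiv.ofBijective (fun y =>
      ⟨((e.symm y.1 : Subgroup.centralizer ({t} : Set G)) : G), ?_, ?_⟩) ⟨?_, ?_⟩
    · rw [orderOf_eq_prime_iff]
      constructor
      · rw [pow_two, ← Subgroup.coe_mul, ← map_mul, y.2.1, map_one, Subgroup.coe_one]
      · intro h1
        have h2 : e.symm y.1 = 1 := Subtype.ext h1
        have h3 : y.1 = 1 := by
          have := congrArg e h2
          rwa [e.apply_symm_apply, map_one] at this
        exact y.2.2.1 h3
    · have h1 := tr (e.symm y.1) (aΓ ^ 2)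
      rw [e.apply_symm_apply, y.2.2.2, map_inv, Subgroup.coe_inv, map_pow, Subgroup.coe_pow,
        ← haG] at h1
      exact h1
    · intro y y' hyy
      have h0 := congrArg Subtype.val hyy
      have h1 : ((e.symm y.1 : Subgroup.centralizer ({t} : Set G)) : G) =
          ((e.symm y'.1 : Subgroup.centralizer ({t} : Set G)) : G) := h0
      exact Subtype.ext (e.symm.injective (Subtype.ext h1))
    · rintro ⟨x, hx2, hx⟩
      have hxC := mem_cent_of_inv t ht ha22 hx
      rw [orderOf_eq_prime_iff] at hx2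
      have hsx : e.symm (e ⟨x, hxC⟩) = ⟨x, hxC⟩ := e.symm_apply_apply _
      refine ⟨⟨e ⟨x, hxC⟩, ?_, ?_, ?_⟩, ?_⟩
      · rw [← map_mul]
        have : (⟨x, hxC⟩ : Subgroup.centralizer ({t} : Set G)) * ⟨x, hxC⟩ = 1 := by
          apply Subtype.ext
          rw [Subgroup.coe_mul, Subgroup.coe_one]
          show x * x = 1
          rw [← pow_two]
          exact hx2.1
        rw [this, map_one]
      · intro h1
        have h2 : (⟨x, hxC⟩ : Subgroup.centralizer ({t} : Set G)) = 1 :=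
          e.injective (by rw [h1, map_one])
        exact hx2.2 (congrArg Subtype.val h2)
      · have h1 := tr ⟨x, hxC⟩ (aΓ ^ 2)
        rw [map_pow, Subgroup.coe_pow, ← haG] at h1
        have h2 : (⟨x, hxC⟩ : Subgroup.centralizer ({t} : Set G)).1 = x := rfl
        rw [h2, hx, haG, ← Subgroup.coe_pow, ← Subgroup.coe_inv, ← map_pow, ← map_inv] at h1
        exact (e.symm.injective (Subtype.ext h1)).symm
      · apply Subtype.ext
        show ((e.symm (e ⟨x, hxC⟩) : Subgroup.centralizer ({t} : Set G)) : G) = x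
        rw [hsx]

end grp

section final

/-! ### LOCB : conjugacy and the two involution counts -/
theorem loc_b {G : Type*} [Group G] [Finite G] (t : G) (ht : orderOf t = 2) (e : Subgroup.centralizer ({t} : Set G) ≃* Γ) :
    IsConj (aG t e) (aG t e ^ 3) ∧ ¬ IsConj (aG t e) (aG t e)⁻¹ ∧
    IsConj (t * sG t e) (t * sG t e)⁻¹ ∧
    (∀ x : G, orderOf x = 2 → x * aG t e * x⁻¹ ≠ (aG t e)⁻¹) ∧
    Nat.card {x : G // orderOf x = 2 ∧ x * aG t e ^ 2 * x⁻¹ = (aG t e ^ 2)⁻¹} = 4 :=
  loc_b_core t ht e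

end final

end Cfsg.Agent.Lib.Helper63_GL23_LOCB
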