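import Mathlib
import Cfsg.Agent.Lib.Helper22_L33Defs
import Cfsg.Agent.Lib.Helper63_GL23_LOCB
import Cfsg.Agent.Lib.Helper58_GL23_GAM

/-!
# S2916 (P4): the embedding `emb t e : Γ →* G` of `Γ = GL(2,3)` onto `C_G(t)`.
-/

set_option autoImplicit false

namespace Cfsg.Agent.Lib.Helper22_L33

open Cfsg.Agent.Lib.Helper6_GL23Defs

section grp
variable {G : Type*} [Group G] (t : G) (e : Subgroup.centralizer ({t} : Set G) ≃* Γ)

theorem emb_apply (γ : Γ) :
    emb t e γ = ((e.symm γ : Subgroup.centralizer ({t} : Set G)) : G) := rfl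

theorem emb_injective : Function.Injective (emb t e) := by
  intro a b h
  have : e.symm a = e.symm b := Subtype.ext h
  exact e.symm.injective this

theorem emb_eq_iff {a b : Γ} : emb t e a = emb t e b ↔ a = b :=
  (emb_injective t e).eq_iff

theorem emb_comm (γ : Γ) : emb t e γ * t = t * emb t e γ :=
  Subgroup.mem_centralizer_singleton_iff.mp (e.symm γ).2

theorem exists_emb_eq {g : G} (h : g * t = t * g) : ∃ γ : Γ, emb t e γ = g := by
  refine ⟨e ⟨g, Subgroup.mem_centralizer_singleton_iff.mpr h⟩, ?_⟩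
  rw [emb_apply, e.symm_apply_apply]

theorem emb_eq_one_iff {a : Γ} : emb t e a = 1 ↔ a = 1 := by
  rw [← map_one (emb t e), emb_eq_iff]

theorem emb_tΓ (ht : orderOf t = 2) : emb t e tΓ = t := by
  have h := Cfsg.Agent.Lib.Helper63_GL23_LOCB.e_t t ht e
  rw [emb_apply, ← h, e.symm_apply_apply]

include e in
theorem card_centralizer_eq : Nat.card (Subgroup.centralizer ({t} : Set G)) = 48 := by
  rw [Nat.card_congr e.toEquiv]
  exact Cfsg.Agent.Lib.Helper58_GL23_GAM.gam_card

end grp

end Cfsg.Agent.Lib.Helper22_L33
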