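import Mathlib
import Cfsg.Agent.Lib.Helper22_L33Defs

/-!
# S2916 (P4): symmetries of the configuration `Cfg` (conjugation, swap `x ↔ x'`, flip `ρ ↔ ρ⁻¹`)
and equivariance of `DD`.
-/

set_option autoImplicit false

namespace Cfsg.Agent.Lib.Helper22_L33

section grp
variable {G : Type*} [Group G]

theorem conj_eq_iff (g a b : G) : g * a * g⁻¹ = b ↔ a = g⁻¹ * b * g := by
  constructor
  · rintro rfl; group
  · rintro rfl; group

theorem conj_mul_conj (g a b : G) : g * a * g⁻¹ * (g * b * g⁻¹) = g * (a * b) * g⁻¹ := by group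

theorem conj_inv' (g a : G) : (g * a * g⁻¹)⁻¹ = g * a⁻¹ * g⁻¹ := by group

theorem conj_pow' (g a : G) (n : ℕ) : (g * a * g⁻¹) ^ n = g * a ^ n * g⁻¹ := by
  induction n with
  | zero => simp
  | succ n ih => rw [pow_succ, ih, conj_mul_conj, ← pow_succ]

theorem conj_comm_iff (g a b : G) :
    g * a * g⁻¹ * (g * b * g⁻¹) = g * b * g⁻¹ * (g * a * g⁻¹) ↔ a * b = b * a := by
  rw [conj_mul_conj, conj_mul_conj]
  constructor
  · intro h
    have := congrArg (fun y => g⁻¹ * y * g) h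
    simpa [mul_assoc] using this
  · intro h; rw [h]

variable {t1 t2 t3 ρ x x' : G}

namespace Cfg

theorem t1_sq (C : Cfg t1 t2 t3 ρ x x') : t1 * t1 = 1 := by
  rw [← C.rho_t3, conj_mul_conj, C.t3_sq]; group

theorem t3_inv (C : Cfg t1 t2 t3 ρ x x') : t3⁻¹ = t3 := inv_eq_of_mul_eq_one_right C.t3_sq

theorem t1_inv (C : Cfg t1 t2 t3 ρ x x') : t1⁻¹ = t1 := inv_eq_of_mul_eq_one_right C.t1_sq

theorem t2_sq (C : Cfg t1 t2 t3 ρ x x') : t2 * t2 = 1 := by
  rw [← C.rho_t1, conj_mul_conj, C.t1_sq]; group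

theorem t2_inv (C : Cfg t1 t2 t3 ρ x x') : t2⁻¹ = t2 := inv_eq_of_mul_eq_one_right C.t2_sq

theorem rho_inv (C : Cfg t1 t2 t3 ρ x x') : ρ⁻¹ = ρ * ρ := by
  rw [inv_eq_iff_mul_eq_one, ← mul_assoc]; exact C.rho_cube

theorem rho_t2 (C : Cfg t1 t2 t3 ρ x x') : ρ * t2 * ρ⁻¹ = t3 := by
  have h : ρ * t2 * ρ⁻¹ = (ρ * t1 * ρ⁻¹) * (ρ * t3 * ρ⁻¹) := by rw [C.t2_def]; group
  rw [h, C.rho_t1, C.rho_t3, C.t2_def]
  calc t1 * t3 * t1 = t3 * t1 * t1 := by rw [C.t13]
    _ = t3 := by rw [mul_assoc, C.t1_sq, mul_one]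

theorem t1_ne_one (C : Cfg t1 t2 t3 ρ x x') : t1 ≠ 1 := by
  intro h
  have := C.rho_t3
  rw [h, conj_eq_iff] at this
  apply C.t3_ne; rw [this]; group

theorem t2_ne_one (C : Cfg t1 t2 t3 ρ x x') : t2 ≠ 1 := by
  intro h
  apply C.t1_ne
  have := C.t2_def
  rw [h] at this
  have h2 : t1 = t3⁻¹ := eq_inv_of_mul_eq_one_left this.symm
  rw [h2, C.t3_inv]

theorem t23 (C : Cfg t1 t2 t3 ρ x x') : t2 * t3 = t3 * t2 := by
  rw [C.t2_def, mul_assoc, ← mul_assoc t3, ← C.t13, mul_assoc]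

theorem t12 (C : Cfg t1 t2 t3 ρ x x') : t1 * t2 = t2 * t1 := by
  rw [C.t2_def, ← mul_assoc, mul_assoc t1 t3, ← C.t13, ← mul_assoc]

theorem t1_eq (C : Cfg t1 t2 t3 ρ x x') : t1 = t2 * t3 := by
  rw [C.t2_def, mul_assoc, C.t3_sq, mul_one]

theorem x_t2 (C : Cfg t1 t2 t3 ρ x x') : t2 * x * t2⁻¹ = x⁻¹ := by
  rw [C.t2_def, mul_inv_rev]
  calc t1 * t3 * x * (t3⁻¹ * t1⁻¹) = t1 * (t3 * x) * t3⁻¹ * t1⁻¹ := by group
    _ = t1 * (x * t3) * t3⁻¹ * t1⁻¹ := by rw [C.x_t3]
    _ = t1 * x * t1⁻¹ := by group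
    _ = x⁻¹ := C.x_t1

theorem x'_t2 (C : Cfg t1 t2 t3 ρ x x') : t2 * x' * t2⁻¹ = x'⁻¹ := by
  rw [C.t2_def, mul_inv_rev]
  calc t1 * t3 * x' * (t3⁻¹ * t1⁻¹) = t1 * (t3 * x') * t3⁻¹ * t1⁻¹ := by group
    _ = t1 * (x' * t3) * t3⁻¹ * t1⁻¹ := by rw [C.x'_t3]
    _ = t1 * x' * t1⁻¹ := by group
    _ = x'⁻¹ := C.x'_t1

/-- swap the two root elements -/
theorem swap (C : Cfg t1 t2 t3 ρ x x') : Cfg t1 t2 t3 ρ x' x where
  t3_sq := C.t3_sq
  t3_ne := C.t3_ne
  t1_ne := C.t1_ne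
  t2_def := C.t2_def
  t13 := C.t13
  rho_cube := C.rho_cube
  rho_t3 := C.rho_t3
  rho_t1 := C.rho_t1
  card_c3 := C.card_c3
  x_cube := C.x'_cube
  x_ne := C.x'_ne
  x_t3 := C.x'_t3
  x_t1 := C.x'_t1
  x'_cube := C.x_cube
  x'_ne := C.x_ne
  x'_t3 := C.x_t3
  x'_t1 := C.x_t1
  root_uniq := fun u h1 h2 h3 h4 => by
    rcases C.root_uniq u h1 h2 h3 h4 with h | h | h | h
    · exact Or.inr (Or.inr (Or.inl h))
    · exact Or.inr (Or.inr (Or.inr h))
    · exact Or.inl h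
    · exact Or.inr (Or.inl h)
  cent_x2 := C.cent_x'2
  cent_x3 := C.cent_x'3
  cent_x'2 := C.cent_x2
  cent_x'3 := C.cent_x3
  conj_xx' := by
    obtain ⟨g, hg⟩ := C.conj_xx'
    exact ⟨g⁻¹, by rw [← hg]; group⟩

/-- exchange `t1, t2` and replace `ρ` by `ρ⁻¹` -/
theorem flip (C : Cfg t1 t2 t3 ρ x x') : Cfg t2 t1 t3 ρ⁻¹ x x' where
  t3_sq := C.t3_sq
  t3_ne := C.t3_ne
  t1_ne := by
    intro h
    have := C.t2_def
    rw [h] at this
    apply C.t1_ne_one
    have h2 : t3 * t3 = t1 * t3 * t3 := by rw [← this]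
    rw [C.t3_sq, mul_assoc, C.t3_sq, mul_one] at h2
    exact h2.symm
  t2_def := C.t1_eq
  t13 := C.t23
  rho_cube := by
    have : (ρ * ρ * ρ)⁻¹ = 1 := by rw [C.rho_cube, inv_one]
    rw [← this]; group
  rho_t3 := by
    rw [inv_inv, ← C.rho_t2]; group
  rho_t1 := by
    rw [inv_inv, ← C.rho_t1]; group
  card_c3 := C.card_c3
  x_cube := C.x_cube
  x_ne := C.x_ne
  x_t3 := C.x_t3
  x_t1 := C.x_t2
  x'_cube := C.x'_cube
  x'_ne := C.x'_ne
  x'_t3 := C.x'_t3
  x'_t1 := C.x'_t2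
  root_uniq := fun u h1 h2 h3 h4 => by
    apply C.root_uniq u h1 h2 h3
    have e : t1 * u * t1⁻¹ = t2 * u * t2⁻¹ := by
      rw [C.t2_def, mul_inv_rev]
      calc t1 * u * t1⁻¹ = t1 * (u * t3) * t3⁻¹ * t1⁻¹ := by group
        _ = t1 * (t3 * u) * t3⁻¹ * t1⁻¹ := by rw [h3]
        _ = t1 * t3 * u * (t3⁻¹ * t1⁻¹) := by group
    rw [e]; exact h4
  cent_x2 := C.cent_x2
  cent_x3 := C.cent_x3
  cent_x'2 := C.cent_x'2
  cent_x'3 := C.cent_x'3
  conj_xx' := C.conj_xx'

theorem card_centralizer_conj (g z : G) :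
    Nat.card (Subgroup.centralizer ({g * z * g⁻¹} : Set G)) =
      Nat.card (Subgroup.centralizer ({z} : Set G)) := by
  apply Nat.card_congr
  refine ⟨fun a => ⟨g⁻¹ * a.1 * g, ?_⟩, fun a => ⟨g * a.1 * g⁻¹, ?_⟩, ?_, ?_⟩
  · have h := Subgroup.mem_centralizer_singleton_iff.mp a.2
    rw [Subgroup.mem_centralizer_singleton_iff]
    calc g⁻¹ * a.1 * g * z = g⁻¹ * (a.1 * (g * z * g⁻¹)) * g := by group
      _ = g⁻¹ * (g * z * g⁻¹ * a.1) * g := by rw [h]
      _ = z * (g⁻¹ * a.1 * g) := by group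
  · have h := Subgroup.mem_centralizer_singleton_iff.mp a.2
    rw [Subgroup.mem_centralizer_singleton_iff]
    calc g * a.1 * g⁻¹ * (g * z * g⁻¹) = g * (a.1 * z) * g⁻¹ := by group
      _ = g * (z * a.1) * g⁻¹ := by rw [h]
      _ = g * z * g⁻¹ * (g * a.1 * g⁻¹) := by group
  · intro a; apply Subtype.ext; simp only; group
  · intro a; apply Subtype.ext; simp only; group

/-- conjugate the whole configuration -/
theorem conj (C : Cfg t1 t2 t3 ρ x x') (g : G) :
    Cfg (g * t1 * g⁻¹) (g * t2 * g⁻¹) (g * t3 * g⁻¹) (g * ρ * g⁻¹) (g * x * g⁻¹)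
      (g * x' * g⁻¹) where
  t3_sq := by rw [conj_mul_conj, C.t3_sq]; group
  t3_ne := by
    intro h; apply C.t3_ne
    rw [conj_eq_iff] at h; rw [h]; group
  t1_ne := by
    intro h; apply C.t1_ne
    rw [conj_eq_iff] at h; rw [h]; group
  t2_def := by rw [conj_mul_conj, ← C.t2_def]
  t13 := by rw [conj_comm_iff]; exact C.t13
  rho_cube := by rw [conj_mul_conj, conj_mul_conj, C.rho_cube]; group
  rho_t3 := by rw [conj_inv', conj_mul_conj, conj_mul_conj, ← C.rho_t3]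
  rho_t1 := by rw [conj_inv', conj_mul_conj, conj_mul_conj, ← C.rho_t1]
  card_c3 := by rw [card_centralizer_conj]; exact C.card_c3
  x_cube := by rw [conj_mul_conj, conj_mul_conj, C.x_cube]; group
  x_ne := by
    intro h; apply C.x_ne
    rw [conj_eq_iff] at h; rw [h]; group
  x_t3 := by rw [conj_comm_iff]; exact C.x_t3
  x_t1 := by rw [conj_inv', conj_mul_conj, conj_mul_conj, C.x_t1, conj_inv']
  x'_cube := by rw [conj_mul_conj, conj_mul_conj, C.x'_cube]; group
  x'_ne := by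
    intro h; apply C.x'_ne
    rw [conj_eq_iff] at h; rw [h]; group
  x'_t3 := by rw [conj_comm_iff]; exact C.x'_t3
  x'_t1 := by rw [conj_inv', conj_mul_conj, conj_mul_conj, C.x'_t1, conj_inv']
  root_uniq := fun u h1 h2 h3 h4 => by
    have hu : u = g * (g⁻¹ * u * g) * g⁻¹ := by group
    have := C.root_uniq (g⁻¹ * u * g)
      (by
        have : g⁻¹ * u * g * (g⁻¹ * u * g) * (g⁻¹ * u * g) = g⁻¹ * (u * u * u) * g := by group
        rw [this, h1]; group)
      (by
        intro h; apply h2; rw [hu, h]; group)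
      (by
        rw [hu, conj_comm_iff] at h3; exact h3)
      (by
        rcases h4 with h4 | h4
        · left
          rw [hu, conj_inv', conj_mul_conj, conj_mul_conj] at h4
          have := congrArg (fun y => g⁻¹ * y * g) h4
          simpa [mul_assoc] using this
        · right
          rw [hu, conj_inv', conj_mul_conj, conj_mul_conj, conj_inv'] at h4
          have := congrArg (fun y => g⁻¹ * y * g) h4
          simpa [mul_assoc] using this)
    rw [conj_inv', conj_inv']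
    rcases this with h | h | h | h
    · left; rw [hu, h]
    · right; left; rw [hu, h]
    · right; right; left; rw [hu, h]
    · right; right; right; rw [hu, h]
  cent_x2 := fun a h1 h2 h3 => by
    have ha : a = g * (g⁻¹ * a * g) * g⁻¹ := by group
    have := C.cent_x2 (g⁻¹ * a * g)
      (by rw [ha, conj_comm_iff] at h1; exact h1)
      (by rw [ha, conj_comm_iff] at h2; exact h2)
      (by
        have : (g⁻¹ * a * g) ^ 16 = g⁻¹ * a ^ 16 * g := by
          have := conj_pow' g⁻¹ a 16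
          rwa [inv_inv] at this
        rw [this, h3]; group)
    rcases this with h | h
    · left; rw [ha, h]; group
    · right; rw [ha, h]
  cent_x3 := fun a h1 h2 h3 => by
    have ha : a = g * (g⁻¹ * a * g) * g⁻¹ := by group
    have := C.cent_x3 (g⁻¹ * a * g)
      (by rw [ha, conj_comm_iff] at h1; exact h1)
      (by rw [ha, conj_comm_iff] at h2; exact h2)
      (by
        have : (g⁻¹ * a * g) ^ 27 = g⁻¹ * a ^ 27 * g := by
          have := conj_pow' g⁻¹ a 27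
          rwa [inv_inv] at this
        rw [this, h3]; group)
    rw [conj_inv']
    rcases this with h | h | h
    · left; rw [ha, h]; group
    · right; left; rw [ha, h]
    · right; right; rw [ha, h]
  cent_x'2 := fun a h1 h2 h3 => by
    have ha : a = g * (g⁻¹ * a * g) * g⁻¹ := by group
    have := C.cent_x'2 (g⁻¹ * a * g)
      (by rw [ha, conj_comm_iff] at h1; exact h1)
      (by rw [ha, conj_comm_iff] at h2; exact h2)
      (by
        have : (g⁻¹ * a * g) ^ 16 = g⁻¹ * a ^ 16 * g := by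
          have := conj_pow' g⁻¹ a 16
          rwa [inv_inv] at this
        rw [this, h3]; group)
    rcases this with h | h
    · left; rw [ha, h]; group
    · right; rw [ha, h]
  cent_x'3 := fun a h1 h2 h3 => by
    have ha : a = g * (g⁻¹ * a * g) * g⁻¹ := by group
    have := C.cent_x'3 (g⁻¹ * a * g)
      (by rw [ha, conj_comm_iff] at h1; exact h1)
      (by rw [ha, conj_comm_iff] at h2; exact h2)
      (by
        have : (g⁻¹ * a * g) ^ 27 = g⁻¹ * a ^ 27 * g := by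
          have := conj_pow' g⁻¹ a 27
          rwa [inv_inv] at this
        rw [this, h3]; group)
    rw [conj_inv']
    rcases this with h | h | h
    · left; rw [ha, h]; group
    · right; left; rw [ha, h]
    · right; right; rw [ha, h]
  conj_xx' := by
    obtain ⟨c, hc⟩ := C.conj_xx'
    refine ⟨g * c * g⁻¹, ?_⟩
    rw [conj_inv', conj_mul_conj, conj_mul_conj, hc]

end Cfg

/-- `DD` is equivariant under conjugation -/
theorem DD_conj (g z : G) :
    DD (g * z * g⁻¹) = (DD z).map (MulAut.conj g).toMonoidHom := by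
  unfold DD
  rw [MonoidHom.map_closure]
  congr 1
  ext a
  simp only [Set.mem_setOf_eq, Set.mem_image, MulEquiv.coe_toMonoidHom, MulAut.conj_apply]
  constructor
  · rintro ⟨h1, h2⟩
    refine ⟨g⁻¹ * a * g, ⟨?_, ?_⟩, by group⟩
    · have ha : a = g * (g⁻¹ * a * g) * g⁻¹ := by group
      rw [ha, conj_comm_iff] at h1; exact h1
    · have : (g⁻¹ * a * g) ^ 27 = g⁻¹ * a ^ 27 * g := by
        have := conj_pow' g⁻¹ a 27
        rwa [inv_inv] at this
      rw [this, h2]; group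
  · rintro ⟨b, ⟨h1, h2⟩, rfl⟩
    refine ⟨by rw [conj_comm_iff]; exact h1, by rw [conj_pow', h2]; group⟩

theorem mem_DD_conj {g z u : G} : g * u * g⁻¹ ∈ DD (g * z * g⁻¹) ↔ u ∈ DD z := by
  rw [DD_conj, Subgroup.mem_map]
  simp only [MulEquiv.coe_toMonoidHom, MulAut.conj_apply]
  constructor
  · rintro ⟨b, hb, h⟩
    have : b = u := by
      have := congrArg (fun y => g⁻¹ * y * g) h
      simpa [mul_assoc] using this
    rwa [← this]
  · intro h; exact ⟨u, h, rfl⟩

theorem card_DD_conj (g z : G) : Nat.card (DD (g * z * g⁻¹)) = Nat.card (DD z) := by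
  rw [DD_conj]
  exact Nat.card_congr ((DD z).equivMapOfInjective _ (MulAut.conj g).injective).symm.toEquiv

theorem DD_inv (z : G) : DD z⁻¹ = DD z := by
  unfold DD
  congr 1
  ext a
  simp only [Set.mem_setOf_eq]
  constructor
  · rintro ⟨h1, h2⟩
    refine ⟨?_, h2⟩
    have := congrArg (fun y => z * y * z) h1
    simpa [mul_assoc] using this.symm
  · rintro ⟨h1, h2⟩
    refine ⟨?_, h2⟩
    have := congrArg (fun y => z⁻¹ * y * z⁻¹) h1
    simpa [mul_assoc] using this.symm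

end grp

end Cfsg.Agent.Lib.Helper22_L33
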