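import Mathlib
import Cfsg.Agent.Lib.Helper22_MI2Defs

set_option autoImplicit false

/-!
Shared definitions for the `q = 2` slice of S2147 (minimal index of a proper subgroup of `Ω⁻_{2m}(2)`, `m ≥ 4`, is
the number `(2^m + 1) (2^(m-1) - 1)` of singular points), architect helper22.  Same abstract setting as
`Helper22_MI2Defs` (S2146), but type-free: `Sett Q k` (field with two elements, nondegenerate, dimension `2k`) and
`GSetting Q k ν` (`Sett` plus the number `ν` of nonsingular vectors; `ν = Nmin k` is plus type, `ν = Mmin k` is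
minus type).
-/

namespace Cfsg.Agent.Lib.Helper22_MI2MDefs

open Module Cfsg.Agent.Lib.Helper14_OmegaSimple Cfsg.Agent.Lib.Helper22_MI2Defs

variable {F V : Type*} [Field F] [AddCommGroup V] [Module F V]

/-- A nondegenerate quadratic space of dimension `2k` over the field with two elements (no type recorded). -/
structure Sett (Q : QuadraticForm F V) (k : ℕ) : Prop where
  f2 : ∀ c : F, c = 0 ∨ c = 1
  nondeg : (QuadraticMap.polarBilin Q).Nondegenerate
  dim : finrank F V = 2 * k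

/-- `Sett` together with the number `ν` of nonsingular vectors. -/
structure GSetting (Q : QuadraticForm F V) (k ν : ℕ) : Prop where
  f2 : ∀ c : F, c = 0 ∨ c = 1
  nondeg : (QuadraticMap.polarBilin Q).Nondegenerate
  dim : finrank F V = 2 * k
  ns : Nat.card {x : V // Q x ≠ 0} = ν

theorem GSetting.toSett {Q : QuadraticForm F V} {k ν : ℕ} (h : GSetting Q k ν) : Sett Q k :=
  ⟨h.f2, h.nondeg, h.dim⟩

theorem plusSetting_toSett {Q : QuadraticForm F V} {k : ℕ} (h : PlusSetting Q k) : Sett Q k :=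
  ⟨h.f2, h.nondeg, h.dim⟩

theorem plusSetting_toG {Q : QuadraticForm F V} {k : ℕ} (h : PlusSetting Q k) :
    GSetting Q k (Nmin k) :=
  ⟨h.f2, h.nondeg, h.dim, h.ns⟩

/-- `Mmin k = 2^(k-1) (2^k + 1)`: the number of nonsingular vectors of a minus-type quadratic space of dimension
`2k` over the field with two elements. -/
def Mmin (k : ℕ) : ℕ := 2 ^ (k - 1) * (2 ^ k + 1)

/-- `Smin k = (2^k + 1) (2^(k-1) - 1)`: the number of nonzero singular vectors (= singular points) of a minus-type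
quadratic space of dimension `2k` over the field with two elements. -/
def Smin (k : ℕ) : ℕ := (2 ^ k + 1) * (2 ^ (k - 1) - 1)

/-- numerics: with `P = 2^(k-1)`: `2^(2k) = 4PP`, `Mmin k = 2PP + P`, `Smin k + P + 1 = 2PP`,
`Smin (k+1) + 2P + 1 = 8PP`, `Mmin (k+1) = 8PP + 2P`. -/
theorem numsM (k : ℕ) (hk : 1 ≤ k) : ∃ P : ℕ, P = 2 ^ (k - 1) ∧ 2 ^ k = 2 * P ∧
    2 ^ (2 * k) = 4 * (P * P) ∧ Mmin k = 2 * (P * P) + P ∧ Smin k + P + 1 = 2 * (P * P) ∧
    Smin (k + 1) + 2 * P + 1 = 8 * (P * P) ∧ Mmin (k + 1) = 8 * (P * P) + 2 * P := by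
  obtain ⟨j, rfl⟩ : ∃ j, k = j + 1 := ⟨k - 1, by omega⟩
  refine ⟨2 ^ j, by simp, by ring, by ring, ?_, ?_, ?_, ?_⟩
  · unfold Mmin
    simp only [Nat.add_sub_cancel]
    ring
  · unfold Smin
    simp only [Nat.add_sub_cancel]
    have h1 : 1 ≤ 2 ^ j := Nat.one_le_two_pow
    obtain ⟨t, ht⟩ : ∃ t, 2 ^ j = t + 1 := ⟨2 ^ j - 1, by omega⟩
    have e : 2 ^ (j + 1) = 2 * (t + 1) := by rw [← ht]; ring
    rw [e, ht, Nat.add_sub_cancel]
    ring
  · unfold Smin
    simp only [Nat.add_sub_cancel]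
    have h1 : 1 ≤ 2 ^ j := Nat.one_le_two_pow
    obtain ⟨t, ht⟩ : ∃ t, 2 ^ j = t + 1 := ⟨2 ^ j - 1, by omega⟩
    have e : 2 ^ (j + 1 + 1) = 4 * (t + 1) := by rw [← ht]; ring
    have e' : 2 ^ (j + 1) = 2 * (t + 1) := by rw [← ht]; ring
    rw [e, e', ht]
    have : 2 * (t + 1) - 1 = 2 * t + 1 := by omega
    rw [this]
    ring
  · unfold Mmin
    simp only [Nat.add_sub_cancel]
    ring

end Cfsg.Agent.Lib.Helper22_MI2MDefs
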