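import Mathlib
import Cfsg.Agent.Lib.Helper22_MI2Defs
import Cfsg.Agent.Lib.Helper22_MI2MDefs

/-! Generalised copy (helper22, for the q = 2 slice of S2147) of `Helper42_MI2_SCNT` (S2146 package, proved by the seat named in
that file): `PlusSetting Q k` is replaced by `GSetting Q k ν` (`ν` = number of nonsingular vectors). -/


set_option autoImplicit false

/-!
# MI2-SCNT (helper22's S2146 market): `|V| = 2^(2k)` and the number of nonzero singular vectors.
-/

namespace Cfsg.Agent.Lib.Helper22_MI2G_SCNT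

open Cfsg.Agent.Lib.Helper22_MI2MDefs

open Module Cfsg.Agent.Lib.Helper14_OmegaSimple Cfsg.Agent.Lib.Helper22_MI2Defs

variable {F V : Type*} [Field F] [AddCommGroup V] [Module F V]

/-- The field has two elements. -/
theorem card_field_eq_two (hf2 : ∀ c : F, c = 0 ∨ c = 1) : Nat.card F = 2 := by
  rw [Nat.card_eq_two_iff]
  refine ⟨0, 1, zero_ne_one, ?_⟩
  ext c
  simp only [Set.mem_insert_iff, Set.mem_singleton_iff, Set.mem_univ, iff_true]
  exact hf2 c

/-- **MI2-SCNT**. -/
theorem card_singular [Finite F] [FiniteDimensional F V] (Q : QuadraticForm F V) {k : ℕ}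
    {ν : ℕ} (hS : GSetting Q k ν) :
    Nat.card V = 2 ^ (2 * k) ∧
      Nat.card {x : V // x ≠ 0 ∧ Q x = 0} + ν + 1 = 2 ^ (2 * k) := by
  have hV : Nat.card V = 2 ^ (2 * k) := by
    rw [Module.natCard_eq_pow_finrank (K := F) (V := V), card_field_eq_two hS.f2, hS.dim]
  refine ⟨hV, ?_⟩
  have hfinV : Finite V := Module.finite_of_finite F
  obtain ⟨A, hA⟩ : ∃ A : Set V, A = {x | x ≠ 0 ∧ Q x = 0} := ⟨_, rfl⟩
  obtain ⟨B, hB⟩ : ∃ B : Set V, B = {x | Q x ≠ 0} := ⟨_, rfl⟩
  have hAc : Nat.card {x : V // x ≠ 0 ∧ Q x = 0} = A.ncard := by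
    rw [hA]; exact Nat.card_coe_set_eq {x : V | x ≠ 0 ∧ Q x = 0}
  have hBc : Nat.card {x : V // Q x ≠ 0} = B.ncard := by
    rw [hB]; exact Nat.card_coe_set_eq {x : V | Q x ≠ 0}
  have h0B : (0 : V) ∉ B := by
    rw [hB]
    simp
  have hdisj : Disjoint A (insert 0 B) := by
    rw [Set.disjoint_left]
    intro x hxA hxB
    rw [hA] at hxA
    rw [hB] at hxB
    rcases hxB with h | h
    · exact hxA.1 h
    · exact h hxA.2
  have hunion : A ∪ insert 0 B = Set.univ := by
    ext x
    simp only [Set.mem_union, Set.mem_insert_iff, Set.mem_univ, iff_true]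
    by_cases hx0 : x = 0
    · right; left; exact hx0
    · by_cases hq : Q x = 0
      · left; rw [hA]; exact ⟨hx0, hq⟩
      · right; right; rw [hB]; exact hq
  have h1 : (A ∪ insert 0 B).ncard = A.ncard + (insert 0 B).ncard :=
    Set.ncard_union_eq hdisj (Set.toFinite _) (Set.toFinite _)
  rw [hunion, Set.ncard_univ, Set.ncard_insert_of_notMem h0B (Set.toFinite _), hV] at h1
  rw [hAc, ← hS.ns, hBc]
  omega

end Cfsg.Agent.Lib.Helper22_MI2G_SCNT
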