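import Mathlib
import Cfsg.Agent.Lib.Helper22_MI2Defs
import Cfsg.Agent.Lib.Helper22_MI2MDefs
import Cfsg.Agent.Lib.Helper42_MI2_TRNS
import Cfsg.Agent.Lib.Helper22_MI2G_SCNT
import Cfsg.Agent.Lib.Helper54_MI2_Orb

/-! Generalised copy (helper22, for the q = 2 slice of S2147) of `Helper54_MI2_HYPORB` (S2146 package by helper54):
`PlusSetting Q k` is replaced by `GSetting Q k ν`, and the bound `Nmin k` by any `n` below both the number of
nonzero singular vectors and the number `ν` of nonsingular vectors. -/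


/-!
# S2146 (MI2), package HYPORB: orbits of points and hyperplanes have at least `Nmin k` elements
-/

set_option autoImplicit false

namespace Cfsg.Agent.Lib.Helper22_MI2G_HYPORB

open Cfsg.Agent.Lib.Helper22_MI2MDefs

open Module Cfsg.Agent.Lib.Helper14_OmegaSimple Cfsg.Agent.Lib.Helper22_MI2Defs
  Cfsg.Agent.Lib.Helper54_MI2_Orb

variable {F V : Type*} [Field F] [AddCommGroup V] [Module F V]

/-- arithmetic: `2 * Nmin k + 1 ≤ 2 ^ (2 * k)` -/
theorem two_Nmin_lt {k : ℕ} (hk : 1 ≤ k) : 2 * Nmin k + 1 ≤ 2 ^ (2 * k) := by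
  obtain ⟨j, rfl⟩ : ∃ j, k = j + 1 := ⟨k - 1, by omega⟩
  unfold Nmin
  rw [Nat.add_sub_cancel]
  have ha : 1 ≤ 2 ^ j := Nat.one_le_two_pow
  obtain ⟨a, hadef⟩ : ∃ a, a = 2 ^ j := ⟨_, rfl⟩
  have h1 : 2 ^ (j + 1) = 2 * a := by rw [hadef]; ring
  have h2 : 2 ^ (2 * (j + 1)) = 4 * a * a := by rw [hadef]; ring
  rw [h1, h2, ← hadef]
  rw [← hadef] at ha
  obtain ⟨b, hb⟩ : ∃ b, 2 * a = b + 1 := ⟨2 * a - 1, by omega⟩
  rw [hb, Nat.add_sub_cancel]
  have : 4 * a * a = 2 * (a * (b + 1)) := by rw [← hb]; ring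
  rw [this]
  nlinarith

section finite

variable [Finite F] [FiniteDimensional F V]

/-- the orbit of a point -/
theorem point_orbit (Q : QuadraticForm F V) {k ν : ℕ} (hS : GSetting Q k ν) (hk : 3 ≤ k)
    (S : Submodule F V) (hS1 : finrank F S = 1) (n : ℕ)
    (hn1 : n ≤ Nat.card {x : V // x ≠ 0 ∧ Q x = 0}) (hn2 : n ≤ ν) :
    n ≤ (subOrbit Q S).ncard := by
  haveI : Finite V := Module.finite_of_finite F
  have hdim : 5 ≤ finrank F V := by rw [hS.dim]; omega
  have h2 : (2 : F) = 0 := two_eq_zero hS.f2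
  -- a generator
  obtain ⟨v, hv0, hv⟩ := finrank_eq_one_iff'.1 hS1
  obtain ⟨lam, hlam⟩ : ∃ lam : V, lam = (v : V) := ⟨_, rfl⟩
  have hlam0 : lam ≠ 0 := by
    rw [hlam]
    intro h
    exact hv0 (Subtype.ext h)
  have hSspan : S = Submodule.span F {lam} := by
    apply le_antisymm
    · intro w hw
      obtain ⟨c, hc⟩ := hv ⟨w, hw⟩
      rw [Submodule.mem_span_singleton]
      refine ⟨c, ?_⟩
      rw [hlam]
      exact congrArg Subtype.val hc
    · rw [Submodule.span_singleton_le_iff_mem, hlam]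
      exact v.2
  -- the orbit of `lam`
  have horb : ∀ y : V, y ≠ 0 → Q y = Q lam → ∃ g ∈ T Q, g lam = y := by
    intro y hy hQy
    by_cases hQl : Q lam = 0
    · obtain ⟨g, hg, c, hc, hgl⟩ := exists_mem_T_map Q hS.nondeg hdim hlam0 hQl hy
        (by rw [hQy, hQl])
      rw [eq_one_of_ne_zero hS.f2 hc, one_smul] at hgl
      exact ⟨g, hg, hgl⟩
    · exact Cfsg.Agent.Lib.Helper42_MI2_TRNS.exists_mem_T_map_nonsing Q hS.nondeg hdim h2 hQl
        hQy.symm
  -- the injection
  have hmaps : ∀ y ∈ {y : V | y ≠ 0 ∧ Q y = Q lam}, Submodule.span F {y} ∈ subOrbit Q S := by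
    rintro y ⟨hy, hQy⟩
    obtain ⟨g, hg, hgl⟩ := horb y hy hQy
    refine ⟨g, hg, ?_⟩
    rw [hSspan, Submodule.map_span, Set.image_singleton]
    show Submodule.span F {y} = Submodule.span F {g lam}
    rw [hgl]
  have hinj : Set.InjOn (fun y : V => Submodule.span F {y}) {y : V | y ≠ 0 ∧ Q y = Q lam} := by
    rintro y ⟨hy, _⟩ y' ⟨_, _⟩ h
    have hmem : y ∈ Submodule.span F {y'} := by
      rw [← (show Submodule.span F {y} = Submodule.span F {y'} from h)]
      exact Submodule.mem_span_singleton_self y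
    obtain ⟨c, hc⟩ := Submodule.mem_span_singleton.1 hmem
    rcases hS.f2 c with rfl | rfl
    · rw [zero_smul] at hc
      exact absurd hc.symm hy
    · rw [one_smul] at hc
      exact hc.symm
  have hle : {y : V | y ≠ 0 ∧ Q y = Q lam}.ncard ≤ (subOrbit Q S).ncard :=
    Set.ncard_le_ncard_of_injOn _ hmaps hinj (Set.toFinite _)
  refine le_trans ?_ hle
  by_cases hQl : Q lam = 0
  · have hset : {y : V | y ≠ 0 ∧ Q y = Q lam} = {y : V | y ≠ 0 ∧ Q y = 0} := by
      rw [hQl]
    rw [hset]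
    have hc : Nat.card {x : V // x ≠ 0 ∧ Q x = 0} = {y : V | y ≠ 0 ∧ Q y = 0}.ncard :=
      Nat.card_coe_set_eq {x : V | x ≠ 0 ∧ Q x = 0}
    rw [← hc]
    exact hn1
  · have hset : {y : V | y ≠ 0 ∧ Q y = Q lam} = {y : V | Q y ≠ 0} := by
      ext y
      constructor
      · rintro ⟨_, hQy⟩
        show Q y ≠ 0
        rw [hQy]
        exact hQl
      · intro hQy
        refine ⟨?_, ?_⟩
        · rintro rfl
          exact hQy (map_zero Q)
        · rw [eq_one_of_ne_zero hS.f2 hQy, eq_one_of_ne_zero hS.f2 hQl]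
    rw [hset]
    have hc : Nat.card {x : V // Q x ≠ 0} = {y : V | Q y ≠ 0}.ncard :=
      Nat.card_coe_set_eq {x : V | Q x ≠ 0}
    rw [← hc, hS.ns]
    exact hn2

/-- orthogonal complements commute with isometries -/
theorem orthogonal_map (Q : QuadraticForm F V) {g : V ≃ₗ[F] V} (hg : g ∈ T Q)
    (W : Submodule F V) :
    LinearMap.BilinForm.orthogonal (QuadraticMap.polarBilin Q) (W.map (g : V →ₗ[F] V)) =
      (LinearMap.BilinForm.orthogonal (QuadraticMap.polarBilin Q) W).map (g : V →ₗ[F] V) := by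
  have hgo := T_le_oG Q hg
  have hgy : ∀ y : V, g (g⁻¹ y) = y := by
    intro y
    show g (g.symm y) = y
    rw [LinearEquiv.apply_symm_apply]
  ext x
  rw [mem_map_iff, LinearMap.BilinForm.mem_orthogonal_iff, LinearMap.BilinForm.mem_orthogonal_iff]
  constructor
  · intro h w hw
    have := h (g w) ((apply_mem_map_iff g W w).2 hw)
    rw [QuadraticMap.polarBilin_apply_apply] at this ⊢
    rw [← oG_polar Q hgo, hgy]
    exact this
  · rintro h n hn
    have hw : g⁻¹ n ∈ W := (mem_map_iff g W n).1 hn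
    have := h _ hw
    rw [QuadraticMap.polarBilin_apply_apply] at this ⊢
    rw [← oG_polar Q hgo, hgy, hgy] at this
    exact this

theorem point_hyperplane_orbit (Q : QuadraticForm F V) {k ν : ℕ}
    (hS : GSetting Q k ν) (hk : 3 ≤ k) (S : Submodule F V)
    (hS1 : finrank F S = 1 ∨ finrank F S + 1 = 2 * k) (n : ℕ)
    (hn1 : n ≤ Nat.card {x : V // x ≠ 0 ∧ Q x = 0}) (hn2 : n ≤ ν) :
    n ≤ (subOrbit Q S).ncard := by
  haveI : Finite V := Module.finite_of_finite F
  rcases hS1 with h1 | h1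
  · exact point_orbit Q hS hk S h1 n hn1 hn2
  · have hrefl : (QuadraticMap.polarBilin Q).IsRefl := by
      intro x y h
      rw [QuadraticMap.polarBilin_apply_apply] at h ⊢
      rw [QuadraticMap.polar_comm]
      exact h
    have hfr : finrank F (LinearMap.BilinForm.orthogonal (QuadraticMap.polarBilin Q) S) = 1 := by
      rw [LinearMap.BilinForm.finrank_orthogonal hS.nondeg, hS.dim]
      omega
    have hpt := point_orbit Q hS hk _ hfr n hn1 hn2
    refine le_trans hpt ?_
    have hoo : ∀ W : Submodule F V,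
        LinearMap.BilinForm.orthogonal (QuadraticMap.polarBilin Q)
          (LinearMap.BilinForm.orthogonal (QuadraticMap.polarBilin Q) W) = W :=
      LinearMap.BilinForm.orthogonal_orthogonal hS.nondeg hrefl
    refine Set.ncard_le_ncard_of_injOn
      (fun D => LinearMap.BilinForm.orthogonal (QuadraticMap.polarBilin Q) D) ?_ ?_
      (Set.toFinite _)
    · rintro D ⟨g, hg, rfl⟩
      refine ⟨g, hg, ?_⟩
      show LinearMap.BilinForm.orthogonal (QuadraticMap.polarBilin Q) _ = _
      rw [orthogonal_map Q hg, hoo]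
    · intro D _ D' _ h
      have := congrArg (fun W => LinearMap.BilinForm.orthogonal (QuadraticMap.polarBilin Q) W) h
      simpa only [hoo] using this

end finite

end Cfsg.Agent.Lib.Helper22_MI2G_HYPORB
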