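import Mathlib
import Cfsg.Agent.Lib.Helper22_MI2Defs
import Cfsg.Agent.Lib.Helper22_MI2MDefs

/-! Type-free copy (helper22, for the q = 2 slice of S2147) of `Helper70_MI2_INJ` (package MI2-INJ of S2146, proved by the
seat named in that file): `PlusSetting` is replaced by the type-free `Sett`; the proof is unchanged. -/


set_option autoImplicit false

/-!
MI2-INJ (helper22's S2146 market): lower bound for the orbit of `ω` under `U_v ⋊ L`.
-/

namespace Cfsg.Agent.Lib.Helper22_MI2G_INJ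

open Cfsg.Agent.Lib.Helper22_MI2MDefs

open Module Cfsg.Agent.Lib.Helper14_OmegaSimple Cfsg.Agent.Lib.Helper22_MI2Defs

variable {F V : Type*} [Field F] [AddCommGroup V] [Module F V]

section action

variable {X : Type*} [MulAction (V ≃ₗ[F] V) X]

theorem orbit_lower_bound_aux [Finite F] [FiniteDimensional F V] (Q : QuadraticForm F V)
    {v : V} (hv : Q v = 0) (W : Submodule F V)
    (hvW : ∀ w ∈ W, QuadraticMap.polar (⇑Q) v w = 0)
    (ext : (↥W ≃ₗ[F] ↥W) →* (V ≃ₗ[F] V))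
    (hext : IsExt Q W ext)
    (ω : X) (S : Submodule F ↥W)
    (hSdef : ∀ w : ↥W, w ∈ S ↔ E Q v (w : V) • ω = ω) :
    Nat.card (↥W ⧸ S) * (subOrbit (resQ Q W) S).ncard ≤
      {ω' : X | ∃ (w : ↥W) (l : ↥W ≃ₗ[F] ↥W),
        l ∈ T (resQ Q W) ∧ ω' = E Q v (w : V) • ext l • ω}.ncard := by
  classical
  -- basic facts
  have hvw : ∀ w : W, QuadraticMap.polar (⇑Q) v (w : V) = 0 := fun w => hvW w w.2
  have hvorth : v ∈ LinearMap.BilinForm.orthogonal (QuadraticMap.polarBilin Q) W := by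
    intro n hn
    show QuadraticMap.polarBilin Q n v = 0
    rw [QuadraticMap.polarBilin_apply_apply, QuadraticMap.polar_comm]
    exact hvW n hn
  have hextv : ∀ l : W ≃ₗ[F] W, ext l v = v := fun l => hext.on_orth l v hvorth
  have hconj : ∀ l : W ≃ₗ[F] W, l ∈ T (resQ Q W) → ∀ w : W,
      ext l * E Q v (w : V) * (ext l)⁻¹ = E Q v ((l w : W) : V) := by
    intro l hl w
    have hoG : ext l ∈ Cfsg.Agent.Lib.Helper94_OrthSmall.oG (⇑Q) := T_le_oG Q (hext.map_T l hl)
    rw [conj_E Q hoG hv (hvw w), hextv l, hext.on_mem l w]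
  have hmulE : ∀ w w' : W, E Q v (w : V) * E Q v (w' : V) = E Q v ((w + w' : W) : V) := by
    intro w w'
    rw [E_mul Q hv (hvw w) (hvw w')]
    rfl
  have hinvE : ∀ w : W, (E Q v (w : V))⁻¹ = E Q v ((-w : W) : V) := by
    intro w
    rw [E_inv Q hv (hvw w)]
    rfl
  -- the finite set of orbit members
  have hfinV : Finite V := Module.finite_of_finite F
  have hfinW : Finite W := inferInstance
  have hfinSub : Finite (Submodule F W) :=
    Finite.of_injective (fun N : Submodule F W => (N : Set W)) SetLike.coe_injective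
  have hfin : (subOrbit (resQ Q W) S).Finite := Set.toFinite _
  -- choice of group elements
  have hch : ∀ S' : {S' // S' ∈ subOrbit (resQ Q W) S}, ∃ l : W ≃ₗ[F] W,
      l ∈ T (resQ Q W) ∧ (S' : Submodule F W) = S.map (l : W →ₗ[F] W) := by
    rintro ⟨S', g, hg, rfl⟩
    exact ⟨g, hg, rfl⟩
  choose lOf hlT hlS using hch
  -- the map
  let f : (W ⧸ S) × {S' // S' ∈ subOrbit (resQ Q W) S} → X := fun p =>
    ext (lOf p.2) • E Q v ((Quotient.out p.1 : W) : V) • ω
  have hfmem : ∀ p, f p ∈ {ω' : X | ∃ (w : W) (l : W ≃ₗ[F] W),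
        l ∈ T (resQ Q W) ∧ ω' = E Q v (w : V) • ext l • ω} := by
    intro p
    refine ⟨lOf p.2 (Quotient.out p.1), lOf p.2, hlT p.2, ?_⟩
    show ext (lOf p.2) • E Q v ((Quotient.out p.1 : W) : V) • ω = _
    rw [← hconj (lOf p.2) (hlT p.2) (Quotient.out p.1)]
    simp only [mul_smul, inv_smul_smul]
  -- key: an element l of T fixing things
  have hkey : ∀ (l : W ≃ₗ[F] W), l ∈ T (resQ Q W) → ∀ w₁ w₂ : W,
      E Q v (w₁ : V) • ω = ext l • E Q v (w₂ : V) • ω → S.map (l : W →ₗ[F] W) = S := by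
    intro l hl w₁ w₂ h
    -- h := (E v w₁)⁻¹ * ext l * E v w₂ fixes ω
    have hfixh : ((E Q v (w₁ : V))⁻¹ * ext l * E Q v (w₂ : V)) • ω = ω := by
      rw [mul_smul, mul_smul, ← h, inv_smul_smul]
    have hle : S.map (l : W →ₗ[F] W) ≤ S := by
      rintro _ ⟨s, hs, rfl⟩
      have hs' : E Q v ((s : W) : V) • ω = ω := (hSdef s).mp hs
      show l s ∈ S
      rw [hSdef]
      -- conj
      have hcomp : (E Q v (w₁ : V))⁻¹ * ext l * E Q v (w₂ : V) * E Q v (s : V) *
          ((E Q v (w₁ : V))⁻¹ * ext l * E Q v (w₂ : V))⁻¹ = E Q v ((l s : W) : V) := by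
        have h1 : E Q v (w₂ : V) * E Q v (s : V) * (E Q v (w₂ : V))⁻¹ = E Q v (s : V) := by
          rw [hinvE, hmulE, hmulE]
          congr 2
          abel
        have h2 : (E Q v (w₁ : V))⁻¹ * E Q v ((l s : W) : V) * E Q v (w₁ : V) =
            E Q v ((l s : W) : V) := by
          rw [hinvE, hmulE, hmulE]
          congr 2
          abel
        calc (E Q v (w₁ : V))⁻¹ * ext l * E Q v (w₂ : V) * E Q v (s : V) *
            ((E Q v (w₁ : V))⁻¹ * ext l * E Q v (w₂ : V))⁻¹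
            = (E Q v (w₁ : V))⁻¹ * (ext l * (E Q v (w₂ : V) * E Q v (s : V) *
                (E Q v (w₂ : V))⁻¹) * (ext l)⁻¹) * E Q v (w₁ : V) := by group
          _ = (E Q v (w₁ : V))⁻¹ * (ext l * E Q v (s : V) * (ext l)⁻¹) * E Q v (w₁ : V) := by
              rw [h1]
          _ = (E Q v (w₁ : V))⁻¹ * E Q v ((l s : W) : V) * E Q v (w₁ : V) := by
              rw [hconj l hl s]
          _ = E Q v ((l s : W) : V) := h2
      rw [← hcomp, mul_smul, mul_smul, inv_smul_eq_iff.mpr hfixh.symm, hs', hfixh]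
    -- equality by finrank
    apply Submodule.eq_of_le_of_finrank_eq hle
    exact LinearEquiv.finrank_map_eq l S
  -- injectivity
  have hinj : Function.Injective f := by
    rintro ⟨c₁, S₁⟩ ⟨c₂, S₂⟩ hfe
    simp only [f] at hfe
    -- ext l₁ • E v w₁ • ω = ext l₂ • E v w₂ • ω
    set l₁ := lOf S₁ with hl₁
    set l₂ := lOf S₂ with hl₂
    set w₁ : W := Quotient.out c₁ with hw₁
    set w₂ : W := Quotient.out c₂ with hw₂
    have hlmem : l₁⁻¹ * l₂ ∈ T (resQ Q W) :=
      Subgroup.mul_mem _ (Subgroup.inv_mem _ (hlT S₁)) (hlT S₂)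
    have h' : E Q v (w₁ : V) • ω = ext (l₁⁻¹ * l₂) • E Q v (w₂ : V) • ω := by
      rw [map_mul, map_inv, mul_smul, ← hfe, inv_smul_smul]
    have hmap := hkey (l₁⁻¹ * l₂) hlmem w₁ w₂ h'
    have hSS : (S₁ : Submodule F W) = (S₂ : Submodule F W) := by
      rw [hlS S₁, hlS S₂]
      have : S.map ((l₂ : W ≃ₗ[F] W) : W →ₗ[F] W) =
          (S.map ((l₁⁻¹ * l₂ : W ≃ₗ[F] W) : W →ₗ[F] W)).map ((l₁ : W ≃ₗ[F] W) : W →ₗ[F] W) := by
        rw [← Submodule.map_comp]
        congr 1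
        ext x
        simp [LinearEquiv.mul_apply]
      rw [this, hmap]
    have hS12 : S₁ = S₂ := Subtype.ext hSS
    subst hS12
    have hl1 : l₁⁻¹ * l₂ = 1 := by simp [hl₁, hl₂]
    rw [hl1, map_one, one_smul] at h'
    -- now E v w₁ ω = E v w₂ ω
    have hdiff : w₂ - w₁ ∈ S := by
      rw [hSdef]
      have : E Q v ((w₂ - w₁ : W) : V) = (E Q v (w₁ : V))⁻¹ * E Q v (w₂ : V) := by
        rw [hinvE, hmulE]
        congr 2
        abel
      rw [this, mul_smul, ← h', inv_smul_smul]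
    have hc : c₁ = c₂ := by
      have h1 : (Submodule.Quotient.mk w₁ : W ⧸ S) = c₁ := Quotient.out_eq c₁
      have h2 : (Submodule.Quotient.mk w₂ : W ⧸ S) = c₂ := Quotient.out_eq c₂
      rw [← h1, ← h2, Submodule.Quotient.eq]
      have : w₁ - w₂ = -(w₂ - w₁) := by abel
      rw [this]
      exact S.neg_mem hdiff
    rw [hc]
  -- the target set is finite
  have htfin : {ω' : X | ∃ (w : W) (l : W ≃ₗ[F] W),
        l ∈ T (resQ Q W) ∧ ω' = E Q v (w : V) • ext l • ω}.Finite := by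
    have : {ω' : X | ∃ (w : W) (l : W ≃ₗ[F] W),
        l ∈ T (resQ Q W) ∧ ω' = E Q v (w : V) • ext l • ω} ⊆
        Set.range (fun p : W × (W ≃ₗ[F] W) => E Q v (p.1 : V) • ext p.2 • ω) := by
      rintro _ ⟨w, l, _, rfl⟩
      exact ⟨(w, l), rfl⟩
    have hfe : Finite (W ≃ₗ[F] W) := Finite.of_injective (fun l => (l : W → W))
      (fun a b h => LinearEquiv.ext (fun x => congrFun h x))
    exact (Set.finite_range _).subset this
  -- counting
  have hfo : Finite {S' // S' ∈ subOrbit (resQ Q W) S} := hfin.to_subtype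
  have hcard : Nat.card ((W ⧸ S) × {S' // S' ∈ subOrbit (resQ Q W) S}) =
      Nat.card (W ⧸ S) * (subOrbit (resQ Q W) S).ncard := by
    rw [Nat.card_prod, Nat.card_coe_set_eq]
  rw [← hcard]
  have hrange : Set.range f ⊆ {ω' : X | ∃ (w : W) (l : W ≃ₗ[F] W),
        l ∈ T (resQ Q W) ∧ ω' = E Q v (w : V) • ext l • ω} := by
    rintro _ ⟨p, rfl⟩
    exact hfmem p
  calc Nat.card ((W ⧸ S) × {S' // S' ∈ subOrbit (resQ Q W) S})
      = (Set.range f).ncard := by
        rw [← Nat.card_coe_set_eq]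
        exact (Nat.card_congr (Equiv.ofInjective f hinj))
    _ ≤ _ := Set.ncard_le_ncard hrange htfin


theorem orbit_lower_bound [Finite F] [FiniteDimensional F V] (Q : QuadraticForm F V) {m : ℕ}
    (hS : Sett Q m) (hm : 4 ≤ m) {v v' : V} (hv : Q v = 0) (hv' : Q v' = 0)
    (hvv' : QuadraticMap.polar (⇑Q) v v' = 1)
    (ext : (↥(perp2 Q v v') ≃ₗ[F] ↥(perp2 Q v v')) →* (V ≃ₗ[F] V))
    (hext : IsExt Q (perp2 Q v v') ext)
    (ω : X) (S : Submodule F ↥(perp2 Q v v'))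
    (hSdef : ∀ w : ↥(perp2 Q v v'), w ∈ S ↔ E Q v (w : V) • ω = ω) :
    Nat.card (↥(perp2 Q v v') ⧸ S) * (subOrbit (resQ Q (perp2 Q v v')) S).ncard ≤
      {ω' : X | ∃ (w : ↥(perp2 Q v v')) (l : ↥(perp2 Q v v') ≃ₗ[F] ↥(perp2 Q v v')),
        l ∈ T (resQ Q (perp2 Q v v')) ∧ ω' = E Q v (w : V) • ext l • ω}.ncard :=
  orbit_lower_bound_aux Q hv (perp2 Q v v')
    (fun w hw => ((Cfsg.Agent.Lib.Helper44_QuadClass.mem_perp Q v v').mp hw).1) ext hext ω S hSdef

end action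

end Cfsg.Agent.Lib.Helper22_MI2G_INJ
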