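import Mathlib
import Cfsg.Agent.Lib.Helper22_MI2Defs
import Cfsg.Agent.Lib.Helper22_MI2MDefs

/-! Type-free copy (helper22, for the q = 2 slice of S2147) of `Helper63_MI2_REGA` (package MI2-REGA of S2146, proved by the
seat named in that file): `PlusSetting` is replaced by the type-free `Sett`; the proof is unchanged. -/


/-!
MI2-REGA (helper22's S2146 market): the fixed-point trick.  Under alternative (B) every `U_v`-orbit on a
nontrivial `T Q`-orbit is regular.  helper63.
-/

set_option autoImplicit false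

namespace Cfsg.Agent.Lib.Helper22_MI2G_REGA

open Cfsg.Agent.Lib.Helper22_MI2MDefs

open Module Cfsg.Agent.Lib.Helper14_OmegaSimple Cfsg.Agent.Lib.Helper22_MI2Defs

variable {F V : Type*} [Field F] [AddCommGroup V] [Module F V]

/-- In characteristic two the Siegel element of two orthogonal singular vectors is symmetric. -/
theorem E_symm (Q : QuadraticForm F V) (h2 : (2 : F) = 0) {a b : V} (ha : Q a = 0) (hb : Q b = 0)
    (hab : QuadraticMap.polar (⇑Q) a b = 0) : E Q a b = E Q b a := by
  have hneg : ∀ y : V, -y = y := by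
    intro y
    apply neg_eq_of_add_eq_zero_left
    have : y + y = (2 : F) • y := by rw [two_smul]
    rw [this, h2, zero_smul]
  have hba : QuadraticMap.polar (⇑Q) b a = 0 := by rw [QuadraticMap.polar_comm]; exact hab
  apply LinearEquiv.ext
  intro x
  rw [E_apply Q ha hab, E_apply Q hb hba, ha, hb]
  simp only [zero_mul, zero_smul, sub_zero]
  rw [sub_eq_add_neg, sub_eq_add_neg, hneg, hneg]
  abel

section action

variable {X : Type*} [MulAction (V ≃ₗ[F] V) X]

theorem all_reg_of_fixOrReg [Finite F] [FiniteDimensional F V] (Q : QuadraticForm F V) {m : ℕ}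
    (hS : Sett Q m) (hm : 4 ≤ m) (Ω : Set X) (hΩ : IsOrbit Q Ω) (hB : FixOrReg Q Ω) :
    ∀ v : V, v ≠ 0 → Q v = 0 → ∀ ω ∈ Ω, ∀ w : V, QuadraticMap.polar (⇑Q) v w = 0 →
      E Q v w • ω = ω → w = 0 ∨ w = v := by
  intro v hv0 hv ω hω w hvw hfix
  by_contra hcon
  push Not at hcon
  have h2 : (2 : F) = 0 := by
    rcases hS.f2 (2 : F) with h | h
    · exact h
    · exfalso
      have h1 : (1 : F) + 1 = 1 := by rw [one_add_one_eq_two]; exact h
      have : (1 : F) = 0 := by simp at h1
      exact one_ne_zero this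
  have hvfull : ∀ z : V, QuadraticMap.polar (⇑Q) v z = 0 → E Q v z • ω = ω := by
    rcases hB v hv0 hv ω hω with h | h
    · exact h
    · exfalso
      rcases h w hvw hfix with h1 | h1
      · exact hcon.1 h1
      · exact hcon.2 h1
  have claim1 : ∀ a b : V, a ≠ 0 → Q a = 0 →
      (∀ z : V, QuadraticMap.polar (⇑Q) a z = 0 → E Q a z • ω = ω) → b ≠ 0 → Q b = 0 →
      QuadraticMap.polar (⇑Q) a b = 0 → b ≠ a →
      (∀ z : V, QuadraticMap.polar (⇑Q) b z = 0 → E Q b z • ω = ω) := by
    intro a b ha0 ha hafull hb0 hb hab hba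
    rcases hB b hb0 hb ω hω with h | h
    · exact h
    · exfalso
      have h1 : E Q b a • ω = ω := by
        rw [← E_symm Q h2 ha hb hab]; exact hafull b hab
      rcases h a (by rw [QuadraticMap.polar_comm]; exact hab) h1 with h3 | h3
      · exact ha0 h3
      · exact hba h3.symm
  have allfull : ∀ u : V, u ≠ 0 → Q u = 0 →
      ∀ z : V, QuadraticMap.polar (⇑Q) u z = 0 → E Q u z • ω = ω := by
    intro u hu0 hu
    by_cases huv : QuadraticMap.polar (⇑Q) v u = 0
    · by_cases hueq : u = v
      · rw [hueq]; exact hvfull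
      · exact claim1 v u hv0 hv hvfull hu0 hu huv hueq
    · have huv1 : QuadraticMap.polar (⇑Q) v u = 1 := (hS.f2 _).resolve_left huv
      have hfr := Cfsg.Agent.Lib.Helper44_QuadClass.finrank_perp hv hu huv1
      have h3 : 3 ≤ finrank F (Cfsg.Agent.Lib.Helper44_QuadClass.perp Q v u) := by
        rw [hS.dim] at hfr; omega
      obtain ⟨t, ht0, htQ⟩ := Cfsg.Agent.Lib.Helper44_QuadClass.exists_singular
        (Q.comp (Cfsg.Agent.Lib.Helper44_QuadClass.perp Q v u).subtype) h3
      have htm := (Cfsg.Agent.Lib.Helper44_QuadClass.mem_perp Q v u).1 t.2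
      have ht0' : (t : V) ≠ 0 := fun h => ht0 (Subtype.ext h)
      have htQ' : Q (t : V) = 0 := htQ
      have htv : (t : V) ≠ v := by
        intro h
        rw [h] at htm
        have h5 := htm.2
        rw [QuadraticMap.polar_comm, huv1] at h5
        exact one_ne_zero h5
      have htfull := claim1 v t hv0 hv hvfull ht0' htQ' htm.1 htv
      have hut : u ≠ t := by
        intro h
        rw [← h] at htm
        exact huv htm.1
      exact claim1 t u ht0' htQ' htfull hu0 hu
        (by rw [QuadraticMap.polar_comm]; exact htm.2) hut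
  have hT : T Q ≤ MulAction.stabilizer (V ≃ₗ[F] V) ω := by
    rw [T, Subgroup.closure_le]
    rintro g ⟨u, s, hu, hs, hus, rfl⟩
    rw [SetLike.mem_coe, MulAction.mem_stabilizer_iff]
    by_cases hu0 : u = 0
    · rw [hu0, E_zero_left, one_smul]
    · exact allfull u hu0 hu s hus
  obtain ⟨ω₀, hω₀, g, hg, hgω⟩ := hΩ.nontriv
  obtain ⟨h, hh, hhω⟩ := hΩ.trans ω hω ω₀ hω₀
  apply hgω
  have h1 : h • ω = ω := hT hh
  have h3 : ω₀ = ω := by rw [← hhω, h1]
  rw [h3]
  exact hT hg

end action

end Cfsg.Agent.Lib.Helper22_MI2G_REGA
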