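import Mathlib
import Cfsg.Agent.Lib.Helper22_MI2Defs
import Cfsg.Agent.Lib.Helper22_MI2MDefs

/-! Type-free copy (helper22, for the q = 2 slice of S2147) of `Helper63_MI2_REGB` (package MI2-REGB of S2146, proved by the
seat named in that file): `PlusSetting` is replaced by the type-free `Sett`; the proof is unchanged. -/


/-!
MI2-REGB (helper22's S2146 market): if all `U_v`-orbits on `Ω` are regular and `|Ω| < 2 |U_v|`, then `U_v` is
transitive on `Ω`.  helper63.
-/

set_option autoImplicit false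

namespace Cfsg.Agent.Lib.Helper22_MI2G_REGB

open Cfsg.Agent.Lib.Helper22_MI2MDefs

open Module Cfsg.Agent.Lib.Helper14_OmegaSimple Cfsg.Agent.Lib.Helper22_MI2Defs

variable {F V : Type*} [Field F] [AddCommGroup V] [Module F V]

/-- The field has two elements. -/
theorem card_F_eq_two [Finite F] (f2 : ∀ c : F, c = 0 ∨ c = 1) : Nat.card F = 2 := by
  classical
  let _ : Fintype F := Fintype.ofFinite F
  rw [Nat.card_eq_fintype_card]
  have huniv : (Finset.univ : Finset F) = {0, 1} := by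
    ext c
    simp only [Finset.mem_univ, Finset.mem_insert, Finset.mem_singleton, true_iff]
    exact f2 c
  rw [← Finset.card_univ, huniv, Finset.card_pair zero_ne_one]

/-- The complement of a hyperbolic plane has `2^(2m-2)` elements. -/
theorem card_perp2 [Finite F] [FiniteDimensional F V] (Q : QuadraticForm F V) {m : ℕ}
    (hS : Sett Q m) {v v' : V} (hv : Q v = 0) (hv' : Q v' = 0)
    (hvv' : QuadraticMap.polar (⇑Q) v v' = 1) : Nat.card (perp2 Q v v') = 2 ^ (2 * m - 2) := by
  have h1 := Cfsg.Agent.Lib.Helper44_QuadClass.finrank_perp hv hv' hvv'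
  rw [hS.dim] at h1
  have h2 : finrank F (perp2 Q v v') = 2 * m - 2 := by
    have : finrank F (perp2 Q v v') = finrank F (Cfsg.Agent.Lib.Helper44_QuadClass.perp Q v v') := rfl
    omega
  rw [Module.natCard_eq_pow_finrank (K := F), card_F_eq_two hS.f2, h2]

section action

variable {X : Type*} [MulAction (V ≃ₗ[F] V) X]

theorem transitive_of_all_reg [Finite F] [FiniteDimensional F V] (Q : QuadraticForm F V) {m : ℕ}
    (hS : Sett Q m) (hm : 4 ≤ m) (Ω : Set X) (hΩ : IsOrbit Q Ω)
    (hn : Ω.ncard < 2 ^ (2 * m - 1))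
    (hreg : ∀ v : V, v ≠ 0 → Q v = 0 → ∀ ω ∈ Ω, ∀ w : V, QuadraticMap.polar (⇑Q) v w = 0 →
      E Q v w • ω = ω → w = 0 ∨ w = v)
    {v v' : V} (hv : Q v = 0) (hv' : Q v' = 0) (hvv' : QuadraticMap.polar (⇑Q) v v' = 1) :
    ∀ ω ∈ Ω, ∀ ω' ∈ Ω, ∃ w ∈ perp2 Q v v', E Q v w • ω = ω' := by
  intro ω hω ω' hω'
  by_contra hcon
  have hVfin : Finite V := Module.finite_of_finite F
  have hdim : 5 ≤ finrank F V := by rw [hS.dim]; omega
  have hv0 : v ≠ 0 := by
    rintro rfl
    simp [QuadraticMap.polar] at hvv'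
  have hmemW : ∀ w : V, w ∈ perp2 Q v v' ↔
      QuadraticMap.polar (⇑Q) v w = 0 ∧ QuadraticMap.polar (⇑Q) v' w = 0 :=
    fun w => Cfsg.Agent.Lib.Helper44_QuadClass.mem_perp Q v v'
  -- key: E v w • a = E v w' • b  ⇒  b = E v (-w' + w) • a
  have hkey : ∀ (a b : X) (w w' : V), QuadraticMap.polar (⇑Q) v w = 0 →
      QuadraticMap.polar (⇑Q) v w' = 0 → E Q v w • a = E Q v w' • b →
      E Q v (-w' + w) • a = b := by
    intro a b w w' hw hw' hab
    have hnw' : QuadraticMap.polar (⇑Q) v (-w') = 0 := by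
      rw [QuadraticMap.polar_neg_right, hw', neg_zero]
    rw [← E_mul Q hv hnw' hw, ← E_inv Q hv hw', mul_smul, hab, inv_smul_smul]
  -- injectivity of w ↦ E v w • a on W, for a ∈ Ω
  have hinj : ∀ a ∈ Ω, Function.Injective (fun w : perp2 Q v v' => E Q v (w : V) • a) := by
    intro a ha w w' hww'
    have hw := ((hmemW _).1 w.2)
    have hw' := ((hmemW _).1 w'.2)
    have h1 := hkey a a w w' hw.1 hw'.1 hww'
    have hpol : QuadraticMap.polar (⇑Q) v (-(w' : V) + w) = 0 := by
      rw [QuadraticMap.polar_add_right, QuadraticMap.polar_neg_right, hw.1, hw'.1]; simp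
    rcases hreg v hv0 hv a ha _ hpol h1 with h2 | h2
    · apply Subtype.ext
      have : (w : V) = w' := by
        have := congrArg (fun t => (w' : V) + t) h2
        simpa using this
      exact this
    · exfalso
      have h3 : QuadraticMap.polar (⇑Q) v' (-(w' : V) + w) = 0 := by
        rw [QuadraticMap.polar_add_right, QuadraticMap.polar_neg_right, hw.2, hw'.2]; simp
      rw [h2, QuadraticMap.polar_comm, hvv'] at h3
      exact one_ne_zero h3
  -- the two images
  have hsub : Set.range (fun w : perp2 Q v v' => E Q v (w : V) • ω) ∪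
      Set.range (fun w : perp2 Q v v' => E Q v (w : V) • ω') ⊆ Ω := by
    rintro x (⟨w, rfl⟩ | ⟨w, rfl⟩)
    · exact hΩ.inv _ (E_mem_T Q hS.nondeg hdim hv ((hmemW _).1 w.2).1) _ hω
    · exact hΩ.inv _ (E_mem_T Q hS.nondeg hdim hv ((hmemW _).1 w.2).1) _ hω'
  have hdisj : Disjoint (Set.range (fun w : perp2 Q v v' => E Q v (w : V) • ω))
      (Set.range (fun w : perp2 Q v v' => E Q v (w : V) • ω')) := by
    rw [Set.disjoint_left]
    rintro x ⟨w, rfl⟩ ⟨w', hw'x⟩
    apply hcon
    have hw := ((hmemW _).1 w.2)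
    have hw' := ((hmemW _).1 w'.2)
    refine ⟨-(w' : V) + w, (perp2 Q v v').add_mem ((perp2 Q v v').neg_mem w'.2) w.2, ?_⟩
    exact hkey ω ω' w w' hw.1 hw'.1 hw'x.symm
  have hcard : ∀ a ∈ Ω, (Set.range (fun w : perp2 Q v v' => E Q v (w : V) • a)).ncard =
      2 ^ (2 * m - 2) := by
    intro a ha
    rw [← Set.image_univ, Set.ncard_image_of_injective _ (hinj a ha), Set.ncard_univ,
      card_perp2 Q hS hv hv' hvv']
  have hfin1 : (Set.range (fun w : perp2 Q v v' => E Q v (w : V) • ω)).Finite :=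
    Set.finite_range _
  have hfin2 : (Set.range (fun w : perp2 Q v v' => E Q v (w : V) • ω')).Finite :=
    Set.finite_range _
  have h1 := Set.ncard_le_ncard hsub hΩ.fin
  rw [Set.ncard_union_eq hdisj hfin1 hfin2, hcard ω hω, hcard ω' hω'] at h1
  have h2 : 2 ^ (2 * m - 1) = 2 ^ (2 * m - 2) + 2 ^ (2 * m - 2) := by
    have : 2 * m - 1 = (2 * m - 2) + 1 := by omega
    rw [this, pow_succ]; ring
  omega

end action

end Cfsg.Agent.Lib.Helper22_MI2G_REGB
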