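import Mathlib
import Cfsg.Agent.Lib.Helper22_MI2Defs
import Cfsg.Agent.Lib.Helper22_MI2MDefs

/-! Type-free copy (helper22, for the q = 2 slice of S2147) of `Helper55_MI2_REGC` (package MI2-REGC of S2146, proved by the
seat named in that file): `PlusSetting` is replaced by the type-free `Sett`; the proof is unchanged. -/


set_option autoImplicit false

namespace Cfsg.Agent.Lib.Helper22_MI2G_REGC

open Cfsg.Agent.Lib.Helper22_MI2MDefs

open Module Cfsg.Agent.Lib.Helper14_OmegaSimple Cfsg.Agent.Lib.Helper22_MI2Defs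
  Cfsg.Agent.Lib.Helper94_OrthSmall

variable {F V : Type*} [Field F] [AddCommGroup V] [Module F V]

/-- characteristic two data -/
structure C2 (Q : QuadraticForm F V) : Prop where
  f2 : ∀ c : F, c = 0 ∨ c = 1

namespace C2

variable {Q : QuadraticForm F V} (h : C2 Q)
include h

theorem two : (2 : F) = 0 := by
  rcases h.f2 2 with h2 | h2
  · exact h2
  · exfalso
    have : (1 : F) = 0 := by linear_combination h2
    exact one_ne_zero this

theorem add_self (y : V) : y + y = 0 := by
  rw [← two_smul F y, h.two, zero_smul]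

theorem neg_eq (y : V) : -y = y := by
  have := h.add_self y
  exact neg_eq_of_add_eq_zero_left this

theorem sadd_self (a : F) : a + a = 0 := by linear_combination a * h.two

theorem polar_self (x : V) : QuadraticMap.polar (⇑Q) x x = 0 := by
  rw [Cfsg.Agent.Lib.Helper44_QuadClass.polar_self', h.two, zero_mul]

theorem E_apply2 {u z : V} (hu : Q u = 0) (huz : QuadraticMap.polar (⇑Q) u z = 0) (x : V) :
    E Q u z x = x + QuadraticMap.polar (⇑Q) x u • z + QuadraticMap.polar (⇑Q) x z • u +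
      (Q z * QuadraticMap.polar (⇑Q) x u) • u := by
  rw [E_apply Q hu huz, sub_eq_add_neg, sub_eq_add_neg, h.neg_eq, h.neg_eq]

/-- Siegel elements fix vectors orthogonal to both parameters -/
theorem E_fix {u z y : V} (hu : Q u = 0) (huz : QuadraticMap.polar (⇑Q) u z = 0)
    (hyu : QuadraticMap.polar (⇑Q) y u = 0) (hyz : QuadraticMap.polar (⇑Q) y z = 0) :
    E Q u z y = y := by
  rw [h.E_apply2 hu huz, hyu, hyz]
  simp

/-- pairing of an image with a vector orthogonal to both parameters -/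
theorem polar_E {u z : V} (hu : Q u = 0) (huz : QuadraticMap.polar (⇑Q) u z = 0) (y w : V)
    (hwu : QuadraticMap.polar (⇑Q) u w = 0) (hwz : QuadraticMap.polar (⇑Q) z w = 0) :
    QuadraticMap.polar (⇑Q) (E Q u z y) w = QuadraticMap.polar (⇑Q) y w := by
  rw [h.E_apply2 hu huz]
  simp only [QuadraticMap.polar_add_left, QuadraticMap.polar_smul_left, hwu, hwz, smul_eq_mul,
    mul_zero, add_zero]

theorem E_symm {u z : V} (hu : Q u = 0) (hz : Q z = 0) (huz : QuadraticMap.polar (⇑Q) u z = 0) :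
    E Q u z = E Q z u := by
  have hzu : QuadraticMap.polar (⇑Q) z u = 0 := by rw [QuadraticMap.polar_comm]; exact huz
  apply LinearEquiv.ext
  intro x
  rw [h.E_apply2 hu huz, h.E_apply2 hz hzu, hz, hu]
  module

theorem E_sq {u z : V} (hu : Q u = 0) (huz : QuadraticMap.polar (⇑Q) u z = 0) :
    E Q u z * E Q u z = 1 := by
  rw [E_mul Q hu huz huz, h.add_self, E_zero_right Q hu]

theorem E_inv' {u z : V} (hu : Q u = 0) (huz : QuadraticMap.polar (⇑Q) u z = 0) :
    (E Q u z)⁻¹ = E Q u z := by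
  rw [E_inv Q hu huz, h.neg_eq]

theorem E_add_left {u u' z : V} (hu : Q u = 0) (hu' : Q u' = 0)
    (huu' : QuadraticMap.polar (⇑Q) u u' = 0) (huz : QuadraticMap.polar (⇑Q) u z = 0)
    (hu'z : QuadraticMap.polar (⇑Q) u' z = 0) (hz : Q z = 1) :
    E Q (u + u') z = E Q u z * E Q u' z * E Q u u' := by
  have hu'u : QuadraticMap.polar (⇑Q) u' u = 0 := by rw [QuadraticMap.polar_comm]; exact huu'
  have hzu : QuadraticMap.polar (⇑Q) z u = 0 := by rw [QuadraticMap.polar_comm]; exact huz
  have hzu' : QuadraticMap.polar (⇑Q) z u' = 0 := by rw [QuadraticMap.polar_comm]; exact hu'z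
  have hsum : Q (u + u') = 0 := by
    have := QuadraticMap.map_add (⇑Q) u u'
    rw [this, hu, hu', huu']; ring
  have hsumz : QuadraticMap.polar (⇑Q) (u + u') z = 0 := by
    rw [QuadraticMap.polar_add_left, huz, hu'z, add_zero]
  apply LinearEquiv.ext
  intro x
  rw [LinearEquiv.mul_apply, LinearEquiv.mul_apply]
  rw [h.E_apply2 hsum hsumz, h.E_apply2 hu huz (E Q u' z (E Q u u' x))]
  rw [h.polar_E hu' hu'z _ u hu'u hzu, h.polar_E hu huu' _ u (h.polar_self u) hu'u,
    h.polar_E hu' hu'z _ z hu'z (h.polar_self z), h.polar_E hu huu' _ z huz hu'z]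
  rw [h.E_apply2 hu' hu'z (E Q u u' x)]
  rw [h.polar_E hu huu' _ u' huu' (h.polar_self u'), h.polar_E hu huu' _ z huz hu'z]
  rw [h.E_apply2 hu huu', hz, hu']
  simp only [QuadraticMap.polar_add_right]
  module

end C2

section action

variable {X : Type*} [MulAction (V ≃ₗ[F] V) X]

theorem cocycle {Q : QuadraticForm F V} {v : V} (hv : Q v = 0) {k₁ k₂ : V ≃ₗ[F] V}
    (hk₁ : k₁ ∈ oG (⇑Q)) (hk₁v : k₁ v = v) {w₁ w₂ : V}
    (hw₁ : QuadraticMap.polar (⇑Q) v w₁ = 0) (hw₂ : QuadraticMap.polar (⇑Q) v w₂ = 0) (ω : X)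
    (h₁ : E Q v w₁ • k₁ • ω = ω) (h₂ : E Q v w₂ • k₂ • ω = ω) :
    E Q v (w₁ + k₁ w₂) • (k₁ * k₂) • ω = ω := by
  have hkw : QuadraticMap.polar (⇑Q) v (k₁ w₂) = 0 := by
    have := oG_polar Q hk₁ v w₂
    rw [hk₁v] at this
    rw [this, hw₂]
  have e1 : E Q v (w₁ + k₁ w₂) = E Q v w₁ * E Q v (k₁ w₂) := (E_mul Q hv hw₁ hkw).symm
  have e2 : k₁ * E Q v w₂ * k₁⁻¹ = E Q v (k₁ w₂) := by rw [conj_E Q hk₁ hv hw₂, hk₁v]
  have e3 : E Q v (w₁ + k₁ w₂) * (k₁ * k₂) = (E Q v w₁ * k₁) * (E Q v w₂ * k₂) := by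
    rw [e1, ← e2]; group
  rw [← mul_smul, e3, mul_smul, mul_smul, mul_smul, h₂, h₁]


theorem uniq {Q : QuadraticForm F V} (h : C2 Q) {v v' : V} (hv : Q v = 0)
    (hv'v : QuadraticMap.polar (⇑Q) v' v = 1) (ω : X)
    (hregv : ∀ w : V, QuadraticMap.polar (⇑Q) v w = 0 → E Q v w • ω = ω → w = 0 ∨ w = v)
    {w w' : V} (hw : QuadraticMap.polar (⇑Q) v w = 0) (hw' : QuadraticMap.polar (⇑Q) v w' = 0)
    (hwv' : QuadraticMap.polar (⇑Q) v' w = 0) (hw'v' : QuadraticMap.polar (⇑Q) v' w' = 0)
    (y : X) (h1 : E Q v w • y = ω) (h2 : E Q v w' • y = ω) : w = w' := by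
  have hy : y = E Q v w • ω := by
    rw [← h1, ← mul_smul, h.E_sq hv hw, one_smul]
  rw [hy, ← mul_smul, E_mul Q hv hw' hw] at h2
  have hvs : QuadraticMap.polar (⇑Q) v (w' + w) = 0 := by
    rw [QuadraticMap.polar_add_right, hw', hw, add_zero]
  rcases hregv (w' + w) hvs h2 with h0 | h0
  · have : w' = -w := eq_neg_of_add_eq_zero_left h0
    rw [this, h.neg_eq]
  · exfalso
    have h3 : QuadraticMap.polar (⇑Q) v' (w' + w) = 0 := by
      rw [QuadraticMap.polar_add_right, hw'v', hwv', add_zero]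
    rw [h0, hv'v] at h3
    exact one_ne_zero h3

end action

section linalg

variable [FiniteDimensional F V]

omit [FiniteDimensional F V] in
theorem polarBilin_isRefl (Q : QuadraticForm F V) :
    LinearMap.BilinForm.IsRefl (QuadraticMap.polarBilin Q) := fun x y hxy => by
  rw [QuadraticMap.polarBilin_apply_apply] at hxy ⊢
  rw [QuadraticMap.polar_comm]
  exact hxy

/-- a vector outside a subspace is detected by a vector orthogonal to the subspace -/
theorem exists_orth (Q : QuadraticForm F V) (hQ : (QuadraticMap.polarBilin Q).Nondegenerate)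
    (S : Submodule F V) {z : V} (hz : z ∉ S) :
    ∃ x : V, (∀ s ∈ S, QuadraticMap.polar (⇑Q) s x = 0) ∧ QuadraticMap.polar (⇑Q) x z ≠ 0 := by
  by_contra hcon
  push Not at hcon
  apply hz
  rw [← LinearMap.BilinForm.orthogonal_orthogonal hQ (polarBilin_isRefl Q) S,
    LinearMap.BilinForm.mem_orthogonal_iff]
  intro n hn
  rw [LinearMap.BilinForm.mem_orthogonal_iff] at hn
  show QuadraticMap.polarBilin Q n z = 0
  rw [QuadraticMap.polarBilin_apply_apply]
  apply hcon n
  intro s hs
  have := hn s hs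
  exact this

/-- a nonsingular vector orthogonal to a small subspace -/
theorem exists_nonsing_orth {Q : QuadraticForm F V} (h : C2 Q)
    (hQ : (QuadraticMap.polarBilin Q).Nondegenerate) (S : Submodule F V)
    (hS : 2 * finrank F S < finrank F V) :
    ∃ q : V, (∀ s ∈ S, QuadraticMap.polar (⇑Q) s q = 0) ∧ Q q = 1 := by
  by_contra hcon
  push Not at hcon
  obtain ⟨K, hK⟩ : ∃ K, K = LinearMap.BilinForm.orthogonal (QuadraticMap.polarBilin Q) S := ⟨_, rfl⟩
  have hKfr : finrank F K = finrank F V - finrank F S := by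
    rw [hK]; exact LinearMap.BilinForm.finrank_orthogonal hQ S
  have hKQ : ∀ x ∈ K, Q x = 0 := by
    intro x hx
    rw [hK, LinearMap.BilinForm.mem_orthogonal_iff] at hx
    rcases h.f2 (Q x) with h0 | h1
    · exact h0
    · exact absurd h1 (hcon x (fun s hs => hx s hs))
  have hKK : K ≤ LinearMap.BilinForm.orthogonal (QuadraticMap.polarBilin Q) K := by
    intro x hx
    rw [LinearMap.BilinForm.mem_orthogonal_iff]
    intro y hy
    show QuadraticMap.polarBilin Q y x = 0
    rw [QuadraticMap.polarBilin_apply_apply, QuadraticMap.polar, hKQ _ (K.add_mem hy hx),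
      hKQ y hy, hKQ x hx]
    ring
  have h1 := Submodule.finrank_mono hKK
  have h2 : finrank F (LinearMap.BilinForm.orthogonal (QuadraticMap.polarBilin Q) K) =
      finrank F V - finrank F K := LinearMap.BilinForm.finrank_orthogonal hQ K
  omega

end linalg


section action

variable {X : Type*} [MulAction (V ≃ₗ[F] V) X]

open Cfsg.Agent.Lib.Helper44_QuadClass in
/-- **MI2-REGC** -/
theorem regC [Finite F] [FiniteDimensional F V] (Q : QuadraticForm F V) {m : ℕ}
    (hS : Sett Q m) (hm : 4 ≤ m) (ω : X)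
    (hreg : ∀ u : V, u ≠ 0 → Q u = 0 → ∀ w : V, QuadraticMap.polar (⇑Q) u w = 0 →
      E Q u w • ω = ω → w = 0 ∨ w = u)
    {v v' : V} (hv : Q v = 0) (hv' : Q v' = 0) (hvv' : QuadraticMap.polar (⇑Q) v v' = 1)
    (htr : ∀ g ∈ T Q, ∃ w ∈ perp2 Q v v', E Q v w • (g • ω) = ω) : False := by
  have h : C2 Q := ⟨hS.f2⟩
  have hQ := hS.nondeg
  have hdimV := hS.dim
  have hdim : 5 ≤ finrank F V := by rw [hdimV]; omega
  have hv'v : QuadraticMap.polar (⇑Q) v' v = 1 := by rw [QuadraticMap.polar_comm]; exact hvv'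
  have hpolar0 : ∀ y : V, QuadraticMap.polar (⇑Q) (0 : V) y = 0 := fun y => by
    simp [QuadraticMap.polar]
  have hv0 : v ≠ 0 := by
    rintro rfl
    rw [hpolar0] at hvv'
    exact zero_ne_one hvv'
  have hcomm : ∀ a b : V, QuadraticMap.polar (⇑Q) a b = 0 → QuadraticMap.polar (⇑Q) b a = 0 :=
    fun a b hab => by rw [QuadraticMap.polar_comm]; exact hab
  -- the vector `p`
  have hWfr := finrank_perp hv hv' hvv'
  obtain ⟨pW, hpW0, hpWQ⟩ := exists_singular (resQ Q (perp2 Q v v'))
    (by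
      have : finrank F ↥(perp2 Q v v') + 2 = finrank F V := hWfr
      omega)
  obtain ⟨p, hp⟩ : ∃ p : V, p = (pW : V) := ⟨_, rfl⟩
  have hp0 : p ≠ 0 := by
    intro h0
    apply hpW0
    apply Subtype.ext
    rw [← hp, h0]
    rfl
  have hQp : Q p = 0 := by rw [hp]; exact hpWQ
  obtain ⟨hvp, hv'p⟩ : QuadraticMap.polar (⇑Q) v p = 0 ∧ QuadraticMap.polar (⇑Q) v' p = 0 := by
    rw [hp]; exact (mem_perp Q v v').mp pW.2
  have hpv := hcomm _ _ hvp
  have hpv' := hcomm _ _ hv'p
  -- the vector `q`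
  obtain ⟨q, hqS, hQq⟩ := exists_nonsing_orth h hQ (Submodule.span F ({v, v', p} : Set V))
    (by
      classical
      have h1 := finrank_span_finset_le_card (R := F) ({v, v', p} : Finset V)
      have h2 : ({v, v', p} : Finset V).card ≤ 3 := Finset.card_le_three
      have h3 : finrank F ↥(Submodule.span F ({v, v', p} : Set V)) ≤ 3 := by
        have : (({v, v', p} : Finset V) : Set V) = ({v, v', p} : Set V) := by simp
        rw [this] at h1
        exact h1.trans h2
      omega)
  have hvq : QuadraticMap.polar (⇑Q) v q = 0 := hqS v (Submodule.subset_span (by simp))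
  have hv'q : QuadraticMap.polar (⇑Q) v' q = 0 := hqS v' (Submodule.subset_span (by simp))
  have hpq : QuadraticMap.polar (⇑Q) p q = 0 := hqS p (Submodule.subset_span (by simp))
  have hqv := hcomm _ _ hvq
  have hqv' := hcomm _ _ hv'q
  have hqp := hcomm _ _ hpq
  -- the element `g`
  obtain ⟨g, hg⟩ : ∃ g, g = E Q p q := ⟨_, rfl⟩
  have hg_oG : g ∈ oG (⇑Q) := by rw [hg]; exact E_mem_oG Q hQp hpq
  have hg_T : g ∈ T Q := by rw [hg]; exact E_mem_T Q hQ hdim hQp hpq
  have hgv : g v = v := by rw [hg]; exact h.E_fix hQp hpq hvp hvq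
  have hgv' : g v' = v' := by rw [hg]; exact h.E_fix hQp hpq hv'p hv'q
  have hgg : g * g = 1 := by rw [hg]; exact h.E_sq hQp hpq
  have hg_perp : ∀ y : V, QuadraticMap.polar (⇑Q) v y = 0 → QuadraticMap.polar (⇑Q) v' y = 0 →
      QuadraticMap.polar (⇑Q) v (g y) = 0 ∧ QuadraticMap.polar (⇑Q) v' (g y) = 0 := by
    intro y h1 h2
    have e1 := oG_polar Q hg_oG v y
    have e2 := oG_polar Q hg_oG v' y
    rw [hgv] at e1
    rw [hgv'] at e2
    exact ⟨by rw [e1, h1], by rw [e2, h2]⟩
  obtain ⟨c, hcW, hc⟩ := htr g hg_T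
  obtain ⟨hvc, hv'c⟩ := (mem_perp Q v v').mp hcW
  obtain ⟨hvgc, hv'gc⟩ := hg_perp c hvc hv'c
  -- `g c = c`
  have h1 := cocycle hv hg_oG hgv hvc hvc ω hc hc
  rw [hgg, one_smul] at h1
  have h2 : c + g c = 0 := by
    rcases hreg v hv0 hv (c + g c)
      (by rw [QuadraticMap.polar_add_right, hvc, hvgc, add_zero]) h1 with h0 | h0
    · exact h0
    · exfalso
      have h3 : QuadraticMap.polar (⇑Q) v' (c + g c) = 0 := by
        rw [QuadraticMap.polar_add_right, hv'c, hv'gc, add_zero]
      rw [h0, hv'v] at h3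
      exact one_ne_zero h3
  have hgc : g c = c + QuadraticMap.polar (⇑Q) c p • q + QuadraticMap.polar (⇑Q) c q • p +
      (Q q * QuadraticMap.polar (⇑Q) c p) • p := by rw [hg]; exact h.E_apply2 hQp hpq c
  rw [hgc, hQq, one_mul] at h2
  have h3 : QuadraticMap.polar (⇑Q) c p • q +
      (QuadraticMap.polar (⇑Q) c q + QuadraticMap.polar (⇑Q) c p) • p = 0 := by
    have h4 := h.add_self c
    have h5 : QuadraticMap.polar (⇑Q) c p • q +
        (QuadraticMap.polar (⇑Q) c q + QuadraticMap.polar (⇑Q) c p) • p =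
        (c + (c + QuadraticMap.polar (⇑Q) c p • q + QuadraticMap.polar (⇑Q) c q • p +
          QuadraticMap.polar (⇑Q) c p • p)) - (c + c) := by module
    rw [h5, h2, h4, sub_zero]
  have hcp : QuadraticMap.polar (⇑Q) c p = 0 := by
    rcases h.f2 (QuadraticMap.polar (⇑Q) c p) with h0 | h0
    · exact h0
    · exfalso
      rw [h0, one_smul] at h3
      have h5 : q = -((QuadraticMap.polar (⇑Q) c q + 1) • p) := eq_neg_of_add_eq_zero_left h3
      rw [h.neg_eq] at h5
      rw [h5, QuadraticMap.map_smul, hQp, smul_zero] at hQq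
      exact zero_ne_one hQq
  have hcq : QuadraticMap.polar (⇑Q) c q = 0 := by
    rw [hcp, zero_smul, zero_add, add_zero] at h3
    rcases smul_eq_zero.mp h3 with h0 | h0
    · exact h0
    · exact absurd h0 hp0
  -- CLAIM: `c ∈ span {p, q}`
  have hclaim : c ∈ Submodule.span F ({p, q} : Set V) := by
    by_contra hcn
    have hcS : c ∉ Submodule.span F ({v, v'} : Set V) ⊔ Submodule.span F ({p, q} : Set V) := by
      intro hmem
      obtain ⟨y, hy, z, hz, hyz⟩ := Submodule.mem_sup.mp hmem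
      obtain ⟨α, β, rfl⟩ := Submodule.mem_span_pair.mp hy
      obtain ⟨γ, δ, rfl⟩ := Submodule.mem_span_pair.mp hz
      have e1 : QuadraticMap.polar (⇑Q) v' (α • v + β • v' + (γ • p + δ • q)) = α := by
        simp only [QuadraticMap.polar_add_right, QuadraticMap.polar_smul_right, hv'v,
          h.polar_self, hv'p, hv'q, smul_eq_mul, mul_one, mul_zero, add_zero]
      have e2 : QuadraticMap.polar (⇑Q) v (α • v + β • v' + (γ • p + δ • q)) = β := by
        simp only [QuadraticMap.polar_add_right, QuadraticMap.polar_smul_right, hvv',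
          h.polar_self, hvp, hvq, smul_eq_mul, mul_one, mul_zero, add_zero, zero_add]
      rw [hyz, hv'c] at e1
      rw [hyz, hvc] at e2
      apply hcn
      rw [← hyz, ← e1, ← e2, zero_smul, zero_smul, zero_add, zero_add]
      exact Submodule.mem_span_pair.mpr ⟨γ, δ, rfl⟩
    obtain ⟨x₀, hx₀S, hx₀c⟩ := exists_orth Q hQ _ hcS
    have hx₀c1 : QuadraticMap.polar (⇑Q) x₀ c = 1 := (h.f2 _).resolve_left hx₀c
    have hcx₀ : QuadraticMap.polar (⇑Q) c x₀ = 1 := by rw [QuadraticMap.polar_comm]; exact hx₀c1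
    have hvx₀ : QuadraticMap.polar (⇑Q) v x₀ = 0 :=
      hx₀S v (Submodule.mem_sup_left (Submodule.subset_span (by simp)))
    have hv'x₀ : QuadraticMap.polar (⇑Q) v' x₀ = 0 :=
      hx₀S v' (Submodule.mem_sup_left (Submodule.subset_span (by simp)))
    have hpx₀ : QuadraticMap.polar (⇑Q) p x₀ = 0 :=
      hx₀S p (Submodule.mem_sup_right (Submodule.subset_span (by simp)))
    have hqx₀ : QuadraticMap.polar (⇑Q) q x₀ = 0 :=
      hx₀S q (Submodule.mem_sup_right (Submodule.subset_span (by simp)))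
    obtain ⟨a, hQa, hva, hv'a, hpa, hqa, hca⟩ : ∃ a : V, Q a = 0 ∧
        QuadraticMap.polar (⇑Q) v a = 0 ∧ QuadraticMap.polar (⇑Q) v' a = 0 ∧
        QuadraticMap.polar (⇑Q) p a = 0 ∧ QuadraticMap.polar (⇑Q) q a = 0 ∧
        QuadraticMap.polar (⇑Q) c a = 1 := by
      rcases h.f2 (Q x₀) with h0 | h0
      · exact ⟨x₀, h0, hvx₀, hv'x₀, hpx₀, hqx₀, hcx₀⟩
      · refine ⟨x₀ + q, ?_, ?_, ?_, ?_, ?_, ?_⟩
        · have := QuadraticMap.map_add (⇑Q) x₀ q
          rw [this, h0, hQq, hcomm _ _ hqx₀, add_zero]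
          exact h.sadd_self 1
        · rw [QuadraticMap.polar_add_right, hvx₀, hvq, add_zero]
        · rw [QuadraticMap.polar_add_right, hv'x₀, hv'q, add_zero]
        · rw [QuadraticMap.polar_add_right, hpx₀, hpq, add_zero]
        · rw [QuadraticMap.polar_add_right, hqx₀, h.polar_self, add_zero]
        · rw [QuadraticMap.polar_add_right, hcx₀, hcq, add_zero]
    have haq := hcomm _ _ hqa
    obtain ⟨k, hk⟩ : ∃ k, k = E Q a q := ⟨_, rfl⟩
    have hk_oG : k ∈ oG (⇑Q) := by rw [hk]; exact E_mem_oG Q hQa haq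
    have hk_T : k ∈ T Q := by rw [hk]; exact E_mem_T Q hQ hdim hQa haq
    have hkv : k v = v := by rw [hk]; exact h.E_fix hQa haq hva hvq
    have hkv' : k v' = v' := by rw [hk]; exact h.E_fix hQa haq hv'a hv'q
    have hkp : k p = p := by rw [hk]; exact h.E_fix hQa haq hpa hpq
    have hkq : k q = q := by rw [hk]; exact h.E_fix hQa haq hqa (h.polar_self q)
    have hkg : k * g = g * k := by
      have e1 := conj_E Q hk_oG hQp hpq
      rw [hkp, hkq, ← hg] at e1
      calc k * g = (k * g * k⁻¹) * k := by group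
        _ = g * k := by rw [e1]
    obtain ⟨e, heW, he⟩ := htr k hk_T
    obtain ⟨hve, hv'e⟩ := (mem_perp Q v v').mp heW
    obtain ⟨hvge, hv'ge⟩ := hg_perp e hve hv'e
    have hk_perp : QuadraticMap.polar (⇑Q) v (k c) = 0 ∧ QuadraticMap.polar (⇑Q) v' (k c) = 0 := by
      have e1 := oG_polar Q hk_oG v c
      have e2 := oG_polar Q hk_oG v' c
      rw [hkv] at e1
      rw [hkv'] at e2
      exact ⟨by rw [e1, hvc], by rw [e2, hv'c]⟩
    have c1 := cocycle hv hg_oG hgv hvc hve ω hc he
    have c2 := cocycle hv hk_oG hkv hve hvc ω he hc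
    rw [hkg] at c2
    have key : c + g e = e + k c :=
      uniq h hv hv'v ω (hreg v hv0 hv)
        (by rw [QuadraticMap.polar_add_right, hvc, hvge, add_zero])
        (by rw [QuadraticMap.polar_add_right, hve, hk_perp.1, add_zero])
        (by rw [QuadraticMap.polar_add_right, hv'c, hv'ge, add_zero])
        (by rw [QuadraticMap.polar_add_right, hv'e, hk_perp.2, add_zero])
        _ c1 c2
    have hge : g e = e + QuadraticMap.polar (⇑Q) e p • q + QuadraticMap.polar (⇑Q) e q • p +
        (Q q * QuadraticMap.polar (⇑Q) e p) • p := by rw [hg]; exact h.E_apply2 hQp hpq e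
    have hkc : k c = c + QuadraticMap.polar (⇑Q) c a • q + QuadraticMap.polar (⇑Q) c q • a +
        (Q q * QuadraticMap.polar (⇑Q) c a) • a := by rw [hk]; exact h.E_apply2 hQa haq c
    have e1 : QuadraticMap.polar (⇑Q) c (c + g e) = QuadraticMap.polar (⇑Q) c e := by
      rw [hge]
      simp only [QuadraticMap.polar_add_right, QuadraticMap.polar_smul_right, h.polar_self, hcp,
        hcq, smul_eq_mul, mul_zero, add_zero, zero_add]
    have e2 : QuadraticMap.polar (⇑Q) c (e + k c) = QuadraticMap.polar (⇑Q) c e + 1 := by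
      rw [hkc, hQq, hca]
      simp only [QuadraticMap.polar_add_right, QuadraticMap.polar_smul_right, h.polar_self, hca,
        hcq, smul_eq_mul, mul_zero, add_zero, zero_add, mul_one]
    rw [key, e2] at e1
    have : (1 : F) = 0 := by linear_combination e1
    exact one_ne_zero this
  -- END
  obtain ⟨α, β, hαβ⟩ := Submodule.mem_span_pair.mp hclaim
  have ht : (E Q v c * E Q p q) • ω = ω := by rw [mul_smul, ← hg]; exact hc
  have hQvq : Q (v + q) = 1 := by
    have := QuadraticMap.map_add (⇑Q) v q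
    rw [this, hv, hQq, hvq]; ring
  have hQvp : Q (v + p) = 0 := by
    have := QuadraticMap.map_add (⇑Q) v p
    rw [this, hv, hQp, hvp]; ring
  have hQqp : Q (q + p) = 1 := by
    have := QuadraticMap.map_add (⇑Q) q p
    rw [this, hQq, hQp, hqp]; ring
  have hvp0 : v + p ≠ 0 := by
    intro h0
    have h1 : QuadraticMap.polar (⇑Q) (v + p) v' = 1 := by
      rw [QuadraticMap.polar_add_left, hvv', hpv', add_zero]
    rw [h0, hpolar0] at h1
    exact zero_ne_one h1
  have hvpq : QuadraticMap.polar (⇑Q) (v + p) q = 0 := by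
    rw [QuadraticMap.polar_add_left, hvq, hpq, add_zero]
  have hvpp : QuadraticMap.polar (⇑Q) (v + p) p = 0 := by
    rw [QuadraticMap.polar_add_left, hvp, h.polar_self, add_zero]
  have hpvp : QuadraticMap.polar (⇑Q) p (v + p) = 0 := hcomm _ _ hvpp
  have key1 : E Q (v + p) q = E Q v q * E Q p q * E Q v p :=
    h.E_add_left hv hQp hvp hvq hpq hQq
  have key2 : E Q v p = E Q (v + p) p := by
    rw [h.E_symm hv hQp hvp, h.E_symm hQvp hQp hvpp]
    have := E_add_smul Q hQp hpv 1
    rw [one_smul] at this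
    exact this.symm
  have key3 : E Q v p * E Q p q = E Q p q * E Q v p := by
    rw [h.E_symm hv hQp hvp, E_mul Q hQp hpv hpq, E_mul Q hQp hpq hpv, add_comm]
  rcases h.f2 α with rfl | rfl <;> rcases h.f2 β with rfl | rfl
  · -- `c = 0`
    rw [zero_smul, zero_smul, add_zero] at hαβ
    rw [← hαβ, E_zero_right Q hv, one_mul] at ht
    rcases hreg p hp0 hQp q hpq ht with h0 | h0
    · rw [h0, map_zero] at hQq
      exact zero_ne_one hQq
    · rw [h0, hQp] at hQq
      exact zero_ne_one hQq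
  · -- `c = q`
    rw [zero_smul, one_smul, zero_add] at hαβ
    have e1 : E Q v q * E Q p q = E Q (v + p) (q + p) := by
      have : E Q v q * E Q p q = E Q (v + p) q * E Q v p := by
        rw [key1, mul_assoc, mul_assoc, h.E_sq hv hvp, mul_one]
      rw [this, key2, E_mul Q hQvp hvpq hvpp]
    rw [← hαβ, e1] at ht
    rcases hreg (v + p) hvp0 hQvp (q + p)
      (by rw [QuadraticMap.polar_add_right, hvpq, hvpp, add_zero]) ht with h0 | h0
    · rw [h0, map_zero] at hQqp
      exact zero_ne_one hQqp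
    · rw [h0, hQvp] at hQqp
      exact zero_ne_one hQqp
  · -- `c = p`
    rw [one_smul, zero_smul, add_zero] at hαβ
    rw [← hαβ, h.E_symm hv hQp hvp, E_mul Q hQp hpv hpq] at ht
    rcases hreg p hp0 hQp (v + q)
      (by rw [QuadraticMap.polar_add_right, hpv, hpq, add_zero]) ht with h0 | h0
    · rw [h0, map_zero] at hQvq
      exact zero_ne_one hQvq
    · rw [h0, hQp] at hQvq
      exact zero_ne_one hQvq
  · -- `c = p + q`
    rw [one_smul, one_smul] at hαβ
    have e1 : E Q v (p + q) * E Q p q = E Q (v + p) q := by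
      rw [← E_mul Q hv hvp hvq, key1]
      have e2 : E Q v p * E Q v q = E Q v q * E Q v p := by
        rw [E_mul Q hv hvp hvq, E_mul Q hv hvq hvp, add_comm]
      rw [e2, mul_assoc, key3, ← mul_assoc]
    rw [← hαβ, e1] at ht
    rcases hreg (v + p) hvp0 hQvp q hvpq ht with h0 | h0
    · rw [h0, map_zero] at hQq
      exact zero_ne_one hQq
    · rw [h0, hQvp] at hQq
      exact zero_ne_one hQq

end action

end Cfsg.Agent.Lib.Helper22_MI2G_REGC
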