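import Mathlib
import Cfsg.Agent.Lib.Helper22_MI2Defs
import Cfsg.Agent.Lib.Helper22_MI2MDefs
import Cfsg.Agent.Lib.Helper54_MI2_Orb

/-! Generalised copy (helper22, for the q = 2 slice of S2147) of `Helper54_MI2_SUBCNTCore` (S2146 package, proved by the seat named in
that file): `PlusSetting Q k` is replaced by `GSetting Q k ν` (`ν` = number of nonsingular vectors). -/


/-!
# S2146 (MI2), package SUBCNT, core: double counting over the orbit of a subspace
(transitivity of `T Q` on nonsingular vectors as a hypothesis)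
-/

set_option autoImplicit false

namespace Cfsg.Agent.Lib.Helper22_MI2G_SUBCNTCore

open Cfsg.Agent.Lib.Helper22_MI2MDefs

open Module Cfsg.Agent.Lib.Helper14_OmegaSimple Cfsg.Agent.Lib.Helper22_MI2Defs
  Cfsg.Agent.Lib.Helper54_MI2_Orb

variable {F V : Type*} [Field F] [AddCommGroup V] [Module F V]

section count

variable (Q : QuadraticForm F V) (C : Submodule F V)

/-- the number of members of the orbit through `x` -/
noncomputable def bcount (x : V) : ℕ := {C' | C' ∈ subOrbit Q C ∧ x ∈ C'}.ncard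

theorem bcount_apply {g : V ≃ₗ[F] V} (hg : g ∈ T Q) (x : V) :
    bcount Q C (g x) = bcount Q C x := ncard_through_apply hg x

variable [Fintype V]

open Classical in
theorem card_above (P : V → Prop) [DecidablePred P] (hP : ∀ g ∈ T Q, ∀ x, P (g x) ↔ P x)
    {C' : Submodule F V} (hC' : C' ∈ subOrbit Q C) :
    (Finset.bipartiteAbove (fun (D : Submodule F V) (x : V) => x ∈ D)
      (Finset.univ.filter P) C').card = Nat.card {x : C // P (x : V)} := by
  obtain ⟨g, hg, rfl⟩ := hC'
  rw [← Fintype.card_coe, ← Nat.card_eq_fintype_card]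
  symm
  have hmem : ∀ y : V, y ∈ Finset.bipartiteAbove (fun (D : Submodule F V) (x : V) => x ∈ D)
      (Finset.univ.filter P) (C.map (g : V →ₗ[F] V)) ↔ P y ∧ g⁻¹ y ∈ C := by
    intro y
    rw [Finset.mem_bipartiteAbove, Finset.mem_filter, mem_map_iff]
    simp only [Finset.mem_univ, true_and]
  refine Nat.card_congr (Equiv.ofBijective
    (fun x : {x : C // P (x : V)} => (⟨g x.1.1, ?_⟩ :
      {y : V // y ∈ Finset.bipartiteAbove (fun (D : Submodule F V) (x : V) => x ∈ D)
        (Finset.univ.filter P) (C.map (g : V →ₗ[F] V))})) ⟨?_, ?_⟩)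
  · rw [hmem]
    refine ⟨(hP g hg _).2 x.2, ?_⟩
    show g.symm (g x.1.1) ∈ C
    rw [LinearEquiv.symm_apply_apply]
    exact x.1.2
  · intro x x' h
    have h1 : g x.1.1 = g x'.1.1 := congrArg Subtype.val h
    exact Subtype.ext (Subtype.ext (g.injective h1))
  · rintro ⟨y, hy⟩
    rw [hmem] at hy
    have hgy : g (g⁻¹ y) = y := by
      show g (g.symm y) = y
      rw [LinearEquiv.apply_symm_apply]
    refine ⟨⟨⟨g⁻¹ y, hy.2⟩, ?_⟩, ?_⟩
    · show P (g⁻¹ y)
      rw [← hP g hg, hgy]
      exact hy.1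
    · exact Subtype.ext hgy

open Classical in
theorem card_below (hfin : (subOrbit Q C).Finite) (x : V) :
    (Finset.bipartiteBelow (fun (D : Submodule F V) (x : V) => x ∈ D) hfin.toFinset x).card =
      bcount Q C x := by
  unfold bcount
  rw [← Set.ncard_coe_finset]
  congr 1
  ext D
  rw [Finset.mem_coe, Finset.mem_bipartiteBelow, Set.Finite.mem_toFinset]
  rfl

open Classical in
/-- the double counting identity for an invariant predicate -/
theorem double_count (P : V → Prop) [DecidablePred P] (hP : ∀ g ∈ T Q, ∀ x, P (g x) ↔ P x) :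
    (subOrbit Q C).ncard * Nat.card {x : C // P (x : V)} =
      ∑ x ∈ Finset.univ.filter P, bcount Q C x := by
  have hfin : (subOrbit Q C).Finite := Set.toFinite _
  have key := Finset.sum_card_bipartiteAbove_eq_sum_card_bipartiteBelow
    (fun (D : Submodule F V) (x : V) => x ∈ D) (s := hfin.toFinset) (t := Finset.univ.filter P)
  rw [Finset.sum_const_nat (m := Nat.card {x : C // P (x : V)})] at key
  · rw [Set.ncard_eq_toFinset_card _ hfin, key]
    exact Finset.sum_congr rfl (fun x _ => card_below Q C hfin x)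
  · intro C' hC'
    exact card_above Q C P hP ((Set.Finite.mem_toFinset hfin).1 hC')

end count


section main

variable [Finite F] [FiniteDimensional F V]

theorem orbit_count_core (Q : QuadraticForm F V) {k : ℕ}
    {ν : ℕ} (hS : GSetting Q k ν) (hk : 3 ≤ k) (C : Submodule F V)
    (hTR : ∀ x y : V, Q x ≠ 0 → Q x = Q y → ∃ g ∈ T Q, g x = y) :
    (subOrbit Q C).Finite ∧
    ∃ bs bn : ℕ,
      (∀ x : V, x ≠ 0 → Q x = 0 → {C' | C' ∈ subOrbit Q C ∧ x ∈ C'}.ncard = bs) ∧
      (∀ x : V, Q x ≠ 0 → {C' | C' ∈ subOrbit Q C ∧ x ∈ C'}.ncard = bn) ∧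
      (subOrbit Q C).ncard * Nat.card {x : C // (x : V) ≠ 0 ∧ Q x = 0} =
        Nat.card {x : V // x ≠ 0 ∧ Q x = 0} * bs ∧
      (subOrbit Q C).ncard * Nat.card {x : C // Q x ≠ 0} = ν * bn ∧
      (subOrbit Q C).ncard * Nat.card C =
        (subOrbit Q C).ncard + Nat.card {x : V // x ≠ 0 ∧ Q x = 0} * bs + ν * bn := by
  classical
  haveI : Finite V := Module.finite_of_finite F
  haveI : Fintype V := Fintype.ofFinite V
  have hdim : 5 ≤ finrank F V := by rw [hS.dim]; omega
  have hfin : (subOrbit Q C).Finite := Set.toFinite _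
  refine ⟨hfin, ?_⟩
  -- invariance of the norm and of being nonzero
  have hQg : ∀ g ∈ T Q, ∀ x, Q (g x) = Q x := fun g hg x => (T_le_oG Q hg) x
  have hne : ∀ g : V ≃ₗ[F] V, ∀ x, g x ≠ 0 ↔ x ≠ 0 := fun g x =>
    not_congr (LinearEquiv.map_eq_zero_iff g)
  -- constancy of the counting function
  have hbs : ∀ x y : V, x ≠ 0 → Q x = 0 → y ≠ 0 → Q y = 0 → bcount Q C x = bcount Q C y := by
    intro x y hx hQx hy hQy
    obtain ⟨g, hg, c, hc, hgx⟩ := exists_mem_T_map Q hS.nondeg hdim hx hQx hy hQy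
    rw [eq_one_of_ne_zero hS.f2 hc, one_smul] at hgx
    rw [← hgx, bcount_apply Q C hg]
  have hbn : ∀ x y : V, Q x ≠ 0 → Q y ≠ 0 → bcount Q C x = bcount Q C y := by
    intro x y hQx hQy
    have hxy : Q x = Q y := by
      rw [eq_one_of_ne_zero hS.f2 hQx, eq_one_of_ne_zero hS.f2 hQy]
    obtain ⟨g, hg, hgx⟩ := hTR x y hQx hxy
    rw [← hgx, bcount_apply Q C hg]
  -- the two constants
  obtain ⟨bs, hbs'⟩ : ∃ bs : ℕ, ∀ x : V, x ≠ 0 → Q x = 0 → bcount Q C x = bs := by
    by_cases hex : ∃ x : V, x ≠ 0 ∧ Q x = 0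
    · obtain ⟨x₀, hx₀, hQx₀⟩ := hex
      exact ⟨bcount Q C x₀, fun x hx hQx => hbs x x₀ hx hQx hx₀ hQx₀⟩
    · exact ⟨0, fun x hx hQx => absurd ⟨x, hx, hQx⟩ hex⟩
  obtain ⟨bn, hbn'⟩ : ∃ bn : ℕ, ∀ x : V, Q x ≠ 0 → bcount Q C x = bn := by
    by_cases hex : ∃ x : V, Q x ≠ 0
    · obtain ⟨x₀, hQx₀⟩ := hex
      exact ⟨bcount Q C x₀, fun x hQx => hbn x x₀ hQx hQx₀⟩
    · exact ⟨0, fun x hQx => absurd ⟨x, hQx⟩ hex⟩
  refine ⟨bs, bn, hbs', hbn', ?_, ?_, ?_⟩
  · -- singular vectors
    have h1 := double_count Q C (fun x : V => x ≠ 0 ∧ Q x = 0) (by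
      intro g hg x
      rw [hne g x, hQg g hg x])
    rw [Finset.sum_const_nat (m := bs)] at h1
    · rw [h1, ← Fintype.card_subtype, ← Nat.card_eq_fintype_card]
    · intro x hx
      rw [Finset.mem_filter] at hx
      exact hbs' x hx.2.1 hx.2.2
  · -- nonsingular vectors
    have h1 := double_count Q C (fun x : V => Q x ≠ 0) (by
      intro g hg x
      rw [hQg g hg x])
    rw [Finset.sum_const_nat (m := bn)] at h1
    · rw [h1, ← Fintype.card_subtype, ← Nat.card_eq_fintype_card, hS.ns]
    · intro x hx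
      rw [Finset.mem_filter] at hx
      exact hbn' x hx.2
  · -- all vectors
    have h1 := double_count Q C (fun _ : V => True) (fun _ _ _ => Iff.rfl)
    have hC : Nat.card {x : C // True} = Nat.card C :=
      Nat.card_congr (Equiv.subtypeUnivEquiv (fun _ => trivial))
    rw [hC] at h1
    rw [h1, Finset.filter_true_of_mem (fun _ _ => trivial)]
    -- split the sum
    have hsplit : ∑ x : V, bcount Q C x =
        ∑ x ∈ Finset.univ.filter (fun x : V => Q x ≠ 0), bcount Q C x +
          (∑ x ∈ Finset.univ.filter (fun x : V => x ≠ 0 ∧ Q x = 0), bcount Q C x +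
            bcount Q C 0) := by
      rw [← Finset.sum_filter_add_sum_filter_not Finset.univ (fun x : V => Q x ≠ 0)]
      congr 1
      rw [← Finset.sum_filter_add_sum_filter_not
        (Finset.univ.filter (fun x : V => ¬ Q x ≠ 0)) (fun x : V => x ≠ 0)]
      congr 1
      · apply Finset.sum_congr _ (fun _ _ => rfl)
        ext x
        simp only [Finset.mem_filter, Finset.mem_univ, true_and, not_not]
        tauto
      · have : (Finset.univ.filter (fun x : V => ¬ Q x ≠ 0)).filter (fun x : V => ¬ x ≠ 0) =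
            {0} := by
          ext x
          simp only [Finset.mem_filter, Finset.mem_univ, true_and, not_not,
            Finset.mem_singleton]
          constructor
          · exact fun h => h.2
          · rintro rfl
            exact ⟨map_zero Q, rfl⟩
        rw [this, Finset.sum_singleton]
    have h0 : bcount Q C 0 = (subOrbit Q C).ncard := by
      unfold bcount
      congr 1
      ext D
      exact ⟨fun h => h.1, fun h => ⟨h, D.zero_mem⟩⟩
    rw [hsplit, h0, Finset.sum_const_nat (m := bn), Finset.sum_const_nat (m := bs),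
      ← Fintype.card_subtype, ← Fintype.card_subtype, ← Nat.card_eq_fintype_card,
      ← Nat.card_eq_fintype_card, hS.ns]
    · ring
    · intro x hx
      rw [Finset.mem_filter] at hx
      exact hbs' x hx.2.1 hx.2.2
    · intro x hx
      rw [Finset.mem_filter] at hx
      exact hbn' x hx.2

end main

end Cfsg.Agent.Lib.Helper22_MI2G_SUBCNTCore
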