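import Mathlib
import Cfsg.Agent.Lib.Helper22_MI2Defs
import Cfsg.Agent.Lib.Helper22_MI2MDefs
import Cfsg.Agent.Lib.Helper22_MI2_SubC
import Cfsg.Agent.Lib.Helper22_MI2G_SUBI

set_option autoImplicit false

/-!
Type-free versions (`Sett` instead of `PlusSetting`) of `not_invariant`, `through_map`, `two_le_through` of
`Helper22_MI2_SubC` (q = 2 slice of S2147, helper22).
-/

namespace Cfsg.Agent.Lib.Helper22_MI2G_SubC

open Module Cfsg.Agent.Lib.Helper14_OmegaSimple Cfsg.Agent.Lib.Helper22_MI2Defs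
  Cfsg.Agent.Lib.Helper22_MI2MDefs Cfsg.Agent.Lib.Helper22_MI2_Sub Cfsg.Agent.Lib.Helper22_MI2_SubC

variable {F V : Type*} [Field F] [AddCommGroup V] [Module F V]

/-- a subspace through `lam` of dimension between `2` and `2k - 2` is moved by `Kstab Q lam`. -/
theorem not_invariant [Finite F] [FiniteDimensional F V] (Q : QuadraticForm F V) {k : ℕ}
    (hS : Sett Q k) (hk : 3 ≤ k) {lam : V} (hlam : lam ≠ 0) (C : Submodule F V)
    (hlC : lam ∈ C) (h2 : 2 ≤ finrank F C) (h2' : finrank F C + 2 ≤ 2 * k) :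
    ∃ g ∈ Kstab Q lam, C.map (g : V →ₗ[F] V) ≠ C := by
  by_contra hcon
  push Not at hcon
  rcases Cfsg.Agent.Lib.Helper22_MI2G_SUBI.invariant_of_Kstab Q hS hk hlam C hlC hcon with h | h | h
  · rw [h, finrank_span_singleton hlam] at h2
    omega
  · have := LinearMap.BilinForm.finrank_orthogonal hS.nondeg (Submodule.span F {lam})
    rw [← h, finrank_span_singleton hlam, hS.dim] at this
    omega
  · rw [h, finrank_top, hS.dim] at h2'
    omega

/-- the members of the orbit of `C` through `lam` are permuted by `Kstab Q lam`. -/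
theorem through_map [Finite F] [FiniteDimensional F V] (Q : QuadraticForm F V) {k : ℕ}
    (hS : Sett Q k) (hk : 3 ≤ k) {lam : V} (C : Submodule F V) {C' : Submodule F V}
    (hC' : C' ∈ {C' | C' ∈ subOrbit Q C ∧ lam ∈ C'}) {g : V ≃ₗ[F] V} (hg : g ∈ Kstab Q lam) :
    C'.map (g : V →ₗ[F] V) ∈ {C' | C' ∈ subOrbit Q C ∧ lam ∈ C'} := by
  have hdim : 5 ≤ finrank F V := by rw [hS.dim]; omega
  refine ⟨map_mem_subOrbit Q C hC'.1 (Kstab_le_T Q hS.nondeg hdim lam hg), ?_⟩
  rw [Submodule.mem_map]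
  exact ⟨lam, hC'.2, Kstab_fix Q lam hg⟩

/-- at least two members of the orbit of `C` contain `lam ∈ C`. -/
theorem two_le_through [Finite F] [FiniteDimensional F V] (Q : QuadraticForm F V) {k : ℕ}
    (hS : Sett Q k) (hk : 3 ≤ k) {lam : V} (hlam : lam ≠ 0) (C : Submodule F V)
    (hlC : lam ∈ C) (h2 : 2 ≤ finrank F C) (h2' : finrank F C + 2 ≤ 2 * k) :
    2 ≤ {C' | C' ∈ subOrbit Q C ∧ lam ∈ C'}.ncard := by
  obtain ⟨g, hg, hne⟩ := not_invariant Q hS hk hlam C hlC h2 h2'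
  have hC : C ∈ {C' | C' ∈ subOrbit Q C ∧ lam ∈ C'} := ⟨self_mem_subOrbit Q C, hlC⟩
  have hgC := through_map Q hS hk C hC hg
  have hsub : ({C.map (g : V →ₗ[F] V), C} : Set (Submodule F V)) ⊆
      {C' | C' ∈ subOrbit Q C ∧ lam ∈ C'} := by
    intro x hx
    rcases hx with rfl | rfl
    · exact hgC
    · exact hC
  have := Set.ncard_le_ncard hsub (Set.toFinite _)
  rwa [Set.ncard_pair hne] at this

end Cfsg.Agent.Lib.Helper22_MI2G_SubC
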