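import Mathlib
import Cfsg.Agent.Lib.Helper22_MI2Defs
import Cfsg.Agent.Lib.Helper22_MI2MDefs
import Cfsg.Agent.Lib.Helper22_MI2G_SubC
import Cfsg.Agent.Lib.Helper22_MI2G_SUBCNT
import Cfsg.Agent.Lib.Helper22_MI2G_SCNT

set_option autoImplicit false

/-!
S2147, q = 2 slice (helper22): the mixed case of the orbit bound for subspaces, type-free form.
-/

namespace Cfsg.Agent.Lib.Helper22_MI2M_Mix

open Module Cfsg.Agent.Lib.Helper14_OmegaSimple Cfsg.Agent.Lib.Helper22_MI2Defs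
  Cfsg.Agent.Lib.Helper22_MI2MDefs Cfsg.Agent.Lib.Helper22_MI2_Sub

variable {F V : Type*} [Field F] [AddCommGroup V] [Module F V]

/-- the mixed case: `C` contains a nonzero singular and a nonsingular vector. -/
theorem sub_bound_mixed_G [Finite F] [FiniteDimensional F V] (Q : QuadraticForm F V) {k ν : ℕ}
    (hS : GSetting Q k ν) (hk : 3 ≤ k) (C : Submodule F V) (h2 : 2 ≤ finrank F C)
    (h2' : finrank F C + 2 ≤ 2 * k) (hs : ∃ x ∈ C, x ≠ 0 ∧ Q x = 0) (hn : ∃ x ∈ C, Q x ≠ 0) :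
    2 ^ (2 * k + 1) ≤ Nat.card C * (subOrbit Q C).ncard + 1 := by
  obtain ⟨hfin, bs, bn, hbs, hbn, -, -, htot⟩ :=
    Cfsg.Agent.Lib.Helper22_MI2G_SUBCNT.orbit_count Q hS hk C
  obtain ⟨x, hxC, hx0, hQx⟩ := hs
  obtain ⟨y, hyC, hQy⟩ := hn
  have hy0 : y ≠ 0 := by
    rintro rfl
    exact hQy (map_zero Q)
  have h2s : 2 ≤ bs := by
    rw [← hbs x hx0 hQx]
    exact Cfsg.Agent.Lib.Helper22_MI2G_SubC.two_le_through Q hS.toSett hk hx0 C hxC h2 h2'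
  have h2n : 2 ≤ bn := by
    rw [← hbn y hQy]
    exact Cfsg.Agent.Lib.Helper22_MI2G_SubC.two_le_through Q hS.toSett hk hy0 C hyC h2 h2'
  obtain ⟨hV, hcs⟩ := Cfsg.Agent.Lib.Helper22_MI2G_SCNT.card_singular Q hS
  have hn1 : 1 ≤ (subOrbit Q C).ncard := by
    rw [Nat.one_le_iff_ne_zero, Ne, Set.ncard_eq_zero hfin]
    exact Set.Nonempty.ne_empty ⟨C, self_mem_subOrbit Q C⟩
  rw [mul_comm (Nat.card C), htot]
  have h1 : Nat.card {x : V // x ≠ 0 ∧ Q x = 0} * 2 ≤ Nat.card {x : V // x ≠ 0 ∧ Q x = 0} * bs :=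
    Nat.mul_le_mul_left _ h2s
  have h3 : ν * 2 ≤ ν * bn := Nat.mul_le_mul_left _ h2n
  have e : 2 ^ (2 * k + 1) = 2 * 2 ^ (2 * k) := by ring
  rw [e, ← hcs]
  omega

end Cfsg.Agent.Lib.Helper22_MI2M_Mix
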