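import Mathlib
import Cfsg.Agent.Lib.Helper22_MI2Defs
import Cfsg.Agent.Lib.Helper22_MI2_SubC
import Cfsg.Agent.Lib.Helper54_MI2_Orb

set_option autoImplicit false

namespace Cfsg.Agent.Lib.Helper22_MI2_TSN

open Module Cfsg.Agent.Lib.Helper14_OmegaSimple Cfsg.Agent.Lib.Helper22_MI2Defs
  Cfsg.Agent.Lib.Helper22_MI2_Sub Cfsg.Agent.Lib.Helper22_MI2_SubC

variable {F V : Type*} [Field F] [AddCommGroup V] [Module F V]

theorem card_F (hf2 : ∀ c : F, c = 0 ∨ c = 1) : Nat.card F = 2 := by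
  rw [Nat.card_eq_two_iff]
  refine ⟨0, 1, zero_ne_one, ?_⟩
  ext c
  simp only [Set.mem_insert_iff, Set.mem_singleton_iff, Set.mem_univ, iff_true]
  exact hf2 c

theorem card_ts [Finite F] [FiniteDimensional F V] (Q : QuadraticForm F V)
    (hf2 : ∀ c : F, c = 0 ∨ c = 1) (C : Submodule F V) (hts : ∀ x ∈ C, Q x = 0) :
    Nat.card {x : C // (x : V) ≠ 0 ∧ Q x = 0} + 1 = 2 ^ finrank F C := by
  have : Finite V := Module.finite_of_finite F
  have h1 : Nat.card C = 2 ^ finrank F C := by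
    rw [Module.natCard_eq_pow_finrank (K := F), card_F hf2]
  rw [← h1]
  have e : {x : C // (x : V) ≠ 0 ∧ Q x = 0} ≃ {x : C // x ≠ 0} :=
    Equiv.subtypeEquivRight (fun x => by
      constructor
      · rintro ⟨h, -⟩ h0
        exact h (by rw [h0]; rfl)
      · intro h
        exact ⟨fun h0 => h (Subtype.ext h0), hts x x.2⟩)
  rw [Nat.card_congr e]
  have := Fintype.ofFinite C
  classical
  rw [Nat.card_eq_fintype_card, Nat.card_eq_fintype_card, Fintype.card_subtype_compl,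
    Fintype.card_subtype_eq]
  have : 0 < Fintype.card C := Fintype.card_pos
  omega

theorem sub_bound_ts [Finite F] [FiniteDimensional F V] (Q : QuadraticForm F V) {k : ℕ}
    (hS : PlusSetting Q k) (hk : 3 ≤ k) (C : Submodule F V) (h2 : 2 ≤ finrank F C)
    (hts : ∀ x ∈ C, Q x = 0)
    (h4 : 4 ≤ k → ∀ lam ∈ C, lam ≠ 0 → 4 ≤ {C' | C' ∈ subOrbit Q C ∧ lam ∈ C'}.ncard)
    (h3 : ∀ lam ∈ C, lam ≠ 0 → 3 ≤ {C' | C' ∈ subOrbit Q C ∧ lam ∈ C'}.ncard) :
    Nmin (k + 1) ≤ Nat.card C * (subOrbit Q C).ncard := by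
  have : Finite V := Module.finite_of_finite F
  obtain ⟨hfin, bs, bn, hbs, hbn, hcs, hcn, htot⟩ :=
    Cfsg.Agent.Lib.Helper54_MI2_SUBCNT.orbit_count Q hS hk C
  obtain ⟨lam, hlC, hl0⟩ : ∃ lam ∈ C, lam ≠ 0 := by
    have : C ≠ ⊥ := by
      rintro rfl
      simp at h2
    exact Submodule.exists_mem_ne_zero_of_ne_bot this
  have hQl := hts lam hlC
  have hbs' := hbs lam hl0 hQl
  obtain ⟨P, hP4, hP1, hP2, hP3, hP5⟩ := nums k hk
  have hν : 0 < Nmin k := by nlinarith
  have hn0 : Nat.card {x : C // Q x ≠ 0} = 0 := by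
    rw [Nat.card_eq_zero]
    left
    exact ⟨fun x => x.2 (hts x.1 x.1.2)⟩
  have hbn0 : bn = 0 := by
    rw [hn0, mul_zero] at hcn
    rcases Nat.mul_eq_zero.mp hcn.symm with h | h
    · omega
    · exact h
  have hn1 : 1 ≤ (subOrbit Q C).ncard := by
    rw [Nat.one_le_iff_ne_zero, Ne, Set.ncard_eq_zero hfin]
    exact Set.Nonempty.ne_empty ⟨C, self_mem_subOrbit Q C⟩
  obtain ⟨hV, hcard⟩ := Cfsg.Agent.Lib.Helper42_MI2_SCNT.card_singular Q hS
  have hcts := card_ts Q hS.f2 C hts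
  have hCcard : Nat.card C = 2 ^ finrank F C := by
    rw [Module.natCard_eq_pow_finrank (K := F), card_F hS.f2]
  rw [mul_comm, htot, hbn0, mul_zero, add_zero]
  by_cases hb4 : 4 ≤ bs
  · have h1 : Nat.card {x : V // x ≠ 0 ∧ Q x = 0} * 4 ≤ Nat.card {x : V // x ≠ 0 ∧ Q x = 0} * bs :=
      Nat.mul_le_mul_left _ hb4
    nlinarith
  · have hk3 : k = 3 := by
      by_contra hne
      have h4k : 4 ≤ k := by omega
      have := h4 h4k lam hlC hl0
      omega
    have hb3 : bs = 3 := by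
      have := h3 lam hlC hl0
      omega
    subst hk3
    have hN3 : Nmin 3 = 28 := by unfold Nmin; norm_num
    have hN4 : Nmin (3 + 1) = 120 := by unfold Nmin; norm_num
    rw [hN3] at hcard
    have hσ : Nat.card {x : V // x ≠ 0 ∧ Q x = 0} = 35 := by
      have e64 : 2 ^ (2 * 3) = 64 := by norm_num
      rw [e64] at hcard
      omega
    rw [hσ, hb3] at hcs htot ⊢
    rw [hN4]
    have hd := finrank_le_of_ts Q hS.nondeg C hts
    rw [hS.dim] at hd
    have hd' : finrank F C = 2 ∨ finrank F C = 3 := by omega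
    rcases hd' with hd' | hd'
    · rw [hd'] at hcts
      have : Nat.card {x : C // (x : V) ≠ 0 ∧ Q x = 0} = 3 := by omega
      rw [this] at hcs
      omega
    · rw [hd'] at hcts
      have : Nat.card {x : C // (x : V) ≠ 0 ∧ Q x = 0} = 7 := by omega
      rw [this] at hcs
      omega

end Cfsg.Agent.Lib.Helper22_MI2_TSN
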