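import Mathlib
import Cfsg.Agent.Lib.Helper22_MI2Defs
import Cfsg.Agent.Lib.Helper22_MI2MDefs
import Cfsg.Agent.Lib.Helper14_POmegaSimple
import Cfsg.Agent.Lib.Helper22_MI2_SubC
import Cfsg.Agent.Lib.Helper22_MI2_TSN
import Cfsg.Agent.Lib.Helper22_MI2G_SUBCNT
import Cfsg.Agent.Lib.Helper22_MI2G_SCNT

set_option autoImplicit false

/-!
MI2M-TSN (helper22's `q = 2` slice of S2147): the minus-type numerics of the totally singular case.
-/

namespace Cfsg.Agent.Lib.Helper25_MI2M_TSN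

open Module Cfsg.Agent.Lib.Helper14_OmegaSimple Cfsg.Agent.Lib.Helper22_MI2Defs
  Cfsg.Agent.Lib.Helper22_MI2MDefs Cfsg.Agent.Lib.Helper22_MI2_Sub Cfsg.Agent.Lib.Helper22_MI2_SubC

variable {F V : Type*} [Field F] [AddCommGroup V] [Module F V]

/-- final numeric step: `n e = σ bs`, `e + 1 ≤ 2P`, `bs ≥ 4`, `σ = 2PP - P - 1`. -/
theorem arith_final (P n bs σ e : ℕ) (hP : 4 ≤ P) (hσ : σ + P + 1 = 2 * (P * P))
    (he : e + 1 ≤ 2 * P) (hcs : n * e = σ * bs) (hb4 : 4 ≤ bs) :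
    8 * (P * P) ≤ n + σ * bs + 2 * P + 1 := by
  by_contra hcon
  push Not at hcon
  have h4σ : σ * 4 ≤ σ * bs := Nat.mul_le_mul_left _ hb4
  have hn : n ≤ 2 * P + 2 := by omega
  have h1 : n * e ≤ (2 * P + 2) * e := Nat.mul_le_mul_right _ hn
  have h2 : (2 * P + 2) * (e + 1) ≤ (2 * P + 2) * (2 * P) := Nat.mul_le_mul_left _ he
  have h3 : 4 * P ≤ P * P := Nat.mul_le_mul_right _ hP
  nlinarith

/-- the divisibility step for `d = k`. -/
theorem arith_dvd (P n bs σ : ℕ) (hP : 4 ≤ P) (hσ : σ + P + 1 = 2 * (P * P))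
    (hcs : n * (2 * P - 1) = σ * bs) (hb1 : 1 ≤ bs) : 4 ≤ bs := by
  obtain ⟨t, rfl⟩ : ∃ t, P = t + 1 := ⟨P - 1, by omega⟩
  have hσ' : σ = (2 * t + 3) * t := by nlinarith
  have e1 : 2 * (t + 1) - 1 = 2 * t + 1 := by omega
  rw [e1, hσ'] at hcs
  have hc1 : Nat.Coprime (2 * t + 1) (2 * t + 3) := by
    have : 2 * t + 3 = 2 + (2 * t + 1) := by ring
    rw [this, Nat.coprime_add_self_right]
    rw [Nat.coprime_two_right]
    exact ⟨t, rfl⟩
  have hc2 : Nat.Coprime (2 * t + 1) t := by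
    have : 2 * t + 1 = 1 + 2 * t := by ring
    rw [this, Nat.coprime_add_mul_right_left]
    exact Nat.coprime_one_left t
  have hdvd : (2 * t + 1) ∣ (2 * t + 3) * t * bs := ⟨n, by rw [← hcs]; ring⟩
  have hdvd' : (2 * t + 1) ∣ bs :=
    (Nat.Coprime.mul_right hc1 hc2).dvd_of_dvd_mul_left hdvd
  have := Nat.le_of_dvd (by omega) hdvd'
  omega

theorem sub_bound_ts_M [Finite F] [FiniteDimensional F V] (Q : QuadraticForm F V) {k : ℕ}
    (hS : GSetting Q k (Mmin k)) (hk : 3 ≤ k) (C : Submodule F V) (h2 : 2 ≤ finrank F C)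
    (hts : ∀ x ∈ C, Q x = 0)
    (hthr : ∀ lam ∈ C, lam ≠ 0 →
      2 ^ (2 * k) ≤ 2 ^ (2 * finrank F C) * {C' | C' ∈ subOrbit Q C ∧ lam ∈ C'}.ncard) :
    Smin (k + 1) ≤ Nat.card C * (subOrbit Q C).ncard := by
  have : Finite V := Module.finite_of_finite F
  obtain ⟨hfin, bs, bn, hbs, hbn, hcs, hcn, htot⟩ :=
    Cfsg.Agent.Lib.Helper22_MI2G_SUBCNT.orbit_count Q hS hk C
  obtain ⟨lam, hlC, hl0⟩ : ∃ lam ∈ C, lam ≠ 0 := by
    have : C ≠ ⊥ := by
      rintro rfl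
      simp at h2
    exact Submodule.exists_mem_ne_zero_of_ne_bot this
  have hQl := hts lam hlC
  have hbs' := hbs lam hl0 hQl
  obtain ⟨P, hP0, hP1, hP2, hP3, hP4, hP5, hP6⟩ := numsM k (by omega)
  have hP4' : 4 ≤ P := by
    rw [hP0]
    calc 4 = 2 ^ 2 := by norm_num
      _ ≤ 2 ^ (k - 1) := Nat.pow_le_pow_right (by norm_num) (by omega)
  have hn0 : Nat.card {x : C // Q x ≠ 0} = 0 := by
    rw [Nat.card_eq_zero]
    left
    exact ⟨fun x => x.2 (hts x.1 x.1.2)⟩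
  have hν : 0 < Mmin k := by rw [hP3]; nlinarith
  have hbn0 : bn = 0 := by
    rw [hn0, mul_zero] at hcn
    rcases Nat.mul_eq_zero.mp hcn.symm with h | h
    · omega
    · exact h
  obtain ⟨hV, hcard⟩ := Cfsg.Agent.Lib.Helper22_MI2G_SCNT.card_singular Q hS
  have hcts := Cfsg.Agent.Lib.Helper22_MI2_TSN.card_ts Q hS.f2 C hts
  have hd := finrank_le_of_ts Q hS.nondeg C hts
  rw [hS.dim] at hd
  have hdk : finrank F C ≤ k := by omega
  -- `σ = 2PP - P - 1`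
  have hσ : Nat.card {x : V // x ≠ 0 ∧ Q x = 0} + P + 1 = 2 * (P * P) := by
    rw [hP2, hP3] at hcard
    omega
  -- the member count through `lam` is positive
  have hb1 : 1 ≤ bs := by
    rw [← hbs', Nat.one_le_iff_ne_zero, Ne,
      Set.ncard_eq_zero (hfin.subset (fun x hx => hx.1))]
    exact Set.Nonempty.ne_empty ⟨C, self_mem_subOrbit Q C, hlC⟩
  have hthr' := hthr lam hlC hl0
  rw [hbs'] at hthr'
  -- `e := 2^d - 1`
  obtain ⟨e, he⟩ : ∃ e, Nat.card {x : C // (x : V) ≠ 0 ∧ Q x = 0} = e := ⟨_, rfl⟩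
  rw [he] at hcs hcts
  have hpow : 2 ^ finrank F C ≤ 2 ^ k := Nat.pow_le_pow_right (by norm_num) hdk
  have he1 : e + 1 ≤ 2 * P := by rw [hcts, ← hP1]; exact hpow
  -- `bs ≥ 4`
  have hb4 : 4 ≤ bs := by
    rcases Nat.lt_or_ge (finrank F C) k with hlt | hge
    · have h1 : 2 ^ (2 * finrank F C) ≤ 2 ^ (2 * (k - 1)) :=
        Nat.pow_le_pow_right (by norm_num) (by omega)
      have h2 : 2 ^ (2 * k) = 4 * 2 ^ (2 * (k - 1)) := by
        have : 2 * k = 2 + 2 * (k - 1) := by omega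
        rw [this, pow_add]
        norm_num
      rw [h2] at hthr'
      have h3 : 2 ^ (2 * finrank F C) * bs ≤ 2 ^ (2 * (k - 1)) * bs := Nat.mul_le_mul_right _ h1
      have hpos : 0 < 2 ^ (2 * (k - 1)) := by positivity
      by_contra hlt4
      push Not at hlt4
      have h4 : 2 ^ (2 * (k - 1)) * bs ≤ 2 ^ (2 * (k - 1)) * 3 := Nat.mul_le_mul_left _ (by omega)
      omega
    · have hdeq : finrank F C = k := le_antisymm hdk hge
      rw [hdeq, hP1] at hcts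
      have : e = 2 * P - 1 := by omega
      rw [this] at hcs
      exact arith_dvd P _ bs _ hP4' hσ hcs hb1
  have hfinal := arith_final P _ bs _ e hP4' hσ he1 hcs hb4
  rw [mul_comm, htot, hbn0, mul_zero, add_zero]
  omega

end Cfsg.Agent.Lib.Helper25_MI2M_TSN
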