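import Mathlib
import Cfsg.Agent.Lib.Helper22_MI2Defs
import Cfsg.Agent.Lib.Helper22_MI2MDefs
import Cfsg.Agent.Lib.Helper14_POmegaSimple
import Cfsg.Agent.Lib.Helper22_MI2G_SubC
import Cfsg.Agent.Lib.Helper22_MI2_TSN

set_option autoImplicit false

/-!
MI2M-TSM (helper22's `q = 2` slice of S2147): explicit members of the orbit of a totally singular subspace `C`
through `lam ∈ C`.  helper47.

Choose `c₁ ∈ C ∖ ⟨lam⟩` and a singular `a ⟂ lam` with `B(a, c₁) = 1`; `C₀ := C ∩ a^⟂` is a hyperplane of `C`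
containing `lam`; for `b ∈ X := (C + ⟨a⟩)^⟂` the Siegel element `E(a,b)` lies in `Kstab Q lam`, and
`C.map E(a,b) = C.map E(a,b')` forces `b - b' ∈ C₀`; so `|X| ≤ |C₀| * #members`.
-/

namespace Cfsg.Agent.Lib.Helper47_MI2M_TSM

open Module Cfsg.Agent.Lib.Helper14_OmegaSimple Cfsg.Agent.Lib.Helper22_MI2Defs
  Cfsg.Agent.Lib.Helper22_MI2MDefs

variable {F V : Type*} [Field F] [AddCommGroup V] [Module F V]

theorem pow_le_through_ts [Finite F] [FiniteDimensional F V] (Q : QuadraticForm F V) {k : ℕ}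
    (hS : Sett Q k) (hk : 3 ≤ k) {lam : V} (hlam : lam ≠ 0) (C : Submodule F V)
    (hlC : lam ∈ C) (hts : ∀ x ∈ C, Q x = 0) (h2 : 2 ≤ finrank F C) :
    2 ^ (2 * k) ≤ 2 ^ (2 * finrank F C) * {C' | C' ∈ subOrbit Q C ∧ lam ∈ C'}.ncard := by
  classical
  have hVfin : Finite V := Module.finite_of_finite F
  have hnd := hS.nondeg
  have hdim5 : 5 ≤ finrank F V := by rw [hS.dim]; omega
  have hcardF : Nat.card F = 2 := Cfsg.Agent.Lib.Helper22_MI2_TSN.card_F hS.f2
  have hdk : 2 * finrank F C ≤ 2 * k := by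
    have := Cfsg.Agent.Lib.Helper22_MI2_SubC.finrank_le_of_ts Q hnd C hts
    rw [hS.dim] at this
    exact this
  have hiso : ∀ x ∈ C, ∀ y ∈ C, QuadraticMap.polar (⇑Q) x y = 0 := fun x hx y hy =>
    Cfsg.Agent.Lib.Helper22_MI2_SubC.polar_eq_zero_of_ts Q C hts hx hy
  -- `c₁ ∈ C ∖ ⟨lam⟩`
  obtain ⟨c₁, hc₁C, hc₁⟩ : ∃ c₁ ∈ C, c₁ ∉ Submodule.span F {lam} := by
    by_contra hcon
    push Not at hcon
    have hle : C ≤ Submodule.span F {lam} := fun x hx => hcon x hx
    have := Submodule.finrank_mono hle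
    rw [finrank_span_singleton hlam] at this
    omega
  -- `a` singular, `lam ⟂ a`, `B(a, c₁) = 1`
  obtain ⟨a, ha, hla, hac⟩ := Cfsg.Agent.Lib.Helper14_Siegel.exists_singular_orth_polar Q hnd hdim5
    hlam (hts lam hlC) (hiso lam hlC c₁ hc₁C) hc₁ 1
  have hca : QuadraticMap.polar (⇑Q) c₁ a = 1 := by rw [QuadraticMap.polar_comm]; exact hac
  have haa : QuadraticMap.polar (⇑Q) a a = 0 := by
    rw [Cfsg.Agent.Lib.Helper44_QuadClass.polar_self', ha, mul_zero]
  -- the hyperplane `C₀ = C ∩ a^⟂`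
  set C₀ : Submodule F V := C ⊓ LinearMap.ker (QuadraticMap.polarBilin Q a) with hC₀
  have hmemC₀ : ∀ x : V, x ∈ C₀ ↔ x ∈ C ∧ QuadraticMap.polar (⇑Q) a x = 0 := by
    intro x
    rw [hC₀, Submodule.mem_inf, LinearMap.mem_ker, QuadraticMap.polarBilin_apply_apply]
  have hC₀lt : C₀ < C := by
    refine lt_of_le_of_ne inf_le_left ?_
    intro h
    have : c₁ ∈ C₀ := by rw [h]; exact hc₁C
    rw [hmemC₀, hac] at this
    exact one_ne_zero this.2
  have hC₀card : Nat.card C₀ ≤ 2 ^ (finrank F C - 1) := by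
    rw [Module.natCard_eq_pow_finrank (K := F), hcardF]
    apply Nat.pow_le_pow_right (by norm_num)
    have := Submodule.finrank_lt_finrank_of_lt hC₀lt
    omega
  -- the parameter space `X = (C + ⟨a⟩)^⟂`
  set X : Submodule F V :=
    LinearMap.BilinForm.orthogonal (QuadraticMap.polarBilin Q) (C ⊔ Submodule.span F {a}) with hX
  have hXC : ∀ b ∈ X, ∀ x ∈ C, QuadraticMap.polar (⇑Q) x b = 0 := by
    intro b hb x hx
    rw [hX, LinearMap.BilinForm.mem_orthogonal_iff] at hb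
    have := hb x (Submodule.mem_sup_left hx)
    rw [QuadraticMap.polarBilin_apply_apply] at this
    exact this
  have hXa : ∀ b ∈ X, QuadraticMap.polar (⇑Q) a b = 0 := by
    intro b hb
    rw [hX, LinearMap.BilinForm.mem_orthogonal_iff] at hb
    have := hb a (Submodule.mem_sup_right (Submodule.mem_span_singleton_self a))
    rw [QuadraticMap.polarBilin_apply_apply] at this
    exact this
  have hXcard : 2 ^ (2 * k - finrank F C - 1) ≤ Nat.card X := by
    rw [Module.natCard_eq_pow_finrank (K := F), hcardF]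
    apply Nat.pow_le_pow_right (by norm_num)
    have h1 := LinearMap.BilinForm.finrank_orthogonal hnd (C ⊔ Submodule.span F {a})
    have h3 : finrank F ↥(C ⊔ Submodule.span F {a}) ≤ finrank F C + 1 := by
      have h4 := Submodule.finrank_add_le_finrank_add_finrank C (Submodule.span F {a})
      have h5 : finrank F ↥(Submodule.span F {a}) ≤ 1 := by
        have := finrank_span_le_card (R := F) ({a} : Set V)
        simpa using this
      omega
    rw [← hX, hS.dim] at h1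
    omega
  -- the map `b ↦ C.map E(a,b)`
  let φ : X → Submodule F V := fun b => C.map ((E Q a (b : V) : V ≃ₗ[F] V) : V →ₗ[F] V)
  have hC : C ∈ {C' | C' ∈ subOrbit Q C ∧ lam ∈ C'} :=
    ⟨Cfsg.Agent.Lib.Helper22_MI2_Sub.self_mem_subOrbit Q C, hlC⟩
  have hφmem : ∀ b : X, φ b ∈ {C' | C' ∈ subOrbit Q C ∧ lam ∈ C'} := by
    intro b
    apply Cfsg.Agent.Lib.Helper22_MI2G_SubC.through_map Q hS hk C hC
    apply Subgroup.subset_closure
    exact ⟨a, (b : V), ha, hXa b b.2, hla, hXC b b.2 lam hlC, rfl⟩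
  -- the action of `E(a,b)` on `C`
  have hEC : ∀ b ∈ X, ∀ x ∈ C, E Q a b x =
      x + QuadraticMap.polar (⇑Q) x a • b - (Q b * QuadraticMap.polar (⇑Q) x a) • a := by
    intro b hb x hx
    rw [E_apply Q ha (hXa b hb), hXC b hb x hx, zero_smul, sub_zero]
  -- the fibres
  have hφfib : ∀ b b' : X, φ b = φ b' → (b : V) - (b' : V) ∈ C₀ := by
    intro b b' hbb
    have h1 : E Q a (b : V) c₁ ∈ φ b' := by
      rw [← hbb]
      exact Submodule.mem_map_of_mem hc₁C
    obtain ⟨x', hx'C, hx'⟩ := Submodule.mem_map.1 h1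
    have hx'' : E Q a (b' : V) x' = E Q a (b : V) c₁ := hx'
    rw [hEC b' b'.2 x' hx'C, hEC b b.2 c₁ hc₁C, hca, mul_one, one_smul] at hx''
    -- pair with `a`
    have hβ : QuadraticMap.polar (⇑Q) x' a = 1 := by
      have h3 := congrArg (fun z => QuadraticMap.polarBilin Q a z) hx''
      simp only [map_add, map_sub, map_smul, QuadraticMap.polarBilin_apply_apply, smul_eq_mul,
        hXa b b.2, hXa b' b'.2, haa, hac, mul_zero, add_zero, sub_zero] at h3
      rw [QuadraticMap.polar_comm]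
      exact h3
    rw [hβ, mul_one, one_smul] at hx''
    -- pair with `c₁`
    have hQ : Q (b' : V) = Q (b : V) := by
      have h3 := congrArg (fun z => QuadraticMap.polarBilin Q c₁ z) hx''
      simp only [map_add, map_sub, map_smul, QuadraticMap.polarBilin_apply_apply, smul_eq_mul,
        hXC b b.2 c₁ hc₁C, hXC b' b'.2 c₁ hc₁C, hiso c₁ hc₁C x' hx'C, hiso c₁ hc₁C c₁ hc₁C, hca,
        mul_one, add_zero, zero_sub] at h3
      exact neg_injective h3
    rw [hQ] at hx''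
    have hdiff : (b : V) - (b' : V) = x' - c₁ := by
      have h4 : x' + (b' : V) = c₁ + (b : V) := sub_left_injective hx''
      rw [sub_eq_sub_iff_add_eq_add, add_comm, ← h4, add_comm]
    rw [hmemC₀]
    refine ⟨?_, ?_⟩
    · rw [hdiff]
      exact C.sub_mem hx'C hc₁C
    · rw [QuadraticMap.polar_sub_right, hXa b b.2, hXa b' b'.2, sub_zero]
  -- counting: `|X| ≤ |C₀| * #range φ`
  have hrep : ∀ y : Set.range φ, ∃ b : X, φ b = y.1 := fun y => y.2
  choose rep hrepφ using hrep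
  have hcount : Nat.card X ≤ Nat.card C₀ * Nat.card (Set.range φ) := by
    rw [← Nat.card_prod]
    apply Nat.card_le_card_of_injective
      (fun b : X => ((⟨(b : V) - (rep ⟨φ b, b, rfl⟩ : V),
        hφfib b (rep ⟨φ b, b, rfl⟩) (hrepφ ⟨φ b, b, rfl⟩).symm⟩ : C₀),
        (⟨φ b, b, rfl⟩ : Set.range φ)))
    intro b b' hbb
    have h1 := congrArg Prod.snd hbb
    have h2 := congrArg Prod.fst hbb
    simp only at h1 h2
    have h3 : (b : V) - (rep ⟨φ b, b, rfl⟩ : V) = (b' : V) - (rep ⟨φ b', b', rfl⟩ : V) :=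
      congrArg Subtype.val h2
    rw [h1] at h3
    exact Subtype.ext (sub_left_injective h3)
  have hrange : Nat.card (Set.range φ) ≤ {C' | C' ∈ subOrbit Q C ∧ lam ∈ C'}.ncard := by
    have hsub : Set.range φ ⊆ {C' | C' ∈ subOrbit Q C ∧ lam ∈ C'} := by
      rintro _ ⟨b, rfl⟩
      exact hφmem b
    have := Set.ncard_le_ncard hsub (Set.toFinite _)
    exact this
  -- arithmetic
  set d := finrank F C with hd
  set N := {C' | C' ∈ subOrbit Q C ∧ lam ∈ C'}.ncard with hN
  have h5 : 2 ^ (2 * k - d - 1) ≤ 2 ^ (d - 1) * N := by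
    calc 2 ^ (2 * k - d - 1) ≤ Nat.card X := hXcard
      _ ≤ Nat.card C₀ * Nat.card (Set.range φ) := hcount
      _ ≤ 2 ^ (d - 1) * N := Nat.mul_le_mul hC₀card hrange
  have e1 : 2 ^ (2 * k) = 2 ^ (2 * k - d - 1) * 2 ^ (d + 1) := by
    rw [← pow_add]
    congr 1
    omega
  have e2 : 2 ^ (2 * d) = 2 ^ (d - 1) * 2 ^ (d + 1) := by
    rw [← pow_add]
    congr 1
    omega
  rw [e1, e2]
  calc 2 ^ (2 * k - d - 1) * 2 ^ (d + 1) ≤ 2 ^ (d - 1) * N * 2 ^ (d + 1) :=
        Nat.mul_le_mul_right _ h5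
    _ = 2 ^ (d - 1) * 2 ^ (d + 1) * N := by ring

end Cfsg.Agent.Lib.Helper47_MI2M_TSM
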