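import Mathlib
import Cfsg.Agent.Lib.Helper22_MI2Defs
import Cfsg.Agent.Lib.Helper22_MI2MDefs
import Cfsg.Agent.Lib.Helper14_POmegaSimple
import Cfsg.Agent.Lib.Helper22_MI2_SubC
import Cfsg.Agent.Lib.Helper58_MI2_ANI
import Cfsg.Agent.Lib.Helper22_MI2G_SUBIII
import Cfsg.Agent.Lib.Helper22_MI2G_SUBCNT

set_option autoImplicit false
set_option linter.unusedVariables false
set_option linter.unusedSimpArgs false
set_option linter.unusedSectionVars false

/-!
# MI2M (the `q = 2` slice of S2147, architect helper22), package MI2M-ANI: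
the orbit bound for an anisotropic subspace, type-free.  Copy of `Helper58_MI2_ANI.sub_bound_aniso` (helper58)
with `GSetting`/`ν` for `PlusSetting`/`Nmin k`, stopping before the plus-type numerics.
-/

namespace Cfsg.Agent.Lib.Helper70_MI2M_ANI

open Module Cfsg.Agent.Lib.Helper14_OmegaSimple Cfsg.Agent.Lib.Helper22_MI2Defs
  Cfsg.Agent.Lib.Helper22_MI2MDefs

variable {F V : Type*} [Field F] [AddCommGroup V] [Module F V]

theorem sub_bound_aniso_G [Finite F] [FiniteDimensional F V] (Q : QuadraticForm F V) {k ν : ℕ}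
    (hS : GSetting Q k ν) (hk : 3 ≤ k) (C : Submodule F V) (h2 : 2 ≤ finrank F C)
    (ha : ∀ x ∈ C, Q x = 0 → x = 0) :
    16 * ν ≤ 3 * (Nat.card C * (subOrbit Q C).ncard) := by
  classical
  have hfr : finrank F C = 2 := le_antisymm (Cfsg.Agent.Lib.Helper58_MI2_ANI.finrank_le_two_of_aniso Q C ha) h2
  have hF2 : Nat.card F = 2 := Cfsg.Agent.Lib.Helper42_MI2_SCNT.card_field_eq_two hS.f2
  have h20 : (2 : F) = 0 := Cfsg.Agent.Lib.Helper54_MI2_Orb.two_eq_zero hS.f2
  have hcardC : Nat.card C = 4 := by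
    rw [Module.natCard_eq_pow_finrank (K := F) (V := C), hF2, hfr]
    norm_num
  -- nonsingular elements of `C`
  have hns : Nat.card {x : C // Q x ≠ 0} = 3 := by
    have hfin : Finite C := Nat.finite_of_card_ne_zero (by omega)
    have e : {x : C // Q x ≠ 0} ≃ {x : C // x ≠ 0} :=
      Equiv.subtypeEquivRight (fun x => by
        constructor
        · intro h h0
          apply h
          rw [h0]
          simp
        · intro h h0
          apply h
          exact Subtype.ext (ha (x : V) x.2 h0))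
    rw [Nat.card_congr e]
    have := Nat.card_congr (Equiv.sumCompl (fun x : C => x = 0))
    rw [Nat.card_sum, Nat.card_unique] at this
    have h4 : Nat.card {x : C // ¬ x = 0} = Nat.card {x : C // x ≠ 0} := rfl
    omega
  -- a basis `lam, mu`
  have hnt : Nontrivial C := Module.nontrivial_of_finrank_pos (R := F) (by omega)
  obtain ⟨lam', hlam'⟩ := exists_ne (0 : C)
  obtain ⟨lam, hlC⟩ : ∃ lam : V, lam ∈ C ∧ lam ≠ 0 := ⟨lam', lam'.2, fun h => hlam' (Subtype.ext h)⟩
  obtain ⟨hlC, hlam⟩ := hlC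
  have hspan1 : Submodule.span F {lam} ≤ C := by
    rw [Submodule.span_le]
    intro x hx
    rw [Set.mem_singleton_iff] at hx
    rw [hx]
    exact hlC
  have hex : ∃ mu ∈ C, mu ∉ Submodule.span F {lam} := by
    by_contra hcon
    push Not at hcon
    have hle : C ≤ Submodule.span F {lam} := fun x hx => hcon x hx
    have := Submodule.finrank_mono hle
    rw [finrank_span_singleton hlam] at this
    omega
  obtain ⟨mu, hmC, hmu⟩ := hex
  have hspan2 : Submodule.span F {lam, mu} ≤ C := by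
    rw [Submodule.span_le]
    intro x hx
    rcases hx with rfl | rfl
    · exact hlC
    · exact hmC
  have hlt : Submodule.span F {lam} < Submodule.span F {lam, mu} := by
    refine lt_of_le_of_ne (Submodule.span_mono (by simp)) ?_
    intro h
    apply hmu
    rw [h]
    exact Submodule.subset_span (by simp)
  have hCeq : Submodule.span F {lam, mu} = C := by
    apply Submodule.eq_of_le_of_finrank_le hspan2
    have := Submodule.finrank_lt_finrank_of_lt hlt
    rw [finrank_span_singleton hlam] at this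
    omega
  have hmu0 : mu ≠ 0 := by
    intro h
    apply hmu
    rw [h]
    exact Submodule.zero_mem _
  have hQl : Q lam ≠ 0 := fun h => hlam (ha lam hlC h)
  have hQm : Q mu ≠ 0 := fun h => hmu0 (ha mu hmC h)
  have hlm0 : lam + mu ≠ 0 := by
    intro h
    apply hmu
    have : mu = (-1 : F) • lam := by
      rw [neg_one_smul]
      exact eq_neg_of_add_eq_zero_right h
    rw [this]
    exact Submodule.smul_mem _ _ (Submodule.mem_span_singleton_self lam)
  have hQlm : Q (lam + mu) ≠ 0 := fun h => hlm0 (ha _ (C.add_mem hlC hmC) h)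
  have hpol : QuadraticMap.polar (⇑Q) lam mu ≠ 0 := by
    intro h
    apply hQlm
    have e := QuadraticMap.map_add Q lam mu
    rw [h, add_zero, Cfsg.Agent.Lib.Helper54_MI2_Orb.eq_one_of_ne_zero hS.f2 hQl,
      Cfsg.Agent.Lib.Helper54_MI2_Orb.eq_one_of_ne_zero hS.f2 hQm] at e
    rw [e]
    have : (1 : F) + 1 = 2 := by norm_num
    rw [this, h20]
  -- four images
  obtain ⟨f, hfK, hfinj⟩ :=
    Cfsg.Agent.Lib.Helper22_MI2G_SUBIII.four_images_aniso Q hS.toSett hk hQl hQm hpol
  rw [hCeq] at hfinj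
  have hdim5 : 5 ≤ finrank F V := by rw [hS.dim]; omega
  have hsub : Set.range (fun i => C.map ((f i : V ≃ₗ[F] V) : V →ₗ[F] V)) ⊆
      {C' | C' ∈ subOrbit Q C ∧ lam ∈ C'} := by
    rintro _ ⟨i, rfl⟩
    refine ⟨Cfsg.Agent.Lib.Helper22_MI2_Sub.map_mem_subOrbit Q C
      (Cfsg.Agent.Lib.Helper22_MI2_Sub.self_mem_subOrbit Q C)
      (Cfsg.Agent.Lib.Helper22_MI2_Sub.Kstab_le_T Q hS.nondeg hdim5 lam (hfK i)), ?_⟩
    rw [Submodule.mem_map]
    exact ⟨lam, hlC, Cfsg.Agent.Lib.Helper22_MI2_Sub.Kstab_fix Q lam (hfK i)⟩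
  have h4 : 4 ≤ {C' | C' ∈ subOrbit Q C ∧ lam ∈ C'}.ncard := by
    have h1 := Set.ncard_le_ncard hsub (Set.toFinite _)
    rw [← Set.image_univ, Set.ncard_image_of_injective _ hfinj, Set.ncard_univ] at h1
    simpa using h1
  -- counting
  obtain ⟨-, bs, bn, -, hbn, -, hcount, -⟩ :=
    Cfsg.Agent.Lib.Helper22_MI2G_SUBCNT.orbit_count Q hS hk C
  rw [hbn lam hQl] at h4
  rw [hns] at hcount
  rw [hcardC]
  set n := (subOrbit Q C).ncard
  have h5 : 4 * ν ≤ n * 3 := by
    rw [hcount]
    calc 4 * ν = ν * 4 := by ring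
      _ ≤ ν * bn := Nat.mul_le_mul_left ν h4
  calc 16 * ν = 4 * (4 * ν) := by ring
    _ ≤ 4 * (n * 3) := Nat.mul_le_mul_left 4 h5
    _ = 3 * (4 * n) := by ring

end Cfsg.Agent.Lib.Helper70_MI2M_ANI
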