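import Mathlib
import Cfsg.Agent.Lib.Helper22_MI2Defs
import Cfsg.Agent.Lib.Helper22_MI2_SubC
import Cfsg.Agent.Lib.Helper54_MI2_HYPORB

set_option autoImplicit false

/-!
MI2-SUBS (helper22's S2146 market, second wave): from the `C`-form (`C = S^⟂`) to the `S`-form of
the orbit bound.
-/

namespace Cfsg.Agent.Lib.Helper3_MI2_SUBS

open Module Cfsg.Agent.Lib.Helper14_OmegaSimple Cfsg.Agent.Lib.Helper22_MI2Defs

variable {F V : Type*} [Field F] [AddCommGroup V] [Module F V]

/-- The field has exactly two elements. -/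
theorem card_F_eq_two (hf2 : ∀ c : F, c = 0 ∨ c = 1) : Nat.card F = 2 := by
  classical
  have hfin : Finite F := by
    refine Finite.of_injective (fun c : F => (if c = 0 then (0 : Fin 2) else 1)) ?_
    intro a b hab
    rcases hf2 a with ha | ha <;> rcases hf2 b with hb | hb
    · rw [ha, hb]
    · exfalso; simp [ha, hb] at hab
    · exfalso; simp [ha, hb] at hab
    · rw [ha, hb]
  have := Fintype.ofFinite F
  rw [Nat.card_eq_fintype_card]
  have huniv : (Finset.univ : Finset F) = {0, 1} := by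
    ext c
    rcases hf2 c with h | h <;> simp [h]
  rw [← Finset.card_univ, huniv]
  exact Finset.card_pair zero_ne_one

theorem card_sub_eq [Finite F] [FiniteDimensional F V] (hf2 : ∀ c : F, c = 0 ∨ c = 1)
    (W : Submodule F V) : Nat.card W = 2 ^ finrank F W := by
  rw [Module.natCard_eq_pow_finrank (K := F) (V := W), card_F_eq_two hf2]

theorem card_quot_eq [Finite F] [FiniteDimensional F V] (hf2 : ∀ c : F, c = 0 ∨ c = 1)
    (W : Submodule F V) : Nat.card (V ⧸ W) = 2 ^ finrank F (V ⧸ W) := by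
  rw [Module.natCard_eq_pow_finrank (K := F) (V := V ⧸ W), card_F_eq_two hf2]

theorem sub_bound_of_C [Finite F] [FiniteDimensional F V] (Q : QuadraticForm F V) {k : ℕ}
    (hS : PlusSetting Q k) (hk : 3 ≤ k)
    (hC : ∀ C : Submodule F V, 2 ≤ finrank F C → finrank F C + 2 ≤ 2 * k →
      Nmin (k + 1) ≤ Nat.card C * (subOrbit Q C).ncard)
    (S : Submodule F V) (h1 : 1 ≤ finrank F S) (h2 : finrank F S + 2 ≤ 2 * k) :
    Nmin (k + 1) ≤ Nat.card (V ⧸ S) * (subOrbit Q S).ncard := by
  have hq := Submodule.finrank_quotient_add_finrank S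
  rw [hS.dim] at hq
  have hcardq : Nat.card (V ⧸ S) = 2 ^ finrank F (V ⧸ S) := card_quot_eq hS.f2 S
  by_cases hone : finrank F S = 1
  · -- point case
    have hn := Cfsg.Agent.Lib.Helper54_MI2_HYPORB.point_hyperplane_orbit Q hS hk S (Or.inl hone)
    obtain ⟨P, hP4, hP1, hP2, hP3, hP5⟩ := Cfsg.Agent.Lib.Helper22_MI2_SubC.nums k hk
    have hfq : finrank F (V ⧸ S) = 2 * k - 1 := by omega
    have hpow : 2 * 2 ^ (2 * k - 1) = 2 ^ (2 * k) := by
      have : 2 * k = (2 * k - 1) + 1 := by omega
      conv_rhs => rw [this, pow_succ]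
      ring
    have hcard : Nat.card (V ⧸ S) = 2 * (P * P) := by
      rw [hcardq, hfq]; omega
    rw [hcard]
    calc Nmin (k + 1) ≤ 2 * (P * P) * Nmin k := by
          have hNk : Nmin k = 2 * (P * P) - P := by omega
          have hPP : P ≤ P * P := by nlinarith
          have hNk1 : 4 * P ≤ Nmin k := by
            rw [hNk]
            have : 4 * P ≤ P * P := by nlinarith
            omega
          have : 8 * (P * P) ≤ 2 * (P * P) * Nmin k := by nlinarith
          omega
      _ ≤ 2 * (P * P) * (subOrbit Q S).ncard := Nat.mul_le_mul_left _ hn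
  · -- general case: pass to the orthogonal complement
    have hS2 : 2 ≤ finrank F S := by omega
    obtain ⟨C, hCdef⟩ : ∃ C, C = LinearMap.BilinForm.orthogonal (QuadraticMap.polarBilin Q) S :=
      ⟨_, rfl⟩
    have hfC : finrank F C = 2 * k - finrank F S := by
      rw [hCdef, LinearMap.BilinForm.finrank_orthogonal hS.nondeg, hS.dim]
    have hfq : finrank F (V ⧸ S) = finrank F C := by omega
    have hcardC : Nat.card C = Nat.card (V ⧸ S) := by
      rw [hcardq, card_sub_eq hS.f2 C, hfq]
    have hsub : subOrbit Q C ⊆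
        (fun W => LinearMap.BilinForm.orthogonal (QuadraticMap.polarBilin Q) W) '' subOrbit Q S := by
      rintro C' ⟨g, hg, rfl⟩
      refine ⟨S.map (g : V →ₗ[F] V), ⟨g, hg, rfl⟩, ?_⟩
      show LinearMap.BilinForm.orthogonal (QuadraticMap.polarBilin Q) (S.map (g : V →ₗ[F] V)) = _
      rw [Cfsg.Agent.Lib.Helper54_MI2_HYPORB.orthogonal_map Q hg S, hCdef]
    have hfinS : (subOrbit Q S).Finite := Set.toFinite _
    have hle : (subOrbit Q C).ncard ≤ (subOrbit Q S).ncard :=
      le_trans (Set.ncard_le_ncard hsub (hfinS.image _)) (Set.ncard_image_le hfinS)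
    have hmain := hC C (by omega) (by omega)
    calc Nmin (k + 1) ≤ Nat.card C * (subOrbit Q C).ncard := hmain
      _ = Nat.card (V ⧸ S) * (subOrbit Q C).ncard := by rw [hcardC]
      _ ≤ Nat.card (V ⧸ S) * (subOrbit Q S).ncard := Nat.mul_le_mul_left _ hle

end Cfsg.Agent.Lib.Helper3_MI2_SUBS
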