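import Mathlib
import Cfsg.Agent.Lib.Helper22_MI2Defs
import Cfsg.Agent.Lib.Helper22_MI2MDefs
import Cfsg.Agent.Lib.Helper14_POmegaSimple
import Cfsg.Agent.Lib.Helper3_MI2_SUBS
import Cfsg.Agent.Lib.Helper22_MI2G_HYPORB

set_option autoImplicit false

/-!
# MI2M (the `q = 2` slice of S2147, architect helper22), package MI2M-SUBS:
from the `C`-form (`C = S^⟂`) to the `S`-form of the orbit bound, type-free.  Copy of
`Helper3_MI2_SUBS.sub_bound_of_C` (helper3) with `GSetting`/`ν` and an abstract bound `N`.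
-/

namespace Cfsg.Agent.Lib.Helper70_MI2M_SUBS

open Module Cfsg.Agent.Lib.Helper14_OmegaSimple Cfsg.Agent.Lib.Helper22_MI2Defs
  Cfsg.Agent.Lib.Helper22_MI2MDefs
open Cfsg.Agent.Lib.Helper3_MI2_SUBS (card_F_eq_two card_sub_eq card_quot_eq)

variable {F V : Type*} [Field F] [AddCommGroup V] [Module F V]

theorem sub_bound_of_C_G [Finite F] [FiniteDimensional F V] (Q : QuadraticForm F V) {k ν : ℕ}
    (hS : GSetting Q k ν) (hk : 3 ≤ k) (N : ℕ)
    (hC : ∀ C : Submodule F V, 2 ≤ finrank F C → finrank F C + 2 ≤ 2 * k →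
      N ≤ Nat.card C * (subOrbit Q C).ncard)
    (n₀ : ℕ) (hn1 : n₀ ≤ Nat.card {x : V // x ≠ 0 ∧ Q x = 0}) (hn2 : n₀ ≤ ν)
    (hN : N ≤ 2 ^ (2 * k - 1) * n₀)
    (S : Submodule F V) (h1 : 1 ≤ finrank F S) (h2 : finrank F S + 2 ≤ 2 * k) :
    N ≤ Nat.card (V ⧸ S) * (subOrbit Q S).ncard := by
  have hq := Submodule.finrank_quotient_add_finrank S
  rw [hS.dim] at hq
  have hcardq : Nat.card (V ⧸ S) = 2 ^ finrank F (V ⧸ S) := card_quot_eq hS.f2 S
  by_cases hone : finrank F S = 1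
  · -- point case
    have hn := Cfsg.Agent.Lib.Helper22_MI2G_HYPORB.point_hyperplane_orbit Q hS hk S (Or.inl hone)
      n₀ hn1 hn2
    have hfq : finrank F (V ⧸ S) = 2 * k - 1 := by omega
    rw [hcardq, hfq]
    exact le_trans hN (Nat.mul_le_mul_left _ hn)
  · -- general case: pass to the orthogonal complement
    have hS2 : 2 ≤ finrank F S := by omega
    obtain ⟨C, hCdef⟩ : ∃ C, C = LinearMap.BilinForm.orthogonal (QuadraticMap.polarBilin Q) S :=
      ⟨_, rfl⟩
    have hfC : finrank F C = 2 * k - finrank F S := by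
      rw [hCdef, LinearMap.BilinForm.finrank_orthogonal hS.nondeg, hS.dim]
    have hfq : finrank F (V ⧸ S) = finrank F C := by omega
    have hcardC : Nat.card C = Nat.card (V ⧸ S) := by
      rw [hcardq, card_sub_eq hS.f2 C, hfq]
    have hsub : subOrbit Q C ⊆
        (fun W => LinearMap.BilinForm.orthogonal (QuadraticMap.polarBilin Q) W) '' subOrbit Q S := by
      rintro C' ⟨g, hg, rfl⟩
      refine ⟨S.map (g : V →ₗ[F] V), ⟨g, hg, rfl⟩, ?_⟩
      show LinearMap.BilinForm.orthogonal (QuadraticMap.polarBilin Q) (S.map (g : V →ₗ[F] V)) = _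
      rw [Cfsg.Agent.Lib.Helper22_MI2G_HYPORB.orthogonal_map Q hg S, hCdef]
    have hfinS : (subOrbit Q S).Finite := Set.toFinite _
    have hle : (subOrbit Q C).ncard ≤ (subOrbit Q S).ncard :=
      le_trans (Set.ncard_le_ncard hsub (hfinS.image _)) (Set.ncard_image_le hfinS)
    have hmain := hC C (by omega) (by omega)
    calc N ≤ Nat.card C * (subOrbit Q C).ncard := hmain
      _ = Nat.card (V ⧸ S) * (subOrbit Q C).ncard := by rw [hcardC]
      _ ≤ Nat.card (V ⧸ S) * (subOrbit Q S).ncard := Nat.mul_le_mul_left _ hle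

end Cfsg.Agent.Lib.Helper70_MI2M_SUBS
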