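import Mathlib
import Cfsg.Agent.Lib.Helper22_MI2Defs
import Cfsg.Agent.Lib.Helper22_MI2MDefs
import Cfsg.Agent.Lib.Helper22_MI2M_Mix
import Cfsg.Agent.Lib.Helper22_MI2G_SCNT
import Cfsg.Agent.Lib.Helper47_MI2M_TSM
import Cfsg.Agent.Lib.Helper70_MI2M_ANI
import Cfsg.Agent.Lib.Helper25_MI2M_TSN
import Cfsg.Agent.Lib.Helper70_MI2M_SUBS

set_option autoImplicit false

/-!
S2147, q = 2 slice (helper22): for a minus-type quadratic space `V` of dimension `2k ≥ 6` over the field with two elements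
and a subspace `S` with `1 ≤ dim S ≤ 2k - 2`: `|V / S| * |orbit of S under T Q| ≥ Smin (k + 1)`.
Glue of the packages MI2M-TSM, ANI, TSN, SUBS and `Helper22_MI2M_Mix`.
-/

namespace Cfsg.Agent.Lib.Helper22_MI2M_SubBound

open Module Cfsg.Agent.Lib.Helper14_OmegaSimple Cfsg.Agent.Lib.Helper22_MI2Defs
  Cfsg.Agent.Lib.Helper22_MI2MDefs

variable {F V : Type*} [Field F] [AddCommGroup V] [Module F V]


/-- the bound in the `C`-form. -/
theorem sub_bound_C_M [Finite F] [FiniteDimensional F V] (Q : QuadraticForm F V) {k : ℕ}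
    (hS : GSetting Q k (Mmin k)) (hk : 3 ≤ k) (C : Submodule F V) (h2 : 2 ≤ finrank F C)
    (h2' : finrank F C + 2 ≤ 2 * k) :
    Smin (k + 1) ≤ Nat.card C * (subOrbit Q C).ncard := by
  obtain ⟨P, hP, hP2, hP4, hPM, hPS, hPS1, hPM1⟩ := numsM k (by omega)
  by_cases hts : ∀ x ∈ C, Q x = 0
  · exact Cfsg.Agent.Lib.Helper25_MI2M_TSN.sub_bound_ts_M Q hS hk C h2 hts
      (fun lam hl hl0 => Cfsg.Agent.Lib.Helper47_MI2M_TSM.pow_le_through_ts Q hS.toSett hk hl0 C hl hts h2)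
  · by_cases ha : ∀ x ∈ C, Q x = 0 → x = 0
    · have h := Cfsg.Agent.Lib.Helper70_MI2M_ANI.sub_bound_aniso_G Q hS hk C h2 ha
      omega
    · push Not at hts ha
      obtain ⟨y, hy, hQy⟩ := hts
      obtain ⟨x, hx, hQx, hx0⟩ := ha
      have h := Cfsg.Agent.Lib.Helper22_MI2M_Mix.sub_bound_mixed_G Q hS hk C h2 h2'
        ⟨x, hx, hx0, hQx⟩ ⟨y, hy, hQy⟩
      have e : 2 ^ (2 * k + 1) = 2 * 2 ^ (2 * k) := by ring
      omega

/-- the bound in the `S`-form. -/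
theorem sub_bound_M [Finite F] [FiniteDimensional F V] (Q : QuadraticForm F V) {k : ℕ}
    (hS : GSetting Q k (Mmin k)) (hk : 3 ≤ k) (S : Submodule F V) (h1 : 1 ≤ finrank F S)
    (h2 : finrank F S + 2 ≤ 2 * k) :
    Smin (k + 1) ≤ Nat.card (V ⧸ S) * (subOrbit Q S).ncard := by
  obtain ⟨P, hP, hP2, hP4, hPM, hPS, hPS1, hPM1⟩ := numsM k (by omega)
  have hP4le : 4 ≤ P := by
    rw [hP]
    calc 4 = 2 ^ 2 := by norm_num
      _ ≤ 2 ^ (k - 1) := Nat.pow_le_pow_right (by norm_num) (by omega)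
  have hPP : 4 * P ≤ P * P := Nat.mul_le_mul_right P hP4le
  have hσ : Nat.card {x : V // x ≠ 0 ∧ Q x = 0} = Smin k := by
    have := (Cfsg.Agent.Lib.Helper22_MI2G_SCNT.card_singular Q hS).2
    omega
  refine Cfsg.Agent.Lib.Helper70_MI2M_SUBS.sub_bound_of_C_G Q hS hk (Smin (k + 1)) (sub_bound_C_M Q hS hk) (Smin k)
    (by rw [hσ]) (by omega) ?_ S h1 h2
  have e : 2 ^ (2 * k - 1) * 4 = 2 * 2 ^ (2 * k) := by
    obtain ⟨j, rfl⟩ : ∃ j, k = j + 1 := ⟨k - 1, by omega⟩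
    have : 2 * (j + 1) - 1 = 2 * j + 1 := by omega
    rw [this]
    ring
  calc Smin (k + 1) ≤ 2 ^ (2 * k - 1) * 4 := by omega
    _ ≤ 2 ^ (2 * k - 1) * Smin k := Nat.mul_le_mul_left _ (by omega)

end Cfsg.Agent.Lib.Helper22_MI2M_SubBound
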