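import Mathlib
import Cfsg.Agent.Lib.Helper22_MI2Defs
import Cfsg.Agent.Lib.Helper22_MI2_SubC
import Cfsg.Agent.Lib.Helper54_MI2_Orb

set_option autoImplicit false

namespace Cfsg.Agent.Lib.Helper22_MI2_TSB

open Module Cfsg.Agent.Lib.Helper14_OmegaSimple Cfsg.Agent.Lib.Helper22_MI2Defs
  Cfsg.Agent.Lib.Helper22_MI2_Sub Cfsg.Agent.Lib.Helper22_MI2_SubC

variable {F V : Type*} [Field F] [AddCommGroup V] [Module F V]

theorem three_le_through_ts [Finite F] [FiniteDimensional F V] (Q : QuadraticForm F V) {k : ℕ}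
    (hS : PlusSetting Q k) (hk : 3 ≤ k) {lam : V} (hlam : lam ≠ 0) (C : Submodule F V)
    (hlC : lam ∈ C) (hts : ∀ x ∈ C, Q x = 0) (h2 : 2 ≤ finrank F C) :
    3 ≤ {C' | C' ∈ subOrbit Q C ∧ lam ∈ C'}.ncard := by
  by_contra hlt
  push Not at hlt
  have hQl : Q lam = 0 := hts lam hlC
  obtain ⟨g, hg, hg3, hne⟩ :=
    Cfsg.Agent.Lib.Helper73_MI2_ROT.exists_rotation_moving Q hS hk hlam hQl C hlC hts h2
  have hC : C ∈ {C' | C' ∈ subOrbit Q C ∧ lam ∈ C'} := ⟨self_mem_subOrbit Q C, hlC⟩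
  apply hne
  refine fix_of_pow_three {C' | C' ∈ subOrbit Q C ∧ lam ∈ C'} (Set.toFinite _) (by omega)
    (fun C' => C'.map (g : V →ₗ[F] V)) ?_ ?_ ?_ hC
  · intro a ha
    exact through_map Q hS hk C ha hg
  · intro a _ b _ hab
    exact Cfsg.Agent.Lib.Helper54_MI2_Orb.map_injective g hab
  · intro a _
    show ((a.map (g : V →ₗ[F] V)).map (g : V →ₗ[F] V)).map (g : V →ₗ[F] V) = a
    rw [← Cfsg.Agent.Lib.Helper54_MI2_Orb.map_mul', ← Cfsg.Agent.Lib.Helper54_MI2_Orb.map_mul']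
    have : g * g * g = 1 := by rw [← hg3, pow_succ, pow_two]
    rw [this, Cfsg.Agent.Lib.Helper54_MI2_Orb.map_one']

end Cfsg.Agent.Lib.Helper22_MI2_TSB
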