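import Mathlib
import Cfsg.Agent.Lib.Helper22_MI2Defs
import Cfsg.Agent.Lib.Helper22_MI2_SubC

set_option autoImplicit false
set_option linter.unusedVariables false
set_option linter.unusedSimpArgs false
set_option linter.unusedSectionVars false

/-!
# S2146 (MI2, architect helper22), second wave, package MI2-TSA:
for `k ≥ 4` at least four members of the orbit of a totally singular `C` pass through `lam ∈ C`.
-/

namespace Cfsg.Agent.Lib.Helper58_MI2_TSA

open Module Cfsg.Agent.Lib.Helper14_OmegaSimple Cfsg.Agent.Lib.Helper22_MI2Defs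

variable {F V : Type*} [Field F] [AddCommGroup V] [Module F V]

/-- a subgroup equal to its own commutator subgroup is perfect as a group -/
theorem commutator_subtype_eq_top {G : Type*} [Group G] (K : Subgroup G) (h : ⁅K, K⁆ = K) :
    commutator ↥K = ⊤ := by
  apply Subgroup.map_injective K.subtype_injective
  rw [Subgroup.map_subtype_commutator, h, ← MonoidHom.range_eq_map, Subgroup.range_subtype]

theorem four_le_through_ts [Finite F] [FiniteDimensional F V] (Q : QuadraticForm F V) {k : ℕ}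
    (hS : PlusSetting Q k) (hk : 4 ≤ k) {lam : V} (hlam : lam ≠ 0) (C : Submodule F V)
    (hlC : lam ∈ C) (hts : ∀ x ∈ C, Q x = 0) (h2 : 2 ≤ finrank F C) :
    4 ≤ {C' | C' ∈ subOrbit Q C ∧ lam ∈ C'}.ncard := by
  classical
  have hk3 : 3 ≤ k := by omega
  by_contra hcon
  push Not at hcon
  set Y : Set (Submodule F V) := {C' | C' ∈ subOrbit Q C ∧ lam ∈ C'} with hY
  have hCY : C ∈ Y := ⟨Cfsg.Agent.Lib.Helper22_MI2_Sub.self_mem_subOrbit Q C, hlC⟩
  -- the action of `Kstab Q lam` on `Y`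
  let _ : MulAction ↥(Kstab Q lam) ↥Y :=
    { smul := fun g y => ⟨(y : Submodule F V).map ((g : V ≃ₗ[F] V) : V →ₗ[F] V),
        Cfsg.Agent.Lib.Helper22_MI2_SubC.through_map Q hS hk3 C y.2 g.2⟩
      one_smul := by
        intro y
        apply Subtype.ext
        show (y : Submodule F V).map (((1 : ↥(Kstab Q lam)) : V ≃ₗ[F] V) : V →ₗ[F] V) = y
        exact Submodule.map_id _
      mul_smul := by
        intro g h y
        apply Subtype.ext
        show (y : Submodule F V).map (((g * h : ↥(Kstab Q lam)) : V ≃ₗ[F] V) : V →ₗ[F] V) =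
          ((y : Submodule F V).map ((h : V ≃ₗ[F] V) : V →ₗ[F] V)).map
            ((g : V ≃ₗ[F] V) : V →ₗ[F] V)
        rw [← Submodule.map_comp]
        rfl }
  have hsmul : ∀ (g : ↥(Kstab Q lam)) (y : ↥Y),
      ((g • y : ↥Y) : Submodule F V) = (y : Submodule F V).map ((g : V ≃ₗ[F] V) : V →ₗ[F] V) :=
    fun g y => rfl
  have hperf : commutator ↥(Kstab Q lam) = ⊤ :=
    commutator_subtype_eq_top _
      (Cfsg.Agent.Lib.Helper73_MI2_PERF.Kstab_perfect Q hS hk hlam (hts lam hlC))
  have : Finite ↥Y := Set.Finite.to_subtype (Set.toFinite Y)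
  let _ : Fintype ↥Y := Fintype.ofFinite ↥Y
  have hcard : Fintype.card ↥Y ≤ 4 := by
    rw [← Nat.card_eq_fintype_card, Nat.card_coe_set_eq]
    omega
  -- every element of `Kstab Q lam` fixes `C`
  have hfix : ∀ g ∈ Kstab Q lam, C.map ((g : V ≃ₗ[F] V) : V →ₗ[F] V) = C := by
    intro g hg
    have := Cfsg.Agent.Lib.Helper52_MI2_PERM.perfect_acts_trivially hperf hcard
      (⟨g, hg⟩ : ↥(Kstab Q lam)) (⟨C, hCY⟩ : ↥Y)
    have h3 := congrArg (fun y : ↥Y => (y : Submodule F V)) this
    simpa [hsmul] using h3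
  have hdim := Cfsg.Agent.Lib.Helper22_MI2_SubC.finrank_le_of_ts Q hS.nondeg C hts
  rw [hS.dim] at hdim
  obtain ⟨g, hg, hne⟩ := Cfsg.Agent.Lib.Helper22_MI2_SubC.not_invariant Q hS hk3 hlam C hlC h2
    (by omega)
  exact hne (hfix g hg)

end Cfsg.Agent.Lib.Helper58_MI2_TSA
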