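import Mathlib
import Cfsg.Agent.Lib.Helper22_MI2Defs
import Cfsg.Agent.Lib.Helper22_MI2_SubC
import Cfsg.Agent.Lib.Helper58_MI2_ANI
import Cfsg.Agent.Lib.Helper58_MI2_TSA
import Cfsg.Agent.Lib.Helper3_MI2_SUBS
import Cfsg.Agent.Lib.Helper22_MI2_TSB
import Cfsg.Agent.Lib.Helper22_MI2_TSN

set_option autoImplicit false

/-!
S2146, package MI2-SUB (helper22): for a plus-type quadratic space `V` of dimension `2k ≥ 6` over the field
with two elements and a subspace `S` with `1 ≤ dim S ≤ 2k - 2`: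
`|V / S| * |orbit of S under T Q| ≥ Nmin (k + 1)`.  Glue of the packages ANI, TSA, TSB, TSN, SUBS.
-/

namespace Cfsg.Agent.Lib.Helper22_MI2_SubBound

open Module Cfsg.Agent.Lib.Helper14_OmegaSimple Cfsg.Agent.Lib.Helper22_MI2Defs
  Cfsg.Agent.Lib.Helper22_MI2_Sub Cfsg.Agent.Lib.Helper22_MI2_SubC

variable {F V : Type*} [Field F] [AddCommGroup V] [Module F V]


/-- the mixed case: `C` contains a nonzero singular and a nonsingular vector. -/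
theorem sub_bound_mixed [Finite F] [FiniteDimensional F V] (Q : QuadraticForm F V) {k : ℕ}
    (hS : PlusSetting Q k) (hk : 3 ≤ k) (C : Submodule F V) (h2 : 2 ≤ finrank F C)
    (h2' : finrank F C + 2 ≤ 2 * k) (hs : ∃ x ∈ C, x ≠ 0 ∧ Q x = 0) (hn : ∃ x ∈ C, Q x ≠ 0) :
    Nmin (k + 1) ≤ Nat.card C * (subOrbit Q C).ncard := by
  obtain ⟨hfin, bs, bn, hbs, hbn, -, -, htot⟩ :=
    Cfsg.Agent.Lib.Helper54_MI2_SUBCNT.orbit_count Q hS hk C
  obtain ⟨x, hxC, hx0, hQx⟩ := hs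
  obtain ⟨y, hyC, hQy⟩ := hn
  have hy0 : y ≠ 0 := by
    rintro rfl
    exact hQy (map_zero Q)
  have h2s : 2 ≤ bs := by
    rw [← hbs x hx0 hQx]
    exact two_le_through Q hS hk hx0 C hxC h2 h2'
  have h2n : 2 ≤ bn := by
    rw [← hbn y hQy]
    exact two_le_through Q hS hk hy0 C hyC h2 h2'
  obtain ⟨hV, hcs⟩ := Cfsg.Agent.Lib.Helper42_MI2_SCNT.card_singular Q hS
  obtain ⟨P, hP4, hP1, hP2, hP3, -⟩ := nums k hk
  rw [mul_comm, htot]
  have h1 : Nat.card {x : V // x ≠ 0 ∧ Q x = 0} * 2 ≤ Nat.card {x : V // x ≠ 0 ∧ Q x = 0} * bs :=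
    Nat.mul_le_mul_left _ h2s
  have h3 : Nmin k * 2 ≤ Nmin k * bn := Nat.mul_le_mul_left _ h2n
  nlinarith

/-- the bound in the `C`-form. -/
theorem sub_bound_C [Finite F] [FiniteDimensional F V] (Q : QuadraticForm F V) {k : ℕ}
    (hS : PlusSetting Q k) (hk : 3 ≤ k) (C : Submodule F V) (h2 : 2 ≤ finrank F C)
    (h2' : finrank F C + 2 ≤ 2 * k) :
    Nmin (k + 1) ≤ Nat.card C * (subOrbit Q C).ncard := by
  by_cases hts : ∀ x ∈ C, Q x = 0
  · exact Cfsg.Agent.Lib.Helper22_MI2_TSN.sub_bound_ts Q hS hk C h2 hts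
      (fun hk4 lam hl hl0 => Cfsg.Agent.Lib.Helper58_MI2_TSA.four_le_through_ts Q hS hk4 hl0 C hl hts h2)
      (fun lam hl hl0 => Cfsg.Agent.Lib.Helper22_MI2_TSB.three_le_through_ts Q hS hk hl0 C hl hts h2)
  · by_cases ha : ∀ x ∈ C, Q x = 0 → x = 0
    · exact Cfsg.Agent.Lib.Helper58_MI2_ANI.sub_bound_aniso Q hS hk C h2 ha
    · push Not at hts ha
      obtain ⟨y, hy, hQy⟩ := hts
      obtain ⟨x, hx, hQx, hx0⟩ := ha
      exact sub_bound_mixed Q hS hk C h2 h2' ⟨x, hx, hx0, hQx⟩ ⟨y, hy, hQy⟩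

/-- MI2-SUB. -/
theorem sub_bound [Finite F] [FiniteDimensional F V] (Q : QuadraticForm F V) {k : ℕ}
    (hS : PlusSetting Q k) (hk : 3 ≤ k) (S : Submodule F V) (h1 : 1 ≤ finrank F S)
    (h2 : finrank F S + 2 ≤ 2 * k) :
    Nmin (k + 1) ≤ Nat.card (V ⧸ S) * (subOrbit Q S).ncard :=
  Cfsg.Agent.Lib.Helper3_MI2_SUBS.sub_bound_of_C Q hS hk (sub_bound_C Q hS hk) S h1 h2

end Cfsg.Agent.Lib.Helper22_MI2_SubBound
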