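import Mathlib
import Cfsg.Agent.Lib.Helper22_MI2Defs

set_option autoImplicit false

/-!
# Helper8_MI2_EXT: extension by the identity on the orthogonal complement (package MI2-EXT of S2146)
-/

namespace Cfsg.Agent.Lib.Helper8_MI2_EXT

open Module Cfsg.Agent.Lib.Helper14_OmegaSimple Cfsg.Agent.Lib.Helper22_MI2Defs

variable {F V : Type*} [Field F] [AddCommGroup V] [Module F V]

/-- conjugating `g × id` by a linear equivalence `A × B ≃ V` -/
noncomputable def conjHom {A B : Type*} [AddCommGroup A] [Module F A] [AddCommGroup B] [Module F B]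
    (e : (A × B) ≃ₗ[F] V) : (A ≃ₗ[F] A) →* (V ≃ₗ[F] V) where
  toFun g := e.symm ≪≫ₗ (g.prodCongr (LinearEquiv.refl F B)) ≪≫ₗ e
  map_one' := by
    apply LinearEquiv.ext
    intro x
    simp [LinearEquiv.prodCongr_apply]
  map_mul' g h := by
    apply LinearEquiv.ext
    intro x
    simp [LinearEquiv.prodCongr_apply]

/-- extension of an automorphism of `X` by the identity on a complement `Y` -/
noncomputable def extHom (X Y : Submodule F V) (hXY : IsCompl X Y) :
    (↥X ≃ₗ[F] ↥X) →* (V ≃ₗ[F] V) :=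
  conjHom (Submodule.prodEquivOfIsCompl X Y hXY)

theorem extHom_apply (X Y : Submodule F V) (hXY : IsCompl X Y) (g : ↥X ≃ₗ[F] ↥X) (v : V) :
    extHom X Y hXY g v = (Submodule.prodEquivOfIsCompl X Y hXY)
      ((g.prodCongr (LinearEquiv.refl F ↥Y)) ((Submodule.prodEquivOfIsCompl X Y hXY).symm v)) :=
  rfl

theorem extHom_on_mem (X Y : Submodule F V) (hXY : IsCompl X Y) (g : ↥X ≃ₗ[F] ↥X) (x : ↥X) :
    extHom X Y hXY g (x : V) = ((g x : ↥X) : V) := by
  rw [extHom_apply, Submodule.prodEquivOfIsCompl_symm_apply_left]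
  simp

theorem extHom_on_compl (X Y : Submodule F V) (hXY : IsCompl X Y) (g : ↥X ≃ₗ[F] ↥X) (y : V)
    (hy : y ∈ Y) : extHom X Y hXY g y = y := by
  have := Submodule.prodEquivOfIsCompl_symm_apply_right X Y hXY ⟨y, hy⟩
  rw [extHom_apply]
  rw [this]
  simp

/-- two linear automorphisms agreeing on `X` and on `Y` are equal -/
theorem ext_of_compl (X Y : Submodule F V) (hXY : IsCompl X Y) (f g : V ≃ₗ[F] V)
    (hX : ∀ x ∈ X, f x = g x) (hY : ∀ y ∈ Y, f y = g y) : f = g := by
  apply LinearEquiv.ext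
  intro v
  have hv : v ∈ X ⊔ Y := by rw [hXY.sup_eq_top]; trivial
  obtain ⟨x, hx, y, hy, rfl⟩ := Submodule.mem_sup.mp hv
  rw [map_add, map_add, hX x hx, hY y hy]

theorem exists_ext (Q : QuadraticForm F V) (X : Submodule F V)
    (hX : IsCompl X (LinearMap.BilinForm.orthogonal (QuadraticMap.polarBilin Q) X)) :
    ∃ ext : (↥X ≃ₗ[F] ↥X) →* (V ≃ₗ[F] V), IsExt Q X ext := by
  set Y := LinearMap.BilinForm.orthogonal (QuadraticMap.polarBilin Q) X with hYdef
  have horth : ∀ y ∈ Y, ∀ a : ↥X, QuadraticMap.polar (⇑Q) y (a : V) = 0 := by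
    intro y hy a
    have h := (LinearMap.BilinForm.mem_orthogonal_iff.mp hy) (a : V) a.2
    have h' : QuadraticMap.polarBilin Q (a : V) y = 0 := h
    rw [QuadraticMap.polarBilin_apply_apply] at h'
    rw [QuadraticMap.polar_comm]
    exact h'
  have hmapE : ∀ a b : ↥X, resQ Q X a = 0 → QuadraticMap.polar (⇑(resQ Q X)) a b = 0 →
      extHom X Y hX (E (resQ Q X) a b) = E Q (a : V) (b : V) := by
    intro a b ha hab
    have ha' : Q (a : V) = 0 := ha
    have hab' : QuadraticMap.polar (⇑Q) (a : V) (b : V) = 0 := by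
      rw [← Cfsg.Agent.Lib.Helper44_QuadClass.polar_comp_subtype]; exact hab
    apply ext_of_compl X Y hX
    · intro x hx
      have h1 := extHom_on_mem X Y hX (E (resQ Q X) a b) ⟨x, hx⟩
      rw [h1, E_apply (resQ Q X) ha hab, E_apply Q ha' hab']
      simp only [Cfsg.Agent.Lib.Helper44_QuadClass.polar_comp_subtype]
      simp only [Submodule.coe_sub, Submodule.coe_add, Submodule.coe_smul]
      rfl
    · intro y hy
      rw [extHom_on_compl X Y hX _ y hy, E_apply Q ha' hab', horth y hy a, horth y hy b]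
      simp
  refine ⟨extHom X Y hX, ⟨?_, ?_, hmapE, ?_⟩⟩
  · intro g x
    exact extHom_on_mem X Y hX g x
  · intro g y hy
    exact extHom_on_compl X Y hX g y hy
  · intro g hg
    have hle : T (resQ Q X) ≤ (T Q).comap (extHom X Y hX) := by
      rw [T, Subgroup.closure_le]
      rintro g ⟨u, s, hu, hs, hus, rfl⟩
      show extHom X Y hX (E (resQ Q X) u s) ∈ T Q
      rw [hmapE u s hu hus]
      refine root_mem_T Q hu hs ?_
      rw [← Cfsg.Agent.Lib.Helper44_QuadClass.polar_comp_subtype]; exact hus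
    exact hle hg

end Cfsg.Agent.Lib.Helper8_MI2_EXT
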