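import Mathlib
import Cfsg.Agent.Lib.Helper22_MI2Defs

set_option autoImplicit false

/-!
# Helper8_MI2_WSET: the complement of a hyperbolic plane in a plus-type space over `F₂` is again of
plus type (package MI2-WSET of S2146)
-/

namespace Cfsg.Agent.Lib.Helper8_MI2_WSET

open Module Cfsg.Agent.Lib.Helper14_OmegaSimple Cfsg.Agent.Lib.Helper22_MI2Defs

variable {F V : Type*} [Field F] [AddCommGroup V] [Module F V]

section count

variable [Fintype F] [DecidableEq F]

theorem univ_eq_pair (hF2 : ∀ c : F, c = 0 ∨ c = 1) : (Finset.univ : Finset F) = {0, 1} := by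
  ext c
  simp only [Finset.mem_univ, Finset.mem_insert, Finset.mem_singleton, true_iff]
  exact hF2 c

theorem sum_F2 (hF2 : ∀ c : F, c = 0 ∨ c = 1) (f : F → ℕ) : ∑ a : F, f a = f 0 + f 1 := by
  rw [univ_eq_pair hF2, Finset.sum_pair zero_ne_one]

theorem card_F2 (hF2 : ∀ c : F, c = 0 ∨ c = 1) : Fintype.card F = 2 := by
  rw [← Finset.card_univ, univ_eq_pair hF2, Finset.card_pair zero_ne_one]

omit [Fintype F] [DecidableEq F] in
theorem one_add_one_F2 (hF2 : ∀ c : F, c = 0 ∨ c = 1) : (1 : F) + 1 = 0 := by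
  rcases hF2 ((1 : F) + 1) with h | h
  · exact h
  · exfalso
    have : (1 : F) = 0 := by linear_combination h
    exact one_ne_zero this

/-- the number of `(α, β, w)` with `α β + q w ≠ 0` -/
theorem count_aux (hF2 : ∀ c : F, c = 0 ∨ c = 1) {W : Type*} [Fintype W] (q : W → F) :
    Fintype.card {p : (F × F) × W // p.1.1 * p.1.2 + q p.2 ≠ 0} =
      Fintype.card W + 2 * Fintype.card {w : W // q w ≠ 0} := by
  classical
  have h1 : Fintype.card {p : (F × F) × W // p.1.1 * p.1.2 + q p.2 ≠ 0} =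
      Fintype.card (Σ ab : F × F, {w : W // ab.1 * ab.2 + q w ≠ 0}) :=
    Fintype.card_congr
      (Equiv.subtypeProdEquivSigmaSubtype (fun (ab : F × F) (w : W) => ab.1 * ab.2 + q w ≠ 0))
  rw [h1, Fintype.card_sigma, Fintype.sum_prod_type, sum_F2 hF2, sum_F2 hF2, sum_F2 hF2]
  have hzero : ∀ a b : F, a * b = 0 →
      Fintype.card {w : W // a * b + q w ≠ 0} = Fintype.card {w : W // q w ≠ 0} := by
    intro a b hab
    refine Fintype.card_congr (Equiv.subtypeEquivRight fun w => ?_)
    rw [hab, zero_add]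
  have hone : Fintype.card {w : W // (1 : F) * 1 + q w ≠ 0} = Fintype.card {w : W // ¬ q w ≠ 0} := by
    refine Fintype.card_congr (Equiv.subtypeEquivRight fun w => ?_)
    rcases hF2 (q w) with h | h
    · rw [h]; simp
    · rw [h, mul_one, one_add_one_F2 hF2]; simp
  have hsplit : Fintype.card {w : W // q w ≠ 0} + Fintype.card {w : W // ¬ q w ≠ 0}
      = Fintype.card W := by
    rw [Fintype.card_subtype, Fintype.card_subtype, Finset.card_filter_add_card_filter_not,
      Finset.card_univ]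
  rw [hzero 0 0 (by simp), hzero 0 1 (by simp), hzero 1 0 (by simp), hone]
  omega

end count

theorem nmin_rec {k : ℕ} (hk : 1 ≤ k) : 2 ^ (2 * k) + 2 * Nmin k = Nmin (k + 1) := by
  obtain ⟨j, rfl⟩ : ∃ j, k = j + 1 := ⟨k - 1, by omega⟩
  unfold Nmin
  rw [Nat.add_sub_cancel, Nat.add_sub_cancel]
  obtain ⟨s, hs⟩ : ∃ s, 2 ^ j = s + 1 := ⟨2 ^ j - 1, by have := Nat.one_le_two_pow (n := j); omega⟩
  have e1 : 2 ^ (j + 1) = 2 * (s + 1) := by rw [pow_succ, hs]; ring
  have e2 : 2 ^ (j + 1 + 1) = 4 * (s + 1) := by rw [pow_succ, e1]; ring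
  have e3 : 2 ^ (2 * (j + 1)) = 4 * (s + 1) * (s + 1) := by
    rw [two_mul, pow_add, e1]; ring
  rw [e1, e2, e3, hs]
  have a1 : 2 * (s + 1) - 1 = 2 * s + 1 := by omega
  have a2 : 4 * (s + 1) - 1 = 4 * s + 3 := by omega
  rw [a1, a2]
  ring

variable (Q : QuadraticForm F V)

/-- the projection to the complement of the hyperbolic plane `⟨v, v'⟩` -/
theorem proj_mem_perp {v v' : V} (hv : Q v = 0) (hv' : Q v' = 0)
    (hvv' : QuadraticMap.polar (⇑Q) v v' = 1) (x : V) :
    x - QuadraticMap.polar (⇑Q) v' x • v - QuadraticMap.polar (⇑Q) v x • v' ∈ perp2 Q v v' := by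
  have hv'v : QuadraticMap.polar (⇑Q) v' v = 1 := by rw [QuadraticMap.polar_comm, hvv']
  rw [Cfsg.Agent.Lib.Helper44_QuadClass.mem_perp]
  constructor
  · rw [QuadraticMap.polar_sub_right, QuadraticMap.polar_sub_right,
      QuadraticMap.polar_smul_right, QuadraticMap.polar_smul_right,
      Cfsg.Agent.Lib.Helper44_QuadClass.polar_self', hv, hvv']
    simp
  · rw [QuadraticMap.polar_sub_right, QuadraticMap.polar_sub_right,
      QuadraticMap.polar_smul_right, QuadraticMap.polar_smul_right,
      Cfsg.Agent.Lib.Helper44_QuadClass.polar_self', hv', hv'v]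
    simp

/-- `V ≃ (F × F) × ⟨v, v'⟩^⟂` -/
noncomputable def splitEquiv {v v' : V} (hv : Q v = 0) (hv' : Q v' = 0)
    (hvv' : QuadraticMap.polar (⇑Q) v v' = 1) : V ≃ (F × F) × ↥(perp2 Q v v') where
  toFun x := ((QuadraticMap.polar (⇑Q) v' x, QuadraticMap.polar (⇑Q) v x),
    ⟨x - QuadraticMap.polar (⇑Q) v' x • v - QuadraticMap.polar (⇑Q) v x • v',
      proj_mem_perp Q hv hv' hvv' x⟩)
  invFun p := p.1.1 • v + p.1.2 • v' + (p.2 : V)
  left_inv x := by
    simp only
    abel
  right_inv p := by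
    obtain ⟨⟨a, b⟩, w, hw⟩ := p
    have hv'v : QuadraticMap.polar (⇑Q) v' v = 1 := by rw [QuadraticMap.polar_comm, hvv']
    have hw' := (Cfsg.Agent.Lib.Helper44_QuadClass.mem_perp Q v v').mp hw
    have h1 : QuadraticMap.polar (⇑Q) v' (a • v + b • v' + w) = a := by
      rw [QuadraticMap.polar_add_right, QuadraticMap.polar_add_right,
        QuadraticMap.polar_smul_right, QuadraticMap.polar_smul_right,
        Cfsg.Agent.Lib.Helper44_QuadClass.polar_self', hv', hv'v, hw'.2]
      simp
    have h2 : QuadraticMap.polar (⇑Q) v (a • v + b • v' + w) = b := by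
      rw [QuadraticMap.polar_add_right, QuadraticMap.polar_add_right,
        QuadraticMap.polar_smul_right, QuadraticMap.polar_smul_right,
        Cfsg.Agent.Lib.Helper44_QuadClass.polar_self', hv, hvv', hw'.1]
      simp
    refine Prod.ext (Prod.ext h1 h2) (Subtype.ext ?_)
    show a • v + b • v' + w - QuadraticMap.polar (⇑Q) v' (a • v + b • v' + w) • v -
      QuadraticMap.polar (⇑Q) v (a • v + b • v' + w) • v' = w
    rw [h1, h2]
    abel

theorem Q_split {v v' : V} (hv : Q v = 0) (hv' : Q v' = 0)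
    (hvv' : QuadraticMap.polar (⇑Q) v v' = 1) (a b : F) (w : V) (hw : w ∈ perp2 Q v v') :
    Q (a • v + b • v' + w) = a * b + Q w := by
  have hw' := (Cfsg.Agent.Lib.Helper44_QuadClass.mem_perp Q v v').mp hw
  have h1 : QuadraticMap.polar (⇑Q) (a • v + b • v') w = 0 := by
    rw [QuadraticMap.polar_add_left, QuadraticMap.polar_smul_left, QuadraticMap.polar_smul_left,
      hw'.1, hw'.2]
    simp
  have h2 : Q (a • v + b • v') = a * b := by
    rw [QuadraticMap.map_add Q, QuadraticMap.map_smul, QuadraticMap.map_smul, hv, hv',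
      QuadraticMap.polar_smul_left, QuadraticMap.polar_smul_right, hvv']
    simp
  rw [QuadraticMap.map_add Q, h1, h2, add_zero]

theorem plusSetting_perp2 [Finite F] [FiniteDimensional F V] (Q : QuadraticForm F V) {k : ℕ}
    (hk : 1 ≤ k) (hS : PlusSetting Q (k + 1)) {v v' : V} (hv : Q v = 0) (hv' : Q v' = 0)
    (hvv' : QuadraticMap.polar (⇑Q) v v' = 1) :
    IsCompl (perp2 Q v v')
        (LinearMap.BilinForm.orthogonal (QuadraticMap.polarBilin Q) (perp2 Q v v')) ∧
      PlusSetting (resQ Q (perp2 Q v v')) k := by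
  classical
  let _ : Fintype F := Fintype.ofFinite F
  have : Finite V := Module.finite_of_finite F
  let _ : Fintype V := Fintype.ofFinite V
  have hnd := Cfsg.Agent.Lib.Helper44_QuadClass.nondegenerate_perp hS.nondeg hv hv' hvv'
  have hdim : finrank F ↥(perp2 Q v v') = 2 * k := by
    have h := Cfsg.Agent.Lib.Helper44_QuadClass.finrank_perp hv hv' hvv'
    have h2 := hS.dim
    show finrank F ↥(Cfsg.Agent.Lib.Helper44_QuadClass.perp Q v v') = 2 * k
    omega
  constructor
  · apply LinearMap.BilinForm.isCompl_orthogonal_of_restrict_nondegenerate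
    · intro x y hxy
      rw [QuadraticMap.polarBilin_apply_apply] at hxy ⊢
      rw [QuadraticMap.polar_comm]; exact hxy
    · have heq : LinearMap.BilinForm.restrict (QuadraticMap.polarBilin Q) (perp2 Q v v')
          = QuadraticMap.polarBilin (Q.comp (perp2 Q v v').subtype) := by
        ext x y
        simp [Cfsg.Agent.Lib.Helper44_QuadClass.polar_comp_subtype]
      rw [heq]
      exact hnd
  · refine ⟨hS.f2, hnd, hdim, ?_⟩
    -- the count of nonsingular vectors
    have hcardW : Fintype.card ↥(perp2 Q v v') = 2 ^ (2 * k) := by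
      rw [← Nat.card_eq_fintype_card, Module.natCard_eq_pow_finrank (K := F), hdim,
        Nat.card_eq_fintype_card, card_F2 hS.f2]
    have hN : Fintype.card {x : V // Q x ≠ 0} = Nmin (k + 1) := by
      rw [← Nat.card_eq_fintype_card]; exact hS.ns
    have hcongr : Fintype.card {x : V // Q x ≠ 0} =
        Fintype.card {p : (F × F) × ↥(perp2 Q v v') //
          p.1.1 * p.1.2 + (resQ Q (perp2 Q v v')) p.2 ≠ 0} := by
      refine Fintype.card_congr ((splitEquiv Q hv hv' hvv').subtypeEquiv fun x => ?_)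
      have hx : x = (splitEquiv Q hv hv' hvv').symm (splitEquiv Q hv hv' hvv' x) :=
        ((splitEquiv Q hv hv' hvv').symm_apply_apply x).symm
      set p := splitEquiv Q hv hv' hvv' x with hp
      have hx' : x = p.1.1 • v + p.1.2 • v' + (p.2 : V) := hx
      rw [hx', Q_split Q hv hv' hvv' _ _ _ p.2.2]
      rfl
    rw [count_aux hS.f2, hcardW] at hcongr
    have hrec := nmin_rec hk
    rw [Nat.card_eq_fintype_card]
    have : Fintype.card {x : ↥(perp2 Q v v') // (resQ Q (perp2 Q v v')) x ≠ 0} = Nmin k := by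
      omega
    convert this

end Cfsg.Agent.Lib.Helper8_MI2_WSET
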