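import Mathlib
import Cfsg.Agent.Lib.Helper22_MI2Defs
import Cfsg.Agent.Lib.Helper8_MI2_EXT
import Cfsg.Agent.Lib.Helper8_MI2_WSET
import Cfsg.Agent.Lib.Helper54_MI2_HYPORB
import Cfsg.Agent.Lib.Helper70_MI2_INJ
import Cfsg.Agent.Lib.Helper22_MI2_SubBound

set_option autoImplicit false

namespace Cfsg.Agent.Lib.Helper22_MI2_Dich

open Module Cfsg.Agent.Lib.Helper14_OmegaSimple Cfsg.Agent.Lib.Helper22_MI2Defs
  Cfsg.Agent.Lib.Helper44_QuadClass Cfsg.Agent.Lib.Helper94_Symp Cfsg.Agent.Lib.Helper94_OrthSmall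

variable {F V : Type*} [Field F] [AddCommGroup V] [Module F V]


/-! ### basic facts over the field with two elements -/

theorem two_eq_zero (hf2 : ∀ c : F, c = 0 ∨ c = 1) : (2 : F) = 0 := by
  rcases hf2 2 with h | h
  · exact h
  · exfalso
    have : (1 : F) = 0 := by linear_combination h
    exact one_ne_zero this

theorem add_self_eq (hf2 : ∀ c : F, c = 0 ∨ c = 1) (x : V) : x + x = 0 := by
  have : x + x = (2 : F) • x := by rw [two_smul]
  rw [this, two_eq_zero hf2, zero_smul]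

theorem neg_eq_self (hf2 : ∀ c : F, c = 0 ∨ c = 1) (x : V) : -x = x :=
  neg_eq_of_add_eq_zero_left (add_self_eq hf2 x)

theorem card_F (hf2 : ∀ c : F, c = 0 ∨ c = 1) : Nat.card F = 2 := by
  rw [Nat.card_eq_two_iff]
  refine ⟨0, 1, zero_ne_one, ?_⟩
  ext c
  simp only [Set.mem_insert_iff, Set.mem_singleton_iff, Set.mem_univ, iff_true]
  exact hf2 c

theorem card_sub (hf2 : ∀ c : F, c = 0 ∨ c = 1) [FiniteDimensional F V] (S : Submodule F V) :
    Nat.card S = 2 ^ finrank F S := by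
  rw [Module.natCard_eq_pow_finrank (K := F), card_F hf2]

theorem card_quot (hf2 : ∀ c : F, c = 0 ∨ c = 1) [Finite F] [FiniteDimensional F V]
    (S : Submodule F V) : Nat.card (V ⧸ S) * 2 ^ finrank F S = 2 ^ finrank F V := by
  have h1 := Submodule.card_eq_card_quotient_mul_card S
  rw [card_sub hf2 S, Module.natCard_eq_pow_finrank (K := F), card_F hf2] at h1
  rw [h1, mul_comm]

/-- decomposition of a vector orthogonal to `v` along `v` and `perp2 Q v v'`. -/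
theorem decomp_perp (Q : QuadraticForm F V) {v v' : V}
    (hv : Q v = 0) (hvv' : QuadraticMap.polar (⇑Q) v v' = 1) {w : V}
    (hw : QuadraticMap.polar (⇑Q) v w = 0) :
    ∃ wt : ↥(perp2 Q v v'), ∃ c : F, w = (wt : V) + c • v ∧ E Q v w = E Q v (wt : V) := by
  have hvv : QuadraticMap.polar (⇑Q) v v = 0 := by rw [polar_self', hv, mul_zero]
  have hv'v : QuadraticMap.polar (⇑Q) v' v = 1 := by rw [QuadraticMap.polar_comm, hvv']
  set c : F := QuadraticMap.polar (⇑Q) v' w with hc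
  have hmem : w - c • v ∈ perp2 Q v v' := by
    rw [mem_perp]
    constructor
    · rw [QuadraticMap.polar_sub_right, QuadraticMap.polar_smul_right, hw, hvv]; simp
    · rw [QuadraticMap.polar_sub_right, QuadraticMap.polar_smul_right, hv'v, ← hc]; simp
  refine ⟨⟨w - c • v, hmem⟩, c, by simp, ?_⟩
  have h1 : QuadraticMap.polar (⇑Q) v (w - c • v) = 0 := ((mem_perp Q v v').mp hmem).1
  have := E_add_smul Q hv h1 c
  rw [sub_add_cancel] at this
  exact this

theorem exists_lam_of_codim_le_one [FiniteDimensional F V] (Q : QuadraticForm F V)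
    (hnd : (QuadraticMap.polarBilin Q).Nondegenerate) (S : Submodule F V)
    (h : finrank F V ≤ finrank F S + 1) :
    ∃ lam : V, ∀ w : V, QuadraticMap.polar (⇑Q) lam w = 0 → w ∈ S := by
  by_cases htop : S = ⊤
  · exact ⟨0, fun w _ => by rw [htop]; trivial⟩
  have hlt : finrank F S < finrank F V := Submodule.finrank_lt htop
  have hfr : finrank F (LinearMap.BilinForm.orthogonal (QuadraticMap.polarBilin Q) S) = 1 := by
    rw [LinearMap.BilinForm.finrank_orthogonal hnd]; omega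
  have hne : LinearMap.BilinForm.orthogonal (QuadraticMap.polarBilin Q) S ≠ ⊥ := by
    intro h0; rw [h0, finrank_bot] at hfr; omega
  obtain ⟨lam, hlamS, hlam0⟩ := Submodule.exists_mem_ne_zero_of_ne_bot hne
  refine ⟨lam, fun w hw => ?_⟩
  set H := LinearMap.BilinForm.orthogonal (QuadraticMap.polarBilin Q) (Submodule.span F {lam})
    with hH
  have hSH : S ≤ H := by
    intro s hs
    rw [hH, LinearMap.BilinForm.mem_orthogonal_iff]
    intro n hn
    obtain ⟨c, rfl⟩ := Submodule.mem_span_singleton.mp hn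
    rw [LinearMap.BilinForm.mem_orthogonal_iff] at hlamS
    have := hlamS s hs
    show QuadraticMap.polarBilin Q (c • lam) s = 0
    have h1 : QuadraticMap.polarBilin Q s lam = 0 := this
    rw [QuadraticMap.polarBilin_apply_apply] at h1 ⊢
    rw [QuadraticMap.polar_smul_left, QuadraticMap.polar_comm, h1, smul_zero]
  have hHfr : finrank F H = finrank F S := by
    rw [hH, LinearMap.BilinForm.finrank_orthogonal hnd, finrank_span_singleton hlam0]; omega
  have hEq : S = H := Submodule.eq_of_le_of_finrank_eq hSH hHfr.symm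
  rw [hEq, hH, LinearMap.BilinForm.mem_orthogonal_iff]
  intro n hn
  obtain ⟨c, rfl⟩ := Submodule.mem_span_singleton.mp hn
  show QuadraticMap.polarBilin Q (c • lam) w = 0
  rw [QuadraticMap.polarBilin_apply_apply, QuadraticMap.polar_smul_left, hw, smul_zero]

section action

variable {X : Type*} [MulAction (V ≃ₗ[F] V) X]

/-- The subspace of `perp2 Q v v'` of parameters `w` with `E(v,w) ω = ω`. -/
def fixSub (Q : QuadraticForm F V) (hf2 : ∀ c : F, c = 0 ∨ c = 1) {v : V} (v' : V) (hv : Q v = 0)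
    (ω : X) : Submodule F ↥(perp2 Q v v') where
  carrier := {w | E Q v (w : V) • ω = ω}
  add_mem' := by
    intro a b ha hb
    have h1 := ((mem_perp Q v v').mp a.2).1
    have h2 := ((mem_perp Q v v').mp b.2).1
    show E Q v ((a + b : ↥(perp2 Q v v')) : V) • ω = ω
    rw [Submodule.coe_add, ← E_mul Q hv h1 h2, mul_smul]
    rw [show E Q v (b : V) • ω = ω from hb]
    exact ha
  zero_mem' := by
    show E Q v ((0 : ↥(perp2 Q v v')) : V) • ω = ω
    rw [Submodule.coe_zero, E_zero_right Q hv, one_smul]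
  smul_mem' := by
    intro c a ha
    rcases hf2 c with rfl | rfl
    · show E Q v ((0 • a : ↥(perp2 Q v v')) : V) • ω = ω
      rw [zero_smul, Submodule.coe_zero, E_zero_right Q hv, one_smul]
    · show E Q v ((1 • a : ↥(perp2 Q v v')) : V) • ω = ω
      rw [one_smul]; exact ha

theorem mem_fixSub (Q : QuadraticForm F V) (hf2 : ∀ c : F, c = 0 ∨ c = 1) {v : V} (v' : V)
    (hv : Q v = 0) (ω : X) (w : ↥(perp2 Q v v')) :
    w ∈ fixSub Q hf2 v' hv ω ↔ E Q v (w : V) • ω = ω := Iff.rfl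

theorem mem_orth_perp2_left (Q : QuadraticForm F V) (v v' : V) :
    v ∈ LinearMap.BilinForm.orthogonal (QuadraticMap.polarBilin Q) (perp2 Q v v') := by
  rw [LinearMap.BilinForm.mem_orthogonal_iff]
  intro n hn
  show QuadraticMap.polarBilin Q n v = 0
  rw [QuadraticMap.polarBilin_apply_apply, QuadraticMap.polar_comm]
  exact ((mem_perp Q v v').mp hn).1

theorem E_comm (Q : QuadraticForm F V) {v x y : V} (hv : Q v = 0)
    (hx : QuadraticMap.polar (⇑Q) v x = 0) (hy : QuadraticMap.polar (⇑Q) v y = 0) :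
    E Q v x * E Q v y = E Q v y * E Q v x := by
  rw [E_mul Q hv hx hy, E_mul Q hv hy hx, add_comm]

/-- `ext l` conjugates `E(v, w)` to `E(v, l w)`. -/
theorem ext_conj (Q : QuadraticForm F V) {v v' : V} (hv : Q v = 0)
    (ext : (↥(perp2 Q v v') ≃ₗ[F] ↥(perp2 Q v v')) →* (V ≃ₗ[F] V))
    (hext : IsExt Q (perp2 Q v v') ext) (l : ↥(perp2 Q v v') ≃ₗ[F] ↥(perp2 Q v v'))
    (hl : l ∈ T (resQ Q (perp2 Q v v'))) (w : ↥(perp2 Q v v')) :
    ext l * E Q v (w : V) * (ext l)⁻¹ = E Q v ((l w : ↥(perp2 Q v v')) : V) := by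
  have hO : ext l ∈ oG (⇑Q) := T_le_oG Q (hext.map_T l hl)
  have h1 := ((mem_perp Q v v').mp w.2).1
  rw [conj_E Q hO hv h1, hext.on_orth l v (mem_orth_perp2_left Q v v'), hext.on_mem]

theorem fixSub_orbit (Q : QuadraticForm F V) (hf2 : ∀ c : F, c = 0 ∨ c = 1) {v v' : V}
    (hv : Q v = 0)
    (ext : (↥(perp2 Q v v') ≃ₗ[F] ↥(perp2 Q v v')) →* (V ≃ₗ[F] V))
    (hext : IsExt Q (perp2 Q v v') ext) (ω : X) (w : ↥(perp2 Q v v'))
    (l : ↥(perp2 Q v v') ≃ₗ[F] ↥(perp2 Q v v')) (hl : l ∈ T (resQ Q (perp2 Q v v'))) :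
    fixSub Q hf2 v' hv (E Q v (w : V) • ext l • ω) =
      (fixSub Q hf2 v' hv ω).map (l : ↥(perp2 Q v v') →ₗ[F] ↥(perp2 Q v v')) := by
  ext w'
  rw [mem_fixSub, Submodule.mem_map]
  have h1 := ((mem_perp Q v v').mp w.2).1
  have h1' := ((mem_perp Q v v').mp w'.2).1
  have hconj := ext_conj Q hv ext hext l hl (l.symm w')
  rw [LinearEquiv.apply_symm_apply] at hconj
  -- E v w' = ext l * E v (l⁻¹ w') * (ext l)⁻¹
  constructor
  · intro h
    refine ⟨l.symm w', ?_, by simp⟩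
    rw [mem_fixSub]
    rw [← mul_smul, ← mul_smul, E_comm Q hv h1' h1, mul_smul, mul_smul] at h
    have h2 : E Q v (w' : V) • ext l • ω = ext l • ω := by
      have := congrArg (fun z => (E Q v (w : V))⁻¹ • z) h
      simpa [inv_smul_smul] using this
    rw [← hconj, mul_smul, mul_smul, inv_smul_smul] at h2
    have := congrArg (fun z => (ext l)⁻¹ • z) h2
    simpa [inv_smul_smul] using this
  · rintro ⟨y, hy, rfl⟩
    rw [mem_fixSub] at hy
    have hconj' := ext_conj Q hv ext hext l hl y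
    have h1y : QuadraticMap.polar (⇑Q) v ((l y : ↥(perp2 Q v v')) : V) = 0 :=
      ((mem_perp Q v v').mp (l y).2).1
    show E Q v ((l y : ↥(perp2 Q v v')) : V) • E Q v (w : V) • ext l • ω = E Q v (w : V) • ext l • ω
    rw [← mul_smul, ← mul_smul, E_comm Q hv h1y h1, mul_smul, mul_smul]
    congr 1
    rw [← hconj', mul_smul, mul_smul, inv_smul_smul, hy]

theorem Nmin_succ (k : ℕ) (hk : 1 ≤ k) : Nmin (k + 1) = 2 ^ (2 * k) + 2 * Nmin k := by
  unfold Nmin
  obtain ⟨j, rfl⟩ : ∃ j, k = j + 1 := ⟨k - 1, by omega⟩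
  simp only [Nat.add_sub_cancel]
  have h1 : 1 ≤ 2 ^ j := Nat.one_le_two_pow
  have e1 : 2 ^ (j + 1 + 1) = 4 * 2 ^ j := by ring
  have e2 : 2 ^ (j + 1) = 2 * 2 ^ j := by ring
  have e3 : 2 ^ (2 * (j + 1)) = 4 * (2 ^ j * 2 ^ j) := by ring
  rw [e1, e2, e3]
  obtain ⟨t, ht⟩ : ∃ t, 2 ^ j = t + 1 := ⟨2 ^ j - 1, by omega⟩
  rw [ht]
  have : 4 * (t + 1) - 1 = 4 * t + 3 := by omega
  have h2 : 2 * (t + 1) - 1 = 2 * t + 1 := by omega
  rw [this, h2]
  ring

theorem dichotomy [Finite F] [FiniteDimensional F V] (Q : QuadraticForm F V) {m : ℕ}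
    (hS : PlusSetting Q m) (hm : 4 ≤ m) (Ω : Set X) (hΩ : IsOrbit Q Ω)
    (hn : Ω.ncard < Nmin m) : AllSmall Q Ω ∨ FixOrReg Q Ω := by
  have hf2 := hS.f2
  have hnd := hS.nondeg
  have hdim5 : 5 ≤ finrank F V := by rw [hS.dim]; omega
  have : Finite V := Module.finite_of_finite F
  obtain ⟨v, hv0, hQv⟩ := exists_singular Q (by omega)
  obtain ⟨v', hQv', hvv'⟩ := exists_hyperbolic_partner Q hnd hv0 hQv
  obtain ⟨k, rfl⟩ : ∃ k, m = k + 1 := ⟨m - 1, by omega⟩
  have hk3 : 3 ≤ k := by omega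
  obtain ⟨hcompl, hW⟩ := Cfsg.Agent.Lib.Helper8_MI2_WSET.plusSetting_perp2 Q (by omega) hS hQv hQv' hvv'
  obtain ⟨ext, hext⟩ := Cfsg.Agent.Lib.Helper8_MI2_EXT.exists_ext Q (perp2 Q v v') hcompl
  have hWdim : finrank F ↥(perp2 Q v v') = 2 * k := hW.dim
  -- the orbits under `U_v L`
  let Orb : X → Set X := fun ω => {ω' | ∃ (w : ↥(perp2 Q v v'))
    (l : ↥(perp2 Q v v') ≃ₗ[F] ↥(perp2 Q v v')),
      l ∈ T (resQ Q (perp2 Q v v')) ∧ ω' = E Q v (w : V) • ext l • ω}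
  have hOrbsub : ∀ ω ∈ Ω, Orb ω ⊆ Ω := by
    rintro ω hω ω' ⟨w, l, hl, rfl⟩
    have h1 := ((mem_perp Q v v').mp w.2).1
    exact hΩ.inv _ (E_mem_T Q hnd hdim5 hQv h1) _ (hΩ.inv _ (hext.map_T l hl) _ hω)
  have hOrbfr : ∀ ω, ∀ ω' ∈ Orb ω, finrank F (fixSub Q hf2 v' hQv ω') =
      finrank F (fixSub Q hf2 v' hQv ω) := by
    rintro ω ω' ⟨w, l, hl, rfl⟩
    rw [fixSub_orbit Q hf2 hQv ext hext ω w l hl]
    exact LinearEquiv.finrank_map_eq l _
  have hINJ : ∀ ω, Nat.card (↥(perp2 Q v v') ⧸ fixSub Q hf2 v' hQv ω) *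
      (subOrbit (resQ Q (perp2 Q v v')) (fixSub Q hf2 v' hQv ω)).ncard ≤ (Orb ω).ncard :=
    fun ω => Cfsg.Agent.Lib.Helper70_MI2_INJ.orbit_lower_bound Q hS hm hQv hQv' hvv' ext hext ω _ (fun w => Iff.rfl)
  have hOrbcard : ∀ ω ∈ Ω, (Orb ω).ncard ≤ Ω.ncard := fun ω hω =>
    Set.ncard_le_ncard (hOrbsub ω hω) hΩ.fin
  -- F1
  have hF1 : ∀ ω ∈ Ω, finrank F (fixSub Q hf2 v' hQv ω) = 0 ∨
      2 * k ≤ finrank F (fixSub Q hf2 v' hQv ω) + 1 := by
    intro ω hω
    by_contra hcon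
    push Not at hcon
    have h1 : 1 ≤ finrank F (fixSub Q hf2 v' hQv ω) := by omega
    have h2 : finrank F (fixSub Q hf2 v' hQv ω) + 2 ≤ 2 * k := by omega
    have := Cfsg.Agent.Lib.Helper22_MI2_SubBound.sub_bound (resQ Q (perp2 Q v v')) hW hk3 _ h1 h2
    have h3 := (this.trans (hINJ ω)).trans (hOrbcard ω hω)
    omega
  -- F3
  have hF3 : (∃ ω₁ ∈ Ω, finrank F (fixSub Q hf2 v' hQv ω₁) = 0) →
      ∀ ω ∈ Ω, finrank F (fixSub Q hf2 v' hQv ω) + 1 ≠ 2 * k := by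
    rintro ⟨ω₁, hω₁, h0⟩ ω₂ hω₂ h2
    have hdisj : Disjoint (Orb ω₁) (Orb ω₂) := by
      rw [Set.disjoint_left]
      intro ω' h1' h2'
      have e1 := hOrbfr ω₁ ω' h1'
      have e2 := hOrbfr ω₂ ω' h2'
      omega
    have hfin1 : (Orb ω₁).Finite := hΩ.fin.subset (hOrbsub ω₁ hω₁)
    have hfin2 : (Orb ω₂).Finite := hΩ.fin.subset (hOrbsub ω₂ hω₂)
    have hunion : (Orb ω₁ ∪ Orb ω₂).ncard ≤ Ω.ncard :=
      Set.ncard_le_ncard (Set.union_subset (hOrbsub ω₁ hω₁) (hOrbsub ω₂ hω₂)) hΩ.fin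
    rw [Set.ncard_union_eq hdisj hfin1 hfin2] at hunion
    -- lower bounds
    have hq1 := card_quot hf2 (fixSub Q hf2 v' hQv ω₁)
    rw [h0, pow_zero, mul_one, hWdim] at hq1
    have hq2 := card_quot hf2 (fixSub Q hf2 v' hQv ω₂)
    rw [hWdim] at hq2
    have hq2' : Nat.card (↥(perp2 Q v v') ⧸ fixSub Q hf2 v' hQv ω₂) = 2 := by
      have e : 2 ^ (2 * k) = 2 * 2 ^ finrank F (fixSub Q hf2 v' hQv ω₂) := by
        rw [← h2, pow_succ]; ring
      rw [e] at hq2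
      exact Nat.eq_of_mul_eq_mul_right (by positivity) hq2
    have ho1 : 1 ≤ (subOrbit (resQ Q (perp2 Q v v')) (fixSub Q hf2 v' hQv ω₁)).ncard := by
      have hfin : (subOrbit (resQ Q (perp2 Q v v')) (fixSub Q hf2 v' hQv ω₁)).Finite :=
        Set.toFinite _
      rw [Nat.one_le_iff_ne_zero, Ne, Set.ncard_eq_zero hfin]
      intro he
      have : fixSub Q hf2 v' hQv ω₁ ∈
          subOrbit (resQ Q (perp2 Q v v')) (fixSub Q hf2 v' hQv ω₁) :=
        ⟨1, Subgroup.one_mem _, by simp⟩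
      rw [he] at this
      exact this
    have ho2 := Cfsg.Agent.Lib.Helper54_MI2_HYPORB.point_hyperplane_orbit (resQ Q (perp2 Q v v')) hW hk3
      (fixSub Q hf2 v' hQv ω₂) (Or.inr (by rw [hWdim] at *; exact h2))
    have hb1 := hINJ ω₁
    have hb2 := hINJ ω₂
    rw [hq1] at hb1
    rw [hq2'] at hb2
    have hN := Nmin_succ k (by omega)
    have : 2 ^ (2 * k) * 1 ≤ (Orb ω₁).ncard := (Nat.mul_le_mul_left _ ho1).trans hb1
    have : 2 * Nmin k ≤ (Orb ω₂).ncard := (Nat.mul_le_mul_left _ ho2).trans hb2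
    omega
  -- transfer to an arbitrary singular vector
  have htransfer : ∀ u : V, u ≠ 0 → Q u = 0 → ∃ g ∈ T Q, g v = u := by
    intro u hu0 hQu
    obtain ⟨g, hg, c, hc0, hc⟩ := exists_mem_T_map Q hnd hdim5 hv0 hQv hu0 hQu
    rcases hf2 c with rfl | rfl
    · exact absurd rfl hc0
    · exact ⟨g, hg, by rw [hc, one_smul]⟩
  have hconj : ∀ g ∈ T Q, ∀ w : V, QuadraticMap.polar (⇑Q) v w = 0 → ∀ ω : X,
      (E Q (g v) (g w) • ω = ω ↔ E Q v w • (g⁻¹ • ω) = g⁻¹ • ω) := by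
    intro g hg w hw ω
    rw [← conj_E Q (T_le_oG Q hg) hQv hw, mul_smul, mul_smul]
    constructor
    · intro h
      have := congrArg (fun z => g⁻¹ • z) h
      simpa [inv_smul_smul] using this
    · intro h
      rw [h, smul_inv_smul]
  -- common preparation
  have hprep : ∀ u : V, u ≠ 0 → Q u = 0 → ∀ ω ∈ Ω, ∃ g ∈ T Q, g v = u ∧ g⁻¹ • ω ∈ Ω ∧
      ∀ w : V, QuadraticMap.polar (⇑Q) u w = 0 →
        ∃ wt : ↥(perp2 Q v v'), ∃ c : F, w = g (wt : V) + c • u ∧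
          QuadraticMap.polar (⇑Q) v (g⁻¹ w) = 0 ∧ g⁻¹ w = (wt : V) + c • v ∧
          (E Q u w • ω = ω ↔ E Q v (wt : V) • (g⁻¹ • ω) = g⁻¹ • ω) := by
    intro u hu0 hQu ω hω
    obtain ⟨g, hg, hgv⟩ := htransfer u hu0 hQu
    refine ⟨g, hg, hgv, hΩ.inv _ (Subgroup.inv_mem _ hg) _ hω, fun w hw => ?_⟩
    have hw₀ : QuadraticMap.polar (⇑Q) v (g⁻¹ w) = 0 := by
      rw [← oG_polar Q (T_le_oG Q hg) v (g⁻¹ w), hgv, apply_inv_apply']; exact hw
    obtain ⟨wt, c, hdec, hE⟩ := decomp_perp Q hQv hvv' hw₀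
    refine ⟨wt, c, ?_, hw₀, hdec, ?_⟩
    · have := congrArg g hdec
      rw [apply_inv_apply', map_add, map_smul, hgv] at this
      exact this
    · have h1 := hconj g hg (g⁻¹ w) hw₀ ω
      rw [hgv, apply_inv_apply', hE] at h1
      exact h1
  by_cases hreg : ∃ ω₁ ∈ Ω, finrank F (fixSub Q hf2 v' hQv ω₁) = 0
  · right
    intro u hu0 hQu ω hω
    obtain ⟨g, hg, hgv, hω₀, hw⟩ := hprep u hu0 hQu ω hω
    rcases hF1 _ hω₀ with h0 | h1
    · right
      intro w hwu hfix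
      obtain ⟨wt, c, hdec, -, -, hiff⟩ := hw w hwu
      have hmem : wt ∈ fixSub Q hf2 v' hQv (g⁻¹ • ω) := hiff.mp hfix
      have hbot : fixSub Q hf2 v' hQv (g⁻¹ • ω) = ⊥ := Submodule.finrank_eq_zero.mp h0
      rw [hbot, Submodule.mem_bot] at hmem
      rw [hmem, Submodule.coe_zero, map_zero, zero_add] at hdec
      rcases hf2 c with rfl | rfl
      · left; rw [hdec, zero_smul]
      · right; rw [hdec, one_smul]
    · left
      have hne := hF3 hreg _ hω₀
      have hle : finrank F (fixSub Q hf2 v' hQv (g⁻¹ • ω)) ≤ 2 * k := by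
        rw [← hWdim]; exact Submodule.finrank_le _
      have htop : fixSub Q hf2 v' hQv (g⁻¹ • ω) = ⊤ :=
        Submodule.eq_top_of_finrank_eq (by rw [hWdim]; omega)
      intro w hwu
      obtain ⟨wt, c, -, -, -, hiff⟩ := hw w hwu
      apply hiff.mpr
      have : wt ∈ fixSub Q hf2 v' hQv (g⁻¹ • ω) := by rw [htop]; trivial
      exact this
  · left
    push Not at hreg
    intro u hu0 hQu ω hω
    obtain ⟨g, hg, hgv, hω₀, hw⟩ := hprep u hu0 hQu ω hω
    have h1 : 2 * k ≤ finrank F (fixSub Q hf2 v' hQv (g⁻¹ • ω)) + 1 :=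
      (hF1 _ hω₀).resolve_left (hreg _ hω₀)
    obtain ⟨lamW, hlamW⟩ := exists_lam_of_codim_le_one (resQ Q (perp2 Q v v')) hW.nondeg
      (fixSub Q hf2 v' hQv (g⁻¹ • ω)) (by rw [hWdim]; exact h1)
    refine ⟨g (lamW : V), fun w hwu hlw => ?_⟩
    obtain ⟨wt, c, -, -, hdec, hiff⟩ := hw w hwu
    apply hiff.mpr
    apply hlamW
    rw [polar_comp_subtype]
    have h2 : QuadraticMap.polar (⇑Q) (lamW : V) (g⁻¹ w) = 0 := by
      rw [← oG_polar Q (T_le_oG Q hg) (lamW : V) (g⁻¹ w), apply_inv_apply']; exact hlw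
    have h3 : QuadraticMap.polar (⇑Q) (lamW : V) v = 0 := by
      rw [QuadraticMap.polar_comm]; exact ((mem_perp Q v v').mp lamW.2).1
    rw [hdec, QuadraticMap.polar_add_right, QuadraticMap.polar_smul_right, h3, smul_zero,
      add_zero] at h2
    exact h2

end action

end Cfsg.Agent.Lib.Helper22_MI2_Dich
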