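import Mathlib
import Cfsg.Agent.Lib.Helper22_MI2Defs
import Cfsg.Agent.Lib.Helper22_MI2MDefs
import Cfsg.Agent.Lib.Helper14_POmegaSimple

/-!
# MI2M package PHANTOM (architect helper22): the integrality trick (double counting regular pairs)
-/

set_option autoImplicit false

namespace Cfsg.Agent.Lib.Helper55_MI2M_PHANTOM

open Module Cfsg.Agent.Lib.Helper14_OmegaSimple Cfsg.Agent.Lib.Helper22_MI2Defs
  Cfsg.Agent.Lib.Helper22_MI2MDefs

variable {F V : Type*} [Field F] [AddCommGroup V] [Module F V]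

theorem apply_inv_apply (g : V ≃ₗ[F] V) (w : V) : g (g⁻¹ w) = w := by
  rw [← LinearEquiv.mul_apply, mul_inv_cancel]; rfl

section action

variable {X : Type*} [MulAction (V ≃ₗ[F] V) X]

/-- regularity of `ω` for the root group of `u` is transported by `T Q` -/
theorem reg_map (Q : QuadraticForm F V) {g : V ≃ₗ[F] V} (hg : g ∈ Cfsg.Agent.Lib.Helper94_OrthSmall.oG (⇑Q)) {u : V} (hu : Q u = 0)
    {ω : X}
    (h : ∀ w : V, QuadraticMap.polar (⇑Q) u w = 0 → E Q u w • ω = ω → w = 0 ∨ w = u) :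
    ∀ w : V, QuadraticMap.polar (⇑Q) (g u) w = 0 → E Q (g u) w • (g • ω) = g • ω →
      w = 0 ∨ w = g u := by
  intro w' hw' hfix
  have hw : QuadraticMap.polar (⇑Q) u (g⁻¹ w') = 0 := by
    rw [← oG_polar Q hg u (g⁻¹ w'), apply_inv_apply]
    exact hw'
  have hc := conj_E Q hg hu hw
  rw [apply_inv_apply] at hc
  rw [← hc, mul_smul, mul_smul, inv_smul_smul] at hfix
  have h2 := smul_left_cancel g hfix
  rcases h _ hw h2 with h3 | h3
  · left
    have := congrArg g h3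
    rwa [apply_inv_apply, map_zero] at this
  · right
    have := congrArg g h3
    rwa [apply_inv_apply] at this

theorem phantom_false [Finite F] [FiniteDimensional F V] (Q : QuadraticForm F V) {m : ℕ}
    (hS : Sett Q m) (hm : 4 ≤ m) (Ω : Set X) (hΩ : IsOrbit Q Ω) (N R : ℕ)
    (hN : Nat.card {x : V // x ≠ 0 ∧ Q x = 0} = N) (hcard : Ω.ncard + 1 = N)
    (hR : ∀ u : V, u ≠ 0 → Q u = 0 →
      {ω | ω ∈ Ω ∧ ∀ w : V, QuadraticMap.polar (⇑Q) u w = 0 → E Q u w • ω = ω → w = 0 ∨ w = u}.ncard = R)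
    (hR0 : 0 < R) (hRlt : R < Ω.ncard) : False := by
  classical
  have : Finite V := Module.finite_of_finite F
  obtain ⟨Reg, hReg⟩ : ∃ Reg : V → X → Prop, ∀ u ω, Reg u ω ↔
      ∀ w : V, QuadraticMap.polar (⇑Q) u w = 0 → E Q u w • ω = ω → w = 0 ∨ w = u :=
    ⟨fun u ω => ∀ w : V, QuadraticMap.polar (⇑Q) u w = 0 → E Q u w • ω = ω → w = 0 ∨ w = u,
      fun _ _ => Iff.rfl⟩
  have htr : ∀ g ∈ T Q, ∀ u ω, Q u = 0 → Reg u ω → Reg (g u) (g • ω) := by
    intro g hg u ω hu h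
    rw [hReg] at h ⊢
    exact reg_map Q (T_le_oG Q hg) hu h
  obtain ⟨S, hSdef⟩ : ∃ S : Finset V, S = (Set.toFinite {u : V | u ≠ 0 ∧ Q u = 0}).toFinset :=
    ⟨_, rfl⟩
  obtain ⟨O, hOdef⟩ : ∃ O : Finset X, O = hΩ.fin.toFinset := ⟨_, rfl⟩
  have hSmem : ∀ u, u ∈ S ↔ u ≠ 0 ∧ Q u = 0 := by
    intro u
    rw [hSdef, Set.Finite.mem_toFinset]
    rfl
  have hOmem : ∀ ω, ω ∈ O ↔ ω ∈ Ω := by
    intro ω
    rw [hOdef, Set.Finite.mem_toFinset]
  have hScard : S.card = N := by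
    rw [← hN, hSdef, ← Set.ncard_eq_toFinset_card _ _, ← Nat.card_coe_set_eq]
    rfl
  have hOcard : O.card = Ω.ncard := by
    rw [hOdef, ← Set.ncard_eq_toFinset_card _ _]
  have hcountU : ∀ u ∈ S, (O.filter (Reg u)).card = R := by
    intro u hu
    obtain ⟨hu0, hQu⟩ := (hSmem u).mp hu
    rw [← hR u hu0 hQu, ← Set.ncard_coe_finset]
    congr 1
    ext ω
    simp only [Finset.coe_filter, Set.mem_ofPred_eq, hOmem, hReg]
  have hle : ∀ ω ∈ O, ∀ ω' ∈ O,
      (S.filter (fun u => Reg u ω)).card ≤ (S.filter (fun u => Reg u ω')).card := by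
    intro ω hω ω' hω'
    obtain ⟨g, hgT, hgω⟩ := hΩ.trans ω ((hOmem ω).mp hω) ω' ((hOmem ω').mp hω')
    apply Finset.card_le_card_of_injOn (fun u => g u)
    · intro u hu
      rw [Finset.coe_filter, Set.mem_ofPred_eq] at hu
      obtain ⟨huS, hreg⟩ := hu
      obtain ⟨hu0, hQu⟩ := (hSmem u).mp huS
      rw [Finset.coe_filter, Set.mem_ofPred_eq, hSmem]
      refine ⟨⟨?_, ?_⟩, ?_⟩
      · intro h
        exact hu0 ((LinearEquiv.map_eq_zero_iff _).mp h)
      · rw [T_le_oG Q hgT u]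
        exact hQu
      · rw [← hgω]
        exact htr g hgT u ω hQu hreg
    · intro u _ u' _ h
      exact g.injective h
  obtain ⟨ω₀, hω₀, -⟩ := hΩ.nontriv
  have hω₀O : ω₀ ∈ O := (hOmem ω₀).mpr hω₀
  have hdc := Finset.sum_card_bipartiteAbove_eq_sum_card_bipartiteBelow Reg (s := S) (t := O)
  have hL : ∑ a ∈ S, (O.bipartiteAbove Reg a).card = N * R := by
    have h1 : ∀ u ∈ S, (O.bipartiteAbove Reg u).card = R := fun u hu => hcountU u hu
    rw [Finset.sum_congr rfl h1, Finset.sum_const, hScard, smul_eq_mul]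
  have hRt : ∑ b ∈ O, (S.bipartiteBelow Reg b).card =
      O.card * (S.filter (fun u => Reg u ω₀)).card := by
    have h1 : ∀ ω ∈ O, (S.bipartiteBelow Reg ω).card = (S.filter (fun u => Reg u ω₀)).card :=
      fun ω hω => le_antisymm (hle ω hω ω₀ hω₀O) (hle ω₀ hω₀O ω hω)
    rw [Finset.sum_congr rfl h1, Finset.sum_const, smul_eq_mul]
  rw [hL, hRt] at hdc
  have hcop : Nat.Coprime O.card N := by
    rw [← hcard, hOcard]
    exact (Nat.coprime_self_add_right).mpr (Nat.coprime_one_right _)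
  have hdvd : O.card ∣ R * N := by
    rw [mul_comm, hdc]
    exact Dvd.intro _ rfl
  have h1 := Nat.le_of_dvd hR0 (hcop.dvd_of_dvd_mul_right hdvd)
  omega

end action

end Cfsg.Agent.Lib.Helper55_MI2M_PHANTOM
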