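import Mathlib
import Cfsg.Agent.Lib.Helper22_MI2Defs
import Cfsg.Agent.Lib.Helper22_MI2MDefs
import Cfsg.Agent.Lib.Helper22_MI2_Dich
import Cfsg.Agent.Lib.Helper8_MI2_EXT
import Cfsg.Agent.Lib.Helper22_MI2G_WSET
import Cfsg.Agent.Lib.Helper22_MI2G_HYPORB
import Cfsg.Agent.Lib.Helper22_MI2G_INJ
import Cfsg.Agent.Lib.Helper22_MI2G_SCNT
import Cfsg.Agent.Lib.Helper22_MI2M_SubBound
import Cfsg.Agent.Lib.Helper55_MI2M_PHANTOM

set_option autoImplicit false

/-!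
S2147, q = 2 slice (helper22): the dichotomy for minus type (`AllSmall` or `FixOrReg` for every orbit with fewer than
`Smin m` points); the third possibility `|Ω| = Smin m - 1` is excluded by the integrality argument (package PHANTOM).
-/

namespace Cfsg.Agent.Lib.Helper22_MI2M_Dich

open Module Cfsg.Agent.Lib.Helper14_OmegaSimple Cfsg.Agent.Lib.Helper22_MI2Defs
  Cfsg.Agent.Lib.Helper22_MI2MDefs
  Cfsg.Agent.Lib.Helper44_QuadClass Cfsg.Agent.Lib.Helper94_Symp Cfsg.Agent.Lib.Helper94_OrthSmall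
  Cfsg.Agent.Lib.Helper22_MI2_Dich

variable {F V : Type*} [Field F] [AddCommGroup V] [Module F V]


section action

variable {X : Type*} [MulAction (V ≃ₗ[F] V) X]

theorem dichotomyM [Finite F] [FiniteDimensional F V] (Q : QuadraticForm F V) {m : ℕ}
    (hS : GSetting Q m (Mmin m)) (hm : 4 ≤ m) (Ω : Set X) (hΩ : IsOrbit Q Ω)
    (hn : Ω.ncard < Smin m) : AllSmall Q Ω ∨ FixOrReg Q Ω := by
  have hf2 := hS.f2
  have hnd := hS.nondeg
  have hdim5 : 5 ≤ finrank F V := by rw [hS.dim]; omega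
  have : Finite V := Module.finite_of_finite F
  obtain ⟨v, hv0, hQv⟩ := exists_singular Q (by omega)
  obtain ⟨v', hQv', hvv'⟩ := exists_hyperbolic_partner Q hnd hv0 hQv
  obtain ⟨k, rfl⟩ : ∃ k, m = k + 1 := ⟨m - 1, by omega⟩
  have hk3 : 3 ≤ k := by omega
  obtain ⟨hcompl, ν, hν, hW'⟩ :=
    Cfsg.Agent.Lib.Helper22_MI2G_WSET.gSetting_perp2 Q hS hQv hQv' hvv'
  obtain ⟨P, hP, hP2, hP4, hPM, hPS, hPS1, hPM1⟩ := numsM k (by omega)
  have hP4le : 4 ≤ P := by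
    rw [hP]
    calc 4 = 2 ^ 2 := by norm_num
      _ ≤ 2 ^ (k - 1) := Nat.pow_le_pow_right (by norm_num) (by omega)
  have hPP : 4 * P ≤ P * P := Nat.mul_le_mul_right P hP4le
  have hνeq : ν = Mmin k := by omega
  have hW : GSetting (resQ Q (perp2 Q v v')) k (Mmin k) := hνeq ▸ hW'
  obtain ⟨ext, hext⟩ := Cfsg.Agent.Lib.Helper8_MI2_EXT.exists_ext Q (perp2 Q v v') hcompl
  have hWdim : finrank F ↥(perp2 Q v v') = 2 * k := hW.dim
  -- numbers of singular vectors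
  have hσW : Nat.card {x : ↥(perp2 Q v v') // x ≠ 0 ∧ (resQ Q (perp2 Q v v')) x = 0} = Smin k := by
    have := (Cfsg.Agent.Lib.Helper22_MI2G_SCNT.card_singular (resQ Q (perp2 Q v v')) hW).2
    omega
  have hσV : Nat.card {x : V // x ≠ 0 ∧ Q x = 0} = Smin (k + 1) := by
    have := (Cfsg.Agent.Lib.Helper22_MI2G_SCNT.card_singular Q hS).2
    have e : 2 ^ (2 * (k + 1)) = 4 * 2 ^ (2 * k) := by ring
    omega
  -- the orbits under `U_v L`
  let Orb : X → Set X := fun ω => {ω' | ∃ (w : ↥(perp2 Q v v'))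
    (l : ↥(perp2 Q v v') ≃ₗ[F] ↥(perp2 Q v v')),
      l ∈ T (resQ Q (perp2 Q v v')) ∧ ω' = E Q v (w : V) • ext l • ω}
  have hOrbsub : ∀ ω ∈ Ω, Orb ω ⊆ Ω := by
    rintro ω hω ω' ⟨w, l, hl, rfl⟩
    have h1 := ((mem_perp Q v v').mp w.2).1
    exact hΩ.inv _ (E_mem_T Q hnd hdim5 hQv h1) _ (hΩ.inv _ (hext.map_T l hl) _ hω)
  have hOrbself : ∀ ω, ω ∈ Orb ω := by
    intro ω
    refine ⟨0, 1, Subgroup.one_mem _, ?_⟩
    rw [Submodule.coe_zero, E_zero_right Q hQv, map_one, one_smul, one_smul]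
  have hOrbfr : ∀ ω, ∀ ω' ∈ Orb ω, finrank F (fixSub Q hf2 v' hQv ω') =
      finrank F (fixSub Q hf2 v' hQv ω) := by
    rintro ω ω' ⟨w, l, hl, rfl⟩
    rw [fixSub_orbit Q hf2 hQv ext hext ω w l hl]
    exact LinearEquiv.finrank_map_eq l _
  have hINJ : ∀ ω, Nat.card (↥(perp2 Q v v') ⧸ fixSub Q hf2 v' hQv ω) *
      (subOrbit (resQ Q (perp2 Q v v')) (fixSub Q hf2 v' hQv ω)).ncard ≤ (Orb ω).ncard :=
    fun ω => Cfsg.Agent.Lib.Helper22_MI2G_INJ.orbit_lower_bound Q hS.toSett hm hQv hQv' hvv' ext hext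
      ω _ (fun w => Iff.rfl)
  have hOrbcard : ∀ ω ∈ Ω, (Orb ω).ncard ≤ Ω.ncard := fun ω hω =>
    Set.ncard_le_ncard (hOrbsub ω hω) hΩ.fin
  -- F1
  have hF1 : ∀ ω ∈ Ω, finrank F (fixSub Q hf2 v' hQv ω) = 0 ∨
      2 * k ≤ finrank F (fixSub Q hf2 v' hQv ω) + 1 := by
    intro ω hω
    by_contra hcon
    push Not at hcon
    have h1 : 1 ≤ finrank F (fixSub Q hf2 v' hQv ω) := by omega
    have h2 : finrank F (fixSub Q hf2 v' hQv ω) + 2 ≤ 2 * k := by omega
    have := Cfsg.Agent.Lib.Helper22_MI2M_SubBound.sub_bound_M (resQ Q (perp2 Q v v')) hW hk3 _ h1 h2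
    have h3 := (this.trans (hINJ ω)).trans (hOrbcard ω hω)
    omega
  -- transfer to an arbitrary singular vector
  have htransfer : ∀ u : V, u ≠ 0 → Q u = 0 → ∃ g ∈ T Q, g v = u := by
    intro u hu0 hQu
    obtain ⟨g, hg, c, hc0, hc⟩ := exists_mem_T_map Q hnd hdim5 hv0 hQv hu0 hQu
    rcases hf2 c with rfl | rfl
    · exact absurd rfl hc0
    · exact ⟨g, hg, by rw [hc, one_smul]⟩
  have hconj : ∀ g ∈ T Q, ∀ w : V, QuadraticMap.polar (⇑Q) v w = 0 → ∀ ω : X,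
      (E Q (g v) (g w) • ω = ω ↔ E Q v w • (g⁻¹ • ω) = g⁻¹ • ω) := by
    intro g hg w hw ω
    rw [← conj_E Q (T_le_oG Q hg) hQv hw, mul_smul, mul_smul]
    constructor
    · intro h
      have := congrArg (fun z => g⁻¹ • z) h
      simpa [inv_smul_smul] using this
    · intro h
      rw [h, smul_inv_smul]
  -- common preparation
  have hprep : ∀ u : V, u ≠ 0 → Q u = 0 → ∃ g ∈ T Q, g v = u ∧ ∀ ω : X,
      ∀ w : V, QuadraticMap.polar (⇑Q) u w = 0 →
        ∃ wt : ↥(perp2 Q v v'), ∃ c : F, w = g (wt : V) + c • u ∧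
          QuadraticMap.polar (⇑Q) v (g⁻¹ w) = 0 ∧ g⁻¹ w = (wt : V) + c • v ∧
          (E Q u w • ω = ω ↔ E Q v (wt : V) • (g⁻¹ • ω) = g⁻¹ • ω) := by
    intro u hu0 hQu
    obtain ⟨g, hg, hgv⟩ := htransfer u hu0 hQu
    refine ⟨g, hg, hgv, fun ω w hw => ?_⟩
    have hw₀ : QuadraticMap.polar (⇑Q) v (g⁻¹ w) = 0 := by
      rw [← oG_polar Q (T_le_oG Q hg) v (g⁻¹ w), hgv, apply_inv_apply']; exact hw
    obtain ⟨wt, c, hdec, hE⟩ := decomp_perp Q hQv hvv' hw₀
    refine ⟨wt, c, ?_, hw₀, hdec, ?_⟩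
    · have := congrArg g hdec
      rw [apply_inv_apply', map_add, map_smul, hgv] at this
      exact this
    · have h1 := hconj g hg (g⁻¹ w) hw₀ ω
      rw [hgv, apply_inv_apply', hE] at h1
      exact h1
  -- regularity at `u` in terms of `fixSub`
  have hv'v : QuadraticMap.polar (⇑Q) v' v = 1 := by rw [QuadraticMap.polar_comm, hvv']
  have hregiff : ∀ u : V, u ≠ 0 → Q u = 0 → ∃ g ∈ T Q, g v = u ∧ ∀ ω : X,
      ((∀ w : V, QuadraticMap.polar (⇑Q) u w = 0 → E Q u w • ω = ω → w = 0 ∨ w = u) ↔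
        finrank F (fixSub Q hf2 v' hQv (g⁻¹ • ω)) = 0) := by
    intro u hu0 hQu
    obtain ⟨g, hg, hgv, hw⟩ := hprep u hu0 hQu
    refine ⟨g, hg, hgv, fun ω => ⟨fun hreg => ?_, fun h0 => ?_⟩⟩
    · rw [Submodule.finrank_eq_zero, Submodule.eq_bot_iff]
      intro wt hwt
      have h1 := ((mem_perp Q v v').mp wt.2).1
      have h2 := (hconj g hg (wt : V) h1 ω).mpr hwt
      rw [hgv] at h2
      have hpol : QuadraticMap.polar (⇑Q) u (g (wt : V)) = 0 := by
        rw [← hgv, oG_polar Q (T_le_oG Q hg)]; exact h1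
      rcases hreg _ hpol h2 with h | h
      · have : (wt : V) = 0 := by
          have := congrArg (fun z => g⁻¹ z) h
          simpa using this
        exact Subtype.ext this
      · exfalso
        rw [← hgv] at h
        have hwv : (wt : V) = v := g.injective h
        have h3 := ((mem_perp Q v v').mp wt.2).2
        rw [hwv, hv'v] at h3
        exact one_ne_zero h3
    · intro w hwu hfix
      obtain ⟨wt, c, hdec, -, -, hiff⟩ := hw ω w hwu
      have hmem : wt ∈ fixSub Q hf2 v' hQv (g⁻¹ • ω) := hiff.mp hfix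
      have hbot : fixSub Q hf2 v' hQv (g⁻¹ • ω) = ⊥ := Submodule.finrank_eq_zero.mp h0
      rw [hbot, Submodule.mem_bot] at hmem
      rw [hmem, Submodule.coe_zero, map_zero, zero_add] at hdec
      rcases hf2 c with rfl | rfl
      · left; rw [hdec, zero_smul]
      · right; rw [hdec, one_smul]
  -- F3: a regular orbit and an orbit of length two cannot coexist
  have hF3 : (∃ ω₁ ∈ Ω, finrank F (fixSub Q hf2 v' hQv ω₁) = 0) →
      ∀ ω ∈ Ω, finrank F (fixSub Q hf2 v' hQv ω) + 1 ≠ 2 * k := by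
    rintro ⟨ω₁, hω₁, h0⟩ ω₂ hω₂ h2
    have hdisj : Disjoint (Orb ω₁) (Orb ω₂) := by
      rw [Set.disjoint_left]
      intro ω' h1' h2'
      have e1 := hOrbfr ω₁ ω' h1'
      have e2 := hOrbfr ω₂ ω' h2'
      omega
    have hfin1 : (Orb ω₁).Finite := hΩ.fin.subset (hOrbsub ω₁ hω₁)
    have hfin2 : (Orb ω₂).Finite := hΩ.fin.subset (hOrbsub ω₂ hω₂)
    -- lower bounds
    have hq1 := card_quot hf2 (fixSub Q hf2 v' hQv ω₁)
    rw [h0, pow_zero, mul_one, hWdim] at hq1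
    have hq2 := card_quot hf2 (fixSub Q hf2 v' hQv ω₂)
    rw [hWdim] at hq2
    have hq2' : Nat.card (↥(perp2 Q v v') ⧸ fixSub Q hf2 v' hQv ω₂) = 2 := by
      have e : 2 ^ (2 * k) = 2 * 2 ^ finrank F (fixSub Q hf2 v' hQv ω₂) := by
        rw [← h2, pow_succ]; ring
      rw [e] at hq2
      exact Nat.eq_of_mul_eq_mul_right (by positivity) hq2
    have ho1 : 1 ≤ (subOrbit (resQ Q (perp2 Q v v')) (fixSub Q hf2 v' hQv ω₁)).ncard := by
      have hfin : (subOrbit (resQ Q (perp2 Q v v')) (fixSub Q hf2 v' hQv ω₁)).Finite :=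
        Set.toFinite _
      rw [Nat.one_le_iff_ne_zero, Ne, Set.ncard_eq_zero hfin]
      intro he
      have : fixSub Q hf2 v' hQv ω₁ ∈
          subOrbit (resQ Q (perp2 Q v v')) (fixSub Q hf2 v' hQv ω₁) :=
        ⟨1, Subgroup.one_mem _, by simp⟩
      rw [he] at this
      exact this
    have ho2 := Cfsg.Agent.Lib.Helper22_MI2G_HYPORB.point_hyperplane_orbit
      (resQ Q (perp2 Q v v')) hW hk3
      (fixSub Q hf2 v' hQv ω₂) (Or.inr (by rw [hWdim] at *; exact h2)) (Smin k)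
      (by rw [hσW]) (by omega)
    have hb1 := hINJ ω₁
    have hb2 := hINJ ω₂
    rw [hq1] at hb1
    rw [hq2'] at hb2
    have hc1 : 2 ^ (2 * k) ≤ (Orb ω₁).ncard :=
      le_trans (by simpa using Nat.mul_le_mul_left (2 ^ (2 * k)) ho1) hb1
    have hc2 : 2 * Smin k ≤ (Orb ω₂).ncard := (Nat.mul_le_mul_left _ ho2).trans hb2
    -- the set of regular points
    obtain ⟨A, hA⟩ : ∃ A : Set X, A = {ω | ω ∈ Ω ∧ finrank F (fixSub Q hf2 v' hQv ω) = 0} :=
      ⟨_, rfl⟩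
    have hAsub : A ⊆ Ω := by rw [hA]; exact fun ω h => h.1
    have hAfin : A.Finite := hΩ.fin.subset hAsub
    have h1A : Orb ω₁ ⊆ A := by
      intro ω' h'
      rw [hA]
      exact ⟨hOrbsub ω₁ hω₁ h', by rw [hOrbfr ω₁ ω' h', h0]⟩
    have hdisjA : Disjoint A (Orb ω₂) := by
      rw [Set.disjoint_left]
      intro ω' h1' h2'
      rw [hA] at h1'
      have e2 := hOrbfr ω₂ ω' h2'
      have e1 := h1'.2
      omega
    have hunion : (A ∪ Orb ω₂).ncard ≤ Ω.ncard :=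
      Set.ncard_le_ncard (Set.union_subset hAsub (hOrbsub ω₂ hω₂)) hΩ.fin
    rw [Set.ncard_union_eq hdisjA hAfin hfin2] at hunion
    have hA1 : (Orb ω₁).ncard ≤ A.ncard := Set.ncard_le_ncard h1A hAfin
    -- the cardinalities
    have hcardΩ : Ω.ncard + 1 = Smin (k + 1) := by omega
    have hAcard : A.ncard = 2 ^ (2 * k) := by omega
    -- the phantom
    refine Cfsg.Agent.Lib.Helper55_MI2M_PHANTOM.phantom_false Q hS.toSett hm Ω hΩ (Smin (k + 1)) (2 ^ (2 * k)) hσV hcardΩ ?_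
      (by positivity) (by omega)
    intro u hu0 hQu
    obtain ⟨g, hg, hgv, hiff⟩ := hregiff u hu0 hQu
    have himg : {ω | ω ∈ Ω ∧ ∀ w : V, QuadraticMap.polar (⇑Q) u w = 0 → E Q u w • ω = ω →
        w = 0 ∨ w = u} = (fun ω => g • ω) '' A := by
      ext ω
      constructor
      · rintro ⟨hω, hreg⟩
        refine ⟨g⁻¹ • ω, ?_, by simp⟩
        rw [hA]
        exact ⟨hΩ.inv _ (Subgroup.inv_mem _ hg) _ hω, (hiff ω).mp hreg⟩
      · rintro ⟨ω', hω', rfl⟩
        rw [hA] at hω'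
        refine ⟨hΩ.inv _ hg _ hω'.1, ?_⟩
        apply (hiff (g • ω')).mpr
        rw [inv_smul_smul]
        exact hω'.2
    rw [himg, Set.ncard_image_of_injective _ (MulAction.injective g), hAcard]
  by_cases hreg : ∃ ω₁ ∈ Ω, finrank F (fixSub Q hf2 v' hQv ω₁) = 0
  · right
    intro u hu0 hQu ω hω
    obtain ⟨g, hg, hgv, hw⟩ := hprep u hu0 hQu
    have hω₀ : g⁻¹ • ω ∈ Ω := hΩ.inv _ (Subgroup.inv_mem _ hg) _ hω
    rcases hF1 _ hω₀ with h0 | h1
    · right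
      intro w hwu hfix
      obtain ⟨wt, c, hdec, -, -, hiff⟩ := hw ω w hwu
      have hmem : wt ∈ fixSub Q hf2 v' hQv (g⁻¹ • ω) := hiff.mp hfix
      have hbot : fixSub Q hf2 v' hQv (g⁻¹ • ω) = ⊥ := Submodule.finrank_eq_zero.mp h0
      rw [hbot, Submodule.mem_bot] at hmem
      rw [hmem, Submodule.coe_zero, map_zero, zero_add] at hdec
      rcases hf2 c with rfl | rfl
      · left; rw [hdec, zero_smul]
      · right; rw [hdec, one_smul]
    · left
      have hne := hF3 hreg _ hω₀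
      have hle : finrank F (fixSub Q hf2 v' hQv (g⁻¹ • ω)) ≤ 2 * k := by
        rw [← hWdim]; exact Submodule.finrank_le _
      have htop : fixSub Q hf2 v' hQv (g⁻¹ • ω) = ⊤ :=
        Submodule.eq_top_of_finrank_eq (by rw [hWdim]; omega)
      intro w hwu
      obtain ⟨wt, c, -, -, -, hiff⟩ := hw ω w hwu
      apply hiff.mpr
      have : wt ∈ fixSub Q hf2 v' hQv (g⁻¹ • ω) := by rw [htop]; trivial
      exact this
  · left
    push Not at hreg
    intro u hu0 hQu ω hω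
    obtain ⟨g, hg, hgv, hw⟩ := hprep u hu0 hQu
    have hω₀ : g⁻¹ • ω ∈ Ω := hΩ.inv _ (Subgroup.inv_mem _ hg) _ hω
    have h1 : 2 * k ≤ finrank F (fixSub Q hf2 v' hQv (g⁻¹ • ω)) + 1 :=
      (hF1 _ hω₀).resolve_left (hreg _ hω₀)
    obtain ⟨lamW, hlamW⟩ := exists_lam_of_codim_le_one (resQ Q (perp2 Q v v')) hW.nondeg
      (fixSub Q hf2 v' hQv (g⁻¹ • ω)) (by rw [hWdim]; exact h1)
    refine ⟨g (lamW : V), fun w hwu hlw => ?_⟩
    obtain ⟨wt, c, -, -, hdec, hiff⟩ := hw ω w hwu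
    apply hiff.mpr
    apply hlamW
    rw [polar_comp_subtype]
    have h2 : QuadraticMap.polar (⇑Q) (lamW : V) (g⁻¹ w) = 0 := by
      rw [← oG_polar Q (T_le_oG Q hg) (lamW : V) (g⁻¹ w), apply_inv_apply']; exact hlw
    have h3 : QuadraticMap.polar (⇑Q) (lamW : V) v = 0 := by
      rw [QuadraticMap.polar_comm]; exact ((mem_perp Q v v').mp lamW.2).1
    rw [hdec, QuadraticMap.polar_add_right, QuadraticMap.polar_smul_right, h3, smul_zero,
      add_zero] at h2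
    exact h2

end action

end Cfsg.Agent.Lib.Helper22_MI2M_Dich
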