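import Mathlib
import Cfsg.Agent.Lib.Helper22_MI2Defs
import Cfsg.Agent.Lib.Helper22_MI2MDefs
import Cfsg.Agent.Lib.Helper22_MI2G_HYPA
import Cfsg.Agent.Lib.Helper22_MI2G_HYPB
import Cfsg.Agent.Lib.Helper22_MI2G_REGA
import Cfsg.Agent.Lib.Helper22_MI2G_REGB
import Cfsg.Agent.Lib.Helper22_MI2G_REGC

set_option autoImplicit false

/-!
S2147, q = 2 slice (helper22): type-free copy of `Helper3_MI2_MAINABS.main_abstract_of` (helper3): the main abstract theorem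
from a dichotomy hypothesis for any bound `N ≤ 2^(2m-1)`.
-/

namespace Cfsg.Agent.Lib.Helper22_MI2M_MainAbs

open Module Cfsg.Agent.Lib.Helper14_OmegaSimple Cfsg.Agent.Lib.Helper22_MI2Defs
  Cfsg.Agent.Lib.Helper22_MI2MDefs

variable {F V : Type*} [Field F] [AddCommGroup V] [Module F V]

section action

variable {X : Type*} [MulAction (V ≃ₗ[F] V) X]

theorem main_abstract_of_G [Finite F] [FiniteDimensional F V] (Q : QuadraticForm F V) {m : ℕ}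
    (hS : Sett Q m) (hm : 4 ≤ m) (Ω : Set X) (hΩ : IsOrbit Q Ω) (N : ℕ)
    (hN : N ≤ 2 ^ (2 * m - 1))
    (hdich : Ω.ncard < N → AllSmall Q Ω ∨ FixOrReg Q Ω) :
    N ≤ Ω.ncard := by
  by_contra hlt
  push Not at hlt
  obtain ⟨ω₁, hω₁, g₁, hg₁, hmove⟩ := hΩ.nontriv
  rcases hdich hlt with hsmall | hB
  · -- case (A)
    have hA : ∀ v : V, v ≠ 0 → Q v = 0 → ∃ lam : V, ∀ w : V,
        QuadraticMap.polar (⇑Q) v w = 0 → QuadraticMap.polar (⇑Q) lam w = 0 →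
        E Q v w • ω₁ = ω₁ := fun v hv hQ => hsmall v hv hQ ω₁ hω₁
    by_cases hex : ∃ v₀ : V, v₀ ≠ 0 ∧ Q v₀ = 0 ∧
        ∀ w : V, QuadraticMap.polar (⇑Q) v₀ w = 0 → E Q v₀ w • ω₁ = ω₁
    · obtain ⟨v₀, hv₀, hQv₀, hfix⟩ := hex
      exact Cfsg.Agent.Lib.Helper22_MI2G_HYPB.hypB Q hS hm ω₁ hA hv₀ hQv₀ hfix ⟨g₁, hg₁, hmove⟩
    · push Not at hex
      exact Cfsg.Agent.Lib.Helper22_MI2G_HYPA.hypA Q hS hm ω₁ hA
        (fun v hv hQ => hex v hv hQ)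
  · -- case (B)
    have hreg := Cfsg.Agent.Lib.Helper22_MI2G_REGA.all_reg_of_fixOrReg Q hS hm Ω hΩ hB
    have hdim3 : 3 ≤ finrank F V := by rw [hS.dim]; omega
    obtain ⟨v, hv0, hQv⟩ := Cfsg.Agent.Lib.Helper44_QuadClass.exists_singular Q hdim3
    obtain ⟨v', hQv', hvv'⟩ :=
      Cfsg.Agent.Lib.Helper44_QuadClass.exists_hyperbolic_partner Q hS.nondeg hv0 hQv
    have hn : Ω.ncard < 2 ^ (2 * m - 1) := lt_of_lt_of_le hlt hN
    have htr := Cfsg.Agent.Lib.Helper22_MI2G_REGB.transitive_of_all_reg Q hS hm Ω hΩ hn hreg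
      hQv hQv' hvv'
    refine Cfsg.Agent.Lib.Helper22_MI2G_REGC.regC Q hS hm ω₁
      (fun u hu hQu w hw hfix => hreg u hu hQu ω₁ hω₁ w hw hfix) hQv hQv' hvv' ?_
    intro g hg
    exact htr (g • ω₁) (hΩ.inv g hg ω₁ hω₁) ω₁ hω₁

end action

end Cfsg.Agent.Lib.Helper22_MI2M_MainAbs
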