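import Mathlib
import Cfsg.Agent.Lib.Helper22_MI2Defs
import Cfsg.Agent.Lib.Helper22_MI2MDefs
import Cfsg.Agent.Lib.Helper14_POmegaSimple
import Cfsg.Agent.Lib.Helper5_QuadCount

set_option autoImplicit false

/-!
# MI2M package BRCNT (helper43 for helper22): the number of nonsingular vectors of the minus form over the field
with two elements.
-/

namespace Cfsg.Agent.Lib.Helper43_MI2M_BRCNT

open Module Cfsg.Agent.Lib.Helper14_OmegaSimple Cfsg.Agent.Lib.Helper22_MI2Defs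
  Cfsg.Agent.Lib.Helper22_MI2MDefs

/-- the binary part -/
def bin {F : Type*} [Field F] (a b : F) (z : Fin 2 → F) : F :=
  z 0 ^ 2 + a * z 0 * z 1 + b * z 1 ^ 2

/-- the singular vectors of the minus form, fibred over the binary part -/
def zeroEquiv {F : Type*} [Field F] (m : ℕ) (a b : F) :
    {x : (Fin m ⊕ Fin m) ⊕ Fin 2 → F // Cfsg.quadFormMinus m F a b x = 0} ≃
      Σ z : Fin 2 → F, {p : (Fin m → F) × (Fin m → F) // p.1 ⬝ᵥ p.2 = - bin a b z} where
  toFun x := ⟨fun j => x.1 (.inr j),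
    ⟨(fun i => x.1 (.inl (.inl i)), fun i => x.1 (.inl (.inr i))), by
      have h := x.2
      unfold Cfsg.quadFormMinus at h
      exact eq_neg_of_add_eq_zero_left h⟩⟩
  invFun s := ⟨Sum.elim (Sum.elim s.2.1.1 s.2.1.2) s.1, by
    have h := s.2.2
    unfold Cfsg.quadFormMinus
    show (∑ i : Fin m, s.2.1.1 i * s.2.1.2 i) + bin a b s.1 = 0
    have h' : (∑ i : Fin m, s.2.1.1 i * s.2.1.2 i) = - bin a b s.1 := h
    rw [h', neg_add_cancel]⟩
  left_inv x := by
    apply Subtype.ext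
    funext j
    rcases j with (j | j) | j <;> rfl
  right_inv s := rfl

theorem card_nonsing_quadFormMinus {F : Type*} [Field F] [Fintype F] (hF : Fintype.card F = 2) (m : ℕ)
    (a b : F) (hab : ∀ z₁ z₂ : F, z₁ ^ 2 + a * z₁ * z₂ + b * z₂ ^ 2 = 0 → z₁ = 0 ∧ z₂ = 0) :
    Nat.card {x : (Fin m ⊕ Fin m) ⊕ Fin 2 → F // Cfsg.quadFormMinus m F a b x ≠ 0} = Mmin (m + 1) := by
  classical
  have hf : ∀ z : Fin 2 → F, bin a b z = 0 ↔ z = 0 := by
    intro z
    constructor
    · intro h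
      obtain ⟨h0, h1⟩ := hab (z 0) (z 1) h
      funext j
      fin_cases j
      · exact h0
      · exact h1
    · rintro rfl
      simp [bin]
  have hz := Cfsg.Agent.Lib.Helper5_QuadCount.card_sigma_pairs (F := F) (bin a b) m 0 hf
  rw [← Nat.card_congr (zeroEquiv m a b), hF, Fintype.card_fun, Fintype.card_fin, hF] at hz
  rw [Nat.card_eq_fintype_card, Fintype.card_subtype_compl, ← Nat.card_eq_fintype_card (α := {x // _ = 0}),
    hz, Fintype.card_fun, hF, Fintype.card_sum, Fintype.card_sum, Fintype.card_fin, Fintype.card_fin]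
  unfold Mmin
  rcases m with _ | k
  · norm_num
  · have hP : 1 ≤ 2 ^ k := Nat.one_le_two_pow
    obtain ⟨P, hPdef⟩ : ∃ P, P = 2 ^ k := ⟨_, rfl⟩
    rw [← hPdef] at hP
    have e1 : 2 ^ (k + 1) = 2 * P := by rw [pow_succ, ← hPdef]; omega
    have e2 : 2 ^ (k + 1 + (k + 1) + 2) = 16 * (P * P) := by
      have : k + 1 + (k + 1) + 2 = k + k + 4 := by ring
      rw [this, pow_add, pow_add, ← hPdef]
      ring
    have e3 : 2 ^ (k + 1 + 1) = 4 * P := by rw [pow_succ, pow_succ, ← hPdef]; omega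
    have e4 : 2 ^ (k + 1 - 1) = P := by rw [Nat.add_sub_cancel, hPdef]
    have e5 : 2 ^ (k + 1 + 1 - 1) = 2 * P := by rw [Nat.add_sub_cancel, pow_succ, ← hPdef]; omega
    rw [e2, e1, e3, e4, e5]
    obtain ⟨r, rfl⟩ : ∃ r, P = r + 1 := ⟨P - 1, by omega⟩
    have e6 : 2 * (r + 1) - 1 = 2 * r + 1 := by omega
    rw [e6]
    have e7 : 2 * (r + 1) + 2 ^ 2 * ((2 * r + 1) * (r + 1)) + (2 * (r + 1) * (4 * (r + 1) + 1))
        = 16 * ((r + 1) * (r + 1)) := by ring
    omega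

end Cfsg.Agent.Lib.Helper43_MI2M_BRCNT
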