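import Mathlib

set_option autoImplicit false

namespace Cfsg.Agent.Lib.Helper52_MI2_BRORB

theorem coset_orbit {Γ : Type*} [Group Γ] [Finite Γ] (M G : Subgroup Γ) (hMG : M ≤ G) :
    ({x : Γ ⧸ M | ∃ g ∈ G, x = (g : Γ ⧸ M)} : Set (Γ ⧸ M)).ncard = M.relIndex G ∧
      (∀ g ∈ G, ∀ ω ∈ ({x : Γ ⧸ M | ∃ g ∈ G, x = (g : Γ ⧸ M)} : Set (Γ ⧸ M)),
        g • ω ∈ ({x : Γ ⧸ M | ∃ g ∈ G, x = (g : Γ ⧸ M)} : Set (Γ ⧸ M))) ∧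
      (∀ ω ∈ ({x : Γ ⧸ M | ∃ g ∈ G, x = (g : Γ ⧸ M)} : Set (Γ ⧸ M)),
        ∀ ω' ∈ ({x : Γ ⧸ M | ∃ g ∈ G, x = (g : Γ ⧸ M)} : Set (Γ ⧸ M)), ∃ g ∈ G, g • ω = ω') ∧
      (M ≠ G → ∃ ω ∈ ({x : Γ ⧸ M | ∃ g ∈ G, x = (g : Γ ⧸ M)} : Set (Γ ⧸ M)), ∃ g ∈ G, g • ω ≠ ω) := by
  refine ⟨?_, ?_, ?_, ?_⟩
  · have h1 : ({x : Γ ⧸ M | ∃ g ∈ G, x = (g : Γ ⧸ M)} : Set (Γ ⧸ M)) =
        MulAction.orbit G (((1 : Γ) : Γ ⧸ M)) := by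
      ext x
      constructor
      · rintro ⟨g, hg, rfl⟩
        refine ⟨⟨g, hg⟩, ?_⟩
        show ((g * 1 : Γ) : Γ ⧸ M) = _
        rw [mul_one]
      · rintro ⟨g, rfl⟩
        refine ⟨g, g.2, ?_⟩
        show ((g * 1 : Γ) : Γ ⧸ M) = _
        rw [mul_one]
    rw [h1, ← MulAction.index_stabilizer]
    have h2 : MulAction.stabilizer G (((1 : Γ) : Γ ⧸ M)) = M.subgroupOf G := by
      ext g
      rw [MulAction.mem_stabilizer_iff, Subgroup.mem_subgroupOf]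
      have : g • (((1 : Γ) : Γ ⧸ M)) = (((g : Γ) * 1 : Γ) : Γ ⧸ M) := rfl
      rw [this, mul_one, eq_comm, QuotientGroup.eq, inv_one, one_mul]
    rw [h2]
    rfl
  · rintro g hg ω ⟨h, hh, rfl⟩
    exact ⟨g * h, G.mul_mem hg hh, rfl⟩
  · rintro ω ⟨h, hh, rfl⟩ ω' ⟨h', hh', rfl⟩
    refine ⟨h' * h⁻¹, G.mul_mem hh' (G.inv_mem hh), ?_⟩
    show (((h' * h⁻¹) * h : Γ) : Γ ⧸ M) = _
    rw [inv_mul_cancel_right]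
  · intro hne
    have : ∃ g ∈ G, g ∉ M := by
      by_contra hcon
      push Not at hcon
      exact hne (le_antisymm hMG hcon)
    obtain ⟨g, hg, hgM⟩ := this
    refine ⟨((1 : Γ) : Γ ⧸ M), ⟨1, G.one_mem, rfl⟩, g, hg, ?_⟩
    intro h
    have h' : (((g * 1 : Γ)) : Γ ⧸ M) = ((1 : Γ) : Γ ⧸ M) := h
    rw [mul_one, eq_comm, QuotientGroup.eq, inv_one, one_mul] at h'
    exact hgM h'

end Cfsg.Agent.Lib.Helper52_MI2_BRORB
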