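import Mathlib
import Cfsg.Agent.Lib.Helper22_MI2Defs
import Cfsg.Agent.Lib.Helper22_MI2MDefs
import Cfsg.Agent.Lib.Helper14_POmegaSimple
import Cfsg.Agent.Lib.Helper14_MI2_BRLOW
import Cfsg.Agent.Lib.Helper14_MI2_BREX

/-!
# MI2M package BREX (architect helper22): the index `n` is attained by the stabiliser of a singular vector
(copy of helper14's `Helper14_MI2_BREX.exists_index_gen`)
-/

set_option autoImplicit false

namespace Cfsg.Agent.Lib.Helper55_MI2M_BREX

open Module Cfsg.Agent.Lib.Helper14_OmegaSimple Cfsg.Agent.Lib.Helper22_MI2Defs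
  Cfsg.Agent.Lib.Helper22_MI2MDefs Cfsg.Agent.Lib.Helper44_StdForms
  Cfsg.Agent.Lib.Helper14_POmegaSimple Cfsg.Agent.Lib.Helper14_SiegelOmega2
  Cfsg.Agent.Lib.Helper14_MI2_BRLOW Cfsg.Agent.Lib.Helper14_MI2_BREX

theorem exists_index_sing {F : Type*} [Field F] [Fintype F] {ι : Type} [Fintype ι] [DecidableEq ι]
    (Q : QuadraticForm F (ι → F))
    (hQ : (QuadraticMap.polarBilin Q).Nondegenerate) (hn : 5 ≤ Fintype.card ι) (n : ℕ)
    (hn2 : 2 ≤ n) (hf2 : ∀ c : F, c = 0 ∨ c = 1)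
    (hns : Nat.card {x : ι → F // x ≠ 0 ∧ Q x = 0} = n)
    (hlow : ∀ H : Subgroup (Cfsg.POmega F (⇑Q)), H ≠ ⊤ → n ≤ H.index) :
    ∃ H : Subgroup (Cfsg.POmega F (⇑Q)), H.index = n := by
  have hdim : 5 ≤ finrank F (ι → F) := by
    rw [Module.finrank_fintype_fun_eq_card]; exact hn
  -- a nonzero singular vector
  have hne : Nonempty {x : ι → F // x ≠ 0 ∧ Q x = 0} := by
    have : 0 < Nat.card {x : ι → F // x ≠ 0 ∧ Q x = 0} := by omega
    exact (Nat.card_pos_iff.1 this).1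
  obtain ⟨⟨x₀, hx₀0, hx₀⟩⟩ := hne
  -- the orbit of `x₀` under `T Q`
  have horb : MulAction.orbit ↥(T Q) x₀ = {y : ι → F | y ≠ 0 ∧ Q y = 0} := by
    ext y
    constructor
    · rintro ⟨g, rfl⟩
      have hg := T_le_oG Q g.2
      refine ⟨?_, ?_⟩
      · show (g : (ι → F) ≃ₗ[F] (ι → F)) x₀ ≠ 0
        intro h
        exact hx₀0 ((LinearEquiv.map_eq_zero_iff _).mp h)
      · show Q ((g : (ι → F) ≃ₗ[F] (ι → F)) x₀) = 0
        rw [hg x₀]
        exact hx₀
    · rintro ⟨hy0, hy⟩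
      obtain ⟨g, hg, c, hc, hgx⟩ := exists_mem_T_map Q hQ hdim hx₀0 hx₀ hy0 hy
      rcases hf2 c with h0 | h1
      · exact absurd h0 hc
      · rw [h1, one_smul] at hgx
        exact ⟨⟨g, hg⟩, hgx⟩
  have hSidx : (MulAction.stabilizer ↥(T Q) x₀).index = n := by
    rw [MulAction.index_stabilizer, horb, ← hns, ← Nat.card_coe_set_eq]
    rfl
  -- transport to `Ω`
  have hKidx : ((MulAction.stabilizer ↥(T Q) x₀).comap
      (omegaEquivT Q hQ hn).toMonoidHom).index = n := by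
    rw [Subgroup.index_comap_of_surjective _ (omegaEquivT Q hQ hn).surjective, hSidx]
  have hKne : (MulAction.stabilizer ↥(T Q) x₀).comap (omegaEquivT Q hQ hn).toMonoidHom ≠ ⊤ := by
    intro h
    rw [h, Subgroup.index_top] at hKidx
    omega
  have hperf : commutator ↥(Cfsg.Omega F (⇑Q)) = ⊤ := by
    have h1 := commutator_T_eq_top Q hQ hdim
    apply Subgroup.map_injective (f := (omegaEquivT Q hQ hn).toMonoidHom)
      (omegaEquivT Q hQ hn).injective
    rw [commutator_def, Subgroup.map_commutator,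
      Subgroup.map_top_of_surjective _ (omegaEquivT Q hQ hn).surjective, ← commutator_def, h1]
  have hHne := map_center_ne_top hperf _ hKne
  have hdvd := Subgroup.index_map_dvd ((MulAction.stabilizer ↥(T Q) x₀).comap
      (omegaEquivT Q hQ hn).toMonoidHom)
    (QuotientGroup.mk'_surjective (Subgroup.center ↥(Cfsg.Omega F (⇑Q))))
  rw [hKidx] at hdvd
  exact ⟨_, le_antisymm (Nat.le_of_dvd (by omega) hdvd) (hlow _ hHne)⟩

end Cfsg.Agent.Lib.Helper55_MI2M_BREX
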