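import Mathlib
import Cfsg.Agent.Lib.Helper22_MI2Defs
import Cfsg.Agent.Lib.Helper22_MI2MDefs
import Cfsg.Agent.Lib.Helper22_MI2M_MainAbs
import Cfsg.Agent.Lib.Helper52_MI2_BRORB
import Cfsg.Agent.Lib.Helper10_MI2_BRSET0
import Cfsg.Agent.Lib.Helper14_MI2_BRLOW
import Cfsg.Agent.Lib.Helper22_MI2G_SCNT
import Cfsg.Agent.Lib.Helper22_MI2M_Dich
import Cfsg.Agent.Lib.Helper43_MI2M_BRCNT
import Cfsg.Agent.Lib.Helper55_MI2M_BREX

set_option autoImplicit false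

/-!
S2147, q = 2 slice (helper22): every nontrivial orbit of `T Q` on any set has at least `Smin m` points, for a minus-type space
of dimension `2m ≥ 8` over the field with two elements; and the bridge to `POmega F (quadFormMinus (m-1) F a b)`.
-/

namespace Cfsg.Agent.Lib.Helper22_MI2M_Main

open Module Cfsg.Agent.Lib.Helper14_OmegaSimple Cfsg.Agent.Lib.Helper22_MI2Defs
  Cfsg.Agent.Lib.Helper22_MI2MDefs Cfsg.Agent.Lib.Helper44_StdForms


section abs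

variable {F V : Type*} [Field F] [AddCommGroup V] [Module F V]
variable {X : Type*} [MulAction (V ≃ₗ[F] V) X]

theorem Smin_le_pow (m : ℕ) (hm : 1 ≤ m) : Smin m ≤ 2 ^ (2 * m - 1) := by
  obtain ⟨P, hP, hP2, hP4, hPM, hPS, hPS1, hPM1⟩ := numsM m hm
  have e : 2 * 2 ^ (2 * m - 1) = 2 ^ (2 * m) := by
    obtain ⟨j, rfl⟩ : ∃ j, m = j + 1 := ⟨m - 1, by omega⟩
    have : 2 * (j + 1) - 1 = 2 * j + 1 := by omega
    rw [this]
    ring
  omega

/-- MAIN (minus type): every nontrivial orbit of `T Q` has at least `Smin m` points. -/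
theorem main_abstract_M [Finite F] [FiniteDimensional F V] (Q : QuadraticForm F V) {m : ℕ}
    (hS : GSetting Q m (Mmin m)) (hm : 4 ≤ m) (Ω : Set X) (hΩ : IsOrbit Q Ω) :
    Smin m ≤ Ω.ncard :=
  Cfsg.Agent.Lib.Helper22_MI2M_MainAbs.main_abstract_of_G Q hS.toSett hm Ω hΩ (Smin m)
    (Smin_le_pow m (by omega)) (Cfsg.Agent.Lib.Helper22_MI2M_Dich.dichotomyM Q hS hm Ω hΩ)

end abs

variable {F : Type*} [Field F] [Fintype F]

/-- the standard minus form over the field with two elements is a minus setting. -/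
theorem gSetting_qfMinus (hF : Fintype.card F = 2) (m : ℕ) (a b : F)
    (hab : ∀ z₁ z₂ : F, z₁ ^ 2 + a * z₁ * z₂ + b * z₂ ^ 2 = 0 → z₁ = 0 ∧ z₂ = 0) :
    GSetting (qfMinus m F a b) (m + 1) (Mmin (m + 1)) where
  f2 := Cfsg.Agent.Lib.Helper10_MI2_BRSET0.f2_cases hF
  nondeg := Cfsg.Agent.Lib.Helper14_POmegaSimple.nondegenerate_qfMinus m a b hab
  dim := by
    rw [Module.finrank_fintype_fun_eq_card, Fintype.card_sum, Fintype.card_sum, Fintype.card_fin,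
      Fintype.card_fin]
    ring
  ns := by
    rw [← Cfsg.Agent.Lib.Helper43_MI2M_BRCNT.card_nonsing_quadFormMinus hF m a b hab, coe_qfMinus]

theorem Smin_ge_two (m : ℕ) (hm : 4 ≤ m) : 2 ≤ Smin m := by
  unfold Smin
  have h1 : 2 ^ 3 ≤ 2 ^ (m - 1) := Nat.pow_le_pow_right (by norm_num) (by omega)
  have h3 : 2 ≤ 2 ^ (m - 1) - 1 := by omega
  calc 2 = 1 * 2 := by norm_num
    _ ≤ (2 ^ m + 1) * (2 ^ (m - 1) - 1) := Nat.mul_le_mul (Nat.le_add_left 1 _) h3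

/-- the `q = 2` slice of S2147. -/
theorem minus_two (hF : Fintype.card F = 2) (m : ℕ) (hm : 4 ≤ m) (a b : F)
    (hab : ∀ z₁ z₂ : F, z₁ ^ 2 + a * z₁ * z₂ + b * z₂ ^ 2 = 0 → z₁ = 0 ∧ z₂ = 0) :
    (∀ H : Subgroup (Cfsg.POmega F (Cfsg.quadFormMinus (m - 1) F a b)), H ≠ ⊤ →
        (2 ^ m + 1) * (2 ^ (m - 1) - 1) ≤ H.index) ∧
      (∃ H : Subgroup (Cfsg.POmega F (Cfsg.quadFormMinus (m - 1) F a b)),
        H.index = (2 ^ m + 1) * (2 ^ (m - 1) - 1)) := by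
  obtain ⟨k, rfl⟩ : ∃ k, m = k + 1 := ⟨m - 1, by omega⟩
  simp only [Nat.add_sub_cancel]
  have hset := gSetting_qfMinus hF k a b hab
  have hcard : 5 ≤ Fintype.card ((Fin k ⊕ Fin k) ⊕ Fin 2) := by
    rw [Fintype.card_sum, Fintype.card_sum, Fintype.card_fin, Fintype.card_fin]
    omega
  have habs : ∀ M : Subgroup ((((Fin k ⊕ Fin k) ⊕ Fin 2) → F) ≃ₗ[F] (((Fin k ⊕ Fin k) ⊕ Fin 2) → F)),
      M ≤ T (qfMinus k F a b) → M ≠ T (qfMinus k F a b) →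
        Smin (k + 1) ≤ M.relIndex (T (qfMinus k F a b)) := by
    intro M hM hne
    have : Finite ((((Fin k ⊕ Fin k) ⊕ Fin 2) → F) ≃ₗ[F] (((Fin k ⊕ Fin k) ⊕ Fin 2) → F)) :=
      Finite.of_injective (fun g => (g : (((Fin k ⊕ Fin k) ⊕ Fin 2) → F) →
        (((Fin k ⊕ Fin k) ⊕ Fin 2) → F))) DFunLike.coe_injective
    obtain ⟨h1, h2, h3, h4⟩ :=
      Cfsg.Agent.Lib.Helper52_MI2_BRORB.coset_orbit M (T (qfMinus k F a b)) hM
    rw [← h1]
    apply main_abstract_M (qfMinus k F a b) hset hm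
    exact ⟨Set.toFinite _, h2, h3, h4 hne⟩
  have hlow := Cfsg.Agent.Lib.Helper14_MI2_BRLOW.lower_gen (qfMinus k F a b) hset.nondeg hcard
    (Smin (k + 1)) habs
  have hσ : Nat.card {x : ((Fin k ⊕ Fin k) ⊕ Fin 2) → F // x ≠ 0 ∧ qfMinus k F a b x = 0} =
      Smin (k + 1) := by
    have := (Cfsg.Agent.Lib.Helper22_MI2G_SCNT.card_singular (qfMinus k F a b) hset).2
    obtain ⟨P, hP, hP2, hP4, hPM, hPS, hPS1, hPM1⟩ := numsM k (by omega)
    have e : 2 ^ (2 * (k + 1)) = 4 * 2 ^ (2 * k) := by ring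
    omega
  have hex := Cfsg.Agent.Lib.Helper55_MI2M_BREX.exists_index_sing (qfMinus k F a b) hset.nondeg hcard (Smin (k + 1))
    (Smin_ge_two (k + 1) hm) hset.f2 hσ hlow
  rw [coe_qfMinus] at hlow hex
  have hS : Smin (k + 1) = (2 ^ (k + 1) + 1) * (2 ^ k - 1) := by
    unfold Smin
    simp only [Nat.add_sub_cancel]
  rw [hS] at hlow hex
  exact ⟨hlow, hex⟩

/-- the `q = 2` slice of S2147, in the exact shape of the frozen statement. -/
theorem S2147_two {q : ℕ} (hF : Fintype.card F = q) (hq : q = 2) (m : ℕ) (hm : 4 ≤ m) (a b : F)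
    (hab : ∀ z₁ z₂ : F, z₁ ^ 2 + a * z₁ * z₂ + b * z₂ ^ 2 = 0 → z₁ = 0 ∧ z₂ = 0) :
    (∀ H : Subgroup (Cfsg.POmega F (Cfsg.quadFormMinus (m - 1) F a b)), H ≠ ⊤ →
        (q ^ m + 1) * (q ^ (m - 1) - 1) / (q - 1) ≤ H.index) ∧
      (∃ H : Subgroup (Cfsg.POmega F (Cfsg.quadFormMinus (m - 1) F a b)),
        H.index = (q ^ m + 1) * (q ^ (m - 1) - 1) / (q - 1)) := by
  subst hq
  have h := minus_two hF m hm a b hab
  have e : (2 ^ m + 1) * (2 ^ (m - 1) - 1) / (2 - 1) = (2 ^ m + 1) * (2 ^ (m - 1) - 1) := by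
    norm_num
  rw [e]
  exact h

end Cfsg.Agent.Lib.Helper22_MI2M_Main
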