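import Mathlib
import Cfsg.Agent.Lib.Helper22_MI2Defs

set_option autoImplicit false

/-!
MI2-HYPA (helper22's S2146 market): no point has all `U_v`-stabilisers of index at most two
(with a proper one for every `v`).
-/

namespace Cfsg.Agent.Lib.Helper70_MI2_HYPA

open Module Cfsg.Agent.Lib.Helper14_OmegaSimple Cfsg.Agent.Lib.Helper22_MI2Defs
open scoped commutatorElement

variable {F V : Type*} [Field F] [AddCommGroup V] [Module F V]

/-- The common kernel of three functionals `B(a,·)`, `B(b,·)`, `B(c,·)`. -/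
def ker3 (Q : QuadraticForm F V) (a b c : V) : Submodule F V :=
  LinearMap.ker (LinearMap.pi ![QuadraticMap.polarBilin Q a, QuadraticMap.polarBilin Q b,
    QuadraticMap.polarBilin Q c])

theorem mem_ker3 (Q : QuadraticForm F V) (a b c x : V) :
    x ∈ ker3 Q a b c ↔ QuadraticMap.polar (⇑Q) a x = 0 ∧ QuadraticMap.polar (⇑Q) b x = 0 ∧
      QuadraticMap.polar (⇑Q) c x = 0 := by
  unfold ker3
  rw [LinearMap.mem_ker]
  constructor
  · intro h
    have h0 := congrFun h 0
    have h1 := congrFun h 1
    have h2 := congrFun h 2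
    simp only [LinearMap.pi_apply, Matrix.cons_val_zero, Matrix.cons_val_one, Pi.zero_apply,
      QuadraticMap.polarBilin_apply_apply] at h0 h1
    simp only [LinearMap.pi_apply, Pi.zero_apply] at h2
    exact ⟨h0, h1, h2⟩
  · rintro ⟨h0, h1, h2⟩
    funext i
    fin_cases i
    · simpa using h0
    · simpa using h1
    · simpa using h2

theorem finrank_ker3 [FiniteDimensional F V] (Q : QuadraticForm F V) (a b c : V) :
    finrank F V ≤ finrank F (ker3 Q a b c) + 3 := by
  unfold ker3
  have h := LinearMap.finrank_range_add_finrank_ker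
    (LinearMap.pi ![QuadraticMap.polarBilin Q a, QuadraticMap.polarBilin Q b,
      QuadraticMap.polarBilin Q c])
  have hr : finrank F (LinearMap.range (LinearMap.pi ![QuadraticMap.polarBilin Q a,
      QuadraticMap.polarBilin Q b, QuadraticMap.polarBilin Q c])) ≤ 3 := by
    have := Submodule.finrank_le (LinearMap.range (LinearMap.pi ![QuadraticMap.polarBilin Q a,
      QuadraticMap.polarBilin Q b, QuadraticMap.polarBilin Q c]))
    simpa using this
  omega

section action

variable {X : Type*} [MulAction (V ≃ₗ[F] V) X]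

theorem hypA [Finite F] [FiniteDimensional F V] (Q : QuadraticForm F V) {m : ℕ}
    (hS : PlusSetting Q m) (hm : 4 ≤ m) (ω : X)
    (hA : ∀ v : V, v ≠ 0 → Q v = 0 → ∃ lam : V, ∀ w : V,
      QuadraticMap.polar (⇑Q) v w = 0 → QuadraticMap.polar (⇑Q) lam w = 0 → E Q v w • ω = ω)
    (hno : ∀ v : V, v ≠ 0 → Q v = 0 → ∃ w : V, QuadraticMap.polar (⇑Q) v w = 0 ∧ E Q v w • ω ≠ ω) :
    False := by
  classical
  have hQ := hS.nondeg
  have hdimV : finrank F V = 2 * m := hS.dim
  have hdim5 : 5 ≤ finrank F V := by omega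
  -- characteristic two
  have h2 : (2 : F) = 0 := by
    rcases hS.f2 (2 : F) with h | h
    · exact h
    · exfalso
      have : (1 : F) = 0 := by linear_combination h
      exact one_ne_zero this
  have hneg : ∀ x : V, -x = x := by
    intro x
    have : x + x = 0 := by
      have : (2 : F) • x = 0 := by rw [h2, zero_smul]
      rwa [two_smul] at this
    exact neg_eq_of_add_eq_zero_left this
  -- a singular vector
  obtain ⟨v, hv0, hv⟩ := Cfsg.Agent.Lib.Helper44_QuadClass.exists_singular Q (by omega)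
  -- a singular v' ⟂ v with E v v' moving ω
  obtain ⟨v', hv', hvv', hmove⟩ : ∃ v' : V, Q v' = 0 ∧ QuadraticMap.polar (⇑Q) v v' = 0 ∧
      E Q v v' • ω ≠ ω := by
    obtain ⟨w, hvw, hw⟩ := hno v hv0 hv
    by_cases hz : w ∈ Submodule.span F {v}
    · exfalso
      obtain ⟨a, rfl⟩ := Submodule.mem_span_singleton.mp hz
      have h0 : QuadraticMap.polar (⇑Q) v 0 = 0 := by simp [QuadraticMap.polar]
      have := E_add_smul Q hv h0 a
      rw [zero_add] at this
      rw [this, E_zero_right Q hv, one_smul] at hw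
      exact hw rfl
    obtain ⟨s, hs, hus, hsz⟩ :=
      Cfsg.Agent.Lib.Helper14_Siegel.exists_singular_orth_polar Q hQ hdim5 hv0 hv hvw hz (Q w)
    have hzs : Q (w - s) = 0 := by
      rw [Cfsg.Agent.Lib.Helper14_OmegaSimple.map_sub', hs, QuadraticMap.polar_comm, hsz]; ring
    have huzs : QuadraticMap.polar (⇑Q) v (w - s) = 0 := by
      rw [QuadraticMap.polar_sub_right, hvw, hus, sub_zero]
    have hprod : E Q v w = E Q v s * E Q v (w - s) := by
      rw [E_mul Q hv hus huzs]
      congr 1; abel
    by_cases h1 : E Q v s • ω = ω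
    · by_cases h3 : E Q v (w - s) • ω = ω
      · exfalso
        apply hw
        rw [hprod, mul_smul, h3, h1]
      · exact ⟨w - s, hzs, huzs, h3⟩
    · exact ⟨s, hs, hus, h1⟩
  have hv'0 : v' ≠ 0 := by
    rintro rfl
    rw [E_zero_right Q hv, one_smul] at hmove
    exact hmove rfl
  have hv'v : QuadraticMap.polar (⇑Q) v' v = 0 := by rw [QuadraticMap.polar_comm]; exact hvv'
  -- symmetry E v v' = E v' v
  have hsymm : E Q v' v = E Q v v' := by
    ext x
    rw [E_apply Q hv' hv'v, E_apply Q hv hvv', hv, hv', zero_mul, zero_mul, zero_smul, zero_smul,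
      sub_zero, sub_zero]
    have e1 : x + QuadraticMap.polar (⇑Q) x v' • v - QuadraticMap.polar (⇑Q) x v • v' =
        x + QuadraticMap.polar (⇑Q) x v' • v + -(QuadraticMap.polar (⇑Q) x v • v') := by abel
    have e2 : x + QuadraticMap.polar (⇑Q) x v • v' - QuadraticMap.polar (⇑Q) x v' • v =
        x + QuadraticMap.polar (⇑Q) x v • v' + -(QuadraticMap.polar (⇑Q) x v' • v) := by abel
    rw [e1, e2, hneg, hneg]
    abel
  obtain ⟨lam, hlam⟩ := hA v hv0 hv
  obtain ⟨lam', hlam'⟩ := hA v' hv'0 hv'
  -- key orthogonality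
  have hkey : ∀ w ∈ ker3 Q v v' lam, ∀ w' ∈ ker3 Q v v' lam',
      QuadraticMap.polar (⇑Q) w w' = 0 := by
    intro w hw w' hw'
    rw [mem_ker3] at hw hw'
    obtain ⟨hvw, hv'w, hlw⟩ := hw
    obtain ⟨hvw', hv'w', hlw'⟩ := hw'
    by_contra hne
    have hone : QuadraticMap.polar (⇑Q) w w' = 1 := (hS.f2 _).resolve_left hne
    have hg : E Q v w • ω = ω := hlam w hvw hlw
    have hh : E Q v' w' • ω = ω := hlam' w' hv'w' hlw'
    have hgO := E_mem_oG Q hv hvw
    -- conjugate
    have hgv' : E Q v w v' = v' := by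
      rw [E_apply Q hv hvw, hv'v, hv'w]
      simp
    have hgw' : E Q v w w' = w' + v := by
      rw [E_apply Q hv hvw, QuadraticMap.polar_comm _ w' v, hvw', QuadraticMap.polar_comm _ w' w,
        hone]
      simp only [zero_smul, add_zero, one_smul, mul_zero, sub_zero]
      rw [sub_eq_add_neg, hneg]
    have hconj : E Q v w * E Q v' w' * (E Q v w)⁻¹ = E Q v' (w' + v) := by
      rw [conj_E Q hgO hv' hv'w', hgv', hgw']
    have hcomm : E Q v w * E Q v' w' * (E Q v w)⁻¹ * (E Q v' w')⁻¹ = E Q v' v := by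
      rw [hconj, E_inv Q hv' hv'w', E_mul Q hv' (by
        rw [QuadraticMap.polar_add_right, hv'w', hv'v, add_zero]) (by
        rw [QuadraticMap.polar_neg_right, hv'w', neg_zero])]
      congr 1
      abel
    apply hmove
    rw [← hsymm, ← hcomm, mul_smul, mul_smul, mul_smul, inv_smul_eq_iff.mpr hh.symm,
      inv_smul_eq_iff.mpr hg.symm, hh, hg]
  -- dimension count
  have hle : ker3 Q v v' lam' ≤
      LinearMap.BilinForm.orthogonal (QuadraticMap.polarBilin Q) (ker3 Q v v' lam) := by
    intro w' hw' w hw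
    show QuadraticMap.polarBilin Q w w' = 0
    rw [QuadraticMap.polarBilin_apply_apply]
    exact hkey w hw w' hw'
  have horth := LinearMap.BilinForm.finrank_orthogonal hQ (ker3 Q v v' lam)
  have h1 := finrank_ker3 Q v v' lam
  have h1' := finrank_ker3 Q v v' lam'
  have h3 := Submodule.finrank_mono hle
  have h4 := Submodule.finrank_le (ker3 Q v v' lam)
  omega

end action

end Cfsg.Agent.Lib.Helper70_MI2_HYPA
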