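import Mathlib
import Cfsg.Agent.Lib.Helper22_MI2Defs
import Cfsg.Agent.Lib.Helper22_MI2_SubC
import Cfsg.Agent.Lib.Helper70_MI2_HYPA
import Cfsg.Agent.Lib.Helper47_MI2_HYPB
import Cfsg.Agent.Lib.Helper63_MI2_REGA
import Cfsg.Agent.Lib.Helper63_MI2_REGB

set_option autoImplicit false

/-!
MI2-MAINABS (helper22's S2146 market, second wave): the main abstract theorem from the dichotomy
hypothesis and the four contradiction packages (hypA, hypB, REGA, REGB) plus the regC hypothesis.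
-/

namespace Cfsg.Agent.Lib.Helper3_MI2_MAINABS

open Module Cfsg.Agent.Lib.Helper14_OmegaSimple Cfsg.Agent.Lib.Helper22_MI2Defs

variable {F V : Type*} [Field F] [AddCommGroup V] [Module F V]

/-- `Nmin m < 2^(2m-1)` for `m ≥ 1`. -/
theorem Nmin_lt_pow (m : ℕ) (hm : 1 ≤ m) : Nmin m < 2 ^ (2 * m - 1) := by
  unfold Nmin
  have h1 : 2 * m - 1 = (m - 1) + m := by omega
  rw [h1, pow_add]
  have hpos : 0 < 2 ^ (m - 1) := by positivity
  have hpos2 : 0 < 2 ^ m := by positivity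
  have : 2 ^ m - 1 < 2 ^ m := by omega
  exact Nat.mul_lt_mul_of_pos_left this hpos

section action

variable {X : Type*} [MulAction (V ≃ₗ[F] V) X]

theorem main_abstract_of [Finite F] [FiniteDimensional F V] (Q : QuadraticForm F V) {m : ℕ}
    (hS : PlusSetting Q m) (hm : 4 ≤ m) (Ω : Set X) (hΩ : IsOrbit Q Ω)
    (hdich : Ω.ncard < Nmin m → AllSmall Q Ω ∨ FixOrReg Q Ω)
    (hregC : ∀ ω : X,
      (∀ u : V, u ≠ 0 → Q u = 0 → ∀ w : V, QuadraticMap.polar (⇑Q) u w = 0 →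
        E Q u w • ω = ω → w = 0 ∨ w = u) →
      ∀ v v' : V, Q v = 0 → Q v' = 0 → QuadraticMap.polar (⇑Q) v v' = 1 →
      (∀ g ∈ T Q, ∃ w ∈ perp2 Q v v', E Q v w • (g • ω) = ω) → False) :
    Nmin m ≤ Ω.ncard := by
  by_contra hlt
  push Not at hlt
  obtain ⟨ω₁, hω₁, g₁, hg₁, hmove⟩ := hΩ.nontriv
  rcases hdich hlt with hsmall | hB
  · -- case (A)
    have hA : ∀ v : V, v ≠ 0 → Q v = 0 → ∃ lam : V, ∀ w : V,
        QuadraticMap.polar (⇑Q) v w = 0 → QuadraticMap.polar (⇑Q) lam w = 0 →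
        E Q v w • ω₁ = ω₁ := fun v hv hQ => hsmall v hv hQ ω₁ hω₁
    by_cases hex : ∃ v₀ : V, v₀ ≠ 0 ∧ Q v₀ = 0 ∧
        ∀ w : V, QuadraticMap.polar (⇑Q) v₀ w = 0 → E Q v₀ w • ω₁ = ω₁
    · obtain ⟨v₀, hv₀, hQv₀, hfix⟩ := hex
      exact Cfsg.Agent.Lib.Helper47_MI2_HYPB.hypB Q hS hm ω₁ hA hv₀ hQv₀ hfix ⟨g₁, hg₁, hmove⟩
    · push Not at hex
      exact Cfsg.Agent.Lib.Helper70_MI2_HYPA.hypA Q hS hm ω₁ hA
        (fun v hv hQ => hex v hv hQ)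
  · -- case (B)
    have hreg := Cfsg.Agent.Lib.Helper63_MI2_REGA.all_reg_of_fixOrReg Q hS hm Ω hΩ hB
    have hdim3 : 3 ≤ finrank F V := by rw [hS.dim]; omega
    obtain ⟨v, hv0, hQv⟩ := Cfsg.Agent.Lib.Helper44_QuadClass.exists_singular Q hdim3
    obtain ⟨v', hQv', hvv'⟩ :=
      Cfsg.Agent.Lib.Helper44_QuadClass.exists_hyperbolic_partner Q hS.nondeg hv0 hQv
    have hn : Ω.ncard < 2 ^ (2 * m - 1) := lt_trans hlt (Nmin_lt_pow m (by omega))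
    have htr := Cfsg.Agent.Lib.Helper63_MI2_REGB.transitive_of_all_reg Q hS hm Ω hΩ hn hreg
      hQv hQv' hvv'
    refine hregC ω₁ (fun u hu hQu w hw hfix => hreg u hu hQu ω₁ hω₁ w hw hfix) v v' hQv hQv' hvv' ?_
    intro g hg
    exact htr (g • ω₁) (hΩ.inv g hg ω₁ hω₁) ω₁ hω₁

end action

end Cfsg.Agent.Lib.Helper3_MI2_MAINABS
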