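import Mathlib
import Cfsg.Agent.Lib.Helper22_MI2Defs
import Cfsg.Agent.Lib.Helper55_MI2_REGC
import Cfsg.Agent.Lib.Helper42_MI2_TRNS
import Cfsg.Agent.Lib.Helper52_MI2_BRORB
import Cfsg.Agent.Lib.Helper10_MI2_BRSET
import Cfsg.Agent.Lib.Helper14_MI2_BRLOW
import Cfsg.Agent.Lib.Helper14_MI2_BREX
import Cfsg.Agent.Lib.Helper22_MI2_Dich
import Cfsg.Agent.Lib.Helper3_MI2_MAINABS

set_option autoImplicit false

/-!
S2146 (helper22, architect): the main abstract theorem (every nontrivial orbit of `T Q` on any set has at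
least `Nmin m` points, for a plus-type space of dimension `2m ≥ 8` over the field with two elements), and
the bridge to `POmega F (quadFormPlus m F)`.
-/

namespace Cfsg.Agent.Lib.Helper22_MI2_Main

open Module Cfsg.Agent.Lib.Helper14_OmegaSimple Cfsg.Agent.Lib.Helper22_MI2Defs
  Cfsg.Agent.Lib.Helper44_StdForms

section abs

variable {F V : Type*} [Field F] [AddCommGroup V] [Module F V]
variable {X : Type*} [MulAction (V ≃ₗ[F] V) X]


/-- MAIN: every nontrivial orbit of `T Q` has at least `Nmin m` points. -/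
theorem main_abstract [Finite F] [FiniteDimensional F V] (Q : QuadraticForm F V) {m : ℕ}
    (hS : PlusSetting Q m) (hm : 4 ≤ m) (Ω : Set X) (hΩ : IsOrbit Q Ω) : Nmin m ≤ Ω.ncard :=
  Cfsg.Agent.Lib.Helper3_MI2_MAINABS.main_abstract_of Q hS hm Ω hΩ (Cfsg.Agent.Lib.Helper22_MI2_Dich.dichotomy Q hS hm Ω hΩ)
    (fun ω hreg _ _ hv hv' hvv' htr =>
      Cfsg.Agent.Lib.Helper55_MI2_REGC.regC Q hS hm ω hreg hv hv' hvv' htr)

end abs

/-- S2146 in terms of `Nmin`. -/
theorem min_index {F : Type*} [Field F] [Fintype F] (hF : Fintype.card F = 2) (m : ℕ)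
    (hm : 4 ≤ m) :
    (∀ H : Subgroup (Cfsg.POmega F (Cfsg.quadFormPlus m F)), H ≠ ⊤ → Nmin m ≤ H.index) ∧
      (∃ H : Subgroup (Cfsg.POmega F (Cfsg.quadFormPlus m F)), H.index = Nmin m) := by
  have hset := Cfsg.Agent.Lib.Helper10_MI2_BRSET.plusSetting_qfPlus hF m (by omega)
  have habs : ∀ M : Subgroup ((Fin m ⊕ Fin m → F) ≃ₗ[F] (Fin m ⊕ Fin m → F)),
      M ≤ T (qfPlus m F) → M ≠ T (qfPlus m F) → Nmin m ≤ M.relIndex (T (qfPlus m F)) := by
    intro M hM hne
    have : Finite ((Fin m ⊕ Fin m → F) ≃ₗ[F] (Fin m ⊕ Fin m → F)) :=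
      Finite.of_injective (fun g => (g : (Fin m ⊕ Fin m → F) → (Fin m ⊕ Fin m → F)))
        DFunLike.coe_injective
    obtain ⟨h1, h2, h3, h4⟩ :=
      Cfsg.Agent.Lib.Helper52_MI2_BRORB.coset_orbit M (T (qfPlus m F)) hM
    rw [← h1]
    apply main_abstract (qfPlus m F) hset hm
    exact ⟨Set.toFinite _, h2, h3, h4 hne⟩
  have hlow := Cfsg.Agent.Lib.Helper14_MI2_BRLOW.lower_of_abstract m hm (Nmin m) habs
  refine ⟨hlow, ?_⟩
  apply Cfsg.Agent.Lib.Helper14_MI2_BREX.exists_index hF m hm hset _ hlow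
  intro x y hx hxy
  have h2 : (2 : F) = 0 := by
    rcases hset.f2 2 with h | h
    · exact h
    · exfalso
      have : (1 : F) = 0 := by linear_combination h
      exact one_ne_zero this
  apply Cfsg.Agent.Lib.Helper42_MI2_TRNS.exists_mem_T_map_nonsing (qfPlus m F) hset.nondeg _ h2 hx
    hxy
  rw [hset.dim]; omega

end Cfsg.Agent.Lib.Helper22_MI2_Main
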