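import Mathlib
import Cfsg.Agent.Lib.Helper95_OPDefs
import Cfsg.Agent.Lib.Helper95_OPBasic
import Cfsg.Agent.Lib.Helper91_MIO_CNTMINUS

set_option autoImplicit false

/-!
Definitions for the main line of S2346 (helper22; base block: helper30): minimal degree of a non-trivial
irreducible complex representation of `Ω⁻_{2n}(q)`, `n ≥ 4`, ALL `q`.

Vocabulary of helper95's S2345 (`Helper95_OPDefs`: `T Q`, `repE`, `wsp`, `WData`, `LeviHom`, `sigmaRep`,
`MinDegT`).  New: `dminus`, `sgm`, `nu`, `IsMinus`, `longRoot`, and the weight data `LData` with ONE level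
set `{u ≠ 0 | Qp u = c}` of multiplicity one (`c = 0`: the singular labels, `c ≠ 0`: a non-singular level).
-/

namespace Cfsg.Agent.Lib.Helper22_OMDefs

open Module Cfsg.Agent.Lib.Helper94_OrthSmall Cfsg.Agent.Lib.Helper44_QuadClass
  Cfsg.Agent.Lib.Helper14_OmegaSimple Cfsg.Agent.Lib.Helper38_MIODefs
  Cfsg.Agent.Lib.Helper95_OPDefs Cfsg.Agent.Lib.Helper95_OPBasic

/-- The target degree `d⁻_n = (q^n + 1)(q^(n-1) - q)/(q^2 - 1)`. -/
def dminus (q n : ℕ) : ℕ := (q ^ n + 1) * (q ^ (n - 1) - q) / (q ^ 2 - 1)

/-- The number of non-zero singular vectors of a minus-type space of dimension `2m`. -/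
def sgm (q m : ℕ) : ℕ := q ^ (2 * m - 1) - q ^ m + q ^ (m - 1) - 1

/-- The number of vectors of a given non-zero norm in a minus-type space of dimension `2m`. -/
def nu (q m : ℕ) : ℕ := q ^ (2 * m - 1) + q ^ (m - 1)

section defs

variable {F V : Type*} [Field F] [AddCommGroup V] [Module F V]

/-- Minus type of rank `m` (dimension `2m`, Witt index `m - 1`), recognised by the level-set counts (the shape
used by `Helper91_MIO_CNTMINUS.counts_perp_minus`). -/
structure IsMinus [Fintype F] (Q : QuadraticForm F V) (m : ℕ) : Prop where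
  nondeg : (QuadraticMap.polarBilin Q).Nondegenerate
  dim : finrank F V = 2 * m
  zeros : Nat.card {x : V // Q x = 0} =
    Fintype.card F ^ (2 * m - 1) - Fintype.card F ^ m + Fintype.card F ^ (m - 1)
  level : ∀ c : F, c ≠ 0 →
    Nat.card {x : V // Q x = c} = Fintype.card F ^ (2 * m - 1) + Fintype.card F ^ (m - 1)

variable (Q : QuadraticForm F V)

/-- The long root elements `E Q y z` (`y, z` independent, singular, orthogonal). -/
def longRoot : Set (V ≃ₗ[F] V) :=
  {g | ∃ y z : V, y ≠ 0 ∧ Q y = 0 ∧ Q z = 0 ∧ QuadraticMap.polar (⇑Q) y z = 0 ∧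
    z ∉ Submodule.span F {y} ∧ g = E Q y z}

/-- The numerical weight data with one level set: the labels `u ≠ 0` with `Qp u = c` have multiplicity one,
the other non-zero labels do not occur, the label `0` has multiplicity `f`. -/
structure LData {X : Type*} [AddCommGroup X] [Module ℂ X] (ρ : Representation ℂ ↥(T Q) X)
    (ψ : AddChar F ℂ) (v v' : V) (c : F) (f : ℕ) : Prop where
  he : ∀ u : ↥(perp Q v v'), u ≠ 0 → Qp Q v v' u = c → finrank ℂ (wsp Q ρ ψ v v' u) = 1
  hns : ∀ u : ↥(perp Q v v'), u ≠ 0 → Qp Q v v' u ≠ c → wsp Q ρ ψ v v' u = ⊥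
  hf : finrank ℂ (wsp Q ρ ψ v v' 0) = f
  hD : finrank ℂ X = f + Nat.card {u : ↥(perp Q v v') // u ≠ 0 ∧ Qp Q v v' u = c}

/-- For `c = 0` this is helper95's `WData` with `e = 1`. -/
theorem LData.toWData {X : Type*} [AddCommGroup X] [Module ℂ X] {ρ : Representation ℂ ↥(T Q) X}
    {ψ : AddChar F ℂ} {v v' : V} {f : ℕ} (h : LData Q ρ ψ v v' 0 f) : WData Q ρ ψ v v' 1 f where
  he := h.he
  hns := by
    intro u hu
    apply h.hns u _ hu
    rintro rfl
    exact hu (map_zero _)
  hf := h.hf
  hD := by rw [one_mul]; exact h.hD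

end defs

section counts

variable {F V : Type*} [Field F] [Fintype F] [AddCommGroup V] [Module F V] [FiniteDimensional F V]

/-- The complement of a hyperbolic pair in a minus-type space of rank `m` is of minus type of rank `m - 1`. -/
theorem isMinus_perp (Q : QuadraticForm F V) (m : ℕ) (hm : 2 ≤ m) (hP : IsMinus Q m) {v v' : V}
    (hv : Q v = 0) (hv' : Q v' = 0) (hvv' : QuadraticMap.polar (⇑Q) v v' = 1) :
    IsMinus (Qp Q v v') (m - 1) := by
  have hdW : finrank F ↥(perp Q v v') = 2 * (m - 1) := by
    have h1 := finrank_perp hv hv' hvv'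
    have h2 := hP.dim
    omega
  obtain ⟨hZ, _, hL⟩ := Cfsg.Agent.Lib.Helper91_MIO_CNTMINUS.counts_perp_minus Q hv hv' hvv' m hm hdW
    hP.zeros hP.level
  exact ⟨nondegenerate_perp hP.nondeg hv hv' hvv', hdW, hZ, hL⟩

/-- The number of non-zero singular vectors of a minus-type space. -/
theorem card_sing (Q : QuadraticForm F V) (m : ℕ) (hP : IsMinus Q m) :
    Nat.card {u : V // u ≠ 0 ∧ Q u = 0} = sgm (Fintype.card F) m := by
  classical
  have h1 : Nat.card {x : V // Q x = 0} = Nat.card {u : V // u ≠ 0 ∧ Q u = 0} + 1 := by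
    have : Finite V := Module.finite_of_finite F
    have e : {x : V // Q x = 0} ≃ Option {u : V // u ≠ 0 ∧ Q u = 0} :=
      { toFun := fun x => if h : (x : V) = 0 then none else some ⟨x, h, x.2⟩
        invFun := fun o => match o with
          | none => ⟨0, map_zero Q⟩
          | some u => ⟨u, u.2.2⟩
        left_inv := by
          intro x
          by_cases h : (x : V) = 0
          · simp only [h, dite_true]
            exact Subtype.ext h.symm
          · simp only [h, dite_false]
        right_inv := by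
          intro o
          cases o with
          | none => simp
          | some u =>
            have : (u : V) ≠ 0 := u.2.1
            simp [this] }
    rw [Nat.card_congr e, Finite.card_option]
  have h2 := hP.zeros
  unfold sgm
  omega

/-- The number of vectors of norm `c ≠ 0` in a minus-type space. -/
theorem card_level (Q : QuadraticForm F V) (m : ℕ) (hP : IsMinus Q m) (c : F) (hc : c ≠ 0) :
    Nat.card {u : V // u ≠ 0 ∧ Q u = c} = nu (Fintype.card F) m := by
  unfold nu
  rw [← hP.level c hc]
  apply Nat.card_congr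
  apply Equiv.subtypeEquivRight
  intro u
  constructor
  · exact fun h => h.2
  · intro h
    refine ⟨?_, h⟩
    rintro rfl
    rw [map_zero] at h
    exact hc h.symm

end counts

end Cfsg.Agent.Lib.Helper22_OMDefs
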