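import Mathlib
import Cfsg.Agent.Lib.Helper30_OMDefs
import Cfsg.Agent.Lib.Helper10_MIO_CNTD

set_option autoImplicit false
set_option linter.unusedVariables false
set_option linter.unusedSectionVars false
set_option linter.unusedSimpArgs false

/-!
# OM-CNTFIX (helper2, package of helper30's S2346 market)

For a totally singular pair `a, b` of a non-degenerate quadratic space `W` over `F_q`:
`#{u : Q u = κ, u not perpendicular to ⟨a, b⟩} = (q² - 1) q^(dim W - 3)` (independent of the type of `W`).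
Route: `card_level_ne` (`#{u : Q u = κ, B(u, w) ≠ 0} = (q - 1) q^(dim - 2)` for a non-zero singular `w`), applied
to `a` in `W` and to `b` in the complement of a hyperbolic pair `a, a'` with `b ⟂ a'`.
-/

namespace Cfsg.Agent.Lib.Helper2_OM_CNTFIX

open Module Cfsg.Agent.Lib.Helper94_OrthSmall Cfsg.Agent.Lib.Helper44_QuadClass
  Cfsg.Agent.Lib.Helper14_OmegaSimple Cfsg.Agent.Lib.Helper38_MIODefs
  Cfsg.Agent.Lib.Helper95_OPDefs Cfsg.Agent.Lib.Helper95_OPBasic Cfsg.Agent.Lib.Helper30_OMDefs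
  Cfsg.Agent.Lib.Helper10_MIO_CNTD

variable {F W : Type*} [Field F] [Fintype F] [AddCommGroup W] [Module F W] [FiniteDimensional F W]

omit [Fintype F] [FiniteDimensional F W] in
/-- the polar form of `α w + α' w' + u₁` with `w` -/
theorem polar_decomp_left (Qw : QuadraticForm F W) {w w' : W} (hw : Qw w = 0)
    (hww' : QuadraticMap.polar (⇑Qw) w w' = 1) (α α' : F) {u₁ : W} (hu₁ : u₁ ∈ perp Qw w w') :
    QuadraticMap.polar (⇑Qw) (α • w + (α' • w' + u₁)) w = α' := by
  obtain ⟨h1, h2⟩ := (mem_perp Qw w w').1 hu₁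
  rw [QuadraticMap.polar_comm, QuadraticMap.polar_add_right, QuadraticMap.polar_add_right,
    QuadraticMap.polar_smul_right, QuadraticMap.polar_smul_right, polar_self', hw, hww', h1]
  simp

/-- `#{u : Q u = κ, B(u, w) ≠ 0} = (q - 1) q^(dim - 2)` for a non-zero singular vector `w`. -/
theorem card_level_ne (Qw : QuadraticForm F W) (hQ : (QuadraticMap.polarBilin Qw).Nondegenerate)
    (w : W) (hw0 : w ≠ 0) (hw : Qw w = 0) (κ : F) :
    Nat.card {u : W // Qw u = κ ∧ QuadraticMap.polar (⇑Qw) u w ≠ 0} =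
      (Fintype.card F - 1) * Fintype.card F ^ (finrank F W - 2) := by
  classical
  obtain ⟨w', hw', hww'⟩ := exists_hyperbolic_partner Qw hQ hw0 hw
  have hfin : Finite W := Module.finite_of_finite F
  have h1 : Nat.card {u : W // Qw u = κ ∧ QuadraticMap.polar (⇑Qw) u w ≠ 0} =
      Nat.card {p : F × F × ↥(perp Qw w w') // p.1 * p.2.1 + Qw (p.2.2 : W) = κ ∧ p.2.1 ≠ 0} := by
    refine (Nat.card_congr ((decompEquiv Qw hw hw' hww').subtypeEquiv ?_)).symm
    rintro ⟨α, α', u₁, hu₁⟩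
    show (α * α' + Qw u₁ = κ ∧ α' ≠ 0) ↔
      (Qw (α • w + (α' • w' + u₁)) = κ ∧ QuadraticMap.polar (⇑Qw) (α • w + (α' • w' + u₁)) w ≠ 0)
    rw [Q_decomp Qw hw hw' hww' α α' hu₁, polar_decomp_left Qw hw hww' α α' hu₁]
  have h2 : Nat.card {p : F × F × ↥(perp Qw w w') // p.1 * p.2.1 + Qw (p.2.2 : W) = κ ∧ p.2.1 ≠ 0} =
      Nat.card ({x : F // x ≠ 0} × ↥(perp Qw w w')) := by
    refine Nat.card_congr
      { toFun := fun p => (⟨p.1.2.1, p.2.2⟩, p.1.2.2)
        invFun := fun y => ⟨((κ - Qw (y.2 : W)) / y.1.1, y.1.1, y.2), ?_, y.1.2⟩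
        left_inv := ?_
        right_inv := ?_ }
    · have := y.1.2
      show (κ - Qw (y.2 : W)) / y.1.1 * y.1.1 + Qw (y.2 : W) = κ
      rw [div_mul_cancel₀ _ this]; ring
    · rintro ⟨⟨α, α', u₁⟩, h, h0⟩
      apply Subtype.ext
      simp only at h h0
      refine Prod.ext ?_ rfl
      show (κ - Qw (u₁ : W)) / α' = α
      rw [← h]; field_simp; ring
    · rintro ⟨⟨x, hx⟩, u₁⟩
      rfl
  have h3 : Nat.card {x : F // x ≠ 0} = Fintype.card F - 1 := by
    rw [Nat.card_congr (unitsEquivNeZero (G₀ := F)).symm, Nat.card_eq_fintype_card,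
      Fintype.card_units]
  have h4 : Nat.card ↥(perp Qw w w') = Fintype.card F ^ (finrank F W - 2) := by
    rw [Module.natCard_eq_pow_finrank (K := F), Nat.card_eq_fintype_card]
    congr 1
    have := finrank_perp hw hw' hww'
    omega
  rw [h1, h2, Nat.card_prod, h3, h4]

omit [Fintype F] [FiniteDimensional F W] in
/-- a hyperbolic partner of `a` orthogonal to `b`, for a totally singular pair `a, b` -/
theorem exists_partner_orth (Qw : QuadraticForm F W)
    (hQ : (QuadraticMap.polarBilin Qw).Nondegenerate)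
    (a b : W) (ha0 : a ≠ 0) (hba : b ∉ Submodule.span F {a}) (ha : Qw a = 0)
    (hab : QuadraticMap.polar (⇑Qw) a b = 0) :
    ∃ a' : W, Qw a' = 0 ∧ QuadraticMap.polar (⇑Qw) a a' = 1 ∧ QuadraticMap.polar (⇑Qw) b a' = 0 := by
  have hb0 : b ≠ 0 := by
    rintro rfl
    exact hba (Submodule.zero_mem _)
  -- some `x ⟂ b` with `B(a, x) ≠ 0`
  have hex : ∃ x : W, QuadraticMap.polar (⇑Qw) b x = 0 ∧ QuadraticMap.polar (⇑Qw) a x ≠ 0 := by
    by_contra hcon
    push Not at hcon
    obtain ⟨y, hy⟩ : ∃ y, QuadraticMap.polarBilin Qw b y ≠ 0 := by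
      by_contra hc
      push Not at hc
      exact hb0 (hQ.1 b hc)
    rw [QuadraticMap.polarBilin_apply_apply] at hy
    set y₀ : W := (QuadraticMap.polar (⇑Qw) b y)⁻¹ • y with hy₀
    have hby₀ : QuadraticMap.polar (⇑Qw) b y₀ = 1 := by
      rw [hy₀, QuadraticMap.polar_smul_right, smul_eq_mul, inv_mul_cancel₀ hy]
    set c : F := QuadraticMap.polar (⇑Qw) a y₀ with hc
    have hzero : a - c • b = 0 := by
      apply hQ.1
      intro x
      rw [QuadraticMap.polarBilin_apply_apply, QuadraticMap.polar_sub_left,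
        QuadraticMap.polar_smul_left, smul_eq_mul]
      have hx := hcon (x - QuadraticMap.polar (⇑Qw) b x • y₀) (by
        rw [QuadraticMap.polar_sub_right, QuadraticMap.polar_smul_right, hby₀]; simp)
      rw [QuadraticMap.polar_sub_right, QuadraticMap.polar_smul_right, smul_eq_mul] at hx
      linear_combination hx
    have hac : a = c • b := sub_eq_zero.mp hzero
    have hc0 : c ≠ 0 := by
      intro h0
      rw [h0, zero_smul] at hac
      exact ha0 hac
    apply hba
    rw [Submodule.mem_span_singleton]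
    exact ⟨c⁻¹, by rw [hac, smul_smul, inv_mul_cancel₀ hc0, one_smul]⟩
  obtain ⟨x, hbx, hax⟩ := hex
  set x' : W := (QuadraticMap.polar (⇑Qw) a x)⁻¹ • x with hx'
  have hax' : QuadraticMap.polar (⇑Qw) a x' = 1 := by
    rw [hx', QuadraticMap.polar_smul_right, smul_eq_mul, inv_mul_cancel₀ hax]
  have hbx' : QuadraticMap.polar (⇑Qw) b x' = 0 := by
    rw [hx', QuadraticMap.polar_smul_right, hbx, smul_zero]
  have hba' : QuadraticMap.polar (⇑Qw) b a = 0 := by rw [QuadraticMap.polar_comm, hab]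
  refine ⟨(-Qw x') • a + x', ?_, ?_, ?_⟩
  · rw [map_smul_add, ha, hax']; ring
  · rw [QuadraticMap.polar_add_right, QuadraticMap.polar_smul_right, polar_self', ha, hax']
    simp
  · rw [QuadraticMap.polar_add_right, QuadraticMap.polar_smul_right, hba', hbx']
    simp

/-- **OM-CNTFIX**. -/
theorem card_level_not_perp (Qw : QuadraticForm F W) (hQ : (QuadraticMap.polarBilin Qw).Nondegenerate)
    (a b : W) (ha0 : a ≠ 0) (hba : b ∉ Submodule.span F {a}) (ha : Qw a = 0) (hb : Qw b = 0)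
    (hab : QuadraticMap.polar (⇑Qw) a b = 0) (κ : F) :
    Nat.card {u : W // Qw u = κ ∧ ¬ (QuadraticMap.polar (⇑Qw) u a = 0 ∧
        QuadraticMap.polar (⇑Qw) u b = 0)} =
      (Fintype.card F ^ 2 - 1) * Fintype.card F ^ (finrank F W - 3) := by
  classical
  have hfin : Finite W := Module.finite_of_finite F
  let _ : Fintype W := Fintype.ofFinite _
  obtain ⟨a', ha', haa', hba'⟩ := exists_partner_orth Qw hQ a b ha0 hba ha hab
  have hb0 : b ≠ 0 := by
    rintro rfl
    exact hba (Submodule.zero_mem _)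
  have ha'b : QuadraticMap.polar (⇑Qw) a' b = 0 := by rw [QuadraticMap.polar_comm, hba']
  have hbmem : b ∈ perp Qw a a' := (mem_perp Qw a a').2 ⟨hab, ha'b⟩
  set b₁ : ↥(perp Qw a a') := ⟨b, hbmem⟩ with hb₁
  have hQ₁ : (QuadraticMap.polarBilin (Qp Qw a a')).Nondegenerate :=
    nondegenerate_perp hQ ha ha' haa'
  have hb₁0 : b₁ ≠ 0 := fun h => hb0 (congrArg Subtype.val h)
  have hb₁s : Qp Qw a a' b₁ = 0 := hb
  have hd₁ : finrank F ↥(perp Qw a a') + 2 = finrank F W := finrank_perp ha ha' haa'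
  -- the dimension is at least four
  have hd₂ : 2 ≤ finrank F ↥(perp Qw a a') := by
    obtain ⟨b', hb', hbb'⟩ := exists_hyperbolic_partner (Qp Qw a a') hQ₁ hb₁0 hb₁s
    have := finrank_perp hb₁s hb' hbb'
    omega
  -- split the set
  have hsplit : Nat.card {u : W // Qw u = κ ∧ ¬ (QuadraticMap.polar (⇑Qw) u a = 0 ∧
        QuadraticMap.polar (⇑Qw) u b = 0)} =
      Nat.card {u : W // Qw u = κ ∧ QuadraticMap.polar (⇑Qw) u a ≠ 0} +
      Nat.card {u : W // Qw u = κ ∧ QuadraticMap.polar (⇑Qw) u a = 0 ∧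
        QuadraticMap.polar (⇑Qw) u b ≠ 0} := by
    rw [Nat.card_eq_fintype_card, Nat.card_eq_fintype_card, Nat.card_eq_fintype_card,
      ← Fintype.card_subtype_or_disjoint]
    · apply Fintype.card_congr
      apply Equiv.subtypeEquivRight
      intro u
      constructor
      · rintro ⟨h1, h2⟩
        by_cases h3 : QuadraticMap.polar (⇑Qw) u a = 0
        · exact Or.inr ⟨h1, h3, fun h4 => h2 ⟨h3, h4⟩⟩
        · exact Or.inl ⟨h1, h3⟩
      · rintro (⟨h1, h3⟩ | ⟨h1, h3, h4⟩)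
        · exact ⟨h1, fun h => h3 h.1⟩
        · exact ⟨h1, fun h => h4 h.2⟩
    · rw [Pi.disjoint_iff]
      intro u
      rw [disjoint_iff]
      show ((Qw u = κ ∧ QuadraticMap.polar (⇑Qw) u a ≠ 0) ∧
        (Qw u = κ ∧ QuadraticMap.polar (⇑Qw) u a = 0 ∧ QuadraticMap.polar (⇑Qw) u b ≠ 0)) = False
      rw [eq_iff_iff, iff_false]
      rintro ⟨⟨_, h3⟩, _, h4, _⟩
      exact h3 h4
  -- the second part, through the decomposition
  have hsecond : Nat.card {u : W // Qw u = κ ∧ QuadraticMap.polar (⇑Qw) u a = 0 ∧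
        QuadraticMap.polar (⇑Qw) u b ≠ 0} =
      Fintype.card F * ((Fintype.card F - 1) * Fintype.card F ^ (finrank F ↥(perp Qw a a') - 2)) := by
    rw [← card_level_ne (Qp Qw a a') hQ₁ b₁ hb₁0 hb₁s κ, ← Nat.card_eq_fintype_card (α := F),
      ← Nat.card_prod]
    have h1 : Nat.card {u : W // Qw u = κ ∧ QuadraticMap.polar (⇑Qw) u a = 0 ∧
          QuadraticMap.polar (⇑Qw) u b ≠ 0} =
        Nat.card {p : F × F × ↥(perp Qw a a') // p.2.1 = 0 ∧ Qp Qw a a' p.2.2 = κ ∧
          QuadraticMap.polar (⇑(Qp Qw a a')) p.2.2 b₁ ≠ 0} := by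
      refine (Nat.card_congr ((decompEquiv Qw ha ha' haa').subtypeEquiv ?_)).symm
      rintro ⟨α, α', u₁, hu₁⟩
      show (α' = 0 ∧ Qw u₁ = κ ∧ QuadraticMap.polar (⇑(Qp Qw a a')) ⟨u₁, hu₁⟩ b₁ ≠ 0) ↔
        (Qw (α • a + (α' • a' + u₁)) = κ ∧
          QuadraticMap.polar (⇑Qw) (α • a + (α' • a' + u₁)) a = 0 ∧
          QuadraticMap.polar (⇑Qw) (α • a + (α' • a' + u₁)) b ≠ 0)
      have hpb : QuadraticMap.polar (⇑Qw) (α • a + (α' • a' + u₁)) b =
          QuadraticMap.polar (⇑Qw) u₁ b := by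
        rw [QuadraticMap.polar_add_left, QuadraticMap.polar_add_left,
          QuadraticMap.polar_smul_left, QuadraticMap.polar_smul_left, hab, ha'b]
        simp
      rw [Q_decomp Qw ha ha' haa' α α' hu₁, polar_decomp_left Qw ha haa' α α' hu₁, hpb,
        polar_comp_subtype]
      constructor
      · rintro ⟨h0, h1, h2⟩
        refine ⟨?_, h0, h2⟩
        rw [h0, mul_zero, zero_add]
        exact h1
      · rintro ⟨h1, h0, h2⟩
        refine ⟨h0, ?_, h2⟩
        rw [h0, mul_zero, zero_add] at h1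
        exact h1
    rw [h1]
    refine Nat.card_congr
      { toFun := fun p => (p.1.1, ⟨p.1.2.2, p.2.2⟩)
        invFun := fun y => ⟨(y.1, 0, y.2.1), rfl, y.2.2⟩
        left_inv := ?_
        right_inv := ?_ }
    · rintro ⟨⟨α, α', u₁⟩, h0, h⟩
      simp only at h0
      subst h0
      rfl
    · rintro ⟨α, u₁, h⟩
      rfl
  rw [hsplit, card_level_ne Qw hQ a ha0 ha κ, hsecond]
  -- arithmetic
  have hq : 1 ≤ Fintype.card F := Fintype.card_pos
  obtain ⟨d, hd⟩ : ∃ d, finrank F W = d + 4 := ⟨finrank F W - 4, by omega⟩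
  have e1 : finrank F W - 2 = d + 2 := by omega
  have e2 : finrank F ↥(perp Qw a a') - 2 = d := by omega
  have e3 : finrank F W - 3 = d + 1 := by omega
  rw [e1, e2, e3]
  obtain ⟨q, hq'⟩ : ∃ q, Fintype.card F = q + 1 := ⟨Fintype.card F - 1, by omega⟩
  rw [hq']
  have : (q + 1) ^ 2 - 1 = q * (q + 2) := by
    have : (q + 1) ^ 2 = q * (q + 2) + 1 := by ring
    omega
  rw [this, Nat.add_sub_cancel]
  ring

end Cfsg.Agent.Lib.Helper2_OM_CNTFIX
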