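import Mathlib
import Cfsg.Agent.Lib.Helper95_OPDefs
import Cfsg.Agent.Lib.Helper95_OPBasic

/-!
helper77 — package OP-TRACER of helper95's S2345 market:
the trace of a long root element `E Q v w` of the radical (`w ≠ 0` singular in `W = perp Q v v'`) on a
representation with weight data `(e, f)` is `f + e (q^m - q^(m-1) - 1)`.
-/

set_option autoImplicit false

namespace Cfsg.Agent.Lib.Helper77_OP_TRACER

open Module Cfsg.Agent.Lib.Helper94_OrthSmall Cfsg.Agent.Lib.Helper44_QuadClass
  Cfsg.Agent.Lib.Helper14_OmegaSimple Cfsg.Agent.Lib.Helper38_MIODefs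
  Cfsg.Agent.Lib.Helper95_OPDefs Cfsg.Agent.Lib.Helper95_OPBasic

/-- Trace of an operator acting by scalars on the summands of an internal direct sum. -/
theorem trace_scalar_sum {X : Type*} [AddCommGroup X] [Module ℂ X] [FiniteDimensional ℂ X]
    {ι : Type*} [Fintype ι] [DecidableEq ι] (S : ι → Submodule ℂ X) (hint : DirectSum.IsInternal S)
    (A : Module.End ℂ X) (c : ι → ℂ) (hA : ∀ i, ∀ x ∈ S i, A x = c i • x) :
    LinearMap.trace ℂ X A = ∑ i, (finrank ℂ (S i) : ℂ) * c i := by
  have hf : ∀ i, Set.MapsTo A (S i) (S i) := by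
    intro i x hx
    have : A x = c i • x := hA i x hx
    show A x ∈ S i
    rw [this]
    exact (S i).smul_mem _ hx
  rw [LinearMap.trace_eq_sum_trace_restrict hint hf]
  refine Finset.sum_congr rfl (fun i _ => ?_)
  have hr : A.restrict (hf i) = c i • (LinearMap.id : ↥(S i) →ₗ[ℂ] ↥(S i)) := by
    ext x
    simp only [LinearMap.coe_restrict_apply, LinearMap.smul_apply, LinearMap.id_coe, id_eq,
      Submodule.coe_smul]
    exact hA i x x.2
  rw [hr, map_smul, LinearMap.trace_id, smul_eq_mul, mul_comm]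

/-- Character sum over a cone: `(q - 1) Σ_{u ∈ S} ψ(ℓ u) = q #{u ∈ S : ℓ u = 0} - #S`. -/
theorem cone_sum {F W : Type*} [Field F] [Fintype F] [DecidableEq F] [AddCommGroup W] [Module F W]
    [Fintype W] (ψ : AddChar F ℂ) (hψ : ψ ≠ 1) (P : W → Prop) [DecidablePred P]
    (hP : ∀ (t : F) (u : W), t ≠ 0 → (P (t • u) ↔ P u)) (ℓ : W → F)
    (hℓ : ∀ (t : F) (u : W), ℓ (t • u) = t * ℓ u) :
    ((Fintype.card F : ℂ) - 1) * ∑ u ∈ Finset.univ.filter P, ψ (ℓ u) =
      (Fintype.card F : ℂ) * ((Finset.univ.filter (fun u => P u ∧ ℓ u = 0)).card : ℂ) -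
        ((Finset.univ.filter P).card : ℂ) := by
  classical
  set T : ℂ := ∑ u ∈ Finset.univ.filter P, ψ (ℓ u) with hT
  -- the double sum
  have h1 : ∑ t ∈ (Finset.univ : Finset F).filter (fun t => t ≠ 0),
      ∑ u ∈ Finset.univ.filter P, ψ (ℓ (t • u)) = ((Fintype.card F : ℂ) - 1) * T := by
    have hin : ∀ t ∈ (Finset.univ : Finset F).filter (fun t => t ≠ 0),
        ∑ u ∈ Finset.univ.filter P, ψ (ℓ (t • u)) = T := by
      intro t ht
      have ht0 : t ≠ 0 := (Finset.mem_filter.mp ht).2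
      rw [hT]
      refine Finset.sum_nbij' (fun u => t • u) (fun u => t⁻¹ • u) ?_ ?_ ?_ ?_ ?_
      · intro u hu
        rw [Finset.mem_filter] at hu ⊢
        exact ⟨Finset.mem_univ _, (hP t u ht0).mpr hu.2⟩
      · intro u hu
        rw [Finset.mem_filter] at hu ⊢
        exact ⟨Finset.mem_univ _, (hP t⁻¹ u (inv_ne_zero ht0)).mpr hu.2⟩
      · intro u _
        rw [smul_smul, inv_mul_cancel₀ ht0, one_smul]
      · intro u _
        rw [smul_smul, mul_inv_cancel₀ ht0, one_smul]
      · intro u _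
        rfl
    rw [Finset.sum_congr rfl hin, Finset.sum_const, nsmul_eq_mul]
    congr 1
    rw [Finset.filter_ne', Finset.card_erase_of_mem (Finset.mem_univ _), Finset.card_univ,
      Nat.cast_sub Fintype.card_pos, Nat.cast_one]
  have hprim : ψ.IsPrimitive := AddChar.IsPrimitive.of_ne_one hψ
  have h2 : ∀ b : F, ∑ t ∈ (Finset.univ : Finset F).filter (fun t => t ≠ 0), ψ (t * b) =
      (if b = 0 then (Fintype.card F : ℂ) else 0) - 1 := by
    intro b
    rw [Finset.filter_ne', Finset.sum_erase_eq_sub (Finset.mem_univ _), AddChar.sum_mulShift b hprim,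
      zero_mul, AddChar.map_zero_eq_one]
    split_ifs <;> simp
  rw [← h1, Finset.sum_comm]
  have h3 : ∀ u ∈ Finset.univ.filter P,
      ∑ t ∈ (Finset.univ : Finset F).filter (fun t => t ≠ 0), ψ (ℓ (t • u)) =
        (if ℓ u = 0 then (Fintype.card F : ℂ) else 0) - 1 := by
    intro u _
    rw [← h2 (ℓ u)]
    refine Finset.sum_congr rfl (fun t _ => ?_)
    rw [hℓ]
  rw [Finset.sum_congr rfl h3, Finset.sum_sub_distrib, Finset.sum_const, nsmul_eq_mul, mul_one,
    ← Finset.sum_filter, Finset.sum_const, nsmul_eq_mul, Finset.filter_filter, mul_comm]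

variable {F V : Type*} [Field F] [Fintype F] [AddCommGroup V] [Module F V] [FiniteDimensional F V]
  {X : Type*} [AddCommGroup X] [Module ℂ X] [FiniteDimensional ℂ X]

theorem trace_rad (Q : QuadraticForm F V) (hQ : (QuadraticMap.polarBilin Q).Nondegenerate)
    (hdim : 5 ≤ finrank F V) {v v' : V} (hv : Q v = 0) (hv' : Q v' = 0)
    (hvv' : QuadraticMap.polar (⇑Q) v v' = 1) [DecidableEq ↥(perp Q v v')]
    (ρ : Representation ℂ ↥(T Q) X) (ψ : AddChar F ℂ) (hψ : ψ ≠ 1)
    (hint : DirectSum.IsInternal (fun u : ↥(perp Q v v') => wsp Q ρ ψ v v' u))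
    (e f : ℕ) (hW : WData Q ρ ψ v v' e f) (m : ℕ) (hm : 2 ≤ m) (hPW : IsPlus (Qp Q v v') m)
    (w : ↥(perp Q v v')) (hw0 : w ≠ 0) (hw : Qp Q v v' w = 0)
    (hA : Nat.card {u : ↥(perp Q v v') // u ≠ 0 ∧ Qp Q v v' u = 0 ∧
        QuadraticMap.polar (⇑(Qp Q v v')) u w = 0} =
      Fintype.card F ^ (2 * m - 2) + Fintype.card F ^ m - Fintype.card F ^ (m - 1) - 1) :
    LinearMap.trace ℂ X (repE Q ρ (E Q v (w : V))) =
      ((f + e * (Fintype.card F ^ m - Fintype.card F ^ (m - 1) - 1) : ℕ) : ℂ) := by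
  classical
  have : Finite ↥(perp Q v v') := Module.finite_of_finite F
  haveI : Fintype ↥(perp Q v v') := Fintype.ofFinite _
  set q := Fintype.card F with hq
  have hq2 : 2 ≤ q := Fintype.one_lt_card
  -- step 1: the trace as a weighted character sum
  have h1 := trace_scalar_sum (fun u : ↥(perp Q v v') => wsp Q ρ ψ v v' u) hint
    (repE Q ρ (E Q v (w : V))) (fun u => ψ (QuadraticMap.polar (⇑Q) (u : V) (w : V)))
    (fun u x hx => hx w)
  rw [h1]
  -- step 2: split the sum
  let P : ↥(perp Q v v') → Prop := fun u => u ≠ 0 ∧ Qp Q v v' u = 0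
  let ℓ : ↥(perp Q v v') → F := fun u => QuadraticMap.polar (⇑Q) (u : V) (w : V)
  have hpt : ∀ u : ↥(perp Q v v'),
      (finrank ℂ (wsp Q ρ ψ v v' u) : ℂ) * ψ (QuadraticMap.polar (⇑Q) (u : V) (w : V)) =
        (if u = 0 then (f : ℂ) else 0) + (if P u then (e : ℂ) * ψ (ℓ u) else 0) := by
    intro u
    by_cases hu0 : u = 0
    · subst hu0
      have hP0 : ¬ P 0 := fun h => h.1 rfl
      rw [if_pos rfl, if_neg hP0, hW.hf]
      simp
    · rw [if_neg hu0]
      by_cases hus : Qp Q v v' u = 0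
      · have hPu : P u := ⟨hu0, hus⟩
        rw [if_pos hPu, hW.he u hu0 hus, zero_add]
      · have hPu : ¬ P u := fun h => hus h.2
        rw [if_neg hPu, hW.hns u hus, finrank_bot]
        simp
  rw [Finset.sum_congr rfl (fun u _ => hpt u), Finset.sum_add_distrib, Finset.sum_ite_eq'
    , if_pos (Finset.mem_univ _), ← Finset.sum_filter, ← Finset.mul_sum]
  -- step 3: the cone sum
  have hcone := cone_sum (F := F) (W := ↥(perp Q v v')) ψ hψ P
    (by
      intro t u ht
      show (t • u ≠ 0 ∧ Qp Q v v' (t • u) = 0) ↔ (u ≠ 0 ∧ Qp Q v v' u = 0)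
      rw [QuadraticMap.map_smul, smul_eq_mul]
      constructor
      · rintro ⟨h1, h2⟩
        refine ⟨fun h => h1 (by rw [h, smul_zero]), ?_⟩
        rcases mul_eq_zero.mp h2 with h | h
        · exact absurd (mul_self_eq_zero.mp h) ht
        · exact h
      · rintro ⟨h1, h2⟩
        exact ⟨smul_ne_zero ht h1, by rw [h2, mul_zero]⟩)
    ℓ
    (by
      intro t u
      show QuadraticMap.polar (⇑Q) ((t • u : ↥(perp Q v v')) : V) (w : V) = _
      rw [Submodule.coe_smul, QuadraticMap.polar_smul_left, smul_eq_mul])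
  -- the two cardinalities
  have hcardP : (Finset.univ.filter P).card + 1 = q ^ (2 * m - 1) + q ^ m - q ^ (m - 1) := by
    rw [← hPW.zeros, Nat.card_eq_fintype_card, Fintype.card_subtype]
    have : (Finset.univ.filter (fun x : ↥(perp Q v v') => Qp Q v v' x = 0)) =
        insert 0 (Finset.univ.filter P) := by
      ext u
      simp only [Finset.mem_filter, Finset.mem_univ, true_and, Finset.mem_insert, P]
      constructor
      · intro h
        by_cases hu : u = 0
        · exact Or.inl hu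
        · exact Or.inr ⟨hu, h⟩
      · rintro (h | h)
        · rw [h, map_zero]
        · exact h.2
    rw [this, Finset.card_insert_of_notMem]
    intro h
    exact (Finset.mem_filter.mp h).2.1 rfl
  have hcard0 : (Finset.univ.filter (fun u => P u ∧ ℓ u = 0)).card =
      q ^ (2 * m - 2) + q ^ m - q ^ (m - 1) - 1 := by
    rw [← hA, Nat.card_eq_fintype_card, Fintype.card_subtype]
    congr 1
    ext u
    simp only [Finset.mem_filter, Finset.mem_univ, true_and, P, ℓ, and_assoc]
    rfl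
  rw [hcard0] at hcone
  -- arithmetic
  obtain ⟨k, rfl⟩ : ∃ k, m = k + 2 := ⟨m - 2, by omega⟩
  set A := q ^ (k + 1) with hAdef
  have hA1 : 2 ≤ A := by
    calc 2 ≤ q := hq2
      _ = q ^ 1 := (pow_one q).symm
      _ ≤ q ^ (k + 1) := Nat.pow_le_pow_right (by omega) (by omega)
  have e1 : q ^ (k + 2) = q * A := by rw [hAdef]; ring
  have e2 : q ^ (2 * (k + 2) - 2) = A * A := by
    rw [hAdef, show 2 * (k + 2) - 2 = (k + 1) + (k + 1) by omega, pow_add]
  have e3 : q ^ (2 * (k + 2) - 1) = q * (A * A) := by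
    rw [hAdef, show 2 * (k + 2) - 1 = 1 + ((k + 1) + (k + 1)) by omega, pow_add, pow_add, pow_one]
  have e4 : q ^ (k + 2 - 1) = A := by rw [hAdef]; congr 1
  rw [e1, e2, e4] at hcone
  rw [e1, e3, e4] at hcardP
  rw [e1, e4]
  have hAq : A ≤ q * A := Nat.le_mul_of_pos_left A (by omega)
  have hqA2 : A + 2 ≤ q * A := by nlinarith
  have hcP : ((Finset.univ.filter P).card : ℂ) = (q : ℂ) * ((A : ℂ) * A) + q * A - A - 1 := by
    have : (Finset.univ.filter P).card = q * (A * A) + q * A - A - 1 := by omega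
    rw [this]
    have h5 : 1 ≤ q * (A * A) + q * A - A := by
      have : 0 < q * (A * A) := by positivity
      omega
    have h6 : A ≤ q * (A * A) + q * A := by omega
    rw [Nat.cast_sub h5, Nat.cast_sub h6]
    push_cast
    ring
  have hc0 : ((A * A + q * A - A - 1 : ℕ) : ℂ) = (A : ℂ) * A + q * A - A - 1 := by
    have h5 : 1 ≤ A * A + q * A - A := by
      have : 0 < A * A := by positivity
      omega
    have h6 : A ≤ A * A + q * A := by omega
    rw [Nat.cast_sub h5, Nat.cast_sub h6]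
    push_cast
    ring
  rw [hcP, hc0] at hcone
  have hq1 : ((q : ℂ) - 1) ≠ 0 := by
    have : (q : ℂ) ≠ 1 := by
      intro h
      have : q = 1 := by exact_mod_cast h
      omega
    exact sub_ne_zero.mpr this
  have hT : ∑ u ∈ Finset.univ.filter P, ψ (ℓ u) = (q : ℂ) * A - A - 1 := by
    apply mul_left_cancel₀ hq1
    rw [hcone]
    ring
  rw [hT]
  have h7 : 1 ≤ q * A - A := by omega
  rw [Nat.cast_add, Nat.cast_mul, Nat.cast_sub h7, Nat.cast_sub hAq]
  push_cast
  ring

end Cfsg.Agent.Lib.Helper77_OP_TRACER
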