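import Mathlib
import Cfsg.Agent.Lib.Helper30_OMDefs
import Cfsg.Agent.Lib.Helper77_OP_TRACER

/-!
helper43 — package OM-TRACER of helper30's S2346 market: the trace of a long root element `E Q v w` of the
radical (`w ≠ 0` singular in `W = perp Q v v'`) on a representation with one-level weight data `LData κ f` is
`D - q^(dim V - 3)`.
-/

set_option autoImplicit false

namespace Cfsg.Agent.Lib.Helper43_OM_TRACER

open Module Cfsg.Agent.Lib.Helper94_OrthSmall Cfsg.Agent.Lib.Helper44_QuadClass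
  Cfsg.Agent.Lib.Helper14_OmegaSimple Cfsg.Agent.Lib.Helper38_MIODefs
  Cfsg.Agent.Lib.Helper95_OPDefs Cfsg.Agent.Lib.Helper95_OPBasic Cfsg.Agent.Lib.Helper30_OMDefs

/-- Character sum over a set all of whose fibres over the non-zero values of `ℓ` have the same size `c`:
`Σ_{u ∈ S} (1 - ψ(ℓ u)) = c q`. -/
theorem level_sum {F W : Type*} [Field F] [Fintype F] [DecidableEq F] [Fintype W]
    (ψ : AddChar F ℂ) (hψ : ψ ≠ 1) (P : W → Prop) [DecidablePred P] (ℓ : W → F) (c : ℕ)
    (hc : ∀ β : F, β ≠ 0 → (Finset.univ.filter (fun u => P u ∧ ℓ u = β)).card = c) :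
    ∑ u ∈ Finset.univ.filter P, (1 - ψ (ℓ u)) = (c : ℂ) * (Fintype.card F : ℂ) := by
  classical
  rw [← Finset.sum_fiberwise (Finset.univ.filter P) ℓ (fun u => 1 - ψ (ℓ u))]
  have hin : ∀ β : F, ∑ u ∈ (Finset.univ.filter P).filter (fun u => ℓ u = β), (1 - ψ (ℓ u)) =
      (c : ℂ) * (1 - ψ β) := by
    intro β
    have h1 : ∑ u ∈ (Finset.univ.filter P).filter (fun u => ℓ u = β), (1 - ψ (ℓ u)) =
        ∑ _u ∈ (Finset.univ.filter P).filter (fun u => ℓ u = β), (1 - ψ β) := by
      refine Finset.sum_congr rfl (fun u hu => ?_)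
      rw [(Finset.mem_filter.mp hu).2]
    rw [h1, Finset.sum_const, nsmul_eq_mul]
    by_cases hβ : β = 0
    · subst hβ
      rw [AddChar.map_zero_eq_one, sub_self, mul_zero, mul_zero]
    · rw [Finset.filter_filter, hc β hβ]
  rw [Finset.sum_congr rfl (fun β _ => hin β), ← Finset.mul_sum, Finset.sum_sub_distrib,
    AddChar.sum_eq_zero_of_ne_one hψ, Finset.sum_const, nsmul_eq_mul, mul_one, sub_zero,
    Finset.card_univ]

variable {F V : Type*} [Field F] [Fintype F] [AddCommGroup V] [Module F V] [FiniteDimensional F V]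
  {X : Type*} [AddCommGroup X] [Module ℂ X] [FiniteDimensional ℂ X]

set_option linter.unusedVariables false in
theorem trace_rad_level (Q : QuadraticForm F V) (hQ : (QuadraticMap.polarBilin Q).Nondegenerate)
    (hdim : 5 ≤ finrank F V) {v v' : V} (hv : Q v = 0) (hv' : Q v' = 0)
    (hvv' : QuadraticMap.polar (⇑Q) v v' = 1) [DecidableEq ↥(perp Q v v')]
    (ρ : Representation ℂ ↥(T Q) X) (ψ : AddChar F ℂ) (hψ : ψ ≠ 1)
    (hint : DirectSum.IsInternal (fun u : ↥(perp Q v v') => wsp Q ρ ψ v v' u))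
    (κ : F) (f : ℕ) (hW : LData Q ρ ψ v v' κ f)
    (w : ↥(perp Q v v')) (hw0 : w ≠ 0) (hw : Qp Q v v' w = 0)
    (hcnt : ∀ β : F, β ≠ 0 →
      Nat.card {u : ↥(perp Q v v') // Qp Q v v' u = κ ∧
        QuadraticMap.polar (⇑(Qp Q v v')) u w = β} = Fintype.card F ^ (finrank F V - 4)) :
    LinearMap.trace ℂ X (repE Q ρ (E Q v (w : V))) + ((Fintype.card F ^ (finrank F V - 3) : ℕ) : ℂ) =
      ((finrank ℂ X : ℕ) : ℂ) := by
  classical
  have : Finite ↥(perp Q v v') := Module.finite_of_finite F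
  have : Fintype ↥(perp Q v v') := Fintype.ofFinite _
  set q := Fintype.card F with hq
  -- step 1: the trace as a weighted character sum
  have h1 := Cfsg.Agent.Lib.Helper77_OP_TRACER.trace_scalar_sum
    (fun u : ↥(perp Q v v') => wsp Q ρ ψ v v' u) hint
    (repE Q ρ (E Q v (w : V))) (fun u => ψ (QuadraticMap.polar (⇑Q) (u : V) (w : V)))
    (fun u x hx => hx w)
  rw [h1]
  -- step 2: split the sum
  let P : ↥(perp Q v v') → Prop := fun u => u ≠ 0 ∧ Qp Q v v' u = κ
  let ℓ : ↥(perp Q v v') → F := fun u => QuadraticMap.polar (⇑Q) (u : V) (w : V)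
  have hpt : ∀ u : ↥(perp Q v v'),
      (finrank ℂ (wsp Q ρ ψ v v' u) : ℂ) * ψ (QuadraticMap.polar (⇑Q) (u : V) (w : V)) =
        (if u = 0 then (f : ℂ) else 0) + (if P u then ψ (ℓ u) else 0) := by
    intro u
    by_cases hu0 : u = 0
    · subst hu0
      have hP0 : ¬ P 0 := fun h => h.1 rfl
      rw [if_pos rfl, if_neg hP0, hW.hf]
      simp
    · rw [if_neg hu0]
      by_cases hus : Qp Q v v' u = κ
      · have hPu : P u := ⟨hu0, hus⟩
        rw [if_pos hPu, hW.h1 u hu0 hus, zero_add, Nat.cast_one, one_mul]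
      · have hPu : ¬ P u := fun h => hus h.2
        rw [if_neg hPu, hW.h0 u hu0 hus, finrank_bot]
        simp
  rw [Finset.sum_congr rfl (fun u _ => hpt u), Finset.sum_add_distrib, Finset.sum_ite_eq',
    if_pos (Finset.mem_univ _), ← Finset.sum_filter]
  -- step 3: the level sum
  have hfib : ∀ β : F, β ≠ 0 →
      (Finset.univ.filter (fun u => P u ∧ ℓ u = β)).card = q ^ (finrank F V - 4) := by
    intro β hβ
    rw [← hcnt β hβ, Nat.card_eq_fintype_card, Fintype.card_subtype]
    congr 1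
    ext u
    simp only [Finset.mem_filter, Finset.mem_univ, true_and, P, ℓ]
    constructor
    · rintro ⟨⟨-, h2⟩, h3⟩
      exact ⟨h2, h3⟩
    · rintro ⟨h2, h3⟩
      refine ⟨⟨?_, h2⟩, h3⟩
      rintro rfl
      apply hβ
      rw [← h3]
      simp [QuadraticMap.polar]
  have hlev := level_sum ψ hψ P ℓ (q ^ (finrank F V - 4)) hfib
  rw [Finset.sum_sub_distrib, Finset.sum_const, nsmul_eq_mul, mul_one] at hlev
  -- the dimension
  have hD : (finrank ℂ X : ℂ) = (f : ℂ) + ((Finset.univ.filter P).card : ℂ) := by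
    rw [hW.hD, Nat.card_eq_fintype_card, Fintype.card_subtype]
    push_cast
    rfl
  have hpow : q ^ (finrank F V - 3) = q ^ (finrank F V - 4) * q := by
    rw [← pow_succ]
    congr 1
    omega
  rw [hD, hpow]
  push_cast
  push_cast at hlev
  linear_combination (-1 : ℂ) * hlev

end Cfsg.Agent.Lib.Helper43_OM_TRACER
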