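import Mathlib
import Cfsg.Agent.Lib.Helper95_OPDefs
import Cfsg.Agent.Lib.Helper95_OPBasic

/-!
# S2345 package OP-TRACEL (architect helper95): the trace of a Levi element  (helper73)

`trace_perm` is the generic statement (shape of OP-TRPERM): the trace of an operator permuting the blocks of an
internal direct sum, acting as the identity on the fixed blocks other than `i₀`.
-/

set_option autoImplicit false

namespace Cfsg.Agent.Lib.Helper73_OP_TRACEL

open Module Cfsg.Agent.Lib.Helper94_OrthSmall Cfsg.Agent.Lib.Helper44_QuadClass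
  Cfsg.Agent.Lib.Helper14_OmegaSimple Cfsg.Agent.Lib.Helper38_MIODefs
  Cfsg.Agent.Lib.Helper95_OPDefs Cfsg.Agent.Lib.Helper95_OPBasic

/-- the trace of an operator permuting the blocks of an internal direct sum -/
theorem trace_perm {X : Type*} [AddCommGroup X] [Module ℂ X] [FiniteDimensional ℂ X]
    {ι : Type*} [Fintype ι] [DecidableEq ι] (S : ι → Submodule ℂ X) (hint : DirectSum.IsInternal S)
    (A : Module.End ℂ X) (π : ι → ι) (hA : ∀ i, ∀ x ∈ S i, A x ∈ S (π i)) (i₀ : ι)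
    (h0 : ∀ x ∈ S i₀, A x ∈ S i₀)
    (hfix : ∀ i, i ≠ i₀ → π i = i → ∀ x ∈ S i, A x = x) :
    LinearMap.trace ℂ X A = LinearMap.trace ℂ ↥(S i₀) (A.restrict h0) +
      ∑ i ∈ Finset.univ.filter (fun i => i ≠ i₀ ∧ π i = i), (finrank ℂ (S i) : ℂ) := by
  classical
  let b : (i : ι) → Module.Basis (Module.Free.ChooseBasisIndex ℂ (S i)) ℂ (S i) :=
    fun i => Module.Free.chooseBasis ℂ (S i)
  have key : ∀ i : ι,
      ∑ k, ((hint.collectedBasis b).repr (A (hint.collectedBasis b ⟨i, k⟩))) ⟨i, k⟩ =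
        if i = i₀ then LinearMap.trace ℂ ↥(S i₀) (A.restrict h0)
        else if π i = i then (finrank ℂ (S i) : ℂ) else 0 := by
    intro i
    have hbi : ∀ k, hint.collectedBasis b ⟨i, k⟩ = ((b i k : S i) : X) := by
      intro k
      rw [hint.collectedBasis_coe]
    by_cases hi0 : i = i₀
    · subst hi0
      rw [if_pos rfl, LinearMap.trace_eq_matrix_trace ℂ (b i), Matrix.trace]
      apply Finset.sum_congr rfl
      intro k _
      rw [Matrix.diag, LinearMap.toMatrix_apply, hbi]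
      have hmem : A ((b i k : S i) : X) ∈ S i := h0 _ (b i k).2
      rw [hint.collectedBasis_repr_of_mem b hmem]
      rfl
    · rw [if_neg hi0]
      by_cases hπ : π i = i
      · rw [if_pos hπ]
        have h1 : ∀ k, ((hint.collectedBasis b).repr (A (hint.collectedBasis b ⟨i, k⟩)))
            ⟨i, k⟩ = 1 := by
          intro k
          rw [hbi, hfix i hi0 hπ _ (b i k).2, ← hbi, Module.Basis.repr_self,
            Finsupp.single_eq_same]
        rw [Finset.sum_congr rfl (fun k _ => h1 k), Finset.sum_const, Finset.card_univ,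
          nsmul_eq_mul, mul_one, Module.finrank_eq_card_chooseBasisIndex]
      · rw [if_neg hπ]
        apply Finset.sum_eq_zero
        intro k _
        rw [hbi]
        exact hint.collectedBasis_repr_of_mem_ne b hπ (hA i _ (b i k).2)
  rw [LinearMap.trace_eq_matrix_trace ℂ (hint.collectedBasis b), Matrix.trace]
  simp only [Matrix.diag, LinearMap.toMatrix_apply]
  rw [Fintype.sum_sigma, Finset.sum_congr rfl (fun i _ => key i)]
  rw [← Finset.add_sum_erase Finset.univ _ (Finset.mem_univ i₀), if_pos rfl]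
  congr 1
  rw [Finset.sum_filter, ← Finset.add_sum_erase Finset.univ _ (Finset.mem_univ i₀),
    if_neg (fun h : i₀ ≠ i₀ ∧ π i₀ = i₀ => h.1 rfl), zero_add]
  apply Finset.sum_congr rfl
  intro x hx
  have hx0 : x ≠ i₀ := Finset.ne_of_mem_erase hx
  rw [if_neg hx0]
  by_cases hπx : π x = x
  · rw [if_pos hπx, if_pos ⟨hx0, hπx⟩]
  · rw [if_neg hπx, if_neg (fun h : x ≠ i₀ ∧ π x = x => hπx h.2)]

variable {F V : Type*} [Field F] [Fintype F] [AddCommGroup V] [Module F V] [FiniteDimensional F V]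
  {X : Type*} [AddCommGroup X] [Module ℂ X] [FiniteDimensional ℂ X]

/-! ## OP-TRACEL (L) -/
theorem trace_levi (Q : QuadraticForm F V) (hQ : (QuadraticMap.polarBilin Q).Nondegenerate)
    (hdim : 5 ≤ finrank F V) {v v' : V} (hv : Q v = 0) (hv' : Q v' = 0)
    (hvv' : QuadraticMap.polar (⇑Q) v v' = 1) [DecidableEq ↥(perp Q v v')]
    (ρ : Representation ℂ ↥(T Q) X) (ψ : AddChar F ℂ)
    (hint : DirectSum.IsInternal (fun u : ↥(perp Q v v') => wsp Q ρ ψ v v' u))
    (e f : ℕ) (hW : WData Q ρ ψ v v' e f) (g : V ≃ₗ[F] V) (hg : g ∈ T Q) (hgv : g v = v)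
    (φ : ↥(perp Q v v') ≃ₗ[F] ↥(perp Q v v'))
    (hφ : ∀ w : ↥(perp Q v v'), ((φ w : ↥(perp Q v v')) : V) = g (w : V))
    (hfix : ∀ u : ↥(perp Q v v'), u ≠ 0 → φ u = u → ∀ x ∈ wsp Q ρ ψ v v' u, repE Q ρ g x = x)
    (h0 : ∀ x ∈ wsp Q ρ ψ v v' 0, repE Q ρ g x ∈ wsp Q ρ ψ v v' 0) :
    LinearMap.trace ℂ X (repE Q ρ g) =
      LinearMap.trace ℂ ↥(wsp Q ρ ψ v v' 0) ((repE Q ρ g).restrict h0) +
        ((e * Nat.card {u : ↥(perp Q v v') // u ≠ 0 ∧ Qp Q v v' u = 0 ∧ φ u = u} : ℕ) : ℂ) := by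
  classical
  have : Finite V := Module.finite_of_finite F
  have : Fintype ↥(perp Q v v') := Fintype.ofFinite _
  have hgv1 : g v = (1 : F) • v := by rw [one_smul]; exact hgv
  have hA : ∀ u : ↥(perp Q v v'), ∀ x ∈ wsp Q ρ ψ v v' u,
      repE Q ρ g x ∈ wsp Q ρ ψ v v' (φ u) := by
    intro u x hx
    have := wsp_map Q hQ hdim hv ρ ψ g hg 1 one_ne_zero hgv1 φ hφ u x hx
    rwa [inv_one, one_smul] at this
  have key := trace_perm (fun u : ↥(perp Q v v') => wsp Q ρ ψ v v' u) hint (repE Q ρ g)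
    (fun u => φ u) hA 0 h0 hfix
  rw [key]
  congr 1
  -- the sum over the fixed labels
  have hterm : ∀ u : ↥(perp Q v v'), u ≠ 0 →
      (finrank ℂ (wsp Q ρ ψ v v' u) : ℂ) = if Qp Q v v' u = 0 then (e : ℂ) else 0 := by
    intro u hu
    by_cases hq : Qp Q v v' u = 0
    · rw [if_pos hq, hW.he u hu hq]
    · rw [if_neg hq, hW.hns u hq, finrank_bot, Nat.cast_zero]
  have h1 : ∑ u ∈ Finset.univ.filter (fun u : ↥(perp Q v v') => u ≠ 0 ∧ φ u = u),
      (finrank ℂ (wsp Q ρ ψ v v' u) : ℂ) =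
      ∑ u ∈ Finset.univ.filter (fun u : ↥(perp Q v v') => u ≠ 0 ∧ φ u = u),
        (if Qp Q v v' u = 0 then (e : ℂ) else 0) := by
    apply Finset.sum_congr rfl
    intro u hu
    exact hterm u (Finset.mem_filter.mp hu).2.1
  rw [h1, ← Finset.sum_filter, Finset.sum_const, nsmul_eq_mul, Finset.filter_filter]
  have hcard : Nat.card {u : ↥(perp Q v v') // u ≠ 0 ∧ Qp Q v v' u = 0 ∧ φ u = u} =
      (Finset.univ.filter (fun u : ↥(perp Q v v') =>
        (u ≠ 0 ∧ φ u = u) ∧ Qp Q v v' u = 0)).card := by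
    rw [Nat.card_eq_fintype_card, Fintype.card_subtype]
    congr 1
    ext u
    simp only [Finset.mem_filter, Finset.mem_univ, true_and]
    tauto
  rw [hcard]
  push_cast
  ring

end Cfsg.Agent.Lib.Helper73_OP_TRACEL
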