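import Mathlib
import Cfsg.Agent.Lib.Helper30_OMDefs
import Cfsg.Agent.Lib.Helper73_OP_TRACEL

/-!
# S2346 package OM-TRACEL (architect helper30): the trace of a Levi element, one-level datum  (helper57)

Port of `Helper73_OP_TRACEL.trace_levi` (uses its generic `trace_perm`) with `LData` instead of `WData`.
-/

set_option autoImplicit false

namespace Cfsg.Agent.Lib.Helper57_OM_TRACEL

open Module Cfsg.Agent.Lib.Helper94_OrthSmall Cfsg.Agent.Lib.Helper44_QuadClass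
  Cfsg.Agent.Lib.Helper14_OmegaSimple Cfsg.Agent.Lib.Helper38_MIODefs
  Cfsg.Agent.Lib.Helper95_OPDefs Cfsg.Agent.Lib.Helper95_OPBasic Cfsg.Agent.Lib.Helper30_OMDefs

variable {F V : Type*} [Field F] [Fintype F] [AddCommGroup V] [Module F V] [FiniteDimensional F V]
  {X : Type*} [AddCommGroup X] [Module ℂ X] [FiniteDimensional ℂ X]

/-! ## OM-TRACEL (L) -/
theorem trace_levi_level (Q : QuadraticForm F V) (hQ : (QuadraticMap.polarBilin Q).Nondegenerate)
    (hdim : 5 ≤ finrank F V) {v v' : V} (hv : Q v = 0) (hv' : Q v' = 0)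
    (hvv' : QuadraticMap.polar (⇑Q) v v' = 1) [DecidableEq ↥(perp Q v v')]
    (ρ : Representation ℂ ↥(T Q) X) (ψ : AddChar F ℂ)
    (hint : DirectSum.IsInternal (fun u : ↥(perp Q v v') => wsp Q ρ ψ v v' u))
    (κ : F) (f : ℕ) (hW : LData Q ρ ψ v v' κ f) (g : V ≃ₗ[F] V) (hg : g ∈ T Q) (hgv : g v = v)
    (φ : ↥(perp Q v v') ≃ₗ[F] ↥(perp Q v v'))
    (hφ : ∀ w : ↥(perp Q v v'), ((φ w : ↥(perp Q v v')) : V) = g (w : V))
    (hfix : ∀ u : ↥(perp Q v v'), u ≠ 0 → φ u = u → ∀ x ∈ wsp Q ρ ψ v v' u, repE Q ρ g x = x)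
    (h0 : ∀ x ∈ wsp Q ρ ψ v v' 0, repE Q ρ g x ∈ wsp Q ρ ψ v v' 0) :
    LinearMap.trace ℂ X (repE Q ρ g) =
      LinearMap.trace ℂ ↥(wsp Q ρ ψ v v' 0) ((repE Q ρ g).restrict h0) +
        ((Nat.card {u : ↥(perp Q v v') // u ≠ 0 ∧ Qp Q v v' u = κ ∧ φ u = u} : ℕ) : ℂ) := by
  classical
  have : Finite V := Module.finite_of_finite F
  have : Fintype ↥(perp Q v v') := Fintype.ofFinite _
  have hgv1 : g v = (1 : F) • v := by rw [one_smul]; exact hgv
  have hA : ∀ u : ↥(perp Q v v'), ∀ x ∈ wsp Q ρ ψ v v' u,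
      repE Q ρ g x ∈ wsp Q ρ ψ v v' (φ u) := by
    intro u x hx
    have := wsp_map Q hQ hdim hv ρ ψ g hg 1 one_ne_zero hgv1 φ hφ u x hx
    rwa [inv_one, one_smul] at this
  have key := Cfsg.Agent.Lib.Helper73_OP_TRACEL.trace_perm
    (fun u : ↥(perp Q v v') => wsp Q ρ ψ v v' u) hint (repE Q ρ g)
    (fun u => φ u) hA 0 h0 hfix
  rw [key]
  congr 1
  -- the sum over the fixed labels
  have hterm : ∀ u : ↥(perp Q v v'), u ≠ 0 →
      (finrank ℂ (wsp Q ρ ψ v v' u) : ℂ) = if Qp Q v v' u = κ then (1 : ℂ) else 0 := by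
    intro u hu
    by_cases hq : Qp Q v v' u = κ
    · rw [if_pos hq, hW.h1 u hu hq, Nat.cast_one]
    · rw [if_neg hq, hW.h0 u hu hq, finrank_bot, Nat.cast_zero]
  have h1 : ∑ u ∈ Finset.univ.filter (fun u : ↥(perp Q v v') => u ≠ 0 ∧ φ u = u),
      (finrank ℂ (wsp Q ρ ψ v v' u) : ℂ) =
      ∑ u ∈ Finset.univ.filter (fun u : ↥(perp Q v v') => u ≠ 0 ∧ φ u = u),
        (if Qp Q v v' u = κ then (1 : ℂ) else 0) := by
    apply Finset.sum_congr rfl
    intro u hu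
    exact hterm u (Finset.mem_filter.mp hu).2.1
  rw [h1, ← Finset.sum_filter, Finset.sum_const, nsmul_eq_mul, Finset.filter_filter]
  have hcard : Nat.card {u : ↥(perp Q v v') // u ≠ 0 ∧ Qp Q v v' u = κ ∧ φ u = u} =
      (Finset.univ.filter (fun u : ↥(perp Q v v') =>
        (u ≠ 0 ∧ φ u = u) ∧ Qp Q v v' u = κ)).card := by
    rw [Nat.card_eq_fintype_card, Fintype.card_subtype]
    congr 1
    ext u
    simp only [Finset.mem_filter, Finset.mem_univ, true_and]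
    tauto
  rw [hcard]
  ring

end Cfsg.Agent.Lib.Helper57_OM_TRACEL
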