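import Mathlib
import Cfsg.Agent.Lib.Helper30_OMDefs
import Cfsg.Agent.Lib.Helper14_POmegaSimple
import Cfsg.Agent.Lib.Helper44_StdForms
import Cfsg.Agent.Lib.Helper10_MIO_CNTD

/-!
# S2346 (architect helper30): package OM-CNTRAD (helper58)

`#{u : Q u = κ, B(u,w) = β} = q^(dim - 2)` for `β ≠ 0`, `w` singular.
-/

set_option autoImplicit false
set_option linter.unusedVariables false
set_option linter.unusedSectionVars false

namespace Cfsg.Agent.Lib.Helper58_OM_CNTRAD

open Module Cfsg.Agent.Lib.Helper94_OrthSmall Cfsg.Agent.Lib.Helper44_QuadClass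
  Cfsg.Agent.Lib.Helper14_OmegaSimple Cfsg.Agent.Lib.Helper38_MIODefs
  Cfsg.Agent.Lib.Helper95_OPDefs Cfsg.Agent.Lib.Helper95_OPBasic Cfsg.Agent.Lib.Helper30_OMDefs

variable {F W : Type*} [Field F] [Fintype F] [AddCommGroup W] [Module F W] [FiniteDimensional F W]

theorem card_level_polar (Qw : QuadraticForm F W) (hQ : (QuadraticMap.polarBilin Qw).Nondegenerate)
    (w : W) (hw0 : w ≠ 0) (hw : Qw w = 0) (κ β : F) (hβ : β ≠ 0) :
    Nat.card {u : W // Qw u = κ ∧ QuadraticMap.polar (⇑Qw) u w = β} =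
      Fintype.card F ^ (finrank F W - 2) := by
  obtain ⟨w', hw', hww'⟩ := exists_hyperbolic_partner Qw hQ hw0 hw
  have hfr := finrank_perp hw hw' hww'
  have hfin : Finite W := Module.finite_of_finite F
  have hcard : Nat.card ↥(perp Qw w w') = Fintype.card F ^ finrank F ↥(perp Qw w w') := by
    have h1 := Module.natCard_eq_pow_finrank (K := F) (V := ↥(perp Qw w w'))
    rw [h1, Nat.card_eq_fintype_card]
  have hdim : finrank F W - 2 = finrank F ↥(perp Qw w w') := by omega
  rw [hdim, ← hcard]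
  have hpol : ∀ (a b : F) (u1 : ↥(perp Qw w w')),
      QuadraticMap.polar (⇑Qw) (a • w + (b • w' + (u1 : W))) w = b := by
    intro a b u1
    obtain ⟨h1, h2⟩ := (mem_perp Qw w w').1 u1.2
    rw [QuadraticMap.polar_comm, QuadraticMap.polar_add_right, QuadraticMap.polar_add_right,
      QuadraticMap.polar_smul_right, QuadraticMap.polar_smul_right, polar_self', hw, hww', h1]
    simp
  -- transfer along the decomposition
  have h1 : Nat.card {u : W // Qw u = κ ∧ QuadraticMap.polar (⇑Qw) u w = β} =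
      Nat.card {p : F × F × ↥(perp Qw w w') // p.1 * p.2.1 + Qw (p.2.2 : W) = κ ∧ p.2.1 = β} := by
    refine (Nat.card_congr
      ((Cfsg.Agent.Lib.Helper10_MIO_CNTD.decompEquiv Qw hw hw' hww').subtypeEquiv ?_)).symm
    rintro ⟨a, b, u1, hu1⟩
    show (a * b + Qw u1 = κ ∧ b = β) ↔
      (Qw (a • w + (b • w' + u1)) = κ ∧ QuadraticMap.polar (⇑Qw) (a • w + (b • w' + u1)) w = β)
    rw [Cfsg.Agent.Lib.Helper10_MIO_CNTD.Q_decomp Qw hw hw' hww' a b hu1, hpol a b ⟨u1, hu1⟩]
  rw [h1]
  apply Nat.card_congr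
  refine
    { toFun := fun p => p.1.2.2
      invFun := fun u1 => ⟨((κ - Qw (u1 : W)) / β, β, u1), ?_, rfl⟩
      left_inv := ?_
      right_inv := fun u1 => rfl }
  · show (κ - Qw (u1 : W)) / β * β + Qw (u1 : W) = κ
    field_simp
    ring
  · rintro ⟨⟨a, b, u1⟩, h2, h3⟩
    have h3' : b = β := h3
    have h2' : a * b + Qw (u1 : W) = κ := h2
    apply Subtype.ext
    show ((κ - Qw (u1 : W)) / β, β, u1) = (a, b, u1)
    rw [h3'] at h2' ⊢
    have : (κ - Qw (u1 : W)) / β = a := by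
      rw [← h2']
      field_simp
      ring
    rw [this]

end Cfsg.Agent.Lib.Helper58_OM_CNTRAD
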