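import Mathlib
import Cfsg.Agent.Lib.Helper30_OMDefs

/-!
# S2346 package OM-TSPAIR (architect helper30): a minus-type space of rank `m ≥ 3` contains a totally
singular 2-frame
-/

set_option autoImplicit false

namespace Cfsg.Agent.Lib.Helper60_OM_TSPAIR

open Module Cfsg.Agent.Lib.Helper94_OrthSmall Cfsg.Agent.Lib.Helper44_QuadClass
  Cfsg.Agent.Lib.Helper14_OmegaSimple Cfsg.Agent.Lib.Helper38_MIODefs
  Cfsg.Agent.Lib.Helper95_OPDefs Cfsg.Agent.Lib.Helper95_OPBasic Cfsg.Agent.Lib.Helper30_OMDefs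

variable {F W : Type*} [Field F] [Fintype F] [AddCommGroup W] [Module F W] [FiniteDimensional F W]

/-- a totally singular 2-frame exists in any non-degenerate quadratic space of dimension `≥ 5` over a finite
field -/
theorem exists_ts_pair_of_dim (Qw : QuadraticForm F W)
    (hQ : (QuadraticMap.polarBilin Qw).Nondegenerate) (hdim : 5 ≤ finrank F W) :
    ∃ a b : W, a ≠ 0 ∧ b ∉ Submodule.span F {a} ∧ Qw a = 0 ∧ Qw b = 0 ∧
      QuadraticMap.polar (⇑Qw) a b = 0 := by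
  obtain ⟨a, ha0, ha⟩ := exists_singular Qw (by omega)
  obtain ⟨a', ha', haa'⟩ := exists_hyperbolic_partner Qw hQ ha0 ha
  have hd := finrank_perp ha ha' haa'
  obtain ⟨b, hb0, hb⟩ := exists_singular (Qp Qw a a') (by omega)
  have hbmem := (mem_perp Qw a a').mp b.2
  refine ⟨a, (b : W), ha0, ?_, ha, hb, hbmem.1⟩
  intro hspan
  obtain ⟨c, hc⟩ := Submodule.mem_span_singleton.mp hspan
  have h1 : QuadraticMap.polar (⇑Qw) a' (c • a) = 0 := by rw [hc]; exact hbmem.2
  rw [QuadraticMap.polar_smul_right, QuadraticMap.polar_comm, haa', smul_eq_mul, mul_one] at h1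
  apply hb0
  apply Subtype.ext
  rw [← hc, h1, zero_smul]
  rfl

/-! ## OM-TSPAIR (S/M) -/
theorem exists_ts_pair_minus (Qw : QuadraticForm F W) (m : ℕ) (hm : 3 ≤ m) (hP : IsMinus Qw m) :
    ∃ a b : W, a ≠ 0 ∧ b ∉ Submodule.span F {a} ∧ Qw a = 0 ∧ Qw b = 0 ∧
      QuadraticMap.polar (⇑Qw) a b = 0 :=
  exists_ts_pair_of_dim Qw hP.nondeg (by rw [hP.dim]; omega)

end Cfsg.Agent.Lib.Helper60_OM_TSPAIR
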