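import Mathlib
import Cfsg.Agent.Lib.Helper95_OPDefs
import Cfsg.Agent.Lib.Helper95_OPBasic

/-!
# S2346 (architect helper30), package OM-KLAB (proof helper63)

`E(a,b) = [E(b,c), E(a,b')]` with both factors in `T Q` fixing `v`, `v'` and a given vector
`u ⊥ a, b` of `W = ⟨v, v'⟩^⊥` (`u ∈ ⟨a, b⟩` and `dim V ≥ 8`, or `dim V ≥ 10`).
Same argument as `Helper8_OM_KA` (wave 1), with `u` added to the span.
-/

set_option autoImplicit false
set_option linter.unusedSectionVars false
set_option linter.unusedVariables false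

namespace Cfsg.Agent.Lib.Helper63_OM_KLAB

open Module Cfsg.Agent.Lib.Helper94_OrthSmall Cfsg.Agent.Lib.Helper44_QuadClass
  Cfsg.Agent.Lib.Helper14_OmegaSimple Cfsg.Agent.Lib.Helper38_MIODefs
  Cfsg.Agent.Lib.Helper95_OPDefs Cfsg.Agent.Lib.Helper95_OPBasic

variable {F V : Type*} [Field F] [Fintype F] [AddCommGroup V] [Module F V] [FiniteDimensional F V]
  {X : Type*} [AddCommGroup X] [Module ℂ X] [FiniteDimensional ℂ X]

/-- two vectors orthogonal to `v, v', a, b, u` with inner product `-1` -/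
theorem exists_pair5 (Q : QuadraticForm F V) (hQ : (QuadraticMap.polarBilin Q).Nondegenerate)
    (hdim : 8 ≤ finrank F V) {v v' : V} (hv : Q v = 0) (hv' : Q v' = 0)
    (hvv' : QuadraticMap.polar (⇑Q) v v' = 1)
    (a b u : V) (ha : a ∈ perp Q v v') (hb : b ∈ perp Q v v') (hu : u ∈ perp Q v v')
    (h : u ∈ Submodule.span F {a, b} ∨ 10 ≤ finrank F V) :
    ∃ c b' : V, (QuadraticMap.polar (⇑Q) v c = 0 ∧ QuadraticMap.polar (⇑Q) v' c = 0 ∧
      QuadraticMap.polar (⇑Q) a c = 0 ∧ QuadraticMap.polar (⇑Q) b c = 0 ∧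
      QuadraticMap.polar (⇑Q) u c = 0) ∧
      (QuadraticMap.polar (⇑Q) v b' = 0 ∧ QuadraticMap.polar (⇑Q) v' b' = 0 ∧
      QuadraticMap.polar (⇑Q) a b' = 0 ∧ QuadraticMap.polar (⇑Q) b b' = 0 ∧
      QuadraticMap.polar (⇑Q) u b' = 0) ∧
      QuadraticMap.polar (⇑Q) b' c = -1 := by
  classical
  set B : LinearMap.BilinForm F V := QuadraticMap.polarBilin Q with hB
  have hBa : ∀ x y, B x y = QuadraticMap.polar (⇑Q) x y := fun x y =>
    QuadraticMap.polarBilin_apply_apply Q x y
  have hrefl : LinearMap.BilinForm.IsRefl B := by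
    intro x y h
    rw [hBa] at h ⊢
    rw [QuadraticMap.polar_comm]; exact h
  obtain ⟨hva, hv'a⟩ := (mem_perp Q v v').mp ha
  obtain ⟨hvb, hv'b⟩ := (mem_perp Q v v').mp hb
  obtain ⟨hvu, hv'u⟩ := (mem_perp Q v v').mp hu
  set U : Submodule F V := Submodule.span F ({v, v', a, b, u} : Set V) with hU
  have hUdim5 : finrank F U ≤ 5 := by
    have h1 := finrank_span_finset_le_card (R := F) ({v, v', a, b, u} : Finset V)
    have h2 : (({v, v', a, b, u} : Finset V) : Set V) = ({v, v', a, b, u} : Set V) := by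
      push_cast; rfl
    rw [Set.finrank, h2] at h1
    exact h1.trans Finset.card_le_five
  have hUdim4 : u ∈ Submodule.span F {a, b} → finrank F U ≤ 4 := by
    intro hu2
    have hle : U ≤ Submodule.span F ({v, v', a, b} : Set V) := by
      rw [hU, Submodule.span_le]
      have hab : Submodule.span F ({a, b} : Set V) ≤ Submodule.span F ({v, v', a, b} : Set V) :=
        Submodule.span_mono (by
          intro x hx
          simp only [Set.mem_insert_iff, Set.mem_singleton_iff] at hx ⊢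
          tauto)
      intro x hx
      simp only [Set.mem_insert_iff, Set.mem_singleton_iff] at hx
      rcases hx with rfl | rfl | rfl | rfl | rfl
      · exact Submodule.subset_span (by simp)
      · exact Submodule.subset_span (by simp)
      · exact Submodule.subset_span (by simp)
      · exact Submodule.subset_span (by simp)
      · exact hab hu2
    have h1 := finrank_span_finset_le_card (R := F) ({v, v', a, b} : Finset V)
    have h2 : (({v, v', a, b} : Finset V) : Set V) = ({v, v', a, b} : Set V) := by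
      push_cast; rfl
    rw [Set.finrank, h2] at h1
    exact (Submodule.finrank_mono hle).trans (h1.trans Finset.card_le_four)
  set Xs : Submodule F V := LinearMap.BilinForm.orthogonal B U with hXs
  have hXfin : finrank F Xs = finrank F V - finrank F U :=
    LinearMap.BilinForm.finrank_orthogonal hQ U
  have hmemX : ∀ x, x ∈ Xs ↔ QuadraticMap.polar (⇑Q) v x = 0 ∧ QuadraticMap.polar (⇑Q) v' x = 0 ∧
      QuadraticMap.polar (⇑Q) a x = 0 ∧ QuadraticMap.polar (⇑Q) b x = 0 ∧
      QuadraticMap.polar (⇑Q) u x = 0 := by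
    intro x
    rw [hXs, LinearMap.BilinForm.mem_orthogonal_iff]
    constructor
    · intro h
      refine ⟨?_, ?_, ?_, ?_, ?_⟩
      · rw [← hBa]; exact h v (Submodule.subset_span (by simp))
      · rw [← hBa]; exact h v' (Submodule.subset_span (by simp))
      · rw [← hBa]; exact h a (Submodule.subset_span (by simp))
      · rw [← hBa]; exact h b (Submodule.subset_span (by simp))
      · rw [← hBa]; exact h u (Submodule.subset_span (by simp))
    · rintro ⟨h1, h2, h3, h4, h5⟩ n hn
      rw [hU] at hn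
      obtain ⟨α, z1, hz1, rfl⟩ := Submodule.mem_span_insert.mp hn
      obtain ⟨β, z2, hz2, rfl⟩ := Submodule.mem_span_insert.mp hz1
      obtain ⟨γ, z3, hz3, rfl⟩ := Submodule.mem_span_insert.mp hz2
      obtain ⟨δ, z4, hz4, rfl⟩ := Submodule.mem_span_insert.mp hz3
      obtain ⟨ε, rfl⟩ := Submodule.mem_span_singleton.mp hz4
      simp only [map_add, map_smul, LinearMap.add_apply, LinearMap.smul_apply, hBa, h1, h2, h3, h4,
        h5, smul_zero, add_zero]
  by_contra hcon
  push Not at hcon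
  -- `B` vanishes on `Xs`
  have hzero : ∀ c ∈ Xs, ∀ b' ∈ Xs, QuadraticMap.polar (⇑Q) b' c = 0 := by
    intro c hc b' hb'
    by_contra hk
    have hb'' : (-(QuadraticMap.polar (⇑Q) b' c)⁻¹) • b' ∈ Xs := Submodule.smul_mem _ _ hb'
    apply hcon c ((-(QuadraticMap.polar (⇑Q) b' c)⁻¹) • b') ((hmemX c).mp hc) ((hmemX _).mp hb'')
    rw [QuadraticMap.polar_smul_left, smul_eq_mul, neg_mul, inv_mul_cancel₀ hk]
  have hle : Xs ≤ Submodule.span F ({a, b, u} : Set V) := by
    intro x hx
    have hxU : x ∈ U := by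
      rw [← LinearMap.BilinForm.orthogonal_orthogonal hQ hrefl U, ← hXs,
        LinearMap.BilinForm.mem_orthogonal_iff]
      intro n hn
      rw [hBa]
      exact hzero x hx n hn
    rw [hU] at hxU
    obtain ⟨α, z1, hz1, rfl⟩ := Submodule.mem_span_insert.mp hxU
    obtain ⟨β, z2, hz2, rfl⟩ := Submodule.mem_span_insert.mp hz1
    obtain ⟨γ, z3, hz3, rfl⟩ := Submodule.mem_span_insert.mp hz2
    obtain ⟨δ, z4, hz4, rfl⟩ := Submodule.mem_span_insert.mp hz3
    obtain ⟨ε, rfl⟩ := Submodule.mem_span_singleton.mp hz4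
    obtain ⟨h1, h2, -, -, -⟩ := (hmemX _).mp hx
    have hvv : QuadraticMap.polar (⇑Q) v v = 0 := by rw [polar_self', hv, mul_zero]
    have hv'v' : QuadraticMap.polar (⇑Q) v' v' = 0 := by rw [polar_self', hv', mul_zero]
    have hv'v : QuadraticMap.polar (⇑Q) v' v = 1 := by rw [QuadraticMap.polar_comm]; exact hvv'
    simp only [QuadraticMap.polar_add_right, QuadraticMap.polar_smul_right, hvv, hvv', hva, hvb,
      hvu, hv'v, hv'v', hv'a, hv'b, hv'u, smul_eq_mul, mul_zero, mul_one, add_zero,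
      zero_add] at h1 h2
    rw [h1, h2, zero_smul, zero_smul, zero_add, zero_add]
    refine Submodule.add_mem _ (Submodule.smul_mem _ _ (Submodule.subset_span (by simp))) ?_
    refine Submodule.add_mem _ (Submodule.smul_mem _ _ (Submodule.subset_span (by simp))) ?_
    exact Submodule.smul_mem _ _ (Submodule.subset_span (by simp))
  have h3 : finrank F Xs ≤ 3 := by
    have h1 := finrank_span_finset_le_card (R := F) ({a, b, u} : Finset V)
    have h3 : (({a, b, u} : Finset V) : Set V) = ({a, b, u} : Set V) := by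
      push_cast; rfl
    rw [Set.finrank, h3] at h1
    exact (Submodule.finrank_mono hle).trans (h1.trans Finset.card_le_three)
  rcases h with h | h
  · -- `u ∈ ⟨a, b⟩`
    have h4 := hUdim4 h
    have hle2 : Xs ≤ Submodule.span F ({a, b} : Set V) := by
      refine hle.trans ?_
      rw [Submodule.span_le]
      intro x hx
      simp only [Set.mem_insert_iff, Set.mem_singleton_iff] at hx
      rcases hx with rfl | rfl | rfl
      · exact Submodule.subset_span (by simp)
      · exact Submodule.subset_span (by simp)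
      · exact h
    have h2 : finrank F Xs ≤ 2 := by
      have h1 := finrank_span_finset_le_card (R := F) ({a, b} : Finset V)
      have h3 : (({a, b} : Finset V) : Set V) = ({a, b} : Set V) := by
        push_cast; rfl
      rw [Set.finrank, h3] at h1
      exact (Submodule.finrank_mono hle2).trans (h1.trans Finset.card_le_two)
    omega
  · omega

/-! ## OM-KLAB (M/L) -/
theorem exists_comm_fix_all (Q : QuadraticForm F V) (hQ : (QuadraticMap.polarBilin Q).Nondegenerate)
    (hdim : 8 ≤ finrank F V) {v v' : V} (hv : Q v = 0) (hv' : Q v' = 0)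
    (hvv' : QuadraticMap.polar (⇑Q) v v' = 1)
    (a b u : V) (ha : a ∈ perp Q v v') (hb : b ∈ perp Q v v') (hu : u ∈ perp Q v v')
    (hQa : Q a = 0) (hQb : Q b = 0) (hab : QuadraticMap.polar (⇑Q) a b = 0)
    (hua : QuadraticMap.polar (⇑Q) u a = 0) (hub : QuadraticMap.polar (⇑Q) u b = 0)
    (h : u ∈ Submodule.span F {a, b} ∨ 10 ≤ finrank F V) :
    ∃ g₁ g₂ : V ≃ₗ[F] V, g₁ ∈ T Q ∧ g₂ ∈ T Q ∧ g₁ v = v ∧ g₁ v' = v' ∧ g₁ u = u ∧
      g₂ v = v ∧ g₂ v' = v' ∧ g₂ u = u ∧ E Q a b = g₁ * g₂ * g₁⁻¹ * g₂⁻¹ := by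
  have hdim5 : 5 ≤ finrank F V := by omega
  obtain ⟨c, b', ⟨hvc, hv'c, hac, hbc, huc⟩, ⟨hvb', hv'b', hab', hbb', hub'⟩, hb'c⟩ :=
    exists_pair5 Q hQ hdim hv hv' hvv' a b u ha hb hu h
  obtain ⟨hva, hv'a⟩ := (mem_perp Q v v').mp ha
  obtain ⟨hvb, hv'b⟩ := (mem_perp Q v v').mp hb
  have hg1 : E Q b c ∈ T Q := E_mem_T Q hQ hdim5 hQb hbc
  have hg2 : E Q a b' ∈ T Q := E_mem_T Q hQ hdim5 hQa hab'
  have hba : QuadraticMap.polar (⇑Q) b a = 0 := by rw [QuadraticMap.polar_comm]; exact hab
  have hb'b : QuadraticMap.polar (⇑Q) b' b = 0 := by rw [QuadraticMap.polar_comm]; exact hbb'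
  have e1 : E Q b c a = a := by
    rw [E_apply Q hQb hbc, hab, hac]; simp
  have e2 : E Q b c b' = b' + b := by
    rw [E_apply Q hQb hbc, hb'b, hb'c]; simp
  refine ⟨E Q b c, E Q a b', hg1, hg2, ?_, ?_, ?_, ?_, ?_, ?_, ?_⟩
  · rw [E_apply Q hQb hbc, hvb, hvc]; simp
  · rw [E_apply Q hQb hbc, hv'b, hv'c]; simp
  · rw [E_apply Q hQb hbc, hub, huc]; simp
  · rw [E_apply Q hQa hab', hva, hvb']; simp
  · rw [E_apply Q hQa hab', hv'a, hv'b']; simp
  · rw [E_apply Q hQa hab', hua, hub']; simp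
  · rw [conj_E Q (T_le_oG Q hg1) hQa hab', e1, e2, E_inv Q hQa hab', E_mul Q hQa]
    · congr 1; abel
    · rw [QuadraticMap.polar_add_right, hab', hab, add_zero]
    · rw [QuadraticMap.polar_neg_right, hab', neg_zero]

end Cfsg.Agent.Lib.Helper63_OM_KLAB
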