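import Mathlib
import Cfsg.Agent.Lib.Helper30_OMDefs

/-!
# S2346 (architect helper30), package OM-WITT2

In a minus-type space of dimension 6 (Witt index 2) a singular vector orthogonal to a totally singular
pair `a, b` lies in `⟨a, b⟩`.
-/

set_option autoImplicit false
set_option linter.unusedSectionVars false
set_option linter.unusedVariables false

namespace Cfsg.Agent.Lib.Helper8_OM_WITT2

open Module Cfsg.Agent.Lib.Helper94_OrthSmall Cfsg.Agent.Lib.Helper44_QuadClass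
  Cfsg.Agent.Lib.Helper14_OmegaSimple Cfsg.Agent.Lib.Helper38_MIODefs
  Cfsg.Agent.Lib.Helper95_OPDefs Cfsg.Agent.Lib.Helper95_OPBasic Cfsg.Agent.Lib.Helper30_OMDefs

variable {F W : Type*} [Field F] [Fintype F] [AddCommGroup W] [Module F W] [FiniteDimensional F W]

/-- projecting a vector orthogonal to `a` into the complement of the hyperbolic pair `a, a'` -/
theorem proj_mem_perp (Q : QuadraticForm F W) {a a' : W} (ha : Q a = 0)
    (haa' : QuadraticMap.polar (⇑Q) a a' = 1) (u : W) (hua : QuadraticMap.polar (⇑Q) u a = 0) :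
    u - QuadraticMap.polar (⇑Q) u a' • a ∈ perp Q a a' ∧
      Q (u - QuadraticMap.polar (⇑Q) u a' • a) = Q u := by
  have haa : QuadraticMap.polar (⇑Q) a a = 0 := by rw [polar_self', ha, mul_zero]
  have hau : QuadraticMap.polar (⇑Q) a u = 0 := by rw [QuadraticMap.polar_comm]; exact hua
  have ha'a : QuadraticMap.polar (⇑Q) a' a = 1 := by rw [QuadraticMap.polar_comm]; exact haa'
  constructor
  · rw [mem_perp]
    constructor
    · rw [QuadraticMap.polar_sub_right, QuadraticMap.polar_smul_right, hau, haa, smul_zero, sub_zero]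
    · rw [QuadraticMap.polar_sub_right, QuadraticMap.polar_smul_right, ha'a,
        QuadraticMap.polar_comm (⇑Q) a' u, smul_eq_mul, mul_one, sub_self]
  · rw [Cfsg.Agent.Lib.Helper14_OmegaSimple.map_sub', QuadraticMap.map_smul, ha, QuadraticMap.polar_smul_right, hua]
    simp

/-! ## OM-WITT2 (M) -/
theorem mem_span_of_ts_minus3 (Qw : QuadraticForm F W) (hP : IsMinus Qw 3)
    (a b u : W) (ha0 : a ≠ 0) (hba : b ∉ Submodule.span F {a}) (ha : Qw a = 0) (hb : Qw b = 0)
    (hab : QuadraticMap.polar (⇑Qw) a b = 0) (hu : Qw u = 0)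
    (hua : QuadraticMap.polar (⇑Qw) u a = 0) (hub : QuadraticMap.polar (⇑Qw) u b = 0) :
    u ∈ Submodule.span F {a, b} := by
  obtain ⟨a', ha', haa'⟩ := exists_hyperbolic_partner Qw hP.nondeg ha0 ha
  have hM2 : IsMinus (Qp Qw a a') 2 := isMinus_perp Qw 3 (by norm_num) hP ha ha' haa'
  have hba' : QuadraticMap.polar (⇑Qw) b a = 0 := by rw [QuadraticMap.polar_comm]; exact hab
  have haa : QuadraticMap.polar (⇑Qw) a a = 0 := by rw [polar_self', ha, mul_zero]
  -- `b₁`
  obtain ⟨hb₁, hQb₁⟩ := proj_mem_perp Qw ha haa' b hba'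
  set c := QuadraticMap.polar (⇑Qw) b a' with hc
  set B₁ : ↥(perp Qw a a') := ⟨b - c • a, hb₁⟩ with hB₁
  have hB₁ne : B₁ ≠ 0 := by
    intro h0
    have h1 : b - c • a = 0 := congrArg Subtype.val h0
    apply hba
    rw [Submodule.mem_span_singleton]
    exact ⟨c, (sub_eq_zero.mp h1).symm⟩
  have hQB₁ : Qp Qw a a' B₁ = 0 := by
    show Qw (b - c • a) = 0
    rw [hQb₁, hb]
  obtain ⟨b', hb', hBb'⟩ := exists_hyperbolic_partner (Qp Qw a a') hM2.nondeg hB₁ne hQB₁
  have hM1 : IsMinus (Qp (Qp Qw a a') B₁ b') 1 :=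
    isMinus_perp (Qp Qw a a') 2 le_rfl hM2 hQB₁ hb' hBb'
  have hone : Nat.card {y : ↥(perp (Qp Qw a a') B₁ b') // Qp (Qp Qw a a') B₁ b' y = 0} = 1 := by
    rw [hM1.zeros]
    simp
  -- `u₁`
  obtain ⟨hu₁, hQu₁⟩ := proj_mem_perp Qw ha haa' u hua
  set α := QuadraticMap.polar (⇑Qw) u a' with hα
  set U₁ : ↥(perp Qw a a') := ⟨u - α • a, hu₁⟩ with hU₁
  have hQU₁ : Qp Qw a a' U₁ = 0 := by
    show Qw (u - α • a) = 0
    rw [hQu₁, hu]
  have hUB : QuadraticMap.polar (⇑(Qp Qw a a')) U₁ B₁ = 0 := by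
    rw [polar_comp_subtype]
    show QuadraticMap.polar (⇑Qw) (u - α • a) (b - c • a) = 0
    simp only [QuadraticMap.polar_sub_left, QuadraticMap.polar_sub_right,
      QuadraticMap.polar_smul_left, QuadraticMap.polar_smul_right, hub, hua, hab, haa]
    simp
  obtain ⟨hy, hQy⟩ := proj_mem_perp (Qp Qw a a') hQB₁ hBb' U₁ hUB
  set β := QuadraticMap.polar (⇑(Qp Qw a a')) U₁ b' with hβ
  have hsub : Subsingleton {y : ↥(perp (Qp Qw a a') B₁ b') // Qp (Qp Qw a a') B₁ b' y = 0} :=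
    (Nat.card_eq_one_iff_unique.mp hone).1
  have hy0 : (⟨⟨U₁ - β • B₁, hy⟩, by
      show Qp Qw a a' (U₁ - β • B₁) = 0
      rw [hQy, hQU₁]⟩ : {y : ↥(perp (Qp Qw a a') B₁ b') // Qp (Qp Qw a a') B₁ b' y = 0}) =
      ⟨0, map_zero _⟩ := Subsingleton.elim _ _
  have h1 : U₁ - β • B₁ = 0 := by
    have := congrArg (fun z => (z.1 : ↥(perp Qw a a'))) hy0
    exact this
  have h2 : u - α • a - β • (b - c • a) = 0 := by
    have := congrArg Subtype.val h1
    exact this
  have h3 : u = (α - β * c) • a + β • b := by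
    have : u = α • a + β • (b - c • a) := by
      rw [sub_eq_zero] at h2
      rw [← h2]; abel
    rw [this, smul_sub, smul_smul, sub_smul]
    abel
  rw [h3]
  exact Submodule.mem_span_pair.mpr ⟨_, _, rfl⟩

end Cfsg.Agent.Lib.Helper8_OM_WITT2
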