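import Mathlib
import Cfsg.Agent.Lib.Helper3_RepDecomp
import Cfsg.Agent.Lib.Helper3_CharDegree

/-!
# The commuting subspace of a complex representation (helper4)

`commSub ρ` is the largest subspace on which all the operators `ρ a`, `ρ b` commute.  It is
invariant; by Maschke, if it is not everything, then a complement contains an irreducible
invariant subspace, and that cannot have dimension one.  So a representation whose image is not
commutative has an irreducible constituent of degree different from one.
-/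

set_option autoImplicit false

namespace Cfsg.Agent.Lib.Helper4_RepComm

open Cfsg.Agent.Lib.Helper3_RepDecomp Cfsg.Agent.Lib.Helper3_CharDegree

variable {G : Type*} [Group G] {V : Type*} [AddCommGroup V] [Module ℂ V]

/-- The subspace on which all the `ρ a`, `ρ b` commute. -/
def commSub (ρ : Representation ℂ G V) : Submodule ℂ V :=
  ⨅ (a : G) (b : G), LinearMap.ker (ρ (a * b) - ρ (b * a))

theorem mem_commSub (ρ : Representation ℂ G V) (v : V) :
    v ∈ commSub ρ ↔ ∀ a b : G, ρ (a * b) v = ρ (b * a) v := by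
  simp only [commSub, Submodule.mem_iInf, LinearMap.mem_ker, LinearMap.sub_apply, sub_eq_zero]

theorem isInv_commSub (ρ : Representation ℂ G V) : IsInv ρ (commSub ρ) := by
  intro g v hv
  rw [mem_commSub] at hv ⊢
  intro a b
  have h1 : ρ (a * b) (ρ g v) = ρ (a * b * g) v := by rw [map_mul ρ (a * b) g]; rfl
  have h2 : ρ (b * a) (ρ g v) = ρ (b * a * g) v := by rw [map_mul ρ (b * a) g]; rfl
  rw [h1, h2, hv (a * b) g, hv (b * a) g, map_mul ρ g (a * b), map_mul ρ g (b * a)]
  change ρ g (ρ (a * b) v) = ρ g (ρ (b * a) v)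
  rw [hv a b]

theorem commSub_eq_top_iff (ρ : Representation ℂ G V) :
    commSub ρ = ⊤ ↔ ∀ a b : G, ρ (a * b) = ρ (b * a) := by
  constructor
  · intro h a b
    apply LinearMap.ext
    intro v
    have hv : v ∈ commSub ρ := by rw [h]; trivial
    exact (mem_commSub ρ v).mp hv a b
  · intro h
    rw [eq_top_iff]
    intro v _
    rw [mem_commSub]
    intro a b
    rw [h a b]

/-- A vector spanning an invariant line lies in the commuting subspace. -/
theorem mem_commSub_of_scalar (ρ : Representation ℂ G V) (v : V)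
    (h : ∀ g : G, ∃ c : ℂ, ρ g v = c • v) : v ∈ commSub ρ := by
  rw [mem_commSub]
  intro x y
  obtain ⟨cx, hx⟩ := h x
  obtain ⟨cy, hy⟩ := h y
  rw [map_mul, map_mul]
  change ρ x (ρ y _) = ρ y (ρ x _)
  rw [hx, hy, map_smul, map_smul, hx, hy, smul_smul, smul_smul, mul_comm]

/-- If the image of `ρ` is not commutative then `ρ` has an irreducible constituent (an irreducible
invariant subspace `W` of an invariant subspace `U`) whose dimension is not one. -/
theorem exists_irreducible_sub_finrank_ne_one [Finite G] [FiniteDimensional ℂ V]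
    (ρ : Representation ℂ G V) (h : commSub ρ ≠ ⊤) :
    ∃ (U : Submodule ℂ V) (hU : IsInv ρ U) (W : Submodule ℂ U)
      (hW : IsInv (subRep ρ U hU) W),
      (subRep (subRep ρ U hU) W hW).IsIrreducible ∧ Module.finrank ℂ W ≠ 1 := by
  classical
  have : NeZero (Nat.card G : ℂ) := ⟨by exact_mod_cast Nat.card_pos.ne'⟩
  obtain ⟨U', hU', hc⟩ := exists_isInv_isCompl ρ (commSub ρ) (isInv_commSub ρ)
  have hne : U' ≠ ⊥ := by
    intro hbot
    apply h
    have := hc.sup_eq_top
    rwa [hbot, sup_bot_eq] at this
  have : Nontrivial U' := Submodule.nontrivial_iff_ne_bot.mpr hne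
  obtain ⟨W, hW, hWne, hirr⟩ := exists_irreducible_sub (subRep ρ U' hU')
  refine ⟨U', hU', W, hW, hirr, ?_⟩
  intro hone
  obtain ⟨w, hw0, hw⟩ := finrank_eq_one_iff'.mp hone
  have hscal : ∀ g : G, ∃ c : ℂ, ρ g ((w : U') : V) = c • ((w : U') : V) := by
    intro g
    obtain ⟨c, hc⟩ := hw (subRep (subRep ρ U' hU') W hW g w)
    refine ⟨c, ?_⟩
    have := congrArg (fun x : W => ((x : U') : V)) hc
    simp only [Submodule.coe_smul, subRep_apply] at this
    exact this.symm
  have hmem : ((w : U') : V) ∈ commSub ρ := mem_commSub_of_scalar ρ _ hscal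
  have hmem' : ((w : U') : V) ∈ U' := (w : U').2
  have : ((w : U') : V) ∈ commSub ρ ⊓ U' := ⟨hmem, hmem'⟩
  rw [hc.inf_eq_bot, Submodule.mem_bot] at this
  apply hw0
  apply Subtype.ext
  apply Subtype.ext
  simpa using this

end Cfsg.Agent.Lib.Helper4_RepComm
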