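import Mathlib
import Cfsg.Agent.Lib.Helper77_SLnDefs
import Cfsg.Prelude.Def_Characters
import Cfsg.Agent.Lib.Helper4_RepComm

/-!
# S2332 package IRRSUB (architect helper77, proof helper4)

A complex representation of a finite perfect group which is not trivial has an irreducible
constituent of degree at least two.
-/

set_option autoImplicit false
open Matrix Cfsg.Agent.Lib.Helper5_Transv Cfsg.Agent.Lib.Helper77_SLnDefs

namespace Cfsg.Agent.Lib.Helper4_S2332_IRRSUB

open Cfsg.Agent.Lib.Helper3_RepDecomp Cfsg.Agent.Lib.Helper4_RepComm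

theorem finrank_pos_of_irr {G : Type*} [Group G] {Y : Type*} [AddCommGroup Y] [Module ℂ Y]
    (τ : Representation ℂ G Y) (h : τ.IsIrreducible) : Nontrivial Y := by
  have : Nontrivial (Subrepresentation τ) := IsSimpleOrder.toNontrivial
  by_contra hV
  rw [not_nontrivial_iff_subsingleton] at hV
  obtain ⟨a, b, hab⟩ := this
  apply hab
  apply Subrepresentation.toSubmodule_injective
  ext v
  have hv : v = 0 := Subsingleton.elim v 0
  simp [hv]

theorem exists_irr_sub_of_ne_one {G : Type*} [Group G] [Finite G] (hperf : commutator G = ⊤)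
    {X : Type} [AddCommGroup X] [Module ℂ X] [FiniteDimensional ℂ X]
    (σ : Representation ℂ G X) (g : G) (hg : σ g ≠ 1) :
    ∃ (Y : Type) (_ : AddCommGroup Y) (_ : Module ℂ Y) (_ : FiniteDimensional ℂ Y)
      (τ : Representation ℂ G Y), τ.IsIrreducible ∧ 2 ≤ Module.finrank ℂ Y ∧
        Module.finrank ℂ Y ≤ Module.finrank ℂ X := by
  have hne : commSub σ ≠ ⊤ := by
    intro htop
    have hcomm := (commSub_eq_top_iff σ).mp htop
    apply hg
    have hle : commutator G ≤ MonoidHom.ker σ := by
      rw [commutator_def, Subgroup.commutator_le]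
      intro a _ b _
      rw [MonoidHom.mem_ker, commutatorElement_def]
      have h1 : σ (a * b * a⁻¹ * b⁻¹) = σ (a * b) * σ (a⁻¹ * b⁻¹) := by
        rw [← map_mul]
        congr 1
        group
      rw [h1, hcomm a b, ← map_mul]
      have : b * a * (a⁻¹ * b⁻¹) = 1 := by group
      rw [this, map_one]
    have : g ∈ MonoidHom.ker σ := hle (by rw [hperf]; trivial)
    exact MonoidHom.mem_ker.mp this
  obtain ⟨U, hU, W, hW, hirr, hne1⟩ := exists_irreducible_sub_finrank_ne_one σ hne
  refine ⟨W, inferInstance, inferInstance, inferInstance, subRep (subRep σ U hU) W hW, hirr, ?_, ?_⟩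
  · have : Nontrivial W := finrank_pos_of_irr _ hirr
    have hpos : 0 < Module.finrank ℂ W := Module.finrank_pos
    omega
  · exact (Submodule.finrank_le W).trans (Submodule.finrank_le U)

end Cfsg.Agent.Lib.Helper4_S2332_IRRSUB
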