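import Mathlib
import Cfsg.Agent.Lib.Helper95_OPDefs

/-!
# S2345 package OP-ARITH (architect helper95): arithmetic of `dplus` and `sing`
-/

set_option autoImplicit false

namespace Cfsg.Agent.Lib.Helper55_OP_ARITH

open Cfsg.Agent.Lib.Helper95_OPDefs

theorem sq_sub_one (q : ℕ) (hq : 1 ≤ q) : q ^ 2 - 1 = (q - 1) * (q + 1) := by
  obtain ⟨a, rfl⟩ : ∃ a, q = a + 1 := ⟨q - 1, by omega⟩
  rw [Nat.add_sub_cancel]
  have : (a + 1) ^ 2 = a * (a + 1 + 1) + 1 := by ring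
  rw [this, Nat.add_sub_cancel]

theorem dvd_key (q n : ℕ) (hq : 2 ≤ q) :
    (q ^ 2 - 1) ∣ (q ^ n - 1) * (q ^ (n - 1) + q) := by
  rcases Nat.even_or_odd' n with ⟨k, rfl | rfl⟩
  · apply Dvd.dvd.mul_right
    have := Nat.sub_dvd_pow_sub_pow (q ^ 2) 1 k
    rwa [one_pow, ← pow_mul] at this
  · have h1 : q - 1 ∣ q ^ (2 * k + 1) - 1 := by
      have := Nat.sub_dvd_pow_sub_pow q 1 (2 * k + 1)
      rwa [one_pow] at this
    have h2 : q + 1 ∣ q ^ (2 * k + 1 - 1) + q := by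
      rcases Nat.eq_zero_or_pos k with rfl | hk
      · simp [add_comm]
      · obtain ⟨j, rfl⟩ : ∃ j, k = j + 1 := ⟨k - 1, by omega⟩
        have h3 : Odd (2 * j + 1) := ⟨j, rfl⟩
        have := Odd.nat_add_dvd_pow_add_pow q 1 h3
        rw [one_pow] at this
        have h4 : q ^ (2 * (j + 1) + 1 - 1) + q = q * (q ^ (2 * j + 1) + 1) := by
          have : 2 * (j + 1) + 1 - 1 = (2 * j + 1) + 1 := by omega
          rw [this]; ring
        rw [h4]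
        exact Dvd.dvd.mul_left this q
    rw [sq_sub_one q (by omega)]
    exact mul_dvd_mul h1 h2

theorem key (q n : ℕ) (hq : 2 ≤ q) :
    (q ^ 2 - 1) * dplus q n = (q ^ n - 1) * (q ^ (n - 1) + q) := by
  unfold dplus
  exact Nat.mul_div_cancel' (dvd_key q n hq)

theorem key_int (q n : ℕ) (hq : 2 ≤ q) :
    ((q : ℤ) ^ 2 - 1) * (dplus q n : ℤ) = ((q : ℤ) ^ n - 1) * ((q : ℤ) ^ (n - 1) + q) := by
  have h := key q n hq
  have h1 : 1 ≤ q ^ 2 := Nat.one_le_pow _ _ (by omega)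
  have h2 : 1 ≤ q ^ n := Nat.one_le_pow _ _ (by omega)
  zify [h1, h2] at h
  exact h

theorem sing_int (q m : ℕ) (hq : 2 ≤ q) (hm : 1 ≤ m) :
    (sing q m : ℤ) = (q : ℤ) ^ (2 * m - 1) + (q : ℤ) ^ m - (q : ℤ) ^ (m - 1) - 1 := by
  unfold sing
  have h1 : q ^ (m - 1) ≤ q ^ m := Nat.pow_le_pow_right (by omega) (by omega)
  have h2 : 1 ≤ q ^ (2 * m - 1) := Nat.one_le_pow _ _ (by omega)
  have h3 : q ^ (m - 1) ≤ q ^ (2 * m - 1) + q ^ m := by omega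
  have h4 : 1 ≤ q ^ (2 * m - 1) + q ^ m - q ^ (m - 1) := by omega
  rw [Nat.cast_sub h4, Nat.cast_sub h3]
  push_cast
  ring

theorem dplus_three (q : ℕ) (hq : 2 ≤ q) : dplus q 3 = q ^ 3 + q ^ 2 + q := by
  have h := key_int q 3 hq
  have h0 : (0 : ℤ) < (q : ℤ) ^ 2 - 1 := by
    have : (2 : ℤ) ≤ q := by exact_mod_cast hq
    nlinarith
  have : (dplus q 3 : ℤ) = ((q ^ 3 + q ^ 2 + q : ℕ) : ℤ) := by
    apply mul_left_cancel₀ (ne_of_gt h0)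
    rw [h]
    push_cast
    ring
  exact_mod_cast this

theorem dplus_succ (q n : ℕ) (hq : 2 ≤ q) (hn : 3 ≤ n) :
    dplus q n = sing q (n - 1) + 1 + dplus q (n - 1) := by
  obtain ⟨m, rfl⟩ : ∃ m, n = m + 3 := ⟨n - 3, by omega⟩
  have e1 : m + 3 - 1 = m + 2 := by omega
  rw [e1]
  have h := key_int q (m + 3) hq
  have h' := key_int q (m + 2) hq
  have hs := sing_int q (m + 2) hq (by omega)
  have e2 : m + 2 - 1 = m + 1 := by omega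
  have e3 : 2 * (m + 2) - 1 = 2 * m + 3 := by omega
  rw [e1] at h
  rw [e2] at h' hs
  rw [e3] at hs
  have h0 : (0 : ℤ) < (q : ℤ) ^ 2 - 1 := by
    have : (2 : ℤ) ≤ q := by exact_mod_cast hq
    nlinarith
  have : (dplus q (m + 3) : ℤ) = ((sing q (m + 2) + 1 + dplus q (m + 2) : ℕ) : ℤ) := by
    apply mul_left_cancel₀ (ne_of_gt h0)
    push_cast
    rw [mul_add, h, h', mul_add, hs]
    ring
  exact_mod_cast this

theorem dplus_le_two_sing (q n : ℕ) (hq : 4 ≤ q) (hn : 4 ≤ n) : dplus q n ≤ 2 * sing q (n - 1) := by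
  obtain ⟨k, rfl⟩ : ∃ k, n = k + 2 := ⟨n - 2, by omega⟩
  have hk : 2 ≤ k := by omega
  have hkey := key_int q (k + 2) (by omega)
  have hs := sing_int q (k + 2 - 1) (by omega) (by omega)
  rw [show k + 2 - 1 = k + 1 by omega] at hkey hs
  rw [show 2 * (k + 1) - 1 = 2 * k + 1 by omega, show k + 1 - 1 = k by omega] at hs
  rw [show k + 2 - 1 = k + 1 by omega]
  obtain ⟨Q, hQ⟩ : ∃ Q : ℤ, Q = (q : ℤ) := ⟨_, rfl⟩
  obtain ⟨y, hy⟩ : ∃ y : ℤ, y = (q : ℤ) ^ k := ⟨_, rfl⟩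
  have hQ4 : (4 : ℤ) ≤ Q := by rw [hQ]; exact_mod_cast hq
  have hyQ : Q ^ 2 ≤ y := by rw [hy, hQ]; exact pow_le_pow_right₀ (by rw [← hQ]; linarith) hk
  have e1 : (Q ^ 2 - 1) * (dplus q (k + 2) : ℤ) = (Q ^ 2 * y - 1) * (Q * y + Q) := by
    rw [hQ, hy, hkey]; ring
  have e2 : (sing q (k + 1) : ℤ) = (Q * y - 1) * (y + 1) := by
    rw [hQ, hy, hs]; ring
  have h0 : (0 : ℤ) < Q ^ 2 - 1 := by nlinarith
  have hy16 : (16 : ℤ) ≤ y := by nlinarith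
  have goal : (dplus q (k + 2) : ℤ) ≤ ((2 * sing q (k + 1) : ℕ) : ℤ) := by
    apply le_of_mul_le_mul_left _ h0
    push_cast
    rw [e1, e2]
    have a1 : 0 ≤ Q ^ 3 * y - 2 * Q ^ 2 - 2 * Q * y + Q + 2 := by
      nlinarith [mul_nonneg (by linarith : (0 : ℤ) ≤ Q - 4) (by linarith : (0 : ℤ) ≤ y - 16),
        mul_nonneg (mul_nonneg (by linarith : (0 : ℤ) ≤ Q) (by linarith : (0 : ℤ) ≤ Q))
          (mul_nonneg (by linarith : (0 : ℤ) ≤ Q - 4) (by linarith : (0 : ℤ) ≤ y - 16))]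
    have a2 : (0 : ℤ) ≤ y + 1 := by linarith
    nlinarith [mul_nonneg a1 a2]
  exact_mod_cast goal

theorem dplus_le_two_level (q n : ℕ) (hq : 4 ≤ q) (hn : 4 ≤ n) :
    dplus q n ≤ 2 * (q ^ (2 * (n - 1) - 1) - q ^ (n - 1 - 1)) := by
  obtain ⟨k, rfl⟩ : ∃ k, n = k + 2 := ⟨n - 2, by omega⟩
  have hk : 2 ≤ k := by omega
  have hkey := key_int q (k + 2) (by omega)
  rw [show k + 2 - 1 = k + 1 by omega] at hkey
  rw [show 2 * (k + 2 - 1) - 1 = 2 * k + 1 by omega, show k + 2 - 1 - 1 = k by omega]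
  obtain ⟨Q, hQ⟩ : ∃ Q : ℤ, Q = (q : ℤ) := ⟨_, rfl⟩
  obtain ⟨y, hy⟩ : ∃ y : ℤ, y = (q : ℤ) ^ k := ⟨_, rfl⟩
  have hQ4 : (4 : ℤ) ≤ Q := by rw [hQ]; exact_mod_cast hq
  have hyQ : Q ^ 2 ≤ y := by rw [hy, hQ]; exact pow_le_pow_right₀ (by rw [← hQ]; linarith) hk
  have e1 : (Q ^ 2 - 1) * (dplus q (k + 2) : ℤ) = (Q ^ 2 * y - 1) * (Q * y + Q) := by
    rw [hQ, hy, hkey]; ring
  have hle : q ^ k ≤ q ^ (2 * k + 1) := Nat.pow_le_pow_right (by omega) (by omega)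
  have e2 : ((q ^ (2 * k + 1) - q ^ k : ℕ) : ℤ) = Q * y ^ 2 - y := by
    rw [Nat.cast_sub hle, hQ, hy]; push_cast; ring
  have h0 : (0 : ℤ) < Q ^ 2 - 1 := by nlinarith
  have hy16 : (16 : ℤ) ≤ y := by nlinarith
  have goal : (dplus q (k + 2) : ℤ) ≤ ((2 * (q ^ (2 * k + 1) - q ^ k) : ℕ) : ℤ) := by
    apply le_of_mul_le_mul_left _ h0
    rw [Nat.cast_mul, e2, e1]
    push_cast
    have b1 : (0 : ℤ) ≤ Q - 4 := by linarith
    have b2 : (0 : ℤ) ≤ y - 16 := by linarith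
    have b3 : (0 : ℤ) ≤ Q * y := by nlinarith
    nlinarith [mul_nonneg b1 b2, mul_nonneg b3 (mul_nonneg b1 b2), mul_nonneg b3 b1,
      mul_nonneg b3 b2, mul_nonneg (mul_nonneg b3 b3) b1, mul_nonneg (mul_nonneg b3 b2) b1,
      mul_nonneg (mul_nonneg b3 b1) b1]
  exact_mod_cast goal

end Cfsg.Agent.Lib.Helper55_OP_ARITH
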