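import Mathlib
import Cfsg.Agent.Lib.Helper95_OPDefs
import Cfsg.Agent.Lib.Helper55_OP_ARITH

/-!
# S2345 package OP-PHANTOM (architect helper95): the phantom degree `d⁺_n - 1` is killed by the
class-sum divisibility (pure arithmetic)
-/

set_option autoImplicit false

namespace Cfsg.Agent.Lib.Helper55_OP_PHANTOM

open Cfsg.Agent.Lib.Helper95_OPDefs Cfsg.Agent.Lib.Helper55_OP_ARITH

/-- the integer core: `M = Q²y + Q² + Q - 1` does not divide `(Q²-1)³` when `y = Q^k`, `k ≥ 2`,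
`Q ≥ 4`. -/
theorem core (Q : ℤ) (k : ℕ) (hQ : 4 ≤ Q) (hk : 2 ≤ k) :
    ¬ (Q ^ 2 * Q ^ k + Q ^ 2 + Q - 1 ∣ (Q ^ 2 - 1) ^ 3) := by
  intro h
  have hT : (0 : ℤ) < (Q ^ 2 - 1) ^ 3 := by
    have : (0 : ℤ) < Q ^ 2 - 1 := by nlinarith
    positivity
  obtain rfl | rfl | hk4 : k = 2 ∨ k = 3 ∨ 4 ≤ k := by omega
  · -- n = 4
    have h1 : Q ^ 2 * Q ^ 2 + Q ^ 2 + Q - 1 ∣ Q ^ 3 - 8 * Q ^ 2 - 4 * Q + 5 := by
      have e : Q ^ 3 - 8 * Q ^ 2 - 4 * Q + 5 =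
          (Q ^ 2 * Q ^ 2 + Q ^ 2 + Q - 1) * (Q ^ 2 - 4) - (Q ^ 2 - 1) ^ 3 := by ring
      rw [e]
      exact dvd_sub (dvd_mul_right _ _) h
    rcases le_or_gt 9 Q with h9 | h9
    · have hpos : 0 < Q ^ 3 - 8 * Q ^ 2 - 4 * Q + 5 := by nlinarith
      have := Int.le_of_dvd hpos h1
      nlinarith
    · have h2 : Q ^ 2 * Q ^ 2 + Q ^ 2 + Q - 1 ∣ -(Q ^ 3 - 8 * Q ^ 2 - 4 * Q + 5) :=
        (dvd_neg).mpr h1
      have hpos : 0 < -(Q ^ 3 - 8 * Q ^ 2 - 4 * Q + 5) := by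
        have : (0 : ℤ) ≤ (8 - Q) * Q ^ 2 := by
          apply mul_nonneg <;> nlinarith
        nlinarith
      have := Int.le_of_dvd hpos h2
      nlinarith
  · -- n = 5
    have h1 : Q ^ 2 * Q ^ 3 + Q ^ 2 + Q - 1 ∣ 3 * Q ^ 4 + Q ^ 3 - 2 * Q ^ 2 - Q + 1 := by
      have e : 3 * Q ^ 4 + Q ^ 3 - 2 * Q ^ 2 - Q + 1 =
          (Q ^ 2 * Q ^ 3 + Q ^ 2 + Q - 1) * Q - (Q ^ 2 - 1) ^ 3 := by ring
      rw [e]
      exact dvd_sub (dvd_mul_right _ _) h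
    have hpos : 0 < 3 * Q ^ 4 + Q ^ 3 - 2 * Q ^ 2 - Q + 1 := by
      have : (0:ℤ) < Q ^ 3 := by positivity
      have : (0:ℤ) < Q ^ 4 := by positivity
      nlinarith
    have := Int.le_of_dvd hpos h1
    have h3 : (0:ℤ) < Q ^ 3 := by positivity
    have h4 : (0:ℤ) < Q ^ 4 := by positivity
    nlinarith [mul_nonneg (by linarith : (0:ℤ) ≤ Q - 4) h4.le, mul_nonneg (by linarith : (0:ℤ) ≤ Q - 4) h3.le]
  · -- n ≥ 6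
    have := Int.le_of_dvd hT h
    have hy : Q ^ 4 ≤ Q ^ k := pow_le_pow_right₀ (by linarith) hk4
    have h6 : (Q ^ 2 - 1) ^ 3 < Q ^ 2 * Q ^ 4 := by
      have a : (0 : ℤ) < Q ^ 2 - 1 := by nlinarith
      have b : Q ^ 2 - 1 < Q ^ 2 := by linarith
      have : (Q ^ 2 - 1) ^ 3 < (Q ^ 2) ^ 3 := pow_lt_pow_left₀ b a.le (by norm_num)
      calc (Q ^ 2 - 1) ^ 3 < (Q ^ 2) ^ 3 := this
        _ = Q ^ 2 * Q ^ 4 := by ring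
    have h7 : Q ^ 2 * Q ^ 4 ≤ Q ^ 2 * Q ^ k := mul_le_mul_of_nonneg_left hy (by positivity)
    nlinarith

theorem phantom (q n : ℕ) (hq : 4 ≤ q) (hn : 4 ≤ n) (D c : ℕ) (hD : D + 1 = dplus q n)
    (hc : c + q ^ (2 * n - 3) = D) :
    ¬ (D ∣ (q ^ (2 * n - 1) + q ^ n - q ^ (n - 1) - 1) * (q * sing q (n - 1)) * c) := by
  obtain ⟨k, rfl⟩ : ∃ k, n = k + 2 := ⟨n - 2, by omega⟩
  have hk : 2 ≤ k := by omega
  intro hdvd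
  have hdvd' : D ∣ sing q (k + 2) * (q * sing q (k + 2 - 1)) * c := hdvd
  have hkey := key_int q (k + 2) (by omega)
  have hs1 := sing_int q (k + 2 - 1) (by omega) (by omega)
  have hs2 := sing_int q (k + 2) (by omega) (by omega)
  rw [show k + 2 - 1 = k + 1 by omega] at hkey hs1 hs2 hdvd'
  rw [show 2 * (k + 1) - 1 = 2 * k + 1 by omega, show k + 1 - 1 = k by omega] at hs1
  rw [show 2 * (k + 2) - 1 = 2 * k + 3 by omega] at hs2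
  obtain ⟨Q, hQ⟩ : ∃ Q : ℤ, Q = (q : ℤ) := ⟨_, rfl⟩
  obtain ⟨y, hy⟩ : ∃ y : ℤ, y = Q ^ k := ⟨_, rfl⟩
  have hQ4 : (4 : ℤ) ≤ Q := by rw [hQ]; exact_mod_cast hq
  have hyQ : Q ^ 2 ≤ y := by rw [hy]; exact pow_le_pow_right₀ (by linarith) hk
  have hy16 : (16 : ℤ) ≤ y := by nlinarith
  have hD' : ((D : ℤ) + 1) = (dplus q (k + 2) : ℤ) := by exact_mod_cast hD
  have e1 : (Q ^ 2 - 1) * ((D : ℤ) + 1) = (Q ^ 2 * y - 1) * (Q * y + Q) := by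
    rw [hD', hy, hQ, hkey]; ring
  have hc' : (c : ℤ) + Q * y ^ 2 = D := by
    have h : (c : ℤ) + (q : ℤ) ^ (2 * (k + 2) - 3) = D := by exact_mod_cast hc
    rw [show 2 * (k + 2) - 3 = 2 * k + 1 by omega] at h
    rw [← h, hy, hQ]; ring
  have es1 : (sing q (k + 1) : ℤ) = (Q * y - 1) * (y + 1) := by
    rw [hs1, hy, hQ]; ring
  have es2 : (sing q (k + 2) : ℤ) = (Q ^ 2 * y - 1) * (Q * y + 1) := by
    rw [hs2, hy, hQ]; ring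
  have hdz : (D : ℤ) ∣ (sing q (k + 2) : ℤ) * (Q * (sing q (k + 1) : ℤ)) * (c : ℤ) := by
    rw [hQ]; exact_mod_cast hdvd'
  rw [es1, es2] at hdz
  -- replace `c` by `-(Q y²)`
  have hd2 : (D : ℤ) ∣ ((Q ^ 2 * y - 1) * (Q * y + 1) * ((Q * y - 1) * (y + 1))) *
      (Q * (Q * y ^ 2)) := by
    have e : ((Q ^ 2 * y - 1) * (Q * y + 1) * ((Q * y - 1) * (y + 1))) * (Q * (Q * y ^ 2)) =
        (D : ℤ) * ((Q ^ 2 * y - 1) * (Q * y + 1) * (Q * ((Q * y - 1) * (y + 1)))) -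
          (Q ^ 2 * y - 1) * (Q * y + 1) * (Q * ((Q * y - 1) * (y + 1))) * (c : ℤ) := by
      rw [← hc']; ring
    rw [e]
    exact dvd_sub (dvd_mul_right _ _) hdz
  have hcopQ : IsCoprime (D : ℤ) Q :=
    ⟨Q ^ 2 - 1, -((Q ^ 2 * y - 1) * (y + 1) - Q), by linear_combination e1⟩
  have hcopy : IsCoprime (D : ℤ) y := by rw [hy]; exact hcopQ.pow_right
  have hcop : IsCoprime (D : ℤ) (Q * (Q * y ^ 2)) :=
    hcopQ.mul_right (hcopQ.mul_right hcopy.pow_right)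
  have hd3 : (D : ℤ) ∣ (Q ^ 2 * y - 1) * (Q * y + 1) * ((Q * y - 1) * (y + 1)) :=
    hcop.dvd_of_dvd_mul_right hd2
  -- the factor M
  have e2 : (Q ^ 2 - 1) * (D : ℤ) = (Q * y - 1) * (Q ^ 2 * y + Q ^ 2 + Q - 1) := by
    linear_combination e1
  have hd4 : (Q * y - 1) * (Q ^ 2 * y + Q ^ 2 + Q - 1) ∣
      (Q * y - 1) * ((Q ^ 2 - 1) * ((Q ^ 2 * y - 1) * (Q * y + 1) * (y + 1))) := by
    rw [← e2]
    have e : (Q * y - 1) * ((Q ^ 2 - 1) * ((Q ^ 2 * y - 1) * (Q * y + 1) * (y + 1))) =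
        (Q ^ 2 - 1) * ((Q ^ 2 * y - 1) * (Q * y + 1) * ((Q * y - 1) * (y + 1))) := by ring
    rw [e]
    exact mul_dvd_mul_left _ hd3
  have hne : Q * y - 1 ≠ 0 := by nlinarith
  have hd5 : Q ^ 2 * y + Q ^ 2 + Q - 1 ∣
      (Q ^ 2 - 1) * ((Q ^ 2 * y - 1) * (Q * y + 1) * (y + 1)) :=
    (mul_dvd_mul_iff_left hne).mp hd4
  have hd6 : Q ^ 2 * y + Q ^ 2 + Q - 1 ∣ (Q ^ 2 - 1) ^ 3 * Q := by
    have e : (Q ^ 2 - 1) ^ 3 * Q =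
        (Q ^ 2 * y + Q ^ 2 + Q - 1) * ((Q ^ 2 - 1) * ((Q ^ 2 * y + Q ^ 2 + Q - 1) ^ 2 -
          ((Q ^ 2 + Q) + (Q ^ 2 - 1) + (Q - 1)) * (Q ^ 2 * y + Q ^ 2 + Q - 1) +
          ((Q ^ 2 + Q) * (Q ^ 2 - 1) + (Q ^ 2 - 1) * (Q - 1) + (Q - 1) * (Q ^ 2 + Q)))) -
        Q ^ 3 * ((Q ^ 2 - 1) * ((Q ^ 2 * y - 1) * (Q * y + 1) * (y + 1))) := by ring
    rw [e]
    exact dvd_sub (dvd_mul_right _ _) (hd5.mul_left _)
  have hcopM : IsCoprime (Q ^ 2 * y + Q ^ 2 + Q - 1) Q :=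
    ⟨-1, Q * y + Q + 1, by ring⟩
  have hd7 : Q ^ 2 * y + Q ^ 2 + Q - 1 ∣ (Q ^ 2 - 1) ^ 3 := hcopM.dvd_of_dvd_mul_right hd6
  rw [hy] at hd7
  exact core Q k hQ4 hk hd7

end Cfsg.Agent.Lib.Helper55_OP_PHANTOM
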