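import Mathlib
import Cfsg.Agent.Lib.Helper95_OPDefs
import Cfsg.Agent.Lib.Helper95_OPBasic

set_option autoImplicit false
set_option linter.unusedVariables false

/-!
# OP-NUM (helper5, package of helper95's S2345 market)

Either the degree is at least `dplus q n` (some non-singular weight occurs: two full level sets of weights),
or the numerical weight data `WData` hold.
-/

namespace Cfsg.Agent.Lib.Helper5_OP_NUM

open Module Cfsg.Agent.Lib.Helper94_OrthSmall Cfsg.Agent.Lib.Helper44_QuadClass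
  Cfsg.Agent.Lib.Helper14_OmegaSimple Cfsg.Agent.Lib.Helper38_MIODefs
  Cfsg.Agent.Lib.Helper95_OPDefs Cfsg.Agent.Lib.Helper95_OPBasic

variable {F V : Type*} [Field F] [Fintype F] [AddCommGroup V] [Module F V] [FiniteDimensional F V]
  {X : Type*} [AddCommGroup X] [Module ℂ X] [FiniteDimensional ℂ X]

/-- a field with at least four elements has `t ≠ 0` with `t ^ 2 ≠ 1` -/
theorem exists_sq_ne_one' (hq : 4 ≤ Fintype.card F) : ∃ t : F, t ≠ 0 ∧ t ^ 2 ≠ 1 := by
  classical
  by_contra hcon
  push Not at hcon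
  have hsub : (Finset.univ : Finset F) ⊆ {0, 1, -1} := by
    intro a _
    by_cases ha : a = 0
    · simp [ha]
    · have h1 := hcon a ha
      have h2 : (a - 1) * (a + 1) = 0 := by ring_nf; rw [h1]; ring
      rcases mul_eq_zero.mp h2 with h | h
      · have : a = 1 := by linear_combination h
        simp [this]
      · have : a = -1 := by linear_combination h
        simp [this]
  have h3 := Finset.card_le_card hsub
  have h4 : ({0, 1, -1} : Finset F).card ≤ 3 := Finset.card_le_three
  rw [Finset.card_univ] at h3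
  omega

theorem wdata_or_large (Q : QuadraticForm F V) (n : ℕ) (hn : 4 ≤ n) (hP : IsPlus Q n)
    (hq : 4 ≤ Fintype.card F) {v v' : V} (hv : Q v = 0) (hv' : Q v' = 0)
    (hvv' : QuadraticMap.polar (⇑Q) v v' = 1) [DecidableEq ↥(perp Q v v')]
    (ρ : Representation ℂ ↥(T Q) X) (ψ : AddChar F ℂ)
    (hint : DirectSum.IsInternal (fun u : ↥(perp Q v v') => wsp Q ρ ψ v v' u))
    (hlev : ∀ u u' : ↥(perp Q v v'), u ≠ 0 → u' ≠ 0 → Qp Q v v' u = Qp Q v v' u' →
      finrank ℂ (wsp Q ρ ψ v v' u) = finrank ℂ (wsp Q ρ ψ v v' u'))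
    (htor : ∀ t : F, t ≠ 0 → ∃ φ : ↥(perp Q v v') ≃ₗ[F] ↥(perp Q v v'),
      (∀ w, Qp Q v v' (φ w) = Qp Q v v' w) ∧ ∀ u : ↥(perp Q v v'),
        finrank ℂ (wsp Q ρ ψ v v' u) = finrank ℂ (wsp Q ρ ψ v v' (t • φ u)))
    (harith : dplus (Fintype.card F) n ≤
      2 * (Fintype.card F ^ (2 * (n - 1) - 1) - Fintype.card F ^ (n - 1 - 1))) :
    dplus (Fintype.card F) n ≤ finrank ℂ X ∨ ∃ e f : ℕ, WData Q ρ ψ v v' e f := by
  classical
  have hfinW : Finite ↥(perp Q v v') := Module.finite_of_finite F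
  let _ : Fintype ↥(perp Q v v') := Fintype.ofFinite _
  have hsum : finrank ℂ X = ∑ u : ↥(perp Q v v'), finrank ℂ (wsp Q ρ ψ v v' u) := by
    rw [← Module.finrank_directSum]
    exact (LinearEquiv.ofBijective (DirectSum.coeLinearMap _) hint).finrank_eq.symm
  have hPW : IsPlus (Qp Q v v') (n - 1) := isPlus_perp Q n (by omega) hP hv hv' hvv'
  by_cases hex : ∃ u : ↥(perp Q v v'), Qp Q v v' u ≠ 0 ∧ wsp Q ρ ψ v v' u ≠ ⊥
  · left
    obtain ⟨u, hu, hwu⟩ := hex
    have hu0 : u ≠ 0 := by
      rintro rfl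
      exact hu (map_zero _)
    have hpos : 1 ≤ finrank ℂ (wsp Q ρ ψ v v' u) := by
      by_contra hlt
      push Not at hlt
      exact hwu (Submodule.finrank_eq_zero.mp (by omega))
    obtain ⟨t, ht0, ht2⟩ := exists_sq_ne_one' (F := F) hq
    obtain ⟨φ, hφ, hφr⟩ := htor t ht0
    set c := Qp Q v v' u with hc
    set u2 := t • φ u with hu2
    have hQu2 : Qp Q v v' u2 = t ^ 2 * c := by
      rw [hu2, QuadraticMap.map_smul, hφ, smul_eq_mul, ← sq]
    have hc2 : t ^ 2 * c ≠ 0 := mul_ne_zero (pow_ne_zero _ ht0) hu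
    have hu20 : u2 ≠ 0 := by
      intro h0
      rw [h0, map_zero] at hQu2
      exact hc2 hQu2.symm
    have hne : t ^ 2 * c ≠ c := by
      intro h
      apply ht2
      have : (t ^ 2 - 1) * c = 0 := by linear_combination h
      rcases mul_eq_zero.mp this with h1 | h1
      · linear_combination h1
      · exact absurd h1 hu
    have hpos2 : 1 ≤ finrank ℂ (wsp Q ρ ψ v v' u2) := by rw [← hφr u]; exact hpos
    -- the two level sets
    set L1 : Finset ↥(perp Q v v') := Finset.univ.filter (fun x => Qp Q v v' x = c) with hL1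
    set L2 : Finset ↥(perp Q v v') := Finset.univ.filter (fun x => Qp Q v v' x = t ^ 2 * c) with hL2
    have hcard1 : L1.card = Fintype.card F ^ (2 * (n - 1) - 1) - Fintype.card F ^ (n - 1 - 1) := by
      rw [← hPW.level c hu, Nat.card_eq_fintype_card, Fintype.card_subtype]
    have hcard2 : L2.card = Fintype.card F ^ (2 * (n - 1) - 1) - Fintype.card F ^ (n - 1 - 1) := by
      rw [← hPW.level (t ^ 2 * c) hc2, Nat.card_eq_fintype_card, Fintype.card_subtype]
    have hdisj : Disjoint L1 L2 := by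
      rw [Finset.disjoint_left]
      intro x hx1 hx2
      rw [hL1, Finset.mem_filter] at hx1
      rw [hL2, Finset.mem_filter] at hx2
      exact hne (hx2.2.symm.trans hx1.2)
    have hge1 : ∀ x ∈ L1 ∪ L2, 1 ≤ finrank ℂ (wsp Q ρ ψ v v' x) := by
      intro x hx
      rcases Finset.mem_union.mp hx with h1 | h2
      · rw [hL1, Finset.mem_filter] at h1
        have hx0 : x ≠ 0 := by
          rintro rfl
          exact hu (by rw [← h1.2]; exact map_zero _)
        rw [hlev x u hx0 hu0 h1.2]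
        exact hpos
      · rw [hL2, Finset.mem_filter] at h2
        have hx0 : x ≠ 0 := by
          rintro rfl
          exact hc2 (by rw [← h2.2]; exact map_zero _)
        rw [hlev x u2 hx0 hu20 (h2.2.trans hQu2.symm)]
        exact hpos2
    calc dplus (Fintype.card F) n
        ≤ 2 * (Fintype.card F ^ (2 * (n - 1) - 1) - Fintype.card F ^ (n - 1 - 1)) := harith
      _ = (L1 ∪ L2).card := by rw [Finset.card_union_of_disjoint hdisj, hcard1, hcard2]; ring
      _ = ∑ x ∈ L1 ∪ L2, 1 := by rw [Finset.sum_const, smul_eq_mul, mul_one]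
      _ ≤ ∑ x ∈ L1 ∪ L2, finrank ℂ (wsp Q ρ ψ v v' x) := Finset.sum_le_sum hge1
      _ ≤ ∑ x : ↥(perp Q v v'), finrank ℂ (wsp Q ρ ψ v v' x) :=
          Finset.sum_le_sum_of_subset (Finset.subset_univ _)
      _ = finrank ℂ X := hsum.symm
  · right
    push Not at hex
    set S : Finset ↥(perp Q v v') :=
      Finset.univ.filter (fun x => x ≠ 0 ∧ Qp Q v v' x = 0) with hS
    -- the common multiplicity on the singular vectors
    obtain ⟨e, he⟩ : ∃ e : ℕ, ∀ u : ↥(perp Q v v'), u ≠ 0 → Qp Q v v' u = 0 →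
        finrank ℂ (wsp Q ρ ψ v v' u) = e := by
      by_cases hne : ∃ u₀ : ↥(perp Q v v'), u₀ ≠ 0 ∧ Qp Q v v' u₀ = 0
      · obtain ⟨u₀, h0, hQ0⟩ := hne
        exact ⟨finrank ℂ (wsp Q ρ ψ v v' u₀), fun u hu hQu => hlev u u₀ hu h0 (hQu.trans hQ0.symm)⟩
      · push Not at hne
        exact ⟨0, fun u hu hQu => absurd hQu (hne u hu)⟩
    refine ⟨e, finrank ℂ (wsp Q ρ ψ v v' 0), he, ?_, rfl, ?_⟩
    · intro u hu
      by_contra hbot
      exact hbot (hex u hu)
    · have h0S : (0 : ↥(perp Q v v')) ∉ S := by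
        rw [hS, Finset.mem_filter]
        intro h
        exact h.2.1 rfl
      have hsub : ∑ x ∈ insert (0 : ↥(perp Q v v')) S, finrank ℂ (wsp Q ρ ψ v v' x) =
          ∑ x : ↥(perp Q v v'), finrank ℂ (wsp Q ρ ψ v v' x) := by
        apply Finset.sum_subset (Finset.subset_univ _)
        intro x _ hx
        rw [Finset.mem_insert, not_or] at hx
        have hxQ : Qp Q v v' x ≠ 0 := by
          intro hQx
          apply hx.2
          rw [hS, Finset.mem_filter]
          exact ⟨Finset.mem_univ _, hx.1, hQx⟩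
        have hb : wsp Q ρ ψ v v' x = ⊥ := by
          by_contra hbot
          exact hbot (hex x hxQ)
        rw [hb, finrank_bot]
      have hScard : Nat.card {u : ↥(perp Q v v') // u ≠ 0 ∧ Qp Q v v' u = 0} = S.card := by
        rw [Nat.card_eq_fintype_card, Fintype.card_subtype]
      rw [hsum, ← hsub, Finset.sum_insert h0S, hScard]
      congr 1
      have hse : ∑ x ∈ S, finrank ℂ (wsp Q ρ ψ v v' x) = ∑ _x ∈ S, e := by
        apply Finset.sum_congr rfl
        intro x hx
        rw [hS, Finset.mem_filter] at hx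
        exact he x hx.2.1 hx.2.2
      rw [hse, Finset.sum_const, smul_eq_mul, mul_comm]

end Cfsg.Agent.Lib.Helper5_OP_NUM
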