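import Mathlib
import Cfsg.Agent.Lib.Helper95_OPDefs
import Cfsg.Agent.Lib.Helper95_OPBasic
import Cfsg.Agent.Lib.Helper40_QuadIso
import Cfsg.Agent.Lib.Helper44_StdForms
import Cfsg.Agent.Lib.Helper55_MIO_TRANSP

/-!
S2345 OP-CONJ (helper95's market): every long root element `E Q y z` is `T Q`-conjugate to an element `E Q v w` of
the radical with `w ≠ 0` singular in `perp Q v v'`.
-/

set_option autoImplicit false
set_option linter.unusedSectionVars false
set_option linter.unusedVariables false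

namespace Cfsg.Agent.Lib.Helper61_OP_CONJ

open Module Cfsg.Agent.Lib.Helper94_OrthSmall Cfsg.Agent.Lib.Helper44_QuadClass
  Cfsg.Agent.Lib.Helper14_OmegaSimple Cfsg.Agent.Lib.Helper38_MIODefs
  Cfsg.Agent.Lib.Helper95_OPDefs Cfsg.Agent.Lib.Helper95_OPBasic

variable {F V : Type*} [Field F] [Fintype F] [AddCommGroup V] [Module F V] [FiniteDimensional F V]
  {X : Type*} [AddCommGroup X] [Module ℂ X] [FiniteDimensional ℂ X]

theorem root_conj (Q : QuadraticForm F V) (hQ : (QuadraticMap.polarBilin Q).Nondegenerate)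
    (hdim : 5 ≤ finrank F V) {v v' : V} (hv : Q v = 0) (hv' : Q v' = 0)
    (hvv' : QuadraticMap.polar (⇑Q) v v' = 1) (y z : V) (hy0 : y ≠ 0) (hy : Q y = 0) (hz : Q z = 0)
    (hyz : QuadraticMap.polar (⇑Q) y z = 0) (hzy : z ∉ Submodule.span F {y}) :
    ∃ g ∈ T Q, ∃ w : ↥(perp Q v v'), w ≠ 0 ∧ Qp Q v v' w = 0 ∧
      E Q y z = g * E Q v (w : V) * g⁻¹ := by
  obtain ⟨g, hgT, c, hc0, hgv, -, h2⟩ :=
    Cfsg.Agent.Lib.Helper55_MIO_TRANSP.transp Q hQ hdim hv hv' hvv' hy0 hy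
  obtain ⟨w, a, hw, hE⟩ := h2 z hyz
  have hgO : g ∈ oG (⇑Q) := T_le_oG Q hgT
  have hgiO : g⁻¹ ∈ oG (⇑Q) := Subgroup.inv_mem _ hgO
  have hgg : g (g⁻¹ z) = z := Cfsg.Agent.Lib.Helper55_MIO_TRANSP.apply_inv_apply g z
  refine ⟨g, hgT, w, ?_, ?_, hE⟩
  · intro hw0
    apply hzy
    rw [hw0, Submodule.coe_zero] at hw
    -- `g⁻¹ z = -(c * a) • v`
    have h3 : g⁻¹ z = (-(c * a)) • v := by
      have h4 : c • (c⁻¹ • g⁻¹ z + a • v) = 0 := by rw [← hw, smul_zero]
      rw [smul_add, smul_smul, mul_inv_cancel₀ hc0, one_smul, smul_smul] at h4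
      rw [neg_smul]
      exact eq_neg_of_add_eq_zero_left h4
    have h5 : z = (-(c * a) * c) • y := by
      rw [← hgg, h3, map_smul, hgv, smul_smul]
    rw [h5]
    exact Submodule.smul_mem _ _ (Submodule.mem_span_singleton_self y)
  · show Q ((w : ↥(perp Q v v')) : V) = 0
    have h6 : QuadraticMap.polar (⇑Q) (g⁻¹ z) v = 0 := by
      rw [← oG_polar Q hgO (g⁻¹ z) v, hgg, hgv, QuadraticMap.polar_smul_right,
        QuadraticMap.polar_comm, hyz, smul_zero]
    have h7 : Q (g⁻¹ z) = 0 := by rw [hgiO z, hz]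
    rw [hw, add_comm, map_smul_add, hv, QuadraticMap.map_smul, h7,
      QuadraticMap.polar_smul_right, QuadraticMap.polar_comm, h6]
    simp

end Cfsg.Agent.Lib.Helper61_OP_CONJ
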