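import Mathlib
import Cfsg.Agent.Lib.Helper95_OPDefs
import Cfsg.Agent.Lib.Helper95_OPBasic
import Cfsg.Agent.Lib.Helper40_QuadIso
import Cfsg.Agent.Lib.Helper44_StdForms
import Cfsg.Agent.Lib.Helper58_MIO_GT

/-!
S2345 OP-WSTORUS (helper95's market): torus symmetry of the weight multiplicities of the Siegel radical.
-/

set_option autoImplicit false
set_option linter.unusedSectionVars false
set_option linter.unusedVariables false

namespace Cfsg.Agent.Lib.Helper61_OP_WSTORUS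

open Module Cfsg.Agent.Lib.Helper94_OrthSmall Cfsg.Agent.Lib.Helper44_QuadClass
  Cfsg.Agent.Lib.Helper14_OmegaSimple Cfsg.Agent.Lib.Helper38_MIODefs
  Cfsg.Agent.Lib.Helper95_OPDefs Cfsg.Agent.Lib.Helper95_OPBasic

variable {F V : Type*} [Field F] [Fintype F] [AddCommGroup V] [Module F V] [FiniteDimensional F V]
  {X : Type*} [AddCommGroup X] [Module ℂ X] [FiniteDimensional ℂ X]

theorem finrank_wsp_torus (Q : QuadraticForm F V) (hQ : (QuadraticMap.polarBilin Q).Nondegenerate)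
    (hdim : 7 ≤ finrank F V) (hcomm : ⁅oG (⇑Q), oG (⇑Q)⁆ ≤ T Q) {v v' : V} (hv : Q v = 0)
    (hv' : Q v' = 0) (hvv' : QuadraticMap.polar (⇑Q) v v' = 1)
    (ρ : Representation ℂ ↥(T Q) X) (ψ : AddChar F ℂ) (t : F) (ht : t ≠ 0) :
    ∃ φ : ↥(perp Q v v') ≃ₗ[F] ↥(perp Q v v'), (∀ w, Qp Q v v' (φ w) = Qp Q v v' w) ∧
      ∀ u : ↥(perp Q v v'),
        finrank ℂ (wsp Q ρ ψ v v' u) = finrank ℂ (wsp Q ρ ψ v v' (t • φ u)) := by
  obtain ⟨g, hgT, hgv, -, φ, hφ⟩ :=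
    Cfsg.Agent.Lib.Helper58_MIO_GT.exists_torus Q hQ hdim hcomm hv hv' hvv' t⁻¹ (inv_ne_zero ht)
  have hgO : g ∈ oG (⇑Q) := T_le_oG Q hgT
  refine ⟨φ, ?_, ?_⟩
  · intro w
    show Q ((φ w : ↥(perp Q v v')) : V) = Q (w : V)
    rw [hφ]
    exact hgO (w : V)
  · intro u
    have h := finrank_wsp_map Q hQ (by omega) hv ρ ψ g hgT t⁻¹ (inv_ne_zero ht) hgv φ hφ u
    rw [inv_inv] at h
    exact h

end Cfsg.Agent.Lib.Helper61_OP_WSTORUS
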