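import Mathlib
import Cfsg.Agent.Lib.Helper95_OPDefs
import Cfsg.Agent.Lib.Helper95_OPBasic

/-!
# S2345 package OP-NONTRIV (architect helper95)

`e = 0` forces the radical `{E Q v w}` into the kernel of `ρ`; the kernel is a normal subgroup with a
non-central element, hence everything (`T Q` perfect, simple modulo its centre), and a trivial irreducible
representation has degree 1.
-/

set_option autoImplicit false

namespace Cfsg.Agent.Lib.Helper69_OP_NONTRIV

open Module Cfsg.Agent.Lib.Helper94_OrthSmall Cfsg.Agent.Lib.Helper44_QuadClass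
  Cfsg.Agent.Lib.Helper14_OmegaSimple Cfsg.Agent.Lib.Helper38_MIODefs
  Cfsg.Agent.Lib.Helper95_OPDefs Cfsg.Agent.Lib.Helper95_OPBasic
  Cfsg.Agent.Lib.Helper20_MIO_NORM

/-- in a perfect group with simple central quotient, a normal subgroup not contained in the centre
is everything -/
theorem normal_eq_top_of_not_le_center {G : Type*} [Group G]
    [IsSimpleGroup (G ⧸ Subgroup.center G)] (hperf : commutator G = ⊤) (N : Subgroup G)
    [N.Normal] (hN : ¬ N ≤ Subgroup.center G) : N = ⊤ := by
  have hsurj : Function.Surjective (QuotientGroup.mk' (Subgroup.center G)) :=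
    QuotientGroup.mk'_surjective _
  have hnorm : (N.map (QuotientGroup.mk' (Subgroup.center G))).Normal :=
    Subgroup.Normal.map inferInstance _ hsurj
  rcases hnorm.eq_bot_or_eq_top with h | h
  · exfalso
    apply hN
    rw [Subgroup.map_eq_bot_iff, QuotientGroup.ker_mk'] at h
    exact h
  · have hsup : N ⊔ Subgroup.center G = ⊤ := by
      rw [eq_top_iff]
      intro g _
      have hg : QuotientGroup.mk' (Subgroup.center G) g ∈
          N.map (QuotientGroup.mk' (Subgroup.center G)) := by
        rw [h]; exact Subgroup.mem_top _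
      obtain ⟨x, hx, hxg⟩ := Subgroup.mem_map.mp hg
      have hz : x⁻¹ * g ∈ Subgroup.center G := by
        rw [← QuotientGroup.ker_mk' (Subgroup.center G), MonoidHom.mem_ker, map_mul, map_inv, hxg,
          inv_mul_cancel]
      have : g = x * (x⁻¹ * g) := by group
      rw [this]
      exact Subgroup.mul_mem_sup hx hz
    have hle := Subgroup.Normal.commutator_le_of_self_sup_commutative_eq_top hsup inferInstance
    rw [hperf] at hle
    exact top_le_iff.mp hle

variable {F V : Type*} [Field F] [Fintype F] [AddCommGroup V] [Module F V] [FiniteDimensional F V]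
  {X : Type*} [AddCommGroup X] [Module ℂ X] [FiniteDimensional ℂ X]

/-- A radical element `E Q v w`, `w ≠ 0` singular in `W`, is not central in `T Q`. -/
theorem rad_not_mem_center (Q : QuadraticForm F V) (hQ : (QuadraticMap.polarBilin Q).Nondegenerate)
    (hdim : 5 ≤ finrank F V) {v v' : V} (hv : Q v = 0) (hv' : Q v' = 0)
    (hvv' : QuadraticMap.polar (⇑Q) v v' = 1) (w : ↥(perp Q v v')) (hw0 : w ≠ 0)
    (hw : Qp Q v v' w = 0) :
    (⟨E Q v (w : V), rad_mem Q hQ hdim hv w⟩ : ↥(T Q)) ∉ Subgroup.center ↥(T Q) := by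
  intro hcen
  obtain ⟨w', -, hww'⟩ := exists_hyperbolic_partner (Qp Q v v')
    (nondegenerate_perp hQ hv hv' hvv') hw0 hw
  have hww'V : QuadraticMap.polar (⇑Q) (w : V) (w' : V) = 1 := by
    rw [← polar_comp_subtype]
    exact hww'
  have hwV : Q (w : V) = 0 := hw
  have hvw : QuadraticMap.polar (⇑Q) v (w : V) = 0 := polar_v_perp Q w
  have hv'w : QuadraticMap.polar (⇑Q) v' (w : V) = 0 := ((mem_perp Q v v').1 w.2).2
  have hv'w' : QuadraticMap.polar (⇑Q) v' (w' : V) = 0 := ((mem_perp Q v v').1 w'.2).2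
  have hv'v : QuadraticMap.polar (⇑Q) v' v = 1 := by rw [QuadraticMap.polar_comm, hvv']
  have hgT : E Q v' (w' : V) ∈ T Q := E_mem_T Q hQ hdim hv' hv'w'
  have hcomm := (Subgroup.mem_center_iff.mp hcen) (⟨E Q v' (w' : V), hgT⟩ : ↥(T Q))
  have hcomm' : E Q v' (w' : V) * E Q v (w : V) = E Q v (w : V) * E Q v' (w' : V) :=
    congrArg Subtype.val hcomm
  have h1 := congrArg (fun g : V ≃ₗ[F] V => g v') hcomm'
  simp only [LinearEquiv.mul_apply] at h1
  have hxv' : E Q v (w : V) v' = v' + (w : V) := by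
    rw [E_apply Q hv hvw, hv'v, hv'w, hwV]
    simp
  have hgv' : E Q v' (w' : V) v' = v' := by
    rw [E_apply Q hv' hv'w', polar_self', hv', hv'w']
    simp
  have hgw : E Q v' (w' : V) (w : V) = (w : V) - v' := by
    rw [E_apply Q hv' hv'w', QuadraticMap.polar_comm (⇑Q) (w : V) v', hv'w, hww'V]
    simp
  rw [hxv', hgv', hxv', map_add, hgv', hgw] at h1
  have h0 : v' = 0 := by
    have h2 : v' + ((w : V) - v') = v' + (w : V) := h1
    have h3 : (w : V) = v' + (w : V) := by
      rw [← h2]
      abel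
    have h4 : v' + (w : V) = 0 + (w : V) := by rw [zero_add]; exact h3.symm
    exact add_right_cancel h4
  rw [h0] at hvv'
  simp [QuadraticMap.polar] at hvv'

/-! ## OP-NONTRIV (M) -/
theorem one_le_e (Q : QuadraticForm F V) (hQ : (QuadraticMap.polarBilin Q).Nondegenerate)
    (hdim : 7 ≤ finrank F V) {v v' : V} (hv : Q v = 0) (hv' : Q v' = 0)
    (hvv' : QuadraticMap.polar (⇑Q) v v' = 1) [DecidableEq ↥(perp Q v v')]
    (ρ : Representation ℂ ↥(T Q) X) (hirr : ρ.IsIrreducible) (h2 : 2 ≤ finrank ℂ X)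
    (ψ : AddChar F ℂ)
    (hint : DirectSum.IsInternal (fun u : ↥(perp Q v v') => wsp Q ρ ψ v v' u))
    (e f : ℕ) (hW : WData Q ρ ψ v v' e f) : 1 ≤ e := by
  have hdim5 : 5 ≤ finrank F V := by omega
  by_contra he
  have he0 : e = 0 := by omega
  have hfull : wsp Q ρ ψ v v' 0 = ⊤ := by
    apply Submodule.eq_top_of_finrank_eq
    rw [hW.hf, hW.hD, he0, zero_mul, add_zero]
  have htriv : ∀ w : ↥(perp Q v v'), repE Q ρ (E Q v (w : V)) = 1 := by
    intro w
    apply LinearMap.ext
    intro x
    have hx : x ∈ wsp Q ρ ψ v v' 0 := by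
      rw [hfull]
      trivial
    have h1 := hx w
    have h0 : QuadraticMap.polar (⇑Q) (((0 : ↥(perp Q v v')) : V)) (w : V) = 0 := by
      simp [QuadraticMap.polar]
    rw [h0, AddChar.map_zero_eq_one, one_smul] at h1
    exact h1
  haveI : IsSimpleGroup (↥(T Q) ⧸ Subgroup.center ↥(T Q)) := isSimpleGroup_T Q hQ hdim5
  have hperf : commutator ↥(T Q) = ⊤ := commutator_T_eq_top Q hQ hdim5
  -- a nonzero singular `w` in `W`
  have hdW : 3 ≤ finrank F ↥(perp Q v v') := by
    have := finrank_perp hv hv' hvv'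
    omega
  obtain ⟨w, hw0, hw⟩ := exists_singular (Qp Q v v') hdW
  have hker : (ρ : ↥(T Q) →* Module.End ℂ X).ker = ⊤ := by
    apply normal_eq_top_of_not_le_center hperf
    intro hle
    apply rad_not_mem_center Q hQ hdim5 hv hv' hvv' w hw0 hw
    apply hle
    rw [MonoidHom.mem_ker]
    have h1 := htriv w
    rw [repE_of_mem Q ρ (rad_mem Q hQ hdim5 hv w)] at h1
    exact h1
  have hall : ∀ g, ρ g = 1 := fun g => by
    have h1 : g ∈ (ρ : ↥(T Q) →* Module.End ℂ X).ker := by
      rw [hker]
      exact Subgroup.mem_top g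
    exact MonoidHom.mem_ker.mp h1
  -- a line is a subrepresentation
  obtain ⟨x, hx⟩ : ∃ x : X, x ≠ 0 := by
    haveI : Nontrivial X := Module.nontrivial_of_finrank_pos (R := ℂ) (by omega)
    exact exists_ne 0
  let τ : Subrepresentation ρ :=
    ⟨Submodule.span ℂ {x}, fun g y hy => by
      rw [hall g]
      exact hy⟩
  rcases hirr.eq_bot_or_eq_top τ with h | h
  · have h1 : x ∈ τ.toSubmodule := Submodule.mem_span_singleton_self _
    rw [h] at h1
    exact hx ((Submodule.mem_bot ℂ).mp h1)
  · have h1 : τ.toSubmodule = ⊤ := by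
      rw [h]
      rfl
    have h4 : Module.finrank ℂ (Submodule.span ℂ {x}) = Module.finrank ℂ X := by
      have h5 : Submodule.span ℂ {x} = ⊤ := h1
      rw [h5, finrank_top]
    rw [finrank_span_singleton hx] at h4
    omega

end Cfsg.Agent.Lib.Helper69_OP_NONTRIV
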