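import Mathlib
import Cfsg.Agent.Lib.Helper95_OPDefs
import Cfsg.Agent.Lib.Helper95_OPBasic
import Cfsg.Agent.Lib.Helper52_MIO_RESTR
import Cfsg.Agent.Lib.Helper17_MIO_TR

/-!
# S2345 package OP-WSLEVEL (architect helper95): `finrank_wsp_level`

The dimension of the weight space `wsp u` is constant on the non-zero level sets of `Qp Q v v'`:
it is invariant under the Siegel elements of `W = perp Q v v'` (`finrank_wsp_map` with `t = 1`, the
Siegel element of `W` being the restriction of the one of `V`), hence constant by `tr_const`.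
-/

set_option autoImplicit false

namespace Cfsg.Agent.Lib.Helper71_OP_WSLEVEL

open Module Cfsg.Agent.Lib.Helper94_OrthSmall Cfsg.Agent.Lib.Helper44_QuadClass
  Cfsg.Agent.Lib.Helper14_OmegaSimple Cfsg.Agent.Lib.Helper38_MIODefs
  Cfsg.Agent.Lib.Helper95_OPDefs Cfsg.Agent.Lib.Helper95_OPBasic

variable {F V : Type*} [Field F] [Fintype F] [AddCommGroup V] [Module F V] [FiniteDimensional F V]
  {X : Type*} [AddCommGroup X] [Module ℂ X] [FiniteDimensional ℂ X]

/-- invariance of the weight multiplicity under a Siegel element of `W` -/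
theorem finrank_wsp_siegel (Q : QuadraticForm F V) (hQ : (QuadraticMap.polarBilin Q).Nondegenerate)
    (hdim : 5 ≤ finrank F V) {v v' : V} (hv : Q v = 0)
    (ρ : Representation ℂ ↥(T Q) X) (ψ : AddChar F ℂ) (a z : ↥(perp Q v v'))
    (ha : Qp Q v v' a = 0) (haz : QuadraticMap.polar (⇑(Qp Q v v')) a z = 0)
    (x : ↥(perp Q v v')) :
    finrank ℂ (wsp Q ρ ψ v v' (E (Qp Q v v') a z x)) = finrank ℂ (wsp Q ρ ψ v v' x) := by
  have ha' : Q (a : V) = 0 := ha
  have haz' : QuadraticMap.polar (⇑Q) (a : V) (z : V) = 0 := by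
    have h1 : QuadraticMap.polar (⇑(Qp Q v v')) a z = QuadraticMap.polar (⇑Q) (a : V) (z : V) := by
      simp [QuadraticMap.polar]
    rw [← h1]
    exact haz
  have hg : E Q (a : V) (z : V) ∈ T Q := E_mem_T Q hQ hdim ha' haz'
  have hgv : E Q (a : V) (z : V) v = (1 : F) • v := by
    rw [E_apply Q ha' haz', Cfsg.Agent.Lib.Helper20_MIO_NORM.polar_v_perp Q a,
      Cfsg.Agent.Lib.Helper20_MIO_NORM.polar_v_perp Q z]
    simp
  have hφ : ∀ w : ↥(perp Q v v'), ((E (Qp Q v v') a z w : ↥(perp Q v v')) : V) =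
      E Q (a : V) (z : V) (w : V) :=
    fun w => Cfsg.Agent.Lib.Helper52_MIO_RESTR.restr Q v v' a z w ha' haz'
  have h := finrank_wsp_map Q hQ hdim hv ρ ψ (E Q (a : V) (z : V)) hg 1 one_ne_zero hgv
    (E (Qp Q v v') a z) hφ x
  rw [inv_one, one_smul] at h
  exact h.symm

/-- **OP-WSLEVEL**. -/
theorem finrank_wsp_level (Q : QuadraticForm F V) (hQ : (QuadraticMap.polarBilin Q).Nondegenerate)
    (hdim : 7 ≤ finrank F V) {v v' : V} (hv : Q v = 0) (hv' : Q v' = 0)
    (hvv' : QuadraticMap.polar (⇑Q) v v' = 1)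
    (ρ : Representation ℂ ↥(T Q) X) (ψ : AddChar F ℂ) (u u' : ↥(perp Q v v')) (hu : u ≠ 0)
    (hu' : u' ≠ 0) (h : Qp Q v v' u = Qp Q v v' u') :
    finrank ℂ (wsp Q ρ ψ v v' u) = finrank ℂ (wsp Q ρ ψ v v' u') := by
  have hdimW : 5 ≤ finrank F ↥(perp Q v v') := by
    have := finrank_perp hv hv' hvv'
    omega
  exact Cfsg.Agent.Lib.Helper17_MIO_TR.tr_const (Qp Q v v') (nondegenerate_perp hQ hv hv' hvv')
    hdimW (fun x => finrank ℂ (wsp Q ρ ψ v v' x))
    (fun a z ha haz x => finrank_wsp_siegel Q hQ (by omega) hv ρ ψ a z ha haz x) hu hu' h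

end Cfsg.Agent.Lib.Helper71_OP_WSLEVEL
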