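import Mathlib
import Cfsg.Agent.Lib.Helper95_OPDefs
import Cfsg.Agent.Lib.Helper95_OPBasic
import Cfsg.Agent.Lib.Helper78_OP_CNTA

/-!
# S2345 market (architect helper95), package OP-CNTB

The number of non-zero singular vectors orthogonal to a totally singular line `⟨a, b⟩` of a
plus-type quadratic space of rank `m ≥ 3`: `q^(2m-3) + q^m - q^(m-1) - 1`.
-/

set_option autoImplicit false

namespace Cfsg.Agent.Lib.Helper78_OP_CNTB

open Module Cfsg.Agent.Lib.Helper94_OrthSmall Cfsg.Agent.Lib.Helper44_QuadClass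
  Cfsg.Agent.Lib.Helper14_OmegaSimple Cfsg.Agent.Lib.Helper38_MIODefs
  Cfsg.Agent.Lib.Helper95_OPDefs Cfsg.Agent.Lib.Helper95_OPBasic
  Cfsg.Agent.Lib.Helper78_OP_CNTA

section general

variable {F W : Type*} [Field F] [AddCommGroup W] [Module F W]

/-- A singular vector `a ≠ 0` has a hyperbolic partner orthogonal to a given singular `b ⊥ a`
outside the line `F a`. -/
theorem exists_partner_orth (Q : QuadraticForm F W)
    (hQ : (QuadraticMap.polarBilin Q).Nondegenerate) (a b : W) (ha0 : a ≠ 0)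
    (hba : b ∉ Submodule.span F {a}) (ha : Q a = 0) (hb : Q b = 0)
    (hab : QuadraticMap.polar (⇑Q) a b = 0) :
    ∃ a' : W, Q a' = 0 ∧ QuadraticMap.polar (⇑Q) a a' = 1 ∧ QuadraticMap.polar (⇑Q) a' b = 0 := by
  have hb0 : b ≠ 0 := by
    intro h
    apply hba
    rw [h]
    exact Submodule.zero_mem _
  obtain ⟨b', hb', hbb'⟩ := exists_hyperbolic_partner Q hQ hb0 hb
  have hb'b : QuadraticMap.polar (⇑Q) b' b = 1 := by rw [QuadraticMap.polar_comm, hbb']
  -- a vector orthogonal to `b` but not to `a`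
  have hex : ∃ y : W, QuadraticMap.polar (⇑Q) y b = 0 ∧ QuadraticMap.polar (⇑Q) y a ≠ 0 := by
    by_contra hcon
    have hall : ∀ y : W, QuadraticMap.polar (⇑Q) y b = 0 → QuadraticMap.polar (⇑Q) y a = 0 := by
      intro y hy
      by_contra hya
      exact hcon ⟨y, hy, hya⟩
    set c : F := QuadraticMap.polar (⇑Q) b' a with hc
    have hzero : a - c • b = 0 := by
      apply hQ.1
      intro y
      rw [QuadraticMap.polarBilin_apply_apply]
      have h1 := hall (y - QuadraticMap.polar (⇑Q) y b • b') (by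
        rw [QuadraticMap.polar_sub_left, QuadraticMap.polar_smul_left, hb'b]
        simp)
      rw [QuadraticMap.polar_sub_left, QuadraticMap.polar_smul_left, ← hc, smul_eq_mul,
        sub_eq_zero] at h1
      rw [QuadraticMap.polar_sub_left, QuadraticMap.polar_smul_left, smul_eq_mul,
        QuadraticMap.polar_comm (⇑Q) a y, QuadraticMap.polar_comm (⇑Q) b y, h1]
      ring
    have hac : a = c • b := sub_eq_zero.mp hzero
    have hc0 : c ≠ 0 := by
      intro h0
      apply ha0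
      rw [hac, h0, zero_smul]
    apply hba
    rw [Submodule.mem_span_singleton]
    refine ⟨c⁻¹, ?_⟩
    rw [hac, smul_smul, inv_mul_cancel₀ hc0, one_smul]
  obtain ⟨y, hyb, hya⟩ := hex
  set y₁ : W := (QuadraticMap.polar (⇑Q) y a)⁻¹ • y with hy₁
  have hy₁a : QuadraticMap.polar (⇑Q) a y₁ = 1 := by
    rw [hy₁, QuadraticMap.polar_smul_right, smul_eq_mul, QuadraticMap.polar_comm (⇑Q) a y,
      inv_mul_cancel₀ hya]
  have hy₁b : QuadraticMap.polar (⇑Q) y₁ b = 0 := by
    rw [hy₁, QuadraticMap.polar_smul_left, hyb, smul_zero]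
  have haa : QuadraticMap.polar (⇑Q) a a = 0 := by rw [polar_self', ha, mul_zero]
  refine ⟨(-Q y₁) • a + y₁, ?_, ?_, ?_⟩
  · rw [map_smul_add, ha, hy₁a]; ring
  · rw [QuadraticMap.polar_add_right, QuadraticMap.polar_smul_right, haa, hy₁a]
    simp
  · rw [QuadraticMap.polar_add_left, QuadraticMap.polar_smul_left, hab, hy₁b]
    simp

end general

section partC

variable {F W : Type*} [Field F] [Fintype F] [AddCommGroup W] [Module F W] [FiniteDimensional F W]

/-- The arithmetic of the count. -/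
theorem arith_cntb (q m : ℕ) (hm : 3 ≤ m) :
    q * (q ^ (2 * (m - 1) - 2) + q ^ (m - 1) - q ^ (m - 1 - 1)) =
      q ^ (2 * m - 3) + q ^ m - q ^ (m - 1) := by
  obtain ⟨j, rfl⟩ : ∃ j, m = j + 3 := ⟨m - 3, by omega⟩
  have e1 : 2 * (j + 3 - 1) - 2 = 2 * j + 2 := by omega
  have e2 : j + 3 - 1 = j + 2 := by omega
  have e3 : j + 2 - 1 = j + 1 := by omega
  have e4 : 2 * (j + 3) - 3 = 2 * j + 3 := by omega
  rw [e1, e2, e3, e4]
  rcases Nat.eq_zero_or_pos q with h0 | hq
  · subst h0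
    simp
  have h1 : q ^ (j + 1) ≤ q ^ (j + 2) := Nat.pow_le_pow_right hq (by omega)
  have h2 : q ^ (j + 2) ≤ q ^ (j + 3) := Nat.pow_le_pow_right hq (by omega)
  have h3 : q ^ (j + 1) ≤ q ^ (2 * j + 2) + q ^ (j + 2) := le_trans h1 (Nat.le_add_left _ _)
  have h4 : q ^ (j + 2) ≤ q ^ (2 * j + 3) + q ^ (j + 3) := le_trans h2 (Nat.le_add_left _ _)
  zify [h3, h4]
  ring

/-- OP-CNTB with the zero vector included. -/
theorem card_sing_perp_two_zero (Qw : QuadraticForm F W) (m : ℕ) (hm : 3 ≤ m) (hP : IsPlus Qw m)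
    (a b : W) (ha0 : a ≠ 0) (hba : b ∉ Submodule.span F {a}) (ha : Qw a = 0) (hb : Qw b = 0)
    (hab : QuadraticMap.polar (⇑Qw) a b = 0) :
    Nat.card {u : W // QuadraticMap.polar (⇑Qw) u a = 0 ∧
        (Qw u = 0 ∧ QuadraticMap.polar (⇑Qw) u b = 0)} =
      Fintype.card F ^ (2 * m - 3) + Fintype.card F ^ m - Fintype.card F ^ (m - 1) := by
  obtain ⟨a', ha', haa', ha'b⟩ := exists_partner_orth Qw hP.nondeg a b ha0 hba ha hb hab
  have hP₁ := isPlus_perp Qw m (by omega) hP ha ha' haa'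
  have hbmem : b ∈ perp Qw a a' := by
    rw [mem_perp]
    exact ⟨hab, ha'b⟩
  have hb0 : b ≠ 0 := by
    intro h
    apply hba
    rw [h]
    exact Submodule.zero_mem _
  set b₁ : ↥(perp Qw a a') := ⟨b, hbmem⟩ with hb₁
  have hb₁0 : b₁ ≠ 0 := by
    intro h
    exact hb0 (congrArg Subtype.val h)
  have hb₁ : Qp Qw a a' b₁ = 0 := hb
  have hcnt := card_sing_perp_one_zero (Qp Qw a a') (m - 1) (by omega) hP₁ b₁ hb₁0 hb₁
  have hfib := card_fiber Qw ha haa' (fun u => Qw u = 0 ∧ QuadraticMap.polar (⇑Qw) u b = 0) (by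
    intro α u hu
    have h2 := (mem_perp Qw a a').mp hu
    rw [map_smul_add, ha, h2.1, QuadraticMap.polar_add_left, QuadraticMap.polar_smul_left, hab]
    simp)
  have e : {u₂ : ↥(perp Qw a a') // Qw (u₂ : W) = 0 ∧ QuadraticMap.polar (⇑Qw) (u₂ : W) b = 0} ≃
      {u : ↥(perp Qw a a') // Qp Qw a a' u = 0 ∧
        QuadraticMap.polar (⇑(Qp Qw a a')) u b₁ = 0} :=
    Equiv.subtypeEquivRight (fun u => by
      rw [polar_comp_subtype]
      exact Iff.rfl)
  rw [hfib, Nat.card_congr e, hcnt, Nat.card_eq_fintype_card (α := F)]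
  exact arith_cntb _ m hm

/-! ## OP-CNTB (L) -/
theorem card_sing_perp_two (Qw : QuadraticForm F W) (m : ℕ) (hm : 3 ≤ m) (hP : IsPlus Qw m)
    (a b : W) (ha0 : a ≠ 0) (hba : b ∉ Submodule.span F {a}) (ha : Qw a = 0) (hb : Qw b = 0)
    (hab : QuadraticMap.polar (⇑Qw) a b = 0) :
    Nat.card {u : W // u ≠ 0 ∧ Qw u = 0 ∧ QuadraticMap.polar (⇑Qw) u a = 0 ∧
        QuadraticMap.polar (⇑Qw) u b = 0} =
      Fintype.card F ^ (2 * m - 3) + Fintype.card F ^ m - Fintype.card F ^ (m - 1) - 1 := by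
  have hfin : Finite W := Module.finite_of_finite F
  rw [card_ne_zero_and (fun u : W => Qw u = 0 ∧ QuadraticMap.polar (⇑Qw) u a = 0 ∧
    QuadraticMap.polar (⇑Qw) u b = 0) ⟨map_zero _, by simp, by simp⟩]
  have e : {u : W // Qw u = 0 ∧ QuadraticMap.polar (⇑Qw) u a = 0 ∧
        QuadraticMap.polar (⇑Qw) u b = 0} ≃
      {u : W // QuadraticMap.polar (⇑Qw) u a = 0 ∧
        (Qw u = 0 ∧ QuadraticMap.polar (⇑Qw) u b = 0)} :=
    Equiv.subtypeEquivRight (fun u => and_left_comm)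
  rw [Nat.card_congr e, card_sing_perp_two_zero Qw m hm hP a b ha0 hba ha hb hab]

end partC

end Cfsg.Agent.Lib.Helper78_OP_CNTB
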