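import Mathlib
import Cfsg.Agent.Lib.Helper95_OPDefs
import Cfsg.Agent.Lib.Helper95_OPBasic
import Cfsg.Agent.Lib.Helper58_MIO_ZEL

/-!
# S2345 package OP-FIXGEO (architect helper95)

A long root element `E Q a b` of the Levi factor (`a, b ∈ W = perp Q v v'` singular, orthogonal) is a
commutator of two elements of `T Q` fixing `v`, `v'` and a given singular `u ∈ W` orthogonal to `a` and `b`.
-/

set_option autoImplicit false
set_option linter.unusedVariables false
set_option linter.unusedSectionVars false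

namespace Cfsg.Agent.Lib.Helper89_OP_FIXGEO

open Module Cfsg.Agent.Lib.Helper94_OrthSmall Cfsg.Agent.Lib.Helper44_QuadClass
  Cfsg.Agent.Lib.Helper14_OmegaSimple Cfsg.Agent.Lib.Helper38_MIODefs
  Cfsg.Agent.Lib.Helper95_OPDefs Cfsg.Agent.Lib.Helper95_OPBasic

variable {F V : Type*} [Field F] [Fintype F] [AddCommGroup V] [Module F V] [FiniteDimensional F V]

/-- a vector outside a subspace pairs to `1` with a vector orthogonal to the subspace -/
theorem exists_dual (Q : QuadraticForm F V) (hQ : (QuadraticMap.polarBilin Q).Nondegenerate)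
    (S : Submodule F V) (y : V) (hy : y ∉ S) :
    ∃ x : V, (∀ s ∈ S, QuadraticMap.polar (⇑Q) s x = 0) ∧ QuadraticMap.polar (⇑Q) y x = 1 := by
  have hrefl : (QuadraticMap.polarBilin Q).IsRefl := by
    intro x y h
    rw [QuadraticMap.polarBilin_apply_apply] at h ⊢
    rw [QuadraticMap.polar_comm]
    exact h
  have key : ∃ x ∈ LinearMap.BilinForm.orthogonal (QuadraticMap.polarBilin Q) S, QuadraticMap.polar (⇑Q) y x ≠ 0 := by
    by_contra hcon
    push Not at hcon
    apply hy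
    rw [← LinearMap.BilinForm.orthogonal_orthogonal hQ hrefl S,
      LinearMap.BilinForm.mem_orthogonal_iff]
    intro n hn
    change QuadraticMap.polarBilin Q n y = 0
    rw [QuadraticMap.polarBilin_apply_apply, QuadraticMap.polar_comm]
    exact hcon n hn
  obtain ⟨x, hx, hyx⟩ := key
  refine ⟨(QuadraticMap.polar (⇑Q) y x)⁻¹ • x, ?_, ?_⟩
  · intro s hs
    have h1 : QuadraticMap.polarBilin Q s x = 0 :=
      LinearMap.BilinForm.mem_orthogonal_iff.mp hx s hs
    rw [QuadraticMap.polarBilin_apply_apply] at h1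
    rw [QuadraticMap.polar_smul_right, h1, smul_zero]
  · rw [QuadraticMap.polar_smul_right, smul_eq_mul, inv_mul_cancel₀ hyx]

/-- the main case: `b₁` is not in the span of `a₁` and `u` -/
theorem comm_fix_main (Q : QuadraticForm F V) (hQ : (QuadraticMap.polarBilin Q).Nondegenerate)
    (hdim : 7 ≤ finrank F V) (hcomm : ⁅oG (⇑Q), oG (⇑Q)⁆ ≤ T Q) (hq : 4 ≤ Fintype.card F)
    {v v' : V} (hv : Q v = 0) (hv' : Q v' = 0) (hvv' : QuadraticMap.polar (⇑Q) v v' = 1)
    (a b u : V) (ha : a ∈ perp Q v v') (hb : b ∈ perp Q v v') (hu : u ∈ perp Q v v')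
    (hQa : Q a = 0) (hQb : Q b = 0) (hab : QuadraticMap.polar (⇑Q) a b = 0)
    (hua : QuadraticMap.polar (⇑Q) u a = 0) (hub : QuadraticMap.polar (⇑Q) u b = 0)
    (hind : ∀ α β : F, b ≠ α • a + β • u) :
    ∃ g₁ g₂ : V ≃ₗ[F] V, g₁ ∈ T Q ∧ g₂ ∈ T Q ∧ g₁ v = v ∧ g₁ v' = v' ∧ g₁ u = u ∧
      g₂ v = v ∧ g₂ v' = v' ∧ g₂ u = u ∧ E Q a b = g₁ * g₂ * g₁⁻¹ * g₂⁻¹ := by
  obtain ⟨hva, hv'a⟩ := (mem_perp Q v v').mp ha
  obtain ⟨hvb, hv'b⟩ := (mem_perp Q v v').mp hb
  obtain ⟨hvu, hv'u⟩ := (mem_perp Q v v').mp hu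
  have hv'v : QuadraticMap.polar (⇑Q) v' v = 1 := by rw [QuadraticMap.polar_comm]; exact hvv'
  have hvv : QuadraticMap.polar (⇑Q) v v = 0 := by rw [polar_self', hv, mul_zero]
  have hv'v'0 : QuadraticMap.polar (⇑Q) v' v' = 0 := by rw [polar_self', hv', mul_zero]
  have hbb : QuadraticMap.polar (⇑Q) b b = 0 := by rw [polar_self', hQb, mul_zero]
  -- `b ∉ span {a, u, v, v'}`
  have hbS : b ∉ Submodule.span F ({a, u, v, v'} : Set V) := by
    intro h
    rw [Submodule.mem_span_insert] at h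
    obtain ⟨α, y1, hy1, rfl⟩ := h
    rw [Submodule.mem_span_insert] at hy1
    obtain ⟨β, y2, hy2, rfl⟩ := hy1
    rw [Submodule.mem_span_insert] at hy2
    obtain ⟨γ, y3, hy3, rfl⟩ := hy2
    rw [Submodule.mem_span_singleton] at hy3
    obtain ⟨δ, rfl⟩ := hy3
    have e1 := hv'b
    simp only [QuadraticMap.polar_add_right, QuadraticMap.polar_smul_right, hv'a, hv'u, hv'v,
      hv'v'0, smul_eq_mul, mul_zero, mul_one, zero_add, add_zero] at e1
    have e2 := hvb
    simp only [QuadraticMap.polar_add_right, QuadraticMap.polar_smul_right, hva, hvu, hvv, hvv',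
      smul_eq_mul, mul_zero, mul_one, zero_add] at e2
    apply hind α β
    rw [e1, e2, zero_smul, zero_smul, add_zero, add_zero]
  obtain ⟨x, hxS, hbx⟩ := exists_dual Q hQ _ b hbS
  have hax : QuadraticMap.polar (⇑Q) a x = 0 :=
    hxS a (Submodule.subset_span (by simp))
  have hux : QuadraticMap.polar (⇑Q) u x = 0 :=
    hxS u (Submodule.subset_span (by simp))
  have hvx : QuadraticMap.polar (⇑Q) v x = 0 :=
    hxS v (Submodule.subset_span (by simp))
  have hv'x : QuadraticMap.polar (⇑Q) v' x = 0 :=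
    hxS v' (Submodule.subset_span (by simp))
  -- the singular partner of `b`
  obtain ⟨b', hb'⟩ : ∃ b' : V, b' = x - Q x • b := ⟨_, rfl⟩
  have hQb' : Q b' = 0 := by
    rw [hb', Cfsg.Agent.Lib.Helper14_OmegaSimple.map_sub', QuadraticMap.map_smul, hQb, QuadraticMap.polar_smul_right,
      QuadraticMap.polar_comm (⇑Q) x b, hbx]
    simp
  have hbb' : QuadraticMap.polar (⇑Q) b b' = 1 := by
    rw [hb', QuadraticMap.polar_sub_right, QuadraticMap.polar_smul_right, hbx, hbb]
    simp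
  have hab' : QuadraticMap.polar (⇑Q) a b' = 0 := by
    rw [hb', QuadraticMap.polar_sub_right, QuadraticMap.polar_smul_right, hax, hab]
    simp
  have hub' : QuadraticMap.polar (⇑Q) u b' = 0 := by
    rw [hb', QuadraticMap.polar_sub_right, QuadraticMap.polar_smul_right, hux, hub]
    simp
  have hvb' : QuadraticMap.polar (⇑Q) v b' = 0 := by
    rw [hb', QuadraticMap.polar_sub_right, QuadraticMap.polar_smul_right, hvx, hvb]
    simp
  have hv'b' : QuadraticMap.polar (⇑Q) v' b' = 0 := by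
    rw [hb', QuadraticMap.polar_sub_right, QuadraticMap.polar_smul_right, hv'x, hv'b]
    simp
  -- a scalar `t` with `t ≠ 0`, `t ^ 2 ≠ 1`
  obtain ⟨t, ht0, ht1⟩ : ∃ t : F, t ≠ 0 ∧ t ^ 2 - 1 ≠ 0 := by
    classical
    by_contra hcon
    push Not at hcon
    have hsub : (Finset.univ : Finset F) ⊆ {0, 1, -1} := by
      intro t _
      by_cases h0 : t = 0
      · simp [h0]
      · have h1 := hcon t h0
        have : (t - 1) * (t + 1) = 0 := by linear_combination h1
        rcases mul_eq_zero.mp this with h | h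
        · have : t = 1 := sub_eq_zero.mp h
          simp [this]
        · have : t = -1 := eq_neg_of_add_eq_zero_left h
          simp [this]
    have h1 := Finset.card_le_card hsub
    have h2 : ({0, 1, -1} : Finset F).card ≤ 3 := Finset.card_le_three
    rw [Finset.card_univ] at h1
    omega
  obtain ⟨z, hzT, hzb, -, hzW⟩ := Cfsg.Agent.Lib.Helper58_MIO_ZEL.exists_zel Q hQ (by omega) hcomm
    hQb hQb' hbb' t ht0
  have hza : z a = a := hzW a ((mem_perp Q b b').mpr
    ⟨by rw [QuadraticMap.polar_comm]; exact hab, by rw [QuadraticMap.polar_comm]; exact hab'⟩)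
  have hzu : z u = u := hzW u ((mem_perp Q b b').mpr
    ⟨by rw [QuadraticMap.polar_comm]; exact hub, by rw [QuadraticMap.polar_comm]; exact hub'⟩)
  have hzv : z v = v := hzW v ((mem_perp Q b b').mpr
    ⟨by rw [QuadraticMap.polar_comm]; exact hvb, by rw [QuadraticMap.polar_comm]; exact hvb'⟩)
  have hzv' : z v' = v' := hzW v' ((mem_perp Q b b').mpr
    ⟨by rw [QuadraticMap.polar_comm]; exact hv'b, by rw [QuadraticMap.polar_comm]; exact hv'b'⟩)
  obtain ⟨c, hc⟩ : ∃ c : F, c = (t ^ 2 - 1)⁻¹ := ⟨_, rfl⟩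
  have hQcb : Q (c • b) = 0 := by rw [QuadraticMap.map_smul, hQb, smul_zero]
  have hacb : QuadraticMap.polar (⇑Q) a (c • b) = 0 := by
    rw [QuadraticMap.polar_smul_right, hab, smul_zero]
  have hfix : ∀ w : V, QuadraticMap.polar (⇑Q) w a = 0 → QuadraticMap.polar (⇑Q) w b = 0 →
      E Q a (c • b) w = w := by
    intro w h1 h2
    rw [E_apply Q hQa hacb, h1, QuadraticMap.polar_smul_right, h2]
    simp
  refine ⟨z, E Q a (c • b), hzT, root_mem_T Q hQa hQcb hacb, hzv, hzv', hzu,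
    hfix v hva hvb, hfix v' hv'a hv'b, hfix u hua hub, ?_⟩
  have hzO : z ∈ oG (⇑Q) := T_le_oG Q hzT
  have e1 : z * E Q a (c • b) * z⁻¹ = E Q a ((c * t ^ 2) • b) := by
    rw [conj_E Q hzO hQa hacb, hza, map_smul, hzb, smul_smul]
  have hac2 : QuadraticMap.polar (⇑Q) a ((c * t ^ 2) • b) = 0 := by
    rw [QuadraticMap.polar_smul_right, hab, smul_zero]
  have hac3 : QuadraticMap.polar (⇑Q) a (-(c • b)) = 0 := by
    rw [QuadraticMap.polar_neg_right, hacb, neg_zero]
  rw [e1, E_inv Q hQa hacb, E_mul Q hQa hac2 hac3]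
  congr 1
  have : c * t ^ 2 - c = 1 := by
    rw [hc]
    field_simp
  rw [← sub_eq_add_neg, ← sub_smul, this, one_smul]

theorem exists_comm_fix (Q : QuadraticForm F V) (hQ : (QuadraticMap.polarBilin Q).Nondegenerate)
    (hdim : 7 ≤ finrank F V) (hcomm : ⁅oG (⇑Q), oG (⇑Q)⁆ ≤ T Q) (hq : 4 ≤ Fintype.card F)
    {v v' : V} (hv : Q v = 0) (hv' : Q v' = 0) (hvv' : QuadraticMap.polar (⇑Q) v v' = 1)
    (a b u : V) (ha : a ∈ perp Q v v') (hb : b ∈ perp Q v v') (hu : u ∈ perp Q v v')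
    (hQa : Q a = 0) (hQb : Q b = 0) (hab : QuadraticMap.polar (⇑Q) a b = 0) (hQu : Q u = 0)
    (hua : QuadraticMap.polar (⇑Q) u a = 0) (hub : QuadraticMap.polar (⇑Q) u b = 0) :
    ∃ g₁ g₂ : V ≃ₗ[F] V, g₁ ∈ T Q ∧ g₂ ∈ T Q ∧ g₁ v = v ∧ g₁ v' = v' ∧ g₁ u = u ∧
      g₂ v = v ∧ g₂ v' = v' ∧ g₂ u = u ∧ E Q a b = g₁ * g₂ * g₁⁻¹ * g₂⁻¹ := by
  -- trivial cases
  have htriv : E Q a b = 1 →
      ∃ g₁ g₂ : V ≃ₗ[F] V, g₁ ∈ T Q ∧ g₂ ∈ T Q ∧ g₁ v = v ∧ g₁ v' = v' ∧ g₁ u = u ∧
        g₂ v = v ∧ g₂ v' = v' ∧ g₂ u = u ∧ E Q a b = g₁ * g₂ * g₁⁻¹ * g₂⁻¹ := by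
    intro h
    refine ⟨1, 1, Subgroup.one_mem _, Subgroup.one_mem _, rfl, rfl, rfl, rfl, rfl, rfl, ?_⟩
    rw [h]
    simp
  by_cases ha0 : a = 0
  · apply htriv
    rw [ha0, E_zero_left]
  by_cases hba : ∃ k : F, b = k • a
  · obtain ⟨k, rfl⟩ := hba
    apply htriv
    have h0 : QuadraticMap.polar (⇑Q) a 0 = 0 := by simp [QuadraticMap.polar]
    have := E_add_smul Q hQa h0 k
    rw [zero_add] at this
    rw [this, E_zero_right Q hQa]
  push Not at hba
  by_cases hind : ∀ α β : F, b ≠ α • a + β • u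
  · exact comm_fix_main Q hQ hdim hcomm hq hv hv' hvv' a b u ha hb hu hQa hQb hab hua hub hind
  · -- `b = λ a + μ u` with `μ ≠ 0`
    push Not at hind
    obtain ⟨l, m, hlm⟩ := hind
    have hm : m ≠ 0 := by
      intro h
      rw [h, zero_smul, add_zero] at hlm
      exact hba l hlm
    have hmu : m • u = b - l • a := by rw [hlm]; abel
    have huu : QuadraticMap.polar (⇑Q) u u = 0 := by rw [polar_self', hQu, mul_zero]
    have hQma : Q ((-m) • a) = 0 := by rw [QuadraticMap.map_smul, hQa, smul_zero]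
    have huma : QuadraticMap.polar (⇑Q) u ((-m) • a) = 0 := by
      rw [QuadraticMap.polar_smul_right, hua, smul_zero]
    have hind' : ∀ α β : F, (-m) • a ≠ α • u + β • u := by
      intro α β h
      -- `a ∈ F u`, hence `b ∈ F u`, hence `b ∈ F a`
      have h1 : a = (-(α + β) * m⁻¹) • u := by
        have : m • a = (-(α + β)) • u := by
          have h' : (-m) • a = (α + β) • u := by rw [h, add_smul]
          rw [neg_smul] at h'
          rw [neg_smul, ← h', neg_neg]
        calc a = m⁻¹ • (m • a) := by rw [smul_smul, inv_mul_cancel₀ hm, one_smul]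
          _ = (-(α + β) * m⁻¹) • u := by rw [this, smul_smul, mul_comm]
      have hk : -(α + β) * m⁻¹ ≠ 0 := by
        intro h0
        rw [h0, zero_smul] at h1
        exact ha0 h1
      have h2 : u = (-(α + β) * m⁻¹)⁻¹ • a := by
        rw [h1, smul_smul, inv_mul_cancel₀ hk, one_smul]
      apply hba (l + m * (-(α + β) * m⁻¹)⁻¹)
      rw [hlm, add_smul, ← smul_smul, ← h2]
    obtain ⟨g₁, g₂, h1, h2, h3, h4, h5, h6, h7, h8, h9⟩ :=
      comm_fix_main Q hQ hdim hcomm hq hv hv' hvv' u ((-m) • a) u hu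
        ((perp Q v v').smul_mem _ ha) hu hQu hQma huma huu huma hind'
    refine ⟨g₁, g₂, h1, h2, h3, h4, h5, h6, h7, h8, ?_⟩
    rw [← h9]
    apply LinearEquiv.ext
    intro w
    rw [E_apply Q hQa hab, E_apply Q hQu huma, hQb, hQma]
    have e1 : QuadraticMap.polar (⇑Q) w u • ((-m) • a) =
        -(QuadraticMap.polar (⇑Q) w b - l * QuadraticMap.polar (⇑Q) w a) • a := by
      have : QuadraticMap.polar (⇑Q) w (m • u) =
          QuadraticMap.polar (⇑Q) w b - l * QuadraticMap.polar (⇑Q) w a := by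
        rw [hmu, QuadraticMap.polar_sub_right, QuadraticMap.polar_smul_right, smul_eq_mul]
      rw [QuadraticMap.polar_smul_right, smul_eq_mul] at this
      rw [smul_smul, ← this]
      congr 1
      ring
    have e2 : QuadraticMap.polar (⇑Q) w ((-m) • a) • u =
        -(QuadraticMap.polar (⇑Q) w a) • (b - l • a) := by
      rw [QuadraticMap.polar_smul_right, smul_eq_mul, ← hmu, smul_smul]
      congr 1
      ring
    rw [e1, e2]
    module

end Cfsg.Agent.Lib.Helper89_OP_FIXGEO
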