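import Mathlib
import Cfsg.Agent.Lib.Helper95_OPDefs
import Cfsg.Agent.Lib.Helper95_OPBasic

set_option autoImplicit false

/-!
# S2345 package OP-PAIRS (architect helper95, proof helper9)

The number of pairs `(y, z)` of singular vectors spanning a totally singular line of a plus-type space.
-/

namespace Cfsg.Agent.Lib.Helper9_OP_PAIRS

open Module Cfsg.Agent.Lib.Helper94_OrthSmall Cfsg.Agent.Lib.Helper44_QuadClass
  Cfsg.Agent.Lib.Helper14_OmegaSimple Cfsg.Agent.Lib.Helper38_MIODefs
  Cfsg.Agent.Lib.Helper95_OPDefs Cfsg.Agent.Lib.Helper95_OPBasic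

variable {F W : Type*} [Field F] [Fintype F] [AddCommGroup W] [Module F W] [FiniteDimensional F W]

/-- removing the zero vector from the zero set -/
theorem card_nonzero_sing (Qw : QuadraticForm F W) :
    Nat.card {y : W // y ≠ 0 ∧ Qw y = 0} + 1 = Nat.card {y : W // Qw y = 0} := by
  classical
  have : Finite W := Module.finite_of_finite F
  have e : {y : W // Qw y = 0} ≃ Option {y : W // y ≠ 0 ∧ Qw y = 0} :=
    { toFun := fun y => if h : y.1 = 0 then none else some ⟨y.1, h, y.2⟩
      invFun := fun o => match o with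
        | none => ⟨0, map_zero Qw⟩
        | some y => ⟨y.1, y.2.2⟩
      left_inv := by
        intro y
        by_cases h : y.1 = 0
        · simp only [h, dite_true]
          exact Subtype.ext h.symm
        · simp only [h, dite_false]
      right_inv := by
        intro o
        cases o with
        | none => simp
        | some y => simp [y.2.1] }
  rw [Nat.card_congr e, Finite.card_option]

/-- the fibre over a singular `y` with partner `y'` -/
noncomputable def fibreEquiv (Qw : QuadraticForm F W) {y y' : W} (hy : Qw y = 0)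
    (hyy' : QuadraticMap.polar (⇑Qw) y y' = 1) :
    (F × {w : ↥(perp Qw y y') // w ≠ 0 ∧ Qp Qw y y' w = 0}) ≃
      {z : W // Qw z = 0 ∧ QuadraticMap.polar (⇑Qw) y z = 0 ∧ z ∉ Submodule.span F {y}} where
  toFun p := ⟨p.1 • y + (p.2.1 : W), by
    have hw := (mem_perp Qw y y').mp p.2.1.2
    have hQw : Qw (p.2.1 : W) = 0 := p.2.2.2
    have hyy : QuadraticMap.polar (⇑Qw) y y = 0 := by
      rw [QuadraticMap.polar_self, hy, smul_zero]
    refine ⟨?_, ?_, ?_⟩
    · have := QuadraticMap.polar (⇑Qw) (p.1 • y) (p.2.1 : W)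
      have h1 : Qw (p.1 • y + (p.2.1 : W)) = Qw (p.1 • y) + Qw (p.2.1 : W) +
          QuadraticMap.polar (⇑Qw) (p.1 • y) (p.2.1 : W) := by
        unfold QuadraticMap.polar
        ring
      rw [h1, QuadraticMap.map_smul, hy, hQw, QuadraticMap.polar_smul_left, hw.1]
      simp
    · rw [QuadraticMap.polar_add_right, QuadraticMap.polar_smul_right, hyy, hw.1]
      simp
    · intro hmem
      obtain ⟨c, hc⟩ := Submodule.mem_span_singleton.mp hmem
      have hw0 : (p.2.1 : W) = (c - p.1) • y := by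
        rw [sub_smul, hc]; abel
      have h2 : QuadraticMap.polar (⇑Qw) y' (p.2.1 : W) = 0 := hw.2
      rw [hw0, QuadraticMap.polar_smul_right, QuadraticMap.polar_comm, hyy', smul_eq_mul, mul_one] at h2
      apply p.2.2.1
      apply Subtype.ext
      rw [hw0, h2, zero_smul]
      rfl⟩
  invFun z := (QuadraticMap.polar (⇑Qw) z.1 y',
    ⟨⟨z.1 - QuadraticMap.polar (⇑Qw) z.1 y' • y, by
      rw [mem_perp]
      have hyy : QuadraticMap.polar (⇑Qw) y y = 0 := by
        rw [QuadraticMap.polar_self, hy, smul_zero]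
      constructor
      · rw [QuadraticMap.polar_sub_right, QuadraticMap.polar_smul_right, hyy, z.2.2.1]
        simp
      · rw [QuadraticMap.polar_sub_right, QuadraticMap.polar_smul_right,
          QuadraticMap.polar_comm (⇑Qw) y' y, hyy', QuadraticMap.polar_comm (⇑Qw) y' z.1]
        simp⟩, by
      have hyy : QuadraticMap.polar (⇑Qw) y y = 0 := by
        rw [QuadraticMap.polar_self, hy, smul_zero]
      constructor
      · intro h0
        apply z.2.2.2
        have h1 : z.1 - QuadraticMap.polar (⇑Qw) z.1 y' • y = 0 := congrArg Subtype.val h0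
        rw [sub_eq_zero] at h1
        rw [h1]
        exact Submodule.smul_mem _ _ (Submodule.mem_span_singleton_self y)
      · show Qw (z.1 - QuadraticMap.polar (⇑Qw) z.1 y' • y) = 0
        have h1 : ∀ a b : W, Qw (a - b) = Qw a + Qw b - QuadraticMap.polar (⇑Qw) a b := by
          intro a b
          have h2 : Qw a = Qw ((a - b) + b) := by rw [sub_add_cancel]
          have h3 : QuadraticMap.polar (⇑Qw) (a - b) b = Qw a - Qw (a - b) - Qw b := by
            unfold QuadraticMap.polar
            rw [sub_add_cancel]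
          have h4 : QuadraticMap.polar (⇑Qw) (a - b) b =
              QuadraticMap.polar (⇑Qw) a b - 2 • Qw b := by
            rw [QuadraticMap.polar_sub_left, QuadraticMap.polar_self]
          rw [h4] at h3
          have : (2 : ℕ) • Qw b = 2 * Qw b := by simp
          rw [two_smul] at h3
          linear_combination h3
        rw [h1, QuadraticMap.map_smul, hy, z.2.1, QuadraticMap.polar_smul_right,
          QuadraticMap.polar_comm (⇑Qw) z.1 y, z.2.2.1]
        simp⟩)
  left_inv := by
    rintro ⟨α, ⟨w, hw⟩, hw0, hQ⟩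
    have hwp := (mem_perp Qw y y').mp hw
    have hα : QuadraticMap.polar (⇑Qw) (α • y + w) y' = α := by
      rw [QuadraticMap.polar_add_left, QuadraticMap.polar_smul_left, hyy',
        QuadraticMap.polar_comm (⇑Qw) w y', hwp.2]
      simp
    apply Prod.ext
    · exact hα
    · apply Subtype.ext
      apply Subtype.ext
      show α • y + w - QuadraticMap.polar (⇑Qw) (α • y + w) y' • y = w
      rw [hα]
      abel
  right_inv := by
    rintro ⟨z, hz⟩
    apply Subtype.ext
    show QuadraticMap.polar (⇑Qw) z y' • y + (z - QuadraticMap.polar (⇑Qw) z y' • y) = z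
    abel

theorem card_fibre (Qw : QuadraticForm F W) (n : ℕ) (hn : 2 ≤ n) (hP : IsPlus Qw n) (y : W)
    (hy0 : y ≠ 0) (hy : Qw y = 0) :
    Nat.card {z : W // Qw z = 0 ∧ QuadraticMap.polar (⇑Qw) y z = 0 ∧ z ∉ Submodule.span F {y}} =
      Fintype.card F * sing (Fintype.card F) (n - 1) := by
  obtain ⟨y', hy', hyy'⟩ := exists_hyperbolic_partner Qw hP.nondeg hy0 hy
  have hP' := isPlus_perp Qw n hn hP hy hy' hyy'
  have h1 := card_nonzero_sing (Qp Qw y y')
  rw [hP'.zeros] at h1
  rw [← Nat.card_congr (fibreEquiv Qw hy hyy'), Nat.card_prod, Nat.card_eq_fintype_card]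
  congr 1
  unfold sing
  omega

/-! ## OP-PAIRS (L) -/
theorem card_root_pairs (Qw : QuadraticForm F W) (n : ℕ) (hn : 2 ≤ n) (hP : IsPlus Qw n) :
    Nat.card {p : W × W // p.1 ≠ 0 ∧ Qw p.1 = 0 ∧ Qw p.2 = 0 ∧
        QuadraticMap.polar (⇑Qw) p.1 p.2 = 0 ∧ p.2 ∉ Submodule.span F {p.1}} =
      (Fintype.card F ^ (2 * n - 1) + Fintype.card F ^ n - Fintype.card F ^ (n - 1) - 1) *
        (Fintype.card F * sing (Fintype.card F) (n - 1)) := by
  classical
  have : Finite W := Module.finite_of_finite F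
  have : Fintype {y : W // y ≠ 0 ∧ Qw y = 0} := Fintype.ofFinite _
  have e : {p : W × W // p.1 ≠ 0 ∧ Qw p.1 = 0 ∧ Qw p.2 = 0 ∧
        QuadraticMap.polar (⇑Qw) p.1 p.2 = 0 ∧ p.2 ∉ Submodule.span F {p.1}} ≃
      Σ y : {y : W // y ≠ 0 ∧ Qw y = 0},
        {z : W // Qw z = 0 ∧ QuadraticMap.polar (⇑Qw) y.1 z = 0 ∧ z ∉ Submodule.span F {y.1}} :=
    { toFun := fun p => ⟨⟨p.1.1, p.2.1, p.2.2.1⟩, ⟨p.1.2, p.2.2.2.1, p.2.2.2.2.1, p.2.2.2.2.2⟩⟩
      invFun := fun s => ⟨(s.1.1, s.2.1), s.1.2.1, s.1.2.2, s.2.2.1, s.2.2.2.1, s.2.2.2.2⟩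
      left_inv := fun p => rfl
      right_inv := fun s => rfl }
  rw [Nat.card_congr e, Nat.card_sigma]
  have hfib : ∀ y : {y : W // y ≠ 0 ∧ Qw y = 0},
      Nat.card {z : W // Qw z = 0 ∧ QuadraticMap.polar (⇑Qw) y.1 z = 0 ∧
        z ∉ Submodule.span F {y.1}} = Fintype.card F * sing (Fintype.card F) (n - 1) :=
    fun y => card_fibre Qw n hn hP y.1 y.2.1 y.2.2
  rw [Finset.sum_congr rfl (fun y _ => hfib y), Finset.sum_const, Finset.card_univ, smul_eq_mul,
    ← Nat.card_eq_fintype_card]
  congr 1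
  have h1 := card_nonzero_sing Qw
  rw [hP.zeros] at h1
  omega

end Cfsg.Agent.Lib.Helper9_OP_PAIRS
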