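import Mathlib
import Cfsg.Agent.Lib.Helper95_OPDefs
import Cfsg.Agent.Lib.Helper95_OPBasic
import Cfsg.Agent.Lib.Helper4_S2332_IRRSUB
import Cfsg.Agent.Lib.Helper52_MIO_RESTR
import Cfsg.Agent.Lib.Helper55_OP_ARITH
import Cfsg.Agent.Lib.Helper55_OP_PHANTOM
import Cfsg.Agent.Lib.Helper5_OP_NUM
import Cfsg.Agent.Lib.Helper61_OP_CONJ
import Cfsg.Agent.Lib.Helper61_OP_WSTORUS
import Cfsg.Agent.Lib.Helper63_OP_HCOMM
import Cfsg.Agent.Lib.Helper70_OP_COMMFIX
import Cfsg.Agent.Lib.Helper70_OP_DVD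
import Cfsg.Agent.Lib.Helper71_OP_WSLEVEL
import Cfsg.Agent.Lib.Helper73_OP_EXT
import Cfsg.Agent.Lib.Helper73_OP_TRACEL
import Cfsg.Agent.Lib.Helper77_OP_TRACER
import Cfsg.Agent.Lib.Helper78_OP_CNTA
import Cfsg.Agent.Lib.Helper78_OP_CNTB
import Cfsg.Agent.Lib.Helper89_OP_FIXGEO
import Cfsg.Agent.Lib.Helper31_OP_TSPAIR
import Cfsg.Agent.Lib.Helper69_OP_WSDEC
import Cfsg.Agent.Lib.Helper9_OP_PAIRS
import Cfsg.Agent.Lib.Helper69_OP_NONTRIV

set_option autoImplicit false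

/-!
S2345 (helper95, architect): the induction step for the minimal degree of `Ω⁺_{2n}(q)`, `q > 3`, `n ≥ 4`
(proof: pending/helper95/S2345_proof.md), assembled from the 26 packages of the market `s2345_packages`.
-/

namespace Cfsg.Agent.Lib.Helper95_OPMain

open Module Cfsg.Agent.Lib.Helper94_OrthSmall Cfsg.Agent.Lib.Helper44_QuadClass
  Cfsg.Agent.Lib.Helper14_OmegaSimple Cfsg.Agent.Lib.Helper38_MIODefs
  Cfsg.Agent.Lib.Helper95_OPDefs Cfsg.Agent.Lib.Helper95_OPBasic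

variable {F V : Type*} [Field F] [Fintype F] [AddCommGroup V] [Module F V] [FiniteDimensional F V]

/-- conjugation invariance of the trace of `repE` -/
theorem trace_repE_conj {X : Type*} [AddCommGroup X] [Module ℂ X] [FiniteDimensional ℂ X]
    (Q : QuadraticForm F V) (ρ : Representation ℂ ↥(T Q) X) {g x : V ≃ₗ[F] V} (hg : g ∈ T Q)
    (hx : x ∈ T Q) :
    LinearMap.trace ℂ X (repE Q ρ (g * x * g⁻¹)) = LinearMap.trace ℂ X (repE Q ρ x) := by
  have hgi : g⁻¹ ∈ T Q := Subgroup.inv_mem _ hg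
  rw [repE_mul Q ρ (Subgroup.mul_mem _ hg hx) hgi, repE_mul Q ρ hg hx, LinearMap.trace_mul_comm,
    ← mul_assoc, ← repE_mul Q ρ hgi hg, inv_mul_cancel, repE_one, one_mul]


set_option linter.unusedSectionVars false
set_option linter.unusedVariables false

/-- The fixed points of `E (Qp) a b` among the vectors orthogonal... : `E a b u = u ↔ B(u,a) = 0 ∧ B(u,b) = 0`
for independent singular orthogonal `a, b`. -/
theorem E_fix_iff {W : Type*} [AddCommGroup W] [Module F W] (Qw : QuadraticForm F W) {a b : W} (ha0 : a ≠ 0)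
    (hba : b ∉ Submodule.span F {a}) (ha : Qw a = 0) (hb : Qw b = 0)
    (hab : QuadraticMap.polar (⇑Qw) a b = 0) (u : W) :
    E Qw a b u = u ↔ QuadraticMap.polar (⇑Qw) u a = 0 ∧ QuadraticMap.polar (⇑Qw) u b = 0 := by
  rw [E_apply Qw ha hab, hb, zero_mul, zero_smul, sub_zero]
  constructor
  · intro h
    have h1 : QuadraticMap.polar (⇑Qw) u a • b = QuadraticMap.polar (⇑Qw) u b • a := by
      have h2 : QuadraticMap.polar (⇑Qw) u a • b - QuadraticMap.polar (⇑Qw) u b • a = 0 := by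
        have := congrArg (fun y => y - u) h
        simp only [sub_self] at this
        rw [← this]; abel
      exact sub_eq_zero.mp h2
    by_cases hc : QuadraticMap.polar (⇑Qw) u a = 0
    · refine ⟨hc, ?_⟩
      rw [hc, zero_smul] at h1
      rcases smul_eq_zero.mp h1.symm with h3 | h3
      · exact h3
      · exact absurd h3 ha0
    · exfalso
      apply hba
      rw [Submodule.mem_span_singleton]
      refine ⟨(QuadraticMap.polar (⇑Qw) u a)⁻¹ * QuadraticMap.polar (⇑Qw) u b, ?_⟩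
      rw [mul_smul, ← h1, smul_smul, inv_mul_cancel₀ hc, one_smul]
  · rintro ⟨h1, h2⟩
    rw [h1, h2, zero_smul, zero_smul, add_zero, sub_zero]


/-- **The induction step.** -/
theorem step (Q : QuadraticForm F V) (n : ℕ) (hn : 4 ≤ n) (hq : 4 ≤ Fintype.card F)
    (hP : IsPlus Q n) {v v' : V} (hv : Q v = 0) (hv' : Q v' = 0)
    (hvv' : QuadraticMap.polar (⇑Q) v v' = 1)
    (hIH : MinDegT (Qp Q v v') (dplus (Fintype.card F) (n - 1))) :
    MinDegT Q (dplus (Fintype.card F) n) := by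
  classical
  intro X _ _ _ ρ hirr h2
  by_contra hlt
  push Not at hlt
  obtain ⟨q, hqdef⟩ : ∃ q, q = Fintype.card F := ⟨_, rfl⟩
  rw [← hqdef] at hq hlt hIH
  have hQ := hP.nondeg
  have hdimV : finrank F V = 2 * n := hP.dim
  have hdim5 : 5 ≤ finrank F V := by omega
  have hdim7 : 7 ≤ finrank F V := by omega
  have hcomm := Cfsg.Agent.Lib.Helper63_OP_HCOMM.comm_oG_le_T Q hQ hdim5
  obtain ⟨ψ, hψ'⟩ := (AddChar.exists_apply_ne_zero (α := F) (a := (1 : F))).mpr one_ne_zero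
  have hψ : ψ ≠ 1 := fun h => hψ' (by rw [h]; rfl)
  have hint := Cfsg.Agent.Lib.Helper69_OP_WSDEC.wsp_isInternal Q hQ hdim5 hv hv' hvv' ρ ψ hψ
  have hPW : IsPlus (Qp Q v v') (n - 1) := isPlus_perp Q n (by omega) hP hv hv' hvv'
  have hdimW : finrank F ↥(perp Q v v') = 2 * (n - 1) := hPW.dim
  -- the number of non-zero singular vectors of `W`
  have hs : Nat.card {u : ↥(perp Q v v') // u ≠ 0 ∧ Qp Q v v' u = 0} = sing q (n - 1) := by
    have h := (Cfsg.Agent.Lib.Helper91_MIO_CNTPLUS.counts_perp_plus Q hv hv' hvv' n (by omega) hdimW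
      hP.zeros hP.level).2.1
    rw [h, ← hqdef]
    unfold sing
    rfl
  -- weight data
  have harith := Cfsg.Agent.Lib.Helper55_OP_ARITH.dplus_le_two_level q n hq hn
  rw [hqdef] at harith
  rcases Cfsg.Agent.Lib.Helper5_OP_NUM.wdata_or_large Q n hn hP (by omega) hv hv' hvv' ρ ψ hint
    (fun u u' hu hu' h => Cfsg.Agent.Lib.Helper71_OP_WSLEVEL.finrank_wsp_level Q hQ hdim7 hv hv' hvv' ρ ψ u u' hu hu' h)
    (fun t ht => Cfsg.Agent.Lib.Helper61_OP_WSTORUS.finrank_wsp_torus Q hQ hdim7 hcomm hv hv' hvv' ρ ψ t ht) harith with hbig | ⟨e, f, hW⟩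
  · rw [← hqdef] at hbig; omega
  have he1 := Cfsg.Agent.Lib.Helper69_OP_NONTRIV.one_le_e Q hQ hdim7 hv hv' hvv' ρ hirr h2 ψ hint e f hW
  have hD := hW.hD
  rw [hs] at hD
  have he : e = 1 := by
    by_contra hne
    have he2 : 2 ≤ e := by omega
    have h1 := Cfsg.Agent.Lib.Helper55_OP_ARITH.dplus_le_two_sing q n hq hn
    have h3 : 2 * sing q (n - 1) ≤ e * sing q (n - 1) := Nat.mul_le_mul_right _ he2
    omega
  subst he
  rw [one_mul] at hD
  -- the character value on long root elements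
  obtain ⟨m, hm⟩ : ∃ m, m = n - 1 := ⟨_, rfl⟩
  rw [← hm] at hPW hdimW hs hD hIH
  have hm3 : 3 ≤ m := by omega
  obtain ⟨c, hcdef⟩ : ∃ c, c = f + 1 * (q ^ m - q ^ (m - 1) - 1) := ⟨_, rfl⟩
  have htr : ∀ w : ↥(perp Q v v'), w ≠ 0 → Qp Q v v' w = 0 →
      LinearMap.trace ℂ X (repE Q ρ (E Q v (w : V))) = (c : ℂ) := by
    intro w hw0 hw
    have hA := Cfsg.Agent.Lib.Helper78_OP_CNTA.card_sing_perp_one (Qp Q v v') m (by omega) hPW w hw0 hw
    have := Cfsg.Agent.Lib.Helper77_OP_TRACER.trace_rad Q hQ hdim5 hv hv' hvv' ρ ψ hψ hint 1 f hW m (by omega) hPW w hw0 hw hA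
    rw [this, hcdef, hqdef]
  have hroot : ∀ y z : V, y ≠ 0 → Q y = 0 → Q z = 0 → QuadraticMap.polar (⇑Q) y z = 0 →
      z ∉ Submodule.span F {y} → LinearMap.trace ℂ X (repE Q ρ (E Q y z)) = (c : ℂ) := by
    intro y z hy0 hy hz hyz hzy
    obtain ⟨g, hg, w, hw0, hw, hE⟩ := Cfsg.Agent.Lib.Helper61_OP_CONJ.root_conj Q hQ hdim5 hv hv' hvv' y z hy0 hy hz hyz hzy
    rw [hE, trace_repE_conj Q ρ hg (rad_mem Q hQ hdim5 hv w), htr w hw0 hw]
  have hdvd := Cfsg.Agent.Lib.Helper70_OP_DVD.finrank_dvd_pairs Q hQ hdim5 ρ hirr c hroot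
  rw [Cfsg.Agent.Lib.Helper9_OP_PAIRS.card_root_pairs Q n (by omega) hP, ← hqdef, ← hm] at hdvd
  -- the Levi factor
  obtain ⟨L⟩ := Cfsg.Agent.Lib.Helper73_OP_EXT.exists_leviHom Q hQ hv hv' hvv'
  obtain ⟨a, b, ha0, hba, ha, hb, hab⟩ := Cfsg.Agent.Lib.Helper31_OP_TSPAIR.exists_ts_pair (Qp Q v v') m (by omega) hPW
  have hxW : E (Qp Q v v') a b ∈ T (Qp Q v v') := root_mem_T (Qp Q v v') ha hb hab
  have haV : Q (a : V) = 0 := ha
  have hbV : Q (b : V) = 0 := hb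
  have habV : QuadraticMap.polar (⇑Q) (a : V) (b : V) = 0 := by
    rw [← polar_comp_subtype]; exact hab
  have hxV : E Q (a : V) (b : V) ∈ T Q := root_mem_T Q haV hbV habV
  have hLE := Cfsg.Agent.Lib.Helper73_OP_EXT.leviHom_E Q hQ hv hv' hvv' L a b ha hab hxW
  have hinv : ∀ (g : ↥(T (Qp Q v v'))) (x : X), x ∈ wsp Q ρ ψ v v' 0 →
      ρ (L.ι g) x ∈ wsp Q ρ ψ v v' 0 := by
    intro g x hx
    have := wsp_map Q hQ hdim5 hv ρ ψ ((L.ι g : ↥(T Q)) : V ≃ₗ[F] V) (L.ι g).2 1 one_ne_zero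
      (by rw [L.apply_v, one_smul]) (g : ↥(perp Q v v') ≃ₗ[F] ↥(perp Q v v'))
      (fun w => (L.apply_coe g w).symm) 0 x hx
    rw [repE_coe] at this
    simpa using this
  have hρ : ρ (L.ι ⟨E (Qp Q v v') a b, hxW⟩) = repE Q ρ (E Q (a : V) (b : V)) := by
    rw [← repE_coe, hLE]
  have hgv : E Q (a : V) (b : V) v = v := by
    have := L.apply_v ⟨E (Qp Q v v') a b, hxW⟩
    rwa [hLE] at this
  have hφ : ∀ w : ↥(perp Q v v'),
      ((E (Qp Q v v') a b w : ↥(perp Q v v')) : V) = E Q (a : V) (b : V) (w : V) :=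
    fun w => Cfsg.Agent.Lib.Helper52_MIO_RESTR.restr Q v v' a b w haV habV
  have hfix : ∀ u : ↥(perp Q v v'), u ≠ 0 → E (Qp Q v v') a b u = u →
      ∀ x ∈ wsp Q ρ ψ v v' u, repE Q ρ (E Q (a : V) (b : V)) x = x := by
    intro u hu0 hfixu x hx
    by_cases hQu : Qp Q v v' u = 0
    · have h1 : finrank ℂ (wsp Q ρ ψ v v' u) = 1 := hW.he u hu0 hQu
      obtain ⟨hua, hub⟩ := (E_fix_iff (Qp Q v v') ha0 hba ha hb hab u).mp hfixu
      have huaV : QuadraticMap.polar (⇑Q) (u : V) (a : V) = 0 := by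
        rw [← polar_comp_subtype]; exact hua
      have hubV : QuadraticMap.polar (⇑Q) (u : V) (b : V) = 0 := by
        rw [← polar_comp_subtype]; exact hub
      obtain ⟨g₁, g₂, hg₁, hg₂, h1v, h1v', h1u, h2v, h2v', h2u, hE⟩ :=
        Cfsg.Agent.Lib.Helper89_OP_FIXGEO.exists_comm_fix Q hQ hdim7 hcomm (by omega) hv hv' hvv' (a : V) (b : V) (u : V) a.2 b.2 u.2
          haV hbV habV hQu huaV hubV
      rw [hE]
      exact Cfsg.Agent.Lib.Helper70_OP_COMMFIX.comm_fix Q hQ hdim5 hv hv' hvv' ρ ψ u h1 g₁ g₂ hg₁ hg₂ h1v h1v' h1u h2v h2v' h2u x hx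
    · have hbot := hW.hns u hQu
      rw [hbot, Submodule.mem_bot] at hx
      rw [hx, map_zero]
  have h0 : ∀ x ∈ wsp Q ρ ψ v v' 0, repE Q ρ (E Q (a : V) (b : V)) x ∈ wsp Q ρ ψ v v' 0 := by
    intro x hx
    rw [← hρ]
    exact hinv _ x hx
  have htl := Cfsg.Agent.Lib.Helper73_OP_TRACEL.trace_levi Q hQ hdim5 hv hv' hvv' ρ ψ hint 1 f hW (E Q (a : V) (b : V)) hxV hgv
    (E (Qp Q v v') a b) hφ hfix h0
  have hcardfix : Nat.card {u : ↥(perp Q v v') // u ≠ 0 ∧ Qp Q v v' u = 0 ∧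
      E (Qp Q v v') a b u = u} = q ^ (2 * m - 3) + q ^ m - q ^ (m - 1) - 1 := by
    rw [hqdef, ← Cfsg.Agent.Lib.Helper78_OP_CNTB.card_sing_perp_two (Qp Q v v') m hm3 hPW a b ha0 hba ha hb hab]
    apply Nat.card_congr
    apply Equiv.subtypeEquivRight
    intro u
    rw [E_fix_iff (Qp Q v v') ha0 hba ha hb hab u]
  rw [hcardfix, one_mul] at htl
  -- the character value on `E a b`
  have haV0 : (a : V) ≠ 0 := fun h => ha0 (Subtype.ext h)
  have hbaV : (b : V) ∉ Submodule.span F {(a : V)} := by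
    intro h
    apply hba
    obtain ⟨k, hk⟩ := Submodule.mem_span_singleton.mp h
    rw [Submodule.mem_span_singleton]
    exact ⟨k, Subtype.ext hk⟩
  have hcx := hroot (a : V) (b : V) haV0 haV hbV habV hbaV
  rw [hcx] at htl
  -- the representation of the Levi factor on `X_0`
  have hσx : sigmaRep Q ρ ψ v v' L hinv ⟨E (Qp Q v v') a b, hxW⟩ =
      (repE Q ρ (E Q (a : V) (b : V))).restrict h0 := by
    apply LinearMap.ext
    intro x
    apply Subtype.ext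
    rw [sigmaRep_apply, hρ]
    rfl
  have hpow : q ^ (m - 1) + 1 ≤ q ^ m := by
    have h1 : q ^ m = q * q ^ (m - 1) := by
      rw [← pow_succ']; congr 1; omega
    have h2 : 1 ≤ q ^ (m - 1) := Nat.one_le_pow _ _ (by omega)
    rw [h1]
    nlinarith
  have hpos : 0 < q ^ (2 * m - 3) := Nat.pow_pos (by omega)
  have hne : sigmaRep Q ρ ψ v v' L hinv ⟨E (Qp Q v v') a b, hxW⟩ ≠ 1 := by
    intro h1
    rw [hσx] at h1
    rw [h1, LinearMap.trace_one, hW.hf] at htl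
    have h3 : c = f + (q ^ (2 * m - 3) + q ^ m - q ^ (m - 1) - 1) := by exact_mod_cast htl
    rw [hcdef] at h3
    omega
  have hfinW : Finite ↥(perp Q v v') := Module.finite_of_finite F
  have hfinG : Finite (↥(perp Q v v') ≃ₗ[F] ↥(perp Q v v')) :=
    Finite.of_injective (fun g => (g : ↥(perp Q v v') → ↥(perp Q v v')))
      (fun g h hgh => LinearEquiv.ext (congrFun hgh))
  have hperf := commutator_T_eq_top (Qp Q v v') hPW.nondeg (by omega)
  obtain ⟨Y, _, _, _, τ, hτirr, hτ2, hτle⟩ :=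
    Cfsg.Agent.Lib.Helper4_S2332_IRRSUB.exists_irr_sub_of_ne_one hperf
      (sigmaRep Q ρ ψ v v' L hinv) ⟨E (Qp Q v v') a b, hxW⟩ hne
  have hIHτ := hIH Y τ hτirr hτ2
  rw [hW.hf] at hτle
  -- arithmetic
  have hsucc := Cfsg.Agent.Lib.Helper55_OP_ARITH.dplus_succ q n (by omega) (by omega)
  rw [← hm] at hsucc
  have hDX : finrank ℂ X + 1 = dplus q n := by omega
  have hcD : c + q ^ (2 * n - 3) = finrank ℂ X := by
    have e1 : 2 * n - 3 = 2 * m - 1 := by omega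
    rw [e1, hD, hcdef]
    unfold sing
    have hpos2 : 0 < q ^ (2 * m - 1) := Nat.pow_pos (by omega)
    omega
  rw [hm] at hdvd
  exact Cfsg.Agent.Lib.Helper55_OP_PHANTOM.phantom q n hq hn (finrank ℂ X) c hDX hcD hdvd

end Cfsg.Agent.Lib.Helper95_OPMain
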