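import Mathlib
import Cfsg.Agent.Lib.Helper30_OMDefs
import Cfsg.Agent.Lib.Helper95_OPMain
import Cfsg.Agent.Lib.Helper60_OM_TSPAIR
import Cfsg.Agent.Lib.Helper63_OM_KLAB
import Cfsg.Agent.Lib.Helper8_OM_WITT2
import Cfsg.Agent.Lib.Helper57_OM_TRACEL
import Cfsg.Agent.Lib.Helper43_OM_TRACER
import Cfsg.Agent.Lib.Helper58_OM_CNTRAD
import Cfsg.Agent.Lib.Helper2_OM_CNTFIX

set_option autoImplicit false

/-!
S2346 (architect helper30), assembly lemma OM-T4 (helper22): the Levi factor `T (Q|W)` acts non-trivially on the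
fixed space `X_0 = wsp 0` of the radical, for a one-level datum `LData κ f` (`κ = 0` or `n ≥ 5`).
T4 of finding 197: for `x' = E(a,b)`, `a, b` a totally singular pair of `W`,
`tr(x' | X_0) = f - q^(2m-3) ≠ f`.
-/

namespace Cfsg.Agent.Lib.Helper22_OM_T4

open Module Cfsg.Agent.Lib.Helper94_OrthSmall Cfsg.Agent.Lib.Helper44_QuadClass
  Cfsg.Agent.Lib.Helper14_OmegaSimple Cfsg.Agent.Lib.Helper38_MIODefs
  Cfsg.Agent.Lib.Helper95_OPDefs Cfsg.Agent.Lib.Helper95_OPBasic Cfsg.Agent.Lib.Helper30_OMDefs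
  Cfsg.Agent.Lib.Helper95_OPMain

variable {F V : Type*} [Field F] [Fintype F] [AddCommGroup V] [Module F V] [FiniteDimensional F V]
  {X : Type*} [AddCommGroup X] [Module ℂ X] [FiniteDimensional ℂ X]

omit [Fintype F] in
/-- splitting a level set into the fixed and the moved vectors -/
theorem card_level_split {W : Type*} [AddCommGroup W] [Module F W] [Finite W]
    (Qw : QuadraticForm F W) (a b : W) (κ : F) (P : W → Prop)
    (hP : ∀ u : W, P u ↔ QuadraticMap.polar (⇑Qw) u a = 0 ∧ QuadraticMap.polar (⇑Qw) u b = 0) :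
    Nat.card {u : W // u ≠ 0 ∧ Qw u = κ} =
      Nat.card {u : W // u ≠ 0 ∧ Qw u = κ ∧ P u} +
        Nat.card {u : W // Qw u = κ ∧ ¬ (QuadraticMap.polar (⇑Qw) u a = 0 ∧
          QuadraticMap.polar (⇑Qw) u b = 0)} := by
  classical
  have e : {u : W // u ≠ 0 ∧ Qw u = κ} ≃
      {u : W // u ≠ 0 ∧ Qw u = κ ∧ P u} ⊕
        {u : W // Qw u = κ ∧ ¬ (QuadraticMap.polar (⇑Qw) u a = 0 ∧
          QuadraticMap.polar (⇑Qw) u b = 0)} :=
    { toFun := fun u => if h : P u then Sum.inl ⟨u, u.2.1, u.2.2, h⟩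
        else Sum.inr ⟨u, u.2.2, fun h' => h ((hP u).mpr h')⟩
      invFun := fun s => match s with
        | Sum.inl u => ⟨u, u.2.1, u.2.2.1⟩
        | Sum.inr u => ⟨u, by
            intro h0
            apply u.2.2
            rw [h0]
            simp, u.2.1⟩
      left_inv := by
        intro u
        by_cases h : P u
        · simp only [h, dite_true]
        · simp only [h, dite_false]
      right_inv := by
        intro s
        cases s with
        | inl u =>
          have : P u := u.2.2.2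
          simp only [this, dite_true]
        | inr u =>
          have : ¬ P u := fun h => u.2.2 ((hP u).mp h)
          simp only [this, dite_false] }
  rw [Nat.card_congr e, Nat.card_sum]

/-- **OM-T4**: the Levi factor acts non-trivially on `X_0`. -/
theorem levi_nontrivial (Q : QuadraticForm F V) (n : ℕ) (hn : 4 ≤ n) (hM : IsMinus Q n) {v v' : V}
    (hv : Q v = 0) (hv' : Q v' = 0) (hvv' : QuadraticMap.polar (⇑Q) v v' = 1)
    (ρ : Representation ℂ ↥(T Q) X) (ψ : AddChar F ℂ) (hψ : ψ ≠ 1) (κ : F) (f : ℕ)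
    (hW : LData Q ρ ψ v v' κ f) (hk : κ = 0 ∨ 5 ≤ n) (L : LeviHom Q v v') :
    ∃ (g : ↥(T (Qp Q v v'))) (x : X), x ∈ wsp Q ρ ψ v v' 0 ∧ ρ (L.ι g) x ≠ x := by
  classical
  by_contra hcon
  push Not at hcon
  obtain ⟨q, hqdef⟩ : ∃ q, q = Fintype.card F := ⟨_, rfl⟩
  have hq2 : 2 ≤ q := by rw [hqdef]; exact Fintype.one_lt_card
  have hQ := hM.nondeg
  have hdimV : finrank F V = 2 * n := hM.dim
  have hdim5 : 5 ≤ finrank F V := by omega
  have hdim8 : 8 ≤ finrank F V := by omega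
  have hint := Cfsg.Agent.Lib.Helper69_OP_WSDEC.wsp_isInternal Q hQ hdim5 hv hv' hvv' ρ ψ hψ
  have hMW : IsMinus (Qp Q v v') (n - 1) := isMinus_perp Q n (by omega) hM hv hv' hvv'
  have hdimW : finrank F ↥(perp Q v v') = 2 * (n - 1) := hMW.dim
  have hfinW : Finite ↥(perp Q v v') := Module.finite_of_finite F
  -- the totally singular pair
  obtain ⟨a, b, ha0, hba, ha, hb, hab⟩ :=
    Cfsg.Agent.Lib.Helper60_OM_TSPAIR.exists_ts_pair_minus (Qp Q v v') (n - 1) (by omega) hMW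
  have hxW : E (Qp Q v v') a b ∈ T (Qp Q v v') := root_mem_T (Qp Q v v') ha hb hab
  have haV : Q (a : V) = 0 := ha
  have hbV : Q (b : V) = 0 := hb
  have habV : QuadraticMap.polar (⇑Q) (a : V) (b : V) = 0 := by
    rw [← polar_comp_subtype]; exact hab
  have hxV : E Q (a : V) (b : V) ∈ T Q := root_mem_T Q haV hbV habV
  have hLE := Cfsg.Agent.Lib.Helper73_OP_EXT.leviHom_E Q hQ hv hv' hvv' L a b ha hab hxW
  have hρ : ρ (L.ι ⟨E (Qp Q v v') a b, hxW⟩) = repE Q ρ (E Q (a : V) (b : V)) := by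
    rw [← repE_coe, hLE]
  have hgv : E Q (a : V) (b : V) v = v := by
    have := L.apply_v ⟨E (Qp Q v v') a b, hxW⟩
    rwa [hLE] at this
  have hφ : ∀ w : ↥(perp Q v v'),
      ((E (Qp Q v v') a b w : ↥(perp Q v v')) : V) = E Q (a : V) (b : V) (w : V) :=
    fun w => Cfsg.Agent.Lib.Helper52_MIO_RESTR.restr Q v v' a b w haV habV
  -- trivial action on `X_0`
  have htriv : ∀ x ∈ wsp Q ρ ψ v v' 0, repE Q ρ (E Q (a : V) (b : V)) x = x := by
    intro x hx
    rw [← hρ]
    exact hcon _ x hx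
  have h0 : ∀ x ∈ wsp Q ρ ψ v v' 0, repE Q ρ (E Q (a : V) (b : V)) x ∈ wsp Q ρ ψ v v' 0 := by
    intro x hx
    rw [htriv x hx]
    exact hx
  -- the fixed labels
  have hfix : ∀ u : ↥(perp Q v v'), u ≠ 0 → E (Qp Q v v') a b u = u →
      ∀ x ∈ wsp Q ρ ψ v v' u, repE Q ρ (E Q (a : V) (b : V)) x = x := by
    intro u hu0 hfixu x hx
    by_cases hQu : Qp Q v v' u = κ
    · have h1 : finrank ℂ (wsp Q ρ ψ v v' u) = 1 := hW.h1 u hu0 hQu
      obtain ⟨hua, hub⟩ := (E_fix_iff (Qp Q v v') ha0 hba ha hb hab u).mp hfixu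
      have huaV : QuadraticMap.polar (⇑Q) (u : V) (a : V) = 0 := by
        rw [← polar_comp_subtype]; exact hua
      have hubV : QuadraticMap.polar (⇑Q) (u : V) (b : V) = 0 := by
        rw [← polar_comp_subtype]; exact hub
      have hcase : (u : V) ∈ Submodule.span F {(a : V), (b : V)} ∨ 10 ≤ finrank F V := by
        by_cases h5 : 5 ≤ n
        · right
          omega
        · left
          have hn4 : n = 4 := by omega
          have hκ : κ = 0 := by
            rcases hk with hκ | h5'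
            · exact hκ
            · exact absurd h5' h5
          subst hn4
          have hu : Qp Q v v' u = 0 := by rw [hQu, hκ]
          have hmem := Cfsg.Agent.Lib.Helper8_OM_WITT2.mem_span_of_ts_minus3 (Qp Q v v') hMW a b u
            ha0 hba ha hb hab hu hua hub
          obtain ⟨s, t, hst⟩ := Submodule.mem_span_pair.mp hmem
          rw [Submodule.mem_span_pair]
          refine ⟨s, t, ?_⟩
          rw [← hst]
          simp
      obtain ⟨g₁, g₂, hg₁, hg₂, h1v, h1v', h1u, h2v, h2v', h2u, hE⟩ :=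
        Cfsg.Agent.Lib.Helper63_OM_KLAB.exists_comm_fix_all Q hQ hdim8 hv hv' hvv' (a : V) (b : V)
          (u : V) a.2 b.2 u.2 haV hbV habV huaV hubV hcase
      rw [hE]
      exact Cfsg.Agent.Lib.Helper70_OP_COMMFIX.comm_fix Q hQ hdim5 hv hv' hvv' ρ ψ u h1 g₁ g₂ hg₁ hg₂
        h1v h1v' h1u h2v h2v' h2u x hx
    · have hbot := hW.h0 u hu0 hQu
      rw [hbot, Submodule.mem_bot] at hx
      rw [hx, map_zero]
  -- the two trace formulas
  have htl := Cfsg.Agent.Lib.Helper57_OM_TRACEL.trace_levi_level Q hQ hdim5 hv hv' hvv' ρ ψ hint κ f hW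
    (E Q (a : V) (b : V)) hxV hgv (E (Qp Q v v') a b) hφ hfix h0
  have hres : (repE Q ρ (E Q (a : V) (b : V))).restrict h0 = 1 := by
    apply LinearMap.ext
    intro x
    apply Subtype.ext
    rw [LinearMap.coe_restrict_apply]
    exact htriv x x.2
  rw [hres, LinearMap.trace_one, hW.hf] at htl
  -- the value on a long root element
  have haV0 : (a : V) ≠ 0 := fun h => ha0 (Subtype.ext h)
  have hbaV : (b : V) ∉ Submodule.span F {(a : V)} := by
    intro h
    apply hba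
    obtain ⟨k, hk⟩ := Submodule.mem_span_singleton.mp h
    rw [Submodule.mem_span_singleton]
    exact ⟨k, Subtype.ext hk⟩
  obtain ⟨g, hg, w, hw0, hw, hE⟩ :=
    Cfsg.Agent.Lib.Helper61_OP_CONJ.root_conj Q hQ hdim5 hv hv' hvv' (a : V) (b : V) haV0 haV hbV habV hbaV
  have hQW := hMW.nondeg
  have hcnt : ∀ β : F, β ≠ 0 →
      Nat.card {u : ↥(perp Q v v') // Qp Q v v' u = κ ∧
        QuadraticMap.polar (⇑(Qp Q v v')) u w = β} = Fintype.card F ^ (finrank F V - 4) := by
    intro β hβ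
    rw [Cfsg.Agent.Lib.Helper58_OM_CNTRAD.card_level_polar (Qp Q v v') hQW w hw0 hw κ β hβ]
    congr 1
    omega
  have htr := Cfsg.Agent.Lib.Helper43_OM_TRACER.trace_rad_level Q hQ hdim5 hv hv' hvv' ρ ψ hψ hint κ f hW
    w hw0 hw hcnt
  rw [← trace_repE_conj Q ρ hg (rad_mem Q hQ hdim5 hv w), ← hE, htl] at htr
  -- counting
  have hsplit := card_level_split (Qp Q v v') a b κ (fun u => E (Qp Q v v') a b u = u)
    (fun u => E_fix_iff (Qp Q v v') ha0 hba ha hb hab u)
  have hnp := Cfsg.Agent.Lib.Helper2_OM_CNTFIX.card_level_not_perp (Qp Q v v') hQW a b ha0 hba ha hb hab κ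
  have hD := hW.hD
  rw [hsplit, hnp] at hD
  rw [hD, ← hqdef] at htr
  have e1 : finrank F V - 3 = (2 * n - 5) + 2 := by omega
  have e2 : finrank F ↥(perp Q v v') - 3 = 2 * n - 5 := by omega
  rw [e1, e2] at htr
  have hnat : f + Nat.card {u : ↥(perp Q v v') // u ≠ 0 ∧ Qp Q v v' u = κ ∧
      E (Qp Q v v') a b u = u} + q ^ (2 * n - 5 + 2) =
      f + (Nat.card {u : ↥(perp Q v v') // u ≠ 0 ∧ Qp Q v v' u = κ ∧
        E (Qp Q v v') a b u = u} + (q ^ 2 - 1) * q ^ (2 * n - 5)) := by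
    exact_mod_cast htr
  have hpos : 0 < q ^ (2 * n - 5) := Nat.pow_pos (by omega)
  have hq2' : 1 ≤ q ^ 2 := Nat.one_le_pow _ _ (by omega)
  have e3 : q ^ (2 * n - 5 + 2) = (q ^ 2 - 1) * q ^ (2 * n - 5) + q ^ (2 * n - 5) := by
    rw [pow_add]
    obtain ⟨B, hB⟩ : ∃ B, q ^ 2 = B + 1 := ⟨q ^ 2 - 1, by omega⟩
    rw [hB, Nat.add_sub_cancel]
    ring
  omega

end Cfsg.Agent.Lib.Helper22_OM_T4
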