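import Mathlib
import Cfsg.Agent.Lib.Helper64_OOKDefs
import Cfsg.Agent.Lib.Helper89_OP_FIXGEO
import Cfsg.Agent.Lib.Helper70_OP_COMMFIX
import Cfsg.Agent.Lib.Helper63_OP_HCOMM
import Cfsg.Agent.Lib.Helper14_Siegel

/-!
# S2344 kill section, package OO-K-TRIV (architect helper64)

The weight space of the label `c • a'` (`c ≠ 0`) is fixed pointwise by `K = Ω(⟨v,v',a,a'⟩^⊥)`, i.e. it is contained
in `KFix`.
-/

set_option autoImplicit false

namespace Cfsg.Agent.Lib.Helper22_OO_K_TRIV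

open Module Cfsg.Agent.Lib.Helper94_OrthSmall Cfsg.Agent.Lib.Helper44_QuadClass
  Cfsg.Agent.Lib.Helper14_OmegaSimple Cfsg.Agent.Lib.Helper38_MIODefs
  Cfsg.Agent.Lib.Helper95_OPDefs Cfsg.Agent.Lib.Helper95_OPBasic Cfsg.Agent.Lib.Helper48_OODefs
  Cfsg.Agent.Lib.Helper64_OOKDefs

variable {F V : Type*} [Field F] [Fintype F] [AddCommGroup V] [Module F V] [FiniteDimensional F V]
  {X : Type*} [AddCommGroup X] [Module ℂ X] [FiniteDimensional ℂ X]

/-- the singular case: `p, r ∈ W` singular, orthogonal, both orthogonal to the singular label `u`. -/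
theorem fix_sing (Q : QuadraticForm F V) (hQ : (QuadraticMap.polarBilin Q).Nondegenerate)
    (hdim : 9 ≤ finrank F V) (hq : 4 ≤ Fintype.card F) {v v' : V} (hv : Q v = 0) (hv' : Q v' = 0)
    (hvv' : QuadraticMap.polar (⇑Q) v v' = 1)
    (ρ : Representation ℂ ↥(T Q) X) (ψ : AddChar F ℂ)
    (u : ↥(perp Q v v')) (hQu : Qp Q v v' u = 0) (h1 : finrank ℂ (wsp Q ρ ψ v v' u) = 1)
    (p r : ↥(perp Q v v')) (hp : Qp Q v v' p = 0) (hr : Qp Q v v' r = 0)
    (hpr : QuadraticMap.polar (⇑(Qp Q v v')) p r = 0)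
    (hup : QuadraticMap.polar (⇑(Qp Q v v')) u p = 0)
    (hur : QuadraticMap.polar (⇑(Qp Q v v')) u r = 0)
    (x : X) (hx : x ∈ wsp Q ρ ψ v v' u) :
    repE Q ρ (E Q (p : V) (r : V)) x = x := by
  have hdim5 : 5 ≤ finrank F V := by omega
  have hdim7 : 7 ≤ finrank F V := by omega
  have hcomm : ⁅oG (⇑Q), oG (⇑Q)⁆ ≤ T Q :=
    Cfsg.Agent.Lib.Helper63_OP_HCOMM.comm_oG_le_T Q hQ hdim5
  have hpV : Q (p : V) = 0 := hp
  have hrV : Q (r : V) = 0 := hr
  have huV : Q (u : V) = 0 := hQu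
  have hprV : QuadraticMap.polar (⇑Q) (p : V) (r : V) = 0 := by
    rw [← polar_comp_subtype]; exact hpr
  have hupV : QuadraticMap.polar (⇑Q) (u : V) (p : V) = 0 := by
    rw [← polar_comp_subtype]; exact hup
  have hurV : QuadraticMap.polar (⇑Q) (u : V) (r : V) = 0 := by
    rw [← polar_comp_subtype]; exact hur
  obtain ⟨g₁, g₂, hg₁, hg₂, h1v, h1v', h1u, h2v, h2v', h2u, hE⟩ :=
    Cfsg.Agent.Lib.Helper89_OP_FIXGEO.exists_comm_fix Q hQ hdim7 hcomm hq hv hv' hvv'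
      (p : V) (r : V) (u : V) p.2 r.2 u.2 hpV hrV hprV huV hupV hurV
  rw [hE]
  exact Cfsg.Agent.Lib.Helper70_OP_COMMFIX.comm_fix Q hQ hdim5 hv hv' hvv' ρ ψ u h1 g₁ g₂ hg₁ hg₂
    h1v h1v' h1u h2v h2v' h2u x hx

theorem wsp_le_KFix (Q : QuadraticForm F V) (hQ : (QuadraticMap.polarBilin Q).Nondegenerate)
    (hdim : 9 ≤ finrank F V) (hq : 4 ≤ Fintype.card F) {v v' : V} (hv : Q v = 0) (hv' : Q v' = 0)
    (hvv' : QuadraticMap.polar (⇑Q) v v' = 1) (a a' : ↥(perp Q v v'))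
    (ha : Qp Q v v' a = 0) (ha' : Qp Q v v' a' = 0)
    (haa' : QuadraticMap.polar (⇑(Qp Q v v')) a a' = 1)
    (ρ : Representation ℂ ↥(T Q) X) (ψ : AddChar F ℂ)
    (f : ℕ) (hW : WData Q ρ ψ v v' 1 f) (c : F) (hc : c ≠ 0) :
    wsp Q ρ ψ v v' (c • a') ≤ KFix Q ρ v v' a a' := by
  intro x hx
  rw [mem_KFix]
  intro p r hpa hpa' hra hra' hp hpr
  -- the label
  have ha'0 : a' ≠ 0 := by
    intro h
    rw [h] at haa'
    simp [QuadraticMap.polar] at haa'
  have hu0 : c • a' ≠ 0 := smul_ne_zero hc ha'0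
  have hQu : Qp Q v v' (c • a') = 0 := by
    rw [QuadraticMap.map_smul, ha', smul_zero]
  have h1 : finrank ℂ (wsp Q ρ ψ v v' (c • a')) = 1 := hW.he _ hu0 hQu
  have hup : ∀ w : ↥(perp Q v v'), QuadraticMap.polar (⇑(Qp Q v v')) w a' = 0 →
      QuadraticMap.polar (⇑(Qp Q v v')) (c • a') w = 0 := by
    intro w hw
    rw [QuadraticMap.polar_smul_left, QuadraticMap.polar_comm, hw, smul_zero]
  -- the two geometric layers
  have hQW := nondegenerate_perp hQ hv hv' hvv'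
  have hdW := finrank_perp hv hv' hvv'
  have hQ2 := nondegenerate_perp hQW ha ha' haa'
  have hd2 := finrank_perp ha ha' haa'
  have hpV : Q (p : V) = 0 := hp
  have hprV : QuadraticMap.polar (⇑Q) (p : V) (r : V) = 0 := by
    rw [← polar_comp_subtype]; exact hpr
  by_cases hp0 : p = 0
  · rw [hp0]
    show repE Q ρ (E Q (0 : V) (r : V)) x = x
    rw [E_zero_left, repE_one]
    rfl
  by_cases hrp : r ∈ Submodule.span F {p}
  · obtain ⟨k, rfl⟩ := Submodule.mem_span_singleton.mp hrp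
    have h0 : QuadraticMap.polar (⇑Q) (p : V) 0 = 0 := by simp [QuadraticMap.polar]
    have := E_add_smul Q hpV h0 k
    rw [zero_add] at this
    show repE Q ρ (E Q (p : V) (k • (p : V))) x = x
    rw [this, E_zero_right Q hpV, repE_one]
    rfl
  -- inside `W₂`
  have hpm : p ∈ perp (Qp Q v v') a a' := by
    rw [mem_perp]
    exact ⟨by rw [QuadraticMap.polar_comm]; exact hpa, by rw [QuadraticMap.polar_comm]; exact hpa'⟩
  have hrm : r ∈ perp (Qp Q v v') a a' := by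
    rw [mem_perp]
    exact ⟨by rw [QuadraticMap.polar_comm]; exact hra, by rw [QuadraticMap.polar_comm]; exact hra'⟩
  have hp20 : (⟨p, hpm⟩ : ↥(perp (Qp Q v v') a a')) ≠ 0 := by
    intro h
    exact hp0 (congrArg Subtype.val h)
  have hp2 : Qp (Qp Q v v') a a' ⟨p, hpm⟩ = 0 := hp
  have hpr2 : QuadraticMap.polar (⇑(Qp (Qp Q v v') a a')) ⟨p, hpm⟩ ⟨r, hrm⟩ = 0 := by
    rw [polar_comp_subtype]; exact hpr
  have hrp2 : (⟨r, hrm⟩ : ↥(perp (Qp Q v v') a a')) ∉ Submodule.span F {(⟨p, hpm⟩ : ↥(perp (Qp Q v v') a a'))} := by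
    intro h
    apply hrp
    obtain ⟨k, hk⟩ := Submodule.mem_span_singleton.mp h
    rw [Submodule.mem_span_singleton]
    exact ⟨k, congrArg Subtype.val hk⟩
  obtain ⟨s, hs, hps, hsr⟩ := Cfsg.Agent.Lib.Helper14_Siegel.exists_singular_orth_polar (Qp (Qp Q v v') a a') hQ2 (by omega) hp20 hp2
    hpr2 hrp2 (Qp Q v v' r)
  have hsm := (mem_perp (Qp Q v v') a a').mp s.2
  have hsW : Qp Q v v' (s : ↥(perp Q v v')) = 0 := hs
  have hpsW : QuadraticMap.polar (⇑(Qp Q v v')) p (s : ↥(perp Q v v')) = 0 := by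
    rw [polar_comp_subtype] at hps; exact hps
  have hsrW : QuadraticMap.polar (⇑(Qp Q v v')) (s : ↥(perp Q v v')) r = Qp Q v v' r := by
    rw [polar_comp_subtype] at hsr; exact hsr
  have hsa : QuadraticMap.polar (⇑(Qp Q v v')) (s : ↥(perp Q v v')) a = 0 := by
    rw [QuadraticMap.polar_comm]; exact hsm.1
  have hsa' : QuadraticMap.polar (⇑(Qp Q v v')) (s : ↥(perp Q v v')) a' = 0 := by
    rw [QuadraticMap.polar_comm]; exact hsm.2
  -- `r - s`
  have hrs : Qp Q v v' (r - (s : ↥(perp Q v v'))) = 0 := by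
    rw [Cfsg.Agent.Lib.Helper14_OmegaSimple.map_sub', hsW, QuadraticMap.polar_comm, hsrW]; ring
  have hprs : QuadraticMap.polar (⇑(Qp Q v v')) p (r - (s : ↥(perp Q v v'))) = 0 := by
    rw [QuadraticMap.polar_sub_right, hpr, hpsW, sub_zero]
  have hrsa' : QuadraticMap.polar (⇑(Qp Q v v')) (r - (s : ↥(perp Q v v'))) a' = 0 := by
    rw [QuadraticMap.polar_sub_left, hra', hsa', sub_zero]
  have hsV : Q (((s : ↥(perp Q v v')) : V)) = 0 := hsW
  have hpsV : QuadraticMap.polar (⇑Q) (p : V) (((s : ↥(perp Q v v')) : V)) = 0 := by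
    rw [← polar_comp_subtype]; exact hpsW
  have hrsV : Q ((r : V) - ((s : ↥(perp Q v v')) : V)) = 0 := hrs
  have hprsV : QuadraticMap.polar (⇑Q) (p : V) ((r : V) - ((s : ↥(perp Q v v')) : V)) = 0 := by
    have := hprs
    rw [polar_comp_subtype] at this
    exact this
  have hEq : E Q (p : V) (r : V) =
      E Q (p : V) (((s : ↥(perp Q v v')) : V)) * E Q (p : V) ((r : V) - ((s : ↥(perp Q v v')) : V)) := by
    rw [E_mul Q hpV hpsV hprsV]
    congr 1; abel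
  rw [hEq, repE_mul Q ρ (root_mem_T Q hpV hsV hpsV) (root_mem_T Q hpV hrsV hprsV), Module.End.mul_apply]
  have e1 := fix_sing Q hQ hdim hq hv hv' hvv' ρ ψ (c • a') hQu h1 p (r - (s : ↥(perp Q v v'))) hp hrs hprs
    (hup p hpa') (hup _ hrsa') x hx
  have e2 := fix_sing Q hQ hdim hq hv hv' hvv' ρ ψ (c • a') hQu h1 p (s : ↥(perp Q v v')) hp hsW hpsW
    (hup p hpa') (hup _ hsa') x hx
  have e1' : repE Q ρ (E Q (p : V) ((r : V) - ((s : ↥(perp Q v v')) : V))) x = x := e1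
  rw [e1', e2]

end Cfsg.Agent.Lib.Helper22_OO_K_TRIV
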