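import Mathlib
import Cfsg.Prelude.Def_GeometricClasses
import Cfsg.Agent.Lib.Helper94_OrthGenBridge

/-!
helper32: package EV2 of helper22's market (even-dimensional orthogonal rows S5826, S5850, S5874, S5847, S5871):
`Ω(Q)` is irreducible in dimension at least 7 (any characteristic, any nondegenerate `Q`).
Abstract core (`eq_top_of_sieg_invariant`): a nonzero subspace invariant under all Siegel elements is everything
(dimension at least 5); `exists_singular_not_orth`: every nonzero vector is non-orthogonal to some singular vector.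
`sieg_symm_mem_omegaGL`: the Siegel elements, as matrices, lie in `omegaGL Q` (dimension at least 7).
-/

set_option autoImplicit false

namespace Cfsg.Agent.Lib.Helper32_OrthEven_EV2

open Module Cfsg.Agent.Lib.Helper94_Symp Cfsg.Agent.Lib.Helper94_OrthSmall
  Cfsg.Agent.Lib.Helper94_OrthSiegel Cfsg.Agent.Lib.Helper94_OrthSiegel2

section Abstract

variable {F V : Type*} [Field F] [AddCommGroup V] [Module F V]

variable (Q : V → F) (B : LinearMap.BilinForm F V)
  (hQs : ∀ (c : F) (v : V), Q (c • v) = c * c * Q v)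
  (hQp : ∀ u v : V, Q (u + v) = Q u + Q v + B u v)

include hQs hQp in
/-- a singular vector with the same product with `u₀` -/
lemma exists_singular_partner {u₀ y : V} (hu₀ : Q u₀ = 0) (hy : B u₀ y ≠ 0) :
    ∃ y' : V, Q y' = 0 ∧ B u₀ y' ≠ 0 := by
  have hyu : B y u₀ = B u₀ y := B_symm Q B hQp y u₀
  have huu : B u₀ u₀ = 0 := by rw [B_self Q B hQs hQp, hu₀, mul_zero]
  refine ⟨y + (-(Q y) / B u₀ y) • u₀, ?_, ?_⟩
  · rw [Q_add_smul Q B hQs hQp, hu₀, hyu]
    field_simp
    ring
  · rw [map_add, map_smul, huu, smul_zero, add_zero]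
    exact hy

include hQs hQp in
/-- every nonzero vector is non-orthogonal to some singular vector -/
theorem exists_singular_not_orth [Finite F] [FiniteDimensional F V] (hN : B.Nondegenerate)
    (h3 : 3 ≤ finrank F V) {w : V} (hw : w ≠ 0) : ∃ u : V, Q u = 0 ∧ B w u ≠ 0 := by
  by_contra hcon
  push Not at hcon
  have hsymm := B_symm Q B hQp
  obtain ⟨u₀, -, hu₀0, hu₀⟩ := exists_singular_in Q B hQs hQp (⊤ : Submodule F V) (by rwa [finrank_top])
  have hex : ∃ y, B u₀ y ≠ 0 := by
    by_contra h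
    push Not at h
    exact hu₀0 (hN.1 u₀ h)
  obtain ⟨y, hy⟩ := hex
  obtain ⟨y', hy', hy'u⟩ := exists_singular_partner Q B hQs hQp hu₀ hy
  have hwu₀ : B w u₀ = 0 := hcon u₀ hu₀
  have hwy' : B w y' = 0 := hcon y' hy'
  apply hw
  apply hN.1 w
  intro x
  set c : F := B u₀ x / B u₀ y' with hc
  set z : V := x - c • y' with hz
  have huz : B u₀ z = 0 := by
    rw [hz, map_sub, map_smul, smul_eq_mul, hc]
    field_simp
    ring
  have hsing : Q (sieg Q B u₀ z y') = 0 := by
    rw [sieg_mem_oG Q B hQs hQp hu₀ huz y', hy']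
  have h1 := hcon _ hsing
  rw [sieg_apply Q B hQs hQp hu₀ huz] at h1
  simp only [map_add, map_sub, map_smul, smul_eq_mul, hwy', hwu₀, mul_zero, sub_zero, zero_add] at h1
  have hy'u₀ : B y' u₀ ≠ 0 := by rw [hsymm]; exact hy'u
  have hwz : B w z = 0 := by
    rcases mul_eq_zero.mp h1 with h | h
    · exact absurd h hy'u₀
    · exact h
  have : x = z + c • y' := by rw [hz]; abel
  rw [this, map_add, map_smul, hwz, hwy', smul_zero, add_zero]

include hQs hQp in
/-- a nonzero subspace invariant under all Siegel elements is the whole space -/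
theorem eq_top_of_sieg_invariant [Finite F] [FiniteDimensional F V] (hN : B.Nondegenerate)
    (h5 : 5 ≤ finrank F V) (W : Submodule F V) (hW0 : W ≠ ⊥)
    (hinv : ∀ u z : V, Q u = 0 → B u z = 0 → ∀ w ∈ W, sieg Q B u z w ∈ W) : W = ⊤ := by
  have hsymm := B_symm Q B hQp
  have hR := B_isRefl Q B hQp
  obtain ⟨w, hwW, hw0⟩ := (Submodule.ne_bot_iff W).mp hW0
  obtain ⟨u, hu, hβ⟩ := exists_singular_not_orth Q B hQs hQp hN (by omega) hw0
  set β : F := B w u with hβdef
  have huw : B u w = β := by rw [hsymm]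
  have huu : B u u = 0 := by rw [B_self Q B hQs hQp, hu, mul_zero]
  set P : Submodule F V := B.orthogonal (Submodule.span F {u, w}) with hP
  have hPu : ∀ z ∈ P, B u z = 0 := fun z hz => (mem_orth B).mp hz u (Submodule.subset_span (by simp))
  have hPw : ∀ z ∈ P, B w z = 0 := fun z hz => (mem_orth B).mp hz w (Submodule.subset_span (by simp))
  -- step 1
  have h1 : ∀ z ∈ P, z - Q z • u ∈ W := by
    intro z hz
    have h := hinv u z hu (hPu z hz) w hwW
    rw [sieg_apply Q B hQs hQp hu (hPu z hz), hPw z hz, zero_smul, sub_zero] at h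
    have h2 : β • (z - Q z • u) ∈ W := by
      have : β • (z - Q z • u) = (w + β • z - (Q z * β) • u) - w := by module
      rw [this]
      exact W.sub_mem h hwW
    have := W.smul_mem β⁻¹ h2
    rwa [smul_smul, inv_mul_cancel₀ hβ, one_smul] at this
  -- step 2
  have h2 : ∃ z₁ ∈ P, ∃ z₂ ∈ P, B z₁ z₂ ≠ 0 := by
    by_contra hcon
    push Not at hcon
    have hle : P ≤ B.orthogonal P := fun z₂ hz₂ => (mem_orth B).mpr (fun z₁ hz₁ => hcon z₁ hz₁ z₂ hz₂)
    rw [hP, LinearMap.BilinForm.orthogonal_orthogonal hN hR] at hle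
    have hfrS : finrank F (Submodule.span F ({u, w} : Set V)) ≤ 2 := by
      classical
      have h6 := finrank_span_finset_le_card (R := F) ({u, w} : Finset V)
      have h7' : (({u, w} : Finset V) : Set V) = {u, w} := by simp
      rw [h7', Set.finrank] at h6
      have := Finset.card_le_two (a := u) (b := w)
      omega
    have hfrK := LinearMap.BilinForm.finrank_orthogonal hN (Submodule.span F {u, w})
    have := Submodule.finrank_mono hle
    omega
  obtain ⟨z₁, hz₁, z₂, hz₂, hz12⟩ := h2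
  -- step 3
  have h3 : u ∈ W := by
    have ha := h1 z₁ hz₁
    have hb := h1 z₂ hz₂
    have hc := h1 (z₁ + z₂) (P.add_mem hz₁ hz₂)
    have h4 : (B z₁ z₂) • u ∈ W := by
      have : (B z₁ z₂) • u = (z₁ - Q z₁ • u) + (z₂ - Q z₂ • u) - ((z₁ + z₂) - Q (z₁ + z₂) • u) := by
        rw [hQp z₁ z₂]; module
      rw [this]
      exact W.sub_mem (W.add_mem ha hb) hc
    have := W.smul_mem (B z₁ z₂)⁻¹ h4
    rwa [smul_smul, inv_mul_cancel₀ hz12, one_smul] at this
  -- step 4
  have h4 : P ≤ W := by
    intro z hz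
    have : z = (z - Q z • u) + Q z • u := by abel
    rw [this]
    exact W.add_mem (h1 z hz) (W.smul_mem _ h3)
  -- step 5
  rw [eq_top_iff]
  intro x _
  set b : F := B x u / β with hb
  set a : F := (B x w - b * B w w) / β with ha
  set r : V := x - a • u - b • w with hr
  have hru : B u r = 0 := by
    rw [hr, map_sub, map_sub, map_smul, map_smul, huu, huw, hsymm u x, hb]
    simp only [smul_eq_mul]
    field_simp
    ring
  have hrw : B w r = 0 := by
    rw [hr, map_sub, map_sub, map_smul, map_smul, ← hβdef, hsymm w x, ha]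
    simp only [smul_eq_mul]
    field_simp
    ring
  have hrP : r ∈ P := by
    rw [hP, mem_orth]
    intro n hn
    obtain ⟨c, d, rfl⟩ := Submodule.mem_span_pair.mp hn
    rw [map_add, map_smul, map_smul, LinearMap.add_apply, LinearMap.smul_apply, LinearMap.smul_apply, hru, hrw]
    simp
  have : x = r + a • u + b • w := by rw [hr]; abel
  rw [this]
  exact W.add_mem (W.add_mem (h4 hrP) (W.smul_mem _ h3)) (W.smul_mem _ hwW)

end Abstract

section Concrete

open Matrix Cfsg.Agent.Lib.Helper94_Bridge Cfsg.Agent.Lib.Helper94_OrthBridge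
  Cfsg.Agent.Lib.Helper94_OrthGenBridge

variable {ι : Type} [Fintype ι] [DecidableEq ι] {F : Type*} [Field F]

/-- the Siegel elements, as matrices, lie in `Ω` (dimension at least 7) -/
theorem sieg_symm_mem_omegaGL [Finite F] (Q : (ι → F) → F) (hQ : Cfsg.Geo.IsNondegenerateQuadraticForm Q)
    (hn : 7 ≤ Fintype.card ι) {u z : ι → F} (hu : Q u = 0) (huz : polarForm Q hQ u z = 0) :
    (glEquiv ι F).symm (sieg Q (polarForm Q hQ) u z) ∈ Cfsg.Geo.omegaGL Q := by
  have h1 : sieg Q (polarForm Q hQ) u z ∈ ⁅oG Q, oG Q⁆ :=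
    sieg_mem_commutator' Q (polarForm Q hQ) (gen_hQs Q hQ) (gen_hQp Q hQ) (gen_hN Q hQ)
      (by rw [Module.finrank_fintype_fun_eq_card]; exact hn) hu huz
  rw [omegaGL_eq, Subgroup.mem_comap]
  simpa using h1

/-- EV2: `Ω` is irreducible in dimension at least 7 -/
theorem EV2 [Fintype F] (Q : (ι → F) → F) (hQ : Cfsg.Geo.IsNondegenerateQuadraticForm Q)
    (hn : 7 ≤ Fintype.card ι)
    (W : Submodule F (ι → F)) (hW0 : W ≠ ⊥) (hW1 : W ≠ ⊤) :
    ¬ Cfsg.Geo.omegaGL Q ≤ Cfsg.Geo.subspaceStabilizer W := by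
  intro hle
  apply hW1
  apply eq_top_of_sieg_invariant Q (polarForm Q hQ) (gen_hQs Q hQ) (gen_hQp Q hQ) (gen_hN Q hQ)
    (by rw [Module.finrank_fintype_fun_eq_card]; omega) W hW0
  intro u z hu huz w hw
  have h3 := hle (sieg_symm_mem_omegaGL Q hQ hn hu huz)
  rw [subspaceStabilizer_eq, Subgroup.mem_comap] at h3
  have h4 : sieg Q (polarForm Q hQ) u z ∈ stab W := by simpa using h3
  exact (mem_stab.mp h4 w).mp hw

end Concrete

end Cfsg.Agent.Lib.Helper32_OrthEven_EV2
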