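import Mathlib
import Cfsg.Prelude.Def_GeometricClasses
import Cfsg.Agent.Lib.Helper22_OrthEven_Basic
import Cfsg.Agent.Lib.Helper94_OrthBridge

/-!
Package EV3 (architect helper22): over a field with at most three elements the stabiliser (in the
isometry group) of a hyperbolic plane fixes a non-singular point of it (helper35).
-/

set_option autoImplicit false

namespace Cfsg.Agent.Lib.Helper35_OrthEven_EV3

open Cfsg Cfsg.Geo Matrix Cfsg.Agent.Lib.Helper22_OrthEven_Basic
  Cfsg.Agent.Lib.Helper29_OrthOddDefs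
open scoped MatrixGroups

variable {ι : Type} [Fintype ι] [DecidableEq ι] {F : Type*} [Field F]

omit [Fintype ι] [DecidableEq ι] in
/-- `Q (x + c • a) = Q x + c² Q a + c f(x, a)` -/
theorem Q_add_smul (Q : (ι → F) → F) (hQ : IsNondegenerateQuadraticForm Q) (x a : ι → F) (c : F) :
    Q (x + c • a) = Q x + c * c * Q a + c * QuadraticMap.polar Q x a := by
  rw [Q_add Q x (c • a), hQ.smul, hQ.polar_bilinear.smul_right]
  ring

/-- a matrix in `GL` scaling `v` by a non-zero scalar stabilises the line through `v` -/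
theorem mem_stab_span_of_smul (g : GL ι F) (v : ι → F) (c : F) (hc : c ≠ 0)
    (hgv : (g : Matrix ι ι F) *ᵥ v = c • v) : g ∈ subspaceStabilizer (Submodule.span F {v}) := by
  rw [mem_subspaceStabilizer_iff]
  intro w
  constructor
  · intro hw
    obtain ⟨k, rfl⟩ := Submodule.mem_span_singleton.mp hw
    rw [Matrix.mulVec_smul, hgv]
    exact Submodule.smul_mem _ _ (Submodule.smul_mem _ _ (Submodule.mem_span_singleton_self _))
  · intro hw
    obtain ⟨k, hk⟩ := Submodule.mem_span_singleton.mp hw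
    have h1 : (g : Matrix ι ι F) *ᵥ ((k * c⁻¹) • v) = (g : Matrix ι ι F) *ᵥ w := by
      rw [Matrix.mulVec_smul, hgv, smul_smul, mul_assoc, inv_mul_cancel₀ hc, mul_one, hk]
    have hinj : Function.Injective (fun u : ι → F => (g : Matrix ι ι F) *ᵥ u) := by
      intro a b hab
      have := congrArg (fun u => ((g⁻¹ : GL ι F) : Matrix ι ι F) *ᵥ u) hab
      simp only [Matrix.mulVec_mulVec] at this
      rw [← Matrix.GeneralLinearGroup.coe_mul, inv_mul_cancel] at this
      simpa using this
    rw [← hinj h1]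
    exact Submodule.smul_mem _ _ (Submodule.mem_span_singleton_self _)

/-- EV3: over a field with at most three elements the stabiliser of a hyperbolic plane fixes a non-singular point of it -/
theorem EV3 [Fintype F] (hq : Fintype.card F ≤ 3) (Q : (ι → F) → F) (hQ : IsNondegenerateQuadraticForm Q)
    (W : Submodule F (ι → F)) (hdim : Module.finrank F W = 2)
    (hW : IsNondegenerateOn (QuadraticMap.polar Q) W) (hWp : IsPlusTypeOn Q W) :
    ∃ v ∈ W, Q v ≠ 0 ∧
      subspaceStabilizer W ⊓ isometryGroup F Q ≤ subspaceStabilizer (Submodule.span F {v}) := by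
  obtain ⟨U, hUW, hUs, hU2⟩ := hWp
  have hU1 : 0 < Module.finrank F U := by omega
  have : Nontrivial U := Module.finrank_pos_iff.mp hU1
  obtain ⟨e', he'⟩ := exists_ne (0 : U)
  set e : ι → F := (e' : ι → F) with hedef
  have heW : e ∈ W := hUW e'.2
  have he0 : e ≠ 0 := fun h => he' (Subtype.ext h)
  have hQe : Q e = 0 := hUs _ e'.2
  set B := polarBil Q hQ with hBdef
  have hBa : ∀ u v, B u v = QuadraticMap.polar Q u v := fun u v => rfl
  have hsym : ∀ u v, B u v = B v u := by
    intro u v
    rw [hBa, hBa, QuadraticMap.polar_comm]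
  have hself : ∀ a, B a a = 2 * Q a := fun a => polar_self Q hQ a
  have hQs : ∀ (c : F) (v : ι → F), Q (c • v) = c * c * Q v := by
    intro c v
    rw [hQ.smul, sq]
  have hQp : ∀ u v : ι → F, Q (u + v) = Q u + Q v + B u v := fun u v => Q_add Q u v
  have hQas : ∀ (x a : ι → F) (c : F), Q (x + c • a) = Q x + c * c * Q a + c * B x a :=
    fun x a c => Q_add_smul Q hQ x a c
  -- a hyperbolic partner of e inside W
  obtain ⟨x, hxW, hex⟩ := (hW e heW he0).2
  have hex' : B e x ≠ 0 := hex
  have hxe : B x e ≠ 0 := by rw [hsym]; exact hex'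
  have hee : B e e = 0 := by rw [hself, hQe, mul_zero]
  obtain ⟨f, hfW, hQf, hef⟩ : ∃ f ∈ W, Q f = 0 ∧ B e f = 1 := by
    refine ⟨(B e x)⁻¹ • (x + (-(Q x / B x e)) • e),
      W.smul_mem _ (W.add_mem hxW (W.smul_mem _ heW)), ?_, ?_⟩
    · rw [hQs, hQas, hQe]
      field_simp
      ring
    · rw [map_smul, map_add, map_smul, hee, smul_eq_mul, smul_eq_mul, mul_zero, add_zero,
        inv_mul_cancel₀ hex']
  have hQpp : Q (e + f) = 1 := by rw [hQp, hQe, hQf, hef]; ring
  -- coordinates in W
  have hWdec : ∀ w ∈ W, ∃ c : F, w = c • e + B e w • f := by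
    intro w hw
    set X : Submodule F (ι → F) := W ⊓ LinearMap.ker (B e) with hX
    have heX : e ∈ X := ⟨heW, by rw [SetLike.mem_coe, LinearMap.mem_ker]; exact hee⟩
    have hlt : X < W := by
      refine lt_of_le_of_ne inf_le_left ?_
      intro heq
      have hfX : f ∈ X := by rw [heq]; exact hfW
      have := hfX.2
      rw [SetLike.mem_coe, LinearMap.mem_ker, hef] at this
      exact one_ne_zero this
    have hfin : Module.finrank F X ≤ 1 := by
      have := Submodule.finrank_lt_finrank_of_lt hlt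
      omega
    obtain ⟨v0, hv0⟩ := finrank_le_one_iff.mp hfin
    obtain ⟨ce, hce⟩ := hv0 ⟨e, heX⟩
    have hce' : ce • (v0 : ι → F) = e := congrArg Subtype.val hce
    have hce0 : ce ≠ 0 := by
      rintro rfl
      rw [zero_smul] at hce'
      exact he0 hce'.symm
    have hw'X : w - B e w • f ∈ X := by
      refine ⟨W.sub_mem hw (W.smul_mem _ hfW), ?_⟩
      rw [SetLike.mem_coe, LinearMap.mem_ker, map_sub, map_smul, hef, smul_eq_mul, mul_one,
        sub_self]
    obtain ⟨c, hc⟩ := hv0 ⟨w - B e w • f, hw'X⟩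
    have hc' : c • (v0 : ι → F) = w - B e w • f := congrArg Subtype.val hc
    refine ⟨c * ce⁻¹, ?_⟩
    have hv0e : (v0 : ι → F) = ce⁻¹ • e := by
      rw [← hce', smul_smul, inv_mul_cancel₀ hce0, one_smul]
    rw [hv0e, smul_smul] at hc'
    rw [hc']
    abel
  have hF := Cfsg.Agent.Lib.Helper94_OrthBridge.small_field hq
  refine ⟨e + f, W.add_mem heW hfW, by rw [hQpp]; exact one_ne_zero, ?_⟩
  rintro g ⟨hgW, hgI⟩
  have hgQ := (mem_isometryGroup_iff Q g).mp hgI
  have hgp : (g : Matrix ι ι F) *ᵥ (e + f) ∈ W :=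
    ((mem_subspaceStabilizer_iff W g).mp hgW _).mp (W.add_mem heW hfW)
  obtain ⟨c, hc⟩ := hWdec _ hgp
  have hq1 : Q ((g : Matrix ι ι F) *ᵥ (e + f)) = 1 := by rw [hgQ, hQpp]
  rw [hc, hQp, hQs, hQs, hQe, hQf, map_smul, map_smul, LinearMap.smul_apply, hef] at hq1
  have hcd : c * B e ((g : Matrix ι ι F) *ᵥ (e + f)) = 1 := by
    simp only [smul_eq_mul] at hq1
    linear_combination hq1
  have hceq : B e ((g : Matrix ι ι F) *ᵥ (e + f)) = c := by
    rcases hF c with h | h | h
    · rw [h, zero_mul] at hcd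
      exact absurd hcd zero_ne_one
    · rw [h, one_mul] at hcd
      rw [hcd, h]
    · rw [h] at hcd
      rw [h]
      linear_combination -hcd
  have hc0 : c ≠ 0 := by
    rintro rfl
    rw [zero_mul] at hcd
    exact zero_ne_one hcd
  apply mem_stab_span_of_smul g (e + f) c hc0
  rw [hc, hceq, ← smul_add]

end Cfsg.Agent.Lib.Helper35_OrthEven_EV3
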