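import Mathlib
import Cfsg.Prelude.Def_GeometricClasses
import Cfsg.Agent.Lib.Helper94_Bridge

set_option autoImplicit false

/-!
Membership in the subfield group of `GL(ι, F)` in terms of the rational structure spanned by the
columns of the change of basis; the fixed field of the Frobenius involution of a quadratic
extension.
-/

namespace Cfsg.Agent.Lib.Helper94_SubfieldBridge

open Matrix Cfsg.Agent.Lib.Helper94_Bridge

variable {ι : Type} [Fintype ι] [DecidableEq ι] {F : Type*} [Field F]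

/-- The additive group of the vectors `P u` with `u` having entries in the subfield. -/
def ratV (F₀ : Subfield F) (P : Matrix ι ι F) : AddSubgroup (ι → F) where
  carrier := {x | ∃ u : ι → F, (∀ i, u i ∈ F₀) ∧ x = P *ᵥ u}
  zero_mem' := ⟨0, fun _ => F₀.zero_mem, by simp⟩
  add_mem' := by
    rintro _ _ ⟨u, hu, rfl⟩ ⟨v, hv, rfl⟩
    exact ⟨u + v, fun i => F₀.add_mem (hu i) (hv i), by rw [Matrix.mulVec_add]⟩
  neg_mem' := by
    rintro _ ⟨u, hu, rfl⟩
    exact ⟨-u, fun i => F₀.neg_mem (hu i), by rw [Matrix.mulVec_neg]⟩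

lemma mem_ratV {F₀ : Subfield F} {P : Matrix ι ι F} {x : ι → F} :
    x ∈ ratV F₀ P ↔ ∃ u : ι → F, (∀ i, u i ∈ F₀) ∧ x = P *ᵥ u := Iff.rfl

lemma mulVec_rat {F₀ : Subfield F} (Y : Matrix ι ι F₀) {u : ι → F} (hu : ∀ i, u i ∈ F₀) (i : ι) :
    ((Y.map F₀.subtype) *ᵥ u) i ∈ F₀ := by
  simp only [Matrix.mulVec, dotProduct, Matrix.map_apply]
  exact F₀.sum_mem fun j _ => F₀.mul_mem (Y i j).2 (hu j)

theorem mem_subfieldSubgroup_iff (F₀ : Subfield F) (P A : GL ι F) :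
    A ∈ Cfsg.Geo.subfieldSubgroup F₀ P ↔
      ∃ μ : F, μ ≠ 0 ∧ ∀ v ∈ ratV F₀ (P : Matrix ι ι F), ∃ w ∈ ratV F₀ (P : Matrix ι ι F),
        (A : Matrix ι ι F) *ᵥ v = μ • w := by
  have hPP : ((P⁻¹ : GL ι F) : Matrix ι ι F) * (P : Matrix ι ι F) = 1 := by
    rw [← Units.val_mul, inv_mul_cancel, Units.val_one]
  have hPP' : (P : Matrix ι ι F) * ((P⁻¹ : GL ι F) : Matrix ι ι F) = 1 := by
    rw [← Units.val_mul, mul_inv_cancel, Units.val_one]
  constructor
  · rintro ⟨X, hX, rfl⟩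
    obtain ⟨Y, ⟨Y₀, rfl⟩, Z, hZ, rfl⟩ := Subgroup.mem_sup_of_normal_right.mp hX
    obtain ⟨c, hc⟩ := (Cfsg.Geo.mem_scalars_iff Z).mp hZ
    refine ⟨c, c.ne_zero, ?_⟩
    rintro _ ⟨u, hu, rfl⟩
    refine ⟨(P : Matrix ι ι F) *ᵥ (((Y₀ : Matrix ι ι F₀).map F₀.subtype) *ᵥ u),
      ⟨_, mulVec_rat _ hu, rfl⟩, ?_⟩
    have h1 : (((MulAut.conj P).toMonoidHom (Matrix.GeneralLinearGroup.map F₀.subtype Y₀ * Z) :
        GL ι F) : Matrix ι ι F) * (P : Matrix ι ι F) =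
        (P : Matrix ι ι F) * (((Y₀ : Matrix ι ι F₀).map F₀.subtype) * ((c : F) • 1)) := by
      rw [← hc]
      simp only [MulEquiv.toMonoidHom_eq_coe, MonoidHom.coe_coe, MulAut.conj_apply]
      rw [← Units.val_mul, inv_mul_cancel_right, Units.val_mul, Units.val_mul]
      rfl
    rw [Matrix.mulVec_mulVec, h1, ← Matrix.mulVec_mulVec, ← Matrix.mulVec_mulVec,
      Matrix.smul_mulVec, Matrix.one_mulVec, Matrix.mulVec_smul, Matrix.mulVec_smul]
  · rintro ⟨μ, hμ, h⟩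
    -- the matrix D = μ⁻¹ P⁻¹ A P has entries in F₀
    obtain ⟨D, hD⟩ : ∃ D : Matrix ι ι F, D = μ⁻¹ • (((P⁻¹ : GL ι F) : Matrix ι ι F) *
        (A : Matrix ι ι F) * (P : Matrix ι ι F)) := ⟨_, rfl⟩
    have hDu : ∀ u : ι → F, (∀ i, u i ∈ F₀) → ∀ i, (D *ᵥ u) i ∈ F₀ := by
      intro u hu
      obtain ⟨w, ⟨u', hu', rfl⟩, hw⟩ := h _ ⟨u, hu, rfl⟩
      have : D *ᵥ u = u' := by
        rw [hD, Matrix.smul_mulVec, ← Matrix.mulVec_mulVec, ← Matrix.mulVec_mulVec, hw,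
          Matrix.mulVec_smul, Matrix.mulVec_mulVec, hPP, Matrix.one_mulVec, smul_smul,
          inv_mul_cancel₀ hμ, one_smul]
      rw [this]
      exact hu'
    have hDij : ∀ i j, D i j ∈ F₀ := by
      intro i j
      have := hDu (Pi.single j 1) (fun k => by
        by_cases hk : k = j
        · subst hk; simp [F₀.one_mem]
        · simp [Pi.single_eq_of_ne hk, F₀.zero_mem]) i
      simpa using this
    obtain ⟨D₀, hD₀⟩ : ∃ D₀ : Matrix ι ι F₀, D₀ = fun i j => ⟨D i j, hDij i j⟩ := ⟨_, rfl⟩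
    have hmap : D₀.map F₀.subtype = D := by
      ext i j
      rw [hD₀]
      rfl
    have hdetD : D.det ≠ 0 := by
      rw [hD, Matrix.det_smul, Matrix.det_mul, Matrix.det_mul]
      refine mul_ne_zero (pow_ne_zero _ (inv_ne_zero hμ)) (mul_ne_zero (mul_ne_zero ?_ ?_) ?_)
      · exact (Matrix.isUnit_iff_isUnit_det _).mp (Units.isUnit _) |>.ne_zero
      · exact (Matrix.isUnit_iff_isUnit_det _).mp (Units.isUnit _) |>.ne_zero
      · exact (Matrix.isUnit_iff_isUnit_det _).mp (Units.isUnit _) |>.ne_zero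
    have hdetD₀ : D₀.det ≠ 0 := by
      intro h0
      apply hdetD
      rw [← hmap, ← RingHom.mapMatrix_apply, ← RingHom.map_det, h0, map_zero]
    let Y₀ : GL ι F₀ := Matrix.GeneralLinearGroup.mkOfDetNeZero D₀ hdetD₀
    let Z : GL ι F := Units.map (Matrix.scalar ι : F →+* Matrix ι ι F).toMonoidHom (Units.mk0 μ hμ)
    have hZ : Z ∈ Cfsg.Geo.scalars ι F := ⟨Units.mk0 μ hμ, rfl⟩
    have hZc : (Z : Matrix ι ι F) = μ • (1 : Matrix ι ι F) := by
      simp [Z, Matrix.smul_one_eq_diagonal]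
    have hYc : ((Matrix.GeneralLinearGroup.map F₀.subtype Y₀ : GL ι F) : Matrix ι ι F) = D := by
      rw [← hmap]
      rfl
    refine ⟨Matrix.GeneralLinearGroup.map F₀.subtype Y₀ * Z,
      Subgroup.mul_mem _ (Subgroup.mem_sup_left ⟨Y₀, rfl⟩) (Subgroup.mem_sup_right hZ), ?_⟩
    apply Units.ext
    simp only [MulEquiv.toMonoidHom_eq_coe, MonoidHom.coe_coe, MulAut.conj_apply]
    rw [Units.val_mul, Units.val_mul, Units.val_mul, hYc, hZc, hD]
    rw [Matrix.mul_smul, Matrix.mul_one, smul_smul, mul_inv_cancel₀ hμ, one_smul]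
    rw [← Matrix.mul_assoc, ← Matrix.mul_assoc, hPP', Matrix.one_mul, Matrix.mul_assoc, hPP',
      Matrix.mul_one]

end Cfsg.Agent.Lib.Helper94_SubfieldBridge
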