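/-
Helper library (helper94), package EV11 of helper22's even-dimensional orthogonal market: `Ω(Q)` lies in
no subfield group (dimension at least 7, finite field, any characteristic).
-/
import Mathlib
import Cfsg.Prelude.Def_GeometricClasses
import Cfsg.Agent.Lib.Helper94_OrthGenBridge
import Cfsg.Agent.Lib.Helper94_SubfieldBridge

set_option autoImplicit false

namespace Cfsg.Agent.Lib.Helper94_OrthEven_EV11

open Cfsg Cfsg.Geo Matrix
open Cfsg.Agent.Lib.Helper94_Bridge Cfsg.Agent.Lib.Helper94_OrthSmall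
  Cfsg.Agent.Lib.Helper94_OrthBridge Cfsg.Agent.Lib.Helper94_OrthSiegel
  Cfsg.Agent.Lib.Helper94_OrthSiegel2 Cfsg.Agent.Lib.Helper94_OrthGenBridge
  Cfsg.Agent.Lib.Helper94_SubfieldBridge
open scoped MatrixGroups

variable {ι : Type} [Fintype ι] [DecidableEq ι] {F : Type*} [Field F]

section rat

variable (F₁ : Subfield F) (P : GL ι F)

lemma ratV_smul {c : F} (hc : c ∈ F₁) {v : ι → F} (hv : v ∈ ratV F₁ (P : Matrix ι ι F)) :
    c • v ∈ ratV F₁ (P : Matrix ι ι F) := by
  obtain ⟨a, ha, rfl⟩ := hv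
  exact ⟨c • a, fun i => F₁.mul_mem hc (ha i), by rw [Matrix.mulVec_smul]⟩

lemma mem_of_smul_mem {c : F} {v : ι → F} (hv : v ∈ ratV F₁ (P : Matrix ι ι F)) (hv0 : v ≠ 0)
    (hcv : c • v ∈ ratV F₁ (P : Matrix ι ι F)) : c ∈ F₁ := by
  obtain ⟨a, ha, rfl⟩ := hv
  obtain ⟨b, hb, hab⟩ := hcv
  have hPP : ((P⁻¹ : GL ι F) : Matrix ι ι F) * (P : Matrix ι ι F) = 1 := by
    rw [← Units.val_mul, inv_mul_cancel, Units.val_one]
  have h1 : c • a = b := by
    have := congrArg (fun t => ((P⁻¹ : GL ι F) : Matrix ι ι F) *ᵥ t) hab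
    rw [← Matrix.mulVec_smul, Matrix.mulVec_mulVec, Matrix.mulVec_mulVec, hPP,
      Matrix.one_mulVec, Matrix.one_mulVec] at this
    exact this
  have ha0 : a ≠ 0 := by
    rintro rfl
    apply hv0
    simp
  obtain ⟨i, hi⟩ : ∃ i, a i ≠ 0 := by
    by_contra h
    push Not at h
    exact ha0 (funext h)
  have h2 : c * a i = b i := by
    have := congrFun h1 i
    simpa using this
  have : c = b i * (a i)⁻¹ := by rw [← h2, mul_assoc, mul_inv_cancel₀ hi, mul_one]
  rw [this]
  exact F₁.mul_mem (hb i) (F₁.inv_mem (ha i))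

lemma single_mem (j : ι) : (P : Matrix ι ι F) *ᵥ Pi.single j 1 ∈ ratV F₁ (P : Matrix ι ι F) := by
  refine ⟨Pi.single j 1, fun k => ?_, rfl⟩
  by_cases hk : k = j
  · subst hk; simp [F₁.one_mem]
  · simp [Pi.single_eq_of_ne hk, F₁.zero_mem]

end rat

/-- EV11: `Ω` lies in no subfield group -/
theorem EV11 [Fintype F] (Q : (ι → F) → F) (hQ : IsNondegenerateQuadraticForm Q) (hn : 7 ≤ Fintype.card ι)
    (F₁ : Subfield F) (hF₁ : F₁ ≠ ⊤) (P : GL ι F) : ¬ omegaGL Q ≤ subfieldSubgroup F₁ P := by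
  intro hle
  have hQs := gen_hQs Q hQ
  have hQp := gen_hQp Q hQ
  have hN := gen_hN Q hQ
  have hfr : Module.finrank F (ι → F) = Fintype.card ι := Module.finrank_fintype_fun_eq_card F
  have hsymm := B_symm Q (polarForm Q hQ) hQp
  -- Step 1: Siegel elements preserve V₀ up to a scalar
  have hS : ∀ u z : ι → F, Q u = 0 → polarForm Q hQ u z = 0 →
      ∃ μ : F, μ ≠ 0 ∧ ∀ v ∈ ratV F₁ (P : Matrix ι ι F), ∃ w ∈ ratV F₁ (P : Matrix ι ι F),
        sieg Q (polarForm Q hQ) u z v = μ • w := by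
    intro u z hu huz
    have hg : sieg Q (polarForm Q hQ) u z ∈ ⁅oG Q, oG Q⁆ :=
      sieg_mem_commutator' Q (polarForm Q hQ) hQs hQp hN (by rw [hfr]; exact hn) hu huz
    have hA : (glEquiv ι F).symm (sieg Q (polarForm Q hQ) u z) ∈ omegaGL Q := by
      rw [omegaGL_eq, Subgroup.mem_comap]
      simpa using hg
    obtain ⟨μ, hμ, h⟩ := (mem_subfieldSubgroup_iff F₁ P _).1 (hle hA)
    refine ⟨μ, hμ, fun v hv => ?_⟩
    obtain ⟨w, hw, he⟩ := h v hv
    refine ⟨w, hw, ?_⟩
    rw [← he, ← glEquiv_apply]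
    simp
  -- powers of Siegel elements
  have hpow : ∀ u z : ι → F, Q u = 0 → polarForm Q hQ u z = 0 → ∀ k : ℕ,
      (sieg Q (polarForm Q hQ) u z) ^ k = sieg Q (polarForm Q hQ) u (k • z) := by
    intro u z hu huz k
    induction k with
    | zero => rw [pow_zero, zero_smul, sieg_zero_right Q _ hQs hQp hu]
    | succ k ih =>
      rw [pow_succ, ih, sieg_mul Q _ hQs hQp hu (by rw [map_nsmul, huz, smul_zero]) huz,
        succ_nsmul]
  -- a nonzero element of V₀
  have hne : Nonempty ι := by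
    rw [← Fintype.card_pos_iff]; omega
  obtain ⟨j₀⟩ := hne
  have hPinj : ∀ a : ι → F, (P : Matrix ι ι F) *ᵥ a = 0 → a = 0 := by
    intro a ha
    have hPP : ((P⁻¹ : GL ι F) : Matrix ι ι F) * (P : Matrix ι ι F) = 1 := by
      rw [← Units.val_mul, inv_mul_cancel, Units.val_one]
    have := congrArg (fun t => ((P⁻¹ : GL ι F) : Matrix ι ι F) *ᵥ t) ha
    rw [Matrix.mulVec_mulVec, hPP, Matrix.one_mulVec, Matrix.mulVec_zero] at this
    exact this
  have hv₀ : (P : Matrix ι ι F) *ᵥ Pi.single j₀ 1 ≠ 0 := by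
    intro h
    have := congrFun (hPinj _ h) j₀
    simp at this
  -- Step 2: Siegel elements preserve V₀
  have hS' : ∀ u z : ι → F, Q u = 0 → polarForm Q hQ u z = 0 →
      ∀ v ∈ ratV F₁ (P : Matrix ι ι F), sieg Q (polarForm Q hQ) u z v ∈ ratV F₁ (P : Matrix ι ι F) := by
    intro u z hu huz
    obtain ⟨μ, hμ, h⟩ := hS u z hu huz
    have hk : ∀ k : ℕ, ∀ v ∈ ratV F₁ (P : Matrix ι ι F), ∃ w ∈ ratV F₁ (P : Matrix ι ι F),
        ((sieg Q (polarForm Q hQ) u z) ^ k) v = μ ^ k • w := by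
      intro k
      induction k with
      | zero => intro v hv; exact ⟨v, hv, by simp⟩
      | succ k ih =>
        intro v hv
        obtain ⟨w, hw, he⟩ := ih v hv
        obtain ⟨w', hw', he'⟩ := h w hw
        refine ⟨w', hw', ?_⟩
        rw [pow_succ', LinearEquiv.mul_apply, he, map_smul, he', smul_smul, pow_succ]
    have hq : (sieg Q (polarForm Q hQ) u z) ^ (Fintype.card F) = 1 := by
      rw [hpow u z hu huz, ← Nat.cast_smul_eq_nsmul F, Nat.cast_card_eq_zero, zero_smul,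
        sieg_zero_right Q _ hQs hQp hu]
    obtain ⟨w, hw, he⟩ := hk (Fintype.card F) _ (single_mem F₁ P j₀)
    rw [hq] at he
    replace he : (P : Matrix ι ι F) *ᵥ Pi.single j₀ 1 = μ ^ Fintype.card F • w := he
    rw [FiniteField.pow_card] at he
    have hw0 : w ≠ 0 := by
      rintro rfl
      rw [smul_zero] at he
      exact hv₀ he
    have hμ1 : μ ∈ F₁ := mem_of_smul_mem F₁ P hw hw0 (by rw [← he]; exact single_mem F₁ P j₀)
    intro v hv
    obtain ⟨w', hw', he'⟩ := h v hv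
    rw [he']
    exact ratV_smul F₁ P hμ1 hw'
  -- a nonzero singular vector
  obtain ⟨u, -, hu0, hu⟩ := exists_singular_in Q (polarForm Q hQ) hQs hQp (⊤ : Submodule F (ι → F))
    (by rw [finrank_top, hfr]; omega)
  -- x ∈ V₀ with B x u ≠ 0
  obtain ⟨j, hj⟩ : ∃ j, polarForm Q hQ ((P : Matrix ι ι F) *ᵥ Pi.single j 1) u ≠ 0 := by
    by_contra hcon
    push Not at hcon
    have hzero : (polarForm Q hQ u).comp (Matrix.toLin' (P : Matrix ι ι F)) = 0 := by
      apply LinearMap.pi_ext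
      intro i c
      have : (Pi.single i c : ι → F) = c • Pi.single i 1 := by
        ext k
        by_cases hk : k = i
        · subst hk; simp
        · simp [Pi.single_eq_of_ne hk]
      rw [this, map_smul, LinearMap.comp_apply, Matrix.toLin'_apply, hsymm,
        hcon i, smul_zero, LinearMap.zero_apply]
    have hall : ∀ y : ι → F, polarForm Q hQ y u = 0 := by
      intro y
      have hPP' : (P : Matrix ι ι F) * ((P⁻¹ : GL ι F) : Matrix ι ι F) = 1 := by
        rw [← Units.val_mul, mul_inv_cancel, Units.val_one]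
      have := LinearMap.congr_fun hzero (((P⁻¹ : GL ι F) : Matrix ι ι F) *ᵥ y)
      rw [LinearMap.comp_apply, Matrix.toLin'_apply, Matrix.mulVec_mulVec, hPP',
        Matrix.one_mulVec, LinearMap.zero_apply] at this
      rw [hsymm]
      exact this
    exact hu0 (hN.2 u hall)
  obtain ⟨x, hx, hxdef⟩ : ∃ x : ι → F, x ∈ ratV F₁ (P : Matrix ι ι F) ∧
      x = (P : Matrix ι ι F) *ᵥ Pi.single j 1 := ⟨_, single_mem F₁ P j, rfl⟩
  rw [← hxdef] at hj
  -- the orthogonal complement of ⟨u, x⟩ is not totally isotropic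
  obtain ⟨z₁, z₂, hz₁u, hz₁x, hz₂u, hz₂x, hz12⟩ : ∃ z₁ z₂ : ι → F,
      polarForm Q hQ u z₁ = 0 ∧ polarForm Q hQ x z₁ = 0 ∧ polarForm Q hQ u z₂ = 0 ∧
      polarForm Q hQ x z₂ = 0 ∧ polarForm Q hQ z₁ z₂ ≠ 0 := by
    by_contra hcon
    push Not at hcon
    have hR := B_isRefl Q (polarForm Q hQ) hQp
    have hfrS : Module.finrank F (Submodule.span F ({u, x} : Set (ι → F))) ≤ 2 := by
      classical
      have h6 := finrank_span_finset_le_card (R := F) ({u, x} : Finset (ι → F))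
      have h7' : (({u, x} : Finset (ι → F)) : Set (ι → F)) = {u, x} := by simp
      rw [h7', Set.finrank] at h6
      have := Finset.card_le_two (a := u) (b := x)
      omega
    have hfrM := LinearMap.BilinForm.finrank_orthogonal hN
      (Submodule.span F ({u, x} : Set (ι → F)))
    have hfrMM := LinearMap.BilinForm.finrank_orthogonal hN
      ((polarForm Q hQ).orthogonal (Submodule.span F ({u, x} : Set (ι → F))))
    have hMle : (polarForm Q hQ).orthogonal (Submodule.span F ({u, x} : Set (ι → F))) ≤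
        (polarForm Q hQ).orthogonal
          ((polarForm Q hQ).orthogonal (Submodule.span F ({u, x} : Set (ι → F)))) := by
      intro z₂ hz₂
      rw [LinearMap.BilinForm.mem_orthogonal_iff]
      intro z₁ hz₁
      rw [LinearMap.BilinForm.mem_orthogonal_iff] at hz₁ hz₂
      have a1 := hz₁ u (Submodule.subset_span (by simp))
      have a2 := hz₁ x (Submodule.subset_span (by simp))
      have b1 := hz₂ u (Submodule.subset_span (by simp))
      have b2 := hz₂ x (Submodule.subset_span (by simp))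
      exact hcon z₁ z₂ a1 a2 b1 b2
    have := Submodule.finrank_mono hMle
    rw [hfr] at hfrM hfrMM
    omega
  -- φ(z) ∈ V₀
  have hφ : ∀ z : ι → F, polarForm Q hQ u z = 0 → polarForm Q hQ x z = 0 →
      (polarForm Q hQ x u) • (z - Q z • u) ∈ ratV F₁ (P : Matrix ι ι F) := by
    intro z hzu hzx
    have h1 := hS' u z hu hzu x hx
    have h2 := (ratV F₁ (P : Matrix ι ι F)).sub_mem h1 hx
    rw [sieg_apply Q _ hQs hQp hu hzu, hzx] at h2
    have : x + (polarForm Q hQ x u) • z - (0 : F) • u - (Q z * (polarForm Q hQ x u)) • u - x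
        = (polarForm Q hQ x u) • (z - Q z • u) := by module
    rw [this] at h2
    exact h2
  -- all multiples of u' = (β B z₁ z₂) u lie in V₀
  have hmult : ∀ c : F, (c * (polarForm Q hQ x u * polarForm Q hQ z₁ z₂)) • u
      ∈ ratV F₁ (P : Matrix ι ι F) := by
    intro c
    have hcz₁u : polarForm Q hQ u (c • z₁) = 0 := by rw [map_smul, hz₁u, smul_zero]
    have hcz₁x : polarForm Q hQ x (c • z₁) = 0 := by rw [map_smul, hz₁x, smul_zero]
    have a1 := hφ (c • z₁ + z₂) (by rw [map_add, hcz₁u, hz₂u, add_zero])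
      (by rw [map_add, hcz₁x, hz₂x, add_zero])
    have a2 := hφ (c • z₁) hcz₁u hcz₁x
    have a3 := hφ z₂ hz₂u hz₂x
    have a4 := (ratV F₁ (P : Matrix ι ι F)).neg_mem
      ((ratV F₁ (P : Matrix ι ι F)).sub_mem ((ratV F₁ (P : Matrix ι ι F)).sub_mem a1 a2) a3)
    have e1 : Q (c • z₁ + z₂) = Q (c • z₁) + Q z₂ + c * polarForm Q hQ z₁ z₂ := by
      rw [hQp, map_smul, LinearMap.smul_apply, smul_eq_mul]
    have : -((polarForm Q hQ x u) • (c • z₁ + z₂ - Q (c • z₁ + z₂) • u)
        - (polarForm Q hQ x u) • (c • z₁ - Q (c • z₁) • u)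
        - (polarForm Q hQ x u) • (z₂ - Q z₂ • u))
        = (c * (polarForm Q hQ x u * polarForm Q hQ z₁ z₂)) • u := by
      rw [e1]
      module
    rw [this] at a4
    exact a4
  have hγ : polarForm Q hQ x u * polarForm Q hQ z₁ z₂ ≠ 0 := mul_ne_zero hj hz12
  have hu' : (polarForm Q hQ x u * polarForm Q hQ z₁ z₂) • u ∈ ratV F₁ (P : Matrix ι ι F) := by
    have := hmult 1
    rwa [one_mul] at this
  have hu'0 : (polarForm Q hQ x u * polarForm Q hQ z₁ z₂) • u ≠ 0 := smul_ne_zero hγ hu0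
  apply hF₁
  rw [eq_top_iff]
  intro c _
  apply mem_of_smul_mem F₁ P hu' hu'0
  rw [smul_smul]
  exact hmult c

end Cfsg.Agent.Lib.Helper94_OrthEven_EV11
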