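/-
helper22: shared steps of the even-dimensional orthogonal rows (S5826, S5850, S5874, S5847, S5871):
the normal form of the reducible case and the case of a quasisimple absolutely irreducible normal subgroup.
-/
import Mathlib
import Cfsg.Agent.Lib.Helper22_OrthEven_Basic
import Cfsg.Agent.Lib.Helper22_OrthEven_EV15
import Cfsg.Agent.Lib.Helper29_OrthOdd_Glue
import Cfsg.Agent.Lib.Helper32_OrthEven_EV2
import Cfsg.Agent.Lib.Helper35_OrthEven_EV3
import Cfsg.Agent.Lib.Helper47_OrthEven_EV9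
import Cfsg.Agent.Lib.Helper94_OrthEven_EV11

set_option autoImplicit false

namespace Cfsg.Agent.Lib.Helper22_OrthEven_Core

open Cfsg Cfsg.Geo Matrix Cfsg.Agent.Lib.Helper98_AschDefs Cfsg.Agent.Lib.Helper23_FormDefs
  Cfsg.Agent.Lib.Helper29_OrthOddDefs Cfsg.Agent.Lib.Helper22_OrthEven_Basic
open scoped MatrixGroups

variable {ι : Type} [Fintype ι] [DecidableEq ι] {F : Type*} [Field F]

/-- the reducible case with the orthogonal complement kept -/
theorem EV1x [Fintype F] (Q : (ι → F) → F) (hQ : IsNondegenerateQuadraticForm Q) (H : Subgroup (GL ι F))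
    (hHI : H ≤ isometryGroup F Q) (hred : ¬ ActsIrreducibly (matrixSet H)) :
    (∃ W : Submodule F (ι → F), W ≠ ⊥ ∧ IsTotallySingularQuad Q W ∧ H ≤ subspaceStabilizer W) ∨
    (∃ W W' : Submodule F (ι → F), W ≠ ⊥ ∧ W' ≠ ⊥ ∧ W ⊓ W' = ⊥ ∧ W ⊔ W' = ⊤ ∧
        AreOrthogonalFor (QuadraticMap.polar Q) W W' ∧ AreOrthogonalFor (QuadraticMap.polar Q) W' W ∧
        IsNondegenerateOn (QuadraticMap.polar Q) W ∧ IsNondegenerateOn (QuadraticMap.polar Q) W' ∧
        Module.finrank F W ≤ Module.finrank F W' ∧ H ≤ subspaceStabilizer W ∧ H ≤ subspaceStabilizer W') ∨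
    ((2 : F) = 0 ∧ ∃ v : ι → F, Q v ≠ 0 ∧ H ≤ subspaceStabilizer (Submodule.span F {v})) := by
  classical
  unfold ActsIrreducibly at hred
  push Not at hred
  obtain ⟨W, hWinv, hW0, hW1⟩ := hred
  have hinv : ∀ h ∈ H, W.map (Matrix.toLin' (h : Matrix ι ι F)) ≤ W :=
    fun h hh => hWinv _ ⟨h, hh, rfl⟩
  rcases Cfsg.Agent.Lib.Helper70_Form_F1.F1 (RingEquiv.refl F) (QuadraticMap.polar Q)
      (isSesq_of_bilinear hQ.polar_bilinear) hQ.nondegenerate (isRefl_polar Q) H (fixesForm_polar Q H hHI)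
      W hW0 hW1 hinv with ⟨U, hU0, hUts, hHU⟩ | h
  · -- totally isotropic for the polar form
    by_cases h2 : (2 : F) = 0
    swap
    · left
      refine ⟨U, hU0, ?_, hHU⟩
      intro u hu
      have h := hUts u hu u hu
      rw [polar_self Q hQ] at h
      exact (mul_eq_zero.mp h).resolve_left h2
    · -- characteristic 2: the singular vectors of `U` form a subspace
      have hadd : ∀ u ∈ U, ∀ v ∈ U, Q (u + v) = Q u + Q v := by
        intro u hu v hv
        rw [Q_add Q u v, hUts u hu v hv, add_zero]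
      let U₀ : Submodule F (ι → F) :=
        { carrier := {u | u ∈ U ∧ Q u = 0}
          add_mem' := by
            rintro a b ⟨ha, ha0⟩ ⟨hb, hb0⟩
            exact ⟨U.add_mem ha hb, by rw [hadd a ha b hb, ha0, hb0, add_zero]⟩
          zero_mem' := ⟨U.zero_mem, Q_zero Q hQ⟩
          smul_mem' := by
            rintro c a ⟨ha, ha0⟩
            exact ⟨U.smul_mem c ha, by rw [hQ.smul, ha0, mul_zero]⟩ }
      have hU₀mem : ∀ u, u ∈ U₀ ↔ u ∈ U ∧ Q u = 0 := fun u => Iff.rfl
      by_cases hU₀ : U₀ = ⊥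
      swap
      · left
        refine ⟨U₀, hU₀, fun u hu => ((hU₀mem u).mp hu).2, ?_⟩
        intro g hg
        rw [mem_subspaceStabilizer_iff]
        intro v
        have hgU := (mem_subspaceStabilizer_iff U g).mp (hHU hg) v
        have hgQ := (mem_isometryGroup_iff Q g).mp (hHI hg) v
        rw [hU₀mem, hU₀mem, hgQ, hgU]
      · right; right
        refine ⟨h2, ?_⟩
        obtain ⟨u, hu, hu0⟩ := Submodule.exists_mem_ne_zero_of_ne_bot hU0
        have hQu : Q u ≠ 0 := by
          intro h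
          have : u ∈ U₀ := ⟨hu, h⟩
          rw [hU₀] at this
          exact hu0 ((Submodule.mem_bot F).mp this)
        have hspan : U = Submodule.span F {u} := by
          apply le_antisymm
          · intro v hv
            -- choose c with c * c = Q v / Q u
            have hchar : ringChar F = 2 := by
              have hd : ringChar F ∣ 2 := by
                apply ringChar.dvd
                exact_mod_cast h2
              rcases (Nat.dvd_prime Nat.prime_two).mp hd with h1 | h1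
              · exact absurd h1 (CharP.ringChar_ne_one)
              · exact h1
            obtain ⟨c, hc⟩ := FiniteField.isSquare_of_char_two hchar (Q v / Q u)
            have hmem : v + c • u ∈ U₀ := by
              refine ⟨U.add_mem hv (U.smul_mem c hu), ?_⟩
              rw [hadd v hv _ (U.smul_mem c hu), hQ.smul, sq, ← hc, div_mul_cancel₀ _ hQu]
              have : Q v + Q v = 2 * Q v := by ring
              rw [this, h2, zero_mul]
            rw [hU₀, Submodule.mem_bot] at hmem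
            rw [Submodule.mem_span_singleton]
            refine ⟨-c, ?_⟩
            rw [neg_smul]
            exact (eq_neg_of_add_eq_zero_left hmem).symm
          · rw [Submodule.span_singleton_le_iff_mem]; exact hu
        refine ⟨u, hQu, ?_⟩
        rw [← hspan]; exact hHU
  · exact Or.inr (Or.inl h)


/-- **The reducible case** of a maximal subgroup of `Ω`, in normal form. -/
theorem reducible_cases [Fintype F] (hn : 7 ≤ Fintype.card ι) (Q : (ι → F) → F)
    (hQ : IsNondegenerateQuadraticForm Q) (H : Subgroup (GL ι F)) (hH : IsMaximalIn (omegaGL Q) H)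
    (hred : ¬ ActsIrreducibly (matrixSet H)) :
    (∃ W : Submodule F (ι → F), W ≠ ⊥ ∧ IsTotallySingularQuad Q W ∧ H = subspaceStabilizer W ⊓ omegaGL Q) ∨
    (Odd (Fintype.card F) ∧ ∃ W : Submodule F (ι → F), W ≠ ⊥ ∧ W ≠ ⊤ ∧ Odd (Module.finrank F W) ∧
        2 * Module.finrank F W ≤ Fintype.card ι ∧ IsNondegenerateOn (QuadraticMap.polar Q) W ∧
        H = subspaceStabilizer W ⊓ omegaGL Q ∧
        (2 * Module.finrank F W = Fintype.card ι → ∃ W' : Submodule F (ι → F),
          W' ≠ ⊥ ∧ W ⊓ W' = ⊥ ∧ W ⊔ W' = ⊤ ∧ AreOrthogonalFor (QuadraticMap.polar Q) W W' ∧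
          AreOrthogonalFor (QuadraticMap.polar Q) W' W ∧ IsNondegenerateOn (QuadraticMap.polar Q) W' ∧
          Module.finrank F W' = Module.finrank F W ∧ H ≤ subspaceStabilizer W')) ∨
    (∃ W : Submodule F (ι → F), Module.finrank F W = 2 ∧ IsNondegenerateOn (QuadraticMap.polar Q) W ∧
        ¬ IsPlusTypeOn Q W ∧ H = subspaceStabilizer W ⊓ omegaGL Q) ∨
    (4 ≤ Fintype.card F ∧ ∃ W : Submodule F (ι → F), Module.finrank F W = 2 ∧
        IsNondegenerateOn (QuadraticMap.polar Q) W ∧ IsPlusTypeOn Q W ∧ H = subspaceStabilizer W ⊓ omegaGL Q) ∨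
    (∃ W : Submodule F (ι → F), Even (Module.finrank F W) ∧ 4 ≤ Module.finrank F W ∧
        2 * Module.finrank F W ≤ Fintype.card ι ∧ IsNondegenerateOn (QuadraticMap.polar Q) W ∧
        H = subspaceStabilizer W ⊓ omegaGL Q) ∨
    (¬ Odd (Fintype.card F) ∧ ∃ v : ι → F, Q v ≠ 0 ∧
        H = subspaceStabilizer (Submodule.span F {v}) ⊓ omegaGL Q) := by
  classical
  have : Nonempty ι := Fintype.card_pos_iff.mp (by omega)
  have hHΩ : H ≤ omegaGL Q := hH.1.le
  have hHI : H ≤ isometryGroup F Q := hHΩ.trans (omegaGL_le Q)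
  have hglue := fun (M : Subgroup (GL ι F)) (hHM : H ≤ M) (hΩM : ¬ omegaGL Q ≤ M) =>
    eq_of_maximal hH hHM hΩM
  have hEV2 := Cfsg.Agent.Lib.Helper32_OrthEven_EV2.EV2 Q hQ hn
  -- the non-singular vector case
  have hvec : ∀ v : ι → F, Q v ≠ 0 → H ≤ subspaceStabilizer (Submodule.span F {v}) →
      H = subspaceStabilizer (Submodule.span F {v}) ⊓ omegaGL Q := by
    intro v hv hHv
    obtain ⟨hs0, hs1⟩ := span_singleton_ne (F := F) (by omega : 2 ≤ Fintype.card ι) (ne_zero_of_Q_ne Q hQ hv)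
    exact hglue _ hHv (hEV2 _ hs0 hs1)
  rcases EV1x Q hQ H hHI hred with ⟨W, hW0, hWts, hHW⟩ |
    ⟨W, W', hW0, hW'0, hdisj, hsup, ho, ho', hWnd, hW'nd, hle, hHW, hHW'⟩ | ⟨h2, v, hv, hHv⟩
  · exact Or.inl ⟨W, hW0, hWts, hglue _ hHW (hEV2 W hW0 (ts_ne_top Q hQ W hWts))⟩
  · have hW1 : W ≠ ⊤ := by
      rintro rfl
      rw [top_inf_eq] at hdisj
      exact hW'0 hdisj
    have hsum : Module.finrank F W + Module.finrank F W' = Fintype.card ι := by
      have h := Submodule.finrank_sup_add_finrank_inf_eq W W'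
      rw [hsup, hdisj, finrank_top, finrank_bot, add_zero, Module.finrank_fintype_fun_eq_card] at h
      exact h.symm
    have hHeq := hglue _ hHW (hEV2 W hW0 hW1)
    have hpos : 0 < Module.finrank F W := by
      rw [Nat.pos_iff_ne_zero]
      intro h
      exact hW0 (Submodule.finrank_eq_zero.mp h)
    rcases Nat.even_or_odd (Module.finrank F W) with hev | hodd
    · by_cases h2 : Module.finrank F W = 2
      · by_cases hp : IsPlusTypeOn Q W
        · by_cases hq : 4 ≤ Fintype.card F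
          · exact Or.inr (Or.inr (Or.inr (Or.inl ⟨hq, W, h2, hWnd, hp, hHeq⟩)))
          · obtain ⟨v, hvW, hv, hle'⟩ :=
              Cfsg.Agent.Lib.Helper35_OrthEven_EV3.EV3 (by omega) Q hQ W h2 hWnd hp
            have hHv : H ≤ subspaceStabilizer (Submodule.span F {v}) := (le_inf hHW hHI).trans hle'
            have hHeq' := hvec v hv hHv
            by_cases h2F : (2 : F) = 0
            · exact Or.inr (Or.inr (Or.inr (Or.inr (Or.inr
                ⟨not_odd_card_of_two_eq_zero h2F, v, hv, hHeq'⟩))))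
            · obtain ⟨hs0, hs1⟩ := span_singleton_ne (F := F) (by omega : 2 ≤ Fintype.card ι)
                (ne_zero_of_Q_ne Q hQ hv)
              have hvnd := nondegenerateOn_span_singleton Q hQ h2F hv
              have hfr1 : Module.finrank F (Submodule.span F {v}) = 1 :=
                finrank_span_singleton (ne_zero_of_Q_ne Q hQ hv)
              refine Or.inr (Or.inl ⟨odd_card_of_two_ne_zero h2F, Submodule.span F {v}, hs0, hs1, ?_, ?_,
                hvnd, hHeq', ?_⟩)
              · rw [hfr1]; exact odd_one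
              · rw [hfr1]; omega
              · intro h
                rw [hfr1] at h
                omega
        · exact Or.inr (Or.inr (Or.inl ⟨W, h2, hWnd, hp, hHeq⟩))
      · have h4 : 4 ≤ Module.finrank F W := by
          obtain ⟨j, hj⟩ := hev
          omega
        exact Or.inr (Or.inr (Or.inr (Or.inr (Or.inl ⟨W, hev, h4, by omega, hWnd, hHeq⟩))))
    · have h2F : (2 : F) ≠ 0 := by
        intro h2
        exact (Nat.not_even_iff_odd.mpr hodd) (EV14 Q hQ h2 W hWnd)
      exact Or.inr (Or.inl ⟨odd_card_of_two_ne_zero h2F, W, hW0, hW1, hodd, by omega, hWnd, hHeq,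
        fun h => ⟨W', hW'0, hdisj, hsup, ho, ho', hW'nd, by omega, hHW'⟩⟩)
  · exact Or.inr (Or.inr (Or.inr (Or.inr (Or.inr
      ⟨not_odd_card_of_two_eq_zero h2, v, hv, hvec v hv hHv⟩))))


/-- a subfield of prime index is proper -/
theorem subfield_ne_top [Fintype F] (F₁ : Subfield F) (r : ℕ) (hr : r.Prime)
    (hc : Fintype.card F = Nat.card F₁ ^ r) : F₁ ≠ ⊤ := by
  rintro rfl
  have h1 : Nat.card (⊤ : Subfield F) = Fintype.card F := by
    rw [← Nat.card_eq_fintype_card]
    exact Nat.card_congr (Subfield.topEquiv (K := F)).toEquiv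
  rw [h1] at hc
  have h2 : 1 < Fintype.card F := Fintype.one_lt_card
  have h3 : Fintype.card F ^ 1 = Fintype.card F ^ r := by rw [pow_one]; exact hc
  have := Nat.pow_right_injective h2 h3
  exact hr.one_lt.ne this

/-- **The quasisimple case**: the minimal normal subgroup `N` is perfect, absolutely irreducible, with `N` modulo scalars
simple: subfield class or residual class. -/
theorem perfect_one_case [Fintype F] (hn : 7 ≤ Fintype.card ι) (Q : (ι → F) → F)
    (hQ : IsNondegenerateQuadraticForm Q) (H : Subgroup (GL ι F)) (hH : IsMaximalIn (omegaGL Q) H)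
    (N : Subgroup (GL ι F)) (hNH : N ≤ H) (hnorm : NormalizesGrp H N) (hNZ : ¬ N ≤ scalars ι F)
    (hperf : ⁅N, N⁆ = N) (hspan : spanAlg N = ⊤)
    (hsimple : ∀ T : Subgroup (GL ι F), T ≤ N → NormalizesGrp N T → T = N ∨ T ≤ scalars ι F) :
    (∃ (F₁ : Subfield F) (r : ℕ) (P : GL ι F) (ζ : F), r.Prime ∧ Fintype.card F = Nat.card F₁ ^ r ∧ ζ ≠ 0 ∧
      IsQuadFormRationalStructure (fun v : ι → F => ζ * Q v) F₁ P ∧
      H = subfieldSubgroup F₁ P ⊓ omegaGL Q) ∨
    InOrthogonalResidualClass H := by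
  classical
  have hHΩ : H ≤ omegaGL Q := hH.1.le
  have hHI : H ≤ isometryGroup F Q := hHΩ.trans (omegaGL_le Q)
  have hNI : N ≤ isometryGroup F Q := hNH.trans hHI
  by_cases hreal : ∃ F₀ : Subfield F, F₀ ≠ ⊤ ∧ RealisableOver F₀ (matrixSet N)
  · left
    obtain ⟨F₀, hF₀, hr⟩ := hreal
    obtain ⟨F₁, r, P', ζ, hrp, hcF, hζ, hrat, hHle⟩ :=
      Cfsg.Agent.Lib.Helper47_OrthEven_EV9.EV9 Q hQ (by omega) H N hHI hNH hnorm hspan F₀ hF₀ hr
    have hF₁ : F₁ ≠ ⊤ := subfield_ne_top F₁ r hrp hcF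
    exact ⟨F₁, r, P', ζ, hrp, hcF, hζ, hrat,
      eq_of_maximal hH hHle (Cfsg.Agent.Lib.Helper94_OrthEven_EV11.EV11 Q hQ hn F₁ hF₁ P')⟩
  · right
    have hnr : ∀ F₀ : Subfield F, F₀ ≠ ⊤ → ¬ RealisableOver F₀ (matrixSet N) :=
      fun F₀ hF₀ hr => hreal ⟨F₀, hF₀, hr⟩
    refine ⟨N, Cfsg.Agent.Lib.Helper29_OrthOdd_Glue.OP8 H N hNH hnorm hNZ hperf hspan hsimple hnr, ?_⟩
    rintro ⟨σ, f, hf', hNf⟩
    exact hreal (Cfsg.Agent.Lib.Helper22_OrthEven_EV15.EV15 N hspan Q hQ (fixesQuadForm_of_le Q N hNI)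
      σ f hf' hNf)

end Cfsg.Agent.Lib.Helper22_OrthEven_Core
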