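import Mathlib
import Cfsg.Agent.Lib.Helper98_AschDefs

/-!
# Package PK3 of S5630 (helper98's cut): tensor basis for pairwise commuting copies of `M_m(F)`
generating the whole matrix algebra.
-/

set_option autoImplicit false

namespace Cfsg.Agent.Lib.Helper54_Asch_PK3

open Cfsg Cfsg.Geo Matrix Cfsg.Agent.Lib.Helper98_AschDefs

section abstract

variable {R : Type*} [Ring R] {κ : Type*} [DecidableEq κ] {μ : Type*} [DecidableEq μ]
  (E : κ → μ → μ → R)
  (hE3 : ∀ i j, i ≠ j → ∀ a b c d, Commute (E i a b) (E j c d))

omit [DecidableEq κ] [DecidableEq μ] in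
include hE3 in
lemma pw (s : Finset κ) (x y : κ → μ) :
    (s : Set κ).Pairwise (Function.onFun Commute fun i => E i (x i) (y i)) :=
  fun i _ j _ hij => hE3 i j hij _ _ _ _

/-- the product over `s` of the matrix units `E i (x i) (y i)` -/
def U (s : Finset κ) (x y : κ → μ) : R :=
  s.noncommProd (fun i => E i (x i) (y i)) (pw E hE3 s x y)

omit [DecidableEq κ] [DecidableEq μ] in
lemma U_empty (x y : κ → μ) : U E hE3 ∅ x y = 1 :=
  Finset.noncommProd_empty _ _

omit [DecidableEq μ] in
lemma U_insert {s : Finset κ} {a : κ} (ha : a ∉ s) (x y : κ → μ) :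
    U E hE3 (insert a s) x y = E a (x a) (y a) * U E hE3 s x y := by
  unfold U
  rw [Finset.noncommProd_insert_of_notMem _ _ _ _ ha]

omit [DecidableEq κ] [DecidableEq μ] in
lemma U_congr {s : Finset κ} {x y x' y' : κ → μ} (hx : ∀ i ∈ s, x i = x' i)
    (hy : ∀ i ∈ s, y i = y' i) : U E hE3 s x y = U E hE3 s x' y' := by
  unfold U
  apply Finset.noncommProd_congr rfl
  intro i hi
  rw [hx i hi, hy i hi]

omit [DecidableEq μ] in
lemma U_erase {s : Finset κ} {a : κ} (ha : a ∈ s) (x y : κ → μ) :
    E a (x a) (y a) * U E hE3 (s.erase a) x y = U E hE3 s x y := by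
  unfold U
  exact Finset.mul_noncommProd_erase s ha (fun i => E i (x i) (y i)) _

omit [DecidableEq κ] [DecidableEq μ] in
lemma commute_U {s : Finset κ} {c : R} (hc : ∀ i ∈ s, ∀ a b, Commute c (E i a b)) (x y : κ → μ) :
    Commute c (U E hE3 s x y) := by
  unfold U
  apply Finset.noncommProd_commute
  intro i hi
  exact hc i hi _ _

variable (hE1 : ∀ i a b c d, E i a b * E i c d = if b = c then E i a d else 0)

include hE1 in
lemma U_mul (s : Finset κ) (x y z w : κ → μ) :
    U E hE3 s x y * U E hE3 s z w = if ∀ i ∈ s, y i = z i then U E hE3 s x w else 0 := by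
  induction s using Finset.induction_on with
  | empty => simp [U_empty]
  | insert a s ha ih =>
    rw [U_insert E hE3 ha, U_insert E hE3 ha, U_insert E hE3 ha]
    have hcomm : Commute (U E hE3 s x y) (E a (z a) (w a)) := by
      apply Commute.symm
      apply commute_U
      intro i hi b c
      exact hE3 a i (fun h => ha (h ▸ hi)) _ _ _ _
    calc E a (x a) (y a) * U E hE3 s x y * (E a (z a) (w a) * U E hE3 s z w)
        = E a (x a) (y a) * (U E hE3 s x y * E a (z a) (w a)) * U E hE3 s z w := by
          simp only [mul_assoc]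
      _ = E a (x a) (y a) * (E a (z a) (w a) * U E hE3 s x y) * U E hE3 s z w := by
          rw [hcomm.eq]
      _ = (E a (x a) (y a) * E a (z a) (w a)) * (U E hE3 s x y * U E hE3 s z w) := by
          simp only [mul_assoc]
      _ = _ := by
          rw [hE1, ih]
          simp only [Finset.forall_mem_insert]
          by_cases h1 : y a = z a
          · by_cases h2 : ∀ i ∈ s, y i = z i
            · simp [h1]
            · simp [h2]
          · simp [h1]

include hE1 in
lemma E_mul_U {s : Finset κ} {i : κ} (hi : i ∈ s) (a b : μ) (x y : κ → μ) :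
    E i a b * U E hE3 s x y =
      if b = x i then U E hE3 s (Function.update x i a) y else 0 := by
  rw [← U_erase E hE3 hi x y, ← mul_assoc, hE1]
  split_ifs with h
  · rw [← U_erase E hE3 hi (Function.update x i a) y]
    congr 1
    · simp
    · apply U_congr
      · intro j hj
        rw [Function.update_of_ne (Finset.ne_of_mem_erase hj)]
      · intro j hj; rfl
  · simp

variable [Fintype μ] (hE2 : ∀ i, ∑ a, E i a a = 1)

include hE1 hE2 in
lemma mul_U_ne_zero (o : μ) (s : Finset κ) : ∀ c : R, c ≠ 0 →
    (∀ i ∈ s, ∀ a b, Commute c (E i a b)) → c * U E hE3 s (fun _ => o) (fun _ => o) ≠ 0 := by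
  induction s using Finset.induction_on with
  | empty => intro c hc _; simpa [U_empty] using hc
  | insert a s ha ih =>
    intro c hc hcomm
    rw [U_insert E hE3 ha, ← mul_assoc]
    apply ih
    · intro h0
      apply hc
      have : ∀ b, c * E a b b = 0 := by
        intro b
        have h1 : E a b b = E a b o * E a o o * E a o b := by
          rw [hE1, if_pos rfl, hE1, if_pos rfl]
        have h2 : Commute c (E a b o) := hcomm a (Finset.mem_insert_self _ _) _ _
        rw [h1, ← mul_assoc, ← mul_assoc, h2.eq, mul_assoc (E a b o), h0]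
        simp
      calc c = c * ∑ b, E a b b := by rw [hE2, mul_one]
        _ = 0 := by rw [Finset.mul_sum]; simp [this]
    · intro i hi b d
      apply Commute.mul_left
      · exact hcomm i (Finset.mem_insert_of_mem hi) _ _
      · exact hE3 a i (fun h => ha (h ▸ hi)) _ _ _ _

end abstract

section concrete

variable {ι : Type} [Fintype ι] [DecidableEq ι] {F : Type*} [Field F]
variable {k m : ℕ} (φ : Fin k → (Matrix (Fin m) (Fin m) F →ₐ[F] Matrix ι ι F))

/-- the images of the matrix units -/
def EE (i : Fin k) (a b : Fin m) : Matrix ι ι F := φ i (Matrix.single a b 1)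

lemma EE_mul (i : Fin k) (a b c d : Fin m) :
    EE φ i a b * EE φ i c d = if b = c then EE φ i a d else 0 := by
  unfold EE
  rw [← map_mul]
  split_ifs with h
  · subst h; rw [Matrix.single_mul_single_same, mul_one]
  · rw [Matrix.single_mul_single_of_ne _ _ _ _ h, map_zero]

lemma EE_sum (i : Fin k) : ∑ a, EE φ i a a = 1 := by
  unfold EE; rw [← map_sum, Matrix.sum_single_one, map_one]

lemma phi_eq_sum (i : Fin k) (M : Matrix (Fin m) (Fin m) F) :
    φ i M = ∑ a, ∑ b, M a b • EE φ i a b := by
  conv_lhs => rw [Matrix.matrix_eq_sum_single M]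
  simp only [map_sum, EE]
  refine Finset.sum_congr rfl fun a _ => Finset.sum_congr rfl fun b _ => ?_
  rw [← map_smul, Matrix.smul_single, smul_eq_mul, mul_one]

/-- the key construction: a family of vectors indexed by `Fin k → Fin m` on which the matrix units
act in the standard way, linearly independent and spanning -/
lemma exists_tensor_basis [Nonempty ι] (hm : 0 < m)
    (hcomm : ∀ i j, i ≠ j → ∀ M M', φ i M * φ j M' = φ j M' * φ i M)
    (hgen : Algebra.adjoin F (⋃ i, Set.range (φ i)) = ⊤) :
    ∃ b : (Fin k → Fin m) → (ι → F), LinearIndependent F b ∧ ⊤ ≤ Submodule.span F (Set.range b) ∧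
      ∀ i a c x, EE φ i a c *ᵥ b x = if c = x i then b (Function.update x i a) else 0 := by
  classical
  have hE3 : ∀ i j, i ≠ j → ∀ a b c d, Commute (EE φ i a b) (EE φ j c d) :=
    fun i j hij a b c d => hcomm i j hij _ _
  have hE1 := EE_mul φ
  have hE2 := EE_sum φ
  set o : Fin m := ⟨0, hm⟩ with ho
  set z : Fin k → Fin m := fun _ => o with hz
  have hTT : ∀ x y z' w : Fin k → Fin m,
      U (EE φ) hE3 Finset.univ x y * U (EE φ) hE3 Finset.univ z' w =
        if y = z' then U (EE φ) hE3 Finset.univ x w else 0 := by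
    intro x y z' w
    rw [U_mul (EE φ) hE3 hE1 Finset.univ x y z' w]
    by_cases h : y = z'
    · subst h; simp
    · rw [if_neg h, if_neg]
      intro h'
      exact h (funext fun i => h' i (Finset.mem_univ i))
  have hp : U (EE φ) hE3 Finset.univ z z ≠ 0 := by
    have := mul_U_ne_zero (EE φ) hE3 hE1 hE2 o Finset.univ 1 one_ne_zero
      (fun i _ a b => Commute.one_left _)
    simpa using this
  obtain ⟨u0, hu0⟩ : ∃ u0 : ι → F, U (EE φ) hE3 Finset.univ z z *ᵥ u0 ≠ 0 := by
    by_contra h
    push Not at h
    apply hp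
    ext i j
    have := congrFun (h (Pi.single j 1)) i
    simpa using this
  set v0 := U (EE φ) hE3 Finset.univ z z *ᵥ u0 with hv0
  have hpv0 : U (EE φ) hE3 Finset.univ z z *ᵥ v0 = v0 := by
    rw [hv0, Matrix.mulVec_mulVec, hTT, if_pos rfl]
  have hact : ∀ i a c x, EE φ i a c *ᵥ (U (EE φ) hE3 Finset.univ x z *ᵥ v0) =
      if c = x i then U (EE φ) hE3 Finset.univ (Function.update x i a) z *ᵥ v0 else 0 := by
    intro i a c x
    rw [Matrix.mulVec_mulVec, E_mul_U (EE φ) hE3 hE1 (Finset.mem_univ i) a c x z]
    split_ifs <;> simp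
  refine ⟨fun x => U (EE φ) hE3 Finset.univ x z *ᵥ v0, ?_, ?_, hact⟩
  · -- independence
    rw [Fintype.linearIndependent_iff]
    intro g hg y
    have h1 := congrArg (fun w => U (EE φ) hE3 Finset.univ z y *ᵥ w) hg
    simp only [Matrix.mulVec_sum, Matrix.mulVec_smul, Matrix.mulVec_mulVec, hTT,
      Matrix.mulVec_zero] at h1
    have h2 : ∀ x, g x • (if y = x then U (EE φ) hE3 Finset.univ z z else 0) *ᵥ v0 =
        if y = x then g x • v0 else 0 := by
      intro x
      split_ifs with h
      · rw [hpv0]
      · simp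
    simp only [h2, Finset.sum_ite_eq, Finset.mem_univ, if_true] at h1
    rcases smul_eq_zero.mp h1 with h | h
    · exact h
    · exact absurd h hu0
  · -- spanning
    set W := Submodule.span F (Set.range fun x => U (EE φ) hE3 Finset.univ x z *ᵥ v0) with hW
    have hEW : ∀ i a c, ∀ w ∈ W, EE φ i a c *ᵥ w ∈ W := by
      intro i a c w hw
      induction hw using Submodule.span_induction with
      | mem w hw =>
        obtain ⟨x, rfl⟩ := hw
        show EE φ i a c *ᵥ (U (EE φ) hE3 Finset.univ x z *ᵥ v0) ∈ W
        rw [hact]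
        split_ifs
        · exact Submodule.subset_span ⟨_, rfl⟩
        · exact W.zero_mem
      | zero => rw [Matrix.mulVec_zero]; exact W.zero_mem
      | add u v _ _ hu hv => rw [Matrix.mulVec_add]; exact W.add_mem hu hv
      | smul r u _ hu => rw [Matrix.mulVec_smul]; exact W.smul_mem r hu
    have hMW : ∀ M : Matrix ι ι F, ∀ w ∈ W, M *ᵥ w ∈ W := by
      intro M
      have hM : M ∈ Algebra.adjoin F (⋃ i, Set.range (φ i)) := by rw [hgen]; trivial
      induction hM using Algebra.adjoin_induction with
      | mem M hM =>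
        obtain ⟨i, hi⟩ := Set.mem_iUnion.mp hM
        obtain ⟨N, rfl⟩ := hi
        intro w hw
        rw [phi_eq_sum, Matrix.sum_mulVec]
        refine W.sum_mem fun a _ => ?_
        rw [Matrix.sum_mulVec]
        refine W.sum_mem fun c _ => ?_
        rw [Matrix.smul_mulVec]
        exact W.smul_mem _ (hEW i a c w hw)
      | algebraMap r =>
        intro w hw
        rw [Algebra.algebraMap_eq_smul_one, Matrix.smul_mulVec, Matrix.one_mulVec]
        exact W.smul_mem r hw
      | add M N _ _ hM hN =>
        intro w hw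
        rw [Matrix.add_mulVec]
        exact W.add_mem (hM w hw) (hN w hw)
      | mul M N _ _ hM hN =>
        intro w hw
        rw [← Matrix.mulVec_mulVec]
        exact hM _ (hN w hw)
    have hv0W : v0 ∈ W := by
      rw [← hpv0]
      exact Submodule.subset_span ⟨z, rfl⟩
    have hv0ne : v0 ≠ 0 := hu0
    obtain ⟨j, hj⟩ : ∃ j, v0 j ≠ 0 := by
      by_contra h
      push Not at h
      exact hv0ne (funext h)
    intro w _
    have : (Matrix.of fun r c => if c = j then w r * (v0 j)⁻¹ else 0) *ᵥ v0 = w := by
      ext r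
      simp [Matrix.mulVec, dotProduct, hj]
    rw [← this]
    exact hMW _ _ hv0W

end concrete

variable {ι : Type} [Fintype ι] [DecidableEq ι] {F : Type*} [Field F]

/-- PK3: tensor basis for pairwise commuting copies of `M_m(F)` generating the whole matrix algebra -/
theorem PK3 [Nonempty ι] (k m : ℕ) (hm : 0 < m) (φ : Fin k → (Matrix (Fin m) (Fin m) F →ₐ[F] Matrix ι ι F))
    (hcomm : ∀ i j, i ≠ j → ∀ M M', φ i M * φ j M' = φ j M' * φ i M)
    (hgen : Algebra.adjoin F (⋃ i, Set.range (φ i)) = ⊤) :
    ∃ (e : ι ≃ (Fin k → Fin m)) (P : GL ι F), ∀ i M,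
      φ i M = (P : Matrix ι ι F) * Matrix.reindex e.symm e.symm (factorMat k m i M) * ((P⁻¹ : GL ι F) : Matrix ι ι F) := by
  classical
  obtain ⟨b, hli, hsp, hact⟩ := exists_tensor_basis φ hm hcomm hgen
  let B : Module.Basis (Fin k → Fin m) F (ι → F) := Module.Basis.mk hli hsp
  let e : ι ≃ (Fin k → Fin m) := (Pi.basisFun F ι).indexEquiv B
  set Pm : Matrix ι ι F := Matrix.of fun r j => b (e j) r with hPm
  have hunit : IsUnit Pm := by
    rw [← Matrix.linearIndependent_cols_iff_isUnit]
    have : Pm.col = b ∘ e := by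
      ext j r
      simp [hPm, Matrix.col]
    rw [this]
    exact hli.comp e e.injective
  refine ⟨e, hunit.unit, ?_⟩
  intro i M
  have hcol : ∀ x, φ i M *ᵥ b x = ∑ a, M a (x i) • b (Function.update x i a) := by
    intro x
    rw [phi_eq_sum, Matrix.sum_mulVec]
    refine Finset.sum_congr rfl fun a _ => ?_
    rw [Matrix.sum_mulVec]
    simp only [Matrix.smul_mulVec, hact, smul_ite, smul_zero]
    rw [Finset.sum_ite_eq' ]
    simp
  have hmain : φ i M * Pm = Pm * Matrix.reindex e.symm e.symm (factorMat k m i M) := by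
    ext r j
    have hL : (φ i M * Pm) r j = (φ i M *ᵥ b (e j)) r := by
      simp [Matrix.mul_apply, Matrix.mulVec, dotProduct, hPm]
    have hR : (Pm * Matrix.reindex e.symm e.symm (factorMat k m i M)) r j =
        ∑ y, b y r * factorMat k m i M y (e j) := by
      rw [Matrix.mul_apply, ← Equiv.sum_comp e]
      simp [hPm]
    rw [hL, hR, hcol]
    set x := e j with hx
    have hfilter : (Finset.univ.filter fun y : Fin k → Fin m => ∀ j', j' ≠ i → y j' = x j') =
        Finset.univ.image (Function.update x i) := by
      ext y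
      simp only [Finset.mem_filter, Finset.mem_univ, true_and, Finset.mem_image]
      constructor
      · intro hy
        refine ⟨y i, ?_⟩
        ext j'
        by_cases h : j' = i
        · subst h; simp
        · rw [Function.update_of_ne h, hy j' h]
      · rintro ⟨a, rfl⟩ j' hj'
        rw [Function.update_of_ne hj']
    have h1 : ∑ y, b y r * factorMat k m i M y x =
        ∑ y ∈ Finset.univ.filter (fun y : Fin k → Fin m => ∀ j', j' ≠ i → y j' = x j'),
          b y r * M (y i) (x i) := by
      rw [Finset.sum_filter]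
      refine Finset.sum_congr rfl fun y _ => ?_
      unfold factorMat
      split_ifs <;> simp
    rw [h1, hfilter, Finset.sum_image (fun a _ a' _ h => Function.update_injective x i h)]
    simp only [Finset.sum_apply, Pi.smul_apply, smul_eq_mul, Function.update_self]
    refine Finset.sum_congr rfl fun a _ => ?_
    ring
  calc φ i M = φ i M * (Pm * ((hunit.unit⁻¹ : GL ι F) : Matrix ι ι F)) := by
        have : Pm * ((hunit.unit⁻¹ : GL ι F) : Matrix ι ι F) = 1 := by
          have := Units.mul_inv hunit.unit
          simpa using this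
        rw [this, mul_one]
    _ = _ := by
        rw [← mul_assoc, hmain]
        rfl

end Cfsg.Agent.Lib.Helper54_Asch_PK3
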