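/-
helper22: package EV23 of the even-dimensional orthogonal rows: at least two commuting conjugate factors force the
dimension to be a proper power `d ^ k`.  This is the first half of helper54's proof of PKP2 (Helper54_Asch_PKP2.PKP2_aux),
copied up to the construction of the tensor power basis `e : Fin n ≃ (Fin k → Fin d)`.
-/
import Mathlib
import Cfsg.Agent.Lib.Helper54_Asch_PKP2

set_option autoImplicit false
set_option linter.unusedVariables false
set_option linter.style.haveILetI false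

namespace Cfsg.Agent.Lib.Helper22_OrthEven_EV23

open Cfsg Cfsg.Geo Matrix Cfsg.Agent.Lib.Helper98_AschDefs Cfsg.Agent.Lib.Helper54_Asch_PKP2
open scoped Kronecker

variable {F : Type*} [Field F]

/-- the Clifford trichotomy for `spanAlg (S i0)` as a hypothesis -/
theorem EV23_aux [Fintype F] (n : ℕ) (hn : 3 ≤ n) (H N : Subgroup (GL (Fin n) F)) (hspan : spanAlg N = ⊤)
    (k : ℕ) (hk : 2 ≤ k) (S : Fin k → Subgroup (GL (Fin n) F)) (hSN : ∀ i, S i ≤ N)
    (hSnorm : ∀ i, NormalizesGrp N (S i)) (hSZ : ∀ i, ¬ S i ≤ scalars (Fin n) F)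
    (hcomm : ∀ i j, i ≠ j → ∀ x ∈ S i, ∀ y ∈ S j, x * y = y * x) (hsup : ⨆ i, S i = N)
    (htrans : ∀ i j, ∃ h ∈ H, ∀ x, x ∈ S i ↔ h * x * h⁻¹ ∈ S j)
    (i0 : Fin k)
    (hcl : (∃ (t m : ℕ) (D : Fin t → Submodule F (Fin n → F)), IsMDecomposition m D ∧
          N ≤ decompositionStabilizer D ∧
          (∀ i, ∀ a ∈ spanAlg (S i0), (D i).map (Matrix.toLin' a) ≤ D i) ∧
          (∀ c : GL (Fin n) F, (∀ a ∈ spanAlg (S i0), (c : Matrix (Fin n) (Fin n) F) * a = a * c) →
            ∀ i, (D i).map (Matrix.toLin' (c : Matrix (Fin n) (Fin n) F)) ≤ D i)) ∨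
      ((∃ z ∈ spanAlg (S i0), (∀ a ∈ spanAlg (S i0), z * a = a * z) ∧
          ∀ c : F, z ≠ c • (1 : Matrix (Fin n) (Fin n) F)) ∧
        ∀ x ∈ spanAlg (S i0), (∀ a ∈ spanAlg (S i0), x * a = a * x) → x ≠ 0 →
          ∃ y ∈ spanAlg (S i0), (∀ a ∈ spanAlg (S i0), y * a = a * y) ∧ x * y = 1) ∨
      (∃ (d s : ℕ) (e : Fin n ≃ Fin d × Fin s) (P : GL (Fin n) F), IsTensorAlg (spanAlg (S i0)) d s e P)) :
    ∃ d : ℕ, 2 ≤ d ∧ n = d ^ k := by
  classical
  haveI : Nonempty (Fin n) := ⟨⟨0, by omega⟩⟩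
  have hirr := actsIrreducibly_of_span N hspan
  -- induction principle over `N = ⨆ S i`
  have hind : ∀ (C : GL (Fin n) F → Prop), (∀ i, ∀ x ∈ S i, C x) → C 1 →
      (∀ x y, C x → C y → C (x * y)) → ∀ x ∈ N, C x := by
    intro C hmem hone hmul x hx
    have hx' : x ∈ ⨆ i, S i := by rw [hsup]; exact hx
    exact Subgroup.iSup_induction S (C := C) hx' hmem hone hmul
  -- elements of the other factors commute with `spanAlg (S i0)`
  have hcomA : ∀ i, i ≠ i0 → ∀ x ∈ S i, ∀ a ∈ spanAlg (S i0),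
      (x : Matrix (Fin n) (Fin n) F) * a = a * (x : Matrix (Fin n) (Fin n) F) := by
    intro i hi x hx a ha
    symm
    apply commute_spanAlg_right _ ha
    intro y hy
    have := congrArg (fun g : GL (Fin n) F => (g : Matrix (Fin n) (Fin n) F)) (hcomm i0 i hi.symm y hy x hx)
    simpa using this
  rcases hcl with ⟨t, m, D, hD, _, hDA, hDc⟩ | ⟨⟨z, hzA, hzc, hzns⟩, _⟩ | ⟨d, s, e₀, P₀, hT⟩
  · -- case 1 is impossible
    exfalso
    have ht := hD.two_le
    set j0 : Fin t := ⟨0, by omega⟩ with hj0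
    set j1 : Fin t := ⟨1, by omega⟩ with hj1
    have hinv : ∀ x ∈ N, (D j0).map (Matrix.toLin' (x : Matrix (Fin n) (Fin n) F)) ≤ D j0 := by
      apply hind
      · intro i x hx
        by_cases hi : i = i0
        · subst hi
          exact hDA j0 _ (coe_mem_spanAlg hx)
        · exact hDc x (fun a ha => hcomA i hi x hx a ha) j0
      · simp
      · intro x y hx hy
        rw [Units.val_mul, Matrix.toLin'_mul, Submodule.map_comp]
        exact le_trans (Submodule.map_mono hy) hx
    have h1 : D j0 = ⊥ ∨ D j0 = ⊤ := by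
      apply hirr
      rintro _ ⟨x, hx, rfl⟩
      exact hinv x hx
    have hm := hD.pos
    rcases h1 with h1 | h1
    · have := hD.finrank_eq j0
      rw [h1, finrank_bot] at this
      omega
    · have hne : j0 ≠ j1 := by
        intro h
        have := congrArg Fin.val h
        simp [hj0, hj1] at this
      have hdis := hD.indep j1
      have hle : D j0 ≤ ⨆ j, ⨆ (_ : j ≠ j1), D j := le_iSup₂_of_le j0 hne le_rfl
      rw [h1, top_le_iff] at hle
      rw [hle, disjoint_top] at hdis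
      have := hD.finrank_eq j1
      rw [hdis, finrank_bot] at this
      omega
  · -- case 2 is impossible
    exfalso
    have hzN : ∀ x ∈ N, (x : Matrix (Fin n) (Fin n) F) * z = z * (x : Matrix (Fin n) (Fin n) F) := by
      apply hind
      · intro i x hx
        by_cases hi : i = i0
        · subst hi
          exact (hzc _ (coe_mem_spanAlg hx)).symm
        · exact hcomA i hi x hx z hzA
      · simp
      · intro x y hx hy
        rw [Units.val_mul, mul_assoc, hy, ← mul_assoc, hx, mul_assoc]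
    obtain ⟨c, hc⟩ := Cfsg.Agent.Lib.Helper52_Asch_PK7.exists_smul_one_of_commute N hspan z hzN
    exact hzns c hc
  · -- case 3: the tensor structure
    have hd2 : 2 ≤ d := by
      by_contra hd
      apply hSZ i0
      intro x hx
      obtain ⟨M, hM⟩ := (hT _).1 (coe_mem_spanAlg hx)
      have hMs : ∃ c : F, M = c • (1 : Matrix (Fin d) (Fin d) F) := by
        have hd' : d = 0 ∨ d = 1 := by omega
        rcases hd' with rfl | rfl
        · exact ⟨0, Subsingleton.elim _ _⟩
        · refine ⟨M 0 0, ?_⟩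
          ext i j
          have hi : i = 0 := Subsingleton.elim _ _
          have hj : j = 0 := Subsingleton.elim _ _
          subst hi; subst hj
          simp
      obtain ⟨c, rfl⟩ := hMs
      have hx' : (x : Matrix (Fin n) (Fin n) F) = c • (1 : Matrix (Fin n) (Fin n) F) := by
        rw [hM, Matrix.smul_kronecker, Matrix.one_kronecker_one]
        have : Matrix.reindex e₀.symm e₀.symm (c • (1 : Matrix (Fin d × Fin s) (Fin d × Fin s) F)) =
            c • (1 : Matrix (Fin n) (Fin n) F) := by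
          ext i j
          simp [Matrix.one_apply]
        rw [this, mul_smul_comm, smul_mul_assoc, mul_one, ← Units.val_mul, mul_inv_cancel, Units.val_one]
      apply Cfsg.Agent.Lib.Helper52_Asch_PK7.mem_scalars_of_commute N hspan x
      intro y _
      rw [hx']
      simp
    have hg : ∀ j, ∃ g ∈ H, ∀ x, x ∈ S i0 ↔ g * x * g⁻¹ ∈ S j := fun j => htrans i0 j
    choose g hgH hg using hg
    set φ : Fin k → (Matrix (Fin d) (Fin d) F →ₐ[F] Matrix (Fin n) (Fin n) F) :=
      fun j => (conjHom (g j)).comp (tensorHom d s e₀ P₀) with hφdef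
    have hφ0 : ∀ M, tensorHom d s e₀ P₀ M ∈ spanAlg (S i0) := by
      intro M
      exact (hT _).2 ⟨M, tensorHom_apply d s e₀ P₀ M⟩
    have R1 : ∀ j M, φ j M ∈ spanAlg (S j) := by
      intro j M
      show conjHom (g j) (tensorHom d s e₀ P₀ M) ∈ spanAlg (S j)
      rw [conjHom_apply]
      exact conj_mem_spanAlg (g j) (fun x hx => (hg j x).1 hx) (hφ0 M)
    have R2 : ∀ j, ∀ a ∈ spanAlg (S j), ∃ M, a = φ j M := by
      intro j a ha
      have h1 : (((g j)⁻¹ : GL (Fin n) F) : Matrix (Fin n) (Fin n) F) * a *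
          ((((g j)⁻¹)⁻¹ : GL (Fin n) F) : Matrix (Fin n) (Fin n) F) ∈ spanAlg (S i0) := by
        apply conj_mem_spanAlg (g j)⁻¹ _ ha
        intro y hy
        apply (hg j _).2
        have : g j * ((g j)⁻¹ * y * (g j)⁻¹⁻¹) * (g j)⁻¹ = y := by group
        rw [this]; exact hy
      obtain ⟨M, hM⟩ := (hT _).1 h1
      refine ⟨M, ?_⟩
      show a = conjHom (g j) (tensorHom d s e₀ P₀ M)
      rw [conjHom_apply, tensorHom_apply, ← hM, inv_inv]
      have e1 : ((g j : GL (Fin n) F) : Matrix (Fin n) (Fin n) F) *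
          (((g j)⁻¹ : GL (Fin n) F) : Matrix (Fin n) (Fin n) F) = 1 := by
        rw [← Units.val_mul, mul_inv_cancel, Units.val_one]
      calc a = (1 : Matrix (Fin n) (Fin n) F) * a * 1 := by simp
        _ = _ := by
          rw [← e1]
          simp only [mul_assoc]
    have hcommφ : ∀ i j, i ≠ j → ∀ M M', φ i M * φ j M' = φ j M' * φ i M := by
      intro i j hij M M'
      exact commute_spanAlg (hcomm i j hij) (R1 i M) (R1 j M')
    have hNadj : ∀ x ∈ N, (x : Matrix (Fin n) (Fin n) F) ∈ Algebra.adjoin F (⋃ i, Set.range (φ i)) := by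
      apply hind
      · intro j x hx
        obtain ⟨M, hM⟩ := R2 j _ (coe_mem_spanAlg hx)
        apply Algebra.subset_adjoin
        exact Set.mem_iUnion.2 ⟨j, M, hM.symm⟩
      · rw [Units.val_one]; exact Subalgebra.one_mem _
      · intro x y hx hy
        rw [Units.val_mul]
        exact Subalgebra.mul_mem _ hx hy
    have hgenφ : Algebra.adjoin F (⋃ i, Set.range (φ i)) = ⊤ := by
      rw [eq_top_iff, ← hspan]
      apply Algebra.adjoin_le
      rintro _ ⟨x, hx, rfl⟩
      exact hNadj x hx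
    obtain ⟨e, P, hφ⟩ := Cfsg.Agent.Lib.Helper54_Asch_PK3.PK3 k d (by omega) φ hcommφ hgenφ
    refine ⟨d, hd2, ?_⟩
    have hc := Fintype.card_congr e
    simpa using hc

/-- EV23: at least two commuting conjugate factors: the dimension is a proper power -/
theorem EV23 [Fintype F] (n : ℕ) (hn : 3 ≤ n) (H N : Subgroup (GL (Fin n) F)) (hspan : spanAlg N = ⊤)
    (k : ℕ) (hk : 2 ≤ k) (S : Fin k → Subgroup (GL (Fin n) F)) (hSN : ∀ i, S i ≤ N)
    (hSnorm : ∀ i, NormalizesGrp N (S i)) (hSZ : ∀ i, ¬ S i ≤ scalars (Fin n) F)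
    (hcomm : ∀ i j, i ≠ j → ∀ x ∈ S i, ∀ y ∈ S j, x * y = y * x) (hsup : ⨆ i, S i = N)
    (htrans : ∀ i j, ∃ h ∈ H, ∀ x, x ∈ S i ↔ h * x * h⁻¹ ∈ S j) :
    ∃ d : ℕ, 2 ≤ d ∧ n = d ^ k := by
  haveI : Nonempty (Fin n) := ⟨⟨0, by omega⟩⟩
  exact EV23_aux n hn H N hspan k hk S hSN hSnorm hSZ hcomm hsup htrans ⟨0, by omega⟩
    (Cfsg.Agent.Lib.Helper98_AschCliff.clifford N (actsIrreducibly_of_span N hspan) _
      (normalizesAlg_spanAlg (hSnorm _)))

end Cfsg.Agent.Lib.Helper22_OrthEven_EV23
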