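import Mathlib
import Cfsg.Prelude.Def_GeometricClasses

/-!
helper39: vocabulary for the "maximal subgroup cases" glue rows of the classical groups with a form
(unitary rows S5811, S5856, S5832, S5820, S5841, S5865, reusable for Sp / Omega rows):
a subgroup `N ≤ GL(ι, F)` that is perfect, has only scalar proper normal subgroups, acts irreducibly and
contains a non-scalar element fixing a hyperplane pointwise (a transvection) lies in no member of the
geometric classes.
-/

set_option autoImplicit false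

namespace Cfsg.Agent.Lib.Helper39_QSDefs

open Matrix Cfsg.Geo

variable {ι : Type} [Fintype ι] [DecidableEq ι] {F : Type*} [Field F]

/-- `g` is not a scalar and fixes a hyperplane pointwise -/
def IsHypFix (g : GL ι F) : Prop :=
  g ∉ scalars ι F ∧ ∃ φ : (ι → F) →ₗ[F] F, φ ≠ 0 ∧ ∀ x : ι → F, φ x = 0 → (g : Matrix ι ι F) *ᵥ x = x

/-- the abstract properties of `SU_n(q)`, `Sp_2m(q)`, ... inside `GL` used by the exclusion lemmas -/
structure QS (N : Subgroup (GL ι F)) : Prop where
  perf : ⁅N, N⁆ = N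
  dich : ∀ K : Subgroup (GL ι F), K ≤ N → (∀ s ∈ N, ∀ x ∈ K, s * x * s⁻¹ ∈ K) → K ≤ scalars ι F ∨ K = N
  irr : ∀ W : Submodule F (ι → F), (∀ s ∈ N, ∀ w ∈ W, (s : Matrix ι ι F) *ᵥ w ∈ W) → W = ⊥ ∨ W = ⊤
  tv : ∃ g ∈ N, IsHypFix g

end Cfsg.Agent.Lib.Helper39_QSDefs
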