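import Mathlib
import Cfsg.Prelude.Def_GeometricClasses
import Cfsg.Prelude.Def_LieClassical
import Cfsg.Agent.Lib.Helper39_QSDefs

set_option autoImplicit false

namespace Cfsg.Agent.Lib.Helper52_SUG_G7

open Matrix Cfsg.Geo Cfsg.Agent.Lib.Helper39_QSDefs

variable {ι : Type} [Fintype ι] [DecidableEq ι] {F : Type*} [Field F]

lemma scalars_comm' {z : GL ι F} (hz : z ∈ scalars ι F) (g : GL ι F) : z * g = g * z := by
  obtain ⟨c, hc⟩ := (mem_scalars_iff z).mp hz
  apply Units.ext
  rw [Units.val_mul, Units.val_mul, hc]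
  simp

/-- the commutant of a `QS` subgroup consists of scalars (package G1, local copy) -/
theorem commutant_scalar {N : Subgroup (GL ι F)} (hN : QS N) (A : Matrix ι ι F)
    (hA : ∀ s ∈ N, (s : Matrix ι ι F) * A = A * (s : Matrix ι ι F)) : ∃ c : F, A = c • (1 : Matrix ι ι F) := by
  obtain ⟨g, hgN, hgs, φ, hφ0, hφ⟩ := hN.tv
  -- a vector moved by g
  have hex : ∃ x0, (g : Matrix ι ι F) *ᵥ x0 ≠ x0 := by
    by_contra hcon
    push Not at hcon
    apply hgs
    rw [mem_scalars_iff]
    refine ⟨1, ?_⟩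
    rw [Units.val_one, one_smul]
    apply Matrix.toLin'.injective
    apply LinearMap.ext
    intro x
    rw [Matrix.toLin'_apply, hcon x]
    simp
  obtain ⟨x0, hx0⟩ := hex
  have hφx0 : φ x0 ≠ 0 := fun h => hx0 (hφ x0 h)
  set v : ι → F := (g : Matrix ι ι F) *ᵥ x0 - x0 with hv
  have hv0 : v ≠ 0 := fun h => hx0 (sub_eq_zero.1 h)
  have hgx : ∀ x, (g : Matrix ι ι F) *ᵥ x = x + (φ x / φ x0) • v := by
    intro x
    have h1 : φ (x - (φ x / φ x0) • x0) = 0 := by
      rw [map_sub, map_smul, smul_eq_mul, div_mul_cancel₀ _ hφx0, sub_self]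
    have h2 := hφ _ h1
    rw [Matrix.mulVec_sub, Matrix.mulVec_smul] at h2
    rw [hv, smul_sub]
    have h3 : (g : Matrix ι ι F) *ᵥ x = x - (φ x / φ x0) • x0 + (φ x / φ x0) • (g : Matrix ι ι F) *ᵥ x0 :=
      (sub_eq_iff_eq_add.1 h2)
    rw [h3]
    abel
  -- `A v = a v`
  have hAv : A *ᵥ v = (φ (A *ᵥ x0) / φ x0) • v := by
    have h1 := congrArg (fun M : Matrix ι ι F => M *ᵥ x0) (hA g hgN)
    simp only [← Matrix.mulVec_mulVec] at h1
    rw [hgx (A *ᵥ x0), hgx x0, Matrix.mulVec_add, Matrix.mulVec_smul, div_self hφx0, one_smul] at h1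
    exact (add_left_cancel h1).symm
  set a : F := φ (A *ᵥ x0) / φ x0 with ha
  let W : Submodule F (ι → F) :=
    { carrier := {w | A *ᵥ w = a • w}
      add_mem' := by
        intro x y hx hy
        simp only [Set.mem_ofPred_eq] at *
        rw [Matrix.mulVec_add, hx, hy, smul_add]
      zero_mem' := by simp
      smul_mem' := by
        intro c x hx
        simp only [Set.mem_ofPred_eq] at *
        rw [Matrix.mulVec_smul, hx, smul_comm] }
  have hWinv : ∀ s ∈ N, ∀ w ∈ W, (s : Matrix ι ι F) *ᵥ w ∈ W := by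
    intro s hs w hw
    show A *ᵥ ((s : Matrix ι ι F) *ᵥ w) = a • ((s : Matrix ι ι F) *ᵥ w)
    have hw' : A *ᵥ w = a • w := hw
    rw [Matrix.mulVec_mulVec, ← hA s hs, ← Matrix.mulVec_mulVec, hw', Matrix.mulVec_smul]
  rcases hN.irr W hWinv with h | h
  · exfalso
    have : v ∈ W := hAv
    rw [h, Submodule.mem_bot] at this
    exact hv0 this
  · refine ⟨a, ?_⟩
    apply Matrix.toLin'.injective
    apply LinearMap.ext
    intro x
    have hx : x ∈ W := by rw [h]; exact Submodule.mem_top
    have hx' : A *ᵥ x = a • x := hx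
    rw [Matrix.toLin'_apply, hx']
    simp

/-- G7 : normalizers of irreducible subgroups -/
theorem G7 {N : Subgroup (GL ι F)} (hN : QS N) {R : Subgroup (GL ι F)}
    (hirr : ActsIrreducibly (matrixSet R)) (hRN : ∀ x ∈ R, ∀ s ∈ N, x * s * x⁻¹ ∈ N) (hne : ¬ N ≤ R) :
    ¬ N ≤ subgroupNormalizer R := by
  intro hle
  have hnorm : ∀ s ∈ N, ∀ x ∈ R ⊓ N, s * x * s⁻¹ ∈ R ⊓ N := by
    intro s hs x hx
    refine ⟨?_, N.mul_mem (N.mul_mem hs hx.2) (N.inv_mem hs)⟩
    exact (Subgroup.mem_normalizer_iff.mp (hle hs) x).mp hx.1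
  rcases hN.dich (R ⊓ N) inf_le_right hnorm with h | h
  · have hSR : ⁅N, R⁆ ≤ scalars ι F := by
      rw [Subgroup.commutator_le]
      intro s hs x hx
      apply h
      rw [commutatorElement_def]
      refine ⟨?_, ?_⟩
      · exact R.mul_mem ((Subgroup.mem_normalizer_iff.mp (hle hs) x).mp hx) (R.inv_mem hx)
      · have : s * x * s⁻¹ * x⁻¹ = s * (x * s⁻¹ * x⁻¹) := by group
        rw [this]
        exact N.mul_mem hs (hRN x hx _ (N.inv_mem hs))
    have hcent : ⁅N, R⁆ ≤ Subgroup.centralizer (N : Set (GL ι F)) := by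
      intro z hz
      rw [Subgroup.mem_centralizer_iff]
      intro g _
      exact (scalars_comm' (hSR hz) g).symm
    have h1 : ⁅⁅N, R⁆, N⁆ = ⊥ := Subgroup.commutator_eq_bot_iff_le_centralizer.mpr hcent
    have h2 : ⁅⁅R, N⁆, N⁆ = ⊥ := by
      rw [Subgroup.commutator_comm R]
      exact h1
    have h3 := Subgroup.commutator_commutator_eq_bot_of_rotate h1 h2
    rw [hN.perf, Subgroup.commutator_eq_bot_iff_le_centralizer] at h3
    -- `R` is scalar
    have hRs : ∀ x ∈ R, ∃ c : F, (x : Matrix ι ι F) = c • (1 : Matrix ι ι F) := by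
      intro x hx
      apply commutant_scalar hN
      intro s hs
      have := Subgroup.mem_centralizer_iff.mp (h3 hs) x hx
      rw [← Units.val_mul, ← Units.val_mul, this]
    -- every subspace is `R`-invariant, hence trivial
    have hall : ∀ W : Submodule F (ι → F), W = ⊥ ∨ W = ⊤ := by
      intro W
      apply hirr W
      rintro _ ⟨x, hx, rfl⟩
      obtain ⟨c, hc⟩ := hRs x hx
      rintro _ ⟨w, hw, rfl⟩
      rw [Matrix.toLin'_apply]
      dsimp only
      rw [hc, Matrix.smul_mulVec, Matrix.one_mulVec]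
      exact W.smul_mem _ hw
    obtain ⟨g, hgN, hgs, φ, hφ0, hφ⟩ := hN.tv
    apply hgs
    by_cases hV : ∃ x0 : ι → F, x0 ≠ 0
    · obtain ⟨x0, hx0⟩ := hV
      have htop : Submodule.span F {x0} = ⊤ := by
        rcases hall (Submodule.span F {x0}) with h0 | h0
        · exfalso
          have : x0 ∈ Submodule.span F {x0} := Submodule.mem_span_singleton_self x0
          rw [h0, Submodule.mem_bot] at this
          exact hx0 this
        · exact h0
      have hmem : ∀ x : ι → F, ∃ a : F, a • x0 = x := by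
        intro x
        have : x ∈ Submodule.span F {x0} := by rw [htop]; exact Submodule.mem_top
        exact Submodule.mem_span_singleton.1 this
      obtain ⟨c, hc⟩ := hmem ((g : Matrix ι ι F) *ᵥ x0)
      have hgc : (g : Matrix ι ι F) = c • (1 : Matrix ι ι F) := by
        apply Matrix.toLin'.injective
        apply LinearMap.ext
        intro x
        obtain ⟨a, rfl⟩ := hmem x
        rw [Matrix.toLin'_apply, Matrix.mulVec_smul, ← hc]
        simp [smul_smul, mul_comm]
      have hc0 : c ≠ 0 := by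
        rintro rfl
        rw [zero_smul] at hgc
        have h2 := g.mul_inv
        rw [hgc, zero_mul] at h2
        have h3 := congrArg (fun M : Matrix ι ι F => M *ᵥ x0) h2
        simp only [Matrix.zero_mulVec, Matrix.one_mulVec] at h3
        exact hx0 h3.symm
      rw [mem_scalars_iff]
      exact ⟨Units.mk0 c hc0, hgc⟩
    · push Not at hV
      rw [mem_scalars_iff]
      refine ⟨1, ?_⟩
      apply Matrix.toLin'.injective
      apply LinearMap.ext
      intro x
      rw [hV x, map_zero, map_zero]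
  · exact hne (h ▸ inf_le_left)

end Cfsg.Agent.Lib.Helper52_SUG_G7
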