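import Mathlib
import Cfsg.Prelude.Def_GeometricClasses
import Cfsg.Prelude.Def_LieClassical
import Cfsg.Agent.Lib.Helper39_QSDefs
import Cfsg.Agent.Lib.Helper52_SUG_G7

/-!
helper32: package SUG-G4 of helper39's market (unitary / symplectic / orthogonal glue rows):
a `QS` subgroup `N ≤ GL(ι, F)` (`F` finite) is contained in no normalizer of a field subalgebra `K` of degree
`r > 1`: the invertible elements of `K` form a cyclic group `U`, conjugation by `N` induces commuting
automorphisms of `U`, so the perfect group `N` centralizes `U`, hence `K`; the commutant of `N` consists of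
scalars (G1 = `Helper52_SUG_G7.commutant_scalar`), so `K = F`.
-/

set_option autoImplicit false

namespace Cfsg.Agent.Lib.Helper32_SUG_G4

open Matrix Cfsg.Geo Cfsg.Agent.Lib.Helper39_QSDefs
open scoped commutatorElement

variable {ι : Type} [Fintype ι] [DecidableEq ι] {F : Type*} [Field F]

/-- the invertible matrices lying in a field subalgebra, as a subgroup of `GL` -/
def unitsIn {r : ℕ} {K : Subalgebra F (Matrix ι ι F)} (hK : IsFieldSubalgebra r K) : Subgroup (GL ι F) where
  carrier := {g | (g : Matrix ι ι F) ∈ K}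
  mul_mem' {a b} ha hb := by
    show ((a * b : GL ι F) : Matrix ι ι F) ∈ K
    rw [Units.val_mul]; exact K.mul_mem ha hb
  one_mem' := by
    show ((1 : GL ι F) : Matrix ι ι F) ∈ K
    rw [Units.val_one]; exact K.one_mem
  inv_mem' {a} ha := by
    show ((a⁻¹ : GL ι F) : Matrix ι ι F) ∈ K
    by_cases h0 : (a : Matrix ι ι F) = 0
    · have h1 : ((a⁻¹ : GL ι F) : Matrix ι ι F) = 0 := by
        have h2 : ((a⁻¹ : GL ι F) : Matrix ι ι F) * (a : Matrix ι ι F) * ((a⁻¹ : GL ι F) : Matrix ι ι F) =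
            ((a⁻¹ : GL ι F) : Matrix ι ι F) := by
          rw [← Units.val_mul, inv_mul_cancel, Units.val_one, one_mul]
        rw [← h2, h0, mul_zero, zero_mul]
      rw [h1]; exact K.zero_mem
    · obtain ⟨y, hy, hay⟩ := hK.inv _ ha h0
      have h1 : ((a⁻¹ : GL ι F) : Matrix ι ι F) = y := by
        calc ((a⁻¹ : GL ι F) : Matrix ι ι F) = ((a⁻¹ : GL ι F) : Matrix ι ι F) * ((a : Matrix ι ι F) * y) := by
              rw [hay, mul_one]
          _ = y := by rw [← mul_assoc, ← Units.val_mul, inv_mul_cancel, Units.val_one, one_mul]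
      rw [h1]; exact hy

lemma mem_unitsIn {r : ℕ} {K : Subalgebra F (Matrix ι ι F)} (hK : IsFieldSubalgebra r K) {g : GL ι F} :
    g ∈ unitsIn hK ↔ (g : Matrix ι ι F) ∈ K := Iff.rfl

/-- the group of invertible elements of a finite field subalgebra is cyclic -/
theorem isCyclic_unitsIn [Finite F] {r : ℕ} {K : Subalgebra F (Matrix ι ι F)} (hK : IsFieldSubalgebra r K) :
    IsCyclic (unitsIn hK) := by
  by_cases hι : Nonempty ι
  · let _ : CommRing K :=
      { (inferInstance : Ring K) with mul_comm := fun x y => Subtype.ext (hK.comm x x.2 y y.2) }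
    have hnt : Nontrivial K := by
      refine ⟨⟨0, 1, fun h => ?_⟩⟩
      have h1 : (0 : Matrix ι ι F) = 1 := congrArg Subtype.val h
      obtain ⟨i⟩ := hι
      have := congrFun (congrFun h1 i) i
      simp at this
    have hnz : NoZeroDivisors K := by
      refine ⟨fun {x y} hxy => ?_⟩
      by_cases hx : x = 0
      · exact Or.inl hx
      · right
        have hx' : (x : Matrix ι ι F) ≠ 0 := fun h => hx (Subtype.ext h)
        obtain ⟨x', hx'K, hxx'⟩ := hK.inv _ x.2 hx'
        have h1 : x' * (x : Matrix ι ι F) = 1 := by rw [hK.comm x' hx'K x x.2, hxx']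
        have h2 : (x : Matrix ι ι F) * (y : Matrix ι ι F) = 0 := congrArg Subtype.val hxy
        apply Subtype.ext
        calc (y : Matrix ι ι F) = x' * (x : Matrix ι ι F) * (y : Matrix ι ι F) := by rw [h1, one_mul]
          _ = 0 := by rw [mul_assoc, h2, mul_zero]
    have hdom : IsDomain K := NoZeroDivisors.to_isDomain K
    let f : unitsIn hK →* K :=
      { toFun := fun g => ⟨((g : GL ι F) : Matrix ι ι F), g.2⟩
        map_one' := rfl
        map_mul' := fun a b => rfl }
    have hf : Function.Injective f := by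
      intro a b hab
      have h1 : ((a : GL ι F) : Matrix ι ι F) = ((b : GL ι F) : Matrix ι ι F) := congrArg Subtype.val hab
      exact Subtype.ext (Units.ext h1)
    have hfin : Finite (unitsIn hK) := inferInstance
    exact isCyclic_of_injective_ringHom f hf
  · rw [not_nonempty_iff] at hι
    have hsub : Subsingleton (GL ι F) := ⟨fun a b => Units.ext (Subsingleton.elim _ _)⟩
    have : Subsingleton (unitsIn hK) := inferInstance
    exact isCyclic_of_subsingleton

/-- a perfect group normalizing a field subalgebra centralizes it -/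
theorem centralizes_of_perfect [Finite F] {N : Subgroup (GL ι F)} (hperf : ⁅N, N⁆ = N) {r : ℕ}
    {K : Subalgebra F (Matrix ι ι F)} (hK : IsFieldSubalgebra r K) (hle : N ≤ subalgebraNormalizer K)
    {s : GL ι F} (hs : s ∈ N) {k : Matrix ι ι F} (hk : k ∈ K) :
    (s : Matrix ι ι F) * k = k * (s : Matrix ι ι F) := by
  have hcyc := isCyclic_unitsIn hK
  obtain ⟨u, hu⟩ := hcyc.exists_generator
  set u₀ : GL ι F := (u : GL ι F) with hu₀
  -- every element of `unitsIn` is a power of `u₀`
  have hpow : ∀ g : GL ι F, g ∈ unitsIn hK → ∃ a : ℤ, u₀ ^ a = g := by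
    intro g hg
    obtain ⟨a, ha⟩ := Subgroup.mem_zpowers_iff.mp (hu ⟨g, hg⟩)
    refine ⟨a, ?_⟩
    have := congrArg (fun x : unitsIn hK => (x : GL ι F)) ha
    simpa using this
  -- conjugation by `N` preserves `unitsIn`
  have hconj : ∀ x : GL ι F, x ∈ N → x * u₀ * x⁻¹ ∈ unitsIn hK := by
    intro x hx
    rw [mem_unitsIn, Units.val_mul, Units.val_mul]
    exact ((hle hx) _).mp u.2
  have hA : ∀ x : GL ι F, x ∈ N → ∃ a : ℤ, x * u₀ * x⁻¹ = u₀ ^ a := by
    intro x hx
    obtain ⟨a, ha⟩ := hpow _ (hconj x hx)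
    exact ⟨a, ha.symm⟩
  have hB : ∀ x y : GL ι F, x ∈ N → y ∈ N →
      (x * y) * u₀ * (x * y)⁻¹ = (y * x) * u₀ * (y * x)⁻¹ := by
    intro x y hx hy
    obtain ⟨a, ha⟩ := hA x hx
    obtain ⟨b, hb⟩ := hA y hy
    have h1 : (x * y) * u₀ * (x * y)⁻¹ = u₀ ^ (a * b) := by
      calc (x * y) * u₀ * (x * y)⁻¹ = x * (y * u₀ * y⁻¹) * x⁻¹ := by group
        _ = x * u₀ ^ b * x⁻¹ := by rw [hb]
        _ = (x * u₀ * x⁻¹) ^ b := by rw [conj_zpow]
        _ = u₀ ^ (a * b) := by rw [ha, _root_.zpow_mul]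
    have h2 : (y * x) * u₀ * (y * x)⁻¹ = u₀ ^ (a * b) := by
      calc (y * x) * u₀ * (y * x)⁻¹ = y * (x * u₀ * x⁻¹) * y⁻¹ := by group
        _ = y * u₀ ^ a * y⁻¹ := by rw [ha]
        _ = (y * u₀ * y⁻¹) ^ a := by rw [conj_zpow]
        _ = u₀ ^ (a * b) := by rw [hb, mul_comm a b, _root_.zpow_mul]
    rw [h1, h2]
  -- commutators centralize `u₀`
  have hC : ⁅N, N⁆ ≤ Subgroup.centralizer {u₀} := by
    rw [Subgroup.commutator_le]
    intro a ha b hb
    rw [Subgroup.mem_centralizer_iff]
    intro h hh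
    rw [Set.mem_singleton_iff] at hh
    subst hh
    have h3 := hB a⁻¹ b⁻¹ (N.inv_mem ha) (N.inv_mem hb)
    have h4 : ⁅a, b⁆ * u₀ = (a * b) * ((a⁻¹ * b⁻¹) * u₀ * (a⁻¹ * b⁻¹)⁻¹) * (a⁻¹ * b⁻¹) := by
      rw [commutatorElement_def]; group
    rw [h4, h3, commutatorElement_def]
    group
  rw [hperf] at hC
  have hsu : s * u₀ = u₀ * s := by
    have := (Subgroup.mem_centralizer_iff.mp (hC hs)) u₀ rfl
    exact this.symm
  -- `s` commutes with every element of `K`
  by_cases hk0 : k = 0
  · rw [hk0, mul_zero, zero_mul]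
  · obtain ⟨y, hy, hky⟩ := hK.inv k hk hk0
    have hyk : y * k = 1 := by rw [hK.comm y hy k hk, hky]
    let g : GL ι F := ⟨k, y, hky, hyk⟩
    have hg : g ∈ unitsIn hK := hk
    obtain ⟨a, ha⟩ := hpow g hg
    have hcomm : Commute s (u₀ ^ a) := Commute.zpow_right hsu a
    rw [ha] at hcomm
    have := congrArg (fun x : GL ι F => (x : Matrix ι ι F)) hcomm.eq
    simpa [g] using this

/-- G4 : field extension normalizers -/
theorem G4 [Finite F] {N : Subgroup (GL ι F)} (hN : QS N) {r : ℕ} (hr : 1 < r)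
    {K : Subalgebra F (Matrix ι ι F)} (hK : IsFieldSubalgebra r K) :
    ¬ N ≤ subalgebraNormalizer K := by
  intro hle
  have hι : Nonempty ι := by
    by_contra h
    rw [not_nonempty_iff] at h
    obtain ⟨g, _, hgs, _⟩ := hN.tv
    apply hgs
    rw [mem_scalars_iff]
    exact ⟨1, Subsingleton.elim _ _⟩
  have hnt : Nontrivial (Matrix ι ι F) := inferInstance
  have hKbot : K = ⊥ := by
    rw [eq_bot_iff]
    intro k hk
    obtain ⟨c, hc⟩ := Cfsg.Agent.Lib.Helper52_SUG_G7.commutant_scalar hN k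
      (fun s hs => centralizes_of_perfect hN.perf hK hle hs hk)
    rw [Algebra.mem_bot]
    refine ⟨c, ?_⟩
    rw [hc, Algebra.algebraMap_eq_smul_one]
  have h1 := hK.finrank_eq
  rw [hKbot, Subalgebra.finrank_bot] at h1
  omega

end Cfsg.Agent.Lib.Helper32_SUG_G4
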