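import Mathlib
import Cfsg.Prelude.Def_GeometricClasses
import Cfsg.Agent.Lib.Helper94_OrthGenBridge
import Cfsg.Agent.Lib.Helper14_CentOmega
import Cfsg.Agent.Lib.Helper32_SUG_G4
import Cfsg.Agent.Lib.Helper32_OrthEven_EV2

/-!
helper32: package EV7 of helper22's market (even-dimensional orthogonal rows): `Ω(Q)` normalises no proper
extension field of the matrix algebra (dimension at least 7, any characteristic).
`Ω` is perfect (`Helper14_CentOmega.commutator_omega_eq_top`), so it centralises the field `K`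
(`Helper32_SUG_G4.centralizes_of_perfect`); an element `k ∈ K` commuting with all Siegel elements maps every
non-zero singular vector `u` to a multiple `c u`, so `k - c` is a non-invertible element of `K`, hence `0`.
-/

set_option autoImplicit false

namespace Cfsg.Agent.Lib.Helper32_OrthEven_EV7

open Matrix Module Cfsg.Agent.Lib.Helper94_Symp Cfsg.Agent.Lib.Helper94_OrthSmall
  Cfsg.Agent.Lib.Helper94_OrthSiegel Cfsg.Agent.Lib.Helper94_OrthSiegel2
  Cfsg.Agent.Lib.Helper94_Bridge Cfsg.Agent.Lib.Helper94_OrthBridge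
  Cfsg.Agent.Lib.Helper94_OrthGenBridge Cfsg.Agent.Lib.Helper32_OrthEven_EV2
open scoped commutatorElement

variable {ι : Type} [Fintype ι] [DecidableEq ι] {F : Type*} [Field F]

/-- `Ω` is perfect, as a subgroup of `GL` (dimension at least 5) -/
theorem omegaGL_perfect [Fintype F] (Q : (ι → F) → F) (hQ : Cfsg.Geo.IsNondegenerateQuadraticForm Q)
    (hn : 5 ≤ Fintype.card ι) : ⁅Cfsg.Geo.omegaGL Q, Cfsg.Geo.omegaGL Q⁆ = Cfsg.Geo.omegaGL Q := by
  have h : commutator ↥(Cfsg.Omega F Q) = ⊤ :=
    Cfsg.Agent.Lib.Helper14_CentOmega.commutator_omega_eq_top (qfOf Q hQ) (polarBilin_qfOf_nondeg Q hQ) hn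
  have h2 : ⁅Cfsg.Omega F Q, Cfsg.Omega F Q⁆ = Cfsg.Omega F Q := by
    rw [← Subgroup.map_subtype_commutator, h, ← MonoidHom.range_eq_map, Subgroup.range_subtype]
  unfold Cfsg.Geo.omegaGL
  rw [← Subgroup.map_commutator, h2]

/-- the matrix of a Siegel element acts as the Siegel element -/
lemma symm_mulVec (g : (ι → F) ≃ₗ[F] (ι → F)) (v : ι → F) :
    (((glEquiv ι F).symm g : GL ι F) : Matrix ι ι F) *ᵥ v = g v := by
  rw [← glEquiv_apply]
  simp

/-- EV7: `Ω` normalises no proper extension field -/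
theorem EV7 [Fintype F] (Q : (ι → F) → F) (hQ : Cfsg.Geo.IsNondegenerateQuadraticForm Q)
    (hn : 7 ≤ Fintype.card ι)
    (r : ℕ) (hr : 2 ≤ r) (K : Subalgebra F (Matrix ι ι F)) (hK : Cfsg.Geo.IsFieldSubalgebra r K) :
    ¬ Cfsg.Geo.omegaGL Q ≤ Cfsg.Geo.subalgebraNormalizer K := by
  intro hle
  set B := polarForm Q hQ with hBdef
  have hQs := gen_hQs Q hQ
  have hQp := gen_hQp Q hQ
  have hN : B.Nondegenerate := gen_hN Q hQ
  have hsymm := B_symm Q B hQp
  have hR := B_isRefl Q B hQp
  have hfr : finrank F (ι → F) = Fintype.card ι := Module.finrank_fintype_fun_eq_card F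
  have hperf := omegaGL_perfect Q hQ (by omega)
  have hcent : ∀ s ∈ Cfsg.Geo.omegaGL Q, ∀ k ∈ K, (s : Matrix ι ι F) * k = k * (s : Matrix ι ι F) :=
    fun s hs k hk => Cfsg.Agent.Lib.Helper32_SUG_G4.centralizes_of_perfect hperf hK hle hs hk
  have hι : Nonempty ι := by
    rw [← Fintype.card_pos_iff]; omega
  have hnt : Nontrivial (Matrix ι ι F) := inferInstance
  -- a non-scalar element of `K`
  obtain ⟨k, hkK, hks⟩ : ∃ k ∈ K, ∀ c : F, k ≠ c • (1 : Matrix ι ι F) := by
    by_contra hcon
    push Not at hcon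
    have hKbot : K = ⊥ := by
      rw [eq_bot_iff]
      intro k hk
      obtain ⟨c, hc⟩ := hcon k hk
      rw [Algebra.mem_bot]
      exact ⟨c, by rw [hc, Algebra.algebraMap_eq_smul_one]⟩
    have h1 := hK.finrank_eq
    rw [hKbot, Subalgebra.finrank_bot] at h1
    omega
  -- `k` commutes with the Siegel elements
  have hcomm : ∀ u z : ι → F, Q u = 0 → B u z = 0 → ∀ x : ι → F,
      k *ᵥ (sieg Q B u z x) = sieg Q B u z (k *ᵥ x) := by
    intro u z hu huz x
    have hs := sieg_symm_mem_omegaGL Q hQ hn hu huz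
    have h1 := hcent _ hs k hkK
    calc k *ᵥ (sieg Q B u z x)
        = k *ᵥ ((((glEquiv ι F).symm (sieg Q B u z) : GL ι F) : Matrix ι ι F) *ᵥ x) := by
          rw [symm_mulVec]
      _ = (((glEquiv ι F).symm (sieg Q B u z) : GL ι F) : Matrix ι ι F) *ᵥ (k *ᵥ x) := by
          rw [Matrix.mulVec_mulVec, ← h1, ← Matrix.mulVec_mulVec]
      _ = sieg Q B u z (k *ᵥ x) := symm_mulVec _ _
  -- a nonzero singular vector
  obtain ⟨u, -, hu0, hu⟩ := exists_singular_in Q B hQs hQp (⊤ : Submodule F (ι → F))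
    (by rw [finrank_top, hfr]; omega)
  set ku : ι → F := k *ᵥ u with hku
  -- a vector of `u^⊥` outside `span {u, k u}`
  obtain ⟨z, hzo, hzT⟩ : ∃ z ∈ B.orthogonal (Submodule.span F {u}), z ∉ Submodule.span F {u, ku} := by
    by_contra hcon
    push Not at hcon
    have hle' : B.orthogonal (Submodule.span F {u}) ≤ Submodule.span F {u, ku} := hcon
    have hfrS : finrank F (Submodule.span F ({u, ku} : Set (ι → F))) ≤ 2 := by
      classical
      have h6 := finrank_span_finset_le_card (R := F) ({u, ku} : Finset (ι → F))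
      have h7' : (({u, ku} : Finset (ι → F)) : Set (ι → F)) = {u, ku} := by simp
      rw [h7', Set.finrank] at h6
      have := Finset.card_le_two (a := u) (b := ku)
      omega
    have hfrK := LinearMap.BilinForm.finrank_orthogonal hN (Submodule.span F {u})
    have hfr1 : finrank F (Submodule.span F ({u} : Set (ι → F))) ≤ 1 := by
      rw [finrank_span_singleton hu0]
    have := Submodule.finrank_mono hle'
    omega
  have huz : B u z = 0 := (mem_orth B).mp hzo u (Submodule.mem_span_singleton_self u)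
  have hzu : z ∉ Submodule.span F {u} := fun h => hzT (Submodule.span_mono (by simp) h)
  -- a vector orthogonal to `u` but not to `z`
  obtain ⟨x, hux, hxz⟩ : ∃ x, B u x = 0 ∧ B x z ≠ 0 := by
    by_contra hcon
    push Not at hcon
    apply hzu
    rw [← LinearMap.BilinForm.orthogonal_orthogonal hN hR (Submodule.span F {u}), mem_orth]
    intro n hn'
    exact hcon n ((mem_orth B).mp hn' u (Submodule.mem_span_singleton_self u))
  have hxu : B x u = 0 := by rw [hsymm, hux]
  have hgx : sieg Q B u z x = x - B x z • u := by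
    rw [sieg_apply Q B hQs hQp hu huz, hxu]
    simp
  have h := hcomm u z hu huz x
  rw [hgx, sieg_apply Q B hQs hQp hu huz (k *ᵥ x), Matrix.mulVec_sub, Matrix.mulVec_smul, ← hku] at h
  set kx : ι → F := k *ᵥ x with hkx
  set β : F := B kx u with hβ
  have key : β • z = (B kx z + Q z * β) • u - B x z • ku := by
    calc β • z = (kx + β • z - B kx z • u - (Q z * β) • u) - kx + (B kx z + Q z * β) • u := by module
      _ = (kx - B x z • ku) - kx + (B kx z + Q z * β) • u := by rw [← h]
      _ = (B kx z + Q z * β) • u - B x z • ku := by module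
  -- `k u` is a multiple of `u`
  obtain ⟨c, hc⟩ : ∃ c : F, ku = c • u := by
    by_cases hβ0 : β = 0
    · refine ⟨(B x z)⁻¹ * (B kx z + Q z * β), ?_⟩
      rw [hβ0, zero_smul] at key
      have h2 : B x z • ku = (B kx z + Q z * 0) • u := (sub_eq_zero.mp key.symm).symm
      calc ku = (B x z)⁻¹ • (B x z • ku) := by rw [smul_smul, inv_mul_cancel₀ hxz, one_smul]
        _ = ((B x z)⁻¹ * (B kx z + Q z * β)) • u := by rw [h2, smul_smul, hβ0]
    · exfalso
      apply hzT
      rw [Submodule.mem_span_pair]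
      refine ⟨β⁻¹ * (B kx z + Q z * β), -(β⁻¹ * B x z), ?_⟩
      calc (β⁻¹ * (B kx z + Q z * β)) • u + (-(β⁻¹ * B x z)) • ku
          = β⁻¹ • ((B kx z + Q z * β) • u - B x z • ku) := by module
        _ = β⁻¹ • (β • z) := by rw [key]
        _ = z := by rw [smul_smul, inv_mul_cancel₀ hβ0, one_smul]
  -- `k - c` is a non-invertible element of the field `K`
  have hk' : k - c • (1 : Matrix ι ι F) ∈ K := K.sub_mem hkK (K.smul_mem K.one_mem c)
  have hkill : (k - c • (1 : Matrix ι ι F)) *ᵥ u = 0 := by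
    rw [Matrix.sub_mulVec, Matrix.smul_mulVec, Matrix.one_mulVec, ← hku, hc, sub_self]
  by_cases h0 : k - c • (1 : Matrix ι ι F) = 0
  · exact hks c (sub_eq_zero.mp h0)
  · obtain ⟨y, hyK, hy⟩ := hK.inv _ hk' h0
    have hy' : y * (k - c • (1 : Matrix ι ι F)) = 1 := by rw [hK.comm y hyK _ hk', hy]
    apply hu0
    calc u = (y * (k - c • (1 : Matrix ι ι F))) *ᵥ u := by rw [hy', Matrix.one_mulVec]
      _ = 0 := by rw [← Matrix.mulVec_mulVec, hkill, Matrix.mulVec_zero]

end Cfsg.Agent.Lib.Helper32_OrthEven_EV7
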