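import Mathlib
import Cfsg.Prelude.Def_GeometricClasses

set_option autoImplicit false
set_option linter.unusedSectionVars false
set_option linter.unusedVariables false

namespace Cfsg.Agent.Lib.Helper34_OrthEven_TS

open Cfsg Cfsg.Geo Matrix
open scoped Kronecker MatrixGroups

variable {F : Type*} [Field F]

/-- every totally isotropic subspace of a nondegenerate alternating space lies in a Lagrangian -/
theorem exists_lagrangian_ge {V : Type*} [AddCommGroup V] [Module F V] [FiniteDimensional F V]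
    (B : LinearMap.BilinForm F V) (halt : ∀ v, B v v = 0) (hnd : B.Nondegenerate) :
    ∀ (n : ℕ) (L : Submodule F V), Module.finrank F V - Module.finrank F L = n →
      (∀ u ∈ L, ∀ v ∈ L, B u v = 0) →
      ∃ L' : Submodule F V, L ≤ L' ∧ 2 * Module.finrank F L' = Module.finrank F V ∧
        ∀ u ∈ L', ∀ v ∈ L', B u v = 0 := by
  have hskew : ∀ u v, B u v = - B v u := by
    intro u v
    have h := halt (u + v)
    simp only [map_add, LinearMap.add_apply, halt, zero_add, add_zero] at h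
    exact eq_neg_of_add_eq_zero_left (by rw [add_comm]; exact h)
  intro n
  induction n using Nat.strong_induction_on with
  | _ n ih =>
    intro L hn hL
    have hle : L ≤ B.orthogonal L := by
      intro x hx
      rw [LinearMap.BilinForm.mem_orthogonal_iff]
      intro y hy
      exact hL y hy x hx
    by_cases heq : B.orthogonal L ≤ L
    · refine ⟨L, le_rfl, ?_, hL⟩
      have h1 := LinearMap.BilinForm.finrank_orthogonal hnd L
      have h2 : B.orthogonal L = L := le_antisymm heq hle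
      rw [h2] at h1
      have h3 := Submodule.finrank_le L
      omega
    · obtain ⟨v, hv, hvL⟩ := Set.not_subset.1 heq
      have hvL' : ∀ l ∈ L, B l v = 0 := fun l hl => hv l hl
      set L₁ : Submodule F V := L ⊔ Submodule.span F {v} with hL₁
      have hlt : L < L₁ := by
        refine lt_of_le_of_ne le_sup_left ?_
        intro h
        apply hvL
        show v ∈ L
        rw [h]
        exact Submodule.mem_sup_right (Submodule.mem_span_singleton_self v)
      have hfr : Module.finrank F L < Module.finrank F L₁ := Submodule.finrank_lt_finrank_of_lt hlt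
      have hL₁ti : ∀ u ∈ L₁, ∀ w ∈ L₁, B u w = 0 := by
        intro u hu w hw
        obtain ⟨l, hl, z, hz, rfl⟩ := Submodule.mem_sup.1 hu
        obtain ⟨l', hl', z', hz', rfl⟩ := Submodule.mem_sup.1 hw
        obtain ⟨a, rfl⟩ := Submodule.mem_span_singleton.1 hz
        obtain ⟨b, rfl⟩ := Submodule.mem_span_singleton.1 hz'
        simp only [map_add, LinearMap.add_apply, map_smul, LinearMap.smul_apply, smul_eq_mul]
        rw [hL l hl l' hl', hvL' l hl, hskew v l', hvL' l' hl', halt v]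
        ring
      have h3 := Submodule.finrank_le L₁
      obtain ⟨L', hL', h2, hti⟩ := ih (Module.finrank F V - Module.finrank F L₁) (by omega) L₁ rfl hL₁ti
      exact ⟨L', le_trans hlt.le hL', h2, hti⟩

/-- a nondegenerate alternating space has a Lagrangian (totally isotropic of half the dimension) -/
theorem exists_lagrangian {V : Type*} [AddCommGroup V] [Module F V] [FiniteDimensional F V]
    (B : LinearMap.BilinForm F V) (halt : ∀ v, B v v = 0) (hnd : B.Nondegenerate) :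
    ∃ L : Submodule F V, 2 * Module.finrank F L = Module.finrank F V ∧
      ∀ u ∈ L, ∀ v ∈ L, B u v = 0 := by
  obtain ⟨L', -, h2, hti⟩ := exists_lagrangian_ge B halt hnd _ ⊥ rfl (by
    intro u hu v _
    rw [(Submodule.mem_bot F).1 hu, map_zero, LinearMap.zero_apply])
  exact ⟨L', h2, hti⟩

section mat

variable {κ : Type} [Fintype κ] [DecidableEq κ]

theorem skew_dot (G : Matrix κ κ F) (hskew : Gᵀ = -G) (u w : κ → F) :
    u ⬝ᵥ G *ᵥ w = -(w ⬝ᵥ G *ᵥ u) := by
  rw [Matrix.dotProduct_mulVec, ← Matrix.mulVec_transpose, hskew, Matrix.neg_mulVec, neg_dotProduct,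
    dotProduct_comm]

/-- an alternating matrix (zero diagonal, skew-symmetric) gives an alternating form, in every characteristic -/
theorem alt_self (G : Matrix κ κ F) (hdiag : ∀ i, G i i = 0) (hskew : Gᵀ = -G) (v : κ → F) :
    v ⬝ᵥ G *ᵥ v = 0 := by
  let S : Submodule F (κ → F) :=
    { carrier := {v | v ⬝ᵥ G *ᵥ v = 0}
      zero_mem' := by simp
      add_mem' := by
        intro u w hu hw
        simp only [Set.mem_ofPred_eq] at hu hw ⊢
        rw [Matrix.mulVec_add, add_dotProduct, dotProduct_add, dotProduct_add, hu, hw,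
          skew_dot G hskew w u]
        ring
      smul_mem' := by
        intro c u hu
        simp only [Set.mem_ofPred_eq] at hu ⊢
        rw [Matrix.mulVec_smul, smul_dotProduct, dotProduct_smul, hu]
        simp }
  have hmem : ∀ i : κ, (Pi.single i (1 : F) : κ → F) ∈ S := by
    intro i
    show (Pi.single i (1 : F) : κ → F) ⬝ᵥ G *ᵥ (Pi.single i (1 : F)) = 0
    simp [hdiag]
  have hv : v = ∑ i, v i • (Pi.single i (1 : F) : κ → F) := by
    ext j
    simp [Finset.sum_apply, Pi.single_apply]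
  have : v ∈ S := by
    rw [hv]
    exact Submodule.sum_mem _ fun i _ => Submodule.smul_mem _ _ (hmem i)
  exact this

/-- a Lagrangian for an invertible alternating matrix -/
theorem exists_lagrangian_mat (G : Matrix κ κ F) (hdiag : ∀ i, G i i = 0) (hskew : Gᵀ = -G)
    (hdet : IsUnit G.det) :
    ∃ L : Submodule F (κ → F), 2 * Module.finrank F L = Fintype.card κ ∧
      ∀ u ∈ L, ∀ v ∈ L, u ⬝ᵥ G *ᵥ v = 0 := by
  have hnd : (Matrix.toBilin' G).Nondegenerate :=
    LinearMap.BilinForm.nondegenerate_toBilin'_of_det_ne_zero' G hdet.ne_zero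
  obtain ⟨L, h2, hti⟩ := exists_lagrangian (Matrix.toBilin' G)
    (fun v => by rw [Matrix.toBilin'_apply']; exact alt_self G hdiag hskew v) hnd
  refine ⟨L, ?_, ?_⟩
  · rw [h2, Module.finrank_fintype_fun_eq_card]
  · intro u hu v hv
    have := hti u hu v hv
    rwa [Matrix.toBilin'_apply'] at this

end mat

section slab

variable {κ₁ κ₂ : Type} [Fintype κ₁] [DecidableEq κ₁] [Fintype κ₂] [DecidableEq κ₂]

/-- `L ⊗ F^κ₂` inside `F^κ₁ ⊗ F^κ₂` -/
def slab (L : Submodule F (κ₁ → F)) : Submodule F (κ₁ × κ₂ → F) where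
  carrier := {x | ∀ j, (fun a => x (a, j)) ∈ L}
  zero_mem' := fun j => L.zero_mem
  add_mem' := fun hx hy j => L.add_mem (hx j) (hy j)
  smul_mem' := fun c _ hx j => L.smul_mem c (hx j)

theorem mem_slab (L : Submodule F (κ₁ → F)) (x : κ₁ × κ₂ → F) :
    x ∈ slab (κ₂ := κ₂) L ↔ ∀ j, (fun a => x (a, j)) ∈ L := Iff.rfl

/-- the pure tensor `u ⊗ y` -/
def pureT (u : κ₁ → F) (y : κ₂ → F) : κ₁ × κ₂ → F := fun p => u p.1 * y p.2

theorem pureT_apply (u : κ₁ → F) (y : κ₂ → F) (p : κ₁ × κ₂) : pureT u y p = u p.1 * y p.2 := rfl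

theorem pureT_mem_slab (L : Submodule F (κ₁ → F)) (u : κ₁ → F) (hu : u ∈ L) (y : κ₂ → F) :
    pureT u y ∈ slab (κ₂ := κ₂) L := by
  intro j
  have : (fun a => pureT u y (a, j)) = y j • u := by
    ext a
    simp [pureT, mul_comm]
  rw [this]
  exact L.smul_mem _ hu

theorem eq_sum_pureT (x : κ₁ × κ₂ → F) :
    x = ∑ j, pureT (fun a => x (a, j)) (Pi.single j (1 : F)) := by
  ext ⟨a, k⟩
  simp [Finset.sum_apply, pureT, Pi.single_apply]

theorem slab_le_span (L : Submodule F (κ₁ → F)) :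
    slab (κ₂ := κ₂) L ≤ Submodule.span F {x | ∃ u ∈ L, ∃ y : κ₂ → F, x = pureT u y} := by
  intro x hx
  rw [eq_sum_pureT x]
  exact Submodule.sum_mem _ fun j _ => Submodule.subset_span ⟨_, hx j, _, rfl⟩

/-- `L ⊗ F^κ₂ ≃ L^κ₂` -/
def slabEquiv (L : Submodule F (κ₁ → F)) : (κ₂ → L) ≃ₗ[F] slab (κ₂ := κ₂) L where
  toFun z := ⟨fun p => (z p.2 : κ₁ → F) p.1, fun j => (z j).2⟩
  invFun x := fun j => ⟨fun a => x.1 (a, j), x.2 j⟩
  map_add' z w := by ext p; rfl
  map_smul' c z := by ext p; rfl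
  left_inv z := by ext j a; rfl
  right_inv x := by ext p; rfl

theorem finrank_slab (L : Submodule F (κ₁ → F)) :
    Module.finrank F (slab (κ₂ := κ₂) L) = Fintype.card κ₂ * Module.finrank F L := by
  rw [← (slabEquiv (κ₂ := κ₂) L).finrank_eq, Module.finrank_pi_fintype]
  simp

/-- the Kronecker form in terms of the slices -/
theorem kron_form (G₁ : Matrix κ₁ κ₁ F) (G₂ : Matrix κ₂ κ₂ F) (x y : κ₁ × κ₂ → F) :
    x ⬝ᵥ (G₁ ⊗ₖ G₂) *ᵥ y =
      ∑ j, ∑ k, G₂ j k * ((fun a => x (a, j)) ⬝ᵥ G₁ *ᵥ (fun b => y (b, k))) := by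
  simp only [dotProduct, Matrix.mulVec, Fintype.sum_prod_type, Matrix.kroneckerMap_apply,
    Finset.mul_sum]
  rw [Finset.sum_comm]
  refine Finset.sum_congr rfl fun j _ => ?_
  calc ∑ a, ∑ b, ∑ k, x (a, j) * (G₁ a b * G₂ j k * y (b, k))
      = ∑ a, ∑ k, ∑ b, x (a, j) * (G₁ a b * G₂ j k * y (b, k)) :=
        Finset.sum_congr rfl fun a _ => Finset.sum_comm
    _ = ∑ k, ∑ a, ∑ b, x (a, j) * (G₁ a b * G₂ j k * y (b, k)) := Finset.sum_comm
    _ = _ := by
        refine Finset.sum_congr rfl fun k _ => Finset.sum_congr rfl fun a _ =>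
          Finset.sum_congr rfl fun b _ => ?_
        ring

theorem pureT_form (G₁ : Matrix κ₁ κ₁ F) (G₂ : Matrix κ₂ κ₂ F) (u u' : κ₁ → F) (y y' : κ₂ → F) :
    pureT u y ⬝ᵥ (G₁ ⊗ₖ G₂) *ᵥ pureT u' y' = (u ⬝ᵥ G₁ *ᵥ u') * (y ⬝ᵥ G₂ *ᵥ y') := by
  rw [kron_form]
  have h1 : ∀ j k, ((fun a => pureT u y (a, j)) ⬝ᵥ G₁ *ᵥ (fun b => pureT u' y' (b, k)))
      = y j * y' k * (u ⬝ᵥ G₁ *ᵥ u') := by
    intro j k
    have e1 : (fun a => pureT u y (a, j)) = y j • u := by ext a; simp [pureT, mul_comm]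
    have e2 : (fun b => pureT u' y' (b, k)) = y' k • u' := by ext a; simp [pureT, mul_comm]
    rw [e1, e2, Matrix.mulVec_smul, smul_dotProduct, dotProduct_smul]
    simp only [smul_eq_mul]
    ring
  simp only [h1]
  generalize u ⬝ᵥ G₁ *ᵥ u' = c
  simp only [dotProduct, Matrix.mulVec, Finset.mul_sum]
  refine Finset.sum_congr rfl fun j _ => Finset.sum_congr rfl fun k _ => ?_
  ring

/-- the Kronecker form vanishes on `L ⊗ F^κ₂` for `L` totally isotropic -/
theorem slab_form_zero (G₁ : Matrix κ₁ κ₁ F) (G₂ : Matrix κ₂ κ₂ F) (L : Submodule F (κ₁ → F))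
    (hL : ∀ u ∈ L, ∀ v ∈ L, u ⬝ᵥ G₁ *ᵥ v = 0) (x y : κ₁ × κ₂ → F)
    (hx : x ∈ slab (κ₂ := κ₂) L) (hy : y ∈ slab (κ₂ := κ₂) L) :
    x ⬝ᵥ (G₁ ⊗ₖ G₂) *ᵥ y = 0 := by
  rw [kron_form]
  refine Finset.sum_eq_zero fun j _ => Finset.sum_eq_zero fun k _ => ?_
  rw [hL _ (hx j) _ (hy k), mul_zero]

end slab

section final

variable {ι : Type} [Fintype ι] [DecidableEq ι]

/-- a subspace spanned by singular vectors on which the polar form vanishes is totally singular -/
theorem ts_of_span (Q : (ι → F) → F) (hQ : IsNondegenerateQuadraticForm Q)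
    (U : Submodule F (ι → F)) (S : Set (ι → F)) (hS : U ≤ Submodule.span F S) (hSU : S ⊆ U)
    (hpol : ∀ u ∈ U, ∀ v ∈ U, QuadraticMap.polar Q u v = 0) (hQS : ∀ v ∈ S, Q v = 0) :
    ∀ u ∈ U, Q u = 0 := by
  have key : ∀ u ∈ Submodule.span F S, u ∈ U ∧ Q u = 0 := by
    intro u hu
    induction hu using Submodule.span_induction with
    | mem x hx => exact ⟨hSU hx, hQS x hx⟩
    | zero =>
      refine ⟨U.zero_mem, ?_⟩
      have := hQ.smul 0 0
      simpa using this
    | add x y _ _ hx hy =>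
      refine ⟨U.add_mem hx.1 hy.1, ?_⟩
      have h := hpol x hx.1 y hy.1
      rw [QuadraticMap.polar, hx.2, hy.2] at h
      simpa using h
    | smul c x _ hx =>
      refine ⟨U.smul_mem c hx.1, ?_⟩
      rw [hQ.smul, hx.2, mul_zero]
  exact fun u hu => (key u (hS hu)).2

variable {κ : Type} [Fintype κ] [DecidableEq κ]

/-- coordinates `x ↦ P (x ∘ e)` -/
noncomputable def lmap (e : ι ≃ κ) (P : GL ι F) : (κ → F) →ₗ[F] (ι → F) :=
  (Matrix.toLin' (P : Matrix ι ι F)).comp (LinearMap.funLeft F F e)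

theorem lmap_apply (e : ι ≃ κ) (P : GL ι F) (x : κ → F) :
    lmap e P x = (P : Matrix ι ι F) *ᵥ (x ∘ e) := rfl

theorem lmap_injective (e : ι ≃ κ) (P : GL ι F) : Function.Injective (lmap e P) := by
  intro x y hxy
  rw [lmap_apply, lmap_apply] at hxy
  have h1 := congrArg (fun v => ((P⁻¹ : GL ι F) : Matrix ι ι F) *ᵥ v) hxy
  simp only [Matrix.mulVec_mulVec] at h1
  rw [← Units.val_mul, inv_mul_cancel, Units.val_one, Matrix.one_mulVec, Matrix.one_mulVec] at h1
  funext k
  have := congrFun h1 (e.symm k)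
  simpa using this

/-- the final step: a subspace of half the dimension in the coordinates `(e, P)` on which `Q` vanishes -/
theorem plus_of_sub (Q : (ι → F) → F) (e : ι ≃ κ) (P : GL ι F) (U₀ : Submodule F (κ → F))
    (hdim : 2 * Module.finrank F U₀ = Fintype.card κ)
    (hz : ∀ x ∈ U₀, Q ((P : Matrix ι ι F) *ᵥ (x ∘ e)) = 0) : IsPlusTypeOn Q ⊤ := by
  refine ⟨U₀.map (lmap e P), le_top, ?_, ?_⟩
  · rintro _ ⟨x, hx, rfl⟩
    exact hz x hx
  · rw [LinearEquiv.finrank_eq (Submodule.equivMapOfInjective (lmap e P) (lmap_injective e P) U₀).symm,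
      hdim, finrank_top, Module.finrank_fintype_fun_eq_card, Fintype.card_congr e]

variable {κ₁ κ₂ : Type} [Fintype κ₁] [DecidableEq κ₁] [Fintype κ₂] [DecidableEq κ₂]

/-- **plus type from pure tensors**: if in the coordinates `(e, P)` the polar form of `Q` is `G₁ ⊗ G₂` with `G₁`
alternating and invertible, and `Q` vanishes on all pure tensors, then `Q` has plus type
(`L₁ ⊗ F^κ₂` is totally singular for a Lagrangian `L₁` of `G₁`).  Every characteristic. -/
theorem ts_of_pure (Q : (ι → F) → F) (hQ : IsNondegenerateQuadraticForm Q)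
    (e : ι ≃ κ₁ × κ₂) (P : GL ι F) (G₁ : Matrix κ₁ κ₁ F) (G₂ : Matrix κ₂ κ₂ F)
    (hform : ∀ x y : κ₁ × κ₂ → F,
      QuadraticMap.polar Q ((P : Matrix ι ι F) *ᵥ (x ∘ e)) ((P : Matrix ι ι F) *ᵥ (y ∘ e))
        = x ⬝ᵥ (G₁ ⊗ₖ G₂) *ᵥ y)
    (hdiag : ∀ i, G₁ i i = 0) (hskew : G₁ᵀ = -G₁) (hdet : IsUnit G₁.det)
    (hpure : ∀ (u : κ₁ → F) (y : κ₂ → F),
      Q ((P : Matrix ι ι F) *ᵥ ((fun p : κ₁ × κ₂ => u p.1 * y p.2) ∘ e)) = 0) :
    IsPlusTypeOn Q ⊤ := by
  obtain ⟨L, hLdim, hL⟩ := exists_lagrangian_mat G₁ hdiag hskew hdet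
  refine plus_of_sub Q e P (slab (κ₂ := κ₂) L) ?_ ?_
  · rw [finrank_slab, Fintype.card_prod, ← hLdim]
    ring
  · intro x hx
    have hmain := ts_of_span Q hQ ((slab (κ₂ := κ₂) L).map (lmap e P))
      ((lmap e P) '' {x | ∃ u ∈ L, ∃ y : κ₂ → F, x = pureT u y}) ?_ ?_ ?_ ?_
      (lmap e P x) (Submodule.mem_map_of_mem hx)
    · exact hmain
    · rw [← Submodule.map_span]
      exact Submodule.map_mono (slab_le_span L)
    · rintro _ ⟨x, ⟨u, hu, y, rfl⟩, rfl⟩
      exact Submodule.mem_map_of_mem (pureT_mem_slab L u hu y)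
    · rintro _ ⟨x, hx, rfl⟩ _ ⟨y, hy, rfl⟩
      rw [lmap_apply, lmap_apply, hform]
      exact slab_form_zero G₁ G₂ L hL x y hx hy
    · rintro _ ⟨x, ⟨u, hu, y, rfl⟩, rfl⟩
      exact hpure u y

end final

end Cfsg.Agent.Lib.Helper34_OrthEven_TS
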