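import Mathlib
import Cfsg.Agent.Lib.Helper40_PrimeOrderClasses

set_option autoImplicit false

/-!
Matrices whose square is a scalar (odd characteristic): eigenspace dimensions, the
class invariant used to count involution classes of `PGL_n(q)`.
-/

namespace Cfsg.Agent.Lib.Helper40_PGLInvol

open Polynomial Module Matrix Cfsg.Agent.Lib.Helper40_SemisimpleGL

universe v

variable {F : Type v} [Field F] {n : ℕ}

/-- dimension of the `l`-eigenspace of `A` -/
noncomputable def eigDim (A : Matrix (Fin n) (Fin n) F) (l : F) : ℕ :=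
  n - (A - l • (1 : Matrix (Fin n) (Fin n) F)).rank

theorem eigDim_conj (A P Q : Matrix (Fin n) (Fin n) F) (hPQ : P * Q = 1) (l : F) :
    eigDim (P * A * Q) l = eigDim A l := by
  unfold eigDim
  have hP : IsUnit P.det := by
    have h := congrArg Matrix.det hPQ
    rw [Matrix.det_mul, Matrix.det_one] at h
    exact IsUnit.of_mul_eq_one _ h
  have hQ : IsUnit Q.det := by
    have h := congrArg Matrix.det hPQ
    rw [Matrix.det_mul, Matrix.det_one, mul_comm] at h
    exact IsUnit.of_mul_eq_one _ h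
  have h1 : P * A * Q - l • (1 : Matrix (Fin n) (Fin n) F) =
      P * (A - l • (1 : Matrix (Fin n) (Fin n) F)) * Q := by
    rw [Matrix.mul_sub, Matrix.sub_mul, Matrix.mul_smul, Matrix.mul_one, Matrix.smul_mul, hPQ]
  rw [h1, Matrix.rank_mul_eq_left_of_isUnit_det _ _ hQ,
    Matrix.rank_mul_eq_right_of_isUnit_det _ _ hP]

theorem eigDim_smul (A : Matrix (Fin n) (Fin n) F) (m l : F) (hm : m ≠ 0) :
    eigDim (m • A) (m * l) = eigDim A l := by
  unfold eigDim
  have h1 : m • A - (m * l) • (1 : Matrix (Fin n) (Fin n) F) =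
      m • (A - l • (1 : Matrix (Fin n) (Fin n) F)) := by
    rw [smul_sub, smul_smul]
  rw [h1, Matrix.rank_smul_of_mem_nonZeroDivisors _ (mem_nonZeroDivisors_of_ne_zero hm)]

theorem eigDim_neg (A : Matrix (Fin n) (Fin n) F) (l : F) :
    eigDim (-A) l = eigDim A (-l) := by
  have h := eigDim_smul A (-1) (-l) (neg_ne_zero.2 one_ne_zero)
  rw [neg_one_smul, neg_one_mul, neg_neg] at h
  exact h

theorem eigDim_eq_finrank_ker (A : Matrix (Fin n) (Fin n) F) (l : F) :
    eigDim A l = finrank F (LinearMap.ker (Matrix.toLin' A - l • (1 : Module.End F (Fin n → F)))) := by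
  unfold eigDim
  have h1 : Matrix.toLin' A - l • (1 : Module.End F (Fin n → F)) =
      Matrix.toLin' (A - l • (1 : Matrix (Fin n) (Fin n) F)) := by
    rw [map_sub, map_smul, Matrix.toLin'_one]
    rfl
  rw [h1]
  have h2 := LinearMap.finrank_range_add_finrank_ker
    (Matrix.toLin' (A - l • (1 : Matrix (Fin n) (Fin n) F)))
  rw [Module.finrank_fin_fun] at h2
  have h3 : (A - l • (1 : Matrix (Fin n) (Fin n) F)).rank =
      finrank F (LinearMap.range (Matrix.toLin' (A - l • (1 : Matrix (Fin n) (Fin n) F)))) := by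
    rw [Matrix.rank, Matrix.toLin'_apply']
  omega

section abstract

variable {V : Type*} [AddCommGroup V] [Module F V]

theorem mem_eig (f : Module.End F V) (l : F) (x : V) :
    x ∈ LinearMap.ker (f - l • (1 : Module.End F V)) ↔ f x = l • x := by
  rw [LinearMap.mem_ker, LinearMap.sub_apply, LinearMap.smul_apply, Module.End.one_apply,
    sub_eq_zero]

theorem isCompl_eig (f : Module.End F V) (l : F) (hl : l ≠ 0) (h2 : (2 : F) ≠ 0)
    (hf : ∀ x, f (f x) = (l * l) • x) :
    IsCompl (LinearMap.ker (f - l • (1 : Module.End F V)))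
      (LinearMap.ker (f - (-l) • (1 : Module.End F V))) := by
  have h2l : (2 * l : F) ≠ 0 := mul_ne_zero h2 hl
  constructor
  · rw [Submodule.disjoint_def]
    intro x hx hx'
    rw [mem_eig] at hx hx'
    have h : (2 * l) • x = 0 := by
      have : l • x = (-l) • x := by rw [← hx, hx']
      rw [two_mul, add_smul]
      nth_rewrite 2 [this]
      rw [← add_smul, add_neg_cancel, zero_smul]
    exact (smul_eq_zero.1 h).resolve_left h2l
  · rw [codisjoint_iff, eq_top_iff]
    intro x _
    have hx : x = (2 * l)⁻¹ • (f x + l • x) + (2 * l)⁻¹ • (l • x - f x) := by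
      rw [← smul_add]
      have : f x + l • x + (l • x - f x) = (2 * l) • x := by
        rw [two_mul, add_smul]; abel
      rw [this, smul_smul, inv_mul_cancel₀ h2l, one_smul]
    rw [hx]
    apply Submodule.add_mem_sup
    · apply Submodule.smul_mem
      rw [mem_eig, map_add, map_smul, hf, smul_add, smul_smul]
      rw [add_comm]
    · apply Submodule.smul_mem
      rw [mem_eig, map_sub, map_smul, hf, smul_sub, smul_smul, neg_smul, neg_mul, neg_smul]
      abel

theorem exists_conj_of_eig [FiniteDimensional F V] (f g : Module.End F V) (l : F) (hl : l ≠ 0)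
    (h2 : (2 : F) ≠ 0) (hf : ∀ x, f (f x) = (l * l) • x) (hg : ∀ x, g (g x) = (l * l) • x)
    (hp : finrank F (LinearMap.ker (f - l • (1 : Module.End F V))) =
      finrank F (LinearMap.ker (g - l • (1 : Module.End F V))))
    (hm : finrank F (LinearMap.ker (f - (-l) • (1 : Module.End F V))) =
      finrank F (LinearMap.ker (g - (-l) • (1 : Module.End F V)))) :
    ∃ e : V ≃ₗ[F] V, ∀ x, e (f x) = g (e x) := by
  have cf := isCompl_eig f l hl h2 hf
  have cg := isCompl_eig g l hl h2 hg
  let ep := LinearEquiv.ofFinrankEq _ _ hp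
  let em := LinearEquiv.ofFinrankEq _ _ hm
  let e : V ≃ₗ[F] V := (Submodule.prodEquivOfIsCompl _ _ cf).symm ≪≫ₗ (ep.prodCongr em) ≪≫ₗ
    (Submodule.prodEquivOfIsCompl _ _ cg)
  refine ⟨e, ?_⟩
  intro x
  obtain ⟨⟨xp, xm⟩, rfl⟩ := (Submodule.prodEquivOfIsCompl _ _ cf).surjective x
  have h1 : f (Submodule.prodEquivOfIsCompl _ _ cf (xp, xm)) =
      Submodule.prodEquivOfIsCompl _ _ cf (l • xp, (-l) • xm) := by
    rw [Submodule.coe_prodEquivOfIsCompl', Submodule.coe_prodEquivOfIsCompl', map_add,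
      (mem_eig f l _).1 xp.2, (mem_eig f (-l) _).1 xm.2]
    rfl
  rw [h1]
  have h2 : ∀ y, e (Submodule.prodEquivOfIsCompl _ _ cf y) =
      Submodule.prodEquivOfIsCompl _ _ cg (ep y.1, em y.2) := by
    intro y
    show Submodule.prodEquivOfIsCompl _ _ cg ((ep.prodCongr em)
      ((Submodule.prodEquivOfIsCompl _ _ cf).symm (Submodule.prodEquivOfIsCompl _ _ cf y))) = _
    rw [LinearEquiv.symm_apply_apply]
    rfl
  rw [h2, h2]
  simp only [map_smul]
  rw [Submodule.coe_prodEquivOfIsCompl', Submodule.coe_prodEquivOfIsCompl', map_add,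
    (mem_eig g l _).1 (ep xp).2, (mem_eig g (-l) _).1 (em xm).2]
  rfl

end abstract

theorem eigDim_add (A : Matrix (Fin n) (Fin n) F) (l : F) (hl : l ≠ 0) (h2 : (2 : F) ≠ 0)
    (hA : A * A = (l * l) • (1 : Matrix (Fin n) (Fin n) F)) :
    eigDim A l + eigDim A (-l) = n := by
  rw [eigDim_eq_finrank_ker, eigDim_eq_finrank_ker]
  have hf : ∀ x, Matrix.toLin' A (Matrix.toLin' A x) = (l * l) • x := by
    intro x
    rw [← LinearMap.comp_apply, ← Matrix.toLin'_mul, hA, map_smul, Matrix.toLin'_one]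
    rfl
  have h := Submodule.finrank_add_eq_of_isCompl (isCompl_eig (Matrix.toLin' A) l hl h2 hf)
  rw [h, Module.finrank_fin_fun]

/-- an intertwining linear equivalence gives a conjugating element of `GL` -/
theorem exists_GL_of_linearEquiv (A B : Matrix (Fin n) (Fin n) F)
    (e : (Fin n → F) ≃ₗ[F] (Fin n → F))
    (he : ∀ x, e (Matrix.toLin' A x) = Matrix.toLin' B (e x)) :
    ∃ P : GL (Fin n) F, (P : Matrix (Fin n) (Fin n) F) * A = B * P := by
  let P : Matrix (Fin n) (Fin n) F := LinearMap.toMatrix' (e : (Fin n → F) →ₗ[F] (Fin n → F))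
  let Q : Matrix (Fin n) (Fin n) F :=
    LinearMap.toMatrix' (e.symm : (Fin n → F) →ₗ[F] (Fin n → F))
  have hPQ : P * Q = 1 := by
    rw [← LinearMap.toMatrix'_comp, ← LinearMap.toMatrix'_id]
    congr 1
    ext x : 1
    simp
  have hQP : Q * P = 1 := by
    rw [← LinearMap.toMatrix'_comp, ← LinearMap.toMatrix'_id]
    congr 1
    ext x : 1
    simp
  refine ⟨⟨P, Q, hPQ, hQP⟩, ?_⟩
  show P * A = B * P
  have h1 : P * A = LinearMap.toMatrix' ((e : (Fin n → F) →ₗ[F] (Fin n → F)) ∘ₗ Matrix.toLin' A) := by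
    rw [LinearMap.toMatrix'_comp, LinearMap.toMatrix'_toLin']
  have h2 : B * P = LinearMap.toMatrix' (Matrix.toLin' B ∘ₗ (e : (Fin n → F) →ₗ[F] (Fin n → F))) := by
    rw [LinearMap.toMatrix'_comp, LinearMap.toMatrix'_toLin']
  rw [h1, h2]
  congr 1
  apply LinearMap.ext
  intro x
  exact he x

theorem toLin'_sq (A : Matrix (Fin n) (Fin n) F) (z : F)
    (hA : A * A = z • (1 : Matrix (Fin n) (Fin n) F)) (x : Fin n → F) :
    Matrix.toLin' A (Matrix.toLin' A x) = z • x := by
  rw [← LinearMap.comp_apply, ← Matrix.toLin'_mul, hA, map_smul, Matrix.toLin'_one]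
  rfl

theorem exists_GL_conj_of_eigDim (A B : Matrix (Fin n) (Fin n) F) (l : F) (hl : l ≠ 0)
    (h2 : (2 : F) ≠ 0) (hA : A * A = (l * l) • (1 : Matrix (Fin n) (Fin n) F))
    (hB : B * B = (l * l) • (1 : Matrix (Fin n) (Fin n) F))
    (hp : eigDim A l = eigDim B l) (hm : eigDim A (-l) = eigDim B (-l)) :
    ∃ P : GL (Fin n) F, (P : Matrix (Fin n) (Fin n) F) * A = B * P := by
  rw [eigDim_eq_finrank_ker, eigDim_eq_finrank_ker] at hp hm
  obtain ⟨e, he⟩ := exists_conj_of_eig (Matrix.toLin' A) (Matrix.toLin' B) l hl h2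
    (toLin'_sq A _ hA) (toLin'_sq B _ hB) hp hm
  exact exists_GL_of_linearEquiv A B e he

/-- a monic polynomial all of whose irreducible factors divide the monic irreducible `P`
is a power of `P` -/
theorem eq_pow_of_forall_irreducible_dvd (P : F[X]) (hPm : P.Monic) (hPi : Irreducible P) :
    ∀ (d : ℕ) (c : F[X]), c.Monic → c.natDegree = d →
      (∀ f, Irreducible f → f ∣ c → f ∣ P) → ∃ k, c = P ^ k := by
  intro d
  induction d using Nat.strong_induction_on with
  | _ d ih =>
  intro c hc hd hall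
  rcases Nat.eq_zero_or_pos d with hd0 | hdpos
  · subst hd0
    exact ⟨0, by rw [pow_zero]; exact eq_one_of_monic_natDegree_zero hc hd⟩
  · have hnu : ¬ IsUnit c := by
      intro hu
      have := natDegree_eq_zero_of_isUnit hu
      omega
    obtain ⟨f, hfm, hfi, c', rfl⟩ := exists_monic_irreducible_factor c hnu
    have hfP : f = P := by
      have h1 : f ∣ P := hall f hfi (dvd_mul_right f c')
      exact eq_of_monic_of_associated hfm hPm (hfi.associated_of_dvd hPi h1)
    have hc'm : c'.Monic := hfm.of_mul_monic_left hc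
    have hdeg : (f * c').natDegree = f.natDegree + c'.natDegree := hfm.natDegree_mul hc'm
    have hfpos : 0 < f.natDegree := hfi.natDegree_pos
    obtain ⟨k, hk⟩ := ih c'.natDegree (by omega) c' hc'm rfl
      (fun g hg hgc => hall g hg (dvd_mul_of_dvd_right hgc f))
    exact ⟨k + 1, by rw [hk, hfP, pow_succ, mul_comm]⟩

theorem irreducible_X_sq_sub_C (z : F) (hz : ¬ IsSquare z) :
    Irreducible ((X : F[X]) ^ 2 - C z) := by
  apply X_pow_sub_C_irreducible_of_prime Nat.prime_two
  intro b hb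
  exact hz ⟨b, by rw [← hb, sq]⟩

theorem aeval_X_sq_sub_C (A : Matrix (Fin n) (Fin n) F) (z : F) :
    aeval A ((X : F[X]) ^ 2 - C z) = A * A - z • (1 : Matrix (Fin n) (Fin n) F) := by
  rw [map_sub, map_pow, aeval_X, aeval_C, sq, Algebra.algebraMap_eq_smul_one]

theorem charpoly_of_sq_nonsquare (A : Matrix (Fin n) (Fin n) F) (z : F) (hz : ¬ IsSquare z)
    (hA : A * A = z • (1 : Matrix (Fin n) (Fin n) F)) :
    ∃ k, n = 2 * k ∧ A.charpoly = ((X : F[X]) ^ 2 - C z) ^ k := by
  have hirr := irreducible_X_sq_sub_C z hz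
  have hmonic : ((X : F[X]) ^ 2 - C z).Monic := monic_X_pow_sub_C z (by norm_num)
  have hae : aeval A ((X : F[X]) ^ 2 - C z) = 0 := by
    rw [aeval_X_sq_sub_C, hA, sub_self]
  obtain ⟨k, hk⟩ := eq_pow_of_forall_irreducible_dvd _ hmonic hirr n A.charpoly
    (Matrix.charpoly_monic A) (by rw [Matrix.charpoly_natDegree_eq_dim, Fintype.card_fin])
    (fun f hf hfd =>
      Helper40_PrimeOrderClasses.dvd_of_irreducible_of_dvd_charpoly A _ hae f hf hfd)
  refine ⟨k, ?_, hk⟩
  have h1 := congrArg natDegree hk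
  rw [Matrix.charpoly_natDegree_eq_dim, Fintype.card_fin, natDegree_pow,
    natDegree_X_pow_sub_C] at h1
  omega

theorem exists_GL_conj_of_nonsquare (A B : Matrix (Fin n) (Fin n) F) (z : F) (hz : ¬ IsSquare z)
    (hA : A * A = z • (1 : Matrix (Fin n) (Fin n) F))
    (hB : B * B = z • (1 : Matrix (Fin n) (Fin n) F)) :
    ∃ P : GL (Fin n) F, (P : Matrix (Fin n) (Fin n) F) * A = B * P := by
  have hirr := irreducible_X_sq_sub_C z hz
  obtain ⟨k, hk, hcA⟩ := charpoly_of_sq_nonsquare A z hz hA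
  obtain ⟨j, hj, hcB⟩ := charpoly_of_sq_nonsquare B z hz hB
  have hkj : k = j := by omega
  apply exists_GL_conj A B
  · apply isSS_of_squarefree_aeval_eq_zero A _ hirr.squarefree
    rw [aeval_X_sq_sub_C, hA, sub_self]
  · apply isSS_of_squarefree_aeval_eq_zero B _ hirr.squarefree
    rw [aeval_X_sq_sub_C, hB, sub_self]
  · rw [hcA, hcB, hkj]

open Classical in
/-- the class invariant: `0` if `A * A` is not a nonzero square scalar, otherwise the smaller
of the two eigenspace dimensions -/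
noncomputable def nu (A : Matrix (Fin n) (Fin n) F) : ℕ :=
  if h : ∃ l : F, l ≠ 0 ∧ A * A = (l * l) • (1 : Matrix (Fin n) (Fin n) F) then
    min (eigDim A h.choose) (eigDim A (-h.choose)) else 0

theorem smul_one_inj (hn : 0 < n) (a b : F)
    (h : a • (1 : Matrix (Fin n) (Fin n) F) = b • (1 : Matrix (Fin n) (Fin n) F)) : a = b := by
  have := congrFun (congrFun h ⟨0, hn⟩) ⟨0, hn⟩
  simpa using this

theorem nu_eq (A : Matrix (Fin n) (Fin n) F) (l : F) (hl : l ≠ 0)
    (hA : A * A = (l * l) • (1 : Matrix (Fin n) (Fin n) F)) :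
    nu A = min (eigDim A l) (eigDim A (-l)) := by
  rcases Nat.eq_zero_or_pos n with hn | hn
  · subst hn
    unfold nu eigDim
    split_ifs <;> simp
  · have h : ∃ l : F, l ≠ 0 ∧ A * A = (l * l) • (1 : Matrix (Fin n) (Fin n) F) := ⟨l, hl, hA⟩
    unfold nu
    rw [dif_pos h]
    obtain ⟨_, hc⟩ := h.choose_spec
    have := smul_one_inj hn _ _ (hc.symm.trans hA)
    rcases mul_self_eq_mul_self_iff.1 this with h1 | h1
    · rw [h1]
    · rw [h1, neg_neg, min_comm]

theorem nu_eq_zero (A : Matrix (Fin n) (Fin n) F)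
    (h : ¬ ∃ l : F, l ≠ 0 ∧ A * A = (l * l) • (1 : Matrix (Fin n) (Fin n) F)) : nu A = 0 := by
  unfold nu
  rw [dif_neg h]

theorem nu_conj (A P Q : Matrix (Fin n) (Fin n) F) (hPQ : P * Q = 1) (hQP : Q * P = 1) :
    nu (P * A * Q) = nu A := by
  have key : ∀ (A P Q : Matrix (Fin n) (Fin n) F), Q * P = 1 → ∀ l : F,
      A * A = (l * l) • (1 : Matrix (Fin n) (Fin n) F) →
      (P * A * Q) * (P * A * Q) = (l * l) • (1 : Matrix (Fin n) (Fin n) F) → True := by
    intros; trivial
  have hsq : ∀ (A P Q : Matrix (Fin n) (Fin n) F), P * Q = 1 → Q * P = 1 → ∀ l : F,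
      A * A = (l * l) • (1 : Matrix (Fin n) (Fin n) F) →
      (P * A * Q) * (P * A * Q) = (l * l) • (1 : Matrix (Fin n) (Fin n) F) := by
    intro A P Q hPQ hQP l hA
    have : (P * A * Q) * (P * A * Q) = P * (A * ((Q * P) * A)) * Q := by
      simp only [Matrix.mul_assoc]
    rw [this, hQP, Matrix.one_mul, hA, Matrix.mul_smul, Matrix.mul_one, Matrix.smul_mul, hPQ]
  by_cases h : ∃ l : F, l ≠ 0 ∧ A * A = (l * l) • (1 : Matrix (Fin n) (Fin n) F)
  · obtain ⟨l, hl, hA⟩ := h
    rw [nu_eq _ l hl (hsq A P Q hPQ hQP l hA), nu_eq A l hl hA, eigDim_conj _ _ _ hPQ,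
      eigDim_conj _ _ _ hPQ]
  · rw [nu_eq_zero A h, nu_eq_zero]
    rintro ⟨l, hl, hA'⟩
    apply h
    refine ⟨l, hl, ?_⟩
    have := hsq (P * A * Q) Q P hQP hPQ l hA'
    have h2 : Q * (P * A * Q) * P = (Q * P) * A * (Q * P) := by
      simp only [Matrix.mul_assoc]
    rw [h2, hQP, Matrix.one_mul, Matrix.mul_one] at this
    exact this

theorem nu_smul (A : Matrix (Fin n) (Fin n) F) (m : F) (hm : m ≠ 0) : nu (m • A) = nu A := by
  have hsq : ∀ (A : Matrix (Fin n) (Fin n) F) (m l : F),
      A * A = (l * l) • (1 : Matrix (Fin n) (Fin n) F) →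
      (m • A) * (m • A) = ((m * l) * (m * l)) • (1 : Matrix (Fin n) (Fin n) F) := by
    intro A m l hA
    rw [Matrix.smul_mul, Matrix.mul_smul, hA, smul_smul, smul_smul]
    congr 1
    ring
  by_cases h : ∃ l : F, l ≠ 0 ∧ A * A = (l * l) • (1 : Matrix (Fin n) (Fin n) F)
  · obtain ⟨l, hl, hA⟩ := h
    rw [nu_eq _ (m * l) (mul_ne_zero hm hl) (hsq A m l hA), nu_eq A l hl hA, eigDim_smul _ _ _ hm,
      ← mul_neg, eigDim_smul _ _ _ hm]
  · rw [nu_eq_zero A h, nu_eq_zero]
    rintro ⟨l, hl, hA'⟩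
    apply h
    refine ⟨m⁻¹ * l, mul_ne_zero (inv_ne_zero hm) hl, ?_⟩
    have := hsq (m • A) m⁻¹ l hA'
    rwa [smul_smul, inv_mul_cancel₀ hm, one_smul] at this

/-- if the whole space is the `c`-eigenspace then `A` is the scalar `c` -/
theorem eq_smul_one_of_eigDim (A : Matrix (Fin n) (Fin n) F) (c : F) (h : eigDim A c = n) :
    A = c • (1 : Matrix (Fin n) (Fin n) F) := by
  rw [eigDim_eq_finrank_ker] at h
  have htop : LinearMap.ker (Matrix.toLin' A - c • (1 : Module.End F (Fin n → F))) = ⊤ := by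
    apply Submodule.eq_top_of_finrank_eq
    rw [h, Module.finrank_fin_fun]
  apply Matrix.toLin'.injective
  apply LinearMap.ext
  intro x
  have hx : x ∈ LinearMap.ker (Matrix.toLin' A - c • (1 : Module.End F (Fin n → F))) := by
    rw [htop]; trivial
  rw [mem_eig] at hx
  rw [hx, map_smul, Matrix.toLin'_one]
  rfl

/-- square case: the invariant lies between `1` and `n / 2` -/
theorem nu_bounds (A : Matrix (Fin n) (Fin n) F) (l : F) (hl : l ≠ 0) (h2 : (2 : F) ≠ 0)
    (hA : A * A = (l * l) • (1 : Matrix (Fin n) (Fin n) F))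
    (hns : ∀ c : F, A ≠ c • (1 : Matrix (Fin n) (Fin n) F)) :
    1 ≤ nu A ∧ 2 * nu A ≤ n := by
  have hadd := eigDim_add A l hl h2 hA
  rw [nu_eq A l hl hA]
  have h1 : eigDim A l ≠ n := fun h => hns l (eq_smul_one_of_eigDim A l h)
  have h3 : eigDim A (-l) ≠ n := fun h => hns (-l) (eq_smul_one_of_eigDim A (-l) h)
  constructor
  · rw [Nat.one_le_iff_ne_zero]
    intro h
    rcases Nat.min_eq_zero_iff.1 h with h | h <;> omega
  · rcases Nat.le_total (eigDim A l) (eigDim A (-l)) with h | h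
    · rw [min_eq_left h]; omega
    · rw [min_eq_right h]; omega

/-- nonsquare case: the invariant is `0` -/
theorem nu_of_nonsquare (hn : 0 < n) (A : Matrix (Fin n) (Fin n) F) (z : F) (hz : ¬ IsSquare z)
    (hA : A * A = z • (1 : Matrix (Fin n) (Fin n) F)) : nu A = 0 := by
  apply nu_eq_zero
  rintro ⟨l, _, hA'⟩
  exact hz ⟨l, smul_one_inj hn _ _ (hA.symm.trans hA')⟩

/-- nonsquare case: the dimension is even -/
theorem even_of_nonsquare (A : Matrix (Fin n) (Fin n) F) (z : F) (hz : ¬ IsSquare z)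
    (hA : A * A = z • (1 : Matrix (Fin n) (Fin n) F)) : Even n := by
  by_contra hodd
  rw [Nat.not_even_iff_odd] at hodd
  obtain ⟨m, hm⟩ := hodd
  have hz0 : z ≠ 0 := by
    rintro rfl
    exact hz ⟨0, by rw [mul_zero]⟩
  have h := congrArg Matrix.det hA
  rw [Matrix.det_mul, Matrix.det_smul, Matrix.det_one, mul_one, Fintype.card_fin] at h
  have hzn : z ^ n = (z ^ m) * (z ^ m) * z := by
    rw [hm, pow_succ, two_mul, pow_add]
  rw [hzn] at h
  apply hz
  refine ⟨A.det / z ^ m, ?_⟩
  have hzm : z ^ m ≠ 0 := pow_ne_zero _ hz0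
  field_simp
  rw [sq A.det, h]
  ring

/-- diagonal involutions with prescribed invariant -/
theorem exists_diag (k : ℕ) (hk1 : 1 ≤ k) (hk2 : 2 * k ≤ n) (h2 : (2 : F) ≠ 0) :
    ∃ D : Matrix (Fin n) (Fin n) F, D * D = 1 ∧
      (∀ c : F, D ≠ c • (1 : Matrix (Fin n) (Fin n) F)) ∧ nu D = k := by
  classical
  set d : Fin n → F := fun i => if (i : ℕ) < k then (-1 : F) else 1 with hd
  have hneg : (-1 : F) ≠ 1 := by
    intro h
    apply h2
    have : (1 : F) + 1 = 0 := by nth_rewrite 1 [← h]; exact neg_add_cancel 1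
    rw [← one_add_one_eq_two]; exact this
  have hDD : Matrix.diagonal d * Matrix.diagonal d = 1 := by
    rw [Matrix.diagonal_mul_diagonal, ← Matrix.diagonal_one]
    congr 1
    funext i
    simp only [hd]
    split_ifs <;> simp
  refine ⟨Matrix.diagonal d, hDD, ?_, ?_⟩
  · intro c hc
    have h0 := congrFun (congrFun hc ⟨0, by omega⟩) ⟨0, by omega⟩
    have h1 := congrFun (congrFun hc ⟨n - 1, by omega⟩) ⟨n - 1, by omega⟩
    simp only [Matrix.diagonal_apply_eq, Matrix.smul_apply, Matrix.one_apply_eq, smul_eq_mul,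
      mul_one, hd] at h0 h1
    rw [if_pos (by omega)] at h0
    rw [if_neg (by omega)] at h1
    exact hneg (h0.trans h1.symm)
  · have hA : Matrix.diagonal d * Matrix.diagonal d =
        ((1 : F) * 1) • (1 : Matrix (Fin n) (Fin n) F) := by
      rw [hDD, mul_one, one_smul]
    rw [nu_eq _ 1 one_ne_zero hA]
    have e1 : eigDim (Matrix.diagonal d) 1 = n - k := by
      unfold eigDim
      have : Matrix.diagonal d - (1 : F) • (1 : Matrix (Fin n) (Fin n) F) =
          Matrix.diagonal (fun i => d i - 1) := by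
        rw [one_smul, ← Matrix.diagonal_one, Matrix.diagonal_sub]
      rw [this, Matrix.rank_diagonal]
      have : Fintype.card {i : Fin n // d i - 1 ≠ 0} = Fintype.card {i : Fin n // (i : ℕ) < k} := by
        apply Fintype.card_congr
        apply Equiv.subtypeEquivRight
        intro i
        simp only [hd]
        split_ifs with h
        · simp only [h, iff_true]
          rw [sub_ne_zero]; exact hneg
        · simp [h]
      rw [this, Fintype.card_fin_lt_of_le (by omega)]
    have e2 : eigDim (Matrix.diagonal d) (-1) = k := by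
      unfold eigDim
      have : Matrix.diagonal d - (-1 : F) • (1 : Matrix (Fin n) (Fin n) F) =
          Matrix.diagonal (fun i => d i + 1) := by
        rw [neg_one_smul, sub_neg_eq_add, ← Matrix.diagonal_one, Matrix.diagonal_add]
      rw [this, Matrix.rank_diagonal]
      have : Fintype.card {i : Fin n // d i + 1 ≠ 0} =
          Fintype.card {i : Fin n // ¬ (i : ℕ) < k} := by
        apply Fintype.card_congr
        apply Equiv.subtypeEquivRight
        intro i
        simp only [hd]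
        split_ifs with h
        · simp [h]
        · simp only [h, not_false_eq_true, iff_true]
          rw [one_add_one_eq_two]; exact h2
      rw [this, Fintype.card_subtype_compl, Fintype.card_fin_lt_of_le (by omega),
        Fintype.card_fin]
      omega
    rw [e1, e2]
    exact min_eq_right (by omega)

theorem exists_sq_eq (hn : Even n) (z : F) :
    ∃ A : Matrix (Fin n) (Fin n) F, A * A = z • (1 : Matrix (Fin n) (Fin n) F) := by
  obtain ⟨m, hm⟩ := hn
  have hmonic : ((X : F[X]) ^ 2 - C z).Monic := monic_X_pow_sub_C z (by norm_num)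
  obtain ⟨A, _, _, hA⟩ := Helper40_PrimeOrderClasses.exists_matrix_of_monic' n
    (((X : F[X]) ^ 2 - C z) ^ m) (hmonic.pow m)
    (by rw [natDegree_pow, natDegree_X_pow_sub_C]; omega)
  refine ⟨A, ?_⟩
  have h := hA ((X : F[X]) ^ 2 - C z) (fun g hg hgd => hg.prime.dvd_of_dvd_pow hgd)
  rw [aeval_X_sq_sub_C] at h
  exact sub_eq_zero.1 h


end Cfsg.Agent.Lib.Helper40_PGLInvol
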