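import Mathlib
import Cfsg.Agent.Lib.Helper13_OrthC8Defs
import Cfsg.Agent.Lib.Helper40_PGLInvol

/-!
# S5981 package RA (helper88): `x * x = c²` is `GL`-conjugate to a similarity of any nondegenerate
symmetric form

Take an `A`-orthogonal basis (columns of `P`, `Pᵀ A P = E` diagonal) and
`x' := P diag(c·1_a, -c·1_b) P⁻¹` with `a = eigDim x c`; then `x'ᵀ A x' = c² A`, `x' * x' = c²` and
`x'` has the same eigenspace dimensions as `x`, so it is `GL`-conjugate to `x`
(`Helper40_PGLInvol.exists_GL_conj_of_eigDim`) and has the same characteristic polynomial.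
-/

set_option autoImplicit false
set_option linter.unusedVariables false

namespace Cfsg.Agent.Lib.Helper88_OrthC8_RA

open Matrix Module Cfsg.Agent.Lib.Helper13_OrthC8Defs Cfsg.Agent.Lib.Helper40_PGLInvol

/-- an orthogonal basis in matrix form -/
theorem exists_diagonalising {F : Type*} [Field F] (h2 : (2 : F) ≠ 0) {n : ℕ}
    (A : Matrix (Fin n) (Fin n) F) (hA : Aᵀ = A) :
    ∃ (P Q : Matrix (Fin n) (Fin n) F) (w : Fin n → F), P * Q = 1 ∧ Q * P = 1 ∧
      Pᵀ * A * P = Matrix.diagonal w := by
  classical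
  have : Invertible (2 : F) := invertibleOfNonzero h2
  set B : LinearMap.BilinForm F (Fin n → F) := Matrix.toBilin' A with hB
  have hS : LinearMap.IsSymm B := by
    refine ⟨fun u v => ?_⟩
    rw [hB, Matrix.toBilin'_apply', Matrix.toBilin'_apply', RingHom.id_apply]
    calc u ⬝ᵥ A *ᵥ v = (u ᵥ* A) ⬝ᵥ v := Matrix.dotProduct_mulVec _ _ _
      _ = (Aᵀ *ᵥ u) ⬝ᵥ v := by rw [Matrix.mulVec_transpose]
      _ = v ⬝ᵥ A *ᵥ u := by rw [hA, dotProduct_comm]
  obtain ⟨v, hv⟩ := LinearMap.BilinForm.exists_orthogonal_basis hS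
  set v' : Basis (Fin n) F (Fin n → F) := v.reindex (finCongr (Module.finrank_fin_fun F)) with hv'
  have hortho : ∀ i j, i ≠ j → B (v' i) (v' j) = 0 := by
    intro i j hij
    rw [hv', Basis.reindex_apply, Basis.reindex_apply]
    exact hv (fun h => hij ((finCongr (Module.finrank_fin_fun F)).symm.injective h))
  set P : Matrix (Fin n) (Fin n) F := (Pi.basisFun F (Fin n)).toMatrix v' with hP
  set Q : Matrix (Fin n) (Fin n) F := v'.toMatrix (Pi.basisFun F (Fin n)) with hQ
  have hPe : ∀ j, P *ᵥ Pi.single j 1 = v' j := by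
    intro j
    rw [Matrix.mulVec_single_one]
    funext i
    rw [Matrix.col_apply, hP, Basis.toMatrix_apply, Pi.basisFun_repr]
  refine ⟨P, Q, fun i => B (v' i) (v' i), Basis.toMatrix_mul_toMatrix_flip _ _,
    Basis.toMatrix_mul_toMatrix_flip _ _, ?_⟩
  apply Matrix.ext
  intro i j
  have h1 : (Pᵀ * A * P) i j = (Pi.single i 1 : Fin n → F) ⬝ᵥ (Pᵀ * A * P) *ᵥ Pi.single j 1 := by
    simp
  rw [h1, ← dot_conj, hPe, hPe, ← Matrix.toBilin'_apply', ← hB, Matrix.diagonal_apply]
  by_cases hij : i = j
  · subst hij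
    simp
  · rw [if_neg hij]
    exact hortho i j hij

open Classical in
theorem eigDim_diagonal {F : Type*} [Field F] {n : ℕ} (d : Fin n → F) (l : F) :
    eigDim (Matrix.diagonal d) l = (Finset.univ.filter fun k => d k = l).card := by
  classical
  unfold eigDim
  have h1 : Matrix.diagonal d - l • (1 : Matrix (Fin n) (Fin n) F) =
      Matrix.diagonal (fun k => d k - l) := by
    ext i j
    by_cases hij : i = j
    · subst hij
      simp
    · simp [hij]
  rw [h1, Matrix.rank_diagonal, Fintype.card_subtype]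
  have h2 : (Finset.univ.filter fun k : Fin n => d k - l ≠ 0) =
      (Finset.univ.filter fun k => d k = l)ᶜ := by
    ext k
    simp [sub_eq_zero]
  rw [h2, Finset.card_compl, Fintype.card_fin]
  have := Finset.card_le_univ (Finset.univ.filter fun k : Fin n => d k = l)
  rw [Fintype.card_fin] at this
  omega

/-- RA -/
theorem RA {F : Type*} [Field F] [Fintype F] (h2 : (2 : F) ≠ 0) {n : ℕ}
    (A : Matrix (Fin n) (Fin n) F) (hA : Aᵀ = A) (hAd : A.det ≠ 0)
    (x : Matrix (Fin n) (Fin n) F) (c : F) (hc : c ≠ 0) (hx : x * x = (c * c) • 1) :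
    ∃ x' : Matrix (Fin n) (Fin n) F, x'.charpoly = x.charpoly ∧ x' * x' = (c * c) • 1 ∧ SimM A x' := by
  classical
  obtain ⟨P, Q, w, hPQ, hQP, hdiag⟩ := exists_diagonalising h2 A hA
  have hadd := eigDim_add x c hc h2 hx
  set a := eigDim x c with ha
  have han : a ≤ n := by omega
  have hcc : c ≠ -c := by
    intro h
    have h3 : (2 : F) * c = 0 := by linear_combination h
    rcases mul_eq_zero.mp h3 with h | h
    · exact h2 h
    · exact hc h
  set d : Fin n → F := fun k => if (k : ℕ) < a then c else -c with hd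
  have hdd : ∀ k, d k * d k = c * c := by
    intro k
    simp only [hd]
    split_ifs <;> ring
  set D : Matrix (Fin n) (Fin n) F := Matrix.diagonal d with hD
  have hDD : D * D = (c * c) • (1 : Matrix (Fin n) (Fin n) F) := by
    rw [hD, Matrix.diagonal_mul_diagonal, ← Matrix.diagonal_one, ← Matrix.diagonal_smul]
    congr 1
    funext k
    simp [hdd k]
  set x' : Matrix (Fin n) (Fin n) F := P * D * Q with hx'
  have hx'x' : x' * x' = (c * c) • (1 : Matrix (Fin n) (Fin n) F) := by
    calc x' * x' = P * D * (Q * P) * D * Q := by simp only [hx', Matrix.mul_assoc]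
      _ = P * (D * D) * Q := by rw [hQP, Matrix.mul_one]; simp only [Matrix.mul_assoc]
      _ = (c * c) • (1 : Matrix (Fin n) (Fin n) F) := by
          rw [hDD, Matrix.mul_smul, Matrix.smul_mul, Matrix.mul_one, hPQ]
  have hcnt1 : (Finset.univ.filter fun k : Fin n => d k = c).card = a := by
    have : (Finset.univ.filter fun k : Fin n => d k = c) =
        Finset.univ.filter fun k : Fin n => (k : ℕ) < a := by
      ext k
      simp only [Finset.mem_filter, Finset.mem_univ, true_and, hd]
      split_ifs with h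
      · simp [h]
      · simp [h, hcc.symm]
    rw [this, Fin.card_filter_val_lt]
    omega
  have hcnt2 : (Finset.univ.filter fun k : Fin n => d k = -c).card = n - a := by
    have : (Finset.univ.filter fun k : Fin n => d k = -c) =
        (Finset.univ.filter fun k : Fin n => (k : ℕ) < a)ᶜ := by
      ext k
      simp only [Finset.mem_filter, Finset.mem_univ, true_and, hd, Finset.mem_compl]
      split_ifs with h
      · simp [h, hcc]
      · simp [h]
    rw [this, Finset.card_compl, Fin.card_filter_val_lt, Fintype.card_fin]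
    omega
  have he1 : eigDim x' c = eigDim x c := by
    rw [hx', eigDim_conj D P Q hPQ, hD, eigDim_diagonal, hcnt1]
  have he2 : eigDim x' (-c) = eigDim x (-c) := by
    rw [hx', eigDim_conj D P Q hPQ, hD, eigDim_diagonal, hcnt2]
    omega
  obtain ⟨g, hg⟩ := exists_GL_conj_of_eigDim x x' c hc h2 hx hx'x' he1.symm he2.symm
  refine ⟨x', ?_, hx'x', c * c, mul_ne_zero hc hc, ?_⟩
  · have h1 : x' = (g : Matrix (Fin n) (Fin n) F) * x * ((g : Matrix (Fin n) (Fin n) F))⁻¹ := by
      have hginv : ((g : Matrix (Fin n) (Fin n) F)) * ((g : Matrix (Fin n) (Fin n) F))⁻¹ = 1 := by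
        rw [← Matrix.coe_units_inv]
        exact Units.mul_inv g
      rw [hg, Matrix.mul_assoc, hginv, Matrix.mul_one]
    rw [h1]
    exact Matrix.charpoly_units_conj g x
  · -- the similarity
    have hDED : D * Matrix.diagonal w * D = (c * c) • Matrix.diagonal w := by
      rw [hD, Matrix.diagonal_mul_diagonal, Matrix.diagonal_mul_diagonal, ← Matrix.diagonal_smul]
      congr 1
      funext k
      simp only [Pi.smul_apply, smul_eq_mul]
      rw [mul_comm (d k) (w k), mul_assoc, hdd k, mul_comm]
    have hDt : Dᵀ = D := by rw [hD, Matrix.diagonal_transpose]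
    have hQtPt : Qᵀ * Pᵀ = 1 := by rw [← Matrix.transpose_mul, hPQ, Matrix.transpose_one]
    calc x'ᵀ * A * x' = Qᵀ * D * (Pᵀ * A * P) * D * Q := by
          rw [hx', Matrix.transpose_mul, Matrix.transpose_mul, hDt]
          simp only [Matrix.mul_assoc]
      _ = Qᵀ * (D * Matrix.diagonal w * D) * Q := by
          rw [hdiag]; simp only [Matrix.mul_assoc]
      _ = (c * c) • (Qᵀ * (Pᵀ * A * P) * Q) := by
          rw [hDED, hdiag, Matrix.mul_smul, Matrix.smul_mul]
      _ = (c * c) • A := by
          congr 1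
          calc Qᵀ * (Pᵀ * A * P) * Q = (Qᵀ * Pᵀ) * A * (P * Q) := by
                simp only [Matrix.mul_assoc]
            _ = A := by rw [hQtPt, hPQ, Matrix.one_mul, Matrix.mul_one]

end Cfsg.Agent.Lib.Helper88_OrthC8_RA
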