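import Mathlib
import Cfsg.Agent.Lib.Helper43_OrthTS_OQ2
import Cfsg.Agent.Lib.Helper34_OrthEven_TS
import Cfsg.Agent.Lib.Helper34_OrthOdd_OP4b
import Cfsg.Agent.Lib.Helper88_OrthC8_RA
import Cfsg.Agent.Lib.Helper52_Form_F4
import Cfsg.Agent.Lib.Helper98_AschDefs
import Cfsg.Agent.Lib.Helper23_FormDefs

set_option autoImplicit false
set_option linter.unusedSectionVars false
set_option linter.unusedVariables false

namespace Cfsg.Agent.Lib.Helper34_OrthEven_EV8a

open Cfsg Cfsg.Geo Matrix Cfsg.Agent.Lib.Helper98_AschDefs Cfsg.Agent.Lib.Helper23_FormDefs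
open scoped Kronecker MatrixGroups

universe u

variable {F : Type u} [Field F]

/-- over a finite field of odd characteristic a nondegenerate symmetric form of even dimension has similitudes
of every multiplier -/
theorem exists_simil_even [Fintype F] (h2 : (2 : F) ≠ 0) {s m : ℕ} (hs : s = 2 * m) (hm : 1 ≤ m)
    (G : Matrix (Fin s) (Fin s) F) (hG : Gᵀ = G) (hdet : IsUnit G.det) (μ : F) (hμ : μ ≠ 0) :
    ∃ T : (Fin s → F) ≃ₗ[F] (Fin s → F), ∀ y, (T y) ⬝ᵥ G *ᵥ (T y) = μ * (y ⬝ᵥ G *ᵥ y) := by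
  classical
  let B : LinearMap.BilinForm F (Fin s → F) := Matrix.toBilin' G
  let Q : QuadraticForm F (Fin s → F) := LinearMap.BilinMap.toQuadraticMap B
  have hQ : ∀ v, Q v = v ⬝ᵥ G *ᵥ v := by
    intro v
    show LinearMap.BilinMap.toQuadraticMap B v = _
    rw [LinearMap.BilinMap.toQuadraticMap_apply, Matrix.toBilin'_apply']
  have hfin : Module.finrank F (Fin s → F) = 2 * m := by
    rw [Module.finrank_fin_fun, hs]
  have hsymm : ∀ u v : Fin s → F, u ⬝ᵥ G *ᵥ v = v ⬝ᵥ G *ᵥ u := by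
    intro u v
    rw [Matrix.dotProduct_mulVec, ← Matrix.mulVec_transpose, hG, dotProduct_comm]
  have hpolc : ∀ c : F, c ≠ 0 → (QuadraticMap.polarBilin (c • Q)).Nondegenerate := by
    intro c hc
    have hpol : QuadraticMap.polarBilin (c • Q) = Matrix.toBilin' ((c * 2 : F) • G) := by
      apply LinearMap.ext₂
      intro u v
      rw [QuadraticMap.polarBilin_apply_apply, QuadraticMap.polar, _root_.smul_apply,
        _root_.smul_apply, _root_.smul_apply, hQ, hQ, hQ, Matrix.toBilin'_apply']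
      have hs := hsymm u v
      simp only [Matrix.mulVec_add, add_dotProduct, dotProduct_add, Matrix.smul_mulVec, dotProduct_smul,
        smul_eq_mul]
      rw [← hs]
      ring
    rw [hpol]
    apply LinearMap.BilinForm.nondegenerate_toBilin'_of_det_ne_zero'
    rw [Matrix.det_smul]
    exact mul_ne_zero (pow_ne_zero _ (mul_ne_zero hc h2)) hdet.ne_zero
  have hnd : (QuadraticMap.polarBilin Q).Nondegenerate := by
    have := hpolc 1 one_ne_zero
    rwa [one_smul] at this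
  have hnd' : (QuadraticMap.polarBilin (μ • Q)).Nondegenerate := hpolc μ hμ
  have hiso : Cfsg.Agent.Lib.Helper40_QuadIso.Iso (μ • Q) Q := by
    by_cases hh : Cfsg.Agent.Lib.Helper40_QuadIso.IsHyp Q
    · have hh' : Cfsg.Agent.Lib.Helper40_QuadIso.IsHyp (μ • Q) := by
        obtain ⟨U, hU, hdim⟩ := hh
        refine ⟨U, fun u hu => ?_, hdim⟩
        rw [_root_.smul_apply, hU u hu, smul_zero]
      exact (Cfsg.Agent.Lib.Helper43_OrthTS_OQ2.iso_plus_of_isHyp m hm hfin (μ • Q) hnd' hh').trans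
        (Cfsg.Agent.Lib.Helper43_OrthTS_OQ2.iso_plus_of_isHyp m hm hfin Q hnd hh).symm
    · have hh' : ¬ Cfsg.Agent.Lib.Helper40_QuadIso.IsHyp (μ • Q) := by
        rintro ⟨U, hU, hdim⟩
        apply hh
        refine ⟨U, fun u hu => ?_, hdim⟩
        have := hU u hu
        rw [_root_.smul_apply, smul_eq_mul] at this
        exact (mul_eq_zero.1 this).resolve_left hμ
      obtain ⟨ζ, hζ⟩ := Cfsg.Agent.Lib.Helper40_QuadStd.exists_aniso (F := F)
      exact (Cfsg.Agent.Lib.Helper43_OrthTS_OQ2.iso_minus_of_not_isHyp m hm hfin (μ • Q) hnd' hh' 1 ζ hζ).trans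
        (Cfsg.Agent.Lib.Helper43_OrthTS_OQ2.iso_minus_of_not_isHyp m hm hfin Q hnd hh 1 ζ hζ).symm
  obtain ⟨φ, hφ⟩ := hiso
  refine ⟨φ, fun y => ?_⟩
  rw [← hQ, hφ, _root_.smul_apply, hQ, smul_eq_mul]

section core

variable {κ₁ κ₂ : Type} [Fintype κ₁] [DecidableEq κ₁] [Fintype κ₂] [DecidableEq κ₂]

/-- the Kronecker form in terms of the slices along the first factor -/
theorem kron_form' (G₁ : Matrix κ₁ κ₁ F) (G₂ : Matrix κ₂ κ₂ F) (x y : κ₁ × κ₂ → F) :
    x ⬝ᵥ (G₁ ⊗ₖ G₂) *ᵥ y =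
      ∑ a, ∑ b, G₁ a b * ((fun j => x (a, j)) ⬝ᵥ G₂ *ᵥ (fun k => y (b, k))) := by
  simp only [dotProduct, Matrix.mulVec, Fintype.sum_prod_type, Matrix.kroneckerMap_apply,
    Finset.mul_sum]
  refine Finset.sum_congr rfl fun a _ => ?_
  rw [Finset.sum_comm]
  refine Finset.sum_congr rfl fun b _ => Finset.sum_congr rfl fun j _ =>
    Finset.sum_congr rfl fun k _ => ?_
  ring

theorem diag_kron_form (w : κ₁ → F) (G₂ : Matrix κ₂ κ₂ F) (x : κ₁ × κ₂ → F) :
    x ⬝ᵥ (Matrix.diagonal w ⊗ₖ G₂) *ᵥ x =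
      ∑ a, w a * ((fun j => x (a, j)) ⬝ᵥ G₂ *ᵥ (fun k => x (a, k))) := by
  rw [kron_form']
  refine Finset.sum_congr rfl fun a _ => ?_
  rw [Finset.sum_eq_single a]
  · rw [Matrix.diagonal_apply_eq]
  · intro b _ hb
    rw [Matrix.diagonal_apply_ne _ (Ne.symm hb), zero_mul]
  · intro h
    exact absurd (Finset.mem_univ a) h

end core

/-- core: a (diagonal ⊗ symmetric) form of size even × even vanishes on a subspace of half the dimension -/
theorem core_diag [Fintype F] (h2 : (2 : F) ≠ 0) {r s : ℕ} (hs : Even s) (hs0 : 0 < s)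
    (w : Fin (r + r) → F) (hw : ∀ a, w a ≠ 0) (G₂ : Matrix (Fin s) (Fin s) F) (hG₂ : G₂ᵀ = G₂)
    (hdet₂ : IsUnit G₂.det) :
    ∃ U₀ : Submodule F (Fin (r + r) × Fin s → F), 2 * Module.finrank F U₀ = (r + r) * s ∧
      ∀ x ∈ U₀, x ⬝ᵥ (Matrix.diagonal w ⊗ₖ G₂) *ᵥ x = 0 := by
  classical
  obtain ⟨m, hm⟩ := hs
  have hs' : s = 2 * m := by omega
  have hm1 : 1 ≤ m := by omega
  have hT : ∀ k : Fin r, ∃ T : (Fin s → F) ≃ₗ[F] (Fin s → F),
      ∀ y, (T y) ⬝ᵥ G₂ *ᵥ (T y) = (-(w (Fin.castAdd r k)) / w (Fin.natAdd r k)) * (y ⬝ᵥ G₂ *ᵥ y) :=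
    fun k => exists_simil_even h2 hs' hm1 G₂ hG₂ hdet₂ _
      (div_ne_zero (neg_ne_zero.2 (hw _)) (hw _))
  choose T hTT using hT
  let Ψ : (Fin r → Fin s → F) →ₗ[F] (Fin (r + r) × Fin s → F) :=
    LinearMap.pi fun p => Fin.addCases (motive := fun _ => (Fin r → Fin s → F) →ₗ[F] F)
      (fun k => (LinearMap.proj (R := F) (φ := fun _ : Fin s => F) p.2).comp
        (LinearMap.proj (R := F) (φ := fun _ : Fin r => Fin s → F) k))
      (fun k => ((LinearMap.proj (R := F) (φ := fun _ : Fin s => F) p.2).comp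
        ((T k : (Fin s → F) ≃ₗ[F] (Fin s → F)) : (Fin s → F) →ₗ[F] (Fin s → F))).comp
        (LinearMap.proj (R := F) (φ := fun _ : Fin r => Fin s → F) k)) p.1
  have hΨl : ∀ z k, (fun j => Ψ z (Fin.castAdd r k, j)) = z k := by
    intro z k
    ext j
    simp only [Ψ, LinearMap.pi_apply, Fin.addCases_left]
    rfl
  have hΨr : ∀ z k, (fun j => Ψ z (Fin.natAdd r k, j)) = T k (z k) := by
    intro z k
    ext j
    simp only [Ψ, LinearMap.pi_apply, Fin.addCases_right]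
    rfl
  have hinj : Function.Injective Ψ := by
    intro z z' h
    funext k
    rw [← hΨl z k, ← hΨl z' k, h]
  refine ⟨LinearMap.range Ψ, ?_, ?_⟩
  · rw [LinearMap.finrank_range_of_inj hinj, Module.finrank_pi_fintype]
    simp only [Module.finrank_fin_fun, Finset.sum_const, Finset.card_univ, Fintype.card_fin,
      smul_eq_mul]
    ring
  · rintro _ ⟨z, rfl⟩
    rw [diag_kron_form, Fin.sum_univ_add, ← Finset.sum_add_distrib]
    refine Finset.sum_eq_zero fun k _ => ?_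
    rw [hΨl, hΨr, hTT]
    have := hw (Fin.natAdd r k)
    field_simp
    ring

/-- core: a (symmetric ⊗ symmetric) form of size even × even over a finite field of odd characteristic vanishes on a
subspace of half the dimension -/
theorem core_a [Fintype F] (h2 : (2 : F) ≠ 0) {d s : ℕ} (hd : Even d) (hs : Even s) (hs0 : 0 < s)
    (G₁ : Matrix (Fin d) (Fin d) F) (hG₁ : G₁ᵀ = G₁) (hdet₁ : IsUnit G₁.det)
    (G₂ : Matrix (Fin s) (Fin s) F) (hG₂ : G₂ᵀ = G₂) (hdet₂ : IsUnit G₂.det) :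
    ∃ U₀ : Submodule F (Fin d × Fin s → F), 2 * Module.finrank F U₀ = d * s ∧
      ∀ x ∈ U₀, x ⬝ᵥ (G₁ ⊗ₖ G₂) *ᵥ x = 0 := by
  classical
  obtain ⟨r, rfl⟩ := hd
  obtain ⟨R, R', w, hRR', hR'R, hdiag⟩ :=
    Cfsg.Agent.Lib.Helper88_OrthC8_RA.exists_diagonalising h2 G₁ hG₁
  have hw : ∀ a, w a ≠ 0 := by
    have hdet : (Matrix.diagonal w).det ≠ 0 := by
      rw [← hdiag, Matrix.det_mul, Matrix.det_mul, Matrix.det_transpose]
      have hRdet : R.det ≠ 0 := by
        intro h0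
        have := congrArg Matrix.det hRR'
        rw [Matrix.det_mul, h0, zero_mul, Matrix.det_one] at this
        exact zero_ne_one this
      exact mul_ne_zero (mul_ne_zero hRdet hdet₁.ne_zero) hRdet
    rw [Matrix.det_diagonal] at hdet
    intro a ha
    exact hdet (Finset.prod_eq_zero (Finset.mem_univ a) ha)
  obtain ⟨U₀, hdim, hU₀⟩ := core_diag h2 hs hs0 w hw G₂ hG₂ hdet₂
  set K : Matrix (Fin (r + r) × Fin s) (Fin (r + r) × Fin s) F :=
    R ⊗ₖ (1 : Matrix (Fin s) (Fin s) F) with hK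
  set K' : Matrix (Fin (r + r) × Fin s) (Fin (r + r) × Fin s) F :=
    R' ⊗ₖ (1 : Matrix (Fin s) (Fin s) F) with hK'
  have hK'K : K' * K = 1 := by
    rw [hK, hK', ← Matrix.mul_kronecker_mul, hR'R, one_mul, Matrix.one_kronecker_one]
  have hinj : Function.Injective (Matrix.toLin' K) := by
    intro x y hxy
    rw [Matrix.toLin'_apply, Matrix.toLin'_apply] at hxy
    have := congrArg (fun v => K' *ᵥ v) hxy
    simpa only [Matrix.mulVec_mulVec, hK'K, Matrix.one_mulVec] using this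
  refine ⟨U₀.map (Matrix.toLin' K), ?_, ?_⟩
  · rw [LinearEquiv.finrank_eq (Submodule.equivMapOfInjective _ hinj U₀).symm, hdim]
  · rintro _ ⟨x, hx, rfl⟩
    rw [Matrix.toLin'_apply, Cfsg.Agent.Lib.Helper34_OrthOdd_OP4b.mulVec_dot_mulVec, hK,
      ← Matrix.kroneckerMap_transpose, ← Matrix.mul_kronecker_mul, ← Matrix.mul_kronecker_mul,
      hdiag, Matrix.transpose_one, one_mul, mul_one]
    exact hU₀ x hx

section main

variable {κ₁ κ₂ : Type} [Fintype κ₁] [DecidableEq κ₁] [Fintype κ₂] [DecidableEq κ₂]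

/-- a symmetric Kronecker product of nonzero matrices: both factors symmetric or both skew-symmetric -/
theorem kron_symm_cases (G₁ : Matrix κ₁ κ₁ F) (G₂ : Matrix κ₂ κ₂ F) (h₁ : G₁ ≠ 0) (h₂ : G₂ ≠ 0)
    (hent : ∀ a b i j, G₁ b a * G₂ j i = G₁ a b * G₂ i j) :
    (G₁ᵀ = G₁ ∧ G₂ᵀ = G₂) ∨ (G₁ᵀ = -G₁ ∧ G₂ᵀ = -G₂) := by
  obtain ⟨i1, j1, hij⟩ : ∃ i j, G₂ i j ≠ 0 := by
    by_contra hcon
    push Not at hcon
    exact h₂ (by ext i j; simpa using hcon i j)
  obtain ⟨a1, b1, hab⟩ : ∃ a b, G₁ a b ≠ 0 := by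
    by_contra hcon
    push Not at hcon
    exact h₁ (by ext i j; simpa using hcon i j)
  have hji : G₂ j1 i1 ≠ 0 := by
    intro h0
    have := hent a1 b1 i1 j1
    rw [h0, mul_zero] at this
    exact (mul_ne_zero hab hij) this.symm
  set lam : F := G₂ j1 i1 / G₂ i1 j1 with hlam
  have hB1 : ∀ a b, G₁ a b = lam * G₁ b a := by
    intro a b
    have := hent a b i1 j1
    rw [hlam]
    field_simp
    linear_combination -this
  have hlamsq : lam * lam = 1 := by
    have h1 := hB1 a1 b1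
    rw [hB1 b1 a1, ← mul_assoc] at h1
    have : (lam * lam - 1) * G₁ a1 b1 = 0 := by rw [sub_mul, one_mul, ← h1, sub_self]
    rcases mul_eq_zero.1 this with h | h
    · exact sub_eq_zero.1 h
    · exact absurd h hab
  have hcases : lam = 1 ∨ lam = -1 := by
    have : (lam - 1) * (lam + 1) = 0 := by linear_combination hlamsq
    rcases mul_eq_zero.1 this with h | h
    · exact Or.inl (sub_eq_zero.1 h)
    · exact Or.inr (eq_neg_of_add_eq_zero_left h)
  rcases hcases with hl | hl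
  · left
    have hs1 : ∀ a b, G₁ a b = G₁ b a := by
      intro a b
      rw [hB1 a b, hl, one_mul]
    refine ⟨?_, ?_⟩
    · ext a b
      rw [Matrix.transpose_apply]
      exact hs1 b a
    · ext i j
      rw [Matrix.transpose_apply]
      have := hent a1 b1 i j
      rw [hs1 b1 a1] at this
      exact mul_left_cancel₀ hab this
  · right
    have hs1 : ∀ a b, G₁ a b = -G₁ b a := by
      intro a b
      rw [hB1 a b, hl, neg_one_mul]
    refine ⟨?_, ?_⟩
    · ext a b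
      rw [Matrix.transpose_apply, Matrix.neg_apply]
      exact hs1 b a
    · ext i j
      rw [Matrix.transpose_apply, Matrix.neg_apply]
      have := hent a1 b1 i j
      rw [hs1 b1 a1, neg_mul] at this
      have h3 : G₁ a1 b1 * (-G₂ j i) = G₁ a1 b1 * G₂ i j := by rw [mul_neg]; exact this
      have h4 := mul_left_cancel₀ hab h3
      rw [← h4, neg_neg]

theorem formOfGram_refl {κ : Type} [Fintype κ] (G : Matrix κ κ F) (x y : κ → F) :
    formOfGram (RingEquiv.refl F) G x y = x ⬝ᵥ G *ᵥ y := by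
  simp only [formOfGram, dotProduct, Matrix.mulVec, RingEquiv.refl_apply, Finset.mul_sum, mul_assoc]

end main

variable {ι : Type} [Fintype ι] [DecidableEq ι]

/-- the data common to both characteristics: Gram matrix `G₁ ⊗ G₂` with both factors symmetric or both
skew-symmetric -/
theorem gram_cases (Q : (ι → F) → F) (hQ : IsNondegenerateQuadraticForm Q)
    (A : Subalgebra F (Matrix ι ι F)) (hAadj : IsAdjointClosedFor (QuadraticMap.polar Q) A)
    (d s : ℕ) (e : ι ≃ Fin d × Fin s) (P : GL ι F) (hT : IsTensorAlg A d s e P)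
    (hd0 : 0 < d) (hs0 : 0 < s) :
    ∃ (G₁ : Matrix (Fin d) (Fin d) F) (G₂ : Matrix (Fin s) (Fin s) F), IsUnit G₁.det ∧ IsUnit G₂.det ∧
      (∀ x y : Fin d × Fin s → F,
        QuadraticMap.polar Q ((P : Matrix ι ι F) *ᵥ (x ∘ e)) ((P : Matrix ι ι F) *ᵥ (y ∘ e))
          = x ⬝ᵥ (G₁ ⊗ₖ G₂) *ᵥ y) ∧
      ((G₁ᵀ = G₁ ∧ G₂ᵀ = G₂) ∨ (G₁ᵀ = -G₁ ∧ G₂ᵀ = -G₂)) := by
  classical
  obtain ⟨G₁, G₂, hdet₁, hdet₂, hform⟩ := Cfsg.Agent.Lib.Helper52_Form_F4.F4 (RingEquiv.refl F)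
    (QuadraticMap.polar Q) (isSesq_of_bilinear hQ.polar_bilinear) hQ.nondegenerate A hAadj d s e P hT
  have hform' : ∀ x y : Fin d × Fin s → F,
      QuadraticMap.polar Q ((P : Matrix ι ι F) *ᵥ (x ∘ e)) ((P : Matrix ι ι F) *ᵥ (y ∘ e))
        = x ⬝ᵥ (G₁ ⊗ₖ G₂) *ᵥ y := by
    intro x y
    rw [hform, formOfGram_refl]
  refine ⟨G₁, G₂, hdet₁, hdet₂, hform', ?_⟩
  have : Nonempty (Fin d) := ⟨⟨0, hd0⟩⟩
  have : Nonempty (Fin s) := ⟨⟨0, hs0⟩⟩
  apply kron_symm_cases G₁ G₂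
  · intro h
    rw [h, Matrix.det_zero] at hdet₁
    exact not_isUnit_zero hdet₁
  · intro h
    rw [h, Matrix.det_zero] at hdet₂
    exact not_isUnit_zero hdet₂
  · intro a b i j
    have h1 := hform' (Pi.single (a, i) 1) (Pi.single (b, j) 1)
    have h2 := hform' (Pi.single (b, j) 1) (Pi.single (a, i) 1)
    rw [QuadraticMap.polar_comm] at h2
    rw [h1] at h2
    simpa [Matrix.kroneckerMap_apply] using h2.symm

/-- `polar Q v v = 2 Q v` -/
theorem polar_self_eq (Q : (ι → F) → F) (hQ : IsNondegenerateQuadraticForm Q) (v : ι → F) :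
    QuadraticMap.polar Q v v = 2 * Q v := by
  have h := hQ.smul 2 v
  rw [two_smul] at h
  rw [QuadraticMap.polar, h]
  ring

/-- **EV8a**: EV8 in characteristic different from 2 -/
theorem EV8a [Fintype F] (Q : (ι → F) → F) (hQ : IsNondegenerateQuadraticForm Q) (H : Subgroup (GL ι F))
    (hHI : H ≤ isometryGroup F Q) (hirr : ActsIrreducibly (matrixSet H))
    (A : Subalgebra F (Matrix ι ι F)) (hA : NormalizesAlg H A)
    (hAadj : IsAdjointClosedFor (QuadraticMap.polar Q) A)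
    (d s : ℕ) (e : ι ≃ Fin d × Fin s) (P : GL ι F) (hT : IsTensorAlg A d s e P)
    (hd : Even d) (hs : Even s) (hd0 : 0 < d) (hs0 : 0 < s) (h2 : (2 : F) ≠ 0) : IsPlusTypeOn Q ⊤ := by
  classical
  obtain ⟨G₁, G₂, hdet₁, hdet₂, hform, hcases⟩ := gram_cases Q hQ A hAadj d s e P hT hd0 hs0
  have hQz : ∀ x : Fin d × Fin s → F, x ⬝ᵥ (G₁ ⊗ₖ G₂) *ᵥ x = 0 →
      Q ((P : Matrix ι ι F) *ᵥ (x ∘ e)) = 0 := by
    intro x hx
    have h := hform x x
    rw [polar_self_eq Q hQ, hx] at h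
    exact (mul_eq_zero.1 h).resolve_left h2
  rcases hcases with ⟨hG₁, hG₂⟩ | ⟨hG₁, hG₂⟩
  · obtain ⟨U₀, hdim, hU₀⟩ := core_a h2 hd hs hs0 G₁ hG₁ hdet₁ G₂ hG₂ hdet₂
    refine Cfsg.Agent.Lib.Helper34_OrthEven_TS.plus_of_sub Q e P U₀ ?_ fun x hx => hQz x (hU₀ x hx)
    rw [hdim, Fintype.card_prod, Fintype.card_fin, Fintype.card_fin]
  · have hdiag : ∀ i, G₁ i i = 0 := by
      intro i
      have := congrFun (congrFun hG₁ i) i
      rw [Matrix.transpose_apply, Matrix.neg_apply] at this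
      have h3 : (2 : F) * G₁ i i = 0 := by linear_combination this
      exact (mul_eq_zero.1 h3).resolve_left h2
    obtain ⟨L, hLdim, hL⟩ :=
      Cfsg.Agent.Lib.Helper34_OrthEven_TS.exists_lagrangian_mat G₁ hdiag hG₁ hdet₁
    refine Cfsg.Agent.Lib.Helper34_OrthEven_TS.plus_of_sub Q e P
      (Cfsg.Agent.Lib.Helper34_OrthEven_TS.slab (κ₂ := Fin s) L) ?_ fun x hx => hQz x ?_
    · rw [Cfsg.Agent.Lib.Helper34_OrthEven_TS.finrank_slab, Fintype.card_prod, ← hLdim]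
      ring
    · exact Cfsg.Agent.Lib.Helper34_OrthEven_TS.slab_form_zero G₁ G₂ L hL x x hx hx

end Cfsg.Agent.Lib.Helper34_OrthEven_EV8a
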