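import Mathlib
import Cfsg.Agent.Lib.Helper98_AschDefs
import Cfsg.Agent.Lib.Helper52_Asch_PK7

/-!
# PKN2 (helper98's S5630 package, batch 2): a minimal nilpotent normalized spanning `r`-group of class two
gives linear symplectic-type data.
-/

set_option autoImplicit false

namespace Cfsg.Agent.Lib.Helper50_Asch_PKN2

open Cfsg Cfsg.Geo Matrix Cfsg.Agent.Lib.Helper98_AschDefs Cfsg.Agent.Lib.Helper52_Asch_PK7
open scoped Kronecker

variable {ι : Type} [Fintype ι] [DecidableEq ι] {F : Type*} [Field F]

/-- a spanning group acts irreducibly -/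
lemma actsIrreducibly_of_span (R : Subgroup (GL ι F)) (hspan : spanAlg R = ⊤) :
    ActsIrreducibly (matrixSet R) := by
  intro W hW
  have hall : ∀ M : Matrix ι ι F, W.map (Matrix.toLin' M) ≤ W := by
    intro M
    have hM : M ∈ spanAlg R := by rw [hspan]; trivial
    rw [mem_spanAlg_iff] at hM
    induction hM using Submodule.span_induction with
    | mem x hx => exact hW x hx
    | zero =>
      rintro _ ⟨w, _, rfl⟩
      simp
    | add x y _ _ hx hy =>
      rintro _ ⟨w, hw, rfl⟩
      rw [map_add, LinearMap.add_apply]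
      exact W.add_mem (hx (Submodule.mem_map_of_mem hw)) (hy (Submodule.mem_map_of_mem hw))
    | smul c x _ hx =>
      rintro _ ⟨w, hw, rfl⟩
      rw [map_smul, LinearMap.smul_apply]
      exact W.smul_mem c (hx (Submodule.mem_map_of_mem hw))
  by_cases hbot : W = ⊥
  · exact Or.inl hbot
  · right
    obtain ⟨w, hw, hw0⟩ := (Submodule.ne_bot_iff W).mp hbot
    have hex : ∃ i, w i ≠ 0 := by
      by_contra hcon
      push Not at hcon
      exact hw0 (funext hcon)
    obtain ⟨i, hi⟩ := hex
    rw [eq_top_iff]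
    intro v _
    let M : Matrix ι ι F := fun a b => if b = i then v a / w i else 0
    have hMv : M.mulVec w = v := by
      funext a
      simp only [Matrix.mulVec, dotProduct]
      rw [Finset.sum_eq_single i]
      · simp [M, hi]
      · intro b _ hb; simp [M, hb]
      · intro h; exact absurd (Finset.mem_univ i) h
    rw [← hMv, ← Matrix.toLin'_apply]
    exact hall M (Submodule.mem_map_of_mem hw)

/-- a spanning group acts absolutely irreducibly -/
lemma actsAbsIrr_of_span (R : Subgroup (GL ι F)) (hspan : spanAlg R = ⊤) :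
    ActsAbsolutelyIrreducibly (matrixSet R) := by
  refine ⟨actsIrreducibly_of_span R hspan, fun M hM => ?_⟩
  apply exists_smul_one_of_commute R hspan M
  intro y hy
  exact (hM _ (coe_mem_matrixSet hy)).symm

/-- scalar matrices commute with everything -/
lemma scalars_comm {z : GL ι F} (hz : z ∈ scalars ι F) (y : GL ι F) : y * z = z * y := by
  rw [mem_scalars_iff] at hz
  obtain ⟨c, hc⟩ := hz
  apply Units.ext
  rw [Units.val_mul, Units.val_mul, hc]
  simp

/-- a commutative spanning group is scalar -/
lemma le_scalars_of_comm (R : Subgroup (GL ι F)) (hspan : spanAlg R = ⊤)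
    (hc : ∀ x ∈ R, ∀ y ∈ R, x * y = y * x) : R ≤ scalars ι F := by
  intro z hz
  apply mem_scalars_of_commute R hspan z
  intro y hy
  have := hc y hy z hz
  rw [← Units.val_mul, ← Units.val_mul, this]

/-- the centre of a spanning group is its scalar part -/
lemma center_eq (R : Subgroup (GL ι F)) (hspan : spanAlg R = ⊤) :
    Subgroup.center R = (scalars ι F).subgroupOf R := by
  ext x
  rw [Subgroup.mem_center_iff, Subgroup.mem_subgroupOf]
  constructor
  · intro hx
    apply mem_scalars_of_commute R hspan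
    intro y hy
    have := hx ⟨y, hy⟩
    have h2 := congrArg (fun g : R => ((g : GL ι F) : Matrix ι ι F)) this
    simpa using h2
  · intro hx y
    apply Subtype.ext
    simp only [Subgroup.coe_mul]
    exact scalars_comm hx _

lemma card_center_eq (R : Subgroup (GL ι F)) (hspan : spanAlg R = ⊤) :
    Nat.card (Subgroup.center R) = Nat.card (R ⊓ scalars ι F : Subgroup (GL ι F)) := by
  rw [center_eq R hspan, ← Subgroup.inf_subgroupOf_left]
  exact Nat.card_congr (Subgroup.subgroupOfEquivOfLe inf_le_left).toEquiv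

/-- the scalars form a cyclic group when the field is finite -/
lemma scalars_isCyclic [Finite F] : IsCyclic (scalars ι F) := by
  unfold scalars
  exact isCyclic_of_surjective
    (Units.map (Matrix.scalar ι : F →+* Matrix ι ι F).toMonoidHom).rangeRestrict
    (MonoidHom.rangeRestrict_surjective _)

/-- conjugation by an element normalizing `R` together with its inverse, as an automorphism of `R` -/
def conjAut (R : Subgroup (GL ι F)) (h : GL ι F) (h1 : ∀ x ∈ R, h * x * h⁻¹ ∈ R)
    (h2 : ∀ x ∈ R, h⁻¹ * x * h⁻¹⁻¹ ∈ R) : R ≃* R where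
  toFun x := ⟨h * x * h⁻¹, h1 x x.2⟩
  invFun x := ⟨h⁻¹ * x * h⁻¹⁻¹, h2 x x.2⟩
  left_inv x := by
    apply Subtype.ext
    simp only []
    group
  right_inv x := by
    apply Subtype.ext
    simp only []
    group
  map_mul' x y := by
    apply Subtype.ext
    simp only [Subgroup.coe_mul]
    group

theorem PKN2 [Fintype F] (n : ℕ) (hn : 3 ≤ n) (H R : Subgroup (GL (Fin n) F)) (hnorm : NormalizesGrp H R)
    (hmin : ∀ N' : Subgroup (GL (Fin n) F), N' ≤ R → NormalizesGrp H N' → N' = R ∨ N' ≤ scalars (Fin n) F)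
    (hspan : spanAlg R = ⊤) (hcomm : ⁅R, R⁆ ≤ scalars (Fin n) F)
    (r : ℕ) (hr : r.Prime) (hpg : IsPGroup r R) (p e : ℕ)
    (hmf : IsMinimalFieldFor (Nat.card (R ⊓ scalars (Fin n) F : Subgroup (GL (Fin n) F))) p e F)
    (hcase : (r ≠ 2 ∧ (∀ x ∈ R, x ^ r = 1) ∧ Odd e) ∨
      (r = 2 ∧ (∀ x ∈ R, x ^ 4 = 1) ∧
        Nat.card (R ⊓ scalars (Fin n) F : Subgroup (GL (Fin n) F)) = 4 ∧ e = 1)) :
    IsLinearSymplecticTypeData r R := by
  classical
  have : NeZero n := ⟨by omega⟩
  have hrF : Fact r.Prime := ⟨hr⟩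
  have hFin : Finite (GL (Fin n) F) := inferInstance
  have hPK7 := PK7 R hspan hcomm
  rw [Fintype.card_fin] at hPK7
  -- `R` is not inside the scalars
  have hRZ : ¬ R ≤ scalars (Fin n) F := by
    intro hle
    rw [inf_eq_left.mpr hle] at hPK7
    have hpos : 0 < Nat.card R := Nat.card_pos
    have h1 : n ^ 2 = 1 := by
      have : Nat.card R * n ^ 2 = Nat.card R * 1 := by rw [← hPK7, mul_one]
      exact Nat.eq_of_mul_eq_mul_left hpos this
    have : 3 ^ 2 ≤ n ^ 2 := Nat.pow_le_pow_left hn 2
    omega
  have hcyc : IsCyclic (scalars (Fin n) F) := scalars_isCyclic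
  have hcycRZ : IsCyclic (R ⊓ scalars (Fin n) F : Subgroup (GL (Fin n) F)) := by
    let f : (R ⊓ scalars (Fin n) F : Subgroup (GL (Fin n) F)) →* scalars (Fin n) F :=
      Subgroup.inclusion inf_le_right
    exact isCyclic_of_injective f (Subgroup.inclusion_injective _)
  have hnt : Nontrivial R := by
    by_contra hcon
    rw [not_nontrivial_iff_subsingleton] at hcon
    apply hRZ
    intro x hx
    have : (⟨x, hx⟩ : R) = 1 := Subsingleton.elim _ _
    have hx1 : x = 1 := congrArg Subtype.val this
    rw [hx1]; exact Subgroup.one_mem _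
  have hcen : Nontrivial (Subgroup.center R) := hpg.center_nontrivial
  set z := Nat.card (R ⊓ scalars (Fin n) F : Subgroup (GL (Fin n) F)) with hz
  have hzc : Nat.card (Subgroup.center R) = z := card_center_eq R hspan
  have hz1 : 1 < z := by
    rw [← hzc]; exact Finite.one_lt_card
  have hpgc : IsPGroup r (Subgroup.center R) := hpg.to_subgroup _
  have hrz : r ∣ z := by
    rcases hpgc.card_eq_or_dvd with h | h
    · rw [hzc] at h; omega
    · rwa [hzc] at h
  obtain ⟨hp, hchar, hcardF, hzdvd, hzmin⟩ := hmf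
  obtain ⟨k, hk⟩ := hpg.exists_card_eq
  refine ⟨⟨hr, hpg, ?_, ?_⟩, actsAbsIrr_of_span R hspan, p, e, ?_, ?_, ?_⟩
  · -- characteristic commutative subgroups are cyclic
    intro A hAchar hAcomm
    let A' : Subgroup (GL (Fin n) F) := A.map R.subtype
    have hA'R : A' ≤ R := by
      rintro _ ⟨a, _, rfl⟩
      exact a.2
    have hA'n : NormalizesGrp H A' := by
      rintro h hh _ ⟨a, ha, rfl⟩
      have h1 : ∀ x ∈ R, h * x * h⁻¹ ∈ R := hnorm h hh
      have h2 : ∀ x ∈ R, h⁻¹ * x * h⁻¹⁻¹ ∈ R := hnorm h⁻¹ (H.inv_mem hh)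
      have h3 := Subgroup.characteristic_iff_map_le.mp hAchar (conjAut R h h1 h2)
      have h4 : conjAut R h h1 h2 a ∈ A := h3 (Subgroup.mem_map_of_mem _ ha)
      exact ⟨_, h4, rfl⟩
    rcases hmin A' hA'R hA'n with h | h
    · exfalso
      apply hRZ
      apply le_scalars_of_comm R hspan
      intro x hx y hy
      rw [← h] at hx hy
      obtain ⟨a, ha, rfl⟩ := hx
      obtain ⟨b, hb, rfl⟩ := hy
      have hab : (⟨a, ha⟩ : A) * ⟨b, hb⟩ = ⟨b, hb⟩ * ⟨a, ha⟩ := mul_comm' _ _
      have := congrArg (fun t : A => ((t : R) : GL (Fin n) F)) hab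
      simpa using this
    · let f : A →* scalars (Fin n) F :=
        { toFun := fun a => ⟨((a : R) : GL (Fin n) F), h (Subgroup.mem_map_of_mem _ a.2)⟩
          map_one' := rfl
          map_mul' := fun a b => rfl }
      apply isCyclic_of_injective f
      intro a b hab
      have := congrArg Subtype.val hab
      exact Subtype.ext (Subtype.ext this)
  · -- the exponent
    rcases hcase with ⟨hr2, hexp, _⟩ | ⟨hr2, hexp, hz4, _⟩
    · have hg : Nat.gcd 2 r = 1 := by
        rw [Nat.coprime_primes Nat.prime_two hr |>.mpr (Ne.symm hr2)]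
      rw [hg, mul_one]
      have h1 : Monoid.exponent R ∣ r := by
        apply Monoid.exponent_dvd_of_forall_pow_eq_one
        intro g
        apply Subtype.ext
        simpa using hexp g g.2
      rcases (Nat.dvd_prime hr).mp h1 with h | h
      · exfalso
        rw [Monoid.exp_eq_one_iff] at h
        exact not_subsingleton R h
      · exact h
    · subst hr2
      have hg : Nat.gcd 2 2 = 2 := rfl
      rw [hg]
      have h1 : Monoid.exponent R ∣ 4 := by
        apply Monoid.exponent_dvd_of_forall_pow_eq_one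
        intro g
        apply Subtype.ext
        simpa using hexp g g.2
      obtain ⟨g, hg⟩ := IsCyclic.exists_ofOrder_eq_natCard
        (α := (R ⊓ scalars (Fin n) F : Subgroup (GL (Fin n) F)))
      rw [← hz, hz4] at hg
      have h2 : orderOf (⟨g.1, g.2.1⟩ : R) = 4 := by
        rw [Subgroup.orderOf_mk, Subgroup.orderOf_coe, hg]
      have h3 : 4 ∣ Monoid.exponent R := by
        rw [← h2]; exact Monoid.order_dvd_exponent _
      exact Nat.dvd_antisymm h1 h3
  · -- `r ≠ p`
    intro hrp
    subst hrp
    have he0 : e ≠ 0 := by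
      intro he
      rw [he, pow_zero] at hcardF
      have : 1 < Fintype.card F := Fintype.one_lt_card
      omega
    have h1 : r ∣ r ^ e - 1 := hrz.trans hzdvd
    have h2 : r ∣ r ^ e := dvd_pow_self r he0
    have h3 : 1 ≤ r ^ e := Nat.one_le_pow _ _ hr.pos
    have h4 : r ∣ 1 := by
      have h5 : r ^ e - (r ^ e - 1) = 1 := by omega
      rw [← h5]
      exact Nat.dvd_sub h2 h1
    exact hr.one_lt.ne' (Nat.dvd_one.mp h4)
  · rw [hzc]
    exact ⟨hp, hchar, hcardF, hzdvd, hzmin⟩
  · rcases hcase with ⟨hr2, hexp, hodd⟩ | ⟨hr2, hexp, hz4, he1⟩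
    · left
      have hzr : z = r := by
        have h1 : Monoid.exponent (R ⊓ scalars (Fin n) F : Subgroup (GL (Fin n) F)) ∣ r := by
          apply Monoid.exponent_dvd_of_forall_pow_eq_one
          intro g
          apply Subtype.ext
          simpa using hexp g g.2.1
        rw [IsCyclic.exponent_eq_card] at h1
        rcases (Nat.dvd_prime hr).mp h1 with h | h
        · omega
        · exact h
      refine ⟨hr.odd_of_ne_two hr2, hodd, by rw [hzc, hzr], ?_⟩
      rw [hzr, hk] at hPK7
      -- r ^ k = r * n ^ 2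
      have hk0 : k ≠ 0 := by
        intro h0
        rw [h0, pow_zero] at hk
        have : 1 < Nat.card R := Finite.one_lt_card
        omega
      obtain ⟨k', rfl⟩ := Nat.exists_eq_succ_of_ne_zero hk0
      rw [pow_succ, mul_comm] at hPK7
      have hn2 : r ^ k' = n ^ 2 := Nat.eq_of_mul_eq_mul_left hr.pos hPK7
      have hnd : n ∣ r ^ k' := by rw [hn2]; exact dvd_pow_self n two_ne_zero
      obtain ⟨m, _, hm⟩ := (Nat.dvd_prime_pow hr).mp hnd
      refine ⟨m, ?_, ?_⟩
      · by_contra hcon
        have : m = 0 := by omega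
        rw [this, pow_zero] at hm
        omega
      · rw [hk, pow_succ, hn2, hm, ← pow_mul, mul_comm (r ^ _), ← pow_succ']
        congr 1
        ring
    · right; left
      subst hr2
      rw [hz4, hk] at hPK7
      have hnd : n ∣ 2 ^ k := by
        rw [hPK7]
        exact Dvd.dvd.mul_left (dvd_pow_self n two_ne_zero) 4
      obtain ⟨m, _, hm⟩ := (Nat.dvd_prime_pow Nat.prime_two).mp hnd
      refine ⟨rfl, he1, by rw [hzc, hz4], ?_, m, ?_⟩
      · rw [Fintype.card_fin]
        have hm2 : 2 ≤ m := by
          by_contra hcon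
          have : m = 0 ∨ m = 1 := by omega
          rcases this with h | h <;> rw [h] at hm <;> omega
        calc 4 = 2 ^ 2 := rfl
          _ ≤ 2 ^ m := Nat.pow_le_pow_right (by norm_num) hm2
          _ = n := hm.symm
      · rw [hk, hPK7, hm, ← pow_mul]
        have : (4 : ℕ) = 2 ^ 2 := rfl
        rw [this, ← pow_add]
        congr 1
        ring

end Cfsg.Agent.Lib.Helper50_Asch_PKN2
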