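import Mathlib
import Cfsg.Agent.Lib.Helper98_AschDefs
import Cfsg.Agent.Lib.Helper23_FormDefs
import Cfsg.Agent.Lib.Helper52_Asch_PK7
import Cfsg.Agent.Lib.Helper50_Asch_PKN2
import Cfsg.Agent.Lib.Helper44_Orth
import Cfsg.Agent.Lib.Helper94_OrthGenBridge
import Cfsg.Agent.Lib.Helper85_OrthND_TMUL

set_option autoImplicit false
set_option linter.unusedSectionVars false

/-!
# Package EV12 (helper22, even-dimensional orthogonal rows): the class-2 case.
A group `N` of isometries of a nondegenerate quadratic form spanning the matrix algebra with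
`[N, N]` scalar: the dimension is a power of 2, and if 4 divides it the form is of plus type.
-/

namespace Cfsg.Agent.Lib.Helper70_OrthEven_EV12

open Cfsg Cfsg.Geo Matrix Cfsg.Agent.Lib.Helper98_AschDefs Cfsg.Agent.Lib.Helper23_FormDefs
open scoped commutatorElement

variable {ι : Type} [Fintype ι] [DecidableEq ι] {F : Type*} [Field F]

section basics

variable (Q : (ι → F) → F) (hQ : IsNondegenerateQuadraticForm Q)

include hQ in
/-- a nondegenerate quadratic form is not identically zero -/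
lemma exists_ne_zero [Nonempty ι] : ∃ v, Q v ≠ 0 := by
  obtain ⟨i⟩ := ‹Nonempty ι›
  have hne : (Pi.single i 1 : ι → F) ≠ 0 := by
    intro h
    have := congrFun h i
    simp at this
  obtain ⟨⟨x, hx⟩, -⟩ := hQ.nondegenerate _ hne
  by_contra hall
  simp only [not_exists, not_not] at hall
  apply hx
  rw [QuadraticMap.polar, hall, hall, hall, sub_zero, sub_zero]

include hQ in
/-- a scalar isometry is `±1` -/
lemma scalar_isometry [Nonempty ι] (g : GL ι F) (hg : g ∈ isometryGroup F Q) (c : F)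
    (hc : (g : Matrix ι ι F) = c • (1 : Matrix ι ι F)) : c = 1 ∨ c = -1 := by
  obtain ⟨v, hv⟩ := exists_ne_zero Q hQ
  have h1 := (Cfsg.Agent.Lib.Helper44_Orth.mem_isometryGroup_iff Q g).1 hg v
  rw [hc, Matrix.smul_mulVec, Matrix.one_mulVec, hQ.smul] at h1
  have h2 : (c - 1) * (c + 1) = 0 := by
    have h3 : (c ^ 2 - 1) * Q v = 0 := by rw [sub_mul, h1, one_mul, sub_self]
    rcases mul_eq_zero.1 h3 with h | h
    · rw [← h]; ring
    · exact absurd h hv
  rcases mul_eq_zero.1 h2 with h | h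
  · left; exact sub_eq_zero.1 h
  · right; exact eq_neg_of_add_eq_zero_left h

variable (N : Subgroup (GL ι F)) (hNI : N ≤ isometryGroup F Q) (hspan : spanAlg N = ⊤)
  (hcomm : ⁅N, N⁆ ≤ scalars ι F)

include hQ hNI hcomm in
/-- two elements of `N` commute or anticommute -/
lemma comm_or_anticomm [Nonempty ι] {x y : GL ι F} (hx : x ∈ N) (hy : y ∈ N) :
    (y : Matrix ι ι F) * (x : Matrix ι ι F) = (x : Matrix ι ι F) * (y : Matrix ι ι F) ∨
    (y : Matrix ι ι F) * (x : Matrix ι ι F) = -((x : Matrix ι ι F) * (y : Matrix ι ι F)) := by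
  have h1 : ⁅y, x⁆ ∈ scalars ι F := hcomm (Subgroup.commutator_mem_commutator hy hx)
  have h1N : ⁅y, x⁆ ∈ N := by
    rw [commutatorElement_def]
    exact N.mul_mem (N.mul_mem (N.mul_mem hy hx) (N.inv_mem hy)) (N.inv_mem hx)
  obtain ⟨c, hc⟩ := (mem_scalars_iff _).1 h1
  have h2 : y * x = ⁅y, x⁆ * (x * y) := by
    rw [commutatorElement_def]; group
  have h3 := congrArg (fun g : GL ι F => (g : Matrix ι ι F)) h2
  simp only [Units.val_mul] at h3
  rw [hc, smul_mul_assoc, one_mul] at h3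
  rcases scalar_isometry Q hQ _ (hNI h1N) c hc with h | h
  · left; rw [h3, h, one_smul]
  · right; rw [h3, h, neg_one_smul]

include hQ hNI hspan hcomm in
/-- the square of an element of `N` is `±1` -/
lemma sq_eq [Nonempty ι] {x : GL ι F} (hx : x ∈ N) :
    (x : Matrix ι ι F) * (x : Matrix ι ι F) = 1 ∨ (x : Matrix ι ι F) * (x : Matrix ι ι F) = -1 := by
  have hxx : x * x ∈ N := N.mul_mem hx hx
  have hsc : x * x ∈ scalars ι F := by
    apply Cfsg.Agent.Lib.Helper52_Asch_PK7.mem_scalars_of_commute N hspan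
    intro y hy
    rw [Units.val_mul, ← Matrix.mul_assoc]
    rcases comm_or_anticomm Q hQ N hNI hcomm hx hy with h | h
    · rw [h, Matrix.mul_assoc, h, ← Matrix.mul_assoc]
    · rw [h, Matrix.neg_mul, Matrix.mul_assoc, h, Matrix.mul_neg, neg_neg, ← Matrix.mul_assoc]
  obtain ⟨c, hc⟩ := (mem_scalars_iff _).1 hsc
  rw [Units.val_mul] at hc
  rcases scalar_isometry Q hQ _ (hNI hxx) c (by rw [Units.val_mul]; exact hc) with h | h
  · left; rw [hc, h, one_smul]
  · right; rw [hc, h, neg_one_smul]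

end basics

section pow

variable [Fintype F] (Q : (ι → F) → F) (hQ : IsNondegenerateQuadraticForm Q)
  (N : Subgroup (GL ι F)) (hNI : N ≤ isometryGroup F Q) (hspan : spanAlg N = ⊤)
  (hcomm : ⁅N, N⁆ ≤ scalars ι F)

include hQ hNI hspan hcomm in
/-- the dimension is a power of 2 -/
lemma card_eq_two_pow [Nonempty ι] : ∃ j : ℕ, Fintype.card ι = 2 ^ j := by
  classical
  have hPK7 := Cfsg.Agent.Lib.Helper52_Asch_PK7.PK7 N hspan hcomm
  have h2 := Subgroup.card_eq_card_quotient_mul_card_subgroup ((scalars ι F).subgroupOf N)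
  have h3 : Nat.card ((scalars ι F).subgroupOf N) = Nat.card (N ⊓ scalars ι F : Subgroup (GL ι F)) := by
    rw [← Subgroup.inf_subgroupOf_left]
    exact Nat.card_congr (Subgroup.subgroupOfEquivOfLe inf_le_left).toEquiv
  have hzpos : 0 < Nat.card ((scalars ι F).subgroupOf N) := Nat.card_pos
  have hq : Nat.card (↥N ⧸ (scalars ι F).subgroupOf N) = Fintype.card ι ^ 2 := by
    rw [h2, ← h3, mul_comm] at hPK7
    exact Nat.eq_of_mul_eq_mul_left hzpos hPK7
  have hnormal : ((scalars ι F).subgroupOf N).Normal := by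
    rw [← Cfsg.Agent.Lib.Helper50_Asch_PKN2.center_eq N hspan]
    infer_instance
  have hp : IsPGroup 2 (↥N ⧸ (scalars ι F).subgroupOf N) := by
    intro g
    refine ⟨1, ?_⟩
    induction g using QuotientGroup.induction_on with
    | H x =>
      rw [pow_one, ← QuotientGroup.mk_pow, QuotientGroup.eq_one_iff, Subgroup.mem_subgroupOf,
        mem_scalars_iff]
      have hx2 : ((x ^ 2 : ↥N) : GL ι F) = (x : GL ι F) * (x : GL ι F) := by
        rw [pow_two]; rfl
      rw [hx2, Units.val_mul]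
      rcases sq_eq Q hQ N hNI hspan hcomm x.2 with h | h
      · exact ⟨1, by rw [h, Units.val_one, one_smul]⟩
      · exact ⟨-1, by rw [h, Units.val_neg, Units.val_one, neg_one_smul]⟩
  have : Fact (Nat.Prime 2) := ⟨Nat.prime_two⟩
  obtain ⟨k, hk⟩ := IsPGroup.iff_card.1 hp
  rw [hq] at hk
  have hdvd : Fintype.card ι ∣ 2 ^ k := by
    rw [← hk]
    exact Dvd.intro_left (Fintype.card ι) (by ring)
  obtain ⟨j, -, hj⟩ := (Nat.dvd_prime_pow Nat.prime_two).1 hdvd
  exact ⟨j, hj⟩

end pow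

section invol

variable (Q : (ι → F) → F) (hQ : IsNondegenerateQuadraticForm Q)
  (N : Subgroup (GL ι F)) (hNI : N ≤ isometryGroup F Q) (hspan : spanAlg N = ⊤)
  (hcomm : ⁅N, N⁆ ≤ scalars ι F)

include hspan in
/-- `N` is contained in no subspace of small dimension -/
lemma exists_not_mem (S : Submodule F (Matrix ι ι F))
    (hS : Module.finrank F S < Fintype.card ι ^ 2) : ∃ c ∈ N, (c : Matrix ι ι F) ∉ S := by
  by_contra hall
  simp only [not_exists, not_and, not_not] at hall
  have htop : S = ⊤ := by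
    rw [eq_top_iff]
    intro M _
    have hM : M ∈ spanAlg N := by rw [hspan]; trivial
    rw [mem_spanAlg_iff] at hM
    refine Submodule.span_le.2 ?_ hM
    rintro _ ⟨c, hc, rfl⟩
    exact hall c hc
  rw [htop, finrank_top, Module.finrank_matrix] at hS
  simp only [Module.finrank_self, mul_one] at hS
  rw [sq] at hS
  exact lt_irrefl _ hS

/-- an algebraic identity: three pairwise anticommuting square roots of `-1` -/
lemma abc_sq {R : Type*} [Ring R] (A B C : R) (hA : A * A = -1) (hB : B * B = -1) (hC : C * C = -1)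
    (hBA : B * A = -(A * B)) (hCB : C * B = -(B * C)) (hCA : C * A = -(A * C)) :
    (A * B * C) * (A * B * C) = 1 := by
  calc (A * B * C) * (A * B * C) = A * B * (C * A) * B * C := by simp only [mul_assoc]
    _ = -(A * (B * A) * (C * B) * C) := by rw [hCA]; simp only [mul_neg, neg_mul, mul_assoc]
    _ = -((A * A) * (B * B) * (C * C)) := by
        rw [hBA, hCB]; simp only [mul_neg, neg_mul, neg_neg, mul_assoc]
    _ = 1 := by rw [hA, hB, hC]; simp

include hQ hNI hspan hcomm in
/-- a non-scalar involution in `N` when the dimension is at least 3 -/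
lemma exists_involution [Nonempty ι] (h2 : (2 : F) ≠ 0) (hn3 : 3 ≤ Fintype.card ι) :
    ∃ x ∈ N, (x : Matrix ι ι F) * (x : Matrix ι ι F) = 1 ∧
      ∀ c : F, (x : Matrix ι ι F) ≠ c • (1 : Matrix ι ι F) := by
  classical
  have hn2 : 4 < Fintype.card ι ^ 2 := by nlinarith
  -- 1 ≠ -1
  have hone : (1 : Matrix ι ι F) ≠ -1 := by
    intro h
    obtain ⟨i⟩ := ‹Nonempty ι›
    have h1 := congrFun (congrFun h i) i
    simp only [Matrix.one_apply_eq, Matrix.neg_apply] at h1
    apply h2
    have : (1 : F) + 1 = 0 := by nth_rewrite 1 [h1]; exact neg_add_cancel 1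
    rw [← one_add_one_eq_two]; exact this
  -- inverse of an element with square ±1
  have key : ∀ {y : GL ι F}, y ∈ N → ∀ (M M' : Matrix ι ι F) (l : F),
      (y : Matrix ι ι F) * M = l • M' → ∃ l' : F, M = l' • ((y : Matrix ι ι F) * M') := by
    intro y hy M M' l h
    have h1 := congrArg (fun Z => (y : Matrix ι ι F) * Z) h
    simp only [← Matrix.mul_assoc, Matrix.mul_smul] at h1
    rcases sq_eq Q hQ N hNI hspan hcomm hy with h' | h'
    · rw [h', Matrix.one_mul] at h1
      exact ⟨l, h1⟩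
    · rw [h', Matrix.neg_mul, Matrix.one_mul] at h1
      refine ⟨-l, ?_⟩
      rw [neg_smul, ← h1, neg_neg]
  obtain ⟨a, haN, ha⟩ := exists_not_mem N hspan
    (Submodule.span F (({1} : Finset (Matrix ι ι F)) : Set (Matrix ι ι F)))
    (lt_of_le_of_lt (finrank_span_finset_le_card _) (lt_of_le_of_lt (by simp) hn2))
  obtain ⟨b, hbN, hb⟩ := exists_not_mem N hspan
    (Submodule.span F (({1, (a : Matrix ι ι F)} : Finset (Matrix ι ι F)) : Set (Matrix ι ι F)))
    (lt_of_le_of_lt (finrank_span_finset_le_card _)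
      (lt_of_le_of_lt (Finset.card_le_two) (by omega)))
  obtain ⟨c, hcN, hc⟩ := exists_not_mem N hspan
    (Submodule.span F (({1, (a : Matrix ι ι F), (b : Matrix ι ι F),
      (a : Matrix ι ι F) * (b : Matrix ι ι F)} : Finset (Matrix ι ι F)) : Set (Matrix ι ι F)))
    (lt_of_le_of_lt (finrank_span_finset_le_card _)
      (lt_of_le_of_lt (Finset.card_le_four) hn2))
  -- non-scalar facts
  have hmem1 : ∀ (S : Finset (Matrix ι ι F)) (M : Matrix ι ι F), M ∈ S → ∀ l : F,
      l • M ∈ Submodule.span F (S : Set (Matrix ι ι F)) := fun S M hM l =>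
    Submodule.smul_mem _ _ (Submodule.subset_span (Finset.mem_coe.2 hM))
  have ha' : ∀ l : F, (a : Matrix ι ι F) ≠ l • (1 : Matrix ι ι F) := by
    intro l h
    apply ha
    rw [h]
    exact hmem1 _ _ (by simp) l
  have hb' : ∀ l : F, (b : Matrix ι ι F) ≠ l • (1 : Matrix ι ι F) := by
    intro l h
    apply hb
    rw [h]
    exact hmem1 _ _ (by simp) l
  have hc' : ∀ l : F, (c : Matrix ι ι F) ≠ l • (1 : Matrix ι ι F) := by
    intro l h
    apply hc
    rw [h]
    exact hmem1 _ _ (by simp) l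
  have hab' : ∀ l : F, (a : Matrix ι ι F) * (b : Matrix ι ι F) ≠ l • (1 : Matrix ι ι F) := by
    intro l h
    obtain ⟨l', hl'⟩ := key haN _ _ l h
    apply hb
    rw [hl', Matrix.mul_one]
    exact hmem1 _ _ (by simp) l'
  have hbc' : ∀ l : F, (b : Matrix ι ι F) * (c : Matrix ι ι F) ≠ l • (1 : Matrix ι ι F) := by
    intro l h
    obtain ⟨l', hl'⟩ := key hbN _ _ l h
    apply hc
    rw [hl', Matrix.mul_one]
    exact hmem1 _ _ (by simp) l'
  have hac' : ∀ l : F, (a : Matrix ι ι F) * (c : Matrix ι ι F) ≠ l • (1 : Matrix ι ι F) := by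
    intro l h
    obtain ⟨l', hl'⟩ := key haN _ _ l h
    apply hc
    rw [hl', Matrix.mul_one]
    exact hmem1 _ _ (by simp) l'
  have habc' : ∀ l : F, (a : Matrix ι ι F) * (b : Matrix ι ι F) * (c : Matrix ι ι F) ≠
      l • (1 : Matrix ι ι F) := by
    intro l h
    have habN : a * b ∈ N := N.mul_mem haN hbN
    obtain ⟨l', hl'⟩ := key habN (c : Matrix ι ι F) 1 l (by rw [Units.val_mul]; exact h)
    apply hc
    rw [hl', Matrix.mul_one, Units.val_mul]
    exact hmem1 _ _ (by simp) l'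
  -- case analysis on the squares
  rcases sq_eq Q hQ N hNI hspan hcomm haN with hA | hA
  · exact ⟨a, haN, hA, ha'⟩
  rcases sq_eq Q hQ N hNI hspan hcomm hbN with hB | hB
  · exact ⟨b, hbN, hB, hb'⟩
  rcases sq_eq Q hQ N hNI hspan hcomm hcN with hC | hC
  · exact ⟨c, hcN, hC, hc'⟩
  rcases sq_eq Q hQ N hNI hspan hcomm (N.mul_mem haN hbN) with hAB | hAB
  · exact ⟨a * b, N.mul_mem haN hbN, hAB, by rw [Units.val_mul]; exact hab'⟩
  rcases sq_eq Q hQ N hNI hspan hcomm (N.mul_mem hbN hcN) with hBC | hBC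
  · exact ⟨b * c, N.mul_mem hbN hcN, hBC, by rw [Units.val_mul]; exact hbc'⟩
  rcases sq_eq Q hQ N hNI hspan hcomm (N.mul_mem haN hcN) with hAC | hAC
  · exact ⟨a * c, N.mul_mem haN hcN, hAC, by rw [Units.val_mul]; exact hac'⟩
  -- all squares are -1: pairwise anticommuting
  have anti : ∀ {x y : GL ι F}, x ∈ N → y ∈ N →
      (x : Matrix ι ι F) * (x : Matrix ι ι F) = -1 → (y : Matrix ι ι F) * (y : Matrix ι ι F) = -1 →
      ((x * y : GL ι F) : Matrix ι ι F) * ((x * y : GL ι F) : Matrix ι ι F) = -1 →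
      (y : Matrix ι ι F) * (x : Matrix ι ι F) = -((x : Matrix ι ι F) * (y : Matrix ι ι F)) := by
    intro x y hx hy hxx hyy hxy
    rcases comm_or_anticomm Q hQ N hNI hcomm hx hy with h | h
    · exfalso
      apply hone
      rw [Units.val_mul] at hxy
      have h1 : (x : Matrix ι ι F) * (y : Matrix ι ι F) * ((x : Matrix ι ι F) * (y : Matrix ι ι F)) =
          ((x : Matrix ι ι F) * (x : Matrix ι ι F)) * ((y : Matrix ι ι F) * (y : Matrix ι ι F)) := by
        rw [Matrix.mul_assoc, ← Matrix.mul_assoc (y : Matrix ι ι F), h]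
        simp only [Matrix.mul_assoc]
      rw [hxy, hxx, hyy] at h1
      rw [h1]; simp
    · exact h
  have hBA := anti haN hbN hA hB hAB
  have hCB := anti hbN hcN hB hC hBC
  have hCA := anti haN hcN hA hC hAC
  refine ⟨a * b * c, N.mul_mem (N.mul_mem haN hbN) hcN, ?_, ?_⟩
  · rw [Units.val_mul, Units.val_mul]
    exact abc_sq _ _ _ hA hB hC hBA hCB hCA
  · rw [Units.val_mul, Units.val_mul]
    exact habc'

end invol

section final

open Cfsg.Agent.Lib.Helper40_SpBasic Cfsg.Agent.Lib.Helper88_OrthNDDefs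
  Cfsg.Agent.Lib.Helper94_OrthGenBridge

variable [Fintype F] (Q : (ι → F) → F) (hQ : IsNondegenerateQuadraticForm Q)

/-- transfer of the plus type along an injective isometry -/
lemma plusOn_transfer (Qb : QuadraticForm F (ι → F)) (W W' : Submodule F (ι → F))
    (e : (ι → F) ≃ₗ[F] (ι → F)) (he : ∀ v, Qb (e v) = Qb v) (hmap : ∀ u ∈ W, e u ∈ W')
    (hdim : Module.finrank F W = Module.finrank F W') (h : PlusOn Qb W) : PlusOn Qb W' := by
  obtain ⟨U, hUW, hts, hd⟩ := h
  refine ⟨U.map (e : (ι → F) →ₗ[F] (ι → F)), ?_, ?_, ?_⟩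
  · rintro _ ⟨u, hu, rfl⟩
    exact hmap u (hUW hu)
  · rintro _ ⟨u, hu, rfl⟩
    show Qb (e u) = 0
    rw [he]
    exact hts u hu
  · rw [LinearEquiv.finrank_map_eq, hd, hdim]

include hQ in
/-- a non-scalar involutory isometry `x` and an isometry `y` anticommuting with it give plus type
when 4 divides the dimension -/
lemma plus_of_involution (h2 : (2 : F) ≠ 0) (x y : GL ι F) (hxI : x ∈ isometryGroup F Q)
    (hyI : y ∈ isometryGroup F Q)
    (hxx : (x : Matrix ι ι F) * (x : Matrix ι ι F) = 1)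
    (hyx : (y : Matrix ι ι F) * (x : Matrix ι ι F) = -((x : Matrix ι ι F) * (y : Matrix ι ι F)))
    (h4 : 4 ∣ Fintype.card ι) : IsPlusTypeOn Q ⊤ := by
  classical
  set X : Matrix ι ι F := (x : Matrix ι ι F) with hX
  set Y : Matrix ι ι F := (y : Matrix ι ι F) with hY
  set Qb : QuadraticForm F (ι → F) := qfOf Q hQ with hQb
  have hQbQ : ∀ v, Qb v = Q v := fun v => rfl
  have hXiso : ∀ v, Q (X *ᵥ v) = Q v :=
    (Cfsg.Agent.Lib.Helper44_Orth.mem_isometryGroup_iff Q x).1 hxI
  have hYiso : ∀ v, Q (Y *ᵥ v) = Q v :=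
    (Cfsg.Agent.Lib.Helper44_Orth.mem_isometryGroup_iff Q y).1 hyI
  have hXX : ∀ v, X *ᵥ (X *ᵥ v) = v := by
    intro v
    rw [Matrix.mulVec_mulVec, hxx, Matrix.one_mulVec]
  have hXY : ∀ v, X *ᵥ (Y *ᵥ v) = -(Y *ᵥ (X *ᵥ v)) := by
    intro v
    rw [Matrix.mulVec_mulVec, Matrix.mulVec_mulVec, hyx, Matrix.neg_mulVec, neg_neg]
  set Vp : Submodule F (ι → F) := LinearMap.ker (Matrix.toLin' X - 1) with hVp
  set Vm : Submodule F (ι → F) := LinearMap.ker (Matrix.toLin' X + 1) with hVm
  have hmemp : ∀ v, v ∈ Vp ↔ X *ᵥ v = v := by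
    intro v
    rw [hVp, LinearMap.mem_ker, LinearMap.sub_apply, Matrix.toLin'_apply, Module.End.one_apply,
      sub_eq_zero]
  have hmemm : ∀ v, v ∈ Vm ↔ X *ᵥ v = -v := by
    intro v
    rw [hVm, LinearMap.mem_ker, LinearMap.add_apply, Matrix.toLin'_apply, Module.End.one_apply,
      add_eq_zero_iff_eq_neg]
  have hsup : Vp ⊔ Vm = ⊤ := by
    rw [eq_top_iff]
    intro v _
    have hv : v = (2⁻¹ : F) • (v + X *ᵥ v) + (2⁻¹ : F) • (v - X *ᵥ v) := by
      rw [← smul_add, add_add_sub_cancel, ← two_smul F v, smul_smul, inv_mul_cancel₀ h2, one_smul]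
    rw [hv]
    apply Submodule.add_mem_sup
    · apply Submodule.smul_mem
      rw [hmemp, Matrix.mulVec_add, hXX, add_comm]
    · apply Submodule.smul_mem
      rw [hmemm, Matrix.mulVec_sub, hXX, neg_sub]
  have hinf : Vp ⊓ Vm = ⊥ := by
    rw [eq_bot_iff]
    rintro v ⟨hp, hm⟩
    rw [SetLike.mem_coe, hmemp] at hp
    rw [SetLike.mem_coe, hmemm] at hm
    rw [Submodule.mem_bot]
    have h3 : (2 : F) • v = 0 := by
      rw [two_smul]
      nth_rewrite 1 [← hp]
      rw [hm, neg_add_cancel]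
    rcases smul_eq_zero.1 h3 with h | h
    · exact absurd h h2
    · exact h
  have hpolX : ∀ u w, QuadraticMap.polar Q (X *ᵥ u) (X *ᵥ w) = QuadraticMap.polar Q u w := by
    intro u w
    rw [QuadraticMap.polar, QuadraticMap.polar, ← Matrix.mulVec_add, hXiso, hXiso, hXiso]
  have horth0 : ∀ u ∈ Vp, ∀ w ∈ Vm, QuadraticMap.polar Q u w = 0 := by
    intro u hu w hw
    have h1 := hpolX u w
    rw [(hmemp u).1 hu, (hmemm w).1 hw] at h1
    have h3 : QuadraticMap.polar Q u (-w) = -QuadraticMap.polar Q u w := by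
      have := hQ.polar_bilinear.smul_right (-1) u w
      rwa [neg_one_smul, neg_one_mul] at this
    rw [h3] at h1
    have h4' : (2 : F) * QuadraticMap.polar Q u w = 0 := by
      rw [two_mul]
      nth_rewrite 1 [← h1]
      exact neg_add_cancel _
    rcases mul_eq_zero.1 h4' with h | h
    · exact absurd h h2
    · exact h
  have hpolsymm : ∀ u w, QuadraticMap.polar Q u w = QuadraticMap.polar Q w u :=
    fun u w => QuadraticMap.polar_comm Q u w
  have hpolB : ∀ u w, QuadraticMap.polarBilin Qb u w = QuadraticMap.polar Q u w := fun u w => rfl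
  have horth : Orth Qb Vp Vm := fun u hu w hw => horth0 u hu w hw
  have hNDp : NDOn (QuadraticMap.polarBilin Qb) Vp := by
    intro u hu hall
    by_contra hu0
    obtain ⟨z, hz⟩ := (hQ.nondegenerate u hu0).2
    apply hz
    have hz' : z ∈ Vp ⊔ Vm := by rw [hsup]; trivial
    obtain ⟨zp, hzp, zm, hzm, rfl⟩ := Submodule.mem_sup.1 hz'
    rw [hQ.polar_bilinear.add_right, horth0 u hu zm hzm, add_zero]
    exact hall zp hzp
  have hNDm : NDOn (QuadraticMap.polarBilin Qb) Vm := by
    intro u hu hall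
    by_contra hu0
    obtain ⟨z, hz⟩ := (hQ.nondegenerate u hu0).2
    apply hz
    have hz' : z ∈ Vp ⊔ Vm := by rw [hsup]; trivial
    obtain ⟨zp, hzp, zm, hzm, rfl⟩ := Submodule.mem_sup.1 hz'
    rw [hQ.polar_bilinear.add_right, hpolsymm u zp, horth0 zp hzp u hu, zero_add]
    exact hall zm hzm
  -- the equivalence given by `y`
  have hYY' : ((y⁻¹ : GL ι F) : Matrix ι ι F) * Y = 1 := by
    rw [hY, ← Units.val_mul, inv_mul_cancel, Units.val_one]
  have hY'Y : Y * ((y⁻¹ : GL ι F) : Matrix ι ι F) = 1 := by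
    rw [hY, ← Units.val_mul, mul_inv_cancel, Units.val_one]
  set e : (ι → F) ≃ₗ[F] (ι → F) := Matrix.toLin'OfInv hYY' hY'Y with he
  have hev : ∀ v, e v = Y *ᵥ v := fun v => Matrix.toLin'_apply _ _
  have heQ : ∀ v, Qb (e v) = Qb v := by
    intro v
    rw [hev, hQbQ, hQbQ, hYiso]
  have hpm : ∀ u ∈ Vp, e u ∈ Vm := by
    intro u hu
    rw [hev, hmemm, hXY, (hmemp u).1 hu]
  have hmp : ∀ u ∈ Vm, e u ∈ Vp := by
    intro u hu
    rw [hev, hmemp, hXY, (hmemm u).1 hu, Matrix.mulVec_neg, neg_neg]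
  have hdim : Module.finrank F Vp = Module.finrank F Vm := by
    apply le_antisymm
    · have h1 : Vp.map (e : (ι → F) →ₗ[F] (ι → F)) ≤ Vm := by
        rintro _ ⟨u, hu, rfl⟩
        exact hpm u hu
      have := Submodule.finrank_mono h1
      rwa [LinearEquiv.finrank_map_eq] at this
    · have h1 : Vm.map (e : (ι → F) →ₗ[F] (ι → F)) ≤ Vp := by
        rintro _ ⟨u, hu, rfl⟩
        exact hmp u hu
      have := Submodule.finrank_mono h1
      rwa [LinearEquiv.finrank_map_eq] at this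
  have hsum : Module.finrank F Vp + Module.finrank F Vm = Fintype.card ι := by
    have := Submodule.finrank_sup_add_finrank_inf_eq Vp Vm
    rw [hsup, hinf, finrank_top, finrank_bot, add_zero, Module.finrank_fintype_fun_eq_card] at this
    exact this.symm
  have hevp : Even (Module.finrank F Vp) := by
    obtain ⟨t, ht⟩ := h4
    exact ⟨t, by omega⟩
  have hevm : Even (Module.finrank F Vm) := by rw [← hdim]; exact hevp
  have hT := Cfsg.Agent.Lib.Helper85_OrthND_TMUL.TMUL Qb Vp Vm hNDp hNDm horth hevp hevm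
  have hplus : PlusOn Qb (Vp ⊔ Vm) :=
    hT.2 ⟨plusOn_transfer Qb Vp Vm e heQ hpm hdim, plusOn_transfer Qb Vm Vp e heQ hmp hdim.symm⟩
  rw [hsup] at hplus
  obtain ⟨U, hU, hts, hd⟩ := hplus
  exact ⟨U, hU, fun w hw => hts w hw, hd⟩

end final

/-- EV12: the class-2 case: the dimension is a power of 2, and if 4 divides it the form is of plus type -/
theorem EV12 [Fintype F] (Q : (ι → F) → F) (hQ : IsNondegenerateQuadraticForm Q) (hn : 2 ≤ Fintype.card ι)
    (N : Subgroup (GL ι F)) (hNI : N ≤ isometryGroup F Q) (hspan : spanAlg N = ⊤) (hcomm : ⁅N, N⁆ ≤ scalars ι F) :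
    (∃ j : ℕ, Fintype.card ι = 2 ^ j) ∧ (4 ∣ Fintype.card ι → IsPlusTypeOn Q ⊤) := by
  classical
  have hne : Nonempty ι := Fintype.card_pos_iff.1 (by omega)
  refine ⟨card_eq_two_pow Q hQ N hNI hspan hcomm, fun h4 => ?_⟩
  have hn2 : 1 < Fintype.card ι ^ 2 := by nlinarith
  have hns : ∃ c ∈ N, (c : Matrix ι ι F) ∉
      Submodule.span F (({1} : Finset (Matrix ι ι F)) : Set (Matrix ι ι F)) :=
    exists_not_mem N hspan _
      (lt_of_le_of_lt (finrank_span_finset_le_card _) (lt_of_le_of_lt (by simp) hn2))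
  have h2 : (2 : F) ≠ 0 := by
    intro h20
    have hnegM : ∀ M : Matrix ι ι F, -M = M := by
      intro M
      have h1 : M + M = 0 := by rw [← two_smul F M, h20, zero_smul]
      exact neg_eq_of_add_eq_zero_left h1
    have hab : ∀ x ∈ N, ∀ y ∈ N, x * y = y * x := by
      intro x hx y hy
      apply Units.ext
      rw [Units.val_mul, Units.val_mul]
      rcases comm_or_anticomm Q hQ N hNI hcomm hx hy with h | h
      · exact h.symm
      · rw [h, hnegM]
    have hsc := Cfsg.Agent.Lib.Helper50_Asch_PKN2.le_scalars_of_comm N hspan hab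
    obtain ⟨c, hcN, hc⟩ := hns
    apply hc
    obtain ⟨l, hl⟩ := (mem_scalars_iff _).1 (hsc hcN)
    rw [hl]
    exact Submodule.smul_mem _ _ (Submodule.subset_span (by simp))
  have hn3 : 3 ≤ Fintype.card ι := by
    obtain ⟨t, ht⟩ := h4
    omega
  obtain ⟨x, hxN, hxx, hxns⟩ := exists_involution Q hQ N hNI hspan hcomm h2 hn3
  have hy : ∃ y ∈ N, (y : Matrix ι ι F) * (x : Matrix ι ι F) ≠ (x : Matrix ι ι F) * (y : Matrix ι ι F) := by
    by_contra hall
    simp only [not_exists, not_and, not_not] at hall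
    obtain ⟨l, hl⟩ := Cfsg.Agent.Lib.Helper52_Asch_PK7.exists_smul_one_of_commute N hspan
      (x : Matrix ι ι F) hall
    exact hxns l hl
  obtain ⟨y, hyN, hyx⟩ := hy
  have hanti : (y : Matrix ι ι F) * (x : Matrix ι ι F) = -((x : Matrix ι ι F) * (y : Matrix ι ι F)) := by
    rcases comm_or_anticomm Q hQ N hNI hcomm hxN hyN with h | h
    · exact absurd h hyx
    · exact h
  exact plus_of_involution Q hQ h2 x y (hNI hxN) (hNI hyN) hxx hanti h4

end Cfsg.Agent.Lib.Helper70_OrthEven_EV12
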