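import Mathlib
import Cfsg.Agent.Lib.Helper98_AschDefs
import Cfsg.Agent.Lib.Helper98_AschCliff
import Cfsg.Agent.Lib.Helper23_FormDefs

/-!
# FORM package F3 (helper71 for helper23; S5662 Sp / S5663 SU / S5673 and the even orthogonal rows)

An adjoint-closed normalized algebra whose centre is a field bigger than `F` gives an adjoint-closed
normalized field of prime degree.
-/

set_option autoImplicit false
set_option linter.unusedSectionVars false

open Cfsg Cfsg.Geo Matrix Cfsg.Agent.Lib.Helper98_AschDefs Cfsg.Agent.Lib.Helper23_FormDefs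
open scoped Kronecker

namespace Cfsg.Agent.Lib.Helper71_Form_F3

/-- a finite field extension of degree `≠ 1` has an intermediate field of prime degree `r` over the
base, cut out by `x ^ (q ^ r) = x` -/
theorem exists_frob_subfield {F L : Type*} [Field F] [Fintype F] [Field L] [Finite L] [Algebra F L]
    (hd : Module.finrank F L ≠ 1) :
    ∃ (r : ℕ) (E : IntermediateField F L), r.Prime ∧ Module.finrank F E = r ∧
      ∀ x : L, x ∈ E ↔ x ^ (Fintype.card F ^ r) = x := by
  classical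
  have hpos : 0 < Module.finrank F L := Module.finrank_pos
  obtain ⟨r, hr, hdvd⟩ := Nat.exists_prime_and_dvd hd
  set g : Gal(L/F) := FiniteField.frobeniusAlgEquivOfAlgebraic F L with hg
  have hog : orderOf g = Module.finrank F L := FiniteField.orderOf_frobeniusAlgEquivOfAlgebraic F L
  set S : Subgroup Gal(L/F) := Subgroup.zpowers (g ^ r) with hSdef
  have hS : Nat.card S = Module.finrank F L / r := by
    rw [hSdef, Nat.card_zpowers, orderOf_pow, hog, Nat.gcd_eq_right hdvd]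
  refine ⟨r, IntermediateField.fixedField S, hr, ?_, ?_⟩
  · have h1 : Module.finrank (IntermediateField.fixedField S) L = Nat.card S :=
      IntermediateField.finrank_fixedField_eq_card S
    have h2 := Module.finrank_mul_finrank F (IntermediateField.fixedField S) L
    rw [h1, hS] at h2
    obtain ⟨m, hm⟩ := hdvd
    rw [hm, Nat.mul_div_cancel_left m hr.pos] at h2
    have hm0 : 0 < m := by
      rcases Nat.eq_zero_or_pos m with h0 | h0
      · rw [h0, mul_zero] at hm; omega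
      · exact h0
    exact Nat.eq_of_mul_eq_mul_right hm0 h2
  · intro x
    have hgr : (g ^ r) x = x ^ (Fintype.card F ^ r) := by
      rw [AlgEquiv.coe_pow, hg, FiniteField.coe_frobeniusAlgEquivOfAlgebraic_iterate]
    rw [IntermediateField.mem_fixedField_iff]
    constructor
    · intro h
      rw [← hgr]
      exact h (g ^ r) (Subgroup.mem_zpowers _)
    · intro h τ hτ
      have hle : S ≤ MulAction.stabilizer Gal(L/F) x := by
        rw [hSdef, Subgroup.zpowers_le, MulAction.mem_stabilizer_iff, AlgEquiv.smul_def, hgr, h]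
      have := hle hτ
      rwa [MulAction.mem_stabilizer_iff, AlgEquiv.smul_def] at this

variable {ι : Type} [Fintype ι] [DecidableEq ι] {F : Type*} [Field F]

/-- right adjoints are unique -/
theorem adj_unique (σ : F ≃+* F) (f : (ι → F) → (ι → F) → F) (hf : IsSesq σ f)
    (hnd : IsNondegenerateForm f) (M M' : Matrix ι ι F)
    (h : ∀ u v, f u (M *ᵥ v) = f u (M' *ᵥ v)) : M = M' := by
  rw [Matrix.ext_iff_mulVec]
  intro v
  by_contra hne
  have hw : M *ᵥ v - M' *ᵥ v ≠ 0 := sub_ne_zero.2 hne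
  obtain ⟨x, hx⟩ := (hnd _ hw).1
  apply hx
  rw [sub_eq_add_neg, ← neg_one_smul F (M' *ᵥ v), hf.add_right, hf.smul_right, map_neg, map_one,
    h x v]
  ring

/-- a matrix with zero right adjoint vanishes -/
theorem eq_of_adj_eq (σ : F ≃+* F) (f : (ι → F) → (ι → F) → F) (hf : IsSesq σ f)
    (hnd : IsNondegenerateForm f) (M M' : Matrix ι ι F)
    (h : ∀ u v, f (M *ᵥ u) v = f (M' *ᵥ u) v) : M = M' := by
  rw [Matrix.ext_iff_mulVec]
  intro v
  by_contra hne
  have hw : M *ᵥ v - M' *ᵥ v ≠ 0 := sub_ne_zero.2 hne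
  obtain ⟨x, hx⟩ := (hnd _ hw).2
  apply hx
  rw [sub_eq_add_neg, ← neg_one_smul F (M' *ᵥ v), hf.add_left, hf.smul_left, h v x]
  ring

/-- adjoints of powers -/
theorem adj_pow (f : (ι → F) → (ι → F) → F) (k k' : Matrix ι ι F)
    (h : ∀ u v, f (k *ᵥ u) v = f u (k' *ᵥ v)) (n : ℕ) :
    ∀ u v, f ((k ^ n) *ᵥ u) v = f u ((k' ^ n) *ᵥ v) := by
  induction n with
  | zero => intro u v; simp
  | succ n ih =>
    intro u v
    rw [pow_succ', pow_succ, ← Matrix.mulVec_mulVec, h, ih, Matrix.mulVec_mulVec]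

/-- F3: an adjoint-closed normalized algebra whose centre is a field bigger than `F` gives an adjoint-closed
normalized field of prime degree -/
theorem F3 [Fintype F] (σ : F ≃+* F) (f : (ι → F) → (ι → F) → F) (hf : IsSesq σ f)
    (hnd : IsNondegenerateForm f) (H : Subgroup (GL ι F)) (A : Subalgebra F (Matrix ι ι F))
    (hA : NormalizesAlg H A) (hadj : IsAdjointClosedFor f A)
    (hz : ∃ z ∈ A, (∀ a ∈ A, z * a = a * z) ∧ ∀ c : F, z ≠ c • (1 : Matrix ι ι F))
    (hinv : ∀ x ∈ A, (∀ a ∈ A, x * a = a * x) → x ≠ 0 → ∃ y ∈ A, (∀ a ∈ A, y * a = a * y) ∧ x * y = 1) :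
    ∃ (r : ℕ) (K : Subalgebra F (Matrix ι ι F)), r.Prime ∧ IsFieldSubalgebra r K ∧
      H ≤ subalgebraNormalizer K ∧ IsAdjointClosedFor f K := by
  classical
  obtain ⟨z, hzA, hzc, hz⟩ := hz
  have hnt : Nontrivial (Matrix ι ι F) := by
    by_contra hcon
    rw [not_nontrivial_iff_subsingleton] at hcon
    exact hz 0 (Subsingleton.elim _ _)
  -- the centre
  set Z : Subalgebra F (Matrix ι ι F) := A ⊓ Subalgebra.centralizer F (A : Set (Matrix ι ι F)) with hZ
  have hmemZ : ∀ x, x ∈ Z ↔ x ∈ A ∧ ∀ a ∈ A, x * a = a * x := by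
    intro x
    rw [hZ, Algebra.mem_inf, Subalgebra.mem_centralizer_iff]
    constructor
    · rintro ⟨h1, h2⟩
      exact ⟨h1, fun a ha => (h2 a ha).symm⟩
    · rintro ⟨h1, h2⟩
      exact ⟨h1, fun a ha => (h2 a ha).symm⟩
  have hZcomm : ∀ x ∈ Z, ∀ y ∈ Z, x * y = y * x := fun x hx y hy =>
    ((hmemZ x).1 hx).2 y ((hmemZ y).1 hy).1
  have hZinv : ∀ x ∈ Z, x ≠ 0 → ∃ y ∈ Z, x * y = 1 := by
    intro x hx hx0
    obtain ⟨y, hy, hyc, hxy⟩ := hinv x ((hmemZ x).1 hx).1 ((hmemZ x).1 hx).2 hx0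
    exact ⟨y, (hmemZ y).2 ⟨hy, hyc⟩, hxy⟩
  have hzZ : z ∈ Z := (hmemZ z).2 ⟨hzA, hzc⟩
  -- the adjoint map on `A`
  choose star hstarA hstar using fun a : A => hadj a a.2
  let s : A → A := fun a => ⟨star a, hstarA a⟩
  have hs : ∀ (a : A) (u v : ι → F), f ((a : Matrix ι ι F) *ᵥ u) v = f u ((s a : Matrix ι ι F) *ᵥ v) :=
    fun a u v => hstar a u v
  have hsinj : Function.Injective s := by
    intro a b hab
    apply Subtype.ext
    apply eq_of_adj_eq σ f hf hnd
    intro u v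
    rw [hs a, hs b, hab]
  have hssurj : Function.Surjective s := Finite.injective_iff_surjective.1 hsinj
  -- the centre is closed under adjoints
  have hZadj : ∀ x ∈ Z, ∀ x' : Matrix ι ι F, x' ∈ A →
      (∀ u v, f (x *ᵥ u) v = f u (x' *ᵥ v)) → x' ∈ Z := by
    intro x hx x' hx'A hxx'
    refine (hmemZ x').2 ⟨hx'A, ?_⟩
    intro a ha
    obtain ⟨b, hb⟩ := hssurj ⟨a, ha⟩
    have hba : ∀ u v, f ((b : Matrix ι ι F) *ᵥ u) v = f u (a *ᵥ v) := by
      intro u v
      rw [hs b, hb]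
    apply adj_unique σ f hf hnd
    intro u v
    rw [← Matrix.mulVec_mulVec, ← Matrix.mulVec_mulVec, ← hxx', ← hba, ← hba, ← hxx',
      Matrix.mulVec_mulVec, Matrix.mulVec_mulVec, ((hmemZ x).1 hx).2 b b.2]
  -- the centre is normalized by `H`
  have hZnorm : ∀ h ∈ H, ∀ x ∈ Z,
      (h : Matrix ι ι F) * x * ((h⁻¹ : GL ι F) : Matrix ι ι F) ∈ Z := by
    intro h hh x hx
    rw [hmemZ] at hx ⊢
    refine ⟨hA h hh x hx.1, fun a ha => ?_⟩
    have h1 := hA h⁻¹ (H.inv_mem hh) a ha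
    rw [inv_inv] at h1
    have h2 := hx.2 _ h1
    have e1 : (h : Matrix ι ι F) * ((h⁻¹ : GL ι F) : Matrix ι ι F) = 1 := by
      rw [← Units.val_mul, mul_inv_cancel, Units.val_one]
    have e2 : ((h⁻¹ : GL ι F) : Matrix ι ι F) * (h : Matrix ι ι F) = 1 := by
      rw [← Units.val_mul, inv_mul_cancel, Units.val_one]
    calc (h : Matrix ι ι F) * x * ((h⁻¹ : GL ι F) : Matrix ι ι F) * a
        = (h : Matrix ι ι F) * (x * (((h⁻¹ : GL ι F) : Matrix ι ι F) * a * (h : Matrix ι ι F))) *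
            ((h⁻¹ : GL ι F) : Matrix ι ι F) := by
          simp only [mul_assoc, e1, mul_one]
      _ = (h : Matrix ι ι F) * ((((h⁻¹ : GL ι F) : Matrix ι ι F) * a * (h : Matrix ι ι F)) * x) *
            ((h⁻¹ : GL ι F) : Matrix ι ι F) := by rw [h2]
      _ = a * ((h : Matrix ι ι F) * x * ((h⁻¹ : GL ι F) : Matrix ι ι F)) := by
          simp only [← mul_assoc, e1, one_mul]
  -- the centre is a field
  have hK : IsField Z :=
    { exists_pair_ne := ⟨0, 1, fun h => zero_ne_one (α := Matrix ι ι F) (congrArg Subtype.val h)⟩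
      mul_comm := fun x y => Subtype.ext (hZcomm x x.2 y y.2)
      mul_inv_cancel := fun {a} ha => by
        obtain ⟨y, hy, hxy⟩ := hZinv a a.2 (fun h => ha (Subtype.ext h))
        exact ⟨⟨y, hy⟩, Subtype.ext hxy⟩ }
  let _ : Field Z := hK.toField
  have hd : Module.finrank F Z ≠ 1 := by
    intro h1
    obtain ⟨c, hc⟩ := (finrank_eq_one_iff_of_nonzero' (1 : Z) one_ne_zero).1 h1 ⟨z, hzZ⟩
    apply hz c
    have := congrArg Subtype.val hc
    simpa using this.symm
  obtain ⟨r, E, hr, hfr, hE⟩ := exists_frob_subfield (F := F) (L := Z) hd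
  set N : ℕ := Fintype.card F ^ r with hN
  set K' : Subalgebra F (Matrix ι ι F) := E.toSubalgebra.map Z.val with hK'
  have hmem : ∀ x, x ∈ K' ↔ ∃ e : Z, e ∈ E ∧ (e : Matrix ι ι F) = x := by
    intro x
    rw [hK', Subalgebra.mem_map]
    rfl
  have hmem' : ∀ x, x ∈ K' ↔ x ∈ Z ∧ x ^ N = x := by
    intro x
    rw [hmem]
    constructor
    · rintro ⟨e, he, rfl⟩
      refine ⟨e.2, ?_⟩
      have := congrArg Subtype.val ((hE e).1 he)
      exact this
    · rintro ⟨hxZ, hxN⟩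
      exact ⟨⟨x, hxZ⟩, (hE _).2 (Subtype.ext hxN), rfl⟩
  have hK'Z : ∀ x ∈ K', x ∈ Z := fun x hx => ((hmem' x).1 hx).1
  refine ⟨r, K', hr, ⟨?_, ?_, ?_⟩, ?_, ?_⟩
  · intro x hx y hy
    exact hZcomm x (hK'Z x hx) y (hK'Z y hy)
  · intro x hx hx0
    obtain ⟨e, he, rfl⟩ := (hmem x).1 hx
    have he0 : e ≠ 0 := by
      intro h0; apply hx0; rw [h0]; rfl
    refine ⟨((e⁻¹ : Z) : Matrix ι ι F), (hmem _).2 ⟨e⁻¹, E.inv_mem he, rfl⟩, ?_⟩
    have := mul_inv_cancel₀ he0
    exact congrArg Subtype.val this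
  · rw [← hfr]
    have hinj : Function.Injective (Z.val : Z →ₐ[F] Matrix ι ι F) := Subtype.val_injective
    exact (LinearEquiv.finrank_eq (E.toSubalgebra.equivMapOfInjective Z.val hinj).toLinearEquiv).symm
  · -- H normalizes K'
    have key : ∀ h ∈ H, ∀ k ∈ K', (h : Matrix ι ι F) * k *
        ((h⁻¹ : GL ι F) : Matrix ι ι F) ∈ K' := by
      intro h hh k hk
      obtain ⟨hkZ, hkN⟩ := (hmem' k).1 hk
      refine (hmem' _).2 ⟨hZnorm h hh k hkZ, ?_⟩
      rw [Units.conj_pow, hkN]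
    intro h hh k
    constructor
    · exact key h hh k
    · intro hk
      have := key h⁻¹ (H.inv_mem hh) _ hk
      rw [inv_inv] at this
      have h3 : ((h⁻¹ : GL ι F) : Matrix ι ι F) *
          ((h : Matrix ι ι F) * k * ((h⁻¹ : GL ι F) : Matrix ι ι F)) *
          (h : Matrix ι ι F) = k := by
        simp [mul_assoc]
      rwa [h3] at this
  · -- K' is adjoint-closed
    intro k hk
    obtain ⟨hkZ, hkN⟩ := (hmem' k).1 hk
    obtain ⟨k', hk'A, hkk'⟩ := hadj k ((hmemZ k).1 hkZ).1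
    refine ⟨k', (hmem' k').2 ⟨hZadj k hkZ k' hk'A hkk', ?_⟩, hkk'⟩
    apply adj_unique σ f hf hnd
    intro u v
    rw [← adj_pow f k k' hkk' N u v, hkN, hkk']

end Cfsg.Agent.Lib.Helper71_Form_F3
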