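/-
Additive maps `D : V → F` with `D (c • u) = c ^ 2 * D u` over a finite field of characteristic 2
(differences of quadratic forms with the same polar form), for helper22's EVEN market (helper73).
-/
import Mathlib

set_option autoImplicit false

namespace Cfsg.Agent.Lib.Helper73_OrthEven_FrobAdd

open Module

variable {F : Type*} [Field F] {V : Type*} [AddCommGroup V] [Module F V]

/-- additive and semilinear for the squaring map -/
structure IsFrobAdd (D : V → F) : Prop where
  add : ∀ u v, D (u + v) = D u + D v
  smul : ∀ (c : F) (u : V), D (c • u) = c ^ 2 * D u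

namespace IsFrobAdd

variable {D : V → F}

theorem zero (h : IsFrobAdd D) : D 0 = 0 := by
  have := h.smul 0 0
  simpa using this

/-- the zero set of `D` as a subspace -/
def zeroSet (h : IsFrobAdd D) : Submodule F V where
  carrier := {u | D u = 0}
  add_mem' {u v} hu hv := by
    show D (u + v) = 0
    rw [h.add, (hu : D u = 0), (hv : D v = 0), add_zero]
  zero_mem' := h.zero
  smul_mem' c u hu := by
    show D (c • u) = 0
    rw [h.smul, (hu : D u = 0), mul_zero]

theorem mem_zeroSet (h : IsFrobAdd D) (u : V) : u ∈ h.zeroSet ↔ D u = 0 := Iff.rfl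

theorem sum (h : IsFrobAdd D) {κ : Type*} (s : Finset κ) (g : κ → V) :
    D (∑ i ∈ s, g i) = ∑ i ∈ s, D (g i) := by
  classical
  induction s using Finset.induction_on with
  | empty => simpa using h.zero
  | insert b s hb ih => rw [Finset.sum_insert hb, Finset.sum_insert hb, h.add, ih]

/-- `D` vanishes identically as soon as it vanishes on a spanning set -/
theorem eq_zero_of_span (h : IsFrobAdd D) (S : Set V) (hS : Submodule.span F S = ⊤)
    (h0 : ∀ t ∈ S, D t = 0) (u : V) : D u = 0 := by
  have : (⊤ : Submodule F V) ≤ h.zeroSet := by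
    rw [← hS, Submodule.span_le]
    exact h0
  exact this Submodule.mem_top

/-- over a finite field of characteristic 2: if `D` has no non-trivial zero, any two vectors are
proportional -/
theorem proportional [Finite F] (h2 : (2 : F) = 0) (h : IsFrobAdd D)
    (hz : ∀ u, D u = 0 → u = 0) (u₁ u₂ : V) : u₁ = 0 ∨ ∃ c : F, u₂ = c • u₁ := by
  by_cases h1 : u₁ = 0
  · exact Or.inl h1
  right
  have hD1 : D u₁ ≠ 0 := fun h0 => h1 (hz _ h0)
  have hchar : ringChar F = 2 := by
    have : CharP F 2 := by
      refine CharTwo.of_one_ne_zero_of_two_eq_zero one_ne_zero ?_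
      exact h2
    exact ringChar.eq F 2
  obtain ⟨c, hc⟩ := FiniteField.isSquare_of_char_two hchar (D u₂ / D u₁)
  refine ⟨c, ?_⟩
  have h3 : D (c • u₁ + u₂) = 0 := by
    rw [h.add, h.smul, pow_two, ← hc, div_mul_cancel₀ _ hD1, ← two_mul, h2, zero_mul]
  have h4 := hz _ h3
  have h5 : u₂ = -(c • u₁) := by
    rw [eq_neg_iff_add_eq_zero, add_comm]; exact h4
  rw [h5, ← neg_smul]
  congr 1
  have : (2 : F) * c = 0 := by rw [h2, zero_mul]
  linear_combination -this

end IsFrobAdd

/-- two maps with the same `c²`-law and the same polar form differ by an additive semilinear map -/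
theorem isFrobAdd_sub {Q Q₀ : V → F} (hQ : ∀ (c : F) (u : V), Q (c • u) = c ^ 2 * Q u)
    (hQ₀ : ∀ (c : F) (u : V), Q₀ (c • u) = c ^ 2 * Q₀ u)
    (hpol : ∀ u v, QuadraticMap.polar Q u v = QuadraticMap.polar Q₀ u v) :
    IsFrobAdd (fun u => Q u - Q₀ u) where
  add u v := by
    have := hpol u v
    unfold QuadraticMap.polar at this
    linear_combination this
  smul c u := by
    show Q (c • u) - Q₀ (c • u) = c ^ 2 * (Q u - Q₀ u)
    rw [hQ, hQ₀]; ring

end Cfsg.Agent.Lib.Helper73_OrthEven_FrobAdd
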