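import Mathlib
import Cfsg.Prelude.Def_GeometricClasses
import Cfsg.Agent.Lib.Helper94_Bridge

set_option autoImplicit false

/-!
Pure tensors in coordinate spaces `κ₁ × κ₂ → F`, the action of Kronecker products on them, Gram
forms of Kronecker products, and the description of the prelude's `tensorProductSubgroup` through
its action on pure tensors (helper94).
-/

namespace Cfsg.Agent.Lib.Helper94_TensorVec

open Matrix Module Cfsg.Agent.Lib.Helper94_Bridge
open scoped Kronecker

variable {F : Type*} [Field F]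

section pure

variable {κ₁ κ₂ : Type} [Fintype κ₁] [Fintype κ₂]

/-- The pure tensor `a ⊗ y` as a coordinate vector. -/
def ten (a : κ₁ → F) (y : κ₂ → F) : κ₁ × κ₂ → F := fun p => a p.1 * y p.2

omit [Fintype κ₁] [Fintype κ₂] in
@[simp] lemma ten_apply (a : κ₁ → F) (y : κ₂ → F) (p : κ₁ × κ₂) : ten a y p = a p.1 * y p.2 := rfl

omit [Fintype κ₁] [Fintype κ₂] in
lemma ten_add_left (a a' : κ₁ → F) (y : κ₂ → F) : ten (a + a') y = ten a y + ten a' y := by
  ext p; simp [add_mul]

omit [Fintype κ₁] [Fintype κ₂] in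
lemma ten_add_right (a : κ₁ → F) (y y' : κ₂ → F) : ten a (y + y') = ten a y + ten a y' := by
  ext p; simp [mul_add]

omit [Fintype κ₁] [Fintype κ₂] in
lemma ten_smul_left (c : F) (a : κ₁ → F) (y : κ₂ → F) : ten (c • a) y = c • ten a y := by
  ext p; simp [mul_assoc]

omit [Fintype κ₁] [Fintype κ₂] in
lemma ten_smul_right (c : F) (a : κ₁ → F) (y : κ₂ → F) : ten a (c • y) = c • ten a y := by
  ext p; simp [mul_left_comm]

omit [Fintype κ₁] [Fintype κ₂] in
lemma ten_zero_right (a : κ₁ → F) : ten a (0 : κ₂ → F) = 0 := by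
  ext p; simp

omit [Fintype κ₁] [Fintype κ₂] in
lemma ten_zero_left (y : κ₂ → F) : ten (0 : κ₁ → F) y = 0 := by
  ext p; simp

/-- Kronecker products act factorwise on pure tensors. -/
lemma kron_mulVec_ten (A : Matrix κ₁ κ₁ F) (B : Matrix κ₂ κ₂ F) (a : κ₁ → F) (y : κ₂ → F) :
    (A ⊗ₖ B) *ᵥ ten a y = ten (A *ᵥ a) (B *ᵥ y) := by
  ext ⟨i, j⟩
  simp only [Matrix.mulVec, dotProduct, Matrix.kroneckerMap_apply, ten_apply,
    Fintype.sum_prod_type, Finset.sum_mul_sum]
  refine Finset.sum_congr rfl fun i' _ => Finset.sum_congr rfl fun j' _ => ?_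
  ring

variable [DecidableEq κ₁] [DecidableEq κ₂]

/-- Every vector is a sum of pure tensors with first factors the standard basis vectors. -/
lemma eq_sum_ten (x : κ₁ × κ₂ → F) :
    x = ∑ i, ten (Pi.single i (1 : F)) (fun j => x (i, j)) := by
  ext ⟨i, j⟩
  simp only [Finset.sum_apply, ten_apply]
  rw [Finset.sum_eq_single i]
  · simp
  · intro b _ hb
    simp [Pi.single_eq_of_ne hb.symm]
  · intro h
    exact absurd (Finset.mem_univ i) h

/-- A bilinear form is given by its Gram matrix. -/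
lemma form_eq_gram {κ : Type} [Fintype κ] [DecidableEq κ] (f : (κ → F) → (κ → F) → F)
    (hf : Cfsg.Geo.IsBilinearForm f) (a a' : κ → F) :
    f a a' = ∑ i, ∑ i', a i * Cfsg.Geo.gramMatrix f i i' * a' i' := by
  have hsuml : ∀ (s : Finset κ) (g : κ → (κ → F)) (v : κ → F),
      f (∑ i ∈ s, g i) v = ∑ i ∈ s, f (g i) v := by
    intro s g v
    induction s using Finset.induction_on with
    | empty =>
      simp only [Finset.sum_empty]
      have := hf.smul_left 0 0 v
      simpa using this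
    | insert b s hb ih => rw [Finset.sum_insert hb, Finset.sum_insert hb, hf.add_left, ih]
  have hsumr : ∀ (s : Finset κ) (g : κ → (κ → F)) (v : κ → F),
      f v (∑ i ∈ s, g i) = ∑ i ∈ s, f v (g i) := by
    intro s g v
    induction s using Finset.induction_on with
    | empty =>
      simp only [Finset.sum_empty]
      have := hf.smul_right 0 v 0
      simpa using this
    | insert b s hb ih => rw [Finset.sum_insert hb, Finset.sum_insert hb, hf.add_right, ih]
  have ha : a = ∑ i, a i • (Pi.single i (1 : F) : κ → F) := by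
    ext k
    simp [Finset.sum_apply, Pi.single_apply]
  have ha' : a' = ∑ i, a' i • (Pi.single i (1 : F) : κ → F) := by
    ext k
    simp [Finset.sum_apply, Pi.single_apply]
  conv_lhs => rw [ha, ha']
  rw [hsuml]
  refine Finset.sum_congr rfl fun i _ => ?_
  rw [hsumr]
  refine Finset.sum_congr rfl fun i' _ => ?_
  rw [hf.smul_left, hf.smul_right]
  unfold Cfsg.Geo.gramMatrix
  ring

/-- The Gram form of a Kronecker product on pure tensors. -/
lemma formOfGram_ten (f₁ : (κ₁ → F) → (κ₁ → F) → F) (f₂ : (κ₂ → F) → (κ₂ → F) → F)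
    (hf₁ : Cfsg.Geo.IsBilinearForm f₁) (hf₂ : Cfsg.Geo.IsBilinearForm f₂)
    (a a' : κ₁ → F) (y y' : κ₂ → F) :
    Cfsg.Geo.formOfGram id (Cfsg.Geo.gramMatrix f₁ ⊗ₖ Cfsg.Geo.gramMatrix f₂) (ten a y)
      (ten a' y') = f₁ a a' * f₂ y y' := by
  rw [form_eq_gram f₁ hf₁, form_eq_gram f₂ hf₂]
  unfold Cfsg.Geo.formOfGram
  simp only [Fintype.sum_prod_type, Matrix.kroneckerMap_apply, ten_apply, id, Finset.sum_mul_sum]
  refine Finset.sum_congr rfl fun i _ => ?_
  refine Finset.sum_congr rfl fun j _ => ?_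
  refine Finset.sum_congr rfl fun i' _ => ?_
  refine Finset.sum_congr rfl fun j' _ => ?_
  ring

end pure

section bridge

variable {ι : Type} [Fintype ι] [DecidableEq ι] {n₁ n₂ : ℕ}

/-- The coordinate isomorphism `x ↦ P (x ∘ e)`. -/
noncomputable def phi (e : ι ≃ Fin n₁ × Fin n₂) (P : GL ι F) :
    (Fin n₁ × Fin n₂ → F) ≃ₗ[F] (ι → F) :=
  (LinearEquiv.funCongrLeft F F e).trans (glEquiv ι F P)

lemma phi_apply (e : ι ≃ Fin n₁ × Fin n₂) (P : GL ι F) (x : Fin n₁ × Fin n₂ → F) :
    phi e P x = (P : Matrix ι ι F) *ᵥ (x ∘ e) := by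
  unfold phi
  rw [LinearEquiv.trans_apply, glEquiv_apply]
  rfl

/-- Elements of the prelude's tensor product subgroup act factorwise on pure tensors. -/
theorem exists_factors (e : ι ≃ Fin n₁ × Fin n₂) (P : GL ι F) {g : GL ι F}
    (hg : g ∈ Cfsg.Geo.tensorProductSubgroup n₁ n₂ e P) :
    ∃ (A : Matrix (Fin n₁) (Fin n₁) F) (B : Matrix (Fin n₂) (Fin n₂) F),
      ∀ (a : Fin n₁ → F) (y : Fin n₂ → F),
        glEquiv ι F g (phi e P (ten a y)) = phi e P (ten (A *ᵥ a) (B *ᵥ y)) := by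
  unfold Cfsg.Geo.tensorProductSubgroup at hg
  obtain ⟨r, hr, rfl⟩ := Subgroup.mem_map.mp hg
  obtain ⟨k, hk, rfl⟩ := Subgroup.mem_map.mp hr
  obtain ⟨A, B, hAB⟩ := hk
  refine ⟨(A : Matrix _ _ F), (B : Matrix _ _ F), fun a y => ?_⟩
  rw [glEquiv_apply, phi_apply, phi_apply, ← kron_mulVec_ten, ← hAB]
  have h1 : (((MulAut.conj P).toMonoidHom ((Cfsg.Geo.glReindex e.symm).toMonoidHom k) : GL ι F) :
      Matrix ι ι F) = (P : Matrix ι ι F) *
        ((k : Matrix (Fin n₁ × Fin n₂) (Fin n₁ × Fin n₂) F).submatrix e e) *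
        ((P⁻¹ : GL ι F) : Matrix ι ι F) := by
    simp only [MulEquiv.toMonoidHom_eq_coe, MonoidHom.coe_coe, MulAut.conj_apply, Units.val_mul]
    rfl
  rw [h1, Matrix.mulVec_mulVec, Matrix.mul_assoc, Matrix.mul_assoc, ← Units.val_mul,
    inv_mul_cancel, Units.val_one, Matrix.mul_one, ← Matrix.mulVec_mulVec,
    Matrix.submatrix_mulVec_equiv]
  have h2 : (ten a y ∘ ⇑e) ∘ ⇑e.symm = ten a y := by
    ext p
    simp
  rw [h2]

end bridge

end Cfsg.Agent.Lib.Helper94_TensorVec
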