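import Mathlib
import Cfsg.Agent.Lib.Helper99_DecompBasic

set_option autoImplicit false
set_option linter.unusedSectionVars false

/-!
Counting ordered direct-sum decompositions into `t` subspaces of dimension `a`:
the symmetric group acts freely on them and the general linear group acts transitively, so
their number is divisible by `t!` and divides the order of the general linear group.
-/

namespace Cfsg.Agent.Lib.Helper99_DecompCount

open Module
open Cfsg.Agent.Lib.Helper99_DecompBasic

variable {F V : Type*} [Field F] [AddCommGroup V] [Module F V]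

/-- `D` is a direct-sum decomposition into subspaces of dimension `a`. -/
def IsDec {κ : Type*} (a : ℕ) (D : κ → Submodule F V) : Prop :=
  (∀ j, finrank F (D j) = a) ∧ iSupIndep D ∧ iSup D = ⊤

theorem IsDec.comp_equiv {κ κ' : Type*} {a : ℕ} {D : κ → Submodule F V} (h : IsDec a D)
    (e : κ' ≃ κ) : IsDec a (D ∘ e) :=
  ⟨fun j => h.1 (e j), h.2.1.comp e.injective, by rw [← h.2.2]; exact e.iSup_comp (g := D)⟩

theorem IsDec.map_equiv {κ : Type*} {a : ℕ} {D : κ → Submodule F V} (h : IsDec a D)
    (g : V ≃ₗ[F] V) : IsDec a (fun j => (D j).map (g : V →ₗ[F] V)) := by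
  refine ⟨fun j => ?_, ?_, ?_⟩
  · rw [← h.1 j]
    exact LinearEquiv.finrank_map_eq g (D j)
  · exact h.2.1.map_orderIso (Submodule.orderIsoMapComap g)
  · rw [← Submodule.map_iSup, h.2.2]
    exact Submodule.map_top _ |>.trans (LinearMap.range_eq_top.2 g.surjective)

section perm

variable (F V) (t a : ℕ)

/-- the type of ordered decompositions. -/
abbrev Decs := {D : Fin t → Submodule F V // IsDec a D}

instance : MulAction (Equiv.Perm (Fin t)) (Decs F V t a) where
  smul σ D := ⟨D.1 ∘ σ.symm, D.2.comp_equiv σ.symm⟩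
  one_smul D := by
    apply Subtype.ext
    rfl
  mul_smul σ τ D := by
    apply Subtype.ext
    rfl

theorem perm_smul_val (σ : Equiv.Perm (Fin t)) (D : Decs F V t a) :
    (σ • D).1 = D.1 ∘ σ.symm := rfl

instance : MulAction (V ≃ₗ[F] V) (Decs F V t a) where
  smul g D := ⟨fun j => (D.1 j).map (g : V →ₗ[F] V), D.2.map_equiv g⟩
  one_smul D := by
    apply Subtype.ext
    funext j
    exact Submodule.map_id _
  mul_smul g h D := by
    apply Subtype.ext
    funext j
    show (D.1 j).map ((g * h : V ≃ₗ[F] V) : V →ₗ[F] V) =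
      ((D.1 j).map (h : V →ₗ[F] V)).map (g : V →ₗ[F] V)
    rw [← Submodule.map_comp]
    rfl

theorem equiv_smul_val (g : V ≃ₗ[F] V) (D : Decs F V t a) (j : Fin t) :
    (g • D).1 j = (D.1 j).map (g : V →ₗ[F] V) := rfl

end perm

section count

variable [FiniteDimensional F V] (t a : ℕ)

theorem perm_stabilizer_eq_bot (ha : 0 < a) (D : Decs F V t a) :
    MulAction.stabilizer (Equiv.Perm (Fin t)) D = ⊥ := by
  rw [Subgroup.eq_bot_iff_forall]
  intro σ hσ
  rw [MulAction.mem_stabilizer_iff] at hσ
  have h1 : D.1 ∘ σ.symm = D.1 := congrArg Subtype.val hσ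
  have hne : ∀ j, D.1 j ≠ ⊥ := by
    intro j hj
    have := D.2.1 j
    rw [hj, finrank_bot] at this
    omega
  have hinj := injective_of_ne_bot D.2.2.1 hne
  ext j
  have h2 := congrFun h1 (σ j)
  rw [Function.comp_apply, Equiv.symm_apply_apply] at h2
  rw [Equiv.Perm.one_apply]
  exact congrArg Fin.val (hinj h2).symm

/-- the number of ordered decompositions is divisible by `t!`. -/
theorem factorial_dvd_card [Finite (Decs F V t a)] (ha : 0 < a) :
    Nat.factorial t ∣ Nat.card (Decs F V t a) := by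
  have e := MulAction.selfEquivOrbitsQuotientProd
    (perm_stabilizer_eq_bot (F := F) (V := V) t a ha)
  rw [Nat.card_congr e, Nat.card_prod, Nat.card_perm, Nat.card_eq_fintype_card (α := Fin t),
    Fintype.card_fin]
  exact dvd_mul_left _ _

theorem exists_equiv_smul_eq (D D' : Decs F V t a) :
    ∃ g : V ≃ₗ[F] V, g • D = D' := by
  have hI : DirectSum.IsInternal D.1 :=
    DirectSum.isInternal_submodule_of_iSupIndep_of_iSup_eq_top D.2.2.1 D.2.2.2
  have hI' : DirectSum.IsInternal D'.1 :=
    DirectSum.isInternal_submodule_of_iSupIndep_of_iSup_eq_top D'.2.2.1 D'.2.2.2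
  let v : ∀ j, Basis (Fin a) F (D.1 j) := fun j => finBasisOfFinrankEq F (D.1 j) (D.2.1 j)
  let v' : ∀ j, Basis (Fin a) F (D'.1 j) := fun j => finBasisOfFinrankEq F (D'.1 j) (D'.2.1 j)
  let b := hI.collectedBasis v
  let b' := hI'.collectedBasis v'
  let g : V ≃ₗ[F] V := b.equiv b' (Equiv.refl _)
  refine ⟨g, ?_⟩
  apply Subtype.ext
  funext j
  rw [equiv_smul_val]
  apply Submodule.eq_of_le_of_finrank_eq
  · rintro _ ⟨x, hx, rfl⟩
    have hx' : x = ∑ l, (v j).repr ⟨x, hx⟩ l • ((v j l : D.1 j) : V) := by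
      have := (v j).sum_repr ⟨x, hx⟩
      have h2 := congrArg (Submodule.subtype (D.1 j)) this
      rw [map_sum] at h2
      simpa using h2.symm
    rw [hx']
    simp only [LinearEquiv.coe_coe, map_sum, map_smul]
    apply Submodule.sum_mem
    intro l _
    apply Submodule.smul_mem
    have hb : ((v j l : D.1 j) : V) = b ⟨j, l⟩ := by
      simp only [b, DirectSum.IsInternal.collectedBasis_coe]
    rw [hb, Basis.equiv_apply, Equiv.refl_apply]
    exact hI'.collectedBasis_mem v' ⟨j, l⟩
  · rw [D'.2.1 j]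
    exact (LinearEquiv.finrank_map_eq g (D.1 j)).trans (D.2.1 j)

/-- the number of ordered decompositions divides the order of the general linear group. -/
theorem card_dvd_card_equiv [Finite (Decs F V t a)] (D₀ : Decs F V t a) :
    Nat.card (Decs F V t a) ∣ Nat.card (V ≃ₗ[F] V) := by
  have : MulAction.IsPretransitive (V ≃ₗ[F] V) (Decs F V t a) :=
    ⟨fun D D' => exists_equiv_smul_eq t a D D'⟩
  rw [← MulAction.index_stabilizer_of_transitive (V ≃ₗ[F] V) D₀]
  exact Subgroup.index_dvd_card _

end count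

section field

variable {K : Type*} [Field K] [Fintype K] {p : ℕ} [Fact p.Prime] [CharP K p]

theorem card_equiv_eq (n : ℕ) :
    Nat.card ((Fin n → K) ≃ₗ[K] (Fin n → K)) =
      ∏ i : Fin n, (Fintype.card K ^ n - Fintype.card K ^ (i : ℕ)) := by
  rw [← Matrix.card_GL_field]
  exact Nat.card_congr
    ((LinearMap.GeneralLinearGroup.generalLinearEquiv K (Fin n → K)).symm.toEquiv.trans
      Matrix.GeneralLinearGroup.toLin.symm.toEquiv)

/-- if a prime `r ≠ p` divides the number of (unordered) decompositions then the order of `q`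
modulo `r` is at most `n`. -/
theorem orderOf_le_of_dvd (n t a : ℕ) (ha : 0 < a) (D₀ : Decs K (Fin n → K) t a) {r : ℕ}
    (hr : r.Prime) (hrp : r ≠ p)
    (h : r ∣ Nat.card (Decs K (Fin n → K) t a) / Nat.factorial t) :
    orderOf ((Fintype.card K : ℕ) : ZMod r) ≤ n := by
  have hp : p.Prime := Fact.out
  have h1 : r ∣ Nat.card (Decs K (Fin n → K) t a) := by
    obtain ⟨m, hm⟩ := factorial_dvd_card (F := K) (V := Fin n → K) t a ha
    rw [hm, Nat.mul_div_cancel_left _ (Nat.factorial_pos t)] at h
    rw [hm]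
    exact h.mul_left _
  have h2 := h1.trans (card_dvd_card_equiv t a D₀)
  rw [card_equiv_eq, Prime.dvd_finsetProd_iff (Nat.prime_iff.1 hr)] at h2
  obtain ⟨i, -, hi⟩ := h2
  set q := Fintype.card K with hq
  have hrq : ¬ r ∣ q := by
    intro hrq
    obtain ⟨k, -, hk⟩ := FiniteField.card K p
    rw [hq, hk] at hrq
    exact hrp ((Nat.prime_dvd_prime_iff_eq hr hp).1 (hr.dvd_of_dvd_pow hrq))
  have hin : (i : ℕ) < n := i.2
  have hq1 : 1 ≤ q ^ (n - i) := Nat.one_le_pow _ _ Fintype.card_pos
  have hfac : q ^ n - q ^ (i : ℕ) = q ^ (i : ℕ) * (q ^ (n - i) - 1) := by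
    rw [Nat.mul_sub, mul_one, ← pow_add]
    congr 2
    omega
  rw [hfac] at hi
  have h3 : r ∣ q ^ (n - i) - 1 := by
    rcases (Nat.Prime.dvd_mul hr).1 hi with h | h
    · exact absurd (hr.dvd_of_dvd_pow h) hrq
    · exact h
  have h4 : ((q : ℕ) : ZMod r) ^ (n - (i : ℕ)) = 1 := by
    have := (ZMod.natCast_eq_zero_iff _ _).2 h3
    rw [Nat.cast_sub hq1, Nat.cast_one, sub_eq_zero, Nat.cast_pow] at this
    exact this
  have h5 := orderOf_dvd_of_pow_eq_one h4
  have := Nat.le_of_dvd (by omega) h5
  omega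

end field

end Cfsg.Agent.Lib.Helper99_DecompCount
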