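import Mathlib
import Cfsg.Agent.Lib.Helper99_SpAtoms
import Cfsg.Agent.Lib.Helper99_DecompCount

set_option autoImplicit false
set_option linter.unusedSectionVars false

/-!
Orthogonal families of nondegenerate subspaces of an alternating space, grouping of the pieces of
a semisimple isometry of prime order into blocks of equal dimension.
-/

namespace Cfsg.Agent.Lib.Helper99_SpOrth

open Module
open Cfsg.Agent.Lib.Helper40_SpBasic Cfsg.Agent.Lib.Helper99_InvSub
  Cfsg.Agent.Lib.Helper99_SpAtoms Cfsg.Agent.Lib.Helper99_DecompCount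
  Cfsg.Agent.Lib.Helper99_DecompBasic

section basic

variable {F : Type*} [Field F] {V : Type*} [AddCommGroup V] [Module F V]
variable {B : LinearMap.BilinForm F V}

theorem inv_sup {T : Module.End F V} {Z Z' : Submodule F V} (hZ : Inv T Z) (hZ' : Inv T Z') :
    Inv T (Z ⊔ Z') := by
  intro x hx
  obtain ⟨z, hz, z', hz', rfl⟩ := Submodule.mem_sup.1 hx
  rw [map_add]
  exact Submodule.add_mem_sup (hZ z hz) (hZ' z' hz')

theorem ndOn_sup (hskew : ∀ x y, B x y = - B y x) {Z Z' : Submodule F V} (hZ : NDOn B Z)
    (hZ' : NDOn B Z') (h : ∀ u ∈ Z, ∀ v ∈ Z', B u v = 0) : NDOn B (Z ⊔ Z') := by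
  intro x hx hxy
  obtain ⟨z, hz, z', hz', rfl⟩ := Submodule.mem_sup.1 hx
  have h1 : z = 0 := by
    apply hZ z hz
    intro y hy
    have := hxy y (Submodule.mem_sup_left hy)
    rw [map_add, LinearMap.add_apply, hskew z' y, h y hy z' hz', neg_zero, add_zero] at this
    exact this
  have h2 : z' = 0 := by
    apply hZ' z' hz'
    intro y hy
    have := hxy y (Submodule.mem_sup_right hy)
    rw [map_add, LinearMap.add_apply, h z hz y hy, zero_add] at this
    exact this
  rw [h1, h2, add_zero]

theorem disjoint_of_orth (hskew : ∀ x y, B x y = - B y x) {Z Z' : Submodule F V} (hZ : NDOn B Z)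
    (h : ∀ u ∈ Z, ∀ v ∈ Z', B u v = 0) : Disjoint Z Z' := by
  rw [Submodule.disjoint_def]
  intro x hx hx'
  apply hZ x hx
  intro y hy
  rw [hskew, h y hy x hx', neg_zero]

/-- the sum of the subspaces of a list of pieces. -/
def lsup (l : List (Submodule F V × Bool)) : Submodule F V :=
  (l.map Prod.fst).foldr (· ⊔ ·) ⊥

@[simp] theorem lsup_nil : lsup ([] : List (Submodule F V × Bool)) = ⊥ := rfl

@[simp] theorem lsup_cons (P : Submodule F V × Bool) (l : List (Submodule F V × Bool)) :
    lsup (P :: l) = P.1 ⊔ lsup l := rfl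

theorem orth_lsup {Z : Submodule F V} (l : List (Submodule F V × Bool))
    (h : ∀ Q ∈ l, ∀ u ∈ Z, ∀ v ∈ Q.1, B u v = 0) : ∀ u ∈ Z, ∀ v ∈ lsup l, B u v = 0 := by
  induction l with
  | nil =>
    intro u _ v hv
    rw [lsup_nil, Submodule.mem_bot] at hv
    rw [hv, map_zero]
  | cons P l ih =>
    intro u hu v hv
    rw [lsup_cons] at hv
    obtain ⟨z, hz, z', hz', rfl⟩ := Submodule.mem_sup.1 hv
    rw [map_add, h P (List.mem_cons_self) u hu z hz,
      ih (fun Q hQ => h Q (List.mem_cons_of_mem _ hQ)) u hu z' hz', add_zero]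

theorem orth_lsup_lsup (hskew : ∀ x y, B x y = - B y x) (l l' : List (Submodule F V × Bool))
    (h : ∀ P ∈ l, ∀ Q ∈ l', ∀ u ∈ P.1, ∀ v ∈ Q.1, B u v = 0) :
    ∀ u ∈ lsup l, ∀ v ∈ lsup l', B u v = 0 := by
  intro u hu v hv
  rw [hskew]
  have := orth_lsup (B := B) (Z := lsup l') l (fun P hP v' hv' u' hu' => by
    rw [hskew]
    have := orth_lsup (B := B) (Z := P.1) l' (fun Q hQ u'' hu'' v'' hv'' => h P hP Q hQ u'' hu'' v'' hv'')
      u' hu' v' hv'
    rw [this, neg_zero]) v hv u hu
  rw [this, neg_zero]

theorem inv_lsup {T : Module.End F V} (l : List (Submodule F V × Bool))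
    (h : ∀ Q ∈ l, Inv T Q.1) : Inv T (lsup l) := by
  induction l with
  | nil =>
    intro x hx
    rw [lsup_nil, Submodule.mem_bot] at hx
    rw [hx, map_zero]
    exact Submodule.zero_mem _
  | cons P l ih =>
    rw [lsup_cons]
    exact inv_sup (h P List.mem_cons_self) (ih (fun Q hQ => h Q (List.mem_cons_of_mem _ hQ)))

theorem ndOn_lsup (hskew : ∀ x y, B x y = - B y x) (l : List (Submodule F V × Bool))
    (h : ∀ Q ∈ l, NDOn B Q.1)
    (hp : l.Pairwise (fun P Q => ∀ u ∈ P.1, ∀ v ∈ Q.1, B u v = 0)) : NDOn B (lsup l) := by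
  induction l with
  | nil =>
    intro x hx _
    rwa [lsup_nil, Submodule.mem_bot] at hx
  | cons P l ih =>
    rw [lsup_cons]
    rw [List.pairwise_cons] at hp
    exact ndOn_sup hskew (h P List.mem_cons_self)
      (ih (fun Q hQ => h Q (List.mem_cons_of_mem _ hQ)) hp.2)
      (orth_lsup l (fun Q hQ => hp.1 Q hQ))

theorem finrank_lsup [FiniteDimensional F V] (hskew : ∀ x y, B x y = - B y x)
    (l : List (Submodule F V × Bool)) (h : ∀ Q ∈ l, NDOn B Q.1)
    (hp : l.Pairwise (fun P Q => ∀ u ∈ P.1, ∀ v ∈ Q.1, B u v = 0)) :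
    finrank F (lsup l) = (l.map (fun Q => finrank F Q.1)).sum := by
  induction l with
  | nil => rw [lsup_nil, finrank_bot]; rfl
  | cons P l ih =>
    rw [lsup_cons, List.map_cons, List.sum_cons]
    rw [List.pairwise_cons] at hp
    rw [finrank_sup_of_disjoint
      (disjoint_of_orth hskew (h P List.mem_cons_self) (orth_lsup l (fun Q hQ => hp.1 Q hQ))),
      ih (fun Q hQ => h Q (List.mem_cons_of_mem _ hQ)) hp.2]

/-- an orthogonal family of nondegenerate subspaces of the right dimensions is a decomposition. -/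
theorem isDec_of_orth [FiniteDimensional F V] (hskew : ∀ x y, B x y = - B y x) {t a : ℕ}
    (D : Fin t → Submodule F V) (hnd : ∀ j, NDOn B (D j)) (hdim : ∀ j, finrank F (D j) = a)
    (horth : ∀ j j', j ≠ j' → ∀ u ∈ D j, ∀ v ∈ D j', B u v = 0)
    (hV : finrank F V = t * a) : IsDec a D := by
  have hind : iSupIndep D := by
    rw [iSupIndep_def]
    intro j
    rw [Submodule.disjoint_def]
    intro x hx hx'
    have hle : (⨆ k, ⨆ (_ : k ≠ j), D k) ≤ B.orthogonal (D j) := by
      apply iSup₂_le
      intro k hk v hv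
      rw [LinearMap.BilinForm.mem_orthogonal_iff]
      intro n hn
      exact horth j k (Ne.symm hk) n hn v hv
    have h1 := hle hx'
    rw [LinearMap.BilinForm.mem_orthogonal_iff] at h1
    apply hnd j x hx
    intro y hy
    rw [hskew, h1 y hy, neg_zero]
  refine ⟨hdim, hind, ?_⟩
  apply Submodule.eq_top_of_finrank_eq
  rw [finrank_iSup_eq hind, Finset.sum_congr rfl (fun j _ => hdim j), Finset.sum_const,
    Finset.card_univ, Fintype.card_fin, smul_eq_mul, hV]

end basic

section grouping

/-- splitting atoms (of weight `c`) and planes (of weight `2`) into `t` groups of weight `a`. -/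
theorem exists_groups {X : Type*} (w : X → ℕ) (c a a' ℓ : ℕ) (hc : 0 < c) (ha : a = c * a' + ℓ)
    (hℓ : Even ℓ) (hce : Even c) :
    ∀ (t : ℕ) (La Lp : List X), (∀ P ∈ La, w P = c) → (∀ P ∈ Lp, w P = 2) →
      c * La.length + 2 * Lp.length = t * a → La.length ≤ t * a' →
      ∃ LL : List (List X), LL.length = t ∧ LL.flatten.Perm (La ++ Lp) ∧
        ∀ l ∈ LL, (l.map w).sum = a := by
  intro t
  induction t with
  | zero =>
    intro La Lp _ _ hsum _
    have h1 : La.length = 0 := by
      rcases Nat.eq_zero_or_pos La.length with h | h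
      · exact h
      · have : 0 < c * La.length := Nat.mul_pos hc h
        omega
    have h2 : Lp.length = 0 := by omega
    rw [List.length_eq_zero_iff] at h1 h2
    subst h1 h2
    exact ⟨[], rfl, by simp, by simp⟩
  | succ t ih =>
    intro La Lp hLa hLp hsum hlen
    set x := min La.length a' with hx
    have hxa : x ≤ a' := min_le_right _ _
    have hxL : x ≤ La.length := min_le_left _ _
    have hcx : c * x ≤ c * a' := Nat.mul_le_mul_left c hxa
    have hev : Even (a - c * x) := by
      have h1 : a - c * x = c * (a' - x) + ℓ := by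
        rw [ha, Nat.mul_sub]
        omega
      rw [h1]
      exact (hce.mul_right _).add hℓ
    obtain ⟨y, hy⟩ := hev
    have hyL : y ≤ Lp.length := by
      have h3 : (t + 1) * a = t * a + a := by ring
      rcases le_total La.length a' with h | h
      · have : x = La.length := min_eq_left h
        rw [this] at hy
        have h4 : 0 ≤ t * a := Nat.zero_le _
        omega
      · have : x = a' := min_eq_right h
        rw [this] at hy
        have h4 : c * La.length ≤ c * ((t + 1) * a') := Nat.mul_le_mul_left c hlen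
        have h5 : c * ((t + 1) * a') = (t + 1) * (c * a') := by ring
        have h6 : (t + 1) * a = (t + 1) * (c * a') + (t + 1) * ℓ := by rw [ha]; ring
        have h7 : (t + 1) * ℓ = t * ℓ + ℓ := by ring
        have h8 : 0 ≤ t * ℓ := Nat.zero_le _
        omega
    have hxy : c * x + 2 * y = a := by omega
    have hlen' : (La.drop x).length ≤ t * a' := by
      rw [List.length_drop]
      rcases le_total La.length a' with h | h
      · have : x = La.length := min_eq_left h
        omega
      · have : x = a' := min_eq_right h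
        have h3 : (t + 1) * a' = t * a' + a' := by ring
        omega
    have hsum' : c * (La.drop x).length + 2 * (Lp.drop y).length = t * a := by
      rw [List.length_drop, List.length_drop, Nat.mul_sub, Nat.mul_sub]
      have h3 : (t + 1) * a = t * a + a := by ring
      have h4 : c * x ≤ c * La.length := Nat.mul_le_mul_left c hxL
      omega
    obtain ⟨LL', hLL'1, hLL'2, hLL'3⟩ := ih (La.drop x) (Lp.drop y)
      (fun P hP => hLa P (List.mem_of_mem_drop hP)) (fun P hP => hLp P (List.mem_of_mem_drop hP))
      hsum' hlen'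
    refine ⟨(La.take x ++ Lp.take y) :: LL', by rw [List.length_cons, hLL'1], ?_, ?_⟩
    · rw [List.flatten_cons]
      have h1 : ((La.take x ++ Lp.take y) ++ LL'.flatten).Perm
          ((La.take x ++ Lp.take y) ++ (La.drop x ++ Lp.drop y)) := List.Perm.append_left _ hLL'2
      refine h1.trans ?_
      have h2 : (La.take x ++ Lp.take y) ++ (La.drop x ++ Lp.drop y) =
          La.take x ++ ((Lp.take y ++ La.drop x) ++ Lp.drop y) := by
        simp only [List.append_assoc]
      have h3 : La ++ Lp = La.take x ++ ((La.drop x ++ Lp.take y) ++ Lp.drop y) := by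
        conv_lhs => rw [← List.take_append_drop x La, ← List.take_append_drop y Lp]
        simp only [List.append_assoc]
      rw [h2, h3]
      exact List.Perm.append_left _ (List.Perm.append_right _ List.perm_append_comm)
    · intro l hl
      rw [List.mem_cons] at hl
      rcases hl with rfl | hl
      · rw [List.map_append, List.sum_append]
        have h1 : ((La.take x).map w).sum = c * x := by
          rw [List.sum_eq_card_nsmul _ c, List.length_map, List.length_take, smul_eq_mul,
            min_eq_left hxL, mul_comm]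
          intro z hz
          rw [List.mem_map] at hz
          obtain ⟨P, hP, rfl⟩ := hz
          exact hLa P (List.mem_of_mem_take hP)
        have h2 : ((Lp.take y).map w).sum = 2 * y := by
          rw [List.sum_eq_card_nsmul _ 2, List.length_map, List.length_take, smul_eq_mul,
            min_eq_left hyL, mul_comm]
          intro z hz
          rw [List.mem_map] at hz
          obtain ⟨P, hP, rfl⟩ := hz
          exact hLp P (List.mem_of_mem_take hP)
        rw [h1, h2, hxy]
      · exact hLL'3 l hl

end grouping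

section suff

universe u

variable {F : Type*} [Field F] [Fintype F] {p : ℕ} [Fact p.Prime] [CharP F p] {r : ℕ}
variable {V : Type u} [AddCommGroup V] [Module F V] [FiniteDimensional F V]
variable {B : LinearMap.BilinForm F V} {T : Module.End F V}

omit [Fact p.Prime] [CharP F p] in
theorem even_atomDim : Even (atomDim F r) := by
  unfold atomDim
  split_ifs with h
  · exact h
  · exact even_two_mul _

/-- sufficiency: the arithmetic conditions give an orthogonal decomposition into invariant
nondegenerate subspaces of dimension `a`. -/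
theorem exists_orth_dec (hiso : IsoData B T r) (hB : B.Nondegenerate) (hr : r.Prime)
    (hr2 : r ≠ 2) (hrp : r ≠ p) (a t : ℕ) (hae : Even a) (hdim : finrank F V = t * a)
    (hmod : finrank F V % atomDim F r = t * (a % atomDim F r)) :
    ∃ D : Fin t → Submodule F V, (∀ j, Inv T (D j)) ∧ (∀ j, NDOn B (D j)) ∧
      (∀ j, finrank F (D j) = a) ∧ ∀ j j', j ≠ j' → ∀ u ∈ D j, ∀ v ∈ D j', B u v = 0 := by
  classical
  have hskew : ∀ x y, B x y = - B y x := hiso.skew
  obtain ⟨L, hL1, hL2, hL3⟩ := exists_pieces (p := p) hr hr2 hrp (finrank F V) B T rfl hiso hB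
  set c := atomDim F r with hc
  have hcpos : 0 < c :=
    atomDim_pos (Cfsg.Agent.Lib.Helper40_PrimeOrderClasses.exists_cyclotomic_factors
      (F := F) p r hr hrp).1
  have hce : Even c := even_atomDim
  set w : Submodule F V × Bool → ℕ := fun Q => finrank F Q.1 with hw
  set La := L.filter (fun P => P.2) with hLa
  set Lp := L.filter (fun P => !P.2) with hLp
  have hperm : (La ++ Lp).Perm L := List.filter_append_perm _ L
  have hLaw : ∀ P ∈ La, w P = c := by
    intro P hP
    rw [hLa, List.mem_filter] at hP
    exact ((hL1 P hP.1).2.2.1 hP.2).1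
  have hLpw : ∀ P ∈ Lp, w P = 2 := by
    intro P hP
    rw [hLp, List.mem_filter] at hP
    have h2 : P.2 = false := by simpa using hP.2
    exact ((hL1 P hP.1).2.2.2 h2).1
  have hsum : c * La.length + 2 * Lp.length = t * a := by
    rw [← hdim, ← hL3, ← (hperm.map w).sum_eq, List.map_append, List.sum_append]
    have h1 : (La.map w).sum = c * La.length := by
      rw [List.sum_eq_card_nsmul _ c, List.length_map, smul_eq_mul, mul_comm]
      intro z hz
      rw [List.mem_map] at hz
      obtain ⟨P, hP, rfl⟩ := hz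
      exact hLaw P hP
    have h2 : (Lp.map w).sum = 2 * Lp.length := by
      rw [List.sum_eq_card_nsmul _ 2, List.length_map, smul_eq_mul, mul_comm]
      intro z hz
      rw [List.mem_map] at hz
      obtain ⟨P, hP, rfl⟩ := hz
      exact hLpw P hP
    rw [h1, h2]
  set a' := a / c with ha'
  set ℓ := a % c with hℓ
  have ha : a = c * a' + ℓ := (Nat.div_add_mod a c).symm
  have hℓe : Even ℓ := by
    have h1 : Even (c * a' + ℓ) := by rw [← ha]; exact hae
    rw [Nat.even_add] at h1
    exact h1.1 (hce.mul_right _)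
  have hlen : La.length ≤ t * a' := by
    by_contra hcon
    rw [not_le] at hcon
    have h1 : c * (t * a' + 1) ≤ c * La.length := Nat.mul_le_mul_left c hcon
    have h2 : t * a = c * (t * a') + t * ℓ := by rw [ha]; ring
    have h3 : t * ℓ < c := by
      rw [← hmod]
      exact Nat.mod_lt _ hcpos
    have h4 : c * (t * a' + 1) = c * (t * a') + c := by ring
    omega
  obtain ⟨LL, hLL1, hLL2, hLL3⟩ := exists_groups w c a a' ℓ hcpos ha hℓe hce t La Lp hLaw hLpw
    hsum hlen
  have hperm' : LL.flatten.Perm L := hLL2.trans hperm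
  have hmem : ∀ l ∈ LL, ∀ P ∈ l, IsPiece B T r P := by
    intro l hl P hP
    apply hL1 P
    rw [← hperm'.mem_iff]
    exact List.mem_flatten.2 ⟨l, hl, hP⟩
  have hsymm : ∀ P Q : Submodule F V × Bool, (∀ u ∈ P.1, ∀ v ∈ Q.1, B u v = 0) →
      (∀ u ∈ Q.1, ∀ v ∈ P.1, B u v = 0) := by
    intro P Q h u hu v hv
    rw [hskew, h v hv u hu, neg_zero]
  have hpw : LL.flatten.Pairwise (fun P Q => ∀ u ∈ P.1, ∀ v ∈ Q.1, B u v = 0) :=
    (hperm'.pairwise_iff (fun {P Q} h => hsymm P Q h)).2 hL2
  rw [List.pairwise_flatten] at hpw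
  obtain ⟨hpw1, hpw2⟩ := hpw
  rw [List.pairwise_iff_get] at hpw2
  refine ⟨fun j => lsup (LL.get (j.cast hLL1.symm)), ?_, ?_, ?_, ?_⟩
  · intro j
    apply inv_lsup
    intro Q hQ
    exact (hmem _ (List.get_mem _ _) Q hQ).1
  · intro j
    apply ndOn_lsup hskew
    · intro Q hQ
      exact (hmem _ (List.get_mem _ _) Q hQ).2.1
    · exact hpw1 _ (List.get_mem _ _)
  · intro j
    rw [finrank_lsup hskew]
    · exact hLL3 _ (List.get_mem _ _)
    · intro Q hQ
      exact (hmem _ (List.get_mem _ _) Q hQ).2.1
    · exact hpw1 _ (List.get_mem _ _)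
  · intro j j' hjj'
    apply orth_lsup_lsup hskew
    intro P hP Q hQ
    rcases lt_or_gt_of_ne hjj' with h | h
    · exact hpw2 (j.cast hLL1.symm) (j'.cast hLL1.symm) (by simpa using h) P hP Q hQ
    · exact hsymm Q P (hpw2 (j'.cast hLL1.symm) (j.cast hLL1.symm) (by simpa using h) Q hQ P hP)

end suff

end Cfsg.Agent.Lib.Helper99_SpOrth
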