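import Mathlib
import Cfsg.Agent.Lib.Helper99_SpOrth
import Cfsg.Agent.Lib.Helper40_SpAdj
import Cfsg.Agent.Lib.Helper99_PrimeGraphL

set_option autoImplicit false
set_option linter.unusedSectionVars false

/-!
Necessary conditions for the elements of odd prime order of a symplectic group to stabilize an
orthogonal decomposition into nondegenerate subspaces.
-/

namespace Cfsg.Agent.Lib.Helper99_SpNec

open Module Polynomial
open Cfsg.Agent.Lib.Helper40_SpBasic Cfsg.Agent.Lib.Helper99_Singer
  Cfsg.Agent.Lib.Helper99_PrimeGraphL Cfsg.Agent.Lib.Helper99_SpAtoms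
  Cfsg.Agent.Lib.Helper99_DecompCount Cfsg.Agent.Lib.Helper99_DecompBasic
  Cfsg.Agent.Lib.Helper99_DecompNec Cfsg.Agent.Lib.Helper99_PrimeOrderSL

section basic

variable {F : Type*} [Field F] {V : Type*} [AddCommGroup V] [Module F V]
variable {B : LinearMap.BilinForm F V} {T : Module.End F V} {N : ℕ}

theorem fixSpace_eq (T : Module.End F V) : fixSpace T = Module.End.eigenspace T 1 := by
  ext v
  rw [mem_fixSpace, Module.End.mem_eigenspace_iff, one_smul]

/-- the fixed vectors in a nondegenerate invariant subspace form a nondegenerate subspace. -/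
theorem ndOn_inf_fix (h : IsoData B T N) (hN : (N : F) ≠ 0) {W : Submodule F V} (hW : Inv T W)
    (hWnd : NDOn B W) : NDOn B (W ⊓ Module.End.eigenspace T 1) := by
  intro x hx hxy
  apply hWnd x hx.1
  intro v hv
  set P : Module.End F V := ∑ i ∈ Finset.range N, T ^ i with hP
  have hPW : P v ∈ W := by
    rw [hP, LinearMap.sum_apply]
    exact Submodule.sum_mem _ (fun i _ => hW.pow_mem i hv)
  have hPfix : P v ∈ Module.End.eigenspace T 1 := by
    rw [Module.End.mem_eigenspace_iff, one_smul]
    have h1 : (T - 1) * P = T ^ N - 1 := mul_geom_sum T N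
    have h2 : (T - 1) (P v) = 0 := by
      rw [← Module.End.mul_apply, h1, h.pow, sub_self, LinearMap.zero_apply]
    rw [LinearMap.sub_apply, Module.End.one_apply, sub_eq_zero] at h2
    exact h2
  have hxfix : x ∈ fixSpace T := by rw [fixSpace_eq]; exact hx.2
  have h3 : B x (P v) = (N : F) * B x v := by
    have hterm : ∀ i ∈ Finset.range N, B x ((T ^ i) v) = B x v := by
      intro i _
      have := Cfsg.Agent.Lib.Helper40_SpAdj.iso_pow h i x v
      rwa [Cfsg.Agent.Lib.Helper40_SpAdj.pow_apply_of_mem_fixSpace hxfix i] at this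
    rw [hP, LinearMap.sum_apply, map_sum, Finset.sum_congr rfl hterm, Finset.sum_const,
      Finset.card_range, nsmul_eq_mul]
  have h4 := hxy (P v) ⟨hPW, hPfix⟩
  rw [h3] at h4
  exact (mul_eq_zero.1 h4).resolve_left hN

end basic

section finite

variable {F : Type*} [Field F] [Fintype F] {p : ℕ} [Fact p.Prime] [CharP F p] {r : ℕ}
variable {V : Type*} [AddCommGroup V] [Module F V] [FiniteDimensional F V]
variable {B : LinearMap.BilinForm F V} {T : Module.End F V}

theorem not_dvd_card (hr : r.Prime) (hrp : r ≠ p) : ¬ r ∣ Fintype.card F := by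
  have hp : p.Prime := Fact.out
  intro h
  obtain ⟨k, -, hk⟩ := FiniteField.card F p
  rw [hk] at h
  exact hrp ((Nat.prime_dvd_prime_iff_eq hr hp).1 (hr.dvd_of_dvd_pow h))

/-- codimensions of fixed spaces in nondegenerate invariant subspaces. -/
theorem dvd_sub_fix (h : IsoData B T r) (hr : r.Prime) (hrp : r ≠ p) {W : Submodule F V}
    (hW : Inv T W) (hWnd : NDOn B W) :
    atomDim F r ∣ finrank F W - finrank F ↥(W ⊓ Module.End.eigenspace T 1) := by
  have hrF : ((r : ℕ) : F) ≠ 0 := natCast_ne_zero hr hrp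
  have hq : ¬ r ∣ Fintype.card F := not_dvd_card hr hrp
  have h1 := orderOf_dvd_finrank_sub T hr hq h.pow W hW
  rw [fixSpace_eq] at h1
  have he1 : Even (finrank F W) :=
    Cfsg.Agent.Lib.Helper43_AltEven.even_finrank_of_alt (finrank F W) W (B.restrict W)
      (fun x => h.alt x) (nondegenerate_restrict h hWnd) rfl
  have he2 : Even (finrank F ↥(W ⊓ Module.End.eigenspace T 1)) :=
    Cfsg.Agent.Lib.Helper43_AltEven.even_finrank_of_alt _ _
      (B.restrict (W ⊓ Module.End.eigenspace T 1))
      (fun x => h.alt x) (nondegenerate_restrict h (ndOn_inf_fix h hrF hW hWnd)) rfl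
  have hle : finrank F ↥(W ⊓ Module.End.eigenspace T 1) ≤ finrank F W :=
    Submodule.finrank_mono inf_le_left
  have he3 : Even (finrank F W - finrank F ↥(W ⊓ Module.End.eigenspace T 1)) :=
    (Nat.even_sub hle).2 ⟨fun _ => he2, fun _ => he1⟩
  unfold atomDim
  split_ifs with hie
  · exact h1
  · have hodd : Odd (orderOf ((Fintype.card F : ℕ) : ZMod r)) := Nat.not_even_iff_odd.1 hie
    exact Nat.Coprime.mul_dvd_of_dvd_of_dvd (Nat.coprime_two_left.2 hodd) he3.two_dvd h1

theorem atomDim_le (hr : r.Prime) (hr2 : r ≠ 2) (hrp : r ≠ p) : atomDim F r ≤ r - 1 := by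
  have hq0 : ((Fintype.card F : ℕ) : ZMod r) ≠ 0 := by
    rw [Ne, ZMod.natCast_eq_zero_iff]
    exact not_dvd_card hr hrp
  have : Fact r.Prime := ⟨hr⟩
  have hedvd : orderOf ((Fintype.card F : ℕ) : ZMod r) ∣ r - 1 :=
    ZMod.orderOf_dvd_card_sub_one hq0
  have hpos : 0 < r - 1 := by have := hr.two_le; omega
  unfold atomDim
  split_ifs with hie
  · exact Nat.le_of_dvd hpos hedvd
  · have hodd : Odd (orderOf ((Fintype.card F : ℕ) : ZMod r)) := Nat.not_even_iff_odd.1 hie
    have hev : Even (r - 1) := by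
      obtain ⟨k, hk⟩ := hr.odd_of_ne_two hr2
      exact ⟨k, by omega⟩
    exact Nat.le_of_dvd hpos
      (Nat.Coprime.mul_dvd_of_dvd_of_dvd (Nat.coprime_two_left.2 hodd) hev.two_dvd hedvd)

/-- necessity, from the existence of isometries of order `r` with prescribed fixed spaces all of
which stabilize a decomposition. -/
theorem nec (hr : r.Prime) (hr2 : r ≠ 2) (hrp : r ≠ p) (a t : ℕ) (ha : 2 ≤ a)
    (hdim : finrank F V = t * a) (hcn : atomDim F r ≤ finrank F V)
    (hex : ∀ s : ℕ, 1 ≤ s → s * atomDim F r ≤ finrank F V → ∃ T : Module.End F V,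
      IsoData B T r ∧
      finrank F (Module.End.eigenspace T 1) = finrank F V - s * atomDim F r ∧
      ∃ D : Fin t → Submodule F V, IsDec a D ∧ (∀ j, NDOn B (D j)) ∧
        ∃ σ : Equiv.Perm (Fin t), ∀ j, (D j).map T = D (σ j)) :
    atomDim F r ≤ a ∧ finrank F V % atomDim F r = t * (a % atomDim F r) := by
  classical
  set c := atomDim F r with hc
  set n := finrank F V with hn
  have hcpos : 0 < c :=
    atomDim_pos (Cfsg.Agent.Lib.Helper40_PrimeOrderClasses.exists_cyclotomic_factors
      (F := F) p r hr hrp).1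
  have hcr : c ≤ r - 1 := atomDim_le hr hr2 hrp
  have hrF : ((r : ℕ) : F) ≠ 0 := natCast_ne_zero hr hrp
  have key : ∀ (T : Module.End F V), IsoData B T r → ∀ (D : Fin t → Submodule F V), IsDec a D →
      (∀ j, NDOn B (D j)) → ∀ σ : Equiv.Perm (Fin t), (∀ j, (D j).map T = D (σ j)) →
      ((∀ j, σ j = j) ∧ ∀ j, c ∣ a - finrank F ↥(D j ⊓ Module.End.eigenspace T 1)) ∨
      ((r - 1) * a + finrank F (Module.End.eigenspace T 1) ≤ n ∧
        a ≤ finrank F (Module.End.eigenspace T 1)) := by
    intro T hiso D hD hnd σ hσ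
    have hTr := hiso.pow
    have hne : ∀ j, D j ≠ ⊥ := by
      intro j hj
      have := hD.1 j
      rw [hj, finrank_bot] at this
      omega
    have hσr : σ ^ r = 1 :=
      perm_pow_eq_one hD.2.1 hσ hne (z := 1) one_ne_zero (by rw [one_smul]; exact hTr)
    by_cases hid : ∀ j, σ j = j
    · left
      refine ⟨hid, fun j => ?_⟩
      have hDi : Inv T (D j) := by
        intro x hx
        have : T x ∈ (D j).map T := Submodule.mem_map_of_mem hx
        rw [hσ j, hid j] at this
        exact this
      have := dvd_sub_fix hiso hr hrp hDi (hnd j)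
      rwa [hD.1 j] at this
    · right
      rw [not_forall] at hid
      obtain ⟨j, hj⟩ := hid
      refine ⟨finrank_add_le_of_moved hD.2.1 hD.2.2 hσ hr hσr hD.1 hj, ?_⟩
      have := card_mul_le_finrank_fix hD.2.1 hD.2.2 hσ hr hrF hTr hσr hD.1 {j}
        (by
          intro j1 hj1 j2 hj2 _ _
          rw [Finset.mem_singleton] at hj1 hj2
          rw [hj1, hj2])
        (by
          intro j1 hj1 hfix
          rw [Finset.mem_singleton] at hj1
          rw [hj1] at hfix
          exact absurd hfix hj)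
      rwa [Finset.card_singleton, one_mul] at this
  have hca : c ≤ a := by
    by_contra hlt
    rw [not_le] at hlt
    obtain ⟨T, hiso, hfix, D, hD, hnd, σ, hσ⟩ := hex 1 le_rfl (by rw [one_mul]; exact hcn)
    rw [one_mul] at hfix
    rcases key T hiso D hD hnd σ hσ with ⟨-, hdvd⟩ | ⟨h1, -⟩
    · have hle : ∀ j, D j ≤ Module.End.eigenspace T 1 := by
        intro j
        have h2 : finrank F ↥(D j ⊓ Module.End.eigenspace T 1) ≤ a := by
          rw [← hD.1 j]
          exact Submodule.finrank_mono inf_le_left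
        have h3 : a - finrank F ↥(D j ⊓ Module.End.eigenspace T 1) = 0 :=
          Nat.eq_zero_of_dvd_of_lt (hdvd j) (by omega)
        have h4 : D j ⊓ Module.End.eigenspace T 1 = D j :=
          Submodule.eq_of_le_of_finrank_le inf_le_left (by rw [hD.1 j]; omega)
        rw [← h4]
        exact inf_le_right
      have htop : (⊤ : Submodule F V) ≤ Module.End.eigenspace T 1 := by
        rw [← hD.2.2]
        exact iSup_le hle
      have := Submodule.finrank_mono htop
      rw [finrank_top, hfix] at this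
      omega
    · rw [hfix] at h1
      have h2 : (r - 1) * a ≤ c := by omega
      have h3 : (r - 1) * 2 ≤ (r - 1) * a := Nat.mul_le_mul_left _ ha
      have := hr.two_le
      omega
  refine ⟨hca, ?_⟩
  have hs : 1 ≤ n / c := Nat.div_pos hcn hcpos
  obtain ⟨T, hiso, hfix, D, hD, hnd, σ, hσ⟩ := hex (n / c) hs (Nat.div_mul_le_self n c)
  have hk : n - n / c * c = n % c := by
    have := Nat.div_add_mod n c
    rw [mul_comm] at this
    omega
  rw [hk] at hfix
  have hkc : n % c < c := Nat.mod_lt _ hcpos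
  rcases key T hiso D hD hnd σ hσ with ⟨-, hdvd⟩ | ⟨-, h2⟩
  · have hmodj : ∀ j, a % c ≤ finrank F ↥(D j ⊓ Module.End.eigenspace T 1) := by
      intro j
      have h2 : finrank F ↥(D j ⊓ Module.End.eigenspace T 1) ≤ a := by
        rw [← hD.1 j]
        exact Submodule.finrank_mono inf_le_left
      obtain ⟨m, hm⟩ := hdvd j
      have h3 : a = finrank F ↥(D j ⊓ Module.End.eigenspace T 1) + c * m := by omega
      calc a % c = (finrank F ↥(D j ⊓ Module.End.eigenspace T 1) + c * m) % c := by rw [← h3]
        _ = finrank F ↥(D j ⊓ Module.End.eigenspace T 1) % c := Nat.add_mul_mod_self_left _ _ _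
        _ ≤ _ := Nat.mod_le _ _
    have hsum := sum_finrank_inf_le hD.2.1 (Module.End.eigenspace T 1)
    have htl : t * (a % c) ≤ n % c := by
      have h1 : ∑ _j : Fin t, a % c ≤ ∑ j, finrank F ↥(D j ⊓ Module.End.eigenspace T 1) :=
        Finset.sum_le_sum (fun j _ => hmodj j)
      rw [Finset.sum_const, Finset.card_univ, Fintype.card_fin, smul_eq_mul] at h1
      omega
    have hnmod : n % c = (t * (a % c)) % c := by
      rw [hdim, Nat.mul_mod, Nat.mul_mod t (a % c), Nat.mod_mod]
    exact hnmod.trans (Nat.mod_eq_of_lt (by omega))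
  · omega

end finite

end Cfsg.Agent.Lib.Helper99_SpNec
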