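import Mathlib
import Cfsg.Agent.Lib.Helper99_SpNec
import Cfsg.Agent.Lib.Helper99_SpOrth
import Cfsg.Agent.Lib.Helper99_SubspaceCount
import Cfsg.Agent.Lib.Helper43_AltEven
import Cfsg.Agent.Lib.Helper40_SpExistMatrix

set_option autoImplicit false
set_option linter.unusedSectionVars false

/-!
Totally isotropic invariant subspaces of isometries of odd prime order of an alternating form.
-/

namespace Cfsg.Agent.Lib.Helper99_SpTI

open Module Polynomial
open Cfsg.Agent.Lib.Helper40_SpBasic Cfsg.Agent.Lib.Helper40_SpAdj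
  Cfsg.Agent.Lib.Helper40_SpExistMatrix
  Cfsg.Agent.Lib.Helper99_SpAtoms Cfsg.Agent.Lib.Helper99_SpOrth Cfsg.Agent.Lib.Helper99_SpNec
  Cfsg.Agent.Lib.Helper99_InvSub Cfsg.Agent.Lib.Helper99_PrimeOrderSL

section Basic

variable {F : Type*} [Field F] {V : Type*} [AddCommGroup V] [Module F V]
variable {B : LinearMap.BilinForm F V}

theorem skew_of_alt (halt : ∀ x, B x x = 0) (x y : V) : B x y = - B y x := by
  have h1 := halt (x + y)
  simp only [map_add, LinearMap.add_apply, halt, zero_add, add_zero] at h1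
  exact eq_neg_of_add_eq_zero_right h1

/-- a totally isotropic subspace of a nondegenerate subspace has at most half the dimension. -/
theorem two_mul_finrank_le [FiniteDimensional F V] (halt : ∀ x, B x x = 0) {N U : Submodule F V}
    (hN : NDOn B N) (hUN : U ≤ N) (hU : IsoOn B U) : 2 * finrank F U ≤ finrank F N := by
  have hnd : (B.restrict N).Nondegenerate := nondegenerate_restrict (isoData_one B halt) hN
  set U' : Submodule F N := U.comap N.subtype with hU'
  have h1 : finrank F U' = finrank F U :=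
    Cfsg.Agent.Lib.Helper99_SubspaceCount.finrank_comap_subtype hUN
  have h2 := LinearMap.BilinForm.finrank_orthogonal hnd U'
  have h3 : U' ≤ (B.restrict N).orthogonal U' := by
    intro x hx
    rw [LinearMap.BilinForm.mem_orthogonal_iff]
    intro y hy
    exact hU y hy x hx
  have h4 := Submodule.finrank_mono h3
  have h5 : finrank F U' ≤ finrank F N := Submodule.finrank_le U'
  omega

/-- a nondegenerate alternating space of dimension at least `2k` contains a totally isotropic
subspace of dimension `k`. -/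
theorem exists_ti_top [FiniteDimensional F V] (halt : ∀ x, B x x = 0) (hB : B.Nondegenerate) :
    ∀ k : ℕ, 2 * k ≤ finrank F V → ∃ U : Submodule F V, IsoOn B U ∧ finrank F U = k := by
  intro k
  induction k with
  | zero =>
    intro _
    refine ⟨⊥, ?_, finrank_bot F V⟩
    intro u hu v _
    rw [(Submodule.mem_bot F).1 hu, map_zero, LinearMap.zero_apply]
  | succ k ih =>
    intro hk
    obtain ⟨U, hU, hUd⟩ := ih (by omega)
    have h2 := LinearMap.BilinForm.finrank_orthogonal hB U
    have hUle : U ≤ B.orthogonal U := by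
      intro x hx
      rw [LinearMap.BilinForm.mem_orthogonal_iff]
      intro y hy
      exact hU y hy x hx
    have hlt : U < B.orthogonal U := by
      refine lt_of_le_of_ne hUle ?_
      intro h
      rw [← h] at h2
      omega
    obtain ⟨v, hv, hvU⟩ := SetLike.exists_of_lt hlt
    rw [LinearMap.BilinForm.mem_orthogonal_iff] at hv
    have hv' : ∀ u ∈ U, B u v = 0 := fun u hu => hv u hu
    refine ⟨U ⊔ Submodule.span F {v}, ?_, ?_⟩
    · intro x hx y hy
      obtain ⟨x1, hx1, x2, hx2, rfl⟩ := Submodule.mem_sup.1 hx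
      obtain ⟨y1, hy1, y2, hy2, rfl⟩ := Submodule.mem_sup.1 hy
      obtain ⟨a, rfl⟩ := Submodule.mem_span_singleton.1 hx2
      obtain ⟨b, rfl⟩ := Submodule.mem_span_singleton.1 hy2
      simp only [map_add, LinearMap.add_apply, map_smul, LinearMap.smul_apply, smul_eq_mul,
        hU x1 hx1 y1 hy1, hv' x1 hx1, halt v, skew_of_alt halt v y1, hv' y1 hy1]
      ring
    · have hdisj : Disjoint U (Submodule.span F {v}) := by
        rw [Submodule.disjoint_def]
        intro x hx hx2
        obtain ⟨a, rfl⟩ := Submodule.mem_span_singleton.1 hx2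
        by_contra hne
        have ha : a ≠ 0 := by
          rintro rfl
          exact hne (zero_smul _ _)
        apply hvU
        have := U.smul_mem a⁻¹ hx
        rwa [smul_smul, inv_mul_cancel₀ ha, one_smul] at this
      have hv0 : v ≠ 0 := by
        rintro rfl
        exact hvU U.zero_mem
      rw [finrank_sup_of_disjoint hdisj, hUd, finrank_span_singleton hv0]

/-- the same inside a nondegenerate subspace. -/
theorem exists_ti_in [FiniteDimensional F V] (halt : ∀ x, B x x = 0) {N : Submodule F V}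
    (hN : NDOn B N) (k : ℕ) (hk : 2 * k ≤ finrank F N) :
    ∃ U : Submodule F V, U ≤ N ∧ IsoOn B U ∧ finrank F U = k := by
  have hnd : (B.restrict N).Nondegenerate := nondegenerate_restrict (isoData_one B halt) hN
  obtain ⟨U', hU', hU'd⟩ := exists_ti_top (B := B.restrict N) (fun x => halt x) hnd k hk
  refine ⟨U'.map N.subtype, ?_, ?_, ?_⟩
  · rintro _ ⟨x, -, rfl⟩
    exact x.2
  · rintro _ ⟨x, hx, rfl⟩ _ ⟨y, hy, rfl⟩
    exact hU' x hx y hy
  · rw [← hU'd]
    exact (Submodule.equivMapOfInjective N.subtype N.injective_subtype U').finrank_eq.symm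

/-- `P` contains a `T`-invariant totally isotropic subspace of dimension `k`. -/
def HasTI (B : LinearMap.BilinForm F V) (T : Module.End F V) (P : Submodule F V) (k : ℕ) : Prop :=
  ∃ U : Submodule F V, U ≤ P ∧ Inv T U ∧ IsoOn B U ∧ finrank F U = k

variable {T : Module.End F V}

theorem HasTI.mono {P Q : Submodule F V} {k : ℕ} (h : HasTI B T P k) (hPQ : P ≤ Q) :
    HasTI B T Q k := by
  obtain ⟨U, hU, h2⟩ := h
  exact ⟨U, hU.trans hPQ, h2⟩

theorem hasTI_zero (P : Submodule F V) : HasTI B T P 0 := by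
  refine ⟨⊥, bot_le, ?_, ?_, finrank_bot F V⟩
  · intro x hx
    rw [(Submodule.mem_bot F).1 hx, map_zero]
    exact Submodule.zero_mem _
  · intro u hu v _
    rw [(Submodule.mem_bot F).1 hu, map_zero, LinearMap.zero_apply]

theorem hasTI_sup [FiniteDimensional F V] (hskew : ∀ x y, B x y = - B y x) {P Q : Submodule F V}
    {k l : ℕ} (hPnd : NDOn B P) (horth : ∀ u ∈ P, ∀ v ∈ Q, B u v = 0) (hP : HasTI B T P k)
    (hQ : HasTI B T Q l) : HasTI B T (P ⊔ Q) (k + l) := by
  obtain ⟨U1, hU1, hU1inv, hU1ti, hU1d⟩ := hP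
  obtain ⟨U2, hU2, hU2inv, hU2ti, hU2d⟩ := hQ
  refine ⟨U1 ⊔ U2, sup_le_sup hU1 hU2, inv_sup hU1inv hU2inv, ?_, ?_⟩
  · intro x hx y hy
    obtain ⟨x1, hx1, x2, hx2, rfl⟩ := Submodule.mem_sup.1 hx
    obtain ⟨y1, hy1, y2, hy2, rfl⟩ := Submodule.mem_sup.1 hy
    simp only [map_add, LinearMap.add_apply, hU1ti x1 hx1 y1 hy1, hU2ti x2 hx2 y2 hy2,
      horth x1 (hU1 hx1) y2 (hU2 hy2), hskew x2 y1, horth y1 (hU1 hy1) x2 (hU2 hx2)]
    ring
  · have hdisj : Disjoint U1 U2 := (disjoint_of_orth hskew hPnd horth).mono hU1 hU2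
    rw [finrank_sup_of_disjoint hdisj, hU1d, hU2d]

theorem le_lsup {l : List (Submodule F V × Bool)} {P : Submodule F V × Bool} (hP : P ∈ l) :
    P.1 ≤ lsup l := by
  induction l with
  | nil => simp at hP
  | cons Q l ih =>
    rw [lsup_cons]
    rcases List.mem_cons.1 hP with rfl | h
    · exact le_sup_left
    · exact (ih h).trans le_sup_right

theorem lsup_le {l : List (Submodule F V × Bool)} {X : Submodule F V}
    (h : ∀ P ∈ l, P.1 ≤ X) : lsup l ≤ X := by
  induction l with
  | nil => rw [lsup_nil]; exact bot_le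
  | cons Q l ih =>
    rw [lsup_cons]
    exact sup_le (h Q List.mem_cons_self) (ih (fun P hP => h P (List.mem_cons_of_mem _ hP)))

theorem hasTI_lsup [FiniteDimensional F V] (hskew : ∀ x y, B x y = - B y x) (δ : ℕ)
    (l : List (Submodule F V × Bool)) (hnd : ∀ Q ∈ l, NDOn B Q.1)
    (hp : l.Pairwise (fun P Q => ∀ u ∈ P.1, ∀ v ∈ Q.1, B u v = 0))
    (h : ∀ Q ∈ l, HasTI B T Q.1 δ) : HasTI B T (lsup l) (δ * l.length) := by
  induction l with
  | nil => simpa using hasTI_zero (B := B) (T := T) ⊥
  | cons P l ih =>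
    rw [List.pairwise_cons] at hp
    rw [lsup_cons, List.length_cons, Nat.mul_succ, add_comm]
    exact hasTI_sup hskew (hnd P List.mem_cons_self) (orth_lsup l (fun Q hQ => hp.1 Q hQ))
      (h P List.mem_cons_self)
      (ih (fun Q hQ => hnd Q (List.mem_cons_of_mem _ hQ)) hp.2
        (fun Q hQ => h Q (List.mem_cons_of_mem _ hQ)))

/-- any number `s ≤ length` of blocks. -/
theorem hasTI_lsup_le [FiniteDimensional F V] (hskew : ∀ x y, B x y = - B y x) (δ : ℕ)
    (l : List (Submodule F V × Bool)) (hnd : ∀ Q ∈ l, NDOn B Q.1)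
    (hp : l.Pairwise (fun P Q => ∀ u ∈ P.1, ∀ v ∈ Q.1, B u v = 0))
    (h : ∀ Q ∈ l, HasTI B T Q.1 δ) (s : ℕ) (hs : s ≤ l.length) :
    HasTI B T (lsup l) (δ * s) := by
  have hsub : (l.take s).Sublist l := List.take_sublist s l
  have h1 := hasTI_lsup hskew δ (l.take s) (fun Q hQ => hnd Q (hsub.subset hQ))
    (hp.sublist hsub) (fun Q hQ => h Q (hsub.subset hQ))
  rw [List.length_take, min_eq_left hs] at h1
  exact h1.mono (lsup_le (fun P hP => le_lsup (hsub.subset hP)))

end Basic

section PrimeOrder

variable {F : Type*} [Field F] [Fintype F] {p : ℕ} [Fact p.Prime] [CharP F p] {r : ℕ}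
variable {V : Type*} [AddCommGroup V] [Module F V] [FiniteDimensional F V]
variable {B : LinearMap.BilinForm F V} {T : Module.End F V}

theorem ord_pos (hr : r.Prime) (hrp : r ≠ p) :
    0 < orderOf ((Fintype.card F : ℕ) : ZMod r) :=
  (Cfsg.Agent.Lib.Helper40_PrimeOrderClasses.exists_cyclotomic_factors (F := F) p r hr hrp).1

theorem inv_iff_mem {W : Submodule F V} : Inv T W ↔ W ∈ T.invtSubmodule := by
  rw [Module.End.mem_invtSubmodule]
  exact Iff.rfl

theorem ndOn_eigenspace (hiso : IsoData B T r) (hB : B.Nondegenerate) (hr : r.Prime)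
    (hrp : r ≠ p) : NDOn B (Module.End.eigenspace T 1) := by
  rw [← fixSpace_eq]
  exact ndOn_fixSpace hiso hB (natCast_ne_zero hr hrp)

theorem inv_eigenspace : Inv T (Module.End.eigenspace T 1) := by
  intro x hx
  rw [Module.End.mem_eigenspace_iff, one_smul] at hx
  rw [hx, Module.End.mem_eigenspace_iff, one_smul, hx]

/-- an invariant totally isotropic subspace splits as (at most half of the fixed space) plus
blocks of dimension `i`. -/
theorem exists_decomp_of_ti (hiso : IsoData B T r) (hB : B.Nondegenerate) (hr : r.Prime)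
    (hrp : r ≠ p) {W : Submodule F V} (hW : Inv T W) (hWti : IsoOn B W) :
    ∃ e' s' : ℕ, finrank F W = e' + orderOf ((Fintype.card F : ℕ) : ZMod r) * s' ∧
      2 * e' ≤ finrank F (Module.End.eigenspace T 1) := by
  have hrF : ((r : ℕ) : F) ≠ 0 := natCast_ne_zero hr hrp
  have hss : T.IsSemisimple := isSemisimple_of_pow_eq_one T r hrF hiso.pow
  have H := hasBlocks_of_pow_eq_one (p := p) T hr hrp hiso.pow
  obtain ⟨t, ht⟩ := dvd_finrank_sub hss (ord_pos (F := F) hr hrp) H
    (inv_iff_mem.1 inv_eigenspace) (inv_iff_mem.1 hW)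
  refine ⟨_, t, ht, ?_⟩
  exact two_mul_finrank_le hiso.alt (ndOn_eigenspace hiso hB hr hrp) inf_le_right
    (fun x hx y hy => hWti x hx.1 y hy.1)

/-- for odd `i`, a nonzero nondegenerate invariant subspace without fixed vectors contains a
totally isotropic invariant subspace of dimension `i`. -/
theorem hasTI_atom_odd (hiso : IsoData B T r) (hr : r.Prime) (hrp : r ≠ p)
    (hi : Odd (orderOf ((Fintype.card F : ℕ) : ZMod r))) {P : Submodule F V} (hP : Inv T P)
    (hPC : P ≤ LinearMap.range (T - 1)) (hP0 : P ≠ ⊥) :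
    HasTI B T P (orderOf ((Fintype.card F : ℕ) : ZMod r)) := by
  have hrF : ((r : ℕ) : F) ≠ 0 := natCast_ne_zero hr hrp
  have hss : T.IsSemisimple := isSemisimple_of_pow_eq_one T r hrF hiso.pow
  have H := hasBlocks_of_pow_eq_one (p := p) T hr hrp hiso.pow
  have hipos := ord_pos (F := F) hr hrp
  set i := orderOf ((Fintype.card F : ℕ) : ZMod r) with hidef
  have hdisjC : Disjoint (LinearMap.range (T - 1)) (Module.End.eigenspace T 1) :=
    (disjoint_fix_range hrF hiso.pow).symm
  obtain ⟨U, hU, hUP, hUd⟩ := H P (inv_iff_mem.1 hP) hP0 (hdisjC.mono_left hPC)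
  have hUinv : Inv T U := inv_iff_mem.2 hU
  set R := U ⊓ B.orthogonal U with hR
  have hRinv : Inv T R := fun x hx => ⟨hUinv x hx.1, hiso.inv_orthogonal hUinv x hx.2⟩
  have hRdisj : Disjoint R (Module.End.eigenspace T 1) :=
    hdisjC.mono_left (inf_le_left.trans (hUP.trans hPC))
  have hdvd : i ∣ finrank F R :=
    dvd_finrank_of_disjoint hss hipos H _ R rfl (inv_iff_mem.1 hRinv) hRdisj
  have hle : finrank F R ≤ i := by
    rw [← hUd]
    exact Submodule.finrank_mono inf_le_left
  obtain ⟨k, hk⟩ := hdvd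
  have hk01 : k = 0 ∨ k = 1 := by
    rcases k with _ | _ | k
    · left; rfl
    · right; rfl
    · exfalso
      rw [hk] at hle
      nlinarith
  rcases hk01 with rfl | rfl
  · -- `U` nondegenerate of odd dimension: impossible
    exfalso
    have hR0 : R = ⊥ := by
      apply Submodule.finrank_eq_zero.1
      rw [hk, mul_zero]
    have hUnd : NDOn B U := by
      intro x hx hxy
      have : x ∈ R := by
        refine ⟨hx, LinearMap.BilinForm.mem_orthogonal_iff.2 ?_⟩
        intro y hy
        show B y x = 0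
        rw [hiso.skew, hxy y hy, neg_zero]
      rw [hR0] at this
      exact (Submodule.mem_bot F).1 this
    have hnd := nondegenerate_restrict hiso hUnd
    have heven := Cfsg.Agent.Lib.Helper43_AltEven.even_finrank_of_alt i U (B.restrict U)
      (fun x => hiso.alt x) hnd hUd
    exact (Nat.not_even_iff_odd.2 hi) heven
  · have hRU : R = U := by
      apply Submodule.eq_of_le_of_finrank_eq inf_le_left
      rw [hk, mul_one, hUd]
    refine ⟨U, hUP, hUinv, ?_, hUd⟩
    intro x hx y hy
    have hy' : y ∈ R := by rw [hRU]; exact hy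
    exact LinearMap.BilinForm.mem_orthogonal_iff.1 hy'.2 x hx

/-- hyperbolic planes inside the fixed space contain invariant isotropic lines. -/
theorem hasTI_plane (halt : ∀ x, B x x = 0) {P : Submodule F V} (hPd : finrank F P = 2)
    (hPE : P ≤ Module.End.eigenspace T 1) : HasTI B T P 1 := by
  have hP0 : P ≠ ⊥ := by
    rintro rfl
    rw [finrank_bot] at hPd
    omega
  obtain ⟨v, hvP, hv0⟩ := Submodule.exists_mem_ne_zero_of_ne_bot hP0
  have hTv : T v = v := by
    have := hPE hvP
    rwa [Module.End.mem_eigenspace_iff, one_smul] at this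
  refine ⟨Submodule.span F {v}, ?_, ?_, ?_, finrank_span_singleton hv0⟩
  · rw [Submodule.span_singleton_le_iff_mem]
    exact hvP
  · intro x hx
    obtain ⟨a, rfl⟩ := Submodule.mem_span_singleton.1 hx
    rw [map_smul, hTv]
    exact hx
  · intro x hx y hy
    obtain ⟨a, rfl⟩ := Submodule.mem_span_singleton.1 hx
    obtain ⟨b, rfl⟩ := Submodule.mem_span_singleton.1 hy
    simp only [map_smul, LinearMap.smul_apply, halt v, smul_zero]

/-- dimension count of a list of pieces. -/
theorem sum_pieces (L : List (Submodule F V × Bool)) (hL : ∀ P ∈ L, IsPiece B T r P) :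
    (L.map (fun P => finrank F P.1)).sum =
      atomDim F r * (L.filter (fun P => P.2)).length +
        2 * (L.filter (fun P => !P.2)).length := by
  induction L with
  | nil => simp
  | cons P L ih =>
    have h1 := ih (fun Q hQ => hL Q (List.mem_cons_of_mem _ hQ))
    have hP := hL P List.mem_cons_self
    rw [List.map_cons, List.sum_cons, h1]
    rcases P with ⟨P, b⟩
    cases b
    · have := (hP.2.2.2 rfl).1
      simp only at this
      simp [this]
      ring
    · have := (hP.2.2.1 rfl).1
      simp only at this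
      simp [this]
      ring

theorem cross_orth (hskew : ∀ x y, B x y = - B y x) {L : List (Submodule F V × Bool)}
    (hp : L.Pairwise (fun P Q => ∀ u ∈ P.1, ∀ v ∈ Q.1, B u v = 0))
    {P Q : Submodule F V × Bool} (hP : P ∈ L) (hQ : Q ∈ L) (hne : P ≠ Q) :
    ∀ u ∈ P.1, ∀ v ∈ Q.1, B u v = 0 := by
  have : Std.Symm (fun P Q : Submodule F V × Bool => ∀ u ∈ P.1, ∀ v ∈ Q.1, B u v = 0) :=
    ⟨fun P Q h u hu v hv => by rw [hskew, h v hv u hu, neg_zero]⟩
  exact hp.forall hP hQ hne

/-- structure theorem, `i` odd: `a` atoms and `e` planes, and totally isotropic invariant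
subspaces of every dimension `i * s' + e'` with `s' ≤ a`, `e' ≤ e`. -/
theorem exists_struct_odd (hiso : IsoData B T r) (hB : B.Nondegenerate) (hr : r.Prime)
    (hr2 : r ≠ 2) (hrp : r ≠ p) (hi : Odd (orderOf ((Fintype.card F : ℕ) : ZMod r))) :
    ∃ a e : ℕ, atomDim F r * a + 2 * e = finrank F V ∧
      ∀ s' e' : ℕ, s' ≤ a → e' ≤ e →
        HasTI B T ⊤ (orderOf ((Fintype.card F : ℕ) : ZMod r) * s' + e') := by
  classical
  obtain ⟨L, hL, hp, hsum⟩ := exists_pieces (p := p) hr hr2 hrp (finrank F V) B T rfl hiso hB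
  have hskew := hiso.skew
  set La := L.filter (fun P => P.2) with hLa
  set Lp := L.filter (fun P => !P.2) with hLp
  have hsubA : La.Sublist L := List.filter_sublist
  have hsubP : Lp.Sublist L := List.filter_sublist
  refine ⟨La.length, Lp.length, ?_, ?_⟩
  · rw [← hsum, sum_pieces L hL]
  · intro s' e' hs' he'
    have hA : HasTI B T (lsup La) (orderOf ((Fintype.card F : ℕ) : ZMod r) * s') := by
      apply hasTI_lsup_le hskew _ La (fun Q hQ => (hL Q (hsubA.subset hQ)).2.1) (hp.sublist hsubA)
        _ s' hs'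
      intro Q hQ
      have hQL := hL Q (hsubA.subset hQ)
      have hQ2 : Q.2 = true := by
        have := (List.mem_filter.1 hQ).2
        simpa using this
      have h3 := hQL.2.2.1 hQ2
      apply hasTI_atom_odd hiso hr hrp hi hQL.1 h3.2
      intro h0
      have := h3.1
      rw [h0, finrank_bot] at this
      have hpos := atomDim_pos (F := F) (r := r) (ord_pos (F := F) hr hrp)
      omega
    have hPl : HasTI B T (lsup Lp) (1 * e') := by
      apply hasTI_lsup_le hskew _ Lp (fun Q hQ => (hL Q (hsubP.subset hQ)).2.1) (hp.sublist hsubP)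
        _ e' he'
      intro Q hQ
      have hQL := hL Q (hsubP.subset hQ)
      have hQ2 : Q.2 = false := by
        have := (List.mem_filter.1 hQ).2
        simpa using this
      have h3 := hQL.2.2.2 hQ2
      exact hasTI_plane hiso.alt h3.1 h3.2
    rw [one_mul] at hPl
    have hAnd : NDOn B (lsup La) :=
      ndOn_lsup hskew La (fun Q hQ => (hL Q (hsubA.subset hQ)).2.1) (hp.sublist hsubA)
    have horth : ∀ u ∈ lsup La, ∀ v ∈ lsup Lp, B u v = 0 := by
      apply orth_lsup_lsup hskew
      intro P hP Q hQ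
      apply cross_orth hskew hp (hsubA.subset hP) (hsubP.subset hQ)
      intro hPQ
      have h1 := (List.mem_filter.1 hP).2
      have h2 := (List.mem_filter.1 hQ).2
      rw [hPQ] at h1
      simp at h1 h2
      rw [h1] at h2
      exact Bool.noConfusion h2
    exact (hasTI_sup hskew hAnd horth hA hPl).mono le_top

end PrimeOrder

end Cfsg.Agent.Lib.Helper99_SpTI
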