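/-
Core of EV8b (helper73, helper22's EVEN market): in characteristic 2, a quadratic form on
`F^d ⊗ F^s` whose polar form has Gram matrix `G₁ ⊗ₖ G₂` and which is invariant under an irreducible
set of Kronecker products `a ⊗ₖ c` has a totally singular subspace of dimension `d s / 2`.
-/
import Mathlib
import Cfsg.Agent.Lib.Helper94_TensorVec
import Cfsg.Agent.Lib.Helper99_SpTI
import Cfsg.Agent.Lib.Helper73_OrthEven_FrobAdd

set_option autoImplicit false
set_option linter.unusedSectionVars false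
set_option linter.unnecessarySeqFocus false

namespace Cfsg.Agent.Lib.Helper73_OrthEven_EV8bCore

open Matrix Module
open Cfsg.Agent.Lib.Helper94_TensorVec Cfsg.Agent.Lib.Helper73_OrthEven_FrobAdd
open scoped Kronecker

variable {F : Type*} [Field F]

section bil

variable {κ : Type} [Fintype κ] [DecidableEq κ]

/-- the bilinear form with Gram matrix `M` -/
def bil (M : Matrix κ κ F) (u v : κ → F) : F := u ⬝ᵥ M *ᵥ v

lemma bil_add_left (M : Matrix κ κ F) (u u' v : κ → F) :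
    bil M (u + u') v = bil M u v + bil M u' v := by
  unfold bil; rw [add_dotProduct]

lemma bil_add_right (M : Matrix κ κ F) (u v v' : κ → F) :
    bil M u (v + v') = bil M u v + bil M u v' := by
  unfold bil; rw [Matrix.mulVec_add, dotProduct_add]

lemma bil_smul_left (M : Matrix κ κ F) (c : F) (u v : κ → F) :
    bil M (c • u) v = c * bil M u v := by
  unfold bil; rw [smul_dotProduct, smul_eq_mul]

lemma bil_smul_right (M : Matrix κ κ F) (c : F) (u v : κ → F) :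
    bil M u (c • v) = c * bil M u v := by
  unfold bil; rw [Matrix.mulVec_smul, dotProduct_smul, smul_eq_mul]

lemma bil_transpose (M : Matrix κ κ F) (u v : κ → F) : bil Mᵀ u v = bil M v u := by
  unfold bil
  rw [Matrix.mulVec_transpose, Matrix.dotProduct_mulVec, dotProduct_comm]

lemma bil_add_mat (M M' : Matrix κ κ F) (u v : κ → F) :
    bil (M + M') u v = bil M u v + bil M' u v := by
  unfold bil; rw [Matrix.add_mulVec, dotProduct_add]

lemma bil_single (M : Matrix κ κ F) (i j : κ) :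
    bil M (Pi.single i 1) (Pi.single j 1) = M i j := by
  unfold bil
  rw [Matrix.mulVec_single_one, single_one_dotProduct]
  rfl

lemma bil_sum_left {α : Type*} (M : Matrix κ κ F) (s : Finset α) (g : α → κ → F) (v : κ → F) :
    bil M (∑ i ∈ s, g i) v = ∑ i ∈ s, bil M (g i) v := by
  unfold bil; rw [sum_dotProduct]

lemma bil_sum_right {α : Type*} (M : Matrix κ κ F) (s : Finset α) (u : κ → F) (g : α → κ → F) :
    bil M u (∑ i ∈ s, g i) = ∑ i ∈ s, bil M u (g i) := by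
  unfold bil; rw [Matrix.mulVec_sum, dotProduct_sum]

/-- the quadratic map `u ↦ uᵀ M u` -/
def qf (M : Matrix κ κ F) (u : κ → F) : F := bil M u u

lemma qf_smul (M : Matrix κ κ F) (c : F) (u : κ → F) : qf M (c • u) = c ^ 2 * qf M u := by
  unfold qf; rw [bil_smul_left, bil_smul_right]; ring

lemma qf_add (M : Matrix κ κ F) (u v : κ → F) :
    qf M (u + v) = qf M u + qf M v + bil (M + Mᵀ) u v := by
  unfold qf
  rw [bil_add_left, bil_add_right, bil_add_right, bil_add_mat, bil_transpose]; ring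

lemma polar_qf (M : Matrix κ κ F) (u v : κ → F) :
    QuadraticMap.polar (qf M) u v = bil (M + Mᵀ) u v := by
  unfold QuadraticMap.polar
  rw [qf_add]; ring

/-- in characteristic 2 a symmetric matrix gives an additive semilinear map -/
lemma isFrobAdd_qf (h2 : (2 : F) = 0) (M : Matrix κ κ F) (hM : Mᵀ = M) : IsFrobAdd (qf M) where
  add u v := by
    rw [qf_add, hM, bil_add_mat, ← two_mul, h2, zero_mul, add_zero]
  smul c u := qf_smul M c u

end bil

section tensor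

variable {κ₁ κ₂ : Type} [Fintype κ₁] [Fintype κ₂] [DecidableEq κ₁] [DecidableEq κ₂]

lemma ten_dot_ten (x x' : κ₁ → F) (y y' : κ₂ → F) :
    ten x y ⬝ᵥ ten x' y' = (x ⬝ᵥ x') * (y ⬝ᵥ y') := by
  simp only [dotProduct, ten_apply, Fintype.sum_prod_type, Finset.sum_mul_sum]
  refine Finset.sum_congr rfl fun i _ => Finset.sum_congr rfl fun j _ => ?_
  ring

lemma bil_kron_ten (M₁ : Matrix κ₁ κ₁ F) (M₂ : Matrix κ₂ κ₂ F) (x x' : κ₁ → F) (y y' : κ₂ → F) :
    bil (M₁ ⊗ₖ M₂) (ten x y) (ten x' y') = bil M₁ x x' * bil M₂ y y' := by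
  unfold bil
  rw [kron_mulVec_ten, ten_dot_ten]

lemma qf_kron_ten (M₁ : Matrix κ₁ κ₁ F) (M₂ : Matrix κ₂ κ₂ F) (x : κ₁ → F) (y : κ₂ → F) :
    qf (M₁ ⊗ₖ M₂) (ten x y) = qf M₁ x * qf M₂ y := bil_kron_ten M₁ M₂ x x y y

/-- every vector is a sum of pure tensors with second factors the standard basis vectors -/
lemma eq_sum_ten' (x : κ₁ × κ₂ → F) :
    x = ∑ j, ten (fun i => x (i, j)) (Pi.single j (1 : F)) := by
  ext ⟨i, j⟩
  simp only [Finset.sum_apply, ten_apply]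
  rw [Finset.sum_eq_single j]
  · simp
  · intro b _ hb
    simp [Pi.single_eq_of_ne hb.symm]
  · intro h
    exact absurd (Finset.mem_univ j) h

end tensor

section core

variable {d s : ℕ}

/-- the hypotheses of the core statement -/
structure Setup (Q' : (Fin d × Fin s → F) → F) (G₁ : Matrix (Fin d) (Fin d) F)
    (G₂ : Matrix (Fin s) (Fin s) F)
    (S : Set (Matrix (Fin d) (Fin d) F × Matrix (Fin s) (Fin s) F)) : Prop where
  h2 : (2 : F) = 0
  smul : ∀ (c : F) (u : Fin d × Fin s → F), Q' (c • u) = c ^ 2 * Q' u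
  pol : ∀ u v, QuadraticMap.polar Q' u v = bil (G₁ ⊗ₖ G₂) u v
  ne₁ : ∃ i k, G₁ i k ≠ 0
  det₁ : G₁.det ≠ 0
  ne₂ : ∃ j l, G₂ j l ≠ 0
  inv : ∀ p ∈ S, ∀ u, Q' ((p.1 ⊗ₖ p.2) *ᵥ u) = Q' u
  unit : ∀ p ∈ S, IsUnit p.1.det ∧ IsUnit p.2.det
  irr : ∀ K : Submodule F (Fin d × Fin s → F),
    (∀ p ∈ S, ∀ u ∈ K, (p.1 ⊗ₖ p.2) *ᵥ u ∈ K) → K = ⊥ ∨ K = ⊤

variable {Q' : (Fin d × Fin s → F) → F} {G₁ : Matrix (Fin d) (Fin d) F}
  {G₂ : Matrix (Fin s) (Fin s) F} {S : Set (Matrix (Fin d) (Fin d) F × Matrix (Fin s) (Fin s) F)}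

namespace Setup

/-- the polar form is invariant -/
lemma bil_inv (h : Setup Q' G₁ G₂ S) (p : Matrix (Fin d) (Fin d) F × Matrix (Fin s) (Fin s) F)
    (hp : p ∈ S) (u v : Fin d × Fin s → F) :
    bil (G₁ ⊗ₖ G₂) ((p.1 ⊗ₖ p.2) *ᵥ u) ((p.1 ⊗ₖ p.2) *ᵥ v) = bil (G₁ ⊗ₖ G₂) u v := by
  rw [← h.pol, ← h.pol]
  unfold QuadraticMap.polar
  rw [← Matrix.mulVec_add, h.inv p hp, h.inv p hp, h.inv p hp]

/-- entries of the symmetric Gram matrix -/
lemma entry_symm (h : Setup Q' G₁ G₂ S) (i k : Fin d) (j l : Fin s) :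
    G₁ i k * G₂ j l = G₁ k i * G₂ l j := by
  have h1 : bil (G₁ ⊗ₖ G₂) (Pi.single (i, j) 1) (Pi.single (k, l) 1) =
      bil (G₁ ⊗ₖ G₂) (Pi.single (k, l) 1) (Pi.single (i, j) 1) := by
    rw [← h.pol, ← h.pol, QuadraticMap.polar_comm]
  rw [bil_single, bil_single] at h1
  exact h1

lemma symm₂ (h : Setup Q' G₁ G₂ S) : G₂ᵀ = G₂ := by
  obtain ⟨i₀, k₀, ha⟩ := h.ne₁
  obtain ⟨j₀, l₀, hb⟩ := h.ne₂
  have e1 : ∀ j l, G₁ i₀ k₀ * G₂ j l = G₁ k₀ i₀ * G₂ l j := fun j l => h.entry_symm i₀ k₀ j l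
  have e2 : (G₁ i₀ k₀ ^ 2 - G₁ k₀ i₀ ^ 2) * G₂ j₀ l₀ = 0 := by
    have a1 := e1 j₀ l₀
    have a2 := e1 l₀ j₀
    linear_combination G₁ i₀ k₀ * a1 + G₁ k₀ i₀ * a2
  have e3 : G₁ i₀ k₀ ^ 2 - G₁ k₀ i₀ ^ 2 = 0 := by
    rcases mul_eq_zero.1 e2 with h0 | h0
    · exact h0
    · exact absurd h0 hb
  have e4 : (G₁ i₀ k₀ - G₁ k₀ i₀) ^ 2 = 0 := by
    have := h.h2
    linear_combination e3 + (G₁ k₀ i₀ ^ 2 - G₁ i₀ k₀ * G₁ k₀ i₀) * this
  have e5 : G₁ i₀ k₀ = G₁ k₀ i₀ := by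
    have := pow_eq_zero_iff (two_ne_zero' ℕ) |>.1 e4
    exact sub_eq_zero.1 this
  ext j l
  rw [Matrix.transpose_apply]
  have := e1 j l
  rw [← e5] at this
  exact (mul_left_cancel₀ ha this).symm

lemma symm₁ (h : Setup Q' G₁ G₂ S) : G₁ᵀ = G₁ := by
  obtain ⟨j₀, l₀, hb⟩ := h.ne₂
  have hs : G₂ l₀ j₀ = G₂ j₀ l₀ := by
    have := congrFun (congrFun h.symm₂ j₀) l₀
    rwa [Matrix.transpose_apply] at this
  ext i k
  rw [Matrix.transpose_apply]
  have := h.entry_symm i k j₀ l₀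
  rw [hs] at this
  exact (mul_right_cancel₀ hb this).symm

/-- vectors all of whose rows lie in `Z` -/
def rowK (Z : Submodule F (Fin s → F)) : Submodule F (Fin d × Fin s → F) where
  carrier := {u | ∀ i, (fun j => u (i, j)) ∈ Z}
  add_mem' {u v} hu hv i := by
    show (fun j => u (i, j)) + (fun j => v (i, j)) ∈ Z
    exact Z.add_mem (hu i) (hv i)
  zero_mem' i := Z.zero_mem
  smul_mem' c u hu i := by
    show c • (fun j => u (i, j)) ∈ Z
    exact Z.smul_mem c (hu i)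

/-- vectors all of whose columns lie in `Z` -/
def colK (Z : Submodule F (Fin d → F)) : Submodule F (Fin d × Fin s → F) where
  carrier := {u | ∀ j, (fun i => u (i, j)) ∈ Z}
  add_mem' {u v} hu hv j := by
    show (fun i => u (i, j)) + (fun i => v (i, j)) ∈ Z
    exact Z.add_mem (hu j) (hv j)
  zero_mem' j := Z.zero_mem
  smul_mem' c u hu j := by
    show c • (fun i => u (i, j)) ∈ Z
    exact Z.smul_mem c (hu j)

lemma ten_mem_rowK (Z : Submodule F (Fin s → F)) (x : Fin d → F) (y : Fin s → F) (hy : y ∈ Z) :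
    ten x y ∈ rowK Z := by
  intro i
  show (fun j => x i * y j) ∈ Z
  exact Z.smul_mem (x i) hy

lemma ten_mem_colK (Z : Submodule F (Fin d → F)) (x : Fin d → F) (y : Fin s → F) (hx : x ∈ Z) :
    ten x y ∈ colK Z := by
  intro j
  have : (fun i => ten x y (i, j)) = y j • x := by
    ext i; simp [mul_comm]
  rw [this]
  exact Z.smul_mem (y j) hx

lemma mulVec_inv_single {n : ℕ} (a : Matrix (Fin n) (Fin n) F) (ha : IsUnit a.det) (i : Fin n) :
    a *ᵥ (a⁻¹ *ᵥ Pi.single i 1) = Pi.single i 1 := by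
  rw [Matrix.mulVec_mulVec, Matrix.mul_nonsing_inv a ha, Matrix.one_mulVec]

/-- the second factors preserve the zero set of `y ↦ yᵀ G₂ y` -/
lemma preserve₂ (h : Setup Q' G₁ G₂ S) (p : Matrix (Fin d) (Fin d) F × Matrix (Fin s) (Fin s) F)
    (hp : p ∈ S) (y : Fin s → F) (hy : qf G₂ y = 0) : qf G₂ (p.2 *ᵥ y) = 0 := by
  obtain ⟨i₀, k₀, ha⟩ := h.ne₁
  have hdet := (h.unit p hp).1
  have := h.bil_inv p hp (ten (p.1⁻¹ *ᵥ Pi.single i₀ 1) y) (ten (p.1⁻¹ *ᵥ Pi.single k₀ 1) y)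
  rw [kron_mulVec_ten, kron_mulVec_ten, bil_kron_ten, bil_kron_ten, mulVec_inv_single _ hdet,
    mulVec_inv_single _ hdet, bil_single] at this
  have hy' : bil G₂ y y = 0 := hy
  rw [hy', mul_zero] at this
  exact (mul_eq_zero.1 this).resolve_left ha

/-- the first factors preserve the zero set of `x ↦ xᵀ G₁ x` -/
lemma preserve₁ (h : Setup Q' G₁ G₂ S) (p : Matrix (Fin d) (Fin d) F × Matrix (Fin s) (Fin s) F)
    (hp : p ∈ S) (x : Fin d → F) (hx : qf G₁ x = 0) : qf G₁ (p.1 *ᵥ x) = 0 := by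
  obtain ⟨j₀, l₀, hb⟩ := h.ne₂
  have hdet := (h.unit p hp).2
  have := h.bil_inv p hp (ten x (p.2⁻¹ *ᵥ Pi.single j₀ 1)) (ten x (p.2⁻¹ *ᵥ Pi.single l₀ 1))
  rw [kron_mulVec_ten, kron_mulVec_ten, bil_kron_ten, bil_kron_ten, mulVec_inv_single _ hdet,
    mulVec_inv_single _ hdet, bil_single] at this
  have hx' : bil G₁ x x = 0 := hx
  rw [hx', zero_mul] at this
  exact (mul_eq_zero.1 this).resolve_right hb

/-- `G₂` is alternating -/
theorem qf₂_zero [Finite F] (h : Setup Q' G₁ G₂ S) (hd : 0 < d) (hs : 2 ≤ s) (y : Fin s → F) :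
    qf G₂ y = 0 := by
  have hFA := isFrobAdd_qf h.h2 G₂ h.symm₂
  have hK := h.irr (rowK hFA.zeroSet) (fun p hp u hu => by
    rw [eq_sum_ten u, Matrix.mulVec_sum]
    refine Submodule.sum_mem _ fun i _ => ?_
    rw [kron_mulVec_ten]
    exact ten_mem_rowK _ _ _ (h.preserve₂ p hp _ (hu i)))
  rcases hK with hK | hK
  · exfalso
    have hz : ∀ y : Fin s → F, qf G₂ y = 0 → y = 0 := by
      intro y hy
      have hm : ten (Pi.single (⟨0, hd⟩ : Fin d) (1 : F)) y ∈ rowK hFA.zeroSet :=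
        ten_mem_rowK _ _ _ hy
      rw [hK, Submodule.mem_bot] at hm
      ext j
      have := congrFun hm (⟨0, hd⟩, j)
      simpa using this
    rcases hFA.proportional h.h2 hz (Pi.single (⟨0, by omega⟩ : Fin s) (1 : F))
      (Pi.single (⟨1, by omega⟩ : Fin s) (1 : F)) with h0 | ⟨c, hc⟩
    · have := congrFun h0 ⟨0, by omega⟩
      simp at this
    · have := congrFun hc ⟨1, by omega⟩
      simp [Fin.ext_iff] at this
  · have hm : ten (Pi.single (⟨0, hd⟩ : Fin d) (1 : F)) y ∈ rowK hFA.zeroSet := by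
      rw [hK]; exact Submodule.mem_top
    have h0 := hm ⟨0, hd⟩
    have : (fun j => ten (Pi.single (⟨0, hd⟩ : Fin d) (1 : F)) y (⟨0, hd⟩, j)) = y := by
      ext j; simp
    rw [this] at h0
    exact h0

/-- `G₁` is alternating -/
theorem qf₁_zero [Finite F] (h : Setup Q' G₁ G₂ S) (hd : 2 ≤ d) (hs : 0 < s) (x : Fin d → F) :
    qf G₁ x = 0 := by
  have hFA := isFrobAdd_qf h.h2 G₁ h.symm₁
  have hK := h.irr (colK hFA.zeroSet) (fun p hp u hu => by
    rw [eq_sum_ten' u, Matrix.mulVec_sum]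
    refine Submodule.sum_mem _ fun j _ => ?_
    rw [kron_mulVec_ten]
    exact ten_mem_colK _ _ _ (h.preserve₁ p hp _ (hu j)))
  rcases hK with hK | hK
  · exfalso
    have hz : ∀ x : Fin d → F, qf G₁ x = 0 → x = 0 := by
      intro x hx
      have hm : ten x (Pi.single (⟨0, hs⟩ : Fin s) (1 : F)) ∈ colK hFA.zeroSet :=
        ten_mem_colK _ _ _ hx
      rw [hK, Submodule.mem_bot] at hm
      ext i
      have := congrFun hm (i, ⟨0, hs⟩)
      simpa using this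
    rcases hFA.proportional h.h2 hz (Pi.single (⟨0, by omega⟩ : Fin d) (1 : F))
      (Pi.single (⟨1, by omega⟩ : Fin d) (1 : F)) with h0 | ⟨c, hc⟩
    · have := congrFun h0 ⟨0, by omega⟩
      simp at this
    · have := congrFun hc ⟨1, by omega⟩
      simp [Fin.ext_iff] at this
  · have hm : ten x (Pi.single (⟨0, hs⟩ : Fin s) (1 : F)) ∈ colK hFA.zeroSet := by
      rw [hK]; exact Submodule.mem_top
    have h0 := hm ⟨0, hs⟩
    have : (fun i => ten x (Pi.single (⟨0, hs⟩ : Fin s) (1 : F)) (i, ⟨0, hs⟩)) = x := by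
      ext i; simp
    rw [this] at h0
    exact h0

end Setup

/-- the strictly upper triangular part of a matrix -/
def upper (G : Matrix (Fin d) (Fin d) F) : Matrix (Fin d) (Fin d) F :=
  Matrix.of fun i k => if i < k then G i k else 0

lemma upper_add_transpose (G : Matrix (Fin d) (Fin d) F) (hs : Gᵀ = G) (h0 : ∀ i, G i i = 0) :
    upper G + (upper G)ᵀ = G := by
  ext i k
  simp only [upper, Matrix.add_apply, Matrix.transpose_apply, Matrix.of_apply]
  rcases lt_trichotomy i k with h | h | h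
  · rw [if_pos h, if_neg (not_lt_of_gt h), add_zero]
  · subst h
    rw [if_neg (lt_irrefl _), add_zero, h0]
  · rw [if_neg (not_lt_of_gt h), if_pos h, zero_add]
    have := congrFun (congrFun hs i) k
    rwa [Matrix.transpose_apply] at this

namespace Setup

/-- the diagonal of `G₁` vanishes -/
lemma diag₁ [Finite F] (h : Setup Q' G₁ G₂ S) (hd : 2 ≤ d) (hs : 0 < s) (i : Fin d) :
    G₁ i i = 0 := by
  have := h.qf₁_zero hd hs (Pi.single i 1)
  unfold qf at this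
  rwa [bil_single] at this

/-- the Gram matrix of the auxiliary quadratic form -/
def M₀ (G₁ : Matrix (Fin d) (Fin d) F) (G₂ : Matrix (Fin s) (Fin s) F) :
    Matrix (Fin d × Fin s) (Fin d × Fin s) F := upper G₁ ⊗ₖ G₂

lemma M₀_add [Finite F] (h : Setup Q' G₁ G₂ S) (hd : 2 ≤ d) (hs : 0 < s) :
    M₀ G₁ G₂ + (M₀ G₁ G₂)ᵀ = G₁ ⊗ₖ G₂ := by
  unfold M₀
  rw [← Matrix.kroneckerMap_transpose, h.symm₂, ← Matrix.add_kronecker,
    upper_add_transpose G₁ h.symm₁ (h.diag₁ hd hs)]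

lemma Q₀_ten [Finite F] (h : Setup Q' G₁ G₂ S) (hd : 0 < d) (hs : 2 ≤ s) (x : Fin d → F)
    (y : Fin s → F) : qf (M₀ G₁ G₂) (ten x y) = 0 := by
  unfold M₀
  rw [qf_kron_ten, h.qf₂_zero hd hs, mul_zero]

/-- the auxiliary quadratic form is invariant -/
lemma Q₀_inv [Finite F] (h : Setup Q' G₁ G₂ S) (hd : 2 ≤ d) (hs : 2 ≤ s)
    (p : Matrix (Fin d) (Fin d) F × Matrix (Fin s) (Fin s) F) (hp : p ∈ S)
    (u : Fin d × Fin s → F) :
    qf (M₀ G₁ G₂) ((p.1 ⊗ₖ p.2) *ᵥ u) = qf (M₀ G₁ G₂) u := by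
  have hE : IsFrobAdd (fun u => qf (M₀ G₁ G₂) ((p.1 ⊗ₖ p.2) *ᵥ u) - qf (M₀ G₁ G₂) u) := by
    apply isFrobAdd_sub (Q := fun u => qf (M₀ G₁ G₂) ((p.1 ⊗ₖ p.2) *ᵥ u))
    · intro c u
      show qf (M₀ G₁ G₂) ((p.1 ⊗ₖ p.2) *ᵥ (c • u)) = _
      rw [Matrix.mulVec_smul, qf_smul]
    · exact qf_smul _
    · intro u v
      rw [polar_qf, h.M₀_add (by omega) (by omega)]
      unfold QuadraticMap.polar
      show qf (M₀ G₁ G₂) ((p.1 ⊗ₖ p.2) *ᵥ (u + v)) - qf (M₀ G₁ G₂) ((p.1 ⊗ₖ p.2) *ᵥ u) -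
        qf (M₀ G₁ G₂) ((p.1 ⊗ₖ p.2) *ᵥ v) = _
      rw [Matrix.mulVec_add, qf_add, h.M₀_add (by omega) (by omega), h.bil_inv p hp]
      ring
  have h0 : qf (M₀ G₁ G₂) ((p.1 ⊗ₖ p.2) *ᵥ u) - qf (M₀ G₁ G₂) u = 0 := by
    have e := eq_sum_ten u
    have hsum := hE.sum Finset.univ (fun i => ten (Pi.single i (1 : F)) (fun j => u (i, j)))
    rw [← e] at hsum
    refine hsum.trans (Finset.sum_eq_zero fun i _ => ?_)
    show qf (M₀ G₁ G₂) ((p.1 ⊗ₖ p.2) *ᵥ ten _ _) - qf (M₀ G₁ G₂) (ten _ _) = 0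
    rw [kron_mulVec_ten, h.Q₀_ten (by omega) hs, h.Q₀_ten (by omega) hs, sub_zero]
  exact sub_eq_zero.1 h0

/-- the quadratic form is the auxiliary one -/
theorem eq_Q₀ [Finite F] (h : Setup Q' G₁ G₂ S) (hd : 2 ≤ d) (hs : 2 ≤ s)
    (u : Fin d × Fin s → F) : Q' u = qf (M₀ G₁ G₂) u := by
  have hD : IsFrobAdd (fun u => Q' u - qf (M₀ G₁ G₂) u) := by
    apply isFrobAdd_sub h.smul (qf_smul _)
    intro u v
    rw [h.pol, polar_qf, h.M₀_add (by omega) (by omega)]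
  have hK := h.irr hD.zeroSet (fun p hp u hu => by
    rw [hD.mem_zeroSet] at hu ⊢
    show Q' ((p.1 ⊗ₖ p.2) *ᵥ u) - qf (M₀ G₁ G₂) ((p.1 ⊗ₖ p.2) *ᵥ u) = 0
    rw [h.inv p hp, h.Q₀_inv hd hs p hp]
    exact hu)
  rcases hK with hK | hK
  · exfalso
    have hz : ∀ u : Fin d × Fin s → F, (fun u => Q' u - qf (M₀ G₁ G₂) u) u = 0 → u = 0 := by
      intro u hu
      have : u ∈ hD.zeroSet := hu
      rwa [hK, Submodule.mem_bot] at this
    rcases hD.proportional h.h2 hz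
      (Pi.single ((⟨0, by omega⟩ : Fin d), (⟨0, by omega⟩ : Fin s)) (1 : F))
      (Pi.single ((⟨0, by omega⟩ : Fin d), (⟨1, by omega⟩ : Fin s)) (1 : F)) with h0 | ⟨c, hc⟩
    · have := congrFun h0 (⟨0, by omega⟩, ⟨0, by omega⟩)
      simp at this
    · have := congrFun hc (⟨0, by omega⟩, ⟨1, by omega⟩)
      simp [Fin.ext_iff] at this
  · have : u ∈ hD.zeroSet := by rw [hK]; exact Submodule.mem_top
    exact sub_eq_zero.1 this

end Setup

/-- the embedding of `L₁ ⊗ F^s` -/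
def psi (L₁ : Submodule F (Fin d → F)) : (Fin s → L₁) →ₗ[F] (Fin d × Fin s → F) where
  toFun g := fun p => (g p.2 : Fin d → F) p.1
  map_add' g g' := by ext p; simp
  map_smul' c g := by ext p; simp

lemma psi_injective (L₁ : Submodule F (Fin d → F)) : Function.Injective (psi (s := s) L₁) := by
  intro g g' hgg
  ext j i
  exact congrFun hgg (i, j)

lemma psi_eq_sum (L₁ : Submodule F (Fin d → F)) (g : Fin s → L₁) :
    psi L₁ g = ∑ j, ten (g j : Fin d → F) (Pi.single j (1 : F)) := by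
  have := eq_sum_ten' (psi L₁ g)
  exact this

/-- **Core of EV8b.** -/
theorem core [Finite F] (h : Setup Q' G₁ G₂ S) (hd : Even d) (hs : Even s) (hd0 : 0 < d)
    (hs0 : 0 < s) :
    ∃ T : Submodule F (Fin d × Fin s → F), (∀ u ∈ T, Q' u = 0) ∧ 2 * finrank F T = d * s := by
  obtain ⟨d', hd'⟩ := hd
  obtain ⟨s', hs'⟩ := hs
  have hd2 : 2 ≤ d := by omega
  have hs2 : 2 ≤ s := by omega
  have halt : ∀ x : Fin d → F, Matrix.toBilin' G₁ x x = 0 := by
    intro x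
    rw [Matrix.toBilin'_apply']
    exact h.qf₁_zero hd2 hs0 x
  have hnd : (Matrix.toBilin' G₁).Nondegenerate :=
    LinearMap.BilinForm.nondegenerate_toBilin'_of_det_ne_zero' G₁ h.det₁
  obtain ⟨L₁, hiso, hdim⟩ := Cfsg.Agent.Lib.Helper99_SpTI.exists_ti_top halt hnd d' (by
    rw [Module.finrank_fintype_fun_eq_card, Fintype.card_fin]; omega)
  refine ⟨LinearMap.range (psi (s := s) L₁), ?_, ?_⟩
  · rintro _ ⟨g, rfl⟩
    rw [h.eq_Q₀ hd2 hs2, psi_eq_sum]
    have key : ∀ t : Finset (Fin s),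
        qf (Setup.M₀ G₁ G₂) (∑ j ∈ t, ten (g j : Fin d → F) (Pi.single j (1 : F))) = 0 := by
      intro t
      induction t using Finset.induction_on with
      | empty =>
        rw [Finset.sum_empty]
        unfold qf bil
        simp
      | insert b t hb ih =>
        rw [Finset.sum_insert hb, qf_add, h.M₀_add hd2 hs0, h.Q₀_ten hd0 hs2, ih, bil_sum_right]
        rw [zero_add, zero_add]
        refine Finset.sum_eq_zero fun j _ => ?_
        rw [bil_kron_ten]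
        have : bil G₁ (g b : Fin d → F) (g j : Fin d → F) = 0 := by
          have := hiso _ (g b).2 _ (g j).2
          rwa [Matrix.toBilin'_apply'] at this
        rw [this, zero_mul]
    exact key Finset.univ
  · rw [LinearMap.finrank_range_of_inj (psi_injective L₁), Module.finrank_pi_fintype]
    simp only [hdim, Finset.sum_const, Finset.card_univ, Fintype.card_fin, smul_eq_mul]
    rw [hd']; ring

end core

end Cfsg.Agent.Lib.Helper73_OrthEven_EV8bCore
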