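/-
EV8b (helper73, helper22's EVEN market; split of EV8 proposed by helper34): characteristic 2 half
of "an irreducible group of isometries normalising an adjoint-closed tensor algebra `M_d ⊗ 1`
with `d`, `s` even is of plus type".
-/
import Mathlib
import Cfsg.Agent.Lib.Helper98_AschDefs
import Cfsg.Agent.Lib.Helper23_FormDefs
import Cfsg.Agent.Lib.Helper29_OrthOddDefs
import Cfsg.Agent.Lib.Helper52_Form_F4
import Cfsg.Agent.Lib.Helper34_OrthOdd_OP4b
import Cfsg.Agent.Lib.Helper94_TensorVec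
import Cfsg.Agent.Lib.Helper73_OrthEven_EV8bCore

set_option autoImplicit false

open Cfsg Cfsg.Geo Matrix Cfsg.Agent.Lib.Helper98_AschDefs Cfsg.Agent.Lib.Helper23_FormDefs
open scoped Kronecker MatrixGroups

namespace Cfsg.Agent.Lib.Helper73_OrthEven_EV8b

open Cfsg.Agent.Lib.Helper94_TensorVec Cfsg.Agent.Lib.Helper73_OrthEven_EV8bCore
  Cfsg.Agent.Lib.Helper34_OrthOdd_OP4b

variable {ι : Type} [Fintype ι] [DecidableEq ι] {F : Type*} [Field F]

lemma exists_entry_ne_zero {n : ℕ} (hn : 0 < n) (G : Matrix (Fin n) (Fin n) F)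
    (hG : IsUnit G.det) : ∃ i k, G i k ≠ 0 := by
  by_contra hcon
  push Not at hcon
  have : G = 0 := by
    ext i k; exact hcon i k
  have _ : Nonempty (Fin n) := ⟨⟨0, hn⟩⟩
  rw [this, Matrix.det_zero] at hG
  exact not_isUnit_zero hG

/-- the action of a conjugated reindexed Kronecker product on the tensor coordinates -/
lemma conj_mulVec {d s : ℕ} (e : ι ≃ Fin d × Fin s) (P : GL ι F)
    (α : GL (Fin d) F) (γ : GL (Fin s) F) (u : Fin d × Fin s → F) :
    ((P * Cfsg.Geo.glReindex e.symm (kronGL α γ) * P⁻¹ : GL ι F) : Matrix ι ι F) *ᵥ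
        ((P : Matrix ι ι F) *ᵥ (u ∘ e)) =
      (P : Matrix ι ι F) *ᵥ
        ((((α : Matrix (Fin d) (Fin d) F) ⊗ₖ (γ : Matrix (Fin s) (Fin s) F)) *ᵥ u) ∘ e) := by
  rw [Units.val_mul, Units.val_mul, Matrix.mulVec_mulVec, Matrix.mul_assoc, Matrix.mul_assoc,
    ← Units.val_mul, inv_mul_cancel, Units.val_one, Matrix.mul_one, ← Matrix.mulVec_mulVec,
    glReindex_symm_val, reindex_mulVec, kronGL_val]

lemma formOfGram_refl {κ : Type} [Fintype κ] [DecidableEq κ] (M : Matrix κ κ F) (x y : κ → F) :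
    formOfGram (⇑(RingEquiv.refl F)) M x y = bil M x y := by
  unfold formOfGram bil
  simp only [dotProduct, Matrix.mulVec, RingEquiv.refl_apply, Finset.mul_sum, mul_assoc]

/-- EV8b: the characteristic 2 half of EV8 -/
theorem EV8b [Fintype F] (Q : (ι → F) → F) (hQ : IsNondegenerateQuadraticForm Q) (H : Subgroup (GL ι F))
    (hHI : H ≤ isometryGroup F Q) (hirr : ActsIrreducibly (matrixSet H))
    (A : Subalgebra F (Matrix ι ι F)) (hA : NormalizesAlg H A)
    (hAadj : IsAdjointClosedFor (QuadraticMap.polar Q) A)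
    (d s : ℕ) (e : ι ≃ Fin d × Fin s) (P : GL ι F) (hT : IsTensorAlg A d s e P)
    (hd : Even d) (hs : Even s) (hd0 : 0 < d) (hs0 : 0 < s) (h2 : (2 : F) = 0) :
    IsPlusTypeOn Q ⊤ := by
  classical
  have hf : IsSesq (RingEquiv.refl F) (QuadraticMap.polar Q) :=
    { add_left := hQ.polar_bilinear.add_left
      smul_left := hQ.polar_bilinear.smul_left
      add_right := hQ.polar_bilinear.add_right
      smul_right := fun c v x => by
        rw [hQ.polar_bilinear.smul_right]; rfl }
  obtain ⟨G₁, G₂, hG₁, hG₂, hG⟩ := Cfsg.Agent.Lib.Helper52_Form_F4.F4 (RingEquiv.refl F)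
    (QuadraticMap.polar Q) hf hQ.nondegenerate A hAadj d s e P hT
  -- the coordinate isomorphism
  set L : (Fin d × Fin s → F) ≃ₗ[F] (ι → F) := phi e P with hL
  have hLa : ∀ x, L x = (P : Matrix ι ι F) *ᵥ (x ∘ e) := fun x => phi_apply e P x
  -- the set of pairs of factors
  set S : Set (Matrix (Fin d) (Fin d) F × Matrix (Fin s) (Fin s) F) :=
    {p | ∃ (α : GL (Fin d) F) (γ : GL (Fin s) F),
      P * Cfsg.Geo.glReindex e.symm (kronGL α γ) * P⁻¹ ∈ H ∧
        p = ((α : Matrix (Fin d) (Fin d) F), (γ : Matrix (Fin s) (Fin s) F))} with hS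
  have hact : ∀ p ∈ S, ∃ h ∈ H, ∀ u, (h : Matrix ι ι F) *ᵥ L u = L ((p.1 ⊗ₖ p.2) *ᵥ u) := by
    rintro p ⟨α, γ, hh, rfl⟩
    refine ⟨_, hh, fun u => ?_⟩
    rw [hLa, hLa]
    exact conj_mulVec e P α γ u
  have hsetup : Setup (fun x => Q (L x)) G₁ G₂ S :=
    { h2 := h2
      smul := fun c u => by
        show Q (L (c • u)) = c ^ 2 * Q (L u)
        rw [map_smul, hQ.smul]
      pol := fun u v => by
        have : QuadraticMap.polar (fun x => Q (L x)) u v = QuadraticMap.polar Q (L u) (L v) := by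
          unfold QuadraticMap.polar
          show Q (L (u + v)) - Q (L u) - Q (L v) = _
          rw [map_add]
        rw [this, hLa, hLa, hG, formOfGram_refl]
      ne₁ := exists_entry_ne_zero hd0 G₁ hG₁
      det₁ := hG₁.ne_zero
      ne₂ := exists_entry_ne_zero hs0 G₂ hG₂
      inv := fun p hp u => by
        obtain ⟨h, hh, hu⟩ := hact p hp
        show Q (L ((p.1 ⊗ₖ p.2) *ᵥ u)) = Q (L u)
        rw [← hu]
        exact (Cfsg.Agent.Lib.Helper29_OrthOddDefs.mem_isometryGroup_iff Q h).1 (hHI hh) _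
      unit := by
        rintro p ⟨α, γ, -, rfl⟩
        exact ⟨Matrix.isUnits_det_units α, Matrix.isUnits_det_units γ⟩
      irr := fun K hK => by
        have hK' : ∀ m ∈ matrixSet H, (K.map (L : (Fin d × Fin s → F) →ₗ[F] (ι → F))).map
            (Matrix.toLin' m) ≤ K.map (L : (Fin d × Fin s → F) →ₗ[F] (ι → F)) := by
          rintro _ ⟨h, hh, rfl⟩ _ ⟨_, ⟨u, hu, rfl⟩, rfl⟩
          obtain ⟨α, γ, hαγ⟩ := exists_kron' H A hA d s e P hT hd0 hs0 h hh
          have hp : ((α : Matrix (Fin d) (Fin d) F), (γ : Matrix (Fin s) (Fin s) F)) ∈ S :=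
            ⟨α, γ, hαγ ▸ hh, rfl⟩
          refine ⟨((α : Matrix (Fin d) (Fin d) F) ⊗ₖ (γ : Matrix (Fin s) (Fin s) F)) *ᵥ u,
            hK _ hp u hu, ?_⟩
          show L _ = Matrix.toLin' (h : Matrix ι ι F) (L u)
          rw [Matrix.toLin'_apply, hLa, hLa]
          conv_rhs => rw [hαγ]
          exact (conj_mulVec e P α γ u).symm
        rcases hirr _ hK' with h0 | h0
        · left
          rw [Submodule.eq_bot_iff]
          intro u hu
          have : L u ∈ K.map (L : (Fin d × Fin s → F) →ₗ[F] (ι → F)) :=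
            Submodule.mem_map_of_mem hu
          rw [h0, Submodule.mem_bot] at this
          exact L.map_eq_zero_iff.1 this
        · right
          rw [Submodule.eq_top_iff']
          intro u
          have : L u ∈ K.map (L : (Fin d × Fin s → F) →ₗ[F] (ι → F)) := by
            rw [h0]; exact Submodule.mem_top
          obtain ⟨u', hu', hu'u⟩ := this
          have : u' = u := L.injective hu'u
          rwa [← this] }
  obtain ⟨T, hT0, hTdim⟩ := core hsetup hd hs hd0 hs0
  refine ⟨T.map (L : (Fin d × Fin s → F) →ₗ[F] (ι → F)), le_top, ?_, ?_⟩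
  · rintro _ ⟨u, hu, rfl⟩
    exact hT0 u hu
  · have h1 : Module.finrank F (T.map (L : (Fin d × Fin s → F) →ₗ[F] (ι → F))) =
        Module.finrank F T := LinearEquiv.finrank_map_eq L T
    rw [h1, hTdim, finrank_top, Module.finrank_fintype_fun_eq_card, Fintype.card_congr e,
      Fintype.card_prod, Fintype.card_fin, Fintype.card_fin]

end Cfsg.Agent.Lib.Helper73_OrthEven_EV8b
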