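/-
Helper library (helper94), package EV4 of helper22's even-dimensional orthogonal market: an irreducible
group of isometries permuting a non-degenerate decomposition permutes it transitively, so the blocks are
isometric.
-/
import Mathlib
import Cfsg.Prelude.Def_GeometricClasses
import Cfsg.Agent.Lib.Helper29_OrthOddDefs

set_option autoImplicit false

namespace Cfsg.Agent.Lib.Helper94_OrthEven_EV4

open Cfsg Cfsg.Geo Matrix
open scoped MatrixGroups

variable {ι : Type} [Fintype ι] [DecidableEq ι] {F : Type*} [Field F]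

/-- an irreducible subgroup of the stabiliser of an `m`-decomposition permutes the blocks transitively -/
theorem transitive_of_irr (H : Subgroup (GL ι F)) (hirr : ActsIrreducibly (matrixSet H)) (t k : ℕ)
    (D : Fin t → Submodule F (ι → F)) (hD : IsMDecomposition k D)
    (hHD : H ≤ decompositionStabilizer D) (i j : Fin t) :
    ∃ h ∈ H, (D i).map (Matrix.toLin' (h : Matrix ι ι F)) = D j := by
  by_contra hcon
  push Not at hcon
  let O : Set (Fin t) := {j' | ∃ h ∈ H, (D i).map (Matrix.toLin' (h : Matrix ι ι F)) = D j'}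
  let W : Submodule F (ι → F) := ⨆ j' ∈ O, D j'
  have hWinv : ∀ s ∈ matrixSet H, W.map (Matrix.toLin' s) ≤ W := by
    rintro s ⟨h, hh, rfl⟩
    simp only [W, Submodule.map_iSup]
    apply iSup₂_le
    intro j' hj'
    obtain ⟨σ, hσ⟩ := hHD hh
    rw [hσ j']
    obtain ⟨h', hh', he⟩ := hj'
    have : σ j' ∈ O := ⟨h * h', H.mul_mem hh hh', by
      rw [Units.val_mul, Matrix.toLin'_mul, Submodule.map_comp, he, hσ]⟩
    exact le_iSup₂_of_le (σ j') this le_rfl
  have hiO : i ∈ O := ⟨1, H.one_mem, by simp⟩
  have hDiW : D i ≤ W := le_iSup₂_of_le i hiO le_rfl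
  have hDne : ∀ j', D j' ≠ ⊥ := by
    intro j' h0
    have h1 := hD.finrank_eq j'
    rw [h0, finrank_bot] at h1
    have := hD.pos
    omega
  rcases hirr W hWinv with h0 | h1
  · apply hDne i
    rw [eq_bot_iff, ← h0]
    exact hDiW
  · have hjO : j ∉ O := fun ⟨h, hh, he⟩ => hcon h hh he
    have hWle : W ≤ ⨆ j' ≠ j, D j' := by
      apply iSup₂_le
      intro j' hj'
      have : j' ≠ j := by rintro rfl; exact hjO hj'
      exact le_iSup₂_of_le j' this le_rfl
    have hdisj := hD.indep j
    have : D j ≤ ⊥ := hdisj (le_refl (D j)) (by rw [h1] at hWle; exact le_trans le_top hWle)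
    exact hDne j (eq_bot_iff.2 this)

theorem toLin'_injective (h : GL ι F) : Function.Injective (Matrix.toLin' (h : Matrix ι ι F)) := by
  apply Function.LeftInverse.injective (g := Matrix.toLin' ((h⁻¹ : GL ι F) : Matrix ι ι F))
  intro v
  rw [← LinearMap.comp_apply, ← Matrix.toLin'_mul, ← Units.val_mul, inv_mul_cancel]
  simp

/-- EV4: an irreducible group of isometries permuting a non-degenerate decomposition permutes it transitively, so the blocks
are isometric -/
theorem EV4 (Q : (ι → F) → F) (hQ : IsNondegenerateQuadraticForm Q) (H : Subgroup (GL ι F))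
    (hHI : H ≤ isometryGroup F Q) (hirr : ActsIrreducibly (matrixSet H)) (t k : ℕ)
    (D : Fin t → Submodule F (ι → F)) (hD : IsNondegenerateMDecomposition (QuadraticMap.polar Q) k D)
    (hHD : H ≤ decompositionStabilizer D) : IsOrthogonalMDecomposition Q k D := by
  refine ⟨hD, ?_⟩
  intro i j
  obtain ⟨h, hh, he⟩ := transitive_of_irr H hirr t k D hD.decomp hHD i j
  have hiso := (Helper29_OrthOddDefs.mem_isometryGroup_iff Q h).1 (hHI hh)
  refine ⟨(Submodule.equivMapOfInjective _ (toLin'_injective h) (D i)).trans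
    (LinearEquiv.ofEq _ _ he), ?_⟩
  intro w
  simp only [LinearEquiv.trans_apply, LinearEquiv.coe_ofEq_apply,
    Submodule.coe_equivMapOfInjective_apply, Matrix.toLin'_apply]
  exact hiso w

end Cfsg.Agent.Lib.Helper94_OrthEven_EV4
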