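/-
Helper library (helper94), package EV6 of helper22's even-dimensional orthogonal market: an irreducible
group of isometries permuting a pair of complementary subspaces that are totally isotropic for the polar
form: both are totally singular for `Q`, and `Q` is of plus type.
-/
import Mathlib
import Cfsg.Prelude.Def_GeometricClasses
import Cfsg.Agent.Lib.Helper29_OrthOddDefs

set_option autoImplicit false

namespace Cfsg.Agent.Lib.Helper94_OrthEven_EV6

open Cfsg Cfsg.Geo Matrix
open scoped MatrixGroups

variable {ι : Type} [Fintype ι] [DecidableEq ι] {F : Type*} [Field F]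

theorem sq_surjective [Finite F] (h2 : (2 : F) = 0) : Function.Surjective (fun x : F => x * x) := by
  apply Finite.injective_iff_surjective.1
  intro x y hxy
  simp only at hxy
  have h : (x - y) * (x - y) = x * x - y * y + (2 : F) * (y * y - x * y) := by ring
  rw [hxy, h2] at h
  have h0 : (x - y) * (x - y) = 0 := by rw [h]; ring
  have := mul_self_eq_zero.1 h0
  exact sub_eq_zero.1 this

/-- the singular vectors of a subspace which is totally isotropic for the polar form -/
def sing (Q : (ι → F) → F) (hQ : IsNondegenerateQuadraticForm Q) (W : Submodule F (ι → F))
    (hW : IsTotallySingularFor (QuadraticMap.polar Q) W) : Submodule F (ι → F) where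
  carrier := {v | v ∈ W ∧ Q v = 0}
  add_mem' := by
    rintro a b ⟨ha, ha0⟩ ⟨hb, hb0⟩
    refine ⟨W.add_mem ha hb, ?_⟩
    have := hW a ha b hb
    unfold QuadraticMap.polar at this
    rw [ha0, hb0] at this
    simpa using this
  zero_mem' := by
    refine ⟨W.zero_mem, ?_⟩
    have := hQ.smul 0 0
    simpa using this
  smul_mem' := by
    rintro c v ⟨hv, hv0⟩
    refine ⟨W.smul_mem c hv, ?_⟩
    rw [hQ.smul, hv0, mul_zero]

theorem mem_sing (Q : (ι → F) → F) (hQ : IsNondegenerateQuadraticForm Q) (W : Submodule F (ι → F))
    (hW : IsTotallySingularFor (QuadraticMap.polar Q) W) (v : ι → F) :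
    v ∈ sing Q hQ W hW ↔ v ∈ W ∧ Q v = 0 := Iff.rfl

theorem iSup_fin_two (D : Fin 2 → Submodule F (ι → F)) : iSup D = D 0 ⊔ D 1 := by
  apply le_antisymm
  · apply iSup_le
    intro i
    fin_cases i
    · exact le_sup_left
    · exact le_sup_right
  · exact sup_le (le_iSup D 0) (le_iSup D 1)

/-- EV6: an irreducible group of isometries permuting a pair of complementary subspaces that are totally isotropic for the
polar form: both are totally singular for `Q`, and `Q` is of plus type -/
theorem EV6 [Fintype F] (Q : (ι → F) → F) (hQ : IsNondegenerateQuadraticForm Q) (H : Subgroup (GL ι F))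
    (hHI : H ≤ isometryGroup F Q) (hirr : ActsIrreducibly (matrixSet H)) (hn : 3 ≤ Fintype.card ι) (k : ℕ)
    (D : Fin 2 → Submodule F (ι → F)) (hD : IsMDecomposition k D)
    (hts : ∀ i, IsTotallySingularFor (QuadraticMap.polar Q) (D i)) (hHD : H ≤ decompositionStabilizer D) :
    (∀ i, IsTotallySingularQuad Q (D i)) ∧ IsPlusTypeOn Q ⊤ := by
  have hdisj : Disjoint (D 0) (D 1) := by
    have := hD.indep 0
    refine this.mono_right ?_
    exact le_iSup₂_of_le (1 : Fin 2) (by decide) le_rfl
  have htop : D 0 ⊔ D 1 = ⊤ := by rw [← iSup_fin_two, hD.iSup_eq_top]
  have hdim : Fintype.card ι = 2 * k := by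
    have h1 := Submodule.finrank_sup_add_finrank_inf_eq (D 0) (D 1)
    rw [htop, hdisj.eq_bot, finrank_bot, finrank_top, hD.finrank_eq, hD.finrank_eq,
      Module.finrank_fintype_fun_eq_card] at h1
    omega
  have hsing : ∀ i, IsTotallySingularQuad Q (D i) := by
    by_cases h2 : (2 : F) = 0
    · -- characteristic 2
      let W0 : Submodule F (ι → F) := ⨆ i, sing Q hQ (D i) (hts i)
      have hWinv : ∀ s ∈ matrixSet H, W0.map (Matrix.toLin' s) ≤ W0 := by
        rintro s ⟨h, hh, rfl⟩
        simp only [W0, Submodule.map_iSup]
        apply iSup_le
        intro i
        obtain ⟨σ, hσ⟩ := hHD hh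
        refine le_trans ?_ (le_iSup _ (σ i))
        rintro _ ⟨v, hv, rfl⟩
        rw [SetLike.mem_coe, mem_sing] at hv
        rw [mem_sing]
        refine ⟨?_, ?_⟩
        · rw [← hσ i]
          exact ⟨v, hv.1, rfl⟩
        · rw [Matrix.toLin'_apply, (Helper29_OrthOddDefs.mem_isometryGroup_iff Q h).1 (hHI hh)]
          exact hv.2
      rcases hirr W0 hWinv with h0 | h1
      · -- all singular parts are trivial: dimension at most 1
        exfalso
        have hk : k ≤ 1 := by
          rw [← hD.finrank_eq 0]
          by_cases hex : ∃ u ∈ D 0, Q u ≠ 0
          · obtain ⟨u, hu, hQu⟩ := hex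
            have hle : D 0 ≤ Submodule.span F {u} := by
              intro v hv
              obtain ⟨c, hc⟩ := sq_surjective h2 (Q v / Q u)
              simp only at hc
              have hmem : v + c • u ∈ sing Q hQ (D 0) (hts 0) := by
                rw [mem_sing]
                refine ⟨(D 0).add_mem hv ((D 0).smul_mem c hu), ?_⟩
                have hp := hts 0 v hv (c • u) ((D 0).smul_mem c hu)
                unfold QuadraticMap.polar at hp
                have e1 : Q (v + c • u) = Q v + Q (c • u) := by
                  have := sub_eq_zero.1 hp
                  rw [sub_eq_iff_eq_add] at this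
                  rw [this]; ring
                rw [e1, hQ.smul, pow_two, hc, div_mul_cancel₀ _ hQu]
                have : Q v + Q v = (2 : F) * Q v := by ring
                rw [this, h2, zero_mul]
              have hle0 : sing Q hQ (D 0) (hts 0) ≤ W0 := le_iSup (fun i => sing Q hQ (D i) (hts i)) 0
              have := hle0 hmem
              rw [h0, Submodule.mem_bot] at this
              have hv' : v = (-c) • u := by
                rw [neg_smul]
                exact eq_neg_of_add_eq_zero_left this
              rw [hv']
              exact Submodule.smul_mem _ _ (Submodule.mem_span_singleton_self u)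
            calc Module.finrank F (D 0) ≤ Module.finrank F (Submodule.span F {u}) :=
                  Submodule.finrank_mono hle
              _ ≤ 1 := by
                have hu0 : u ≠ 0 := by
                  rintro rfl
                  apply hQu
                  have := hQ.smul 0 0
                  simpa using this
                exact (finrank_span_singleton hu0).le
          · push Not at hex
            have : D 0 ≤ ⊥ := by
              intro v hv
              have hmem : v ∈ sing Q hQ (D 0) (hts 0) := ⟨hv, hex v hv⟩
              have hle0 : sing Q hQ (D 0) (hts 0) ≤ W0 := le_iSup (fun i => sing Q hQ (D i) (hts i)) 0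
              have := hle0 hmem
              rwa [h0] at this
            rw [eq_bot_iff.2 this, finrank_bot]
            exact Nat.zero_le 1
        omega
      · -- singular parts span everything
        have hW0 : W0 = sing Q hQ (D 0) (hts 0) ⊔ sing Q hQ (D 1) (hts 1) := by
          apply le_antisymm
          · apply iSup_le
            intro i
            fin_cases i
            · exact le_sup_left
            · exact le_sup_right
          · exact sup_le (le_iSup (fun i => sing Q hQ (D i) (hts i)) 0)
              (le_iSup (fun i => sing Q hQ (D i) (hts i)) 1)
        intro i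
        fin_cases i
        · intro v hv
          have hvt : v ∈ W0 := by rw [h1]; trivial
          rw [hW0, Submodule.mem_sup] at hvt
          obtain ⟨a, ha, b, hb, hab⟩ := hvt
          have hbD0 : b ∈ D 0 := by
            have : b = v - a := by rw [← hab]; abel
            rw [this]
            exact (D 0).sub_mem hv ha.1
          have hb0 : b = 0 := by
            have := hdisj.le_bot ⟨hbD0, hb.1⟩
            simpa using this
          rw [hb0, add_zero] at hab
          rw [← hab]
          exact ha.2
        · intro v hv
          have hvt : v ∈ W0 := by rw [h1]; trivial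
          rw [hW0, Submodule.mem_sup] at hvt
          obtain ⟨a, ha, b, hb, hab⟩ := hvt
          have haD1 : a ∈ D 1 := by
            have : a = v - b := by rw [← hab]; abel
            rw [this]
            exact (D 1).sub_mem hv hb.1
          have ha0 : a = 0 := by
            have := hdisj.le_bot ⟨ha.1, haD1⟩
            simpa using this
          rw [ha0, zero_add] at hab
          rw [← hab]
          exact hb.2
    · -- characteristic not 2
      intro i v hv
      have hp := hts i v hv v hv
      unfold QuadraticMap.polar at hp
      have e1 : v + v = (2 : F) • v := by rw [two_smul]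
      rw [e1, hQ.smul] at hp
      have : (2 : F) * Q v = 0 := by
        have e2 : (2 : F) ^ 2 * Q v - Q v - Q v = 2 * Q v := by ring
        rw [e2] at hp
        exact hp
      rcases mul_eq_zero.1 this with h | h
      · exact absurd h h2
      · exact h
  refine ⟨hsing, D 0, le_top, hsing 0, ?_⟩
  rw [finrank_top, hD.finrank_eq, Module.finrank_fintype_fun_eq_card, hdim]

end Cfsg.Agent.Lib.Helper94_OrthEven_EV6
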