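import Mathlib
import Cfsg.Agent.Lib.Helper98_AschDefs
import Cfsg.Agent.Lib.Helper52_Asch_PK7

/-!
# S5630 package PKN1 (helper27, for helper98)

In the class-2 case the minimal `H`-normalized subgroup `N` (spanning, `⁅N, N⁆ ≤ scalars`) is an
`r`-group with `x ^ r = 1` (`r` odd) or `x ^ 4 = 1` (`r = 2`).
The group theory is done abstractly (`abstract_main`) for a central cyclic subgroup `Z`.
-/

set_option autoImplicit false

namespace Cfsg.Agent.Lib.Helper27_Asch_PKN1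

open Cfsg Cfsg.Geo Matrix Cfsg.Agent.Lib.Helper98_AschDefs
open scoped commutatorElement

section Abstract

variable {G : Type*} [Group G]

/-- `⁅y ^ n, x⁆ = ⁅y, x⁆ ^ n` when the commutator commutes with `y` -/
lemma comm_pow_left (x y : G) (hy : Commute ⁅y, x⁆ y) (n : ℕ) : ⁅y ^ n, x⁆ = ⁅y, x⁆ ^ n := by
  induction n with
  | zero => simp
  | succ n ih =>
    have h1 : ⁅y ^ (n+1), x⁆ = y * ⁅y ^ n, x⁆ * y⁻¹ * ⁅y, x⁆ := by
      simp only [commutatorElement_def, pow_succ']; group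
    have h2 : Commute (⁅y, x⁆ ^ n) y := hy.pow_left n
    rw [h1, ih, pow_succ, ← h2.eq]; group

/-- the power formula in a group of class two -/
lemma mul_pow_class2 (x y : G) (hx : Commute ⁅y, x⁆ x) (hy : Commute ⁅y, x⁆ y) (n : ℕ) :
    (x * y) ^ n = x ^ n * y ^ n * ⁅y, x⁆ ^ (n.choose 2) := by
  induction n with
  | zero => simp
  | succ n ih =>
    rw [pow_succ, ih]
    have h0 := comm_pow_left x y hy n
    generalize ⁅y, x⁆ = c at *
    have h1 : y ^ n * x = c ^ n * x * y ^ n := by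
      rw [← h0, commutatorElement_def]; group
    have hcx : Commute (c ^ (n.choose 2)) x := hx.pow_left _
    have hcy : Commute (c ^ (n.choose 2)) y := hy.pow_left _
    have hcnx : Commute (c ^ n) (x ^ n) := (hx.pow_left n).pow_right n
    have hch : (n + 1).choose 2 = n + n.choose 2 := by
      rw [Nat.choose_succ_succ, Nat.choose_one_right]
    have hcxy : Commute (c ^ (n.choose 2)) (x * y) := hcx.mul_right hcy
    have hcn_all : Commute (c ^ n) (x ^ (n+1) * y ^ (n+1)) :=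
      ((hx.pow_left n).pow_right _).mul_right ((hy.pow_left n).pow_right _)
    calc x ^ n * y ^ n * c ^ (n.choose 2) * (x * y)
        = x ^ n * y ^ n * ((x * y) * c ^ (n.choose 2)) := by rw [mul_assoc, hcxy.eq]
      _ = x ^ n * (y ^ n * x) * y * c ^ (n.choose 2) := by simp only [mul_assoc]
      _ = x ^ n * (c ^ n * x * y ^ n) * y * c ^ (n.choose 2) := by rw [h1]
      _ = (x ^ n * c ^ n) * (x * (y ^ n * y)) * c ^ (n.choose 2) := by simp only [mul_assoc]
      _ = (c ^ n * x ^ n) * (x * (y ^ n * y)) * c ^ (n.choose 2) := by rw [hcnx.eq]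
      _ = c ^ n * (x ^ (n+1) * y ^ (n+1)) * c ^ (n.choose 2) := by simp only [pow_succ, mul_assoc]
      _ = (x ^ (n+1) * y ^ (n+1)) * c ^ n * c ^ (n.choose 2) := by rw [hcn_all.eq]
      _ = x ^ (n + 1) * y ^ (n + 1) * c ^ ((n + 1).choose 2) := by rw [hch, pow_add c, mul_assoc]

end Abstract

section Abstract

variable {G : Type*} [Group G]

lemma commute_of_mem_center {Z : Subgroup G} (hZ : Z ≤ Subgroup.center G) {z : G} (hz : z ∈ Z) (g : G) :
    Commute z g := (Subgroup.mem_center_iff.mp (hZ hz) g).symm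

/-- the subgroup `{x ∈ N | x ^ k ∈ W}` of a class-two group -/
lemma exists_powSub (Z N : Subgroup G) (hZ : Z ≤ Subgroup.center G) (hcomm : ⁅N, N⁆ ≤ Z)
    (W : Subgroup G) (hW : W ≤ Z) (k : ℕ)
    (hk : ∀ x ∈ N, ∀ y ∈ N, ⁅y, x⁆ ^ (k.choose 2) ∈ W) :
    ∃ T : Subgroup G, ∀ x, x ∈ T ↔ x ∈ N ∧ x ^ k ∈ W := by
  refine ⟨{ carrier := {x | x ∈ N ∧ x ^ k ∈ W}
            mul_mem' := ?_
            one_mem' := ⟨N.one_mem, by simp⟩
            inv_mem' := ?_ }, fun x => Iff.rfl⟩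
  · rintro x y ⟨hx, hxk⟩ ⟨hy, hyk⟩
    refine ⟨N.mul_mem hx hy, ?_⟩
    have hc : ⁅y, x⁆ ∈ Z := hcomm (Subgroup.commutator_mem_commutator hy hx)
    rw [mul_pow_class2 x y (commute_of_mem_center hZ hc x) (commute_of_mem_center hZ hc y) k]
    exact W.mul_mem (W.mul_mem hxk hyk) (hk x hx y hy)
  · rintro x ⟨hx, hxk⟩
    refine ⟨N.inv_mem hx, ?_⟩
    rw [inv_pow]
    exact W.inv_mem hxk

/-- the dichotomy for the subgroup `{x ∈ N | x ^ k ∈ W}` -/
lemma powSub_dichotomy (Z H N : Subgroup G) (hZ : Z ≤ Subgroup.center G)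
    (hnorm : ∀ h ∈ H, ∀ x ∈ N, h * x * h⁻¹ ∈ N)
    (hmin : ∀ N' : Subgroup G, N' ≤ N → (∀ h ∈ H, ∀ x ∈ N', h * x * h⁻¹ ∈ N') → N' = N ∨ N' ≤ Z)
    (hcomm : ⁅N, N⁆ ≤ Z) (W : Subgroup G) (hW : W ≤ Z) (k : ℕ)
    (hk : ∀ x ∈ N, ∀ y ∈ N, ⁅y, x⁆ ^ (k.choose 2) ∈ W) :
    (∀ x ∈ N, x ^ k ∈ W) ∨ (∀ x ∈ N, x ^ k ∈ W → x ∈ Z) := by
  obtain ⟨T, hT⟩ := exists_powSub Z N hZ hcomm W hW k hk
  have h1 : T ≤ N := fun x hx => ((hT x).mp hx).1
  have h2 : ∀ h ∈ H, ∀ x ∈ T, h * x * h⁻¹ ∈ T := by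
    intro h hh x hx
    obtain ⟨hxN, hxk⟩ := (hT x).mp hx
    refine (hT _).mpr ⟨hnorm h hh x hxN, ?_⟩
    rw [conj_pow]
    have : Commute (x ^ k) h := commute_of_mem_center hZ (hW hxk) h
    rw [← this.eq, mul_inv_cancel_right]
    exact hxk
  rcases hmin T h1 h2 with h | h
  · left
    intro x hx
    exact ((hT x).mp (h ▸ hx)).2
  · right
    intro x hx hxk
    exact h ((hT x).mpr ⟨hx, hxk⟩)

lemma card_pow_eq_one_le' {C : Type*} [Group C] [Finite C] [IsCyclic C] {n : ℕ} (hn : 0 < n) :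
    Nat.card {a : C // a ^ n = 1} ≤ n := by
  classical
  have := Fintype.ofFinite C
  rw [Nat.card_eq_fintype_card, Fintype.card_subtype]
  exact IsCyclic.card_pow_eq_one_le hn

/-- a set of elements of a finite cyclic subgroup killed by `m` has at most `m` elements -/
lemma card_le_of_pow_eq_one [Finite G] (Z : Subgroup G) [IsCyclic Z] {S : Type*} (f : S → G)
    (hf : Function.Injective f) (m : ℕ) (hm : 0 < m) (h1 : ∀ s, f s ∈ Z) (h2 : ∀ s, f s ^ m = 1) :
    Nat.card S ≤ m := by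
  refine le_trans ?_ (card_pow_eq_one_le' (C := Z) hm)
  refine Nat.card_le_card_of_injective (fun s => ⟨⟨f s, h1 s⟩, Subtype.ext (h2 s)⟩) ?_
  intro s t hst
  apply hf
  simpa using congrArg (fun a => (a.1 : G)) hst

end Abstract

section Abstract

variable {G : Type*} [Group G]

/-- Step A: an element outside `Z` with a prime power inside `Z` -/
lemma exists_prime_pow_mem [Finite G] (Z N : Subgroup G) (hNZ : ¬ N ≤ Z) :
    ∃ r : ℕ, r.Prime ∧ ∃ x ∈ N, x ∉ Z ∧ x ^ r ∈ Z := by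
  classical
  obtain ⟨y, hyN, hyZ⟩ := SetLike.not_le_iff_exists.mp hNZ
  have hex : ∃ m : ℕ, 0 < m ∧ y ^ m ∈ Z :=
    ⟨orderOf y, orderOf_pos y, by rw [pow_orderOf_eq_one]; exact Z.one_mem⟩
  set m := Nat.find hex with hm
  obtain ⟨hm0, hmZ⟩ := Nat.find_spec hex
  have hm1 : m ≠ 1 := by
    intro h
    rw [← hm, h, pow_one] at hmZ
    exact hyZ hmZ
  obtain ⟨r, hr, d, hd⟩ := Nat.exists_prime_and_dvd hm1
  refine ⟨r, hr, y ^ d, N.pow_mem hyN d, ?_, ?_⟩
  · intro h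
    have hd0 : 0 < d := by
      rcases Nat.eq_zero_or_pos d with h0 | h0
      · rw [← hm, hd, h0, mul_zero] at hm0; exact absurd hm0 (lt_irrefl 0)
      · exact h0
    have hlt : d < m := by
      rw [hd]
      calc d = 1 * d := (one_mul d).symm
        _ < r * d := Nat.mul_lt_mul_of_pos_right hr.one_lt hd0
    exact Nat.find_min hex hlt ⟨hd0, h⟩
  · rw [← pow_mul, mul_comm, ← hd]
    exact hmZ

lemma pow_eq_one_of_dvd {c : G} {r m : ℕ} (hc : c ^ r = 1) (h : r ∣ m) : c ^ m = 1 := by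
  obtain ⟨d, rfl⟩ := h
  rw [pow_mul, hc, one_pow]

/-- Step C: the `r`-elements outside `Z` -/
lemma mem_of_coprime_pows (Z : Subgroup G) (x : G) (r m : ℕ) (hrm : Nat.Coprime m r)
    (h1 : x ^ m ∈ Z) (h2 : x ^ r ∈ Z) : x ∈ Z := by
  have h := Int.gcd_eq_gcd_ab (m : ℤ) (r : ℤ)
  have hg : Int.gcd (m : ℤ) (r : ℤ) = 1 := by
    rw [Int.gcd_natCast_natCast]; exact hrm
  rw [hg] at h
  have hx : x = (x ^ m) ^ (Int.gcdA m r) * (x ^ r) ^ (Int.gcdB m r) := by
    rw [← zpow_natCast x m, ← zpow_natCast x r, ← _root_.zpow_mul, ← _root_.zpow_mul, ← _root_.zpow_add, ← h]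
    simp
  rw [hx]
  exact Z.mul_mem (Z.zpow_mem h1 _) (Z.zpow_mem h2 _)

end Abstract

section Abstract

variable {G : Type*} [Group G]

/-- Steps B, C -/
lemma isPGroup_aux [Finite G] (Z H N : Subgroup G) (hZ : Z ≤ Subgroup.center G)
    (hnorm : ∀ h ∈ H, ∀ x ∈ N, h * x * h⁻¹ ∈ N) (hNZ : ¬ N ≤ Z)
    (hmin : ∀ N' : Subgroup G, N' ≤ N → (∀ h ∈ H, ∀ x ∈ N', h * x * h⁻¹ ∈ N') → N' = N ∨ N' ≤ Z)
    (hcomm : ⁅N, N⁆ ≤ Z) :
    ∃ r : ℕ, r.Prime ∧ (∀ x ∈ N, x ^ r ∈ Z) ∧ (∀ x ∈ N, ∀ y ∈ N, ⁅y, x⁆ ^ r = 1) ∧ IsPGroup r N := by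
  obtain ⟨r, hr, x₀, hx₀N, hx₀Z, hx₀r⟩ := exists_prime_pow_mem Z N hNZ
  -- Step B
  have hB : ∀ x ∈ N, x ^ r ∈ Z := by
    rcases powSub_dichotomy Z H N hZ hnorm hmin hcomm Z le_rfl r
      (fun x hx y hy => Z.pow_mem (hcomm (Subgroup.commutator_mem_commutator hy hx)) _) with h | h
    · exact h
    · exact absurd (h x₀ hx₀N hx₀r) hx₀Z
  have hc : ∀ x ∈ N, ∀ y ∈ N, ⁅y, x⁆ ^ r = 1 := by
    intro x hx y hy
    have hcz : ⁅y, x⁆ ∈ Z := hcomm (Subgroup.commutator_mem_commutator hy hx)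
    rw [← comm_pow_left x y (commute_of_mem_center hZ hcz y) r]
    rw [commutatorElement_eq_one_iff_commute]
    exact commute_of_mem_center hZ (hB y hy) x
  refine ⟨r, hr, hB, hc, ?_⟩
  -- Step C
  set K := Nat.card N + 2 with hK
  have h2K : 2 ≠ r ^ K := by
    intro h
    have h4 : r ^ 2 ∣ 2 := by rw [h]; exact pow_dvd_pow r (by omega)
    have := Nat.le_of_dvd (by norm_num) h4
    have := hr.two_le
    nlinarith
  have hdvd : r ∣ (r ^ K).choose 2 := hr.dvd_choose_pow (by norm_num) h2K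
  rcases powSub_dichotomy Z H N hZ hnorm hmin hcomm ⊥ bot_le (r ^ K)
      (fun x hx y hy => by rw [Subgroup.mem_bot]; exact pow_eq_one_of_dvd (hc x hx y hy) hdvd) with h | h
  · intro g
    refine ⟨K, ?_⟩
    have := h g.1 g.2
    rw [Subgroup.mem_bot] at this
    exact Subtype.ext (by simpa using this)
  · exfalso
    have ho : orderOf x₀ ≠ 0 := (orderOf_pos x₀).ne'
    obtain ⟨a, m, hm, hom⟩ := Nat.exists_eq_pow_mul_and_not_dvd ho r hr.ne_one
    have haK : a ≤ K := by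
      have h1 : a < r ^ a := Nat.lt_pow_self hr.one_lt
      have h2 : r ^ a ≤ orderOf x₀ := Nat.le_of_dvd (orderOf_pos x₀) ⟨m, hom⟩
      have h3 : orderOf x₀ ≤ Nat.card N := Nat.le_of_dvd Nat.card_pos (N.orderOf_dvd_natCard hx₀N)
      omega
    have h1 : (x₀ ^ m) ^ (r ^ K) = 1 := by
      obtain ⟨b, hb⟩ := Nat.exists_eq_add_of_le haK
      rw [hb, pow_add, ← pow_mul, ← mul_assoc, mul_comm m, ← hom, pow_mul, pow_orderOf_eq_one, one_pow]
    have h2 : x₀ ^ m ∈ Z := h _ (N.pow_mem hx₀N m) (by rw [Subgroup.mem_bot]; exact h1)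
    exact hx₀Z (mem_of_coprime_pows Z x₀ r m ((Nat.Prime.coprime_iff_not_dvd hr).mpr hm).symm h2 hx₀r)

end Abstract

section Abstract

variable {G : Type*} [Group G]

/-- counting: a power map which is a homomorphism on `N` with kernel and image in a cyclic group -/
lemma card_le_of_pow_hom [Finite G] (Z N : Subgroup G) [IsCyclic Z] (k : ℕ) (hk0 : 0 < k)
    (hmul : ∀ x ∈ N, ∀ y ∈ N, (x * y) ^ k = x ^ k * y ^ k)
    (hker : ∀ x ∈ N, x ^ k = 1 → x ∈ Z)
    (j : ℕ) (hj0 : 0 < j) (himZ : ∀ x ∈ N, x ^ k ∈ Z) (him : ∀ x ∈ N, (x ^ k) ^ j = 1) :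
    Nat.card N ≤ k * j := by
  let ψ : ↥N →* ↥N :=
    { toFun := fun x => x ^ k
      map_one' := one_pow k
      map_mul' := fun x y => Subtype.ext (by simpa using hmul x.1 x.2 y.1 y.2) }
  have h1 : Nat.card ψ.ker * Nat.card ψ.range = Nat.card N := by
    rw [← Subgroup.index_ker, Subgroup.card_mul_index]
  have h2 : Nat.card ψ.ker ≤ k := by
    refine card_le_of_pow_eq_one Z (fun s : ψ.ker => ((s.1 : ↥N) : G)) ?_ k hk0 ?_ ?_
    · intro s t hst
      exact Subtype.ext (Subtype.ext hst)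
    · intro s
      have hs : (s.1 : ↥N) ^ k = 1 := s.2
      exact hker _ s.1.2 (by simpa using congrArg Subtype.val hs)
    · intro s
      have hs : (s.1 : ↥N) ^ k = 1 := s.2
      simpa using congrArg Subtype.val hs
  have h3 : Nat.card ψ.range ≤ j := by
    refine card_le_of_pow_eq_one Z (fun s : ψ.range => ((s.1 : ↥N) : G)) ?_ j hj0 ?_ ?_
    · intro s t hst
      exact Subtype.ext (Subtype.ext hst)
    · intro s
      obtain ⟨x, hx⟩ := s.2
      have : ((s.1 : ↥N) : G) = (x : G) ^ k := by rw [← hx]; rfl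
      change ((s.1 : ↥N) : G) ∈ Z
      rw [this]
      exact himZ _ x.2
    · intro s
      obtain ⟨x, hx⟩ := s.2
      have : ((s.1 : ↥N) : G) = (x : G) ^ k := by rw [← hx]; rfl
      change ((s.1 : ↥N) : G) ^ j = 1
      rw [this]
      exact him _ x.2
  calc Nat.card N = Nat.card ψ.ker * Nat.card ψ.range := h1.symm
    _ ≤ k * j := Nat.mul_le_mul h2 h3

theorem abstract_main [Finite G] (Z H N : Subgroup G) (hZ : Z ≤ Subgroup.center G) [IsCyclic Z]
    (hnorm : ∀ h ∈ H, ∀ x ∈ N, h * x * h⁻¹ ∈ N) (hNZ : ¬ N ≤ Z)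
    (hmin : ∀ N' : Subgroup G, N' ≤ N → (∀ h ∈ H, ∀ x ∈ N', h * x * h⁻¹ ∈ N') → N' = N ∨ N' ≤ Z)
    (hcomm : ⁅N, N⁆ ≤ Z) (n : ℕ) (hn : 3 ≤ n)
    (hcard : Nat.card N = Nat.card (N ⊓ Z : Subgroup G) * n ^ 2)
    (hnt : ∃ z ∈ N ⊓ Z, z ≠ 1) :
    ∃ r : ℕ, r.Prime ∧ IsPGroup r N ∧
      ((r ≠ 2 ∧ ∀ x ∈ N, x ^ r = 1) ∨ (r = 2 ∧ ∀ x ∈ N, x ^ 4 = 1)) := by
  obtain ⟨r, hr, hB, hc, hp⟩ := isPGroup_aux Z H N hZ hnorm hNZ hmin hcomm
  refine ⟨r, hr, hp, ?_⟩
  set z := Nat.card (N ⊓ Z : Subgroup G) with hz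
  have hz0 : 0 < z := Nat.card_pos
  have hpowz : ∀ y ∈ N ⊓ Z, y ^ z = 1 := by
    intro y hy
    have h3 : ((⟨y, hy⟩ : (N ⊓ Z : Subgroup G)) ^ z : (N ⊓ Z : Subgroup G)) = 1 := pow_card_eq_one'
    have h4 := congrArg Subtype.val h3
    simpa only [Subgroup.coe_pow, Subgroup.coe_one] using h4
  by_cases h2 : r = 2
  · right
    refine ⟨h2, ?_⟩
    subst h2
    rcases powSub_dichotomy Z H N hZ hnorm hmin hcomm ⊥ bot_le 4
      (fun x hx y hy => by
        rw [Subgroup.mem_bot]; exact pow_eq_one_of_dvd (hc x hx y hy) (by decide)) with h | h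
    · intro x hx; simpa using h x hx
    · exfalso
      have hpz : IsPGroup 2 (N ⊓ Z : Subgroup G) := hp.to_le inf_le_left
      obtain ⟨b, hb⟩ := IsPGroup.iff_card.mp hpz
      have hb0 : b ≠ 0 := by
        rintro rfl
        rw [pow_zero, Subgroup.card_eq_one] at hb
        obtain ⟨w, hw, hw1⟩ := hnt
        rw [hb, Subgroup.mem_bot] at hw
        exact hw1 hw
      obtain ⟨b', rfl⟩ := Nat.exists_eq_succ_of_ne_zero hb0
      have hmul : ∀ x ∈ N, ∀ y ∈ N, (x * y) ^ 4 = x ^ 4 * y ^ 4 := by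
        intro x hx y hy
        have hcz := hcomm (Subgroup.commutator_mem_commutator hy hx)
        rw [mul_pow_class2 x y (commute_of_mem_center hZ hcz x) (commute_of_mem_center hZ hcz y) 4,
          pow_eq_one_of_dvd (hc x hx y hy) (by decide : 2 ∣ Nat.choose 4 2), mul_one]
      have hle := card_le_of_pow_hom Z N 4 (by norm_num) hmul
        (fun x hx hx4 => h x hx (by rw [Subgroup.mem_bot]; exact hx4)) (2 ^ b') (by positivity)
        (fun x hx => by
           have : x ^ 4 = (x ^ 2) ^ 2 := by rw [← pow_mul]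
           rw [this]; exact Z.pow_mem (hB x hx) 2)
        (fun x hx => by
           have : (x ^ 4) ^ (2 ^ b') = (x ^ 2) ^ z := by
             rw [hz, hb, ← pow_mul, ← pow_mul, pow_succ]; ring_nf
           rw [this]; exact hpowz _ ⟨N.pow_mem hx 2, hB x hx⟩)
      rw [hcard] at hle
      have hzb : z = 2 ^ (b' + 1) := hb
      rw [hzb, pow_succ] at hle
      have h0 : 0 < 2 ^ b' := by positivity
      have h9 : 9 ≤ n ^ 2 := by nlinarith
      have h10 := Nat.mul_le_mul_left (2 ^ b' * 2) h9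
      omega
  · left
    refine ⟨h2, ?_⟩
    have hr2 : 2 < r := lt_of_le_of_ne hr.two_le (Ne.symm h2)
    have hdvd : r ∣ r.choose 2 := hr.dvd_choose_self (by norm_num) hr2
    rcases powSub_dichotomy Z H N hZ hnorm hmin hcomm ⊥ bot_le r
      (fun x hx y hy => by rw [Subgroup.mem_bot]; exact pow_eq_one_of_dvd (hc x hx y hy) hdvd) with h | h
    · intro x hx; simpa using h x hx
    · exfalso
      have hmul : ∀ x ∈ N, ∀ y ∈ N, (x * y) ^ r = x ^ r * y ^ r := by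
        intro x hx y hy
        have hcz := hcomm (Subgroup.commutator_mem_commutator hy hx)
        rw [mul_pow_class2 x y (commute_of_mem_center hZ hcz x) (commute_of_mem_center hZ hcz y) r,
          pow_eq_one_of_dvd (hc x hx y hy) hdvd, mul_one]
      have hle := card_le_of_pow_hom Z N r hr.pos hmul
        (fun x hx hxr => h x hx (by rw [Subgroup.mem_bot]; exact hxr)) z hz0 hB
        (fun x hx => hpowz _ ⟨N.pow_mem hx r, hB x hx⟩)
      have hn2 : n ^ 2 ≤ r := by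
        rw [hcard] at hle
        have : z * n ^ 2 ≤ z * r := by rw [mul_comm z r]; exact hle
        exact Nat.le_of_mul_le_mul_left this hz0
      have := Fact.mk hr
      obtain ⟨A, hA⟩ := IsPGroup.iff_card.mp hp
      have hdv : n ^ 2 ∣ r ^ A := by rw [← hA, hcard]; exact Dvd.intro_left _ rfl
      obtain ⟨j, hjA, hj⟩ := (Nat.dvd_prime_pow hr).mp hdv
      have hj0 : j ≠ 0 := by
        rintro rfl
        rw [pow_zero] at hj
        nlinarith
      have hrn : r ∣ n := hr.dvd_of_dvd_pow (by rw [hj]; exact dvd_pow_self r hj0)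
      obtain ⟨t, rfl⟩ := hrn
      have : 0 < t := by
        rcases Nat.eq_zero_or_pos t with h0 | h0
        · subst h0; omega
        · exact h0
      nlinarith [hr.two_le]

end Abstract

section Concrete

variable {ι : Type} [Fintype ι] [DecidableEq ι] {F : Type*} [Field F]

lemma scalars_le_center : scalars ι F ≤ Subgroup.center (GL ι F) := by
  intro g hg
  rw [mem_scalars_iff] at hg
  obtain ⟨c, hc⟩ := hg
  rw [Subgroup.mem_center_iff]
  intro h
  apply Units.ext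
  rw [Units.val_mul, Units.val_mul, hc]
  simp

lemma isCyclic_scalars [Finite F] : IsCyclic (scalars ι F) := by
  unfold scalars
  exact isCyclic_of_surjective
    (Units.map (Matrix.scalar ι : F →+* Matrix ι ι F).toMonoidHom).rangeRestrict
    (MonoidHom.rangeRestrict_surjective _)

/-- PKN1: in the class-2 case the minimal subgroup is an `r`-group of exponent `r` (or dividing 4) -/
theorem PKN1 [Finite F] [Nonempty ι] (H N : Subgroup (GL ι F)) (hnorm : NormalizesGrp H N)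
    (hNZ : ¬ N ≤ scalars ι F)
    (hmin : ∀ N' : Subgroup (GL ι F), N' ≤ N → NormalizesGrp H N' → N' = N ∨ N' ≤ scalars ι F)
    (hspan : spanAlg N = ⊤) (hcomm : ⁅N, N⁆ ≤ scalars ι F) (hcard : 3 ≤ Fintype.card ι) :
    ∃ r : ℕ, r.Prime ∧ IsPGroup r N ∧
      ((r ≠ 2 ∧ ∀ x ∈ N, x ^ r = 1) ∨ (r = 2 ∧ ∀ x ∈ N, x ^ 4 = 1)) := by
  have : IsCyclic (scalars ι F) := isCyclic_scalars
  refine abstract_main (scalars ι F) H N scalars_le_center hnorm hNZ hmin hcomm (Fintype.card ι) hcard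
    (Helper52_Asch_PK7.PK7 N hspan hcomm) ?_
  by_contra hno
  push Not at hno
  apply hNZ
  intro z hz
  apply Helper52_Asch_PK7.mem_scalars_of_commute N hspan z
  intro y hy
  have h1 : ⁅y, z⁆ = 1 := hno _ ⟨by
    rw [commutatorElement_def]
    exact N.mul_mem (N.mul_mem (N.mul_mem hy hz) (N.inv_mem hy)) (N.inv_mem hz),
    hcomm (Subgroup.commutator_mem_commutator hy hz)⟩
  rw [commutatorElement_eq_one_iff_commute] at h1
  have h2 := congrArg (fun g : GL ι F => (g : Matrix ι ι F)) h1.eq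
  simpa only [Units.val_mul] using h2

end Concrete

end Cfsg.Agent.Lib.Helper27_Asch_PKN1
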