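import Mathlib
import Cfsg.Agent.Lib.Helper98_AschDefs

/-!
# S5630 package PK5 (helper35 for helper98)

A normalized field of matrices with a non-scalar element gives a member of class 3.
-/

set_option autoImplicit false

namespace Cfsg.Agent.Lib.Helper35_Asch_PK5

open Cfsg Cfsg.Geo Matrix Cfsg.Agent.Lib.Helper98_AschDefs

/-- a finite field extension of degree `≠ 1` has an intermediate field of prime degree over the base,
stable under all automorphisms -/
theorem exists_prime_degree_subfield {F L : Type*} [Field F] [Field L] [Finite L] [Algebra F L]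
    (hd : Module.finrank F L ≠ 1) :
    ∃ (r : ℕ) (E : IntermediateField F L), r.Prime ∧ Module.finrank F E = r ∧
      ∀ φ : L ≃ₐ[F] L, ∀ x ∈ E, φ x ∈ E := by
  classical
  have hcard : Nat.card Gal(L/F) = Module.finrank F L := IsGalois.card_aut_eq_finrank F L
  have hpos : 0 < Module.finrank F L := Module.finrank_pos
  obtain ⟨r, hr, hdvd⟩ := Nat.exists_prime_and_dvd hd
  obtain ⟨g, hg⟩ := IsCyclic.exists_generator (α := Gal(L/F))
  have hog : orderOf g = Module.finrank F L := by
    rw [orderOf_eq_card_of_forall_mem_zpowers hg, hcard]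
  set S : Subgroup Gal(L/F) := Subgroup.zpowers (g ^ r) with hSdef
  have hS : Nat.card S = Module.finrank F L / r := by
    rw [hSdef, Nat.card_zpowers, orderOf_pow, hog, Nat.gcd_eq_right hdvd]
  refine ⟨r, IntermediateField.fixedField S, hr, ?_, ?_⟩
  · have h1 : Module.finrank (IntermediateField.fixedField S) L = Nat.card S :=
      IntermediateField.finrank_fixedField_eq_card S
    have h2 := Module.finrank_mul_finrank F (IntermediateField.fixedField S) L
    rw [h1, hS] at h2
    obtain ⟨m, hm⟩ := hdvd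
    rw [hm, Nat.mul_div_cancel_left m hr.pos] at h2
    have hm0 : 0 < m := by
      rcases Nat.eq_zero_or_pos m with h0 | h0
      · rw [h0, mul_zero] at hm; omega
      · exact h0
    exact Nat.eq_of_mul_eq_mul_right hm0 h2
  · intro φ x hx
    rw [IntermediateField.mem_fixedField_iff] at hx ⊢
    intro τ hτ
    have hcomm : τ * φ = φ * τ := by
      let _ := IsCyclic.commGroup (α := Gal(L/F))
      exact mul_comm τ φ
    calc τ (φ x) = (τ * φ) x := rfl
      _ = (φ * τ) x := by rw [hcomm]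
      _ = φ (τ x) := rfl
      _ = φ x := by rw [hx τ hτ]

variable {ι : Type} [Fintype ι] [DecidableEq ι] {F : Type*} [Field F]

/-- conjugation by `h` as an algebra automorphism of a subalgebra normalized by `h` and `h⁻¹` -/
noncomputable def conjAlgEquiv (K : Subalgebra F (Matrix ι ι F)) (h : GL ι F)
    (h1 : ∀ a ∈ K, (h : Matrix ι ι F) * a * ((h⁻¹ : GL ι F) : Matrix ι ι F) ∈ K)
    (h2 : ∀ a ∈ K, ((h⁻¹ : GL ι F) : Matrix ι ι F) * a * (h : Matrix ι ι F) ∈ K) : K ≃ₐ[F] K where
  toFun x := ⟨(h : Matrix ι ι F) * x * ((h⁻¹ : GL ι F) : Matrix ι ι F), h1 x x.2⟩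
  invFun x := ⟨((h⁻¹ : GL ι F) : Matrix ι ι F) * x * (h : Matrix ι ι F), h2 x x.2⟩
  left_inv x := by
    apply Subtype.ext
    simp [mul_assoc]
  right_inv x := by
    apply Subtype.ext
    simp [mul_assoc]
  map_mul' x y := by
    apply Subtype.ext
    simp [mul_assoc]
  map_add' x y := by
    apply Subtype.ext
    simp [mul_add, add_mul]
  commutes' c := by
    apply Subtype.ext
    simp [Algebra.algebraMap_eq_smul_one]

/-- PK5 -/
theorem PK5 [Fintype F] (n : ℕ) (H : Subgroup (GL (Fin n) F)) (K : Subalgebra F (Matrix (Fin n) (Fin n) F))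
    (hcomm : ∀ x ∈ K, ∀ y ∈ K, x * y = y * x)
    (hinv : ∀ x ∈ K, x ≠ 0 → ∃ y ∈ K, x * y = 1)
    (hne : ∃ z ∈ K, ∀ c : F, z ≠ c • (1 : Matrix (Fin n) (Fin n) F))
    (hnorm : NormalizesAlg H K) :
    ∃ (r : ℕ) (K' : Subalgebra F (Matrix (Fin n) (Fin n) F)), r.Prime ∧ IsFieldSubalgebra r K' ∧
      H ≤ subalgebraNormalizer K' := by
  classical
  obtain ⟨z, hzK, hz⟩ := hne
  have hnt : Nontrivial (Matrix (Fin n) (Fin n) F) := by
    by_contra hcon
    rw [not_nontrivial_iff_subsingleton] at hcon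
    exact hz 0 (Subsingleton.elim _ _)
  have hK : IsField K :=
    { exists_pair_ne := ⟨0, 1, fun h => zero_ne_one (α := Matrix (Fin n) (Fin n) F) (congrArg Subtype.val h)⟩
      mul_comm := fun x y => Subtype.ext (hcomm x x.2 y y.2)
      mul_inv_cancel := fun {a} ha => by
        obtain ⟨y, hy, hxy⟩ := hinv a a.2 (fun h => ha (Subtype.ext h))
        exact ⟨⟨y, hy⟩, Subtype.ext hxy⟩ }
  let _ : Field K := hK.toField
  have hd : Module.finrank F K ≠ 1 := by
    intro h1
    obtain ⟨c, hc⟩ := (finrank_eq_one_iff_of_nonzero' (1 : K) one_ne_zero).1 h1 ⟨z, hzK⟩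
    apply hz c
    have := congrArg Subtype.val hc
    simpa using this.symm
  obtain ⟨r, E, hr, hfr, hE⟩ := exists_prime_degree_subfield (F := F) (L := K) hd
  set K' : Subalgebra F (Matrix (Fin n) (Fin n) F) := E.toSubalgebra.map K.val with hK'
  have hmem : ∀ x, x ∈ K' ↔ ∃ e : K, e ∈ E ∧ (e : Matrix (Fin n) (Fin n) F) = x := by
    intro x
    rw [hK', Subalgebra.mem_map]
    rfl
  have hK'K : ∀ x ∈ K', x ∈ K := by
    intro x hx
    obtain ⟨e, _, rfl⟩ := (hmem x).1 hx
    exact e.2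
  refine ⟨r, K', hr, ⟨?_, ?_, ?_⟩, ?_⟩
  · intro x hx y hy
    exact hcomm x (hK'K x hx) y (hK'K y hy)
  · intro x hx hx0
    obtain ⟨e, he, rfl⟩ := (hmem x).1 hx
    have he0 : e ≠ 0 := by
      intro h0; apply hx0; rw [h0]; rfl
    refine ⟨((e⁻¹ : K) : Matrix (Fin n) (Fin n) F), (hmem _).2 ⟨e⁻¹, E.inv_mem he, rfl⟩, ?_⟩
    have := mul_inv_cancel₀ he0
    exact congrArg Subtype.val this
  · rw [← hfr]
    have hinj : Function.Injective (K.val : K →ₐ[F] Matrix (Fin n) (Fin n) F) := Subtype.val_injective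
    exact (LinearEquiv.finrank_eq (E.toSubalgebra.equivMapOfInjective K.val hinj).toLinearEquiv).symm
  · -- H normalizes K'
    have key : ∀ h ∈ H, ∀ k ∈ K', (h : Matrix (Fin n) (Fin n) F) * k *
        ((h⁻¹ : GL (Fin n) F) : Matrix (Fin n) (Fin n) F) ∈ K' := by
      intro h hh k hk
      obtain ⟨e, he, rfl⟩ := (hmem k).1 hk
      have h1 : ∀ a ∈ K, (h : Matrix (Fin n) (Fin n) F) * a *
          ((h⁻¹ : GL (Fin n) F) : Matrix (Fin n) (Fin n) F) ∈ K := hnorm h hh
      have h2 : ∀ a ∈ K, ((h⁻¹ : GL (Fin n) F) : Matrix (Fin n) (Fin n) F) * a *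
          (h : Matrix (Fin n) (Fin n) F) ∈ K := by
        intro a ha
        have := hnorm h⁻¹ (H.inv_mem hh) a ha
        rwa [inv_inv] at this
      exact (hmem _).2 ⟨conjAlgEquiv K h h1 h2 e, hE (conjAlgEquiv K h h1 h2) e he, rfl⟩
    intro h hh k
    constructor
    · exact key h hh k
    · intro hk
      have := key h⁻¹ (H.inv_mem hh) _ hk
      rw [inv_inv] at this
      have h3 : ((h⁻¹ : GL (Fin n) F) : Matrix (Fin n) (Fin n) F) *
          ((h : Matrix (Fin n) (Fin n) F) * k * ((h⁻¹ : GL (Fin n) F) : Matrix (Fin n) (Fin n) F)) *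
          (h : Matrix (Fin n) (Fin n) F) = k := by
        simp [mul_assoc]
      rwa [h3] at this

end Cfsg.Agent.Lib.Helper35_Asch_PK5
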