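import Mathlib
import Cfsg.Agent.Lib.Helper98_AschDefs
import Cfsg.Agent.Lib.Helper52_Asch_PK7

/-!
# PK12 of the S5630 packages (helper98): descent of a class-2 spanning group to a subfield
containing its scalars (helper49).
-/

set_option autoImplicit false
set_option linter.unusedSectionVars false
set_option linter.style.haveILetI false

namespace Cfsg.Agent.Lib.Helper49_Asch_PK12

section density

variable {K : Type*} [Field K] {M : Type*} [AddCommGroup M] [Module K M]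

/-- the subalgebra generated by a submonoid of endomorphisms -/
abbrev alg (S : Submonoid (Module.End K M)) : Subalgebra K (Module.End K M) :=
  Algebra.adjoin K (S : Set (Module.End K M))

theorem alg_smul (S : Submonoid (Module.End K M)) (a : alg S) (m : M) :
    a • m = (a : Module.End K M) m := rfl

/-- an endomorphism commuting with `S` commutes with the algebra it generates -/
theorem commute_alg (S : Submonoid (Module.End K M)) (δ : Module.End K M)
    (hδ : ∀ s ∈ S, δ * s = s * δ) (a : Module.End K M) (ha : a ∈ alg S) : δ * a = a * δ := by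
  induction ha using Algebra.adjoin_induction with
  | mem x hx => exact hδ x hx
  | algebraMap c =>
    ext m
    simp [Module.algebraMap_end_apply]
  | add x y _ _ hx hy => rw [mul_add, add_mul, hx, hy]
  | mul x y _ _ hx hy => rw [← mul_assoc, hx, mul_assoc, hy, mul_assoc]

variable [Finite M] [Nontrivial M]

theorem simple_alg (S : Submonoid (Module.End K M))
    (hirr : ∀ W : Submodule K M, (∀ s ∈ S, ∀ w ∈ W, s w ∈ W) → W = ⊥ ∨ W = ⊤) :
    IsSimpleModule (alg S) M := by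
  rw [isSimpleModule_iff_toSpanSingleton_surjective]
  refine ⟨inferInstance, fun x hx => ?_⟩
  -- the subspace `alg S • x`
  let W : Submodule K M :=
    { carrier := {y | ∃ a : alg S, a • x = y}
      add_mem' := by
        rintro _ _ ⟨a, rfl⟩ ⟨b, rfl⟩
        exact ⟨a + b, add_smul a b x⟩
      zero_mem' := ⟨0, zero_smul _ x⟩
      smul_mem' := by
        rintro c _ ⟨a, rfl⟩
        refine ⟨c • a, ?_⟩
        rw [alg_smul, alg_smul]
        simp }
  have hW : ∀ s ∈ S, ∀ w ∈ W, s w ∈ W := by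
    rintro s hs _ ⟨a, rfl⟩
    refine ⟨⟨s, Algebra.subset_adjoin hs⟩ * a, ?_⟩
    rw [alg_smul, alg_smul]
    rfl
  have hxW : x ∈ W := ⟨1, one_smul _ x⟩
  rcases hirr W hW with h | h
  · rw [h, Submodule.mem_bot] at hxW
    exact absurd hxW hx
  · intro y
    have hy : y ∈ W := by rw [h]; trivial
    obtain ⟨a, ha⟩ := hy
    exact ⟨a, by simpa using ha⟩

theorem finite_end (S : Submonoid (Module.End K M)) : Finite (Module.End (alg S) M) :=
  Finite.of_injective (fun f : Module.End (alg S) M => (f : M → M)) DFunLike.coe_injective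

theorem end_comm (S : Submonoid (Module.End K M))
    (hirr : ∀ W : Submodule K M, (∀ s ∈ S, ∀ w ∈ W, s w ∈ W) → W = ⊥ ∨ W = ⊤)
    (a b : Module.End (alg S) M) : a * b = b * a := by
  classical
  haveI := simple_alg S hirr
  haveI := finite_end S
  letI : DivisionRing (Module.End (alg S) M) := Module.End.instDivisionRing
  exact (littleWedderburn (Module.End (alg S) M)).mul_comm a b

/-- an endomorphism commuting with `S`, as an endomorphism over the generated algebra -/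
def toEndAlg (S : Submonoid (Module.End K M)) (δ : Module.End K M)
    (hδ : ∀ s ∈ S, δ * s = s * δ) : Module.End (alg S) M where
  toFun := δ
  map_add' := δ.map_add
  map_smul' := fun a m => by
    show δ (a • m) = a • δ m
    rw [alg_smul, alg_smul]
    exact congrArg (fun f : Module.End K M => f m) (commute_alg S δ hδ a a.2)

/-- an endomorphism over the generated algebra, as a `K`-endomorphism -/
def ofEndAlg (S : Submonoid (Module.End K M)) (d : Module.End (alg S) M) : Module.End K M where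
  toFun := d
  map_add' := d.map_add
  map_smul' := fun c m => by
    have h : c • m = (algebraMap K (alg S) c) • m := by
      rw [alg_smul]
      simp [Module.algebraMap_end_apply]
    show d (c • m) = c • d m
    rw [h, d.map_smul, alg_smul]
    simp [Module.algebraMap_end_apply]

theorem ofEndAlg_commute (S : Submonoid (Module.End K M)) (d : Module.End (alg S) M) :
    ∀ s ∈ S, ofEndAlg S d * s = s * ofEndAlg S d := by
  intro s hs
  ext m
  show d (s m) = s (d m)
  have := d.map_smul (⟨s, Algebra.subset_adjoin hs⟩ : alg S) m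
  simpa [alg_smul] using this

/-- the commutant of an irreducible submonoid lies in the algebra it generates (finite case) -/
theorem mem_alg_of_commute (S : Submonoid (Module.End K M))
    (hirr : ∀ W : Submodule K M, (∀ s ∈ S, ∀ w ∈ W, s w ∈ W) → W = ⊥ ∨ W = ⊤)
    (δ : Module.End K M) (hδ : ∀ s ∈ S, δ * s = s * δ) : δ ∈ alg S := by
  classical
  haveI := simple_alg S hirr
  haveI : Fintype M := Fintype.ofFinite M
  let f : Module.End (Module.End (alg S) M) M :=
    { toFun := δ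
      map_add' := δ.map_add
      map_smul' := fun d m => by
        show δ (d m) = d (δ m)
        have h := end_comm S hirr (toEndAlg S δ hδ) d
        exact congrArg (fun g : Module.End (alg S) M => g m) h }
  obtain ⟨r, hr⟩ := jacobson_density f Finset.univ
  have : δ = (r : Module.End K M) := by
    ext m
    exact hr m (Finset.mem_univ m)
  rw [this]
  exact r.2

/-- Burnside: an irreducible submonoid with scalar commutant generates everything (finite case) -/
theorem alg_eq_top (S : Submonoid (Module.End K M))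
    (hirr : ∀ W : Submodule K M, (∀ s ∈ S, ∀ w ∈ W, s w ∈ W) → W = ⊥ ∨ W = ⊤)
    (hcent : ∀ δ : Module.End K M, (∀ s ∈ S, δ * s = s * δ) → ∃ c : K, δ = c • 1) :
    alg S = ⊤ := by
  classical
  haveI := simple_alg S hirr
  haveI : Fintype M := Fintype.ofFinite M
  rw [eq_top_iff]
  intro φ _
  let f : Module.End (Module.End (alg S) M) M :=
    { toFun := φ
      map_add' := φ.map_add
      map_smul' := fun d m => by
        show φ (d m) = d (φ m)
        obtain ⟨c, hc⟩ := hcent (ofEndAlg S d) (ofEndAlg_commute S d)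
        have h1 : ∀ v, d v = c • v := fun v => by
          have h2 : ofEndAlg S d v = (c • (1 : Module.End K M)) v :=
            congrArg (fun g : Module.End K M => g v) hc
          rw [LinearMap.smul_apply, Module.End.one_apply] at h2
          exact h2
        rw [h1, h1, map_smul] }
  obtain ⟨r, hr⟩ := jacobson_density f Finset.univ
  have : φ = (r : Module.End K M) := by
    ext m
    exact hr m (Finset.mem_univ m)
  rw [this]
  exact r.2

end density

section main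

open Cfsg Cfsg.Geo Matrix Cfsg.Agent.Lib.Helper98_AschDefs

variable {ι : Type} [Fintype ι] [DecidableEq ι] {F : Type*} [Field F]

/-- a property of matrices closed under linear combinations and holding on `R` holds everywhere -/
theorem matrix_induction (R : Subgroup (GL ι F)) (hspan : spanAlg R = ⊤) (P : Matrix ι ι F → Prop)
    (h0 : P 0) (hadd : ∀ a b, P a → P b → P (a + b)) (hsmul : ∀ (c : F) a, P a → P (c • a))
    (hR : ∀ g ∈ R, P (g : Matrix ι ι F)) (M : Matrix ι ι F) : P M := by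
  have hM : M ∈ Submodule.span F (matrixSet R) := by
    rw [← mem_spanAlg_iff, hspan]; trivial
  induction hM using Submodule.span_induction with
  | mem x hx =>
    obtain ⟨g, hg, rfl⟩ := hx
    exact hR g hg
  | zero => exact h0
  | add x y _ _ hx hy => exact hadd x y hx hy
  | smul c x _ hx => exact hsmul c x hx

/-- `R` acts irreducibly -/
theorem eq_top_of_invariant (R : Subgroup (GL ι F)) (hspan : spanAlg R = ⊤)
    (W : Submodule F (ι → F)) (hW : ∀ g ∈ R, ∀ w ∈ W, (g : Matrix ι ι F) *ᵥ w ∈ W) (hne : W ≠ ⊥) :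
    W = ⊤ := by
  have hall : ∀ M : Matrix ι ι F, ∀ w ∈ W, M *ᵥ w ∈ W := by
    intro M
    refine matrix_induction R hspan (fun M => ∀ w ∈ W, M *ᵥ w ∈ W) ?_ ?_ ?_ hW M
    · intro w _
      rw [Matrix.zero_mulVec]
      exact W.zero_mem
    · intro a b ha hb w hw
      rw [Matrix.add_mulVec]
      exact W.add_mem (ha w hw) (hb w hw)
    · intro c a ha w hw
      rw [Matrix.smul_mulVec]
      exact W.smul_mem c (ha w hw)
  obtain ⟨w, hw, hw0⟩ := (Submodule.ne_bot_iff W).1 hne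
  have : ∃ k, w k ≠ 0 := by
    by_contra h
    push Not at h
    exact hw0 (funext h)
  obtain ⟨k, hk⟩ := this
  rw [eq_top_iff]
  intro v _
  have h1 := hall (Matrix.vecMulVec v (Pi.single k (w k)⁻¹)) w hw
  rw [Matrix.vecMulVec_mulVec] at h1
  have h2 : (Pi.single k (w k)⁻¹ : ι → F) ⬝ᵥ w = 1 := by
    rw [single_dotProduct, inv_mul_cancel₀ hk]
  rw [h2] at h1
  simpa using h1

/-- the commutant of `R` is scalar -/
theorem scalar_of_commute (R : Subgroup (GL ι F)) (hspan : spanAlg R = ⊤) (a : Matrix ι ι F)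
    (ha : ∀ g ∈ R, a * (g : Matrix ι ι F) = (g : Matrix ι ι F) * a) : ∃ c : F, a = c • 1 := by
  have hall : ∀ M : Matrix ι ι F, a * M = M * a := by
    intro M
    refine matrix_induction R hspan (fun M => a * M = M * a) ?_ ?_ ?_ ha M
    · simp
    · intro x y hx hy
      rw [mul_add, add_mul, hx, hy]
    · intro c x hx
      rw [Matrix.mul_smul, Matrix.smul_mul, hx]
  have := Matrix.mem_range_scalar_iff_commute_single'.2 (fun i j => (hall (Matrix.single i j 1)).symm)
  obtain ⟨c, hc⟩ := this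
  refine ⟨c, ?_⟩
  rw [← hc, Matrix.smul_one_eq_diagonal]
  rfl

/-- invariance of an `F₀`-subspace under `R` -/
def Inv (R : Subgroup (GL ι F)) (F₀ : Subfield F) (W : Submodule ↥F₀ (ι → F)) : Prop :=
  ∀ g ∈ R, ∀ w ∈ W, (g : Matrix ι ι F) *ᵥ w ∈ W

theorem exists_min [Finite F] [Nonempty ι] (R : Subgroup (GL ι F)) (F₀ : Subfield F) :
    ∃ V₀ : Submodule ↥F₀ (ι → F), V₀ ≠ ⊥ ∧ Inv R F₀ V₀ ∧
      ∀ W : Submodule ↥F₀ (ι → F), W ≠ ⊥ → Inv R F₀ W → W ≤ V₀ → W = V₀ := by
  have hne : ({W : Submodule ↥F₀ (ι → F) | W ≠ ⊥ ∧ Inv R F₀ W}).Nonempty := by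
    refine ⟨⊤, ?_, fun g _ w _ => Submodule.mem_top⟩
    exact top_ne_bot
  obtain ⟨V₀, ⟨h1, h2⟩, hmin⟩ := wellFounded_lt.has_min _ hne
  refine ⟨V₀, h1, h2, fun W hW1 hW2 hle => ?_⟩
  by_contra hne'
  exact hmin W ⟨hW1, hW2⟩ (lt_of_le_of_ne hle hne')

/-- the action of `R` on an invariant `F₀`-subspace -/
def rho (R : Subgroup (GL ι F)) (F₀ : Subfield F) (V₀ : Submodule ↥F₀ (ι → F))
    (hV₀ : Inv R F₀ V₀) : ↥R →* Module.End ↥F₀ ↥V₀ where
  toFun g := ((Matrix.toLin' ((g : GL ι F) : Matrix ι ι F)).restrictScalars ↥F₀).restrict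
    (p := V₀) (q := V₀) (fun w hw => hV₀ g g.2 w hw)
  map_one' := by
    ext w
    simp
  map_mul' := by
    intro g h
    ext w
    show ((((g * h : ↥R) : GL ι F) : Matrix ι ι F) *ᵥ (w : ι → F)) _ =
      (((g : GL ι F) : Matrix ι ι F) *ᵥ (((h : GL ι F) : Matrix ι ι F) *ᵥ (w : ι → F))) _
    rw [Matrix.mulVec_mulVec]
    rfl

theorem rho_apply (R : Subgroup (GL ι F)) (F₀ : Subfield F) (V₀ : Submodule ↥F₀ (ι → F))
    (hV₀ : Inv R F₀ V₀) (g : ↥R) (w : ↥V₀) :
    ((rho R F₀ V₀ hV₀ g w : ↥V₀) : ι → F) = ((g : GL ι F) : Matrix ι ι F) *ᵥ (w : ι → F) := rfl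

/-- minimality gives irreducibility of the image of `R` -/
theorem irr_mrange (R : Subgroup (GL ι F)) (F₀ : Subfield F) (V₀ : Submodule ↥F₀ (ι → F))
    (hV₀ : Inv R F₀ V₀)
    (hmin : ∀ W : Submodule ↥F₀ (ι → F), W ≠ ⊥ → Inv R F₀ W → W ≤ V₀ → W = V₀)
    (W : Submodule ↥F₀ ↥V₀)
    (hW : ∀ s ∈ MonoidHom.mrange (rho R F₀ V₀ hV₀), ∀ w ∈ W, s w ∈ W) : W = ⊥ ∨ W = ⊤ := by
  by_cases hb : W = ⊥
  · exact Or.inl hb
  right
  have h1 : W.map V₀.subtype ≠ ⊥ := by
    intro h
    apply hb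
    rw [eq_bot_iff]
    intro w hw
    have h5 : (w : ι → F) ∈ W.map V₀.subtype := ⟨w, hw, rfl⟩
    rw [h, Submodule.mem_bot] at h5
    rw [Submodule.mem_bot]
    exact Subtype.ext h5
  have h2 : Inv R F₀ (W.map V₀.subtype) := by
    rintro g hg _ ⟨w, hw, rfl⟩
    refine ⟨rho R F₀ V₀ hV₀ ⟨g, hg⟩ w, hW _ ⟨⟨g, hg⟩, rfl⟩ w hw, ?_⟩
    rfl
  have h3 : W.map V₀.subtype ≤ V₀ := by
    rintro _ ⟨w, _, rfl⟩
    exact w.2
  have h4 := hmin _ h1 h2 h3
  rw [eq_top_iff]
  intro v _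
  have hv : (v : ι → F) ∈ W.map V₀.subtype := by rw [h4]; exact v.2
  obtain ⟨w, hw, hwv⟩ := hv
  have : w = v := Subtype.ext hwv
  rwa [← this]

/-- the `F`-span of a nonzero invariant `F₀`-subspace is everything -/
theorem span_eq_top (R : Subgroup (GL ι F)) (hspan : spanAlg R = ⊤) (F₀ : Subfield F)
    (V₀ : Submodule ↥F₀ (ι → F)) (hV₀ : Inv R F₀ V₀) (hne : V₀ ≠ ⊥) :
    Submodule.span F (V₀ : Set (ι → F)) = ⊤ := by
  apply eq_top_of_invariant R hspan
  · intro g hg w hw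
    induction hw using Submodule.span_induction with
    | mem x hx => exact Submodule.subset_span (hV₀ g hg x hx)
    | zero => rw [Matrix.mulVec_zero]; exact Submodule.zero_mem _
    | add x y _ _ hx hy => rw [Matrix.mulVec_add]; exact Submodule.add_mem _ hx hy
    | smul c x _ hx => rw [Matrix.mulVec_smul]; exact Submodule.smul_mem _ c hx
  · obtain ⟨w, hw, hw0⟩ := (Submodule.ne_bot_iff V₀).1 hne
    intro h
    have : w ∈ Submodule.span F (V₀ : Set (ι → F)) := Submodule.subset_span hw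
    rw [h, Submodule.mem_bot] at this
    exact hw0 this

/-- a matrix killing `V₀` is zero -/
theorem eq_zero_of_kill (R : Subgroup (GL ι F)) (hspan : spanAlg R = ⊤) (F₀ : Subfield F)
    (V₀ : Submodule ↥F₀ (ι → F)) (hV₀ : Inv R F₀ V₀) (hne : V₀ ≠ ⊥) (A : Matrix ι ι F)
    (hA : ∀ v ∈ V₀, A *ᵥ v = 0) : A = 0 := by
  have h1 : Submodule.span F (V₀ : Set (ι → F)) ≤ LinearMap.ker (Matrix.toLin' A) := by
    rw [Submodule.span_le]
    intro v hv
    rw [SetLike.mem_coe, LinearMap.mem_ker, Matrix.toLin'_apply]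
    exact hA v hv
  rw [span_eq_top R hspan F₀ V₀ hV₀ hne, top_le_iff, LinearMap.ker_eq_top] at h1
  exact Matrix.toLin'.injective (by rw [h1, map_zero])

/-- the index set: cosets of the scalars in `R` -/
abbrev Idx (R : Subgroup (GL ι F)) : Type _ := ↥R ⧸ (scalars ι F).subgroupOf R

/-- coset representatives -/
noncomputable def rep (R : Subgroup (GL ι F)) (i : Idx R) : ↥R := Quotient.out i

theorem rep_ne (R : Subgroup (GL ι F)) (i j : Idx R) (hij : i ≠ j) :
    ((rep R i : ↥R) : GL ι F)⁻¹ * ((rep R j : ↥R) : GL ι F) ∉ scalars ι F := by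
  intro h
  apply hij
  have h1 : (rep R i)⁻¹ * rep R j ∈ (scalars ι F).subgroupOf R := by
    rw [Subgroup.mem_subgroupOf]
    simpa using h
  have h2 := (QuotientGroup.eq (s := (scalars ι F).subgroupOf R)).2 h1
  unfold rep at h2
  rwa [QuotientGroup.out_eq', QuotientGroup.out_eq'] at h2

theorem exists_coef (R : Subgroup (GL ι F)) (F₀ : Subfield F)
    (hz : ∀ z ∈ R, ∀ c : F, (z : Matrix ι ι F) = c • (1 : Matrix ι ι F) → c ∈ F₀) (g : ↥R) :
    ∃ c : ↥F₀, ((g : GL ι F) : Matrix ι ι F) =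
      (c : F) • (((rep R (QuotientGroup.mk g) : ↥R) : GL ι F) : Matrix ι ι F) := by
  set r := rep R (QuotientGroup.mk g) with hr
  have h1 : (QuotientGroup.mk r : Idx R) = QuotientGroup.mk g := by
    rw [hr]; unfold rep; exact QuotientGroup.out_eq' _
  have h2 := (QuotientGroup.eq (s := (scalars ι F).subgroupOf R)).1 h1
  rw [Subgroup.mem_subgroupOf, mem_scalars_iff] at h2
  obtain ⟨c, hc⟩ := h2
  have hc0 : (c : F) ∈ F₀ := hz _ (r⁻¹ * g).2 c hc
  refine ⟨⟨c, hc0⟩, ?_⟩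
  have h3 : ((g : GL ι F) : Matrix ι ι F) =
      ((r : GL ι F) : Matrix ι ι F) * (((r⁻¹ * g : ↥R) : GL ι F) : Matrix ι ι F) := by
    rw [← Units.val_mul]
    congr 1
    simp
  rw [h3, hc, Matrix.mul_smul, Matrix.mul_one]

/-- the image of `R` lies in the `F₀`-span of the images of the coset representatives -/
theorem rho_mem_span (R : Subgroup (GL ι F)) (F₀ : Subfield F)
    (hz : ∀ z ∈ R, ∀ c : F, (z : Matrix ι ι F) = c • (1 : Matrix ι ι F) → c ∈ F₀)
    (V₀ : Submodule ↥F₀ (ι → F)) (hV₀ : Inv R F₀ V₀) (g : ↥R) :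
    rho R F₀ V₀ hV₀ g ∈
      Submodule.span ↥F₀ (Set.range (fun i : Idx R => rho R F₀ V₀ hV₀ (rep R i))) := by
  obtain ⟨c, hc⟩ := exists_coef R F₀ hz g
  have : rho R F₀ V₀ hV₀ g = c • rho R F₀ V₀ hV₀ (rep R (QuotientGroup.mk g)) := by
    ext w
    rw [rho_apply, hc, Matrix.smul_mulVec]
    rfl
  rw [this]
  exact Submodule.smul_mem _ c (Submodule.subset_span ⟨_, rfl⟩)

theorem alg_le_span (R : Subgroup (GL ι F)) (F₀ : Subfield F)
    (hz : ∀ z ∈ R, ∀ c : F, (z : Matrix ι ι F) = c • (1 : Matrix ι ι F) → c ∈ F₀)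
    (V₀ : Submodule ↥F₀ (ι → F)) (hV₀ : Inv R F₀ V₀) (a : Module.End ↥F₀ ↥V₀)
    (ha : a ∈ alg (MonoidHom.mrange (rho R F₀ V₀ hV₀))) :
    a ∈ Submodule.span ↥F₀ (Set.range (fun i : Idx R => rho R F₀ V₀ hV₀ (rep R i))) := by
  have h1 : a ∈ Submodule.span ↥F₀
      ((MonoidHom.mrange (rho R F₀ V₀ hV₀) : Submonoid (Module.End ↥F₀ ↥V₀)) :
        Set (Module.End ↥F₀ ↥V₀)) := by
    have := ha
    unfold alg at this
    rw [← Subalgebra.mem_toSubmodule, Algebra.adjoin_eq_span, Submonoid.closure_eq] at this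
    exact this
  refine (Submodule.span_le.2 ?_) h1
  rintro _ ⟨g, rfl⟩
  exact rho_mem_span R F₀ hz V₀ hV₀ g

instance finite_idx [Finite F] (R : Subgroup (GL ι F)) : Finite (Idx R) := by
  haveI : Finite (GL ι F) := Finite.of_injective (fun g : GL ι F => ((g : Matrix ι ι F)))
    Units.val_injective
  infer_instance

/-- the matrix `∑ cᵢ xᵢ` -/
noncomputable def lift (R : Subgroup (GL ι F)) [Fintype (Idx R)] (F₀ : Subfield F)
    (c : Idx R → ↥F₀) : Matrix ι ι F :=
  ∑ i, ((c i : ↥F₀) : F) • (((rep R i : ↥R) : GL ι F) : Matrix ι ι F)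

theorem lift_mulVec (R : Subgroup (GL ι F)) [Fintype (Idx R)] (F₀ : Subfield F)
    (V₀ : Submodule ↥F₀ (ι → F)) (hV₀ : Inv R F₀ V₀) (c : Idx R → ↥F₀) (v : ↥V₀) :
    lift R F₀ c *ᵥ (v : ι → F) =
      (((∑ i, c i • rho R F₀ V₀ hV₀ (rep R i) : Module.End ↥F₀ ↥V₀) v : ↥V₀) : ι → F) := by
  unfold lift
  rw [Matrix.sum_mulVec, LinearMap.sum_apply, Submodule.coe_sum]
  refine Finset.sum_congr rfl (fun i _ => ?_)
  rw [Matrix.smul_mulVec, LinearMap.smul_apply, Submodule.coe_smul, rho_apply]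
  rfl

/-- the commutant of `R` on a minimal invariant `F₀`-subspace consists of `F₀`-scalars -/
theorem cent_scalar [Finite F] [Nonempty ι] (R : Subgroup (GL ι F)) (hspan : spanAlg R = ⊤)
    (F₀ : Subfield F)
    (hz : ∀ z ∈ R, ∀ c : F, (z : Matrix ι ι F) = c • (1 : Matrix ι ι F) → c ∈ F₀)
    (V₀ : Submodule ↥F₀ (ι → F)) (hV₀ : Inv R F₀ V₀) (hne : V₀ ≠ ⊥)
    (hmin : ∀ W : Submodule ↥F₀ (ι → F), W ≠ ⊥ → Inv R F₀ W → W ≤ V₀ → W = V₀)
    (hind : LinearIndependent F (fun i : Idx R => (((rep R i : ↥R) : GL ι F) : Matrix ι ι F)))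
    (δ : Module.End ↥F₀ ↥V₀)
    (hδ : ∀ s ∈ MonoidHom.mrange (rho R F₀ V₀ hV₀), δ * s = s * δ) :
    ∃ c : ↥F₀, δ = c • 1 := by
  classical
  haveI : Fintype (Idx R) := Fintype.ofFinite _
  haveI : Nontrivial ↥V₀ := (Submodule.nontrivial_iff_ne_bot).2 hne
  have hmem := mem_alg_of_commute (MonoidHom.mrange (rho R F₀ V₀ hV₀))
    (irr_mrange R F₀ V₀ hV₀ hmin) δ hδ
  have hmem2 := alg_le_span R F₀ hz V₀ hV₀ δ hmem
  obtain ⟨c, hc⟩ := (Submodule.mem_span_range_iff_exists_fun ↥F₀).1 hmem2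
  -- the lifted matrix
  have hlift : ∀ v : ↥V₀, lift R F₀ c *ᵥ (v : ι → F) = ((δ v : ↥V₀) : ι → F) := by
    intro v
    rw [lift_mulVec R F₀ V₀ hV₀ c v, hc]
  have hcomm : ∀ g ∈ R, lift R F₀ c * (g : Matrix ι ι F) = (g : Matrix ι ι F) * lift R F₀ c := by
    intro g hg
    have h0 : lift R F₀ c * (g : Matrix ι ι F) - (g : Matrix ι ι F) * lift R F₀ c = 0 := by
      apply eq_zero_of_kill R hspan F₀ V₀ hV₀ hne
      intro v hv
      rw [Matrix.sub_mulVec, ← Matrix.mulVec_mulVec, ← Matrix.mulVec_mulVec]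
      have h1 := hlift (rho R F₀ V₀ hV₀ ⟨g, hg⟩ ⟨v, hv⟩)
      rw [rho_apply] at h1
      have h2 := hlift ⟨v, hv⟩
      rw [h1, h2]
      have h3 := hδ (rho R F₀ V₀ hV₀ ⟨g, hg⟩) ⟨⟨g, hg⟩, rfl⟩
      have h4 : δ (rho R F₀ V₀ hV₀ ⟨g, hg⟩ ⟨v, hv⟩) = rho R F₀ V₀ hV₀ ⟨g, hg⟩ (δ ⟨v, hv⟩) :=
        congrArg (fun f : Module.End ↥F₀ ↥V₀ => f ⟨v, hv⟩) h3
      rw [h4, rho_apply]
      exact sub_self _
    exact sub_eq_zero.1 h0
  obtain ⟨a, ha⟩ := scalar_of_commute R hspan (lift R F₀ c) hcomm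
  -- compare with the representative of the trivial coset
  obtain ⟨c₁, hc₁⟩ := exists_coef R F₀ hz (1 : ↥R)
  set i₁ : Idx R := QuotientGroup.mk (1 : ↥R) with hi₁
  have hc₁0 : (c₁ : F) ≠ 0 := by
    intro h
    rw [h, zero_smul] at hc₁
    have : ((1 : GL ι F) : Matrix ι ι F) = 0 := hc₁
    rw [Units.val_one] at this
    exact one_ne_zero this
  have hone : (1 : Matrix ι ι F) = (c₁ : F) • (((rep R i₁ : ↥R) : GL ι F) : Matrix ι ι F) := by
    rw [← hc₁]; rfl
  have hsum : ∑ i, (((c i : ↥F₀) : F) - if i = i₁ then a * (c₁ : F) else 0) •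
      (((rep R i : ↥R) : GL ι F) : Matrix ι ι F) = 0 := by
    simp_rw [sub_smul]
    rw [Finset.sum_sub_distrib]
    have h1 : ∑ i, ((c i : ↥F₀) : F) • (((rep R i : ↥R) : GL ι F) : Matrix ι ι F) =
        lift R F₀ c := rfl
    rw [h1, ha]
    simp_rw [ite_smul, zero_smul]
    rw [Finset.sum_ite_eq' Finset.univ i₁, if_pos (Finset.mem_univ _), mul_smul, ← hone]
    exact sub_self _
  have hcoef := Fintype.linearIndependent_iff.1 hind _ hsum i₁
  rw [if_pos rfl, sub_eq_zero] at hcoef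
  have ha0 : a = ((c i₁ * c₁⁻¹ : ↥F₀) : F) := by
    push_cast
    rw [hcoef, mul_assoc, mul_inv_cancel₀ hc₁0, mul_one]
  refine ⟨c i₁ * c₁⁻¹, ?_⟩
  ext v : 1
  apply Subtype.ext
  rw [← hlift v, ha, Matrix.smul_mulVec, Matrix.one_mulVec, ha0]
  rfl

/-- an `F₀`-basis of a nonzero invariant `F₀`-subspace spans everything over `F` -/
theorem span_basis_eq_top (R : Subgroup (GL ι F)) (hspan : spanAlg R = ⊤) (F₀ : Subfield F)
    (V₀ : Submodule ↥F₀ (ι → F)) (hV₀ : Inv R F₀ V₀) (hne : V₀ ≠ ⊥)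
    {κ : Type*} [Fintype κ] (b : Module.Basis κ ↥F₀ ↥V₀) :
    Submodule.span F (Set.range (fun j : κ => ((b j : ↥V₀) : ι → F))) = ⊤ := by
  rw [eq_top_iff, ← span_eq_top R hspan F₀ V₀ hV₀ hne, Submodule.span_le]
  intro v hv
  have h1 := b.sum_repr ⟨v, hv⟩
  have h2 : v = ∑ j, ((b.repr ⟨v, hv⟩ j : ↥F₀) : F) • ((b j : ↥V₀) : ι → F) := by
    have := congrArg (fun w : ↥V₀ => (w : ι → F)) h1
    simp only [Submodule.coe_sum, Submodule.coe_smul] at this
    exact this.symm
  rw [SetLike.mem_coe, h2]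
  refine Submodule.sum_mem _ (fun j _ => Submodule.smul_mem _ _ (Submodule.subset_span ⟨j, rfl⟩))

theorem le_finrank [Finite F] (R : Subgroup (GL ι F)) (hspan : spanAlg R = ⊤) (F₀ : Subfield F)
    (V₀ : Submodule ↥F₀ (ι → F)) (hV₀ : Inv R F₀ V₀) (hne : V₀ ≠ ⊥) :
    Fintype.card ι ≤ Module.finrank ↥F₀ ↥V₀ := by
  have h1 := span_basis_eq_top R hspan F₀ V₀ hV₀ hne (Module.finBasis ↥F₀ ↥V₀)
  have h2 := finrank_range_le_card (R := F)
    (fun j : Fin (Module.finrank ↥F₀ ↥V₀) => ((Module.finBasis ↥F₀ ↥V₀ j : ↥V₀) : ι → F))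
  rw [Set.finrank, h1, finrank_top, Module.finrank_fintype_fun_eq_card, Fintype.card_fin] at h2
  exact h2

theorem finrank_le [Finite F] [Nonempty ι] (R : Subgroup (GL ι F)) (hspan : spanAlg R = ⊤)
    (F₀ : Subfield F)
    (hz : ∀ z ∈ R, ∀ c : F, (z : Matrix ι ι F) = c • (1 : Matrix ι ι F) → c ∈ F₀)
    (V₀ : Submodule ↥F₀ (ι → F)) (hV₀ : Inv R F₀ V₀) (hne : V₀ ≠ ⊥)
    (hmin : ∀ W : Submodule ↥F₀ (ι → F), W ≠ ⊥ → Inv R F₀ W → W ≤ V₀ → W = V₀)
    (hind : LinearIndependent F (fun i : Idx R => (((rep R i : ↥R) : GL ι F) : Matrix ι ι F))) :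
    Module.finrank ↥F₀ ↥V₀ ≤ Fintype.card ι := by
  classical
  haveI : Fintype (Idx R) := Fintype.ofFinite _
  haveI : Nontrivial ↥V₀ := (Submodule.nontrivial_iff_ne_bot).2 hne
  have htop := alg_eq_top (MonoidHom.mrange (rho R F₀ V₀ hV₀)) (irr_mrange R F₀ V₀ hV₀ hmin)
    (cent_scalar R hspan F₀ hz V₀ hV₀ hne hmin hind)
  have hsp : Submodule.span ↥F₀ (Set.range (fun i : Idx R => rho R F₀ V₀ hV₀ (rep R i))) = ⊤ := by
    rw [eq_top_iff]
    intro a _
    exact alg_le_span R F₀ hz V₀ hV₀ a (by rw [htop]; trivial)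
  have h1 := finrank_range_le_card (R := ↥F₀) (fun i : Idx R => rho R F₀ V₀ hV₀ (rep R i))
  rw [Set.finrank, hsp, finrank_top, Module.finrank_linearMap] at h1
  have h2 := hind.fintype_card_le_finrank
  rw [Module.finrank_matrix, Module.finrank_self, mul_one] at h2
  exact Nat.mul_self_le_mul_self_iff.1 (h1.trans h2)

theorem PK12_of_indep [Finite F] [Nonempty ι] (R : Subgroup (GL ι F)) (hspan : spanAlg R = ⊤)
    (F₀ : Subfield F)
    (hz : ∀ z ∈ R, ∀ c : F, (z : Matrix ι ι F) = c • (1 : Matrix ι ι F) → c ∈ F₀)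
    (hind : LinearIndependent F (fun i : Idx R => (((rep R i : ↥R) : GL ι F) : Matrix ι ι F))) :
    RealisableOver F₀ (matrixSet R) := by
  classical
  obtain ⟨V₀, hne, hV₀, hmin⟩ := exists_min R F₀
  have hm : Module.finrank ↥F₀ ↥V₀ = Fintype.card ι :=
    le_antisymm (finrank_le R hspan F₀ hz V₀ hV₀ hne hmin hind) (le_finrank R hspan F₀ V₀ hV₀ hne)
  let b : Module.Basis ι ↥F₀ ↥V₀ :=
    (Module.finBasisOfFinrankEq ↥F₀ ↥V₀ hm).reindex (Fintype.equivFin ι).symm
  have hsp := span_basis_eq_top R hspan F₀ V₀ hV₀ hne b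
  let bF : Module.Basis ι F (ι → F) :=
    basisOfTopLeSpanOfCardEqFinrank (fun j => ((b j : ↥V₀) : ι → F)) hsp.ge
      (by rw [Module.finrank_fintype_fun_eq_card])
  have hbF : ∀ j, bF j = ((b j : ↥V₀) : ι → F) := fun j =>
    congrFun (coe_basisOfTopLeSpanOfCardEqFinrank _ _ _) j
  let e : Module.Basis ι F (ι → F) := Pi.basisFun F ι
  let B : GL ι F := ⟨bF.toMatrix e, e.toMatrix bF, Module.Basis.toMatrix_mul_toMatrix_flip _ _,
    Module.Basis.toMatrix_mul_toMatrix_flip _ _⟩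
  refine ⟨B, ?_⟩
  rintro _ ⟨g, hg, rfl⟩ i j
  have h1 : (B : Matrix ι ι F) * (g : Matrix ι ι F) * ((B⁻¹ : GL ι F) : Matrix ι ι F) =
      LinearMap.toMatrix bF bF (Matrix.toLin' (g : Matrix ι ι F)) := by
    have hg' : (g : Matrix ι ι F) = LinearMap.toMatrix e e (Matrix.toLin' (g : Matrix ι ι F)) := by
      rw [LinearMap.toMatrix_eq_toMatrix', LinearMap.toMatrix'_toLin']
    show bF.toMatrix e * (g : Matrix ι ι F) * e.toMatrix bF = _
    conv_lhs => rw [hg']
    rw [basis_toMatrix_mul_linearMap_toMatrix, linearMap_toMatrix_mul_basis_toMatrix]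
  rw [h1, LinearMap.toMatrix_apply, Matrix.toLin'_apply, hbF]
  have h2 : (g : Matrix ι ι F) *ᵥ ((b j : ↥V₀) : ι → F) =
      ∑ k, ((b.repr (rho R F₀ V₀ hV₀ ⟨g, hg⟩ (b j)) k : ↥F₀) : F) • bF k := by
    have h3 := b.sum_repr (rho R F₀ V₀ hV₀ ⟨g, hg⟩ (b j))
    have h4 := congrArg (fun w : ↥V₀ => (w : ι → F)) h3
    simp only [Submodule.coe_sum, Submodule.coe_smul, rho_apply] at h4
    rw [← h4]
    refine Finset.sum_congr rfl (fun k _ => ?_)
    rw [hbF]
    rfl
  rw [h2, map_sum]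
  simp only [map_smul, Module.Basis.repr_self, Finsupp.coe_finsetSum, Finsupp.coe_smul,
    Finset.sum_apply, Pi.smul_apply, smul_eq_mul]
  rw [Finset.sum_eq_single i]
  · rw [Finsupp.single_eq_same, mul_one]
    exact SetLike.coe_mem _
  · intro k _ hk
    rw [Finsupp.single_eq_of_ne (Ne.symm hk), mul_zero]
  · intro h
    exact absurd (Finset.mem_univ i) h

/-- PK12: descent of a class-2 spanning group to a subfield containing its scalars -/
theorem PK12 [Finite F] [Nonempty ι] (R : Subgroup (GL ι F)) (hspan : spanAlg R = ⊤)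
    (hcomm : ⁅R, R⁆ ≤ scalars ι F)
    (F₀ : Subfield F)
    (hz : ∀ z ∈ R, ∀ c : F, (z : Matrix ι ι F) = c • (1 : Matrix ι ι F) → c ∈ F₀) :
    RealisableOver F₀ (matrixSet R) :=
  PK12_of_indep R hspan F₀ hz
    (Cfsg.Agent.Lib.Helper52_Asch_PK7.PK7a R hspan hcomm
      (fun i : Idx R => ((rep R i : ↥R) : GL ι F)) (fun i => (rep R i).2) (rep_ne R))

end main

end Cfsg.Agent.Lib.Helper49_Asch_PK12
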