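/-
PK13a / PK13b of the S5630 packages of helper98 (finite-field arithmetic).
Also: `mem_of_pow_card_eq_self` (a finite subfield of order q contains every solution of x^q = x),
`exists_subfield_card` (subfield of order p^e₀ for e₀ ∣ e).
-/
import Mathlib
import Cfsg.Agent.Lib.Helper98_AschDefs

set_option autoImplicit false

namespace Cfsg.Agent.Lib.Helper60_Asch_PK13

variable {F : Type*} [Field F]

open Polynomial in
/-- the elements of a finite subfield of cardinality `q` are exactly the solutions of `x ^ q = x` -/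
theorem mem_of_pow_card_eq_self (K : Subfield F) [Finite K] (c : F)
    (hc : c ^ Nat.card K = c) : c ∈ K := by
  classical
  have : Fintype K := Fintype.ofFinite K
  set q := Nat.card K with hq
  have hq1 : 1 < q := by
    rw [hq]; exact Finite.one_lt_card
  have hne : (X ^ q - X : F[X]) ≠ 0 := FiniteField.X_pow_card_sub_X_ne_zero F hq1
  have hdeg : (X ^ q - X : F[X]).natDegree = q := FiniteField.X_pow_card_sub_X_natDegree_eq F hq1
  set S : Finset F := Finset.univ.image (fun x : K => (x : F)) with hS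
  have hScard : S.card = q := by
    rw [hS, Finset.card_image_of_injective _ Subtype.val_injective, Finset.card_univ,
      Fintype.card_eq_nat_card]
  have hSsub : S ⊆ (X ^ q - X : F[X]).roots.toFinset := by
    intro x hx
    obtain ⟨y, -, rfl⟩ := Finset.mem_image.1 hx
    rw [Multiset.mem_toFinset, mem_roots hne, IsRoot.def, eval_sub, eval_pow, eval_X, sub_eq_zero]
    have := FiniteField.pow_card y
    rw [Fintype.card_eq_nat_card] at this
    exact_mod_cast congrArg (fun t : K => (t : F)) this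
  have hle : (X ^ q - X : F[X]).roots.toFinset.card ≤ S.card := by
    rw [hScard]
    calc _ ≤ Multiset.card (X ^ q - X : F[X]).roots := Multiset.toFinset_card_le _
      _ ≤ (X ^ q - X : F[X]).natDegree := card_roots' _
      _ = q := hdeg
  have heq := Finset.eq_of_subset_of_card_le hSsub hle
  have hcroot : c ∈ (X ^ q - X : F[X]).roots.toFinset := by
    rw [Multiset.mem_toFinset, mem_roots hne, IsRoot.def, eval_sub, eval_pow, eval_X, sub_eq_zero]
    exact hc
  rw [← heq] at hcroot
  obtain ⟨y, -, rfl⟩ := Finset.mem_image.1 hcroot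
  exact y.2

/-- a finite field of order `p ^ e` has a subfield of order `p ^ e₀` for every `e₀ ∣ e`, `0 < e₀` -/
theorem exists_subfield_card [Fintype F] (p e e₀ : ℕ) (hp : p.Prime) [CharP F p]
    (hcard : Fintype.card F = p ^ e) (he₀ : 0 < e₀) (hdvd : e₀ ∣ e) :
    ∃ F₀ : Subfield F, Nat.card F₀ = p ^ e₀ := by
  classical
  have : Fact p.Prime := ⟨hp⟩
  let _ : Algebra (ZMod p) F := ZMod.algebra F p
  have hfrF : Module.finrank (ZMod p) F = e := by
    have h1 := FiniteField.pow_finrank_eq_card p F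
    rw [hcard] at h1
    exact Nat.pow_right_injective hp.two_le h1
  have hfrG : Module.finrank (ZMod p) (GaloisField p e₀) = e₀ := GaloisField.finrank p he₀.ne'
  obtain ⟨φ⟩ := FiniteField.nonempty_algHom_of_finrank_dvd (F := ZMod p) (K := GaloisField p e₀)
    (L := F) (by rw [hfrF, hfrG]; exact hdvd)
  refine ⟨(φ : GaloisField p e₀ →+* F).fieldRange, ?_⟩
  have : Nat.card ((φ : GaloisField p e₀ →+* F).fieldRange) = Nat.card (GaloisField p e₀) := by
    refine (Nat.card_congr (Equiv.ofInjective (φ : GaloisField p e₀ →+* F) ?_)).symm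
    exact (φ : GaloisField p e₀ →+* F).injective
  rw [this]
  exact GaloisField.card p e₀ he₀.ne'

/-- PK13a: the minimal field of characteristic p containing the z-th roots of unity, as a subfield of F -/
theorem PK13a [Fintype F] (z : ℕ) (hz : z ∣ Fintype.card F - 1) :
    ∃ p e e₀ : ℕ, p.Prime ∧ CharP F p ∧ Fintype.card F = p ^ e ∧ 0 < e₀ ∧ e₀ ∣ e ∧ z ∣ p ^ e₀ - 1 ∧
      (∀ d : ℕ, 0 < d → d < e₀ → ¬ z ∣ p ^ d - 1) ∧
      ∃ F₀ : Subfield F, Nat.card F₀ = p ^ e₀ ∧ ∀ c : F, c ^ z = 1 → c ∈ F₀ := by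
  classical
  set p := ringChar F with hp
  have hchar : CharP F p := ringChar.charP F
  obtain ⟨n, hpprime, hcard⟩ := FiniteField.card F p
  set e : ℕ := (n : ℕ) with he_def
  have he : 0 < e := n.pos
  have hex : ∃ d, 0 < d ∧ z ∣ p ^ d - 1 := ⟨e, he, by rwa [← hcard]⟩
  obtain ⟨e₀, ⟨he₀pos, he₀z⟩, hmin'⟩ : ∃ e₀, (0 < e₀ ∧ z ∣ p ^ e₀ - 1) ∧
      ∀ d < e₀, ¬ (0 < d ∧ z ∣ p ^ d - 1) :=
    ⟨Nat.find hex, Nat.find_spec hex, fun d hd => Nat.find_min hex hd⟩
  have hmin : ∀ d, 0 < d → d < e₀ → ¬ z ∣ p ^ d - 1 :=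
    fun d hd hlt hdz => hmin' d hlt ⟨hd, hdz⟩
  have hone : ∀ d, 1 ≤ p ^ d := fun d => Nat.one_le_pow _ _ hpprime.pos
  have hdvd : e₀ ∣ e := by
    have h1 : p ^ e₀ ≡ 1 [MOD z] := ((Nat.modEq_iff_dvd' (hone e₀)).2 he₀z).symm
    have h2 : p ^ e ≡ 1 [MOD z] := by
      refine ((Nat.modEq_iff_dvd' (hone e)).2 ?_).symm
      rwa [← hcard]
    by_contra hnd
    have hr : 0 < e % e₀ := Nat.pos_of_ne_zero (fun h => hnd (Nat.dvd_of_mod_eq_zero h))
    have hlt : e % e₀ < e₀ := Nat.mod_lt _ he₀pos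
    have h3 : p ^ (e % e₀) ≡ 1 [MOD z] := by
      have h5 : p ^ e = (p ^ e₀) ^ (e / e₀) * p ^ (e % e₀) := by
        rw [← pow_mul, ← pow_add, Nat.div_add_mod]
      have h4 : (p ^ e₀) ^ (e / e₀) * p ^ (e % e₀) ≡ 1 ^ (e / e₀) * p ^ (e % e₀) [MOD z] :=
        (h1.pow _).mul_right _
      rw [← h5, one_pow, one_mul] at h4
      exact h4.symm.trans h2
    exact hmin _ hr hlt ((Nat.modEq_iff_dvd' (hone _)).1 h3.symm)
  refine ⟨p, e, e₀, hpprime, hchar, hcard, he₀pos, hdvd, he₀z, hmin, ?_⟩
  obtain ⟨F₀, hF₀⟩ := exists_subfield_card p e e₀ hpprime hcard he₀pos hdvd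
  refine ⟨F₀, hF₀, fun c hc => ?_⟩
  have : Finite F₀ := inferInstance
  apply mem_of_pow_card_eq_self F₀ c
  rw [hF₀]
  obtain ⟨k, hk⟩ := he₀z
  have h6 : p ^ e₀ = z * k + 1 := by
    have := hone e₀
    omega
  rw [h6, pow_succ, pow_mul, hc, one_pow, one_mul]

open Polynomial in
/-- PK13b: the involutory automorphism of a field of square order -/
theorem PK13b [Fintype F] (p j : ℕ) (hp : p.Prime) (hj : 0 < j) (hcard : Fintype.card F = p ^ (2 * j)) :
    ∃ σ : F ≃+* F, σ ≠ RingEquiv.refl F ∧ (∀ a, σ (σ a) = a) ∧ ∀ a, σ a = a ^ (p ^ j) := by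
  classical
  have hchar : CharP F p := by
    have h0 : CharP F (ringChar F) := ringChar.charP F
    obtain ⟨n, hr, hn⟩ := FiniteField.card F (ringChar F)
    have h1 : p ∣ ringChar F ^ (n : ℕ) := by
      rw [← hn, hcard]
      exact dvd_pow_self p (by omega)
    have h2 : p = ringChar F := (Nat.prime_dvd_prime_iff_eq hp hr).1 (hp.dvd_of_dvd_pow h1)
    rw [h2]; exact h0
  have : Fact p.Prime := ⟨hp⟩
  have hexp : ExpChar F p := ExpChar.prime hp
  have hbij : Function.Bijective (iterateFrobenius F p j) :=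
    (Finite.injective_iff_bijective).1 (iterateFrobenius F p j).injective
  refine ⟨RingEquiv.ofBijective (iterateFrobenius F p j) hbij, ?_, ?_, ?_⟩
  · intro h
    have hall : ∀ a : F, a ^ p ^ j = a := by
      intro a
      have := congrArg (fun σ : F ≃+* F => σ a) h
      simpa [iterateFrobenius_def] using this
    have hq1 : 1 < p ^ j := Nat.one_lt_pow hj.ne' hp.one_lt
    have hne : (X ^ (p ^ j) - X : F[X]) ≠ 0 := FiniteField.X_pow_card_sub_X_ne_zero F hq1
    have hdeg : (X ^ (p ^ j) - X : F[X]).natDegree = p ^ j :=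
      FiniteField.X_pow_card_sub_X_natDegree_eq F hq1
    have hsub : (Finset.univ : Finset F) ⊆ (X ^ (p ^ j) - X : F[X]).roots.toFinset := by
      intro x _
      rw [Multiset.mem_toFinset, mem_roots hne, IsRoot.def, eval_sub, eval_pow, eval_X, sub_eq_zero]
      exact hall x
    have hle : Fintype.card F ≤ p ^ j := by
      calc Fintype.card F = (Finset.univ : Finset F).card := Finset.card_univ.symm
        _ ≤ (X ^ (p ^ j) - X : F[X]).roots.toFinset.card := Finset.card_le_card hsub
        _ ≤ Multiset.card (X ^ (p ^ j) - X : F[X]).roots := Multiset.toFinset_card_le _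
        _ ≤ (X ^ (p ^ j) - X : F[X]).natDegree := card_roots' _
        _ = p ^ j := hdeg
    rw [hcard, two_mul, pow_add] at hle
    have : p ^ j * 2 ≤ p ^ j * p ^ j := Nat.mul_le_mul_left _ (by omega)
    omega
  · intro a
    simp only [RingEquiv.ofBijective_apply, iterateFrobenius_def]
    rw [← pow_mul, ← pow_add, ← two_mul, ← hcard, FiniteField.pow_card]
  · intro a
    simp [iterateFrobenius_def]

end Cfsg.Agent.Lib.Helper60_Asch_PK13
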