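import Mathlib
import Cfsg.Agent.Lib.Helper98_AschDefs
import Cfsg.Agent.Lib.Helper52_Asch_PK7
import Cfsg.Agent.Lib.Helper52_Asch_SN

set_option autoImplicit false

namespace Cfsg.Agent.Lib.Helper52_Asch_PK8

open Cfsg Cfsg.Geo Matrix Cfsg.Agent.Lib.Helper98_AschDefs Cfsg.Agent.Lib.Helper52_Asch_PK7
  Cfsg.Agent.Lib.Helper52_Asch_SN

variable {ι : Type} [Fintype ι] [DecidableEq ι] {F : Type*} [Field F]

/-- a linear map on the matrix algebra that is multiplicative on a spanning group is multiplicative -/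
lemma mul_of_mul_on_span (R : Subgroup (GL ι F)) (hspan : spanAlg R = ⊤)
    (Φ : Matrix ι ι F →ₗ[F] Matrix ι ι F)
    (h : ∀ y ∈ R, ∀ y' ∈ R, Φ ((y : Matrix ι ι F) * (y' : Matrix ι ι F)) = Φ (y : Matrix ι ι F) * Φ (y' : Matrix ι ι F)) :
    ∀ M N, Φ (M * N) = Φ M * Φ N := by
  have hall : ∀ M : Matrix ι ι F, M ∈ Submodule.span F (matrixSet R) := by
    intro M
    rw [← mem_spanAlg_iff, hspan]; trivial
  have step1 : ∀ y' ∈ R, ∀ M, Φ (M * (y' : Matrix ι ι F)) = Φ M * Φ (y' : Matrix ι ι F) := by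
    intro y' hy' M
    have hM := hall M
    induction hM using Submodule.span_induction with
    | mem z hz =>
      obtain ⟨y, hy, rfl⟩ := hz
      exact h y hy y' hy'
    | zero => simp
    | add a b _ _ ha hb => rw [add_mul, map_add, map_add, add_mul, ha, hb]
    | smul c a _ ha => rw [smul_mul_assoc, map_smul, map_smul, smul_mul_assoc, ha]
  intro M N
  have hN := hall N
  induction hN using Submodule.span_induction with
  | mem z hz =>
    obtain ⟨y, hy, rfl⟩ := hz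
    exact step1 y hy M
  | zero => simp
  | add a b _ _ ha hb => rw [mul_add, map_add, map_add, mul_add, ha, hb]
  | smul c a _ ha => rw [mul_smul_comm, map_smul, map_smul, mul_smul_comm, ha]

/-- PK8 (Stone-von Neumann): a representation of a class-2 spanning group agreeing with the identity on its scalars is conjugate to the identity -/
theorem PK8 [Finite F] [Nonempty ι] (R : Subgroup (GL ι F)) (hspan : spanAlg R = ⊤) (hcomm : ⁅R, R⁆ ≤ scalars ι F)
    (ρ : R →* GL ι F) (hρ : ∀ z : R, (z : GL ι F) ∈ scalars ι F → ρ z = z) :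
    ∃ B : GL ι F, ∀ x : R, ρ x = B * x * B⁻¹ := by
  classical
  obtain ⟨x, hxR, hne, hrep, hli, hsp⟩ := exists_reps R hspan hcomm
  let b := Module.Basis.mk hli hsp
  have hb : ∀ q, b q = ((x q : GL ι F) : Matrix ι ι F) := fun q => by
    simp [b]
  let Φ : Matrix ι ι F →ₗ[F] Matrix ι ι F :=
    b.constr F (fun q => ((ρ ⟨x q, hxR q⟩ : GL ι F) : Matrix ι ι F))
  have hΦb : ∀ q, Φ ((x q : GL ι F) : Matrix ι ι F) = ((ρ ⟨x q, hxR q⟩ : GL ι F) : Matrix ι ι F) := by
    intro q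
    rw [← hb q]
    exact Module.Basis.constr_basis b F _ q
  have hΦR : ∀ y (hy : y ∈ R), Φ (y : Matrix ι ι F) = ((ρ ⟨y, hy⟩ : GL ι F) : Matrix ι ι F) := by
    intro y hy
    obtain ⟨q, c, hc⟩ := hrep y hy
    rw [hc, map_smul, hΦb]
    -- the scalar element s = y * (x q)⁻¹
    have hsR : y * (x q)⁻¹ ∈ R := R.mul_mem hy (R.inv_mem (hxR q))
    have hsmat : ((y * (x q)⁻¹ : GL ι F) : Matrix ι ι F) = (c : F) • (1 : Matrix ι ι F) := by
      rw [Units.val_mul, hc, smul_mul_assoc, ← Units.val_mul, mul_inv_cancel, Units.val_one]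
    have hs : (y * (x q)⁻¹ : GL ι F) ∈ scalars ι F := by
      rw [mem_scalars_iff]; exact ⟨c, hsmat⟩
    have h1 : ρ ⟨y * (x q)⁻¹, hsR⟩ = y * (x q)⁻¹ := hρ ⟨y * (x q)⁻¹, hsR⟩ hs
    have h2 : (⟨y, hy⟩ : R) = ⟨y * (x q)⁻¹, hsR⟩ * ⟨x q, hxR q⟩ := by
      apply Subtype.ext
      simp
    rw [h2, map_mul, h1, Units.val_mul, hsmat, smul_mul_assoc, one_mul]
  have hmul : ∀ M N, Φ (M * N) = Φ M * Φ N := by
    apply mul_of_mul_on_span R hspan
    intro y hy y' hy'
    rw [← Units.val_mul, hΦR _ (R.mul_mem hy hy'), hΦR y hy, hΦR y' hy', ← Units.val_mul, ← map_mul]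
    rfl
  have hone : Φ 1 = 1 := by
    have := hΦR 1 R.one_mem
    rw [Units.val_one] at this
    rw [this]
    have h1 : (⟨1, R.one_mem⟩ : R) = 1 := rfl
    rw [h1, map_one, Units.val_one]
  obtain ⟨B, hB⟩ := skolem_noether_linear Φ hone hmul
  refine ⟨B, fun y => ?_⟩
  apply Units.ext
  rw [Units.val_mul, Units.val_mul, ← hB, hΦR y y.2]

end Cfsg.Agent.Lib.Helper52_Asch_PK8
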