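import Mathlib
import Cfsg.Agent.Lib.Helper98_AschDefs

/-!
# S5630 packages PK9a / PK9b (helper82), core part: from the Stone-von Neumann statement PK8 (as a hypothesis `h8`)
a class-2 spanning group `R` whose scalars are `±1` fixes a non-degenerate quadratic or symplectic form (`PK9a_core`),
and one whose scalars have norm one for an involutory field automorphism fixes a unitary form (`PK9b_core`).
-/

set_option autoImplicit false

namespace Cfsg.Agent.Lib.Helper82_Asch_PK9Core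

open Cfsg Cfsg.Geo Matrix Cfsg.Agent.Lib.Helper98_AschDefs

variable {ι : Type} [Fintype ι] [DecidableEq ι] {F : Type*} [Field F]

set_option linter.unusedSectionVars false

/-- a matrix commuting with a spanning group is a scalar -/
theorem scalar_of_commute (R : Subgroup (GL ι F)) (hspan : spanAlg R = ⊤) (C : Matrix ι ι F)
    (hC : ∀ x ∈ R, C * (x : Matrix ι ι F) = (x : Matrix ι ι F) * C) :
    ∃ c : F, C = c • (1 : Matrix ι ι F) := by
  have hall : ∀ M : Matrix ι ι F, M ∈ Subalgebra.centralizer F ({C} : Set (Matrix ι ι F)) := by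
    intro M
    have hle : spanAlg R ≤ Subalgebra.centralizer F ({C} : Set (Matrix ι ι F)) := by
      apply Algebra.adjoin_le
      rintro _ ⟨g, hg, rfl⟩
      rw [SetLike.mem_coe, Subalgebra.mem_centralizer_iff]
      intro y hy
      rw [Set.mem_singleton_iff] at hy
      subst hy
      exact hC g hg
    apply hle
    rw [hspan]
    exact Algebra.mem_top
  have h := (Matrix.mem_range_scalar_iff_commute_single' (M := C)).mpr (fun i j => by
    have := hall (Matrix.single i j (1 : F))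
    rw [Subalgebra.mem_centralizer_iff] at this
    exact (this C rfl).symm)
  obtain ⟨c, hc⟩ := h
  exact ⟨c, by rw [← hc, Matrix.smul_one_eq_diagonal]; rfl⟩

/-- transpose-inverse as a monoid hom on `GL` -/
def tinv : GL ι F →* GL ι F where
  toFun x := ⟨((x⁻¹ : GL ι F) : Matrix ι ι F)ᵀ, (x : Matrix ι ι F)ᵀ, by
      rw [← Matrix.transpose_mul, ← Units.val_mul, mul_inv_cancel, Units.val_one, Matrix.transpose_one], by
      rw [← Matrix.transpose_mul, ← Units.val_mul, inv_mul_cancel, Units.val_one, Matrix.transpose_one]⟩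
  map_one' := by
    apply Units.ext
    simp
  map_mul' x y := by
    apply Units.ext
    simp [Matrix.transpose_mul]

@[simp] lemma tinv_val (x : GL ι F) : ((tinv x : GL ι F) : Matrix ι ι F) = ((x⁻¹ : GL ι F) : Matrix ι ι F)ᵀ := rfl

lemma tinv_inv_val (x : GL ι F) : (((tinv x)⁻¹ : GL ι F) : Matrix ι ι F) = (x : Matrix ι ι F)ᵀ := rfl

/-- the transpose as an element of `GL` -/
def tr (x : GL ι F) : GL ι F := (tinv x)⁻¹

@[simp] lemma tr_val (x : GL ι F) : ((tr x : GL ι F) : Matrix ι ι F) = (x : Matrix ι ι F)ᵀ := rfl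

lemma tr_mul (x y : GL ι F) : tr (x * y) = tr y * tr x := by
  apply Units.ext
  simp [Matrix.transpose_mul]

lemma tr_tr (x : GL ι F) : tr (tr x) = x := by
  apply Units.ext
  simp

/-- invariance of the form `u ⬝ M v` under `x` with `xᵀ M x = M` -/
lemma form_inv (M x : Matrix ι ι F) (h : xᵀ * M * x = M) (u v : ι → F) :
    (x *ᵥ u) ⬝ᵥ (M *ᵥ (x *ᵥ v)) = u ⬝ᵥ (M *ᵥ v) := by
  have : (x *ᵥ u) ⬝ᵥ (M *ᵥ (x *ᵥ v)) = u ⬝ᵥ ((xᵀ * M * x) *ᵥ v) := by
    rw [← Matrix.mulVec_mulVec, ← Matrix.mulVec_mulVec, Matrix.dotProduct_mulVec u xᵀ,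
      Matrix.vecMul_transpose]
  rw [this, h]

/-- nondegeneracy of `u ⬝ M v` for invertible `M` -/
lemma nondeg_left (M : GL ι F) (v : ι → F) (hv : v ≠ 0) :
    ∃ x : ι → F, x ⬝ᵥ ((M : Matrix ι ι F) *ᵥ v) ≠ 0 := by
  have hMv : (M : Matrix ι ι F) *ᵥ v ≠ 0 := by
    intro h
    apply hv
    have := congrArg (fun w => ((M⁻¹ : GL ι F) : Matrix ι ι F) *ᵥ w) h
    simpa [Matrix.mulVec_mulVec, ← Units.val_mul] using this
  obtain ⟨i, hi⟩ : ∃ i, ((M : Matrix ι ι F) *ᵥ v) i ≠ 0 := by
    by_contra hcon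
    push Not at hcon
    exact hMv (funext hcon)
  exact ⟨Pi.single i 1, by simpa using hi⟩

lemma nondeg_right (M : GL ι F) (v : ι → F) (hv : v ≠ 0) :
    ∃ x : ι → F, v ⬝ᵥ ((M : Matrix ι ι F) *ᵥ x) ≠ 0 := by
  obtain ⟨x, hx⟩ := nondeg_left (tr M) v hv
  refine ⟨x, ?_⟩
  rw [Matrix.dotProduct_mulVec, ← Matrix.mulVec_transpose, dotProduct_comm]
  simpa using hx

/-- the invariant matrix obtained from PK8 -/
theorem exists_invariant [Nonempty ι] (R : Subgroup (GL ι F)) (hspan : spanAlg R = ⊤)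
    (h8 : ∀ ρ : R →* GL ι F, (∀ z : R, (z : GL ι F) ∈ scalars ι F → ρ z = z) →
      ∃ B : GL ι F, ∀ x : R, ρ x = B * x * B⁻¹)
    (hz : ∀ z ∈ R, ∀ c : F, (z : Matrix ι ι F) = c • (1 : Matrix ι ι F) → c * c = 1) :
    ∃ (B : GL ι F) (c : F), (∀ x ∈ R, (x : Matrix ι ι F)ᵀ * (B : Matrix ι ι F) * (x : Matrix ι ι F) = B) ∧
      (B : Matrix ι ι F)ᵀ = c • (B : Matrix ι ι F) ∧ (c = 1 ∨ c = -1) := by
  obtain ⟨B, hB⟩ := h8 (tinv.comp R.subtype) (by
    intro z hzs
    obtain ⟨c, hc⟩ := (mem_scalars_iff _).mp hzs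
    have hcc := hz z z.2 c hc
    have hzz : (z : GL ι F) * z = 1 := by
      apply Units.ext
      rw [Units.val_mul, hc, Matrix.smul_mul, Matrix.one_mul, smul_smul, hcc, one_smul, Units.val_one]
    have hinv : ((z : GL ι F))⁻¹ = z := inv_eq_of_mul_eq_one_left hzz
    apply Units.ext
    simp only [MonoidHom.coe_comp, Subgroup.coe_subtype, Function.comp_apply, tinv_val, hinv, hc]
    simp)
  have key : ∀ x ∈ R, tr x * B * x = B := by
    intro x hx
    have := hB ⟨x, hx⟩
    simp only [MonoidHom.coe_comp, Subgroup.coe_subtype, Function.comp_apply] at this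
    unfold tr
    rw [this]
    group
  have key' : ∀ x ∈ R, tr x * tr B * x = tr B := by
    intro x hx
    have := congrArg tr (key x hx)
    rw [tr_mul, tr_mul, tr_tr, ← mul_assoc] at this
    exact this
  have hcomm : ∀ x ∈ R, (B⁻¹ * tr B) * x = x * (B⁻¹ * tr B) := by
    intro x hx
    have h1 := key x hx
    have h2 := key' x hx
    have h3 : x⁻¹ * (B⁻¹ * tr B) * x = (tr x * B * x)⁻¹ * (tr x * tr B * x) := by group
    rw [h1, h2] at h3
    calc (B⁻¹ * tr B) * x = x * (x⁻¹ * (B⁻¹ * tr B) * x) := by group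
      _ = x * (B⁻¹ * tr B) := by rw [h3]
  obtain ⟨c, hc⟩ := scalar_of_commute R hspan ((B⁻¹ * tr B : GL ι F) : Matrix ι ι F) (by
    intro x hx
    have := congrArg (fun g : GL ι F => (g : Matrix ι ι F)) (hcomm x hx)
    simpa [Units.val_mul] using this)
  have hBt : (B : Matrix ι ι F)ᵀ = c • (B : Matrix ι ι F) := by
    have hc' : ((B⁻¹ : GL ι F) : Matrix ι ι F) * (B : Matrix ι ι F)ᵀ = c • 1 := by
      simpa [Units.val_mul] using hc
    calc (B : Matrix ι ι F)ᵀ = ((B : Matrix ι ι F) * ((B⁻¹ : GL ι F) : Matrix ι ι F)) * (B : Matrix ι ι F)ᵀ := by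
          rw [← Units.val_mul, mul_inv_cancel, Units.val_one, one_mul]
      _ = (B : Matrix ι ι F) * (((B⁻¹ : GL ι F) : Matrix ι ι F) * (B : Matrix ι ι F)ᵀ) := mul_assoc _ _ _
      _ = c • (B : Matrix ι ι F) := by rw [hc', Matrix.mul_smul, Matrix.mul_one]
  have hcc : c * c = 1 := by
    have h1 : (B : Matrix ι ι F) = (c * c) • (B : Matrix ι ι F) := by
      conv_lhs => rw [← Matrix.transpose_transpose (B : Matrix ι ι F), hBt, Matrix.transpose_smul, hBt, smul_smul]
    have h2 : (1 : Matrix ι ι F) = (c * c) • (1 : Matrix ι ι F) := by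
      have := congrArg (fun M => M * ((B⁻¹ : GL ι F) : Matrix ι ι F)) h1
      simpa [Matrix.smul_mul, ← Units.val_mul] using this
    obtain ⟨i⟩ := ‹Nonempty ι›
    have := congrFun (congrFun h2 i) i
    simpa using this.symm
  refine ⟨B, c, ?_, hBt, ?_⟩
  · intro x hx
    have := congrArg (fun g : GL ι F => (g : Matrix ι ι F)) (key x hx)
    simpa [Units.val_mul] using this
  · have : (c - 1) * (c + 1) = 0 := by ring_nf; rw [sq, hcc]; ring
    rcases mul_eq_zero.mp this with h | h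
    · left; exact sub_eq_zero.mp h
    · right; exact eq_neg_of_add_eq_zero_left h


/-- the bilinear form `u ⬝ B v` -/
def bform (B : Matrix ι ι F) (u v : ι → F) : F := u ⬝ᵥ (B *ᵥ v)

lemma bform_bilinear (B : Matrix ι ι F) : IsBilinearForm (bform B) where
  add_left x y v := by simp [bform, add_dotProduct]
  smul_left c x v := by simp [bform, smul_dotProduct]
  add_right v x y := by simp [bform, Matrix.mulVec_add, dotProduct_add]
  smul_right c v x := by simp [bform, Matrix.mulVec_smul, dotProduct_smul]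

lemma bform_swap (B : Matrix ι ι F) (u v : ι → F) : bform B u v = bform Bᵀ v u := by
  unfold bform
  rw [Matrix.dotProduct_mulVec, ← Matrix.mulVec_transpose, dotProduct_comm]

lemma bform_nondeg (B : GL ι F) : IsNondegenerateForm (bform (B : Matrix ι ι F)) := by
  intro v hv
  exact ⟨nondeg_left B v hv, nondeg_right B v hv⟩

theorem PK9a_core [Nonempty ι] (R : Subgroup (GL ι F)) (hspan : spanAlg R = ⊤)
    (h8 : ∀ ρ : R →* GL ι F, (∀ z : R, (z : GL ι F) ∈ scalars ι F → ρ z = z) →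
      ∃ B : GL ι F, ∀ x : R, ρ x = B * x * B⁻¹)
    (h2 : (2 : F) ≠ 0)
    (hz : ∀ z ∈ R, ∀ c : F, (z : Matrix ι ι F) = c • (1 : Matrix ι ι F) → c * c = 1) :
    (∃ Q : (ι → F) → F, IsNondegenerateQuadraticForm Q ∧ FixesQuadForm (matrixSet R) Q) ∨
    (∃ f : (ι → F) → (ι → F) → F, IsSymplecticForm f ∧ FixesForm (matrixSet R) f) := by
  obtain ⟨B, c, hinv, hBt, hc⟩ := exists_invariant R hspan h8 hz
  rcases hc with rfl | rfl
  · -- symmetric case
    left
    rw [one_smul] at hBt
    have hsymm : ∀ u v, bform (B : Matrix ι ι F) u v = bform (B : Matrix ι ι F) v u := by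
      intro u v
      rw [bform_swap, hBt]
    have hpolar : QuadraticMap.polar (fun v => bform (B : Matrix ι ι F) v v) =
        fun u v => 2 * bform (B : Matrix ι ι F) u v := by
      funext u v
      have hb := bform_bilinear (B : Matrix ι ι F)
      simp only [QuadraticMap.polar]
      rw [hb.add_left, hb.add_right, hb.add_right, hsymm v u]
      ring
    refine ⟨fun v => bform (B : Matrix ι ι F) v v, ⟨?_, ?_, ?_⟩, ?_⟩
    · intro a v
      have hb := bform_bilinear (B : Matrix ι ι F)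
      show bform (B : Matrix ι ι F) (a • v) (a • v) = a ^ 2 * bform (B : Matrix ι ι F) v v
      rw [hb.smul_left, hb.smul_right]
      ring
    · rw [hpolar]
      have hb := bform_bilinear (B : Matrix ι ι F)
      constructor
      · intro x y v; rw [hb.add_left]; ring
      · intro a x v; rw [hb.smul_left]; ring
      · intro v x y; rw [hb.add_right]; ring
      · intro a v x; rw [hb.smul_right]; ring
    · rw [hpolar]
      intro v hv
      obtain ⟨⟨x, hx⟩, ⟨y, hy⟩⟩ := bform_nondeg B v hv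
      exact ⟨⟨x, mul_ne_zero h2 hx⟩, ⟨y, mul_ne_zero h2 hy⟩⟩
    · rintro _ ⟨x, hx, rfl⟩ v
      exact form_inv _ _ (hinv x hx) v v
  · -- skew case
    right
    have hskew : ∀ u v, bform (B : Matrix ι ι F) u v = - bform (B : Matrix ι ι F) v u := by
      intro u v
      rw [bform_swap, hBt]
      simp [bform, Matrix.neg_mulVec]
    refine ⟨bform (B : Matrix ι ι F), ⟨bform_bilinear _, hskew, ?_, bform_nondeg B⟩, ?_⟩
    · intro v
      have h := hskew v v
      have h' : (2 : F) * bform (B : Matrix ι ι F) v v = 0 := by linear_combination h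
      exact (mul_eq_zero.mp h').resolve_left h2
    · rintro _ ⟨x, hx, rfl⟩ u v
      exact form_inv _ _ (hinv x hx) u v

/-- entrywise application of a field automorphism on `GL` -/
def smap (σ : F ≃+* F) : GL ι F →* GL ι F :=
  Units.map ((σ : F →+* F).mapMatrix : Matrix ι ι F →+* Matrix ι ι F).toMonoidHom

@[simp] lemma smap_val (σ : F ≃+* F) (x : GL ι F) :
    ((smap σ x : GL ι F) : Matrix ι ι F) = (x : Matrix ι ι F).map σ := rfl

lemma map_map_self (σ : F ≃+* F) (hσ2 : ∀ a, σ (σ a) = a) (A : Matrix ι ι F) :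
    (A.map σ).map σ = A := by
  ext i j
  simp [hσ2]

lemma smap_smap (σ : F ≃+* F) (hσ2 : ∀ a, σ (σ a) = a) (x : GL ι F) : smap σ (smap σ x) = x := by
  apply Units.ext
  rw [smap_val, smap_val, map_map_self σ hσ2]

lemma smap_tr (σ : F ≃+* F) (x : GL ι F) : smap σ (tr x) = tr (smap σ x) := by
  apply Units.ext
  ext i j
  simp

lemma map_smul_one (σ : F ≃+* F) (c : F) :
    ((c • (1 : Matrix ι ι F)).map σ) = σ c • (1 : Matrix ι ι F) := by
  ext i j
  by_cases hij : i = j
  · subst hij; simp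
  · simp [Matrix.one_apply_ne hij]

lemma map_smul' (σ : F ≃+* F) (c : F) (A : Matrix ι ι F) :
    ((c • A).map σ) = σ c • (A.map σ) := by
  ext i j
  simp

/-- the sesquilinear form `u ⬝ M σ(v)` -/
def sform (σ : F ≃+* F) (M : Matrix ι ι F) (u v : ι → F) : F := bform M u (fun j => σ (v j))

lemma map_mulVec' (σ : F ≃+* F) (x : Matrix ι ι F) (v : ι → F) :
    (fun j => σ ((x *ᵥ v) j)) = (x.map σ) *ᵥ (fun j => σ (v j)) := by
  funext i
  simp [Matrix.mulVec, dotProduct, map_sum, map_mul]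

lemma map_dot' (σ : F ≃+* F) (u v : ι → F) :
    σ (u ⬝ᵥ v) = (fun j => σ (u j)) ⬝ᵥ (fun j => σ (v j)) := by
  simp [dotProduct, map_sum, map_mul]

lemma sform_conj (σ : F ≃+* F) (hσ2 : ∀ a, σ (σ a) = a) (M : Matrix ι ι F) (u v : ι → F) :
    σ (sform σ M u v) = sform σ ((M.map σ)ᵀ) v u := by
  unfold sform
  rw [← bform_swap]
  unfold bform
  rw [map_dot', map_mulVec']
  simp only [hσ2]

lemma form_inv2 (M x y : Matrix ι ι F) (h : xᵀ * M * y = M) (u v : ι → F) :
    (x *ᵥ u) ⬝ᵥ (M *ᵥ (y *ᵥ v)) = u ⬝ᵥ (M *ᵥ v) := by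
  have : (x *ᵥ u) ⬝ᵥ (M *ᵥ (y *ᵥ v)) = u ⬝ᵥ ((xᵀ * M * y) *ᵥ v) := by
    rw [← Matrix.mulVec_mulVec, ← Matrix.mulVec_mulVec, Matrix.dotProduct_mulVec u xᵀ,
      Matrix.vecMul_transpose]
  rw [this, h]

/-- the invariant sesquilinear matrix obtained from PK8 -/
theorem exists_invariant_sesq [Nonempty ι] (R : Subgroup (GL ι F)) (hspan : spanAlg R = ⊤)
    (h8 : ∀ ρ : R →* GL ι F, (∀ z : R, (z : GL ι F) ∈ scalars ι F → ρ z = z) →
      ∃ B : GL ι F, ∀ x : R, ρ x = B * x * B⁻¹)
    (σ : F ≃+* F) (hσ2 : ∀ a, σ (σ a) = a)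
    (hz : ∀ z ∈ R, ∀ c : F, (z : Matrix ι ι F) = c • (1 : Matrix ι ι F) → c * σ c = 1) :
    ∃ (M : GL ι F) (c : F),
      (∀ x ∈ R, (x : Matrix ι ι F)ᵀ * (M : Matrix ι ι F) * (x : Matrix ι ι F).map σ = M) ∧
      ((M : Matrix ι ι F).map σ)ᵀ = c • (M : Matrix ι ι F) ∧ c * σ c = 1 := by
  obtain ⟨B, hB⟩ := h8 ((smap σ).comp (tinv.comp R.subtype)) (by
    intro z hzs
    obtain ⟨c, hc⟩ := (mem_scalars_iff _).mp hzs
    have hcc := hz z z.2 c hc
    have hsc : (σ (c : F))⁻¹ = c := inv_eq_of_mul_eq_one_left hcc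
    have hinv : (((z : GL ι F))⁻¹ : GL ι F) = ⟨(c⁻¹ : Fˣ).val • 1, (c : F) • 1, by
        rw [Matrix.smul_mul, Matrix.one_mul, smul_smul, ← Units.val_mul, inv_mul_cancel, Units.val_one, one_smul], by
        rw [Matrix.smul_mul, Matrix.one_mul, smul_smul, ← Units.val_mul, mul_inv_cancel, Units.val_one, one_smul]⟩ := by
      apply inv_eq_of_mul_eq_one_right
      apply Units.ext
      rw [Units.val_mul, hc]
      simp only [Units.val_one]
      rw [Matrix.smul_mul, Matrix.one_mul, smul_smul, ← Units.val_mul, mul_inv_cancel, Units.val_one, one_smul]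
    apply Units.ext
    simp only [MonoidHom.coe_comp, Subgroup.coe_subtype, Function.comp_apply, smap_val, tinv_val, hinv, hc]
    rw [Matrix.transpose_smul, Matrix.transpose_one, map_smul_one, Units.val_inv_eq_inv_val, map_inv₀, hsc])
  have key : ∀ x ∈ R, tr x * smap σ B * smap σ x = smap σ B := by
    intro x hx
    have := hB ⟨x, hx⟩
    simp only [MonoidHom.coe_comp, Subgroup.coe_subtype, Function.comp_apply] at this
    have h2 := congrArg (smap σ) this
    rw [smap_smap σ hσ2, map_mul, map_mul, map_inv] at h2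
    unfold tr
    rw [h2]
    group
  have key' : ∀ x ∈ R, tr x * tr B * smap σ x = tr B := by
    intro x hx
    have h1 := congrArg (smap σ) (key x hx)
    rw [map_mul, map_mul, smap_smap σ hσ2, smap_smap σ hσ2, smap_tr] at h1
    have h2 := congrArg tr h1
    rw [tr_mul, tr_mul, tr_tr, ← mul_assoc] at h2
    exact h2
  have hcomm : ∀ x ∈ R, ((smap σ B)⁻¹ * tr B) * smap σ x = smap σ x * ((smap σ B)⁻¹ * tr B) := by
    intro x hx
    have h1 := key x hx
    have h2 := key' x hx
    have h3 : (smap σ x)⁻¹ * ((smap σ B)⁻¹ * tr B) * smap σ x =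
        (tr x * smap σ B * smap σ x)⁻¹ * (tr x * tr B * smap σ x) := by group
    rw [h1, h2] at h3
    calc ((smap σ B)⁻¹ * tr B) * smap σ x
        = smap σ x * ((smap σ x)⁻¹ * ((smap σ B)⁻¹ * tr B) * smap σ x) := by group
      _ = smap σ x * ((smap σ B)⁻¹ * tr B) := by rw [h3]
  obtain ⟨c', hc'⟩ := scalar_of_commute R hspan ((smap σ ((smap σ B)⁻¹ * tr B) : GL ι F) : Matrix ι ι F) (by
    intro x hx
    have h := congrArg (smap σ) (hcomm x hx)
    rw [map_mul, map_mul (smap σ) (smap σ x), smap_smap σ hσ2] at h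
    have := congrArg (fun g : GL ι F => (g : Matrix ι ι F)) h
    simpa only [Units.val_mul] using this)
  have hC : (((smap σ B)⁻¹ * tr B : GL ι F) : Matrix ι ι F) = σ c' • 1 := by
    have h := congrArg (fun A : Matrix ι ι F => A.map σ) hc'
    simp only [smap_val] at h
    rw [map_map_self σ hσ2, map_smul_one] at h
    exact h
  have hstar : (B : Matrix ι ι F)ᵀ = σ c' • ((smap σ B : GL ι F) : Matrix ι ι F) := by
    have hC' : (((smap σ B)⁻¹ : GL ι F) : Matrix ι ι F) * (B : Matrix ι ι F)ᵀ = σ c' • 1 := by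
      rw [← hC, Units.val_mul, tr_val]
    calc (B : Matrix ι ι F)ᵀ
        = (((smap σ B : GL ι F) : Matrix ι ι F) * (((smap σ B)⁻¹ : GL ι F) : Matrix ι ι F)) * (B : Matrix ι ι F)ᵀ := by
          rw [← Units.val_mul, mul_inv_cancel, Units.val_one, one_mul]
      _ = ((smap σ B : GL ι F) : Matrix ι ι F) * ((((smap σ B)⁻¹ : GL ι F) : Matrix ι ι F) * (B : Matrix ι ι F)ᵀ) :=
          mul_assoc _ _ _
      _ = σ c' • ((smap σ B : GL ι F) : Matrix ι ι F) := by rw [hC', Matrix.mul_smul, Matrix.mul_one]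
  have hstar' : (((smap σ B : GL ι F) : Matrix ι ι F).map σ)ᵀ = σ c' • ((smap σ B : GL ι F) : Matrix ι ι F) := by
    rw [smap_val, map_map_self σ hσ2, hstar, smap_val]
  have hcc : σ c' * σ (σ c') = 1 := by
    -- B = (Bᵀ)ᵀ = (c • B̄)ᵀ = c • (B̄)ᵀ = c • (Bᵀ)‾ = c • (c • B̄)‾ = c • σ c • B
    have h1 : (B : Matrix ι ι F) = (σ c' * σ (σ c')) • (B : Matrix ι ι F) := by
      have hB2 : ((B : Matrix ι ι F).map σ)ᵀ = σ (σ c') • (B : Matrix ι ι F) := by
        have := congrArg (fun A : Matrix ι ι F => A.map σ) hstar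
        simp only [smap_val] at this
        rw [map_smul', map_map_self σ hσ2] at this
        rw [← this]
        ext i j; simp
      calc (B : Matrix ι ι F) = ((B : Matrix ι ι F)ᵀ)ᵀ := (Matrix.transpose_transpose _).symm
        _ = (σ c' • ((B : Matrix ι ι F).map σ))ᵀ := by rw [hstar, smap_val]
        _ = σ c' • ((B : Matrix ι ι F).map σ)ᵀ := Matrix.transpose_smul _ _
        _ = (σ c' * σ (σ c')) • (B : Matrix ι ι F) := by rw [hB2, smul_smul]
    have h2 : (1 : Matrix ι ι F) = (σ c' * σ (σ c')) • (1 : Matrix ι ι F) := by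
      have := congrArg (fun A => A * ((B⁻¹ : GL ι F) : Matrix ι ι F)) h1
      simp only [Matrix.smul_mul, ← Units.val_mul, mul_inv_cancel, Units.val_one] at this
      exact this
    obtain ⟨i⟩ := ‹Nonempty ι›
    have := congrFun (congrFun h2 i) i
    simpa using this.symm
  refine ⟨smap σ B, σ c', ?_, hstar', hcc⟩
  intro x hx
  have hk := congrArg (fun g : GL ι F => (g : Matrix ι ι F)) (key x hx)
  simp only [Units.val_mul, tr_val, smap_val] at hk
  simpa only [smap_val] using hk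

theorem PK9b_core [Nonempty ι] (R : Subgroup (GL ι F)) (hspan : spanAlg R = ⊤)
    (h8 : ∀ ρ : R →* GL ι F, (∀ z : R, (z : GL ι F) ∈ scalars ι F → ρ z = z) →
      ∃ B : GL ι F, ∀ x : R, ρ x = B * x * B⁻¹)
    (σ : F ≃+* F) (hσ : σ ≠ RingEquiv.refl F) (hσ2 : ∀ a, σ (σ a) = a)
    (hz : ∀ z ∈ R, ∀ c : F, (z : Matrix ι ι F) = c • (1 : Matrix ι ι F) → c * σ c = 1) :
    ∃ f : (ι → F) → (ι → F) → F, IsUnitaryForm σ f ∧ FixesForm (matrixSet R) f := by
  obtain ⟨M, c, hinv, hstar, hcc⟩ := exists_invariant_sesq R hspan h8 σ hσ2 hz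
  -- Hilbert 90
  obtain ⟨μ, hμ0, hμ⟩ : ∃ μ : F, μ ≠ 0 ∧ σ μ * c = μ := by
    have hform : ∀ θ : F, σ (θ + c * σ θ) * c = θ + c * σ θ := by
      intro θ
      rw [map_add, map_mul, hσ2]
      linear_combination θ * hcc
    by_cases h1 : (1 : F) + c * σ 1 = 0
    · have hc1 : c = -1 := by
        rw [map_one, mul_one] at h1
        exact eq_neg_of_add_eq_zero_right h1
      obtain ⟨θ, hθ⟩ : ∃ θ : F, σ θ ≠ θ := by
        by_contra hcon
        push Not at hcon
        apply hσ
        ext a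
        exact hcon a
      refine ⟨θ + c * σ θ, ?_, hform θ⟩
      rw [hc1]
      intro h0
      apply hθ
      have : θ - σ θ = 0 := by linear_combination h0
      exact (sub_eq_zero.mp this).symm
    · exact ⟨1 + c * σ 1, h1, hform 1⟩
  have hbil := bform_bilinear (M : Matrix ι ι F)
  refine ⟨fun u v => μ * sform σ (M : Matrix ι ι F) u v, ⟨hσ, hσ2, ?_, ?_, ?_, ?_⟩, ?_⟩
  · intro x y v
    show μ * sform σ _ (x + y) v = μ * sform σ _ x v + μ * sform σ _ y v
    unfold sform
    rw [hbil.add_left]; ring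
  · intro a x v
    show μ * sform σ _ (a • x) v = a * (μ * sform σ _ x v)
    unfold sform
    rw [hbil.smul_left]; ring
  · intro v w
    show μ * sform σ _ v w = σ (μ * sform σ _ w v)
    rw [map_mul, sform_conj σ hσ2, hstar]
    have : sform σ (c • (M : Matrix ι ι F)) v w = c * sform σ (M : Matrix ι ι F) v w := by
      simp [sform, bform, Matrix.smul_mulVec]
    rw [this, ← mul_assoc, hμ]
  · intro v hv
    constructor
    · have hv' : (fun j => σ (v j)) ≠ 0 := by
        intro h0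
        apply hv
        funext j
        have := congrFun h0 j
        simpa using this
      obtain ⟨x, hx⟩ := nondeg_left M _ hv'
      exact ⟨x, mul_ne_zero hμ0 hx⟩
    · obtain ⟨y, hy⟩ := nondeg_right M v hv
      refine ⟨fun j => σ (y j), mul_ne_zero hμ0 ?_⟩
      unfold sform bform
      simp only [hσ2]
      exact hy
  · rintro _ ⟨x, hx, rfl⟩ u v
    show μ * sform σ _ _ _ = μ * sform σ _ u v
    congr 1
    unfold sform bform
    rw [map_mulVec']
    exact form_inv2 _ _ _ (hinv x hx) u _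

end Cfsg.Agent.Lib.Helper82_Asch_PK9Core
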