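import Mathlib
import Cfsg.Agent.Lib.Helper98_AschDefs
import Cfsg.Agent.Lib.Helper52_Asch_PK8
import Cfsg.Agent.Lib.Helper82_Asch_PK9Core

/-!
# S5630 package PK9a (helper82): exact package statement, from `Helper82_Asch_PK9Core` and helper52's PK8.
-/

set_option autoImplicit false

namespace Cfsg.Agent.Lib.Helper82_Asch_PK9a

open Cfsg Cfsg.Geo Matrix Cfsg.Agent.Lib.Helper98_AschDefs
open scoped Kronecker

variable {ι : Type} [Fintype ι] [DecidableEq ι] {F : Type*} [Field F]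

/-- PK9a: scalars of `R` are `±1`: `R` fixes a non-degenerate quadratic form or a symplectic form -/
theorem PK9a [Finite F] [Nonempty ι] (R : Subgroup (GL ι F)) (hspan : spanAlg R = ⊤) (hcomm : ⁅R, R⁆ ≤ scalars ι F)
    (h2 : (2 : F) ≠ 0)
    (hz : ∀ z ∈ R, ∀ c : F, (z : Matrix ι ι F) = c • (1 : Matrix ι ι F) → c * c = 1) :
    (∃ Q : (ι → F) → F, IsNondegenerateQuadraticForm Q ∧ FixesQuadForm (matrixSet R) Q) ∨
    (∃ f : (ι → F) → (ι → F) → F, IsSymplecticForm f ∧ FixesForm (matrixSet R) f) :=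
  Cfsg.Agent.Lib.Helper82_Asch_PK9Core.PK9a_core R hspan
    (fun ρ hρ => Cfsg.Agent.Lib.Helper52_Asch_PK8.PK8 R hspan hcomm ρ hρ) h2 hz

end Cfsg.Agent.Lib.Helper82_Asch_PK9a
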