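import Mathlib
import Cfsg.Agent.Lib.Helper98_AschDefs
import Cfsg.Agent.Lib.Helper52_Asch_PK8
import Cfsg.Agent.Lib.Helper82_Asch_PK9Core

/-!
# S5630 package PK9b (helper82): exact package statement, from `Helper82_Asch_PK9Core` and helper52's PK8.
-/

set_option autoImplicit false

namespace Cfsg.Agent.Lib.Helper82_Asch_PK9b

open Cfsg Cfsg.Geo Matrix Cfsg.Agent.Lib.Helper98_AschDefs
open scoped Kronecker

variable {ι : Type} [Fintype ι] [DecidableEq ι] {F : Type*} [Field F]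

/-- PK9b: scalars of `R` have norm one for an involutory automorphism: `R` fixes a unitary form -/
theorem PK9b [Finite F] [Nonempty ι] (R : Subgroup (GL ι F)) (hspan : spanAlg R = ⊤) (hcomm : ⁅R, R⁆ ≤ scalars ι F)
    (σ : F ≃+* F) (hσ : σ ≠ RingEquiv.refl F) (hσ2 : ∀ a, σ (σ a) = a)
    (hz : ∀ z ∈ R, ∀ c : F, (z : Matrix ι ι F) = c • (1 : Matrix ι ι F) → c * σ c = 1) :
    ∃ f : (ι → F) → (ι → F) → F, IsUnitaryForm σ f ∧ FixesForm (matrixSet R) f :=
  Cfsg.Agent.Lib.Helper82_Asch_PK9Core.PK9b_core R hspan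
    (fun ρ hρ => Cfsg.Agent.Lib.Helper52_Asch_PK8.PK8 R hspan hcomm ρ hρ) σ hσ hσ2 hz

end Cfsg.Agent.Lib.Helper82_Asch_PK9b
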