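import Mathlib
import Cfsg.Agent.Lib.Helper98_AschDefs
import Cfsg.Agent.Lib.Helper98_AschCliff
import Cfsg.Agent.Lib.Helper29_Asch_PKG0
import Cfsg.Agent.Lib.Helper35_Asch_PK11
import Cfsg.Agent.Lib.Helper35_Asch_PK5
import Cfsg.Agent.Lib.Helper4_Asch_PK10
import Cfsg.Agent.Lib.Helper52_Asch_PK7
import Cfsg.Agent.Lib.Helper60_Asch_PK13
import Cfsg.Agent.Lib.Helper82_Asch_PK9a
import Cfsg.Agent.Lib.Helper82_Asch_PK9b
import Cfsg.Agent.Lib.Helper27_Asch_PKN1
import Cfsg.Agent.Lib.Helper29_Asch_PKP1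
import Cfsg.Agent.Lib.Helper3_Asch_PKP3
import Cfsg.Agent.Lib.Helper49_Asch_PK12
import Cfsg.Agent.Lib.Helper50_Asch_PKN2
import Cfsg.Agent.Lib.Helper52_Asch_PK2
import Cfsg.Agent.Lib.Helper54_Asch_PKP2

/-!
# Aschbacher's theorem for subgroups of `GL_n(F)`, `F` finite, `n ≥ 3` (S5630; helper98)

Assembly of the packages `PK1`-`PK13`, `PKG0`, `PKN1`, `PKN2`, `PKP1`-`PKP3` (landed by helper3, helper4, helper10,
helper27, helper29, helper35, helper49, helper50, helper52, helper54, helper55, helper60, helper82) with Clifford's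
theorem for normalized subalgebras (`Helper98_AschCliff`).
-/

set_option autoImplicit false
set_option linter.unusedSectionVars false
set_option linter.unusedVariables false
set_option linter.style.haveILetI false

namespace Cfsg.Agent.Lib.Helper98_AschMain

open Cfsg Cfsg.Geo Matrix Cfsg.Agent.Lib.Helper98_AschDefs Cfsg.Agent.Lib
open scoped Kronecker

variable {ι : Type} [Fintype ι] [DecidableEq ι] {F : Type*} [Field F]

/-- a subspace invariant under a spanning group is invariant under all matrices -/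
lemma map_le_of_span {N : Subgroup (GL ι F)} (hspan : spanAlg N = ⊤) {W : Submodule F (ι → F)}
    (hW : ∀ s ∈ matrixSet N, W.map (Matrix.toLin' s) ≤ W) (a : Matrix ι ι F) :
    W.map (Matrix.toLin' a) ≤ W := by
  have ha : a ∈ spanAlg N := by rw [hspan]; trivial
  rw [mem_spanAlg_iff] at ha
  induction ha using Submodule.span_induction with
  | mem x hx => exact hW x hx
  | zero =>
    rintro _ ⟨v, _, rfl⟩
    simp
  | add x y _ _ hx hy =>
    rintro _ ⟨v, hv, rfl⟩
    rw [map_add, LinearMap.add_apply]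
    exact W.add_mem (hx ⟨v, hv, rfl⟩) (hy ⟨v, hv, rfl⟩)
  | smul c x _ hx =>
    rintro _ ⟨v, hv, rfl⟩
    rw [map_smul, LinearMap.smul_apply]
    exact W.smul_mem c (hx ⟨v, hv, rfl⟩)

/-- a spanning group acts irreducibly -/
lemma irr_of_span {N : Subgroup (GL ι F)} (hspan : spanAlg N = ⊤) : ActsIrreducibly (matrixSet N) := by
  intro W hW
  by_cases h0 : W = ⊥
  · exact Or.inl h0
  right
  obtain ⟨w, hw, hw0⟩ := (Submodule.ne_bot_iff W).1 h0
  obtain ⟨i, hi⟩ : ∃ i, w i ≠ 0 := by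
    by_contra hcon
    simp only [not_exists, not_not] at hcon
    exact hw0 (funext hcon)
  rw [eq_top_iff]
  intro v _
  let a : Matrix ι ι F := Matrix.of (fun k l => if l = i then v k / w i else 0)
  have h1 : a *ᵥ w = v := by
    ext k
    simp only [Matrix.mulVec, dotProduct, Matrix.of_apply, a]
    rw [Finset.sum_eq_single i]
    · simp [hi]
    · intro b _ hb
      simp [hb]
    · simp
  have h2 := map_le_of_span hspan hW a ⟨w, hw, rfl⟩
  rwa [Matrix.toLin'_apply, h1] at h2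

/-- a spanning group acts absolutely irreducibly -/
lemma absIrr_of_span {N : Subgroup (GL ι F)} (hspan : spanAlg N = ⊤) :
    ActsAbsolutelyIrreducibly (matrixSet N) := by
  refine ⟨irr_of_span hspan, fun M hM => ?_⟩
  apply Helper52_Asch_PK7.exists_smul_one_of_commute N hspan
  intro y hy
  exact (hM _ (coe_mem_matrixSet hy)).symm

/-- a reducible group lies in a member of class 1 -/
lemma inClass_of_reducible [Fintype F] (n : ℕ) (H : Subgroup (GL (Fin n) F))
    (h : ¬ ActsIrreducibly (matrixSet H)) : InClass n H := by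
  unfold ActsIrreducibly at h
  simp only [not_forall] at h
  obtain ⟨W, hW, hW2⟩ := h
  rw [not_or] at hW2
  refine ⟨subspaceStabilizer W, Or.inl ⟨W, hW2.1, hW2.2, rfl⟩, ?_⟩
  intro g hg v
  change v ∈ (W : Set _) ↔ (g : Matrix (Fin n) (Fin n) F) *ᵥ v ∈ (W : Set _)
  constructor
  · intro hv
    have := hW _ (coe_mem_matrixSet hg) ⟨v, hv, rfl⟩
    rwa [Matrix.toLin'_apply] at this
  · intro hv
    have := hW _ (coe_mem_matrixSet (H.inv_mem hg)) ⟨_, hv, rfl⟩
    rw [Matrix.toLin'_apply, Matrix.mulVec_mulVec, ← Units.val_mul, inv_mul_cancel, Units.val_one,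
      Matrix.one_mulVec] at this
    exact this



/-- the centre of a subalgebra, as a subalgebra of the matrix algebra -/
def centerAlg (A : Subalgebra F (Matrix ι ι F)) : Subalgebra F (Matrix ι ι F) :=
  A ⊓ Subalgebra.centralizer F (A : Set (Matrix ι ι F))

lemma mem_centerAlg {A : Subalgebra F (Matrix ι ι F)} {x : Matrix ι ι F} :
    x ∈ centerAlg A ↔ x ∈ A ∧ ∀ a ∈ A, x * a = a * x := by
  unfold centerAlg
  rw [Algebra.mem_inf, Subalgebra.mem_centralizer_iff]
  constructor
  · rintro ⟨h1, h2⟩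
    exact ⟨h1, fun a ha => (h2 a ha).symm⟩
  · rintro ⟨h1, h2⟩
    exact ⟨h1, fun a ha => (h2 a ha).symm⟩

lemma normalizesAlg_centerAlg {H : Subgroup (GL ι F)} {A : Subalgebra F (Matrix ι ι F)}
    (hA : NormalizesAlg H A) : NormalizesAlg H (centerAlg A) := by
  intro h hh x hx
  rw [mem_centerAlg] at hx ⊢
  refine ⟨hA h hh x hx.1, fun a ha => ?_⟩
  have h1 := hA h⁻¹ (H.inv_mem hh) a ha
  rw [inv_inv] at h1
  have h2 := hx.2 _ h1
  have e1 : (h : Matrix ι ι F) * ((h⁻¹ : GL ι F) : Matrix ι ι F) = 1 := by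
    rw [← Units.val_mul, mul_inv_cancel, Units.val_one]
  have e2 : ((h⁻¹ : GL ι F) : Matrix ι ι F) * (h : Matrix ι ι F) = 1 := by
    rw [← Units.val_mul, inv_mul_cancel, Units.val_one]
  calc (h : Matrix ι ι F) * x * ((h⁻¹ : GL ι F) : Matrix ι ι F) * a
      = (h : Matrix ι ι F) * (x * (((h⁻¹ : GL ι F) : Matrix ι ι F) * a * (h : Matrix ι ι F))) *
          ((h⁻¹ : GL ι F) : Matrix ι ι F) := by
        simp only [mul_assoc, e1, mul_one]
    _ = (h : Matrix ι ι F) * ((((h⁻¹ : GL ι F) : Matrix ι ι F) * a * (h : Matrix ι ι F)) * x) *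
          ((h⁻¹ : GL ι F) : Matrix ι ι F) := by rw [h2]
    _ = a * ((h : Matrix ι ι F) * x * ((h⁻¹ : GL ι F) : Matrix ι ι F)) := by
        simp only [← mul_assoc, e1, one_mul]


/-- Kronecker product with a `1 × 1` left factor is a scalar matrix -/
lemma kron_one_of_d_one {s : ℕ} (M : Matrix (Fin 1) (Fin 1) F) :
    M ⊗ₖ (1 : Matrix (Fin s) (Fin s) F) = (M 0 0) • (1 : Matrix (Fin 1 × Fin s) (Fin 1 × Fin s) F) := by
  ext ⟨i, a⟩ ⟨j, b⟩
  have hi : i = 0 := Subsingleton.elim _ _
  have hj : j = 0 := Subsingleton.elim _ _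
  subst hi hj
  simp [Matrix.kroneckerMap_apply, Matrix.one_apply, Matrix.smul_apply]

/-- every matrix on `Fin d × Fin 1` is `M ⊗ₖ 1` -/
lemma exists_kron_of_s_one {d : ℕ} (X : Matrix (Fin d × Fin 1) (Fin d × Fin 1) F) :
    ∃ M : Matrix (Fin d) (Fin d) F, X = M ⊗ₖ (1 : Matrix (Fin 1) (Fin 1) F) := by
  refine ⟨Matrix.of fun i j => X (i, 0) (j, 0), ?_⟩
  ext ⟨i, a⟩ ⟨j, b⟩
  have ha : a = 0 := Subsingleton.elim _ _
  have hb : b = 0 := Subsingleton.elim _ _
  subst ha hb
  simp [Matrix.kroneckerMap_apply]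

/-- **The dichotomy**: a subgroup normalized by an irreducible `H` outside the geometric classes is scalar or spanning. -/
theorem dichotomy [Fintype F] (n : ℕ) (hn : 3 ≤ n) (H : Subgroup (GL (Fin n) F))
    (hirr : ActsIrreducibly (matrixSet H)) (hcl : ¬ InClass n H)
    (N : Subgroup (GL (Fin n) F)) (hN : NormalizesGrp H N) :
    N ≤ scalars (Fin n) F ∨ spanAlg N = ⊤ := by
  haveI : Nonempty (Fin n) := ⟨⟨0, by omega⟩⟩
  have hA := normalizesAlg_spanAlg hN
  rcases Helper98_AschCliff.clifford H hirr (spanAlg N) hA with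
    ⟨t, m, D, hD, hle, _, _⟩ | ⟨⟨z, hz, hzc, hzs⟩, hinv⟩ | ⟨d, s, e, P, hT⟩
  · exfalso
    exact hcl ⟨decompositionStabilizer D, Or.inr (Or.inr (Or.inr (Or.inl ⟨t, m, D, hD, rfl⟩))), hle⟩
  · exfalso
    obtain ⟨r, K', hr, hK', hle⟩ := Helper35_Asch_PK5.PK5 n H (centerAlg (spanAlg N))
      (fun x hx y hy => (mem_centerAlg.1 hx).2 y (mem_centerAlg.1 hy).1)
      (fun x hx hx0 => by
        obtain ⟨y, hy, hyc, hxy⟩ := hinv x (mem_centerAlg.1 hx).1 (mem_centerAlg.1 hx).2 hx0
        exact ⟨y, mem_centerAlg.2 ⟨hy, hyc⟩, hxy⟩)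
      ⟨z, mem_centerAlg.2 ⟨hz, hzc⟩, hzs⟩ (normalizesAlg_centerAlg hA)
    exact hcl ⟨subalgebraNormalizer K',
      Or.inr (Or.inr (Or.inr (Or.inr (Or.inl ⟨r, K', hr, hK', rfl⟩)))), hle⟩
  · have hcard : n = d * s := by
      have := Fintype.card_congr e
      simpa using this
    by_cases hd : d ≤ 1
    · left
      have hd1 : d = 1 := by
        rcases Nat.le_one_iff_eq_zero_or_eq_one.1 hd with h0 | h1
        · subst h0; omega
        · exact h1
      subst hd1
      intro g hg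
      obtain ⟨M, hM⟩ := (hT _).1 (coe_mem_spanAlg hg)
      have h1 : Matrix.reindex e.symm e.symm
          ((M 0 0) • (1 : Matrix (Fin 1 × Fin s) (Fin 1 × Fin s) F)) = (M 0 0) • 1 := by
        ext i j
        simp [Matrix.one_apply, Matrix.smul_apply]
      rw [kron_one_of_d_one, h1, Matrix.mul_smul, Matrix.smul_mul, mul_one, ← Units.val_mul,
        mul_inv_cancel, Units.val_one] at hM
      have hc : M 0 0 ≠ 0 := by
        intro h0
        rw [h0, zero_smul] at hM
        have h2 : (g : Matrix (Fin n) (Fin n) F) * ((g⁻¹ : GL (Fin n) F) : Matrix (Fin n) (Fin n) F) = 1 := by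
          rw [← Units.val_mul, mul_inv_cancel, Units.val_one]
        rw [hM, zero_mul] at h2
        exact zero_ne_one h2
      rw [mem_scalars_iff]
      exact ⟨Units.mk0 _ hc, hM⟩
    by_cases hs : s ≤ 1
    · right
      have hs1 : s = 1 := by
        rcases Nat.le_one_iff_eq_zero_or_eq_one.1 hs with h0 | h1
        · subst h0; omega
        · exact h1
      subst hs1
      rw [eq_top_iff]
      intro a _
      rw [hT]
      obtain ⟨M, hM⟩ := exists_kron_of_s_one
        (Matrix.reindex e e (((P⁻¹ : GL (Fin n) F) : Matrix (Fin n) (Fin n) F) * a * (P : Matrix (Fin n) (Fin n) F)))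
      refine ⟨M, ?_⟩
      rw [← hM, ← Matrix.reindex_symm, Equiv.symm_apply_apply]
      have e1 : (P : Matrix (Fin n) (Fin n) F) * ((P⁻¹ : GL (Fin n) F) : Matrix (Fin n) (Fin n) F) = 1 := by
        rw [← Units.val_mul, mul_inv_cancel, Units.val_one]
      calc a = ((P : Matrix (Fin n) (Fin n) F) * ((P⁻¹ : GL (Fin n) F) : Matrix (Fin n) (Fin n) F)) * a *
            ((P : Matrix (Fin n) (Fin n) F) * ((P⁻¹ : GL (Fin n) F) : Matrix (Fin n) (Fin n) F)) := by
            rw [e1, one_mul, mul_one]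
        _ = _ := by simp only [mul_assoc]
    · exfalso
      exact hcl (Helper52_Asch_PK2.PK2 n hn H (spanAlg N) hA d s e P hT (by omega) (by omega))



/-- the scalars form a cyclic group -/
instance scalars_isCyclic [Finite F] : IsCyclic (scalars ι F) := by
  unfold scalars
  exact isCyclic_of_surjective
    (Units.map (Matrix.scalar ι : F →+* Matrix ι ι F).toMonoidHom).rangeRestrict
    (MonoidHom.rangeRestrict_surjective _)

instance inf_scalars_isCyclic [Finite F] (N : Subgroup (GL ι F)) :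
    IsCyclic (N ⊓ scalars ι F : Subgroup (GL ι F)) :=
  isCyclic_of_injective (Subgroup.inclusion (inf_le_right : N ⊓ scalars ι F ≤ scalars ι F))
    (Subgroup.inclusion_injective _)

/-- if every element of `N` has `k`-th power one then the order of `N ⊓ scalars` divides `k` -/
lemma card_inf_scalars_dvd [Finite F] (N : Subgroup (GL ι F)) (k : ℕ) (hk : ∀ x ∈ N, x ^ k = 1) :
    Nat.card (N ⊓ scalars ι F : Subgroup (GL ι F)) ∣ k := by
  rw [← IsCyclic.exponent_eq_card]
  apply Monoid.exponent_dvd_of_forall_pow_eq_one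
  intro g
  apply Subtype.ext
  have := hk g.1 g.2.1
  simpa using this

/-- the order of `N ⊓ scalars` divides `|F| - 1` -/
lemma card_inf_scalars_dvd_card [Fintype F] [Nonempty ι] (N : Subgroup (GL ι F)) :
    Nat.card (N ⊓ scalars ι F : Subgroup (GL ι F)) ∣ Fintype.card F - 1 := by
  have h1 : Nat.card (N ⊓ scalars ι F : Subgroup (GL ι F)) ∣ Nat.card (scalars ι F) :=
    Subgroup.card_dvd_of_le inf_le_right
  have hinj : Function.Injective (Units.map (Matrix.scalar ι : F →+* Matrix ι ι F).toMonoidHom) := by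
    apply Units.map_injective
    intro a b hab
    exact (Matrix.scalar_inj (n := ι)).1 hab
  have h2 : Nat.card (scalars ι F) = Nat.card Fˣ :=
    (Nat.card_congr (MonoidHom.ofInjective hinj).toEquiv).symm
  rw [h2, Nat.card_units, Nat.card_eq_fintype_card (α := F)] at h1
  exact h1


lemma smul_one_pow [Nonempty ι] {c : F} {k : ℕ}
    (h : (c • (1 : Matrix ι ι F)) ^ k = 1) : c ^ k = 1 := by
  rw [smul_pow, one_pow] at h
  obtain ⟨i⟩ := ‹Nonempty ι›
  have := congrFun (congrFun h i) i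
  simpa using this

lemma scalar_pow_of_mem [Nonempty ι] {N : Subgroup (GL ι F)} {k : ℕ} (hk : ∀ x ∈ N, x ^ k = 1)
    {g : GL ι F} (hg : g ∈ N) {c : F} (hc : (g : Matrix ι ι F) = c • (1 : Matrix ι ι F)) : c ^ k = 1 := by
  apply smul_one_pow (ι := ι)
  rw [← hc, ← Units.val_pow_eq_pow_val, hk g hg, Units.val_one]

lemma mem_scalars_of_coe_eq {g : GL ι F} {c : F} [Nonempty ι]
    (hc : (g : Matrix ι ι F) = c • (1 : Matrix ι ι F)) : g ∈ scalars ι F := by
  have hc0 : c ≠ 0 := by
    intro h0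
    rw [h0, zero_smul] at hc
    have h2 : (g : Matrix ι ι F) * ((g⁻¹ : GL ι F) : Matrix ι ι F) = 1 := by
      rw [← Units.val_mul, mul_inv_cancel, Units.val_one]
    rw [hc, zero_mul] at h2
    exact zero_ne_one h2
  rw [mem_scalars_iff]
  exact ⟨Units.mk0 c hc0, hc⟩

lemma scalar_pow_card [Finite F] [Nonempty ι] {N : Subgroup (GL ι F)}
    {g : GL ι F} (hg : g ∈ N) {c : F} (hc : (g : Matrix ι ι F) = c • (1 : Matrix ι ι F)) :
    c ^ Nat.card (N ⊓ scalars ι F : Subgroup (GL ι F)) = 1 := by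
  have hg2 : g ∈ N ⊓ scalars ι F := ⟨hg, mem_scalars_of_coe_eq hc⟩
  have h1 : (⟨g, hg2⟩ : (N ⊓ scalars ι F : Subgroup (GL ι F))) ^
      Nat.card (N ⊓ scalars ι F : Subgroup (GL ι F)) = 1 := pow_card_eq_one'
  have h2 : g ^ Nat.card (N ⊓ scalars ι F : Subgroup (GL ι F)) = 1 := by
    have := congrArg Subtype.val h1
    simpa using this
  apply smul_one_pow (ι := ι)
  rw [← hc, ← Units.val_pow_eq_pow_val, h2, Units.val_one]

open scoped commutatorElement in
lemma inf_scalars_ne_bot {N : Subgroup (GL ι F)} (hNZ : ¬ N ≤ scalars ι F) (hspan : spanAlg N = ⊤)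
    (hcomm : ⁅N, N⁆ ≤ scalars ι F) : (N ⊓ scalars ι F : Subgroup (GL ι F)) ≠ ⊥ := by
  intro h0
  apply hNZ
  intro g hg
  apply Helper52_Asch_PK7.mem_scalars_of_commute N hspan
  intro y hy
  have h1 : ⁅y, g⁆ ∈ N ⊓ scalars ι F := by
    refine ⟨?_, hcomm (Subgroup.commutator_mem_commutator hy hg)⟩
    rw [commutatorElement_def]
    exact N.mul_mem (N.mul_mem (N.mul_mem hy hg) (N.inv_mem hy)) (N.inv_mem hg)
  rw [h0, Subgroup.mem_bot, commutatorElement_eq_one_iff_mul_comm] at h1
  rw [← Units.val_mul, ← Units.val_mul, h1]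

lemma le_subgroupNormalizer {H N : Subgroup (GL ι F)} (hnorm : NormalizesGrp H N) :
    H ≤ subgroupNormalizer N := by
  intro h hh
  unfold subgroupNormalizer
  rw [Subgroup.mem_normalizer_iff]
  intro x
  constructor
  · exact hnorm h hh x
  · intro hx
    have := hnorm h⁻¹ (H.inv_mem hh) _ hx
    simpa [mul_assoc] using this


/-- the unitary sub-case -/
lemma unitary_subcase [Fintype F] (n : ℕ) (hn : 3 ≤ n) (H N : Subgroup (GL (Fin n) F))
    (hnorm : NormalizesGrp H N) (hspan : spanAlg N = ⊤) (hcomm : ⁅N, N⁆ ≤ scalars (Fin n) F)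
    (p j : ℕ) (hp : p.Prime) (hj : 0 < j) (hcard : Fintype.card F = p ^ (2 * j))
    (k : ℕ) (hk : ∀ x ∈ N, x ^ k = 1) (hkd : k ∣ p ^ j + 1) : InClass n H := by
  haveI : Nonempty (Fin n) := ⟨⟨0, by omega⟩⟩
  obtain ⟨σ, hσ, hσ2, hσp⟩ := Helper60_Asch_PK13.PK13b p j hp hj hcard
  obtain ⟨f, hf, hfix⟩ := Helper82_Asch_PK9b.PK9b N hspan hcomm σ hσ hσ2 (by
    intro z hz c hc
    have h1 := scalar_pow_of_mem hk hz hc
    rw [hσp, ← pow_succ']
    obtain ⟨q, hq⟩ := hkd
    rw [hq, pow_mul, h1, one_pow])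
  have hle := Helper4_Asch_PK10.PK10b N H hspan hnorm σ f hf hfix
  exact ⟨similarityGroup f,
    Or.inr (Or.inr (Or.inr (Or.inr (Or.inr (Or.inr (Or.inr (Or.inr (Or.inr (Or.inr (Or.inl
      ⟨σ, f, hf, hn, rfl⟩)))))))))), hle⟩


/-- the subfield sub-case -/
lemma subfield_subcase [Fintype F] (n : ℕ) (hn : 3 ≤ n) (H N : Subgroup (GL (Fin n) F))
    (hnorm : NormalizesGrp H N) (hspan : spanAlg N = ⊤) (hcomm : ⁅N, N⁆ ≤ scalars (Fin n) F)
    (F₀ : Subfield F) (hF₀ : F₀ ≠ ⊤)
    (hz : ∀ z ∈ N, ∀ c : F, (z : Matrix (Fin n) (Fin n) F) = c • (1 : Matrix (Fin n) (Fin n) F) → c ∈ F₀) :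
    InClass n H := by
  haveI : Nonempty (Fin n) := ⟨⟨0, by omega⟩⟩
  have hreal := Helper49_Asch_PK12.PK12 N hspan hcomm F₀ hz
  obtain ⟨F₁, r, P, hr, hcard, hle⟩ := Helper35_Asch_PK11.PK11 N H hspan hnorm F₀ hF₀ hreal
  exact ⟨subfieldSubgroup F₁ P,
    Or.inr (Or.inr (Or.inr (Or.inr (Or.inr (Or.inr (Or.inl ⟨F₁, r, P, hr, hcard, rfl⟩)))))), hle⟩

/-- the orthogonal / symplectic sub-case -/
lemma pm_one_subcase [Fintype F] (n : ℕ) (hn : 3 ≤ n) (H N : Subgroup (GL (Fin n) F))
    (hnorm : NormalizesGrp H N) (hspan : spanAlg N = ⊤) (hcomm : ⁅N, N⁆ ≤ scalars (Fin n) F)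
    (h2 : (2 : F) ≠ 0) (hodd : Odd (Fintype.card F))
    (hz : ∀ z ∈ N, ∀ c : F, (z : Matrix (Fin n) (Fin n) F) = c • (1 : Matrix (Fin n) (Fin n) F) → c * c = 1) :
    InClass n H := by
  haveI : Nonempty (Fin n) := ⟨⟨0, by omega⟩⟩
  rcases Helper82_Asch_PK9a.PK9a N hspan hcomm h2 hz with ⟨Q, hQ, hfix⟩ | ⟨f, hf, hfix⟩
  · have hle := Helper4_Asch_PK10.PK10c N H hspan hnorm Q hQ h2 hfix
    exact ⟨quadSimilarityGroup Q,
      Or.inr (Or.inr (Or.inr (Or.inr (Or.inr (Or.inr (Or.inr (Or.inr (Or.inr (Or.inr (Or.inr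
        ⟨Q, hQ, hodd, hn, rfl⟩)))))))))), hle⟩
  · have hle := Helper4_Asch_PK10.PK10a N H hspan hnorm f hf.bilinear hf.nondegenerate hfix
    have heven : Even n := by
      have := Helper4_Asch_PK10.PK10e f hf
      simpa using this
    have h4 : 4 ≤ n := by
      obtain ⟨m, hm⟩ := heven
      omega
    exact ⟨similarityGroup f,
      Or.inr (Or.inr (Or.inr (Or.inr (Or.inr (Or.inr (Or.inr (Or.inr (Or.inr (Or.inl
        ⟨f, hf, heven, h4, rfl⟩))))))))), hle⟩


lemma two_ne_zero_of_odd_prime [Fintype F] {p : ℕ} [CharP F p] (hp : p.Prime) (hp2 : p ≠ 2) :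
    (2 : F) ≠ 0 := by
  intro h
  have h1 : ((2 : ℕ) : F) = 0 := by exact_mod_cast h
  rw [CharP.cast_eq_zero_iff F p] at h1
  exact hp2 ((Nat.prime_dvd_prime_iff_eq hp Nat.prime_two).1 h1)

lemma prime_ne_two_of_even_dvd {p e z : ℕ} (he : 0 < e) (hz : z ∣ p ^ e - 1) (h2 : 2 ∣ z) (hp : p.Prime) :
    p ≠ 2 := by
  intro h
  subst h
  have h1 : 2 ∣ 2 ^ e - 1 := h2.trans hz
  have h3 : 2 ∣ 2 ^ e := dvd_pow_self 2 he.ne'
  have h4 : 1 ≤ 2 ^ e := Nat.one_le_two_pow
  omega

/-- **the class-2 (nilpotent) case** -/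
theorem nilpotent_case [Fintype F] (n : ℕ) (hn : 3 ≤ n) (H N : Subgroup (GL (Fin n) F))
    (hnorm : NormalizesGrp H N) (hNZ : ¬ N ≤ scalars (Fin n) F)
    (hmin : ∀ N' : Subgroup (GL (Fin n) F), N' ≤ N → NormalizesGrp H N' → N' = N ∨ N' ≤ scalars (Fin n) F)
    (hspan : spanAlg N = ⊤) (hcomm : ⁅N, N⁆ ≤ scalars (Fin n) F) : InClass n H := by
  haveI : Nonempty (Fin n) := ⟨⟨0, by omega⟩⟩
  obtain ⟨r, hr, hpg, hexp⟩ := Helper27_Asch_PKN1.PKN1 H N hnorm hNZ hmin hspan hcomm (by simpa using hn)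
  set z := Nat.card (N ⊓ scalars (Fin n) F : Subgroup (GL (Fin n) F)) with hz
  have hz1 : z ≠ 1 := by
    intro h1
    apply inf_scalars_ne_bot hNZ hspan hcomm
    exact (Subgroup.card_eq_one).1 h1
  obtain ⟨p, e, e₀, hp, hchar, hcardF, he₀, hdvd, hzd, hmin₀, F₀, hF₀card, hF₀mem⟩ :=
    Helper60_Asch_PK13.PK13a z (card_inf_scalars_dvd_card N)
  have hscal : ∀ g ∈ N, ∀ c : F, (g : Matrix (Fin n) (Fin n) F) = c • (1 : Matrix (Fin n) (Fin n) F) →
      c ^ z = 1 := fun g hg c hc => scalar_pow_card hg hc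
  have he : 0 < e := by
    rcases Nat.eq_zero_or_pos e with h0 | h0
    · subst h0
      have : 1 < Fintype.card F := Fintype.one_lt_card
      rw [hcardF] at this
      simp at this
    · exact h0
  have hle : e₀ ≤ e := Nat.le_of_dvd he hdvd
  rcases Nat.lt_or_ge e₀ e with hlt | hge
  · -- descent to a proper subfield
    apply subfield_subcase n hn H N hnorm hspan hcomm F₀
    · intro htop
      have h1 : Nat.card F₀ = Nat.card F := by
        rw [htop]
        exact Nat.card_congr (Subfield.topEquiv (K := F)).toEquiv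
      rw [hF₀card, Nat.card_eq_fintype_card, hcardF] at h1
      have := Nat.pow_right_injective hp.two_le h1
      omega
    · intro g hg c hc
      exact hF₀mem c (hscal g hg c hc)
  · have hee : e₀ = e := le_antisymm hle hge
    subst hee
    have hmf : IsMinimalFieldFor z p e₀ F := ⟨hp, hchar, hcardF, hzd, hmin₀⟩
    rcases hexp with ⟨hr2, hexp⟩ | ⟨hr2, hexp⟩
    · -- r odd
      have hzr : z = r := by
        have h1 : z ∣ r := card_inf_scalars_dvd N r hexp
        rcases (Nat.dvd_prime hr).1 h1 with h | h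
        · exact absurd h hz1
        · exact h
      rcases Nat.even_or_odd e₀ with hev | hodd
      · obtain ⟨j, hj⟩ := hev
        have hj0 : 0 < j := by omega
        apply unitary_subcase n hn H N hnorm hspan hcomm p j hp hj0 (by rw [hcardF, hj]; ring_nf)
          r hexp
        have h1 : r ∣ p ^ e₀ - 1 := hzr ▸ hzd
        have h2 : ¬ r ∣ p ^ j - 1 := hzr ▸ hmin₀ j hj0 (by omega)
        have h3 : p ^ e₀ - 1 = (p ^ j - 1) * (p ^ j + 1) := by
          have h4 : 1 ≤ p ^ j := Nat.one_le_pow _ _ hp.pos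
          rw [hj, pow_add]
          zify [h4, Nat.one_le_iff_ne_zero.2 (mul_ne_zero (by positivity : p ^ j ≠ 0) (by positivity : p ^ j ≠ 0))]
          ring
        rw [h3] at h1
        exact (hr.dvd_mul.1 h1).resolve_left h2
      · have hdata := Helper50_Asch_PKN2.PKN2 n hn H N hnorm hmin hspan hcomm r hr hpg p e₀ hmf
          (Or.inl ⟨hr2, hexp, hodd⟩)
        exact ⟨subgroupNormalizer N,
          Or.inr (Or.inr (Or.inr (Or.inr (Or.inr (Or.inr (Or.inr (Or.inl ⟨r, N, hdata, rfl⟩))))))),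
          le_subgroupNormalizer hnorm⟩
    · -- r = 2
      subst hr2
      have hz4 : z ∣ 4 := card_inf_scalars_dvd N 4 hexp
      have hz24 : z = 2 ∨ z = 4 := by
        have h1 : z ∈ Nat.divisors 4 := Nat.mem_divisors.2 ⟨hz4, by norm_num⟩
        have h2 : Nat.divisors 4 = {1, 2, 4} := by decide
        rw [h2] at h1
        simp only [Finset.mem_insert, Finset.mem_singleton] at h1
        rcases h1 with h | h | h
        · exact absurd h hz1
        · exact Or.inl h
        · exact Or.inr h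
      have hp2 : p ≠ 2 := by
        apply prime_ne_two_of_even_dvd he hzd _ hp
        rcases hz24 with h | h
        · exact ⟨1, by rw [h]⟩
        · exact ⟨2, by rw [h]⟩
      haveI : CharP F p := hchar
      have h2F : (2 : F) ≠ 0 := two_ne_zero_of_odd_prime hp hp2
      have hpodd : Odd p := hp.odd_of_ne_two hp2
      rcases hz24 with h2 | h4
      · apply pm_one_subcase n hn H N hnorm hspan hcomm h2F (by rw [hcardF]; exact hpodd.pow)
        intro g hg c hc
        have := hscal g hg c hc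
        rw [h2, pow_two] at this
        exact this
      · by_cases he1 : e₀ = 1
        · have hdata := Helper50_Asch_PKN2.PKN2 n hn H N hnorm hmin hspan hcomm 2 hr hpg p e₀ hmf
            (Or.inr ⟨rfl, hexp, h4, he1⟩)
          exact ⟨subgroupNormalizer N,
            Or.inr (Or.inr (Or.inr (Or.inr (Or.inr (Or.inr (Or.inr (Or.inl ⟨2, N, hdata, rfl⟩))))))),
            le_subgroupNormalizer hnorm⟩
        · have he2 : 2 ≤ e₀ := by omega
          have h41 : ¬ 4 ∣ p ^ 1 - 1 := h4 ▸ hmin₀ 1 (by norm_num) (by omega)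
          rw [pow_one] at h41
          have hp1 : 1 ≤ p := hp.pos
          have hpmod : p % 4 = 3 := by
            obtain ⟨m, hm⟩ := hpodd
            omega
          have h42 : 4 ∣ p ^ 2 - 1 := by
            have h5 : p ^ 2 % 4 = 1 := by
              rw [pow_two, Nat.mul_mod, hpmod]
            have h6 : 1 ≤ p ^ 2 := Nat.one_le_pow _ _ hp.pos
            omega
          have he22 : e₀ = 2 := by
            by_contra hne
            exact (h4 ▸ hmin₀ 2 (by norm_num) (by omega)) h42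
          apply unitary_subcase n hn H N hnorm hspan hcomm p 1 hp (by norm_num)
            (by rw [hcardF, he22]) 4 hexp
          rw [pow_one]
          omega



lemma normalizesGrp_commutator {H N : Subgroup (GL ι F)} (hnorm : NormalizesGrp H N) :
    NormalizesGrp H ⁅N, N⁆ := by
  intro h hh x hx
  have h1 : (⁅N, N⁆).map (MulAut.conj h).toMonoidHom ≤ ⁅N, N⁆ := by
    rw [Subgroup.map_commutator]
    have h2 : N.map (MulAut.conj h).toMonoidHom ≤ N := by
      rintro _ ⟨y, hy, rfl⟩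
      exact hnorm h hh y hy
    exact Subgroup.commutator_mono h2 h2
  exact h1 ⟨x, hx, rfl⟩

/-- an irreducible group in dimension at least 2 is not scalar -/
lemma not_le_scalars_of_irr (n : ℕ) (hn : 2 ≤ n) (H : Subgroup (GL (Fin n) F))
    (hirr : ActsIrreducibly (matrixSet H)) : ¬ H ≤ scalars (Fin n) F := by
  intro hle
  set v : Fin n → F := Pi.single ⟨0, by omega⟩ 1 with hv
  have hv0 : v ≠ 0 := by
    intro h
    have := congrFun h ⟨0, by omega⟩
    simp [hv] at this
  rcases hirr (Submodule.span F {v}) (by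
    rintro s ⟨g, hg, rfl⟩
    obtain ⟨c, hc⟩ := (mem_scalars_iff g).1 (hle hg)
    rintro _ ⟨w, hw, rfl⟩
    rw [Matrix.toLin'_apply]
    change (g : Matrix (Fin n) (Fin n) F) *ᵥ w ∈ _
    rw [hc, Matrix.smul_mulVec, Matrix.one_mulVec]
    exact Submodule.smul_mem _ _ hw) with h0 | h1
  · apply hv0
    have : v ∈ Submodule.span F {v} := Submodule.mem_span_singleton_self v
    rw [h0] at this
    exact (Submodule.mem_bot F).1 this
  · have h2 : Module.finrank F (Submodule.span F {v}) = 1 := finrank_span_singleton hv0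
    rw [h1, finrank_top, Module.finrank_fintype_fun_eq_card, Fintype.card_fin] at h2
    omega

/-- **Aschbacher's theorem for subgroups of `GL_n(F)`, `F` finite, `n ≥ 3`.** -/
theorem main [Fintype F] (n : ℕ) (hn : 3 ≤ n) (H : Subgroup (GL (Fin n) F)) :
    InClass n H ∨ InLinearResidualClass H := by
  by_cases hcl : InClass n H
  · exact Or.inl hcl
  have hirr : ActsIrreducibly (matrixSet H) := by
    by_contra h
    exact hcl (inClass_of_reducible n H h)
  have hdich := dichotomy n hn H hirr hcl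
  have hHZ := not_le_scalars_of_irr n (by omega) H hirr
  obtain ⟨N, hNH, hnorm, hNZ, hmin⟩ := Helper29_Asch_PKG0.PKG0 H hHZ
  have hspan : spanAlg N = ⊤ := (hdich N hnorm).resolve_left hNZ
  have hcle : ⁅N, N⁆ ≤ N := by
    rw [Subgroup.commutator_le]
    intro x hx y hy
    rw [commutatorElement_def]
    exact N.mul_mem (N.mul_mem (N.mul_mem hx hy) (N.inv_mem hx)) (N.inv_mem hy)
  rcases hmin ⁅N, N⁆ hcle (normalizesGrp_commutator hnorm) with hperf | hcomm
  · obtain ⟨k, S, hk, hSN, hSnorm, hSZ, hScomm, hsup, hperm, htrans, hSmin⟩ :=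
      Helper29_Asch_PKP1.PKP1 H N hNH hnorm hNZ hmin hperf
    by_cases hk2 : 2 ≤ k
    · exact Or.inl (Helper54_Asch_PKP2.PKP2 n hn H N hspan k hk2 S hSN hSnorm hSZ hScomm hsup hperm htrans)
    · have hk1 : k = 1 := by omega
      subst hk1
      have hS0 : S 0 = N := by
        rw [← hsup]
        apply le_antisymm
        · exact le_iSup S 0
        · apply iSup_le
          intro i
          rw [Subsingleton.elim i 0]
      have := hSmin 0
      rw [hS0] at this
      exact Helper3_Asch_PKP3.PKP3 n hn H N hNH hnorm hNZ hperf hspan this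
  · exact Or.inl (nilpotent_case n hn H N hnorm hNZ hmin hspan hcomm)

end Cfsg.Agent.Lib.Helper98_AschMain
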