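import Mathlib
import Cfsg.Agent.Lib.Helper98_AschDefs
import Cfsg.Agent.Lib.Helper98_AschCliff
import Cfsg.Agent.Lib.Helper23_FormDefs

/-!
# FORM package F2a (helper23's form packages for S5662 / S5663; proved by helper98)

The isotypic components of an adjoint-closed normalized subalgebra are paired by a non-degenerate reflexive
sesquilinear form: every component pairs non-trivially with exactly one component.
-/

set_option autoImplicit false
set_option linter.unusedSectionVars false
set_option linter.unusedVariables false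
set_option linter.style.haveILetI false

namespace Cfsg.Agent.Lib.Helper98_Form_F2a

open Module Cfsg.Agent.Lib.Helper23_FormDefs

variable {F : Type*} [Field F] {V : Type*} [AddCommGroup V] [Module F V]

section basic
variable {σ : F ≃+* F} {B : V → V → F} (hB : IsSesq σ B)
include hB

lemma zero_left (v : V) : B 0 v = 0 := by
  have h := hB.smul_left 0 0 v
  simpa using h

lemma zero_right (u : V) : B u 0 = 0 := by
  have h := hB.smul_right 0 u 0
  simpa using h

lemma neg_right (u v : V) : B u (-v) = - B u v := by
  have h := hB.add_right u v (-v)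
  rw [add_neg_cancel, zero_right hB] at h
  exact eq_neg_of_add_eq_zero_right h.symm

lemma sub_right (u x y : V) : B u (x - y) = B u x - B u y := by
  rw [sub_eq_add_neg, hB.add_right, neg_right hB, sub_eq_add_neg]

lemma neg_left (u v : V) : B (-u) v = - B u v := by
  have h := hB.add_left u (-u) v
  rw [add_neg_cancel, zero_left hB] at h
  exact eq_neg_of_add_eq_zero_right h.symm

lemma sub_left (x y v : V) : B (x - y) v = B x v - B y v := by
  rw [sub_eq_add_neg, hB.add_left, neg_left hB, sub_eq_add_neg]

/-- `B · v` as a linear functional -/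
def BL (v : V) : V →ₗ[F] F where
  toFun u := B u v
  map_add' x y := hB.add_left x y v
  map_smul' c x := by simpa using hB.smul_left c x v

@[simp] lemma BL_apply (u v : V) : BL hB v u = B u v := rfl

/-- `B u ·` as an additive map -/
def BR (u : V) : V →+ F where
  toFun v := B u v
  map_zero' := zero_right hB u
  map_add' x y := hB.add_right u x y

@[simp] lemma BR_apply (u v : V) : BR hB u v = B u v := rfl

lemma sum_right {ι : Type*} (s : Finset ι) (u : V) (c : ι → F) (w : ι → V) :
    B u (∑ i ∈ s, c i • w i) = ∑ i ∈ s, σ (c i) * B u (w i) := by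
  have h := map_sum (BR hB u) (fun i => c i • w i) s
  simp only [BR_apply] at h
  rw [h]
  exact Finset.sum_congr rfl fun i _ => hB.smul_right _ _ _

end basic


/-- an injective additive semilinear map between spaces of the same finite dimension is onto -/
theorem semilin_surjective {M M₂ : Type*} [AddCommGroup M] [Module F M] [FiniteDimensional F M]
    [AddCommGroup M₂] [Module F M₂] [FiniteDimensional F M₂] (τ : F ≃+* F) (f : M →+ M₂)
    (hs : ∀ (k : F) (x : M), f (k • x) = τ k • f x) (hinj : Function.Injective f)
    (hdim : finrank F M = finrank F M₂) : Function.Surjective f := by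
  classical
  set n := finrank F M with hn
  let b : Basis (Fin n) F M := Module.finBasis F M
  have hsum : ∀ g : Fin n → F, f (∑ i, g i • b i) = ∑ i, τ (g i) • f (b i) := by
    intro g
    rw [map_sum]
    exact Finset.sum_congr rfl fun i _ => hs _ _
  have hli : LinearIndependent F (fun i => f (b i)) := by
    rw [Fintype.linearIndependent_iff]
    intro g hg i
    have h1 : f (∑ i, τ.symm (g i) • b i) = 0 := by
      rw [hsum]
      simpa using hg
    have h2 : ∑ i, τ.symm (g i) • b i = 0 := by
      apply hinj
      rw [h1, map_zero]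
    have h3 := (Fintype.linearIndependent_iff.1 b.linearIndependent) _ h2 i
    simpa using h3
  have hspan : Submodule.span F (Set.range fun i => f (b i)) = ⊤ := by
    apply hli.span_eq_top_of_card_eq_finrank'
    rw [Fintype.card_fin, ← hdim]
  intro y
  have hy : y ∈ Submodule.span F (Set.range fun i => f (b i)) := by
    rw [hspan]
    trivial
  obtain ⟨c, hc⟩ := (Submodule.mem_span_range_iff_exists_fun F).1 hy
  refine ⟨∑ i, τ.symm (c i) • b i, ?_⟩
  rw [hsum, ← hc]
  simp

section nondeg
variable [FiniteDimensional F V] {σ : F ≃+* F} {B : V → V → F} (hB : IsSesq σ B) (hnd : IsNondeg B)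
include hB hnd

lemma eq_of_right (x y : V) (h : ∀ u, B u x = B u y) : x = y := by
  by_contra hne
  have h1 : x - y ≠ 0 := sub_ne_zero.2 hne
  obtain ⟨u, hu⟩ := (hnd _ h1).1
  apply hu
  rw [sub_right hB, h u, sub_self]

lemma eq_of_left (x y : V) (h : ∀ v, B x v = B y v) : x = y := by
  by_contra hne
  have h1 : x - y ≠ 0 := sub_ne_zero.2 hne
  obtain ⟨v, hv⟩ := (hnd _ h1).2
  apply hv
  rw [sub_left hB, h v, sub_self]

/-- every linear functional is `B · w` -/
theorem repr_right (l : V →ₗ[F] F) : ∃ w : V, ∀ v, l v = B v w := by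
  let f : V →+ (V →ₗ[F] F) :=
    { toFun := fun w => BL hB w
      map_zero' := by
        ext u
        simp [zero_right hB]
      map_add' := fun x y => by
        ext u
        simp [hB.add_right] }
  have hs : ∀ (k : F) (x : V), f (k • x) = σ k • f x := by
    intro k x
    ext u
    change B u (k • x) = σ k • B u x
    rw [hB.smul_right, smul_eq_mul]
  have hinj : Function.Injective f := by
    intro x y hxy
    apply eq_of_right hB hnd
    intro u
    have := congrArg (fun l : V →ₗ[F] F => l u) hxy
    exact this
  have hdim : finrank F V = finrank F (V →ₗ[F] F) := (Subspace.dual_finrank_eq (K := F) (V := V)).symm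
  obtain ⟨w, hw⟩ := semilin_surjective σ f hs hinj hdim l
  refine ⟨w, fun v => ?_⟩
  rw [← hw]
  rfl

/-- if no non-zero vector of `X` is orthogonal to `Y` then `dim X ≤ dim Y` -/
theorem finrank_le_of_perp (X Y : Submodule F V)
    (h : ∀ x ∈ X, (∀ y ∈ Y, B x y = 0) → x = 0) : finrank F X ≤ finrank F Y := by
  classical
  set k := finrank F Y with hk
  let b : Basis (Fin k) F Y := Module.finBasis F Y
  let L : X →ₗ[F] (Fin k → F) :=
    { toFun := fun x j => B (x : V) (b j : V)
      map_add' := fun x y => by
        ext j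
        simp [hB.add_left]
      map_smul' := fun c x => by
        ext j
        simp [hB.smul_left] }
  have hinj : Function.Injective L := by
    rw [← LinearMap.ker_eq_bot, LinearMap.ker_eq_bot']
    intro x hx
    apply Subtype.ext
    apply h x x.2
    intro y hy
    have h1 : (⟨y, hy⟩ : Y) = ∑ j, b.repr ⟨y, hy⟩ j • b j := (b.sum_repr _).symm
    have h2 : y = ∑ j, b.repr ⟨y, hy⟩ j • (b j : V) := by
      have h3 := congrArg (fun z : Y => (z : V)) h1
      simp only [Submodule.coe_sum, Submodule.coe_smul] at h3
      exact h3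
    rw [h2, sum_right hB]
    apply Finset.sum_eq_zero
    intro j _
    have h3 : L x j = 0 := by rw [hx]; rfl
    change B (x : V) (b j : V) = 0 at h3
    rw [h3, mul_zero]
  have := LinearMap.finrank_le_finrank_of_injective hinj
  simpa using this

end nondeg


section adj
variable [FiniteDimensional F V] {σ : F ≃+* F} {B : V → V → F} (hB : IsSesq σ B) (hnd : IsNondeg B)
variable {A : Subalgebra F (Module.End F V)}
  (hadj : ∀ a ∈ A, ∃ a' ∈ A, ∀ u v, B (a u) v = B u (a' v))
include hB hnd hadj

/-- left adjoints: the adjoint map of `A` is onto -/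
theorem exists_left_adjoint (a : Module.End F V) (ha : a ∈ A) :
    ∃ a₁ ∈ A, ∀ u v, B (a₁ u) v = B u (a v) := by
  classical
  choose adj hadjA hadjS using fun x : A => hadj x.1 x.2
  let adjA : A → A := fun x => ⟨adj x, hadjA x⟩
  have hspec : ∀ (x : A) (u v : V), B ((x : Module.End F V) u) v = B u ((adjA x : Module.End F V) v) :=
    fun x u v => hadjS x u v
  have hadd : ∀ x y : A, adjA (x + y) = adjA x + adjA y := by
    intro x y
    apply Subtype.ext
    apply LinearMap.ext
    intro v
    apply eq_of_right hB hnd
    intro u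
    rw [← hspec]
    simp only [Subalgebra.coe_add, LinearMap.add_apply, hB.add_left, hB.add_right]
    rw [hspec x, hspec y]
  have hzero : adjA 0 = 0 := by
    have := hadd 0 0
    rw [add_zero] at this
    exact left_eq_add.mp this
  let f : A →+ A := { toFun := adjA, map_zero' := hzero, map_add' := hadd }
  have hs : ∀ (k : F) (x : A), f (k • x) = σ.symm k • f x := by
    intro k x
    apply Subtype.ext
    apply LinearMap.ext
    intro v
    apply eq_of_right hB hnd
    intro u
    change B u ((adjA (k • x) : Module.End F V) v) = B u (((σ.symm k • adjA x : A) : Module.End F V) v)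
    rw [← hspec]
    simp only [Subalgebra.coe_smul, LinearMap.smul_apply, hB.smul_left, hB.smul_right,
      RingEquiv.apply_symm_apply]
    rw [hspec x]
  have hinj : Function.Injective f := by
    intro x y hxy
    apply Subtype.ext
    apply LinearMap.ext
    intro u
    apply eq_of_left hB hnd
    intro v
    rw [hspec x, hspec y]
    have : adjA x = adjA y := hxy
    rw [this]
  obtain ⟨a₁, ha₁⟩ := semilin_surjective σ.symm f hs hinj rfl ⟨a, ha⟩
  refine ⟨a₁.1, a₁.2, fun u v => ?_⟩
  rw [hspec a₁]
  have : adjA a₁ = ⟨a, ha⟩ := ha₁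
  rw [this]

/-- the adjoint of an `A`-linear endomorphism is `A`-linear -/
theorem exists_adjoint_end (φ : Module.End A V) :
    ∃ ψ : Module.End A V, ∀ u v, B (φ u) v = B u (ψ v) := by
  classical
  have hex : ∀ v : V, ∃ w : V, ∀ u, B (φ u) v = B u w := by
    intro v
    obtain ⟨w, hw⟩ := repr_right hB hnd ((BL hB v).comp (φ.restrictScalars F))
    exact ⟨w, fun u => hw u⟩
  choose ψ hψ using hex
  refine ⟨{ toFun := ψ, map_add' := ?_, map_smul' := ?_ }, fun u v => hψ v u⟩
  · intro x y
    apply eq_of_right hB hnd
    intro u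
    rw [← hψ, hB.add_right, hB.add_right, hψ, hψ]
  · intro a v
    apply eq_of_right hB hnd
    intro u
    obtain ⟨a₁, ha₁, h1⟩ := exists_left_adjoint hB hnd hadj a.1 a.2
    have h2 : ∀ x : V, φ (a₁ x) = a₁ (φ x) := fun x => φ.map_smul ⟨a₁, ha₁⟩ x
    rw [← hψ]
    change B (φ u) ((a : Module.End F V) v) = B u ((a : Module.End F V) (ψ v))
    rw [← h1, ← h2, hψ, h1]

end adj

section perp
variable {σ : F ≃+* F} {B : V → V → F} (hB : IsSesq σ B) (hrefl : IsRefl B)
variable {A : Subalgebra F (Module.End F V)}
  (hadj : ∀ a ∈ A, ∃ a' ∈ A, ∀ u v, B (a u) v = B u (a' v))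

/-- the orthogonal of an `A`-submodule, as an `A`-submodule -/
def perp (W : Submodule A V) : Submodule A V where
  carrier := {v | ∀ u ∈ W, B u v = 0}
  add_mem' := by
    intro x y hx hy u hu
    rw [hB.add_right, hx u hu, hy u hu, add_zero]
  zero_mem' := fun u _ => zero_right hB u
  smul_mem' := by
    intro a v hv u hu
    obtain ⟨a', ha', h⟩ := hadj a.1 a.2
    apply hrefl
    change B ((a : Module.End F V) v) u = 0
    rw [h]
    apply hrefl
    exact hv _ (W.smul_mem ⟨a', ha'⟩ hu)

lemma mem_perp {W : Submodule A V} {v : V} : v ∈ perp hB hrefl hadj W ↔ ∀ u ∈ W, B u v = 0 := Iff.rfl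

lemma mem_perp' {W : Submodule A V} {v : V} : v ∈ perp hB hrefl hadj W ↔ ∀ u ∈ W, B v u = 0 :=
  ⟨fun h u hu => hrefl _ _ (h u hu), fun h u hu => hrefl _ _ (h u hu)⟩

theorem perp_fullyInvariant [FiniteDimensional F V] (hnd : IsNondeg B) {W : Submodule A V}
    (hW : W.IsFullyInvariant) : (perp hB hrefl hadj W).IsFullyInvariant := by
  intro φ v hv
  rw [Submodule.mem_comap, mem_perp']
  intro u hu
  obtain ⟨ψ, hψ⟩ := exists_adjoint_end hB hnd hadj φ
  rw [hψ]
  exact (mem_perp' hB hrefl hadj).1 hv _ (hW ψ hu)

end perp


section main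
variable [FiniteDimensional F V] {σ : F ≃+* F} {B : V → V → F} (hB : IsSesq σ B) (hnd : IsNondeg B)
  (hrefl : IsRefl B)
variable {A : Subalgebra F (Module.End F V)} [IsSemisimpleModule A V]
  (hadj : ∀ a ∈ A, ∃ a' ∈ A, ∀ u v, B (a u) v = B u (a' v))
include hB hnd hrefl hadj

/-- two components pair trivially iff one lies in the orthogonal of the other -/
lemma pairs_iff (d e : Submodule A V) :
    (∃ u ∈ d, ∃ v ∈ e, B u v ≠ 0) ↔ ¬ e ≤ perp hB hrefl hadj d := by
  constructor
  · rintro ⟨u, hu, v, hv, huv⟩ hle
    exact huv (hle hv u hu)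
  · intro h
    by_contra hcon
    apply h
    intro v hv u hu
    by_contra h0
    exact hcon ⟨u, hu, v, hv, h0⟩

/-- a component lies in the orthogonal of a component or is disjoint from it -/
lemma le_or_disjoint {d e : Submodule A V} (hd : d ∈ isotypicComponents A V)
    (he : e ∈ isotypicComponents A V) :
    e ≤ perp hB hrefl hadj d ∨
      ∃ s ⊆ isotypicComponents A V, perp hB hrefl hadj d = sSup s ∧ e ∉ s := by
  obtain ⟨s, hs, hps⟩ := isFullyInvariant_iff_sSup_isotypicComponents.1
    (perp_fullyInvariant hB hrefl hadj hnd (Submodule.IsFullyInvariant.of_mem_isotypicComponents hd))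
  by_cases hes : e ∈ s
  · left
    rw [hps]
    exact le_sSup hes
  · right
    exact ⟨s, hs, hps, hes⟩

theorem pairing_exists_unique (c : Submodule A V) (hc : c ∈ isotypicComponents A V) :
    ∃ c' : Submodule A V, c' ∈ isotypicComponents A V ∧ (∃ u ∈ c, ∃ v ∈ c', B u v ≠ 0) ∧
      ∀ c'' : Submodule A V, c'' ∈ isotypicComponents A V → (∃ u ∈ c, ∃ v ∈ c'', B u v ≠ 0) →
        c'' = c' := by
  classical
  have hind := sSupIndep_isotypicComponents A V
  obtain ⟨s, hs, hps⟩ := isFullyInvariant_iff_sSup_isotypicComponents.1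
    (perp_fullyInvariant hB hrefl hadj hnd (Submodule.IsFullyInvariant.of_mem_isotypicComponents hc))
  have hc0 : c ≠ ⊥ := (bot_lt_isotypicComponents hc).ne'
  -- existence
  have hex : ∃ c' ∈ isotypicComponents A V, c' ∉ s := by
    by_contra hcon
    simp only [not_exists, not_and, not_not] at hcon
    have h1 : s = isotypicComponents A V := Set.Subset.antisymm hs hcon
    have h2 : perp hB hrefl hadj c = ⊤ := by
      rw [hps, h1, sSup_isotypicComponents]
    apply hc0
    rw [Submodule.eq_bot_iff]
    intro x hx
    by_contra hx0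
    obtain ⟨v, hv⟩ := (hnd x hx0).2
    have h3 : v ∈ perp hB hrefl hadj c := by
      rw [h2]
      trivial
    exact hv (h3 x hx)
  obtain ⟨c', hc', hc's⟩ := hex
  have hne : ∀ e ∈ isotypicComponents A V, e ∉ s → ¬ e ≤ perp hB hrefl hadj c := by
    intro e he hes hle
    have h1 : Disjoint e (sSup s) := hind.disjoint_sSup he hs hes
    rw [hps] at hle
    exact (bot_lt_isotypicComponents he).ne' (h1.eq_bot_of_le hle)
  refine ⟨c', hc', (pairs_iff hB hnd hrefl hadj c c').2 (hne c' hc' hc's), ?_⟩
  intro c'' hc'' hpair
  by_contra hcc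
  have hc''s : c'' ∉ s := by
    intro hmem
    apply (pairs_iff hB hnd hrefl hadj c c'').1 hpair
    rw [hps]
    exact le_sSup hmem
  -- dim c ≤ dim c'
  have hα : finrank F (c.restrictScalars F) ≤ finrank F (c'.restrictScalars F) := by
    apply finrank_le_of_perp hB hnd
    intro x hx hxy
    rcases le_or_disjoint hB hnd hrefl hadj hc' hc with hle | ⟨s', hs', hps', hcs'⟩
    · exfalso
      apply hne c' hc' hc's
      intro v hv u hu
      exact hrefl _ _ (hle hu v hv)
    · have h1 : Disjoint c (sSup s') := hind.disjoint_sSup hc hs' hcs'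
      have h2 : x ∈ perp hB hrefl hadj c' := (mem_perp' hB hrefl hadj).2 hxy
      rw [hps'] at h2
      have h3 := Submodule.disjoint_def.1 h1 x hx h2
      exact h3
  -- dim (c' + c'') ≤ dim c
  have hdisj : Disjoint (c' ⊔ c'') (sSup s) := by
    apply Disjoint.disjoint_sup_left_of_disjoint_sup_right
    · exact hind.disjoint_sSup hc'' hs hc''s
    · rw [← sSup_insert]
      apply hind.disjoint_sSup hc'
      · exact Set.insert_subset hc'' hs
      · intro hmem
        rcases Set.mem_insert_iff.1 hmem with h | h
        · exact hcc h.symm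
        · exact hc's h
  have hβ : finrank F ((c' ⊔ c'').restrictScalars F) ≤ finrank F (c.restrictScalars F) := by
    apply finrank_le_of_perp hB hnd
    intro x hx hxy
    have h2 : x ∈ perp hB hrefl hadj c := (mem_perp' hB hrefl hadj).2 hxy
    rw [hps] at h2
    exact Submodule.disjoint_def.1 hdisj x hx h2
  have hd2 : Disjoint (c'.restrictScalars F) (c''.restrictScalars F) := by
    rw [Submodule.disjoint_restrictScalars_iff]
    have := hind.pairwiseDisjoint hc' hc'' (fun h => hcc h.symm)
    exact this
  have hsum : finrank F ((c' ⊔ c'').restrictScalars F) =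
      finrank F (c'.restrictScalars F) + finrank F (c''.restrictScalars F) := by
    rw [Submodule.restrictScalars_sup]
    have h1 := Submodule.finrank_sup_add_finrank_inf_eq (c'.restrictScalars F) (c''.restrictScalars F)
    rw [hd2.eq_bot, finrank_bot, add_zero] at h1
    exact h1
  have h0 : finrank F (c''.restrictScalars F) = 0 := by omega
  have h1 : c''.restrictScalars F = ⊥ := Submodule.finrank_eq_zero.1 h0
  have h2 : c'' = ⊥ := by
    rw [← Submodule.restrictScalars_eq_bot_iff (S := F)]
    exact h1
  exact (bot_lt_isotypicComponents hc'').ne' h2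

end main

open Cfsg.Agent.Lib.Helper98_AschCliffB in
/-- F2a: the isotypic components of an adjoint-closed normalized subalgebra are paired by the form -/
theorem F2a {V : Type*} [AddCommGroup V] [Module F V] [FiniteDimensional F V] [Nontrivial V]
    {H : Subgroup (V ≃ₗ[F] V)} {A : Subalgebra F (Module.End F V)}
    (S : Cfsg.Agent.Lib.Helper98_AschCliffB.Setup H A)
    (σ : F ≃+* F) (B : V → V → F) (hB : IsSesq σ B) (hnd : IsNondeg B) (hrefl : IsRefl B)
    (hadj : ∀ a ∈ A, ∃ a' ∈ A, ∀ u v, B (a u) v = B u (a' v))
    (c : Submodule A V) (hc : c ∈ isotypicComponents A V) :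
    ∃ c' : Submodule A V, c' ∈ isotypicComponents A V ∧ (∃ u ∈ c, ∃ v ∈ c', B u v ≠ 0) ∧
      ∀ c'' : Submodule A V, c'' ∈ isotypicComponents A V → (∃ u ∈ c, ∃ v ∈ c'', B u v ≠ 0) → c'' = c' := by
  haveI := S.semisimple
  exact pairing_exists_unique hB hnd hrefl hadj c hc

end Cfsg.Agent.Lib.Helper98_Form_F2a
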